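import Cfsg.Agent.Lib.Helper28.S1689.Model

set_option autoImplicit false
set_option maxRecDepth 100000
set_option linter.all false

namespace Cfsg.Agent.Helper28.S1689

open Cfsg.Agent.Helper28
open Cfsg.Spor.Fi23 (Gen)

noncomputable section

abbrev cl_at : Gen × Bool := (Gen.a, true)
abbrev cl_af : Gen × Bool := (Gen.a, false)
abbrev cl_bt : Gen × Bool := (Gen.b, true)
abbrev cl_bf : Gen × Bool := (Gen.b, false)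
abbrev cl_ct : Gen × Bool := (Gen.c, true)
abbrev cl_cf : Gen × Bool := (Gen.c, false)
abbrev cl_dt : Gen × Bool := (Gen.d, true)
abbrev cl_df : Gen × Bool := (Gen.d, false)
abbrev cl_et : Gen × Bool := (Gen.e, true)
abbrev cl_ef : Gen × Bool := (Gen.e, false)
abbrev cl_ft : Gen × Bool := (Gen.f, true)
abbrev cl_ff : Gen × Bool := (Gen.f, false)
abbrev cl_gt : Gen × Bool := (Gen.g, true)
abbrev cl_gf : Gen × Bool := (Gen.g, false)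
abbrev cl_jt : Gen × Bool := (Gen.j, true)
abbrev cl_jf : Gen × Bool := (Gen.j, false)
abbrev cl_ht : Gen × Bool := (Gen.h, true)
abbrev cl_hf : Gen × Bool := (Gen.h, false)
abbrev cl_it : Gen × Bool := (Gen.i, true)
abbrev cl_if : Gen × Bool := (Gen.i, false)
theorem relmem_0 : FreeGroup.mk relW_0 ∈ rels :=
  Or.inl ⟨Gen.a, by decide, Gen.a, by decide, rfl⟩
theorem relone_0 : wG rels relW_0 = 1 := wG_one_of_mem rels _ relmem_0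
theorem relmem_1 : FreeGroup.mk relW_1 ∈ rels :=
  Or.inl ⟨Gen.a, by decide, Gen.b, by decide, rfl⟩
theorem relone_1 : wG rels relW_1 = 1 := wG_one_of_mem rels _ relmem_1
theorem relmem_2 : FreeGroup.mk relW_2 ∈ rels :=
  Or.inl ⟨Gen.a, by decide, Gen.c, by decide, rfl⟩
theorem relone_2 : wG rels relW_2 = 1 := wG_one_of_mem rels _ relmem_2
theorem relmem_3 : FreeGroup.mk relW_3 ∈ rels :=
  Or.inl ⟨Gen.a, by decide, Gen.d, by decide, rfl⟩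
theorem relone_3 : wG rels relW_3 = 1 := wG_one_of_mem rels _ relmem_3
theorem relmem_4 : FreeGroup.mk relW_4 ∈ rels :=
  Or.inl ⟨Gen.a, by decide, Gen.e, by decide, rfl⟩
theorem relone_4 : wG rels relW_4 = 1 := wG_one_of_mem rels _ relmem_4
theorem relmem_5 : FreeGroup.mk relW_5 ∈ rels :=
  Or.inl ⟨Gen.a, by decide, Gen.h, by decide, rfl⟩
theorem relone_5 : wG rels relW_5 = 1 := wG_one_of_mem rels _ relmem_5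
theorem relmem_6 : FreeGroup.mk relW_6 ∈ rels :=
  Or.inl ⟨Gen.a, by decide, Gen.f, by decide, rfl⟩
theorem relone_6 : wG rels relW_6 = 1 := wG_one_of_mem rels _ relmem_6
theorem relmem_7 : FreeGroup.mk relW_7 ∈ rels :=
  Or.inl ⟨Gen.a, by decide, Gen.g, by decide, rfl⟩
theorem relone_7 : wG rels relW_7 = 1 := wG_one_of_mem rels _ relmem_7
theorem relmem_8 : FreeGroup.mk relW_8 ∈ rels :=
  Or.inl ⟨Gen.a, by decide, Gen.j, by decide, rfl⟩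
theorem relone_8 : wG rels relW_8 = 1 := wG_one_of_mem rels _ relmem_8
theorem relmem_9 : FreeGroup.mk relW_9 ∈ rels :=
  Or.inl ⟨Gen.a, by decide, Gen.i, by decide, rfl⟩
theorem relone_9 : wG rels relW_9 = 1 := wG_one_of_mem rels _ relmem_9
theorem relmem_10 : FreeGroup.mk relW_10 ∈ rels :=
  Or.inl ⟨Gen.b, by decide, Gen.b, by decide, rfl⟩
theorem relone_10 : wG rels relW_10 = 1 := wG_one_of_mem rels _ relmem_10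
theorem relmem_11 : FreeGroup.mk relW_11 ∈ rels :=
  Or.inl ⟨Gen.b, by decide, Gen.c, by decide, rfl⟩
theorem relone_11 : wG rels relW_11 = 1 := wG_one_of_mem rels _ relmem_11
theorem relmem_12 : FreeGroup.mk relW_12 ∈ rels :=
  Or.inl ⟨Gen.b, by decide, Gen.d, by decide, rfl⟩
theorem relone_12 : wG rels relW_12 = 1 := wG_one_of_mem rels _ relmem_12
theorem relmem_13 : FreeGroup.mk relW_13 ∈ rels :=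
  Or.inl ⟨Gen.b, by decide, Gen.e, by decide, rfl⟩
theorem relone_13 : wG rels relW_13 = 1 := wG_one_of_mem rels _ relmem_13
theorem relmem_14 : FreeGroup.mk relW_14 ∈ rels :=
  Or.inl ⟨Gen.b, by decide, Gen.h, by decide, rfl⟩
theorem relone_14 : wG rels relW_14 = 1 := wG_one_of_mem rels _ relmem_14
theorem relmem_15 : FreeGroup.mk relW_15 ∈ rels :=
  Or.inl ⟨Gen.b, by decide, Gen.f, by decide, rfl⟩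
theorem relone_15 : wG rels relW_15 = 1 := wG_one_of_mem rels _ relmem_15
theorem relmem_16 : FreeGroup.mk relW_16 ∈ rels :=
  Or.inl ⟨Gen.b, by decide, Gen.g, by decide, rfl⟩
theorem relone_16 : wG rels relW_16 = 1 := wG_one_of_mem rels _ relmem_16
theorem relmem_17 : FreeGroup.mk relW_17 ∈ rels :=
  Or.inl ⟨Gen.b, by decide, Gen.j, by decide, rfl⟩
theorem relone_17 : wG rels relW_17 = 1 := wG_one_of_mem rels _ relmem_17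
theorem relmem_18 : FreeGroup.mk relW_18 ∈ rels :=
  Or.inl ⟨Gen.b, by decide, Gen.i, by decide, rfl⟩
theorem relone_18 : wG rels relW_18 = 1 := wG_one_of_mem rels _ relmem_18
theorem relmem_19 : FreeGroup.mk relW_19 ∈ rels :=
  Or.inl ⟨Gen.c, by decide, Gen.c, by decide, rfl⟩
theorem relone_19 : wG rels relW_19 = 1 := wG_one_of_mem rels _ relmem_19
theorem relmem_20 : FreeGroup.mk relW_20 ∈ rels :=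
  Or.inl ⟨Gen.c, by decide, Gen.d, by decide, rfl⟩
theorem relone_20 : wG rels relW_20 = 1 := wG_one_of_mem rels _ relmem_20
theorem relmem_21 : FreeGroup.mk relW_21 ∈ rels :=
  Or.inl ⟨Gen.c, by decide, Gen.e, by decide, rfl⟩
theorem relone_21 : wG rels relW_21 = 1 := wG_one_of_mem rels _ relmem_21
theorem relmem_22 : FreeGroup.mk relW_22 ∈ rels :=
  Or.inl ⟨Gen.c, by decide, Gen.h, by decide, rfl⟩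
theorem relone_22 : wG rels relW_22 = 1 := wG_one_of_mem rels _ relmem_22
theorem relmem_23 : FreeGroup.mk relW_23 ∈ rels :=
  Or.inl ⟨Gen.c, by decide, Gen.f, by decide, rfl⟩
theorem relone_23 : wG rels relW_23 = 1 := wG_one_of_mem rels _ relmem_23
theorem relmem_24 : FreeGroup.mk relW_24 ∈ rels :=
  Or.inl ⟨Gen.c, by decide, Gen.g, by decide, rfl⟩
theorem relone_24 : wG rels relW_24 = 1 := wG_one_of_mem rels _ relmem_24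
theorem relmem_25 : FreeGroup.mk relW_25 ∈ rels :=
  Or.inl ⟨Gen.c, by decide, Gen.j, by decide, rfl⟩
theorem relone_25 : wG rels relW_25 = 1 := wG_one_of_mem rels _ relmem_25
theorem relmem_26 : FreeGroup.mk relW_26 ∈ rels :=
  Or.inl ⟨Gen.c, by decide, Gen.i, by decide, rfl⟩
theorem relone_26 : wG rels relW_26 = 1 := wG_one_of_mem rels _ relmem_26
theorem relmem_27 : FreeGroup.mk relW_27 ∈ rels :=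
  Or.inl ⟨Gen.d, by decide, Gen.d, by decide, rfl⟩
theorem relone_27 : wG rels relW_27 = 1 := wG_one_of_mem rels _ relmem_27
theorem relmem_28 : FreeGroup.mk relW_28 ∈ rels :=
  Or.inl ⟨Gen.d, by decide, Gen.e, by decide, rfl⟩
theorem relone_28 : wG rels relW_28 = 1 := wG_one_of_mem rels _ relmem_28
theorem relmem_29 : FreeGroup.mk relW_29 ∈ rels :=
  Or.inl ⟨Gen.d, by decide, Gen.h, by decide, rfl⟩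
theorem relone_29 : wG rels relW_29 = 1 := wG_one_of_mem rels _ relmem_29
theorem relmem_30 : FreeGroup.mk relW_30 ∈ rels :=
  Or.inl ⟨Gen.d, by decide, Gen.f, by decide, rfl⟩
theorem relone_30 : wG rels relW_30 = 1 := wG_one_of_mem rels _ relmem_30
theorem relmem_31 : FreeGroup.mk relW_31 ∈ rels :=
  Or.inl ⟨Gen.d, by decide, Gen.g, by decide, rfl⟩
theorem relone_31 : wG rels relW_31 = 1 := wG_one_of_mem rels _ relmem_31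
theorem relmem_32 : FreeGroup.mk relW_32 ∈ rels :=
  Or.inl ⟨Gen.d, by decide, Gen.j, by decide, rfl⟩
theorem relone_32 : wG rels relW_32 = 1 := wG_one_of_mem rels _ relmem_32
theorem relmem_33 : FreeGroup.mk relW_33 ∈ rels :=
  Or.inl ⟨Gen.d, by decide, Gen.i, by decide, rfl⟩
theorem relone_33 : wG rels relW_33 = 1 := wG_one_of_mem rels _ relmem_33
theorem relmem_34 : FreeGroup.mk relW_34 ∈ rels :=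
  Or.inl ⟨Gen.e, by decide, Gen.e, by decide, rfl⟩
theorem relone_34 : wG rels relW_34 = 1 := wG_one_of_mem rels _ relmem_34
theorem relmem_35 : FreeGroup.mk relW_35 ∈ rels :=
  Or.inl ⟨Gen.e, by decide, Gen.h, by decide, rfl⟩
theorem relone_35 : wG rels relW_35 = 1 := wG_one_of_mem rels _ relmem_35
theorem relmem_36 : FreeGroup.mk relW_36 ∈ rels :=
  Or.inl ⟨Gen.e, by decide, Gen.f, by decide, rfl⟩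
theorem relone_36 : wG rels relW_36 = 1 := wG_one_of_mem rels _ relmem_36
theorem relmem_37 : FreeGroup.mk relW_37 ∈ rels :=
  Or.inl ⟨Gen.e, by decide, Gen.g, by decide, rfl⟩
theorem relone_37 : wG rels relW_37 = 1 := wG_one_of_mem rels _ relmem_37
theorem relmem_38 : FreeGroup.mk relW_38 ∈ rels :=
  Or.inl ⟨Gen.e, by decide, Gen.j, by decide, rfl⟩
theorem relone_38 : wG rels relW_38 = 1 := wG_one_of_mem rels _ relmem_38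
theorem relmem_39 : FreeGroup.mk relW_39 ∈ rels :=
  Or.inl ⟨Gen.e, by decide, Gen.i, by decide, rfl⟩
theorem relone_39 : wG rels relW_39 = 1 := wG_one_of_mem rels _ relmem_39
theorem relmem_40 : FreeGroup.mk relW_40 ∈ rels :=
  Or.inl ⟨Gen.h, by decide, Gen.h, by decide, rfl⟩
theorem relone_40 : wG rels relW_40 = 1 := wG_one_of_mem rels _ relmem_40
theorem relmem_41 : FreeGroup.mk relW_41 ∈ rels :=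
  Or.inl ⟨Gen.h, by decide, Gen.i, by decide, rfl⟩
theorem relone_41 : wG rels relW_41 = 1 := wG_one_of_mem rels _ relmem_41
theorem relmem_42 : FreeGroup.mk relW_42 ∈ rels :=
  Or.inl ⟨Gen.f, by decide, Gen.h, by decide, rfl⟩
theorem relone_42 : wG rels relW_42 = 1 := wG_one_of_mem rels _ relmem_42
theorem relmem_43 : FreeGroup.mk relW_43 ∈ rels :=
  Or.inl ⟨Gen.f, by decide, Gen.f, by decide, rfl⟩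
theorem relone_43 : wG rels relW_43 = 1 := wG_one_of_mem rels _ relmem_43
theorem relmem_44 : FreeGroup.mk relW_44 ∈ rels :=
  Or.inl ⟨Gen.f, by decide, Gen.g, by decide, rfl⟩
theorem relone_44 : wG rels relW_44 = 1 := wG_one_of_mem rels _ relmem_44
theorem relmem_45 : FreeGroup.mk relW_45 ∈ rels :=
  Or.inl ⟨Gen.f, by decide, Gen.j, by decide, rfl⟩
theorem relone_45 : wG rels relW_45 = 1 := wG_one_of_mem rels _ relmem_45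
theorem relmem_46 : FreeGroup.mk relW_46 ∈ rels :=
  Or.inl ⟨Gen.f, by decide, Gen.i, by decide, rfl⟩
theorem relone_46 : wG rels relW_46 = 1 := wG_one_of_mem rels _ relmem_46
theorem relmem_47 : FreeGroup.mk relW_47 ∈ rels :=
  Or.inl ⟨Gen.g, by decide, Gen.h, by decide, rfl⟩
theorem relone_47 : wG rels relW_47 = 1 := wG_one_of_mem rels _ relmem_47
theorem relmem_48 : FreeGroup.mk relW_48 ∈ rels :=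
  Or.inl ⟨Gen.g, by decide, Gen.g, by decide, rfl⟩
theorem relone_48 : wG rels relW_48 = 1 := wG_one_of_mem rels _ relmem_48
theorem relmem_49 : FreeGroup.mk relW_49 ∈ rels :=
  Or.inl ⟨Gen.g, by decide, Gen.j, by decide, rfl⟩
theorem relone_49 : wG rels relW_49 = 1 := wG_one_of_mem rels _ relmem_49
theorem relmem_50 : FreeGroup.mk relW_50 ∈ rels :=
  Or.inl ⟨Gen.g, by decide, Gen.i, by decide, rfl⟩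
theorem relone_50 : wG rels relW_50 = 1 := wG_one_of_mem rels _ relmem_50
theorem relmem_51 : FreeGroup.mk relW_51 ∈ rels :=
  Or.inl ⟨Gen.j, by decide, Gen.h, by decide, rfl⟩
theorem relone_51 : wG rels relW_51 = 1 := wG_one_of_mem rels _ relmem_51
theorem relmem_52 : FreeGroup.mk relW_52 ∈ rels :=
  Or.inl ⟨Gen.j, by decide, Gen.j, by decide, rfl⟩
theorem relone_52 : wG rels relW_52 = 1 := wG_one_of_mem rels _ relmem_52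
theorem relmem_53 : FreeGroup.mk relW_53 ∈ rels :=
  Or.inl ⟨Gen.j, by decide, Gen.i, by decide, rfl⟩
theorem relone_53 : wG rels relW_53 = 1 := wG_one_of_mem rels _ relmem_53
theorem relmem_54 : FreeGroup.mk relW_54 ∈ rels :=
  Or.inl ⟨Gen.i, by decide, Gen.i, by decide, rfl⟩
theorem relone_54 : wG rels relW_54 = 1 := wG_one_of_mem rels _ relmem_54
theorem relmem_55 : FreeGroup.mk relW_55 ∈ rels :=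
  Or.inr (show FreeGroup.mk relW_55 ∈ Cfsg.Spor.Fi23.extra from List.Mem.head _)
theorem relone_55 : wG rels relW_55 = 1 := wG_one_of_mem rels _ relmem_55
theorem relmem_56 : FreeGroup.mk relW_56 ∈ rels :=
  Or.inr (show FreeGroup.mk relW_56 ∈ Cfsg.Spor.Fi23.extra from List.Mem.tail _ (List.Mem.head _))
theorem relone_56 : wG rels relW_56 = 1 := wG_one_of_mem rels _ relmem_56
theorem submem_0 : FreeGroup.mk subW_0 ∈ S := Set.mem_insert _ _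
theorem subH_0 : wG rels subW_0 ∈ subH rels S := wG_mem_of_mem rels S _ submem_0
theorem submem_1 : FreeGroup.mk subW_1 ∈ S := Set.mem_insert_of_mem _ (Set.mem_insert _ _)
theorem subH_1 : wG rels subW_1 ∈ subH rels S := wG_mem_of_mem rels S _ submem_1
theorem submem_2 : FreeGroup.mk subW_2 ∈ S := Set.mem_insert_of_mem _ (Set.mem_insert_of_mem _ (Set.mem_insert _ _))
theorem subH_2 : wG rels subW_2 ∈ subH rels S := wG_mem_of_mem rels S _ submem_2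
theorem submem_3 : FreeGroup.mk subW_3 ∈ S := Set.mem_insert_of_mem _ (Set.mem_insert_of_mem _ (Set.mem_insert_of_mem _ (Set.mem_insert _ _)))
theorem subH_3 : wG rels subW_3 ∈ subH rels S := wG_mem_of_mem rels S _ submem_3
theorem submem_4 : FreeGroup.mk subW_4 ∈ S := Set.mem_insert_of_mem _ (Set.mem_insert_of_mem _ (Set.mem_insert_of_mem _ (Set.mem_insert_of_mem _ (Set.mem_insert _ _))))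
theorem subH_4 : wG rels subW_4 ∈ subH rels S := wG_mem_of_mem rels S _ submem_4
theorem submem_5 : FreeGroup.mk subW_5 ∈ S := Set.mem_insert_of_mem _ (Set.mem_insert_of_mem _ (Set.mem_insert_of_mem _ (Set.mem_insert_of_mem _ (Set.mem_insert_of_mem _ (Set.mem_insert _ _)))))
theorem subH_5 : wG rels subW_5 ∈ subH rels S := wG_mem_of_mem rels S _ submem_5
theorem submem_6 : FreeGroup.mk subW_6 ∈ S := Set.mem_insert_of_mem _ (Set.mem_insert_of_mem _ (Set.mem_insert_of_mem _ (Set.mem_insert_of_mem _ (Set.mem_insert_of_mem _ (Set.mem_insert_of_mem _ (Set.mem_insert _ _))))))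
theorem subH_6 : wG rels subW_6 ∈ subH rels S := wG_mem_of_mem rels S _ submem_6
theorem submem_7 : FreeGroup.mk subW_7 ∈ S := Set.mem_insert_of_mem _ (Set.mem_insert_of_mem _ (Set.mem_insert_of_mem _ (Set.mem_insert_of_mem _ (Set.mem_insert_of_mem _ (Set.mem_insert_of_mem _ (Set.mem_insert_of_mem _ (Set.mem_insert _ _)))))))
theorem subH_7 : wG rels subW_7 ∈ subH rels S := wG_mem_of_mem rels S _ submem_7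
theorem submem_8 : FreeGroup.mk subW_8 ∈ S := Set.mem_insert_of_mem _ (Set.mem_insert_of_mem _ (Set.mem_insert_of_mem _ (Set.mem_insert_of_mem _ (Set.mem_insert_of_mem _ (Set.mem_insert_of_mem _ (Set.mem_insert_of_mem _ (Set.mem_insert_of_mem _ (Set.mem_singleton _))))))))
theorem subH_8 : wG rels subW_8 ∈ subH rels S := wG_mem_of_mem rels S _ submem_8
def rc_8_2 : Cert rels S Gen.a := Cert.rel true [cl_jt, cl_at, cl_jt]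
  (wG_of_rotate rels relW_8 [cl_at, cl_jt, cl_at, cl_jt] 2 (by decide +kernel) relone_8)
def rc_7_2 : Cert rels S Gen.a := Cert.rel true [cl_gt, cl_at, cl_gt]
  (wG_of_rotate rels relW_7 [cl_at, cl_gt, cl_at, cl_gt] 2 (by decide +kernel) relone_7)
def rc_6_2 : Cert rels S Gen.a := Cert.rel true [cl_ft, cl_at, cl_ft]
  (wG_of_rotate rels relW_6 [cl_at, cl_ft, cl_at, cl_ft] 2 (by decide +kernel) relone_6)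
def rc_4_2 : Cert rels S Gen.a := Cert.rel true [cl_et, cl_at, cl_et]
  (wG_of_rotate rels relW_4 [cl_at, cl_et, cl_at, cl_et] 2 (by decide +kernel) relone_4)
def rc_3_2 : Cert rels S Gen.a := Cert.rel true [cl_dt, cl_at, cl_dt]
  (wG_of_rotate rels relW_3 [cl_at, cl_dt, cl_at, cl_dt] 2 (by decide +kernel) relone_3)
def rc_2_2 : Cert rels S Gen.a := Cert.rel true [cl_ct, cl_at, cl_ct]
  (wG_of_rotate rels relW_2 [cl_at, cl_ct, cl_at, cl_ct] 2 (by decide +kernel) relone_2)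
def rc_5_2 : Cert rels S Gen.a := Cert.rel true [cl_ht, cl_at, cl_ht]
  (wG_of_rotate rels relW_5 [cl_at, cl_ht, cl_at, cl_ht] 2 (by decide +kernel) relone_5)
def rc_9_2 : Cert rels S Gen.a := Cert.rel true [cl_it, cl_at, cl_it]
  (wG_of_rotate rels relW_9 [cl_at, cl_it, cl_at, cl_it] 2 (by decide +kernel) relone_9)
def rc_0_0 : Cert rels S Gen.a := Cert.rel true [cl_at]
  (wG_of_rotate rels relW_0 [cl_at, cl_at] 0 (by decide +kernel) relone_0)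
def rc_1_2 : Cert rels S Gen.a := Cert.rel true [cl_bt, cl_at, cl_bt, cl_at, cl_bt]
  (wG_of_rotate rels relW_1 [cl_at, cl_bt, cl_at, cl_bt, cl_at, cl_bt] 2 (by decide +kernel) relone_1)
def rc_1_4 : Cert rels S Gen.a := Cert.rel true [cl_bt, cl_at, cl_bt, cl_at, cl_bt]
  (wG_of_rotate rels relW_1 [cl_at, cl_bt, cl_at, cl_bt, cl_at, cl_bt] 4 (by decide +kernel) relone_1)
def rc_56_56 : Cert rels S Gen.a := Cert.rel true [cl_bt, cl_ct, cl_dt, cl_et, cl_ft, cl_ht, cl_at, cl_bt, cl_ct, cl_dt, cl_et, cl_ft, cl_ht, cl_at, cl_bt, cl_ct, cl_dt, cl_et, cl_ft, cl_ht, cl_at, cl_bt, cl_ct, cl_dt, cl_et, cl_ft, cl_ht, cl_at, cl_bt, cl_ct, cl_dt, cl_et, cl_ft, cl_ht, cl_at, cl_bt, cl_ct, cl_dt, cl_et, cl_ft, cl_ht, cl_at, cl_bt, cl_ct, cl_dt, cl_et, cl_ft, cl_ht, cl_at, cl_bt, cl_ct, cl_dt,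 cl_et, cl_ft, cl_ht, cl_at, cl_bt, cl_ct, cl_dt, cl_et, cl_ft, cl_ht]
  (wG_of_rotate rels relW_56 [cl_at, cl_bt, cl_ct, cl_dt, cl_et, cl_ft, cl_ht, cl_at, cl_bt, cl_ct, cl_dt, cl_et, cl_ft, cl_ht, cl_at, cl_bt, cl_ct, cl_dt, cl_et, cl_ft, cl_ht, cl_at, cl_bt, cl_ct, cl_dt, cl_et, cl_ft, cl_ht, cl_at, cl_bt, cl_ct, cl_dt, cl_et, cl_ft, cl_ht, cl_at, cl_bt, cl_ct, cl_dt, cl_et, cl_ft, cl_ht, cl_at, cl_bt, cl_ct, cl_dt, cl_et, cl_ft, cl_ht, cl_at, cl_bt, cl_ct, cl_dt, cl_et, cl_ft, cl_ht, cl_at, cl_bt, cl_ct, cl_dt, cl_et, cl_ft, cl_ht] 56 (by decide +kernel) relone_56)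
def rc_4_0 : Cert rels S Gen.a := Cert.rel true [cl_et, cl_at, cl_et]
  (wG_of_rotate rels relW_4 [cl_at, cl_et, cl_at, cl_et] 0 (by decide +kernel) relone_4)
def rc_3_0 : Cert rels S Gen.a := Cert.rel true [cl_dt, cl_at, cl_dt]
  (wG_of_rotate rels relW_3 [cl_at, cl_dt, cl_at, cl_dt] 0 (by decide +kernel) relone_3)
def rc_56_49 : Cert rels S Gen.a := Cert.rel true [cl_bt, cl_ct, cl_dt, cl_et, cl_ft, cl_ht, cl_at, cl_bt, cl_ct, cl_dt, cl_et, cl_ft, cl_ht, cl_at, cl_bt, cl_ct, cl_dt, cl_et, cl_ft, cl_ht, cl_at, cl_bt, cl_ct, cl_dt, cl_et, cl_ft, cl_ht, cl_at, cl_bt, cl_ct, cl_dt, cl_et, cl_ft, cl_ht, cl_at, cl_bt, cl_ct, cl_dt, cl_et, cl_ft, cl_ht, cl_at, cl_bt, cl_ct, cl_dt, cl_et, cl_ft, cl_ht, cl_at, cl_bt, cl_ct, cl_dt, cl_et, cl_ft, cl_ht, cl_at, cl_bt, cl_ct, cl_dt, cl_et,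 cl_ft, cl_ht]
  (wG_of_rotate rels relW_56 [cl_at, cl_bt, cl_ct, cl_dt, cl_et, cl_ft, cl_ht, cl_at, cl_bt, cl_ct, cl_dt, cl_et, cl_ft, cl_ht, cl_at, cl_bt, cl_ct, cl_dt, cl_et, cl_ft, cl_ht, cl_at, cl_bt, cl_ct, cl_dt, cl_et, cl_ft, cl_ht, cl_at, cl_bt, cl_ct, cl_dt, cl_et, cl_ft, cl_ht, cl_at, cl_bt, cl_ct, cl_dt, cl_et, cl_ft, cl_ht, cl_at, cl_bt, cl_ct, cl_dt, cl_et, cl_ft, cl_ht, cl_at, cl_bt, cl_ct, cl_dt, cl_et, cl_ft, cl_ht, cl_at, cl_bt, cl_ct, cl_dt, cl_et, cl_ft, cl_ht] 49 (by decide +kernel) relone_56)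
def rc_56_35 : Cert rels S Gen.a := Cert.rel true [cl_bt, cl_ct, cl_dt, cl_et, cl_ft, cl_ht, cl_at, cl_bt, cl_ct, cl_dt, cl_et, cl_ft, cl_ht, cl_at, cl_bt, cl_ct, cl_dt, cl_et, cl_ft, cl_ht, cl_at, cl_bt, cl_ct, cl_dt, cl_et, cl_ft, cl_ht, cl_at, cl_bt, cl_ct, cl_dt, cl_et, cl_ft, cl_ht, cl_at, cl_bt, cl_ct, cl_dt, cl_et, cl_ft, cl_ht, cl_at, cl_bt, cl_ct, cl_dt, cl_et, cl_ft, cl_ht, cl_at, cl_bt, cl_ct, cl_dt, cl_et, cl_ft, cl_ht, cl_at, cl_bt, cl_ct, cl_dt, cl_et, cl_ft, cl_ht]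
  (wG_of_rotate rels relW_56 [cl_at, cl_bt, cl_ct, cl_dt, cl_et, cl_ft, cl_ht, cl_at, cl_bt, cl_ct, cl_dt, cl_et, cl_ft, cl_ht, cl_at, cl_bt, cl_ct, cl_dt, cl_et, cl_ft, cl_ht, cl_at, cl_bt, cl_ct, cl_dt, cl_et, cl_ft, cl_ht, cl_at, cl_bt, cl_ct, cl_dt, cl_et, cl_ft, cl_ht, cl_at, cl_bt, cl_ct, cl_dt, cl_et, cl_ft, cl_ht, cl_at, cl_bt, cl_ct, cl_dt, cl_et, cl_ft, cl_ht, cl_at, cl_bt, cl_ct, cl_dt, cl_et, cl_ft, cl_ht, cl_at, cl_bt, cl_ct, cl_dt, cl_et, cl_ft, cl_ht] 35 (by decide +kernel) relone_56)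
def rc_2_0 : Cert rels S Gen.a := Cert.rel true [cl_ct, cl_at, cl_ct]
  (wG_of_rotate rels relW_2 [cl_at, cl_ct, cl_at, cl_ct] 0 (by decide +kernel) relone_2)
def rc_6_0 : Cert rels S Gen.a := Cert.rel true [cl_ft, cl_at, cl_ft]
  (wG_of_rotate rels relW_6 [cl_at, cl_ft, cl_at, cl_ft] 0 (by decide +kernel) relone_6)
def rc_56_7 : Cert rels S Gen.a := Cert.rel true [cl_bt, cl_ct, cl_dt, cl_et, cl_ft, cl_ht, cl_at, cl_bt, cl_ct, cl_dt, cl_et, cl_ft, cl_ht, cl_at, cl_bt, cl_ct, cl_dt, cl_et, cl_ft, cl_ht, cl_at, cl_bt, cl_ct, cl_dt, cl_et, cl_ft, cl_ht, cl_at, cl_bt, cl_ct, cl_dt, cl_et, cl_ft, cl_ht, cl_at, cl_bt, cl_ct, cl_dt, cl_et, cl_ft, cl_ht, cl_at, cl_bt, cl_ct, cl_dt, cl_et, cl_ft, cl_ht, cl_at, cl_bt, cl_ct, cl_dt, cl_et, cl_ft, cl_ht, cl_at, cl_bt, cl_ct, cl_dt, cl_et,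 cl_ft, cl_ht]
  (wG_of_rotate rels relW_56 [cl_at, cl_bt, cl_ct, cl_dt, cl_et, cl_ft, cl_ht, cl_at, cl_bt, cl_ct, cl_dt, cl_et, cl_ft, cl_ht, cl_at, cl_bt, cl_ct, cl_dt, cl_et, cl_ft, cl_ht, cl_at, cl_bt, cl_ct, cl_dt, cl_et, cl_ft, cl_ht, cl_at, cl_bt, cl_ct, cl_dt, cl_et, cl_ft, cl_ht, cl_at, cl_bt, cl_ct, cl_dt, cl_et, cl_ft, cl_ht, cl_at, cl_bt, cl_ct, cl_dt, cl_et, cl_ft, cl_ht, cl_at, cl_bt, cl_ct, cl_dt, cl_et, cl_ft, cl_ht, cl_at, cl_bt, cl_ct, cl_dt, cl_et, cl_ft, cl_ht] 7 (by decide +kernel) relone_56)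
def rc_8_0 : Cert rels S Gen.a := Cert.rel true [cl_jt, cl_at, cl_jt]
  (wG_of_rotate rels relW_8 [cl_at, cl_jt, cl_at, cl_jt] 0 (by decide +kernel) relone_8)
def rc_0_1 : Cert rels S Gen.a := Cert.rel true [cl_at]
  (wG_of_rotate rels relW_0 [cl_at, cl_at] 1 (by decide +kernel) relone_0)
def rc_56_0 : Cert rels S Gen.a := Cert.rel true [cl_bt, cl_ct, cl_dt, cl_et, cl_ft, cl_ht, cl_at, cl_bt, cl_ct, cl_dt, cl_et, cl_ft, cl_ht, cl_at, cl_bt, cl_ct, cl_dt, cl_et, cl_ft, cl_ht, cl_at, cl_bt, cl_ct, cl_dt, cl_et, cl_ft, cl_ht, cl_at, cl_bt, cl_ct, cl_dt, cl_et, cl_ft, cl_ht, cl_at, cl_bt, cl_ct, cl_dt, cl_et, cl_ft, cl_ht, cl_at, cl_bt, cl_ct, cl_dt, cl_et, cl_ft, cl_ht, cl_at, cl_bt, cl_ct, cl_dt, cl_et, cl_ft, cl_ht, cl_at, cl_bt, cl_ct, cl_dt, cl_et, cl_ft, cl_ht]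
  (wG_of_rotate rels relW_56 [cl_at, cl_bt, cl_ct, cl_dt, cl_et, cl_ft, cl_ht, cl_at, cl_bt, cl_ct, cl_dt, cl_et, cl_ft, cl_ht, cl_at, cl_bt, cl_ct, cl_dt, cl_et, cl_ft, cl_ht, cl_at, cl_bt, cl_ct, cl_dt, cl_et, cl_ft, cl_ht, cl_at, cl_bt, cl_ct, cl_dt, cl_et, cl_ft, cl_ht, cl_at, cl_bt, cl_ct, cl_dt, cl_et, cl_ft, cl_ht, cl_at, cl_bt, cl_ct, cl_dt, cl_et, cl_ft, cl_ht, cl_at, cl_bt, cl_ct, cl_dt, cl_et, cl_ft, cl_ht, cl_at, cl_bt, cl_ct, cl_dt, cl_et, cl_ft, cl_ht] 0 (by decide +kernel) relone_56)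
def rc_56_14 : Cert rels S Gen.a := Cert.rel true [cl_bt, cl_ct, cl_dt, cl_et, cl_ft, cl_ht, cl_at, cl_bt, cl_ct, cl_dt, cl_et, cl_ft, cl_ht, cl_at, cl_bt, cl_ct, cl_dt, cl_et, cl_ft, cl_ht, cl_at, cl_bt, cl_ct, cl_dt, cl_et, cl_ft, cl_ht, cl_at, cl_bt, cl_ct, cl_dt, cl_et, cl_ft, cl_ht, cl_at, cl_bt, cl_ct, cl_dt, cl_et, cl_ft, cl_ht, cl_at, cl_bt, cl_ct, cl_dt, cl_et, cl_ft, cl_ht, cl_at, cl_bt, cl_ct, cl_dt, cl_et, cl_ft, cl_ht, cl_at, cl_bt, cl_ct, cl_dt, cl_et, cl_ft, cl_ht]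
  (wG_of_rotate rels relW_56 [cl_at, cl_bt, cl_ct, cl_dt, cl_et, cl_ft, cl_ht, cl_at, cl_bt, cl_ct, cl_dt, cl_et, cl_ft, cl_ht, cl_at, cl_bt, cl_ct, cl_dt, cl_et, cl_ft, cl_ht, cl_at, cl_bt, cl_ct, cl_dt, cl_et, cl_ft, cl_ht, cl_at, cl_bt, cl_ct, cl_dt, cl_et, cl_ft, cl_ht, cl_at, cl_bt, cl_ct, cl_dt, cl_et, cl_ft, cl_ht, cl_at, cl_bt, cl_ct, cl_dt, cl_et, cl_ft, cl_ht, cl_at, cl_bt, cl_ct, cl_dt, cl_et, cl_ft, cl_ht, cl_at, cl_bt, cl_ct, cl_dt, cl_et, cl_ft, cl_ht] 14 (by decide +kernel) relone_56)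
def rc_56_28 : Cert rels S Gen.a := Cert.rel true [cl_bt, cl_ct, cl_dt, cl_et, cl_ft, cl_ht, cl_at, cl_bt, cl_ct, cl_dt, cl_et, cl_ft, cl_ht, cl_at, cl_bt, cl_ct, cl_dt, cl_et, cl_ft, cl_ht, cl_at, cl_bt, cl_ct, cl_dt, cl_et, cl_ft, cl_ht, cl_at, cl_bt, cl_ct, cl_dt, cl_et, cl_ft, cl_ht, cl_at, cl_bt, cl_ct, cl_dt, cl_et, cl_ft, cl_ht, cl_at, cl_bt, cl_ct, cl_dt, cl_et, cl_ft, cl_ht, cl_at, cl_bt, cl_ct, cl_dt, cl_et, cl_ft, cl_ht, cl_at, cl_bt, cl_ct, cl_dt, cl_et, cl_ft, cl_ht]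
  (wG_of_rotate rels relW_56 [cl_at, cl_bt, cl_ct, cl_dt, cl_et, cl_ft, cl_ht, cl_at, cl_bt, cl_ct, cl_dt, cl_et, cl_ft, cl_ht, cl_at, cl_bt, cl_ct, cl_dt, cl_et, cl_ft, cl_ht, cl_at, cl_bt, cl_ct, cl_dt, cl_et, cl_ft, cl_ht, cl_at, cl_bt, cl_ct, cl_dt, cl_et, cl_ft, cl_ht, cl_at, cl_bt, cl_ct, cl_dt, cl_et, cl_ft, cl_ht, cl_at, cl_bt, cl_ct, cl_dt, cl_et, cl_ft, cl_ht, cl_at, cl_bt, cl_ct, cl_dt, cl_et, cl_ft, cl_ht, cl_at, cl_bt, cl_ct, cl_dt, cl_et, cl_ft, cl_ht] 28 (by decide +kernel) relone_56)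
def rc_9_0 : Cert rels S Gen.a := Cert.rel true [cl_it, cl_at, cl_it]
  (wG_of_rotate rels relW_9 [cl_at, cl_it, cl_at, cl_it] 0 (by decide +kernel) relone_9)
def rc_56_21 : Cert rels S Gen.a := Cert.rel true [cl_bt, cl_ct, cl_dt, cl_et, cl_ft, cl_ht, cl_at, cl_bt, cl_ct, cl_dt, cl_et, cl_ft, cl_ht, cl_at, cl_bt, cl_ct, cl_dt, cl_et, cl_ft, cl_ht, cl_at, cl_bt, cl_ct, cl_dt, cl_et, cl_ft, cl_ht, cl_at, cl_bt, cl_ct, cl_dt, cl_et, cl_ft, cl_ht, cl_at, cl_bt, cl_ct, cl_dt, cl_et, cl_ft, cl_ht, cl_at, cl_bt, cl_ct, cl_dt, cl_et, cl_ft, cl_ht, cl_at, cl_bt, cl_ct, cl_dt, cl_et, cl_ft, cl_ht, cl_at, cl_bt, cl_ct, cl_dt, cl_et, cl_ft, cl_ht]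
  (wG_of_rotate rels relW_56 [cl_at, cl_bt, cl_ct, cl_dt, cl_et, cl_ft, cl_ht, cl_at, cl_bt, cl_ct, cl_dt, cl_et, cl_ft, cl_ht, cl_at, cl_bt, cl_ct, cl_dt, cl_et, cl_ft, cl_ht, cl_at, cl_bt, cl_ct, cl_dt, cl_et, cl_ft, cl_ht, cl_at, cl_bt, cl_ct, cl_dt, cl_et, cl_ft, cl_ht, cl_at, cl_bt, cl_ct, cl_dt, cl_et, cl_ft, cl_ht, cl_at, cl_bt, cl_ct, cl_dt, cl_et, cl_ft, cl_ht, cl_at, cl_bt, cl_ct, cl_dt, cl_et, cl_ft, cl_ht, cl_at, cl_bt, cl_ct, cl_dt, cl_et, cl_ft, cl_ht] 21 (by decide +kernel) relone_56)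
def rc_56_42 : Cert rels S Gen.a := Cert.rel true [cl_bt, cl_ct, cl_dt, cl_et, cl_ft, cl_ht, cl_at, cl_bt, cl_ct, cl_dt, cl_et, cl_ft, cl_ht, cl_at, cl_bt, cl_ct, cl_dt, cl_et, cl_ft, cl_ht, cl_at, cl_bt, cl_ct, cl_dt, cl_et, cl_ft, cl_ht, cl_at, cl_bt, cl_ct, cl_dt, cl_et, cl_ft, cl_ht, cl_at, cl_bt, cl_ct, cl_dt, cl_et, cl_ft, cl_ht, cl_at, cl_bt, cl_ct, cl_dt, cl_et, cl_ft, cl_ht, cl_at, cl_bt, cl_ct, cl_dt, cl_et, cl_ft, cl_ht, cl_at, cl_bt, cl_ct, cl_dt, cl_et, cl_ft, cl_ht]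
  (wG_of_rotate rels relW_56 [cl_at, cl_bt, cl_ct, cl_dt, cl_et, cl_ft, cl_ht, cl_at, cl_bt, cl_ct, cl_dt, cl_et, cl_ft, cl_ht, cl_at, cl_bt, cl_ct, cl_dt, cl_et, cl_ft, cl_ht, cl_at, cl_bt, cl_ct, cl_dt, cl_et, cl_ft, cl_ht, cl_at, cl_bt, cl_ct, cl_dt, cl_et, cl_ft, cl_ht, cl_at, cl_bt, cl_ct, cl_dt, cl_et, cl_ft, cl_ht, cl_at, cl_bt, cl_ct, cl_dt, cl_et, cl_ft, cl_ht, cl_at, cl_bt, cl_ct, cl_dt, cl_et, cl_ft, cl_ht, cl_at, cl_bt, cl_ct, cl_dt, cl_et, cl_ft, cl_ht] 42 (by decide +kernel) relone_56)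
def rc_5_0 : Cert rels S Gen.a := Cert.rel true [cl_ht, cl_at, cl_ht]
  (wG_of_rotate rels relW_5 [cl_at, cl_ht, cl_at, cl_ht] 0 (by decide +kernel) relone_5)
def rc_1_0 : Cert rels S Gen.a := Cert.rel true [cl_bt, cl_at, cl_bt, cl_at, cl_bt]
  (wG_of_rotate rels relW_1 [cl_at, cl_bt, cl_at, cl_bt, cl_at, cl_bt] 0 (by decide +kernel) relone_1)
def rc_7_0 : Cert rels S Gen.a := Cert.rel true [cl_gt, cl_at, cl_gt]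
  (wG_of_rotate rels relW_7 [cl_at, cl_gt, cl_at, cl_gt] 0 (by decide +kernel) relone_7)
def rc_17_2 : Cert rels S Gen.b := Cert.rel true [cl_jt, cl_bt, cl_jt]
  (wG_of_rotate rels relW_17 [cl_bt, cl_jt, cl_bt, cl_jt] 2 (by decide +kernel) relone_17)
def rc_16_2 : Cert rels S Gen.b := Cert.rel true [cl_gt, cl_bt, cl_gt]
  (wG_of_rotate rels relW_16 [cl_bt, cl_gt, cl_bt, cl_gt] 2 (by decide +kernel) relone_16)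
def rc_15_2 : Cert rels S Gen.b := Cert.rel true [cl_ft, cl_bt, cl_ft]
  (wG_of_rotate rels relW_15 [cl_bt, cl_ft, cl_bt, cl_ft] 2 (by decide +kernel) relone_15)
def rc_13_2 : Cert rels S Gen.b := Cert.rel true [cl_et, cl_bt, cl_et]
  (wG_of_rotate rels relW_13 [cl_bt, cl_et, cl_bt, cl_et] 2 (by decide +kernel) relone_13)
def rc_12_2 : Cert rels S Gen.b := Cert.rel true [cl_dt, cl_bt, cl_dt]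
  (wG_of_rotate rels relW_12 [cl_bt, cl_dt, cl_bt, cl_dt] 2 (by decide +kernel) relone_12)
def rc_14_2 : Cert rels S Gen.b := Cert.rel true [cl_ht, cl_bt, cl_ht]
  (wG_of_rotate rels relW_14 [cl_bt, cl_ht, cl_bt, cl_ht] 2 (by decide +kernel) relone_14)
def rc_10_0 : Cert rels S Gen.b := Cert.rel true [cl_bt]
  (wG_of_rotate rels relW_10 [cl_bt, cl_bt] 0 (by decide +kernel) relone_10)
def rc_18_2 : Cert rels S Gen.b := Cert.rel true [cl_it, cl_bt, cl_it]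
  (wG_of_rotate rels relW_18 [cl_bt, cl_it, cl_bt, cl_it] 2 (by decide +kernel) relone_18)
def rc_1_3 : Cert rels S Gen.b := Cert.rel true [cl_at, cl_bt, cl_at, cl_bt, cl_at]
  (wG_of_rotate rels relW_1 [cl_bt, cl_at, cl_bt, cl_at, cl_bt, cl_at] 3 (by decide +kernel) relone_1)
def rc_11_2 : Cert rels S Gen.b := Cert.rel true [cl_ct, cl_bt, cl_ct, cl_bt, cl_ct]
  (wG_of_rotate rels relW_11 [cl_bt, cl_ct, cl_bt, cl_ct, cl_bt, cl_ct] 2 (by decide +kernel) relone_11)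
def rc_55_74 : Cert rels S Gen.b := Cert.rel true [cl_dt, cl_et, cl_ft, cl_dt, cl_ht, cl_it, cl_dt, cl_ct, cl_bt, cl_dt, cl_et, cl_ft, cl_dt, cl_ht, cl_it, cl_dt, cl_ct, cl_bt, cl_dt, cl_et, cl_ft, cl_dt, cl_ht, cl_it, cl_dt, cl_ct, cl_bt, cl_dt, cl_et, cl_ft, cl_dt, cl_ht, cl_it, cl_dt, cl_ct, cl_bt, cl_dt, cl_et, cl_ft, cl_dt, cl_ht, cl_it, cl_dt, cl_ct, cl_bt, cl_dt, cl_et, cl_ft, cl_dt, cl_ht, cl_it, cl_dt, cl_ct, cl_bt, cl_dt, cl_et, cl_ft, cl_dt, cl_ht, cl_it, cl_dt, cl_ct, cl_bt, cl_dt, cl_et, cl_ft, cl_dt, cl_ht, cl_it, cl_dt, cl_ct, cl_bt, cl_dt, cl_et, cl_ft, cl_dt, cl_ht, cl_it, cl_dt, cl_ct, cl_bt, cl_dt, cl_et, cl_ft, cl_dt, cl_ht, cl_it, cl_dt, cl_ct]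
  (wG_of_rotate rels relW_55 [cl_bt, cl_dt, cl_et, cl_ft, cl_dt, cl_ht, cl_it, cl_dt, cl_ct, cl_bt, cl_dt, cl_et, cl_ft, cl_dt, cl_ht, cl_it, cl_dt, cl_ct, cl_bt, cl_dt, cl_et, cl_ft, cl_dt, cl_ht, cl_it, cl_dt, cl_ct, cl_bt, cl_dt, cl_et, cl_ft, cl_dt, cl_ht, cl_it, cl_dt, cl_ct, cl_bt, cl_dt, cl_et, cl_ft, cl_dt, cl_ht, cl_it, cl_dt, cl_ct, cl_bt, cl_dt, cl_et, cl_ft, cl_dt, cl_ht, cl_it, cl_dt, cl_ct, cl_bt, cl_dt, cl_et, cl_ft, cl_dt, cl_ht, cl_it, cl_dt, cl_ct, cl_bt, cl_dt, cl_et, cl_ft, cl_dt, cl_ht, cl_it, cl_dt, cl_ct, cl_bt, cl_dt, cl_et, cl_ft, cl_dt, cl_ht, cl_it, cl_dt, cl_ct, cl_bt, cl_dt, cl_et, cl_ft, cl_dt, cl_ht, cl_it, cl_dt, cl_ct] 74 (by decide +kernel) relone_55)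
def rc_56_29 : Cert rels S Gen.b := Cert.rel true [cl_ct, cl_dt, cl_et, cl_ft, cl_ht, cl_at, cl_bt, cl_ct, cl_dt, cl_et, cl_ft, cl_ht, cl_at, cl_bt, cl_ct, cl_dt, cl_et, cl_ft, cl_ht, cl_at, cl_bt, cl_ct, cl_dt, cl_et, cl_ft, cl_ht, cl_at, cl_bt, cl_ct, cl_dt, cl_et, cl_ft, cl_ht, cl_at, cl_bt, cl_ct, cl_dt, cl_et, cl_ft, cl_ht, cl_at, cl_bt, cl_ct, cl_dt, cl_et, cl_ft, cl_ht, cl_at, cl_bt, cl_ct, cl_dt, cl_et, cl_ft, cl_ht, cl_at, cl_bt, cl_ct, cl_dt, cl_et, cl_ft, cl_ht, cl_at]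
  (wG_of_rotate rels relW_56 [cl_bt, cl_ct, cl_dt, cl_et, cl_ft, cl_ht, cl_at, cl_bt, cl_ct, cl_dt, cl_et, cl_ft, cl_ht, cl_at, cl_bt, cl_ct, cl_dt, cl_et, cl_ft, cl_ht, cl_at, cl_bt, cl_ct, cl_dt, cl_et, cl_ft, cl_ht, cl_at, cl_bt, cl_ct, cl_dt, cl_et, cl_ft, cl_ht, cl_at, cl_bt, cl_ct, cl_dt, cl_et, cl_ft, cl_ht, cl_at, cl_bt, cl_ct, cl_dt, cl_et, cl_ft, cl_ht, cl_at, cl_bt, cl_ct, cl_dt, cl_et, cl_ft, cl_ht, cl_at, cl_bt, cl_ct, cl_dt, cl_et, cl_ft, cl_ht, cl_at] 29 (by decide +kernel) relone_56)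
def rc_56_22 : Cert rels S Gen.b := Cert.rel true [cl_ct, cl_dt, cl_et, cl_ft, cl_ht, cl_at, cl_bt, cl_ct, cl_dt, cl_et, cl_ft, cl_ht, cl_at, cl_bt, cl_ct, cl_dt, cl_et, cl_ft, cl_ht, cl_at, cl_bt, cl_ct, cl_dt, cl_et, cl_ft, cl_ht, cl_at, cl_bt, cl_ct, cl_dt, cl_et, cl_ft, cl_ht, cl_at, cl_bt, cl_ct, cl_dt, cl_et, cl_ft, cl_ht, cl_at, cl_bt, cl_ct, cl_dt, cl_et, cl_ft, cl_ht, cl_at, cl_bt, cl_ct, cl_dt, cl_et, cl_ft, cl_ht, cl_at, cl_bt, cl_ct, cl_dt, cl_et, cl_ft, cl_ht, cl_at]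
  (wG_of_rotate rels relW_56 [cl_bt, cl_ct, cl_dt, cl_et, cl_ft, cl_ht, cl_at, cl_bt, cl_ct, cl_dt, cl_et, cl_ft, cl_ht, cl_at, cl_bt, cl_ct, cl_dt, cl_et, cl_ft, cl_ht, cl_at, cl_bt, cl_ct, cl_dt, cl_et, cl_ft, cl_ht, cl_at, cl_bt, cl_ct, cl_dt, cl_et, cl_ft, cl_ht, cl_at, cl_bt, cl_ct, cl_dt, cl_et, cl_ft, cl_ht, cl_at, cl_bt, cl_ct, cl_dt, cl_et, cl_ft, cl_ht, cl_at, cl_bt, cl_ct, cl_dt, cl_et, cl_ft, cl_ht, cl_at, cl_bt, cl_ct, cl_dt, cl_et, cl_ft, cl_ht, cl_at] 22 (by decide +kernel) relone_56)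
def rc_56_8 : Cert rels S Gen.b := Cert.rel true [cl_ct, cl_dt, cl_et, cl_ft, cl_ht, cl_at, cl_bt, cl_ct, cl_dt, cl_et, cl_ft, cl_ht, cl_at, cl_bt, cl_ct, cl_dt, cl_et, cl_ft, cl_ht, cl_at, cl_bt, cl_ct, cl_dt, cl_et, cl_ft, cl_ht, cl_at, cl_bt, cl_ct, cl_dt, cl_et, cl_ft, cl_ht, cl_at, cl_bt, cl_ct, cl_dt, cl_et, cl_ft, cl_ht, cl_at, cl_bt, cl_ct, cl_dt, cl_et, cl_ft, cl_ht, cl_at, cl_bt, cl_ct, cl_dt, cl_et, cl_ft, cl_ht, cl_at, cl_bt, cl_ct, cl_dt, cl_et, cl_ft, cl_ht, cl_at]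
  (wG_of_rotate rels relW_56 [cl_bt, cl_ct, cl_dt, cl_et, cl_ft, cl_ht, cl_at, cl_bt, cl_ct, cl_dt, cl_et, cl_ft, cl_ht, cl_at, cl_bt, cl_ct, cl_dt, cl_et, cl_ft, cl_ht, cl_at, cl_bt, cl_ct, cl_dt, cl_et, cl_ft, cl_ht, cl_at, cl_bt, cl_ct, cl_dt, cl_et, cl_ft, cl_ht, cl_at, cl_bt, cl_ct, cl_dt, cl_et, cl_ft, cl_ht, cl_at, cl_bt, cl_ct, cl_dt, cl_et, cl_ft, cl_ht, cl_at, cl_bt, cl_ct, cl_dt, cl_et, cl_ft, cl_ht, cl_at, cl_bt, cl_ct, cl_dt, cl_et, cl_ft, cl_ht, cl_at] 8 (by decide +kernel) relone_56)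
def rc_1_1 : Cert rels S Gen.b := Cert.rel true [cl_at, cl_bt, cl_at, cl_bt, cl_at]
  (wG_of_rotate rels relW_1 [cl_bt, cl_at, cl_bt, cl_at, cl_bt, cl_at] 1 (by decide +kernel) relone_1)
def rc_15_0 : Cert rels S Gen.b := Cert.rel true [cl_ft, cl_bt, cl_ft]
  (wG_of_rotate rels relW_15 [cl_bt, cl_ft, cl_bt, cl_ft] 0 (by decide +kernel) relone_15)
def rc_1_5 : Cert rels S Gen.b := Cert.rel true [cl_at, cl_bt, cl_at, cl_bt, cl_at]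
  (wG_of_rotate rels relW_1 [cl_bt, cl_at, cl_bt, cl_at, cl_bt, cl_at] 5 (by decide +kernel) relone_1)
def rc_13_0 : Cert rels S Gen.b := Cert.rel true [cl_et, cl_bt, cl_et]
  (wG_of_rotate rels relW_13 [cl_bt, cl_et, cl_bt, cl_et] 0 (by decide +kernel) relone_13)
def rc_17_0 : Cert rels S Gen.b := Cert.rel true [cl_jt, cl_bt, cl_jt]
  (wG_of_rotate rels relW_17 [cl_bt, cl_jt, cl_bt, cl_jt] 0 (by decide +kernel) relone_17)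
def rc_56_36 : Cert rels S Gen.b := Cert.rel true [cl_ct, cl_dt, cl_et, cl_ft, cl_ht, cl_at, cl_bt, cl_ct, cl_dt, cl_et, cl_ft, cl_ht, cl_at, cl_bt, cl_ct, cl_dt, cl_et, cl_ft, cl_ht, cl_at, cl_bt, cl_ct, cl_dt, cl_et, cl_ft, cl_ht, cl_at, cl_bt, cl_ct, cl_dt, cl_et, cl_ft, cl_ht, cl_at, cl_bt, cl_ct, cl_dt, cl_et, cl_ft, cl_ht, cl_at, cl_bt, cl_ct, cl_dt, cl_et, cl_ft, cl_ht, cl_at, cl_bt, cl_ct, cl_dt, cl_et, cl_ft, cl_ht, cl_at, cl_bt, cl_ct, cl_dt, cl_et, cl_ft, cl_ht, cl_at]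
  (wG_of_rotate rels relW_56 [cl_bt, cl_ct, cl_dt, cl_et, cl_ft, cl_ht, cl_at, cl_bt, cl_ct, cl_dt, cl_et, cl_ft, cl_ht, cl_at, cl_bt, cl_ct, cl_dt, cl_et, cl_ft, cl_ht, cl_at, cl_bt, cl_ct, cl_dt, cl_et, cl_ft, cl_ht, cl_at, cl_bt, cl_ct, cl_dt, cl_et, cl_ft, cl_ht, cl_at, cl_bt, cl_ct, cl_dt, cl_et, cl_ft, cl_ht, cl_at, cl_bt, cl_ct, cl_dt, cl_et, cl_ft, cl_ht, cl_at, cl_bt, cl_ct, cl_dt, cl_et, cl_ft, cl_ht, cl_at, cl_bt, cl_ct, cl_dt, cl_et, cl_ft, cl_ht, cl_at] 36 (by decide +kernel) relone_56)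
def rc_12_0 : Cert rels S Gen.b := Cert.rel true [cl_dt, cl_bt, cl_dt]
  (wG_of_rotate rels relW_12 [cl_bt, cl_dt, cl_bt, cl_dt] 0 (by decide +kernel) relone_12)
def rc_11_4 : Cert rels S Gen.b := Cert.rel true [cl_ct, cl_bt, cl_ct, cl_bt, cl_ct]
  (wG_of_rotate rels relW_11 [cl_bt, cl_ct, cl_bt, cl_ct, cl_bt, cl_ct] 4 (by decide +kernel) relone_11)
def rc_11_0 : Cert rels S Gen.b := Cert.rel true [cl_ct, cl_bt, cl_ct, cl_bt, cl_ct]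
  (wG_of_rotate rels relW_11 [cl_bt, cl_ct, cl_bt, cl_ct, cl_bt, cl_ct] 0 (by decide +kernel) relone_11)
def rc_56_57 : Cert rels S Gen.b := Cert.rel true [cl_ct, cl_dt, cl_et, cl_ft, cl_ht, cl_at, cl_bt, cl_ct, cl_dt, cl_et, cl_ft, cl_ht, cl_at, cl_bt, cl_ct, cl_dt, cl_et, cl_ft, cl_ht, cl_at, cl_bt, cl_ct, cl_dt, cl_et, cl_ft, cl_ht, cl_at, cl_bt, cl_ct, cl_dt, cl_et, cl_ft, cl_ht, cl_at, cl_bt, cl_ct, cl_dt, cl_et, cl_ft, cl_ht, cl_at, cl_bt, cl_ct, cl_dt, cl_et, cl_ft, cl_ht, cl_at, cl_bt, cl_ct, cl_dt, cl_et, cl_ft, cl_ht, cl_at, cl_bt, cl_ct, cl_dt, cl_et, cl_ft, cl_ht, cl_at]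
  (wG_of_rotate rels relW_56 [cl_bt, cl_ct, cl_dt, cl_et, cl_ft, cl_ht, cl_at, cl_bt, cl_ct, cl_dt, cl_et, cl_ft, cl_ht, cl_at, cl_bt, cl_ct, cl_dt, cl_et, cl_ft, cl_ht, cl_at, cl_bt, cl_ct, cl_dt, cl_et, cl_ft, cl_ht, cl_at, cl_bt, cl_ct, cl_dt, cl_et, cl_ft, cl_ht, cl_at, cl_bt, cl_ct, cl_dt, cl_et, cl_ft, cl_ht, cl_at, cl_bt, cl_ct, cl_dt, cl_et, cl_ft, cl_ht, cl_at, cl_bt, cl_ct, cl_dt, cl_et, cl_ft, cl_ht, cl_at, cl_bt, cl_ct, cl_dt, cl_et, cl_ft, cl_ht, cl_at] 57 (by decide +kernel) relone_56)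
def rc_14_0 : Cert rels S Gen.b := Cert.rel true [cl_ht, cl_bt, cl_ht]
  (wG_of_rotate rels relW_14 [cl_bt, cl_ht, cl_bt, cl_ht] 0 (by decide +kernel) relone_14)
def rc_55_65 : Cert rels S Gen.b := Cert.rel true [cl_dt, cl_et, cl_ft, cl_dt, cl_ht, cl_it, cl_dt, cl_ct, cl_bt, cl_dt, cl_et, cl_ft, cl_dt, cl_ht, cl_it, cl_dt, cl_ct, cl_bt, cl_dt, cl_et, cl_ft, cl_dt, cl_ht, cl_it, cl_dt, cl_ct, cl_bt, cl_dt, cl_et, cl_ft, cl_dt, cl_ht, cl_it, cl_dt, cl_ct, cl_bt, cl_dt, cl_et, cl_ft, cl_dt, cl_ht, cl_it, cl_dt, cl_ct, cl_bt, cl_dt, cl_et, cl_ft, cl_dt, cl_ht, cl_it, cl_dt, cl_ct, cl_bt, cl_dt, cl_et, cl_ft, cl_dt, cl_ht, cl_it, cl_dt, cl_ct, cl_bt, cl_dt, cl_et, cl_ft, cl_dt, cl_ht, cl_it, cl_dt, cl_ct, cl_bt, cl_dt, cl_et, cl_ft, cl_dt, cl_ht, cl_it, cl_dt, cl_ct, cl_bt, cl_dt,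 cl_et, cl_ft, cl_dt, cl_ht, cl_it, cl_dt, cl_ct]
  (wG_of_rotate rels relW_55 [cl_bt, cl_dt, cl_et, cl_ft, cl_dt, cl_ht, cl_it, cl_dt, cl_ct, cl_bt, cl_dt, cl_et, cl_ft, cl_dt, cl_ht, cl_it, cl_dt, cl_ct, cl_bt, cl_dt, cl_et, cl_ft, cl_dt, cl_ht, cl_it, cl_dt, cl_ct, cl_bt, cl_dt, cl_et, cl_ft, cl_dt, cl_ht, cl_it, cl_dt, cl_ct, cl_bt, cl_dt, cl_et, cl_ft, cl_dt, cl_ht, cl_it, cl_dt, cl_ct, cl_bt, cl_dt, cl_et, cl_ft, cl_dt, cl_ht, cl_it, cl_dt, cl_ct, cl_bt, cl_dt, cl_et, cl_ft, cl_dt, cl_ht, cl_it, cl_dt, cl_ct, cl_bt, cl_dt, cl_et, cl_ft, cl_dt, cl_ht, cl_it, cl_dt, cl_ct, cl_bt, cl_dt, cl_et, cl_ft, cl_dt, cl_ht, cl_it, cl_dt, cl_ct, cl_bt, cl_dt, cl_et, cl_ft, cl_dt, cl_ht, cl_it, cl_dt, cl_ct] 65 (by decide +kernel) relone_55)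
def rc_10_1 : Cert rels S Gen.b := Cert.rel true [cl_bt]
  (wG_of_rotate rels relW_10 [cl_bt, cl_bt] 1 (by decide +kernel) relone_10)
def rc_55_11 : Cert rels S Gen.b := Cert.rel true [cl_dt, cl_et, cl_ft, cl_dt, cl_ht, cl_it, cl_dt, cl_ct, cl_bt, cl_dt, cl_et, cl_ft, cl_dt, cl_ht, cl_it, cl_dt, cl_ct, cl_bt, cl_dt, cl_et, cl_ft, cl_dt, cl_ht, cl_it, cl_dt, cl_ct, cl_bt, cl_dt, cl_et, cl_ft, cl_dt, cl_ht, cl_it, cl_dt, cl_ct, cl_bt, cl_dt, cl_et, cl_ft, cl_dt, cl_ht, cl_it, cl_dt, cl_ct, cl_bt, cl_dt, cl_et, cl_ft, cl_dt, cl_ht, cl_it, cl_dt, cl_ct, cl_bt, cl_dt, cl_et, cl_ft, cl_dt, cl_ht, cl_it, cl_dt, cl_ct, cl_bt, cl_dt, cl_et, cl_ft, cl_dt, cl_ht, cl_it, cl_dt, cl_ct, cl_bt, cl_dt, cl_et, cl_ft, cl_dt, cl_ht, cl_it, cl_dt, cl_ct, cl_bt, cl_dt, cl_et, cl_ft, cl_dt, cl_ht,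 cl_it, cl_dt, cl_ct]
  (wG_of_rotate rels relW_55 [cl_bt, cl_dt, cl_et, cl_ft, cl_dt, cl_ht, cl_it, cl_dt, cl_ct, cl_bt, cl_dt, cl_et, cl_ft, cl_dt, cl_ht, cl_it, cl_dt, cl_ct, cl_bt, cl_dt, cl_et, cl_ft, cl_dt, cl_ht, cl_it, cl_dt, cl_ct, cl_bt, cl_dt, cl_et, cl_ft, cl_dt, cl_ht, cl_it, cl_dt, cl_ct, cl_bt, cl_dt, cl_et, cl_ft, cl_dt, cl_ht, cl_it, cl_dt, cl_ct, cl_bt, cl_dt, cl_et, cl_ft, cl_dt, cl_ht, cl_it, cl_dt, cl_ct, cl_bt, cl_dt, cl_et, cl_ft, cl_dt, cl_ht, cl_it, cl_dt, cl_ct, cl_bt, cl_dt, cl_et, cl_ft, cl_dt, cl_ht, cl_it, cl_dt, cl_ct, cl_bt, cl_dt, cl_et, cl_ft, cl_dt, cl_ht, cl_it, cl_dt, cl_ct, cl_bt, cl_dt, cl_et, cl_ft, cl_dt, cl_ht, cl_it, cl_dt, cl_ct] 11 (by decide +kernel) relone_55)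
def rc_18_0 : Cert rels S Gen.b := Cert.rel true [cl_it, cl_bt, cl_it]
  (wG_of_rotate rels relW_18 [cl_bt, cl_it, cl_bt, cl_it] 0 (by decide +kernel) relone_18)
def rc_16_0 : Cert rels S Gen.b := Cert.rel true [cl_gt, cl_bt, cl_gt]
  (wG_of_rotate rels relW_16 [cl_bt, cl_gt, cl_bt, cl_gt] 0 (by decide +kernel) relone_16)
def rc_55_56 : Cert rels S Gen.b := Cert.rel true [cl_dt, cl_et, cl_ft, cl_dt, cl_ht, cl_it, cl_dt, cl_ct, cl_bt, cl_dt, cl_et, cl_ft, cl_dt, cl_ht, cl_it, cl_dt, cl_ct, cl_bt, cl_dt, cl_et, cl_ft, cl_dt, cl_ht, cl_it, cl_dt, cl_ct, cl_bt, cl_dt, cl_et, cl_ft, cl_dt, cl_ht, cl_it, cl_dt, cl_ct, cl_bt, cl_dt, cl_et, cl_ft, cl_dt, cl_ht, cl_it, cl_dt, cl_ct, cl_bt, cl_dt, cl_et, cl_ft, cl_dt, cl_ht, cl_it, cl_dt, cl_ct, cl_bt, cl_dt, cl_et, cl_ft, cl_dt, cl_ht,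 cl_it, cl_dt, cl_ct, cl_bt, cl_dt, cl_et, cl_ft, cl_dt, cl_ht, cl_it, cl_dt, cl_ct, cl_bt, cl_dt, cl_et, cl_ft, cl_dt, cl_ht, cl_it, cl_dt, cl_ct, cl_bt, cl_dt, cl_et, cl_ft, cl_dt, cl_ht, cl_it, cl_dt, cl_ct]
  (wG_of_rotate rels relW_55 [cl_bt, cl_dt, cl_et, cl_ft, cl_dt, cl_ht, cl_it, cl_dt, cl_ct, cl_bt, cl_dt, cl_et, cl_ft, cl_dt, cl_ht, cl_it, cl_dt, cl_ct, cl_bt, cl_dt, cl_et, cl_ft, cl_dt, cl_ht, cl_it, cl_dt, cl_ct, cl_bt, cl_dt, cl_et, cl_ft, cl_dt, cl_ht, cl_it, cl_dt, cl_ct, cl_bt, cl_dt, cl_et, cl_ft, cl_dt, cl_ht, cl_it, cl_dt, cl_ct, cl_bt, cl_dt, cl_et, cl_ft, cl_dt, cl_ht, cl_it, cl_dt, cl_ct, cl_bt, cl_dt, cl_et, cl_ft, cl_dt, cl_ht, cl_it, cl_dt, cl_ct, cl_bt, cl_dt, cl_et, cl_ft, cl_dt, cl_ht, cl_it, cl_dt, cl_ct, cl_bt, cl_dt, cl_et, cl_ft, cl_dt, cl_ht,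 cl_it, cl_dt, cl_ct, cl_bt, cl_dt, cl_et, cl_ft, cl_dt, cl_ht, cl_it, cl_dt, cl_ct] 56 (by decide +kernel) relone_55)
def rc_55_38 : Cert rels S Gen.b := Cert.rel true [cl_dt, cl_et, cl_ft, cl_dt, cl_ht, cl_it, cl_dt, cl_ct, cl_bt, cl_dt, cl_et, cl_ft, cl_dt, cl_ht, cl_it, cl_dt, cl_ct, cl_bt, cl_dt, cl_et, cl_ft, cl_dt, cl_ht, cl_it, cl_dt, cl_ct, cl_bt, cl_dt, cl_et, cl_ft, cl_dt, cl_ht, cl_it, cl_dt, cl_ct, cl_bt, cl_dt, cl_et, cl_ft, cl_dt, cl_ht, cl_it, cl_dt, cl_ct, cl_bt, cl_dt, cl_et, cl_ft, cl_dt, cl_ht, cl_it, cl_dt, cl_ct, cl_bt, cl_dt, cl_et, cl_ft, cl_dt, cl_ht, cl_it, cl_dt, cl_ct, cl_bt, cl_dt, cl_et, cl_ft, cl_dt, cl_ht, cl_it, cl_dt, cl_ct, cl_bt, cl_dt, cl_et, cl_ft, cl_dt, cl_ht, cl_it, cl_dt, cl_ct, cl_bt, cl_dt, cl_et, cl_ft, cl_dt, cl_ht, cl_it, cl_dt, cl_ct]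
  (wG_of_rotate rels relW_55 [cl_bt, cl_dt, cl_et, cl_ft, cl_dt, cl_ht, cl_it, cl_dt, cl_ct, cl_bt, cl_dt, cl_et, cl_ft, cl_dt, cl_ht, cl_it, cl_dt, cl_ct, cl_bt, cl_dt, cl_et, cl_ft, cl_dt, cl_ht, cl_it, cl_dt, cl_ct, cl_bt, cl_dt, cl_et, cl_ft, cl_dt, cl_ht, cl_it, cl_dt, cl_ct, cl_bt, cl_dt, cl_et, cl_ft, cl_dt, cl_ht, cl_it, cl_dt, cl_ct, cl_bt, cl_dt, cl_et, cl_ft, cl_dt, cl_ht, cl_it, cl_dt, cl_ct, cl_bt, cl_dt, cl_et, cl_ft, cl_dt, cl_ht, cl_it, cl_dt, cl_ct, cl_bt, cl_dt, cl_et, cl_ft, cl_dt, cl_ht, cl_it, cl_dt, cl_ct, cl_bt, cl_dt, cl_et, cl_ft, cl_dt, cl_ht, cl_it, cl_dt, cl_ct, cl_bt, cl_dt, cl_et, cl_ft, cl_dt, cl_ht, cl_it, cl_dt, cl_ct] 38 (by decide +kernel) relone_55)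
def rc_56_50 : Cert rels S Gen.b := Cert.rel true [cl_ct, cl_dt, cl_et, cl_ft, cl_ht, cl_at, cl_bt, cl_ct, cl_dt, cl_et, cl_ft, cl_ht, cl_at, cl_bt, cl_ct, cl_dt, cl_et, cl_ft, cl_ht, cl_at, cl_bt, cl_ct, cl_dt, cl_et, cl_ft, cl_ht, cl_at, cl_bt, cl_ct, cl_dt, cl_et, cl_ft, cl_ht, cl_at, cl_bt, cl_ct, cl_dt, cl_et, cl_ft, cl_ht, cl_at, cl_bt, cl_ct, cl_dt, cl_et, cl_ft, cl_ht, cl_at, cl_bt, cl_ct, cl_dt, cl_et, cl_ft, cl_ht, cl_at, cl_bt, cl_ct, cl_dt, cl_et, cl_ft, cl_ht, cl_at]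
  (wG_of_rotate rels relW_56 [cl_bt, cl_ct, cl_dt, cl_et, cl_ft, cl_ht, cl_at, cl_bt, cl_ct, cl_dt, cl_et, cl_ft, cl_ht, cl_at, cl_bt, cl_ct, cl_dt, cl_et, cl_ft, cl_ht, cl_at, cl_bt, cl_ct, cl_dt, cl_et, cl_ft, cl_ht, cl_at, cl_bt, cl_ct, cl_dt, cl_et, cl_ft, cl_ht, cl_at, cl_bt, cl_ct, cl_dt, cl_et, cl_ft, cl_ht, cl_at, cl_bt, cl_ct, cl_dt, cl_et, cl_ft, cl_ht, cl_at, cl_bt, cl_ct, cl_dt, cl_et, cl_ft, cl_ht, cl_at, cl_bt, cl_ct, cl_dt, cl_et, cl_ft, cl_ht, cl_at] 50 (by decide +kernel) relone_56)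
def rc_56_43 : Cert rels S Gen.b := Cert.rel true [cl_ct, cl_dt, cl_et, cl_ft, cl_ht, cl_at, cl_bt, cl_ct, cl_dt, cl_et, cl_ft, cl_ht, cl_at, cl_bt, cl_ct, cl_dt, cl_et, cl_ft, cl_ht, cl_at, cl_bt, cl_ct, cl_dt, cl_et, cl_ft, cl_ht, cl_at, cl_bt, cl_ct, cl_dt, cl_et, cl_ft, cl_ht, cl_at, cl_bt, cl_ct, cl_dt, cl_et, cl_ft, cl_ht, cl_at, cl_bt, cl_ct, cl_dt, cl_et, cl_ft, cl_ht, cl_at, cl_bt, cl_ct, cl_dt, cl_et, cl_ft, cl_ht, cl_at, cl_bt, cl_ct, cl_dt, cl_et, cl_ft, cl_ht, cl_at]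
  (wG_of_rotate rels relW_56 [cl_bt, cl_ct, cl_dt, cl_et, cl_ft, cl_ht, cl_at, cl_bt, cl_ct, cl_dt, cl_et, cl_ft, cl_ht, cl_at, cl_bt, cl_ct, cl_dt, cl_et, cl_ft, cl_ht, cl_at, cl_bt, cl_ct, cl_dt, cl_et, cl_ft, cl_ht, cl_at, cl_bt, cl_ct, cl_dt, cl_et, cl_ft, cl_ht, cl_at, cl_bt, cl_ct, cl_dt, cl_et, cl_ft, cl_ht, cl_at, cl_bt, cl_ct, cl_dt, cl_et, cl_ft, cl_ht, cl_at, cl_bt, cl_ct, cl_dt, cl_et, cl_ft, cl_ht, cl_at, cl_bt, cl_ct, cl_dt, cl_et, cl_ft, cl_ht, cl_at] 43 (by decide +kernel) relone_56)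
def rc_55_83 : Cert rels S Gen.b := Cert.rel true [cl_dt, cl_et, cl_ft, cl_dt, cl_ht, cl_it, cl_dt, cl_ct, cl_bt, cl_dt, cl_et, cl_ft, cl_dt, cl_ht, cl_it, cl_dt, cl_ct, cl_bt, cl_dt, cl_et, cl_ft, cl_dt, cl_ht, cl_it, cl_dt, cl_ct, cl_bt, cl_dt, cl_et, cl_ft, cl_dt, cl_ht, cl_it, cl_dt, cl_ct, cl_bt, cl_dt, cl_et, cl_ft, cl_dt, cl_ht, cl_it, cl_dt, cl_ct, cl_bt, cl_dt, cl_et, cl_ft, cl_dt, cl_ht, cl_it, cl_dt, cl_ct, cl_bt, cl_dt, cl_et, cl_ft, cl_dt, cl_ht, cl_it, cl_dt, cl_ct, cl_bt, cl_dt, cl_et, cl_ft, cl_dt, cl_ht, cl_it, cl_dt, cl_ct, cl_bt, cl_dt, cl_et, cl_ft, cl_dt, cl_ht, cl_it, cl_dt, cl_ct, cl_bt, cl_dt, cl_et, cl_ft, cl_dt, cl_ht, cl_it, cl_dt, cl_ct]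
  (wG_of_rotate rels relW_55 [cl_bt, cl_dt, cl_et, cl_ft, cl_dt, cl_ht, cl_it, cl_dt, cl_ct, cl_bt, cl_dt, cl_et, cl_ft, cl_dt, cl_ht, cl_it, cl_dt, cl_ct, cl_bt, cl_dt, cl_et, cl_ft, cl_dt, cl_ht, cl_it, cl_dt, cl_ct, cl_bt, cl_dt, cl_et, cl_ft, cl_dt, cl_ht, cl_it, cl_dt, cl_ct, cl_bt, cl_dt, cl_et, cl_ft, cl_dt, cl_ht, cl_it, cl_dt, cl_ct, cl_bt, cl_dt, cl_et, cl_ft, cl_dt, cl_ht, cl_it, cl_dt, cl_ct, cl_bt, cl_dt, cl_et, cl_ft, cl_dt, cl_ht, cl_it, cl_dt, cl_ct, cl_bt, cl_dt, cl_et, cl_ft, cl_dt, cl_ht, cl_it, cl_dt, cl_ct, cl_bt, cl_dt, cl_et, cl_ft, cl_dt, cl_ht, cl_it, cl_dt, cl_ct, cl_bt, cl_dt, cl_et, cl_ft, cl_dt, cl_ht, cl_it, cl_dt, cl_ct] 83 (by decide +kernel) relone_55)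
def rc_55_29 : Cert rels S Gen.b := Cert.rel true [cl_dt, cl_et, cl_ft, cl_dt, cl_ht, cl_it, cl_dt, cl_ct, cl_bt, cl_dt, cl_et, cl_ft, cl_dt, cl_ht, cl_it, cl_dt, cl_ct, cl_bt, cl_dt, cl_et, cl_ft, cl_dt, cl_ht, cl_it, cl_dt, cl_ct, cl_bt, cl_dt, cl_et, cl_ft, cl_dt, cl_ht, cl_it, cl_dt, cl_ct, cl_bt, cl_dt, cl_et, cl_ft, cl_dt, cl_ht, cl_it, cl_dt, cl_ct, cl_bt, cl_dt, cl_et, cl_ft, cl_dt, cl_ht, cl_it, cl_dt, cl_ct, cl_bt, cl_dt, cl_et, cl_ft, cl_dt, cl_ht, cl_it, cl_dt, cl_ct, cl_bt, cl_dt, cl_et, cl_ft, cl_dt, cl_ht, cl_it, cl_dt, cl_ct, cl_bt, cl_dt, cl_et, cl_ft, cl_dt, cl_ht, cl_it, cl_dt, cl_ct, cl_bt, cl_dt, cl_et, cl_ft, cl_dt, cl_ht, cl_it, cl_dt, cl_ct]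
  (wG_of_rotate rels relW_55 [cl_bt, cl_dt, cl_et, cl_ft, cl_dt, cl_ht, cl_it, cl_dt, cl_ct, cl_bt, cl_dt, cl_et, cl_ft, cl_dt, cl_ht, cl_it, cl_dt, cl_ct, cl_bt, cl_dt, cl_et, cl_ft, cl_dt, cl_ht, cl_it, cl_dt, cl_ct, cl_bt, cl_dt, cl_et, cl_ft, cl_dt, cl_ht, cl_it, cl_dt, cl_ct, cl_bt, cl_dt, cl_et, cl_ft, cl_dt, cl_ht, cl_it, cl_dt, cl_ct, cl_bt, cl_dt, cl_et, cl_ft, cl_dt, cl_ht, cl_it, cl_dt, cl_ct, cl_bt, cl_dt, cl_et, cl_ft, cl_dt, cl_ht, cl_it, cl_dt, cl_ct, cl_bt, cl_dt, cl_et, cl_ft, cl_dt, cl_ht, cl_it, cl_dt, cl_ct, cl_bt, cl_dt, cl_et, cl_ft, cl_dt, cl_ht, cl_it, cl_dt, cl_ct, cl_bt, cl_dt, cl_et, cl_ft, cl_dt, cl_ht, cl_it, cl_dt, cl_ct] 29 (by decide +kernel) relone_55)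
def rc_55_20 : Cert rels S Gen.b := Cert.rel true [cl_dt, cl_et, cl_ft, cl_dt, cl_ht, cl_it, cl_dt, cl_ct, cl_bt, cl_dt, cl_et, cl_ft, cl_dt, cl_ht, cl_it, cl_dt, cl_ct, cl_bt, cl_dt, cl_et, cl_ft, cl_dt, cl_ht, cl_it, cl_dt, cl_ct, cl_bt, cl_dt, cl_et, cl_ft, cl_dt, cl_ht, cl_it, cl_dt, cl_ct, cl_bt, cl_dt, cl_et, cl_ft, cl_dt, cl_ht, cl_it, cl_dt, cl_ct, cl_bt, cl_dt, cl_et, cl_ft, cl_dt, cl_ht, cl_it, cl_dt, cl_ct, cl_bt, cl_dt, cl_et, cl_ft, cl_dt, cl_ht, cl_it, cl_dt, cl_ct, cl_bt, cl_dt, cl_et, cl_ft, cl_dt, cl_ht, cl_it, cl_dt, cl_ct, cl_bt, cl_dt, cl_et, cl_ft, cl_dt, cl_ht, cl_it, cl_dt, cl_ct, cl_bt, cl_dt, cl_et, cl_ft, cl_dt, cl_ht, cl_it, cl_dt, cl_ct]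
  (wG_of_rotate rels relW_55 [cl_bt, cl_dt, cl_et, cl_ft, cl_dt, cl_ht, cl_it, cl_dt, cl_ct, cl_bt, cl_dt, cl_et, cl_ft, cl_dt, cl_ht, cl_it, cl_dt, cl_ct, cl_bt, cl_dt, cl_et, cl_ft, cl_dt, cl_ht, cl_it, cl_dt, cl_ct, cl_bt, cl_dt, cl_et, cl_ft, cl_dt, cl_ht, cl_it, cl_dt, cl_ct, cl_bt, cl_dt, cl_et, cl_ft, cl_dt, cl_ht, cl_it, cl_dt, cl_ct, cl_bt, cl_dt, cl_et, cl_ft, cl_dt, cl_ht, cl_it, cl_dt, cl_ct, cl_bt, cl_dt, cl_et, cl_ft, cl_dt, cl_ht, cl_it, cl_dt, cl_ct, cl_bt, cl_dt, cl_et, cl_ft, cl_dt, cl_ht, cl_it, cl_dt, cl_ct, cl_bt, cl_dt, cl_et, cl_ft, cl_dt, cl_ht, cl_it, cl_dt, cl_ct, cl_bt, cl_dt, cl_et, cl_ft, cl_dt, cl_ht, cl_it, cl_dt, cl_ct] 20 (by decide +kernel) relone_55)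
def rc_55_47 : Cert rels S Gen.b := Cert.rel true [cl_dt, cl_et, cl_ft, cl_dt, cl_ht, cl_it, cl_dt, cl_ct, cl_bt, cl_dt, cl_et, cl_ft, cl_dt, cl_ht, cl_it, cl_dt, cl_ct, cl_bt, cl_dt, cl_et, cl_ft, cl_dt, cl_ht, cl_it, cl_dt, cl_ct, cl_bt, cl_dt, cl_et, cl_ft, cl_dt, cl_ht, cl_it, cl_dt, cl_ct, cl_bt, cl_dt, cl_et, cl_ft, cl_dt, cl_ht, cl_it, cl_dt, cl_ct, cl_bt, cl_dt, cl_et, cl_ft, cl_dt, cl_ht, cl_it, cl_dt, cl_ct, cl_bt, cl_dt, cl_et, cl_ft, cl_dt, cl_ht, cl_it, cl_dt, cl_ct, cl_bt, cl_dt, cl_et, cl_ft, cl_dt, cl_ht, cl_it, cl_dt, cl_ct, cl_bt, cl_dt, cl_et, cl_ft, cl_dt, cl_ht, cl_it, cl_dt, cl_ct, cl_bt, cl_dt, cl_et, cl_ft, cl_dt, cl_ht, cl_it, cl_dt, cl_ct]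
  (wG_of_rotate rels relW_55 [cl_bt, cl_dt, cl_et, cl_ft, cl_dt, cl_ht, cl_it, cl_dt, cl_ct, cl_bt, cl_dt, cl_et, cl_ft, cl_dt, cl_ht, cl_it, cl_dt, cl_ct, cl_bt, cl_dt, cl_et, cl_ft, cl_dt, cl_ht, cl_it, cl_dt, cl_ct, cl_bt, cl_dt, cl_et, cl_ft, cl_dt, cl_ht, cl_it, cl_dt, cl_ct, cl_bt, cl_dt, cl_et, cl_ft, cl_dt, cl_ht, cl_it, cl_dt, cl_ct, cl_bt, cl_dt, cl_et, cl_ft, cl_dt, cl_ht, cl_it, cl_dt, cl_ct, cl_bt, cl_dt, cl_et, cl_ft, cl_dt, cl_ht, cl_it, cl_dt, cl_ct, cl_bt, cl_dt, cl_et, cl_ft, cl_dt, cl_ht, cl_it, cl_dt, cl_ct, cl_bt, cl_dt, cl_et, cl_ft, cl_dt, cl_ht, cl_it, cl_dt, cl_ct, cl_bt, cl_dt, cl_et, cl_ft, cl_dt, cl_ht, cl_it, cl_dt, cl_ct] 47 (by decide +kernel) relone_55)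
def rc_56_15 : Cert rels S Gen.b := Cert.rel true [cl_ct, cl_dt, cl_et, cl_ft, cl_ht, cl_at, cl_bt, cl_ct, cl_dt, cl_et, cl_ft, cl_ht, cl_at, cl_bt, cl_ct, cl_dt, cl_et, cl_ft, cl_ht, cl_at, cl_bt, cl_ct, cl_dt, cl_et, cl_ft, cl_ht, cl_at, cl_bt, cl_ct, cl_dt, cl_et, cl_ft, cl_ht, cl_at, cl_bt, cl_ct, cl_dt, cl_et, cl_ft, cl_ht, cl_at, cl_bt, cl_ct, cl_dt, cl_et, cl_ft, cl_ht, cl_at, cl_bt, cl_ct, cl_dt, cl_et, cl_ft, cl_ht, cl_at, cl_bt, cl_ct, cl_dt, cl_et, cl_ft, cl_ht, cl_at]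
  (wG_of_rotate rels relW_56 [cl_bt, cl_ct, cl_dt, cl_et, cl_ft, cl_ht, cl_at, cl_bt, cl_ct, cl_dt, cl_et, cl_ft, cl_ht, cl_at, cl_bt, cl_ct, cl_dt, cl_et, cl_ft, cl_ht, cl_at, cl_bt, cl_ct, cl_dt, cl_et, cl_ft, cl_ht, cl_at, cl_bt, cl_ct, cl_dt, cl_et, cl_ft, cl_ht, cl_at, cl_bt, cl_ct, cl_dt, cl_et, cl_ft, cl_ht, cl_at, cl_bt, cl_ct, cl_dt, cl_et, cl_ft, cl_ht, cl_at, cl_bt, cl_ct, cl_dt, cl_et, cl_ft, cl_ht, cl_at, cl_bt, cl_ct, cl_dt, cl_et, cl_ft, cl_ht, cl_at] 15 (by decide +kernel) relone_56)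
def rc_55_2 : Cert rels S Gen.b := Cert.rel true [cl_dt, cl_et, cl_ft, cl_dt, cl_ht, cl_it, cl_dt, cl_ct, cl_bt, cl_dt, cl_et, cl_ft, cl_dt, cl_ht, cl_it, cl_dt, cl_ct, cl_bt, cl_dt, cl_et, cl_ft, cl_dt, cl_ht, cl_it, cl_dt, cl_ct, cl_bt, cl_dt, cl_et, cl_ft, cl_dt, cl_ht, cl_it, cl_dt, cl_ct, cl_bt, cl_dt, cl_et, cl_ft, cl_dt, cl_ht, cl_it, cl_dt, cl_ct, cl_bt, cl_dt, cl_et, cl_ft, cl_dt, cl_ht, cl_it, cl_dt, cl_ct, cl_bt, cl_dt, cl_et, cl_ft, cl_dt, cl_ht, cl_it, cl_dt, cl_ct, cl_bt, cl_dt, cl_et, cl_ft, cl_dt, cl_ht, cl_it, cl_dt, cl_ct, cl_bt, cl_dt, cl_et, cl_ft, cl_dt, cl_ht, cl_it, cl_dt, cl_ct, cl_bt, cl_dt, cl_et, cl_ft, cl_dt, cl_ht, cl_it, cl_dt, cl_ct]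
  (wG_of_rotate rels relW_55 [cl_bt, cl_dt, cl_et, cl_ft, cl_dt, cl_ht, cl_it, cl_dt, cl_ct, cl_bt, cl_dt, cl_et, cl_ft, cl_dt, cl_ht, cl_it, cl_dt, cl_ct, cl_bt, cl_dt, cl_et, cl_ft, cl_dt, cl_ht, cl_it, cl_dt, cl_ct, cl_bt, cl_dt, cl_et, cl_ft, cl_dt, cl_ht, cl_it, cl_dt, cl_ct, cl_bt, cl_dt, cl_et, cl_ft, cl_dt, cl_ht, cl_it, cl_dt, cl_ct, cl_bt, cl_dt, cl_et, cl_ft, cl_dt, cl_ht, cl_it, cl_dt, cl_ct, cl_bt, cl_dt, cl_et, cl_ft, cl_dt, cl_ht, cl_it, cl_dt, cl_ct, cl_bt, cl_dt, cl_et, cl_ft, cl_dt, cl_ht, cl_it, cl_dt, cl_ct, cl_bt, cl_dt, cl_et, cl_ft, cl_dt, cl_ht, cl_it, cl_dt, cl_ct, cl_bt, cl_dt, cl_et, cl_ft, cl_dt, cl_ht, cl_it, cl_dt, cl_ct] 2 (by decide +kernel) relone_55)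
def rc_25_2 : Cert rels S Gen.c := Cert.rel true [cl_jt, cl_ct, cl_jt]
  (wG_of_rotate rels relW_25 [cl_ct, cl_jt, cl_ct, cl_jt] 2 (by decide +kernel) relone_25)
def rc_24_2 : Cert rels S Gen.c := Cert.rel true [cl_gt, cl_ct, cl_gt]
  (wG_of_rotate rels relW_24 [cl_ct, cl_gt, cl_ct, cl_gt] 2 (by decide +kernel) relone_24)
def rc_23_2 : Cert rels S Gen.c := Cert.rel true [cl_ft, cl_ct, cl_ft]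
  (wG_of_rotate rels relW_23 [cl_ct, cl_ft, cl_ct, cl_ft] 2 (by decide +kernel) relone_23)
def rc_21_2 : Cert rels S Gen.c := Cert.rel true [cl_et, cl_ct, cl_et]
  (wG_of_rotate rels relW_21 [cl_ct, cl_et, cl_ct, cl_et] 2 (by decide +kernel) relone_21)
def rc_19_0 : Cert rels S Gen.c := Cert.rel true [cl_ct]
  (wG_of_rotate rels relW_19 [cl_ct, cl_ct] 0 (by decide +kernel) relone_19)
def rc_22_2 : Cert rels S Gen.c := Cert.rel true [cl_ht, cl_ct, cl_ht]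
  (wG_of_rotate rels relW_22 [cl_ct, cl_ht, cl_ct, cl_ht] 2 (by decide +kernel) relone_22)
def rc_11_3 : Cert rels S Gen.c := Cert.rel true [cl_bt, cl_ct, cl_bt, cl_ct, cl_bt]
  (wG_of_rotate rels relW_11 [cl_ct, cl_bt, cl_ct, cl_bt, cl_ct, cl_bt] 3 (by decide +kernel) relone_11)
def rc_26_2 : Cert rels S Gen.c := Cert.rel true [cl_it, cl_ct, cl_it]
  (wG_of_rotate rels relW_26 [cl_ct, cl_it, cl_ct, cl_it] 2 (by decide +kernel) relone_26)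
def rc_2_1 : Cert rels S Gen.c := Cert.rel true [cl_at, cl_ct, cl_at]
  (wG_of_rotate rels relW_2 [cl_ct, cl_at, cl_ct, cl_at] 1 (by decide +kernel) relone_2)
def rc_20_2 : Cert rels S Gen.c := Cert.rel true [cl_dt, cl_ct, cl_dt, cl_ct, cl_dt]
  (wG_of_rotate rels relW_20 [cl_ct, cl_dt, cl_ct, cl_dt, cl_ct, cl_dt] 2 (by decide +kernel) relone_20)
def rc_55_73 : Cert rels S Gen.c := Cert.rel true [cl_bt, cl_dt, cl_et, cl_ft, cl_dt, cl_ht, cl_it, cl_dt, cl_ct, cl_bt, cl_dt, cl_et, cl_ft, cl_dt, cl_ht, cl_it, cl_dt, cl_ct, cl_bt, cl_dt, cl_et, cl_ft, cl_dt, cl_ht, cl_it, cl_dt, cl_ct, cl_bt, cl_dt, cl_et, cl_ft, cl_dt, cl_ht, cl_it, cl_dt, cl_ct, cl_bt, cl_dt, cl_et, cl_ft, cl_dt, cl_ht, cl_it, cl_dt, cl_ct, cl_bt, cl_dt, cl_et, cl_ft, cl_dt, cl_ht, cl_it, cl_dt, cl_ct, cl_bt, cl_dt,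 cl_et, cl_ft, cl_dt, cl_ht, cl_it, cl_dt, cl_ct, cl_bt, cl_dt, cl_et, cl_ft, cl_dt, cl_ht, cl_it, cl_dt, cl_ct, cl_bt, cl_dt, cl_et, cl_ft, cl_dt, cl_ht, cl_it, cl_dt, cl_ct, cl_bt, cl_dt, cl_et, cl_ft, cl_dt, cl_ht, cl_it, cl_dt]
  (wG_of_rotate rels relW_55 [cl_ct, cl_bt, cl_dt, cl_et, cl_ft, cl_dt, cl_ht, cl_it, cl_dt, cl_ct, cl_bt, cl_dt, cl_et, cl_ft, cl_dt, cl_ht, cl_it, cl_dt, cl_ct, cl_bt, cl_dt, cl_et, cl_ft, cl_dt, cl_ht, cl_it, cl_dt, cl_ct, cl_bt, cl_dt, cl_et, cl_ft, cl_dt, cl_ht, cl_it, cl_dt, cl_ct, cl_bt, cl_dt, cl_et, cl_ft, cl_dt, cl_ht, cl_it, cl_dt, cl_ct, cl_bt, cl_dt, cl_et, cl_ft, cl_dt, cl_ht, cl_it, cl_dt, cl_ct, cl_bt, cl_dt, cl_et, cl_ft, cl_dt, cl_ht, cl_it, cl_dt, cl_ct, cl_bt, cl_dt, cl_et, cl_ft, cl_dt, cl_ht, cl_it, cl_dt, cl_ct, cl_bt, cl_dt,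 cl_et, cl_ft, cl_dt, cl_ht, cl_it, cl_dt, cl_ct, cl_bt, cl_dt, cl_et, cl_ft, cl_dt, cl_ht, cl_it, cl_dt] 73 (by decide +kernel) relone_55)
def rc_56_30 : Cert rels S Gen.c := Cert.rel true [cl_dt, cl_et, cl_ft, cl_ht, cl_at, cl_bt, cl_ct, cl_dt, cl_et, cl_ft, cl_ht, cl_at, cl_bt, cl_ct, cl_dt, cl_et, cl_ft, cl_ht, cl_at, cl_bt, cl_ct, cl_dt, cl_et, cl_ft, cl_ht, cl_at, cl_bt, cl_ct, cl_dt, cl_et, cl_ft, cl_ht, cl_at, cl_bt, cl_ct, cl_dt, cl_et, cl_ft, cl_ht, cl_at, cl_bt, cl_ct, cl_dt, cl_et, cl_ft, cl_ht, cl_at, cl_bt, cl_ct, cl_dt, cl_et, cl_ft, cl_ht, cl_at, cl_bt, cl_ct, cl_dt, cl_et, cl_ft, cl_ht, cl_at, cl_bt]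
  (wG_of_rotate rels relW_56 [cl_ct, cl_dt, cl_et, cl_ft, cl_ht, cl_at, cl_bt, cl_ct, cl_dt, cl_et, cl_ft, cl_ht, cl_at, cl_bt, cl_ct, cl_dt, cl_et, cl_ft, cl_ht, cl_at, cl_bt, cl_ct, cl_dt, cl_et, cl_ft, cl_ht, cl_at, cl_bt, cl_ct, cl_dt, cl_et, cl_ft, cl_ht, cl_at, cl_bt, cl_ct, cl_dt, cl_et, cl_ft, cl_ht, cl_at, cl_bt, cl_ct, cl_dt, cl_et, cl_ft, cl_ht, cl_at, cl_bt, cl_ct, cl_dt, cl_et, cl_ft, cl_ht, cl_at, cl_bt, cl_ct, cl_dt, cl_et, cl_ft, cl_ht, cl_at, cl_bt] 30 (by decide +kernel) relone_56)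
def rc_2_3 : Cert rels S Gen.c := Cert.rel true [cl_at, cl_ct, cl_at]
  (wG_of_rotate rels relW_2 [cl_ct, cl_at, cl_ct, cl_at] 3 (by decide +kernel) relone_2)
def rc_21_0 : Cert rels S Gen.c := Cert.rel true [cl_et, cl_ct, cl_et]
  (wG_of_rotate rels relW_21 [cl_ct, cl_et, cl_ct, cl_et] 0 (by decide +kernel) relone_21)
def rc_20_4 : Cert rels S Gen.c := Cert.rel true [cl_dt, cl_ct, cl_dt, cl_ct, cl_dt]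
  (wG_of_rotate rels relW_20 [cl_ct, cl_dt, cl_ct, cl_dt, cl_ct, cl_dt] 4 (by decide +kernel) relone_20)
def rc_55_82 : Cert rels S Gen.c := Cert.rel true [cl_bt, cl_dt, cl_et, cl_ft, cl_dt, cl_ht, cl_it, cl_dt, cl_ct, cl_bt, cl_dt, cl_et, cl_ft, cl_dt, cl_ht, cl_it, cl_dt, cl_ct, cl_bt, cl_dt, cl_et, cl_ft, cl_dt, cl_ht, cl_it, cl_dt, cl_ct, cl_bt, cl_dt, cl_et, cl_ft, cl_dt, cl_ht, cl_it, cl_dt, cl_ct, cl_bt, cl_dt, cl_et, cl_ft, cl_dt, cl_ht, cl_it, cl_dt, cl_ct, cl_bt, cl_dt, cl_et, cl_ft, cl_dt, cl_ht, cl_it, cl_dt, cl_ct, cl_bt, cl_dt, cl_et, cl_ft, cl_dt, cl_ht, cl_it, cl_dt, cl_ct, cl_bt, cl_dt, cl_et, cl_ft, cl_dt, cl_ht, cl_it, cl_dt, cl_ct, cl_bt, cl_dt, cl_et, cl_ft, cl_dt, cl_ht, cl_it, cl_dt, cl_ct, cl_bt, cl_dt, cl_et, cl_ft, cl_dt, cl_ht, cl_it, cl_dt]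
  (wG_of_rotate rels relW_55 [cl_ct, cl_bt, cl_dt, cl_et, cl_ft, cl_dt, cl_ht, cl_it, cl_dt, cl_ct, cl_bt, cl_dt, cl_et, cl_ft, cl_dt, cl_ht, cl_it, cl_dt, cl_ct, cl_bt, cl_dt, cl_et, cl_ft, cl_dt, cl_ht, cl_it, cl_dt, cl_ct, cl_bt, cl_dt, cl_et, cl_ft, cl_dt, cl_ht, cl_it, cl_dt, cl_ct, cl_bt, cl_dt, cl_et, cl_ft, cl_dt, cl_ht, cl_it, cl_dt, cl_ct, cl_bt, cl_dt, cl_et, cl_ft, cl_dt, cl_ht, cl_it, cl_dt, cl_ct, cl_bt, cl_dt, cl_et, cl_ft, cl_dt, cl_ht, cl_it, cl_dt, cl_ct, cl_bt, cl_dt, cl_et, cl_ft, cl_dt, cl_ht, cl_it, cl_dt, cl_ct, cl_bt, cl_dt, cl_et, cl_ft, cl_dt, cl_ht, cl_it, cl_dt, cl_ct, cl_bt, cl_dt, cl_et, cl_ft, cl_dt, cl_ht, cl_it, cl_dt] 82 (by decide +kernel) relone_55)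
def rc_55_1 : Cert rels S Gen.c := Cert.rel true [cl_bt, cl_dt, cl_et, cl_ft, cl_dt, cl_ht, cl_it, cl_dt, cl_ct, cl_bt, cl_dt, cl_et, cl_ft, cl_dt, cl_ht, cl_it, cl_dt, cl_ct, cl_bt, cl_dt, cl_et, cl_ft, cl_dt, cl_ht, cl_it, cl_dt, cl_ct, cl_bt, cl_dt, cl_et, cl_ft, cl_dt, cl_ht, cl_it, cl_dt, cl_ct, cl_bt, cl_dt, cl_et, cl_ft, cl_dt, cl_ht, cl_it, cl_dt, cl_ct, cl_bt, cl_dt, cl_et, cl_ft, cl_dt, cl_ht, cl_it, cl_dt, cl_ct, cl_bt, cl_dt, cl_et, cl_ft, cl_dt, cl_ht, cl_it, cl_dt, cl_ct, cl_bt, cl_dt, cl_et, cl_ft, cl_dt, cl_ht, cl_it, cl_dt, cl_ct, cl_bt, cl_dt, cl_et, cl_ft, cl_dt, cl_ht, cl_it, cl_dt, cl_ct, cl_bt, cl_dt, cl_et, cl_ft, cl_dt, cl_ht, cl_it, cl_dt]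
  (wG_of_rotate rels relW_55 [cl_ct, cl_bt, cl_dt, cl_et, cl_ft, cl_dt, cl_ht, cl_it, cl_dt, cl_ct, cl_bt, cl_dt, cl_et, cl_ft, cl_dt, cl_ht, cl_it, cl_dt, cl_ct, cl_bt, cl_dt, cl_et, cl_ft, cl_dt, cl_ht, cl_it, cl_dt, cl_ct, cl_bt, cl_dt, cl_et, cl_ft, cl_dt, cl_ht, cl_it, cl_dt, cl_ct, cl_bt, cl_dt, cl_et, cl_ft, cl_dt, cl_ht, cl_it, cl_dt, cl_ct, cl_bt, cl_dt, cl_et, cl_ft, cl_dt, cl_ht, cl_it, cl_dt, cl_ct, cl_bt, cl_dt, cl_et, cl_ft, cl_dt, cl_ht, cl_it, cl_dt, cl_ct, cl_bt, cl_dt, cl_et, cl_ft, cl_dt, cl_ht, cl_it, cl_dt, cl_ct, cl_bt, cl_dt, cl_et, cl_ft, cl_dt, cl_ht, cl_it, cl_dt, cl_ct, cl_bt, cl_dt, cl_et, cl_ft, cl_dt, cl_ht, cl_it, cl_dt] 1 (by decide +kernel) relone_55)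
def rc_20_0 : Cert rels S Gen.c := Cert.rel true [cl_dt, cl_ct, cl_dt, cl_ct, cl_dt]
  (wG_of_rotate rels relW_20 [cl_ct, cl_dt, cl_ct, cl_dt, cl_ct, cl_dt] 0 (by decide +kernel) relone_20)
def rc_11_1 : Cert rels S Gen.c := Cert.rel true [cl_bt, cl_ct, cl_bt, cl_ct, cl_bt]
  (wG_of_rotate rels relW_11 [cl_ct, cl_bt, cl_ct, cl_bt, cl_ct, cl_bt] 1 (by decide +kernel) relone_11)
def rc_19_1 : Cert rels S Gen.c := Cert.rel true [cl_ct]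
  (wG_of_rotate rels relW_19 [cl_ct, cl_ct] 1 (by decide +kernel) relone_19)
def rc_22_0 : Cert rels S Gen.c := Cert.rel true [cl_ht, cl_ct, cl_ht]
  (wG_of_rotate rels relW_22 [cl_ct, cl_ht, cl_ct, cl_ht] 0 (by decide +kernel) relone_22)
def rc_55_64 : Cert rels S Gen.c := Cert.rel true [cl_bt, cl_dt, cl_et, cl_ft, cl_dt, cl_ht, cl_it, cl_dt, cl_ct, cl_bt, cl_dt, cl_et, cl_ft, cl_dt, cl_ht, cl_it, cl_dt, cl_ct, cl_bt, cl_dt, cl_et, cl_ft, cl_dt, cl_ht, cl_it, cl_dt, cl_ct, cl_bt, cl_dt, cl_et, cl_ft, cl_dt, cl_ht, cl_it, cl_dt, cl_ct, cl_bt, cl_dt, cl_et, cl_ft, cl_dt, cl_ht, cl_it, cl_dt, cl_ct, cl_bt, cl_dt, cl_et, cl_ft, cl_dt, cl_ht, cl_it, cl_dt, cl_ct, cl_bt, cl_dt, cl_et, cl_ft, cl_dt, cl_ht, cl_it, cl_dt, cl_ct, cl_bt, cl_dt, cl_et, cl_ft, cl_dt, cl_ht, cl_it, cl_dt,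 cl_ct, cl_bt, cl_dt, cl_et, cl_ft, cl_dt, cl_ht, cl_it, cl_dt, cl_ct, cl_bt, cl_dt, cl_et, cl_ft, cl_dt, cl_ht, cl_it, cl_dt]
  (wG_of_rotate rels relW_55 [cl_ct, cl_bt, cl_dt, cl_et, cl_ft, cl_dt, cl_ht, cl_it, cl_dt, cl_ct, cl_bt, cl_dt, cl_et, cl_ft, cl_dt, cl_ht, cl_it, cl_dt, cl_ct, cl_bt, cl_dt, cl_et, cl_ft, cl_dt, cl_ht, cl_it, cl_dt, cl_ct, cl_bt, cl_dt, cl_et, cl_ft, cl_dt, cl_ht, cl_it, cl_dt, cl_ct, cl_bt, cl_dt, cl_et, cl_ft, cl_dt, cl_ht, cl_it, cl_dt, cl_ct, cl_bt, cl_dt, cl_et, cl_ft, cl_dt, cl_ht, cl_it, cl_dt, cl_ct, cl_bt, cl_dt, cl_et, cl_ft, cl_dt, cl_ht, cl_it, cl_dt, cl_ct, cl_bt, cl_dt, cl_et, cl_ft, cl_dt, cl_ht, cl_it, cl_dt, cl_ct, cl_bt, cl_dt, cl_et, cl_ft, cl_dt, cl_ht, cl_it, cl_dt, cl_ct, cl_bt, cl_dt, cl_et, cl_ft, cl_dt, cl_ht, cl_it, cl_dt]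 64 (by decide +kernel) relone_55)
def rc_56_58 : Cert rels S Gen.c := Cert.rel true [cl_dt, cl_et, cl_ft, cl_ht, cl_at, cl_bt, cl_ct, cl_dt, cl_et, cl_ft, cl_ht, cl_at, cl_bt, cl_ct, cl_dt, cl_et, cl_ft, cl_ht, cl_at, cl_bt, cl_ct, cl_dt, cl_et, cl_ft, cl_ht, cl_at, cl_bt, cl_ct, cl_dt, cl_et, cl_ft, cl_ht, cl_at, cl_bt, cl_ct, cl_dt, cl_et, cl_ft, cl_ht, cl_at, cl_bt, cl_ct, cl_dt, cl_et, cl_ft, cl_ht, cl_at, cl_bt, cl_ct, cl_dt, cl_et, cl_ft, cl_ht, cl_at, cl_bt, cl_ct, cl_dt, cl_et, cl_ft, cl_ht, cl_at, cl_bt]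
  (wG_of_rotate rels relW_56 [cl_ct, cl_dt, cl_et, cl_ft, cl_ht, cl_at, cl_bt, cl_ct, cl_dt, cl_et, cl_ft, cl_ht, cl_at, cl_bt, cl_ct, cl_dt, cl_et, cl_ft, cl_ht, cl_at, cl_bt, cl_ct, cl_dt, cl_et, cl_ft, cl_ht, cl_at, cl_bt, cl_ct, cl_dt, cl_et, cl_ft, cl_ht, cl_at, cl_bt, cl_ct, cl_dt, cl_et, cl_ft, cl_ht, cl_at, cl_bt, cl_ct, cl_dt, cl_et, cl_ft, cl_ht, cl_at, cl_bt, cl_ct, cl_dt, cl_et, cl_ft, cl_ht, cl_at, cl_bt, cl_ct, cl_dt, cl_et, cl_ft, cl_ht, cl_at, cl_bt] 58 (by decide +kernel) relone_56)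
def rc_56_2 : Cert rels S Gen.c := Cert.rel true [cl_dt, cl_et, cl_ft, cl_ht, cl_at, cl_bt, cl_ct, cl_dt, cl_et, cl_ft, cl_ht, cl_at, cl_bt, cl_ct, cl_dt, cl_et, cl_ft, cl_ht, cl_at, cl_bt, cl_ct, cl_dt, cl_et, cl_ft, cl_ht, cl_at, cl_bt, cl_ct, cl_dt, cl_et, cl_ft, cl_ht, cl_at, cl_bt, cl_ct, cl_dt, cl_et, cl_ft, cl_ht, cl_at, cl_bt, cl_ct, cl_dt, cl_et, cl_ft, cl_ht, cl_at, cl_bt, cl_ct, cl_dt, cl_et, cl_ft, cl_ht, cl_at, cl_bt, cl_ct, cl_dt, cl_et, cl_ft, cl_ht, cl_at, cl_bt]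
  (wG_of_rotate rels relW_56 [cl_ct, cl_dt, cl_et, cl_ft, cl_ht, cl_at, cl_bt, cl_ct, cl_dt, cl_et, cl_ft, cl_ht, cl_at, cl_bt, cl_ct, cl_dt, cl_et, cl_ft, cl_ht, cl_at, cl_bt, cl_ct, cl_dt, cl_et, cl_ft, cl_ht, cl_at, cl_bt, cl_ct, cl_dt, cl_et, cl_ft, cl_ht, cl_at, cl_bt, cl_ct, cl_dt, cl_et, cl_ft, cl_ht, cl_at, cl_bt, cl_ct, cl_dt, cl_et, cl_ft, cl_ht, cl_at, cl_bt, cl_ct, cl_dt, cl_et, cl_ft, cl_ht, cl_at, cl_bt, cl_ct, cl_dt, cl_et, cl_ft, cl_ht, cl_at, cl_bt] 2 (by decide +kernel) relone_56)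
def rc_11_5 : Cert rels S Gen.c := Cert.rel true [cl_bt, cl_ct, cl_bt, cl_ct, cl_bt]
  (wG_of_rotate rels relW_11 [cl_ct, cl_bt, cl_ct, cl_bt, cl_ct, cl_bt] 5 (by decide +kernel) relone_11)
def rc_56_23 : Cert rels S Gen.c := Cert.rel true [cl_dt, cl_et, cl_ft, cl_ht, cl_at, cl_bt, cl_ct, cl_dt, cl_et, cl_ft, cl_ht, cl_at, cl_bt, cl_ct, cl_dt, cl_et, cl_ft, cl_ht, cl_at, cl_bt, cl_ct, cl_dt, cl_et, cl_ft, cl_ht, cl_at, cl_bt, cl_ct, cl_dt, cl_et, cl_ft, cl_ht, cl_at, cl_bt, cl_ct, cl_dt, cl_et, cl_ft, cl_ht, cl_at, cl_bt, cl_ct, cl_dt, cl_et, cl_ft, cl_ht, cl_at, cl_bt, cl_ct, cl_dt, cl_et, cl_ft, cl_ht, cl_at, cl_bt, cl_ct, cl_dt, cl_et, cl_ft, cl_ht, cl_at, cl_bt]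
  (wG_of_rotate rels relW_56 [cl_ct, cl_dt, cl_et, cl_ft, cl_ht, cl_at, cl_bt, cl_ct, cl_dt, cl_et, cl_ft, cl_ht, cl_at, cl_bt, cl_ct, cl_dt, cl_et, cl_ft, cl_ht, cl_at, cl_bt, cl_ct, cl_dt, cl_et, cl_ft, cl_ht, cl_at, cl_bt, cl_ct, cl_dt, cl_et, cl_ft, cl_ht, cl_at, cl_bt, cl_ct, cl_dt, cl_et, cl_ft, cl_ht, cl_at, cl_bt, cl_ct, cl_dt, cl_et, cl_ft, cl_ht, cl_at, cl_bt, cl_ct, cl_dt, cl_et, cl_ft, cl_ht, cl_at, cl_bt, cl_ct, cl_dt, cl_et, cl_ft, cl_ht, cl_at, cl_bt] 23 (by decide +kernel) relone_56)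
def rc_23_0 : Cert rels S Gen.c := Cert.rel true [cl_ft, cl_ct, cl_ft]
  (wG_of_rotate rels relW_23 [cl_ct, cl_ft, cl_ct, cl_ft] 0 (by decide +kernel) relone_23)
def rc_26_0 : Cert rels S Gen.c := Cert.rel true [cl_it, cl_ct, cl_it]
  (wG_of_rotate rels relW_26 [cl_ct, cl_it, cl_ct, cl_it] 0 (by decide +kernel) relone_26)
def rc_55_55 : Cert rels S Gen.c := Cert.rel true [cl_bt, cl_dt, cl_et, cl_ft, cl_dt, cl_ht, cl_it, cl_dt, cl_ct, cl_bt, cl_dt, cl_et, cl_ft, cl_dt, cl_ht, cl_it, cl_dt, cl_ct, cl_bt, cl_dt, cl_et, cl_ft, cl_dt, cl_ht, cl_it, cl_dt, cl_ct, cl_bt, cl_dt, cl_et, cl_ft, cl_dt, cl_ht, cl_it, cl_dt, cl_ct, cl_bt, cl_dt, cl_et, cl_ft, cl_dt, cl_ht, cl_it, cl_dt, cl_ct, cl_bt, cl_dt, cl_et, cl_ft, cl_dt, cl_ht, cl_it, cl_dt, cl_ct, cl_bt, cl_dt, cl_et, cl_ft, cl_dt,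 cl_ht, cl_it, cl_dt, cl_ct, cl_bt, cl_dt, cl_et, cl_ft, cl_dt, cl_ht, cl_it, cl_dt, cl_ct, cl_bt, cl_dt, cl_et, cl_ft, cl_dt, cl_ht, cl_it, cl_dt, cl_ct, cl_bt, cl_dt, cl_et, cl_ft, cl_dt, cl_ht, cl_it, cl_dt]
  (wG_of_rotate rels relW_55 [cl_ct, cl_bt, cl_dt, cl_et, cl_ft, cl_dt, cl_ht, cl_it, cl_dt, cl_ct, cl_bt, cl_dt, cl_et, cl_ft, cl_dt, cl_ht, cl_it, cl_dt, cl_ct, cl_bt, cl_dt, cl_et, cl_ft, cl_dt, cl_ht, cl_it, cl_dt, cl_ct, cl_bt, cl_dt, cl_et, cl_ft, cl_dt, cl_ht, cl_it, cl_dt, cl_ct, cl_bt, cl_dt, cl_et, cl_ft, cl_dt, cl_ht, cl_it, cl_dt, cl_ct, cl_bt, cl_dt, cl_et, cl_ft, cl_dt, cl_ht, cl_it, cl_dt, cl_ct, cl_bt, cl_dt, cl_et, cl_ft, cl_dt, cl_ht, cl_it, cl_dt, cl_ct, cl_bt, cl_dt, cl_et, cl_ft, cl_dt, cl_ht, cl_it, cl_dt, cl_ct, cl_bt, cl_dt, cl_et, cl_ft, cl_dt,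 cl_ht, cl_it, cl_dt, cl_ct, cl_bt, cl_dt, cl_et, cl_ft, cl_dt, cl_ht, cl_it, cl_dt] 55 (by decide +kernel) relone_55)
def rc_56_37 : Cert rels S Gen.c := Cert.rel true [cl_dt, cl_et, cl_ft, cl_ht, cl_at, cl_bt, cl_ct, cl_dt, cl_et, cl_ft, cl_ht, cl_at, cl_bt, cl_ct, cl_dt, cl_et, cl_ft, cl_ht, cl_at, cl_bt, cl_ct, cl_dt, cl_et, cl_ft, cl_ht, cl_at, cl_bt, cl_ct, cl_dt, cl_et, cl_ft, cl_ht, cl_at, cl_bt, cl_ct, cl_dt, cl_et, cl_ft, cl_ht, cl_at, cl_bt, cl_ct, cl_dt, cl_et, cl_ft, cl_ht, cl_at, cl_bt, cl_ct, cl_dt, cl_et, cl_ft, cl_ht, cl_at, cl_bt, cl_ct, cl_dt, cl_et, cl_ft, cl_ht, cl_at, cl_bt]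
  (wG_of_rotate rels relW_56 [cl_ct, cl_dt, cl_et, cl_ft, cl_ht, cl_at, cl_bt, cl_ct, cl_dt, cl_et, cl_ft, cl_ht, cl_at, cl_bt, cl_ct, cl_dt, cl_et, cl_ft, cl_ht, cl_at, cl_bt, cl_ct, cl_dt, cl_et, cl_ft, cl_ht, cl_at, cl_bt, cl_ct, cl_dt, cl_et, cl_ft, cl_ht, cl_at, cl_bt, cl_ct, cl_dt, cl_et, cl_ft, cl_ht, cl_at, cl_bt, cl_ct, cl_dt, cl_et, cl_ft, cl_ht, cl_at, cl_bt, cl_ct, cl_dt, cl_et, cl_ft, cl_ht, cl_at, cl_bt, cl_ct, cl_dt, cl_et, cl_ft, cl_ht, cl_at, cl_bt] 37 (by decide +kernel) relone_56)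
def rc_56_9 : Cert rels S Gen.c := Cert.rel true [cl_dt, cl_et, cl_ft, cl_ht, cl_at, cl_bt, cl_ct, cl_dt, cl_et, cl_ft, cl_ht, cl_at, cl_bt, cl_ct, cl_dt, cl_et, cl_ft, cl_ht, cl_at, cl_bt, cl_ct, cl_dt, cl_et, cl_ft, cl_ht, cl_at, cl_bt, cl_ct, cl_dt, cl_et, cl_ft, cl_ht, cl_at, cl_bt, cl_ct, cl_dt, cl_et, cl_ft, cl_ht, cl_at, cl_bt, cl_ct, cl_dt, cl_et, cl_ft, cl_ht, cl_at, cl_bt, cl_ct, cl_dt, cl_et, cl_ft, cl_ht, cl_at, cl_bt, cl_ct, cl_dt, cl_et, cl_ft, cl_ht, cl_at, cl_bt]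
  (wG_of_rotate rels relW_56 [cl_ct, cl_dt, cl_et, cl_ft, cl_ht, cl_at, cl_bt, cl_ct, cl_dt, cl_et, cl_ft, cl_ht, cl_at, cl_bt, cl_ct, cl_dt, cl_et, cl_ft, cl_ht, cl_at, cl_bt, cl_ct, cl_dt, cl_et, cl_ft, cl_ht, cl_at, cl_bt, cl_ct, cl_dt, cl_et, cl_ft, cl_ht, cl_at, cl_bt, cl_ct, cl_dt, cl_et, cl_ft, cl_ht, cl_at, cl_bt, cl_ct, cl_dt, cl_et, cl_ft, cl_ht, cl_at, cl_bt, cl_ct, cl_dt, cl_et, cl_ft, cl_ht, cl_at, cl_bt, cl_ct, cl_dt, cl_et, cl_ft, cl_ht, cl_at, cl_bt] 9 (by decide +kernel) relone_56)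
def rc_56_44 : Cert rels S Gen.c := Cert.rel true [cl_dt, cl_et, cl_ft, cl_ht, cl_at, cl_bt, cl_ct, cl_dt, cl_et, cl_ft, cl_ht, cl_at, cl_bt, cl_ct, cl_dt, cl_et, cl_ft, cl_ht, cl_at, cl_bt, cl_ct, cl_dt, cl_et, cl_ft, cl_ht, cl_at, cl_bt, cl_ct, cl_dt, cl_et, cl_ft, cl_ht, cl_at, cl_bt, cl_ct, cl_dt, cl_et, cl_ft, cl_ht, cl_at, cl_bt, cl_ct, cl_dt, cl_et, cl_ft, cl_ht, cl_at, cl_bt, cl_ct, cl_dt, cl_et, cl_ft, cl_ht, cl_at, cl_bt, cl_ct, cl_dt, cl_et, cl_ft, cl_ht, cl_at, cl_bt]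
  (wG_of_rotate rels relW_56 [cl_ct, cl_dt, cl_et, cl_ft, cl_ht, cl_at, cl_bt, cl_ct, cl_dt, cl_et, cl_ft, cl_ht, cl_at, cl_bt, cl_ct, cl_dt, cl_et, cl_ft, cl_ht, cl_at, cl_bt, cl_ct, cl_dt, cl_et, cl_ft, cl_ht, cl_at, cl_bt, cl_ct, cl_dt, cl_et, cl_ft, cl_ht, cl_at, cl_bt, cl_ct, cl_dt, cl_et, cl_ft, cl_ht, cl_at, cl_bt, cl_ct, cl_dt, cl_et, cl_ft, cl_ht, cl_at, cl_bt, cl_ct, cl_dt, cl_et, cl_ft, cl_ht, cl_at, cl_bt, cl_ct, cl_dt, cl_et, cl_ft, cl_ht, cl_at, cl_bt] 44 (by decide +kernel) relone_56)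
def rc_56_16 : Cert rels S Gen.c := Cert.rel true [cl_dt, cl_et, cl_ft, cl_ht, cl_at, cl_bt, cl_ct, cl_dt, cl_et, cl_ft, cl_ht, cl_at, cl_bt, cl_ct, cl_dt, cl_et, cl_ft, cl_ht, cl_at, cl_bt, cl_ct, cl_dt, cl_et, cl_ft, cl_ht, cl_at, cl_bt, cl_ct, cl_dt, cl_et, cl_ft, cl_ht, cl_at, cl_bt, cl_ct, cl_dt, cl_et, cl_ft, cl_ht, cl_at, cl_bt, cl_ct, cl_dt, cl_et, cl_ft, cl_ht, cl_at, cl_bt, cl_ct, cl_dt, cl_et, cl_ft, cl_ht, cl_at, cl_bt, cl_ct, cl_dt, cl_et, cl_ft, cl_ht, cl_at, cl_bt]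
  (wG_of_rotate rels relW_56 [cl_ct, cl_dt, cl_et, cl_ft, cl_ht, cl_at, cl_bt, cl_ct, cl_dt, cl_et, cl_ft, cl_ht, cl_at, cl_bt, cl_ct, cl_dt, cl_et, cl_ft, cl_ht, cl_at, cl_bt, cl_ct, cl_dt, cl_et, cl_ft, cl_ht, cl_at, cl_bt, cl_ct, cl_dt, cl_et, cl_ft, cl_ht, cl_at, cl_bt, cl_ct, cl_dt, cl_et, cl_ft, cl_ht, cl_at, cl_bt, cl_ct, cl_dt, cl_et, cl_ft, cl_ht, cl_at, cl_bt, cl_ct, cl_dt, cl_et, cl_ft, cl_ht, cl_at, cl_bt, cl_ct, cl_dt, cl_et, cl_ft, cl_ht, cl_at, cl_bt] 16 (by decide +kernel) relone_56)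
def rc_55_19 : Cert rels S Gen.c := Cert.rel true [cl_bt, cl_dt, cl_et, cl_ft, cl_dt, cl_ht, cl_it, cl_dt, cl_ct, cl_bt, cl_dt, cl_et, cl_ft, cl_dt, cl_ht, cl_it, cl_dt, cl_ct, cl_bt, cl_dt, cl_et, cl_ft, cl_dt, cl_ht, cl_it, cl_dt, cl_ct, cl_bt, cl_dt, cl_et, cl_ft, cl_dt, cl_ht, cl_it, cl_dt, cl_ct, cl_bt, cl_dt, cl_et, cl_ft, cl_dt, cl_ht, cl_it, cl_dt, cl_ct, cl_bt, cl_dt, cl_et, cl_ft, cl_dt, cl_ht, cl_it, cl_dt, cl_ct, cl_bt, cl_dt, cl_et, cl_ft, cl_dt, cl_ht, cl_it, cl_dt, cl_ct, cl_bt, cl_dt, cl_et, cl_ft, cl_dt, cl_ht, cl_it, cl_dt, cl_ct, cl_bt, cl_dt, cl_et, cl_ft, cl_dt, cl_ht, cl_it, cl_dt, cl_ct, cl_bt, cl_dt, cl_et, cl_ft, cl_dt, cl_ht, cl_it, cl_dt]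
  (wG_of_rotate rels relW_55 [cl_ct, cl_bt, cl_dt, cl_et, cl_ft, cl_dt, cl_ht, cl_it, cl_dt, cl_ct, cl_bt, cl_dt, cl_et, cl_ft, cl_dt, cl_ht, cl_it, cl_dt, cl_ct, cl_bt, cl_dt, cl_et, cl_ft, cl_dt, cl_ht, cl_it, cl_dt, cl_ct, cl_bt, cl_dt, cl_et, cl_ft, cl_dt, cl_ht, cl_it, cl_dt, cl_ct, cl_bt, cl_dt, cl_et, cl_ft, cl_dt, cl_ht, cl_it, cl_dt, cl_ct, cl_bt, cl_dt, cl_et, cl_ft, cl_dt, cl_ht, cl_it, cl_dt, cl_ct, cl_bt, cl_dt, cl_et, cl_ft, cl_dt, cl_ht, cl_it, cl_dt, cl_ct, cl_bt, cl_dt, cl_et, cl_ft, cl_dt, cl_ht, cl_it, cl_dt, cl_ct, cl_bt, cl_dt, cl_et, cl_ft, cl_dt, cl_ht, cl_it, cl_dt, cl_ct, cl_bt, cl_dt, cl_et, cl_ft, cl_dt, cl_ht, cl_it, cl_dt] 19 (by decide +kernel) relone_55)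
def rc_55_37 : Cert rels S Gen.c := Cert.rel true [cl_bt, cl_dt, cl_et, cl_ft, cl_dt, cl_ht, cl_it, cl_dt, cl_ct, cl_bt, cl_dt, cl_et, cl_ft, cl_dt, cl_ht, cl_it, cl_dt, cl_ct, cl_bt, cl_dt, cl_et, cl_ft, cl_dt, cl_ht, cl_it, cl_dt, cl_ct, cl_bt, cl_dt, cl_et, cl_ft, cl_dt, cl_ht, cl_it, cl_dt, cl_ct, cl_bt, cl_dt, cl_et, cl_ft, cl_dt, cl_ht, cl_it, cl_dt, cl_ct, cl_bt, cl_dt, cl_et, cl_ft, cl_dt, cl_ht, cl_it, cl_dt, cl_ct, cl_bt, cl_dt, cl_et, cl_ft, cl_dt, cl_ht, cl_it, cl_dt, cl_ct, cl_bt, cl_dt, cl_et, cl_ft, cl_dt, cl_ht, cl_it, cl_dt, cl_ct, cl_bt, cl_dt, cl_et, cl_ft, cl_dt, cl_ht, cl_it, cl_dt, cl_ct, cl_bt, cl_dt, cl_et, cl_ft, cl_dt, cl_ht, cl_it, cl_dt]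
  (wG_of_rotate rels relW_55 [cl_ct, cl_bt, cl_dt, cl_et, cl_ft, cl_dt, cl_ht, cl_it, cl_dt, cl_ct, cl_bt, cl_dt, cl_et, cl_ft, cl_dt, cl_ht, cl_it, cl_dt, cl_ct, cl_bt, cl_dt, cl_et, cl_ft, cl_dt, cl_ht, cl_it, cl_dt, cl_ct, cl_bt, cl_dt, cl_et, cl_ft, cl_dt, cl_ht, cl_it, cl_dt, cl_ct, cl_bt, cl_dt, cl_et, cl_ft, cl_dt, cl_ht, cl_it, cl_dt, cl_ct, cl_bt, cl_dt, cl_et, cl_ft, cl_dt, cl_ht, cl_it, cl_dt, cl_ct, cl_bt, cl_dt, cl_et, cl_ft, cl_dt, cl_ht, cl_it, cl_dt, cl_ct, cl_bt, cl_dt, cl_et, cl_ft, cl_dt, cl_ht, cl_it, cl_dt, cl_ct, cl_bt, cl_dt, cl_et, cl_ft, cl_dt, cl_ht, cl_it, cl_dt, cl_ct, cl_bt, cl_dt, cl_et, cl_ft, cl_dt, cl_ht, cl_it, cl_dt] 37 (by decide +kernel) relone_55)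
def rc_55_10 : Cert rels S Gen.c := Cert.rel true [cl_bt, cl_dt, cl_et, cl_ft, cl_dt, cl_ht, cl_it, cl_dt, cl_ct, cl_bt, cl_dt, cl_et, cl_ft, cl_dt, cl_ht, cl_it, cl_dt, cl_ct, cl_bt, cl_dt, cl_et, cl_ft, cl_dt, cl_ht, cl_it, cl_dt, cl_ct, cl_bt, cl_dt, cl_et, cl_ft, cl_dt, cl_ht, cl_it, cl_dt, cl_ct, cl_bt, cl_dt, cl_et, cl_ft, cl_dt, cl_ht, cl_it, cl_dt, cl_ct, cl_bt, cl_dt, cl_et, cl_ft, cl_dt, cl_ht, cl_it, cl_dt, cl_ct, cl_bt, cl_dt, cl_et, cl_ft, cl_dt, cl_ht, cl_it, cl_dt, cl_ct, cl_bt, cl_dt, cl_et, cl_ft, cl_dt, cl_ht, cl_it, cl_dt, cl_ct, cl_bt, cl_dt, cl_et, cl_ft, cl_dt, cl_ht, cl_it, cl_dt, cl_ct, cl_bt, cl_dt, cl_et, cl_ft, cl_dt, cl_ht, cl_it, cl_dt]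
  (wG_of_rotate rels relW_55 [cl_ct, cl_bt, cl_dt, cl_et, cl_ft, cl_dt, cl_ht, cl_it, cl_dt, cl_ct, cl_bt, cl_dt, cl_et, cl_ft, cl_dt, cl_ht, cl_it, cl_dt, cl_ct, cl_bt, cl_dt, cl_et, cl_ft, cl_dt, cl_ht, cl_it, cl_dt, cl_ct, cl_bt, cl_dt, cl_et, cl_ft, cl_dt, cl_ht, cl_it, cl_dt, cl_ct, cl_bt, cl_dt, cl_et, cl_ft, cl_dt, cl_ht, cl_it, cl_dt, cl_ct, cl_bt, cl_dt, cl_et, cl_ft, cl_dt, cl_ht, cl_it, cl_dt, cl_ct, cl_bt, cl_dt, cl_et, cl_ft, cl_dt, cl_ht, cl_it, cl_dt, cl_ct, cl_bt, cl_dt, cl_et, cl_ft, cl_dt, cl_ht, cl_it, cl_dt, cl_ct, cl_bt, cl_dt, cl_et, cl_ft, cl_dt, cl_ht, cl_it, cl_dt, cl_ct, cl_bt, cl_dt, cl_et, cl_ft, cl_dt, cl_ht, cl_it, cl_dt] 10 (by decide +kernel) relone_55)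
def rc_25_0 : Cert rels S Gen.c := Cert.rel true [cl_jt, cl_ct, cl_jt]
  (wG_of_rotate rels relW_25 [cl_ct, cl_jt, cl_ct, cl_jt] 0 (by decide +kernel) relone_25)
def rc_55_46 : Cert rels S Gen.c := Cert.rel true [cl_bt, cl_dt, cl_et, cl_ft, cl_dt, cl_ht, cl_it, cl_dt, cl_ct, cl_bt, cl_dt, cl_et, cl_ft, cl_dt, cl_ht, cl_it, cl_dt, cl_ct, cl_bt, cl_dt, cl_et, cl_ft, cl_dt, cl_ht, cl_it, cl_dt, cl_ct, cl_bt, cl_dt, cl_et, cl_ft, cl_dt, cl_ht, cl_it, cl_dt, cl_ct, cl_bt, cl_dt, cl_et, cl_ft, cl_dt, cl_ht, cl_it, cl_dt, cl_ct, cl_bt, cl_dt, cl_et, cl_ft, cl_dt, cl_ht, cl_it, cl_dt, cl_ct, cl_bt, cl_dt, cl_et, cl_ft, cl_dt, cl_ht, cl_it, cl_dt, cl_ct, cl_bt, cl_dt, cl_et, cl_ft, cl_dt, cl_ht, cl_it, cl_dt, cl_ct, cl_bt, cl_dt, cl_et, cl_ft, cl_dt, cl_ht, cl_it, cl_dt, cl_ct, cl_bt,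 cl_dt, cl_et, cl_ft, cl_dt, cl_ht, cl_it, cl_dt]
  (wG_of_rotate rels relW_55 [cl_ct, cl_bt, cl_dt, cl_et, cl_ft, cl_dt, cl_ht, cl_it, cl_dt, cl_ct, cl_bt, cl_dt, cl_et, cl_ft, cl_dt, cl_ht, cl_it, cl_dt, cl_ct, cl_bt, cl_dt, cl_et, cl_ft, cl_dt, cl_ht, cl_it, cl_dt, cl_ct, cl_bt, cl_dt, cl_et, cl_ft, cl_dt, cl_ht, cl_it, cl_dt, cl_ct, cl_bt, cl_dt, cl_et, cl_ft, cl_dt, cl_ht, cl_it, cl_dt, cl_ct, cl_bt, cl_dt, cl_et, cl_ft, cl_dt, cl_ht, cl_it, cl_dt, cl_ct, cl_bt, cl_dt, cl_et, cl_ft, cl_dt, cl_ht, cl_it, cl_dt, cl_ct, cl_bt, cl_dt, cl_et, cl_ft, cl_dt, cl_ht, cl_it, cl_dt, cl_ct, cl_bt, cl_dt, cl_et, cl_ft, cl_dt, cl_ht, cl_it, cl_dt, cl_ct, cl_bt, cl_dt, cl_et, cl_ft, cl_dt, cl_ht, cl_it, cl_dt] 46 (by decide +kernel) relone_55)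
def rc_24_0 : Cert rels S Gen.c := Cert.rel true [cl_gt, cl_ct, cl_gt]
  (wG_of_rotate rels relW_24 [cl_ct, cl_gt, cl_ct, cl_gt] 0 (by decide +kernel) relone_24)
def rc_56_51 : Cert rels S Gen.c := Cert.rel true [cl_dt, cl_et, cl_ft, cl_ht, cl_at, cl_bt, cl_ct, cl_dt, cl_et, cl_ft, cl_ht, cl_at, cl_bt, cl_ct, cl_dt, cl_et, cl_ft, cl_ht, cl_at, cl_bt, cl_ct, cl_dt, cl_et, cl_ft, cl_ht, cl_at, cl_bt, cl_ct, cl_dt, cl_et, cl_ft, cl_ht, cl_at, cl_bt, cl_ct, cl_dt, cl_et, cl_ft, cl_ht, cl_at, cl_bt, cl_ct, cl_dt, cl_et, cl_ft, cl_ht, cl_at, cl_bt, cl_ct, cl_dt, cl_et, cl_ft, cl_ht, cl_at, cl_bt, cl_ct, cl_dt, cl_et, cl_ft, cl_ht, cl_at, cl_bt]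
  (wG_of_rotate rels relW_56 [cl_ct, cl_dt, cl_et, cl_ft, cl_ht, cl_at, cl_bt, cl_ct, cl_dt, cl_et, cl_ft, cl_ht, cl_at, cl_bt, cl_ct, cl_dt, cl_et, cl_ft, cl_ht, cl_at, cl_bt, cl_ct, cl_dt, cl_et, cl_ft, cl_ht, cl_at, cl_bt, cl_ct, cl_dt, cl_et, cl_ft, cl_ht, cl_at, cl_bt, cl_ct, cl_dt, cl_et, cl_ft, cl_ht, cl_at, cl_bt, cl_ct, cl_dt, cl_et, cl_ft, cl_ht, cl_at, cl_bt, cl_ct, cl_dt, cl_et, cl_ft, cl_ht, cl_at, cl_bt, cl_ct, cl_dt, cl_et, cl_ft, cl_ht, cl_at, cl_bt] 51 (by decide +kernel) relone_56)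
def rc_55_28 : Cert rels S Gen.c := Cert.rel true [cl_bt, cl_dt, cl_et, cl_ft, cl_dt, cl_ht, cl_it, cl_dt, cl_ct, cl_bt, cl_dt, cl_et, cl_ft, cl_dt, cl_ht, cl_it, cl_dt, cl_ct, cl_bt, cl_dt, cl_et, cl_ft, cl_dt, cl_ht, cl_it, cl_dt, cl_ct, cl_bt, cl_dt, cl_et, cl_ft, cl_dt, cl_ht, cl_it, cl_dt, cl_ct, cl_bt, cl_dt, cl_et, cl_ft, cl_dt, cl_ht, cl_it, cl_dt, cl_ct, cl_bt, cl_dt, cl_et, cl_ft, cl_dt, cl_ht, cl_it, cl_dt, cl_ct, cl_bt, cl_dt, cl_et, cl_ft, cl_dt, cl_ht, cl_it, cl_dt, cl_ct, cl_bt, cl_dt, cl_et, cl_ft, cl_dt, cl_ht, cl_it, cl_dt, cl_ct, cl_bt, cl_dt, cl_et, cl_ft, cl_dt, cl_ht, cl_it, cl_dt, cl_ct, cl_bt, cl_dt, cl_et, cl_ft, cl_dt, cl_ht, cl_it, cl_dt]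
  (wG_of_rotate rels relW_55 [cl_ct, cl_bt, cl_dt, cl_et, cl_ft, cl_dt, cl_ht, cl_it, cl_dt, cl_ct, cl_bt, cl_dt, cl_et, cl_ft, cl_dt, cl_ht, cl_it, cl_dt, cl_ct, cl_bt, cl_dt, cl_et, cl_ft, cl_dt, cl_ht, cl_it, cl_dt, cl_ct, cl_bt, cl_dt, cl_et, cl_ft, cl_dt, cl_ht, cl_it, cl_dt, cl_ct, cl_bt, cl_dt, cl_et, cl_ft, cl_dt, cl_ht, cl_it, cl_dt, cl_ct, cl_bt, cl_dt, cl_et, cl_ft, cl_dt, cl_ht, cl_it, cl_dt, cl_ct, cl_bt, cl_dt, cl_et, cl_ft, cl_dt, cl_ht, cl_it, cl_dt, cl_ct, cl_bt, cl_dt, cl_et, cl_ft, cl_dt, cl_ht, cl_it, cl_dt, cl_ct, cl_bt, cl_dt, cl_et, cl_ft, cl_dt, cl_ht, cl_it, cl_dt, cl_ct, cl_bt, cl_dt, cl_et, cl_ft, cl_dt, cl_ht, cl_it, cl_dt] 28 (by decide +kernel) relone_55)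
def rc_32_2 : Cert rels S Gen.d := Cert.rel true [cl_jt, cl_dt, cl_jt]
  (wG_of_rotate rels relW_32 [cl_dt, cl_jt, cl_dt, cl_jt] 2 (by decide +kernel) relone_32)
def rc_31_2 : Cert rels S Gen.d := Cert.rel true [cl_gt, cl_dt, cl_gt]
  (wG_of_rotate rels relW_31 [cl_dt, cl_gt, cl_dt, cl_gt] 2 (by decide +kernel) relone_31)
def rc_30_2 : Cert rels S Gen.d := Cert.rel true [cl_ft, cl_dt, cl_ft]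
  (wG_of_rotate rels relW_30 [cl_dt, cl_ft, cl_dt, cl_ft] 2 (by decide +kernel) relone_30)
def rc_27_0 : Cert rels S Gen.d := Cert.rel true [cl_dt]
  (wG_of_rotate rels relW_27 [cl_dt, cl_dt] 0 (by decide +kernel) relone_27)
def rc_20_3 : Cert rels S Gen.d := Cert.rel true [cl_ct, cl_dt, cl_ct, cl_dt, cl_ct]
  (wG_of_rotate rels relW_20 [cl_dt, cl_ct, cl_dt, cl_ct, cl_dt, cl_ct] 3 (by decide +kernel) relone_20)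
def rc_29_2 : Cert rels S Gen.d := Cert.rel true [cl_ht, cl_dt, cl_ht, cl_dt, cl_ht]
  (wG_of_rotate rels relW_29 [cl_dt, cl_ht, cl_dt, cl_ht, cl_dt, cl_ht] 2 (by decide +kernel) relone_29)
def rc_12_1 : Cert rels S Gen.d := Cert.rel true [cl_bt, cl_dt, cl_bt]
  (wG_of_rotate rels relW_12 [cl_dt, cl_bt, cl_dt, cl_bt] 1 (by decide +kernel) relone_12)
def rc_33_2 : Cert rels S Gen.d := Cert.rel true [cl_it, cl_dt, cl_it]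
  (wG_of_rotate rels relW_33 [cl_dt, cl_it, cl_dt, cl_it] 2 (by decide +kernel) relone_33)
def rc_3_1 : Cert rels S Gen.d := Cert.rel true [cl_at, cl_dt, cl_at]
  (wG_of_rotate rels relW_3 [cl_dt, cl_at, cl_dt, cl_at] 1 (by decide +kernel) relone_3)
def rc_28_2 : Cert rels S Gen.d := Cert.rel true [cl_et, cl_dt, cl_et, cl_dt, cl_et]
  (wG_of_rotate rels relW_28 [cl_dt, cl_et, cl_dt, cl_et, cl_dt, cl_et] 2 (by decide +kernel) relone_28)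
def rc_56_38 : Cert rels S Gen.d := Cert.rel true [cl_et, cl_ft, cl_ht, cl_at, cl_bt, cl_ct, cl_dt, cl_et, cl_ft, cl_ht, cl_at, cl_bt, cl_ct, cl_dt, cl_et, cl_ft, cl_ht, cl_at, cl_bt, cl_ct, cl_dt, cl_et, cl_ft, cl_ht, cl_at, cl_bt, cl_ct, cl_dt, cl_et, cl_ft, cl_ht, cl_at, cl_bt, cl_ct, cl_dt, cl_et, cl_ft, cl_ht, cl_at, cl_bt, cl_ct, cl_dt, cl_et, cl_ft, cl_ht, cl_at, cl_bt, cl_ct, cl_dt, cl_et, cl_ft, cl_ht, cl_at, cl_bt, cl_ct, cl_dt, cl_et, cl_ft, cl_ht, cl_at, cl_bt, cl_ct]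
  (wG_of_rotate rels relW_56 [cl_dt, cl_et, cl_ft, cl_ht, cl_at, cl_bt, cl_ct, cl_dt, cl_et, cl_ft, cl_ht, cl_at, cl_bt, cl_ct, cl_dt, cl_et, cl_ft, cl_ht, cl_at, cl_bt, cl_ct, cl_dt, cl_et, cl_ft, cl_ht, cl_at, cl_bt, cl_ct, cl_dt, cl_et, cl_ft, cl_ht, cl_at, cl_bt, cl_ct, cl_dt, cl_et, cl_ft, cl_ht, cl_at, cl_bt, cl_ct, cl_dt, cl_et, cl_ft, cl_ht, cl_at, cl_bt, cl_ct, cl_dt, cl_et, cl_ft, cl_ht, cl_at, cl_bt, cl_ct, cl_dt, cl_et, cl_ft, cl_ht, cl_at, cl_bt, cl_ct] 38 (by decide +kernel) relone_56)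
def rc_29_0 : Cert rels S Gen.d := Cert.rel true [cl_ht, cl_dt, cl_ht, cl_dt, cl_ht]
  (wG_of_rotate rels relW_29 [cl_dt, cl_ht, cl_dt, cl_ht, cl_dt, cl_ht] 0 (by decide +kernel) relone_29)
def rc_56_10 : Cert rels S Gen.d := Cert.rel true [cl_et, cl_ft, cl_ht, cl_at, cl_bt, cl_ct, cl_dt, cl_et, cl_ft, cl_ht, cl_at, cl_bt, cl_ct, cl_dt, cl_et, cl_ft, cl_ht, cl_at, cl_bt, cl_ct, cl_dt, cl_et, cl_ft, cl_ht, cl_at, cl_bt, cl_ct, cl_dt, cl_et, cl_ft, cl_ht, cl_at, cl_bt, cl_ct, cl_dt, cl_et, cl_ft, cl_ht, cl_at, cl_bt, cl_ct, cl_dt, cl_et, cl_ft, cl_ht, cl_at, cl_bt, cl_ct, cl_dt, cl_et, cl_ft, cl_ht, cl_at, cl_bt, cl_ct, cl_dt, cl_et, cl_ft, cl_ht, cl_at, cl_bt, cl_ct]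
  (wG_of_rotate rels relW_56 [cl_dt, cl_et, cl_ft, cl_ht, cl_at, cl_bt, cl_ct, cl_dt, cl_et, cl_ft, cl_ht, cl_at, cl_bt, cl_ct, cl_dt, cl_et, cl_ft, cl_ht, cl_at, cl_bt, cl_ct, cl_dt, cl_et, cl_ft, cl_ht, cl_at, cl_bt, cl_ct, cl_dt, cl_et, cl_ft, cl_ht, cl_at, cl_bt, cl_ct, cl_dt, cl_et, cl_ft, cl_ht, cl_at, cl_bt, cl_ct, cl_dt, cl_et, cl_ft, cl_ht, cl_at, cl_bt, cl_ct, cl_dt, cl_et, cl_ft, cl_ht, cl_at, cl_bt, cl_ct, cl_dt, cl_et, cl_ft, cl_ht, cl_at, cl_bt, cl_ct] 10 (by decide +kernel) relone_56)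
def rc_29_4 : Cert rels S Gen.d := Cert.rel true [cl_ht, cl_dt, cl_ht, cl_dt, cl_ht]
  (wG_of_rotate rels relW_29 [cl_dt, cl_ht, cl_dt, cl_ht, cl_dt, cl_ht] 4 (by decide +kernel) relone_29)
def rc_30_0 : Cert rels S Gen.d := Cert.rel true [cl_ft, cl_dt, cl_ft]
  (wG_of_rotate rels relW_30 [cl_dt, cl_ft, cl_dt, cl_ft] 0 (by decide +kernel) relone_30)
def rc_20_5 : Cert rels S Gen.d := Cert.rel true [cl_ct, cl_dt, cl_ct, cl_dt, cl_ct]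
  (wG_of_rotate rels relW_20 [cl_dt, cl_ct, cl_dt, cl_ct, cl_dt, cl_ct] 5 (by decide +kernel) relone_20)
def rc_56_52 : Cert rels S Gen.d := Cert.rel true [cl_et, cl_ft, cl_ht, cl_at, cl_bt, cl_ct, cl_dt, cl_et, cl_ft, cl_ht, cl_at, cl_bt, cl_ct, cl_dt, cl_et, cl_ft, cl_ht, cl_at, cl_bt, cl_ct, cl_dt, cl_et, cl_ft, cl_ht, cl_at, cl_bt, cl_ct, cl_dt, cl_et, cl_ft, cl_ht, cl_at, cl_bt, cl_ct, cl_dt, cl_et, cl_ft, cl_ht, cl_at, cl_bt, cl_ct, cl_dt, cl_et, cl_ft, cl_ht, cl_at, cl_bt, cl_ct, cl_dt, cl_et, cl_ft, cl_ht, cl_at, cl_bt, cl_ct, cl_dt, cl_et, cl_ft, cl_ht, cl_at, cl_bt, cl_ct]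
  (wG_of_rotate rels relW_56 [cl_dt, cl_et, cl_ft, cl_ht, cl_at, cl_bt, cl_ct, cl_dt, cl_et, cl_ft, cl_ht, cl_at, cl_bt, cl_ct, cl_dt, cl_et, cl_ft, cl_ht, cl_at, cl_bt, cl_ct, cl_dt, cl_et, cl_ft, cl_ht, cl_at, cl_bt, cl_ct, cl_dt, cl_et, cl_ft, cl_ht, cl_at, cl_bt, cl_ct, cl_dt, cl_et, cl_ft, cl_ht, cl_at, cl_bt, cl_ct, cl_dt, cl_et, cl_ft, cl_ht, cl_at, cl_bt, cl_ct, cl_dt, cl_et, cl_ft, cl_ht, cl_at, cl_bt, cl_ct, cl_dt, cl_et, cl_ft, cl_ht, cl_at, cl_bt, cl_ct] 52 (by decide +kernel) relone_56)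
def rc_3_3 : Cert rels S Gen.d := Cert.rel true [cl_at, cl_dt, cl_at]
  (wG_of_rotate rels relW_3 [cl_dt, cl_at, cl_dt, cl_at] 3 (by decide +kernel) relone_3)
def rc_55_51 : Cert rels S Gen.d := Cert.rel true [cl_ht, cl_it, cl_dt, cl_ct, cl_bt, cl_dt, cl_et, cl_ft, cl_dt, cl_ht, cl_it, cl_dt, cl_ct, cl_bt, cl_dt, cl_et, cl_ft, cl_dt, cl_ht, cl_it, cl_dt, cl_ct, cl_bt, cl_dt, cl_et, cl_ft, cl_dt, cl_ht, cl_it, cl_dt, cl_ct, cl_bt, cl_dt, cl_et, cl_ft, cl_dt, cl_ht, cl_it, cl_dt, cl_ct, cl_bt, cl_dt, cl_et, cl_ft, cl_dt, cl_ht, cl_it, cl_dt, cl_ct, cl_bt, cl_dt, cl_et, cl_ft, cl_dt, cl_ht, cl_it, cl_dt, cl_ct, cl_bt, cl_dt, cl_et, cl_ft, cl_dt, cl_ht, cl_it, cl_dt, cl_ct, cl_bt, cl_dt, cl_et, cl_ft, cl_dt, cl_ht, cl_it, cl_dt, cl_ct, cl_bt, cl_dt, cl_et, cl_ft, cl_dt, cl_ht, cl_it,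 cl_dt, cl_ct, cl_bt, cl_dt, cl_et, cl_ft]
  (wG_of_rotate rels relW_55 [cl_dt, cl_ht, cl_it, cl_dt, cl_ct, cl_bt, cl_dt, cl_et, cl_ft, cl_dt, cl_ht, cl_it, cl_dt, cl_ct, cl_bt, cl_dt, cl_et, cl_ft, cl_dt, cl_ht, cl_it, cl_dt, cl_ct, cl_bt, cl_dt, cl_et, cl_ft, cl_dt, cl_ht, cl_it, cl_dt, cl_ct, cl_bt, cl_dt, cl_et, cl_ft, cl_dt, cl_ht, cl_it, cl_dt, cl_ct, cl_bt, cl_dt, cl_et, cl_ft, cl_dt, cl_ht, cl_it, cl_dt, cl_ct, cl_bt, cl_dt, cl_et, cl_ft, cl_dt, cl_ht, cl_it, cl_dt, cl_ct, cl_bt, cl_dt, cl_et, cl_ft, cl_dt, cl_ht, cl_it, cl_dt, cl_ct, cl_bt, cl_dt, cl_et, cl_ft, cl_dt, cl_ht, cl_it, cl_dt, cl_ct, cl_bt, cl_dt, cl_et, cl_ft, cl_dt, cl_ht, cl_it, cl_dt, cl_ct, cl_bt, cl_dt, cl_et, cl_ft] 51 (by decide +kernel) relone_55)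
def rc_12_3 : Cert rels S Gen.d := Cert.rel true [cl_bt, cl_dt, cl_bt]
  (wG_of_rotate rels relW_12 [cl_dt, cl_bt, cl_dt, cl_bt] 3 (by decide +kernel) relone_12)
def rc_28_0 : Cert rels S Gen.d := Cert.rel true [cl_et, cl_dt, cl_et, cl_dt, cl_et]
  (wG_of_rotate rels relW_28 [cl_dt, cl_et, cl_dt, cl_et, cl_dt, cl_et] 0 (by decide +kernel) relone_28)
def rc_56_59 : Cert rels S Gen.d := Cert.rel true [cl_et, cl_ft, cl_ht, cl_at, cl_bt, cl_ct, cl_dt, cl_et, cl_ft, cl_ht, cl_at, cl_bt, cl_ct, cl_dt, cl_et, cl_ft, cl_ht, cl_at, cl_bt, cl_ct, cl_dt, cl_et, cl_ft, cl_ht, cl_at, cl_bt, cl_ct, cl_dt, cl_et, cl_ft, cl_ht, cl_at, cl_bt, cl_ct, cl_dt, cl_et, cl_ft, cl_ht, cl_at, cl_bt, cl_ct, cl_dt, cl_et, cl_ft, cl_ht, cl_at, cl_bt, cl_ct, cl_dt, cl_et, cl_ft, cl_ht, cl_at, cl_bt, cl_ct,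 cl_dt, cl_et, cl_ft, cl_ht, cl_at, cl_bt, cl_ct]
  (wG_of_rotate rels relW_56 [cl_dt, cl_et, cl_ft, cl_ht, cl_at, cl_bt, cl_ct, cl_dt, cl_et, cl_ft, cl_ht, cl_at, cl_bt, cl_ct, cl_dt, cl_et, cl_ft, cl_ht, cl_at, cl_bt, cl_ct, cl_dt, cl_et, cl_ft, cl_ht, cl_at, cl_bt, cl_ct, cl_dt, cl_et, cl_ft, cl_ht, cl_at, cl_bt, cl_ct, cl_dt, cl_et, cl_ft, cl_ht, cl_at, cl_bt, cl_ct, cl_dt, cl_et, cl_ft, cl_ht, cl_at, cl_bt, cl_ct, cl_dt, cl_et, cl_ft, cl_ht, cl_at, cl_bt, cl_ct, cl_dt, cl_et, cl_ft, cl_ht, cl_at, cl_bt, cl_ct] 59 (by decide +kernel) relone_56)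
def rc_20_1 : Cert rels S Gen.d := Cert.rel true [cl_ct, cl_dt, cl_ct, cl_dt, cl_ct]
  (wG_of_rotate rels relW_20 [cl_dt, cl_ct, cl_dt, cl_ct, cl_dt, cl_ct] 1 (by decide +kernel) relone_20)
def rc_56_17 : Cert rels S Gen.d := Cert.rel true [cl_et, cl_ft, cl_ht, cl_at, cl_bt, cl_ct, cl_dt, cl_et, cl_ft, cl_ht, cl_at, cl_bt, cl_ct, cl_dt, cl_et, cl_ft, cl_ht, cl_at, cl_bt, cl_ct, cl_dt, cl_et, cl_ft, cl_ht, cl_at, cl_bt, cl_ct, cl_dt, cl_et, cl_ft, cl_ht, cl_at, cl_bt, cl_ct, cl_dt, cl_et, cl_ft, cl_ht, cl_at, cl_bt, cl_ct, cl_dt, cl_et, cl_ft, cl_ht, cl_at, cl_bt, cl_ct, cl_dt, cl_et, cl_ft, cl_ht, cl_at, cl_bt, cl_ct, cl_dt, cl_et, cl_ft, cl_ht, cl_at, cl_bt, cl_ct]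
  (wG_of_rotate rels relW_56 [cl_dt, cl_et, cl_ft, cl_ht, cl_at, cl_bt, cl_ct, cl_dt, cl_et, cl_ft, cl_ht, cl_at, cl_bt, cl_ct, cl_dt, cl_et, cl_ft, cl_ht, cl_at, cl_bt, cl_ct, cl_dt, cl_et, cl_ft, cl_ht, cl_at, cl_bt, cl_ct, cl_dt, cl_et, cl_ft, cl_ht, cl_at, cl_bt, cl_ct, cl_dt, cl_et, cl_ft, cl_ht, cl_at, cl_bt, cl_ct, cl_dt, cl_et, cl_ft, cl_ht, cl_at, cl_bt, cl_ct, cl_dt, cl_et, cl_ft, cl_ht, cl_at, cl_bt, cl_ct, cl_dt, cl_et, cl_ft, cl_ht, cl_at, cl_bt, cl_ct] 17 (by decide +kernel) relone_56)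
def rc_33_0 : Cert rels S Gen.d := Cert.rel true [cl_it, cl_dt, cl_it]
  (wG_of_rotate rels relW_33 [cl_dt, cl_it, cl_dt, cl_it] 0 (by decide +kernel) relone_33)
def rc_31_0 : Cert rels S Gen.d := Cert.rel true [cl_gt, cl_dt, cl_gt]
  (wG_of_rotate rels relW_31 [cl_dt, cl_gt, cl_dt, cl_gt] 0 (by decide +kernel) relone_31)
def rc_55_63 : Cert rels S Gen.d := Cert.rel true [cl_ct, cl_bt, cl_dt, cl_et, cl_ft, cl_dt, cl_ht, cl_it, cl_dt, cl_ct, cl_bt, cl_dt, cl_et, cl_ft, cl_dt, cl_ht, cl_it, cl_dt, cl_ct, cl_bt, cl_dt, cl_et, cl_ft, cl_dt, cl_ht, cl_it, cl_dt, cl_ct, cl_bt, cl_dt, cl_et, cl_ft, cl_dt, cl_ht, cl_it, cl_dt, cl_ct, cl_bt, cl_dt, cl_et, cl_ft, cl_dt, cl_ht, cl_it, cl_dt, cl_ct, cl_bt, cl_dt, cl_et, cl_ft, cl_dt, cl_ht, cl_it, cl_dt, cl_ct, cl_bt, cl_dt, cl_et, cl_ft,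 cl_dt, cl_ht, cl_it, cl_dt, cl_ct, cl_bt, cl_dt, cl_et, cl_ft, cl_dt, cl_ht, cl_it, cl_dt, cl_ct, cl_bt, cl_dt, cl_et, cl_ft, cl_dt, cl_ht, cl_it, cl_dt, cl_ct, cl_bt, cl_dt, cl_et, cl_ft, cl_dt, cl_ht, cl_it]
  (wG_of_rotate rels relW_55 [cl_dt, cl_ct, cl_bt, cl_dt, cl_et, cl_ft, cl_dt, cl_ht, cl_it, cl_dt, cl_ct, cl_bt, cl_dt, cl_et, cl_ft, cl_dt, cl_ht, cl_it, cl_dt, cl_ct, cl_bt, cl_dt, cl_et, cl_ft, cl_dt, cl_ht, cl_it, cl_dt, cl_ct, cl_bt, cl_dt, cl_et, cl_ft, cl_dt, cl_ht, cl_it, cl_dt, cl_ct, cl_bt, cl_dt, cl_et, cl_ft, cl_dt, cl_ht, cl_it, cl_dt, cl_ct, cl_bt, cl_dt, cl_et, cl_ft, cl_dt, cl_ht, cl_it, cl_dt, cl_ct, cl_bt, cl_dt, cl_et, cl_ft, cl_dt, cl_ht, cl_it, cl_dt, cl_ct, cl_bt, cl_dt, cl_et, cl_ft, cl_dt, cl_ht, cl_it, cl_dt, cl_ct, cl_bt, cl_dt, cl_et, cl_ft,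 cl_dt, cl_ht, cl_it, cl_dt, cl_ct, cl_bt, cl_dt, cl_et, cl_ft, cl_dt, cl_ht, cl_it] 63 (by decide +kernel) relone_55)
def rc_28_4 : Cert rels S Gen.d := Cert.rel true [cl_et, cl_dt, cl_et, cl_dt, cl_et]
  (wG_of_rotate rels relW_28 [cl_dt, cl_et, cl_dt, cl_et, cl_dt, cl_et] 4 (by decide +kernel) relone_28)
def rc_55_72 : Cert rels S Gen.d := Cert.rel true [cl_ct, cl_bt, cl_dt, cl_et, cl_ft, cl_dt, cl_ht, cl_it, cl_dt, cl_ct, cl_bt, cl_dt, cl_et, cl_ft, cl_dt, cl_ht, cl_it, cl_dt, cl_ct, cl_bt, cl_dt, cl_et, cl_ft, cl_dt, cl_ht, cl_it, cl_dt, cl_ct, cl_bt, cl_dt, cl_et, cl_ft, cl_dt, cl_ht, cl_it, cl_dt, cl_ct, cl_bt, cl_dt, cl_et, cl_ft, cl_dt, cl_ht, cl_it, cl_dt, cl_ct, cl_bt, cl_dt, cl_et, cl_ft, cl_dt, cl_ht, cl_it, cl_dt, cl_ct, cl_bt, cl_dt, cl_et, cl_ft, cl_dt, cl_ht,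 cl_it, cl_dt, cl_ct, cl_bt, cl_dt, cl_et, cl_ft, cl_dt, cl_ht, cl_it, cl_dt, cl_ct, cl_bt, cl_dt, cl_et, cl_ft, cl_dt, cl_ht, cl_it, cl_dt, cl_ct, cl_bt, cl_dt, cl_et, cl_ft, cl_dt, cl_ht, cl_it]
  (wG_of_rotate rels relW_55 [cl_dt, cl_ct, cl_bt, cl_dt, cl_et, cl_ft, cl_dt, cl_ht, cl_it, cl_dt, cl_ct, cl_bt, cl_dt, cl_et, cl_ft, cl_dt, cl_ht, cl_it, cl_dt, cl_ct, cl_bt, cl_dt, cl_et, cl_ft, cl_dt, cl_ht, cl_it, cl_dt, cl_ct, cl_bt, cl_dt, cl_et, cl_ft, cl_dt, cl_ht, cl_it, cl_dt, cl_ct, cl_bt, cl_dt, cl_et, cl_ft, cl_dt, cl_ht, cl_it, cl_dt, cl_ct, cl_bt, cl_dt, cl_et, cl_ft, cl_dt, cl_ht, cl_it, cl_dt, cl_ct, cl_bt, cl_dt, cl_et, cl_ft, cl_dt, cl_ht, cl_it, cl_dt, cl_ct, cl_bt, cl_dt, cl_et, cl_ft, cl_dt, cl_ht, cl_it, cl_dt, cl_ct, cl_bt, cl_dt, cl_et, cl_ft, cl_dt, cl_ht,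 cl_it, cl_dt, cl_ct, cl_bt, cl_dt, cl_et, cl_ft, cl_dt, cl_ht, cl_it] 72 (by decide +kernel) relone_55)
def rc_55_33 : Cert rels S Gen.d := Cert.rel true [cl_ht, cl_it, cl_dt, cl_ct, cl_bt, cl_dt, cl_et, cl_ft, cl_dt, cl_ht, cl_it, cl_dt, cl_ct, cl_bt, cl_dt, cl_et, cl_ft, cl_dt, cl_ht, cl_it, cl_dt, cl_ct, cl_bt, cl_dt, cl_et, cl_ft, cl_dt, cl_ht, cl_it, cl_dt, cl_ct, cl_bt, cl_dt, cl_et, cl_ft, cl_dt, cl_ht, cl_it, cl_dt, cl_ct, cl_bt, cl_dt, cl_et, cl_ft, cl_dt, cl_ht, cl_it, cl_dt, cl_ct, cl_bt, cl_dt, cl_et, cl_ft, cl_dt, cl_ht, cl_it, cl_dt, cl_ct, cl_bt, cl_dt, cl_et, cl_ft, cl_dt, cl_ht, cl_it, cl_dt, cl_ct, cl_bt, cl_dt, cl_et, cl_ft, cl_dt, cl_ht, cl_it, cl_dt, cl_ct, cl_bt, cl_dt, cl_et, cl_ft, cl_dt, cl_ht, cl_it, cl_dt, cl_ct, cl_bt, cl_dt, cl_et, cl_ft]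
  (wG_of_rotate rels relW_55 [cl_dt, cl_ht, cl_it, cl_dt, cl_ct, cl_bt, cl_dt, cl_et, cl_ft, cl_dt, cl_ht, cl_it, cl_dt, cl_ct, cl_bt, cl_dt, cl_et, cl_ft, cl_dt, cl_ht, cl_it, cl_dt, cl_ct, cl_bt, cl_dt, cl_et, cl_ft, cl_dt, cl_ht, cl_it, cl_dt, cl_ct, cl_bt, cl_dt, cl_et, cl_ft, cl_dt, cl_ht, cl_it, cl_dt, cl_ct, cl_bt, cl_dt, cl_et, cl_ft, cl_dt, cl_ht, cl_it, cl_dt, cl_ct, cl_bt, cl_dt, cl_et, cl_ft, cl_dt, cl_ht, cl_it, cl_dt, cl_ct, cl_bt, cl_dt, cl_et, cl_ft, cl_dt, cl_ht, cl_it, cl_dt, cl_ct, cl_bt, cl_dt, cl_et, cl_ft, cl_dt, cl_ht, cl_it, cl_dt, cl_ct, cl_bt, cl_dt, cl_et, cl_ft, cl_dt, cl_ht, cl_it, cl_dt, cl_ct, cl_bt, cl_dt, cl_et, cl_ft] 33 (by decide +kernel) relone_55)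
def rc_55_57 : Cert rels S Gen.d := Cert.rel true [cl_et, cl_ft, cl_dt, cl_ht, cl_it, cl_dt, cl_ct, cl_bt, cl_dt, cl_et, cl_ft, cl_dt, cl_ht, cl_it, cl_dt, cl_ct, cl_bt, cl_dt, cl_et, cl_ft, cl_dt, cl_ht, cl_it, cl_dt, cl_ct, cl_bt, cl_dt, cl_et, cl_ft, cl_dt, cl_ht, cl_it, cl_dt, cl_ct, cl_bt, cl_dt, cl_et, cl_ft, cl_dt, cl_ht, cl_it, cl_dt, cl_ct, cl_bt, cl_dt, cl_et, cl_ft, cl_dt, cl_ht, cl_it, cl_dt, cl_ct, cl_bt, cl_dt, cl_et, cl_ft, cl_dt, cl_ht, cl_it, cl_dt, cl_ct, cl_bt, cl_dt, cl_et, cl_ft, cl_dt, cl_ht, cl_it, cl_dt, cl_ct, cl_bt, cl_dt, cl_et, cl_ft, cl_dt, cl_ht, cl_it, cl_dt, cl_ct, cl_bt, cl_dt, cl_et, cl_ft, cl_dt, cl_ht, cl_it, cl_dt, cl_ct, cl_bt]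
  (wG_of_rotate rels relW_55 [cl_dt, cl_et, cl_ft, cl_dt, cl_ht, cl_it, cl_dt, cl_ct, cl_bt, cl_dt, cl_et, cl_ft, cl_dt, cl_ht, cl_it, cl_dt, cl_ct, cl_bt, cl_dt, cl_et, cl_ft, cl_dt, cl_ht, cl_it, cl_dt, cl_ct, cl_bt, cl_dt, cl_et, cl_ft, cl_dt, cl_ht, cl_it, cl_dt, cl_ct, cl_bt, cl_dt, cl_et, cl_ft, cl_dt, cl_ht, cl_it, cl_dt, cl_ct, cl_bt, cl_dt, cl_et, cl_ft, cl_dt, cl_ht, cl_it, cl_dt, cl_ct, cl_bt, cl_dt, cl_et, cl_ft, cl_dt, cl_ht, cl_it, cl_dt, cl_ct, cl_bt, cl_dt, cl_et, cl_ft, cl_dt, cl_ht, cl_it, cl_dt, cl_ct, cl_bt, cl_dt, cl_et, cl_ft, cl_dt, cl_ht, cl_it, cl_dt, cl_ct, cl_bt, cl_dt, cl_et, cl_ft, cl_dt, cl_ht, cl_it, cl_dt, cl_ct, cl_bt] 57 (by decide +kernel) relone_55)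
def rc_56_3 : Cert rels S Gen.d := Cert.rel true [cl_et, cl_ft, cl_ht, cl_at, cl_bt, cl_ct, cl_dt, cl_et, cl_ft, cl_ht, cl_at, cl_bt, cl_ct, cl_dt, cl_et, cl_ft, cl_ht, cl_at, cl_bt, cl_ct, cl_dt, cl_et, cl_ft, cl_ht, cl_at, cl_bt, cl_ct, cl_dt, cl_et, cl_ft, cl_ht, cl_at, cl_bt, cl_ct, cl_dt, cl_et, cl_ft, cl_ht, cl_at, cl_bt, cl_ct, cl_dt, cl_et, cl_ft, cl_ht, cl_at, cl_bt, cl_ct, cl_dt, cl_et, cl_ft, cl_ht, cl_at, cl_bt, cl_ct, cl_dt, cl_et, cl_ft, cl_ht, cl_at, cl_bt, cl_ct]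
  (wG_of_rotate rels relW_56 [cl_dt, cl_et, cl_ft, cl_ht, cl_at, cl_bt, cl_ct, cl_dt, cl_et, cl_ft, cl_ht, cl_at, cl_bt, cl_ct, cl_dt, cl_et, cl_ft, cl_ht, cl_at, cl_bt, cl_ct, cl_dt, cl_et, cl_ft, cl_ht, cl_at, cl_bt, cl_ct, cl_dt, cl_et, cl_ft, cl_ht, cl_at, cl_bt, cl_ct, cl_dt, cl_et, cl_ft, cl_ht, cl_at, cl_bt, cl_ct, cl_dt, cl_et, cl_ft, cl_ht, cl_at, cl_bt, cl_ct, cl_dt, cl_et, cl_ft, cl_ht, cl_at, cl_bt, cl_ct, cl_dt, cl_et, cl_ft, cl_ht, cl_at, cl_bt, cl_ct] 3 (by decide +kernel) relone_56)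
def rc_32_0 : Cert rels S Gen.d := Cert.rel true [cl_jt, cl_dt, cl_jt]
  (wG_of_rotate rels relW_32 [cl_dt, cl_jt, cl_dt, cl_jt] 0 (by decide +kernel) relone_32)
def rc_27_1 : Cert rels S Gen.d := Cert.rel true [cl_dt]
  (wG_of_rotate rels relW_27 [cl_dt, cl_dt] 1 (by decide +kernel) relone_27)
def rc_55_69 : Cert rels S Gen.d := Cert.rel true [cl_ht, cl_it, cl_dt, cl_ct, cl_bt, cl_dt, cl_et, cl_ft, cl_dt, cl_ht, cl_it, cl_dt, cl_ct, cl_bt, cl_dt, cl_et, cl_ft, cl_dt, cl_ht, cl_it, cl_dt, cl_ct, cl_bt, cl_dt, cl_et, cl_ft, cl_dt, cl_ht, cl_it, cl_dt, cl_ct, cl_bt, cl_dt, cl_et, cl_ft, cl_dt, cl_ht, cl_it, cl_dt, cl_ct, cl_bt, cl_dt, cl_et, cl_ft, cl_dt, cl_ht, cl_it, cl_dt, cl_ct, cl_bt, cl_dt, cl_et, cl_ft, cl_dt, cl_ht, cl_it, cl_dt, cl_ct, cl_bt, cl_dt, cl_et, cl_ft, cl_dt,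 cl_ht, cl_it, cl_dt, cl_ct, cl_bt, cl_dt, cl_et, cl_ft, cl_dt, cl_ht, cl_it, cl_dt, cl_ct, cl_bt, cl_dt, cl_et, cl_ft, cl_dt, cl_ht, cl_it, cl_dt, cl_ct, cl_bt, cl_dt, cl_et, cl_ft]
  (wG_of_rotate rels relW_55 [cl_dt, cl_ht, cl_it, cl_dt, cl_ct, cl_bt, cl_dt, cl_et, cl_ft, cl_dt, cl_ht, cl_it, cl_dt, cl_ct, cl_bt, cl_dt, cl_et, cl_ft, cl_dt, cl_ht, cl_it, cl_dt, cl_ct, cl_bt, cl_dt, cl_et, cl_ft, cl_dt, cl_ht, cl_it, cl_dt, cl_ct, cl_bt, cl_dt, cl_et, cl_ft, cl_dt, cl_ht, cl_it, cl_dt, cl_ct, cl_bt, cl_dt, cl_et, cl_ft, cl_dt, cl_ht, cl_it, cl_dt, cl_ct, cl_bt, cl_dt, cl_et, cl_ft, cl_dt, cl_ht, cl_it, cl_dt, cl_ct, cl_bt, cl_dt, cl_et, cl_ft, cl_dt, cl_ht, cl_it, cl_dt, cl_ct, cl_bt, cl_dt, cl_et, cl_ft, cl_dt, cl_ht, cl_it, cl_dt, cl_ct, cl_bt, cl_dt, cl_et, cl_ft, cl_dt,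 cl_ht, cl_it, cl_dt, cl_ct, cl_bt, cl_dt, cl_et, cl_ft] 69 (by decide +kernel) relone_55)
def rc_56_45 : Cert rels S Gen.d := Cert.rel true [cl_et, cl_ft, cl_ht, cl_at, cl_bt, cl_ct, cl_dt, cl_et, cl_ft, cl_ht, cl_at, cl_bt, cl_ct, cl_dt, cl_et, cl_ft, cl_ht, cl_at, cl_bt, cl_ct, cl_dt, cl_et, cl_ft, cl_ht, cl_at, cl_bt, cl_ct, cl_dt, cl_et, cl_ft, cl_ht, cl_at, cl_bt, cl_ct, cl_dt, cl_et, cl_ft, cl_ht, cl_at, cl_bt, cl_ct, cl_dt, cl_et, cl_ft, cl_ht, cl_at, cl_bt, cl_ct, cl_dt, cl_et, cl_ft, cl_ht, cl_at, cl_bt, cl_ct, cl_dt, cl_et, cl_ft, cl_ht, cl_at, cl_bt, cl_ct]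
  (wG_of_rotate rels relW_56 [cl_dt, cl_et, cl_ft, cl_ht, cl_at, cl_bt, cl_ct, cl_dt, cl_et, cl_ft, cl_ht, cl_at, cl_bt, cl_ct, cl_dt, cl_et, cl_ft, cl_ht, cl_at, cl_bt, cl_ct, cl_dt, cl_et, cl_ft, cl_ht, cl_at, cl_bt, cl_ct, cl_dt, cl_et, cl_ft, cl_ht, cl_at, cl_bt, cl_ct, cl_dt, cl_et, cl_ft, cl_ht, cl_at, cl_bt, cl_ct, cl_dt, cl_et, cl_ft, cl_ht, cl_at, cl_bt, cl_ct, cl_dt, cl_et, cl_ft, cl_ht, cl_at, cl_bt, cl_ct, cl_dt, cl_et, cl_ft, cl_ht, cl_at, cl_bt, cl_ct] 45 (by decide +kernel) relone_56)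
def rc_55_81 : Cert rels S Gen.d := Cert.rel true [cl_ct, cl_bt, cl_dt, cl_et, cl_ft, cl_dt, cl_ht, cl_it, cl_dt, cl_ct, cl_bt, cl_dt, cl_et, cl_ft, cl_dt, cl_ht, cl_it, cl_dt, cl_ct, cl_bt, cl_dt, cl_et, cl_ft, cl_dt, cl_ht, cl_it, cl_dt, cl_ct, cl_bt, cl_dt, cl_et, cl_ft, cl_dt, cl_ht, cl_it, cl_dt, cl_ct, cl_bt, cl_dt, cl_et, cl_ft, cl_dt, cl_ht, cl_it, cl_dt, cl_ct, cl_bt, cl_dt, cl_et, cl_ft, cl_dt, cl_ht, cl_it, cl_dt, cl_ct, cl_bt, cl_dt, cl_et, cl_ft, cl_dt, cl_ht, cl_it, cl_dt, cl_ct, cl_bt, cl_dt, cl_et, cl_ft, cl_dt, cl_ht, cl_it, cl_dt, cl_ct, cl_bt, cl_dt, cl_et, cl_ft, cl_dt, cl_ht, cl_it, cl_dt, cl_ct, cl_bt, cl_dt, cl_et, cl_ft, cl_dt, cl_ht, cl_it]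
  (wG_of_rotate rels relW_55 [cl_dt, cl_ct, cl_bt, cl_dt, cl_et, cl_ft, cl_dt, cl_ht, cl_it, cl_dt, cl_ct, cl_bt, cl_dt, cl_et, cl_ft, cl_dt, cl_ht, cl_it, cl_dt, cl_ct, cl_bt, cl_dt, cl_et, cl_ft, cl_dt, cl_ht, cl_it, cl_dt, cl_ct, cl_bt, cl_dt, cl_et, cl_ft, cl_dt, cl_ht, cl_it, cl_dt, cl_ct, cl_bt, cl_dt, cl_et, cl_ft, cl_dt, cl_ht, cl_it, cl_dt, cl_ct, cl_bt, cl_dt, cl_et, cl_ft, cl_dt, cl_ht, cl_it, cl_dt, cl_ct, cl_bt, cl_dt, cl_et, cl_ft, cl_dt, cl_ht, cl_it, cl_dt, cl_ct, cl_bt, cl_dt, cl_et, cl_ft, cl_dt, cl_ht, cl_it, cl_dt, cl_ct, cl_bt, cl_dt, cl_et, cl_ft, cl_dt, cl_ht, cl_it, cl_dt, cl_ct, cl_bt, cl_dt, cl_et, cl_ft, cl_dt, cl_ht, cl_it] 81 (by decide +kernel) relone_55)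
def rc_55_87 : Cert rels S Gen.d := Cert.rel true [cl_ht, cl_it, cl_dt, cl_ct, cl_bt, cl_dt, cl_et, cl_ft, cl_dt, cl_ht, cl_it, cl_dt, cl_ct, cl_bt, cl_dt, cl_et, cl_ft, cl_dt, cl_ht, cl_it, cl_dt, cl_ct, cl_bt, cl_dt, cl_et, cl_ft, cl_dt, cl_ht, cl_it, cl_dt, cl_ct, cl_bt, cl_dt, cl_et, cl_ft, cl_dt, cl_ht, cl_it, cl_dt, cl_ct, cl_bt, cl_dt, cl_et, cl_ft, cl_dt, cl_ht, cl_it, cl_dt, cl_ct, cl_bt, cl_dt, cl_et, cl_ft, cl_dt, cl_ht, cl_it, cl_dt, cl_ct, cl_bt, cl_dt, cl_et, cl_ft, cl_dt, cl_ht, cl_it, cl_dt, cl_ct, cl_bt, cl_dt, cl_et, cl_ft, cl_dt, cl_ht, cl_it, cl_dt, cl_ct, cl_bt, cl_dt, cl_et, cl_ft, cl_dt, cl_ht, cl_it, cl_dt, cl_ct, cl_bt, cl_dt, cl_et, cl_ft]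
  (wG_of_rotate rels relW_55 [cl_dt, cl_ht, cl_it, cl_dt, cl_ct, cl_bt, cl_dt, cl_et, cl_ft, cl_dt, cl_ht, cl_it, cl_dt, cl_ct, cl_bt, cl_dt, cl_et, cl_ft, cl_dt, cl_ht, cl_it, cl_dt, cl_ct, cl_bt, cl_dt, cl_et, cl_ft, cl_dt, cl_ht, cl_it, cl_dt, cl_ct, cl_bt, cl_dt, cl_et, cl_ft, cl_dt, cl_ht, cl_it, cl_dt, cl_ct, cl_bt, cl_dt, cl_et, cl_ft, cl_dt, cl_ht, cl_it, cl_dt, cl_ct, cl_bt, cl_dt, cl_et, cl_ft, cl_dt, cl_ht, cl_it, cl_dt, cl_ct, cl_bt, cl_dt, cl_et, cl_ft, cl_dt, cl_ht, cl_it, cl_dt, cl_ct, cl_bt, cl_dt, cl_et, cl_ft, cl_dt, cl_ht, cl_it, cl_dt, cl_ct, cl_bt, cl_dt, cl_et, cl_ft, cl_dt, cl_ht, cl_it, cl_dt, cl_ct, cl_bt, cl_dt, cl_et, cl_ft] 87 (by decide +kernel) relone_55)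
def rc_55_9 : Cert rels S Gen.d := Cert.rel true [cl_ct, cl_bt, cl_dt, cl_et, cl_ft, cl_dt, cl_ht, cl_it, cl_dt, cl_ct, cl_bt, cl_dt, cl_et, cl_ft, cl_dt, cl_ht, cl_it, cl_dt, cl_ct, cl_bt, cl_dt, cl_et, cl_ft, cl_dt, cl_ht, cl_it, cl_dt, cl_ct, cl_bt, cl_dt, cl_et, cl_ft, cl_dt, cl_ht, cl_it, cl_dt, cl_ct, cl_bt, cl_dt, cl_et, cl_ft, cl_dt, cl_ht, cl_it, cl_dt, cl_ct, cl_bt, cl_dt, cl_et, cl_ft, cl_dt, cl_ht, cl_it, cl_dt, cl_ct, cl_bt, cl_dt, cl_et, cl_ft, cl_dt, cl_ht, cl_it, cl_dt, cl_ct, cl_bt, cl_dt, cl_et, cl_ft, cl_dt, cl_ht, cl_it, cl_dt, cl_ct, cl_bt, cl_dt, cl_et, cl_ft, cl_dt, cl_ht, cl_it, cl_dt, cl_ct, cl_bt, cl_dt, cl_et, cl_ft, cl_dt, cl_ht, cl_it]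
  (wG_of_rotate rels relW_55 [cl_dt, cl_ct, cl_bt, cl_dt, cl_et, cl_ft, cl_dt, cl_ht, cl_it, cl_dt, cl_ct, cl_bt, cl_dt, cl_et, cl_ft, cl_dt, cl_ht, cl_it, cl_dt, cl_ct, cl_bt, cl_dt, cl_et, cl_ft, cl_dt, cl_ht, cl_it, cl_dt, cl_ct, cl_bt, cl_dt, cl_et, cl_ft, cl_dt, cl_ht, cl_it, cl_dt, cl_ct, cl_bt, cl_dt, cl_et, cl_ft, cl_dt, cl_ht, cl_it, cl_dt, cl_ct, cl_bt, cl_dt, cl_et, cl_ft, cl_dt, cl_ht, cl_it, cl_dt, cl_ct, cl_bt, cl_dt, cl_et, cl_ft, cl_dt, cl_ht, cl_it, cl_dt, cl_ct, cl_bt, cl_dt, cl_et, cl_ft, cl_dt, cl_ht, cl_it, cl_dt, cl_ct, cl_bt, cl_dt, cl_et, cl_ft, cl_dt, cl_ht, cl_it, cl_dt, cl_ct, cl_bt, cl_dt, cl_et, cl_ft, cl_dt, cl_ht, cl_it] 9 (by decide +kernel) relone_55)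
def rc_55_75 : Cert rels S Gen.d := Cert.rel true [cl_et, cl_ft, cl_dt, cl_ht, cl_it, cl_dt, cl_ct, cl_bt, cl_dt, cl_et, cl_ft, cl_dt, cl_ht, cl_it, cl_dt, cl_ct, cl_bt, cl_dt, cl_et, cl_ft, cl_dt, cl_ht, cl_it, cl_dt, cl_ct, cl_bt, cl_dt, cl_et, cl_ft, cl_dt, cl_ht, cl_it, cl_dt, cl_ct, cl_bt, cl_dt, cl_et, cl_ft, cl_dt, cl_ht, cl_it, cl_dt, cl_ct, cl_bt, cl_dt, cl_et, cl_ft, cl_dt, cl_ht, cl_it, cl_dt, cl_ct, cl_bt, cl_dt, cl_et, cl_ft, cl_dt, cl_ht, cl_it, cl_dt, cl_ct, cl_bt, cl_dt, cl_et, cl_ft, cl_dt, cl_ht, cl_it, cl_dt, cl_ct, cl_bt, cl_dt, cl_et, cl_ft, cl_dt, cl_ht, cl_it, cl_dt, cl_ct, cl_bt, cl_dt, cl_et, cl_ft, cl_dt, cl_ht, cl_it, cl_dt, cl_ct, cl_bt]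
  (wG_of_rotate rels relW_55 [cl_dt, cl_et, cl_ft, cl_dt, cl_ht, cl_it, cl_dt, cl_ct, cl_bt, cl_dt, cl_et, cl_ft, cl_dt, cl_ht, cl_it, cl_dt, cl_ct, cl_bt, cl_dt, cl_et, cl_ft, cl_dt, cl_ht, cl_it, cl_dt, cl_ct, cl_bt, cl_dt, cl_et, cl_ft, cl_dt, cl_ht, cl_it, cl_dt, cl_ct, cl_bt, cl_dt, cl_et, cl_ft, cl_dt, cl_ht, cl_it, cl_dt, cl_ct, cl_bt, cl_dt, cl_et, cl_ft, cl_dt, cl_ht, cl_it, cl_dt, cl_ct, cl_bt, cl_dt, cl_et, cl_ft, cl_dt, cl_ht, cl_it, cl_dt, cl_ct, cl_bt, cl_dt, cl_et, cl_ft, cl_dt, cl_ht, cl_it, cl_dt, cl_ct, cl_bt, cl_dt, cl_et, cl_ft, cl_dt, cl_ht, cl_it, cl_dt, cl_ct, cl_bt, cl_dt, cl_et, cl_ft, cl_dt, cl_ht, cl_it, cl_dt, cl_ct, cl_bt] 75 (by decide +kernel) relone_55)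
def rc_55_60 : Cert rels S Gen.d := Cert.rel true [cl_ht, cl_it, cl_dt, cl_ct, cl_bt, cl_dt, cl_et, cl_ft, cl_dt, cl_ht, cl_it, cl_dt, cl_ct, cl_bt, cl_dt, cl_et, cl_ft, cl_dt, cl_ht, cl_it, cl_dt, cl_ct, cl_bt, cl_dt, cl_et, cl_ft, cl_dt, cl_ht, cl_it, cl_dt, cl_ct, cl_bt, cl_dt, cl_et, cl_ft, cl_dt, cl_ht, cl_it, cl_dt, cl_ct, cl_bt, cl_dt, cl_et, cl_ft, cl_dt, cl_ht, cl_it, cl_dt, cl_ct, cl_bt, cl_dt, cl_et, cl_ft, cl_dt, cl_ht, cl_it, cl_dt, cl_ct, cl_bt, cl_dt, cl_et, cl_ft, cl_dt, cl_ht, cl_it, cl_dt, cl_ct, cl_bt, cl_dt, cl_et, cl_ft, cl_dt, cl_ht, cl_it, cl_dt, cl_ct, cl_bt, cl_dt, cl_et, cl_ft, cl_dt, cl_ht, cl_it, cl_dt, cl_ct, cl_bt, cl_dt, cl_et, cl_ft]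
  (wG_of_rotate rels relW_55 [cl_dt, cl_ht, cl_it, cl_dt, cl_ct, cl_bt, cl_dt, cl_et, cl_ft, cl_dt, cl_ht, cl_it, cl_dt, cl_ct, cl_bt, cl_dt, cl_et, cl_ft, cl_dt, cl_ht, cl_it, cl_dt, cl_ct, cl_bt, cl_dt, cl_et, cl_ft, cl_dt, cl_ht, cl_it, cl_dt, cl_ct, cl_bt, cl_dt, cl_et, cl_ft, cl_dt, cl_ht, cl_it, cl_dt, cl_ct, cl_bt, cl_dt, cl_et, cl_ft, cl_dt, cl_ht, cl_it, cl_dt, cl_ct, cl_bt, cl_dt, cl_et, cl_ft, cl_dt, cl_ht, cl_it, cl_dt, cl_ct, cl_bt, cl_dt, cl_et, cl_ft, cl_dt, cl_ht, cl_it, cl_dt, cl_ct, cl_bt, cl_dt, cl_et, cl_ft, cl_dt, cl_ht, cl_it, cl_dt, cl_ct, cl_bt, cl_dt, cl_et, cl_ft, cl_dt, cl_ht, cl_it, cl_dt, cl_ct, cl_bt, cl_dt, cl_et, cl_ft] 60 (by decide +kernel) relone_55)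
def rc_55_48 : Cert rels S Gen.d := Cert.rel true [cl_et, cl_ft, cl_dt, cl_ht, cl_it, cl_dt, cl_ct, cl_bt, cl_dt, cl_et, cl_ft, cl_dt, cl_ht, cl_it, cl_dt, cl_ct, cl_bt, cl_dt, cl_et, cl_ft, cl_dt, cl_ht, cl_it, cl_dt, cl_ct, cl_bt, cl_dt, cl_et, cl_ft, cl_dt, cl_ht, cl_it, cl_dt, cl_ct, cl_bt, cl_dt, cl_et, cl_ft, cl_dt, cl_ht, cl_it, cl_dt, cl_ct, cl_bt, cl_dt, cl_et, cl_ft, cl_dt, cl_ht, cl_it, cl_dt, cl_ct, cl_bt, cl_dt, cl_et, cl_ft, cl_dt, cl_ht, cl_it, cl_dt, cl_ct, cl_bt, cl_dt, cl_et, cl_ft, cl_dt, cl_ht, cl_it, cl_dt, cl_ct, cl_bt, cl_dt, cl_et, cl_ft, cl_dt, cl_ht, cl_it, cl_dt, cl_ct, cl_bt, cl_dt, cl_et, cl_ft, cl_dt, cl_ht, cl_it, cl_dt, cl_ct, cl_bt]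
  (wG_of_rotate rels relW_55 [cl_dt, cl_et, cl_ft, cl_dt, cl_ht, cl_it, cl_dt, cl_ct, cl_bt, cl_dt, cl_et, cl_ft, cl_dt, cl_ht, cl_it, cl_dt, cl_ct, cl_bt, cl_dt, cl_et, cl_ft, cl_dt, cl_ht, cl_it, cl_dt, cl_ct, cl_bt, cl_dt, cl_et, cl_ft, cl_dt, cl_ht, cl_it, cl_dt, cl_ct, cl_bt, cl_dt, cl_et, cl_ft, cl_dt, cl_ht, cl_it, cl_dt, cl_ct, cl_bt, cl_dt, cl_et, cl_ft, cl_dt, cl_ht, cl_it, cl_dt, cl_ct, cl_bt, cl_dt, cl_et, cl_ft, cl_dt, cl_ht, cl_it, cl_dt, cl_ct, cl_bt, cl_dt, cl_et, cl_ft, cl_dt, cl_ht, cl_it, cl_dt, cl_ct, cl_bt, cl_dt, cl_et, cl_ft, cl_dt, cl_ht, cl_it, cl_dt, cl_ct, cl_bt, cl_dt, cl_et, cl_ft, cl_dt, cl_ht, cl_it, cl_dt, cl_ct, cl_bt] 48 (by decide +kernel) relone_55)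
def rc_55_39 : Cert rels S Gen.d := Cert.rel true [cl_et, cl_ft, cl_dt, cl_ht, cl_it, cl_dt, cl_ct, cl_bt, cl_dt, cl_et, cl_ft, cl_dt, cl_ht, cl_it, cl_dt, cl_ct, cl_bt, cl_dt, cl_et, cl_ft, cl_dt, cl_ht, cl_it, cl_dt, cl_ct, cl_bt, cl_dt, cl_et, cl_ft, cl_dt, cl_ht, cl_it, cl_dt, cl_ct, cl_bt, cl_dt, cl_et, cl_ft, cl_dt, cl_ht, cl_it, cl_dt, cl_ct, cl_bt, cl_dt, cl_et, cl_ft, cl_dt, cl_ht, cl_it, cl_dt, cl_ct, cl_bt, cl_dt, cl_et, cl_ft, cl_dt, cl_ht, cl_it, cl_dt, cl_ct, cl_bt, cl_dt, cl_et, cl_ft, cl_dt, cl_ht, cl_it, cl_dt, cl_ct, cl_bt, cl_dt, cl_et, cl_ft, cl_dt, cl_ht, cl_it, cl_dt, cl_ct, cl_bt, cl_dt, cl_et, cl_ft, cl_dt, cl_ht, cl_it, cl_dt, cl_ct, cl_bt]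
  (wG_of_rotate rels relW_55 [cl_dt, cl_et, cl_ft, cl_dt, cl_ht, cl_it, cl_dt, cl_ct, cl_bt, cl_dt, cl_et, cl_ft, cl_dt, cl_ht, cl_it, cl_dt, cl_ct, cl_bt, cl_dt, cl_et, cl_ft, cl_dt, cl_ht, cl_it, cl_dt, cl_ct, cl_bt, cl_dt, cl_et, cl_ft, cl_dt, cl_ht, cl_it, cl_dt, cl_ct, cl_bt, cl_dt, cl_et, cl_ft, cl_dt, cl_ht, cl_it, cl_dt, cl_ct, cl_bt, cl_dt, cl_et, cl_ft, cl_dt, cl_ht, cl_it, cl_dt, cl_ct, cl_bt, cl_dt, cl_et, cl_ft, cl_dt, cl_ht, cl_it, cl_dt, cl_ct, cl_bt, cl_dt, cl_et, cl_ft, cl_dt, cl_ht, cl_it, cl_dt, cl_ct, cl_bt, cl_dt, cl_et, cl_ft, cl_dt, cl_ht, cl_it, cl_dt, cl_ct, cl_bt, cl_dt, cl_et, cl_ft, cl_dt, cl_ht, cl_it, cl_dt, cl_ct, cl_bt] 39 (by decide +kernel) relone_55)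
def rc_56_24 : Cert rels S Gen.d := Cert.rel true [cl_et, cl_ft, cl_ht, cl_at, cl_bt, cl_ct, cl_dt, cl_et, cl_ft, cl_ht, cl_at, cl_bt, cl_ct, cl_dt, cl_et, cl_ft, cl_ht, cl_at, cl_bt, cl_ct, cl_dt, cl_et, cl_ft, cl_ht, cl_at, cl_bt, cl_ct, cl_dt, cl_et, cl_ft, cl_ht, cl_at, cl_bt, cl_ct, cl_dt, cl_et, cl_ft, cl_ht, cl_at, cl_bt, cl_ct, cl_dt, cl_et, cl_ft, cl_ht, cl_at, cl_bt, cl_ct, cl_dt, cl_et, cl_ft, cl_ht, cl_at, cl_bt, cl_ct, cl_dt, cl_et, cl_ft, cl_ht, cl_at, cl_bt, cl_ct]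
  (wG_of_rotate rels relW_56 [cl_dt, cl_et, cl_ft, cl_ht, cl_at, cl_bt, cl_ct, cl_dt, cl_et, cl_ft, cl_ht, cl_at, cl_bt, cl_ct, cl_dt, cl_et, cl_ft, cl_ht, cl_at, cl_bt, cl_ct, cl_dt, cl_et, cl_ft, cl_ht, cl_at, cl_bt, cl_ct, cl_dt, cl_et, cl_ft, cl_ht, cl_at, cl_bt, cl_ct, cl_dt, cl_et, cl_ft, cl_ht, cl_at, cl_bt, cl_ct, cl_dt, cl_et, cl_ft, cl_ht, cl_at, cl_bt, cl_ct, cl_dt, cl_et, cl_ft, cl_ht, cl_at, cl_bt, cl_ct, cl_dt, cl_et, cl_ft, cl_ht, cl_at, cl_bt, cl_ct] 24 (by decide +kernel) relone_56)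
def rc_55_18 : Cert rels S Gen.d := Cert.rel true [cl_ct, cl_bt, cl_dt, cl_et, cl_ft, cl_dt, cl_ht, cl_it, cl_dt, cl_ct, cl_bt, cl_dt, cl_et, cl_ft, cl_dt, cl_ht, cl_it, cl_dt, cl_ct, cl_bt, cl_dt, cl_et, cl_ft, cl_dt, cl_ht, cl_it, cl_dt, cl_ct, cl_bt, cl_dt, cl_et, cl_ft, cl_dt, cl_ht, cl_it, cl_dt, cl_ct, cl_bt, cl_dt, cl_et, cl_ft, cl_dt, cl_ht, cl_it, cl_dt, cl_ct, cl_bt, cl_dt, cl_et, cl_ft, cl_dt, cl_ht, cl_it, cl_dt, cl_ct, cl_bt, cl_dt, cl_et, cl_ft, cl_dt, cl_ht, cl_it, cl_dt, cl_ct, cl_bt, cl_dt, cl_et, cl_ft, cl_dt, cl_ht, cl_it, cl_dt, cl_ct, cl_bt, cl_dt, cl_et, cl_ft, cl_dt, cl_ht, cl_it, cl_dt, cl_ct, cl_bt, cl_dt, cl_et, cl_ft, cl_dt, cl_ht, cl_it]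
  (wG_of_rotate rels relW_55 [cl_dt, cl_ct, cl_bt, cl_dt, cl_et, cl_ft, cl_dt, cl_ht, cl_it, cl_dt, cl_ct, cl_bt, cl_dt, cl_et, cl_ft, cl_dt, cl_ht, cl_it, cl_dt, cl_ct, cl_bt, cl_dt, cl_et, cl_ft, cl_dt, cl_ht, cl_it, cl_dt, cl_ct, cl_bt, cl_dt, cl_et, cl_ft, cl_dt, cl_ht, cl_it, cl_dt, cl_ct, cl_bt, cl_dt, cl_et, cl_ft, cl_dt, cl_ht, cl_it, cl_dt, cl_ct, cl_bt, cl_dt, cl_et, cl_ft, cl_dt, cl_ht, cl_it, cl_dt, cl_ct, cl_bt, cl_dt, cl_et, cl_ft, cl_dt, cl_ht, cl_it, cl_dt, cl_ct, cl_bt, cl_dt, cl_et, cl_ft, cl_dt, cl_ht, cl_it, cl_dt, cl_ct, cl_bt, cl_dt, cl_et, cl_ft, cl_dt, cl_ht, cl_it, cl_dt, cl_ct, cl_bt, cl_dt, cl_et, cl_ft, cl_dt, cl_ht, cl_it] 18 (by decide +kernel) relone_55)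
def rc_55_78 : Cert rels S Gen.d := Cert.rel true [cl_ht, cl_it, cl_dt, cl_ct, cl_bt, cl_dt, cl_et, cl_ft, cl_dt, cl_ht, cl_it, cl_dt, cl_ct, cl_bt, cl_dt, cl_et, cl_ft, cl_dt, cl_ht, cl_it, cl_dt, cl_ct, cl_bt, cl_dt, cl_et, cl_ft, cl_dt, cl_ht, cl_it, cl_dt, cl_ct, cl_bt, cl_dt, cl_et, cl_ft, cl_dt, cl_ht, cl_it, cl_dt, cl_ct, cl_bt, cl_dt, cl_et, cl_ft, cl_dt, cl_ht, cl_it, cl_dt, cl_ct, cl_bt, cl_dt, cl_et, cl_ft, cl_dt, cl_ht, cl_it, cl_dt, cl_ct, cl_bt, cl_dt, cl_et, cl_ft, cl_dt, cl_ht, cl_it, cl_dt, cl_ct, cl_bt, cl_dt, cl_et, cl_ft, cl_dt, cl_ht, cl_it, cl_dt, cl_ct, cl_bt, cl_dt, cl_et, cl_ft, cl_dt, cl_ht, cl_it, cl_dt, cl_ct, cl_bt, cl_dt, cl_et, cl_ft]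
  (wG_of_rotate rels relW_55 [cl_dt, cl_ht, cl_it, cl_dt, cl_ct, cl_bt, cl_dt, cl_et, cl_ft, cl_dt, cl_ht, cl_it, cl_dt, cl_ct, cl_bt, cl_dt, cl_et, cl_ft, cl_dt, cl_ht, cl_it, cl_dt, cl_ct, cl_bt, cl_dt, cl_et, cl_ft, cl_dt, cl_ht, cl_it, cl_dt, cl_ct, cl_bt, cl_dt, cl_et, cl_ft, cl_dt, cl_ht, cl_it, cl_dt, cl_ct, cl_bt, cl_dt, cl_et, cl_ft, cl_dt, cl_ht, cl_it, cl_dt, cl_ct, cl_bt, cl_dt, cl_et, cl_ft, cl_dt, cl_ht, cl_it, cl_dt, cl_ct, cl_bt, cl_dt, cl_et, cl_ft, cl_dt, cl_ht, cl_it, cl_dt, cl_ct, cl_bt, cl_dt, cl_et, cl_ft, cl_dt, cl_ht, cl_it, cl_dt, cl_ct, cl_bt, cl_dt, cl_et, cl_ft, cl_dt, cl_ht, cl_it, cl_dt, cl_ct, cl_bt, cl_dt, cl_et, cl_ft] 78 (by decide +kernel) relone_55)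
def rc_55_21 : Cert rels S Gen.d := Cert.rel true [cl_et, cl_ft, cl_dt, cl_ht, cl_it, cl_dt, cl_ct, cl_bt, cl_dt, cl_et, cl_ft, cl_dt, cl_ht, cl_it, cl_dt, cl_ct, cl_bt, cl_dt, cl_et, cl_ft, cl_dt, cl_ht, cl_it, cl_dt, cl_ct, cl_bt, cl_dt, cl_et, cl_ft, cl_dt, cl_ht, cl_it, cl_dt, cl_ct, cl_bt, cl_dt, cl_et, cl_ft, cl_dt, cl_ht, cl_it, cl_dt, cl_ct, cl_bt, cl_dt, cl_et, cl_ft, cl_dt, cl_ht, cl_it, cl_dt, cl_ct, cl_bt, cl_dt, cl_et, cl_ft, cl_dt, cl_ht, cl_it, cl_dt, cl_ct, cl_bt, cl_dt, cl_et, cl_ft, cl_dt, cl_ht, cl_it, cl_dt, cl_ct, cl_bt, cl_dt, cl_et, cl_ft, cl_dt, cl_ht, cl_it, cl_dt, cl_ct, cl_bt, cl_dt, cl_et, cl_ft, cl_dt, cl_ht, cl_it, cl_dt, cl_ct, cl_bt]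
  (wG_of_rotate rels relW_55 [cl_dt, cl_et, cl_ft, cl_dt, cl_ht, cl_it, cl_dt, cl_ct, cl_bt, cl_dt, cl_et, cl_ft, cl_dt, cl_ht, cl_it, cl_dt, cl_ct, cl_bt, cl_dt, cl_et, cl_ft, cl_dt, cl_ht, cl_it, cl_dt, cl_ct, cl_bt, cl_dt, cl_et, cl_ft, cl_dt, cl_ht, cl_it, cl_dt, cl_ct, cl_bt, cl_dt, cl_et, cl_ft, cl_dt, cl_ht, cl_it, cl_dt, cl_ct, cl_bt, cl_dt, cl_et, cl_ft, cl_dt, cl_ht, cl_it, cl_dt, cl_ct, cl_bt, cl_dt, cl_et, cl_ft, cl_dt, cl_ht, cl_it, cl_dt, cl_ct, cl_bt, cl_dt, cl_et, cl_ft, cl_dt, cl_ht, cl_it, cl_dt, cl_ct, cl_bt, cl_dt, cl_et, cl_ft, cl_dt, cl_ht, cl_it, cl_dt, cl_ct, cl_bt, cl_dt, cl_et, cl_ft, cl_dt, cl_ht, cl_it, cl_dt, cl_ct, cl_bt] 21 (by decide +kernel) relone_55)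
def rc_55_54 : Cert rels S Gen.d := Cert.rel true [cl_ct, cl_bt, cl_dt, cl_et, cl_ft, cl_dt, cl_ht, cl_it, cl_dt, cl_ct, cl_bt, cl_dt, cl_et, cl_ft, cl_dt, cl_ht, cl_it, cl_dt, cl_ct, cl_bt, cl_dt, cl_et, cl_ft, cl_dt, cl_ht, cl_it, cl_dt, cl_ct, cl_bt, cl_dt, cl_et, cl_ft, cl_dt, cl_ht, cl_it, cl_dt, cl_ct, cl_bt, cl_dt, cl_et, cl_ft, cl_dt, cl_ht, cl_it, cl_dt, cl_ct, cl_bt, cl_dt, cl_et, cl_ft, cl_dt, cl_ht, cl_it, cl_dt, cl_ct, cl_bt, cl_dt, cl_et, cl_ft, cl_dt, cl_ht, cl_it, cl_dt, cl_ct, cl_bt, cl_dt, cl_et, cl_ft, cl_dt, cl_ht, cl_it, cl_dt, cl_ct, cl_bt, cl_dt, cl_et, cl_ft, cl_dt, cl_ht, cl_it, cl_dt, cl_ct, cl_bt, cl_dt, cl_et, cl_ft, cl_dt, cl_ht, cl_it]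
  (wG_of_rotate rels relW_55 [cl_dt, cl_ct, cl_bt, cl_dt, cl_et, cl_ft, cl_dt, cl_ht, cl_it, cl_dt, cl_ct, cl_bt, cl_dt, cl_et, cl_ft, cl_dt, cl_ht, cl_it, cl_dt, cl_ct, cl_bt, cl_dt, cl_et, cl_ft, cl_dt, cl_ht, cl_it, cl_dt, cl_ct, cl_bt, cl_dt, cl_et, cl_ft, cl_dt, cl_ht, cl_it, cl_dt, cl_ct, cl_bt, cl_dt, cl_et, cl_ft, cl_dt, cl_ht, cl_it, cl_dt, cl_ct, cl_bt, cl_dt, cl_et, cl_ft, cl_dt, cl_ht, cl_it, cl_dt, cl_ct, cl_bt, cl_dt, cl_et, cl_ft, cl_dt, cl_ht, cl_it, cl_dt, cl_ct, cl_bt, cl_dt, cl_et, cl_ft, cl_dt, cl_ht, cl_it, cl_dt, cl_ct, cl_bt, cl_dt, cl_et, cl_ft, cl_dt, cl_ht, cl_it, cl_dt, cl_ct, cl_bt, cl_dt, cl_et, cl_ft, cl_dt, cl_ht, cl_it] 54 (by decide +kernel) relone_55)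
def rc_55_42 : Cert rels S Gen.d := Cert.rel true [cl_ht, cl_it, cl_dt, cl_ct, cl_bt, cl_dt, cl_et, cl_ft, cl_dt, cl_ht, cl_it, cl_dt, cl_ct, cl_bt, cl_dt, cl_et, cl_ft, cl_dt, cl_ht, cl_it, cl_dt, cl_ct, cl_bt, cl_dt, cl_et, cl_ft, cl_dt, cl_ht, cl_it, cl_dt, cl_ct, cl_bt, cl_dt, cl_et, cl_ft, cl_dt, cl_ht, cl_it, cl_dt, cl_ct, cl_bt, cl_dt, cl_et, cl_ft, cl_dt, cl_ht, cl_it, cl_dt, cl_ct, cl_bt, cl_dt, cl_et, cl_ft, cl_dt, cl_ht, cl_it, cl_dt, cl_ct, cl_bt, cl_dt, cl_et, cl_ft, cl_dt, cl_ht, cl_it, cl_dt, cl_ct, cl_bt, cl_dt, cl_et, cl_ft, cl_dt, cl_ht, cl_it, cl_dt, cl_ct, cl_bt, cl_dt, cl_et, cl_ft, cl_dt, cl_ht, cl_it, cl_dt, cl_ct, cl_bt, cl_dt, cl_et, cl_ft]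
  (wG_of_rotate rels relW_55 [cl_dt, cl_ht, cl_it, cl_dt, cl_ct, cl_bt, cl_dt, cl_et, cl_ft, cl_dt, cl_ht, cl_it, cl_dt, cl_ct, cl_bt, cl_dt, cl_et, cl_ft, cl_dt, cl_ht, cl_it, cl_dt, cl_ct, cl_bt, cl_dt, cl_et, cl_ft, cl_dt, cl_ht, cl_it, cl_dt, cl_ct, cl_bt, cl_dt, cl_et, cl_ft, cl_dt, cl_ht, cl_it, cl_dt, cl_ct, cl_bt, cl_dt, cl_et, cl_ft, cl_dt, cl_ht, cl_it, cl_dt, cl_ct, cl_bt, cl_dt, cl_et, cl_ft, cl_dt, cl_ht, cl_it, cl_dt, cl_ct, cl_bt, cl_dt, cl_et, cl_ft, cl_dt, cl_ht, cl_it, cl_dt, cl_ct, cl_bt, cl_dt, cl_et, cl_ft, cl_dt, cl_ht, cl_it, cl_dt, cl_ct, cl_bt, cl_dt, cl_et, cl_ft, cl_dt, cl_ht, cl_it, cl_dt, cl_ct, cl_bt, cl_dt, cl_et, cl_ft] 42 (by decide +kernel) relone_55)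
def rc_56_31 : Cert rels S Gen.d := Cert.rel true [cl_et, cl_ft, cl_ht, cl_at, cl_bt, cl_ct, cl_dt, cl_et, cl_ft, cl_ht, cl_at, cl_bt, cl_ct, cl_dt, cl_et, cl_ft, cl_ht, cl_at, cl_bt, cl_ct, cl_dt, cl_et, cl_ft, cl_ht, cl_at, cl_bt, cl_ct, cl_dt, cl_et, cl_ft, cl_ht, cl_at, cl_bt, cl_ct, cl_dt, cl_et, cl_ft, cl_ht, cl_at, cl_bt, cl_ct, cl_dt, cl_et, cl_ft, cl_ht, cl_at, cl_bt, cl_ct, cl_dt, cl_et, cl_ft, cl_ht, cl_at, cl_bt, cl_ct, cl_dt, cl_et, cl_ft, cl_ht, cl_at, cl_bt, cl_ct]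
  (wG_of_rotate rels relW_56 [cl_dt, cl_et, cl_ft, cl_ht, cl_at, cl_bt, cl_ct, cl_dt, cl_et, cl_ft, cl_ht, cl_at, cl_bt, cl_ct, cl_dt, cl_et, cl_ft, cl_ht, cl_at, cl_bt, cl_ct, cl_dt, cl_et, cl_ft, cl_ht, cl_at, cl_bt, cl_ct, cl_dt, cl_et, cl_ft, cl_ht, cl_at, cl_bt, cl_ct, cl_dt, cl_et, cl_ft, cl_ht, cl_at, cl_bt, cl_ct, cl_dt, cl_et, cl_ft, cl_ht, cl_at, cl_bt, cl_ct, cl_dt, cl_et, cl_ft, cl_ht, cl_at, cl_bt, cl_ct, cl_dt, cl_et, cl_ft, cl_ht, cl_at, cl_bt, cl_ct] 31 (by decide +kernel) relone_56)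
def rc_55_45 : Cert rels S Gen.d := Cert.rel true [cl_ct, cl_bt, cl_dt, cl_et, cl_ft, cl_dt, cl_ht, cl_it, cl_dt, cl_ct, cl_bt, cl_dt, cl_et, cl_ft, cl_dt, cl_ht, cl_it, cl_dt, cl_ct, cl_bt, cl_dt, cl_et, cl_ft, cl_dt, cl_ht, cl_it, cl_dt, cl_ct, cl_bt, cl_dt, cl_et, cl_ft, cl_dt, cl_ht, cl_it, cl_dt, cl_ct, cl_bt, cl_dt, cl_et, cl_ft, cl_dt, cl_ht, cl_it, cl_dt, cl_ct, cl_bt, cl_dt, cl_et, cl_ft, cl_dt, cl_ht, cl_it, cl_dt, cl_ct, cl_bt, cl_dt, cl_et, cl_ft, cl_dt, cl_ht, cl_it, cl_dt, cl_ct, cl_bt, cl_dt, cl_et, cl_ft, cl_dt, cl_ht, cl_it, cl_dt, cl_ct, cl_bt, cl_dt, cl_et, cl_ft, cl_dt, cl_ht, cl_it, cl_dt, cl_ct, cl_bt, cl_dt, cl_et, cl_ft, cl_dt, cl_ht, cl_it]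
  (wG_of_rotate rels relW_55 [cl_dt, cl_ct, cl_bt, cl_dt, cl_et, cl_ft, cl_dt, cl_ht, cl_it, cl_dt, cl_ct, cl_bt, cl_dt, cl_et, cl_ft, cl_dt, cl_ht, cl_it, cl_dt, cl_ct, cl_bt, cl_dt, cl_et, cl_ft, cl_dt, cl_ht, cl_it, cl_dt, cl_ct, cl_bt, cl_dt, cl_et, cl_ft, cl_dt, cl_ht, cl_it, cl_dt, cl_ct, cl_bt, cl_dt, cl_et, cl_ft, cl_dt, cl_ht, cl_it, cl_dt, cl_ct, cl_bt, cl_dt, cl_et, cl_ft, cl_dt, cl_ht, cl_it, cl_dt, cl_ct, cl_bt, cl_dt, cl_et, cl_ft, cl_dt, cl_ht, cl_it, cl_dt, cl_ct, cl_bt, cl_dt, cl_et, cl_ft, cl_dt, cl_ht, cl_it, cl_dt, cl_ct, cl_bt, cl_dt, cl_et, cl_ft, cl_dt, cl_ht, cl_it, cl_dt, cl_ct, cl_bt, cl_dt, cl_et, cl_ft, cl_dt, cl_ht, cl_it] 45 (by decide +kernel) relone_55)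
def rc_55_24 : Cert rels S Gen.d := Cert.rel true [cl_ht, cl_it, cl_dt, cl_ct, cl_bt, cl_dt, cl_et, cl_ft, cl_dt, cl_ht, cl_it, cl_dt, cl_ct, cl_bt, cl_dt, cl_et, cl_ft, cl_dt, cl_ht, cl_it, cl_dt, cl_ct, cl_bt, cl_dt, cl_et, cl_ft, cl_dt, cl_ht, cl_it, cl_dt, cl_ct, cl_bt, cl_dt, cl_et, cl_ft, cl_dt, cl_ht, cl_it, cl_dt, cl_ct, cl_bt, cl_dt, cl_et, cl_ft, cl_dt, cl_ht, cl_it, cl_dt, cl_ct, cl_bt, cl_dt, cl_et, cl_ft, cl_dt, cl_ht, cl_it, cl_dt, cl_ct, cl_bt, cl_dt, cl_et, cl_ft, cl_dt, cl_ht, cl_it, cl_dt, cl_ct, cl_bt, cl_dt, cl_et, cl_ft, cl_dt, cl_ht, cl_it, cl_dt, cl_ct, cl_bt, cl_dt, cl_et, cl_ft, cl_dt, cl_ht, cl_it, cl_dt, cl_ct, cl_bt, cl_dt, cl_et, cl_ft]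
  (wG_of_rotate rels relW_55 [cl_dt, cl_ht, cl_it, cl_dt, cl_ct, cl_bt, cl_dt, cl_et, cl_ft, cl_dt, cl_ht, cl_it, cl_dt, cl_ct, cl_bt, cl_dt, cl_et, cl_ft, cl_dt, cl_ht, cl_it, cl_dt, cl_ct, cl_bt, cl_dt, cl_et, cl_ft, cl_dt, cl_ht, cl_it, cl_dt, cl_ct, cl_bt, cl_dt, cl_et, cl_ft, cl_dt, cl_ht, cl_it, cl_dt, cl_ct, cl_bt, cl_dt, cl_et, cl_ft, cl_dt, cl_ht, cl_it, cl_dt, cl_ct, cl_bt, cl_dt, cl_et, cl_ft, cl_dt, cl_ht, cl_it, cl_dt, cl_ct, cl_bt, cl_dt, cl_et, cl_ft, cl_dt, cl_ht, cl_it, cl_dt, cl_ct, cl_bt, cl_dt, cl_et, cl_ft, cl_dt, cl_ht, cl_it, cl_dt, cl_ct, cl_bt, cl_dt, cl_et, cl_ft, cl_dt, cl_ht, cl_it, cl_dt, cl_ct, cl_bt, cl_dt, cl_et, cl_ft] 24 (by decide +kernel) relone_55)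
def rc_55_27 : Cert rels S Gen.d := Cert.rel true [cl_ct, cl_bt, cl_dt, cl_et, cl_ft, cl_dt, cl_ht, cl_it, cl_dt, cl_ct, cl_bt, cl_dt, cl_et, cl_ft, cl_dt, cl_ht, cl_it, cl_dt, cl_ct, cl_bt, cl_dt, cl_et, cl_ft, cl_dt, cl_ht, cl_it, cl_dt, cl_ct, cl_bt, cl_dt, cl_et, cl_ft, cl_dt, cl_ht, cl_it, cl_dt, cl_ct, cl_bt, cl_dt, cl_et, cl_ft, cl_dt, cl_ht, cl_it, cl_dt, cl_ct, cl_bt, cl_dt, cl_et, cl_ft, cl_dt, cl_ht, cl_it, cl_dt, cl_ct, cl_bt, cl_dt, cl_et, cl_ft, cl_dt, cl_ht, cl_it, cl_dt, cl_ct, cl_bt, cl_dt, cl_et, cl_ft, cl_dt, cl_ht, cl_it, cl_dt, cl_ct, cl_bt, cl_dt, cl_et, cl_ft, cl_dt, cl_ht, cl_it, cl_dt, cl_ct, cl_bt, cl_dt, cl_et, cl_ft, cl_dt, cl_ht, cl_it]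
  (wG_of_rotate rels relW_55 [cl_dt, cl_ct, cl_bt, cl_dt, cl_et, cl_ft, cl_dt, cl_ht, cl_it, cl_dt, cl_ct, cl_bt, cl_dt, cl_et, cl_ft, cl_dt, cl_ht, cl_it, cl_dt, cl_ct, cl_bt, cl_dt, cl_et, cl_ft, cl_dt, cl_ht, cl_it, cl_dt, cl_ct, cl_bt, cl_dt, cl_et, cl_ft, cl_dt, cl_ht, cl_it, cl_dt, cl_ct, cl_bt, cl_dt, cl_et, cl_ft, cl_dt, cl_ht, cl_it, cl_dt, cl_ct, cl_bt, cl_dt, cl_et, cl_ft, cl_dt, cl_ht, cl_it, cl_dt, cl_ct, cl_bt, cl_dt, cl_et, cl_ft, cl_dt, cl_ht, cl_it, cl_dt, cl_ct, cl_bt, cl_dt, cl_et, cl_ft, cl_dt, cl_ht, cl_it, cl_dt, cl_ct, cl_bt, cl_dt, cl_et, cl_ft, cl_dt, cl_ht, cl_it, cl_dt, cl_ct, cl_bt, cl_dt, cl_et, cl_ft, cl_dt, cl_ht, cl_it] 27 (by decide +kernel) relone_55)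
def rc_55_30 : Cert rels S Gen.d := Cert.rel true [cl_et, cl_ft, cl_dt, cl_ht, cl_it, cl_dt, cl_ct, cl_bt, cl_dt, cl_et, cl_ft, cl_dt, cl_ht, cl_it, cl_dt, cl_ct, cl_bt, cl_dt, cl_et, cl_ft, cl_dt, cl_ht, cl_it, cl_dt, cl_ct, cl_bt, cl_dt, cl_et, cl_ft, cl_dt, cl_ht, cl_it, cl_dt, cl_ct, cl_bt, cl_dt, cl_et, cl_ft, cl_dt, cl_ht, cl_it, cl_dt, cl_ct, cl_bt, cl_dt, cl_et, cl_ft, cl_dt, cl_ht, cl_it, cl_dt, cl_ct, cl_bt, cl_dt, cl_et, cl_ft, cl_dt, cl_ht, cl_it, cl_dt, cl_ct, cl_bt, cl_dt, cl_et, cl_ft, cl_dt, cl_ht, cl_it, cl_dt, cl_ct, cl_bt, cl_dt, cl_et, cl_ft, cl_dt, cl_ht, cl_it, cl_dt, cl_ct, cl_bt, cl_dt, cl_et, cl_ft, cl_dt, cl_ht, cl_it, cl_dt, cl_ct, cl_bt]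
  (wG_of_rotate rels relW_55 [cl_dt, cl_et, cl_ft, cl_dt, cl_ht, cl_it, cl_dt, cl_ct, cl_bt, cl_dt, cl_et, cl_ft, cl_dt, cl_ht, cl_it, cl_dt, cl_ct, cl_bt, cl_dt, cl_et, cl_ft, cl_dt, cl_ht, cl_it, cl_dt, cl_ct, cl_bt, cl_dt, cl_et, cl_ft, cl_dt, cl_ht, cl_it, cl_dt, cl_ct, cl_bt, cl_dt, cl_et, cl_ft, cl_dt, cl_ht, cl_it, cl_dt, cl_ct, cl_bt, cl_dt, cl_et, cl_ft, cl_dt, cl_ht, cl_it, cl_dt, cl_ct, cl_bt, cl_dt, cl_et, cl_ft, cl_dt, cl_ht, cl_it, cl_dt, cl_ct, cl_bt, cl_dt, cl_et, cl_ft, cl_dt, cl_ht, cl_it, cl_dt, cl_ct, cl_bt, cl_dt, cl_et, cl_ft, cl_dt, cl_ht, cl_it, cl_dt, cl_ct, cl_bt, cl_dt, cl_et, cl_ft, cl_dt, cl_ht, cl_it, cl_dt, cl_ct, cl_bt] 30 (by decide +kernel) relone_55)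
def rc_55_84 : Cert rels S Gen.d := Cert.rel true [cl_et, cl_ft, cl_dt, cl_ht, cl_it, cl_dt, cl_ct, cl_bt, cl_dt, cl_et, cl_ft, cl_dt, cl_ht, cl_it, cl_dt, cl_ct, cl_bt, cl_dt, cl_et, cl_ft, cl_dt, cl_ht, cl_it, cl_dt, cl_ct, cl_bt, cl_dt, cl_et, cl_ft, cl_dt, cl_ht, cl_it, cl_dt, cl_ct, cl_bt, cl_dt, cl_et, cl_ft, cl_dt, cl_ht, cl_it, cl_dt, cl_ct, cl_bt, cl_dt, cl_et, cl_ft, cl_dt, cl_ht, cl_it, cl_dt, cl_ct, cl_bt, cl_dt, cl_et, cl_ft, cl_dt, cl_ht, cl_it, cl_dt, cl_ct, cl_bt, cl_dt, cl_et, cl_ft, cl_dt, cl_ht, cl_it, cl_dt, cl_ct, cl_bt, cl_dt, cl_et, cl_ft, cl_dt, cl_ht, cl_it, cl_dt, cl_ct, cl_bt, cl_dt, cl_et, cl_ft, cl_dt, cl_ht, cl_it, cl_dt, cl_ct, cl_bt]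
  (wG_of_rotate rels relW_55 [cl_dt, cl_et, cl_ft, cl_dt, cl_ht, cl_it, cl_dt, cl_ct, cl_bt, cl_dt, cl_et, cl_ft, cl_dt, cl_ht, cl_it, cl_dt, cl_ct, cl_bt, cl_dt, cl_et, cl_ft, cl_dt, cl_ht, cl_it, cl_dt, cl_ct, cl_bt, cl_dt, cl_et, cl_ft, cl_dt, cl_ht, cl_it, cl_dt, cl_ct, cl_bt, cl_dt, cl_et, cl_ft, cl_dt, cl_ht, cl_it, cl_dt, cl_ct, cl_bt, cl_dt, cl_et, cl_ft, cl_dt, cl_ht, cl_it, cl_dt, cl_ct, cl_bt, cl_dt, cl_et, cl_ft, cl_dt, cl_ht, cl_it, cl_dt, cl_ct, cl_bt, cl_dt, cl_et, cl_ft, cl_dt, cl_ht, cl_it, cl_dt, cl_ct, cl_bt, cl_dt, cl_et, cl_ft, cl_dt, cl_ht, cl_it, cl_dt, cl_ct, cl_bt, cl_dt, cl_et, cl_ft, cl_dt, cl_ht, cl_it, cl_dt, cl_ct, cl_bt] 84 (by decide +kernel) relone_55)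
def rc_55_66 : Cert rels S Gen.d := Cert.rel true [cl_et, cl_ft, cl_dt, cl_ht, cl_it, cl_dt, cl_ct, cl_bt, cl_dt, cl_et, cl_ft, cl_dt, cl_ht, cl_it, cl_dt, cl_ct, cl_bt, cl_dt, cl_et, cl_ft, cl_dt, cl_ht, cl_it, cl_dt, cl_ct, cl_bt, cl_dt, cl_et, cl_ft, cl_dt, cl_ht, cl_it, cl_dt, cl_ct, cl_bt, cl_dt, cl_et, cl_ft, cl_dt, cl_ht, cl_it, cl_dt, cl_ct, cl_bt, cl_dt, cl_et, cl_ft, cl_dt, cl_ht, cl_it, cl_dt, cl_ct, cl_bt, cl_dt, cl_et, cl_ft, cl_dt, cl_ht, cl_it, cl_dt, cl_ct, cl_bt, cl_dt, cl_et, cl_ft, cl_dt, cl_ht, cl_it, cl_dt, cl_ct, cl_bt, cl_dt, cl_et, cl_ft, cl_dt, cl_ht, cl_it, cl_dt, cl_ct, cl_bt, cl_dt, cl_et, cl_ft, cl_dt, cl_ht, cl_it, cl_dt, cl_ct, cl_bt]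
  (wG_of_rotate rels relW_55 [cl_dt, cl_et, cl_ft, cl_dt, cl_ht, cl_it, cl_dt, cl_ct, cl_bt, cl_dt, cl_et, cl_ft, cl_dt, cl_ht, cl_it, cl_dt, cl_ct, cl_bt, cl_dt, cl_et, cl_ft, cl_dt, cl_ht, cl_it, cl_dt, cl_ct, cl_bt, cl_dt, cl_et, cl_ft, cl_dt, cl_ht, cl_it, cl_dt, cl_ct, cl_bt, cl_dt, cl_et, cl_ft, cl_dt, cl_ht, cl_it, cl_dt, cl_ct, cl_bt, cl_dt, cl_et, cl_ft, cl_dt, cl_ht, cl_it, cl_dt, cl_ct, cl_bt, cl_dt, cl_et, cl_ft, cl_dt, cl_ht, cl_it, cl_dt, cl_ct, cl_bt, cl_dt, cl_et, cl_ft, cl_dt, cl_ht, cl_it, cl_dt, cl_ct, cl_bt, cl_dt, cl_et, cl_ft, cl_dt, cl_ht, cl_it, cl_dt, cl_ct, cl_bt, cl_dt, cl_et, cl_ft, cl_dt, cl_ht, cl_it, cl_dt, cl_ct, cl_bt] 66 (by decide +kernel) relone_55)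
def rc_55_36 : Cert rels S Gen.d := Cert.rel true [cl_ct, cl_bt, cl_dt, cl_et, cl_ft, cl_dt, cl_ht, cl_it, cl_dt, cl_ct, cl_bt, cl_dt, cl_et, cl_ft, cl_dt, cl_ht, cl_it, cl_dt, cl_ct, cl_bt, cl_dt, cl_et, cl_ft, cl_dt, cl_ht, cl_it, cl_dt, cl_ct, cl_bt, cl_dt, cl_et, cl_ft, cl_dt, cl_ht, cl_it, cl_dt, cl_ct, cl_bt, cl_dt, cl_et, cl_ft, cl_dt, cl_ht, cl_it, cl_dt, cl_ct, cl_bt, cl_dt, cl_et, cl_ft, cl_dt, cl_ht, cl_it, cl_dt, cl_ct, cl_bt, cl_dt, cl_et, cl_ft, cl_dt, cl_ht, cl_it, cl_dt, cl_ct, cl_bt, cl_dt, cl_et, cl_ft, cl_dt, cl_ht, cl_it, cl_dt, cl_ct, cl_bt, cl_dt, cl_et, cl_ft, cl_dt, cl_ht, cl_it, cl_dt, cl_ct, cl_bt, cl_dt, cl_et, cl_ft, cl_dt, cl_ht, cl_it]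
  (wG_of_rotate rels relW_55 [cl_dt, cl_ct, cl_bt, cl_dt, cl_et, cl_ft, cl_dt, cl_ht, cl_it, cl_dt, cl_ct, cl_bt, cl_dt, cl_et, cl_ft, cl_dt, cl_ht, cl_it, cl_dt, cl_ct, cl_bt, cl_dt, cl_et, cl_ft, cl_dt, cl_ht, cl_it, cl_dt, cl_ct, cl_bt, cl_dt, cl_et, cl_ft, cl_dt, cl_ht, cl_it, cl_dt, cl_ct, cl_bt, cl_dt, cl_et, cl_ft, cl_dt, cl_ht, cl_it, cl_dt, cl_ct, cl_bt, cl_dt, cl_et, cl_ft, cl_dt, cl_ht, cl_it, cl_dt, cl_ct, cl_bt, cl_dt, cl_et, cl_ft, cl_dt, cl_ht, cl_it, cl_dt, cl_ct, cl_bt, cl_dt, cl_et, cl_ft, cl_dt, cl_ht, cl_it, cl_dt, cl_ct, cl_bt, cl_dt, cl_et, cl_ft, cl_dt, cl_ht, cl_it, cl_dt, cl_ct, cl_bt, cl_dt, cl_et, cl_ft, cl_dt, cl_ht, cl_it] 36 (by decide +kernel) relone_55)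
def rc_55_12 : Cert rels S Gen.d := Cert.rel true [cl_et, cl_ft, cl_dt, cl_ht, cl_it, cl_dt, cl_ct, cl_bt, cl_dt, cl_et, cl_ft, cl_dt, cl_ht, cl_it, cl_dt, cl_ct, cl_bt, cl_dt, cl_et, cl_ft, cl_dt, cl_ht, cl_it, cl_dt, cl_ct, cl_bt, cl_dt, cl_et, cl_ft, cl_dt, cl_ht, cl_it, cl_dt, cl_ct, cl_bt, cl_dt, cl_et, cl_ft, cl_dt, cl_ht, cl_it, cl_dt, cl_ct, cl_bt, cl_dt, cl_et, cl_ft, cl_dt, cl_ht, cl_it, cl_dt, cl_ct, cl_bt, cl_dt, cl_et, cl_ft, cl_dt, cl_ht, cl_it, cl_dt, cl_ct, cl_bt, cl_dt, cl_et, cl_ft, cl_dt, cl_ht, cl_it, cl_dt, cl_ct, cl_bt, cl_dt, cl_et, cl_ft, cl_dt, cl_ht, cl_it, cl_dt, cl_ct, cl_bt, cl_dt, cl_et, cl_ft, cl_dt, cl_ht, cl_it, cl_dt, cl_ct, cl_bt]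
  (wG_of_rotate rels relW_55 [cl_dt, cl_et, cl_ft, cl_dt, cl_ht, cl_it, cl_dt, cl_ct, cl_bt, cl_dt, cl_et, cl_ft, cl_dt, cl_ht, cl_it, cl_dt, cl_ct, cl_bt, cl_dt, cl_et, cl_ft, cl_dt, cl_ht, cl_it, cl_dt, cl_ct, cl_bt, cl_dt, cl_et, cl_ft, cl_dt, cl_ht, cl_it, cl_dt, cl_ct, cl_bt, cl_dt, cl_et, cl_ft, cl_dt, cl_ht, cl_it, cl_dt, cl_ct, cl_bt, cl_dt, cl_et, cl_ft, cl_dt, cl_ht, cl_it, cl_dt, cl_ct, cl_bt, cl_dt, cl_et, cl_ft, cl_dt, cl_ht, cl_it, cl_dt, cl_ct, cl_bt, cl_dt, cl_et, cl_ft, cl_dt, cl_ht, cl_it, cl_dt, cl_ct, cl_bt, cl_dt, cl_et, cl_ft, cl_dt, cl_ht, cl_it, cl_dt, cl_ct, cl_bt, cl_dt, cl_et, cl_ft, cl_dt, cl_ht, cl_it, cl_dt, cl_ct, cl_bt] 12 (by decide +kernel) relone_55)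
def rc_55_3 : Cert rels S Gen.d := Cert.rel true [cl_et, cl_ft, cl_dt, cl_ht, cl_it, cl_dt, cl_ct, cl_bt, cl_dt, cl_et, cl_ft, cl_dt, cl_ht, cl_it, cl_dt, cl_ct, cl_bt, cl_dt, cl_et, cl_ft, cl_dt, cl_ht, cl_it, cl_dt, cl_ct, cl_bt, cl_dt, cl_et, cl_ft, cl_dt, cl_ht, cl_it, cl_dt, cl_ct, cl_bt, cl_dt, cl_et, cl_ft, cl_dt, cl_ht, cl_it, cl_dt, cl_ct, cl_bt, cl_dt, cl_et, cl_ft, cl_dt, cl_ht, cl_it, cl_dt, cl_ct, cl_bt, cl_dt, cl_et, cl_ft, cl_dt, cl_ht, cl_it, cl_dt, cl_ct, cl_bt, cl_dt, cl_et, cl_ft, cl_dt, cl_ht, cl_it, cl_dt, cl_ct, cl_bt, cl_dt, cl_et, cl_ft, cl_dt, cl_ht, cl_it, cl_dt, cl_ct, cl_bt, cl_dt, cl_et, cl_ft, cl_dt, cl_ht, cl_it, cl_dt, cl_ct, cl_bt]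
  (wG_of_rotate rels relW_55 [cl_dt, cl_et, cl_ft, cl_dt, cl_ht, cl_it, cl_dt, cl_ct, cl_bt, cl_dt, cl_et, cl_ft, cl_dt, cl_ht, cl_it, cl_dt, cl_ct, cl_bt, cl_dt, cl_et, cl_ft, cl_dt, cl_ht, cl_it, cl_dt, cl_ct, cl_bt, cl_dt, cl_et, cl_ft, cl_dt, cl_ht, cl_it, cl_dt, cl_ct, cl_bt, cl_dt, cl_et, cl_ft, cl_dt, cl_ht, cl_it, cl_dt, cl_ct, cl_bt, cl_dt, cl_et, cl_ft, cl_dt, cl_ht, cl_it, cl_dt, cl_ct, cl_bt, cl_dt, cl_et, cl_ft, cl_dt, cl_ht, cl_it, cl_dt, cl_ct, cl_bt, cl_dt, cl_et, cl_ft, cl_dt, cl_ht, cl_it, cl_dt, cl_ct, cl_bt, cl_dt, cl_et, cl_ft, cl_dt, cl_ht, cl_it, cl_dt, cl_ct, cl_bt, cl_dt, cl_et, cl_ft, cl_dt, cl_ht, cl_it, cl_dt, cl_ct, cl_bt] 3 (by decide +kernel) relone_55)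
def rc_55_15 : Cert rels S Gen.d := Cert.rel true [cl_ht, cl_it, cl_dt, cl_ct, cl_bt, cl_dt, cl_et, cl_ft, cl_dt, cl_ht, cl_it, cl_dt, cl_ct, cl_bt, cl_dt, cl_et, cl_ft, cl_dt, cl_ht, cl_it, cl_dt, cl_ct, cl_bt, cl_dt, cl_et, cl_ft, cl_dt, cl_ht, cl_it, cl_dt, cl_ct, cl_bt, cl_dt, cl_et, cl_ft, cl_dt, cl_ht, cl_it, cl_dt, cl_ct, cl_bt, cl_dt, cl_et, cl_ft, cl_dt, cl_ht, cl_it, cl_dt, cl_ct, cl_bt, cl_dt, cl_et, cl_ft, cl_dt, cl_ht, cl_it, cl_dt, cl_ct, cl_bt, cl_dt, cl_et, cl_ft, cl_dt, cl_ht, cl_it, cl_dt, cl_ct, cl_bt, cl_dt, cl_et, cl_ft, cl_dt, cl_ht, cl_it, cl_dt, cl_ct, cl_bt, cl_dt, cl_et, cl_ft, cl_dt, cl_ht, cl_it, cl_dt, cl_ct, cl_bt, cl_dt, cl_et, cl_ft]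
  (wG_of_rotate rels relW_55 [cl_dt, cl_ht, cl_it, cl_dt, cl_ct, cl_bt, cl_dt, cl_et, cl_ft, cl_dt, cl_ht, cl_it, cl_dt, cl_ct, cl_bt, cl_dt, cl_et, cl_ft, cl_dt, cl_ht, cl_it, cl_dt, cl_ct, cl_bt, cl_dt, cl_et, cl_ft, cl_dt, cl_ht, cl_it, cl_dt, cl_ct, cl_bt, cl_dt, cl_et, cl_ft, cl_dt, cl_ht, cl_it, cl_dt, cl_ct, cl_bt, cl_dt, cl_et, cl_ft, cl_dt, cl_ht, cl_it, cl_dt, cl_ct, cl_bt, cl_dt, cl_et, cl_ft, cl_dt, cl_ht, cl_it, cl_dt, cl_ct, cl_bt, cl_dt, cl_et, cl_ft, cl_dt, cl_ht, cl_it, cl_dt, cl_ct, cl_bt, cl_dt, cl_et, cl_ft, cl_dt, cl_ht, cl_it, cl_dt, cl_ct, cl_bt, cl_dt, cl_et, cl_ft, cl_dt, cl_ht, cl_it, cl_dt, cl_ct, cl_bt, cl_dt, cl_et, cl_ft] 15 (by decide +kernel) relone_55)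
def rc_38_2 : Cert rels S Gen.e := Cert.rel true [cl_jt, cl_et, cl_jt]
  (wG_of_rotate rels relW_38 [cl_et, cl_jt, cl_et, cl_jt] 2 (by decide +kernel) relone_38)
def rc_37_2 : Cert rels S Gen.e := Cert.rel true [cl_gt, cl_et, cl_gt]
  (wG_of_rotate rels relW_37 [cl_et, cl_gt, cl_et, cl_gt] 2 (by decide +kernel) relone_37)
def rc_34_0 : Cert rels S Gen.e := Cert.rel true [cl_et]
  (wG_of_rotate rels relW_34 [cl_et, cl_et] 0 (by decide +kernel) relone_34)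
def rc_28_3 : Cert rels S Gen.e := Cert.rel true [cl_dt, cl_et, cl_dt, cl_et, cl_dt]
  (wG_of_rotate rels relW_28 [cl_et, cl_dt, cl_et, cl_dt, cl_et, cl_dt] 3 (by decide +kernel) relone_28)
def rc_21_1 : Cert rels S Gen.e := Cert.rel true [cl_ct, cl_et, cl_ct]
  (wG_of_rotate rels relW_21 [cl_et, cl_ct, cl_et, cl_ct] 1 (by decide +kernel) relone_21)
def rc_35_2 : Cert rels S Gen.e := Cert.rel true [cl_ht, cl_et, cl_ht]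
  (wG_of_rotate rels relW_35 [cl_et, cl_ht, cl_et, cl_ht] 2 (by decide +kernel) relone_35)
def rc_13_1 : Cert rels S Gen.e := Cert.rel true [cl_bt, cl_et, cl_bt]
  (wG_of_rotate rels relW_13 [cl_et, cl_bt, cl_et, cl_bt] 1 (by decide +kernel) relone_13)
def rc_39_2 : Cert rels S Gen.e := Cert.rel true [cl_it, cl_et, cl_it]
  (wG_of_rotate rels relW_39 [cl_et, cl_it, cl_et, cl_it] 2 (by decide +kernel) relone_39)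
def rc_4_1 : Cert rels S Gen.e := Cert.rel true [cl_at, cl_et, cl_at]
  (wG_of_rotate rels relW_4 [cl_et, cl_at, cl_et, cl_at] 1 (by decide +kernel) relone_4)
def rc_36_2 : Cert rels S Gen.e := Cert.rel true [cl_ft, cl_et, cl_ft, cl_et, cl_ft]
  (wG_of_rotate rels relW_36 [cl_et, cl_ft, cl_et, cl_ft, cl_et, cl_ft] 2 (by decide +kernel) relone_36)
def rc_56_32 : Cert rels S Gen.e := Cert.rel true [cl_ft, cl_ht, cl_at, cl_bt, cl_ct, cl_dt, cl_et, cl_ft, cl_ht, cl_at, cl_bt, cl_ct, cl_dt, cl_et, cl_ft, cl_ht, cl_at, cl_bt, cl_ct, cl_dt, cl_et, cl_ft, cl_ht, cl_at, cl_bt, cl_ct, cl_dt, cl_et, cl_ft, cl_ht, cl_at, cl_bt, cl_ct, cl_dt, cl_et, cl_ft, cl_ht, cl_at, cl_bt, cl_ct, cl_dt, cl_et, cl_ft, cl_ht, cl_at, cl_bt, cl_ct, cl_dt, cl_et, cl_ft, cl_ht, cl_at, cl_bt, cl_ct, cl_dt, cl_et,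 cl_ft, cl_ht, cl_at, cl_bt, cl_ct, cl_dt]
  (wG_of_rotate rels relW_56 [cl_et, cl_ft, cl_ht, cl_at, cl_bt, cl_ct, cl_dt, cl_et, cl_ft, cl_ht, cl_at, cl_bt, cl_ct, cl_dt, cl_et, cl_ft, cl_ht, cl_at, cl_bt, cl_ct, cl_dt, cl_et, cl_ft, cl_ht, cl_at, cl_bt, cl_ct, cl_dt, cl_et, cl_ft, cl_ht, cl_at, cl_bt, cl_ct, cl_dt, cl_et, cl_ft, cl_ht, cl_at, cl_bt, cl_ct, cl_dt, cl_et, cl_ft, cl_ht, cl_at, cl_bt, cl_ct, cl_dt, cl_et, cl_ft, cl_ht, cl_at, cl_bt, cl_ct, cl_dt, cl_et, cl_ft, cl_ht, cl_at, cl_bt, cl_ct, cl_dt] 32 (by decide +kernel) relone_56)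
def rc_56_11 : Cert rels S Gen.e := Cert.rel true [cl_ft, cl_ht, cl_at, cl_bt, cl_ct, cl_dt, cl_et, cl_ft, cl_ht, cl_at, cl_bt, cl_ct, cl_dt, cl_et, cl_ft, cl_ht, cl_at, cl_bt, cl_ct, cl_dt, cl_et, cl_ft, cl_ht, cl_at, cl_bt, cl_ct, cl_dt, cl_et, cl_ft, cl_ht, cl_at, cl_bt, cl_ct, cl_dt, cl_et, cl_ft, cl_ht, cl_at, cl_bt, cl_ct, cl_dt, cl_et, cl_ft, cl_ht, cl_at, cl_bt, cl_ct, cl_dt, cl_et, cl_ft, cl_ht, cl_at, cl_bt, cl_ct, cl_dt, cl_et, cl_ft, cl_ht, cl_at, cl_bt, cl_ct, cl_dt]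
  (wG_of_rotate rels relW_56 [cl_et, cl_ft, cl_ht, cl_at, cl_bt, cl_ct, cl_dt, cl_et, cl_ft, cl_ht, cl_at, cl_bt, cl_ct, cl_dt, cl_et, cl_ft, cl_ht, cl_at, cl_bt, cl_ct, cl_dt, cl_et, cl_ft, cl_ht, cl_at, cl_bt, cl_ct, cl_dt, cl_et, cl_ft, cl_ht, cl_at, cl_bt, cl_ct, cl_dt, cl_et, cl_ft, cl_ht, cl_at, cl_bt, cl_ct, cl_dt, cl_et, cl_ft, cl_ht, cl_at, cl_bt, cl_ct, cl_dt, cl_et, cl_ft, cl_ht, cl_at, cl_bt, cl_ct, cl_dt, cl_et, cl_ft, cl_ht, cl_at, cl_bt, cl_ct, cl_dt] 11 (by decide +kernel) relone_56)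
def rc_21_3 : Cert rels S Gen.e := Cert.rel true [cl_ct, cl_et, cl_ct]
  (wG_of_rotate rels relW_21 [cl_et, cl_ct, cl_et, cl_ct] 3 (by decide +kernel) relone_21)
def rc_13_3 : Cert rels S Gen.e := Cert.rel true [cl_bt, cl_et, cl_bt]
  (wG_of_rotate rels relW_13 [cl_et, cl_bt, cl_et, cl_bt] 3 (by decide +kernel) relone_13)
def rc_4_3 : Cert rels S Gen.e := Cert.rel true [cl_at, cl_et, cl_at]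
  (wG_of_rotate rels relW_4 [cl_et, cl_at, cl_et, cl_at] 3 (by decide +kernel) relone_4)
def rc_56_25 : Cert rels S Gen.e := Cert.rel true [cl_ft, cl_ht, cl_at, cl_bt, cl_ct, cl_dt, cl_et, cl_ft, cl_ht, cl_at, cl_bt, cl_ct, cl_dt, cl_et, cl_ft, cl_ht, cl_at, cl_bt, cl_ct, cl_dt, cl_et, cl_ft, cl_ht, cl_at, cl_bt, cl_ct, cl_dt, cl_et, cl_ft, cl_ht, cl_at, cl_bt, cl_ct, cl_dt, cl_et, cl_ft, cl_ht, cl_at, cl_bt, cl_ct, cl_dt, cl_et, cl_ft, cl_ht, cl_at, cl_bt, cl_ct, cl_dt, cl_et, cl_ft, cl_ht, cl_at, cl_bt, cl_ct, cl_dt, cl_et, cl_ft, cl_ht, cl_at, cl_bt, cl_ct, cl_dt]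
  (wG_of_rotate rels relW_56 [cl_et, cl_ft, cl_ht, cl_at, cl_bt, cl_ct, cl_dt, cl_et, cl_ft, cl_ht, cl_at, cl_bt, cl_ct, cl_dt, cl_et, cl_ft, cl_ht, cl_at, cl_bt, cl_ct, cl_dt, cl_et, cl_ft, cl_ht, cl_at, cl_bt, cl_ct, cl_dt, cl_et, cl_ft, cl_ht, cl_at, cl_bt, cl_ct, cl_dt, cl_et, cl_ft, cl_ht, cl_at, cl_bt, cl_ct, cl_dt, cl_et, cl_ft, cl_ht, cl_at, cl_bt, cl_ct, cl_dt, cl_et, cl_ft, cl_ht, cl_at, cl_bt, cl_ct, cl_dt, cl_et, cl_ft, cl_ht, cl_at, cl_bt, cl_ct, cl_dt] 25 (by decide +kernel) relone_56)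
def rc_28_1 : Cert rels S Gen.e := Cert.rel true [cl_dt, cl_et, cl_dt, cl_et, cl_dt]
  (wG_of_rotate rels relW_28 [cl_et, cl_dt, cl_et, cl_dt, cl_et, cl_dt] 1 (by decide +kernel) relone_28)
def rc_39_0 : Cert rels S Gen.e := Cert.rel true [cl_it, cl_et, cl_it]
  (wG_of_rotate rels relW_39 [cl_et, cl_it, cl_et, cl_it] 0 (by decide +kernel) relone_39)
def rc_35_0 : Cert rels S Gen.e := Cert.rel true [cl_ht, cl_et, cl_ht]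
  (wG_of_rotate rels relW_35 [cl_et, cl_ht, cl_et, cl_ht] 0 (by decide +kernel) relone_35)
def rc_56_53 : Cert rels S Gen.e := Cert.rel true [cl_ft, cl_ht, cl_at, cl_bt, cl_ct, cl_dt, cl_et, cl_ft, cl_ht, cl_at, cl_bt, cl_ct, cl_dt, cl_et, cl_ft, cl_ht, cl_at, cl_bt, cl_ct, cl_dt, cl_et, cl_ft, cl_ht, cl_at, cl_bt, cl_ct, cl_dt, cl_et, cl_ft, cl_ht, cl_at, cl_bt, cl_ct, cl_dt, cl_et, cl_ft, cl_ht, cl_at, cl_bt, cl_ct, cl_dt, cl_et, cl_ft, cl_ht, cl_at, cl_bt, cl_ct, cl_dt, cl_et, cl_ft, cl_ht, cl_at, cl_bt, cl_ct, cl_dt, cl_et, cl_ft, cl_ht, cl_at, cl_bt, cl_ct, cl_dt]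
  (wG_of_rotate rels relW_56 [cl_et, cl_ft, cl_ht, cl_at, cl_bt, cl_ct, cl_dt, cl_et, cl_ft, cl_ht, cl_at, cl_bt, cl_ct, cl_dt, cl_et, cl_ft, cl_ht, cl_at, cl_bt, cl_ct, cl_dt, cl_et, cl_ft, cl_ht, cl_at, cl_bt, cl_ct, cl_dt, cl_et, cl_ft, cl_ht, cl_at, cl_bt, cl_ct, cl_dt, cl_et, cl_ft, cl_ht, cl_at, cl_bt, cl_ct, cl_dt, cl_et, cl_ft, cl_ht, cl_at, cl_bt, cl_ct, cl_dt, cl_et, cl_ft, cl_ht, cl_at, cl_bt, cl_ct, cl_dt, cl_et, cl_ft, cl_ht, cl_at, cl_bt, cl_ct, cl_dt] 53 (by decide +kernel) relone_56)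
def rc_56_46 : Cert rels S Gen.e := Cert.rel true [cl_ft, cl_ht, cl_at, cl_bt, cl_ct, cl_dt, cl_et, cl_ft, cl_ht, cl_at, cl_bt, cl_ct, cl_dt, cl_et, cl_ft, cl_ht, cl_at, cl_bt, cl_ct, cl_dt, cl_et, cl_ft, cl_ht, cl_at, cl_bt, cl_ct, cl_dt, cl_et, cl_ft, cl_ht, cl_at, cl_bt, cl_ct, cl_dt, cl_et, cl_ft, cl_ht, cl_at, cl_bt, cl_ct, cl_dt, cl_et, cl_ft, cl_ht, cl_at, cl_bt, cl_ct, cl_dt, cl_et, cl_ft, cl_ht, cl_at, cl_bt, cl_ct, cl_dt, cl_et, cl_ft, cl_ht, cl_at, cl_bt, cl_ct, cl_dt]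
  (wG_of_rotate rels relW_56 [cl_et, cl_ft, cl_ht, cl_at, cl_bt, cl_ct, cl_dt, cl_et, cl_ft, cl_ht, cl_at, cl_bt, cl_ct, cl_dt, cl_et, cl_ft, cl_ht, cl_at, cl_bt, cl_ct, cl_dt, cl_et, cl_ft, cl_ht, cl_at, cl_bt, cl_ct, cl_dt, cl_et, cl_ft, cl_ht, cl_at, cl_bt, cl_ct, cl_dt, cl_et, cl_ft, cl_ht, cl_at, cl_bt, cl_ct, cl_dt, cl_et, cl_ft, cl_ht, cl_at, cl_bt, cl_ct, cl_dt, cl_et, cl_ft, cl_ht, cl_at, cl_bt, cl_ct, cl_dt, cl_et, cl_ft, cl_ht, cl_at, cl_bt, cl_ct, cl_dt] 46 (by decide +kernel) relone_56)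
def rc_55_58 : Cert rels S Gen.e := Cert.rel true [cl_ft, cl_dt, cl_ht, cl_it, cl_dt, cl_ct, cl_bt, cl_dt, cl_et, cl_ft, cl_dt, cl_ht, cl_it, cl_dt, cl_ct, cl_bt, cl_dt, cl_et, cl_ft, cl_dt, cl_ht, cl_it, cl_dt, cl_ct, cl_bt, cl_dt, cl_et, cl_ft, cl_dt, cl_ht, cl_it, cl_dt, cl_ct, cl_bt, cl_dt, cl_et, cl_ft, cl_dt, cl_ht, cl_it, cl_dt, cl_ct, cl_bt, cl_dt, cl_et, cl_ft, cl_dt, cl_ht, cl_it, cl_dt, cl_ct, cl_bt, cl_dt, cl_et, cl_ft, cl_dt, cl_ht, cl_it, cl_dt, cl_ct, cl_bt, cl_dt, cl_et, cl_ft, cl_dt, cl_ht, cl_it, cl_dt, cl_ct, cl_bt, cl_dt, cl_et, cl_ft, cl_dt, cl_ht, cl_it, cl_dt, cl_ct, cl_bt, cl_dt, cl_et, cl_ft, cl_dt, cl_ht, cl_it, cl_dt, cl_ct, cl_bt, cl_dt]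
  (wG_of_rotate rels relW_55 [cl_et, cl_ft, cl_dt, cl_ht, cl_it, cl_dt, cl_ct, cl_bt, cl_dt, cl_et, cl_ft, cl_dt, cl_ht, cl_it, cl_dt, cl_ct, cl_bt, cl_dt, cl_et, cl_ft, cl_dt, cl_ht, cl_it, cl_dt, cl_ct, cl_bt, cl_dt, cl_et, cl_ft, cl_dt, cl_ht, cl_it, cl_dt, cl_ct, cl_bt, cl_dt, cl_et, cl_ft, cl_dt, cl_ht, cl_it, cl_dt, cl_ct, cl_bt, cl_dt, cl_et, cl_ft, cl_dt, cl_ht, cl_it, cl_dt, cl_ct, cl_bt, cl_dt, cl_et, cl_ft, cl_dt, cl_ht, cl_it, cl_dt, cl_ct, cl_bt, cl_dt, cl_et, cl_ft, cl_dt, cl_ht, cl_it, cl_dt, cl_ct, cl_bt, cl_dt, cl_et, cl_ft, cl_dt, cl_ht, cl_it, cl_dt, cl_ct, cl_bt, cl_dt, cl_et, cl_ft, cl_dt, cl_ht, cl_it, cl_dt, cl_ct, cl_bt, cl_dt] 58 (by decide +kernel) relone_55)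
def rc_36_4 : Cert rels S Gen.e := Cert.rel true [cl_ft, cl_et, cl_ft, cl_et, cl_ft]
  (wG_of_rotate rels relW_36 [cl_et, cl_ft, cl_et, cl_ft, cl_et, cl_ft] 4 (by decide +kernel) relone_36)
def rc_37_0 : Cert rels S Gen.e := Cert.rel true [cl_gt, cl_et, cl_gt]
  (wG_of_rotate rels relW_37 [cl_et, cl_gt, cl_et, cl_gt] 0 (by decide +kernel) relone_37)
def rc_34_1 : Cert rels S Gen.e := Cert.rel true [cl_et]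
  (wG_of_rotate rels relW_34 [cl_et, cl_et] 1 (by decide +kernel) relone_34)
def rc_28_5 : Cert rels S Gen.e := Cert.rel true [cl_dt, cl_et, cl_dt, cl_et, cl_dt]
  (wG_of_rotate rels relW_28 [cl_et, cl_dt, cl_et, cl_dt, cl_et, cl_dt] 5 (by decide +kernel) relone_28)
def rc_55_22 : Cert rels S Gen.e := Cert.rel true [cl_ft, cl_dt, cl_ht, cl_it, cl_dt, cl_ct, cl_bt, cl_dt, cl_et, cl_ft, cl_dt, cl_ht, cl_it, cl_dt, cl_ct, cl_bt, cl_dt, cl_et, cl_ft, cl_dt, cl_ht, cl_it, cl_dt, cl_ct, cl_bt, cl_dt, cl_et, cl_ft, cl_dt, cl_ht, cl_it, cl_dt, cl_ct, cl_bt, cl_dt, cl_et, cl_ft, cl_dt, cl_ht, cl_it, cl_dt, cl_ct, cl_bt, cl_dt, cl_et, cl_ft, cl_dt, cl_ht, cl_it, cl_dt, cl_ct, cl_bt, cl_dt, cl_et, cl_ft, cl_dt, cl_ht, cl_it, cl_dt, cl_ct, cl_bt, cl_dt, cl_et, cl_ft, cl_dt, cl_ht, cl_it,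 cl_dt, cl_ct, cl_bt, cl_dt, cl_et, cl_ft, cl_dt, cl_ht, cl_it, cl_dt, cl_ct, cl_bt, cl_dt, cl_et, cl_ft, cl_dt, cl_ht, cl_it, cl_dt, cl_ct, cl_bt, cl_dt]
  (wG_of_rotate rels relW_55 [cl_et, cl_ft, cl_dt, cl_ht, cl_it, cl_dt, cl_ct, cl_bt, cl_dt, cl_et, cl_ft, cl_dt, cl_ht, cl_it, cl_dt, cl_ct, cl_bt, cl_dt, cl_et, cl_ft, cl_dt, cl_ht, cl_it, cl_dt, cl_ct, cl_bt, cl_dt, cl_et, cl_ft, cl_dt, cl_ht, cl_it, cl_dt, cl_ct, cl_bt, cl_dt, cl_et, cl_ft, cl_dt, cl_ht, cl_it, cl_dt, cl_ct, cl_bt, cl_dt, cl_et, cl_ft, cl_dt, cl_ht, cl_it, cl_dt, cl_ct, cl_bt, cl_dt, cl_et, cl_ft, cl_dt, cl_ht, cl_it, cl_dt, cl_ct, cl_bt, cl_dt, cl_et, cl_ft, cl_dt, cl_ht, cl_it, cl_dt, cl_ct, cl_bt, cl_dt, cl_et, cl_ft, cl_dt, cl_ht, cl_it, cl_dt, cl_ct, cl_bt, cl_dt, cl_et, cl_ft, cl_dt, cl_ht, cl_it,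 cl_dt, cl_ct, cl_bt, cl_dt] 22 (by decide +kernel) relone_55)
def rc_36_0 : Cert rels S Gen.e := Cert.rel true [cl_ft, cl_et, cl_ft, cl_et, cl_ft]
  (wG_of_rotate rels relW_36 [cl_et, cl_ft, cl_et, cl_ft, cl_et, cl_ft] 0 (by decide +kernel) relone_36)
def rc_56_39 : Cert rels S Gen.e := Cert.rel true [cl_ft, cl_ht, cl_at, cl_bt, cl_ct, cl_dt, cl_et, cl_ft, cl_ht, cl_at, cl_bt, cl_ct, cl_dt, cl_et, cl_ft, cl_ht, cl_at, cl_bt, cl_ct, cl_dt, cl_et, cl_ft, cl_ht, cl_at, cl_bt, cl_ct, cl_dt, cl_et, cl_ft, cl_ht, cl_at, cl_bt, cl_ct, cl_dt, cl_et, cl_ft, cl_ht, cl_at, cl_bt, cl_ct, cl_dt, cl_et, cl_ft, cl_ht, cl_at, cl_bt, cl_ct, cl_dt, cl_et, cl_ft, cl_ht, cl_at, cl_bt, cl_ct, cl_dt, cl_et, cl_ft, cl_ht, cl_at, cl_bt, cl_ct, cl_dt]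
  (wG_of_rotate rels relW_56 [cl_et, cl_ft, cl_ht, cl_at, cl_bt, cl_ct, cl_dt, cl_et, cl_ft, cl_ht, cl_at, cl_bt, cl_ct, cl_dt, cl_et, cl_ft, cl_ht, cl_at, cl_bt, cl_ct, cl_dt, cl_et, cl_ft, cl_ht, cl_at, cl_bt, cl_ct, cl_dt, cl_et, cl_ft, cl_ht, cl_at, cl_bt, cl_ct, cl_dt, cl_et, cl_ft, cl_ht, cl_at, cl_bt, cl_ct, cl_dt, cl_et, cl_ft, cl_ht, cl_at, cl_bt, cl_ct, cl_dt, cl_et, cl_ft, cl_ht, cl_at, cl_bt, cl_ct, cl_dt, cl_et, cl_ft, cl_ht, cl_at, cl_bt, cl_ct, cl_dt] 39 (by decide +kernel) relone_56)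
def rc_55_76 : Cert rels S Gen.e := Cert.rel true [cl_ft, cl_dt, cl_ht, cl_it, cl_dt, cl_ct, cl_bt, cl_dt, cl_et, cl_ft, cl_dt, cl_ht, cl_it, cl_dt, cl_ct, cl_bt, cl_dt, cl_et, cl_ft, cl_dt, cl_ht, cl_it, cl_dt, cl_ct, cl_bt, cl_dt, cl_et, cl_ft, cl_dt, cl_ht, cl_it, cl_dt, cl_ct, cl_bt, cl_dt, cl_et, cl_ft, cl_dt, cl_ht, cl_it, cl_dt, cl_ct, cl_bt, cl_dt, cl_et, cl_ft, cl_dt, cl_ht, cl_it, cl_dt, cl_ct, cl_bt, cl_dt, cl_et, cl_ft, cl_dt, cl_ht, cl_it, cl_dt, cl_ct, cl_bt, cl_dt, cl_et, cl_ft, cl_dt, cl_ht, cl_it, cl_dt, cl_ct, cl_bt, cl_dt, cl_et, cl_ft, cl_dt, cl_ht, cl_it, cl_dt, cl_ct, cl_bt, cl_dt, cl_et, cl_ft, cl_dt, cl_ht, cl_it, cl_dt, cl_ct, cl_bt, cl_dt]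
  (wG_of_rotate rels relW_55 [cl_et, cl_ft, cl_dt, cl_ht, cl_it, cl_dt, cl_ct, cl_bt, cl_dt, cl_et, cl_ft, cl_dt, cl_ht, cl_it, cl_dt, cl_ct, cl_bt, cl_dt, cl_et, cl_ft, cl_dt, cl_ht, cl_it, cl_dt, cl_ct, cl_bt, cl_dt, cl_et, cl_ft, cl_dt, cl_ht, cl_it, cl_dt, cl_ct, cl_bt, cl_dt, cl_et, cl_ft, cl_dt, cl_ht, cl_it, cl_dt, cl_ct, cl_bt, cl_dt, cl_et, cl_ft, cl_dt, cl_ht, cl_it, cl_dt, cl_ct, cl_bt, cl_dt, cl_et, cl_ft, cl_dt, cl_ht, cl_it, cl_dt, cl_ct, cl_bt, cl_dt, cl_et, cl_ft, cl_dt, cl_ht, cl_it, cl_dt, cl_ct, cl_bt, cl_dt, cl_et, cl_ft, cl_dt, cl_ht, cl_it, cl_dt, cl_ct, cl_bt, cl_dt, cl_et, cl_ft, cl_dt, cl_ht, cl_it, cl_dt, cl_ct, cl_bt, cl_dt] 76 (by decide +kernel) relone_55)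
def rc_38_0 : Cert rels S Gen.e := Cert.rel true [cl_jt, cl_et, cl_jt]
  (wG_of_rotate rels relW_38 [cl_et, cl_jt, cl_et, cl_jt] 0 (by decide +kernel) relone_38)
def rc_56_18 : Cert rels S Gen.e := Cert.rel true [cl_ft, cl_ht, cl_at, cl_bt, cl_ct, cl_dt, cl_et, cl_ft, cl_ht, cl_at, cl_bt, cl_ct, cl_dt, cl_et, cl_ft, cl_ht, cl_at, cl_bt, cl_ct, cl_dt, cl_et, cl_ft, cl_ht, cl_at, cl_bt, cl_ct, cl_dt, cl_et, cl_ft, cl_ht, cl_at, cl_bt, cl_ct, cl_dt, cl_et, cl_ft, cl_ht, cl_at, cl_bt, cl_ct, cl_dt, cl_et, cl_ft, cl_ht, cl_at, cl_bt, cl_ct, cl_dt, cl_et, cl_ft, cl_ht, cl_at, cl_bt, cl_ct, cl_dt, cl_et, cl_ft, cl_ht, cl_at, cl_bt, cl_ct, cl_dt]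
  (wG_of_rotate rels relW_56 [cl_et, cl_ft, cl_ht, cl_at, cl_bt, cl_ct, cl_dt, cl_et, cl_ft, cl_ht, cl_at, cl_bt, cl_ct, cl_dt, cl_et, cl_ft, cl_ht, cl_at, cl_bt, cl_ct, cl_dt, cl_et, cl_ft, cl_ht, cl_at, cl_bt, cl_ct, cl_dt, cl_et, cl_ft, cl_ht, cl_at, cl_bt, cl_ct, cl_dt, cl_et, cl_ft, cl_ht, cl_at, cl_bt, cl_ct, cl_dt, cl_et, cl_ft, cl_ht, cl_at, cl_bt, cl_ct, cl_dt, cl_et, cl_ft, cl_ht, cl_at, cl_bt, cl_ct, cl_dt, cl_et, cl_ft, cl_ht, cl_at, cl_bt, cl_ct, cl_dt] 18 (by decide +kernel) relone_56)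
def rc_55_31 : Cert rels S Gen.e := Cert.rel true [cl_ft, cl_dt, cl_ht, cl_it, cl_dt, cl_ct, cl_bt, cl_dt, cl_et, cl_ft, cl_dt, cl_ht, cl_it, cl_dt, cl_ct, cl_bt, cl_dt, cl_et, cl_ft, cl_dt, cl_ht, cl_it, cl_dt, cl_ct, cl_bt, cl_dt, cl_et, cl_ft, cl_dt, cl_ht, cl_it, cl_dt, cl_ct, cl_bt, cl_dt, cl_et, cl_ft, cl_dt, cl_ht, cl_it, cl_dt, cl_ct, cl_bt, cl_dt, cl_et, cl_ft, cl_dt, cl_ht, cl_it, cl_dt, cl_ct, cl_bt, cl_dt, cl_et, cl_ft, cl_dt, cl_ht, cl_it, cl_dt, cl_ct, cl_bt, cl_dt, cl_et, cl_ft, cl_dt, cl_ht, cl_it, cl_dt, cl_ct, cl_bt, cl_dt, cl_et, cl_ft, cl_dt, cl_ht, cl_it, cl_dt, cl_ct, cl_bt, cl_dt, cl_et, cl_ft, cl_dt, cl_ht, cl_it, cl_dt, cl_ct, cl_bt, cl_dt]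
  (wG_of_rotate rels relW_55 [cl_et, cl_ft, cl_dt, cl_ht, cl_it, cl_dt, cl_ct, cl_bt, cl_dt, cl_et, cl_ft, cl_dt, cl_ht, cl_it, cl_dt, cl_ct, cl_bt, cl_dt, cl_et, cl_ft, cl_dt, cl_ht, cl_it, cl_dt, cl_ct, cl_bt, cl_dt, cl_et, cl_ft, cl_dt, cl_ht, cl_it, cl_dt, cl_ct, cl_bt, cl_dt, cl_et, cl_ft, cl_dt, cl_ht, cl_it, cl_dt, cl_ct, cl_bt, cl_dt, cl_et, cl_ft, cl_dt, cl_ht, cl_it, cl_dt, cl_ct, cl_bt, cl_dt, cl_et, cl_ft, cl_dt, cl_ht, cl_it, cl_dt, cl_ct, cl_bt, cl_dt, cl_et, cl_ft, cl_dt, cl_ht, cl_it, cl_dt, cl_ct, cl_bt, cl_dt, cl_et, cl_ft, cl_dt, cl_ht, cl_it, cl_dt, cl_ct, cl_bt, cl_dt, cl_et, cl_ft, cl_dt, cl_ht, cl_it, cl_dt, cl_ct, cl_bt, cl_dt] 31 (by decide +kernel) relone_55)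
def rc_56_60 : Cert rels S Gen.e := Cert.rel true [cl_ft, cl_ht, cl_at, cl_bt, cl_ct, cl_dt, cl_et, cl_ft, cl_ht, cl_at, cl_bt, cl_ct, cl_dt, cl_et, cl_ft, cl_ht, cl_at, cl_bt, cl_ct, cl_dt, cl_et, cl_ft, cl_ht, cl_at, cl_bt, cl_ct, cl_dt, cl_et, cl_ft, cl_ht, cl_at, cl_bt, cl_ct, cl_dt, cl_et, cl_ft, cl_ht, cl_at, cl_bt, cl_ct, cl_dt, cl_et, cl_ft, cl_ht, cl_at, cl_bt, cl_ct, cl_dt, cl_et, cl_ft, cl_ht, cl_at, cl_bt, cl_ct, cl_dt, cl_et, cl_ft, cl_ht, cl_at, cl_bt, cl_ct, cl_dt]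
  (wG_of_rotate rels relW_56 [cl_et, cl_ft, cl_ht, cl_at, cl_bt, cl_ct, cl_dt, cl_et, cl_ft, cl_ht, cl_at, cl_bt, cl_ct, cl_dt, cl_et, cl_ft, cl_ht, cl_at, cl_bt, cl_ct, cl_dt, cl_et, cl_ft, cl_ht, cl_at, cl_bt, cl_ct, cl_dt, cl_et, cl_ft, cl_ht, cl_at, cl_bt, cl_ct, cl_dt, cl_et, cl_ft, cl_ht, cl_at, cl_bt, cl_ct, cl_dt, cl_et, cl_ft, cl_ht, cl_at, cl_bt, cl_ct, cl_dt, cl_et, cl_ft, cl_ht, cl_at, cl_bt, cl_ct, cl_dt, cl_et, cl_ft, cl_ht, cl_at, cl_bt, cl_ct, cl_dt] 60 (by decide +kernel) relone_56)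
def rc_55_49 : Cert rels S Gen.e := Cert.rel true [cl_ft, cl_dt, cl_ht, cl_it, cl_dt, cl_ct, cl_bt, cl_dt, cl_et, cl_ft, cl_dt, cl_ht, cl_it, cl_dt, cl_ct, cl_bt, cl_dt, cl_et, cl_ft, cl_dt, cl_ht, cl_it, cl_dt, cl_ct, cl_bt, cl_dt, cl_et, cl_ft, cl_dt, cl_ht, cl_it, cl_dt, cl_ct, cl_bt, cl_dt, cl_et, cl_ft, cl_dt, cl_ht, cl_it, cl_dt, cl_ct, cl_bt, cl_dt, cl_et, cl_ft, cl_dt, cl_ht, cl_it, cl_dt, cl_ct, cl_bt, cl_dt, cl_et, cl_ft, cl_dt, cl_ht, cl_it, cl_dt, cl_ct, cl_bt, cl_dt, cl_et, cl_ft, cl_dt, cl_ht, cl_it, cl_dt, cl_ct, cl_bt, cl_dt, cl_et, cl_ft, cl_dt, cl_ht, cl_it, cl_dt, cl_ct, cl_bt, cl_dt, cl_et, cl_ft, cl_dt, cl_ht, cl_it, cl_dt, cl_ct, cl_bt, cl_dt]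
  (wG_of_rotate rels relW_55 [cl_et, cl_ft, cl_dt, cl_ht, cl_it, cl_dt, cl_ct, cl_bt, cl_dt, cl_et, cl_ft, cl_dt, cl_ht, cl_it, cl_dt, cl_ct, cl_bt, cl_dt, cl_et, cl_ft, cl_dt, cl_ht, cl_it, cl_dt, cl_ct, cl_bt, cl_dt, cl_et, cl_ft, cl_dt, cl_ht, cl_it, cl_dt, cl_ct, cl_bt, cl_dt, cl_et, cl_ft, cl_dt, cl_ht, cl_it, cl_dt, cl_ct, cl_bt, cl_dt, cl_et, cl_ft, cl_dt, cl_ht, cl_it, cl_dt, cl_ct, cl_bt, cl_dt, cl_et, cl_ft, cl_dt, cl_ht, cl_it, cl_dt, cl_ct, cl_bt, cl_dt, cl_et, cl_ft, cl_dt, cl_ht, cl_it, cl_dt, cl_ct, cl_bt, cl_dt, cl_et, cl_ft, cl_dt, cl_ht, cl_it, cl_dt, cl_ct, cl_bt, cl_dt, cl_et, cl_ft, cl_dt, cl_ht, cl_it, cl_dt, cl_ct, cl_bt, cl_dt] 49 (by decide +kernel) relone_55)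
def rc_55_67 : Cert rels S Gen.e := Cert.rel true [cl_ft, cl_dt, cl_ht, cl_it, cl_dt, cl_ct, cl_bt, cl_dt, cl_et, cl_ft, cl_dt, cl_ht, cl_it, cl_dt, cl_ct, cl_bt, cl_dt, cl_et, cl_ft, cl_dt, cl_ht, cl_it, cl_dt, cl_ct, cl_bt, cl_dt, cl_et, cl_ft, cl_dt, cl_ht, cl_it, cl_dt, cl_ct, cl_bt, cl_dt, cl_et, cl_ft, cl_dt, cl_ht, cl_it, cl_dt, cl_ct, cl_bt, cl_dt, cl_et, cl_ft, cl_dt, cl_ht, cl_it, cl_dt, cl_ct, cl_bt, cl_dt, cl_et, cl_ft, cl_dt, cl_ht, cl_it, cl_dt, cl_ct, cl_bt, cl_dt, cl_et, cl_ft, cl_dt, cl_ht, cl_it, cl_dt, cl_ct, cl_bt, cl_dt, cl_et, cl_ft, cl_dt, cl_ht, cl_it, cl_dt, cl_ct, cl_bt, cl_dt, cl_et, cl_ft, cl_dt, cl_ht, cl_it, cl_dt, cl_ct, cl_bt, cl_dt]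
  (wG_of_rotate rels relW_55 [cl_et, cl_ft, cl_dt, cl_ht, cl_it, cl_dt, cl_ct, cl_bt, cl_dt, cl_et, cl_ft, cl_dt, cl_ht, cl_it, cl_dt, cl_ct, cl_bt, cl_dt, cl_et, cl_ft, cl_dt, cl_ht, cl_it, cl_dt, cl_ct, cl_bt, cl_dt, cl_et, cl_ft, cl_dt, cl_ht, cl_it, cl_dt, cl_ct, cl_bt, cl_dt, cl_et, cl_ft, cl_dt, cl_ht, cl_it, cl_dt, cl_ct, cl_bt, cl_dt, cl_et, cl_ft, cl_dt, cl_ht, cl_it, cl_dt, cl_ct, cl_bt, cl_dt, cl_et, cl_ft, cl_dt, cl_ht, cl_it, cl_dt, cl_ct, cl_bt, cl_dt, cl_et, cl_ft, cl_dt, cl_ht, cl_it, cl_dt, cl_ct, cl_bt, cl_dt, cl_et, cl_ft, cl_dt, cl_ht, cl_it, cl_dt, cl_ct, cl_bt, cl_dt, cl_et, cl_ft, cl_dt, cl_ht, cl_it, cl_dt, cl_ct, cl_bt, cl_dt] 67 (by decide +kernel) relone_55)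
def rc_55_40 : Cert rels S Gen.e := Cert.rel true [cl_ft, cl_dt, cl_ht, cl_it, cl_dt, cl_ct, cl_bt, cl_dt, cl_et, cl_ft, cl_dt, cl_ht, cl_it, cl_dt, cl_ct, cl_bt, cl_dt, cl_et, cl_ft, cl_dt, cl_ht, cl_it, cl_dt, cl_ct, cl_bt, cl_dt, cl_et, cl_ft, cl_dt, cl_ht, cl_it, cl_dt, cl_ct, cl_bt, cl_dt, cl_et, cl_ft, cl_dt, cl_ht, cl_it, cl_dt, cl_ct, cl_bt, cl_dt, cl_et, cl_ft, cl_dt, cl_ht, cl_it, cl_dt, cl_ct, cl_bt, cl_dt, cl_et, cl_ft, cl_dt, cl_ht, cl_it, cl_dt, cl_ct, cl_bt, cl_dt, cl_et, cl_ft, cl_dt, cl_ht, cl_it, cl_dt, cl_ct, cl_bt, cl_dt, cl_et, cl_ft, cl_dt, cl_ht, cl_it, cl_dt, cl_ct, cl_bt, cl_dt, cl_et, cl_ft, cl_dt, cl_ht, cl_it, cl_dt, cl_ct, cl_bt, cl_dt]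
  (wG_of_rotate rels relW_55 [cl_et, cl_ft, cl_dt, cl_ht, cl_it, cl_dt, cl_ct, cl_bt, cl_dt, cl_et, cl_ft, cl_dt, cl_ht, cl_it, cl_dt, cl_ct, cl_bt, cl_dt, cl_et, cl_ft, cl_dt, cl_ht, cl_it, cl_dt, cl_ct, cl_bt, cl_dt, cl_et, cl_ft, cl_dt, cl_ht, cl_it, cl_dt, cl_ct, cl_bt, cl_dt, cl_et, cl_ft, cl_dt, cl_ht, cl_it, cl_dt, cl_ct, cl_bt, cl_dt, cl_et, cl_ft, cl_dt, cl_ht, cl_it, cl_dt, cl_ct, cl_bt, cl_dt, cl_et, cl_ft, cl_dt, cl_ht, cl_it, cl_dt, cl_ct, cl_bt, cl_dt, cl_et, cl_ft, cl_dt, cl_ht, cl_it, cl_dt, cl_ct, cl_bt, cl_dt, cl_et, cl_ft, cl_dt, cl_ht, cl_it, cl_dt, cl_ct, cl_bt, cl_dt, cl_et, cl_ft, cl_dt, cl_ht, cl_it, cl_dt, cl_ct, cl_bt, cl_dt] 40 (by decide +kernel) relone_55)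
def rc_45_2 : Cert rels S Gen.f := Cert.rel true [cl_jt, cl_ft, cl_jt]
  (wG_of_rotate rels relW_45 [cl_ft, cl_jt, cl_ft, cl_jt] 2 (by decide +kernel) relone_45)
def rc_43_0 : Cert rels S Gen.f := Cert.rel true [cl_ft]
  (wG_of_rotate rels relW_43 [cl_ft, cl_ft] 0 (by decide +kernel) relone_43)
def rc_36_3 : Cert rels S Gen.f := Cert.rel true [cl_et, cl_ft, cl_et, cl_ft, cl_et]
  (wG_of_rotate rels relW_36 [cl_ft, cl_et, cl_ft, cl_et, cl_ft, cl_et] 3 (by decide +kernel) relone_36)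
def rc_30_1 : Cert rels S Gen.f := Cert.rel true [cl_dt, cl_ft, cl_dt]
  (wG_of_rotate rels relW_30 [cl_ft, cl_dt, cl_ft, cl_dt] 1 (by decide +kernel) relone_30)
def rc_23_1 : Cert rels S Gen.f := Cert.rel true [cl_ct, cl_ft, cl_ct]
  (wG_of_rotate rels relW_23 [cl_ft, cl_ct, cl_ft, cl_ct] 1 (by decide +kernel) relone_23)
def rc_42_2 : Cert rels S Gen.f := Cert.rel true [cl_ht, cl_ft, cl_ht]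
  (wG_of_rotate rels relW_42 [cl_ft, cl_ht, cl_ft, cl_ht] 2 (by decide +kernel) relone_42)
def rc_15_1 : Cert rels S Gen.f := Cert.rel true [cl_bt, cl_ft, cl_bt]
  (wG_of_rotate rels relW_15 [cl_ft, cl_bt, cl_ft, cl_bt] 1 (by decide +kernel) relone_15)
def rc_46_2 : Cert rels S Gen.f := Cert.rel true [cl_it, cl_ft, cl_it]
  (wG_of_rotate rels relW_46 [cl_ft, cl_it, cl_ft, cl_it] 2 (by decide +kernel) relone_46)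
def rc_6_1 : Cert rels S Gen.f := Cert.rel true [cl_at, cl_ft, cl_at]
  (wG_of_rotate rels relW_6 [cl_ft, cl_at, cl_ft, cl_at] 1 (by decide +kernel) relone_6)
def rc_44_2 : Cert rels S Gen.f := Cert.rel true [cl_gt, cl_ft, cl_gt, cl_ft, cl_gt]
  (wG_of_rotate rels relW_44 [cl_ft, cl_gt, cl_ft, cl_gt, cl_ft, cl_gt] 2 (by decide +kernel) relone_44)
def rc_43_1 : Cert rels S Gen.f := Cert.rel true [cl_ft]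
  (wG_of_rotate rels relW_43 [cl_ft, cl_ft] 1 (by decide +kernel) relone_43)
def rc_56_26 : Cert rels S Gen.f := Cert.rel true [cl_ht, cl_at, cl_bt, cl_ct, cl_dt, cl_et, cl_ft, cl_ht, cl_at, cl_bt, cl_ct, cl_dt, cl_et, cl_ft, cl_ht, cl_at, cl_bt, cl_ct, cl_dt, cl_et, cl_ft, cl_ht, cl_at, cl_bt, cl_ct, cl_dt, cl_et, cl_ft, cl_ht, cl_at, cl_bt, cl_ct, cl_dt, cl_et, cl_ft, cl_ht, cl_at, cl_bt, cl_ct, cl_dt, cl_et, cl_ft, cl_ht, cl_at, cl_bt, cl_ct, cl_dt, cl_et, cl_ft, cl_ht, cl_at, cl_bt, cl_ct, cl_dt, cl_et, cl_ft, cl_ht, cl_at, cl_bt, cl_ct, cl_dt, cl_et]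
  (wG_of_rotate rels relW_56 [cl_ft, cl_ht, cl_at, cl_bt, cl_ct, cl_dt, cl_et, cl_ft, cl_ht, cl_at, cl_bt, cl_ct, cl_dt, cl_et, cl_ft, cl_ht, cl_at, cl_bt, cl_ct, cl_dt, cl_et, cl_ft, cl_ht, cl_at, cl_bt, cl_ct, cl_dt, cl_et, cl_ft, cl_ht, cl_at, cl_bt, cl_ct, cl_dt, cl_et, cl_ft, cl_ht, cl_at, cl_bt, cl_ct, cl_dt, cl_et, cl_ft, cl_ht, cl_at, cl_bt, cl_ct, cl_dt, cl_et, cl_ft, cl_ht, cl_at, cl_bt, cl_ct, cl_dt, cl_et, cl_ft, cl_ht, cl_at, cl_bt, cl_ct, cl_dt, cl_et] 26 (by decide +kernel) relone_56)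
def rc_36_5 : Cert rels S Gen.f := Cert.rel true [cl_et, cl_ft, cl_et, cl_ft, cl_et]
  (wG_of_rotate rels relW_36 [cl_ft, cl_et, cl_ft, cl_et, cl_ft, cl_et] 5 (by decide +kernel) relone_36)
def rc_36_1 : Cert rels S Gen.f := Cert.rel true [cl_et, cl_ft, cl_et, cl_ft, cl_et]
  (wG_of_rotate rels relW_36 [cl_ft, cl_et, cl_ft, cl_et, cl_ft, cl_et] 1 (by decide +kernel) relone_36)
def rc_6_3 : Cert rels S Gen.f := Cert.rel true [cl_at, cl_ft, cl_at]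
  (wG_of_rotate rels relW_6 [cl_ft, cl_at, cl_ft, cl_at] 3 (by decide +kernel) relone_6)
def rc_15_3 : Cert rels S Gen.f := Cert.rel true [cl_bt, cl_ft, cl_bt]
  (wG_of_rotate rels relW_15 [cl_ft, cl_bt, cl_ft, cl_bt] 3 (by decide +kernel) relone_15)
def rc_46_0 : Cert rels S Gen.f := Cert.rel true [cl_it, cl_ft, cl_it]
  (wG_of_rotate rels relW_46 [cl_ft, cl_it, cl_ft, cl_it] 0 (by decide +kernel) relone_46)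
def rc_23_3 : Cert rels S Gen.f := Cert.rel true [cl_ct, cl_ft, cl_ct]
  (wG_of_rotate rels relW_23 [cl_ft, cl_ct, cl_ft, cl_ct] 3 (by decide +kernel) relone_23)
def rc_30_3 : Cert rels S Gen.f := Cert.rel true [cl_dt, cl_ft, cl_dt]
  (wG_of_rotate rels relW_30 [cl_ft, cl_dt, cl_ft, cl_dt] 3 (by decide +kernel) relone_30)
def rc_56_54 : Cert rels S Gen.f := Cert.rel true [cl_ht, cl_at, cl_bt, cl_ct, cl_dt, cl_et, cl_ft, cl_ht, cl_at, cl_bt, cl_ct, cl_dt, cl_et, cl_ft, cl_ht, cl_at, cl_bt, cl_ct, cl_dt, cl_et, cl_ft, cl_ht, cl_at, cl_bt, cl_ct, cl_dt, cl_et, cl_ft, cl_ht, cl_at, cl_bt, cl_ct, cl_dt, cl_et, cl_ft, cl_ht, cl_at, cl_bt, cl_ct, cl_dt, cl_et, cl_ft, cl_ht, cl_at, cl_bt, cl_ct, cl_dt, cl_et, cl_ft, cl_ht, cl_at, cl_bt, cl_ct, cl_dt, cl_et, cl_ft, cl_ht, cl_at, cl_bt,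 cl_ct, cl_dt, cl_et]
  (wG_of_rotate rels relW_56 [cl_ft, cl_ht, cl_at, cl_bt, cl_ct, cl_dt, cl_et, cl_ft, cl_ht, cl_at, cl_bt, cl_ct, cl_dt, cl_et, cl_ft, cl_ht, cl_at, cl_bt, cl_ct, cl_dt, cl_et, cl_ft, cl_ht, cl_at, cl_bt, cl_ct, cl_dt, cl_et, cl_ft, cl_ht, cl_at, cl_bt, cl_ct, cl_dt, cl_et, cl_ft, cl_ht, cl_at, cl_bt, cl_ct, cl_dt, cl_et, cl_ft, cl_ht, cl_at, cl_bt, cl_ct, cl_dt, cl_et, cl_ft, cl_ht, cl_at, cl_bt, cl_ct, cl_dt, cl_et, cl_ft, cl_ht, cl_at, cl_bt, cl_ct, cl_dt, cl_et] 54 (by decide +kernel) relone_56)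
def rc_56_12 : Cert rels S Gen.f := Cert.rel true [cl_ht, cl_at, cl_bt, cl_ct, cl_dt, cl_et, cl_ft, cl_ht, cl_at, cl_bt, cl_ct, cl_dt, cl_et, cl_ft, cl_ht, cl_at, cl_bt, cl_ct, cl_dt, cl_et, cl_ft, cl_ht, cl_at, cl_bt, cl_ct, cl_dt, cl_et, cl_ft, cl_ht, cl_at, cl_bt, cl_ct, cl_dt, cl_et, cl_ft, cl_ht, cl_at, cl_bt, cl_ct, cl_dt, cl_et, cl_ft, cl_ht, cl_at, cl_bt, cl_ct, cl_dt, cl_et, cl_ft, cl_ht, cl_at, cl_bt, cl_ct, cl_dt, cl_et, cl_ft, cl_ht, cl_at, cl_bt, cl_ct, cl_dt, cl_et]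
  (wG_of_rotate rels relW_56 [cl_ft, cl_ht, cl_at, cl_bt, cl_ct, cl_dt, cl_et, cl_ft, cl_ht, cl_at, cl_bt, cl_ct, cl_dt, cl_et, cl_ft, cl_ht, cl_at, cl_bt, cl_ct, cl_dt, cl_et, cl_ft, cl_ht, cl_at, cl_bt, cl_ct, cl_dt, cl_et, cl_ft, cl_ht, cl_at, cl_bt, cl_ct, cl_dt, cl_et, cl_ft, cl_ht, cl_at, cl_bt, cl_ct, cl_dt, cl_et, cl_ft, cl_ht, cl_at, cl_bt, cl_ct, cl_dt, cl_et, cl_ft, cl_ht, cl_at, cl_bt, cl_ct, cl_dt, cl_et, cl_ft, cl_ht, cl_at, cl_bt, cl_ct, cl_dt, cl_et] 12 (by decide +kernel) relone_56)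
def rc_44_4 : Cert rels S Gen.f := Cert.rel true [cl_gt, cl_ft, cl_gt, cl_ft, cl_gt]
  (wG_of_rotate rels relW_44 [cl_ft, cl_gt, cl_ft, cl_gt, cl_ft, cl_gt] 4 (by decide +kernel) relone_44)
def rc_55_5 : Cert rels S Gen.f := Cert.rel true [cl_dt, cl_ht, cl_it, cl_dt, cl_ct, cl_bt, cl_dt, cl_et, cl_ft, cl_dt, cl_ht, cl_it, cl_dt, cl_ct, cl_bt, cl_dt, cl_et, cl_ft, cl_dt, cl_ht, cl_it, cl_dt, cl_ct, cl_bt, cl_dt, cl_et, cl_ft, cl_dt, cl_ht, cl_it, cl_dt, cl_ct, cl_bt, cl_dt, cl_et, cl_ft, cl_dt, cl_ht, cl_it, cl_dt, cl_ct, cl_bt, cl_dt, cl_et, cl_ft, cl_dt, cl_ht, cl_it, cl_dt, cl_ct, cl_bt, cl_dt, cl_et, cl_ft, cl_dt, cl_ht, cl_it, cl_dt, cl_ct, cl_bt, cl_dt, cl_et, cl_ft, cl_dt, cl_ht, cl_it, cl_dt, cl_ct, cl_bt, cl_dt, cl_et, cl_ft, cl_dt, cl_ht, cl_it, cl_dt, cl_ct, cl_bt,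 cl_dt, cl_et, cl_ft, cl_dt, cl_ht, cl_it, cl_dt, cl_ct, cl_bt, cl_dt, cl_et]
  (wG_of_rotate rels relW_55 [cl_ft, cl_dt, cl_ht, cl_it, cl_dt, cl_ct, cl_bt, cl_dt, cl_et, cl_ft, cl_dt, cl_ht, cl_it, cl_dt, cl_ct, cl_bt, cl_dt, cl_et, cl_ft, cl_dt, cl_ht, cl_it, cl_dt, cl_ct, cl_bt, cl_dt, cl_et, cl_ft, cl_dt, cl_ht, cl_it, cl_dt, cl_ct, cl_bt, cl_dt, cl_et, cl_ft, cl_dt, cl_ht, cl_it, cl_dt, cl_ct, cl_bt, cl_dt, cl_et, cl_ft, cl_dt, cl_ht, cl_it, cl_dt, cl_ct, cl_bt, cl_dt, cl_et, cl_ft, cl_dt, cl_ht, cl_it, cl_dt, cl_ct, cl_bt, cl_dt, cl_et, cl_ft, cl_dt, cl_ht, cl_it, cl_dt, cl_ct, cl_bt, cl_dt, cl_et, cl_ft, cl_dt, cl_ht, cl_it, cl_dt, cl_ct, cl_bt, cl_dt, cl_et, cl_ft, cl_dt, cl_ht, cl_it, cl_dt, cl_ct, cl_bt, cl_dt, cl_et] 5 (by decide +kernel) relone_55)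
def rc_42_0 : Cert rels S Gen.f := Cert.rel true [cl_ht, cl_ft, cl_ht]
  (wG_of_rotate rels relW_42 [cl_ft, cl_ht, cl_ft, cl_ht] 0 (by decide +kernel) relone_42)
def rc_56_40 : Cert rels S Gen.f := Cert.rel true [cl_ht, cl_at, cl_bt, cl_ct, cl_dt, cl_et, cl_ft, cl_ht, cl_at, cl_bt, cl_ct, cl_dt, cl_et, cl_ft, cl_ht, cl_at, cl_bt, cl_ct, cl_dt, cl_et, cl_ft, cl_ht, cl_at, cl_bt, cl_ct, cl_dt, cl_et, cl_ft, cl_ht, cl_at, cl_bt, cl_ct, cl_dt, cl_et, cl_ft, cl_ht, cl_at, cl_bt, cl_ct, cl_dt, cl_et, cl_ft, cl_ht, cl_at, cl_bt, cl_ct, cl_dt, cl_et, cl_ft, cl_ht, cl_at, cl_bt, cl_ct, cl_dt, cl_et, cl_ft, cl_ht, cl_at, cl_bt, cl_ct, cl_dt, cl_et]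
  (wG_of_rotate rels relW_56 [cl_ft, cl_ht, cl_at, cl_bt, cl_ct, cl_dt, cl_et, cl_ft, cl_ht, cl_at, cl_bt, cl_ct, cl_dt, cl_et, cl_ft, cl_ht, cl_at, cl_bt, cl_ct, cl_dt, cl_et, cl_ft, cl_ht, cl_at, cl_bt, cl_ct, cl_dt, cl_et, cl_ft, cl_ht, cl_at, cl_bt, cl_ct, cl_dt, cl_et, cl_ft, cl_ht, cl_at, cl_bt, cl_ct, cl_dt, cl_et, cl_ft, cl_ht, cl_at, cl_bt, cl_ct, cl_dt, cl_et, cl_ft, cl_ht, cl_at, cl_bt, cl_ct, cl_dt, cl_et, cl_ft, cl_ht, cl_at, cl_bt, cl_ct, cl_dt, cl_et] 40 (by decide +kernel) relone_56)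
def rc_45_0 : Cert rels S Gen.f := Cert.rel true [cl_jt, cl_ft, cl_jt]
  (wG_of_rotate rels relW_45 [cl_ft, cl_jt, cl_ft, cl_jt] 0 (by decide +kernel) relone_45)
def rc_55_32 : Cert rels S Gen.f := Cert.rel true [cl_dt, cl_ht, cl_it, cl_dt, cl_ct, cl_bt, cl_dt, cl_et, cl_ft, cl_dt, cl_ht, cl_it, cl_dt, cl_ct, cl_bt, cl_dt, cl_et, cl_ft, cl_dt, cl_ht, cl_it, cl_dt, cl_ct, cl_bt, cl_dt, cl_et, cl_ft, cl_dt, cl_ht, cl_it, cl_dt, cl_ct, cl_bt, cl_dt, cl_et, cl_ft, cl_dt, cl_ht, cl_it, cl_dt, cl_ct, cl_bt, cl_dt, cl_et, cl_ft, cl_dt, cl_ht, cl_it, cl_dt, cl_ct, cl_bt, cl_dt, cl_et, cl_ft, cl_dt, cl_ht, cl_it, cl_dt, cl_ct, cl_bt, cl_dt, cl_et, cl_ft, cl_dt, cl_ht, cl_it, cl_dt, cl_ct, cl_bt, cl_dt, cl_et, cl_ft, cl_dt, cl_ht, cl_it, cl_dt, cl_ct, cl_bt, cl_dt, cl_et, cl_ft, cl_dt,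 cl_ht, cl_it, cl_dt, cl_ct, cl_bt, cl_dt, cl_et]
  (wG_of_rotate rels relW_55 [cl_ft, cl_dt, cl_ht, cl_it, cl_dt, cl_ct, cl_bt, cl_dt, cl_et, cl_ft, cl_dt, cl_ht, cl_it, cl_dt, cl_ct, cl_bt, cl_dt, cl_et, cl_ft, cl_dt, cl_ht, cl_it, cl_dt, cl_ct, cl_bt, cl_dt, cl_et, cl_ft, cl_dt, cl_ht, cl_it, cl_dt, cl_ct, cl_bt, cl_dt, cl_et, cl_ft, cl_dt, cl_ht, cl_it, cl_dt, cl_ct, cl_bt, cl_dt, cl_et, cl_ft, cl_dt, cl_ht, cl_it, cl_dt, cl_ct, cl_bt, cl_dt, cl_et, cl_ft, cl_dt, cl_ht, cl_it, cl_dt, cl_ct, cl_bt, cl_dt, cl_et, cl_ft, cl_dt, cl_ht, cl_it, cl_dt, cl_ct, cl_bt, cl_dt, cl_et, cl_ft, cl_dt, cl_ht, cl_it, cl_dt, cl_ct, cl_bt, cl_dt, cl_et, cl_ft, cl_dt, cl_ht, cl_it, cl_dt, cl_ct, cl_bt, cl_dt, cl_et] 32 (by decide +kernel) relone_55)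
def rc_55_68 : Cert rels S Gen.f := Cert.rel true [cl_dt, cl_ht, cl_it, cl_dt, cl_ct, cl_bt, cl_dt, cl_et, cl_ft, cl_dt, cl_ht, cl_it, cl_dt, cl_ct, cl_bt, cl_dt, cl_et, cl_ft, cl_dt, cl_ht, cl_it, cl_dt, cl_ct, cl_bt, cl_dt, cl_et, cl_ft, cl_dt, cl_ht, cl_it, cl_dt, cl_ct, cl_bt, cl_dt, cl_et, cl_ft, cl_dt, cl_ht, cl_it, cl_dt, cl_ct, cl_bt, cl_dt, cl_et, cl_ft, cl_dt, cl_ht, cl_it, cl_dt, cl_ct, cl_bt, cl_dt, cl_et, cl_ft, cl_dt, cl_ht, cl_it, cl_dt, cl_ct, cl_bt, cl_dt, cl_et, cl_ft, cl_dt, cl_ht, cl_it, cl_dt, cl_ct, cl_bt, cl_dt, cl_et, cl_ft, cl_dt, cl_ht, cl_it, cl_dt, cl_ct, cl_bt, cl_dt, cl_et, cl_ft, cl_dt, cl_ht, cl_it, cl_dt, cl_ct, cl_bt, cl_dt, cl_et]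
  (wG_of_rotate rels relW_55 [cl_ft, cl_dt, cl_ht, cl_it, cl_dt, cl_ct, cl_bt, cl_dt, cl_et, cl_ft, cl_dt, cl_ht, cl_it, cl_dt, cl_ct, cl_bt, cl_dt, cl_et, cl_ft, cl_dt, cl_ht, cl_it, cl_dt, cl_ct, cl_bt, cl_dt, cl_et, cl_ft, cl_dt, cl_ht, cl_it, cl_dt, cl_ct, cl_bt, cl_dt, cl_et, cl_ft, cl_dt, cl_ht, cl_it, cl_dt, cl_ct, cl_bt, cl_dt, cl_et, cl_ft, cl_dt, cl_ht, cl_it, cl_dt, cl_ct, cl_bt, cl_dt, cl_et, cl_ft, cl_dt, cl_ht, cl_it, cl_dt, cl_ct, cl_bt, cl_dt, cl_et, cl_ft, cl_dt, cl_ht, cl_it, cl_dt, cl_ct, cl_bt, cl_dt, cl_et, cl_ft, cl_dt, cl_ht, cl_it, cl_dt, cl_ct, cl_bt, cl_dt, cl_et, cl_ft, cl_dt, cl_ht, cl_it, cl_dt, cl_ct, cl_bt, cl_dt, cl_et] 68 (by decide +kernel) relone_55)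
def rc_56_19 : Cert rels S Gen.f := Cert.rel true [cl_ht, cl_at, cl_bt, cl_ct, cl_dt, cl_et, cl_ft, cl_ht, cl_at, cl_bt, cl_ct, cl_dt, cl_et, cl_ft, cl_ht, cl_at, cl_bt, cl_ct, cl_dt, cl_et, cl_ft, cl_ht, cl_at, cl_bt, cl_ct, cl_dt, cl_et, cl_ft, cl_ht, cl_at, cl_bt, cl_ct, cl_dt, cl_et, cl_ft, cl_ht, cl_at, cl_bt, cl_ct, cl_dt, cl_et, cl_ft, cl_ht, cl_at, cl_bt, cl_ct, cl_dt, cl_et, cl_ft, cl_ht, cl_at, cl_bt, cl_ct, cl_dt, cl_et, cl_ft, cl_ht, cl_at, cl_bt, cl_ct, cl_dt, cl_et]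
  (wG_of_rotate rels relW_56 [cl_ft, cl_ht, cl_at, cl_bt, cl_ct, cl_dt, cl_et, cl_ft, cl_ht, cl_at, cl_bt, cl_ct, cl_dt, cl_et, cl_ft, cl_ht, cl_at, cl_bt, cl_ct, cl_dt, cl_et, cl_ft, cl_ht, cl_at, cl_bt, cl_ct, cl_dt, cl_et, cl_ft, cl_ht, cl_at, cl_bt, cl_ct, cl_dt, cl_et, cl_ft, cl_ht, cl_at, cl_bt, cl_ct, cl_dt, cl_et, cl_ft, cl_ht, cl_at, cl_bt, cl_ct, cl_dt, cl_et, cl_ft, cl_ht, cl_at, cl_bt, cl_ct, cl_dt, cl_et, cl_ft, cl_ht, cl_at, cl_bt, cl_ct, cl_dt, cl_et] 19 (by decide +kernel) relone_56)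
def rc_55_86 : Cert rels S Gen.f := Cert.rel true [cl_dt, cl_ht, cl_it, cl_dt, cl_ct, cl_bt, cl_dt, cl_et, cl_ft, cl_dt, cl_ht, cl_it, cl_dt, cl_ct, cl_bt, cl_dt, cl_et, cl_ft, cl_dt, cl_ht, cl_it, cl_dt, cl_ct, cl_bt, cl_dt, cl_et, cl_ft, cl_dt, cl_ht, cl_it, cl_dt, cl_ct, cl_bt, cl_dt, cl_et, cl_ft, cl_dt, cl_ht, cl_it, cl_dt, cl_ct, cl_bt, cl_dt, cl_et, cl_ft, cl_dt, cl_ht, cl_it, cl_dt, cl_ct, cl_bt, cl_dt, cl_et, cl_ft, cl_dt, cl_ht, cl_it, cl_dt, cl_ct, cl_bt, cl_dt, cl_et, cl_ft, cl_dt, cl_ht, cl_it, cl_dt, cl_ct, cl_bt, cl_dt, cl_et, cl_ft, cl_dt, cl_ht, cl_it, cl_dt, cl_ct, cl_bt, cl_dt, cl_et, cl_ft, cl_dt, cl_ht, cl_it, cl_dt, cl_ct, cl_bt, cl_dt, cl_et]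
  (wG_of_rotate rels relW_55 [cl_ft, cl_dt, cl_ht, cl_it, cl_dt, cl_ct, cl_bt, cl_dt, cl_et, cl_ft, cl_dt, cl_ht, cl_it, cl_dt, cl_ct, cl_bt, cl_dt, cl_et, cl_ft, cl_dt, cl_ht, cl_it, cl_dt, cl_ct, cl_bt, cl_dt, cl_et, cl_ft, cl_dt, cl_ht, cl_it, cl_dt, cl_ct, cl_bt, cl_dt, cl_et, cl_ft, cl_dt, cl_ht, cl_it, cl_dt, cl_ct, cl_bt, cl_dt, cl_et, cl_ft, cl_dt, cl_ht, cl_it, cl_dt, cl_ct, cl_bt, cl_dt, cl_et, cl_ft, cl_dt, cl_ht, cl_it, cl_dt, cl_ct, cl_bt, cl_dt, cl_et, cl_ft, cl_dt, cl_ht, cl_it, cl_dt, cl_ct, cl_bt, cl_dt, cl_et, cl_ft, cl_dt, cl_ht, cl_it, cl_dt, cl_ct, cl_bt, cl_dt, cl_et, cl_ft, cl_dt, cl_ht, cl_it, cl_dt, cl_ct, cl_bt, cl_dt, cl_et] 86 (by decide +kernel) relone_55)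
def rc_56_47 : Cert rels S Gen.f := Cert.rel true [cl_ht, cl_at, cl_bt, cl_ct, cl_dt, cl_et, cl_ft, cl_ht, cl_at, cl_bt, cl_ct, cl_dt, cl_et, cl_ft, cl_ht, cl_at, cl_bt, cl_ct, cl_dt, cl_et, cl_ft, cl_ht, cl_at, cl_bt, cl_ct, cl_dt, cl_et, cl_ft, cl_ht, cl_at, cl_bt, cl_ct, cl_dt, cl_et, cl_ft, cl_ht, cl_at, cl_bt, cl_ct, cl_dt, cl_et, cl_ft, cl_ht, cl_at, cl_bt, cl_ct, cl_dt, cl_et, cl_ft, cl_ht, cl_at, cl_bt, cl_ct, cl_dt, cl_et, cl_ft, cl_ht, cl_at, cl_bt, cl_ct, cl_dt, cl_et]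
  (wG_of_rotate rels relW_56 [cl_ft, cl_ht, cl_at, cl_bt, cl_ct, cl_dt, cl_et, cl_ft, cl_ht, cl_at, cl_bt, cl_ct, cl_dt, cl_et, cl_ft, cl_ht, cl_at, cl_bt, cl_ct, cl_dt, cl_et, cl_ft, cl_ht, cl_at, cl_bt, cl_ct, cl_dt, cl_et, cl_ft, cl_ht, cl_at, cl_bt, cl_ct, cl_dt, cl_et, cl_ft, cl_ht, cl_at, cl_bt, cl_ct, cl_dt, cl_et, cl_ft, cl_ht, cl_at, cl_bt, cl_ct, cl_dt, cl_et, cl_ft, cl_ht, cl_at, cl_bt, cl_ct, cl_dt, cl_et, cl_ft, cl_ht, cl_at, cl_bt, cl_ct, cl_dt, cl_et] 47 (by decide +kernel) relone_56)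
def rc_56_33 : Cert rels S Gen.f := Cert.rel true [cl_ht, cl_at, cl_bt, cl_ct, cl_dt, cl_et, cl_ft, cl_ht, cl_at, cl_bt, cl_ct, cl_dt, cl_et, cl_ft, cl_ht, cl_at, cl_bt, cl_ct, cl_dt, cl_et, cl_ft, cl_ht, cl_at, cl_bt, cl_ct, cl_dt, cl_et, cl_ft, cl_ht, cl_at, cl_bt, cl_ct, cl_dt, cl_et, cl_ft, cl_ht, cl_at, cl_bt, cl_ct, cl_dt, cl_et, cl_ft, cl_ht, cl_at, cl_bt, cl_ct, cl_dt, cl_et, cl_ft, cl_ht, cl_at, cl_bt, cl_ct, cl_dt, cl_et, cl_ft, cl_ht, cl_at, cl_bt, cl_ct, cl_dt, cl_et]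
  (wG_of_rotate rels relW_56 [cl_ft, cl_ht, cl_at, cl_bt, cl_ct, cl_dt, cl_et, cl_ft, cl_ht, cl_at, cl_bt, cl_ct, cl_dt, cl_et, cl_ft, cl_ht, cl_at, cl_bt, cl_ct, cl_dt, cl_et, cl_ft, cl_ht, cl_at, cl_bt, cl_ct, cl_dt, cl_et, cl_ft, cl_ht, cl_at, cl_bt, cl_ct, cl_dt, cl_et, cl_ft, cl_ht, cl_at, cl_bt, cl_ct, cl_dt, cl_et, cl_ft, cl_ht, cl_at, cl_bt, cl_ct, cl_dt, cl_et, cl_ft, cl_ht, cl_at, cl_bt, cl_ct, cl_dt, cl_et, cl_ft, cl_ht, cl_at, cl_bt, cl_ct, cl_dt, cl_et] 33 (by decide +kernel) relone_56)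
def rc_55_23 : Cert rels S Gen.f := Cert.rel true [cl_dt, cl_ht, cl_it, cl_dt, cl_ct, cl_bt, cl_dt, cl_et, cl_ft, cl_dt, cl_ht, cl_it, cl_dt, cl_ct, cl_bt, cl_dt, cl_et, cl_ft, cl_dt, cl_ht, cl_it, cl_dt, cl_ct, cl_bt, cl_dt, cl_et, cl_ft, cl_dt, cl_ht, cl_it, cl_dt, cl_ct, cl_bt, cl_dt, cl_et, cl_ft, cl_dt, cl_ht, cl_it, cl_dt, cl_ct, cl_bt, cl_dt, cl_et, cl_ft, cl_dt, cl_ht, cl_it, cl_dt, cl_ct, cl_bt, cl_dt, cl_et, cl_ft, cl_dt, cl_ht, cl_it, cl_dt, cl_ct, cl_bt, cl_dt, cl_et, cl_ft, cl_dt, cl_ht, cl_it, cl_dt, cl_ct, cl_bt, cl_dt, cl_et, cl_ft, cl_dt, cl_ht, cl_it, cl_dt, cl_ct, cl_bt, cl_dt, cl_et, cl_ft, cl_dt, cl_ht, cl_it, cl_dt, cl_ct, cl_bt, cl_dt, cl_et]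
  (wG_of_rotate rels relW_55 [cl_ft, cl_dt, cl_ht, cl_it, cl_dt, cl_ct, cl_bt, cl_dt, cl_et, cl_ft, cl_dt, cl_ht, cl_it, cl_dt, cl_ct, cl_bt, cl_dt, cl_et, cl_ft, cl_dt, cl_ht, cl_it, cl_dt, cl_ct, cl_bt, cl_dt, cl_et, cl_ft, cl_dt, cl_ht, cl_it, cl_dt, cl_ct, cl_bt, cl_dt, cl_et, cl_ft, cl_dt, cl_ht, cl_it, cl_dt, cl_ct, cl_bt, cl_dt, cl_et, cl_ft, cl_dt, cl_ht, cl_it, cl_dt, cl_ct, cl_bt, cl_dt, cl_et, cl_ft, cl_dt, cl_ht, cl_it, cl_dt, cl_ct, cl_bt, cl_dt, cl_et, cl_ft, cl_dt, cl_ht, cl_it, cl_dt, cl_ct, cl_bt, cl_dt, cl_et, cl_ft, cl_dt, cl_ht, cl_it, cl_dt, cl_ct, cl_bt, cl_dt, cl_et, cl_ft, cl_dt, cl_ht, cl_it, cl_dt, cl_ct, cl_bt, cl_dt, cl_et] 23 (by decide +kernel) relone_55)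
def rc_44_0 : Cert rels S Gen.f := Cert.rel true [cl_gt, cl_ft, cl_gt, cl_ft, cl_gt]
  (wG_of_rotate rels relW_44 [cl_ft, cl_gt, cl_ft, cl_gt, cl_ft, cl_gt] 0 (by decide +kernel) relone_44)
def rc_55_59 : Cert rels S Gen.f := Cert.rel true [cl_dt, cl_ht, cl_it, cl_dt, cl_ct, cl_bt, cl_dt, cl_et, cl_ft, cl_dt, cl_ht, cl_it, cl_dt, cl_ct, cl_bt, cl_dt, cl_et, cl_ft, cl_dt, cl_ht, cl_it, cl_dt, cl_ct, cl_bt, cl_dt, cl_et, cl_ft, cl_dt, cl_ht, cl_it, cl_dt, cl_ct, cl_bt, cl_dt, cl_et, cl_ft, cl_dt, cl_ht, cl_it, cl_dt, cl_ct, cl_bt, cl_dt, cl_et, cl_ft, cl_dt, cl_ht, cl_it, cl_dt, cl_ct, cl_bt, cl_dt, cl_et, cl_ft, cl_dt, cl_ht, cl_it, cl_dt, cl_ct, cl_bt, cl_dt, cl_et, cl_ft, cl_dt, cl_ht, cl_it, cl_dt, cl_ct, cl_bt, cl_dt, cl_et, cl_ft, cl_dt, cl_ht, cl_it, cl_dt, cl_ct, cl_bt,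 cl_dt, cl_et, cl_ft, cl_dt, cl_ht, cl_it, cl_dt, cl_ct, cl_bt, cl_dt, cl_et]
  (wG_of_rotate rels relW_55 [cl_ft, cl_dt, cl_ht, cl_it, cl_dt, cl_ct, cl_bt, cl_dt, cl_et, cl_ft, cl_dt, cl_ht, cl_it, cl_dt, cl_ct, cl_bt, cl_dt, cl_et, cl_ft, cl_dt, cl_ht, cl_it, cl_dt, cl_ct, cl_bt, cl_dt, cl_et, cl_ft, cl_dt, cl_ht, cl_it, cl_dt, cl_ct, cl_bt, cl_dt, cl_et, cl_ft, cl_dt, cl_ht, cl_it, cl_dt, cl_ct, cl_bt, cl_dt, cl_et, cl_ft, cl_dt, cl_ht, cl_it, cl_dt, cl_ct, cl_bt, cl_dt, cl_et, cl_ft, cl_dt, cl_ht, cl_it, cl_dt, cl_ct, cl_bt, cl_dt, cl_et, cl_ft, cl_dt, cl_ht, cl_it, cl_dt, cl_ct, cl_bt, cl_dt, cl_et, cl_ft, cl_dt, cl_ht, cl_it, cl_dt, cl_ct, cl_bt, cl_dt, cl_et, cl_ft, cl_dt, cl_ht, cl_it, cl_dt, cl_ct, cl_bt, cl_dt, cl_et] 59 (by decide +kernel) relone_55)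
def rc_55_14 : Cert rels S Gen.f := Cert.rel true [cl_dt, cl_ht, cl_it, cl_dt, cl_ct, cl_bt, cl_dt, cl_et, cl_ft, cl_dt, cl_ht, cl_it, cl_dt, cl_ct, cl_bt, cl_dt, cl_et, cl_ft, cl_dt, cl_ht, cl_it, cl_dt, cl_ct, cl_bt, cl_dt, cl_et, cl_ft, cl_dt, cl_ht, cl_it, cl_dt, cl_ct, cl_bt, cl_dt, cl_et, cl_ft, cl_dt, cl_ht, cl_it, cl_dt, cl_ct, cl_bt, cl_dt, cl_et, cl_ft, cl_dt, cl_ht, cl_it, cl_dt, cl_ct, cl_bt, cl_dt, cl_et, cl_ft, cl_dt, cl_ht, cl_it, cl_dt, cl_ct, cl_bt, cl_dt, cl_et, cl_ft, cl_dt, cl_ht, cl_it, cl_dt, cl_ct, cl_bt, cl_dt, cl_et, cl_ft, cl_dt, cl_ht, cl_it, cl_dt, cl_ct, cl_bt, cl_dt, cl_et, cl_ft, cl_dt, cl_ht, cl_it, cl_dt, cl_ct, cl_bt, cl_dt, cl_et]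
  (wG_of_rotate rels relW_55 [cl_ft, cl_dt, cl_ht, cl_it, cl_dt, cl_ct, cl_bt, cl_dt, cl_et, cl_ft, cl_dt, cl_ht, cl_it, cl_dt, cl_ct, cl_bt, cl_dt, cl_et, cl_ft, cl_dt, cl_ht, cl_it, cl_dt, cl_ct, cl_bt, cl_dt, cl_et, cl_ft, cl_dt, cl_ht, cl_it, cl_dt, cl_ct, cl_bt, cl_dt, cl_et, cl_ft, cl_dt, cl_ht, cl_it, cl_dt, cl_ct, cl_bt, cl_dt, cl_et, cl_ft, cl_dt, cl_ht, cl_it, cl_dt, cl_ct, cl_bt, cl_dt, cl_et, cl_ft, cl_dt, cl_ht, cl_it, cl_dt, cl_ct, cl_bt, cl_dt, cl_et, cl_ft, cl_dt, cl_ht, cl_it, cl_dt, cl_ct, cl_bt, cl_dt, cl_et, cl_ft, cl_dt, cl_ht, cl_it, cl_dt, cl_ct, cl_bt, cl_dt, cl_et, cl_ft, cl_dt, cl_ht, cl_it, cl_dt, cl_ct, cl_bt, cl_dt, cl_et] 14 (by decide +kernel) relone_55)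
def rc_55_50 : Cert rels S Gen.f := Cert.rel true [cl_dt, cl_ht, cl_it, cl_dt, cl_ct, cl_bt, cl_dt, cl_et, cl_ft, cl_dt, cl_ht, cl_it, cl_dt, cl_ct, cl_bt, cl_dt, cl_et, cl_ft, cl_dt, cl_ht, cl_it, cl_dt, cl_ct, cl_bt, cl_dt, cl_et, cl_ft, cl_dt, cl_ht, cl_it, cl_dt, cl_ct, cl_bt, cl_dt, cl_et, cl_ft, cl_dt, cl_ht, cl_it, cl_dt, cl_ct, cl_bt, cl_dt, cl_et, cl_ft, cl_dt, cl_ht, cl_it, cl_dt, cl_ct, cl_bt, cl_dt, cl_et, cl_ft, cl_dt, cl_ht, cl_it, cl_dt, cl_ct, cl_bt, cl_dt, cl_et, cl_ft, cl_dt, cl_ht, cl_it, cl_dt, cl_ct, cl_bt, cl_dt, cl_et, cl_ft, cl_dt, cl_ht, cl_it, cl_dt, cl_ct, cl_bt, cl_dt, cl_et, cl_ft, cl_dt, cl_ht, cl_it, cl_dt, cl_ct, cl_bt, cl_dt, cl_et]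
  (wG_of_rotate rels relW_55 [cl_ft, cl_dt, cl_ht, cl_it, cl_dt, cl_ct, cl_bt, cl_dt, cl_et, cl_ft, cl_dt, cl_ht, cl_it, cl_dt, cl_ct, cl_bt, cl_dt, cl_et, cl_ft, cl_dt, cl_ht, cl_it, cl_dt, cl_ct, cl_bt, cl_dt, cl_et, cl_ft, cl_dt, cl_ht, cl_it, cl_dt, cl_ct, cl_bt, cl_dt, cl_et, cl_ft, cl_dt, cl_ht, cl_it, cl_dt, cl_ct, cl_bt, cl_dt, cl_et, cl_ft, cl_dt, cl_ht, cl_it, cl_dt, cl_ct, cl_bt, cl_dt, cl_et, cl_ft, cl_dt, cl_ht, cl_it, cl_dt, cl_ct, cl_bt, cl_dt, cl_et, cl_ft, cl_dt, cl_ht, cl_it, cl_dt, cl_ct, cl_bt, cl_dt, cl_et, cl_ft, cl_dt, cl_ht, cl_it, cl_dt, cl_ct, cl_bt, cl_dt, cl_et, cl_ft, cl_dt, cl_ht, cl_it, cl_dt, cl_ct, cl_bt, cl_dt, cl_et] 50 (by decide +kernel) relone_55)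
def rc_48_0 : Cert rels S Gen.g := Cert.rel true [cl_gt]
  (wG_of_rotate rels relW_48 [cl_gt, cl_gt] 0 (by decide +kernel) relone_48)
def rc_44_3 : Cert rels S Gen.g := Cert.rel true [cl_ft, cl_gt, cl_ft, cl_gt, cl_ft]
  (wG_of_rotate rels relW_44 [cl_gt, cl_ft, cl_gt, cl_ft, cl_gt, cl_ft] 3 (by decide +kernel) relone_44)
def rc_37_1 : Cert rels S Gen.g := Cert.rel true [cl_et, cl_gt, cl_et]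
  (wG_of_rotate rels relW_37 [cl_gt, cl_et, cl_gt, cl_et] 1 (by decide +kernel) relone_37)
def rc_31_1 : Cert rels S Gen.g := Cert.rel true [cl_dt, cl_gt, cl_dt]
  (wG_of_rotate rels relW_31 [cl_gt, cl_dt, cl_gt, cl_dt] 1 (by decide +kernel) relone_31)
def rc_24_1 : Cert rels S Gen.g := Cert.rel true [cl_ct, cl_gt, cl_ct]
  (wG_of_rotate rels relW_24 [cl_gt, cl_ct, cl_gt, cl_ct] 1 (by decide +kernel) relone_24)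
def rc_47_2 : Cert rels S Gen.g := Cert.rel true [cl_ht, cl_gt, cl_ht]
  (wG_of_rotate rels relW_47 [cl_gt, cl_ht, cl_gt, cl_ht] 2 (by decide +kernel) relone_47)
def rc_16_1 : Cert rels S Gen.g := Cert.rel true [cl_bt, cl_gt, cl_bt]
  (wG_of_rotate rels relW_16 [cl_gt, cl_bt, cl_gt, cl_bt] 1 (by decide +kernel) relone_16)
def rc_50_2 : Cert rels S Gen.g := Cert.rel true [cl_it, cl_gt, cl_it]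
  (wG_of_rotate rels relW_50 [cl_gt, cl_it, cl_gt, cl_it] 2 (by decide +kernel) relone_50)
def rc_7_1 : Cert rels S Gen.g := Cert.rel true [cl_at, cl_gt, cl_at]
  (wG_of_rotate rels relW_7 [cl_gt, cl_at, cl_gt, cl_at] 1 (by decide +kernel) relone_7)
def rc_49_2 : Cert rels S Gen.g := Cert.rel true [cl_jt, cl_gt, cl_jt, cl_gt, cl_jt]
  (wG_of_rotate rels relW_49 [cl_gt, cl_jt, cl_gt, cl_jt, cl_gt, cl_jt] 2 (by decide +kernel) relone_49)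
def rc_44_5 : Cert rels S Gen.g := Cert.rel true [cl_ft, cl_gt, cl_ft, cl_gt, cl_ft]
  (wG_of_rotate rels relW_44 [cl_gt, cl_ft, cl_gt, cl_ft, cl_gt, cl_ft] 5 (by decide +kernel) relone_44)
def rc_48_1 : Cert rels S Gen.g := Cert.rel true [cl_gt]
  (wG_of_rotate rels relW_48 [cl_gt, cl_gt] 1 (by decide +kernel) relone_48)
def rc_24_3 : Cert rels S Gen.g := Cert.rel true [cl_ct, cl_gt, cl_ct]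
  (wG_of_rotate rels relW_24 [cl_gt, cl_ct, cl_gt, cl_ct] 3 (by decide +kernel) relone_24)
def rc_16_3 : Cert rels S Gen.g := Cert.rel true [cl_bt, cl_gt, cl_bt]
  (wG_of_rotate rels relW_16 [cl_gt, cl_bt, cl_gt, cl_bt] 3 (by decide +kernel) relone_16)
def rc_7_3 : Cert rels S Gen.g := Cert.rel true [cl_at, cl_gt, cl_at]
  (wG_of_rotate rels relW_7 [cl_gt, cl_at, cl_gt, cl_at] 3 (by decide +kernel) relone_7)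
def rc_44_1 : Cert rels S Gen.g := Cert.rel true [cl_ft, cl_gt, cl_ft, cl_gt, cl_ft]
  (wG_of_rotate rels relW_44 [cl_gt, cl_ft, cl_gt, cl_ft, cl_gt, cl_ft] 1 (by decide +kernel) relone_44)
def rc_37_3 : Cert rels S Gen.g := Cert.rel true [cl_et, cl_gt, cl_et]
  (wG_of_rotate rels relW_37 [cl_gt, cl_et, cl_gt, cl_et] 3 (by decide +kernel) relone_37)
def rc_31_3 : Cert rels S Gen.g := Cert.rel true [cl_dt, cl_gt, cl_dt]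
  (wG_of_rotate rels relW_31 [cl_gt, cl_dt, cl_gt, cl_dt] 3 (by decide +kernel) relone_31)
def rc_50_0 : Cert rels S Gen.g := Cert.rel true [cl_it, cl_gt, cl_it]
  (wG_of_rotate rels relW_50 [cl_gt, cl_it, cl_gt, cl_it] 0 (by decide +kernel) relone_50)
def rc_47_0 : Cert rels S Gen.g := Cert.rel true [cl_ht, cl_gt, cl_ht]
  (wG_of_rotate rels relW_47 [cl_gt, cl_ht, cl_gt, cl_ht] 0 (by decide +kernel) relone_47)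
def rc_49_4 : Cert rels S Gen.g := Cert.rel true [cl_jt, cl_gt, cl_jt, cl_gt, cl_jt]
  (wG_of_rotate rels relW_49 [cl_gt, cl_jt, cl_gt, cl_jt, cl_gt, cl_jt] 4 (by decide +kernel) relone_49)
def rc_49_0 : Cert rels S Gen.g := Cert.rel true [cl_jt, cl_gt, cl_jt, cl_gt, cl_jt]
  (wG_of_rotate rels relW_49 [cl_gt, cl_jt, cl_gt, cl_jt, cl_gt, cl_jt] 0 (by decide +kernel) relone_49)
def rc_52_0 : Cert rels S Gen.j := Cert.rel true [cl_jt]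
  (wG_of_rotate rels relW_52 [cl_jt, cl_jt] 0 (by decide +kernel) relone_52)
def rc_49_3 : Cert rels S Gen.j := Cert.rel true [cl_gt, cl_jt, cl_gt, cl_jt, cl_gt]
  (wG_of_rotate rels relW_49 [cl_jt, cl_gt, cl_jt, cl_gt, cl_jt, cl_gt] 3 (by decide +kernel) relone_49)
def rc_45_1 : Cert rels S Gen.j := Cert.rel true [cl_ft, cl_jt, cl_ft]
  (wG_of_rotate rels relW_45 [cl_jt, cl_ft, cl_jt, cl_ft] 1 (by decide +kernel) relone_45)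
def rc_38_1 : Cert rels S Gen.j := Cert.rel true [cl_et, cl_jt, cl_et]
  (wG_of_rotate rels relW_38 [cl_jt, cl_et, cl_jt, cl_et] 1 (by decide +kernel) relone_38)
def rc_32_1 : Cert rels S Gen.j := Cert.rel true [cl_dt, cl_jt, cl_dt]
  (wG_of_rotate rels relW_32 [cl_jt, cl_dt, cl_jt, cl_dt] 1 (by decide +kernel) relone_32)
def rc_25_1 : Cert rels S Gen.j := Cert.rel true [cl_ct, cl_jt, cl_ct]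
  (wG_of_rotate rels relW_25 [cl_jt, cl_ct, cl_jt, cl_ct] 1 (by decide +kernel) relone_25)
def rc_51_2 : Cert rels S Gen.j := Cert.rel true [cl_ht, cl_jt, cl_ht]
  (wG_of_rotate rels relW_51 [cl_jt, cl_ht, cl_jt, cl_ht] 2 (by decide +kernel) relone_51)
def rc_17_1 : Cert rels S Gen.j := Cert.rel true [cl_bt, cl_jt, cl_bt]
  (wG_of_rotate rels relW_17 [cl_jt, cl_bt, cl_jt, cl_bt] 1 (by decide +kernel) relone_17)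
def rc_53_2 : Cert rels S Gen.j := Cert.rel true [cl_it, cl_jt, cl_it]
  (wG_of_rotate rels relW_53 [cl_jt, cl_it, cl_jt, cl_it] 2 (by decide +kernel) relone_53)
def rc_8_1 : Cert rels S Gen.j := Cert.rel true [cl_at, cl_jt, cl_at]
  (wG_of_rotate rels relW_8 [cl_jt, cl_at, cl_jt, cl_at] 1 (by decide +kernel) relone_8)
def rc_49_5 : Cert rels S Gen.j := Cert.rel true [cl_gt, cl_jt, cl_gt, cl_jt, cl_gt]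
  (wG_of_rotate rels relW_49 [cl_jt, cl_gt, cl_jt, cl_gt, cl_jt, cl_gt] 5 (by decide +kernel) relone_49)
def rc_52_1 : Cert rels S Gen.j := Cert.rel true [cl_jt]
  (wG_of_rotate rels relW_52 [cl_jt, cl_jt] 1 (by decide +kernel) relone_52)
def rc_25_3 : Cert rels S Gen.j := Cert.rel true [cl_ct, cl_jt, cl_ct]
  (wG_of_rotate rels relW_25 [cl_jt, cl_ct, cl_jt, cl_ct] 3 (by decide +kernel) relone_25)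
def rc_49_1 : Cert rels S Gen.j := Cert.rel true [cl_gt, cl_jt, cl_gt, cl_jt, cl_gt]
  (wG_of_rotate rels relW_49 [cl_jt, cl_gt, cl_jt, cl_gt, cl_jt, cl_gt] 1 (by decide +kernel) relone_49)
def rc_17_3 : Cert rels S Gen.j := Cert.rel true [cl_bt, cl_jt, cl_bt]
  (wG_of_rotate rels relW_17 [cl_jt, cl_bt, cl_jt, cl_bt] 3 (by decide +kernel) relone_17)
def rc_38_3 : Cert rels S Gen.j := Cert.rel true [cl_et, cl_jt, cl_et]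
  (wG_of_rotate rels relW_38 [cl_jt, cl_et, cl_jt, cl_et] 3 (by decide +kernel) relone_38)
def rc_45_3 : Cert rels S Gen.j := Cert.rel true [cl_ft, cl_jt, cl_ft]
  (wG_of_rotate rels relW_45 [cl_jt, cl_ft, cl_jt, cl_ft] 3 (by decide +kernel) relone_45)
def rc_53_0 : Cert rels S Gen.j := Cert.rel true [cl_it, cl_jt, cl_it]
  (wG_of_rotate rels relW_53 [cl_jt, cl_it, cl_jt, cl_it] 0 (by decide +kernel) relone_53)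
def rc_32_3 : Cert rels S Gen.j := Cert.rel true [cl_dt, cl_jt, cl_dt]
  (wG_of_rotate rels relW_32 [cl_jt, cl_dt, cl_jt, cl_dt] 3 (by decide +kernel) relone_32)
def rc_8_3 : Cert rels S Gen.j := Cert.rel true [cl_at, cl_jt, cl_at]
  (wG_of_rotate rels relW_8 [cl_jt, cl_at, cl_jt, cl_at] 3 (by decide +kernel) relone_8)
def rc_51_0 : Cert rels S Gen.j := Cert.rel true [cl_ht, cl_jt, cl_ht]
  (wG_of_rotate rels relW_51 [cl_jt, cl_ht, cl_jt, cl_ht] 0 (by decide +kernel) relone_51)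
def rc_51_1 : Cert rels S Gen.h := Cert.rel true [cl_jt, cl_ht, cl_jt]
  (wG_of_rotate rels relW_51 [cl_ht, cl_jt, cl_ht, cl_jt] 1 (by decide +kernel) relone_51)
def rc_47_1 : Cert rels S Gen.h := Cert.rel true [cl_gt, cl_ht, cl_gt]
  (wG_of_rotate rels relW_47 [cl_ht, cl_gt, cl_ht, cl_gt] 1 (by decide +kernel) relone_47)
def rc_42_1 : Cert rels S Gen.h := Cert.rel true [cl_ft, cl_ht, cl_ft]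
  (wG_of_rotate rels relW_42 [cl_ht, cl_ft, cl_ht, cl_ft] 1 (by decide +kernel) relone_42)
def rc_35_1 : Cert rels S Gen.h := Cert.rel true [cl_et, cl_ht, cl_et]
  (wG_of_rotate rels relW_35 [cl_ht, cl_et, cl_ht, cl_et] 1 (by decide +kernel) relone_35)
def rc_40_0 : Cert rels S Gen.h := Cert.rel true [cl_ht]
  (wG_of_rotate rels relW_40 [cl_ht, cl_ht] 0 (by decide +kernel) relone_40)
def rc_41_2 : Cert rels S Gen.h := Cert.rel true [cl_it, cl_ht, cl_it, cl_ht, cl_it]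
  (wG_of_rotate rels relW_41 [cl_ht, cl_it, cl_ht, cl_it, cl_ht, cl_it] 2 (by decide +kernel) relone_41)
def rc_29_3 : Cert rels S Gen.h := Cert.rel true [cl_dt, cl_ht, cl_dt, cl_ht, cl_dt]
  (wG_of_rotate rels relW_29 [cl_ht, cl_dt, cl_ht, cl_dt, cl_ht, cl_dt] 3 (by decide +kernel) relone_29)
def rc_22_1 : Cert rels S Gen.h := Cert.rel true [cl_ct, cl_ht, cl_ct]
  (wG_of_rotate rels relW_22 [cl_ht, cl_ct, cl_ht, cl_ct] 1 (by decide +kernel) relone_22)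
def rc_14_1 : Cert rels S Gen.h := Cert.rel true [cl_bt, cl_ht, cl_bt]
  (wG_of_rotate rels relW_14 [cl_ht, cl_bt, cl_ht, cl_bt] 1 (by decide +kernel) relone_14)
def rc_5_1 : Cert rels S Gen.h := Cert.rel true [cl_at, cl_ht, cl_at]
  (wG_of_rotate rels relW_5 [cl_ht, cl_at, cl_ht, cl_at] 1 (by decide +kernel) relone_5)
def rc_14_3 : Cert rels S Gen.h := Cert.rel true [cl_bt, cl_ht, cl_bt]
  (wG_of_rotate rels relW_14 [cl_ht, cl_bt, cl_ht, cl_bt] 3 (by decide +kernel) relone_14)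
def rc_56_34 : Cert rels S Gen.h := Cert.rel true [cl_at, cl_bt, cl_ct, cl_dt, cl_et, cl_ft, cl_ht, cl_at, cl_bt, cl_ct, cl_dt, cl_et, cl_ft, cl_ht, cl_at, cl_bt, cl_ct, cl_dt, cl_et, cl_ft, cl_ht, cl_at, cl_bt, cl_ct, cl_dt, cl_et, cl_ft, cl_ht, cl_at, cl_bt, cl_ct, cl_dt, cl_et, cl_ft, cl_ht, cl_at, cl_bt, cl_ct, cl_dt, cl_et, cl_ft, cl_ht, cl_at, cl_bt, cl_ct, cl_dt, cl_et, cl_ft, cl_ht, cl_at, cl_bt, cl_ct, cl_dt, cl_et, cl_ft, cl_ht, cl_at, cl_bt, cl_ct, cl_dt, cl_et, cl_ft]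
  (wG_of_rotate rels relW_56 [cl_ht, cl_at, cl_bt, cl_ct, cl_dt, cl_et, cl_ft, cl_ht, cl_at, cl_bt, cl_ct, cl_dt, cl_et, cl_ft, cl_ht, cl_at, cl_bt, cl_ct, cl_dt, cl_et, cl_ft, cl_ht, cl_at, cl_bt, cl_ct, cl_dt, cl_et, cl_ft, cl_ht, cl_at, cl_bt, cl_ct, cl_dt, cl_et, cl_ft, cl_ht, cl_at, cl_bt, cl_ct, cl_dt, cl_et, cl_ft, cl_ht, cl_at, cl_bt, cl_ct, cl_dt, cl_et, cl_ft, cl_ht, cl_at, cl_bt, cl_ct, cl_dt, cl_et, cl_ft, cl_ht, cl_at, cl_bt, cl_ct, cl_dt, cl_et, cl_ft] 34 (by decide +kernel) relone_56)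
def rc_56_55 : Cert rels S Gen.h := Cert.rel true [cl_at, cl_bt, cl_ct, cl_dt, cl_et, cl_ft, cl_ht, cl_at, cl_bt, cl_ct, cl_dt, cl_et, cl_ft, cl_ht, cl_at, cl_bt, cl_ct, cl_dt, cl_et, cl_ft, cl_ht, cl_at, cl_bt, cl_ct, cl_dt, cl_et, cl_ft, cl_ht, cl_at, cl_bt, cl_ct, cl_dt, cl_et, cl_ft, cl_ht, cl_at, cl_bt, cl_ct, cl_dt, cl_et, cl_ft, cl_ht, cl_at, cl_bt, cl_ct, cl_dt, cl_et, cl_ft, cl_ht, cl_at, cl_bt, cl_ct, cl_dt, cl_et, cl_ft, cl_ht, cl_at, cl_bt, cl_ct, cl_dt, cl_et, cl_ft]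
  (wG_of_rotate rels relW_56 [cl_ht, cl_at, cl_bt, cl_ct, cl_dt, cl_et, cl_ft, cl_ht, cl_at, cl_bt, cl_ct, cl_dt, cl_et, cl_ft, cl_ht, cl_at, cl_bt, cl_ct, cl_dt, cl_et, cl_ft, cl_ht, cl_at, cl_bt, cl_ct, cl_dt, cl_et, cl_ft, cl_ht, cl_at, cl_bt, cl_ct, cl_dt, cl_et, cl_ft, cl_ht, cl_at, cl_bt, cl_ct, cl_dt, cl_et, cl_ft, cl_ht, cl_at, cl_bt, cl_ct, cl_dt, cl_et, cl_ft, cl_ht, cl_at, cl_bt, cl_ct, cl_dt, cl_et, cl_ft, cl_ht, cl_at, cl_bt, cl_ct, cl_dt, cl_et, cl_ft] 55 (by decide +kernel) relone_56)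
def rc_55_16 : Cert rels S Gen.h := Cert.rel true [cl_it, cl_dt, cl_ct, cl_bt, cl_dt, cl_et, cl_ft, cl_dt, cl_ht, cl_it, cl_dt, cl_ct, cl_bt, cl_dt, cl_et, cl_ft, cl_dt, cl_ht, cl_it, cl_dt, cl_ct, cl_bt, cl_dt, cl_et, cl_ft, cl_dt, cl_ht, cl_it, cl_dt, cl_ct, cl_bt, cl_dt, cl_et, cl_ft, cl_dt, cl_ht, cl_it, cl_dt, cl_ct, cl_bt, cl_dt, cl_et, cl_ft, cl_dt, cl_ht, cl_it, cl_dt, cl_ct, cl_bt, cl_dt, cl_et, cl_ft, cl_dt, cl_ht, cl_it, cl_dt, cl_ct, cl_bt, cl_dt, cl_et, cl_ft, cl_dt, cl_ht, cl_it, cl_dt, cl_ct, cl_bt, cl_dt, cl_et, cl_ft, cl_dt, cl_ht, cl_it, cl_dt, cl_ct, cl_bt, cl_dt, cl_et, cl_ft, cl_dt, cl_ht, cl_it, cl_dt, cl_ct, cl_bt, cl_dt, cl_et, cl_ft, cl_dt]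
  (wG_of_rotate rels relW_55 [cl_ht, cl_it, cl_dt, cl_ct, cl_bt, cl_dt, cl_et, cl_ft, cl_dt, cl_ht, cl_it, cl_dt, cl_ct, cl_bt, cl_dt, cl_et, cl_ft, cl_dt, cl_ht, cl_it, cl_dt, cl_ct, cl_bt, cl_dt, cl_et, cl_ft, cl_dt, cl_ht, cl_it, cl_dt, cl_ct, cl_bt, cl_dt, cl_et, cl_ft, cl_dt, cl_ht, cl_it, cl_dt, cl_ct, cl_bt, cl_dt, cl_et, cl_ft, cl_dt, cl_ht, cl_it, cl_dt, cl_ct, cl_bt, cl_dt, cl_et, cl_ft, cl_dt, cl_ht, cl_it, cl_dt, cl_ct, cl_bt, cl_dt, cl_et, cl_ft, cl_dt, cl_ht, cl_it, cl_dt, cl_ct, cl_bt, cl_dt, cl_et, cl_ft, cl_dt, cl_ht, cl_it, cl_dt, cl_ct, cl_bt, cl_dt, cl_et, cl_ft, cl_dt, cl_ht, cl_it, cl_dt, cl_ct, cl_bt, cl_dt, cl_et, cl_ft, cl_dt] 16 (by decide +kernel) relone_55)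
def rc_22_3 : Cert rels S Gen.h := Cert.rel true [cl_ct, cl_ht, cl_ct]
  (wG_of_rotate rels relW_22 [cl_ht, cl_ct, cl_ht, cl_ct] 3 (by decide +kernel) relone_22)
def rc_29_1 : Cert rels S Gen.h := Cert.rel true [cl_dt, cl_ht, cl_dt, cl_ht, cl_dt]
  (wG_of_rotate rels relW_29 [cl_ht, cl_dt, cl_ht, cl_dt, cl_ht, cl_dt] 1 (by decide +kernel) relone_29)
def rc_5_3 : Cert rels S Gen.h := Cert.rel true [cl_at, cl_ht, cl_at]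
  (wG_of_rotate rels relW_5 [cl_ht, cl_at, cl_ht, cl_at] 3 (by decide +kernel) relone_5)
def rc_56_6 : Cert rels S Gen.h := Cert.rel true [cl_at, cl_bt, cl_ct, cl_dt, cl_et, cl_ft, cl_ht, cl_at, cl_bt, cl_ct, cl_dt, cl_et, cl_ft, cl_ht, cl_at, cl_bt, cl_ct, cl_dt, cl_et, cl_ft, cl_ht, cl_at, cl_bt, cl_ct, cl_dt, cl_et, cl_ft, cl_ht, cl_at, cl_bt, cl_ct, cl_dt, cl_et, cl_ft, cl_ht, cl_at, cl_bt, cl_ct, cl_dt, cl_et, cl_ft, cl_ht, cl_at, cl_bt, cl_ct, cl_dt, cl_et, cl_ft, cl_ht, cl_at, cl_bt, cl_ct, cl_dt, cl_et, cl_ft, cl_ht, cl_at, cl_bt, cl_ct, cl_dt, cl_et, cl_ft]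
  (wG_of_rotate rels relW_56 [cl_ht, cl_at, cl_bt, cl_ct, cl_dt, cl_et, cl_ft, cl_ht, cl_at, cl_bt, cl_ct, cl_dt, cl_et, cl_ft, cl_ht, cl_at, cl_bt, cl_ct, cl_dt, cl_et, cl_ft, cl_ht, cl_at, cl_bt, cl_ct, cl_dt, cl_et, cl_ft, cl_ht, cl_at, cl_bt, cl_ct, cl_dt, cl_et, cl_ft, cl_ht, cl_at, cl_bt, cl_ct, cl_dt, cl_et, cl_ft, cl_ht, cl_at, cl_bt, cl_ct, cl_dt, cl_et, cl_ft, cl_ht, cl_at, cl_bt, cl_ct, cl_dt, cl_et, cl_ft, cl_ht, cl_at, cl_bt, cl_ct, cl_dt, cl_et, cl_ft] 6 (by decide +kernel) relone_56)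
def rc_42_3 : Cert rels S Gen.h := Cert.rel true [cl_ft, cl_ht, cl_ft]
  (wG_of_rotate rels relW_42 [cl_ht, cl_ft, cl_ht, cl_ft] 3 (by decide +kernel) relone_42)
def rc_40_1 : Cert rels S Gen.h := Cert.rel true [cl_ht]
  (wG_of_rotate rels relW_40 [cl_ht, cl_ht] 1 (by decide +kernel) relone_40)
def rc_56_41 : Cert rels S Gen.h := Cert.rel true [cl_at, cl_bt, cl_ct, cl_dt, cl_et, cl_ft, cl_ht, cl_at, cl_bt, cl_ct, cl_dt, cl_et, cl_ft, cl_ht, cl_at, cl_bt, cl_ct, cl_dt, cl_et, cl_ft, cl_ht, cl_at, cl_bt, cl_ct, cl_dt, cl_et, cl_ft, cl_ht, cl_at, cl_bt, cl_ct, cl_dt, cl_et, cl_ft, cl_ht, cl_at, cl_bt, cl_ct, cl_dt, cl_et, cl_ft, cl_ht, cl_at, cl_bt, cl_ct, cl_dt, cl_et, cl_ft, cl_ht, cl_at, cl_bt, cl_ct, cl_dt, cl_et, cl_ft, cl_ht, cl_at, cl_bt, cl_ct, cl_dt, cl_et, cl_ft]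
  (wG_of_rotate rels relW_56 [cl_ht, cl_at, cl_bt, cl_ct, cl_dt, cl_et, cl_ft, cl_ht, cl_at, cl_bt, cl_ct, cl_dt, cl_et, cl_ft, cl_ht, cl_at, cl_bt, cl_ct, cl_dt, cl_et, cl_ft, cl_ht, cl_at, cl_bt, cl_ct, cl_dt, cl_et, cl_ft, cl_ht, cl_at, cl_bt, cl_ct, cl_dt, cl_et, cl_ft, cl_ht, cl_at, cl_bt, cl_ct, cl_dt, cl_et, cl_ft, cl_ht, cl_at, cl_bt, cl_ct, cl_dt, cl_et, cl_ft, cl_ht, cl_at, cl_bt, cl_ct, cl_dt, cl_et, cl_ft, cl_ht, cl_at, cl_bt, cl_ct, cl_dt, cl_et, cl_ft] 41 (by decide +kernel) relone_56)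
def rc_55_88 : Cert rels S Gen.h := Cert.rel true [cl_it, cl_dt, cl_ct, cl_bt, cl_dt, cl_et, cl_ft, cl_dt, cl_ht, cl_it, cl_dt, cl_ct, cl_bt, cl_dt, cl_et, cl_ft, cl_dt, cl_ht, cl_it, cl_dt, cl_ct, cl_bt, cl_dt, cl_et, cl_ft, cl_dt, cl_ht, cl_it, cl_dt, cl_ct, cl_bt, cl_dt, cl_et, cl_ft, cl_dt, cl_ht, cl_it, cl_dt, cl_ct, cl_bt, cl_dt, cl_et, cl_ft, cl_dt, cl_ht, cl_it, cl_dt, cl_ct, cl_bt, cl_dt, cl_et, cl_ft, cl_dt, cl_ht, cl_it, cl_dt, cl_ct, cl_bt, cl_dt, cl_et, cl_ft, cl_dt, cl_ht, cl_it, cl_dt, cl_ct, cl_bt, cl_dt, cl_et, cl_ft, cl_dt, cl_ht, cl_it, cl_dt, cl_ct, cl_bt, cl_dt, cl_et, cl_ft, cl_dt, cl_ht, cl_it, cl_dt, cl_ct, cl_bt, cl_dt, cl_et, cl_ft, cl_dt]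
  (wG_of_rotate rels relW_55 [cl_ht, cl_it, cl_dt, cl_ct, cl_bt, cl_dt, cl_et, cl_ft, cl_dt, cl_ht, cl_it, cl_dt, cl_ct, cl_bt, cl_dt, cl_et, cl_ft, cl_dt, cl_ht, cl_it, cl_dt, cl_ct, cl_bt, cl_dt, cl_et, cl_ft, cl_dt, cl_ht, cl_it, cl_dt, cl_ct, cl_bt, cl_dt, cl_et, cl_ft, cl_dt, cl_ht, cl_it, cl_dt, cl_ct, cl_bt, cl_dt, cl_et, cl_ft, cl_dt, cl_ht, cl_it, cl_dt, cl_ct, cl_bt, cl_dt, cl_et, cl_ft, cl_dt, cl_ht, cl_it, cl_dt, cl_ct, cl_bt, cl_dt, cl_et, cl_ft, cl_dt, cl_ht, cl_it, cl_dt, cl_ct, cl_bt, cl_dt, cl_et, cl_ft, cl_dt, cl_ht, cl_it, cl_dt, cl_ct, cl_bt, cl_dt, cl_et, cl_ft, cl_dt, cl_ht, cl_it, cl_dt, cl_ct, cl_bt, cl_dt, cl_et, cl_ft, cl_dt] 88 (by decide +kernel) relone_55)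
def rc_55_61 : Cert rels S Gen.h := Cert.rel true [cl_it, cl_dt, cl_ct, cl_bt, cl_dt, cl_et, cl_ft, cl_dt, cl_ht, cl_it, cl_dt, cl_ct, cl_bt, cl_dt, cl_et, cl_ft, cl_dt, cl_ht, cl_it, cl_dt, cl_ct, cl_bt, cl_dt, cl_et, cl_ft, cl_dt, cl_ht, cl_it, cl_dt, cl_ct, cl_bt, cl_dt, cl_et, cl_ft, cl_dt, cl_ht, cl_it, cl_dt, cl_ct, cl_bt, cl_dt, cl_et, cl_ft, cl_dt, cl_ht, cl_it, cl_dt, cl_ct, cl_bt, cl_dt, cl_et, cl_ft, cl_dt, cl_ht, cl_it, cl_dt, cl_ct, cl_bt, cl_dt, cl_et, cl_ft, cl_dt, cl_ht, cl_it, cl_dt, cl_ct, cl_bt, cl_dt, cl_et, cl_ft, cl_dt, cl_ht, cl_it, cl_dt, cl_ct, cl_bt, cl_dt, cl_et, cl_ft, cl_dt, cl_ht, cl_it, cl_dt, cl_ct, cl_bt, cl_dt, cl_et, cl_ft, cl_dt]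
  (wG_of_rotate rels relW_55 [cl_ht, cl_it, cl_dt, cl_ct, cl_bt, cl_dt, cl_et, cl_ft, cl_dt, cl_ht, cl_it, cl_dt, cl_ct, cl_bt, cl_dt, cl_et, cl_ft, cl_dt, cl_ht, cl_it, cl_dt, cl_ct, cl_bt, cl_dt, cl_et, cl_ft, cl_dt, cl_ht, cl_it, cl_dt, cl_ct, cl_bt, cl_dt, cl_et, cl_ft, cl_dt, cl_ht, cl_it, cl_dt, cl_ct, cl_bt, cl_dt, cl_et, cl_ft, cl_dt, cl_ht, cl_it, cl_dt, cl_ct, cl_bt, cl_dt, cl_et, cl_ft, cl_dt, cl_ht, cl_it, cl_dt, cl_ct, cl_bt, cl_dt, cl_et, cl_ft, cl_dt, cl_ht, cl_it, cl_dt, cl_ct, cl_bt, cl_dt, cl_et, cl_ft, cl_dt, cl_ht, cl_it, cl_dt, cl_ct, cl_bt, cl_dt, cl_et, cl_ft, cl_dt, cl_ht, cl_it, cl_dt, cl_ct, cl_bt, cl_dt, cl_et, cl_ft, cl_dt] 61 (by decide +kernel) relone_55)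
def rc_29_5 : Cert rels S Gen.h := Cert.rel true [cl_dt, cl_ht, cl_dt, cl_ht, cl_dt]
  (wG_of_rotate rels relW_29 [cl_ht, cl_dt, cl_ht, cl_dt, cl_ht, cl_dt] 5 (by decide +kernel) relone_29)
def rc_51_3 : Cert rels S Gen.h := Cert.rel true [cl_jt, cl_ht, cl_jt]
  (wG_of_rotate rels relW_51 [cl_ht, cl_jt, cl_ht, cl_jt] 3 (by decide +kernel) relone_51)
def rc_56_27 : Cert rels S Gen.h := Cert.rel true [cl_at, cl_bt, cl_ct, cl_dt, cl_et, cl_ft, cl_ht, cl_at, cl_bt, cl_ct, cl_dt, cl_et, cl_ft, cl_ht, cl_at, cl_bt, cl_ct, cl_dt, cl_et, cl_ft, cl_ht, cl_at, cl_bt, cl_ct, cl_dt, cl_et, cl_ft, cl_ht, cl_at, cl_bt, cl_ct, cl_dt, cl_et, cl_ft, cl_ht, cl_at, cl_bt, cl_ct, cl_dt, cl_et, cl_ft, cl_ht, cl_at, cl_bt, cl_ct, cl_dt, cl_et, cl_ft, cl_ht, cl_at, cl_bt, cl_ct, cl_dt, cl_et, cl_ft,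 cl_ht, cl_at, cl_bt, cl_ct, cl_dt, cl_et, cl_ft]
  (wG_of_rotate rels relW_56 [cl_ht, cl_at, cl_bt, cl_ct, cl_dt, cl_et, cl_ft, cl_ht, cl_at, cl_bt, cl_ct, cl_dt, cl_et, cl_ft, cl_ht, cl_at, cl_bt, cl_ct, cl_dt, cl_et, cl_ft, cl_ht, cl_at, cl_bt, cl_ct, cl_dt, cl_et, cl_ft, cl_ht, cl_at, cl_bt, cl_ct, cl_dt, cl_et, cl_ft, cl_ht, cl_at, cl_bt, cl_ct, cl_dt, cl_et, cl_ft, cl_ht, cl_at, cl_bt, cl_ct, cl_dt, cl_et, cl_ft, cl_ht, cl_at, cl_bt, cl_ct, cl_dt, cl_et, cl_ft, cl_ht, cl_at, cl_bt, cl_ct, cl_dt, cl_et, cl_ft] 27 (by decide +kernel) relone_56)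
def rc_47_3 : Cert rels S Gen.h := Cert.rel true [cl_gt, cl_ht, cl_gt]
  (wG_of_rotate rels relW_47 [cl_ht, cl_gt, cl_ht, cl_gt] 3 (by decide +kernel) relone_47)
def rc_41_4 : Cert rels S Gen.h := Cert.rel true [cl_it, cl_ht, cl_it, cl_ht, cl_it]
  (wG_of_rotate rels relW_41 [cl_ht, cl_it, cl_ht, cl_it, cl_ht, cl_it] 4 (by decide +kernel) relone_41)
def rc_35_3 : Cert rels S Gen.h := Cert.rel true [cl_et, cl_ht, cl_et]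
  (wG_of_rotate rels relW_35 [cl_ht, cl_et, cl_ht, cl_et] 3 (by decide +kernel) relone_35)
def rc_41_0 : Cert rels S Gen.h := Cert.rel true [cl_it, cl_ht, cl_it, cl_ht, cl_it]
  (wG_of_rotate rels relW_41 [cl_ht, cl_it, cl_ht, cl_it, cl_ht, cl_it] 0 (by decide +kernel) relone_41)
def rc_55_25 : Cert rels S Gen.h := Cert.rel true [cl_it, cl_dt, cl_ct, cl_bt, cl_dt, cl_et, cl_ft, cl_dt, cl_ht, cl_it, cl_dt, cl_ct, cl_bt, cl_dt, cl_et, cl_ft, cl_dt, cl_ht, cl_it, cl_dt, cl_ct, cl_bt, cl_dt, cl_et, cl_ft, cl_dt, cl_ht, cl_it, cl_dt, cl_ct, cl_bt, cl_dt, cl_et, cl_ft, cl_dt, cl_ht, cl_it, cl_dt, cl_ct, cl_bt, cl_dt, cl_et, cl_ft, cl_dt, cl_ht, cl_it, cl_dt, cl_ct, cl_bt, cl_dt, cl_et, cl_ft, cl_dt, cl_ht, cl_it, cl_dt, cl_ct, cl_bt, cl_dt, cl_et, cl_ft, cl_dt, cl_ht, cl_it, cl_dt,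 cl_ct, cl_bt, cl_dt, cl_et, cl_ft, cl_dt, cl_ht, cl_it, cl_dt, cl_ct, cl_bt, cl_dt, cl_et, cl_ft, cl_dt, cl_ht, cl_it, cl_dt, cl_ct, cl_bt, cl_dt, cl_et, cl_ft, cl_dt]
  (wG_of_rotate rels relW_55 [cl_ht, cl_it, cl_dt, cl_ct, cl_bt, cl_dt, cl_et, cl_ft, cl_dt, cl_ht, cl_it, cl_dt, cl_ct, cl_bt, cl_dt, cl_et, cl_ft, cl_dt, cl_ht, cl_it, cl_dt, cl_ct, cl_bt, cl_dt, cl_et, cl_ft, cl_dt, cl_ht, cl_it, cl_dt, cl_ct, cl_bt, cl_dt, cl_et, cl_ft, cl_dt, cl_ht, cl_it, cl_dt, cl_ct, cl_bt, cl_dt, cl_et, cl_ft, cl_dt, cl_ht, cl_it, cl_dt, cl_ct, cl_bt, cl_dt, cl_et, cl_ft, cl_dt, cl_ht, cl_it, cl_dt, cl_ct, cl_bt, cl_dt, cl_et, cl_ft, cl_dt, cl_ht, cl_it, cl_dt, cl_ct, cl_bt, cl_dt, cl_et, cl_ft, cl_dt, cl_ht, cl_it, cl_dt, cl_ct, cl_bt, cl_dt, cl_et, cl_ft, cl_dt, cl_ht, cl_it, cl_dt,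 cl_ct, cl_bt, cl_dt, cl_et, cl_ft, cl_dt] 25 (by decide +kernel) relone_55)
def rc_56_13 : Cert rels S Gen.h := Cert.rel true [cl_at, cl_bt, cl_ct, cl_dt, cl_et, cl_ft, cl_ht, cl_at, cl_bt, cl_ct, cl_dt, cl_et, cl_ft, cl_ht, cl_at, cl_bt, cl_ct, cl_dt, cl_et, cl_ft, cl_ht, cl_at, cl_bt, cl_ct, cl_dt, cl_et, cl_ft, cl_ht, cl_at, cl_bt, cl_ct, cl_dt, cl_et, cl_ft, cl_ht, cl_at, cl_bt, cl_ct, cl_dt, cl_et, cl_ft, cl_ht, cl_at, cl_bt, cl_ct, cl_dt, cl_et, cl_ft, cl_ht, cl_at, cl_bt, cl_ct, cl_dt, cl_et, cl_ft, cl_ht, cl_at, cl_bt, cl_ct, cl_dt, cl_et, cl_ft]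
  (wG_of_rotate rels relW_56 [cl_ht, cl_at, cl_bt, cl_ct, cl_dt, cl_et, cl_ft, cl_ht, cl_at, cl_bt, cl_ct, cl_dt, cl_et, cl_ft, cl_ht, cl_at, cl_bt, cl_ct, cl_dt, cl_et, cl_ft, cl_ht, cl_at, cl_bt, cl_ct, cl_dt, cl_et, cl_ft, cl_ht, cl_at, cl_bt, cl_ct, cl_dt, cl_et, cl_ft, cl_ht, cl_at, cl_bt, cl_ct, cl_dt, cl_et, cl_ft, cl_ht, cl_at, cl_bt, cl_ct, cl_dt, cl_et, cl_ft, cl_ht, cl_at, cl_bt, cl_ct, cl_dt, cl_et, cl_ft, cl_ht, cl_at, cl_bt, cl_ct, cl_dt, cl_et, cl_ft] 13 (by decide +kernel) relone_56)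
def rc_56_20 : Cert rels S Gen.h := Cert.rel true [cl_at, cl_bt, cl_ct, cl_dt, cl_et, cl_ft, cl_ht, cl_at, cl_bt, cl_ct, cl_dt, cl_et, cl_ft, cl_ht, cl_at, cl_bt, cl_ct, cl_dt, cl_et, cl_ft, cl_ht, cl_at, cl_bt, cl_ct, cl_dt, cl_et, cl_ft, cl_ht, cl_at, cl_bt, cl_ct, cl_dt, cl_et, cl_ft, cl_ht, cl_at, cl_bt, cl_ct, cl_dt, cl_et, cl_ft, cl_ht, cl_at, cl_bt, cl_ct, cl_dt, cl_et, cl_ft, cl_ht, cl_at, cl_bt, cl_ct, cl_dt, cl_et, cl_ft, cl_ht, cl_at, cl_bt, cl_ct, cl_dt, cl_et, cl_ft]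
  (wG_of_rotate rels relW_56 [cl_ht, cl_at, cl_bt, cl_ct, cl_dt, cl_et, cl_ft, cl_ht, cl_at, cl_bt, cl_ct, cl_dt, cl_et, cl_ft, cl_ht, cl_at, cl_bt, cl_ct, cl_dt, cl_et, cl_ft, cl_ht, cl_at, cl_bt, cl_ct, cl_dt, cl_et, cl_ft, cl_ht, cl_at, cl_bt, cl_ct, cl_dt, cl_et, cl_ft, cl_ht, cl_at, cl_bt, cl_ct, cl_dt, cl_et, cl_ft, cl_ht, cl_at, cl_bt, cl_ct, cl_dt, cl_et, cl_ft, cl_ht, cl_at, cl_bt, cl_ct, cl_dt, cl_et, cl_ft, cl_ht, cl_at, cl_bt, cl_ct, cl_dt, cl_et, cl_ft] 20 (by decide +kernel) relone_56)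
def rc_55_70 : Cert rels S Gen.h := Cert.rel true [cl_it, cl_dt, cl_ct, cl_bt, cl_dt, cl_et, cl_ft, cl_dt, cl_ht, cl_it, cl_dt, cl_ct, cl_bt, cl_dt, cl_et, cl_ft, cl_dt, cl_ht, cl_it, cl_dt, cl_ct, cl_bt, cl_dt, cl_et, cl_ft, cl_dt, cl_ht, cl_it, cl_dt, cl_ct, cl_bt, cl_dt, cl_et, cl_ft, cl_dt, cl_ht, cl_it, cl_dt, cl_ct, cl_bt, cl_dt, cl_et, cl_ft, cl_dt, cl_ht, cl_it, cl_dt, cl_ct, cl_bt, cl_dt, cl_et, cl_ft, cl_dt, cl_ht, cl_it, cl_dt, cl_ct, cl_bt, cl_dt, cl_et, cl_ft, cl_dt, cl_ht, cl_it, cl_dt, cl_ct, cl_bt, cl_dt, cl_et, cl_ft, cl_dt, cl_ht, cl_it, cl_dt, cl_ct, cl_bt, cl_dt, cl_et, cl_ft, cl_dt, cl_ht, cl_it, cl_dt, cl_ct, cl_bt, cl_dt, cl_et, cl_ft, cl_dt]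
  (wG_of_rotate rels relW_55 [cl_ht, cl_it, cl_dt, cl_ct, cl_bt, cl_dt, cl_et, cl_ft, cl_dt, cl_ht, cl_it, cl_dt, cl_ct, cl_bt, cl_dt, cl_et, cl_ft, cl_dt, cl_ht, cl_it, cl_dt, cl_ct, cl_bt, cl_dt, cl_et, cl_ft, cl_dt, cl_ht, cl_it, cl_dt, cl_ct, cl_bt, cl_dt, cl_et, cl_ft, cl_dt, cl_ht, cl_it, cl_dt, cl_ct, cl_bt, cl_dt, cl_et, cl_ft, cl_dt, cl_ht, cl_it, cl_dt, cl_ct, cl_bt, cl_dt, cl_et, cl_ft, cl_dt, cl_ht, cl_it, cl_dt, cl_ct, cl_bt, cl_dt, cl_et, cl_ft, cl_dt, cl_ht, cl_it, cl_dt, cl_ct, cl_bt, cl_dt, cl_et, cl_ft, cl_dt, cl_ht, cl_it, cl_dt, cl_ct, cl_bt, cl_dt, cl_et, cl_ft, cl_dt, cl_ht, cl_it, cl_dt, cl_ct, cl_bt, cl_dt, cl_et, cl_ft, cl_dt] 70 (by decide +kernel) relone_55)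
def rc_55_34 : Cert rels S Gen.h := Cert.rel true [cl_it, cl_dt, cl_ct, cl_bt, cl_dt, cl_et, cl_ft, cl_dt, cl_ht, cl_it, cl_dt, cl_ct, cl_bt, cl_dt, cl_et, cl_ft, cl_dt, cl_ht, cl_it, cl_dt, cl_ct, cl_bt, cl_dt, cl_et, cl_ft, cl_dt, cl_ht, cl_it, cl_dt, cl_ct, cl_bt, cl_dt, cl_et, cl_ft, cl_dt, cl_ht, cl_it, cl_dt, cl_ct, cl_bt, cl_dt, cl_et, cl_ft, cl_dt, cl_ht, cl_it, cl_dt, cl_ct, cl_bt, cl_dt, cl_et, cl_ft, cl_dt, cl_ht, cl_it, cl_dt, cl_ct, cl_bt, cl_dt, cl_et, cl_ft, cl_dt, cl_ht, cl_it, cl_dt, cl_ct, cl_bt, cl_dt, cl_et, cl_ft, cl_dt, cl_ht, cl_it, cl_dt, cl_ct, cl_bt, cl_dt, cl_et, cl_ft, cl_dt, cl_ht, cl_it, cl_dt, cl_ct, cl_bt, cl_dt, cl_et, cl_ft, cl_dt]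
  (wG_of_rotate rels relW_55 [cl_ht, cl_it, cl_dt, cl_ct, cl_bt, cl_dt, cl_et, cl_ft, cl_dt, cl_ht, cl_it, cl_dt, cl_ct, cl_bt, cl_dt, cl_et, cl_ft, cl_dt, cl_ht, cl_it, cl_dt, cl_ct, cl_bt, cl_dt, cl_et, cl_ft, cl_dt, cl_ht, cl_it, cl_dt, cl_ct, cl_bt, cl_dt, cl_et, cl_ft, cl_dt, cl_ht, cl_it, cl_dt, cl_ct, cl_bt, cl_dt, cl_et, cl_ft, cl_dt, cl_ht, cl_it, cl_dt, cl_ct, cl_bt, cl_dt, cl_et, cl_ft, cl_dt, cl_ht, cl_it, cl_dt, cl_ct, cl_bt, cl_dt, cl_et, cl_ft, cl_dt, cl_ht, cl_it, cl_dt, cl_ct, cl_bt, cl_dt, cl_et, cl_ft, cl_dt, cl_ht, cl_it, cl_dt, cl_ct, cl_bt, cl_dt, cl_et, cl_ft, cl_dt, cl_ht, cl_it, cl_dt, cl_ct, cl_bt, cl_dt, cl_et, cl_ft, cl_dt] 34 (by decide +kernel) relone_55)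
def rc_55_43 : Cert rels S Gen.h := Cert.rel true [cl_it, cl_dt, cl_ct, cl_bt, cl_dt, cl_et, cl_ft, cl_dt, cl_ht, cl_it, cl_dt, cl_ct, cl_bt, cl_dt, cl_et, cl_ft, cl_dt, cl_ht, cl_it, cl_dt, cl_ct, cl_bt, cl_dt, cl_et, cl_ft, cl_dt, cl_ht, cl_it, cl_dt, cl_ct, cl_bt, cl_dt, cl_et, cl_ft, cl_dt, cl_ht, cl_it, cl_dt, cl_ct, cl_bt, cl_dt, cl_et, cl_ft, cl_dt, cl_ht, cl_it, cl_dt, cl_ct, cl_bt, cl_dt, cl_et, cl_ft, cl_dt, cl_ht, cl_it, cl_dt, cl_ct, cl_bt, cl_dt, cl_et, cl_ft, cl_dt, cl_ht, cl_it, cl_dt, cl_ct, cl_bt, cl_dt, cl_et, cl_ft, cl_dt, cl_ht, cl_it, cl_dt, cl_ct, cl_bt, cl_dt, cl_et, cl_ft, cl_dt, cl_ht, cl_it, cl_dt, cl_ct, cl_bt, cl_dt, cl_et, cl_ft, cl_dt]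
  (wG_of_rotate rels relW_55 [cl_ht, cl_it, cl_dt, cl_ct, cl_bt, cl_dt, cl_et, cl_ft, cl_dt, cl_ht, cl_it, cl_dt, cl_ct, cl_bt, cl_dt, cl_et, cl_ft, cl_dt, cl_ht, cl_it, cl_dt, cl_ct, cl_bt, cl_dt, cl_et, cl_ft, cl_dt, cl_ht, cl_it, cl_dt, cl_ct, cl_bt, cl_dt, cl_et, cl_ft, cl_dt, cl_ht, cl_it, cl_dt, cl_ct, cl_bt, cl_dt, cl_et, cl_ft, cl_dt, cl_ht, cl_it, cl_dt, cl_ct, cl_bt, cl_dt, cl_et, cl_ft, cl_dt, cl_ht, cl_it, cl_dt, cl_ct, cl_bt, cl_dt, cl_et, cl_ft, cl_dt, cl_ht, cl_it, cl_dt, cl_ct, cl_bt, cl_dt, cl_et, cl_ft, cl_dt, cl_ht, cl_it, cl_dt, cl_ct, cl_bt, cl_dt, cl_et, cl_ft, cl_dt, cl_ht, cl_it, cl_dt, cl_ct, cl_bt, cl_dt, cl_et, cl_ft, cl_dt] 43 (by decide +kernel) relone_55)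
def rc_55_52 : Cert rels S Gen.h := Cert.rel true [cl_it, cl_dt, cl_ct, cl_bt, cl_dt, cl_et, cl_ft, cl_dt, cl_ht, cl_it, cl_dt, cl_ct, cl_bt, cl_dt, cl_et, cl_ft, cl_dt, cl_ht, cl_it, cl_dt, cl_ct, cl_bt, cl_dt, cl_et, cl_ft, cl_dt, cl_ht, cl_it, cl_dt, cl_ct, cl_bt, cl_dt, cl_et, cl_ft, cl_dt, cl_ht, cl_it, cl_dt, cl_ct, cl_bt, cl_dt, cl_et, cl_ft, cl_dt, cl_ht, cl_it, cl_dt, cl_ct, cl_bt, cl_dt, cl_et, cl_ft, cl_dt, cl_ht, cl_it, cl_dt, cl_ct, cl_bt, cl_dt, cl_et, cl_ft, cl_dt, cl_ht, cl_it, cl_dt, cl_ct, cl_bt, cl_dt, cl_et, cl_ft, cl_dt, cl_ht, cl_it, cl_dt, cl_ct, cl_bt, cl_dt, cl_et, cl_ft, cl_dt, cl_ht, cl_it, cl_dt, cl_ct, cl_bt, cl_dt, cl_et, cl_ft, cl_dt]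
  (wG_of_rotate rels relW_55 [cl_ht, cl_it, cl_dt, cl_ct, cl_bt, cl_dt, cl_et, cl_ft, cl_dt, cl_ht, cl_it, cl_dt, cl_ct, cl_bt, cl_dt, cl_et, cl_ft, cl_dt, cl_ht, cl_it, cl_dt, cl_ct, cl_bt, cl_dt, cl_et, cl_ft, cl_dt, cl_ht, cl_it, cl_dt, cl_ct, cl_bt, cl_dt, cl_et, cl_ft, cl_dt, cl_ht, cl_it, cl_dt, cl_ct, cl_bt, cl_dt, cl_et, cl_ft, cl_dt, cl_ht, cl_it, cl_dt, cl_ct, cl_bt, cl_dt, cl_et, cl_ft, cl_dt, cl_ht, cl_it, cl_dt, cl_ct, cl_bt, cl_dt, cl_et, cl_ft, cl_dt, cl_ht, cl_it, cl_dt, cl_ct, cl_bt, cl_dt, cl_et, cl_ft, cl_dt, cl_ht, cl_it, cl_dt, cl_ct, cl_bt, cl_dt, cl_et, cl_ft, cl_dt, cl_ht, cl_it, cl_dt, cl_ct, cl_bt, cl_dt, cl_et, cl_ft, cl_dt] 52 (by decide +kernel) relone_55)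
def rc_56_48 : Cert rels S Gen.h := Cert.rel true [cl_at, cl_bt, cl_ct, cl_dt, cl_et, cl_ft, cl_ht, cl_at, cl_bt, cl_ct, cl_dt, cl_et, cl_ft, cl_ht, cl_at, cl_bt, cl_ct, cl_dt, cl_et, cl_ft, cl_ht, cl_at, cl_bt, cl_ct, cl_dt, cl_et, cl_ft, cl_ht, cl_at, cl_bt, cl_ct, cl_dt, cl_et, cl_ft, cl_ht, cl_at, cl_bt, cl_ct, cl_dt, cl_et, cl_ft, cl_ht, cl_at, cl_bt, cl_ct, cl_dt, cl_et, cl_ft, cl_ht, cl_at, cl_bt, cl_ct, cl_dt, cl_et, cl_ft, cl_ht, cl_at, cl_bt, cl_ct, cl_dt, cl_et, cl_ft]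
  (wG_of_rotate rels relW_56 [cl_ht, cl_at, cl_bt, cl_ct, cl_dt, cl_et, cl_ft, cl_ht, cl_at, cl_bt, cl_ct, cl_dt, cl_et, cl_ft, cl_ht, cl_at, cl_bt, cl_ct, cl_dt, cl_et, cl_ft, cl_ht, cl_at, cl_bt, cl_ct, cl_dt, cl_et, cl_ft, cl_ht, cl_at, cl_bt, cl_ct, cl_dt, cl_et, cl_ft, cl_ht, cl_at, cl_bt, cl_ct, cl_dt, cl_et, cl_ft, cl_ht, cl_at, cl_bt, cl_ct, cl_dt, cl_et, cl_ft, cl_ht, cl_at, cl_bt, cl_ct, cl_dt, cl_et, cl_ft, cl_ht, cl_at, cl_bt, cl_ct, cl_dt, cl_et, cl_ft] 48 (by decide +kernel) relone_56)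
def rc_53_1 : Cert rels S Gen.i := Cert.rel true [cl_jt, cl_it, cl_jt]
  (wG_of_rotate rels relW_53 [cl_it, cl_jt, cl_it, cl_jt] 1 (by decide +kernel) relone_53)
def rc_50_1 : Cert rels S Gen.i := Cert.rel true [cl_gt, cl_it, cl_gt]
  (wG_of_rotate rels relW_50 [cl_it, cl_gt, cl_it, cl_gt] 1 (by decide +kernel) relone_50)
def rc_46_1 : Cert rels S Gen.i := Cert.rel true [cl_ft, cl_it, cl_ft]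
  (wG_of_rotate rels relW_46 [cl_it, cl_ft, cl_it, cl_ft] 1 (by decide +kernel) relone_46)
def rc_39_1 : Cert rels S Gen.i := Cert.rel true [cl_et, cl_it, cl_et]
  (wG_of_rotate rels relW_39 [cl_it, cl_et, cl_it, cl_et] 1 (by decide +kernel) relone_39)
def rc_33_1 : Cert rels S Gen.i := Cert.rel true [cl_dt, cl_it, cl_dt]
  (wG_of_rotate rels relW_33 [cl_it, cl_dt, cl_it, cl_dt] 1 (by decide +kernel) relone_33)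
def rc_26_1 : Cert rels S Gen.i := Cert.rel true [cl_ct, cl_it, cl_ct]
  (wG_of_rotate rels relW_26 [cl_it, cl_ct, cl_it, cl_ct] 1 (by decide +kernel) relone_26)
def rc_18_1 : Cert rels S Gen.i := Cert.rel true [cl_bt, cl_it, cl_bt]
  (wG_of_rotate rels relW_18 [cl_it, cl_bt, cl_it, cl_bt] 1 (by decide +kernel) relone_18)
def rc_54_0 : Cert rels S Gen.i := Cert.rel true [cl_it]
  (wG_of_rotate rels relW_54 [cl_it, cl_it] 0 (by decide +kernel) relone_54)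
def rc_9_1 : Cert rels S Gen.i := Cert.rel true [cl_at, cl_it, cl_at]
  (wG_of_rotate rels relW_9 [cl_it, cl_at, cl_it, cl_at] 1 (by decide +kernel) relone_9)
def rc_41_3 : Cert rels S Gen.i := Cert.rel true [cl_ht, cl_it, cl_ht, cl_it, cl_ht]
  (wG_of_rotate rels relW_41 [cl_it, cl_ht, cl_it, cl_ht, cl_it, cl_ht] 3 (by decide +kernel) relone_41)
def rc_18_3 : Cert rels S Gen.i := Cert.rel true [cl_bt, cl_it, cl_bt]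
  (wG_of_rotate rels relW_18 [cl_it, cl_bt, cl_it, cl_bt] 3 (by decide +kernel) relone_18)
def rc_39_3 : Cert rels S Gen.i := Cert.rel true [cl_et, cl_it, cl_et]
  (wG_of_rotate rels relW_39 [cl_it, cl_et, cl_it, cl_et] 3 (by decide +kernel) relone_39)
def rc_33_3 : Cert rels S Gen.i := Cert.rel true [cl_dt, cl_it, cl_dt]
  (wG_of_rotate rels relW_33 [cl_it, cl_dt, cl_it, cl_dt] 3 (by decide +kernel) relone_33)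
def rc_9_3 : Cert rels S Gen.i := Cert.rel true [cl_at, cl_it, cl_at]
  (wG_of_rotate rels relW_9 [cl_it, cl_at, cl_it, cl_at] 3 (by decide +kernel) relone_9)
def rc_26_3 : Cert rels S Gen.i := Cert.rel true [cl_ct, cl_it, cl_ct]
  (wG_of_rotate rels relW_26 [cl_it, cl_ct, cl_it, cl_ct] 3 (by decide +kernel) relone_26)
def rc_41_1 : Cert rels S Gen.i := Cert.rel true [cl_ht, cl_it, cl_ht, cl_it, cl_ht]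
  (wG_of_rotate rels relW_41 [cl_it, cl_ht, cl_it, cl_ht, cl_it, cl_ht] 1 (by decide +kernel) relone_41)
def rc_46_3 : Cert rels S Gen.i := Cert.rel true [cl_ft, cl_it, cl_ft]
  (wG_of_rotate rels relW_46 [cl_it, cl_ft, cl_it, cl_ft] 3 (by decide +kernel) relone_46)
def rc_50_3 : Cert rels S Gen.i := Cert.rel true [cl_gt, cl_it, cl_gt]
  (wG_of_rotate rels relW_50 [cl_it, cl_gt, cl_it, cl_gt] 3 (by decide +kernel) relone_50)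
def rc_54_1 : Cert rels S Gen.i := Cert.rel true [cl_it]
  (wG_of_rotate rels relW_54 [cl_it, cl_it] 1 (by decide +kernel) relone_54)
def rc_55_71 : Cert rels S Gen.i := Cert.rel true [cl_dt, cl_ct, cl_bt, cl_dt, cl_et, cl_ft, cl_dt, cl_ht, cl_it, cl_dt, cl_ct, cl_bt, cl_dt, cl_et, cl_ft, cl_dt, cl_ht, cl_it, cl_dt, cl_ct, cl_bt, cl_dt, cl_et, cl_ft, cl_dt, cl_ht, cl_it, cl_dt, cl_ct, cl_bt, cl_dt, cl_et, cl_ft, cl_dt, cl_ht, cl_it, cl_dt, cl_ct, cl_bt, cl_dt, cl_et, cl_ft, cl_dt, cl_ht, cl_it, cl_dt, cl_ct, cl_bt, cl_dt, cl_et, cl_ft, cl_dt, cl_ht, cl_it, cl_dt, cl_ct, cl_bt, cl_dt, cl_et, cl_ft, cl_dt, cl_ht, cl_it, cl_dt, cl_ct, cl_bt, cl_dt, cl_et, cl_ft, cl_dt, cl_ht, cl_it, cl_dt, cl_ct, cl_bt, cl_dt, cl_et, cl_ft, cl_dt, cl_ht, cl_it, cl_dt, cl_ct, cl_bt, cl_dt, cl_et,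 cl_ft, cl_dt, cl_ht]
  (wG_of_rotate rels relW_55 [cl_it, cl_dt, cl_ct, cl_bt, cl_dt, cl_et, cl_ft, cl_dt, cl_ht, cl_it, cl_dt, cl_ct, cl_bt, cl_dt, cl_et, cl_ft, cl_dt, cl_ht, cl_it, cl_dt, cl_ct, cl_bt, cl_dt, cl_et, cl_ft, cl_dt, cl_ht, cl_it, cl_dt, cl_ct, cl_bt, cl_dt, cl_et, cl_ft, cl_dt, cl_ht, cl_it, cl_dt, cl_ct, cl_bt, cl_dt, cl_et, cl_ft, cl_dt, cl_ht, cl_it, cl_dt, cl_ct, cl_bt, cl_dt, cl_et, cl_ft, cl_dt, cl_ht, cl_it, cl_dt, cl_ct, cl_bt, cl_dt, cl_et, cl_ft, cl_dt, cl_ht, cl_it, cl_dt, cl_ct, cl_bt, cl_dt, cl_et, cl_ft, cl_dt, cl_ht, cl_it, cl_dt, cl_ct, cl_bt, cl_dt, cl_et, cl_ft, cl_dt, cl_ht, cl_it, cl_dt, cl_ct, cl_bt, cl_dt, cl_et, cl_ft, cl_dt, cl_ht] 71 (by decide +kernel) relone_55)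
def rc_55_53 : Cert rels S Gen.i := Cert.rel true [cl_dt, cl_ct, cl_bt, cl_dt, cl_et, cl_ft, cl_dt, cl_ht, cl_it, cl_dt, cl_ct, cl_bt, cl_dt, cl_et, cl_ft, cl_dt, cl_ht, cl_it, cl_dt, cl_ct, cl_bt, cl_dt, cl_et, cl_ft, cl_dt, cl_ht, cl_it, cl_dt, cl_ct, cl_bt, cl_dt, cl_et, cl_ft, cl_dt, cl_ht, cl_it, cl_dt, cl_ct, cl_bt, cl_dt, cl_et, cl_ft, cl_dt, cl_ht, cl_it, cl_dt, cl_ct, cl_bt, cl_dt, cl_et, cl_ft, cl_dt, cl_ht, cl_it, cl_dt, cl_ct, cl_bt, cl_dt, cl_et, cl_ft, cl_dt, cl_ht, cl_it, cl_dt, cl_ct, cl_bt, cl_dt, cl_et, cl_ft, cl_dt, cl_ht, cl_it, cl_dt, cl_ct, cl_bt, cl_dt, cl_et, cl_ft, cl_dt, cl_ht, cl_it, cl_dt, cl_ct, cl_bt, cl_dt, cl_et, cl_ft, cl_dt, cl_ht]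
  (wG_of_rotate rels relW_55 [cl_it, cl_dt, cl_ct, cl_bt, cl_dt, cl_et, cl_ft, cl_dt, cl_ht, cl_it, cl_dt, cl_ct, cl_bt, cl_dt, cl_et, cl_ft, cl_dt, cl_ht, cl_it, cl_dt, cl_ct, cl_bt, cl_dt, cl_et, cl_ft, cl_dt, cl_ht, cl_it, cl_dt, cl_ct, cl_bt, cl_dt, cl_et, cl_ft, cl_dt, cl_ht, cl_it, cl_dt, cl_ct, cl_bt, cl_dt, cl_et, cl_ft, cl_dt, cl_ht, cl_it, cl_dt, cl_ct, cl_bt, cl_dt, cl_et, cl_ft, cl_dt, cl_ht, cl_it, cl_dt, cl_ct, cl_bt, cl_dt, cl_et, cl_ft, cl_dt, cl_ht, cl_it, cl_dt, cl_ct, cl_bt, cl_dt, cl_et, cl_ft, cl_dt, cl_ht, cl_it, cl_dt, cl_ct, cl_bt, cl_dt, cl_et, cl_ft, cl_dt, cl_ht, cl_it, cl_dt, cl_ct, cl_bt, cl_dt, cl_et, cl_ft, cl_dt, cl_ht] 53 (by decide +kernel) relone_55)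
def rc_55_26 : Cert rels S Gen.i := Cert.rel true [cl_dt, cl_ct, cl_bt, cl_dt, cl_et, cl_ft, cl_dt, cl_ht, cl_it, cl_dt, cl_ct, cl_bt, cl_dt, cl_et, cl_ft, cl_dt, cl_ht, cl_it, cl_dt, cl_ct, cl_bt, cl_dt, cl_et, cl_ft, cl_dt, cl_ht, cl_it, cl_dt, cl_ct, cl_bt, cl_dt, cl_et, cl_ft, cl_dt, cl_ht, cl_it, cl_dt, cl_ct, cl_bt, cl_dt, cl_et, cl_ft, cl_dt, cl_ht, cl_it, cl_dt, cl_ct, cl_bt, cl_dt, cl_et, cl_ft, cl_dt, cl_ht, cl_it, cl_dt, cl_ct, cl_bt, cl_dt, cl_et, cl_ft, cl_dt, cl_ht, cl_it, cl_dt, cl_ct, cl_bt, cl_dt, cl_et, cl_ft, cl_dt, cl_ht, cl_it, cl_dt, cl_ct, cl_bt, cl_dt, cl_et, cl_ft, cl_dt, cl_ht, cl_it, cl_dt, cl_ct, cl_bt, cl_dt, cl_et, cl_ft, cl_dt, cl_ht]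
  (wG_of_rotate rels relW_55 [cl_it, cl_dt, cl_ct, cl_bt, cl_dt, cl_et, cl_ft, cl_dt, cl_ht, cl_it, cl_dt, cl_ct, cl_bt, cl_dt, cl_et, cl_ft, cl_dt, cl_ht, cl_it, cl_dt, cl_ct, cl_bt, cl_dt, cl_et, cl_ft, cl_dt, cl_ht, cl_it, cl_dt, cl_ct, cl_bt, cl_dt, cl_et, cl_ft, cl_dt, cl_ht, cl_it, cl_dt, cl_ct, cl_bt, cl_dt, cl_et, cl_ft, cl_dt, cl_ht, cl_it, cl_dt, cl_ct, cl_bt, cl_dt, cl_et, cl_ft, cl_dt, cl_ht, cl_it, cl_dt, cl_ct, cl_bt, cl_dt, cl_et, cl_ft, cl_dt, cl_ht, cl_it, cl_dt, cl_ct, cl_bt, cl_dt, cl_et, cl_ft, cl_dt, cl_ht, cl_it, cl_dt, cl_ct, cl_bt, cl_dt, cl_et, cl_ft, cl_dt, cl_ht, cl_it, cl_dt, cl_ct, cl_bt, cl_dt, cl_et, cl_ft, cl_dt, cl_ht] 26 (by decide +kernel) relone_55)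
def rc_55_35 : Cert rels S Gen.i := Cert.rel true [cl_dt, cl_ct, cl_bt, cl_dt, cl_et, cl_ft, cl_dt, cl_ht, cl_it, cl_dt, cl_ct, cl_bt, cl_dt, cl_et, cl_ft, cl_dt, cl_ht, cl_it, cl_dt, cl_ct, cl_bt, cl_dt, cl_et, cl_ft, cl_dt, cl_ht, cl_it, cl_dt, cl_ct, cl_bt, cl_dt, cl_et, cl_ft, cl_dt, cl_ht, cl_it, cl_dt, cl_ct, cl_bt, cl_dt, cl_et, cl_ft, cl_dt, cl_ht, cl_it, cl_dt, cl_ct, cl_bt, cl_dt, cl_et, cl_ft, cl_dt, cl_ht, cl_it, cl_dt, cl_ct, cl_bt, cl_dt, cl_et, cl_ft, cl_dt, cl_ht, cl_it, cl_dt, cl_ct, cl_bt, cl_dt, cl_et, cl_ft, cl_dt, cl_ht, cl_it, cl_dt, cl_ct, cl_bt, cl_dt, cl_et, cl_ft, cl_dt, cl_ht, cl_it, cl_dt, cl_ct, cl_bt, cl_dt, cl_et, cl_ft, cl_dt, cl_ht]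
  (wG_of_rotate rels relW_55 [cl_it, cl_dt, cl_ct, cl_bt, cl_dt, cl_et, cl_ft, cl_dt, cl_ht, cl_it, cl_dt, cl_ct, cl_bt, cl_dt, cl_et, cl_ft, cl_dt, cl_ht, cl_it, cl_dt, cl_ct, cl_bt, cl_dt, cl_et, cl_ft, cl_dt, cl_ht, cl_it, cl_dt, cl_ct, cl_bt, cl_dt, cl_et, cl_ft, cl_dt, cl_ht, cl_it, cl_dt, cl_ct, cl_bt, cl_dt, cl_et, cl_ft, cl_dt, cl_ht, cl_it, cl_dt, cl_ct, cl_bt, cl_dt, cl_et, cl_ft, cl_dt, cl_ht, cl_it, cl_dt, cl_ct, cl_bt, cl_dt, cl_et, cl_ft, cl_dt, cl_ht, cl_it, cl_dt, cl_ct, cl_bt, cl_dt, cl_et, cl_ft, cl_dt, cl_ht, cl_it, cl_dt, cl_ct, cl_bt, cl_dt, cl_et, cl_ft, cl_dt, cl_ht, cl_it, cl_dt, cl_ct, cl_bt, cl_dt, cl_et, cl_ft, cl_dt, cl_ht] 35 (by decide +kernel) relone_55)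
def rc_41_5 : Cert rels S Gen.i := Cert.rel true [cl_ht, cl_it, cl_ht, cl_it, cl_ht]
  (wG_of_rotate rels relW_41 [cl_it, cl_ht, cl_it, cl_ht, cl_it, cl_ht] 5 (by decide +kernel) relone_41)
def rc_53_3 : Cert rels S Gen.i := Cert.rel true [cl_jt, cl_it, cl_jt]
  (wG_of_rotate rels relW_53 [cl_it, cl_jt, cl_it, cl_jt] 3 (by decide +kernel) relone_53)
def rc_55_62 : Cert rels S Gen.i := Cert.rel true [cl_dt, cl_ct, cl_bt, cl_dt, cl_et, cl_ft, cl_dt, cl_ht, cl_it, cl_dt, cl_ct, cl_bt, cl_dt, cl_et, cl_ft, cl_dt, cl_ht, cl_it, cl_dt, cl_ct, cl_bt, cl_dt, cl_et, cl_ft, cl_dt, cl_ht, cl_it, cl_dt, cl_ct, cl_bt, cl_dt, cl_et, cl_ft, cl_dt, cl_ht, cl_it, cl_dt, cl_ct, cl_bt, cl_dt, cl_et, cl_ft, cl_dt, cl_ht, cl_it, cl_dt, cl_ct, cl_bt, cl_dt, cl_et, cl_ft, cl_dt, cl_ht, cl_it, cl_dt,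 cl_ct, cl_bt, cl_dt, cl_et, cl_ft, cl_dt, cl_ht, cl_it, cl_dt, cl_ct, cl_bt, cl_dt, cl_et, cl_ft, cl_dt, cl_ht, cl_it, cl_dt, cl_ct, cl_bt, cl_dt, cl_et, cl_ft, cl_dt, cl_ht, cl_it, cl_dt, cl_ct, cl_bt, cl_dt, cl_et, cl_ft, cl_dt, cl_ht]
  (wG_of_rotate rels relW_55 [cl_it, cl_dt, cl_ct, cl_bt, cl_dt, cl_et, cl_ft, cl_dt, cl_ht, cl_it, cl_dt, cl_ct, cl_bt, cl_dt, cl_et, cl_ft, cl_dt, cl_ht, cl_it, cl_dt, cl_ct, cl_bt, cl_dt, cl_et, cl_ft, cl_dt, cl_ht, cl_it, cl_dt, cl_ct, cl_bt, cl_dt, cl_et, cl_ft, cl_dt, cl_ht, cl_it, cl_dt, cl_ct, cl_bt, cl_dt, cl_et, cl_ft, cl_dt, cl_ht, cl_it, cl_dt, cl_ct, cl_bt, cl_dt, cl_et, cl_ft, cl_dt, cl_ht, cl_it, cl_dt, cl_ct, cl_bt, cl_dt, cl_et, cl_ft, cl_dt, cl_ht, cl_it, cl_dt, cl_ct, cl_bt, cl_dt, cl_et, cl_ft, cl_dt, cl_ht, cl_it, cl_dt,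 cl_ct, cl_bt, cl_dt, cl_et, cl_ft, cl_dt, cl_ht, cl_it, cl_dt, cl_ct, cl_bt, cl_dt, cl_et, cl_ft, cl_dt, cl_ht] 62 (by decide +kernel) relone_55)
def rc_55_44 : Cert rels S Gen.i := Cert.rel true [cl_dt, cl_ct, cl_bt, cl_dt, cl_et, cl_ft, cl_dt, cl_ht, cl_it, cl_dt, cl_ct, cl_bt, cl_dt, cl_et, cl_ft, cl_dt, cl_ht, cl_it, cl_dt, cl_ct, cl_bt, cl_dt, cl_et, cl_ft, cl_dt, cl_ht, cl_it, cl_dt, cl_ct, cl_bt, cl_dt, cl_et, cl_ft, cl_dt, cl_ht, cl_it, cl_dt, cl_ct, cl_bt, cl_dt, cl_et, cl_ft, cl_dt, cl_ht, cl_it, cl_dt, cl_ct, cl_bt, cl_dt, cl_et, cl_ft, cl_dt, cl_ht, cl_it, cl_dt, cl_ct, cl_bt, cl_dt, cl_et, cl_ft, cl_dt, cl_ht, cl_it, cl_dt, cl_ct, cl_bt, cl_dt, cl_et, cl_ft, cl_dt, cl_ht, cl_it, cl_dt, cl_ct, cl_bt, cl_dt, cl_et, cl_ft, cl_dt, cl_ht, cl_it, cl_dt, cl_ct, cl_bt, cl_dt,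 cl_et, cl_ft, cl_dt, cl_ht]
  (wG_of_rotate rels relW_55 [cl_it, cl_dt, cl_ct, cl_bt, cl_dt, cl_et, cl_ft, cl_dt, cl_ht, cl_it, cl_dt, cl_ct, cl_bt, cl_dt, cl_et, cl_ft, cl_dt, cl_ht, cl_it, cl_dt, cl_ct, cl_bt, cl_dt, cl_et, cl_ft, cl_dt, cl_ht, cl_it, cl_dt, cl_ct, cl_bt, cl_dt, cl_et, cl_ft, cl_dt, cl_ht, cl_it, cl_dt, cl_ct, cl_bt, cl_dt, cl_et, cl_ft, cl_dt, cl_ht, cl_it, cl_dt, cl_ct, cl_bt, cl_dt, cl_et, cl_ft, cl_dt, cl_ht, cl_it, cl_dt, cl_ct, cl_bt, cl_dt, cl_et, cl_ft, cl_dt, cl_ht, cl_it, cl_dt, cl_ct, cl_bt, cl_dt, cl_et, cl_ft, cl_dt, cl_ht, cl_it, cl_dt, cl_ct, cl_bt, cl_dt, cl_et, cl_ft, cl_dt, cl_ht, cl_it, cl_dt, cl_ct, cl_bt, cl_dt, cl_et, cl_ft, cl_dt, cl_ht] 44 (by decide +kernel) relone_55)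
def sc_0_0 : Cert rels S Gen.a := Cert.sub true [] []
  (sub_valid rels S [] cl_at [] subH_0)
def sc_1_0 : Cert rels S Gen.b := Cert.sub true [] []
  (sub_valid rels S [] cl_bt [] subH_1)
def sc_2_0 : Cert rels S Gen.c := Cert.sub true [] []
  (sub_valid rels S [] cl_ct [] subH_2)
def sc_3_0 : Cert rels S Gen.d := Cert.sub true [] []
  (sub_valid rels S [] cl_dt [] subH_3)
def sc_4_0 : Cert rels S Gen.e := Cert.sub true [] []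
  (sub_valid rels S [] cl_et [] subH_4)
def sc_5_0 : Cert rels S Gen.f := Cert.sub true [] []
  (sub_valid rels S [] cl_ft [] subH_5)
def sc_6_0 : Cert rels S Gen.g := Cert.sub true [] []
  (sub_valid rels S [] cl_gt [] subH_6)
def sc_7_0 : Cert rels S Gen.h := Cert.sub true [] []
  (sub_valid rels S [] cl_ht [] subH_7)
def sc_8_0 : Cert rels S Gen.i := Cert.sub true [] []
  (sub_valid rels S [] cl_it [] subH_8)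

end

end Cfsg.Agent.Helper28.S1689
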