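import Cfsg.Agent.Lib.Helper28.S1689.Defs

set_option autoImplicit false
set_option maxRecDepth 100000
set_option linter.all false

namespace Cfsg.Agent.Helper28.S1689

open Cfsg.Agent.Helper28
open Cfsg.Spor.Fi23 (Gen)

noncomputable section

abbrev ka := Pt.mk
abbrev xa0 := D1.c0
abbrev xa1 := D1.c1
abbrev xa2 := D1.c2
abbrev xa3 := D1.c3
abbrev xa4 := D1.c4
abbrev xa5 := D1.c5
abbrev xa6 := D1.c6
abbrev xa7 := D1.c7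
abbrev xa8 := D1.c8
abbrev xa9 := D1.c9
abbrev xa10 := D1.c10
abbrev xa11 := D1.c11
abbrev xa12 := D1.c12
abbrev xa13 := D1.c13
abbrev xa14 := D1.c14
abbrev xa15 := D1.c15
abbrev xa16 := D1.c16
abbrev xa17 := D1.c17
abbrev xa18 := D1.c18
abbrev xa19 := D1.c19
abbrev xa20 := D1.c20
abbrev xa21 := D1.c21
abbrev xa22 := D1.c22
abbrev ya0 := D2.c0
abbrev ya1 := D2.c1
abbrev ya2 := D2.c2
abbrev ya3 := D2.c3
abbrev ya4 := D2.c4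
abbrev ya5 := D2.c5
abbrev ya6 := D2.c6
abbrev ya7 := D2.c7
abbrev ya8 := D2.c8
abbrev ya9 := D2.c9
abbrev ya10 := D2.c10
abbrev ya11 := D2.c11
abbrev ya12 := D2.c12
abbrev ya13 := D2.c13
abbrev ya14 := D2.c14
abbrev ya15 := D2.c15
abbrev ya16 := D2.c16
abbrev ya17 := D2.c17
abbrev ya18 := D2.c18
abbrev ya19 := D2.c19
abbrev ya20 := D2.c20
abbrev ya21 := D2.c21
abbrev ya22 := D2.c22
abbrev ya23 := D2.c23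
abbrev ya24 := D2.c24
abbrev ya25 := D2.c25
abbrev ya26 := D2.c26
abbrev za0 := D3.c0
abbrev za1 := D3.c1
abbrev za2 := D3.c2
abbrev za3 := D3.c3
abbrev za4 := D3.c4
abbrev za5 := D3.c5
abbrev za6 := D3.c6
abbrev za7 := D3.c7
abbrev za8 := D3.c8
abbrev za9 := D3.c9
abbrev za10 := D3.c10
abbrev za11 := D3.c11
abbrev za12 := D3.c12
abbrev za13 := D3.c13
abbrev za14 := D3.c14
abbrev za15 := D3.c15
abbrev za16 := D3.c16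
abbrev za17 := D3.c17
abbrev za18 := D3.c18
abbrev za19 := D3.c19
abbrev za20 := D3.c20
abbrev za21 := D3.c21
abbrev za22 := D3.c22
abbrev za23 := D3.c23
abbrev za24 := D3.c24
abbrev za25 := D3.c25
abbrev za26 := D3.c26
abbrev za27 := D3.c27
abbrev za28 := D3.c28
abbrev za29 := D3.c29
abbrev za30 := D3.c30
abbrev za31 := D3.c31
abbrev za32 := D3.c32
abbrev za33 := D3.c33
abbrev za34 := D3.c34
abbrev za35 := D3.c35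
abbrev za36 := D3.c36
abbrev za37 := D3.c37
abbrev za38 := D3.c38
abbrev za39 := D3.c39
abbrev za40 := D3.c40
abbrev za41 := D3.c41
abbrev za42 := D3.c42
abbrev za43 := D3.c43
abbrev za44 := D3.c44
abbrev za45 := D3.c45
abbrev za46 := D3.c46
abbrev za47 := D3.c47
abbrev za48 := D3.c48
abbrev za49 := D3.c49
abbrev za50 := D3.c50
def f_a_0 : D2 → D3 → Pt := @D2.rec (fun _ => D3 → Pt) (@D3.rec (fun _ => Pt) (ka xa0 ya0 za0) (ka xa0 ya0 za1) (ka xa0 ya0 za2) (ka xa0 ya0 za3) (ka xa0 ya0 za4) (ka xa0 ya0 za5) (ka xa0 ya0 za6) (ka xa0 ya0 za7) (ka xa0 ya0 za11) (ka xa0 ya0 za9) (ka xa0 ya0 za10) (ka xa0 ya0 za8) (ka xa0 ya0 za15) (ka xa0 ya0 za13) (ka xa0 ya0 za14) (ka xa0 ya0 za12) (ka xa0 ya0 za20) (ka xa0 ya0 za21) (ka xa0 ya0 za18) (ka xa0 ya0 za19) (ka xa0 ya0 za16) (ka xa0 ya0 za17) (ka xa0 ya0 za28) (ka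 xa0 ya0 za29) (ka xa0 ya0 za30) (ka xa0 ya0 za25) (ka xa0 ya0 za26) (ka xa0 ya0 za27) (ka xa0 ya0 za22) (ka xa0 ya0 za23) (ka xa0 ya0 za24) (ka xa0 ya0 za40) (ka xa0 ya0 za41) (ka xa0 ya0 za42) (ka xa0 ya0 za43) (ka xa0 ya0 za44) (ka xa0 ya0 za36) (ka xa0 ya0 za37) (ka xa0 ya0 za38) (ka xa0 ya0 za39) (ka xa0 ya0 za31) (ka xa0 ya0 za32) (ka xa0 ya0 za33) (ka xa0 ya0 za34) (ka xa0 ya0 za35) (ka xa0 ya1 za7) (ka xa0 ya1 za8) (ka xa0 ya1 za9) (ka xa0 ya1 za10) (ka xa0 ya1 za11) (ka xa0 ya1 za12)) (@D3.rec (fun _ => Pt) (ka xa0 ya1 za13) (ka xa0 ya1 za1) (ka xa0 ya1 za2) (ka xa0 ya1 za3) (ka xa0 ya1 za4) (ka xa0 ya1 za5) (ka xa0 ya1 za6) (ka xa0 ya0 za45) (ka xa0 ya0 za46) (ka xa0 ya0 za47) (ka xa0 ya0 za48) (ka xa0 ya0 za49) (ka xa0 ya0 za50) (ka xa0 ya1 za0) (ka xa0 ya1 za33) (ka xa0 ya1 za34) (ka xa0 ya1 za35)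 (ka xa0 ya1 za36) (ka xa0 ya1 za37) (ka xa0 ya1 za38) (ka xa0 ya1 za39) (ka xa0 ya1 za40) (ka xa0 ya1 za41) (ka xa0 ya1 za42) (ka xa0 ya1 za43) (ka xa0 ya1 za25) (ka xa0 ya1 za26) (ka xa0 ya1 za27) (ka xa0 ya1 za28) (ka xa0 ya1 za29) (ka xa0 ya1 za30) (ka xa0 ya1 za31) (ka xa0 ya1 za32) (ka xa0 ya1 za14) (ka xa0 ya1 za15) (ka xa0 ya1 za16) (ka xa0 ya1 za17) (ka xa0 ya1 za18) (ka xa0 ya1 za19) (ka xa0 ya1 za20) (ka xa0 ya1 za21) (ka xa0 ya1 za22) (ka xa0 ya1 za23) (ka xa0 ya1 za24) (ka xa0 ya2 za21) (ka xa0 ya2 za22) (ka xa0 ya2 za23) (ka xa0 ya2 za24) (ka xa0 ya2 za25) (ka xa0 ya2 za26) (ka xa0 ya2 za27)) (@D3.rec (fun _ => Pt) (ka xa0 ya2 za28) (ka xa0 ya2 za29) (ka xa0 ya2 za30) (ka xa0 ya2 za31) (ka xa0 ya2 za32) (ka xa0 ya2 za33) (ka xa0 ya2 za34) (ka xa0 ya2 za35) (ka xa0 ya2 za8) (ka xa0 ya2 za9) (ka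 xa0 ya2 za10) (ka xa0 ya2 za11) (ka xa0 ya3 za11) (ka xa0 ya2 za13) (ka xa0 ya2 za14) (ka xa0 ya2 za15) (ka xa0 ya2 za16) (ka xa0 ya2 za17) (ka xa0 ya2 za18) (ka xa0 ya2 za19) (ka xa0 ya2 za20) (ka xa0 ya1 za44) (ka xa0 ya1 za45) (ka xa0 ya1 za46) (ka xa0 ya1 za47) (ka xa0 ya1 za48) (ka xa0 ya1 za49) (ka xa0 ya1 za50) (ka xa0 ya2 za0) (ka xa0 ya2 za1) (ka xa0 ya2 za2) (ka xa0 ya2 za3) (ka xa0 ya2 za4) (ka xa0 ya2 za5) (ka xa0 ya2 za6) (ka xa0 ya2 za7) (ka xa0 ya3 za27) (ka xa0 ya3 za28) (ka xa0 ya3 za29) (ka xa0 ya3 za30) (ka xa0 ya3 za31) (ka xa0 ya3 za32) (ka xa0 ya3 za33) (ka xa0 ya3 za34) (ka xa0 ya3 za35) (ka xa0 ya3 za36) (ka xa0 ya3 za37) (ka xa0 ya3 za38) (ka xa0 ya3 za39) (ka xa0 ya3 za40) (ka xa0 ya3 za41)) (@D3.rec (fun _ => Pt) (ka xa0 ya3 za42) (ka xa0 ya3 za43) (ka xa0 ya3 za44) (ka xa0 ya3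 za45) (ka xa0 ya3 za46) (ka xa0 ya4 za26) (ka xa0 ya3 za6) (ka xa0 ya3 za7) (ka xa0 ya3 za8) (ka xa0 ya4 za32) (ka xa0 ya3 za10) (ka xa0 ya2 za12) (ka xa0 ya3 za12) (ka xa0 ya3 za13) (ka xa0 ya3 za14) (ka xa0 ya3 za15) (ka xa0 ya3 za16) (ka xa0 ya3 za17) (ka xa0 ya3 za18) (ka xa0 ya3 za19) (ka xa0 ya3 za20) (ka xa0 ya3 za21) (ka xa0 ya3 za22) (ka xa0 ya3 za23) (ka xa0 ya3 za24) (ka xa0 ya3 za25) (ka xa0 ya3 za26) (ka xa0 ya2 za36) (ka xa0 ya2 za37) (ka xa0 ya2 za38) (ka xa0 ya2 za39) (ka xa0 ya2 za40) (ka xa0 ya2 za41) (ka xa0 ya2 za42) (ka xa0 ya2 za43) (ka xa0 ya2 za44) (ka xa0 ya2 za45) (ka xa0 ya2 za46) (ka xa0 ya2 za47) (ka xa0 ya2 za48) (ka xa0 ya2 za49) (ka xa0 ya2 za50) (ka xa0 ya3 za0) (ka xa0 ya3 za1) (ka xa0 ya3 za2) (ka xa0 ya3 za3) (ka xa0 ya3 za4) (ka xa0 ya5 za37) (ka xa0 ya5 za8) (ka xa0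 ya5 za9) (ka xa0 ya5 za10)) (@D3.rec (fun _ => Pt) (ka xa0 ya5 za11) (ka xa0 ya5 za12) (ka xa0 ya5 za13) (ka xa0 ya5 za14) (ka xa0 ya5 za15) (ka xa0 ya5 za16) (ka xa0 ya5 za17) (ka xa0 ya5 za18) (ka xa0 ya5 za19) (ka xa0 ya5 za20) (ka xa0 ya5 za21) (ka xa0 ya5 za22) (ka xa0 ya5 za23) (ka xa0 ya5 za24) (ka xa0 ya5 za25) (ka xa0 ya5 za26) (ka xa0 ya5 za27) (ka xa0 ya6 za17) (ka xa0 ya5 za29) (ka xa0 ya5 za30) (ka xa0 ya5 za31) (ka xa0 ya5 za32) (ka xa0 ya5 za33) (ka xa0 ya5 za34) (ka xa0 ya6 za27) (ka xa0 ya5 za36) (ka xa0 ya3 za5) (ka xa0 ya4 za27) (ka xa0 ya4 za28) (ka xa0 ya6 za33) (ka xa0 ya4 za30) (ka xa0 ya4 za31) (ka xa0 ya3 za9) (ka xa0 ya6 za37) (ka xa0 ya4 za34) (ka xa0 ya4 za35) (ka xa0 ya4 za36) (ka xa0 ya4 za37) (ka xa0 ya4 za38) (ka xa0 ya4 za39) (ka xa0 ya4 za40) (ka xa0 ya4 za41) (ka xa0 ya4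 za42) (ka xa0 ya4 za43) (ka xa0 ya4 za44) (ka xa0 ya4 za45) (ka xa0 ya4 za46) (ka xa0 ya4 za47) (ka xa0 ya4 za48) (ka xa0 ya4 za49) (ka xa0 ya4 za50)) (@D3.rec (fun _ => Pt) (ka xa0 ya5 za0) (ka xa0 ya5 za1) (ka xa0 ya5 za2) (ka xa0 ya5 za3) (ka xa0 ya5 za4) (ka xa0 ya5 za5) (ka xa0 ya5 za6) (ka xa0 ya5 za7) (ka xa0 ya3 za48) (ka xa0 ya3 za49) (ka xa0 ya3 za50) (ka xa0 ya4 za0) (ka xa0 ya4 za1) (ka xa0 ya4 za2) (ka xa0 ya4 za3) (ka xa0 ya4 za4) (ka xa0 ya4 za5) (ka xa0 ya4 za6) (ka xa0 ya4 za7) (ka xa0 ya4 za8) (ka xa0 ya4 za9) (ka xa0 ya4 za10) (ka xa0 ya4 za11) (ka xa0 ya4 za12) (ka xa0 ya4 za13) (ka xa0 ya4 za14) (ka xa0 ya4 za15) (ka xa0 ya4 za16) (ka xa0 ya8 za8) (ka xa0 ya4 za18) (ka xa0 ya4 za19) (ka xa0 ya4 za20) (ka xa0 ya4 za21) (ka xa0 ya4 za22) (ka xa0 ya4 za23) (ka xa0 ya8 za18) (ka xa0 ya4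 za25) (ka xa0 ya3 za47) (ka xa0 ya7 za29) (ka xa0 ya7 za30) (ka xa0 ya7 za31) (ka xa0 ya7 za32) (ka xa0 ya7 za33) (ka xa0 ya7 za34) (ka xa0 ya7 za35) (ka xa0 ya7 za36) (ka xa0 ya7 za37) (ka xa0 ya7 za38) (ka xa0 ya7 za39) (ka xa0 ya7 za40) (ka xa0 ya7 za41)) (@D3.rec (fun _ => Pt) (ka xa0 ya7 za42) (ka xa0 ya7 za43) (ka xa0 ya7 za44) (ka xa0 ya7 za45) (ka xa0 ya7 za46) (ka xa0 ya7 za47) (ka xa0 ya7 za48) (ka xa0 ya7 za49) (ka xa0 ya9 za2) (ka xa0 ya8 za0) (ka xa0 ya8 za1) (ka xa0 ya8 za2) (ka xa0 ya8 za3) (ka xa0 ya8 za4) (ka xa0 ya9 za12) (ka xa0 ya8 za6) (ka xa0 ya8 za7) (ka xa0 ya4 za17) (ka xa0 ya9 za17) (ka xa0 ya8 za10) (ka xa0 ya8 za11) (ka xa0 ya8 za12) (ka xa0 ya8 za13) (ka xa0 ya8 za14) (ka xa0 ya9 za24) (ka xa0 ya8 za16) (ka xa0 ya8 za17) (ka xa0 ya4 za24) (ka xa0 ya9 za28) (ka xa0 ya8 za20) (ka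 xa0 ya9 za31) (ka xa0 ya6 za31) (ka xa0 ya6 za32) (ka xa0 ya4 za29) (ka xa0 ya9 za36) (ka xa0 ya6 za35) (ka xa0 ya6 za36) (ka xa0 ya4 za33) (ka xa0 ya9 za41) (ka xa0 ya6 za39) (ka xa0 ya6 za40) (ka xa0 ya6 za41) (ka xa0 ya6 za42) (ka xa0 ya6 za43) (ka xa0 ya6 za44) (ka xa0 ya6 za45) (ka xa0 ya6 za46) (ka xa0 ya6 za47) (ka xa0 ya6 za48) (ka xa0 ya6 za49) (ka xa0 ya6 za50)) (@D3.rec (fun _ => Pt) (ka xa0 ya7 za0) (ka xa0 ya7 za1) (ka xa0 ya7 za2) (ka xa0 ya7 za3) (ka xa0 ya7 za4) (ka xa0 ya7 za5) (ka xa0 ya7 za6) (ka xa0 ya7 za7) (ka xa0 ya7 za8) (ka xa0 ya7 za9) (ka xa0 ya7 za10) (ka xa0 ya7 za11) (ka xa0 ya7 za12) (ka xa0 ya7 za13) (ka xa0 ya7 za14) (ka xa0 ya7 za15) (ka xa0 ya7 za16) (ka xa0 ya7 za17) (ka xa0 ya7 za18) (ka xa0 ya7 za19) (ka xa0 ya7 za20) (ka xa0 ya7 za21) (ka xa0 ya7 za22) (ka xa0 ya10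 za41) (ka xa0 ya7 za24) (ka xa0 ya7 za25) (ka xa0 ya7 za26) (ka xa0 ya7 za27) (ka xa0 ya7 za28) (ka xa0 ya5 za38) (ka xa0 ya5 za39) (ka xa0 ya5 za40) (ka xa0 ya5 za41) (ka xa0 ya5 za42) (ka xa0 ya5 za43) (ka xa0 ya5 za44) (ka xa0 ya5 za45) (ka xa0 ya5 za46) (ka xa0 ya5 za47) (ka xa0 ya5 za48) (ka xa0 ya5 za49) (ka xa0 ya5 za50) (ka xa0 ya6 za0) (ka xa0 ya6 za1) (ka xa0 ya6 za2) (ka xa0 ya6 za3) (ka xa0 ya6 za4) (ka xa0 ya6 za5) (ka xa0 ya6 za6) (ka xa0 ya6 za7) (ka xa0 ya11 za30)) (@D3.rec (fun _ => Pt) (ka xa0 ya6 za9) (ka xa0 ya6 za10) (ka xa0 ya6 za11) (ka xa0 ya6 za12) (ka xa0 ya6 za13) (ka xa0 ya11 za40) (ka xa0 ya6 za15) (ka xa0 ya6 za16) (ka xa0 ya5 za28) (ka xa0 ya11 za45) (ka xa0 ya6 za19) (ka xa0 ya6 za20) (ka xa0 ya6 za21) (ka xa0 ya6 za22) (ka xa0 ya6 za23) (ka xa0 ya12 za1) (ka xa0 ya6 za25)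 (ka xa0 ya6 za26) (ka xa0 ya5 za35) (ka xa0 ya12 za5) (ka xa0 ya6 za29) (ka xa0 ya10 za50) (ka xa0 ya11 za0) (ka xa0 ya11 za1) (ka xa0 ya11 za2) (ka xa0 ya11 za3) (ka xa0 ya11 za4) (ka xa0 ya11 za5) (ka xa0 ya11 za6) (ka xa0 ya11 za7) (ka xa0 ya11 za8) (ka xa0 ya11 za9) (ka xa0 ya11 za10) (ka xa0 ya11 za11) (ka xa0 ya8 za34) (ka xa0 ya11 za12) (ka xa0 ya11 za13) (ka xa0 ya11 za14) (ka xa0 ya11 za15) (ka xa0 ya11 za16) (ka xa0 ya11 za17) (ka xa0 ya11 za18) (ka xa0 ya11 za19) (ka xa0 ya11 za20) (ka xa0 ya11 za21) (ka xa0 ya11 za22) (ka xa0 ya11 za23) (ka xa0 ya12 za45) (ka xa0 ya11 za25) (ka xa0 ya11 za26) (ka xa0 ya12 za50)) (@D3.rec (fun _ => Pt) (ka xa0 ya11 za28) (ka xa0 ya11 za29) (ka xa0 ya6 za8) (ka xa0 ya13 za4) (ka xa0 ya11 za32) (ka xa0 ya11 za33) (ka xa0 ya11 za34) (ka xa0 ya11 za35) (ka xa0 ya11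 za36) (ka xa0 ya13 za13) (ka xa0 ya11 za38) (ka xa0 ya11 za39) (ka xa0 ya6 za14) (ka xa0 ya13 za18) (ka xa0 ya11 za42) (ka xa0 ya11 za43) (ka xa0 ya11 za44) (ka xa0 ya6 za18) (ka xa0 ya13 za25) (ka xa0 ya11 za47) (ka xa0 ya11 za48) (ka xa0 ya13 za28) (ka xa0 ya11 za50) (ka xa0 ya12 za0) (ka xa0 ya6 za24) (ka xa0 ya13 za33) (ka xa0 ya12 za3) (ka xa0 ya12 za4) (ka xa0 ya6 za28) (ka xa0 ya13 za38) (ka xa0 ya12 za7) (ka xa0 ya6 za30) (ka xa0 ya13 za39) (ka xa0 ya9 za33) (ka xa0 ya9 za34) (ka xa0 ya9 za35) (ka xa0 ya6 za34) (ka xa0 ya13 za45) (ka xa0 ya13 za46) (ka xa0 ya9 za39) (ka xa0 ya9 za40) (ka xa0 ya6 za38) (ka xa0 ya9 za42) (ka xa0 ya9 za43) (ka xa0 ya9 za44) (ka xa0 ya9 za45) (ka xa0 ya9 za46) (ka xa0 ya9 za47) (ka xa0 ya9 za48) (ka xa0 ya9 za49) (ka xa0 ya9 za50)) (@D3.rec (fun _ => Pt) (ka xa0 ya10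 za0) (ka xa0 ya10 za1) (ka xa0 ya10 za2) (ka xa0 ya10 za3) (ka xa0 ya10 za4) (ka xa0 ya10 za5) (ka xa0 ya10 za6) (ka xa0 ya10 za7) (ka xa0 ya10 za8) (ka xa0 ya10 za9) (ka xa0 ya10 za10) (ka xa0 ya10 za11) (ka xa0 ya10 za12) (ka xa0 ya10 za13) (ka xa0 ya10 za14) (ka xa0 ya10 za15) (ka xa0 ya10 za16) (ka xa0 ya10 za17) (ka xa0 ya10 za18) (ka xa0 ya10 za19) (ka xa0 ya10 za20) (ka xa0 ya10 za21) (ka xa0 ya10 za22) (ka xa0 ya10 za23) (ka xa0 ya10 za24) (ka xa0 ya10 za25) (ka xa0 ya10 za26) (ka xa0 ya10 za27) (ka xa0 ya10 za28) (ka xa0 ya10 za29) (ka xa0 ya10 za30) (ka xa0 ya10 za31) (ka xa0 ya15 za7) (ka xa0 ya10 za33) (ka xa0 ya10 za34) (ka xa0 ya10 za35) (ka xa0 ya10 za36) (ka xa0 ya10 za37) (ka xa0 ya15 za17) (ka xa0 ya10 za39) (ka xa0 ya10 za40) (ka xa0 ya7 za23) (ka xa0 ya15 za22) (ka xa0 ya10 za43) (ka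 xa0 ya10 za44) (ka xa0 ya10 za45) (ka xa0 ya10 za46) (ka xa0 ya10 za47) (ka xa0 ya10 za48) (ka xa0 ya10 za49) (ka xa0 ya8 za21)) (@D3.rec (fun _ => Pt) (ka xa0 ya8 za22) (ka xa0 ya8 za23) (ka xa0 ya8 za24) (ka xa0 ya8 za25) (ka xa0 ya8 za26) (ka xa0 ya8 za27) (ka xa0 ya8 za28) (ka xa0 ya8 za29) (ka xa0 ya8 za30) (ka xa0 ya8 za31) (ka xa0 ya8 za32) (ka xa0 ya8 za33) (ka xa0 ya8 za35) (ka xa0 ya8 za36) (ka xa0 ya8 za37) (ka xa0 ya8 za38) (ka xa0 ya8 za39) (ka xa0 ya8 za40) (ka xa0 ya8 za41) (ka xa0 ya8 za42) (ka xa0 ya8 za43) (ka xa0 ya8 za44) (ka xa0 ya8 za45) (ka xa0 ya8 za46) (ka xa0 ya16 za19) (ka xa0 ya8 za48) (ka xa0 ya8 za49) (ka xa0 ya16 za24) (ka xa0 ya9 za0) (ka xa0 ya9 za1) (ka xa0 ya7 za50) (ka xa0 ya16 za29) (ka xa0 ya9 za4) (ka xa0 ya9 za5) (ka xa0 ya9 za6) (ka xa0 ya9 za7) (ka xa0 ya9 za8) (ka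 xa0 ya16 za38) (ka xa0 ya9 za10) (ka xa0 ya9 za11) (ka xa0 ya8 za5) (ka xa0 ya16 za43) (ka xa0 ya9 za14) (ka xa0 ya9 za15) (ka xa0 ya9 za16) (ka xa0 ya8 za9) (ka xa0 ya16 za50) (ka xa0 ya9 za19) (ka xa0 ya9 za20) (ka xa0 ya17 za2) (ka xa0 ya9 za22)) (@D3.rec (fun _ => Pt) (ka xa0 ya9 za23) (ka xa0 ya8 za15) (ka xa0 ya17 za7) (ka xa0 ya9 za26) (ka xa0 ya9 za27) (ka xa0 ya8 za19) (ka xa0 ya17 za12) (ka xa0 ya9 za30) (ka xa0 ya15 za34) (ka xa0 ya15 za35) (ka xa0 ya15 za36) (ka xa0 ya15 za37) (ka xa0 ya15 za38) (ka xa0 ya15 za39) (ka xa0 ya15 za40) (ka xa0 ya15 za41) (ka xa0 ya15 za42) (ka xa0 ya15 za43) (ka xa0 ya15 za44) (ka xa0 ya15 za45) (ka xa0 ya15 za46) (ka xa0 ya15 za47) (ka xa0 ya12 za22) (ka xa0 ya15 za48) (ka xa0 ya15 za49) (ka xa0 ya15 za50) (ka xa0 ya16 za0) (ka xa0 ya16 za1) (ka xa0 ya16 za2) (ka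 xa0 ya16 za3) (ka xa0 ya16 za4) (ka xa0 ya17 za15) (ka xa0 ya16 za6) (ka xa0 ya16 za7) (ka xa0 ya16 za8) (ka xa0 ya16 za9) (ka xa0 ya16 za10) (ka xa0 ya16 za11) (ka xa0 ya16 za12) (ka xa0 ya18 za8) (ka xa0 ya16 za14) (ka xa0 ya16 za15) (ka xa0 ya18 za13) (ka xa0 ya16 za17) (ka xa0 ya16 za18) (ka xa0 ya8 za47) (ka xa0 ya18 za18) (ka xa0 ya16 za21) (ka xa0 ya16 za22) (ka xa0 ya16 za23) (ka xa0 ya8 za50)) (@D3.rec (fun _ => Pt) (ka xa0 ya18 za25) (ka xa0 ya16 za26) (ka xa0 ya16 za27) (ka xa0 ya16 za28) (ka xa0 ya9 za3) (ka xa0 ya18 za32) (ka xa0 ya18 za33) (ka xa0 ya16 za32) (ka xa0 ya16 za33) (ka xa0 ya16 za34) (ka xa0 ya18 za40) (ka xa0 ya16 za36) (ka xa0 ya16 za37) (ka xa0 ya9 za9) (ka xa0 ya18 za45) (ka xa0 ya16 za40) (ka xa0 ya16 za41) (ka xa0 ya16 za42) (ka xa0 ya9 za13) (ka xa0 ya19 za1) (ka xa0 ya19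 za2) (ka xa0 ya16 za46) (ka xa0 ya16 za47) (ka xa0 ya16 za48) (ka xa0 ya16 za49) (ka xa0 ya9 za18) (ka xa0 ya19 za8) (ka xa0 ya17 za1) (ka xa0 ya9 za21) (ka xa0 ya19 za10) (ka xa0 ya17 za4) (ka xa0 ya17 za5) (ka xa0 ya17 za6) (ka xa0 ya9 za25) (ka xa0 ya19 za16) (ka xa0 ya19 za17) (ka xa0 ya17 za10) (ka xa0 ya17 za11) (ka xa0 ya9 za29) (ka xa0 ya9 za32) (ka xa0 ya19 za21) (ka xa0 ya19 za22) (ka xa0 ya13 za42) (ka xa0 ya13 za43) (ka xa0 ya13 za44) (ka xa0 ya9 za37) (ka xa0 ya9 za38) (ka xa0 ya19 za28) (ka xa0 ya13 za48) (ka xa0 ya13 za49) (ka xa0 ya13 za50)) (@D3.rec (fun _ => Pt) (ka xa0 ya14 za0) (ka xa0 ya14 za1) (ka xa0 ya14 za2) (ka xa0 ya14 za3) (ka xa0 ya14 za4) (ka xa0 ya14 za5) (ka xa0 ya14 za6) (ka xa0 ya14 za7) (ka xa0 ya14 za8) (ka xa0 ya14 za9) (ka xa0 ya14 za10) (ka xa0 ya14 za11) (ka xa0 ya14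 za12) (ka xa0 ya14 za13) (ka xa0 ya14 za14) (ka xa0 ya14 za15) (ka xa0 ya14 za16) (ka xa0 ya14 za17) (ka xa0 ya14 za18) (ka xa0 ya14 za19) (ka xa0 ya14 za20) (ka xa0 ya14 za21) (ka xa0 ya14 za22) (ka xa0 ya14 za23) (ka xa0 ya14 za24) (ka xa0 ya14 za25) (ka xa0 ya20 za17) (ka xa0 ya14 za27) (ka xa0 ya14 za28) (ka xa0 ya14 za29) (ka xa0 ya14 za30) (ka xa0 ya14 za31) (ka xa0 ya14 za32) (ka xa0 ya14 za33) (ka xa0 ya14 za34) (ka xa0 ya14 za35) (ka xa0 ya14 za36) (ka xa0 ya14 za37) (ka xa0 ya14 za38) (ka xa0 ya14 za39) (ka xa0 ya14 za40) (ka xa0 ya14 za41) (ka xa0 ya14 za42) (ka xa0 ya14 za43) (ka xa0 ya14 za44) (ka xa0 ya14 za45) (ka xa0 ya14 za46) (ka xa0 ya14 za47) (ka xa0 ya14 za48) (ka xa0 ya14 za49) (ka xa0 ya14 za50)) (@D3.rec (fun _ => Pt) (ka xa0 ya15 za0) (ka xa0 ya21 za4) (ka xa0 ya15 za2) (ka xa0 ya15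 za3) (ka xa0 ya21 za9) (ka xa0 ya15 za5) (ka xa0 ya15 za6) (ka xa0 ya10 za32) (ka xa0 ya21 za14) (ka xa0 ya15 za9) (ka xa0 ya15 za10) (ka xa0 ya15 za11) (ka xa0 ya15 za12) (ka xa0 ya15 za13) (ka xa0 ya21 za24) (ka xa0 ya15 za15) (ka xa0 ya15 za16) (ka xa0 ya10 za38) (ka xa0 ya21 za29) (ka xa0 ya15 za19) (ka xa0 ya15 za20) (ka xa0 ya15 za21) (ka xa0 ya10 za42) (ka xa0 ya21 za36) (ka xa0 ya21 za37) (ka xa0 ya15 za25) (ka xa0 ya15 za26) (ka xa0 ya15 za27) (ka xa0 ya15 za28) (ka xa0 ya15 za29) (ka xa0 ya15 za30) (ka xa0 ya15 za31) (ka xa0 ya15 za32) (ka xa0 ya15 za33) (ka xa0 ya12 za8) (ka xa0 ya12 za9) (ka xa0 ya12 za10) (ka xa0 ya12 za11) (ka xa0 ya12 za12) (ka xa0 ya12 za13) (ka xa0 ya12 za14) (ka xa0 ya12 za15) (ka xa0 ya12 za16) (ka xa0 ya12 za17) (ka xa0 ya12 za18) (ka xa0 ya12 za19) (ka xa0 ya12 za20)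 (ka xa0 ya12 za21) (ka xa0 ya12 za23) (ka xa0 ya12 za24) (ka xa0 ya12 za25)) (@D3.rec (fun _ => Pt) (ka xa0 ya12 za26) (ka xa0 ya12 za27) (ka xa0 ya12 za28) (ka xa0 ya12 za29) (ka xa0 ya12 za30) (ka xa0 ya22 za30) (ka xa0 ya12 za32) (ka xa0 ya12 za33) (ka xa0 ya12 za34) (ka xa0 ya12 za35) (ka xa0 ya12 za36) (ka xa0 ya12 za37) (ka xa0 ya12 za38) (ka xa0 ya22 za43) (ka xa0 ya12 za40) (ka xa0 ya12 za41) (ka xa0 ya22 za48) (ka xa0 ya12 za43) (ka xa0 ya12 za44) (ka xa0 ya11 za24) (ka xa0 ya23 za2) (ka xa0 ya12 za47) (ka xa0 ya12 za48) (ka xa0 ya12 za49) (ka xa0 ya11 za27) (ka xa0 ya23 za9) (ka xa0 ya13 za1) (ka xa0 ya13 za2) (ka xa0 ya13 za3) (ka xa0 ya11 za31) (ka xa0 ya23 za16) (ka xa0 ya23 za17) (ka xa0 ya13 za7) (ka xa0 ya13 za8) (ka xa0 ya13 za9) (ka xa0 ya23 za24) (ka xa0 ya13 za11) (ka xa0 ya13 za12) (ka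 xa0 ya11 za37) (ka xa0 ya23 za29) (ka xa0 ya13 za15) (ka xa0 ya13 za16) (ka xa0 ya13 za17) (ka xa0 ya11 za41) (ka xa0 ya23 za36) (ka xa0 ya23 za37) (ka xa0 ya13 za21) (ka xa0 ya13 za22) (ka xa0 ya13 za23) (ka xa0 ya13 za24) (ka xa0 ya11 za46)) (@D3.rec (fun _ => Pt) (ka xa0 ya23 za46) (ka xa0 ya13 za27) (ka xa0 ya11 za49) (ka xa0 ya23 za48) (ka xa0 ya13 za30) (ka xa0 ya13 za31) (ka xa0 ya13 za32) (ka xa0 ya12 za2) (ka xa0 ya24 za3) (ka xa0 ya24 za4) (ka xa0 ya13 za36) (ka xa0 ya13 za37) (ka xa0 ya12 za6) (ka xa0 ya24 za11) (ka xa0 ya22 za27) (ka xa0 ya12 za31) (ka xa0 ya22 za0) (ka xa0 ya22 za1) (ka xa0 ya22 za2) (ka xa0 ya22 za3) (ka xa0 ya22 za4) (ka xa0 ya22 za5) (ka xa0 ya22 za6) (ka xa0 ya22 za7) (ka xa0 ya17 za24) (ka xa0 ya22 za8) (ka xa0 ya22 za9) (ka xa0 ya22 za10) (ka xa0 ya22 za11) (ka xa0 ya22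 za12) (ka xa0 ya22 za13) (ka xa0 ya22 za14) (ka xa0 ya17 za32) (ka xa0 ya22 za15) (ka xa0 ya22 za16) (ka xa0 ya22 za17) (ka xa0 ya22 za18) (ka xa0 ya22 za19) (ka xa0 ya22 za20) (ka xa0 ya22 za21) (ka xa0 ya22 za22) (ka xa0 ya24 za10) (ka xa0 ya22 za24) (ka xa0 ya22 za25) (ka xa0 ya22 za26) (ka xa0 ya22 za28) (ka xa0 ya22 za29) (ka xa0 ya23 za44) (ka xa0 ya22 za32) (ka xa0 ya22 za33) (ka xa0 ya22 za34)) (@D3.rec (fun _ => Pt) (ka xa0 ya22 za35) (ka xa0 ya22 za36) (ka xa0 ya25 za11) (ka xa0 ya22 za38) (ka xa0 ya22 za39) (ka xa0 ya25 za16) (ka xa0 ya22 za41) (ka xa0 ya22 za42) (ka xa0 ya12 za39) (ka xa0 ya25 za21) (ka xa0 ya22 za45) (ka xa0 ya22 za46) (ka xa0 ya22 za47) (ka xa0 ya12 za42) (ka xa0 ya25 za28) (ka xa0 ya22 za50) (ka xa0 ya23 za0) (ka xa0 ya23 za1) (ka xa0 ya12 za46) (ka xa0 ya25 za35) (ka xa0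 ya25 za36) (ka xa0 ya23 za5) (ka xa0 ya23 za6) (ka xa0 ya23 za7) (ka xa0 ya23 za8) (ka xa0 ya13 za0) (ka xa0 ya25 za43) (ka xa0 ya25 za44) (ka xa0 ya23 za12) (ka xa0 ya23 za13) (ka xa0 ya23 za14) (ka xa0 ya23 za15) (ka xa0 ya13 za5) (ka xa0 ya13 za6) (ka xa0 ya26 za2) (ka xa0 ya26 za3) (ka xa0 ya26 za4) (ka xa0 ya23 za21) (ka xa0 ya23 za22) (ka xa0 ya23 za23) (ka xa0 ya13 za10) (ka xa0 ya26 za11) (ka xa0 ya23 za26) (ka xa0 ya23 za27) (ka xa0 ya23 za28) (ka xa0 ya13 za14) (ka xa0 ya26 za18) (ka xa0 ya26 za19) (ka xa0 ya23 za32) (ka xa0 ya23 za33) (ka xa0 ya23 za34)) (@D3.rec (fun _ => Pt) (ka xa0 ya23 za35) (ka xa0 ya13 za19) (ka xa0 ya13 za20) (ka xa0 ya26 za26) (ka xa0 ya26 za27) (ka xa0 ya23 za42) (ka xa0 ya23 za43) (ka xa0 ya23 za45) (ka xa0 ya13 za26) (ka xa0 ya26 za32) (ka xa0 ya13 za29) (ka xa0 ya26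 za33) (ka xa0 ya26 za34) (ka xa0 ya24 za0) (ka xa0 ya24 za1) (ka xa0 ya24 za2) (ka xa0 ya13 za34) (ka xa0 ya13 za35) (ka xa0 ya26 za40) (ka xa0 ya24 za8) (ka xa0 ya24 za9) (ka xa0 ya13 za40) (ka xa0 ya13 za41) (ka xa0 ya26 za43) (ka xa0 ya26 za44) (ka xa0 ya19 za25) (ka xa0 ya19 za26) (ka xa0 ya19 za27) (ka xa0 ya13 za47) (ka xa0 ya26 za50) (ka xa0 ya19 za30) (ka xa0 ya19 za31) (ka xa0 ya19 za32) (ka xa0 ya19 za33) (ka xa0 ya19 za34) (ka xa0 ya19 za35) (ka xa0 ya19 za36) (ka xa0 ya19 za37) (ka xa0 ya19 za38) (ka xa0 ya19 za39) (ka xa0 ya19 za40) (ka xa0 ya19 za41) (ka xa0 ya19 za42) (ka xa0 ya19 za43) (ka xa0 ya19 za44) (ka xa0 ya19 za45) (ka xa0 ya19 za46) (ka xa0 ya19 za47) (ka xa0 ya19 za48) (ka xa0 ya19 za49) (ka xa0 ya19 za50)) (@D3.rec (fun _ => Pt) (ka xa0 ya20 za0) (ka xa0 ya20 za1) (ka xa0 ya20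 za2) (ka xa0 ya20 za3) (ka xa0 ya20 za4) (ka xa0 ya20 za5) (ka xa0 ya20 za6) (ka xa0 ya20 za7) (ka xa1 ya0 za41) (ka xa0 ya20 za9) (ka xa0 ya20 za10) (ka xa0 ya20 za11) (ka xa0 ya20 za12) (ka xa0 ya20 za13) (ka xa1 ya1 za0) (ka xa0 ya20 za15) (ka xa0 ya20 za16) (ka xa0 ya14 za26) (ka xa1 ya1 za5) (ka xa0 ya20 za19) (ka xa0 ya20 za20) (ka xa0 ya20 za21) (ka xa0 ya20 za22) (ka xa0 ya20 za23) (ka xa0 ya20 za24) (ka xa0 ya20 za25) (ka xa0 ya20 za26) (ka xa0 ya20 za27) (ka xa0 ya20 za28) (ka xa0 ya20 za29) (ka xa0 ya20 za30) (ka xa0 ya20 za31) (ka xa0 ya20 za32) (ka xa0 ya20 za33) (ka xa0 ya20 za34) (ka xa0 ya20 za35) (ka xa0 ya20 za36) (ka xa0 ya20 za37) (ka xa0 ya20 za38) (ka xa0 ya20 za39) (ka xa0 ya20 za40) (ka xa1 ya1 za39) (ka xa0 ya20 za42) (ka xa0 ya20 za43) (ka xa0 ya20 za44) (ka xa0 ya20 za45) (ka xa0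 ya20 za46) (ka xa0 ya20 za47) (ka xa0 ya20 za48) (ka xa1 ya2 za1) (ka xa0 ya20 za50)) (@D3.rec (fun _ => Pt) (ka xa0 ya21 za0) (ka xa1 ya2 za6) (ka xa0 ya21 za2) (ka xa0 ya21 za3) (ka xa0 ya15 za1) (ka xa1 ya2 za11) (ka xa0 ya21 za6) (ka xa0 ya21 za7) (ka xa0 ya21 za8) (ka xa0 ya15 za4) (ka xa1 ya2 za18) (ka xa0 ya21 za11) (ka xa0 ya21 za12) (ka xa0 ya21 za13) (ka xa0 ya15 za8) (ka xa1 ya2 za25) (ka xa1 ya2 za26) (ka xa0 ya21 za17) (ka xa0 ya21 za18) (ka xa0 ya21 za19) (ka xa0 ya21 za20) (ka xa1 ya2 za36) (ka xa0 ya21 za22) (ka xa0 ya21 za23) (ka xa0 ya15 za14) (ka xa1 ya2 za41) (ka xa0 ya21 za26) (ka xa0 ya21 za27) (ka xa0 ya21 za28) (ka xa0 ya15 za18) (ka xa1 ya2 za48) (ka xa1 ya2 za49) (ka xa0 ya21 za32) (ka xa0 ya21 za33) (ka xa0 ya21 za34) (ka xa0 ya21 za35) (ka xa0 ya15 za23) (ka xa0 ya15 za24) (ka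 xa1 ya3 za8) (ka xa1 ya3 za9) (ka xa1 ya3 za10) (ka xa0 ya21 za41) (ka xa0 ya21 za42) (ka xa0 ya21 za43) (ka xa0 ya21 za44) (ka xa0 ya21 za45) (ka xa0 ya21 za46) (ka xa0 ya21 za47) (ka xa0 ya21 za48) (ka xa0 ya21 za49) (ka xa0 ya21 za50)) (@D3.rec (fun _ => Pt) (ka xa0 ya17 za16) (ka xa0 ya17 za17) (ka xa0 ya17 za18) (ka xa0 ya17 za19) (ka xa0 ya17 za20) (ka xa0 ya17 za21) (ka xa0 ya17 za22) (ka xa0 ya17 za23) (ka xa0 ya17 za25) (ka xa0 ya17 za26) (ka xa0 ya17 za27) (ka xa0 ya17 za28) (ka xa0 ya17 za29) (ka xa0 ya17 za30) (ka xa0 ya17 za31) (ka xa0 ya17 za33) (ka xa0 ya17 za34) (ka xa0 ya17 za35) (ka xa0 ya17 za36) (ka xa0 ya17 za37) (ka xa0 ya17 za38) (ka xa0 ya17 za39) (ka xa0 ya17 za40) (ka xa1 ya4 za8) (ka xa0 ya17 za42) (ka xa0 ya17 za43) (ka xa0 ya17 za44) (ka xa0 ya17 za14) (ka xa0 ya17 za45) (ka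 xa0 ya17 za46) (ka xa0 ya16 za5) (ka xa1 ya4 za18) (ka xa0 ya17 za48) (ka xa0 ya17 za49) (ka xa0 ya17 za50) (ka xa0 ya18 za0) (ka xa0 ya18 za1) (ka xa1 ya4 za28) (ka xa0 ya18 za3) (ka xa0 ya18 za4) (ka xa1 ya4 za33) (ka xa0 ya18 za6) (ka xa0 ya18 za7) (ka xa0 ya16 za13) (ka xa1 ya4 za38) (ka xa0 ya18 za10) (ka xa0 ya18 za11) (ka xa0 ya18 za12) (ka xa0 ya16 za16) (ka xa1 ya4 za45) (ka xa0 ya18 za15)) (@D3.rec (fun _ => Pt) (ka xa0 ya18 za16) (ka xa0 ya18 za17) (ka xa0 ya16 za20) (ka xa1 ya5 za1) (ka xa1 ya5 za2) (ka xa0 ya18 za21) (ka xa0 ya18 za22) (ka xa0 ya18 za23) (ka xa0 ya18 za24) (ka xa0 ya16 za25) (ka xa1 ya5 za12) (ka xa1 ya5 za13) (ka xa0 ya18 za28) (ka xa0 ya18 za29) (ka xa0 ya18 za30) (ka xa0 ya18 za31) (ka xa0 ya16 za30) (ka xa0 ya16 za31) (ka xa1 ya5 za22) (ka xa1 ya5 za23) (ka xa1 ya5 za24)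 (ka xa0 ya18 za37) (ka xa0 ya18 za38) (ka xa0 ya18 za39) (ka xa0 ya16 za35) (ka xa1 ya5 za31) (ka xa0 ya18 za42) (ka xa0 ya18 za43) (ka xa0 ya18 za44) (ka xa0 ya16 za39) (ka xa1 ya5 za38) (ka xa1 ya5 za39) (ka xa0 ya18 za48) (ka xa0 ya18 za49) (ka xa0 ya18 za50) (ka xa0 ya19 za0) (ka xa0 ya16 za44) (ka xa0 ya16 za45) (ka xa1 ya5 za49) (ka xa1 ya5 za50) (ka xa1 ya4 za14) (ka xa1 ya6 za0) (ka xa0 ya19 za5) (ka xa0 ya19 za6) (ka xa0 ya17 za47) (ka xa0 ya19 za7) (ka xa0 ya17 za0) (ka xa1 ya6 za9) (ka xa0 ya17 za3) (ka xa1 ya6 za10) (ka xa1 ya6 za11)) (@D3.rec (fun _ => Pt) (ka xa0 ya19 za13) (ka xa0 ya19 za14) (ka xa0 ya19 za15) (ka xa0 ya17 za8) (ka xa0 ya17 za9) (ka xa1 ya6 za20) (ka xa1 ya6 za21) (ka xa1 ya4 za5) (ka xa0 ya19 za19) (ka xa0 ya19 za20) (ka xa0 ya17 za41) (ka xa0 ya17 za13) (ka xa1 ya1 za36)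 (ka xa1 ya3 za28) (ka xa1 ya3 za29) (ka xa1 ya3 za30) (ka xa1 ya3 za31) (ka xa1 ya3 za32) (ka xa0 ya24 za18) (ka xa1 ya3 za33) (ka xa1 ya3 za34) (ka xa1 ya3 za35) (ka xa1 ya3 za36) (ka xa1 ya3 za37) (ka xa1 ya3 za38) (ka xa1 ya3 za39) (ka xa0 ya24 za26) (ka xa1 ya3 za40) (ka xa1 ya3 za41) (ka xa1 ya3 za42) (ka xa1 ya3 za43) (ka xa1 ya3 za44) (ka xa1 ya3 za45) (ka xa1 ya6 za27) (ka xa1 ya3 za47) (ka xa1 ya3 za48) (ka xa1 ya3 za49) (ka xa1 ya3 za50) (ka xa1 ya4 za0) (ka xa1 ya6 za19) (ka xa1 ya4 za2) (ka xa1 ya4 za3) (ka xa1 ya4 za4) (ka xa1 ya4 za6) (ka xa1 ya4 za7) (ka xa1 ya5 za47) (ka xa1 ya4 za10) (ka xa1 ya4 za11) (ka xa1 ya4 za12) (ka xa1 ya4 za13) (ka xa1 ya4 za15)) (@D3.rec (fun _ => Pt) (ka xa1 ya4 za16) (ka xa1 ya4 za17) (ka xa1 ya5 za10) (ka xa1 ya6 za8) (ka xa1 ya4 za21) (ka xa1 ya4 za22) (ka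 xa1 ya4 za23) (ka xa1 ya4 za24) (ka xa1 ya7 za37) (ka xa1 ya4 za26) (ka xa1 ya4 za27) (ka xa0 ya18 za2) (ka xa1 ya7 za42) (ka xa1 ya4 za30) (ka xa1 ya4 za31) (ka xa1 ya4 za32) (ka xa0 ya18 za5) (ka xa1 ya7 za49) (ka xa1 ya4 za35) (ka xa1 ya4 za36) (ka xa1 ya4 za37) (ka xa0 ya18 za9) (ka xa1 ya8 za5) (ka xa1 ya8 za6) (ka xa1 ya4 za41) (ka xa1 ya4 za42) (ka xa1 ya4 za43) (ka xa1 ya4 za44) (ka xa0 ya18 za14) (ka xa1 ya8 za13) (ka xa1 ya8 za14) (ka xa1 ya4 za48) (ka xa1 ya4 za49) (ka xa1 ya4 za50) (ka xa1 ya5 za0) (ka xa0 ya18 za19) (ka xa0 ya18 za20) (ka xa1 ya8 za21) (ka xa1 ya8 za22) (ka xa1 ya5 za7) (ka xa1 ya5 za8) (ka xa1 ya5 za9) (ka xa1 ya5 za11) (ka xa0 ya18 za26) (ka xa0 ya18 za27) (ka xa1 ya8 za30) (ka xa1 ya8 za31) (ka xa1 ya8 za32) (ka xa1 ya8 za33) (ka xa1 ya5 za18) (ka xa1 ya5 za19)) (@D3.rec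 (fun _ => Pt) (ka xa1 ya5 za20) (ka xa1 ya5 za21) (ka xa0 ya18 za34) (ka xa0 ya18 za35) (ka xa0 ya18 za36) (ka xa1 ya8 za45) (ka xa1 ya8 za46) (ka xa1 ya8 za47) (ka xa1 ya8 za48) (ka xa1 ya5 za29) (ka xa1 ya5 za30) (ka xa0 ya18 za41) (ka xa1 ya9 za4) (ka xa1 ya9 za5) (ka xa1 ya5 za34) (ka xa1 ya5 za35) (ka xa1 ya5 za36) (ka xa1 ya5 za37) (ka xa0 ya18 za46) (ka xa0 ya18 za47) (ka xa1 ya9 za12) (ka xa1 ya9 za13) (ka xa1 ya5 za44) (ka xa1 ya5 za45) (ka xa1 ya5 za46) (ka xa1 ya5 za48) (ka xa0 ya19 za3) (ka xa0 ya19 za4) (ka xa1 ya9 za21) (ka xa1 ya9 za22) (ka xa1 ya6 za6) (ka xa1 ya6 za7) (ka xa0 ya19 za9) (ka xa0 ya19 za11) (ka xa0 ya19 za12) (ka xa1 ya9 za25) (ka xa1 ya9 za26) (ka xa1 ya6 za16) (ka xa1 ya6 za17) (ka xa1 ya6 za18) (ka xa0 ya19 za18) (ka xa1 ya9 za32) (ka xa1 ya6 za26) (ka xa0 ya19 za23) (ka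 xa0 ya19 za24) (ka xa1 ya9 za34) (ka xa1 ya9 za35) (ka xa0 ya26 za47) (ka xa0 ya26 za48) (ka xa0 ya26 za49) (ka xa0 ya19 za29))
def f_a_1 : D2 → D3 → Pt := @D2.rec (fun _ => D3 → Pt) (@D3.rec (fun _ => Pt) (ka xa1 ya0 za0) (ka xa1 ya0 za1) (ka xa1 ya0 za2) (ka xa1 ya0 za3) (ka xa1 ya0 za4) (ka xa1 ya0 za5) (ka xa1 ya0 za6) (ka xa1 ya0 za7) (ka xa1 ya0 za8) (ka xa1 ya0 za9) (ka xa1 ya0 za10) (ka xa1 ya0 za11) (ka xa1 ya0 za12) (ka xa1 ya0 za13) (ka xa1 ya0 za14) (ka xa1 ya0 za15) (ka xa1 ya0 za16) (ka xa1 ya0 za17) (ka xa1 ya0 za18) (ka xa1 ya0 za19) (ka xa1 ya0 za20) (ka xa1 ya0 za21) (ka xa1 ya0 za22) (ka xa1 ya10 za20) (ka xa1 ya0 za24) (ka xa1 ya0 za25) (ka xa1 ya0 za26) (ka xa1 ya0 za27) (ka xa1 ya0 za28) (ka xa1 ya0 za29) (ka xa1 ya0 za30) (ka xa1 ya0 za31) (ka xa1 ya0 za32) (ka xa1 ya10 za36) (ka xa1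 ya0 za34) (ka xa1 ya0 za35) (ka xa1 ya0 za36) (ka xa1 ya0 za37) (ka xa1 ya10 za44) (ka xa1 ya0 za39) (ka xa1 ya0 za40) (ka xa0 ya20 za8) (ka xa1 ya10 za49) (ka xa1 ya0 za43) (ka xa1 ya0 za44) (ka xa1 ya0 za45) (ka xa1 ya0 za46) (ka xa1 ya0 za47) (ka xa1 ya11 za8) (ka xa1 ya0 za49) (ka xa1 ya0 za50)) (@D3.rec (fun _ => Pt) (ka xa0 ya20 za14) (ka xa1 ya11 za13) (ka xa1 ya1 za2) (ka xa1 ya1 za3) (ka xa1 ya1 za4) (ka xa0 ya20 za18) (ka xa1 ya11 za20) (ka xa1 ya11 za21) (ka xa1 ya1 za8) (ka xa1 ya1 za9) (ka xa1 ya1 za10) (ka xa1 ya1 za11) (ka xa1 ya1 za12) (ka xa1 ya1 za13) (ka xa1 ya1 za14) (ka xa1 ya1 za15) (ka xa1 ya1 za16) (ka xa1 ya1 za17) (ka xa1 ya1 za18) (ka xa1 ya1 za19) (ka xa1 ya1 za20) (ka xa1 ya1 za21) (ka xa1 ya1 za22) (ka xa1 ya1 za23) (ka xa1 ya1 za24) (ka xa1 ya1 za25) (ka xa1 ya1 za26) (ka xa1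 ya1 za27) (ka xa1 ya1 za28) (ka xa1 ya1 za29) (ka xa1 ya1 za30) (ka xa1 ya12 za7) (ka xa1 ya1 za32) (ka xa1 ya1 za33) (ka xa1 ya1 za34) (ka xa1 ya1 za35) (ka xa0 ya24 za12) (ka xa1 ya1 za37) (ka xa1 ya1 za38) (ka xa0 ya20 za41) (ka xa1 ya12 za18) (ka xa1 ya1 za41) (ka xa1 ya1 za42) (ka xa1 ya1 za43) (ka xa1 ya1 za44) (ka xa1 ya1 za45) (ka xa1 ya12 za28) (ka xa1 ya1 za47) (ka xa1 ya1 za48) (ka xa1 ya12 za33) (ka xa1 ya1 za50)) (@D3.rec (fun _ => Pt) (ka xa1 ya2 za0) (ka xa0 ya20 za49) (ka xa1 ya12 za38) (ka xa1 ya2 za3) (ka xa1 ya2 za4) (ka xa1 ya2 za5) (ka xa0 ya21 za1) (ka xa1 ya12 za45) (ka xa1 ya2 za8) (ka xa1 ya2 za9) (ka xa1 ya2 za10) (ka xa0 ya21 za5) (ka xa1 ya13 za1) (ka xa1 ya13 za2) (ka xa1 ya2 za14) (ka xa1 ya2 za15) (ka xa1 ya2 za16) (ka xa1 ya2 za17) (ka xa0 ya21 za10) (ka xa1 ya13 za12) (ka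 xa1 ya13 za13) (ka xa1 ya2 za21) (ka xa1 ya2 za22) (ka xa1 ya2 za23) (ka xa1 ya2 za24) (ka xa0 ya21 za15) (ka xa0 ya21 za16) (ka xa1 ya13 za23) (ka xa1 ya13 za24) (ka xa1 ya13 za25) (ka xa1 ya13 za26) (ka xa1 ya2 za31) (ka xa1 ya2 za32) (ka xa1 ya2 za33) (ka xa1 ya2 za34) (ka xa1 ya2 za35) (ka xa0 ya21 za21) (ka xa1 ya13 za39) (ka xa1 ya2 za38) (ka xa1 ya2 za39) (ka xa1 ya2 za40) (ka xa0 ya21 za25) (ka xa1 ya13 za46) (ka xa1 ya13 za47) (ka xa1 ya2 za44) (ka xa1 ya2 za45) (ka xa1 ya2 za46) (ka xa1 ya2 za47) (ka xa0 ya21 za30) (ka xa0 ya21 za31) (ka xa1 ya14 za6)) (@D3.rec (fun _ => Pt) (ka xa1 ya14 za7) (ka xa1 ya14 za8) (ka xa1 ya14 za9) (ka xa1 ya3 za3) (ka xa1 ya3 za4) (ka xa1 ya3 za5) (ka xa1 ya3 za6) (ka xa1 ya3 za7) (ka xa0 ya21 za38) (ka xa0 ya21 za39) (ka xa0 ya21 za40) (ka xa1 ya14 za22) (ka xa1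 ya14 za23) (ka xa1 ya14 za24) (ka xa1 ya14 za25) (ka xa1 ya14 za26) (ka xa1 ya3 za16) (ka xa1 ya3 za17) (ka xa1 ya3 za18) (ka xa1 ya3 za19) (ka xa1 ya3 za20) (ka xa1 ya3 za21) (ka xa1 ya3 za22) (ka xa1 ya3 za23) (ka xa1 ya3 za24) (ka xa1 ya3 za25) (ka xa1 ya3 za26) (ka xa1 ya3 za27) (ka xa0 ya24 za13) (ka xa0 ya24 za14) (ka xa0 ya24 za15) (ka xa0 ya24 za16) (ka xa0 ya24 za17) (ka xa0 ya24 za19) (ka xa0 ya24 za20) (ka xa0 ya24 za21) (ka xa0 ya24 za22) (ka xa0 ya24 za23) (ka xa0 ya24 za24) (ka xa0 ya24 za25) (ka xa0 ya24 za27) (ka xa0 ya24 za28) (ka xa0 ya24 za29) (ka xa0 ya24 za30) (ka xa0 ya24 za31) (ka xa0 ya24 za32) (ka xa1 ya15 za20) (ka xa0 ya24 za34) (ka xa0 ya24 za35) (ka xa0 ya24 za36) (ka xa0 ya24 za37)) (@D3.rec (fun _ => Pt) (ka xa0 ya24 za38) (ka xa1 ya15 za29) (ka xa0 ya24 za40) (ka xa0 ya24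 za41) (ka xa0 ya24 za42) (ka xa0 ya24 za7) (ka xa0 ya24 za43) (ka xa0 ya24 za44) (ka xa0 ya22 za23) (ka xa1 ya15 za39) (ka xa0 ya24 za46) (ka xa0 ya24 za47) (ka xa0 ya24 za48) (ka xa0 ya24 za49) (ka xa0 ya23 za40) (ka xa0 ya24 za50) (ka xa0 ya25 za0) (ka xa0 ya25 za1) (ka xa0 ya22 za31) (ka xa1 ya16 za1) (ka xa1 ya16 za2) (ka xa0 ya25 za4) (ka xa0 ya25 za5) (ka xa0 ya25 za6) (ka xa0 ya25 za7) (ka xa1 ya16 za12) (ka xa0 ya25 za9) (ka xa0 ya25 za10) (ka xa0 ya22 za37) (ka xa1 ya16 za17) (ka xa0 ya25 za13) (ka xa0 ya25 za14) (ka xa0 ya25 za15) (ka xa0 ya22 za40) (ka xa1 ya16 za24) (ka xa0 ya25 za18) (ka xa0 ya25 za19) (ka xa0 ya25 za20) (ka xa0 ya22 za44) (ka xa1 ya16 za31) (ka xa1 ya16 za32) (ka xa0 ya25 za24) (ka xa0 ya25 za25) (ka xa0 ya25 za26) (ka xa0 ya25 za27) (ka xa0 ya22 za49) (ka xa1 ya16 za42) (ka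 xa1 ya16 za43) (ka xa0 ya25 za31) (ka xa0 ya25 za32) (ka xa0 ya25 za33)) (@D3.rec (fun _ => Pt) (ka xa0 ya25 za34) (ka xa0 ya23 za3) (ka xa0 ya23 za4) (ka xa1 ya17 za2) (ka xa1 ya17 za3) (ka xa1 ya15 za47) (ka xa1 ya17 za4) (ka xa0 ya25 za39) (ka xa0 ya25 za40) (ka xa0 ya25 za41) (ka xa0 ya25 za2) (ka xa0 ya25 za42) (ka xa0 ya23 za10) (ka xa0 ya23 za11) (ka xa1 ya17 za16) (ka xa1 ya17 za17) (ka xa1 ya17 za18) (ka xa1 ya17 za19) (ka xa0 ya25 za49) (ka xa0 ya25 za50) (ka xa0 ya26 za0) (ka xa0 ya26 za1) (ka xa0 ya23 za18) (ka xa0 ya23 za19) (ka xa0 ya23 za20) (ka xa1 ya17 za31) (ka xa1 ya17 za32) (ka xa1 ya17 za33) (ka xa1 ya17 za34) (ka xa0 ya26 za9) (ka xa0 ya26 za10) (ka xa0 ya23 za25) (ka xa1 ya17 za41) (ka xa1 ya17 za42) (ka xa0 ya26 za14) (ka xa0 ya26 za15) (ka xa0 ya26 za16) (ka xa0 ya26 za17) (ka xa0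 ya23 za30) (ka xa0 ya23 za31) (ka xa1 ya18 za1) (ka xa1 ya18 za2) (ka xa1 ya15 za35) (ka xa1 ya18 za3) (ka xa0 ya26 za22) (ka xa0 ya26 za23) (ka xa0 ya26 za24) (ka xa0 ya24 za45) (ka xa0 ya26 za25) (ka xa0 ya23 za38) (ka xa0 ya23 za39)) (@D3.rec (fun _ => Pt) (ka xa0 ya23 za41) (ka xa1 ya18 za15) (ka xa1 ya12 za14) (ka xa1 ya18 za16) (ka xa1 ya15 za48) (ka xa1 ya18 za17) (ka xa0 ya26 za30) (ka xa0 ya26 za31) (ka xa0 ya25 za3) (ka xa0 ya23 za47) (ka xa0 ya23 za49) (ka xa0 ya23 za50) (ka xa1 ya18 za25) (ka xa1 ya18 za26) (ka xa1 ya15 za26) (ka xa1 ya18 za27) (ka xa0 ya26 za37) (ka xa0 ya26 za38) (ka xa0 ya26 za39) (ka xa0 ya24 za39) (ka xa0 ya24 za5) (ka xa0 ya24 za6) (ka xa1 ya18 za37) (ka xa1 ya12 za4) (ka xa1 ya18 za38) (ka xa1 ya15 za17) (ka xa0 ya26 za42) (ka xa0 ya24 za33) (ka xa1 ya10 za17) (ka xa1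 ya6 za29) (ka xa1 ya14 za47) (ka xa1 ya14 za48) (ka xa1 ya14 za49) (ka xa1 ya14 za50) (ka xa1 ya15 za0) (ka xa1 ya15 za1) (ka xa1 ya15 za2) (ka xa1 ya15 za3) (ka xa1 ya6 za38) (ka xa1 ya15 za4) (ka xa1 ya15 za5) (ka xa1 ya15 za6) (ka xa1 ya15 za7) (ka xa1 ya15 za8) (ka xa1 ya15 za9) (ka xa1 ya18 za36) (ka xa1 ya15 za11) (ka xa1 ya15 za12) (ka xa1 ya6 za48) (ka xa1 ya15 za13) (ka xa1 ya15 za14)) (@D3.rec (fun _ => Pt) (ka xa1 ya15 za15) (ka xa1 ya15 za16) (ka xa1 ya15 za18) (ka xa1 ya15 za19) (ka xa1 ya18 za44) (ka xa1 ya15 za22) (ka xa1 ya15 za23) (ka xa1 ya15 za24) (ka xa1 ya15 za25) (ka xa1 ya15 za27) (ka xa1 ya15 za28) (ka xa1 ya17 za50) (ka xa1 ya15 za31) (ka xa1 ya15 za32) (ka xa1 ya15 za33) (ka xa1 ya15 za34) (ka xa1 ya15 za36) (ka xa1 ya15 za37) (ka xa1 ya15 za38) (ka xa1 ya16 za40) (ka xa1 ya18 za14)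 (ka xa1 ya15 za42) (ka xa1 ya15 za43) (ka xa1 ya15 za44) (ka xa1 ya15 za45) (ka xa1 ya15 za46) (ka xa1 ya15 za49) (ka xa1 ya15 za50) (ka xa1 ya16 za0) (ka xa1 ya16 za10) (ka xa1 ya17 za15) (ka xa1 ya17 za0) (ka xa1 ya18 za24) (ka xa1 ya16 za7) (ka xa1 ya16 za8) (ka xa1 ya16 za9) (ka xa1 ya16 za11) (ka xa0 ya25 za8) (ka xa1 ya20 za15) (ka xa1 ya16 za14) (ka xa1 ya16 za15) (ka xa1 ya16 za16) (ka xa0 ya25 za12) (ka xa1 ya20 za22) (ka xa1 ya20 za23) (ka xa1 ya16 za20) (ka xa1 ya16 za21) (ka xa1 ya16 za22) (ka xa1 ya16 za23) (ka xa0 ya25 za17) (ka xa1 ya20 za30)) (@D3.rec (fun _ => Pt) (ka xa1 ya20 za31) (ka xa1 ya16 za27) (ka xa1 ya16 za28) (ka xa1 ya16 za29) (ka xa1 ya16 za30) (ka xa0 ya25 za22) (ka xa0 ya25 za23) (ka xa1 ya20 za38) (ka xa1 ya20 za39) (ka xa1 ya16 za37) (ka xa1 ya16 za38) (ka xa1 ya16 za39)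 (ka xa1 ya16 za41) (ka xa0 ya25 za29) (ka xa0 ya25 za30) (ka xa1 ya20 za47) (ka xa1 ya20 za48) (ka xa1 ya16 za48) (ka xa1 ya16 za49) (ka xa1 ya16 za50) (ka xa1 ya17 za1) (ka xa0 ya25 za37) (ka xa0 ya25 za38) (ka xa1 ya21 za5) (ka xa1 ya21 za6) (ka xa1 ya21 za7) (ka xa1 ya17 za11) (ka xa1 ya17 za12) (ka xa1 ya17 za13) (ka xa1 ya17 za14) (ka xa0 ya25 za45) (ka xa0 ya25 za46) (ka xa0 ya25 za47) (ka xa0 ya25 za48) (ka xa1 ya21 za15) (ka xa1 ya21 za16) (ka xa1 ya21 za17) (ka xa1 ya21 za18) (ka xa1 ya21 za19) (ka xa1 ya21 za20) (ka xa1 ya17 za26) (ka xa1 ya17 za27) (ka xa1 ya17 za28) (ka xa1 ya17 za29) (ka xa1 ya8 za44) (ka xa0 ya26 za5) (ka xa0 ya26 za6) (ka xa0 ya26 za7) (ka xa0 ya26 za8) (ka xa1 ya21 za35) (ka xa1 ya21 za36)) (@D3.rec (fun _ => Pt) (ka xa1 ya21 za37) (ka xa1 ya21 za38) (ka xa1 ya17 za39) (ka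 xa1 ya17 za40) (ka xa0 ya26 za12) (ka xa0 ya26 za13) (ka xa1 ya21 za45) (ka xa1 ya21 za46) (ka xa1 ya17 za47) (ka xa1 ya17 za48) (ka xa1 ya17 za49) (ka xa1 ya18 za0) (ka xa0 ya26 za20) (ka xa0 ya26 za21) (ka xa1 ya22 za3) (ka xa1 ya22 za4) (ka xa1 ya22 za5) (ka xa1 ya18 za10) (ka xa1 ya18 za11) (ka xa1 ya18 za12) (ka xa1 ya18 za13) (ka xa0 ya26 za28) (ka xa0 ya26 za29) (ka xa1 ya22 za12) (ka xa1 ya18 za23) (ka xa0 ya26 za35) (ka xa0 ya26 za36) (ka xa1 ya22 za13) (ka xa1 ya22 za14) (ka xa1 ya18 za33) (ka xa1 ya18 za34) (ka xa1 ya18 za35) (ka xa0 ya26 za41) (ka xa1 ya18 za43) (ka xa0 ya26 za45) (ka xa0 ya26 za46) (ka xa1 ya22 za20) (ka xa1 ya9 za37) (ka xa1 ya9 za38) (ka xa1 ya9 za39) (ka xa1 ya9 za40) (ka xa1 ya9 za41) (ka xa1 ya9 za42) (ka xa1 ya9 za43) (ka xa1 ya9 za44) (ka xa1 ya9 za45) (ka xa1 ya9 za46)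 (ka xa1 ya9 za47) (ka xa1 ya9 za48) (ka xa1 ya9 za49) (ka xa1 ya22 za38)) (@D3.rec (fun _ => Pt) (ka xa1 ya10 za0) (ka xa1 ya10 za1) (ka xa1 ya10 za2) (ka xa1 ya10 za3) (ka xa1 ya10 za4) (ka xa1 ya10 za5) (ka xa1 ya10 za6) (ka xa1 ya10 za7) (ka xa1 ya10 za8) (ka xa1 ya10 za9) (ka xa1 ya10 za10) (ka xa1 ya10 za11) (ka xa1 ya10 za12) (ka xa1 ya10 za13) (ka xa1 ya23 za10) (ka xa1 ya10 za15) (ka xa1 ya10 za16) (ka xa1 ya6 za28) (ka xa1 ya10 za18) (ka xa1 ya10 za19) (ka xa1 ya0 za23) (ka xa1 ya23 za19) (ka xa1 ya10 za22) (ka xa1 ya10 za23) (ka xa1 ya10 za24) (ka xa1 ya10 za25) (ka xa1 ya10 za26) (ka xa1 ya10 za27) (ka xa1 ya23 za31) (ka xa1 ya10 za29) (ka xa1 ya10 za30) (ka xa1 ya10 za31) (ka xa1 ya10 za32) (ka xa1 ya23 za39) (ka xa1 ya10 za34) (ka xa1 ya10 za35) (ka xa1 ya0 za33) (ka xa1 ya23 za44) (ka xa1 ya10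 za38) (ka xa1 ya10 za39) (ka xa1 ya10 za40) (ka xa1 ya24 za0) (ka xa1 ya10 za42) (ka xa1 ya10 za43) (ka xa1 ya0 za38) (ka xa1 ya24 za5) (ka xa1 ya10 za46) (ka xa1 ya10 za47) (ka xa1 ya10 za48) (ka xa1 ya0 za42) (ka xa1 ya24 za12)) (@D3.rec (fun _ => Pt) (ka xa1 ya24 za13) (ka xa1 ya11 za1) (ka xa1 ya11 za2) (ka xa1 ya11 za3) (ka xa1 ya11 za4) (ka xa1 ya24 za23) (ka xa1 ya11 za6) (ka xa1 ya11 za7) (ka xa1 ya0 za48) (ka xa1 ya24 za28) (ka xa1 ya11 za10) (ka xa1 ya11 za11) (ka xa1 ya11 za12) (ka xa1 ya1 za1) (ka xa1 ya24 za35) (ka xa1 ya24 za36) (ka xa1 ya11 za16) (ka xa1 ya11 za17) (ka xa1 ya11 za18) (ka xa1 ya11 za19) (ka xa1 ya1 za6) (ka xa1 ya1 za7) (ka xa1 ya24 za46) (ka xa1 ya24 za47) (ka xa1 ya24 za48) (ka xa1 ya24 za49) (ka xa1 ya11 za26) (ka xa1 ya11 za27) (ka xa1 ya11 za28) (ka xa1 ya11 za29) (ka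 xa1 ya11 za30) (ka xa1 ya11 za31) (ka xa1 ya11 za32) (ka xa1 ya11 za33) (ka xa1 ya11 za34) (ka xa1 ya11 za35) (ka xa1 ya11 za36) (ka xa1 ya11 za37) (ka xa1 ya11 za38) (ka xa1 ya11 za39) (ka xa1 ya11 za40) (ka xa1 ya11 za41) (ka xa1 ya11 za42) (ka xa1 ya11 za43) (ka xa1 ya25 za30) (ka xa1 ya11 za45) (ka xa1 ya11 za46) (ka xa1 ya11 za47) (ka xa1 ya11 za48) (ka xa1 ya11 za49) (ka xa1 ya25 za40)) (@D3.rec (fun _ => Pt) (ka xa1 ya12 za0) (ka xa1 ya12 za1) (ka xa1 ya12 za2) (ka xa1 ya12 za3) (ka xa1 ya6 za23) (ka xa1 ya12 za5) (ka xa1 ya12 za6) (ka xa1 ya1 za31) (ka xa1 ya26 za0) (ka xa1 ya12 za9) (ka xa1 ya12 za10) (ka xa1 ya12 za11) (ka xa1 ya12 za12) (ka xa1 ya12 za13) (ka xa1 ya6 za2) (ka xa1 ya12 za15) (ka xa1 ya12 za16) (ka xa1 ya12 za17) (ka xa1 ya1 za40) (ka xa1 ya26 za16) (ka xa1 ya26 za17) (ka xa1 ya12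 za21) (ka xa1 ya12 za22) (ka xa1 ya12 za23) (ka xa1 ya12 za24) (ka xa1 ya26 za27) (ka xa1 ya12 za26) (ka xa1 ya12 za27) (ka xa1 ya1 za46) (ka xa1 ya26 za32) (ka xa1 ya12 za30) (ka xa1 ya12 za31) (ka xa1 ya12 za32) (ka xa1 ya1 za49) (ka xa1 ya26 za39) (ka xa1 ya12 za35) (ka xa1 ya12 za36) (ka xa1 ya12 za37) (ka xa1 ya2 za2) (ka xa1 ya26 za46) (ka xa1 ya26 za47) (ka xa1 ya12 za41) (ka xa1 ya12 za42) (ka xa1 ya12 za43) (ka xa1 ya12 za44) (ka xa1 ya2 za7) (ka xa2 ya0 za6) (ka xa2 ya0 za7) (ka xa1 ya12 za48) (ka xa1 ya12 za49) (ka xa1 ya12 za50)) (@D3.rec (fun _ => Pt) (ka xa1 ya13 za0) (ka xa1 ya2 za12) (ka xa1 ya2 za13) (ka xa2 ya0 za17) (ka xa2 ya0 za18) (ka xa2 ya0 za19) (ka xa2 ya0 za20) (ka xa1 ya13 za7) (ka xa1 ya13 za8) (ka xa1 ya13 za9) (ka xa1 ya13 za10) (ka xa1 ya13 za11) (ka xa1 ya2 za19) (ka xa1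 ya2 za20) (ka xa1 ya24 za39) (ka xa2 ya0 za33) (ka xa1 ya24 za37) (ka xa2 ya0 za34) (ka xa1 ya13 za18) (ka xa1 ya13 za19) (ka xa1 ya13 za20) (ka xa1 ya13 za21) (ka xa1 ya13 za22) (ka xa1 ya2 za27) (ka xa1 ya2 za28) (ka xa1 ya2 za29) (ka xa1 ya2 za30) (ka xa2 ya0 za45) (ka xa1 ya25 za4) (ka xa2 ya0 za46) (ka xa2 ya0 za47) (ka xa2 ya0 za48) (ka xa1 ya25 za0) (ka xa2 ya0 za49) (ka xa1 ya13 za34) (ka xa1 ya13 za35) (ka xa1 ya13 za36) (ka xa1 ya13 za37) (ka xa1 ya13 za38) (ka xa1 ya2 za37) (ka xa2 ya1 za14) (ka xa2 ya1 za15) (ka xa1 ya13 za42) (ka xa1 ya13 za43) (ka xa1 ya13 za44) (ka xa1 ya13 za45) (ka xa1 ya2 za42) (ka xa1 ya2 za43) (ka xa2 ya1 za25) (ka xa2 ya1 za26) (ka xa2 ya1 za27)) (@D3.rec (fun _ => Pt) (ka xa2 ya1 za28) (ka xa1 ya14 za1) (ka xa1 ya14 za2) (ka xa1 ya14 za3) (ka xa1 ya14 za4) (ka xa1 ya14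 za5) (ka xa1 ya2 za50) (ka xa1 ya3 za0) (ka xa1 ya3 za1) (ka xa1 ya3 za2) (ka xa2 ya1 za41) (ka xa2 ya1 za42) (ka xa2 ya1 za43) (ka xa2 ya1 za44) (ka xa2 ya1 za45) (ka xa2 ya1 za46) (ka xa2 ya1 za47) (ka xa1 ya14 za17) (ka xa1 ya14 za18) (ka xa1 ya14 za19) (ka xa1 ya14 za20) (ka xa1 ya14 za21) (ka xa1 ya3 za11) (ka xa1 ya3 za12) (ka xa1 ya3 za13) (ka xa1 ya3 za14) (ka xa1 ya3 za15) (ka xa2 ya2 za14) (ka xa2 ya2 za15) (ka xa2 ya2 za16) (ka xa2 ya2 za17) (ka xa2 ya2 za18) (ka xa1 ya14 za32) (ka xa1 ya14 za33) (ka xa1 ya14 za34) (ka xa1 ya14 za35) (ka xa1 ya14 za36) (ka xa1 ya14 za37) (ka xa1 ya14 za38) (ka xa1 ya14 za39) (ka xa1 ya14 za40) (ka xa1 ya14 za41) (ka xa1 ya14 za42) (ka xa1 ya14 za43) (ka xa1 ya14 za44) (ka xa1 ya14 za45) (ka xa1 ya14 za46) (ka xa1 ya6 za30) (ka xa1 ya6 za31) (ka xa1 ya6 za32) (ka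 xa1 ya6 za33)) (@D3.rec (fun _ => Pt) (ka xa1 ya6 za34) (ka xa1 ya6 za35) (ka xa1 ya6 za36) (ka xa1 ya6 za37) (ka xa1 ya6 za39) (ka xa1 ya6 za40) (ka xa1 ya6 za41) (ka xa1 ya6 za42) (ka xa1 ya6 za43) (ka xa1 ya6 za44) (ka xa2 ya3 za8) (ka xa1 ya6 za46) (ka xa1 ya6 za47) (ka xa1 ya6 za49) (ka xa1 ya6 za50) (ka xa1 ya7 za0) (ka xa1 ya7 za1) (ka xa1 ya6 za25) (ka xa1 ya7 za2) (ka xa1 ya7 za3) (ka xa1 ya3 za46) (ka xa2 ya3 za19) (ka xa1 ya7 za5) (ka xa1 ya7 za6) (ka xa1 ya7 za7) (ka xa1 ya7 za8) (ka xa1 ya6 za14) (ka xa1 ya7 za9) (ka xa1 ya7 za10) (ka xa1 ya4 za1) (ka xa2 ya3 za31) (ka xa1 ya7 za12) (ka xa1 ya7 za13) (ka xa1 ya7 za14) (ka xa1 ya7 za15) (ka xa1 ya5 za42) (ka xa1 ya7 za16) (ka xa1 ya7 za17) (ka xa1 ya7 za18) (ka xa1 ya4 za9) (ka xa2 ya3 za44) (ka xa2 ya3 za45) (ka xa1 ya7 za21) (ka xa1 ya7 za22)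 (ka xa1 ya7 za23) (ka xa1 ya7 za24) (ka xa1 ya7 za25) (ka xa1 ya5 za5) (ka xa1 ya6 za4) (ka xa1 ya7 za26) (ka xa1 ya7 za27)) (@D3.rec (fun _ => Pt) (ka xa1 ya7 za28) (ka xa1 ya4 za19) (ka xa1 ya4 za20) (ka xa2 ya4 za11) (ka xa2 ya4 za12) (ka xa2 ya4 za13) (ka xa2 ya4 za14) (ka xa1 ya7 za33) (ka xa1 ya7 za34) (ka xa1 ya7 za35) (ka xa1 ya7 za29) (ka xa1 ya7 za36) (ka xa1 ya4 za25) (ka xa2 ya4 za27) (ka xa1 ya7 za39) (ka xa1 ya7 za40) (ka xa1 ya7 za41) (ka xa1 ya4 za29) (ka xa2 ya4 za34) (ka xa2 ya4 za35) (ka xa1 ya7 za45) (ka xa1 ya7 za46) (ka xa1 ya7 za47) (ka xa1 ya7 za48) (ka xa1 ya4 za34) (ka xa2 ya4 za45) (ka xa2 ya4 za46) (ka xa1 ya8 za1) (ka xa1 ya8 za2) (ka xa1 ya8 za3) (ka xa1 ya8 za4) (ka xa1 ya4 za39) (ka xa1 ya4 za40) (ka xa2 ya5 za5) (ka xa2 ya5 za6) (ka xa2 ya3 za39) (ka xa2 ya5 za7) (ka xa1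 ya8 za9) (ka xa1 ya8 za10) (ka xa1 ya8 za11) (ka xa1 ya7 za19) (ka xa1 ya8 za12) (ka xa1 ya4 za46) (ka xa1 ya4 za47) (ka xa2 ya5 za19) (ka xa2 ya5 za20) (ka xa2 ya4 za20) (ka xa2 ya5 za21) (ka xa1 ya8 za17) (ka xa1 ya8 za18) (ka xa1 ya8 za19)) (@D3.rec (fun _ => Pt) (ka xa1 ya7 za31) (ka xa1 ya8 za20) (ka xa1 ya5 za3) (ka xa1 ya5 za4) (ka xa1 ya5 za6) (ka xa2 ya5 za33) (ka xa2 ya4 za5) (ka xa2 ya5 za34) (ka xa2 ya5 za35) (ka xa2 ya4 za6) (ka xa2 ya5 za36) (ka xa1 ya8 za26) (ka xa1 ya8 za27) (ka xa1 ya8 za28) (ka xa1 ya8 za29) (ka xa1 ya7 za30) (ka xa1 ya5 za14) (ka xa1 ya5 za15) (ka xa1 ya5 za16) (ka xa1 ya5 za17) (ka xa2 ya6 za0) (ka xa1 ya24 za29) (ka xa2 ya6 za1) (ka xa2 ya6 za2) (ka xa2 ya6 za3) (ka xa2 ya6 za4) (ka xa1 ya8 za40) (ka xa1 ya8 za41) (ka xa1 ya8 za42) (ka xa1 ya8 za43) (ka xa1 ya17 za30)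 (ka xa1 ya5 za25) (ka xa1 ya5 za26) (ka xa1 ya5 za27) (ka xa1 ya5 za28) (ka xa2 ya6 za18) (ka xa2 ya6 za19) (ka xa2 ya6 za20) (ka xa2 ya6 za21) (ka xa1 ya9 za2) (ka xa1 ya9 za3) (ka xa1 ya5 za32) (ka xa1 ya5 za33) (ka xa2 ya6 za28) (ka xa2 ya6 za29) (ka xa2 ya3 za27) (ka xa2 ya6 za30) (ka xa1 ya9 za8) (ka xa1 ya9 za9) (ka xa1 ya9 za10) (ka xa1 ya7 za11)) (@D3.rec (fun _ => Pt) (ka xa1 ya9 za11) (ka xa1 ya5 za40) (ka xa1 ya5 za41) (ka xa1 ya5 za43) (ka xa2 ya6 za42) (ka xa1 ya25 za47) (ka xa2 ya6 za43) (ka xa2 ya6 za44) (ka xa2 ya3 za40) (ka xa2 ya6 za45) (ka xa1 ya9 za17) (ka xa1 ya9 za18) (ka xa1 ya9 za19) (ka xa1 ya9 za20) (ka xa1 ya7 za20) (ka xa1 ya6 za1) (ka xa1 ya6 za3) (ka xa1 ya6 za5) (ka xa2 ya7 za9) (ka xa1 ya26 za11) (ka xa1 ya26 za10) (ka xa2 ya7 za10) (ka xa2 ya4 za7) (ka xa1 ya9 za24) (ka xa1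 ya7 za32) (ka xa1 ya6 za12) (ka xa1 ya6 za13) (ka xa1 ya6 za15) (ka xa2 ya7 za17) (ka xa1 ya25 za37) (ka xa2 ya7 za18) (ka xa2 ya7 za19) (ka xa2 ya3 za5) (ka xa1 ya9 za29) (ka xa1 ya9 za30) (ka xa1 ya9 za31) (ka xa1 ya6 za45) (ka xa1 ya6 za22) (ka xa1 ya6 za24) (ka xa2 ya7 za32) (ka xa1 ya25 za27) (ka xa1 ya23 za7) (ka xa2 ya3 za15) (ka xa1 ya9 za33) (ka xa1 ya7 za4) (ka xa1 ya23 za15) (ka xa1 ya18 za46) (ka xa2 ya2 za41) (ka xa2 ya2 za42) (ka xa2 ya2 za43) (ka xa2 ya2 za44)) (@D3.rec (fun _ => Pt) (ka xa2 ya2 za45) (ka xa2 ya2 za46) (ka xa2 ya2 za47) (ka xa2 ya2 za48) (ka xa2 ya7 za31) (ka xa2 ya2 za50) (ka xa2 ya3 za0) (ka xa1 ya19 za7) (ka xa2 ya3 za1) (ka xa2 ya3 za2) (ka xa2 ya3 za3) (ka xa2 ya3 za4) (ka xa2 ya3 za6) (ka xa2 ya3 za7) (ka xa2 ya7 za30) (ka xa2 ya3 za10) (ka xa2 ya3 za11) (ka xa2 ya3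 za12) (ka xa1 ya19 za18) (ka xa1 ya19 za19) (ka xa2 ya3 za13) (ka xa2 ya3 za14) (ka xa2 ya3 za16) (ka xa2 ya3 za17) (ka xa2 ya3 za18) (ka xa2 ya7 za39) (ka xa2 ya7 za6) (ka xa2 ya3 za22) (ka xa2 ya3 za23) (ka xa2 ya3 za24) (ka xa2 ya3 za25) (ka xa2 ya3 za26) (ka xa2 ya3 za28) (ka xa2 ya3 za29) (ka xa2 ya3 za30) (ka xa2 ya4 za43) (ka xa2 ya6 za41) (ka xa2 ya3 za34) (ka xa2 ya3 za35) (ka xa2 ya3 za36) (ka xa2 ya3 za37) (ka xa2 ya3 za38) (ka xa2 ya3 za41) (ka xa2 ya3 za42) (ka xa2 ya3 za43) (ka xa2 ya4 za2) (ka xa2 ya5 za18) (ka xa2 ya5 za3) (ka xa2 ya7 za8) (ka xa2 ya3 za50) (ka xa2 ya4 za0)) (@D3.rec (fun _ => Pt) (ka xa2 ya4 za1) (ka xa2 ya4 za3) (ka xa2 ya4 za4) (ka xa2 ya4 za8) (ka xa2 ya4 za9) (ka xa2 ya4 za10) (ka xa2 ya4 za26) (ka xa2 ya5 za48) (ka xa2 ya5 za50) (ka xa2 ya5 za32) (ka xa2 ya7 za16) (ka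 xa2 ya4 za22) (ka xa2 ya4 za23) (ka xa2 ya4 za24) (ka xa2 ya4 za25) (ka xa1 ya7 za38) (ka xa2 ya9 za19) (ka xa2 ya9 za20) (ka xa2 ya4 za30) (ka xa2 ya4 za31) (ka xa2 ya4 za32) (ka xa2 ya4 za33) (ka xa1 ya7 za43) (ka xa1 ya7 za44) (ka xa2 ya9 za27) (ka xa2 ya9 za28) (ka xa2 ya4 za40) (ka xa2 ya4 za41) (ka xa2 ya4 za42) (ka xa2 ya4 za44) (ka xa1 ya7 za50) (ka xa1 ya8 za0) (ka xa2 ya9 za32) (ka xa2 ya9 za33) (ka xa2 ya5 za0) (ka xa2 ya5 za1) (ka xa2 ya5 za2) (ka xa2 ya5 za4) (ka xa1 ya8 za7) (ka xa1 ya8 za8) (ka xa2 ya9 za41) (ka xa2 ya9 za42) (ka xa2 ya9 za43) (ka xa2 ya5 za14) (ka xa2 ya5 za15) (ka xa2 ya5 za16) (ka xa2 ya5 za17) (ka xa1 ya8 za15) (ka xa1 ya8 za16) (ka xa2 ya9 za46) (ka xa2 ya9 za47)) (@D3.rec (fun _ => Pt) (ka xa2 ya9 za48) (ka xa2 ya5 za28) (ka xa2 ya5 za29) (ka xa2 ya5 za30) (ka xa2 ya5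 za31) (ka xa1 ya8 za23) (ka xa1 ya8 za24) (ka xa1 ya8 za25) (ka xa2 ya10 za5) (ka xa2 ya10 za6) (ka xa2 ya5 za45) (ka xa2 ya5 za46) (ka xa2 ya5 za47) (ka xa2 ya5 za49) (ka xa1 ya21 za14) (ka xa1 ya8 za34) (ka xa1 ya8 za35) (ka xa1 ya8 za36) (ka xa1 ya8 za37) (ka xa1 ya8 za38) (ka xa1 ya8 za39) (ka xa2 ya10 za10) (ka xa2 ya10 za11) (ka xa2 ya10 za12) (ka xa1 ya24 za24) (ka xa2 ya10 za13) (ka xa2 ya10 za14) (ka xa2 ya10 za15) (ka xa2 ya10 za16) (ka xa2 ya6 za12) (ka xa2 ya6 za13) (ka xa2 ya6 za14) (ka xa2 ya6 za15) (ka xa2 ya6 za16) (ka xa1 ya21 za34) (ka xa1 ya8 za49) (ka xa1 ya8 za50) (ka xa1 ya9 za0) (ka xa1 ya9 za1) (ka xa2 ya10 za35) (ka xa2 ya10 za36) (ka xa2 ya10 za37) (ka xa2 ya10 za38) (ka xa2 ya10 za39) (ka xa2 ya6 za27) (ka xa1 ya9 za6) (ka xa1 ya9 za7) (ka xa2 ya10 za44) (ka xa2 ya10 za45) (ka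 xa2 ya10 za46) (ka xa2 ya6 za37)) (@D3.rec (fun _ => Pt) (ka xa2 ya6 za38) (ka xa2 ya6 za39) (ka xa2 ya6 za40) (ka xa1 ya9 za14) (ka xa1 ya9 za15) (ka xa1 ya9 za16) (ka xa2 ya10 za49) (ka xa2 ya10 za50) (ka xa2 ya7 za3) (ka xa2 ya7 za4) (ka xa2 ya7 za5) (ka xa2 ya7 za7) (ka xa1 ya9 za23) (ka xa1 ya9 za27) (ka xa1 ya9 za28) (ka xa2 ya11 za1) (ka xa2 ya7 za27) (ka xa2 ya7 za28) (ka xa2 ya7 za29) (ka xa2 ya7 za38) (ka xa1 ya9 za36) (ka xa2 ya11 za3) (ka xa1 ya22 za22) (ka xa1 ya22 za23) (ka xa1 ya22 za24) (ka xa1 ya22 za25) (ka xa1 ya22 za26) (ka xa1 ya22 za27) (ka xa1 ya22 za28) (ka xa1 ya22 za29) (ka xa1 ya22 za30) (ka xa1 ya22 za31) (ka xa1 ya22 za32) (ka xa1 ya22 za33) (ka xa1 ya22 za34) (ka xa2 ya11 za20) (ka xa1 ya22 za36) (ka xa1 ya22 za37) (ka xa1 ya9 za50) (ka xa2 ya11 za25) (ka xa1 ya22 za40) (ka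 xa1 ya22 za41) (ka xa1 ya22 za42) (ka xa1 ya22 za43) (ka xa1 ya22 za44) (ka xa1 ya22 za45) (ka xa1 ya22 za46) (ka xa1 ya22 za47) (ka xa1 ya22 za48) (ka xa1 ya22 za49) (ka xa2 ya11 za43)) (@D3.rec (fun _ => Pt) (ka xa1 ya23 za0) (ka xa1 ya23 za1) (ka xa1 ya23 za2) (ka xa1 ya23 za3) (ka xa2 ya12 za0) (ka xa1 ya23 za5) (ka xa1 ya23 za6) (ka xa1 ya18 za41) (ka xa1 ya23 za8) (ka xa1 ya23 za9) (ka xa1 ya10 za14) (ka xa2 ya12 za9) (ka xa1 ya23 za12) (ka xa1 ya23 za13) (ka xa1 ya23 za14) (ka xa1 ya18 za45) (ka xa1 ya23 za16) (ka xa1 ya23 za17) (ka xa1 ya23 za18) (ka xa1 ya10 za21) (ka xa2 ya12 za22) (ka xa2 ya12 za23) (ka xa1 ya23 za22) (ka xa1 ya23 za23) (ka xa1 ya23 za24) (ka xa1 ya23 za25) (ka xa1 ya23 za26) (ka xa1 ya23 za27) (ka xa2 ya12 za36) (ka xa1 ya23 za29) (ka xa1 ya23 za30) (ka xa1 ya10 za28) (ka xa2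 ya12 za41) (ka xa1 ya23 za33) (ka xa1 ya23 za34) (ka xa1 ya23 za35) (ka xa2 ya12 za48) (ka xa1 ya23 za37) (ka xa1 ya23 za38) (ka xa1 ya10 za33) (ka xa2 ya13 za2) (ka xa1 ya23 za41) (ka xa1 ya23 za42) (ka xa1 ya23 za43) (ka xa1 ya10 za37) (ka xa2 ya13 za9) (ka xa2 ya13 za10) (ka xa1 ya23 za47) (ka xa1 ya23 za48) (ka xa1 ya23 za49) (ka xa1 ya23 za50)) (@D3.rec (fun _ => Pt) (ka xa1 ya10 za41) (ka xa2 ya13 za20) (ka xa1 ya24 za2) (ka xa1 ya24 za3) (ka xa1 ya24 za4) (ka xa1 ya10 za45) (ka xa2 ya13 za27) (ka xa2 ya13 za28) (ka xa1 ya24 za8) (ka xa1 ya24 za9) (ka xa1 ya24 za10) (ka xa1 ya24 za11) (ka xa1 ya10 za50) (ka xa1 ya11 za0) (ka xa2 ya13 za38) (ka xa2 ya13 za39) (ka xa2 ya13 za40) (ka xa2 ya13 za41) (ka xa1 ya24 za18) (ka xa1 ya24 za19) (ka xa1 ya24 za20) (ka xa1 ya24 za21) (ka xa1 ya24 za22) (ka xa1 ya11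 za5) (ka xa1 ya21 za24) (ka xa1 ya24 za25) (ka xa1 ya24 za26) (ka xa1 ya24 za27) (ka xa1 ya11 za9) (ka xa1 ya17 za21) (ka xa2 ya14 za7) (ka xa1 ya24 za31) (ka xa1 ya24 za32) (ka xa1 ya24 za33) (ka xa1 ya24 za34) (ka xa1 ya11 za14) (ka xa1 ya11 za15) (ka xa1 ya13 za16) (ka xa2 ya14 za14) (ka xa1 ya13 za14) (ka xa2 ya14 za15) (ka xa1 ya24 za41) (ka xa1 ya24 za42) (ka xa1 ya24 za43) (ka xa1 ya24 za44) (ka xa1 ya24 za45) (ka xa1 ya11 za22) (ka xa1 ya11 za23) (ka xa1 ya11 za24) (ka xa1 ya11 za25) (ka xa2 ya14 za26)) (@D3.rec (fun _ => Pt) (ka xa1 ya13 za32) (ka xa2 ya14 za27) (ka xa2 ya14 za28) (ka xa2 ya14 za29) (ka xa1 ya13 za28) (ka xa2 ya14 za30) (ka xa1 ya25 za6) (ka xa1 ya25 za7) (ka xa1 ya25 za8) (ka xa1 ya25 za9) (ka xa1 ya25 za10) (ka xa1 ya25 za11) (ka xa1 ya25 za12) (ka xa1 ya25 za13) (ka xa1 ya25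 za14) (ka xa1 ya25 za15) (ka xa1 ya25 za16) (ka xa1 ya25 za17) (ka xa1 ya25 za18) (ka xa1 ya25 za19) (ka xa1 ya25 za20) (ka xa2 ya15 za9) (ka xa1 ya25 za22) (ka xa1 ya25 za23) (ka xa1 ya25 za24) (ka xa1 ya25 za25) (ka xa1 ya25 za26) (ka xa1 ya18 za40) (ka xa1 ya25 za28) (ka xa1 ya25 za29) (ka xa1 ya11 za44) (ka xa2 ya15 za22) (ka xa1 ya25 za32) (ka xa1 ya25 za33) (ka xa1 ya25 za34) (ka xa1 ya25 za35) (ka xa1 ya25 za36) (ka xa1 ya18 za29) (ka xa1 ya25 za38) (ka xa1 ya25 za39) (ka xa1 ya11 za50) (ka xa2 ya15 za35) (ka xa1 ya25 za42) (ka xa1 ya25 za43) (ka xa1 ya25 za44) (ka xa1 ya25 za45) (ka xa1 ya25 za46) (ka xa1 ya18 za5) (ka xa1 ya25 za48) (ka xa1 ya25 za49) (ka xa1 ya25 za50)) (@D3.rec (fun _ => Pt) (ka xa1 ya12 za8) (ka xa2 ya16 za0) (ka xa2 ya16 za1) (ka xa1 ya26 za3) (ka xa1 ya26 za4) (ka xa1 ya26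 za5) (ka xa1 ya26 za6) (ka xa1 ya26 za7) (ka xa1 ya26 za8) (ka xa1 ya26 za9) (ka xa1 ya18 za20) (ka xa1 ya18 za19) (ka xa1 ya26 za12) (ka xa1 ya26 za13) (ka xa1 ya26 za14) (ka xa1 ya26 za15) (ka xa1 ya12 za19) (ka xa1 ya12 za20) (ka xa2 ya16 za24) (ka xa2 ya16 za25) (ka xa2 ya16 za26) (ka xa2 ya16 za27) (ka xa1 ya26 za22) (ka xa1 ya26 za23) (ka xa1 ya26 za24) (ka xa1 ya26 za25) (ka xa1 ya26 za26) (ka xa1 ya12 za25) (ka xa2 ya16 za40) (ka xa1 ya26 za29) (ka xa1 ya26 za30) (ka xa1 ya26 za31) (ka xa1 ya12 za29) (ka xa2 ya16 za47) (ka xa2 ya16 za48) (ka xa1 ya26 za35) (ka xa1 ya26 za36) (ka xa1 ya26 za37) (ka xa1 ya26 za38) (ka xa1 ya12 za34) (ka xa2 ya17 za7) (ka xa2 ya17 za8) (ka xa1 ya26 za42) (ka xa1 ya26 za43) (ka xa1 ya26 za44) (ka xa1 ya26 za45) (ka xa1 ya12 za39) (ka xa1 ya12 za40) (ka xa2 ya17 za18)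 (ka xa2 ya17 za19) (ka xa2 ya17 za20))
def f_a_2 : D2 → D3 → Pt := @D2.rec (fun _ => D3 → Pt) (@D3.rec (fun _ => Pt) (ka xa2 ya17 za21) (ka xa2 ya0 za1) (ka xa2 ya0 za2) (ka xa2 ya0 za3) (ka xa2 ya0 za4) (ka xa2 ya0 za5) (ka xa1 ya12 za46) (ka xa1 ya12 za47) (ka xa2 ya17 za34) (ka xa2 ya17 za35) (ka xa2 ya17 za36) (ka xa2 ya17 za37) (ka xa2 ya0 za12) (ka xa2 ya0 za13) (ka xa2 ya0 za14) (ka xa2 ya0 za15) (ka xa2 ya0 za16) (ka xa1 ya13 za3) (ka xa1 ya13 za4) (ka xa1 ya13 za5) (ka xa1 ya13 za6) (ka xa2 ya18 za0) (ka xa2 ya18 za1) (ka xa2 ya18 za2) (ka xa2 ya18 za3) (ka xa2 ya18 za4) (ka xa2 ya18 za5) (ka xa2 ya18 za6) (ka xa2 ya0 za28) (ka xa2 ya0 za29) (ka xa2 ya0 za30) (ka xa2 ya0 za31) (ka xa2 ya0 za32) (ka xa1 ya13 za15) (ka xa1 ya13 za17) (ka xa2 ya14 za19) (ka xa2 ya18 za24) (ka xa2 ya18 za25) (ka xa2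 ya14 za16) (ka xa2 ya18 za26) (ka xa2 ya0 za40) (ka xa2 ya0 za41) (ka xa2 ya0 za42) (ka xa2 ya0 za43) (ka xa2 ya0 za44) (ka xa1 ya13 za27) (ka xa1 ya13 za29) (ka xa1 ya13 za30) (ka xa1 ya13 za31) (ka xa1 ya13 za33) (ka xa2 ya18 za40)) (@D3.rec (fun _ => Pt) (ka xa2 ya18 za41) (ka xa2 ya14 za38) (ka xa2 ya18 za42) (ka xa2 ya18 za43) (ka xa2 ya18 za44) (ka xa2 ya18 za45) (ka xa2 ya14 za33) (ka xa2 ya1 za7) (ka xa2 ya1 za8) (ka xa2 ya1 za9) (ka xa2 ya1 za10) (ka xa2 ya1 za11) (ka xa2 ya1 za12) (ka xa2 ya1 za13) (ka xa1 ya13 za40) (ka xa1 ya13 za41) (ka xa2 ya19 za15) (ka xa2 ya19 za16) (ka xa2 ya19 za17) (ka xa2 ya19 za18) (ka xa2 ya1 za20) (ka xa2 ya1 za21) (ka xa2 ya1 za22) (ka xa2 ya1 za23) (ka xa2 ya1 za24) (ka xa1 ya13 za48) (ka xa1 ya13 za49) (ka xa1 ya13 za50) (ka xa1 ya14 za0) (ka xa2 ya19 za31) (ka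 xa2 ya19 za32) (ka xa2 ya19 za33) (ka xa2 ya19 za34) (ka xa2 ya19 za35) (ka xa2 ya19 za36) (ka xa2 ya19 za37) (ka xa2 ya1 za36) (ka xa2 ya1 za37) (ka xa2 ya1 za38) (ka xa2 ya1 za39) (ka xa2 ya1 za40) (ka xa1 ya14 za10) (ka xa1 ya14 za11) (ka xa1 ya14 za12) (ka xa1 ya14 za13) (ka xa1 ya14 za14) (ka xa1 ya14 za15) (ka xa1 ya14 za16) (ka xa2 ya20 za4) (ka xa2 ya20 za5) (ka xa2 ya20 za6)) (@D3.rec (fun _ => Pt) (ka xa2 ya16 za17) (ka xa2 ya20 za7) (ka xa2 ya20 za8) (ka xa2 ya20 za9) (ka xa2 ya20 za10) (ka xa2 ya20 za11) (ka xa2 ya20 za12) (ka xa2 ya2 za7) (ka xa2 ya2 za8) (ka xa2 ya2 za9) (ka xa2 ya2 za10) (ka xa2 ya2 za11) (ka xa2 ya2 za12) (ka xa2 ya2 za13) (ka xa1 ya14 za27) (ka xa1 ya14 za28) (ka xa1 ya14 za29) (ka xa1 ya14 za30) (ka xa1 ya14 za31) (ka xa2 ya20 za36) (ka xa2 ya20 za37) (ka xa2 ya20 za38)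 (ka xa2 ya20 za39) (ka xa2 ya20 za40) (ka xa2 ya20 za41) (ka xa2 ya20 za42) (ka xa2 ya2 za26) (ka xa2 ya2 za27) (ka xa2 ya2 za28) (ka xa2 ya2 za29) (ka xa2 ya2 za30) (ka xa2 ya2 za31) (ka xa2 ya2 za32) (ka xa2 ya2 za33) (ka xa2 ya2 za34) (ka xa2 ya2 za35) (ka xa2 ya2 za36) (ka xa2 ya2 za37) (ka xa2 ya2 za38) (ka xa2 ya21 za12) (ka xa2 ya2 za40) (ka xa1 ya18 za47) (ka xa1 ya18 za48) (ka xa1 ya18 za49) (ka xa1 ya18 za50) (ka xa1 ya19 za0) (ka xa1 ya19 za1) (ka xa1 ya19 za2) (ka xa1 ya19 za3) (ka xa2 ya21 za24) (ka xa1 ya19 za5)) (@D3.rec (fun _ => Pt) (ka xa1 ya19 za6) (ka xa1 ya19 za8) (ka xa1 ya19 za9) (ka xa1 ya19 za10) (ka xa1 ya19 za11) (ka xa1 ya18 za32) (ka xa1 ya19 za12) (ka xa1 ya19 za13) (ka xa1 ya15 za10) (ka xa2 ya21 za35) (ka xa1 ya19 za15) (ka xa1 ya19 za16) (ka xa1 ya19 za17) (ka xa1 ya19 za20)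 (ka xa1 ya19 za21) (ka xa1 ya18 za42) (ka xa1 ya19 za22) (ka xa1 ya19 za23) (ka xa1 ya19 za24) (ka xa1 ya15 za21) (ka xa2 ya21 za49) (ka xa2 ya21 za50) (ka xa1 ya19 za27) (ka xa1 ya19 za28) (ka xa1 ya19 za29) (ka xa1 ya19 za30) (ka xa1 ya19 za31) (ka xa1 ya17 za45) (ka xa1 ya19 za32) (ka xa1 ya19 za33) (ka xa1 ya19 za34) (ka xa1 ya15 za30) (ka xa2 ya22 za14) (ka xa2 ya22 za15) (ka xa1 ya19 za37) (ka xa1 ya19 za38) (ka xa1 ya19 za39) (ka xa1 ya19 za40) (ka xa1 ya19 za41) (ka xa1 ya16 za35) (ka xa1 ya18 za8) (ka xa1 ya19 za42) (ka xa1 ya19 za43) (ka xa1 ya19 za44) (ka xa1 ya15 za40) (ka xa1 ya15 za41) (ka xa2 ya22 za32) (ka xa2 ya22 za33) (ka xa2 ya22 za34) (ka xa2 ya22 za35) (ka xa1 ya19 za49)) (@D3.rec (fun _ => Pt) (ka xa1 ya19 za50) (ka xa1 ya20 za0) (ka xa1 ya19 za45) (ka xa1 ya20 za1) (ka xa1 ya20 za2)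 (ka xa1 ya17 za6) (ka xa1 ya17 za9) (ka xa1 ya18 za22) (ka xa1 ya20 za3) (ka xa1 ya20 za4) (ka xa1 ya20 za5) (ka xa1 ya16 za3) (ka xa1 ya16 za4) (ka xa1 ya16 za5) (ka xa1 ya16 za6) (ka xa2 ya23 za4) (ka xa2 ya23 za5) (ka xa2 ya23 za6) (ka xa2 ya23 za7) (ka xa2 ya23 za8) (ka xa1 ya16 za46) (ka xa2 ya23 za9) (ka xa1 ya20 za11) (ka xa1 ya20 za12) (ka xa1 ya20 za13) (ka xa1 ya20 za14) (ka xa1 ya20 za6) (ka xa1 ya16 za13) (ka xa2 ya23 za26) (ka xa2 ya23 za27) (ka xa1 ya20 za18) (ka xa1 ya20 za19) (ka xa1 ya20 za20) (ka xa1 ya20 za21) (ka xa1 ya16 za18) (ka xa1 ya16 za19) (ka xa2 ya23 za37) (ka xa2 ya23 za38) (ka xa2 ya22 za9) (ka xa2 ya23 za39) (ka xa1 ya20 za26) (ka xa1 ya20 za27) (ka xa1 ya20 za28) (ka xa1 ya19 za35) (ka xa1 ya20 za29) (ka xa1 ya16 za25) (ka xa1 ya16 za26) (ka xa2 ya23 za47) (ka xa2 ya23 za48)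 (ka xa2 ya22 za41) (ka xa2 ya23 za49)) (@D3.rec (fun _ => Pt) (ka xa1 ya20 za34) (ka xa1 ya20 za35) (ka xa1 ya20 za36) (ka xa1 ya19 za47) (ka xa1 ya20 za37) (ka xa1 ya16 za33) (ka xa1 ya16 za34) (ka xa1 ya16 za36) (ka xa2 ya24 za10) (ka xa2 ya22 za26) (ka xa2 ya24 za11) (ka xa2 ya24 za12) (ka xa2 ya22 za27) (ka xa2 ya24 za13) (ka xa1 ya20 za43) (ka xa1 ya20 za44) (ka xa1 ya20 za45) (ka xa1 ya20 za46) (ka xa1 ya19 za46) (ka xa1 ya16 za44) (ka xa1 ya16 za45) (ka xa1 ya16 za47) (ka xa2 ya24 za24) (ka xa2 ya23 za3) (ka xa2 ya24 za25) (ka xa2 ya24 za26) (ka xa2 ya23 za18) (ka xa2 ya24 za27) (ka xa1 ya21 za1) (ka xa1 ya21 za2) (ka xa1 ya21 za3) (ka xa1 ya21 za4) (ka xa1 ya20 za9) (ka xa1 ya17 za5) (ka xa1 ya17 za7) (ka xa1 ya17 za8) (ka xa1 ya17 za10) (ka xa2 ya24 za42) (ka xa2 ya24 za43) (ka xa2 ya22 za48) (ka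 xa2 ya16 za15) (ka xa2 ya24 za44) (ka xa2 ya22 za49) (ka xa2 ya24 za45) (ka xa2 ya22 za50) (ka xa1 ya21 za10) (ka xa1 ya21 za11) (ka xa1 ya21 za12) (ka xa1 ya20 za7) (ka xa1 ya21 za13) (ka xa1 ya20 za8)) (@D3.rec (fun _ => Pt) (ka xa1 ya17 za20) (ka xa1 ya17 za22) (ka xa1 ya17 za23) (ka xa1 ya17 za24) (ka xa1 ya17 za25) (ka xa2 ya25 za8) (ka xa2 ya25 za9) (ka xa2 ya14 za8) (ka xa2 ya25 za10) (ka xa2 ya25 za11) (ka xa2 ya25 za12) (ka xa2 ya25 za13) (ka xa1 ya21 za29) (ka xa1 ya21 za30) (ka xa1 ya21 za31) (ka xa1 ya21 za32) (ka xa1 ya21 za33) (ka xa2 ya6 za17) (ka xa1 ya17 za35) (ka xa1 ya17 za36) (ka xa1 ya17 za37) (ka xa1 ya17 za38) (ka xa2 ya25 za31) (ka xa2 ya25 za32) (ka xa2 ya25 za33) (ka xa2 ya25 za34) (ka xa2 ya25 za35) (ka xa1 ya21 za44) (ka xa1 ya17 za43) (ka xa1 ya17 za44) (ka xa1 ya17 za46) (ka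 xa2 ya25 za41) (ka xa2 ya15 za31) (ka xa2 ya25 za42) (ka xa2 ya25 za43) (ka xa2 ya22 za10) (ka xa2 ya25 za44) (ka xa1 ya21 za50) (ka xa1 ya22 za0) (ka xa1 ya22 za1) (ka xa1 ya22 za2) (ka xa1 ya19 za36) (ka xa1 ya18 za4) (ka xa1 ya18 za6) (ka xa1 ya18 za7) (ka xa1 ya18 za9) (ka xa2 ya26 za4) (ka xa2 ya26 za5) (ka xa2 ya15 za46) (ka xa2 ya15 za45) (ka xa2 ya26 za6)) (@D3.rec (fun _ => Pt) (ka xa2 ya21 za45) (ka xa2 ya26 za7) (ka xa2 ya22 za28) (ka xa1 ya22 za8) (ka xa1 ya22 za9) (ka xa1 ya22 za10) (ka xa1 ya19 za26) (ka xa1 ya22 za11) (ka xa1 ya19 za48) (ka xa1 ya18 za18) (ka xa1 ya18 za21) (ka xa2 ya26 za22) (ka xa2 ya16 za18) (ka xa2 ya16 za16) (ka xa2 ya12 za16) (ka xa2 ya23 za0) (ka xa1 ya20 za10) (ka xa1 ya18 za28) (ka xa1 ya18 za30) (ka xa1 ya18 za31) (ka xa2 ya26 za27) (ka xa2 ya26 za28) (ka xa2 ya15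 za6) (ka xa2 ya11 za48) (ka xa2 ya26 za29) (ka xa2 ya21 za31) (ka xa2 ya21 za21) (ka xa1 ya22 za16) (ka xa1 ya22 za17) (ka xa1 ya22 za18) (ka xa1 ya19 za14) (ka xa1 ya19 za4) (ka xa1 ya18 za39) (ka xa2 ya26 za41) (ka xa2 ya15 za18) (ka xa2 ya11 za40) (ka xa2 ya12 za5) (ka xa2 ya21 za44) (ka xa1 ya22 za19) (ka xa1 ya19 za25) (ka xa2 ya12 za17) (ka xa2 ya7 za41) (ka xa2 ya7 za42) (ka xa2 ya21 za14) (ka xa2 ya21 za15) (ka xa2 ya21 za16) (ka xa2 ya21 za17) (ka xa2 ya21 za18) (ka xa2 ya21 za19) (ka xa2 ya21 za20) (ka xa2 ya21 za22)) (@D3.rec (fun _ => Pt) (ka xa2 ya21 za23) (ka xa2 ya26 za39) (ka xa2 ya21 za26) (ka xa2 ya21 za27) (ka xa2 ya21 za28) (ka xa2 ya8 za5) (ka xa2 ya8 za6) (ka xa2 ya21 za29) (ka xa2 ya21 za30) (ka xa2 ya21 za32) (ka xa2 ya21 za33) (ka xa2 ya21 za34) (ka xa2 ya26 za40) (ka xa2 ya26 za2)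 (ka xa2 ya21 za38) (ka xa2 ya21 za39) (ka xa2 ya21 za40) (ka xa2 ya21 za41) (ka xa2 ya8 za18) (ka xa2 ya21 za42) (ka xa2 ya21 za43) (ka xa2 ya21 za46) (ka xa2 ya21 za47) (ka xa2 ya21 za48) (ka xa2 ya26 za48) (ka xa2 ya26 za20) (ka xa2 ya26 za49) (ka xa2 ya26 za19) (ka xa2 ya22 za4) (ka xa2 ya22 za5) (ka xa2 ya22 za6) (ka xa2 ya22 za7) (ka xa2 ya22 za8) (ka xa2 ya22 za11) (ka xa2 ya22 za12) (ka xa2 ya22 za13) (ka xa2 ya22 za23) (ka xa2 ya23 za46) (ka xa2 ya23 za35) (ka xa2 ya26 za3) (ka xa2 ya22 za20) (ka xa2 ya22 za21) (ka xa2 ya22 za22) (ka xa2 ya22 za24) (ka xa2 ya22 za25) (ka xa2 ya22 za29) (ka xa2 ya22 za30) (ka xa2 ya22 za31) (ka xa2 ya22 za47) (ka xa2 ya24 za22) (ka xa2 ya24 za23)) (@D3.rec (fun _ => Pt) (ka xa2 ya24 za9) (ka xa2 ya26 za21) (ka xa2 ya22 za43) (ka xa2 ya22 za44) (ka xa2 ya22 za45) (ka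 xa2 ya22 za46) (ka xa2 ya23 za1) (ka xa2 ya23 za2) (ka xa2 ya23 za23) (ka xa2 ya23 za25) (ka xa2 ya25 za6) (ka xa2 ya24 za39) (ka xa2 ya25 za7) (ka xa2 ya24 za41) (ka xa2 ya23 za19) (ka xa2 ya23 za20) (ka xa2 ya23 za21) (ka xa2 ya23 za22) (ka xa2 ya23 za24) (ka xa1 ya20 za16) (ka xa1 ya20 za17) (ka xa3 ya0 za47) (ka xa3 ya0 za48) (ka xa2 ya23 za32) (ka xa2 ya23 za33) (ka xa2 ya23 za34) (ka xa2 ya23 za36) (ka xa1 ya20 za24) (ka xa1 ya20 za25) (ka xa3 ya1 za1) (ka xa3 ya1 za2) (ka xa3 ya1 za3) (ka xa1 ya20 za32) (ka xa1 ya20 za33) (ka xa3 ya1 za4) (ka xa3 ya1 za5) (ka xa3 ya1 za6) (ka xa2 ya24 za5) (ka xa2 ya24 za6) (ka xa2 ya24 za7) (ka xa2 ya24 za8) (ka xa1 ya20 za40) (ka xa1 ya20 za41) (ka xa1 ya20 za42) (ka xa3 ya1 za9) (ka xa3 ya1 za10) (ka xa1 ya20 za49) (ka xa1 ya20 za50) (ka xa1 ya21 za0) (ka xa3 ya1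 za11) (ka xa3 ya1 za12)) (@D3.rec (fun _ => Pt) (ka xa2 ya24 za35) (ka xa2 ya24 za36) (ka xa2 ya24 za37) (ka xa2 ya24 za38) (ka xa2 ya24 za40) (ka xa1 ya21 za8) (ka xa1 ya21 za9) (ka xa3 ya1 za16) (ka xa3 ya1 za17) (ka xa2 ya10 za9) (ka xa1 ya21 za21) (ka xa1 ya21 za22) (ka xa1 ya21 za23) (ka xa1 ya21 za25) (ka xa1 ya21 za26) (ka xa1 ya21 za27) (ka xa1 ya21 za28) (ka xa3 ya1 za20) (ka xa3 ya1 za21) (ka xa3 ya1 za22) (ka xa3 ya1 za23) (ka xa3 ya1 za24) (ka xa2 ya14 za3) (ka xa3 ya1 za25) (ka xa3 ya1 za26) (ka xa3 ya1 za27) (ka xa3 ya1 za28) (ka xa3 ya1 za29) (ka xa2 ya25 za24) (ka xa2 ya25 za25) (ka xa2 ya25 za26) (ka xa2 ya25 za27) (ka xa2 ya25 za28) (ka xa2 ya10 za33) (ka xa2 ya10 za34) (ka xa1 ya21 za39) (ka xa1 ya21 za40) (ka xa1 ya21 za41) (ka xa1 ya21 za42) (ka xa1 ya21 za43) (ka xa3 ya1 za43) (ka xa3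 ya1 za44) (ka xa3 ya1 za45) (ka xa3 ya1 za46) (ka xa1 ya21 za47) (ka xa1 ya21 za48) (ka xa1 ya21 za49) (ka xa3 ya1 za47) (ka xa3 ya1 za48) (ka xa1 ya22 za6) (ka xa1 ya22 za7)) (@D3.rec (fun _ => Pt) (ka xa3 ya1 za49) (ka xa1 ya22 za15) (ka xa3 ya1 za50) (ka xa1 ya22 za21) (ka xa2 ya11 za4) (ka xa2 ya11 za5) (ka xa2 ya11 za6) (ka xa2 ya11 za7) (ka xa2 ya11 za8) (ka xa2 ya11 za9) (ka xa2 ya11 za10) (ka xa2 ya11 za11) (ka xa2 ya11 za12) (ka xa2 ya11 za13) (ka xa3 ya2 za14) (ka xa2 ya11 za15) (ka xa2 ya11 za16) (ka xa3 ya2 za19) (ka xa2 ya11 za18) (ka xa2 ya11 za19) (ka xa1 ya22 za35) (ka xa3 ya2 za24) (ka xa2 ya11 za22) (ka xa2 ya11 za23) (ka xa2 ya11 za24) (ka xa1 ya22 za39) (ka xa3 ya2 za31) (ka xa3 ya2 za32) (ka xa2 ya11 za28) (ka xa2 ya11 za29) (ka xa2 ya11 za30) (ka xa2 ya11 za31) (ka xa2 ya11 za32) (ka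 xa2 ya11 za33) (ka xa2 ya11 za34) (ka xa2 ya11 za35) (ka xa2 ya11 za36) (ka xa3 ya2 za50) (ka xa2 ya11 za38) (ka xa2 ya11 za39) (ka xa2 ya7 za35) (ka xa2 ya11 za41) (ka xa2 ya11 za42) (ka xa1 ya22 za50) (ka xa3 ya3 za8) (ka xa2 ya11 za45) (ka xa2 ya11 za46) (ka xa2 ya11 za47) (ka xa2 ya7 za23) (ka xa2 ya11 za49) (ka xa2 ya11 za50)) (@D3.rec (fun _ => Pt) (ka xa1 ya23 za4) (ka xa3 ya3 za19) (ka xa2 ya12 za2) (ka xa2 ya12 za3) (ka xa2 ya12 za4) (ka xa2 ya7 za36) (ka xa2 ya12 za6) (ka xa2 ya12 za7) (ka xa2 ya12 za8) (ka xa1 ya23 za11) (ka xa3 ya3 za32) (ka xa3 ya3 za33) (ka xa2 ya12 za12) (ka xa2 ya12 za13) (ka xa2 ya12 za14) (ka xa2 ya12 za15) (ka xa2 ya7 za14) (ka xa2 ya7 za40) (ka xa2 ya12 za18) (ka xa2 ya12 za19) (ka xa2 ya12 za20) (ka xa2 ya12 za21) (ka xa1 ya23 za20) (ka xa1 ya23 za21) (ka xa3 ya4 za1)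 (ka xa3 ya4 za2) (ka xa3 ya4 za3) (ka xa3 ya4 za4) (ka xa2 ya12 za28) (ka xa2 ya12 za29) (ka xa2 ya12 za30) (ka xa2 ya12 za31) (ka xa2 ya12 za32) (ka xa3 ya4 za17) (ka xa2 ya12 za34) (ka xa2 ya12 za35) (ka xa1 ya23 za28) (ka xa3 ya4 za22) (ka xa2 ya12 za38) (ka xa2 ya12 za39) (ka xa2 ya12 za40) (ka xa1 ya23 za32) (ka xa3 ya4 za29) (ka xa3 ya4 za30) (ka xa2 ya12 za44) (ka xa2 ya12 za45) (ka xa2 ya12 za46) (ka xa2 ya12 za47) (ka xa1 ya23 za36) (ka xa3 ya4 za40) (ka xa2 ya12 za50)) (@D3.rec (fun _ => Pt) (ka xa2 ya13 za0) (ka xa2 ya13 za1) (ka xa1 ya23 za40) (ka xa3 ya4 za47) (ka xa3 ya4 za48) (ka xa2 ya13 za5) (ka xa2 ya13 za6) (ka xa2 ya13 za7) (ka xa2 ya13 za8) (ka xa1 ya23 za45) (ka xa1 ya23 za46) (ka xa3 ya5 za7) (ka xa3 ya5 za8) (ka xa3 ya5 za9) (ka xa3 ya5 za10) (ka xa2 ya13 za15) (ka xa2 ya13 za16)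 (ka xa2 ya13 za17) (ka xa2 ya13 za18) (ka xa2 ya13 za19) (ka xa1 ya24 za1) (ka xa3 ya5 za23) (ka xa3 ya5 za24) (ka xa2 ya13 za23) (ka xa2 ya13 za24) (ka xa2 ya13 za25) (ka xa2 ya13 za26) (ka xa1 ya24 za6) (ka xa1 ya24 za7) (ka xa3 ya5 za34) (ka xa3 ya5 za35) (ka xa3 ya5 za36) (ka xa3 ya5 za37) (ka xa2 ya13 za33) (ka xa2 ya13 za34) (ka xa2 ya13 za35) (ka xa2 ya13 za36) (ka xa2 ya13 za37) (ka xa1 ya24 za14) (ka xa1 ya24 za15) (ka xa1 ya24 za16) (ka xa1 ya24 za17) (ka xa3 ya6 za0) (ka xa3 ya6 za1) (ka xa3 ya6 za2) (ka xa3 ya6 za3) (ka xa3 ya6 za4) (ka xa3 ya6 za5) (ka xa3 ya6 za6) (ka xa2 ya13 za49) (ka xa2 ya13 za50)) (@D3.rec (fun _ => Pt) (ka xa2 ya14 za0) (ka xa2 ya14 za1) (ka xa2 ya14 za2) (ka xa2 ya10 za22) (ka xa2 ya14 za4) (ka xa2 ya14 za5) (ka xa2 ya14 za6) (ka xa1 ya24 za30) (ka xa2 ya6 za7) (ka xa3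 ya6 za28) (ka xa2 ya14 za10) (ka xa2 ya14 za11) (ka xa2 ya14 za12) (ka xa2 ya14 za13) (ka xa1 ya24 za38) (ka xa1 ya24 za40) (ka xa2 ya0 za38) (ka xa3 ya6 za36) (ka xa3 ya6 za37) (ka xa2 ya0 za35) (ka xa3 ya6 za38) (ka xa2 ya14 za21) (ka xa2 ya14 za22) (ka xa2 ya14 za23) (ka xa2 ya14 za24) (ka xa2 ya14 za25) (ka xa1 ya24 za50) (ka xa1 ya25 za1) (ka xa1 ya25 za2) (ka xa1 ya25 za3) (ka xa1 ya25 za5) (ka xa3 ya7 za1) (ka xa3 ya7 za2) (ka xa2 ya1 za6) (ka xa3 ya7 za3) (ka xa3 ya7 za4) (ka xa3 ya7 za5) (ka xa3 ya7 za6) (ka xa2 ya1 za1) (ka xa2 ya14 za39) (ka xa2 ya14 za40) (ka xa2 ya14 za41) (ka xa2 ya14 za42) (ka xa2 ya14 za43) (ka xa2 ya14 za44) (ka xa2 ya14 za45) (ka xa2 ya14 za46) (ka xa2 ya14 za47) (ka xa2 ya14 za48) (ka xa2 ya14 za49) (ka xa2 ya14 za50)) (@D3.rec (fun _ => Pt) (ka xa3 ya7 za34) (ka xa2 ya15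 za1) (ka xa2 ya15 za2) (ka xa2 ya15 za3) (ka xa2 ya15 za4) (ka xa2 ya15 za5) (ka xa2 ya7 za22) (ka xa2 ya15 za7) (ka xa2 ya15 za8) (ka xa1 ya25 za21) (ka xa3 ya7 za47) (ka xa2 ya15 za11) (ka xa2 ya15 za12) (ka xa2 ya15 za13) (ka xa2 ya15 za14) (ka xa2 ya15 za15) (ka xa2 ya15 za16) (ka xa2 ya15 za17) (ka xa2 ya7 za34) (ka xa2 ya15 za19) (ka xa2 ya15 za20) (ka xa2 ya15 za21) (ka xa1 ya25 za31) (ka xa3 ya8 za14) (ka xa3 ya8 za15) (ka xa2 ya15 za25) (ka xa2 ya15 za26) (ka xa2 ya15 za27) (ka xa2 ya15 za28) (ka xa2 ya15 za29) (ka xa2 ya15 za30) (ka xa2 ya6 za32) (ka xa2 ya15 za32) (ka xa2 ya15 za33) (ka xa2 ya15 za34) (ka xa1 ya25 za41) (ka xa3 ya8 za34) (ka xa3 ya8 za35) (ka xa2 ya15 za38) (ka xa2 ya15 za39) (ka xa2 ya15 za40) (ka xa2 ya15 za41) (ka xa2 ya15 za42) (ka xa2 ya15 za43) (ka xa2 ya15 za44) (ka xa2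 ya6 za49) (ka xa2 ya6 za48) (ka xa2 ya15 za47) (ka xa2 ya15 za48) (ka xa2 ya15 za49) (ka xa2 ya15 za50)) (@D3.rec (fun _ => Pt) (ka xa1 ya26 za1) (ka xa1 ya26 za2) (ka xa3 ya9 za7) (ka xa3 ya9 za8) (ka xa3 ya9 za9) (ka xa3 ya9 za10) (ka xa2 ya16 za6) (ka xa2 ya16 za7) (ka xa2 ya16 za8) (ka xa2 ya16 za9) (ka xa2 ya16 za10) (ka xa2 ya16 za11) (ka xa2 ya16 za12) (ka xa2 ya16 za13) (ka xa2 ya16 za14) (ka xa2 ya5 za40) (ka xa2 ya7 za13) (ka xa2 ya2 za0) (ka xa2 ya7 za12) (ka xa2 ya16 za19) (ka xa2 ya16 za20) (ka xa2 ya16 za21) (ka xa2 ya16 za22) (ka xa2 ya16 za23) (ka xa1 ya26 za18) (ka xa1 ya26 za19) (ka xa1 ya26 za20) (ka xa1 ya26 za21) (ka xa3 ya9 za41) (ka xa3 ya9 za42) (ka xa3 ya9 za43) (ka xa3 ya9 za44) (ka xa3 ya9 za45) (ka xa3 ya9 za46) (ka xa3 ya9 za47) (ka xa2 ya16 za35) (ka xa2 ya16 za36) (ka xa2 ya16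 za37) (ka xa2 ya16 za38) (ka xa2 ya16 za39) (ka xa1 ya26 za28) (ka xa3 ya10 za14) (ka xa3 ya10 za15) (ka xa2 ya16 za43) (ka xa2 ya16 za44) (ka xa2 ya16 za45) (ka xa2 ya16 za46) (ka xa1 ya26 za33) (ka xa1 ya26 za34) (ka xa3 ya10 za25) (ka xa3 ya10 za26)) (@D3.rec (fun _ => Pt) (ka xa3 ya10 za27) (ka xa3 ya10 za28) (ka xa2 ya17 za2) (ka xa2 ya17 za3) (ka xa2 ya17 za4) (ka xa2 ya17 za5) (ka xa2 ya17 za6) (ka xa1 ya26 za40) (ka xa1 ya26 za41) (ka xa3 ya10 za41) (ka xa3 ya10 za42) (ka xa3 ya10 za43) (ka xa3 ya10 za44) (ka xa2 ya17 za13) (ka xa2 ya17 za14) (ka xa2 ya17 za15) (ka xa2 ya17 za16) (ka xa2 ya17 za17) (ka xa1 ya26 za48) (ka xa1 ya26 za49) (ka xa1 ya26 za50) (ka xa2 ya0 za0) (ka xa3 ya11 za7) (ka xa3 ya11 za8) (ka xa3 ya11 za9) (ka xa3 ya11 za10) (ka xa3 ya11 za11) (ka xa3 ya11 za12) (ka xa3 ya11 za13)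 (ka xa2 ya17 za29) (ka xa2 ya17 za30) (ka xa2 ya17 za31) (ka xa2 ya17 za32) (ka xa2 ya17 za33) (ka xa2 ya0 za8) (ka xa2 ya0 za9) (ka xa2 ya0 za10) (ka xa2 ya0 za11) (ka xa3 ya11 za32) (ka xa3 ya11 za33) (ka xa3 ya11 za34) (ka xa3 ya11 za35) (ka xa3 ya11 za36) (ka xa3 ya11 za37) (ka xa3 ya11 za38) (ka xa2 ya17 za45) (ka xa2 ya17 za46) (ka xa2 ya17 za47) (ka xa2 ya17 za48) (ka xa2 ya17 za49) (ka xa3 ya9 za40)) (@D3.rec (fun _ => Pt) (ka xa2 ya0 za21) (ka xa2 ya0 za22) (ka xa2 ya0 za23) (ka xa2 ya0 za24) (ka xa2 ya0 za25) (ka xa2 ya0 za26) (ka xa2 ya0 za27) (ka xa3 ya12 za6) (ka xa3 ya12 za7) (ka xa3 ya12 za8) (ka xa3 ya9 za29) (ka xa3 ya12 za9) (ka xa3 ya12 za10) (ka xa3 ya12 za11) (ka xa3 ya12 za12) (ka xa3 ya12 za13) (ka xa3 ya12 za14) (ka xa2 ya18 za17) (ka xa2 ya18 za18) (ka xa2 ya18 za19) (ka xa2 ya18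 za20) (ka xa2 ya18 za21) (ka xa2 ya18 za22) (ka xa2 ya18 za23) (ka xa2 ya0 za36) (ka xa2 ya0 za37) (ka xa2 ya0 za39) (ka xa3 ya6 za42) (ka xa3 ya6 za44) (ka xa3 ya12 za39) (ka xa3 ya6 za39) (ka xa3 ya12 za40) (ka xa3 ya6 za40) (ka xa2 ya18 za33) (ka xa2 ya18 za34) (ka xa2 ya18 za35) (ka xa2 ya18 za36) (ka xa2 ya18 za37) (ka xa2 ya18 za38) (ka xa2 ya18 za39) (ka xa2 ya0 za50) (ka xa2 ya1 za0) (ka xa2 ya1 za2) (ka xa2 ya1 za3) (ka xa2 ya1 za4) (ka xa2 ya1 za5) (ka xa3 ya13 za6) (ka xa3 ya13 za7) (ka xa3 ya7 za16) (ka xa3 ya13 za8) (ka xa3 ya7 za18)) (@D3.rec (fun _ => Pt) (ka xa3 ya13 za9) (ka xa3 ya13 za10) (ka xa3 ya13 za11) (ka xa3 ya13 za12) (ka xa3 ya7 za9) (ka xa3 ya13 za13) (ka xa3 ya7 za11) (ka xa2 ya19 za7) (ka xa2 ya19 za8) (ka xa2 ya19 za9) (ka xa2 ya19 za10) (ka xa2 ya19 za11) (ka xa2 ya19 za12)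 (ka xa2 ya19 za13) (ka xa2 ya19 za14) (ka xa2 ya1 za16) (ka xa2 ya1 za17) (ka xa2 ya1 za18) (ka xa2 ya1 za19) (ka xa3 ya13 za40) (ka xa3 ya13 za41) (ka xa3 ya13 za42) (ka xa3 ya13 za43) (ka xa3 ya13 za44) (ka xa3 ya13 za45) (ka xa3 ya13 za46) (ka xa2 ya19 za26) (ka xa2 ya19 za27) (ka xa2 ya19 za28) (ka xa2 ya19 za29) (ka xa2 ya19 za30) (ka xa2 ya1 za29) (ka xa2 ya1 za30) (ka xa2 ya1 za31) (ka xa2 ya1 za32) (ka xa2 ya1 za33) (ka xa2 ya1 za34) (ka xa2 ya1 za35) (ka xa3 ya14 za13) (ka xa3 ya14 za14) (ka xa3 ya14 za15) (ka xa3 ya9 za0) (ka xa3 ya14 za16) (ka xa3 ya14 za17) (ka xa3 ya14 za18) (ka xa3 ya14 za19) (ka xa3 ya14 za20) (ka xa3 ya14 za21) (ka xa2 ya19 za48) (ka xa2 ya19 za49) (ka xa2 ya19 za50)) (@D3.rec (fun _ => Pt) (ka xa2 ya20 za0) (ka xa2 ya20 za1) (ka xa2 ya20 za2) (ka xa2 ya20 za3) (ka xa2 ya1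 za48) (ka xa2 ya1 za49) (ka xa2 ya1 za50) (ka xa2 ya2 za1) (ka xa2 ya2 za2) (ka xa2 ya2 za3) (ka xa2 ya2 za4) (ka xa2 ya2 za5) (ka xa2 ya2 za6) (ka xa3 ya14 za46) (ka xa3 ya14 za47) (ka xa3 ya14 za48) (ka xa3 ya14 za49) (ka xa3 ya9 za32) (ka xa3 ya14 za50) (ka xa3 ya3 za45) (ka xa3 ya9 za33) (ka xa3 ya15 za0) (ka xa3 ya15 za1) (ka xa3 ya15 za2) (ka xa3 ya15 za3) (ka xa3 ya15 za4) (ka xa3 ya15 za5) (ka xa3 ya15 za6) (ka xa2 ya20 za28) (ka xa2 ya20 za29) (ka xa2 ya20 za30) (ka xa2 ya20 za31) (ka xa2 ya20 za32) (ka xa2 ya20 za33) (ka xa2 ya20 za34) (ka xa2 ya20 za35) (ka xa2 ya2 za19) (ka xa2 ya2 za20) (ka xa2 ya2 za21) (ka xa2 ya2 za22) (ka xa2 ya2 za23) (ka xa2 ya2 za24) (ka xa2 ya2 za25) (ka xa3 ya15 za38) (ka xa3 ya15 za39) (ka xa3 ya15 za40) (ka xa3 ya15 za41) (ka xa3 ya15 za42) (ka xa3 ya15 za43) (ka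 xa3 ya15 za44) (ka xa3 ya15 za45)) (@D3.rec (fun _ => Pt) (ka xa2 ya21 za0) (ka xa2 ya21 za1) (ka xa2 ya21 za2) (ka xa2 ya21 za3) (ka xa2 ya21 za4) (ka xa2 ya21 za5) (ka xa2 ya21 za6) (ka xa2 ya21 za7) (ka xa3 ya16 za12) (ka xa2 ya21 za9) (ka xa2 ya21 za10) (ka xa3 ya16 za15) (ka xa2 ya2 za39) (ka xa3 ya16 za16) (ka xa2 ya7 za43) (ka xa2 ya7 za44) (ka xa2 ya7 za45) (ka xa2 ya7 za46) (ka xa2 ya7 za47) (ka xa2 ya7 za48) (ka xa2 ya7 za49) (ka xa2 ya7 za26) (ka xa2 ya7 za50) (ka xa2 ya8 za0) (ka xa2 ya2 za49) (ka xa3 ya16 za27) (ka xa2 ya8 za2) (ka xa2 ya8 za3) (ka xa2 ya8 za4) (ka xa2 ya8 za7) (ka xa2 ya8 za8) (ka xa2 ya7 za25) (ka xa2 ya8 za9) (ka xa2 ya8 za10) (ka xa2 ya8 za11) (ka xa2 ya3 za9) (ka xa3 ya16 za37) (ka xa3 ya16 za38) (ka xa2 ya8 za14) (ka xa2 ya8 za15) (ka xa2 ya8 za16) (ka xa2 ya8 za17) (ka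 xa2 ya8 za19) (ka xa2 ya8 za20) (ka xa2 ya7 za37) (ka xa2 ya7 za0) (ka xa2 ya8 za21) (ka xa2 ya8 za22) (ka xa2 ya8 za23) (ka xa2 ya3 za20) (ka xa2 ya3 za21)) (@D3.rec (fun _ => Pt) (ka xa3 ya17 za0) (ka xa3 ya17 za1) (ka xa3 ya17 za2) (ka xa3 ya17 za3) (ka xa2 ya8 za28) (ka xa2 ya8 za29) (ka xa2 ya8 za30) (ka xa2 ya8 za31) (ka xa2 ya8 za32) (ka xa2 ya4 za38) (ka xa2 ya6 za35) (ka xa2 ya8 za33) (ka xa2 ya8 za34) (ka xa2 ya8 za35) (ka xa2 ya3 za32) (ka xa2 ya3 za33) (ka xa3 ya17 za17) (ka xa3 ya17 za18) (ka xa3 ya17 za19) (ka xa3 ya17 za20) (ka xa2 ya8 za40) (ka xa2 ya8 za41) (ka xa2 ya8 za42) (ka xa2 ya8 za36) (ka xa2 ya8 za43) (ka xa2 ya8 za44) (ka xa2 ya5 za9) (ka xa2 ya5 za12) (ka xa2 ya7 za2) (ka xa2 ya8 za45) (ka xa2 ya8 za46) (ka xa2 ya8 za47) (ka xa2 ya3 za46) (ka xa2 ya3 za47) (ka xa2 ya3 za48) (ka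 xa2 ya3 za49) (ka xa3 ya17 za36) (ka xa3 ya17 za37) (ka xa3 ya17 za38) (ka xa3 ya17 za39) (ka xa3 ya17 za40) (ka xa2 ya4 za49) (ka xa3 ya17 za41) (ka xa2 ya9 za2) (ka xa2 ya9 za3) (ka xa2 ya9 za4) (ka xa2 ya9 za5) (ka xa2 ya8 za48) (ka xa2 ya5 za39) (ka xa2 ya5 za42) (ka xa2 ya5 za44)) (@D3.rec (fun _ => Pt) (ka xa2 ya7 za15) (ka xa2 ya9 za6) (ka xa2 ya9 za7) (ka xa2 ya5 za23) (ka xa2 ya4 za15) (ka xa2 ya4 za16) (ka xa2 ya4 za17) (ka xa2 ya4 za18) (ka xa2 ya4 za19) (ka xa2 ya4 za21) (ka xa3 ya18 za9) (ka xa3 ya18 za10) (ka xa3 ya18 za11) (ka xa3 ya11 za31) (ka xa3 ya18 za12) (ka xa3 ya18 za13) (ka xa3 ya18 za14) (ka xa3 ya18 za15) (ka xa2 ya5 za26) (ka xa2 ya9 za14) (ka xa2 ya9 za15) (ka xa2 ya9 za16) (ka xa2 ya9 za17) (ka xa2 ya9 za8) (ka xa2 ya9 za18) (ka xa2 ya9 za9) (ka xa2 ya4 za28) (ka xa2 ya4 za29)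 (ka xa3 ya18 za33) (ka xa3 ya18 za34) (ka xa3 ya17 za26) (ka xa3 ya18 za35) (ka xa2 ya9 za23) (ka xa2 ya9 za24) (ka xa2 ya9 za25) (ka xa2 ya8 za38) (ka xa2 ya9 za26) (ka xa2 ya4 za36) (ka xa2 ya4 za37) (ka xa2 ya4 za39) (ka xa3 ya18 za45) (ka xa3 ya17 za11) (ka xa3 ya18 za46) (ka xa3 ya18 za47) (ka xa3 ya17 za12) (ka xa3 ya18 za48) (ka xa2 ya8 za37) (ka xa2 ya4 za47) (ka xa2 ya4 za48) (ka xa2 ya4 za50) (ka xa3 ya19 za2)) (@D3.rec (fun _ => Pt) (ka xa3 ya17 za35) (ka xa3 ya19 za3) (ka xa3 ya19 za4) (ka xa3 ya17 za50) (ka xa3 ya19 za5) (ka xa2 ya9 za37) (ka xa2 ya9 za38) (ka xa2 ya9 za39) (ka xa2 ya9 za40) (ka xa2 ya9 za0) (ka xa2 ya5 za8) (ka xa2 ya5 za10) (ka xa2 ya5 za11) (ka xa2 ya5 za13) (ka xa3 ya19 za18) (ka xa3 ya19 za19) (ka xa3 ya17 za29) (ka xa3 ya8 za49) (ka xa3 ya19 za20) (ka xa3 ya17 za30) (ka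 xa3 ya19 za21) (ka xa3 ya17 za31) (ka xa2 ya8 za49) (ka xa2 ya8 za50) (ka xa2 ya5 za22) (ka xa2 ya5 za24) (ka xa2 ya5 za25) (ka xa2 ya5 za27) (ka xa3 ya19 za29) (ka xa3 ya19 za30) (ka xa3 ya18 za8) (ka xa3 ya19 za31) (ka xa3 ya18 za27) (ka xa3 ya19 za32) (ka xa3 ya18 za29) (ka xa2 ya10 za0) (ka xa2 ya10 za1) (ka xa2 ya10 za2) (ka xa2 ya10 za3) (ka xa2 ya9 za11) (ka xa2 ya10 za4) (ka xa2 ya9 za13) (ka xa2 ya5 za37) (ka xa2 ya5 za38) (ka xa2 ya5 za41) (ka xa2 ya5 za43) (ka xa3 ya19 za49) (ka xa3 ya19 za50) (ka xa3 ya18 za2) (ka xa3 ya20 za0) (ka xa3 ya18 za3)) (@D3.rec (fun _ => Pt) (ka xa3 ya9 za28) (ka xa3 ya3 za43) (ka xa3 ya20 za1) (ka xa3 ya20 za2) (ka xa3 ya18 za4) (ka xa3 ya18 za5) (ka xa2 ya9 za10) (ka xa2 ya9 za12) (ka xa2 ya6 za5) (ka xa2 ya6 za6) (ka xa2 ya6 za8) (ka xa2 ya6 za9) (ka xa2 ya6 za10)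 (ka xa2 ya6 za11) (ka xa3 ya20 za13) (ka xa3 ya20 za14) (ka xa3 ya6 za29) (ka xa3 ya20 za15) (ka xa3 ya6 za30) (ka xa3 ya20 za16) (ka xa3 ya20 za17) (ka xa3 ya20 za18) (ka xa3 ya20 za19) (ka xa3 ya20 za20) (ka xa2 ya10 za28) (ka xa2 ya10 za29) (ka xa2 ya10 za30) (ka xa2 ya10 za31) (ka xa2 ya10 za32) (ka xa2 ya25 za29) (ka xa2 ya25 za30) (ka xa2 ya6 za22) (ka xa2 ya6 za23) (ka xa2 ya6 za24) (ka xa2 ya6 za25) (ka xa2 ya6 za26) (ka xa3 ya20 za41) (ka xa3 ya20 za42) (ka xa3 ya20 za43) (ka xa3 ya20 za44) (ka xa3 ya20 za45) (ka xa2 ya6 za31) (ka xa2 ya6 za33) (ka xa2 ya6 za34) (ka xa2 ya6 za36) (ka xa3 ya21 za0) (ka xa3 ya21 za1) (ka xa3 ya8 za29) (ka xa3 ya8 za28) (ka xa3 ya21 za2) (ka xa3 ya16 za33)) (@D3.rec (fun _ => Pt) (ka xa3 ya21 za3) (ka xa3 ya17 za13) (ka xa2 ya8 za13) (ka xa2 ya8 za39) (ka xa2 ya6 za46)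 (ka xa2 ya6 za47) (ka xa2 ya6 za50) (ka xa2 ya7 za1) (ka xa3 ya21 za11) (ka xa3 ya21 za12) (ka xa3 ya8 za9) (ka xa3 ya21 za13) (ka xa3 ya9 za1) (ka xa3 ya8 za50) (ka xa3 ya3 za26) (ka xa3 ya21 za14) (ka xa3 ya16 za47) (ka xa3 ya16 za46) (ka xa3 ya17 za32) (ka xa2 ya8 za27) (ka xa2 ya8 za25) (ka xa2 ya9 za1) (ka xa2 ya7 za11) (ka xa3 ya9 za34) (ka xa3 ya9 za31) (ka xa3 ya9 za30) (ka xa3 ya3 za44) (ka xa2 ya7 za20) (ka xa2 ya7 za21) (ka xa2 ya7 za24) (ka xa3 ya21 za30) (ka xa3 ya21 za31) (ka xa3 ya7 za43) (ka xa3 ya7 za31) (ka xa3 ya2 za47) (ka xa3 ya3 za15) (ka xa3 ya21 za32) (ka xa3 ya16 za23) (ka xa3 ya16 za32) (ka xa2 ya8 za1) (ka xa2 ya8 za12) (ka xa2 ya7 za33) (ka xa3 ya21 za43) (ka xa3 ya8 za8) (ka xa3 ya3 za4) (ka xa3 ya3 za27) (ka xa3 ya16 za45) (ka xa2 ya26 za47) (ka xa2 ya8 za24) (ka xa2 ya8 za26)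 (ka xa3 ya3 za46))
def f_a_3 : D2 → D3 → Pt := @D2.rec (fun _ => D3 → Pt) (@D3.rec (fun _ => Pt) (ka xa3 ya0 za0) (ka xa3 ya0 za1) (ka xa3 ya0 za2) (ka xa3 ya16 za17) (ka xa3 ya16 za18) (ka xa3 ya16 za19) (ka xa3 ya16 za20) (ka xa3 ya16 za21) (ka xa3 ya16 za22) (ka xa3 ya16 za24) (ka xa3 ya16 za25) (ka xa3 ya16 za26) (ka xa3 ya0 za12) (ka xa3 ya16 za30) (ka xa3 ya16 za31) (ka xa3 ya16 za34) (ka xa3 ya16 za35) (ka xa3 ya16 za36) (ka xa3 ya21 za42) (ka xa3 ya0 za19) (ka xa3 ya16 za43) (ka xa3 ya16 za44) (ka xa3 ya16 za48) (ka xa3 ya16 za49) (ka xa3 ya16 za50) (ka xa3 ya22 za1) (ka xa3 ya17 za16) (ka xa3 ya21 za25) (ka xa3 ya17 za10) (ka xa3 ya17 za14) (ka xa3 ya17 za15) (ka xa3 ya17 za28) (ka xa3 ya18 za44) (ka xa3 ya17 za33) (ka xa3 ya17 za34) (ka xa3 ya18 za0) (ka xa3 ya18 za1) (ka xa3 ya19 za15) (ka xa3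 ya19 za17) (ka xa3 ya18 za6) (ka xa3 ya18 za7) (ka xa3 ya18 za31) (ka xa3 ya18 za30) (ka xa3 ya18 za32) (ka xa3 ya19 za46) (ka xa3 ya19 za47) (ka xa3 ya19 za48) (ka xa2 ya9 za21) (ka xa2 ya9 za22) (ka xa3 ya18 za43) (ka xa3 ya18 za42)) (@D3.rec (fun _ => Pt) (ka xa3 ya19 za14) (ka xa2 ya9 za29) (ka xa2 ya9 za30) (ka xa2 ya9 za31) (ka xa2 ya9 za34) (ka xa2 ya9 za35) (ka xa2 ya9 za36) (ka xa3 ya19 za16) (ka xa3 ya19 za13) (ka xa2 ya9 za44) (ka xa2 ya9 za45) (ka xa2 ya9 za49) (ka xa2 ya9 za50) (ka xa3 ya19 za44) (ka xa3 ya19 za43) (ka xa3 ya19 za45) (ka xa2 ya10 za7) (ka xa2 ya10 za8) (ka xa3 ya1 za18) (ka xa3 ya1 za19) (ka xa2 ya10 za17) (ka xa2 ya10 za18) (ka xa2 ya10 za19) (ka xa2 ya10 za20) (ka xa2 ya10 za21) (ka xa2 ya10 za23) (ka xa2 ya10 za24) (ka xa2 ya10 za25) (ka xa2 ya10 za26) (ka xa2 ya10 za27)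 (ka xa3 ya22 za21) (ka xa3 ya22 za22) (ka xa3 ya22 za23) (ka xa3 ya22 za24) (ka xa3 ya22 za25) (ka xa3 ya6 za24) (ka xa3 ya20 za35) (ka xa3 ya20 za34) (ka xa3 ya20 za33) (ka xa3 ya20 za36) (ka xa3 ya1 za40) (ka xa3 ya1 za41) (ka xa3 ya1 za42) (ka xa2 ya10 za40) (ka xa2 ya10 za41) (ka xa2 ya10 za42) (ka xa2 ya10 za43) (ka xa2 ya10 za47) (ka xa2 ya10 za48) (ka xa2 ya11 za0) (ka xa2 ya11 za2)) (@D3.rec (fun _ => Pt) (ka xa3 ya2 za0) (ka xa3 ya2 za1) (ka xa3 ya2 za2) (ka xa3 ya2 za3) (ka xa3 ya2 za4) (ka xa3 ya2 za5) (ka xa3 ya22 za40) (ka xa3 ya2 za7) (ka xa3 ya2 za8) (ka xa3 ya2 za9) (ka xa3 ya2 za10) (ka xa3 ya22 za48) (ka xa3 ya2 za12) (ka xa3 ya2 za13) (ka xa2 ya11 za14) (ka xa3 ya23 za2) (ka xa3 ya2 za16) (ka xa3 ya2 za17) (ka xa3 ya2 za18) (ka xa2 ya11 za17) (ka xa3 ya23 za9) (ka xa3 ya2 za21) (ka xa3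 ya2 za22) (ka xa3 ya2 za23) (ka xa2 ya11 za21) (ka xa3 ya23 za16) (ka xa3 ya23 za17) (ka xa3 ya2 za27) (ka xa3 ya2 za28) (ka xa3 ya2 za29) (ka xa3 ya2 za30) (ka xa2 ya11 za26) (ka xa2 ya11 za27) (ka xa3 ya23 za27) (ka xa3 ya23 za28) (ka xa3 ya23 za29) (ka xa3 ya23 za30) (ka xa3 ya2 za37) (ka xa3 ya2 za38) (ka xa3 ya2 za39) (ka xa3 ya2 za40) (ka xa3 ya2 za41) (ka xa3 ya2 za42) (ka xa3 ya2 za43) (ka xa3 ya23 za46) (ka xa3 ya2 za45) (ka xa3 ya2 za46) (ka xa2 ya26 za34) (ka xa3 ya2 za48) (ka xa3 ya2 za49) (ka xa2 ya11 za37)) (@D3.rec (fun _ => Pt) (ka xa3 ya24 za4) (ka xa3 ya3 za1) (ka xa3 ya3 za2) (ka xa3 ya3 za3) (ka xa2 ya26 za44) (ka xa3 ya3 za5) (ka xa3 ya3 za6) (ka xa3 ya3 za7) (ka xa2 ya11 za44) (ka xa3 ya24 za17) (ka xa3 ya24 za18) (ka xa3 ya3 za11) (ka xa3 ya3 za12) (ka xa3 ya3 za13) (ka xa3 ya3 za14)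 (ka xa2 ya26 za35) (ka xa3 ya3 za16) (ka xa3 ya3 za17) (ka xa3 ya3 za18) (ka xa2 ya12 za1) (ka xa3 ya24 za34) (ka xa3 ya24 za35) (ka xa3 ya3 za22) (ka xa3 ya3 za23) (ka xa3 ya3 za24) (ka xa3 ya3 za25) (ka xa2 ya26 za14) (ka xa2 ya26 za45) (ka xa3 ya3 za28) (ka xa3 ya3 za29) (ka xa3 ya3 za30) (ka xa3 ya3 za31) (ka xa2 ya12 za10) (ka xa2 ya12 za11) (ka xa3 ya25 za3) (ka xa3 ya25 za4) (ka xa3 ya25 za5) (ka xa3 ya25 za6) (ka xa3 ya3 za38) (ka xa3 ya3 za39) (ka xa3 ya3 za40) (ka xa3 ya3 za41) (ka xa3 ya3 za42) (ka xa2 ya25 za1) (ka xa2 ya26 za26) (ka xa2 ya20 za19) (ka xa2 ya26 za50) (ka xa3 ya3 za47) (ka xa3 ya3 za48) (ka xa3 ya3 za49) (ka xa3 ya3 za50)) (@D3.rec (fun _ => Pt) (ka xa3 ya4 za0) (ka xa2 ya12 za24) (ka xa2 ya12 za25) (ka xa2 ya12 za26) (ka xa2 ya12 za27) (ka xa3 ya25 za32) (ka xa3 ya25 za33) (ka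 xa3 ya25 za34) (ka xa3 ya25 za35) (ka xa3 ya25 za36) (ka xa3 ya25 za37) (ka xa3 ya25 za38) (ka xa3 ya4 za12) (ka xa3 ya4 za13) (ka xa3 ya4 za14) (ka xa3 ya4 za15) (ka xa3 ya4 za16) (ka xa2 ya12 za33) (ka xa3 ya26 za5) (ka xa3 ya4 za19) (ka xa3 ya4 za20) (ka xa3 ya4 za21) (ka xa2 ya12 za37) (ka xa3 ya26 za12) (ka xa3 ya26 za13) (ka xa3 ya4 za25) (ka xa3 ya4 za26) (ka xa3 ya4 za27) (ka xa3 ya4 za28) (ka xa2 ya12 za42) (ka xa2 ya12 za43) (ka xa3 ya26 za23) (ka xa3 ya26 za24) (ka xa3 ya26 za25) (ka xa3 ya26 za26) (ka xa3 ya4 za35) (ka xa3 ya4 za36) (ka xa3 ya4 za37) (ka xa3 ya4 za38) (ka xa3 ya4 za39) (ka xa2 ya12 za49) (ka xa3 ya26 za39) (ka xa3 ya26 za40) (ka xa3 ya4 za43) (ka xa3 ya4 za44) (ka xa3 ya4 za45) (ka xa3 ya4 za46) (ka xa2 ya13 za3) (ka xa2 ya13 za4) (ka xa3 ya26 za50) (ka xa4 ya0 za0)) (@D3.rec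 (fun _ => Pt) (ka xa4 ya0 za1) (ka xa4 ya0 za2) (ka xa3 ya5 za2) (ka xa3 ya5 za3) (ka xa3 ya5 za4) (ka xa3 ya5 za5) (ka xa3 ya5 za6) (ka xa2 ya13 za11) (ka xa2 ya13 za12) (ka xa2 ya13 za13) (ka xa2 ya13 za14) (ka xa4 ya0 za16) (ka xa4 ya0 za17) (ka xa4 ya0 za18) (ka xa4 ya0 za19) (ka xa4 ya0 za20) (ka xa4 ya0 za21) (ka xa4 ya0 za22) (ka xa3 ya5 za18) (ka xa3 ya5 za19) (ka xa3 ya5 za20) (ka xa3 ya5 za21) (ka xa3 ya5 za22) (ka xa2 ya13 za21) (ka xa2 ya13 za22) (ka xa4 ya0 za40) (ka xa4 ya0 za41) (ka xa4 ya0 za42) (ka xa4 ya0 za43) (ka xa3 ya5 za29) (ka xa3 ya5 za30) (ka xa3 ya5 za31) (ka xa3 ya5 za32) (ka xa3 ya5 za33) (ka xa2 ya13 za29) (ka xa2 ya13 za30) (ka xa2 ya13 za31) (ka xa2 ya13 za32) (ka xa4 ya1 za6) (ka xa4 ya1 za7) (ka xa4 ya1 za8) (ka xa4 ya1 za9) (ka xa4 ya1 za10) (ka xa4 ya1 za11) (ka xa4 ya1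 za12) (ka xa3 ya5 za45) (ka xa3 ya5 za46) (ka xa3 ya5 za47) (ka xa3 ya5 za48) (ka xa3 ya5 za49) (ka xa3 ya25 za31)) (@D3.rec (fun _ => Pt) (ka xa2 ya13 za42) (ka xa2 ya13 za43) (ka xa2 ya13 za44) (ka xa2 ya13 za45) (ka xa2 ya13 za46) (ka xa2 ya13 za47) (ka xa2 ya13 za48) (ka xa4 ya1 za32) (ka xa4 ya1 za33) (ka xa4 ya1 za34) (ka xa4 ya1 za35) (ka xa4 ya1 za36) (ka xa4 ya1 za37) (ka xa4 ya1 za38) (ka xa4 ya1 za39) (ka xa4 ya1 za40) (ka xa4 ya1 za41) (ka xa3 ya6 za17) (ka xa3 ya6 za18) (ka xa3 ya6 za19) (ka xa3 ya6 za20) (ka xa3 ya6 za21) (ka xa3 ya6 za22) (ka xa3 ya6 za23) (ka xa3 ya1 za35) (ka xa3 ya6 za25) (ka xa3 ya6 za26) (ka xa3 ya6 za27) (ka xa2 ya14 za9) (ka xa2 ya25 za16) (ka xa2 ya25 za18) (ka xa4 ya2 za18) (ka xa3 ya6 za32) (ka xa3 ya6 za33) (ka xa3 ya6 za34) (ka xa3 ya6 za35) (ka xa2 ya14 za17)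 (ka xa2 ya14 za18) (ka xa2 ya14 za20) (ka xa2 ya18 za30) (ka xa2 ya18 za32) (ka xa4 ya2 za26) (ka xa2 ya18 za27) (ka xa4 ya2 za27) (ka xa2 ya18 za28) (ka xa3 ya6 za45) (ka xa3 ya6 za46) (ka xa3 ya6 za47) (ka xa3 ya6 za48) (ka xa3 ya6 za49) (ka xa3 ya6 za50)) (@D3.rec (fun _ => Pt) (ka xa3 ya7 za0) (ka xa2 ya14 za31) (ka xa2 ya14 za32) (ka xa2 ya14 za34) (ka xa2 ya14 za35) (ka xa2 ya14 za36) (ka xa2 ya14 za37) (ka xa4 ya2 za44) (ka xa4 ya2 za45) (ka xa2 ya19 za4) (ka xa4 ya2 za46) (ka xa2 ya19 za6) (ka xa4 ya2 za47) (ka xa4 ya2 za48) (ka xa4 ya2 za49) (ka xa4 ya2 za50) (ka xa2 ya18 za48) (ka xa4 ya3 za0) (ka xa2 ya18 za50) (ka xa3 ya7 za19) (ka xa3 ya7 za20) (ka xa3 ya7 za21) (ka xa3 ya7 za22) (ka xa3 ya7 za23) (ka xa3 ya7 za24) (ka xa3 ya7 za25) (ka xa3 ya7 za26) (ka xa3 ya7 za27) (ka xa3 ya7 za28) (ka xa3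 ya7 za29) (ka xa3 ya7 za30) (ka xa2 ya26 za33) (ka xa3 ya7 za32) (ka xa3 ya7 za33) (ka xa2 ya15 za0) (ka xa4 ya3 za36) (ka xa3 ya7 za36) (ka xa3 ya7 za37) (ka xa3 ya7 za38) (ka xa3 ya7 za39) (ka xa3 ya7 za40) (ka xa3 ya7 za41) (ka xa3 ya7 za42) (ka xa2 ya26 za32) (ka xa3 ya7 za44) (ka xa3 ya7 za45) (ka xa3 ya7 za46) (ka xa2 ya15 za10) (ka xa4 ya4 za2) (ka xa4 ya4 za3) (ka xa3 ya7 za50)) (@D3.rec (fun _ => Pt) (ka xa3 ya8 za0) (ka xa3 ya8 za1) (ka xa3 ya8 za2) (ka xa3 ya8 za3) (ka xa3 ya8 za4) (ka xa3 ya8 za5) (ka xa3 ya8 za6) (ka xa3 ya8 za7) (ka xa2 ya26 za43) (ka xa2 ya26 za10) (ka xa3 ya8 za10) (ka xa3 ya8 za11) (ka xa3 ya8 za12) (ka xa3 ya8 za13) (ka xa2 ya15 za23) (ka xa2 ya15 za24) (ka xa3 ya24 za21) (ka xa4 ya4 za29) (ka xa3 ya24 za19) (ka xa4 ya4 za30) (ka xa3 ya8 za20) (ka xa3 ya8 za21) (ka xa3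 ya8 za22) (ka xa3 ya8 za23) (ka xa3 ya8 za24) (ka xa3 ya8 za25) (ka xa3 ya8 za26) (ka xa3 ya8 za27) (ka xa2 ya25 za48) (ka xa2 ya25 za47) (ka xa3 ya8 za30) (ka xa3 ya8 za31) (ka xa3 ya8 za32) (ka xa3 ya8 za33) (ka xa2 ya15 za36) (ka xa2 ya15 za37) (ka xa4 ya5 za4) (ka xa4 ya5 za5) (ka xa4 ya5 za6) (ka xa4 ya5 za7) (ka xa3 ya8 za40) (ka xa3 ya8 za41) (ka xa3 ya8 za42) (ka xa3 ya8 za43) (ka xa3 ya8 za44) (ka xa3 ya8 za45) (ka xa3 ya8 za46) (ka xa3 ya8 za47) (ka xa3 ya8 za48) (ka xa2 ya24 za17) (ka xa2 ya26 za13)) (@D3.rec (fun _ => Pt) (ka xa2 ya19 za41) (ka xa2 ya26 za12) (ka xa3 ya9 za2) (ka xa3 ya9 za3) (ka xa3 ya9 za4) (ka xa3 ya9 za5) (ka xa3 ya9 za6) (ka xa2 ya16 za2) (ka xa2 ya16 za3) (ka xa2 ya16 za4) (ka xa2 ya16 za5) (ka xa4 ya5 za38) (ka xa4 ya5 za39) (ka xa4 ya5 za40) (ka xa4 ya5 za41) (ka xa4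 ya5 za42) (ka xa4 ya5 za43) (ka xa4 ya5 za44) (ka xa3 ya9 za18) (ka xa3 ya9 za19) (ka xa3 ya9 za20) (ka xa3 ya9 za21) (ka xa3 ya9 za22) (ka xa3 ya9 za23) (ka xa3 ya9 za24) (ka xa3 ya9 za25) (ka xa3 ya9 za26) (ka xa3 ya9 za27) (ka xa2 ya25 za0) (ka xa2 ya18 za10) (ka xa2 ya26 za25) (ka xa2 ya26 za24) (ka xa2 ya20 za17) (ka xa2 ya20 za20) (ka xa2 ya26 za23) (ka xa3 ya9 za35) (ka xa3 ya9 za36) (ka xa3 ya9 za37) (ka xa3 ya9 za38) (ka xa3 ya9 za39) (ka xa2 ya17 za50) (ka xa2 ya16 za28) (ka xa2 ya16 za29) (ka xa2 ya16 za30) (ka xa2 ya16 za31) (ka xa2 ya16 za32) (ka xa2 ya16 za33) (ka xa2 ya16 za34) (ka xa4 ya6 za34) (ka xa4 ya6 za35) (ka xa4 ya6 za36)) (@D3.rec (fun _ => Pt) (ka xa4 ya6 za37) (ka xa4 ya6 za38) (ka xa4 ya6 za39) (ka xa4 ya6 za40) (ka xa4 ya6 za41) (ka xa4 ya6 za42) (ka xa4 ya6 za43) (ka xa3 ya10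 za7) (ka xa3 ya10 za8) (ka xa3 ya10 za9) (ka xa3 ya10 za10) (ka xa3 ya10 za11) (ka xa3 ya10 za12) (ka xa3 ya10 za13) (ka xa2 ya16 za41) (ka xa2 ya16 za42) (ka xa4 ya7 za17) (ka xa4 ya7 za18) (ka xa4 ya7 za19) (ka xa4 ya7 za20) (ka xa3 ya10 za20) (ka xa3 ya10 za21) (ka xa3 ya10 za22) (ka xa3 ya10 za23) (ka xa3 ya10 za24) (ka xa2 ya16 za49) (ka xa2 ya16 za50) (ka xa2 ya17 za0) (ka xa2 ya17 za1) (ka xa4 ya7 za34) (ka xa4 ya7 za35) (ka xa4 ya7 za36) (ka xa4 ya7 za37) (ka xa4 ya7 za38) (ka xa4 ya7 za39) (ka xa4 ya7 za40) (ka xa3 ya10 za36) (ka xa3 ya10 za37) (ka xa3 ya10 za38) (ka xa3 ya10 za39) (ka xa3 ya10 za40) (ka xa2 ya17 za9) (ka xa2 ya17 za10) (ka xa2 ya17 za11) (ka xa2 ya17 za12) (ka xa4 ya8 za8) (ka xa4 ya8 za9) (ka xa4 ya8 za10) (ka xa4 ya8 za11) (ka xa4 ya8 za12) (ka xa4 ya8 za13)) (@D3.rec (fun _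 => Pt) (ka xa4 ya8 za14) (ka xa3 ya11 za1) (ka xa3 ya11 za2) (ka xa3 ya11 za3) (ka xa3 ya11 za4) (ka xa3 ya11 za5) (ka xa4 ya5 za37) (ka xa2 ya17 za22) (ka xa2 ya17 za23) (ka xa2 ya17 za24) (ka xa2 ya17 za25) (ka xa2 ya17 za26) (ka xa2 ya17 za27) (ka xa2 ya17 za28) (ka xa4 ya8 za33) (ka xa4 ya8 za34) (ka xa4 ya8 za35) (ka xa4 ya5 za26) (ka xa4 ya8 za36) (ka xa4 ya8 za37) (ka xa4 ya8 za38) (ka xa4 ya8 za39) (ka xa4 ya8 za40) (ka xa4 ya8 za41) (ka xa3 ya11 za24) (ka xa3 ya11 za25) (ka xa3 ya11 za26) (ka xa3 ya11 za27) (ka xa3 ya11 za28) (ka xa3 ya11 za29) (ka xa3 ya11 za30) (ka xa2 ya23 za13) (ka xa2 ya17 za38) (ka xa2 ya17 za39) (ka xa2 ya17 za40) (ka xa2 ya17 za41) (ka xa2 ya17 za42) (ka xa2 ya17 za43) (ka xa2 ya17 za44) (ka xa4 ya9 za16) (ka xa4 ya9 za17) (ka xa4 ya9 za18) (ka xa4 ya6 za33) (ka xa4 ya9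 za19) (ka xa4 ya9 za20) (ka xa4 ya9 za21) (ka xa4 ya9 za22) (ka xa4 ya9 za23) (ka xa4 ya9 za24) (ka xa3 ya11 za49) (ka xa3 ya11 za50)) (@D3.rec (fun _ => Pt) (ka xa3 ya12 za0) (ka xa3 ya12 za1) (ka xa3 ya12 za2) (ka xa3 ya12 za3) (ka xa3 ya12 za4) (ka xa4 ya6 za32) (ka xa2 ya18 za7) (ka xa2 ya18 za8) (ka xa2 ya18 za9) (ka xa2 ya18 za11) (ka xa2 ya18 za12) (ka xa2 ya18 za13) (ka xa2 ya18 za14) (ka xa2 ya18 za15) (ka xa2 ya18 za16) (ka xa4 ya9 za50) (ka xa4 ya10 za0) (ka xa4 ya10 za1) (ka xa4 ya10 za2) (ka xa4 ya10 za3) (ka xa4 ya6 za18) (ka xa4 ya10 za4) (ka xa3 ya25 za20) (ka xa4 ya6 za19) (ka xa4 ya10 za5) (ka xa4 ya10 za6) (ka xa4 ya10 za7) (ka xa4 ya10 za8) (ka xa4 ya10 za9) (ka xa4 ya10 za10) (ka xa4 ya10 za11) (ka xa3 ya12 za31) (ka xa3 ya12 za32) (ka xa3 ya12 za33) (ka xa3 ya12 za34) (ka xa3 ya12 za35)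 (ka xa3 ya12 za36) (ka xa3 ya12 za37) (ka xa3 ya12 za38) (ka xa2 ya18 za29) (ka xa2 ya18 za31) (ka xa4 ya2 za34) (ka xa4 ya2 za33) (ka xa4 ya2 za35) (ka xa4 ya10 za45) (ka xa4 ya10 za46) (ka xa4 ya2 za29) (ka xa4 ya2 za28) (ka xa4 ya2 za30) (ka xa3 ya12 za49) (ka xa3 ya12 za50)) (@D3.rec (fun _ => Pt) (ka xa3 ya13 za0) (ka xa3 ya13 za1) (ka xa3 ya13 za2) (ka xa3 ya13 za3) (ka xa3 ya13 za4) (ka xa3 ya13 za5) (ka xa2 ya18 za46) (ka xa2 ya18 za47) (ka xa2 ya18 za49) (ka xa2 ya19 za0) (ka xa2 ya19 za1) (ka xa2 ya19 za2) (ka xa2 ya19 za3) (ka xa2 ya19 za5) (ka xa4 ya11 za16) (ka xa4 ya11 za17) (ka xa4 ya11 za18) (ka xa4 ya11 za19) (ka xa4 ya3 za12) (ka xa4 ya3 za14) (ka xa4 ya3 za15) (ka xa4 ya11 za20) (ka xa4 ya11 za21) (ka xa4 ya11 za22) (ka xa4 ya11 za23) (ka xa4 ya3 za5) (ka xa4 ya11 za24) (ka xa4 ya3 za6)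 (ka xa4 ya3 za7) (ka xa3 ya13 za29) (ka xa3 ya13 za30) (ka xa3 ya13 za31) (ka xa3 ya13 za32) (ka xa3 ya13 za33) (ka xa3 ya13 za34) (ka xa3 ya13 za35) (ka xa3 ya13 za36) (ka xa4 ya12 za6) (ka xa3 ya13 za38) (ka xa3 ya13 za39) (ka xa2 ya19 za19) (ka xa2 ya19 za20) (ka xa2 ya19 za21) (ka xa2 ya19 za22) (ka xa2 ya19 za23) (ka xa2 ya19 za24) (ka xa2 ya19 za25) (ka xa4 ya12 za9) (ka xa4 ya12 za10) (ka xa4 ya12 za11) (ka xa4 ya4 za48)) (@D3.rec (fun _ => Pt) (ka xa4 ya12 za12) (ka xa4 ya12 za13) (ka xa4 ya12 za14) (ka xa4 ya12 za15) (ka xa4 ya12 za16) (ka xa4 ya12 za17) (ka xa3 ya14 za6) (ka xa3 ya14 za7) (ka xa3 ya14 za8) (ka xa3 ya14 za9) (ka xa3 ya14 za10) (ka xa3 ya14 za11) (ka xa3 ya14 za12) (ka xa2 ya19 za38) (ka xa2 ya19 za39) (ka xa2 ya19 za40) (ka xa2 ya19 za42) (ka xa2 ya19 za43) (ka xa2 ya19 za44) (ka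 xa2 ya19 za45) (ka xa2 ya19 za46) (ka xa2 ya19 za47) (ka xa4 ya12 za42) (ka xa4 ya12 za43) (ka xa4 ya12 za44) (ka xa4 ya12 za45) (ka xa4 ya12 za46) (ka xa4 ya5 za29) (ka xa4 ya12 za47) (ka xa3 ya24 za47) (ka xa4 ya5 za30) (ka xa4 ya12 za48) (ka xa4 ya12 za49) (ka xa4 ya12 za50) (ka xa4 ya13 za0) (ka xa4 ya13 za1) (ka xa4 ya13 za2) (ka xa4 ya13 za3) (ka xa3 ya14 za38) (ka xa3 ya14 za39) (ka xa3 ya14 za40) (ka xa3 ya14 za41) (ka xa3 ya14 za42) (ka xa3 ya14 za43) (ka xa3 ya14 za44) (ka xa3 ya14 za45) (ka xa2 ya20 za13) (ka xa2 ya20 za14) (ka xa2 ya20 za15) (ka xa2 ya20 za16) (ka xa2 ya20 za18)) (@D3.rec (fun _ => Pt) (ka xa2 ya20 za21) (ka xa2 ya20 za22) (ka xa2 ya20 za23) (ka xa2 ya20 za24) (ka xa2 ya20 za25) (ka xa2 ya20 za26) (ka xa2 ya20 za27) (ka xa4 ya13 za37) (ka xa4 ya13 za38) (ka xa4 ya13 za39) (ka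 xa4 ya13 za40) (ka xa4 ya13 za41) (ka xa4 ya13 za42) (ka xa4 ya6 za23) (ka xa4 ya13 za43) (ka xa4 ya6 za21) (ka xa4 ya6 za24) (ka xa3 ya25 za23) (ka xa3 ya25 za24) (ka xa4 ya13 za44) (ka xa4 ya13 za45) (ka xa4 ya13 za46) (ka xa4 ya13 za47) (ka xa4 ya13 za48) (ka xa4 ya13 za49) (ka xa4 ya13 za50) (ka xa4 ya14 za0) (ka xa3 ya15 za27) (ka xa3 ya15 za28) (ka xa3 ya15 za29) (ka xa3 ya15 za30) (ka xa3 ya15 za31) (ka xa3 ya15 za32) (ka xa3 ya15 za33) (ka xa3 ya15 za34) (ka xa4 ya14 za39) (ka xa3 ya15 za36) (ka xa3 ya15 za37) (ka xa2 ya20 za43) (ka xa2 ya20 za44) (ka xa2 ya20 za45) (ka xa2 ya20 za46) (ka xa2 ya20 za47) (ka xa2 ya20 za48) (ka xa2 ya20 za49) (ka xa2 ya20 za50) (ka xa4 ya14 za42) (ka xa4 ya14 za43) (ka xa4 ya14 za44) (ka xa4 ya14 za45) (ka xa4 ya14 za46)) (@D3.rec (fun _ => Pt) (ka xa4 ya14 za47) (ka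 xa4 ya14 za48) (ka xa4 ya14 za49) (ka xa4 ya15 za11) (ka xa4 ya15 za0) (ka xa4 ya15 za1) (ka xa3 ya16 za6) (ka xa3 ya16 za7) (ka xa3 ya16 za8) (ka xa3 ya16 za9) (ka xa4 ya15 za14) (ka xa3 ya16 za11) (ka xa2 ya21 za8) (ka xa4 ya15 za15) (ka xa3 ya16 za14) (ka xa2 ya21 za11) (ka xa2 ya21 za13) (ka xa3 ya0 za3) (ka xa3 ya0 za4) (ka xa3 ya0 za5) (ka xa3 ya0 za6) (ka xa3 ya0 za7) (ka xa3 ya0 za8) (ka xa2 ya26 za37) (ka xa3 ya0 za9) (ka xa3 ya0 za10) (ka xa3 ya0 za11) (ka xa2 ya21 za25) (ka xa4 ya15 za23) (ka xa4 ya15 za22) (ka xa3 ya0 za13) (ka xa3 ya0 za14) (ka xa2 ya26 za38) (ka xa2 ya25 za50) (ka xa3 ya0 za15) (ka xa3 ya0 za16) (ka xa3 ya0 za17) (ka xa2 ya21 za36) (ka xa2 ya21 za37) (ka xa4 ya15 za30) (ka xa4 ya15 za29) (ka xa4 ya15 za31) (ka xa4 ya15 za28) (ka xa3 ya0 za20) (ka xa3 ya0 za21) (ka xa2 ya26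 za46) (ka xa2 ya26 za17) (ka xa2 ya26 za16) (ka xa3 ya0 za22) (ka xa3 ya0 za23) (ka xa3 ya0 za24)) (@D3.rec (fun _ => Pt) (ka xa2 ya22 za0) (ka xa2 ya22 za1) (ka xa2 ya22 za2) (ka xa2 ya22 za3) (ka xa4 ya15 za39) (ka xa3 ya23 za3) (ka xa4 ya15 za40) (ka xa4 ya15 za38) (ka xa4 ya15 za41) (ka xa4 ya15 za37) (ka xa3 ya0 za28) (ka xa2 ya23 za41) (ka xa2 ya23 za44) (ka xa2 ya26 za1) (ka xa3 ya0 za29) (ka xa3 ya0 za30) (ka xa3 ya0 za26) (ka xa2 ya22 za16) (ka xa2 ya22 za17) (ka xa2 ya22 za18) (ka xa2 ya22 za19) (ka xa4 ya15 za49) (ka xa4 ya15 za50) (ka xa4 ya15 za47) (ka xa4 ya15 za46) (ka xa4 ya16 za0) (ka xa2 ya23 za30) (ka xa4 ya15 za36) (ka xa3 ya0 za31) (ka xa2 ya24 za16) (ka xa2 ya24 za19) (ka xa2 ya24 za21) (ka xa2 ya26 za18) (ka xa3 ya0 za33) (ka xa3 ya0 za34) (ka xa2 ya24 za0) (ka xa2 ya22 za36) (ka xa2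 ya22 za37) (ka xa2 ya22 za38) (ka xa2 ya22 za39) (ka xa2 ya22 za40) (ka xa2 ya22 za42) (ka xa4 ya16 za11) (ka xa4 ya16 za12) (ka xa4 ya16 za13) (ka xa4 ya8 za7) (ka xa4 ya16 za9) (ka xa4 ya16 za14) (ka xa4 ya16 za8) (ka xa4 ya16 za15) (ka xa2 ya24 za3)) (@D3.rec (fun _ => Pt) (ka xa3 ya0 za35) (ka xa3 ya0 za36) (ka xa2 ya24 za48) (ka xa2 ya24 za50) (ka xa2 ya25 za4) (ka xa2 ya25 za5) (ka xa3 ya0 za39) (ka xa3 ya0 za40) (ka xa2 ya24 za30) (ka xa2 ya23 za10) (ka xa2 ya23 za11) (ka xa2 ya23 za12) (ka xa2 ya23 za14) (ka xa2 ya23 za15) (ka xa2 ya23 za16) (ka xa2 ya23 za17) (ka xa4 ya16 za32) (ka xa4 ya16 za33) (ka xa4 ya16 za34) (ka xa4 ya16 za35) (ka xa4 ya16 za36) (ka xa4 ya9 za15) (ka xa4 ya1 za5) (ka xa4 ya16 za29) (ka xa4 ya16 za28) (ka xa4 ya16 za37) (ka xa4 ya16 za38) (ka xa2 ya24 za32) (ka xa4 ya16 za39)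 (ka xa2 ya24 za34) (ka xa3 ya0 za42) (ka xa3 ya0 za41) (ka xa3 ya0 za43) (ka xa2 ya23 za28) (ka xa2 ya23 za29) (ka xa2 ya23 za31) (ka xa4 ya17 za3) (ka xa4 ya15 za48) (ka xa4 ya17 za4) (ka xa4 ya17 za5) (ka xa4 ya16 za5) (ka xa4 ya17 za6) (ka xa3 ya0 za50) (ka xa3 ya0 za49) (ka xa3 ya0 za32) (ka xa2 ya23 za40) (ka xa2 ya23 za42) (ka xa2 ya23 za43) (ka xa2 ya23 za45) (ka xa4 ya17 za10) (ka xa4 ya17 za11)) (@D3.rec (fun _ => Pt) (ka xa4 ya15 za45) (ka xa4 ya4 za46) (ka xa2 ya23 za50) (ka xa2 ya24 za1) (ka xa2 ya24 za2) (ka xa2 ya24 za4) (ka xa4 ya17 za15) (ka xa4 ya17 za16) (ka xa4 ya16 za10) (ka xa4 ya17 za17) (ka xa4 ya16 za23) (ka xa4 ya17 za18) (ka xa4 ya16 za24) (ka xa3 ya1 za8) (ka xa3 ya1 za0) (ka xa3 ya0 za37) (ka xa3 ya1 za7) (ka xa3 ya0 za38) (ka xa2 ya24 za14) (ka xa2 ya24 za15) (ka xa2 ya24 za18)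 (ka xa2 ya24 za20) (ka xa4 ya17 za24) (ka xa4 ya17 za25) (ka xa4 ya16 za6) (ka xa4 ya17 za26) (ka xa4 ya16 za7) (ka xa4 ya5 za25) (ka xa3 ya24 za45) (ka xa2 ya24 za28) (ka xa2 ya24 za29) (ka xa2 ya24 za31) (ka xa2 ya24 za33) (ka xa4 ya17 za33) (ka xa4 ya17 za34) (ka xa4 ya16 za30) (ka xa4 ya17 za35) (ka xa4 ya16 za31) (ka xa4 ya17 za36) (ka xa4 ya17 za37) (ka xa4 ya16 za50) (ka xa4 ya17 za1) (ka xa4 ya17 za2) (ka xa3 ya1 za14) (ka xa3 ya1 za13) (ka xa3 ya1 za15) (ka xa3 ya0 za44) (ka xa3 ya0 za45) (ka xa3 ya0 za46) (ka xa2 ya24 za46) (ka xa2 ya24 za47)) (@D3.rec (fun _ => Pt) (ka xa2 ya24 za49) (ka xa2 ya25 za2) (ka xa2 ya25 za3) (ka xa4 ya17 za47) (ka xa4 ya17 za48) (ka xa4 ya17 za49) (ka xa4 ya17 za50) (ka xa4 ya16 za26) (ka xa4 ya16 za25) (ka xa4 ya16 za27) (ka xa4 ya6 za17) (ka xa4 ya6 za16) (ka xa3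 ya25 za19) (ka xa2 ya25 za14) (ka xa2 ya25 za15) (ka xa2 ya25 za17) (ka xa2 ya25 za19) (ka xa2 ya25 za20) (ka xa2 ya25 za21) (ka xa2 ya25 za22) (ka xa2 ya25 za23) (ka xa4 ya18 za11) (ka xa4 ya18 za12) (ka xa4 ya18 za13) (ka xa4 ya18 za14) (ka xa4 ya2 za19) (ka xa4 ya0 za46) (ka xa4 ya2 za20) (ka xa4 ya17 za45) (ka xa4 ya18 za15) (ka xa4 ya18 za16) (ka xa4 ya18 za17) (ka xa4 ya18 za18) (ka xa3 ya1 za38) (ka xa3 ya1 za37) (ka xa3 ya1 za36) (ka xa3 ya1 za39) (ka xa3 ya20 za37) (ka xa3 ya20 za38) (ka xa3 ya20 za39) (ka xa3 ya20 za40) (ka xa2 ya25 za36) (ka xa2 ya25 za37) (ka xa2 ya25 za38) (ka xa2 ya25 za39) (ka xa2 ya25 za40) (ka xa4 ya18 za39) (ka xa4 ya18 za40) (ka xa4 ya18 za41) (ka xa4 ya18 za42) (ka xa4 ya18 za43)) (@D3.rec (fun _ => Pt) (ka xa2 ya25 za45) (ka xa2 ya25 za46) (ka xa2 ya25 za49) (ka xa2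 ya26 za0) (ka xa4 ya18 za49) (ka xa4 ya18 za50) (ka xa4 ya3 za48) (ka xa4 ya19 za0) (ka xa4 ya4 za49) (ka xa4 ya4 za47) (ka xa3 ya24 za28) (ka xa2 ya26 za8) (ka xa2 ya26 za9) (ka xa2 ya26 za11) (ka xa2 ya26 za15) (ka xa4 ya19 za7) (ka xa4 ya19 za8) (ka xa4 ya19 za9) (ka xa4 ya4 za23) (ka xa4 ya4 za21) (ka xa4 ya5 za31) (ka xa4 ya5 za28) (ka xa4 ya5 za27) (ka xa3 ya24 za46) (ka xa4 ya15 za35) (ka xa3 ya0 za27) (ka xa4 ya6 za22) (ka xa4 ya6 za20) (ka xa3 ya25 za21) (ka xa3 ya25 za22) (ka xa2 ya26 za30) (ka xa2 ya26 za31) (ka xa2 ya26 za36) (ka xa4 ya19 za25) (ka xa4 ya19 za26) (ka xa4 ya19 za27) (ka xa4 ya3 za32) (ka xa4 ya3 za47) (ka xa3 ya23 za43) (ka xa3 ya24 za0) (ka xa3 ya24 za29) (ka xa4 ya15 za27) (ka xa3 ya0 za18) (ka xa2 ya26 za42) (ka xa4 ya4 za22) (ka xa4 ya19 za38) (ka xa4 ya4 za20) (ka xa3 ya24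 za11) (ka xa3 ya24 za12) (ka xa3 ya24 za48) (ka xa3 ya21 za50)) (@D3.rec (fun _ => Pt) (ka xa3 ya22 za0) (ka xa3 ya0 za25) (ka xa3 ya25 za25) (ka xa3 ya22 za3) (ka xa3 ya22 za4) (ka xa3 ya22 za5) (ka xa3 ya22 za6) (ka xa4 ya15 za17) (ka xa4 ya15 za18) (ka xa4 ya15 za19) (ka xa4 ya15 za20) (ka xa4 ya15 za21) (ka xa3 ya22 za12) (ka xa4 ya15 za25) (ka xa4 ya15 za26) (ka xa3 ya22 za15) (ka xa4 ya15 za34) (ka xa3 ya22 za41) (ka xa3 ya22 za18) (ka xa3 ya22 za19) (ka xa3 ya22 za20) (ka xa3 ya1 za30) (ka xa3 ya1 za31) (ka xa3 ya1 za32) (ka xa3 ya1 za33) (ka xa3 ya1 za34) (ka xa4 ya18 za32) (ka xa4 ya18 za31) (ka xa4 ya2 za15) (ka xa3 ya22 za29) (ka xa3 ya22 za30) (ka xa3 ya22 za31) (ka xa3 ya22 za32) (ka xa3 ya22 za33) (ka xa3 ya22 za34) (ka xa3 ya22 za35) (ka xa3 ya22 za36) (ka xa4 ya20 za15) (ka xa3 ya22 za38)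 (ka xa3 ya22 za39) (ka xa3 ya2 za6) (ka xa3 ya22 za17) (ka xa3 ya22 za42) (ka xa3 ya22 za43) (ka xa3 ya22 za44) (ka xa4 ya20 za24) (ka xa3 ya22 za46) (ka xa3 ya22 za47) (ka xa3 ya2 za11) (ka xa4 ya20 za29) (ka xa3 ya22 za50)) (@D3.rec (fun _ => Pt) (ka xa3 ya23 za0) (ka xa3 ya23 za1) (ka xa3 ya2 za15) (ka xa3 ya17 za5) (ka xa4 ya20 za36) (ka xa3 ya23 za5) (ka xa3 ya23 za6) (ka xa3 ya23 za7) (ka xa3 ya23 za8) (ka xa3 ya2 za20) (ka xa4 ya20 za43) (ka xa4 ya20 za44) (ka xa3 ya23 za12) (ka xa3 ya23 za13) (ka xa3 ya23 za14) (ka xa3 ya23 za15) (ka xa3 ya2 za25) (ka xa3 ya2 za26) (ka xa4 ya21 za3) (ka xa4 ya21 za4) (ka xa4 ya21 za5) (ka xa4 ya21 za6) (ka xa3 ya23 za22) (ka xa3 ya23 za23) (ka xa3 ya23 za24) (ka xa3 ya23 za25) (ka xa3 ya23 za26) (ka xa3 ya2 za33) (ka xa3 ya2 za34) (ka xa3 ya2 za35) (ka xa3 ya2 za36)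 (ka xa4 ya21 za20) (ka xa4 ya21 za21) (ka xa4 ya21 za22) (ka xa4 ya21 za23) (ka xa4 ya21 za24) (ka xa4 ya21 za25) (ka xa4 ya21 za26) (ka xa3 ya23 za38) (ka xa3 ya23 za39) (ka xa3 ya23 za40) (ka xa3 ya23 za41) (ka xa3 ya23 za42) (ka xa3 ya21 za38) (ka xa3 ya23 za44) (ka xa3 ya23 za45) (ka xa3 ya2 za44) (ka xa4 ya21 za48) (ka xa3 ya23 za48) (ka xa3 ya23 za49) (ka xa3 ya23 za50)) (@D3.rec (fun _ => Pt) (ka xa3 ya21 za39) (ka xa3 ya24 za1) (ka xa3 ya24 za2) (ka xa3 ya24 za3) (ka xa3 ya3 za0) (ka xa4 ya22 za10) (ka xa4 ya22 za11) (ka xa3 ya24 za7) (ka xa3 ya24 za8) (ka xa3 ya24 za9) (ka xa3 ya24 za10) (ka xa3 ya21 za47) (ka xa3 ya21 za48) (ka xa3 ya24 za13) (ka xa3 ya24 za14) (ka xa3 ya24 za15) (ka xa3 ya24 za16) (ka xa3 ya3 za9) (ka xa3 ya3 za10) (ka xa3 ya8 za18) (ka xa4 ya22 za30) (ka xa3 ya8 za16) (ka xa4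 ya22 za31) (ka xa3 ya24 za23) (ka xa3 ya24 za24) (ka xa3 ya24 za25) (ka xa3 ya24 za26) (ka xa3 ya24 za27) (ka xa3 ya21 za10) (ka xa3 ya21 za40) (ka xa3 ya24 za30) (ka xa3 ya24 za31) (ka xa3 ya24 za32) (ka xa3 ya24 za33) (ka xa3 ya3 za20) (ka xa3 ya3 za21) (ka xa4 ya23 za0) (ka xa4 ya23 za1) (ka xa4 ya23 za2) (ka xa4 ya23 za3) (ka xa3 ya24 za40) (ka xa3 ya24 za41) (ka xa3 ya24 za42) (ka xa3 ya24 za43) (ka xa3 ya24 za44) (ka xa3 ya19 za28) (ka xa3 ya21 za23) (ka xa3 ya14 za29) (ka xa3 ya21 za49) (ka xa3 ya24 za49) (ka xa3 ya24 za50)) (@D3.rec (fun _ => Pt) (ka xa3 ya25 za0) (ka xa3 ya25 za1) (ka xa3 ya25 za2) (ka xa3 ya3 za34) (ka xa3 ya3 za35) (ka xa3 ya3 za36) (ka xa3 ya3 za37) (ka xa4 ya23 za29) (ka xa4 ya23 za30) (ka xa4 ya23 za31) (ka xa4 ya23 za32) (ka xa4 ya23 za33) (ka xa4 ya23 za34) (ka xa4 ya23 za35)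 (ka xa3 ya25 za14) (ka xa3 ya25 za15) (ka xa3 ya25 za16) (ka xa3 ya25 za17) (ka xa3 ya25 za18) (ka xa3 ya20 za12) (ka xa3 ya12 za22) (ka xa3 ya21 za28) (ka xa3 ya21 za29) (ka xa3 ya15 za17) (ka xa3 ya15 za18) (ka xa3 ya22 za2) (ka xa3 ya25 za26) (ka xa3 ya25 za27) (ka xa3 ya25 za28) (ka xa3 ya25 za29) (ka xa3 ya25 za30) (ka xa3 ya5 za50) (ka xa3 ya4 za5) (ka xa3 ya4 za6) (ka xa3 ya4 za7) (ka xa3 ya4 za8) (ka xa3 ya4 za9) (ka xa3 ya4 za10) (ka xa3 ya4 za11) (ka xa4 ya24 za21) (ka xa4 ya24 za22) (ka xa4 ya24 za23) (ka xa4 ya24 za24) (ka xa4 ya24 za25) (ka xa4 ya24 za26) (ka xa4 ya24 za27) (ka xa4 ya24 za28) (ka xa4 ya24 za29) (ka xa4 ya24 za30) (ka xa3 ya25 za49) (ka xa3 ya25 za50)) (@D3.rec (fun _ => Pt) (ka xa3 ya26 za0) (ka xa3 ya26 za1) (ka xa3 ya26 za2) (ka xa3 ya26 za3) (ka xa3 ya26 za4) (ka xa3 ya4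 za18) (ka xa4 ya25 za4) (ka xa4 ya25 za5) (ka xa3 ya26 za8) (ka xa3 ya26 za9) (ka xa3 ya26 za10) (ka xa3 ya26 za11) (ka xa3 ya4 za23) (ka xa3 ya4 za24) (ka xa4 ya25 za15) (ka xa4 ya25 za16) (ka xa4 ya25 za17) (ka xa4 ya25 za18) (ka xa3 ya26 za18) (ka xa3 ya26 za19) (ka xa3 ya26 za20) (ka xa3 ya26 za21) (ka xa3 ya26 za22) (ka xa3 ya4 za31) (ka xa3 ya4 za32) (ka xa3 ya4 za33) (ka xa3 ya4 za34) (ka xa4 ya25 za32) (ka xa4 ya25 za33) (ka xa4 ya25 za34) (ka xa4 ya25 za35) (ka xa4 ya25 za36) (ka xa4 ya25 za37) (ka xa4 ya25 za38) (ka xa3 ya26 za34) (ka xa3 ya26 za35) (ka xa3 ya26 za36) (ka xa3 ya26 za37) (ka xa3 ya26 za38) (ka xa3 ya4 za41) (ka xa3 ya4 za42) (ka xa4 ya26 za5) (ka xa4 ya26 za6) (ka xa4 ya26 za7) (ka xa4 ya26 za8) (ka xa3 ya26 za45) (ka xa3 ya26 za46) (ka xa3 ya26 za47) (ka xa3 ya26 za48) (ka xa3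 ya26 za49) (ka xa3 ya4 za49))
def f_a_4 : D2 → D3 → Pt := @D2.rec (fun _ => D3 → Pt) (@D3.rec (fun _ => Pt) (ka xa3 ya4 za50) (ka xa3 ya5 za0) (ka xa3 ya5 za1) (ka xa4 ya26 za22) (ka xa4 ya26 za23) (ka xa4 ya26 za24) (ka xa4 ya26 za25) (ka xa4 ya26 za26) (ka xa4 ya26 za27) (ka xa4 ya26 za28) (ka xa4 ya0 za10) (ka xa4 ya0 za11) (ka xa4 ya0 za12) (ka xa4 ya0 za13) (ka xa4 ya0 za14) (ka xa4 ya23 za28) (ka xa3 ya5 za11) (ka xa3 ya5 za12) (ka xa3 ya5 za13) (ka xa3 ya5 za14) (ka xa3 ya5 za15) (ka xa3 ya5 za16) (ka xa3 ya5 za17) (ka xa4 ya26 za48) (ka xa4 ya26 za49) (ka xa4 ya26 za50) (ka xa5 ya0 za0) (ka xa5 ya0 za1) (ka xa5 ya0 za2) (ka xa5 ya0 za3) (ka xa5 ya0 za4) (ka xa5 ya0 za5) (ka xa5 ya0 za6) (ka xa4 ya0 za33) (ka xa4 ya0 za34) (ka xa4 ya0 za35) (ka xa4 ya0 za36) (ka xa4 ya0 za37) (ka xa4 ya0 za38) (ka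 xa4 ya0 za39) (ka xa3 ya5 za25) (ka xa3 ya5 za26) (ka xa3 ya5 za27) (ka xa3 ya5 za28) (ka xa5 ya0 za32) (ka xa5 ya0 za33) (ka xa3 ya20 za26) (ka xa5 ya0 za34) (ka xa5 ya0 za35) (ka xa5 ya0 za36) (ka xa5 ya0 za37)) (@D3.rec (fun _ => Pt) (ka xa4 ya1 za0) (ka xa4 ya1 za1) (ka xa4 ya1 za2) (ka xa4 ya1 za3) (ka xa4 ya1 za4) (ka xa3 ya18 za22) (ka xa3 ya5 za38) (ka xa3 ya5 za39) (ka xa3 ya5 za40) (ka xa3 ya5 za41) (ka xa3 ya5 za42) (ka xa3 ya5 za43) (ka xa3 ya5 za44) (ka xa5 ya1 za6) (ka xa5 ya1 za7) (ka xa5 ya1 za8) (ka xa5 ya1 za9) (ka xa5 ya1 za10) (ka xa5 ya1 za11) (ka xa5 ya1 za12) (ka xa5 ya1 za13) (ka xa5 ya1 za14) (ka xa5 ya1 za15) (ka xa4 ya1 za23) (ka xa4 ya1 za24) (ka xa4 ya1 za25) (ka xa4 ya1 za26) (ka xa4 ya1 za27) (ka xa4 ya1 za28) (ka xa4 ya1 za29) (ka xa4 ya24 za19) (ka xa4 ya24 za20) (ka xa3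 ya6 za7) (ka xa3 ya6 za8) (ka xa3 ya6 za9) (ka xa3 ya6 za10) (ka xa3 ya6 za11) (ka xa3 ya6 za12) (ka xa3 ya6 za13) (ka xa3 ya6 za14) (ka xa3 ya6 za15) (ka xa3 ya6 za16) (ka xa5 ya1 za44) (ka xa5 ya1 za45) (ka xa5 ya1 za46) (ka xa5 ya1 za47) (ka xa5 ya1 za48) (ka xa5 ya1 za49) (ka xa5 ya1 za50) (ka xa4 ya24 za5) (ka xa5 ya2 za0)) (@D3.rec (fun _ => Pt) (ka xa5 ya2 za1) (ka xa5 ya2 za2) (ka xa5 ya2 za3) (ka xa5 ya2 za4) (ka xa5 ya2 za5) (ka xa5 ya2 za6) (ka xa5 ya2 za7) (ka xa4 ya2 za7) (ka xa4 ya2 za8) (ka xa4 ya2 za9) (ka xa4 ya2 za10) (ka xa4 ya2 za11) (ka xa4 ya2 za12) (ka xa4 ya2 za13) (ka xa4 ya2 za14) (ka xa3 ya22 za28) (ka xa4 ya2 za16) (ka xa4 ya2 za17) (ka xa3 ya6 za31) (ka xa3 ya20 za25) (ka xa3 ya20 za27) (ka xa4 ya2 za21) (ka xa4 ya2 za22) (ka xa4 ya2 za23) (ka xa4 ya2 za24) (ka xa4 ya2 za25)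 (ka xa3 ya6 za41) (ka xa3 ya6 za43) (ka xa3 ya12 za47) (ka xa3 ya12 za46) (ka xa3 ya12 za48) (ka xa5 ya3 za0) (ka xa5 ya3 za1) (ka xa3 ya12 za42) (ka xa3 ya12 za41) (ka xa3 ya12 za43) (ka xa4 ya2 za36) (ka xa4 ya2 za37) (ka xa4 ya2 za38) (ka xa4 ya2 za39) (ka xa4 ya2 za40) (ka xa4 ya2 za41) (ka xa4 ya2 za42) (ka xa4 ya2 za43) (ka xa3 ya7 za7) (ka xa3 ya7 za8) (ka xa3 ya7 za10) (ka xa3 ya7 za12) (ka xa3 ya7 za13) (ka xa3 ya7 za14) (ka xa3 ya7 za15)) (@D3.rec (fun _ => Pt) (ka xa3 ya7 za17) (ka xa5 ya3 za22) (ka xa5 ya3 za23) (ka xa5 ya3 za24) (ka xa5 ya3 za25) (ka xa3 ya13 za25) (ka xa3 ya13 za27) (ka xa3 ya13 za28) (ka xa5 ya3 za26) (ka xa5 ya3 za27) (ka xa5 ya3 za28) (ka xa5 ya3 za29) (ka xa3 ya13 za18) (ka xa5 ya3 za30) (ka xa3 ya13 za19) (ka xa3 ya13 za20) (ka xa4 ya3 za16) (ka xa4 ya3 za17) (ka xa4 ya3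 za18) (ka xa4 ya3 za19) (ka xa4 ya3 za20) (ka xa4 ya3 za21) (ka xa4 ya3 za22) (ka xa4 ya3 za23) (ka xa5 ya4 za12) (ka xa4 ya3 za25) (ka xa4 ya3 za26) (ka xa4 ya3 za27) (ka xa4 ya3 za28) (ka xa4 ya3 za29) (ka xa4 ya3 za30) (ka xa4 ya3 za31) (ka xa3 ya21 za36) (ka xa4 ya3 za33) (ka xa4 ya3 za34) (ka xa4 ya3 za35) (ka xa3 ya7 za35) (ka xa5 ya4 za17) (ka xa5 ya4 za18) (ka xa4 ya3 za39) (ka xa4 ya3 za40) (ka xa4 ya3 za41) (ka xa4 ya3 za42) (ka xa4 ya3 za43) (ka xa4 ya3 za44) (ka xa4 ya3 za45) (ka xa4 ya3 za46) (ka xa3 ya21 za37) (ka xa3 ya21 za6) (ka xa4 ya3 za49) (ka xa4 ya3 za50)) (@D3.rec (fun _ => Pt) (ka xa4 ya4 za0) (ka xa4 ya4 za1) (ka xa3 ya7 za48) (ka xa3 ya7 za49) (ka xa4 ya22 za14) (ka xa5 ya4 za30) (ka xa4 ya22 za12) (ka xa5 ya4 za31) (ka xa4 ya4 za8) (ka xa4 ya4 za9) (ka xa4 ya4 za10) (ka xa4 ya4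 za11) (ka xa4 ya4 za12) (ka xa4 ya4 za13) (ka xa4 ya4 za14) (ka xa4 ya4 za15) (ka xa4 ya4 za16) (ka xa4 ya4 za17) (ka xa4 ya4 za18) (ka xa4 ya4 za19) (ka xa3 ya21 za46) (ka xa3 ya21 za19) (ka xa3 ya21 za44) (ka xa3 ya21 za18) (ka xa4 ya4 za24) (ka xa4 ya4 za25) (ka xa4 ya4 za26) (ka xa4 ya4 za27) (ka xa4 ya4 za28) (ka xa3 ya8 za17) (ka xa3 ya8 za19) (ka xa4 ya22 za35) (ka xa5 ya5 za1) (ka xa5 ya5 za2) (ka xa4 ya22 za32) (ka xa4 ya22 za21) (ka xa5 ya5 za3) (ka xa4 ya4 za37) (ka xa4 ya4 za38) (ka xa4 ya4 za39) (ka xa4 ya4 za40) (ka xa4 ya4 za41) (ka xa4 ya4 za42) (ka xa4 ya4 za43) (ka xa4 ya4 za44) (ka xa4 ya4 za45) (ka xa3 ya19 za1) (ka xa3 ya21 za9) (ka xa3 ya13 za50) (ka xa3 ya21 za8) (ka xa4 ya4 za50)) (@D3.rec (fun _ => Pt) (ka xa4 ya5 za0) (ka xa4 ya5 za1) (ka xa4 ya5 za2) (ka xa4 ya5 za3) (ka xa3 ya8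 za36) (ka xa3 ya8 za37) (ka xa3 ya8 za38) (ka xa3 ya8 za39) (ka xa5 ya5 za33) (ka xa5 ya5 za34) (ka xa5 ya5 za35) (ka xa5 ya5 za36) (ka xa5 ya5 za37) (ka xa5 ya5 za38) (ka xa5 ya5 za39) (ka xa4 ya5 za15) (ka xa4 ya5 za16) (ka xa4 ya5 za17) (ka xa4 ya5 za18) (ka xa4 ya5 za19) (ka xa4 ya5 za20) (ka xa4 ya5 za21) (ka xa4 ya5 za22) (ka xa4 ya5 za23) (ka xa4 ya5 za24) (ka xa3 ya19 za27) (ka xa3 ya11 za17) (ka xa3 ya21 za22) (ka xa3 ya21 za21) (ka xa3 ya14 za27) (ka xa3 ya14 za30) (ka xa3 ya21 za20) (ka xa4 ya5 za32) (ka xa4 ya5 za33) (ka xa4 ya5 za34) (ka xa4 ya5 za35) (ka xa4 ya5 za36) (ka xa3 ya11 za6) (ka xa3 ya9 za11) (ka xa3 ya9 za12) (ka xa3 ya9 za13) (ka xa3 ya9 za14) (ka xa3 ya9 za15) (ka xa3 ya9 za16) (ka xa3 ya9 za17) (ka xa5 ya6 za27) (ka xa5 ya6 za28) (ka xa5 ya6 za29) (ka xa5 ya6 za30) (ka xa5 ya6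 za31) (ka xa5 ya6 za32)) (@D3.rec (fun _ => Pt) (ka xa5 ya6 za33) (ka xa5 ya6 za34) (ka xa5 ya6 za35) (ka xa5 ya6 za36) (ka xa4 ya6 za4) (ka xa4 ya6 za5) (ka xa4 ya6 za6) (ka xa4 ya6 za7) (ka xa4 ya6 za8) (ka xa4 ya6 za9) (ka xa4 ya6 za10) (ka xa4 ya6 za11) (ka xa4 ya6 za12) (ka xa4 ya6 za13) (ka xa4 ya6 za14) (ka xa4 ya6 za15) (ka xa3 ya20 za11) (ka xa3 ya20 za10) (ka xa3 ya12 za20) (ka xa3 ya12 za23) (ka xa3 ya21 za27) (ka xa3 ya15 za15) (ka xa3 ya21 za26) (ka xa3 ya15 za13) (ka xa3 ya15 za16) (ka xa4 ya6 za25) (ka xa4 ya6 za26) (ka xa4 ya6 za27) (ka xa4 ya6 za28) (ka xa4 ya6 za29) (ka xa4 ya6 za30) (ka xa4 ya6 za31) (ka xa3 ya12 za5) (ka xa3 ya11 za42) (ka xa3 ya9 za48) (ka xa3 ya9 za49) (ka xa3 ya9 za50) (ka xa3 ya10 za0) (ka xa3 ya10 za1) (ka xa3 ya10 za2) (ka xa3 ya10 za3) (ka xa3 ya10 za4) (ka xa3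 ya10 za5) (ka xa3 ya10 za6) (ka xa5 ya7 za40) (ka xa5 ya7 za41) (ka xa5 ya7 za42) (ka xa5 ya7 za43) (ka xa5 ya7 za44) (ka xa5 ya7 za45) (ka xa5 ya7 za46)) (@D3.rec (fun _ => Pt) (ka xa5 ya1 za5) (ka xa5 ya7 za47) (ka xa5 ya7 za48) (ka xa5 ya7 za49) (ka xa5 ya7 za50) (ka xa5 ya8 za0) (ka xa5 ya8 za1) (ka xa5 ya8 za2) (ka xa5 ya8 za3) (ka xa4 ya7 za9) (ka xa4 ya7 za10) (ka xa4 ya7 za11) (ka xa4 ya7 za12) (ka xa4 ya7 za13) (ka xa4 ya7 za14) (ka xa4 ya7 za15) (ka xa4 ya7 za16) (ka xa3 ya10 za16) (ka xa3 ya10 za17) (ka xa3 ya10 za18) (ka xa3 ya10 za19) (ka xa5 ya8 za38) (ka xa5 ya8 za39) (ka xa5 ya8 za40) (ka xa5 ya8 za41) (ka xa5 ya8 za42) (ka xa5 ya8 za43) (ka xa5 ya8 za44) (ka xa4 ya7 za28) (ka xa4 ya7 za29) (ka xa4 ya7 za30) (ka xa4 ya7 za31) (ka xa4 ya7 za32) (ka xa5 ya5 za32) (ka xa3 ya10 za29) (ka xa3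 ya10 za30) (ka xa3 ya10 za31) (ka xa3 ya10 za32) (ka xa3 ya10 za33) (ka xa3 ya10 za34) (ka xa3 ya10 za35) (ka xa5 ya9 za12) (ka xa5 ya9 za13) (ka xa5 ya9 za14) (ka xa5 ya5 za21) (ka xa5 ya9 za15) (ka xa5 ya9 za16) (ka xa5 ya9 za17) (ka xa5 ya9 za18) (ka xa5 ya9 za19) (ka xa5 ya9 za20)) (@D3.rec (fun _ => Pt) (ka xa4 ya8 za0) (ka xa4 ya8 za1) (ka xa4 ya8 za2) (ka xa4 ya8 za3) (ka xa4 ya8 za4) (ka xa4 ya8 za5) (ka xa4 ya8 za6) (ka xa3 ya17 za45) (ka xa3 ya10 za45) (ka xa3 ya10 za46) (ka xa3 ya10 za47) (ka xa3 ya10 za48) (ka xa3 ya10 za49) (ka xa3 ya10 za50) (ka xa3 ya11 za0) (ka xa5 ya9 za46) (ka xa5 ya9 za47) (ka xa5 ya9 za48) (ka xa5 ya6 za26) (ka xa5 ya9 za49) (ka xa5 ya9 za50) (ka xa5 ya10 za0) (ka xa5 ya10 za1) (ka xa5 ya10 za2) (ka xa5 ya10 za3) (ka xa4 ya8 za25) (ka xa4 ya8 za26) (ka xa4 ya8 za27) (ka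 xa4 ya8 za28) (ka xa4 ya8 za29) (ka xa4 ya8 za30) (ka xa4 ya8 za31) (ka xa5 ya6 za25) (ka xa3 ya11 za14) (ka xa3 ya11 za15) (ka xa3 ya11 za16) (ka xa3 ya11 za18) (ka xa3 ya11 za19) (ka xa3 ya11 za20) (ka xa3 ya11 za21) (ka xa3 ya11 za22) (ka xa3 ya11 za23) (ka xa5 ya10 za29) (ka xa5 ya10 za30) (ka xa5 ya10 za31) (ka xa5 ya10 za32) (ka xa5 ya10 za33) (ka xa5 ya6 za11) (ka xa5 ya10 za34) (ka xa4 ya23 za17) (ka xa5 ya6 za12)) (@D3.rec (fun _ => Pt) (ka xa5 ya10 za35) (ka xa5 ya10 za36) (ka xa5 ya10 za37) (ka xa5 ya10 za38) (ka xa5 ya10 za39) (ka xa5 ya10 za40) (ka xa5 ya10 za41) (ka xa4 ya9 za7) (ka xa4 ya9 za8) (ka xa4 ya9 za9) (ka xa4 ya9 za10) (ka xa4 ya9 za11) (ka xa4 ya9 za12) (ka xa4 ya9 za13) (ka xa4 ya9 za14) (ka xa3 ya18 za21) (ka xa3 ya11 za39) (ka xa3 ya11 za40) (ka xa3 ya11 za41) (ka xa3 ya11 za43)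 (ka xa3 ya11 za44) (ka xa3 ya11 za45) (ka xa3 ya11 za46) (ka xa3 ya11 za47) (ka xa3 ya11 za48) (ka xa5 ya3 za10) (ka xa5 ya11 za26) (ka xa5 ya11 za27) (ka xa5 ya11 za28) (ka xa5 ya11 za29) (ka xa5 ya7 za38) (ka xa5 ya11 za30) (ka xa5 ya7 za39) (ka xa5 ya11 za31) (ka xa5 ya11 za32) (ka xa5 ya11 za33) (ka xa5 ya3 za3) (ka xa5 ya11 za34) (ka xa5 ya11 za35) (ka xa5 ya11 za36) (ka xa4 ya9 za40) (ka xa4 ya9 za41) (ka xa4 ya9 za42) (ka xa4 ya9 za43) (ka xa4 ya9 za44) (ka xa4 ya9 za45) (ka xa4 ya9 za46) (ka xa4 ya9 za47) (ka xa5 ya7 za36) (ka xa5 ya7 za37) (ka xa3 ya12 za15)) (@D3.rec (fun _ => Pt) (ka xa3 ya12 za16) (ka xa3 ya12 za17) (ka xa3 ya12 za18) (ka xa3 ya12 za19) (ka xa3 ya12 za21) (ka xa3 ya12 za24) (ka xa3 ya12 za25) (ka xa3 ya12 za26) (ka xa3 ya12 za27) (ka xa3 ya12 za28) (ka xa3 ya12 za29) (ka xa3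 ya12 za30) (ka xa5 ya12 za20) (ka xa5 ya12 za21) (ka xa5 ya12 za22) (ka xa5 ya12 za23) (ka xa5 ya12 za24) (ka xa5 ya12 za25) (ka xa5 ya12 za26) (ka xa5 ya12 za27) (ka xa5 ya7 za19) (ka xa5 ya12 za28) (ka xa5 ya7 za17) (ka xa5 ya7 za20) (ka xa4 ya24 za4) (ka xa4 ya24 za6) (ka xa5 ya12 za29) (ka xa5 ya12 za30) (ka xa5 ya12 za31) (ka xa5 ya12 za32) (ka xa5 ya12 za33) (ka xa5 ya12 za34) (ka xa5 ya12 za35) (ka xa5 ya12 za36) (ka xa4 ya10 za34) (ka xa4 ya10 za35) (ka xa4 ya10 za36) (ka xa4 ya10 za37) (ka xa4 ya10 za38) (ka xa4 ya10 za39) (ka xa4 ya10 za40) (ka xa4 ya10 za41) (ka xa5 ya13 za29) (ka xa4 ya10 za43) (ka xa4 ya10 za44) (ka xa3 ya12 za44) (ka xa3 ya12 za45) (ka xa5 ya3 za9) (ka xa5 ya1 za28) (ka xa5 ya3 za7) (ka xa5 ya3 za8)) (@D3.rec (fun _ => Pt) (ka xa5 ya13 za32) (ka xa5 ya3 za4) (ka xa5 ya3 za5)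 (ka xa5 ya3 za2) (ka xa5 ya1 za16) (ka xa4 ya11 za5) (ka xa4 ya11 za6) (ka xa4 ya11 za7) (ka xa4 ya11 za8) (ka xa4 ya11 za9) (ka xa4 ya11 za10) (ka xa4 ya11 za11) (ka xa4 ya11 za12) (ka xa5 ya14 za4) (ka xa4 ya11 za14) (ka xa4 ya11 za15) (ka xa3 ya13 za14) (ka xa3 ya13 za15) (ka xa3 ya13 za16) (ka xa3 ya13 za17) (ka xa3 ya13 za21) (ka xa3 ya13 za22) (ka xa3 ya13 za23) (ka xa3 ya13 za24) (ka xa3 ya13 za26) (ka xa5 ya14 za7) (ka xa5 ya14 za8) (ka xa5 ya14 za9) (ka xa5 ya4 za0) (ka xa5 ya14 za10) (ka xa5 ya14 za11) (ka xa5 ya3 za44) (ka xa5 ya3 za46) (ka xa5 ya3 za48) (ka xa5 ya3 za50) (ka xa5 ya14 za12) (ka xa5 ya14 za13) (ka xa5 ya14 za14) (ka xa5 ya3 za37) (ka xa5 ya14 za15) (ka xa5 ya3 za38) (ka xa5 ya14 za16) (ka xa5 ya3 za39) (ka xa5 ya14 za43) (ka xa5 ya3 za40) (ka xa5 ya3 za34) (ka xa4 ya11 za46) (ka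 xa4 ya11 za47) (ka xa4 ya11 za48) (ka xa4 ya11 za49) (ka xa4 ya11 za50)) (@D3.rec (fun _ => Pt) (ka xa4 ya12 za0) (ka xa4 ya12 za1) (ka xa4 ya12 za2) (ka xa5 ya15 za4) (ka xa4 ya12 za4) (ka xa4 ya12 za5) (ka xa3 ya13 za37) (ka xa5 ya15 za7) (ka xa4 ya12 za8) (ka xa3 ya13 za47) (ka xa3 ya13 za48) (ka xa3 ya13 za49) (ka xa3 ya14 za0) (ka xa3 ya14 za1) (ka xa3 ya14 za2) (ka xa3 ya14 za3) (ka xa3 ya14 za4) (ka xa3 ya14 za5) (ka xa4 ya20 za48) (ka xa4 ya20 za46) (ka xa5 ya15 za10) (ka xa4 ya21 za9) (ka xa5 ya15 za11) (ka xa5 ya5 za24) (ka xa5 ya15 za12) (ka xa4 ya22 za44) (ka xa5 ya5 za25) (ka xa4 ya20 za45) (ka xa4 ya21 za7) (ka xa5 ya15 za13) (ka xa5 ya15 za14) (ka xa5 ya15 za15) (ka xa5 ya15 za16) (ka xa5 ya15 za17) (ka xa4 ya12 za34) (ka xa4 ya12 za35) (ka xa4 ya12 za36) (ka xa4 ya12 za37) (ka xa4 ya12 za38)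 (ka xa4 ya12 za39) (ka xa4 ya12 za40) (ka xa4 ya12 za41) (ka xa3 ya14 za22) (ka xa3 ya14 za23) (ka xa3 ya14 za24) (ka xa3 ya14 za25) (ka xa3 ya14 za26) (ka xa3 ya14 za28) (ka xa3 ya14 za31) (ka xa3 ya14 za32) (ka xa3 ya14 za33)) (@D3.rec (fun _ => Pt) (ka xa3 ya14 za34) (ka xa3 ya14 za35) (ka xa3 ya14 za36) (ka xa3 ya14 za37) (ka xa4 ya21 za13) (ka xa4 ya23 za10) (ka xa4 ya21 za34) (ka xa4 ya21 za10) (ka xa5 ya15 za45) (ka xa5 ya15 za46) (ka xa5 ya15 za47) (ka xa5 ya15 za48) (ka xa5 ya6 za16) (ka xa5 ya15 za49) (ka xa5 ya6 za14) (ka xa5 ya6 za17) (ka xa4 ya23 za20) (ka xa4 ya23 za21) (ka xa4 ya21 za28) (ka xa5 ya15 za50) (ka xa5 ya16 za0) (ka xa5 ya16 za1) (ka xa5 ya16 za2) (ka xa5 ya16 za3) (ka xa5 ya16 za4) (ka xa5 ya16 za5) (ka xa4 ya13 za26) (ka xa4 ya13 za27) (ka xa4 ya13 za28) (ka xa4 ya13 za29) (ka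 xa4 ya13 za30) (ka xa4 ya13 za31) (ka xa4 ya13 za32) (ka xa4 ya13 za33) (ka xa5 ya16 za44) (ka xa4 ya13 za35) (ka xa4 ya13 za36) (ka xa3 ya15 za7) (ka xa3 ya15 za8) (ka xa3 ya15 za9) (ka xa3 ya15 za10) (ka xa3 ya15 za11) (ka xa3 ya15 za12) (ka xa3 ya15 za14) (ka xa3 ya15 za19) (ka xa3 ya15 za20) (ka xa3 ya15 za21) (ka xa3 ya15 za22) (ka xa3 ya15 za23) (ka xa3 ya15 za24) (ka xa3 ya15 za25)) (@D3.rec (fun _ => Pt) (ka xa3 ya15 za26) (ka xa4 ya21 za32) (ka xa5 ya16 za47) (ka xa5 ya16 za48) (ka xa5 ya16 za49) (ka xa5 ya16 za50) (ka xa5 ya17 za0) (ka xa5 ya7 za24) (ka xa5 ya17 za1) (ka xa5 ya7 za26) (ka xa5 ya17 za2) (ka xa5 ya7 za23) (ka xa5 ya7 za27) (ka xa4 ya24 za8) (ka xa5 ya7 za25) (ka xa4 ya24 za10) (ka xa4 ya24 za11) (ka xa4 ya21 za27) (ka xa5 ya17 za3) (ka xa5 ya17 za4) (ka xa5 ya17 za5) (ka xa5 ya17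 za6) (ka xa5 ya17 za7) (ka xa5 ya17 za8) (ka xa5 ya17 za9) (ka xa5 ya17 za46) (ka xa5 ya17 za11) (ka xa5 ya17 za12) (ka xa4 ya14 za28) (ka xa4 ya14 za29) (ka xa4 ya14 za30) (ka xa4 ya14 za31) (ka xa4 ya14 za32) (ka xa4 ya14 za33) (ka xa4 ya14 za34) (ka xa4 ya14 za35) (ka xa5 ya18 za5) (ka xa4 ya14 za37) (ka xa4 ya14 za38) (ka xa3 ya15 za35) (ka xa5 ya18 za7) (ka xa4 ya14 za41) (ka xa3 ya15 za46) (ka xa3 ya15 za47) (ka xa3 ya15 za48) (ka xa3 ya15 za49) (ka xa3 ya15 za50) (ka xa3 ya16 za0) (ka xa3 ya16 za1) (ka xa3 ya16 za2) (ka xa5 ya18 za18)) (@D3.rec (fun _ => Pt) (ka xa3 ya16 za4) (ka xa3 ya16 za5) (ka xa5 ya18 za9) (ka xa5 ya18 za10) (ka xa5 ya18 za11) (ka xa5 ya18 za12) (ka xa5 ya18 za13) (ka xa5 ya18 za14) (ka xa5 ya18 za25) (ka xa5 ya18 za16) (ka xa5 ya18 za17) (ka xa3 ya16 za3) (ka xa5 ya18 za27)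 (ka xa5 ya18 za20) (ka xa3 ya16 za10) (ka xa3 ya16 za13) (ka xa5 ya18 za30) (ka xa3 ya22 za7) (ka xa3 ya22 za8) (ka xa3 ya22 za9) (ka xa3 ya22 za10) (ka xa3 ya22 za11) (ka xa3 ya16 za29) (ka xa3 ya16 za28) (ka xa5 ya4 za16) (ka xa3 ya22 za13) (ka xa3 ya22 za14) (ka xa3 ya21 za41) (ka xa3 ya16 za42) (ka xa3 ya16 za40) (ka xa3 ya16 za39) (ka xa3 ya16 za41) (ka xa5 ya4 za27) (ka xa4 ya20 za30) (ka xa3 ya22 za16) (ka xa3 ya21 za24) (ka xa3 ya17 za27) (ka xa3 ya17 za9) (ka xa3 ya17 za7) (ka xa3 ya17 za4) (ka xa3 ya17 za6) (ka xa3 ya17 za8) (ka xa5 ya5 za26) (ka xa5 ya4 za48) (ka xa4 ya20 za37) (ka xa3 ya19 za0) (ka xa3 ya17 za24) (ka xa3 ya17 za23) (ka xa3 ya18 za37) (ka xa3 ya17 za21) (ka xa3 ya17 za22)) (@D3.rec (fun _ => Pt) (ka xa3 ya17 za25) (ka xa5 ya18 za34) (ka xa5 ya18 za33) (ka xa5 ya18 za36) (ka xa5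 ya8 za37) (ka xa3 ya18 za40) (ka xa3 ya19 za24) (ka xa3 ya19 za26) (ka xa3 ya17 za48) (ka xa3 ya17 za46) (ka xa3 ya19 za8) (ka xa3 ya17 za42) (ka xa3 ya17 za43) (ka xa3 ya17 za44) (ka xa3 ya17 za47) (ka xa3 ya17 za49) (ka xa5 ya18 za45) (ka xa5 ya18 za42) (ka xa5 ya18 za46) (ka xa5 ya18 za41) (ka xa5 ya18 za47) (ka xa5 ya9 za45) (ka xa4 ya26 za21) (ka xa3 ya19 za10) (ka xa3 ya19 za12) (ka xa3 ya20 za8) (ka xa3 ya20 za7) (ka xa3 ya20 za9) (ka xa3 ya18 za24) (ka xa3 ya18 za23) (ka xa3 ya19 za35) (ka xa3 ya19 za37) (ka xa3 ya18 za16) (ka xa3 ya18 za17) (ka xa3 ya18 za18) (ka xa3 ya18 za19) (ka xa3 ya18 za20) (ka xa3 ya18 za25) (ka xa3 ya18 za26) (ka xa3 ya18 za28) (ka xa5 ya19 za9) (ka xa5 ya19 za10) (ka xa5 ya19 za5) (ka xa5 ya19 za4) (ka xa5 ya19 za11) (ka xa5 ya19 za12) (ka xa5 ya19 za13) (ka xa5 ya11 za25)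 (ka xa5 ya11 za24) (ka xa5 ya1 za4) (ka xa3 ya19 za40)) (@D3.rec (fun _ => Pt) (ka xa5 ya19 za14) (ka xa3 ya19 za41) (ka xa3 ya19 za42) (ka xa3 ya18 za36) (ka xa3 ya18 za38) (ka xa3 ya18 za39) (ka xa3 ya18 za41) (ka xa5 ya19 za28) (ka xa5 ya19 za29) (ka xa5 ya18 za35) (ka xa3 ya18 za49) (ka xa3 ya18 za50) (ka xa5 ya19 za31) (ka xa5 ya5 za20) (ka xa4 ya22 za42) (ka xa3 ya19 za6) (ka xa3 ya19 za7) (ka xa3 ya19 za9) (ka xa3 ya19 za11) (ka xa5 ya19 za35) (ka xa5 ya19 za36) (ka xa5 ya18 za43) (ka xa5 ya19 za37) (ka xa5 ya18 za44) (ka xa3 ya19 za22) (ka xa3 ya19 za23) (ka xa3 ya19 za25) (ka xa5 ya19 za41) (ka xa5 ya19 za42) (ka xa5 ya18 za40) (ka xa5 ya6 za10) (ka xa5 ya6 za9) (ka xa4 ya23 za16) (ka xa3 ya19 za33) (ka xa3 ya19 za34) (ka xa3 ya19 za36) (ka xa3 ya19 za38) (ka xa3 ya19 za39) (ka xa5 ya19 za50) (ka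 xa5 ya20 za0) (ka xa5 ya20 za1) (ka xa5 ya20 za2) (ka xa5 ya19 za7) (ka xa5 ya19 za6) (ka xa5 ya19 za8) (ka xa3 ya20 za28) (ka xa5 ya19 za27) (ka xa3 ya20 za3) (ka xa3 ya20 za4) (ka xa3 ya20 za5) (ka xa3 ya20 za6)) (@D3.rec (fun _ => Pt) (ka xa5 ya20 za11) (ka xa5 ya20 za12) (ka xa5 ya20 za13) (ka xa5 ya19 za3) (ka xa5 ya20 za14) (ka xa5 ya19 za2) (ka xa5 ya7 za15) (ka xa5 ya7 za18) (ka xa5 ya7 za16) (ka xa4 ya24 za2) (ka xa4 ya24 za3) (ka xa3 ya20 za21) (ka xa3 ya20 za22) (ka xa3 ya20 za23) (ka xa3 ya20 za24) (ka xa3 ya20 za29) (ka xa3 ya20 za30) (ka xa3 ya20 za31) (ka xa3 ya20 za32) (ka xa5 ya20 za28) (ka xa5 ya20 za29) (ka xa5 ya20 za30) (ka xa5 ya0 za44) (ka xa5 ya20 za31) (ka xa5 ya20 za10) (ka xa5 ya2 za44) (ka xa5 ya2 za45) (ka xa5 ya0 za43) (ka xa5 ya0 za38) (ka xa5 ya20 za32) (ka xa4 ya18 za30)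 (ka xa3 ya22 za27) (ka xa3 ya22 za26) (ka xa4 ya18 za33) (ka xa4 ya18 za34) (ka xa4 ya18 za35) (ka xa4 ya18 za36) (ka xa4 ya18 za37) (ka xa4 ya18 za38) (ka xa3 ya20 za46) (ka xa3 ya20 za47) (ka xa3 ya20 za48) (ka xa3 ya20 za49) (ka xa3 ya20 za50) (ka xa5 ya21 za1) (ka xa5 ya21 za2) (ka xa5 ya21 za3) (ka xa5 ya21 za4) (ka xa5 ya21 za5) (ka xa3 ya21 za4) (ka xa3 ya21 za5)) (@D3.rec (fun _ => Pt) (ka xa3 ya21 za7) (ka xa4 ya20 za31) (ka xa4 ya22 za15) (ka xa5 ya4 za25) (ka xa5 ya5 za23) (ka xa5 ya5 za22) (ka xa4 ya22 za43) (ka xa3 ya21 za15) (ka xa3 ya21 za16) (ka xa3 ya21 za17) (ka xa4 ya20 za38) (ka xa4 ya22 za36) (ka xa5 ya4 za46) (ka xa5 ya21 za17) (ka xa5 ya4 za45) (ka xa5 ya4 za42) (ka xa5 ya4 za44) (ka xa5 ya6 za15) (ka xa5 ya6 za13) (ka xa4 ya23 za18) (ka xa4 ya23 za19) (ka xa5 ya7 za22) (ka xa5 ya7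 za21) (ka xa4 ya24 za7) (ka xa4 ya24 za9) (ka xa3 ya21 za33) (ka xa3 ya21 za34) (ka xa3 ya21 za35) (ka xa4 ya20 za25) (ka xa4 ya21 za50) (ka xa5 ya4 za26) (ka xa5 ya21 za33) (ka xa5 ya4 za15) (ka xa5 ya4 za24) (ka xa4 ya22 za4) (ka xa4 ya21 za44) (ka xa4 ya22 za5) (ka xa4 ya22 za45) (ka xa3 ya21 za45) (ka xa5 ya4 za43) (ka xa4 ya22 za23) (ka xa5 ya4 za47) (ka xa4 ya22 za22) (ka xa4 ya22 za24) (ka xa4 ya23 za22) (ka xa4 ya19 za45) (ka xa4 ya19 za46) (ka xa4 ya19 za47) (ka xa4 ya19 za48) (ka xa5 ya18 za31) (ka xa4 ya20 za12)) (@D3.rec (fun _ => Pt) (ka xa4 ya20 za16) (ka xa4 ya20 za1) (ka xa4 ya20 za20) (ka xa4 ya20 za3) (ka xa4 ya20 za4) (ka xa4 ya20 za5) (ka xa4 ya20 za6) (ka xa4 ya20 za7) (ka xa4 ya20 za8) (ka xa4 ya20 za9) (ka xa4 ya20 za10) (ka xa4 ya20 za11) (ka xa4 ya19 za50) (ka xa4 ya20 za13) (ka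 xa4 ya20 za14) (ka xa3 ya22 za37) (ka xa4 ya20 za0) (ka xa4 ya20 za17) (ka xa4 ya20 za18) (ka xa4 ya20 za19) (ka xa4 ya20 za2) (ka xa4 ya20 za21) (ka xa4 ya20 za22) (ka xa4 ya20 za23) (ka xa3 ya22 za45) (ka xa4 ya19 za28) (ka xa4 ya20 za26) (ka xa4 ya20 za27) (ka xa4 ya20 za28) (ka xa3 ya22 za49) (ka xa4 ya15 za33) (ka xa4 ya19 za1) (ka xa4 ya20 za32) (ka xa4 ya20 za33) (ka xa4 ya20 za34) (ka xa4 ya20 za35) (ka xa3 ya23 za4) (ka xa4 ya15 za44) (ka xa4 ya19 za10) (ka xa4 ya20 za39) (ka xa4 ya20 za40) (ka xa4 ya20 za41) (ka xa4 ya20 za42) (ka xa3 ya23 za10) (ka xa3 ya23 za11) (ka xa4 ya12 za27) (ka xa4 ya12 za19) (ka xa5 ya22 za1) (ka xa4 ya12 za18) (ka xa4 ya20 za49) (ka xa4 ya20 za50)) (@D3.rec (fun _ => Pt) (ka xa4 ya21 za0) (ka xa4 ya21 za1) (ka xa4 ya21 za2) (ka xa3 ya23 za18) (ka xa3 ya23 za19) (ka xa3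 ya23 za20) (ka xa3 ya23 za21) (ka xa4 ya12 za28) (ka xa5 ya22 za8) (ka xa4 ya12 za21) (ka xa4 ya13 za7) (ka xa5 ya22 za9) (ka xa5 ya22 za10) (ka xa4 ya13 za4) (ka xa4 ya21 za14) (ka xa4 ya21 za15) (ka xa4 ya21 za16) (ka xa4 ya21 za17) (ka xa4 ya21 za18) (ka xa4 ya21 za19) (ka xa3 ya23 za31) (ka xa3 ya23 za32) (ka xa3 ya23 za33) (ka xa3 ya23 za34) (ka xa3 ya23 za35) (ka xa3 ya23 za36) (ka xa3 ya23 za37) (ka xa4 ya14 za17) (ka xa4 ya13 za18) (ka xa5 ya22 za23) (ka xa5 ya22 za24) (ka xa5 ya22 za25) (ka xa4 ya14 za1) (ka xa5 ya22 za26) (ka xa4 ya13 za6) (ka xa5 ya22 za27) (ka xa5 ya22 za28) (ka xa4 ya21 za37) (ka xa4 ya21 za38) (ka xa4 ya21 za39) (ka xa4 ya21 za40) (ka xa4 ya21 za41) (ka xa4 ya21 za42) (ka xa4 ya21 za43) (ka xa4 ya19 za35) (ka xa4 ya21 za45) (ka xa4 ya21 za46) (ka xa4 ya21 za47) (ka xa3 ya23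 za47) (ka xa5 ya23 za2) (ka xa4 ya19 za29)) (@D3.rec (fun _ => Pt) (ka xa4 ya22 za0) (ka xa4 ya22 za1) (ka xa4 ya22 za2) (ka xa4 ya22 za3) (ka xa4 ya19 za34) (ka xa4 ya19 za36) (ka xa4 ya22 za6) (ka xa4 ya22 za7) (ka xa4 ya22 za8) (ka xa4 ya22 za9) (ka xa3 ya24 za5) (ka xa3 ya24 za6) (ka xa4 ya4 za6) (ka xa5 ya23 za15) (ka xa4 ya4 za4) (ka xa4 ya19 za2) (ka xa4 ya22 za16) (ka xa4 ya22 za17) (ka xa4 ya22 za18) (ka xa4 ya22 za19) (ka xa4 ya22 za20) (ka xa4 ya4 za35) (ka xa4 ya19 za42) (ka xa4 ya19 za40) (ka xa4 ya19 za43) (ka xa4 ya22 za25) (ka xa4 ya22 za26) (ka xa4 ya22 za27) (ka xa4 ya22 za28) (ka xa4 ya22 za29) (ka xa3 ya24 za20) (ka xa3 ya24 za22) (ka xa4 ya4 za34) (ka xa5 ya23 za32) (ka xa5 ya23 za33) (ka xa4 ya4 za31) (ka xa4 ya19 za11) (ka xa4 ya22 za37) (ka xa4 ya22 za38) (ka xa4 ya22 za39) (ka xa4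 ya22 za40) (ka xa4 ya22 za41) (ka xa4 ya17 za14) (ka xa4 ya19 za6) (ka xa4 ya12 za25) (ka xa4 ya19 za37) (ka xa4 ya22 za46) (ka xa4 ya22 za47) (ka xa4 ya22 za48) (ka xa4 ya22 za49) (ka xa4 ya22 za50)) (@D3.rec (fun _ => Pt) (ka xa3 ya24 za36) (ka xa3 ya24 za37) (ka xa3 ya24 za38) (ka xa3 ya24 za39) (ka xa5 ya24 za7) (ka xa5 ya24 za8) (ka xa5 ya24 za9) (ka xa5 ya24 za10) (ka xa5 ya24 za11) (ka xa5 ya24 za12) (ka xa4 ya13 za5) (ka xa4 ya23 za11) (ka xa4 ya23 za12) (ka xa4 ya23 za13) (ka xa4 ya23 za14) (ka xa4 ya23 za15) (ka xa4 ya17 za32) (ka xa4 ya8 za49) (ka xa4 ya19 za19) (ka xa4 ya19 za20) (ka xa4 ya13 za16) (ka xa4 ya13 za17) (ka xa4 ya19 za44) (ka xa4 ya23 za23) (ka xa4 ya23 za24) (ka xa4 ya23 za25) (ka xa4 ya23 za26) (ka xa4 ya23 za27) (ka xa4 ya0 za15) (ka xa3 ya25 za7) (ka xa3 ya25 za8) (ka xa3 ya25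 za9) (ka xa3 ya25 za10) (ka xa3 ya25 za11) (ka xa3 ya25 za12) (ka xa3 ya25 za13) (ka xa5 ya24 za49) (ka xa5 ya24 za50) (ka xa5 ya25 za0) (ka xa5 ya25 za1) (ka xa5 ya25 za2) (ka xa5 ya25 za3) (ka xa5 ya25 za4) (ka xa5 ya25 za5) (ka xa5 ya25 za6) (ka xa5 ya25 za7) (ka xa4 ya23 za46) (ka xa4 ya23 za47) (ka xa4 ya23 za48) (ka xa4 ya23 za49) (ka xa4 ya23 za50)) (@D3.rec (fun _ => Pt) (ka xa4 ya24 za0) (ka xa4 ya24 za1) (ka xa4 ya18 za9) (ka xa4 ya18 za10) (ka xa4 ya10 za24) (ka xa4 ya1 za49) (ka xa4 ya10 za25) (ka xa4 ya19 za23) (ka xa4 ya14 za13) (ka xa4 ya19 za24) (ka xa4 ya14 za15) (ka xa4 ya14 za16) (ka xa4 ya24 za12) (ka xa4 ya24 za13) (ka xa4 ya24 za14) (ka xa4 ya24 za15) (ka xa4 ya24 za16) (ka xa4 ya24 za17) (ka xa4 ya24 za18) (ka xa4 ya1 za30) (ka xa4 ya1 za31) (ka xa3 ya25 za39) (ka xa3 ya25 za40) (ka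 xa3 ya25 za41) (ka xa3 ya25 za42) (ka xa3 ya25 za43) (ka xa3 ya25 za44) (ka xa3 ya25 za45) (ka xa3 ya25 za46) (ka xa3 ya25 za47) (ka xa3 ya25 za48) (ka xa5 ya26 za9) (ka xa5 ya26 za10) (ka xa5 ya26 za11) (ka xa5 ya26 za12) (ka xa5 ya26 za13) (ka xa5 ya26 za14) (ka xa5 ya26 za15) (ka xa5 ya26 za16) (ka xa5 ya26 za17) (ka xa5 ya26 za18) (ka xa5 ya26 za19) (ka xa5 ya26 za20) (ka xa5 ya26 za21) (ka xa5 ya26 za22) (ka xa5 ya26 za23) (ka xa5 ya26 za24) (ka xa4 ya24 za47) (ka xa4 ya24 za48) (ka xa4 ya24 za49) (ka xa4 ya24 za50)) (@D3.rec (fun _ => Pt) (ka xa4 ya25 za0) (ka xa4 ya25 za1) (ka xa4 ya25 za2) (ka xa4 ya25 za3) (ka xa3 ya26 za6) (ka xa3 ya26 za7) (ka xa6 ya0 za8) (ka xa6 ya0 za9) (ka xa6 ya0 za10) (ka xa6 ya0 za11) (ka xa4 ya25 za10) (ka xa4 ya25 za11) (ka xa4 ya25 za12) (ka xa4 ya25 za13) (ka xa4 ya25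 za14) (ka xa3 ya26 za14) (ka xa3 ya26 za15) (ka xa3 ya26 za16) (ka xa3 ya26 za17) (ka xa6 ya0 za25) (ka xa6 ya0 za26) (ka xa6 ya0 za27) (ka xa6 ya0 za28) (ka xa6 ya0 za29) (ka xa6 ya0 za30) (ka xa6 ya0 za31) (ka xa4 ya25 za26) (ka xa4 ya25 za27) (ka xa4 ya25 za28) (ka xa4 ya25 za29) (ka xa4 ya25 za30) (ka xa5 ya24 za6) (ka xa3 ya26 za27) (ka xa3 ya26 za28) (ka xa3 ya26 za29) (ka xa3 ya26 za30) (ka xa3 ya26 za31) (ka xa3 ya26 za32) (ka xa3 ya26 za33) (ka xa6 ya1 za0) (ka xa6 ya1 za1) (ka xa6 ya1 za2) (ka xa6 ya1 za3) (ka xa6 ya1 za4) (ka xa6 ya1 za5) (ka xa6 ya1 za6) (ka xa6 ya1 za7) (ka xa6 ya1 za8) (ka xa6 ya1 za9) (ka xa4 ya25 za49) (ka xa4 ya25 za50)) (@D3.rec (fun _ => Pt) (ka xa4 ya26 za0) (ka xa4 ya26 za1) (ka xa4 ya26 za2) (ka xa4 ya26 za3) (ka xa4 ya26 za4) (ka xa3 ya26 za41) (ka xa3 ya26 za42) (ka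 xa3 ya26 za43) (ka xa3 ya26 za44) (ka xa6 ya1 za35) (ka xa6 ya1 za36) (ka xa6 ya1 za37) (ka xa6 ya1 za38) (ka xa6 ya1 za39) (ka xa6 ya1 za40) (ka xa6 ya1 za41) (ka xa4 ya26 za16) (ka xa4 ya26 za17) (ka xa4 ya26 za18) (ka xa4 ya26 za19) (ka xa4 ya26 za20) (ka xa4 ya16 za22) (ka xa4 ya0 za3) (ka xa4 ya0 za4) (ka xa4 ya0 za5) (ka xa4 ya0 za6) (ka xa4 ya0 za7) (ka xa4 ya0 za8) (ka xa4 ya0 za9) (ka xa6 ya2 za10) (ka xa6 ya2 za11) (ka xa6 ya2 za12) (ka xa6 ya2 za13) (ka xa6 ya2 za14) (ka xa6 ya2 za15) (ka xa6 ya2 za16) (ka xa6 ya2 za17) (ka xa6 ya2 za18) (ka xa6 ya2 za19) (ka xa4 ya26 za39) (ka xa4 ya26 za40) (ka xa4 ya26 za41) (ka xa4 ya26 za42) (ka xa4 ya26 za43) (ka xa4 ya26 za44) (ka xa4 ya26 za45) (ka xa5 ya24 za47) (ka xa5 ya24 za48) (ka xa4 ya0 za23) (ka xa4 ya0 za24) (ka xa4 ya0 za25))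
def f_a_5 : D2 → D3 → Pt := @D2.rec (fun _ => D3 → Pt) (@D3.rec (fun _ => Pt) (ka xa4 ya0 za26) (ka xa4 ya0 za27) (ka xa4 ya0 za28) (ka xa4 ya0 za29) (ka xa4 ya0 za30) (ka xa4 ya0 za31) (ka xa4 ya0 za32) (ka xa6 ya2 za48) (ka xa6 ya2 za49) (ka xa6 ya2 za50) (ka xa6 ya3 za0) (ka xa6 ya3 za1) (ka xa6 ya3 za2) (ka xa6 ya3 za3) (ka xa5 ya24 za33) (ka xa6 ya3 za4) (ka xa6 ya3 za5) (ka xa6 ya3 za6) (ka xa6 ya3 za7) (ka xa6 ya3 za8) (ka xa6 ya3 za9) (ka xa6 ya3 za10) (ka xa6 ya3 za11) (ka xa5 ya0 za23) (ka xa5 ya0 za24) (ka xa5 ya0 za25) (ka xa5 ya0 za26) (ka xa5 ya0 za27) (ka xa5 ya0 za28) (ka xa5 ya0 za29) (ka xa5 ya0 za30) (ka xa5 ya0 za31) (ka xa4 ya0 za44) (ka xa4 ya0 za45) (ka xa4 ya0 za47) (ka xa4 ya0 za48) (ka xa4 ya0 za49) (ka xa4 ya0 za50) (ka xa4 ya18 za28) (ka xa6 ya3 za48) (ka xa6 ya3 za49) (ka xa6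 ya3 za50) (ka xa6 ya4 za0) (ka xa4 ya18 za27) (ka xa4 ya18 za22) (ka xa6 ya4 za1) (ka xa6 ya4 za2) (ka xa6 ya4 za3) (ka xa5 ya0 za48) (ka xa5 ya0 za49) (ka xa5 ya0 za50)) (@D3.rec (fun _ => Pt) (ka xa5 ya1 za0) (ka xa5 ya1 za1) (ka xa5 ya1 za2) (ka xa5 ya1 za3) (ka xa4 ya16 za49) (ka xa4 ya7 za0) (ka xa4 ya1 za13) (ka xa4 ya1 za14) (ka xa4 ya1 za15) (ka xa4 ya1 za16) (ka xa4 ya1 za17) (ka xa4 ya1 za18) (ka xa4 ya1 za19) (ka xa4 ya1 za20) (ka xa4 ya1 za21) (ka xa4 ya1 za22) (ka xa4 ya11 za4) (ka xa6 ya4 za30) (ka xa6 ya4 za31) (ka xa6 ya4 za32) (ka xa6 ya4 za33) (ka xa6 ya4 za34) (ka xa6 ya4 za35) (ka xa5 ya26 za7) (ka xa6 ya4 za36) (ka xa6 ya4 za37) (ka xa6 ya4 za38) (ka xa6 ya4 za39) (ka xa4 ya10 za48) (ka xa6 ya4 za40) (ka xa6 ya4 za41) (ka xa6 ya4 za42) (ka xa5 ya1 za32) (ka xa5 ya1 za33) (ka xa5 ya1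 za34) (ka xa5 ya1 za35) (ka xa5 ya1 za36) (ka xa5 ya1 za37) (ka xa5 ya1 za38) (ka xa5 ya1 za39) (ka xa5 ya26 za4) (ka xa5 ya26 za5) (ka xa5 ya26 za6) (ka xa5 ya26 za8) (ka xa4 ya1 za42) (ka xa4 ya1 za43) (ka xa4 ya1 za44) (ka xa4 ya1 za45) (ka xa4 ya1 za46) (ka xa4 ya1 za47) (ka xa4 ya1 za48)) (@D3.rec (fun _ => Pt) (ka xa4 ya1 za50) (ka xa4 ya2 za0) (ka xa4 ya2 za1) (ka xa4 ya2 za2) (ka xa4 ya2 za3) (ka xa4 ya2 za4) (ka xa4 ya2 za5) (ka xa4 ya2 za6) (ka xa6 ya5 za32) (ka xa6 ya5 za33) (ka xa6 ya5 za34) (ka xa6 ya5 za35) (ka xa6 ya5 za36) (ka xa6 ya5 za37) (ka xa6 ya5 za38) (ka xa6 ya5 za39) (ka xa6 ya5 za40) (ka xa6 ya5 za41) (ka xa6 ya5 za42) (ka xa6 ya5 za43) (ka xa5 ya25 za37) (ka xa5 ya25 za39) (ka xa6 ya5 za44) (ka xa6 ya5 za45) (ka xa6 ya5 za46) (ka xa6 ya5 za47) (ka xa6 ya5 za48) (ka xa6 ya5 za49)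 (ka xa6 ya5 za50) (ka xa6 ya6 za0) (ka xa6 ya6 za1) (ka xa5 ya2 za31) (ka xa5 ya2 za32) (ka xa5 ya2 za33) (ka xa5 ya2 za34) (ka xa5 ya2 za35) (ka xa5 ya2 za36) (ka xa5 ya2 za37) (ka xa5 ya2 za38) (ka xa6 ya6 za47) (ka xa5 ya2 za40) (ka xa5 ya2 za41) (ka xa5 ya2 za42) (ka xa5 ya2 za43) (ka xa4 ya18 za25) (ka xa4 ya18 za26) (ka xa5 ya2 za46) (ka xa5 ya2 za47) (ka xa5 ya2 za48) (ka xa5 ya2 za49) (ka xa5 ya2 za50)) (@D3.rec (fun _ => Pt) (ka xa4 ya2 za31) (ka xa4 ya2 za32) (ka xa4 ya11 za3) (ka xa4 ya9 za36) (ka xa4 ya11 za1) (ka xa4 ya11 za2) (ka xa6 ya7 za3) (ka xa4 ya10 za49) (ka xa4 ya10 za50) (ka xa4 ya10 za47) (ka xa4 ya9 za25) (ka xa5 ya3 za11) (ka xa5 ya3 za12) (ka xa5 ya3 za13) (ka xa5 ya3 za14) (ka xa5 ya3 za15) (ka xa5 ya3 za16) (ka xa5 ya3 za17) (ka xa5 ya3 za18) (ka xa6 ya7 za26) (ka xa5 ya3 za20)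 (ka xa5 ya3 za21) (ka xa4 ya3 za1) (ka xa4 ya3 za2) (ka xa4 ya3 za3) (ka xa4 ya3 za4) (ka xa4 ya3 za8) (ka xa4 ya3 za9) (ka xa4 ya3 za10) (ka xa4 ya3 za11) (ka xa4 ya3 za13) (ka xa6 ya7 za29) (ka xa6 ya7 za30) (ka xa6 ya7 za31) (ka xa4 ya11 za45) (ka xa6 ya7 za32) (ka xa6 ya7 za33) (ka xa4 ya11 za38) (ka xa4 ya11 za40) (ka xa4 ya11 za42) (ka xa4 ya11 za44) (ka xa6 ya7 za34) (ka xa6 ya7 za35) (ka xa6 ya7 za36) (ka xa4 ya11 za31) (ka xa6 ya7 za37) (ka xa4 ya11 za32) (ka xa6 ya7 za38) (ka xa4 ya11 za33) (ka xa6 ya8 za14) (ka xa4 ya11 za34)) (@D3.rec (fun _ => Pt) (ka xa4 ya11 za28) (ka xa5 ya4 za1) (ka xa5 ya4 za2) (ka xa5 ya4 za3) (ka xa5 ya4 za4) (ka xa5 ya4 za5) (ka xa5 ya4 za6) (ka xa5 ya4 za7) (ka xa5 ya4 za8) (ka xa6 ya8 za30) (ka xa5 ya4 za10) (ka xa5 ya4 za11) (ka xa4 ya3 za24) (ka xa6 ya8 za33) (ka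 xa5 ya4 za14) (ka xa4 ya19 za32) (ka xa4 ya15 za24) (ka xa4 ya3 za37) (ka xa4 ya3 za38) (ka xa5 ya23 za5) (ka xa6 ya8 za36) (ka xa5 ya23 za3) (ka xa5 ya4 za22) (ka xa5 ya4 za23) (ka xa4 ya19 za33) (ka xa4 ya19 za3) (ka xa4 ya19 za30) (ka xa4 ya15 za32) (ka xa5 ya4 za28) (ka xa5 ya4 za29) (ka xa4 ya4 za5) (ka xa4 ya4 za7) (ka xa5 ya23 za19) (ka xa6 ya8 za43) (ka xa6 ya8 za39) (ka xa5 ya23 za16) (ka xa5 ya23 za6) (ka xa5 ya4 za37) (ka xa5 ya4 za38) (ka xa5 ya4 za39) (ka xa5 ya4 za40) (ka xa5 ya4 za41) (ka xa4 ya19 za15) (ka xa4 ya19 za39) (ka xa4 ya19 za16) (ka xa4 ya19 za14) (ka xa4 ya19 za12) (ka xa4 ya19 za41) (ka xa4 ya15 za43) (ka xa5 ya4 za49) (ka xa5 ya4 za50)) (@D3.rec (fun _ => Pt) (ka xa5 ya5 za0) (ka xa4 ya4 za32) (ka xa4 ya4 za33) (ka xa4 ya4 za36) (ka xa5 ya23 za37) (ka xa5 ya23 za39) (ka xa6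 ya9 za9) (ka xa5 ya23 za34) (ka xa6 ya9 za2) (ka xa5 ya23 za35) (ka xa5 ya23 za22) (ka xa5 ya5 za11) (ka xa5 ya5 za12) (ka xa5 ya5 za13) (ka xa5 ya5 za14) (ka xa5 ya5 za15) (ka xa5 ya5 za16) (ka xa5 ya5 za17) (ka xa5 ya5 za18) (ka xa5 ya5 za19) (ka xa4 ya17 za13) (ka xa4 ya7 za44) (ka xa4 ya19 za5) (ka xa4 ya19 za4) (ka xa4 ya12 za23) (ka xa4 ya12 za26) (ka xa4 ya15 za42) (ka xa5 ya5 za27) (ka xa5 ya5 za28) (ka xa5 ya5 za29) (ka xa5 ya5 za30) (ka xa5 ya5 za31) (ka xa4 ya7 za33) (ka xa4 ya5 za8) (ka xa4 ya5 za9) (ka xa4 ya5 za10) (ka xa4 ya5 za11) (ka xa4 ya5 za12) (ka xa4 ya5 za13) (ka xa4 ya5 za14) (ka xa6 ya9 za40) (ka xa6 ya9 za41) (ka xa6 ya9 za42) (ka xa6 ya9 za43) (ka xa6 ya9 za44) (ka xa6 ya9 za45) (ka xa6 ya9 za46) (ka xa6 ya9 za47) (ka xa6 ya9 za48) (ka xa6 ya9 za49) (ka xa5 ya5 za50)) (@D3.rec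 (fun _ => Pt) (ka xa5 ya6 za0) (ka xa5 ya6 za1) (ka xa5 ya6 za2) (ka xa5 ya6 za3) (ka xa5 ya6 za4) (ka xa5 ya6 za5) (ka xa5 ya6 za6) (ka xa5 ya6 za7) (ka xa5 ya6 za8) (ka xa4 ya17 za31) (ka xa4 ya17 za30) (ka xa4 ya8 za47) (ka xa4 ya8 za50) (ka xa4 ya19 za18) (ka xa4 ya13 za14) (ka xa4 ya19 za17) (ka xa4 ya13 za12) (ka xa4 ya13 za15) (ka xa5 ya6 za18) (ka xa5 ya6 za19) (ka xa5 ya6 za20) (ka xa5 ya6 za21) (ka xa5 ya6 za22) (ka xa5 ya6 za23) (ka xa5 ya6 za24) (ka xa4 ya8 za32) (ka xa4 ya8 za18) (ka xa4 ya5 za45) (ka xa4 ya5 za46) (ka xa4 ya5 za47) (ka xa4 ya5 za48) (ka xa4 ya5 za49) (ka xa4 ya5 za50) (ka xa4 ya6 za0) (ka xa4 ya6 za1) (ka xa4 ya6 za2) (ka xa4 ya6 za3) (ka xa6 ya10 za45) (ka xa6 ya10 za46) (ka xa6 ya10 za47) (ka xa6 ya10 za48) (ka xa6 ya10 za49) (ka xa6 ya10 za50) (ka xa6 ya11 za0) (ka xa6 ya2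 za9) (ka xa6 ya11 za1) (ka xa6 ya11 za2) (ka xa6 ya11 za3) (ka xa6 ya11 za4) (ka xa6 ya11 za5) (ka xa6 ya11 za6)) (@D3.rec (fun _ => Pt) (ka xa6 ya11 za7) (ka xa6 ya11 za8) (ka xa5 ya7 za2) (ka xa5 ya7 za3) (ka xa5 ya7 za4) (ka xa5 ya7 za5) (ka xa5 ya7 za6) (ka xa5 ya7 za7) (ka xa5 ya7 za8) (ka xa5 ya7 za9) (ka xa5 ya7 za10) (ka xa5 ya7 za11) (ka xa5 ya7 za12) (ka xa5 ya7 za13) (ka xa5 ya7 za14) (ka xa4 ya18 za6) (ka xa4 ya18 za8) (ka xa4 ya10 za22) (ka xa4 ya18 za7) (ka xa4 ya10 za20) (ka xa4 ya10 za23) (ka xa4 ya19 za22) (ka xa4 ya19 za21) (ka xa4 ya14 za11) (ka xa4 ya14 za7) (ka xa4 ya14 za14) (ka xa4 ya14 za9) (ka xa4 ya14 za12) (ka xa5 ya7 za28) (ka xa5 ya7 za29) (ka xa5 ya7 za30) (ka xa5 ya7 za31) (ka xa5 ya7 za32) (ka xa5 ya7 za33) (ka xa5 ya7 za34) (ka xa5 ya7 za35) (ka xa4 ya9 za48) (ka xa4 ya9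 za49) (ka xa4 ya9 za30) (ka xa4 ya9 za32) (ka xa4 ya6 za44) (ka xa4 ya6 za45) (ka xa4 ya6 za46) (ka xa4 ya6 za47) (ka xa4 ya6 za48) (ka xa4 ya6 za49) (ka xa4 ya6 za50) (ka xa4 ya7 za1) (ka xa4 ya7 za2) (ka xa4 ya7 za3) (ka xa4 ya7 za4)) (@D3.rec (fun _ => Pt) (ka xa4 ya7 za5) (ka xa4 ya7 za6) (ka xa4 ya7 za7) (ka xa4 ya7 za8) (ka xa6 ya12 za30) (ka xa6 ya12 za31) (ka xa6 ya12 za32) (ka xa6 ya12 za33) (ka xa6 ya12 za34) (ka xa6 ya12 za35) (ka xa6 ya12 za36) (ka xa6 ya12 za37) (ka xa6 ya12 za38) (ka xa6 ya12 za39) (ka xa6 ya12 za40) (ka xa6 ya12 za41) (ka xa6 ya4 za28) (ka xa6 ya4 za29) (ka xa6 ya12 za42) (ka xa6 ya12 za43) (ka xa6 ya12 za44) (ka xa6 ya12 za45) (ka xa6 ya12 za46) (ka xa6 ya12 za47) (ka xa6 ya12 za48) (ka xa6 ya12 za49) (ka xa5 ya8 za26) (ka xa5 ya8 za27) (ka xa5 ya8 za28) (ka xa5 ya8 za29)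 (ka xa5 ya8 za30) (ka xa5 ya8 za31) (ka xa5 ya8 za32) (ka xa5 ya8 za33) (ka xa6 ya13 za42) (ka xa5 ya8 za35) (ka xa5 ya8 za36) (ka xa4 ya16 za4) (ka xa4 ya7 za21) (ka xa4 ya7 za22) (ka xa4 ya7 za23) (ka xa4 ya7 za24) (ka xa4 ya7 za25) (ka xa4 ya7 za26) (ka xa4 ya7 za27) (ka xa6 ya13 za46) (ka xa6 ya13 za47) (ka xa6 ya13 za48) (ka xa6 ya9 za39) (ka xa6 ya13 za49) (ka xa6 ya13 za50)) (@D3.rec (fun _ => Pt) (ka xa6 ya14 za0) (ka xa6 ya14 za1) (ka xa6 ya14 za2) (ka xa6 ya14 za3) (ka xa5 ya9 za4) (ka xa5 ya9 za5) (ka xa5 ya9 za6) (ka xa5 ya9 za7) (ka xa5 ya9 za8) (ka xa5 ya9 za9) (ka xa5 ya9 za10) (ka xa6 ya9 za38) (ka xa4 ya7 za41) (ka xa4 ya7 za42) (ka xa4 ya7 za43) (ka xa4 ya7 za45) (ka xa4 ya7 za46) (ka xa4 ya7 za47) (ka xa4 ya7 za48) (ka xa4 ya7 za49) (ka xa4 ya7 za50) (ka xa6 ya14 za24) (ka xa6 ya14 za25)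 (ka xa6 ya14 za26) (ka xa6 ya14 za27) (ka xa6 ya14 za28) (ka xa6 ya9 za29) (ka xa6 ya14 za29) (ka xa5 ya23 za46) (ka xa6 ya9 za30) (ka xa6 ya14 za30) (ka xa6 ya14 za31) (ka xa6 ya14 za32) (ka xa6 ya14 za33) (ka xa6 ya14 za34) (ka xa6 ya14 za35) (ka xa6 ya14 za36) (ka xa5 ya9 za37) (ka xa5 ya9 za38) (ka xa5 ya9 za39) (ka xa5 ya9 za40) (ka xa5 ya9 za41) (ka xa5 ya9 za42) (ka xa5 ya9 za43) (ka xa5 ya9 za44) (ka xa4 ya16 za21) (ka xa4 ya8 za15) (ka xa4 ya8 za16) (ka xa4 ya8 za17) (ka xa4 ya8 za19) (ka xa4 ya8 za20)) (@D3.rec (fun _ => Pt) (ka xa4 ya8 za21) (ka xa4 ya8 za22) (ka xa4 ya8 za23) (ka xa4 ya8 za24) (ka xa6 ya15 za21) (ka xa6 ya15 za22) (ka xa6 ya15 za23) (ka xa6 ya15 za24) (ka xa6 ya15 za25) (ka xa6 ya10 za43) (ka xa6 ya15 za26) (ka xa6 ya10 za44) (ka xa6 ya15 za27) (ka xa6 ya15 za28) (ka xa6 ya15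 za29) (ka xa6 ya15 za30) (ka xa6 ya15 za31) (ka xa6 ya15 za32) (ka xa6 ya15 za33) (ka xa5 ya10 za19) (ka xa5 ya10 za20) (ka xa5 ya10 za21) (ka xa5 ya10 za22) (ka xa5 ya10 za23) (ka xa5 ya10 za24) (ka xa5 ya10 za25) (ka xa5 ya10 za26) (ka xa6 ya10 za41) (ka xa6 ya10 za42) (ka xa4 ya8 za42) (ka xa4 ya8 za43) (ka xa4 ya8 za44) (ka xa4 ya8 za45) (ka xa4 ya8 za46) (ka xa4 ya8 za48) (ka xa4 ya9 za0) (ka xa4 ya9 za1) (ka xa4 ya9 za2) (ka xa4 ya9 za3) (ka xa4 ya9 za4) (ka xa4 ya9 za5) (ka xa4 ya9 za6) (ka xa6 ya16 za15) (ka xa6 ya16 za16) (ka xa6 ya16 za17) (ka xa6 ya16 za18) (ka xa6 ya16 za19) (ka xa6 ya16 za20) (ka xa6 ya16 za21) (ka xa6 ya16 za22) (ka xa6 ya10 za27)) (@D3.rec (fun _ => Pt) (ka xa6 ya16 za23) (ka xa6 ya10 za25) (ka xa6 ya10 za28) (ka xa5 ya24 za32) (ka xa5 ya24 za34) (ka xa6 ya16 za24) (ka xa6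 ya16 za25) (ka xa6 ya16 za26) (ka xa6 ya16 za27) (ka xa6 ya16 za28) (ka xa6 ya16 za29) (ka xa6 ya16 za30) (ka xa6 ya16 za31) (ka xa5 ya11 za13) (ka xa5 ya11 za14) (ka xa5 ya11 za15) (ka xa5 ya11 za16) (ka xa5 ya11 za17) (ka xa5 ya11 za18) (ka xa5 ya11 za19) (ka xa5 ya11 za20) (ka xa6 ya17 za24) (ka xa5 ya11 za22) (ka xa5 ya11 za23) (ka xa4 ya16 za48) (ka xa4 ya16 za47) (ka xa4 ya9 za26) (ka xa4 ya9 za27) (ka xa4 ya9 za28) (ka xa4 ya9 za29) (ka xa4 ya9 za31) (ka xa4 ya9 za33) (ka xa4 ya9 za34) (ka xa4 ya9 za35) (ka xa4 ya9 za37) (ka xa4 ya9 za38) (ka xa4 ya9 za39) (ka xa6 ya7 za13) (ka xa6 ya5 za12) (ka xa6 ya17 za29) (ka xa6 ya17 za30) (ka xa6 ya17 za31) (ka xa6 ya17 za32) (ka xa6 ya17 za33) (ka xa6 ya17 za34) (ka xa6 ya12 za28) (ka xa6 ya17 za35) (ka xa6 ya12 za26) (ka xa6 ya12 za29) (ka xa6 ya17 za36)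 (ka xa6 ya17 za37)) (@D3.rec (fun _ => Pt) (ka xa6 ya17 za38) (ka xa6 ya7 za6) (ka xa6 ya17 za39) (ka xa6 ya4 za44) (ka xa6 ya7 za7) (ka xa6 ya17 za40) (ka xa5 ya12 za6) (ka xa5 ya12 za7) (ka xa5 ya12 za8) (ka xa5 ya12 za9) (ka xa5 ya12 za10) (ka xa5 ya12 za11) (ka xa5 ya12 za12) (ka xa5 ya12 za13) (ka xa6 ya18 za29) (ka xa5 ya12 za15) (ka xa5 ya12 za16) (ka xa6 ya12 za24) (ka xa6 ya12 za25) (ka xa6 ya12 za27) (ka xa4 ya10 za12) (ka xa4 ya10 za13) (ka xa4 ya10 za14) (ka xa4 ya10 za15) (ka xa4 ya10 za16) (ka xa4 ya10 za17) (ka xa4 ya10 za18) (ka xa4 ya10 za19) (ka xa4 ya10 za21) (ka xa4 ya10 za26) (ka xa4 ya10 za27) (ka xa4 ya10 za28) (ka xa4 ya10 za29) (ka xa4 ya10 za30) (ka xa4 ya10 za31) (ka xa4 ya10 za32) (ka xa4 ya10 za33) (ka xa6 ya18 za36) (ka xa6 ya18 za37) (ka xa6 ya18 za38) (ka xa6 ya18 za39) (ka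 xa6 ya18 za40) (ka xa6 ya18 za41) (ka xa6 ya18 za42) (ka xa6 ya18 za43) (ka xa6 ya18 za44) (ka xa6 ya18 za45) (ka xa6 ya18 za46) (ka xa6 ya12 za1) (ka xa6 ya18 za47) (ka xa6 ya12 za3)) (@D3.rec (fun _ => Pt) (ka xa6 ya18 za48) (ka xa6 ya12 za0) (ka xa6 ya12 za4) (ka xa5 ya25 za34) (ka xa6 ya12 za2) (ka xa5 ya25 za36) (ka xa5 ya25 za38) (ka xa6 ya18 za49) (ka xa6 ya18 za50) (ka xa6 ya19 za0) (ka xa6 ya19 za1) (ka xa6 ya19 za2) (ka xa6 ya19 za3) (ka xa6 ya19 za4) (ka xa6 ya19 za5) (ka xa6 ya20 za0) (ka xa6 ya19 za7) (ka xa6 ya7 za47) (ka xa5 ya13 za18) (ka xa5 ya13 za19) (ka xa5 ya13 za20) (ka xa5 ya13 za21) (ka xa5 ya13 za22) (ka xa5 ya13 za23) (ka xa5 ya13 za24) (ka xa5 ya13 za25) (ka xa6 ya20 za16) (ka xa5 ya13 za27) (ka xa5 ya13 za28) (ka xa4 ya10 za42) (ka xa6 ya20 za19) (ka xa5 ya13 za31) (ka xa4 ya11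 za0) (ka xa6 ya7 za11) (ka xa6 ya7 za12) (ka xa6 ya5 za10) (ka xa6 ya5 za13) (ka xa6 ya7 za10) (ka xa6 ya20 za22) (ka xa6 ya7 za8) (ka xa6 ya7 za4) (ka xa6 ya7 za5) (ka xa6 ya4 za43) (ka xa6 ya20 za35) (ka xa5 ya13 za44) (ka xa5 ya13 za45) (ka xa5 ya13 za46) (ka xa5 ya13 za47) (ka xa5 ya13 za48) (ka xa5 ya13 za49) (ka xa5 ya13 za50)) (@D3.rec (fun _ => Pt) (ka xa5 ya14 za0) (ka xa6 ya20 za49) (ka xa5 ya14 za2) (ka xa5 ya14 za3) (ka xa4 ya11 za13) (ka xa6 ya21 za1) (ka xa5 ya14 za6) (ka xa4 ya11 za25) (ka xa4 ya11 za26) (ka xa4 ya11 za27) (ka xa4 ya11 za29) (ka xa4 ya11 za30) (ka xa4 ya11 za35) (ka xa4 ya11 za36) (ka xa4 ya11 za37) (ka xa4 ya11 za39) (ka xa4 ya11 za41) (ka xa6 ya21 za16) (ka xa6 ya21 za4) (ka xa6 ya21 za5) (ka xa6 ya21 za6) (ka xa6 ya21 za7) (ka xa6 ya8 za13) (ka xa6 ya21 za8) (ka xa6 ya8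 za16) (ka xa6 ya6 za35) (ka xa6 ya21 za9) (ka xa6 ya8 za5) (ka xa6 ya8 za8) (ka xa6 ya8 za10) (ka xa6 ya8 za12) (ka xa6 ya21 za35) (ka xa6 ya21 za10) (ka xa6 ya21 za11) (ka xa6 ya7 za49) (ka xa6 ya21 za12) (ka xa6 ya21 za13) (ka xa6 ya7 za50) (ka xa6 ya21 za14) (ka xa6 ya8 za0) (ka xa6 ya21 za49) (ka xa6 ya8 za1) (ka xa6 ya7 za44) (ka xa4 ya11 za43) (ka xa6 ya22 za1) (ka xa6 ya7 za46) (ka xa5 ya14 za46) (ka xa5 ya14 za47) (ka xa5 ya14 za48) (ka xa5 ya14 za49) (ka xa5 ya14 za50)) (@D3.rec (fun _ => Pt) (ka xa6 ya22 za4) (ka xa5 ya15 za1) (ka xa6 ya22 za5) (ka xa5 ya15 za3) (ka xa4 ya12 za3) (ka xa6 ya22 za6) (ka xa5 ya15 za6) (ka xa4 ya12 za7) (ka xa6 ya22 za9) (ka xa5 ya15 za9) (ka xa4 ya12 za20) (ka xa4 ya12 za22) (ka xa4 ya12 za24) (ka xa4 ya12 za29) (ka xa4 ya12 za30) (ka xa4 ya12 za31) (ka xa4 ya12 za32)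 (ka xa4 ya12 za33) (ka xa5 ya22 za3) (ka xa5 ya24 za21) (ka xa6 ya22 za12) (ka xa5 ya22 za14) (ka xa6 ya9 za34) (ka xa6 ya22 za13) (ka xa6 ya9 za32) (ka xa6 ya9 za35) (ka xa5 ya23 za49) (ka xa5 ya23 za50) (ka xa5 ya22 za2) (ka xa5 ya22 za11) (ka xa6 ya22 za14) (ka xa6 ya22 za15) (ka xa6 ya22 za16) (ka xa6 ya22 za17) (ka xa6 ya22 za18) (ka xa5 ya15 za35) (ka xa5 ya15 za36) (ka xa5 ya15 za37) (ka xa5 ya15 za38) (ka xa5 ya15 za39) (ka xa5 ya15 za40) (ka xa5 ya15 za41) (ka xa6 ya22 za50) (ka xa5 ya15 za43) (ka xa5 ya15 za44) (ka xa4 ya13 za8) (ka xa4 ya13 za9) (ka xa4 ya13 za10) (ka xa4 ya13 za11) (ka xa4 ya13 za13) (ka xa4 ya13 za19)) (@D3.rec (fun _ => Pt) (ka xa4 ya13 za20) (ka xa4 ya13 za21) (ka xa4 ya13 za22) (ka xa4 ya13 za23) (ka xa4 ya13 za24) (ka xa4 ya13 za25) (ka xa5 ya24 za20) (ka xa5 ya24 za0) (ka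 xa5 ya22 za38) (ka xa5 ya22 za15) (ka xa5 ya25 za22) (ka xa6 ya23 za2) (ka xa6 ya23 za3) (ka xa6 ya10 za32) (ka xa6 ya23 za4) (ka xa6 ya10 za34) (ka xa6 ya23 za5) (ka xa6 ya10 za31) (ka xa6 ya10 za35) (ka xa5 ya24 za36) (ka xa6 ya10 za33) (ka xa5 ya24 za38) (ka xa5 ya24 za39) (ka xa5 ya22 za30) (ka xa6 ya23 za6) (ka xa6 ya23 za7) (ka xa6 ya23 za8) (ka xa6 ya23 za9) (ka xa6 ya23 za10) (ka xa6 ya23 za11) (ka xa6 ya23 za47) (ka xa6 ya23 za13) (ka xa6 ya23 za14) (ka xa5 ya16 za33) (ka xa5 ya16 za34) (ka xa5 ya16 za35) (ka xa5 ya16 za36) (ka xa5 ya16 za37) (ka xa5 ya16 za38) (ka xa5 ya16 za39) (ka xa5 ya16 za40) (ka xa6 ya24 za10) (ka xa5 ya16 za42) (ka xa5 ya16 za43) (ka xa4 ya13 za34) (ka xa6 ya24 za13) (ka xa5 ya16 za46) (ka xa4 ya14 za2) (ka xa4 ya14 za3) (ka xa4 ya14 za4) (ka xa4 ya14 za5)) (@D3.rec (fun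 _ => Pt) (ka xa4 ya14 za6) (ka xa4 ya14 za8) (ka xa4 ya14 za10) (ka xa4 ya14 za18) (ka xa4 ya14 za19) (ka xa4 ya14 za20) (ka xa4 ya14 za21) (ka xa4 ya14 za22) (ka xa4 ya14 za23) (ka xa4 ya14 za24) (ka xa6 ya24 za35) (ka xa4 ya14 za26) (ka xa4 ya14 za27) (ka xa5 ya22 za35) (ka xa6 ya24 za16) (ka xa6 ya24 za17) (ka xa6 ya24 za18) (ka xa6 ya24 za19) (ka xa6 ya24 za20) (ka xa6 ya12 za8) (ka xa6 ya24 za21) (ka xa6 ya25 za1) (ka xa6 ya12 za10) (ka xa6 ya24 za23) (ka xa5 ya25 za43) (ka xa6 ya12 za11) (ka xa6 ya24 za24) (ka xa6 ya12 za7) (ka xa6 ya12 za12) (ka xa6 ya12 za6) (ka xa6 ya12 za9) (ka xa5 ya25 za42) (ka xa5 ya25 za44) (ka xa5 ya25 za45) (ka xa5 ya25 za46) (ka xa5 ya22 za29) (ka xa6 ya24 za25) (ka xa6 ya24 za26) (ka xa6 ya24 za27) (ka xa6 ya24 za28) (ka xa6 ya24 za29) (ka xa6 ya24 za30) (ka xa6 ya24 za31)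 (ka xa6 ya25 za28) (ka xa6 ya24 za33) (ka xa6 ya24 za34) (ka xa4 ya14 za25) (ka xa6 ya25 za31) (ka xa6 ya24 za37) (ka xa5 ya17 za49) (ka xa5 ya17 za50)) (@D3.rec (fun _ => Pt) (ka xa6 ya25 za34) (ka xa5 ya18 za1) (ka xa5 ya18 za2) (ka xa5 ya18 za3) (ka xa6 ya25 za35) (ka xa4 ya14 za36) (ka xa6 ya25 za36) (ka xa4 ya14 za40) (ka xa6 ya25 za37) (ka xa4 ya15 za2) (ka xa4 ya15 za3) (ka xa4 ya15 za4) (ka xa4 ya15 za5) (ka xa4 ya15 za6) (ka xa4 ya15 za7) (ka xa6 ya25 za44) (ka xa4 ya15 za9) (ka xa4 ya15 za10) (ka xa4 ya14 za50) (ka xa6 ya25 za47) (ka xa4 ya15 za13) (ka xa6 ya25 za38) (ka xa6 ya25 za43) (ka xa6 ya25 za40) (ka xa6 ya25 za41) (ka xa4 ya15 za8) (ka xa6 ya25 za46) (ka xa4 ya15 za12) (ka xa6 ya26 za1) (ka xa6 ya25 za49) (ka xa4 ya15 za16) (ka xa4 ya19 za49) (ka xa6 ya9 za33) (ka xa4 ya16 za2) (ka xa4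 ya16 za1) (ka xa4 ya17 za9) (ka xa4 ya16 za3) (ka xa6 ya9 za28) (ka xa6 ya13 za45) (ka xa6 ya0 za24) (ka xa4 ya17 za29) (ka xa4 ya16 za19) (ka xa4 ya16 za17) (ka xa4 ya17 za21) (ka xa4 ya17 za23) (ka xa4 ya16 za16) (ka xa4 ya16 za18) (ka xa4 ya16 za20) (ka xa6 ya10 za26) (ka xa6 ya26 za7) (ka xa6 ya15 za20)) (@D3.rec (fun _ => Pt) (ka xa6 ya15 za19) (ka xa6 ya2 za8) (ka xa4 ya18 za5) (ka xa4 ya18 za3) (ka xa4 ya16 za43) (ka xa4 ya16 za42) (ka xa4 ya17 za43) (ka xa4 ya17 za42) (ka xa4 ya17 za44) (ka xa4 ya16 za40) (ka xa4 ya16 za41) (ka xa4 ya16 za44) (ka xa4 ya16 za45) (ka xa4 ya16 za46) (ka xa4 ya17 za0) (ka xa6 ya26 za12) (ka xa6 ya26 za11) (ka xa6 ya26 za18) (ka xa6 ya26 za19) (ka xa6 ya26 za20) (ka xa6 ya26 za21) (ka xa6 ya7 za2) (ka xa6 ya7 za14) (ka xa6 ya17 za28) (ka xa6 ya17 za27) (ka xa6 ya4 za26)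 (ka xa6 ya4 za27) (ka xa4 ya17 za46) (ka xa4 ya17 za7) (ka xa4 ya17 za8) (ka xa6 ya14 za23) (ka xa4 ya17 za12) (ka xa6 ya26 za36) (ka xa6 ya9 za27) (ka xa5 ya23 za45) (ka xa4 ya17 za19) (ka xa4 ya17 za20) (ka xa4 ya17 za22) (ka xa6 ya16 za14) (ka xa6 ya26 za40) (ka xa6 ya14 za7) (ka xa4 ya17 za27) (ka xa4 ya17 za28) (ka xa6 ya26 za44) (ka xa6 ya26 za6) (ka xa6 ya26 za45) (ka xa6 ya10 za23) (ka xa6 ya10 za24) (ka xa5 ya24 za30) (ka xa5 ya24 za31) (ka xa4 ya17 za38)) (@D3.rec (fun _ => Pt) (ka xa4 ya17 za39) (ka xa4 ya17 za40) (ka xa4 ya17 za41) (ka xa7 ya0 za2) (ka xa7 ya0 za3) (ka xa7 ya0 za4) (ka xa6 ya26 za17) (ka xa7 ya0 za5) (ka xa6 ya26 za16) (ka xa6 ya26 za15) (ka xa4 ya18 za24) (ka xa4 ya18 za0) (ka xa4 ya18 za1) (ka xa4 ya18 za2) (ka xa4 ya18 za4) (ka xa7 ya0 za14) (ka xa7 ya0 za15) (ka xa7 ya0 za16)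 (ka xa6 ya26 za13) (ka xa7 ya0 za17) (ka xa6 ya11 za48) (ka xa6 ya26 za14) (ka xa6 ya11 za47) (ka xa5 ya25 za32) (ka xa6 ya11 za50) (ka xa6 ya11 za49) (ka xa5 ya25 za33) (ka xa5 ya25 za35) (ka xa4 ya18 za19) (ka xa4 ya18 za20) (ka xa4 ya18 za21) (ka xa4 ya18 za23) (ka xa4 ya18 za29) (ka xa7 ya0 za30) (ka xa7 ya0 za13) (ka xa7 ya0 za31) (ka xa7 ya0 za32) (ka xa6 ya4 za14) (ka xa7 ya0 za33) (ka xa6 ya4 za5) (ka xa6 ya4 za15) (ka xa6 ya4 za12) (ka xa6 ya4 za13) (ka xa6 ya4 za4) (ka xa5 ya20 za44) (ka xa5 ya20 za45) (ka xa5 ya20 za46) (ka xa5 ya20 za47) (ka xa5 ya20 za48) (ka xa5 ya20 za49) (ka xa5 ya20 za50)) (@D3.rec (fun _ => Pt) (ka xa5 ya21 za0) (ka xa4 ya18 za44) (ka xa4 ya18 za45) (ka xa4 ya18 za46) (ka xa4 ya18 za47) (ka xa4 ya18 za48) (ka xa6 ya7 za23) (ka xa7 ya0 za50) (ka xa7 ya1 za0) (ka xa7 ya1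 za1) (ka xa7 ya1 za2) (ka xa5 ya23 za18) (ka xa5 ya23 za9) (ka xa6 ya8 za41) (ka xa6 ya9 za31) (ka xa5 ya23 za47) (ka xa5 ya23 za48) (ka xa4 ya19 za13) (ka xa5 ya23 za38) (ka xa5 ya23 za26) (ka xa6 ya9 za3) (ka xa6 ya9 za5) (ka xa6 ya9 za6) (ka xa6 ya9 za4) (ka xa6 ya9 za1) (ka xa5 ya23 za23) (ka xa6 ya10 za30) (ka xa6 ya10 za29) (ka xa5 ya24 za35) (ka xa5 ya24 za37) (ka xa6 ya12 za5) (ka xa5 ya25 za40) (ka xa5 ya25 za41) (ka xa4 ya19 za31) (ka xa5 ya23 za4) (ka xa5 ya22 za48) (ka xa6 ya8 za40) (ka xa5 ya23 za8) (ka xa6 ya8 za42) (ka xa5 ya22 za47) (ka xa5 ya23 za7) (ka xa5 ya23 za25) (ka xa5 ya23 za24) (ka xa5 ya21 za43) (ka xa5 ya21 za44) (ka xa5 ya21 za45) (ka xa5 ya21 za46) (ka xa5 ya21 za47) (ka xa6 ya26 za4) (ka xa5 ya21 za49) (ka xa5 ya21 za50)) (@D3.rec (fun _ => Pt) (ka xa5 ya22 za0) (ka xa4 ya20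 za47) (ka xa5 ya15 za28) (ka xa5 ya15 za18) (ka xa7 ya1 za28) (ka xa5 ya22 za5) (ka xa5 ya22 za6) (ka xa5 ya22 za7) (ka xa4 ya21 za8) (ka xa4 ya21 za11) (ka xa4 ya21 za12) (ka xa5 ya15 za29) (ka xa7 ya1 za34) (ka xa7 ya1 za35) (ka xa5 ya15 za21) (ka xa5 ya16 za9) (ka xa7 ya1 za36) (ka xa5 ya22 za17) (ka xa5 ya22 za18) (ka xa5 ya22 za19) (ka xa5 ya22 za20) (ka xa5 ya22 za21) (ka xa5 ya22 za22) (ka xa4 ya21 za29) (ka xa4 ya21 za30) (ka xa4 ya21 za31) (ka xa4 ya21 za33) (ka xa4 ya21 za35) (ka xa4 ya21 za36) (ka xa5 ya17 za35) (ka xa5 ya16 za23) (ka xa7 ya1 za49) (ka xa7 ya1 za50) (ka xa7 ya2 za0) (ka xa7 ya2 za1) (ka xa5 ya17 za13) (ka xa7 ya2 za2) (ka xa7 ya2 za3) (ka xa5 ya16 za8) (ka xa7 ya2 za4) (ka xa5 ya22 za40) (ka xa5 ya22 za41) (ka xa5 ya22 za42) (ka xa5 ya22 za43) (ka xa5 ya22 za44) (ka xa5 ya22 za45)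 (ka xa5 ya22 za46) (ka xa5 ya21 za39) (ka xa5 ya21 za35) (ka xa5 ya22 za49) (ka xa5 ya22 za50)) (@D3.rec (fun _ => Pt) (ka xa5 ya23 za0) (ka xa5 ya23 za1) (ka xa4 ya21 za49) (ka xa5 ya4 za21) (ka xa5 ya21 za34) (ka xa5 ya4 za19) (ka xa5 ya4 za36) (ka xa5 ya21 za40) (ka xa5 ya21 za37) (ka xa5 ya21 za12) (ka xa5 ya23 za10) (ka xa5 ya23 za11) (ka xa5 ya23 za12) (ka xa5 ya23 za13) (ka xa5 ya23 za14) (ka xa4 ya22 za13) (ka xa5 ya4 za35) (ka xa7 ya2 za37) (ka xa5 ya21 za11) (ka xa5 ya4 za32) (ka xa5 ya23 za20) (ka xa5 ya23 za21) (ka xa5 ya5 za10) (ka xa5 ya21 za25) (ka xa5 ya21 za42) (ka xa5 ya21 za41) (ka xa5 ya21 za19) (ka xa5 ya23 za27) (ka xa5 ya23 za28) (ka xa5 ya23 za29) (ka xa5 ya23 za30) (ka xa5 ya23 za31) (ka xa4 ya22 za33) (ka xa4 ya22 za34) (ka xa5 ya5 za7) (ka xa5 ya5 za9) (ka xa7 ya3 za2) (ka xa5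 ya5 za4) (ka xa5 ya21 za18) (ka xa5 ya5 za5) (ka xa5 ya23 za40) (ka xa5 ya23 za41) (ka xa5 ya23 za42) (ka xa5 ya23 za43) (ka xa5 ya23 za44) (ka xa5 ya19 za34) (ka xa5 ya9 za28) (ka xa5 ya21 za15) (ka xa5 ya21 za16) (ka xa5 ya15 za26) (ka xa5 ya15 za27)) (@D3.rec (fun _ => Pt) (ka xa5 ya16 za7) (ka xa5 ya24 za1) (ka xa5 ya24 za2) (ka xa5 ya24 za3) (ka xa5 ya24 za4) (ka xa5 ya24 za5) (ka xa4 ya25 za31) (ka xa4 ya23 za4) (ka xa4 ya23 za5) (ka xa4 ya23 za6) (ka xa4 ya23 za7) (ka xa4 ya23 za8) (ka xa4 ya23 za9) (ka xa7 ya3 za31) (ka xa7 ya3 za32) (ka xa7 ya3 za33) (ka xa7 ya3 za34) (ka xa7 ya3 za35) (ka xa7 ya3 za36) (ka xa7 ya3 za37) (ka xa5 ya16 za6) (ka xa5 ya15 za19) (ka xa7 ya3 za38) (ka xa5 ya24 za23) (ka xa5 ya24 za24) (ka xa5 ya24 za25) (ka xa5 ya24 za26) (ka xa5 ya24 za27) (ka xa5 ya24 za28) (ka xa5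 ya24 za29) (ka xa5 ya19 za48) (ka xa5 ya19 za49) (ka xa5 ya11 za3) (ka xa5 ya0 za14) (ka xa5 ya11 za4) (ka xa5 ya21 za28) (ka xa5 ya16 za19) (ka xa5 ya21 za29) (ka xa5 ya16 za21) (ka xa5 ya16 za22) (ka xa5 ya24 za40) (ka xa5 ya24 za41) (ka xa5 ya24 za42) (ka xa5 ya24 za43) (ka xa5 ya24 za44) (ka xa5 ya24 za45) (ka xa5 ya24 za46) (ka xa4 ya26 za46) (ka xa4 ya26 za47) (ka xa4 ya23 za36) (ka xa4 ya23 za37)) (@D3.rec (fun _ => Pt) (ka xa4 ya23 za38) (ka xa4 ya23 za39) (ka xa4 ya23 za40) (ka xa4 ya23 za41) (ka xa4 ya23 za42) (ka xa4 ya23 za43) (ka xa4 ya23 za44) (ka xa4 ya23 za45) (ka xa7 ya4 za34) (ka xa7 ya4 za35) (ka xa7 ya4 za36) (ka xa7 ya4 za37) (ka xa7 ya4 za38) (ka xa7 ya4 za39) (ka xa7 ya4 za40) (ka xa7 ya4 za41) (ka xa7 ya4 za42) (ka xa7 ya4 za43) (ka xa7 ya4 za44) (ka xa7 ya4 za45) (ka xa7 ya4 za46)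 (ka xa7 ya4 za47) (ka xa5 ya16 za10) (ka xa7 ya4 za48) (ka xa5 ya25 za24) (ka xa5 ya25 za25) (ka xa5 ya25 za26) (ka xa5 ya25 za27) (ka xa5 ya25 za28) (ka xa5 ya25 za29) (ka xa5 ya25 za30) (ka xa5 ya25 za31) (ka xa5 ya20 za23) (ka xa5 ya20 za26) (ka xa5 ya13 za3) (ka xa5 ya20 za27) (ka xa5 ya13 za5) (ka xa5 ya2 za20) (ka xa5 ya13 za6) (ka xa5 ya2 za21) (ka xa5 ya21 za31) (ka xa5 ya21 za32) (ka xa5 ya17 za31) (ka xa5 ya17 za24) (ka xa5 ya17 za32) (ka xa5 ya17 za33) (ka xa5 ya17 za34) (ka xa5 ya25 za47) (ka xa5 ya25 za48) (ka xa5 ya25 za49) (ka xa5 ya25 za50)) (@D3.rec (fun _ => Pt) (ka xa5 ya26 za0) (ka xa5 ya26 za1) (ka xa5 ya26 za2) (ka xa5 ya26 za3) (ka xa5 ya1 za40) (ka xa5 ya1 za41) (ka xa5 ya1 za42) (ka xa5 ya1 za23) (ka xa5 ya1 za43) (ka xa4 ya24 za31) (ka xa4 ya24 za32) (ka xa4 ya24 za33) (ka xa4 ya24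 za34) (ka xa4 ya24 za35) (ka xa4 ya24 za36) (ka xa4 ya24 za37) (ka xa4 ya24 za38) (ka xa4 ya24 za39) (ka xa4 ya24 za40) (ka xa4 ya24 za41) (ka xa4 ya24 za42) (ka xa4 ya24 za43) (ka xa4 ya24 za44) (ka xa4 ya24 za45) (ka xa4 ya24 za46) (ka xa7 ya6 za20) (ka xa7 ya6 za21) (ka xa7 ya6 za22) (ka xa7 ya6 za23) (ka xa7 ya6 za24) (ka xa7 ya6 za25) (ka xa7 ya6 za26) (ka xa7 ya6 za27) (ka xa7 ya6 za28) (ka xa7 ya6 za29) (ka xa7 ya6 za30) (ka xa7 ya6 za31) (ka xa7 ya6 za32) (ka xa7 ya6 za33) (ka xa7 ya6 za34) (ka xa7 ya6 za35) (ka xa7 ya6 za36) (ka xa7 ya6 za37) (ka xa7 ya6 za38) (ka xa7 ya6 za39) (ka xa7 ya6 za40) (ka xa7 ya6 za41) (ka xa7 ya6 za42) (ka xa5 ya26 za48) (ka xa5 ya26 za49) (ka xa5 ya26 za50))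
def f_a_6 : D2 → D3 → Pt := @D2.rec (fun _ => D3 → Pt) (@D3.rec (fun _ => Pt) (ka xa6 ya0 za0) (ka xa6 ya0 za1) (ka xa6 ya0 za2) (ka xa6 ya0 za3) (ka xa6 ya0 za4) (ka xa7 ya7 za37) (ka xa6 ya0 za6) (ka xa6 ya0 za7) (ka xa4 ya25 za6) (ka xa4 ya25 za7) (ka xa4 ya25 za8) (ka xa4 ya25 za9) (ka xa7 ya7 za41) (ka xa7 ya7 za42) (ka xa7 ya7 za43) (ka xa7 ya7 za44) (ka xa7 ya7 za45) (ka xa7 ya7 za46) (ka xa7 ya7 za47) (ka xa6 ya0 za19) (ka xa6 ya0 za20) (ka xa6 ya0 za21) (ka xa6 ya0 za22) (ka xa6 ya0 za23) (ka xa5 ya18 za39) (ka xa4 ya25 za19) (ka xa4 ya25 za20) (ka xa4 ya25 za21) (ka xa4 ya25 za22) (ka xa4 ya25 za23) (ka xa4 ya25 za24) (ka xa4 ya25 za25) (ka xa7 ya8 za12) (ka xa7 ya8 za13) (ka xa7 ya8 za14) (ka xa7 ya8 za15) (ka xa7 ya8 za16) (ka xa7 ya8 za17) (ka xa7 ya8 za18) (ka xa7 ya8 za19) (ka xa7 ya8 za20)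 (ka xa7 ya8 za21) (ka xa6 ya0 za42) (ka xa6 ya0 za43) (ka xa6 ya0 za44) (ka xa6 ya0 za45) (ka xa6 ya0 za46) (ka xa6 ya0 za47) (ka xa6 ya0 za48) (ka xa7 ya3 za29) (ka xa7 ya3 za30)) (@D3.rec (fun _ => Pt) (ka xa4 ya25 za39) (ka xa4 ya25 za40) (ka xa4 ya25 za41) (ka xa4 ya25 za42) (ka xa4 ya25 za43) (ka xa4 ya25 za44) (ka xa4 ya25 za45) (ka xa4 ya25 za46) (ka xa4 ya25 za47) (ka xa4 ya25 za48) (ka xa7 ya8 za50) (ka xa7 ya9 za0) (ka xa7 ya9 za1) (ka xa7 ya9 za2) (ka xa7 ya9 za3) (ka xa7 ya9 za4) (ka xa7 ya9 za5) (ka xa7 ya3 za15) (ka xa7 ya9 za6) (ka xa7 ya9 za7) (ka xa7 ya9 za8) (ka xa7 ya9 za9) (ka xa7 ya9 za10) (ka xa7 ya9 za11) (ka xa7 ya9 za12) (ka xa7 ya9 za13) (ka xa6 ya1 za26) (ka xa6 ya1 za27) (ka xa6 ya1 za28) (ka xa6 ya1 za29) (ka xa6 ya1 za30) (ka xa6 ya1 za31) (ka xa6 ya1 za32) (ka xa6 ya1 za33)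 (ka xa6 ya1 za34) (ka xa4 ya26 za9) (ka xa4 ya26 za10) (ka xa4 ya26 za11) (ka xa4 ya26 za12) (ka xa4 ya26 za13) (ka xa4 ya26 za14) (ka xa4 ya26 za15) (ka xa7 ya8 za1) (ka xa7 ya9 za45) (ka xa7 ya9 za46) (ka xa7 ya9 za47) (ka xa7 ya9 za48) (ka xa7 ya9 za49) (ka xa7 ya9 za50) (ka xa7 ya10 za0) (ka xa7 ya10 za1)) (@D3.rec (fun _ => Pt) (ka xa7 ya10 za2) (ka xa6 ya2 za1) (ka xa6 ya2 za2) (ka xa6 ya2 za3) (ka xa6 ya2 za4) (ka xa6 ya2 za5) (ka xa6 ya2 za6) (ka xa6 ya2 za7) (ka xa5 ya19 za1) (ka xa5 ya6 za44) (ka xa4 ya26 za29) (ka xa4 ya26 za30) (ka xa4 ya26 za31) (ka xa4 ya26 za32) (ka xa4 ya26 za33) (ka xa4 ya26 za34) (ka xa4 ya26 za35) (ka xa4 ya26 za36) (ka xa4 ya26 za37) (ka xa4 ya26 za38) (ka xa7 ya10 za27) (ka xa7 ya10 za28) (ka xa7 ya10 za29) (ka xa7 ya10 za30) (ka xa7 ya10 za31) (ka xa7 ya10 za32) (ka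 xa7 ya10 za33) (ka xa7 ya4 za32) (ka xa7 ya10 za34) (ka xa7 ya10 za35) (ka xa7 ya10 za36) (ka xa7 ya10 za37) (ka xa7 ya10 za38) (ka xa7 ya10 za39) (ka xa7 ya10 za40) (ka xa7 ya10 za41) (ka xa6 ya2 za36) (ka xa6 ya2 za37) (ka xa6 ya2 za38) (ka xa6 ya2 za39) (ka xa6 ya2 za40) (ka xa6 ya2 za41) (ka xa6 ya2 za42) (ka xa6 ya2 za43) (ka xa7 ya4 za29) (ka xa7 ya4 za30) (ka xa7 ya4 za31) (ka xa7 ya4 za33) (ka xa5 ya0 za7) (ka xa5 ya0 za8) (ka xa5 ya0 za9)) (@D3.rec (fun _ => Pt) (ka xa5 ya0 za10) (ka xa5 ya0 za11) (ka xa5 ya0 za12) (ka xa5 ya0 za13) (ka xa5 ya0 za15) (ka xa5 ya0 za16) (ka xa5 ya0 za17) (ka xa5 ya0 za18) (ka xa5 ya0 za19) (ka xa5 ya0 za20) (ka xa5 ya0 za21) (ka xa5 ya0 za22) (ka xa7 ya11 za31) (ka xa7 ya11 za32) (ka xa7 ya11 za33) (ka xa7 ya11 za34) (ka xa7 ya11 za35) (ka xa7 ya11 za36) (ka xa7 ya11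 za37) (ka xa7 ya11 za38) (ka xa7 ya11 za39) (ka xa7 ya11 za40) (ka xa7 ya11 za41) (ka xa7 ya11 za42) (ka xa7 ya4 za11) (ka xa7 ya4 za13) (ka xa7 ya11 za43) (ka xa7 ya11 za44) (ka xa7 ya11 za45) (ka xa7 ya11 za46) (ka xa7 ya11 za47) (ka xa7 ya11 za48) (ka xa7 ya11 za49) (ka xa7 ya11 za50) (ka xa7 ya12 za0) (ka xa6 ya3 za35) (ka xa6 ya3 za36) (ka xa6 ya3 za37) (ka xa6 ya3 za38) (ka xa6 ya3 za39) (ka xa6 ya3 za40) (ka xa6 ya3 za41) (ka xa6 ya3 za42) (ka xa7 ya12 za45) (ka xa6 ya3 za44) (ka xa6 ya3 za45) (ka xa6 ya3 za46) (ka xa6 ya3 za47) (ka xa5 ya0 za39) (ka xa5 ya0 za40) (ka xa5 ya0 za41)) (@D3.rec (fun _ => Pt) (ka xa5 ya0 za42) (ka xa5 ya0 za45) (ka xa5 ya0 za46) (ka xa5 ya0 za47) (ka xa5 ya20 za43) (ka xa5 ya20 za39) (ka xa7 ya10 za9) (ka xa7 ya13 za0) (ka xa7 ya13 za1) (ka xa7 ya13 za2) (ka xa7 ya6 za18)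 (ka xa7 ya13 za3) (ka xa5 ya20 za41) (ka xa5 ya20 za42) (ka xa5 ya20 za37) (ka xa5 ya20 za40) (ka xa7 ya13 za4) (ka xa7 ya13 za5) (ka xa6 ya4 za18) (ka xa6 ya4 za19) (ka xa6 ya4 za20) (ka xa6 ya4 za21) (ka xa6 ya4 za22) (ka xa6 ya4 za23) (ka xa6 ya4 za24) (ka xa6 ya4 za25) (ka xa5 ya19 za25) (ka xa5 ya19 za26) (ka xa5 ya8 za16) (ka xa5 ya8 za17) (ka xa5 ya1 za17) (ka xa5 ya1 za18) (ka xa5 ya1 za19) (ka xa5 ya1 za20) (ka xa5 ya1 za21) (ka xa5 ya1 za22) (ka xa5 ya1 za24) (ka xa5 ya1 za25) (ka xa5 ya1 za26) (ka xa5 ya1 za27) (ka xa5 ya1 za29) (ka xa5 ya1 za30) (ka xa5 ya1 za31) (ka xa5 ya13 za42) (ka xa5 ya12 za3) (ka xa7 ya13 za35) (ka xa7 ya13 za36) (ka xa7 ya13 za37) (ka xa7 ya13 za38) (ka xa7 ya13 za39) (ka xa7 ya13 za40)) (@D3.rec (fun _ => Pt) (ka xa7 ya13 za41) (ka xa7 ya13 za42) (ka xa7 ya13 za43) (ka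 xa7 ya13 za44) (ka xa7 ya6 za16) (ka xa7 ya6 za19) (ka xa7 ya13 za45) (ka xa7 ya13 za46) (ka xa7 ya13 za47) (ka xa7 ya13 za48) (ka xa5 ya13 za35) (ka xa7 ya13 za49) (ka xa5 ya11 za38) (ka xa5 ya13 za36) (ka xa7 ya13 za50) (ka xa6 ya5 za15) (ka xa6 ya5 za16) (ka xa6 ya5 za17) (ka xa6 ya5 za18) (ka xa6 ya5 za19) (ka xa6 ya5 za20) (ka xa6 ya5 za21) (ka xa6 ya5 za22) (ka xa7 ya14 za44) (ka xa6 ya5 za24) (ka xa6 ya5 za25) (ka xa7 ya6 za11) (ka xa7 ya6 za12) (ka xa7 ya6 za13) (ka xa7 ya6 za14) (ka xa7 ya6 za15) (ka xa7 ya6 za17) (ka xa5 ya2 za8) (ka xa5 ya2 za9) (ka xa5 ya2 za10) (ka xa5 ya2 za11) (ka xa5 ya2 za12) (ka xa5 ya2 za13) (ka xa5 ya2 za14) (ka xa5 ya2 za15) (ka xa5 ya2 za16) (ka xa5 ya2 za17) (ka xa5 ya2 za18) (ka xa5 ya2 za19) (ka xa5 ya2 za22) (ka xa5 ya2 za23) (ka xa5 ya2 za24) (ka xa5 ya2 za25)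 (ka xa5 ya2 za26) (ka xa5 ya2 za27) (ka xa5 ya2 za28)) (@D3.rec (fun _ => Pt) (ka xa5 ya2 za29) (ka xa5 ya2 za30) (ka xa7 ya15 za5) (ka xa7 ya15 za6) (ka xa7 ya15 za7) (ka xa7 ya15 za8) (ka xa7 ya15 za9) (ka xa7 ya15 za10) (ka xa7 ya15 za11) (ka xa7 ya15 za12) (ka xa7 ya15 za13) (ka xa7 ya15 za14) (ka xa7 ya15 za15) (ka xa7 ya15 za16) (ka xa7 ya15 za17) (ka xa7 ya15 za18) (ka xa7 ya15 za19) (ka xa7 ya15 za20) (ka xa7 ya15 za21) (ka xa7 ya5 za40) (ka xa7 ya15 za22) (ka xa7 ya15 za23) (ka xa7 ya5 za38) (ka xa7 ya5 za41) (ka xa7 ya5 za42) (ka xa7 ya15 za24) (ka xa7 ya15 za25) (ka xa7 ya15 za26) (ka xa7 ya15 za27) (ka xa7 ya15 za28) (ka xa7 ya15 za29) (ka xa7 ya15 za30) (ka xa7 ya15 za31) (ka xa7 ya16 za29) (ka xa7 ya15 za33) (ka xa5 ya14 za25) (ka xa6 ya6 za36) (ka xa6 ya6 za37) (ka xa6 ya6 za38) (ka xa6 ya6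 za39) (ka xa6 ya6 za40) (ka xa6 ya6 za41) (ka xa6 ya6 za42) (ka xa6 ya6 za43) (ka xa7 ya16 za45) (ka xa6 ya6 za45) (ka xa6 ya6 za46) (ka xa5 ya2 za39) (ka xa7 ya16 za48) (ka xa6 ya6 za49) (ka xa6 ya6 za50)) (@D3.rec (fun _ => Pt) (ka xa6 ya7 za0) (ka xa6 ya7 za1) (ka xa5 ya19 za21) (ka xa5 ya3 za6) (ka xa5 ya13 za40) (ka xa5 ya13 za41) (ka xa5 ya12 za1) (ka xa5 ya12 za4) (ka xa5 ya13 za39) (ka xa7 ya17 za1) (ka xa5 ya13 za37) (ka xa5 ya13 za33) (ka xa5 ya13 za34) (ka xa5 ya11 za37) (ka xa5 ya19 za22) (ka xa6 ya7 za15) (ka xa6 ya7 za16) (ka xa6 ya7 za17) (ka xa6 ya7 za18) (ka xa6 ya7 za19) (ka xa6 ya7 za20) (ka xa6 ya7 za21) (ka xa6 ya7 za22) (ka xa5 ya21 za6) (ka xa6 ya7 za24) (ka xa6 ya7 za25) (ka xa5 ya3 za19) (ka xa7 ya17 za24) (ka xa6 ya7 za28) (ka xa5 ya3 za31) (ka xa5 ya3 za32) (ka xa5 ya3 za33) (ka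 xa5 ya3 za35) (ka xa5 ya3 za36) (ka xa5 ya3 za41) (ka xa5 ya3 za42) (ka xa5 ya3 za43) (ka xa5 ya3 za45) (ka xa5 ya3 za47) (ka xa7 ya17 za39) (ka xa7 ya17 za27) (ka xa7 ya17 za28) (ka xa7 ya17 za29) (ka xa7 ya17 za30) (ka xa5 ya14 za42) (ka xa7 ya17 za31) (ka xa5 ya14 za45) (ka xa5 ya13 za17) (ka xa7 ya17 za32) (ka xa5 ya14 za34) (ka xa5 ya14 za37)) (@D3.rec (fun _ => Pt) (ka xa5 ya14 za39) (ka xa5 ya14 za41) (ka xa7 ya18 za7) (ka xa7 ya17 za33) (ka xa7 ya17 za34) (ka xa5 ya14 za27) (ka xa7 ya17 za35) (ka xa7 ya17 za36) (ka xa5 ya14 za28) (ka xa7 ya17 za37) (ka xa5 ya14 za29) (ka xa7 ya18 za21) (ka xa5 ya14 za30) (ka xa5 ya14 za22) (ka xa5 ya3 za49) (ka xa7 ya18 za24) (ka xa5 ya14 za24) (ka xa6 ya8 za17) (ka xa6 ya8 za18) (ka xa6 ya8 za19) (ka xa6 ya8 za20) (ka xa6 ya8 za21) (ka xa7 ya18 za32) (ka xa6 ya8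 za23) (ka xa6 ya8 za24) (ka xa6 ya8 za25) (ka xa6 ya8 za26) (ka xa7 ya18 za37) (ka xa6 ya8 za28) (ka xa6 ya8 za29) (ka xa5 ya4 za9) (ka xa7 ya18 za40) (ka xa6 ya8 za32) (ka xa5 ya4 za13) (ka xa7 ya18 za43) (ka xa6 ya8 za35) (ka xa5 ya4 za20) (ka xa7 ya2 za27) (ka xa7 ya2 za30) (ka xa5 ya4 za34) (ka xa5 ya21 za36) (ka xa5 ya21 za13) (ka xa5 ya21 za38) (ka xa5 ya4 za33) (ka xa7 ya2 za41) (ka xa7 ya18 za46) (ka xa7 ya2 za38) (ka xa7 ya2 za39) (ka xa7 ya2 za31) (ka xa6 ya8 za49) (ka xa6 ya8 za50)) (@D3.rec (fun _ => Pt) (ka xa6 ya9 za0) (ka xa5 ya21 za24) (ka xa5 ya5 za8) (ka xa5 ya21 za20) (ka xa5 ya21 za23) (ka xa5 ya21 za21) (ka xa5 ya21 za22) (ka xa6 ya9 za7) (ka xa6 ya9 za8) (ka xa5 ya5 za6) (ka xa7 ya3 za9) (ka xa7 ya3 za8) (ka xa7 ya19 za4) (ka xa7 ya19 za0) (ka xa7 ya3 za4) (ka xa7 ya3 za3) (ka xa7 ya2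 za42) (ka xa7 ya3 za5) (ka xa7 ya2 za43) (ka xa6 ya9 za19) (ka xa6 ya9 za20) (ka xa6 ya9 za21) (ka xa6 ya9 za22) (ka xa6 ya9 za23) (ka xa6 ya9 za24) (ka xa6 ya9 za25) (ka xa6 ya9 za26) (ka xa5 ya19 za33) (ka xa5 ya18 za37) (ka xa5 ya9 za26) (ka xa5 ya9 za29) (ka xa5 ya21 za14) (ka xa5 ya15 za24) (ka xa5 ya18 za32) (ka xa5 ya15 za22) (ka xa5 ya15 za25) (ka xa6 ya9 za36) (ka xa6 ya9 za37) (ka xa5 ya9 za11) (ka xa5 ya8 za48) (ka xa5 ya5 za40) (ka xa5 ya5 za41) (ka xa5 ya5 za42) (ka xa5 ya5 za43) (ka xa5 ya5 za44) (ka xa5 ya5 za45) (ka xa5 ya5 za46) (ka xa5 ya5 za47) (ka xa5 ya5 za48) (ka xa5 ya5 za49) (ka xa7 ya19 za21)) (@D3.rec (fun _ => Pt) (ka xa7 ya19 za20) (ka xa7 ya19 za30) (ka xa7 ya19 za31) (ka xa7 ya19 za32) (ka xa7 ya19 za33) (ka xa7 ya8 za11) (ka xa7 ya19 za34) (ka xa7 ya19 za35) (ka xa7 ya18 za50)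 (ka xa7 ya19 za36) (ka xa7 ya19 za37) (ka xa7 ya19 za38) (ka xa7 ya19 za39) (ka xa7 ya19 za40) (ka xa6 ya10 za14) (ka xa6 ya10 za15) (ka xa6 ya10 za16) (ka xa6 ya10 za17) (ka xa6 ya10 za18) (ka xa6 ya10 za19) (ka xa6 ya10 za20) (ka xa6 ya10 za21) (ka xa6 ya10 za22) (ka xa5 ya19 za46) (ka xa5 ya19 za47) (ka xa5 ya11 za1) (ka xa5 ya18 za48) (ka xa5 ya10 za50) (ka xa5 ya11 za2) (ka xa5 ya21 za27) (ka xa5 ya21 za26) (ka xa5 ya16 za17) (ka xa5 ya16 za13) (ka xa5 ya16 za20) (ka xa5 ya16 za15) (ka xa5 ya16 za18) (ka xa6 ya10 za36) (ka xa6 ya10 za37) (ka xa6 ya10 za38) (ka xa6 ya10 za39) (ka xa6 ya10 za40) (ka xa5 ya10 za27) (ka xa5 ya10 za28) (ka xa5 ya10 za9) (ka xa5 ya10 za11) (ka xa5 ya6 za37) (ka xa5 ya6 za38) (ka xa5 ya6 za39) (ka xa5 ya6 za40) (ka xa5 ya6 za41) (ka xa5 ya6 za42)) (@D3.rec (fun _ => Pt) (ka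 xa5 ya6 za43) (ka xa5 ya6 za45) (ka xa5 ya6 za46) (ka xa5 ya6 za47) (ka xa5 ya6 za48) (ka xa5 ya6 za49) (ka xa5 ya6 za50) (ka xa5 ya7 za0) (ka xa5 ya7 za1) (ka xa7 ya20 za15) (ka xa7 ya5 za18) (ka xa7 ya20 za34) (ka xa7 ya20 za12) (ka xa7 ya20 za35) (ka xa7 ya20 za36) (ka xa7 ya20 za37) (ka xa7 ya20 za38) (ka xa7 ya20 za39) (ka xa7 ya20 za40) (ka xa7 ya20 za41) (ka xa7 ya20 za42) (ka xa7 ya10 za25) (ka xa7 ya10 za26) (ka xa7 ya20 za43) (ka xa7 ya20 za44) (ka xa7 ya20 za45) (ka xa7 ya20 za46) (ka xa7 ya20 za47) (ka xa7 ya4 za50) (ka xa7 ya20 za48) (ka xa7 ya20 za49) (ka xa6 ya11 za31) (ka xa6 ya11 za32) (ka xa6 ya11 za33) (ka xa6 ya11 za34) (ka xa6 ya11 za35) (ka xa6 ya11 za36) (ka xa6 ya11 za37) (ka xa6 ya11 za38) (ka xa7 ya21 za40) (ka xa6 ya11 za40) (ka xa6 ya11 za41) (ka xa6 ya11 za42) (ka xa6 ya11 za43)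 (ka xa6 ya11 za44) (ka xa6 ya11 za45) (ka xa6 ya11 za46) (ka xa5 ya20 za22) (ka xa5 ya20 za20) (ka xa5 ya20 za25) (ka xa5 ya20 za24)) (@D3.rec (fun _ => Pt) (ka xa5 ya13 za1) (ka xa5 ya12 za48) (ka xa5 ya13 za4) (ka xa5 ya12 za50) (ka xa5 ya13 za2) (ka xa5 ya21 za30) (ka xa5 ya17 za29) (ka xa5 ya17 za27) (ka xa5 ya17 za19) (ka xa5 ya17 za30) (ka xa5 ya17 za22) (ka xa5 ya17 za25) (ka xa5 ya17 za28) (ka xa6 ya12 za13) (ka xa6 ya12 za14) (ka xa6 ya12 za15) (ka xa6 ya12 za16) (ka xa6 ya12 za17) (ka xa6 ya12 za18) (ka xa6 ya12 za19) (ka xa6 ya12 za20) (ka xa7 ya22 za29) (ka xa6 ya12 za22) (ka xa6 ya12 za23) (ka xa5 ya12 za17) (ka xa5 ya12 za18) (ka xa5 ya11 za47) (ka xa5 ya12 za19) (ka xa5 ya11 za45) (ka xa5 ya11 za48) (ka xa5 ya8 za4) (ka xa5 ya8 za5) (ka xa5 ya8 za6) (ka xa5 ya8 za7) (ka xa5 ya8 za8) (ka xa5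 ya8 za9) (ka xa5 ya8 za10) (ka xa5 ya8 za11) (ka xa5 ya8 za12) (ka xa5 ya8 za13) (ka xa5 ya8 za14) (ka xa5 ya8 za15) (ka xa5 ya8 za18) (ka xa5 ya8 za19) (ka xa5 ya8 za20) (ka xa5 ya8 za21) (ka xa5 ya8 za22) (ka xa5 ya8 za23) (ka xa5 ya8 za24) (ka xa5 ya8 za25) (ka xa7 ya22 za41)) (@D3.rec (fun _ => Pt) (ka xa7 ya22 za42) (ka xa7 ya22 za43) (ka xa7 ya22 za44) (ka xa7 ya22 za45) (ka xa7 ya22 za46) (ka xa7 ya22 za47) (ka xa7 ya22 za48) (ka xa7 ya22 za49) (ka xa7 ya22 za50) (ka xa7 ya23 za0) (ka xa7 ya23 za1) (ka xa7 ya23 za2) (ka xa7 ya23 za3) (ka xa7 ya23 za4) (ka xa7 ya23 za5) (ka xa7 ya23 za6) (ka xa7 ya13 za31) (ka xa7 ya23 za7) (ka xa7 ya13 za33) (ka xa7 ya13 za34) (ka xa7 ya23 za8) (ka xa7 ya23 za9) (ka xa7 ya23 za10) (ka xa7 ya23 za11) (ka xa7 ya23 za12) (ka xa7 ya23 za13) (ka xa7 ya23 za14) (ka xa7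 ya23 za15) (ka xa7 ya24 za11) (ka xa7 ya23 za17) (ka xa7 ya23 za18) (ka xa6 ya13 za31) (ka xa6 ya13 za32) (ka xa6 ya13 za33) (ka xa6 ya13 za34) (ka xa6 ya13 za35) (ka xa6 ya13 za36) (ka xa6 ya13 za37) (ka xa6 ya13 za38) (ka xa7 ya24 za27) (ka xa6 ya13 za40) (ka xa6 ya13 za41) (ka xa5 ya8 za34) (ka xa7 ya24 za30) (ka xa6 ya13 za44) (ka xa5 ya18 za38) (ka xa5 ya8 za45) (ka xa5 ya8 za46) (ka xa5 ya8 za47) (ka xa5 ya8 za49) (ka xa5 ya8 za50)) (@D3.rec (fun _ => Pt) (ka xa5 ya9 za0) (ka xa5 ya9 za1) (ka xa5 ya9 za2) (ka xa5 ya9 za3) (ka xa7 ya24 za34) (ka xa7 ya24 za35) (ka xa7 ya24 za36) (ka xa5 ya19 za40) (ka xa7 ya24 za37) (ka xa7 ya19 za28) (ka xa7 ya24 za38) (ka xa7 ya19 za29) (ka xa7 ya24 za39) (ka xa7 ya24 za40) (ka xa7 ya24 za41) (ka xa7 ya24 za42) (ka xa7 ya24 za43) (ka xa7 ya24 za44) (ka xa7 ya24 za45)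 (ka xa6 ya14 za19) (ka xa6 ya14 za20) (ka xa6 ya14 za21) (ka xa7 ya19 za27) (ka xa5 ya19 za30) (ka xa5 ya9 za21) (ka xa5 ya9 za22) (ka xa5 ya9 za23) (ka xa5 ya9 za24) (ka xa5 ya9 za25) (ka xa5 ya9 za27) (ka xa5 ya9 za30) (ka xa5 ya9 za31) (ka xa5 ya9 za32) (ka xa5 ya9 za33) (ka xa5 ya9 za34) (ka xa5 ya9 za35) (ka xa5 ya9 za36) (ka xa7 ya24 za33) (ka xa7 ya25 za10) (ka xa7 ya25 za11) (ka xa7 ya25 za12) (ka xa7 ya25 za13) (ka xa7 ya25 za14) (ka xa7 ya25 za15) (ka xa7 ya25 za16) (ka xa7 ya19 za23) (ka xa7 ya25 za17) (ka xa7 ya19 za22) (ka xa7 ya19 za24) (ka xa7 ya3 za14) (ka xa7 ya3 za16)) (@D3.rec (fun _ => Pt) (ka xa7 ya25 za18) (ka xa7 ya25 za19) (ka xa7 ya25 za20) (ka xa7 ya25 za21) (ka xa7 ya25 za22) (ka xa7 ya25 za23) (ka xa7 ya25 za24) (ka xa7 ya25 za25) (ka xa6 ya15 za8) (ka xa6 ya15 za9) (ka xa6 ya15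 za10) (ka xa6 ya15 za11) (ka xa6 ya15 za12) (ka xa6 ya15 za13) (ka xa6 ya15 za14) (ka xa6 ya15 za15) (ka xa7 ya26 za12) (ka xa6 ya15 za17) (ka xa6 ya15 za18) (ka xa5 ya19 za0) (ka xa5 ya18 za50) (ka xa5 ya10 za4) (ka xa5 ya10 za5) (ka xa5 ya10 za6) (ka xa5 ya10 za7) (ka xa5 ya10 za8) (ka xa5 ya10 za10) (ka xa5 ya10 za12) (ka xa5 ya10 za13) (ka xa5 ya10 za14) (ka xa5 ya10 za15) (ka xa5 ya10 za16) (ka xa5 ya10 za17) (ka xa5 ya10 za18) (ka xa7 ya26 za16) (ka xa7 ya26 za17) (ka xa7 ya26 za18) (ka xa7 ya26 za19) (ka xa7 ya26 za20) (ka xa7 ya26 za21) (ka xa7 ya26 za22) (ka xa7 ya26 za23) (ka xa7 ya20 za32) (ka xa7 ya26 za24) (ka xa7 ya20 za31) (ka xa7 ya20 za33) (ka xa7 ya26 za25) (ka xa7 ya26 za26) (ka xa7 ya26 za27) (ka xa7 ya26 za28) (ka xa7 ya26 za29)) (@D3.rec (fun _ => Pt) (ka xa7 ya26 za30) (ka xa7 ya26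 za31) (ka xa7 ya26 za32) (ka xa6 ya16 za3) (ka xa6 ya16 za4) (ka xa6 ya16 za5) (ka xa6 ya16 za6) (ka xa6 ya16 za7) (ka xa6 ya16 za8) (ka xa8 ya0 za13) (ka xa6 ya16 za10) (ka xa6 ya16 za11) (ka xa7 ya20 za29) (ka xa7 ya20 za30) (ka xa5 ya19 za38) (ka xa5 ya10 za42) (ka xa5 ya10 za43) (ka xa5 ya10 za44) (ka xa5 ya10 za45) (ka xa5 ya10 za46) (ka xa5 ya10 za47) (ka xa5 ya10 za48) (ka xa5 ya10 za49) (ka xa5 ya11 za0) (ka xa5 ya11 za5) (ka xa5 ya11 za6) (ka xa5 ya11 za7) (ka xa5 ya11 za8) (ka xa5 ya11 za9) (ka xa5 ya11 za10) (ka xa5 ya11 za11) (ka xa5 ya11 za12) (ka xa8 ya0 za18) (ka xa7 ya26 za15) (ka xa8 ya0 za19) (ka xa8 ya0 za20) (ka xa8 ya0 za21) (ka xa8 ya0 za22) (ka xa8 ya0 za23) (ka xa8 ya0 za24) (ka xa8 ya0 za25) (ka xa8 ya0 za26) (ka xa8 ya0 za27) (ka xa7 ya20 za17) (ka xa8 ya0 za28) (ka xa7 ya20 za19)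 (ka xa8 ya0 za29) (ka xa7 ya20 za16) (ka xa7 ya20 za20) (ka xa7 ya4 za8) (ka xa7 ya20 za18)) (@D3.rec (fun _ => Pt) (ka xa7 ya4 za10) (ka xa7 ya4 za12) (ka xa8 ya0 za30) (ka xa8 ya0 za31) (ka xa8 ya0 za32) (ka xa8 ya0 za33) (ka xa8 ya0 za34) (ka xa8 ya0 za35) (ka xa8 ya0 za36) (ka xa8 ya0 za37) (ka xa8 ya1 za31) (ka xa8 ya0 za39) (ka xa8 ya0 za40) (ka xa6 ya17 za13) (ka xa6 ya17 za14) (ka xa6 ya17 za15) (ka xa6 ya17 za16) (ka xa6 ya17 za17) (ka xa6 ya17 za18) (ka xa6 ya17 za19) (ka xa6 ya17 za20) (ka xa8 ya1 za47) (ka xa6 ya17 za22) (ka xa6 ya17 za23) (ka xa5 ya11 za21) (ka xa8 ya1 za50) (ka xa6 ya17 za26) (ka xa5 ya19 za24) (ka xa5 ya19 za23) (ka xa5 ya11 za39) (ka xa5 ya11 za40) (ka xa5 ya11 za41) (ka xa5 ya11 za42) (ka xa5 ya11 za43) (ka xa5 ya11 za44) (ka xa5 ya11 za46) (ka xa5 ya11 za49) (ka xa5 ya11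 za50) (ka xa5 ya12 za0) (ka xa5 ya12 za2) (ka xa5 ya12 za5) (ka xa7 ya17 za10) (ka xa7 ya17 za12) (ka xa7 ya14 za29) (ka xa7 ya14 za10) (ka xa7 ya14 za32) (ka xa8 ya2 za4) (ka xa8 ya2 za5) (ka xa8 ya2 za6) (ka xa8 ya2 za7) (ka xa8 ya2 za8)) (@D3.rec (fun _ => Pt) (ka xa7 ya14 za3) (ka xa7 ya22 za37) (ka xa8 ya2 za9) (ka xa7 ya22 za39) (ka xa8 ya2 za10) (ka xa7 ya22 za36) (ka xa7 ya22 za40) (ka xa7 ya22 za38) (ka xa8 ya2 za11) (ka xa8 ya2 za12) (ka xa7 ya17 za4) (ka xa8 ya2 za13) (ka xa7 ya17 za5) (ka xa8 ya2 za14) (ka xa7 ya14 za2) (ka xa7 ya17 za6) (ka xa8 ya3 za0) (ka xa7 ya14 za4) (ka xa6 ya18 za18) (ka xa6 ya18 za19) (ka xa6 ya18 za20) (ka xa6 ya18 za21) (ka xa6 ya18 za22) (ka xa6 ya18 za23) (ka xa6 ya18 za24) (ka xa6 ya18 za25) (ka xa8 ya3 za15) (ka xa6 ya18 za27) (ka xa6 ya18 za28) (ka xa5 ya12 za14)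 (ka xa8 ya3 za18) (ka xa6 ya18 za31) (ka xa7 ya22 za32) (ka xa7 ya22 za33) (ka xa7 ya22 za34) (ka xa7 ya22 za35) (ka xa5 ya12 za37) (ka xa5 ya12 za38) (ka xa5 ya12 za39) (ka xa5 ya12 za40) (ka xa5 ya12 za41) (ka xa5 ya12 za42) (ka xa5 ya12 za43) (ka xa5 ya12 za44) (ka xa5 ya12 za45) (ka xa5 ya12 za46) (ka xa5 ya12 za47) (ka xa5 ya12 za49) (ka xa5 ya13 za0) (ka xa5 ya13 za7) (ka xa5 ya13 za8)) (@D3.rec (fun _ => Pt) (ka xa5 ya13 za9) (ka xa5 ya13 za10) (ka xa5 ya13 za11) (ka xa5 ya13 za12) (ka xa5 ya13 za13) (ka xa5 ya13 za14) (ka xa8 ya4 za3) (ka xa5 ya13 za16) (ka xa8 ya3 za26) (ka xa8 ya3 za27) (ka xa8 ya3 za28) (ka xa8 ya3 za29) (ka xa8 ya3 za30) (ka xa8 ya3 za31) (ka xa7 ya18 za26) (ka xa7 ya22 za0) (ka xa8 ya3 za32) (ka xa8 ya3 za33) (ka xa8 ya3 za34) (ka xa8 ya3 za35) (ka xa8 ya3 za36) (ka xa8 ya3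 za37) (ka xa8 ya3 za38) (ka xa8 ya3 za39) (ka xa7 ya22 za5) (ka xa8 ya3 za40) (ka xa8 ya4 za37) (ka xa7 ya22 za7) (ka xa8 ya3 za42) (ka xa7 ya5 za35) (ka xa7 ya22 za8) (ka xa8 ya3 za43) (ka xa7 ya22 za4) (ka xa7 ya22 za9) (ka xa7 ya22 za3) (ka xa7 ya22 za6) (ka xa7 ya5 za34) (ka xa7 ya5 za36) (ka xa7 ya5 za37) (ka xa7 ya5 za39) (ka xa8 ya3 za44) (ka xa8 ya3 za45) (ka xa8 ya3 za46) (ka xa8 ya3 za47) (ka xa8 ya3 za48) (ka xa8 ya3 za49) (ka xa8 ya3 za50) (ka xa8 ya4 za0) (ka xa8 ya5 za15) (ka xa8 ya4 za2) (ka xa7 ya17 za49)) (@D3.rec (fun _ => Pt) (ka xa5 ya13 za15) (ka xa8 ya5 za18) (ka xa7 ya18 za0) (ka xa6 ya20 za3) (ka xa6 ya20 za4) (ka xa6 ya20 za5) (ka xa6 ya20 za6) (ka xa6 ya20 za7) (ka xa8 ya5 za26) (ka xa6 ya20 za9) (ka xa6 ya20 za10) (ka xa6 ya20 za11) (ka xa6 ya20 za12) (ka xa8 ya5 za30) (ka xa6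 ya20 za14) (ka xa6 ya20 za15) (ka xa5 ya13 za26) (ka xa8 ya5 za32) (ka xa6 ya20 za18) (ka xa5 ya13 za30) (ka xa8 ya5 za35) (ka xa6 ya20 za21) (ka xa5 ya13 za38) (ka xa7 ya17 za11) (ka xa7 ya17 za9) (ka xa7 ya14 za25) (ka xa7 ya14 za27) (ka xa7 ya14 za30) (ka xa7 ya17 za8) (ka xa7 ya17 za7) (ka xa7 ya17 za3) (ka xa7 ya14 za0) (ka xa7 ya17 za2) (ka xa7 ya14 za1) (ka xa8 ya5 za50) (ka xa5 ya13 za43) (ka xa6 ya20 za36) (ka xa6 ya20 za37) (ka xa6 ya20 za38) (ka xa6 ya20 za39) (ka xa6 ya20 za40) (ka xa8 ya6 za4) (ka xa6 ya20 za42) (ka xa6 ya20 za43) (ka xa6 ya20 za44) (ka xa6 ya20 za45) (ka xa8 ya6 za9) (ka xa6 ya20 za47) (ka xa6 ya20 za48) (ka xa5 ya14 za1) (ka xa8 ya6 za12)) (@D3.rec (fun _ => Pt) (ka xa6 ya21 za0) (ka xa5 ya14 za5) (ka xa8 ya6 za15) (ka xa6 ya21 za3) (ka xa5 ya14 za18) (ka xa5 ya14 za19) (ka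 xa5 ya14 za20) (ka xa5 ya14 za21) (ka xa5 ya14 za23) (ka xa5 ya14 za26) (ka xa5 ya14 za32) (ka xa5 ya14 za33) (ka xa5 ya14 za35) (ka xa5 ya14 za36) (ka xa5 ya14 za38) (ka xa8 ya6 za28) (ka xa5 ya14 za17) (ka xa7 ya17 za19) (ka xa8 ya6 za18) (ka xa8 ya6 za5) (ka xa8 ya6 za19) (ka xa7 ya18 za17) (ka xa8 ya6 za20) (ka xa7 ya18 za20) (ka xa8 ya6 za21) (ka xa7 ya18 za23) (ka xa7 ya16 za28) (ka xa8 ya6 za42) (ka xa7 ya16 za31) (ka xa7 ya18 za9) (ka xa7 ya18 za12) (ka xa7 ya18 za15) (ka xa7 ya18 za16) (ka xa7 ya18 za19) (ka xa8 ya6 za50) (ka xa5 ya14 za31) (ka xa8 ya6 za22) (ka xa7 ya18 za1) (ka xa8 ya6 za23) (ka xa8 ya6 za24) (ka xa7 ya18 za2) (ka xa8 ya7 za4) (ka xa8 ya6 za26) (ka xa7 ya18 za3) (ka xa7 ya18 za4) (ka xa7 ya17 za44) (ka xa8 ya7 za7) (ka xa7 ya18 za5) (ka xa7 ya17 za46) (ka xa5 ya14 za40) (ka xa8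 ya7 za9)) (@D3.rec (fun _ => Pt) (ka xa7 ya17 za48) (ka xa5 ya14 za44) (ka xa8 ya7 za12) (ka xa7 ya15 za40) (ka xa5 ya15 za0) (ka xa5 ya15 za2) (ka xa5 ya15 za5) (ka xa8 ya7 za15) (ka xa6 ya22 za8) (ka xa5 ya15 za8) (ka xa7 ya2 za8) (ka xa6 ya22 za11) (ka xa5 ya15 za20) (ka xa5 ya15 za23) (ka xa5 ya15 za30) (ka xa5 ya15 za31) (ka xa5 ya15 za32) (ka xa5 ya15 za33) (ka xa5 ya15 za34) (ka xa7 ya1 za31) (ka xa7 ya3 za43) (ka xa7 ya3 za50) (ka xa7 ya4 za2) (ka xa7 ya1 za41) (ka xa7 ya1 za42) (ka xa7 ya4 za0) (ka xa7 ya19 za26) (ka xa7 ya3 za18) (ka xa7 ya19 za25) (ka xa7 ya3 za20) (ka xa7 ya3 za21) (ka xa7 ya1 za29) (ka xa7 ya1 za30) (ka xa7 ya1 za37) (ka xa7 ya1 za38) (ka xa7 ya3 za44) (ka xa8 ya7 za17) (ka xa8 ya7 za37) (ka xa8 ya7 za18) (ka xa8 ya7 za19) (ka xa6 ya22 za40) (ka xa6 ya22 za41) (ka xa6 ya22 za42)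 (ka xa6 ya22 za43) (ka xa6 ya22 za44) (ka xa6 ya22 za45) (ka xa6 ya22 za46) (ka xa8 ya8 za0) (ka xa6 ya22 za48) (ka xa6 ya22 za49) (ka xa5 ya15 za42)) (@D3.rec (fun _ => Pt) (ka xa8 ya8 za3) (ka xa6 ya23 za1) (ka xa5 ya16 za11) (ka xa5 ya16 za12) (ka xa5 ya16 za14) (ka xa5 ya16 za16) (ka xa5 ya16 za24) (ka xa5 ya16 za25) (ka xa5 ya16 za26) (ka xa5 ya16 za27) (ka xa5 ya16 za28) (ka xa5 ya16 za29) (ka xa8 ya8 za13) (ka xa5 ya16 za31) (ka xa5 ya16 za32) (ka xa7 ya3 za42) (ka xa7 ya3 za49) (ka xa7 ya3 za19) (ka xa7 ya2 za17) (ka xa7 ya1 za43) (ka xa7 ya5 za5) (ka xa7 ya5 za15) (ka xa7 ya5 za20) (ka xa8 ya8 za27) (ka xa7 ya20 za24) (ka xa8 ya8 za6) (ka xa7 ya4 za17) (ka xa7 ya20 za25) (ka xa8 ya8 za7) (ka xa7 ya5 za16) (ka xa7 ya20 za26) (ka xa7 ya20 za22) (ka xa7 ya20 za23) (ka xa7 ya4 za16) (ka xa7 ya4 za18)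 (ka xa7 ya4 za19) (ka xa7 ya4 za20) (ka xa7 ya2 za6) (ka xa7 ya2 za7) (ka xa7 ya7 za5) (ka xa8 ya8 za8) (ka xa8 ya8 za9) (ka xa7 ya5 za6) (ka xa8 ya8 za10) (ka xa8 ya9 za0) (ka xa8 ya8 za11) (ka xa8 ya8 za12) (ka xa5 ya16 za30) (ka xa8 ya9 za3) (ka xa8 ya8 za15) (ka xa6 ya23 za50)) (@D3.rec (fun _ => Pt) (ka xa6 ya24 za0) (ka xa6 ya24 za1) (ka xa8 ya9 za9) (ka xa6 ya24 za3) (ka xa6 ya24 za4) (ka xa6 ya24 za5) (ka xa6 ya24 za6) (ka xa8 ya9 za15) (ka xa6 ya24 za8) (ka xa6 ya24 za9) (ka xa5 ya16 za41) (ka xa8 ya9 za18) (ka xa6 ya24 za12) (ka xa5 ya16 za45) (ka xa8 ya9 za21) (ka xa6 ya24 za15) (ka xa5 ya17 za14) (ka xa5 ya17 za15) (ka xa5 ya17 za16) (ka xa5 ya17 za17) (ka xa5 ya17 za18) (ka xa5 ya17 za20) (ka xa8 ya9 za31) (ka xa5 ya17 za23) (ka xa5 ya17 za26) (ka xa5 ya17 za36) (ka xa5 ya17 za37) (ka xa5 ya17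 za38) (ka xa5 ya17 za39) (ka xa5 ya17 za40) (ka xa5 ya17 za41) (ka xa5 ya17 za42) (ka xa8 ya9 za44) (ka xa5 ya17 za44) (ka xa5 ya17 za45) (ka xa5 ya17 za10) (ka xa8 ya9 za47) (ka xa5 ya17 za48) (ka xa7 ya2 za13) (ka xa7 ya2 za14) (ka xa8 ya9 za24) (ka xa7 ya7 za19) (ka xa8 ya9 za25) (ka xa8 ya9 za26) (ka xa7 ya22 za14) (ka xa8 ya9 za27) (ka xa8 ya10 za13) (ka xa7 ya22 za16) (ka xa8 ya9 za29) (ka xa7 ya22 za12) (ka xa7 ya22 za17)) (@D3.rec (fun _ => Pt) (ka xa8 ya9 za30) (ka xa5 ya17 za21) (ka xa8 ya10 za22) (ka xa8 ya10 za23) (ka xa7 ya5 za48) (ka xa7 ya22 za19) (ka xa8 ya9 za33) (ka xa7 ya5 za46) (ka xa7 ya5 za49) (ka xa7 ya22 za20) (ka xa7 ya22 za11) (ka xa7 ya22 za15) (ka xa7 ya5 za44) (ka xa7 ya22 za13) (ka xa7 ya5 za45) (ka xa7 ya5 za47) (ka xa7 ya5 za50) (ka xa7 ya2 za5) (ka xa8 ya9 za34) (ka xa8 ya9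 za35) (ka xa8 ya10 za40) (ka xa8 ya9 za37) (ka xa8 ya9 za38) (ka xa8 ya9 za39) (ka xa8 ya9 za40) (ka xa8 ya10 za45) (ka xa8 ya9 za42) (ka xa8 ya9 za43) (ka xa5 ya17 za43) (ka xa8 ya10 za46) (ka xa8 ya9 za46) (ka xa5 ya17 za47) (ka xa8 ya10 za48) (ka xa8 ya9 za49) (ka xa5 ya18 za0) (ka xa5 ya18 za4) (ka xa5 ya18 za6) (ka xa5 ya18 za8) (ka xa5 ya18 za21) (ka xa8 ya11 za1) (ka xa5 ya18 za23) (ka xa5 ya18 za24) (ka xa8 ya11 za3) (ka xa5 ya18 za22) (ka xa5 ya18 za15) (ka xa8 ya11 za0) (ka xa5 ya18 za26) (ka xa5 ya18 za19) (ka xa8 ya11 za7) (ka xa5 ya18 za29) (ka xa8 ya11 za4)) (@D3.rec (fun _ => Pt) (ka xa8 ya11 za6) (ka xa5 ya18 za28) (ka xa7 ya2 za15) (ka xa8 ya11 za9) (ka xa5 ya21 za48) (ka xa7 ya8 za10) (ka xa5 ya19 za44) (ka xa5 ya18 za49) (ka xa8 ya11 za15) (ka xa7 ya10 za23) (ka xa7 ya10 za24) (ka xa5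 ya19 za16) (ka xa5 ya19 za15) (ka xa5 ya20 za18) (ka xa5 ya20 za21) (ka xa5 ya20 za9) (ka xa5 ya20 za8) (ka xa5 ya20 za6) (ka xa5 ya19 za17) (ka xa5 ya19 za18) (ka xa5 ya19 za19) (ka xa5 ya19 za20) (ka xa7 ya21 za49) (ka xa8 ya11 za19) (ka xa8 ya11 za18) (ka xa8 ya11 za23) (ka xa8 ya11 za24) (ka xa7 ya13 za28) (ka xa7 ya14 za31) (ka xa8 ya11 za25) (ka xa7 ya17 za13) (ka xa8 ya2 za3) (ka xa8 ya2 za2) (ka xa7 ya13 za30) (ka xa7 ya13 za32) (ka xa7 ya25 za1) (ka xa5 ya19 za32) (ka xa8 ya11 za36) (ka xa7 ya3 za12) (ka xa7 ya3 za13) (ka xa5 ya19 za39) (ka xa7 ya26 za45) (ka xa7 ya25 za0) (ka xa8 ya11 za38) (ka xa5 ya19 za43) (ka xa5 ya19 za45) (ka xa8 ya11 za41) (ka xa7 ya20 za13) (ka xa8 ya11 za14) (ka xa7 ya4 za6) (ka xa7 ya20 za14))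
def f_a_7 : D2 → D3 → Pt := @D2.rec (fun _ => D3 → Pt) (@D3.rec (fun _ => Pt) (ka xa7 ya4 za7) (ka xa7 ya4 za9) (ka xa5 ya20 za3) (ka xa5 ya20 za4) (ka xa5 ya20 za5) (ka xa5 ya20 za7) (ka xa8 ya3 za22) (ka xa8 ya11 za47) (ka xa8 ya11 za48) (ka xa8 ya11 za21) (ka xa8 ya11 za49) (ka xa7 ya13 za7) (ka xa8 ya11 za22) (ka xa5 ya20 za34) (ka xa5 ya20 za15) (ka xa5 ya20 za16) (ka xa5 ya20 za17) (ka xa5 ya20 za19) (ka xa8 ya12 za5) (ka xa8 ya12 za6) (ka xa8 ya12 za7) (ka xa7 ya21 za50) (ka xa8 ya11 za20) (ka xa7 ya5 za31) (ka xa7 ya22 za1) (ka xa7 ya21 za48) (ka xa7 ya5 za30) (ka xa7 ya22 za2) (ka xa7 ya5 za32) (ka xa7 ya5 za33) (ka xa5 ya20 za33) (ka xa5 ya20 za35) (ka xa5 ya20 za36) (ka xa5 ya20 za38) (ka xa7 ya17 za22) (ka xa8 ya12 za18) (ka xa8 ya12 za2) (ka xa7 ya13 za17) (ka xa8 ya12 za19) (ka xa7 ya13 za18)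 (ka xa8 ya12 za20) (ka xa7 ya13 za6) (ka xa7 ya13 za19) (ka xa7 ya0 za43) (ka xa7 ya13 za8) (ka xa7 ya0 za45) (ka xa7 ya0 za46) (ka xa7 ya0 za47) (ka xa7 ya0 za48) (ka xa7 ya0 za49) (ka xa5 ya21 za7)) (@D3.rec (fun _ => Pt) (ka xa5 ya21 za8) (ka xa5 ya21 za9) (ka xa5 ya21 za10) (ka xa7 ya14 za41) (ka xa8 ya12 za32) (ka xa8 ya12 za33) (ka xa8 ya12 za34) (ka xa7 ya2 za40) (ka xa7 ya2 za33) (ka xa7 ya2 za32) (ka xa7 ya18 za49) (ka xa7 ya3 za17) (ka xa7 ya3 za7) (ka xa7 ya2 za46) (ka xa7 ya19 za1) (ka xa7 ya2 za45) (ka xa7 ya19 za3) (ka xa7 ya19 za2) (ka xa7 ya2 za44) (ka xa7 ya20 za21) (ka xa7 ya4 za14) (ka xa7 ya4 za15) (ka xa7 ya22 za10) (ka xa7 ya5 za43) (ka xa7 ya2 za29) (ka xa7 ya2 za28) (ka xa7 ya2 za34) (ka xa7 ya2 za47) (ka xa5 ya22 za4) (ka xa6 ya22 za31) (ka xa6 ya22 za32) (ka xa6 ya22 za19) (ka xa7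 ya1 za32) (ka xa7 ya1 za33) (ka xa5 ya22 za12) (ka xa5 ya22 za13) (ka xa5 ya22 za16) (ka xa6 ya22 za33) (ka xa6 ya22 za34) (ka xa8 ya13 za1) (ka xa8 ya13 za2) (ka xa6 ya22 za23) (ka xa6 ya22 za24) (ka xa6 ya23 za19) (ka xa7 ya1 za44) (ka xa7 ya1 za45) (ka xa7 ya1 za46) (ka xa7 ya1 za47) (ka xa7 ya1 za48) (ka xa5 ya22 za31) (ka xa5 ya22 za32)) (@D3.rec (fun _ => Pt) (ka xa5 ya22 za33) (ka xa5 ya22 za34) (ka xa5 ya22 za36) (ka xa5 ya22 za37) (ka xa5 ya22 za39) (ka xa6 ya25 za17) (ka xa6 ya23 za37) (ka xa6 ya23 za38) (ka xa6 ya22 za10) (ka xa8 ya13 za12) (ka xa8 ya13 za13) (ka xa8 ya13 za14) (ka xa8 ya13 za15) (ka xa6 ya24 za38) (ka xa6 ya24 za39) (ka xa6 ya26 za2) (ka xa8 ya13 za16) (ka xa6 ya23 za18) (ka xa7 ya2 za18) (ka xa7 ya2 za19) (ka xa7 ya2 za20) (ka xa7 ya2 za21) (ka xa7 ya2 za22) (ka xa7 ya2 za23)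 (ka xa8 ya13 za37) (ka xa7 ya2 za25) (ka xa7 ya2 za26) (ka xa6 ya8 za37) (ka xa7 ya1 za25) (ka xa7 ya1 za24) (ka xa6 ya8 za38) (ka xa6 ya8 za48) (ka xa7 ya1 za9) (ka xa7 ya1 za8) (ka xa7 ya1 za26) (ka xa7 ya2 za35) (ka xa7 ya2 za36) (ka xa5 ya23 za17) (ka xa6 ya8 za46) (ka xa6 ya8 za47) (ka xa7 ya1 za7) (ka xa6 ya8 za44) (ka xa6 ya9 za16) (ka xa6 ya9 za18) (ka xa7 ya1 za18) (ka xa7 ya1 za15) (ka xa7 ya1 za13) (ka xa7 ya1 za27) (ka xa7 ya2 za48) (ka xa7 ya2 za49) (ka xa7 ya2 za50)) (@D3.rec (fun _ => Pt) (ka xa7 ya3 za0) (ka xa7 ya3 za1) (ka xa5 ya23 za36) (ka xa6 ya9 za15) (ka xa6 ya9 za14) (ka xa6 ya9 za17) (ka xa8 ya14 za3) (ka xa7 ya1 za12) (ka xa6 ya9 za11) (ka xa6 ya9 za10) (ka xa7 ya3 za10) (ka xa7 ya3 za11) (ka xa6 ya26 za38) (ka xa6 ya26 za39) (ka xa6 ya14 za49) (ka xa6 ya1 za17) (ka xa6 ya14 za50)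 (ka xa7 ya1 za11) (ka xa6 ya22 za27) (ka xa6 ya23 za17) (ka xa6 ya22 za29) (ka xa6 ya22 za30) (ka xa7 ya3 za22) (ka xa7 ya3 za23) (ka xa7 ya3 za24) (ka xa7 ya3 za25) (ka xa7 ya3 za26) (ka xa7 ya3 za27) (ka xa7 ya3 za28) (ka xa6 ya0 za49) (ka xa6 ya0 za50) (ka xa5 ya24 za13) (ka xa5 ya24 za14) (ka xa5 ya24 za15) (ka xa5 ya24 za16) (ka xa5 ya24 za17) (ka xa5 ya24 za18) (ka xa5 ya24 za19) (ka xa5 ya24 za22) (ka xa8 ya14 za33) (ka xa8 ya14 za34) (ka xa8 ya14 za35) (ka xa6 ya23 za15) (ka xa6 ya22 za20) (ka xa6 ya22 za35) (ka xa8 ya14 za36) (ka xa8 ya14 za37) (ka xa8 ya14 za38) (ka xa8 ya14 za39) (ka xa6 ya23 za16) (ka xa6 ya22 za21)) (@D3.rec (fun _ => Pt) (ka xa6 ya22 za25) (ka xa8 ya14 za40) (ka xa6 ya22 za22) (ka xa7 ya4 za3) (ka xa7 ya4 za4) (ka xa7 ya4 za5) (ka xa6 ya26 za49) (ka xa7 ya0 za0) (ka xa6 ya16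 za49) (ka xa7 ya0 za1) (ka xa6 ya17 za0) (ka xa6 ya3 za24) (ka xa6 ya17 za1) (ka xa6 ya3 za25) (ka xa7 ya1 za20) (ka xa7 ya1 za21) (ka xa6 ya23 za33) (ka xa6 ya23 za26) (ka xa6 ya23 za34) (ka xa6 ya23 za35) (ka xa6 ya23 za36) (ka xa7 ya4 za21) (ka xa7 ya4 za22) (ka xa7 ya4 za23) (ka xa7 ya4 za24) (ka xa7 ya4 za25) (ka xa7 ya4 za26) (ka xa7 ya4 za27) (ka xa7 ya4 za28) (ka xa6 ya2 za44) (ka xa6 ya2 za45) (ka xa6 ya2 za46) (ka xa6 ya2 za27) (ka xa6 ya2 za47) (ka xa5 ya25 za8) (ka xa5 ya25 za9) (ka xa5 ya25 za10) (ka xa5 ya25 za11) (ka xa5 ya25 za12) (ka xa5 ya25 za13) (ka xa5 ya25 za14) (ka xa5 ya25 za15) (ka xa5 ya25 za16) (ka xa5 ya25 za17) (ka xa5 ya25 za18) (ka xa5 ya25 za19) (ka xa5 ya25 za20) (ka xa5 ya25 za21) (ka xa5 ya25 za23) (ka xa8 ya15 za47) (ka xa6 ya11 za28)) (@D3.rec (fun _ => Pt) (ka xa8 ya15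 za48) (ka xa8 ya15 za49) (ka xa8 ya15 za50) (ka xa8 ya16 za0) (ka xa8 ya16 za1) (ka xa6 ya23 za20) (ka xa6 ya23 za42) (ka xa8 ya16 za2) (ka xa8 ya16 za3) (ka xa8 ya16 za4) (ka xa8 ya16 za5) (ka xa8 ya16 za6) (ka xa8 ya16 za7) (ka xa8 ya16 za8) (ka xa8 ya16 za9) (ka xa6 ya23 za21) (ka xa6 ya23 za29) (ka xa8 ya16 za10) (ka xa6 ya11 za10) (ka xa8 ya16 za11) (ka xa6 ya23 za22) (ka xa7 ya5 za21) (ka xa7 ya5 za22) (ka xa7 ya5 za23) (ka xa7 ya5 za24) (ka xa7 ya5 za25) (ka xa7 ya5 za26) (ka xa8 ya16 za46) (ka xa7 ya5 za28) (ka xa7 ya5 za29) (ka xa7 ya0 za26) (ka xa7 ya0 za23) (ka xa7 ya0 za28) (ka xa7 ya0 za29) (ka xa6 ya19 za36) (ka xa6 ya19 za29) (ka xa6 ya19 za37) (ka xa6 ya19 za38) (ka xa6 ya6 za22) (ka xa6 ya19 za39) (ka xa6 ya6 za19) (ka xa6 ya6 za23) (ka xa6 ya6 za24) (ka xa7 ya1 za23) (ka xa6 ya25 za12)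 (ka xa6 ya25 za14) (ka xa6 ya25 za7) (ka xa6 ya25 za15) (ka xa6 ya25 za4) (ka xa6 ya25 za8) (ka xa6 ya25 za16)) (@D3.rec (fun _ => Pt) (ka xa7 ya6 za0) (ka xa7 ya6 za1) (ka xa7 ya6 za2) (ka xa7 ya6 za3) (ka xa7 ya6 za4) (ka xa7 ya6 za5) (ka xa7 ya6 za6) (ka xa7 ya6 za7) (ka xa8 ya17 za38) (ka xa7 ya6 za9) (ka xa7 ya6 za10) (ka xa6 ya5 za26) (ka xa6 ya5 za27) (ka xa6 ya5 za28) (ka xa6 ya5 za29) (ka xa6 ya5 za30) (ka xa6 ya5 za4) (ka xa6 ya5 za31) (ka xa6 ya4 za10) (ka xa6 ya5 za5) (ka xa5 ya26 za25) (ka xa5 ya26 za26) (ka xa5 ya26 za27) (ka xa5 ya26 za28) (ka xa5 ya26 za29) (ka xa5 ya26 za30) (ka xa5 ya26 za31) (ka xa5 ya26 za32) (ka xa5 ya26 za33) (ka xa5 ya26 za34) (ka xa5 ya26 za35) (ka xa5 ya26 za36) (ka xa5 ya26 za37) (ka xa5 ya26 za38) (ka xa5 ya26 za39) (ka xa5 ya26 za40) (ka xa5 ya26 za41) (ka xa5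 ya26 za42) (ka xa5 ya26 za43) (ka xa5 ya26 za44) (ka xa5 ya26 za45) (ka xa5 ya26 za46) (ka xa5 ya26 za47) (ka xa8 ya18 za5) (ka xa8 ya18 za6) (ka xa8 ya18 za7) (ka xa8 ya18 za8) (ka xa8 ya18 za9) (ka xa8 ya18 za10) (ka xa8 ya18 za11) (ka xa8 ya18 za12)) (@D3.rec (fun _ => Pt) (ka xa8 ya18 za13) (ka xa8 ya18 za14) (ka xa8 ya18 za15) (ka xa8 ya18 za16) (ka xa8 ya18 za17) (ka xa6 ya23 za39) (ka xa8 ya18 za18) (ka xa8 ya18 za19) (ka xa8 ya18 za20) (ka xa8 ya18 za21) (ka xa8 ya18 za22) (ka xa8 ya18 za23) (ka xa8 ya18 za24) (ka xa8 ya18 za25) (ka xa8 ya18 za26) (ka xa8 ya18 za27) (ka xa8 ya18 za28) (ka xa8 ya18 za29) (ka xa8 ya18 za30) (ka xa6 ya24 za41) (ka xa8 ya18 za31) (ka xa8 ya18 za32) (ka xa8 ya18 za33) (ka xa8 ya19 za31) (ka xa8 ya18 za34) (ka xa8 ya18 za35) (ka xa7 ya7 za26) (ka xa7 ya7 za27) (ka xa7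 ya7 za28) (ka xa7 ya7 za29) (ka xa7 ya7 za30) (ka xa7 ya7 za31) (ka xa7 ya7 za32) (ka xa7 ya7 za33) (ka xa8 ya19 za45) (ka xa7 ya7 za35) (ka xa7 ya7 za36) (ka xa6 ya0 za5) (ka xa8 ya19 za48) (ka xa7 ya7 za39) (ka xa7 ya7 za40) (ka xa6 ya0 za12) (ka xa6 ya0 za13) (ka xa6 ya0 za14) (ka xa6 ya0 za15) (ka xa6 ya0 za16) (ka xa6 ya0 za17) (ka xa6 ya0 za18) (ka xa8 ya20 za1) (ka xa8 ya20 za2) (ka xa8 ya20 za3)) (@D3.rec (fun _ => Pt) (ka xa8 ya20 za4) (ka xa6 ya1 za42) (ka xa8 ya20 za5) (ka xa8 ya20 za6) (ka xa7 ya8 za4) (ka xa7 ya8 za5) (ka xa7 ya8 za6) (ka xa7 ya8 za7) (ka xa7 ya8 za8) (ka xa7 ya8 za9) (ka xa6 ya26 za5) (ka xa6 ya10 za5) (ka xa6 ya0 za32) (ka xa6 ya0 za33) (ka xa6 ya0 za34) (ka xa6 ya0 za35) (ka xa6 ya0 za36) (ka xa6 ya0 za37) (ka xa6 ya0 za38) (ka xa6 ya0 za39) (ka xa6 ya0 za40) (ka xa6 ya0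 za41) (ka xa8 ya20 za25) (ka xa8 ya20 za26) (ka xa8 ya20 za27) (ka xa8 ya20 za28) (ka xa8 ya20 za29) (ka xa8 ya20 za30) (ka xa8 ya20 za31) (ka xa8 ya14 za31) (ka xa8 ya20 za32) (ka xa8 ya20 za33) (ka xa8 ya20 za34) (ka xa8 ya20 za35) (ka xa8 ya20 za36) (ka xa8 ya20 za37) (ka xa8 ya20 za38) (ka xa8 ya20 za39) (ka xa7 ya8 za38) (ka xa7 ya8 za39) (ka xa7 ya8 za40) (ka xa7 ya8 za41) (ka xa7 ya8 za42) (ka xa7 ya8 za43) (ka xa7 ya8 za44) (ka xa7 ya8 za45) (ka xa8 ya14 za28) (ka xa8 ya14 za29) (ka xa8 ya14 za30) (ka xa8 ya14 za32) (ka xa6 ya1 za10)) (@D3.rec (fun _ => Pt) (ka xa6 ya1 za11) (ka xa6 ya1 za12) (ka xa6 ya1 za13) (ka xa6 ya1 za14) (ka xa6 ya1 za15) (ka xa6 ya1 za16) (ka xa6 ya1 za18) (ka xa6 ya1 za19) (ka xa6 ya1 za20) (ka xa6 ya1 za21) (ka xa6 ya1 za22) (ka xa6 ya1 za23) (ka xa6 ya1 za24) (ka xa6 ya1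 za25) (ka xa8 ya21 za27) (ka xa8 ya21 za28) (ka xa8 ya21 za29) (ka xa8 ya21 za30) (ka xa8 ya21 za31) (ka xa8 ya21 za32) (ka xa8 ya21 za33) (ka xa8 ya21 za34) (ka xa8 ya21 za35) (ka xa8 ya21 za36) (ka xa8 ya21 za37) (ka xa8 ya21 za38) (ka xa8 ya14 za14) (ka xa8 ya14 za16) (ka xa8 ya21 za39) (ka xa8 ya21 za40) (ka xa8 ya21 za41) (ka xa8 ya21 za42) (ka xa8 ya21 za43) (ka xa8 ya21 za44) (ka xa8 ya21 za45) (ka xa8 ya21 za46) (ka xa8 ya21 za47) (ka xa7 ya9 za37) (ka xa7 ya9 za38) (ka xa7 ya9 za39) (ka xa7 ya9 za40) (ka xa8 ya22 za28) (ka xa7 ya9 za42) (ka xa7 ya9 za43) (ka xa7 ya9 za44) (ka xa6 ya1 za43) (ka xa6 ya1 za44) (ka xa6 ya1 za45) (ka xa6 ya1 za46) (ka xa6 ya1 za47) (ka xa6 ya1 za48)) (@D3.rec (fun _ => Pt) (ka xa6 ya1 za49) (ka xa6 ya1 za50) (ka xa6 ya2 za0) (ka xa8 ya20 za13) (ka xa8 ya22 za33) (ka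 xa8 ya22 za34) (ka xa8 ya22 za35) (ka xa8 ya15 za45) (ka xa8 ya22 za36) (ka xa6 ya4 za6) (ka xa8 ya22 za37) (ka xa8 ya22 za38) (ka xa8 ya22 za39) (ka xa8 ya22 za40) (ka xa8 ya22 za41) (ka xa7 ya10 za15) (ka xa7 ya10 za16) (ka xa7 ya10 za17) (ka xa7 ya10 za18) (ka xa7 ya10 za19) (ka xa7 ya10 za20) (ka xa7 ya10 za21) (ka xa7 ya10 za22) (ka xa6 ya26 za9) (ka xa6 ya26 za10) (ka xa6 ya11 za21) (ka xa6 ya11 za22) (ka xa6 ya2 za20) (ka xa6 ya2 za21) (ka xa6 ya2 za22) (ka xa6 ya2 za23) (ka xa6 ya2 za24) (ka xa6 ya2 za25) (ka xa6 ya2 za26) (ka xa6 ya2 za28) (ka xa6 ya2 za29) (ka xa6 ya2 za30) (ka xa6 ya2 za31) (ka xa6 ya2 za32) (ka xa6 ya2 za33) (ka xa6 ya2 za34) (ka xa6 ya2 za35) (ka xa8 ya23 za21) (ka xa8 ya23 za22) (ka xa8 ya23 za23) (ka xa8 ya23 za24) (ka xa8 ya23 za25) (ka xa8 ya23 za26) (ka xa8 ya23 za27) (ka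 xa8 ya23 za28) (ka xa8 ya23 za29)) (@D3.rec (fun _ => Pt) (ka xa8 ya23 za30) (ka xa8 ya23 za31) (ka xa8 ya23 za32) (ka xa8 ya15 za43) (ka xa8 ya15 za46) (ka xa8 ya23 za33) (ka xa8 ya23 za34) (ka xa8 ya23 za35) (ka xa8 ya23 za36) (ka xa8 ya23 za37) (ka xa8 ya23 za38) (ka xa8 ya23 za39) (ka xa8 ya23 za40) (ka xa8 ya23 za41) (ka xa7 ya11 za14) (ka xa7 ya11 za15) (ka xa7 ya11 za16) (ka xa7 ya11 za17) (ka xa7 ya11 za18) (ka xa7 ya11 za19) (ka xa7 ya11 za20) (ka xa7 ya11 za21) (ka xa8 ya24 za36) (ka xa7 ya11 za23) (ka xa7 ya11 za24) (ka xa8 ya15 za38) (ka xa8 ya15 za39) (ka xa8 ya15 za40) (ka xa8 ya15 za41) (ka xa8 ya15 za42) (ka xa8 ya15 za44) (ka xa6 ya3 za12) (ka xa6 ya3 za13) (ka xa6 ya3 za14) (ka xa6 ya3 za15) (ka xa6 ya3 za16) (ka xa6 ya3 za17) (ka xa6 ya3 za18) (ka xa6 ya3 za19) (ka xa6 ya3 za20) (ka xa6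 ya3 za21) (ka xa6 ya3 za22) (ka xa6 ya3 za23) (ka xa6 ya3 za26) (ka xa6 ya3 za27) (ka xa6 ya3 za28) (ka xa6 ya3 za29) (ka xa6 ya3 za30) (ka xa6 ya3 za31) (ka xa6 ya3 za32) (ka xa6 ya3 za33)) (@D3.rec (fun _ => Pt) (ka xa6 ya3 za34) (ka xa8 ya24 za49) (ka xa8 ya24 za50) (ka xa8 ya25 za0) (ka xa8 ya25 za1) (ka xa8 ya25 za2) (ka xa8 ya25 za3) (ka xa8 ya25 za4) (ka xa8 ya25 za5) (ka xa8 ya25 za6) (ka xa8 ya25 za7) (ka xa8 ya25 za8) (ka xa8 ya25 za9) (ka xa8 ya25 za10) (ka xa8 ya25 za11) (ka xa8 ya25 za12) (ka xa8 ya25 za13) (ka xa8 ya25 za14) (ka xa8 ya15 za16) (ka xa8 ya25 za15) (ka xa8 ya25 za16) (ka xa8 ya15 za14) (ka xa8 ya15 za17) (ka xa8 ya15 za18) (ka xa8 ya25 za17) (ka xa8 ya25 za18) (ka xa8 ya25 za19) (ka xa8 ya25 za20) (ka xa8 ya25 za21) (ka xa8 ya25 za22) (ka xa8 ya25 za23) (ka xa8 ya25 za24) (ka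 xa8 ya26 za23) (ka xa8 ya25 za26) (ka xa8 ya25 za27) (ka xa7 ya12 za35) (ka xa7 ya12 za36) (ka xa7 ya12 za37) (ka xa7 ya12 za38) (ka xa7 ya12 za39) (ka xa7 ya12 za40) (ka xa7 ya12 za41) (ka xa8 ya26 za35) (ka xa7 ya12 za43) (ka xa7 ya12 za44) (ka xa6 ya3 za43) (ka xa8 ya26 za38) (ka xa7 ya12 za47) (ka xa7 ya12 za48) (ka xa7 ya12 za49) (ka xa7 ya12 za50)) (@D3.rec (fun _ => Pt) (ka xa6 ya4 za7) (ka xa6 ya4 za8) (ka xa6 ya4 za9) (ka xa6 ya4 za11) (ka xa6 ya4 za16) (ka xa6 ya4 za17) (ka xa7 ya0 za41) (ka xa7 ya0 za11) (ka xa7 ya0 za44) (ka xa8 ya22 za50) (ka xa8 ya26 za44) (ka xa8 ya26 za45) (ka xa8 ya26 za46) (ka xa8 ya26 za47) (ka xa8 ya18 za0) (ka xa8 ya18 za3) (ka xa8 ya26 za48) (ka xa7 ya0 za37) (ka xa7 ya0 za39) (ka xa7 ya0 za42) (ka xa8 ya26 za49) (ka xa7 ya13 za21) (ka xa7 ya13 za22) (ka xa7 ya13 za23)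 (ka xa7 ya13 za24) (ka xa7 ya13 za25) (ka xa7 ya13 za26) (ka xa7 ya13 za27) (ka xa6 ya26 za27) (ka xa7 ya13 za29) (ka xa6 ya26 za33) (ka xa6 ya13 za16) (ka xa6 ya26 za34) (ka xa6 ya13 za18) (ka xa6 ya13 za19) (ka xa6 ya4 za45) (ka xa6 ya4 za46) (ka xa6 ya4 za47) (ka xa6 ya4 za48) (ka xa6 ya4 za49) (ka xa6 ya4 za50) (ka xa6 ya5 za0) (ka xa6 ya5 za1) (ka xa6 ya5 za2) (ka xa6 ya5 za3) (ka xa6 ya5 za6) (ka xa6 ya5 za7) (ka xa6 ya5 za8) (ka xa6 ya5 za9) (ka xa6 ya5 za11) (ka xa6 ya5 za14)) (@D3.rec (fun _ => Pt) (ka xa6 ya20 za31) (ka xa6 ya20 za33) (ka xa6 ya18 za14) (ka xa6 ya18 za0) (ka xa6 ya18 za17) (ka xa9 ya0 za27) (ka xa9 ya0 za28) (ka xa9 ya0 za29) (ka xa9 ya0 za30) (ka xa9 ya0 za31) (ka xa6 ya17 za44) (ka xa9 ya0 za32) (ka xa9 ya0 za33) (ka xa9 ya0 za34) (ka xa9 ya0 za35) (ka xa9 ya0 za36) (ka xa9 ya0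 za37) (ka xa8 ya18 za1) (ka xa9 ya0 za38) (ka xa9 ya0 za39) (ka xa8 ya17 za49) (ka xa8 ya18 za2) (ka xa8 ya18 za4) (ka xa9 ya0 za40) (ka xa9 ya0 za41) (ka xa6 ya20 za25) (ka xa9 ya0 za42) (ka xa6 ya20 za26) (ka xa9 ya0 za43) (ka xa6 ya17 za43) (ka xa6 ya20 za27) (ka xa6 ya26 za28) (ka xa6 ya17 za45) (ka xa7 ya14 za33) (ka xa7 ya14 za34) (ka xa7 ya14 za35) (ka xa7 ya14 za36) (ka xa7 ya14 za37) (ka xa7 ya14 za38) (ka xa7 ya14 za39) (ka xa7 ya14 za40) (ka xa7 ya1 za3) (ka xa7 ya14 za42) (ka xa7 ya14 za43) (ka xa6 ya5 za23) (ka xa9 ya2 za1) (ka xa7 ya14 za46) (ka xa8 ya17 za41) (ka xa8 ya17 za42) (ka xa8 ya17 za43) (ka xa8 ya17 za44)) (@D3.rec (fun _ => Pt) (ka xa8 ya17 za45) (ka xa8 ya17 za46) (ka xa8 ya17 za47) (ka xa8 ya17 za48) (ka xa8 ya17 za50) (ka xa6 ya6 za2) (ka xa6 ya6 za3) (ka xa6 ya6 za4) (ka xa6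 ya6 za5) (ka xa6 ya6 za6) (ka xa6 ya6 za7) (ka xa6 ya6 za8) (ka xa6 ya6 za9) (ka xa6 ya6 za10) (ka xa6 ya6 za11) (ka xa6 ya6 za12) (ka xa6 ya6 za13) (ka xa6 ya6 za14) (ka xa6 ya6 za15) (ka xa6 ya6 za16) (ka xa6 ya6 za17) (ka xa6 ya6 za18) (ka xa6 ya6 za20) (ka xa6 ya6 za21) (ka xa6 ya6 za25) (ka xa6 ya6 za26) (ka xa6 ya6 za27) (ka xa6 ya6 za28) (ka xa6 ya6 za29) (ka xa6 ya6 za30) (ka xa6 ya6 za31) (ka xa6 ya6 za32) (ka xa9 ya3 za4) (ka xa6 ya6 za34) (ka xa9 ya2 za17) (ka xa9 ya2 za18) (ka xa9 ya2 za19) (ka xa9 ya2 za20) (ka xa9 ya2 za21) (ka xa9 ya2 za22) (ka xa6 ya22 za3) (ka xa9 ya2 za23) (ka xa9 ya2 za24) (ka xa9 ya2 za25) (ka xa9 ya2 za26) (ka xa9 ya2 za27) (ka xa9 ya2 za28) (ka xa9 ya2 za29) (ka xa9 ya2 za30) (ka xa9 ya2 za31) (ka xa9 ya2 za32)) (@D3.rec (fun _ => Pt) (ka xa9 ya2 za33) (ka xa9 ya3 za38)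 (ka xa9 ya2 za35) (ka xa9 ya2 za36) (ka xa8 ya17 za8) (ka xa9 ya2 za37) (ka xa9 ya2 za38) (ka xa9 ya2 za39) (ka xa9 ya2 za40) (ka xa9 ya2 za41) (ka xa9 ya2 za42) (ka xa9 ya2 za43) (ka xa8 ya17 za12) (ka xa8 ya17 za14) (ka xa9 ya2 za44) (ka xa8 ya17 za10) (ka xa8 ya17 za13) (ka xa8 ya17 za15) (ka xa9 ya2 za45) (ka xa9 ya2 za46) (ka xa9 ya2 za47) (ka xa9 ya2 za48) (ka xa9 ya2 za49) (ka xa9 ya2 za50) (ka xa9 ya3 za0) (ka xa9 ya3 za1) (ka xa9 ya4 za21) (ka xa9 ya3 za3) (ka xa6 ya21 za26) (ka xa6 ya6 za33) (ka xa9 ya4 za24) (ka xa6 ya21 za28) (ka xa7 ya16 za32) (ka xa7 ya16 za33) (ka xa7 ya16 za34) (ka xa7 ya16 za35) (ka xa7 ya16 za36) (ka xa9 ya4 za35) (ka xa7 ya16 za38) (ka xa7 ya16 za39) (ka xa7 ya16 za40) (ka xa7 ya16 za41) (ka xa9 ya4 za42) (ka xa7 ya16 za43) (ka xa7 ya16 za44) (ka xa6 ya6 za44) (ka xa9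 ya4 za45) (ka xa7 ya16 za47) (ka xa6 ya6 za48) (ka xa9 ya4 za48) (ka xa7 ya16 za50)) (@D3.rec (fun _ => Pt) (ka xa7 ya17 za0) (ka xa6 ya7 za9) (ka xa6 ya20 za32) (ka xa6 ya20 za30) (ka xa6 ya18 za10) (ka xa6 ya18 za12) (ka xa6 ya18 za15) (ka xa6 ya20 za29) (ka xa6 ya20 za28) (ka xa6 ya20 za24) (ka xa6 ya17 za41) (ka xa6 ya20 za23) (ka xa6 ya17 za42) (ka xa6 ya26 za30) (ka xa7 ya17 za14) (ka xa7 ya17 za15) (ka xa7 ya17 za16) (ka xa7 ya17 za17) (ka xa7 ya17 za18) (ka xa6 ya21 za17) (ka xa7 ya17 za20) (ka xa7 ya17 za21) (ka xa7 ya0 za34) (ka xa7 ya17 za23) (ka xa6 ya7 za27) (ka xa9 ya0 za0) (ka xa7 ya17 za26) (ka xa6 ya7 za40) (ka xa6 ya7 za41) (ka xa6 ya7 za42) (ka xa6 ya7 za43) (ka xa6 ya7 za45) (ka xa6 ya7 za48) (ka xa6 ya8 za3) (ka xa6 ya8 za4) (ka xa6 ya8 za6) (ka xa6 ya8 za7) (ka xa6 ya8 za9) (ka xa9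 ya5 za24) (ka xa6 ya7 za39) (ka xa9 ya5 za13) (ka xa9 ya5 za14) (ka xa9 ya5 za15) (ka xa9 ya5 za16) (ka xa6 ya21 za45) (ka xa9 ya5 za17) (ka xa6 ya21 za48) (ka xa9 ya5 za18) (ka xa6 ya22 za0) (ka xa6 ya19 za50) (ka xa9 ya5 za39)) (@D3.rec (fun _ => Pt) (ka xa6 ya20 za2) (ka xa6 ya21 za37) (ka xa6 ya21 za40) (ka xa6 ya21 za43) (ka xa6 ya21 za44) (ka xa6 ya21 za47) (ka xa9 ya5 za46) (ka xa6 ya8 za2) (ka xa9 ya5 za19) (ka xa6 ya21 za29) (ka xa9 ya5 za20) (ka xa9 ya5 za21) (ka xa6 ya21 za30) (ka xa9 ya6 za4) (ka xa9 ya5 za23) (ka xa6 ya21 za31) (ka xa6 ya21 za32) (ka xa6 ya21 za21) (ka xa9 ya6 za11) (ka xa6 ya21 za33) (ka xa6 ya21 za23) (ka xa6 ya8 za11) (ka xa9 ya6 za14) (ka xa6 ya21 za25) (ka xa6 ya8 za15) (ka xa9 ya6 za17) (ka xa6 ya19 za14) (ka xa7 ya18 za27) (ka xa7 ya18 za28) (ka xa7 ya18 za29) (ka xa9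 ya6 za20) (ka xa7 ya18 za31) (ka xa6 ya8 za22) (ka xa9 ya5 za41) (ka xa9 ya6 za21) (ka xa7 ya18 za35) (ka xa7 ya18 za36) (ka xa6 ya8 za27) (ka xa9 ya6 za25) (ka xa7 ya18 za39) (ka xa6 ya8 za31) (ka xa9 ya6 za28) (ka xa7 ya18 za42) (ka xa6 ya8 za34) (ka xa8 ya13 za19) (ka xa7 ya18 za45) (ka xa6 ya8 za45) (ka xa8 ya13 za40) (ka xa8 ya13 za43) (ka xa7 ya1 za10) (ka xa6 ya10 za8)) (@D3.rec (fun _ => Pt) (ka xa6 ya9 za13) (ka xa7 ya1 za14) (ka xa7 ya1 za17) (ka xa7 ya1 za16) (ka xa6 ya9 za12) (ka xa8 ya14 za8) (ka xa9 ya6 za32) (ka xa8 ya14 za5) (ka xa8 ya14 za6) (ka xa8 ya14 za4) (ka xa8 ya13 za45) (ka xa8 ya13 za44) (ka xa7 ya19 za12) (ka xa7 ya19 za13) (ka xa7 ya19 za14) (ka xa7 ya19 za15) (ka xa7 ya19 za16) (ka xa7 ya19 za17) (ka xa8 ya24 za39) (ka xa7 ya19 za19) (ka xa6 ya10 za0) (ka xa6 ya9 za50) (ka xa6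 ya14 za47) (ka xa6 ya14 za45) (ka xa6 ya14 za48) (ka xa6 ya22 za28) (ka xa6 ya22 za26) (ka xa6 ya14 za22) (ka xa6 ya14 za9) (ka xa6 ya14 za11) (ka xa6 ya10 za1) (ka xa6 ya10 za2) (ka xa6 ya10 za3) (ka xa6 ya10 za4) (ka xa6 ya10 za6) (ka xa6 ya10 za7) (ka xa6 ya10 za9) (ka xa6 ya10 za10) (ka xa6 ya10 za11) (ka xa6 ya10 za12) (ka xa6 ya10 za13) (ka xa8 ya15 za4) (ka xa8 ya14 za9) (ka xa9 ya6 za41) (ka xa9 ya6 za47) (ka xa9 ya6 za48) (ka xa9 ya6 za49) (ka xa9 ya6 za50) (ka xa9 ya7 za0) (ka xa8 ya20 za23) (ka xa8 ya20 za24)) (@D3.rec (fun _ => Pt) (ka xa9 ya7 za1) (ka xa9 ya6 za31) (ka xa9 ya7 za2) (ka xa9 ya7 za3) (ka xa8 ya14 za42) (ka xa9 ya7 za4) (ka xa9 ya7 za5) (ka xa7 ya20 za7) (ka xa7 ya20 za8) (ka xa7 ya20 za9) (ka xa9 ya7 za24) (ka xa7 ya20 za11) (ka xa6 ya11 za12) (ka xa6 ya26 za47) (ka xa6 ya26 za50)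 (ka xa6 ya11 za9) (ka xa6 ya16 za47) (ka xa6 ya16 za43) (ka xa6 ya16 za50) (ka xa6 ya16 za45) (ka xa6 ya16 za48) (ka xa7 ya1 za19) (ka xa6 ya23 za31) (ka xa6 ya23 za32) (ka xa6 ya23 za24) (ka xa6 ya23 za27) (ka xa6 ya23 za30) (ka xa7 ya20 za27) (ka xa7 ya20 za28) (ka xa6 ya16 za12) (ka xa6 ya16 za13) (ka xa6 ya15 za44) (ka xa6 ya15 za42) (ka xa6 ya15 za45) (ka xa6 ya11 za11) (ka xa6 ya11 za13) (ka xa6 ya11 za14) (ka xa6 ya11 za15) (ka xa6 ya11 za16) (ka xa6 ya11 za17) (ka xa6 ya11 za18) (ka xa6 ya11 za19) (ka xa6 ya11 za20) (ka xa6 ya11 za23) (ka xa6 ya11 za24) (ka xa6 ya11 za25) (ka xa6 ya11 za26) (ka xa6 ya11 za27) (ka xa6 ya11 za29) (ka xa6 ya11 za30) (ka xa9 ya7 za30)) (@D3.rec (fun _ => Pt) (ka xa8 ya16 za39) (ka xa8 ya16 za22) (ka xa8 ya16 za42) (ka xa9 ya7 za26) (ka xa9 ya7 za45) (ka xa9 ya7 za27)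 (ka xa9 ya7 za46) (ka xa9 ya7 za47) (ka xa8 ya16 za15) (ka xa9 ya7 za48) (ka xa9 ya7 za49) (ka xa9 ya7 za50) (ka xa9 ya8 za0) (ka xa9 ya8 za1) (ka xa8 ya23 za17) (ka xa9 ya8 za2) (ka xa8 ya23 za19) (ka xa8 ya23 za20) (ka xa9 ya8 za3) (ka xa9 ya8 za4) (ka xa9 ya8 za5) (ka xa9 ya8 za6) (ka xa9 ya8 za7) (ka xa9 ya8 za8) (ka xa8 ya16 za14) (ka xa9 ya8 za9) (ka xa8 ya24 za41) (ka xa8 ya16 za16) (ka xa9 ya8 za10) (ka xa7 ya21 za29) (ka xa7 ya21 za30) (ka xa7 ya21 za31) (ka xa7 ya21 za32) (ka xa7 ya21 za33) (ka xa7 ya21 za34) (ka xa7 ya21 za35) (ka xa7 ya21 za36) (ka xa9 ya9 za6) (ka xa7 ya21 za38) (ka xa7 ya21 za39) (ka xa6 ya11 za39) (ka xa9 ya9 za9) (ka xa7 ya21 za42) (ka xa7 ya21 za43) (ka xa7 ya21 za44) (ka xa9 ya9 za15) (ka xa7 ya21 za46) (ka xa7 ya21 za47) (ka xa7 ya0 za25) (ka xa6 ya26 za22) (ka xa7 ya0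 za21)) (@D3.rec (fun _ => Pt) (ka xa6 ya19 za15) (ka xa7 ya0 za24) (ka xa7 ya0 za27) (ka xa6 ya19 za34) (ka xa6 ya19 za32) (ka xa6 ya19 za24) (ka xa6 ya19 za35) (ka xa6 ya19 za27) (ka xa6 ya19 za30) (ka xa6 ya19 za33) (ka xa7 ya1 za22) (ka xa6 ya25 za10) (ka xa6 ya24 za49) (ka xa6 ya25 za13) (ka xa6 ya24 za44) (ka xa6 ya25 za11) (ka xa6 ya24 za47) (ka xa6 ya24 za50) (ka xa9 ya9 za44) (ka xa6 ya25 za5) (ka xa6 ya25 za9) (ka xa7 ya22 za21) (ka xa7 ya22 za22) (ka xa7 ya22 za23) (ka xa7 ya22 za24) (ka xa7 ya22 za25) (ka xa9 ya10 za2) (ka xa7 ya22 za27) (ka xa7 ya22 za28) (ka xa6 ya12 za21) (ka xa9 ya10 za5) (ka xa7 ya22 za31) (ka xa6 ya18 za32) (ka xa6 ya18 za33) (ka xa6 ya18 za34) (ka xa6 ya18 za35) (ka xa6 ya18 za5) (ka xa6 ya18 za1) (ka xa6 ya18 za7) (ka xa6 ya18 za3) (ka xa6 ya18 za6) (ka xa6 ya12 za50)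 (ka xa6 ya13 za0) (ka xa6 ya13 za1) (ka xa6 ya13 za2) (ka xa6 ya13 za3) (ka xa6 ya13 za4) (ka xa6 ya13 za5) (ka xa6 ya13 za6) (ka xa6 ya13 za7) (ka xa6 ya13 za8)) (@D3.rec (fun _ => Pt) (ka xa6 ya13 za9) (ka xa6 ya13 za10) (ka xa6 ya13 za11) (ka xa6 ya13 za12) (ka xa6 ya13 za13) (ka xa6 ya13 za14) (ka xa6 ya13 za15) (ka xa6 ya13 za17) (ka xa6 ya13 za20) (ka xa6 ya13 za21) (ka xa6 ya13 za22) (ka xa6 ya13 za23) (ka xa6 ya13 za24) (ka xa6 ya13 za25) (ka xa6 ya13 za26) (ka xa6 ya13 za27) (ka xa9 ya11 za2) (ka xa6 ya13 za29) (ka xa6 ya13 za30) (ka xa9 ya9 za19) (ka xa9 ya9 za18) (ka xa9 ya10 za18) (ka xa9 ya10 za19) (ka xa9 ya10 za20) (ka xa9 ya10 za21) (ka xa9 ya10 za22) (ka xa9 ya1 za10) (ka xa9 ya10 za23) (ka xa9 ya10 za24) (ka xa9 ya10 za25) (ka xa9 ya10 za26) (ka xa9 ya10 za27) (ka xa9 ya10 za28) (ka xa9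 ya10 za29) (ka xa9 ya10 za30) (ka xa9 ya10 za31) (ka xa9 ya10 za32) (ka xa9 ya11 za36) (ka xa9 ya10 za34) (ka xa9 ya10 za35) (ka xa9 ya0 za23) (ka xa9 ya10 za36) (ka xa9 ya10 za37) (ka xa9 ya10 za38) (ka xa9 ya10 za39) (ka xa9 ya10 za40) (ka xa9 ya10 za41) (ka xa9 ya0 za22) (ka xa9 ya0 za24) (ka xa9 ya0 za25) (ka xa9 ya0 za26)) (@D3.rec (fun _ => Pt) (ka xa9 ya10 za42) (ka xa9 ya10 za43) (ka xa9 ya10 za44) (ka xa9 ya10 za45) (ka xa9 ya10 za46) (ka xa9 ya10 za47) (ka xa9 ya10 za48) (ka xa9 ya10 za49) (ka xa9 ya12 za14) (ka xa9 ya11 za0) (ka xa9 ya11 za1) (ka xa6 ya13 za28) (ka xa9 ya12 za17) (ka xa9 ya11 za4) (ka xa7 ya24 za14) (ka xa7 ya24 za15) (ka xa7 ya24 za16) (ka xa7 ya24 za17) (ka xa7 ya24 za18) (ka xa9 ya12 za26) (ka xa7 ya24 za20) (ka xa7 ya24 za21) (ka xa7 ya24 za22) (ka xa7 ya24 za23) (ka xa9 ya12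 za33) (ka xa7 ya24 za25) (ka xa7 ya24 za26) (ka xa6 ya13 za39) (ka xa9 ya12 za36) (ka xa7 ya24 za29) (ka xa6 ya13 za43) (ka xa9 ya12 za39) (ka xa7 ya24 za32) (ka xa6 ya14 za37) (ka xa6 ya14 za4) (ka xa6 ya14 za5) (ka xa6 ya14 za6) (ka xa6 ya14 za8) (ka xa6 ya14 za10) (ka xa6 ya14 za12) (ka xa6 ya14 za13) (ka xa6 ya14 za14) (ka xa6 ya14 za15) (ka xa6 ya14 za16) (ka xa6 ya14 za17) (ka xa6 ya14 za18) (ka xa9 ya12 za42) (ka xa8 ya21 za21) (ka xa9 ya12 za43) (ka xa9 ya12 za44) (ka xa9 ya12 za45)) (@D3.rec (fun _ => Pt) (ka xa6 ya26 za42) (ka xa6 ya26 za35) (ka xa9 ya12 za46) (ka xa9 ya6 za45) (ka xa9 ya6 za46) (ka xa9 ya12 za47) (ka xa9 ya12 za48) (ka xa9 ya12 za49) (ka xa9 ya12 za50) (ka xa7 ya25 za9) (ka xa6 ya14 za38) (ka xa6 ya14 za39) (ka xa6 ya14 za40) (ka xa6 ya14 za41) (ka xa6 ya14 za42) (ka xa6 ya14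 za43) (ka xa6 ya14 za44) (ka xa6 ya14 za46) (ka xa6 ya15 za0) (ka xa6 ya15 za1) (ka xa6 ya15 za2) (ka xa6 ya15 za3) (ka xa6 ya15 za4) (ka xa6 ya15 za5) (ka xa6 ya15 za6) (ka xa6 ya15 za7) (ka xa8 ya20 za21) (ka xa9 ya13 za12) (ka xa9 ya13 za13) (ka xa8 ya23 za15) (ka xa9 ya13 za14) (ka xa9 ya13 za15) (ka xa9 ya13 za16) (ka xa9 ya13 za17) (ka xa9 ya13 za18) (ka xa9 ya6 za42) (ka xa9 ya13 za19) (ka xa9 ya13 za20) (ka xa9 ya6 za44) (ka xa8 ya14 za11) (ka xa9 ya6 za43) (ka xa8 ya14 za13) (ka xa8 ya14 za15) (ka xa9 ya13 za21) (ka xa9 ya13 za22) (ka xa9 ya13 za23) (ka xa9 ya13 za24) (ka xa8 ya13 za3) (ka xa9 ya13 za25) (ka xa8 ya14 za49) (ka xa9 ya13 za26)) (@D3.rec (fun _ => Pt) (ka xa9 ya14 za6) (ka xa9 ya13 za27) (ka xa9 ya13 za28) (ka xa7 ya26 za3) (ka xa7 ya26 za4) (ka xa7 ya26 za5) (ka xa7 ya26 za6) (ka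 xa7 ya26 za7) (ka xa7 ya26 za8) (ka xa9 ya14 za14) (ka xa7 ya26 za10) (ka xa7 ya26 za11) (ka xa6 ya15 za16) (ka xa9 ya14 za17) (ka xa7 ya26 za14) (ka xa6 ya16 za33) (ka xa6 ya15 za34) (ka xa6 ya15 za35) (ka xa6 ya15 za36) (ka xa6 ya15 za37) (ka xa6 ya15 za38) (ka xa6 ya15 za39) (ka xa6 ya15 za40) (ka xa6 ya15 za41) (ka xa6 ya15 za43) (ka xa6 ya15 za46) (ka xa6 ya15 za47) (ka xa6 ya15 za48) (ka xa6 ya15 za49) (ka xa6 ya15 za50) (ka xa6 ya16 za0) (ka xa6 ya16 za1) (ka xa6 ya16 za2) (ka xa9 ya14 za20) (ka xa9 ya14 za21) (ka xa9 ya14 za22) (ka xa9 ya14 za23) (ka xa9 ya14 za24) (ka xa9 ya14 za25) (ka xa9 ya14 za26) (ka xa9 ya14 za27) (ka xa9 ya14 za28) (ka xa9 ya14 za29) (ka xa9 ya7 za42) (ka xa9 ya14 za30) (ka xa6 ya26 za41) (ka xa9 ya14 za31) (ka xa9 ya7 za41) (ka xa9 ya7 za44) (ka xa9 ya7 za43) (ka xa9 ya14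 za32))
def f_a_8 : D2 → D3 → Pt := @D2.rec (fun _ => D3 → Pt) (@D3.rec (fun _ => Pt) (ka xa9 ya14 za33) (ka xa9 ya14 za34) (ka xa9 ya14 za35) (ka xa9 ya14 za36) (ka xa9 ya14 za37) (ka xa9 ya14 za38) (ka xa9 ya15 za20) (ka xa9 ya14 za40) (ka xa9 ya14 za41) (ka xa8 ya0 za9) (ka xa8 ya0 za10) (ka xa8 ya0 za11) (ka xa8 ya0 za12) (ka xa6 ya16 za9) (ka xa9 ya15 za25) (ka xa8 ya0 za15) (ka xa8 ya16 za41) (ka xa9 ya7 za40) (ka xa6 ya16 za32) (ka xa6 ya16 za34) (ka xa6 ya16 za35) (ka xa6 ya16 za36) (ka xa6 ya16 za37) (ka xa6 ya16 za38) (ka xa6 ya16 za39) (ka xa6 ya16 za40) (ka xa6 ya16 za41) (ka xa6 ya16 za42) (ka xa6 ya16 za44) (ka xa6 ya16 za46) (ka xa6 ya17 za2) (ka xa6 ya17 za3) (ka xa6 ya17 za4) (ka xa6 ya17 za5) (ka xa6 ya17 za6) (ka xa6 ya17 za7) (ka xa6 ya17 za8) (ka xa6 ya17 za9) (ka xa9 ya16 za4) (ka xa6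 ya17 za11) (ka xa6 ya17 za12) (ka xa9 ya15 za29) (ka xa9 ya14 za19) (ka xa9 ya15 za30) (ka xa9 ya15 za31) (ka xa9 ya15 za32) (ka xa9 ya15 za33) (ka xa9 ya7 za28) (ka xa9 ya15 za34) (ka xa9 ya15 za35) (ka xa9 ya15 za36)) (@D3.rec (fun _ => Pt) (ka xa9 ya15 za37) (ka xa9 ya15 za38) (ka xa9 ya15 za39) (ka xa9 ya15 za40) (ka xa9 ya15 za41) (ka xa9 ya7 za32) (ka xa9 ya15 za42) (ka xa9 ya16 za32) (ka xa9 ya7 za34) (ka xa9 ya15 za44) (ka xa8 ya15 za11) (ka xa9 ya7 za35) (ka xa9 ya15 za45) (ka xa9 ya7 za36) (ka xa9 ya7 za31) (ka xa9 ya7 za33) (ka xa8 ya15 za10) (ka xa8 ya15 za12) (ka xa8 ya15 za13) (ka xa8 ya15 za15) (ka xa9 ya15 za46) (ka xa9 ya15 za47) (ka xa9 ya15 za48) (ka xa9 ya15 za49) (ka xa9 ya15 za50) (ka xa9 ya16 za0) (ka xa8 ya16 za26) (ka xa9 ya16 za1) (ka xa9 ya17 za8) (ka xa9 ya16 za2) (ka xa9 ya16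 za3) (ka xa6 ya17 za10) (ka xa9 ya17 za11) (ka xa9 ya16 za6) (ka xa8 ya1 za34) (ka xa8 ya1 za35) (ka xa8 ya1 za36) (ka xa8 ya1 za37) (ka xa8 ya1 za38) (ka xa9 ya17 za20) (ka xa8 ya1 za40) (ka xa8 ya1 za41) (ka xa8 ya1 za42) (ka xa8 ya1 za43) (ka xa9 ya17 za27) (ka xa8 ya1 za45) (ka xa8 ya1 za46) (ka xa6 ya17 za21) (ka xa9 ya17 za30) (ka xa8 ya1 za49) (ka xa6 ya17 za25)) (@D3.rec (fun _ => Pt) (ka xa9 ya17 za33) (ka xa8 ya2 za1) (ka xa6 ya26 za32) (ka xa6 ya26 za31) (ka xa6 ya17 za46) (ka xa6 ya17 za47) (ka xa6 ya17 za48) (ka xa6 ya17 za49) (ka xa6 ya17 za50) (ka xa6 ya18 za2) (ka xa6 ya18 za4) (ka xa6 ya18 za8) (ka xa6 ya18 za9) (ka xa6 ya18 za11) (ka xa6 ya18 za13) (ka xa9 ya5 za10) (ka xa9 ya5 za7) (ka xa9 ya1 za30) (ka xa9 ya1 za33) (ka xa9 ya1 za7) (ka xa9 ya1 za36) (ka xa9 ya1 za11) (ka xa9 ya1 za12)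 (ka xa9 ya17 za36) (ka xa9 ya17 za37) (ka xa9 ya17 za38) (ka xa9 ya17 za39) (ka xa9 ya17 za40) (ka xa9 ya17 za41) (ka xa9 ya0 za48) (ka xa9 ya10 za14) (ka xa9 ya17 za42) (ka xa9 ya11 za18) (ka xa9 ya0 za50) (ka xa9 ya1 za0) (ka xa9 ya10 za16) (ka xa9 ya17 za43) (ka xa9 ya10 za13) (ka xa9 ya10 za17) (ka xa9 ya10 za12) (ka xa9 ya10 za15) (ka xa9 ya17 za44) (ka xa9 ya5 za3) (ka xa9 ya17 za45) (ka xa9 ya0 za46) (ka xa9 ya5 za1) (ka xa9 ya5 za4) (ka xa9 ya0 za47) (ka xa9 ya5 za5) (ka xa9 ya18 za40) (ka xa9 ya0 za49)) (@D3.rec (fun _ => Pt) (ka xa6 ya18 za16) (ka xa9 ya18 za42) (ka xa8 ya3 za2) (ka xa8 ya3 za3) (ka xa8 ya3 za4) (ka xa8 ya3 za5) (ka xa8 ya3 za6) (ka xa9 ya18 za48) (ka xa8 ya3 za8) (ka xa8 ya3 za9) (ka xa8 ya3 za10) (ka xa8 ya3 za11) (ka xa9 ya19 za3) (ka xa8 ya3 za13) (ka xa8 ya3 za14) (ka xa6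 ya18 za26) (ka xa9 ya19 za6) (ka xa8 ya3 za17) (ka xa6 ya18 za30) (ka xa9 ya19 za9) (ka xa8 ya3 za20) (ka xa9 ya10 za8) (ka xa7 ya0 za6) (ka xa9 ya10 za9) (ka xa9 ya10 za10) (ka xa9 ya10 za11) (ka xa6 ya19 za8) (ka xa6 ya19 za9) (ka xa6 ya19 za10) (ka xa6 ya19 za11) (ka xa6 ya19 za12) (ka xa6 ya19 za13) (ka xa6 ya19 za16) (ka xa6 ya19 za17) (ka xa6 ya19 za18) (ka xa6 ya19 za19) (ka xa6 ya19 za20) (ka xa6 ya19 za21) (ka xa6 ya19 za22) (ka xa6 ya19 za23) (ka xa6 ya19 za25) (ka xa9 ya19 za36) (ka xa6 ya19 za28) (ka xa6 ya19 za31) (ka xa6 ya19 za40) (ka xa6 ya19 za41) (ka xa6 ya19 za42) (ka xa6 ya19 za43) (ka xa6 ya19 za44) (ka xa6 ya19 za45) (ka xa6 ya19 za46)) (@D3.rec (fun _ => Pt) (ka xa6 ya19 za47) (ka xa9 ya19 za50) (ka xa6 ya19 za49) (ka xa6 ya19 za6) (ka xa9 ya20 za1) (ka xa9 ya5 za9) (ka xa9 ya19 za16)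 (ka xa9 ya19 za17) (ka xa9 ya19 za18) (ka xa9 ya19 za19) (ka xa9 ya19 za20) (ka xa9 ya19 za21) (ka xa9 ya19 za22) (ka xa9 ya6 za16) (ka xa9 ya9 za22) (ka xa9 ya19 za23) (ka xa9 ya20 za21) (ka xa9 ya6 za19) (ka xa9 ya4 za26) (ka xa8 ya17 za0) (ka xa9 ya9 za24) (ka xa9 ya19 za24) (ka xa9 ya19 za25) (ka xa9 ya19 za26) (ka xa9 ya19 za27) (ka xa9 ya19 za28) (ka xa9 ya19 za29) (ka xa9 ya19 za30) (ka xa9 ya19 za31) (ka xa9 ya9 za29) (ka xa9 ya19 za32) (ka xa9 ya20 za47) (ka xa9 ya9 za31) (ka xa9 ya19 za34) (ka xa9 ya9 za27) (ka xa9 ya9 za32) (ka xa9 ya19 za35) (ka xa6 ya19 za26) (ka xa9 ya21 za5) (ka xa9 ya21 za6) (ka xa8 ya17 za7) (ka xa9 ya9 za34) (ka xa9 ya19 za38) (ka xa8 ya17 za5) (ka xa8 ya17 za9) (ka xa9 ya9 za35) (ka xa9 ya9 za26) (ka xa9 ya9 za30) (ka xa8 ya17 za3) (ka xa9 ya9 za28) (ka xa8 ya17 za4))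 (@D3.rec (fun _ => Pt) (ka xa8 ya17 za6) (ka xa8 ya17 za11) (ka xa9 ya19 za39) (ka xa9 ya19 za40) (ka xa9 ya19 za41) (ka xa9 ya19 za42) (ka xa9 ya19 za43) (ka xa9 ya21 za29) (ka xa9 ya19 za45) (ka xa9 ya19 za46) (ka xa9 ya19 za47) (ka xa9 ya5 za34) (ka xa9 ya21 za36) (ka xa9 ya19 za49) (ka xa9 ya5 za36) (ka xa6 ya19 za48) (ka xa9 ya21 za39) (ka xa9 ya5 za38) (ka xa6 ya20 za1) (ka xa9 ya21 za42) (ka xa9 ya3 za19) (ka xa8 ya5 za21) (ka xa9 ya5 za33) (ka xa8 ya5 za23) (ka xa8 ya5 za24) (ka xa8 ya5 za25) (ka xa6 ya20 za8) (ka xa9 ya5 za30) (ka xa9 ya21 za45) (ka xa8 ya5 za29) (ka xa6 ya20 za13) (ka xa9 ya21 za46) (ka xa6 ya20 za17) (ka xa9 ya21 za47) (ka xa8 ya5 za34) (ka xa6 ya20 za20) (ka xa8 ya13 za20) (ka xa8 ya5 za37) (ka xa9 ya5 za8) (ka xa9 ya1 za31) (ka xa9 ya5 za6) (ka xa9 ya1 za28) (ka xa9 ya1 za32)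 (ka xa9 ya1 za34) (ka xa9 ya5 za2) (ka xa9 ya0 za45) (ka xa9 ya5 za0) (ka xa9 ya20 za2) (ka xa9 ya0 za44) (ka xa9 ya22 za8) (ka xa6 ya20 za34)) (@D3.rec (fun _ => Pt) (ka xa8 ya6 za0) (ka xa8 ya6 za1) (ka xa8 ya6 za2) (ka xa9 ya5 za25) (ka xa6 ya20 za41) (ka xa6 ya21 za19) (ka xa9 ya21 za49) (ka xa8 ya6 za7) (ka xa8 ya6 za8) (ka xa6 ya20 za46) (ka xa9 ya22 za10) (ka xa8 ya6 za11) (ka xa6 ya20 za50) (ka xa9 ya22 za12) (ka xa8 ya6 za14) (ka xa6 ya21 za2) (ka xa9 ya0 za6) (ka xa8 ya6 za17) (ka xa6 ya21 za18) (ka xa6 ya21 za20) (ka xa6 ya21 za22) (ka xa6 ya21 za24) (ka xa6 ya21 za36) (ka xa6 ya21 za38) (ka xa6 ya21 za39) (ka xa9 ya22 za20) (ka xa6 ya21 za42) (ka xa9 ya22 za23) (ka xa6 ya21 za15) (ka xa9 ya1 za43) (ka xa9 ya22 za14) (ka xa9 ya22 za15) (ka xa9 ya18 za49) (ka xa9 ya6 za3) (ka xa9 ya22 za16) (ka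 xa9 ya6 za9) (ka xa9 ya6 za10) (ka xa9 ya4 za17) (ka xa9 ya6 za13) (ka xa9 ya4 za20) (ka xa9 ya22 za40) (ka xa9 ya4 za23) (ka xa6 ya21 za27) (ka xa9 ya22 za42) (ka xa9 ya5 za49) (ka xa9 ya6 za1) (ka xa9 ya6 za2) (ka xa9 ya22 za46) (ka xa9 ya6 za8) (ka xa9 ya22 za49) (ka xa6 ya21 za34)) (@D3.rec (fun _ => Pt) (ka xa9 ya22 za17) (ka xa9 ya5 za44) (ka xa9 ya22 za19) (ka xa9 ya5 za42) (ka xa6 ya21 za41) (ka xa9 ya22 za22) (ka xa9 ya5 za32) (ka xa6 ya21 za46) (ka xa9 ya5 za35) (ka xa6 ya21 za50) (ka xa9 ya23 za2) (ka xa9 ya3 za14) (ka xa6 ya22 za2) (ka xa8 ya19 za4) (ka xa9 ya3 za18) (ka xa6 ya22 za7) (ka xa8 ya13 za17) (ka xa6 ya22 za36) (ka xa6 ya22 za38) (ka xa6 ya22 za39) (ka xa8 ya21 za25) (ka xa8 ya14 za45) (ka xa8 ya14 za48) (ka xa8 ya14 za20) (ka xa8 ya15 za3) (ka xa8 ya14 za23) (ka xa8 ya13 za8) (ka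 xa8 ya15 za5) (ka xa8 ya14 za19) (ka xa8 ya14 za21) (ka xa8 ya14 za22) (ka xa8 ya12 za50) (ka xa8 ya13 za0) (ka xa8 ya13 za4) (ka xa8 ya21 za1) (ka xa8 ya14 za50) (ka xa9 ya23 za5) (ka xa6 ya22 za37) (ka xa9 ya23 za19) (ka xa9 ya23 za6) (ka xa8 ya7 za40) (ka xa8 ya7 za41) (ka xa8 ya7 za42) (ka xa8 ya20 za9) (ka xa8 ya7 za44) (ka xa8 ya7 za45) (ka xa8 ya7 za46) (ka xa8 ya7 za47) (ka xa8 ya22 za47) (ka xa8 ya7 za49) (ka xa8 ya7 za50)) (@D3.rec (fun _ => Pt) (ka xa6 ya22 za47) (ka xa9 ya23 za31) (ka xa8 ya8 za2) (ka xa6 ya23 za0) (ka xa9 ya23 za34) (ka xa8 ya8 za5) (ka xa6 ya23 za25) (ka xa6 ya23 za28) (ka xa6 ya23 za40) (ka xa6 ya23 za41) (ka xa6 ya23 za43) (ka xa6 ya23 za45) (ka xa6 ya23 za46) (ka xa6 ya23 za12) (ka xa9 ya23 za42) (ka xa6 ya23 za49) (ka xa8 ya21 za24) (ka xa8 ya14 za44) (ka xa8 ya14 za12)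 (ka xa8 ya13 za49) (ka xa8 ya14 za18) (ka xa8 ya24 za47) (ka xa8 ya16 za19) (ka xa8 ya16 za25) (ka xa8 ya16 za35) (ka xa8 ya16 za38) (ka xa8 ya15 za26) (ka xa6 ya23 za23) (ka xa9 ya24 za7) (ka xa9 ya24 za8) (ka xa8 ya15 za24) (ka xa9 ya7 za38) (ka xa9 ya23 za37) (ka xa8 ya15 za22) (ka xa8 ya15 za25) (ka xa9 ya7 za39) (ka xa8 ya16 za36) (ka xa8 ya16 za40) (ka xa8 ya15 za20) (ka xa9 ya7 za37) (ka xa8 ya15 za21) (ka xa8 ya15 za23) (ka xa8 ya13 za18) (ka xa9 ya1 za24) (ka xa8 ya19 za9) (ka xa8 ya19 za10) (ka xa9 ya23 za38) (ka xa9 ya23 za39) (ka xa8 ya24 za11) (ka xa8 ya16 za27) (ka xa9 ya23 za40)) (@D3.rec (fun _ => Pt) (ka xa6 ya23 za44) (ka xa9 ya24 za31) (ka xa9 ya23 za41) (ka xa6 ya23 za48) (ka xa9 ya24 za34) (ka xa9 ya23 za44) (ka xa9 ya0 za9) (ka xa8 ya9 za7) (ka xa8 ya9 za8) (ka xa6 ya24 za2) (ka xa9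 ya24 za39) (ka xa9 ya24 za40) (ka xa8 ya9 za12) (ka xa8 ya9 za13) (ka xa8 ya9 za14) (ka xa6 ya24 za7) (ka xa9 ya24 za45) (ka xa8 ya9 za17) (ka xa6 ya24 za11) (ka xa9 ya24 za48) (ka xa8 ya9 za20) (ka xa6 ya24 za14) (ka xa9 ya25 za0) (ka xa8 ya9 za23) (ka xa6 ya24 za40) (ka xa6 ya24 za42) (ka xa6 ya24 za43) (ka xa6 ya24 za45) (ka xa9 ya25 za10) (ka xa6 ya24 za48) (ka xa6 ya25 za0) (ka xa6 ya24 za22) (ka xa9 ya25 za13) (ka xa6 ya25 za6) (ka xa6 ya25 za18) (ka xa6 ya25 za19) (ka xa9 ya25 za18) (ka xa6 ya25 za21) (ka xa6 ya25 za22) (ka xa6 ya25 za23) (ka xa6 ya25 za24) (ka xa9 ya25 za24) (ka xa6 ya25 za26) (ka xa6 ya25 za27) (ka xa6 ya24 za32) (ka xa9 ya25 za27) (ka xa6 ya25 za30) (ka xa6 ya24 za36) (ka xa9 ya25 za30) (ka xa6 ya25 za33) (ka xa8 ya13 za25)) (@D3.rec (fun _ => Pt) (ka xa8 ya13 za26) (ka xa9 ya25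 za35) (ka xa8 ya19 za26) (ka xa9 ya25 za5) (ka xa8 ya19 za21) (ka xa8 ya19 za27) (ka xa9 ya25 za6) (ka xa9 ya25 za45) (ka xa9 ya9 za39) (ka xa9 ya25 za8) (ka xa8 ya19 za24) (ka xa9 ya9 za40) (ka xa9 ya25 za9) (ka xa6 ya24 za46) (ka xa9 ya26 za2) (ka xa9 ya26 za3) (ka xa9 ya9 za37) (ka xa9 ya9 za42) (ka xa9 ya25 za12) (ka xa8 ya17 za18) (ka xa9 ya9 za38) (ka xa9 ya9 za43) (ka xa6 ya25 za2) (ka xa6 ya25 za3) (ka xa9 ya26 za14) (ka xa9 ya26 za15) (ka xa9 ya26 za16) (ka xa8 ya17 za22) (ka xa8 ya17 za25) (ka xa9 ya9 za46) (ka xa9 ya25 za15) (ka xa8 ya17 za20) (ka xa8 ya17 za23) (ka xa8 ya17 za26) (ka xa9 ya8 za41) (ka xa9 ya9 za36) (ka xa8 ya17 za17) (ka xa8 ya17 za19) (ka xa8 ya17 za21) (ka xa9 ya25 za17) (ka xa6 ya25 za20) (ka xa9 ya25 za26) (ka xa9 ya25 za21) (ka xa9 ya25 za22) (ka xa9 ya25 za23) (ka xa6 ya25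 za25) (ka xa6 ya25 za29) (ka xa9 ya25 za29) (ka xa6 ya25 za32) (ka xa8 ya13 za28) (ka xa9 ya25 za32)) (@D3.rec (fun _ => Pt) (ka xa6 ya25 za45) (ka xa6 ya25 za39) (ka xa9 ya5 za45) (ka xa6 ya25 za42) (ka xa6 ya25 za50) (ka xa9 ya25 za16) (ka xa6 ya26 za0) (ka xa6 ya25 za48) (ka xa8 ya13 za27) (ka xa6 ya26 za3) (ka xa9 ya26 za34) (ka xa9 ya26 za36) (ka xa8 ya11 za12) (ka xa8 ya20 za22) (ka xa6 ya26 za48) (ka xa6 ya26 za8) (ka xa8 ya23 za16) (ka xa8 ya23 za18) (ka xa6 ya26 za24) (ka xa6 ya26 za23) (ka xa7 ya0 za22) (ka xa7 ya0 za9) (ka xa7 ya0 za12) (ka xa6 ya26 za25) (ka xa6 ya26 za26) (ka xa6 ya26 za29) (ka xa9 ya9 za21) (ka xa9 ya26 za41) (ka xa9 ya26 za40) (ka xa9 ya1 za35) (ka xa9 ya26 za43) (ka xa9 ya0 za19) (ka xa9 ya1 za37) (ka xa9 ya0 za20) (ka xa9 ya0 za21) (ka xa9 ya13 za8) (ka xa6 ya26 za37) (ka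 xa8 ya14 za10) (ka xa6 ya26 za43) (ka xa9 ya15 za11) (ka xa9 ya13 za7) (ka xa6 ya26 za46) (ka xa8 ya15 za7) (ka xa9 ya7 za29) (ka xa8 ya15 za6) (ka xa8 ya15 za8) (ka xa8 ya15 za9) (ka xa7 ya0 za7) (ka xa7 ya0 za8) (ka xa7 ya0 za10) (ka xa9 ya19 za13)) (@D3.rec (fun _ => Pt) (ka xa9 ya26 za50) (ka xa10 ya0 za0) (ka xa7 ya0 za36) (ka xa9 ya26 za42) (ka xa9 ya0 za1) (ka xa7 ya0 za18) (ka xa7 ya0 za19) (ka xa7 ya0 za20) (ka xa10 ya0 za4) (ka xa10 ya0 za5) (ka xa9 ya9 za20) (ka xa9 ya9 za23) (ka xa8 ya16 za50) (ka xa8 ya17 za1) (ka xa8 ya16 za48) (ka xa8 ya16 za49) (ka xa9 ya9 za25) (ka xa8 ya17 za2) (ka xa7 ya0 za35) (ka xa7 ya0 za38) (ka xa7 ya0 za40) (ka xa9 ya5 za11) (ka xa10 ya0 za14) (ka xa10 ya0 za15) (ka xa10 ya0 za3) (ka xa9 ya0 za12) (ka xa9 ya0 za13) (ka xa8 ya26 za50) (ka xa8 ya12 za28) (ka xa8 ya12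 za29) (ka xa8 ya12 za30) (ka xa8 ya12 za31) (ka xa7 ya1 za4) (ka xa7 ya1 za5) (ka xa7 ya1 za6) (ka xa8 ya17 za35) (ka xa9 ya1 za50) (ka xa10 ya0 za18) (ka xa10 ya0 za19) (ka xa8 ya13 za42) (ka xa8 ya13 za41) (ka xa8 ya14 za17) (ka xa8 ya14 za7) (ka xa8 ya13 za47) (ka xa9 ya6 za33) (ka xa8 ya13 za48) (ka xa8 ya13 za46) (ka xa9 ya6 za36) (ka xa8 ya15 za19) (ka xa8 ya17 za16) (ka xa8 ya7 za31)) (@D3.rec (fun _ => Pt) (ka xa8 ya7 za32) (ka xa7 ya1 za39) (ka xa7 ya1 za40) (ka xa7 ya25 za47) (ka xa8 ya7 za33) (ka xa10 ya0 za31) (ka xa10 ya0 za32) (ka xa10 ya0 za33) (ka xa8 ya7 za26) (ka xa8 ya13 za9) (ka xa8 ya13 za10) (ka xa8 ya13 za11) (ka xa7 ya2 za9) (ka xa7 ya2 za10) (ka xa7 ya2 za11) (ka xa7 ya2 za12) (ka xa7 ya2 za16) (ka xa8 ya7 za16) (ka xa8 ya8 za42) (ka xa7 ya18 za44) (ka xa8 ya5 za36) (ka xa10 ya0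 za43) (ka xa10 ya0 za44) (ka xa10 ya0 za45) (ka xa10 ya0 za46) (ka xa8 ya9 za50) (ka xa8 ya10 za0) (ka xa8 ya11 za8) (ka xa8 ya10 za49) (ka xa10 ya0 za47) (ka xa8 ya13 za30) (ka xa8 ya13 za31) (ka xa8 ya13 za32) (ka xa8 ya13 za33) (ka xa10 ya1 za18) (ka xa8 ya13 za35) (ka xa8 ya13 za36) (ka xa7 ya2 za24) (ka xa10 ya1 za21) (ka xa8 ya13 za39) (ka xa7 ya18 za47) (ka xa8 ya12 za40) (ka xa8 ya12 za39) (ka xa7 ya18 za48) (ka xa7 ya19 za11) (ka xa7 ya19 za10) (ka xa8 ya12 za46) (ka xa8 ya12 za43) (ka xa8 ya12 za45) (ka xa8 ya8 za19) (ka xa8 ya13 za50)) (@D3.rec (fun _ => Pt) (ka xa8 ya14 za0) (ka xa8 ya14 za1) (ka xa8 ya14 za2) (ka xa7 ya3 za6) (ka xa7 ya19 za9) (ka xa7 ya19 za7) (ka xa7 ya19 za8) (ka xa8 ya12 za42) (ka xa7 ya19 za5) (ka xa7 ya19 za42) (ka xa8 ya11 za37) (ka xa7 ya25 za39) (ka xa8 ya8 za18) (ka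 xa7 ya25 za41) (ka xa7 ya9 za26) (ka xa7 ya25 za42) (ka xa7 ya9 za27) (ka xa8 ya12 za41) (ka xa8 ya8 za20) (ka xa8 ya7 za28) (ka xa8 ya7 za23) (ka xa8 ya7 za29) (ka xa8 ya7 za30) (ka xa8 ya7 za25) (ka xa8 ya14 za24) (ka xa8 ya14 za25) (ka xa8 ya14 za26) (ka xa8 ya14 za27) (ka xa7 ya8 za46) (ka xa7 ya8 za47) (ka xa7 ya8 za48) (ka xa7 ya8 za29) (ka xa7 ya8 za49) (ka xa7 ya3 za39) (ka xa7 ya3 za40) (ka xa7 ya3 za41) (ka xa7 ya3 za45) (ka xa7 ya3 za46) (ka xa7 ya3 za47) (ka xa7 ya3 za48) (ka xa7 ya4 za1) (ka xa10 ya1 za35) (ka xa7 ya20 za4) (ka xa10 ya1 za33) (ka xa8 ya8 za17) (ka xa8 ya7 za21) (ka xa10 ya2 za3) (ka xa10 ya2 za4) (ka xa8 ya7 za22) (ka xa7 ya25 za49) (ka xa8 ya7 za35)) (@D3.rec (fun _ => Pt) (ka xa10 ya2 za5) (ka xa10 ya2 za6) (ka xa10 ya2 za7) (ka xa8 ya7 za24) (ka xa7 ya19 za41) (ka xa8 ya7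 za27) (ka xa8 ya11 za44) (ka xa8 ya11 za42) (ka xa8 ya11 za45) (ka xa8 ya11 za46) (ka xa8 ya1 za16) (ka xa8 ya1 za10) (ka xa8 ya1 za17) (ka xa8 ya1 za18) (ka xa7 ya12 za21) (ka xa8 ya1 za19) (ka xa7 ya12 za18) (ka xa7 ya12 za22) (ka xa7 ya12 za23) (ka xa8 ya12 za48) (ka xa8 ya8 za38) (ka xa8 ya8 za40) (ka xa8 ya8 za33) (ka xa8 ya8 za41) (ka xa8 ya8 za30) (ka xa8 ya8 za34) (ka xa8 ya8 za26) (ka xa8 ya15 za27) (ka xa8 ya15 za28) (ka xa8 ya15 za29) (ka xa8 ya15 za30) (ka xa8 ya15 za31) (ka xa8 ya15 za32) (ka xa8 ya15 za33) (ka xa8 ya15 za34) (ka xa10 ya3 za7) (ka xa8 ya15 za36) (ka xa8 ya15 za37) (ka xa7 ya11 za25) (ka xa7 ya11 za26) (ka xa7 ya11 za27) (ka xa7 ya11 za28) (ka xa7 ya11 za29) (ka xa7 ya11 za3) (ka xa7 ya11 za30) (ka xa7 ya10 za7) (ka xa7 ya11 za4) (ka xa7 ya4 za49) (ka xa7 ya5 za0) (ka xa7 ya5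 za1) (ka xa7 ya5 za2)) (@D3.rec (fun _ => Pt) (ka xa7 ya5 za3) (ka xa7 ya5 za4) (ka xa7 ya5 za7) (ka xa7 ya5 za8) (ka xa7 ya5 za9) (ka xa7 ya5 za10) (ka xa7 ya5 za11) (ka xa7 ya5 za12) (ka xa7 ya5 za13) (ka xa7 ya5 za14) (ka xa7 ya5 za17) (ka xa7 ya5 za19) (ka xa10 ya3 za21) (ka xa10 ya3 za22) (ka xa7 ya21 za24) (ka xa7 ya21 za8) (ka xa7 ya21 za27) (ka xa10 ya3 za23) (ka xa10 ya3 za24) (ka xa8 ya8 za22) (ka xa10 ya3 za25) (ka xa10 ya3 za26) (ka xa7 ya21 za1) (ka xa10 ya3 za27) (ka xa10 ya3 za28) (ka xa8 ya8 za23) (ka xa8 ya1 za26) (ka xa8 ya8 za49) (ka xa10 ya3 za29) (ka xa10 ya3 za30) (ka xa10 ya3 za31) (ka xa10 ya3 za32) (ka xa10 ya3 za33) (ka xa10 ya3 za34) (ka xa10 ya3 za35) (ka xa8 ya8 za24) (ka xa8 ya8 za36) (ka xa10 ya3 za36) (ka xa8 ya8 za25) (ka xa7 ya21 za0) (ka xa8 ya8 za37) (ka xa8 ya0 za16)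 (ka xa7 ya21 za2) (ka xa10 ya3 za37) (ka xa8 ya16 za44) (ka xa8 ya16 za45) (ka xa7 ya5 za27) (ka xa10 ya4 za23) (ka xa8 ya12 za14) (ka xa8 ya12 za15) (ka xa8 ya12 za12)) (@D3.rec (fun _ => Pt) (ka xa8 ya4 za19) (ka xa8 ya12 za13) (ka xa8 ya12 za17) (ka xa8 ya4 za48) (ka xa8 ya4 za50) (ka xa8 ya4 za43) (ka xa8 ya5 za0) (ka xa8 ya4 za40) (ka xa7 ya16 za4) (ka xa8 ya4 za44) (ka xa7 ya16 za15) (ka xa8 ya5 za1) (ka xa7 ya16 za12) (ka xa7 ya16 za16) (ka xa7 ya16 za13) (ka xa7 ya16 za17) (ka xa8 ya12 za49) (ka xa8 ya10 za36) (ka xa8 ya10 za19) (ka xa8 ya10 za37) (ka xa8 ya10 za31) (ka xa8 ya10 za38) (ka xa8 ya10 za27) (ka xa8 ya10 za32) (ka xa10 ya5 za13) (ka xa8 ya10 za28) (ka xa8 ya10 za33) (ka xa8 ya17 za27) (ka xa8 ya17 za28) (ka xa8 ya17 za29) (ka xa8 ya17 za30) (ka xa8 ya17 za31) (ka xa8 ya17 za32) (ka xa8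 ya17 za33) (ka xa8 ya17 za34) (ka xa8 ya12 za35) (ka xa8 ya17 za36) (ka xa8 ya17 za37) (ka xa7 ya6 za8) (ka xa10 ya5 za28) (ka xa8 ya17 za40) (ka xa7 ya14 za47) (ka xa7 ya14 za48) (ka xa7 ya14 za49) (ka xa7 ya14 za50) (ka xa7 ya15 za0) (ka xa7 ya15 za1) (ka xa7 ya15 za2) (ka xa7 ya15 za3) (ka xa7 ya14 za20) (ka xa7 ya15 za4)) (@D3.rec (fun _ => Pt) (ka xa7 ya13 za14) (ka xa7 ya14 za17) (ka xa7 ya14 za21) (ka xa7 ya13 za15) (ka xa7 ya14 za22) (ka xa7 ya6 za43) (ka xa7 ya6 za44) (ka xa7 ya6 za45) (ka xa7 ya6 za46) (ka xa7 ya6 za47) (ka xa7 ya6 za48) (ka xa7 ya6 za49) (ka xa7 ya6 za50) (ka xa7 ya7 za0) (ka xa7 ya7 za1) (ka xa7 ya7 za2) (ka xa7 ya7 za3) (ka xa7 ya7 za4) (ka xa7 ya7 za6) (ka xa7 ya7 za7) (ka xa7 ya7 za8) (ka xa7 ya7 za9) (ka xa7 ya7 za10) (ka xa7 ya7 za11) (ka xa7 ya7 za12) (ka xa7 ya7 za13)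 (ka xa7 ya7 za14) (ka xa7 ya7 za15) (ka xa7 ya7 za16) (ka xa7 ya7 za17) (ka xa7 ya7 za18) (ka xa7 ya7 za20) (ka xa7 ya7 za21) (ka xa7 ya7 za22) (ka xa7 ya7 za24) (ka xa7 ya7 za25) (ka xa10 ya6 za0) (ka xa10 ya6 za1) (ka xa10 ya6 za2) (ka xa10 ya6 za3) (ka xa10 ya6 za4) (ka xa10 ya6 za5) (ka xa10 ya6 za6) (ka xa10 ya6 za7) (ka xa10 ya6 za8) (ka xa10 ya6 za9) (ka xa10 ya6 za10) (ka xa10 ya6 za11) (ka xa10 ya6 za12) (ka xa10 ya6 za13) (ka xa10 ya6 za14)) (@D3.rec (fun _ => Pt) (ka xa10 ya6 za15) (ka xa10 ya6 za16) (ka xa10 ya6 za17) (ka xa10 ya7 za19) (ka xa8 ya7 za13) (ka xa10 ya6 za18) (ka xa10 ya6 za19) (ka xa10 ya6 za20) (ka xa10 ya6 za21) (ka xa8 ya8 za44) (ka xa8 ya8 za45) (ka xa10 ya6 za22) (ka xa10 ya6 za23) (ka xa10 ya6 za24) (ka xa10 ya6 za25) (ka xa10 ya6 za26) (ka xa10 ya6 za27) (ka xa10 ya6 za28)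 (ka xa10 ya6 za29) (ka xa10 ya6 za30) (ka xa10 ya6 za31) (ka xa8 ya10 za4) (ka xa10 ya6 za32) (ka xa10 ya6 za33) (ka xa8 ya10 za10) (ka xa10 ya6 za34) (ka xa8 ya10 za2) (ka xa8 ya10 za5) (ka xa10 ya8 za0) (ka xa10 ya6 za35) (ka xa10 ya6 za36) (ka xa7 ya7 za23) (ka xa10 ya8 za3) (ka xa10 ya6 za37) (ka xa8 ya19 za34) (ka xa8 ya19 za35) (ka xa8 ya19 za36) (ka xa10 ya8 za9) (ka xa8 ya19 za38) (ka xa8 ya19 za39) (ka xa8 ya19 za40) (ka xa8 ya19 za41) (ka xa10 ya8 za15) (ka xa8 ya19 za43) (ka xa8 ya19 za44) (ka xa7 ya7 za34) (ka xa10 ya8 za18) (ka xa8 ya19 za47) (ka xa7 ya7 za38) (ka xa10 ya8 za21) (ka xa8 ya19 za50)) (@D3.rec (fun _ => Pt) (ka xa8 ya20 za0) (ka xa7 ya7 za48) (ka xa7 ya7 za49) (ka xa7 ya7 za50) (ka xa7 ya8 za0) (ka xa7 ya8 za2) (ka xa7 ya8 za3) (ka xa10 ya8 za25) (ka xa10 ya8 za26) (ka xa8 ya7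 za43) (ka xa10 ya8 za27) (ka xa10 ya8 za28) (ka xa10 ya8 za29) (ka xa7 ya10 za3) (ka xa10 ya8 za30) (ka xa8 ya20 za15) (ka xa8 ya20 za16) (ka xa8 ya20 za17) (ka xa8 ya20 za18) (ka xa8 ya20 za19) (ka xa8 ya20 za20) (ka xa7 ya25 za26) (ka xa8 ya11 za13) (ka xa7 ya19 za49) (ka xa7 ya19 za50) (ka xa7 ya8 za22) (ka xa7 ya8 za23) (ka xa7 ya8 za24) (ka xa7 ya8 za25) (ka xa7 ya8 za26) (ka xa7 ya8 za27) (ka xa7 ya8 za28) (ka xa7 ya8 za30) (ka xa7 ya8 za31) (ka xa7 ya8 za32) (ka xa7 ya8 za33) (ka xa7 ya8 za34) (ka xa7 ya8 za35) (ka xa7 ya8 za36) (ka xa7 ya8 za37) (ka xa10 ya8 za49) (ka xa10 ya8 za50) (ka xa10 ya9 za0) (ka xa10 ya9 za1) (ka xa10 ya9 za2) (ka xa10 ya9 za3) (ka xa10 ya9 za4) (ka xa10 ya9 za5) (ka xa10 ya8 za35) (ka xa10 ya9 za6) (ka xa10 ya9 za7)) (@D3.rec (fun _ => Pt) (ka xa10 ya9 za8) (ka xa8 ya7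 za34) (ka xa10 ya2 za2) (ka xa10 ya9 za9) (ka xa10 ya9 za10) (ka xa10 ya9 za11) (ka xa10 ya9 za12) (ka xa10 ya8 za31) (ka xa10 ya9 za13) (ka xa10 ya9 za14) (ka xa10 ya9 za15) (ka xa10 ya9 za16) (ka xa8 ya21 za12) (ka xa8 ya21 za13) (ka xa8 ya21 za14) (ka xa8 ya21 za15) (ka xa8 ya21 za16) (ka xa8 ya21 za17) (ka xa10 ya9 za48) (ka xa8 ya21 za19) (ka xa8 ya21 za20) (ka xa7 ya24 za47) (ka xa10 ya1 za50) (ka xa10 ya2 za0) (ka xa8 ya8 za16) (ka xa8 ya7 za20) (ka xa10 ya2 za1) (ka xa7 ya9 za14) (ka xa7 ya9 za15) (ka xa7 ya9 za16) (ka xa7 ya9 za17) (ka xa7 ya9 za18) (ka xa7 ya9 za19) (ka xa7 ya9 za20) (ka xa7 ya9 za21) (ka xa7 ya9 za22) (ka xa7 ya9 za23) (ka xa7 ya9 za24) (ka xa7 ya9 za25) (ka xa7 ya9 za28) (ka xa7 ya9 za29) (ka xa7 ya9 za30) (ka xa7 ya9 za31) (ka xa7 ya9 za32) (ka xa7 ya9 za33) (ka xa7 ya9 za34)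 (ka xa7 ya9 za35) (ka xa7 ya9 za36) (ka xa10 ya8 za44) (ka xa10 ya10 za6) (ka xa10 ya10 za7)) (@D3.rec (fun _ => Pt) (ka xa10 ya10 za8) (ka xa10 ya10 za9) (ka xa10 ya10 za10) (ka xa10 ya10 za11) (ka xa10 ya10 za12) (ka xa10 ya10 za13) (ka xa10 ya10 za14) (ka xa10 ya10 za15) (ka xa10 ya10 za16) (ka xa10 ya10 za17) (ka xa10 ya10 za18) (ka xa10 ya10 za19) (ka xa10 ya10 za20) (ka xa10 ya1 za43) (ka xa10 ya10 za21) (ka xa10 ya10 za22) (ka xa10 ya1 za41) (ka xa10 ya1 za44) (ka xa10 ya1 za45) (ka xa10 ya10 za23) (ka xa10 ya10 za24) (ka xa10 ya10 za25) (ka xa10 ya10 za26) (ka xa10 ya10 za27) (ka xa10 ya11 za12) (ka xa10 ya10 za29) (ka xa10 ya10 za30) (ka xa8 ya22 za27) (ka xa7 ya9 za41) (ka xa10 ya11 za15) (ka xa8 ya22 za30) (ka xa8 ya22 za31) (ka xa8 ya22 za32) (ka xa7 ya10 za4) (ka xa7 ya10 za5) (ka xa7 ya10 za6)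 (ka xa7 ya10 za8) (ka xa7 ya10 za10) (ka xa7 ya10 za11) (ka xa7 ya10 za12) (ka xa7 ya10 za13) (ka xa7 ya10 za14) (ka xa10 ya8 za37) (ka xa10 ya11 za18) (ka xa10 ya11 za19) (ka xa10 ya9 za40) (ka xa10 ya11 za20) (ka xa8 ya7 za48) (ka xa10 ya3 za19) (ka xa10 ya11 za21) (ka xa7 ya13 za9)) (@D3.rec (fun _ => Pt) (ka xa10 ya11 za22) (ka xa10 ya11 za23) (ka xa10 ya9 za29) (ka xa10 ya11 za24) (ka xa10 ya11 za25) (ka xa8 ya23 za5) (ka xa8 ya23 za6) (ka xa8 ya23 za7) (ka xa8 ya23 za8) (ka xa8 ya23 za9) (ka xa8 ya23 za10) (ka xa8 ya23 za11) (ka xa10 ya11 za50) (ka xa8 ya23 za13) (ka xa8 ya23 za14) (ka xa7 ya25 za29) (ka xa8 ya11 za16) (ka xa7 ya21 za14) (ka xa8 ya11 za17) (ka xa7 ya21 za16) (ka xa7 ya21 za17) (ka xa7 ya10 za42) (ka xa7 ya10 za43) (ka xa7 ya10 za44) (ka xa7 ya10 za45) (ka xa7 ya10 za46) (ka xa7 ya10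 za47) (ka xa7 ya10 za48) (ka xa7 ya10 za49) (ka xa7 ya10 za50) (ka xa7 ya11 za0) (ka xa7 ya11 za1) (ka xa7 ya11 za2) (ka xa7 ya11 za5) (ka xa7 ya11 za6) (ka xa7 ya11 za7) (ka xa7 ya11 za8) (ka xa7 ya11 za9) (ka xa7 ya11 za10) (ka xa7 ya11 za11) (ka xa7 ya11 za12) (ka xa7 ya11 za13) (ka xa10 ya12 za11) (ka xa10 ya12 za12) (ka xa10 ya12 za13) (ka xa10 ya12 za14) (ka xa10 ya12 za15) (ka xa10 ya12 za16) (ka xa10 ya12 za17) (ka xa10 ya12 za18) (ka xa10 ya12 za19)) (@D3.rec (fun _ => Pt) (ka xa10 ya12 za20) (ka xa10 ya12 za21) (ka xa10 ya12 za22) (ka xa10 ya12 za23) (ka xa10 ya11 za35) (ka xa10 ya12 za24) (ka xa10 ya12 za25) (ka xa10 ya12 za26) (ka xa10 ya3 za17) (ka xa10 ya12 za27) (ka xa10 ya12 za28) (ka xa8 ya8 za48) (ka xa10 ya3 za18) (ka xa10 ya3 za20) (ka xa10 ya12 za29) (ka xa10 ya12 za30) (ka xa10 ya12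 za31) (ka xa10 ya12 za32) (ka xa10 ya11 za26) (ka xa10 ya12 za33) (ka xa10 ya12 za34) (ka xa10 ya12 za35) (ka xa10 ya13 za31) (ka xa10 ya12 za37) (ka xa10 ya12 za38) (ka xa8 ya24 za25) (ka xa8 ya24 za26) (ka xa8 ya24 za27) (ka xa8 ya24 za28) (ka xa8 ya24 za29) (ka xa8 ya24 za30) (ka xa8 ya24 za31) (ka xa8 ya24 za32) (ka xa10 ya13 za45) (ka xa8 ya24 za34) (ka xa8 ya24 za35) (ka xa7 ya11 za22) (ka xa10 ya13 za48) (ka xa8 ya24 za38) (ka xa7 ya19 za18) (ka xa10 ya3 za10) (ka xa7 ya21 za26) (ka xa10 ya3 za11) (ka xa10 ya3 za12) (ka xa10 ya3 za13) (ka xa10 ya3 za14) (ka xa10 ya3 za15) (ka xa8 ya8 za21) (ka xa10 ya3 za16) (ka xa7 ya12 za1) (ka xa7 ya12 za2)) (@D3.rec (fun _ => Pt) (ka xa7 ya12 za3) (ka xa7 ya12 za4) (ka xa7 ya12 za5) (ka xa7 ya12 za6) (ka xa7 ya12 za7) (ka xa7 ya12 za8) (ka xa7 ya12 za9) (ka xa7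 ya12 za10) (ka xa7 ya12 za11) (ka xa7 ya12 za12) (ka xa7 ya12 za13) (ka xa7 ya12 za14) (ka xa7 ya12 za15) (ka xa7 ya12 za16) (ka xa7 ya12 za17) (ka xa7 ya12 za19) (ka xa7 ya12 za20) (ka xa7 ya12 za24) (ka xa7 ya12 za25) (ka xa7 ya12 za26) (ka xa7 ya12 za27) (ka xa7 ya12 za28) (ka xa7 ya12 za29) (ka xa7 ya12 za30) (ka xa7 ya12 za31) (ka xa10 ya15 za3) (ka xa7 ya12 za33) (ka xa7 ya12 za34) (ka xa10 ya14 za14) (ka xa10 ya14 za15) (ka xa10 ya14 za16) (ka xa10 ya14 za17) (ka xa10 ya14 za18) (ka xa10 ya14 za19) (ka xa10 ya14 za20) (ka xa10 ya14 za21) (ka xa10 ya14 za22) (ka xa10 ya14 za23) (ka xa10 ya14 za24) (ka xa10 ya14 za25) (ka xa10 ya14 za26) (ka xa10 ya14 za27) (ka xa10 ya14 za28) (ka xa10 ya14 za29) (ka xa10 ya14 za30) (ka xa10 ya14 za31) (ka xa10 ya15 za38) (ka xa10 ya14 za33) (ka xa10 ya14 za34) (ka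 xa10 ya2 za35) (ka xa10 ya14 za35)) (@D3.rec (fun _ => Pt) (ka xa10 ya14 za36) (ka xa10 ya14 za37) (ka xa10 ya14 za38) (ka xa10 ya14 za39) (ka xa10 ya14 za40) (ka xa10 ya14 za41) (ka xa10 ya2 za39) (ka xa10 ya2 za41) (ka xa10 ya14 za42) (ka xa10 ya2 za37) (ka xa10 ya2 za40) (ka xa10 ya2 za42) (ka xa10 ya14 za43) (ka xa10 ya14 za44) (ka xa10 ya14 za45) (ka xa10 ya14 za46) (ka xa10 ya14 za47) (ka xa10 ya14 za48) (ka xa10 ya14 za49) (ka xa10 ya14 za50) (ka xa10 ya16 za19) (ka xa10 ya15 za1) (ka xa10 ya15 za2) (ka xa7 ya12 za32) (ka xa10 ya16 za22) (ka xa10 ya15 za5) (ka xa8 ya26 za26) (ka xa8 ya26 za27) (ka xa8 ya26 za28) (ka xa10 ya16 za27) (ka xa8 ya26 za30) (ka xa8 ya26 za31) (ka xa8 ya26 za32) (ka xa8 ya26 za33) (ka xa8 ya26 za34) (ka xa7 ya12 za42) (ka xa10 ya16 za33) (ka xa8 ya26 za37) (ka xa7 ya12 za46)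 (ka xa10 ya16 za35) (ka xa8 ya26 za40) (ka xa8 ya26 za41) (ka xa8 ya26 za42) (ka xa8 ya26 za43) (ka xa7 ya13 za10) (ka xa7 ya13 za11) (ka xa7 ya13 za12) (ka xa7 ya13 za13) (ka xa7 ya13 za16) (ka xa7 ya13 za20) (ka xa8 ya12 za27))
def f_a_9 : D2 → D3 → Pt := @D2.rec (fun _ => D3 → Pt) (@D3.rec (fun _ => Pt) (ka xa7 ya17 za25) (ka xa8 ya12 za4) (ka xa10 ya11 za33) (ka xa10 ya11 za34) (ka xa10 ya16 za39) (ka xa10 ya16 za40) (ka xa8 ya6 za16) (ka xa10 ya16 za41) (ka xa10 ya16 za42) (ka xa8 ya9 za6) (ka xa10 ya5 za47) (ka xa10 ya5 za50) (ka xa8 ya12 za25) (ka xa8 ya12 za26) (ka xa9 ya0 za14) (ka xa9 ya0 za15) (ka xa9 ya0 za16) (ka xa9 ya0 za17) (ka xa9 ya0 za18) (ka xa8 ya11 za31) (ka xa8 ya11 za33) (ka xa8 ya11 za34) (ka xa7 ya23 za47) (ka xa7 ya23 za40) (ka xa7 ya23 za48) (ka xa7 ya23 za49) (ka xa7 ya23 za50)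 (ka xa7 ya14 za5) (ka xa7 ya14 za6) (ka xa7 ya14 za7) (ka xa7 ya14 za8) (ka xa7 ya14 za9) (ka xa7 ya14 za11) (ka xa7 ya14 za12) (ka xa7 ya14 za13) (ka xa7 ya14 za14) (ka xa7 ya14 za15) (ka xa7 ya14 za16) (ka xa7 ya14 za18) (ka xa7 ya14 za19) (ka xa7 ya14 za23) (ka xa7 ya14 za24) (ka xa7 ya14 za26) (ka xa7 ya14 za28) (ka xa8 ya5 za48) (ka xa8 ya5 za45) (ka xa8 ya2 za44) (ka xa8 ya2 za47) (ka xa8 ya2 za29) (ka xa8 ya2 za50) (ka xa8 ya2 za33)) (@D3.rec (fun _ => Pt) (ka xa8 ya2 za34) (ka xa10 ya17 za12) (ka xa10 ya17 za13) (ka xa10 ya17 za14) (ka xa10 ya17 za15) (ka xa10 ya17 za16) (ka xa10 ya17 za17) (ka xa8 ya2 za19) (ka xa10 ya17 za18) (ka xa10 ya17 za19) (ka xa7 ya23 za26) (ka xa8 ya2 za21) (ka xa8 ya2 za22) (ka xa10 ya5 za42) (ka xa10 ya17 za20) (ka xa10 ya17 za21) (ka xa10 ya17 za22) (ka xa10 ya17 za23)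 (ka xa10 ya17 za24) (ka xa10 ya17 za25) (ka xa10 ya17 za26) (ka xa10 ya5 za45) (ka xa10 ya5 za48) (ka xa10 ya17 za27) (ka xa8 ya8 za43) (ka xa10 ya5 za46) (ka xa10 ya5 za49) (ka xa10 ya17 za28) (ka xa8 ya5 za41) (ka xa10 ya17 za29) (ka xa8 ya2 za17) (ka xa8 ya5 za39) (ka xa8 ya5 za42) (ka xa8 ya2 za18) (ka xa8 ya5 za43) (ka xa8 ya11 za29) (ka xa8 ya2 za20) (ka xa8 ya11 za32) (ka xa9 ya1 za38) (ka xa9 ya1 za39) (ka xa9 ya1 za40) (ka xa9 ya1 za41) (ka xa9 ya1 za42) (ka xa8 ya6 za29) (ka xa9 ya1 za44) (ka xa9 ya1 za45) (ka xa9 ya1 za46) (ka xa9 ya1 za47) (ka xa9 ya1 za48) (ka xa9 ya1 za49) (ka xa8 ya12 za36)) (@D3.rec (fun _ => Pt) (ka xa9 ya2 za0) (ka xa7 ya14 za45) (ka xa10 ya16 za43) (ka xa9 ya2 za3) (ka xa10 ya5 za31) (ka xa10 ya5 za32) (ka xa10 ya5 za33) (ka xa10 ya5 za34) (ka xa10 ya5 za35) (ka xa10 ya5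 za36) (ka xa10 ya5 za37) (ka xa10 ya5 za38) (ka xa10 ya5 za39) (ka xa10 ya5 za40) (ka xa10 ya5 za41) (ka xa10 ya5 za43) (ka xa10 ya5 za44) (ka xa7 ya15 za34) (ka xa7 ya15 za35) (ka xa7 ya15 za36) (ka xa7 ya15 za37) (ka xa7 ya15 za38) (ka xa7 ya15 za39) (ka xa7 ya15 za41) (ka xa7 ya15 za42) (ka xa7 ya15 za43) (ka xa7 ya15 za44) (ka xa7 ya15 za45) (ka xa7 ya15 za46) (ka xa7 ya15 za47) (ka xa7 ya15 za48) (ka xa7 ya15 za49) (ka xa7 ya15 za50) (ka xa7 ya16 za0) (ka xa10 ya6 za50) (ka xa7 ya16 za2) (ka xa7 ya16 za3) (ka xa7 ya16 za5) (ka xa7 ya16 za6) (ka xa7 ya16 za7) (ka xa7 ya16 za8) (ka xa7 ya16 za9) (ka xa7 ya16 za10) (ka xa7 ya16 za11) (ka xa7 ya16 za14) (ka xa7 ya16 za18) (ka xa7 ya16 za19) (ka xa7 ya16 za20) (ka xa7 ya16 za21) (ka xa7 ya16 za22) (ka xa7 ya16 za23)) (@D3.rec (fun _ => Pt) (ka xa7 ya16 za24)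 (ka xa7 ya16 za25) (ka xa10 ya20 za4) (ka xa7 ya16 za27) (ka xa7 ya15 za32) (ka xa10 ya20 za6) (ka xa10 ya19 za8) (ka xa10 ya19 za9) (ka xa10 ya19 za10) (ka xa10 ya19 za11) (ka xa10 ya19 za12) (ka xa10 ya19 za13) (ka xa10 ya19 za14) (ka xa10 ya19 za15) (ka xa8 ya7 za11) (ka xa10 ya19 za16) (ka xa10 ya19 za17) (ka xa10 ya7 za20) (ka xa8 ya7 za14) (ka xa8 ya5 za20) (ka xa10 ya4 za31) (ka xa10 ya19 za18) (ka xa10 ya19 za19) (ka xa10 ya19 za20) (ka xa10 ya19 za21) (ka xa10 ya19 za22) (ka xa10 ya19 za23) (ka xa10 ya19 za24) (ka xa10 ya19 za25) (ka xa10 ya19 za26) (ka xa10 ya19 za27) (ka xa10 ya19 za28) (ka xa10 ya20 za50) (ka xa10 ya19 za30) (ka xa10 ya19 za31) (ka xa10 ya19 za32) (ka xa10 ya19 za33) (ka xa10 ya19 za34) (ka xa7 ya16 za1) (ka xa10 ya6 za49) (ka xa10 ya21 za8) (ka xa10 ya4 za43) (ka xa10 ya19 za36)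 (ka xa10 ya19 za37) (ka xa10 ya4 za40) (ka xa10 ya4 za45) (ka xa10 ya19 za38) (ka xa10 ya19 za39) (ka xa10 ya19 za40) (ka xa10 ya19 za41) (ka xa10 ya4 za49)) (@D3.rec (fun _ => Pt) (ka xa10 ya19 za42) (ka xa10 ya19 za43) (ka xa10 ya4 za47) (ka xa10 ya4 za50) (ka xa10 ya5 za1) (ka xa10 ya19 za44) (ka xa10 ya4 za48) (ka xa10 ya5 za0) (ka xa10 ya19 za45) (ka xa10 ya19 za46) (ka xa10 ya19 za47) (ka xa10 ya19 za48) (ka xa10 ya19 za49) (ka xa10 ya21 za40) (ka xa10 ya20 za0) (ka xa10 ya20 za1) (ka xa10 ya20 za2) (ka xa8 ya6 za37) (ka xa10 ya21 za47) (ka xa10 ya20 za3) (ka xa8 ya6 za39) (ka xa7 ya16 za26) (ka xa10 ya21 za50) (ka xa8 ya6 za41) (ka xa7 ya16 za30) (ka xa10 ya22 za2) (ka xa8 ya4 za18) (ka xa9 ya4 za27) (ka xa9 ya4 za28) (ka xa9 ya4 za29) (ka xa10 ya22 za9) (ka xa9 ya4 za31) (ka xa9 ya4 za32) (ka xa9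 ya4 za33) (ka xa9 ya4 za34) (ka xa7 ya16 za37) (ka xa10 ya22 za12) (ka xa10 ya22 za13) (ka xa9 ya4 za38) (ka xa9 ya4 za39) (ka xa9 ya4 za40) (ka xa9 ya4 za41) (ka xa7 ya16 za42) (ka xa10 ya22 za20) (ka xa9 ya4 za44) (ka xa7 ya16 za46) (ka xa10 ya22 za23) (ka xa9 ya4 za47) (ka xa7 ya16 za49) (ka xa10 ya1 za1) (ka xa9 ya4 za50)) (@D3.rec (fun _ => Pt) (ka xa8 ya5 za46) (ka xa8 ya2 za45) (ka xa8 ya5 za44) (ka xa8 ya2 za42) (ka xa8 ya2 za46) (ka xa8 ya2 za48) (ka xa8 ya5 za40) (ka xa8 ya2 za16) (ka xa8 ya5 za38) (ka xa8 ya4 za5) (ka xa8 ya2 za15) (ka xa8 ya12 za21) (ka xa9 ya5 za12) (ka xa7 ya17 za40) (ka xa7 ya17 za41) (ka xa7 ya17 za42) (ka xa7 ya17 za43) (ka xa7 ya17 za45) (ka xa7 ya17 za47) (ka xa7 ya18 za8) (ka xa7 ya18 za10) (ka xa7 ya18 za11) (ka xa10 ya22 za39) (ka xa7 ya18 za14) (ka xa7 ya17 za38) (ka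 xa8 ya6 za3) (ka xa10 ya22 za32) (ka xa10 ya22 za33) (ka xa10 ya22 za34) (ka xa10 ya22 za14) (ka xa8 ya5 za27) (ka xa10 ya22 za35) (ka xa8 ya7 za6) (ka xa8 ya5 za22) (ka xa8 ya5 za11) (ka xa8 ya7 za8) (ka xa8 ya5 za14) (ka xa10 ya23 za6) (ka xa8 ya5 za17) (ka xa7 ya17 za50) (ka xa10 ya23 za8) (ka xa7 ya18 za33) (ka xa8 ya7 za3) (ka xa10 ya23 za11) (ka xa8 ya7 za1) (ka xa8 ya11 za2) (ka xa7 ya18 za6) (ka xa10 ya22 za36) (ka xa10 ya22 za37) (ka xa8 ya6 za44) (ka xa10 ya23 za17)) (@D3.rec (fun _ => Pt) (ka xa10 ya22 za38) (ka xa8 ya6 za45) (ka xa8 ya6 za46) (ka xa8 ya6 za33) (ka xa7 ya18 za13) (ka xa10 ya23 za9) (ka xa10 ya23 za20) (ka xa10 ya22 za41) (ka xa8 ya6 za48) (ka xa8 ya6 za35) (ka xa8 ya6 za36) (ka xa7 ya18 za18) (ka xa10 ya23 za27) (ka xa8 ya6 za38) (ka xa7 ya18 za22) (ka xa10 ya23 za30) (ka xa8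 ya4 za13) (ka xa7 ya18 za25) (ka xa10 ya7 za22) (ka xa8 ya4 za17) (ka xa7 ya18 za30) (ka xa7 ya18 za34) (ka xa10 ya23 za33) (ka xa9 ya6 za23) (ka xa9 ya6 za24) (ka xa7 ya18 za38) (ka xa10 ya23 za35) (ka xa9 ya6 za27) (ka xa7 ya18 za41) (ka xa10 ya1 za0) (ka xa9 ya6 za30) (ka xa7 ya20 za1) (ka xa7 ya19 za6) (ka xa8 ya12 za44) (ka xa10 ya1 za26) (ka xa10 ya1 za32) (ka xa8 ya12 za47) (ka xa10 ya1 za31) (ka xa10 ya1 za24) (ka xa10 ya1 za25) (ka xa10 ya14 za0) (ka xa7 ya19 za43) (ka xa7 ya25 za35) (ka xa7 ya25 za40) (ka xa7 ya25 za38) (ka xa7 ya25 za3) (ka xa7 ya25 za4) (ka xa7 ya19 za44) (ka xa7 ya19 za45) (ka xa7 ya19 za46) (ka xa7 ya19 za47)) (@D3.rec (fun _ => Pt) (ka xa7 ya19 za48) (ka xa7 ya20 za0) (ka xa7 ya20 za2) (ka xa7 ya20 za3) (ka xa7 ya20 za5) (ka xa7 ya20 za6) (ka xa10 ya2 za14) (ka xa10 ya2 za23)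 (ka xa10 ya1 za34) (ka xa10 ya23 za38) (ka xa10 ya23 za39) (ka xa10 ya2 za10) (ka xa10 ya23 za43) (ka xa10 ya23 za44) (ka xa10 ya8 za45) (ka xa10 ya23 za45) (ka xa10 ya8 za47) (ka xa10 ya8 za48) (ka xa10 ya23 za46) (ka xa10 ya23 za37) (ka xa10 ya2 za9) (ka xa10 ya23 za47) (ka xa10 ya10 za0) (ka xa10 ya2 za11) (ka xa7 ya20 za10) (ka xa10 ya24 za14) (ka xa7 ya21 za3) (ka xa7 ya21 za5) (ka xa8 ya0 za47) (ka xa8 ya11 za43) (ka xa7 ya20 za50) (ka xa8 ya1 za14) (ka xa8 ya1 za5) (ka xa8 ya1 za15) (ka xa8 ya1 za8) (ka xa8 ya1 za11) (ka xa8 ya1 za13) (ka xa8 ya8 za39) (ka xa8 ya8 za31) (ka xa8 ya8 za35) (ka xa8 ya0 za17) (ka xa7 ya26 za47) (ka xa7 ya26 za43) (ka xa7 ya26 za49) (ka xa7 ya26 za48) (ka xa7 ya21 za4) (ka xa7 ya21 za6) (ka xa7 ya21 za7) (ka xa7 ya21 za9) (ka xa7 ya21 za10) (ka xa7 ya21 za11)) (@D3.rec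 (fun _ => Pt) (ka xa7 ya21 za12) (ka xa7 ya21 za13) (ka xa7 ya21 za15) (ka xa7 ya21 za18) (ka xa7 ya21 za19) (ka xa7 ya21 za20) (ka xa7 ya21 za21) (ka xa7 ya21 za22) (ka xa7 ya21 za23) (ka xa7 ya21 za25) (ka xa7 ya21 za28) (ka xa10 ya4 za19) (ka xa10 ya4 za0) (ka xa10 ya4 za21) (ka xa10 ya4 za4) (ka xa10 ya4 za5) (ka xa10 ya2 za24) (ka xa10 ya24 za15) (ka xa10 ya24 za30) (ka xa10 ya24 za31) (ka xa10 ya24 za16) (ka xa10 ya24 za17) (ka xa10 ya3 za41) (ka xa10 ya24 za32) (ka xa10 ya24 za33) (ka xa10 ya14 za4) (ka xa10 ya3 za43) (ka xa10 ya3 za44) (ka xa10 ya12 za7) (ka xa10 ya24 za34) (ka xa10 ya24 za35) (ka xa10 ya24 za36) (ka xa10 ya24 za37) (ka xa10 ya12 za6) (ka xa10 ya12 za8) (ka xa10 ya12 za9) (ka xa10 ya12 za10) (ka xa10 ya24 za38) (ka xa10 ya24 za39) (ka xa10 ya24 za40) (ka xa10 ya3 za39) (ka xa8 ya10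 za34) (ka xa10 ya24 za41) (ka xa10 ya3 za40) (ka xa10 ya24 za42) (ka xa10 ya14 za3) (ka xa10 ya3 za42) (ka xa10 ya24 za43) (ka xa10 ya14 za5) (ka xa10 ya2 za28) (ka xa9 ya8 za50)) (@D3.rec (fun _ => Pt) (ka xa9 ya9 za0) (ka xa10 ya25 za39) (ka xa9 ya9 za2) (ka xa9 ya9 za3) (ka xa10 ya25 za41) (ka xa9 ya9 za5) (ka xa7 ya21 za37) (ka xa10 ya25 za43) (ka xa9 ya9 za8) (ka xa7 ya21 za41) (ka xa10 ya25 za45) (ka xa9 ya9 za11) (ka xa10 ya25 za48) (ka xa9 ya9 za13) (ka xa9 ya9 za14) (ka xa7 ya21 za45) (ka xa10 ya26 za0) (ka xa9 ya9 za17) (ka xa7 ya23 za20) (ka xa7 ya23 za19) (ka xa8 ya12 za10) (ka xa8 ya11 za26) (ka xa8 ya4 za14) (ka xa8 ya12 za11) (ka xa8 ya4 za20) (ka xa8 ya12 za16) (ka xa8 ya4 za46) (ka xa8 ya4 za34) (ka xa8 ya4 za49) (ka xa8 ya4 za29) (ka xa8 ya4 za47) (ka xa8 ya4 za32) (ka xa8 ya4 za35) (ka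 xa10 ya26 za21) (ka xa8 ya4 za41) (ka xa8 ya4 za45) (ka xa8 ya10 za35) (ka xa8 ya10 za16) (ka xa8 ya10 za20) (ka xa8 ya10 za8) (ka xa8 ya10 za11) (ka xa10 ya26 za30) (ka xa8 ya10 za17) (ka xa8 ya10 za21) (ka xa7 ya22 za18) (ka xa10 ya26 za33) (ka xa8 ya10 za29) (ka xa10 ya26 za36) (ka xa9 ya9 za48) (ka xa9 ya9 za49) (ka xa10 ya26 za39)) (@D3.rec (fun _ => Pt) (ka xa9 ya10 za0) (ka xa9 ya10 za1) (ka xa7 ya22 za26) (ka xa10 ya26 za42) (ka xa9 ya10 za4) (ka xa7 ya22 za30) (ka xa10 ya26 za45) (ka xa9 ya10 za7) (ka xa8 ya3 za21) (ka xa8 ya3 za23) (ka xa8 ya3 za24) (ka xa8 ya3 za25) (ka xa8 ya2 za39) (ka xa8 ya2 za37) (ka xa8 ya2 za30) (ka xa8 ya2 za40) (ka xa8 ya2 za35) (ka xa8 ya2 za38) (ka xa7 ya23 za21) (ka xa7 ya23 za22) (ka xa7 ya23 za23) (ka xa7 ya23 za24) (ka xa7 ya23 za25) (ka xa7 ya23 za27) (ka xa7 ya23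 za28) (ka xa7 ya23 za29) (ka xa7 ya23 za30) (ka xa7 ya23 za31) (ka xa7 ya23 za32) (ka xa7 ya23 za33) (ka xa7 ya23 za34) (ka xa7 ya23 za35) (ka xa7 ya23 za36) (ka xa10 ya20 za27) (ka xa7 ya23 za38) (ka xa7 ya23 za39) (ka xa7 ya23 za41) (ka xa7 ya23 za42) (ka xa7 ya23 za43) (ka xa7 ya23 za44) (ka xa7 ya23 za45) (ka xa7 ya23 za46) (ka xa7 ya24 za0) (ka xa7 ya24 za1) (ka xa7 ya24 za2) (ka xa7 ya24 za3) (ka xa7 ya24 za4) (ka xa7 ya24 za5) (ka xa7 ya24 za6) (ka xa7 ya24 za7) (ka xa11 ya0 za49)) (@D3.rec (fun _ => Pt) (ka xa7 ya24 za9) (ka xa7 ya24 za10) (ka xa7 ya23 za16) (ka xa11 ya1 za1) (ka xa7 ya24 za13) (ka xa10 ya26 za4) (ka xa10 ya4 za24) (ka xa10 ya26 za3) (ka xa11 ya0 za6) (ka xa11 ya0 za7) (ka xa11 ya0 za8) (ka xa11 ya0 za9) (ka xa11 ya0 za10) (ka xa10 ya18 za0) (ka xa11 ya0 za11) (ka xa10 ya21 za9)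 (ka xa10 ya4 za42) (ka xa11 ya0 za12) (ka xa8 ya2 za32) (ka xa10 ya18 za6) (ka xa11 ya0 za13) (ka xa11 ya0 za14) (ka xa11 ya0 za15) (ka xa11 ya0 za16) (ka xa11 ya0 za17) (ka xa11 ya0 za18) (ka xa11 ya0 za19) (ka xa11 ya0 za20) (ka xa11 ya0 za21) (ka xa11 ya0 za22) (ka xa11 ya1 za44) (ka xa11 ya0 za24) (ka xa11 ya0 za25) (ka xa11 ya0 za26) (ka xa11 ya0 za27) (ka xa11 ya0 za28) (ka xa7 ya23 za37) (ka xa11 ya2 za2) (ka xa11 ya2 za3) (ka xa10 ya17 za9) (ka xa11 ya0 za30) (ka xa11 ya0 za31) (ka xa10 ya17 za7) (ka xa10 ya17 za10) (ka xa11 ya0 za32) (ka xa11 ya0 za33) (ka xa11 ya0 za34) (ka xa10 ya17 za5) (ka xa11 ya0 za35) (ka xa10 ya17 za6) (ka xa10 ya17 za8)) (@D3.rec (fun _ => Pt) (ka xa10 ya17 za11) (ka xa11 ya0 za36) (ka xa11 ya0 za37) (ka xa11 ya0 za38) (ka xa11 ya0 za39) (ka xa11 ya0 za40) (ka xa11 ya2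 za25) (ka xa11 ya0 za42) (ka xa11 ya0 za43) (ka xa11 ya0 za44) (ka xa11 ya0 za45) (ka xa11 ya2 za32) (ka xa11 ya0 za47) (ka xa11 ya0 za48) (ka xa7 ya24 za8) (ka xa11 ya2 za35) (ka xa11 ya1 za0) (ka xa7 ya24 za12) (ka xa11 ya2 za38) (ka xa11 ya1 za3) (ka xa9 ya12 za20) (ka xa10 ya22 za46) (ka xa9 ya12 za22) (ka xa9 ya12 za23) (ka xa9 ya12 za24) (ka xa9 ya12 za25) (ka xa7 ya24 za19) (ka xa10 ya22 za43) (ka xa11 ya2 za46) (ka xa9 ya12 za29) (ka xa9 ya12 za30) (ka xa9 ya12 za31) (ka xa9 ya12 za32) (ka xa7 ya24 za24) (ka xa11 ya3 za1) (ka xa9 ya12 za35) (ka xa7 ya24 za28) (ka xa11 ya3 za3) (ka xa9 ya12 za38) (ka xa7 ya24 za31) (ka xa10 ya1 za2) (ka xa9 ya12 za41) (ka xa7 ya24 za46) (ka xa7 ya24 za48) (ka xa7 ya24 za49) (ka xa7 ya24 za50) (ka xa7 ya25 za2) (ka xa7 ya25 za5) (ka xa7 ya25 za6) (ka xa7 ya25 za7)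 (ka xa7 ya25 za8)) (@D3.rec (fun _ => Pt) (ka xa11 ya3 za5) (ka xa11 ya3 za6) (ka xa11 ya3 za7) (ka xa11 ya3 za8) (ka xa11 ya3 za9) (ka xa10 ya23 za41) (ka xa11 ya3 za10) (ka xa8 ya11 za40) (ka xa8 ya11 za35) (ka xa10 ya23 za42) (ka xa11 ya3 za12) (ka xa11 ya3 za13) (ka xa7 ya25 za27) (ka xa7 ya25 za28) (ka xa7 ya25 za30) (ka xa7 ya25 za31) (ka xa7 ya25 za32) (ka xa7 ya25 za33) (ka xa7 ya25 za34) (ka xa7 ya25 za36) (ka xa7 ya25 za37) (ka xa7 ya25 za43) (ka xa7 ya25 za44) (ka xa7 ya25 za45) (ka xa7 ya25 za46) (ka xa7 ya25 za48) (ka xa7 ya25 za50) (ka xa7 ya26 za1) (ka xa7 ya26 za2) (ka xa11 ya3 za22) (ka xa11 ya3 za23) (ka xa10 ya12 za2) (ka xa10 ya12 za3) (ka xa11 ya3 za24) (ka xa11 ya3 za25) (ka xa11 ya3 za26) (ka xa10 ya2 za15) (ka xa11 ya3 za27) (ka xa11 ya3 za44) (ka xa10 ya2 za12) (ka xa11 ya3 za28)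 (ka xa10 ya1 za38) (ka xa10 ya23 za40) (ka xa11 ya3 za29) (ka xa10 ya1 za37) (ka xa10 ya1 za39) (ka xa10 ya1 za40) (ka xa10 ya1 za42) (ka xa11 ya3 za30) (ka xa10 ya0 za34) (ka xa10 ya2 za17)) (@D3.rec (fun _ => Pt) (ka xa10 ya0 za28) (ka xa11 ya3 za31) (ka xa10 ya0 za35) (ka xa10 ya9 za32) (ka xa10 ya2 za18) (ka xa11 ya3 za32) (ka xa7 ya26 za0) (ka xa11 ya4 za9) (ka xa11 ya3 za33) (ka xa9 ya14 za9) (ka xa9 ya14 za10) (ka xa9 ya14 za11) (ka xa10 ya11 za28) (ka xa9 ya14 za13) (ka xa7 ya26 za9) (ka xa11 ya4 za14) (ka xa9 ya14 za16) (ka xa7 ya26 za13) (ka xa11 ya4 za16) (ka xa8 ya0 za42) (ka xa7 ya26 za33) (ka xa7 ya26 za34) (ka xa7 ya26 za35) (ka xa7 ya26 za36) (ka xa7 ya26 za37) (ka xa7 ya26 za38) (ka xa7 ya26 za39) (ka xa7 ya26 za40) (ka xa7 ya26 za41) (ka xa7 ya26 za42) (ka xa7 ya26 za44) (ka xa7 ya26 za46)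 (ka xa7 ya26 za50) (ka xa8 ya0 za0) (ka xa8 ya0 za1) (ka xa8 ya0 za2) (ka xa8 ya0 za3) (ka xa8 ya0 za4) (ka xa8 ya0 za5) (ka xa11 ya4 za36) (ka xa8 ya0 za7) (ka xa8 ya0 za8) (ka xa11 ya4 za17) (ka xa11 ya4 za18) (ka xa11 ya4 za19) (ka xa10 ya15 za39) (ka xa10 ya4 za3) (ka xa11 ya4 za20) (ka xa10 ya14 za1) (ka xa11 ya4 za21) (ka xa11 ya4 za22)) (@D3.rec (fun _ => Pt) (ka xa11 ya4 za23) (ka xa11 ya4 za24) (ka xa11 ya4 za25) (ka xa11 ya4 za26) (ka xa10 ya24 za27) (ka xa11 ya4 za27) (ka xa11 ya5 za7) (ka xa10 ya15 za17) (ka xa11 ya4 za28) (ka xa10 ya24 za29) (ka xa11 ya4 za29) (ka xa8 ya11 za39) (ka xa10 ya24 za26) (ka xa10 ya24 za28) (ka xa11 ya4 za30) (ka xa11 ya4 za31) (ka xa10 ya22 za28) (ka xa11 ya4 za32) (ka xa11 ya4 za34) (ka xa11 ya4 za35) (ka xa8 ya0 za6) (ka xa11 ya5 za19) (ka xa11 ya4 za38) (ka xa9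 ya15 za23) (ka xa9 ya15 za24) (ka xa8 ya0 za14) (ka xa11 ya5 za23) (ka xa9 ya15 za27) (ka xa10 ya4 za22) (ka xa8 ya0 za41) (ka xa8 ya0 za43) (ka xa8 ya0 za44) (ka xa8 ya0 za45) (ka xa8 ya0 za46) (ka xa8 ya0 za48) (ka xa8 ya0 za49) (ka xa8 ya0 za50) (ka xa8 ya1 za0) (ka xa8 ya1 za1) (ka xa8 ya1 za2) (ka xa8 ya1 za3) (ka xa8 ya1 za4) (ka xa8 ya1 za6) (ka xa11 ya5 za42) (ka xa8 ya1 za9) (ka xa8 ya1 za12) (ka xa8 ya1 za20) (ka xa8 ya1 za21) (ka xa8 ya1 za22) (ka xa8 ya1 za23) (ka xa8 ya1 za24)) (@D3.rec (fun _ => Pt) (ka xa8 ya1 za25) (ka xa8 ya1 za27) (ka xa8 ya1 za29) (ka xa8 ya1 za30) (ka xa8 ya0 za38) (ka xa11 ya6 za2) (ka xa8 ya1 za33) (ka xa10 ya12 za4) (ka xa11 ya5 za26) (ka xa11 ya5 za27) (ka xa11 ya5 za28) (ka xa11 ya5 za29) (ka xa10 ya14 za11) (ka xa10 ya24 za18) (ka xa11 ya5 za31) (ka xa10 ya2 za27)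 (ka xa10 ya24 za19) (ka xa11 ya5 za32) (ka xa11 ya5 za33) (ka xa11 ya5 za34) (ka xa11 ya5 za35) (ka xa11 ya5 za36) (ka xa11 ya5 za37) (ka xa11 ya5 za38) (ka xa10 ya4 za1) (ka xa11 ya5 za39) (ka xa11 ya6 za32) (ka xa10 ya3 za49) (ka xa11 ya5 za40) (ka xa10 ya24 za20) (ka xa10 ya24 za22) (ka xa11 ya5 za41) (ka xa8 ya1 za7) (ka xa11 ya6 za41) (ka xa11 ya6 za42) (ka xa10 ya2 za34) (ka xa10 ya24 za23) (ka xa11 ya5 za44) (ka xa10 ya2 za32) (ka xa10 ya2 za36) (ka xa10 ya24 za24) (ka xa10 ya2 za30) (ka xa10 ya24 za21) (ka xa10 ya2 za31) (ka xa10 ya2 za33) (ka xa10 ya2 za38) (ka xa11 ya5 za45) (ka xa11 ya5 za46) (ka xa10 ya4 za9) (ka xa10 ya0 za48) (ka xa11 ya5 za47)) (@D3.rec (fun _ => Pt) (ka xa11 ya7 za11) (ka xa10 ya7 za28) (ka xa11 ya5 za48) (ka xa11 ya5 za49) (ka xa11 ya5 za50) (ka xa10 ya13 za16) (ka xa10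 ya4 za10) (ka xa11 ya6 za0) (ka xa8 ya1 za28) (ka xa11 ya7 za20) (ka xa11 ya6 za1) (ka xa8 ya1 za32) (ka xa11 ya7 za23) (ka xa11 ya6 za4) (ka xa9 ya17 za14) (ka xa11 ya7 za27) (ka xa9 ya17 za16) (ka xa9 ya17 za17) (ka xa9 ya17 za18) (ka xa9 ya17 za19) (ka xa8 ya1 za39) (ka xa11 ya7 za32) (ka xa11 ya7 za33) (ka xa9 ya17 za23) (ka xa9 ya17 za24) (ka xa9 ya17 za25) (ka xa9 ya17 za26) (ka xa8 ya1 za44) (ka xa11 ya7 za39) (ka xa9 ya17 za29) (ka xa8 ya1 za48) (ka xa11 ya7 za41) (ka xa9 ya17 za32) (ka xa8 ya2 za0) (ka xa11 ya7 za44) (ka xa9 ya17 za35) (ka xa8 ya2 za23) (ka xa8 ya2 za24) (ka xa8 ya2 za25) (ka xa8 ya2 za26) (ka xa8 ya2 za27) (ka xa8 ya2 za28) (ka xa8 ya2 za31) (ka xa8 ya2 za36) (ka xa8 ya2 za41) (ka xa8 ya2 za43) (ka xa10 ya18 za30) (ka xa10 ya18 za42) (ka xa10 ya18 za26) (ka xa10 ya17 za45) (ka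 xa10 ya18 za31)) (@D3.rec (fun _ => Pt) (ka xa10 ya17 za48) (ka xa10 ya18 za33) (ka xa10 ya18 za1) (ka xa10 ya18 za2) (ka xa10 ya18 za7) (ka xa10 ya18 za8) (ka xa11 ya7 za48) (ka xa11 ya7 za49) (ka xa11 ya7 za50) (ka xa10 ya17 za34) (ka xa11 ya8 za0) (ka xa11 ya8 za1) (ka xa10 ya17 za36) (ka xa11 ya0 za2) (ka xa11 ya8 za2) (ka xa11 ya1 za24) (ka xa10 ya17 za38) (ka xa10 ya17 za39) (ka xa11 ya0 za0) (ka xa11 ya0 za4) (ka xa11 ya8 za3) (ka xa10 ya7 za1) (ka xa11 ya1 za25) (ka xa10 ya17 za40) (ka xa10 ya17 za41) (ka xa11 ya0 za5) (ka xa10 ya26 za50) (ka xa11 ya0 za3) (ka xa11 ya0 za1) (ka xa10 ya22 za30) (ka xa11 ya8 za4) (ka xa10 ya17 za33) (ka xa10 ya22 za27) (ka xa10 ya22 za31) (ka xa11 ya9 za2) (ka xa10 ya17 za31) (ka xa10 ya17 za35) (ka xa10 ya22 za29) (ka xa11 ya9 za7) (ka xa10 ya17 za37) (ka xa8 ya2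 za49) (ka xa11 ya9 za9) (ka xa8 ya3 za1) (ka xa9 ya18 za43) (ka xa10 ya22 za42) (ka xa9 ya18 za45) (ka xa9 ya18 za46) (ka xa9 ya18 za47) (ka xa8 ya3 za7) (ka xa8 ya6 za32) (ka xa11 ya9 za11)) (@D3.rec (fun _ => Pt) (ka xa9 ya19 za0) (ka xa9 ya19 za1) (ka xa9 ya19 za2) (ka xa8 ya3 za12) (ka xa11 ya9 za14) (ka xa9 ya19 za5) (ka xa8 ya3 za16) (ka xa11 ya9 za16) (ka xa9 ya19 za8) (ka xa8 ya3 za19) (ka xa10 ya16 za49) (ka xa9 ya19 za11) (ka xa10 ya26 za48) (ka xa8 ya11 za50) (ka xa10 ya26 za49) (ka xa10 ya12 za39) (ka xa8 ya4 za6) (ka xa8 ya4 za7) (ka xa8 ya4 za8) (ka xa8 ya4 za9) (ka xa8 ya4 za10) (ka xa8 ya4 za11) (ka xa8 ya4 za12) (ka xa8 ya4 za15) (ka xa8 ya4 za21) (ka xa8 ya4 za22) (ka xa8 ya4 za23) (ka xa8 ya4 za24) (ka xa8 ya4 za25) (ka xa8 ya4 za26) (ka xa8 ya4 za27) (ka xa8 ya4 za28) (ka xa8 ya4 za30)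 (ka xa11 ya9 za41) (ka xa8 ya4 za33) (ka xa8 ya4 za36) (ka xa8 ya3 za41) (ka xa11 ya9 za44) (ka xa8 ya4 za42) (ka xa8 ya5 za2) (ka xa8 ya5 za3) (ka xa8 ya5 za4) (ka xa8 ya5 za5) (ka xa8 ya5 za6) (ka xa11 ya10 za1) (ka xa8 ya5 za8) (ka xa8 ya5 za9) (ka xa8 ya5 za10) (ka xa11 ya10 za6) (ka xa8 ya5 za13) (ka xa8 ya4 za1)) (@D3.rec (fun _ => Pt) (ka xa11 ya10 za8) (ka xa8 ya4 za4) (ka xa8 ya5 za47) (ka xa10 ya18 za29) (ka xa11 ya9 za20) (ka xa11 ya9 za21) (ka xa11 ya9 za3) (ka xa11 ya9 za22) (ka xa11 ya9 za23) (ka xa10 ya23 za25) (ka xa11 ya9 za24) (ka xa11 ya9 za25) (ka xa10 ya23 za29) (ka xa10 ya26 za7) (ka xa11 ya9 za26) (ka xa11 ya10 za29) (ka xa10 ya23 za32) (ka xa10 ya22 za1) (ka xa10 ya26 za5) (ka xa10 ya26 za9) (ka xa11 ya9 za27) (ka xa8 ya4 za16) (ka xa11 ya2 za4) (ka xa11 ya10 za38) (ka xa10 ya4 za30)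 (ka xa10 ya22 za4) (ka xa10 ya21 za15) (ka xa10 ya4 za28) (ka xa10 ya4 za32) (ka xa10 ya26 za10) (ka xa11 ya9 za28) (ka xa11 ya9 za29) (ka xa11 ya9 za30) (ka xa11 ya9 za31) (ka xa11 ya9 za32) (ka xa11 ya11 za5) (ka xa11 ya9 za34) (ka xa11 ya9 za35) (ka xa10 ya26 za14) (ka xa11 ya9 za36) (ka xa11 ya9 za37) (ka xa11 ya11 za15) (ka xa10 ya26 za16) (ka xa11 ya9 za39) (ka xa10 ya26 za11) (ka xa10 ya26 za17) (ka xa11 ya9 za40) (ka xa8 ya4 za31) (ka xa11 ya11 za24) (ka xa11 ya11 za25) (ka xa10 ya26 za13)) (@D3.rec (fun _ => Pt) (ka xa10 ya26 za19) (ka xa11 ya9 za43) (ka xa10 ya4 za35) (ka xa10 ya26 za15) (ka xa10 ya26 za20) (ka xa8 ya4 za38) (ka xa8 ya4 za39) (ka xa11 ya1 za20) (ka xa11 ya11 za36) (ka xa11 ya11 za37) (ka xa10 ya4 za39) (ka xa10 ya4 za44) (ka xa10 ya26 za23) (ka xa10 ya20 za29) (ka xa10 ya4 za37)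 (ka xa10 ya4 za41) (ka xa10 ya4 za46) (ka xa10 ya25 za30) (ka xa10 ya26 za12) (ka xa10 ya4 za34) (ka xa10 ya4 za36) (ka xa10 ya4 za38) (ka xa11 ya9 za46) (ka xa11 ya9 za47) (ka xa10 ya23 za1) (ka xa11 ya9 za49) (ka xa11 ya9 za50) (ka xa11 ya10 za0) (ka xa10 ya22 za50) (ka xa8 ya5 za7) (ka xa10 ya22 za49) (ka xa11 ya12 za6) (ka xa11 ya10 za4) (ka xa11 ya10 za5) (ka xa10 ya23 za2) (ka xa10 ya23 za3) (ka xa8 ya5 za12) (ka xa11 ya12 za11) (ka xa10 ya23 za5) (ka xa8 ya5 za16) (ka xa11 ya12 za13) (ka xa10 ya20 za22) (ka xa8 ya5 za19) (ka xa10 ya7 za23) (ka xa10 ya20 za28) (ka xa8 ya5 za28) (ka xa8 ya5 za31) (ka xa8 ya5 za33) (ka xa10 ya0 za49) (ka xa8 ya6 za6) (ka xa10 ya18 za27)) (@D3.rec (fun _ => Pt) (ka xa10 ya13 za25) (ka xa10 ya18 za32) (ka xa10 ya18 za24) (ka xa10 ya18 za28) (ka xa10 ya17 za32) (ka xa10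 ya22 za26) (ka xa10 ya20 za7) (ka xa10 ya17 za30) (ka xa8 ya5 za49) (ka xa11 ya12 za16) (ka xa8 ya6 za10) (ka xa11 ya12 za20) (ka xa8 ya6 za13) (ka xa10 ya16 za48) (ka xa8 ya6 za30) (ka xa8 ya6 za31) (ka xa8 ya6 za34) (ka xa8 ya7 za0) (ka xa10 ya23 za12) (ka xa8 ya7 za2) (ka xa8 ya6 za25) (ka xa10 ya23 za10) (ka xa8 ya7 za5) (ka xa8 ya6 za27) (ka xa10 ya5 za19) (ka xa10 ya18 za39) (ka xa11 ya12 za21) (ka xa10 ya23 za26) (ka xa11 ya12 za22) (ka xa10 ya22 za10) (ka xa11 ya9 za12) (ka xa10 ya23 za19) (ka xa10 ya22 za5) (ka xa10 ya21 za39) (ka xa11 ya12 za38) (ka xa10 ya23 za24) (ka xa10 ya21 za45) (ka xa10 ya21 za46) (ka xa11 ya12 za43) (ka xa10 ya21 za49) (ka xa8 ya6 za40) (ka xa11 ya12 za45) (ka xa8 ya6 za43) (ka xa10 ya23 za16) (ka xa10 ya23 za13) (ka xa10 ya23 za14) (ka xa8 ya6 za47) (ka xa10 ya23 za18)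 (ka xa10 ya23 za23) (ka xa8 ya6 za49) (ka xa11 ya12 za23)) (@D3.rec (fun _ => Pt) (ka xa10 ya20 za14) (ka xa10 ya20 za17) (ka xa8 ya7 za10) (ka xa10 ya7 za14) (ka xa10 ya20 za21) (ka xa8 ya7 za36) (ka xa8 ya7 za39) (ka xa10 ya10 za2) (ka xa10 ya10 za5) (ka xa10 ya1 za48) (ka xa10 ya2 za13) (ka xa10 ya1 za49) (ka xa10 ya1 za47) (ka xa10 ya1 za46) (ka xa10 ya0 za29) (ka xa10 ya0 za30) (ka xa10 ya0 za36) (ka xa10 ya9 za35) (ka xa10 ya2 za19) (ka xa8 ya7 za38) (ka xa11 ya13 za5) (ka xa11 ya13 za0) (ka xa9 ya23 za22) (ka xa9 ya23 za23) (ka xa9 ya23 za24) (ka xa10 ya8 za33) (ka xa9 ya23 za26) (ka xa9 ya23 za27) (ka xa9 ya23 za28) (ka xa10 ya11 za31) (ka xa9 ya23 za30) (ka xa8 ya8 za1) (ka xa11 ya13 za15) (ka xa9 ya23 za33) (ka xa8 ya8 za4) (ka xa11 ya13 za18) (ka xa9 ya23 za36) (ka xa8 ya8 za32) (ka xa8 ya8 za46)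 (ka xa8 ya8 za47) (ka xa8 ya8 za50) (ka xa8 ya9 za2) (ka xa8 ya8 za14) (ka xa11 ya13 za24) (ka xa8 ya9 za5) (ka xa10 ya10 za1) (ka xa10 ya8 za46) (ka xa10 ya2 za8) (ka xa10 ya1 za30) (ka xa10 ya1 za36) (ka xa10 ya1 za29)) (@D3.rec (fun _ => Pt) (ka xa10 ya14 za8) (ka xa10 ya14 za13) (ka xa10 ya3 za46) (ka xa10 ya3 za50) (ka xa10 ya2 za45) (ka xa10 ya4 za18) (ka xa10 ya2 za48) (ka xa8 ya8 za28) (ka xa8 ya8 za29) (ka xa11 ya13 za33) (ka xa11 ya13 za34) (ka xa11 ya13 za35) (ka xa10 ya2 za49) (ka xa10 ya3 za1) (ka xa10 ya24 za25) (ka xa11 ya13 za21) (ka xa10 ya2 za47) (ka xa10 ya2 za50) (ka xa10 ya3 za2) (ka xa10 ya4 za20) (ka xa10 ya2 za44) (ka xa10 ya2 za46) (ka xa10 ya0 za50) (ka xa10 ya18 za18) (ka xa10 ya18 za22) (ka xa10 ya7 za11) (ka xa10 ya7 za29) (ka xa10 ya7 za30) (ka xa11 ya13 za22) (ka xa10 ya13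 za19) (ka xa10 ya4 za11) (ka xa8 ya9 za1) (ka xa11 ya13 za50) (ka xa11 ya13 za23) (ka xa8 ya9 za4) (ka xa11 ya14 za2) (ka xa11 ya13 za26) (ka xa10 ya17 za0) (ka xa9 ya24 za38) (ka xa8 ya9 za10) (ka xa8 ya9 za11) (ka xa11 ya14 za8) (ka xa11 ya14 za9) (ka xa9 ya24 za43) (ka xa9 ya24 za44) (ka xa8 ya9 za16) (ka xa11 ya14 za13) (ka xa9 ya24 za47) (ka xa8 ya9 za19) (ka xa11 ya14 za16) (ka xa9 ya24 za50)) (@D3.rec (fun _ => Pt) (ka xa8 ya9 za22) (ka xa11 ya14 za20) (ka xa11 ya14 za21) (ka xa9 ya25 za3) (ka xa11 ya14 za25) (ka xa8 ya10 za3) (ka xa8 ya10 za6) (ka xa11 ya14 za28) (ka xa8 ya10 za9) (ka xa8 ya10 za12) (ka xa8 ya9 za28) (ka xa11 ya14 za31) (ka xa8 ya10 za18) (ka xa8 ya9 za32) (ka xa11 ya14 za34) (ka xa8 ya10 za30) (ka xa8 ya11 za5) (ka xa8 ya10 za39) (ka xa8 ya9 za36) (ka xa10 ya23 za4) (ka xa11 ya14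 za38) (ka xa8 ya10 za42) (ka xa8 ya10 za43) (ka xa8 ya10 za44) (ka xa8 ya9 za41) (ka xa11 ya14 za41) (ka xa8 ya10 za41) (ka xa8 ya9 za45) (ka xa11 ya14 za37) (ka xa8 ya10 za47) (ka xa8 ya9 za48) (ka xa10 ya1 za10) (ka xa8 ya10 za50) (ka xa10 ya1 za8) (ka xa10 ya1 za9) (ka xa8 ya10 za1) (ka xa11 ya14 za49) (ka xa11 ya14 za45) (ka xa10 ya7 za10) (ka xa10 ya7 za41) (ka xa10 ya7 za49) (ka xa11 ya14 za27) (ka xa10 ya5 za6) (ka xa10 ya7 za42) (ka xa10 ya7 za50) (ka xa8 ya10 za7) (ka xa11 ya15 za12) (ka xa11 ya14 za44) (ka xa10 ya7 za44) (ka xa10 ya26 za28) (ka xa11 ya14 za30)) (@D3.rec (fun _ => Pt) (ka xa10 ya7 za46) (ka xa10 ya26 za29) (ka xa8 ya10 za14) (ka xa8 ya10 za15) (ka xa11 ya15 za18) (ka xa11 ya15 za19) (ka xa11 ya15 za20) (ka xa10 ya5 za5) (ka xa10 ya26 za25) (ka xa10 ya26 za32) (ka xa11 ya14 za33)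 (ka xa10 ya5 za3) (ka xa10 ya5 za7) (ka xa10 ya26 za26) (ka xa8 ya10 za24) (ka xa8 ya10 za25) (ka xa8 ya10 za26) (ka xa11 ya15 za31) (ka xa11 ya15 za32) (ka xa11 ya15 za33) (ka xa10 ya1 za11) (ka xa10 ya5 za8) (ka xa10 ya5 za11) (ka xa10 ya5 za15) (ka xa10 ya26 za35) (ka xa11 ya14 za36) (ka xa10 ya5 za9) (ka xa10 ya5 za12) (ka xa10 ya5 za2) (ka xa10 ya25 za32) (ka xa10 ya5 za4) (ka xa11 ya14 za42) (ka xa11 ya14 za43) (ka xa11 ya14 za47) (ka xa8 ya11 za10) (ka xa10 ya1 za7) (ka xa8 ya11 za11) (ka xa11 ya15 za46) (ka xa11 ya15 za47) (ka xa10 ya12 za5) (ka xa8 ya11 za28) (ka xa8 ya11 za27) (ka xa8 ya12 za3) (ka xa8 ya11 za30) (ka xa10 ya26 za8) (ka xa10 ya18 za34) (ka xa10 ya17 za4) (ka xa10 ya2 za26) (ka xa10 ya2 za25) (ka xa10 ya2 za29) (ka xa8 ya12 za0))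
def f_a_10 : D2 → D3 → Pt := @D2.rec (fun _ => D3 → Pt) (@D3.rec (fun _ => Pt) (ka xa8 ya12 za1) (ka xa11 ya8 za12) (ka xa11 ya9 za19) (ka xa8 ya12 za24) (ka xa8 ya12 za8) (ka xa8 ya12 za9) (ka xa11 ya15 za49) (ka xa11 ya15 za50) (ka xa10 ya4 za26) (ka xa10 ya26 za6) (ka xa10 ya4 za27) (ka xa10 ya4 za29) (ka xa10 ya4 za25) (ka xa10 ya4 za33) (ka xa8 ya12 za22) (ka xa8 ya12 za23) (ka xa10 ya18 za40) (ka xa11 ya16 za6) (ka xa8 ya12 za37) (ka xa8 ya12 za38) (ka xa10 ya5 za10) (ka xa10 ya5 za26) (ka xa11 ya15 za34) (ka xa11 ya16 za8) (ka xa11 ya16 za9) (ka xa10 ya1 za28) (ka xa10 ya1 za27) (ka xa10 ya2 za43) (ka xa9 ya14 za0) (ka xa9 ya23 za14) (ka xa9 ya23 za15) (ka xa8 ya13 za5) (ka xa8 ya13 za6) (ka xa8 ya13 za7) (ka xa9 ya13 za49) (ka xa9 ya14 za2) (ka xa9 ya23 za16) (ka xa11 ya16 za17) (ka xa11 ya16 za18)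 (ka xa11 ya16 za19) (ka xa10 ya0 za40) (ka xa10 ya0 za41) (ka xa10 ya0 za42) (ka xa8 ya13 za21) (ka xa8 ya13 za22) (ka xa8 ya13 za23) (ka xa8 ya13 za24) (ka xa8 ya13 za29) (ka xa9 ya16 za49) (ka xa9 ya21 za48) (ka xa9 ya24 za22)) (@D3.rec (fun _ => Pt) (ka xa9 ya6 za29) (ka xa9 ya4 za49) (ka xa9 ya12 za40) (ka xa11 ya16 za29) (ka xa11 ya16 za30) (ka xa11 ya16 za31) (ka xa11 ya16 za32) (ka xa9 ya26 za35) (ka xa9 ya25 za33) (ka xa9 ya25 za34) (ka xa9 ya25 za31) (ka xa9 ya26 za20) (ka xa11 ya16 za46) (ka xa10 ya1 za13) (ka xa10 ya1 za14) (ka xa11 ya16 za49) (ka xa10 ya1 za16) (ka xa10 ya1 za17) (ka xa8 ya13 za34) (ka xa11 ya17 za1) (ka xa10 ya1 za20) (ka xa8 ya13 za38) (ka xa11 ya17 za4) (ka xa10 ya1 za23) (ka xa9 ya6 za38) (ka xa9 ya6 za39) (ka xa9 ya6 za34) (ka xa10 ya0 za26) (ka xa10 ya0 za25) (ka xa9 ya23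 za50) (ka xa9 ya23 za48) (ka xa9 ya6 za37) (ka xa9 ya6 za35) (ka xa8 ya14 za43) (ka xa9 ya7 za8) (ka xa8 ya14 za41) (ka xa9 ya23 za49) (ka xa9 ya13 za44) (ka xa9 ya13 za41) (ka xa9 ya13 za45) (ka xa9 ya13 za46) (ka xa8 ya22 za16) (ka xa9 ya13 za47) (ka xa8 ya22 za13) (ka xa8 ya22 za17) (ka xa8 ya22 za18) (ka xa9 ya23 za13) (ka xa9 ya23 za12) (ka xa9 ya23 za9) (ka xa9 ya23 za11) (ka xa8 ya21 za22)) (@D3.rec (fun _ => Pt) (ka xa8 ya21 za23) (ka xa8 ya21 za26) (ka xa8 ya21 za2) (ka xa8 ya14 za46) (ka xa8 ya14 za47) (ka xa8 ya15 za0) (ka xa8 ya15 za1) (ka xa8 ya15 za2) (ka xa9 ya23 za47) (ka xa9 ya7 za20) (ka xa9 ya7 za11) (ka xa9 ya7 za23) (ka xa9 ya13 za39) (ka xa9 ya23 za10) (ka xa9 ya7 za6) (ka xa9 ya13 za36) (ka xa11 ya17 za24) (ka xa9 ya13 za50) (ka xa9 ya14 za4) (ka xa9 ya23 za18) (ka xa11 ya17 za25)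 (ka xa11 ya17 za26) (ka xa11 ya17 za27) (ka xa9 ya7 za7) (ka xa9 ya8 za16) (ka xa9 ya26 za48) (ka xa9 ya26 za47) (ka xa9 ya16 za15) (ka xa9 ya8 za49) (ka xa9 ya26 za49) (ka xa9 ya16 za41) (ka xa9 ya16 za43) (ka xa9 ya16 za38) (ka xa9 ya16 za44) (ka xa9 ya16 za35) (ka xa8 ya25 za49) (ka xa9 ya16 za39) (ka xa8 ya26 za9) (ka xa9 ya16 za45) (ka xa8 ya26 za6) (ka xa8 ya26 za10) (ka xa8 ya26 za7) (ka xa8 ya26 za11) (ka xa10 ya0 za27) (ka xa9 ya24 za20) (ka xa9 ya24 za4) (ka xa9 ya24 za21) (ka xa9 ya24 za16) (ka xa9 ya24 za6) (ka xa9 ya24 za12) (ka xa9 ya24 za17)) (@D3.rec (fun _ => Pt) (ka xa11 ya18 za25) (ka xa9 ya24 za13) (ka xa9 ya24 za18) (ka xa10 ya3 za3) (ka xa10 ya3 za4) (ka xa11 ya18 za28) (ka xa10 ya3 za6) (ka xa8 ya15 za35) (ka xa11 ya18 za30) (ka xa10 ya3 za9) (ka xa8 ya24 za40) (ka xa8 ya24 za42) (ka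 xa8 ya24 za43) (ka xa8 ya24 za44) (ka xa8 ya24 za45) (ka xa8 ya24 za46) (ka xa8 ya24 za48) (ka xa8 ya24 za8) (ka xa8 ya24 za12) (ka xa8 ya22 za48) (ka xa8 ya24 za13) (ka xa8 ya16 za12) (ka xa8 ya16 za13) (ka xa8 ya16 za17) (ka xa8 ya16 za18) (ka xa8 ya16 za20) (ka xa8 ya16 za21) (ka xa8 ya16 za23) (ka xa8 ya16 za24) (ka xa8 ya16 za28) (ka xa8 ya16 za29) (ka xa8 ya16 za30) (ka xa8 ya16 za31) (ka xa8 ya16 za32) (ka xa8 ya16 za33) (ka xa8 ya16 za34) (ka xa8 ya16 za37) (ka xa8 ya16 za43) (ka xa11 ya18 za0) (ka xa9 ya8 za40) (ka xa9 ya8 za43) (ka xa9 ya8 za22) (ka xa9 ya8 za46) (ka xa9 ya8 za26) (ka xa9 ya8 za27) (ka xa11 ya17 za44) (ka xa9 ya24 za2) (ka xa11 ya18 za42) (ka xa11 ya18 za43) (ka xa9 ya16 za27) (ka xa9 ya24 za3)) (@D3.rec (fun _ => Pt) (ka xa9 ya8 za12) (ka xa9 ya16 za24) (ka xa11 ya18 za44) (ka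 xa9 ya14 za46) (ka xa9 ya8 za14) (ka xa9 ya8 za15) (ka xa11 ya18 za45) (ka xa11 ya18 za46) (ka xa11 ya18 za47) (ka xa9 ya16 za48) (ka xa9 ya17 za6) (ka xa9 ya24 za30) (ka xa11 ya18 za48) (ka xa11 ya18 za49) (ka xa11 ya18 za50) (ka xa11 ya19 za0) (ka xa11 ya19 za1) (ka xa11 ya19 za2) (ka xa9 ya24 za5) (ka xa9 ya8 za11) (ka xa9 ya24 za19) (ka xa9 ya8 za13) (ka xa9 ya15 za28) (ka xa8 ya16 za47) (ka xa9 ya11 za6) (ka xa10 ya0 za12) (ka xa10 ya0 za8) (ka xa10 ya0 za10) (ka xa9 ya20 za27) (ka xa10 ya0 za11) (ka xa9 ya20 za24) (ka xa9 ya3 za20) (ka xa9 ya20 za28) (ka xa10 ya0 za13) (ka xa9 ya21 za19) (ka xa9 ya21 za2) (ka xa9 ya21 za20) (ka xa9 ya21 za14) (ka xa9 ya21 za21) (ka xa9 ya21 za10) (ka xa9 ya3 za44) (ka xa9 ya21 za15) (ka xa9 ya11 za16) (ka xa9 ya3 za41) (ka xa9 ya21 za11) (ka xa9 ya3 za45) (ka xa9 ya21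 za16) (ka xa9 ya4 za2) (ka xa9 ya4 za6) (ka xa9 ya3 za50) (ka xa9 ya4 za3)) (@D3.rec (fun _ => Pt) (ka xa9 ya4 za7) (ka xa9 ya4 za4) (ka xa9 ya26 za28) (ka xa9 ya26 za11) (ka xa9 ya26 za30) (ka xa9 ya26 za7) (ka xa9 ya25 za42) (ka xa9 ya26 za12) (ka xa9 ya26 za21) (ka xa9 ya26 za26) (ka xa10 ya0 za20) (ka xa9 ya26 za22) (ka xa9 ya26 za27) (ka xa8 ya17 za24) (ka xa11 ya20 za40) (ka xa9 ya26 za23) (ka xa10 ya5 za16) (ka xa10 ya5 za17) (ka xa10 ya5 za18) (ka xa9 ya22 za24) (ka xa10 ya5 za20) (ka xa10 ya5 za21) (ka xa10 ya5 za22) (ka xa10 ya5 za23) (ka xa10 ya5 za24) (ka xa10 ya5 za25) (ka xa10 ya0 za21) (ka xa10 ya5 za27) (ka xa8 ya17 za39) (ka xa11 ya21 za2) (ka xa10 ya5 za30) (ka xa9 ya2 za4) (ka xa9 ya2 za5) (ka xa9 ya2 za6) (ka xa9 ya2 za7) (ka xa9 ya2 za8) (ka xa9 ya2 za9) (ka xa9 ya2 za10) (ka xa9 ya2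 za11) (ka xa9 ya2 za12) (ka xa9 ya2 za13) (ka xa9 ya2 za14) (ka xa9 ya1 za13) (ka xa9 ya2 za15) (ka xa9 ya2 za16) (ka xa9 ya1 za21) (ka xa9 ya1 za25) (ka xa9 ya0 za10) (ka xa9 ya1 za22) (ka xa9 ya1 za26) (ka xa9 ya0 za11)) (@D3.rec (fun _ => Pt) (ka xa8 ya18 za36) (ka xa8 ya18 za37) (ka xa8 ya18 za38) (ka xa8 ya18 za39) (ka xa8 ya18 za40) (ka xa8 ya18 za41) (ka xa8 ya18 za42) (ka xa8 ya18 za43) (ka xa8 ya18 za44) (ka xa8 ya18 za45) (ka xa8 ya18 za46) (ka xa8 ya18 za47) (ka xa8 ya18 za48) (ka xa8 ya18 za49) (ka xa8 ya18 za50) (ka xa8 ya19 za0) (ka xa8 ya19 za1) (ka xa8 ya19 za2) (ka xa8 ya19 za5) (ka xa8 ya19 za6) (ka xa8 ya19 za7) (ka xa8 ya19 za8) (ka xa8 ya19 za11) (ka xa8 ya19 za12) (ka xa8 ya19 za13) (ka xa8 ya19 za14) (ka xa8 ya19 za15) (ka xa8 ya19 za16) (ka xa8 ya19 za17) (ka xa8 ya19 za18) (ka xa8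 ya19 za19) (ka xa8 ya19 za20) (ka xa8 ya19 za22) (ka xa8 ya19 za23) (ka xa8 ya19 za25) (ka xa8 ya19 za29) (ka xa8 ya19 za30) (ka xa8 ya19 za33) (ka xa11 ya19 za42) (ka xa11 ya21 za28) (ka xa11 ya19 za40) (ka xa11 ya21 za29) (ka xa11 ya21 za30) (ka xa11 ya21 za31) (ka xa11 ya21 za32) (ka xa11 ya21 za33) (ka xa11 ya21 za34) (ka xa11 ya21 za35) (ka xa11 ya21 za36) (ka xa9 ya3 za39) (ka xa9 ya2 za34)) (@D3.rec (fun _ => Pt) (ka xa11 ya21 za37) (ka xa9 ya18 za21) (ka xa11 ya21 za38) (ka xa11 ya21 za39) (ka xa11 ya21 za40) (ka xa11 ya21 za41) (ka xa11 ya21 za42) (ka xa11 ya21 za43) (ka xa11 ya21 za44) (ka xa11 ya21 za45) (ka xa9 ya25 za38) (ka xa9 ya24 za25) (ka xa11 ya21 za46) (ka xa11 ya23 za7) (ka xa9 ya23 za3) (ka xa11 ya21 za47) (ka xa11 ya21 za48) (ka xa11 ya21 za49) (ka xa11 ya21 za50) (ka xa8 ya19 za3)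 (ka xa9 ya3 za17) (ka xa11 ya23 za16) (ka xa9 ya6 za18) (ka xa9 ya21 za43) (ka xa11 ya22 za0) (ka xa11 ya22 za1) (ka xa11 ya22 za2) (ka xa11 ya22 za3) (ka xa9 ya17 za1) (ka xa9 ya24 za26) (ka xa9 ya24 za27) (ka xa11 ya22 za4) (ka xa11 ya22 za5) (ka xa11 ya22 za6) (ka xa11 ya22 za7) (ka xa11 ya22 za8) (ka xa11 ya22 za9) (ka xa11 ya22 za10) (ka xa11 ya22 za11) (ka xa11 ya22 za12) (ka xa11 ya22 za13) (ka xa9 ya25 za39) (ka xa9 ya25 za43) (ka xa11 ya23 za42) (ka xa9 ya25 za48) (ka xa11 ya22 za14) (ka xa9 ya26 za0) (ka xa11 ya22 za15) (ka xa11 ya23 za49) (ka xa9 ya25 za40) (ka xa9 ya25 za44)) (@D3.rec (fun _ => Pt) (ka xa8 ya19 za28) (ka xa11 ya24 za1) (ka xa11 ya22 za16) (ka xa8 ya19 za32) (ka xa11 ya24 za4) (ka xa11 ya22 za17) (ka xa11 ya24 za7) (ka xa10 ya8 za7) (ka xa10 ya8 za8) (ka xa8 ya19 za37) (ka xa11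 ya24 za10) (ka xa11 ya24 za11) (ka xa10 ya8 za12) (ka xa10 ya8 za13) (ka xa10 ya8 za14) (ka xa8 ya19 za42) (ka xa11 ya24 za16) (ka xa10 ya8 za17) (ka xa8 ya19 za46) (ka xa11 ya24 za19) (ka xa10 ya8 za20) (ka xa8 ya19 za49) (ka xa11 ya16 za38) (ka xa10 ya8 za23) (ka xa10 ya8 za24) (ka xa8 ya20 za7) (ka xa8 ya20 za8) (ka xa8 ya20 za10) (ka xa8 ya20 za11) (ka xa8 ya20 za12) (ka xa8 ya20 za14) (ka xa8 ya21 za7) (ka xa11 ya24 za22) (ka xa9 ya23 za25) (ka xa11 ya24 za23) (ka xa8 ya20 za48) (ka xa11 ya24 za24) (ka xa8 ya22 za42) (ka xa10 ya8 za38) (ka xa10 ya8 za39) (ka xa10 ya8 za40) (ka xa11 ya16 za14) (ka xa10 ya8 za42) (ka xa10 ya8 za43) (ka xa8 ya21 za48) (ka xa9 ya7 za14) (ka xa9 ya23 za46) (ka xa9 ya7 za16) (ka xa9 ya7 za17) (ka xa8 ya20 za40) (ka xa8 ya20 za41)) (@D3.rec (fun _ => Pt) (ka xa8 ya20 za42)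 (ka xa8 ya20 za43) (ka xa8 ya20 za44) (ka xa8 ya20 za45) (ka xa8 ya20 za46) (ka xa8 ya20 za47) (ka xa8 ya20 za49) (ka xa8 ya20 za50) (ka xa8 ya21 za0) (ka xa8 ya21 za3) (ka xa8 ya21 za4) (ka xa8 ya21 za5) (ka xa8 ya21 za6) (ka xa8 ya21 za8) (ka xa8 ya21 za9) (ka xa8 ya21 za10) (ka xa8 ya21 za11) (ka xa11 ya24 za40) (ka xa11 ya24 za41) (ka xa11 ya24 za42) (ka xa11 ya24 za43) (ka xa11 ya24 za44) (ka xa11 ya24 za45) (ka xa11 ya24 za46) (ka xa11 ya24 za47) (ka xa11 ya24 za48) (ka xa11 ya24 za49) (ka xa11 ya24 za50) (ka xa11 ya25 za0) (ka xa8 ya23 za2) (ka xa11 ya25 za1) (ka xa11 ya24 za28) (ka xa9 ya14 za3) (ka xa11 ya25 za2) (ka xa11 ya25 za3) (ka xa9 ya23 za17) (ka xa11 ya17 za23) (ka xa11 ya25 za4) (ka xa11 ya25 za5) (ka xa11 ya25 za6) (ka xa8 ya22 za45) (ka xa11 ya25 za7) (ka xa11 ya24 za25) (ka xa11 ya17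 za38) (ka xa11 ya25 za8) (ka xa11 ya25 za9) (ka xa10 ya9 za46) (ka xa10 ya9 za47) (ka xa8 ya21 za18) (ka xa11 ya25 za35) (ka xa10 ya9 za50)) (@D3.rec (fun _ => Pt) (ka xa9 ya7 za22) (ka xa9 ya23 za45) (ka xa9 ya23 za7) (ka xa11 ya17 za21) (ka xa11 ya17 za22) (ka xa9 ya23 za8) (ka xa8 ya21 za49) (ka xa8 ya21 za50) (ka xa8 ya22 za0) (ka xa8 ya22 za1) (ka xa8 ya22 za2) (ka xa8 ya22 za3) (ka xa8 ya22 za4) (ka xa8 ya22 za5) (ka xa8 ya22 za6) (ka xa8 ya22 za7) (ka xa8 ya22 za8) (ka xa8 ya22 za9) (ka xa8 ya22 za10) (ka xa8 ya22 za11) (ka xa8 ya22 za12) (ka xa8 ya22 za14) (ka xa8 ya22 za15) (ka xa8 ya22 za19) (ka xa8 ya22 za20) (ka xa8 ya22 za21) (ka xa8 ya22 za22) (ka xa8 ya22 za23) (ka xa11 ya26 za11) (ka xa8 ya22 za25) (ka xa8 ya22 za26) (ka xa11 ya24 za34) (ka xa11 ya24 za35) (ka xa11 ya25 za43) (ka xa11 ya25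 za44) (ka xa11 ya25 za45) (ka xa11 ya25 za46) (ka xa11 ya25 za47) (ka xa11 ya25 za48) (ka xa11 ya25 za49) (ka xa11 ya25 za50) (ka xa11 ya26 za0) (ka xa11 ya26 za1) (ka xa11 ya26 za2) (ka xa11 ya26 za3) (ka xa11 ya26 za4) (ka xa11 ya26 za5) (ka xa11 ya26 za41) (ka xa11 ya26 za7) (ka xa11 ya26 za8) (ka xa11 ya17 za13)) (@D3.rec (fun _ => Pt) (ka xa11 ya26 za9) (ka xa11 ya26 za10) (ka xa11 ya26 za12) (ka xa11 ya26 za13) (ka xa11 ya17 za16) (ka xa11 ya17 za18) (ka xa11 ya26 za14) (ka xa11 ya17 za15) (ka xa11 ya17 za17) (ka xa11 ya17 za19) (ka xa11 ya26 za16) (ka xa11 ya26 za17) (ka xa8 ya22 za24) (ka xa12 ya0 za5) (ka xa11 ya26 za19) (ka xa8 ya22 za29) (ka xa12 ya0 za8) (ka xa10 ya11 za17) (ka xa8 ya22 za43) (ka xa8 ya22 za44) (ka xa8 ya22 za46) (ka xa8 ya22 za49) (ka xa8 ya23 za0) (ka xa8 ya23 za1) (ka xa8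 ya23 za3) (ka xa8 ya23 za4) (ka xa8 ya24 za18) (ka xa12 ya0 za10) (ka xa9 ya14 za12) (ka xa11 ya25 za31) (ka xa12 ya0 za11) (ka xa9 ya23 za29) (ka xa11 ya18 za41) (ka xa9 ya0 za2) (ka xa9 ya0 za3) (ka xa8 ya24 za4) (ka xa12 ya0 za12) (ka xa11 ya17 za41) (ka xa11 ya25 za26) (ka xa12 ya0 za13) (ka xa10 ya11 za40) (ka xa10 ya11 za41) (ka xa10 ya11 za42) (ka xa10 ya11 za43) (ka xa10 ya11 za44) (ka xa10 ya11 za45) (ka xa10 ya11 za46) (ka xa11 ya16 za23) (ka xa10 ya11 za48) (ka xa10 ya11 za49) (ka xa8 ya23 za12)) (@D3.rec (fun _ => Pt) (ka xa12 ya0 za34) (ka xa10 ya12 za1) (ka xa9 ya13 za31) (ka xa9 ya13 za32) (ka xa9 ya16 za7) (ka xa9 ya26 za39) (ka xa9 ya8 za33) (ka xa9 ya8 za28) (ka xa9 ya8 za34) (ka xa9 ya8 za35) (ka xa9 ya8 za36) (ka xa8 ya23 za42) (ka xa8 ya23 za43) (ka xa8 ya23 za44) (ka xa8 ya23 za45)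 (ka xa8 ya23 za46) (ka xa8 ya23 za47) (ka xa8 ya23 za48) (ka xa8 ya23 za49) (ka xa8 ya23 za50) (ka xa8 ya24 za0) (ka xa8 ya24 za1) (ka xa8 ya24 za2) (ka xa8 ya24 za3) (ka xa8 ya24 za5) (ka xa8 ya24 za6) (ka xa8 ya24 za7) (ka xa8 ya24 za9) (ka xa8 ya24 za10) (ka xa8 ya24 za14) (ka xa8 ya24 za15) (ka xa8 ya24 za16) (ka xa8 ya24 za17) (ka xa8 ya24 za19) (ka xa8 ya24 za20) (ka xa8 ya24 za21) (ka xa12 ya0 za0) (ka xa8 ya24 za23) (ka xa8 ya24 za24) (ka xa9 ya19 za15) (ka xa12 ya0 za46) (ka xa12 ya0 za47) (ka xa12 ya0 za48) (ka xa12 ya0 za49) (ka xa12 ya0 za50) (ka xa12 ya1 za0) (ka xa12 ya1 za1) (ka xa12 ya1 za2) (ka xa12 ya1 za3) (ka xa12 ya1 za4) (ka xa12 ya1 za5)) (@D3.rec (fun _ => Pt) (ka xa12 ya1 za6) (ka xa12 ya1 za7) (ka xa12 ya1 za8) (ka xa12 ya1 za9) (ka xa12 ya1 za10) (ka xa12 ya1 za11) (ka xa12 ya2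 za4) (ka xa11 ya25 za18) (ka xa12 ya1 za13) (ka xa11 ya18 za37) (ka xa12 ya1 za14) (ka xa12 ya1 za15) (ka xa12 ya0 za22) (ka xa12 ya1 za16) (ka xa12 ya1 za17) (ka xa12 ya1 za18) (ka xa9 ya17 za5) (ka xa11 ya18 za39) (ka xa12 ya1 za19) (ka xa9 ya24 za29) (ka xa11 ya18 za40) (ka xa12 ya1 za20) (ka xa12 ya0 za14) (ka xa12 ya1 za21) (ka xa12 ya1 za22) (ka xa9 ya22 za0) (ka xa12 ya1 za23) (ka xa12 ya0 za15) (ka xa11 ya19 za33) (ka xa12 ya1 za24) (ka xa12 ya1 za25) (ka xa8 ya24 za22) (ka xa12 ya2 za32) (ka xa12 ya1 za27) (ka xa10 ya13 za34) (ka xa10 ya13 za35) (ka xa10 ya13 za36) (ka xa12 ya2 za37) (ka xa10 ya13 za38) (ka xa10 ya13 za39) (ka xa10 ya13 za40) (ka xa10 ya13 za41) (ka xa11 ya16 za20) (ka xa10 ya13 za43) (ka xa10 ya13 za44) (ka xa8 ya24 za33) (ka xa12 ya2 za44) (ka xa10 ya13 za47) (ka xa8 ya24 za37)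 (ka xa12 ya2 za46) (ka xa10 ya13 za50)) (@D3.rec (fun _ => Pt) (ka xa9 ya6 za40) (ka xa9 ya14 za48) (ka xa11 ya18 za32) (ka xa9 ya8 za45) (ka xa9 ya8 za25) (ka xa9 ya8 za48) (ka xa11 ya18 za33) (ka xa11 ya18 za34) (ka xa9 ya24 za0) (ka xa11 ya18 za35) (ka xa11 ya18 za36) (ka xa9 ya16 za12) (ka xa11 ya18 za38) (ka xa9 ya24 za1) (ka xa8 ya25 za28) (ka xa8 ya25 za29) (ka xa8 ya25 za30) (ka xa8 ya25 za31) (ka xa8 ya25 za32) (ka xa8 ya25 za33) (ka xa8 ya25 za34) (ka xa8 ya25 za35) (ka xa8 ya25 za36) (ka xa8 ya25 za37) (ka xa8 ya25 za38) (ka xa8 ya25 za39) (ka xa8 ya25 za40) (ka xa8 ya25 za41) (ka xa8 ya25 za42) (ka xa8 ya25 za43) (ka xa8 ya25 za44) (ka xa8 ya25 za45) (ka xa12 ya3 za42) (ka xa8 ya25 za47) (ka xa8 ya25 za48) (ka xa8 ya25 za50) (ka xa8 ya26 za0) (ka xa8 ya26 za1) (ka xa8 ya26 za2) (ka xa8 ya26 za3)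 (ka xa8 ya26 za4) (ka xa8 ya26 za5) (ka xa8 ya26 za8) (ka xa8 ya26 za12) (ka xa8 ya26 za13) (ka xa8 ya26 za14) (ka xa8 ya26 za15) (ka xa8 ya26 za16) (ka xa8 ya26 za17) (ka xa8 ya26 za18) (ka xa8 ya26 za19)) (@D3.rec (fun _ => Pt) (ka xa12 ya4 za14) (ka xa8 ya26 za21) (ka xa8 ya26 za22) (ka xa8 ya25 za25) (ka xa12 ya4 za17) (ka xa8 ya26 za25) (ka xa12 ya3 za12) (ka xa12 ya3 za13) (ka xa12 ya0 za39) (ka xa12 ya3 za14) (ka xa12 ya3 za15) (ka xa12 ya3 za16) (ka xa12 ya3 za17) (ka xa12 ya3 za18) (ka xa12 ya3 za19) (ka xa12 ya3 za20) (ka xa12 ya3 za21) (ka xa9 ya15 za7) (ka xa12 ya3 za23) (ka xa12 ya3 za24) (ka xa11 ya17 za49) (ka xa12 ya3 za25) (ka xa12 ya3 za26) (ka xa12 ya3 za27) (ka xa12 ya3 za28) (ka xa12 ya3 za29) (ka xa12 ya3 za30) (ka xa12 ya3 za31) (ka xa12 ya3 za32) (ka xa12 ya3 za33) (ka xa12 ya3 za34)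 (ka xa12 ya3 za35) (ka xa12 ya5 za9) (ka xa12 ya3 za37) (ka xa12 ya3 za38) (ka xa12 ya3 za39) (ka xa12 ya3 za40) (ka xa12 ya3 za41) (ka xa8 ya25 za46) (ka xa9 ya14 za45) (ka xa12 ya5 za18) (ka xa11 ya18 za10) (ka xa12 ya3 za45) (ka xa12 ya3 za46) (ka xa11 ya18 za7) (ka xa11 ya18 za12) (ka xa12 ya3 za47) (ka xa12 ya3 za48) (ka xa12 ya3 za49) (ka xa12 ya3 za50) (ka xa11 ya18 za16)) (@D3.rec (fun _ => Pt) (ka xa12 ya4 za0) (ka xa12 ya4 za1) (ka xa11 ya18 za14) (ka xa11 ya18 za17) (ka xa11 ya18 za19) (ka xa12 ya4 za2) (ka xa11 ya18 za15) (ka xa11 ya18 za18) (ka xa12 ya4 za3) (ka xa12 ya4 za4) (ka xa12 ya4 za5) (ka xa12 ya4 za6) (ka xa12 ya5 za43) (ka xa11 ya23 za27) (ka xa12 ya4 za8) (ka xa12 ya4 za9) (ka xa12 ya4 za10) (ka xa12 ya4 za12) (ka xa12 ya4 za13) (ka xa8 ya26 za20) (ka xa12 ya6 za0) (ka xa12 ya4 za16)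 (ka xa8 ya26 za24) (ka xa12 ya6 za3) (ka xa12 ya4 za19) (ka xa10 ya16 za25) (ka xa10 ya16 za26) (ka xa8 ya26 za29) (ka xa12 ya6 za7) (ka xa12 ya6 za8) (ka xa10 ya16 za30) (ka xa10 ya16 za31) (ka xa10 ya16 za32) (ka xa8 ya26 za36) (ka xa12 ya6 za13) (ka xa8 ya26 za39) (ka xa11 ya16 za22) (ka xa10 ya16 za37) (ka xa10 ya16 za38) (ka xa9 ya0 za4) (ka xa9 ya0 za5) (ka xa9 ya0 za7) (ka xa9 ya0 za8) (ka xa9 ya2 za2) (ka xa12 ya0 za21) (ka xa12 ya2 za22) (ka xa12 ya6 za14) (ka xa12 ya6 za15) (ka xa9 ya22 za13) (ka xa9 ya19 za10) (ka xa11 ya21 za3)) (@D3.rec (fun _ => Pt) (ka xa9 ya24 za37) (ka xa11 ya21 za26) (ka xa11 ya16 za42) (ka xa10 ya17 za3) (ka xa9 ya26 za46) (ka xa9 ya11 za47) (ka xa9 ya11 za49) (ka xa9 ya11 za42) (ka xa9 ya11 za50) (ka xa9 ya11 za39) (ka xa9 ya11 za43) (ka xa9 ya12 za0) (ka xa9 ya1 za1)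 (ka xa9 ya1 za2) (ka xa9 ya1 za3) (ka xa9 ya1 za4) (ka xa9 ya1 za5) (ka xa9 ya1 za6) (ka xa9 ya1 za8) (ka xa9 ya1 za9) (ka xa9 ya1 za14) (ka xa9 ya1 za15) (ka xa9 ya1 za16) (ka xa9 ya1 za17) (ka xa9 ya1 za18) (ka xa9 ya1 za19) (ka xa9 ya1 za20) (ka xa9 ya1 za23) (ka xa9 ya1 za27) (ka xa9 ya1 za29) (ka xa9 ya22 za7) (ka xa9 ya18 za35) (ka xa9 ya22 za4) (ka xa9 ya18 za31) (ka xa9 ya18 za9) (ka xa9 ya18 za36) (ka xa9 ya18 za12) (ka xa9 ya18 za39) (ka xa9 ya18 za16) (ka xa9 ya18 za17) (ka xa9 ya18 za23) (ka xa9 ya18 za24) (ka xa12 ya6 za33) (ka xa12 ya6 za34) (ka xa12 ya6 za35) (ka xa9 ya17 za49) (ka xa12 ya6 za36) (ka xa12 ya6 za37) (ka xa9 ya18 za0) (ka xa12 ya6 za38) (ka xa12 ya6 za39)) (@D3.rec (fun _ => Pt) (ka xa9 ya11 za13) (ka xa9 ya18 za2) (ka xa9 ya18 za3) (ka xa12 ya6 za40) (ka xa12 ya6 za41) (ka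 xa12 ya6 za42) (ka xa9 ya11 za19) (ka xa9 ya18 za4) (ka xa9 ya18 za5) (ka xa11 ya21 za18) (ka xa11 ya21 za21) (ka xa12 ya6 za43) (ka xa12 ya2 za25) (ka xa12 ya6 za44) (ka xa12 ya6 za45) (ka xa11 ya21 za23) (ka xa12 ya6 za46) (ka xa12 ya6 za47) (ka xa9 ya24 za23) (ka xa11 ya21 za24) (ka xa11 ya21 za27) (ka xa12 ya6 za48) (ka xa9 ya24 za24) (ka xa11 ya21 za25) (ka xa9 ya22 za2) (ka xa12 ya6 za49) (ka xa9 ya17 za48) (ka xa9 ya21 za50) (ka xa9 ya22 za3) (ka xa9 ya20 za3) (ka xa9 ya17 za46) (ka xa9 ya17 za50) (ka xa9 ya22 za1) (ka xa9 ya18 za1) (ka xa9 ya26 za45) (ka xa10 ya18 za35) (ka xa10 ya18 za36) (ka xa10 ya18 za37) (ka xa10 ya18 za38) (ka xa9 ya22 za25) (ka xa10 ya0 za16) (ka xa10 ya18 za41) (ka xa9 ya17 za47) (ka xa11 ya21 za5) (ka xa11 ya21 za6) (ka xa11 ya21 za7) (ka xa11 ya21 za8) (ka xa11 ya21 za9)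 (ka xa11 ya21 za10) (ka xa11 ya21 za11) (ka xa11 ya21 za12)) (@D3.rec (fun _ => Pt) (ka xa11 ya21 za13) (ka xa11 ya21 za14) (ka xa11 ya21 za15) (ka xa11 ya21 za16) (ka xa11 ya21 za17) (ka xa11 ya21 za19) (ka xa11 ya21 za20) (ka xa11 ya21 za22) (ka xa9 ya3 za6) (ka xa9 ya3 za7) (ka xa9 ya3 za8) (ka xa9 ya3 za9) (ka xa9 ya3 za10) (ka xa9 ya3 za11) (ka xa9 ya3 za12) (ka xa9 ya3 za13) (ka xa9 ya3 za15) (ka xa9 ya3 za16) (ka xa9 ya3 za21) (ka xa9 ya3 za22) (ka xa9 ya3 za23) (ka xa9 ya3 za24) (ka xa9 ya3 za25) (ka xa9 ya3 za26) (ka xa9 ya3 za27) (ka xa9 ya3 za28) (ka xa9 ya3 za29) (ka xa9 ya3 za30) (ka xa9 ya3 za31) (ka xa11 ya22 za31) (ka xa9 ya3 za33) (ka xa9 ya3 za34) (ka xa9 ya3 za35) (ka xa9 ya3 za36) (ka xa9 ya3 za37) (ka xa11 ya22 za37) (ka xa9 ya3 za42) (ka xa9 ya3 za43) (ka xa9 ya3 za46) (ka xa9 ya3 za47)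 (ka xa9 ya3 za48) (ka xa9 ya3 za49) (ka xa9 ya4 za0) (ka xa9 ya4 za1) (ka xa9 ya4 za5) (ka xa9 ya4 za8) (ka xa9 ya4 za9) (ka xa9 ya4 za10) (ka xa9 ya4 za11) (ka xa9 ya4 za12) (ka xa12 ya9 za27)) (@D3.rec (fun _ => Pt) (ka xa9 ya4 za14) (ka xa9 ya4 za15) (ka xa9 ya4 za16) (ka xa9 ya4 za19) (ka xa9 ya3 za2) (ka xa12 ya9 za32) (ka xa9 ya3 za5) (ka xa9 ya22 za6) (ka xa12 ya8 za27) (ka xa12 ya8 za28) (ka xa12 ya8 za29) (ka xa12 ya8 za30) (ka xa12 ya8 za31) (ka xa12 ya8 za32) (ka xa9 ya23 za0) (ka xa12 ya8 za33) (ka xa12 ya8 za34) (ka xa9 ya23 za1) (ka xa12 ya8 za35) (ka xa12 ya8 za36) (ka xa11 ya23 za8) (ka xa9 ya23 za4) (ka xa9 ya21 za41) (ka xa12 ya8 za37) (ka xa12 ya8 za38) (ka xa12 ya8 za39) (ka xa11 ya23 za17) (ka xa9 ya10 za33) (ka xa9 ya21 za44) (ka xa9 ya21 za13) (ka xa11 ya19 za49) (ka xa11 ya20 za1)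 (ka xa12 ya8 za40) (ka xa12 ya8 za41) (ka xa12 ya8 za42) (ka xa12 ya8 za43) (ka xa12 ya8 za44) (ka xa12 ya8 za45) (ka xa12 ya10 za29) (ka xa12 ya8 za47) (ka xa12 ya8 za48) (ka xa12 ya8 za49) (ka xa12 ya8 za50) (ka xa12 ya9 za0) (ka xa12 ya10 za39) (ka xa12 ya9 za1) (ka xa12 ya9 za2) (ka xa12 ya9 za3) (ka xa12 ya9 za4) (ka xa12 ya9 za5) (ka xa9 ya3 za32)) (@D3.rec (fun _ => Pt) (ka xa11 ya22 za30) (ka xa12 ya10 za48) (ka xa12 ya9 za7) (ka xa12 ya9 za8) (ka xa12 ya9 za9) (ka xa11 ya20 za15) (ka xa12 ya9 za10) (ka xa12 ya9 za11) (ka xa9 ya3 za40) (ka xa9 ya11 za15) (ka xa11 ya22 za36) (ka xa12 ya11 za9) (ka xa11 ya20 za13) (ka xa11 ya20 za19) (ka xa12 ya9 za13) (ka xa9 ya20 za26) (ka xa11 ya20 za10) (ka xa11 ya20 za16) (ka xa11 ya20 za21) (ka xa12 ya9 za14) (ka xa12 ya9 za15) (ka xa12 ya9 za16) (ka xa12 ya9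 za17) (ka xa11 ya20 za22) (ka xa11 ya20 za25) (ka xa12 ya9 za18) (ka xa12 ya9 za19) (ka xa11 ya20 za23) (ka xa11 ya20 za26) (ka xa11 ya20 za27) (ka xa12 ya9 za20) (ka xa11 ya20 za24) (ka xa12 ya9 za21) (ka xa12 ya9 za22) (ka xa12 ya9 za23) (ka xa12 ya11 za40) (ka xa12 ya9 za24) (ka xa12 ya9 za25) (ka xa12 ya9 za26) (ka xa9 ya22 za33) (ka xa9 ya4 za13) (ka xa12 ya11 za47) (ka xa12 ya11 za48) (ka xa12 ya9 za30) (ka xa12 ya9 za31) (ka xa9 ya22 za36) (ka xa9 ya22 za37) (ka xa9 ya4 za18) (ka xa12 ya12 za6) (ka xa9 ya22 za39) (ka xa9 ya4 za22)) (@D3.rec (fun _ => Pt) (ka xa12 ya12 za9) (ka xa9 ya20 za17) (ka xa9 ya4 za25) (ka xa11 ya23 za20) (ka xa9 ya20 za25) (ka xa9 ya22 za32) (ka xa10 ya22 za6) (ka xa10 ya22 za7) (ka xa10 ya22 za8) (ka xa9 ya4 za30) (ka xa9 ya22 za29) (ka xa12 ya12 za12) (ka xa9 ya4 za36) (ka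 xa9 ya4 za37) (ka xa9 ya5 za29) (ka xa12 ya12 za13) (ka xa12 ya12 za14) (ka xa10 ya22 za17) (ka xa10 ya22 za18) (ka xa10 ya22 za19) (ka xa9 ya4 za43) (ka xa12 ya12 za17) (ka xa10 ya22 za22) (ka xa9 ya4 za46) (ka xa11 ya16 za37) (ka xa10 ya22 za25) (ka xa9 ya22 za5) (ka xa9 ya18 za32) (ka xa9 ya15 za16) (ka xa9 ya18 za37) (ka xa9 ya18 za29) (ka xa9 ya18 za33) (ka xa9 ya5 za26) (ka xa9 ya5 za27) (ka xa9 ya5 za28) (ka xa9 ya5 za31) (ka xa9 ya5 za47) (ka xa9 ya5 za48) (ka xa9 ya6 za0) (ka xa9 ya5 za22) (ka xa12 ya12 za27) (ka xa9 ya6 za7) (ka xa9 ya18 za44) (ka xa9 ya12 za27) (ka xa12 ya12 za23) (ka xa12 ya12 za24) (ka xa9 ya12 za21) (ka xa12 ya12 za25) (ka xa12 ya12 za15) (ka xa9 ya21 za30) (ka xa9 ya21 za28)) (@D3.rec (fun _ => Pt) (ka xa12 ya12 za39) (ka xa9 ya21 za24) (ka xa9 ya21 za34) (ka xa9 ya21 za35)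 (ka xa9 ya25 za19) (ka xa9 ya21 za38) (ka xa9 ya5 za37) (ka xa12 ya12 za45) (ka xa9 ya5 za40) (ka xa9 ya6 za5) (ka xa9 ya22 za21) (ka xa9 ya5 za43) (ka xa9 ya22 za18) (ka xa9 ya22 za44) (ka xa9 ya22 za45) (ka xa12 ya12 za26) (ka xa9 ya22 za43) (ka xa9 ya5 za50) (ka xa9 ya22 za47) (ka xa9 ya22 za31) (ka xa9 ya6 za6) (ka xa12 ya12 za49) (ka xa12 ya12 za28) (ka xa9 ya22 za48) (ka xa9 ya22 za35) (ka xa9 ya20 za9) (ka xa9 ya22 za27) (ka xa9 ya6 za12) (ka xa12 ya13 za5) (ka xa9 ya20 za12) (ka xa9 ya6 za15) (ka xa11 ya23 za19) (ka xa9 ya20 za16) (ka xa9 ya6 za22) (ka xa11 ya16 za33) (ka xa9 ya6 za26) (ka xa11 ya16 za36) (ka xa9 ya7 za19) (ka xa9 ya7 za9) (ka xa9 ya7 za10) (ka xa9 ya13 za42) (ka xa9 ya13 za5) (ka xa9 ya13 za9) (ka xa9 ya7 za12) (ka xa9 ya7 za13) (ka xa9 ya7 za15) (ka xa9 ya7 za18) (ka xa9 ya7 za21)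 (ka xa11 ya17 za34) (ka xa11 ya17 za7) (ka xa11 ya17 za8)) (@D3.rec (fun _ => Pt) (ka xa11 ya17 za29) (ka xa12 ya13 za9) (ka xa11 ya25 za37) (ka xa11 ya17 za31) (ka xa11 ya17 za32) (ka xa11 ya24 za36) (ka xa12 ya13 za12) (ka xa12 ya13 za13) (ka xa11 ya24 za37) (ka xa11 ya24 za38) (ka xa11 ya24 za39) (ka xa11 ya17 za28) (ka xa11 ya17 za30) (ka xa11 ya25 za38) (ka xa9 ya7 za25) (ka xa9 ya8 za17) (ka xa9 ya8 za20) (ka xa9 ya8 za21) (ka xa9 ya16 za13) (ka xa9 ya16 za16) (ka xa9 ya16 za29) (ka xa9 ya16 za42) (ka xa9 ya16 za30) (ka xa9 ya16 za36) (ka xa9 ya16 za40) (ka xa9 ya24 za14) (ka xa9 ya15 za12) (ka xa9 ya15 za4) (ka xa9 ya15 za13) (ka xa9 ya15 za9) (ka xa9 ya8 za18) (ka xa9 ya8 za19) (ka xa9 ya8 za23) (ka xa9 ya8 za24) (ka xa9 ya8 za29) (ka xa9 ya8 za30) (ka xa9 ya8 za31) (ka xa9 ya8 za32) (ka xa9 ya8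 za37) (ka xa9 ya8 za38) (ka xa9 ya8 za39) (ka xa9 ya8 za42) (ka xa9 ya8 za44) (ka xa9 ya8 za47) (ka xa11 ya19 za15) (ka xa11 ya19 za39) (ka xa11 ya19 za19) (ka xa11 ya19 za24) (ka xa11 ya19 za25) (ka xa11 ya19 za26) (ka xa11 ya17 za45)) (@D3.rec (fun _ => Pt) (ka xa12 ya13 za25) (ka xa12 ya13 za26) (ka xa11 ya19 za4) (ka xa12 ya13 za39) (ka xa12 ya13 za40) (ka xa11 ya19 za6) (ka xa12 ya13 za27) (ka xa12 ya2 za50) (ka xa11 ya19 za8) (ka xa11 ya19 za9) (ka xa12 ya13 za41) (ka xa12 ya13 za42) (ka xa12 ya13 za43) (ka xa12 ya1 za40) (ka xa12 ya3 za1) (ka xa11 ya19 za10) (ka xa11 ya19 za11) (ka xa11 ya19 za12) (ka xa12 ya0 za42) (ka xa12 ya0 za44) (ka xa12 ya13 za44) (ka xa12 ya0 za40) (ka xa12 ya13 za45) (ka xa12 ya0 za41) (ka xa12 ya0 za43) (ka xa12 ya0 za45) (ka xa12 ya13 za46) (ka xa11 ya19 za3) (ka xa12 ya13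 za47) (ka xa12 ya2 za48) (ka xa9 ya21 za17) (ka xa11 ya19 za5) (ka xa9 ya26 za29) (ka xa12 ya2 za49) (ka xa11 ya19 za7) (ka xa12 ya3 za0) (ka xa11 ya17 za47) (ka xa12 ya0 za38) (ka xa11 ya17 za50) (ka xa9 ya9 za1) (ka xa12 ya14 za43) (ka xa9 ya9 za4) (ka xa12 ya14 za44) (ka xa9 ya9 za7) (ka xa12 ya14 za45) (ka xa9 ya9 za10) (ka xa11 ya16 za21) (ka xa10 ya25 za47) (ka xa9 ya9 za12) (ka xa12 ya14 za46) (ka xa10 ya25 za50)) (@D3.rec (fun _ => Pt) (ka xa9 ya9 za16) (ka xa12 ya14 za49) (ka xa10 ya26 za2) (ka xa9 ya11 za7) (ka xa9 ya11 za5) (ka xa9 ya20 za18) (ka xa10 ya0 za9) (ka xa9 ya20 za13) (ka xa9 ya26 za44) (ka xa9 ya20 za19) (ka xa9 ya20 za29) (ka xa9 ya20 za44) (ka xa9 ya21 za18) (ka xa9 ya20 za50) (ka xa9 ya20 za38) (ka xa9 ya21 za3) (ka xa9 ya20 za42) (ka xa9 ya20 za45) (ka xa12 ya15 za19) (ka xa9 ya21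 za0) (ka xa9 ya21 za4) (ka xa9 ya9 za33) (ka xa12 ya15 za22) (ka xa9 ya21 za12) (ka xa12 ya15 za25) (ka xa9 ya26 za8) (ka xa9 ya26 za13) (ka xa12 ya15 za28) (ka xa9 ya25 za49) (ka xa9 ya26 za1) (ka xa9 ya9 za41) (ka xa12 ya15 za31) (ka xa9 ya26 za9) (ka xa9 ya9 za45) (ka xa12 ya15 za34) (ka xa9 ya26 za24) (ka xa9 ya9 za47) (ka xa12 ya15 za37) (ka xa10 ya26 za38) (ka xa9 ya9 za50) (ka xa12 ya15 za40) (ka xa10 ya26 za41) (ka xa9 ya10 za3) (ka xa12 ya15 za42) (ka xa10 ya26 za44) (ka xa9 ya10 za6) (ka xa12 ya6 za21) (ka xa10 ya26 za47) (ka xa9 ya19 za12) (ka xa9 ya19 za14) (ka xa9 ya18 za26))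
def f_a_11 : D2 → D3 → Pt := @D2.rec (fun _ => D3 → Pt) (@D3.rec (fun _ => Pt) (ka xa9 ya18 za18) (ka xa9 ya18 za28) (ka xa9 ya18 za13) (ka xa9 ya18 za27) (ka xa9 ya18 za19) (ka xa9 ya18 za25) (ka xa9 ya11 za8) (ka xa9 ya11 za9) (ka xa9 ya11 za10) (ka xa9 ya11 za11) (ka xa9 ya11 za12) (ka xa9 ya11 za14) (ka xa9 ya11 za17) (ka xa9 ya11 za20) (ka xa9 ya11 za21) (ka xa9 ya11 za22) (ka xa9 ya11 za23) (ka xa9 ya11 za24) (ka xa9 ya11 za25) (ka xa9 ya11 za26) (ka xa9 ya11 za27) (ka xa9 ya11 za28) (ka xa9 ya11 za29) (ka xa12 ya10 za13) (ka xa9 ya11 za31) (ka xa9 ya11 za32) (ka xa9 ya11 za33) (ka xa9 ya11 za34) (ka xa9 ya11 za35) (ka xa12 ya10 za14) (ka xa9 ya11 za40) (ka xa9 ya11 za41) (ka xa9 ya11 za44) (ka xa9 ya11 za45) (ka xa9 ya11 za46) (ka xa9 ya11 za48) (ka xa9 ya12 za1) (ka xa9 ya12 za2) (ka xa9 ya12 za3)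 (ka xa9 ya12 za4) (ka xa9 ya12 za5) (ka xa12 ya16 za42) (ka xa9 ya12 za7) (ka xa9 ya12 za8) (ka xa9 ya12 za9) (ka xa9 ya12 za10) (ka xa12 ya16 za49) (ka xa9 ya12 za12) (ka xa9 ya12 za13) (ka xa9 ya10 za50) (ka xa12 ya17 za1)) (@D3.rec (fun _ => Pt) (ka xa9 ya12 za16) (ka xa9 ya11 za3) (ka xa12 ya17 za4) (ka xa9 ya12 za19) (ka xa12 ya15 za3) (ka xa12 ya15 za4) (ka xa11 ya19 za41) (ka xa12 ya15 za1) (ka xa12 ya15 za2) (ka xa12 ya16 za0) (ka xa12 ya16 za1) (ka xa12 ya16 za2) (ka xa12 ya16 za3) (ka xa12 ya16 za4) (ka xa12 ya11 za10) (ka xa11 ya20 za12) (ka xa12 ya16 za5) (ka xa12 ya7 za18) (ka xa12 ya7 za28) (ka xa12 ya16 za6) (ka xa9 ya21 za7) (ka xa12 ya11 za11) (ka xa11 ya20 za18) (ka xa12 ya16 za7) (ka xa9 ya18 za15) (ka xa9 ya18 za22) (ka xa12 ya7 za35) (ka xa12 ya16 za8) (ka xa12 ya16 za9) (ka xa12 ya16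 za10) (ka xa12 ya16 za11) (ka xa12 ya16 za12) (ka xa12 ya17 za48) (ka xa12 ya16 za14) (ka xa12 ya16 za15) (ka xa12 ya16 za16) (ka xa12 ya16 za17) (ka xa12 ya16 za18) (ka xa12 ya18 za7) (ka xa12 ya16 za20) (ka xa12 ya16 za21) (ka xa12 ya16 za22) (ka xa12 ya16 za23) (ka xa12 ya16 za24) (ka xa9 ya11 za30) (ka xa12 ya18 za15) (ka xa12 ya18 za16) (ka xa12 ya16 za26) (ka xa12 ya16 za27) (ka xa12 ya16 za28) (ka xa12 ya6 za25)) (@D3.rec (fun _ => Pt) (ka xa12 ya16 za29) (ka xa12 ya16 za30) (ka xa9 ya11 za37) (ka xa9 ya11 za38) (ka xa9 ya20 za22) (ka xa12 ya18 za27) (ka xa12 ya18 za28) (ka xa12 ya6 za29) (ka xa12 ya6 za31) (ka xa12 ya16 za32) (ka xa12 ya16 za33) (ka xa12 ya6 za27) (ka xa12 ya6 za30) (ka xa12 ya6 za32) (ka xa12 ya16 za34) (ka xa12 ya6 za24) (ka xa12 ya6 za26) (ka xa12 ya6 za28) (ka xa12 ya16 za35)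 (ka xa12 ya16 za36) (ka xa12 ya12 za33) (ka xa12 ya16 za38) (ka xa12 ya16 za39) (ka xa12 ya16 za40) (ka xa12 ya16 za41) (ka xa9 ya12 za6) (ka xa12 ya12 za30) (ka xa12 ya18 za48) (ka xa12 ya16 za45) (ka xa12 ya16 za46) (ka xa12 ya16 za47) (ka xa12 ya16 za48) (ka xa9 ya12 za11) (ka xa12 ya19 za5) (ka xa12 ya17 za0) (ka xa9 ya12 za15) (ka xa12 ya19 za8) (ka xa12 ya17 za3) (ka xa9 ya12 za18) (ka xa11 ya23 za37) (ka xa12 ya17 za6) (ka xa11 ya2 za41) (ka xa12 ya12 za35) (ka xa11 ya2 za43) (ka xa11 ya2 za44) (ka xa11 ya2 za45) (ka xa9 ya12 za28) (ka xa12 ya12 za31) (ka xa12 ya19 za13) (ka xa11 ya2 za49) (ka xa11 ya2 za50)) (@D3.rec (fun _ => Pt) (ka xa11 ya3 za0) (ka xa9 ya12 za34) (ka xa12 ya19 za16) (ka xa9 ya12 za37) (ka xa11 ya16 za35) (ka xa9 ya13 za0) (ka xa9 ya13 za1) (ka xa9 ya13 za2) (ka xa9 ya13 za3)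 (ka xa9 ya13 za4) (ka xa9 ya13 za6) (ka xa11 ya26 za15) (ka xa9 ya13 za10) (ka xa9 ya13 za11) (ka xa11 ya26 za42) (ka xa12 ya19 za17) (ka xa12 ya19 za18) (ka xa11 ya26 za28) (ka xa12 ya19 za19) (ka xa12 ya13 za11) (ka xa12 ya19 za20) (ka xa12 ya19 za22) (ka xa9 ya13 za29) (ka xa9 ya13 za30) (ka xa9 ya13 za33) (ka xa9 ya13 za34) (ka xa9 ya13 za35) (ka xa9 ya13 za37) (ka xa9 ya13 za40) (ka xa9 ya13 za43) (ka xa9 ya13 za48) (ka xa9 ya14 za1) (ka xa9 ya14 za5) (ka xa9 ya14 za8) (ka xa11 ya25 za41) (ka xa12 ya19 za30) (ka xa12 ya19 za31) (ka xa12 ya0 za37) (ka xa11 ya17 za35) (ka xa12 ya13 za20) (ka xa12 ya19 za32) (ka xa11 ya25 za23) (ka xa11 ya17 za36) (ka xa12 ya19 za33) (ka xa9 ya13 za38) (ka xa11 ya25 za39) (ka xa12 ya19 za44) (ka xa11 ya17 za12) (ka xa11 ya17 za33) (ka xa12 ya19 za34) (ka xa11 ya17 za10))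 (@D3.rec (fun _ => Pt) (ka xa11 ya17 za14) (ka xa12 ya13 za10) (ka xa11 ya17 za9) (ka xa11 ya17 za11) (ka xa11 ya17 za39) (ka xa11 ya16 za15) (ka xa12 ya19 za35) (ka xa11 ya25 za28) (ka xa11 ya17 za40) (ka xa9 ya14 za7) (ka xa12 ya20 za5) (ka xa12 ya19 za36) (ka xa11 ya4 za12) (ka xa12 ya0 za17) (ka xa9 ya14 za15) (ka xa12 ya20 za8) (ka xa9 ya14 za18) (ka xa9 ya14 za42) (ka xa9 ya14 za43) (ka xa9 ya14 za44) (ka xa9 ya14 za47) (ka xa9 ya14 za49) (ka xa9 ya14 za50) (ka xa9 ya15 za0) (ka xa9 ya15 za1) (ka xa9 ya15 za2) (ka xa9 ya15 za3) (ka xa9 ya15 za5) (ka xa9 ya15 za8) (ka xa9 ya15 za10) (ka xa9 ya15 za14) (ka xa9 ya15 za15) (ka xa9 ya15 za17) (ka xa12 ya4 za11) (ka xa9 ya15 za18) (ka xa9 ya15 za19) (ka xa9 ya14 za39) (ka xa12 ya20 za27) (ka xa9 ya15 za22) (ka xa12 ya20 za9) (ka xa12 ya20 za10) (ka xa12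 ya5 za10) (ka xa12 ya20 za11) (ka xa12 ya3 za43) (ka xa12 ya5 za19) (ka xa11 ya19 za23) (ka xa12 ya20 za12) (ka xa12 ya20 za13) (ka xa12 ya20 za14) (ka xa12 ya20 za15) (ka xa12 ya20 za16)) (@D3.rec (fun _ => Pt) (ka xa12 ya20 za17) (ka xa12 ya20 za18) (ka xa12 ya4 za32) (ka xa12 ya20 za19) (ka xa12 ya13 za35) (ka xa12 ya13 za37) (ka xa12 ya20 za20) (ka xa9 ya15 za6) (ka xa12 ya3 za22) (ka xa12 ya21 za0) (ka xa12 ya4 za38) (ka xa12 ya20 za21) (ka xa12 ya13 za38) (ka xa12 ya13 za36) (ka xa12 ya7 za41) (ka xa12 ya20 za23) (ka xa12 ya12 za21) (ka xa12 ya20 za24) (ka xa12 ya20 za26) (ka xa9 ya15 za21) (ka xa12 ya21 za10) (ka xa12 ya20 za29) (ka xa11 ya5 za22) (ka xa9 ya15 za26) (ka xa12 ya0 za18) (ka xa11 ya5 za25) (ka xa9 ya16 za8) (ka xa9 ya16 za9) (ka xa9 ya16 za10) (ka xa9 ya16 za11) (ka xa12 ya3 za9) (ka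 xa9 ya16 za14) (ka xa9 ya16 za17) (ka xa9 ya16 za18) (ka xa9 ya16 za19) (ka xa9 ya16 za20) (ka xa9 ya16 za21) (ka xa9 ya16 za22) (ka xa9 ya16 za23) (ka xa9 ya16 za25) (ka xa9 ya16 za28) (ka xa9 ya16 za31) (ka xa9 ya15 za43) (ka xa12 ya21 za30) (ka xa9 ya16 za37) (ka xa9 ya16 za46) (ka xa9 ya16 za47) (ka xa9 ya16 za50) (ka xa9 ya17 za2) (ka xa9 ya17 za3) (ka xa9 ya17 za4)) (@D3.rec (fun _ => Pt) (ka xa9 ya17 za7) (ka xa9 ya17 za10) (ka xa9 ya16 za5) (ka xa12 ya21 za38) (ka xa9 ya17 za13) (ka xa12 ya21 za13) (ka xa12 ya21 za14) (ka xa12 ya21 za15) (ka xa12 ya3 za7) (ka xa12 ya21 za16) (ka xa12 ya21 za17) (ka xa12 ya2 za7) (ka xa12 ya3 za10) (ka xa11 ya17 za48) (ka xa12 ya13 za28) (ka xa12 ya21 za19) (ka xa11 ya17 za46) (ka xa12 ya13 za29) (ka xa12 ya21 za20) (ka xa12 ya21 za21) (ka xa11 ya19 za20) (ka xa12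 ya21 za22) (ka xa12 ya21 za23) (ka xa12 ya22 za9) (ka xa12 ya21 za24) (ka xa12 ya21 za25) (ka xa12 ya13 za30) (ka xa12 ya21 za26) (ka xa12 ya21 za27) (ka xa12 ya2 za10) (ka xa11 ya19 za21) (ka xa12 ya21 za28) (ka xa9 ya16 za26) (ka xa12 ya3 za5) (ka xa12 ya22 za21) (ka xa11 ya19 za13) (ka xa11 ya19 za18) (ka xa12 ya21 za29) (ka xa11 ya18 za2) (ka xa12 ya13 za31) (ka xa12 ya13 za32) (ka xa9 ya16 za33) (ka xa9 ya16 za34) (ka xa12 ya1 za38) (ka xa12 ya22 za32) (ka xa12 ya22 za33) (ka xa11 ya18 za6) (ka xa11 ya18 za11) (ka xa12 ya13 za33) (ka xa12 ya21 za32) (ka xa11 ya18 za4)) (@D3.rec (fun _ => Pt) (ka xa11 ya18 za8) (ka xa11 ya18 za13) (ka xa11 ya18 za1) (ka xa11 ya18 za3) (ka xa11 ya18 za5) (ka xa11 ya19 za30) (ka xa12 ya21 za33) (ka xa12 ya2 za14) (ka xa11 ya19 za31) (ka xa11 ya16 za34) (ka xa12 ya21 za34)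 (ka xa9 ya17 za0) (ka xa12 ya7 za44) (ka xa12 ya22 za48) (ka xa11 ya23 za4) (ka xa11 ya23 za28) (ka xa12 ya21 za35) (ka xa12 ya21 za36) (ka xa12 ya2 za17) (ka xa11 ya19 za32) (ka xa9 ya17 za9) (ka xa12 ya23 za7) (ka xa12 ya21 za37) (ka xa9 ya17 za12) (ka xa12 ya23 za10) (ka xa12 ya21 za40) (ka xa11 ya7 za26) (ka xa9 ya17 za15) (ka xa12 ya6 za17) (ka xa12 ya23 za14) (ka xa11 ya7 za30) (ka xa11 ya7 za31) (ka xa9 ya17 za21) (ka xa9 ya17 za22) (ka xa12 ya12 za19) (ka xa12 ya23 za17) (ka xa12 ya23 za18) (ka xa11 ya7 za37) (ka xa11 ya7 za38) (ka xa9 ya17 za28) (ka xa12 ya23 za21) (ka xa9 ya17 za31) (ka xa12 ya23 za22) (ka xa11 ya7 za43) (ka xa9 ya17 za34) (ka xa11 ya19 za35) (ka xa11 ya16 za25) (ka xa11 ya7 za47) (ka xa9 ya18 za6) (ka xa9 ya18 za7) (ka xa9 ya18 za8)) (@D3.rec (fun _ => Pt) (ka xa9 ya18 za10) (ka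 xa9 ya18 za11) (ka xa9 ya18 za14) (ka xa9 ya18 za20) (ka xa9 ya18 za30) (ka xa12 ya8 za7) (ka xa12 ya8 za8) (ka xa12 ya8 za2) (ka xa12 ya7 za15) (ka xa12 ya8 za4) (ka xa12 ya7 za19) (ka xa12 ya7 za20) (ka xa10 ya0 za1) (ka xa12 ya7 za24) (ka xa12 ya7 za29) (ka xa12 ya7 za30) (ka xa12 ya7 za31) (ka xa12 ya7 za36) (ka xa12 ya23 za25) (ka xa12 ya23 za26) (ka xa12 ya7 za3) (ka xa12 ya23 za27) (ka xa12 ya23 za28) (ka xa12 ya17 za29) (ka xa12 ya7 za5) (ka xa12 ya7 za6) (ka xa12 ya15 za47) (ka xa12 ya23 za29) (ka xa12 ya23 za30) (ka xa12 ya17 za36) (ka xa12 ya7 za7) (ka xa12 ya7 za8) (ka xa12 ya15 za45) (ka xa12 ya15 za49) (ka xa12 ya23 za31) (ka xa11 ya22 za39) (ka xa12 ya17 za37) (ka xa12 ya7 za9) (ka xa12 ya7 za10) (ka xa12 ya7 za11) (ka xa12 ya15 za48) (ka xa12 ya15 za50) (ka xa11 ya22 za40) (ka xa12 ya17 za38)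 (ka xa12 ya7 za12) (ka xa12 ya1 za28) (ka xa12 ya15 za46) (ka xa12 ya7 za2) (ka xa12 ya12 za22) (ka xa12 ya9 za33) (ka xa12 ya6 za50)) (@D3.rec (fun _ => Pt) (ka xa12 ya7 za4) (ka xa12 ya12 za20) (ka xa9 ya18 za34) (ka xa9 ya20 za6) (ka xa12 ya24 za32) (ka xa12 ya7 za0) (ka xa12 ya7 za1) (ka xa9 ya18 za38) (ka xa12 ya24 za36) (ka xa9 ya18 za41) (ka xa12 ya12 za29) (ka xa9 ya18 za50) (ka xa9 ya22 za30) (ka xa12 ya24 za37) (ka xa9 ya19 za4) (ka xa12 ya24 za38) (ka xa9 ya19 za7) (ka xa12 ya6 za20) (ka xa12 ya15 za44) (ka xa10 ya0 za2) (ka xa9 ya20 za4) (ka xa9 ya20 za5) (ka xa9 ya20 za7) (ka xa9 ya20 za8) (ka xa9 ya20 za10) (ka xa9 ya20 za11) (ka xa9 ya20 za14) (ka xa9 ya20 za20) (ka xa9 ya20 za30) (ka xa9 ya20 za31) (ka xa9 ya20 za32) (ka xa9 ya20 za33) (ka xa9 ya20 za34) (ka xa12 ya25 za4) (ka xa9 ya20 za36)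 (ka xa9 ya20 za37) (ka xa9 ya20 za39) (ka xa9 ya20 za40) (ka xa12 ya25 za11) (ka xa9 ya20 za43) (ka xa9 ya20 za46) (ka xa9 ya19 za33) (ka xa12 ya25 za14) (ka xa9 ya21 za1) (ka xa9 ya19 za37) (ka xa12 ya25 za16) (ka xa9 ya21 za22) (ka xa9 ya21 za23) (ka xa12 ya12 za40) (ka xa9 ya21 za25) (ka xa9 ya21 za26)) (@D3.rec (fun _ => Pt) (ka xa9 ya21 za27) (ka xa9 ya19 za44) (ka xa12 ya12 za37) (ka xa12 ya25 za20) (ka xa9 ya21 za32) (ka xa9 ya21 za33) (ka xa9 ya19 za48) (ka xa12 ya25 za25) (ka xa9 ya20 za0) (ka xa12 ya8 za6) (ka xa12 ya24 za39) (ka xa12 ya24 za40) (ka xa12 ya24 za41) (ka xa12 ya24 za33) (ka xa12 ya24 za34) (ka xa12 ya12 za48) (ka xa12 ya24 za42) (ka xa12 ya24 za43) (ka xa12 ya25 za39) (ka xa12 ya13 za3) (ka xa12 ya12 za4) (ka xa12 ya15 za5) (ka xa12 ya24 za44) (ka xa12 ya24 za45) (ka xa12 ya25 za49)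 (ka xa12 ya13 za7) (ka xa12 ya12 za8) (ka xa12 ya15 za7) (ka xa12 ya24 za46) (ka xa9 ya20 za15) (ka xa12 ya18 za29) (ka xa12 ya26 za4) (ka xa12 ya13 za8) (ka xa12 ya12 za11) (ka xa12 ya11 za4) (ka xa11 ya19 za44) (ka xa12 ya15 za6) (ka xa12 ya15 za8) (ka xa9 ya20 za23) (ka xa12 ya18 za30) (ka xa12 ya26 za14) (ka xa11 ya19 za48) (ka xa11 ya20 za0) (ka xa12 ya11 za18) (ka xa11 ya19 za46) (ka xa11 ya19 za50) (ka xa11 ya20 za2) (ka xa12 ya24 za47) (ka xa12 ya24 za48) (ka xa12 ya24 za49) (ka xa12 ya12 za42)) (@D3.rec (fun _ => Pt) (ka xa12 ya25 za0) (ka xa12 ya25 za1) (ka xa12 ya15 za9) (ka xa12 ya25 za2) (ka xa12 ya25 za3) (ka xa9 ya20 za35) (ka xa12 ya26 za36) (ka xa12 ya26 za37) (ka xa12 ya25 za7) (ka xa12 ya15 za12) (ka xa12 ya25 za8) (ka xa12 ya25 za9) (ka xa11 ya20 za7) (ka xa12 ya15 za14) (ka xa12 ya25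 za10) (ka xa9 ya20 za41) (ka xa13 ya0 za2) (ka xa13 ya0 za3) (ka xa11 ya23 za45) (ka xa12 ya15 za17) (ka xa12 ya25 za13) (ka xa12 ya14 za38) (ka xa12 ya15 za10) (ka xa12 ya15 za18) (ka xa9 ya20 za48) (ka xa9 ya20 za49) (ka xa13 ya0 za13) (ka xa13 ya0 za14) (ka xa13 ya0 za15) (ka xa11 ya20 za6) (ka xa12 ya15 za13) (ka xa12 ya15 za21) (ka xa12 ya10 za8) (ka xa11 ya20 za4) (ka xa11 ya20 za8) (ka xa12 ya15 za15) (ka xa9 ya21 za8) (ka xa9 ya21 za9) (ka xa12 ya17 za24) (ka xa12 ya17 za32) (ka xa13 ya0 za27) (ka xa11 ya23 za21) (ka xa11 ya20 za9) (ka xa11 ya20 za14) (ka xa11 ya20 za20) (ka xa12 ya15 za24) (ka xa12 ya10 za15) (ka xa11 ya20 za11) (ka xa11 ya20 za17) (ka xa11 ya20 za3) (ka xa12 ya14 za39)) (@D3.rec (fun _ => Pt) (ka xa11 ya20 za5) (ka xa12 ya25 za17) (ka xa12 ya12 za43) (ka xa11 ya23 za10) (ka xa12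 ya25 za19) (ka xa12 ya12 za38) (ka xa9 ya21 za31) (ka xa12 ya9 za41) (ka xa12 ya25 za23) (ka xa12 ya25 za24) (ka xa12 ya9 za46) (ka xa9 ya21 za37) (ka xa12 ya10 za1) (ka xa9 ya21 za40) (ka xa11 ya23 za11) (ka xa12 ya10 za7) (ka xa9 ya22 za9) (ka xa12 ya8 za5) (ka xa12 ya2 za27) (ka xa12 ya8 za3) (ka xa9 ya22 za11) (ka xa9 ya22 za26) (ka xa9 ya22 za28) (ka xa9 ya22 za50) (ka xa11 ya20 za31) (ka xa11 ya20 za45) (ka xa11 ya20 za46) (ka xa13 ya1 za3) (ka xa12 ya13 za4) (ka xa13 ya0 za46) (ka xa12 ya12 za5) (ka xa13 ya0 za47) (ka xa12 ya11 za41) (ka xa12 ya11 za39) (ka xa12 ya12 za46) (ka xa12 ya11 za35) (ka xa12 ya11 za45) (ka xa12 ya11 za46) (ka xa9 ya22 za34) (ka xa12 ya12 za47) (ka xa13 ya1 za14) (ka xa12 ya13 za2) (ka xa12 ya12 za3) (ka xa9 ya22 za38) (ka xa13 ya1 za19) (ka xa9 ya22 za41) (ka xa12 ya13 za1)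 (ka xa13 ya0 za48) (ka xa12 ya9 za45) (ka xa12 ya10 za0) (ka xa12 ya10 za6)) (@D3.rec (fun _ => Pt) (ka xa9 ya23 za21) (ka xa11 ya25 za40) (ka xa11 ya17 za20) (ka xa11 ya16 za16) (ka xa11 ya25 za30) (ka xa9 ya23 za20) (ka xa13 ya1 za25) (ka xa13 ya1 za23) (ka xa11 ya13 za8) (ka xa11 ya24 za27) (ka xa11 ya13 za10) (ka xa11 ya13 za11) (ka xa11 ya13 za12) (ka xa12 ya0 za19) (ka xa11 ya13 za14) (ka xa9 ya23 za32) (ka xa13 ya1 za32) (ka xa11 ya13 za17) (ka xa9 ya23 za35) (ka xa13 ya1 za34) (ka xa13 ya1 za33) (ka xa9 ya24 za15) (ka xa9 ya24 za28) (ka xa9 ya24 za33) (ka xa9 ya23 za43) (ka xa12 ya0 za25) (ka xa9 ya24 za36) (ka xa12 ya3 za2) (ka xa12 ya3 za6) (ka xa11 ya18 za21) (ka xa11 ya19 za14) (ka xa11 ya18 za22) (ka xa11 ya18 za20) (ka xa9 ya24 za9) (ka xa9 ya24 za10) (ka xa9 ya24 za11) (ka xa13 ya1 za38) (ka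 xa13 ya1 za39) (ka xa12 ya0 za24) (ka xa11 ya18 za24) (ka xa11 ya18 za27) (ka xa12 ya13 za34) (ka xa12 ya1 za26) (ka xa12 ya7 za37) (ka xa12 ya7 za48) (ka xa12 ya8 za1) (ka xa11 ya22 za28) (ka xa11 ya23 za5) (ka xa11 ya23 za29) (ka xa12 ya2 za20) (ka xa9 ya24 za32)) (@D3.rec (fun _ => Pt) (ka xa13 ya1 za47) (ka xa13 ya1 za35) (ka xa9 ya24 za35) (ka xa12 ya0 za35) (ka xa12 ya2 za33) (ka xa12 ya20 za28) (ka xa12 ya6 za22) (ka xa11 ya14 za7) (ka xa9 ya24 za41) (ka xa9 ya24 za42) (ka xa13 ya2 za2) (ka xa13 ya2 za3) (ka xa11 ya14 za12) (ka xa9 ya24 za46) (ka xa13 ya2 za6) (ka xa11 ya14 za15) (ka xa9 ya24 za49) (ka xa13 ya2 za8) (ka xa13 ya2 za7) (ka xa11 ya14 za19) (ka xa9 ya25 za1) (ka xa9 ya25 za2) (ka xa13 ya1 za31) (ka xa11 ya16 za26) (ka xa11 ya14 za24) (ka xa9 ya25 za4) (ka xa13 ya2 za11) (ka xa9 ya25 za41)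 (ka xa9 ya25 za7) (ka xa13 ya2 za14) (ka xa9 ya25 za50) (ka xa9 ya25 za11) (ka xa13 ya2 za17) (ka xa9 ya26 za10) (ka xa9 ya25 za14) (ka xa11 ya16 za45) (ka xa9 ya26 za25) (ka xa9 ya25 za28) (ka xa9 ya25 za20) (ka xa12 ya9 za50) (ka xa12 ya12 za44) (ka xa9 ya25 za25) (ka xa9 ya26 za31) (ka xa9 ya26 za32) (ka xa9 ya25 za47) (ka xa9 ya25 za37) (ka xa11 ya16 za43) (ka xa9 ya26 za33) (ka xa11 ya16 za44) (ka xa9 ya25 za36) (ka xa13 ya2 za26)) (@D3.rec (fun _ => Pt) (ka xa13 ya2 za24) (ka xa13 ya2 za16) (ka xa11 ya22 za44) (ka xa11 ya22 za27) (ka xa11 ya23 za3) (ka xa11 ya20 za32) (ka xa11 ya23 za40) (ka xa11 ya24 za0) (ka xa13 ya2 za13) (ka xa11 ya20 za34) (ka xa11 ya23 za41) (ka xa11 ya20 za37) (ka xa9 ya25 za46) (ka xa13 ya2 za42) (ka xa13 ya2 za23) (ka xa11 ya23 za46) (ka xa12 ya15 za30) (ka xa11 ya23 za48)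 (ka xa9 ya26 za4) (ka xa9 ya26 za5) (ka xa9 ya26 za6) (ka xa13 ya0 za49) (ka xa13 ya2 za46) (ka xa13 ya2 za47) (ka xa11 ya20 za29) (ka xa11 ya20 za33) (ka xa12 ya15 za27) (ka xa12 ya15 za33) (ka xa13 ya2 za19) (ka xa11 ya20 za30) (ka xa11 ya20 za35) (ka xa9 ya26 za17) (ka xa9 ya26 za18) (ka xa9 ya26 za19) (ka xa10 ya0 za22) (ka xa13 ya3 za5) (ka xa13 ya3 za6) (ka xa11 ya24 za6) (ka xa11 ya20 za36) (ka xa11 ya20 za39) (ka xa11 ya20 za42) (ka xa12 ya15 za36) (ka xa11 ya20 za28) (ka xa13 ya2 za21) (ka xa13 ya2 za22) (ka xa13 ya2 za25) (ka xa9 ya26 za37) (ka xa9 ya26 za38) (ka xa12 ya23 za41) (ka xa10 ya0 za6) (ka xa10 ya0 za7)) (@D3.rec (fun _ => Pt) (ka xa13 ya0 za28) (ka xa13 ya3 za14) (ka xa13 ya3 za15) (ka xa11 ya19 za43) (ka xa11 ya19 za45) (ka xa11 ya19 za47) (ka xa10 ya0 za17) (ka xa13 ya3 za19) (ka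 xa10 ya0 za23) (ka xa10 ya0 za24) (ka xa11 ya20 za38) (ka xa11 ya21 za0) (ka xa13 ya3 za7) (ka xa13 ya3 za20) (ka xa10 ya8 za41) (ka xa11 ya4 za5) (ka xa11 ya13 za3) (ka xa10 ya0 za37) (ka xa10 ya0 za38) (ka xa10 ya0 za39) (ka xa10 ya13 za42) (ka xa10 ya25 za46) (ka xa10 ya16 za36) (ka xa10 ya11 za47) (ka xa13 ya3 za27) (ka xa11 ya7 za46) (ka xa11 ya14 za23) (ka xa11 ya16 za27) (ka xa11 ya16 za28) (ka xa10 ya1 za3) (ka xa10 ya1 za4) (ka xa10 ya1 za5) (ka xa10 ya1 za6) (ka xa10 ya23 za34) (ka xa11 ya7 za9) (ka xa11 ya3 za4) (ka xa10 ya23 za36) (ka xa10 ya22 za24) (ka xa10 ya8 za22) (ka xa13 ya3 za33) (ka xa13 ya3 za34) (ka xa13 ya3 za35) (ka xa10 ya17 za2) (ka xa11 ya14 za46) (ka xa11 ya14 za48) (ka xa11 ya14 za35) (ka xa10 ya1 za12) (ka xa13 ya3 za46) (ka xa11 ya16 za48) (ka xa10 ya1 za15) (ka xa13 ya3 za48))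 (@D3.rec (fun _ => Pt) (ka xa11 ya17 za0) (ka xa10 ya1 za19) (ka xa13 ya4 za0) (ka xa11 ya17 za3) (ka xa10 ya1 za22) (ka xa13 ya3 za44) (ka xa11 ya17 za6) (ka xa10 ya23 za49) (ka xa10 ya23 za50) (ka xa11 ya4 za2) (ka xa11 ya3 za50) (ka xa11 ya4 za3) (ka xa11 ya3 za47) (ka xa10 ya10 za50) (ka xa11 ya4 za0) (ka xa10 ya11 za7) (ka xa10 ya11 za4) (ka xa10 ya11 za8) (ka xa10 ya11 za5) (ka xa10 ya11 za9) (ka xa11 ya13 za2) (ka xa10 ya10 za3) (ka xa10 ya10 za4) (ka xa10 ya9 za36) (ka xa10 ya2 za16) (ka xa10 ya2 za20) (ka xa10 ya2 za21) (ka xa10 ya2 za22) (ka xa10 ya24 za11) (ka xa10 ya24 za0) (ka xa10 ya24 za12) (ka xa10 ya24 za3) (ka xa10 ya24 za4) (ka xa11 ya3 za48) (ka xa10 ya23 za48) (ka xa11 ya3 za38) (ka xa11 ya3 za42) (ka xa13 ya4 za14) (ka xa10 ya9 za43) (ka xa11 ya4 za4) (ka xa11 ya4 za8) (ka xa10 ya11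 za37) (ka xa13 ya4 za15) (ka xa13 ya4 za16) (ka xa10 ya3 za45) (ka xa10 ya24 za50) (ka xa11 ya6 za16) (ka xa10 ya25 za36) (ka xa11 ya6 za13) (ka xa10 ya15 za20) (ka xa10 ya25 za38)) (@D3.rec (fun _ => Pt) (ka xa10 ya3 za38) (ka xa11 ya7 za2) (ka xa11 ya6 za38) (ka xa11 ya7 za3) (ka xa11 ya6 za50) (ka xa11 ya7 za4) (ka xa11 ya6 za46) (ka xa10 ya15 za44) (ka xa11 ya7 za0) (ka xa13 ya4 za49) (ka xa10 ya15 za41) (ka xa11 ya6 za47) (ka xa10 ya15 za45) (ka xa11 ya7 za1) (ka xa10 ya16 za2) (ka xa10 ya16 za6) (ka xa10 ya15 za50) (ka xa10 ya16 za3) (ka xa10 ya16 za7) (ka xa10 ya16 za4) (ka xa11 ya13 za32) (ka xa11 ya13 za29) (ka xa11 ya13 za31) (ka xa13 ya5 za10) (ka xa11 ya13 za39) (ka xa10 ya3 za0) (ka xa13 ya5 za12) (ka xa11 ya13 za40) (ka xa10 ya3 za5) (ka xa13 ya5 za14) (ka xa10 ya3 za8) (ka xa13 ya5 za15) (ka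 xa10 ya14 za2) (ka xa10 ya14 za6) (ka xa10 ya14 za7) (ka xa10 ya14 za9) (ka xa10 ya14 za10) (ka xa10 ya13 za9) (ka xa10 ya14 za12) (ka xa10 ya13 za17) (ka xa10 ya13 za20) (ka xa10 ya11 za32) (ka xa10 ya3 za47) (ka xa10 ya3 za48) (ka xa10 ya4 za2) (ka xa10 ya4 za6) (ka xa10 ya4 za7) (ka xa10 ya4 za8) (ka xa10 ya4 za12) (ka xa10 ya4 za13) (ka xa10 ya4 za14)) (@D3.rec (fun _ => Pt) (ka xa10 ya4 za15) (ka xa10 ya4 za16) (ka xa10 ya4 za17) (ka xa10 ya25 za27) (ka xa10 ya25 za2) (ka xa10 ya25 za31) (ka xa10 ya25 za5) (ka xa10 ya25 za34) (ka xa10 ya25 za8) (ka xa10 ya25 za9) (ka xa10 ya25 za15) (ka xa10 ya25 za16) (ka xa10 ya25 za17) (ka xa11 ya6 za35) (ka xa11 ya13 za30) (ka xa10 ya24 za44) (ka xa13 ya5 za22) (ka xa13 ya5 za23) (ka xa11 ya6 za36) (ka xa10 ya24 za46) (ka xa11 ya6 za20) (ka xa11 ya6 za30) (ka xa13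 ya5 za24) (ka xa11 ya4 za45) (ka xa10 ya24 za47) (ka xa10 ya24 za48) (ka xa10 ya24 za49) (ka xa13 ya5 za25) (ka xa13 ya5 za26) (ka xa13 ya5 za27) (ka xa11 ya7 za5) (ka xa11 ya7 za8) (ka xa11 ya7 za19) (ka xa10 ya13 za28) (ka xa13 ya5 za28) (ka xa11 ya7 za45) (ka xa13 ya5 za29) (ka xa13 ya5 za30) (ka xa13 ya5 za31) (ka xa10 ya24 za45) (ka xa10 ya6 za40) (ka xa11 ya1 za6) (ka xa10 ya6 za38) (ka xa11 ya16 za3) (ka xa11 ya10 za35) (ka xa11 ya16 za4) (ka xa11 ya10 za44) (ka xa11 ya16 za5) (ka xa11 ya10 za41) (ka xa10 ya20 za30) (ka xa11 ya10 za45)) (@D3.rec (fun _ => Pt) (ka xa11 ya10 za42) (ka xa10 ya20 za31) (ka xa11 ya10 za46) (ka xa11 ya11 za49) (ka xa11 ya11 za33) (ka xa11 ya12 za0) (ka xa11 ya11 za29) (ka xa11 ya11 za12) (ka xa11 ya11 za34) (ka xa11 ya11 za42) (ka xa10 ya21 za16) (ka xa11 ya11 za47) (ka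 xa11 ya1 za15) (ka xa10 ya21 za12) (ka xa11 ya11 za43) (ka xa10 ya21 za5) (ka xa10 ya21 za17) (ka xa11 ya11 za48) (ka xa11 ya1 za22) (ka xa10 ya21 za13) (ka xa11 ya11 za44) (ka xa10 ya21 za18) (ka xa10 ya21 za23) (ka xa10 ya21 za27) (ka xa10 ya21 za31) (ka xa10 ya21 za24) (ka xa10 ya21 za28) (ka xa10 ya21 za29) (ka xa11 ya15 za42) (ka xa11 ya15 za24) (ka xa11 ya15 za29) (ka xa11 ya12 za24) (ka xa11 ya15 za5) (ka xa11 ya15 za25) (ka xa11 ya15 za9) (ka xa11 ya15 za30) (ka xa11 ya15 za38) (ka xa11 ya15 za11) (ka xa11 ya16 za10) (ka xa11 ya15 za39) (ka xa10 ya5 za14) (ka xa13 ya7 za30) (ka xa11 ya15 za40) (ka xa11 ya20 za43) (ka xa11 ya20 za44) (ka xa11 ya12 za25) (ka xa11 ya12 za26) (ka xa11 ya20 za47) (ka xa11 ya20 za48) (ka xa11 ya20 za49) (ka xa11 ya20 za50)) (@D3.rec (fun _ => Pt) (ka xa11 ya16 za11) (ka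 xa11 ya21 za1) (ka xa10 ya5 za29) (ka xa10 ya16 za50) (ka xa11 ya21 za4) (ka xa10 ya18 za43) (ka xa10 ya18 za44) (ka xa10 ya18 za45) (ka xa10 ya18 za46) (ka xa10 ya18 za47) (ka xa10 ya18 za48) (ka xa10 ya18 za49) (ka xa10 ya18 za50) (ka xa10 ya19 za0) (ka xa10 ya19 za1) (ka xa10 ya19 za2) (ka xa10 ya19 za3) (ka xa10 ya19 za4) (ka xa10 ya18 za9) (ka xa10 ya19 za5) (ka xa10 ya19 za6) (ka xa10 ya18 za10) (ka xa10 ya19 za7) (ka xa10 ya18 za15) (ka xa10 ya18 za19) (ka xa10 ya18 za23) (ka xa10 ya17 za1) (ka xa10 ya18 za20) (ka xa10 ya6 za39) (ka xa10 ya6 za41) (ka xa10 ya6 za42) (ka xa10 ya6 za43) (ka xa10 ya6 za44) (ka xa10 ya6 za45) (ka xa10 ya6 za46) (ka xa10 ya6 za47) (ka xa10 ya6 za48) (ka xa10 ya7 za0) (ka xa10 ya7 za2) (ka xa10 ya7 za3) (ka xa10 ya7 za4) (ka xa10 ya7 za5) (ka xa10 ya7 za6) (ka xa10 ya7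 za7) (ka xa10 ya7 za8) (ka xa10 ya7 za9) (ka xa10 ya7 za12) (ka xa10 ya7 za15) (ka xa10 ya7 za16) (ka xa10 ya7 za17) (ka xa10 ya7 za18)) (@D3.rec (fun _ => Pt) (ka xa10 ya7 za24) (ka xa10 ya7 za25) (ka xa10 ya7 za26) (ka xa10 ya7 za27) (ka xa10 ya7 za31) (ka xa10 ya7 za32) (ka xa10 ya7 za33) (ka xa10 ya7 za34) (ka xa10 ya7 za35) (ka xa10 ya7 za36) (ka xa10 ya7 za37) (ka xa10 ya7 za38) (ka xa10 ya7 za39) (ka xa10 ya7 za40) (ka xa10 ya7 za45) (ka xa10 ya7 za47) (ka xa10 ya8 za2) (ka xa10 ya8 za5) (ka xa13 ya6 za23) (ka xa13 ya8 za14) (ka xa13 ya8 za15) (ka xa13 ya6 za20) (ka xa13 ya8 za16) (ka xa13 ya8 za17) (ka xa13 ya8 za18) (ka xa13 ya8 za19) (ka xa13 ya8 za20) (ka xa11 ya15 za3) (ka xa11 ya13 za46) (ka xa13 ya8 za21) (ka xa10 ya21 za0) (ka xa10 ya19 za29) (ka xa13 ya8 za22) (ka xa13 ya8 za23) (ka xa13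 ya8 za24) (ka xa13 ya8 za25) (ka xa10 ya21 za10) (ka xa10 ya19 za35) (ka xa13 ya8 za26) (ka xa11 ya8 za35) (ka xa11 ya8 za42) (ka xa13 ya8 za27) (ka xa13 ya8 za28) (ka xa13 ya8 za29) (ka xa11 ya15 za2) (ka xa13 ya8 za30) (ka xa13 ya8 za31) (ka xa13 ya9 za49) (ka xa13 ya8 za32) (ka xa13 ya8 za33) (ka xa13 ya8 za34)) (@D3.rec (fun _ => Pt) (ka xa13 ya8 za35) (ka xa13 ya8 za36) (ka xa13 ya10 za8) (ka xa11 ya15 za4) (ka xa11 ya7 za14) (ka xa11 ya13 za47) (ka xa13 ya8 za37) (ka xa10 ya7 za13) (ka xa10 ya20 za20) (ka xa13 ya10 za14) (ka xa11 ya12 za3) (ka xa11 ya12 za14) (ka xa13 ya8 za38) (ka xa13 ya8 za39) (ka xa13 ya8 za40) (ka xa13 ya8 za41) (ka xa10 ya7 za21) (ka xa10 ya20 za26) (ka xa13 ya10 za26) (ka xa10 ya23 za31) (ka xa10 ya22 za3) (ka xa11 ya11 za41) (ka xa13 ya8 za42) (ka xa13 ya8 za43) (ka xa13 ya8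 za44) (ka xa13 ya8 za45) (ka xa13 ya8 za46) (ka xa10 ya16 za13) (ka xa11 ya7 za15) (ka xa11 ya13 za48) (ka xa13 ya8 za47) (ka xa13 ya8 za48) (ka xa13 ya8 za49) (ka xa13 ya8 za50) (ka xa13 ya9 za0) (ka xa13 ya9 za1) (ka xa13 ya9 za2) (ka xa11 ya2 za39) (ka xa13 ya9 za3) (ka xa13 ya10 za49) (ka xa11 ya15 za6) (ka xa11 ya15 za10) (ka xa10 ya7 za43) (ka xa13 ya11 za1) (ka xa13 ya11 za2) (ka xa11 ya11 za18) (ka xa11 ya15 za15) (ka xa13 ya9 za4) (ka xa11 ya15 za17) (ka xa10 ya7 za48) (ka xa13 ya11 za10)) (@D3.rec (fun _ => Pt) (ka xa11 ya15 za7) (ka xa10 ya8 za1) (ka xa13 ya11 za13) (ka xa13 ya9 za5) (ka xa10 ya8 za4) (ka xa13 ya10 za47) (ka xa11 ya15 za37) (ka xa10 ya8 za6) (ka xa13 ya11 za18) (ka xa11 ya24 za9) (ka xa10 ya8 za10) (ka xa10 ya8 za11) (ka xa13 ya11 za21) (ka xa13 ya11 za22) (ka xa11 ya24 za14)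 (ka xa11 ya24 za15) (ka xa10 ya8 za16) (ka xa13 ya11 za25) (ka xa11 ya24 za18) (ka xa10 ya8 za19) (ka xa13 ya3 za40) (ka xa11 ya24 za21) (ka xa10 ya8 za32) (ka xa10 ya8 za34) (ka xa10 ya8 za36) (ka xa10 ya9 za42) (ka xa13 ya11 za28) (ka xa11 ya13 za9) (ka xa10 ya9 za31) (ka xa13 ya11 za29) (ka xa11 ya24 za30) (ka xa11 ya24 za31) (ka xa13 ya3 za24) (ka xa11 ya24 za33) (ka xa10 ya10 za31) (ka xa10 ya10 za32) (ka xa10 ya24 za5) (ka xa10 ya24 za8) (ka xa10 ya24 za9) (ka xa10 ya24 za10) (ka xa10 ya9 za17) (ka xa10 ya9 za18) (ka xa10 ya9 za19) (ka xa10 ya9 za20) (ka xa10 ya9 za21) (ka xa10 ya9 za22) (ka xa10 ya9 za23) (ka xa10 ya9 za24) (ka xa10 ya9 za25) (ka xa10 ya9 za26) (ka xa10 ya9 za27)) (@D3.rec (fun _ => Pt) (ka xa10 ya9 za28) (ka xa10 ya9 za30) (ka xa10 ya9 za33) (ka xa10 ya9 za34) (ka xa10 ya9 za37)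 (ka xa10 ya9 za38) (ka xa10 ya9 za39) (ka xa10 ya9 za41) (ka xa10 ya9 za44) (ka xa10 ya9 za45) (ka xa13 ya11 za38) (ka xa13 ya11 za39) (ka xa13 ya11 za40) (ka xa13 ya11 za41) (ka xa13 ya11 za42) (ka xa13 ya11 za43) (ka xa13 ya11 za44) (ka xa13 ya11 za45) (ka xa10 ya13 za7) (ka xa13 ya11 za46) (ka xa13 ya11 za47) (ka xa13 ya4 za22) (ka xa13 ya11 za48) (ka xa11 ya3 za41) (ka xa13 ya11 za49) (ka xa13 ya11 za50) (ka xa10 ya11 za38) (ka xa13 ya11 za32) (ka xa11 ya4 za7) (ka xa13 ya12 za0) (ka xa11 ya13 za4) (ka xa10 ya11 za29) (ka xa13 ya11 za30) (ka xa13 ya4 za25) (ka xa13 ya12 za1) (ka xa10 ya9 za49) (ka xa13 ya12 za19) (ka xa10 ya24 za2) (ka xa10 ya24 za13) (ka xa11 ya3 za45) (ka xa11 ya13 za1) (ka xa11 ya3 za34) (ka xa13 ya4 za13) (ka xa10 ya10 za33) (ka xa10 ya10 za34) (ka xa10 ya10 za35) (ka xa10 ya10 za36)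 (ka xa10 ya10 za37) (ka xa10 ya10 za38) (ka xa10 ya10 za39) (ka xa10 ya10 za40)) (@D3.rec (fun _ => Pt) (ka xa10 ya10 za41) (ka xa10 ya10 za42) (ka xa10 ya10 za43) (ka xa10 ya10 za44) (ka xa10 ya10 za45) (ka xa10 ya10 za46) (ka xa13 ya12 za37) (ka xa10 ya10 za48) (ka xa10 ya10 za49) (ka xa10 ya11 za0) (ka xa10 ya11 za1) (ka xa10 ya10 za28) (ka xa10 ya11 za2) (ka xa10 ya11 za3) (ka xa10 ya11 za6) (ka xa11 ya3 za11) (ka xa10 ya11 za10) (ka xa10 ya11 za11) (ka xa13 ya12 za44) (ka xa10 ya11 za14) (ka xa13 ya11 za34) (ka xa13 ya11 za35) (ka xa13 ya11 za36) (ka xa13 ya12 za25) (ka xa13 ya12 za26) (ka xa13 ya12 za27) (ka xa13 ya12 za22) (ka xa13 ya12 za28) (ka xa11 ya3 za17) (ka xa13 ya12 za30) (ka xa13 ya12 za31) (ka xa13 ya4 za3) (ka xa13 ya12 za32) (ka xa13 ya12 za33) (ka xa13 ya12 za3) (ka xa13 ya12 za34) (ka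 xa13 ya12 za35) (ka xa13 ya12 za29) (ka xa13 ya12 za36) (ka xa13 ya12 za38) (ka xa13 ya12 za39) (ka xa10 ya10 za47) (ka xa11 ya3 za14) (ka xa13 ya13 za16) (ka xa13 ya4 za7) (ka xa13 ya12 za41) (ka xa13 ya12 za42) (ka xa13 ya4 za5) (ka xa13 ya4 za9) (ka xa13 ya12 za43) (ka xa13 ya12 za45))
def f_a_12 : D2 → D3 → Pt := @D2.rec (fun _ => D3 → Pt) (@D3.rec (fun _ => Pt) (ka xa10 ya12 za36) (ka xa13 ya4 za11) (ka xa13 ya4 za12) (ka xa13 ya12 za46) (ka xa13 ya12 za48) (ka xa10 ya11 za13) (ka xa13 ya13 za29) (ka xa13 ya12 za50) (ka xa10 ya11 za16) (ka xa12 ya0 za9) (ka xa10 ya11 za27) (ka xa10 ya11 za30) (ka xa10 ya11 za36) (ka xa10 ya11 za39) (ka xa10 ya13 za22) (ka xa10 ya13 za27) (ka xa13 ya13 za32) (ka xa11 ya4 za13) (ka xa11 ya5 za24) (ka xa11 ya13 za13) (ka xa13 ya3 za31) (ka xa10 ya16 za44) (ka xa10 ya13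 za12) (ka xa13 ya13 za33) (ka xa11 ya13 za38) (ka xa11 ya13 za25) (ka xa12 ya0 za26) (ka xa12 ya0 za27) (ka xa12 ya0 za28) (ka xa12 ya0 za29) (ka xa12 ya0 za30) (ka xa12 ya0 za31) (ka xa13 ya3 za29) (ka xa12 ya0 za33) (ka xa10 ya12 za0) (ka xa11 ya14 za3) (ka xa12 ya0 za36) (ka xa11 ya3 za37) (ka xa10 ya25 za37) (ka xa10 ya15 za8) (ka xa10 ya25 za21) (ka xa10 ya25 za23) (ka xa10 ya25 za18) (ka xa10 ya25 za24) (ka xa10 ya25 za19) (ka xa10 ya25 za25) (ka xa10 ya12 za40) (ka xa10 ya12 za41) (ka xa10 ya12 za42) (ka xa10 ya12 za43) (ka xa10 ya12 za44)) (@D3.rec (fun _ => Pt) (ka xa10 ya12 za45) (ka xa10 ya12 za46) (ka xa10 ya12 za47) (ka xa10 ya12 za48) (ka xa10 ya12 za49) (ka xa10 ya12 za50) (ka xa10 ya13 za0) (ka xa10 ya13 za1) (ka xa10 ya13 za2) (ka xa10 ya13 za3) (ka xa10 ya13 za4) (ka xa10 ya13 za5) (ka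 xa13 ya4 za33) (ka xa10 ya13 za8) (ka xa10 ya13 za10) (ka xa10 ya13 za11) (ka xa10 ya13 za13) (ka xa10 ya13 za14) (ka xa10 ya13 za15) (ka xa10 ya13 za18) (ka xa10 ya13 za21) (ka xa10 ya13 za23) (ka xa10 ya13 za24) (ka xa10 ya13 za26) (ka xa10 ya13 za29) (ka xa10 ya13 za30) (ka xa11 ya13 za42) (ka xa10 ya13 za33) (ka xa11 ya8 za45) (ka xa13 ya13 za48) (ka xa13 ya13 za49) (ka xa13 ya13 za50) (ka xa13 ya14 za0) (ka xa13 ya14 za1) (ka xa13 ya14 za2) (ka xa13 ya14 za3) (ka xa13 ya14 za4) (ka xa13 ya4 za50) (ka xa11 ya6 za43) (ka xa13 ya14 za5) (ka xa10 ya25 za13) (ka xa13 ya14 za6) (ka xa13 ya14 za7) (ka xa13 ya14 za8) (ka xa13 ya14 za9) (ka xa13 ya14 za10) (ka xa13 ya14 za11) (ka xa13 ya14 za12) (ka xa13 ya14 za13) (ka xa13 ya14 za14) (ka xa13 ya6 za8)) (@D3.rec (fun _ => Pt) (ka xa13 ya14 za15) (ka xa13 ya14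 za16) (ka xa13 ya14 za17) (ka xa13 ya14 za18) (ka xa10 ya13 za6) (ka xa13 ya4 za32) (ka xa13 ya15 za14) (ka xa11 ya6 za11) (ka xa13 ya12 za9) (ka xa13 ya14 za20) (ka xa11 ya6 za29) (ka xa13 ya5 za19) (ka xa13 ya14 za21) (ka xa13 ya13 za38) (ka xa11 ya7 za7) (ka xa13 ya14 za22) (ka xa13 ya14 za23) (ka xa11 ya7 za18) (ka xa13 ya5 za21) (ka xa13 ya14 za24) (ka xa11 ya13 za49) (ka xa13 ya14 za25) (ka xa10 ya16 za45) (ka xa13 ya13 za34) (ka xa13 ya6 za12) (ka xa10 ya18 za12) (ka xa13 ya14 za26) (ka xa11 ya12 za18) (ka xa13 ya14 za27) (ka xa13 ya13 za35) (ka xa13 ya6 za16) (ka xa13 ya14 za28) (ka xa10 ya13 za32) (ka xa11 ya14 za4) (ka xa13 ya14 za29) (ka xa12 ya2 za35) (ka xa12 ya2 za36) (ka xa10 ya13 za37) (ka xa13 ya3 za36) (ka xa13 ya15 za41) (ka xa12 ya2 za40) (ka xa12 ya2 za41) (ka xa12 ya2 za42) (ka xa13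 ya3 za28) (ka xa10 ya13 za46) (ka xa13 ya15 za44) (ka xa10 ya13 za49) (ka xa13 ya13 za36) (ka xa10 ya25 za29) (ka xa10 ya25 za33) (ka xa10 ya25 za7)) (@D3.rec (fun _ => Pt) (ka xa10 ya25 za35) (ka xa10 ya25 za14) (ka xa11 ya13 za27) (ka xa13 ya5 za16) (ka xa13 ya5 za17) (ka xa11 ya6 za33) (ka xa11 ya13 za28) (ka xa11 ya6 za8) (ka xa13 ya5 za18) (ka xa11 ya5 za30) (ka xa11 ya6 za12) (ka xa13 ya5 za20) (ka xa10 ya15 za6) (ka xa10 ya15 za7) (ka xa10 ya15 za9) (ka xa10 ya15 za10) (ka xa10 ya15 za11) (ka xa10 ya15 za12) (ka xa10 ya15 za13) (ka xa10 ya15 za14) (ka xa10 ya15 za15) (ka xa10 ya15 za16) (ka xa11 ya5 za8) (ka xa10 ya15 za18) (ka xa10 ya15 za19) (ka xa10 ya15 za21) (ka xa10 ya15 za22) (ka xa10 ya15 za23) (ka xa10 ya15 za24) (ka xa10 ya15 za25) (ka xa10 ya15 za26) (ka xa10 ya15 za27) (ka xa10 ya15 za28)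 (ka xa10 ya15 za29) (ka xa10 ya15 za30) (ka xa10 ya15 za31) (ka xa13 ya16 za45) (ka xa10 ya15 za33) (ka xa10 ya15 za34) (ka xa10 ya15 za35) (ka xa10 ya15 za36) (ka xa10 ya15 za37) (ka xa10 ya14 za32) (ka xa11 ya4 za43) (ka xa13 ya17 za1) (ka xa10 ya15 za42) (ka xa10 ya15 za43) (ka xa10 ya15 za46) (ka xa10 ya15 za47) (ka xa10 ya15 za48) (ka xa10 ya15 za49)) (@D3.rec (fun _ => Pt) (ka xa10 ya16 za0) (ka xa10 ya16 za1) (ka xa10 ya16 za5) (ka xa10 ya16 za8) (ka xa10 ya16 za9) (ka xa10 ya16 za10) (ka xa10 ya16 za11) (ka xa13 ya17 za7) (ka xa10 ya16 za14) (ka xa10 ya16 za15) (ka xa10 ya16 za16) (ka xa11 ya4 za33) (ka xa10 ya16 za17) (ka xa10 ya16 za18) (ka xa10 ya15 za0) (ka xa13 ya17 za22) (ka xa10 ya16 za21) (ka xa10 ya15 za4) (ka xa13 ya17 za25) (ka xa10 ya16 za24) (ka xa13 ya16 za10) (ka xa13 ya16 za11) (ka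 xa13 ya16 za12) (ka xa13 ya13 za41) (ka xa13 ya16 za13) (ka xa13 ya16 za14) (ka xa13 ya16 za15) (ka xa13 ya16 za16) (ka xa13 ya16 za17) (ka xa13 ya16 za18) (ka xa13 ya16 za5) (ka xa13 ya16 za19) (ka xa11 ya5 za2) (ka xa13 ya16 za21) (ka xa13 ya16 za22) (ka xa13 ya16 za23) (ka xa13 ya16 za24) (ka xa13 ya16 za25) (ka xa11 ya5 za10) (ka xa13 ya16 za27) (ka xa13 ya16 za28) (ka xa13 ya4 za30) (ka xa13 ya4 za34) (ka xa13 ya16 za29) (ka xa13 ya16 za30) (ka xa13 ya16 za31) (ka xa13 ya16 za32) (ka xa13 ya16 za33) (ka xa13 ya16 za34) (ka xa13 ya18 za17) (ka xa13 ya16 za36)) (@D3.rec (fun _ => Pt) (ka xa13 ya16 za37) (ka xa13 ya16 za38) (ka xa13 ya16 za39) (ka xa13 ya16 za40) (ka xa13 ya16 za20) (ka xa13 ya16 za41) (ka xa13 ya16 za42) (ka xa13 ya16 za43) (ka xa13 ya16 za44) (ka xa10 ya15 za32) (ka xa11 ya4 za41) (ka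 xa13 ya18 za32) (ka xa13 ya16 za47) (ka xa13 ya16 za48) (ka xa13 ya16 za49) (ka xa13 ya4 za46) (ka xa13 ya16 za50) (ka xa13 ya17 za0) (ka xa10 ya15 za40) (ka xa11 ya4 za44) (ka xa13 ya18 za44) (ka xa13 ya4 za44) (ka xa13 ya5 za1) (ka xa13 ya17 za4) (ka xa13 ya17 za5) (ka xa13 ya4 za41) (ka xa13 ya4 za47) (ka xa13 ya5 za3) (ka xa13 ya17 za6) (ka xa13 ya17 za8) (ka xa13 ya17 za9) (ka xa13 ya5 za4) (ka xa13 ya5 za6) (ka xa13 ya17 za10) (ka xa13 ya17 za11) (ka xa13 ya5 za5) (ka xa13 ya5 za7) (ka xa13 ya5 za8) (ka xa13 ya17 za12) (ka xa13 ya10 za37) (ka xa13 ya17 za14) (ka xa13 ya17 za15) (ka xa13 ya17 za16) (ka xa10 ya16 za12) (ka xa13 ya19 za17) (ka xa13 ya19 za18) (ka xa13 ya10 za11) (ka xa13 ya10 za38) (ka xa13 ya17 za18) (ka xa13 ya17 za19) (ka xa13 ya17 za21)) (@D3.rec (fun _ => Pt) (ka xa10 ya16 za20)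 (ka xa13 ya19 za28) (ka xa13 ya17 za24) (ka xa10 ya16 za23) (ka xa13 ya6 za19) (ka xa13 ya17 za27) (ka xa12 ya6 za6) (ka xa10 ya16 za28) (ka xa10 ya16 za29) (ka xa13 ya19 za31) (ka xa13 ya19 za32) (ka xa12 ya6 za11) (ka xa12 ya6 za12) (ka xa10 ya16 za34) (ka xa10 ya16 za46) (ka xa10 ya16 za47) (ka xa13 ya13 za37) (ka xa11 ya7 za28) (ka xa13 ya15 za30) (ka xa13 ya7 za39) (ka xa11 ya9 za17) (ka xa10 ya26 za46) (ka xa11 ya14 za6) (ka xa13 ya3 za43) (ka xa11 ya2 za15) (ka xa11 ya1 za50) (ka xa11 ya2 za16) (ka xa11 ya2 za11) (ka xa11 ya2 za17) (ka xa11 ya2 za7) (ka xa11 ya2 za12) (ka xa11 ya2 za8) (ka xa11 ya2 za13) (ka xa10 ya17 za42) (ka xa10 ya17 za43) (ka xa10 ya17 za44) (ka xa10 ya17 za46) (ka xa10 ya17 za47) (ka xa10 ya17 za49) (ka xa10 ya17 za50) (ka xa10 ya18 za3) (ka xa10 ya18 za4) (ka xa10 ya18 za5)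 (ka xa10 ya18 za11) (ka xa10 ya18 za13) (ka xa10 ya18 za14) (ka xa10 ya18 za16) (ka xa10 ya18 za17) (ka xa10 ya18 za21) (ka xa10 ya18 za25) (ka xa11 ya8 za50)) (@D3.rec (fun _ => Pt) (ka xa11 ya9 za5) (ka xa11 ya9 za6) (ka xa11 ya8 za47) (ka xa11 ya8 za20) (ka xa11 ya9 za0) (ka xa11 ya8 za24) (ka xa11 ya8 za25) (ka xa11 ya8 za30) (ka xa11 ya8 za31) (ka xa11 ya8 za37) (ka xa11 ya8 za38) (ka xa11 ya8 za39) (ka xa11 ya8 za44) (ka xa13 ya19 za48) (ka xa13 ya19 za49) (ka xa11 ya8 za8) (ka xa13 ya19 za50) (ka xa13 ya20 za0) (ka xa11 ya1 za17) (ka xa11 ya8 za10) (ka xa11 ya8 za11) (ka xa13 ya20 za1) (ka xa13 ya20 za2) (ka xa13 ya20 za3) (ka xa11 ya8 za13) (ka xa13 ya15 za33) (ka xa13 ya20 za4) (ka xa13 ya20 za5) (ka xa11 ya1 za18) (ka xa11 ya8 za14) (ka xa11 ya8 za15) (ka xa11 ya8 za16) (ka xa13 ya8 za6) (ka xa13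 ya20 za6) (ka xa13 ya20 za7) (ka xa11 ya1 za26) (ka xa11 ya8 za17) (ka xa11 ya13 za43) (ka xa13 ya8 za7) (ka xa13 ya8 za10) (ka xa13 ya20 za8) (ka xa11 ya5 za14) (ka xa13 ya15 za34) (ka xa13 ya20 za9) (ka xa11 ya7 za12) (ka xa13 ya8 za11) (ka xa13 ya20 za10) (ka xa13 ya20 za11) (ka xa11 ya13 za44) (ka xa13 ya8 za12) (ka xa13 ya8 za13)) (@D3.rec (fun _ => Pt) (ka xa13 ya7 za31) (ka xa11 ya13 za45) (ka xa11 ya8 za7) (ka xa11 ya12 za19) (ka xa11 ya8 za9) (ka xa11 ya12 za17) (ka xa11 ya10 za9) (ka xa11 ya8 za5) (ka xa11 ya8 za6) (ka xa13 ya7 za41) (ka xa13 ya7 za42) (ka xa13 ya7 za43) (ka xa13 ya7 za44) (ka xa13 ya7 za45) (ka xa13 ya7 za46) (ka xa13 ya7 za47) (ka xa13 ya7 za48) (ka xa13 ya7 za49) (ka xa13 ya7 za50) (ka xa13 ya8 za0) (ka xa13 ya8 za1) (ka xa13 ya8 za2) (ka xa13 ya8 za3) (ka xa13 ya8 za4) (ka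 xa13 ya8 za5) (ka xa13 ya8 za8) (ka xa13 ya8 za9) (ka xa10 ya20 za8) (ka xa10 ya20 za9) (ka xa10 ya20 za10) (ka xa10 ya20 za11) (ka xa10 ya20 za12) (ka xa10 ya20 za13) (ka xa10 ya20 za15) (ka xa10 ya20 za16) (ka xa10 ya20 za18) (ka xa10 ya20 za19) (ka xa10 ya20 za23) (ka xa10 ya20 za24) (ka xa10 ya20 za25) (ka xa10 ya20 za32) (ka xa10 ya20 za33) (ka xa10 ya20 za34) (ka xa10 ya20 za35) (ka xa10 ya20 za36) (ka xa10 ya20 za37) (ka xa13 ya9 za28) (ka xa10 ya20 za39) (ka xa10 ya20 za40) (ka xa10 ya20 za41) (ka xa10 ya20 za42)) (@D3.rec (fun _ => Pt) (ka xa10 ya20 za43) (ka xa10 ya20 za45) (ka xa10 ya20 za46) (ka xa10 ya20 za47) (ka xa10 ya20 za48) (ka xa10 ya20 za49) (ka xa13 ya9 za29) (ka xa10 ya21 za2) (ka xa10 ya21 za3) (ka xa10 ya21 za4) (ka xa10 ya21 za6) (ka xa10 ya21 za7) (ka xa13 ya9 za35) (ka xa10 ya21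 za14) (ka xa10 ya21 za19) (ka xa10 ya21 za20) (ka xa10 ya21 za21) (ka xa10 ya21 za22) (ka xa10 ya21 za25) (ka xa10 ya21 za26) (ka xa10 ya21 za30) (ka xa10 ya21 za32) (ka xa10 ya21 za33) (ka xa10 ya21 za34) (ka xa10 ya21 za36) (ka xa10 ya21 za37) (ka xa10 ya21 za38) (ka xa10 ya19 za50) (ka xa13 ya22 za46) (ka xa13 ya22 za47) (ka xa10 ya21 za43) (ka xa10 ya21 za44) (ka xa10 ya20 za5) (ka xa11 ya8 za49) (ka xa13 ya21 za40) (ka xa13 ya21 za41) (ka xa13 ya21 za42) (ka xa13 ya21 za43) (ka xa13 ya21 za44) (ka xa13 ya21 za45) (ka xa13 ya21 za46) (ka xa11 ya12 za7) (ka xa13 ya21 za47) (ka xa13 ya21 za48) (ka xa13 ya10 za15) (ka xa11 ya12 za48) (ka xa11 ya12 za10) (ka xa13 ya21 za49) (ka xa13 ya21 za50) (ka xa13 ya22 za0) (ka xa11 ya14 za39)) (@D3.rec (fun _ => Pt) (ka xa11 ya12 za49) (ka xa11 ya12 za12) (ka xa13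 ya22 za1) (ka xa13 ya22 za2) (ka xa13 ya22 za3) (ka xa13 ya10 za16) (ka xa11 ya12 za50) (ka xa11 ya12 za15) (ka xa11 ya11 za32) (ka xa13 ya6 za33) (ka xa13 ya22 za4) (ka xa13 ya22 za5) (ka xa13 ya10 za27) (ka xa11 ya0 za23) (ka xa11 ya0 za29) (ka xa11 ya11 za46) (ka xa13 ya6 za30) (ka xa13 ya6 za34) (ka xa13 ya6 za37) (ka xa13 ya22 za6) (ka xa13 ya22 za7) (ka xa13 ya22 za8) (ka xa13 ya22 za9) (ka xa13 ya24 za8) (ka xa13 ya22 za10) (ka xa13 ya22 za11) (ka xa13 ya22 za12) (ka xa13 ya22 za13) (ka xa13 ya22 za14) (ka xa10 ya20 za38) (ka xa13 ya24 za18) (ka xa13 ya24 za19) (ka xa13 ya22 za17) (ka xa13 ya22 za18) (ka xa13 ya22 za19) (ka xa13 ya22 za20) (ka xa13 ya6 za46) (ka xa13 ya22 za21) (ka xa13 ya22 za22) (ka xa10 ya20 za44) (ka xa13 ya9 za22) (ka xa13 ya24 za35) (ka xa13 ya22 za23) (ka xa13 ya22 za24) (ka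 xa13 ya22 za25) (ka xa13 ya22 za26) (ka xa13 ya22 za27) (ka xa13 ya22 za28) (ka xa10 ya21 za1) (ka xa13 ya9 za16) (ka xa13 ya9 za27)) (@D3.rec (fun _ => Pt) (ka xa13 ya24 za47) (ka xa13 ya7 za4) (ka xa13 ya22 za30) (ka xa13 ya22 za31) (ka xa11 ya10 za34) (ka xa13 ya7 za0) (ka xa13 ya7 za7) (ka xa13 ya22 za32) (ka xa13 ya22 za33) (ka xa10 ya21 za11) (ka xa11 ya1 za14) (ka xa11 ya1 za21) (ka xa13 ya9 za34) (ka xa13 ya10 za31) (ka xa13 ya6 za49) (ka xa13 ya7 za5) (ka xa13 ya7 za10) (ka xa13 ya22 za34) (ka xa11 ya10 za43) (ka xa13 ya7 za1) (ka xa13 ya7 za8) (ka xa13 ya7 za12) (ka xa13 ya22 za35) (ka xa13 ya7 za13) (ka xa13 ya22 za36) (ka xa13 ya22 za37) (ka xa13 ya22 za38) (ka xa13 ya7 za14) (ka xa13 ya7 za16) (ka xa13 ya22 za39) (ka xa13 ya22 za40) (ka xa13 ya7 za15) (ka xa13 ya7 za17) (ka xa13 ya7 za18) (ka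 xa13 ya25 za34) (ka xa11 ya12 za35) (ka xa13 ya22 za41) (ka xa13 ya22 za42) (ka xa13 ya22 za43) (ka xa11 ya12 za33) (ka xa10 ya21 za35) (ka xa11 ya12 za32) (ka xa13 ya25 za39) (ka xa13 ya22 za44) (ka xa13 ya22 za45) (ka xa11 ya12 za36) (ka xa11 ya12 za37) (ka xa10 ya21 za41) (ka xa10 ya21 za42) (ka xa13 ya23 za12) (ka xa13 ya25 za44)) (@D3.rec (fun _ => Pt) (ka xa13 ya25 za45) (ka xa13 ya22 za50) (ka xa13 ya23 za0) (ka xa11 ya12 za42) (ka xa11 ya10 za20) (ka xa11 ya12 za30) (ka xa10 ya21 za48) (ka xa13 ya26 za2) (ka xa11 ya10 za26) (ka xa10 ya22 za0) (ka xa13 ya10 za30) (ka xa11 ya10 za33) (ka xa10 ya22 za11) (ka xa10 ya22 za15) (ka xa10 ya22 za16) (ka xa10 ya22 za48) (ka xa13 ya3 za37) (ka xa10 ya22 za21) (ka xa13 ya3 za39) (ka xa11 ya7 za34) (ka xa11 ya9 za1) (ka xa11 ya5 za16) (ka xa11 ya8 za48) (ka xa10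 ya22 za44) (ka xa10 ya22 za45) (ka xa10 ya22 za47) (ka xa10 ya23 za15) (ka xa10 ya22 za40) (ka xa10 ya23 za22) (ka xa11 ya9 za10) (ka xa11 ya2 za26) (ka xa11 ya2 za47) (ka xa13 ya26 za14) (ka xa11 ya2 za20) (ka xa13 ya26 za8) (ka xa11 ya2 za42) (ka xa13 ya26 za9) (ka xa11 ya10 za2) (ka xa11 ya12 za5) (ka xa10 ya23 za0) (ka xa11 ya9 za48) (ka xa13 ya26 za22) (ka xa11 ya10 za50) (ka xa11 ya12 za2) (ka xa11 ya14 za40) (ka xa10 ya23 za7) (ka xa11 ya12 za34) (ka xa11 ya12 za39) (ka xa11 ya10 za15) (ka xa10 ya23 za21) (ka xa13 ya10 za18)) (@D3.rec (fun _ => Pt) (ka xa13 ya26 za10) (ka xa11 ya12 za46) (ka xa11 ya12 za41) (ka xa11 ya10 za19) (ka xa11 ya12 za28) (ka xa10 ya23 za28) (ka xa13 ya10 za29) (ka xa11 ya10 za25) (ka xa11 ya10 za32) (ka xa10 ya24 za1) (ka xa11 ya4 za1) (ka xa11 ya3 za19) (ka xa10 ya24 za6)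 (ka xa10 ya24 za7) (ka xa13 ya4 za21) (ka xa13 ya4 za4) (ka xa13 ya4 za17) (ka xa13 ya26 za36) (ka xa13 ya12 za5) (ka xa13 ya12 za20) (ka xa11 ya3 za39) (ka xa13 ya4 za18) (ka xa13 ya4 za19) (ka xa13 ya11 za37) (ka xa13 ya26 za38) (ka xa10 ya25 za0) (ka xa10 ya25 za1) (ka xa10 ya25 za6) (ka xa11 ya6 za14) (ka xa11 ya6 za17) (ka xa11 ya6 za26) (ka xa11 ya6 za39) (ka xa11 ya6 za40) (ka xa11 ya6 za48) (ka xa11 ya13 za41) (ka xa11 ya5 za4) (ka xa11 ya5 za13) (ka xa11 ya5 za5) (ka xa11 ya5 za12) (ka xa10 ya25 za3) (ka xa10 ya25 za4) (ka xa10 ya25 za10) (ka xa10 ya25 za11) (ka xa10 ya25 za12) (ka xa10 ya25 za20) (ka xa10 ya25 za22) (ka xa10 ya25 za26) (ka xa10 ya25 za28) (ka xa13 ya5 za45) (ka xa13 ya5 za46) (ka xa13 ya6 za0)) (@D3.rec (fun _ => Pt) (ka xa13 ya6 za5) (ka xa13 ya6 za6) (ka xa13 ya6 za7) (ka xa13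 ya4 za28) (ka xa13 ya4 za29) (ka xa13 ya5 za32) (ka xa13 ya26 za46) (ka xa13 ya26 za47) (ka xa13 ya15 za45) (ka xa13 ya5 za34) (ka xa13 ya5 za35) (ka xa14 ya0 za5) (ka xa14 ya0 za6) (ka xa14 ya0 za7) (ka xa13 ya15 za17) (ka xa13 ya5 za36) (ka xa13 ya26 za48) (ka xa13 ya14 za46) (ka xa13 ya15 za48) (ka xa13 ya5 za37) (ka xa13 ya5 za38) (ka xa13 ya5 za39) (ka xa13 ya13 za42) (ka xa14 ya0 za8) (ka xa14 ya0 za9) (ka xa13 ya14 za47) (ka xa13 ya15 za49) (ka xa13 ya5 za40) (ka xa13 ya5 za41) (ka xa13 ya5 za42) (ka xa13 ya4 za35) (ka xa13 ya13 za44) (ka xa13 ya13 za46) (ka xa13 ya13 za47) (ka xa13 ya13 za43) (ka xa13 ya13 za45) (ka xa13 ya5 za33) (ka xa13 ya15 za46) (ka xa11 ya11 za21) (ka xa11 ya11 za50) (ka xa13 ya15 za47) (ka xa13 ya13 za40) (ka xa13 ya4 za31) (ka xa10 ya25 za40) (ka xa10 ya25 za42) (ka xa10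 ya25 za44) (ka xa10 ya25 za49) (ka xa14 ya0 za47) (ka xa12 ya14 za48) (ka xa10 ya26 za1) (ka xa13 ya4 za2)) (@D3.rec (fun _ => Pt) (ka xa12 ya15 za0) (ka xa11 ya1 za7) (ka xa11 ya1 za8) (ka xa11 ya1 za4) (ka xa11 ya1 za5) (ka xa11 ya10 za21) (ka xa11 ya10 za36) (ka xa11 ya10 za27) (ka xa11 ya10 za37) (ka xa11 ya11 za2) (ka xa11 ya11 za22) (ka xa14 ya1 za8) (ka xa11 ya11 za9) (ka xa11 ya11 za30) (ka xa11 ya11 za13) (ka xa11 ya11 za35) (ka xa14 ya1 za14) (ka xa11 ya11 za19) (ka xa11 ya11 za23) (ka xa10 ya26 za18) (ka xa14 ya1 za17) (ka xa11 ya11 za31) (ka xa10 ya26 za22) (ka xa14 ya1 za20) (ka xa11 ya11 za45) (ka xa10 ya26 za24) (ka xa14 ya1 za22) (ka xa11 ya15 za26) (ka xa10 ya26 za27) (ka xa14 ya1 za25) (ka xa11 ya15 za16) (ka xa10 ya26 za31) (ka xa14 ya1 za28) (ka xa11 ya15 za27) (ka xa10 ya26 za34) (ka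 xa13 ya11 za16) (ka xa11 ya15 za41) (ka xa10 ya26 za37) (ka xa14 ya1 za31) (ka xa12 ya15 za39) (ka xa10 ya26 za40) (ka xa14 ya1 za33) (ka xa10 ya26 za43) (ka xa13 ya19 za36) (ka xa11 ya9 za18) (ka xa11 ya8 za32) (ka xa11 ya8 za46) (ka xa11 ya8 za26) (ka xa11 ya8 za40) (ka xa11 ya8 za33) (ka xa11 ya8 za41)) (@D3.rec (fun _ => Pt) (ka xa11 ya1 za9) (ka xa11 ya1 za10) (ka xa11 ya1 za11) (ka xa11 ya1 za12) (ka xa11 ya1 za13) (ka xa11 ya1 za16) (ka xa11 ya1 za19) (ka xa11 ya1 za23) (ka xa11 ya1 za27) (ka xa11 ya1 za28) (ka xa11 ya1 za29) (ka xa11 ya1 za30) (ka xa11 ya1 za31) (ka xa13 ya23 za38) (ka xa11 ya1 za33) (ka xa11 ya1 za34) (ka xa11 ya1 za35) (ka xa11 ya1 za36) (ka xa11 ya1 za37) (ka xa13 ya23 za45) (ka xa11 ya1 za39) (ka xa11 ya1 za40) (ka xa11 ya1 za41) (ka xa11 ya1 za42) (ka xa11 ya1 za43) (ka xa13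 ya23 za46) (ka xa11 ya1 za47) (ka xa11 ya1 za48) (ka xa11 ya1 za49) (ka xa11 ya2 za0) (ka xa11 ya2 za1) (ka xa13 ya23 za47) (ka xa11 ya2 za9) (ka xa11 ya2 za10) (ka xa11 ya2 za14) (ka xa11 ya2 za18) (ka xa11 ya2 za19) (ka xa13 ya26 za15) (ka xa11 ya2 za21) (ka xa11 ya2 za22) (ka xa11 ya2 za23) (ka xa11 ya2 za24) (ka xa11 ya0 za41) (ka xa13 ya26 za11) (ka xa14 ya2 za35) (ka xa11 ya2 za28) (ka xa11 ya2 za29) (ka xa11 ya2 za30) (ka xa11 ya2 za31) (ka xa11 ya0 za46) (ka xa14 ya2 za42)) (@D3.rec (fun _ => Pt) (ka xa11 ya2 za34) (ka xa11 ya0 za50) (ka xa14 ya2 za45) (ka xa11 ya2 za37) (ka xa11 ya1 za2) (ka xa13 ya10 za48) (ka xa11 ya2 za40) (ka xa13 ya11 za6) (ka xa14 ya1 za1) (ka xa14 ya1 za2) (ka xa13 ya6 za21) (ka xa13 ya6 za22) (ka xa14 ya0 za49) (ka xa14 ya0 za50) (ka xa14 ya1 za0) (ka xa13 ya24 za48) (ka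 xa14 ya1 za39) (ka xa14 ya1 za40) (ka xa13 ya20 za38) (ka xa14 ya1 za41) (ka xa14 ya1 za42) (ka xa13 ya25 za10) (ka xa14 ya1 za43) (ka xa14 ya1 za44) (ka xa11 ya11 za38) (ka xa13 ya25 za11) (ka xa13 ya6 za43) (ka xa13 ya7 za3) (ka xa14 ya1 za45) (ka xa11 ya8 za23) (ka xa13 ya20 za39) (ka xa13 ya20 za50) (ka xa11 ya11 za39) (ka xa13 ya25 za12) (ka xa13 ya7 za9) (ka xa14 ya1 za46) (ka xa11 ya8 za29) (ka xa11 ya8 za36) (ka xa11 ya8 za43) (ka xa14 ya1 za47) (ka xa14 ya1 za48) (ka xa14 ya1 za49) (ka xa13 ya26 za17) (ka xa14 ya2 za0) (ka xa14 ya2 za1) (ka xa14 ya2 za2) (ka xa14 ya2 za3) (ka xa14 ya2 za4) (ka xa11 ya1 za32) (ka xa14 ya3 za47) (ka xa14 ya3 za48)) (@D3.rec (fun _ => Pt) (ka xa14 ya2 za7) (ka xa14 ya2 za8) (ka xa14 ya2 za9) (ka xa14 ya2 za10) (ka xa13 ya19 za41) (ka xa14 ya2 za11) (ka xa14 ya2 za12)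 (ka xa11 ya1 za38) (ka xa14 ya4 za13) (ka xa14 ya4 za14) (ka xa14 ya2 za14) (ka xa14 ya2 za15) (ka xa14 ya2 za16) (ka xa14 ya2 za17) (ka xa14 ya2 za18) (ka xa11 ya1 za45) (ka xa11 ya1 za46) (ka xa14 ya4 za22) (ka xa14 ya4 za23) (ka xa14 ya4 za24) (ka xa13 ya19 za40) (ka xa14 ya2 za20) (ka xa14 ya2 za21) (ka xa14 ya2 za22) (ka xa13 ya19 za38) (ka xa13 ya19 za42) (ka xa14 ya2 za23) (ka xa11 ya2 za5) (ka xa11 ya2 za6) (ka xa11 ya10 za30) (ka xa11 ya10 za39) (ka xa14 ya4 za36) (ka xa13 ya10 za36) (ka xa13 ya19 za43) (ka xa13 ya19 za45) (ka xa13 ya19 za47) (ka xa14 ya2 za25) (ka xa14 ya2 za26) (ka xa13 ya19 za44) (ka xa13 ya19 za46) (ka xa13 ya19 za39) (ka xa14 ya2 za28) (ka xa14 ya2 za29) (ka xa13 ya26 za18) (ka xa14 ya2 za31) (ka xa14 ya2 za32) (ka xa14 ya2 za33) (ka xa14 ya2 za34) (ka xa11 ya2 za27) (ka xa13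 ya23 za3) (ka xa13 ya26 za12)) (@D3.rec (fun _ => Pt) (ka xa14 ya5 za0) (ka xa13 ya9 za8) (ka xa14 ya2 za39) (ka xa14 ya2 za40) (ka xa14 ya2 za41) (ka xa11 ya2 za33) (ka xa14 ya5 za9) (ka xa14 ya2 za44) (ka xa11 ya2 za36) (ka xa13 ya10 za44) (ka xa14 ya2 za47) (ka xa13 ya26 za20) (ka xa12 ya19 za12) (ka xa11 ya2 za48) (ka xa13 ya26 za13) (ka xa13 ya3 za38) (ka xa11 ya3 za2) (ka xa11 ya3 za15) (ka xa11 ya3 za16) (ka xa11 ya3 za18) (ka xa11 ya3 za20) (ka xa13 ya12 za47) (ka xa11 ya3 za21) (ka xa13 ya13 za17) (ka xa14 ya5 za13) (ka xa14 ya5 za14) (ka xa13 ya13 za5) (ka xa14 ya5 za15) (ka xa13 ya26 za37) (ka xa14 ya5 za17) (ka xa11 ya3 za35) (ka xa11 ya3 za36) (ka xa11 ya3 za40) (ka xa11 ya3 za43) (ka xa11 ya3 za49) (ka xa11 ya4 za6) (ka xa11 ya4 za11) (ka xa13 ya12 za23) (ka xa14 ya5 za22) (ka xa13 ya4 za23)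 (ka xa13 ya26 za43) (ka xa14 ya5 za23) (ka xa13 ya12 za13) (ka xa13 ya4 za24) (ka xa11 ya3 za46) (ka xa13 ya12 za21) (ka xa14 ya5 za32) (ka xa13 ya4 za8) (ka xa13 ya4 za20) (ka xa14 ya5 za24) (ka xa13 ya4 za6)) (@D3.rec (fun _ => Pt) (ka xa13 ya4 za10) (ka xa13 ya4 za26) (ka xa13 ya3 za25) (ka xa13 ya12 za15) (ka xa13 ya4 za27) (ka xa11 ya4 za10) (ka xa14 ya5 za40) (ka xa14 ya5 za25) (ka xa11 ya4 za15) (ka xa11 ya4 za39) (ka xa11 ya4 za40) (ka xa11 ya4 za42) (ka xa11 ya4 za46) (ka xa11 ya4 za47) (ka xa11 ya4 za48) (ka xa11 ya4 za49) (ka xa11 ya4 za50) (ka xa11 ya5 za0) (ka xa11 ya5 za1) (ka xa11 ya5 za3) (ka xa11 ya5 za6) (ka xa11 ya5 za11) (ka xa13 ya17 za13) (ka xa11 ya5 za15) (ka xa11 ya5 za17) (ka xa13 ya17 za20) (ka xa11 ya5 za18) (ka xa11 ya4 za37) (ka xa11 ya14 za5) (ka xa11 ya5 za21) (ka xa13 ya18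 za33) (ka xa14 ya5 za43) (ka xa14 ya5 za44) (ka xa13 ya18 za34) (ka xa14 ya5 za45) (ka xa13 ya17 za2) (ka xa13 ya18 za45) (ka xa13 ya6 za4) (ka xa14 ya5 za46) (ka xa14 ya5 za47) (ka xa14 ya5 za48) (ka xa14 ya5 za49) (ka xa14 ya0 za2) (ka xa14 ya5 za50) (ka xa14 ya6 za0) (ka xa14 ya6 za1) (ka xa13 ya17 za38) (ka xa13 ya17 za48) (ka xa14 ya6 za2) (ka xa14 ya0 za3) (ka xa14 ya0 za4)) (@D3.rec (fun _ => Pt) (ka xa11 ya5 za9) (ka xa13 ya16 za26) (ka xa14 ya6 za29) (ka xa13 ya18 za4) (ka xa14 ya6 za3) (ka xa13 ya20 za14) (ka xa13 ya21 za10) (ka xa14 ya6 za5) (ka xa13 ya26 za7) (ka xa14 ya6 za7) (ka xa11 ya5 za20) (ka xa13 ya15 za29) (ka xa14 ya6 za9) (ka xa11 ya6 za5) (ka xa11 ya6 za6) (ka xa11 ya6 za7) (ka xa11 ya6 za9) (ka xa11 ya6 za10) (ka xa13 ya16 za8) (ka xa11 ya6 za15) (ka xa11 ya6 za18) (ka xa11 ya6 za19)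 (ka xa11 ya6 za21) (ka xa11 ya6 za22) (ka xa11 ya6 za24) (ka xa11 ya6 za25) (ka xa11 ya6 za27) (ka xa11 ya6 za28) (ka xa11 ya6 za31) (ka xa11 ya6 za37) (ka xa11 ya5 za43) (ka xa14 ya7 za4) (ka xa11 ya6 za49) (ka xa11 ya7 za6) (ka xa11 ya7 za10) (ka xa11 ya7 za16) (ka xa11 ya7 za17) (ka xa11 ya7 za22) (ka xa11 ya6 za3) (ka xa13 ya15 za40) (ka xa11 ya7 za25) (ka xa13 ya16 za1) (ka xa14 ya6 za40) (ka xa14 ya6 za41) (ka xa14 ya6 za42) (ka xa14 ya6 za43) (ka xa13 ya16 za6) (ka xa14 ya6 za44) (ka xa13 ya15 za18) (ka xa13 ya16 za9) (ka xa13 ya26 za49)) (@D3.rec (fun _ => Pt) (ka xa14 ya6 za46) (ka xa13 ya6 za1) (ka xa14 ya6 za47) (ka xa14 ya6 za48) (ka xa13 ya15 za11) (ka xa13 ya5 za47) (ka xa13 ya6 za2) (ka xa14 ya6 za49) (ka xa14 ya6 za50) (ka xa11 ya6 za23) (ka xa14 ya7 za31) (ka xa14 ya7 za32) (ka xa13 ya9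 za46) (ka xa13 ya5 za43) (ka xa14 ya7 za0) (ka xa14 ya7 za1) (ka xa13 ya4 za39) (ka xa13 ya26 za50) (ka xa14 ya7 za2) (ka xa13 ya15 za21) (ka xa13 ya6 za3) (ka xa11 ya6 za34) (ka xa13 ya15 za50) (ka xa13 ya16 za4) (ka xa14 ya7 za49) (ka xa13 ya4 za38) (ka xa13 ya5 za44) (ka xa13 ya5 za50) (ka xa14 ya7 za3) (ka xa13 ya4 za36) (ka xa13 ya4 za40) (ka xa14 ya0 za0) (ka xa11 ya6 za44) (ka xa11 ya6 za45) (ka xa13 ya14 za44) (ka xa14 ya8 za8) (ka xa14 ya8 za9) (ka xa13 ya4 za45) (ka xa13 ya5 za2) (ka xa14 ya0 za1) (ka xa14 ya7 za6) (ka xa13 ya4 za42) (ka xa13 ya4 za48) (ka xa13 ya4 za37) (ka xa13 ya6 za13) (ka xa14 ya7 za7) (ka xa13 ya15 za24) (ka xa13 ya6 za14) (ka xa11 ya7 za13) (ka xa13 ya21 za2) (ka xa13 ya21 za13)) (@D3.rec (fun _ => Pt) (ka xa14 ya8 za20) (ka xa13 ya9 za24) (ka xa13 ya10 za12) (ka xa13 ya10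 za39) (ka xa14 ya7 za8) (ka xa13 ya15 za27) (ka xa13 ya6 za15) (ka xa11 ya7 za21) (ka xa14 ya8 za29) (ka xa14 ya7 za9) (ka xa11 ya7 za24) (ka xa13 ya6 za18) (ka xa13 ya15 za39) (ka xa14 ya6 za8) (ka xa11 ya7 za29) (ka xa13 ya19 za34) (ka xa14 ya8 za34) (ka xa11 ya7 za35) (ka xa11 ya7 za36) (ka xa13 ya26 za6) (ka xa14 ya8 za35) (ka xa11 ya7 za40) (ka xa11 ya7 za42) (ka xa13 ya6 za17) (ka xa13 ya3 za30) (ka xa11 ya8 za18) (ka xa11 ya8 za19) (ka xa11 ya8 za21) (ka xa11 ya8 za22) (ka xa11 ya8 za27) (ka xa11 ya8 za28) (ka xa11 ya8 za34) (ka xa13 ya20 za40) (ka xa13 ya21 za20) (ka xa13 ya20 za30) (ka xa13 ya21 za19) (ka xa13 ya20 za33) (ka xa13 ya20 za34) (ka xa13 ya20 za41) (ka xa13 ya20 za42) (ka xa13 ya20 za43) (ka xa11 ya15 za48) (ka xa13 ya20 za47) (ka xa13 ya21 za0) (ka xa13 ya21 za1) (ka xa13 ya20 za17)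 (ka xa14 ya8 za36) (ka xa14 ya8 za37) (ka xa13 ya23 za1) (ka xa13 ya20 za19) (ka xa13 ya20 za20)) (@D3.rec (fun _ => Pt) (ka xa14 ya1 za34) (ka xa14 ya8 za38) (ka xa14 ya8 za39) (ka xa14 ya3 za17) (ka xa14 ya3 za28) (ka xa13 ya20 za15) (ka xa13 ya20 za21) (ka xa13 ya20 za22) (ka xa13 ya20 za23) (ka xa14 ya1 za36) (ka xa14 ya8 za40) (ka xa13 ya9 za37) (ka xa14 ya3 za32) (ka xa13 ya20 za24) (ka xa13 ya20 za25) (ka xa13 ya20 za26) (ka xa13 ya14 za30) (ka xa14 ya1 za35) (ka xa14 ya1 za38) (ka xa13 ya9 za31) (ka xa13 ya9 za38) (ka xa14 ya3 za33) (ka xa13 ya20 za27) (ka xa13 ya20 za28) (ka xa14 ya1 za37) (ka xa13 ya9 za39) (ka xa13 ya20 za29) (ka xa13 ya14 za31) (ka xa13 ya20 za18) (ka xa13 ya23 za2) (ka xa13 ya20 za12) (ka xa13 ya20 za13) (ka xa11 ya9 za4) (ka xa11 ya10 za13) (ka xa11 ya10 za14) (ka xa13 ya20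 za16) (ka xa11 ya9 za8) (ka xa11 ya9 za13) (ka xa11 ya9 za15) (ka xa11 ya10 za10) (ka xa11 ya10 za11) (ka xa11 ya10 za12) (ka xa11 ya10 za16) (ka xa11 ya10 za17) (ka xa11 ya10 za22) (ka xa11 ya10 za23) (ka xa11 ya10 za28) (ka xa11 ya10 za47) (ka xa11 ya10 za48) (ka xa11 ya10 za49) (ka xa13 ya26 za23)) (@D3.rec (fun _ => Pt) (ka xa11 ya11 za0) (ka xa11 ya11 za1) (ka xa11 ya11 za3) (ka xa11 ya11 za4) (ka xa11 ya9 za33) (ka xa14 ya10 za5) (ka xa14 ya10 za6) (ka xa11 ya11 za8) (ka xa11 ya11 za10) (ka xa11 ya11 za11) (ka xa11 ya11 za14) (ka xa11 ya9 za38) (ka xa14 ya10 za14) (ka xa11 ya11 za20) (ka xa11 ya9 za42) (ka xa14 ya10 za16) (ka xa11 ya9 za45) (ka xa11 ya12 za1) (ka xa13 ya26 za24) (ka xa11 ya12 za4) (ka xa11 ya10 za3) (ka xa13 ya23 za15) (ka xa13 ya26 za21) (ka xa11 ya12 za8) (ka xa11 ya12 za9) (ka xa11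 ya10 za7) (ka xa14 ya10 za20) (ka xa14 ya9 za39) (ka xa14 ya9 za40) (ka xa14 ya9 za41) (ka xa14 ya9 za42) (ka xa13 ya25 za40) (ka xa14 ya9 za14) (ka xa14 ya9 za37) (ka xa13 ya26 za25) (ka xa13 ya26 za29) (ka xa13 ya25 za43) (ka xa14 ya9 za43) (ka xa14 ya9 za44) (ka xa11 ya10 za18) (ka xa14 ya10 za38) (ka xa14 ya10 za39) (ka xa13 ya26 za34) (ka xa13 ya26 za35) (ka xa13 ya26 za0) (ka xa13 ya24 za30) (ka xa13 ya6 za27) (ka xa14 ya1 za3) (ka xa14 ya9 za45) (ka xa11 ya10 za24) (ka xa14 ya4 za37)) (@D3.rec (fun _ => Pt) (ka xa14 ya11 za3) (ka xa13 ya26 za4) (ka xa13 ya24 za42) (ka xa14 ya1 za5) (ka xa11 ya10 za31) (ka xa14 ya4 za25) (ka xa14 ya4 za38) (ka xa14 ya11 za7) (ka xa13 ya6 za26) (ka xa13 ya26 za5) (ka xa13 ya25 za5) (ka xa13 ya6 za24) (ka xa13 ya6 za28) (ka xa14 ya1 za4) (ka xa11 ya10 za40) (ka xa14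 ya4 za39) (ka xa13 ya6 za29) (ka xa13 ya6 za32) (ka xa13 ya6 za36) (ka xa13 ya25 za18) (ka xa13 ya6 za31) (ka xa13 ya6 za35) (ka xa14 ya9 za46) (ka xa14 ya9 za47) (ka xa14 ya9 za48) (ka xa14 ya9 za49) (ka xa14 ya9 za50) (ka xa13 ya23 za23) (ka xa13 ya26 za26) (ka xa13 ya10 za2) (ka xa13 ya10 za1) (ka xa14 ya10 za2) (ka xa14 ya10 za3) (ka xa14 ya0 za22) (ka xa14 ya1 za6) (ka xa14 ya10 za4) (ka xa11 ya11 za6) (ka xa11 ya11 za7) (ka xa13 ya23 za16) (ka xa14 ya11 za38) (ka xa14 ya11 za39) (ka xa14 ya11 za40) (ka xa13 ya9 za44) (ka xa14 ya10 za10) (ka xa14 ya10 za11) (ka xa13 ya6 za44) (ka xa14 ya1 za11) (ka xa14 ya10 za12) (ka xa13 ya23 za26) (ka xa13 ya6 za41) (ka xa13 ya6 za47))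
def f_a_13 : D2 → D3 → Pt := @D2.rec (fun _ => D3 → Pt) (@D3.rec (fun _ => Pt) (ka xa14 ya1 za13) (ka xa14 ya10 za13) (ka xa11 ya11 za16) (ka xa11 ya11 za17) (ka xa14 ya12 za10) (ka xa14 ya12 za11) (ka xa14 ya12 za12) (ka xa13 ya11 za7) (ka xa14 ya1 za16) (ka xa13 ya23 za33) (ka xa13 ya6 za38) (ka xa14 ya0 za46) (ka xa14 ya1 za7) (ka xa11 ya11 za26) (ka xa11 ya11 za27) (ka xa11 ya11 za28) (ka xa14 ya3 za22) (ka xa14 ya12 za20) (ka xa14 ya12 za21) (ka xa13 ya10 za20) (ka xa13 ya6 za40) (ka xa13 ya6 za45) (ka xa14 ya1 za12) (ka xa14 ya1 za19) (ka xa13 ya23 za40) (ka xa13 ya6 za42) (ka xa13 ya6 za48) (ka xa11 ya11 za40) (ka xa11 ya16 za0) (ka xa14 ya3 za23) (ka xa14 ya3 za30) (ka xa13 ya10 za32) (ka xa13 ya6 za50) (ka xa13 ya7 za6) (ka xa13 ya7 za11) (ka xa13 ya23 za48) (ka xa13 ya7 za2) (ka xa13 ya6 za39)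 (ka xa13 ya10 za19) (ka xa13 ya23 za17) (ka xa14 ya10 za18) (ka xa14 ya10 za19) (ka xa13 ya23 za25) (ka xa13 ya23 za32) (ka xa13 ya23 za39) (ka xa13 ya15 za36) (ka xa11 ya12 za29) (ka xa11 ya12 za31) (ka xa11 ya12 za47) (ka xa11 ya15 za21) (ka xa13 ya7 za21)) (@D3.rec (fun _ => Pt) (ka xa13 ya7 za22) (ka xa13 ya7 za34) (ka xa13 ya7 za35) (ka xa11 ya12 za27) (ka xa14 ya2 za27) (ka xa14 ya12 za47) (ka xa13 ya26 za33) (ka xa13 ya26 za1) (ka xa14 ya12 za40) (ka xa13 ya19 za26) (ka xa13 ya25 za38) (ka xa13 ya26 za27) (ka xa13 ya24 za2) (ka xa13 ya25 za35) (ka xa11 ya12 za40) (ka xa13 ya25 za41) (ka xa13 ya26 za28) (ka xa13 ya26 za32) (ka xa13 ya25 za50) (ka xa11 ya12 za44) (ka xa13 ya26 za31) (ka xa13 ya23 za24) (ka xa13 ya23 za31) (ka xa11 ya13 za7) (ka xa13 ya3 za26) (ka xa11 ya13 za6) (ka xa13 ya11 za33) (ka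 xa13 ya12 za17) (ka xa14 ya5 za16) (ka xa13 ya1 za29) (ka xa13 ya11 za31) (ka xa11 ya14 za22) (ka xa11 ya13 za16) (ka xa11 ya13 za20) (ka xa11 ya13 za19) (ka xa11 ya14 za1) (ka xa13 ya16 za0) (ka xa13 ya5 za9) (ka xa11 ya13 za36) (ka xa11 ya13 za37) (ka xa13 ya15 za15) (ka xa13 ya14 za19) (ka xa13 ya21 za6) (ka xa13 ya21 za17) (ka xa13 ya9 za25) (ka xa13 ya10 za13) (ka xa13 ya10 za40) (ka xa11 ya14 za0) (ka xa13 ya13 za39) (ka xa13 ya15 za37) (ka xa14 ya13 za10)) (@D3.rec (fun _ => Pt) (ka xa14 ya6 za6) (ka xa13 ya19 za37) (ka xa11 ya14 za10) (ka xa11 ya14 za11) (ka xa14 ya13 za17) (ka xa14 ya13 za18) (ka xa11 ya14 za14) (ka xa11 ya14 za18) (ka xa11 ya14 za17) (ka xa13 ya2 za9) (ka xa13 ya3 za42) (ka xa11 ya14 za26) (ka xa14 ya13 za20) (ka xa11 ya15 za8) (ka xa11 ya14 za29) (ka xa14 ya13 za21) (ka xa11 ya15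 za1) (ka xa11 ya14 za32) (ka xa13 ya3 za45) (ka xa11 ya15 za28) (ka xa13 ya23 za30) (ka xa11 ya15 za43) (ka xa11 ya15 za44) (ka xa11 ya15 za14) (ka xa11 ya15 za0) (ka xa11 ya15 za45) (ka xa11 ya14 za50) (ka xa14 ya12 za41) (ka xa14 ya13 za28) (ka xa14 ya13 za23) (ka xa13 ya7 za23) (ka xa13 ya9 za13) (ka xa13 ya9 za45) (ka xa13 ya9 za23) (ka xa13 ya10 za10) (ka xa13 ya7 za24) (ka xa13 ya11 za0) (ka xa13 ya11 za12) (ka xa14 ya13 za22) (ka xa13 ya7 za26) (ka xa13 ya7 za20) (ka xa13 ya7 za27) (ka xa11 ya15 za13) (ka xa14 ya13 za27) (ka xa13 ya11 za8) (ka xa14 ya1 za27) (ka xa11 ya15 za22) (ka xa11 ya15 za23) (ka xa14 ya12 za42) (ka xa14 ya13 za46) (ka xa13 ya11 za15)) (@D3.rec (fun _ => Pt) (ka xa13 ya7 za19) (ka xa13 ya7 za25) (ka xa14 ya1 za24) (ka xa14 ya1 za30) (ka xa14 ya13 za24) (ka xa11 ya15 za35) (ka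 xa11 ya15 za36) (ka xa11 ya16 za12) (ka xa14 ya14 za2) (ka xa13 ya11 za17) (ka xa13 ya7 za32) (ka xa13 ya7 za29) (ka xa14 ya13 za26) (ka xa14 ya8 za49) (ka xa11 ya16 za1) (ka xa11 ya16 za2) (ka xa14 ya12 za31) (ka xa14 ya14 za4) (ka xa13 ya6 za25) (ka xa11 ya16 za7) (ka xa11 ya16 za13) (ka xa13 ya7 za28) (ka xa14 ya13 za44) (ka xa14 ya14 za7) (ka xa11 ya24 za32) (ka xa12 ya20 za2) (ka xa13 ya1 za24) (ka xa11 ya16 za24) (ka xa12 ya2 za43) (ka xa12 ya0 za32) (ka xa12 ya23 za24) (ka xa12 ya0 za20) (ka xa13 ya3 za32) (ka xa11 ya16 za39) (ka xa11 ya16 za40) (ka xa11 ya16 za41) (ka xa12 ya2 za38) (ka xa12 ya12 za16) (ka xa12 ya19 za15) (ka xa12 ya12 za18) (ka xa11 ya24 za20) (ka xa14 ya14 za9) (ka xa13 ya2 za10) (ka xa12 ya6 za23) (ka xa11 ya17 za5) (ka xa13 ya2 za18) (ka xa11 ya16 za47) (ka xa14 ya14 za14) (ka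 xa11 ya16 za50) (ka xa14 ya14 za15) (ka xa13 ya3 za50)) (@D3.rec (fun _ => Pt) (ka xa11 ya17 za2) (ka xa14 ya14 za13) (ka xa12 ya14 za50) (ka xa11 ya26 za31) (ka xa12 ya13 za15) (ka xa11 ya26 za47) (ka xa12 ya19 za50) (ka xa11 ya26 za44) (ka xa12 ya19 za47) (ka xa11 ya26 za48) (ka xa12 ya20 za0) (ka xa12 ya0 za1) (ka xa12 ya0 za2) (ka xa11 ya25 za42) (ka xa11 ya17 za37) (ka xa11 ya17 za42) (ka xa11 ya17 za43) (ka xa12 ya13 za16) (ka xa12 ya13 za21) (ka xa12 ya13 za22) (ka xa12 ya19 za48) (ka xa12 ya13 za14) (ka xa11 ya25 za21) (ka xa12 ya19 za39) (ka xa12 ya19 za43) (ka xa11 ya25 za33) (ka xa12 ya20 za1) (ka xa12 ya20 za4) (ka xa12 ya14 za3) (ka xa12 ya14 za4) (ka xa12 ya4 za41) (ka xa12 ya14 za42) (ka xa12 ya2 za5) (ka xa12 ya1 za12) (ka xa12 ya4 za42) (ka xa12 ya14 za30) (ka xa12 ya22 za29) (ka xa12 ya22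 za43) (ka xa12 ya22 za25) (ka xa12 ya22 za16) (ka xa12 ya22 za30) (ka xa12 ya5 za25) (ka xa12 ya22 za41) (ka xa14 ya14 za50) (ka xa12 ya5 za21) (ka xa12 ya22 za37) (ka xa12 ya5 za15) (ka xa12 ya5 za26) (ka xa12 ya22 za42) (ka xa11 ya18 za9) (ka xa12 ya1 za37)) (@D3.rec (fun _ => Pt) (ka xa14 ya15 za7) (ka xa12 ya5 za22) (ka xa12 ya22 za38) (ka xa12 ya5 za27) (ka xa12 ya5 za31) (ka xa12 ya5 za35) (ka xa12 ya5 za32) (ka xa12 ya5 za36) (ka xa12 ya5 za37) (ka xa13 ya1 za37) (ka xa11 ya18 za23) (ka xa14 ya15 za16) (ka xa11 ya18 za26) (ka xa14 ya15 za17) (ka xa11 ya18 za29) (ka xa11 ya18 za31) (ka xa12 ya3 za3) (ka xa12 ya3 za4) (ka xa12 ya3 za8) (ka xa12 ya2 za11) (ka xa12 ya3 za11) (ka xa12 ya2 za18) (ka xa11 ya19 za16) (ka xa11 ya19 za17) (ka xa11 ya19 za22) (ka xa11 ya19 za27) (ka xa11 ya19 za28) (ka xa11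 ya19 za29) (ka xa11 ya19 za34) (ka xa11 ya19 za36) (ka xa11 ya19 za37) (ka xa11 ya19 za38) (ka xa12 ya14 za5) (ka xa12 ya14 za36) (ka xa12 ya14 za9) (ka xa12 ya14 za10) (ka xa12 ya14 za15) (ka xa12 ya14 za19) (ka xa12 ya14 za20) (ka xa12 ya14 za21) (ka xa12 ya14 za27) (ka xa12 ya14 za28) (ka xa12 ya14 za29) (ka xa12 ya22 za13) (ka xa12 ya22 za26) (ka xa12 ya13 za48) (ka xa12 ya13 za49) (ka xa12 ya22 za5) (ka xa14 ya15 za23) (ka xa14 ya15 za24) (ka xa12 ya22 za27)) (@D3.rec (fun _ => Pt) (ka xa12 ya13 za50) (ka xa12 ya22 za1) (ka xa12 ya22 za6) (ka xa12 ya22 za20) (ka xa12 ya20 za37) (ka xa12 ya14 za0) (ka xa12 ya14 za1) (ka xa12 ya14 za2) (ka xa12 ya1 za50) (ka xa14 ya15 za25) (ka xa14 ya15 za26) (ka xa14 ya15 za27) (ka xa12 ya2 za24) (ka xa12 ya22 za44) (ka xa12 ya22 za47) (ka xa12 ya23 za6) (ka xa12 ya2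 za30) (ka xa12 ya23 za23) (ka xa12 ya23 za11) (ka xa12 ya6 za4) (ka xa11 ya22 za21) (ka xa12 ya17 za10) (ka xa12 ya17 za11) (ka xa11 ya22 za18) (ka xa12 ya26 za11) (ka xa13 ya3 za18) (ka xa12 ya26 za8) (ka xa12 ya25 za46) (ka xa12 ya26 za12) (ka xa12 ya26 za16) (ka xa12 ya10 za16) (ka xa12 ya26 za20) (ka xa12 ya26 za17) (ka xa12 ya10 za9) (ka xa12 ya10 za17) (ka xa12 ya26 za21) (ka xa12 ya26 za18) (ka xa12 ya10 za18) (ka xa13 ya0 za10) (ka xa13 ya0 za37) (ka xa13 ya0 za20) (ka xa12 ya26 za49) (ka xa13 ya0 za25) (ka xa12 ya17 za26) (ka xa12 ya26 za45) (ka xa13 ya0 za21) (ka xa12 ya10 za36) (ka xa12 ya26 za50) (ka xa13 ya0 za26) (ka xa12 ya11 za14) (ka xa13 ya0 za32)) (@D3.rec (fun _ => Pt) (ka xa12 ya11 za5) (ka xa12 ya11 za19) (ka xa13 ya0 za36) (ka xa12 ya17 za27) (ka xa12 ya11 za1) (ka xa12 ya11 za15)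 (ka xa13 ya0 za33) (ka xa12 ya11 za6) (ka xa12 ya11 za20) (ka xa12 ya17 za34) (ka xa12 ya11 za16) (ka xa13 ya0 za34) (ka xa12 ya11 za21) (ka xa12 ya11 za23) (ka xa12 ya11 za27) (ka xa12 ya11 za31) (ka xa12 ya11 za28) (ka xa12 ya11 za32) (ka xa12 ya11 za33) (ka xa13 ya3 za0) (ka xa13 ya2 za40) (ka xa13 ya0 za50) (ka xa13 ya1 za0) (ka xa13 ya2 za30) (ka xa13 ya2 za35) (ka xa13 ya3 za1) (ka xa13 ya2 za39) (ka xa13 ya2 za41) (ka xa13 ya3 za21) (ka xa13 ya3 za11) (ka xa11 ya20 za41) (ka xa12 ya8 za0) (ka xa13 ya3 za10) (ka xa13 ya7 za33) (ka xa13 ya1 za1) (ka xa13 ya1 za2) (ka xa13 ya7 za36) (ka xa13 ya7 za37) (ka xa13 ya7 za38) (ka xa12 ya6 za19) (ka xa13 ya7 za40) (ka xa12 ya8 za9) (ka xa12 ya8 za10) (ka xa12 ya8 za11) (ka xa12 ya8 za12) (ka xa12 ya8 za13) (ka xa12 ya8 za14) (ka xa12 ya8 za15) (ka xa12 ya8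 za16) (ka xa12 ya8 za17) (ka xa12 ya8 za18)) (@D3.rec (fun _ => Pt) (ka xa12 ya8 za19) (ka xa12 ya8 za20) (ka xa12 ya8 za21) (ka xa12 ya8 za22) (ka xa12 ya8 za23) (ka xa12 ya8 za24) (ka xa12 ya7 za32) (ka xa12 ya7 za38) (ka xa12 ya8 za25) (ka xa12 ya8 za26) (ka xa12 ya7 za39) (ka xa12 ya7 za45) (ka xa12 ya7 za49) (ka xa12 ya7 za50) (ka xa11 ya22 za19) (ka xa11 ya22 za20) (ka xa11 ya22 za22) (ka xa11 ya22 za23) (ka xa11 ya22 za24) (ka xa11 ya22 za25) (ka xa11 ya22 za26) (ka xa11 ya22 za29) (ka xa11 ya22 za32) (ka xa11 ya22 za33) (ka xa11 ya22 za34) (ka xa11 ya22 za35) (ka xa11 ya22 za38) (ka xa11 ya22 za41) (ka xa11 ya22 za42) (ka xa11 ya22 za43) (ka xa11 ya22 za45) (ka xa11 ya22 za46) (ka xa11 ya22 za48) (ka xa11 ya22 za49) (ka xa11 ya22 za50) (ka xa11 ya23 za0) (ka xa11 ya23 za1) (ka xa11 ya23 za6) (ka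 xa11 ya23 za12) (ka xa11 ya23 za13) (ka xa11 ya23 za14) (ka xa11 ya23 za15) (ka xa11 ya23 za22) (ka xa11 ya23 za23) (ka xa11 ya23 za24) (ka xa11 ya23 za25) (ka xa11 ya23 za26) (ka xa11 ya23 za30) (ka xa11 ya23 za31) (ka xa11 ya23 za32) (ka xa11 ya23 za33)) (@D3.rec (fun _ => Pt) (ka xa11 ya23 za34) (ka xa11 ya23 za35) (ka xa11 ya23 za36) (ka xa11 ya23 za38) (ka xa11 ya23 za47) (ka xa11 ya24 za3) (ka xa14 ya16 za17) (ka xa14 ya16 za18) (ka xa12 ya19 za1) (ka xa14 ya18 za9) (ka xa14 ya18 za10) (ka xa14 ya16 za12) (ka xa14 ya16 za13) (ka xa13 ya2 za31) (ka xa14 ya18 za11) (ka xa14 ya18 za12) (ka xa12 ya10 za49) (ka xa14 ya18 za13) (ka xa14 ya18 za14) (ka xa14 ya18 za15) (ka xa14 ya18 za16) (ka xa14 ya18 za17) (ka xa12 ya10 za40) (ka xa13 ya2 za33) (ka xa12 ya23 za1) (ka xa13 ya1 za44) (ka xa14 ya18 za18) (ka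 xa12 ya10 za50) (ka xa12 ya8 za46) (ka xa12 ya9 za6) (ka xa14 ya18 za19) (ka xa12 ya24 za19) (ka xa14 ya18 za20) (ka xa14 ya18 za21) (ka xa12 ya11 za12) (ka xa12 ya9 za12) (ka xa14 ya18 za22) (ka xa12 ya24 za11) (ka xa12 ya24 za20) (ka xa12 ya24 za25) (ka xa14 ya18 za23) (ka xa14 ya18 za24) (ka xa14 ya18 za25) (ka xa14 ya19 za44) (ka xa12 ya26 za42) (ka xa13 ya2 za32) (ka xa12 ya22 za12) (ka xa14 ya18 za26) (ka xa14 ya18 za27) (ka xa11 ya22 za47) (ka xa14 ya20 za1)) (@D3.rec (fun _ => Pt) (ka xa14 ya20 za2) (ka xa12 ya26 za30) (ka xa12 ya26 za29) (ka xa14 ya18 za28) (ka xa14 ya18 za29) (ka xa14 ya18 za30) (ka xa14 ya18 za31) (ka xa14 ya18 za32) (ka xa11 ya23 za2) (ka xa14 ya20 za17) (ka xa13 ya2 za34) (ka xa12 ya5 za46) (ka xa12 ya23 za2) (ka xa13 ya1 za45) (ka xa11 ya23 za9) (ka xa12 ya9 za44) (ka xa12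 ya10 za5) (ka xa14 ya20 za24) (ka xa12 ya12 za50) (ka xa13 ya0 za38) (ka xa13 ya0 za19) (ka xa14 ya18 za33) (ka xa14 ya18 za34) (ka xa14 ya18 za35) (ka xa14 ya18 za36) (ka xa14 ya18 za37) (ka xa11 ya23 za18) (ka xa12 ya10 za12) (ka xa14 ya20 za36) (ka xa12 ya13 za6) (ka xa12 ya12 za10) (ka xa12 ya11 za13) (ka xa13 ya0 za31) (ka xa14 ya18 za38) (ka xa14 ya18 za39) (ka xa14 ya18 za40) (ka xa12 ya18 za32) (ka xa12 ya5 za39) (ka xa12 ya5 za47) (ka xa12 ya23 za3) (ka xa13 ya1 za46) (ka xa14 ya18 za41) (ka xa14 ya18 za42) (ka xa14 ya18 za43) (ka xa12 ya19 za9) (ka xa14 ya18 za44) (ka xa14 ya18 za45) (ka xa11 ya24 za5) (ka xa12 ya17 za5) (ka xa11 ya23 za39) (ka xa14 ya21 za4)) (@D3.rec (fun _ => Pt) (ka xa13 ya2 za36) (ka xa11 ya23 za43) (ka xa11 ya23 za44) (ka xa14 ya21 za7) (ka xa14 ya21 za8) (ka xa14 ya21 za9)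 (ka xa12 ya17 za7) (ka xa13 ya0 za7) (ka xa13 ya2 za44) (ka xa14 ya18 za46) (ka xa11 ya23 za50) (ka xa14 ya21 za18) (ka xa13 ya2 za37) (ka xa11 ya24 za2) (ka xa14 ya21 za3) (ka xa13 ya2 za50) (ka xa12 ya15 za35) (ka xa13 ya3 za9) (ka xa11 ya24 za8) (ka xa14 ya21 za24) (ka xa13 ya11 za20) (ka xa11 ya24 za12) (ka xa11 ya24 za13) (ka xa14 ya21 za26) (ka xa14 ya14 za11) (ka xa11 ya24 za17) (ka xa14 ya14 za12) (ka xa13 ya11 za27) (ka xa11 ya24 za26) (ka xa11 ya24 za29) (ka xa11 ya25 za32) (ka xa13 ya1 za30) (ka xa11 ya25 za27) (ka xa13 ya1 za26) (ka xa11 ya26 za20) (ka xa11 ya26 za21) (ka xa11 ya26 za22) (ka xa12 ya13 za23) (ka xa11 ya25 za10) (ka xa11 ya25 za11) (ka xa11 ya25 za12) (ka xa11 ya25 za13) (ka xa11 ya25 za14) (ka xa11 ya25 za15) (ka xa11 ya25 za16) (ka xa11 ya25 za17) (ka xa11 ya25 za19) (ka xa11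 ya25 za20) (ka xa11 ya25 za22) (ka xa11 ya25 za24) (ka xa11 ya25 za25)) (@D3.rec (fun _ => Pt) (ka xa11 ya25 za29) (ka xa11 ya25 za34) (ka xa14 ya21 za29) (ka xa11 ya26 za34) (ka xa14 ya21 za30) (ka xa12 ya13 za18) (ka xa14 ya21 za31) (ka xa14 ya21 za32) (ka xa14 ya21 za33) (ka xa12 ya2 za8) (ka xa14 ya21 za34) (ka xa14 ya14 za29) (ka xa14 ya21 za35) (ka xa12 ya19 za42) (ka xa14 ya21 za36) (ka xa12 ya20 za3) (ka xa14 ya21 za37) (ka xa13 ya1 za27) (ka xa14 ya21 za38) (ka xa11 ya25 za36) (ka xa12 ya13 za19) (ka xa12 ya19 za45) (ka xa11 ya26 za26) (ka xa12 ya19 za37) (ka xa14 ya14 za26) (ka xa11 ya26 za23) (ka xa11 ya26 za24) (ka xa11 ya26 za25) (ka xa11 ya26 za27) (ka xa11 ya26 za37) (ka xa11 ya26 za29) (ka xa11 ya26 za30) (ka xa11 ya26 za32) (ka xa11 ya26 za33) (ka xa11 ya26 za35) (ka xa11 ya26 za36) (ka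 xa11 ya26 za38) (ka xa11 ya26 za6) (ka xa11 ya26 za39) (ka xa11 ya26 za40) (ka xa14 ya22 za17) (ka xa11 ya26 za45) (ka xa11 ya26 za46) (ka xa11 ya26 za49) (ka xa11 ya26 za18) (ka xa11 ya26 za50) (ka xa12 ya0 za3) (ka xa12 ya19 za21) (ka xa12 ya0 za4) (ka xa14 ya22 za23) (ka xa12 ya0 za7)) (@D3.rec (fun _ => Pt) (ka xa14 ya21 za27) (ka xa14 ya22 za7) (ka xa14 ya22 za8) (ka xa14 ya22 za5) (ka xa14 ya22 za9) (ka xa12 ya19 za26) (ka xa14 ya22 za11) (ka xa14 ya22 za12) (ka xa14 ya14 za18) (ka xa14 ya22 za13) (ka xa14 ya21 za40) (ka xa14 ya22 za14) (ka xa14 ya22 za15) (ka xa14 ya22 za10) (ka xa14 ya22 za16) (ka xa14 ya22 za18) (ka xa11 ya26 za43) (ka xa12 ya19 za23) (ka xa14 ya22 za40) (ka xa14 ya14 za22) (ka xa14 ya22 za20) (ka xa14 ya22 za21) (ka xa14 ya14 za20) (ka xa14 ya14 za24) (ka xa14 ya22 za22) (ka xa14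 ya22 za2) (ka xa14 ya14 za25) (ka xa14 ya22 za24) (ka xa14 ya22 za0) (ka xa12 ya0 za6) (ka xa14 ya14 za33) (ka xa14 ya22 za26) (ka xa12 ya0 za16) (ka xa12 ya0 za23) (ka xa12 ya2 za23) (ka xa12 ya2 za29) (ka xa12 ya2 za47) (ka xa12 ya6 za16) (ka xa12 ya2 za13) (ka xa13 ya1 za48) (ka xa12 ya14 za41) (ka xa12 ya4 za23) (ka xa12 ya14 za22) (ka xa12 ya14 za34) (ka xa12 ya14 za31) (ka xa12 ya14 za35) (ka xa12 ya14 za32) (ka xa12 ya14 za33) (ka xa12 ya1 za29) (ka xa12 ya1 za30) (ka xa12 ya1 za31)) (@D3.rec (fun _ => Pt) (ka xa12 ya1 za32) (ka xa12 ya1 za33) (ka xa12 ya1 za34) (ka xa12 ya1 za35) (ka xa12 ya1 za36) (ka xa12 ya1 za39) (ka xa12 ya1 za41) (ka xa12 ya1 za42) (ka xa12 ya1 za43) (ka xa12 ya1 za44) (ka xa12 ya1 za45) (ka xa12 ya1 za46) (ka xa12 ya1 za47) (ka xa12 ya1 za48) (ka xa12 ya1 za49) (ka xa12 ya2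 za0) (ka xa12 ya2 za1) (ka xa12 ya2 za2) (ka xa12 ya2 za3) (ka xa13 ya1 za41) (ka xa12 ya2 za9) (ka xa12 ya2 za12) (ka xa12 ya2 za15) (ka xa12 ya2 za16) (ka xa12 ya2 za19) (ka xa12 ya2 za21) (ka xa12 ya2 za26) (ka xa12 ya2 za28) (ka xa12 ya2 za31) (ka xa12 ya2 za34) (ka xa12 ya24 za16) (ka xa12 ya24 za27) (ka xa14 ya23 za7) (ka xa14 ya23 za8) (ka xa14 ya23 za9) (ka xa14 ya23 za10) (ka xa14 ya23 za11) (ka xa14 ya23 za12) (ka xa14 ya15 za0) (ka xa14 ya23 za13) (ka xa14 ya23 za14) (ka xa14 ya23 za15) (ka xa14 ya23 za16) (ka xa14 ya15 za8) (ka xa12 ya22 za34) (ka xa14 ya23 za17) (ka xa12 ya14 za17) (ka xa12 ya14 za25) (ka xa14 ya23 za18) (ka xa14 ya23 za19) (ka xa14 ya23 za20)) (@D3.rec (fun _ => Pt) (ka xa14 ya23 za21) (ka xa14 ya23 za22) (ka xa14 ya15 za47) (ka xa14 ya23 za23) (ka xa14 ya23 za24) (ka xa14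 ya23 za25) (ka xa14 ya23 za26) (ka xa14 ya23 za27) (ka xa14 ya23 za28) (ka xa14 ya16 za2) (ka xa14 ya23 za29) (ka xa12 ya22 za4) (ka xa14 ya23 za30) (ka xa14 ya23 za31) (ka xa12 ya2 za6) (ka xa13 ya1 za40) (ka xa14 ya24 za28) (ka xa12 ya14 za14) (ka xa12 ya21 za48) (ka xa14 ya21 za45) (ka xa14 ya23 za33) (ka xa12 ya22 za19) (ka xa14 ya15 za21) (ka xa14 ya23 za34) (ka xa12 ya22 za46) (ka xa14 ya23 za35) (ka xa14 ya23 za36) (ka xa12 ya23 za5) (ka xa14 ya15 za22) (ka xa12 ya21 za11) (ka xa12 ya6 za18) (ka xa14 ya23 za0) (ka xa14 ya16 za6) (ka xa12 ya7 za25) (ka xa12 ya7 za42) (ka xa14 ya23 za37) (ka xa13 ya0 za45) (ka xa13 ya1 za49) (ka xa14 ya23 za38) (ka xa12 ya23 za12) (ka xa12 ya21 za39) (ka xa12 ya2 za39) (ka xa14 ya14 za10) (ka xa14 ya24 za47) (ka xa12 ya2 za45) (ka xa12 ya14 za8) (ka xa12 ya14 za37)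 (ka xa12 ya14 za40) (ka xa12 ya14 za18) (ka xa12 ya14 za26) (ka xa12 ya22 za22)) (@D3.rec (fun _ => Pt) (ka xa13 ya1 za36) (ka xa12 ya21 za41) (ka xa14 ya15 za18) (ka xa14 ya15 za19) (ka xa12 ya22 za23) (ka xa12 ya4 za30) (ka xa12 ya21 za46) (ka xa14 ya15 za20) (ka xa12 ya21 za18) (ka xa12 ya21 za49) (ka xa12 ya4 za20) (ka xa12 ya4 za21) (ka xa12 ya4 za22) (ka xa12 ya4 za24) (ka xa12 ya4 za25) (ka xa12 ya4 za26) (ka xa12 ya4 za27) (ka xa12 ya4 za28) (ka xa12 ya4 za29) (ka xa12 ya4 za31) (ka xa12 ya5 za4) (ka xa12 ya4 za33) (ka xa12 ya4 za34) (ka xa12 ya4 za35) (ka xa12 ya4 za36) (ka xa12 ya4 za37) (ka xa12 ya21 za1) (ka xa12 ya4 za39) (ka xa12 ya4 za40) (ka xa12 ya4 za43) (ka xa12 ya4 za44) (ka xa12 ya4 za45) (ka xa12 ya4 za46) (ka xa12 ya4 za47) (ka xa12 ya4 za48) (ka xa14 ya25 za45) (ka xa12 ya4 za50)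 (ka xa12 ya5 za0) (ka xa12 ya5 za1) (ka xa12 ya5 za2) (ka xa12 ya5 za3) (ka xa12 ya5 za5) (ka xa12 ya5 za6) (ka xa12 ya5 za7) (ka xa12 ya5 za8) (ka xa12 ya3 za36) (ka xa14 ya26 za5) (ka xa12 ya5 za12) (ka xa12 ya5 za13) (ka xa12 ya5 za14) (ka xa12 ya5 za16)) (@D3.rec (fun _ => Pt) (ka xa12 ya5 za17) (ka xa12 ya3 za44) (ka xa12 ya20 za35) (ka xa14 ya26 za12) (ka xa12 ya5 za23) (ka xa12 ya5 za24) (ka xa12 ya5 za28) (ka xa12 ya4 za7) (ka xa12 ya5 za29) (ka xa12 ya5 za30) (ka xa12 ya5 za33) (ka xa12 ya5 za34) (ka xa12 ya5 za38) (ka xa12 ya20 za22) (ka xa12 ya5 za40) (ka xa12 ya5 za41) (ka xa12 ya5 za42) (ka xa14 ya26 za18) (ka xa12 ya5 za48) (ka xa12 ya5 za49) (ka xa12 ya20 za25) (ka xa12 ya5 za50) (ka xa12 ya4 za15) (ka xa14 ya26 za27) (ka xa12 ya6 za2) (ka xa12 ya4 za18) (ka xa14 ya16 za11) (ka xa12 ya6 za5)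 (ka xa14 ya25 za12) (ka xa14 ya25 za13) (ka xa14 ya25 za14) (ka xa14 ya25 za15) (ka xa14 ya25 za16) (ka xa14 ya23 za1) (ka xa14 ya23 za2) (ka xa14 ya25 za17) (ka xa14 ya25 za18) (ka xa14 ya25 za19) (ka xa12 ya20 za46) (ka xa14 ya25 za21) (ka xa14 ya25 za22) (ka xa14 ya25 za23) (ka xa14 ya25 za24) (ka xa14 ya25 za25) (ka xa14 ya25 za26) (ka xa14 ya25 za2) (ka xa14 ya25 za8) (ka xa14 ya25 za27) (ka xa12 ya20 za47) (ka xa14 ya25 za29) (ka xa14 ya25 za30)) (@D3.rec (fun _ => Pt) (ka xa14 ya25 za31) (ka xa14 ya14 za36) (ka xa14 ya25 za32) (ka xa14 ya25 za33) (ka xa12 ya21 za3) (ka xa14 ya25 za35) (ka xa14 ya25 za36) (ka xa14 ya14 za37) (ka xa14 ya14 za39) (ka xa14 ya25 za37) (ka xa14 ya25 za38) (ka xa14 ya25 za39) (ka xa14 ya25 za40) (ka xa14 ya25 za41) (ka xa14 ya25 za42) (ka xa14 ya25 za43) (ka xa14 ya25 za44)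 (ka xa12 ya4 za49) (ka xa15 ya0 za31) (ka xa15 ya0 za32) (ka xa14 ya19 za49) (ka xa14 ya25 za48) (ka xa14 ya25 za49) (ka xa14 ya25 za50) (ka xa14 ya14 za44) (ka xa14 ya26 za0) (ka xa14 ya26 za1) (ka xa14 ya25 za20) (ka xa14 ya25 za28) (ka xa14 ya26 za2) (ka xa14 ya26 za3) (ka xa14 ya26 za4) (ka xa12 ya5 za11) (ka xa12 ya20 za30) (ka xa12 ya20 za33) (ka xa15 ya1 za2) (ka xa14 ya15 za2) (ka xa14 ya26 za7) (ka xa14 ya26 za8) (ka xa14 ya26 za9) (ka xa14 ya14 za47) (ka xa14 ya15 za5) (ka xa14 ya26 za10) (ka xa14 ya26 za11) (ka xa12 ya5 za20) (ka xa12 ya20 za36) (ka xa14 ya16 za5) (ka xa14 ya15 za3) (ka xa14 ya15 za10) (ka xa14 ya26 za15) (ka xa14 ya26 za16)) (@D3.rec (fun _ => Pt) (ka xa14 ya14 za48) (ka xa14 ya15 za6) (ka xa14 ya15 za11) (ka xa14 ya26 za17) (ka xa14 ya26 za19) (ka xa14 ya24 za46) (ka xa14 ya15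 za12) (ka xa14 ya15 za13) (ka xa14 ya26 za20) (ka xa14 ya26 za21) (ka xa14 ya15 za14) (ka xa14 ya15 za15) (ka xa14 ya26 za30) (ka xa14 ya20 za20) (ka xa14 ya20 za44) (ka xa14 ya26 za23) (ka xa14 ya26 za24) (ka xa12 ya5 za44) (ka xa12 ya5 za45) (ka xa15 ya1 za33) (ka xa15 ya1 za34) (ka xa15 ya1 za35) (ka xa14 ya19 za24) (ka xa14 ya20 za21) (ka xa14 ya20 za45) (ka xa14 ya26 za26) (ka xa13 ya1 za9) (ka xa14 ya24 za39) (ka xa12 ya6 za1) (ka xa14 ya16 za9) (ka xa14 ya26 za29) (ka xa12 ya6 za9) (ka xa12 ya6 za10) (ka xa15 ya1 za46) (ka xa12 ya23 za15) (ka xa14 ya17 za34) (ka xa12 ya15 za43) (ka xa13 ya2 za1) (ka xa12 ya18 za24) (ka xa12 ya18 za40) (ka xa12 ya18 za20) (ka xa12 ya18 za4) (ka xa12 ya18 za25) (ka xa12 ya18 za33) (ka xa12 ya18 za38) (ka xa12 ya18 za34) (ka xa12 ya18 za39) (ka xa12 ya18 za35) (ka xa12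 ya7 za13) (ka xa12 ya7 za14) (ka xa12 ya7 za16)) (@D3.rec (fun _ => Pt) (ka xa12 ya7 za17) (ka xa12 ya7 za21) (ka xa12 ya7 za22) (ka xa12 ya7 za23) (ka xa12 ya7 za26) (ka xa12 ya7 za27) (ka xa12 ya7 za33) (ka xa12 ya7 za34) (ka xa12 ya7 za40) (ka xa12 ya7 za43) (ka xa12 ya7 za46) (ka xa12 ya7 za47) (ka xa12 ya24 za30) (ka xa12 ya24 za31) (ka xa12 ya21 za5) (ka xa12 ya24 za5) (ka xa12 ya24 za35) (ka xa12 ya23 za45) (ka xa12 ya24 za28) (ka xa12 ya23 za49) (ka xa12 ya23 za50) (ka xa12 ya24 za6) (ka xa12 ya24 za7) (ka xa12 ya24 za8) (ka xa12 ya24 za13) (ka xa12 ya24 za14) (ka xa12 ya24 za15) (ka xa12 ya24 za22) (ka xa12 ya24 za23) (ka xa12 ya24 za26) (ka xa12 ya23 za34) (ka xa15 ya2 za7) (ka xa15 ya2 za8) (ka xa12 ya23 za36) (ka xa12 ya23 za37) (ka xa14 ya24 za17) (ka xa15 ya2 za9) (ka xa15 ya2 za10) (ka xa12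 ya17 za18) (ka xa12 ya17 za30) (ka xa12 ya23 za32) (ka xa12 ya23 za38) (ka xa12 ya23 za39) (ka xa12 ya23 za40) (ka xa14 ya17 za48) (ka xa15 ya2 za11) (ka xa15 ya2 za12) (ka xa12 ya23 za42) (ka xa14 ya24 za42) (ka xa15 ya2 za13) (ka xa12 ya17 za31)) (@D3.rec (fun _ => Pt) (ka xa12 ya23 za43) (ka xa12 ya23 za44) (ka xa12 ya22 za49) (ka xa14 ya18 za3) (ka xa15 ya2 za14) (ka xa15 ya2 za15) (ka xa13 ya1 za42) (ka xa14 ya18 za4) (ka xa14 ya18 za6) (ka xa14 ya17 za12) (ka xa12 ya21 za6) (ka xa14 ya24 za43) (ka xa15 ya2 za16) (ka xa12 ya22 za50) (ka xa14 ya18 za7) (ka xa15 ya2 za17) (ka xa14 ya17 za31) (ka xa13 ya1 za43) (ka xa14 ya18 za8) (ka xa12 ya23 za35) (ka xa12 ya23 za33) (ka xa14 ya17 za35) (ka xa14 ya17 za36) (ka xa14 ya17 za37) (ka xa14 ya17 za38) (ka xa14 ya17 za39) (ka xa14 ya17 za40) (ka xa14 ya17 za41)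 (ka xa14 ya17 za42) (ka xa14 ya17 za43) (ka xa14 ya17 za44) (ka xa14 ya17 za45) (ka xa14 ya17 za46) (ka xa14 ya17 za47) (ka xa14 ya17 za49) (ka xa14 ya17 za50) (ka xa14 ya18 za0) (ka xa14 ya18 za1) (ka xa14 ya18 za2) (ka xa14 ya18 za5) (ka xa12 ya9 za34) (ka xa12 ya9 za35) (ka xa12 ya9 za36) (ka xa12 ya9 za37) (ka xa12 ya9 za38) (ka xa12 ya9 za39) (ka xa12 ya9 za40) (ka xa12 ya9 za42) (ka xa12 ya9 za43) (ka xa12 ya9 za47) (ka xa12 ya9 za48)) (@D3.rec (fun _ => Pt) (ka xa12 ya9 za49) (ka xa12 ya10 za2) (ka xa12 ya10 za3) (ka xa12 ya10 za4) (ka xa12 ya10 za10) (ka xa12 ya10 za11) (ka xa12 ya10 za19) (ka xa12 ya10 za20) (ka xa12 ya10 za21) (ka xa12 ya10 za22) (ka xa12 ya10 za24) (ka xa12 ya10 za25) (ka xa12 ya10 za26) (ka xa12 ya10 za27) (ka xa12 ya10 za28) (ka xa14 ya19 za16) (ka xa14 ya19 za28) (ka xa12 ya10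 za32) (ka xa12 ya10 za33) (ka xa12 ya10 za34) (ka xa12 ya10 za35) (ka xa12 ya10 za37) (ka xa12 ya10 za38) (ka xa12 ya10 za42) (ka xa12 ya10 za43) (ka xa12 ya10 za44) (ka xa12 ya10 za45) (ka xa12 ya10 za46) (ka xa12 ya10 za47) (ka xa14 ya19 za29) (ka xa12 ya11 za2) (ka xa12 ya11 za3) (ka xa12 ya11 za7) (ka xa12 ya11 za8) (ka xa12 ya11 za17) (ka xa12 ya11 za22) (ka xa12 ya11 za24) (ka xa12 ya11 za25) (ka xa12 ya11 za26) (ka xa12 ya11 za29) (ka xa12 ya11 za30) (ka xa12 ya11 za36) (ka xa12 ya11 za37) (ka xa12 ya11 za38) (ka xa12 ya11 za43) (ka xa12 ya11 za44) (ka xa12 ya9 za28) (ka xa12 ya9 za29) (ka xa15 ya4 za46) (ka xa15 ya4 za47) (ka xa12 ya12 za1)) (@D3.rec (fun _ => Pt) (ka xa12 ya12 za2) (ka xa12 ya23 za48) (ka xa12 ya24 za29) (ka xa12 ya18 za49) (ka xa15 ya3 za37) (ka xa15 ya3 za38) (ka xa15 ya5 za9)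 (ka xa15 ya3 za39) (ka xa15 ya3 za40) (ka xa15 ya3 za41) (ka xa15 ya3 za42) (ka xa15 ya3 za43) (ka xa12 ya11 za49) (ka xa15 ya3 za44) (ka xa15 ya3 za45) (ka xa12 ya25 za21) (ka xa12 ya26 za38) (ka xa13 ya0 za39) (ka xa15 ya3 za46) (ka xa15 ya3 za47) (ka xa15 ya3 za48) (ka xa14 ya20 za4) (ka xa14 ya20 za25) (ka xa12 ya26 za27) (ka xa13 ya1 za21) (ka xa13 ya0 za42) (ka xa12 ya26 za48) (ka xa14 ya16 za24) (ka xa15 ya3 za49) (ka xa15 ya3 za50) (ka xa13 ya2 za20) (ka xa13 ya1 za22) (ka xa13 ya0 za43) (ka xa13 ya0 za9) (ka xa15 ya4 za0) (ka xa15 ya4 za1) (ka xa15 ya4 za2) (ka xa14 ya20 za26) (ka xa12 ya16 za13) (ka xa13 ya0 za44) (ka xa13 ya0 za24) (ka xa14 ya16 za28) (ka xa14 ya16 za32) (ka xa15 ya4 za3) (ka xa15 ya4 za4) (ka xa12 ya16 za19) (ka xa12 ya16 za25) (ka xa12 ya16 za31) (ka xa13 ya0 za35) (ka xa14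 ya16 za29) (ka xa14 ya16 za33)) (@D3.rec (fun _ => Pt) (ka xa14 ya16 za35) (ka xa15 ya4 za5) (ka xa13 ya1 za12) (ka xa15 ya4 za6) (ka xa15 ya4 za7) (ka xa15 ya4 za8) (ka xa15 ya4 za9) (ka xa15 ya4 za10) (ka xa12 ya10 za23) (ka xa15 ya6 za25) (ka xa15 ya6 za26) (ka xa15 ya4 za11) (ka xa15 ya4 za12) (ka xa15 ya4 za13) (ka xa15 ya4 za14) (ka xa15 ya4 za15) (ka xa15 ya4 za16) (ka xa15 ya4 za17) (ka xa12 ya10 za30) (ka xa12 ya10 za31) (ka xa15 ya5 za19) (ka xa14 ya19 za13) (ka xa15 ya6 za42) (ka xa15 ya6 za43) (ka xa15 ya4 za21) (ka xa15 ya4 za22) (ka xa15 ya4 za23) (ka xa14 ya16 za46) (ka xa15 ya4 za24) (ka xa15 ya4 za25) (ka xa12 ya25 za45) (ka xa14 ya16 za40) (ka xa14 ya16 za49) (ka xa15 ya4 za26) (ka xa15 ya4 za27) (ka xa12 ya10 za41) (ka xa14 ya19 za7) (ka xa14 ya19 za22) (ka xa15 ya7 za13) (ka xa15 ya4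 za28) (ka xa15 ya4 za29) (ka xa15 ya4 za30) (ka xa12 ya26 za2) (ka xa14 ya17 za3) (ka xa15 ya4 za31) (ka xa15 ya4 za32) (ka xa15 ya4 za33) (ka xa12 ya11 za0) (ka xa12 ya17 za15) (ka xa14 ya19 za14) (ka xa14 ya19 za27)) (@D3.rec (fun _ => Pt) (ka xa14 ya20 za39) (ka xa14 ya17 za0) (ka xa14 ya17 za7) (ka xa15 ya4 za34) (ka xa15 ya4 za35) (ka xa12 ya26 za10) (ka xa14 ya17 za4) (ka xa14 ya17 za10) (ka xa15 ya4 za36) (ka xa15 ya4 za37) (ka xa12 ya17 za21) (ka xa12 ya17 za25) (ka xa12 ya17 za33) (ka xa14 ya19 za35) (ka xa14 ya17 za1) (ka xa14 ya17 za8) (ka xa14 ya17 za13) (ka xa15 ya4 za38) (ka xa12 ya26 za19) (ka xa14 ya17 za5) (ka xa14 ya17 za11) (ka xa14 ya17 za15) (ka xa15 ya7 za48) (ka xa14 ya17 za16) (ka xa15 ya4 za39) (ka xa15 ya4 za40) (ka xa15 ya4 za41) (ka xa14 ya17 za17) (ka xa14 ya17 za19) (ka xa15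 ya4 za42) (ka xa15 ya4 za43) (ka xa15 ya8 za8) (ka xa14 ya17 za18) (ka xa14 ya17 za20) (ka xa12 ya11 za34) (ka xa13 ya1 za13) (ka xa14 ya20 za28) (ka xa15 ya4 za44) (ka xa13 ya1 za10) (ka xa12 ya11 za42) (ka xa12 ya25 za31) (ka xa13 ya1 za15) (ka xa15 ya4 za45) (ka xa12 ya25 za36) (ka xa12 ya11 za50) (ka xa12 ya12 za0) (ka xa15 ya5 za20) (ka xa14 ya20 za29) (ka xa15 ya4 za50) (ka xa15 ya5 za0) (ka xa13 ya1 za18)) (@D3.rec (fun _ => Pt) (ka xa12 ya25 za44) (ka xa13 ya1 za7) (ka xa12 ya12 za7) (ka xa14 ya20 za38) (ka xa12 ya26 za1) (ka xa12 ya26 za9) (ka xa12 ya23 za19) (ka xa12 ya21 za8) (ka xa12 ya12 za34) (ka xa12 ya12 za36) (ka xa12 ya13 za0) (ka xa12 ya16 za43) (ka xa12 ya18 za50) (ka xa12 ya19 za14) (ka xa12 ya12 za32) (ka xa12 ya16 za37) (ka xa15 ya8 za25) (ka xa12 ya17 za42) (ka xa12 ya18 za43) (ka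 xa15 ya8 za22) (ka xa12 ya19 za11) (ka xa12 ya25 za22) (ka xa12 ya12 za41) (ka xa12 ya24 za50) (ka xa12 ya25 za18) (ka xa12 ya25 za34) (ka xa12 ya26 za28) (ka xa13 ya1 za11) (ka xa13 ya1 za16) (ka xa12 ya25 za35) (ka xa14 ya20 za9) (ka xa13 ya1 za20) (ka xa13 ya1 za17) (ka xa13 ya1 za6) (ka xa12 ya25 za42) (ka xa12 ya25 za43) (ka xa12 ya13 za17) (ka xa12 ya19 za28) (ka xa12 ya13 za24) (ka xa14 ya14 za19) (ka xa14 ya14 za27) (ka xa14 ya21 za42) (ka xa14 ya22 za3) (ka xa12 ya19 za40) (ka xa14 ya14 za28) (ka xa14 ya21 za28) (ka xa12 ya14 za6) (ka xa12 ya14 za7) (ka xa12 ya14 za16) (ka xa12 ya21 za50) (ka xa12 ya22 za17))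
def f_a_14 : D2 → D3 → Pt := @D2.rec (fun _ => D3 → Pt) (@D3.rec (fun _ => Pt) (ka xa12 ya22 za31) (ka xa12 ya22 za39) (ka xa12 ya20 za42) (ka xa12 ya20 za49) (ka xa12 ya20 za50) (ka xa12 ya14 za11) (ka xa12 ya14 za12) (ka xa12 ya14 za13) (ka xa12 ya14 za23) (ka xa12 ya14 za24) (ka xa14 ya15 za42) (ka xa14 ya15 za43) (ka xa14 ya16 za0) (ka xa14 ya16 za1) (ka xa14 ya14 za34) (ka xa14 ya14 za35) (ka xa14 ya15 za28) (ka xa14 ya15 za29) (ka xa15 ya8 za42) (ka xa15 ya8 za43) (ka xa14 ya24 za48) (ka xa14 ya24 za49) (ka xa12 ya26 za33) (ka xa14 ya15 za30) (ka xa14 ya15 za31) (ka xa14 ya15 za32) (ka xa14 ya23 za3) (ka xa15 ya8 za47) (ka xa15 ya8 za48) (ka xa14 ya24 za31) (ka xa14 ya15 za33) (ka xa14 ya24 za2) (ka xa14 ya24 za8) (ka xa14 ya24 za50) (ka xa14 ya15 za34) (ka xa14 ya15 za35) (ka xa14 ya15 za36) (ka xa14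 ya14 za38) (ka xa14 ya23 za4) (ka xa15 ya8 za49) (ka xa14 ya24 za9) (ka xa14 ya15 za37) (ka xa14 ya15 za38) (ka xa14 ya15 za39) (ka xa14 ya23 za5) (ka xa14 ya23 za6) (ka xa13 ya0 za11) (ka xa12 ya14 za47) (ka xa14 ya14 za17) (ka xa12 ya17 za12) (ka xa12 ya17 za13)) (@D3.rec (fun _ => Pt) (ka xa12 ya17 za14) (ka xa12 ya17 za8) (ka xa12 ya17 za9) (ka xa12 ya25 za47) (ka xa12 ya26 za13) (ka xa12 ya26 za3) (ka xa12 ya26 za34) (ka xa13 ya0 za12) (ka xa12 ya15 za11) (ka xa15 ya9 za37) (ka xa15 ya9 za38) (ka xa12 ya26 za46) (ka xa13 ya0 za22) (ka xa13 ya0 za0) (ka xa12 ya15 za16) (ka xa15 ya9 za44) (ka xa13 ya0 za8) (ka xa12 ya15 za20) (ka xa15 ya9 za47) (ka xa13 ya0 za23) (ka xa12 ya15 za23) (ka xa14 ya20 za37) (ka xa12 ya15 za26) (ka xa15 ya9 za49) (ka xa13 ya3 za2) (ka xa12 ya15 za29) (ka xa15 ya10 za1) (ka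 xa13 ya2 za45) (ka xa12 ya15 za32) (ka xa14 ya21 za21) (ka xa13 ya3 za3) (ka xa12 ya15 za38) (ka xa15 ya1 za47) (ka xa12 ya15 za41) (ka xa12 ya24 za0) (ka xa12 ya24 za17) (ka xa12 ya24 za9) (ka xa12 ya24 za24) (ka xa12 ya24 za18) (ka xa12 ya17 za16) (ka xa12 ya17 za17) (ka xa12 ya17 za19) (ka xa12 ya17 za20) (ka xa12 ya17 za22) (ka xa12 ya17 za23) (ka xa12 ya17 za28) (ka xa12 ya17 za35) (ka xa12 ya17 za39) (ka xa12 ya17 za40) (ka xa12 ya17 za41) (ka xa15 ya6 za2)) (@D3.rec (fun _ => Pt) (ka xa12 ya17 za43) (ka xa12 ya17 za44) (ka xa12 ya17 za45) (ka xa12 ya17 za46) (ka xa12 ya17 za47) (ka xa15 ya5 za38) (ka xa15 ya6 za3) (ka xa12 ya18 za0) (ka xa12 ya18 za1) (ka xa12 ya18 za2) (ka xa12 ya18 za3) (ka xa12 ya18 za5) (ka xa12 ya18 za6) (ka xa15 ya6 za10) (ka xa12 ya18 za10) (ka xa12 ya18 za11) (ka xa12 ya18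 za12) (ka xa12 ya18 za13) (ka xa12 ya18 za14) (ka xa15 ya6 za11) (ka xa12 ya18 za21) (ka xa12 ya18 za22) (ka xa12 ya18 za23) (ka xa12 ya18 za26) (ka xa14 ya20 za43) (ka xa12 ya18 za36) (ka xa12 ya18 za37) (ka xa13 ya1 za4) (ka xa12 ya18 za41) (ka xa12 ya18 za42) (ka xa15 ya8 za26) (ka xa12 ya18 za44) (ka xa12 ya18 za45) (ka xa12 ya18 za46) (ka xa12 ya18 za47) (ka xa12 ya16 za44) (ka xa15 ya5 za3) (ka xa15 ya8 za23) (ka xa15 ya11 za3) (ka xa12 ya19 za2) (ka xa12 ya19 za3) (ka xa12 ya19 za4) (ka xa12 ya16 za50) (ka xa15 ya11 za10) (ka xa12 ya19 za7) (ka xa12 ya17 za2) (ka xa14 ya21 za1) (ka xa12 ya19 za10) (ka xa14 ya17 za21) (ka xa15 ya11 za15) (ka xa14 ya20 za7)) (@D3.rec (fun _ => Pt) (ka xa14 ya21 za14) (ka xa15 ya9 za33) (ka xa15 ya9 za34) (ka xa14 ya16 za14) (ka xa14 ya16 za15) (ka xa14 ya16 za16) (ka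 xa15 ya7 za26) (ka xa15 ya9 za29) (ka xa15 ya9 za30) (ka xa15 ya9 za31) (ka xa15 ya9 za32) (ka xa15 ya6 za46) (ka xa15 ya7 za27) (ka xa15 ya10 za8) (ka xa14 ya16 za43) (ka xa15 ya10 za9) (ka xa15 ya10 za10) (ka xa12 ya24 za3) (ka xa15 ya2 za45) (ka xa15 ya10 za11) (ka xa15 ya7 za41) (ka xa15 ya10 za12) (ka xa13 ya0 za16) (ka xa13 ya0 za29) (ka xa15 ya7 za42) (ka xa14 ya16 za44) (ka xa14 ya17 za6) (ka xa15 ya10 za13) (ka xa12 ya24 za4) (ka xa15 ya2 za46) (ka xa13 ya0 za30) (ka xa14 ya19 za40) (ka xa12 ya24 za12) (ka xa12 ya24 za21) (ka xa15 ya10 za15) (ka xa15 ya10 za16) (ka xa15 ya10 za17) (ka xa15 ya10 za18) (ka xa15 ya10 za19) (ka xa15 ya5 za12) (ka xa15 ya8 za28) (ka xa15 ya10 za22) (ka xa15 ya10 za23) (ka xa15 ya10 za24) (ka xa15 ya10 za25) (ka xa15 ya10 za26) (ka xa15 ya10 za27) (ka xa12 ya17 za49)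 (ka xa12 ya17 za50) (ka xa15 ya5 za4) (ka xa15 ya12 za18)) (@D3.rec (fun _ => Pt) (ka xa15 ya12 za19) (ka xa15 ya12 za20) (ka xa15 ya10 za31) (ka xa14 ya19 za0) (ka xa15 ya10 za32) (ka xa15 ya1 za50) (ka xa15 ya10 za33) (ka xa15 ya10 za34) (ka xa15 ya10 za35) (ka xa15 ya1 za48) (ka xa15 ya2 za1) (ka xa15 ya10 za36) (ka xa15 ya10 za37) (ka xa12 ya18 za8) (ka xa12 ya18 za9) (ka xa15 ya12 za42) (ka xa15 ya12 za43) (ka xa15 ya12 za44) (ka xa15 ya10 za39) (ka xa15 ya10 za40) (ka xa15 ya10 za41) (ka xa15 ya10 za42) (ka xa12 ya18 za17) (ka xa12 ya18 za18) (ka xa12 ya18 za19) (ka xa12 ya26 za5) (ka xa15 ya13 za0) (ka xa15 ya13 za1) (ka xa14 ya20 za35) (ka xa14 ya21 za10) (ka xa15 ya2 za0) (ka xa15 ya10 za44) (ka xa15 ya10 za45) (ka xa15 ya10 za46) (ka xa15 ya1 za49) (ka xa15 ya2 za2) (ka xa12 ya18 za31) (ka xa12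 ya25 za50) (ka xa12 ya26 za6) (ka xa12 ya26 za15) (ka xa15 ya13 za10) (ka xa15 ya2 za3) (ka xa15 ya2 za5) (ka xa15 ya2 za6) (ka xa15 ya2 za4) (ka xa15 ya10 za49) (ka xa15 ya8 za29) (ka xa14 ya18 za47) (ka xa15 ya11 za0) (ka xa15 ya11 za1) (ka xa15 ya11 za2)) (@D3.rec (fun _ => Pt) (ka xa12 ya19 za0) (ka xa14 ya26 za32) (ka xa15 ya5 za5) (ka xa15 ya8 za24) (ka xa14 ya20 za50) (ka xa14 ya19 za1) (ka xa15 ya11 za7) (ka xa15 ya11 za8) (ka xa15 ya11 za9) (ka xa12 ya19 za6) (ka xa14 ya20 za47) (ka xa15 ya11 za12) (ka xa15 ya11 za14) (ka xa12 ya19 za24) (ka xa12 ya19 za25) (ka xa12 ya19 za27) (ka xa13 ya1 za28) (ka xa12 ya19 za29) (ka xa14 ya22 za41) (ka xa14 ya22 za31) (ka xa15 ya13 za30) (ka xa15 ya13 za32) (ka xa12 ya19 za38) (ka xa12 ya19 za41) (ka xa12 ya19 za49) (ka xa12 ya20 za7) (ka xa14 ya22 za6) (ka xa15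 ya13 za37) (ka xa14 ya14 za30) (ka xa15 ya8 za40) (ka xa14 ya21 za48) (ka xa14 ya14 za31) (ka xa12 ya19 za46) (ka xa14 ya22 za4) (ka xa15 ya13 za44) (ka xa14 ya14 za23) (ka xa14 ya14 za21) (ka xa15 ya13 za38) (ka xa14 ya14 za32) (ka xa14 ya21 za50) (ka xa12 ya20 za6) (ka xa14 ya22 za1) (ka xa15 ya13 za31) (ka xa12 ya20 za31) (ka xa12 ya20 za32) (ka xa12 ya20 za34) (ka xa12 ya20 za38) (ka xa12 ya20 za39) (ka xa12 ya20 za40) (ka xa12 ya20 za41) (ka xa12 ya20 za43)) (@D3.rec (fun _ => Pt) (ka xa12 ya20 za44) (ka xa12 ya20 za45) (ka xa12 ya20 za48) (ka xa12 ya21 za4) (ka xa14 ya26 za22) (ka xa12 ya21 za7) (ka xa13 ya2 za0) (ka xa12 ya21 za9) (ka xa12 ya23 za13) (ka xa12 ya21 za12) (ka xa15 ya0 za34) (ka xa15 ya1 za3) (ka xa15 ya13 za47) (ka xa15 ya13 za48) (ka xa15 ya1 za4) (ka xa14 ya26 za13) (ka xa15 ya1 za14)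 (ka xa15 ya13 za49) (ka xa15 ya13 za50) (ka xa15 ya2 za20) (ka xa14 ya26 za48) (ka xa15 ya14 za0) (ka xa15 ya14 za1) (ka xa15 ya8 za45) (ka xa15 ya14 za2) (ka xa14 ya26 za49) (ka xa15 ya0 za9) (ka xa15 ya14 za3) (ka xa15 ya8 za46) (ka xa12 ya21 za2) (ka xa14 ya25 za34) (ka xa14 ya24 za36) (ka xa15 ya0 za16) (ka xa15 ya14 za4) (ka xa14 ya23 za39) (ka xa15 ya2 za21) (ka xa15 ya3 za12) (ka xa15 ya14 za6) (ka xa15 ya14 za8) (ka xa14 ya26 za31) (ka xa12 ya21 za42) (ka xa12 ya21 za43) (ka xa12 ya21 za44) (ka xa12 ya21 za45) (ka xa12 ya21 za47) (ka xa14 ya25 za10) (ka xa12 ya22 za0) (ka xa12 ya22 za2) (ka xa12 ya22 za3) (ka xa12 ya22 za7) (ka xa12 ya22 za8)) (@D3.rec (fun _ => Pt) (ka xa12 ya22 za14) (ka xa12 ya22 za15) (ka xa12 ya22 za18) (ka xa12 ya22 za28) (ka xa12 ya21 za31) (ka xa14 ya24 za33) (ka xa12 ya22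 za40) (ka xa12 ya22 za45) (ka xa12 ya23 za4) (ka xa12 ya23 za9) (ka xa14 ya25 za3) (ka xa14 ya25 za4) (ka xa15 ya14 za37) (ka xa15 ya14 za38) (ka xa15 ya14 za39) (ka xa15 ya14 za40) (ka xa14 ya25 za9) (ka xa15 ya14 za41) (ka xa14 ya24 za32) (ka xa14 ya25 za11) (ka xa15 ya1 za17) (ka xa14 ya15 za44) (ka xa14 ya15 za48) (ka xa15 ya9 za11) (ka xa15 ya14 za43) (ka xa15 ya14 za44) (ka xa14 ya24 za20) (ka xa14 ya24 za25) (ka xa14 ya15 za45) (ka xa14 ya15 za49) (ka xa15 ya14 za45) (ka xa12 ya22 za10) (ka xa12 ya22 za11) (ka xa15 ya2 za50) (ka xa14 ya25 za0) (ka xa15 ya15 za20) (ka xa15 ya15 za21) (ka xa14 ya19 za10) (ka xa14 ya19 za50) (ka xa14 ya14 za42) (ka xa14 ya15 za40) (ka xa15 ya14 za46) (ka xa15 ya14 za47) (ka xa14 ya14 za40) (ka xa14 ya14 za45) (ka xa15 ya8 za44) (ka xa15 ya14 za48) (ka xa14 ya24 za34)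 (ka xa14 ya15 za50) (ka xa12 ya22 za24) (ka xa14 ya25 za1)) (@D3.rec (fun _ => Pt) (ka xa14 ya25 za7) (ka xa15 ya15 za37) (ka xa14 ya14 za43) (ka xa14 ya15 za41) (ka xa14 ya14 za49) (ka xa15 ya14 za49) (ka xa14 ya14 za41) (ka xa14 ya14 za46) (ka xa12 ya22 za35) (ka xa12 ya22 za36) (ka xa14 ya24 za6) (ka xa14 ya24 za29) (ka xa14 ya16 za4) (ka xa14 ya24 za30) (ka xa14 ya15 za4) (ka xa14 ya23 za32) (ka xa15 ya0 za17) (ka xa14 ya16 za7) (ka xa14 ya24 za37) (ka xa14 ya16 za8) (ka xa12 ya23 za0) (ka xa15 ya3 za6) (ka xa15 ya3 za14) (ka xa15 ya15 za48) (ka xa14 ya19 za25) (ka xa14 ya20 za22) (ka xa14 ya20 za46) (ka xa15 ya14 za50) (ka xa14 ya24 za40) (ka xa12 ya23 za8) (ka xa14 ya16 za10) (ka xa14 ya24 za45) (ka xa15 ya15 za0) (ka xa15 ya14 za7) (ka xa12 ya23 za16) (ka xa12 ya23 za20) (ka xa12 ya23 za46) (ka xa12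 ya23 za47) (ka xa12 ya24 za1) (ka xa12 ya24 za2) (ka xa12 ya24 za10) (ka xa15 ya2 za47) (ka xa15 ya3 za19) (ka xa15 ya2 za36) (ka xa15 ya2 za37) (ka xa15 ya2 za41) (ka xa15 ya2 za42) (ka xa15 ya2 za48) (ka xa15 ya2 za49) (ka xa13 ya3 za13) (ka xa15 ya3 za5)) (@D3.rec (fun _ => Pt) (ka xa15 ya2 za25) (ka xa15 ya2 za26) (ka xa15 ya16 za7) (ka xa15 ya16 za8) (ka xa15 ya16 za9) (ka xa15 ya5 za1) (ka xa15 ya5 za2) (ka xa15 ya2 za18) (ka xa15 ya2 za27) (ka xa15 ya2 za28) (ka xa15 ya2 za29) (ka xa14 ya23 za40) (ka xa15 ya10 za5) (ka xa15 ya16 za10) (ka xa12 ya25 za32) (ka xa14 ya19 za19) (ka xa15 ya11 za42) (ka xa15 ya12 za0) (ka xa15 ya2 za22) (ka xa15 ya2 za23) (ka xa15 ya2 za30) (ka xa15 ya2 za31) (ka xa15 ya10 za7) (ka xa15 ya16 za11) (ka xa14 ya19 za31) (ka xa14 ya19 za37) (ka xa15 ya12 za1) (ka xa15 ya2 za32)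 (ka xa15 ya2 za33) (ka xa14 ya23 za41) (ka xa15 ya10 za6) (ka xa14 ya19 za32) (ka xa14 ya19 za38) (ka xa15 ya2 za34) (ka xa15 ya2 za35) (ka xa14 ya19 za39) (ka xa15 ya2 za19) (ka xa12 ya25 za33) (ka xa15 ya2 za24) (ka xa12 ya25 za27) (ka xa12 ya25 za28) (ka xa12 ya25 za29) (ka xa12 ya25 za30) (ka xa12 ya25 za37) (ka xa12 ya25 za38) (ka xa12 ya25 za48) (ka xa12 ya26 za22) (ka xa12 ya26 za23) (ka xa12 ya26 za24) (ka xa12 ya26 za25) (ka xa12 ya26 za26)) (@D3.rec (fun _ => Pt) (ka xa15 ya5 za32) (ka xa15 ya8 za31) (ka xa12 ya26 za31) (ka xa12 ya26 za32) (ka xa12 ya26 za35) (ka xa12 ya25 za5) (ka xa12 ya25 za6) (ka xa15 ya5 za24) (ka xa15 ya17 za16) (ka xa15 ya17 za17) (ka xa12 ya26 za43) (ka xa12 ya26 za44) (ka xa12 ya26 za47) (ka xa13 ya0 za1) (ka xa12 ya25 za12) (ka xa15 ya17 za24) (ka xa12 ya25 za15) (ka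 xa15 ya5 za25) (ka xa13 ya0 za40) (ka xa13 ya0 za41) (ka xa12 ya25 za26) (ka xa15 ya17 za27) (ka xa15 ya17 za28) (ka xa15 ya8 za37) (ka xa15 ya17 za3) (ka xa15 ya17 za4) (ka xa15 ya17 za5) (ka xa15 ya6 za27) (ka xa15 ya8 za11) (ka xa15 ya16 za34) (ka xa15 ya16 za35) (ka xa15 ya17 za2) (ka xa15 ya5 za36) (ka xa15 ya8 za32) (ka xa15 ya6 za16) (ka xa15 ya8 za14) (ka xa15 ya6 za37) (ka xa15 ya17 za6) (ka xa12 ya25 za40) (ka xa12 ya25 za41) (ka xa15 ya6 za32) (ka xa15 ya12 za24) (ka xa15 ya17 za47) (ka xa15 ya17 za48) (ka xa15 ya8 za38) (ka xa15 ya8 za36) (ka xa15 ya8 za20) (ka xa14 ya16 za22) (ka xa15 ya8 za21) (ka xa15 ya7 za8) (ka xa14 ya16 za20)) (@D3.rec (fun _ => Pt) (ka xa14 ya16 za25) (ka xa15 ya9 za35) (ka xa15 ya17 za7) (ka xa12 ya26 za0) (ka xa15 ya13 za11) (ka xa15 ya18 za16) (ka xa15 ya7 za21) (ka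 xa12 ya26 za7) (ka xa15 ya13 za2) (ka xa15 ya13 za12) (ka xa14 ya16 za19) (ka xa14 ya16 za23) (ka xa15 ya7 za35) (ka xa15 ya7 za34) (ka xa14 ya16 za21) (ka xa14 ya16 za26) (ka xa14 ya19 za36) (ka xa14 ya16 za27) (ka xa14 ya16 za31) (ka xa14 ya16 za34) (ka xa14 ya16 za30) (ka xa15 ya12 za28) (ka xa15 ya17 za8) (ka xa15 ya17 za9) (ka xa15 ya9 za9) (ka xa15 ya17 za10) (ka xa15 ya17 za11) (ka xa15 ya5 za35) (ka xa15 ya5 za37) (ka xa15 ya8 za33) (ka xa14 ya20 za10) (ka xa14 ya20 za8) (ka xa15 ya17 za14) (ka xa15 ya5 za28) (ka xa14 ya16 za36) (ka xa15 ya9 za10) (ka xa15 ya9 za36) (ka xa15 ya17 za15) (ka xa12 ya26 za39) (ka xa12 ya26 za40) (ka xa12 ya26 za41) (ka xa15 ya5 za26) (ka xa15 ya5 za27) (ka xa15 ya11 za33) (ka xa15 ya18 za43) (ka xa15 ya18 za44) (ka xa14 ya20 za30) (ka xa14 ya16 za45) (ka xa14 ya19 za8)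 (ka xa14 ya19 za47) (ka xa15 ya17 za20)) (@D3.rec (fun _ => Pt) (ka xa15 ya17 za21) (ka xa14 ya16 za38) (ka xa14 ya16 za47) (ka xa15 ya9 za41) (ka xa15 ya17 za22) (ka xa15 ya5 za40) (ka xa14 ya16 za41) (ka xa14 ya16 za50) (ka xa15 ya9 za43) (ka xa15 ya17 za23) (ka xa13 ya0 za4) (ka xa13 ya0 za5) (ka xa13 ya0 za6) (ka xa15 ya19 za15) (ka xa15 ya19 za16) (ka xa14 ya21 za15) (ka xa15 ya9 za46) (ka xa15 ya5 za48) (ka xa14 ya16 za37) (ka xa15 ya9 za28) (ka xa13 ya0 za17) (ka xa13 ya0 za18) (ka xa15 ya11 za47) (ka xa15 ya19 za23) (ka xa14 ya20 za31) (ka xa14 ya16 za39) (ka xa14 ya16 za48) (ka xa15 ya9 za42) (ka xa15 ya6 za5) (ka xa15 ya6 za4) (ka xa14 ya16 za42) (ka xa13 ya3 za16) (ka xa15 ya11 za48) (ka xa14 ya20 za40) (ka xa14 ya17 za14) (ka xa14 ya17 za2) (ka xa14 ya17 za9) (ka xa15 ya17 za26) (ka xa15 ya5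 za39) (ka xa15 ya5 za47) (ka xa13 ya1 za8) (ka xa13 ya2 za27) (ka xa13 ya2 za48) (ka xa14 ya17 za23) (ka xa14 ya17 za24) (ka xa14 ya17 za25) (ka xa14 ya17 za33) (ka xa13 ya1 za5) (ka xa15 ya10 za14) (ka xa15 ya10 za48) (ka xa15 ya19 za40)) (@D3.rec (fun _ => Pt) (ka xa15 ya8 za35) (ka xa15 ya8 za19) (ka xa15 ya1 za44) (ka xa15 ya19 za35) (ka xa15 ya6 za17) (ka xa15 ya1 za29) (ka xa15 ya8 za12) (ka xa15 ya8 za34) (ka xa15 ya8 za18) (ka xa15 ya5 za46) (ka xa13 ya1 za50) (ka xa15 ya3 za10) (ka xa15 ya3 za18) (ka xa14 ya19 za26) (ka xa14 ya20 za23) (ka xa14 ya24 za41) (ka xa15 ya14 za5) (ka xa13 ya2 za4) (ka xa13 ya2 za5) (ka xa14 ya14 za16) (ka xa13 ya2 za12) (ka xa13 ya2 za15) (ka xa13 ya2 za38) (ka xa13 ya2 za29) (ka xa13 ya3 za4) (ka xa15 ya5 za45) (ka xa13 ya3 za12) (ka xa13 ya2 za43) (ka xa13 ya2 za28)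 (ka xa15 ya19 za36) (ka xa15 ya20 za4) (ka xa15 ya10 za3) (ka xa14 ya17 za26) (ka xa14 ya17 za27) (ka xa14 ya19 za9) (ka xa14 ya19 za48) (ka xa14 ya19 za23) (ka xa14 ya20 za19) (ka xa14 ya17 za28) (ka xa14 ya21 za6) (ka xa14 ya17 za30) (ka xa14 ya21 za20) (ka xa15 ya20 za3) (ka xa14 ya17 za22) (ka xa13 ya3 za22) (ka xa14 ya21 za16) (ka xa13 ya2 za49) (ka xa15 ya19 za37) (ka xa14 ya21 za22) (ka xa14 ya17 za32) (ka xa14 ya17 za29)) (@D3.rec (fun _ => Pt) (ka xa15 ya10 za0) (ka xa15 ya10 za4) (ka xa13 ya3 za8) (ka xa14 ya21 za23) (ka xa13 ya3 za17) (ka xa15 ya19 za31) (ka xa15 ya20 za24) (ka xa13 ya3 za23) (ka xa15 ya20 za15) (ka xa13 ya3 za41) (ka xa13 ya15 za42) (ka xa13 ya11 za24) (ka xa13 ya11 za26) (ka xa13 ya4 za1) (ka xa13 ya3 za47) (ka xa13 ya3 za49) (ka xa14 ya13 za19) (ka xa14 ya0 za48) (ka xa13 ya13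 za8) (ka xa13 ya26 za39) (ka xa13 ya13 za22) (ka xa14 ya5 za36) (ka xa13 ya13 za19) (ka xa14 ya5 za35) (ka xa13 ya13 za23) (ka xa13 ya13 za26) (ka xa13 ya12 za24) (ka xa13 ya26 za40) (ka xa13 ya26 za44) (ka xa13 ya12 za11) (ka xa14 ya5 za28) (ka xa14 ya5 za31) (ka xa14 ya5 za38) (ka xa13 ya13 za30) (ka xa14 ya0 za14) (ka xa14 ya0 za15) (ka xa13 ya18 za1) (ka xa13 ya18 za7) (ka xa14 ya0 za37) (ka xa13 ya18 za8) (ka xa14 ya7 za43) (ka xa14 ya8 za6) (ka xa14 ya7 za39) (ka xa14 ya8 za2) (ka xa13 ya18 za24) (ka xa14 ya7 za44) (ka xa14 ya8 za7) (ka xa13 ya18 za40) (ka xa13 ya19 za0) (ka xa14 ya8 za4) (ka xa13 ya4 za43)) (@D3.rec (fun _ => Pt) (ka xa13 ya14 za38) (ka xa15 ya21 za3) (ka xa13 ya18 za36) (ka xa13 ya18 za47) (ka xa14 ya8 za14) (ka xa13 ya18 za41) (ka xa13 ya19 za1) (ka xa13 ya5 za0) (ka xa13 ya14 za43)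 (ka xa15 ya21 za11) (ka xa13 ya18 za48) (ka xa13 ya19 za2) (ka xa13 ya19 za6) (ka xa13 ya19 za7) (ka xa13 ya19 za10) (ka xa13 ya19 za11) (ka xa13 ya5 za11) (ka xa13 ya5 za13) (ka xa13 ya16 za2) (ka xa13 ya16 za3) (ka xa13 ya16 za7) (ka xa13 ya15 za22) (ka xa13 ya15 za28) (ka xa13 ya5 za48) (ka xa13 ya5 za49) (ka xa13 ya6 za9) (ka xa13 ya6 za10) (ka xa13 ya6 za11) (ka xa14 ya0 za16) (ka xa14 ya0 za17) (ka xa14 ya0 za23) (ka xa14 ya0 za24) (ka xa14 ya0 za25) (ka xa14 ya0 za30) (ka xa14 ya0 za34) (ka xa14 ya0 za35) (ka xa14 ya0 za36) (ka xa14 ya0 za41) (ka xa14 ya0 za42) (ka xa14 ya0 za43) (ka xa14 ya7 za40) (ka xa14 ya8 za3) (ka xa14 ya0 za10) (ka xa14 ya0 za11) (ka xa14 ya7 za21) (ka xa14 ya7 za28) (ka xa15 ya21 za19) (ka xa13 ya15 za2) (ka xa14 ya7 za22) (ka xa14 ya7 za29) (ka xa14 ya7 za48)) (@D3.rec (fun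 _ => Pt) (ka xa14 ya0 za12) (ka xa14 ya0 za13) (ka xa13 ya15 za9) (ka xa15 ya21 za20) (ka xa14 ya8 za12) (ka xa13 ya18 za46) (ka xa13 ya15 za32) (ka xa14 ya8 za17) (ka xa14 ya8 za19) (ka xa13 ya19 za29) (ka xa14 ya8 za30) (ka xa13 ya17 za26) (ka xa13 ya9 za11) (ka xa13 ya9 za12) (ka xa14 ya3 za3) (ka xa14 ya3 za4) (ka xa14 ya3 za5) (ka xa13 ya9 za6) (ka xa13 ya9 za7) (ka xa14 ya11 za10) (ka xa14 ya10 za50) (ka xa14 ya11 za14) (ka xa14 ya10 za47) (ka xa14 ya11 za11) (ka xa13 ya23 za27) (ka xa14 ya11 za0) (ka xa14 ya11 za15) (ka xa14 ya11 za17) (ka xa13 ya23 za41) (ka xa13 ya23 za49) (ka xa14 ya11 za20) (ka xa14 ya11 za18) (ka xa13 ya23 za42) (ka xa13 ya23 za50) (ka xa14 ya11 za19) (ka xa13 ya24 za0) (ka xa14 ya11 za34) (ka xa14 ya12 za18) (ka xa14 ya12 za1) (ka xa14 ya12 za25) (ka xa13 ya24 za31) (ka xa14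 ya12 za6) (ka xa14 ya12 za30) (ka xa14 ya3 za14) (ka xa14 ya3 za25) (ka xa14 ya11 za47) (ka xa13 ya24 za27) (ka xa14 ya12 za2) (ka xa14 ya12 za26) (ka xa13 ya24 za32) (ka xa14 ya12 za7)) (@D3.rec (fun _ => Pt) (ka xa13 ya25 za1) (ka xa13 ya25 za14) (ka xa14 ya12 za35) (ka xa13 ya24 za43) (ka xa13 ya25 za6) (ka xa13 ya25 za19) (ka xa14 ya3 za26) (ka xa13 ya25 za2) (ka xa13 ya25 za15) (ka xa14 ya12 za36) (ka xa13 ya25 za7) (ka xa13 ya25 za20) (ka xa13 ya21 za9) (ka xa13 ya25 za16) (ka xa14 ya12 za34) (ka xa13 ya25 za21) (ka xa13 ya25 za23) (ka xa13 ya25 za27) (ka xa13 ya25 za32) (ka xa13 ya25 za28) (ka xa13 ya25 za33) (ka xa14 ya2 za48) (ka xa14 ya13 za43) (ka xa14 ya12 za43) (ka xa14 ya12 za44) (ka xa14 ya12 za45) (ka xa14 ya13 za32) (ka xa14 ya13 za33) (ka xa14 ya13 za38) (ka xa14 ya13 za50) (ka xa14 ya13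 za40) (ka xa13 ya21 za16) (ka xa14 ya13 za49) (ka xa14 ya12 za46) (ka xa13 ya19 za35) (ka xa13 ya21 za21) (ka xa13 ya21 za22) (ka xa13 ya21 za23) (ka xa13 ya21 za24) (ka xa13 ya21 za25) (ka xa13 ya21 za26) (ka xa13 ya21 za27) (ka xa13 ya21 za28) (ka xa13 ya21 za29) (ka xa13 ya21 za30) (ka xa13 ya21 za31) (ka xa13 ya21 za32) (ka xa13 ya21 za33) (ka xa13 ya20 za44) (ka xa13 ya21 za34) (ka xa13 ya21 za35)) (@D3.rec (fun _ => Pt) (ka xa13 ya21 za36) (ka xa13 ya21 za37) (ka xa13 ya21 za38) (ka xa13 ya21 za3) (ka xa13 ya21 za7) (ka xa13 ya21 za39) (ka xa13 ya21 za8) (ka xa13 ya21 za14) (ka xa13 ya21 za18) (ka xa13 ya9 za9) (ka xa13 ya9 za10) (ka xa13 ya9 za14) (ka xa13 ya9 za15) (ka xa13 ya9 za17) (ka xa13 ya9 za18) (ka xa13 ya9 za19) (ka xa13 ya9 za20) (ka xa13 ya9 za21) (ka xa13 ya9 za26) (ka xa13 ya9 za30)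 (ka xa13 ya9 za32) (ka xa13 ya9 za33) (ka xa13 ya9 za36) (ka xa13 ya9 za40) (ka xa13 ya9 za41) (ka xa13 ya9 za42) (ka xa13 ya9 za47) (ka xa13 ya9 za48) (ka xa13 ya10 za3) (ka xa13 ya10 za4) (ka xa13 ya10 za5) (ka xa13 ya10 za6) (ka xa13 ya10 za7) (ka xa13 ya10 za21) (ka xa13 ya10 za22) (ka xa13 ya10 za23) (ka xa13 ya10 za24) (ka xa13 ya10 za25) (ka xa13 ya10 za33) (ka xa13 ya10 za34) (ka xa13 ya10 za35) (ka xa13 ya10 za41) (ka xa13 ya10 za42) (ka xa13 ya10 za43) (ka xa13 ya10 za45) (ka xa13 ya10 za46) (ka xa13 ya11 za9) (ka xa14 ya4 za47) (ka xa15 ya22 za5) (ka xa15 ya22 za6) (ka xa15 ya24 za36)) (@D3.rec (fun _ => Pt) (ka xa14 ya4 za3) (ka xa14 ya5 za5) (ka xa15 ya23 za48) (ka xa15 ya23 za49) (ka xa15 ya23 za50) (ka xa15 ya21 za48) (ka xa15 ya21 za49) (ka xa13 ya24 za36) (ka xa14 ya11 za48) (ka xa14 ya13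 za34) (ka xa14 ya7 za37) (ka xa15 ya24 za0) (ka xa15 ya24 za1) (ka xa13 ya24 za21) (ka xa13 ya24 za49) (ka xa15 ya24 za2) (ka xa13 ya22 za15) (ka xa15 ya24 za3) (ka xa15 ya24 za4) (ka xa14 ya9 za15) (ka xa15 ya24 za5) (ka xa15 ya24 za6) (ka xa13 ya24 za37) (ka xa14 ya13 za36) (ka xa13 ya19 za22) (ka xa14 ya8 za24) (ka xa14 ya13 za13) (ka xa13 ya24 za50) (ka xa13 ya22 za16) (ka xa13 ya22 za29) (ka xa15 ya24 za7) (ka xa14 ya9 za24) (ka xa14 ya9 za31) (ka xa15 ya24 za8) (ka xa15 ya24 za9) (ka xa13 ya25 za13) (ka xa14 ya11 za16) (ka xa14 ya9 za25) (ka xa14 ya9 za32) (ka xa14 ya9 za35) (ka xa14 ya3 za31) (ka xa15 ya24 za10) (ka xa15 ya24 za11) (ka xa15 ya24 za12) (ka xa13 ya9 za43) (ka xa15 ya25 za35) (ka xa15 ya25 za36) (ka xa14 ya11 za49) (ka xa14 ya13 za35) (ka xa13 ya18 za20) (ka xa14 ya7 za38)) (@D3.rec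 (fun _ => Pt) (ka xa15 ya24 za13) (ka xa13 ya9 za50) (ka xa13 ya10 za0) (ka xa15 ya25 za45) (ka xa13 ya23 za21) (ka xa15 ya25 za46) (ka xa15 ya25 za47) (ka xa14 ya2 za50) (ka xa14 ya11 za31) (ka xa13 ya26 za30) (ka xa14 ya11 za30) (ka xa15 ya24 za14) (ka xa15 ya24 za15) (ka xa15 ya24 za16) (ka xa15 ya24 za17) (ka xa15 ya24 za18) (ka xa15 ya24 za19) (ka xa13 ya10 za9) (ka xa15 ya26 za13) (ka xa14 ya13 za37) (ka xa13 ya19 za13) (ka xa13 ya19 za23) (ka xa14 ya8 za25) (ka xa14 ya13 za14) (ka xa13 ya10 za17) (ka xa13 ya23 za22) (ka xa13 ya23 za37) (ka xa15 ya26 za20) (ka xa13 ya25 za36) (ka xa13 ya25 za47) (ka xa14 ya11 za46) (ka xa14 ya12 za24) (ka xa15 ya24 za20) (ka xa15 ya24 za21) (ka xa15 ya24 za22) (ka xa14 ya4 za28) (ka xa13 ya10 za28) (ka xa14 ya1 za21) (ka xa13 ya26 za3) (ka xa13 ya25 za0) (ka xa14 ya12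 za33) (ka xa15 ya24 za23) (ka xa15 ya24 za24) (ka xa14 ya2 za24) (ka xa13 ya19 za14) (ka xa13 ya19 za24) (ka xa14 ya8 za26) (ka xa14 ya5 za10) (ka xa15 ya24 za25) (ka xa15 ya24 za26) (ka xa14 ya5 za4)) (@D3.rec (fun _ => Pt) (ka xa15 ya24 za27) (ka xa14 ya2 za46) (ka xa15 ya24 za28) (ka xa13 ya11 za14) (ka xa13 ya10 za50) (ka xa15 ya26 za45) (ka xa14 ya13 za39) (ka xa13 ya11 za3) (ka xa13 ya11 za4) (ka xa13 ya11 za5) (ka xa14 ya4 za29) (ka xa15 ya26 za48) (ka xa15 ya26 za49) (ka xa15 ya26 za40) (ka xa14 ya3 za0) (ka xa14 ya12 za15) (ka xa14 ya13 za45) (ka xa15 ya24 za29) (ka xa13 ya11 za11) (ka xa15 ya26 za44) (ka xa14 ya13 za41) (ka xa14 ya1 za29) (ka xa14 ya13 za48) (ka xa14 ya14 za3) (ka xa13 ya11 za19) (ka xa15 ya20 za27) (ka xa13 ya11 za23) (ka xa13 ya13 za0) (ka xa13 ya26 za45) (ka xa13 ya12 za2) (ka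 xa13 ya12 za4) (ka xa13 ya12 za6) (ka xa13 ya12 za7) (ka xa13 ya12 za8) (ka xa13 ya12 za10) (ka xa13 ya12 za12) (ka xa13 ya12 za14) (ka xa13 ya12 za16) (ka xa13 ya12 za18) (ka xa16 ya0 za12) (ka xa13 ya13 za10) (ka xa16 ya0 za13) (ka xa13 ya26 za41) (ka xa16 ya0 za14) (ka xa16 ya0 za15) (ka xa13 ya15 za19) (ka xa15 ya20 za34) (ka xa16 ya0 za16) (ka xa14 ya5 za30) (ka xa16 ya0 za17) (ka xa14 ya5 za39)) (@D3.rec (fun _ => Pt) (ka xa13 ya13 za28) (ka xa14 ya5 za41) (ka xa13 ya13 za25) (ka xa13 ya26 za42) (ka xa14 ya5 za33) (ka xa13 ya13 za3) (ka xa14 ya5 za26) (ka xa13 ya13 za1) (ka xa13 ya13 za2) (ka xa13 ya13 za4) (ka xa13 ya13 za13) (ka xa13 ya13 za6) (ka xa13 ya13 za7) (ka xa13 ya13 za9) (ka xa13 ya13 za11) (ka xa13 ya13 za12) (ka xa13 ya13 za14) (ka xa13 ya12 za40) (ka xa13 ya13 za15) (ka xa16 ya0 za34)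 (ka xa13 ya13 za20) (ka xa13 ya13 za21) (ka xa13 ya13 za24) (ka xa13 ya12 za49) (ka xa13 ya13 za27) (ka xa15 ya20 za37) (ka xa13 ya13 za31) (ka xa16 ya0 za11) (ka xa16 ya0 za28) (ka xa16 ya0 za29) (ka xa16 ya0 za26) (ka xa14 ya5 za19) (ka xa16 ya0 za31) (ka xa16 ya0 za32) (ka xa15 ya20 za28) (ka xa16 ya0 za33) (ka xa16 ya0 za18) (ka xa16 ya0 za30) (ka xa16 ya0 za25) (ka xa16 ya0 za23) (ka xa13 ya13 za18) (ka xa14 ya5 za18) (ka xa15 ya20 za36) (ka xa15 ya20 za30) (ka xa16 ya0 za36) (ka xa16 ya0 za37) (ka xa15 ya20 za29) (ka xa15 ya20 za31) (ka xa16 ya0 za38) (ka xa15 ya20 za32) (ka xa16 ya0 za39)) (@D3.rec (fun _ => Pt) (ka xa13 ya15 za31) (ka xa13 ya17 za33) (ka xa13 ya17 za34) (ka xa14 ya0 za26) (ka xa14 ya0 za38) (ka xa14 ya0 za44) (ka xa14 ya0 za45) (ka xa13 ya14 za32) (ka xa13 ya14 za33) (ka xa13 ya14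 za34) (ka xa13 ya14 za35) (ka xa13 ya14 za36) (ka xa13 ya14 za37) (ka xa13 ya14 za39) (ka xa13 ya14 za40) (ka xa13 ya14 za41) (ka xa13 ya14 za42) (ka xa13 ya14 za45) (ka xa13 ya14 za48) (ka xa13 ya14 za49) (ka xa13 ya14 za50) (ka xa13 ya15 za0) (ka xa13 ya15 za1) (ka xa13 ya15 za3) (ka xa13 ya15 za4) (ka xa13 ya15 za5) (ka xa13 ya15 za6) (ka xa13 ya15 za7) (ka xa13 ya15 za8) (ka xa13 ya15 za10) (ka xa13 ya15 za12) (ka xa13 ya15 za13) (ka xa14 ya8 za15) (ka xa13 ya15 za20) (ka xa13 ya15 za23) (ka xa13 ya15 za25) (ka xa13 ya15 za26) (ka xa13 ya15 za35) (ka xa13 ya15 za38) (ka xa14 ya6 za34) (ka xa14 ya9 za11) (ka xa14 ya9 za29) (ka xa16 ya1 za10) (ka xa16 ya1 za11) (ka xa15 ya21 za4) (ka xa16 ya1 za12) (ka xa16 ya1 za13) (ka xa16 ya1 za14) (ka xa16 ya1 za15) (ka xa16 ya1 za16) (ka xa16 ya1 za17)) (@D3.rec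 (fun _ => Pt) (ka xa15 ya21 za5) (ka xa16 ya1 za18) (ka xa14 ya0 za31) (ka xa16 ya1 za19) (ka xa16 ya1 za20) (ka xa15 ya21 za12) (ka xa14 ya8 za10) (ka xa16 ya1 za21) (ka xa14 ya0 za32) (ka xa14 ya0 za40) (ka xa16 ya1 za22) (ka xa16 ya1 za23) (ka xa16 ya1 za24) (ka xa16 ya1 za25) (ka xa16 ya1 za26) (ka xa15 ya21 za32) (ka xa15 ya21 za36) (ka xa13 ya20 za35) (ka xa16 ya1 za27) (ka xa16 ya1 za28) (ka xa14 ya7 za26) (ka xa16 ya1 za29) (ka xa16 ya1 za30) (ka xa15 ya21 za41) (ka xa16 ya1 za31) (ka xa14 ya7 za27) (ka xa16 ya1 za32) (ka xa16 ya1 za33) (ka xa13 ya15 za16) (ka xa14 ya8 za11) (ka xa14 ya8 za13) (ka xa14 ya0 za29) (ka xa14 ya7 za18) (ka xa14 ya7 za5) (ka xa14 ya7 za47) (ka xa15 ya21 za18) (ka xa14 ya6 za31) (ka xa14 ya8 za18) (ka xa16 ya1 za34) (ka xa13 ya19 za27) (ka xa14 ya8 za28) (ka xa14 ya13 za15)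 (ka xa13 ya20 za48) (ka xa13 ya21 za11) (ka xa16 ya1 za35) (ka xa14 ya8 za31) (ka xa13 ya19 za5) (ka xa13 ya15 za43) (ka xa14 ya0 za20) (ka xa14 ya0 za21) (ka xa14 ya0 za33)) (@D3.rec (fun _ => Pt) (ka xa14 ya7 za34) (ka xa14 ya7 za50) (ka xa13 ya17 za45) (ka xa14 ya7 za10) (ka xa14 ya7 za11) (ka xa15 ya21 za16) (ka xa15 ya21 za17) (ka xa14 ya8 za0) (ka xa13 ya17 za46) (ka xa14 ya7 za16) (ka xa14 ya6 za45) (ka xa14 ya7 za19) (ka xa13 ya17 za28) (ka xa13 ya17 za29) (ka xa13 ya17 za30) (ka xa13 ya17 za31) (ka xa13 ya17 za32) (ka xa13 ya17 za35) (ka xa13 ya17 za36) (ka xa13 ya17 za37) (ka xa13 ya18 za27) (ka xa13 ya17 za39) (ka xa13 ya17 za40) (ka xa13 ya17 za41) (ka xa13 ya17 za42) (ka xa13 ya17 za43) (ka xa13 ya17 za44) (ka xa13 ya17 za47) (ka xa13 ya18 za28) (ka xa13 ya17 za49) (ka xa13 ya17 za50) (ka xa13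 ya18 za0) (ka xa13 ya18 za2) (ka xa13 ya18 za3) (ka xa14 ya6 za30) (ka xa13 ya18 za5) (ka xa13 ya18 za6) (ka xa13 ya18 za9) (ka xa13 ya18 za10) (ka xa13 ya18 za11) (ka xa13 ya18 za12) (ka xa13 ya18 za13) (ka xa13 ya18 za14) (ka xa13 ya18 za15) (ka xa13 ya18 za16) (ka xa13 ya16 za35) (ka xa16 ya3 za30) (ka xa16 ya3 za33) (ka xa13 ya18 za21) (ka xa13 ya18 za22) (ka xa13 ya18 za23)) (@D3.rec (fun _ => Pt) (ka xa13 ya18 za25) (ka xa13 ya18 za26) (ka xa13 ya18 za29) (ka xa13 ya18 za30) (ka xa13 ya18 za31) (ka xa13 ya16 za46) (ka xa16 ya3 za42) (ka xa13 ya18 za37) (ka xa13 ya18 za38) (ka xa13 ya18 za39) (ka xa13 ya18 za42) (ka xa13 ya18 za43) (ka xa13 ya17 za3) (ka xa14 ya6 za15) (ka xa15 ya21 za43) (ka xa13 ya18 za49) (ka xa13 ya18 za50) (ka xa13 ya19 za3) (ka xa13 ya17 za17) (ka xa13 ya19 za4) (ka xa13 ya19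 za8) (ka xa13 ya19 za9) (ka xa14 ya6 za4) (ka xa13 ya19 za15) (ka xa13 ya19 za16) (ka xa16 ya4 za2) (ka xa13 ya19 za25) (ka xa13 ya17 za23) (ka xa15 ya21 za47) (ka xa13 ya19 za30) (ka xa13 ya19 za12) (ka xa14 ya6 za39) (ka xa14 ya5 za1) (ka xa16 ya2 za48) (ka xa16 ya2 za49) (ka xa15 ya24 za30) (ka xa16 ya2 za50) (ka xa16 ya3 za0) (ka xa16 ya3 za1) (ka xa16 ya3 za2) (ka xa16 ya3 za3) (ka xa16 ya1 za5) (ka xa16 ya1 za6) (ka xa16 ya3 za4) (ka xa16 ya3 za5) (ka xa16 ya2 za40) (ka xa16 ya3 za6) (ka xa16 ya3 za7) (ka xa14 ya6 za20) (ka xa14 ya6 za25) (ka xa16 ya3 za10))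
def f_a_15 : D2 → D3 → Pt := @D2.rec (fun _ => D3 → Pt) (@D3.rec (fun _ => Pt) (ka xa16 ya3 za11) (ka xa16 ya3 za12) (ka xa16 ya3 za13) (ka xa15 ya20 za38) (ka xa16 ya3 za14) (ka xa16 ya3 za15) (ka xa16 ya3 za16) (ka xa16 ya2 za41) (ka xa16 ya2 za46) (ka xa14 ya6 za26) (ka xa16 ya3 za18) (ka xa16 ya3 za19) (ka xa16 ya3 za20) (ka xa15 ya20 za41) (ka xa16 ya3 za21) (ka xa16 ya3 za22) (ka xa14 ya6 za32) (ka xa14 ya8 za16) (ka xa16 ya3 za24) (ka xa15 ya20 za42) (ka xa15 ya20 za43) (ka xa16 ya3 za25) (ka xa16 ya1 za43) (ka xa16 ya3 za26) (ka xa16 ya3 za27) (ka xa15 ya25 za41) (ka xa16 ya3 za8) (ka xa16 ya3 za28) (ka xa16 ya3 za29) (ka xa16 ya3 za31) (ka xa16 ya3 za32) (ka xa13 ya18 za18) (ka xa13 ya18 za19) (ka xa16 ya5 za12) (ka xa14 ya6 za10) (ka xa16 ya5 za13) (ka xa16 ya5 za14) (ka xa15 ya25 za32) (ka xa15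 ya25 za2) (ka xa15 ya25 za42) (ka xa15 ya20 za47) (ka xa16 ya3 za36) (ka xa16 ya3 za37) (ka xa16 ya3 za38) (ka xa15 ya20 za44) (ka xa15 ya20 za50) (ka xa16 ya3 za39) (ka xa16 ya3 za40) (ka xa16 ya3 za9) (ka xa16 ya3 za17) (ka xa16 ya2 za25)) (@D3.rec (fun _ => Pt) (ka xa16 ya3 za41) (ka xa16 ya2 za22) (ka xa13 ya18 za35) (ka xa14 ya6 za11) (ka xa14 ya6 za14) (ka xa15 ya21 za39) (ka xa15 ya21 za7) (ka xa16 ya3 za44) (ka xa16 ya3 za45) (ka xa16 ya3 za46) (ka xa15 ya21 za1) (ka xa15 ya21 za9) (ka xa16 ya3 za47) (ka xa16 ya3 za48) (ka xa14 ya6 za16) (ka xa15 ya21 za13) (ka xa15 ya21 za8) (ka xa14 ya7 za20) (ka xa16 ya4 za0) (ka xa16 ya4 za1) (ka xa16 ya3 za49) (ka xa15 ya21 za2) (ka xa15 ya21 za10) (ka xa16 ya2 za35) (ka xa15 ya21 za14) (ka xa16 ya4 za3) (ka xa16 ya4 za4) (ka xa16 ya4 za7) (ka xa15 ya21 za15)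 (ka xa14 ya13 za5) (ka xa15 ya26 za16) (ka xa15 ya26 za34) (ka xa16 ya2 za29) (ka xa13 ya19 za19) (ka xa13 ya19 za20) (ka xa13 ya19 za21) (ka xa15 ya23 za31) (ka xa16 ya6 za9) (ka xa16 ya6 za10) (ka xa15 ya21 za45) (ka xa15 ya25 za20) (ka xa15 ya26 za17) (ka xa15 ya26 za35) (ka xa16 ya4 za6) (ka xa14 ya13 za2) (ka xa16 ya4 za9) (ka xa13 ya19 za33) (ka xa14 ya1 za32) (ka xa14 ya4 za9) (ka xa14 ya4 za34) (ka xa14 ya4 za5)) (@D3.rec (fun _ => Pt) (ka xa14 ya4 za30) (ka xa14 ya4 za10) (ka xa14 ya4 za35) (ka xa14 ya4 za41) (ka xa14 ya4 za44) (ka xa14 ya4 za42) (ka xa14 ya4 za43) (ka xa13 ya20 za31) (ka xa13 ya20 za32) (ka xa13 ya20 za36) (ka xa13 ya20 za37) (ka xa13 ya20 za45) (ka xa13 ya20 za46) (ka xa13 ya20 za49) (ka xa13 ya21 za4) (ka xa13 ya21 za5) (ka xa13 ya21 za12) (ka xa13 ya21 za15) (ka xa14 ya9 za7)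 (ka xa14 ya9 za36) (ka xa14 ya6 za19) (ka xa14 ya6 za35) (ka xa14 ya9 za18) (ka xa14 ya9 za19) (ka xa14 ya9 za38) (ka xa14 ya9 za0) (ka xa14 ya9 za1) (ka xa14 ya9 za8) (ka xa14 ya9 za9) (ka xa14 ya9 za10) (ka xa14 ya9 za20) (ka xa14 ya9 za21) (ka xa14 ya9 za27) (ka xa14 ya9 za28) (ka xa14 ya9 za33) (ka xa14 ya9 za34) (ka xa14 ya8 za43) (ka xa14 ya8 za44) (ka xa16 ya2 za42) (ka xa16 ya6 za27) (ka xa16 ya6 za28) (ka xa14 ya8 za45) (ka xa14 ya8 za46) (ka xa16 ya2 za15) (ka xa16 ya6 za29) (ka xa14 ya3 za18) (ka xa14 ya3 za29) (ka xa14 ya8 za41) (ka xa14 ya8 za47) (ka xa14 ya8 za48) (ka xa14 ya7 za33)) (@D3.rec (fun _ => Pt) (ka xa15 ya23 za41) (ka xa16 ya6 za30) (ka xa16 ya6 za31) (ka xa16 ya2 za32) (ka xa16 ya6 za32) (ka xa14 ya8 za50) (ka xa14 ya8 za21) (ka xa15 ya23 za45) (ka xa16 ya6 za33) (ka xa15 ya23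 za0) (ka xa14 ya13 za11) (ka xa15 ya23 za46) (ka xa14 ya6 za36) (ka xa16 ya2 za33) (ka xa14 ya8 za22) (ka xa15 ya23 za47) (ka xa15 ya23 za19) (ka xa16 ya6 za34) (ka xa14 ya13 za12) (ka xa14 ya8 za42) (ka xa15 ya23 za26) (ka xa15 ya23 za27) (ka xa15 ya23 za28) (ka xa15 ya23 za29) (ka xa15 ya23 za30) (ka xa15 ya23 za32) (ka xa15 ya23 za33) (ka xa15 ya23 za34) (ka xa15 ya23 za35) (ka xa15 ya23 za36) (ka xa15 ya23 za37) (ka xa15 ya23 za38) (ka xa15 ya23 za39) (ka xa15 ya23 za40) (ka xa15 ya23 za42) (ka xa15 ya23 za43) (ka xa15 ya23 za44) (ka xa13 ya23 za4) (ka xa13 ya23 za5) (ka xa13 ya23 za7) (ka xa13 ya23 za8) (ka xa13 ya23 za9) (ka xa13 ya23 za10) (ka xa13 ya23 za11) (ka xa13 ya23 za13) (ka xa13 ya23 za14) (ka xa13 ya23 za18) (ka xa13 ya23 za19) (ka xa13 ya23 za20) (ka xa13 ya23 za28) (ka xa13 ya23 za29))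 (@D3.rec (fun _ => Pt) (ka xa13 ya23 za34) (ka xa13 ya23 za35) (ka xa13 ya23 za36) (ka xa13 ya23 za43) (ka xa13 ya23 za44) (ka xa13 ya24 za1) (ka xa13 ya24 za3) (ka xa13 ya24 za4) (ka xa13 ya24 za5) (ka xa13 ya24 za6) (ka xa13 ya24 za7) (ka xa13 ya24 za11) (ka xa13 ya24 za12) (ka xa13 ya24 za13) (ka xa13 ya24 za14) (ka xa13 ya24 za15) (ka xa13 ya24 za16) (ka xa13 ya24 za17) (ka xa15 ya25 za8) (ka xa15 ya25 za11) (ka xa15 ya25 za24) (ka xa13 ya24 za24) (ka xa13 ya24 za25) (ka xa13 ya24 za26) (ka xa13 ya24 za28) (ka xa13 ya24 za29) (ka xa13 ya24 za33) (ka xa13 ya24 za34) (ka xa13 ya24 za39) (ka xa13 ya24 za40) (ka xa13 ya24 za41) (ka xa13 ya24 za44) (ka xa13 ya24 za45) (ka xa13 ya24 za46) (ka xa13 ya25 za3) (ka xa13 ya25 za4) (ka xa13 ya25 za8) (ka xa13 ya25 za9) (ka xa13 ya25 za17) (ka xa13 ya25 za24) (ka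 xa13 ya25 za25) (ka xa13 ya25 za26) (ka xa13 ya25 za29) (ka xa13 ya25 za30) (ka xa13 ya25 za37) (ka xa13 ya25 za42) (ka xa13 ya22 za48) (ka xa13 ya22 za49) (ka xa15 ya23 za16) (ka xa16 ya8 za49) (ka xa13 ya25 za48)) (@D3.rec (fun _ => Pt) (ka xa13 ya25 za49) (ka xa14 ya9 za5) (ka xa14 ya9 za6) (ka xa14 ya2 za36) (ka xa14 ya3 za49) (ka xa14 ya5 za2) (ka xa16 ya7 za40) (ka xa16 ya7 za41) (ka xa16 ya7 za42) (ka xa13 ya23 za6) (ka xa16 ya9 za12) (ka xa16 ya9 za13) (ka xa14 ya3 za39) (ka xa16 ya7 za43) (ka xa16 ya7 za44) (ka xa16 ya7 za45) (ka xa15 ya22 za2) (ka xa16 ya7 za46) (ka xa16 ya7 za47) (ka xa13 ya24 za20) (ka xa13 ya25 za46) (ka xa16 ya7 za48) (ka xa16 ya7 za49) (ka xa16 ya7 za50) (ka xa14 ya10 za7) (ka xa14 ya10 za17) (ka xa14 ya11 za41) (ka xa14 ya11 za42) (ka xa14 ya11 za33) (ka xa16 ya8 za0) (ka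 xa16 ya8 za1) (ka xa16 ya8 za2) (ka xa14 ya10 za0) (ka xa15 ya25 za50) (ka xa15 ya26 za21) (ka xa14 ya11 za27) (ka xa14 ya10 za32) (ka xa14 ya11 za28) (ka xa14 ya2 za5) (ka xa14 ya12 za38) (ka xa14 ya12 za5) (ka xa15 ya22 za9) (ka xa15 ya22 za15) (ka xa16 ya8 za3) (ka xa16 ya8 za4) (ka xa14 ya13 za25) (ka xa14 ya13 za9) (ka xa14 ya12 za39) (ka xa14 ya12 za17) (ka xa15 ya22 za18) (ka xa16 ya8 za5)) (@D3.rec (fun _ => Pt) (ka xa16 ya8 za6) (ka xa16 ya8 za7) (ka xa14 ya1 za50) (ka xa14 ya2 za6) (ka xa14 ya12 za29) (ka xa14 ya12 za28) (ka xa15 ya22 za19) (ka xa15 ya22 za22) (ka xa16 ya8 za8) (ka xa16 ya8 za9) (ka xa14 ya2 za13) (ka xa14 ya2 za19) (ka xa15 ya22 za20) (ka xa15 ya22 za23) (ka xa15 ya22 za25) (ka xa15 ya23 za6) (ka xa14 ya10 za34) (ka xa14 ya13 za4) (ka xa15 ya26 za4) (ka xa16 ya8 za10) (ka xa16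 ya8 za11) (ka xa16 ya8 za12) (ka xa16 ya4 za25) (ka xa16 ya8 za13) (ka xa16 ya8 za14) (ka xa13 ya24 za9) (ka xa13 ya24 za10) (ka xa14 ya10 za27) (ka xa15 ya24 za48) (ka xa16 ya10 za32) (ka xa16 ya10 za33) (ka xa16 ya8 za15) (ka xa14 ya10 za40) (ka xa16 ya8 za16) (ka xa16 ya8 za17) (ka xa16 ya8 za18) (ka xa16 ya8 za19) (ka xa14 ya10 za36) (ka xa15 ya22 za31) (ka xa16 ya8 za20) (ka xa16 ya8 za21) (ka xa16 ya8 za22) (ka xa13 ya24 za22) (ka xa13 ya24 za23) (ka xa15 ya25 za5) (ka xa16 ya9 za28) (ka xa14 ya3 za11) (ka xa15 ya25 za6) (ka xa16 ya11 za2) (ka xa15 ya26 za24) (ka xa15 ya22 za37)) (@D3.rec (fun _ => Pt) (ka xa16 ya8 za26) (ka xa16 ya8 za27) (ka xa16 ya8 za28) (ka xa16 ya8 za29) (ka xa15 ya22 za28) (ka xa15 ya22 za40) (ka xa16 ya8 za30) (ka xa16 ya8 za31) (ka xa14 ya10 za49) (ka xa15 ya22 za32) (ka xa15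 ya22 za43) (ka xa16 ya8 za32) (ka xa16 ya8 za33) (ka xa13 ya24 za38) (ka xa15 ya24 za49) (ka xa15 ya25 za18) (ka xa15 ya26 za31) (ka xa15 ya21 za50) (ka xa16 ya8 za34) (ka xa16 ya8 za35) (ka xa16 ya8 za36) (ka xa14 ya11 za6) (ka xa15 ya22 za48) (ka xa16 ya8 za37) (ka xa16 ya8 za38) (ka xa16 ya8 za39) (ka xa14 ya3 za6) (ka xa14 ya3 za12) (ka xa15 ya25 za7) (ka xa15 ya25 za23) (ka xa15 ya22 za45) (ka xa15 ya23 za1) (ka xa16 ya8 za40) (ka xa16 ya8 za41) (ka xa14 ya11 za13) (ka xa14 ya11 za12) (ka xa15 ya22 za49) (ka xa15 ya23 za4) (ka xa16 ya8 za42) (ka xa16 ya8 za43) (ka xa16 ya12 za2) (ka xa14 ya3 za20) (ka xa14 ya3 za24) (ka xa15 ya22 za46) (ka xa15 ya23 za2) (ka xa15 ya23 za7) (ka xa15 ya22 za50) (ka xa15 ya23 za5) (ka xa13 ya25 za22) (ka xa15 ya23 za9) (ka xa16 ya8 za44)) (@D3.rec (fun _ => Pt) (ka xa16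 ya8 za45) (ka xa16 ya8 za46) (ka xa16 ya12 za12) (ka xa15 ya23 za10) (ka xa15 ya23 za12) (ka xa15 ya23 za13) (ka xa16 ya12 za16) (ka xa16 ya8 za47) (ka xa13 ya25 za31) (ka xa15 ya23 za11) (ka xa15 ya26 za23) (ka xa14 ya10 za28) (ka xa14 ya13 za6) (ka xa16 ya8 za48) (ka xa14 ya10 za35) (ka xa16 ya9 za29) (ka xa15 ya26 za5) (ka xa16 ya9 za1) (ka xa14 ya13 za8) (ka xa14 ya13 za1) (ka xa14 ya10 za46) (ka xa14 ya10 za48) (ka xa13 ya26 za19) (ka xa14 ya2 za37) (ka xa14 ya5 za3) (ka xa13 ya26 za16) (ka xa14 ya2 za30) (ka xa16 ya12 za28) (ka xa14 ya3 za40) (ka xa14 ya4 za46) (ka xa16 ya12 za25) (ka xa14 ya10 za1) (ka xa14 ya10 za33) (ka xa14 ya11 za29) (ka xa14 ya13 za7) (ka xa14 ya13 za0) (ka xa14 ya10 za45) (ka xa14 ya10 za23) (ka xa14 ya10 za44) (ka xa16 ya0 za20) (ka xa14 ya5 za29) (ka xa15 ya20 za33) (ka xa14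 ya0 za18) (ka xa14 ya0 za19) (ka xa14 ya7 za45) (ka xa14 ya6 za23) (ka xa14 ya6 za28) (ka xa14 ya0 za27) (ka xa14 ya0 za28) (ka xa14 ya0 za39) (ka xa15 ya21 za31)) (@D3.rec (fun _ => Pt) (ka xa15 ya21 za40) (ka xa15 ya20 za39) (ka xa15 ya20 za40) (ka xa15 ya21 za21) (ka xa15 ya21 za22) (ka xa16 ya12 za41) (ka xa16 ya1 za48) (ka xa16 ya2 za36) (ka xa16 ya2 za37) (ka xa14 ya11 za24) (ka xa14 ya11 za35) (ka xa14 ya7 za23) (ka xa15 ya21 za23) (ka xa15 ya21 za24) (ka xa16 ya1 za7) (ka xa16 ya12 za44) (ka xa16 ya12 za45) (ka xa16 ya2 za26) (ka xa16 ya2 za2) (ka xa16 ya2 za7) (ka xa15 ya21 za25) (ka xa15 ya21 za26) (ka xa15 ya21 za27) (ka xa16 ya1 za8) (ka xa16 ya2 za8) (ka xa15 ya21 za28) (ka xa15 ya21 za29) (ka xa16 ya1 za9) (ka xa14 ya12 za19) (ka xa14 ya3 za7) (ka xa14 ya3 za8) (ka xa14 ya3 za9) (ka xa14 ya3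 za10) (ka xa14 ya3 za1) (ka xa14 ya3 za2) (ka xa14 ya11 za1) (ka xa14 ya11 za36) (ka xa14 ya1 za9) (ka xa14 ya1 za10) (ka xa16 ya13 za20) (ka xa16 ya13 za21) (ka xa14 ya12 za3) (ka xa14 ya12 za27) (ka xa14 ya12 za8) (ka xa14 ya1 za15) (ka xa16 ya13 za27) (ka xa14 ya12 za16) (ka xa14 ya1 za18) (ka xa15 ya26 za22) (ka xa14 ya1 za23) (ka xa16 ya0 za9)) (@D3.rec (fun _ => Pt) (ka xa14 ya14 za0) (ka xa14 ya1 za26) (ka xa16 ya0 za7) (ka xa14 ya13 za31) (ka xa14 ya14 za1) (ka xa14 ya9 za12) (ka xa14 ya9 za30) (ka xa14 ya9 za22) (ka xa14 ya3 za13) (ka xa14 ya3 za15) (ka xa14 ya3 za16) (ka xa14 ya3 za19) (ka xa14 ya3 za21) (ka xa14 ya3 za27) (ka xa14 ya12 za48) (ka xa14 ya3 za34) (ka xa14 ya3 za35) (ka xa14 ya3 za36) (ka xa14 ya3 za37) (ka xa14 ya3 za38) (ka xa16 ya9 za14) (ka xa16 ya10 za11) (ka xa14 ya3 za41) (ka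 xa14 ya3 za42) (ka xa14 ya3 za43) (ka xa14 ya3 za44) (ka xa14 ya3 za45) (ka xa14 ya3 za46) (ka xa16 ya9 za4) (ka xa16 ya9 za48) (ka xa16 ya10 za12) (ka xa14 ya4 za2) (ka xa14 ya4 za4) (ka xa14 ya4 za6) (ka xa14 ya4 za7) (ka xa14 ya4 za8) (ka xa14 ya4 za11) (ka xa14 ya4 za12) (ka xa16 ya10 za19) (ka xa14 ya4 za18) (ka xa14 ya4 za19) (ka xa14 ya4 za20) (ka xa14 ya4 za21) (ka xa15 ya26 za30) (ka xa14 ya4 za31) (ka xa14 ya4 za32) (ka xa14 ya4 za33) (ka xa15 ya23 za8) (ka xa14 ya12 za49) (ka xa14 ya4 za45) (ka xa16 ya12 za29)) (@D3.rec (fun _ => Pt) (ka xa14 ya4 za48) (ka xa14 ya4 za49) (ka xa14 ya4 za50) (ka xa14 ya2 za38) (ka xa16 ya9 za5) (ka xa16 ya12 za26) (ka xa15 ya26 za42) (ka xa14 ya5 za6) (ka xa14 ya5 za7) (ka xa14 ya5 za8) (ka xa14 ya2 za43) (ka xa15 ya26 za38) (ka xa14 ya5 za11) (ka xa15 ya23 za14)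 (ka xa14 ya5 za12) (ka xa14 ya2 za49) (ka xa16 ya9 za44) (ka xa16 ya14 za35) (ka xa15 ya25 za9) (ka xa15 ya26 za2) (ka xa16 ya0 za3) (ka xa16 ya13 za17) (ka xa15 ya22 za0) (ka xa15 ya22 za1) (ka xa15 ya22 za3) (ka xa15 ya22 za4) (ka xa16 ya9 za19) (ka xa16 ya11 za40) (ka xa16 ya12 za38) (ka xa16 ya13 za14) (ka xa16 ya13 za15) (ka xa16 ya13 za16) (ka xa16 ya11 za3) (ka xa14 ya11 za43) (ka xa16 ya11 za6) (ka xa16 ya11 za41) (ka xa15 ya22 za34) (ka xa15 ya24 za39) (ka xa16 ya13 za34) (ka xa15 ya22 za35) (ka xa16 ya13 za35) (ka xa16 ya13 za36) (ka xa14 ya9 za16) (ka xa16 ya7 za8) (ka xa16 ya13 za37) (ka xa16 ya12 za3) (ka xa16 ya13 za38) (ka xa14 ya12 za22) (ka xa14 ya12 za32) (ka xa15 ya25 za29) (ka xa15 ya22 za36)) (@D3.rec (fun _ => Pt) (ka xa14 ya9 za17) (ka xa14 ya9 za26) (ka xa16 ya11 za10) (ka xa16 ya13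 za41) (ka xa16 ya13 za42) (ka xa16 ya13 za43) (ka xa16 ya13 za44) (ka xa16 ya9 za18) (ka xa16 ya9 za20) (ka xa16 ya12 za31) (ka xa16 ya13 za47) (ka xa15 ya24 za31) (ka xa16 ya13 za48) (ka xa16 ya13 za49) (ka xa16 ya13 za50) (ka xa16 ya14 za0) (ka xa16 ya14 za1) (ka xa16 ya14 za2) (ka xa14 ya3 za50) (ka xa14 ya4 za0) (ka xa14 ya4 za1) (ka xa16 ya9 za6) (ka xa16 ya4 za10) (ka xa16 ya9 za7) (ka xa14 ya10 za41) (ka xa16 ya15 za35) (ka xa16 ya15 za36) (ka xa15 ya26 za28) (ka xa14 ya11 za21) (ka xa15 ya24 za40) (ka xa16 ya14 za6) (ka xa15 ya24 za41) (ka xa16 ya14 za7) (ka xa15 ya25 za48) (ka xa16 ya6 za22) (ka xa16 ya14 za8) (ka xa16 ya14 za9) (ka xa16 ya14 za10) (ka xa16 ya6 za20) (ka xa16 ya6 za24) (ka xa16 ya14 za11) (ka xa16 ya14 za12) (ka xa14 ya4 za15) (ka xa14 ya4 za16) (ka xa14 ya4 za17) (ka xa16 ya16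 za8) (ka xa16 ya16 za9) (ka xa15 ya26 za19) (ka xa16 ya14 za14) (ka xa16 ya14 za15) (ka xa16 ya14 za16)) (@D3.rec (fun _ => Pt) (ka xa14 ya4 za26) (ka xa14 ya4 za27) (ka xa14 ya11 za8) (ka xa16 ya16 za14) (ka xa16 ya16 za15) (ka xa15 ya26 za50) (ka xa16 ya6 za23) (ka xa16 ya14 za18) (ka xa16 ya14 za19) (ka xa16 ya6 za21) (ka xa14 ya4 za40) (ka xa14 ya11 za4) (ka xa14 ya11 za9) (ka xa16 ya6 za25) (ka xa16 ya6 za26) (ka xa16 ya14 za21) (ka xa15 ya26 za36) (ka xa15 ya24 za32) (ka xa16 ya14 za23) (ka xa16 ya14 za24) (ka xa16 ya14 za25) (ka xa16 ya4 za11) (ka xa16 ya9 za8) (ka xa16 ya12 za27) (ka xa15 ya26 za43) (ka xa15 ya24 za42) (ka xa16 ya14 za29) (ka xa16 ya14 za30) (ka xa16 ya14 za31) (ka xa16 ya14 za33) (ka xa14 ya5 za20) (ka xa14 ya5 za42) (ka xa14 ya5 za21) (ka xa16 ya0 za50) (ka xa16 ya0 za43) (ka xa16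 ya16 za36) (ka xa16 ya0 za40) (ka xa14 ya5 za27) (ka xa14 ya5 za37) (ka xa16 ya0 za27) (ka xa16 ya1 za1) (ka xa15 ya20 za35) (ka xa16 ya12 za40) (ka xa16 ya0 za24) (ka xa14 ya5 za34) (ka xa16 ya0 za22) (ka xa16 ya0 za44) (ka xa14 ya6 za12) (ka xa14 ya6 za13) (ka xa14 ya6 za17) (ka xa14 ya6 za18)) (@D3.rec (fun _ => Pt) (ka xa14 ya6 za21) (ka xa14 ya6 za22) (ka xa14 ya6 za24) (ka xa14 ya6 za27) (ka xa14 ya6 za33) (ka xa14 ya13 za16) (ka xa14 ya6 za37) (ka xa14 ya8 za33) (ka xa14 ya6 za38) (ka xa16 ya5 za15) (ka xa16 ya5 za18) (ka xa16 ya5 za36) (ka xa16 ya16 za40) (ka xa16 ya5 za37) (ka xa16 ya2 za9) (ka xa16 ya5 za49) (ka xa16 ya16 za41) (ka xa16 ya4 za30) (ka xa16 ya1 za36) (ka xa16 ya6 za38) (ka xa16 ya4 za31) (ka xa16 ya16 za42) (ka xa16 ya16 za43) (ka xa16 ya12 za43) (ka xa16 ya16 za44) (ka xa16 ya4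 za32) (ka xa16 ya4 za44) (ka xa16 ya16 za45) (ka xa16 ya3 za23) (ka xa16 ya5 za0) (ka xa16 ya3 za50) (ka xa16 ya1 za37) (ka xa16 ya6 za39) (ka xa16 ya7 za22) (ka xa16 ya16 za47) (ka xa16 ya16 za48) (ka xa16 ya4 za8) (ka xa14 ya7 za12) (ka xa14 ya7 za13) (ka xa14 ya7 za14) (ka xa14 ya7 za15) (ka xa14 ya7 za17) (ka xa16 ya2 za6) (ka xa14 ya7 za24) (ka xa14 ya7 za25) (ka xa14 ya7 za30) (ka xa14 ya7 za41) (ka xa14 ya7 za42) (ka xa14 ya7 za46) (ka xa14 ya8 za5) (ka xa14 ya8 za27)) (@D3.rec (fun _ => Pt) (ka xa14 ya8 za32) (ka xa16 ya2 za43) (ka xa16 ya2 za44) (ka xa15 ya24 za33) (ka xa16 ya17 za23) (ka xa16 ya17 za24) (ka xa16 ya17 za25) (ka xa16 ya17 za26) (ka xa16 ya2 za47) (ka xa16 ya5 za50) (ka xa16 ya2 za5) (ka xa15 ya21 za33) (ka xa15 ya21 za37) (ka xa16 ya13 za3) (ka xa16 ya17 za27) (ka xa16 ya2 za18)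 (ka xa16 ya2 za23) (ka xa15 ya21 za34) (ka xa15 ya21 za38) (ka xa16 ya17 za28) (ka xa14 ya7 za35) (ka xa14 ya7 za36) (ka xa16 ya7 za12) (ka xa16 ya2 za38) (ka xa16 ya18 za1) (ka xa16 ya18 za2) (ka xa15 ya25 za3) (ka xa15 ya25 za43) (ka xa15 ya20 za48) (ka xa15 ya21 za30) (ka xa16 ya17 za29) (ka xa16 ya17 za30) (ka xa15 ya20 za45) (ka xa15 ya21 za0) (ka xa16 ya12 za42) (ka xa16 ya17 za31) (ka xa16 ya2 za27) (ka xa14 ya8 za1) (ka xa16 ya2 za39) (ka xa15 ya21 za42) (ka xa16 ya2 za21) (ka xa15 ya20 za49) (ka xa15 ya20 za46) (ka xa16 ya17 za32) (ka xa16 ya4 za46) (ka xa15 ya21 za44) (ka xa16 ya2 za28) (ka xa15 ya21 za46) (ka xa14 ya8 za23) (ka xa16 ya7 za17) (ka xa16 ya7 za24)) (@D3.rec (fun _ => Pt) (ka xa16 ya18 za22) (ka xa15 ya25 za21) (ka xa15 ya26 za18) (ka xa15 ya26 za37) (ka xa16 ya17 za33) (ka xa16 ya2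 za31) (ka xa16 ya16 za46) (ka xa14 ya9 za2) (ka xa14 ya9 za3) (ka xa14 ya9 za4) (ka xa14 ya9 za13) (ka xa14 ya9 za23) (ka xa16 ya7 za9) (ka xa16 ya7 za1) (ka xa16 ya7 za2) (ka xa16 ya7 za5) (ka xa16 ya7 za10) (ka xa16 ya7 za11) (ka xa16 ya6 za42) (ka xa16 ya6 za43) (ka xa16 ya6 za44) (ka xa16 ya1 za38) (ka xa16 ya18 za29) (ka xa16 ya18 za30) (ka xa15 ya25 za14) (ka xa16 ya9 za2) (ka xa16 ya9 za3) (ka xa16 ya6 za35) (ka xa16 ya6 za36) (ka xa16 ya6 za45) (ka xa16 ya6 za46) (ka xa16 ya1 za39) (ka xa16 ya13 za32) (ka xa16 ya18 za31) (ka xa14 ya10 za29) (ka xa14 ya10 za30) (ka xa15 ya25 za15) (ka xa16 ya15 za13) (ka xa16 ya6 za40) (ka xa16 ya6 za41) (ka xa16 ya6 za47) (ka xa16 ya6 za48) (ka xa16 ya13 za33) (ka xa16 ya18 za32) (ka xa15 ya25 za26) (ka xa15 ya25 za30) (ka xa16 ya6 za49) (ka xa16 ya6 za50) (ka xa16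 ya1 za40) (ka xa15 ya25 za27) (ka xa15 ya25 za31)) (@D3.rec (fun _ => Pt) (ka xa16 ya7 za0) (ka xa16 ya6 za37) (ka xa14 ya10 za31) (ka xa14 ya10 za24) (ka xa14 ya10 za25) (ka xa14 ya10 za26) (ka xa14 ya10 za37) (ka xa14 ya11 za2) (ka xa14 ya11 za22) (ka xa14 ya11 za23) (ka xa14 ya11 za25) (ka xa14 ya11 za26) (ka xa16 ya9 za42) (ka xa16 ya12 za33) (ka xa14 ya11 za32) (ka xa14 ya11 za37) (ka xa14 ya10 za8) (ka xa14 ya10 za9) (ka xa16 ya9 za33) (ka xa16 ya19 za27) (ka xa14 ya11 za50) (ka xa14 ya12 za0) (ka xa14 ya12 za4) (ka xa14 ya12 za9) (ka xa14 ya10 za15) (ka xa16 ya9 za34) (ka xa14 ya12 za37) (ka xa14 ya10 za21) (ka xa14 ya10 za22) (ka xa16 ya13 za39) (ka xa16 ya19 za34) (ka xa16 ya19 za35) (ka xa16 ya12 za37) (ka xa16 ya12 za23) (ka xa16 ya19 za16) (ka xa16 ya19 za17) (ka xa16 ya19 za18) (ka xa16 ya10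 za34) (ka xa16 ya10 za35) (ka xa16 ya10 za28) (ka xa16 ya19 za1) (ka xa16 ya19 za2) (ka xa16 ya9 za46) (ka xa16 ya12 za34) (ka xa16 ya10 za22) (ka xa16 ya10 za48) (ka xa16 ya19 za19) (ka xa14 ya10 za42) (ka xa14 ya10 za43) (ka xa16 ya5 za5) (ka xa16 ya10 za40)) (@D3.rec (fun _ => Pt) (ka xa16 ya10 za42) (ka xa16 ya15 za40) (ka xa16 ya20 za1) (ka xa15 ya22 za12) (ka xa15 ya24 za50) (ka xa16 ya12 za24) (ka xa16 ya12 za36) (ka xa16 ya12 za22) (ka xa15 ya22 za7) (ka xa15 ya22 za13) (ka xa16 ya11 za22) (ka xa16 ya11 za21) (ka xa15 ya22 za10) (ka xa15 ya22 za16) (ka xa16 ya13 za18) (ka xa16 ya19 za20) (ka xa14 ya11 za5) (ka xa16 ya16 za21) (ka xa16 ya11 za34) (ka xa16 ya16 za16) (ka xa15 ya25 za25) (ka xa15 ya22 za8) (ka xa15 ya22 za14) (ka xa16 ya11 za47) (ka xa15 ya22 za11) (ka xa15 ya22 za24) (ka xa15 ya22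 za17) (ka xa15 ya22 za21) (ka xa16 ya15 za44) (ka xa16 ya19 za21) (ka xa16 ya13 za1) (ka xa16 ya19 za22) (ka xa16 ya19 za23) (ka xa16 ya9 za45) (ka xa16 ya9 za47) (ka xa15 ya26 za6) (ka xa15 ya26 za3) (ka xa16 ya19 za25) (ka xa16 ya9 za37) (ka xa15 ya22 za26) (ka xa16 ya13 za2) (ka xa16 ya13 za19) (ka xa16 ya19 za26) (ka xa14 ya11 za44) (ka xa14 ya11 za45) (ka xa16 ya9 za35) (ka xa16 ya9 za36) (ka xa16 ya15 za4) (ka xa16 ya20 za44) (ka xa16 ya20 za45) (ka xa15 ya22 za38)) (@D3.rec (fun _ => Pt) (ka xa15 ya22 za39) (ka xa15 ya25 za0) (ka xa15 ya25 za39) (ka xa16 ya19 za30) (ka xa16 ya19 za31) (ka xa15 ya22 za29) (ka xa15 ya22 za41) (ka xa16 ya13 za24) (ka xa16 ya19 za32) (ka xa16 ya9 za50) (ka xa16 ya9 za49) (ka xa15 ya22 za33) (ka xa15 ya22 za44) (ka xa16 ya13 za26) (ka xa16 ya21 za15) (ka xa14 ya12 za13)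 (ka xa14 ya12 za14) (ka xa16 ya21 za16) (ka xa15 ya26 za15) (ka xa16 ya0 za4) (ka xa16 ya10 za6) (ka xa16 ya10 za5) (ka xa15 ya22 za27) (ka xa14 ya12 za23) (ka xa16 ya15 za17) (ka xa15 ya26 za25) (ka xa15 ya23 za3) (ka xa15 ya22 za30) (ka xa15 ya22 za42) (ka xa16 ya13 za25) (ka xa16 ya10 za13) (ka xa14 ya14 za5) (ka xa15 ya26 za32) (ka xa15 ya22 za47) (ka xa16 ya10 za4) (ka xa14 ya13 za3) (ka xa14 ya13 za29) (ka xa14 ya13 za47) (ka xa15 ya23 za17) (ka xa15 ya23 za18) (ka xa14 ya12 za50) (ka xa16 ya13 za40) (ka xa16 ya14 za20) (ka xa16 ya21 za33) (ka xa16 ya12 za35) (ka xa16 ya12 za21) (ka xa16 ya6 za17) (ka xa16 ya21 za29) (ka xa16 ya10 za23) (ka xa16 ya6 za5) (ka xa16 ya12 za19)) (@D3.rec (fun _ => Pt) (ka xa16 ya12 za20) (ka xa16 ya7 za21) (ka xa15 ya25 za22) (ka xa14 ya13 za42) (ka xa14 ya13 za30) (ka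 xa16 ya21 za30) (ka xa16 ya13 za31) (ka xa15 ya23 za20) (ka xa15 ya23 za21) (ka xa15 ya25 za1) (ka xa15 ya25 za40) (ka xa15 ya25 za19) (ka xa15 ya23 za22) (ka xa15 ya23 za15) (ka xa15 ya26 za47) (ka xa14 ya14 za8) (ka xa15 ya23 za24) (ka xa16 ya0 za8) (ka xa16 ya0 za5) (ka xa16 ya0 za10) (ka xa15 ya23 za25) (ka xa16 ya0 za6) (ka xa15 ya23 za23) (ka xa16 ya13 za30) (ka xa14 ya14 za6) (ka xa16 ya21 za28) (ka xa16 ya14 za32) (ka xa14 ya21 za25) (ka xa14 ya22 za34) (ka xa14 ya22 za46) (ka xa14 ya22 za43) (ka xa14 ya22 za47) (ka xa14 ya22 za49) (ka xa15 ya8 za41) (ka xa14 ya21 za46) (ka xa15 ya13 za41) (ka xa14 ya22 za42) (ka xa14 ya22 za25) (ka xa15 ya0 za3) (ka xa15 ya9 za1) (ka xa15 ya9 za2) (ka xa15 ya0 za13) (ka xa15 ya0 za19) (ka xa15 ya0 za20) (ka xa15 ya0 za44) (ka xa15 ya15 za32) (ka xa15 ya15 za42)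 (ka xa15 ya0 za40) (ka xa15 ya15 za28) (ka xa15 ya15 za41) (ka xa15 ya0 za45)) (@D3.rec (fun _ => Pt) (ka xa15 ya15 za33) (ka xa15 ya1 za10) (ka xa15 ya1 za21) (ka xa14 ya15 za1) (ka xa14 ya23 za44) (ka xa14 ya24 za0) (ka xa16 ya22 za18) (ka xa15 ya1 za6) (ka xa15 ya1 za16) (ka xa15 ya1 za11) (ka xa15 ya1 za22) (ka xa14 ya15 za9) (ka xa14 ya24 za5) (ka xa15 ya1 za15) (ka xa15 ya1 za24) (ka xa15 ya1 za28) (ka xa14 ya25 za5) (ka xa14 ya25 za6) (ka xa14 ya24 za35) (ka xa14 ya15 za46) (ka xa14 ya16 za3) (ka xa15 ya9 za3) (ka xa15 ya9 za4) (ka xa15 ya9 za12) (ka xa15 ya9 za13) (ka xa15 ya9 za20) (ka xa15 ya9 za21) (ka xa15 ya9 za22) (ka xa15 ya9 za25) (ka xa15 ya9 za26) (ka xa15 ya15 za29) (ka xa15 ya8 za50) (ka xa14 ya24 za15) (ka xa15 ya15 za11) (ka xa15 ya15 za17) (ka xa16 ya22 za27) (ka xa14 ya24 za16) (ka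 xa15 ya15 za12) (ka xa15 ya15 za18) (ka xa15 ya1 za5) (ka xa15 ya9 za0) (ka xa14 ya24 za23) (ka xa15 ya15 za39) (ka xa14 ya26 za14) (ka xa15 ya15 za45) (ka xa15 ya1 za39) (ka xa15 ya15 za47) (ka xa14 ya26 za28) (ka xa14 ya19 za5) (ka xa14 ya19 za6) (ka xa15 ya7 za17)) (@D3.rec (fun _ => Pt) (ka xa15 ya11 za22) (ka xa15 ya11 za23) (ka xa15 ya5 za16) (ka xa15 ya11 za24) (ka xa15 ya11 za25) (ka xa14 ya18 za48) (ka xa14 ya18 za49) (ka xa15 ya18 za8) (ka xa15 ya18 za21) (ka xa15 ya5 za41) (ka xa15 ya18 za12) (ka xa15 ya18 za24) (ka xa15 ya18 za3) (ka xa15 ya18 za9) (ka xa15 ya18 za22) (ka xa15 ya5 za42) (ka xa15 ya18 za13) (ka xa15 ya18 za26) (ka xa15 ya5 za49) (ka xa15 ya6 za6) (ka xa15 ya6 za12) (ka xa15 ya18 za27) (ka xa15 ya6 za7) (ka xa15 ya6 za13) (ka xa15 ya18 za25) (ka xa15 ya6 za14) (ka xa15 ya18 za39)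 (ka xa15 ya19 za22) (ka xa15 ya7 za4) (ka xa15 ya19 za5) (ka xa15 ya19 za27) (ka xa15 ya6 za38) (ka xa15 ya7 za9) (ka xa15 ya19 za11) (ka xa15 ya11 za36) (ka xa15 ya11 za39) (ka xa15 ya11 za50) (ka xa15 ya6 za50) (ka xa15 ya18 za50) (ka xa15 ya19 za0) (ka xa15 ya7 za5) (ka xa15 ya19 za6) (ka xa15 ya19 za28) (ka xa15 ya7 za10) (ka xa15 ya19 za12) (ka xa15 ya7 za30) (ka xa15 ya7 za43) (ka xa15 ya19 za33) (ka xa15 ya7 za22) (ka xa15 ya7 za36) (ka xa15 ya7 za46)) (@D3.rec (fun _ => Pt) (ka xa15 ya3 za9) (ka xa15 ya7 za31) (ka xa15 ya7 za44) (ka xa15 ya19 za26) (ka xa15 ya7 za37) (ka xa15 ya7 za47) (ka xa15 ya6 za15) (ka xa15 ya7 za45) (ka xa15 ya10 za47) (ka xa15 ya7 za49) (ka xa15 ya8 za3) (ka xa15 ya8 za9) (ka xa15 ya8 za4) (ka xa15 ya8 za5) (ka xa15 ya11 za13) (ka xa15 ya20 za13) (ka xa15 ya4 za48) (ka xa15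 ya19 za38) (ka xa15 ya19 za39) (ka xa15 ya3 za16) (ka xa15 ya20 za7) (ka xa15 ya20 za8) (ka xa15 ya20 za12) (ka xa15 ya20 za22) (ka xa15 ya20 za16) (ka xa15 ya20 za20) (ka xa15 ya3 za20) (ka xa15 ya3 za21) (ka xa15 ya3 za22) (ka xa15 ya3 za23) (ka xa15 ya3 za24) (ka xa15 ya1 za36) (ka xa15 ya3 za25) (ka xa15 ya3 za26) (ka xa15 ya3 za27) (ka xa15 ya3 za28) (ka xa15 ya3 za29) (ka xa15 ya3 za30) (ka xa15 ya3 za31) (ka xa15 ya3 za32) (ka xa15 ya3 za33) (ka xa15 ya3 za0) (ka xa15 ya3 za34) (ka xa15 ya3 za35) (ka xa15 ya3 za36) (ka xa15 ya3 za7) (ka xa15 ya3 za11) (ka xa15 ya3 za15) (ka xa14 ya19 za2) (ka xa14 ya19 za3) (ka xa14 ya19 za4)) (@D3.rec (fun _ => Pt) (ka xa14 ya19 za11) (ka xa14 ya19 za12) (ka xa14 ya19 za15) (ka xa14 ya19 za17) (ka xa14 ya19 za18) (ka xa14 ya19 za20) (ka xa14 ya19 za21) (ka xa14 ya19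 za30) (ka xa14 ya19 za33) (ka xa14 ya19 za34) (ka xa14 ya19 za41) (ka xa14 ya19 za42) (ka xa14 ya19 za43) (ka xa14 ya20 za0) (ka xa14 ya20 za11) (ka xa14 ya20 za12) (ka xa14 ya20 za13) (ka xa14 ya20 za14) (ka xa14 ya20 za15) (ka xa14 ya20 za16) (ka xa14 ya20 za32) (ka xa14 ya20 za33) (ka xa14 ya20 za34) (ka xa14 ya20 za41) (ka xa14 ya20 za42) (ka xa14 ya20 za48) (ka xa14 ya20 za49) (ka xa14 ya21 za0) (ka xa14 ya21 za2) (ka xa14 ya21 za17) (ka xa14 ya26 za35) (ka xa15 ya12 za11) (ka xa15 ya13 za17) (ka xa15 ya15 za3) (ka xa16 ya23 za8) (ka xa16 ya23 za9) (ka xa14 ya18 za50) (ka xa16 ya25 za27) (ka xa16 ya25 za28) (ka xa15 ya11 za37) (ka xa15 ya12 za29) (ka xa15 ya12 za31) (ka xa15 ya13 za25) (ka xa16 ya24 za45) (ka xa16 ya24 za46) (ka xa16 ya22 za48) (ka xa16 ya22 za49) (ka xa16 ya22 za50) (ka xa15 ya6 za28)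 (ka xa15 ya7 za14) (ka xa15 ya18 za4)) (@D3.rec (fun _ => Pt) (ka xa15 ya19 za1) (ka xa15 ya20 za9) (ka xa15 ya0 za38) (ka xa15 ya15 za26) (ka xa16 ya24 za47) (ka xa15 ya6 za44) (ka xa15 ya6 za47) (ka xa15 ya7 za28) (ka xa15 ya4 za18) (ka xa15 ya11 za18) (ka xa16 ya24 za48) (ka xa15 ya4 za19) (ka xa16 ya24 za49) (ka xa16 ya24 za50) (ka xa15 ya16 za24) (ka xa15 ya16 za36) (ka xa16 ya25 za0) (ka xa16 ya25 za1) (ka xa15 ya7 za15) (ka xa15 ya20 za11) (ka xa15 ya1 za40) (ka xa15 ya16 za1) (ka xa15 ya20 za2) (ka xa15 ya7 za29) (ka xa15 ya4 za20) (ka xa15 ya18 za20) (ka xa15 ya16 za44) (ka xa15 ya16 za49) (ka xa16 ya25 za2) (ka xa15 ya11 za49) (ka xa15 ya16 za45) (ka xa15 ya16 za50) (ka xa15 ya0 za37) (ka xa16 ya25 za3) (ka xa16 ya25 za4) (ka xa14 ya19 za45) (ka xa14 ya19 za46) (ka xa16 ya26 za25) (ka xa16 ya26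 za26) (ka xa15 ya19 za2) (ka xa15 ya20 za10) (ka xa15 ya0 za25) (ka xa15 ya0 za39) (ka xa15 ya15 za27) (ka xa16 ya25 za5) (ka xa14 ya20 za3) (ka xa14 ya20 za5) (ka xa14 ya20 za6) (ka xa15 ya12 za33) (ka xa16 ya26 za35) (ka xa15 ya5 za33)) (@D3.rec (fun _ => Pt) (ka xa16 ya26 za36) (ka xa16 ya26 za37) (ka xa15 ya11 za19) (ka xa15 ya18 za36) (ka xa15 ya6 za18) (ka xa15 ya8 za16) (ka xa15 ya18 za35) (ka xa16 ya25 za6) (ka xa16 ya25 za7) (ka xa16 ya25 za8) (ka xa16 ya25 za9) (ka xa16 ya25 za10) (ka xa16 ya25 za11) (ka xa14 ya20 za18) (ka xa17 ya0 za5) (ka xa15 ya19 za18) (ka xa15 ya1 za30) (ka xa15 ya1 za41) (ka xa15 ya16 za2) (ka xa15 ya12 za47) (ka xa14 ya20 za27) (ka xa15 ya5 za34) (ka xa15 ya9 za48) (ka xa15 ya8 za10) (ka xa15 ya6 za49) (ka xa15 ya19 za25) (ka xa16 ya25 za12) (ka xa16 ya25 za13) (ka xa15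 ya12 za27) (ka xa16 ya25 za14) (ka xa15 ya10 za43) (ka xa15 ya7 za16) (ka xa15 ya19 za32) (ka xa16 ya25 za15) (ka xa15 ya1 za31) (ka xa15 ya1 za42) (ka xa15 ya13 za16) (ka xa15 ya16 za3) (ka xa15 ya11 za11) (ka xa16 ya25 za16) (ka xa14 ya21 za13) (ka xa16 ya25 za17) (ka xa15 ya11 za6) (ka xa15 ya13 za24) (ka xa14 ya21 za19) (ka xa14 ya21 za5) (ka xa17 ya0 za24) (ka xa15 ya20 za14) (ka xa14 ya21 za11) (ka xa14 ya21 za12) (ka xa15 ya13 za5))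
def f_a_16 : D2 → D3 → Pt := @D2.rec (fun _ => D3 → Pt) (@D3.rec (fun _ => Pt) (ka xa17 ya0 za31) (ka xa17 ya0 za32) (ka xa17 ya0 za26) (ka xa15 ya11 za20) (ka xa15 ya19 za19) (ka xa15 ya20 za18) (ka xa15 ya20 za21) (ka xa15 ya10 za2) (ka xa15 ya20 za17) (ka xa15 ya9 za50) (ka xa15 ya20 za19) (ka xa14 ya22 za27) (ka xa14 ya21 za39) (ka xa14 ya21 za41) (ka xa14 ya21 za43) (ka xa14 ya21 za44) (ka xa14 ya21 za47) (ka xa14 ya21 za49) (ka xa14 ya22 za36) (ka xa17 ya0 za42) (ka xa15 ya8 za39) (ka xa17 ya0 za43) (ka xa15 ya13 za45) (ka xa14 ya22 za39) (ka xa15 ya13 za43) (ka xa14 ya22 za38) (ka xa14 ya22 za30) (ka xa15 ya13 za39) (ka xa14 ya22 za28) (ka xa14 ya22 za29) (ka xa14 ya22 za37) (ka xa14 ya22 za32) (ka xa14 ya22 za33) (ka xa14 ya22 za35) (ka xa14 ya22 za19) (ka xa16 ya22 za6) (ka xa14 ya22 za44) (ka xa14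 ya22 za45) (ka xa14 ya22 za48) (ka xa14 ya22 za50) (ka xa15 ya13 za36) (ka xa17 ya0 za47) (ka xa17 ya0 za45) (ka xa15 ya13 za34) (ka xa15 ya13 za46) (ka xa17 ya0 za49) (ka xa16 ya22 za4) (ka xa17 ya0 za50) (ka xa17 ya0 za44) (ka xa17 ya0 za48) (ka xa15 ya13 za33)) (@D3.rec (fun _ => Pt) (ka xa16 ya22 za5) (ka xa15 ya13 za40) (ka xa17 ya1 za2) (ka xa17 ya1 za3) (ka xa17 ya1 za0) (ka xa14 ya26 za41) (ka xa14 ya26 za42) (ka xa15 ya9 za14) (ka xa15 ya9 za23) (ka xa15 ya9 za27) (ka xa14 ya23 za42) (ka xa14 ya23 za43) (ka xa14 ya23 za45) (ka xa14 ya23 za46) (ka xa14 ya23 za47) (ka xa14 ya23 za48) (ka xa14 ya23 za49) (ka xa14 ya23 za50) (ka xa14 ya24 za1) (ka xa14 ya24 za3) (ka xa14 ya24 za4) (ka xa14 ya24 za7) (ka xa14 ya24 za10) (ka xa14 ya24 za11) (ka xa14 ya24 za12) (ka xa14 ya24 za13) (ka xa14 ya24 za14) (ka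 xa14 ya24 za18) (ka xa14 ya24 za19) (ka xa14 ya24 za21) (ka xa14 ya24 za22) (ka xa14 ya24 za24) (ka xa14 ya24 za26) (ka xa14 ya24 za27) (ka xa14 ya24 za38) (ka xa14 ya24 za44) (ka xa15 ya14 za18) (ka xa15 ya14 za31) (ka xa15 ya16 za21) (ka xa15 ya16 za31) (ka xa15 ya16 za48) (ka xa17 ya1 za9) (ka xa17 ya1 za10) (ka xa15 ya0 za22) (ka xa16 ya22 za19) (ka xa16 ya24 za31) (ka xa17 ya1 za11) (ka xa17 ya1 za12) (ka xa15 ya9 za6) (ka xa17 ya1 za13) (ka xa17 ya1 za14)) (@D3.rec (fun _ => Pt) (ka xa16 ya22 za20) (ka xa17 ya1 za15) (ka xa15 ya9 za18) (ka xa17 ya1 za16) (ka xa17 ya1 za17) (ka xa15 ya15 za10) (ka xa15 ya14 za42) (ka xa15 ya9 za19) (ka xa15 ya9 za24) (ka xa15 ya14 za14) (ka xa17 ya1 za18) (ka xa17 ya1 za19) (ka xa17 ya1 za20) (ka xa16 ya22 za36) (ka xa16 ya22 za40) (ka xa15 ya2 za43) (ka xa17 ya1 za21)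 (ka xa17 ya1 za22) (ka xa15 ya15 za15) (ka xa17 ya1 za23) (ka xa17 ya1 za24) (ka xa15 ya15 za40) (ka xa15 ya1 za1) (ka xa15 ya15 za16) (ka xa17 ya1 za25) (ka xa15 ya0 za50) (ka xa15 ya9 za17) (ka xa15 ya15 za36) (ka xa15 ya15 za46) (ka xa15 ya1 za32) (ka xa17 ya1 za26) (ka xa15 ya16 za5) (ka xa15 ya3 za3) (ka xa15 ya3 za13) (ka xa17 ya1 za27) (ka xa15 ya1 za23) (ka xa15 ya9 za7) (ka xa15 ya9 za8) (ka xa15 ya15 za23) (ka xa15 ya15 za38) (ka xa14 ya26 za45) (ka xa15 ya0 za7) (ka xa15 ya2 za38) (ka xa15 ya15 za1) (ka xa15 ya15 za2) (ka xa16 ya22 za26) (ka xa15 ya0 za8) (ka xa15 ya15 za8) (ka xa14 ya26 za33) (ka xa14 ya26 za34) (ka xa14 ya26 za36)) (@D3.rec (fun _ => Pt) (ka xa14 ya26 za37) (ka xa14 ya26 za38) (ka xa14 ya26 za39) (ka xa14 ya26 za40) (ka xa14 ya26 za43) (ka xa14 ya26 za44) (ka xa14 ya26 za46)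 (ka xa14 ya26 za47) (ka xa15 ya0 za26) (ka xa15 ya0 za48) (ka xa14 ya26 za50) (ka xa15 ya0 za0) (ka xa15 ya0 za1) (ka xa15 ya0 za2) (ka xa15 ya0 za4) (ka xa15 ya0 za5) (ka xa15 ya0 za6) (ka xa15 ya0 za49) (ka xa15 ya0 za10) (ka xa15 ya0 za11) (ka xa15 ya0 za12) (ka xa15 ya0 za14) (ka xa15 ya0 za15) (ka xa15 ya14 za28) (ka xa15 ya0 za18) (ka xa15 ya0 za21) (ka xa15 ya0 za23) (ka xa15 ya0 za24) (ka xa15 ya0 za27) (ka xa15 ya0 za28) (ka xa14 ya25 za46) (ka xa15 ya0 za29) (ka xa15 ya0 za30) (ka xa14 ya25 za47) (ka xa17 ya3 za2) (ka xa17 ya3 za5) (ka xa15 ya0 za41) (ka xa15 ya0 za42) (ka xa15 ya0 za43) (ka xa15 ya0 za46) (ka xa15 ya0 za47) (ka xa15 ya1 za0) (ka xa14 ya26 za6) (ka xa16 ya22 za44) (ka xa15 ya1 za7) (ka xa15 ya1 za8) (ka xa15 ya1 za9) (ka xa15 ya1 za12) (ka xa15 ya1 za13) (ka xa15 ya1 za20) (ka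 xa15 ya14 za30)) (@D3.rec (fun _ => Pt) (ka xa15 ya1 za18) (ka xa15 ya1 za19) (ka xa14 ya26 za25) (ka xa15 ya1 za25) (ka xa15 ya1 za26) (ka xa16 ya22 za46) (ka xa15 ya1 za43) (ka xa15 ya1 za27) (ka xa15 ya14 za36) (ka xa15 ya1 za45) (ka xa15 ya12 za22) (ka xa15 ya13 za21) (ka xa17 ya2 za20) (ka xa17 ya2 za27) (ka xa17 ya2 za28) (ka xa16 ya25 za18) (ka xa16 ya25 za19) (ka xa17 ya2 za29) (ka xa17 ya2 za30) (ka xa17 ya2 za31) (ka xa17 ya2 za32) (ka xa17 ya2 za33) (ka xa17 ya2 za34) (ka xa17 ya1 za6) (ka xa17 ya1 za7) (ka xa15 ya6 za22) (ka xa17 ya2 za35) (ka xa17 ya2 za36) (ka xa17 ya2 za21) (ka xa17 ya2 za37) (ka xa15 ya14 za17) (ka xa15 ya14 za20) (ka xa15 ya14 za25) (ka xa16 ya25 za24) (ka xa17 ya2 za40) (ka xa17 ya2 za41) (ka xa17 ya2 za42) (ka xa17 ya2 za43) (ka xa16 ya22 za7) (ka xa17 ya2 za44) (ka xa17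 ya2 za45) (ka xa17 ya1 za47) (ka xa17 ya2 za22) (ka xa17 ya1 za44) (ka xa15 ya14 za26) (ka xa17 ya2 za47) (ka xa15 ya15 za44) (ka xa17 ya2 za48) (ka xa16 ya22 za9) (ka xa17 ya2 za49) (ka xa17 ya2 za50)) (@D3.rec (fun _ => Pt) (ka xa15 ya14 za29) (ka xa16 ya22 za10) (ka xa17 ya1 za35) (ka xa17 ya3 za0) (ka xa16 ya26 za21) (ka xa15 ya17 za49) (ka xa16 ya26 za31) (ka xa17 ya2 za38) (ka xa17 ya3 za1) (ka xa17 ya2 za10) (ka xa17 ya3 za3) (ka xa17 ya3 za4) (ka xa15 ya0 za33) (ka xa15 ya0 za35) (ka xa15 ya0 za36) (ka xa15 ya14 za9) (ka xa16 ya24 za29) (ka xa17 ya4 za26) (ka xa15 ya14 za10) (ka xa17 ya4 za27) (ka xa16 ya22 za42) (ka xa16 ya25 za37) (ka xa16 ya26 za22) (ka xa16 ya25 za45) (ka xa16 ya26 za32) (ka xa16 ya22 za13) (ka xa17 ya3 za8) (ka xa17 ya3 za9) (ka xa17 ya3 za10) (ka xa16 ya22 za11) (ka xa16 ya22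 za15) (ka xa17 ya3 za11) (ka xa17 ya3 za12) (ka xa17 ya2 za39) (ka xa17 ya2 za46) (ka xa17 ya2 za8) (ka xa15 ya14 za11) (ka xa15 ya14 za13) (ka xa16 ya22 za23) (ka xa16 ya22 za21) (ka xa17 ya3 za15) (ka xa17 ya3 za16) (ka xa17 ya3 za17) (ka xa17 ya3 za18) (ka xa16 ya22 za17) (ka xa16 ya22 za22) (ka xa17 ya3 za19) (ka xa17 ya3 za20) (ka xa17 ya3 za13) (ka xa15 ya14 za15) (ka xa15 ya15 za9)) (@D3.rec (fun _ => Pt) (ka xa17 ya2 za17) (ka xa16 ya22 za24) (ka xa16 ya22 za25) (ka xa17 ya3 za22) (ka xa17 ya3 za21) (ka xa15 ya19 za49) (ka xa17 ya0 za8) (ka xa17 ya0 za20) (ka xa17 ya2 za13) (ka xa15 ya1 za37) (ka xa15 ya1 za38) (ka xa16 ya24 za30) (ka xa17 ya5 za15) (ka xa17 ya5 za16) (ka xa16 ya22 za47) (ka xa16 ya26 za12) (ka xa17 ya0 za9) (ka xa15 ya19 za46) (ka xa17 ya0 za21) (ka xa17 ya3 za24) (ka xa15 ya12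 za38) (ka xa15 ya13 za9) (ka xa15 ya12 za34) (ka xa15 ya13 za6) (ka xa15 ya12 za39) (ka xa15 ya13 za13) (ka xa15 ya13 za14) (ka xa15 ya2 za39) (ka xa15 ya2 za40) (ka xa15 ya2 za44) (ka xa15 ya3 za1) (ka xa15 ya3 za2) (ka xa15 ya3 za4) (ka xa15 ya3 za8) (ka xa15 ya3 za17) (ka xa15 ya16 za27) (ka xa15 ya16 za28) (ka xa15 ya17 za1) (ka xa15 ya14 za19) (ka xa15 ya14 za32) (ka xa15 ya16 za38) (ka xa15 ya16 za39) (ka xa15 ya16 za18) (ka xa15 ya16 za19) (ka xa15 ya16 za20) (ka xa15 ya16 za29) (ka xa15 ya16 za30) (ka xa15 ya16 za40) (ka xa15 ya16 za41) (ka xa15 ya16 za46) (ka xa15 ya16 za47)) (@D3.rec (fun _ => Pt) (ka xa15 ya17 za0) (ka xa15 ya16 za13) (ka xa15 ya16 za14) (ka xa17 ya2 za23) (ka xa17 ya5 za30) (ka xa15 ya16 za15) (ka xa17 ya2 za2) (ka xa17 ya5 za31) (ka xa15 ya11 za43) (ka xa15 ya16 za12) (ka xa15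 ya16 za16) (ka xa15 ya16 za17) (ka xa15 ya15 za22) (ka xa16 ya24 za40) (ka xa17 ya5 za32) (ka xa17 ya5 za33) (ka xa17 ya2 za15) (ka xa15 ya15 za49) (ka xa16 ya24 za43) (ka xa16 ya23 za39) (ka xa17 ya5 za34) (ka xa15 ya20 za1) (ka xa15 ya14 za33) (ka xa17 ya2 za16) (ka xa15 ya15 za50) (ka xa16 ya24 za44) (ka xa16 ya24 za20) (ka xa16 ya24 za26) (ka xa16 ya24 za27) (ka xa16 ya24 za28) (ka xa16 ya24 za32) (ka xa16 ya24 za33) (ka xa16 ya24 za34) (ka xa16 ya24 za35) (ka xa16 ya24 za36) (ka xa16 ya24 za37) (ka xa16 ya24 za38) (ka xa16 ya24 za39) (ka xa16 ya24 za41) (ka xa16 ya24 za42) (ka xa15 ya5 za6) (ka xa15 ya5 za7) (ka xa15 ya5 za8) (ka xa15 ya5 za13) (ka xa15 ya5 za14) (ka xa15 ya5 za15) (ka xa15 ya5 za17) (ka xa15 ya5 za18) (ka xa15 ya5 za21) (ka xa15 ya5 za22) (ka xa15 ya5 za23)) (@D3.rec (fun _ => Pt)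 (ka xa15 ya5 za29) (ka xa15 ya5 za30) (ka xa15 ya5 za31) (ka xa15 ya5 za43) (ka xa15 ya5 za44) (ka xa15 ya5 za50) (ka xa15 ya6 za0) (ka xa15 ya6 za1) (ka xa15 ya6 za8) (ka xa15 ya6 za9) (ka xa15 ya6 za19) (ka xa15 ya6 za20) (ka xa15 ya6 za21) (ka xa15 ya6 za23) (ka xa15 ya6 za24) (ka xa15 ya6 za31) (ka xa15 ya6 za33) (ka xa15 ya6 za34) (ka xa15 ya6 za35) (ka xa15 ya6 za36) (ka xa15 ya6 za39) (ka xa15 ya6 za40) (ka xa15 ya6 za41) (ka xa16 ya23 za36) (ka xa16 ya26 za0) (ka xa16 ya26 za3) (ka xa15 ya7 za0) (ka xa15 ya7 za1) (ka xa15 ya7 za2) (ka xa15 ya7 za3) (ka xa15 ya7 za6) (ka xa15 ya7 za7) (ka xa15 ya7 za11) (ka xa15 ya7 za12) (ka xa15 ya7 za18) (ka xa15 ya7 za19) (ka xa15 ya7 za20) (ka xa15 ya7 za23) (ka xa15 ya7 za24) (ka xa15 ya7 za25) (ka xa15 ya7 za32) (ka xa15 ya7 za33) (ka xa15 ya7 za38) (ka xa15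 ya7 za39) (ka xa15 ya7 za50) (ka xa15 ya8 za0) (ka xa15 ya8 za1) (ka xa15 ya8 za7) (ka xa15 ya8 za13) (ka xa15 ya4 za49) (ka xa16 ya24 za17)) (@D3.rec (fun _ => Pt) (ka xa17 ya7 za35) (ka xa15 ya8 za17) (ka xa15 ya16 za25) (ka xa15 ya16 za26) (ka xa15 ya10 za28) (ka xa15 ya11 za4) (ka xa15 ya12 za21) (ka xa15 ya12 za23) (ka xa15 ya13 za22) (ka xa17 ya4 za17) (ka xa17 ya6 za30) (ka xa17 ya6 za31) (ka xa15 ya5 za10) (ka xa15 ya5 za11) (ka xa15 ya10 za20) (ka xa16 ya23 za10) (ka xa17 ya7 za46) (ka xa17 ya7 za47) (ka xa15 ya12 za7) (ka xa15 ya11 za26) (ka xa15 ya12 za8) (ka xa16 ya23 za3) (ka xa17 ya6 za32) (ka xa17 ya6 za33) (ka xa17 ya6 za34) (ka xa16 ya23 za6) (ka xa17 ya6 za35) (ka xa17 ya6 za36) (ka xa15 ya6 za45) (ka xa15 ya8 za15) (ka xa17 ya3 za42) (ka xa17 ya6 za37) (ka xa17 ya6 za38) (ka xa15 ya17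 za18) (ka xa15 ya17 za25) (ka xa15 ya18 za45) (ka xa15 ya18 za46) (ka xa15 ya18 za38) (ka xa16 ya23 za13) (ka xa17 ya6 za39) (ka xa17 ya6 za40) (ka xa17 ya6 za41) (ka xa15 ya17 za12) (ka xa16 ya26 za40) (ka xa15 ya11 za16) (ka xa15 ya18 za33) (ka xa15 ya17 za42) (ka xa15 ya18 za34) (ka xa15 ya10 za29) (ka xa15 ya19 za10) (ka xa15 ya19 za9)) (@D3.rec (fun _ => Pt) (ka xa16 ya23 za14) (ka xa16 ya23 za20) (ka xa17 ya6 za42) (ka xa17 ya6 za43) (ka xa15 ya19 za34) (ka xa15 ya19 za21) (ka xa15 ya19 za20) (ka xa16 ya23 za23) (ka xa17 ya6 za44) (ka xa17 ya6 za45) (ka xa17 ya6 za46) (ka xa15 ya10 za21) (ka xa15 ya10 za30) (ka xa15 ya19 za30) (ka xa16 ya23 za24) (ka xa16 ya23 za27) (ka xa17 ya6 za47) (ka xa17 ya6 za48) (ka xa16 ya24 za5) (ka xa15 ya10 za38) (ka xa16 ya23 za25) (ka xa16 ya23 za28) (ka xa15 ya17 za44)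 (ka xa15 ya19 za48) (ka xa16 ya26 za45) (ka xa17 ya3 za26) (ka xa17 ya6 za49) (ka xa17 ya6 za50) (ka xa15 ya17 za39) (ka xa17 ya3 za43) (ka xa17 ya7 za0) (ka xa17 ya7 za1) (ka xa15 ya6 za29) (ka xa15 ya6 za30) (ka xa15 ya17 za37) (ka xa15 ya17 za38) (ka xa16 ya25 za40) (ka xa17 ya9 za10) (ka xa17 ya0 za14) (ka xa17 ya3 za27) (ka xa15 ya17 za50) (ka xa17 ya7 za2) (ka xa15 ya18 za0) (ka xa17 ya7 za3) (ka xa16 ya23 za0) (ka xa17 ya7 za4) (ka xa17 ya7 za5) (ka xa17 ya7 za6) (ka xa15 ya17 za45) (ka xa16 ya23 za33) (ka xa17 ya7 za7)) (@D3.rec (fun _ => Pt) (ka xa17 ya7 za8) (ka xa17 ya7 za9) (ka xa15 ya6 za48) (ka xa15 ya11 za32) (ka xa16 ya25 za48) (ka xa17 ya8 za11) (ka xa15 ya11 za34) (ka xa16 ya25 za49) (ka xa17 ya9 za29) (ka xa16 ya26 za46) (ka xa15 ya12 za2) (ka xa16 ya23 za40) (ka xa16 ya23 za41) (ka xa17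 ya7 za13) (ka xa17 ya7 za14) (ka xa17 ya7 za15) (ka xa17 ya7 za16) (ka xa16 ya23 za30) (ka xa16 ya23 za44) (ka xa17 ya7 za17) (ka xa17 ya7 za18) (ka xa15 ya18 za11) (ka xa15 ya18 za10) (ka xa16 ya23 za34) (ka xa16 ya23 za47) (ka xa17 ya7 za19) (ka xa17 ya7 za20) (ka xa17 ya10 za6) (ka xa16 ya25 za41) (ka xa16 ya26 za10) (ka xa16 ya23 za1) (ka xa17 ya7 za22) (ka xa17 ya7 za23) (ka xa17 ya7 za24) (ka xa15 ya18 za18) (ka xa16 ya24 za1) (ka xa17 ya7 za25) (ka xa17 ya7 za26) (ka xa17 ya7 za27) (ka xa17 ya10 za17) (ka xa15 ya11 za27) (ka xa15 ya11 za35) (ka xa16 ya25 za50) (ka xa16 ya23 za49) (ka xa16 ya24 za4) (ka xa17 ya7 za28) (ka xa17 ya7 za29) (ka xa15 ya18 za23) (ka xa16 ya24 za2) (ka xa16 ya24 za8) (ka xa16 ya24 za9)) (@D3.rec (fun _ => Pt) (ka xa17 ya10 za27) (ka xa17 ya7 za30) (ka xa15 ya7 za40) (ka xa15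 ya11 za45) (ka xa16 ya23 za50) (ka xa16 ya24 za6) (ka xa16 ya24 za3) (ka xa16 ya24 za11) (ka xa17 ya7 za31) (ka xa17 ya7 za32) (ka xa17 ya10 za37) (ka xa17 ya7 za33) (ka xa15 ya8 za2) (ka xa16 ya24 za12) (ka xa16 ya24 za13) (ka xa16 ya24 za15) (ka xa15 ya8 za6) (ka xa17 ya10 za42) (ka xa17 ya7 za34) (ka xa15 ya19 za50) (ka xa15 ya20 za0) (ka xa15 ya19 za45) (ka xa15 ya18 za7) (ka xa15 ya17 za33) (ka xa15 ya18 za5) (ka xa15 ya8 za30) (ka xa15 ya11 za5) (ka xa15 ya13 za23) (ka xa15 ya8 za27) (ka xa15 ya10 za50) (ka xa17 ya11 za0) (ka xa15 ya12 za9) (ka xa17 ya10 za50) (ka xa15 ya17 za13) (ka xa15 ya17 za43) (ka xa15 ya19 za44) (ka xa15 ya18 za6) (ka xa15 ya17 za32) (ka xa15 ya11 za28) (ka xa17 ya0 za46) (ka xa15 ya13 za42) (ka xa15 ya9 za5) (ka xa15 ya15 za34) (ka xa15 ya14 za23) (ka xa15 ya9 za15) (ka xa15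 ya9 za16) (ka xa16 ya22 za35) (ka xa16 ya22 za8) (ka xa16 ya22 za28) (ka xa17 ya11 za5) (ka xa17 ya1 za40)) (@D3.rec (fun _ => Pt) (ka xa17 ya2 za18) (ka xa15 ya18 za30) (ka xa15 ya18 za40) (ka xa15 ya15 za13) (ka xa16 ya22 za29) (ka xa16 ya22 za30) (ka xa17 ya1 za8) (ka xa17 ya11 za8) (ka xa17 ya11 za9) (ka xa17 ya1 za45) (ka xa17 ya1 za48) (ka xa16 ya22 za31) (ka xa16 ya22 za32) (ka xa16 ya22 za33) (ka xa15 ya11 za29) (ka xa15 ya11 za30) (ka xa15 ya11 za31) (ka xa15 ya11 za21) (ka xa15 ya18 za14) (ka xa15 ya18 za41) (ka xa15 ya9 za39) (ka xa15 ya9 za40) (ka xa17 ya11 za33) (ka xa17 ya0 za13) (ka xa15 ya19 za7) (ka xa15 ya19 za29) (ka xa15 ya19 za13) (ka xa15 ya9 za45) (ka xa17 ya0 za6) (ka xa17 ya0 za36) (ka xa15 ya20 za23) (ka xa15 ya20 za6) (ka xa15 ya16 za32) (ka xa15 ya16 za42) (ka xa15 ya11 za38)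 (ka xa15 ya11 za40) (ka xa15 ya11 za41) (ka xa15 ya11 za44) (ka xa15 ya11 za46) (ka xa15 ya17 za29) (ka xa15 ya19 za41) (ka xa15 ya12 za3) (ka xa15 ya12 za4) (ka xa15 ya12 za5) (ka xa15 ya12 za6) (ka xa17 ya7 za48) (ka xa17 ya8 za44) (ka xa15 ya12 za10) (ka xa15 ya12 za12) (ka xa15 ya12 za13) (ka xa15 ya12 za14)) (@D3.rec (fun _ => Pt) (ka xa15 ya12 za15) (ka xa15 ya12 za16) (ka xa15 ya12 za17) (ka xa17 ya7 za38) (ka xa17 ya8 za29) (ka xa17 ya0 za18) (ka xa15 ya12 za30) (ka xa15 ya12 za32) (ka xa15 ya12 za35) (ka xa15 ya12 za36) (ka xa15 ya12 za37) (ka xa15 ya12 za40) (ka xa15 ya12 za41) (ka xa17 ya0 za12) (ka xa15 ya12 za48) (ka xa15 ya12 za49) (ka xa15 ya12 za50) (ka xa16 ya24 za10) (ka xa15 ya13 za7) (ka xa15 ya13 za8) (ka xa15 ya19 za42) (ka xa15 ya13 za15) (ka xa17 ya0 za22) (ka xa15 ya13 za18) (ka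 xa15 ya13 za19) (ka xa15 ya13 za20) (ka xa17 ya7 za39) (ka xa17 ya0 za41) (ka xa17 ya0 za27) (ka xa15 ya13 za26) (ka xa15 ya13 za27) (ka xa15 ya13 za28) (ka xa15 ya20 za26) (ka xa15 ya13 za29) (ka xa16 ya24 za14) (ka xa15 ya11 za17) (ka xa17 ya8 za25) (ka xa17 ya12 za40) (ka xa16 ya26 za1) (ka xa16 ya26 za43) (ka xa17 ya0 za37) (ka xa17 ya11 za30) (ka xa16 ya23 za2) (ka xa16 ya23 za4) (ka xa16 ya23 za5) (ka xa16 ya23 za7) (ka xa17 ya3 za34) (ka xa17 ya8 za2) (ka xa17 ya10 za18) (ka xa16 ya25 za20) (ka xa17 ya10 za49)) (@D3.rec (fun _ => Pt) (ka xa17 ya11 za27) (ka xa17 ya11 za28) (ka xa17 ya11 za29) (ka xa17 ya9 za30) (ka xa15 ya18 za47) (ka xa17 ya9 za33) (ka xa16 ya26 za18) (ka xa16 ya23 za37) (ka xa16 ya25 za31) (ka xa17 ya11 za42) (ka xa16 ya23 za38) (ka xa17 ya11 za43) (ka xa17 ya11 za44) (ka xa15 ya16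 za37) (ka xa17 ya6 za4) (ka xa17 ya11 za45) (ka xa16 ya26 za14) (ka xa15 ya19 za24) (ka xa17 ya9 za37) (ka xa17 ya11 za48) (ka xa17 ya11 za49) (ka xa17 ya11 za50) (ka xa17 ya12 za0) (ka xa17 ya8 za1) (ka xa17 ya8 za3) (ka xa17 ya0 za10) (ka xa16 ya25 za21) (ka xa17 ya12 za3) (ka xa16 ya25 za22) (ka xa17 ya12 za4) (ka xa17 ya12 za5) (ka xa17 ya12 za6) (ka xa17 ya12 za7) (ka xa17 ya12 za8) (ka xa17 ya12 za9) (ka xa15 ya12 za25) (ka xa15 ya12 za26) (ka xa17 ya7 za40) (ka xa17 ya3 za28) (ka xa17 ya7 za41) (ka xa15 ya18 za1) (ka xa17 ya13 za39) (ka xa17 ya13 za40) (ka xa17 ya0 za19) (ka xa15 ya18 za28) (ka xa16 ya25 za32) (ka xa17 ya12 za13) (ka xa16 ya25 za33) (ka xa17 ya12 za14) (ka xa16 ya26 za38) (ka xa17 ya5 za26)) (@D3.rec (fun _ => Pt) (ka xa17 ya12 za15) (ka xa17 ya12 za16) (ka xa17 ya12 za17) (ka xa17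 ya12 za18) (ka xa17 ya5 za25) (ka xa17 ya5 za28) (ka xa17 ya12 za19) (ka xa17 ya14 za13) (ka xa15 ya12 za45) (ka xa15 ya12 za46) (ka xa17 ya14 za14) (ka xa17 ya14 za15) (ka xa17 ya12 za22) (ka xa17 ya12 za23) (ka xa15 ya13 za3) (ka xa15 ya13 za4) (ka xa15 ya18 za19) (ka xa17 ya14 za19) (ka xa17 ya0 za33) (ka xa17 ya5 za27) (ka xa17 ya12 za25) (ka xa15 ya18 za17) (ka xa17 ya5 za29) (ka xa17 ya12 za27) (ka xa17 ya0 za23) (ka xa16 ya25 za23) (ka xa17 ya12 za29) (ka xa17 ya12 za30) (ka xa17 ya12 za31) (ka xa17 ya3 za29) (ka xa17 ya7 za42) (ka xa17 ya0 za28) (ka xa16 ya25 za34) (ka xa17 ya12 za36) (ka xa17 ya12 za37) (ka xa17 ya12 za39) (ka xa15 ya13 za35) (ka xa17 ya1 za5) (ka xa17 ya1 za4) (ka xa17 ya1 za1) (ka xa15 ya14 za12) (ka xa15 ya14 za16) (ka xa15 ya14 za21) (ka xa15 ya14 za22) (ka xa15 ya14 za24) (ka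 xa15 ya14 za27) (ka xa15 ya16 za6) (ka xa15 ya14 za34) (ka xa15 ya14 za35) (ka xa17 ya1 za28) (ka xa17 ya4 za28)) (@D3.rec (fun _ => Pt) (ka xa17 ya4 za31) (ka xa17 ya4 za50) (ka xa17 ya14 za32) (ka xa17 ya5 za0) (ka xa17 ya14 za33) (ka xa17 ya1 za29) (ka xa17 ya3 za48) (ka xa17 ya1 za30) (ka xa17 ya5 za37) (ka xa17 ya3 za49) (ka xa17 ya14 za34) (ka xa17 ya14 za35) (ka xa17 ya11 za7) (ka xa17 ya14 za36) (ka xa17 ya3 za50) (ka xa17 ya4 za9) (ka xa17 ya14 za37) (ka xa17 ya3 za14) (ka xa17 ya1 za31) (ka xa17 ya5 za38) (ka xa17 ya6 za17) (ka xa17 ya14 za39) (ka xa17 ya3 za25) (ka xa15 ya15 za4) (ka xa15 ya15 za5) (ka xa15 ya15 za6) (ka xa15 ya15 za7) (ka xa15 ya15 za14) (ka xa15 ya15 za19) (ka xa15 ya15 za30) (ka xa15 ya15 za31) (ka xa15 ya15 za35) (ka xa15 ya15 za43) (ka xa15 ya16 za4) (ka xa17 ya2 za24) (ka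 xa17 ya2 za25) (ka xa16 ya25 za25) (ka xa17 ya15 za13) (ka xa17 ya15 za14) (ka xa17 ya15 za15) (ka xa17 ya15 za16) (ka xa17 ya1 za43) (ka xa17 ya5 za2) (ka xa16 ya22 za37) (ka xa16 ya22 za41) (ka xa17 ya11 za18) (ka xa17 ya15 za17) (ka xa17 ya2 za5) (ka xa17 ya2 za9) (ka xa16 ya22 za38) (ka xa16 ya22 za43)) (@D3.rec (fun _ => Pt) (ka xa17 ya15 za18) (ka xa15 ya15 za24) (ka xa15 ya15 za25) (ka xa17 ya6 za8) (ka xa17 ya2 za19) (ka xa17 ya15 za41) (ka xa17 ya15 za42) (ka xa16 ya25 za46) (ka xa16 ya26 za33) (ka xa16 ya22 za14) (ka xa16 ya22 za34) (ka xa17 ya15 za19) (ka xa17 ya15 za20) (ka xa17 ya15 za21) (ka xa16 ya22 za12) (ka xa16 ya22 za16) (ka xa17 ya11 za6) (ka xa17 ya16 za9) (ka xa17 ya2 za1) (ka xa17 ya4 za10) (ka xa16 ya22 za45) (ka xa17 ya2 za12) (ka xa15 ya16 za0) (ka xa17 ya6 za14) (ka xa17 ya6 za18)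 (ka xa17 ya2 za14) (ka xa16 ya26 za13) (ka xa17 ya0 za11) (ka xa17 ya14 za38) (ka xa15 ya16 za22) (ka xa15 ya16 za23) (ka xa15 ya16 za33) (ka xa15 ya16 za43) (ka xa17 ya6 za5) (ka xa17 ya5 za49) (ka xa17 ya6 za1) (ka xa17 ya6 za6) (ka xa17 ya6 za7) (ka xa17 ya5 za41) (ka xa17 ya5 za42) (ka xa17 ya1 za32) (ka xa17 ya16 za12) (ka xa17 ya16 za13) (ka xa16 ya26 za6) (ka xa17 ya7 za37) (ka xa17 ya5 za35) (ka xa17 ya5 za36) (ka xa17 ya5 za43) (ka xa17 ya5 za44) (ka xa17 ya1 za33) (ka xa17 ya11 za40)) (@D3.rec (fun _ => Pt) (ka xa17 ya16 za14) (ka xa15 ya17 za40) (ka xa15 ya17 za41) (ka xa16 ya26 za7) (ka xa17 ya13 za18) (ka xa17 ya5 za39) (ka xa17 ya5 za40) (ka xa17 ya5 za45) (ka xa17 ya5 za46) (ka xa17 ya11 za41) (ka xa17 ya16 za45) (ka xa16 ya26 za16) (ka xa16 ya26 za20) (ka xa17 ya5 za47) (ka xa16 ya26 za17)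 (ka xa17 ya5 za48) (ka xa15 ya17 za34) (ka xa15 ya17 za35) (ka xa15 ya17 za36) (ka xa15 ya17 za46) (ka xa15 ya18 za15) (ka xa15 ya18 za29) (ka xa15 ya18 za31) (ka xa15 ya18 za32) (ka xa17 ya8 za23) (ka xa15 ya18 za37) (ka xa15 ya18 za42) (ka xa15 ya17 za19) (ka xa17 ya8 za15) (ka xa17 ya17 za9) (ka xa15 ya19 za3) (ka xa15 ya19 za4) (ka xa15 ya19 za8) (ka xa17 ya17 za15) (ka xa15 ya17 za30) (ka xa15 ya17 za31) (ka xa17 ya11 za46) (ka xa17 ya17 za16) (ka xa17 ya17 za17) (ka xa17 ya11 za4) (ka xa17 ya10 za47) (ka xa17 ya16 za49) (ka xa17 ya16 za50) (ka xa17 ya17 za0) (ka xa17 ya9 za11) (ka xa17 ya9 za6) (ka xa17 ya16 za35) (ka xa17 ya16 za36) (ka xa17 ya8 za27) (ka xa17 ya9 za1) (ka xa17 ya9 za23)) (@D3.rec (fun _ => Pt) (ka xa17 ya17 za1) (ka xa15 ya18 za2) (ka xa17 ya4 za19) (ka xa17 ya9 za15) (ka xa17 ya9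 za17) (ka xa17 ya13 za44) (ka xa17 ya17 za35) (ka xa16 ya23 za16) (ka xa16 ya23 za17) (ka xa16 ya25 za42) (ka xa17 ya10 za48) (ka xa17 ya10 za46) (ka xa17 ya9 za44) (ka xa16 ya23 za11) (ka xa16 ya23 za18) (ka xa17 ya10 za0) (ka xa17 ya9 za50) (ka xa16 ya23 za15) (ka xa16 ya23 za21) (ka xa17 ya11 za31) (ka xa17 ya18 za4) (ka xa16 ya26 za11) (ka xa16 ya26 za15) (ka xa16 ya23 za26) (ka xa16 ya23 za12) (ka xa16 ya23 za19) (ka xa17 ya10 za23) (ka xa16 ya23 za22) (ka xa17 ya13 za48) (ka xa17 ya17 za3) (ka xa17 ya11 za16) (ka xa17 ya17 za4) (ka xa17 ya17 za5) (ka xa17 ya8 za26) (ka xa17 ya8 za28) (ka xa16 ya26 za47) (ka xa16 ya26 za44) (ka xa17 ya17 za7) (ka xa17 ya8 za18) (ka xa17 ya8 za17) (ka xa16 ya23 za29) (ka xa17 ya11 za17) (ka xa17 ya11 za32) (ka xa17 ya18 za28) (ka xa15 ya18 za48) (ka xa15 ya18 za49) (ka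 xa17 ya8 za16) (ka xa17 ya13 za9) (ka xa17 ya18 za29) (ka xa17 ya18 za30) (ka xa16 ya23 za42)) (@D3.rec (fun _ => Pt) (ka xa16 ya23 za43) (ka xa16 ya25 za43) (ka xa16 ya26 za29) (ka xa17 ya17 za12) (ka xa17 ya17 za13) (ka xa16 ya23 za31) (ka xa16 ya23 za45) (ka xa17 ya11 za36) (ka xa17 ya11 za37) (ka xa17 ya18 za48) (ka xa17 ya8 za31) (ka xa17 ya8 za30) (ka xa16 ya23 za35) (ka xa16 ya23 za48) (ka xa17 ya19 za2) (ka xa15 ya19 za14) (ka xa15 ya19 za17) (ka xa17 ya0 za7) (ka xa16 ya24 za0) (ka xa17 ya0 za38) (ka xa17 ya8 za38) (ka xa17 ya8 za37) (ka xa17 ya0 za15) (ka xa16 ya24 za7) (ka xa16 ya26 za50) (ka xa16 ya23 za32) (ka xa16 ya23 za46) (ka xa17 ya8 za45) (ka xa15 ya20 za25) (ka xa15 ya19 za47) (ka xa15 ya20 za5) (ka xa16 ya24 za18) (ka xa16 ya24 za19) (ka xa15 ya19 za43) (ka xa17 ya11 za47) (ka xa17 ya12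 za26) (ka xa17 ya12 za38) (ka xa17 ya19 za11) (ka xa17 ya10 za45) (ka xa17 ya5 za21) (ka xa17 ya5 za23) (ka xa17 ya5 za12) (ka xa17 ya11 za39) (ka xa17 ya0 za39) (ka xa16 ya24 za21) (ka xa16 ya24 za22) (ka xa16 ya25 za44) (ka xa16 ya26 za30) (ka xa16 ya24 za23) (ka xa16 ya24 za16) (ka xa17 ya0 za30)) (@D3.rec (fun _ => Pt) (ka xa16 ya24 za25) (ka xa17 ya0 za40) (ka xa16 ya24 za24) (ka xa17 ya12 za21) (ka xa16 ya0 za46) (ka xa16 ya1 za0) (ka xa16 ya0 za35) (ka xa16 ya4 za38) (ka xa16 ya12 za47) (ka xa16 ya4 za48) (ka xa16 ya5 za1) (ka xa16 ya5 za29) (ka xa16 ya18 za14) (ka xa16 ya5 za25) (ka xa16 ya18 za9) (ka xa16 ya5 za30) (ka xa16 ya18 za15) (ka xa16 ya5 za44) (ka xa15 ya21 za6) (ka xa16 ya1 za44) (ka xa16 ya2 za0) (ka xa16 ya5 za39) (ka xa16 ya5 za45) (ka xa16 ya5 za38) (ka xa16 ya6 za1) (ka xa16 ya6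 za2) (ka xa16 ya2 za45) (ka xa15 ya21 za35) (ka xa16 ya12 za48) (ka xa16 ya13 za4) (ka xa16 ya13 za5) (ka xa16 ya13 za11) (ka xa16 ya13 za12) (ka xa16 ya13 za13) (ka xa16 ya18 za10) (ka xa16 ya12 za46) (ka xa16 ya2 za13) (ka xa16 ya17 za43) (ka xa16 ya17 za49) (ka xa17 ya19 za38) (ka xa16 ya2 za14) (ka xa16 ya17 za44) (ka xa16 ya5 za20) (ka xa16 ya17 za50) (ka xa16 ya3 za43) (ka xa16 ya18 za20) (ka xa16 ya4 za5) (ka xa16 ya6 za14) (ka xa15 ya24 za45) (ka xa15 ya24 za46) (ka xa15 ya24 za47)) (@D3.rec (fun _ => Pt) (ka xa16 ya10 za44) (ka xa16 ya11 za30) (ka xa16 ya14 za42) (ka xa16 ya9 za21) (ka xa16 ya14 za43) (ka xa16 ya14 za44) (ka xa16 ya9 za25) (ka xa16 ya14 za45) (ka xa15 ya24 za34) (ka xa15 ya24 za35) (ka xa16 ya9 za15) (ka xa16 ya20 za13) (ka xa16 ya20 za24) (ka xa16 ya9 za38) (ka xa16 ya10 za0) (ka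 xa16 ya20 za17) (ka xa16 ya20 za7) (ka xa16 ya20 za8) (ka xa16 ya20 za14) (ka xa16 ya20 za25) (ka xa16 ya10 za1) (ka xa16 ya20 za18) (ka xa16 ya20 za27) (ka xa16 ya10 za7) (ka xa16 ya10 za14) (ka xa16 ya10 za20) (ka xa16 ya20 za23) (ka xa16 ya10 za15) (ka xa16 ya10 za21) (ka xa16 ya20 za40) (ka xa16 ya11 za17) (ka xa16 ya21 za5) (ka xa16 ya21 za25) (ka xa16 ya10 za49) (ka xa16 ya11 za23) (ka xa16 ya21 za12) (ka xa16 ya8 za23) (ka xa16 ya15 za7) (ka xa16 ya15 za10) (ka xa16 ya7 za19) (ka xa16 ya11 za11) (ka xa16 ya11 za12) (ka xa16 ya20 za50) (ka xa16 ya21 za0) (ka xa16 ya11 za18) (ka xa16 ya21 za6) (ka xa16 ya21 za26) (ka xa16 ya11 za24) (ka xa16 ya21 za13) (ka xa16 ya11 za43) (ka xa16 ya12 za4)) (@D3.rec (fun _ => Pt) (ka xa16 ya21 za18) (ka xa16 ya11 za35) (ka xa16 ya11 za48) (ka xa16 ya12 za6) (ka xa16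 ya11 za44) (ka xa16 ya10 za18) (ka xa16 ya12 za5) (ka xa16 ya21 za23) (ka xa16 ya11 za49) (ka xa16 ya11 za50) (ka xa16 ya14 za17) (ka xa16 ya12 za7) (ka xa16 ya12 za13) (ka xa16 ya12 za14) (ka xa16 ya14 za34) (ka xa16 ya12 za15) (ka xa16 ya21 za49) (ka xa16 ya8 za50) (ka xa16 ya21 za31) (ka xa16 ya21 za32) (ka xa16 ya7 za26) (ka xa16 ya21 za44) (ka xa16 ya21 za45) (ka xa16 ya21 za48) (ka xa16 ya22 za2) (ka xa16 ya22 za0) (ka xa16 ya7 za27) (ka xa16 ya7 za28) (ka xa16 ya7 za29) (ka xa16 ya5 za16) (ka xa16 ya6 za11) (ka xa16 ya1 za45) (ka xa16 ya7 za30) (ka xa16 ya7 za31) (ka xa16 ya7 za32) (ka xa16 ya7 za33) (ka xa16 ya7 za34) (ka xa16 ya7 za35) (ka xa16 ya7 za36) (ka xa16 ya7 za37) (ka xa16 ya7 za13) (ka xa16 ya7 za38) (ka xa16 ya7 za39) (ka xa16 ya7 za18) (ka xa16 ya7 za25) (ka xa15 ya24 za43) (ka xa15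 ya24 za44) (ka xa15 ya25 za4) (ka xa15 ya25 za10) (ka xa15 ya25 za12) (ka xa15 ya25 za13)) (@D3.rec (fun _ => Pt) (ka xa15 ya25 za16) (ka xa15 ya25 za17) (ka xa15 ya25 za28) (ka xa15 ya25 za33) (ka xa15 ya25 za34) (ka xa15 ya25 za44) (ka xa15 ya26 za7) (ka xa15 ya26 za8) (ka xa15 ya26 za9) (ka xa15 ya26 za10) (ka xa15 ya26 za11) (ka xa15 ya26 za12) (ka xa15 ya26 za26) (ka xa15 ya26 za27) (ka xa15 ya26 za29) (ka xa15 ya26 za33) (ka xa15 ya26 za39) (ka xa15 ya26 za41) (ka xa16 ya4 za15) (ka xa16 ya4 za16) (ka xa16 ya14 za49) (ka xa16 ya15 za26) (ka xa16 ya15 za28) (ka xa16 ya16 za25) (ka xa16 ya4 za33) (ka xa16 ya17 za36) (ka xa17 ya20 za15) (ka xa15 ya24 za37) (ka xa15 ya24 za38) (ka xa17 ya22 za26) (ka xa17 ya22 za27) (ka xa16 ya15 za8) (ka xa16 ya15 za45) (ka xa16 ya15 za47) (ka xa16 ya16 za32) (ka xa17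 ya21 za46) (ka xa17 ya21 za47) (ka xa16 ya5 za21) (ka xa17 ya20 za5) (ka xa17 ya20 za6) (ka xa16 ya10 za36) (ka xa16 ya11 za28) (ka xa16 ya20 za9) (ka xa16 ya21 za1) (ka xa16 ya21 za46) (ka xa16 ya5 za23) (ka xa16 ya18 za7) (ka xa17 ya21 za48) (ka xa16 ya11 za4) (ka xa16 ya11 za7) (ka xa16 ya11 za42)) (@D3.rec (fun _ => Pt) (ka xa16 ya8 za24) (ka xa16 ya14 za38) (ka xa17 ya21 za49) (ka xa16 ya8 za25) (ka xa17 ya21 za50) (ka xa17 ya22 za0) (ka xa16 ya18 za43) (ka xa16 ya19 za3) (ka xa17 ya22 za1) (ka xa17 ya22 za2) (ka xa16 ya11 za29) (ka xa16 ya20 za21) (ka xa16 ya6 za15) (ka xa16 ya18 za26) (ka xa16 ya15 za16) (ka xa16 ya20 za22) (ka xa16 ya19 za11) (ka xa16 ya19 za14) (ka xa16 ya15 za6) (ka xa17 ya22 za3) (ka xa16 ya19 za12) (ka xa16 ya5 za4) (ka xa16 ya5 za22) (ka xa17 ya22 za4) (ka xa17 ya22 za5) (ka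 xa15 ya25 za37) (ka xa15 ya25 za38) (ka xa17 ya23 za22) (ka xa17 ya23 za23) (ka xa16 ya21 za2) (ka xa16 ya21 za47) (ka xa16 ya5 za6) (ka xa16 ya5 za24) (ka xa16 ya18 za8) (ka xa17 ya22 za6) (ka xa15 ya25 za49) (ka xa15 ya26 za0) (ka xa15 ya26 za1) (ka xa16 ya15 za49) (ka xa17 ya23 za34) (ka xa16 ya9 za43) (ka xa17 ya23 za35) (ka xa17 ya23 za36) (ka xa16 ya14 za39) (ka xa16 ya20 za36) (ka xa16 ya10 za24) (ka xa16 ya11 za9) (ka xa16 ya20 za35) (ka xa17 ya22 za7) (ka xa17 ya22 za8) (ka xa16 ya21 za24))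
def f_a_17 : D2 → D3 → Pt := @D2.rec (fun _ => D3 → Pt) (@D3.rec (fun _ => Pt) (ka xa17 ya22 za9) (ka xa17 ya22 za10) (ka xa17 ya22 za11) (ka xa17 ya22 za12) (ka xa17 ya24 za7) (ka xa15 ya26 za14) (ka xa16 ya13 za28) (ka xa16 ya21 za17) (ka xa16 ya6 za6) (ka xa16 ya6 za16) (ka xa16 ya15 za25) (ka xa16 ya18 za27) (ka xa16 ya14 za13) (ka xa16 ya13 za23) (ka xa16 ya10 za38) (ka xa16 ya21 za22) (ka xa17 ya22 za14) (ka xa17 ya22 za15) (ka xa16 ya14 za5) (ka xa16 ya15 za43) (ka xa16 ya6 za7) (ka xa16 ya6 za18) (ka xa16 ya14 za22) (ka xa16 ya16 za24) (ka xa15 ya26 za46) (ka xa17 ya22 za16) (ka xa16 ya0 za2) (ka xa16 ya14 za28) (ka xa16 ya16 za31) (ka xa17 ya24 za20) (ka xa16 ya21 za50) (ka xa16 ya0 za0) (ka xa16 ya0 za1) (ka xa16 ya16 za18) (ka xa17 ya24 za8) (ka xa17 ya24 za21) (ka xa16 ya13 za29) (ka xa16 ya14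 za40) (ka xa16 ya21 za19) (ka xa16 ya21 za43) (ka xa16 ya22 za1) (ka xa16 ya14 za27) (ka xa16 ya0 za19) (ka xa16 ya0 za21) (ka xa16 ya0 za48) (ka xa16 ya0 za42) (ka xa16 ya12 za39) (ka xa16 ya0 za41) (ka xa16 ya0 za49) (ka xa16 ya0 za45) (ka xa16 ya0 za47)) (@D3.rec (fun _ => Pt) (ka xa16 ya1 za4) (ka xa16 ya16 za39) (ka xa16 ya1 za2) (ka xa16 ya1 za3) (ka xa16 ya16 za38) (ka xa16 ya16 za37) (ka xa16 ya4 za23) (ka xa16 ya4 za24) (ka xa16 ya13 za6) (ka xa16 ya1 za41) (ka xa16 ya1 za42) (ka xa16 ya1 za46) (ka xa16 ya1 za47) (ka xa16 ya1 za49) (ka xa16 ya1 za50) (ka xa16 ya2 za1) (ka xa16 ya2 za3) (ka xa16 ya2 za4) (ka xa16 ya2 za10) (ka xa16 ya2 za11) (ka xa16 ya2 za12) (ka xa16 ya2 za16) (ka xa16 ya2 za17) (ka xa16 ya2 za19) (ka xa16 ya2 za20) (ka xa16 ya2 za24) (ka xa16 ya2 za30) (ka xa16 ya2 za34) (ka xa16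 ya16 za49) (ka xa16 ya17 za5) (ka xa16 ya17 za7) (ka xa16 ya17 za18) (ka xa16 ya18 za40) (ka xa16 ya18 za49) (ka xa17 ya24 za31) (ka xa16 ya5 za2) (ka xa17 ya19 za33) (ka xa17 ya21 za35) (ka xa17 ya24 za32) (ka xa17 ya24 za33) (ka xa16 ya12 za50) (ka xa17 ya24 za34) (ka xa17 ya24 za35) (ka xa16 ya17 za41) (ka xa16 ya4 za43) (ka xa16 ya13 za9) (ka xa17 ya24 za36) (ka xa16 ya4 za41) (ka xa16 ya13 za10) (ka xa17 ya24 za37) (ka xa17 ya24 za38)) (@D3.rec (fun _ => Pt) (ka xa17 ya19 za46) (ka xa16 ya18 za18) (ka xa16 ya7 za6) (ka xa17 ya24 za39) (ka xa17 ya24 za40) (ka xa16 ya17 za47) (ka xa17 ya24 za41) (ka xa17 ya24 za42) (ka xa16 ya5 za35) (ka xa16 ya17 za48) (ka xa16 ya5 za9) (ka xa17 ya24 za43) (ka xa16 ya18 za21) (ka xa16 ya6 za8) (ka xa16 ya18 za25) (ka xa16 ya7 za16) (ka xa16 ya7 za23) (ka xa16 ya6 za0)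 (ka xa16 ya13 za0) (ka xa16 ya18 za4) (ka xa16 ya4 za12) (ka xa16 ya4 za28) (ka xa16 ya4 za42) (ka xa16 ya7 za3) (ka xa16 ya17 za34) (ka xa16 ya17 za35) (ka xa17 ya19 za37) (ka xa16 ya4 za13) (ka xa16 ya4 za14) (ka xa16 ya4 za17) (ka xa16 ya4 za18) (ka xa16 ya4 za19) (ka xa16 ya4 za20) (ka xa16 ya4 za21) (ka xa16 ya4 za22) (ka xa16 ya4 za26) (ka xa16 ya4 za27) (ka xa16 ya4 za29) (ka xa16 ya5 za7) (ka xa16 ya5 za33) (ka xa16 ya4 za34) (ka xa16 ya4 za35) (ka xa16 ya4 za36) (ka xa16 ya4 za37) (ka xa16 ya4 za39) (ka xa16 ya4 za40) (ka xa16 ya5 za34) (ka xa16 ya4 za45) (ka xa16 ya4 za47) (ka xa16 ya4 za49) (ka xa16 ya4 za50)) (@D3.rec (fun _ => Pt) (ka xa16 ya5 za3) (ka xa16 ya5 za8) (ka xa16 ya3 za34) (ka xa16 ya5 za10) (ka xa16 ya5 za11) (ka xa16 ya3 za35) (ka xa17 ya26 za6) (ka xa17 ya20 za1) (ka xa16 ya5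 za26) (ka xa16 ya5 za27) (ka xa16 ya5 za28) (ka xa16 ya5 za31) (ka xa16 ya5 za32) (ka xa16 ya5 za48) (ka xa16 ya17 za17) (ka xa16 ya5 za40) (ka xa16 ya5 za41) (ka xa16 ya5 za42) (ka xa16 ya5 za43) (ka xa16 ya5 za46) (ka xa16 ya5 za47) (ka xa16 ya6 za4) (ka xa16 ya6 za3) (ka xa17 ya20 za3) (ka xa16 ya6 za19) (ka xa16 ya17 za22) (ka xa16 ya10 za25) (ka xa16 ya10 za39) (ka xa16 ya15 za38) (ka xa16 ya16 za29) (ka xa17 ya25 za29) (ka xa17 ya25 za35) (ka xa17 ya22 za17) (ka xa17 ya22 za18) (ka xa16 ya14 za46) (ka xa17 ya25 za36) (ka xa17 ya25 za37) (ka xa17 ya25 za38) (ka xa17 ya25 za39) (ka xa17 ya25 za40) (ka xa17 ya25 za41) (ka xa17 ya24 za29) (ka xa16 ya9 za30) (ka xa16 ya10 za29) (ka xa17 ya25 za42) (ka xa17 ya25 za10) (ka xa17 ya25 za30) (ka xa17 ya25 za43) (ka xa16 ya17 za6) (ka xa16 ya17 za9) (ka xa16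 ya17 za14)) (@D3.rec (fun _ => Pt) (ka xa17 ya22 za23) (ka xa17 ya25 za46) (ka xa17 ya25 za47) (ka xa17 ya25 za48) (ka xa17 ya25 za49) (ka xa17 ya19 za24) (ka xa17 ya25 za50) (ka xa17 ya26 za0) (ka xa17 ya25 za8) (ka xa16 ya17 za15) (ka xa16 ya18 za19) (ka xa17 ya26 za1) (ka xa17 ya19 za26) (ka xa17 ya26 za2) (ka xa17 ya26 za3) (ka xa17 ya25 za0) (ka xa17 ya26 za4) (ka xa16 ya9 za9) (ka xa17 ya23 za18) (ka xa16 ya20 za2) (ka xa17 ya23 za29) (ka xa17 ya25 za44) (ka xa17 ya26 za5) (ka xa17 ya25 za25) (ka xa17 ya26 za7) (ka xa17 ya26 za8) (ka xa16 ya5 za17) (ka xa16 ya5 za19) (ka xa16 ya16 za50) (ka xa17 ya21 za33) (ka xa18 ya0 za28) (ka xa16 ya17 za0) (ka xa18 ya0 za29) (ka xa17 ya20 za2) (ka xa17 ya22 za36) (ka xa17 ya23 za19) (ka xa17 ya22 za44) (ka xa17 ya23 za30) (ka xa17 ya19 za29) (ka xa17 ya26 za12)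 (ka xa17 ya26 za13) (ka xa17 ya26 za14) (ka xa17 ya26 za15) (ka xa17 ya19 za27) (ka xa17 ya19 za31) (ka xa17 ya26 za16) (ka xa17 ya26 za17) (ka xa18 ya1 za3) (ka xa17 ya25 za45) (ka xa17 ya25 za19) (ka xa16 ya17 za1)) (@D3.rec (fun _ => Pt) (ka xa16 ya17 za3) (ka xa17 ya19 za34) (ka xa16 ya17 za42) (ka xa17 ya26 za20) (ka xa17 ya26 za21) (ka xa17 ya26 za22) (ka xa17 ya26 za10) (ka xa17 ya19 za35) (ka xa17 ya26 za23) (ka xa17 ya19 za36) (ka xa17 ya26 za25) (ka xa17 ya26 za24) (ka xa16 ya21 za41) (ka xa17 ya24 za10) (ka xa17 ya24 za17) (ka xa16 ya6 za12) (ka xa16 ya6 za13) (ka xa17 ya21 za34) (ka xa18 ya1 za16) (ka xa17 ya20 za4) (ka xa17 ya23 za12) (ka xa16 ya21 za39) (ka xa17 ya24 za11) (ka xa16 ya21 za40) (ka xa17 ya24 za18) (ka xa16 ya16 za4) (ka xa16 ya15 za50) (ka xa16 ya16 za19) (ka xa16 ya16 za5) (ka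 xa16 ya16 za22) (ka xa16 ya7 za4) (ka xa16 ya7 za7) (ka xa16 ya7 za14) (ka xa16 ya7 za15) (ka xa16 ya7 za20) (ka xa16 ya18 za45) (ka xa16 ya18 za46) (ka xa16 ya17 za8) (ka xa16 ya17 za19) (ka xa16 ya19 za5) (ka xa16 ya19 za6) (ka xa16 ya18 za38) (ka xa16 ya18 za39) (ka xa16 ya18 za47) (ka xa16 ya18 za48) (ka xa16 ya19 za7) (ka xa16 ya19 za8) (ka xa16 ya19 za13) (ka xa16 ya19 za15) (ka xa16 ya18 za34) (ka xa17 ya25 za31)) (@D3.rec (fun _ => Pt) (ka xa18 ya1 za28) (ka xa16 ya18 za35) (ka xa17 ya25 za16) (ka xa18 ya1 za29) (ka xa16 ya15 za14) (ka xa16 ya18 za33) (ka xa16 ya18 za36) (ka xa16 ya18 za37) (ka xa16 ya18 za3) (ka xa17 ya21 za43) (ka xa18 ya1 za30) (ka xa18 ya1 za31) (ka xa18 ya2 za12) (ka xa17 ya25 za26) (ka xa16 ya18 za23) (ka xa17 ya21 za45) (ka xa17 ya20 za45) (ka xa16 ya17 za20) (ka xa16 ya18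 za24) (ka xa17 ya21 za26) (ka xa17 ya21 za31) (ka xa17 ya21 za32) (ka xa17 ya21 za36) (ka xa17 ya21 za37) (ka xa17 ya21 za38) (ka xa17 ya21 za39) (ka xa17 ya21 za40) (ka xa17 ya21 za41) (ka xa17 ya21 za42) (ka xa17 ya21 za44) (ka xa16 ya9 za10) (ka xa16 ya9 za11) (ka xa16 ya9 za22) (ka xa16 ya9 za23) (ka xa16 ya9 za24) (ka xa16 ya9 za26) (ka xa16 ya9 za27) (ka xa16 ya9 za31) (ka xa16 ya9 za32) (ka xa16 ya9 za39) (ka xa16 ya9 za40) (ka xa16 ya9 za41) (ka xa16 ya10 za2) (ka xa16 ya10 za3) (ka xa16 ya10 za8) (ka xa16 ya10 za9) (ka xa16 ya10 za10) (ka xa16 ya10 za16) (ka xa16 ya10 za17) (ka xa16 ya10 za26) (ka xa16 ya10 za27)) (@D3.rec (fun _ => Pt) (ka xa16 ya10 za30) (ka xa16 ya10 za31) (ka xa16 ya10 za41) (ka xa16 ya10 za43) (ka xa16 ya10 za45) (ka xa16 ya10 za46) (ka xa16 ya10 za47) (ka xa16 ya10 za50) (ka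 xa16 ya11 za0) (ka xa16 ya11 za1) (ka xa17 ya20 za42) (ka xa17 ya22 za50) (ka xa17 ya23 za2) (ka xa16 ya11 za13) (ka xa16 ya11 za14) (ka xa16 ya11 za15) (ka xa16 ya11 za16) (ka xa16 ya11 za19) (ka xa16 ya11 za20) (ka xa16 ya11 za25) (ka xa16 ya11 za26) (ka xa18 ya3 za20) (ka xa16 ya11 za31) (ka xa16 ya11 za32) (ka xa16 ya11 za33) (ka xa16 ya11 za36) (ka xa16 ya11 za37) (ka xa16 ya11 za38) (ka xa16 ya11 za45) (ka xa16 ya11 za46) (ka xa16 ya12 za1) (ka xa16 ya12 za8) (ka xa16 ya12 za9) (ka xa16 ya12 za11) (ka xa16 ya12 za18) (ka xa16 ya9 za0) (ka xa17 ya21 za24) (ka xa16 ya18 za44) (ka xa16 ya14 za3) (ka xa16 ya14 za26) (ka xa16 ya15 za37) (ka xa16 ya15 za39) (ka xa16 ya16 za30) (ka xa18 ya0 za18) (ka xa18 ya2 za27) (ka xa18 ya2 za28) (ka xa16 ya9 za16) (ka xa16 ya9 za17) (ka xa16 ya13 za45) (ka xa17 ya20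 za16) (ka xa18 ya3 za40)) (@D3.rec (fun _ => Pt) (ka xa18 ya3 za41) (ka xa16 ya15 za23) (ka xa16 ya14 za47) (ka xa16 ya15 za24) (ka xa17 ya20 za10) (ka xa18 ya2 za29) (ka xa18 ya2 za30) (ka xa18 ya2 za31) (ka xa17 ya20 za13) (ka xa18 ya2 za32) (ka xa18 ya2 za33) (ka xa16 ya11 za5) (ka xa17 ya26 za43) (ka xa18 ya2 za34) (ka xa18 ya2 za35) (ka xa16 ya19 za28) (ka xa16 ya20 za46) (ka xa16 ya20 za39) (ka xa16 ya20 za38) (ka xa17 ya20 za19) (ka xa18 ya2 za36) (ka xa18 ya2 za37) (ka xa18 ya2 za38) (ka xa16 ya19 za24) (ka xa17 ya23 za39) (ka xa16 ya14 za36) (ka xa16 ya20 za33) (ka xa16 ya19 za48) (ka xa16 ya20 za34) (ka xa16 ya14 za4) (ka xa16 ya21 za11) (ka xa16 ya21 za10) (ka xa17 ya20 za20) (ka xa17 ya20 za26) (ka xa18 ya2 za39) (ka xa18 ya2 za40) (ka xa18 ya4 za36) (ka xa16 ya21 za21) (ka xa16 ya21 za20) (ka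 xa17 ya20 za29) (ka xa18 ya2 za42) (ka xa18 ya2 za43) (ka xa18 ya2 za44) (ka xa17 ya21 za7) (ka xa16 ya13 za46) (ka xa16 ya21 za27) (ka xa17 ya20 za30) (ka xa17 ya20 za33) (ka xa17 ya20 za34) (ka xa17 ya21 za13) (ka xa18 ya2 za45)) (@D3.rec (fun _ => Pt) (ka xa17 ya20 za31) (ka xa16 ya19 za49) (ka xa17 ya23 za46) (ka xa17 ya26 za27) (ka xa18 ya2 za46) (ka xa18 ya2 za47) (ka xa16 ya19 za45) (ka xa17 ya26 za44) (ka xa18 ya2 za48) (ka xa18 ya2 za49) (ka xa16 ya10 za37) (ka xa16 ya19 za44) (ka xa17 ya22 za39) (ka xa18 ya5 za8) (ka xa17 ya26 za28) (ka xa16 ya20 za3) (ka xa18 ya2 za50) (ka xa16 ya20 za4) (ka xa18 ya3 za0) (ka xa17 ya20 za7) (ka xa18 ya3 za1) (ka xa18 ya3 za2) (ka xa18 ya3 za3) (ka xa16 ya19 za50) (ka xa17 ya20 za39) (ka xa18 ya3 za4) (ka xa18 ya3 za5) (ka xa18 ya3 za6) (ka xa18 ya5 za27) (ka xa16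 ya11 za8) (ka xa16 ya15 za3) (ka xa17 ya22 za47) (ka xa18 ya4 za8) (ka xa16 ya15 za5) (ka xa17 ya22 za48) (ka xa18 ya5 za28) (ka xa17 ya23 za47) (ka xa16 ya15 za18) (ka xa17 ya20 za46) (ka xa17 ya20 za47) (ka xa18 ya3 za11) (ka xa18 ya3 za12) (ka xa18 ya3 za13) (ka xa18 ya3 za14) (ka xa16 ya20 za12) (ka xa17 ya20 za36) (ka xa17 ya20 za50) (ka xa18 ya3 za15) (ka xa18 ya3 za16) (ka xa18 ya6 za3) (ka xa16 ya20 za16)) (@D3.rec (fun _ => Pt) (ka xa16 ya20 za15) (ka xa17 ya20 za40) (ka xa17 ya21 za3) (ka xa17 ya21 za4) (ka xa18 ya6 za10) (ka xa18 ya3 za19) (ka xa16 ya11 za27) (ka xa17 ya22 za40) (ka xa17 ya20 za8) (ka xa18 ya3 za21) (ka xa18 ya3 za22) (ka xa18 ya3 za23) (ka xa17 ya21 za10) (ka xa18 ya3 za24) (ka xa18 ya3 za25) (ka xa18 ya6 za23) (ka xa18 ya3 za26) (ka xa16 ya11 za39) (ka xa16 ya14 za48) (ka xa17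 ya22 za49) (ka xa17 ya21 za6) (ka xa17 ya21 za14) (ka xa18 ya3 za27) (ka xa16 ya20 za26) (ka xa17 ya21 za11) (ka xa17 ya21 za12) (ka xa17 ya21 za17) (ka xa16 ya12 za0) (ka xa18 ya6 za31) (ka xa18 ya3 za28) (ka xa17 ya21 za8) (ka xa17 ya21 za15) (ka xa17 ya21 za18) (ka xa17 ya21 za19) (ka xa18 ya6 za36) (ka xa18 ya3 za29) (ka xa18 ya3 za30) (ka xa16 ya12 za10) (ka xa18 ya6 za40) (ka xa18 ya1 za23) (ka xa17 ya21 za20) (ka xa17 ya21 za22) (ka xa16 ya12 za17) (ka xa18 ya6 za45) (ka xa18 ya3 za31) (ka xa16 ya21 za38) (ka xa16 ya20 za11) (ka xa16 ya19 za40) (ka xa16 ya20 za10) (ka xa16 ya14 za50) (ka xa16 ya12 za32)) (@D3.rec (fun _ => Pt) (ka xa16 ya12 za30) (ka xa18 ya7 za1) (ka xa18 ya7 za2) (ka xa18 ya6 za43) (ka xa16 ya19 za39) (ka xa16 ya12 za49) (ka xa16 ya18 za16) (ka xa16 ya17 za12) (ka xa16 ya13 za7)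 (ka xa16 ya13 za8) (ka xa17 ya19 za45) (ka xa17 ya19 za25) (ka xa17 ya19 za39) (ka xa18 ya7 za5) (ka xa17 ya25 za5) (ka xa17 ya25 za27) (ka xa16 ya20 za30) (ka xa16 ya20 za41) (ka xa16 ya17 za45) (ka xa17 ya19 za40) (ka xa17 ya19 za41) (ka xa17 ya24 za30) (ka xa18 ya7 za8) (ka xa18 ya7 za24) (ka xa17 ya25 za9) (ka xa17 ya19 za42) (ka xa17 ya19 za43) (ka xa16 ya15 za0) (ka xa16 ya15 za1) (ka xa16 ya15 za2) (ka xa16 ya14 za41) (ka xa16 ya20 za19) (ka xa16 ya20 za42) (ka xa16 ya13 za22) (ka xa18 ya7 za33) (ka xa17 ya23 za42) (ka xa16 ya21 za7) (ka xa16 ya21 za8) (ka xa18 ya7 za38) (ka xa16 ya21 za42) (ka xa16 ya18 za50) (ka xa16 ya19 za9) (ka xa16 ya15 za9) (ka xa16 ya15 za11) (ka xa16 ya15 za12) (ka xa16 ya15 za15) (ka xa16 ya19 za36) (ka xa16 ya21 za34) (ka xa16 ya15 za19) (ka xa16 ya15 za20) (ka xa16 ya15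 za21)) (@D3.rec (fun _ => Pt) (ka xa16 ya15 za22) (ka xa18 ya3 za42) (ka xa17 ya24 za12) (ka xa16 ya15 za27) (ka xa16 ya15 za29) (ka xa16 ya15 za30) (ka xa16 ya15 za31) (ka xa16 ya15 za32) (ka xa16 ya15 za33) (ka xa16 ya15 za34) (ka xa18 ya3 za34) (ka xa18 ya4 za27) (ka xa17 ya24 za15) (ka xa16 ya15 za46) (ka xa16 ya15 za48) (ka xa16 ya16 za0) (ka xa16 ya16 za1) (ka xa16 ya16 za2) (ka xa16 ya16 za3) (ka xa16 ya16 za6) (ka xa18 ya8 za23) (ka xa16 ya22 za3) (ka xa16 ya16 za12) (ka xa16 ya16 za13) (ka xa17 ya21 za16) (ka xa16 ya16 za20) (ka xa16 ya21 za35) (ka xa16 ya16 za23) (ka xa17 ya24 za19) (ka xa16 ya16 za26) (ka xa16 ya16 za27) (ka xa16 ya16 za28) (ka xa17 ya24 za9) (ka xa17 ya21 za30) (ka xa17 ya24 za22) (ka xa17 ya21 za21) (ka xa16 ya16 za33) (ka xa16 ya16 za34) (ka xa16 ya21 za36) (ka xa16 ya16 za35)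 (ka xa16 ya14 za37) (ka xa18 ya4 za23) (ka xa17 ya23 za11) (ka xa17 ya23 za0) (ka xa17 ya23 za43) (ka xa17 ya24 za26) (ka xa18 ya7 za30) (ka xa17 ya20 za9) (ka xa17 ya20 za11) (ka xa17 ya20 za12) (ka xa17 ya20 za14)) (@D3.rec (fun _ => Pt) (ka xa17 ya26 za35) (ka xa18 ya3 za48) (ka xa17 ya23 za13) (ka xa17 ya22 za19) (ka xa18 ya7 za0) (ka xa18 ya7 za27) (ka xa18 ya7 za28) (ka xa18 ya7 za29) (ka xa18 ya5 za29) (ka xa16 ya20 za47) (ka xa18 ya5 za32) (ka xa17 ya23 za17) (ka xa17 ya20 za43) (ka xa17 ya22 za30) (ka xa18 ya7 za41) (ka xa17 ya20 za44) (ka xa18 ya7 za42) (ka xa18 ya7 za43) (ka xa16 ya19 za4) (ka xa18 ya2 za3) (ka xa18 ya9 za19) (ka xa18 ya5 za37) (ka xa18 ya7 za47) (ka xa18 ya7 za48) (ka xa18 ya7 za49) (ka xa18 ya7 za50) (ka xa18 ya3 za47) (ka xa18 ya3 za49) (ka xa17 ya24 za13) (ka xa17 ya22 za20)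 (ka xa18 ya8 za2) (ka xa17 ya22 za21) (ka xa18 ya8 za3) (ka xa18 ya8 za4) (ka xa18 ya8 za5) (ka xa18 ya8 za6) (ka xa18 ya8 za7) (ka xa18 ya8 za8) (ka xa18 ya9 za42) (ka xa16 ya15 za41) (ka xa16 ya15 za42) (ka xa18 ya3 za35) (ka xa17 ya26 za29) (ka xa18 ya3 za36) (ka xa16 ya20 za5) (ka xa18 ya9 za43) (ka xa18 ya9 za44) (ka xa17 ya24 za16) (ka xa16 ya20 za28) (ka xa17 ya22 za31) (ka xa18 ya8 za14)) (@D3.rec (fun _ => Pt) (ka xa17 ya22 za32) (ka xa18 ya8 za15) (ka xa18 ya8 za16) (ka xa17 ya23 za37) (ka xa18 ya1 za25) (ka xa18 ya8 za17) (ka xa18 ya8 za18) (ka xa18 ya10 za17) (ka xa18 ya8 za20) (ka xa18 ya8 za21) (ka xa18 ya1 za24) (ka xa18 ya1 za27) (ka xa18 ya10 za22) (ka xa16 ya16 za7) (ka xa16 ya16 za10) (ka xa16 ya16 za11) (ka xa18 ya10 za23) (ka xa18 ya8 za25) (ka xa18 ya8 za26) (ka xa16 ya16 za17) (ka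 xa18 ya10 za25) (ka xa17 ya24 za24) (ka xa18 ya1 za26) (ka xa18 ya8 za28) (ka xa17 ya22 za22) (ka xa18 ya8 za30) (ka xa18 ya8 za31) (ka xa18 ya8 za32) (ka xa17 ya26 za30) (ka xa17 ya24 za23) (ka xa17 ya22 za33) (ka xa18 ya8 za37) (ka xa16 ya17 za2) (ka xa16 ya17 za4) (ka xa16 ya17 za10) (ka xa16 ya17 za11) (ka xa16 ya17 za13) (ka xa16 ya17 za16) (ka xa16 ya18 za28) (ka xa16 ya17 za21) (ka xa17 ya24 za44) (ka xa18 ya0 za30) (ka xa18 ya0 za33) (ka xa18 ya1 za5) (ka xa18 ya10 za32) (ka xa18 ya1 za6) (ka xa18 ya10 za33) (ka xa17 ya24 za45) (ka xa17 ya26 za49) (ka xa17 ya24 za46) (ka xa18 ya1 za35)) (@D3.rec (fun _ => Pt) (ka xa17 ya26 za50) (ka xa18 ya10 za34) (ka xa18 ya10 za35) (ka xa18 ya10 za36) (ka xa18 ya7 za7) (ka xa18 ya11 za6) (ka xa18 ya0 za0) (ka xa18 ya0 za12) (ka xa17 ya26 za19) (ka xa17 ya24 za47)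 (ka xa18 ya1 za36) (ka xa18 ya2 za15) (ka xa17 ya26 za26) (ka xa16 ya17 za37) (ka xa16 ya17 za38) (ka xa16 ya17 za39) (ka xa16 ya17 za40) (ka xa16 ya17 za46) (ka xa16 ya18 za0) (ka xa16 ya18 za11) (ka xa16 ya18 za12) (ka xa16 ya18 za13) (ka xa18 ya11 za19) (ka xa17 ya25 za32) (ka xa17 ya25 za33) (ka xa17 ya22 za24) (ka xa18 ya11 za10) (ka xa18 ya11 za11) (ka xa18 ya11 za12) (ka xa18 ya1 za7) (ka xa18 ya11 za29) (ka xa17 ya25 za1) (ka xa17 ya19 za47) (ka xa17 ya20 za0) (ka xa18 ya7 za18) (ka xa18 ya11 za14) (ka xa17 ya25 za20) (ka xa17 ya25 za24) (ka xa17 ya19 za48) (ka xa17 ya19 za49) (ka xa18 ya11 za39) (ka xa16 ya18 za5) (ka xa16 ya18 za6) (ka xa18 ya2 za7) (ka xa17 ya25 za28) (ka xa18 ya11 za40) (ka xa18 ya11 za41) (ka xa17 ya25 za15) (ka xa17 ya22 za45) (ka xa17 ya23 za31) (ka xa17 ya23 za32)) (@D3.rec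 (fun _ => Pt) (ka xa17 ya19 za30) (ka xa17 ya19 za44) (ka xa17 ya19 za28) (ka xa18 ya12 za4) (ka xa18 ya11 za17) (ka xa18 ya11 za18) (ka xa18 ya0 za13) (ka xa17 ya19 za32) (ka xa18 ya12 za9) (ka xa16 ya18 za17) (ka xa18 ya2 za13) (ka xa17 ya23 za14) (ka xa16 ya18 za41) (ka xa16 ya18 za42) (ka xa16 ya19 za0) (ka xa18 ya12 za13) (ka xa18 ya2 za4) (ka xa18 ya1 za47) (ka xa18 ya1 za50) (ka xa18 ya2 za5) (ka xa18 ya12 za18) (ka xa18 ya1 za39) (ka xa18 ya1 za40) (ka xa17 ya24 za48) (ka xa18 ya12 za10) (ka xa18 ya12 za11) (ka xa17 ya23 za6) (ka xa18 ya3 za33) (ka xa18 ya1 za33) (ka xa18 ya1 za34) (ka xa18 ya1 za41) (ka xa18 ya1 za42) (ka xa17 ya24 za49) (ka xa18 ya7 za39) (ka xa18 ya12 za34) (ka xa16 ya19 za46) (ka xa16 ya19 za47) (ka xa17 ya23 za7) (ka xa18 ya9 za17) (ka xa18 ya1 za37) (ka xa18 ya1 za38) (ka xa18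 ya1 za43) (ka xa18 ya1 za44) (ka xa18 ya12 za45) (ka xa18 ya12 za46) (ka xa16 ya19 za10) (ka xa17 ya23 za15) (ka xa18 ya1 za46) (ka xa17 ya23 za16) (ka xa16 ya19 za41) (ka xa16 ya19 za42)) (@D3.rec (fun _ => Pt) (ka xa16 ya19 za43) (ka xa16 ya20 za0) (ka xa18 ya13 za1) (ka xa16 ya20 za29) (ka xa16 ya20 za31) (ka xa16 ya20 za32) (ka xa18 ya4 za21) (ka xa16 ya20 za37) (ka xa18 ya13 za8) (ka xa16 ya19 za29) (ka xa18 ya4 za12) (ka xa18 ya13 za9) (ka xa16 ya21 za3) (ka xa16 ya21 za4) (ka xa18 ya13 za14) (ka xa16 ya19 za33) (ka xa16 ya19 za37) (ka xa16 ya19 za38) (ka xa18 ya7 za45) (ka xa18 ya13 za15) (ka xa18 ya8 za24) (ka xa18 ya13 za16) (ka xa18 ya6 za49) (ka xa18 ya6 za50) (ka xa18 ya12 za48) (ka xa18 ya12 za49) (ka xa18 ya13 za26) (ka xa18 ya5 za3) (ka xa18 ya5 za2) (ka xa18 ya12 za35) (ka xa18 ya12 za36)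 (ka xa18 ya4 za25) (ka xa18 ya4 za48) (ka xa18 ya5 za21) (ka xa18 ya13 za35) (ka xa16 ya20 za6) (ka xa18 ya0 za20) (ka xa18 ya5 za12) (ka xa18 ya5 za14) (ka xa18 ya9 za49) (ka xa18 ya13 za36) (ka xa17 ya20 za22) (ka xa17 ya20 za23) (ka xa17 ya22 za41) (ka xa18 ya5 za47) (ka xa18 ya5 za44) (ka xa18 ya5 za46) (ka xa17 ya20 za17) (ka xa17 ya20 za24) (ka xa18 ya6 za5) (ka xa18 ya6 za2)) (@D3.rec (fun _ => Pt) (ka xa18 ya14 za4) (ka xa17 ya20 za21) (ka xa17 ya20 za27) (ka xa18 ya14 za7) (ka xa16 ya20 za20) (ka xa17 ya20 za28) (ka xa17 ya20 za32) (ka xa17 ya23 za5) (ka xa17 ya20 za18) (ka xa17 ya20 za25) (ka xa18 ya10 za3) (ka xa18 ya13 za2) (ka xa18 ya7 za16) (ka xa18 ya13 za3) (ka xa18 ya13 za4) (ka xa18 ya14 za17) (ka xa18 ya4 za24) (ka xa18 ya4 za26) (ka xa17 ya23 za48) (ka xa17 ya23 za44) (ka xa17 ya23 za45)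 (ka xa18 ya14 za25) (ka xa18 ya4 za15) (ka xa18 ya4 za14) (ka xa18 ya4 za13) (ka xa17 ya20 za35) (ka xa18 ya7 za17) (ka xa18 ya14 za31) (ka xa16 ya20 za43) (ka xa16 ya20 za48) (ka xa16 ya20 za49) (ka xa18 ya9 za7) (ka xa18 ya14 za32) (ka xa17 ya24 za0) (ka xa18 ya14 za38) (ka xa17 ya20 za48) (ka xa17 ya20 za49) (ka xa17 ya22 za42) (ka xa17 ya23 za26) (ka xa17 ya23 za27) (ka xa18 ya13 za12) (ka xa18 ya14 za47) (ka xa17 ya20 za37) (ka xa17 ya21 za0) (ka xa17 ya21 za1) (ka xa18 ya15 za2) (ka xa18 ya7 za37) (ka xa18 ya4 za29) (ka xa16 ya21 za9) (ka xa18 ya15 za5) (ka xa18 ya4 za28)) (@D3.rec (fun _ => Pt) (ka xa17 ya20 za41) (ka xa18 ya15 za8) (ka xa16 ya21 za14) (ka xa17 ya21 za9) (ka xa17 ya23 za28) (ka xa17 ya24 za27) (ka xa18 ya4 za37) (ka xa17 ya24 za1) (ka xa17 ya21 za2) (ka xa17 ya20 za38) (ka xa17 ya21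 za25) (ka xa16 ya21 za37) (ka xa18 ya7 za46) (ka xa18 ya8 za27) (ka xa18 ya8 za29) (ka xa18 ya1 za19) (ka xa18 ya1 za21) (ka xa18 ya1 za14) (ka xa17 ya24 za28) (ka xa17 ya21 za27) (ka xa17 ya21 za28) (ka xa17 ya22 za43) (ka xa17 ya21 za29) (ka xa17 ya21 za23) (ka xa17 ya4 za5) (ka xa17 ya11 za11) (ka xa17 ya4 za12) (ka xa17 ya4 za43) (ka xa17 ya16 za2) (ka xa17 ya4 za38) (ka xa17 ya16 za0) (ka xa17 ya4 za44) (ka xa17 ya16 za7) (ka xa17 ya1 za36) (ka xa17 ya5 za1) (ka xa17 ya5 za7) (ka xa17 ya5 za9) (ka xa17 ya2 za26) (ka xa16 ya22 za39) (ka xa17 ya11 za12) (ka xa17 ya11 za19) (ka xa17 ya11 za20) (ka xa17 ya11 za25) (ka xa17 ya11 za26) (ka xa17 ya16 za1) (ka xa17 ya11 za10) (ka xa17 ya2 za0) (ka xa17 ya15 za32) (ka xa17 ya15 za38) (ka xa17 ya15 za39) (ka xa18 ya15 za42)) (@D3.rec (fun _ => Pt) (ka xa17 ya15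 za33) (ka xa17 ya3 za7) (ka xa17 ya4 za33) (ka xa17 ya3 za23) (ka xa17 ya5 za19) (ka xa16 ya25 za38) (ka xa16 ya25 za39) (ka xa17 ya9 za19) (ka xa17 ya10 za8) (ka xa17 ya12 za47) (ka xa17 ya8 za4) (ka xa17 ya12 za48) (ka xa17 ya12 za49) (ka xa17 ya8 za8) (ka xa17 ya12 za50) (ka xa16 ya25 za26) (ka xa17 ya7 za49) (ka xa17 ya17 za47) (ka xa17 ya18 za8) (ka xa17 ya8 za19) (ka xa17 ya8 za32) (ka xa17 ya18 za1) (ka xa17 ya17 za41) (ka xa17 ya17 za42) (ka xa17 ya17 za48) (ka xa17 ya18 za9) (ka xa17 ya8 za33) (ka xa17 ya18 za2) (ka xa17 ya18 za5) (ka xa17 ya8 za39) (ka xa17 ya8 za46) (ka xa17 ya9 za0) (ka xa17 ya18 za6) (ka xa17 ya8 za47) (ka xa17 ya8 za48) (ka xa17 ya18 za25) (ka xa17 ya9 za45) (ka xa17 ya18 za42) (ka xa17 ya19 za9) (ka xa17 ya9 za24) (ka xa17 ya10 za1) (ka xa17 ya19 za0) (ka xa17 ya7 za10) (ka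 xa17 ya13 za12) (ka xa17 ya13 za15) (ka xa17 ya6 za16) (ka xa17 ya9 za38) (ka xa17 ya9 za39) (ka xa17 ya18 za35) (ka xa17 ya18 za36) (ka xa17 ya9 za46)) (@D3.rec (fun _ => Pt) (ka xa17 ya18 za43) (ka xa17 ya18 za44) (ka xa17 ya19 za8) (ka xa17 ya10 za2) (ka xa17 ya10 za3) (ka xa18 ya17 za0) (ka xa17 ya10 za20) (ka xa17 ya8 za43) (ka xa17 ya10 za30) (ka xa17 ya19 za3) (ka xa17 ya10 za12) (ka xa17 ya10 za24) (ka xa17 ya10 za25) (ka xa17 ya8 za49) (ka xa17 ya10 za21) (ka xa17 ya10 za31) (ka xa17 ya12 za24) (ka xa17 ya10 za26) (ka xa17 ya10 za32) (ka xa17 ya10 za33) (ka xa17 ya10 za40) (ka xa17 ya12 za35) (ka xa17 ya10 za41) (ka xa17 ya19 za23) (ka xa17 ya7 za36) (ka xa17 ya19 za10) (ka xa17 ya6 za19) (ka xa17 ya19 za19) (ka xa17 ya19 za20) (ka xa17 ya19 za22) (ka xa17 ya12 za33) (ka xa17 ya6 za20) (ka xa17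 ya6 za21) (ka xa17 ya4 za29) (ka xa17 ya5 za17) (ka xa17 ya1 za37) (ka xa17 ya6 za22) (ka xa17 ya6 za23) (ka xa17 ya6 za24) (ka xa17 ya6 za25) (ka xa17 ya6 za26) (ka xa17 ya6 za27) (ka xa17 ya6 za28) (ka xa17 ya6 za9) (ka xa17 ya6 za29) (ka xa17 ya6 za15) (ka xa16 ya25 za35) (ka xa16 ya25 za36) (ka xa16 ya25 za47) (ka xa16 ya26 za2) (ka xa16 ya26 za4)) (@D3.rec (fun _ => Pt) (ka xa16 ya26 za5) (ka xa16 ya26 za8) (ka xa16 ya26 za9) (ka xa16 ya26 za19) (ka xa16 ya26 za23) (ka xa16 ya26 za24) (ka xa16 ya26 za34) (ka xa16 ya26 za48) (ka xa16 ya26 za49) (ka xa17 ya0 za0) (ka xa17 ya0 za1) (ka xa17 ya0 za2) (ka xa17 ya0 za3) (ka xa18 ya18 za3) (ka xa17 ya0 za16) (ka xa17 ya0 za17) (ka xa17 ya0 za25) (ka xa17 ya3 za32) (ka xa17 ya3 za33) (ka xa17 ya13 za3) (ka xa17 ya13 za29) (ka xa17 ya13 za31) (ka xa17 ya14 za24)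 (ka xa17 ya4 za0) (ka xa17 ya15 za25) (ka xa18 ya16 za5) (ka xa16 ya25 za29) (ka xa16 ya25 za30) (ka xa18 ya18 za14) (ka xa18 ya18 za15) (ka xa17 ya13 za13) (ka xa17 ya13 za49) (ka xa17 ya14 za0) (ka xa17 ya14 za30) (ka xa18 ya17 za35) (ka xa18 ya17 za36) (ka xa17 ya4 za34) (ka xa18 ya15 za46) (ka xa18 ya15 za47) (ka xa17 ya9 za12) (ka xa17 ya10 za7) (ka xa17 ya17 za43) (ka xa17 ya18 za37) (ka xa17 ya19 za21) (ka xa17 ya4 za36) (ka xa17 ya15 za48) (ka xa18 ya17 za37) (ka xa17 ya9 za31) (ka xa17 ya9 za34) (ka xa17 ya10 za19) (ka xa17 ya7 za11)) (@D3.rec (fun _ => Pt) (ka xa17 ya12 za43) (ka xa18 ya17 za38) (ka xa17 ya7 za12) (ka xa18 ya17 za39) (ka xa18 ya17 za40) (ka xa17 ya18 za7) (ka xa17 ya16 za26) (ka xa17 ya16 za37) (ka xa18 ya17 za41) (ka xa18 ya17 za42) (ka xa18 ya19 za5) (ka xa17 ya12 za42) (ka xa17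 ya5 za20) (ka xa17 ya13 za2) (ka xa17 ya16 za11) (ka xa17 ya16 za46) (ka xa17 ya16 za48) (ka xa17 ya13 za11) (ka xa17 ya4 za18) (ka xa17 ya4 za35) (ka xa18 ya17 za44) (ka xa18 ya17 za45) (ka xa16 ya26 za27) (ka xa16 ya26 za28) (ka xa18 ya19 za15) (ka xa18 ya19 za16) (ka xa17 ya18 za38) (ka xa17 ya18 za39) (ka xa17 ya19 za4) (ka xa17 ya4 za20) (ka xa17 ya4 za37) (ka xa17 ya15 za49) (ka xa17 ya15 za50) (ka xa18 ya19 za29) (ka xa16 ya26 za39) (ka xa16 ya26 za41) (ka xa16 ya26 za42) (ka xa17 ya14 za3) (ka xa18 ya19 za30) (ka xa17 ya8 za24) (ka xa18 ya19 za31) (ka xa18 ya19 za32) (ka xa17 ya11 za35) (ka xa17 ya12 za44) (ka xa17 ya18 za19) (ka xa17 ya18 za20) (ka xa17 ya9 za2) (ka xa17 ya9 za36) (ka xa17 ya18 za18) (ka xa18 ya19 za48) (ka xa18 ya17 za48)) (@D3.rec (fun _ => Pt) (ka xa17 ya18 za33) (ka xa17 ya19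 za7) (ka xa18 ya17 za49) (ka xa18 ya17 za50) (ka xa18 ya18 za0) (ka xa18 ya20 za5) (ka xa18 ya18 za2) (ka xa17 ya0 za4) (ka xa17 ya0 za34) (ka xa17 ya12 za32) (ka xa17 ya5 za13) (ka xa17 ya5 za22) (ka xa17 ya12 za2) (ka xa17 ya13 za28) (ka xa18 ya18 za4) (ka xa17 ya12 za12) (ka xa17 ya13 za47) (ka xa17 ya5 za14) (ka xa17 ya5 za24) (ka xa17 ya12 za28) (ka xa17 ya0 za29) (ka xa17 ya0 za35) (ka xa17 ya12 za34) (ka xa17 ya14 za29) (ka xa17 ya14 za21) (ka xa18 ya19 za19) (ka xa17 ya12 za45) (ka xa17 ya19 za5) (ka xa17 ya19 za18) (ka xa17 ya3 za41) (ka xa17 ya11 za21) (ka xa17 ya1 za34) (ka xa17 ya1 za38) (ka xa17 ya1 za39) (ka xa17 ya1 za41) (ka xa17 ya1 za42) (ka xa17 ya1 za46) (ka xa17 ya1 za49) (ka xa17 ya1 za50) (ka xa17 ya2 za3) (ka xa17 ya2 za4) (ka xa17 ya2 za6) (ka xa17 ya2 za7) (ka xa17 ya2 za11) (ka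 xa17 ya14 za40) (ka xa17 ya14 za47) (ka xa17 ya14 za49) (ka xa17 ya15 za9) (ka xa17 ya16 za23) (ka xa17 ya16 za32) (ka xa18 ya20 za19)) (@D3.rec (fun _ => Pt) (ka xa17 ya4 za15) (ka xa17 ya15 za31) (ka xa18 ya17 za24) (ka xa18 ya20 za20) (ka xa18 ya20 za21) (ka xa17 ya11 za14) (ka xa18 ya20 za22) (ka xa18 ya20 za23) (ka xa17 ya4 za8) (ka xa17 ya11 za24) (ka xa17 ya3 za45) (ka xa18 ya20 za24) (ka xa18 ya20 za25) (ka xa18 ya20 za26) (ka xa18 ya15 za37) (ka xa17 ya15 za47) (ka xa17 ya6 za2) (ka xa18 ya20 za27) (ka xa18 ya20 za28) (ka xa17 ya4 za49) (ka xa17 ya15 za36) (ka xa18 ya20 za29) (ka xa18 ya20 za30) (ka xa18 ya21 za13) (ka xa17 ya15 za37) (ka xa17 ya4 za23) (ka xa17 ya6 za13) (ka xa17 ya11 za15) (ka xa17 ya15 za44) (ka xa17 ya3 za30) (ka xa17 ya3 za46) (ka xa17 ya5 za50) (ka xa17 ya15 za23) (ka xa17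 ya15 za24) (ka xa18 ya15 za28) (ka xa17 ya3 za31) (ka xa17 ya3 za35) (ka xa17 ya3 za36) (ka xa17 ya3 za37) (ka xa17 ya3 za38) (ka xa17 ya3 za39) (ka xa17 ya3 za40) (ka xa17 ya3 za44) (ka xa17 ya3 za47) (ka xa17 ya4 za21) (ka xa17 ya4 za48) (ka xa17 ya4 za1) (ka xa17 ya4 za2) (ka xa17 ya4 za3) (ka xa17 ya4 za4) (ka xa17 ya4 za6)) (@D3.rec (fun _ => Pt) (ka xa17 ya4 za7) (ka xa17 ya4 za11) (ka xa17 ya4 za13) (ka xa17 ya4 za14) (ka xa17 ya4 za16) (ka xa17 ya4 za22) (ka xa17 ya3 za6) (ka xa17 ya4 za24) (ka xa17 ya4 za25) (ka xa18 ya21 za45) (ka xa17 ya5 za6) (ka xa18 ya15 za43) (ka xa17 ya4 za39) (ka xa17 ya4 za40) (ka xa17 ya4 za41) (ka xa17 ya4 za42) (ka xa17 ya4 za45) (ka xa17 ya4 za46) (ka xa18 ya22 za8) (ka xa17 ya15 za8) (ka xa17 ya5 za3) (ka xa17 ya5 za4) (ka xa17 ya5 za5) (ka xa17 ya5 za8) (ka xa17 ya5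 za11) (ka xa17 ya5 za10) (ka xa17 ya15 za12) (ka xa17 ya9 za3) (ka xa17 ya9 za14) (ka xa17 ya13 za42) (ka xa17 ya14 za28) (ka xa18 ya21 za17) (ka xa18 ya21 za23) (ka xa18 ya18 za5) (ka xa18 ya18 za6) (ka xa17 ya13 za0) (ka xa18 ya21 za24) (ka xa18 ya21 za25) (ka xa18 ya21 za26) (ka xa18 ya21 za27) (ka xa18 ya21 za28) (ka xa18 ya21 za29) (ka xa18 ya20 za17) (ka xa17 ya8 za12) (ka xa17 ya9 za7) (ka xa18 ya21 za30) (ka xa18 ya20 za50) (ka xa18 ya21 za18) (ka xa18 ya21 za31) (ka xa17 ya14 za48) (ka xa17 ya15 za0))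
def f_a_18 : D2 → D3 → Pt := @D2.rec (fun _ => D3 → Pt) (@D3.rec (fun _ => Pt) (ka xa17 ya15 za6) (ka xa18 ya18 za11) (ka xa18 ya21 za34) (ka xa18 ya21 za35) (ka xa18 ya21 za36) (ka xa18 ya21 za37) (ka xa18 ya21 za38) (ka xa18 ya15 za16) (ka xa18 ya21 za39) (ka xa18 ya21 za40) (ka xa18 ya23 za3) (ka xa18 ya20 za44) (ka xa17 ya15 za7) (ka xa17 ya16 za6) (ka xa18 ya15 za18) (ka xa18 ya21 za42) (ka xa18 ya20 za39) (ka xa18 ya21 za43) (ka xa17 ya7 za43) (ka xa18 ya19 za10) (ka xa17 ya17 za36) (ka xa18 ya19 za24) (ka xa18 ya21 za32) (ka xa18 ya21 za44) (ka xa18 ya21 za14) (ka xa18 ya21 za46) (ka xa18 ya21 za8) (ka xa18 ya23 za19) (ka xa17 ya4 za30) (ka xa17 ya4 za32) (ka xa17 ya14 za41) (ka xa18 ya17 za22) (ka xa18 ya23 za20) (ka xa17 ya14 za42) (ka xa18 ya23 za21) (ka xa18 ya15 za44) (ka xa18 ya15 za26) (ka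 xa18 ya18 za27) (ka xa18 ya19 za11) (ka xa18 ya18 za36) (ka xa18 ya19 za25) (ka xa18 ya19 za26) (ka xa18 ya15 za21) (ka xa18 ya22 za1) (ka xa18 ya22 za2) (ka xa18 ya23 za44) (ka xa18 ya22 za4) (ka xa18 ya22 za5) (ka xa18 ya21 za50) (ka xa18 ya15 za19) (ka xa18 ya15 za23)) (@D3.rec (fun _ => Pt) (ka xa18 ya15 za24) (ka xa18 ya24 za0) (ka xa18 ya22 za7) (ka xa17 ya4 za47) (ka xa18 ya21 za33) (ka xa17 ya14 za43) (ka xa17 ya14 za45) (ka xa17 ya15 za29) (ka xa18 ya22 za9) (ka xa18 ya22 za10) (ka xa18 ya22 za11) (ka xa18 ya15 za27) (ka xa18 ya17 za12) (ka xa18 ya22 za12) (ka xa17 ya19 za17) (ka xa18 ya20 za8) (ka xa17 ya5 za18) (ka xa18 ya17 za23) (ka xa18 ya15 za45) (ka xa17 ya19 za15) (ka xa18 ya19 za6) (ka xa17 ya19 za16) (ka xa18 ya20 za9) (ka xa17 ya10 za39) (ka xa17 ya14 za10) (ka xa17 ya14 za4) (ka xa17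 ya14 za22) (ka xa17 ya14 za11) (ka xa17 ya6 za0) (ka xa17 ya6 za3) (ka xa17 ya6 za10) (ka xa17 ya6 za11) (ka xa18 ya24 za24) (ka xa17 ya16 za28) (ka xa17 ya16 za29) (ka xa17 ya14 za50) (ka xa17 ya15 za10) (ka xa17 ya16 za39) (ka xa17 ya16 za40) (ka xa17 ya16 za21) (ka xa17 ya16 za22) (ka xa17 ya16 za30) (ka xa17 ya16 za31) (ka xa17 ya16 za41) (ka xa17 ya16 za42) (ka xa18 ya24 za40) (ka xa17 ya16 za47) (ka xa17 ya16 za17) (ka xa18 ya21 za19) (ka xa18 ya24 za20) (ka xa17 ya16 za18)) (@D3.rec (fun _ => Pt) (ka xa18 ya21 za4) (ka xa18 ya21 za5) (ka xa18 ya24 za48) (ka xa17 ya13 za19) (ka xa17 ya16 za16) (ka xa17 ya16 za19) (ka xa18 ya25 za1) (ka xa17 ya15 za43) (ka xa18 ya17 za32) (ka xa18 ya17 za33) (ka xa18 ya25 za6) (ka xa18 ya24 za23) (ka xa17 ya6 za12) (ka xa17 ya16 za10) (ka xa18 ya16 za37) (ka xa17 ya15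 za11) (ka xa18 ya17 za17) (ka xa18 ya17 za20) (ka xa18 ya17 za21) (ka xa18 ya17 za25) (ka xa18 ya17 za26) (ka xa18 ya17 za27) (ka xa18 ya17 za28) (ka xa18 ya17 za29) (ka xa18 ya17 za30) (ka xa18 ya17 za31) (ka xa18 ya25 za21) (ka xa17 ya7 za44) (ka xa17 ya7 za45) (ka xa17 ya8 za5) (ka xa17 ya8 za6) (ka xa17 ya8 za7) (ka xa17 ya8 za9) (ka xa17 ya8 za10) (ka xa17 ya8 za13) (ka xa17 ya8 za14) (ka xa17 ya8 za20) (ka xa17 ya8 za21) (ka xa17 ya8 za22) (ka xa17 ya8 za34) (ka xa17 ya8 za35) (ka xa18 ya25 za39) (ka xa17 ya8 za40) (ka xa17 ya8 za41) (ka xa17 ya8 za42) (ka xa17 ya8 za50) (ka xa17 ya9 za4) (ka xa17 ya9 za5) (ka xa17 ya9 za8) (ka xa17 ya9 za9) (ka xa17 ya9 za16)) (@D3.rec (fun _ => Pt) (ka xa17 ya9 za18) (ka xa17 ya9 za20) (ka xa17 ya9 za21) (ka xa17 ya9 za22) (ka xa17 ya9 za25) (ka xa17 ya9 za26) (ka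 xa17 ya9 za27) (ka xa18 ya26 za8) (ka xa18 ya16 za34) (ka xa18 ya18 za43) (ka xa18 ya18 za47) (ka xa17 ya9 za40) (ka xa17 ya9 za41) (ka xa17 ya9 za42) (ka xa17 ya9 za43) (ka xa17 ya9 za47) (ka xa17 ya9 za48) (ka xa18 ya26 za19) (ka xa18 ya26 za20) (ka xa17 ya10 za5) (ka xa17 ya7 za21) (ka xa17 ya10 za9) (ka xa17 ya10 za10) (ka xa17 ya10 za11) (ka xa17 ya10 za13) (ka xa17 ya10 za14) (ka xa17 ya10 za16) (ka xa17 ya10 za22) (ka xa17 ya10 za29) (ka xa17 ya10 za35) (ka xa17 ya10 za36) (ka xa17 ya10 za44) (ka xa18 ya17 za16) (ka xa17 ya16 za27) (ka xa17 ya12 za10) (ka xa17 ya13 za41) (ka xa17 ya13 za43) (ka xa18 ya23 za8) (ka xa18 ya25 za22) (ka xa18 ya25 za23) (ka xa17 ya7 za50) (ka xa17 ya8 za0) (ka xa17 ya12 za1) (ka xa18 ya16 za6) (ka xa18 ya26 za41) (ka xa18 ya26 za42) (ka xa18 ya26 za43) (ka xa17 ya13 za26)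 (ka xa17 ya13 za1) (ka xa17 ya13 za27) (ka xa18 ya16 za0)) (@D3.rec (fun _ => Pt) (ka xa18 ya25 za24) (ka xa18 ya25 za25) (ka xa18 ya25 za26) (ka xa18 ya25 za27) (ka xa18 ya16 za3) (ka xa18 ya25 za28) (ka xa18 ya25 za29) (ka xa19 ya0 za13) (ka xa17 ya9 za32) (ka xa18 ya22 za31) (ka xa18 ya25 za31) (ka xa18 ya25 za32) (ka xa17 ya17 za10) (ka xa17 ya18 za24) (ka xa17 ya18 za23) (ka xa17 ya18 za22) (ka xa18 ya16 za9) (ka xa18 ya25 za33) (ka xa18 ya25 za34) (ka xa18 ya25 za35) (ka xa19 ya0 za28) (ka xa17 ya17 za6) (ka xa18 ya19 za36) (ka xa17 ya12 za41) (ka xa17 ya18 za16) (ka xa17 ya17 za31) (ka xa17 ya18 za17) (ka xa17 ya12 za11) (ka xa17 ya18 za50) (ka xa17 ya18 za47) (ka xa19 ya0 za38) (ka xa18 ya16 za10) (ka xa18 ya16 za17) (ka xa18 ya16 za18) (ka xa19 ya0 za43) (ka xa18 ya25 za38) (ka xa17 ya8 za36) (ka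 xa17 ya19 za6) (ka xa18 ya16 za21) (ka xa18 ya25 za40) (ka xa18 ya25 za41) (ka xa18 ya17 za1) (ka xa18 ya25 za42) (ka xa18 ya16 za22) (ka xa18 ya16 za23) (ka xa18 ya16 za24) (ka xa18 ya17 za8) (ka xa18 ya25 za43) (ka xa17 ya17 za32) (ka xa18 ya19 za45) (ka xa18 ya22 za13)) (@D3.rec (fun _ => Pt) (ka xa18 ya25 za44) (ka xa18 ya25 za45) (ka xa17 ya17 za28) (ka xa17 ya17 za27) (ka xa18 ya22 za32) (ka xa18 ya25 za46) (ka xa18 ya25 za47) (ka xa19 ya1 za18) (ka xa17 ya9 za13) (ka xa18 ya18 za30) (ka xa19 ya1 za19) (ka xa18 ya22 za14) (ka xa17 ya17 za37) (ka xa18 ya25 za49) (ka xa17 ya17 za38) (ka xa18 ya25 za50) (ka xa18 ya15 za48) (ka xa18 ya26 za0) (ka xa18 ya26 za1) (ka xa18 ya26 za2) (ka xa19 ya1 za34) (ka xa17 ya17 za33) (ka xa18 ya16 za30) (ka xa18 ya26 za4) (ka xa18 ya26 za5) (ka xa19 ya1 za41) (ka xa18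 ya26 za7) (ka xa17 ya9 za28) (ka xa17 ya9 za35) (ka xa17 ya13 za8) (ka xa18 ya18 za40) (ka xa19 ya0 za14) (ka xa17 ya13 za10) (ka xa18 ya18 za41) (ka xa18 ya18 za42) (ka xa19 ya2 za1) (ka xa18 ya19 za46) (ka xa17 ya13 za21) (ka xa18 ya16 za38) (ka xa18 ya16 za39) (ka xa18 ya26 za12) (ka xa18 ya26 za13) (ka xa18 ya26 za14) (ka xa18 ya26 za15) (ka xa17 ya17 za45) (ka xa19 ya2 za14) (ka xa17 ya17 za46) (ka xa17 ya17 za44) (ka xa18 ya16 za26) (ka xa18 ya16 za43) (ka xa18 ya16 za44)) (@D3.rec (fun _ => Pt) (ka xa19 ya2 za23) (ka xa18 ya26 za18) (ka xa17 ya17 za50) (ka xa17 ya9 za49) (ka xa19 ya2 za27) (ka xa17 ya17 za49) (ka xa18 ya16 za31) (ka xa18 ya16 za32) (ka xa19 ya2 za31) (ka xa18 ya16 za50) (ka xa17 ya10 za4) (ka xa19 ya2 za34) (ka xa18 ya26 za22) (ka xa18 ya18 za31) (ka xa18 ya15 za49) (ka xa18 ya26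 za23) (ka xa18 ya26 za24) (ka xa18 ya26 za25) (ka xa18 ya17 za5) (ka xa18 ya17 za6) (ka xa19 ya2 za42) (ka xa18 ya26 za26) (ka xa18 ya26 za27) (ka xa17 ya10 za15) (ka xa19 ya2 za45) (ka xa18 ya26 za28) (ka xa18 ya17 za2) (ka xa18 ya17 za9) (ka xa18 ya26 za29) (ka xa18 ya17 za7) (ka xa18 ya17 za10) (ka xa17 ya10 za28) (ka xa19 ya3 za1) (ka xa18 ya26 za30) (ka xa18 ya17 za3) (ka xa18 ya17 za11) (ka xa17 ya10 za34) (ka xa19 ya3 za5) (ka xa18 ya24 za7) (ka xa18 ya26 za31) (ka xa17 ya10 za38) (ka xa19 ya3 za9) (ka xa18 ya24 za15) (ka xa17 ya11 za3) (ka xa18 ya17 za14) (ka xa17 ya10 za43) (ka xa19 ya3 za13) (ka xa19 ya3 za14) (ka xa18 ya26 za32) (ka xa17 ya17 za22) (ka xa17 ya17 za23)) (@D3.rec (fun _ => Pt) (ka xa17 ya13 za4) (ka xa17 ya11 za1) (ka xa17 ya11 za2) (ka xa19 ya3 za18) (ka xa19 ya3 za19) (ka xa17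 ya11 za13) (ka xa19 ya3 za21) (ka xa17 ya15 za4) (ka xa17 ya11 za22) (ka xa19 ya3 za24) (ka xa19 ya3 za25) (ka xa18 ya15 za17) (ka xa18 ya15 za30) (ka xa19 ya3 za28) (ka xa18 ya20 za45) (ka xa18 ya21 za15) (ka xa17 ya18 za12) (ka xa17 ya18 za26) (ka xa17 ya15 za34) (ka xa18 ya15 za31) (ka xa18 ya15 za32) (ka xa19 ya3 za39) (ka xa18 ya20 za18) (ka xa19 ya3 za41) (ka xa17 ya11 za23) (ka xa18 ya20 za49) (ka xa18 ya15 za34) (ka xa17 ya13 za5) (ka xa17 ya13 za6) (ka xa17 ya13 za7) (ka xa17 ya12 za46) (ka xa19 ya3 za46) (ka xa19 ya3 za47) (ka xa17 ya11 za34) (ka xa19 ya3 za48) (ka xa18 ya19 za39) (ka xa19 ya4 za0) (ka xa17 ya18 za46) (ka xa17 ya11 za38) (ka xa17 ya16 za33) (ka xa19 ya4 za3) (ka xa17 ya13 za14) (ka xa17 ya13 za16) (ka xa17 ya13 za17) (ka xa19 ya4 za8) (ka xa17 ya17 za18) (ka xa17 ya19 za12) (ka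 xa17 ya13 za22) (ka xa17 ya13 za23) (ka xa17 ya13 za24) (ka xa17 ya13 za25)) (@D3.rec (fun _ => Pt) (ka xa18 ya26 za44) (ka xa18 ya20 za10) (ka xa17 ya13 za30) (ka xa17 ya13 za32) (ka xa17 ya13 za33) (ka xa17 ya13 za34) (ka xa17 ya13 za35) (ka xa17 ya13 za36) (ka xa17 ya13 za37) (ka xa19 ya4 za30) (ka xa18 ya26 za34) (ka xa19 ya0 za35) (ka xa18 ya20 za12) (ka xa18 ya16 za48) (ka xa17 ya13 za50) (ka xa17 ya14 za1) (ka xa17 ya14 za2) (ka xa17 ya14 za5) (ka xa17 ya14 za6) (ka xa19 ya4 za43) (ka xa17 ya14 za8) (ka xa17 ya14 za9) (ka xa19 ya4 za46) (ka xa17 ya12 za20) (ka xa17 ya17 za20) (ka xa17 ya14 za17) (ka xa17 ya14 za18) (ka xa17 ya19 za13) (ka xa17 ya14 za23) (ka xa17 ya19 za14) (ka xa17 ya14 za25) (ka xa17 ya14 za26) (ka xa17 ya14 za27) (ka xa18 ya17 za4) (ka xa18 ya19 za23) (ka xa18 ya17 za15) (ka xa18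 ya17 za13) (ka xa17 ya14 za31) (ka xa19 ya0 za31) (ka xa18 ya16 za20) (ka xa18 ya18 za35) (ka xa18 ya18 za44) (ka xa18 ya19 za40) (ka xa18 ya19 za41) (ka xa19 ya5 za7) (ka xa18 ya15 za50) (ka xa18 ya16 za1) (ka xa18 ya16 za2) (ka xa18 ya16 za4) (ka xa18 ya22 za21) (ka xa19 ya0 za0)) (@D3.rec (fun _ => Pt) (ka xa18 ya19 za7) (ka xa18 ya18 za7) (ka xa19 ya3 za17) (ka xa19 ya3 za42) (ka xa19 ya3 za43) (ka xa19 ya5 za21) (ka xa19 ya1 za45) (ka xa17 ya18 za31) (ka xa19 ya1 za49) (ka xa18 ya19 za9) (ka xa18 ya16 za35) (ka xa18 ya18 za19) (ka xa19 ya4 za4) (ka xa19 ya4 za5) (ka xa18 ya16 za36) (ka xa19 ya5 za33) (ka xa19 ya4 za7) (ka xa17 ya16 za38) (ka xa19 ya5 za36) (ka xa17 ya13 za20) (ka xa19 ya2 za3) (ka xa19 ya4 za11) (ka xa19 ya4 za12) (ka xa19 ya4 za13) (ka xa19 ya4 za14) (ka xa19 ya4 za15) (ka xa19 ya5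 za44) (ka xa18 ya26 za50) (ka xa19 ya0 za1) (ka xa18 ya20 za11) (ka xa18 ya18 za8) (ka xa19 ya4 za20) (ka xa18 ya18 za9) (ka xa19 ya4 za21) (ka xa19 ya4 za22) (ka xa19 ya4 za23) (ka xa19 ya4 za24) (ka xa19 ya6 za8) (ka xa19 ya4 za26) (ka xa19 ya4 za27) (ka xa19 ya4 za28) (ka xa19 ya6 za12) (ka xa17 ya13 za38) (ka xa17 ya13 za45) (ka xa17 ya13 za46) (ka xa18 ya26 za35) (ka xa18 ya22 za15) (ka xa18 ya26 za36) (ka xa18 ya20 za13) (ka xa17 ya17 za39) (ka xa19 ya6 za13)) (@D3.rec (fun _ => Pt) (ka xa19 ya6 za14) (ka xa19 ya6 za25) (ka xa18 ya20 za7) (ka xa17 ya18 za10) (ka xa18 ya18 za20) (ka xa19 ya4 za36) (ka xa19 ya4 za37) (ka xa18 ya18 za21) (ka xa18 ya18 za22) (ka xa19 ya6 za36) (ka xa19 ya4 za39) (ka xa19 ya4 za40) (ka xa18 ya19 za33) (ka xa18 ya24 za17) (ka xa18 ya24 za18) (ka xa19 ya6 za43) (ka xa19 ya4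 za42) (ka xa17 ya14 za7) (ka xa19 ya6 za45) (ka xa19 ya4 za45) (ka xa18 ya24 za16) (ka xa19 ya6 za48) (ka xa17 ya14 za12) (ka xa17 ya14 za16) (ka xa19 ya6 za49) (ka xa17 ya14 za20) (ka xa18 ya20 za15) (ka xa18 ya18 za10) (ka xa19 ya4 za47) (ka xa19 ya4 za48) (ka xa18 ya20 za14) (ka xa18 ya18 za23) (ka xa17 ya14 za44) (ka xa17 ya14 za46) (ka xa17 ya15 za1) (ka xa17 ya15 za2) (ka xa17 ya15 za3) (ka xa19 ya7 za6) (ka xa18 ya20 za32) (ka xa18 ya23 za22) (ka xa18 ya23 za26) (ka xa18 ya23 za27) (ka xa18 ya24 za3) (ka xa19 ya7 za13) (ka xa19 ya7 za14) (ka xa18 ya20 za33) (ka xa18 ya22 za38) (ka xa18 ya20 za34) (ka xa18 ya24 za27) (ka xa18 ya24 za28) (ka xa18 ya22 za39)) (@D3.rec (fun _ => Pt) (ka xa18 ya22 za40) (ka xa19 ya7 za26) (ka xa19 ya7 za4) (ka xa19 ya7 za5) (ka xa18 ya22 za0) (ka xa19 ya7 za30) (ka xa17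 ya15 za5) (ka xa18 ya22 za41) (ka xa18 ya20 za35) (ka xa18 ya24 za29) (ka xa17 ya15 za26) (ka xa17 ya15 za27) (ka xa17 ya15 za28) (ka xa19 ya7 za36) (ka xa17 ya15 za35) (ka xa19 ya7 za38) (ka xa19 ya7 za39) (ka xa17 ya16 za4) (ka xa17 ya16 za5) (ka xa17 ya15 za22) (ka xa18 ya21 za20) (ka xa18 ya21 za21) (ka xa18 ya20 za40) (ka xa18 ya18 za12) (ka xa19 ya7 za32) (ka xa19 ya7 za33) (ka xa19 ya7 za48) (ka xa19 ya7 za35) (ka xa18 ya23 za40) (ka xa17 ya15 za30) (ka xa18 ya15 za38) (ka xa18 ya15 za39) (ka xa19 ya3 za35) (ka xa19 ya3 za36) (ka xa19 ya8 za4) (ka xa18 ya21 za9) (ka xa18 ya21 za10) (ka xa19 ya8 za7) (ka xa18 ya15 za41) (ka xa17 ya15 za40) (ka xa17 ya15 za45) (ka xa17 ya15 za46) (ka xa18 ya25 za2) (ka xa18 ya25 za3) (ka xa18 ya21 za16) (ka xa19 ya8 za14) (ka xa19 ya8 za10) (ka xa18 ya21 za3) (ka xa18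 ya18 za37) (ka xa18 ya18 za38) (ka xa19 ya8 za19)) (@D3.rec (fun _ => Pt) (ka xa18 ya19 za28) (ka xa18 ya15 za22) (ka xa19 ya8 za22) (ka xa18 ya15 za20) (ka xa17 ya16 za3) (ka xa19 ya8 za24) (ka xa19 ya7 za41) (ka xa18 ya22 za46) (ka xa19 ya8 za27) (ka xa17 ya16 za8) (ka xa17 ya16 za24) (ka xa17 ya16 za25) (ka xa19 ya8 za31) (ka xa17 ya16 za15) (ka xa19 ya8 za32) (ka xa18 ya24 za41) (ka xa19 ya8 za34) (ka xa19 ya8 za35) (ka xa17 ya16 za20) (ka xa18 ya24 za33) (ka xa18 ya24 za34) (ka xa18 ya20 za36) (ka xa19 ya8 za28) (ka xa19 ya8 za29) (ka xa19 ya8 za43) (ka xa18 ya19 za0) (ka xa18 ya26 za33) (ka xa18 ya24 za25) (ka xa18 ya24 za26) (ka xa18 ya24 za35) (ka xa18 ya24 za36) (ka xa19 ya9 za1) (ka xa18 ya20 za37) (ka xa19 ya9 za3) (ka xa17 ya16 za34) (ka xa17 ya17 za29) (ka xa17 ya17 za30) (ka xa18 ya19 za1)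 (ka xa18 ya19 za2) (ka xa19 ya9 za9) (ka xa18 ya24 za30) (ka xa18 ya24 za31) (ka xa19 ya9 za12) (ka xa19 ya9 za13) (ka xa18 ya24 za39) (ka xa17 ya16 za43) (ka xa17 ya16 za44) (ka xa18 ya19 za8) (ka xa17 ya17 za24) (ka xa17 ya17 za25) (ka xa19 ya9 za17)) (@D3.rec (fun _ => Pt) (ka xa19 ya9 za18) (ka xa17 ya17 za2) (ka xa17 ya18 za11) (ka xa17 ya18 za13) (ka xa17 ya18 za14) (ka xa19 ya9 za22) (ka xa19 ya0 za29) (ka xa19 ya9 za24) (ka xa17 ya17 za8) (ka xa17 ya17 za11) (ka xa19 ya0 za19) (ka xa19 ya9 za27) (ka xa17 ya18 za40) (ka xa19 ya9 za29) (ka xa17 ya17 za14) (ka xa17 ya17 za19) (ka xa17 ya17 za21) (ka xa19 ya4 za9) (ka xa19 ya9 za30) (ka xa19 ya9 za31) (ka xa19 ya4 za19) (ka xa19 ya3 za16) (ka xa19 ya2 za16) (ka xa18 ya24 za14) (ka xa19 ya9 za41) (ka xa19 ya9 za16) (ka xa17 ya17 za26) (ka xa19 ya1 za13)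 (ka xa19 ya1 za12) (ka xa19 ya9 za4) (ka xa19 ya9 za5) (ka xa19 ya9 za48) (ka xa19 ya0 za33) (ka xa19 ya1 za6) (ka xa19 ya10 za0) (ka xa17 ya17 za34) (ka xa17 ya17 za40) (ka xa18 ya23 za10) (ka xa19 ya1 za24) (ka xa19 ya1 za27) (ka xa19 ya6 za22) (ka xa18 ya18 za50) (ka xa19 ya10 za9) (ka xa18 ya16 za12) (ka xa18 ya16 za13) (ka xa18 ya18 za32) (ka xa19 ya2 za17) (ka xa19 ya2 za11) (ka xa19 ya2 za13) (ka xa19 ya10 za18) (ka xa18 ya16 za7)) (@D3.rec (fun _ => Pt) (ka xa18 ya16 za14) (ka xa18 ya16 za15) (ka xa19 ya10 za24) (ka xa19 ya2 za26) (ka xa17 ya18 za0) (ka xa18 ya16 za11) (ka xa19 ya10 za27) (ka xa17 ya18 za3) (ka xa18 ya16 za16) (ka xa18 ya16 za8) (ka xa19 ya6 za27) (ka xa19 ya6 za28) (ka xa19 ya10 za30) (ka xa19 ya3 za32) (ka xa19 ya3 za33) (ka xa19 ya10 za33) (ka xa19 ya9 za21) (ka xa17 ya18 za15)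 (ka xa19 ya0 za32) (ka xa18 ya19 za22) (ka xa19 ya10 za38) (ka xa19 ya10 za39) (ka xa19 ya10 za40) (ka xa18 ya19 za43) (ka xa18 ya19 za44) (ka xa17 ya18 za21) (ka xa19 ya10 za44) (ka xa19 ya0 za21) (ka xa19 ya0 za20) (ka xa18 ya16 za25) (ka xa19 ya10 za48) (ka xa17 ya18 za27) (ka xa17 ya18 za32) (ka xa19 ya10 za50) (ka xa19 ya5 za24) (ka xa18 ya20 za0) (ka xa19 ya11 za2) (ka xa18 ya19 za50) (ka xa17 ya18 za34) (ka xa18 ya16 za40) (ka xa18 ya16 za41) (ka xa18 ya16 za42) (ka xa18 ya18 za33) (ka xa18 ya18 za34) (ka xa19 ya11 za12) (ka xa18 ya19 za21) (ka xa19 ya11 za15) (ka xa17 ya18 za41) (ka xa18 ya16 za27) (ka xa18 ya16 za28) (ka xa19 ya11 za18)) (@D3.rec (fun _ => Pt) (ka xa18 ya16 za46) (ka xa18 ya16 za47) (ka xa17 ya18 za45) (ka xa19 ya11 za20) (ka xa19 ya0 za37) (ka xa17 ya18 za49) (ka xa19 ya11 za22)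 (ka xa19 ya11 za23) (ka xa17 ya19 za1) (ka xa18 ya16 za29) (ka xa18 ya20 za16) (ka xa19 ya4 za10) (ka xa18 ya24 za12) (ka xa18 ya24 za10) (ka xa18 ya17 za18) (ka xa18 ya17 za19) (ka xa18 ya0 za7) (ka xa18 ya7 za11) (ka xa18 ya0 za14) (ka xa18 ya0 za49) (ka xa18 ya12 za3) (ka xa18 ya0 za42) (ka xa18 ya12 za1) (ka xa18 ya0 za50) (ka xa18 ya1 za0) (ka xa19 ya11 za34) (ka xa18 ya0 za36) (ka xa18 ya1 za11) (ka xa17 ya25 za34) (ka xa19 ya11 za38) (ka xa18 ya7 za12) (ka xa18 ya7 za19) (ka xa18 ya7 za20) (ka xa19 ya11 za42) (ka xa18 ya7 za26) (ka xa19 ya11 za43) (ka xa19 ya11 za44) (ka xa17 ya25 za14) (ka xa18 ya11 za30) (ka xa18 ya11 za31) (ka xa19 ya11 za48) (ka xa18 ya11 za38) (ka xa17 ya19 za50) (ka xa17 ya26 za11) (ka xa18 ya0 za35) (ka xa18 ya1 za18) (ka xa17 ya22 za37) (ka xa17 ya22 za38) (ka xa18 ya5 za16)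 (ka xa18 ya6 za14) (ka xa18 ya8 za45)) (@D3.rec (fun _ => Pt) (ka xa18 ya3 za50) (ka xa18 ya8 za46) (ka xa18 ya8 za47) (ka xa18 ya4 za4) (ka xa18 ya8 za48) (ka xa17 ya22 za25) (ka xa18 ya3 za43) (ka xa18 ya13 za50) (ka xa18 ya14 za9) (ka xa18 ya4 za16) (ka xa18 ya4 za31) (ka xa18 ya14 za5) (ka xa18 ya13 za43) (ka xa18 ya13 za44) (ka xa18 ya14 za0) (ka xa18 ya14 za1) (ka xa18 ya14 za8) (ka xa18 ya4 za32) (ka xa18 ya4 za33) (ka xa19 ya12 za33) (ka xa18 ya8 za39) (ka xa18 ya4 za38) (ka xa18 ya4 za43) (ka xa18 ya4 za44) (ka xa18 ya4 za45) (ka xa18 ya14 za29) (ka xa18 ya5 za48) (ka xa18 ya14 za48) (ka xa18 ya14 za49) (ka xa18 ya15 za9) (ka xa18 ya5 za22) (ka xa18 ya6 za6) (ka xa18 ya6 za7) (ka xa19 ya12 za50) (ka xa18 ya3 za8) (ka xa18 ya9 za10) (ka xa18 ya9 za14) (ka xa18 ya2 za14) (ka xa18 ya5 za38) (ka xa18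 ya5 za39) (ka xa18 ya14 za39) (ka xa18 ya14 za40) (ka xa18 ya14 za41) (ka xa18 ya5 za49) (ka xa18 ya5 za50) (ka xa19 ya13 za16) (ka xa18 ya15 za0) (ka xa18 ya15 za1) (ka xa18 ya8 za13) (ka xa19 ya13 za20) (ka xa18 ya6 za9)) (@D3.rec (fun _ => Pt) (ka xa17 ya21 za5) (ka xa18 ya4 za41) (ka xa18 ya6 za26) (ka xa18 ya6 za34) (ka xa18 ya8 za33) (ka xa18 ya6 za18) (ka xa18 ya6 za19) (ka xa18 ya6 za29) (ka xa18 ya4 za46) (ka xa18 ya6 za27) (ka xa18 ya6 za30) (ka xa18 ya6 za35) (ka xa18 ya1 za12) (ka xa18 ya8 za36) (ka xa18 ya6 za44) (ka xa18 ya8 za35) (ka xa18 ya3 za32) (ka xa18 ya2 za16) (ka xa18 ya15 za14) (ka xa18 ya15 za15) (ka xa18 ya2 za17) (ka xa18 ya2 za18) (ka xa18 ya0 za31) (ka xa18 ya1 za17) (ka xa17 ya25 za2) (ka xa18 ya2 za19) (ka xa18 ya2 za20) (ka xa18 ya2 za21) (ka xa18 ya2 za22) (ka xa18 ya2 za23)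 (ka xa18 ya2 za24) (ka xa18 ya2 za25) (ka xa18 ya2 za8) (ka xa18 ya2 za9) (ka xa19 ya13 za49) (ka xa17 ya22 za34) (ka xa17 ya22 za35) (ka xa17 ya22 za46) (ka xa17 ya23 za1) (ka xa17 ya23 za3) (ka xa17 ya23 za4) (ka xa17 ya23 za8) (ka xa17 ya23 za9) (ka xa19 ya14 za9) (ka xa17 ya23 za20) (ka xa17 ya23 za21) (ka xa19 ya14 za13) (ka xa19 ya14 za14) (ka xa17 ya23 za50) (ka xa17 ya24 za2) (ka xa17 ya24 za3)) (@D3.rec (fun _ => Pt) (ka xa17 ya24 za4) (ka xa19 ya14 za20) (ka xa17 ya24 za6) (ka xa17 ya22 za13) (ka xa17 ya24 za14) (ka xa17 ya26 za33) (ka xa17 ya26 za34) (ka xa18 ya9 za1) (ka xa18 ya9 za30) (ka xa18 ya9 za32) (ka xa18 ya10 za27) (ka xa18 ya0 za1) (ka xa18 ya11 za23) (ka xa19 ya12 za16) (ka xa17 ya22 za28) (ka xa17 ya22 za29) (ka xa19 ya14 za33) (ka xa19 ya12 za34) (ka xa19 ya14 za34) (ka xa18 ya9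 za11) (ka xa18 ya10 za4) (ka xa18 ya10 za7) (ka xa18 ya10 za8) (ka xa18 ya10 za31) (ka xa19 ya13 za50) (ka xa19 ya14 za0) (ka xa19 ya14 za49) (ka xa18 ya0 za37) (ka xa19 ya12 za3) (ka xa19 ya12 za4) (ka xa18 ya5 za9) (ka xa18 ya6 za13) (ka xa18 ya13 za45) (ka xa18 ya14 za42) (ka xa18 ya14 za43) (ka xa18 ya8 za40) (ka xa18 ya0 za39) (ka xa18 ya11 za48) (ka xa18 ya11 za49) (ka xa19 ya15 za14) (ka xa18 ya5 za30) (ka xa18 ya5 za33) (ka xa18 ya5 za34) (ka xa18 ya3 za9) (ka xa18 ya8 za41) (ka xa19 ya14 za3) (ka xa19 ya14 za4) (ka xa18 ya3 za10) (ka xa19 ya15 za26) (ka xa19 ya14 za6) (ka xa18 ya13 za41)) (@D3.rec (fun _ => Pt) (ka xa18 ya12 za25) (ka xa18 ya12 za37) (ka xa18 ya12 za38) (ka xa19 ya15 za33) (ka xa19 ya14 za8) (ka xa17 ya23 za10) (ka xa18 ya1 za20) (ka xa18 ya9 za0) (ka xa18 ya12 za47) (ka xa18 ya9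 za9) (ka xa18 ya0 za19) (ka xa18 ya0 za38) (ka xa19 ya14 za10) (ka xa19 ya14 za11) (ka xa19 ya15 za44) (ka xa17 ya23 za24) (ka xa17 ya23 za25) (ka xa19 ya15 za45) (ka xa19 ya15 za46) (ka xa17 ya24 za25) (ka xa19 ya15 za50) (ka xa18 ya14 za45) (ka xa18 ya14 za19) (ka xa18 ya8 za34) (ka xa18 ya0 za21) (ka xa18 ya0 za40) (ka xa18 ya0 za41) (ka xa19 ya16 za8) (ka xa18 ya12 za0) (ka xa17 ya23 za33) (ka xa17 ya23 za38) (ka xa17 ya23 za40) (ka xa17 ya23 za41) (ka xa18 ya10 za12) (ka xa19 ya16 za11) (ka xa19 ya15 za49) (ka xa18 ya4 za22) (ka xa19 ya16 za19) (ka xa19 ya16 za13) (ka xa18 ya7 za35) (ka xa18 ya8 za42) (ka xa18 ya8 za43) (ka xa19 ya16 za24) (ka xa18 ya14 za23) (ka xa18 ya14 za24) (ka xa18 ya4 za49) (ka xa18 ya5 za36) (ka xa19 ya16 za30) (ka xa17 ya23 za49) (ka xa19 ya16 za31) (ka xa18 ya14 za37)) (@D3.rec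 (fun _ => Pt) (ka xa18 ya14 za35) (ka xa19 ya14 za16) (ka xa19 ya14 za17) (ka xa19 ya16 za36) (ka xa19 ya14 za19) (ka xa17 ya24 za5) (ka xa19 ya16 za38) (ka xa18 ya10 za2) (ka xa18 ya1 za15) (ka xa18 ya1 za22) (ka xa18 ya8 za1) (ka xa18 ya9 za29) (ka xa18 ya8 za12) (ka xa18 ya9 za48) (ka xa18 ya10 za30) (ka xa18 ya10 za26) (ka xa18 ya15 za10) (ka xa17 ya26 za42) (ka xa18 ya7 za22) (ka xa17 ya24 za50) (ka xa17 ya25 za3) (ka xa17 ya25 za4) (ka xa17 ya25 za6) (ka xa17 ya25 za7) (ka xa17 ya25 za11) (ka xa17 ya25 za12) (ka xa17 ya25 za13) (ka xa17 ya25 za17) (ka xa17 ya25 za18) (ka xa17 ya25 za21) (ka xa17 ya25 za22) (ka xa19 ya17 za7) (ka xa18 ya10 za38) (ka xa18 ya10 za45) (ka xa18 ya10 za47) (ka xa18 ya11 za8) (ka xa18 ya12 za21) (ka xa18 ya12 za32) (ka xa19 ya16 za46) (ka xa18 ya0 za16) (ka xa18 ya11 za22)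 (ka xa19 ya13 za38) (ka xa19 ya16 za47) (ka xa19 ya16 za48) (ka xa18 ya0 za11) (ka xa18 ya7 za14) (ka xa19 ya16 za49) (ka xa19 ya16 za50) (ka xa19 ya17 za28) (ka xa18 ya7 za25) (ka xa17 ya26 za46)) (@D3.rec (fun _ => Pt) (ka xa19 ya17 za1) (ka xa19 ya17 za31) (ka xa19 ya11 za45) (ka xa18 ya11 za47) (ka xa18 ya2 za0) (ka xa18 ya2 za1) (ka xa19 ya17 za36) (ka xa19 ya17 za4) (ka xa18 ya0 za26) (ka xa18 ya11 za35) (ka xa18 ya11 za36) (ka xa19 ya17 za41) (ka xa19 ya17 za6) (ka xa17 ya25 za23) (ka xa18 ya0 za24) (ka xa18 ya7 za15) (ka xa18 ya11 za44) (ka xa17 ya26 za31) (ka xa17 ya26 za47) (ka xa18 ya1 za48) (ka xa18 ya11 za20) (ka xa18 ya11 za21) (ka xa19 ya18 za1) (ka xa17 ya26 za32) (ka xa17 ya26 za36) (ka xa17 ya26 za37) (ka xa17 ya26 za38) (ka xa17 ya26 za39) (ka xa17 ya26 za40) (ka xa17 ya26 za41) (ka xa17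 ya26 za45) (ka xa17 ya26 za48) (ka xa18 ya0 za22) (ka xa18 ya1 za4) (ka xa18 ya0 za2) (ka xa18 ya0 za3) (ka xa18 ya0 za4) (ka xa18 ya0 za5) (ka xa18 ya0 za6) (ka xa18 ya0 za8) (ka xa18 ya0 za9) (ka xa19 ya18 za23) (ka xa18 ya0 za15) (ka xa18 ya0 za17) (ka xa18 ya0 za23) (ka xa17 ya26 za9) (ka xa18 ya0 za25) (ka xa19 ya18 za29) (ka xa19 ya18 za27) (ka xa19 ya12 za0) (ka xa18 ya0 za48)) (@D3.rec (fun _ => Pt) (ka xa18 ya11 za4) (ka xa18 ya0 za43) (ka xa18 ya0 za44) (ka xa19 ya18 za37) (ka xa18 ya0 za46) (ka xa18 ya0 za47) (ka xa19 ya18 za40) (ka xa18 ya1 za2) (ka xa17 ya26 za18) (ka xa18 ya1 za8) (ka xa18 ya1 za9) (ka xa18 ya1 za10) (ka xa18 ya1 za13) (ka xa18 ya4 za50) (ka xa18 ya5 za11) (ka xa18 ya9 za46) (ka xa19 ya17 za46) (ka xa19 ya18 za2) (ka xa19 ya14 za22) (ka xa19 ya13 za25) (ka xa19 ya14 za23) (ka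 xa18 ya8 za49) (ka xa19 ya18 za3) (ka xa19 ya18 za4) (ka xa19 ya18 za5) (ka xa19 ya18 za6) (ka xa19 ya18 za7) (ka xa19 ya18 za8) (ka xa19 ya18 za9) (ka xa19 ya19 za16) (ka xa19 ya16 za44) (ka xa18 ya4 za9) (ka xa18 ya5 za4) (ka xa19 ya18 za11) (ka xa19 ya17 za29) (ka xa19 ya17 za47) (ka xa19 ya17 za23) (ka xa19 ya19 za25) (ka xa18 ya10 za46) (ka xa18 ya10 za50) (ka xa18 ya11 za0) (ka xa18 ya11 za7) (ka xa19 ya14 za29) (ka xa19 ya18 za15) (ka xa19 ya18 za16) (ka xa19 ya18 za17) (ka xa18 ya12 za7) (ka xa19 ya19 za38) (ka xa19 ya18 za19) (ka xa19 ya18 za20) (ka xa19 ya11 za25)) (@D3.rec (fun _ => Pt) (ka xa19 ya11 za26) (ka xa19 ya19 za43) (ka xa19 ya18 za22) (ka xa18 ya0 za10) (ka xa19 ya18 za24) (ka xa19 ya17 za17) (ka xa19 ya17 za18) (ka xa19 ya19 za49) (ka xa18 ya3 za37) (ka xa19 ya15 za39) (ka xa18 ya13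 za37) (ka xa19 ya16 za3) (ka xa19 ya16 za4) (ka xa19 ya18 za13) (ka xa19 ya18 za14) (ka xa19 ya20 za8) (ka xa19 ya17 za43) (ka xa19 ya20 za10) (ka xa19 ya17 za38) (ka xa18 ya0 za27) (ka xa18 ya0 za32) (ka xa18 ya0 za34) (ka xa18 ya10 za39) (ka xa19 ya13 za37) (ka xa19 ya20 za12) (ka xa19 ya12 za1) (ka xa18 ya10 za40) (ka xa18 ya10 za41) (ka xa19 ya20 za24) (ka xa19 ya11 za50) (ka xa19 ya11 za35) (ka xa19 ya14 za50) (ka xa19 ya15 za40) (ka xa19 ya15 za41) (ka xa19 ya15 za10) (ka xa19 ya15 za11) (ka xa19 ya20 za35) (ka xa19 ya16 za6) (ka xa19 ya16 za7) (ka xa19 ya11 za30) (ka xa18 ya11 za28) (ka xa19 ya20 za42) (ka xa19 ya18 za35) (ka xa19 ya18 za36) (ka xa18 ya0 za45) (ka xa19 ya20 za46) (ka xa19 ya18 za39) (ka xa19 ya18 za33) (ka xa19 ya11 za28) (ka xa19 ya20 za50) (ka xa19 ya11 za33)) (@D3.rec (fun _ =>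 Pt) (ka xa18 ya1 za1) (ka xa19 ya21 za1) (ka xa19 ya18 za42) (ka xa18 ya10 za42) (ka xa19 ya18 za43) (ka xa19 ya18 za44) (ka xa19 ya11 za36) (ka xa18 ya6 za38) (ka xa19 ya13 za27) (ka xa19 ya18 za45) (ka xa18 ya15 za13) (ka xa19 ya12 za2) (ka xa18 ya15 za12) (ka xa19 ya15 za36) (ka xa18 ya13 za23) (ka xa18 ya6 za42) (ka xa18 ya10 za20) (ka xa18 ya10 za13) (ka xa18 ya10 za14) (ka xa19 ya21 za15) (ka xa18 ya1 za49) (ka xa19 ya21 za17) (ka xa19 ya21 za18) (ka xa18 ya2 za11) (ka xa18 ya1 za32) (ka xa18 ya12 za27) (ka xa18 ya12 za28) (ka xa18 ya10 za48) (ka xa18 ya10 za49) (ka xa18 ya11 za9) (ka xa18 ya12 za40) (ka xa18 ya12 za41) (ka xa19 ya21 za28) (ka xa18 ya12 za19) (ka xa18 ya12 za20) (ka xa18 ya12 za29) (ka xa18 ya12 za30) (ka xa19 ya21 za34) (ka xa19 ya21 za35) (ka xa18 ya12 za44) (ka xa18 ya1 za45) (ka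 xa18 ya12 za15) (ka xa19 ya17 za48) (ka xa19 ya17 za49) (ka xa19 ya21 za40) (ka xa19 ya21 za41) (ka xa19 ya21 za42) (ka xa19 ya17 za35) (ka xa18 ya2 za2) (ka xa19 ya21 za44) (ka xa19 ya21 za45)) (@D3.rec (fun _ => Pt) (ka xa19 ya21 za46) (ka xa18 ya2 za6) (ka xa18 ya11 za42) (ka xa18 ya11 za43) (ka xa19 ya21 za49) (ka xa19 ya13 za48) (ka xa18 ya2 za10) (ka xa19 ya22 za0) (ka xa19 ya13 za4) (ka xa19 ya13 za2) (ka xa19 ya13 za33) (ka xa19 ya13 za35) (ka xa19 ya22 za5) (ka xa19 ya13 za39) (ka xa19 ya13 za40) (ka xa19 ya13 za41) (ka xa19 ya22 za9) (ka xa19 ya13 za43) (ka xa19 ya13 za44) (ka xa19 ya22 za12) (ka xa19 ya13 za46) (ka xa18 ya2 za26) (ka xa18 ya3 za38) (ka xa18 ya3 za39) (ka xa18 ya4 za0) (ka xa18 ya4 za1) (ka xa18 ya4 za2) (ka xa18 ya4 za3) (ka xa18 ya4 za5) (ka xa18 ya4 za6) (ka xa19 ya22 za25)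 (ka xa18 ya4 za10) (ka xa18 ya4 za11) (ka xa18 ya4 za17) (ka xa18 ya4 za18) (ka xa18 ya4 za19) (ka xa19 ya22 za33) (ka xa19 ya22 za34) (ka xa18 ya4 za35) (ka xa18 ya2 za41) (ka xa18 ya4 za39) (ka xa18 ya4 za40) (ka xa18 ya4 za42) (ka xa18 ya4 za47) (ka xa18 ya5 za0) (ka xa18 ya5 za1) (ka xa18 ya5 za5) (ka xa18 ya5 za6) (ka xa19 ya22 za46) (ka xa18 ya5 za13) (ka xa18 ya5 za15)) (@D3.rec (fun _ => Pt) (ka xa18 ya5 za17) (ka xa18 ya5 za18) (ka xa18 ya5 za19) (ka xa19 ya23 za3) (ka xa18 ya5 za23) (ka xa18 ya5 za24) (ka xa19 ya23 za7) (ka xa18 ya5 za26) (ka xa18 ya3 za7) (ka xa19 ya13 za0) (ka xa19 ya15 za19) (ka xa19 ya23 za12) (ka xa18 ya5 za40) (ka xa18 ya5 za41) (ka xa18 ya5 za42) (ka xa18 ya5 za43) (ka xa19 ya23 za18) (ka xa19 ya23 za19) (ka xa18 ya6 za1) (ka xa18 ya3 za17) (ka xa18 ya3 za18) (ka xa19 ya23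 za22) (ka xa18 ya6 za12) (ka xa18 ya6 za15) (ka xa18 ya6 za16) (ka xa18 ya6 za17) (ka xa18 ya6 za21) (ka xa18 ya6 za22) (ka xa18 ya6 za25) (ka xa18 ya6 za28) (ka xa18 ya6 za33) (ka xa18 ya6 za39) (ka xa18 ya6 za48) (ka xa18 ya12 za26) (ka xa18 ya8 za10) (ka xa18 ya9 za45) (ka xa18 ya9 za47) (ka xa19 ya19 za50) (ka xa19 ya22 za14) (ka xa19 ya22 za15) (ka xa19 ya23 za39) (ka xa18 ya3 za44) (ka xa18 ya3 za45) (ka xa18 ya3 za46) (ka xa18 ya8 za0) (ka xa19 ya12 za17) (ka xa19 ya23 za40) (ka xa19 ya23 za41) (ka xa19 ya23 za42) (ka xa19 ya23 za43) (ka xa18 ya9 za27))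
def f_a_19 : D2 → D3 → Pt := @D2.rec (fun _ => D3 → Pt) (@D3.rec (fun _ => Pt) (ka xa18 ya8 za50) (ka xa18 ya9 za28) (ka xa19 ya12 za9) (ka xa19 ya22 za17) (ka xa19 ya22 za18) (ka xa19 ya24 za11) (ka xa19 ya22 za20) (ka xa19 ya22 za21) (ka xa19 ya22 za22) (ka xa19 ya12 za13) (ka xa19 ya12 za14) (ka xa19 ya24 za17) (ka xa19 ya22 za24) (ka xa18 ya4 za7) (ka xa18 ya5 za31) (ka xa19 ya19 za18) (ka xa19 ya22 za26) (ka xa19 ya22 za27) (ka xa19 ya24 za25) (ka xa18 ya13 za10) (ka xa18 ya14 za28) (ka xa18 ya14 za27) (ka xa19 ya24 za29) (ka xa19 ya12 za21) (ka xa19 ya22 za29) (ka xa19 ya22 za30) (ka xa19 ya24 za35) (ka xa19 ya22 za32) (ka xa18 ya4 za20) (ka xa18 ya13 za6) (ka xa19 ya24 za39) (ka xa18 ya8 za38) (ka xa18 ya14 za18) (ka xa18 ya13 za32) (ka xa19 ya24 za43) (ka xa18 ya8 za11) (ka xa19 ya24 za45) (ka xa18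 ya15 za4) (ka xa18 ya4 za30) (ka xa19 ya12 za22) (ka xa19 ya12 za23) (ka xa19 ya24 za49) (ka xa19 ya12 za32) (ka xa18 ya4 za34) (ka xa19 ya25 za1) (ka xa19 ya22 za36) (ka xa19 ya12 za35) (ka xa19 ya12 za36) (ka xa19 ya12 za6) (ka xa19 ya22 za37) (ka xa19 ya22 za38)) (@D3.rec (fun _ => Pt) (ka xa19 ya13 za23) (ka xa19 ya22 za39) (ka xa19 ya12 za37) (ka xa19 ya12 za38) (ka xa19 ya13 za29) (ka xa19 ya22 za40) (ka xa18 ya13 za33) (ka xa19 ya16 za28) (ka xa19 ya18 za46) (ka xa19 ya22 za41) (ka xa19 ya22 za42) (ka xa19 ya25 za21) (ka xa18 ya13 za28) (ka xa18 ya13 za27) (ka xa19 ya19 za19) (ka xa19 ya19 za20) (ka xa19 ya25 za26) (ka xa19 ya22 za45) (ka xa18 ya5 za7) (ka xa18 ya5 za10) (ka xa19 ya15 za3) (ka xa19 ya15 za4) (ka xa19 ya25 za32) (ka xa19 ya18 za47) (ka xa18 ya13 za38) (ka xa19 ya22 za47) (ka xa19 ya22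 za48) (ka xa18 ya13 za39) (ka xa19 ya25 za39) (ka xa19 ya12 za5) (ka xa19 ya22 za50) (ka xa19 ya23 za0) (ka xa19 ya25 za45) (ka xa19 ya23 za2) (ka xa18 ya5 za20) (ka xa19 ya25 za48) (ka xa19 ya12 za46) (ka xa19 ya12 za47) (ka xa19 ya26 za0) (ka xa19 ya23 za5) (ka xa19 ya23 za6) (ka xa18 ya5 za25) (ka xa19 ya26 za4) (ka xa19 ya23 za9) (ka xa19 ya26 za7) (ka xa18 ya9 za6) (ka xa19 ya15 za15) (ka xa19 ya15 za16) (ka xa19 ya26 za11) (ka xa18 ya9 za8) (ka xa19 ya26 za13)) (@D3.rec (fun _ => Pt) (ka xa19 ya15 za18) (ka xa18 ya5 za35) (ka xa19 ya26 za15) (ka xa18 ya9 za20) (ka xa19 ya13 za5) (ka xa19 ya13 za6) (ka xa19 ya13 za7) (ka xa19 ya23 za13) (ka xa19 ya23 za14) (ka xa19 ya26 za25) (ka xa19 ya23 za16) (ka xa18 ya13 za47) (ka xa19 ya26 za29) (ka xa18 ya13 za48) (ka xa18 ya5 za45) (ka xa19 ya26 za32) (ka xa18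 ya13 za22) (ka xa18 ya13 za46) (ka xa19 ya12 za40) (ka xa19 ya12 za41) (ka xa19 ya26 za39) (ka xa19 ya13 za14) (ka xa19 ya13 za15) (ka xa18 ya6 za0) (ka xa19 ya26 za42) (ka xa19 ya23 za21) (ka xa18 ya14 za3) (ka xa18 ya6 za4) (ka xa19 ya26 za46) (ka xa19 ya26 za47) (ka xa19 ya12 za49) (ka xa18 ya6 za8) (ka xa19 ya26 za50) (ka xa19 ya13 za22) (ka xa18 ya6 za11) (ka xa20 ya0 za2) (ka xa19 ya23 za24) (ka xa19 ya12 za7) (ka xa19 ya23 za25) (ka xa19 ya14 za46) (ka xa19 ya23 za26) (ka xa19 ya13 za26) (ka xa18 ya6 za20) (ka xa20 ya0 za11) (ka xa19 ya23 za27) (ka xa18 ya6 za24) (ka xa20 ya0 za14) (ka xa19 ya21 za11) (ka xa19 ya13 za24) (ka xa19 ya23 za28) (ka xa19 ya13 za28)) (@D3.rec (fun _ => Pt) (ka xa19 ya13 za30) (ka xa18 ya6 za32) (ka xa20 ya0 za20) (ka xa20 ya0 za21) (ka xa19 ya23 za29) (ka xa18 ya6 za37)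 (ka xa20 ya0 za23) (ka xa20 ya0 za24) (ka xa19 ya21 za7) (ka xa18 ya6 za41) (ka xa20 ya0 za26) (ka xa19 ya21 za10) (ka xa19 ya13 za32) (ka xa18 ya6 za46) (ka xa18 ya6 za47) (ka xa20 ya0 za27) (ka xa18 ya13 za21) (ka xa18 ya9 za2) (ka xa18 ya7 za3) (ka xa18 ya7 za4) (ka xa20 ya0 za30) (ka xa18 ya7 za6) (ka xa20 ya0 za31) (ka xa20 ya0 za32) (ka xa18 ya7 za9) (ka xa18 ya7 za10) (ka xa20 ya0 za33) (ka xa20 ya0 za34) (ka xa18 ya7 za13) (ka xa19 ya17 za24) (ka xa19 ya17 za25) (ka xa20 ya0 za37) (ka xa18 ya14 za13) (ka xa18 ya14 za14) (ka xa20 ya0 za40) (ka xa18 ya11 za32) (ka xa18 ya11 za33) (ka xa20 ya0 za43) (ka xa19 ya11 za41) (ka xa18 ya7 za21) (ka xa20 ya0 za45) (ka xa18 ya7 za23) (ka xa18 ya9 za3) (ka xa18 ya9 za4) (ka xa20 ya0 za48) (ka xa20 ya0 za49) (ka xa18 ya7 za31) (ka xa18 ya7 za32) (ka xa18 ya7 za34)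 (ka xa20 ya1 za0) (ka xa19 ya16 za21)) (@D3.rec (fun _ => Pt) (ka xa18 ya7 za36) (ka xa20 ya1 za2) (ka xa20 ya1 za3) (ka xa18 ya7 za40) (ka xa18 ya9 za12) (ka xa18 ya9 za13) (ka xa20 ya1 za6) (ka xa18 ya9 za16) (ka xa18 ya7 za44) (ka xa18 ya13 za17) (ka xa18 ya15 za11) (ka xa18 ya9 za21) (ka xa18 ya9 za22) (ka xa18 ya9 za23) (ka xa18 ya9 za24) (ka xa18 ya9 za25) (ka xa20 ya1 za15) (ka xa19 ya23 za44) (ka xa19 ya16 za41) (ka xa18 ya13 za20) (ka xa18 ya9 za31) (ka xa18 ya9 za33) (ka xa18 ya9 za34) (ka xa18 ya9 za35) (ka xa18 ya9 za36) (ka xa20 ya1 za26) (ka xa18 ya9 za38) (ka xa18 ya9 za39) (ka xa18 ya9 za40) (ka xa20 ya1 za30) (ka xa18 ya8 za9) (ka xa19 ya23 za31) (ka xa19 ya16 za2) (ka xa20 ya1 za34) (ka xa19 ya16 za42) (ka xa19 ya13 za19) (ka xa18 ya10 za5) (ka xa18 ya10 za6) (ka xa20 ya1 za39) (ka xa18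 ya10 za10) (ka xa18 ya10 za11) (ka xa20 ya1 za42) (ka xa18 ya10 za16) (ka xa18 ya8 za19) (ka xa20 ya1 za44) (ka xa18 ya10 za19) (ka xa18 ya8 za22) (ka xa18 ya10 za28) (ka xa18 ya10 za29) (ka xa19 ya12 za45) (ka xa19 ya13 za31)) (@D3.rec (fun _ => Pt) (ka xa19 ya24 za40) (ka xa19 ya15 za9) (ka xa19 ya12 za20) (ka xa19 ya15 za20) (ka xa19 ya15 za21) (ka xa20 ya2 za2) (ka xa19 ya16 za23) (ka xa18 ya8 za44) (ka xa19 ya12 za8) (ka xa19 ya12 za10) (ka xa19 ya12 za11) (ka xa19 ya12 za12) (ka xa20 ya2 za9) (ka xa19 ya19 za5) (ka xa19 ya24 za4) (ka xa19 ya15 za37) (ka xa19 ya14 za24) (ka xa19 ya26 za35) (ka xa20 ya0 za29) (ka xa20 ya2 za18) (ka xa20 ya0 za47) (ka xa18 ya9 za5) (ka xa19 ya26 za8) (ka xa19 ya15 za38) (ka xa18 ya14 za34) (ka xa20 ya2 za23) (ka xa19 ya15 za35) (ka xa19 ya13 za1) (ka xa19 ya14 za39) (ka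 xa19 ya14 za40) (ka xa20 ya2 za28) (ka xa20 ya1 za5) (ka xa20 ya2 za31) (ka xa18 ya9 za15) (ka xa20 ya2 za32) (ka xa20 ya2 za33) (ka xa18 ya9 za18) (ka xa19 ya26 za16) (ka xa19 ya26 za17) (ka xa20 ya2 za37) (ka xa20 ya1 za11) (ka xa20 ya1 za12) (ka xa20 ya2 za40) (ka xa20 ya1 za14) (ka xa18 ya9 za26) (ka xa19 ya24 za2) (ka xa19 ya24 za3) (ka xa20 ya2 za45) (ka xa19 ya16 za10) (ka xa19 ya14 za25) (ka xa20 ya1 za19)) (@D3.rec (fun _ => Pt) (ka xa20 ya1 za20) (ka xa19 ya14 za26) (ka xa19 ya14 za27) (ka xa20 ya3 za3) (ka xa20 ya1 za22) (ka xa20 ya1 za23) (ka xa20 ya3 za7) (ka xa20 ya1 za25) (ka xa18 ya9 za37) (ka xa20 ya3 za9) (ka xa20 ya1 za28) (ka xa20 ya1 za29) (ka xa18 ya9 za41) (ka xa18 ya9 za50) (ka xa18 ya10 za0) (ka xa20 ya3 za14) (ka xa19 ya23 za32) (ka xa19 ya23 za33) (ka xa19 ya18 za48) (ka xa19 ya16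 za43) (ka xa20 ya3 za19) (ka xa19 ya16 za40) (ka xa18 ya13 za40) (ka xa20 ya3 za22) (ka xa20 ya3 za13) (ka xa18 ya10 za1) (ka xa20 ya3 za24) (ka xa18 ya14 za10) (ka xa18 ya14 za11) (ka xa19 ya14 za41) (ka xa19 ya14 za42) (ka xa20 ya3 za29) (ka xa20 ya1 za38) (ka xa20 ya3 za32) (ka xa19 ya14 za44) (ka xa19 ya14 za45) (ka xa18 ya10 za9) (ka xa20 ya3 za35) (ka xa20 ya1 za41) (ka xa19 ya16 za14) (ka xa19 ya16 za15) (ka xa20 ya3 za39) (ka xa19 ya21 za14) (ka xa18 ya10 za15) (ka xa20 ya3 za41) (ka xa18 ya10 za18) (ka xa20 ya3 za42) (ka xa20 ya3 za43) (ka xa18 ya10 za21) (ka xa18 ya10 za24) (ka xa19 ya14 za28)) (@D3.rec (fun _ => Pt) (ka xa20 ya1 za46) (ka xa20 ya3 za45) (ka xa20 ya3 za46) (ka xa20 ya3 za47) (ka xa18 ya11 za2) (ka xa18 ya11 za3) (ka xa18 ya10 za37) (ka xa19 ya17 za8) (ka xa19 ya20 za14) (ka xa19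 ya20 za15) (ka xa20 ya4 za4) (ka xa19 ya20 za22) (ka xa19 ya20 za23) (ka xa18 ya10 za43) (ka xa18 ya10 za44) (ka xa19 ya17 za9) (ka xa19 ya19 za26) (ka xa19 ya19 za27) (ka xa19 ya17 za10) (ka xa19 ya17 za11) (ka xa20 ya4 za15) (ka xa19 ya21 za24) (ka xa19 ya21 za25) (ka xa20 ya4 za18) (ka xa19 ya19 za29) (ka xa19 ya19 za30) (ka xa18 ya11 za1) (ka xa20 ya4 za21) (ka xa20 ya3 za49) (ka xa19 ya18 za32) (ka xa18 ya11 za5) (ka xa19 ya17 za12) (ka xa18 ya11 za24) (ka xa18 ya11 za25) (ka xa20 ya4 za26) (ka xa18 ya11 za27) (ka xa18 ya11 za13) (ka xa20 ya4 za28) (ka xa18 ya11 za15) (ka xa18 ya11 za16) (ka xa20 ya4 za29) (ka xa18 ya12 za6) (ka xa20 ya4 za31) (ka xa19 ya18 za0) (ka xa19 ya14 za30) (ka xa19 ya14 za31) (ka xa20 ya4 za35) (ka xa20 ya4 za25) (ka xa18 ya11 za26) (ka xa20 ya4 za38) (ka xa19 ya20 za41)) (@D3.rec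 (fun _ => Pt) (ka xa20 ya4 za40) (ka xa19 ya11 za47) (ka xa20 ya4 za42) (ka xa20 ya0 za42) (ka xa18 ya11 za34) (ka xa20 ya4 za44) (ka xa19 ya17 za40) (ka xa18 ya11 za37) (ka xa20 ya4 za46) (ka xa20 ya4 za47) (ka xa18 ya11 za46) (ka xa20 ya4 za49) (ka xa19 ya21 za48) (ka xa20 ya5 za0) (ka xa18 ya11 za45) (ka xa20 ya5 za1) (ka xa19 ya17 za33) (ka xa20 ya5 za3) (ka xa19 ya15 za13) (ka xa18 ya11 za50) (ka xa20 ya5 za5) (ka xa20 ya5 za6) (ka xa18 ya12 za2) (ka xa20 ya5 za7) (ka xa18 ya12 za5) (ka xa20 ya5 za8) (ka xa19 ya19 za37) (ka xa18 ya12 za8) (ka xa18 ya12 za22) (ka xa18 ya12 za23) (ka xa20 ya5 za12) (ka xa18 ya12 za12) (ka xa18 ya12 za14) (ka xa20 ya5 za13) (ka xa18 ya12 za16) (ka xa18 ya12 za17) (ka xa19 ya21 za29) (ka xa19 ya21 za30) (ka xa20 ya5 za16) (ka xa19 ya17 za13) (ka xa19 ya17 za14) (ka xa20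 ya5 za19) (ka xa20 ya5 za11) (ka xa18 ya12 za24) (ka xa19 ya15 za29) (ka xa19 ya15 za30) (ka xa20 ya5 za24) (ka xa19 ya21 za20) (ka xa19 ya21 za21) (ka xa20 ya5 za27) (ka xa20 ya5 za28)) (@D3.rec (fun _ => Pt) (ka xa19 ya21 za33) (ka xa18 ya12 za31) (ka xa20 ya5 za30) (ka xa18 ya12 za33) (ka xa18 ya13 za29) (ka xa18 ya13 za30) (ka xa20 ya5 za33) (ka xa20 ya5 za34) (ka xa19 ya15 za32) (ka xa18 ya12 za39) (ka xa20 ya5 za36) (ka xa19 ya21 za27) (ka xa18 ya12 za42) (ka xa18 ya12 za43) (ka xa20 ya5 za39) (ka xa20 ya5 za40) (ka xa18 ya13 za25) (ka xa18 ya12 za50) (ka xa18 ya13 za0) (ka xa20 ya5 za42) (ka xa20 ya5 za43) (ka xa18 ya14 za16) (ka xa18 ya13 za5) (ka xa20 ya5 za46) (ka xa18 ya13 za7) (ka xa20 ya5 za47) (ka xa20 ya5 za48) (ka xa18 ya13 za11) (ka xa20 ya5 za49) (ka xa18 ya13 za13) (ka xa18 ya13 za18)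 (ka xa18 ya13 za19) (ka xa20 ya1 za8) (ka xa20 ya1 za9) (ka xa20 ya6 za3) (ka xa20 ya6 za0) (ka xa20 ya1 za18) (ka xa19 ya26 za31) (ka xa19 ya21 za9) (ka xa20 ya6 za8) (ka xa19 ya20 za37) (ka xa18 ya13 za24) (ka xa20 ya6 za10) (ka xa19 ya25 za23) (ka xa19 ya25 za20) (ka xa20 ya6 za13) (ka xa20 ya6 za14) (ka xa20 ya5 za32) (ka xa18 ya13 za31) (ka xa20 ya6 za17) (ka xa20 ya6 za18)) (@D3.rec (fun _ => Pt) (ka xa18 ya13 za34) (ka xa20 ya6 za19) (ka xa19 ya20 za2) (ka xa19 ya20 za3) (ka xa19 ya25 za35) (ka xa19 ya15 za24) (ka xa20 ya6 za24) (ka xa20 ya6 za25) (ka xa19 ya15 za28) (ka xa18 ya13 za42) (ka xa19 ya12 za25) (ka xa19 ya12 za26) (ka xa19 ya12 za27) (ka xa19 ya15 za5) (ka xa19 ya15 za6) (ka xa20 ya6 za35) (ka xa19 ya26 za28) (ka xa20 ya6 za38) (ka xa18 ya13 za49) (ka xa19 ya12 za18) (ka xa19 ya12 za19)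 (ka xa20 ya6 za41) (ka xa19 ya12 za29) (ka xa19 ya12 za30) (ka xa18 ya14 za2) (ka xa20 ya6 za43) (ka xa20 ya6 za44) (ka xa18 ya14 za6) (ka xa20 ya6 za45) (ka xa20 ya3 za26) (ka xa18 ya14 za12) (ka xa20 ya6 za48) (ka xa20 ya0 za39) (ka xa18 ya14 za15) (ka xa20 ya7 za0) (ka xa20 ya5 za45) (ka xa20 ya7 za3) (ka xa19 ya16 za1) (ka xa18 ya14 za20) (ka xa18 ya14 za21) (ka xa18 ya14 za22) (ka xa20 ya7 za6) (ka xa19 ya16 za26) (ka xa19 ya16 za27) (ka xa18 ya14 za26) (ka xa20 ya7 za9) (ka xa19 ya24 za27) (ka xa20 ya7 za11) (ka xa18 ya14 za30) (ka xa20 ya7 za12) (ka xa18 ya14 za33)) (@D3.rec (fun _ => Pt) (ka xa20 ya7 za13) (ka xa19 ya16 za33) (ka xa18 ya14 za36) (ka xa20 ya7 za15) (ka xa19 ya13 za18) (ka xa19 ya13 za8) (ka xa19 ya13 za9) (ka xa20 ya7 za21) (ka xa19 ya13 za11) (ka xa19 ya13 za12) (ka xa20 ya7 za23)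 (ka xa19 ya15 za8) (ka xa18 ya14 za44) (ka xa20 ya7 za25) (ka xa19 ya12 za43) (ka xa18 ya14 za46) (ka xa20 ya7 za27) (ka xa19 ya12 za44) (ka xa18 ya14 za50) (ka xa20 ya7 za28) (ka xa18 ya15 za3) (ka xa20 ya7 za29) (ka xa18 ya15 za6) (ka xa18 ya15 za7) (ka xa19 ya13 za34) (ka xa18 ya22 za50) (ka xa18 ya23 za0) (ka xa20 ya7 za32) (ka xa18 ya23 za48) (ka xa20 ya7 za34) (ka xa18 ya23 za39) (ka xa20 ya7 za36) (ka xa20 ya7 za37) (ka xa18 ya23 za50) (ka xa18 ya15 za25) (ka xa18 ya23 za30) (ka xa18 ya24 za6) (ka xa20 ya7 za42) (ka xa18 ya15 za29) (ka xa20 ya7 za43) (ka xa20 ya7 za44) (ka xa19 ya3 za38) (ka xa18 ya15 za33) (ka xa18 ya15 za35) (ka xa18 ya15 za36) (ka xa18 ya21 za2) (ka xa20 ya7 za47) (ka xa19 ya8 za1) (ka xa18 ya15 za40) (ka xa20 ya7 za49) (ka xa18 ya23 za29)) (@D3.rec (fun _ => Pt) (ka xa18 ya21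 za49) (ka xa18 ya23 za25) (ka xa18 ya24 za11) (ka xa18 ya18 za28) (ka xa18 ya18 za29) (ka xa19 ya1 za29) (ka xa19 ya0 za48) (ka xa19 ya2 za37) (ka xa19 ya5 za8) (ka xa19 ya0 za2) (ka xa19 ya5 za9) (ka xa19 ya5 za10) (ka xa19 ya5 za11) (ka xa19 ya0 za9) (ka xa19 ya0 za10) (ka xa20 ya8 za20) (ka xa18 ya18 za13) (ka xa18 ya26 za45) (ka xa19 ya10 za19) (ka xa19 ya10 za20) (ka xa19 ya5 za2) (ka xa19 ya0 za23) (ka xa19 ya0 za39) (ka xa19 ya0 za40) (ka xa20 ya8 za32) (ka xa19 ya10 za10) (ka xa19 ya10 za11) (ka xa19 ya10 za12) (ka xa20 ya8 za38) (ka xa19 ya10 za22) (ka xa19 ya10 za23) (ka xa20 ya8 za41) (ka xa19 ya0 za42) (ka xa18 ya16 za19) (ka xa18 ya18 za17) (ka xa19 ya0 za46) (ka xa19 ya0 za47) (ka xa19 ya1 za2) (ka xa19 ya1 za3) (ka xa20 ya8 za48) (ka xa19 ya2 za18) (ka xa19 ya2 za19) (ka xa20 ya9 za1) (ka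 xa19 ya11 za14) (ka xa19 ya11 za17) (ka xa19 ya4 za49) (ka xa19 ya1 za36) (ka xa19 ya1 za37) (ka xa20 ya9 za8) (ka xa19 ya2 za30) (ka xa18 ya16 za33)) (@D3.rec (fun _ => Pt) (ka xa18 ya26 za9) (ka xa19 ya5 za27) (ka xa18 ya25 za9) (ka xa20 ya9 za15) (ka xa18 ya25 za8) (ka xa19 ya2 za4) (ka xa19 ya2 za5) (ka xa19 ya2 za6) (ka xa19 ya11 za5) (ka xa19 ya11 za6) (ka xa20 ya9 za25) (ka xa19 ya11 za8) (ka xa19 ya11 za9) (ka xa20 ya9 za29) (ka xa19 ya2 za21) (ka xa19 ya2 za22) (ka xa18 ya16 za45) (ka xa20 ya9 za33) (ka xa19 ya11 za4) (ka xa19 ya4 za35) (ka xa18 ya16 za49) (ka xa20 ya9 za36) (ka xa19 ya2 za33) (ka xa19 ya1 za0) (ka xa19 ya2 za48) (ka xa18 ya22 za19) (ka xa19 ya2 za41) (ka xa18 ya24 za8) (ka xa19 ya2 za50) (ka xa19 ya1 za4) (ka xa19 ya3 za0) (ka xa19 ya4 za50) (ka xa19 ya3 za12) (ka xa18 ya25 za10)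 (ka xa19 ya11 za24) (ka xa18 ya25 za11) (ka xa20 ya9 za46) (ka xa18 ya23 za23) (ka xa18 ya20 za41) (ka xa18 ya25 za13) (ka xa18 ya25 za14) (ka xa18 ya25 za15) (ka xa20 ya10 za2) (ka xa18 ya25 za17) (ka xa18 ya25 za18) (ka xa20 ya10 za5) (ka xa18 ya25 za20) (ka xa20 ya10 za7) (ka xa18 ya25 za5) (ka xa18 ya17 za34) (ka xa18 ya18 za24)) (@D3.rec (fun _ => Pt) (ka xa18 ya18 za25) (ka xa20 ya10 za11) (ka xa20 ya10 za12) (ka xa18 ya18 za45) (ka xa18 ya18 za46) (ka xa20 ya10 za15) (ka xa18 ya18 za49) (ka xa20 ya10 za17) (ka xa18 ya19 za4) (ka xa18 ya17 za43) (ka xa18 ya19 za12) (ka xa18 ya19 za13) (ka xa20 ya10 za21) (ka xa18 ya17 za46) (ka xa18 ya17 za47) (ka xa20 ya10 za22) (ka xa18 ya20 za1) (ka xa18 ya20 za2) (ka xa20 ya10 za25) (ka xa18 ya20 za4) (ka xa18 ya18 za1) (ka xa20 ya10 za27) (ka xa18 ya22 za18) (ka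 xa18 ya22 za20) (ka xa19 ya5 za16) (ka xa19 ya5 za49) (ka xa19 ya6 za1) (ka xa19 ya6 za2) (ka xa19 ya6 za50) (ka xa18 ya22 za42) (ka xa19 ya7 za44) (ka xa19 ya7 za45) (ka xa20 ya10 za43) (ka xa18 ya18 za16) (ka xa18 ya18 za18) (ka xa20 ya10 za44) (ka xa20 ya10 za45) (ka xa20 ya8 za27) (ka xa20 ya9 za44) (ka xa19 ya5 za28) (ka xa19 ya5 za29) (ka xa19 ya6 za29) (ka xa19 ya6 za30) (ka xa20 ya11 za5) (ka xa19 ya6 za34) (ka xa19 ya6 za35) (ka xa19 ya2 za39) (ka xa20 ya11 za9) (ka xa20 ya10 za10) (ka xa18 ya18 za26) (ka xa18 ya23 za31)) (@D3.rec (fun _ => Pt) (ka xa20 ya8 za3) (ka xa20 ya8 za4) (ka xa20 ya11 za16) (ka xa19 ya1 za20) (ka xa19 ya1 za21) (ka xa19 ya10 za13) (ka xa19 ya10 za14) (ka xa20 ya11 za21) (ka xa19 ya11 za11) (ka xa19 ya5 za1) (ka xa18 ya23 za34) (ka xa18 ya23 za35) (ka xa20 ya11 za27) (ka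 xa19 ya8 za18) (ka xa18 ya18 za39) (ka xa19 ya1 za46) (ka xa19 ya1 za47) (ka xa20 ya11 za32) (ka xa19 ya2 za0) (ka xa18 ya26 za10) (ka xa19 ya5 za3) (ka xa19 ya5 za4) (ka xa20 ya11 za37) (ka xa20 ya10 za14) (ka xa19 ya10 za5) (ka xa20 ya11 za41) (ka xa18 ya18 za48) (ka xa20 ya11 za42) (ka xa19 ya10 za8) (ka xa19 ya8 za44) (ka xa19 ya8 za45) (ka xa20 ya11 za46) (ka xa19 ya9 za8) (ka xa18 ya19 za3) (ka xa20 ya11 za48) (ka xa19 ya5 za26) (ka xa18 ya24 za13) (ka xa19 ya5 za15) (ka xa19 ya5 za23) (ka xa18 ya23 za9) (ka xa18 ya23 za32) (ka xa18 ya23 za33) (ka xa20 ya12 za7) (ka xa20 ya10 za20) (ka xa18 ya19 za14) (ka xa18 ya19 za17) (ka xa18 ya19 za18) (ka xa20 ya12 za12) (ka xa20 ya12 za11) (ka xa18 ya19 za35) (ka xa18 ya19 za20)) (@D3.rec (fun _ => Pt) (ka xa20 ya12 za15) (ka xa19 ya10 za37) (ka xa19 ya4 za32)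 (ka xa18 ya23 za11) (ka xa18 ya23 za12) (ka xa20 ya12 za20) (ka xa18 ya23 za37) (ka xa18 ya23 za38) (ka xa18 ya19 za27) (ka xa20 ya12 za23) (ka xa19 ya5 za48) (ka xa18 ya19 za34) (ka xa20 ya12 za26) (ka xa18 ya19 za38) (ka xa19 ya6 za39) (ka xa19 ya6 za40) (ka xa20 ya12 za30) (ka xa20 ya12 za14) (ka xa20 ya12 za32) (ka xa18 ya19 za37) (ka xa20 ya12 za33) (ka xa19 ya3 za50) (ka xa20 ya12 za35) (ka xa19 ya5 za6) (ka xa18 ya19 za42) (ka xa20 ya12 za37) (ka xa19 ya10 za42) (ka xa19 ya10 za43) (ka xa19 ya1 za7) (ka xa20 ya12 za41) (ka xa18 ya19 za47) (ka xa18 ya19 za49) (ka xa20 ya12 za42) (ka xa19 ya11 za1) (ka xa20 ya12 za44) (ka xa20 ya10 za24) (ka xa18 ya20 za3) (ka xa20 ya12 za46) (ka xa18 ya20 za6) (ka xa20 ya12 za47) (ka xa19 ya6 za21) (ka xa19 ya4 za18) (ka xa19 ya4 za34) (ka xa19 ya6 za19) (ka xa18 ya22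 za30) (ka xa20 ya13 za2) (ka xa18 ya20 za38) (ka xa18 ya20 za42) (ka xa18 ya20 za43) (ka xa18 ya20 za46) (ka xa18 ya20 za47)) (@D3.rec (fun _ => Pt) (ka xa20 ya13 za8) (ka xa18 ya21 za0) (ka xa20 ya13 za10) (ka xa20 ya13 za11) (ka xa18 ya21 za7) (ka xa20 ya13 za13) (ka xa18 ya21 za12) (ka xa18 ya20 za31) (ka xa19 ya7 za7) (ka xa19 ya7 za15) (ka xa19 ya7 za18) (ka xa19 ya7 za19) (ka xa19 ya7 za31) (ka xa19 ya8 za39) (ka xa19 ya8 za40) (ka xa20 ya13 za24) (ka xa20 ya13 za25) (ka xa18 ya23 za5) (ka xa18 ya23 za6) (ka xa20 ya9 za48) (ka xa20 ya9 za49) (ka xa20 ya13 za31) (ka xa20 ya13 za5) (ka xa18 ya22 za36) (ka xa19 ya3 za29) (ka xa19 ya3 za30) (ka xa20 ya13 za36) (ka xa20 ya13 za7) (ka xa18 ya20 za48) (ka xa18 ya22 za34) (ka xa20 ya13 za39) (ka xa18 ya21 za1) (ka xa20 ya13 za40) (ka xa19 ya8 za16) (ka xa20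 ya13 za42) (ka xa18 ya24 za47) (ka xa18 ya21 za6) (ka xa20 ya13 za44) (ka xa18 ya23 za18) (ka xa20 ya13 za46) (ka xa19 ya8 za6) (ka xa18 ya21 za11) (ka xa20 ya13 za48) (ka xa18 ya23 za16) (ka xa20 ya13 za50) (ka xa20 ya14 za0) (ka xa18 ya22 za16) (ka xa18 ya22 za35) (ka xa18 ya24 za42) (ka xa18 ya24 za43) (ka xa20 ya14 za5)) (@D3.rec (fun _ => Pt) (ka xa19 ya7 za43) (ka xa18 ya21 za22) (ka xa18 ya22 za17) (ka xa18 ya22 za22) (ka xa18 ya22 za23) (ka xa18 ya22 za24) (ka xa18 ya22 za25) (ka xa18 ya22 za26) (ka xa18 ya22 za27) (ka xa18 ya22 za28) (ka xa20 ya14 za18) (ka xa18 ya22 za33) (ka xa20 ya14 za20) (ka xa18 ya23 za13) (ka xa18 ya23 za14) (ka xa18 ya22 za43) (ka xa18 ya22 za44) (ka xa18 ya22 za45) (ka xa20 ya14 za27) (ka xa18 ya22 za48) (ka xa18 ya22 za49) (ka xa20 ya14 za30) (ka xa18 ya23 za2) (ka xa18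 ya21 za41) (ka xa18 ya23 za4) (ka xa20 ya14 za34) (ka xa20 ya14 za35) (ka xa18 ya21 za48) (ka xa20 ya14 za37) (ka xa18 ya21 za47) (ka xa20 ya14 za38) (ka xa20 ya8 za1) (ka xa19 ya7 za29) (ka xa18 ya23 za47) (ka xa20 ya14 za42) (ka xa18 ya23 za42) (ka xa18 ya23 za43) (ka xa18 ya22 za3) (ka xa20 ya14 za46) (ka xa18 ya23 za46) (ka xa18 ya22 za6) (ka xa20 ya14 za48) (ka xa18 ya24 za2) (ka xa18 ya24 za4) (ka xa18 ya24 za5) (ka xa18 ya24 za9) (ka xa19 ya1 za8) (ka xa19 ya1 za23) (ka xa19 ya6 za18) (ka xa20 ya14 za1) (ka xa20 ya13 za30)) (@D3.rec (fun _ => Pt) (ka xa20 ya15 za8) (ka xa20 ya10 za28) (ka xa20 ya10 za29) (ka xa20 ya9 za40) (ka xa20 ya10 za30) (ka xa19 ya5 za13) (ka xa20 ya14 za8) (ka xa20 ya14 za9) (ka xa20 ya14 za10) (ka xa20 ya14 za11) (ka xa20 ya15 za22) (ka xa20 ya14 za13) (ka xa20 ya14 za14)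 (ka xa20 ya14 za15) (ka xa20 ya15 za27) (ka xa20 ya14 za17) (ka xa18 ya22 za29) (ka xa20 ya15 za30) (ka xa19 ya0 za15) (ka xa19 ya1 za14) (ka xa19 ya1 za15) (ka xa20 ya15 za35) (ka xa20 ya13 za38) (ka xa20 ya15 za37) (ka xa20 ya13 za33) (ka xa18 ya22 za37) (ka xa19 ya7 za16) (ka xa19 ya7 za17) (ka xa20 ya15 za42) (ka xa19 ya7 za24) (ka xa19 ya7 za25) (ka xa20 ya10 za39) (ka xa20 ya10 za40) (ka xa20 ya15 za48) (ka xa20 ya14 za24) (ka xa20 ya14 za25) (ka xa20 ya16 za1) (ka xa19 ya8 za26) (ka xa18 ya22 za47) (ka xa20 ya16 za3) (ka xa20 ya14 za29) (ka xa20 ya16 za5) (ka xa20 ya7 za31) (ka xa18 ya23 za1) (ka xa20 ya16 za7) (ka xa20 ya14 za32) (ka xa20 ya14 za33) (ka xa20 ya16 za11) (ka xa20 ya13 za27) (ka xa18 ya23 za7) (ka xa18 ya26 za37)) (@D3.rec (fun _ => Pt) (ka xa20 ya12 za2) (ka xa20 ya12 za3) (ka xa19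 ya10 za2) (ka xa19 ya10 za3) (ka xa20 ya16 za19) (ka xa20 ya12 za19) (ka xa20 ya16 za21) (ka xa20 ya14 za22) (ka xa18 ya23 za15) (ka xa20 ya16 za23) (ka xa18 ya23 za17) (ka xa20 ya16 za24) (ka xa18 ya23 za24) (ka xa20 ya16 za26) (ka xa19 ya7 za8) (ka xa19 ya7 za9) (ka xa20 ya9 za47) (ka xa20 ya8 za2) (ka xa20 ya16 za33) (ka xa20 ya8 za0) (ka xa20 ya7 za40) (ka xa20 ya16 za36) (ka xa19 ya7 za11) (ka xa19 ya7 za12) (ka xa18 ya23 za28) (ka xa20 ya16 za39) (ka xa20 ya7 za39) (ka xa20 ya11 za12) (ka xa20 ya11 za13) (ka xa20 ya16 za44) (ka xa20 ya12 za5) (ka xa20 ya12 za6) (ka xa20 ya16 za48) (ka xa20 ya11 za25) (ka xa20 ya11 za26) (ka xa18 ya23 za36) (ka xa20 ya17 za2) (ka xa19 ya9 za40) (ka xa20 ya12 za22) (ka xa20 ya9 za7) (ka xa20 ya17 za7) (ka xa19 ya7 za50) (ka xa18 ya23 za41) (ka xa20 ya17 za9) (ka xa20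 ya14 za44) (ka xa20 ya14 za45) (ka xa18 ya23 za45) (ka xa20 ya17 za13) (ka xa20 ya14 za40) (ka xa20 ya17 za15) (ka xa18 ya23 za49)) (@D3.rec (fun _ => Pt) (ka xa20 ya17 za16) (ka xa18 ya24 za1) (ka xa20 ya17 za17) (ka xa20 ya14 za50) (ka xa20 ya15 za0) (ka xa20 ya15 za1) (ka xa20 ya7 za41) (ka xa19 ya3 za8) (ka xa20 ya8 za45) (ka xa19 ya9 za38) (ka xa19 ya3 za11) (ka xa19 ya2 za47) (ka xa20 ya17 za24) (ka xa20 ya17 za25) (ka xa19 ya6 za42) (ka xa18 ya24 za19) (ka xa20 ya17 za27) (ka xa18 ya24 za21) (ka xa18 ya24 za22) (ka xa20 ya17 za28) (ka xa19 ya8 za47) (ka xa19 ya8 za48) (ka xa20 ya17 za31) (ka xa20 ya17 za32) (ka xa19 ya7 za21) (ka xa19 ya7 za22) (ka xa20 ya17 za35) (ka xa19 ya9 za11) (ka xa18 ya24 za32) (ka xa19 ya8 za36) (ka xa19 ya8 za37) (ka xa20 ya17 za40) (ka xa20 ya17 za41) (ka xa19 ya9 za0)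 (ka xa18 ya24 za37) (ka xa18 ya24 za38) (ka xa20 ya17 za43) (ka xa20 ya17 za44) (ka xa20 ya17 za45) (ka xa20 ya14 za4) (ka xa18 ya24 za44) (ka xa18 ya24 za45) (ka xa18 ya24 za46) (ka xa20 ya17 za48) (ka xa18 ya24 za49) (ka xa18 ya24 za50) (ka xa18 ya25 za0) (ka xa20 ya17 za49) (ka xa19 ya8 za12) (ka xa18 ya25 za4) (ka xa20 ya18 za0)) (@D3.rec (fun _ => Pt) (ka xa18 ya25 za7) (ka xa20 ya18 za1) (ka xa20 ya9 za14) (ka xa20 ya9 za12) (ka xa20 ya18 za4) (ka xa18 ya25 za12) (ka xa20 ya18 za5) (ka xa20 ya18 za6) (ka xa20 ya10 za1) (ka xa18 ya25 za16) (ka xa20 ya18 za8) (ka xa20 ya10 za4) (ka xa18 ya25 za19) (ka xa20 ya18 za11) (ka xa18 ya26 za38) (ka xa18 ya26 za39) (ka xa20 ya18 za14) (ka xa19 ya0 za3) (ka xa19 ya0 za4) (ka xa20 ya18 za18) (ka xa19 ya0 za6) (ka xa19 ya0 za7) (ka xa19 ya0 za8) (ka xa20 ya18 za22)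 (ka xa19 ya0 za12) (ka xa18 ya25 za30) (ka xa19 ya0 za16) (ka xa19 ya0 za17) (ka xa20 ya18 za27) (ka xa19 ya0 za24) (ka xa19 ya0 za25) (ka xa20 ya18 za31) (ka xa19 ya0 za27) (ka xa18 ya25 za36) (ka xa18 ya25 za37) (ka xa20 ya18 za34) (ka xa19 ya0 za45) (ka xa19 ya0 za49) (ka xa19 ya0 za50) (ka xa19 ya1 za1) (ka xa19 ya1 za5) (ka xa19 ya1 za9) (ka xa19 ya1 za10) (ka xa20 ya18 za41) (ka xa20 ya18 za42) (ka xa19 ya1 za17) (ka xa18 ya25 za48) (ka xa19 ya1 za25) (ka xa19 ya1 za26) (ka xa20 ya18 za47) (ka xa19 ya1 za30)) (@D3.rec (fun _ => Pt) (ka xa19 ya1 za31) (ka xa20 ya18 za50) (ka xa19 ya1 za33) (ka xa18 ya26 za3) (ka xa20 ya19 za2) (ka xa19 ya1 za39) (ka xa19 ya1 za40) (ka xa18 ya26 za6) (ka xa20 ya19 za6) (ka xa19 ya1 za43) (ka xa20 ya9 za11) (ka xa20 ya19 za9) (ka xa18 ya26 za11) (ka xa19 ya2 za7) (ka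 xa19 ya2 za8) (ka xa20 ya19 za12) (ka xa19 ya2 za10) (ka xa20 ya19 za15) (ka xa18 ya26 za16) (ka xa18 ya26 za17) (ka xa20 ya19 za16) (ka xa19 ya2 za25) (ka xa18 ya26 za21) (ka xa20 ya19 za19) (ka xa19 ya2 za36) (ka xa19 ya2 za38) (ka xa19 ya2 za40) (ka xa19 ya2 za44) (ka xa19 ya2 za49) (ka xa19 ya3 za4) (ka xa20 ya19 za23) (ka xa19 ya4 za31) (ka xa19 ya6 za16) (ka xa19 ya6 za17) (ka xa20 ya19 za27) (ka xa20 ya16 za13) (ka xa20 ya16 za14) (ka xa20 ya19 za30) (ka xa20 ya18 za13) (ka xa18 ya26 za40) (ka xa18 ya26 za46) (ka xa18 ya26 za47) (ka xa18 ya26 za48) (ka xa18 ya26 za49) (ka xa19 ya4 za17) (ka xa20 ya8 za22) (ka xa20 ya8 za23) (ka xa20 ya19 za43) (ka xa20 ya19 za34) (ka xa20 ya19 za35) (ka xa20 ya19 za36)) (@D3.rec (fun _ => Pt) (ka xa20 ya19 za37) (ka xa20 ya19 za38) (ka xa19 ya5 za45) (ka xa19 ya5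 za46) (ka xa19 ya5 za14) (ka xa20 ya20 za1) (ka xa20 ya8 za12) (ka xa20 ya8 za13) (ka xa20 ya20 za5) (ka xa20 ya18 za16) (ka xa20 ya18 za17) (ka xa19 ya0 za5) (ka xa20 ya20 za10) (ka xa20 ya18 za20) (ka xa20 ya18 za21) (ka xa20 ya20 za13) (ka xa20 ya8 za19) (ka xa19 ya0 za11) (ka xa20 ya20 za16) (ka xa20 ya18 za24) (ka xa20 ya20 za19) (ka xa20 ya15 za31) (ka xa20 ya15 za32) (ka xa20 ya20 za22) (ka xa20 ya18 za26) (ka xa19 ya0 za18) (ka xa20 ya20 za25) (ka xa19 ya10 za46) (ka xa20 ya20 za27) (ka xa19 ya0 za22) (ka xa20 ya8 za28) (ka xa20 ya8 za29) (ka xa20 ya20 za30) (ka xa20 ya18 za29) (ka xa20 ya18 za30) (ka xa19 ya0 za26) (ka xa20 ya20 za34) (ka xa20 ya18 za33) (ka xa20 ya20 za37) (ka xa19 ya0 za30) (ka xa19 ya5 za0) (ka xa20 ya20 za39) (ka xa20 ya20 za40) (ka xa19 ya0 za34) (ka xa20 ya20 za41) (ka xa19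 ya0 za36) (ka xa20 ya20 za42) (ka xa20 ya20 za43) (ka xa20 ya8 za31) (ka xa19 ya0 za41) (ka xa20 ya20 za46)) (@D3.rec (fun _ => Pt) (ka xa20 ya8 za43) (ka xa19 ya0 za44) (ka xa20 ya20 za49) (ka xa20 ya18 za36) (ka xa20 ya8 za44) (ka xa20 ya8 za8) (ka xa20 ya18 za37) (ka xa20 ya9 za39) (ka xa20 ya18 za38) (ka xa20 ya8 za46) (ka xa20 ya8 za47) (ka xa20 ya9 za31) (ka xa20 ya9 za42) (ka xa20 ya11 za4) (ka xa20 ya21 za11) (ka xa20 ya21 za12) (ka xa20 ya15 za2) (ka xa20 ya12 za1) (ka xa20 ya21 za15) (ka xa20 ya18 za40) (ka xa19 ya9 za44) (ka xa19 ya1 za11) (ka xa20 ya21 za19) (ka xa19 ya9 za43) (ka xa20 ya21 za21) (ka xa20 ya15 za34) (ka xa19 ya1 za16) (ka xa20 ya21 za24) (ka xa20 ya18 za44) (ka xa20 ya21 za27) (ka xa20 ya21 za28) (ka xa20 ya11 za18) (ka xa19 ya1 za22) (ka xa20 ya15 za3) (ka xa20 ya15 za4) (ka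 xa19 ya10 za4) (ka xa20 ya21 za33) (ka xa20 ya18 za46) (ka xa20 ya21 za36) (ka xa19 ya1 za28) (ka xa20 ya8 za6) (ka xa20 ya8 za7) (ka xa20 ya21 za40) (ka xa20 ya18 za49) (ka xa20 ya11 za8) (ka xa19 ya1 za32) (ka xa20 ya21 za44) (ka xa20 ya19 za1) (ka xa19 ya1 za35) (ka xa20 ya21 za47) (ka xa20 ya9 za6)) (@D3.rec (fun _ => Pt) (ka xa19 ya1 za38) (ka xa20 ya21 za50) (ka xa20 ya19 za4) (ka xa20 ya19 za5) (ka xa19 ya1 za42) (ka xa20 ya22 za3) (ka xa20 ya17 za5) (ka xa19 ya1 za44) (ka xa19 ya5 za22) (ka xa20 ya22 za8) (ka xa20 ya11 za31) (ka xa19 ya1 za48) (ka xa20 ya22 za11) (ka xa19 ya1 za50) (ka xa20 ya22 za12) (ka xa19 ya2 za2) (ka xa19 ya5 za37) (ka xa19 ya5 za38) (ka xa20 ya9 za17) (ka xa20 ya9 za18) (ka xa20 ya22 za19) (ka xa20 ya9 za20) (ka xa20 ya9 za21) (ka xa20 ya22 za23) (ka xa20 ya19 za11) (ka xa19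 ya2 za9) (ka xa20 ya22 za26) (ka xa20 ya19 za14) (ka xa19 ya10 za16) (ka xa19 ya2 za12) (ka xa20 ya22 za31) (ka xa19 ya9 za37) (ka xa19 ya2 za15) (ka xa20 ya22 za33) (ka xa20 ya22 za34) (ka xa19 ya5 za17) (ka xa20 ya22 za37) (ka xa20 ya8 za50) (ka xa20 ya9 za0) (ka xa19 ya2 za20) (ka xa20 ya22 za40) (ka xa20 ya9 za32) (ka xa19 ya2 za24) (ka xa20 ya22 za42) (ka xa20 ya22 za43) (ka xa20 ya19 za18) (ka xa19 ya2 za28) (ka xa19 ya2 za29) (ka xa20 ya22 za46) (ka xa20 ya9 za10) (ka xa19 ya2 za32))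
def f_a_20 : D2 → D3 → Pt := @D2.rec (fun _ => D3 → Pt) (@D3.rec (fun _ => Pt) (ka xa20 ya22 za48) (ka xa20 ya9 za38) (ka xa19 ya2 za35) (ka xa20 ya23 za0) (ka xa20 ya23 za1) (ka xa20 ya19 za21) (ka xa20 ya8 za9) (ka xa20 ya19 za22) (ka xa20 ya8 za17) (ka xa20 ya17 za23) (ka xa20 ya9 za41) (ka xa19 ya2 za43) (ka xa20 ya23 za7) (ka xa20 ya17 za21) (ka xa19 ya2 za46) (ka xa20 ya23 za10) (ka xa20 ya23 za11) (ka xa20 ya17 za22) (ka xa20 ya11 za1) (ka xa20 ya9 za43) (ka xa19 ya3 za2) (ka xa19 ya3 za3) (ka xa20 ya23 za14) (ka xa19 ya3 za6) (ka xa19 ya3 za7) (ka xa20 ya15 za26) (ka xa19 ya3 za10) (ka xa19 ya3 za15) (ka xa20 ya23 za16) (ka xa19 ya5 za18) (ka xa19 ya3 za20) (ka xa19 ya3 za22) (ka xa19 ya3 za23) (ka xa19 ya3 za26) (ka xa19 ya3 za27) (ka xa20 ya23 za18) (ka xa20 ya13 za35) (ka xa19 ya3 za31) (ka xa20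 ya23 za20) (ka xa19 ya10 za32) (ka xa19 ya3 za34) (ka xa20 ya23 za23) (ka xa19 ya8 za3) (ka xa19 ya3 za37) (ka xa20 ya23 za25) (ka xa19 ya3 za40) (ka xa20 ya23 za26) (ka xa19 ya5 za20) (ka xa19 ya3 za44) (ka xa19 ya3 za45) (ka xa20 ya23 za28)) (@D3.rec (fun _ => Pt) (ka xa19 ya3 za49) (ka xa20 ya23 za29) (ka xa19 ya4 za1) (ka xa19 ya4 za2) (ka xa20 ya23 za30) (ka xa19 ya5 za31) (ka xa19 ya4 za6) (ka xa20 ya23 za33) (ka xa19 ya9 za32) (ka xa19 ya9 za33) (ka xa20 ya23 za36) (ka xa19 ya5 za40) (ka xa19 ya5 za41) (ka xa20 ya23 za39) (ka xa19 ya5 za43) (ka xa19 ya4 za16) (ka xa20 ya23 za42) (ka xa20 ya13 za0) (ka xa19 ya9 za36) (ka xa19 ya5 za50) (ka xa19 ya6 za0) (ka xa20 ya23 za47) (ka xa19 ya6 za4) (ka xa19 ya6 za5) (ka xa20 ya24 za0) (ka xa19 ya6 za7) (ka xa19 ya4 za25) (ka xa20 ya24 za2) (ka xa19 ya6 za10)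 (ka xa19 ya6 za11) (ka xa19 ya4 za29) (ka xa20 ya24 za5) (ka xa20 ya12 za17) (ka xa20 ya9 za28) (ka xa19 ya4 za33) (ka xa20 ya24 za9) (ka xa20 ya9 za35) (ka xa20 ya24 za11) (ka xa19 ya6 za32) (ka xa19 ya4 za38) (ka xa20 ya24 za14) (ka xa19 ya6 za38) (ka xa19 ya4 za41) (ka xa20 ya24 za16) (ka xa19 ya4 za44) (ka xa20 ya24 za17) (ka xa19 ya7 za0) (ka xa20 ya9 za4) (ka xa20 ya24 za18) (ka xa20 ya11 za23) (ka xa20 ya8 za26)) (@D3.rec (fun _ => Pt) (ka xa20 ya24 za21) (ka xa20 ya11 za36) (ka xa19 ya5 za5) (ka xa20 ya24 za24) (ka xa20 ya8 za10) (ka xa20 ya8 za11) (ka xa20 ya24 za28) (ka xa20 ya8 za15) (ka xa20 ya8 za16) (ka xa19 ya5 za12) (ka xa20 ya15 za15) (ka xa20 ya12 za0) (ka xa20 ya24 za33) (ka xa20 ya11 za29) (ka xa20 ya10 za31) (ka xa20 ya10 za32) (ka xa20 ya24 za37) (ka xa20 ya22 za36) (ka xa19 ya5 za19)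 (ka xa20 ya24 za40) (ka xa20 ya24 za41) (ka xa20 ya11 za50) (ka xa20 ya24 za44) (ka xa19 ya5 za25) (ka xa20 ya24 za45) (ka xa20 ya24 za46) (ka xa20 ya24 za47) (ka xa20 ya11 za0) (ka xa19 ya5 za30) (ka xa20 ya24 za50) (ka xa20 ya23 za32) (ka xa19 ya5 za32) (ka xa19 ya5 za34) (ka xa19 ya5 za35) (ka xa20 ya25 za1) (ka xa20 ya22 za14) (ka xa20 ya22 za15) (ka xa19 ya5 za39) (ka xa20 ya25 za5) (ka xa20 ya23 za38) (ka xa19 ya5 za42) (ka xa20 ya25 za7) (ka xa20 ya23 za41) (ka xa20 ya25 za10) (ka xa20 ya19 za50) (ka xa19 ya5 za47) (ka xa20 ya25 za12) (ka xa20 ya10 za33) (ka xa20 ya10 za34) (ka xa20 ya25 za15) (ka xa20 ya23 za46)) (@D3.rec (fun _ => Pt) (ka xa20 ya25 za18) (ka xa20 ya10 za36) (ka xa20 ya10 za37) (ka xa19 ya6 za3) (ka xa20 ya25 za22) (ka xa20 ya23 za49) (ka xa20 ya23 za50) (ka xa19 ya6 za6) (ka xa20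 ya25 za25) (ka xa19 ya6 za9) (ka xa20 ya25 za26) (ka xa20 ya24 za4) (ka xa20 ya25 za28) (ka xa19 ya6 za24) (ka xa19 ya6 za15) (ka xa20 ya25 za30) (ka xa20 ya19 za26) (ka xa20 ya25 za33) (ka xa20 ya12 za50) (ka xa19 ya6 za20) (ka xa20 ya25 za35) (ka xa20 ya25 za36) (ka xa19 ya6 za23) (ka xa20 ya25 za37) (ka xa19 ya6 za26) (ka xa20 ya25 za38) (ka xa19 ya10 za29) (ka xa20 ya25 za41) (ka xa20 ya11 za3) (ka xa19 ya6 za31) (ka xa20 ya25 za44) (ka xa20 ya24 za13) (ka xa19 ya6 za33) (ka xa20 ya25 za46) (ka xa20 ya11 za7) (ka xa19 ya6 za37) (ka xa20 ya25 za48) (ka xa20 ya25 za49) (ka xa20 ya12 za29) (ka xa19 ya6 za41) (ka xa20 ya26 za0) (ka xa19 ya6 za44) (ka xa19 ya6 za46) (ka xa19 ya6 za47) (ka xa20 ya10 za38) (ka xa19 ya7 za1) (ka xa19 ya7 za2) (ka xa19 ya7 za3) (ka xa20 ya26 za1) (ka xa19 ya7 za28) (ka xa20 ya13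 za15)) (@D3.rec (fun _ => Pt) (ka xa20 ya13 za16) (ka xa20 ya26 za6) (ka xa20 ya16 za28) (ka xa20 ya16 za29) (ka xa19 ya7 za10) (ka xa20 ya26 za10) (ka xa20 ya16 za38) (ka xa20 ya13 za17) (ka xa20 ya13 za18) (ka xa20 ya26 za15) (ka xa20 ya15 za40) (ka xa20 ya15 za41) (ka xa20 ya26 za19) (ka xa20 ya13 za20) (ka xa20 ya13 za21) (ka xa19 ya7 za20) (ka xa20 ya26 za22) (ka xa20 ya17 za34) (ka xa19 ya7 za23) (ka xa20 ya26 za24) (ka xa20 ya15 za44) (ka xa19 ya7 za27) (ka xa20 ya26 za26) (ka xa20 ya14 za41) (ka xa20 ya26 za28) (ka xa19 ya7 za47) (ka xa19 ya7 za34) (ka xa20 ya26 za31) (ka xa19 ya7 za37) (ka xa19 ya7 za40) (ka xa20 ya26 za32) (ka xa19 ya7 za42) (ka xa20 ya26 za33) (ka xa20 ya26 za34) (ka xa20 ya10 za42) (ka xa19 ya7 za46) (ka xa20 ya26 za37) (ka xa20 ya26 za30) (ka xa19 ya7 za49) (ka xa20 ya26 za39)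 (ka xa19 ya8 za0) (ka xa20 ya26 za40) (ka xa19 ya8 za2) (ka xa20 ya26 za41) (ka xa19 ya8 za5) (ka xa20 ya26 za42) (ka xa19 ya8 za8) (ka xa19 ya8 za9) (ka xa20 ya26 za43) (ka xa19 ya8 za11) (ka xa20 ya26 za44)) (@D3.rec (fun _ => Pt) (ka xa19 ya8 za13) (ka xa19 ya8 za15) (ka xa20 ya26 za45) (ka xa19 ya8 za17) (ka xa20 ya26 za46) (ka xa19 ya8 za20) (ka xa19 ya8 za21) (ka xa19 ya8 za23) (ka xa19 ya8 za25) (ka xa20 ya26 za47) (ka xa20 ya26 za48) (ka xa19 ya8 za42) (ka xa19 ya8 za30) (ka xa19 ya8 za33) (ka xa20 ya26 za50) (ka xa20 ya17 za39) (ka xa19 ya8 za38) (ka xa21 ya0 za2) (ka xa20 ya13 za23) (ka xa19 ya8 za41) (ka xa21 ya0 za5) (ka xa20 ya21 za26) (ka xa21 ya0 za7) (ka xa20 ya11 za45) (ka xa19 ya8 za46) (ka xa21 ya0 za9) (ka xa20 ya17 za30) (ka xa19 ya8 za49) (ka xa19 ya8 za50) (ka xa21 ya0 za12) (ka xa19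 ya9 za2) (ka xa21 ya0 za13) (ka xa19 ya9 za47) (ka xa19 ya9 za6) (ka xa19 ya9 za7) (ka xa21 ya0 za16) (ka xa19 ya9 za10) (ka xa21 ya0 za17) (ka xa20 ya17 za37) (ka xa19 ya9 za14) (ka xa19 ya9 za15) (ka xa21 ya0 za19) (ka xa19 ya9 za19) (ka xa19 ya9 za20) (ka xa21 ya0 za20) (ka xa19 ya10 za35) (ka xa19 ya9 za23) (ka xa19 ya9 za25) (ka xa19 ya9 za26) (ka xa19 ya9 za28) (ka xa21 ya0 za22)) (@D3.rec (fun _ => Pt) (ka xa19 ya9 za35) (ka xa21 ya0 za24) (ka xa20 ya23 za35) (ka xa19 ya9 za34) (ka xa21 ya0 za26) (ka xa20 ya23 za44) (ka xa21 ya0 za28) (ka xa20 ya16 za50) (ka xa19 ya9 za39) (ka xa21 ya0 za30) (ka xa19 ya9 za42) (ka xa21 ya0 za31) (ka xa20 ya21 za18) (ka xa19 ya9 za45) (ka xa19 ya9 za46) (ka xa21 ya0 za34) (ka xa21 ya0 za15) (ka xa19 ya9 za49) (ka xa19 ya9 za50) (ka xa19 ya10 za1) (ka xa21 ya0 za36)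 (ka xa20 ya16 za18) (ka xa21 ya0 za38) (ka xa20 ya11 za40) (ka xa19 ya10 za6) (ka xa19 ya10 za7) (ka xa21 ya0 za41) (ka xa20 ya8 za40) (ka xa20 ya8 za33) (ka xa20 ya8 za34) (ka xa21 ya0 za47) (ka xa20 ya8 za36) (ka xa20 ya8 za37) (ka xa21 ya0 za50) (ka xa20 ya11 za20) (ka xa19 ya10 za15) (ka xa21 ya1 za2) (ka xa20 ya22 za29) (ka xa19 ya10 za17) (ka xa21 ya1 za4) (ka xa20 ya8 za25) (ka xa19 ya10 za21) (ka xa21 ya1 za6) (ka xa19 ya10 za25) (ka xa19 ya10 za26) (ka xa19 ya10 za28) (ka xa21 ya1 za7) (ka xa20 ya25 za40) (ka xa19 ya10 za31) (ka xa21 ya1 za9) (ka xa20 ya23 za22)) (@D3.rec (fun _ => Pt) (ka xa19 ya10 za34) (ka xa21 ya1 za11) (ka xa20 ya17 za47) (ka xa19 ya10 za36) (ka xa21 ya1 za14) (ka xa20 ya9 za3) (ka xa19 ya10 za41) (ka xa21 ya1 za16) (ka xa20 ya12 za39) (ka xa19 ya10 za45) (ka xa21 ya1 za18)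 (ka xa19 ya10 za47) (ka xa19 ya10 za49) (ka xa19 ya11 za0) (ka xa21 ya1 za19) (ka xa19 ya11 za3) (ka xa21 ya1 za20) (ka xa20 ya9 za27) (ka xa21 ya1 za23) (ka xa20 ya9 za23) (ka xa20 ya9 za24) (ka xa19 ya11 za7) (ka xa21 ya1 za25) (ka xa19 ya11 za10) (ka xa21 ya1 za26) (ka xa19 ya11 za13) (ka xa21 ya1 za27) (ka xa19 ya11 za16) (ka xa19 ya11 za19) (ka xa19 ya11 za21) (ka xa21 ya1 za28) (ka xa19 ya19 za42) (ka xa19 ya11 za27) (ka xa21 ya1 za30) (ka xa19 ya11 za29) (ka xa21 ya1 za31) (ka xa19 ya11 za31) (ka xa19 ya11 za32) (ka xa21 ya1 za32) (ka xa19 ya20 za26) (ka xa19 ya20 za20) (ka xa19 ya21 za6) (ka xa19 ya11 za37) (ka xa19 ya11 za39) (ka xa19 ya11 za40) (ka xa21 ya1 za36) (ka xa21 ya1 za37) (ka xa19 ya11 za46) (ka xa21 ya1 za38) (ka xa19 ya11 za49) (ka xa21 ya1 za39)) (@D3.rec (fun _ => Pt) (ka xa19 ya20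 za19) (ka xa19 ya18 za31) (ka xa19 ya20 za17) (ka xa19 ya15 za0) (ka xa19 ya15 za1) (ka xa21 ya1 za45) (ka xa19 ya25 za40) (ka xa19 ya25 za41) (ka xa19 ya25 za5) (ka xa20 ya0 za6) (ka xa20 ya2 za4) (ka xa20 ya2 za5) (ka xa19 ya24 za6) (ka xa19 ya24 za7) (ka xa21 ya2 za7) (ka xa20 ya2 za7) (ka xa20 ya2 za8) (ka xa20 ya0 za8) (ka xa21 ya2 za11) (ka xa19 ya24 za16) (ka xa19 ya12 za15) (ka xa21 ya2 za14) (ka xa19 ya23 za45) (ka xa19 ya23 za46) (ka xa21 ya2 za18) (ka xa20 ya6 za40) (ka xa20 ya1 za50) (ka xa19 ya14 za37) (ka xa19 ya24 za30) (ka xa19 ya24 za31) (ka xa21 ya2 za25) (ka xa19 ya24 za48) (ka xa19 ya12 za24) (ka xa20 ya6 za28) (ka xa20 ya6 za29) (ka xa21 ya2 za31) (ka xa20 ya6 za31) (ka xa20 ya6 za32) (ka xa19 ya12 za28) (ka xa21 ya2 za35) (ka xa20 ya6 za27) (ka xa19 ya12 za31) (ka xa21 ya2 za37) (ka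 xa19 ya25 za0) (ka xa19 ya25 za4) (ka xa19 ya21 za8) (ka xa19 ya25 za9) (ka xa19 ya25 za10) (ka xa19 ya12 za39) (ka xa21 ya2 za43) (ka xa19 ya26 za37)) (@D3.rec (fun _ => Pt) (ka xa19 ya26 za38) (ka xa19 ya12 za42) (ka xa21 ya2 za48) (ka xa20 ya7 za5) (ka xa20 ya1 za47) (ka xa21 ya3 za0) (ka xa19 ya25 za50) (ka xa19 ya20 za39) (ka xa19 ya12 za48) (ka xa21 ya3 za4) (ka xa19 ya26 za49) (ka xa19 ya23 za10) (ka xa19 ya22 za3) (ka xa21 ya3 za8) (ka xa19 ya22 za2) (ka xa19 ya13 za3) (ka xa21 ya3 za10) (ka xa19 ya26 za18) (ka xa19 ya26 za19) (ka xa21 ya3 za14) (ka xa19 ya26 za21) (ka xa19 ya26 za22) (ka xa21 ya3 za18) (ka xa20 ya7 za19) (ka xa20 ya7 za20) (ka xa19 ya13 za10) (ka xa21 ya3 za22) (ka xa20 ya7 za17) (ka xa20 ya1 za33) (ka xa19 ya13 za13) (ka xa21 ya3 za25) (ka xa19 ya25 za11) (ka xa19 ya26 za41) (ka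 xa19 ya13 za17) (ka xa21 ya3 za29) (ka xa20 ya1 za36) (ka xa19 ya13 za21) (ka xa21 ya3 za31) (ka xa20 ya0 za1) (ka xa19 ya25 za7) (ka xa19 ya19 za3) (ka xa20 ya0 za10) (ka xa19 ya25 za12) (ka xa20 ya0 za19) (ka xa19 ya14 za38) (ka xa21 ya3 za35) (ka xa19 ya13 za36) (ka xa19 ya20 za16) (ka xa19 ya17 za19) (ka xa19 ya17 za20) (ka xa21 ya3 za39)) (@D3.rec (fun _ => Pt) (ka xa21 ya3 za40) (ka xa19 ya22 za8) (ka xa19 ya13 za42) (ka xa21 ya3 za42) (ka xa19 ya22 za11) (ka xa19 ya13 za45) (ka xa21 ya3 za45) (ka xa19 ya13 za47) (ka xa21 ya3 za46) (ka xa21 ya3 za47) (ka xa19 ya14 za48) (ka xa19 ya14 za1) (ka xa19 ya14 za2) (ka xa21 ya3 za50) (ka xa19 ya15 za23) (ka xa19 ya14 za5) (ka xa21 ya4 za2) (ka xa19 ya14 za7) (ka xa21 ya4 za3) (ka xa21 ya4 za4) (ka xa19 ya15 za43) (ka xa19 ya14 za12) (ka xa19 ya14 za15) (ka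 xa21 ya4 za7) (ka xa19 ya16 za35) (ka xa19 ya14 za18) (ka xa21 ya4 za9) (ka xa19 ya14 za21) (ka xa19 ya19 za1) (ka xa19 ya19 za2) (ka xa19 ya19 za4) (ka xa20 ya2 za14) (ka xa20 ya2 za15) (ka xa20 ya2 za47) (ka xa20 ya2 za48) (ka xa21 ya4 za19) (ka xa20 ya3 za1) (ka xa20 ya3 za2) (ka xa20 ya3 za44) (ka xa19 ya19 za31) (ka xa19 ya19 za32) (ka xa21 ya4 za26) (ka xa20 ya4 za34) (ka xa19 ya14 za32) (ka xa19 ya14 za35) (ka xa19 ya14 za36) (ka xa21 ya4 za31) (ka xa21 ya4 za30) (ka xa21 ya3 za21) (ka xa21 ya2 za21) (ka xa21 ya4 za36)) (@D3.rec (fun _ => Pt) (ka xa20 ya2 za27) (ka xa20 ya0 za18) (ka xa21 ya4 za40) (ka xa20 ya3 za28) (ka xa19 ya25 za13) (ka xa19 ya14 za43) (ka xa21 ya4 za44) (ka xa20 ya3 za34) (ka xa19 ya25 za44) (ka xa19 ya14 za47) (ka xa21 ya4 za47) (ka xa21 ya3 za49) (ka xa19 ya20 za27) (ka xa19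 ya20 za28) (ka xa21 ya5 za2) (ka xa21 ya1 za44) (ka xa19 ya15 za2) (ka xa21 ya5 za5) (ka xa19 ya25 za31) (ka xa21 ya5 za7) (ka xa20 ya6 za34) (ka xa19 ya15 za7) (ka xa21 ya5 za10) (ka xa20 ya1 za49) (ka xa21 ya5 za12) (ka xa19 ya20 za33) (ka xa19 ya20 za34) (ka xa19 ya15 za12) (ka xa21 ya5 za15) (ka xa20 ya2 za13) (ka xa21 ya5 za18) (ka xa19 ya26 za10) (ka xa19 ya15 za17) (ka xa21 ya5 za21) (ka xa21 ya5 za22) (ka xa21 ya5 za23) (ka xa20 ya2 za1) (ka xa19 ya15 za22) (ka xa21 ya5 za26) (ka xa21 ya4 za1) (ka xa20 ya6 za23) (ka xa19 ya15 za25) (ka xa19 ya15 za27) (ka xa21 ya5 za30) (ka xa21 ya5 za31) (ka xa20 ya5 za23) (ka xa19 ya15 za31) (ka xa21 ya5 za33) (ka xa19 ya15 za34) (ka xa21 ya5 za34) (ka xa20 ya2 za21)) (@D3.rec (fun _ => Pt) (ka xa20 ya2 za11) (ka xa19 ya25 za17) (ka xa19 ya20 za0) (ka xa19 ya20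 za1) (ka xa21 ya5 za39) (ka xa19 ya20 za30) (ka xa19 ya20 za31) (ka xa19 ya15 za42) (ka xa21 ya5 za43) (ka xa21 ya4 za6) (ka xa21 ya5 za46) (ka xa19 ya15 za48) (ka xa19 ya15 za47) (ka xa21 ya5 za48) (ka xa19 ya16 za17) (ka xa19 ya16 za0) (ka xa21 ya5 za50) (ka xa20 ya1 za32) (ka xa21 ya6 za1) (ka xa19 ya20 za5) (ka xa19 ya16 za5) (ka xa21 ya6 za3) (ka xa19 ya20 za38) (ka xa19 ya16 za9) (ka xa21 ya6 za5) (ka xa21 ya6 za7) (ka xa19 ya16 za12) (ka xa21 ya6 za8) (ka xa21 ya6 za9) (ka xa20 ya3 za38) (ka xa19 ya16 za16) (ka xa21 ya6 za11) (ka xa19 ya16 za18) (ka xa19 ya16 za20) (ka xa21 ya6 za12) (ka xa19 ya16 za22) (ka xa21 ya6 za13) (ka xa19 ya16 za25) (ka xa21 ya6 za14) (ka xa20 ya7 za8) (ka xa21 ya6 za16) (ka xa19 ya16 za29) (ka xa19 ya16 za32) (ka xa21 ya6 za17) (ka xa19 ya16 za34) (ka xa21 ya6 za18) (ka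 xa19 ya16 za37) (ka xa19 ya16 za39) (ka xa21 ya6 za19) (ka xa21 ya6 za20) (ka xa20 ya3 za18)) (@D3.rec (fun _ => Pt) (ka xa20 ya1 za17) (ka xa21 ya6 za22) (ka xa19 ya16 za45) (ka xa21 ya6 za23) (ka xa21 ya6 za24) (ka xa19 ya17 za22) (ka xa21 ya6 za26) (ka xa19 ya17 za27) (ka xa19 ya17 za0) (ka xa21 ya6 za28) (ka xa19 ya17 za2) (ka xa19 ya17 za3) (ka xa21 ya6 za29) (ka xa19 ya17 za5) (ka xa21 ya6 za30) (ka xa20 ya3 za50) (ka xa20 ya4 za0) (ka xa20 ya4 za7) (ka xa20 ya4 za8) (ka xa21 ya6 za37) (ka xa20 ya4 za13) (ka xa20 ya4 za14) (ka xa21 ya6 za40) (ka xa20 ya5 za18) (ka xa19 ya17 za15) (ka xa19 ya17 za16) (ka xa21 ya6 za43) (ka xa19 ya19 za48) (ka xa21 ya6 za45) (ka xa21 ya3 za38) (ka xa19 ya18 za50) (ka xa19 ya17 za21) (ka xa21 ya6 za49) (ka xa19 ya19 za24) (ka xa21 ya7 za0) (ka xa20 ya0 za36) (ka xa19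 ya17 za26) (ka xa21 ya7 za2) (ka xa19 ya19 za22) (ka xa19 ya17 za30) (ka xa19 ya17 za32) (ka xa21 ya7 za4) (ka xa19 ya17 za34) (ka xa21 ya7 za5) (ka xa19 ya17 za37) (ka xa21 ya7 za6) (ka xa19 ya17 za39) (ka xa21 ya7 za7) (ka xa19 ya17 za42) (ka xa21 ya7 za8) (ka xa19 ya17 za44)) (@D3.rec (fun _ => Pt) (ka xa19 ya17 za45) (ka xa19 ya18 za49) (ka xa21 ya7 za10) (ka xa21 ya7 za11) (ka xa19 ya21 za39) (ka xa19 ya17 za50) (ka xa21 ya7 za13) (ka xa21 ya7 za14) (ka xa19 ya19 za6) (ka xa19 ya19 za7) (ka xa19 ya19 za8) (ka xa19 ya19 za9) (ka xa21 ya7 za21) (ka xa19 ya19 za11) (ka xa19 ya19 za12) (ka xa19 ya19 za13) (ka xa21 ya7 za25) (ka xa19 ya19 za15) (ka xa19 ya18 za10) (ka xa21 ya7 za28) (ka xa19 ya18 za12) (ka xa21 ya7 za29) (ka xa19 ya20 za7) (ka xa21 ya7 za31) (ka xa19 ya19 za34) (ka xa19 ya19 za35) (ka xa21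 ya7 za35) (ka xa19 ya18 za18) (ka xa21 ya7 za36) (ka xa19 ya19 za40) (ka xa19 ya18 za21) (ka xa21 ya7 za38) (ka xa19 ya19 za45) (ka xa19 ya19 za46) (ka xa19 ya18 za25) (ka xa19 ya18 za26) (ka xa21 ya7 za42) (ka xa19 ya18 za28) (ka xa19 ya18 za30) (ka xa21 ya7 za43) (ka xa19 ya20 za48) (ka xa20 ya4 za23) (ka xa19 ya18 za34) (ka xa21 ya7 za46) (ka xa19 ya20 za44) (ka xa19 ya20 za45) (ka xa19 ya18 za38) (ka xa21 ya7 za50) (ka xa19 ya18 za41) (ka xa21 ya8 za0) (ka xa19 ya21 za3)) (@D3.rec (fun _ => Pt) (ka xa19 ya21 za4) (ka xa19 ya21 za5) (ka xa19 ya25 za16) (ka xa19 ya25 za33) (ka xa19 ya25 za34) (ka xa21 ya8 za7) (ka xa21 ya8 za8) (ka xa21 ya6 za48) (ka xa19 ya19 za0) (ka xa21 ya8 za11) (ka xa21 ya4 za11) (ka xa21 ya4 za12) (ka xa21 ya2 za47) (ka xa21 ya2 za0) (ka xa21 ya1 za50) (ka xa20 ya2 za10) (ka xa21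 ya8 za19) (ka xa21 ya7 za16) (ka xa21 ya7 za17) (ka xa21 ya8 za24) (ka xa21 ya7 za19) (ka xa21 ya7 za20) (ka xa19 ya19 za10) (ka xa21 ya8 za29) (ka xa21 ya7 za23) (ka xa21 ya7 za24) (ka xa20 ya0 za25) (ka xa19 ya19 za14) (ka xa21 ya8 za33) (ka xa21 ya7 za27) (ka xa19 ya19 za17) (ka xa19 ya24 za21) (ka xa19 ya24 za22) (ka xa21 ya8 za38) (ka xa19 ya25 za25) (ka xa19 ya19 za21) (ka xa21 ya8 za41) (ka xa19 ya19 za23) (ka xa21 ya8 za42) (ka xa21 ya8 za43) (ka xa20 ya4 za10) (ka xa20 ya4 za11) (ka xa19 ya19 za28) (ka xa21 ya8 za47) (ka xa20 ya4 za20) (ka xa21 ya8 za49) (ka xa21 ya4 za24) (ka xa21 ya4 za25) (ka xa19 ya19 za33) (ka xa21 ya9 za2) (ka xa21 ya7 za33)) (@D3.rec (fun _ => Pt) (ka xa21 ya7 za34) (ka xa19 ya19 za36) (ka xa21 ya9 za6) (ka xa19 ya19 za39) (ka xa21 ya9 za7) (ka xa19 ya19 za41) (ka xa21 ya9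 za8) (ka xa19 ya19 za44) (ka xa21 ya9 za9) (ka xa21 ya7 za40) (ka xa21 ya7 za41) (ka xa19 ya19 za47) (ka xa21 ya9 za12) (ka xa19 ya23 za35) (ka xa19 ya23 za36) (ka xa21 ya9 za15) (ka xa21 ya5 za38) (ka xa21 ya9 za18) (ka xa20 ya6 za21) (ka xa19 ya20 za4) (ka xa21 ya9 za20) (ka xa19 ya20 za6) (ka xa21 ya9 za21) (ka xa19 ya20 za9) (ka xa19 ya20 za11) (ka xa21 ya9 za22) (ka xa19 ya20 za13) (ka xa21 ya9 za23) (ka xa20 ya4 za2) (ka xa20 ya4 za3) (ka xa21 ya9 za27) (ka xa21 ya1 za42) (ka xa21 ya1 za35) (ka xa19 ya20 za18) (ka xa21 ya9 za30) (ka xa21 ya1 za34) (ka xa19 ya20 za21) (ka xa21 ya9 za32) (ka xa20 ya4 za6) (ka xa19 ya20 za25) (ka xa21 ya9 za34) (ka xa21 ya9 za35) (ka xa21 ya5 za0) (ka xa21 ya5 za1) (ka xa19 ya20 za29) (ka xa21 ya9 za39) (ka xa21 ya5 za41) (ka xa21 ya5 za42) (ka xa19 ya20 za32) (ka xa21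 ya9 za44) (ka xa20 ya6 za7)) (@D3.rec (fun _ => Pt) (ka xa21 ya5 za14) (ka xa21 ya2 za24) (ka xa19 ya20 za36) (ka xa21 ya9 za49) (ka xa21 ya9 za50) (ka xa19 ya26 za6) (ka xa21 ya3 za3) (ka xa19 ya20 za40) (ka xa21 ya10 za4) (ka xa19 ya20 za43) (ka xa21 ya10 za5) (ka xa21 ya10 za6) (ka xa21 ya7 za49) (ka xa19 ya20 za47) (ka xa21 ya10 za9) (ka xa19 ya20 za49) (ka xa19 ya21 za0) (ka xa19 ya21 za2) (ka xa21 ya10 za10) (ka xa21 ya8 za2) (ka xa21 ya8 za3) (ka xa20 ya0 za13) (ka xa20 ya0 za17) (ka xa20 ya0 za9) (ka xa19 ya21 za12) (ka xa19 ya21 za13) (ka xa21 ya10 za13) (ka xa19 ya21 za16) (ka xa19 ya21 za19) (ka xa21 ya10 za14) (ka xa20 ya5 za26) (ka xa19 ya21 za22) (ka xa19 ya21 za23) (ka xa21 ya10 za17) (ka xa20 ya4 za17) (ka xa19 ya21 za26) (ka xa21 ya10 za19) (ka xa20 ya5 za38) (ka xa21 ya10 za21) (ka xa20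 ya5 za15) (ka xa19 ya21 za31) (ka xa19 ya21 za32) (ka xa21 ya10 za24) (ka xa19 ya21 za36) (ka xa19 ya21 za37) (ka xa19 ya21 za38) (ka xa21 ya10 za25) (ka xa20 ya7 za2) (ka xa19 ya21 za43) (ka xa19 ya21 za47) (ka xa21 ya10 za27)) (@D3.rec (fun _ => Pt) (ka xa19 ya21 za50) (ka xa19 ya22 za1) (ka xa21 ya10 za28) (ka xa21 ya3 za7) (ka xa19 ya22 za4) (ka xa19 ya22 za6) (ka xa19 ya22 za7) (ka xa21 ya10 za30) (ka xa19 ya22 za10) (ka xa21 ya10 za31) (ka xa21 ya3 za44) (ka xa19 ya22 za13) (ka xa21 ya10 za33) (ka xa19 ya23 za38) (ka xa19 ya22 za16) (ka xa21 ya10 za36) (ka xa19 ya24 za9) (ka xa19 ya24 za10) (ka xa19 ya22 za19) (ka xa21 ya10 za41) (ka xa19 ya24 za13) (ka xa19 ya24 za14) (ka xa19 ya22 za23) (ka xa21 ya10 za44) (ka xa19 ya24 za19) (ka xa21 ya10 za47) (ka xa19 ya24 za24) (ka xa19 ya22 za28) (ka xa21 ya10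 za50) (ka xa19 ya24 za33) (ka xa19 ya24 za34) (ka xa19 ya22 za31) (ka xa21 ya11 za3) (ka xa19 ya24 za37) (ka xa19 ya22 za35) (ka xa21 ya11 za6) (ka xa19 ya25 za3) (ka xa19 ya25 za6) (ka xa19 ya25 za8) (ka xa21 ya11 za9) (ka xa19 ya25 za19) (ka xa19 ya22 za43) (ka xa19 ya22 za44) (ka xa21 ya11 za12) (ka xa19 ya25 za28) (ka xa21 ya11 za14) (ka xa19 ya25 za37) (ka xa19 ya22 za49) (ka xa21 ya11 za17) (ka xa19 ya25 za43) (ka xa19 ya23 za1)) (@D3.rec (fun _ => Pt) (ka xa21 ya11 za20) (ka xa19 ya25 za47) (ka xa19 ya23 za4) (ka xa21 ya11 za22) (ka xa19 ya26 za2) (ka xa19 ya26 za3) (ka xa19 ya23 za8) (ka xa21 ya11 za25) (ka xa21 ya11 za26) (ka xa19 ya23 za11) (ka xa21 ya11 za27) (ka xa19 ya26 za24) (ka xa19 ya23 za15) (ka xa21 ya11 za30) (ka xa19 ya26 za27) (ka xa19 ya23 za17) (ka xa19 ya23 za20) (ka xa21 ya11 za33)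 (ka xa19 ya26 za45) (ka xa19 ya23 za23) (ka xa21 ya11 za35) (ka xa20 ya0 za5) (ka xa20 ya0 za7) (ka xa19 ya23 za30) (ka xa21 ya11 za37) (ka xa21 ya11 za38) (ka xa20 ya3 za16) (ka xa19 ya23 za34) (ka xa21 ya11 za41) (ka xa21 ya9 za14) (ka xa19 ya23 za37) (ka xa21 ya11 za44) (ka xa21 ya10 za35) (ka xa21 ya11 za47) (ka xa19 ya23 za48) (ka xa19 ya23 za49) (ka xa19 ya23 za50) (ka xa19 ya24 za0) (ka xa19 ya24 za1) (ka xa21 ya12 za2) (ka xa21 ya12 za3) (ka xa21 ya2 za16) (ka xa21 ya2 za17) (ka xa19 ya23 za47) (ka xa21 ya12 za7) (ka xa21 ya11 za49) (ka xa21 ya11 za50) (ka xa21 ya12 za0) (ka xa21 ya12 za1) (ka xa21 ya12 za13) (ka xa20 ya2 za44)) (@D3.rec (fun _ => Pt) (ka xa21 ya12 za15) (ka xa19 ya24 za5) (ka xa21 ya12 za16) (ka xa21 ya2 za5) (ka xa21 ya2 za6) (ka xa19 ya24 za8) (ka xa21 ya12 za21) (ka xa21 ya10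 za38) (ka xa21 ya10 za39) (ka xa21 ya10 za40) (ka xa19 ya24 za12) (ka xa21 ya12 za27) (ka xa21 ya10 za43) (ka xa19 ya24 za15) (ka xa21 ya12 za29) (ka xa21 ya2 za13) (ka xa19 ya24 za18) (ka xa21 ya12 za32) (ka xa21 ya10 za46) (ka xa19 ya24 za20) (ka xa21 ya12 za36) (ka xa21 ya8 za37) (ka xa19 ya24 za23) (ka xa21 ya12 za39) (ka xa21 ya10 za49) (ka xa19 ya24 za26) (ka xa21 ya12 za42) (ka xa19 ya24 za28) (ka xa21 ya12 za43) (ka xa21 ya2 za23) (ka xa19 ya24 za32) (ka xa21 ya12 za46) (ka xa21 ya11 za1) (ka xa21 ya11 za2) (ka xa19 ya24 za36) (ka xa21 ya12 za50) (ka xa21 ya11 za5) (ka xa19 ya24 za38) (ka xa21 ya13 za3) (ka xa19 ya24 za41) (ka xa19 ya24 za42) (ka xa19 ya24 za44) (ka xa19 ya24 za46) (ka xa19 ya24 za47) (ka xa21 ya13 za4) (ka xa21 ya2 za27) (ka xa19 ya24 za50) (ka xa21 ya13 za7) (ka xa21 ya2 za39)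 (ka xa19 ya25 za2) (ka xa21 ya13 za10)) (@D3.rec (fun _ => Pt) (ka xa21 ya13 za11) (ka xa21 ya4 za43) (ka xa21 ya2 za40) (ka xa21 ya1 za49) (ka xa21 ya11 za8) (ka xa21 ya2 za45) (ka xa21 ya4 za18) (ka xa21 ya2 za41) (ka xa21 ya2 za42) (ka xa21 ya3 za28) (ka xa21 ya3 za34) (ka xa19 ya25 za14) (ka xa19 ya25 za15) (ka xa21 ya13 za18) (ka xa21 ya5 za36) (ka xa19 ya25 za18) (ka xa21 ya13 za21) (ka xa21 ya11 za11) (ka xa20 ya6 za12) (ka xa19 ya25 za22) (ka xa21 ya13 za24) (ka xa19 ya25 za24) (ka xa21 ya13 za25) (ka xa21 ya8 za40) (ka xa19 ya25 za27) (ka xa21 ya13 za27) (ka xa20 ya5 za21) (ka xa19 ya25 za29) (ka xa19 ya25 za30) (ka xa21 ya13 za30) (ka xa21 ya13 za31) (ka xa21 ya8 za6) (ka xa21 ya13 za34) (ka xa19 ya25 za36) (ka xa21 ya13 za35) (ka xa21 ya11 za16) (ka xa19 ya25 za38) (ka xa21 ya13 za38) (ka xa21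 ya1 za47) (ka xa21 ya1 za48) (ka xa19 ya25 za42) (ka xa21 ya13 za41) (ka xa21 ya11 za19) (ka xa21 ya4 za46) (ka xa19 ya25 za46) (ka xa21 ya13 za46) (ka xa21 ya10 za2) (ka xa19 ya25 za49) (ka xa21 ya13 za49) (ka xa21 ya3 za2) (ka xa19 ya26 za1)) (@D3.rec (fun _ => Pt) (ka xa21 ya14 za0) (ka xa21 ya14 za1) (ka xa21 ya10 za3) (ka xa19 ya26 za5) (ka xa21 ya14 za5) (ka xa21 ya14 za6) (ka xa21 ya9 za47) (ka xa21 ya14 za9) (ka xa19 ya26 za9) (ka xa21 ya14 za10) (ka xa21 ya5 za20) (ka xa19 ya26 za12) (ka xa19 ya26 za14) (ka xa21 ya14 za12) (ka xa20 ya2 za35) (ka xa20 ya2 za36) (ka xa21 ya14 za16) (ka xa21 ya3 za12) (ka xa21 ya3 za13) (ka xa19 ya26 za20) (ka xa21 ya14 za20) (ka xa21 ya3 za16) (ka xa21 ya3 za17) (ka xa19 ya26 za23) (ka xa21 ya14 za24) (ka xa21 ya11 za29) (ka xa19 ya26 za26) (ka xa21 ya14 za27) (ka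 xa21 ya14 za28) (ka xa20 ya6 za37) (ka xa21 ya11 za32) (ka xa19 ya26 za30) (ka xa21 ya14 za34) (ka xa19 ya26 za33) (ka xa19 ya26 za34) (ka xa21 ya14 za35) (ka xa20 ya2 za17) (ka xa19 ya26 za36) (ka xa21 ya14 za37) (ka xa21 ya2 za46) (ka xa19 ya26 za40) (ka xa21 ya14 za39) (ka xa19 ya26 za43) (ka xa19 ya26 za44) (ka xa21 ya14 za40) (ka xa21 ya4 za39) (ka xa19 ya26 za48) (ka xa21 ya14 za42) (ka xa20 ya0 za0) (ka xa21 ya14 za43) (ka xa21 ya3 za33)) (@D3.rec (fun _ => Pt) (ka xa20 ya0 za3) (ka xa20 ya0 za4) (ka xa21 ya14 za46) (ka xa21 ya14 za47) (ka xa21 ya2 za10) (ka xa21 ya10 za12) (ka xa21 ya4 za15) (ka xa20 ya0 za12) (ka xa21 ya15 za0) (ka xa21 ya8 za32) (ka xa20 ya0 za15) (ka xa20 ya0 za16) (ka xa21 ya15 za2) (ka xa21 ya14 za45) (ka xa20 ya0 za22) (ka xa21 ya15 za4) (ka xa20 ya0 za28) (ka xa21 ya8 za17)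 (ka xa20 ya0 za35) (ka xa21 ya15 za6) (ka xa20 ya0 za38) (ka xa21 ya15 za7) (ka xa20 ya6 za50) (ka xa20 ya0 za41) (ka xa21 ya15 za9) (ka xa20 ya0 za44) (ka xa20 ya0 za46) (ka xa21 ya15 za10) (ka xa20 ya0 za50) (ka xa20 ya1 za1) (ka xa20 ya1 za4) (ka xa21 ya15 za11) (ka xa20 ya2 za30) (ka xa20 ya1 za7) (ka xa21 ya15 za13) (ka xa20 ya6 za2) (ka xa20 ya1 za10) (ka xa21 ya15 za15) (ka xa20 ya2 za39) (ka xa20 ya1 za13) (ka xa21 ya15 za17) (ka xa20 ya2 za42) (ka xa20 ya1 za16) (ka xa21 ya15 za20) (ka xa20 ya6 za5) (ka xa21 ya15 za22) (ka xa20 ya2 za50) (ka xa20 ya1 za21) (ka xa21 ya15 za25) (ka xa20 ya3 za5) (ka xa20 ya3 za6)) (@D3.rec (fun _ => Pt) (ka xa20 ya1 za24) (ka xa21 ya15 za28) (ka xa20 ya1 za27) (ka xa21 ya15 za29) (ka xa20 ya3 za11) (ka xa20 ya1 za31) (ka xa21 ya15 za31) (ka xa21 ya2 za50) (ka xa21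 ya3 za24) (ka xa20 ya1 za35) (ka xa21 ya15 za34) (ka xa20 ya1 za37) (ka xa21 ya15 za35) (ka xa20 ya3 za31) (ka xa20 ya1 za40) (ka xa21 ya15 za37) (ka xa20 ya1 za43) (ka xa20 ya1 za45) (ka xa20 ya1 za48) (ka xa21 ya15 za38) (ka xa21 ya2 za20) (ka xa20 ya2 za0) (ka xa21 ya15 za40) (ka xa21 ya5 za25) (ka xa20 ya2 za3) (ka xa21 ya15 za42) (ka xa21 ya2 za2) (ka xa21 ya2 za3) (ka xa20 ya2 za6) (ka xa21 ya15 za46) (ka xa21 ya2 za9) (ka xa21 ya15 za48) (ka xa21 ya5 za17) (ka xa20 ya2 za12) (ka xa21 ya16 za0) (ka xa21 ya16 za1) (ka xa21 ya4 za14) (ka xa20 ya2 za16) (ka xa21 ya16 za4) (ka xa21 ya14 za32) (ka xa20 ya2 za19) (ka xa20 ya2 za20) (ka xa21 ya16 za6) (ka xa21 ya4 za49) (ka xa20 ya2 za22) (ka xa20 ya2 za24) (ka xa20 ya2 za25) (ka xa20 ya2 za26) (ka xa21 ya16 za8) (ka xa21 ya4 za38) (ka xa20 ya2 za29)) (@D3.rec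 (fun _ => Pt) (ka xa21 ya16 za10) (ka xa20 ya2 za34) (ka xa21 ya16 za12) (ka xa21 ya14 za14) (ka xa21 ya14 za15) (ka xa20 ya2 za38) (ka xa21 ya16 za15) (ka xa20 ya2 za41) (ka xa21 ya16 za16) (ka xa21 ya15 za19) (ka xa20 ya2 za43) (ka xa21 ya16 za20) (ka xa20 ya2 za46) (ka xa21 ya16 za21) (ka xa21 ya4 za17) (ka xa20 ya2 za49) (ka xa21 ya16 za24) (ka xa21 ya15 za24) (ka xa20 ya3 za0) (ka xa21 ya16 za26) (ka xa21 ya4 za21) (ka xa21 ya4 za22) (ka xa20 ya3 za4) (ka xa21 ya16 za29) (ka xa21 ya15 za27) (ka xa20 ya3 za8) (ka xa20 ya3 za10) (ka xa21 ya16 za31) (ka xa20 ya3 za12) (ka xa21 ya16 za32) (ka xa20 ya3 za15) (ka xa21 ya16 za33) (ka xa21 ya11 za40) (ka xa20 ya3 za17) (ka xa21 ya16 za35) (ka xa20 ya3 za20) (ka xa20 ya3 za21) (ka xa20 ya3 za23) (ka xa20 ya3 za25) (ka xa21 ya16 za36) (ka xa20 ya6 za47) (ka xa20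 ya3 za27) (ka xa21 ya16 za38) (ka xa21 ya4 za42) (ka xa20 ya3 za30) (ka xa21 ya16 za40) (ka xa20 ya3 za33) (ka xa21 ya16 za42) (ka xa20 ya3 za36) (ka xa20 ya3 za37) (ka xa21 ya16 za43)) (@D3.rec (fun _ => Pt) (ka xa20 ya3 za40) (ka xa20 ya3 za48) (ka xa21 ya16 za44) (ka xa21 ya16 za45) (ka xa21 ya6 za32) (ka xa21 ya6 za33) (ka xa20 ya4 za1) (ka xa21 ya16 za49) (ka xa21 ya9 za25) (ka xa21 ya9 za26) (ka xa20 ya4 za5) (ka xa21 ya17 za1) (ka xa21 ya17 za2) (ka xa21 ya6 za35) (ka xa21 ya6 za36) (ka xa20 ya4 za9) (ka xa21 ya17 za6) (ka xa21 ya8 za45) (ka xa21 ya8 za46) (ka xa20 ya4 za12) (ka xa21 ya17 za9) (ka xa21 ya6 za39) (ka xa20 ya4 za16) (ka xa21 ya17 za11) (ka xa20 ya4 za19) (ka xa21 ya17 za12) (ka xa20 ya4 za22) (ka xa21 ya17 za13) (ka xa20 ya4 za24) (ka xa21 ya17 za14) (ka xa20 ya4 za37) (ka xa20 ya4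 za27) (ka xa20 ya4 za30) (ka xa20 ya4 za32) (ka xa20 ya4 za33) (ka xa21 ya17 za16) (ka xa21 ya4 za28) (ka xa20 ya4 za36) (ka xa21 ya17 za18) (ka xa20 ya4 za39) (ka xa20 ya4 za41) (ka xa20 ya4 za43) (ka xa20 ya4 za45) (ka xa20 ya4 za48) (ka xa20 ya4 za50) (ka xa20 ya5 za2) (ka xa20 ya5 za4) (ka xa20 ya5 za9) (ka xa20 ya5 za10) (ka xa21 ya17 za20) (ka xa20 ya5 za14))
def f_a_21 : D2 → D3 → Pt := @D2.rec (fun _ => D3 → Pt) (@D3.rec (fun _ => Pt) (ka xa21 ya17 za21) (ka xa21 ya10 za23) (ka xa20 ya5 za17) (ka xa21 ya17 za23) (ka xa21 ya6 za42) (ka xa20 ya5 za20) (ka xa21 ya17 za25) (ka xa20 ya5 za22) (ka xa21 ya17 za27) (ka xa20 ya5 za25) (ka xa21 ya17 za28) (ka xa21 ya10 za16) (ka xa20 ya5 za29) (ka xa20 ya5 za31) (ka xa21 ya17 za30) (ka xa20 ya6 za16) (ka xa20 ya5 za35) (ka xa20 ya5 za37) (ka xa21 ya17 za32)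 (ka xa20 ya5 za41) (ka xa20 ya5 za44) (ka xa21 ya17 za34) (ka xa20 ya5 za50) (ka xa21 ya17 za36) (ka xa20 ya6 za1) (ka xa21 ya17 za37) (ka xa20 ya6 za4) (ka xa21 ya17 za38) (ka xa20 ya6 za6) (ka xa21 ya17 za39) (ka xa20 ya6 za9) (ka xa20 ya6 za11) (ka xa21 ya17 za40) (ka xa21 ya12 za41) (ka xa20 ya6 za15) (ka xa21 ya17 za42) (ka xa20 ya6 za20) (ka xa21 ya17 za44) (ka xa20 ya6 za22) (ka xa21 ya17 za45) (ka xa21 ya5 za29) (ka xa20 ya6 za26) (ka xa21 ya17 za48) (ka xa21 ya2 za34) (ka xa21 ya18 za0) (ka xa21 ya2 za29) (ka xa21 ya2 za30) (ka xa20 ya6 za30) (ka xa21 ya18 za3) (ka xa21 ya2 za33) (ka xa20 ya6 za33)) (@D3.rec (fun _ => Pt) (ka xa21 ya18 za5) (ka xa21 ya5 za9) (ka xa20 ya6 za36) (ka xa21 ya18 za7) (ka xa20 ya6 za39) (ka xa21 ya18 za9) (ka xa20 ya6 za42) (ka xa20 ya6 za46) (ka xa21 ya18 za10) (ka xa20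 ya6 za49) (ka xa21 ya18 za12) (ka xa20 ya7 za1) (ka xa21 ya18 za14) (ka xa21 ya18 za15) (ka xa20 ya7 za4) (ka xa21 ya18 za17) (ka xa20 ya7 za7) (ka xa21 ya18 za18) (ka xa20 ya7 za10) (ka xa20 ya7 za14) (ka xa20 ya7 za16) (ka xa21 ya18 za19) (ka xa21 ya3 za20) (ka xa20 ya7 za18) (ka xa21 ya18 za21) (ka xa20 ya7 za22) (ka xa20 ya7 za24) (ka xa20 ya7 za26) (ka xa20 ya7 za30) (ka xa21 ya18 za22) (ka xa20 ya7 za33) (ka xa20 ya7 za35) (ka xa20 ya7 za38) (ka xa21 ya18 za23) (ka xa20 ya16 za35) (ka xa20 ya16 za32) (ka xa20 ya7 za45) (ka xa20 ya7 za46) (ka xa20 ya7 za48) (ka xa20 ya7 za50) (ka xa21 ya18 za26) (ka xa21 ya18 za27) (ka xa20 ya16 za31) (ka xa21 ya18 za29) (ka xa20 ya11 za15) (ka xa20 ya8 za5) (ka xa21 ya18 za32) (ka xa20 ya21 za38) (ka xa20 ya21 za39) (ka xa20 ya21 za3) (ka xa20 ya15 za14)) (@D3.rec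 (fun _ => Pt) (ka xa20 ya15 za13) (ka xa21 ya18 za38) (ka xa20 ya24 za26) (ka xa20 ya24 za27) (ka xa21 ya18 za43) (ka xa20 ya20 za3) (ka xa20 ya20 za4) (ka xa20 ya8 za14) (ka xa21 ya18 za48) (ka xa20 ya24 za30) (ka xa20 ya23 za4) (ka xa20 ya8 za18) (ka xa21 ya19 za0) (ka xa20 ya20 za15) (ka xa20 ya8 za21) (ka xa21 ya19 za3) (ka xa20 ya19 za41) (ka xa20 ya19 za42) (ka xa20 ya8 za24) (ka xa21 ya19 za8) (ka xa20 ya24 za20) (ka xa20 ya10 za49) (ka xa21 ya19 za11) (ka xa20 ya20 za29) (ka xa20 ya17 za1) (ka xa20 ya8 za30) (ka xa21 ya19 za15) (ka xa20 ya20 za45) (ka xa21 ya19 za18) (ka xa21 ya0 za45) (ka xa21 ya0 za46) (ka xa20 ya8 za35) (ka xa21 ya19 za22) (ka xa21 ya0 za49) (ka xa21 ya0 za43) (ka xa20 ya8 za39) (ka xa21 ya19 za26) (ka xa20 ya8 za42) (ka xa21 ya19 za27) (ka xa20 ya20 za48) (ka xa20 ya21 za2) (ka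 xa20 ya21 za7) (ka xa20 ya21 za8) (ka xa20 ya8 za49) (ka xa21 ya19 za31) (ka xa20 ya21 za5) (ka xa20 ya22 za39) (ka xa20 ya15 za12) (ka xa20 ya9 za2) (ka xa21 ya19 za35) (ka xa20 ya24 za7)) (@D3.rec (fun _ => Pt) (ka xa20 ya9 za5) (ka xa21 ya19 za37) (ka xa20 ya21 za49) (ka xa20 ya17 za6) (ka xa20 ya9 za9) (ka xa21 ya19 za40) (ka xa21 ya19 za41) (ka xa20 ya18 za3) (ka xa20 ya9 za13) (ka xa21 ya19 za43) (ka xa20 ya9 za16) (ka xa21 ya19 za44) (ka xa20 ya22 za17) (ka xa20 ya22 za18) (ka xa20 ya9 za19) (ka xa21 ya19 za48) (ka xa20 ya22 za21) (ka xa20 ya22 za22) (ka xa20 ya9 za22) (ka xa21 ya20 za2) (ka xa21 ya1 za22) (ka xa20 ya10 za48) (ka xa20 ya9 za26) (ka xa21 ya20 za5) (ka xa20 ya24 za8) (ka xa20 ya9 za30) (ka xa21 ya20 za7) (ka xa21 ya20 za8) (ka xa20 ya21 za9) (ka xa20 ya9 za34) (ka xa21 ya20 za11) (ka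 xa20 ya9 za37) (ka xa21 ya20 za12) (ka xa20 ya22 za50) (ka xa20 ya21 za10) (ka xa20 ya9 za45) (ka xa21 ya20 za14) (ka xa21 ya20 za15) (ka xa20 ya13 za29) (ka xa20 ya9 za50) (ka xa20 ya10 za0) (ka xa21 ya20 za18) (ka xa20 ya10 za3) (ka xa21 ya20 za19) (ka xa20 ya18 za10) (ka xa20 ya10 za6) (ka xa20 ya10 za8) (ka xa20 ya10 za9) (ka xa21 ya20 za21) (ka xa20 ya11 za11) (ka xa20 ya10 za13)) (@D3.rec (fun _ => Pt) (ka xa21 ya20 za23) (ka xa20 ya11 za39) (ka xa20 ya10 za16) (ka xa20 ya10 za18) (ka xa20 ya10 za19) (ka xa21 ya20 za25) (ka xa20 ya12 za9) (ka xa20 ya10 za23) (ka xa21 ya20 za28) (ka xa20 ya10 za26) (ka xa21 ya20 za29) (ka xa20 ya15 za10) (ka xa20 ya15 za11) (ka xa21 ya20 za32) (ka xa20 ya24 za36) (ka xa20 ya23 za6) (ka xa21 ya20 za37) (ka xa20 ya25 za14) (ka xa20 ya21 za6) (ka xa20 ya10 za35) (ka xa21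 ya20 za42) (ka xa20 ya25 za20) (ka xa20 ya25 za21) (ka xa21 ya20 za45) (ka xa20 ya15 za46) (ka xa20 ya15 za47) (ka xa20 ya10 za41) (ka xa21 ya20 za49) (ka xa20 ya26 za36) (ka xa21 ya21 za1) (ka xa20 ya10 za47) (ka xa20 ya10 za46) (ka xa21 ya21 za3) (ka xa21 ya19 za10) (ka xa21 ya20 za4) (ka xa21 ya19 za7) (ka xa20 ya10 za50) (ka xa21 ya21 za7) (ka xa20 ya24 za49) (ka xa20 ya22 za45) (ka xa20 ya11 za2) (ka xa21 ya21 za11) (ka xa20 ya25 za43) (ka xa20 ya21 za1) (ka xa20 ya11 za6) (ka xa21 ya21 za16) (ka xa20 ya21 za43) (ka xa20 ya11 za10) (ka xa21 ya21 za18) (ka xa20 ya24 za43) (ka xa21 ya21 za22)) (@D3.rec (fun _ => Pt) (ka xa20 ya16 za42) (ka xa20 ya16 za43) (ka xa20 ya11 za14) (ka xa21 ya21 za26) (ka xa21 ya18 za31) (ka xa20 ya11 za17) (ka xa21 ya21 za29) (ka xa20 ya11 za19) (ka xa21 ya21 za30) (ka xa21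 ya1 za1) (ka xa20 ya11 za22) (ka xa21 ya21 za32) (ka xa20 ya11 za24) (ka xa21 ya21 za33) (ka xa20 ya17 za0) (ka xa20 ya11 za28) (ka xa21 ya21 za35) (ka xa20 ya24 za32) (ka xa20 ya11 za30) (ka xa21 ya21 za37) (ka xa20 ya22 za10) (ka xa20 ya11 za33) (ka xa20 ya11 za34) (ka xa20 ya11 za35) (ka xa21 ya21 za39) (ka xa20 ya24 za23) (ka xa20 ya11 za38) (ka xa21 ya21 za41) (ka xa21 ya21 za42) (ka xa21 ya0 za40) (ka xa20 ya11 za43) (ka xa20 ya11 za44) (ka xa21 ya21 za46) (ka xa20 ya11 za47) (ka xa20 ya11 za49) (ka xa21 ya21 za47) (ka xa20 ya21 za14) (ka xa21 ya21 za49) (ka xa20 ya16 za16) (ka xa20 ya12 za4) (ka xa21 ya22 za1) (ka xa20 ya16 za46) (ka xa20 ya16 za47) (ka xa20 ya12 za8) (ka xa21 ya22 za6) (ka xa21 ya20 za27) (ka xa20 ya12 za10) (ka xa21 ya22 za10) (ka xa20 ya12 za13) (ka xa21 ya22 za11) (ka xa20 ya12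 za16)) (@D3.rec (fun _ => Pt) (ka xa21 ya22 za12) (ka xa20 ya12 za18) (ka xa21 ya22 za13) (ka xa20 ya12 za21) (ka xa21 ya22 za14) (ka xa20 ya12 za24) (ka xa21 ya22 za15) (ka xa20 ya12 za25) (ka xa20 ya12 za27) (ka xa20 ya12 za28) (ka xa21 ya22 za16) (ka xa20 ya12 za31) (ka xa20 ya12 za34) (ka xa20 ya12 za36) (ka xa20 ya12 za38) (ka xa21 ya22 za17) (ka xa20 ya12 za40) (ka xa20 ya12 za43) (ka xa20 ya12 za45) (ka xa20 ya12 za48) (ka xa20 ya12 za49) (ka xa21 ya22 za18) (ka xa20 ya13 za1) (ka xa20 ya13 za3) (ka xa20 ya13 za4) (ka xa21 ya22 za19) (ka xa20 ya13 za6) (ka xa21 ya22 za20) (ka xa20 ya13 za9) (ka xa20 ya13 za12) (ka xa20 ya13 za14) (ka xa21 ya22 za21) (ka xa20 ya26 za4) (ka xa20 ya26 za5) (ka xa21 ya22 za25) (ka xa20 ya26 za13) (ka xa20 ya26 za14) (ka xa20 ya13 za19) (ka xa21 ya22 za29) (ka xa20 ya26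 za21) (ka xa20 ya13 za22) (ka xa21 ya22 za31) (ka xa21 ya0 za4) (ka xa20 ya13 za26) (ka xa21 ya22 za33) (ka xa20 ya13 za28) (ka xa21 ya22 za34) (ka xa21 ya20 za17) (ka xa20 ya15 za7) (ka xa20 ya13 za32) (ka xa21 ya22 za38)) (@D3.rec (fun _ => Pt) (ka xa20 ya13 za34) (ka xa21 ya22 za39) (ka xa20 ya13 za37) (ka xa21 ya22 za40) (ka xa20 ya13 za41) (ka xa20 ya13 za43) (ka xa20 ya13 za45) (ka xa20 ya13 za47) (ka xa20 ya13 za49) (ka xa21 ya22 za41) (ka xa20 ya14 za2) (ka xa20 ya14 za3) (ka xa21 ya22 za42) (ka xa20 ya14 za6) (ka xa20 ya14 za7) (ka xa21 ya22 za43) (ka xa20 ya15 za17) (ka xa20 ya15 za18) (ka xa21 ya22 za48) (ka xa20 ya15 za20) (ka xa20 ya15 za21) (ka xa20 ya14 za12) (ka xa21 ya23 za2) (ka xa20 ya15 za24) (ka xa20 ya15 za25) (ka xa20 ya14 za16) (ka xa21 ya23 za5) (ka xa20 ya15 za29) (ka xa20 ya14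 za19) (ka xa20 ya14 za21) (ka xa21 ya23 za8) (ka xa20 ya14 za23) (ka xa21 ya23 za9) (ka xa20 ya15 za50) (ka xa20 ya16 za0) (ka xa20 ya14 za26) (ka xa20 ya14 za28) (ka xa21 ya23 za13) (ka xa20 ya14 za31) (ka xa21 ya23 za14) (ka xa20 ya16 za9) (ka xa20 ya16 za10) (ka xa20 ya14 za36) (ka xa20 ya14 za39) (ka xa21 ya23 za17) (ka xa21 ya23 za18) (ka xa20 ya14 za43) (ka xa21 ya23 za19) (ka xa21 ya23 za20) (ka xa20 ya17 za12) (ka xa20 ya14 za47)) (@D3.rec (fun _ => Pt) (ka xa20 ya14 za49) (ka xa21 ya23 za23) (ka xa20 ya17 za19) (ka xa20 ya17 za20) (ka xa21 ya23 za25) (ka xa21 ya23 za26) (ka xa20 ya21 za31) (ka xa20 ya15 za5) (ka xa20 ya15 za6) (ka xa21 ya23 za29) (ka xa21 ya22 za37) (ka xa20 ya15 za9) (ka xa21 ya23 za31) (ka xa21 ya19 za34) (ka xa21 ya20 za31) (ka xa21 ya18 za37) (ka xa21 ya18 za36) (ka xa20 ya23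 za17) (ka xa21 ya23 za37) (ka xa20 ya15 za16) (ka xa21 ya23 za38) (ka xa21 ya22 za45) (ka xa21 ya22 za46) (ka xa21 ya22 za47) (ka xa20 ya15 za19) (ka xa21 ya23 za43) (ka xa21 ya22 za50) (ka xa21 ya23 za0) (ka xa21 ya23 za1) (ka xa20 ya15 za23) (ka xa21 ya23 za49) (ka xa21 ya23 za4) (ka xa20 ya23 za9) (ka xa20 ya15 za28) (ka xa21 ya24 za1) (ka xa21 ya23 za7) (ka xa21 ya24 za5) (ka xa20 ya20 za21) (ka xa20 ya15 za33) (ka xa21 ya24 za7) (ka xa20 ya21 za23) (ka xa20 ya15 za36) (ka xa20 ya15 za38) (ka xa20 ya15 za39) (ka xa21 ya24 za9) (ka xa20 ya26 za17) (ka xa20 ya26 za18) (ka xa20 ya15 za43) (ka xa21 ya24 za12) (ka xa20 ya15 za45) (ka xa21 ya24 za13)) (@D3.rec (fun _ => Pt) (ka xa21 ya20 za47) (ka xa21 ya20 za48) (ka xa20 ya15 za49) (ka xa21 ya24 za17) (ka xa21 ya24 za18) (ka xa21 ya23 za12) (ka xa20 ya16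 za2) (ka xa20 ya16 za4) (ka xa20 ya16 za6) (ka xa20 ya16 za8) (ka xa21 ya24 za22) (ka xa21 ya23 za16) (ka xa20 ya16 za12) (ka xa21 ya24 za24) (ka xa20 ya19 za29) (ka xa20 ya16 za15) (ka xa21 ya24 za26) (ka xa21 ya22 za0) (ka xa20 ya16 za17) (ka xa21 ya24 za28) (ka xa20 ya16 za20) (ka xa20 ya16 za22) (ka xa20 ya16 za25) (ka xa20 ya16 za27) (ka xa21 ya24 za29) (ka xa20 ya26 za8) (ka xa20 ya26 za9) (ka xa20 ya16 za30) (ka xa21 ya24 za32) (ka xa21 ya18 za25) (ka xa20 ya16 za34) (ka xa21 ya24 za34) (ka xa20 ya16 za37) (ka xa21 ya24 za35) (ka xa20 ya16 za40) (ka xa20 ya16 za41) (ka xa21 ya24 za36) (ka xa21 ya21 za24) (ka xa21 ya21 za25) (ka xa20 ya16 za45) (ka xa21 ya24 za41) (ka xa21 ya24 za42) (ka xa21 ya22 za4) (ka xa21 ya22 za5) (ka xa20 ya16 za49) (ka xa21 ya24 za48) (ka xa21 ya24 za49) (ka xa20 ya22 za6)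 (ka xa21 ya19 za14) (ka xa20 ya17 za3) (ka xa20 ya17 za4)) (@D3.rec (fun _ => Pt) (ka xa21 ya25 za1) (ka xa21 ya25 za2) (ka xa20 ya21 za46) (ka xa20 ya22 za2) (ka xa20 ya17 za8) (ka xa20 ya17 za10) (ka xa20 ya17 za11) (ka xa21 ya25 za6) (ka xa21 ya23 za22) (ka xa20 ya17 za14) (ka xa20 ya17 za18) (ka xa21 ya25 za8) (ka xa20 ya23 za5) (ka xa20 ya17 za26) (ka xa20 ya17 za29) (ka xa21 ya25 za9) (ka xa21 ya0 za11) (ka xa20 ya17 za33) (ka xa21 ya25 za11) (ka xa20 ya17 za36) (ka xa21 ya25 za12) (ka xa20 ya17 za38) (ka xa21 ya25 za14) (ka xa21 ya0 za1) (ka xa20 ya17 za42) (ka xa20 ya17 za46) (ka xa21 ya25 za16) (ka xa20 ya17 za50) (ka xa20 ya18 za2) (ka xa21 ya25 za18) (ka xa20 ya18 za7) (ka xa20 ya18 za9) (ka xa21 ya25 za19) (ka xa20 ya18 za12) (ka xa21 ya25 za21) (ka xa20 ya19 za32) (ka xa20 ya18 za15) (ka xa21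 ya25 za24) (ka xa20 ya20 za7) (ka xa20 ya20 za8) (ka xa20 ya20 za9) (ka xa20 ya18 za19) (ka xa21 ya25 za30) (ka xa20 ya20 za12) (ka xa20 ya18 za23) (ka xa21 ya25 za32) (ka xa20 ya20 za18) (ka xa20 ya18 za25) (ka xa21 ya25 za35) (ka xa20 ya20 za24) (ka xa20 ya18 za28)) (@D3.rec (fun _ => Pt) (ka xa21 ya25 za37) (ka xa20 ya20 za32) (ka xa20 ya20 za33) (ka xa20 ya18 za32) (ka xa21 ya25 za41) (ka xa20 ya20 za36) (ka xa20 ya18 za35) (ka xa21 ya25 za43) (ka xa20 ya21 za4) (ka xa20 ya18 za39) (ka xa21 ya25 za44) (ka xa20 ya21 za17) (ka xa20 ya18 za43) (ka xa21 ya25 za46) (ka xa20 ya18 za45) (ka xa21 ya25 za48) (ka xa20 ya21 za35) (ka xa20 ya18 za48) (ka xa21 ya25 za50) (ka xa20 ya21 za42) (ka xa20 ya19 za0) (ka xa21 ya26 za1) (ka xa20 ya19 za3) (ka xa21 ya26 za2) (ka xa21 ya26 za3) (ka xa20 ya19 za7) (ka xa20 ya19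 za8) (ka xa20 ya19 za10) (ka xa21 ya26 za4) (ka xa20 ya22 za25) (ka xa20 ya19 za13) (ka xa21 ya26 za7) (ka xa20 ya22 za30) (ka xa20 ya19 za17) (ka xa21 ya26 za10) (ka xa20 ya19 za20) (ka xa21 ya26 za11) (ka xa20 ya19 za24) (ka xa20 ya19 za25) (ka xa21 ya26 za12) (ka xa20 ya25 za32) (ka xa20 ya19 za28) (ka xa21 ya26 za14) (ka xa21 ya21 za45) (ka xa20 ya19 za31) (ka xa21 ya26 za17) (ka xa21 ya25 za23) (ka xa20 ya19 za33) (ka xa21 ya26 za21) (ka xa20 ya19 za45) (ka xa20 ya19 za46)) (@D3.rec (fun _ => Pt) (ka xa20 ya19 za47) (ka xa20 ya19 za48) (ka xa20 ya19 za39) (ka xa20 ya19 za40) (ka xa21 ya26 za26) (ka xa21 ya19 za5) (ka xa21 ya19 za6) (ka xa20 ya19 za44) (ka xa21 ya26 za29) (ka xa21 ya26 za30) (ka xa21 ya26 za24) (ka xa21 ya26 za25) (ka xa21 ya19 za30) (ka xa20 ya19 za49) (ka xa21 ya26 za34) (ka xa20 ya20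 za0) (ka xa20 ya20 za2) (ka xa21 ya26 za35) (ka xa21 ya18 za45) (ka xa21 ya18 za46) (ka xa21 ya18 za47) (ka xa20 ya20 za6) (ka xa21 ya26 za41) (ka xa21 ya26 za42) (ka xa21 ya25 za27) (ka xa21 ya25 za28) (ka xa21 ya25 za29) (ka xa20 ya20 za11) (ka xa21 ya26 za47) (ka xa20 ya20 za14) (ka xa21 ya26 za48) (ka xa21 ya19 za2) (ka xa20 ya20 za17) (ka xa22 ya0 za1) (ka xa22 ya0 za2) (ka xa21 ya21 za14) (ka xa20 ya20 za20) (ka xa22 ya0 za5) (ka xa21 ya21 za15) (ka xa20 ya20 za23) (ka xa22 ya0 za7) (ka xa21 ya0 za33) (ka xa20 ya20 za26) (ka xa20 ya20 za28) (ka xa22 ya0 za10) (ka xa21 ya19 za13) (ka xa20 ya20 za31) (ka xa22 ya0 za12) (ka xa22 ya0 za13) (ka xa21 ya25 za40) (ka xa20 ya20 za35)) (@D3.rec (fun _ => Pt) (ka xa22 ya0 za17) (ka xa22 ya0 za18) (ka xa21 ya20 za40) (ka xa20 ya20 za38) (ka xa20 ya20 za44) (ka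 xa22 ya0 za20) (ka xa21 ya19 za17) (ka xa20 ya20 za47) (ka xa22 ya0 za22) (ka xa21 ya19 za29) (ka xa20 ya20 za50) (ka xa20 ya21 za0) (ka xa22 ya0 za24) (ka xa22 ya0 za25) (ka xa21 ya18 za34) (ka xa21 ya20 za41) (ka xa21 ya20 za1) (ka xa21 ya20 za10) (ka xa20 ya21 za13) (ka xa22 ya0 za29) (ka xa21 ya21 za21) (ka xa20 ya21 za16) (ka xa22 ya0 za31) (ka xa22 ya0 za32) (ka xa20 ya21 za20) (ka xa20 ya21 za22) (ka xa22 ya0 za34) (ka xa20 ya21 za25) (ka xa22 ya0 za36) (ka xa22 ya0 za37) (ka xa20 ya21 za29) (ka xa20 ya21 za30) (ka xa22 ya0 za39) (ka xa21 ya23 za28) (ka xa20 ya21 za32) (ka xa20 ya21 za34) (ka xa22 ya0 za41) (ka xa21 ya24 za46) (ka xa20 ya21 za37) (ka xa22 ya0 za45) (ka xa21 ya18 za35) (ka xa20 ya21 za41) (ka xa22 ya0 za47) (ka xa22 ya0 za48) (ka xa21 ya18 za50) (ka xa21 ya25 za5) (ka xa20 ya21 za45)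 (ka xa22 ya1 za2) (ka xa21 ya20 za35) (ka xa20 ya21 za48) (ka xa22 ya1 za4)) (@D3.rec (fun _ => Pt) (ka xa20 ya22 za0) (ka xa20 ya22 za1) (ka xa22 ya1 za5) (ka xa22 ya1 za6) (ka xa21 ya24 za0) (ka xa20 ya22 za4) (ka xa20 ya22 za5) (ka xa22 ya1 za9) (ka xa22 ya1 za10) (ka xa20 ya22 za7) (ka xa20 ya22 za9) (ka xa22 ya1 za11) (ka xa20 ya22 za13) (ka xa22 ya1 za13) (ka xa20 ya25 za3) (ka xa20 ya25 za4) (ka xa20 ya22 za16) (ka xa22 ya1 za16) (ka xa21 ya19 za46) (ka xa21 ya19 za47) (ka xa20 ya22 za20) (ka xa22 ya1 za21) (ka xa22 ya1 za22) (ka xa21 ya20 za0) (ka xa20 ya22 za24) (ka xa22 ya1 za25) (ka xa21 ya26 za6) (ka xa20 ya22 za27) (ka xa20 ya22 za28) (ka xa22 ya1 za29) (ka xa22 ya1 za30) (ka xa22 ya1 za31) (ka xa20 ya24 za39) (ka xa21 ya21 za10) (ka xa20 ya22 za32) (ka xa20 ya22 za35) (ka xa22 ya1 za36) (ka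 xa20 ya22 za38) (ka xa22 ya1 za37) (ka xa20 ya22 za41) (ka xa20 ya22 za44) (ka xa22 ya1 za38) (ka xa20 ya22 za47) (ka xa20 ya22 za49) (ka xa22 ya1 za39) (ka xa20 ya23 za13) (ka xa20 ya23 za2) (ka xa20 ya23 za3) (ka xa22 ya1 za41) (ka xa21 ya18 za42) (ka xa21 ya20 za36)) (@D3.rec (fun _ => Pt) (ka xa20 ya23 za8) (ka xa22 ya1 za8) (ka xa20 ya23 za12) (ka xa22 ya1 za40) (ka xa20 ya23 za15) (ka xa21 ya23 za35) (ka xa20 ya23 za19) (ka xa20 ya23 za21) (ka xa22 ya1 za46) (ka xa20 ya23 za24) (ka xa20 ya23 za27) (ka xa20 ya23 za31) (ka xa22 ya1 za48) (ka xa20 ya23 za34) (ka xa22 ya1 za50) (ka xa20 ya23 za37) (ka xa22 ya2 za0) (ka xa20 ya23 za40) (ka xa22 ya2 za1) (ka xa20 ya25 za9) (ka xa20 ya23 za43) (ka xa22 ya2 za5) (ka xa20 ya23 za45) (ka xa22 ya2 za6) (ka xa20 ya25 za17) (ka xa20 ya23 za48) (ka xa22 ya2 za8)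 (ka xa20 ya25 za24) (ka xa20 ya24 za1) (ka xa20 ya24 za3) (ka xa22 ya2 za10) (ka xa20 ya24 za6) (ka xa22 ya2 za11) (ka xa22 ya2 za12) (ka xa20 ya24 za10) (ka xa20 ya24 za12) (ka xa22 ya2 za13) (ka xa20 ya24 za15) (ka xa20 ya24 za19) (ka xa22 ya2 za15) (ka xa20 ya24 za22) (ka xa22 ya2 za16) (ka xa20 ya24 za25) (ka xa22 ya2 za18) (ka xa21 ya18 za40) (ka xa21 ya18 za41) (ka xa20 ya24 za29) (ka xa22 ya2 za21) (ka xa20 ya24 za31) (ka xa22 ya2 za22) (ka xa21 ya21 za0)) (@D3.rec (fun _ => Pt) (ka xa20 ya24 za34) (ka xa20 ya24 za35) (ka xa22 ya2 za24) (ka xa21 ya20 za34) (ka xa20 ya24 za38) (ka xa22 ya2 za26) (ka xa20 ya24 za42) (ka xa22 ya2 za28) (ka xa20 ya24 za48) (ka xa22 ya2 za30) (ka xa20 ya25 za0) (ka xa22 ya2 za32) (ka xa20 ya25 za2) (ka xa22 ya2 za33) (ka xa22 ya2 za34) (ka xa20 ya25 za6) (ka xa20 ya25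 za8) (ka xa22 ya2 za36) (ka xa22 ya2 za37) (ka xa22 ya2 za4) (ka xa20 ya25 za11) (ka xa20 ya25 za13) (ka xa22 ya2 za40) (ka xa21 ya20 za39) (ka xa20 ya25 za16) (ka xa22 ya2 za42) (ka xa20 ya25 za19) (ka xa22 ya2 za44) (ka xa21 ya20 za44) (ka xa20 ya25 za23) (ka xa22 ya2 za46) (ka xa20 ya25 za27) (ka xa20 ya25 za29) (ka xa20 ya25 za31) (ka xa22 ya2 za47) (ka xa20 ya25 za34) (ka xa20 ya25 za39) (ka xa22 ya2 za49) (ka xa20 ya25 za42) (ka xa22 ya3 za0) (ka xa20 ya25 za45) (ka xa22 ya3 za2) (ka xa20 ya25 za47) (ka xa20 ya25 za50) (ka xa20 ya26 za2) (ka xa20 ya26 za3) (ka xa22 ya3 za3) (ka xa21 ya22 za23) (ka xa21 ya22 za24) (ka xa20 ya26 za7) (ka xa22 ya3 za6)) (@D3.rec (fun _ => Pt) (ka xa22 ya3 za7) (ka xa20 ya26 za11) (ka xa20 ya26 za12) (ka xa22 ya3 za9) (ka xa21 ya22 za27) (ka xa21 ya22 za28) (ka xa20 ya26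 za16) (ka xa22 ya3 za12) (ka xa22 ya3 za13) (ka xa20 ya26 za20) (ka xa22 ya3 za15) (ka xa20 ya26 za23) (ka xa20 ya26 za25) (ka xa20 ya26 za27) (ka xa20 ya26 za29) (ka xa22 ya3 za16) (ka xa20 ya26 za35) (ka xa22 ya3 za18) (ka xa20 ya26 za38) (ka xa22 ya3 za20) (ka xa20 ya26 za49) (ka xa21 ya0 za0) (ka xa22 ya3 za21) (ka xa21 ya0 za3) (ka xa22 ya3 za23) (ka xa21 ya0 za6) (ka xa22 ya3 za25) (ka xa21 ya0 za8) (ka xa21 ya0 za10) (ka xa22 ya3 za26) (ka xa21 ya0 za14) (ka xa22 ya3 za28) (ka xa21 ya0 za18) (ka xa22 ya3 za30) (ka xa21 ya0 za21) (ka xa22 ya3 za31) (ka xa21 ya0 za23) (ka xa21 ya0 za25) (ka xa21 ya0 za27) (ka xa21 ya0 za29) (ka xa21 ya0 za32) (ka xa22 ya3 za32) (ka xa21 ya0 za35) (ka xa22 ya3 za34) (ka xa21 ya0 za37) (ka xa21 ya0 za39) (ka xa22 ya3 za35) (ka xa21 ya19 za25) (ka xa21 ya0 za42) (ka xa22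 ya3 za39) (ka xa21 ya19 za21)) (@D3.rec (fun _ => Pt) (ka xa21 ya0 za44) (ka xa22 ya3 za41) (ka xa21 ya19 za20) (ka xa21 ya0 za48) (ka xa22 ya3 za43) (ka xa21 ya1 za0) (ka xa22 ya3 za45) (ka xa21 ya1 za3) (ka xa22 ya3 za47) (ka xa21 ya1 za5) (ka xa21 ya1 za8) (ka xa22 ya3 za48) (ka xa21 ya1 za10) (ka xa22 ya3 za49) (ka xa21 ya1 za12) (ka xa21 ya1 za13) (ka xa22 ya4 za0) (ka xa21 ya1 za15) (ka xa21 ya1 za17) (ka xa21 ya1 za21) (ka xa22 ya4 za2) (ka xa21 ya1 za24) (ka xa21 ya1 za29) (ka xa21 ya1 za33) (ka xa22 ya4 za3) (ka xa21 ya9 za29) (ka xa21 ya1 za40) (ka xa21 ya1 za41) (ka xa22 ya4 za5) (ka xa21 ya1 za43) (ka xa22 ya4 za6) (ka xa21 ya5 za4) (ka xa21 ya1 za46) (ka xa22 ya4 za9) (ka xa21 ya13 za14) (ka xa21 ya13 za40) (ka xa21 ya8 za16) (ka xa21 ya8 za15) (ka xa21 ya2 za1) (ka xa22 ya4 za14) (ka xa21 ya15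 za44) (ka xa21 ya15 za45) (ka xa21 ya14 za49) (ka xa21 ya2 za4) (ka xa22 ya4 za19) (ka xa21 ya12 za18) (ka xa21 ya12 za19) (ka xa21 ya12 za20) (ka xa21 ya2 za8) (ka xa22 ya4 za25) (ka xa21 ya13 za44)) (@D3.rec (fun _ => Pt) (ka xa21 ya2 za12) (ka xa22 ya4 za27) (ka xa21 ya12 za31) (ka xa21 ya2 za15) (ka xa22 ya4 za31) (ka xa21 ya12 za5) (ka xa21 ya12 za6) (ka xa21 ya4 za35) (ka xa21 ya2 za19) (ka xa22 ya4 za35) (ka xa21 ya4 za33) (ka xa21 ya2 za22) (ka xa22 ya4 za37) (ka xa21 ya12 za45) (ka xa21 ya9 za48) (ka xa21 ya2 za26) (ka xa22 ya4 za41) (ka xa21 ya13 za6) (ka xa21 ya2 za28) (ka xa22 ya4 za43) (ka xa21 ya18 za2) (ka xa21 ya17 za50) (ka xa21 ya2 za32) (ka xa22 ya4 za47) (ka xa22 ya4 za48) (ka xa21 ya17 za47) (ka xa21 ya2 za36) (ka xa21 ya2 za38) (ka xa22 ya5 za1) (ka xa21 ya13 za9) (ka xa21 ya12 za12)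 (ka xa21 ya2 za44) (ka xa22 ya5 za3) (ka xa22 ya5 za4) (ka xa21 ya8 za13) (ka xa21 ya2 za49) (ka xa22 ya5 za6) (ka xa21 ya3 za1) (ka xa22 ya5 za7) (ka xa22 ya5 za8) (ka xa21 ya3 za5) (ka xa21 ya3 za6) (ka xa22 ya5 za9) (ka xa21 ya3 za9) (ka xa21 ya3 za11) (ka xa22 ya5 za10) (ka xa21 ya14 za18) (ka xa21 ya14 za19) (ka xa21 ya3 za15) (ka xa22 ya5 za15) (ka xa22 ya5 za16)) (@D3.rec (fun _ => Pt) (ka xa21 ya14 za23) (ka xa21 ya13 za16) (ka xa21 ya3 za19) (ka xa22 ya5 za21) (ka xa21 ya4 za34) (ka xa21 ya3 za23) (ka xa22 ya5 za23) (ka xa21 ya3 za26) (ka xa21 ya3 za27) (ka xa22 ya5 za24) (ka xa21 ya13 za17) (ka xa21 ya3 za30) (ka xa21 ya3 za32) (ka xa22 ya5 za26) (ka xa21 ya3 za36) (ka xa21 ya3 za37) (ka xa22 ya5 za27) (ka xa21 ya6 za47) (ka xa21 ya3 za41) (ka xa21 ya3 za43) (ka xa22 ya5 za29) (ka xa21 ya3 za48)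 (ka xa22 ya5 za31) (ka xa21 ya4 za0) (ka xa22 ya5 za33) (ka xa21 ya4 za5) (ka xa22 ya5 za35) (ka xa21 ya5 za45) (ka xa21 ya4 za8) (ka xa21 ya4 za10) (ka xa22 ya5 za39) (ka xa21 ya8 za14) (ka xa21 ya4 za13) (ka xa22 ya5 za41) (ka xa21 ya16 za3) (ka xa21 ya13 za48) (ka xa21 ya14 za50) (ka xa21 ya4 za16) (ka xa22 ya5 za46) (ka xa21 ya16 za23) (ka xa21 ya13 za2) (ka xa21 ya13 za15) (ka xa21 ya4 za20) (ka xa22 ya6 za0) (ka xa21 ya16 za28) (ka xa21 ya4 za23) (ka xa22 ya6 za2) (ka xa21 ya9 za0) (ka xa21 ya9 za1) (ka xa21 ya4 za27) (ka xa22 ya6 za6)) (@D3.rec (fun _ => Pt) (ka xa21 ya15 za50) (ka xa21 ya4 za29) (ka xa22 ya6 za9) (ka xa21 ya4 za32) (ka xa22 ya6 za10) (ka xa22 ya6 za11) (ka xa22 ya4 za34) (ka xa21 ya4 za37) (ka xa22 ya6 za13) (ka xa22 ya6 za14) (ka xa21 ya14 za33) (ka xa21 ya4 za41) (ka xa22 ya6 za18)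 (ka xa22 ya6 za19) (ka xa21 ya12 za35) (ka xa21 ya12 za38) (ka xa21 ya4 za45) (ka xa22 ya6 za24) (ka xa21 ya4 za48) (ka xa22 ya6 za25) (ka xa22 ya6 za26) (ka xa21 ya13 za20) (ka xa21 ya4 za50) (ka xa22 ya6 za29) (ka xa21 ya9 za37) (ka xa21 ya9 za38) (ka xa21 ya5 za3) (ka xa22 ya6 za34) (ka xa22 ya4 za8) (ka xa21 ya5 za6) (ka xa21 ya5 za8) (ka xa22 ya6 za38) (ka xa21 ya5 za11) (ka xa21 ya5 za13) (ka xa22 ya6 za40) (ka xa21 ya5 za16) (ka xa22 ya6 za41) (ka xa21 ya5 za19) (ka xa22 ya6 za42) (ka xa21 ya5 za24) (ka xa22 ya6 za44) (ka xa21 ya5 za27) (ka xa21 ya5 za28) (ka xa22 ya6 za46) (ka xa22 ya6 za47) (ka xa21 ya11 za43) (ka xa21 ya5 za32) (ka xa21 ya5 za35) (ka xa22 ya6 za50) (ka xa21 ya5 za37) (ka xa22 ya7 za0)) (@D3.rec (fun _ => Pt) (ka xa21 ya9 za17) (ka xa21 ya5 za40) (ka xa22 ya7 za2) (ka xa22 ya7 za3)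 (ka xa21 ya9 za42) (ka xa21 ya9 za43) (ka xa21 ya5 za44) (ka xa22 ya7 za7) (ka xa22 ya7 za8) (ka xa22 ya5 za38) (ka xa21 ya5 za47) (ka xa21 ya5 za49) (ka xa21 ya6 za0) (ka xa21 ya6 za2) (ka xa21 ya6 za4) (ka xa21 ya6 za6) (ka xa21 ya6 za10) (ka xa21 ya6 za15) (ka xa21 ya6 za21) (ka xa21 ya6 za25) (ka xa21 ya6 za27) (ka xa21 ya6 za31) (ka xa22 ya7 za11) (ka xa21 ya16 za47) (ka xa21 ya16 za48) (ka xa21 ya6 za34) (ka xa22 ya7 za14) (ka xa21 ya17 za4) (ka xa21 ya17 za5) (ka xa21 ya6 za38) (ka xa22 ya7 za17) (ka xa21 ya6 za41) (ka xa22 ya7 za18) (ka xa21 ya6 za44) (ka xa21 ya6 za46) (ka xa22 ya7 za20) (ka xa22 ya7 za21) (ka xa21 ya8 za10) (ka xa21 ya6 za50) (ka xa21 ya7 za1) (ka xa21 ya7 za3) (ka xa21 ya7 za9) (ka xa21 ya7 za12) (ka xa21 ya7 za15) (ka xa22 ya7 za24) (ka xa21 ya8 za21) (ka xa21 ya8 za22) (ka xa21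 ya8 za23) (ka xa21 ya7 za18) (ka xa22 ya7 za28) (ka xa21 ya8 za26)) (@D3.rec (fun _ => Pt) (ka xa21 ya8 za27) (ka xa21 ya8 za28) (ka xa21 ya7 za22) (ka xa22 ya7 za34) (ka xa21 ya8 za31) (ka xa21 ya7 za26) (ka xa22 ya7 za36) (ka xa21 ya8 za35) (ka xa21 ya7 za30) (ka xa21 ya7 za32) (ka xa22 ya7 za39) (ka xa22 ya7 za40) (ka xa21 ya9 za5) (ka xa21 ya7 za37) (ka xa21 ya7 za39) (ka xa22 ya7 za44) (ka xa21 ya9 za11) (ka xa21 ya7 za44) (ka xa21 ya7 za45) (ka xa21 ya7 za47) (ka xa21 ya7 za48) (ka xa22 ya7 za46) (ka xa21 ya10 za8) (ka xa21 ya8 za1) (ka xa22 ya7 za48) (ka xa21 ya8 za4) (ka xa21 ya8 za5) (ka xa22 ya7 za49) (ka xa21 ya13 za33) (ka xa21 ya8 za9) (ka xa22 ya8 za0) (ka xa21 ya8 za12) (ka xa22 ya8 za2) (ka xa22 ya8 za3) (ka xa22 ya4 za13) (ka xa21 ya15 za5) (ka xa22 ya4 za12) (ka xa21 ya8 za18) (ka xa21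 ya8 za20) (ka xa22 ya8 za7) (ka xa22 ya8 za8) (ka xa22 ya6 za37) (ka xa22 ya7 za27) (ka xa21 ya8 za25) (ka xa22 ya8 za14) (ka xa22 ya8 za15) (ka xa22 ya7 za31) (ka xa22 ya7 za32) (ka xa22 ya7 za33) (ka xa21 ya8 za30) (ka xa22 ya8 za22)) (@D3.rec (fun _ => Pt) (ka xa21 ya14 za4) (ka xa21 ya8 za34) (ka xa22 ya8 za24) (ka xa22 ya8 za25) (ka xa22 ya6 za23) (ka xa21 ya8 za36) (ka xa22 ya8 za28) (ka xa21 ya8 za39) (ka xa22 ya8 za29) (ka xa21 ya8 za44) (ka xa22 ya8 za31) (ka xa22 ya8 za32) (ka xa21 ya8 za48) (ka xa21 ya8 za50) (ka xa22 ya8 za34) (ka xa22 ya8 za35) (ka xa22 ya6 za5) (ka xa21 ya9 za3) (ka xa21 ya9 za4) (ka xa22 ya8 za39) (ka xa22 ya8 za40) (ka xa22 ya7 za43) (ka xa21 ya9 za10) (ka xa22 ya8 za43) (ka xa21 ya9 za13) (ka xa22 ya8 za44) (ka xa21 ya9 za16) (ka xa22 ya8 za45) (ka xa21 ya9 za19) (ka xa21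 ya9 za24) (ka xa22 ya8 za47) (ka xa22 ya8 za48) (ka xa21 ya9 za28) (ka xa22 ya8 za50) (ka xa21 ya9 za31) (ka xa21 ya9 za33) (ka xa21 ya9 za36) (ka xa22 ya9 za0) (ka xa22 ya9 za1) (ka xa22 ya6 za32) (ka xa22 ya6 za33) (ka xa21 ya9 za40) (ka xa21 ya9 za41) (ka xa22 ya9 za6) (ka xa22 ya9 za7) (ka xa22 ya9 za8) (ka xa21 ya13 za37) (ka xa22 ya6 za17) (ka xa21 ya9 za45) (ka xa21 ya9 za46) (ka xa22 ya9 za13)) (@D3.rec (fun _ => Pt) (ka xa22 ya9 za14) (ka xa21 ya10 za0) (ka xa21 ya10 za1) (ka xa22 ya9 za15) (ka xa22 ya9 za16) (ka xa21 ya13 za45) (ka xa21 ya10 za7) (ka xa22 ya9 za18) (ka xa21 ya10 za11) (ka xa21 ya10 za15) (ka xa22 ya9 za19) (ka xa21 ya10 za18) (ka xa21 ya10 za20) (ka xa22 ya9 za21) (ka xa21 ya10 za22) (ka xa22 ya9 za22) (ka xa21 ya10 za26) (ka xa22 ya9 za24) (ka xa21 ya10 za29) (ka xa21 ya10 za32)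 (ka xa22 ya9 za25) (ka xa21 ya10 za34) (ka xa22 ya9 za26) (ka xa21 ya11 za46) (ka xa21 ya10 za37) (ka xa22 ya9 za29) (ka xa22 ya9 za30) (ka xa21 ya12 za24) (ka xa21 ya12 za25) (ka xa21 ya12 za26) (ka xa21 ya10 za42) (ka xa22 ya9 za35) (ka xa21 ya10 za45) (ka xa22 ya9 za36) (ka xa22 ya9 za37) (ka xa21 ya10 za48) (ka xa22 ya9 za39) (ka xa21 ya11 za0) (ka xa22 ya9 za41) (ka xa22 ya9 za42) (ka xa21 ya12 za49) (ka xa21 ya11 za4) (ka xa22 ya9 za44) (ka xa21 ya11 za7) (ka xa21 ya11 za10) (ka xa22 ya9 za45) (ka xa21 ya11 za13) (ka xa22 ya9 za47) (ka xa21 ya11 za15) (ka xa22 ya9 za48) (ka xa21 ya11 za18)) (@D3.rec (fun _ => Pt) (ka xa22 ya9 za50) (ka xa21 ya11 za21) (ka xa21 ya11 za23) (ka xa21 ya11 za24) (ka xa21 ya11 za28) (ka xa22 ya10 za0) (ka xa21 ya14 za26) (ka xa21 ya11 za31) (ka xa22 ya10 za3) (ka xa22 ya10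 za4) (ka xa21 ya11 za34) (ka xa21 ya11 za36) (ka xa21 ya11 za39) (ka xa22 ya10 za6) (ka xa21 ya11 za42) (ka xa22 ya10 za8) (ka xa22 ya5 za0) (ka xa21 ya11 za45) (ka xa22 ya10 za11) (ka xa22 ya10 za12) (ka xa22 ya5 za49) (ka xa21 ya11 za48) (ka xa22 ya10 za15) (ka xa22 ya10 za16) (ka xa21 ya12 za10) (ka xa21 ya12 za11) (ka xa21 ya12 za4) (ka xa22 ya10 za19) (ka xa22 ya10 za20) (ka xa21 ya12 za8) (ka xa21 ya12 za9) (ka xa22 ya10 za22) (ka xa22 ya10 za23) (ka xa22 ya4 za40) (ka xa21 ya12 za14) (ka xa21 ya12 za17) (ka xa22 ya10 za25) (ka xa22 ya10 za26) (ka xa22 ya4 za22) (ka xa22 ya4 za23) (ka xa22 ya4 za24) (ka xa21 ya12 za22) (ka xa21 ya12 za23) (ka xa22 ya10 za31) (ka xa22 ya10 za32) (ka xa22 ya10 za33) (ka xa22 ya10 za34) (ka xa21 ya12 za28) (ka xa21 ya12 za30) (ka xa22 ya10 za37) (ka xa22 ya10 za38))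
def f_a_22 : D2 → D3 → Pt := @D2.rec (fun _ => D3 → Pt) (@D3.rec (fun _ => Pt) (ka xa22 ya4 za30) (ka xa21 ya12 za33) (ka xa21 ya12 za34) (ka xa22 ya10 za42) (ka xa22 ya10 za43) (ka xa21 ya12 za37) (ka xa22 ya10 za46) (ka xa21 ya12 za40) (ka xa22 ya10 za48) (ka xa22 ya10 za49) (ka xa21 ya12 za44) (ka xa22 ya11 za0) (ka xa21 ya12 za47) (ka xa21 ya12 za48) (ka xa22 ya11 za1) (ka xa22 ya11 za2) (ka xa22 ya5 za50) (ka xa21 ya13 za0) (ka xa21 ya13 za1) (ka xa22 ya11 za4) (ka xa21 ya13 za5) (ka xa22 ya11 za5) (ka xa21 ya13 za8) (ka xa22 ya11 za6) (ka xa21 ya13 za12) (ka xa21 ya13 za13) (ka xa22 ya11 za7) (ka xa22 ya11 za8) (ka xa22 ya5 za20) (ka xa21 ya13 za19) (ka xa22 ya11 za10) (ka xa21 ya13 za22) (ka xa21 ya13 za23) (ka xa22 ya11 za12) (ka xa21 ya13 za26) (ka xa22 ya11 za13) (ka xa21 ya13 za28) (ka xa21 ya13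 za29) (ka xa22 ya11 za15) (ka xa21 ya13 za32) (ka xa22 ya11 za16) (ka xa21 ya13 za36) (ka xa22 ya11 za18) (ka xa22 ya11 za19) (ka xa22 ya5 za44) (ka xa21 ya13 za39) (ka xa22 ya11 za22) (ka xa21 ya13 za42) (ka xa21 ya13 za43) (ka xa22 ya11 za23) (ka xa22 ya11 za24)) (@D3.rec (fun _ => Pt) (ka xa22 ya4 za18) (ka xa22 ya5 za45) (ka xa21 ya13 za47) (ka xa22 ya11 za27) (ka xa21 ya13 za50) (ka xa21 ya14 za2) (ka xa21 ya14 za3) (ka xa22 ya11 za29) (ka xa21 ya15 za1) (ka xa21 ya14 za7) (ka xa21 ya14 za8) (ka xa21 ya14 za11) (ka xa22 ya11 za31) (ka xa21 ya14 za13) (ka xa22 ya11 za32) (ka xa22 ya11 za33) (ka xa21 ya14 za17) (ka xa22 ya11 za35) (ka xa22 ya11 za36) (ka xa22 ya5 za13) (ka xa22 ya5 za14) (ka xa21 ya14 za21) (ka xa21 ya14 za22) (ka xa22 ya11 za40) (ka xa22 ya11 za41) (ka xa21 ya14 za25) (ka xa22 ya11 za43)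 (ka xa22 ya11 za44) (ka xa22 ya4 za17) (ka xa21 ya14 za29) (ka xa21 ya14 za30) (ka xa21 ya14 za31) (ka xa22 ya11 za48) (ka xa22 ya11 za49) (ka xa22 ya11 za50) (ka xa22 ya12 za0) (ka xa21 ya14 za36) (ka xa21 ya14 za38) (ka xa21 ya14 za41) (ka xa21 ya14 za44) (ka xa21 ya15 za3) (ka xa21 ya14 za48) (ka xa22 ya12 za4) (ka xa22 ya11 za28) (ka xa22 ya11 za30) (ka xa22 ya12 za3) (ka xa21 ya15 za8) (ka xa22 ya12 za5) (ka xa21 ya15 za12) (ka xa22 ya12 za6) (ka xa21 ya15 za14)) (@D3.rec (fun _ => Pt) (ka xa21 ya15 za16) (ka xa21 ya15 za18) (ka xa22 ya12 za7) (ka xa22 ya12 za8) (ka xa21 ya16 za19) (ka xa21 ya15 za21) (ka xa21 ya15 za23) (ka xa22 ya12 za11) (ka xa21 ya15 za26) (ka xa22 ya12 za13) (ka xa21 ya15 za30) (ka xa21 ya15 za32) (ka xa21 ya15 za33) (ka xa21 ya15 za36) (ka xa22 ya12 za14) (ka xa21 ya15 za39) (ka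 xa21 ya15 za41) (ka xa22 ya12 za15) (ka xa21 ya15 za43) (ka xa22 ya12 za16) (ka xa22 ya12 za17) (ka xa21 ya15 za47) (ka xa21 ya15 za49) (ka xa22 ya12 za19) (ka xa21 ya16 za2) (ka xa22 ya12 za21) (ka xa21 ya16 za5) (ka xa22 ya12 za23) (ka xa21 ya16 za7) (ka xa22 ya12 za24) (ka xa21 ya16 za9) (ka xa22 ya12 za25) (ka xa21 ya16 za11) (ka xa21 ya16 za13) (ka xa21 ya16 za14) (ka xa22 ya12 za27) (ka xa21 ya16 za17) (ka xa21 ya16 za18) (ka xa22 ya12 za29) (ka xa22 ya12 za30) (ka xa21 ya16 za22) (ka xa22 ya12 za32) (ka xa21 ya16 za25) (ka xa22 ya12 za34) (ka xa21 ya16 za27) (ka xa22 ya12 za35) (ka xa21 ya16 za30) (ka xa21 ya16 za34) (ka xa22 ya12 za36) (ka xa21 ya16 za37) (ka xa22 ya12 za37)) (@D3.rec (fun _ => Pt) (ka xa21 ya16 za39) (ka xa22 ya12 za38) (ka xa21 ya16 za41) (ka xa21 ya16 za46) (ka xa22 ya12 za40)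 (ka xa22 ya12 za41) (ka xa21 ya16 za50) (ka xa21 ya17 za0) (ka xa22 ya12 za43) (ka xa21 ya17 za3) (ka xa22 ya12 za44) (ka xa22 ya12 za45) (ka xa21 ya17 za7) (ka xa21 ya17 za8) (ka xa22 ya12 za47) (ka xa21 ya17 za10) (ka xa21 ya17 za15) (ka xa22 ya12 za48) (ka xa21 ya17 za17) (ka xa22 ya12 za49) (ka xa21 ya17 za19) (ka xa21 ya17 za22) (ka xa22 ya13 za0) (ka xa21 ya17 za24) (ka xa22 ya13 za1) (ka xa21 ya17 za26) (ka xa21 ya17 za29) (ka xa22 ya13 za3) (ka xa21 ya17 za31) (ka xa22 ya13 za4) (ka xa21 ya17 za33) (ka xa21 ya17 za35) (ka xa21 ya17 za41) (ka xa22 ya13 za7) (ka xa21 ya17 za43) (ka xa21 ya17 za46) (ka xa22 ya13 za9) (ka xa22 ya13 za10) (ka xa22 ya4 za46) (ka xa21 ya17 za49) (ka xa22 ya13 za13) (ka xa21 ya18 za1) (ka xa22 ya13 za14) (ka xa21 ya18 za4) (ka xa22 ya13 za16) (ka xa21 ya18 za6) (ka xa22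 ya13 za17) (ka xa21 ya18 za8) (ka xa21 ya18 za11) (ka xa21 ya18 za13) (ka xa22 ya3 za50)) (@D3.rec (fun _ => Pt) (ka xa21 ya18 za16) (ka xa22 ya13 za22) (ka xa21 ya18 za20) (ka xa21 ya18 za24) (ka xa22 ya13 za23) (ka xa21 ya18 za28) (ka xa21 ya18 za30) (ka xa22 ya13 za24) (ka xa21 ya21 za28) (ka xa21 ya18 za33) (ka xa22 ya13 za27) (ka xa22 ya13 za28) (ka xa21 ya23 za36) (ka xa21 ya23 za34) (ka xa21 ya18 za39) (ka xa22 ya13 za31) (ka xa22 ya13 za32) (ka xa22 ya1 za28) (ka xa22 ya1 za0) (ka xa21 ya18 za44) (ka xa22 ya13 za38) (ka xa22 ya13 za39) (ka xa21 ya26 za38) (ka xa21 ya26 za39) (ka xa21 ya26 za40) (ka xa21 ya18 za49) (ka xa22 ya13 za46) (ka xa21 ya19 za1) (ka xa22 ya13 za47) (ka xa22 ya13 za48) (ka xa22 ya0 za0) (ka xa21 ya19 za4) (ka xa22 ya14 za0) (ka xa22 ya14 za1) (ka xa21 ya21 za6) (ka xa21 ya19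 za9) (ka xa22 ya14 za4) (ka xa21 ya19 za12) (ka xa22 ya14 za5) (ka xa22 ya14 za6) (ka xa21 ya26 za33) (ka xa21 ya19 za16) (ka xa22 ya14 za8) (ka xa21 ya19 za19) (ka xa22 ya14 za9) (ka xa22 ya14 za10) (ka xa22 ya3 za38) (ka xa21 ya19 za23) (ka xa21 ya19 za24) (ka xa22 ya14 za14) (ka xa22 ya14 za15)) (@D3.rec (fun _ => Pt) (ka xa21 ya26 za16) (ka xa21 ya19 za28) (ka xa22 ya14 za18) (ka xa21 ya19 za32) (ka xa21 ya19 za33) (ka xa22 ya14 za19) (ka xa21 ya19 za36) (ka xa21 ya19 za38) (ka xa21 ya19 za39) (ka xa21 ya19 za42) (ka xa21 ya19 za45) (ka xa22 ya14 za20) (ka xa22 ya14 za21) (ka xa22 ya1 za19) (ka xa22 ya1 za20) (ka xa21 ya19 za49) (ka xa21 ya19 za50) (ka xa22 ya14 za26) (ka xa22 ya14 za27) (ka xa22 ya14 za28) (ka xa22 ya0 za28) (ka xa21 ya20 za3) (ka xa22 ya14 za32) (ka xa21 ya20 za6) (ka xa21 ya20 za9)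 (ka xa22 ya14 za33) (ka xa21 ya20 za13) (ka xa21 ya20 za16) (ka xa22 ya14 za34) (ka xa21 ya20 za20) (ka xa22 ya14 za36) (ka xa21 ya20 za22) (ka xa22 ya14 za37) (ka xa21 ya20 za24) (ka xa22 ya14 za38) (ka xa21 ya20 za26) (ka xa22 ya14 za39) (ka xa22 ya14 za40) (ka xa21 ya22 za9) (ka xa21 ya20 za30) (ka xa22 ya14 za43) (ka xa21 ya20 za33) (ka xa22 ya14 za44) (ka xa22 ya14 za45) (ka xa22 ya0 za44) (ka xa22 ya1 za1) (ka xa21 ya20 za38) (ka xa22 ya14 za49) (ka xa22 ya14 za50) (ka xa21 ya26 za20) (ka xa22 ya0 za16)) (@D3.rec (fun _ => Pt) (ka xa21 ya20 za43) (ka xa22 ya15 za3) (ka xa21 ya20 za46) (ka xa22 ya15 za4) (ka xa22 ya15 za5) (ka xa21 ya24 za16) (ka xa21 ya20 za50) (ka xa22 ya15 za8) (ka xa22 ya15 za9) (ka xa21 ya21 za2) (ka xa21 ya21 za4) (ka xa21 ya21 za5) (ka xa22 ya15 za11) (ka xa21 ya21 za8) (ka xa21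 ya21 za9) (ka xa22 ya15 za12) (ka xa22 ya15 za13) (ka xa21 ya24 za47) (ka xa21 ya21 za12) (ka xa21 ya21 za13) (ka xa22 ya15 za16) (ka xa22 ya15 za17) (ka xa22 ya15 za18) (ka xa21 ya24 za4) (ka xa21 ya21 za17) (ka xa21 ya21 za19) (ka xa21 ya21 za20) (ka xa22 ya15 za23) (ka xa22 ya15 za24) (ka xa21 ya21 za23) (ka xa22 ya15 za26) (ka xa22 ya15 za27) (ka xa21 ya24 za39) (ka xa21 ya24 za40) (ka xa21 ya21 za27) (ka xa22 ya15 za31) (ka xa22 ya15 za32) (ka xa21 ya23 za41) (ka xa21 ya21 za31) (ka xa22 ya15 za35) (ka xa21 ya21 za34) (ka xa21 ya21 za36) (ka xa21 ya21 za38) (ka xa22 ya15 za36) (ka xa21 ya21 za40) (ka xa22 ya15 za37) (ka xa21 ya21 za43) (ka xa21 ya21 za44) (ka xa22 ya15 za39) (ka xa22 ya15 za40) (ka xa21 ya21 za48)) (@D3.rec (fun _ => Pt) (ka xa21 ya21 za50) (ka xa22 ya15 za42) (ka xa21 ya22 za2) (ka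 xa21 ya22 za3) (ka xa22 ya15 za44) (ka xa22 ya15 za45) (ka xa22 ya15 za46) (ka xa21 ya22 za7) (ka xa21 ya22 za8) (ka xa22 ya15 za50) (ka xa22 ya16 za0) (ka xa21 ya22 za22) (ka xa22 ya16 za3) (ka xa22 ya16 za4) (ka xa21 ya22 za26) (ka xa22 ya16 za6) (ka xa22 ya16 za7) (ka xa21 ya22 za30) (ka xa21 ya22 za32) (ka xa22 ya16 za9) (ka xa21 ya22 za35) (ka xa21 ya22 za36) (ka xa22 ya16 za10) (ka xa22 ya16 za11) (ka xa21 ya22 za44) (ka xa22 ya16 za12) (ka xa22 ya16 za13) (ka xa21 ya23 za42) (ka xa21 ya22 za49) (ka xa22 ya16 za16) (ka xa22 ya16 za17) (ka xa21 ya23 za46) (ka xa21 ya23 za47) (ka xa21 ya23 za48) (ka xa21 ya23 za3) (ka xa22 ya16 za22) (ka xa21 ya23 za6) (ka xa22 ya16 za23) (ka xa22 ya16 za24) (ka xa21 ya23 za10) (ka xa21 ya23 za11) (ka xa22 ya16 za25) (ka xa22 ya16 za26) (ka xa21 ya24 za21) (ka xa21 ya23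 za15) (ka xa22 ya16 za29) (ka xa21 ya23 za21) (ka xa22 ya16 za30) (ka xa21 ya23 za24) (ka xa21 ya23 za27) (ka xa22 ya16 za31)) (@D3.rec (fun _ => Pt) (ka xa21 ya23 za30) (ka xa22 ya16 za33) (ka xa21 ya23 za32) (ka xa21 ya23 za33) (ka xa22 ya16 za34) (ka xa22 ya16 za35) (ka xa22 ya16 za36) (ka xa21 ya23 za39) (ka xa21 ya23 za40) (ka xa22 ya16 za37) (ka xa22 ya16 za38) (ka xa22 ya16 za39) (ka xa22 ya13 za37) (ka xa22 ya13 za36) (ka xa21 ya23 za44) (ka xa21 ya23 za45) (ka xa22 ya16 za43) (ka xa22 ya16 za44) (ka xa22 ya16 za45) (ka xa22 ya16 za46) (ka xa22 ya13 za45) (ka xa22 ya13 za44) (ka xa21 ya23 za50) (ka xa22 ya17 za0) (ka xa21 ya24 za2) (ka xa21 ya24 za3) (ka xa22 ya17 za2) (ka xa22 ya17 za3) (ka xa21 ya24 za6) (ka xa21 ya24 za8) (ka xa22 ya17 za5) (ka xa21 ya24 za10) (ka xa21 ya24 za11) (ka xa22 ya17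 za6) (ka xa21 ya24 za14) (ka xa21 ya24 za15) (ka xa22 ya17 za7) (ka xa22 ya17 za8) (ka xa22 ya14 za25) (ka xa21 ya24 za19) (ka xa21 ya24 za20) (ka xa22 ya17 za12) (ka xa22 ya17 za13) (ka xa21 ya24 za23) (ka xa21 ya24 za25) (ka xa21 ya24 za27) (ka xa22 ya17 za15) (ka xa21 ya24 za30) (ka xa21 ya24 za31) (ka xa22 ya17 za16) (ka xa21 ya24 za33)) (@D3.rec (fun _ => Pt) (ka xa21 ya24 za37) (ka xa21 ya24 za38) (ka xa22 ya17 za17) (ka xa22 ya17 za18) (ka xa22 ya17 za19) (ka xa22 ya14 za13) (ka xa21 ya24 za43) (ka xa21 ya24 za44) (ka xa21 ya24 za45) (ka xa22 ya17 za24) (ka xa22 ya17 za25) (ka xa22 ya17 za26) (ka xa22 ya17 za27) (ka xa21 ya24 za50) (ka xa21 ya25 za0) (ka xa21 ya25 za3) (ka xa21 ya25 za4) (ka xa22 ya17 za30) (ka xa21 ya25 za7) (ka xa21 ya25 za10) (ka xa22 ya17 za31) (ka xa21 ya25 za13) (ka xa21 ya25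 za15) (ka xa22 ya17 za33) (ka xa21 ya25 za17) (ka xa21 ya25 za20) (ka xa21 ya25 za22) (ka xa22 ya17 za36) (ka xa22 ya17 za37) (ka xa21 ya25 za25) (ka xa21 ya25 za26) (ka xa22 ya17 za39) (ka xa22 ya17 za40) (ka xa22 ya17 za41) (ka xa22 ya17 za42) (ka xa21 ya25 za31) (ka xa21 ya25 za33) (ka xa21 ya25 za34) (ka xa22 ya17 za46) (ka xa21 ya25 za36) (ka xa22 ya17 za47) (ka xa21 ya25 za38) (ka xa21 ya25 za39) (ka xa22 ya17 za48) (ka xa21 ya25 za42) (ka xa21 ya25 za45) (ka xa22 ya17 za49) (ka xa21 ya25 za47) (ka xa21 ya25 za49) (ka xa22 ya18 za0) (ka xa21 ya26 za0)) (@D3.rec (fun _ => Pt) (ka xa21 ya26 za5) (ka xa22 ya18 za1) (ka xa22 ya18 za2) (ka xa21 ya26 za8) (ka xa21 ya26 za9) (ka xa22 ya18 za5) (ka xa21 ya26 za13) (ka xa22 ya18 za6) (ka xa21 ya26 za15) (ka xa22 ya18 za7) (ka xa22 ya18 za8) (ka xa21 ya26 za18)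 (ka xa21 ya26 za19) (ka xa22 ya18 za11) (ka xa22 ya18 za12) (ka xa21 ya26 za22) (ka xa21 ya26 za23) (ka xa22 ya18 za14) (ka xa22 ya18 za15) (ka xa21 ya26 za27) (ka xa21 ya26 za28) (ka xa22 ya18 za16) (ka xa21 ya26 za31) (ka xa21 ya26 za32) (ka xa22 ya18 za17) (ka xa21 ya26 za36) (ka xa21 ya26 za37) (ka xa22 ya18 za18) (ka xa22 ya18 za19) (ka xa22 ya18 za20) (ka xa22 ya18 za21) (ka xa21 ya26 za43) (ka xa21 ya26 za44) (ka xa21 ya26 za45) (ka xa21 ya26 za46) (ka xa22 ya18 za25) (ka xa22 ya18 za26) (ka xa21 ya26 za49) (ka xa21 ya26 za50) (ka xa22 ya18 za28) (ka xa22 ya18 za29) (ka xa22 ya10 za41) (ka xa22 ya0 za3) (ka xa22 ya0 za4) (ka xa22 ya18 za32) (ka xa22 ya18 za33) (ka xa22 ya0 za6) (ka xa22 ya18 za35) (ka xa22 ya0 za8) (ka xa22 ya0 za9) (ka xa22 ya18 za37)) (@D3.rec (fun _ => Pt) (ka xa22 ya0 za11) (ka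 xa22 ya0 za14) (ka xa22 ya0 za15) (ka xa22 ya18 za38) (ka xa22 ya0 za19) (ka xa22 ya0 za21) (ka xa22 ya0 za23) (ka xa22 ya0 za26) (ka xa22 ya0 za27) (ka xa22 ya18 za39) (ka xa22 ya0 za30) (ka xa22 ya18 za40) (ka xa22 ya0 za33) (ka xa22 ya0 za35) (ka xa22 ya11 za14) (ka xa22 ya0 za38) (ka xa22 ya0 za40) (ka xa22 ya18 za44) (ka xa22 ya0 za42) (ka xa22 ya0 za43) (ka xa22 ya18 za46) (ka xa22 ya18 za47) (ka xa22 ya0 za46) (ka xa22 ya0 za49) (ka xa22 ya0 za50) (ka xa22 ya18 za49) (ka xa22 ya18 za50) (ka xa22 ya1 za3) (ka xa22 ya1 za43) (ka xa22 ya1 za7) (ka xa22 ya1 za44) (ka xa22 ya1 za12) (ka xa22 ya1 za14) (ka xa22 ya1 za15) (ka xa22 ya19 za1) (ka xa22 ya1 za17) (ka xa22 ya1 za18) (ka xa22 ya19 za2) (ka xa22 ya19 za3) (ka xa22 ya19 za4) (ka xa22 ya1 za23) (ka xa22 ya1 za24) (ka xa22 ya19 za8) (ka xa22 ya1 za26)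 (ka xa22 ya1 za27) (ka xa22 ya19 za10) (ka xa22 ya19 za11) (ka xa22 ya11 za47) (ka xa22 ya1 za32) (ka xa22 ya1 za33) (ka xa22 ya1 za34)) (@D3.rec (fun _ => Pt) (ka xa22 ya1 za35) (ka xa22 ya19 za15) (ka xa22 ya19 za16) (ka xa22 ya1 za45) (ka xa22 ya1 za42) (ka xa22 ya1 za47) (ka xa22 ya1 za49) (ka xa22 ya2 za2) (ka xa22 ya2 za3) (ka xa22 ya19 za20) (ka xa22 ya19 za21) (ka xa22 ya2 za7) (ka xa22 ya19 za23) (ka xa22 ya2 za9) (ka xa22 ya2 za14) (ka xa22 ya2 za17) (ka xa22 ya2 za19) (ka xa22 ya2 za20) (ka xa22 ya19 za26) (ka xa22 ya2 za23) (ka xa22 ya19 za27) (ka xa22 ya2 za25) (ka xa22 ya19 za28) (ka xa22 ya2 za27) (ka xa22 ya2 za29) (ka xa22 ya2 za31) (ka xa22 ya12 za26) (ka xa22 ya2 za35) (ka xa22 ya12 za28) (ka xa22 ya2 za38) (ka xa22 ya2 za39) (ka xa22 ya19 za34) (ka xa22 ya2 za41) (ka xa22 ya19 za35) (ka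 xa22 ya2 za43) (ka xa22 ya2 za45) (ka xa22 ya2 za48) (ka xa22 ya2 za50) (ka xa22 ya3 za1) (ka xa22 ya12 za39) (ka xa22 ya3 za4) (ka xa22 ya3 za5) (ka xa22 ya19 za40) (ka xa22 ya3 za8) (ka xa22 ya3 za10) (ka xa22 ya3 za11) (ka xa22 ya19 za42) (ka xa22 ya3 za14) (ka xa22 ya3 za17) (ka xa22 ya3 za19) (ka xa22 ya12 za50)) (@D3.rec (fun _ => Pt) (ka xa22 ya3 za22) (ka xa22 ya3 za24) (ka xa22 ya13 za2) (ka xa22 ya3 za27) (ka xa22 ya3 za29) (ka xa22 ya13 za5) (ka xa22 ya13 za6) (ka xa22 ya3 za33) (ka xa22 ya13 za8) (ka xa22 ya3 za36) (ka xa22 ya3 za37) (ka xa22 ya20 za1) (ka xa22 ya20 za2) (ka xa22 ya3 za40) (ka xa22 ya3 za42) (ka xa22 ya20 za4) (ka xa22 ya3 za44) (ka xa22 ya3 za46) (ka xa22 ya13 za18) (ka xa22 ya13 za19) (ka xa22 ya13 za20) (ka xa22 ya13 za21) (ka xa22 ya4 za1) (ka xa22 ya4 za4) (ka xa22 ya4 za7)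 (ka xa22 ya20 za8) (ka xa22 ya20 za9) (ka xa22 ya4 za10) (ka xa22 ya4 za11) (ka xa22 ya20 za11) (ka xa22 ya20 za12) (ka xa22 ya4 za15) (ka xa22 ya4 za16) (ka xa22 ya20 za13) (ka xa22 ya20 za14) (ka xa22 ya20 za15) (ka xa22 ya8 za13) (ka xa22 ya8 za12) (ka xa22 ya4 za20) (ka xa22 ya4 za21) (ka xa22 ya20 za19) (ka xa22 ya20 za20) (ka xa22 ya20 za21) (ka xa22 ya20 za22) (ka xa22 ya8 za21) (ka xa22 ya8 za20) (ka xa22 ya4 za26) (ka xa22 ya4 za28) (ka xa22 ya4 za29) (ka xa22 ya20 za28) (ka xa22 ya20 za29)) (@D3.rec (fun _ => Pt) (ka xa22 ya4 za32) (ka xa22 ya4 za33) (ka xa22 ya20 za31) (ka xa22 ya20 za32) (ka xa22 ya4 za36) (ka xa22 ya4 za38) (ka xa22 ya4 za39) (ka xa22 ya20 za33) (ka xa22 ya4 za42) (ka xa22 ya4 za44) (ka xa22 ya4 za45) (ka xa22 ya20 za34) (ka xa22 ya20 za35) (ka xa22 ya9 za5) (ka xa22 ya4 za49)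 (ka xa22 ya4 za50) (ka xa22 ya20 za39) (ka xa22 ya20 za40) (ka xa22 ya5 za2) (ka xa22 ya5 za5) (ka xa22 ya5 za11) (ka xa22 ya5 za12) (ka xa22 ya20 za42) (ka xa22 ya20 za43) (ka xa22 ya20 za44) (ka xa22 ya8 za38) (ka xa22 ya5 za17) (ka xa22 ya5 za18) (ka xa22 ya5 za19) (ka xa22 ya20 za49) (ka xa22 ya20 za50) (ka xa22 ya21 za0) (ka xa22 ya5 za22) (ka xa22 ya5 za25) (ka xa22 ya5 za28) (ka xa22 ya21 za2) (ka xa22 ya5 za30) (ka xa22 ya5 za32) (ka xa22 ya5 za34) (ka xa22 ya5 za36) (ka xa22 ya5 za37) (ka xa22 ya21 za7) (ka xa22 ya21 za8) (ka xa22 ya5 za40) (ka xa22 ya5 za42) (ka xa22 ya5 za43) (ka xa22 ya21 za10) (ka xa22 ya21 za11) (ka xa22 ya21 za12) (ka xa22 ya5 za47) (ka xa22 ya5 za48)) (@D3.rec (fun _ => Pt) (ka xa22 ya21 za14) (ka xa22 ya21 za15) (ka xa22 ya21 za16) (ka xa22 ya6 za1) (ka xa22 ya6 za3) (ka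 xa22 ya6 za4) (ka xa22 ya21 za18) (ka xa22 ya21 za19) (ka xa22 ya6 za7) (ka xa22 ya6 za8) (ka xa22 ya21 za22) (ka xa22 ya6 za12) (ka xa22 ya6 za15) (ka xa22 ya6 za16) (ka xa22 ya21 za24) (ka xa22 ya21 za25) (ka xa22 ya6 za20) (ka xa22 ya6 za21) (ka xa22 ya6 za22) (ka xa22 ya21 za28) (ka xa22 ya21 za29) (ka xa22 ya21 za30) (ka xa22 ya15 za22) (ka xa22 ya6 za27) (ka xa22 ya6 za28) (ka xa22 ya21 za33) (ka xa22 ya6 za30) (ka xa22 ya6 za31) (ka xa22 ya21 za34) (ka xa22 ya21 za35) (ka xa22 ya21 za36) (ka xa22 ya6 za35) (ka xa22 ya6 za36) (ka xa22 ya21 za40) (ka xa22 ya21 za41) (ka xa22 ya6 za39) (ka xa22 ya6 za43) (ka xa22 ya6 za45) (ka xa22 ya15 za38) (ka xa22 ya6 za48) (ka xa22 ya6 za49) (ka xa22 ya21 za47) (ka xa22 ya7 za1) (ka xa22 ya21 za48) (ka xa22 ya7 za4) (ka xa22 ya7 za5) (ka xa22 ya7 za6) (ka xa22 ya21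 za50) (ka xa22 ya22 za0) (ka xa22 ya15 za49) (ka xa22 ya7 za9)) (@D3.rec (fun _ => Pt) (ka xa22 ya7 za10) (ka xa22 ya22 za2) (ka xa22 ya22 za3) (ka xa22 ya7 za12) (ka xa22 ya7 za13) (ka xa22 ya22 za5) (ka xa22 ya7 za15) (ka xa22 ya7 za16) (ka xa22 ya22 za6) (ka xa22 ya7 za19) (ka xa22 ya7 za22) (ka xa22 ya7 za23) (ka xa22 ya7 za25) (ka xa22 ya7 za26) (ka xa22 ya22 za9) (ka xa22 ya22 za10) (ka xa22 ya7 za29) (ka xa22 ya7 za30) (ka xa22 ya22 za11) (ka xa22 ya22 za12) (ka xa22 ya22 za13) (ka xa22 ya22 za14) (ka xa22 ya7 za35) (ka xa22 ya7 za37) (ka xa22 ya7 za38) (ka xa22 ya7 za41) (ka xa22 ya7 za42) (ka xa22 ya22 za18) (ka xa22 ya22 za19) (ka xa22 ya7 za45) (ka xa22 ya7 za47) (ka xa22 ya7 za50) (ka xa22 ya22 za21) (ka xa22 ya8 za1) (ka xa22 ya8 za4) (ka xa22 ya8 za5) (ka xa22 ya8 za6) (ka xa22 ya8 za9) (ka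 xa22 ya8 za10) (ka xa22 ya8 za11) (ka xa22 ya22 za24) (ka xa22 ya22 za25) (ka xa22 ya22 za26) (ka xa22 ya8 za16) (ka xa22 ya8 za17) (ka xa22 ya8 za18) (ka xa22 ya8 za19) (ka xa22 ya22 za30) (ka xa22 ya22 za31) (ka xa22 ya22 za32) (ka xa22 ya22 za33)) (@D3.rec (fun _ => Pt) (ka xa22 ya8 za23) (ka xa22 ya17 za1) (ka xa22 ya8 za26) (ka xa22 ya8 za27) (ka xa22 ya22 za37) (ka xa22 ya8 za30) (ka xa22 ya8 za33) (ka xa22 ya8 za36) (ka xa22 ya8 za37) (ka xa22 ya22 za41) (ka xa22 ya22 za42) (ka xa22 ya17 za11) (ka xa22 ya8 za41) (ka xa22 ya8 za42) (ka xa22 ya22 za45) (ka xa22 ya8 za46) (ka xa22 ya8 za49) (ka xa22 ya9 za2) (ka xa22 ya9 za3) (ka xa22 ya9 za4) (ka xa22 ya22 za49) (ka xa22 ya22 za50) (ka xa22 ya23 za0) (ka xa22 ya17 za23) (ka xa22 ya9 za9) (ka xa22 ya9 za10) (ka xa22 ya9 za11) (ka xa22 ya9 za12) (ka xa22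 ya23 za4) (ka xa22 ya23 za5) (ka xa22 ya9 za17) (ka xa22 ya9 za20) (ka xa22 ya17 za32) (ka xa22 ya9 za23) (ka xa22 ya17 za34) (ka xa22 ya17 za35) (ka xa22 ya9 za27) (ka xa22 ya9 za28) (ka xa22 ya23 za9) (ka xa22 ya9 za31) (ka xa22 ya9 za32) (ka xa22 ya9 za33) (ka xa22 ya9 za34) (ka xa22 ya23 za11) (ka xa22 ya23 za12) (ka xa22 ya17 za45) (ka xa22 ya9 za38) (ka xa22 ya9 za40) (ka xa22 ya9 za43) (ka xa22 ya9 za46) (ka xa22 ya17 za50)) (@D3.rec (fun _ => Pt) (ka xa22 ya9 za49) (ka xa22 ya10 za1) (ka xa22 ya10 za2) (ka xa22 ya23 za18) (ka xa22 ya18 za4) (ka xa22 ya10 za5) (ka xa22 ya10 za7) (ka xa22 ya10 za9) (ka xa22 ya10 za10) (ka xa22 ya23 za22) (ka xa22 ya18 za10) (ka xa22 ya10 za13) (ka xa22 ya10 za14) (ka xa22 ya23 za24) (ka xa22 ya10 za17) (ka xa22 ya10 za18) (ka xa22 ya10 za21) (ka xa22 ya10 za24) (ka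 xa22 ya10 za27) (ka xa22 ya10 za28) (ka xa22 ya10 za29) (ka xa22 ya10 za30) (ka xa22 ya23 za27) (ka xa22 ya23 za28) (ka xa22 ya18 za24) (ka xa22 ya10 za35) (ka xa22 ya10 za36) (ka xa22 ya18 za27) (ka xa22 ya10 za39) (ka xa22 ya10 za40) (ka xa22 ya23 za32) (ka xa22 ya18 za31) (ka xa22 ya10 za44) (ka xa22 ya10 za45) (ka xa22 ya23 za35) (ka xa22 ya10 za47) (ka xa22 ya18 za36) (ka xa22 ya10 za50) (ka xa22 ya11 za3) (ka xa22 ya11 za9) (ka xa22 ya11 za11) (ka xa22 ya18 za41) (ka xa22 ya18 za42) (ka xa22 ya18 za43) (ka xa22 ya11 za17) (ka xa22 ya18 za45) (ka xa22 ya11 za20) (ka xa22 ya11 za21) (ka xa22 ya23 za41) (ka xa22 ya11 za25) (ka xa22 ya11 za26)) (@D3.rec (fun _ => Pt) (ka xa22 ya19 za0) (ka xa22 ya11 za34) (ka xa22 ya11 za37) (ka xa22 ya11 za38) (ka xa22 ya11 za39) (ka xa22 ya23 za44) (ka xa22 ya23 za45)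 (ka xa22 ya19 za7) (ka xa22 ya11 za42) (ka xa22 ya19 za9) (ka xa22 ya11 za45) (ka xa22 ya11 za46) (ka xa22 ya23 za48) (ka xa22 ya19 za13) (ka xa22 ya19 za14) (ka xa22 ya12 za1) (ka xa22 ya12 za2) (ka xa22 ya19 za17) (ka xa22 ya19 za18) (ka xa22 ya19 za19) (ka xa22 ya12 za9) (ka xa22 ya12 za10) (ka xa22 ya24 za1) (ka xa22 ya12 za12) (ka xa22 ya19 za24) (ka xa22 ya19 za25) (ka xa22 ya12 za18) (ka xa22 ya12 za20) (ka xa22 ya12 za22) (ka xa22 ya19 za29) (ka xa22 ya19 za30) (ka xa22 ya19 za31) (ka xa22 ya19 za32) (ka xa22 ya19 za33) (ka xa22 ya12 za31) (ka xa22 ya12 za33) (ka xa22 ya19 za36) (ka xa22 ya19 za37) (ka xa22 ya19 za38) (ka xa22 ya19 za39) (ka xa22 ya12 za42) (ka xa22 ya19 za41) (ka xa22 ya12 za46) (ka xa22 ya19 za43) (ka xa22 ya19 za44) (ka xa22 ya19 za45) (ka xa22 ya19 za46) (ka xa22 ya19 za47) (ka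 xa22 ya19 za48) (ka xa22 ya19 za49) (ka xa22 ya19 za50)) (@D3.rec (fun _ => Pt) (ka xa22 ya20 za0) (ka xa22 ya13 za11) (ka xa22 ya13 za12) (ka xa22 ya24 za11) (ka xa22 ya13 za15) (ka xa22 ya20 za5) (ka xa22 ya20 za6) (ka xa22 ya20 za7) (ka xa22 ya13 za25) (ka xa22 ya13 za26) (ka xa22 ya24 za14) (ka xa22 ya13 za29) (ka xa22 ya13 za30) (ka xa22 ya13 za33) (ka xa22 ya13 za34) (ka xa22 ya13 za35) (ka xa22 ya24 za16) (ka xa22 ya24 za17) (ka xa22 ya24 za18) (ka xa22 ya13 za40) (ka xa22 ya13 za41) (ka xa22 ya13 za42) (ka xa22 ya13 za43) (ka xa22 ya24 za22) (ka xa22 ya24 za23) (ka xa22 ya24 za24) (ka xa22 ya24 za25) (ka xa22 ya20 za27) (ka xa22 ya13 za49) (ka xa22 ya13 za50) (ka xa22 ya24 za29) (ka xa22 ya14 za2) (ka xa22 ya14 za3) (ka xa22 ya14 za7) (ka xa22 ya14 za11) (ka xa22 ya14 za12) (ka xa22 ya24 za32) (ka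 xa22 ya24 za33) (ka xa22 ya20 za38) (ka xa22 ya14 za16) (ka xa22 ya14 za17) (ka xa22 ya24 za36) (ka xa22 ya14 za22) (ka xa22 ya14 za23) (ka xa22 ya14 za24) (ka xa22 ya24 za38) (ka xa22 ya24 za39) (ka xa22 ya24 za40) (ka xa22 ya20 za48) (ka xa22 ya14 za29) (ka xa22 ya14 za30)) (@D3.rec (fun _ => Pt) (ka xa22 ya14 za31) (ka xa22 ya24 za44) (ka xa22 ya14 za35) (ka xa22 ya21 za3) (ka xa22 ya21 za4) (ka xa22 ya21 za5) (ka xa22 ya21 za6) (ka xa22 ya14 za41) (ka xa22 ya14 za42) (ka xa22 ya24 za47) (ka xa22 ya14 za46) (ka xa22 ya14 za47) (ka xa22 ya14 za48) (ka xa22 ya24 za49) (ka xa22 ya15 za0) (ka xa22 ya15 za1) (ka xa22 ya15 za2) (ka xa22 ya25 za0) (ka xa22 ya15 za6) (ka xa22 ya15 za7) (ka xa22 ya25 za2) (ka xa22 ya21 za21) (ka xa22 ya15 za10) (ka xa22 ya21 za23) (ka xa22 ya15 za14) (ka xa22 ya15 za15) (ka xa22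 ya25 za5) (ka xa22 ya21 za27) (ka xa22 ya15 za19) (ka xa22 ya15 za20) (ka xa22 ya15 za21) (ka xa22 ya25 za8) (ka xa22 ya21 za32) (ka xa22 ya15 za25) (ka xa22 ya15 za28) (ka xa22 ya15 za29) (ka xa22 ya15 za30) (ka xa22 ya25 za11) (ka xa22 ya25 za12) (ka xa22 ya21 za39) (ka xa22 ya15 za33) (ka xa22 ya15 za34) (ka xa22 ya25 za14) (ka xa22 ya21 za43) (ka xa22 ya21 za44) (ka xa22 ya21 za45) (ka xa22 ya21 za46) (ka xa22 ya15 za41) (ka xa22 ya15 za43) (ka xa22 ya21 za49) (ka xa22 ya15 za47)) (@D3.rec (fun _ => Pt) (ka xa22 ya15 za48) (ka xa22 ya22 za1) (ka xa22 ya16 za1) (ka xa22 ya16 za2) (ka xa22 ya25 za21) (ka xa22 ya16 za5) (ka xa22 ya16 za8) (ka xa22 ya22 za7) (ka xa22 ya22 za8) (ka xa22 ya16 za14) (ka xa22 ya16 za15) (ka xa22 ya16 za18) (ka xa22 ya16 za19) (ka xa22 ya16 za20) (ka xa22 ya16 za21) (ka xa22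 ya25 za26) (ka xa22 ya22 za16) (ka xa22 ya22 za17) (ka xa22 ya16 za27) (ka xa22 ya16 za28) (ka xa22 ya25 za28) (ka xa22 ya16 za32) (ka xa22 ya22 za22) (ka xa22 ya22 za23) (ka xa22 ya16 za40) (ka xa22 ya16 za41) (ka xa22 ya16 za42) (ka xa22 ya25 za31) (ka xa22 ya25 za32) (ka xa22 ya22 za29) (ka xa22 ya16 za47) (ka xa22 ya16 za48) (ka xa22 ya16 za49) (ka xa22 ya16 za50) (ka xa22 ya25 za35) (ka xa22 ya25 za36) (ka xa22 ya22 za36) (ka xa22 ya17 za4) (ka xa22 ya22 za38) (ka xa22 ya22 za39) (ka xa22 ya22 za40) (ka xa22 ya17 za9) (ka xa22 ya17 za10) (ka xa22 ya25 za39) (ka xa22 ya22 za44) (ka xa22 ya17 za14) (ka xa22 ya22 za46) (ka xa22 ya22 za47) (ka xa22 ya22 za48) (ka xa22 ya17 za20) (ka xa22 ya17 za21)) (@D3.rec (fun _ => Pt) (ka xa22 ya17 za22) (ka xa22 ya25 za43) (ka xa22 ya23 za2) (ka xa22 ya23 za3) (ka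 xa22 ya17 za28) (ka xa22 ya17 za29) (ka xa22 ya23 za6) (ka xa22 ya23 za7) (ka xa22 ya23 za8) (ka xa22 ya17 za38) (ka xa22 ya23 za10) (ka xa22 ya17 za43) (ka xa22 ya17 za44) (ka xa22 ya23 za13) (ka xa22 ya23 za14) (ka xa22 ya23 za15) (ka xa22 ya23 za16) (ka xa22 ya23 za17) (ka xa22 ya18 za3) (ka xa22 ya23 za19) (ka xa22 ya23 za20) (ka xa22 ya23 za21) (ka xa22 ya18 za9) (ka xa22 ya23 za23) (ka xa22 ya18 za13) (ka xa22 ya23 za25) (ka xa22 ya23 za26) (ka xa22 ya18 za22) (ka xa22 ya18 za23) (ka xa22 ya23 za29) (ka xa22 ya23 za30) (ka xa22 ya23 za31) (ka xa22 ya18 za30) (ka xa22 ya23 za33) (ka xa22 ya23 za34) (ka xa22 ya18 za34) (ka xa22 ya23 za36) (ka xa22 ya23 za37) (ka xa22 ya23 za38) (ka xa22 ya23 za39) (ka xa22 ya23 za40) (ka xa22 ya18 za48) (ka xa22 ya23 za42) (ka xa22 ya23 za43) (ka xa22 ya19 za5) (ka xa22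 ya19 za6) (ka xa22 ya23 za46) (ka xa22 ya23 za47) (ka xa22 ya19 za12) (ka xa22 ya23 za49) (ka xa22 ya23 za50)) (@D3.rec (fun _ => Pt) (ka xa22 ya24 za0) (ka xa22 ya19 za22) (ka xa22 ya24 za2) (ka xa22 ya24 za3) (ka xa22 ya24 za4) (ka xa22 ya24 za5) (ka xa22 ya24 za6) (ka xa22 ya24 za7) (ka xa22 ya24 za8) (ka xa22 ya24 za9) (ka xa22 ya24 za10) (ka xa22 ya20 za3) (ka xa22 ya24 za12) (ka xa22 ya24 za13) (ka xa22 ya20 za10) (ka xa22 ya24 za15) (ka xa22 ya20 za16) (ka xa22 ya20 za17) (ka xa22 ya20 za18) (ka xa22 ya26 za13) (ka xa22 ya26 za14) (ka xa22 ya24 za21) (ka xa22 ya20 za23) (ka xa22 ya20 za24) (ka xa22 ya20 za25) (ka xa22 ya20 za26) (ka xa22 ya26 za17) (ka xa22 ya26 za18) (ka xa22 ya24 za28) (ka xa22 ya20 za30) (ka xa22 ya24 za30) (ka xa22 ya24 za31) (ka xa22 ya20 za36) (ka xa22 ya20 za37) (ka xa22 ya26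 za21) (ka xa22 ya24 za35) (ka xa22 ya20 za41) (ka xa22 ya24 za37) (ka xa22 ya20 za45) (ka xa22 ya20 za46) (ka xa22 ya20 za47) (ka xa22 ya26 za25) (ka xa22 ya24 za42) (ka xa22 ya24 za43) (ka xa22 ya21 za1) (ka xa22 ya24 za45) (ka xa22 ya24 za46) (ka xa22 ya21 za9) (ka xa22 ya24 za48) (ka xa22 ya21 za13) (ka xa22 ya24 za50)) (@D3.rec (fun _ => Pt) (ka xa22 ya21 za17) (ka xa22 ya25 za1) (ka xa22 ya21 za20) (ka xa22 ya25 za3) (ka xa22 ya25 za4) (ka xa22 ya21 za26) (ka xa22 ya25 za6) (ka xa22 ya25 za7) (ka xa22 ya21 za31) (ka xa22 ya25 za9) (ka xa22 ya25 za10) (ka xa22 ya21 za37) (ka xa22 ya21 za38) (ka xa22 ya25 za13) (ka xa22 ya21 za42) (ka xa22 ya25 za15) (ka xa22 ya25 za16) (ka xa22 ya25 za17) (ka xa22 ya25 za18) (ka xa22 ya25 za19) (ka xa22 ya25 za20) (ka xa22 ya22 za4) (ka xa22 ya25 za22) (ka xa22 ya25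 za23) (ka xa22 ya25 za24) (ka xa22 ya25 za25) (ka xa22 ya22 za15) (ka xa22 ya25 za27) (ka xa22 ya22 za20) (ka xa22 ya25 za29) (ka xa22 ya25 za30) (ka xa22 ya22 za27) (ka xa22 ya22 za28) (ka xa22 ya25 za33) (ka xa22 ya25 za34) (ka xa22 ya22 za34) (ka xa22 ya22 za35) (ka xa22 ya25 za37) (ka xa22 ya25 za38) (ka xa22 ya22 za43) (ka xa22 ya25 za40) (ka xa22 ya25 za41) (ka xa22 ya25 za42) (ka xa22 ya23 za1) (ka xa22 ya25 za44) (ka xa22 ya25 za45) (ka xa22 ya25 za46) (ka xa22 ya25 za47) (ka xa22 ya25 za48) (ka xa22 ya25 za49) (ka xa22 ya25 za50)) (@D3.rec (fun _ => Pt) (ka xa22 ya26 za0) (ka xa22 ya26 za1) (ka xa22 ya26 za2) (ka xa22 ya26 za3) (ka xa22 ya26 za4) (ka xa22 ya26 za5) (ka xa22 ya26 za6) (ka xa22 ya26 za7) (ka xa22 ya26 za8) (ka xa22 ya26 za9) (ka xa22 ya26 za10) (ka xa22 ya26 za11) (ka xa22 ya26 za12)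 (ka xa22 ya24 za19) (ka xa22 ya24 za20) (ka xa22 ya26 za15) (ka xa22 ya26 za16) (ka xa22 ya24 za26) (ka xa22 ya24 za27) (ka xa22 ya26 za19) (ka xa22 ya26 za20) (ka xa22 ya24 za34) (ka xa22 ya26 za22) (ka xa22 ya26 za23) (ka xa22 ya26 za24) (ka xa22 ya24 za41) (ka xa22 ya26 za26) (ka xa22 ya26 za27) (ka xa22 ya26 za28) (ka xa22 ya26 za29) (ka xa22 ya26 za30) (ka xa22 ya26 za31) (ka xa22 ya26 za32) (ka xa22 ya26 za33) (ka xa22 ya26 za34) (ka xa22 ya26 za35) (ka xa22 ya26 za36) (ka xa22 ya26 za37) (ka xa22 ya26 za38) (ka xa22 ya26 za39) (ka xa22 ya26 za40) (ka xa22 ya26 za41) (ka xa22 ya26 za42) (ka xa22 ya26 za43) (ka xa22 ya26 za44) (ka xa22 ya26 za45) (ka xa22 ya26 za46) (ka xa22 ya26 za47) (ka xa22 ya26 za48) (ka xa22 ya26 za49) (ka xa22 ya26 za50))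
def f_a : Pt → Pt := @Pt.rec (fun _ => Pt) (@D1.rec (fun _ => D2 → D3 → Pt) f_a_0 f_a_1 f_a_2 f_a_3 f_a_4 f_a_5 f_a_6 f_a_7 f_a_8 f_a_9 f_a_10 f_a_11 f_a_12 f_a_13 f_a_14 f_a_15 f_a_16 f_a_17 f_a_18 f_a_19 f_a_20 f_a_21 f_a_22)
def fi_a : Pt → Pt := f_a

theorem inv_chk_a : chkInv allPts beqPt f_a fi_a = true := by decide +kernel

end

end Cfsg.Agent.Helper28.S1689
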