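import Cfsg.Agent.Lib.Helper28.S1689.Defs

set_option autoImplicit false
set_option maxRecDepth 100000
set_option linter.all false

namespace Cfsg.Agent.Helper28.S1689

open Cfsg.Agent.Helper28
open Cfsg.Spor.Fi23 (Gen)

noncomputable section

abbrev kf := Pt.mk
abbrev xf0 := D1.c0
abbrev xf1 := D1.c1
abbrev xf2 := D1.c2
abbrev xf3 := D1.c3
abbrev xf4 := D1.c4
abbrev xf5 := D1.c5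
abbrev xf6 := D1.c6
abbrev xf7 := D1.c7
abbrev xf8 := D1.c8
abbrev xf9 := D1.c9
abbrev xf10 := D1.c10
abbrev xf11 := D1.c11
abbrev xf12 := D1.c12
abbrev xf13 := D1.c13
abbrev xf14 := D1.c14
abbrev xf15 := D1.c15
abbrev xf16 := D1.c16
abbrev xf17 := D1.c17
abbrev xf18 := D1.c18
abbrev xf19 := D1.c19
abbrev xf20 := D1.c20
abbrev xf21 := D1.c21
abbrev xf22 := D1.c22
abbrev yf0 := D2.c0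
abbrev yf1 := D2.c1
abbrev yf2 := D2.c2
abbrev yf3 := D2.c3
abbrev yf4 := D2.c4
abbrev yf5 := D2.c5
abbrev yf6 := D2.c6
abbrev yf7 := D2.c7
abbrev yf8 := D2.c8
abbrev yf9 := D2.c9
abbrev yf10 := D2.c10
abbrev yf11 := D2.c11
abbrev yf12 := D2.c12
abbrev yf13 := D2.c13
abbrev yf14 := D2.c14
abbrev yf15 := D2.c15
abbrev yf16 := D2.c16
abbrev yf17 := D2.c17
abbrev yf18 := D2.c18
abbrev yf19 := D2.c19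
abbrev yf20 := D2.c20
abbrev yf21 := D2.c21
abbrev yf22 := D2.c22
abbrev yf23 := D2.c23
abbrev yf24 := D2.c24
abbrev yf25 := D2.c25
abbrev yf26 := D2.c26
abbrev zf0 := D3.c0
abbrev zf1 := D3.c1
abbrev zf2 := D3.c2
abbrev zf3 := D3.c3
abbrev zf4 := D3.c4
abbrev zf5 := D3.c5
abbrev zf6 := D3.c6
abbrev zf7 := D3.c7
abbrev zf8 := D3.c8
abbrev zf9 := D3.c9
abbrev zf10 := D3.c10
abbrev zf11 := D3.c11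
abbrev zf12 := D3.c12
abbrev zf13 := D3.c13
abbrev zf14 := D3.c14
abbrev zf15 := D3.c15
abbrev zf16 := D3.c16
abbrev zf17 := D3.c17
abbrev zf18 := D3.c18
abbrev zf19 := D3.c19
abbrev zf20 := D3.c20
abbrev zf21 := D3.c21
abbrev zf22 := D3.c22
abbrev zf23 := D3.c23
abbrev zf24 := D3.c24
abbrev zf25 := D3.c25
abbrev zf26 := D3.c26
abbrev zf27 := D3.c27
abbrev zf28 := D3.c28
abbrev zf29 := D3.c29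
abbrev zf30 := D3.c30
abbrev zf31 := D3.c31
abbrev zf32 := D3.c32
abbrev zf33 := D3.c33
abbrev zf34 := D3.c34
abbrev zf35 := D3.c35
abbrev zf36 := D3.c36
abbrev zf37 := D3.c37
abbrev zf38 := D3.c38
abbrev zf39 := D3.c39
abbrev zf40 := D3.c40
abbrev zf41 := D3.c41
abbrev zf42 := D3.c42
abbrev zf43 := D3.c43
abbrev zf44 := D3.c44
abbrev zf45 := D3.c45
abbrev zf46 := D3.c46
abbrev zf47 := D3.c47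
abbrev zf48 := D3.c48
abbrev zf49 := D3.c49
abbrev zf50 := D3.c50
def f_f_0 : D2 → D3 → Pt := @D2.rec (fun _ => D3 → Pt) (@D3.rec (fun _ => Pt) (kf xf0 yf0 zf0) (kf xf0 yf0 zf1) (kf xf0 yf0 zf3) (kf xf0 yf0 zf2) (kf xf0 yf0 zf4) (kf xf0 yf0 zf5) (kf xf0 yf0 zf6) (kf xf0 yf0 zf7) (kf xf0 yf0 zf8) (kf xf0 yf0 zf9) (kf xf0 yf0 zf10) (kf xf0 yf0 zf11) (kf xf0 yf0 zf12) (kf xf0 yf0 zf13) (kf xf0 yf0 zf14) (kf xf0 yf0 zf15) (kf xf0 yf0 zf16) (kf xf0 yf0 zf17) (kf xf0 yf0 zf25) (kf xf0 yf0 zf19) (kf xf0 yf0 zf20) (kf xf0 yf0 zf21) (kf xf0 yf0 zf22) (kf xf0 yf0 zf33) (kf xf0 yf0 zf24) (kf xf0 yf0 zf18) (kf xf0 yf0 zf37) (kf xf0 yf0 zf27) (kf xf0 yf0 zf28) (kf xf0 yf0 zf42) (kf xf0 yf0 zf30) (kf xf0 yf0 zf46) (kf xf0 yf0 zf32) (kf xf0 yf0 zf23) (kf xf0 yf0 zf50)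 (kf xf0 yf0 zf35) (kf xf0 yf0 zf36) (kf xf0 yf0 zf26) (kf xf0 yf1 zf3) (kf xf0 yf0 zf39) (kf xf0 yf1 zf8) (kf xf0 yf0 zf41) (kf xf0 yf0 zf29) (kf xf0 yf1 zf12) (kf xf0 yf0 zf44) (kf xf0 yf1 zf14) (kf xf0 yf0 zf31) (kf xf0 yf1 zf18) (kf xf0 yf0 zf48) (kf xf0 yf0 zf49) (kf xf0 yf0 zf34)) (@D3.rec (fun _ => Pt) (kf xf0 yf1 zf23) (kf xf0 yf1 zf1) (kf xf0 yf1 zf2) (kf xf0 yf0 zf38) (kf xf0 yf1 zf27) (kf xf0 yf1 zf30) (kf xf0 yf1 zf6) (kf xf0 yf1 zf33) (kf xf0 yf0 zf40) (kf xf0 yf1 zf37) (kf xf0 yf1 zf10) (kf xf0 yf1 zf11) (kf xf0 yf0 zf43) (kf xf0 yf1 zf42) (kf xf0 yf0 zf45) (kf xf0 yf1 zf46) (kf xf0 yf1 zf47) (kf xf0 yf1 zf17) (kf xf0 yf0 zf47) (kf xf0 yf2 zf1) (kf xf0 yf1 zf20) (kf xf0 yf1 zf21) (kf xf0 yf1 zf22) (kf xf0 yf1 zf0) (kf xf0 yf2 zf6) (kf xf0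 yf1 zf25) (kf xf0 yf1 zf26) (kf xf0 yf1 zf4) (kf xf0 yf2 zf10) (kf xf0 yf2 zf14) (kf xf0 yf1 zf5) (kf xf0 yf2 zf18) (kf xf0 yf1 zf32) (kf xf0 yf1 zf7) (kf xf0 yf2 zf23) (kf xf0 yf2 zf24) (kf xf0 yf1 zf36) (kf xf0 yf1 zf9) (kf xf0 yf2 zf29) (kf xf0 yf1 zf39) (kf xf0 yf1 zf40) (kf xf0 yf1 zf41) (kf xf0 yf1 zf13) (kf xf0 yf2 zf34) (kf xf0 yf1 zf44) (kf xf0 yf1 zf45) (kf xf0 yf1 zf15) (kf xf0 yf1 zf16) (kf xf0 yf2 zf42) (kf xf0 yf2 zf43) (kf xf0 yf1 zf50)) (@D3.rec (fun _ => Pt) (kf xf0 yf2 zf0) (kf xf0 yf1 zf19) (kf xf0 yf2 zf48) (kf xf0 yf3 zf0) (kf xf0 yf2 zf4) (kf xf0 yf2 zf5) (kf xf0 yf1 zf24) (kf xf0 yf3 zf3) (kf xf0 yf2 zf8) (kf xf0 yf2 zf9) (kf xf0 yf1 zf28) (kf xf0 yf2 zf11) (kf xf0 yf3 zf9) (kf xf0 yf3 zf12) (kf xf0 yf1 zf29) (kf xf0 yf3 zf17) (kf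 xf0 yf3 zf18) (kf xf0 yf2 zf17) (kf xf0 yf1 zf31) (kf xf0 yf3 zf23) (kf xf0 yf2 zf20) (kf xf0 yf2 zf21) (kf xf0 yf2 zf22) (kf xf0 yf1 zf34) (kf xf0 yf1 zf35) (kf xf0 yf3 zf33) (kf xf0 yf3 zf34) (kf xf0 yf2 zf27) (kf xf0 yf2 zf28) (kf xf0 yf1 zf38) (kf xf0 yf3 zf39) (kf xf0 yf3 zf42) (kf xf0 yf2 zf32) (kf xf0 yf2 zf33) (kf xf0 yf1 zf43) (kf xf0 yf3 zf45) (kf xf0 yf3 zf48) (kf xf0 yf2 zf37) (kf xf0 yf2 zf38) (kf xf0 yf2 zf39) (kf xf0 yf2 zf40) (kf xf0 yf2 zf41) (kf xf0 yf1 zf48) (kf xf0 yf1 zf49) (kf xf0 yf4 zf8) (kf xf0 yf4 zf9) (kf xf0 yf2 zf46) (kf xf0 yf2 zf47) (kf xf0 yf2 zf2) (kf xf0 yf4 zf15) (kf xf0 yf4 zf19)) (@D3.rec (fun _ => Pt) (kf xf0 yf2 zf3) (kf xf0 yf3 zf1) (kf xf0 yf3 zf2) (kf xf0 yf2 zf7) (kf xf0 yf3 zf4) (kf xf0 yf4 zf24) (kf xf0 yf3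 zf6) (kf xf0 yf3 zf7) (kf xf0 yf4 zf31) (kf xf0 yf2 zf12) (kf xf0 yf3 zf10) (kf xf0 yf4 zf32) (kf xf0 yf2 zf13) (kf xf0 yf4 zf37) (kf xf0 yf4 zf38) (kf xf0 yf3 zf15) (kf xf0 yf3 zf16) (kf xf0 yf2 zf15) (kf xf0 yf2 zf16) (kf xf0 yf4 zf48) (kf xf0 yf4 zf49) (kf xf0 yf3 zf21) (kf xf0 yf3 zf22) (kf xf0 yf2 zf19) (kf xf0 yf5 zf3) (kf xf0 yf3 zf25) (kf xf0 yf5 zf7) (kf xf0 yf5 zf8) (kf xf0 yf3 zf28) (kf xf0 yf3 zf29) (kf xf0 yf3 zf30) (kf xf0 yf3 zf31) (kf xf0 yf3 zf32) (kf xf0 yf2 zf25) (kf xf0 yf2 zf26) (kf xf0 yf5 zf19) (kf xf0 yf5 zf20) (kf xf0 yf3 zf37) (kf xf0 yf3 zf38) (kf xf0 yf2 zf30) (kf xf0 yf5 zf26) (kf xf0 yf5 zf30) (kf xf0 yf2 zf31) (kf xf0 yf3 zf43) (kf xf0 yf3 zf44) (kf xf0 yf2 zf35) (kf xf0 yf3 zf46) (kf xf0 yf5 zf35) (kf xf0 yf2 zf36) (kf xf0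 yf5 zf38) (kf xf0 yf5 zf39)) (@D3.rec (fun _ => Pt) (kf xf0 yf5 zf40) (kf xf0 yf4 zf1) (kf xf0 yf4 zf2) (kf xf0 yf4 zf3) (kf xf0 yf4 zf4) (kf xf0 yf4 zf5) (kf xf0 yf4 zf6) (kf xf0 yf4 zf7) (kf xf0 yf2 zf44) (kf xf0 yf2 zf45) (kf xf0 yf6 zf3) (kf xf0 yf6 zf4) (kf xf0 yf6 zf10) (kf xf0 yf4 zf13) (kf xf0 yf4 zf14) (kf xf0 yf2 zf49) (kf xf0 yf6 zf16) (kf xf0 yf6 zf14) (kf xf0 yf6 zf19) (kf xf0 yf2 zf50) (kf xf0 yf4 zf20) (kf xf0 yf4 zf21) (kf xf0 yf4 zf22) (kf xf0 yf6 zf26) (kf xf0 yf3 zf5) (kf xf0 yf4 zf25) (kf xf0 yf6 zf27) (kf xf0 yf4 zf27) (kf xf0 yf6 zf32) (kf xf0 yf4 zf29) (kf xf0 yf6 zf36) (kf xf0 yf3 zf8) (kf xf0 yf3 zf11) (kf xf0 yf4 zf33) (kf xf0 yf4 zf34) (kf xf0 yf4 zf35) (kf xf0 yf4 zf36) (kf xf0 yf3 zf13) (kf xf0 yf3 zf14) (kf xf0 yf6 zf47) (kf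 xf0 yf6 zf48) (kf xf0 yf6 zf49) (kf xf0 yf7 zf3) (kf xf0 yf4 zf43) (kf xf0 yf4 zf44) (kf xf0 yf4 zf45) (kf xf0 yf4 zf46) (kf xf0 yf4 zf47) (kf xf0 yf3 zf19) (kf xf0 yf3 zf20) (kf xf0 yf7 zf14)) (@D3.rec (fun _ => Pt) (kf xf0 yf7 zf15) (kf xf0 yf5 zf1) (kf xf0 yf5 zf2) (kf xf0 yf3 zf24) (kf xf0 yf7 zf21) (kf xf0 yf7 zf25) (kf xf0 yf7 zf27) (kf xf0 yf3 zf26) (kf xf0 yf3 zf27) (kf xf0 yf7 zf29) (kf xf0 yf7 zf30) (kf xf0 yf7 zf31) (kf xf0 yf5 zf12) (kf xf0 yf5 zf13) (kf xf0 yf5 zf14) (kf xf0 yf5 zf15) (kf xf0 yf5 zf16) (kf xf0 yf5 zf17) (kf xf0 yf5 zf18) (kf xf0 yf3 zf35) (kf xf0 yf3 zf36) (kf xf0 yf7 zf45) (kf xf0 yf7 zf46) (kf xf0 yf8 zf1) (kf xf0 yf5 zf24) (kf xf0 yf5 zf25) (kf xf0 yf3 zf40) (kf xf0 yf8 zf7) (kf xf0 yf8 zf5) (kf xf0 yf8 zf10) (kf xf0 yf3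 zf41) (kf xf0 yf5 zf31) (kf xf0 yf5 zf32) (kf xf0 yf5 zf33) (kf xf0 yf8 zf17) (kf xf0 yf3 zf47) (kf xf0 yf5 zf36) (kf xf0 yf8 zf18) (kf xf0 yf3 zf49) (kf xf0 yf3 zf50) (kf xf0 yf4 zf0) (kf xf0 yf8 zf22) (kf xf0 yf8 zf23) (kf xf0 yf8 zf24) (kf xf0 yf8 zf25) (kf xf0 yf8 zf26) (kf xf0 yf5 zf46) (kf xf0 yf5 zf47) (kf xf0 yf5 zf48) (kf xf0 yf5 zf49) (kf xf0 yf5 zf50)) (@D3.rec (fun _ => Pt) (kf xf0 yf6 zf0) (kf xf0 yf6 zf1) (kf xf0 yf6 zf2) (kf xf0 yf4 zf10) (kf xf0 yf4 zf11) (kf xf0 yf8 zf49) (kf xf0 yf8 zf45) (kf xf0 yf9 zf1) (kf xf0 yf8 zf47) (kf xf0 yf9 zf5) (kf xf0 yf4 zf12) (kf xf0 yf6 zf11) (kf xf0 yf6 zf12) (kf xf0 yf9 zf11) (kf xf0 yf4 zf17) (kf xf0 yf9 zf15) (kf xf0 yf4 zf16) (kf xf0 yf9 zf12) (kf xf0 yf9 zf18) (kf xf0 yf4 zf18) (kf xf0 yf6 zf20)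 (kf xf0 yf6 zf21) (kf xf0 yf6 zf22) (kf xf0 yf9 zf23) (kf xf0 yf6 zf24) (kf xf0 yf9 zf27) (kf xf0 yf4 zf23) (kf xf0 yf4 zf26) (kf xf0 yf6 zf28) (kf xf0 yf6 zf29) (kf xf0 yf6 zf30) (kf xf0 yf9 zf34) (kf xf0 yf4 zf28) (kf xf0 yf6 zf33) (kf xf0 yf9 zf38) (kf xf0 yf9 zf39) (kf xf0 yf4 zf30) (kf xf0 yf6 zf37) (kf xf0 yf6 zf38) (kf xf0 yf6 zf39) (kf xf0 yf6 zf40) (kf xf0 yf9 zf44) (kf xf0 yf6 zf42) (kf xf0 yf6 zf43) (kf xf0 yf6 zf44) (kf xf0 yf6 zf45) (kf xf0 yf6 zf46) (kf xf0 yf4 zf39) (kf xf0 yf4 zf40) (kf xf0 yf4 zf41) (kf xf0 yf6 zf50)) (@D3.rec (fun _ => Pt) (kf xf0 yf10 zf4) (kf xf0 yf10 zf5) (kf xf0 yf10 zf6) (kf xf0 yf4 zf42) (kf xf0 yf10 zf12) (kf xf0 yf10 zf13) (kf xf0 yf10 zf14) (kf xf0 yf7 zf7) (kf xf0 yf7 zf8) (kf xf0 yf7 zf9) (kf xf0 yf7 zf10)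 (kf xf0 yf7 zf11) (kf xf0 yf7 zf12) (kf xf0 yf7 zf13) (kf xf0 yf4 zf50) (kf xf0 yf5 zf0) (kf xf0 yf10 zf27) (kf xf0 yf10 zf28) (kf xf0 yf10 zf34) (kf xf0 yf7 zf19) (kf xf0 yf7 zf20) (kf xf0 yf5 zf4) (kf xf0 yf10 zf40) (kf xf0 yf10 zf38) (kf xf0 yf10 zf44) (kf xf0 yf5 zf5) (kf xf0 yf10 zf46) (kf xf0 yf5 zf6) (kf xf0 yf7 zf28) (kf xf0 yf5 zf9) (kf xf0 yf5 zf10) (kf xf0 yf5 zf11) (kf xf0 yf11 zf0) (kf xf0 yf11 zf1) (kf xf0 yf11 zf2) (kf xf0 yf11 zf3) (kf xf0 yf11 zf4) (kf xf0 yf7 zf37) (kf xf0 yf7 zf38) (kf xf0 yf7 zf39) (kf xf0 yf7 zf40) (kf xf0 yf7 zf41) (kf xf0 yf7 zf42) (kf xf0 yf7 zf43) (kf xf0 yf7 zf44) (kf xf0 yf5 zf21) (kf xf0 yf5 zf22) (kf xf0 yf11 zf26) (kf xf0 yf11 zf22) (kf xf0 yf11 zf29) (kf xf0 yf11 zf24)) (@D3.rec (fun _ => Pt) (kf xf0 yf11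 zf33) (kf xf0 yf5 zf23) (kf xf0 yf8 zf2) (kf xf0 yf8 zf3) (kf xf0 yf11 zf39) (kf xf0 yf5 zf28) (kf xf0 yf11 zf43) (kf xf0 yf5 zf27) (kf xf0 yf11 zf40) (kf xf0 yf11 zf46) (kf xf0 yf5 zf29) (kf xf0 yf8 zf11) (kf xf0 yf8 zf12) (kf xf0 yf8 zf13) (kf xf0 yf12 zf0) (kf xf0 yf8 zf15) (kf xf0 yf12 zf4) (kf xf0 yf5 zf34) (kf xf0 yf5 zf37) (kf xf0 yf8 zf19) (kf xf0 yf8 zf20) (kf xf0 yf8 zf21) (kf xf0 yf5 zf41) (kf xf0 yf5 zf42) (kf xf0 yf5 zf43) (kf xf0 yf5 zf44) (kf xf0 yf5 zf45) (kf xf0 yf12 zf10) (kf xf0 yf12 zf11) (kf xf0 yf12 zf12) (kf xf0 yf12 zf13) (kf xf0 yf12 zf15) (kf xf0 yf12 zf16) (kf xf0 yf12 zf17) (kf xf0 yf8 zf34) (kf xf0 yf8 zf35) (kf xf0 yf8 zf36) (kf xf0 yf8 zf37) (kf xf0 yf8 zf38) (kf xf0 yf12 zf33) (kf xf0 yf8 zf40) (kf xf0 yf8 zf41) (kf xf0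 yf8 zf42) (kf xf0 yf8 zf43) (kf xf0 yf12 zf41) (kf xf0 yf6 zf6) (kf xf0 yf12 zf44) (kf xf0 yf6 zf8) (kf xf0 yf12 zf48) (kf xf0 yf6 zf5) (kf xf0 yf12 zf42)) (@D3.rec (fun _ => Pt) (kf xf0 yf13 zf2) (kf xf0 yf6 zf7) (kf xf0 yf12 zf45) (kf xf0 yf13 zf6) (kf xf0 yf13 zf7) (kf xf0 yf6 zf9) (kf xf0 yf9 zf6) (kf xf0 yf9 zf7) (kf xf0 yf13 zf12) (kf xf0 yf9 zf9) (kf xf0 yf13 zf16) (kf xf0 yf6 zf13) (kf xf0 yf6 zf17) (kf xf0 yf13 zf20) (kf xf0 yf13 zf21) (kf xf0 yf6 zf15) (kf xf0 yf13 zf17) (kf xf0 yf13 zf25) (kf xf0 yf6 zf18) (kf xf0 yf9 zf19) (kf xf0 yf9 zf20) (kf xf0 yf9 zf21) (kf xf0 yf13 zf31) (kf xf0 yf6 zf23) (kf xf0 yf9 zf24) (kf xf0 yf13 zf35) (kf xf0 yf13 zf36) (kf xf0 yf6 zf25) (kf xf0 yf9 zf28) (kf xf0 yf9 zf29) (kf xf0 yf9 zf30) (kf xf0 yf9 zf31) (kf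 xf0 yf13 zf41) (kf xf0 yf13 zf42) (kf xf0 yf6 zf31) (kf xf0 yf9 zf35) (kf xf0 yf13 zf46) (kf xf0 yf13 zf47) (kf xf0 yf6 zf34) (kf xf0 yf6 zf35) (kf xf0 yf13 zf49) (kf xf0 yf9 zf41) (kf xf0 yf13 zf50) (kf xf0 yf9 zf43) (kf xf0 yf6 zf41) (kf xf0 yf14 zf3) (kf xf0 yf14 zf4) (kf xf0 yf14 zf5) (kf xf0 yf9 zf48) (kf xf0 yf9 zf49) (kf xf0 yf9 zf50)) (@D3.rec (fun _ => Pt) (kf xf0 yf10 zf0) (kf xf0 yf10 zf1) (kf xf0 yf10 zf2) (kf xf0 yf10 zf3) (kf xf0 yf7 zf0) (kf xf0 yf7 zf1) (kf xf0 yf7 zf2) (kf xf0 yf10 zf7) (kf xf0 yf14 zf18) (kf xf0 yf14 zf19) (kf xf0 yf14 zf20) (kf xf0 yf14 zf28) (kf xf0 yf7 zf4) (kf xf0 yf7 zf5) (kf xf0 yf7 zf6) (kf xf0 yf14 zf30) (kf xf0 yf14 zf31) (kf xf0 yf14 zf32) (kf xf0 yf14 zf33) (kf xf0 yf14 zf34) (kf xf0 yf10 zf20) (kf xf0 yf10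 zf21) (kf xf0 yf10 zf22) (kf xf0 yf10 zf23) (kf xf0 yf10 zf24) (kf xf0 yf10 zf25) (kf xf0 yf10 zf26) (kf xf0 yf7 zf16) (kf xf0 yf7 zf17) (kf xf0 yf15 zf3) (kf xf0 yf14 zf50) (kf xf0 yf15 zf6) (kf xf0 yf15 zf1) (kf xf0 yf15 zf10) (kf xf0 yf7 zf18) (kf xf0 yf10 zf35) (kf xf0 yf10 zf36) (kf xf0 yf15 zf16) (kf xf0 yf7 zf23) (kf xf0 yf15 zf20) (kf xf0 yf7 zf22) (kf xf0 yf15 zf17) (kf xf0 yf15 zf24) (kf xf0 yf15 zf25) (kf xf0 yf7 zf24) (kf xf0 yf10 zf45) (kf xf0 yf7 zf26) (kf xf0 yf15 zf31) (kf xf0 yf10 zf48) (kf xf0 yf10 zf49) (kf xf0 yf10 zf50)) (@D3.rec (fun _ => Pt) (kf xf0 yf7 zf32) (kf xf0 yf7 zf33) (kf xf0 yf7 zf34) (kf xf0 yf7 zf35) (kf xf0 yf7 zf36) (kf xf0 yf15 zf36) (kf xf0 yf15 zf37) (kf xf0 yf15 zf38) (kf xf0 yf15 zf39) (kf xf0 yf15 zf41) (kf xf0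 yf15 zf42) (kf xf0 yf15 zf43) (kf xf0 yf11 zf12) (kf xf0 yf11 zf13) (kf xf0 yf11 zf14) (kf xf0 yf11 zf15) (kf xf0 yf16 zf7) (kf xf0 yf11 zf17) (kf xf0 yf11 zf18) (kf xf0 yf11 zf19) (kf xf0 yf11 zf20) (kf xf0 yf16 zf15) (kf xf0 yf7 zf48) (kf xf0 yf16 zf18) (kf xf0 yf7 zf50) (kf xf0 yf16 zf22) (kf xf0 yf7 zf47) (kf xf0 yf16 zf16) (kf xf0 yf16 zf27) (kf xf0 yf7 zf49) (kf xf0 yf16 zf19) (kf xf0 yf16 zf31) (kf xf0 yf16 zf32) (kf xf0 yf8 zf0) (kf xf0 yf11 zf34) (kf xf0 yf11 zf35) (kf xf0 yf16 zf37) (kf xf0 yf11 zf37) (kf xf0 yf16 zf41) (kf xf0 yf8 zf4) (kf xf0 yf8 zf8) (kf xf0 yf16 zf45) (kf xf0 yf16 zf46) (kf xf0 yf8 zf6) (kf xf0 yf16 zf42) (kf xf0 yf16 zf50) (kf xf0 yf8 zf9) (kf xf0 yf11 zf47) (kf xf0 yf11 zf48) (kf xf0 yf11 zf49) (kf xf0 yf17 zf5)) (@D3.rec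 (fun _ => Pt) (kf xf0 yf8 zf14) (kf xf0 yf12 zf1) (kf xf0 yf17 zf9) (kf xf0 yf17 zf10) (kf xf0 yf8 zf16) (kf xf0 yf12 zf5) (kf xf0 yf12 zf6) (kf xf0 yf12 zf7) (kf xf0 yf12 zf8) (kf xf0 yf12 zf9) (kf xf0 yf8 zf27) (kf xf0 yf8 zf28) (kf xf0 yf8 zf29) (kf xf0 yf8 zf30) (kf xf0 yf12 zf14) (kf xf0 yf8 zf31) (kf xf0 yf8 zf32) (kf xf0 yf8 zf33) (kf xf0 yf17 zf19) (kf xf0 yf17 zf21) (kf xf0 yf17 zf22) (kf xf0 yf17 zf23) (kf xf0 yf17 zf24) (kf xf0 yf17 zf26) (kf xf0 yf17 zf28) (kf xf0 yf17 zf29) (kf xf0 yf17 zf30) (kf xf0 yf17 zf43) (kf xf0 yf12 zf28) (kf xf0 yf12 zf29) (kf xf0 yf17 zf46) (kf xf0 yf12 zf31) (kf xf0 yf17 zf49) (kf xf0 yf8 zf39) (kf xf0 yf12 zf34) (kf xf0 yf12 zf35) (kf xf0 yf18 zf4) (kf xf0 yf12 zf37) (kf xf0 yf18 zf7) (kf xf0 yf12 zf39) (kf xf0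 yf18 zf11) (kf xf0 yf8 zf44) (kf xf0 yf8 zf50) (kf xf0 yf18 zf16) (kf xf0 yf8 zf46) (kf xf0 yf9 zf2) (kf xf0 yf18 zf20) (kf xf0 yf18 zf21) (kf xf0 yf8 zf48) (kf xf0 yf18 zf12) (kf xf0 yf18 zf13)) (@D3.rec (fun _ => Pt) (kf xf0 yf18 zf27) (kf xf0 yf18 zf28) (kf xf0 yf9 zf0) (kf xf0 yf13 zf3) (kf xf0 yf18 zf33) (kf xf0 yf18 zf35) (kf xf0 yf9 zf3) (kf xf0 yf9 zf4) (kf xf0 yf13 zf8) (kf xf0 yf13 zf9) (kf xf0 yf13 zf10) (kf xf0 yf18 zf43) (kf xf0 yf9 zf8) (kf xf0 yf13 zf13) (kf xf0 yf18 zf47) (kf xf0 yf18 zf48) (kf xf0 yf9 zf10) (kf xf0 yf9 zf16) (kf xf0 yf19 zf2) (kf xf0 yf19 zf3) (kf xf0 yf9 zf13) (kf xf0 yf9 zf14) (kf xf0 yf19 zf6) (kf xf0 yf18 zf50) (kf xf0 yf19 zf0) (kf xf0 yf9 zf17) (kf xf0 yf13 zf26) (kf xf0 yf13 zf27) (kf xf0 yf13 zf28) (kf xf0 yf19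 zf12) (kf xf0 yf19 zf13) (kf xf0 yf9 zf22) (kf xf0 yf13 zf32) (kf xf0 yf19 zf17) (kf xf0 yf19 zf18) (kf xf0 yf9 zf25) (kf xf0 yf9 zf26) (kf xf0 yf19 zf20) (kf xf0 yf13 zf38) (kf xf0 yf19 zf22) (kf xf0 yf19 zf23) (kf xf0 yf9 zf32) (kf xf0 yf9 zf33) (kf xf0 yf19 zf27) (kf xf0 yf13 zf44) (kf xf0 yf19 zf28) (kf xf0 yf9 zf36) (kf xf0 yf9 zf37) (kf xf0 yf13 zf48) (kf xf0 yf9 zf40) (kf xf0 yf9 zf42)) (@D3.rec (fun _ => Pt) (kf xf0 yf19 zf32) (kf xf0 yf19 zf33) (kf xf0 yf14 zf2) (kf xf0 yf9 zf45) (kf xf0 yf9 zf46) (kf xf0 yf9 zf47) (kf xf0 yf19 zf38) (kf xf0 yf19 zf39) (kf xf0 yf19 zf40) (kf xf0 yf19 zf41) (kf xf0 yf14 zf10) (kf xf0 yf14 zf11) (kf xf0 yf14 zf12) (kf xf0 yf14 zf13) (kf xf0 yf14 zf14) (kf xf0 yf14 zf15) (kf xf0 yf14 zf16) (kf xf0 yf14 zf17) (kf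 xf0 yf10 zf8) (kf xf0 yf10 zf9) (kf xf0 yf10 zf10) (kf xf0 yf20 zf10) (kf xf0 yf14 zf22) (kf xf0 yf20 zf5) (kf xf0 yf20 zf6) (kf xf0 yf20 zf16) (kf xf0 yf20 zf8) (kf xf0 yf20 zf20) (kf xf0 yf10 zf11) (kf xf0 yf14 zf29) (kf xf0 yf10 zf15) (kf xf0 yf10 zf16) (kf xf0 yf10 zf17) (kf xf0 yf10 zf18) (kf xf0 yf10 zf19) (kf xf0 yf20 zf24) (kf xf0 yf20 zf25) (kf xf0 yf20 zf26) (kf xf0 yf20 zf28) (kf xf0 yf20 zf29) (kf xf0 yf20 zf30) (kf xf0 yf14 zf41) (kf xf0 yf14 zf42) (kf xf0 yf14 zf43) (kf xf0 yf20 zf43) (kf xf0 yf14 zf45) (kf xf0 yf14 zf46) (kf xf0 yf14 zf47) (kf xf0 yf14 zf48) (kf xf0 yf21 zf0) (kf xf0 yf10 zf30)) (@D3.rec (fun _ => Pt) (kf xf0 yf21 zf3) (kf xf0 yf10 zf32) (kf xf0 yf21 zf7) (kf xf0 yf10 zf29) (kf xf0 yf21 zf1) (kf xf0 yf21 zf12) (kf xf0 yf10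 zf31) (kf xf0 yf21 zf4) (kf xf0 yf21 zf16) (kf xf0 yf21 zf17) (kf xf0 yf10 zf33) (kf xf0 yf15 zf11) (kf xf0 yf15 zf12) (kf xf0 yf21 zf23) (kf xf0 yf15 zf14) (kf xf0 yf21 zf27) (kf xf0 yf10 zf37) (kf xf0 yf10 zf41) (kf xf0 yf21 zf31) (kf xf0 yf21 zf32) (kf xf0 yf10 zf39) (kf xf0 yf21 zf28) (kf xf0 yf21 zf37) (kf xf0 yf21 zf38) (kf xf0 yf10 zf42) (kf xf0 yf10 zf43) (kf xf0 yf21 zf43) (kf xf0 yf15 zf27) (kf xf0 yf15 zf28) (kf xf0 yf15 zf29) (kf xf0 yf15 zf30) (kf xf0 yf10 zf47) (kf xf0 yf21 zf50) (kf xf0 yf15 zf33) (kf xf0 yf15 zf34) (kf xf0 yf15 zf35) (kf xf0 yf11 zf5) (kf xf0 yf11 zf6) (kf xf0 yf11 zf7) (kf xf0 yf11 zf8) (kf xf0 yf15 zf40) (kf xf0 yf11 zf9) (kf xf0 yf11 zf10) (kf xf0 yf11 zf11) (kf xf0 yf22 zf3) (kf xf0 yf22 zf5) (kf xf0 yf22 zf6) (kf xf0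 yf22 zf7) (kf xf0 yf22 zf9) (kf xf0 yf22 zf11) (kf xf0 yf22 zf12)) (@D3.rec (fun _ => Pt) (kf xf0 yf22 zf13) (kf xf0 yf22 zf25) (kf xf0 yf16 zf2) (kf xf0 yf16 zf3) (kf xf0 yf22 zf29) (kf xf0 yf16 zf5) (kf xf0 yf22 zf33) (kf xf0 yf11 zf16) (kf xf0 yf16 zf8) (kf xf0 yf16 zf9) (kf xf0 yf22 zf39) (kf xf0 yf16 zf11) (kf xf0 yf22 zf42) (kf xf0 yf16 zf13) (kf xf0 yf22 zf46) (kf xf0 yf11 zf21) (kf xf0 yf11 zf27) (kf xf0 yf23 zf0) (kf xf0 yf11 zf23) (kf xf0 yf11 zf30) (kf xf0 yf23 zf4) (kf xf0 yf23 zf5) (kf xf0 yf11 zf25) (kf xf0 yf22 zf47) (kf xf0 yf22 zf48) (kf xf0 yf23 zf11) (kf xf0 yf23 zf12) (kf xf0 yf11 zf28) (kf xf0 yf16 zf28) (kf xf0 yf23 zf17) (kf xf0 yf23 zf19) (kf xf0 yf11 zf31) (kf xf0 yf11 zf32) (kf xf0 yf16 zf33) (kf xf0 yf16 zf34) (kf xf0 yf16 zf35)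 (kf xf0 yf23 zf27) (kf xf0 yf11 zf36) (kf xf0 yf16 zf38) (kf xf0 yf23 zf31) (kf xf0 yf23 zf32) (kf xf0 yf11 zf38) (kf xf0 yf11 zf44) (kf xf0 yf23 zf37) (kf xf0 yf23 zf39) (kf xf0 yf11 zf41) (kf xf0 yf11 zf42) (kf xf0 yf23 zf43) (kf xf0 yf23 zf34) (kf xf0 yf23 zf35) (kf xf0 yf11 zf45)) (@D3.rec (fun _ => Pt) (kf xf0 yf17 zf0) (kf xf0 yf17 zf1) (kf xf0 yf17 zf2) (kf xf0 yf23 zf50) (kf xf0 yf24 zf0) (kf xf0 yf11 zf50) (kf xf0 yf17 zf6) (kf xf0 yf24 zf4) (kf xf0 yf24 zf6) (kf xf0 yf12 zf2) (kf xf0 yf12 zf3) (kf xf0 yf24 zf9) (kf xf0 yf17 zf12) (kf xf0 yf17 zf13) (kf xf0 yf17 zf14) (kf xf0 yf17 zf15) (kf xf0 yf17 zf16) (kf xf0 yf17 zf17) (kf xf0 yf17 zf18) (kf xf0 yf12 zf18) (kf xf0 yf17 zf20) (kf xf0 yf12 zf19) (kf xf0 yf12 zf20) (kf xf0 yf12 zf21) (kf xf0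 yf12 zf22) (kf xf0 yf17 zf25) (kf xf0 yf12 zf23) (kf xf0 yf17 zf27) (kf xf0 yf12 zf24) (kf xf0 yf12 zf25) (kf xf0 yf12 zf26) (kf xf0 yf24 zf35) (kf xf0 yf24 zf18) (kf xf0 yf24 zf20) (kf xf0 yf24 zf22) (kf xf0 yf24 zf23) (kf xf0 yf24 zf24) (kf xf0 yf24 zf41) (kf xf0 yf24 zf30) (kf xf0 yf24 zf31) (kf xf0 yf24 zf44) (kf xf0 yf24 zf33) (kf xf0 yf24 zf47) (kf xf0 yf12 zf27) (kf xf0 yf24 zf49) (kf xf0 yf25 zf0) (kf xf0 yf12 zf30) (kf xf0 yf25 zf3) (kf xf0 yf25 zf4) (kf xf0 yf12 zf32) (kf xf0 yf24 zf48)) (@D3.rec (fun _ => Pt) (kf xf0 yf18 zf0) (kf xf0 yf25 zf10) (kf xf0 yf18 zf2) (kf xf0 yf25 zf14) (kf xf0 yf12 zf36) (kf xf0 yf18 zf5) (kf xf0 yf25 zf19) (kf xf0 yf12 zf38) (kf xf0 yf18 zf8) (kf xf0 yf25 zf23) (kf xf0 yf25 zf24) (kf xf0 yf12 zf40) (kf xf0 yf12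 zf49) (kf xf0 yf12 zf50) (kf xf0 yf25 zf30) (kf xf0 yf25 zf31) (kf xf0 yf12 zf43) (kf xf0 yf25 zf20) (kf xf0 yf25 zf36) (kf xf0 yf25 zf37) (kf xf0 yf12 zf46) (kf xf0 yf12 zf47) (kf xf0 yf25 zf41) (kf xf0 yf25 zf26) (kf xf0 yf25 zf27) (kf xf0 yf25 zf44) (kf xf0 yf25 zf46) (kf xf0 yf13 zf0) (kf xf0 yf13 zf1) (kf xf0 yf26 zf0) (kf xf0 yf18 zf30) (kf xf0 yf18 zf31) (kf xf0 yf26 zf3) (kf xf0 yf13 zf4) (kf xf0 yf26 zf5) (kf xf0 yf13 zf5) (kf xf0 yf18 zf36) (kf xf0 yf18 zf37) (kf xf0 yf18 zf38) (kf xf0 yf18 zf39) (kf xf0 yf18 zf40) (kf xf0 yf26 zf13) (kf xf0 yf26 zf14) (kf xf0 yf13 zf11) (kf xf0 yf18 zf44) (kf xf0 yf26 zf19) (kf xf0 yf26 zf20) (kf xf0 yf13 zf14) (kf xf0 yf13 zf15) (kf xf0 yf26 zf24) (kf xf0 yf13 zf23)) (@D3.rec (fun _ => Pt) (kf xf0 yf13 zf24)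 (kf xf0 yf26 zf26) (kf xf0 yf13 zf18) (kf xf0 yf13 zf19) (kf xf0 yf26 zf21) (kf xf0 yf26 zf23) (kf xf0 yf13 zf22) (kf xf0 yf26 zf25) (kf xf0 yf19 zf8) (kf xf0 yf19 zf9) (kf xf0 yf26 zf34) (kf xf0 yf26 zf35) (kf xf0 yf13 zf29) (kf xf0 yf13 zf30) (kf xf0 yf26 zf39) (kf xf0 yf19 zf15) (kf xf0 yf26 zf40) (kf xf0 yf13 zf33) (kf xf0 yf13 zf34) (kf xf0 yf26 zf22) (kf xf0 yf13 zf37) (kf xf0 yf26 zf43) (kf xf0 yf13 zf39) (kf xf0 yf13 zf40) (kf xf0 yf19 zf24) (kf xf0 yf19 zf25) (kf xf0 yf19 zf26) (kf xf0 yf13 zf43) (kf xf0 yf13 zf45) (kf xf0 yf19 zf29) (kf xf0 yf19 zf30) (kf xf0 yf19 zf31) (kf xf0 yf14 zf0) (kf xf0 yf14 zf1) (kf xf1 yf0 zf4) (kf xf1 yf0 zf5) (kf xf0 yf19 zf36) (kf xf0 yf19 zf37) (kf xf0 yf14 zf6) (kf xf0 yf14 zf7) (kf xf0 yf14 zf8) (kf xf0 yf14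 zf9) (kf xf1 yf0 zf12) (kf xf1 yf0 zf13) (kf xf1 yf0 zf14) (kf xf1 yf0 zf15) (kf xf0 yf19 zf46) (kf xf0 yf19 zf47) (kf xf1 yf0 zf25) (kf xf0 yf19 zf49) (kf xf0 yf19 zf50)) (@D3.rec (fun _ => Pt) (kf xf0 yf20 zf0) (kf xf0 yf20 zf1) (kf xf0 yf20 zf2) (kf xf0 yf20 zf3) (kf xf1 yf0 zf35) (kf xf0 yf14 zf23) (kf xf0 yf14 zf24) (kf xf1 yf0 zf40) (kf xf0 yf14 zf26) (kf xf1 yf0 zf44) (kf xf0 yf14 zf21) (kf xf0 yf20 zf11) (kf xf1 yf0 zf36) (kf xf1 yf0 zf50) (kf xf1 yf0 zf38) (kf xf1 yf1 zf3) (kf xf0 yf14 zf25) (kf xf1 yf0 zf41) (kf xf1 yf1 zf7) (kf xf1 yf1 zf8) (kf xf0 yf14 zf27) (kf xf0 yf20 zf21) (kf xf0 yf20 zf22) (kf xf0 yf20 zf23) (kf xf0 yf14 zf35) (kf xf0 yf14 zf36) (kf xf0 yf14 zf37) (kf xf0 yf20 zf27) (kf xf0 yf14 zf38) (kf xf0 yf14 zf39) (kf xf0 yf14 zf40)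 (kf xf1 yf1 zf16) (kf xf1 yf1 zf17) (kf xf1 yf1 zf18) (kf xf1 yf1 zf20) (kf xf1 yf1 zf21) (kf xf1 yf1 zf22) (kf xf1 yf1 zf33) (kf xf0 yf20 zf38) (kf xf0 yf20 zf39) (kf xf1 yf1 zf38) (kf xf0 yf20 zf41) (kf xf1 yf1 zf42) (kf xf0 yf14 zf44) (kf xf0 yf20 zf44) (kf xf0 yf20 zf45) (kf xf1 yf1 zf48) (kf xf0 yf20 zf47) (kf xf1 yf2 zf0) (kf xf0 yf20 zf49) (kf xf1 yf2 zf4)) (@D3.rec (fun _ => Pt) (kf xf0 yf14 zf49) (kf xf0 yf15 zf4) (kf xf1 yf2 zf9) (kf xf0 yf15 zf0) (kf xf0 yf15 zf7) (kf xf1 yf2 zf13) (kf xf1 yf2 zf14) (kf xf0 yf15 zf2) (kf xf1 yf2 zf5) (kf xf1 yf2 zf6) (kf xf1 yf2 zf20) (kf xf1 yf2 zf21) (kf xf0 yf15 zf5) (kf xf0 yf21 zf13) (kf xf1 yf2 zf26) (kf xf1 yf2 zf28) (kf xf0 yf15 zf8) (kf xf0 yf15 zf9) (kf xf1 yf2 zf33) (kf xf0 yf21 zf19) (kf xf0 yf21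 zf20) (kf xf0 yf21 zf21) (kf xf1 yf2 zf39) (kf xf0 yf15 zf13) (kf xf0 yf21 zf24) (kf xf1 yf2 zf43) (kf xf1 yf2 zf44) (kf xf0 yf15 zf15) (kf xf0 yf15 zf21) (kf xf1 yf2 zf49) (kf xf1 yf3 zf0) (kf xf0 yf15 zf18) (kf xf0 yf15 zf19) (kf xf1 yf3 zf5) (kf xf1 yf2 zf46) (kf xf1 yf2 zf47) (kf xf1 yf3 zf8) (kf xf0 yf15 zf22) (kf xf0 yf15 zf23) (kf xf1 yf3 zf13) (kf xf0 yf21 zf40) (kf xf0 yf21 zf41) (kf xf0 yf21 zf42) (kf xf0 yf15 zf26) (kf xf1 yf3 zf20) (kf xf0 yf21 zf45) (kf xf1 yf3 zf21) (kf xf0 yf21 zf47) (kf xf0 yf21 zf48) (kf xf0 yf21 zf49) (kf xf0 yf15 zf32)) (@D3.rec (fun _ => Pt) (kf xf0 yf22 zf0) (kf xf0 yf22 zf1) (kf xf0 yf22 zf2) (kf xf0 yf15 zf44) (kf xf0 yf22 zf4) (kf xf0 yf15 zf45) (kf xf0 yf15 zf46) (kf xf0 yf15 zf47) (kf xf0 yf22 zf8) (kf xf0 yf15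 zf48) (kf xf0 yf22 zf10) (kf xf0 yf15 zf49) (kf xf0 yf15 zf50) (kf xf0 yf16 zf0) (kf xf1 yf3 zf48) (kf xf1 yf3 zf34) (kf xf1 yf3 zf36) (kf xf1 yf3 zf37) (kf xf1 yf3 zf38) (kf xf1 yf4 zf3) (kf xf1 yf3 zf43) (kf xf1 yf3 zf44) (kf xf1 yf4 zf7) (kf xf1 yf3 zf46) (kf xf1 yf4 zf11) (kf xf0 yf16 zf1) (kf xf1 yf4 zf13) (kf xf0 yf22 zf27) (kf xf1 yf4 zf16) (kf xf0 yf16 zf4) (kf xf0 yf22 zf30) (kf xf1 yf4 zf20) (kf xf1 yf4 zf21) (kf xf0 yf16 zf6) (kf xf1 yf4 zf12) (kf xf0 yf22 zf35) (kf xf1 yf4 zf27) (kf xf0 yf22 zf37) (kf xf1 yf4 zf31) (kf xf0 yf16 zf10) (kf xf0 yf22 zf40) (kf xf1 yf4 zf36) (kf xf0 yf16 zf12) (kf xf0 yf22 zf43) (kf xf1 yf4 zf40) (kf xf1 yf4 zf41) (kf xf0 yf16 zf14) (kf xf0 yf16 zf23) (kf xf0 yf16 zf24) (kf xf1 yf4 zf47) (kf xf1 yf4 zf48)) (@D3.rec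 (fun _ => Pt) (kf xf0 yf16 zf17) (kf xf1 yf4 zf37) (kf xf1 yf5 zf2) (kf xf1 yf5 zf4) (kf xf0 yf16 zf20) (kf xf0 yf16 zf21) (kf xf1 yf5 zf9) (kf xf1 yf4 zf43) (kf xf1 yf4 zf44) (kf xf1 yf5 zf13) (kf xf1 yf5 zf15) (kf xf0 yf16 zf25) (kf xf0 yf16 zf26) (kf xf1 yf5 zf20) (kf xf0 yf23 zf14) (kf xf0 yf23 zf15) (kf xf1 yf5 zf23) (kf xf0 yf16 zf29) (kf xf1 yf5 zf25) (kf xf0 yf16 zf30) (kf xf0 yf23 zf20) (kf xf0 yf23 zf21) (kf xf0 yf23 zf22) (kf xf0 yf23 zf23) (kf xf0 yf23 zf24) (kf xf1 yf5 zf33) (kf xf1 yf5 zf34) (kf xf0 yf16 zf36) (kf xf0 yf23 zf28) (kf xf1 yf5 zf39) (kf xf1 yf5 zf41) (kf xf0 yf16 zf39) (kf xf0 yf16 zf40) (kf xf1 yf5 zf46) (kf xf0 yf16 zf48) (kf xf0 yf16 zf49) (kf xf1 yf5 zf50) (kf xf0 yf16 zf43) (kf xf1 yf6 zf1) (kf xf0 yf16 zf44) (kf xf1 yf6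 zf4) (kf xf1 yf5 zf43) (kf xf1 yf5 zf45) (kf xf0 yf16 zf47) (kf xf1 yf6 zf8) (kf xf1 yf5 zf48) (kf xf0 yf23 zf46) (kf xf0 yf23 zf47) (kf xf1 yf6 zf11) (kf xf1 yf6 zf13) (kf xf0 yf17 zf3)) (@D3.rec (fun _ => Pt) (kf xf0 yf17 zf4) (kf xf1 yf6 zf18) (kf xf0 yf24 zf2) (kf xf1 yf6 zf21) (kf xf0 yf17 zf7) (kf xf1 yf6 zf22) (kf xf0 yf17 zf8) (kf xf1 yf6 zf25) (kf xf1 yf5 zf44) (kf xf0 yf17 zf11) (kf xf1 yf6 zf27) (kf xf0 yf24 zf11) (kf xf0 yf24 zf12) (kf xf0 yf24 zf13) (kf xf1 yf6 zf32) (kf xf0 yf24 zf15) (kf xf0 yf24 zf16) (kf xf0 yf24 zf17) (kf xf0 yf17 zf32) (kf xf0 yf24 zf19) (kf xf0 yf17 zf33) (kf xf0 yf24 zf21) (kf xf0 yf17 zf34) (kf xf0 yf17 zf35) (kf xf0 yf17 zf36) (kf xf1 yf6 zf47) (kf xf0 yf24 zf26) (kf xf0 yf24 zf27) (kf xf0 yf24 zf28) (kf xf0 yf24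 zf29) (kf xf0 yf17 zf38) (kf xf0 yf17 zf39) (kf xf1 yf7 zf3) (kf xf0 yf17 zf41) (kf xf1 yf7 zf6) (kf xf0 yf17 zf31) (kf xf1 yf6 zf42) (kf xf1 yf6 zf43) (kf xf1 yf7 zf10) (kf xf1 yf6 zf45) (kf xf1 yf7 zf13) (kf xf0 yf17 zf37) (kf xf1 yf7 zf15) (kf xf1 yf7 zf17) (kf xf0 yf17 zf40) (kf xf1 yf7 zf20) (kf xf1 yf7 zf21) (kf xf0 yf17 zf42) (kf xf0 yf17 zf50) (kf xf0 yf17 zf44) (kf xf1 yf7 zf26)) (@D3.rec (fun _ => Pt) (kf xf0 yf17 zf45) (kf xf1 yf7 zf18) (kf xf1 yf7 zf30) (kf xf0 yf17 zf47) (kf xf0 yf17 zf48) (kf xf1 yf7 zf35) (kf xf1 yf7 zf23) (kf xf1 yf7 zf24) (kf xf0 yf25 zf8) (kf xf1 yf7 zf40) (kf xf0 yf18 zf1) (kf xf0 yf25 zf11) (kf xf1 yf7 zf44) (kf xf1 yf7 zf45) (kf xf0 yf18 zf3) (kf xf0 yf25 zf15) (kf xf0 yf25 zf16) (kf xf1 yf8 zf0) (kf xf1 yf8 zf1) (kf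 xf0 yf18 zf6) (kf xf0 yf18 zf17) (kf xf1 yf8 zf6) (kf xf1 yf8 zf7) (kf xf0 yf18 zf9) (kf xf0 yf18 zf10) (kf xf1 yf8 zf11) (kf xf0 yf18 zf23) (kf xf0 yf18 zf24) (kf xf1 yf8 zf14) (kf xf1 yf8 zf15) (kf xf0 yf18 zf14) (kf xf0 yf18 zf15) (kf xf1 yf8 zf19) (kf xf1 yf8 zf3) (kf xf1 yf8 zf4) (kf xf1 yf8 zf21) (kf xf0 yf18 zf18) (kf xf0 yf18 zf19) (kf xf1 yf8 zf8) (kf xf0 yf25 zf39) (kf xf1 yf8 zf10) (kf xf0 yf18 zf22) (kf xf1 yf8 zf12) (kf xf1 yf8 zf31) (kf xf0 yf18 zf25) (kf xf1 yf8 zf34) (kf xf0 yf18 zf26) (kf xf1 yf8 zf38) (kf xf0 yf25 zf48) (kf xf0 yf25 zf49) (kf xf0 yf25 zf50)) (@D3.rec (fun _ => Pt) (kf xf0 yf18 zf29) (kf xf0 yf26 zf1) (kf xf1 yf8 zf45) (kf xf0 yf18 zf32) (kf xf0 yf26 zf4) (kf xf0 yf18 zf34) (kf xf0 yf26 zf6) (kf xf0 yf26 zf7) (kf xf0 yf26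 zf8) (kf xf1 yf9 zf2) (kf xf0 yf26 zf10) (kf xf1 yf9 zf5) (kf xf1 yf9 zf6) (kf xf0 yf18 zf41) (kf xf0 yf18 zf42) (kf xf1 yf9 zf10) (kf xf0 yf26 zf16) (kf xf0 yf26 zf17) (kf xf1 yf9 zf12) (kf xf0 yf18 zf45) (kf xf0 yf18 zf46) (kf xf0 yf19 zf4) (kf xf0 yf19 zf19) (kf xf0 yf19 zf5) (kf xf0 yf18 zf49) (kf xf0 yf19 zf7) (kf xf0 yf19 zf1) (kf xf1 yf9 zf13) (kf xf1 yf9 zf15) (kf xf1 yf9 zf16) (kf xf1 yf9 zf19) (kf xf1 yf9 zf20) (kf xf0 yf26 zf32) (kf xf1 yf9 zf25) (kf xf0 yf19 zf10) (kf xf0 yf19 zf11) (kf xf0 yf26 zf36) (kf xf1 yf9 zf8) (kf xf0 yf26 zf38) (kf xf0 yf19 zf14) (kf xf0 yf19 zf16) (kf xf1 yf9 zf14) (kf xf1 yf9 zf18) (kf xf0 yf19 zf21) (kf xf0 yf26 zf44) (kf xf0 yf26 zf45) (kf xf0 yf26 zf46) (kf xf1 yf9 zf37) (kf xf0 yf26 zf48) (kf xf0 yf26 zf49) (kf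 xf0 yf26 zf50))
def f_f_1 : D2 → D3 → Pt := @D2.rec (fun _ => D3 → Pt) (@D3.rec (fun _ => Pt) (kf xf1 yf0 zf0) (kf xf1 yf0 zf1) (kf xf1 yf0 zf2) (kf xf1 yf0 zf3) (kf xf0 yf19 zf34) (kf xf0 yf19 zf35) (kf xf1 yf9 zf45) (kf xf1 yf9 zf46) (kf xf1 yf0 zf8) (kf xf1 yf10 zf1) (kf xf1 yf0 zf10) (kf xf1 yf0 zf11) (kf xf0 yf19 zf42) (kf xf0 yf19 zf43) (kf xf0 yf19 zf44) (kf xf0 yf19 zf45) (kf xf1 yf10 zf4) (kf xf1 yf10 zf5) (kf xf1 yf10 zf6) (kf xf1 yf10 zf7) (kf xf1 yf10 zf16) (kf xf1 yf0 zf21) (kf xf1 yf10 zf19) (kf xf1 yf0 zf23) (kf xf1 yf10 zf23) (kf xf0 yf19 zf48) (kf xf1 yf0 zf26) (kf xf1 yf0 zf27) (kf xf1 yf0 zf28) (kf xf1 yf10 zf30) (kf xf1 yf0 zf30) (kf xf1 yf0 zf31) (kf xf1 yf10 zf35) (kf xf1 yf0 zf33) (kf xf1 yf10 zf39) (kf xf0 yf20 zf4) (kf xf0 yf20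 zf12) (kf xf1 yf10 zf43) (kf xf0 yf20 zf14) (kf xf1 yf10 zf47) (kf xf0 yf20 zf7) (kf xf0 yf20 zf17) (kf xf1 yf11 zf0) (kf xf1 yf11 zf1) (kf xf0 yf20 zf9) (kf xf1 yf10 zf40) (kf xf1 yf0 zf46) (kf xf1 yf11 zf7) (kf xf1 yf10 zf41) (kf xf1 yf11 zf11) (kf xf0 yf20 zf13)) (@D3.rec (fun _ => Pt) (kf xf1 yf10 zf44) (kf xf1 yf11 zf15) (kf xf1 yf11 zf16) (kf xf0 yf20 zf15) (kf xf1 yf1 zf4) (kf xf1 yf11 zf21) (kf xf1 yf11 zf23) (kf xf0 yf20 zf18) (kf xf0 yf20 zf19) (kf xf1 yf11 zf28) (kf xf1 yf1 zf10) (kf xf1 yf1 zf11) (kf xf1 yf1 zf12) (kf xf1 yf1 zf13) (kf xf1 yf1 zf14) (kf xf1 yf1 zf15) (kf xf0 yf20 zf31) (kf xf0 yf20 zf32) (kf xf0 yf20 zf33) (kf xf1 yf1 zf19) (kf xf0 yf20 zf34) (kf xf0 yf20 zf35) (kf xf0 yf20 zf36) (kf xf1 yf11 zf46) (kf xf1 yf11 zf36) (kf xf1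 yf11 zf37) (kf xf1 yf11 zf38) (kf xf1 yf12 zf1) (kf xf1 yf11 zf41) (kf xf1 yf11 zf42) (kf xf1 yf12 zf6) (kf xf1 yf11 zf44) (kf xf1 yf12 zf10) (kf xf0 yf20 zf37) (kf xf1 yf1 zf34) (kf xf1 yf12 zf13) (kf xf1 yf1 zf36) (kf xf1 yf12 zf16) (kf xf0 yf20 zf40) (kf xf1 yf1 zf39) (kf xf1 yf12 zf20) (kf xf1 yf12 zf21) (kf xf0 yf20 zf42) (kf xf1 yf12 zf11) (kf xf1 yf1 zf44) (kf xf1 yf12 zf27) (kf xf1 yf1 zf46) (kf xf1 yf12 zf31) (kf xf0 yf20 zf46) (kf xf1 yf1 zf49) (kf xf1 yf12 zf36)) (@D3.rec (fun _ => Pt) (kf xf0 yf20 zf48) (kf xf1 yf2 zf1) (kf xf1 yf12 zf40) (kf xf1 yf12 zf41) (kf xf0 yf20 zf50) (kf xf0 yf21 zf8) (kf xf0 yf21 zf9) (kf xf1 yf12 zf47) (kf xf1 yf12 zf48) (kf xf0 yf21 zf2) (kf xf1 yf12 zf37) (kf xf1 yf13 zf2) (kf xf1 yf13 zf4) (kf xf0 yf21 zf5) (kf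 xf0 yf21 zf6) (kf xf1 yf13 zf9) (kf xf1 yf12 zf43) (kf xf1 yf12 zf44) (kf xf1 yf13 zf13) (kf xf1 yf13 zf15) (kf xf0 yf21 zf10) (kf xf0 yf21 zf11) (kf xf1 yf13 zf20) (kf xf1 yf2 zf23) (kf xf1 yf2 zf24) (kf xf1 yf13 zf24) (kf xf0 yf21 zf14) (kf xf1 yf13 zf27) (kf xf0 yf21 zf15) (kf xf1 yf13 zf31) (kf xf1 yf2 zf30) (kf xf1 yf11 zf26) (kf xf1 yf2 zf32) (kf xf0 yf21 zf18) (kf xf1 yf13 zf38) (kf xf1 yf2 zf35) (kf xf1 yf2 zf36) (kf xf1 yf13 zf41) (kf xf1 yf13 zf42) (kf xf0 yf21 zf22) (kf xf1 yf2 zf40) (kf xf1 yf13 zf47) (kf xf1 yf13 zf49) (kf xf0 yf21 zf25) (kf xf0 yf21 zf26) (kf xf1 yf14 zf3) (kf xf0 yf21 zf34) (kf xf0 yf21 zf35) (kf xf1 yf14 zf7) (kf xf0 yf21 zf29) (kf xf1 yf14 zf10)) (@D3.rec (fun _ => Pt) (kf xf0 yf21 zf30) (kf xf1 yf14 zf14) (kf xf1 yf14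 zf0) (kf xf1 yf3 zf3) (kf xf1 yf14 zf2) (kf xf0 yf21 zf33) (kf xf1 yf14 zf21) (kf xf1 yf14 zf5) (kf xf0 yf21 zf36) (kf xf1 yf14 zf24) (kf xf1 yf3 zf10) (kf xf1 yf3 zf11) (kf xf1 yf3 zf12) (kf xf0 yf21 zf39) (kf xf1 yf14 zf31) (kf xf1 yf3 zf15) (kf xf1 yf14 zf32) (kf xf1 yf3 zf17) (kf xf1 yf3 zf18) (kf xf1 yf3 zf19) (kf xf0 yf21 zf44) (kf xf0 yf21 zf46) (kf xf1 yf14 zf39) (kf xf1 yf14 zf40) (kf xf1 yf3 zf24) (kf xf1 yf3 zf25) (kf xf1 yf3 zf26) (kf xf1 yf3 zf27) (kf xf1 yf3 zf28) (kf xf1 yf14 zf49) (kf xf1 yf3 zf30) (kf xf1 yf3 zf31) (kf xf1 yf3 zf32) (kf xf1 yf3 zf33) (kf xf0 yf22 zf15) (kf xf1 yf3 zf35) (kf xf0 yf22 zf16) (kf xf0 yf22 zf17) (kf xf0 yf22 zf18) (kf xf1 yf15 zf12) (kf xf1 yf3 zf40) (kf xf1 yf3 zf41) (kf xf1 yf3 zf42) (kf xf0 yf22 zf20) (kf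 xf0 yf22 zf21) (kf xf1 yf15 zf19) (kf xf0 yf22 zf23) (kf xf1 yf15 zf23) (kf xf0 yf22 zf14) (kf xf1 yf15 zf7) (kf xf1 yf15 zf8)) (@D3.rec (fun _ => Pt) (kf xf1 yf15 zf28) (kf xf1 yf15 zf10) (kf xf1 yf15 zf32) (kf xf0 yf22 zf19) (kf xf1 yf15 zf34) (kf xf1 yf15 zf17) (kf xf1 yf15 zf37) (kf xf0 yf22 zf22) (kf xf1 yf15 zf20) (kf xf1 yf15 zf41) (kf xf1 yf15 zf42) (kf xf0 yf22 zf24) (kf xf0 yf22 zf34) (kf xf0 yf22 zf26) (kf xf1 yf15 zf48) (kf xf1 yf15 zf49) (kf xf0 yf22 zf28) (kf xf1 yf15 zf38) (kf xf1 yf16 zf2) (kf xf1 yf16 zf4) (kf xf0 yf22 zf31) (kf xf0 yf22 zf32) (kf xf1 yf16 zf9) (kf xf1 yf15 zf44) (kf xf1 yf15 zf45) (kf xf1 yf4 zf25) (kf xf1 yf16 zf15) (kf xf0 yf22 zf36) (kf xf1 yf4 zf28) (kf xf1 yf16 zf19) (kf xf1 yf16 zf20) (kf xf0 yf22 zf38) (kf xf1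 yf4 zf32) (kf xf1 yf4 zf33) (kf xf1 yf16 zf26) (kf xf1 yf16 zf27) (kf xf0 yf22 zf41) (kf xf0 yf23 zf1) (kf xf1 yf16 zf32) (kf xf1 yf16 zf34) (kf xf0 yf22 zf44) (kf xf0 yf22 zf45) (kf xf1 yf16 zf39) (kf xf0 yf23 zf7) (kf xf0 yf23 zf8) (kf xf1 yf16 zf43) (kf xf1 yf16 zf45) (kf xf0 yf22 zf49) (kf xf0 yf22 zf50) (kf xf1 yf16 zf50) (kf xf1 yf16 zf29)) (@D3.rec (fun _ => Pt) (kf xf1 yf16 zf30) (kf xf1 yf17 zf3) (kf xf0 yf23 zf2) (kf xf1 yf17 zf5) (kf xf0 yf23 zf3) (kf xf1 yf17 zf9) (kf xf1 yf16 zf36) (kf xf1 yf5 zf7) (kf xf1 yf16 zf38) (kf xf0 yf23 zf6) (kf xf1 yf17 zf15) (kf xf1 yf16 zf41) (kf xf1 yf17 zf17) (kf xf0 yf23 zf9) (kf xf1 yf17 zf20) (kf xf0 yf23 zf10) (kf xf1 yf17 zf24) (kf xf1 yf5 zf17) (kf xf1 yf5 zf18) (kf xf1 yf5 zf19) (kf xf0 yf23 zf13) (kf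 xf1 yf5 zf21) (kf xf1 yf17 zf31) (kf xf0 yf23 zf16) (kf xf1 yf5 zf24) (kf xf0 yf23 zf18) (kf xf1 yf5 zf26) (kf xf1 yf5 zf27) (kf xf1 yf5 zf28) (kf xf1 yf17 zf39) (kf xf1 yf5 zf30) (kf xf1 yf17 zf42) (kf xf1 yf17 zf44) (kf xf0 yf23 zf25) (kf xf0 yf23 zf26) (kf xf1 yf17 zf49) (kf xf1 yf5 zf36) (kf xf1 yf5 zf37) (kf xf1 yf18 zf2) (kf xf0 yf23 zf29) (kf xf1 yf18 zf4) (kf xf0 yf23 zf30) (kf xf1 yf18 zf8) (kf xf0 yf23 zf41) (kf xf0 yf24 zf8) (kf xf0 yf23 zf42) (kf xf0 yf23 zf33) (kf xf1 yf18 zf14) (kf xf0 yf23 zf45) (kf xf1 yf18 zf15) (kf xf0 yf23 zf36)) (@D3.rec (fun _ => Pt) (kf xf1 yf18 zf3) (kf xf0 yf23 zf38) (kf xf1 yf18 zf19) (kf xf1 yf18 zf7) (kf xf0 yf23 zf40) (kf xf1 yf18 zf9) (kf xf1 yf18 zf12) (kf xf1 yf18 zf13) (kf xf0 yf23 zf44) (kf xf1 yf6 zf9)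 (kf xf1 yf18 zf26) (kf xf0 yf23 zf48) (kf xf1 yf18 zf28) (kf xf0 yf23 zf49) (kf xf1 yf18 zf32) (kf xf1 yf6 zf15) (kf xf1 yf17 zf47) (kf xf1 yf6 zf17) (kf xf0 yf24 zf1) (kf xf1 yf18 zf36) (kf xf1 yf18 zf37) (kf xf0 yf24 zf3) (kf xf0 yf24 zf5) (kf xf1 yf18 zf40) (kf xf1 yf18 zf6) (kf xf0 yf24 zf7) (kf xf1 yf18 zf11) (kf xf0 yf24 zf10) (kf xf1 yf6 zf28) (kf xf1 yf6 zf29) (kf xf1 yf18 zf48) (kf xf1 yf6 zf31) (kf xf0 yf24 zf14) (kf xf1 yf18 zf50) (kf xf1 yf6 zf34) (kf xf1 yf6 zf35) (kf xf1 yf6 zf36) (kf xf1 yf19 zf6) (kf xf1 yf6 zf38) (kf xf1 yf6 zf39) (kf xf1 yf6 zf40) (kf xf1 yf6 zf41) (kf xf0 yf24 zf36) (kf xf0 yf24 zf37) (kf xf1 yf19 zf13) (kf xf0 yf24 zf39) (kf xf1 yf19 zf16) (kf xf0 yf24 zf25) (kf xf1 yf6 zf48) (kf xf1 yf6 zf49) (kf xf1 yf6 zf50)) (@D3.rec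 (fun _ => Pt) (kf xf1 yf7 zf0) (kf xf1 yf19 zf21) (kf xf1 yf19 zf23) (kf xf0 yf24 zf32) (kf xf1 yf19 zf26) (kf xf1 yf19 zf27) (kf xf0 yf24 zf34) (kf xf1 yf7 zf7) (kf xf1 yf19 zf31) (kf xf1 yf19 zf33) (kf xf0 yf24 zf38) (kf xf1 yf19 zf36) (kf xf1 yf19 zf37) (kf xf0 yf24 zf40) (kf xf1 yf7 zf14) (kf xf0 yf24 zf42) (kf xf1 yf19 zf42) (kf xf0 yf24 zf43) (kf xf0 yf25 zf1) (kf xf1 yf19 zf46) (kf xf0 yf24 zf45) (kf xf0 yf24 zf46) (kf xf1 yf20 zf0) (kf xf0 yf25 zf6) (kf xf0 yf25 zf7) (kf xf1 yf19 zf41) (kf xf0 yf24 zf50) (kf xf1 yf19 zf43) (kf xf1 yf19 zf44) (kf xf1 yf20 zf6) (kf xf0 yf25 zf2) (kf xf1 yf20 zf9) (kf xf1 yf19 zf48) (kf xf1 yf7 zf33) (kf xf1 yf19 zf50) (kf xf0 yf25 zf5) (kf xf1 yf20 zf1) (kf xf1 yf7 zf37) (kf xf1 yf20 zf17) (kf xf1 yf20 zf18) (kf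 xf0 yf25 zf9) (kf xf1 yf7 zf41) (kf xf1 yf20 zf23) (kf xf1 yf20 zf24) (kf xf0 yf25 zf12) (kf xf0 yf25 zf13) (kf xf1 yf20 zf28) (kf xf1 yf7 zf47) (kf xf1 yf7 zf48) (kf xf1 yf20 zf31) (kf xf1 yf20 zf32)) (@D3.rec (fun _ => Pt) (kf xf0 yf25 zf17) (kf xf0 yf25 zf18) (kf xf1 yf20 zf36) (kf xf0 yf25 zf33) (kf xf0 yf25 zf34) (kf xf1 yf20 zf38) (kf xf0 yf25 zf21) (kf xf0 yf25 zf22) (kf xf0 yf25 zf38) (kf xf1 yf8 zf9) (kf xf0 yf25 zf40) (kf xf0 yf25 zf25) (kf xf0 yf25 zf42) (kf xf1 yf20 zf47) (kf xf0 yf25 zf28) (kf xf0 yf25 zf29) (kf xf1 yf20 zf33) (kf xf1 yf8 zf17) (kf xf1 yf20 zf35) (kf xf0 yf25 zf32) (kf xf1 yf20 zf37) (kf xf0 yf25 zf35) (kf xf1 yf20 zf39) (kf xf1 yf8 zf23) (kf xf1 yf20 zf41) (kf xf1 yf20 zf42) (kf xf1 yf21 zf10) (kf xf1 yf8 zf27) (kf xf1 yf20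 zf45) (kf xf1 yf20 zf46) (kf xf1 yf21 zf15) (kf xf0 yf25 zf43) (kf xf1 yf21 zf19) (kf xf1 yf8 zf33) (kf xf0 yf25 zf45) (kf xf1 yf21 zf23) (kf xf1 yf8 zf36) (kf xf1 yf8 zf37) (kf xf0 yf25 zf47) (kf xf1 yf8 zf39) (kf xf1 yf21 zf29) (kf xf1 yf8 zf41) (kf xf1 yf8 zf42) (kf xf1 yf8 zf43) (kf xf1 yf21 zf34) (kf xf0 yf26 zf2) (kf xf1 yf8 zf46) (kf xf1 yf8 zf47) (kf xf1 yf8 zf48) (kf xf1 yf8 zf49) (kf xf1 yf8 zf50)) (@D3.rec (fun _ => Pt) (kf xf1 yf21 zf42) (kf xf1 yf9 zf1) (kf xf0 yf26 zf9) (kf xf1 yf21 zf44) (kf xf1 yf21 zf45) (kf xf0 yf26 zf11) (kf xf0 yf26 zf12) (kf xf1 yf9 zf7) (kf xf0 yf26 zf37) (kf xf1 yf9 zf9) (kf xf0 yf26 zf15) (kf xf1 yf9 zf11) (kf xf0 yf26 zf18) (kf xf0 yf26 zf27) (kf xf0 yf26 zf41) (kf xf0 yf26 zf28) (kf xf0 yf26 zf29) (kf xf1 yf9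 zf17) (kf xf0 yf26 zf42) (kf xf0 yf26 zf30) (kf xf0 yf26 zf31) (kf xf1 yf22 zf4) (kf xf1 yf22 zf5) (kf xf1 yf22 zf7) (kf xf1 yf22 zf11) (kf xf0 yf26 zf33) (kf xf1 yf9 zf26) (kf xf1 yf21 zf47) (kf xf1 yf9 zf28) (kf xf1 yf22 zf16) (kf xf1 yf22 zf0) (kf xf1 yf9 zf31) (kf xf1 yf22 zf3) (kf xf1 yf22 zf10) (kf xf1 yf9 zf34) (kf xf1 yf9 zf35) (kf xf1 yf22 zf21) (kf xf0 yf26 zf47) (kf xf1 yf22 zf22) (kf xf1 yf9 zf39) (kf xf1 yf9 zf40) (kf xf1 yf22 zf25) (kf xf1 yf9 zf42) (kf xf1 yf9 zf43) (kf xf1 yf9 zf44) (kf xf1 yf0 zf6) (kf xf1 yf0 zf7) (kf xf1 yf22 zf30) (kf xf1 yf22 zf31) (kf xf1 yf22 zf37) (kf xf1 yf9 zf50)) (@D3.rec (fun _ => Pt) (kf xf1 yf22 zf41) (kf xf1 yf0 zf9) (kf xf1 yf10 zf2) (kf xf1 yf10 zf3) (kf xf1 yf0 zf16) (kf xf1 yf0 zf17) (kf xf1 yf0 zf18)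 (kf xf1 yf0 zf19) (kf xf1 yf23 zf1) (kf xf1 yf22 zf45) (kf xf1 yf22 zf46) (kf xf1 yf23 zf6) (kf xf1 yf22 zf48) (kf xf1 yf23 zf9) (kf xf1 yf22 zf50) (kf xf1 yf23 zf13) (kf xf1 yf0 zf20) (kf xf1 yf10 zf17) (kf xf1 yf23 zf17) (kf xf1 yf0 zf22) (kf xf1 yf10 zf20) (kf xf1 yf23 zf21) (kf xf1 yf23 zf22) (kf xf1 yf0 zf24) (kf xf1 yf23 zf14) (kf xf1 yf10 zf25) (kf xf1 yf10 zf26) (kf xf1 yf23 zf30) (kf xf1 yf10 zf28) (kf xf1 yf23 zf34) (kf xf1 yf0 zf29) (kf xf1 yf10 zf31) (kf xf1 yf23 zf38) (kf xf1 yf10 zf33) (kf xf1 yf23 zf42) (kf xf1 yf0 zf32) (kf xf1 yf10 zf36) (kf xf1 yf23 zf46) (kf xf1 yf23 zf47) (kf xf1 yf0 zf34) (kf xf1 yf0 zf45) (kf xf1 yf0 zf48) (kf xf1 yf24 zf3) (kf xf1 yf0 zf37) (kf xf1 yf1 zf0) (kf xf1 yf24 zf7) (kf xf1 yf24 zf8) (kf xf1 yf0 zf39) (kf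 xf1 yf23 zf43) (kf xf1 yf24 zf13) (kf xf1 yf24 zf15)) (@D3.rec (fun _ => Pt) (kf xf1 yf0 zf42) (kf xf1 yf0 zf43) (kf xf1 yf24 zf20) (kf xf1 yf23 zf49) (kf xf1 yf23 zf50) (kf xf1 yf11 zf5) (kf xf1 yf24 zf26) (kf xf1 yf0 zf47) (kf xf1 yf24 zf0) (kf xf1 yf24 zf30) (kf xf1 yf24 zf31) (kf xf1 yf0 zf49) (kf xf1 yf11 zf12) (kf xf1 yf24 zf36) (kf xf1 yf24 zf38) (kf xf1 yf1 zf1) (kf xf1 yf1 zf2) (kf xf1 yf24 zf43) (kf xf1 yf11 zf18) (kf xf1 yf11 zf19) (kf xf1 yf24 zf47) (kf xf1 yf1 zf5) (kf xf1 yf24 zf50) (kf xf1 yf1 zf6) (kf xf1 yf25 zf3) (kf xf1 yf11 zf25) (kf xf1 yf2 zf31) (kf xf1 yf11 zf27) (kf xf1 yf1 zf9) (kf xf1 yf25 zf10) (kf xf1 yf11 zf30) (kf xf1 yf25 zf11) (kf xf1 yf11 zf32) (kf xf1 yf11 zf33) (kf xf1 yf11 zf34) (kf xf1 yf11 zf35) (kf xf1 yf1 zf24) (kf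 xf1 yf1 zf25) (kf xf1 yf1 zf26) (kf xf1 yf25 zf23) (kf xf1 yf11 zf40) (kf xf1 yf1 zf28) (kf xf1 yf1 zf29) (kf xf1 yf25 zf29) (kf xf1 yf1 zf31) (kf xf1 yf25 zf33) (kf xf1 yf1 zf23) (kf xf1 yf25 zf18) (kf xf1 yf25 zf19) (kf xf1 yf25 zf39) (kf xf1 yf25 zf21)) (@D3.rec (fun _ => Pt) (kf xf1 yf25 zf43) (kf xf1 yf1 zf27) (kf xf1 yf25 zf25) (kf xf1 yf25 zf46) (kf xf1 yf25 zf27) (kf xf1 yf25 zf49) (kf xf1 yf1 zf30) (kf xf1 yf25 zf30) (kf xf1 yf26 zf2) (kf xf1 yf26 zf3) (kf xf1 yf1 zf32) (kf xf1 yf1 zf43) (kf xf1 yf26 zf8) (kf xf1 yf1 zf35) (kf xf1 yf26 zf11) (kf xf1 yf26 zf12) (kf xf1 yf1 zf37) (kf xf1 yf25 zf50) (kf xf1 yf26 zf17) (kf xf1 yf26 zf19) (kf xf1 yf1 zf40) (kf xf1 yf1 zf41) (kf xf1 yf26 zf24) (kf xf1 yf26 zf5) (kf xf1 yf26 zf6) (kf xf1 yf12 zf25) (kf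 xf1 yf26 zf30) (kf xf1 yf1 zf45) (kf xf1 yf12 zf28) (kf xf1 yf26 zf34) (kf xf1 yf26 zf35) (kf xf1 yf1 zf47) (kf xf1 yf12 zf32) (kf xf1 yf12 zf33) (kf xf1 yf26 zf41) (kf xf1 yf26 zf42) (kf xf1 yf1 zf50) (kf xf1 yf2 zf10) (kf xf1 yf26 zf47) (kf xf1 yf26 zf49) (kf xf1 yf2 zf2) (kf xf1 yf2 zf3) (kf xf2 yf0 zf3) (kf xf1 yf2 zf16) (kf xf1 yf2 zf17) (kf xf2 yf0 zf7) (kf xf2 yf0 zf9) (kf xf1 yf2 zf7) (kf xf1 yf2 zf8) (kf xf2 yf0 zf14) (kf xf1 yf26 zf44)) (@D3.rec (fun _ => Pt) (kf xf1 yf26 zf45) (kf xf2 yf0 zf18) (kf xf1 yf2 zf11) (kf xf2 yf0 zf21) (kf xf1 yf2 zf12) (kf xf2 yf0 zf25) (kf xf2 yf0 zf0) (kf xf1 yf24 zf18) (kf xf2 yf0 zf2) (kf xf1 yf2 zf15) (kf xf2 yf0 zf32) (kf xf2 yf0 zf5) (kf xf2 yf0 zf33) (kf xf1 yf2 zf18) (kf xf2 yf0 zf35) (kf xf1 yf2 zf19) (kf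 xf2 yf0 zf38) (kf xf1 yf13 zf17) (kf xf1 yf24 zf41) (kf xf1 yf13 zf19) (kf xf1 yf2 zf22) (kf xf2 yf0 zf44) (kf xf1 yf13 zf22) (kf xf2 yf0 zf45) (kf xf1 yf2 zf25) (kf xf2 yf0 zf48) (kf xf1 yf13 zf26) (kf xf1 yf2 zf27) (kf xf2 yf1 zf1) (kf xf1 yf25 zf1) (kf xf1 yf13 zf30) (kf xf1 yf2 zf29) (kf xf2 yf1 zf6) (kf xf1 yf13 zf33) (kf xf2 yf1 zf7) (kf xf1 yf25 zf7) (kf xf1 yf13 zf36) (kf xf1 yf13 zf37) (kf xf1 yf2 zf34) (kf xf2 yf1 zf15) (kf xf2 yf1 zf17) (kf xf1 yf2 zf37) (kf xf1 yf2 zf38) (kf xf2 yf1 zf22) (kf xf1 yf13 zf44) (kf xf1 yf13 zf45) (kf xf2 yf1 zf26) (kf xf1 yf2 zf41) (kf xf2 yf1 zf29) (kf xf1 yf2 zf42) (kf xf2 yf1 zf33)) (@D3.rec (fun _ => Pt) (kf xf1 yf3 zf2) (kf xf1 yf14 zf1) (kf xf1 yf3 zf4) (kf xf1 yf2 zf45) (kf xf2 yf1 zf40) (kf xf1 yf3 zf7)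 (kf xf2 yf1 zf41) (kf xf1 yf2 zf48) (kf xf2 yf1 zf45) (kf xf2 yf1 zf28) (kf xf1 yf2 zf50) (kf xf2 yf1 zf50) (kf xf1 yf14 zf12) (kf xf2 yf1 zf32) (kf xf1 yf3 zf1) (kf xf2 yf2 zf6) (kf xf2 yf1 zf35) (kf xf2 yf2 zf7) (kf xf1 yf14 zf18) (kf xf2 yf1 zf38) (kf xf2 yf1 zf39) (kf xf1 yf3 zf6) (kf xf1 yf14 zf22) (kf xf1 yf14 zf23) (kf xf1 yf3 zf9) (kf xf2 yf2 zf18) (kf xf1 yf14 zf26) (kf xf2 yf2 zf19) (kf xf1 yf14 zf28) (kf xf1 yf14 zf29) (kf xf1 yf14 zf30) (kf xf1 yf3 zf14) (kf xf1 yf3 zf16) (kf xf2 yf2 zf26) (kf xf2 yf2 zf27) (kf xf1 yf14 zf35) (kf xf1 yf14 zf36) (kf xf1 yf14 zf37) (kf xf1 yf14 zf38) (kf xf1 yf3 zf22) (kf xf1 yf3 zf23) (kf xf2 yf2 zf35) (kf xf2 yf2 zf36) (kf xf2 yf2 zf37) (kf xf1 yf14 zf44) (kf xf1 yf14 zf45) (kf xf1 yf14 zf46) (kf xf2 yf2 zf42)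 (kf xf1 yf14 zf48) (kf xf1 yf3 zf29) (kf xf2 yf2 zf44)) (@D3.rec (fun _ => Pt) (kf xf1 yf15 zf0) (kf xf1 yf15 zf1) (kf xf1 yf15 zf2) (kf xf2 yf3 zf0) (kf xf1 yf15 zf4) (kf xf1 yf15 zf5) (kf xf1 yf15 zf6) (kf xf1 yf3 zf49) (kf xf1 yf3 zf50) (kf xf2 yf3 zf7) (kf xf1 yf4 zf1) (kf xf2 yf3 zf11) (kf xf1 yf3 zf39) (kf xf1 yf15 zf13) (kf xf1 yf15 zf14) (kf xf1 yf15 zf15) (kf xf2 yf3 zf14) (kf xf1 yf4 zf5) (kf xf2 yf3 zf17) (kf xf1 yf3 zf45) (kf xf1 yf4 zf8) (kf xf2 yf3 zf21) (kf xf2 yf3 zf22) (kf xf1 yf3 zf47) (kf xf1 yf15 zf24) (kf xf2 yf3 zf26) (kf xf2 yf3 zf5) (kf xf2 yf3 zf29) (kf xf1 yf4 zf0) (kf xf2 yf3 zf8) (kf xf2 yf3 zf33) (kf xf2 yf3 zf34) (kf xf1 yf4 zf2) (kf xf1 yf15 zf33) (kf xf1 yf4 zf4) (kf xf2 yf3 zf40) (kf xf2 yf3 zf41) (kf xf1 yf4 zf6) (kf xf1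 yf4 zf17) (kf xf2 yf3 zf45) (kf xf2 yf3 zf47) (kf xf1 yf4 zf9) (kf xf1 yf4 zf10) (kf xf2 yf4 zf1) (kf xf1 yf4 zf23) (kf xf1 yf4 zf24) (kf xf2 yf3 zf38) (kf xf2 yf4 zf6) (kf xf1 yf4 zf14) (kf xf1 yf4 zf15) (kf xf2 yf3 zf42)) (@D3.rec (fun _ => Pt) (kf xf2 yf3 zf43) (kf xf2 yf4 zf12) (kf xf1 yf4 zf18) (kf xf2 yf4 zf15) (kf xf1 yf4 zf19) (kf xf2 yf4 zf19) (kf xf2 yf3 zf49) (kf xf1 yf16 zf7) (kf xf2 yf4 zf0) (kf xf1 yf4 zf22) (kf xf2 yf4 zf26) (kf xf2 yf4 zf3) (kf xf1 yf16 zf12) (kf xf2 yf4 zf29) (kf xf2 yf4 zf30) (kf xf1 yf4 zf26) (kf xf1 yf16 zf16) (kf xf2 yf4 zf35) (kf xf2 yf4 zf37) (kf xf1 yf4 zf29) (kf xf1 yf4 zf30) (kf xf2 yf4 zf42) (kf xf1 yf16 zf22) (kf xf1 yf16 zf23) (kf xf2 yf4 zf46) (kf xf2 yf4 zf48) (kf xf1 yf4 zf34) (kf xf1 yf4 zf35) (kf xf2 yf5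 zf2) (kf xf1 yf4 zf50) (kf xf1 yf5 zf0) (kf xf2 yf5 zf6) (kf xf1 yf4 zf38) (kf xf2 yf5 zf8) (kf xf1 yf4 zf39) (kf xf2 yf5 zf12) (kf xf1 yf5 zf6) (kf xf1 yf16 zf37) (kf xf1 yf5 zf8) (kf xf1 yf4 zf42) (kf xf2 yf5 zf18) (kf xf1 yf5 zf11) (kf xf2 yf5 zf20) (kf xf1 yf4 zf45) (kf xf2 yf5 zf22) (kf xf1 yf4 zf46) (kf xf2 yf5 zf26) (kf xf2 yf4 zf50) (kf xf1 yf16 zf48) (kf xf2 yf5 zf1) (kf xf1 yf4 zf49)) (@D3.rec (fun _ => Pt) (kf xf2 yf5 zf32) (kf xf2 yf5 zf4) (kf xf2 yf5 zf33) (kf xf1 yf5 zf1) (kf xf2 yf5 zf7) (kf xf1 yf5 zf3) (kf xf2 yf5 zf39) (kf xf1 yf17 zf7) (kf xf2 yf5 zf11) (kf xf1 yf5 zf5) (kf xf2 yf5 zf13) (kf xf2 yf5 zf45) (kf xf1 yf17 zf12) (kf xf2 yf5 zf16) (kf xf2 yf5 zf17) (kf xf1 yf5 zf10) (kf xf2 yf6 zf0) (kf xf1 yf5 zf12) (kf xf2 yf6 zf3) (kf xf1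 yf17 zf19) (kf xf1 yf5 zf14) (kf xf2 yf6 zf7) (kf xf1 yf17 zf22) (kf xf1 yf17 zf23) (kf xf1 yf5 zf16) (kf xf1 yf17 zf25) (kf xf2 yf6 zf12) (kf xf1 yf17 zf27) (kf xf1 yf17 zf28) (kf xf1 yf17 zf29) (kf xf2 yf6 zf17) (kf xf1 yf5 zf22) (kf xf1 yf17 zf32) (kf xf1 yf17 zf33) (kf xf1 yf17 zf34) (kf xf1 yf17 zf35) (kf xf1 yf17 zf36) (kf xf2 yf6 zf25) (kf xf1 yf17 zf38) (kf xf1 yf5 zf29) (kf xf2 yf6 zf27) (kf xf2 yf6 zf29) (kf xf1 yf5 zf31) (kf xf2 yf6 zf31) (kf xf1 yf5 zf32) (kf xf2 yf6 zf35) (kf xf1 yf17 zf46) (kf xf1 yf6 zf16) (kf xf1 yf17 zf48) (kf xf1 yf5 zf35) (kf xf2 yf6 zf41)) (@D3.rec (fun _ => Pt) (kf xf1 yf18 zf0) (kf xf2 yf6 zf42) (kf xf1 yf5 zf38) (kf xf1 yf6 zf0) (kf xf1 yf5 zf40) (kf xf2 yf6 zf48) (kf xf1 yf6 zf24) (kf xf1 yf6 zf3) (kf xf1 yf5 zf42)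 (kf xf1 yf6 zf5) (kf xf1 yf18 zf10) (kf xf1 yf6 zf26) (kf xf1 yf6 zf6) (kf xf1 yf6 zf7) (kf xf1 yf5 zf47) (kf xf1 yf5 zf49) (kf xf2 yf6 zf44) (kf xf2 yf6 zf45) (kf xf2 yf6 zf47) (kf xf1 yf6 zf2) (kf xf2 yf7 zf13) (kf xf2 yf7 zf1) (kf xf2 yf7 zf2) (kf xf2 yf7 zf7) (kf xf2 yf7 zf8) (kf xf2 yf7 zf17) (kf xf1 yf6 zf10) (kf xf1 yf18 zf27) (kf xf1 yf6 zf12) (kf xf2 yf7 zf22) (kf xf2 yf6 zf33) (kf xf1 yf18 zf31) (kf xf1 yf6 zf14) (kf xf2 yf7 zf27) (kf xf2 yf6 zf38) (kf xf1 yf18 zf35) (kf xf1 yf6 zf19) (kf xf1 yf6 zf20) (kf xf2 yf6 zf43) (kf xf2 yf6 zf46) (kf xf1 yf6 zf23) (kf xf2 yf7 zf35) (kf xf2 yf7 zf0) (kf xf2 yf7 zf5) (kf xf2 yf7 zf6) (kf xf2 yf7 zf40) (kf xf2 yf7 zf42) (kf xf2 yf7 zf43) (kf xf1 yf6 zf30) (kf xf2 yf7 zf46) (kf xf1 yf6 zf33)) (@D3.rec (fun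 _ => Pt) (kf xf2 yf7 zf47) (kf xf1 yf19 zf1) (kf xf1 yf19 zf2) (kf xf2 yf8 zf0) (kf xf1 yf19 zf4) (kf xf2 yf8 zf3) (kf xf1 yf6 zf37) (kf xf1 yf19 zf7) (kf xf1 yf19 zf8) (kf xf1 yf19 zf9) (kf xf1 yf19 zf10) (kf xf2 yf8 zf8) (kf xf2 yf8 zf10) (kf xf1 yf6 zf44) (kf xf2 yf8 zf13) (kf xf2 yf8 zf14) (kf xf1 yf6 zf46) (kf xf2 yf8 zf4) (kf xf1 yf19 zf18) (kf xf1 yf19 zf19) (kf xf2 yf8 zf19) (kf xf1 yf7 zf1) (kf xf2 yf8 zf21) (kf xf1 yf7 zf2) (kf xf1 yf19 zf24) (kf xf2 yf8 zf25) (kf xf1 yf7 zf4) (kf xf1 yf7 zf5) (kf xf2 yf8 zf30) (kf xf1 yf19 zf29) (kf xf1 yf19 zf30) (kf xf1 yf7 zf8) (kf xf2 yf8 zf33) (kf xf1 yf7 zf9) (kf xf1 yf19 zf34) (kf xf2 yf8 zf37) (kf xf1 yf7 zf11) (kf xf1 yf7 zf12) (kf xf2 yf8 zf42) (kf xf1 yf19 zf39) (kf xf1 yf19 zf40) (kf xf1 yf7 zf25)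 (kf xf1 yf7 zf16) (kf xf1 yf7 zf27) (kf xf1 yf7 zf28) (kf xf2 yf8 zf48) (kf xf1 yf7 zf19) (kf xf2 yf9 zf0) (kf xf1 yf7 zf32) (kf xf1 yf19 zf49) (kf xf1 yf7 zf34)) (@D3.rec (fun _ => Pt) (kf xf1 yf7 zf22) (kf xf1 yf7 zf36) (kf xf2 yf8 zf44) (kf xf1 yf20 zf3) (kf xf2 yf8 zf46) (kf xf2 yf8 zf47) (kf xf1 yf7 zf29) (kf xf1 yf20 zf7) (kf xf2 yf8 zf50) (kf xf1 yf7 zf31) (kf xf2 yf9 zf1) (kf xf2 yf9 zf14) (kf xf1 yf20 zf12) (kf xf2 yf9 zf4) (kf xf2 yf9 zf5) (kf xf2 yf9 zf20) (kf xf2 yf9 zf21) (kf xf1 yf7 zf38) (kf xf1 yf7 zf39) (kf xf2 yf9 zf25) (kf xf1 yf20 zf20) (kf xf1 yf20 zf21) (kf xf2 yf9 zf27) (kf xf1 yf7 zf42) (kf xf1 yf7 zf43) (kf xf1 yf20 zf25) (kf xf1 yf20 zf26) (kf xf1 yf20 zf27) (kf xf1 yf7 zf46) (kf xf1 yf20 zf29) (kf xf2 yf9 zf32) (kf xf1 yf7 zf49)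 (kf xf1 yf7 zf50) (kf xf1 yf8 zf16) (kf xf1 yf20 zf34) (kf xf1 yf8 zf18) (kf xf1 yf8 zf2) (kf xf1 yf8 zf20) (kf xf1 yf8 zf5) (kf xf1 yf8 zf22) (kf xf1 yf20 zf40) (kf xf1 yf8 zf24) (kf xf1 yf8 zf25) (kf xf2 yf9 zf18) (kf xf1 yf20 zf44) (kf xf1 yf8 zf28) (kf xf1 yf8 zf29) (kf xf1 yf8 zf13) (kf xf2 yf9 zf33) (kf xf1 yf20 zf49) (kf xf2 yf9 zf35)) (@D3.rec (fun _ => Pt) (kf xf2 yf9 zf36) (kf xf2 yf10 zf0) (kf xf1 yf21 zf2) (kf xf2 yf9 zf39) (kf xf2 yf9 zf40) (kf xf1 yf21 zf5) (kf xf2 yf9 zf42) (kf xf2 yf9 zf43) (kf xf2 yf10 zf7) (kf xf2 yf9 zf45) (kf xf1 yf8 zf26) (kf xf2 yf9 zf16) (kf xf2 yf9 zf15) (kf xf2 yf9 zf2) (kf xf2 yf10 zf9) (kf xf1 yf8 zf30) (kf xf2 yf10 zf12) (kf xf1 yf21 zf17) (kf xf1 yf21 zf18) (kf xf1 yf8 zf32) (kf xf1 yf21 zf20) (kf xf1 yf21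 zf21) (kf xf1 yf21 zf22) (kf xf1 yf8 zf35) (kf xf2 yf10 zf22) (kf xf2 yf10 zf23) (kf xf1 yf21 zf26) (kf xf1 yf21 zf27) (kf xf1 yf21 zf28) (kf xf1 yf8 zf40) (kf xf2 yf10 zf28) (kf xf2 yf10 zf29) (kf xf1 yf21 zf32) (kf xf1 yf21 zf33) (kf xf1 yf8 zf44) (kf xf1 yf21 zf35) (kf xf1 yf21 zf36) (kf xf2 yf10 zf38) (kf xf1 yf21 zf38) (kf xf1 yf21 zf39) (kf xf2 yf10 zf41) (kf xf1 yf21 zf41) (kf xf1 yf9 zf0) (kf xf2 yf10 zf43) (kf xf1 yf9 zf3) (kf xf1 yf9 zf4) (kf xf1 yf21 zf46) (kf xf1 yf9 zf27) (kf xf1 yf21 zf48) (kf xf1 yf21 zf49) (kf xf2 yf8 zf15)) (@D3.rec (fun _ => Pt) (kf xf1 yf9 zf30) (kf xf1 yf22 zf1) (kf xf1 yf22 zf2) (kf xf1 yf9 zf32) (kf xf1 yf9 zf21) (kf xf1 yf9 zf22) (kf xf1 yf22 zf6) (kf xf1 yf9 zf23) (kf xf1 yf22 zf8) (kf xf1 yf22 zf9) (kf xf1 yf9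 zf33) (kf xf1 yf9 zf24) (kf xf2 yf10 zf50) (kf xf2 yf10 zf44) (kf xf1 yf22 zf14) (kf xf2 yf11 zf2) (kf xf1 yf9 zf29) (kf xf2 yf8 zf2) (kf xf2 yf8 zf16) (kf xf2 yf8 zf17) (kf xf2 yf11 zf3) (kf xf1 yf9 zf36) (kf xf1 yf9 zf38) (kf xf2 yf11 zf4) (kf xf1 yf22 zf24) (kf xf1 yf9 zf41) (kf xf2 yf11 zf6) (kf xf1 yf22 zf27) (kf xf1 yf22 zf28) (kf xf1 yf22 zf29) (kf xf1 yf9 zf47) (kf xf1 yf9 zf48) (kf xf2 yf11 zf16) (kf xf2 yf11 zf12) (kf xf2 yf11 zf19) (kf xf2 yf11 zf14) (kf xf2 yf11 zf23) (kf xf1 yf9 zf49) (kf xf1 yf22 zf38) (kf xf2 yf11 zf27) (kf xf2 yf11 zf28) (kf xf1 yf10 zf0) (kf xf2 yf11 zf24) (kf xf1 yf22 zf43) (kf xf1 yf22 zf44) (kf xf1 yf10 zf9) (kf xf1 yf10 zf10) (kf xf2 yf11 zf39) (kf xf1 yf10 zf12) (kf xf2 yf11 zf42) (kf xf1 yf10 zf14)) (@D3.rec (fun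 _ => Pt) (kf xf2 yf11 zf46) (kf xf1 yf10 zf8) (kf xf2 yf11 zf35) (kf xf2 yf11 zf50) (kf xf2 yf11 zf37) (kf xf2 yf12 zf3) (kf xf1 yf10 zf11) (kf xf2 yf11 zf40) (kf xf2 yf12 zf7) (kf xf1 yf10 zf13) (kf xf2 yf11 zf43) (kf xf2 yf12 zf11) (kf xf2 yf12 zf12) (kf xf1 yf10 zf15) (kf xf1 yf10 zf24) (kf xf2 yf12 zf17) (kf xf2 yf12 zf18) (kf xf1 yf10 zf18) (kf xf2 yf12 zf8) (kf xf2 yf12 zf23) (kf xf2 yf12 zf25) (kf xf1 yf10 zf21) (kf xf1 yf10 zf22) (kf xf2 yf12 zf30) (kf xf2 yf12 zf14) (kf xf2 yf12 zf15) (kf xf1 yf23 zf26) (kf xf2 yf12 zf35) (kf xf1 yf23 zf28) (kf xf2 yf12 zf39) (kf xf1 yf10 zf27) (kf xf1 yf23 zf31) (kf xf2 yf12 zf43) (kf xf2 yf12 zf44) (kf xf1 yf10 zf29) (kf xf1 yf23 zf35) (kf xf1 yf23 zf36) (kf xf2 yf13 zf0) (kf xf1 yf10 zf32) (kf xf1 yf23 zf39)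 (kf xf2 yf13 zf4) (kf xf2 yf13 zf5) (kf xf1 yf10 zf34) (kf xf1 yf10 zf48) (kf xf2 yf13 zf10) (kf xf2 yf13 zf12) (kf xf1 yf10 zf37) (kf xf1 yf10 zf38) (kf xf2 yf13 zf17) (kf xf1 yf11 zf3) (kf xf1 yf11 zf4)) (@D3.rec (fun _ => Pt) (kf xf1 yf11 zf8) (kf xf2 yf13 zf22) (kf xf2 yf13 zf23) (kf xf1 yf10 zf42) (kf xf2 yf13 zf1) (kf xf2 yf13 zf28) (kf xf2 yf13 zf30) (kf xf1 yf10 zf45) (kf xf1 yf10 zf46) (kf xf2 yf13 zf35) (kf xf2 yf13 zf7) (kf xf2 yf13 zf8) (kf xf2 yf13 zf39) (kf xf1 yf10 zf49) (kf xf2 yf13 zf42) (kf xf1 yf10 zf50) (kf xf2 yf13 zf46) (kf xf2 yf13 zf14) (kf xf1 yf13 zf7) (kf xf2 yf13 zf16) (kf xf1 yf11 zf2) (kf xf2 yf14 zf2) (kf xf2 yf13 zf19) (kf xf1 yf24 zf23) (kf xf2 yf14 zf3) (kf xf2 yf14 zf4) (kf xf1 yf11 zf6) (kf xf1 yf24 zf27) (kf xf2 yf14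 zf7) (kf xf2 yf14 zf8) (kf xf1 yf11 zf9) (kf xf1 yf11 zf10) (kf xf2 yf14 zf12) (kf xf1 yf24 zf33) (kf xf1 yf24 zf34) (kf xf2 yf14 zf14) (kf xf1 yf11 zf13) (kf xf2 yf14 zf16) (kf xf1 yf11 zf14) (kf xf2 yf14 zf19) (kf xf1 yf24 zf40) (kf xf1 yf13 zf18) (kf xf1 yf24 zf42) (kf xf1 yf11 zf17) (kf xf2 yf14 zf25) (kf xf1 yf24 zf45) (kf xf2 yf14 zf26) (kf xf1 yf11 zf20) (kf xf2 yf14 zf29) (kf xf1 yf24 zf49) (kf xf1 yf11 zf22)) (@D3.rec (fun _ => Pt) (kf xf2 yf14 zf33) (kf xf1 yf13 zf29) (kf xf1 yf25 zf2) (kf xf1 yf11 zf24) (kf xf2 yf14 zf38) (kf xf1 yf25 zf5) (kf xf2 yf14 zf39) (kf xf1 yf13 zf35) (kf xf1 yf25 zf8) (kf xf1 yf25 zf9) (kf xf1 yf11 zf29) (kf xf1 yf11 zf31) (kf xf2 yf14 zf46) (kf xf1 yf25 zf13) (kf xf1 yf25 zf14) (kf xf1 yf25 zf15) (kf xf2 yf15 zf2)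 (kf xf1 yf25 zf17) (kf xf1 yf11 zf47) (kf xf1 yf11 zf48) (kf xf2 yf15 zf8) (kf xf1 yf11 zf50) (kf xf2 yf15 zf12) (kf xf1 yf11 zf39) (kf xf1 yf25 zf24) (kf xf1 yf12 zf2) (kf xf2 yf15 zf17) (kf xf1 yf12 zf4) (kf xf2 yf15 zf20) (kf xf1 yf11 zf43) (kf xf1 yf12 zf7) (kf xf2 yf15 zf24) (kf xf2 yf15 zf25) (kf xf1 yf11 zf45) (kf xf1 yf25 zf34) (kf xf2 yf15 zf4) (kf xf2 yf15 zf30) (kf xf2 yf15 zf6) (kf xf2 yf15 zf33) (kf xf1 yf11 zf49) (kf xf2 yf15 zf9) (kf xf2 yf15 zf37) (kf xf2 yf15 zf38) (kf xf1 yf12 zf0) (kf xf1 yf25 zf44) (kf xf2 yf15 zf43) (kf xf1 yf12 zf3) (kf xf2 yf15 zf46) (kf xf2 yf15 zf47) (kf xf1 yf12 zf5) (kf xf1 yf12 zf17)) (@D3.rec (fun _ => Pt) (kf xf2 yf16 zf1) (kf xf2 yf16 zf3) (kf xf1 yf12 zf8) (kf xf1 yf12 zf9) (kf xf2 yf16 zf8) (kf xf1 yf12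 zf23) (kf xf1 yf12 zf24) (kf xf2 yf16 zf11) (kf xf1 yf12 zf12) (kf xf2 yf15 zf44) (kf xf2 yf16 zf16) (kf xf1 yf12 zf14) (kf xf1 yf12 zf15) (kf xf2 yf16 zf21) (kf xf2 yf15 zf49) (kf xf2 yf15 zf50) (kf xf2 yf16 zf25) (kf xf1 yf12 zf18) (kf xf2 yf16 zf28) (kf xf1 yf12 zf19) (kf xf2 yf16 zf32) (kf xf2 yf16 zf5) (kf xf2 yf12 zf28) (kf xf2 yf16 zf7) (kf xf1 yf12 zf22) (kf xf2 yf16 zf39) (kf xf2 yf16 zf10) (kf xf1 yf26 zf27) (kf xf2 yf16 zf42) (kf xf2 yf16 zf43) (kf xf1 yf12 zf26) (kf xf1 yf26 zf31) (kf xf2 yf16 zf48) (kf xf2 yf16 zf50) (kf xf1 yf12 zf29) (kf xf1 yf12 zf30) (kf xf2 yf17 zf4) (kf xf1 yf26 zf37) (kf xf1 yf26 zf38) (kf xf2 yf17 zf8) (kf xf2 yf17 zf10) (kf xf1 yf12 zf34) (kf xf1 yf12 zf35) (kf xf2 yf17 zf15) (kf xf1 yf12 zf50) (kf xf1 yf13 zf0) (kf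 xf2 yf17 zf19) (kf xf1 yf12 zf38) (kf xf2 yf17 zf22) (kf xf1 yf12 zf39) (kf xf2 yf17 zf26))
def f_f_2 : D2 → D3 → Pt := @D2.rec (fun _ => D3 → Pt) (@D3.rec (fun _ => Pt) (kf xf1 yf13 zf6) (kf xf2 yf13 zf15) (kf xf1 yf13 zf8) (kf xf1 yf12 zf42) (kf xf2 yf17 zf33) (kf xf1 yf13 zf11) (kf xf2 yf17 zf35) (kf xf1 yf12 zf45) (kf xf2 yf17 zf38) (kf xf1 yf12 zf46) (kf xf2 yf17 zf42) (kf xf2 yf17 zf12) (kf xf2 yf13 zf33) (kf xf2 yf17 zf14) (kf xf1 yf12 zf49) (kf xf2 yf17 zf49) (kf xf2 yf17 zf17) (kf xf2 yf18 zf0) (kf xf1 yf13 zf1) (kf xf2 yf18 zf4) (kf xf2 yf17 zf21) (kf xf1 yf13 zf3) (kf xf2 yf18 zf9) (kf xf2 yf13 zf44) (kf xf2 yf17 zf25) (kf xf1 yf13 zf5) (kf xf2 yf18 zf16) (kf xf2 yf17 zf28) (kf xf2 yf18 zf17) (kf xf2 yf13 zf50) (kf xf2 yf17 zf31) (kf xf2 yf17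 zf32) (kf xf1 yf13 zf10) (kf xf1 yf13 zf12) (kf xf2 yf0 zf34) (kf xf1 yf13 zf14) (kf xf2 yf14 zf17) (kf xf2 yf0 zf37) (kf xf1 yf13 zf16) (kf xf2 yf0 zf39) (kf xf2 yf18 zf33) (kf xf2 yf14 zf22) (kf xf2 yf0 zf42) (kf xf2 yf0 zf43) (kf xf1 yf13 zf21) (kf xf1 yf13 zf23) (kf xf2 yf14 zf27) (kf xf2 yf0 zf47) (kf xf1 yf13 zf25) (kf xf2 yf0 zf49) (kf xf2 yf14 zf31)) (@D3.rec (fun _ => Pt) (kf xf2 yf1 zf0) (kf xf1 yf13 zf28) (kf xf2 yf19 zf0) (kf xf2 yf14 zf35) (kf xf2 yf1 zf4) (kf xf2 yf1 zf5) (kf xf1 yf13 zf32) (kf xf1 yf13 zf34) (kf xf2 yf19 zf7) (kf xf2 yf19 zf8) (kf xf2 yf14 zf42) (kf xf2 yf14 zf43) (kf xf2 yf1 zf12) (kf xf2 yf1 zf13) (kf xf2 yf19 zf16) (kf xf1 yf13 zf39) (kf xf2 yf19 zf19) (kf xf1 yf13 zf40) (kf xf2 yf19 zf23) (kf xf2 yf1 zf19) (kf xf2 yf1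 zf20) (kf xf2 yf1 zf21) (kf xf1 yf13 zf43) (kf xf2 yf19 zf30) (kf xf2 yf1 zf24) (kf xf2 yf19 zf31) (kf xf1 yf13 zf46) (kf xf2 yf19 zf35) (kf xf1 yf14 zf9) (kf xf1 yf13 zf48) (kf xf2 yf19 zf40) (kf xf2 yf1 zf31) (kf xf1 yf14 zf13) (kf xf1 yf13 zf50) (kf xf2 yf19 zf47) (kf xf1 yf14 zf16) (kf xf2 yf19 zf48) (kf xf2 yf1 zf37) (kf xf1 yf14 zf19) (kf xf1 yf14 zf20) (kf xf1 yf14 zf4) (kf xf1 yf14 zf6) (kf xf2 yf20 zf6) (kf xf2 yf1 zf43) (kf xf2 yf19 zf34) (kf xf1 yf14 zf8) (kf xf2 yf20 zf12) (kf xf2 yf19 zf37) (kf xf2 yf1 zf48) (kf xf2 yf19 zf39) (kf xf1 yf14 zf11)) (@D3.rec (fun _ => Pt) (kf xf2 yf20 zf17) (kf xf2 yf20 zf18) (kf xf2 yf20 zf21) (kf xf2 yf2 zf3) (kf xf2 yf19 zf45) (kf xf2 yf19 zf46) (kf xf1 yf14 zf15) (kf xf1 yf14 zf17) (kf xf2 yf20 zf28) (kf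 xf2 yf20 zf29) (kf xf2 yf2 zf10) (kf xf2 yf2 zf11) (kf xf2 yf20 zf2) (kf xf2 yf20 zf3) (kf xf2 yf20 zf36) (kf xf2 yf2 zf15) (kf xf2 yf2 zf16) (kf xf2 yf2 zf17) (kf xf1 yf14 zf25) (kf xf1 yf14 zf27) (kf xf2 yf20 zf43) (kf xf2 yf20 zf44) (kf xf2 yf2 zf22) (kf xf2 yf2 zf23) (kf xf2 yf2 zf24) (kf xf2 yf2 zf25) (kf xf1 yf14 zf33) (kf xf1 yf14 zf34) (kf xf2 yf21 zf1) (kf xf2 yf21 zf2) (kf xf2 yf21 zf3) (kf xf2 yf2 zf31) (kf xf2 yf2 zf32) (kf xf2 yf2 zf33) (kf xf2 yf2 zf34) (kf xf1 yf14 zf41) (kf xf1 yf14 zf42) (kf xf1 yf14 zf43) (kf xf2 yf21 zf5) (kf xf2 yf2 zf39) (kf xf2 yf2 zf40) (kf xf2 yf21 zf14) (kf xf1 yf14 zf47) (kf xf2 yf21 zf17) (kf xf1 yf14 zf50) (kf xf2 yf21 zf18) (kf xf2 yf2 zf46) (kf xf2 yf2 zf47) (kf xf2 yf21 zf23) (kf xf2 yf2 zf49) (kf xf2 yf21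 zf27)) (@D3.rec (fun _ => Pt) (kf xf1 yf15 zf3) (kf xf2 yf3 zf1) (kf xf2 yf3 zf2) (kf xf2 yf3 zf3) (kf xf2 yf21 zf30) (kf xf1 yf15 zf26) (kf xf2 yf21 zf33) (kf xf1 yf15 zf9) (kf xf1 yf15 zf29) (kf xf2 yf21 zf37) (kf xf2 yf21 zf38) (kf xf1 yf15 zf11) (kf xf2 yf21 zf28) (kf xf2 yf21 zf42) (kf xf1 yf15 zf16) (kf xf2 yf21 zf45) (kf xf2 yf21 zf46) (kf xf1 yf15 zf18) (kf xf2 yf3 zf18) (kf xf2 yf21 zf50) (kf xf2 yf22 zf1) (kf xf1 yf15 zf21) (kf xf1 yf15 zf22) (kf xf2 yf22 zf6) (kf xf2 yf3 zf24) (kf xf2 yf3 zf25) (kf xf1 yf15 zf25) (kf xf2 yf22 zf10) (kf xf2 yf22 zf11) (kf xf1 yf15 zf27) (kf xf2 yf3 zf30) (kf xf2 yf22 zf15) (kf xf2 yf22 zf17) (kf xf1 yf15 zf30) (kf xf1 yf15 zf31) (kf xf2 yf22 zf22) (kf xf2 yf3 zf36) (kf xf2 yf3 zf37) (kf xf1 yf15 zf46) (kf xf2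 yf22 zf27) (kf xf1 yf15 zf35) (kf xf1 yf15 zf36) (kf xf1 yf15 zf50) (kf xf1 yf16 zf0) (kf xf2 yf22 zf33) (kf xf1 yf15 zf39) (kf xf2 yf22 zf36) (kf xf1 yf15 zf40) (kf xf2 yf22 zf40) (kf xf1 yf16 zf6) (kf xf2 yf3 zf50)) (@D3.rec (fun _ => Pt) (kf xf1 yf16 zf8) (kf xf1 yf15 zf43) (kf xf2 yf22 zf47) (kf xf1 yf16 zf11) (kf xf2 yf22 zf25) (kf xf2 yf22 zf48) (kf xf1 yf15 zf47) (kf xf2 yf22 zf28) (kf xf2 yf4 zf8) (kf xf2 yf22 zf30) (kf xf2 yf22 zf31) (kf xf2 yf23 zf4) (kf xf1 yf16 zf1) (kf xf2 yf23 zf8) (kf xf2 yf22 zf35) (kf xf1 yf16 zf3) (kf xf2 yf23 zf12) (kf xf2 yf4 zf17) (kf xf2 yf22 zf39) (kf xf1 yf16 zf5) (kf xf2 yf23 zf18) (kf xf2 yf22 zf42) (kf xf2 yf23 zf19) (kf xf2 yf4 zf23) (kf xf2 yf22 zf45) (kf xf2 yf22 zf46) (kf xf1 yf16 zf10) (kf xf2 yf23 zf27)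 (kf xf2 yf23 zf29) (kf xf1 yf16 zf13) (kf xf1 yf16 zf14) (kf xf2 yf23 zf34) (kf xf2 yf4 zf32) (kf xf2 yf4 zf33) (kf xf2 yf23 zf38) (kf xf1 yf16 zf17) (kf xf2 yf23 zf40) (kf xf1 yf16 zf18) (kf xf2 yf23 zf44) (kf xf2 yf4 zf39) (kf xf2 yf4 zf40) (kf xf2 yf4 zf41) (kf xf1 yf16 zf21) (kf xf2 yf23 zf46) (kf xf2 yf4 zf44) (kf xf2 yf23 zf48) (kf xf1 yf16 zf24) (kf xf2 yf23 zf50) (kf xf1 yf16 zf25) (kf xf2 yf24 zf3) (kf xf1 yf16 zf47)) (@D3.rec (fun _ => Pt) (kf xf2 yf5 zf0) (kf xf1 yf16 zf49) (kf xf1 yf16 zf28) (kf xf2 yf24 zf9) (kf xf1 yf17 zf1) (kf xf2 yf24 zf10) (kf xf1 yf16 zf31) (kf xf1 yf17 zf4) (kf xf1 yf16 zf33) (kf xf2 yf24 zf16) (kf xf2 yf5 zf10) (kf xf1 yf17 zf8) (kf xf1 yf16 zf35) (kf xf1 yf17 zf10) (kf xf2 yf23 zf24) (kf xf2 yf5 zf15) (kf xf1 yf17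 zf13) (kf xf1 yf17 zf14) (kf xf1 yf16 zf40) (kf xf2 yf24 zf24) (kf xf1 yf16 zf42) (kf xf2 yf23 zf49) (kf xf1 yf16 zf44) (kf xf2 yf24 zf30) (kf xf2 yf5 zf24) (kf xf2 yf24 zf2) (kf xf1 yf16 zf46) (kf xf2 yf24 zf4) (kf xf2 yf24 zf35) (kf xf2 yf5 zf29) (kf xf2 yf24 zf7) (kf xf2 yf24 zf8) (kf xf1 yf17 zf0) (kf xf1 yf17 zf2) (kf xf2 yf5 zf34) (kf xf2 yf24 zf12) (kf xf2 yf24 zf13) (kf xf2 yf5 zf37) (kf xf2 yf24 zf15) (kf xf1 yf17 zf6) (kf xf2 yf25 zf0) (kf xf2 yf25 zf2) (kf xf2 yf5 zf42) (kf xf2 yf24 zf20) (kf xf2 yf24 zf21) (kf xf1 yf17 zf11) (kf xf2 yf23 zf21) (kf xf2 yf23 zf20) (kf xf2 yf5 zf48) (kf xf2 yf22 zf43) (kf xf2 yf24 zf23)) (@D3.rec (fun _ => Pt) (kf xf1 yf17 zf16) (kf xf2 yf6 zf1) (kf xf2 yf6 zf2) (kf xf1 yf17 zf18) (kf xf2 yf6 zf4) (kf xf2 yf6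 zf5) (kf xf2 yf6 zf6) (kf xf1 yf17 zf21) (kf xf2 yf25 zf19) (kf xf2 yf6 zf9) (kf xf2 yf6 zf10) (kf xf2 yf6 zf11) (kf xf1 yf17 zf26) (kf xf2 yf25 zf24) (kf xf2 yf25 zf25) (kf xf2 yf6 zf15) (kf xf2 yf6 zf16) (kf xf1 yf17 zf30) (kf xf2 yf6 zf18) (kf xf2 yf6 zf19) (kf xf2 yf25 zf34) (kf xf2 yf6 zf21) (kf xf2 yf6 zf22) (kf xf2 yf25 zf38) (kf xf2 yf6 zf24) (kf xf1 yf17 zf37) (kf xf2 yf25 zf40) (kf xf1 yf17 zf40) (kf xf2 yf25 zf41) (kf xf1 yf17 zf41) (kf xf2 yf6 zf30) (kf xf1 yf17 zf43) (kf xf2 yf25 zf47) (kf xf1 yf18 zf30) (kf xf2 yf6 zf34) (kf xf1 yf17 zf45) (kf xf2 yf6 zf36) (kf xf2 yf21 zf39) (kf xf1 yf18 zf34) (kf xf2 yf6 zf39) (kf xf2 yf6 zf40) (kf xf1 yf17 zf50) (kf xf1 yf18 zf1) (kf xf1 yf18 zf38) (kf xf1 yf18 zf16) (kf xf1 yf18 zf17) (kf xf1 yf18 zf39)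 (kf xf1 yf18 zf18) (kf xf1 yf18 zf5) (kf xf2 yf26 zf13) (kf xf2 yf6 zf50)) (@D3.rec (fun _ => Pt) (kf xf1 yf18 zf42) (kf xf1 yf18 zf21) (kf xf1 yf18 zf22) (kf xf2 yf7 zf3) (kf xf2 yf7 zf4) (kf xf1 yf18 zf43) (kf xf1 yf18 zf44) (kf xf1 yf18 zf23) (kf xf1 yf18 zf24) (kf xf2 yf26 zf5) (kf xf2 yf26 zf7) (kf xf2 yf26 zf11) (kf xf2 yf26 zf12) (kf xf1 yf18 zf20) (kf xf2 yf26 zf26) (kf xf2 yf26 zf18) (kf xf2 yf26 zf21) (kf xf1 yf18 zf25) (kf xf2 yf25 zf42) (kf xf2 yf7 zf19) (kf xf2 yf25 zf45) (kf xf2 yf7 zf21) (kf xf1 yf18 zf29) (kf xf2 yf26 zf34) (kf xf2 yf26 zf36) (kf xf2 yf25 zf50) (kf xf2 yf7 zf26) (kf xf1 yf18 zf33) (kf xf2 yf21 zf26) (kf xf2 yf21 zf40) (kf xf2 yf26 zf2) (kf xf2 yf7 zf31) (kf xf2 yf26 zf4) (kf xf2 yf26 zf8) (kf xf2 yf26 zf10) (kf xf1 yf18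 zf41) (kf xf2 yf26 zf45) (kf xf2 yf26 zf17) (kf xf2 yf21 zf41) (kf xf2 yf26 zf20) (kf xf1 yf18 zf45) (kf xf3 yf0 zf1) (kf xf1 yf18 zf46) (kf xf1 yf18 zf47) (kf xf3 yf0 zf4) (kf xf3 yf0 zf5) (kf xf1 yf18 zf49) (kf xf1 yf19 zf0) (kf xf3 yf0 zf6) (kf xf3 yf0 zf8) (kf xf3 yf0 zf10)) (@D3.rec (fun _ => Pt) (kf xf1 yf19 zf3) (kf xf3 yf0 zf9) (kf xf1 yf22 zf17) (kf xf1 yf19 zf5) (kf xf1 yf19 zf17) (kf xf2 yf8 zf5) (kf xf2 yf8 zf6) (kf xf3 yf0 zf13) (kf xf1 yf19 zf11) (kf xf3 yf0 zf15) (kf xf1 yf19 zf12) (kf xf3 yf0 zf11) (kf xf3 yf0 zf16) (kf xf1 yf19 zf14) (kf xf1 yf19 zf15) (kf xf1 yf21 zf50) (kf xf1 yf22 zf18) (kf xf1 yf22 zf19) (kf xf2 yf8 zf18) (kf xf1 yf19 zf20) (kf xf2 yf8 zf20) (kf xf1 yf19 zf22) (kf xf2 yf8 zf22) (kf xf2 yf8 zf23) (kf xf3 yf0 zf17) (kf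 xf1 yf19 zf25) (kf xf3 yf0 zf27) (kf xf2 yf8 zf27) (kf xf2 yf8 zf28) (kf xf2 yf8 zf29) (kf xf1 yf19 zf28) (kf xf2 yf8 zf31) (kf xf2 yf8 zf32) (kf xf1 yf19 zf32) (kf xf2 yf8 zf34) (kf xf2 yf8 zf35) (kf xf3 yf0 zf31) (kf xf1 yf19 zf35) (kf xf3 yf0 zf32) (kf xf2 yf8 zf39) (kf xf2 yf8 zf40) (kf xf2 yf8 zf41) (kf xf1 yf19 zf38) (kf xf2 yf8 zf43) (kf xf1 yf20 zf2) (kf xf2 yf8 zf45) (kf xf1 yf20 zf4) (kf xf1 yf20 zf5) (kf xf1 yf19 zf45) (kf xf2 yf8 zf49) (kf xf1 yf20 zf8)) (@D3.rec (fun _ => Pt) (kf xf1 yf19 zf47) (kf xf1 yf20 zf10) (kf xf1 yf21 zf13) (kf xf2 yf9 zf3) (kf xf1 yf20 zf13) (kf xf1 yf20 zf14) (kf xf3 yf0 zf39) (kf xf3 yf0 zf34) (kf xf2 yf9 zf8) (kf xf3 yf0 zf36) (kf xf3 yf0 zf40) (kf xf2 yf9 zf11) (kf xf3 yf0 zf33) (kf xf3 yf0 zf38) (kf xf1 yf20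 zf11) (kf xf1 yf21 zf12) (kf xf1 yf21 zf11) (kf xf2 yf9 zf17) (kf xf1 yf20 zf43) (kf xf3 yf0 zf47) (kf xf1 yf20 zf15) (kf xf1 yf20 zf16) (kf xf2 yf9 zf22) (kf xf2 yf9 zf23) (kf xf2 yf9 zf24) (kf xf1 yf20 zf19) (kf xf2 yf9 zf26) (kf xf1 yf20 zf22) (kf xf2 yf9 zf28) (kf xf2 yf9 zf29) (kf xf2 yf9 zf30) (kf xf2 yf9 zf31) (kf xf1 yf20 zf30) (kf xf1 yf20 zf48) (kf xf2 yf9 zf34) (kf xf1 yf20 zf50) (kf xf1 yf21 zf0) (kf xf3 yf0 zf43) (kf xf2 yf9 zf38) (kf xf1 yf21 zf3) (kf xf1 yf21 zf4) (kf xf2 yf9 zf41) (kf xf1 yf21 zf6) (kf xf1 yf21 zf7) (kf xf3 yf0 zf46) (kf xf1 yf21 zf9) (kf xf2 yf9 zf46) (kf xf3 yf1 zf5) (kf xf3 yf1 zf6) (kf xf3 yf1 zf13) (kf xf3 yf1 zf8)) (@D3.rec (fun _ => Pt) (kf xf1 yf21 zf1) (kf xf3 yf0 zf42) (kf xf3 yf1 zf14) (kf xf2 yf10 zf3) (kf xf3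 yf1 zf7) (kf xf3 yf1 zf16) (kf xf3 yf1 zf10) (kf xf1 yf21 zf8) (kf xf3 yf0 zf44) (kf xf1 yf21 zf14) (kf xf2 yf10 zf10) (kf xf2 yf10 zf11) (kf xf1 yf21 zf16) (kf xf3 yf1 zf25) (kf xf2 yf10 zf14) (kf xf2 yf10 zf15) (kf xf2 yf10 zf16) (kf xf2 yf10 zf17) (kf xf3 yf1 zf31) (kf xf2 yf10 zf19) (kf xf2 yf10 zf20) (kf xf2 yf10 zf21) (kf xf1 yf21 zf24) (kf xf1 yf21 zf25) (kf xf3 yf1 zf15) (kf xf3 yf1 zf36) (kf xf2 yf10 zf26) (kf xf2 yf10 zf27) (kf xf1 yf21 zf30) (kf xf1 yf21 zf31) (kf xf3 yf1 zf38) (kf xf3 yf1 zf37) (kf xf2 yf10 zf32) (kf xf2 yf10 zf33) (kf xf2 yf10 zf34) (kf xf2 yf10 zf35) (kf xf3 yf1 zf44) (kf xf2 yf10 zf37) (kf xf1 yf21 zf37) (kf xf3 yf1 zf46) (kf xf3 yf1 zf32) (kf xf1 yf21 zf40) (kf xf3 yf1 zf30) (kf xf1 yf21 zf43) (kf xf1 yf22 zf13) (kf xf2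 yf10 zf45) (kf xf2 yf10 zf46) (kf xf3 yf0 zf18) (kf xf2 yf10 zf48) (kf xf2 yf10 zf49) (kf xf1 yf22 zf12)) (@D3.rec (fun _ => Pt) (kf xf2 yf11 zf0) (kf xf3 yf1 zf50) (kf xf1 yf22 zf15) (kf xf1 yf22 zf20) (kf xf1 yf22 zf23) (kf xf3 yf2 zf0) (kf xf1 yf22 zf26) (kf xf3 yf2 zf2) (kf xf2 yf11 zf8) (kf xf2 yf11 zf9) (kf xf3 yf2 zf8) (kf xf2 yf11 zf11) (kf xf1 yf22 zf33) (kf xf3 yf2 zf13) (kf xf1 yf22 zf35) (kf xf3 yf2 zf17) (kf xf1 yf22 zf32) (kf xf3 yf2 zf11) (kf xf3 yf2 zf22) (kf xf1 yf22 zf34) (kf xf3 yf2 zf14) (kf xf3 yf2 zf26) (kf xf3 yf2 zf27) (kf xf1 yf22 zf36) (kf xf1 yf22 zf42) (kf xf3 yf2 zf32) (kf xf3 yf2 zf34) (kf xf1 yf22 zf39) (kf xf1 yf22 zf40) (kf xf3 yf2 zf39) (kf xf3 yf2 zf29) (kf xf3 yf2 zf30) (kf xf2 yf11 zf32) (kf xf2 yf11 zf33) (kf xf3 yf2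 zf46) (kf xf1 yf23 zf2) (kf xf3 yf2 zf49) (kf xf1 yf23 zf4) (kf xf3 yf3 zf2) (kf xf1 yf22 zf47) (kf xf1 yf23 zf7) (kf xf3 yf3 zf6) (kf xf1 yf22 zf49) (kf xf1 yf23 zf10) (kf xf3 yf3 zf10) (kf xf3 yf3 zf11) (kf xf1 yf23 zf0) (kf xf2 yf11 zf47) (kf xf3 yf2 zf47) (kf xf3 yf3 zf17) (kf xf1 yf23 zf3)) (@D3.rec (fun _ => Pt) (kf xf3 yf2 zf50) (kf xf3 yf3 zf21) (kf xf3 yf3 zf22) (kf xf1 yf23 zf5) (kf xf2 yf12 zf4) (kf xf3 yf3 zf27) (kf xf3 yf3 zf28) (kf xf1 yf23 zf8) (kf xf1 yf23 zf18) (kf xf3 yf3 zf33) (kf xf3 yf3 zf35) (kf xf1 yf23 zf11) (kf xf1 yf23 zf12) (kf xf3 yf3 zf40) (kf xf1 yf23 zf24) (kf xf1 yf23 zf25) (kf xf3 yf3 zf44) (kf xf1 yf23 zf15) (kf xf1 yf23 zf16) (kf xf3 yf3 zf49) (kf xf3 yf3 zf30) (kf xf3 yf3 zf31) (kf xf3 yf4 zf2) (kf xf1 yf23 zf19) (kf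 xf3 yf4 zf5) (kf xf1 yf23 zf20) (kf xf3 yf4 zf9) (kf xf3 yf3 zf37) (kf xf1 yf26 zf22) (kf xf3 yf3 zf39) (kf xf1 yf23 zf23) (kf xf3 yf4 zf16) (kf xf3 yf3 zf42) (kf xf2 yf12 zf33) (kf xf3 yf4 zf20) (kf xf1 yf23 zf27) (kf xf2 yf12 zf36) (kf xf3 yf4 zf24) (kf xf3 yf4 zf25) (kf xf1 yf23 zf29) (kf xf2 yf12 zf40) (kf xf3 yf4 zf30) (kf xf3 yf4 zf32) (kf xf1 yf23 zf32) (kf xf1 yf23 zf33) (kf xf3 yf4 zf37) (kf xf2 yf12 zf46) (kf xf2 yf12 zf47) (kf xf2 yf12 zf48) (kf xf3 yf4 zf42) (kf xf3 yf4 zf43)) (@D3.rec (fun _ => Pt) (kf xf1 yf23 zf37) (kf xf1 yf24 zf4) (kf xf3 yf4 zf48) (kf xf3 yf4 zf50) (kf xf1 yf23 zf40) (kf xf1 yf23 zf41) (kf xf3 yf5 zf4) (kf xf1 yf24 zf10) (kf xf1 yf24 zf11) (kf xf3 yf5 zf8) (kf xf1 yf23 zf44) (kf xf3 yf5 zf11) (kf xf1 yf23 zf45) (kf xf3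 yf5 zf15) (kf xf1 yf24 zf17) (kf xf2 yf0 zf1) (kf xf1 yf24 zf19) (kf xf1 yf23 zf48) (kf xf3 yf5 zf22) (kf xf1 yf24 zf22) (kf xf3 yf5 zf24) (kf xf3 yf5 zf26) (kf xf1 yf24 zf1) (kf xf1 yf24 zf2) (kf xf3 yf5 zf31) (kf xf3 yf4 zf45) (kf xf3 yf4 zf46) (kf xf3 yf5 zf35) (kf xf1 yf24 zf5) (kf xf3 yf5 zf38) (kf xf1 yf24 zf6) (kf xf3 yf5 zf42) (kf xf3 yf5 zf1) (kf xf2 yf0 zf12) (kf xf3 yf5 zf3) (kf xf1 yf24 zf9) (kf xf3 yf5 zf49) (kf xf3 yf5 zf6) (kf xf3 yf6 zf0) (kf xf1 yf24 zf12) (kf xf3 yf6 zf4) (kf xf3 yf5 zf10) (kf xf1 yf24 zf14) (kf xf3 yf6 zf9) (kf xf2 yf0 zf23) (kf xf3 yf5 zf14) (kf xf1 yf24 zf16) (kf xf3 yf6 zf16) (kf xf3 yf5 zf17) (kf xf3 yf6 zf17) (kf xf2 yf0 zf29)) (@D3.rec (fun _ => Pt) (kf xf3 yf5 zf20) (kf xf3 yf5 zf21) (kf xf1 yf24 zf21) (kf xf1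 yf24 zf24) (kf xf1 yf24 zf25) (kf xf2 yf14 zf5) (kf xf2 yf14 zf6) (kf xf1 yf24 zf28) (kf xf1 yf24 zf29) (kf xf2 yf14 zf9) (kf xf2 yf14 zf10) (kf xf2 yf14 zf11) (kf xf1 yf24 zf32) (kf xf2 yf14 zf13) (kf xf1 yf24 zf35) (kf xf2 yf14 zf15) (kf xf1 yf24 zf37) (kf xf2 yf0 zf36) (kf xf2 yf14 zf18) (kf xf1 yf24 zf39) (kf xf2 yf14 zf20) (kf xf3 yf6 zf45) (kf xf2 yf0 zf41) (kf xf2 yf14 zf23) (kf xf2 yf14 zf24) (kf xf1 yf24 zf44) (kf xf1 yf24 zf46) (kf xf2 yf0 zf46) (kf xf2 yf14 zf28) (kf xf1 yf24 zf48) (kf xf2 yf14 zf30) (kf xf2 yf0 zf50) (kf xf2 yf14 zf32) (kf xf1 yf25 zf0) (kf xf3 yf7 zf12) (kf xf2 yf1 zf3) (kf xf2 yf14 zf36) (kf xf2 yf14 zf37) (kf xf1 yf25 zf4) (kf xf1 yf25 zf6) (kf xf3 yf7 zf19) (kf xf3 yf7 zf20) (kf xf2 yf1 zf10) (kf xf2 yf1 zf11) (kf xf2 yf14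 zf44) (kf xf2 yf14 zf45) (kf xf1 yf25 zf12) (kf xf3 yf7 zf27) (kf xf2 yf14 zf48) (kf xf2 yf14 zf49) (kf xf3 yf7 zf33)) (@D3.rec (fun _ => Pt) (kf xf2 yf15 zf0) (kf xf3 yf7 zf37) (kf xf1 yf25 zf16) (kf xf2 yf15 zf3) (kf xf1 yf25 zf35) (kf xf3 yf7 zf42) (kf xf1 yf25 zf37) (kf xf3 yf7 zf45) (kf xf1 yf25 zf20) (kf xf1 yf25 zf40) (kf xf3 yf7 zf49) (kf xf3 yf7 zf50) (kf xf1 yf25 zf22) (kf xf3 yf7 zf38) (kf xf2 yf15 zf14) (kf xf3 yf8 zf4) (kf xf3 yf8 zf6) (kf xf1 yf25 zf26) (kf xf3 yf8 zf9) (kf xf3 yf8 zf10) (kf xf1 yf25 zf28) (kf xf2 yf15 zf21) (kf xf3 yf8 zf15) (kf xf3 yf8 zf17) (kf xf1 yf25 zf31) (kf xf1 yf25 zf32) (kf xf3 yf8 zf22) (kf xf2 yf15 zf27) (kf xf2 yf15 zf28) (kf xf3 yf8 zf26) (kf xf1 yf25 zf36) (kf xf3 yf8 zf29) (kf xf3 yf8 zf30) (kf xf1 yf25 zf38)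 (kf xf2 yf15 zf34) (kf xf3 yf8 zf35) (kf xf3 yf8 zf37) (kf xf1 yf25 zf41) (kf xf1 yf25 zf42) (kf xf3 yf8 zf42) (kf xf2 yf15 zf40) (kf xf2 yf15 zf41) (kf xf3 yf8 zf45) (kf xf1 yf25 zf45) (kf xf1 yf26 zf9) (kf xf3 yf8 zf50) (kf xf1 yf25 zf47) (kf xf1 yf25 zf48) (kf xf3 yf9 zf4) (kf xf1 yf26 zf14) (kf xf1 yf26 zf15)) (@D3.rec (fun _ => Pt) (kf xf3 yf9 zf8) (kf xf1 yf26 zf0) (kf xf3 yf9 zf11) (kf xf1 yf26 zf1) (kf xf3 yf9 zf15) (kf xf1 yf26 zf21) (kf xf3 yf3 zf38) (kf xf1 yf26 zf23) (kf xf1 yf26 zf4) (kf xf3 yf9 zf22) (kf xf1 yf26 zf26) (kf xf1 yf26 zf7) (kf xf3 yf9 zf25) (kf xf3 yf8 zf47) (kf xf3 yf8 zf48) (kf xf3 yf9 zf28) (kf xf1 yf26 zf10) (kf xf3 yf9 zf32) (kf xf3 yf9 zf1) (kf xf3 yf3 zf47) (kf xf3 yf9 zf3) (kf xf1 yf26 zf13) (kf xf3 yf9 zf39) (kf xf3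 yf9 zf6) (kf xf3 yf9 zf41) (kf xf1 yf26 zf16) (kf xf3 yf9 zf45) (kf xf3 yf9 zf10) (kf xf1 yf26 zf18) (kf xf3 yf9 zf50) (kf xf3 yf4 zf7) (kf xf3 yf9 zf14) (kf xf1 yf26 zf20) (kf xf3 yf10 zf6) (kf xf3 yf9 zf17) (kf xf3 yf10 zf7) (kf xf3 yf4 zf13) (kf xf3 yf9 zf20) (kf xf3 yf9 zf21) (kf xf1 yf26 zf25) (kf xf3 yf10 zf15) (kf xf3 yf10 zf17) (kf xf1 yf26 zf28) (kf xf1 yf26 zf29) (kf xf3 yf10 zf22) (kf xf2 yf16 zf45) (kf xf2 yf16 zf46) (kf xf3 yf10 zf26) (kf xf1 yf26 zf32) (kf xf3 yf10 zf29) (kf xf1 yf26 zf33)) (@D3.rec (fun _ => Pt) (kf xf3 yf10 zf33) (kf xf2 yf17 zf1) (kf xf3 yf4 zf35) (kf xf2 yf17 zf3) (kf xf1 yf26 zf36) (kf xf3 yf10 zf40) (kf xf2 yf17 zf6) (kf xf3 yf10 zf42) (kf xf1 yf26 zf39) (kf xf3 yf10 zf45) (kf xf1 yf26 zf40) (kf xf3 yf10 zf49) (kf xf2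 yf0 zf11) (kf xf3 yf5 zf2) (kf xf2 yf0 zf13) (kf xf1 yf26 zf43) (kf xf3 yf11 zf5) (kf xf2 yf0 zf16) (kf xf3 yf11 zf7) (kf xf1 yf26 zf46) (kf xf3 yf11 zf11) (kf xf2 yf0 zf20) (kf xf1 yf26 zf48) (kf xf3 yf11 zf16) (kf xf3 yf5 zf13) (kf xf2 yf0 zf24) (kf xf1 yf26 zf50) (kf xf3 yf11 zf23) (kf xf2 yf0 zf27) (kf xf3 yf11 zf24) (kf xf3 yf5 zf19) (kf xf2 yf0 zf30) (kf xf2 yf0 zf31) (kf xf2 yf0 zf4) (kf xf3 yf11 zf32) (kf xf2 yf0 zf6) (kf xf3 yf11 zf36) (kf xf3 yf10 zf44) (kf xf2 yf0 zf8) (kf xf3 yf11 zf41) (kf xf3 yf5 zf40) (kf xf3 yf10 zf48) (kf xf2 yf0 zf10) (kf xf3 yf11 zf48) (kf xf3 yf11 zf0) (kf xf3 yf11 zf49) (kf xf3 yf5 zf46) (kf xf3 yf11 zf3) (kf xf3 yf11 zf4) (kf xf2 yf0 zf15) (kf xf3 yf12 zf5)) (@D3.rec (fun _ => Pt) (kf xf2 yf0 zf17) (kf xf3 yf12 zf8)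 (kf xf3 yf6 zf2) (kf xf3 yf11 zf10) (kf xf2 yf0 zf19) (kf xf3 yf12 zf14) (kf xf3 yf11 zf13) (kf xf3 yf6 zf7) (kf xf3 yf11 zf15) (kf xf2 yf0 zf22) (kf xf3 yf12 zf20) (kf xf3 yf12 zf21) (kf xf3 yf12 zf24) (kf xf3 yf6 zf13) (kf xf3 yf11 zf21) (kf xf3 yf11 zf22) (kf xf2 yf0 zf26) (kf xf2 yf0 zf28) (kf xf3 yf12 zf31) (kf xf3 yf12 zf32) (kf xf3 yf6 zf20) (kf xf3 yf6 zf21) (kf xf3 yf11 zf29) (kf xf3 yf11 zf30) (kf xf3 yf6 zf36) (kf xf2 yf18 zf25) (kf xf2 yf18 zf26) (kf xf3 yf6 zf39) (kf xf2 yf18 zf28) (kf xf3 yf12 zf44) (kf xf3 yf6 zf42) (kf xf2 yf18 zf31) (kf xf2 yf18 zf32) (kf xf2 yf0 zf40) (kf xf3 yf12 zf49) (kf xf3 yf12 zf50) (kf xf3 yf6 zf48) (kf xf3 yf6 zf49) (kf xf2 yf18 zf38) (kf xf2 yf18 zf39) (kf xf3 yf7 zf1) (kf xf2 yf18 zf41) (kf xf3 yf13 zf9) (kf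 xf3 yf7 zf4) (kf xf2 yf18 zf44) (kf xf2 yf18 zf45) (kf xf3 yf7 zf7) (kf xf3 yf13 zf16) (kf xf3 yf7 zf9) (kf xf2 yf18 zf49) (kf xf2 yf18 zf50)) (@D3.rec (fun _ => Pt) (kf xf2 yf1 zf2) (kf xf3 yf13 zf21) (kf xf3 yf13 zf22) (kf xf3 yf7 zf15) (kf xf3 yf7 zf16) (kf xf2 yf19 zf5) (kf xf2 yf19 zf6) (kf xf2 yf1 zf8) (kf xf2 yf1 zf9) (kf xf3 yf13 zf30) (kf xf3 yf13 zf31) (kf xf3 yf13 zf32) (kf xf3 yf7 zf24) (kf xf3 yf7 zf25) (kf xf2 yf19 zf14) (kf xf3 yf13 zf40) (kf xf2 yf1 zf14) (kf xf3 yf13 zf44) (kf xf2 yf19 zf18) (kf xf2 yf1 zf16) (kf xf3 yf13 zf49) (kf xf2 yf19 zf21) (kf xf2 yf19 zf22) (kf xf2 yf1 zf18) (kf xf3 yf14 zf5) (kf xf2 yf19 zf25) (kf xf3 yf14 zf6) (kf xf2 yf19 zf27) (kf xf2 yf19 zf28) (kf xf2 yf19 zf29) (kf xf2 yf1 zf23) (kf xf2 yf1 zf25) (kf xf3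 yf14 zf15) (kf xf2 yf19 zf33) (kf xf2 yf1 zf44) (kf xf2 yf1 zf27) (kf xf3 yf14 zf21) (kf xf2 yf1 zf47) (kf xf2 yf19 zf38) (kf xf2 yf1 zf49) (kf xf2 yf1 zf30) (kf xf3 yf14 zf27) (kf xf3 yf14 zf28) (kf xf3 yf14 zf31) (kf xf2 yf19 zf44) (kf xf2 yf2 zf4) (kf xf2 yf2 zf5) (kf xf2 yf1 zf34) (kf xf2 yf1 zf36) (kf xf3 yf14 zf38) (kf xf3 yf14 zf39)) (@D3.rec (fun _ => Pt) (kf xf2 yf20 zf0) (kf xf2 yf20 zf1) (kf xf2 yf2 zf12) (kf xf2 yf2 zf13) (kf xf2 yf20 zf4) (kf xf3 yf14 zf14) (kf xf2 yf1 zf42) (kf xf3 yf14 zf50) (kf xf3 yf15 zf0) (kf xf2 yf20 zf9) (kf xf3 yf14 zf19) (kf xf3 yf14 zf20) (kf xf2 yf1 zf46) (kf xf3 yf15 zf7) (kf xf2 yf20 zf14) (kf xf3 yf14 zf25) (kf xf3 yf14 zf26) (kf xf2 yf2 zf0) (kf xf2 yf2 zf1) (kf xf3 yf15 zf17) (kf xf3 yf15 zf16) (kf xf2 yf2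 zf2) (kf xf3 yf15 zf19) (kf xf3 yf15 zf20) (kf xf2 yf20 zf24) (kf xf2 yf20 zf25) (kf xf3 yf14 zf36) (kf xf3 yf14 zf37) (kf xf2 yf2 zf8) (kf xf2 yf2 zf9) (kf xf3 yf15 zf28) (kf xf3 yf15 zf29) (kf xf3 yf15 zf30) (kf xf2 yf20 zf33) (kf xf2 yf20 zf34) (kf xf3 yf14 zf45) (kf xf2 yf2 zf14) (kf xf3 yf15 zf38) (kf xf3 yf15 zf39) (kf xf2 yf20 zf39) (kf xf2 yf20 zf40) (kf xf2 yf20 zf41) (kf xf2 yf20 zf42) (kf xf2 yf2 zf20) (kf xf2 yf2 zf21) (kf xf3 yf15 zf47) (kf xf3 yf15 zf48) (kf xf3 yf15 zf49) (kf xf2 yf20 zf48) (kf xf2 yf20 zf49) (kf xf2 yf20 zf50)) (@D3.rec (fun _ => Pt) (kf xf2 yf21 zf0) (kf xf2 yf2 zf28) (kf xf2 yf2 zf29) (kf xf2 yf2 zf30) (kf xf3 yf16 zf6) (kf xf2 yf2 zf38) (kf xf3 yf16 zf7) (kf xf3 yf16 zf9) (kf xf2 yf21 zf8) (kf xf2 yf21 zf9) (kf xf2 yf21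 zf10) (kf xf3 yf16 zf0) (kf xf2 yf21 zf12) (kf xf2 yf21 zf13) (kf xf2 yf2 zf41) (kf xf3 yf16 zf18) (kf xf3 yf16 zf19) (kf xf2 yf2 zf43) (kf xf2 yf2 zf45) (kf xf3 yf16 zf20) (kf xf3 yf16 zf22) (kf xf2 yf21 zf21) (kf xf3 yf16 zf25) (kf xf2 yf2 zf48) (kf xf2 yf21 zf24) (kf xf3 yf16 zf29) (kf xf2 yf7 zf28) (kf xf2 yf2 zf50) (kf xf2 yf3 zf12) (kf xf3 yf16 zf30) (kf xf2 yf3 zf4) (kf xf3 yf16 zf33) (kf xf3 yf16 zf34) (kf xf2 yf3 zf6) (kf xf3 yf16 zf26) (kf xf3 yf16 zf38) (kf xf3 yf16 zf40) (kf xf2 yf3 zf9) (kf xf2 yf3 zf10) (kf xf2 yf6 zf37) (kf xf2 yf7 zf29) (kf xf2 yf7 zf38) (kf xf2 yf3 zf13) (kf xf2 yf21 zf43) (kf xf3 yf16 zf46) (kf xf2 yf3 zf15) (kf xf2 yf3 zf16) (kf xf2 yf21 zf47) (kf xf2 yf21 zf48) (kf xf3 yf17 zf1) (kf xf2 yf3 zf19)) (@D3.rec (fun _ =>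 Pt) (kf xf3 yf17 zf4) (kf xf2 yf3 zf20) (kf xf3 yf17 zf8) (kf xf2 yf22 zf3) (kf xf2 yf22 zf4) (kf xf2 yf22 zf5) (kf xf2 yf3 zf23) (kf xf2 yf22 zf7) (kf xf2 yf22 zf8) (kf xf3 yf17 zf12) (kf xf2 yf3 zf27) (kf xf2 yf3 zf28) (kf xf2 yf22 zf12) (kf xf2 yf22 zf13) (kf xf3 yf17 zf18) (kf xf2 yf3 zf31) (kf xf3 yf17 zf21) (kf xf2 yf3 zf32) (kf xf3 yf17 zf25) (kf xf2 yf22 zf19) (kf xf2 yf22 zf20) (kf xf2 yf22 zf21) (kf xf2 yf3 zf35) (kf xf3 yf17 zf28) (kf xf2 yf22 zf24) (kf xf2 yf4 zf4) (kf xf3 yf17 zf29) (kf xf2 yf3 zf39) (kf xf2 yf4 zf7) (kf xf2 yf22 zf29) (kf xf2 yf4 zf9) (kf xf2 yf4 zf10) (kf xf3 yf17 zf36) (kf xf2 yf3 zf44) (kf xf3 yf17 zf40) (kf xf2 yf4 zf14) (kf xf2 yf3 zf46) (kf xf3 yf17 zf44) (kf xf2 yf22 zf38) (kf xf2 yf4 zf18) (kf xf2 yf3 zf48) (kf xf3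 yf17 zf50) (kf xf2 yf4 zf21) (kf xf2 yf5 zf49) (kf xf2 yf22 zf44) (kf xf2 yf4 zf24) (kf xf2 yf4 zf25) (kf xf2 yf4 zf2) (kf xf2 yf4 zf5) (kf xf2 yf22 zf49) (kf xf3 yf17 zf31)) (@D3.rec (fun _ => Pt) (kf xf3 yf17 zf32) (kf xf3 yf18 zf6) (kf xf3 yf17 zf34) (kf xf3 yf18 zf8) (kf xf2 yf4 zf11) (kf xf3 yf18 zf11) (kf xf2 yf23 zf6) (kf xf3 yf17 zf39) (kf xf2 yf4 zf13) (kf xf3 yf17 zf41) (kf xf2 yf23 zf10) (kf xf3 yf17 zf43) (kf xf2 yf4 zf16) (kf xf3 yf18 zf21) (kf xf3 yf18 zf23) (kf xf2 yf23 zf15) (kf xf3 yf17 zf48) (kf xf3 yf17 zf49) (kf xf2 yf4 zf20) (kf xf2 yf4 zf22) (kf xf2 yf5 zf47) (kf xf2 yf5 zf46) (kf xf2 yf23 zf22) (kf xf2 yf23 zf23) (kf xf2 yf5 zf14) (kf xf3 yf18 zf1) (kf xf3 yf18 zf34) (kf xf2 yf4 zf27) (kf xf3 yf18 zf36) (kf xf2 yf4 zf28) (kf xf3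 yf18 zf40) (kf xf2 yf23 zf31) (kf xf2 yf23 zf32) (kf xf2 yf23 zf33) (kf xf2 yf4 zf31) (kf xf3 yf18 zf44) (kf xf2 yf23 zf36) (kf xf3 yf18 zf45) (kf xf2 yf4 zf34) (kf xf2 yf23 zf39) (kf xf2 yf4 zf36) (kf xf3 yf19 zf0) (kf xf2 yf23 zf42) (kf xf2 yf23 zf43) (kf xf2 yf4 zf38) (kf xf2 yf23 zf45) (kf xf2 yf4 zf43) (kf xf3 yf19 zf2) (kf xf2 yf4 zf45) (kf xf2 yf5 zf21) (kf xf2 yf4 zf47)) (@D3.rec (fun _ => Pt) (kf xf3 yf19 zf8) (kf xf2 yf24 zf1) (kf xf2 yf5 zf25) (kf xf2 yf4 zf49) (kf xf2 yf5 zf27) (kf xf3 yf18 zf32) (kf xf2 yf24 zf6) (kf xf2 yf5 zf30) (kf xf2 yf5 zf31) (kf xf2 yf5 zf3) (kf xf2 yf5 zf5) (kf xf2 yf24 zf11) (kf xf2 yf5 zf35) (kf xf2 yf5 zf36) (kf xf2 yf24 zf14) (kf xf2 yf5 zf38) (kf xf2 yf5 zf9) (kf xf3 yf19 zf27) (kf xf3 yf18 zf28) (kf xf2 yf24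 zf19) (kf xf2 yf5 zf43) (kf xf2 yf5 zf44) (kf xf2 yf24 zf22) (kf xf2 yf5 zf50) (kf xf2 yf5 zf19) (kf xf2 yf24 zf25) (kf xf3 yf19 zf4) (kf xf3 yf19 zf5) (kf xf2 yf24 zf28) (kf xf3 yf19 zf7) (kf xf2 yf5 zf23) (kf xf3 yf19 zf38) (kf xf2 yf24 zf32) (kf xf3 yf19 zf11) (kf xf3 yf19 zf12) (kf xf2 yf5 zf28) (kf xf3 yf18 zf30) (kf xf3 yf19 zf43) (kf xf2 yf24 zf38) (kf xf2 yf24 zf39) (kf xf3 yf19 zf16) (kf xf3 yf19 zf17) (kf xf2 yf24 zf42) (kf xf3 yf19 zf19) (kf xf3 yf20 zf1) (kf xf3 yf19 zf21) (kf xf2 yf24 zf46) (kf xf3 yf20 zf5) (kf xf2 yf24 zf48) (kf xf3 yf19 zf25) (kf xf3 yf19 zf26)) (@D3.rec (fun _ => Pt) (kf xf2 yf5 zf40) (kf xf3 yf20 zf12) (kf xf2 yf5 zf41) (kf xf3 yf18 zf25) (kf xf3 yf18 zf24) (kf xf3 yf17 zf46) (kf xf3 yf18 zf7) (kf xf3 yf17 zf33) (kf xf2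 yf25 zf8) (kf xf2 yf25 zf9) (kf xf3 yf20 zf16) (kf xf2 yf25 zf11) (kf xf2 yf25 zf12) (kf xf2 yf25 zf13) (kf xf2 yf25 zf14) (kf xf3 yf20 zf23) (kf xf2 yf25 zf16) (kf xf2 yf25 zf17) (kf xf2 yf25 zf18) (kf xf2 yf6 zf8) (kf xf3 yf20 zf28) (kf xf3 yf20 zf29) (kf xf2 yf25 zf22) (kf xf2 yf25 zf23) (kf xf2 yf6 zf13) (kf xf2 yf6 zf14) (kf xf3 yf20 zf33) (kf xf3 yf20 zf34) (kf xf2 yf25 zf28) (kf xf2 yf25 zf29) (kf xf2 yf25 zf30) (kf xf2 yf25 zf31) (kf xf3 yf20 zf43) (kf xf2 yf25 zf33) (kf xf2 yf6 zf20) (kf xf3 yf20 zf45) (kf xf3 yf20 zf46) (kf xf2 yf25 zf37) (kf xf2 yf6 zf23) (kf xf3 yf20 zf50) (kf xf2 yf6 zf26) (kf xf2 yf6 zf28) (kf xf2 yf7 zf18) (kf xf2 yf25 zf43) (kf xf2 yf25 zf44) (kf xf2 yf7 zf20) (kf xf2 yf25 zf46) (kf xf2 yf6 zf32) (kf xf3 yf21 zf9) (kf xf3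 yf16 zf41) (kf xf2 yf7 zf25)) (@D3.rec (fun _ => Pt) (kf xf2 yf26 zf0) (kf xf2 yf26 zf1) (kf xf2 yf7 zf30) (kf xf2 yf26 zf3) (kf xf2 yf7 zf32) (kf xf2 yf7 zf9) (kf xf2 yf26 zf6) (kf xf2 yf7 zf10) (kf xf2 yf7 zf33) (kf xf2 yf26 zf9) (kf xf2 yf7 zf34) (kf xf2 yf7 zf11) (kf xf2 yf7 zf12) (kf xf2 yf6 zf49) (kf xf3 yf21 zf23) (kf xf2 yf26 zf15) (kf xf2 yf26 zf16) (kf xf2 yf7 zf37) (kf xf2 yf7 zf15) (kf xf2 yf26 zf19) (kf xf2 yf7 zf39) (kf xf2 yf7 zf16) (kf xf3 yf21 zf13) (kf xf3 yf21 zf20) (kf xf3 yf21 zf21) (kf xf3 yf21 zf28) (kf xf2 yf7 zf14) (kf xf3 yf21 zf0) (kf xf2 yf26 zf28) (kf xf3 yf21 zf32) (kf xf3 yf21 zf4) (kf xf3 yf21 zf35) (kf xf3 yf21 zf6) (kf xf2 yf26 zf33) (kf xf2 yf7 zf23) (kf xf3 yf21 zf40) (kf xf2 yf7 zf24) (kf xf3 yf16 zf28) (kf xf3 yf16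 zf42) (kf xf3 yf16 zf24) (kf xf3 yf16 zf35) (kf xf3 yf21 zf11) (kf xf3 yf21 zf16) (kf xf3 yf21 zf19) (kf xf3 yf21 zf48) (kf xf2 yf7 zf36) (kf xf3 yf21 zf24) (kf xf3 yf8 zf2) (kf xf3 yf16 zf36) (kf xf3 yf21 zf25) (kf xf3 yf21 zf49))
def f_f_3 : D2 → D3 → Pt := @D2.rec (fun _ => D3 → Pt) (@D3.rec (fun _ => Pt) (kf xf3 yf22 zf3) (kf xf2 yf7 zf41) (kf xf3 yf22 zf6) (kf xf3 yf0 zf3) (kf xf2 yf7 zf44) (kf xf2 yf7 zf45) (kf xf2 yf7 zf48) (kf xf3 yf22 zf10) (kf xf2 yf7 zf49) (kf xf2 yf8 zf1) (kf xf2 yf7 zf50) (kf xf2 yf8 zf11) (kf xf3 yf0 zf12) (kf xf2 yf8 zf7) (kf xf3 yf22 zf11) (kf xf2 yf8 zf9) (kf xf2 yf8 zf12) (kf xf2 yf8 zf24) (kf xf2 yf10 zf47) (kf xf3 yf0 zf19) (kf xf3 yf0 zf20) (kf xf3 yf0 zf21) (kf xf3 yf0 zf22) (kf xf3 yf0 zf23) (kf xf3 yf0 zf24) (kf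 xf3 yf22 zf14) (kf xf3 yf0 zf26) (kf xf2 yf8 zf26) (kf xf3 yf0 zf28) (kf xf3 yf0 zf29) (kf xf3 yf0 zf30) (kf xf2 yf8 zf36) (kf xf2 yf8 zf38) (kf xf2 yf9 zf12) (kf xf2 yf9 zf7) (kf xf3 yf0 zf35) (kf xf2 yf9 zf9) (kf xf3 yf0 zf37) (kf xf2 yf9 zf13) (kf xf2 yf9 zf6) (kf xf2 yf9 zf10) (kf xf3 yf0 zf41) (kf xf2 yf10 zf1) (kf xf2 yf9 zf37) (kf xf2 yf10 zf8) (kf xf3 yf0 zf45) (kf xf2 yf9 zf44) (kf xf2 yf9 zf19) (kf xf3 yf0 zf48) (kf xf3 yf0 zf49) (kf xf3 yf0 zf50)) (@D3.rec (fun _ => Pt) (kf xf3 yf1 zf0) (kf xf3 yf1 zf1) (kf xf3 yf1 zf2) (kf xf3 yf1 zf3) (kf xf3 yf1 zf4) (kf xf2 yf9 zf47) (kf xf2 yf9 zf48) (kf xf2 yf10 zf4) (kf xf2 yf9 zf50) (kf xf3 yf19 zf48) (kf xf2 yf10 zf6) (kf xf3 yf19 zf44) (kf xf3 yf19 zf13) (kf xf2 yf9 zf49) (kf xf2 yf10 zf2) (kf xf2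 yf10 zf24) (kf xf2 yf10 zf5) (kf xf3 yf19 zf46) (kf xf3 yf1 zf18) (kf xf3 yf1 zf19) (kf xf3 yf1 zf20) (kf xf3 yf22 zf22) (kf xf3 yf1 zf22) (kf xf3 yf1 zf23) (kf xf3 yf1 zf24) (kf xf2 yf10 zf13) (kf xf3 yf19 zf45) (kf xf3 yf20 zf35) (kf xf3 yf1 zf28) (kf xf3 yf1 zf29) (kf xf2 yf10 zf42) (kf xf2 yf10 zf18) (kf xf2 yf10 zf40) (kf xf3 yf22 zf26) (kf xf3 yf1 zf34) (kf xf3 yf1 zf35) (kf xf2 yf10 zf25) (kf xf2 yf10 zf31) (kf xf2 yf10 zf30) (kf xf3 yf22 zf27) (kf xf3 yf1 zf40) (kf xf3 yf22 zf31) (kf xf3 yf1 zf42) (kf xf3 yf22 zf23) (kf xf2 yf10 zf36) (kf xf3 yf22 zf21) (kf xf2 yf10 zf39) (kf xf3 yf21 zf42) (kf xf3 yf1 zf48) (kf xf3 yf1 zf49) (kf xf2 yf11 zf1)) (@D3.rec (fun _ => Pt) (kf xf2 yf11 zf5) (kf xf3 yf2 zf1) (kf xf2 yf11 zf7) (kf xf3 yf22 zf34) (kf xf3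 yf2 zf4) (kf xf3 yf22 zf39) (kf xf3 yf2 zf6) (kf xf3 yf22 zf43) (kf xf2 yf11 zf10) (kf xf3 yf2 zf9) (kf xf3 yf22 zf47) (kf xf2 yf11 zf17) (kf xf3 yf23 zf0) (kf xf2 yf11 zf13) (kf xf2 yf11 zf20) (kf xf3 yf23 zf4) (kf xf3 yf23 zf5) (kf xf2 yf11 zf15) (kf xf3 yf2 zf18) (kf xf3 yf22 zf48) (kf xf3 yf23 zf11) (kf xf3 yf23 zf12) (kf xf2 yf11 zf18) (kf xf3 yf2 zf23) (kf xf3 yf23 zf17) (kf xf3 yf23 zf19) (kf xf2 yf11 zf21) (kf xf2 yf11 zf22) (kf xf3 yf23 zf24) (kf xf2 yf11 zf30) (kf xf2 yf11 zf31) (kf xf3 yf23 zf28) (kf xf2 yf11 zf25) (kf xf3 yf23 zf31) (kf xf2 yf11 zf26) (kf xf3 yf23 zf35) (kf xf3 yf23 zf21) (kf xf3 yf2 zf37) (kf xf3 yf23 zf23) (kf xf2 yf11 zf29) (kf xf3 yf23 zf42) (kf xf3 yf23 zf26) (kf xf3 yf2 zf42) (kf xf3 yf23 zf45) (kf xf3 yf2 zf44) (kf xf3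 yf23 zf49) (kf xf2 yf11 zf34) (kf xf2 yf11 zf48) (kf xf3 yf24 zf2) (kf xf2 yf11 zf36) (kf xf2 yf12 zf0)) (@D3.rec (fun _ => Pt) (kf xf3 yf24 zf6) (kf xf3 yf24 zf7) (kf xf2 yf11 zf38) (kf xf3 yf23 zf50) (kf xf3 yf24 zf12) (kf xf3 yf24 zf13) (kf xf2 yf11 zf41) (kf xf3 yf3 zf7) (kf xf3 yf24 zf18) (kf xf3 yf24 zf20) (kf xf2 yf11 zf44) (kf xf2 yf11 zf45) (kf xf3 yf24 zf25) (kf xf3 yf3 zf13) (kf xf3 yf3 zf14) (kf xf3 yf24 zf29) (kf xf3 yf24 zf30) (kf xf2 yf11 zf49) (kf xf3 yf3 zf18) (kf xf3 yf24 zf35) (kf xf3 yf24 zf37) (kf xf2 yf12 zf1) (kf xf2 yf12 zf2) (kf xf3 yf24 zf42) (kf xf3 yf3 zf24) (kf xf3 yf3 zf25) (kf xf3 yf24 zf46) (kf xf2 yf12 zf5) (kf xf2 yf12 zf6) (kf xf3 yf25 zf0) (kf xf2 yf12 zf20) (kf xf2 yf12 zf21) (kf xf3 yf25 zf4) (kf xf2 yf12 zf9) (kf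 xf3 yf25 zf7) (kf xf2 yf12 zf10) (kf xf3 yf25 zf11) (kf xf2 yf12 zf27) (kf xf2 yf16 zf6) (kf xf2 yf12 zf29) (kf xf2 yf12 zf13) (kf xf3 yf25 zf18) (kf xf2 yf12 zf32) (kf xf3 yf25 zf19) (kf xf2 yf12 zf16) (kf xf3 yf25 zf23) (kf xf3 yf24 zf48) (kf xf2 yf16 zf19) (kf xf3 yf24 zf50) (kf xf2 yf12 zf19) (kf xf3 yf25 zf30)) (@D3.rec (fun _ => Pt) (kf xf3 yf25 zf2) (kf xf3 yf25 zf32) (kf xf2 yf12 zf22) (kf xf3 yf25 zf36) (kf xf3 yf25 zf6) (kf xf2 yf12 zf24) (kf xf3 yf25 zf41) (kf xf2 yf16 zf30) (kf xf3 yf25 zf10) (kf xf2 yf12 zf26) (kf xf3 yf25 zf48) (kf xf3 yf25 zf13) (kf xf3 yf25 zf49) (kf xf2 yf16 zf36) (kf xf3 yf25 zf16) (kf xf3 yf25 zf17) (kf xf2 yf12 zf31) (kf xf3 yf4 zf17) (kf xf3 yf26 zf7) (kf xf3 yf26 zf8) (kf xf2 yf12 zf34) (kf xf3 yf4 zf21) (kf xf3 yf26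 zf13) (kf xf3 yf26 zf15) (kf xf2 yf12 zf37) (kf xf2 yf12 zf38) (kf xf3 yf26 zf20) (kf xf3 yf4 zf27) (kf xf3 yf4 zf28) (kf xf3 yf26 zf24) (kf xf2 yf12 zf41) (kf xf3 yf26 zf27) (kf xf2 yf12 zf42) (kf xf3 yf26 zf31) (kf xf3 yf4 zf34) (kf xf2 yf17 zf2) (kf xf3 yf4 zf36) (kf xf2 yf12 zf45) (kf xf3 yf26 zf38) (kf xf3 yf4 zf39) (kf xf3 yf26 zf40) (kf xf3 yf26 zf42) (kf xf2 yf12 zf49) (kf xf2 yf12 zf50) (kf xf3 yf26 zf47) (kf xf2 yf13 zf25) (kf xf2 yf13 zf26) (kf xf4 yf0 zf0) (kf xf2 yf13 zf2) (kf xf4 yf0 zf3) (kf xf2 yf13 zf3)) (@D3.rec (fun _ => Pt) (kf xf4 yf0 zf7) (kf xf2 yf13 zf32) (kf xf2 yf17 zf13) (kf xf2 yf13 zf34) (kf xf2 yf13 zf6) (kf xf4 yf0 zf14) (kf xf2 yf13 zf37) (kf xf4 yf0 zf16) (kf xf2 yf13 zf9) (kf xf4 yf0 zf20) (kf xf2 yf13 zf41) (kf xf2 yf13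 zf11) (kf xf4 yf0 zf25) (kf xf2 yf17 zf24) (kf xf2 yf13 zf45) (kf xf2 yf13 zf13) (kf xf4 yf0 zf32) (kf xf2 yf13 zf48) (kf xf4 yf0 zf33) (kf xf2 yf17 zf30) (kf xf2 yf14 zf0) (kf xf2 yf14 zf1) (kf xf2 yf13 zf18) (kf xf4 yf0 zf41) (kf xf2 yf13 zf20) (kf xf4 yf0 zf44) (kf xf2 yf13 zf21) (kf xf4 yf0 zf48) (kf xf3 yf26 zf44) (kf xf3 yf5 zf29) (kf xf3 yf26 zf46) (kf xf2 yf13 zf24) (kf xf4 yf1 zf4) (kf xf3 yf26 zf49) (kf xf4 yf1 zf6) (kf xf2 yf13 zf27) (kf xf4 yf1 zf10) (kf xf4 yf0 zf2) (kf xf2 yf13 zf29) (kf xf4 yf1 zf15) (kf xf2 yf17 zf40) (kf xf4 yf0 zf6) (kf xf2 yf13 zf31) (kf xf4 yf1 zf22) (kf xf4 yf0 zf9) (kf xf4 yf1 zf23) (kf xf2 yf17 zf46) (kf xf4 yf0 zf12) (kf xf4 yf0 zf13) (kf xf2 yf13 zf36) (kf xf4 yf1 zf30)) (@D3.rec (fun _ => Pt) (kf xf2 yf13 zf38)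 (kf xf4 yf1 zf34) (kf xf2 yf18 zf2) (kf xf4 yf0 zf19) (kf xf2 yf13 zf40) (kf xf4 yf1 zf41) (kf xf4 yf0 zf22) (kf xf2 yf18 zf7) (kf xf4 yf0 zf24) (kf xf2 yf13 zf43) (kf xf4 yf1 zf47) (kf xf4 yf1 zf48) (kf xf4 yf2 zf0) (kf xf2 yf18 zf13) (kf xf4 yf0 zf30) (kf xf4 yf0 zf31) (kf xf2 yf13 zf47) (kf xf2 yf13 zf49) (kf xf4 yf2 zf7) (kf xf4 yf2 zf8) (kf xf2 yf18 zf20) (kf xf2 yf18 zf21) (kf xf4 yf0 zf38) (kf xf4 yf0 zf39) (kf xf3 yf6 zf24) (kf xf3 yf6 zf25) (kf xf3 yf6 zf26) (kf xf3 yf6 zf27) (kf xf3 yf6 zf28) (kf xf3 yf6 zf29) (kf xf3 yf6 zf30) (kf xf3 yf6 zf31) (kf xf4 yf2 zf21) (kf xf3 yf6 zf33) (kf xf3 yf6 zf34) (kf xf3 yf6 zf35) (kf xf2 yf18 zf24) (kf xf3 yf6 zf37) (kf xf3 yf6 zf38) (kf xf2 yf18 zf27) (kf xf3 yf6 zf40) (kf xf4 yf2 zf31) (kf xf2 yf18 zf30)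 (kf xf3 yf6 zf43) (kf xf3 yf6 zf44) (kf xf2 yf14 zf21) (kf xf4 yf2 zf36) (kf xf4 yf2 zf37) (kf xf2 yf18 zf36) (kf xf2 yf18 zf37) (kf xf3 yf6 zf50)) (@D3.rec (fun _ => Pt) (kf xf3 yf7 zf0) (kf xf2 yf18 zf40) (kf xf3 yf7 zf2) (kf xf4 yf2 zf47) (kf xf2 yf18 zf43) (kf xf3 yf7 zf5) (kf xf3 yf7 zf6) (kf xf2 yf18 zf46) (kf xf4 yf3 zf3) (kf xf2 yf18 zf48) (kf xf3 yf7 zf10) (kf xf3 yf7 zf11) (kf xf2 yf14 zf34) (kf xf4 yf3 zf8) (kf xf4 yf3 zf9) (kf xf2 yf19 zf3) (kf xf2 yf19 zf4) (kf xf3 yf7 zf17) (kf xf3 yf7 zf18) (kf xf2 yf14 zf40) (kf xf2 yf14 zf41) (kf xf4 yf3 zf17) (kf xf4 yf3 zf18) (kf xf4 yf3 zf19) (kf xf2 yf19 zf12) (kf xf2 yf19 zf13) (kf xf3 yf7 zf26) (kf xf2 yf14 zf47) (kf xf4 yf3 zf27) (kf xf3 yf7 zf29) (kf xf4 yf3 zf31) (kf xf3 yf7 zf31) (kf xf4 yf3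 zf34) (kf xf2 yf14 zf50) (kf xf3 yf7 zf34) (kf xf4 yf3 zf38) (kf xf4 yf3 zf39) (kf xf2 yf15 zf1) (kf xf2 yf15 zf13) (kf xf3 yf7 zf39) (kf xf4 yf3 zf43) (kf xf4 yf3 zf45) (kf xf2 yf15 zf5) (kf xf4 yf3 zf48) (kf xf4 yf3 zf49) (kf xf2 yf15 zf7) (kf xf4 yf3 zf35) (kf xf4 yf4 zf3) (kf xf4 yf4 zf5) (kf xf2 yf15 zf10) (kf xf2 yf15 zf11)) (@D3.rec (fun _ => Pt) (kf xf4 yf4 zf10) (kf xf4 yf3 zf41) (kf xf2 yf26 zf47) (kf xf4 yf4 zf14) (kf xf2 yf15 zf15) (kf xf4 yf4 zf16) (kf xf2 yf15 zf16) (kf xf3 yf8 zf7) (kf xf4 yf4 zf21) (kf xf2 yf15 zf18) (kf xf2 yf15 zf19) (kf xf4 yf4 zf26) (kf xf3 yf8 zf12) (kf xf3 yf8 zf13) (kf xf4 yf4 zf29) (kf xf2 yf15 zf22) (kf xf4 yf4 zf31) (kf xf2 yf15 zf23) (kf xf4 yf4 zf34) (kf xf3 yf8 zf19) (kf xf3 yf24 zf23) (kf xf3 yf8 zf21) (kf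 xf2 yf15 zf26) (kf xf4 yf4 zf41) (kf xf3 yf8 zf24) (kf xf4 yf4 zf42) (kf xf2 yf15 zf29) (kf xf3 yf8 zf27) (kf xf4 yf4 zf47) (kf xf2 yf15 zf31) (kf xf2 yf15 zf32) (kf xf4 yf5 zf1) (kf xf3 yf8 zf32) (kf xf3 yf8 zf33) (kf xf4 yf5 zf5) (kf xf2 yf15 zf35) (kf xf4 yf5 zf8) (kf xf2 yf15 zf36) (kf xf4 yf5 zf12) (kf xf3 yf8 zf39) (kf xf3 yf24 zf40) (kf xf3 yf8 zf41) (kf xf2 yf15 zf39) (kf xf4 yf5 zf19) (kf xf3 yf8 zf44) (kf xf2 yf15 zf42) (kf xf4 yf5 zf22) (kf xf2 yf16 zf13) (kf xf2 yf16 zf14) (kf xf4 yf5 zf25) (kf xf2 yf15 zf45)) (@D3.rec (fun _ => Pt) (kf xf4 yf5 zf29) (kf xf2 yf16 zf18) (kf xf3 yf24 zf49) (kf xf2 yf16 zf20) (kf xf2 yf15 zf48) (kf xf4 yf5 zf36) (kf xf2 yf16 zf23) (kf xf4 yf5 zf38) (kf xf2 yf16 zf0) (kf xf4 yf5 zf42) (kf xf2 yf16 zf27) (kf xf2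 yf16 zf2) (kf xf4 yf5 zf47) (kf xf3 yf25 zf9) (kf xf2 yf16 zf31) (kf xf2 yf16 zf4) (kf xf4 yf6 zf3) (kf xf2 yf16 zf34) (kf xf4 yf6 zf4) (kf xf3 yf25 zf15) (kf xf2 yf16 zf37) (kf xf2 yf16 zf38) (kf xf2 yf16 zf9) (kf xf3 yf9 zf23) (kf xf4 yf5 zf21) (kf xf2 yf16 zf12) (kf xf4 yf6 zf15) (kf xf4 yf5 zf24) (kf xf2 yf16 zf15) (kf xf4 yf6 zf18) (kf xf3 yf25 zf21) (kf xf4 yf5 zf28) (kf xf2 yf16 zf17) (kf xf4 yf6 zf24) (kf xf4 yf5 zf31) (kf xf4 yf6 zf25) (kf xf3 yf25 zf27) (kf xf4 yf5 zf34) (kf xf4 yf5 zf35) (kf xf2 yf16 zf22) (kf xf4 yf6 zf32) (kf xf2 yf16 zf24) (kf xf4 yf6 zf36) (kf xf3 yf25 zf34) (kf xf4 yf5 zf41) (kf xf2 yf16 zf26) (kf xf4 yf6 zf43) (kf xf4 yf5 zf44) (kf xf3 yf25 zf39) (kf xf4 yf5 zf46) (kf xf2 yf16 zf29)) (@D3.rec (fun _ => Pt) (kf xf4 yf6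 zf49) (kf xf4 yf6 zf50) (kf xf4 yf7 zf2) (kf xf3 yf25 zf45) (kf xf4 yf6 zf1) (kf xf4 yf6 zf2) (kf xf2 yf16 zf33) (kf xf2 yf16 zf35) (kf xf4 yf7 zf9) (kf xf4 yf7 zf10) (kf xf3 yf26 zf1) (kf xf3 yf26 zf2) (kf xf4 yf6 zf9) (kf xf4 yf6 zf10) (kf xf4 yf7 zf18) (kf xf2 yf16 zf40) (kf xf4 yf7 zf21) (kf xf2 yf16 zf41) (kf xf4 yf7 zf25) (kf xf3 yf10 zf19) (kf xf3 yf26 zf18) (kf xf3 yf10 zf21) (kf xf2 yf16 zf44) (kf xf4 yf7 zf32) (kf xf3 yf10 zf24) (kf xf4 yf7 zf34) (kf xf2 yf16 zf47) (kf xf4 yf7 zf38) (kf xf3 yf10 zf28) (kf xf2 yf16 zf49) (kf xf4 yf7 zf43) (kf xf3 yf26 zf29) (kf xf3 yf10 zf32) (kf xf2 yf17 zf0) (kf xf4 yf7 zf50) (kf xf3 yf10 zf35) (kf xf4 yf8 zf0) (kf xf3 yf26 zf35) (kf xf3 yf10 zf38) (kf xf3 yf10 zf39) (kf xf2 yf17 zf5) (kf xf4 yf8 zf8) (kf xf2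 yf17 zf7) (kf xf4 yf8 zf12) (kf xf2 yf17 zf37) (kf xf2 yf17 zf9) (kf xf4 yf8 zf17) (kf xf4 yf0 zf5) (kf xf2 yf17 zf41) (kf xf2 yf17 zf11) (kf xf4 yf8 zf24)) (@D3.rec (fun _ => Pt) (kf xf2 yf17 zf44) (kf xf4 yf8 zf25) (kf xf4 yf0 zf11) (kf xf2 yf17 zf47) (kf xf2 yf17 zf48) (kf xf2 yf17 zf16) (kf xf4 yf8 zf32) (kf xf2 yf17 zf18) (kf xf4 yf8 zf35) (kf xf4 yf0 zf18) (kf xf2 yf18 zf3) (kf xf2 yf17 zf20) (kf xf4 yf8 zf41) (kf xf2 yf18 zf6) (kf xf4 yf0 zf23) (kf xf2 yf18 zf8) (kf xf2 yf17 zf23) (kf xf4 yf8 zf47) (kf xf4 yf8 zf48) (kf xf4 yf9 zf0) (kf xf4 yf0 zf29) (kf xf2 yf18 zf14) (kf xf2 yf18 zf15) (kf xf2 yf17 zf27) (kf xf2 yf17 zf29) (kf xf4 yf9 zf7) (kf xf4 yf9 zf8) (kf xf4 yf0 zf36) (kf xf4 yf0 zf37) (kf xf2 yf18 zf22) (kf xf2 yf18 zf23) (kf xf4 yf9 zf15)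 (kf xf2 yf17 zf34) (kf xf4 yf9 zf18) (kf xf4 yf1 zf8) (kf xf4 yf8 zf11) (kf xf2 yf17 zf36) (kf xf4 yf9 zf24) (kf xf4 yf8 zf14) (kf xf4 yf1 zf13) (kf xf4 yf8 zf16) (kf xf2 yf17 zf39) (kf xf4 yf9 zf30) (kf xf4 yf9 zf31) (kf xf4 yf9 zf33) (kf xf4 yf1 zf19) (kf xf4 yf8 zf22) (kf xf4 yf8 zf23) (kf xf2 yf17 zf43) (kf xf2 yf17 zf45) (kf xf4 yf9 zf40)) (@D3.rec (fun _ => Pt) (kf xf4 yf9 zf41) (kf xf4 yf1 zf26) (kf xf4 yf1 zf27) (kf xf4 yf8 zf30) (kf xf4 yf8 zf31) (kf xf2 yf17 zf50) (kf xf4 yf1 zf32) (kf xf4 yf8 zf34) (kf xf2 yf18 zf1) (kf xf4 yf10 zf4) (kf xf4 yf10 zf5) (kf xf4 yf1 zf38) (kf xf4 yf8 zf39) (kf xf4 yf8 zf40) (kf xf2 yf18 zf5) (kf xf4 yf1 zf42) (kf xf4 yf10 zf14) (kf xf4 yf1 zf44) (kf xf4 yf8 zf45) (kf xf4 yf8 zf46) (kf xf2 yf18 zf10) (kf xf2 yf18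 zf11) (kf xf4 yf10 zf24) (kf xf4 yf10 zf23) (kf xf2 yf18 zf12) (kf xf4 yf10 zf26) (kf xf4 yf10 zf27) (kf xf4 yf2 zf3) (kf xf4 yf2 zf4) (kf xf4 yf9 zf5) (kf xf4 yf9 zf6) (kf xf2 yf18 zf18) (kf xf2 yf18 zf19) (kf xf4 yf10 zf35) (kf xf4 yf10 zf36) (kf xf4 yf10 zf37) (kf xf4 yf2 zf12) (kf xf4 yf2 zf13) (kf xf4 yf9 zf14) (kf xf4 yf10 zf45) (kf xf3 yf12 zf40) (kf xf4 yf2 zf28) (kf xf4 yf10 zf49) (kf xf3 yf12 zf43) (kf xf2 yf18 zf29) (kf xf4 yf11 zf0) (kf xf4 yf11 zf1) (kf xf4 yf2 zf34) (kf xf3 yf12 zf48) (kf xf2 yf18 zf34) (kf xf2 yf18 zf35)) (@D3.rec (fun _ => Pt) (kf xf4 yf11 zf6) (kf xf4 yf11 zf7) (kf xf4 yf11 zf8) (kf xf4 yf2 zf41) (kf xf4 yf2 zf42) (kf xf3 yf13 zf5) (kf xf4 yf2 zf44) (kf xf4 yf11 zf18) (kf xf3 yf13 zf8) (kf xf2 yf18 zf42) (kf xf4 yf11 zf20)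 (kf xf4 yf11 zf21) (kf xf4 yf2 zf50) (kf xf3 yf13 zf13) (kf xf4 yf11 zf25) (kf xf4 yf3 zf2) (kf xf2 yf18 zf47) (kf xf4 yf11 zf30) (kf xf4 yf11 zf31) (kf xf4 yf3 zf6) (kf xf3 yf13 zf20) (kf xf2 yf19 zf1) (kf xf2 yf19 zf2) (kf xf4 yf11 zf36) (kf xf4 yf11 zf37) (kf xf4 yf11 zf38) (kf xf4 yf3 zf13) (kf xf4 yf3 zf14) (kf xf3 yf13 zf28) (kf xf3 yf13 zf29) (kf xf2 yf19 zf9) (kf xf2 yf19 zf10) (kf xf2 yf19 zf11) (kf xf4 yf11 zf47) (kf xf4 yf11 zf48) (kf xf4 yf11 zf49) (kf xf4 yf12 zf0) (kf xf4 yf3 zf24) (kf xf4 yf3 zf25) (kf xf4 yf3 zf26) (kf xf2 yf19 zf15) (kf xf4 yf12 zf11) (kf xf3 yf13 zf42) (kf xf3 yf13 zf43) (kf xf2 yf19 zf17) (kf xf4 yf12 zf17) (kf xf3 yf13 zf46) (kf xf3 yf13 zf47) (kf xf3 yf13 zf48) (kf xf2 yf19 zf20) (kf xf4 yf12 zf23)) (@D3.rec (fun _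 => Pt) (kf xf4 yf12 zf24) (kf xf4 yf12 zf27) (kf xf3 yf14 zf2) (kf xf3 yf14 zf3) (kf xf3 yf14 zf4) (kf xf2 yf19 zf24) (kf xf2 yf19 zf26) (kf xf4 yf12 zf34) (kf xf4 yf12 zf35) (kf xf3 yf14 zf9) (kf xf3 yf14 zf10) (kf xf3 yf14 zf11) (kf xf3 yf14 zf12) (kf xf3 yf14 zf13) (kf xf2 yf20 zf5) (kf xf2 yf19 zf32) (kf xf4 yf12 zf47) (kf xf4 yf12 zf48) (kf xf3 yf14 zf18) (kf xf2 yf20 zf10) (kf xf2 yf20 zf11) (kf xf2 yf19 zf36) (kf xf3 yf14 zf22) (kf xf4 yf13 zf6) (kf xf3 yf14 zf24) (kf xf2 yf20 zf15) (kf xf2 yf20 zf16) (kf xf2 yf19 zf41) (kf xf2 yf19 zf42) (kf xf4 yf13 zf16) (kf xf4 yf13 zf15) (kf xf2 yf19 zf43) (kf xf4 yf13 zf18) (kf xf4 yf13 zf19) (kf xf3 yf14 zf34) (kf xf3 yf14 zf35) (kf xf2 yf20 zf26) (kf xf2 yf20 zf27) (kf xf2 yf19 zf49) (kf xf2 yf19 zf50) (kf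 xf4 yf13 zf27) (kf xf4 yf13 zf28) (kf xf4 yf13 zf29) (kf xf3 yf14 zf43) (kf xf3 yf14 zf44) (kf xf2 yf20 zf35) (kf xf4 yf13 zf37) (kf xf3 yf14 zf47) (kf xf4 yf12 zf45) (kf xf4 yf12 zf46) (kf xf2 yf20 zf7)) (@D3.rec (fun _ => Pt) (kf xf2 yf20 zf8) (kf xf4 yf13 zf44) (kf xf4 yf13 zf45) (kf xf3 yf15 zf3) (kf xf3 yf15 zf4) (kf xf4 yf13 zf2) (kf xf4 yf13 zf3) (kf xf2 yf20 zf13) (kf xf4 yf14 zf1) (kf xf4 yf14 zf2) (kf xf3 yf15 zf10) (kf xf3 yf15 zf11) (kf xf4 yf13 zf11) (kf xf4 yf13 zf12) (kf xf4 yf13 zf13) (kf xf4 yf14 zf13) (kf xf2 yf20 zf20) (kf xf2 yf20 zf19) (kf xf4 yf14 zf16) (kf xf2 yf20 zf22) (kf xf2 yf20 zf23) (kf xf4 yf14 zf18) (kf xf4 yf14 zf19) (kf xf4 yf14 zf20) (kf xf3 yf15 zf24) (kf xf3 yf15 zf25) (kf xf4 yf13 zf25) (kf xf3 yf15 zf27) (kf xf2 yf20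 zf30) (kf xf2 yf20 zf31) (kf xf2 yf20 zf32) (kf xf4 yf14 zf29) (kf xf4 yf14 zf30) (kf xf4 yf14 zf31) (kf xf4 yf14 zf33) (kf xf3 yf15 zf35) (kf xf3 yf15 zf36) (kf xf3 yf15 zf37) (kf xf2 yf20 zf37) (kf xf2 yf20 zf38) (kf xf4 yf14 zf43) (kf xf4 yf14 zf44) (kf xf4 yf14 zf45) (kf xf3 yf15 zf43) (kf xf3 yf15 zf44) (kf xf3 yf15 zf45) (kf xf3 yf15 zf46) (kf xf2 yf20 zf45) (kf xf2 yf20 zf46) (kf xf2 yf20 zf47) (kf xf4 yf15 zf2)) (@D3.rec (fun _ => Pt) (kf xf2 yf21 zf11) (kf xf4 yf15 zf3) (kf xf4 yf15 zf5) (kf xf3 yf16 zf3) (kf xf3 yf16 zf4) (kf xf3 yf16 zf5) (kf xf2 yf21 zf4) (kf xf2 yf21 zf6) (kf xf4 yf11 zf50) (kf xf2 yf21 zf7) (kf xf4 yf15 zf7) (kf xf4 yf14 zf34) (kf xf3 yf16 zf12) (kf xf3 yf16 zf13) (kf xf3 yf16 zf14) (kf xf4 yf14 zf47) (kf xf3 yf16 zf16) (kf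 xf3 yf16 zf17) (kf xf2 yf21 zf15) (kf xf2 yf21 zf16) (kf xf2 yf21 zf19) (kf xf4 yf15 zf20) (kf xf2 yf21 zf20) (kf xf4 yf15 zf23) (kf xf2 yf26 zf39) (kf xf2 yf21 zf22) (kf xf2 yf21 zf34) (kf xf4 yf15 zf22) (kf xf2 yf26 zf37) (kf xf2 yf21 zf25) (kf xf2 yf21 zf29) (kf xf4 yf15 zf21) (kf xf4 yf15 zf28) (kf xf2 yf21 zf31) (kf xf2 yf21 zf32) (kf xf2 yf26 zf40) (kf xf2 yf26 zf48) (kf xf4 yf15 zf29) (kf xf2 yf21 zf35) (kf xf4 yf15 zf32) (kf xf2 yf21 zf36) (kf xf2 yf25 zf49) (kf xf2 yf26 zf38) (kf xf3 yf16 zf43) (kf xf3 yf16 zf44) (kf xf4 yf15 zf35) (kf xf2 yf21 zf44) (kf xf3 yf16 zf47) (kf xf3 yf16 zf48) (kf xf3 yf16 zf49) (kf xf3 yf16 zf50)) (@D3.rec (fun _ => Pt) (kf xf4 yf15 zf39) (kf xf2 yf21 zf49) (kf xf4 yf15 zf41) (kf xf3 yf17 zf3) (kf xf2 yf22 zf0) (kf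 xf4 yf15 zf44) (kf xf3 yf17 zf6) (kf xf3 yf17 zf7) (kf xf2 yf22 zf2) (kf xf3 yf17 zf9) (kf xf3 yf17 zf10) (kf xf4 yf15 zf45) (kf xf2 yf22 zf9) (kf xf3 yf17 zf13) (kf xf3 yf17 zf14) (kf xf3 yf17 zf15) (kf xf3 yf17 zf16) (kf xf4 yf15 zf49) (kf xf2 yf22 zf14) (kf xf4 yf16 zf0) (kf xf3 yf17 zf20) (kf xf2 yf22 zf16) (kf xf4 yf16 zf3) (kf xf3 yf17 zf23) (kf xf3 yf17 zf24) (kf xf2 yf22 zf18) (kf xf4 yf16 zf5) (kf xf3 yf17 zf27) (kf xf2 yf22 zf23) (kf xf2 yf22 zf26) (kf xf3 yf17 zf30) (kf xf2 yf22 zf50) (kf xf2 yf23 zf0) (kf xf2 yf25 zf7) (kf xf2 yf23 zf2) (kf xf4 yf16 zf10) (kf xf2 yf22 zf32) (kf xf4 yf16 zf13) (kf xf3 yf17 zf38) (kf xf2 yf23 zf7) (kf xf2 yf22 zf34) (kf xf2 yf23 zf9) (kf xf3 yf17 zf42) (kf xf2 yf23 zf11) (kf xf2 yf22 zf37) (kf xf4 yf16 zf21)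 (kf xf2 yf25 zf5) (kf xf3 yf17 zf47) (kf xf2 yf23 zf16) (kf xf2 yf23 zf17) (kf xf2 yf22 zf41)) (@D3.rec (fun _ => Pt) (kf xf3 yf18 zf0) (kf xf2 yf23 zf25) (kf xf3 yf18 zf2) (kf xf4 yf16 zf7) (kf xf4 yf16 zf28) (kf xf4 yf16 zf9) (kf xf2 yf23 zf1) (kf xf2 yf25 zf6) (kf xf2 yf23 zf3) (kf xf3 yf18 zf9) (kf xf4 yf16 zf12) (kf xf2 yf23 zf5) (kf xf4 yf16 zf29) (kf xf3 yf18 zf13) (kf xf4 yf16 zf8) (kf xf4 yf16 zf15) (kf xf3 yf18 zf16) (kf xf4 yf16 zf42) (kf xf3 yf18 zf18) (kf xf4 yf16 zf19) (kf xf4 yf16 zf20) (kf xf2 yf23 zf13) (kf xf4 yf16 zf49) (kf xf2 yf23 zf14) (kf xf2 yf25 zf4) (kf xf2 yf25 zf3) (kf xf3 yf18 zf26) (kf xf3 yf18 zf27) (kf xf2 yf24 zf18) (kf xf4 yf16 zf24) (kf xf2 yf24 zf36) (kf xf3 yf18 zf31) (kf xf2 yf24 zf5) (kf xf4 yf17 zf3) (kf xf2 yf23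 zf26) (kf xf3 yf18 zf35) (kf xf2 yf23 zf28) (kf xf4 yf17 zf9) (kf xf3 yf18 zf38) (kf xf3 yf18 zf39) (kf xf2 yf23 zf30) (kf xf3 yf18 zf41) (kf xf3 yf18 zf42) (kf xf3 yf18 zf43) (kf xf2 yf23 zf35) (kf xf2 yf23 zf37) (kf xf3 yf18 zf46) (kf xf3 yf18 zf47) (kf xf3 yf18 zf48) (kf xf3 yf18 zf49) (kf xf3 yf18 zf50)) (@D3.rec (fun _ => Pt) (kf xf2 yf23 zf41) (kf xf4 yf17 zf13) (kf xf2 yf23 zf47) (kf xf3 yf19 zf3) (kf xf2 yf24 zf26) (kf xf2 yf24 zf27) (kf xf3 yf19 zf6) (kf xf2 yf24 zf29) (kf xf2 yf24 zf0) (kf xf4 yf17 zf2) (kf xf3 yf19 zf10) (kf xf2 yf24 zf33) (kf xf2 yf24 zf34) (kf xf3 yf1 zf12) (kf xf3 yf19 zf14) (kf xf3 yf19 zf15) (kf xf2 yf24 zf40) (kf xf2 yf24 zf41) (kf xf3 yf19 zf18) (kf xf2 yf24 zf43) (kf xf4 yf16 zf39) (kf xf2 yf24 zf45) (kf xf3 yf19 zf22)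 (kf xf4 yf16 zf46) (kf xf3 yf19 zf24) (kf xf2 yf24 zf49) (kf xf2 yf24 zf50) (kf xf2 yf24 zf17) (kf xf4 yf17 zf32) (kf xf3 yf19 zf29) (kf xf4 yf17 zf16) (kf xf4 yf17 zf36) (kf xf4 yf17 zf18) (kf xf3 yf19 zf33) (kf xf4 yf17 zf40) (kf xf3 yf19 zf35) (kf xf4 yf17 zf22) (kf xf4 yf17 zf23) (kf xf2 yf24 zf31) (kf xf4 yf16 zf50) (kf xf4 yf17 zf37) (kf xf3 yf19 zf41) (kf xf4 yf17 zf17) (kf xf2 yf24 zf37) (kf xf3 yf1 zf11) (kf xf3 yf1 zf26) (kf xf3 yf1 zf17) (kf xf3 yf19 zf47) (kf xf3 yf1 zf9) (kf xf3 yf19 zf49) (kf xf4 yf17 zf49)) (@D3.rec (fun _ => Pt) (kf xf4 yf17 zf26) (kf xf2 yf24 zf44) (kf xf4 yf16 zf37) (kf xf4 yf18 zf0) (kf xf3 yf20 zf4) (kf xf2 yf24 zf47) (kf xf4 yf16 zf44) (kf xf4 yf16 zf43) (kf xf3 yf20 zf8) (kf xf4 yf16 zf17) (kf xf4 yf17 zf30) (kf xf4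 yf18 zf9) (kf xf2 yf25 zf1) (kf xf3 yf20 zf13) (kf xf4 yf18 zf13) (kf xf3 yf20 zf15) (kf xf2 yf25 zf10) (kf xf4 yf17 zf45) (kf xf4 yf18 zf15) (kf xf3 yf20 zf19) (kf xf3 yf20 zf20) (kf xf4 yf18 zf19) (kf xf3 yf20 zf22) (kf xf2 yf25 zf15) (kf xf4 yf18 zf24) (kf xf4 yf18 zf25) (kf xf3 yf20 zf26) (kf xf3 yf20 zf27) (kf xf2 yf25 zf20) (kf xf2 yf25 zf21) (kf xf4 yf18 zf17) (kf xf4 yf18 zf16) (kf xf3 yf20 zf32) (kf xf2 yf25 zf26) (kf xf2 yf25 zf27) (kf xf3 yf1 zf27) (kf xf4 yf18 zf31) (kf xf3 yf20 zf37) (kf xf3 yf20 zf38) (kf xf4 yf18 zf37) (kf xf3 yf20 zf40) (kf xf4 yf18 zf39) (kf xf3 yf20 zf42) (kf xf2 yf25 zf32) (kf xf4 yf18 zf43) (kf xf2 yf25 zf35) (kf xf2 yf25 zf36) (kf xf4 yf18 zf45) (kf xf4 yf18 zf46) (kf xf3 yf20 zf49) (kf xf2 yf25 zf39)) (@D3.rec (fun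 _ => Pt) (kf xf2 yf26 zf27) (kf xf3 yf21 zf1) (kf xf4 yf15 zf31) (kf xf3 yf21 zf3) (kf xf2 yf26 zf30) (kf xf4 yf15 zf33) (kf xf2 yf26 zf32) (kf xf3 yf21 zf7) (kf xf3 yf21 zf8) (kf xf2 yf25 zf48) (kf xf4 yf19 zf6) (kf xf2 yf26 zf41) (kf xf3 yf21 zf12) (kf xf2 yf26 zf22) (kf xf3 yf21 zf14) (kf xf3 yf21 zf15) (kf xf2 yf26 zf42) (kf xf3 yf21 zf17) (kf xf3 yf21 zf18) (kf xf2 yf26 zf43) (kf xf2 yf26 zf23) (kf xf2 yf26 zf24) (kf xf4 yf19 zf19) (kf xf2 yf26 zf14) (kf xf2 yf26 zf46) (kf xf2 yf26 zf49) (kf xf4 yf19 zf17) (kf xf4 yf19 zf22) (kf xf2 yf26 zf25) (kf xf4 yf19 zf20) (kf xf4 yf18 zf49) (kf xf4 yf19 zf27) (kf xf2 yf26 zf29) (kf xf4 yf19 zf28) (kf xf4 yf19 zf2) (kf xf2 yf26 zf31) (kf xf4 yf15 zf24) (kf xf4 yf19 zf3) (kf xf3 yf21 zf38) (kf xf4 yf19 zf36)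 (kf xf2 yf26 zf35) (kf xf4 yf4 zf7) (kf xf3 yf1 zf47) (kf xf4 yf19 zf8) (kf xf4 yf19 zf12) (kf xf4 yf19 zf13) (kf xf4 yf19 zf15) (kf xf4 yf19 zf42) (kf xf2 yf26 zf44) (kf xf2 yf26 zf50) (kf xf4 yf4 zf12)) (@D3.rec (fun _ => Pt) (kf xf4 yf4 zf1) (kf xf4 yf15 zf26) (kf xf4 yf19 zf44) (kf xf3 yf0 zf0) (kf xf4 yf19 zf46) (kf xf3 yf22 zf5) (kf xf3 yf0 zf2) (kf xf3 yf22 zf7) (kf xf3 yf22 zf8) (kf xf4 yf19 zf50) (kf xf3 yf0 zf7) (kf xf3 yf0 zf14) (kf xf3 yf22 zf12) (kf xf4 yf20 zf0) (kf xf3 yf0 zf25) (kf xf4 yf20 zf3) (kf xf3 yf22 zf16) (kf xf4 yf20 zf2) (kf xf3 yf22 zf18) (kf xf4 yf20 zf6) (kf xf3 yf22 zf20) (kf xf3 yf1 zf45) (kf xf3 yf1 zf21) (kf xf3 yf1 zf43) (kf xf4 yf18 zf32) (kf xf3 yf22 zf25) (kf xf3 yf1 zf33) (kf xf3 yf1 zf39) (kf xf3 yf22 zf28) (kf xf3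 yf22 zf29) (kf xf4 yf20 zf7) (kf xf3 yf1 zf41) (kf xf4 yf20 zf5) (kf xf3 yf22 zf33) (kf xf3 yf2 zf3) (kf xf4 yf20 zf10) (kf xf4 yf20 zf14) (kf xf3 yf22 zf37) (kf xf4 yf20 zf18) (kf xf3 yf2 zf5) (kf xf3 yf22 zf40) (kf xf4 yf20 zf20) (kf xf4 yf20 zf21) (kf xf3 yf2 zf7) (kf xf3 yf22 zf44) (kf xf3 yf22 zf45) (kf xf4 yf20 zf27) (kf xf3 yf2 zf10) (kf xf3 yf2 zf19) (kf xf4 yf20 zf31) (kf xf4 yf20 zf32)) (@D3.rec (fun _ => Pt) (kf xf3 yf2 zf12) (kf xf4 yf20 zf28) (kf xf4 yf20 zf36) (kf xf4 yf20 zf37) (kf xf3 yf2 zf15) (kf xf3 yf2 zf16) (kf xf4 yf20 zf41) (kf xf3 yf23 zf7) (kf xf3 yf23 zf8) (kf xf4 yf20 zf44) (kf xf4 yf20 zf46) (kf xf3 yf2 zf20) (kf xf3 yf2 zf21) (kf xf4 yf21 zf0) (kf xf3 yf23 zf14) (kf xf3 yf23 zf15) (kf xf4 yf21 zf4) (kf xf3 yf2 zf24) (kf xf4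 yf21 zf7) (kf xf3 yf2 zf25) (kf xf4 yf21 zf11) (kf xf3 yf2 zf36) (kf xf3 yf23 zf22) (kf xf3 yf2 zf38) (kf xf3 yf2 zf28) (kf xf4 yf21 zf18) (kf xf3 yf2 zf41) (kf xf4 yf21 zf20) (kf xf3 yf2 zf31) (kf xf4 yf21 zf24) (kf xf4 yf21 zf6) (kf xf3 yf2 zf33) (kf xf4 yf21 zf29) (kf xf3 yf23 zf33) (kf xf4 yf21 zf10) (kf xf3 yf2 zf35) (kf xf4 yf21 zf36) (kf xf4 yf21 zf13) (kf xf4 yf21 zf37) (kf xf3 yf23 zf39) (kf xf4 yf21 zf16) (kf xf4 yf21 zf17) (kf xf3 yf2 zf40) (kf xf3 yf23 zf43) (kf xf4 yf21 zf46) (kf xf3 yf2 zf43) (kf xf3 yf23 zf46) (kf xf4 yf21 zf50) (kf xf4 yf22 zf0) (kf xf3 yf2 zf45) (kf xf3 yf3 zf3)) (@D3.rec (fun _ => Pt) (kf xf4 yf22 zf5) (kf xf4 yf22 zf6) (kf xf3 yf2 zf48) (kf xf4 yf21 zf47) (kf xf4 yf22 zf11) (kf xf4 yf22 zf13) (kf xf3 yf3 zf0) (kf xf3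 yf3 zf1) (kf xf4 yf22 zf18) (kf xf4 yf22 zf2) (kf xf4 yf22 zf3) (kf xf4 yf22 zf22) (kf xf3 yf3 zf4) (kf xf3 yf3 zf5) (kf xf4 yf22 zf27) (kf xf3 yf24 zf15) (kf xf3 yf24 zf16) (kf xf4 yf22 zf30) (kf xf3 yf3 zf8) (kf xf4 yf22 zf32) (kf xf3 yf3 zf9) (kf xf4 yf22 zf35) (kf xf3 yf24 zf22) (kf xf3 yf8 zf20) (kf xf3 yf24 zf24) (kf xf3 yf3 zf12) (kf xf4 yf22 zf41) (kf xf3 yf24 zf27) (kf xf4 yf22 zf43) (kf xf3 yf3 zf15) (kf xf3 yf3 zf16) (kf xf4 yf22 zf48) (kf xf3 yf24 zf32) (kf xf3 yf24 zf33) (kf xf4 yf23 zf1) (kf xf3 yf3 zf19) (kf xf4 yf23 zf4) (kf xf3 yf3 zf20) (kf xf4 yf23 zf8) (kf xf3 yf24 zf39) (kf xf3 yf8 zf40) (kf xf3 yf24 zf41) (kf xf3 yf3 zf23) (kf xf4 yf23 zf15) (kf xf3 yf24 zf44) (kf xf4 yf23 zf16) (kf xf3 yf3 zf26) (kf xf4 yf23 zf20) (kf xf3 yf3 zf46)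 (kf xf3 yf9 zf2) (kf xf3 yf3 zf48)) (@D3.rec (fun _ => Pt) (kf xf3 yf3 zf29) (kf xf4 yf23 zf27) (kf xf3 yf4 zf0) (kf xf4 yf23 zf29) (kf xf3 yf3 zf32) (kf xf4 yf23 zf33) (kf xf3 yf4 zf4) (kf xf3 yf3 zf34) (kf xf4 yf23 zf38) (kf xf3 yf9 zf13) (kf xf3 yf4 zf8) (kf xf3 yf3 zf36) (kf xf4 yf23 zf45) (kf xf3 yf4 zf11) (kf xf4 yf23 zf46) (kf xf3 yf9 zf19) (kf xf3 yf4 zf14) (kf xf3 yf4 zf15) (kf xf3 yf3 zf41) (kf xf3 yf3 zf43) (kf xf4 yf24 zf4) (kf xf3 yf9 zf30) (kf xf4 yf23 zf19) (kf xf3 yf3 zf45) (kf xf4 yf24 zf11) (kf xf4 yf23 zf22) (kf xf4 yf24 zf12) (kf xf3 yf9 zf36) (kf xf4 yf23 zf25) (kf xf4 yf23 zf26) (kf xf3 yf3 zf50) (kf xf4 yf24 zf19) (kf xf3 yf4 zf1) (kf xf4 yf24 zf23) (kf xf3 yf9 zf43) (kf xf4 yf23 zf32) (kf xf3 yf4 zf3) (kf xf4 yf24 zf30) (kf xf4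 yf23 zf35) (kf xf3 yf9 zf48) (kf xf4 yf23 zf37) (kf xf3 yf4 zf6) (kf xf4 yf24 zf36) (kf xf4 yf24 zf37) (kf xf4 yf24 zf40) (kf xf3 yf10 zf3) (kf xf4 yf23 zf43) (kf xf4 yf23 zf44) (kf xf3 yf4 zf10) (kf xf3 yf4 zf12) (kf xf4 yf24 zf47)) (@D3.rec (fun _ => Pt) (kf xf4 yf24 zf48) (kf xf3 yf10 zf10) (kf xf3 yf10 zf11) (kf xf4 yf24 zf0) (kf xf4 yf24 zf1) (kf xf4 yf25 zf5) (kf xf4 yf25 zf7) (kf xf3 yf4 zf18) (kf xf3 yf4 zf19) (kf xf4 yf25 zf12) (kf xf3 yf26 zf10) (kf xf3 yf26 zf11) (kf xf4 yf25 zf16) (kf xf3 yf4 zf22) (kf xf4 yf25 zf19) (kf xf3 yf4 zf23) (kf xf4 yf25 zf23) (kf xf3 yf26 zf17) (kf xf3 yf10 zf20) (kf xf3 yf26 zf19) (kf xf3 yf4 zf26) (kf xf4 yf25 zf30) (kf xf3 yf26 zf22) (kf xf4 yf25 zf32) (kf xf3 yf4 zf29) (kf xf4 yf25 zf36) (kf xf3 yf26 zf26) (kf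 xf3 yf4 zf31) (kf xf4 yf25 zf41) (kf xf3 yf10 zf31) (kf xf3 yf26 zf30) (kf xf3 yf4 zf33) (kf xf4 yf25 zf48) (kf xf3 yf26 zf33) (kf xf4 yf25 zf49) (kf xf3 yf10 zf37) (kf xf3 yf26 zf36) (kf xf3 yf26 zf37) (kf xf3 yf4 zf38) (kf xf4 yf26 zf6) (kf xf3 yf4 zf40) (kf xf4 yf26 zf9) (kf xf3 yf4 zf41) (kf xf4 yf26 zf13) (kf xf3 yf5 zf28) (kf xf3 yf26 zf45) (kf xf3 yf5 zf30) (kf xf3 yf4 zf44) (kf xf4 yf26 zf20) (kf xf3 yf5 zf33) (kf xf4 yf26 zf22))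
def f_f_4 : D2 → D3 → Pt := @D2.rec (fun _ => D3 → Pt) (@D3.rec (fun _ => Pt) (kf xf3 yf4 zf47) (kf xf4 yf26 zf26) (kf xf3 yf5 zf37) (kf xf3 yf4 zf49) (kf xf4 yf26 zf31) (kf xf3 yf10 zf47) (kf xf3 yf5 zf41) (kf xf3 yf5 zf0) (kf xf4 yf26 zf38) (kf xf3 yf5 zf44) (kf xf4 yf26 zf39) (kf xf3 yf11 zf2) (kf xf3 yf5 zf47) (kf xf3 yf5 zf48) (kf xf3 yf5 zf5) (kf xf4 yf26 zf46) (kf xf3 yf5 zf7) (kf xf4 yf26 zf50) (kf xf3 yf11 zf9) (kf xf3 yf6 zf3) (kf xf3 yf5 zf9) (kf xf5 yf0 zf6) (kf xf3 yf6 zf6) (kf xf3 yf11 zf14) (kf xf3 yf6 zf8) (kf xf3 yf5 zf12) (kf xf5 yf0 zf12) (kf xf5 yf0 zf13) (kf xf5 yf0 zf16) (kf xf3 yf11 zf20) (kf xf3 yf6 zf14) (kf xf3 yf6 zf15) (kf xf3 yf5 zf16) (kf xf3 yf5 zf18) (kf xf5 yf0 zf23) (kf xf5 yf0 zf24) (kf xf3 yf11 zf27) (kf xf3 yf11 zf28)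 (kf xf3 yf6 zf22) (kf xf3 yf6 zf23) (kf xf5 yf0 zf32) (kf xf3 yf5 zf23) (kf xf5 yf0 zf35) (kf xf4 yf26 zf8) (kf xf3 yf5 zf25) (kf xf5 yf0 zf40) (kf xf4 yf0 zf46) (kf xf4 yf26 zf12) (kf xf3 yf5 zf27) (kf xf5 yf0 zf47) (kf xf4 yf26 zf15)) (@D3.rec (fun _ => Pt) (kf xf5 yf0 zf48) (kf xf4 yf1 zf1) (kf xf4 yf26 zf18) (kf xf4 yf26 zf19) (kf xf3 yf5 zf32) (kf xf5 yf1 zf4) (kf xf3 yf5 zf34) (kf xf5 yf1 zf8) (kf xf3 yf11 zf34) (kf xf4 yf26 zf25) (kf xf3 yf5 zf36) (kf xf5 yf1 zf15) (kf xf4 yf26 zf28) (kf xf3 yf11 zf39) (kf xf4 yf26 zf30) (kf xf3 yf5 zf39) (kf xf5 yf1 zf21) (kf xf5 yf1 zf22) (kf xf5 yf1 zf25) (kf xf3 yf11 zf45) (kf xf4 yf26 zf36) (kf xf4 yf26 zf37) (kf xf3 yf5 zf43) (kf xf3 yf5 zf45) (kf xf5 yf1 zf32) (kf xf5 yf1 zf33) (kf xf3 yf12 zf1) (kf xf3 yf12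 zf2) (kf xf4 yf26 zf44) (kf xf4 yf26 zf45) (kf xf3 yf5 zf50) (kf xf5 yf1 zf42) (kf xf3 yf12 zf6) (kf xf4 yf26 zf49) (kf xf3 yf6 zf1) (kf xf5 yf1 zf49) (kf xf5 yf1 zf50) (kf xf5 yf2 zf1) (kf xf3 yf12 zf11) (kf xf5 yf0 zf4) (kf xf5 yf0 zf5) (kf xf3 yf6 zf5) (kf xf3 yf12 zf15) (kf xf5 yf2 zf10) (kf xf3 yf12 zf17) (kf xf5 yf0 zf10) (kf xf5 yf0 zf11) (kf xf3 yf6 zf10) (kf xf3 yf6 zf11) (kf xf5 yf2 zf20) (kf xf5 yf2 zf19)) (@D3.rec (fun _ => Pt) (kf xf3 yf6 zf12) (kf xf5 yf2 zf23) (kf xf5 yf2 zf24) (kf xf3 yf12 zf27) (kf xf3 yf12 zf28) (kf xf5 yf0 zf21) (kf xf5 yf0 zf22) (kf xf3 yf6 zf18) (kf xf3 yf6 zf19) (kf xf5 yf2 zf32) (kf xf5 yf2 zf33) (kf xf5 yf2 zf34) (kf xf3 yf12 zf36) (kf xf3 yf12 zf37) (kf xf5 yf0 zf30) (kf xf4 yf2 zf15) (kf xf5 yf2 zf42) (kf xf4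 yf2 zf17) (kf xf4 yf2 zf18) (kf xf5 yf2 zf44) (kf xf4 yf2 zf20) (kf xf3 yf6 zf32) (kf xf5 yf2 zf46) (kf xf5 yf2 zf47) (kf xf4 yf2 zf24) (kf xf4 yf2 zf25) (kf xf5 yf3 zf0) (kf xf4 yf2 zf27) (kf xf3 yf12 zf41) (kf xf5 yf3 zf4) (kf xf4 yf2 zf30) (kf xf3 yf6 zf41) (kf xf5 yf3 zf6) (kf xf5 yf3 zf7) (kf xf3 yf12 zf47) (kf xf4 yf2 zf35) (kf xf3 yf6 zf46) (kf xf3 yf6 zf47) (kf xf5 yf3 zf12) (kf xf5 yf3 zf13) (kf xf5 yf3 zf14) (kf xf3 yf13 zf3) (kf xf3 yf13 zf4) (kf xf4 yf2 zf43) (kf xf3 yf13 zf6) (kf xf5 yf3 zf24) (kf xf4 yf2 zf46) (kf xf3 yf7 zf3) (kf xf5 yf3 zf26) (kf xf5 yf3 zf27) (kf xf3 yf13 zf12)) (@D3.rec (fun _ => Pt) (kf xf4 yf3 zf0) (kf xf5 yf3 zf31) (kf xf3 yf13 zf15) (kf xf3 yf7 zf8) (kf xf5 yf3 zf36) (kf xf5 yf3 zf37) (kf xf3 yf13 zf19) (kf xf4 yf3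 zf7) (kf xf3 yf7 zf13) (kf xf3 yf7 zf14) (kf xf5 yf3 zf42) (kf xf5 yf3 zf43) (kf xf5 yf3 zf44) (kf xf3 yf13 zf26) (kf xf3 yf13 zf27) (kf xf4 yf3 zf15) (kf xf4 yf3 zf16) (kf xf3 yf7 zf21) (kf xf3 yf7 zf22) (kf xf3 yf7 zf23) (kf xf5 yf4 zf2) (kf xf5 yf4 zf3) (kf xf5 yf4 zf4) (kf xf5 yf4 zf6) (kf xf3 yf13 zf37) (kf xf3 yf13 zf38) (kf xf3 yf13 zf39) (kf xf3 yf7 zf28) (kf xf4 yf20 zf11) (kf xf4 yf20 zf13) (kf xf4 yf20 zf26) (kf xf3 yf7 zf30) (kf xf5 yf4 zf16) (kf xf4 yf22 zf1) (kf xf3 yf7 zf32) (kf xf3 yf7 zf46) (kf xf5 yf4 zf18) (kf xf5 yf4 zf20) (kf xf3 yf7 zf35) (kf xf3 yf7 zf36) (kf xf5 yf4 zf23) (kf xf3 yf8 zf1) (kf xf4 yf20 zf19) (kf xf3 yf7 zf40) (kf xf4 yf20 zf34) (kf xf3 yf7 zf41) (kf xf4 yf20 zf17) (kf xf5 yf4 zf25) (kf xf3 yf7 zf43) (kf xf3 yf7 zf44)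 (kf xf4 yf22 zf17)) (@D3.rec (fun _ => Pt) (kf xf4 yf20 zf33) (kf xf3 yf22 zf0) (kf xf5 yf4 zf30) (kf xf3 yf7 zf47) (kf xf5 yf4 zf32) (kf xf3 yf7 zf48) (kf xf5 yf4 zf35) (kf xf3 yf21 zf41) (kf xf4 yf22 zf16) (kf xf4 yf22 zf19) (kf xf3 yf8 zf0) (kf xf5 yf4 zf40) (kf xf3 yf21 zf50) (kf xf4 yf20 zf35) (kf xf3 yf8 zf3) (kf xf4 yf4 zf15) (kf xf3 yf8 zf5) (kf xf4 yf22 zf20) (kf xf4 yf4 zf18) (kf xf4 yf4 zf19) (kf xf5 yf4 zf42) (kf xf3 yf8 zf8) (kf xf5 yf4 zf46) (kf xf4 yf4 zf23) (kf xf4 yf22 zf25) (kf xf4 yf4 zf25) (kf xf3 yf8 zf11) (kf xf5 yf5 zf0) (kf xf4 yf4 zf28) (kf xf3 yf8 zf14) (kf xf4 yf4 zf30) (kf xf3 yf8 zf16) (kf xf4 yf22 zf33) (kf xf4 yf4 zf33) (kf xf3 yf8 zf18) (kf xf5 yf5 zf10) (kf xf4 yf4 zf36) (kf xf5 yf5 zf11) (kf xf4 yf22 zf38) (kf xf4 yf4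 zf39) (kf xf4 yf4 zf40) (kf xf3 yf8 zf23) (kf xf3 yf8 zf25) (kf xf5 yf5 zf18) (kf xf4 yf4 zf44) (kf xf4 yf4 zf45) (kf xf5 yf5 zf20) (kf xf3 yf8 zf28) (kf xf5 yf5 zf24) (kf xf4 yf4 zf49) (kf xf4 yf22 zf46)) (@D3.rec (fun _ => Pt) (kf xf4 yf5 zf0) (kf xf3 yf8 zf31) (kf xf5 yf5 zf31) (kf xf4 yf5 zf3) (kf xf5 yf5 zf33) (kf xf3 yf8 zf34) (kf xf5 yf5 zf37) (kf xf4 yf5 zf7) (kf xf3 yf8 zf36) (kf xf5 yf5 zf42) (kf xf4 yf23 zf6) (kf xf4 yf5 zf11) (kf xf3 yf8 zf38) (kf xf5 yf5 zf49) (kf xf4 yf5 zf14) (kf xf5 yf5 zf50) (kf xf4 yf23 zf12) (kf xf4 yf5 zf17) (kf xf4 yf5 zf18) (kf xf3 yf8 zf43) (kf xf4 yf5 zf20) (kf xf3 yf9 zf24) (kf xf3 yf8 zf46) (kf xf5 yf6 zf8) (kf xf3 yf9 zf27) (kf xf3 yf8 zf49) (kf xf5 yf6 zf11) (kf xf4 yf23 zf18) (kf xf3 yf9 zf31) (kf xf3 yf9 zf0)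 (kf xf5 yf6 zf17) (kf xf3 yf9 zf34) (kf xf5 yf6 zf18) (kf xf4 yf23 zf24) (kf xf3 yf9 zf37) (kf xf3 yf9 zf38) (kf xf3 yf9 zf5) (kf xf5 yf6 zf25) (kf xf3 yf9 zf7) (kf xf5 yf6 zf29) (kf xf4 yf23 zf31) (kf xf3 yf9 zf44) (kf xf3 yf9 zf9) (kf xf5 yf6 zf36) (kf xf3 yf9 zf47) (kf xf4 yf23 zf36) (kf xf3 yf9 zf49) (kf xf3 yf9 zf12) (kf xf5 yf6 zf42) (kf xf5 yf6 zf43) (kf xf5 yf6 zf46)) (@D3.rec (fun _ => Pt) (kf xf4 yf23 zf42) (kf xf3 yf10 zf4) (kf xf3 yf10 zf5) (kf xf3 yf9 zf16) (kf xf3 yf9 zf18) (kf xf5 yf7 zf2) (kf xf5 yf7 zf3) (kf xf4 yf23 zf49) (kf xf4 yf23 zf50) (kf xf3 yf10 zf12) (kf xf3 yf10 zf13) (kf xf4 yf21 zf38) (kf xf4 yf6 zf12) (kf xf4 yf21 zf14) (kf xf5 yf6 zf7) (kf xf3 yf9 zf26) (kf xf4 yf24 zf2) (kf xf5 yf6 zf10) (kf xf3 yf9 zf29) (kf xf5 yf7 zf20)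 (kf xf5 yf7 zf21) (kf xf4 yf24 zf8) (kf xf5 yf6 zf15) (kf xf5 yf6 zf16) (kf xf3 yf9 zf33) (kf xf3 yf9 zf35) (kf xf5 yf7 zf28) (kf xf5 yf7 zf29) (kf xf4 yf24 zf15) (kf xf4 yf24 zf16) (kf xf5 yf6 zf23) (kf xf5 yf6 zf24) (kf xf3 yf9 zf40) (kf xf5 yf7 zf38) (kf xf4 yf24 zf21) (kf xf5 yf6 zf28) (kf xf3 yf9 zf42) (kf xf5 yf7 zf45) (kf xf5 yf7 zf46) (kf xf5 yf7 zf48) (kf xf4 yf24 zf27) (kf xf5 yf6 zf34) (kf xf5 yf6 zf35) (kf xf3 yf9 zf46) (kf xf4 yf24 zf31) (kf xf5 yf8 zf6) (kf xf4 yf24 zf33) (kf xf5 yf6 zf40) (kf xf5 yf6 zf41) (kf xf3 yf10 zf0) (kf xf3 yf10 zf1)) (@D3.rec (fun _ => Pt) (kf xf5 yf8 zf16) (kf xf5 yf8 zf15) (kf xf3 yf10 zf2) (kf xf5 yf8 zf18) (kf xf5 yf8 zf19) (kf xf4 yf24 zf43) (kf xf4 yf24 zf44) (kf xf5 yf7 zf0) (kf xf5 yf7 zf1) (kf xf3 yf10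 zf8) (kf xf3 yf10 zf9) (kf xf5 yf8 zf27) (kf xf5 yf8 zf28) (kf xf5 yf8 zf29) (kf xf4 yf25 zf1) (kf xf4 yf25 zf2) (kf xf5 yf7 zf9) (kf xf5 yf8 zf38) (kf xf3 yf10 zf14) (kf xf5 yf8 zf42) (kf xf4 yf7 zf20) (kf xf3 yf10 zf16) (kf xf5 yf8 zf47) (kf xf4 yf25 zf21) (kf xf4 yf7 zf24) (kf xf3 yf10 zf18) (kf xf5 yf9 zf3) (kf xf4 yf7 zf27) (kf xf5 yf9 zf4) (kf xf4 yf25 zf27) (kf xf4 yf7 zf30) (kf xf4 yf7 zf31) (kf xf3 yf10 zf23) (kf xf5 yf9 zf11) (kf xf3 yf10 zf25) (kf xf5 yf9 zf14) (kf xf4 yf25 zf34) (kf xf4 yf7 zf37) (kf xf3 yf10 zf27) (kf xf5 yf9 zf20) (kf xf4 yf7 zf40) (kf xf4 yf25 zf39) (kf xf4 yf7 zf42) (kf xf3 yf10 zf30) (kf xf5 yf9 zf26) (kf xf5 yf9 zf27) (kf xf5 yf9 zf30) (kf xf4 yf25 zf45) (kf xf4 yf7 zf48) (kf xf4 yf7 zf49) (kf xf3 yf10 zf34)) (@D3.rec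 (fun _ => Pt) (kf xf3 yf10 zf36) (kf xf5 yf9 zf37) (kf xf5 yf9 zf38) (kf xf4 yf26 zf1) (kf xf4 yf26 zf2) (kf xf4 yf8 zf5) (kf xf4 yf8 zf6) (kf xf5 yf9 zf45) (kf xf3 yf10 zf41) (kf xf5 yf9 zf48) (kf xf4 yf26 zf24) (kf xf3 yf11 zf35) (kf xf3 yf10 zf43) (kf xf5 yf10 zf3) (kf xf3 yf11 zf38) (kf xf4 yf26 zf29) (kf xf3 yf11 zf40) (kf xf3 yf10 zf46) (kf xf5 yf10 zf9) (kf xf5 yf10 zf10) (kf xf5 yf10 zf12) (kf xf4 yf26 zf35) (kf xf3 yf11 zf46) (kf xf3 yf11 zf47) (kf xf3 yf10 zf50) (kf xf3 yf11 zf1) (kf xf5 yf10 zf19) (kf xf5 yf10 zf20) (kf xf4 yf26 zf42) (kf xf4 yf26 zf43) (kf xf3 yf12 zf3) (kf xf3 yf12 zf4) (kf xf3 yf11 zf6) (kf xf4 yf26 zf48) (kf xf3 yf12 zf7) (kf xf3 yf11 zf8) (kf xf5 yf10 zf34) (kf xf5 yf10 zf35) (kf xf5 yf0 zf3) (kf xf3 yf12 zf12) (kf xf3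 yf12 zf13) (kf xf3 yf11 zf12) (kf xf5 yf0 zf7) (kf xf5 yf10 zf44) (kf xf5 yf0 zf9) (kf xf3 yf12 zf18) (kf xf3 yf12 zf19) (kf xf3 yf11 zf17) (kf xf3 yf11 zf18) (kf xf5 yf11 zf3) (kf xf5 yf11 zf2)) (@D3.rec (fun _ => Pt) (kf xf3 yf11 zf19) (kf xf5 yf11 zf5) (kf xf5 yf11 zf6) (kf xf5 yf0 zf19) (kf xf5 yf0 zf20) (kf xf3 yf12 zf29) (kf xf3 yf12 zf30) (kf xf3 yf11 zf25) (kf xf3 yf11 zf26) (kf xf5 yf11 zf14) (kf xf5 yf11 zf15) (kf xf5 yf11 zf16) (kf xf5 yf0 zf28) (kf xf5 yf0 zf29) (kf xf3 yf12 zf38) (kf xf3 yf11 zf31) (kf xf5 yf1 zf6) (kf xf5 yf9 zf47) (kf xf3 yf11 zf33) (kf xf5 yf11 zf30) (kf xf5 yf11 zf31) (kf xf5 yf1 zf12) (kf xf5 yf10 zf1) (kf xf5 yf10 zf2) (kf xf3 yf11 zf37) (kf xf5 yf1 zf16) (kf xf5 yf11 zf39) (kf xf5 yf1 zf18) (kf xf5 yf10 zf7) (kf xf5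 yf10 zf8) (kf xf3 yf11 zf42) (kf xf3 yf11 zf43) (kf xf5 yf11 zf48) (kf xf3 yf11 zf44) (kf xf5 yf11 zf49) (kf xf5 yf11 zf50) (kf xf5 yf1 zf28) (kf xf5 yf1 zf29) (kf xf5 yf10 zf17) (kf xf5 yf10 zf18) (kf xf3 yf11 zf50) (kf xf3 yf12 zf0) (kf xf5 yf12 zf7) (kf xf5 yf12 zf8) (kf xf5 yf12 zf9) (kf xf5 yf1 zf37) (kf xf5 yf1 zf38) (kf xf5 yf10 zf26) (kf xf5 yf1 zf40) (kf xf5 yf10 zf28) (kf xf5 yf1 zf44)) (@D3.rec (fun _ => Pt) (kf xf5 yf12 zf22) (kf xf5 yf1 zf46) (kf xf5 yf10 zf32) (kf xf5 yf10 zf33) (kf xf3 yf12 zf9) (kf xf3 yf12 zf10) (kf xf5 yf12 zf29) (kf xf5 yf12 zf30) (kf xf5 yf2 zf4) (kf xf5 yf2 zf5) (kf xf5 yf10 zf40) (kf xf5 yf10 zf41) (kf xf5 yf12 zf37) (kf xf5 yf2 zf9) (kf xf3 yf12 zf16) (kf xf5 yf12 zf42) (kf xf5 yf12 zf43) (kf xf5 yf2 zf13) (kf xf5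 yf2 zf14) (kf xf5 yf10 zf49) (kf xf5 yf10 zf50) (kf xf5 yf11 zf0) (kf xf5 yf13 zf3) (kf xf3 yf12 zf23) (kf xf3 yf12 zf22) (kf xf5 yf13 zf6) (kf xf3 yf12 zf25) (kf xf3 yf12 zf26) (kf xf5 yf13 zf8) (kf xf5 yf13 zf9) (kf xf5 yf13 zf10) (kf xf5 yf2 zf28) (kf xf5 yf2 zf29) (kf xf5 yf11 zf12) (kf xf4 yf10 zf34) (kf xf3 yf12 zf33) (kf xf3 yf12 zf34) (kf xf3 yf12 zf35) (kf xf5 yf13 zf19) (kf xf5 yf13 zf20) (kf xf5 yf13 zf21) (kf xf5 yf13 zf23) (kf xf5 yf2 zf39) (kf xf5 yf2 zf40) (kf xf5 yf2 zf41) (kf xf3 yf12 zf39) (kf xf5 yf13 zf32) (kf xf5 yf13 zf33) (kf xf5 yf3 zf3) (kf xf3 yf12 zf42) (kf xf5 yf13 zf37)) (@D3.rec (fun _ => Pt) (kf xf3 yf12 zf45) (kf xf3 yf12 zf46) (kf xf5 yf13 zf39) (kf xf5 yf13 zf40) (kf xf5 yf3 zf10) (kf xf4 yf11 zf5) (kf xf3 yf13 zf0) (kf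 xf3 yf13 zf1) (kf xf3 yf13 zf2) (kf xf5 yf13 zf45) (kf xf5 yf13 zf46) (kf xf5 yf13 zf47) (kf xf5 yf13 zf49) (kf xf5 yf3 zf19) (kf xf5 yf3 zf20) (kf xf5 yf3 zf21) (kf xf5 yf14 zf7) (kf xf5 yf3 zf23) (kf xf3 yf13 zf7) (kf xf5 yf14 zf11) (kf xf3 yf13 zf10) (kf xf3 yf13 zf11) (kf xf5 yf14 zf13) (kf xf5 yf14 zf14) (kf xf5 yf3 zf30) (kf xf3 yf13 zf14) (kf xf5 yf14 zf19) (kf xf5 yf14 zf20) (kf xf5 yf3 zf34) (kf xf5 yf3 zf35) (kf xf3 yf13 zf17) (kf xf3 yf13 zf18) (kf xf5 yf14 zf27) (kf xf5 yf14 zf28) (kf xf5 yf3 zf40) (kf xf4 yf11 zf35) (kf xf3 yf13 zf23) (kf xf3 yf13 zf24) (kf xf3 yf13 zf25) (kf xf5 yf14 zf33) (kf xf5 yf14 zf34) (kf xf5 yf14 zf35) (kf xf5 yf14 zf37) (kf xf5 yf3 zf49) (kf xf5 yf3 zf50) (kf xf5 yf4 zf0) (kf xf4 yf11 zf46) (kf xf3 yf13 zf33) (kf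 xf3 yf13 zf34) (kf xf3 yf13 zf35) (kf xf3 yf16 zf8)) (@D3.rec (fun _ => Pt) (kf xf3 yf13 zf36) (kf xf5 yf14 zf48) (kf xf5 yf14 zf50) (kf xf5 yf15 zf0) (kf xf5 yf14 zf49) (kf xf5 yf15 zf1) (kf xf5 yf4 zf12) (kf xf5 yf4 zf13) (kf xf5 yf4 zf14) (kf xf4 yf12 zf9) (kf xf4 yf12 zf10) (kf xf3 yf13 zf41) (kf xf5 yf15 zf12) (kf xf4 yf20 zf45) (kf xf4 yf12 zf14) (kf xf4 yf12 zf15) (kf xf4 yf12 zf16) (kf xf3 yf13 zf45) (kf xf4 yf12 zf18) (kf xf4 yf20 zf43) (kf xf4 yf12 zf20) (kf xf4 yf12 zf21) (kf xf4 yf12 zf22) (kf xf3 yf13 zf50) (kf xf3 yf14 zf0) (kf xf5 yf15 zf26) (kf xf5 yf15 zf25) (kf xf3 yf14 zf1) (kf xf4 yf21 zf3) (kf xf5 yf15 zf28) (kf xf4 yf12 zf30) (kf xf4 yf12 zf31) (kf xf4 yf12 zf32) (kf xf4 yf12 zf33) (kf xf3 yf14 zf7) (kf xf3 yf14 zf8) (kf xf5 yf15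 zf35) (kf xf5 yf15 zf36) (kf xf5 yf15 zf37) (kf xf4 yf12 zf39) (kf xf4 yf12 zf40) (kf xf4 yf12 zf41) (kf xf4 yf12 zf42) (kf xf4 yf21 zf34) (kf xf4 yf12 zf44) (kf xf3 yf14 zf48) (kf xf3 yf14 zf49) (kf xf3 yf14 zf16) (kf xf3 yf14 zf17) (kf xf4 yf21 zf28) (kf xf5 yf15 zf50)) (@D3.rec (fun _ => Pt) (kf xf4 yf13 zf0) (kf xf4 yf13 zf1) (kf xf3 yf15 zf5) (kf xf3 yf15 zf6) (kf xf4 yf21 zf26) (kf xf4 yf13 zf5) (kf xf3 yf14 zf23) (kf xf4 yf21 zf23) (kf xf5 yf16 zf8) (kf xf4 yf13 zf9) (kf xf4 yf13 zf10) (kf xf3 yf15 zf12) (kf xf3 yf15 zf13) (kf xf3 yf15 zf14) (kf xf5 yf16 zf19) (kf xf3 yf14 zf30) (kf xf3 yf14 zf29) (kf xf5 yf16 zf22) (kf xf3 yf14 zf32) (kf xf3 yf14 zf33) (kf xf5 yf16 zf23) (kf xf5 yf16 zf24) (kf xf5 yf16 zf25) (kf xf4 yf13 zf23) (kf xf4 yf13 zf24)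 (kf xf3 yf15 zf26) (kf xf4 yf21 zf19) (kf xf3 yf14 zf40) (kf xf3 yf14 zf41) (kf xf3 yf14 zf42) (kf xf5 yf16 zf34) (kf xf5 yf16 zf35) (kf xf5 yf16 zf36) (kf xf5 yf16 zf38) (kf xf4 yf13 zf34) (kf xf4 yf13 zf35) (kf xf4 yf13 zf36) (kf xf3 yf14 zf46) (kf xf4 yf21 zf32) (kf xf5 yf16 zf47) (kf xf4 yf13 zf40) (kf xf4 yf13 zf41) (kf xf5 yf15 zf48) (kf xf5 yf15 zf49) (kf xf3 yf15 zf1) (kf xf3 yf15 zf2) (kf xf5 yf17 zf3) (kf xf5 yf17 zf4) (kf xf5 yf17 zf5) (kf xf4 yf13 zf49) (kf xf4 yf13 zf50)) (@D3.rec (fun _ => Pt) (kf xf5 yf16 zf5) (kf xf3 yf15 zf8) (kf xf3 yf15 zf9) (kf xf5 yf17 zf13) (kf xf5 yf17 zf14) (kf xf5 yf17 zf15) (kf xf4 yf14 zf6) (kf xf5 yf17 zf24) (kf xf4 yf14 zf8) (kf xf5 yf16 zf15) (kf xf5 yf16 zf16) (kf xf5 yf17 zf29) (kf xf5 yf16 zf18) (kf xf3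 yf15 zf15) (kf xf5 yf17 zf32) (kf xf5 yf16 zf21) (kf xf3 yf15 zf18) (kf xf4 yf14 zf17) (kf xf3 yf15 zf21) (kf xf3 yf15 zf22) (kf xf3 yf15 zf23) (kf xf5 yf17 zf36) (kf xf5 yf17 zf37) (kf xf5 yf17 zf38) (kf xf5 yf17 zf40) (kf xf4 yf14 zf25) (kf xf4 yf14 zf26) (kf xf4 yf14 zf27) (kf xf4 yf14 zf28) (kf xf3 yf15 zf31) (kf xf3 yf15 zf32) (kf xf3 yf15 zf33) (kf xf5 yf13 zf22) (kf xf3 yf15 zf34) (kf xf3 yf16 zf11) (kf xf5 yf17 zf50) (kf xf5 yf18 zf0) (kf xf5 yf18 zf1) (kf xf5 yf18 zf3) (kf xf4 yf14 zf39) (kf xf4 yf14 zf40) (kf xf4 yf14 zf41) (kf xf4 yf14 zf42) (kf xf3 yf15 zf40) (kf xf3 yf15 zf41) (kf xf3 yf15 zf42) (kf xf5 yf18 zf9) (kf xf3 yf16 zf15) (kf xf5 yf18 zf10) (kf xf5 yf18 zf12) (kf xf4 yf14 zf50)) (@D3.rec (fun _ => Pt) (kf xf4 yf15 zf0) (kf xf4 yf15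 zf1) (kf xf3 yf15 zf50) (kf xf3 yf16 zf1) (kf xf5 yf14 zf36) (kf xf3 yf16 zf2) (kf xf5 yf18 zf21) (kf xf3 yf16 zf10) (kf xf5 yf18 zf22) (kf xf5 yf18 zf24) (kf xf5 yf18 zf4) (kf xf4 yf15 zf11) (kf xf4 yf15 zf12) (kf xf4 yf15 zf13) (kf xf5 yf18 zf14) (kf xf4 yf15 zf15) (kf xf4 yf15 zf16) (kf xf4 yf15 zf17) (kf xf4 yf15 zf18) (kf xf4 yf20 zf12) (kf xf3 yf16 zf21) (kf xf3 yf16 zf31) (kf xf3 yf16 zf27) (kf xf3 yf16 zf23) (kf xf3 yf21 zf36) (kf xf4 yf20 zf16) (kf xf3 yf22 zf1) (kf xf5 yf4 zf31) (kf xf3 yf16 zf32) (kf xf3 yf16 zf37) (kf xf5 yf4 zf27) (kf xf3 yf21 zf2) (kf xf3 yf16 zf39) (kf xf3 yf21 zf5) (kf xf4 yf15 zf34) (kf xf3 yf16 zf45) (kf xf4 yf15 zf36) (kf xf4 yf15 zf37) (kf xf4 yf15 zf38) (kf xf3 yf17 zf0) (kf xf4 yf15 zf40) (kf xf3 yf17 zf2) (kf xf4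 yf15 zf42) (kf xf4 yf15 zf43) (kf xf3 yf17 zf5) (kf xf3 yf17 zf11) (kf xf4 yf15 zf46) (kf xf4 yf15 zf47) (kf xf5 yf18 zf35) (kf xf3 yf17 zf17) (kf xf5 yf18 zf36)) (@D3.rec (fun _ => Pt) (kf xf3 yf17 zf19) (kf xf4 yf16 zf1) (kf xf4 yf16 zf2) (kf xf3 yf17 zf22) (kf xf5 yf18 zf38) (kf xf3 yf17 zf26) (kf xf4 yf16 zf6) (kf xf3 yf18 zf3) (kf xf3 yf18 zf14) (kf xf3 yf18 zf5) (kf xf3 yf17 zf35) (kf xf4 yf16 zf11) (kf xf3 yf18 zf10) (kf xf3 yf17 zf37) (kf xf4 yf16 zf14) (kf xf3 yf18 zf15) (kf xf4 yf16 zf16) (kf xf3 yf20 zf9) (kf xf4 yf16 zf18) (kf xf3 yf18 zf19) (kf xf3 yf18 zf20) (kf xf3 yf17 zf45) (kf xf5 yf19 zf1) (kf xf4 yf16 zf23) (kf xf3 yf18 zf29) (kf xf4 yf16 zf25) (kf xf5 yf19 zf4) (kf xf5 yf18 zf42) (kf xf3 yf18 zf4) (kf xf3 yf18 zf12) (kf xf4 yf16 zf30)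 (kf xf5 yf18 zf44) (kf xf4 yf16 zf32) (kf xf5 yf19 zf5) (kf xf4 yf16 zf34) (kf xf5 yf18 zf41) (kf xf5 yf18 zf47) (kf xf3 yf20 zf2) (kf xf4 yf16 zf38) (kf xf3 yf19 zf20) (kf xf5 yf19 zf15) (kf xf4 yf16 zf41) (kf xf3 yf18 zf17) (kf xf3 yf20 zf7) (kf xf3 yf20 zf6) (kf xf4 yf16 zf45) (kf xf3 yf19 zf23) (kf xf5 yf18 zf50) (kf xf5 yf19 zf25) (kf xf3 yf18 zf22) (kf xf3 yf19 zf39)) (@D3.rec (fun _ => Pt) (kf xf4 yf17 zf0) (kf xf4 yf17 zf1) (kf xf3 yf19 zf9) (kf xf3 yf18 zf33) (kf xf4 yf17 zf4) (kf xf4 yf17 zf5) (kf xf4 yf17 zf6) (kf xf4 yf17 zf7) (kf xf4 yf17 zf8) (kf xf3 yf18 zf37) (kf xf4 yf17 zf10) (kf xf4 yf17 zf11) (kf xf4 yf17 zf12) (kf xf3 yf19 zf1) (kf xf5 yf19 zf34) (kf xf4 yf17 zf15) (kf xf3 yf19 zf30) (kf xf3 yf19 zf42) (kf xf3 yf19 zf32) (kf xf4 yf17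 zf19) (kf xf5 yf19 zf8) (kf xf4 yf17 zf21) (kf xf3 yf19 zf36) (kf xf3 yf19 zf37) (kf xf4 yf17 zf24) (kf xf5 yf19 zf13) (kf xf3 yf20 zf0) (kf xf5 yf19 zf23) (kf xf4 yf17 zf28) (kf xf4 yf17 zf29) (kf xf3 yf20 zf10) (kf xf5 yf19 zf48) (kf xf3 yf19 zf28) (kf xf4 yf17 zf33) (kf xf5 yf20 zf1) (kf xf5 yf19 zf37) (kf xf3 yf19 zf31) (kf xf3 yf19 zf40) (kf xf5 yf20 zf3) (kf xf4 yf17 zf39) (kf xf3 yf19 zf34) (kf xf5 yf19 zf7) (kf xf5 yf20 zf2) (kf xf4 yf17 zf43) (kf xf5 yf19 zf36) (kf xf3 yf20 zf17) (kf xf4 yf17 zf46) (kf xf5 yf20 zf11) (kf xf4 yf17 zf48) (kf xf3 yf19 zf50) (kf xf5 yf19 zf11)) (@D3.rec (fun _ => Pt) (kf xf3 yf20 zf3) (kf xf5 yf19 zf20) (kf xf5 yf20 zf16) (kf xf4 yf18 zf3) (kf xf4 yf18 zf4) (kf xf5 yf19 zf16) (kf xf5 yf20 zf23) (kf xf5 yf18 zf48)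 (kf xf5 yf20 zf25) (kf xf3 yf20 zf11) (kf xf5 yf19 zf49) (kf xf5 yf20 zf28) (kf xf4 yf18 zf12) (kf xf3 yf20 zf14) (kf xf5 yf20 zf10) (kf xf3 yf20 zf18) (kf xf3 yf20 zf31) (kf xf3 yf20 zf30) (kf xf4 yf18 zf18) (kf xf3 yf20 zf21) (kf xf5 yf20 zf34) (kf xf5 yf20 zf35) (kf xf4 yf18 zf22) (kf xf4 yf18 zf23) (kf xf3 yf20 zf24) (kf xf3 yf20 zf25) (kf xf5 yf20 zf32) (kf xf5 yf20 zf41) (kf xf4 yf18 zf28) (kf xf5 yf2 zf45) (kf xf4 yf18 zf30) (kf xf3 yf20 zf36) (kf xf3 yf22 zf24) (kf xf5 yf2 zf43) (kf xf4 yf18 zf34) (kf xf5 yf20 zf47) (kf xf4 yf18 zf36) (kf xf3 yf20 zf39) (kf xf5 yf21 zf0) (kf xf3 yf20 zf41) (kf xf5 yf21 zf2) (kf xf5 yf21 zf3) (kf xf4 yf18 zf42) (kf xf3 yf20 zf44) (kf xf5 yf14 zf18) (kf xf3 yf20 zf47) (kf xf3 yf20 zf48) (kf xf5 yf21 zf8) (kf xf5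 yf21 zf9) (kf xf3 yf21 zf30) (kf xf4 yf20 zf30)) (@D3.rec (fun _ => Pt) (kf xf4 yf19 zf0) (kf xf4 yf20 zf29) (kf xf3 yf21 zf34) (kf xf3 yf21 zf37) (kf xf4 yf19 zf4) (kf xf5 yf21 zf15) (kf xf3 yf21 zf10) (kf xf4 yf19 zf7) (kf xf3 yf21 zf43) (kf xf4 yf19 zf9) (kf xf4 yf19 zf10) (kf xf4 yf19 zf11) (kf xf3 yf21 zf44) (kf xf3 yf21 zf45) (kf xf4 yf19 zf14) (kf xf3 yf21 zf46) (kf xf5 yf21 zf25) (kf xf3 yf21 zf26) (kf xf5 yf21 zf27) (kf xf3 yf21 zf22) (kf xf3 yf21 zf29) (kf xf5 yf21 zf30) (kf xf3 yf21 zf27) (kf xf5 yf21 zf31) (kf xf5 yf21 zf29) (kf xf4 yf20 zf25) (kf xf4 yf22 zf15) (kf xf3 yf21 zf31) (kf xf3 yf21 zf33) (kf xf4 yf21 zf48) (kf xf5 yf21 zf11) (kf xf5 yf21 zf12) (kf xf5 yf4 zf19) (kf xf5 yf4 zf34) (kf xf5 yf21 zf40) (kf xf5 yf21 zf35) (kf xf3 yf21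 zf39) (kf xf4 yf19 zf37) (kf xf5 yf21 zf17) (kf xf5 yf21 zf20) (kf xf5 yf21 zf41) (kf xf5 yf21 zf22) (kf xf3 yf21 zf47) (kf xf4 yf19 zf43) (kf xf3 yf22 zf2) (kf xf4 yf19 zf45) (kf xf3 yf22 zf4) (kf xf5 yf21 zf45) (kf xf4 yf19 zf48) (kf xf4 yf19 zf49) (kf xf3 yf22 zf9)) (@D3.rec (fun _ => Pt) (kf xf3 yf22 zf13) (kf xf5 yf21 zf49) (kf xf3 yf22 zf17) (kf xf3 yf22 zf15) (kf xf4 yf20 zf4) (kf xf3 yf22 zf32) (kf xf3 yf22 zf19) (kf xf3 yf22 zf30) (kf xf5 yf2 zf48) (kf xf4 yf20 zf9) (kf xf3 yf22 zf35) (kf xf4 yf3 zf28) (kf xf4 yf15 zf19) (kf xf4 yf3 zf29) (kf xf3 yf22 zf36) (kf xf4 yf20 zf15) (kf xf4 yf15 zf25) (kf xf4 yf3 zf46) (kf xf3 yf22 zf38) (kf xf4 yf3 zf42) (kf xf3 yf22 zf41) (kf xf3 yf22 zf42) (kf xf4 yf20 zf22) (kf xf4 yf20 zf23) (kf xf4 yf20 zf24) (kf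 xf4 yf19 zf25) (kf xf4 yf3 zf30) (kf xf3 yf22 zf46) (kf xf3 yf23 zf1) (kf xf4 yf19 zf1) (kf xf4 yf18 zf50) (kf xf3 yf22 zf49) (kf xf3 yf22 zf50) (kf xf4 yf4 zf0) (kf xf4 yf3 zf44) (kf xf4 yf4 zf13) (kf xf3 yf23 zf2) (kf xf3 yf23 zf3) (kf xf4 yf20 zf38) (kf xf4 yf20 zf39) (kf xf4 yf20 zf40) (kf xf3 yf23 zf6) (kf xf4 yf20 zf42) (kf xf4 yf12 zf19) (kf xf3 yf23 zf9) (kf xf4 yf12 zf13) (kf xf3 yf23 zf10) (kf xf5 yf22 zf3) (kf xf4 yf20 zf48) (kf xf4 yf20 zf49) (kf xf4 yf20 zf50)) (@D3.rec (fun _ => Pt) (kf xf3 yf23 zf13) (kf xf5 yf22 zf7) (kf xf4 yf21 zf2) (kf xf4 yf12 zf28) (kf xf3 yf23 zf16) (kf xf5 yf22 zf9) (kf xf3 yf23 zf30) (kf xf3 yf23 zf18) (kf xf5 yf22 zf11) (kf xf4 yf21 zf9) (kf xf3 yf23 zf34) (kf xf3 yf23 zf20) (kf xf5 yf22 zf16) (kf xf3 yf23 zf37)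 (kf xf4 yf6 zf13) (kf xf4 yf21 zf15) (kf xf3 yf23 zf40) (kf xf3 yf23 zf41) (kf xf3 yf23 zf25) (kf xf4 yf13 zf26) (kf xf3 yf23 zf27) (kf xf5 yf22 zf23) (kf xf4 yf21 zf22) (kf xf4 yf13 zf7) (kf xf3 yf23 zf29) (kf xf5 yf22 zf28) (kf xf4 yf13 zf4) (kf xf4 yf21 zf27) (kf xf4 yf12 zf49) (kf xf3 yf23 zf32) (kf xf5 yf22 zf31) (kf xf5 yf22 zf32) (kf xf4 yf13 zf38) (kf xf4 yf21 zf33) (kf xf4 yf12 zf43) (kf xf5 yf22 zf15) (kf xf3 yf23 zf36) (kf xf3 yf23 zf38) (kf xf4 yf6 zf11) (kf xf5 yf22 zf40) (kf xf4 yf21 zf40) (kf xf4 yf21 zf41) (kf xf5 yf22 zf20) (kf xf5 yf22 zf21) (kf xf5 yf22 zf48) (kf xf5 yf22 zf49) (kf xf3 yf23 zf44) (kf xf3 yf24 zf3) (kf xf4 yf19 zf29) (kf xf5 yf23 zf4) (kf xf3 yf23 zf47)) (@D3.rec (fun _ => Pt) (kf xf3 yf23 zf48) (kf xf4 yf3 zf33) (kf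 xf3 yf24 zf9) (kf xf3 yf24 zf10) (kf xf5 yf23 zf7) (kf xf3 yf24 zf0) (kf xf3 yf24 zf1) (kf xf5 yf23 zf12) (kf xf5 yf23 zf0) (kf xf5 yf23 zf1) (kf xf5 yf23 zf15) (kf xf3 yf24 zf4) (kf xf5 yf23 zf16) (kf xf3 yf24 zf5) (kf xf5 yf23 zf19) (kf xf4 yf19 zf26) (kf xf4 yf4 zf8) (kf xf4 yf3 zf50) (kf xf3 yf24 zf8) (kf xf4 yf4 zf9) (kf xf4 yf4 zf17) (kf xf5 yf23 zf22) (kf xf3 yf24 zf11) (kf xf5 yf23 zf25) (kf xf4 yf22 zf24) (kf xf4 yf4 zf24) (kf xf4 yf22 zf26) (kf xf3 yf24 zf14) (kf xf5 yf23 zf31) (kf xf4 yf22 zf29) (kf xf3 yf24 zf17) (kf xf4 yf22 zf31) (kf xf3 yf24 zf19) (kf xf4 yf4 zf32) (kf xf4 yf22 zf34) (kf xf3 yf24 zf21) (kf xf4 yf22 zf36) (kf xf5 yf23 zf40) (kf xf4 yf4 zf38) (kf xf4 yf22 zf39) (kf xf4 yf22 zf40) (kf xf3 yf24 zf26) (kf xf5 yf23 zf45) (kf xf3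 yf24 zf28) (kf xf5 yf23 zf49) (kf xf4 yf22 zf45) (kf xf4 yf4 zf50) (kf xf4 yf22 zf47) (kf xf3 yf24 zf31) (kf xf5 yf24 zf5) (kf xf4 yf22 zf50)) (@D3.rec (fun _ => Pt) (kf xf5 yf24 zf7) (kf xf3 yf24 zf34) (kf xf5 yf24 zf11) (kf xf4 yf23 zf3) (kf xf3 yf24 zf36) (kf xf5 yf24 zf15) (kf xf4 yf5 zf10) (kf xf4 yf23 zf7) (kf xf3 yf24 zf38) (kf xf5 yf24 zf22) (kf xf4 yf23 zf10) (kf xf5 yf24 zf23) (kf xf4 yf5 zf16) (kf xf4 yf23 zf13) (kf xf4 yf23 zf14) (kf xf3 yf24 zf43) (kf xf3 yf24 zf45) (kf xf5 yf24 zf32) (kf xf4 yf5 zf27) (kf xf3 yf25 zf22) (kf xf3 yf24 zf47) (kf xf5 yf24 zf39) (kf xf3 yf25 zf25) (kf xf5 yf24 zf40) (kf xf4 yf5 zf33) (kf xf3 yf25 zf28) (kf xf3 yf25 zf29) (kf xf3 yf25 zf1) (kf xf5 yf24 zf47) (kf xf3 yf25 zf3) (kf xf5 yf25 zf0) (kf xf4 yf5 zf40)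 (kf xf3 yf25 zf35) (kf xf3 yf25 zf5) (kf xf5 yf25 zf7) (kf xf3 yf25 zf38) (kf xf4 yf5 zf45) (kf xf3 yf25 zf40) (kf xf3 yf25 zf8) (kf xf5 yf25 zf13) (kf xf5 yf25 zf14) (kf xf5 yf25 zf17) (kf xf4 yf6 zf0) (kf xf3 yf25 zf46) (kf xf3 yf25 zf47) (kf xf3 yf25 zf12) (kf xf3 yf25 zf14) (kf xf5 yf25 zf24) (kf xf5 yf25 zf25) (kf xf4 yf6 zf7) (kf xf4 yf6 zf8)) (@D3.rec (fun _ => Pt) (kf xf3 yf26 zf3) (kf xf3 yf26 zf4) (kf xf4 yf6 zf16) (kf xf5 yf24 zf31) (kf xf3 yf25 zf20) (kf xf5 yf25 zf37) (kf xf5 yf25 zf38) (kf xf5 yf25 zf40) (kf xf4 yf6 zf21) (kf xf5 yf24 zf37) (kf xf5 yf24 zf38) (kf xf3 yf25 zf24) (kf xf3 yf25 zf26) (kf xf5 yf25 zf47) (kf xf5 yf25 zf48) (kf xf4 yf6 zf28) (kf xf4 yf6 zf29) (kf xf5 yf24 zf45) (kf xf5 yf24 zf46) (kf xf3 yf25 zf31) (kf xf5 yf26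 zf6) (kf xf4 yf6 zf34) (kf xf5 yf24 zf50) (kf xf3 yf25 zf33) (kf xf5 yf26 zf14) (kf xf5 yf26 zf15) (kf xf5 yf26 zf18) (kf xf4 yf6 zf40) (kf xf5 yf25 zf5) (kf xf5 yf25 zf6) (kf xf3 yf25 zf37) (kf xf4 yf6 zf44) (kf xf5 yf26 zf27) (kf xf4 yf6 zf46) (kf xf5 yf25 zf11) (kf xf5 yf25 zf12) (kf xf3 yf25 zf42) (kf xf3 yf25 zf43) (kf xf5 yf26 zf37) (kf xf5 yf26 zf36) (kf xf3 yf25 zf44) (kf xf5 yf26 zf40) (kf xf5 yf26 zf41) (kf xf4 yf7 zf5) (kf xf4 yf7 zf6) (kf xf5 yf25 zf22) (kf xf5 yf25 zf23) (kf xf3 yf25 zf50) (kf xf3 yf26 zf0) (kf xf5 yf26 zf49) (kf xf5 yf26 zf50)) (@D3.rec (fun _ => Pt) (kf xf6 yf0 zf0) (kf xf4 yf7 zf14) (kf xf4 yf7 zf15) (kf xf5 yf25 zf31) (kf xf6 yf0 zf9) (kf xf3 yf26 zf5) (kf xf6 yf0 zf12) (kf xf3 yf26 zf6) (kf xf6 yf0 zf16) (kf xf4 yf25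 zf9) (kf xf4 yf25 zf10) (kf xf4 yf25 zf11) (kf xf3 yf26 zf9) (kf xf6 yf0 zf23) (kf xf4 yf25 zf14) (kf xf6 yf0 zf25) (kf xf3 yf26 zf12) (kf xf6 yf0 zf29) (kf xf4 yf25 zf18) (kf xf3 yf26 zf14) (kf xf6 yf0 zf34) (kf xf4 yf7 zf23) (kf xf4 yf25 zf22) (kf xf3 yf26 zf16) (kf xf6 yf0 zf41) (kf xf4 yf25 zf25) (kf xf6 yf0 zf42) (kf xf4 yf7 zf29) (kf xf4 yf25 zf28) (kf xf4 yf25 zf29) (kf xf3 yf26 zf21) (kf xf6 yf0 zf49) (kf xf3 yf26 zf23) (kf xf6 yf1 zf2) (kf xf4 yf7 zf36) (kf xf4 yf25 zf35) (kf xf3 yf26 zf25) (kf xf6 yf1 zf9) (kf xf4 yf25 zf38) (kf xf4 yf7 zf41) (kf xf4 yf25 zf40) (kf xf3 yf26 zf28) (kf xf6 yf1 zf15) (kf xf6 yf1 zf16) (kf xf6 yf1 zf19) (kf xf4 yf7 zf47) (kf xf4 yf25 zf46) (kf xf4 yf25 zf47) (kf xf3 yf26 zf32) (kf xf3 yf26 zf34) (kf xf6 yf1 zf26))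 (@D3.rec (fun _ => Pt) (kf xf6 yf1 zf27) (kf xf4 yf8 zf3) (kf xf4 yf8 zf4) (kf xf4 yf26 zf3) (kf xf4 yf26 zf4) (kf xf6 yf1 zf35) (kf xf3 yf26 zf39) (kf xf6 yf1 zf39) (kf xf4 yf0 zf43) (kf xf3 yf26 zf41) (kf xf6 yf1 zf44) (kf xf4 yf26 zf11) (kf xf4 yf0 zf47) (kf xf3 yf26 zf43) (kf xf6 yf2 zf0) (kf xf4 yf0 zf50) (kf xf6 yf2 zf1) (kf xf4 yf26 zf17) (kf xf4 yf1 zf2) (kf xf4 yf1 zf3) (kf xf3 yf26 zf48) (kf xf6 yf2 zf8) (kf xf3 yf26 zf50) (kf xf6 yf2 zf12) (kf xf4 yf8 zf10) (kf xf4 yf1 zf9) (kf xf4 yf0 zf1) (kf xf6 yf2 zf19) (kf xf4 yf1 zf12) (kf xf4 yf8 zf15) (kf xf4 yf1 zf14) (kf xf4 yf0 zf4) (kf xf6 yf2 zf25) (kf xf6 yf2 zf26) (kf xf6 yf2 zf29) (kf xf4 yf8 zf21) (kf xf4 yf1 zf20) (kf xf4 yf1 zf21) (kf xf4 yf0 zf8) (kf xf4 yf0 zf10) (kf xf6 yf2 zf36) (kf xf6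 yf2 zf37) (kf xf4 yf8 zf28) (kf xf4 yf8 zf29) (kf xf4 yf1 zf28) (kf xf4 yf1 zf29) (kf xf4 yf0 zf15) (kf xf6 yf2 zf46) (kf xf4 yf8 zf33) (kf xf4 yf1 zf33) (kf xf4 yf0 zf17))
def f_f_5 : D2 → D3 → Pt := @D2.rec (fun _ => D3 → Pt) (@D3.rec (fun _ => Pt) (kf xf6 yf3 zf2) (kf xf6 yf3 zf3) (kf xf6 yf3 zf5) (kf xf4 yf8 zf38) (kf xf4 yf1 zf39) (kf xf4 yf1 zf40) (kf xf4 yf0 zf21) (kf xf4 yf8 zf42) (kf xf6 yf3 zf14) (kf xf4 yf8 zf44) (kf xf4 yf1 zf45) (kf xf4 yf1 zf46) (kf xf4 yf0 zf26) (kf xf4 yf0 zf27) (kf xf6 yf3 zf24) (kf xf6 yf3 zf23) (kf xf4 yf0 zf28) (kf xf6 yf3 zf27) (kf xf6 yf3 zf28) (kf xf4 yf9 zf3) (kf xf4 yf9 zf4) (kf xf4 yf2 zf5) (kf xf4 yf2 zf6) (kf xf4 yf0 zf34) (kf xf4 yf0 zf35) (kf xf6 yf3 zf36) (kf xf6 yf3 zf37) (kf xf6 yf3 zf38) (kf xf4 yf9 zf12)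 (kf xf4 yf9 zf13) (kf xf4 yf2 zf14) (kf xf6 yf3 zf46) (kf xf4 yf0 zf40) (kf xf6 yf3 zf49) (kf xf6 yf1 zf38) (kf xf4 yf0 zf42) (kf xf6 yf4 zf3) (kf xf6 yf1 zf41) (kf xf5 yf0 zf38) (kf xf6 yf1 zf43) (kf xf4 yf0 zf45) (kf xf6 yf4 zf8) (kf xf6 yf4 zf9) (kf xf6 yf4 zf12) (kf xf5 yf0 zf44) (kf xf6 yf1 zf49) (kf xf6 yf1 zf50) (kf xf4 yf0 zf49) (kf xf4 yf1 zf0) (kf xf6 yf4 zf18) (kf xf6 yf4 zf19)) (@D3.rec (fun _ => Pt) (kf xf5 yf1 zf0) (kf xf5 yf1 zf1) (kf xf6 yf2 zf6) (kf xf6 yf2 zf7) (kf xf4 yf1 zf5) (kf xf6 yf4 zf28) (kf xf4 yf9 zf16) (kf xf6 yf2 zf11) (kf xf4 yf1 zf7) (kf xf6 yf4 zf34) (kf xf6 yf4 zf35) (kf xf6 yf4 zf37) (kf xf4 yf9 zf21) (kf xf6 yf2 zf17) (kf xf6 yf2 zf18) (kf xf4 yf1 zf11) (kf xf4 yf9 zf25) (kf xf6 yf4 zf45) (kf xf4 yf9 zf27) (kf xf6 yf2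 zf23) (kf xf6 yf2 zf24) (kf xf4 yf1 zf16) (kf xf4 yf1 zf17) (kf xf6 yf5 zf4) (kf xf6 yf5 zf3) (kf xf4 yf1 zf18) (kf xf6 yf5 zf7) (kf xf6 yf5 zf8) (kf xf4 yf9 zf36) (kf xf4 yf9 zf37) (kf xf6 yf2 zf34) (kf xf6 yf2 zf35) (kf xf4 yf1 zf24) (kf xf4 yf1 zf25) (kf xf6 yf5 zf16) (kf xf6 yf5 zf17) (kf xf6 yf5 zf18) (kf xf4 yf9 zf45) (kf xf4 yf9 zf46) (kf xf6 yf2 zf43) (kf xf4 yf9 zf48) (kf xf6 yf2 zf45) (kf xf4 yf1 zf31) (kf xf6 yf5 zf31) (kf xf4 yf9 zf50) (kf xf6 yf5 zf34) (kf xf4 yf10 zf1) (kf xf6 yf3 zf0) (kf xf6 yf3 zf1) (kf xf4 yf1 zf35) (kf xf4 yf1 zf36)) (@D3.rec (fun _ => Pt) (kf xf6 yf5 zf43) (kf xf4 yf1 zf37) (kf xf6 yf5 zf45) (kf xf6 yf5 zf46) (kf xf4 yf10 zf8) (kf xf4 yf10 zf9) (kf xf6 yf3 zf10) (kf xf6 yf3 zf11) (kf xf6 yf6 zf2) (kf xf4 yf10 zf13)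 (kf xf4 yf1 zf43) (kf xf6 yf6 zf7) (kf xf6 yf6 zf8) (kf xf4 yf10 zf17) (kf xf4 yf10 zf18) (kf xf6 yf3 zf19) (kf xf6 yf3 zf20) (kf xf6 yf3 zf21) (kf xf6 yf6 zf19) (kf xf4 yf1 zf50) (kf xf4 yf1 zf49) (kf xf6 yf6 zf23) (kf xf6 yf6 zf21) (kf xf4 yf2 zf1) (kf xf4 yf2 zf2) (kf xf6 yf6 zf26) (kf xf6 yf6 zf27) (kf xf6 yf6 zf28) (kf xf4 yf10 zf31) (kf xf4 yf10 zf32) (kf xf6 yf3 zf34) (kf xf5 yf2 zf31) (kf xf4 yf2 zf9) (kf xf4 yf2 zf10) (kf xf4 yf2 zf11) (kf xf6 yf6 zf37) (kf xf6 yf6 zf38) (kf xf6 yf6 zf39) (kf xf6 yf6 zf41) (kf xf4 yf10 zf42) (kf xf4 yf10 zf43) (kf xf4 yf10 zf44) (kf xf4 yf2 zf16) (kf xf4 yf18 zf33) (kf xf4 yf2 zf19) (kf xf4 yf18 zf29) (kf xf4 yf2 zf22) (kf xf4 yf2 zf23) (kf xf4 yf20 zf8) (kf xf6 yf6 zf50) (kf xf5 yf2 zf50)) (@D3.rec (fun _ =>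 Pt) (kf xf4 yf2 zf26) (kf xf6 yf7 zf3) (kf xf6 yf7 zf4) (kf xf4 yf10 zf48) (kf xf4 yf2 zf29) (kf xf6 yf7 zf8) (kf xf4 yf2 zf32) (kf xf4 yf2 zf33) (kf xf6 yf7 zf10) (kf xf6 yf7 zf11) (kf xf4 yf11 zf4) (kf xf5 yf3 zf11) (kf xf4 yf2 zf38) (kf xf4 yf2 zf39) (kf xf4 yf2 zf40) (kf xf6 yf7 zf16) (kf xf6 yf7 zf17) (kf xf6 yf7 zf18) (kf xf6 yf7 zf20) (kf xf4 yf11 zf13) (kf xf4 yf11 zf14) (kf xf4 yf11 zf15) (kf xf6 yf7 zf29) (kf xf4 yf11 zf17) (kf xf4 yf2 zf45) (kf xf6 yf7 zf33) (kf xf4 yf2 zf48) (kf xf4 yf2 zf49) (kf xf6 yf7 zf35) (kf xf6 yf7 zf36) (kf xf4 yf11 zf24) (kf xf4 yf3 zf1) (kf xf6 yf7 zf41) (kf xf6 yf7 zf42) (kf xf4 yf11 zf28) (kf xf4 yf11 zf29) (kf xf4 yf3 zf4) (kf xf4 yf3 zf5) (kf xf6 yf7 zf49) (kf xf6 yf7 zf50) (kf xf4 yf11 zf34) (kf xf5 yf3 zf41)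 (kf xf4 yf3 zf10) (kf xf4 yf3 zf11) (kf xf4 yf3 zf12) (kf xf6 yf8 zf4) (kf xf6 yf8 zf5) (kf xf6 yf8 zf6) (kf xf6 yf8 zf8) (kf xf4 yf11 zf43) (kf xf4 yf11 zf44)) (@D3.rec (fun _ => Pt) (kf xf4 yf11 zf45) (kf xf5 yf4 zf1) (kf xf4 yf3 zf20) (kf xf4 yf3 zf21) (kf xf4 yf3 zf22) (kf xf5 yf4 zf5) (kf xf4 yf3 zf23) (kf xf6 yf8 zf19) (kf xf6 yf8 zf21) (kf xf6 yf8 zf22) (kf xf6 yf8 zf24) (kf xf6 yf8 zf26) (kf xf4 yf12 zf6) (kf xf4 yf12 zf7) (kf xf4 yf12 zf8) (kf xf5 yf23 zf5) (kf xf4 yf3 zf32) (kf xf6 yf8 zf36) (kf xf4 yf3 zf36) (kf xf4 yf19 zf32) (kf xf4 yf3 zf37) (kf xf6 yf8 zf38) (kf xf5 yf22 zf50) (kf xf4 yf3 zf40) (kf xf6 yf8 zf39) (kf xf4 yf3 zf47) (kf xf5 yf23 zf18) (kf xf4 yf15 zf30) (kf xf5 yf23 zf10) (kf xf5 yf23 zf11) (kf xf4 yf4 zf2) (kf xf4 yf15 zf27)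 (kf xf4 yf4 zf4) (kf xf5 yf23 zf17) (kf xf4 yf19 zf33) (kf xf4 yf4 zf6) (kf xf6 yf8 zf48) (kf xf6 yf8 zf49) (kf xf5 yf23 zf21) (kf xf5 yf23 zf13) (kf xf4 yf4 zf11) (kf xf5 yf23 zf14) (kf xf4 yf4 zf20) (kf xf6 yf9 zf3) (kf xf5 yf23 zf23) (kf xf5 yf4 zf45) (kf xf4 yf4 zf22) (kf xf6 yf9 zf6) (kf xf5 yf4 zf48) (kf xf6 yf9 zf7) (kf xf5 yf23 zf28)) (@D3.rec (fun _ => Pt) (kf xf4 yf4 zf27) (kf xf5 yf23 zf32) (kf xf5 yf5 zf2) (kf xf5 yf5 zf3) (kf xf5 yf23 zf34) (kf xf5 yf5 zf5) (kf xf6 yf9 zf12) (kf xf5 yf23 zf37) (kf xf5 yf5 zf8) (kf xf5 yf5 zf9) (kf xf4 yf4 zf35) (kf xf4 yf4 zf37) (kf xf6 yf9 zf19) (kf xf6 yf9 zf20) (kf xf5 yf23 zf43) (kf xf5 yf23 zf44) (kf xf5 yf5 zf16) (kf xf5 yf5 zf17) (kf xf4 yf4 zf43) (kf xf6 yf9 zf26) (kf xf4 yf4 zf46) (kf xf6 yf9 zf29)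 (kf xf5 yf23 zf47) (kf xf5 yf5 zf23) (kf xf4 yf4 zf48) (kf xf6 yf9 zf35) (kf xf5 yf5 zf26) (kf xf6 yf9 zf0) (kf xf5 yf24 zf2) (kf xf5 yf5 zf29) (kf xf5 yf5 zf30) (kf xf4 yf5 zf2) (kf xf6 yf9 zf38) (kf xf4 yf5 zf4) (kf xf6 yf9 zf42) (kf xf5 yf24 zf9) (kf xf5 yf5 zf36) (kf xf4 yf5 zf6) (kf xf6 yf9 zf49) (kf xf5 yf5 zf39) (kf xf5 yf24 zf13) (kf xf5 yf5 zf41) (kf xf4 yf5 zf9) (kf xf6 yf10 zf3) (kf xf6 yf10 zf4) (kf xf6 yf10 zf7) (kf xf5 yf24 zf19) (kf xf5 yf5 zf47) (kf xf5 yf5 zf48) (kf xf4 yf5 zf13) (kf xf4 yf5 zf15)) (@D3.rec (fun _ => Pt) (kf xf6 yf9 zf25) (kf xf6 yf10 zf14) (kf xf5 yf24 zf26) (kf xf5 yf24 zf27) (kf xf5 yf6 zf4) (kf xf5 yf6 zf5) (kf xf5 yf6 zf6) (kf xf4 yf6 zf14) (kf xf4 yf5 zf23) (kf xf5 yf24 zf30) (kf xf4 yf6 zf17) (kf xf4 yf5 zf26) (kf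 xf6 yf10 zf28) (kf xf6 yf10 zf29) (kf xf5 yf24 zf36) (kf xf4 yf6 zf22) (kf xf4 yf6 zf23) (kf xf4 yf5 zf30) (kf xf4 yf5 zf32) (kf xf6 yf10 zf36) (kf xf6 yf10 zf37) (kf xf5 yf24 zf43) (kf xf5 yf24 zf44) (kf xf4 yf6 zf30) (kf xf4 yf6 zf31) (kf xf4 yf5 zf37) (kf xf6 yf10 zf43) (kf xf5 yf24 zf49) (kf xf4 yf6 zf35) (kf xf4 yf5 zf39) (kf xf6 yf10 zf50) (kf xf6 yf11 zf0) (kf xf6 yf11 zf2) (kf xf5 yf25 zf4) (kf xf4 yf6 zf41) (kf xf4 yf6 zf42) (kf xf4 yf5 zf43) (kf xf5 yf25 zf8) (kf xf6 yf11 zf11) (kf xf5 yf25 zf10) (kf xf4 yf6 zf47) (kf xf4 yf6 zf48) (kf xf4 yf5 zf48) (kf xf4 yf5 zf49) (kf xf6 yf11 zf21) (kf xf6 yf11 zf20) (kf xf4 yf5 zf50) (kf xf6 yf11 zf23) (kf xf6 yf11 zf24) (kf xf5 yf25 zf20) (kf xf5 yf25 zf21)) (@D3.rec (fun _ => Pt) (kf xf4 yf7 zf7) (kf xf4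 yf7 zf8) (kf xf4 yf6 zf5) (kf xf4 yf6 zf6) (kf xf6 yf11 zf32) (kf xf6 yf11 zf33) (kf xf6 yf11 zf34) (kf xf5 yf25 zf29) (kf xf5 yf25 zf30) (kf xf4 yf7 zf16) (kf xf5 yf22 zf41) (kf xf5 yf7 zf11) (kf xf5 yf7 zf12) (kf xf5 yf22 zf17) (kf xf6 yf10 zf22) (kf xf5 yf25 zf32) (kf xf6 yf11 zf49) (kf xf5 yf25 zf34) (kf xf6 yf10 zf26) (kf xf6 yf10 zf27) (kf xf4 yf6 zf19) (kf xf4 yf6 zf20) (kf xf6 yf12 zf5) (kf xf6 yf12 zf6) (kf xf5 yf25 zf43) (kf xf5 yf25 zf44) (kf xf6 yf10 zf34) (kf xf6 yf10 zf35) (kf xf4 yf6 zf26) (kf xf4 yf6 zf27) (kf xf6 yf12 zf14) (kf xf6 yf12 zf15) (kf xf6 yf12 zf16) (kf xf5 yf26 zf1) (kf xf5 yf26 zf2) (kf xf6 yf10 zf40) (kf xf5 yf26 zf4) (kf xf6 yf10 zf42) (kf xf4 yf6 zf33) (kf xf6 yf12 zf29) (kf xf5 yf26 zf9) (kf xf6 yf12 zf32) (kf xf5 yf26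 zf11) (kf xf6 yf10 zf48) (kf xf6 yf10 zf49) (kf xf4 yf6 zf37) (kf xf4 yf6 zf38) (kf xf6 yf12 zf41) (kf xf4 yf6 zf39) (kf xf6 yf12 zf42) (kf xf6 yf12 zf43)) (@D3.rec (fun _ => Pt) (kf xf5 yf26 zf21) (kf xf5 yf26 zf22) (kf xf6 yf11 zf7) (kf xf6 yf11 zf8) (kf xf6 yf12 zf50) (kf xf5 yf26 zf26) (kf xf4 yf6 zf45) (kf xf6 yf13 zf4) (kf xf6 yf13 zf5) (kf xf5 yf26 zf30) (kf xf5 yf26 zf31) (kf xf6 yf11 zf16) (kf xf6 yf11 zf17) (kf xf6 yf11 zf18) (kf xf6 yf13 zf16) (kf xf4 yf7 zf1) (kf xf4 yf7 zf0) (kf xf6 yf13 zf19) (kf xf4 yf7 zf3) (kf xf4 yf7 zf4) (kf xf6 yf13 zf21) (kf xf6 yf13 zf22) (kf xf6 yf13 zf23) (kf xf5 yf26 zf45) (kf xf5 yf26 zf46) (kf xf6 yf11 zf30) (kf xf5 yf8 zf26) (kf xf4 yf7 zf11) (kf xf4 yf7 zf12) (kf xf4 yf7 zf13) (kf xf6 yf13 zf32) (kf xf6 yf13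 zf33) (kf xf6 yf13 zf34) (kf xf6 yf13 zf36) (kf xf6 yf0 zf5) (kf xf6 yf0 zf6) (kf xf6 yf0 zf7) (kf xf6 yf13 zf45) (kf xf4 yf7 zf17) (kf xf6 yf13 zf48) (kf xf6 yf0 zf27) (kf xf5 yf8 zf41) (kf xf4 yf7 zf19) (kf xf6 yf14 zf3) (kf xf5 yf8 zf44) (kf xf6 yf0 zf32) (kf xf5 yf8 zf46) (kf xf4 yf7 zf22) (kf xf6 yf14 zf9) (kf xf6 yf14 zf10) (kf xf6 yf14 zf12)) (@D3.rec (fun _ => Pt) (kf xf6 yf0 zf38) (kf xf5 yf9 zf1) (kf xf5 yf9 zf2) (kf xf4 yf7 zf26) (kf xf4 yf7 zf28) (kf xf6 yf9 zf24) (kf xf6 yf10 zf18) (kf xf6 yf0 zf45) (kf xf6 yf0 zf46) (kf xf5 yf9 zf9) (kf xf5 yf9 zf10) (kf xf4 yf7 zf33) (kf xf6 yf1 zf0) (kf xf5 yf9 zf13) (kf xf4 yf7 zf35) (kf xf6 yf14 zf29) (kf xf6 yf14 zf30) (kf xf6 yf1 zf6) (kf xf5 yf9 zf18) (kf xf5 yf9 zf19) (kf xf4 yf7 zf39) (kf xf6 yf1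 zf10) (kf xf6 yf14 zf39) (kf xf6 yf1 zf12) (kf xf5 yf9 zf24) (kf xf5 yf9 zf25) (kf xf4 yf7 zf44) (kf xf4 yf7 zf45) (kf xf6 yf14 zf49) (kf xf6 yf14 zf48) (kf xf4 yf7 zf46) (kf xf6 yf15 zf0) (kf xf6 yf15 zf1) (kf xf6 yf1 zf22) (kf xf6 yf1 zf23) (kf xf5 yf9 zf35) (kf xf5 yf9 zf36) (kf xf4 yf8 zf1) (kf xf4 yf8 zf2) (kf xf6 yf15 zf9) (kf xf6 yf15 zf10) (kf xf6 yf15 zf11) (kf xf6 yf1 zf31) (kf xf6 yf1 zf32) (kf xf5 yf9 zf44) (kf xf4 yf8 zf7) (kf xf6 yf2 zf10) (kf xf4 yf9 zf17) (kf xf4 yf8 zf9) (kf xf6 yf15 zf26) (kf xf6 yf15 zf27)) (@D3.rec (fun _ => Pt) (kf xf6 yf2 zf16) (kf xf4 yf9 zf22) (kf xf4 yf9 zf23) (kf xf4 yf8 zf13) (kf xf6 yf2 zf20) (kf xf6 yf15 zf36) (kf xf6 yf2 zf22) (kf xf4 yf9 zf28) (kf xf4 yf9 zf29) (kf xf4 yf8 zf18) (kf xf4 yf8 zf19) (kf xf6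 yf15 zf45) (kf xf4 yf8 zf20) (kf xf6 yf15 zf46) (kf xf6 yf15 zf47) (kf xf6 yf2 zf32) (kf xf6 yf2 zf33) (kf xf4 yf9 zf38) (kf xf4 yf9 zf39) (kf xf4 yf8 zf26) (kf xf4 yf8 zf27) (kf xf6 yf16 zf4) (kf xf6 yf16 zf5) (kf xf6 yf16 zf6) (kf xf6 yf2 zf41) (kf xf6 yf2 zf42) (kf xf4 yf9 zf47) (kf xf6 yf2 zf44) (kf xf4 yf9 zf49) (kf xf6 yf2 zf48) (kf xf6 yf16 zf17) (kf xf6 yf2 zf50) (kf xf4 yf10 zf2) (kf xf4 yf10 zf3) (kf xf4 yf8 zf36) (kf xf4 yf8 zf37) (kf xf6 yf16 zf24) (kf xf6 yf16 zf25) (kf xf6 yf3 zf8) (kf xf6 yf3 zf9) (kf xf4 yf10 zf10) (kf xf4 yf10 zf11) (kf xf6 yf16 zf32) (kf xf6 yf3 zf13) (kf xf4 yf8 zf43) (kf xf6 yf16 zf37) (kf xf6 yf16 zf38) (kf xf6 yf3 zf17) (kf xf6 yf3 zf18) (kf xf4 yf10 zf19) (kf xf4 yf10 zf20)) (@D3.rec (fun _ => Pt) (kf xf4 yf10 zf21)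 (kf xf6 yf16 zf49) (kf xf4 yf8 zf50) (kf xf4 yf8 zf49) (kf xf6 yf17 zf1) (kf xf4 yf9 zf1) (kf xf4 yf9 zf2) (kf xf6 yf17 zf3) (kf xf6 yf17 zf4) (kf xf6 yf17 zf5) (kf xf6 yf3 zf32) (kf xf6 yf3 zf33) (kf xf4 yf10 zf33) (kf xf6 yf15 zf8) (kf xf4 yf9 zf9) (kf xf4 yf9 zf10) (kf xf4 yf9 zf11) (kf xf6 yf17 zf14) (kf xf6 yf17 zf15) (kf xf6 yf17 zf16) (kf xf6 yf17 zf18) (kf xf6 yf3 zf43) (kf xf6 yf3 zf44) (kf xf6 yf3 zf45) (kf xf6 yf4 zf26) (kf xf6 yf15 zf20) (kf xf6 yf17 zf29) (kf xf6 yf4 zf31) (kf xf6 yf15 zf24) (kf xf6 yf15 zf25) (kf xf4 yf9 zf19) (kf xf4 yf9 zf20) (kf xf6 yf17 zf36) (kf xf6 yf17 zf37) (kf xf6 yf4 zf40) (kf xf6 yf15 zf32) (kf xf6 yf15 zf33) (kf xf6 yf17 zf41) (kf xf6 yf4 zf44) (kf xf4 yf9 zf26) (kf xf6 yf17 zf46) (kf xf6 yf17 zf47) (kf xf6 yf4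 zf48) (kf xf6 yf4 zf49) (kf xf6 yf15 zf41) (kf xf6 yf15 zf42) (kf xf6 yf15 zf43) (kf xf6 yf5 zf28) (kf xf4 yf9 zf32) (kf xf4 yf9 zf34) (kf xf4 yf9 zf35)) (@D3.rec (fun _ => Pt) (kf xf6 yf18 zf9) (kf xf6 yf18 zf10) (kf xf6 yf18 zf11) (kf xf6 yf5 zf12) (kf xf6 yf5 zf13) (kf xf6 yf16 zf2) (kf xf5 yf12 zf6) (kf xf4 yf9 zf42) (kf xf4 yf9 zf43) (kf xf4 yf9 zf44) (kf xf6 yf18 zf19) (kf xf6 yf18 zf20) (kf xf6 yf18 zf21) (kf xf6 yf18 zf23) (kf xf6 yf5 zf23) (kf xf6 yf5 zf24) (kf xf6 yf5 zf25) (kf xf6 yf5 zf26) (kf xf6 yf18 zf34) (kf xf6 yf16 zf14) (kf xf6 yf18 zf36) (kf xf6 yf5 zf33) (kf xf4 yf10 zf0) (kf xf6 yf18 zf41) (kf xf6 yf18 zf42) (kf xf6 yf5 zf37) (kf xf6 yf5 zf38) (kf xf6 yf16 zf22) (kf xf6 yf16 zf23) (kf xf4 yf10 zf6) (kf xf4 yf10 zf7) (kf xf6 yf18 zf50)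 (kf xf6 yf19 zf0) (kf xf6 yf19 zf1) (kf xf6 yf5 zf50) (kf xf6 yf6 zf0) (kf xf6 yf16 zf31) (kf xf4 yf10 zf12) (kf xf6 yf19 zf9) (kf xf6 yf19 zf10) (kf xf6 yf6 zf5) (kf xf6 yf6 zf6) (kf xf4 yf10 zf15) (kf xf4 yf10 zf16) (kf xf6 yf19 zf18) (kf xf6 yf19 zf19) (kf xf6 yf19 zf20) (kf xf6 yf6 zf12) (kf xf6 yf19 zf29) (kf xf6 yf6 zf14) (kf xf6 yf16 zf45)) (@D3.rec (fun _ => Pt) (kf xf6 yf16 zf46) (kf xf6 yf19 zf34) (kf xf6 yf16 zf48) (kf xf4 yf10 zf22) (kf xf6 yf19 zf37) (kf xf6 yf17 zf0) (kf xf4 yf10 zf25) (kf xf5 yf13 zf7) (kf xf4 yf10 zf28) (kf xf4 yf10 zf29) (kf xf4 yf10 zf30) (kf xf6 yf19 zf41) (kf xf6 yf19 zf42) (kf xf6 yf19 zf43) (kf xf6 yf19 zf45) (kf xf6 yf6 zf33) (kf xf6 yf6 zf34) (kf xf6 yf6 zf35) (kf xf5 yf13 zf18) (kf xf4 yf10 zf38) (kf xf4 yf10 zf39)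 (kf xf4 yf10 zf40) (kf xf4 yf14 zf32) (kf xf4 yf10 zf41) (kf xf6 yf20 zf5) (kf xf6 yf20 zf7) (kf xf6 yf20 zf8) (kf xf6 yf20 zf10) (kf xf6 yf20 zf12) (kf xf6 yf6 zf47) (kf xf6 yf6 zf48) (kf xf6 yf6 zf49) (kf xf4 yf10 zf46) (kf xf4 yf10 zf47) (kf xf6 yf20 zf24) (kf xf6 yf20 zf25) (kf xf6 yf7 zf7) (kf xf4 yf10 zf50) (kf xf5 yf13 zf38) (kf xf4 yf11 zf2) (kf xf4 yf11 zf3) (kf xf6 yf20 zf30) (kf xf6 yf20 zf31) (kf xf6 yf7 zf14) (kf xf5 yf13 zf44) (kf xf4 yf11 zf9) (kf xf4 yf11 zf10) (kf xf4 yf11 zf11) (kf xf5 yf13 zf48) (kf xf4 yf11 zf12) (kf xf6 yf20 zf38)) (@D3.rec (fun _ => Pt) (kf xf6 yf20 zf40) (kf xf6 yf20 zf41) (kf xf6 yf20 zf43) (kf xf6 yf20 zf45) (kf xf6 yf7 zf26) (kf xf6 yf7 zf27) (kf xf6 yf7 zf28) (kf xf4 yf11 zf16) (kf xf6 yf21 zf5) (kf xf6 yf21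 zf6) (kf xf6 yf7 zf32) (kf xf4 yf11 zf19) (kf xf5 yf14 zf12) (kf xf4 yf11 zf22) (kf xf4 yf11 zf23) (kf xf6 yf21 zf11) (kf xf6 yf21 zf12) (kf xf6 yf7 zf39) (kf xf4 yf18 zf44) (kf xf4 yf11 zf26) (kf xf4 yf11 zf27) (kf xf6 yf21 zf20) (kf xf6 yf21 zf21) (kf xf6 yf21 zf22) (kf xf6 yf7 zf46) (kf xf6 yf7 zf47) (kf xf5 yf14 zf26) (kf xf4 yf11 zf32) (kf xf4 yf11 zf33) (kf xf6 yf21 zf30) (kf xf6 yf21 zf31) (kf xf6 yf8 zf2) (kf xf5 yf14 zf32) (kf xf4 yf11 zf39) (kf xf4 yf11 zf40) (kf xf4 yf11 zf41) (kf xf4 yf15 zf4) (kf xf4 yf11 zf42) (kf xf6 yf21 zf38) (kf xf6 yf21 zf40) (kf xf6 yf21 zf41) (kf xf6 yf21 zf43) (kf xf6 yf21 zf45) (kf xf6 yf8 zf14) (kf xf6 yf8 zf15) (kf xf6 yf8 zf16) (kf xf5 yf14 zf46) (kf xf5 yf14 zf47) (kf xf4 yf12 zf1) (kf xf4 yf12 zf4) (kf xf4 yf12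 zf2)) (@D3.rec (fun _ => Pt) (kf xf4 yf12 zf3) (kf xf4 yf12 zf5) (kf xf6 yf21 zf44) (kf xf6 yf20 zf9) (kf xf6 yf22 zf4) (kf xf6 yf21 zf39) (kf xf6 yf20 zf6) (kf xf6 yf8 zf33) (kf xf6 yf8 zf34) (kf xf6 yf8 zf35) (kf xf5 yf15 zf10) (kf xf5 yf15 zf11) (kf xf4 yf12 zf12) (kf xf5 yf22 zf2) (kf xf5 yf15 zf14) (kf xf5 yf15 zf15) (kf xf5 yf15 zf16) (kf xf5 yf15 zf17) (kf xf5 yf22 zf1) (kf xf5 yf15 zf19) (kf xf5 yf15 zf20) (kf xf5 yf15 zf21) (kf xf5 yf15 zf22) (kf xf5 yf15 zf23) (kf xf6 yf22 zf27) (kf xf4 yf12 zf26) (kf xf4 yf12 zf25) (kf xf6 yf22 zf30) (kf xf4 yf12 zf29) (kf xf5 yf22 zf8) (kf xf6 yf22 zf31) (kf xf6 yf22 zf32) (kf xf5 yf15 zf32) (kf xf5 yf15 zf33) (kf xf5 yf15 zf34) (kf xf4 yf12 zf36) (kf xf4 yf12 zf37) (kf xf4 yf12 zf38) (kf xf6 yf22 zf40) (kf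 xf6 yf22 zf41) (kf xf6 yf22 zf42) (kf xf6 yf22 zf44) (kf xf5 yf15 zf42) (kf xf5 yf15 zf43) (kf xf5 yf15 zf44) (kf xf5 yf22 zf38) (kf xf5 yf15 zf46) (kf xf5 yf15 zf47) (kf xf4 yf13 zf42) (kf xf4 yf13 zf43) (kf xf4 yf12 zf50)) (@D3.rec (fun _ => Pt) (kf xf5 yf22 zf30) (kf xf6 yf23 zf6) (kf xf6 yf23 zf7) (kf xf5 yf16 zf3) (kf xf5 yf16 zf4) (kf xf4 yf14 zf0) (kf xf5 yf16 zf6) (kf xf5 yf16 zf7) (kf xf4 yf13 zf8) (kf xf5 yf22 zf27) (kf xf5 yf26 zf23) (kf xf6 yf23 zf18) (kf xf5 yf16 zf12) (kf xf6 yf23 zf26) (kf xf5 yf16 zf14) (kf xf4 yf14 zf9) (kf xf4 yf14 zf10) (kf xf6 yf23 zf31) (kf xf4 yf14 zf12) (kf xf4 yf13 zf14) (kf xf6 yf23 zf34) (kf xf4 yf14 zf15) (kf xf4 yf13 zf17) (kf xf4 yf13 zf20) (kf xf4 yf13 zf21) (kf xf4 yf13 zf22) (kf xf6 yf23 zf37) (kf xf6 yf23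 zf38) (kf xf6 yf23 zf39) (kf xf6 yf23 zf41) (kf xf5 yf16 zf30) (kf xf5 yf16 zf31) (kf xf5 yf16 zf32) (kf xf5 yf22 zf22) (kf xf4 yf13 zf30) (kf xf4 yf13 zf31) (kf xf4 yf13 zf32) (kf xf6 yf17 zf17) (kf xf4 yf13 zf33) (kf xf6 yf24 zf0) (kf xf6 yf24 zf1) (kf xf6 yf24 zf2) (kf xf6 yf24 zf4) (kf xf6 yf24 zf6) (kf xf5 yf16 zf44) (kf xf5 yf16 zf45) (kf xf5 yf16 zf46) (kf xf4 yf13 zf39) (kf xf5 yf22 zf35) (kf xf6 yf24 zf16) (kf xf6 yf24 zf17)) (@D3.rec (fun _ => Pt) (kf xf5 yf17 zf0) (kf xf5 yf17 zf1) (kf xf6 yf23 zf5) (kf xf4 yf13 zf46) (kf xf4 yf13 zf47) (kf xf4 yf13 zf48) (kf xf6 yf24 zf25) (kf xf6 yf24 zf26) (kf xf6 yf24 zf27) (kf xf6 yf24 zf29) (kf xf5 yf17 zf10) (kf xf5 yf17 zf11) (kf xf5 yf17 zf12) (kf xf4 yf14 zf3) (kf xf4 yf14 zf4) (kf xf4 yf14 zf5) (kf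 xf6 yf24 zf38) (kf xf6 yf24 zf39) (kf xf6 yf24 zf40) (kf xf6 yf24 zf49) (kf xf6 yf24 zf42) (kf xf5 yf17 zf21) (kf xf6 yf25 zf4) (kf xf5 yf17 zf23) (kf xf4 yf14 zf7) (kf xf6 yf25 zf8) (kf xf5 yf17 zf26) (kf xf6 yf25 zf10) (kf xf6 yf23 zf30) (kf xf4 yf14 zf11) (kf xf6 yf25 zf13) (kf xf6 yf25 zf12) (kf xf4 yf14 zf14) (kf xf6 yf23 zf35) (kf xf6 yf23 zf36) (kf xf5 yf17 zf35) (kf xf4 yf14 zf21) (kf xf4 yf14 zf22) (kf xf4 yf14 zf23) (kf xf6 yf19 zf44) (kf xf4 yf14 zf24) (kf xf6 yf25 zf18) (kf xf6 yf25 zf19) (kf xf6 yf25 zf20) (kf xf6 yf25 zf22) (kf xf6 yf25 zf24) (kf xf5 yf17 zf46) (kf xf5 yf17 zf47) (kf xf5 yf17 zf48) (kf xf5 yf17 zf49) (kf xf4 yf14 zf35)) (@D3.rec (fun _ => Pt) (kf xf4 yf14 zf36) (kf xf4 yf14 zf37) (kf xf6 yf20 zf11) (kf xf4 yf14 zf38) (kf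 xf4 yf15 zf10) (kf xf6 yf25 zf34) (kf xf6 yf25 zf27) (kf xf5 yf18 zf7) (kf xf5 yf18 zf8) (kf xf4 yf14 zf46) (kf xf4 yf14 zf48) (kf xf6 yf21 zf13) (kf xf4 yf14 zf49) (kf xf6 yf25 zf38) (kf xf4 yf15 zf14) (kf xf6 yf25 zf39) (kf xf6 yf25 zf41) (kf xf6 yf25 zf35) (kf xf5 yf18 zf18) (kf xf5 yf18 zf19) (kf xf5 yf18 zf20) (kf xf4 yf15 zf6) (kf xf4 yf15 zf8) (kf xf6 yf21 zf42) (kf xf4 yf15 zf9) (kf xf6 yf25 zf43) (kf xf6 yf25 zf25) (kf xf5 yf18 zf27) (kf xf5 yf18 zf28) (kf xf5 yf18 zf29) (kf xf5 yf18 zf30) (kf xf5 yf18 zf31) (kf xf5 yf18 zf32) (kf xf5 yf18 zf33) (kf xf5 yf18 zf34) (kf xf4 yf15 zf48) (kf xf4 yf15 zf50) (kf xf5 yf18 zf37) (kf xf4 yf16 zf4) (kf xf6 yf26 zf5) (kf xf5 yf18 zf40) (kf xf4 yf16 zf35) (kf xf4 yf16 zf27) (kf xf5 yf18 zf43) (kf xf4 yf16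 zf31) (kf xf5 yf18 zf45) (kf xf5 yf18 zf46) (kf xf4 yf16 zf36) (kf xf4 yf18 zf7) (kf xf5 yf18 zf49) (kf xf4 yf16 zf47)) (@D3.rec (fun _ => Pt) (kf xf6 yf26 zf9) (kf xf4 yf16 zf22) (kf xf6 yf26 zf11) (kf xf5 yf19 zf3) (kf xf4 yf16 zf26) (kf xf4 yf16 zf33) (kf xf5 yf19 zf6) (kf xf4 yf17 zf41) (kf xf4 yf17 zf20) (kf xf6 yf26 zf12) (kf xf5 yf19 zf10) (kf xf4 yf17 zf50) (kf xf5 yf19 zf12) (kf xf4 yf17 zf25) (kf xf5 yf19 zf14) (kf xf4 yf16 zf40) (kf xf4 yf18 zf5) (kf xf6 yf26 zf23) (kf xf5 yf19 zf18) (kf xf5 yf19 zf19) (kf xf4 yf18 zf1) (kf xf5 yf19 zf21) (kf xf6 yf20 zf35) (kf xf4 yf17 zf27) (kf xf6 yf26 zf32) (kf xf4 yf16 zf48) (kf xf6 yf26 zf10) (kf xf5 yf19 zf27) (kf xf5 yf19 zf28) (kf xf5 yf19 zf29) (kf xf5 yf19 zf30) (kf xf5 yf19 zf31) (kf xf5 yf19 zf32)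 (kf xf6 yf26 zf38) (kf xf4 yf17 zf14) (kf xf5 yf19 zf35) (kf xf4 yf17 zf44) (kf xf4 yf17 zf35) (kf xf6 yf12 zf27) (kf xf5 yf19 zf39) (kf xf5 yf19 zf40) (kf xf6 yf17 zf28) (kf xf5 yf19 zf42) (kf xf6 yf13 zf12) (kf xf5 yf19 zf44) (kf xf5 yf19 zf45) (kf xf6 yf26 zf49) (kf xf6 yf26 zf50) (kf xf4 yf17 zf31) (kf xf4 yf18 zf10) (kf xf7 yf0 zf2)) (@D3.rec (fun _ => Pt) (kf xf5 yf20 zf0) (kf xf4 yf17 zf34) (kf xf4 yf17 zf42) (kf xf4 yf17 zf38) (kf xf6 yf26 zf16) (kf xf7 yf0 zf7) (kf xf5 yf20 zf6) (kf xf5 yf20 zf7) (kf xf7 yf0 zf3) (kf xf5 yf20 zf9) (kf xf4 yf18 zf14) (kf xf4 yf17 zf47) (kf xf6 yf26 zf21) (kf xf7 yf0 zf15) (kf xf5 yf20 zf14) (kf xf6 yf19 zf8) (kf xf4 yf18 zf2) (kf xf6 yf26 zf25) (kf xf6 yf26 zf24) (kf xf7 yf0 zf19) (kf xf7 yf0 zf23) (kf xf5 yf20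 zf21) (kf xf7 yf0 zf25) (kf xf4 yf18 zf6) (kf xf7 yf0 zf27) (kf xf4 yf18 zf8) (kf xf7 yf0 zf28) (kf xf7 yf0 zf1) (kf xf4 yf18 zf11) (kf xf7 yf0 zf13) (kf xf7 yf0 zf31) (kf xf5 yf20 zf31) (kf xf4 yf18 zf26) (kf xf6 yf20 zf23) (kf xf4 yf18 zf20) (kf xf4 yf18 zf21) (kf xf7 yf0 zf36) (kf xf7 yf0 zf37) (kf xf7 yf0 zf38) (kf xf5 yf20 zf39) (kf xf5 yf20 zf40) (kf xf4 yf18 zf27) (kf xf6 yf4 zf4) (kf xf6 yf4 zf13) (kf xf5 yf20 zf44) (kf xf6 yf7 zf0) (kf xf5 yf20 zf46) (kf xf4 yf18 zf35) (kf xf6 yf7 zf1) (kf xf7 yf0 zf47) (kf xf5 yf20 zf50)) (@D3.rec (fun _ => Pt) (kf xf4 yf18 zf38) (kf xf6 yf21 zf4) (kf xf4 yf18 zf40) (kf xf4 yf18 zf41) (kf xf7 yf1 zf0) (kf xf7 yf1 zf1) (kf xf6 yf21 zf17) (kf xf6 yf21 zf18) (kf xf4 yf18 zf47) (kf xf4 yf18 zf48) (kf xf7 yf1 zf6)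 (kf xf4 yf19 zf30) (kf xf4 yf19 zf31) (kf xf7 yf1 zf9) (kf xf7 yf1 zf10) (kf xf4 yf19 zf5) (kf xf5 yf21 zf16) (kf xf4 yf19 zf38) (kf xf5 yf21 zf18) (kf xf5 yf21 zf19) (kf xf4 yf19 zf39) (kf xf7 yf1 zf15) (kf xf4 yf19 zf41) (kf xf7 yf1 zf17) (kf xf6 yf9 zf16) (kf xf4 yf19 zf16) (kf xf7 yf1 zf19) (kf xf4 yf19 zf18) (kf xf7 yf1 zf20) (kf xf4 yf19 zf24) (kf xf4 yf19 zf21) (kf xf4 yf19 zf23) (kf xf7 yf1 zf23) (kf xf5 yf23 zf9) (kf xf5 yf23 zf2) (kf xf4 yf19 zf35) (kf xf6 yf8 zf47) (kf xf7 yf1 zf26) (kf xf7 yf1 zf8) (kf xf7 yf1 zf25) (kf xf4 yf19 zf34) (kf xf4 yf19 zf40) (kf xf5 yf21 zf42) (kf xf5 yf21 zf43) (kf xf5 yf21 zf44) (kf xf4 yf19 zf47) (kf xf5 yf21 zf46) (kf xf5 yf21 zf47) (kf xf5 yf21 zf48) (kf xf4 yf20 zf1) (kf xf5 yf21 zf50)) (@D3.rec (fun _ =>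 Pt) (kf xf5 yf22 zf0) (kf xf5 yf15 zf18) (kf xf5 yf15 zf13) (kf xf4 yf20 zf47) (kf xf7 yf1 zf31) (kf xf5 yf22 zf5) (kf xf5 yf22 zf6) (kf xf4 yf21 zf1) (kf xf5 yf15 zf29) (kf xf4 yf21 zf5) (kf xf7 yf1 zf36) (kf xf4 yf21 zf8) (kf xf7 yf1 zf37) (kf xf7 yf1 zf38) (kf xf5 yf22 zf14) (kf xf4 yf21 zf35) (kf xf4 yf21 zf12) (kf xf5 yf7 zf13) (kf xf5 yf22 zf18) (kf xf5 yf22 zf19) (kf xf4 yf21 zf42) (kf xf4 yf21 zf43) (kf xf5 yf16 zf33) (kf xf4 yf21 zf21) (kf xf7 yf1 zf49) (kf xf7 yf1 zf50) (kf xf5 yf22 zf26) (kf xf5 yf16 zf9) (kf xf4 yf21 zf25) (kf xf5 yf22 zf29) (kf xf5 yf16 zf0) (kf xf4 yf21 zf30) (kf xf4 yf21 zf31) (kf xf7 yf2 zf10) (kf xf7 yf2 zf9) (kf xf5 yf16 zf48) (kf xf5 yf22 zf36) (kf xf5 yf22 zf37) (kf xf5 yf15 zf45) (kf xf7 yf1 zf43) (kf xf4 yf21 zf39)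 (kf xf5 yf7 zf10) (kf xf7 yf2 zf18) (kf xf7 yf2 zf19) (kf xf5 yf22 zf44) (kf xf5 yf22 zf45) (kf xf7 yf1 zf46) (kf xf7 yf2 zf28) (kf xf4 yf21 zf44) (kf xf4 yf21 zf45) (kf xf5 yf4 zf22)) (@D3.rec (fun _ => Pt) (kf xf4 yf22 zf8) (kf xf4 yf22 zf9) (kf xf5 yf21 zf34) (kf xf7 yf2 zf30) (kf xf4 yf21 zf49) (kf xf5 yf4 zf15) (kf xf7 yf2 zf31) (kf xf4 yf22 zf4) (kf xf7 yf2 zf34) (kf xf5 yf21 zf33) (kf xf5 yf4 zf28) (kf xf5 yf4 zf29) (kf xf4 yf22 zf7) (kf xf5 yf4 zf39) (kf xf5 yf4 zf41) (kf xf4 yf22 zf10) (kf xf4 yf22 zf12) (kf xf5 yf4 zf33) (kf xf5 yf4 zf26) (kf xf4 yf22 zf14) (kf xf7 yf2 zf36) (kf xf5 yf4 zf38) (kf xf4 yf22 zf21) (kf xf5 yf4 zf44) (kf xf5 yf23 zf24) (kf xf4 yf22 zf23) (kf xf5 yf23 zf26) (kf xf7 yf2 zf48) (kf xf5 yf4 zf50) (kf xf5 yf23 zf29) (kf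 xf5 yf23 zf30) (kf xf4 yf22 zf28) (kf xf5 yf5 zf1) (kf xf5 yf23 zf33) (kf xf5 yf5 zf4) (kf xf5 yf23 zf35) (kf xf7 yf3 zf6) (kf xf5 yf5 zf7) (kf xf5 yf23 zf38) (kf xf5 yf23 zf39) (kf xf4 yf22 zf37) (kf xf7 yf3 zf10) (kf xf7 yf3 zf11) (kf xf5 yf5 zf14) (kf xf5 yf5 zf15) (kf xf4 yf22 zf42) (kf xf7 yf3 zf14) (kf xf5 yf5 zf22) (kf xf5 yf23 zf48) (kf xf4 yf22 zf44) (kf xf7 yf3 zf21)) (@D3.rec (fun _ => Pt) (kf xf5 yf24 zf0) (kf xf7 yf3 zf22) (kf xf5 yf5 zf28) (kf xf5 yf24 zf3) (kf xf5 yf24 zf4) (kf xf4 yf22 zf49) (kf xf7 yf3 zf29) (kf xf4 yf23 zf0) (kf xf7 yf3 zf33) (kf xf5 yf5 zf35) (kf xf5 yf24 zf10) (kf xf4 yf23 zf2) (kf xf7 yf3 zf38) (kf xf5 yf5 zf40) (kf xf5 yf24 zf14) (kf xf4 yf23 zf5) (kf xf7 yf3 zf44) (kf xf7 yf3 zf45) (kf xf7 yf3 zf48) (kf xf5 yf5 zf46)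 (kf xf5 yf24 zf20) (kf xf5 yf24 zf21) (kf xf4 yf23 zf9) (kf xf4 yf23 zf11) (kf xf7 yf3 zf0) (kf xf7 yf3 zf25) (kf xf5 yf6 zf2) (kf xf5 yf6 zf3) (kf xf5 yf24 zf28) (kf xf5 yf24 zf29) (kf xf5 yf6 zf9) (kf xf4 yf24 zf3) (kf xf4 yf23 zf17) (kf xf7 yf4 zf11) (kf xf7 yf4 zf12) (kf xf7 yf4 zf14) (kf xf5 yf6 zf14) (kf xf4 yf24 zf9) (kf xf4 yf24 zf10) (kf xf4 yf23 zf21) (kf xf4 yf23 zf23) (kf xf7 yf4 zf21) (kf xf7 yf4 zf22) (kf xf5 yf6 zf21) (kf xf5 yf6 zf22) (kf xf4 yf24 zf17) (kf xf4 yf24 zf18) (kf xf4 yf23 zf28) (kf xf7 yf4 zf31) (kf xf5 yf6 zf27) (kf xf4 yf24 zf22)) (@D3.rec (fun _ => Pt) (kf xf4 yf23 zf30) (kf xf7 yf4 zf39) (kf xf7 yf4 zf40) (kf xf7 yf4 zf43) (kf xf5 yf6 zf33) (kf xf4 yf24 zf28) (kf xf4 yf24 zf29) (kf xf4 yf23 zf34) (kf xf5 yf6 zf37) (kf xf7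 yf5 zf0) (kf xf5 yf6 zf39) (kf xf4 yf24 zf34) (kf xf4 yf24 zf35) (kf xf4 yf23 zf39) (kf xf4 yf23 zf40) (kf xf7 yf5 zf10) (kf xf7 yf5 zf9) (kf xf4 yf23 zf41) (kf xf7 yf5 zf13) (kf xf7 yf5 zf14) (kf xf5 yf6 zf49) (kf xf5 yf6 zf50) (kf xf4 yf24 zf45) (kf xf4 yf24 zf46) (kf xf4 yf23 zf47) (kf xf4 yf23 zf48) (kf xf7 yf5 zf22) (kf xf7 yf5 zf23) (kf xf7 yf5 zf24) (kf xf5 yf7 zf7) (kf xf5 yf7 zf8) (kf xf4 yf25 zf3) (kf xf5 yf7 zf15) (kf xf7 yf5 zf32) (kf xf5 yf7 zf17) (kf xf7 yf4 zf9) (kf xf7 yf4 zf10) (kf xf4 yf24 zf5) (kf xf4 yf24 zf6) (kf xf7 yf5 zf41) (kf xf4 yf24 zf7) (kf xf7 yf5 zf43) (kf xf7 yf5 zf44) (kf xf5 yf7 zf24) (kf xf5 yf7 zf25) (kf xf7 yf4 zf19) (kf xf7 yf4 zf20) (kf xf4 yf24 zf13) (kf xf4 yf24 zf14) (kf xf7 yf6 zf1) (kf xf7 yf6 zf2)) (@D3.rec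 (fun _ => Pt) (kf xf7 yf6 zf3) (kf xf5 yf7 zf33) (kf xf5 yf7 zf34) (kf xf7 yf4 zf28) (kf xf5 yf7 zf36) (kf xf7 yf4 zf30) (kf xf4 yf24 zf20) (kf xf7 yf6 zf16) (kf xf7 yf6 zf17) (kf xf5 yf7 zf40) (kf xf7 yf6 zf22) (kf xf5 yf7 zf42) (kf xf7 yf4 zf37) (kf xf7 yf4 zf38) (kf xf4 yf24 zf24) (kf xf4 yf24 zf25) (kf xf7 yf6 zf32) (kf xf7 yf6 zf31) (kf xf4 yf24 zf26) (kf xf7 yf6 zf35) (kf xf7 yf6 zf36) (kf xf5 yf8 zf0) (kf xf5 yf8 zf1) (kf xf5 yf16 zf10) (kf xf7 yf4 zf48) (kf xf7 yf6 zf43) (kf xf5 yf8 zf5) (kf xf4 yf24 zf32) (kf xf7 yf6 zf48) (kf xf7 yf6 zf49) (kf xf5 yf8 zf9) (kf xf5 yf8 zf10) (kf xf7 yf5 zf5) (kf xf7 yf5 zf6) (kf xf7 yf5 zf7) (kf xf7 yf7 zf9) (kf xf4 yf24 zf39) (kf xf4 yf24 zf38) (kf xf7 yf7 zf13) (kf xf7 yf7 zf11) (kf xf4 yf24 zf41) (kf xf4 yf24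 zf42) (kf xf7 yf7 zf16) (kf xf7 yf7 zf17) (kf xf7 yf7 zf18) (kf xf5 yf8 zf23) (kf xf5 yf8 zf24) (kf xf7 yf5 zf20) (kf xf5 yf26 zf48) (kf xf4 yf24 zf49) (kf xf4 yf24 zf50))
def f_f_6 : D2 → D3 → Pt := @D2.rec (fun _ => D3 → Pt) (@D3.rec (fun _ => Pt) (kf xf4 yf25 zf0) (kf xf7 yf7 zf27) (kf xf7 yf7 zf28) (kf xf7 yf7 zf29) (kf xf7 yf7 zf31) (kf xf5 yf8 zf34) (kf xf5 yf8 zf35) (kf xf5 yf8 zf36) (kf xf7 yf7 zf41) (kf xf4 yf25 zf4) (kf xf7 yf7 zf45) (kf xf6 yf0 zf11) (kf xf4 yf25 zf6) (kf xf7 yf7 zf48) (kf xf6 yf0 zf14) (kf xf6 yf0 zf15) (kf xf4 yf25 zf8) (kf xf7 yf8 zf3) (kf xf6 yf0 zf18) (kf xf7 yf7 zf40) (kf xf6 yf0 zf20) (kf xf6 yf0 zf21) (kf xf6 yf0 zf22) (kf xf4 yf25 zf13) (kf xf7 yf8 zf10) (kf xf4 yf25 zf15) (kf xf7 yf8 zf14) (kf xf5 yf8 zf40) (kf xf6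 yf0 zf28) (kf xf4 yf25 zf17) (kf xf7 yf8 zf21) (kf xf6 yf0 zf31) (kf xf5 yf8 zf45) (kf xf6 yf0 zf33) (kf xf4 yf25 zf20) (kf xf7 yf8 zf27) (kf xf7 yf8 zf28) (kf xf7 yf8 zf31) (kf xf5 yf9 zf0) (kf xf6 yf0 zf39) (kf xf6 yf0 zf40) (kf xf4 yf25 zf24) (kf xf4 yf25 zf26) (kf xf7 yf8 zf38) (kf xf7 yf8 zf39) (kf xf5 yf9 zf7) (kf xf5 yf9 zf8) (kf xf6 yf0 zf47) (kf xf6 yf0 zf48) (kf xf4 yf25 zf31) (kf xf7 yf8 zf48)) (@D3.rec (fun _ => Pt) (kf xf5 yf9 zf12) (kf xf6 yf1 zf1) (kf xf4 yf25 zf33) (kf xf7 yf9 zf4) (kf xf7 yf9 zf5) (kf xf7 yf9 zf7) (kf xf5 yf9 zf17) (kf xf6 yf1 zf7) (kf xf6 yf1 zf8) (kf xf4 yf25 zf37) (kf xf5 yf9 zf21) (kf xf7 yf9 zf16) (kf xf5 yf9 zf23) (kf xf6 yf1 zf13) (kf xf6 yf1 zf14) (kf xf4 yf25 zf42) (kf xf4 yf25 zf43) (kf xf7 yf9 zf26) (kf xf7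 yf9 zf25) (kf xf4 yf25 zf44) (kf xf7 yf9 zf29) (kf xf7 yf9 zf30) (kf xf5 yf9 zf33) (kf xf5 yf9 zf34) (kf xf6 yf1 zf24) (kf xf6 yf1 zf25) (kf xf4 yf25 zf50) (kf xf4 yf26 zf0) (kf xf7 yf4 zf26) (kf xf7 yf8 zf43) (kf xf7 yf9 zf38) (kf xf5 yf9 zf42) (kf xf5 yf9 zf43) (kf xf6 yf1 zf33) (kf xf7 yf8 zf4) (kf xf4 yf26 zf5) (kf xf7 yf9 zf46) (kf xf6 yf1 zf37) (kf xf5 yf0 zf34) (kf xf4 yf26 zf7) (kf xf7 yf10 zf2) (kf xf5 yf0 zf37) (kf xf6 yf1 zf42) (kf xf5 yf0 zf39) (kf xf4 yf26 zf10) (kf xf7 yf10 zf5) (kf xf7 yf10 zf6) (kf xf7 yf10 zf9) (kf xf6 yf1 zf48) (kf xf5 yf0 zf45) (kf xf5 yf0 zf46)) (@D3.rec (fun _ => Pt) (kf xf4 yf26 zf14) (kf xf4 yf26 zf16) (kf xf7 yf10 zf15) (kf xf7 yf10 zf16) (kf xf6 yf2 zf4) (kf xf6 yf2 zf5) (kf xf5 yf1 zf2) (kf xf5 yf1 zf3) (kf xf4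 yf26 zf21) (kf xf7 yf10 zf25) (kf xf5 yf9 zf46) (kf xf5 yf1 zf7) (kf xf4 yf26 zf23) (kf xf7 yf10 zf32) (kf xf7 yf10 zf33) (kf xf7 yf10 zf35) (kf xf5 yf10 zf0) (kf xf5 yf1 zf13) (kf xf5 yf1 zf14) (kf xf4 yf26 zf27) (kf xf5 yf10 zf4) (kf xf7 yf10 zf44) (kf xf5 yf10 zf6) (kf xf5 yf1 zf19) (kf xf5 yf1 zf20) (kf xf4 yf26 zf32) (kf xf4 yf26 zf33) (kf xf7 yf11 zf3) (kf xf7 yf11 zf2) (kf xf4 yf26 zf34) (kf xf7 yf11 zf6) (kf xf7 yf11 zf7) (kf xf5 yf10 zf15) (kf xf5 yf10 zf16) (kf xf5 yf1 zf30) (kf xf5 yf1 zf31) (kf xf4 yf26 zf40) (kf xf4 yf26 zf41) (kf xf7 yf11 zf15) (kf xf7 yf11 zf16) (kf xf7 yf11 zf17) (kf xf5 yf10 zf24) (kf xf5 yf10 zf25) (kf xf5 yf1 zf39) (kf xf5 yf10 zf27) (kf xf5 yf1 zf41) (kf xf4 yf26 zf47) (kf xf7 yf11 zf30) (kf xf5 yf10 zf29) (kf xf7 yf11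 zf33) (kf xf5 yf10 zf31)) (@D3.rec (fun _ => Pt) (kf xf5 yf1 zf47) (kf xf5 yf1 zf48) (kf xf5 yf0 zf0) (kf xf5 yf0 zf1) (kf xf7 yf11 zf42) (kf xf5 yf0 zf2) (kf xf7 yf11 zf44) (kf xf7 yf11 zf45) (kf xf5 yf10 zf38) (kf xf5 yf10 zf39) (kf xf5 yf2 zf6) (kf xf5 yf2 zf7) (kf xf7 yf12 zf1) (kf xf5 yf10 zf43) (kf xf5 yf0 zf8) (kf xf7 yf12 zf6) (kf xf7 yf12 zf7) (kf xf5 yf10 zf47) (kf xf5 yf10 zf48) (kf xf5 yf2 zf15) (kf xf5 yf2 zf16) (kf xf5 yf2 zf17) (kf xf7 yf12 zf18) (kf xf5 yf0 zf15) (kf xf5 yf0 zf14) (kf xf7 yf12 zf22) (kf xf7 yf12 zf20) (kf xf5 yf0 zf17) (kf xf5 yf0 zf18) (kf xf7 yf12 zf25) (kf xf7 yf12 zf26) (kf xf7 yf12 zf27) (kf xf5 yf11 zf10) (kf xf5 yf11 zf11) (kf xf5 yf2 zf30) (kf xf7 yf9 zf37) (kf xf5 yf0 zf25) (kf xf5 yf0 zf26) (kf xf5 yf0 zf27) (kf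 xf7 yf12 zf36) (kf xf7 yf12 zf37) (kf xf7 yf12 zf38) (kf xf7 yf12 zf40) (kf xf5 yf11 zf21) (kf xf5 yf11 zf22) (kf xf5 yf11 zf23) (kf xf5 yf0 zf31) (kf xf7 yf12 zf48) (kf xf7 yf9 zf45) (kf xf5 yf0 zf33) (kf xf7 yf13 zf1)) (@D3.rec (fun _ => Pt) (kf xf7 yf13 zf2) (kf xf7 yf10 zf0) (kf xf7 yf10 zf1) (kf xf5 yf0 zf36) (kf xf5 yf20 zf42) (kf xf6 yf4 zf5) (kf xf7 yf9 zf49) (kf xf7 yf10 zf4) (kf xf5 yf0 zf41) (kf xf5 yf0 zf42) (kf xf7 yf13 zf14) (kf xf7 yf13 zf13) (kf xf5 yf0 zf43) (kf xf5 yf20 zf43) (kf xf7 yf13 zf17) (kf xf6 yf4 zf15) (kf xf7 yf10 zf13) (kf xf7 yf10 zf14) (kf xf5 yf0 zf49) (kf xf5 yf0 zf50) (kf xf7 yf13 zf21) (kf xf7 yf13 zf22) (kf xf7 yf13 zf23) (kf xf6 yf4 zf23) (kf xf6 yf4 zf24) (kf xf7 yf10 zf22) (kf xf5 yf11 zf24) (kf xf7 yf10 zf24) (kf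 xf5 yf1 zf5) (kf xf7 yf13 zf34) (kf xf7 yf13 zf35) (kf xf5 yf11 zf27) (kf xf7 yf10 zf30) (kf xf7 yf10 zf31) (kf xf5 yf1 zf9) (kf xf5 yf1 zf10) (kf xf7 yf13 zf44) (kf xf5 yf1 zf11) (kf xf7 yf13 zf46) (kf xf7 yf13 zf47) (kf xf5 yf11 zf34) (kf xf7 yf10 zf40) (kf xf7 yf10 zf41) (kf xf7 yf14 zf0) (kf xf5 yf11 zf38) (kf xf5 yf1 zf17) (kf xf7 yf14 zf5) (kf xf7 yf14 zf6) (kf xf5 yf11 zf42) (kf xf5 yf11 zf43) (kf xf7 yf10 zf49)) (@D3.rec (fun _ => Pt) (kf xf7 yf10 zf50) (kf xf7 yf11 zf0) (kf xf7 yf14 zf17) (kf xf5 yf1 zf24) (kf xf5 yf1 zf23) (kf xf7 yf14 zf21) (kf xf7 yf14 zf19) (kf xf5 yf1 zf26) (kf xf5 yf1 zf27) (kf xf7 yf14 zf24) (kf xf7 yf14 zf25) (kf xf7 yf14 zf26) (kf xf5 yf12 zf3) (kf xf5 yf12 zf4) (kf xf7 yf11 zf13) (kf xf6 yf5 zf15) (kf xf5 yf1 zf34) (kf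 xf5 yf1 zf35) (kf xf5 yf1 zf36) (kf xf7 yf14 zf34) (kf xf7 yf14 zf35) (kf xf7 yf14 zf36) (kf xf7 yf14 zf38) (kf xf5 yf12 zf14) (kf xf5 yf12 zf15) (kf xf5 yf12 zf16) (kf xf5 yf12 zf17) (kf xf7 yf14 zf49) (kf xf5 yf11 zf47) (kf xf7 yf11 zf28) (kf xf7 yf11 zf29) (kf xf5 yf1 zf43) (kf xf7 yf15 zf5) (kf xf5 yf12 zf21) (kf xf5 yf1 zf45) (kf xf7 yf15 zf10) (kf xf7 yf15 zf11) (kf xf5 yf12 zf25) (kf xf5 yf12 zf26) (kf xf7 yf11 zf38) (kf xf7 yf11 zf39) (kf xf7 yf11 zf40) (kf xf7 yf5 zf40) (kf xf5 yf2 zf0) (kf xf7 yf15 zf23) (kf xf5 yf2 zf2) (kf xf5 yf2 zf3) (kf xf7 yf15 zf25) (kf xf7 yf15 zf26) (kf xf7 yf15 zf27) (kf xf5 yf12 zf34)) (@D3.rec (fun _ => Pt) (kf xf5 yf12 zf35) (kf xf7 yf12 zf0) (kf xf5 yf2 zf8) (kf xf7 yf15 zf35) (kf xf7 yf15 zf36) (kf xf5 yf12 zf40)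 (kf xf5 yf12 zf41) (kf xf5 yf2 zf11) (kf xf5 yf2 zf12) (kf xf7 yf15 zf44) (kf xf7 yf15 zf45) (kf xf7 yf15 zf46) (kf xf5 yf12 zf47) (kf xf7 yf16 zf4) (kf xf5 yf12 zf49) (kf xf7 yf12 zf14) (kf xf7 yf12 zf15) (kf xf7 yf16 zf9) (kf xf7 yf12 zf17) (kf xf5 yf2 zf18) (kf xf7 yf16 zf13) (kf xf5 yf2 zf22) (kf xf7 yf12 zf21) (kf xf5 yf2 zf21) (kf xf7 yf16 zf17) (kf xf6 yf6 zf25) (kf xf5 yf2 zf25) (kf xf5 yf2 zf26) (kf xf5 yf2 zf27) (kf xf7 yf16 zf19) (kf xf7 yf16 zf20) (kf xf7 yf16 zf21) (kf xf7 yf16 zf23) (kf xf5 yf13 zf15) (kf xf5 yf13 zf16) (kf xf5 yf13 zf17) (kf xf6 yf6 zf36) (kf xf5 yf2 zf35) (kf xf5 yf2 zf36) (kf xf5 yf2 zf37) (kf xf6 yf6 zf40) (kf xf5 yf2 zf38) (kf xf7 yf16 zf34) (kf xf7 yf16 zf36) (kf xf7 yf16 zf37) (kf xf7 yf16 zf39) (kf xf7 yf16 zf41)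 (kf xf5 yf13 zf29) (kf xf5 yf13 zf30) (kf xf5 yf13 zf31) (kf xf5 yf2 zf49)) (@D3.rec (fun _ => Pt) (kf xf5 yf20 zf45) (kf xf5 yf20 zf48) (kf xf6 yf7 zf2) (kf xf5 yf3 zf1) (kf xf5 yf3 zf2) (kf xf7 yf17 zf3) (kf xf7 yf17 zf4) (kf xf5 yf13 zf36) (kf xf5 yf3 zf5) (kf xf6 yf7 zf9) (kf xf5 yf3 zf8) (kf xf5 yf3 zf9) (kf xf7 yf17 zf9) (kf xf7 yf17 zf10) (kf xf5 yf13 zf43) (kf xf6 yf7 zf15) (kf xf5 yf3 zf15) (kf xf5 yf3 zf16) (kf xf5 yf3 zf17) (kf xf7 yf17 zf0) (kf xf5 yf3 zf18) (kf xf7 yf17 zf16) (kf xf7 yf17 zf18) (kf xf7 yf17 zf19) (kf xf7 yf17 zf17) (kf xf7 yf17 zf20) (kf xf5 yf14 zf4) (kf xf5 yf14 zf5) (kf xf5 yf14 zf6) (kf xf5 yf3 zf22) (kf xf7 yf17 zf28) (kf xf7 yf17 zf29) (kf xf5 yf14 zf10) (kf xf5 yf3 zf25) (kf xf6 yf7 zf34) (kf xf5 yf3 zf28) (kf xf5 yf3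 zf29) (kf xf7 yf17 zf34) (kf xf7 yf17 zf35) (kf xf5 yf14 zf17) (kf xf6 yf7 zf40) (kf xf5 yf3 zf32) (kf xf5 yf3 zf33) (kf xf7 yf17 zf43) (kf xf7 yf17 zf44) (kf xf7 yf17 zf45) (kf xf5 yf14 zf24) (kf xf5 yf14 zf25) (kf xf6 yf7 zf48) (kf xf5 yf3 zf38) (kf xf5 yf3 zf39)) (@D3.rec (fun _ => Pt) (kf xf7 yf18 zf2) (kf xf7 yf18 zf3) (kf xf5 yf14 zf31) (kf xf6 yf8 zf3) (kf xf5 yf3 zf45) (kf xf5 yf3 zf46) (kf xf5 yf3 zf47) (kf xf6 yf8 zf7) (kf xf5 yf3 zf48) (kf xf7 yf18 zf10) (kf xf7 yf18 zf12) (kf xf7 yf18 zf13) (kf xf7 yf18 zf15) (kf xf7 yf18 zf17) (kf xf5 yf14 zf43) (kf xf5 yf14 zf44) (kf xf5 yf14 zf45) (kf xf6 yf8 zf17) (kf xf6 yf8 zf18) (kf xf5 yf4 zf7) (kf xf6 yf8 zf20) (kf xf5 yf4 zf8) (kf xf5 yf4 zf9) (kf xf6 yf8 zf23) (kf xf5 yf4 zf10) (kf xf6 yf8 zf25)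 (kf xf5 yf4 zf11) (kf xf7 yf18 zf30) (kf xf7 yf18 zf28) (kf xf7 yf18 zf31) (kf xf7 yf18 zf32) (kf xf7 yf18 zf34) (kf xf7 yf18 zf35) (kf xf5 yf15 zf7) (kf xf5 yf15 zf8) (kf xf5 yf15 zf9) (kf xf5 yf4 zf17) (kf xf7 yf2 zf29) (kf xf5 yf4 zf21) (kf xf5 yf4 zf24) (kf xf7 yf2 zf39) (kf xf7 yf2 zf32) (kf xf7 yf2 zf33) (kf xf7 yf2 zf37) (kf xf7 yf2 zf38) (kf xf7 yf18 zf47) (kf xf7 yf2 zf41) (kf xf5 yf21 zf36) (kf xf5 yf4 zf36) (kf xf5 yf4 zf37) (kf xf7 yf2 zf35)) (@D3.rec (fun _ => Pt) (kf xf5 yf5 zf27) (kf xf7 yf2 zf42) (kf xf6 yf9 zf2) (kf xf5 yf4 zf43) (kf xf7 yf19 zf2) (kf xf7 yf2 zf45) (kf xf5 yf4 zf47) (kf xf5 yf4 zf49) (kf xf7 yf3 zf1) (kf xf7 yf19 zf4) (kf xf7 yf3 zf3) (kf xf7 yf19 zf5) (kf xf5 yf5 zf6) (kf xf7 yf19 zf6) (kf xf7 yf19 zf7) (kf xf7 yf3 zf9)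 (kf xf5 yf21 zf24) (kf xf6 yf9 zf17) (kf xf6 yf9 zf18) (kf xf5 yf5 zf12) (kf xf5 yf5 zf13) (kf xf7 yf19 zf13) (kf xf7 yf19 zf14) (kf xf7 yf19 zf12) (kf xf5 yf9 zf5) (kf xf5 yf6 zf0) (kf xf5 yf5 zf19) (kf xf7 yf3 zf12) (kf xf6 yf9 zf28) (kf xf5 yf5 zf21) (kf xf7 yf19 zf24) (kf xf7 yf18 zf49) (kf xf7 yf3 zf18) (kf xf6 yf9 zf33) (kf xf6 yf9 zf34) (kf xf5 yf5 zf25) (kf xf7 yf3 zf26) (kf xf6 yf9 zf37) (kf xf5 yf5 zf32) (kf xf7 yf19 zf28) (kf xf7 yf3 zf31) (kf xf6 yf9 zf41) (kf xf5 yf5 zf34) (kf xf7 yf19 zf32) (kf xf7 yf19 zf33) (kf xf7 yf19 zf35) (kf xf7 yf3 zf37) (kf xf6 yf9 zf47) (kf xf6 yf9 zf48) (kf xf5 yf5 zf38) (kf xf7 yf3 zf39)) (@D3.rec (fun _ => Pt) (kf xf7 yf19 zf42) (kf xf7 yf3 zf41) (kf xf6 yf10 zf2) (kf xf5 yf5 zf43) (kf xf5 yf5 zf44) (kf xf7 yf19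 zf49) (kf xf7 yf19 zf48) (kf xf5 yf5 zf45) (kf xf7 yf19 zf11) (kf xf7 yf20 zf0) (kf xf7 yf4 zf0) (kf xf7 yf4 zf1) (kf xf6 yf10 zf12) (kf xf6 yf10 zf13) (kf xf5 yf6 zf1) (kf xf7 yf19 zf19) (kf xf7 yf3 zf24) (kf xf7 yf20 zf7) (kf xf5 yf9 zf6) (kf xf7 yf4 zf4) (kf xf6 yf10 zf20) (kf xf6 yf10 zf21) (kf xf5 yf7 zf14) (kf xf7 yf4 zf6) (kf xf7 yf20 zf14) (kf xf7 yf4 zf8) (kf xf5 yf7 zf18) (kf xf5 yf7 zf19) (kf xf5 yf6 zf12) (kf xf5 yf6 zf13) (kf xf7 yf20 zf21) (kf xf7 yf20 zf22) (kf xf7 yf4 zf17) (kf xf7 yf4 zf18) (kf xf5 yf7 zf26) (kf xf5 yf7 zf27) (kf xf5 yf6 zf19) (kf xf5 yf6 zf20) (kf xf7 yf20 zf27) (kf xf7 yf4 zf27) (kf xf5 yf7 zf35) (kf xf7 yf4 zf29) (kf xf5 yf7 zf37) (kf xf5 yf6 zf26) (kf xf7 yf20 zf33) (kf xf7 yf4 zf34) (kf xf7 yf20 zf34) (kf xf7 yf4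 zf36) (kf xf5 yf7 zf43) (kf xf5 yf7 zf44) (kf xf5 yf6 zf30)) (@D3.rec (fun _ => Pt) (kf xf5 yf6 zf31) (kf xf7 yf20 zf42) (kf xf5 yf6 zf32) (kf xf7 yf20 zf43) (kf xf7 yf20 zf44) (kf xf7 yf4 zf46) (kf xf7 yf4 zf47) (kf xf5 yf8 zf2) (kf xf5 yf8 zf3) (kf xf7 yf20 zf50) (kf xf7 yf4 zf50) (kf xf5 yf6 zf38) (kf xf7 yf21 zf3) (kf xf7 yf21 zf4) (kf xf7 yf5 zf3) (kf xf7 yf5 zf4) (kf xf5 yf8 zf11) (kf xf5 yf8 zf12) (kf xf5 yf8 zf13) (kf xf7 yf21 zf14) (kf xf5 yf6 zf45) (kf xf5 yf6 zf44) (kf xf7 yf21 zf17) (kf xf5 yf6 zf47) (kf xf5 yf6 zf48) (kf xf7 yf21 zf19) (kf xf7 yf21 zf20) (kf xf7 yf21 zf21) (kf xf7 yf5 zf18) (kf xf7 yf5 zf19) (kf xf5 yf8 zf25) (kf xf7 yf19 zf17) (kf xf5 yf7 zf4) (kf xf5 yf7 zf5) (kf xf5 yf7 zf6) (kf xf7 yf21 zf30) (kf xf7 yf21 zf31) (kf xf7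 yf21 zf32) (kf xf7 yf21 zf34) (kf xf7 yf5 zf27) (kf xf7 yf5 zf28) (kf xf7 yf5 zf29) (kf xf7 yf2 zf20) (kf xf7 yf2 zf21) (kf xf6 yf11 zf44) (kf xf6 yf11 zf45) (kf xf7 yf1 zf44) (kf xf7 yf21 zf48) (kf xf7 yf5 zf31) (kf xf5 yf7 zf16) (kf xf7 yf22 zf2)) (@D3.rec (fun _ => Pt) (kf xf7 yf22 zf3) (kf xf7 yf5 zf35) (kf xf7 yf5 zf36) (kf xf7 yf20 zf19) (kf xf7 yf20 zf20) (kf xf5 yf7 zf22) (kf xf5 yf7 zf23) (kf xf7 yf22 zf11) (kf xf7 yf22 zf12) (kf xf7 yf22 zf13) (kf xf7 yf5 zf48) (kf xf7 yf5 zf49) (kf xf7 yf20 zf26) (kf xf6 yf12 zf13) (kf xf5 yf7 zf30) (kf xf5 yf7 zf31) (kf xf5 yf7 zf32) (kf xf7 yf7 zf30) (kf xf7 yf22 zf21) (kf xf7 yf22 zf22) (kf xf7 yf22 zf23) (kf xf7 yf6 zf8) (kf xf7 yf6 zf9) (kf xf7 yf6 zf10) (kf xf7 yf6 zf11) (kf xf7 yf22 zf34) (kf xf7 yf6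 zf13) (kf xf5 yf19 zf38) (kf xf7 yf20 zf32) (kf xf5 yf7 zf39) (kf xf7 yf22 zf41) (kf xf7 yf6 zf21) (kf xf5 yf7 zf41) (kf xf7 yf22 zf46) (kf xf7 yf22 zf47) (kf xf7 yf6 zf25) (kf xf7 yf6 zf26) (kf xf7 yf20 zf38) (kf xf7 yf20 zf39) (kf xf7 yf20 zf40) (kf xf7 yf13 zf31) (kf xf5 yf7 zf47) (kf xf5 yf7 zf49) (kf xf5 yf7 zf50) (kf xf7 yf23 zf9) (kf xf7 yf23 zf10) (kf xf7 yf23 zf11) (kf xf7 yf6 zf40) (kf xf7 yf6 zf41) (kf xf7 yf20 zf49) (kf xf5 yf8 zf4)) (@D3.rec (fun _ => Pt) (kf xf7 yf23 zf20) (kf xf7 yf23 zf21) (kf xf7 yf6 zf46) (kf xf7 yf6 zf47) (kf xf5 yf8 zf7) (kf xf5 yf8 zf8) (kf xf7 yf23 zf29) (kf xf7 yf23 zf30) (kf xf7 yf23 zf31) (kf xf7 yf7 zf2) (kf xf7 yf23 zf40) (kf xf7 yf7 zf4) (kf xf5 yf19 zf43) (kf xf7 yf21 zf11) (kf xf7 yf23 zf45) (kf xf7 yf21 zf13)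 (kf xf5 yf8 zf14) (kf xf7 yf23 zf48) (kf xf7 yf21 zf16) (kf xf5 yf8 zf17) (kf xf6 yf13 zf20) (kf xf5 yf8 zf20) (kf xf5 yf8 zf21) (kf xf5 yf8 zf22) (kf xf7 yf24 zf1) (kf xf7 yf24 zf2) (kf xf7 yf24 zf3) (kf xf7 yf24 zf5) (kf xf7 yf7 zf23) (kf xf7 yf7 zf24) (kf xf7 yf7 zf25) (kf xf6 yf13 zf31) (kf xf5 yf8 zf30) (kf xf5 yf8 zf31) (kf xf5 yf8 zf32) (kf xf6 yf13 zf35) (kf xf5 yf8 zf33) (kf xf7 yf24 zf16) (kf xf7 yf24 zf18) (kf xf7 yf24 zf19) (kf xf7 yf24 zf21) (kf xf7 yf24 zf23) (kf xf7 yf7 zf37) (kf xf7 yf7 zf38) (kf xf7 yf7 zf39) (kf xf5 yf8 zf37) (kf xf7 yf8 zf12) (kf xf6 yf13 zf47) (kf xf5 yf8 zf39) (kf xf7 yf24 zf38) (kf xf7 yf24 zf39)) (@D3.rec (fun _ => Pt) (kf xf7 yf8 zf18) (kf xf6 yf14 zf1) (kf xf6 yf14 zf2) (kf xf5 yf8 zf43) (kf xf7 yf8 zf22) (kf xf7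 yf24 zf47) (kf xf7 yf8 zf24) (kf xf6 yf14 zf7) (kf xf6 yf14 zf8) (kf xf5 yf8 zf48) (kf xf5 yf8 zf49) (kf xf7 yf25 zf4) (kf xf5 yf8 zf50) (kf xf7 yf19 zf18) (kf xf7 yf20 zf10) (kf xf7 yf8 zf34) (kf xf7 yf8 zf35) (kf xf6 yf14 zf17) (kf xf6 yf14 zf18) (kf xf7 yf20 zf11) (kf xf7 yf8 zf44) (kf xf6 yf14 zf21) (kf xf7 yf8 zf46) (kf xf6 yf14 zf23) (kf xf7 yf8 zf50) (kf xf7 yf25 zf11) (kf xf7 yf9 zf1) (kf xf6 yf14 zf27) (kf xf6 yf14 zf28) (kf xf5 yf9 zf15) (kf xf5 yf9 zf16) (kf xf7 yf25 zf18) (kf xf7 yf25 zf19) (kf xf7 yf9 zf10) (kf xf7 yf9 zf11) (kf xf6 yf14 zf35) (kf xf6 yf14 zf36) (kf xf7 yf25 zf26) (kf xf7 yf9 zf15) (kf xf5 yf9 zf22) (kf xf7 yf25 zf29) (kf xf7 yf25 zf30) (kf xf7 yf9 zf19) (kf xf7 yf9 zf20) (kf xf6 yf14 zf44) (kf xf6 yf14 zf45) (kf xf6 yf14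 zf46) (kf xf7 yf25 zf39) (kf xf5 yf9 zf29) (kf xf5 yf9 zf28) (kf xf7 yf25 zf42)) (@D3.rec (fun _ => Pt) (kf xf5 yf9 zf31) (kf xf5 yf9 zf32) (kf xf7 yf25 zf44) (kf xf7 yf25 zf45) (kf xf7 yf25 zf46) (kf xf7 yf9 zf34) (kf xf7 yf9 zf35) (kf xf6 yf15 zf7) (kf xf5 yf11 zf13) (kf xf5 yf9 zf39) (kf xf5 yf9 zf40) (kf xf5 yf9 zf41) (kf xf7 yf26 zf4) (kf xf7 yf21 zf42) (kf xf7 yf8 zf41) (kf xf7 yf26 zf6) (kf xf7 yf9 zf41) (kf xf7 yf9 zf42) (kf xf7 yf9 zf43) (kf xf7 yf10 zf23) (kf xf5 yf11 zf25) (kf xf7 yf10 zf27) (kf xf7 yf26 zf18) (kf xf7 yf10 zf29) (kf xf5 yf11 zf28) (kf xf5 yf11 zf29) (kf xf5 yf9 zf49) (kf xf5 yf9 zf50) (kf xf7 yf26 zf25) (kf xf7 yf26 zf26) (kf xf7 yf10 zf38) (kf xf7 yf10 zf39) (kf xf5 yf11 zf35) (kf xf5 yf11 zf36) (kf xf7 yf26 zf33) (kf xf7 yf10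 zf43) (kf xf5 yf10 zf5) (kf xf7 yf26 zf37) (kf xf7 yf26 zf38) (kf xf7 yf10 zf47) (kf xf7 yf10 zf48) (kf xf5 yf11 zf44) (kf xf5 yf11 zf45) (kf xf5 yf11 zf46) (kf xf7 yf11 zf27) (kf xf5 yf10 zf11) (kf xf5 yf10 zf13) (kf xf5 yf10 zf14) (kf xf8 yf0 zf0) (kf xf8 yf0 zf1) (kf xf8 yf0 zf2)) (@D3.rec (fun _ => Pt) (kf xf7 yf11 zf11) (kf xf7 yf11 zf12) (kf xf5 yf12 zf5) (kf xf7 yf19 zf16) (kf xf5 yf10 zf21) (kf xf5 yf10 zf22) (kf xf5 yf10 zf23) (kf xf8 yf0 zf9) (kf xf8 yf0 zf11) (kf xf7 yf11 zf22) (kf xf7 yf11 zf23) (kf xf7 yf11 zf24) (kf xf7 yf11 zf25) (kf xf8 yf0 zf17) (kf xf5 yf12 zf19) (kf xf8 yf0 zf18) (kf xf7 yf11 zf32) (kf xf5 yf10 zf30) (kf xf8 yf0 zf22) (kf xf8 yf0 zf23) (kf xf7 yf11 zf36) (kf xf7 yf11 zf37) (kf xf5 yf12 zf27) (kf xf5 yf12 zf28) (kf xf5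 yf10 zf36) (kf xf5 yf10 zf37) (kf xf8 yf0 zf31) (kf xf8 yf0 zf32) (kf xf8 yf0 zf33) (kf xf7 yf11 zf49) (kf xf7 yf11 zf50) (kf xf5 yf12 zf36) (kf xf5 yf10 zf42) (kf xf8 yf0 zf42) (kf xf8 yf0 zf43) (kf xf7 yf12 zf4) (kf xf7 yf12 zf5) (kf xf5 yf10 zf45) (kf xf5 yf10 zf46) (kf xf8 yf0 zf50) (kf xf8 yf1 zf0) (kf xf8 yf1 zf1) (kf xf7 yf12 zf11) (kf xf8 yf1 zf10) (kf xf7 yf12 zf13) (kf xf5 yf12 zf50) (kf xf5 yf13 zf0) (kf xf8 yf1 zf14) (kf xf5 yf13 zf2) (kf xf5 yf11 zf1) (kf xf8 yf1 zf17)) (@D3.rec (fun _ => Pt) (kf xf5 yf13 zf5) (kf xf5 yf11 zf4) (kf xf7 yf25 zf43) (kf xf5 yf11 zf7) (kf xf5 yf11 zf8) (kf xf5 yf11 zf9) (kf xf8 yf1 zf21) (kf xf8 yf1 zf22) (kf xf8 yf1 zf23) (kf xf8 yf1 zf25) (kf xf7 yf12 zf32) (kf xf7 yf12 zf33) (kf xf7 yf12 zf34) (kf xf7 yf26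 zf3) (kf xf5 yf11 zf17) (kf xf5 yf11 zf18) (kf xf5 yf11 zf19) (kf xf5 yf16 zf37) (kf xf5 yf11 zf20) (kf xf8 yf1 zf36) (kf xf8 yf1 zf38) (kf xf8 yf1 zf39) (kf xf8 yf1 zf41) (kf xf8 yf1 zf43) (kf xf7 yf12 zf45) (kf xf7 yf12 zf46) (kf xf7 yf12 zf47) (kf xf8 yf2 zf2) (kf xf5 yf19 zf41) (kf xf5 yf11 zf26) (kf xf8 yf2 zf4) (kf xf8 yf2 zf5) (kf xf7 yf13 zf38) (kf xf7 yf13 zf39) (kf xf7 yf26 zf23) (kf xf7 yf26 zf24) (kf xf5 yf11 zf32) (kf xf5 yf11 zf33) (kf xf8 yf2 zf12) (kf xf8 yf2 zf13) (kf xf7 yf26 zf32) (kf xf5 yf11 zf37) (kf xf8 yf2 zf16) (kf xf8 yf2 zf17) (kf xf7 yf14 zf3) (kf xf7 yf14 zf4) (kf xf5 yf11 zf40) (kf xf5 yf11 zf41) (kf xf8 yf2 zf24) (kf xf8 yf2 zf25) (kf xf8 yf2 zf26)) (@D3.rec (fun _ => Pt) (kf xf7 yf14 zf10) (kf xf7 yf15 zf1) (kf xf7 yf14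 zf12) (kf xf7 yf26 zf45) (kf xf7 yf26 zf46) (kf xf8 yf2 zf39) (kf xf7 yf26 zf48) (kf xf7 yf15 zf2) (kf xf6 yf18 zf8) (kf xf5 yf12 zf0) (kf xf5 yf12 zf1) (kf xf5 yf12 zf2) (kf xf8 yf2 zf42) (kf xf8 yf2 zf43) (kf xf8 yf2 zf44) (kf xf8 yf2 zf46) (kf xf7 yf14 zf31) (kf xf7 yf14 zf32) (kf xf6 yf18 zf18) (kf xf5 yf12 zf10) (kf xf5 yf12 zf11) (kf xf5 yf12 zf12) (kf xf6 yf18 zf22) (kf xf5 yf12 zf13) (kf xf8 yf3 zf4) (kf xf8 yf3 zf6) (kf xf8 yf3 zf7) (kf xf8 yf3 zf9) (kf xf8 yf3 zf11) (kf xf7 yf14 zf44) (kf xf7 yf14 zf45) (kf xf7 yf14 zf46) (kf xf8 yf3 zf21) (kf xf7 yf14 zf48) (kf xf5 yf12 zf18) (kf xf8 yf3 zf25) (kf xf5 yf12 zf20) (kf xf8 yf3 zf27) (kf xf8 yf3 zf28) (kf xf7 yf15 zf8) (kf xf7 yf15 zf9) (kf xf5 yf12 zf23) (kf xf5 yf12 zf24) (kf xf8 yf3 zf34) (kf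 xf8 yf3 zf35) (kf xf8 yf3 zf36) (kf xf7 yf15 zf15) (kf xf7 yf15 zf17) (kf xf8 yf0 zf29) (kf xf6 yf18 zf49) (kf xf5 yf12 zf31)) (@D3.rec (fun _ => Pt) (kf xf5 yf12 zf32) (kf xf5 yf12 zf33) (kf xf8 yf3 zf45) (kf xf8 yf3 zf46) (kf xf8 yf3 zf47) (kf xf8 yf3 zf49) (kf xf7 yf15 zf32) (kf xf7 yf15 zf33) (kf xf5 yf20 zf15) (kf xf5 yf12 zf38) (kf xf5 yf12 zf39) (kf xf8 yf4 zf8) (kf xf8 yf4 zf9) (kf xf8 yf4 zf10) (kf xf7 yf15 zf40) (kf xf8 yf4 zf19) (kf xf7 yf15 zf42) (kf xf6 yf19 zf17) (kf xf5 yf12 zf44) (kf xf5 yf12 zf45) (kf xf5 yf12 zf46) (kf xf8 yf4 zf23) (kf xf8 yf4 zf24) (kf xf8 yf4 zf25) (kf xf8 yf4 zf34) (kf xf8 yf4 zf27) (kf xf7 yf16 zf1) (kf xf8 yf4 zf40) (kf xf7 yf16 zf3) (kf xf5 yf12 zf48) (kf xf8 yf4 zf44) (kf xf7 yf16 zf6) (kf xf8 yf4 zf46) (kf xf8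 yf1 zf13) (kf xf5 yf13 zf1) (kf xf8 yf4 zf49) (kf xf8 yf4 zf48) (kf xf5 yf13 zf4) (kf xf8 yf1 zf18) (kf xf8 yf1 zf19) (kf xf6 yf19 zf40) (kf xf5 yf13 zf11) (kf xf5 yf13 zf12) (kf xf5 yf13 zf13) (kf xf5 yf17 zf39) (kf xf5 yf13 zf14) (kf xf8 yf5 zf4) (kf xf8 yf5 zf6) (kf xf8 yf5 zf7) (kf xf8 yf5 zf9) (kf xf8 yf5 zf11)) (@D3.rec (fun _ => Pt) (kf xf7 yf16 zf29) (kf xf7 yf16 zf30) (kf xf7 yf16 zf31) (kf xf6 yf20 zf3) (kf xf6 yf20 zf4) (kf xf5 yf13 zf24) (kf xf5 yf15 zf6) (kf xf5 yf13 zf25) (kf xf5 yf13 zf26) (kf xf5 yf15 zf3) (kf xf5 yf13 zf27) (kf xf5 yf18 zf2) (kf xf5 yf13 zf28) (kf xf8 yf5 zf22) (kf xf8 yf5 zf23) (kf xf8 yf5 zf25) (kf xf8 yf5 zf26) (kf xf8 yf5 zf28) (kf xf8 yf5 zf24) (kf xf7 yf16 zf48) (kf xf7 yf16 zf49) (kf xf7 yf16 zf50) (kf xf6 yf20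 zf22) (kf xf5 yf20 zf33) (kf xf5 yf13 zf34) (kf xf5 yf13 zf35) (kf xf8 yf5 zf41) (kf xf8 yf5 zf42) (kf xf6 yf20 zf28) (kf xf6 yf20 zf29) (kf xf5 yf13 zf41) (kf xf5 yf13 zf42) (kf xf6 yf20 zf32) (kf xf8 yf5 zf45) (kf xf8 yf5 zf47) (kf xf5 yf19 zf22) (kf xf6 yf20 zf36) (kf xf6 yf20 zf37) (kf xf5 yf13 zf50) (kf xf6 yf20 zf39) (kf xf5 yf14 zf0) (kf xf5 yf14 zf1) (kf xf6 yf20 zf42) (kf xf5 yf14 zf2) (kf xf6 yf20 zf44) (kf xf5 yf14 zf3) (kf xf8 yf6 zf3) (kf xf8 yf6 zf1) (kf xf8 yf5 zf29) (kf xf8 yf6 zf4) (kf xf8 yf6 zf6)) (@D3.rec (fun _ => Pt) (kf xf8 yf6 zf7) (kf xf7 yf17 zf24) (kf xf7 yf17 zf25) (kf xf7 yf17 zf26) (kf xf5 yf21 zf1) (kf xf5 yf14 zf8) (kf xf5 yf14 zf9) (kf xf8 yf6 zf19) (kf xf8 yf6 zf20) (kf xf6 yf21 zf9) (kf xf6 yf21 zf10) (kf xf5 yf14 zf15)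 (kf xf5 yf14 zf16) (kf xf5 yf18 zf11) (kf xf8 yf6 zf23) (kf xf8 yf6 zf25) (kf xf7 yf17 zf39) (kf xf5 yf21 zf6) (kf xf5 yf21 zf7) (kf xf6 yf21 zf19) (kf xf5 yf14 zf21) (kf xf5 yf14 zf22) (kf xf5 yf14 zf23) (kf xf8 yf6 zf33) (kf xf8 yf6 zf34) (kf xf8 yf6 zf35) (kf xf8 yf6 zf37) (kf xf7 yf17 zf50) (kf xf7 yf18 zf0) (kf xf6 yf21 zf29) (kf xf5 yf14 zf29) (kf xf5 yf14 zf30) (kf xf6 yf21 zf32) (kf xf8 yf6 zf45) (kf xf8 yf6 zf47) (kf xf7 yf18 zf7) (kf xf6 yf21 zf36) (kf xf6 yf21 zf37) (kf xf5 yf14 zf38) (kf xf5 yf15 zf5) (kf xf5 yf14 zf39) (kf xf5 yf14 zf40) (kf xf5 yf18 zf23) (kf xf5 yf14 zf41) (kf xf5 yf15 zf2) (kf xf5 yf14 zf42) (kf xf8 yf7 zf1) (kf xf8 yf7 zf3) (kf xf8 yf5 zf27) (kf xf8 yf7 zf4) (kf xf8 yf7 zf2)) (@D3.rec (fun _ => Pt) (kf xf8 yf7 zf6) (kf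 xf7 yf18 zf24) (kf xf7 yf18 zf25) (kf xf7 yf18 zf26) (kf xf5 yf15 zf4) (kf xf7 yf18 zf4) (kf xf8 yf6 zf24) (kf xf8 yf5 zf5) (kf xf8 yf1 zf37) (kf xf7 yf18 zf43) (kf xf7 yf18 zf44) (kf xf7 yf1 zf47) (kf xf6 yf22 zf12) (kf xf6 yf22 zf13) (kf xf7 yf1 zf29) (kf xf7 yf1 zf30) (kf xf6 yf22 zf16) (kf xf6 yf22 zf17) (kf xf6 yf22 zf18) (kf xf7 yf1 zf28) (kf xf6 yf22 zf20) (kf xf8 yf7 zf23) (kf xf6 yf22 zf22) (kf xf6 yf22 zf23) (kf xf6 yf22 zf24) (kf xf7 yf19 zf37) (kf xf6 yf22 zf26) (kf xf5 yf15 zf24) (kf xf8 yf7 zf29) (kf xf6 yf22 zf29) (kf xf5 yf15 zf27) (kf xf5 yf15 zf30) (kf xf5 yf15 zf31) (kf xf7 yf1 zf34) (kf xf7 yf1 zf35) (kf xf7 yf3 zf34) (kf xf8 yf7 zf32) (kf xf6 yf22 zf37) (kf xf6 yf22 zf38) (kf xf6 yf22 zf39) (kf xf5 yf15 zf38) (kf xf5 yf15 zf39) (kf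 xf5 yf15 zf40) (kf xf7 yf26 zf5) (kf xf5 yf15 zf41) (kf xf8 yf7 zf40) (kf xf8 yf7 zf42) (kf xf8 yf7 zf43) (kf xf8 yf7 zf45) (kf xf8 yf7 zf47) (kf xf6 yf22 zf50)) (@D3.rec (fun _ => Pt) (kf xf6 yf23 zf0) (kf xf6 yf23 zf1) (kf xf7 yf2 zf17) (kf xf6 yf23 zf3) (kf xf6 yf23 zf4) (kf xf5 yf17 zf2) (kf xf5 yf16 zf1) (kf xf5 yf16 zf2) (kf xf7 yf2 zf6) (kf xf7 yf2 zf7) (kf xf7 yf7 zf5) (kf xf8 yf8 zf9) (kf xf6 yf23 zf12) (kf xf6 yf23 zf13) (kf xf6 yf23 zf14) (kf xf6 yf23 zf15) (kf xf8 yf8 zf19) (kf xf6 yf23 zf17) (kf xf5 yf16 zf11) (kf xf7 yf2 zf4) (kf xf7 yf6 zf27) (kf xf8 yf8 zf24) (kf xf7 yf6 zf42) (kf xf6 yf23 zf23) (kf xf8 yf8 zf30) (kf xf6 yf23 zf25) (kf xf5 yf16 zf13) (kf xf8 yf8 zf34) (kf xf6 yf23 zf28) (kf xf8 yf8 zf36) (kf xf5 yf17 zf28) (kf xf5 yf16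 zf17) (kf xf8 yf8 zf39) (kf xf8 yf8 zf38) (kf xf5 yf16 zf20) (kf xf5 yf17 zf33) (kf xf5 yf17 zf34) (kf xf5 yf16 zf26) (kf xf5 yf16 zf27) (kf xf5 yf16 zf28) (kf xf8 yf1 zf24) (kf xf5 yf16 zf29) (kf xf7 yf6 zf28) (kf xf8 yf8 zf42) (kf xf8 yf8 zf43) (kf xf8 yf8 zf45) (kf xf8 yf8 zf47) (kf xf6 yf23 zf47) (kf xf6 yf23 zf48) (kf xf6 yf23 zf49) (kf xf7 yf1 zf48)) (@D3.rec (fun _ => Pt) (kf xf5 yf16 zf39) (kf xf5 yf16 zf40) (kf xf5 yf16 zf41) (kf xf8 yf1 zf40) (kf xf5 yf16 zf42) (kf xf8 yf1 zf42) (kf xf5 yf16 zf43) (kf xf8 yf9 zf6) (kf xf8 yf9 zf7) (kf xf8 yf9 zf8) (kf xf8 yf9 zf9) (kf xf8 yf9 zf11) (kf xf8 yf9 zf13) (kf xf6 yf24 zf13) (kf xf6 yf24 zf14) (kf xf6 yf24 zf15) (kf xf5 yf16 zf49) (kf xf5 yf16 zf50) (kf xf7 yf2 zf13) (kf xf7 yf2 zf14) (kf xf8 yf9 zf24)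 (kf xf8 yf9 zf25) (kf xf6 yf24 zf22) (kf xf6 yf24 zf23) (kf xf6 yf24 zf24) (kf xf5 yf17 zf6) (kf xf5 yf17 zf7) (kf xf5 yf17 zf8) (kf xf8 yf3 zf48) (kf xf5 yf17 zf9) (kf xf8 yf9 zf34) (kf xf8 yf9 zf35) (kf xf8 yf9 zf36) (kf xf8 yf9 zf38) (kf xf8 yf9 zf40) (kf xf6 yf24 zf35) (kf xf6 yf24 zf36) (kf xf6 yf24 zf37) (kf xf5 yf17 zf16) (kf xf5 yf17 zf17) (kf xf5 yf17 zf18) (kf xf8 yf10 zf4) (kf xf5 yf17 zf20) (kf xf8 yf9 zf50) (kf xf8 yf10 zf10) (kf xf8 yf10 zf0) (kf xf8 yf10 zf1) (kf xf8 yf10 zf16) (kf xf8 yf10 zf3) (kf xf5 yf17 zf19) (kf xf8 yf10 zf20)) (@D3.rec (fun _ => Pt) (kf xf8 yf10 zf6) (kf xf6 yf25 zf1) (kf xf8 yf10 zf24) (kf xf6 yf25 zf3) (kf xf5 yf17 zf22) (kf xf8 yf10 zf28) (kf xf6 yf25 zf6) (kf xf8 yf10 zf19) (kf xf5 yf17 zf25) (kf xf8 yf10 zf33)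 (kf xf5 yf17 zf27) (kf xf8 yf10 zf35) (kf xf5 yf17 zf31) (kf xf5 yf17 zf30) (kf xf8 yf10 zf36) (kf xf8 yf10 zf37) (kf xf8 yf8 zf26) (kf xf6 yf25 zf17) (kf xf5 yf17 zf41) (kf xf5 yf17 zf42) (kf xf5 yf17 zf43) (kf xf8 yf5 zf8) (kf xf5 yf17 zf44) (kf xf8 yf5 zf10) (kf xf5 yf17 zf45) (kf xf5 yf18 zf26) (kf xf8 yf10 zf39) (kf xf5 yf18 zf6) (kf xf8 yf10 zf40) (kf xf8 yf10 zf41) (kf xf8 yf10 zf44) (kf xf6 yf25 zf31) (kf xf6 yf25 zf32) (kf xf6 yf25 zf33) (kf xf5 yf18 zf5) (kf xf5 yf18 zf17) (kf xf8 yf9 zf43) (kf xf6 yf25 zf37) (kf xf5 yf18 zf13) (kf xf5 yf18 zf15) (kf xf8 yf6 zf26) (kf xf5 yf18 zf16) (kf xf8 yf11 zf0) (kf xf5 yf18 zf25) (kf xf8 yf11 zf1) (kf xf8 yf11 zf3) (kf xf8 yf10 zf45) (kf xf6 yf25 zf47) (kf xf6 yf25 zf48) (kf xf6 yf25 zf49) (kf xf8 yf7 zf5))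 (@D3.rec (fun _ => Pt) (kf xf8 yf10 zf7) (kf xf6 yf26 zf1) (kf xf6 yf26 zf2) (kf xf7 yf23 zf16) (kf xf6 yf26 zf4) (kf xf5 yf18 zf39) (kf xf6 yf26 zf6) (kf xf6 yf26 zf7) (kf xf6 yf26 zf8) (kf xf5 yf19 zf0) (kf xf5 yf19 zf26) (kf xf5 yf19 zf2) (kf xf5 yf19 zf9) (kf xf8 yf11 zf18) (kf xf6 yf26 zf14) (kf xf6 yf26 zf15) (kf xf5 yf20 zf4) (kf xf6 yf26 zf17) (kf xf8 yf11 zf19) (kf xf6 yf26 zf19) (kf xf6 yf26 zf20) (kf xf5 yf20 zf12) (kf xf7 yf23 zf19) (kf xf5 yf19 zf17) (kf xf5 yf20 zf18) (kf xf5 yf20 zf17) (kf xf8 yf11 zf27) (kf xf6 yf26 zf27) (kf xf8 yf3 zf0) (kf xf6 yf26 zf29) (kf xf8 yf4 zf5) (kf xf8 yf0 zf41) (kf xf5 yf19 zf24) (kf xf8 yf11 zf33) (kf xf8 yf11 zf17) (kf xf6 yf26 zf35) (kf xf6 yf26 zf36) (kf xf6 yf26 zf37) (kf xf5 yf19 zf33) (kf xf6 yf26 zf39)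 (kf xf6 yf26 zf40) (kf xf7 yf22 zf39) (kf xf6 yf26 zf42) (kf xf6 yf26 zf43) (kf xf7 yf23 zf3) (kf xf6 yf26 zf45) (kf xf7 yf23 zf44) (kf xf8 yf11 zf42) (kf xf6 yf26 zf48) (kf xf5 yf19 zf46) (kf xf5 yf19 zf47))
def f_f_7 : D2 → D3 → Pt := @D2.rec (fun _ => D3 → Pt) (@D3.rec (fun _ => Pt) (kf xf8 yf11 zf45) (kf xf5 yf20 zf27) (kf xf5 yf19 zf50) (kf xf5 yf20 zf8) (kf xf8 yf11 zf47) (kf xf7 yf0 zf5) (kf xf8 yf2 zf15) (kf xf5 yf20 zf5) (kf xf8 yf11 zf21) (kf xf8 yf11 zf48) (kf xf8 yf12 zf0) (kf xf7 yf0 zf11) (kf xf7 yf0 zf12) (kf xf5 yf20 zf29) (kf xf8 yf3 zf26) (kf xf5 yf20 zf13) (kf xf8 yf11 zf23) (kf xf8 yf12 zf6) (kf xf8 yf4 zf6) (kf xf5 yf20 zf19) (kf xf8 yf11 zf30) (kf xf8 yf12 zf10) (kf xf8 yf11 zf28) (kf xf5 yf20 zf20) (kf xf8 yf12 zf13) (kf xf5 yf20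 zf22) (kf xf8 yf12 zf14) (kf xf5 yf20 zf24) (kf xf5 yf20 zf26) (kf xf8 yf12 zf17) (kf xf7 yf17 zf11) (kf xf5 yf20 zf30) (kf xf8 yf12 zf2) (kf xf8 yf12 zf19) (kf xf8 yf5 zf38) (kf xf8 yf5 zf39) (kf xf5 yf20 zf36) (kf xf5 yf20 zf37) (kf xf5 yf20 zf38) (kf xf7 yf13 zf6) (kf xf8 yf12 zf24) (kf xf7 yf13 zf18) (kf xf8 yf12 zf25) (kf xf7 yf0 zf43) (kf xf7 yf0 zf44) (kf xf7 yf13 zf24) (kf xf7 yf0 zf46) (kf xf5 yf20 zf49) (kf xf7 yf13 zf26) (kf xf8 yf12 zf30) (kf xf8 yf6 zf18)) (@D3.rec (fun _ => Pt) (kf xf5 yf21 zf4) (kf xf5 yf21 zf5) (kf xf8 yf12 zf34) (kf xf8 yf6 zf29) (kf xf8 yf6 zf30) (kf xf8 yf6 zf31) (kf xf5 yf21 zf10) (kf xf8 yf12 zf39) (kf xf5 yf21 zf38) (kf xf5 yf21 zf13) (kf xf5 yf21 zf14) (kf xf8 yf12 zf41) (kf xf8 yf12 zf42) (kf xf7 yf1 zf13) (kf xf7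 yf19 zf3) (kf xf5 yf21 zf21) (kf xf7 yf19 zf1) (kf xf5 yf21 zf23) (kf xf8 yf12 zf46) (kf xf5 yf21 zf26) (kf xf5 yf21 zf28) (kf xf8 yf12 zf48) (kf xf7 yf1 zf22) (kf xf5 yf21 zf32) (kf xf7 yf2 zf27) (kf xf5 yf21 zf39) (kf xf5 yf21 zf37) (kf xf7 yf1 zf27) (kf xf6 yf22 zf19) (kf xf6 yf22 zf14) (kf xf6 yf22 zf15) (kf xf5 yf22 zf4) (kf xf7 yf1 zf32) (kf xf7 yf1 zf33) (kf xf6 yf22 zf33) (kf xf6 yf22 zf34) (kf xf5 yf22 zf10) (kf xf5 yf22 zf12) (kf xf5 yf22 zf13) (kf xf8 yf13 zf5) (kf xf8 yf13 zf4) (kf xf7 yf1 zf41) (kf xf7 yf1 zf42) (kf xf5 yf22 zf39) (kf xf6 yf11 zf46) (kf xf7 yf1 zf45) (kf xf5 yf22 zf46) (kf xf6 yf22 zf11) (kf xf6 yf23 zf50) (kf xf5 yf22 zf24) (kf xf5 yf22 zf25)) (@D3.rec (fun _ => Pt) (kf xf8 yf13 zf13) (kf xf8 yf13 zf12) (kf xf7 yf2 zf2) (kf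 xf7 yf2 zf3) (kf xf6 yf23 zf19) (kf xf7 yf2 zf5) (kf xf6 yf23 zf8) (kf xf6 yf23 zf9) (kf xf8 yf13 zf19) (kf xf5 yf22 zf34) (kf xf5 yf22 zf33) (kf xf8 yf13 zf23) (kf xf8 yf13 zf21) (kf xf6 yf24 zf18) (kf xf6 yf24 zf19) (kf xf7 yf2 zf15) (kf xf7 yf2 zf16) (kf xf6 yf23 zf2) (kf xf5 yf22 zf42) (kf xf5 yf22 zf43) (kf xf6 yf11 zf42) (kf xf6 yf11 zf43) (kf xf8 yf13 zf30) (kf xf8 yf13 zf31) (kf xf7 yf2 zf24) (kf xf7 yf2 zf25) (kf xf7 yf2 zf26) (kf xf7 yf1 zf24) (kf xf5 yf22 zf47) (kf xf6 yf8 zf37) (kf xf5 yf23 zf3) (kf xf5 yf23 zf6) (kf xf6 yf8 zf41) (kf xf6 yf8 zf42) (kf xf5 yf23 zf8) (kf xf6 yf8 zf50) (kf xf5 yf23 zf20) (kf xf6 yf8 zf43) (kf xf6 yf8 zf44) (kf xf6 yf8 zf40) (kf xf8 yf13 zf42) (kf xf6 yf8 zf46) (kf xf6 yf9 zf1) (kf xf7 yf2 zf43) (kf xf8 yf13 zf46)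 (kf xf6 yf9 zf5) (kf xf7 yf2 zf46) (kf xf7 yf2 zf47) (kf xf5 yf23 zf27) (kf xf8 yf13 zf50) (kf xf8 yf14 zf0)) (@D3.rec (fun _ => Pt) (kf xf5 yf24 zf24) (kf xf6 yf9 zf8) (kf xf8 yf14 zf3) (kf xf6 yf9 zf10) (kf xf8 yf14 zf5) (kf xf7 yf3 zf5) (kf xf5 yf23 zf36) (kf xf8 yf14 zf7) (kf xf8 yf14 zf8) (kf xf6 yf9 zf15) (kf xf5 yf23 zf41) (kf xf5 yf23 zf42) (kf xf6 yf9 zf27) (kf xf7 yf3 zf13) (kf xf5 yf23 zf46) (kf xf8 yf14 zf14) (kf xf8 yf14 zf15) (kf xf8 yf14 zf17) (kf xf6 yf9 zf32) (kf xf7 yf3 zf19) (kf xf7 yf3 zf20) (kf xf5 yf23 zf50) (kf xf5 yf24 zf1) (kf xf8 yf14 zf2) (kf xf6 yf10 zf16) (kf xf5 yf24 zf25) (kf xf6 yf9 zf36) (kf xf7 yf3 zf27) (kf xf7 yf3 zf28) (kf xf5 yf24 zf6) (kf xf8 yf14 zf30) (kf xf6 yf9 zf40) (kf xf7 yf3 zf32) (kf xf5 yf24 zf8) (kf xf6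 yf22 zf35) (kf xf8 yf14 zf36) (kf xf8 yf14 zf39) (kf xf6 yf9 zf46) (kf xf5 yf24 zf12) (kf xf6 yf9 zf50) (kf xf8 yf14 zf43) (kf xf6 yf10 zf1) (kf xf7 yf3 zf42) (kf xf7 yf3 zf43) (kf xf5 yf24 zf16) (kf xf5 yf24 zf17) (kf xf8 yf15 zf0) (kf xf8 yf14 zf50) (kf xf5 yf24 zf18) (kf xf8 yf13 zf49) (kf xf8 yf14 zf20)) (@D3.rec (fun _ => Pt) (kf xf6 yf10 zf10) (kf xf6 yf10 zf11) (kf xf7 yf4 zf2) (kf xf8 yf14 zf26) (kf xf6 yf10 zf19) (kf xf7 yf4 zf5) (kf xf6 yf10 zf23) (kf xf8 yf15 zf8) (kf xf6 yf10 zf25) (kf xf5 yf25 zf35) (kf xf5 yf25 zf36) (kf xf5 yf24 zf33) (kf xf5 yf24 zf34) (kf xf8 yf15 zf17) (kf xf5 yf24 zf35) (kf xf8 yf15 zf19) (kf xf8 yf15 zf20) (kf xf6 yf10 zf32) (kf xf6 yf10 zf33) (kf xf5 yf25 zf45) (kf xf5 yf25 zf46) (kf xf5 yf24 zf41) (kf xf5 yf24 zf42)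 (kf xf8 yf15 zf28) (kf xf8 yf15 zf29) (kf xf8 yf15 zf30) (kf xf6 yf1 zf28) (kf xf6 yf10 zf39) (kf xf5 yf26 zf3) (kf xf6 yf10 zf41) (kf xf5 yf26 zf5) (kf xf5 yf24 zf48) (kf xf8 yf15 zf43) (kf xf8 yf15 zf44) (kf xf6 yf10 zf45) (kf xf8 yf15 zf48) (kf xf6 yf10 zf47) (kf xf5 yf26 zf12) (kf xf5 yf26 zf13) (kf xf5 yf25 zf1) (kf xf5 yf25 zf2) (kf xf8 yf16 zf5) (kf xf8 yf16 zf4) (kf xf5 yf25 zf3) (kf xf8 yf16 zf8) (kf xf8 yf16 zf9) (kf xf6 yf11 zf5) (kf xf6 yf11 zf6) (kf xf5 yf26 zf24) (kf xf8 yf16 zf12) (kf xf6 yf11 zf10)) (@D3.rec (fun _ => Pt) (kf xf5 yf25 zf9) (kf xf8 yf16 zf17) (kf xf8 yf16 zf18) (kf xf6 yf11 zf14) (kf xf6 yf11 zf15) (kf xf5 yf26 zf32) (kf xf5 yf26 zf33) (kf xf5 yf26 zf34) (kf xf8 yf16 zf28) (kf xf5 yf25 zf16) (kf xf5 yf25 zf15) (kf xf8 yf16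 zf32) (kf xf8 yf16 zf30) (kf xf5 yf25 zf18) (kf xf5 yf25 zf19) (kf xf8 yf16 zf35) (kf xf8 yf16 zf36) (kf xf8 yf16 zf37) (kf xf6 yf11 zf28) (kf xf6 yf11 zf29) (kf xf5 yf26 zf47) (kf xf8 yf14 zf1) (kf xf5 yf25 zf26) (kf xf5 yf25 zf27) (kf xf5 yf25 zf28) (kf xf8 yf16 zf44) (kf xf8 yf16 zf45) (kf xf6 yf11 zf39) (kf xf6 yf11 zf40) (kf xf6 yf11 zf41) (kf xf8 yf16 zf48) (kf xf6 yf11 zf48) (kf xf5 yf25 zf33) (kf xf8 yf17 zf2) (kf xf8 yf17 zf3) (kf xf6 yf12 zf1) (kf xf6 yf12 zf2) (kf xf8 yf15 zf13) (kf xf8 yf15 zf14) (kf xf8 yf15 zf15) (kf xf6 yf5 zf42) (kf xf5 yf25 zf39) (kf xf8 yf17 zf15) (kf xf5 yf25 zf41) (kf xf5 yf25 zf42) (kf xf8 yf17 zf17) (kf xf8 yf17 zf18) (kf xf8 yf17 zf19) (kf xf6 yf12 zf10) (kf xf6 yf12 zf11) (kf xf8 yf15 zf26)) (@D3.rec (fun _ => Pt)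 (kf xf7 yf6 zf0) (kf xf5 yf25 zf49) (kf xf5 yf25 zf50) (kf xf5 yf26 zf0) (kf xf8 yf17 zf28) (kf xf8 yf17 zf29) (kf xf8 yf17 zf30) (kf xf8 yf17 zf32) (kf xf6 yf12 zf21) (kf xf6 yf12 zf22) (kf xf6 yf12 zf23) (kf xf6 yf12 zf24) (kf xf8 yf17 zf43) (kf xf6 yf12 zf26) (kf xf8 yf15 zf41) (kf xf8 yf15 zf42) (kf xf5 yf26 zf7) (kf xf5 yf26 zf8) (kf xf8 yf18 zf0) (kf xf8 yf18 zf2) (kf xf8 yf18 zf5) (kf xf6 yf12 zf31) (kf xf5 yf26 zf10) (kf xf8 yf18 zf10) (kf xf8 yf18 zf11) (kf xf6 yf12 zf35) (kf xf6 yf12 zf36) (kf xf6 yf23 zf20) (kf xf6 yf23 zf42) (kf xf8 yf16 zf2) (kf xf8 yf18 zf21) (kf xf5 yf26 zf17) (kf xf5 yf26 zf16) (kf xf8 yf18 zf25) (kf xf8 yf18 zf23) (kf xf5 yf26 zf19) (kf xf5 yf26 zf20) (kf xf8 yf18 zf28) (kf xf8 yf18 zf29) (kf xf8 yf18 zf30) (kf xf6 yf12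 zf47) (kf xf6 yf12 zf48) (kf xf6 yf23 zf22) (kf xf5 yf26 zf25) (kf xf8 yf18 zf37) (kf xf8 yf18 zf38) (kf xf6 yf13 zf2) (kf xf6 yf13 zf3) (kf xf5 yf26 zf28) (kf xf5 yf26 zf29) (kf xf8 yf18 zf46)) (@D3.rec (fun _ => Pt) (kf xf8 yf18 zf47) (kf xf8 yf18 zf48) (kf xf6 yf13 zf9) (kf xf8 yf19 zf6) (kf xf6 yf13 zf11) (kf xf6 yf23 zf10) (kf xf8 yf16 zf25) (kf xf8 yf19 zf11) (kf xf8 yf16 zf27) (kf xf5 yf26 zf35) (kf xf8 yf19 zf15) (kf xf5 yf26 zf39) (kf xf8 yf16 zf31) (kf xf5 yf26 zf38) (kf xf8 yf19 zf19) (kf xf7 yf7 zf15) (kf xf5 yf26 zf42) (kf xf5 yf26 zf43) (kf xf5 yf26 zf44) (kf xf8 yf19 zf21) (kf xf8 yf19 zf22) (kf xf8 yf19 zf23) (kf xf8 yf19 zf25) (kf xf6 yf13 zf28) (kf xf6 yf13 zf29) (kf xf6 yf13 zf30) (kf xf7 yf7 zf26) (kf xf6 yf0 zf1) (kf xf6 yf0 zf2) (kf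 xf6 yf0 zf3) (kf xf6 yf12 zf17) (kf xf6 yf0 zf4) (kf xf8 yf19 zf35) (kf xf8 yf19 zf36) (kf xf8 yf19 zf37) (kf xf8 yf19 zf39) (kf xf8 yf19 zf41) (kf xf6 yf13 zf42) (kf xf6 yf13 zf43) (kf xf6 yf13 zf44) (kf xf6 yf0 zf19) (kf xf6 yf0 zf8) (kf xf8 yf20 zf1) (kf xf7 yf7 zf43) (kf xf7 yf7 zf44) (kf xf6 yf0 zf10) (kf xf8 yf20 zf6) (kf xf7 yf7 zf47) (kf xf6 yf0 zf13) (kf xf8 yf20 zf7) (kf xf8 yf20 zf8)) (@D3.rec (fun _ => Pt) (kf xf7 yf8 zf0) (kf xf7 yf8 zf1) (kf xf7 yf8 zf2) (kf xf6 yf0 zf17) (kf xf6 yf1 zf34) (kf xf8 yf20 zf0) (kf xf7 yf8 zf6) (kf xf7 yf8 zf7) (kf xf7 yf8 zf8) (kf xf7 yf8 zf9) (kf xf6 yf0 zf24) (kf xf8 yf20 zf23) (kf xf6 yf13 zf46) (kf xf7 yf8 zf13) (kf xf6 yf0 zf26) (kf xf8 yf20 zf30) (kf xf8 yf20 zf31) (kf xf8 yf20 zf33) (kf xf6 yf14 zf0)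 (kf xf7 yf8 zf19) (kf xf7 yf8 zf20) (kf xf6 yf0 zf30) (kf xf6 yf14 zf4) (kf xf8 yf20 zf42) (kf xf6 yf14 zf6) (kf xf7 yf8 zf25) (kf xf7 yf8 zf26) (kf xf6 yf0 zf35) (kf xf6 yf0 zf36) (kf xf8 yf21 zf1) (kf xf8 yf21 zf0) (kf xf6 yf0 zf37) (kf xf8 yf21 zf4) (kf xf8 yf21 zf5) (kf xf6 yf14 zf15) (kf xf6 yf14 zf16) (kf xf7 yf8 zf36) (kf xf7 yf8 zf37) (kf xf6 yf0 zf43) (kf xf6 yf0 zf44) (kf xf8 yf21 zf13) (kf xf6 yf15 zf14) (kf xf8 yf21 zf14) (kf xf6 yf1 zf29) (kf xf6 yf14 zf20) (kf xf7 yf8 zf45) (kf xf6 yf14 zf22) (kf xf7 yf8 zf47) (kf xf6 yf0 zf50) (kf xf8 yf21 zf26) (kf xf6 yf14 zf24)) (@D3.rec (fun _ => Pt) (kf xf8 yf21 zf29) (kf xf6 yf14 zf26) (kf xf7 yf9 zf2) (kf xf7 yf9 zf3) (kf xf6 yf1 zf3) (kf xf6 yf1 zf4) (kf xf8 yf21 zf38) (kf xf6 yf1 zf5) (kf xf8 yf21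 zf40) (kf xf8 yf21 zf41) (kf xf6 yf14 zf33) (kf xf6 yf14 zf34) (kf xf7 yf9 zf12) (kf xf7 yf9 zf13) (kf xf8 yf21 zf48) (kf xf6 yf14 zf38) (kf xf6 yf1 zf11) (kf xf8 yf22 zf2) (kf xf8 yf22 zf3) (kf xf6 yf14 zf42) (kf xf6 yf14 zf43) (kf xf7 yf9 zf21) (kf xf7 yf9 zf22) (kf xf7 yf9 zf23) (kf xf8 yf22 zf13) (kf xf6 yf1 zf18) (kf xf6 yf1 zf17) (kf xf8 yf22 zf17) (kf xf8 yf22 zf15) (kf xf6 yf1 zf20) (kf xf6 yf1 zf21) (kf xf8 yf15 zf35) (kf xf8 yf21 zf18) (kf xf8 yf22 zf20) (kf xf6 yf15 zf5) (kf xf6 yf15 zf6) (kf xf7 yf9 zf36) (kf xf6 yf3 zf35) (kf xf6 yf1 zf30) (kf xf8 yf15 zf36) (kf xf8 yf21 zf19) (kf xf6 yf15 zf16) (kf xf6 yf15 zf17) (kf xf6 yf15 zf18) (kf xf8 yf20 zf15) (kf xf6 yf3 zf48) (kf xf6 yf1 zf36) (kf xf8 yf22 zf34) (kf xf8 yf22 zf35) (kf xf6 yf4 zf6)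 (kf xf7 yf9 zf50)) (@D3.rec (fun _ => Pt) (kf xf6 yf4 zf1) (kf xf6 yf4 zf2) (kf xf6 yf1 zf40) (kf xf7 yf10 zf3) (kf xf6 yf4 zf7) (kf xf6 yf1 zf45) (kf xf6 yf1 zf46) (kf xf8 yf22 zf47) (kf xf8 yf22 zf46) (kf xf6 yf1 zf47) (kf xf8 yf22 zf50) (kf xf7 yf10 zf11) (kf xf7 yf10 zf12) (kf xf6 yf4 zf16) (kf xf6 yf4 zf17) (kf xf6 yf2 zf2) (kf xf6 yf2 zf3) (kf xf8 yf23 zf5) (kf xf8 yf23 zf6) (kf xf8 yf23 zf7) (kf xf7 yf10 zf20) (kf xf7 yf10 zf21) (kf xf6 yf4 zf25) (kf xf6 yf15 zf19) (kf xf6 yf4 zf27) (kf xf6 yf2 zf9) (kf xf8 yf23 zf20) (kf xf6 yf15 zf21) (kf xf8 yf23 zf23) (kf xf6 yf15 zf23) (kf xf6 yf4 zf32) (kf xf6 yf4 zf33) (kf xf6 yf2 zf13) (kf xf6 yf2 zf14) (kf xf8 yf23 zf32) (kf xf6 yf2 zf15) (kf xf8 yf23 zf34) (kf xf8 yf23 zf35) (kf xf6 yf15 zf30) (kf xf6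 yf15 zf31) (kf xf6 yf4 zf41) (kf xf6 yf4 zf42) (kf xf8 yf23 zf42) (kf xf6 yf15 zf35) (kf xf6 yf2 zf21) (kf xf8 yf23 zf47) (kf xf8 yf23 zf48) (kf xf6 yf15 zf39) (kf xf6 yf15 zf40) (kf xf6 yf4 zf50) (kf xf6 yf5 zf0)) (@D3.rec (fun _ => Pt) (kf xf6 yf5 zf1) (kf xf8 yf24 zf8) (kf xf6 yf2 zf28) (kf xf6 yf2 zf27) (kf xf8 yf24 zf12) (kf xf8 yf24 zf10) (kf xf6 yf2 zf30) (kf xf6 yf2 zf31) (kf xf8 yf24 zf15) (kf xf8 yf24 zf16) (kf xf8 yf24 zf17) (kf xf6 yf16 zf0) (kf xf6 yf16 zf1) (kf xf6 yf5 zf14) (kf xf8 yf21 zf12) (kf xf6 yf2 zf38) (kf xf6 yf2 zf39) (kf xf6 yf2 zf40) (kf xf8 yf24 zf26) (kf xf8 yf24 zf27) (kf xf8 yf24 zf28) (kf xf8 yf24 zf30) (kf xf6 yf16 zf9) (kf xf6 yf16 zf10) (kf xf6 yf16 zf11) (kf xf6 yf16 zf12) (kf xf8 yf24 zf42) (kf xf6 yf15 zf44) (kf xf6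 yf5 zf29) (kf xf6 yf5 zf30) (kf xf6 yf2 zf47) (kf xf8 yf24 zf49) (kf xf6 yf16 zf16) (kf xf6 yf2 zf49) (kf xf8 yf25 zf3) (kf xf8 yf25 zf4) (kf xf6 yf16 zf20) (kf xf6 yf16 zf21) (kf xf6 yf5 zf39) (kf xf6 yf5 zf40) (kf xf6 yf5 zf41) (kf xf8 yf15 zf16) (kf xf6 yf3 zf4) (kf xf8 yf25 zf16) (kf xf6 yf3 zf6) (kf xf6 yf3 zf7) (kf xf8 yf25 zf18) (kf xf8 yf25 zf19) (kf xf8 yf25 zf20) (kf xf6 yf16 zf29) (kf xf6 yf16 zf30)) (@D3.rec (fun _ => Pt) (kf xf6 yf6 zf1) (kf xf6 yf3 zf12) (kf xf8 yf25 zf29) (kf xf8 yf25 zf30) (kf xf6 yf16 zf35) (kf xf6 yf16 zf36) (kf xf6 yf3 zf15) (kf xf6 yf3 zf16) (kf xf8 yf25 zf38) (kf xf8 yf25 zf39) (kf xf8 yf25 zf40) (kf xf6 yf16 zf42) (kf xf8 yf25 zf49) (kf xf6 yf16 zf44) (kf xf6 yf6 zf15) (kf xf6 yf6 zf16) (kf xf8 yf26 zf3) (kf xf6 yf6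 zf18) (kf xf6 yf3 zf22) (kf xf8 yf26 zf7) (kf xf6 yf3 zf26) (kf xf6 yf6 zf22) (kf xf6 yf3 zf25) (kf xf8 yf26 zf11) (kf xf8 yf22 zf19) (kf xf6 yf3 zf29) (kf xf6 yf3 zf30) (kf xf6 yf3 zf31) (kf xf8 yf26 zf13) (kf xf8 yf26 zf14) (kf xf8 yf26 zf15) (kf xf8 yf26 zf17) (kf xf6 yf17 zf10) (kf xf6 yf17 zf11) (kf xf6 yf17 zf12) (kf xf8 yf15 zf33) (kf xf6 yf3 zf39) (kf xf6 yf3 zf40) (kf xf6 yf3 zf41) (kf xf7 yf12 zf39) (kf xf6 yf3 zf42) (kf xf8 yf26 zf28) (kf xf8 yf26 zf29) (kf xf8 yf26 zf31) (kf xf8 yf26 zf33) (kf xf6 yf17 zf24) (kf xf6 yf17 zf25) (kf xf6 yf17 zf26) (kf xf6 yf3 zf47) (kf xf8 yf26 zf41) (kf xf8 yf26 zf42)) (@D3.rec (fun _ => Pt) (kf xf8 yf22 zf33) (kf xf6 yf3 zf50) (kf xf6 yf4 zf0) (kf xf8 yf26 zf47) (kf xf8 yf22 zf40) (kf xf8 yf22 zf41) (kf xf7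 yf0 zf39) (kf xf7 yf13 zf7) (kf xf7 yf13 zf8) (kf xf8 yf22 zf37) (kf xf8 yf22 zf43) (kf xf8 yf22 zf44) (kf xf9 yf0 zf6) (kf xf6 yf4 zf11) (kf xf6 yf4 zf10) (kf xf9 yf0 zf10) (kf xf9 yf0 zf8) (kf xf6 yf4 zf14) (kf xf7 yf0 zf41) (kf xf9 yf0 zf12) (kf xf8 yf23 zf4) (kf xf6 yf4 zf20) (kf xf6 yf4 zf21) (kf xf6 yf4 zf22) (kf xf7 yf0 zf45) (kf xf9 yf0 zf14) (kf xf7 yf0 zf48) (kf xf9 yf0 zf16) (kf xf7 yf13 zf28) (kf xf7 yf13 zf29) (kf xf9 yf0 zf20) (kf xf6 yf12 zf40) (kf xf8 yf23 zf18) (kf xf8 yf23 zf19) (kf xf6 yf4 zf29) (kf xf6 yf4 zf30) (kf xf9 yf0 zf27) (kf xf9 yf0 zf28) (kf xf6 yf17 zf32) (kf xf6 yf17 zf33) (kf xf8 yf23 zf28) (kf xf8 yf23 zf29) (kf xf8 yf23 zf30) (kf xf8 yf18 zf1) (kf xf6 yf4 zf36) (kf xf9 yf0 zf39) (kf xf6 yf4 zf38) (kf xf6 yf4 zf39) (kf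 xf9 yf0 zf41) (kf xf9 yf0 zf42) (kf xf8 yf23 zf41)) (@D3.rec (fun _ => Pt) (kf xf6 yf4 zf43) (kf xf9 yf0 zf45) (kf xf9 yf0 zf46) (kf xf6 yf17 zf44) (kf xf6 yf17 zf45) (kf xf6 yf4 zf46) (kf xf6 yf4 zf47) (kf xf9 yf1 zf2) (kf xf9 yf1 zf3) (kf xf9 yf1 zf4) (kf xf6 yf18 zf0) (kf xf9 yf1 zf13) (kf xf6 yf18 zf2) (kf xf8 yf24 zf4) (kf xf8 yf24 zf5) (kf xf9 yf1 zf18) (kf xf8 yf24 zf7) (kf xf6 yf5 zf2) (kf xf9 yf1 zf22) (kf xf6 yf5 zf6) (kf xf8 yf24 zf11) (kf xf6 yf5 zf5) (kf xf9 yf1 zf26) (kf xf7 yf14 zf23) (kf xf6 yf5 zf9) (kf xf6 yf5 zf10) (kf xf6 yf5 zf11) (kf xf9 yf1 zf28) (kf xf9 yf1 zf29) (kf xf9 yf1 zf30) (kf xf9 yf1 zf32) (kf xf6 yf18 zf16) (kf xf6 yf18 zf17) (kf xf7 yf14 zf33) (kf xf6 yf5 zf19) (kf xf6 yf5 zf20) (kf xf6 yf5 zf21) (kf xf9 yf0 zf15) (kf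 xf6 yf5 zf22) (kf xf9 yf1 zf40) (kf xf9 yf1 zf42) (kf xf9 yf1 zf43) (kf xf9 yf1 zf45) (kf xf9 yf1 zf47) (kf xf6 yf18 zf29) (kf xf6 yf18 zf30) (kf xf6 yf18 zf31) (kf xf9 yf2 zf4) (kf xf6 yf18 zf33) (kf xf6 yf5 zf27) (kf xf9 yf2 zf9)) (@D3.rec (fun _ => Pt) (kf xf9 yf2 zf10) (kf xf6 yf18 zf1) (kf xf6 yf18 zf7) (kf xf8 yf24 zf47) (kf xf8 yf24 zf48) (kf xf6 yf5 zf32) (kf xf9 yf2 zf18) (kf xf9 yf2 zf19) (kf xf6 yf18 zf39) (kf xf6 yf18 zf40) (kf xf6 yf5 zf35) (kf xf6 yf5 zf36) (kf xf9 yf2 zf26) (kf xf9 yf2 zf27) (kf xf9 yf2 zf28) (kf xf6 yf18 zf46) (kf xf8 yf17 zf8) (kf xf6 yf18 zf47) (kf xf8 yf25 zf11) (kf xf8 yf25 zf12) (kf xf9 yf2 zf41) (kf xf8 yf25 zf14) (kf xf8 yf17 zf14) (kf xf6 yf5 zf44) (kf xf7 yf15 zf24) (kf xf6 yf5 zf47) (kf xf6 yf5 zf48) (kf xf6 yf5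 zf49) (kf xf9 yf2 zf46) (kf xf9 yf2 zf47) (kf xf9 yf2 zf48) (kf xf9 yf2 zf50) (kf xf6 yf19 zf6) (kf xf6 yf19 zf7) (kf xf7 yf15 zf34) (kf xf6 yf6 zf3) (kf xf6 yf6 zf4) (kf xf9 yf3 zf9) (kf xf9 yf3 zf10) (kf xf9 yf3 zf11) (kf xf6 yf19 zf14) (kf xf9 yf3 zf20) (kf xf6 yf19 zf16) (kf xf7 yf15 zf43) (kf xf6 yf6 zf9) (kf xf6 yf6 zf10) (kf xf6 yf6 zf11) (kf xf9 yf3 zf24) (kf xf9 yf3 zf25) (kf xf9 yf3 zf26) (kf xf9 yf3 zf35)) (@D3.rec (fun _ => Pt) (kf xf9 yf3 zf28) (kf xf6 yf19 zf26) (kf xf9 yf3 zf41) (kf xf6 yf19 zf28) (kf xf6 yf6 zf13) (kf xf9 yf3 zf45) (kf xf6 yf19 zf31) (kf xf9 yf3 zf47) (kf xf8 yf26 zf2) (kf xf6 yf6 zf17) (kf xf9 yf4 zf0) (kf xf8 yf26 zf5) (kf xf9 yf3 zf50) (kf xf6 yf6 zf20) (kf xf9 yf4 zf4) (kf xf8 yf26 zf9) (kf xf8 yf26 zf10) (kf xf6 yf6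 zf24) (kf xf7 yf16 zf18) (kf xf6 yf6 zf29) (kf xf6 yf6 zf30) (kf xf6 yf6 zf31) (kf xf7 yf16 zf22) (kf xf6 yf6 zf32) (kf xf9 yf4 zf10) (kf xf9 yf4 zf12) (kf xf9 yf4 zf13) (kf xf9 yf4 zf15) (kf xf9 yf4 zf17) (kf xf6 yf20 zf0) (kf xf6 yf20 zf1) (kf xf6 yf20 zf2) (kf xf7 yf16 zf32) (kf xf7 yf16 zf33) (kf xf6 yf6 zf42) (kf xf7 yf16 zf35) (kf xf6 yf6 zf43) (kf xf6 yf6 zf44) (kf xf7 yf16 zf38) (kf xf6 yf6 zf45) (kf xf7 yf16 zf40) (kf xf6 yf6 zf46) (kf xf9 yf4 zf30) (kf xf9 yf4 zf32) (kf xf9 yf4 zf34) (kf xf9 yf4 zf35) (kf xf9 yf4 zf37) (kf xf9 yf4 zf40) (kf xf6 yf20 zf19) (kf xf6 yf20 zf20) (kf xf6 yf20 zf21)) (@D3.rec (fun _ => Pt) (kf xf6 yf7 zf19) (kf xf7 yf17 zf1) (kf xf7 yf17 zf2) (kf xf6 yf7 zf5) (kf xf6 yf7 zf6) (kf xf9 yf5 zf3) (kf xf9 yf5 zf4) (kf xf7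 yf17 zf7) (kf xf7 yf17 zf8) (kf xf6 yf7 zf12) (kf xf6 yf7 zf13) (kf xf7 yf0 zf30) (kf xf9 yf5 zf7) (kf xf9 yf5 zf9) (kf xf7 yf17 zf14) (kf xf7 yf17 zf15) (kf xf6 yf7 zf21) (kf xf6 yf7 zf24) (kf xf6 yf7 zf22) (kf xf6 yf7 zf23) (kf xf6 yf7 zf25) (kf xf9 yf1 zf44) (kf xf9 yf5 zf8) (kf xf9 yf1 zf41) (kf xf6 yf21 zf1) (kf xf6 yf21 zf2) (kf xf6 yf21 zf3) (kf xf7 yf17 zf27) (kf xf6 yf7 zf30) (kf xf6 yf7 zf31) (kf xf9 yf5 zf16) (kf xf9 yf5 zf17) (kf xf7 yf17 zf32) (kf xf7 yf17 zf33) (kf xf6 yf7 zf37) (kf xf6 yf7 zf38) (kf xf7 yf17 zf36) (kf xf9 yf5 zf20) (kf xf9 yf5 zf22) (kf xf6 yf21 zf16) (kf xf7 yf17 zf40) (kf xf7 yf17 zf41) (kf xf7 yf17 zf42) (kf xf6 yf7 zf43) (kf xf6 yf7 zf44) (kf xf6 yf7 zf45) (kf xf9 yf5 zf30) (kf xf9 yf5 zf31) (kf xf9 yf5 zf32) (kf xf9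 yf5 zf34) (kf xf6 yf21 zf27)) (@D3.rec (fun _ => Pt) (kf xf6 yf21 zf28) (kf xf7 yf18 zf1) (kf xf6 yf8 zf0) (kf xf6 yf8 zf1) (kf xf6 yf22 zf5) (kf xf9 yf5 zf42) (kf xf9 yf5 zf43) (kf xf6 yf21 zf35) (kf xf7 yf18 zf8) (kf xf7 yf18 zf9) (kf xf6 yf8 zf9) (kf xf7 yf18 zf11) (kf xf6 yf8 zf10) (kf xf6 yf8 zf11) (kf xf7 yf18 zf14) (kf xf6 yf8 zf12) (kf xf7 yf18 zf16) (kf xf6 yf8 zf13) (kf xf9 yf5 zf50) (kf xf9 yf6 zf1) (kf xf9 yf6 zf3) (kf xf9 yf6 zf4) (kf xf9 yf6 zf6) (kf xf9 yf6 zf9) (kf xf6 yf22 zf1) (kf xf6 yf22 zf2) (kf xf6 yf22 zf3) (kf xf7 yf18 zf27) (kf xf6 yf8 zf28) (kf xf7 yf18 zf29) (kf xf6 yf8 zf27) (kf xf6 yf8 zf29) (kf xf6 yf8 zf30) (kf xf7 yf18 zf33) (kf xf6 yf8 zf31) (kf xf6 yf8 zf32) (kf xf7 yf18 zf36) (kf xf9 yf6 zf20) (kf xf9 yf5 zf48) (kf xf9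 yf4 zf28) (kf xf9 yf6 zf21) (kf xf9 yf6 zf22) (kf xf9 yf6 zf23) (kf xf6 yf22 zf9) (kf xf6 yf22 zf10) (kf xf8 yf13 zf10) (kf xf8 yf13 zf40) (kf xf6 yf8 zf45) (kf xf8 yf13 zf41) (kf xf6 yf9 zf31) (kf xf8 yf13 zf44)) (@D3.rec (fun _ => Pt) (kf xf9 yf6 zf32) (kf xf7 yf1 zf16) (kf xf6 yf9 zf4) (kf xf7 yf1 zf14) (kf xf6 yf9 zf9) (kf xf6 yf9 zf11) (kf xf6 yf9 zf13) (kf xf6 yf9 zf14) (kf xf9 yf6 zf35) (kf xf9 yf6 zf36) (kf xf9 yf6 zf34) (kf xf6 yf10 zf8) (kf xf6 yf9 zf23) (kf xf6 yf9 zf21) (kf xf6 yf9 zf22) (kf xf8 yf15 zf27) (kf xf6 yf16 zf3) (kf xf6 yf11 zf31) (kf xf6 yf14 zf13) (kf xf6 yf10 zf15) (kf xf8 yf14 zf9) (kf xf8 yf14 zf33) (kf xf8 yf14 zf11) (kf xf7 yf19 zf23) (kf xf6 yf9 zf30) (kf xf8 yf14 zf21) (kf xf7 yf19 zf26) (kf xf8 yf14 zf28) (kf xf6 yf9 zf39)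 (kf xf9 yf6 zf46) (kf xf8 yf14 zf35) (kf xf7 yf19 zf31) (kf xf6 yf9 zf43) (kf xf6 yf9 zf44) (kf xf9 yf7 zf0) (kf xf6 yf9 zf45) (kf xf9 yf7 zf1) (kf xf6 yf22 zf25) (kf xf8 yf14 zf40) (kf xf7 yf19 zf39) (kf xf7 yf19 zf40) (kf xf8 yf14 zf42) (kf xf6 yf10 zf0) (kf xf9 yf7 zf8) (kf xf8 yf14 zf46) (kf xf8 yf14 zf47) (kf xf7 yf19 zf46) (kf xf9 yf7 zf14) (kf xf6 yf10 zf6) (kf xf6 yf10 zf5) (kf xf9 yf7 zf17)) (@D3.rec (fun _ => Pt) (kf xf6 yf10 zf9) (kf xf9 yf6 zf39) (kf xf8 yf14 zf19) (kf xf9 yf7 zf18) (kf xf8 yf15 zf4) (kf xf8 yf15 zf5) (kf xf7 yf20 zf6) (kf xf6 yf10 zf17) (kf xf8 yf14 zf24) (kf xf8 yf14 zf25) (kf xf6 yf14 zf14) (kf xf6 yf14 zf19) (kf xf9 yf7 zf26) (kf xf8 yf15 zf7) (kf xf6 yf10 zf24) (kf xf9 yf7 zf30) (kf xf9 yf7 zf31) (kf xf8 yf15 zf11) (kf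 xf8 yf15 zf12) (kf xf6 yf12 zf3) (kf xf6 yf12 zf4) (kf xf6 yf10 zf30) (kf xf6 yf10 zf31) (kf xf9 yf7 zf37) (kf xf8 yf15 zf24) (kf xf8 yf15 zf25) (kf xf6 yf12 zf12) (kf xf6 yf10 zf38) (kf xf8 yf15 zf37) (kf xf8 yf15 zf38) (kf xf9 yf7 zf40) (kf xf8 yf15 zf40) (kf xf6 yf12 zf28) (kf xf6 yf10 zf44) (kf xf6 yf10 zf46) (kf xf9 yf7 zf45) (kf xf8 yf16 zf0) (kf xf8 yf16 zf1) (kf xf6 yf12 zf37) (kf xf6 yf12 zf38) (kf xf6 yf12 zf39) (kf xf8 yf23 zf17) (kf xf6 yf11 zf1) (kf xf6 yf11 zf3) (kf xf6 yf11 zf4) (kf xf9 yf8 zf4) (kf xf9 yf8 zf5) (kf xf9 yf8 zf6) (kf xf8 yf16 zf11) (kf xf6 yf12 zf49) (kf xf6 yf11 zf9)) (@D3.rec (fun _ => Pt) (kf xf9 yf8 zf11) (kf xf8 yf16 zf15) (kf xf8 yf16 zf16) (kf xf6 yf11 zf12) (kf xf6 yf11 zf13) (kf xf9 yf8 zf17) (kf xf9 yf8 zf18) (kf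 xf9 yf8 zf19) (kf xf8 yf16 zf22) (kf xf9 yf8 zf28) (kf xf8 yf16 zf24) (kf xf6 yf13 zf13) (kf xf9 yf8 zf31) (kf xf6 yf13 zf15) (kf xf6 yf11 zf19) (kf xf9 yf8 zf34) (kf xf6 yf13 zf18) (kf xf6 yf11 zf22) (kf xf9 yf6 zf38) (kf xf6 yf11 zf25) (kf xf6 yf11 zf26) (kf xf6 yf11 zf27) (kf xf9 yf8 zf38) (kf xf9 yf8 zf39) (kf xf9 yf8 zf40) (kf xf9 yf8 zf42) (kf xf8 yf16 zf41) (kf xf8 yf16 zf42) (kf xf8 yf16 zf43) (kf xf8 yf15 zf31) (kf xf6 yf11 zf35) (kf xf6 yf11 zf36) (kf xf6 yf11 zf37) (kf xf7 yf21 zf33) (kf xf6 yf11 zf38) (kf xf8 yf24 zf25) (kf xf9 yf9 zf0) (kf xf9 yf9 zf1) (kf xf9 yf9 zf2) (kf xf9 yf8 zf50) (kf xf8 yf16 zf46) (kf xf8 yf16 zf47) (kf xf6 yf15 zf13) (kf xf8 yf13 zf32) (kf xf8 yf13 zf33) (kf xf7 yf21 zf45) (kf xf7 yf21 zf46) (kf xf7 yf21 zf47) (kf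 xf6 yf11 zf47) (kf xf9 yf9 zf19) (kf xf9 yf9 zf20)) (@D3.rec (fun _ => Pt) (kf xf8 yf17 zf0) (kf xf8 yf17 zf1) (kf xf6 yf11 zf50) (kf xf6 yf12 zf0) (kf xf9 yf9 zf26) (kf xf9 yf9 zf27) (kf xf9 yf9 zf28) (kf xf8 yf17 zf7) (kf xf8 yf17 zf9) (kf xf9 yf7 zf36) (kf xf7 yf22 zf10) (kf xf6 yf12 zf7) (kf xf6 yf12 zf8) (kf xf6 yf12 zf9) (kf xf8 yf19 zf24) (kf xf9 yf9 zf36) (kf xf9 yf9 zf37) (kf xf9 yf9 zf38) (kf xf8 yf17 zf24) (kf xf8 yf17 zf25) (kf xf8 yf17 zf26) (kf xf6 yf12 zf18) (kf xf6 yf12 zf19) (kf xf6 yf12 zf20) (kf xf8 yf19 zf38) (kf xf8 yf19 zf40) (kf xf9 yf9 zf47) (kf xf9 yf9 zf48) (kf xf9 yf9 zf49) (kf xf8 yf17 zf38) (kf xf8 yf17 zf39) (kf xf8 yf17 zf40) (kf xf9 yf10 zf8) (kf xf8 yf17 zf42) (kf xf6 yf12 zf25) (kf xf9 yf10 zf11) (kf xf9 yf10 zf12) (kf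 xf8 yf17 zf46) (kf xf8 yf17 zf47) (kf xf6 yf26 zf41) (kf xf9 yf7 zf44) (kf xf6 yf12 zf30) (kf xf9 yf9 zf18) (kf xf9 yf10 zf18) (kf xf8 yf18 zf8) (kf xf8 yf18 zf9) (kf xf6 yf12 zf33) (kf xf6 yf12 zf34) (kf xf9 yf10 zf25) (kf xf9 yf10 zf26) (kf xf9 yf10 zf27)) (@D3.rec (fun _ => Pt) (kf xf8 yf18 zf15) (kf xf9 yf0 zf23) (kf xf8 yf18 zf17) (kf xf6 yf26 zf44) (kf xf9 yf7 zf50) (kf xf9 yf10 zf40) (kf xf9 yf8 zf1) (kf xf9 yf0 zf24) (kf xf7 yf23 zf8) (kf xf6 yf12 zf44) (kf xf6 yf12 zf45) (kf xf6 yf12 zf46) (kf xf9 yf10 zf43) (kf xf9 yf10 zf44) (kf xf9 yf10 zf45) (kf xf9 yf10 zf47) (kf xf6 yf26 zf3) (kf xf8 yf18 zf34) (kf xf8 yf18 zf35) (kf xf6 yf26 zf22) (kf xf6 yf13 zf0) (kf xf6 yf13 zf1) (kf xf9 yf11 zf7) (kf xf9 yf11 zf8) (kf xf9 yf11 zf9) (kf xf8 yf18 zf42)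 (kf xf9 yf11 zf18) (kf xf8 yf18 zf44) (kf xf7 yf23 zf28) (kf xf6 yf13 zf6) (kf xf6 yf13 zf7) (kf xf6 yf13 zf8) (kf xf9 yf11 zf22) (kf xf9 yf11 zf23) (kf xf9 yf11 zf24) (kf xf9 yf11 zf33) (kf xf9 yf11 zf26) (kf xf8 yf19 zf3) (kf xf9 yf11 zf39) (kf xf8 yf19 zf5) (kf xf6 yf13 zf10) (kf xf9 yf11 zf43) (kf xf8 yf19 zf8) (kf xf9 yf11 zf45) (kf xf6 yf26 zf46) (kf xf6 yf13 zf14) (kf xf9 yf11 zf48) (kf xf9 yf11 zf47) (kf xf6 yf13 zf17) (kf xf9 yf8 zf35) (kf xf9 yf8 zf36)) (@D3.rec (fun _ => Pt) (kf xf7 yf24 zf0) (kf xf6 yf13 zf24) (kf xf6 yf13 zf25) (kf xf6 yf13 zf26) (kf xf7 yf24 zf4) (kf xf6 yf13 zf27) (kf xf9 yf12 zf3) (kf xf9 yf12 zf5) (kf xf9 yf12 zf6) (kf xf9 yf12 zf8) (kf xf9 yf12 zf10) (kf xf8 yf19 zf31) (kf xf8 yf19 zf32) (kf xf8 yf19 zf33) (kf xf7 yf24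 zf14) (kf xf7 yf24 zf15) (kf xf6 yf13 zf37) (kf xf7 yf24 zf17) (kf xf6 yf13 zf38) (kf xf6 yf13 zf39) (kf xf7 yf24 zf20) (kf xf6 yf13 zf40) (kf xf7 yf24 zf22) (kf xf6 yf13 zf41) (kf xf9 yf12 zf21) (kf xf9 yf12 zf23) (kf xf9 yf12 zf25) (kf xf9 yf12 zf26) (kf xf9 yf12 zf28) (kf xf9 yf12 zf31) (kf xf8 yf19 zf48) (kf xf8 yf19 zf49) (kf xf8 yf19 zf50) (kf xf8 yf20 zf21) (kf xf8 yf20 zf25) (kf xf8 yf21 zf21) (kf xf8 yf20 zf27) (kf xf7 yf24 zf37) (kf xf6 yf13 zf49) (kf xf6 yf13 zf50) (kf xf8 yf24 zf39) (kf xf9 yf7 zf24) (kf xf8 yf20 zf36) (kf xf8 yf20 zf37) (kf xf7 yf24 zf44) (kf xf7 yf24 zf45) (kf xf8 yf20 zf41) (kf xf6 yf14 zf5) (kf xf9 yf7 zf22) (kf xf8 yf20 zf45) (kf xf8 yf20 zf46)) (@D3.rec (fun _ => Pt) (kf xf7 yf25 zf0) (kf xf7 yf25 zf1) (kf xf7 yf25 zf2)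 (kf xf8 yf21 zf23) (kf xf6 yf14 zf11) (kf xf9 yf7 zf25) (kf xf8 yf21 zf9) (kf xf8 yf21 zf10) (kf xf7 yf25 zf8) (kf xf8 yf21 zf20) (kf xf8 yf21 zf28) (kf xf6 yf14 zf25) (kf xf8 yf23 zf15) (kf xf9 yf13 zf14) (kf xf8 yf21 zf32) (kf xf8 yf21 zf33) (kf xf7 yf25 zf16) (kf xf7 yf25 zf17) (kf xf6 yf14 zf31) (kf xf6 yf14 zf32) (kf xf9 yf13 zf22) (kf xf9 yf13 zf23) (kf xf9 yf13 zf24) (kf xf8 yf21 zf45) (kf xf8 yf21 zf46) (kf xf7 yf25 zf25) (kf xf6 yf14 zf37) (kf xf8 yf22 zf0) (kf xf8 yf22 zf1) (kf xf6 yf14 zf40) (kf xf6 yf14 zf41) (kf xf9 yf13 zf32) (kf xf9 yf13 zf33) (kf xf9 yf13 zf34) (kf xf8 yf22 zf7) (kf xf9 yf13 zf41) (kf xf8 yf22 zf9) (kf xf7 yf25 zf37) (kf xf7 yf25 zf38) (kf xf6 yf14 zf47) (kf xf9 yf13 zf45) (kf xf7 yf25 zf41) (kf xf6 yf14 zf50) (kf xf6 yf17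 zf2) (kf xf6 yf15 zf2) (kf xf6 yf15 zf3) (kf xf6 yf15 zf4) (kf xf9 yf13 zf49) (kf xf9 yf9 zf10) (kf xf9 yf13 zf50) (kf xf9 yf14 zf1)) (@D3.rec (fun _ => Pt) (kf xf8 yf22 zf24) (kf xf8 yf22 zf25) (kf xf8 yf22 zf26) (kf xf6 yf17 zf13) (kf xf6 yf15 zf12) (kf xf6 yf22 zf43) (kf xf6 yf15 zf15) (kf xf8 yf21 zf15) (kf xf9 yf9 zf11) (kf xf8 yf21 zf7) (kf xf8 yf21 zf17) (kf xf9 yf14 zf11) (kf xf8 yf22 zf28) (kf xf8 yf22 zf29) (kf xf8 yf22 zf30) (kf xf9 yf14 zf19) (kf xf9 yf14 zf20) (kf xf8 yf23 zf22) (kf xf6 yf15 zf22) (kf xf9 yf14 zf24) (kf xf9 yf14 zf25) (kf xf8 yf23 zf26) (kf xf8 yf23 zf27) (kf xf6 yf17 zf34) (kf xf6 yf17 zf35) (kf xf6 yf15 zf28) (kf xf6 yf15 zf29) (kf xf9 yf14 zf33) (kf xf9 yf14 zf34) (kf xf9 yf14 zf35) (kf xf8 yf23 zf39) (kf xf8 yf23 zf40)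 (kf xf6 yf17 zf40) (kf xf6 yf15 zf34) (kf xf9 yf14 zf42) (kf xf8 yf23 zf45) (kf xf8 yf23 zf46) (kf xf6 yf15 zf37) (kf xf6 yf15 zf38) (kf xf9 yf14 zf49) (kf xf9 yf14 zf50) (kf xf9 yf15 zf0) (kf xf8 yf24 zf1) (kf xf8 yf24 zf45) (kf xf8 yf24 zf3) (kf xf6 yf18 zf3) (kf xf6 yf18 zf4) (kf xf9 yf15 zf12) (kf xf6 yf18 zf6) (kf xf8 yf24 zf46) (kf xf9 yf6 zf40))
def f_f_8 : D2 → D3 → Pt := @D2.rec (fun _ => D3 → Pt) (@D3.rec (fun _ => Pt) (kf xf6 yf15 zf48) (kf xf6 yf15 zf49) (kf xf6 yf15 zf50) (kf xf9 yf15 zf14) (kf xf9 yf15 zf15) (kf xf9 yf15 zf17) (kf xf8 yf24 zf22) (kf xf8 yf24 zf23) (kf xf8 yf24 zf24) (kf xf6 yf16 zf7) (kf xf8 yf0 zf10) (kf xf6 yf16 zf8) (kf xf9 yf15 zf24) (kf xf8 yf24 zf36) (kf xf8 yf24 zf37) (kf xf8 yf24 zf38) (kf xf8 yf24 zf41) (kf xf6 yf16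 zf13) (kf xf6 yf16 zf15) (kf xf9 yf15 zf30) (kf xf8 yf25 zf1) (kf xf8 yf25 zf2) (kf xf6 yf16 zf18) (kf xf6 yf16 zf19) (kf xf9 yf15 zf36) (kf xf9 yf15 zf37) (kf xf9 yf15 zf38) (kf xf8 yf25 zf8) (kf xf8 yf25 zf10) (kf xf6 yf18 zf48) (kf xf9 yf13 zf21) (kf xf6 yf16 zf26) (kf xf6 yf16 zf27) (kf xf6 yf16 zf28) (kf xf9 yf15 zf47) (kf xf9 yf15 zf48) (kf xf9 yf15 zf49) (kf xf9 yf16 zf0) (kf xf8 yf25 zf25) (kf xf8 yf25 zf26) (kf xf8 yf25 zf27) (kf xf6 yf26 zf31) (kf xf6 yf16 zf33) (kf xf6 yf16 zf34) (kf xf9 yf16 zf8) (kf xf9 yf16 zf9) (kf xf8 yf25 zf34) (kf xf9 yf16 zf15) (kf xf8 yf25 zf36) (kf xf9 yf13 zf31) (kf xf6 yf16 zf39)) (@D3.rec (fun _ => Pt) (kf xf6 yf16 zf40) (kf xf6 yf16 zf41) (kf xf9 yf16 zf19) (kf xf9 yf16 zf20) (kf xf9 yf16 zf21) (kf xf9 yf16 zf29)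 (kf xf9 yf16 zf23) (kf xf8 yf25 zf46) (kf xf9 yf16 zf35) (kf xf8 yf25 zf48) (kf xf6 yf16 zf43) (kf xf9 yf16 zf39) (kf xf8 yf26 zf0) (kf xf6 yf19 zf33) (kf xf6 yf16 zf47) (kf xf9 yf16 zf42) (kf xf9 yf16 zf41) (kf xf6 yf16 zf50) (kf xf6 yf19 zf38) (kf xf6 yf19 zf39) (kf xf9 yf13 zf48) (kf xf6 yf17 zf6) (kf xf6 yf17 zf7) (kf xf6 yf17 zf8) (kf xf6 yf23 zf40) (kf xf6 yf17 zf9) (kf xf9 yf16 zf48) (kf xf9 yf16 zf50) (kf xf9 yf17 zf0) (kf xf9 yf17 zf2) (kf xf9 yf17 zf4) (kf xf8 yf26 zf23) (kf xf8 yf26 zf24) (kf xf8 yf26 zf25) (kf xf8 yf24 zf31) (kf xf9 yf9 zf8) (kf xf6 yf17 zf19) (kf xf6 yf22 zf8) (kf xf6 yf17 zf20) (kf xf6 yf17 zf21) (kf xf6 yf24 zf3) (kf xf6 yf17 zf22) (kf xf6 yf24 zf5) (kf xf6 yf17 zf23) (kf xf9 yf17 zf15) (kf xf9 yf17 zf17) (kf xf9 yf17 zf19)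 (kf xf9 yf17 zf20) (kf xf9 yf17 zf22) (kf xf9 yf17 zf25) (kf xf8 yf26 zf38)) (@D3.rec (fun _ => Pt) (kf xf8 yf26 zf39) (kf xf8 yf26 zf40) (kf xf6 yf17 zf27) (kf xf9 yf15 zf29) (kf xf6 yf17 zf30) (kf xf6 yf17 zf31) (kf xf9 yf17 zf37) (kf xf9 yf17 zf38) (kf xf9 yf17 zf39) (kf xf9 yf0 zf33) (kf xf9 yf14 zf31) (kf xf8 yf2 zf11) (kf xf6 yf17 zf38) (kf xf6 yf17 zf39) (kf xf9 yf17 zf45) (kf xf7 yf0 zf6) (kf xf6 yf17 zf42) (kf xf6 yf17 zf43) (kf xf9 yf17 zf48) (kf xf9 yf17 zf49) (kf xf9 yf17 zf50) (kf xf9 yf2 zf7) (kf xf9 yf1 zf0) (kf xf8 yf2 zf23) (kf xf6 yf17 zf48) (kf xf6 yf17 zf49) (kf xf6 yf17 zf50) (kf xf9 yf18 zf7) (kf xf9 yf18 zf8) (kf xf9 yf18 zf9) (kf xf9 yf18 zf18) (kf xf9 yf18 zf11) (kf xf9 yf1 zf10) (kf xf9 yf2 zf14) (kf xf9 yf1 zf12) (kf xf9 yf2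 zf15) (kf xf9 yf1 zf15) (kf xf9 yf18 zf26) (kf xf9 yf15 zf11) (kf xf6 yf18 zf5) (kf xf9 yf18 zf28) (kf xf8 yf2 zf41) (kf xf6 yf18 zf12) (kf xf6 yf18 zf13) (kf xf6 yf18 zf14) (kf xf8 yf2 zf45) (kf xf6 yf18 zf15) (kf xf9 yf18 zf31) (kf xf9 yf18 zf33) (kf xf9 yf18 zf34) (kf xf9 yf18 zf36)) (@D3.rec (fun _ => Pt) (kf xf6 yf26 zf28) (kf xf9 yf1 zf37) (kf xf8 yf3 zf2) (kf xf8 yf3 zf3) (kf xf6 yf18 zf24) (kf xf8 yf3 zf5) (kf xf6 yf18 zf25) (kf xf6 yf18 zf26) (kf xf8 yf3 zf8) (kf xf6 yf18 zf27) (kf xf8 yf3 zf10) (kf xf6 yf18 zf28) (kf xf9 yf18 zf44) (kf xf9 yf18 zf45) (kf xf9 yf18 zf47) (kf xf9 yf18 zf48) (kf xf9 yf18 zf50) (kf xf9 yf19 zf1) (kf xf9 yf2 zf1) (kf xf9 yf2 zf2) (kf xf9 yf2 zf3) (kf xf6 yf18 zf32) (kf xf9 yf5 zf10) (kf xf9 yf19 zf12) (kf xf9 yf2 zf8)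 (kf xf6 yf18 zf35) (kf xf7 yf0 zf14) (kf xf6 yf18 zf37) (kf xf6 yf18 zf38) (kf xf9 yf19 zf18) (kf xf9 yf19 zf19) (kf xf9 yf19 zf20) (kf xf9 yf2 zf24) (kf xf8 yf3 zf33) (kf xf6 yf18 zf43) (kf xf6 yf18 zf44) (kf xf6 yf18 zf45) (kf xf9 yf19 zf26) (kf xf9 yf19 zf27) (kf xf9 yf19 zf28) (kf xf9 yf19 zf30) (kf xf9 yf2 zf34) (kf xf9 yf2 zf36) (kf xf9 yf2 zf38) (kf xf8 yf3 zf44) (kf xf6 yf19 zf2) (kf xf6 yf19 zf3) (kf xf6 yf19 zf4) (kf xf6 yf24 zf28) (kf xf6 yf19 zf5) (kf xf9 yf19 zf41)) (@D3.rec (fun _ => Pt) (kf xf9 yf19 zf43) (kf xf9 yf19 zf44) (kf xf9 yf19 zf46) (kf xf9 yf3 zf4) (kf xf9 yf3 zf5) (kf xf6 yf26 zf30) (kf xf7 yf0 zf18) (kf xf8 yf4 zf7) (kf xf6 yf19 zf11) (kf xf6 yf19 zf12) (kf xf6 yf19 zf13) (kf xf9 yf20 zf7) (kf xf9 yf20 zf8) (kf xf9 yf20 zf9)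 (kf xf9 yf20 zf18) (kf xf9 yf20 zf11) (kf xf9 yf3 zf17) (kf xf9 yf20 zf24) (kf xf9 yf3 zf19) (kf xf6 yf19 zf15) (kf xf9 yf20 zf28) (kf xf9 yf3 zf22) (kf xf8 yf4 zf22) (kf xf6 yf19 zf21) (kf xf6 yf19 zf22) (kf xf6 yf19 zf23) (kf xf9 yf20 zf38) (kf xf6 yf19 zf25) (kf xf9 yf20 zf32) (kf xf9 yf20 zf44) (kf xf9 yf20 zf34) (kf xf9 yf20 zf35) (kf xf9 yf20 zf50) (kf xf9 yf20 zf37) (kf xf6 yf19 zf24) (kf xf9 yf21 zf3) (kf xf9 yf20 zf40) (kf xf9 yf3 zf38) (kf xf9 yf21 zf7) (kf xf9 yf3 zf40) (kf xf6 yf19 zf27) (kf xf9 yf21 zf11) (kf xf9 yf3 zf43) (kf xf9 yf21 zf2) (kf xf6 yf19 zf30) (kf xf9 yf21 zf16) (kf xf6 yf19 zf32) (kf xf9 yf21 zf18) (kf xf6 yf19 zf36) (kf xf6 yf19 zf35) (kf xf9 yf21 zf19)) (@D3.rec (fun _ => Pt) (kf xf9 yf21 zf20) (kf xf9 yf16 zf45) (kf xf8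 yf5 zf2) (kf xf8 yf5 zf3) (kf xf6 yf19 zf46) (kf xf6 yf22 zf7) (kf xf6 yf19 zf47) (kf xf6 yf19 zf48) (kf xf6 yf25 zf21) (kf xf6 yf19 zf49) (kf xf6 yf25 zf23) (kf xf6 yf19 zf50) (kf xf9 yf21 zf24) (kf xf9 yf21 zf26) (kf xf9 yf21 zf28) (kf xf9 yf21 zf29) (kf xf9 yf21 zf31) (kf xf9 yf21 zf34) (kf xf9 yf4 zf24) (kf xf9 yf4 zf25) (kf xf9 yf4 zf26) (kf xf8 yf5 zf21) (kf xf6 yf20 zf13) (kf xf6 yf20 zf14) (kf xf6 yf20 zf18) (kf xf6 yf20 zf15) (kf xf6 yf20 zf16) (kf xf6 yf21 zf48) (kf xf6 yf20 zf17) (kf xf6 yf20 zf48) (kf xf9 yf5 zf33) (kf xf9 yf21 zf35) (kf xf9 yf21 zf45) (kf xf9 yf21 zf27) (kf xf9 yf17 zf18) (kf xf9 yf4 zf48) (kf xf9 yf4 zf49) (kf xf8 yf13 zf11) (kf xf7 yf0 zf34) (kf xf7 yf0 zf35) (kf xf8 yf5 zf40) (kf xf6 yf20 zf26) (kf xf6 yf20 zf27) (kf xf9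 yf22 zf3) (kf xf8 yf5 zf44) (kf xf6 yf20 zf33) (kf xf8 yf5 zf46) (kf xf6 yf20 zf34) (kf xf8 yf5 zf48) (kf xf9 yf22 zf6) (kf xf9 yf20 zf2)) (@D3.rec (fun _ => Pt) (kf xf8 yf6 zf0) (kf xf6 yf20 zf47) (kf xf8 yf6 zf2) (kf xf6 yf20 zf46) (kf xf6 yf20 zf49) (kf xf8 yf6 zf5) (kf xf6 yf20 zf50) (kf xf6 yf21 zf0) (kf xf8 yf6 zf8) (kf xf9 yf5 zf25) (kf xf9 yf22 zf5) (kf xf9 yf17 zf23) (kf xf9 yf21 zf49) (kf xf9 yf22 zf9) (kf xf9 yf17 zf16) (kf xf9 yf0 zf0) (kf xf8 yf26 zf46) (kf xf8 yf13 zf9) (kf xf7 yf0 zf50) (kf xf6 yf21 zf7) (kf xf6 yf21 zf8) (kf xf9 yf22 zf16) (kf xf8 yf6 zf22) (kf xf6 yf21 zf14) (kf xf6 yf22 zf6) (kf xf6 yf21 zf15) (kf xf6 yf25 zf40) (kf xf9 yf22 zf18) (kf xf9 yf22 zf20) (kf xf7 yf1 zf3) (kf xf7 yf1 zf4) (kf xf7 yf1 zf5) (kf xf8 yf6 zf32)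 (kf xf6 yf21 zf23) (kf xf6 yf21 zf24) (kf xf6 yf21 zf25) (kf xf8 yf6 zf36) (kf xf6 yf21 zf26) (kf xf9 yf22 zf31) (kf xf9 yf22 zf33) (kf xf9 yf22 zf34) (kf xf9 yf22 zf36) (kf xf9 yf5 zf39) (kf xf9 yf5 zf40) (kf xf8 yf6 zf44) (kf xf6 yf21 zf33) (kf xf8 yf6 zf46) (kf xf6 yf21 zf34) (kf xf8 yf6 zf48) (kf xf9 yf22 zf44) (kf xf9 yf22 zf46)) (@D3.rec (fun _ => Pt) (kf xf8 yf7 zf0) (kf xf6 yf21 zf46) (kf xf6 yf21 zf50) (kf xf6 yf21 zf47) (kf xf6 yf21 zf49) (kf xf6 yf25 zf50) (kf xf6 yf22 zf0) (kf xf9 yf5 zf44) (kf xf9 yf21 zf30) (kf xf9 yf22 zf19) (kf xf9 yf21 zf25) (kf xf9 yf23 zf0) (kf xf9 yf6 zf17) (kf xf9 yf6 zf18) (kf xf9 yf10 zf33) (kf xf9 yf19 zf42) (kf xf9 yf16 zf49) (kf xf8 yf13 zf0) (kf xf8 yf7 zf18) (kf xf8 yf7 zf19) (kf xf8 yf7 zf20) (kf xf9 yf23 zf9)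 (kf xf8 yf7 zf22) (kf xf6 yf22 zf21) (kf xf9 yf23 zf11) (kf xf8 yf7 zf25) (kf xf8 yf7 zf26) (kf xf9 yf7 zf4) (kf xf9 yf7 zf2) (kf xf6 yf22 zf28) (kf xf8 yf7 zf30) (kf xf9 yf14 zf0) (kf xf6 yf22 zf36) (kf xf8 yf13 zf2) (kf xf8 yf14 zf31) (kf xf8 yf14 zf38) (kf xf9 yf23 zf15) (kf xf8 yf7 zf37) (kf xf8 yf7 zf38) (kf xf8 yf7 zf39) (kf xf6 yf22 zf45) (kf xf9 yf14 zf9) (kf xf6 yf22 zf46) (kf xf6 yf22 zf47) (kf xf8 yf20 zf16) (kf xf6 yf22 zf48) (kf xf9 yf14 zf10) (kf xf6 yf22 zf49) (kf xf8 yf15 zf45) (kf xf9 yf23 zf22) (kf xf9 yf23 zf24)) (@D3.rec (fun _ => Pt) (kf xf8 yf20 zf9) (kf xf9 yf23 zf25) (kf xf9 yf23 zf27) (kf xf8 yf8 zf3) (kf xf8 yf8 zf4) (kf xf8 yf8 zf5) (kf xf8 yf8 zf6) (kf xf8 yf8 zf7) (kf xf9 yf15 zf50) (kf xf6 yf23 zf11) (kf xf8 yf13 zf18) (kf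 xf8 yf19 zf10) (kf xf9 yf23 zf39) (kf xf8 yf8 zf13) (kf xf8 yf8 zf14) (kf xf8 yf8 zf15) (kf xf8 yf8 zf16) (kf xf9 yf23 zf48) (kf xf8 yf8 zf18) (kf xf6 yf23 zf16) (kf xf9 yf6 zf33) (kf xf8 yf17 zf48) (kf xf9 yf24 zf2) (kf xf8 yf18 zf18) (kf xf6 yf23 zf21) (kf xf9 yf24 zf5) (kf xf6 yf25 zf16) (kf xf8 yf8 zf27) (kf xf9 yf24 zf9) (kf xf8 yf8 zf29) (kf xf6 yf23 zf24) (kf xf9 yf24 zf13) (kf xf8 yf8 zf32) (kf xf9 yf24 zf4) (kf xf6 yf23 zf27) (kf xf9 yf24 zf18) (kf xf6 yf23 zf29) (kf xf9 yf24 zf19) (kf xf6 yf23 zf33) (kf xf6 yf23 zf32) (kf xf9 yf24 zf20) (kf xf9 yf24 zf21) (kf xf6 yf23 zf43) (kf xf6 yf23 zf44) (kf xf9 yf17 zf1) (kf xf6 yf23 zf45) (kf xf9 yf17 zf3) (kf xf6 yf23 zf46) (kf xf8 yf17 zf49) (kf xf8 yf18 zf20) (kf xf9 yf24 zf22)) (@D3.rec (fun _ => Pt)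 (kf xf9 yf1 zf24) (kf xf9 yf24 zf24) (kf xf9 yf24 zf27) (kf xf8 yf9 zf3) (kf xf8 yf9 zf4) (kf xf8 yf9 zf5) (kf xf6 yf24 zf7) (kf xf6 yf24 zf8) (kf xf6 yf24 zf9) (kf xf6 yf24 zf10) (kf xf9 yf17 zf21) (kf xf6 yf24 zf11) (kf xf9 yf17 zf24) (kf xf6 yf24 zf12) (kf xf9 yf17 zf26) (kf xf9 yf0 zf9) (kf xf9 yf24 zf37) (kf xf9 yf24 zf38) (kf xf9 yf24 zf40) (kf xf9 yf24 zf42) (kf xf9 yf24 zf44) (kf xf8 yf9 zf21) (kf xf8 yf9 zf22) (kf xf9 yf25 zf3) (kf xf6 yf24 zf20) (kf xf6 yf24 zf21) (kf xf8 yf13 zf25) (kf xf8 yf13 zf26) (kf xf9 yf25 zf4) (kf xf9 yf25 zf5) (kf xf9 yf25 zf6) (kf xf8 yf9 zf31) (kf xf8 yf9 zf32) (kf xf8 yf9 zf33) (kf xf6 yf24 zf30) (kf xf6 yf24 zf31) (kf xf6 yf24 zf32) (kf xf9 yf19 zf45) (kf xf6 yf24 zf33) (kf xf9 yf19 zf47) (kf xf6 yf24 zf34) (kf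 xf9 yf25 zf16) (kf xf9 yf25 zf17) (kf xf6 yf25 zf36) (kf xf9 yf25 zf18) (kf xf9 yf25 zf20) (kf xf9 yf25 zf23) (kf xf8 yf9 zf47) (kf xf8 yf9 zf48) (kf xf8 yf9 zf49) (kf xf6 yf24 zf43)) (@D3.rec (fun _ => Pt) (kf xf6 yf24 zf45) (kf xf6 yf24 zf46) (kf xf9 yf25 zf39) (kf xf6 yf24 zf48) (kf xf6 yf24 zf41) (kf xf9 yf25 zf43) (kf xf6 yf25 zf0) (kf xf6 yf26 zf0) (kf xf9 yf25 zf48) (kf xf9 yf25 zf33) (kf xf6 yf24 zf44) (kf xf9 yf26 zf0) (kf xf9 yf25 zf34) (kf xf9 yf25 zf35) (kf xf9 yf26 zf4) (kf xf9 yf25 zf37) (kf xf6 yf24 zf47) (kf xf9 yf26 zf8) (kf xf9 yf25 zf41) (kf xf6 yf25 zf7) (kf xf6 yf24 zf50) (kf xf9 yf26 zf13) (kf xf9 yf26 zf14) (kf xf8 yf10 zf23) (kf xf6 yf25 zf2) (kf xf9 yf26 zf18) (kf xf8 yf10 zf26) (kf xf9 yf26 zf7) (kf xf6 yf25 zf5) (kf xf9 yf26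 zf23) (kf xf8 yf10 zf30) (kf xf9 yf26 zf11) (kf xf9 yf26 zf12) (kf xf6 yf25 zf9) (kf xf8 yf10 zf34) (kf xf6 yf25 zf11) (kf xf6 yf25 zf14) (kf xf6 yf25 zf15) (kf xf9 yf26 zf30) (kf xf6 yf25 zf26) (kf xf6 yf25 zf28) (kf xf6 yf25 zf29) (kf xf9 yf21 zf32) (kf xf9 yf21 zf33) (kf xf6 yf25 zf30) (kf xf6 yf25 zf46) (kf xf9 yf25 zf26) (kf xf9 yf25 zf47) (kf xf8 yf10 zf48) (kf xf8 yf10 zf49) (kf xf9 yf11 zf3)) (@D3.rec (fun _ => Pt) (kf xf6 yf25 zf42) (kf xf6 yf25 zf44) (kf xf9 yf22 zf21) (kf xf6 yf25 zf45) (kf xf9 yf22 zf22) (kf xf9 yf25 zf24) (kf xf9 yf25 zf45) (kf xf8 yf11 zf7) (kf xf8 yf11 zf8) (kf xf9 yf11 zf2) (kf xf9 yf22 zf50) (kf xf9 yf26 zf38) (kf xf8 yf11 zf12) (kf xf8 yf11 zf13) (kf xf8 yf11 zf14) (kf xf8 yf11 zf15) (kf xf9 yf16 zf7) (kf xf6 yf26 zf34)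 (kf xf6 yf26 zf13) (kf xf6 yf26 zf18) (kf xf9 yf26 zf40) (kf xf7 yf0 zf8) (kf xf8 yf11 zf22) (kf xf7 yf0 zf16) (kf xf9 yf26 zf41) (kf xf8 yf11 zf25) (kf xf9 yf11 zf5) (kf xf6 yf26 zf26) (kf xf7 yf0 zf22) (kf xf9 yf20 zf3) (kf xf7 yf0 zf20) (kf xf8 yf11 zf31) (kf xf9 yf18 zf42) (kf xf6 yf26 zf33) (kf xf9 yf26 zf46) (kf xf8 yf11 zf35) (kf xf8 yf11 zf36) (kf xf8 yf14 zf41) (kf xf8 yf11 zf38) (kf xf9 yf10 zf17) (kf xf8 yf11 zf40) (kf xf9 yf10 zf39) (kf xf6 yf26 zf47) (kf xf9 yf8 zf49) (kf xf9 yf8 zf16) (kf xf7 yf0 zf0) (kf xf9 yf26 zf49) (kf xf7 yf0 zf4) (kf xf7 yf0 zf9) (kf xf9 yf26 zf50) (kf xf9 yf17 zf46)) (@D3.rec (fun _ => Pt) (kf xf7 yf0 zf10) (kf xf9 yf26 zf42) (kf xf7 yf0 zf32) (kf xf10 yf0 zf0) (kf xf8 yf12 zf4) (kf xf9 yf19 zf16) (kf xf7 yf0 zf17)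 (kf xf9 yf26 zf43) (kf xf9 yf20 zf4) (kf xf9 yf20 zf5) (kf xf7 yf0 zf21) (kf xf10 yf0 zf9) (kf xf10 yf0 zf8) (kf xf7 yf0 zf24) (kf xf7 yf0 zf26) (kf xf10 yf0 zf12) (kf xf8 yf12 zf16) (kf xf7 yf0 zf29) (kf xf9 yf1 zf31) (kf xf7 yf0 zf33) (kf xf10 yf0 zf3) (kf xf9 yf21 zf50) (kf xf9 yf22 zf0) (kf xf9 yf22 zf1) (kf xf7 yf0 zf40) (kf xf7 yf0 zf42) (kf xf8 yf26 zf50) (kf xf9 yf0 zf13) (kf xf8 yf12 zf28) (kf xf9 yf0 zf17) (kf xf7 yf0 zf49) (kf xf9 yf0 zf18) (kf xf9 yf22 zf14) (kf xf9 yf22 zf15) (kf xf7 yf1 zf2) (kf xf9 yf22 zf24) (kf xf9 yf22 zf25) (kf xf9 yf22 zf26) (kf xf9 yf22 zf28) (kf xf7 yf1 zf7) (kf xf8 yf13 zf43) (kf xf7 yf1 zf11) (kf xf7 yf1 zf12) (kf xf10 yf0 zf26) (kf xf8 yf14 zf18) (kf xf10 yf0 zf25) (kf xf7 yf1 zf18) (kf xf8 yf14 zf4) (kf xf7 yf1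 zf21) (kf xf8 yf12 zf49) (kf xf10 yf0 zf28)) (@D3.rec (fun _ => Pt) (kf xf8 yf7 zf17) (kf xf10 yf0 zf31) (kf xf8 yf7 zf33) (kf xf10 yf0 zf34) (kf xf7 yf1 zf40) (kf xf7 yf1 zf39) (kf xf10 yf0 zf38) (kf xf10 yf0 zf36) (kf xf8 yf13 zf8) (kf xf8 yf6 zf17) (kf xf7 yf18 zf45) (kf xf8 yf5 zf37) (kf xf7 yf2 zf1) (kf xf7 yf2 zf0) (kf xf10 yf0 zf45) (kf xf10 yf0 zf43) (kf xf8 yf13 zf16) (kf xf10 yf0 zf48) (kf xf8 yf8 zf10) (kf xf7 yf2 zf8) (kf xf10 yf1 zf1) (kf xf7 yf2 zf12) (kf xf10 yf0 zf37) (kf xf7 yf2 zf11) (kf xf10 yf1 zf5) (kf xf8 yf9 zf26) (kf xf8 yf9 zf27) (kf xf8 yf13 zf27) (kf xf8 yf13 zf28) (kf xf8 yf13 zf29) (kf xf7 yf2 zf22) (kf xf7 yf2 zf23) (kf xf7 yf21 zf43) (kf xf7 yf21 zf44) (kf xf10 yf1 zf12) (kf xf10 yf1 zf13) (kf xf10 yf1 zf14) (kf xf8 yf13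 zf37) (kf xf8 yf13 zf38) (kf xf8 yf13 zf39) (kf xf7 yf18 zf46) (kf xf7 yf18 zf48) (kf xf7 yf2 zf40) (kf xf8 yf12 zf40) (kf xf7 yf18 zf50) (kf xf10 yf1 zf26) (kf xf7 yf2 zf44) (kf xf10 yf1 zf27) (kf xf10 yf1 zf28) (kf xf7 yf3 zf49) (kf xf7 yf2 zf49)) (@D3.rec (fun _ => Pt) (kf xf7 yf2 zf50) (kf xf7 yf5 zf21) (kf xf7 yf3 zf23) (kf xf7 yf3 zf2) (kf xf8 yf12 zf47) (kf xf7 yf3 zf4) (kf xf10 yf1 zf32) (kf xf7 yf3 zf7) (kf xf7 yf3 zf8) (kf xf7 yf19 zf20) (kf xf10 yf1 zf35) (kf xf7 yf19 zf22) (kf xf8 yf14 zf12) (kf xf8 yf14 zf13) (kf xf7 yf3 zf15) (kf xf7 yf3 zf16) (kf xf10 yf1 zf44) (kf xf7 yf3 zf17) (kf xf8 yf12 zf44) (kf xf7 yf20 zf2) (kf xf7 yf3 zf50) (kf xf7 yf19 zf25) (kf xf8 yf14 zf22) (kf xf8 yf14 zf23) (kf xf7 yf20 zf8) (kf xf7 yf20 zf9) (kf xf7 yf4 zf3)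 (kf xf8 yf14 zf27) (kf xf7 yf19 zf27) (kf xf8 yf14 zf29) (kf xf7 yf3 zf30) (kf xf8 yf7 zf34) (kf xf10 yf2 zf1) (kf xf7 yf19 zf21) (kf xf10 yf1 zf33) (kf xf7 yf19 zf30) (kf xf7 yf3 zf35) (kf xf10 yf2 zf5) (kf xf8 yf7 zf35) (kf xf7 yf3 zf36) (kf xf7 yf19 zf38) (kf xf8 yf11 zf37) (kf xf7 yf19 zf41) (kf xf7 yf3 zf40) (kf xf10 yf1 zf30) (kf xf10 yf1 zf48) (kf xf7 yf19 zf44) (kf xf7 yf19 zf45) (kf xf8 yf14 zf48) (kf xf10 yf2 zf17) (kf xf7 yf3 zf47)) (@D3.rec (fun _ => Pt) (kf xf7 yf3 zf46) (kf xf10 yf2 zf21) (kf xf10 yf2 zf19) (kf xf10 yf1 zf49) (kf xf7 yf20 zf4) (kf xf7 yf20 zf5) (kf xf10 yf2 zf24) (kf xf7 yf20 zf13) (kf xf7 yf4 zf7) (kf xf10 yf2 zf29) (kf xf10 yf2 zf30) (kf xf7 yf20 zf17) (kf xf7 yf20 zf18) (kf xf7 yf5 zf37) (kf xf7 yf5 zf38) (kf xf7 yf5 zf39)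 (kf xf7 yf11 zf41) (kf xf7 yf4 zf13) (kf xf10 yf2 zf42) (kf xf7 yf4 zf15) (kf xf7 yf4 zf16) (kf xf10 yf2 zf44) (kf xf10 yf2 zf45) (kf xf10 yf2 zf46) (kf xf7 yf20 zf24) (kf xf7 yf20 zf25) (kf xf7 yf5 zf50) (kf xf7 yf19 zf15) (kf xf7 yf4 zf23) (kf xf7 yf4 zf24) (kf xf7 yf4 zf25) (kf xf7 yf21 zf29) (kf xf10 yf3 zf3) (kf xf7 yf12 zf35) (kf xf10 yf3 zf4) (kf xf7 yf9 zf31) (kf xf7 yf9 zf39) (kf xf7 yf20 zf28) (kf xf7 yf20 zf29) (kf xf10 yf3 zf11) (kf xf7 yf20 zf31) (kf xf7 yf6 zf14) (kf xf7 yf6 zf15) (kf xf7 yf4 zf32) (kf xf7 yf4 zf33) (kf xf8 yf7 zf48) (kf xf10 yf3 zf18) (kf xf10 yf3 zf21) (kf xf7 yf4 zf35) (kf xf10 yf3 zf23) (kf xf10 yf3 zf24)) (@D3.rec (fun _ => Pt) (kf xf7 yf20 zf36) (kf xf7 yf20 zf37) (kf xf7 yf6 zf29) (kf xf10 yf3 zf29) (kf xf7 yf4 zf42)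 (kf xf7 yf4 zf41) (kf xf10 yf3 zf33) (kf xf10 yf3 zf31) (kf xf7 yf4 zf44) (kf xf7 yf4 zf45) (kf xf10 yf3 zf36) (kf xf7 yf20 zf48) (kf xf7 yf4 zf49) (kf xf10 yf3 zf38) (kf xf10 yf3 zf39) (kf xf7 yf21 zf1) (kf xf7 yf21 zf2) (kf xf7 yf5 zf1) (kf xf7 yf5 zf2) (kf xf10 yf3 zf46) (kf xf10 yf3 zf47) (kf xf10 yf3 zf48) (kf xf7 yf21 zf8) (kf xf10 yf4 zf6) (kf xf7 yf21 zf10) (kf xf7 yf7 zf6) (kf xf10 yf4 zf9) (kf xf7 yf7 zf8) (kf xf7 yf5 zf8) (kf xf10 yf4 zf13) (kf xf7 yf5 zf12) (kf xf7 yf7 zf12) (kf xf7 yf5 zf11) (kf xf10 yf4 zf17) (kf xf10 yf1 zf29) (kf xf7 yf5 zf15) (kf xf7 yf5 zf16) (kf xf7 yf5 zf17) (kf xf10 yf4 zf18) (kf xf10 yf4 zf19) (kf xf10 yf4 zf20) (kf xf7 yf21 zf26) (kf xf7 yf21 zf27) (kf xf7 yf21 zf28) (kf xf7 yf5 zf25) (kf xf7 yf5 zf26) (kf xf7 yf21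 zf40) (kf xf7 yf21 zf41) (kf xf7 yf5 zf30) (kf xf10 yf4 zf25) (kf xf10 yf4 zf26)) (@D3.rec (fun _ => Pt) (kf xf7 yf22 zf0) (kf xf7 yf22 zf1) (kf xf7 yf5 zf33) (kf xf7 yf5 zf34) (kf xf10 yf4 zf34) (kf xf10 yf4 zf35) (kf xf10 yf4 zf36) (kf xf7 yf22 zf7) (kf xf7 yf15 zf16) (kf xf7 yf22 zf8) (kf xf10 yf2 zf37) (kf xf10 yf2 zf38) (kf xf10 yf4 zf49) (kf xf10 yf2 zf40) (kf xf7 yf15 zf22) (kf xf7 yf5 zf42) (kf xf8 yf17 zf16) (kf xf7 yf5 zf45) (kf xf7 yf5 zf46) (kf xf7 yf5 zf47) (kf xf10 yf5 zf3) (kf xf10 yf5 zf4) (kf xf10 yf5 zf5) (kf xf10 yf5 zf7) (kf xf7 yf22 zf18) (kf xf7 yf22 zf19) (kf xf7 yf22 zf20) (kf xf8 yf17 zf27) (kf xf7 yf6 zf4) (kf xf7 yf6 zf5) (kf xf7 yf6 zf6) (kf xf8 yf17 zf31) (kf xf7 yf6 zf7) (kf xf10 yf5 zf17) (kf xf10 yf5 zf18) (kf xf10 yf5 zf19)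 (kf xf10 yf5 zf21) (kf xf10 yf5 zf23) (kf xf7 yf22 zf29) (kf xf7 yf22 zf30) (kf xf7 yf22 zf31) (kf xf10 yf5 zf31) (kf xf7 yf22 zf33) (kf xf7 yf6 zf12) (kf xf10 yf5 zf36) (kf xf10 yf5 zf37) (kf xf7 yf22 zf37) (kf xf7 yf22 zf38) (kf xf8 yf8 zf21) (kf xf8 yf8 zf48) (kf xf10 yf3 zf16)) (@D3.rec (fun _ => Pt) (kf xf7 yf6 zf18) (kf xf7 yf13 zf43) (kf xf7 yf6 zf19) (kf xf10 yf5 zf47) (kf xf10 yf5 zf49) (kf xf7 yf6 zf20) (kf xf10 yf6 zf1) (kf xf10 yf6 zf2) (kf xf7 yf22 zf44) (kf xf7 yf22 zf45) (kf xf7 yf6 zf23) (kf xf7 yf6 zf24) (kf xf10 yf6 zf10) (kf xf10 yf6 zf11) (kf xf10 yf6 zf12) (kf xf7 yf23 zf0) (kf xf10 yf6 zf19) (kf xf7 yf23 zf2) (kf xf8 yf8 zf23) (kf xf10 yf6 zf22) (kf xf8 yf8 zf49) (kf xf7 yf6 zf30) (kf xf10 yf6 zf26) (kf xf7 yf6 zf34) (kf xf10 yf3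 zf32) (kf xf7 yf6 zf33) (kf xf10 yf6 zf30) (kf xf8 yf18 zf27) (kf xf7 yf6 zf37) (kf xf7 yf6 zf38) (kf xf7 yf6 zf39) (kf xf10 yf6 zf32) (kf xf10 yf6 zf33) (kf xf10 yf6 zf34) (kf xf7 yf23 zf17) (kf xf7 yf23 zf18) (kf xf8 yf18 zf36) (kf xf7 yf6 zf44) (kf xf7 yf6 zf45) (kf xf10 yf6 zf41) (kf xf10 yf6 zf42) (kf xf10 yf6 zf43) (kf xf7 yf23 zf25) (kf xf10 yf7 zf1) (kf xf7 yf23 zf27) (kf xf8 yf18 zf45) (kf xf7 yf6 zf50) (kf xf7 yf7 zf0) (kf xf7 yf7 zf1) (kf xf10 yf7 zf5) (kf xf10 yf7 zf6)) (@D3.rec (fun _ => Pt) (kf xf10 yf7 zf7) (kf xf10 yf7 zf16) (kf xf10 yf7 zf9) (kf xf7 yf23 zf37) (kf xf10 yf7 zf22) (kf xf7 yf23 zf39) (kf xf7 yf7 zf3) (kf xf10 yf7 zf26) (kf xf7 yf23 zf42) (kf xf10 yf7 zf28) (kf xf8 yf8 zf11) (kf xf7 yf7 zf7) (kf xf10 yf7 zf32) (kf xf10 yf4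 zf11) (kf xf10 yf7 zf31) (kf xf7 yf7 zf10) (kf xf10 yf7 zf36) (kf xf10 yf4 zf15) (kf xf10 yf4 zf16) (kf xf7 yf7 zf14) (kf xf8 yf19 zf20) (kf xf7 yf7 zf19) (kf xf7 yf7 zf20) (kf xf7 yf7 zf21) (kf xf7 yf22 zf14) (kf xf7 yf7 zf22) (kf xf10 yf7 zf41) (kf xf10 yf7 zf42) (kf xf10 yf7 zf43) (kf xf10 yf7 zf45) (kf xf10 yf7 zf47) (kf xf7 yf24 zf11) (kf xf7 yf24 zf12) (kf xf7 yf24 zf13) (kf xf8 yf19 zf34) (kf xf7 yf7 zf32) (kf xf7 yf7 zf33) (kf xf7 yf7 zf34) (kf xf7 yf22 zf24) (kf xf7 yf7 zf35) (kf xf7 yf22 zf25) (kf xf7 yf7 zf36) (kf xf10 yf8 zf6) (kf xf10 yf8 zf7) (kf xf10 yf8 zf8) (kf xf10 yf8 zf9) (kf xf10 yf8 zf11) (kf xf10 yf8 zf13) (kf xf7 yf24 zf30) (kf xf7 yf24 zf31) (kf xf7 yf24 zf32)) (@D3.rec (fun _ => Pt) (kf xf7 yf8 zf5) (kf xf7 yf7 zf42) (kf xf10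 yf8 zf25) (kf xf10 yf8 zf26) (kf xf8 yf20 zf4) (kf xf8 yf20 zf5) (kf xf7 yf7 zf46) (kf xf7 yf7 zf49) (kf xf7 yf7 zf50) (kf xf8 yf8 zf0) (kf xf10 yf8 zf32) (kf xf8 yf20 zf11) (kf xf8 yf20 zf12) (kf xf8 yf20 zf13) (kf xf8 yf20 zf14) (kf xf7 yf9 zf44) (kf xf8 yf7 zf44) (kf xf10 yf8 zf24) (kf xf8 yf20 zf18) (kf xf8 yf20 zf19) (kf xf8 yf20 zf20) (kf xf7 yf24 zf33) (kf xf8 yf20 zf22) (kf xf7 yf8 zf11) (kf xf10 yf8 zf48) (kf xf7 yf24 zf34) (kf xf10 yf9 zf0) (kf xf7 yf24 zf36) (kf xf8 yf20 zf28) (kf xf8 yf20 zf29) (kf xf7 yf8 zf15) (kf xf7 yf8 zf16) (kf xf10 yf9 zf8) (kf xf7 yf8 zf17) (kf xf10 yf9 zf10) (kf xf10 yf9 zf11) (kf xf7 yf24 zf42) (kf xf7 yf24 zf43) (kf xf8 yf20 zf38) (kf xf8 yf20 zf39) (kf xf10 yf1 zf50) (kf xf7 yf24 zf46) (kf xf7 yf8 zf23) (kf xf10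 yf9 zf21) (kf xf10 yf9 zf22) (kf xf7 yf24 zf49) (kf xf7 yf24 zf50) (kf xf8 yf20 zf47) (kf xf8 yf20 zf48) (kf xf8 yf20 zf49) (kf xf10 yf9 zf32)) (@D3.rec (fun _ => Pt) (kf xf7 yf8 zf30) (kf xf7 yf8 zf29) (kf xf10 yf9 zf35) (kf xf10 yf9 zf34) (kf xf7 yf8 zf32) (kf xf7 yf8 zf33) (kf xf10 yf9 zf38) (kf xf7 yf26 zf9) (kf xf10 yf9 zf39) (kf xf7 yf25 zf6) (kf xf7 yf25 zf7) (kf xf8 yf21 zf11) (kf xf7 yf11 zf14) (kf xf7 yf8 zf40) (kf xf7 yf8 zf42) (kf xf7 yf26 zf7) (kf xf10 yf3 zf9) (kf xf7 yf26 zf10) (kf xf7 yf9 zf32) (kf xf7 yf9 zf40) (kf xf7 yf25 zf9) (kf xf7 yf24 zf35) (kf xf10 yf8 zf49) (kf xf7 yf25 zf3) (kf xf8 yf21 zf24) (kf xf8 yf21 zf25) (kf xf7 yf8 zf49) (kf xf10 yf8 zf44) (kf xf7 yf25 zf10) (kf xf7 yf9 zf0) (kf xf10 yf10 zf10) (kf xf10 yf10 zf11) (kf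 xf7 yf25 zf14) (kf xf7 yf25 zf15) (kf xf8 yf21 zf34) (kf xf8 yf21 zf35) (kf xf8 yf21 zf36) (kf xf10 yf1 zf43) (kf xf7 yf9 zf6) (kf xf10 yf10 zf22) (kf xf7 yf9 zf8) (kf xf7 yf9 zf9) (kf xf10 yf3 zf7) (kf xf10 yf9 zf48) (kf xf10 yf10 zf24) (kf xf7 yf25 zf23) (kf xf7 yf25 zf24) (kf xf8 yf21 zf47) (kf xf7 yf9 zf14) (kf xf10 yf10 zf31) (kf xf10 yf10 zf32)) (@D3.rec (fun _ => Pt) (kf xf7 yf25 zf27) (kf xf7 yf25 zf28) (kf xf7 yf9 zf17) (kf xf7 yf9 zf18) (kf xf10 yf3 zf0) (kf xf10 yf10 zf40) (kf xf10 yf10 zf41) (kf xf7 yf25 zf34) (kf xf10 yf10 zf50) (kf xf7 yf25 zf36) (kf xf8 yf22 zf10) (kf xf10 yf10 zf28) (kf xf8 yf22 zf12) (kf xf7 yf9 zf24) (kf xf10 yf11 zf5) (kf xf7 yf9 zf28) (kf xf8 yf22 zf16) (kf xf7 yf9 zf27) (kf xf10 yf11 zf9) (kf xf7 yf12 zf24) (kf xf7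 yf9 zf33) (kf xf10 yf3 zf8) (kf xf10 yf9 zf43) (kf xf10 yf9 zf49) (kf xf7 yf26 zf0) (kf xf7 yf26 zf1) (kf xf7 yf26 zf2) (kf xf10 yf9 zf50) (kf xf7 yf26 zf12) (kf xf7 yf26 zf13) (kf xf7 yf26 zf14) (kf xf10 yf8 zf38) (kf xf10 yf8 zf39) (kf xf7 yf13 zf0) (kf xf7 yf9 zf47) (kf xf7 yf9 zf48) (kf xf10 yf11 zf20) (kf xf7 yf13 zf9) (kf xf8 yf22 zf38) (kf xf8 yf22 zf39) (kf xf7 yf13 zf4) (kf xf7 yf13 zf5) (kf xf8 yf22 zf42) (kf xf7 yf13 zf10) (kf xf7 yf13 zf11) (kf xf10 yf11 zf28) (kf xf7 yf10 zf8) (kf xf7 yf10 zf7) (kf xf10 yf11 zf31) (kf xf10 yf11 zf30) (kf xf7 yf10 zf10)) (@D3.rec (fun _ => Pt) (kf xf10 yf11 zf33) (kf xf10 yf11 zf34) (kf xf8 yf23 zf2) (kf xf8 yf23 zf3) (kf xf7 yf13 zf20) (kf xf7 yf10 zf17) (kf xf7 yf10 zf18) (kf xf7 yf10 zf19) (kf xf10 yf11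 zf40) (kf xf10 yf11 zf41) (kf xf10 yf11 zf42) (kf xf10 yf11 zf44) (kf xf8 yf23 zf12) (kf xf8 yf23 zf13) (kf xf8 yf23 zf14) (kf xf7 yf25 zf12) (kf xf10 yf12 zf4) (kf xf7 yf20 zf41) (kf xf7 yf13 zf32) (kf xf7 yf13 zf33) (kf xf7 yf10 zf26) (kf xf10 yf12 zf11) (kf xf7 yf26 zf17) (kf xf7 yf10 zf28) (kf xf10 yf12 zf16) (kf xf10 yf12 zf17) (kf xf7 yf26 zf21) (kf xf7 yf26 zf22) (kf xf7 yf13 zf40) (kf xf7 yf13 zf41) (kf xf7 yf13 zf42) (kf xf10 yf3 zf17) (kf xf7 yf10 zf34) (kf xf10 yf12 zf28) (kf xf7 yf10 zf36) (kf xf7 yf10 zf37) (kf xf10 yf12 zf30) (kf xf10 yf12 zf31) (kf xf10 yf12 zf32) (kf xf7 yf26 zf30) (kf xf7 yf26 zf31) (kf xf7 yf13 zf50) (kf xf7 yf10 zf42) (kf xf10 yf12 zf40) (kf xf10 yf12 zf41) (kf xf7 yf26 zf35) (kf xf7 yf26 zf36) (kf xf7 yf10 zf45) (kf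 xf7 yf10 zf46) (kf xf10 yf12 zf49) (kf xf10 yf12 zf50)) (@D3.rec (fun _ => Pt) (kf xf10 yf13 zf0) (kf xf7 yf26 zf42) (kf xf10 yf13 zf9) (kf xf7 yf26 zf44) (kf xf7 yf14 zf13) (kf xf7 yf14 zf14) (kf xf10 yf13 zf13) (kf xf7 yf14 zf16) (kf xf7 yf11 zf1) (kf xf10 yf13 zf17) (kf xf7 yf11 zf5) (kf xf7 yf14 zf20) (kf xf7 yf11 zf4) (kf xf10 yf13 zf20) (kf xf10 yf9 zf37) (kf xf7 yf11 zf8) (kf xf7 yf11 zf9) (kf xf7 yf11 zf10) (kf xf10 yf13 zf22) (kf xf10 yf13 zf23) (kf xf10 yf13 zf24) (kf xf10 yf13 zf26) (kf xf8 yf0 zf6) (kf xf8 yf0 zf7) (kf xf8 yf0 zf8) (kf xf7 yf21 zf35) (kf xf7 yf11 zf18) (kf xf7 yf11 zf19) (kf xf7 yf11 zf20) (kf xf10 yf11 zf43) (kf xf7 yf11 zf21) (kf xf8 yf1 zf34) (kf xf10 yf13 zf36) (kf xf10 yf13 zf37) (kf xf10 yf13 zf39) (kf xf10 yf13 zf41)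 (kf xf8 yf0 zf13) (kf xf8 yf0 zf14) (kf xf8 yf0 zf15) (kf xf7 yf24 zf40) (kf xf10 yf14 zf1) (kf xf8 yf0 zf16) (kf xf7 yf11 zf26) (kf xf10 yf14 zf6) (kf xf10 yf14 zf7) (kf xf7 yf26 zf43) (kf xf7 yf26 zf49) (kf xf7 yf15 zf3) (kf xf7 yf15 zf4) (kf xf7 yf11 zf31) (kf xf10 yf14 zf15)) (@D3.rec (fun _ => Pt) (kf xf10 yf14 zf16) (kf xf8 yf0 zf20) (kf xf8 yf0 zf21) (kf xf7 yf11 zf34) (kf xf7 yf11 zf35) (kf xf10 yf14 zf24) (kf xf10 yf14 zf25) (kf xf10 yf14 zf26) (kf xf8 yf0 zf27) (kf xf10 yf2 zf35) (kf xf8 yf0 zf28) (kf xf7 yf15 zf18) (kf xf7 yf15 zf19) (kf xf10 yf14 zf39) (kf xf7 yf15 zf21) (kf xf10 yf2 zf41) (kf xf7 yf11 zf43) (kf xf10 yf10 zf23) (kf xf7 yf11 zf46) (kf xf7 yf11 zf47) (kf xf7 yf11 zf48) (kf xf10 yf14 zf44) (kf xf10 yf14 zf45) (kf xf10 yf14 zf46)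 (kf xf10 yf14 zf48) (kf xf8 yf0 zf38) (kf xf8 yf0 zf39) (kf xf8 yf0 zf40) (kf xf8 yf25 zf28) (kf xf7 yf12 zf2) (kf xf7 yf12 zf3) (kf xf10 yf15 zf9) (kf xf10 yf15 zf10) (kf xf10 yf15 zf11) (kf xf8 yf0 zf46) (kf xf10 yf15 zf20) (kf xf8 yf0 zf48) (kf xf10 yf10 zf39) (kf xf7 yf12 zf8) (kf xf7 yf12 zf9) (kf xf7 yf12 zf10) (kf xf10 yf15 zf24) (kf xf10 yf15 zf25) (kf xf10 yf15 zf26) (kf xf10 yf15 zf35) (kf xf10 yf15 zf28) (kf xf8 yf1 zf7) (kf xf10 yf15 zf41) (kf xf8 yf1 zf9) (kf xf7 yf12 zf12) (kf xf10 yf15 zf45)) (@D3.rec (fun _ => Pt) (kf xf8 yf1 zf12) (kf xf10 yf15 zf47) (kf xf7 yf16 zf8) (kf xf7 yf12 zf16) (kf xf10 yf16 zf0) (kf xf7 yf16 zf11) (kf xf10 yf15 zf50) (kf xf7 yf12 zf19) (kf xf10 yf16 zf4) (kf xf7 yf16 zf15) (kf xf7 yf16 zf16) (kf xf7 yf12 zf23)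 (kf xf10 yf3 zf5) (kf xf7 yf12 zf28) (kf xf7 yf12 zf29) (kf xf7 yf12 zf30) (kf xf8 yf26 zf16) (kf xf7 yf12 zf31) (kf xf10 yf16 zf9) (kf xf10 yf16 zf11) (kf xf10 yf16 zf12) (kf xf10 yf16 zf14) (kf xf10 yf16 zf16) (kf xf8 yf1 zf31) (kf xf8 yf1 zf32) (kf xf8 yf1 zf33) (kf xf10 yf3 zf6) (kf xf8 yf26 zf27) (kf xf7 yf12 zf41) (kf xf7 yf12 zf42) (kf xf8 yf26 zf30) (kf xf7 yf12 zf43) (kf xf8 yf26 zf32) (kf xf7 yf12 zf44) (kf xf10 yf16 zf26) (kf xf10 yf16 zf27) (kf xf10 yf16 zf29) (kf xf10 yf16 zf31) (kf xf8 yf1 zf50) (kf xf8 yf2 zf0) (kf xf8 yf2 zf1) (kf xf7 yf12 zf49) (kf xf7 yf12 zf50) (kf xf10 yf16 zf37) (kf xf10 yf11 zf18) (kf xf10 yf11 zf19) (kf xf8 yf6 zf16) (kf xf7 yf13 zf3) (kf xf10 yf16 zf42) (kf xf10 yf11 zf25) (kf xf8 yf12 zf26))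
def f_f_9 : D2 → D3 → Pt := @D2.rec (fun _ => D3 → Pt) (@D3.rec (fun _ => Pt) (kf xf8 yf6 zf15) (kf xf9 yf0 zf1) (kf xf10 yf11 zf22) (kf xf10 yf11 zf23) (kf xf10 yf16 zf45) (kf xf10 yf11 zf27) (kf xf7 yf13 zf12) (kf xf10 yf16 zf49) (kf xf7 yf13 zf16) (kf xf8 yf9 zf15) (kf xf7 yf13 zf15) (kf xf10 yf17 zf1) (kf xf7 yf13 zf19) (kf xf8 yf12 zf27) (kf xf7 yf13 zf25) (kf xf7 yf14 zf37) (kf xf7 yf13 zf27) (kf xf8 yf12 zf29) (kf xf8 yf12 zf31) (kf xf9 yf0 zf19) (kf xf7 yf13 zf30) (kf xf10 yf17 zf4) (kf xf10 yf17 zf5) (kf xf7 yf23 zf1) (kf xf7 yf23 zf7) (kf xf10 yf12 zf9) (kf xf10 yf12 zf10) (kf xf7 yf13 zf36) (kf xf7 yf13 zf37) (kf xf10 yf17 zf13) (kf xf10 yf17 zf14) (kf xf10 yf17 zf15) (kf xf10 yf5 zf42) (kf xf8 yf2 zf9) (kf xf10 yf11 zf35) (kf xf10 yf12 zf24)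 (kf xf10 yf17 zf24) (kf xf10 yf12 zf26) (kf xf10 yf5 zf48) (kf xf7 yf13 zf45) (kf xf9 yf0 zf40) (kf xf7 yf13 zf48) (kf xf7 yf13 zf49) (kf xf10 yf17 zf29) (kf xf9 yf0 zf44) (kf xf7 yf14 zf1) (kf xf7 yf14 zf2) (kf xf10 yf17 zf33) (kf xf10 yf17 zf34) (kf xf10 yf17 zf35) (kf xf10 yf5 zf41)) (@D3.rec (fun _ => Pt) (kf xf8 yf2 zf22) (kf xf9 yf1 zf1) (kf xf7 yf14 zf7) (kf xf7 yf14 zf8) (kf xf7 yf14 zf9) (kf xf10 yf17 zf43) (kf xf10 yf17 zf44) (kf xf10 yf17 zf45) (kf xf10 yf18 zf3) (kf xf10 yf17 zf47) (kf xf8 yf2 zf32) (kf xf10 yf5 zf34) (kf xf8 yf2 zf34) (kf xf7 yf14 zf11) (kf xf10 yf18 zf10) (kf xf8 yf2 zf36) (kf xf10 yf18 zf12) (kf xf10 yf13 zf12) (kf xf7 yf14 zf15) (kf xf10 yf18 zf16) (kf xf10 yf13 zf15) (kf xf10 yf18 zf15) (kf xf7 yf14 zf18) (kf xf10 yf18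 zf20) (kf xf8 yf9 zf0) (kf xf10 yf13 zf19) (kf xf7 yf14 zf22) (kf xf9 yf1 zf27) (kf xf7 yf14 zf27) (kf xf7 yf14 zf28) (kf xf7 yf14 zf29) (kf xf8 yf12 zf18) (kf xf7 yf14 zf30) (kf xf10 yf18 zf26) (kf xf10 yf18 zf28) (kf xf10 yf18 zf29) (kf xf10 yf18 zf31) (kf xf8 yf3 zf1) (kf xf9 yf1 zf38) (kf xf9 yf1 zf39) (kf xf7 yf14 zf39) (kf xf7 yf17 zf23) (kf xf7 yf14 zf40) (kf xf7 yf14 zf41) (kf xf7 yf17 zf21) (kf xf7 yf14 zf42) (kf xf10 yf17 zf3) (kf xf7 yf14 zf43) (kf xf10 yf18 zf36) (kf xf10 yf18 zf38) (kf xf10 yf18 zf39)) (@D3.rec (fun _ => Pt) (kf xf10 yf18 zf37) (kf xf8 yf3 zf18) (kf xf8 yf3 zf19) (kf xf8 yf3 zf20) (kf xf7 yf14 zf47) (kf xf10 yf18 zf43) (kf xf10 yf18 zf44) (kf xf8 yf2 zf21) (kf xf8 yf3 zf24) (kf xf7 yf14 zf50) (kf xf7 yf15 zf0) (kf xf10 yf18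 zf50) (kf xf10 yf19 zf0) (kf xf10 yf19 zf1) (kf xf8 yf2 zf33) (kf xf8 yf2 zf35) (kf xf10 yf14 zf13) (kf xf9 yf2 zf17) (kf xf7 yf15 zf6) (kf xf7 yf15 zf7) (kf xf10 yf19 zf11) (kf xf10 yf19 zf12) (kf xf10 yf19 zf13) (kf xf10 yf4 zf31) (kf xf8 yf3 zf32) (kf xf9 yf2 zf25) (kf xf7 yf15 zf12) (kf xf7 yf15 zf13) (kf xf7 yf15 zf14) (kf xf10 yf19 zf21) (kf xf10 yf19 zf22) (kf xf10 yf19 zf23) (kf xf10 yf19 zf32) (kf xf10 yf19 zf25) (kf xf8 yf3 zf41) (kf xf10 yf4 zf43) (kf xf8 yf3 zf42) (kf xf10 yf4 zf45) (kf xf8 yf3 zf43) (kf xf10 yf19 zf39) (kf xf10 yf14 zf38) (kf xf7 yf15 zf20) (kf xf10 yf19 zf42) (kf xf10 yf14 zf41) (kf xf10 yf5 zf1) (kf xf9 yf2 zf45) (kf xf7 yf15 zf28) (kf xf7 yf15 zf29) (kf xf7 yf15 zf30) (kf xf9 yf2 zf49) (kf xf7 yf15 zf31)) (@D3.rec (fun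 _ => Pt) (kf xf10 yf19 zf47) (kf xf10 yf19 zf49) (kf xf10 yf19 zf50) (kf xf10 yf20 zf1) (kf xf8 yf4 zf3) (kf xf8 yf4 zf4) (kf xf9 yf3 zf6) (kf xf9 yf3 zf7) (kf xf9 yf3 zf8) (kf xf7 yf15 zf37) (kf xf7 yf15 zf38) (kf xf7 yf15 zf39) (kf xf10 yf20 zf12) (kf xf10 yf20 zf13) (kf xf10 yf20 zf14) (kf xf10 yf20 zf23) (kf xf10 yf20 zf16) (kf xf8 yf4 zf16) (kf xf10 yf20 zf27) (kf xf8 yf4 zf18) (kf xf7 yf15 zf41) (kf xf10 yf20 zf31) (kf xf8 yf4 zf21) (kf xf9 yf3 zf23) (kf xf7 yf15 zf47) (kf xf7 yf15 zf48) (kf xf7 yf15 zf49) (kf xf10 yf20 zf41) (kf xf7 yf16 zf0) (kf xf10 yf20 zf35) (kf xf10 yf20 zf47) (kf xf10 yf20 zf37) (kf xf10 yf20 zf38) (kf xf10 yf21 zf2) (kf xf10 yf20 zf40) (kf xf7 yf15 zf50) (kf xf10 yf21 zf6) (kf xf10 yf20 zf43) (kf xf8 yf4 zf37) (kf xf10 yf21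 zf9) (kf xf8 yf4 zf39) (kf xf7 yf16 zf2) (kf xf10 yf21 zf13) (kf xf8 yf4 zf42) (kf xf10 yf21 zf5) (kf xf7 yf16 zf5) (kf xf10 yf21 zf18) (kf xf7 yf16 zf7) (kf xf10 yf21 zf21) (kf xf10 yf15 zf49) (kf xf7 yf16 zf12)) (@D3.rec (fun _ => Pt) (kf xf7 yf16 zf10) (kf xf10 yf21 zf25) (kf xf10 yf21 zf23) (kf xf10 yf21 zf24) (kf xf7 yf16 zf14) (kf xf10 yf21 zf29) (kf xf10 yf16 zf6) (kf xf10 yf16 zf7) (kf xf9 yf4 zf8) (kf xf9 yf4 zf9) (kf xf7 yf16 zf24) (kf xf9 yf4 zf11) (kf xf7 yf16 zf25) (kf xf7 yf16 zf26) (kf xf9 yf4 zf14) (kf xf7 yf16 zf27) (kf xf9 yf4 zf16) (kf xf7 yf16 zf28) (kf xf10 yf21 zf35) (kf xf10 yf21 zf37) (kf xf10 yf21 zf39) (kf xf10 yf21 zf40) (kf xf10 yf21 zf42) (kf xf10 yf21 zf45) (kf xf8 yf5 zf18) (kf xf8 yf5 zf19) (kf xf8 yf5 zf20) (kf xf9 yf4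 zf27) (kf xf7 yf18 zf39) (kf xf9 yf4 zf29) (kf xf7 yf16 zf42) (kf xf9 yf4 zf31) (kf xf7 yf16 zf43) (kf xf9 yf4 zf33) (kf xf7 yf16 zf44) (kf xf7 yf16 zf45) (kf xf9 yf4 zf36) (kf xf7 yf16 zf46) (kf xf9 yf4 zf38) (kf xf9 yf4 zf39) (kf xf7 yf16 zf47) (kf xf9 yf4 zf41) (kf xf10 yf22 zf9) (kf xf10 yf22 zf11) (kf xf10 yf22 zf7) (kf xf10 yf22 zf13) (kf xf10 yf22 zf16) (kf xf10 yf22 zf18) (kf xf8 yf5 zf35) (kf xf8 yf5 zf36) (kf xf10 yf0 zf41)) (@D3.rec (fun _ => Pt) (kf xf9 yf5 zf0) (kf xf9 yf5 zf1) (kf xf9 yf5 zf2) (kf xf7 yf17 zf5) (kf xf7 yf17 zf6) (kf xf10 yf22 zf31) (kf xf9 yf5 zf6) (kf xf7 yf17 zf12) (kf xf7 yf17 zf22) (kf xf7 yf17 zf13) (kf xf8 yf3 zf22) (kf xf10 yf18 zf27) (kf xf10 yf13 zf35) (kf xf9 yf5 zf13) (kf xf9 yf5 zf14) (kf xf9 yf5 zf15) (kf xf7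 yf17 zf30) (kf xf7 yf17 zf31) (kf xf10 yf22 zf35) (kf xf9 yf5 zf19) (kf xf7 yf17 zf37) (kf xf9 yf5 zf21) (kf xf7 yf17 zf38) (kf xf9 yf5 zf23) (kf xf10 yf22 zf39) (kf xf8 yf6 zf9) (kf xf9 yf5 zf26) (kf xf9 yf5 zf27) (kf xf9 yf5 zf28) (kf xf9 yf5 zf29) (kf xf7 yf17 zf46) (kf xf7 yf17 zf47) (kf xf7 yf17 zf48) (kf xf8 yf5 zf30) (kf xf7 yf17 zf49) (kf xf10 yf22 zf49) (kf xf10 yf22 zf50) (kf xf10 yf23 zf0) (kf xf10 yf23 zf2) (kf xf8 yf6 zf42) (kf xf8 yf6 zf43) (kf xf9 yf5 zf41) (kf xf7 yf18 zf5) (kf xf7 yf18 zf6) (kf xf8 yf7 zf7) (kf xf10 yf23 zf10) (kf xf10 yf23 zf11) (kf xf9 yf5 zf47) (kf xf7 yf18 zf38) (kf xf9 yf5 zf49) (kf xf7 yf18 zf18)) (@D3.rec (fun _ => Pt) (kf xf9 yf6 zf0) (kf xf7 yf18 zf19) (kf xf9 yf6 zf2) (kf xf7 yf18 zf20) (kf xf7 yf18 zf21) (kf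 xf9 yf6 zf5) (kf xf7 yf18 zf22) (kf xf9 yf6 zf7) (kf xf9 yf6 zf8) (kf xf7 yf18 zf23) (kf xf9 yf6 zf10) (kf xf10 yf23 zf17) (kf xf10 yf23 zf15) (kf xf10 yf23 zf19) (kf xf10 yf23 zf20) (kf xf10 yf23 zf21) (kf xf10 yf23 zf25) (kf xf8 yf7 zf12) (kf xf8 yf7 zf13) (kf xf10 yf4 zf30) (kf xf7 yf18 zf37) (kf xf7 yf18 zf40) (kf xf7 yf18 zf41) (kf xf7 yf18 zf42) (kf xf9 yf6 zf24) (kf xf10 yf22 zf37) (kf xf10 yf21 zf33) (kf xf10 yf13 zf38) (kf xf10 yf23 zf33) (kf xf10 yf23 zf34) (kf xf10 yf11 zf45) (kf xf10 yf1 zf25) (kf xf7 yf19 zf0) (kf xf8 yf8 zf20) (kf xf7 yf19 zf10) (kf xf7 yf19 zf8) (kf xf7 yf19 zf9) (kf xf10 yf2 zf43) (kf xf7 yf21 zf18) (kf xf7 yf20 zf1) (kf xf7 yf26 zf50) (kf xf10 yf1 zf34) (kf xf10 yf1 zf38) (kf xf10 yf1 zf39) (kf xf9 yf6 zf44) (kf xf10 yf2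 zf0) (kf xf7 yf19 zf29) (kf xf10 yf2 zf3) (kf xf10 yf2 zf4) (kf xf9 yf6 zf49) (kf xf10 yf8 zf45)) (@D3.rec (fun _ => Pt) (kf xf7 yf19 zf34) (kf xf7 yf19 zf36) (kf xf8 yf7 zf28) (kf xf10 yf23 zf46) (kf xf8 yf7 zf27) (kf xf9 yf7 zf5) (kf xf10 yf2 zf10) (kf xf10 yf2 zf11) (kf xf7 yf19 zf43) (kf xf10 yf23 zf49) (kf xf10 yf23 zf50) (kf xf10 yf2 zf14) (kf xf10 yf24 zf5) (kf xf10 yf2 zf16) (kf xf7 yf19 zf47) (kf xf10 yf24 zf8) (kf xf9 yf7 zf16) (kf xf7 yf19 zf50) (kf xf7 yf20 zf3) (kf xf10 yf1 zf46) (kf xf10 yf1 zf37) (kf xf10 yf1 zf47) (kf xf7 yf24 zf48) (kf xf10 yf2 zf23) (kf xf7 yf24 zf41) (kf xf7 yf25 zf5) (kf xf7 yf20 zf12) (kf xf10 yf24 zf15) (kf xf10 yf2 zf27) (kf xf10 yf2 zf28) (kf xf7 yf20 zf15) (kf xf7 yf20 zf16) (kf xf10 yf24 zf20) (kf xf10 yf24 zf21)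 (kf xf10 yf2 zf34) (kf xf10 yf2 zf36) (kf xf7 yf22 zf9) (kf xf7 yf20 zf23) (kf xf10 yf3 zf1) (kf xf10 yf3 zf2) (kf xf7 yf20 zf30) (kf xf10 yf24 zf26) (kf xf10 yf3 zf14) (kf xf10 yf3 zf15) (kf xf7 yf22 zf40) (kf xf7 yf20 zf35) (kf xf10 yf24 zf30) (kf xf10 yf24 zf31) (kf xf10 yf12 zf7) (kf xf10 yf3 zf28) (kf xf7 yf23 zf4)) (@D3.rec (fun _ => Pt) (kf xf10 yf24 zf36) (kf xf7 yf23 zf6) (kf xf10 yf12 zf8) (kf xf10 yf1 zf24) (kf xf7 yf20 zf45) (kf xf7 yf20 zf46) (kf xf7 yf20 zf47) (kf xf10 yf24 zf39) (kf xf10 yf24 zf40) (kf xf10 yf24 zf41) (kf xf10 yf3 zf37) (kf xf7 yf21 zf0) (kf xf10 yf24 zf44) (kf xf10 yf24 zf45) (kf xf10 yf24 zf47) (kf xf10 yf3 zf44) (kf xf8 yf11 zf44) (kf xf7 yf21 zf5) (kf xf7 yf21 zf6) (kf xf7 yf21 zf7) (kf xf10 yf25 zf0) (kf xf10 yf25 zf1)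 (kf xf10 yf25 zf2) (kf xf10 yf25 zf10) (kf xf10 yf25 zf4) (kf xf10 yf4 zf3) (kf xf10 yf25 zf15) (kf xf10 yf4 zf5) (kf xf7 yf21 zf9) (kf xf10 yf25 zf19) (kf xf10 yf4 zf8) (kf xf7 yf21 zf12) (kf xf10 yf25 zf22) (kf xf10 yf25 zf21) (kf xf7 yf21 zf15) (kf xf7 yf23 zf49) (kf xf7 yf23 zf50) (kf xf10 yf2 zf47) (kf xf7 yf21 zf22) (kf xf7 yf21 zf23) (kf xf7 yf21 zf24) (kf xf9 yf8 zf41) (kf xf7 yf21 zf25) (kf xf10 yf25 zf27) (kf xf10 yf25 zf28) (kf xf10 yf25 zf29) (kf xf10 yf25 zf31) (kf xf10 yf25 zf26) (kf xf10 yf4 zf22) (kf xf8 yf11 zf43) (kf xf7 yf21 zf39)) (@D3.rec (fun _ => Pt) (kf xf7 yf21 zf36) (kf xf7 yf21 zf37) (kf xf7 yf21 zf38) (kf xf9 yf9 zf3) (kf xf10 yf13 zf21) (kf xf10 yf13 zf34) (kf xf10 yf25 zf39) (kf xf10 yf25 zf40) (kf xf8 yf1 zf35) (kf xf10 yf4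 zf23) (kf xf7 yf25 zf48) (kf xf7 yf26 zf8) (kf xf10 yf1 zf15) (kf xf10 yf1 zf16) (kf xf10 yf1 zf17) (kf xf9 yf9 zf15) (kf xf9 yf9 zf16) (kf xf9 yf9 zf17) (kf xf7 yf22 zf42) (kf xf7 yf21 zf49) (kf xf7 yf21 zf50) (kf xf10 yf26 zf4) (kf xf10 yf26 zf5) (kf xf10 yf26 zf6) (kf xf10 yf4 zf32) (kf xf9 yf9 zf25) (kf xf7 yf22 zf4) (kf xf7 yf22 zf5) (kf xf7 yf22 zf6) (kf xf10 yf26 zf11) (kf xf10 yf26 zf12) (kf xf10 yf26 zf13) (kf xf10 yf26 zf15) (kf xf10 yf4 zf42) (kf xf10 yf4 zf44) (kf xf10 yf4 zf46) (kf xf7 yf22 zf15) (kf xf7 yf22 zf16) (kf xf7 yf22 zf17) (kf xf10 yf7 zf44) (kf xf10 yf7 zf46) (kf xf10 yf26 zf24) (kf xf10 yf26 zf25) (kf xf10 yf26 zf26) (kf xf10 yf5 zf13) (kf xf10 yf5 zf14) (kf xf10 yf5 zf15) (kf xf7 yf22 zf26) (kf xf7 yf22 zf27) (kf xf7 yf22 zf28)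 (kf xf10 yf8 zf10)) (@D3.rec (fun _ => Pt) (kf xf10 yf8 zf12) (kf xf10 yf8 zf14) (kf xf10 yf26 zf36) (kf xf10 yf26 zf37) (kf xf10 yf26 zf38) (kf xf10 yf5 zf28) (kf xf10 yf5 zf29) (kf xf10 yf5 zf30) (kf xf7 yf22 zf32) (kf xf10 yf26 zf48) (kf xf10 yf5 zf35) (kf xf7 yf22 zf35) (kf xf7 yf22 zf36) (kf xf10 yf26 zf50) (kf xf11 yf0 zf0) (kf xf11 yf0 zf1) (kf xf10 yf5 zf43) (kf xf8 yf11 zf39) (kf xf7 yf22 zf43) (kf xf10 yf26 zf3) (kf xf11 yf0 zf6) (kf xf11 yf0 zf7) (kf xf10 yf6 zf6) (kf xf10 yf6 zf8) (kf xf9 yf10 zf24) (kf xf7 yf22 zf48) (kf xf7 yf22 zf49) (kf xf7 yf22 zf50) (kf xf11 yf0 zf15) (kf xf11 yf0 zf16) (kf xf11 yf0 zf17) (kf xf11 yf0 zf26) (kf xf11 yf0 zf19) (kf xf8 yf7 zf14) (kf xf10 yf17 zf9) (kf xf10 yf6 zf18) (kf xf10 yf17 zf10) (kf xf10 yf6 zf21)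 (kf xf11 yf0 zf33) (kf xf8 yf11 zf41) (kf xf7 yf23 zf5) (kf xf11 yf0 zf35) (kf xf9 yf10 zf42) (kf xf7 yf23 zf12) (kf xf7 yf23 zf13) (kf xf7 yf23 zf14) (kf xf9 yf10 zf46) (kf xf7 yf23 zf15) (kf xf11 yf0 zf38) (kf xf11 yf0 zf40) (kf xf11 yf0 zf41)) (@D3.rec (fun _ => Pt) (kf xf11 yf0 zf43) (kf xf11 yf0 zf45) (kf xf8 yf11 zf9) (kf xf8 yf10 zf50) (kf xf10 yf6 zf37) (kf xf8 yf11 zf26) (kf xf9 yf11 zf6) (kf xf7 yf23 zf22) (kf xf7 yf23 zf23) (kf xf7 yf23 zf24) (kf xf11 yf1 zf7) (kf xf11 yf1 zf8) (kf xf11 yf1 zf9) (kf xf11 yf1 zf17) (kf xf11 yf1 zf11) (kf xf10 yf6 zf49) (kf xf10 yf26 zf21) (kf xf10 yf7 zf0) (kf xf7 yf23 zf26) (kf xf11 yf1 zf25) (kf xf10 yf7 zf3) (kf xf9 yf11 zf21) (kf xf7 yf23 zf32) (kf xf7 yf23 zf33) (kf xf7 yf23 zf34) (kf xf11 yf1 zf35) (kf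 xf7 yf23 zf36) (kf xf11 yf1 zf29) (kf xf11 yf1 zf41) (kf xf11 yf1 zf31) (kf xf11 yf1 zf32) (kf xf11 yf1 zf47) (kf xf11 yf1 zf34) (kf xf7 yf23 zf35) (kf xf11 yf2 zf0) (kf xf11 yf1 zf37) (kf xf10 yf7 zf19) (kf xf11 yf2 zf4) (kf xf10 yf7 zf21) (kf xf7 yf23 zf38) (kf xf11 yf2 zf8) (kf xf10 yf7 zf24) (kf xf11 yf1 zf50) (kf xf7 yf23 zf41) (kf xf11 yf2 zf13) (kf xf7 yf23 zf43) (kf xf11 yf2 zf14) (kf xf7 yf23 zf47) (kf xf7 yf23 zf46) (kf xf11 yf2 zf15) (kf xf11 yf2 zf16)) (@D3.rec (fun _ => Pt) (kf xf10 yf25 zf25) (kf xf9 yf12 zf1) (kf xf9 yf12 zf2) (kf xf7 yf24 zf6) (kf xf9 yf12 zf4) (kf xf7 yf24 zf7) (kf xf7 yf24 zf8) (kf xf9 yf12 zf7) (kf xf7 yf24 zf9) (kf xf9 yf12 zf9) (kf xf7 yf24 zf10) (kf xf11 yf2 zf20) (kf xf11 yf2 zf22) (kf xf11 yf2 zf24) (kf xf11 yf2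 zf25) (kf xf11 yf2 zf27) (kf xf11 yf2 zf30) (kf xf10 yf8 zf3) (kf xf10 yf8 zf4) (kf xf10 yf8 zf5) (kf xf9 yf12 zf20) (kf xf7 yf24 zf24) (kf xf9 yf12 zf22) (kf xf7 yf24 zf25) (kf xf9 yf12 zf24) (kf xf7 yf24 zf26) (kf xf7 yf24 zf27) (kf xf9 yf12 zf27) (kf xf7 yf24 zf28) (kf xf9 yf12 zf29) (kf xf9 yf12 zf30) (kf xf7 yf24 zf29) (kf xf9 yf12 zf32) (kf xf10 yf22 zf46) (kf xf11 yf2 zf42) (kf xf11 yf2 zf44) (kf xf11 yf2 zf46) (kf xf11 yf2 zf48) (kf xf11 yf3 zf0) (kf xf10 yf8 zf21) (kf xf10 yf8 zf22) (kf xf10 yf0 zf42) (kf xf10 yf8 zf50) (kf xf10 yf10 zf0) (kf xf10 yf9 zf3) (kf xf10 yf9 zf4) (kf xf9 yf12 zf46) (kf xf10 yf24 zf14) (kf xf10 yf9 zf14) (kf xf10 yf9 zf15) (kf xf9 yf12 zf50)) (@D3.rec (fun _ => Pt) (kf xf10 yf9 zf19) (kf xf10 yf9 zf20) (kf xf10 yf24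 zf2) (kf xf10 yf24 zf13) (kf xf10 yf9 zf26) (kf xf10 yf10 zf3) (kf xf10 yf9 zf28) (kf xf9 yf13 zf7) (kf xf9 yf13 zf8) (kf xf10 yf10 zf4) (kf xf10 yf9 zf44) (kf xf10 yf9 zf45) (kf xf10 yf10 zf8) (kf xf10 yf10 zf9) (kf xf7 yf25 zf13) (kf xf10 yf12 zf3) (kf xf11 yf3 zf24) (kf xf11 yf3 zf25) (kf xf10 yf10 zf15) (kf xf10 yf10 zf17) (kf xf9 yf13 zf20) (kf xf8 yf0 zf30) (kf xf7 yf25 zf20) (kf xf7 yf25 zf21) (kf xf7 yf25 zf22) (kf xf10 yf25 zf45) (kf xf11 yf3 zf31) (kf xf10 yf10 zf29) (kf xf10 yf10 zf30) (kf xf10 yf10 zf36) (kf xf10 yf10 zf38) (kf xf8 yf0 zf49) (kf xf7 yf25 zf31) (kf xf7 yf25 zf32) (kf xf7 yf25 zf33) (kf xf10 yf25 zf37) (kf xf11 yf3 zf38) (kf xf11 yf3 zf40) (kf xf10 yf10 zf47) (kf xf11 yf3 zf47) (kf xf10 yf10 zf49) (kf xf7 yf25 zf35) (kf xf11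 yf4 zf0) (kf xf10 yf11 zf1) (kf xf10 yf2 zf9) (kf xf7 yf25 zf40) (kf xf9 yf13 zf46) (kf xf9 yf13 zf47) (kf xf8 yf1 zf20) (kf xf7 yf25 zf47) (kf xf7 yf25 zf49)) (@D3.rec (fun _ => Pt) (kf xf8 yf7 zf31) (kf xf7 yf25 zf50) (kf xf10 yf25 zf46) (kf xf10 yf9 zf7) (kf xf11 yf4 zf4) (kf xf11 yf4 zf6) (kf xf10 yf11 zf12) (kf xf10 yf11 zf13) (kf xf10 yf11 zf14) (kf xf8 yf7 zf41) (kf xf8 yf7 zf46) (kf xf7 yf26 zf11) (kf xf10 yf9 zf40) (kf xf10 yf9 zf46) (kf xf10 yf8 zf31) (kf xf10 yf9 zf42) (kf xf10 yf9 zf47) (kf xf10 yf11 zf15) (kf xf10 yf11 zf16) (kf xf7 yf26 zf15) (kf xf7 yf26 zf16) (kf xf11 yf4 zf17) (kf xf10 yf12 zf14) (kf xf10 yf12 zf15) (kf xf7 yf26 zf19) (kf xf7 yf26 zf20) (kf xf11 yf4 zf21) (kf xf11 yf4 zf22) (kf xf11 yf4 zf23) (kf xf10 yf12 zf21) (kf xf10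 yf12 zf23) (kf xf8 yf2 zf10) (kf xf10 yf14 zf0) (kf xf7 yf26 zf27) (kf xf7 yf26 zf28) (kf xf7 yf26 zf29) (kf xf11 yf4 zf30) (kf xf11 yf4 zf31) (kf xf11 yf4 zf32) (kf xf10 yf12 zf36) (kf xf10 yf12 zf37) (kf xf10 yf12 zf38) (kf xf7 yf26 zf34) (kf xf11 yf4 zf39) (kf xf11 yf4 zf40) (kf xf10 yf12 zf45) (kf xf10 yf14 zf4) (kf xf10 yf12 zf47) (kf xf10 yf3 zf10) (kf xf7 yf26 zf39) (kf xf7 yf26 zf40)) (@D3.rec (fun _ => Pt) (kf xf7 yf26 zf41) (kf xf11 yf4 zf47) (kf xf11 yf4 zf48) (kf xf11 yf4 zf49) (kf xf11 yf5 zf4) (kf xf11 yf5 zf0) (kf xf10 yf13 zf6) (kf xf10 yf14 zf11) (kf xf10 yf13 zf8) (kf xf10 yf14 zf12) (kf xf10 yf13 zf11) (kf xf8 yf2 zf38) (kf xf7 yf26 zf47) (kf xf11 yf5 zf13) (kf xf8 yf0 zf3) (kf xf8 yf0 zf4) (kf xf9 yf15 zf16) (kf xf8 yf0 zf5) (kf xf11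 yf5 zf15) (kf xf11 yf5 zf17) (kf xf10 yf13 zf31) (kf xf10 yf13 zf32) (kf xf10 yf13 zf33) (kf xf9 yf15 zf23) (kf xf8 yf0 zf12) (kf xf10 yf13 zf48) (kf xf10 yf13 zf49) (kf xf10 yf13 zf50) (kf xf10 yf14 zf5) (kf xf8 yf2 zf3) (kf xf8 yf0 zf19) (kf xf11 yf5 zf26) (kf xf11 yf5 zf27) (kf xf10 yf14 zf20) (kf xf10 yf14 zf22) (kf xf10 yf12 zf2) (kf xf8 yf0 zf24) (kf xf8 yf0 zf25) (kf xf8 yf0 zf26) (kf xf11 yf5 zf34) (kf xf11 yf5 zf35) (kf xf11 yf5 zf36) (kf xf11 yf5 zf38) (kf xf10 yf14 zf32) (kf xf10 yf14 zf34) (kf xf10 yf14 zf36) (kf xf11 yf3 zf30) (kf xf8 yf0 zf34) (kf xf8 yf0 zf35) (kf xf8 yf0 zf36) (kf xf8 yf8 zf8)) (@D3.rec (fun _ => Pt) (kf xf8 yf0 zf37) (kf xf11 yf5 zf47) (kf xf11 yf5 zf48) (kf xf11 yf5 zf50) (kf xf10 yf15 zf3) (kf xf10 yf15 zf4) (kf xf10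 yf15 zf5) (kf xf8 yf11 zf16) (kf xf8 yf0 zf44) (kf xf8 yf0 zf45) (kf xf11 yf6 zf5) (kf xf11 yf6 zf7) (kf xf10 yf15 zf17) (kf xf11 yf6 zf13) (kf xf10 yf15 zf19) (kf xf8 yf0 zf47) (kf xf10 yf25 zf38) (kf xf10 yf15 zf22) (kf xf11 yf3 zf37) (kf xf8 yf1 zf2) (kf xf8 yf1 zf3) (kf xf8 yf1 zf4) (kf xf11 yf6 zf26) (kf xf8 yf1 zf6) (kf xf11 yf6 zf20) (kf xf11 yf6 zf22) (kf xf11 yf6 zf23) (kf xf11 yf6 zf35) (kf xf11 yf6 zf25) (kf xf8 yf1 zf5) (kf xf11 yf6 zf39) (kf xf11 yf6 zf28) (kf xf10 yf15 zf38) (kf xf11 yf6 zf43) (kf xf10 yf15 zf40) (kf xf8 yf1 zf8) (kf xf11 yf6 zf47) (kf xf10 yf15 zf43) (kf xf11 yf6 zf38) (kf xf8 yf1 zf11) (kf xf11 yf7 zf1) (kf xf8 yf1 zf16) (kf xf8 yf1 zf15) (kf xf11 yf7 zf2) (kf xf11 yf7 zf3) (kf xf8 yf5 zf1) (kf xf10 yf13 zf42) (kf xf10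 yf25 zf44) (kf xf8 yf1 zf26) (kf xf8 yf7 zf16) (kf xf8 yf1 zf27)) (@D3.rec (fun _ => Pt) (kf xf8 yf1 zf28) (kf xf8 yf8 zf44) (kf xf8 yf1 zf29) (kf xf8 yf8 zf46) (kf xf8 yf1 zf30) (kf xf11 yf7 zf7) (kf xf11 yf7 zf8) (kf xf11 yf7 zf10) (kf xf11 yf7 zf11) (kf xf11 yf7 zf13) (kf xf11 yf7 zf16) (kf xf10 yf16 zf22) (kf xf10 yf16 zf23) (kf xf10 yf16 zf24) (kf xf10 yf13 zf43) (kf xf8 yf1 zf44) (kf xf8 yf6 zf14) (kf xf8 yf1 zf45) (kf xf8 yf5 zf34) (kf xf8 yf1 zf46) (kf xf8 yf1 zf47) (kf xf8 yf9 zf10) (kf xf8 yf1 zf48) (kf xf8 yf6 zf11) (kf xf8 yf9 zf12) (kf xf8 yf1 zf49) (kf xf8 yf9 zf14) (kf xf11 yf7 zf27) (kf xf11 yf7 zf29) (kf xf11 yf7 zf31) (kf xf11 yf7 zf33) (kf xf11 yf7 zf36) (kf xf11 yf7 zf26) (kf xf10 yf16 zf35) (kf xf10 yf16 zf36) (kf xf11 yf7 zf47) (kf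 xf9 yf17 zf36) (kf xf8 yf2 zf6) (kf xf8 yf2 zf7) (kf xf8 yf2 zf8) (kf xf11 yf7 zf49) (kf xf11 yf7 zf50) (kf xf11 yf8 zf1) (kf xf10 yf17 zf21) (kf xf9 yf17 zf44) (kf xf8 yf2 zf14) (kf xf8 yf11 zf50) (kf xf9 yf17 zf47) (kf xf8 yf2 zf18) (kf xf8 yf2 zf19) (kf xf8 yf2 zf20)) (@D3.rec (fun _ => Pt) (kf xf11 yf8 zf8) (kf xf11 yf8 zf9) (kf xf11 yf8 zf14) (kf xf11 yf8 zf11) (kf xf10 yf18 zf48) (kf xf10 yf17 zf41) (kf xf9 yf18 zf6) (kf xf8 yf2 zf27) (kf xf8 yf2 zf28) (kf xf8 yf2 zf29) (kf xf11 yf8 zf26) (kf xf8 yf2 zf31) (kf xf11 yf8 zf20) (kf xf11 yf8 zf32) (kf xf11 yf8 zf22) (kf xf11 yf8 zf23) (kf xf11 yf8 zf37) (kf xf11 yf8 zf25) (kf xf8 yf2 zf30) (kf xf11 yf8 zf40) (kf xf11 yf8 zf28) (kf xf10 yf6 zf7) (kf xf10 yf18 zf6) (kf xf10 yf19 zf6) (kf xf10 yf18 zf8)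 (kf xf10 yf19 zf7) (kf xf8 yf2 zf37) (kf xf11 yf8 zf46) (kf xf8 yf2 zf40) (kf xf9 yf18 zf29) (kf xf9 yf18 zf30) (kf xf8 yf2 zf47) (kf xf9 yf18 zf32) (kf xf8 yf2 zf48) (kf xf8 yf2 zf49) (kf xf9 yf18 zf35) (kf xf8 yf2 zf50) (kf xf9 yf18 zf37) (kf xf11 yf8 zf49) (kf xf11 yf9 zf0) (kf xf11 yf9 zf2) (kf xf11 yf9 zf4) (kf xf8 yf11 zf32) (kf xf9 yf18 zf43) (kf xf8 yf3 zf12) (kf xf8 yf3 zf13) (kf xf9 yf18 zf46) (kf xf8 yf3 zf14) (kf xf8 yf3 zf15) (kf xf9 yf18 zf49) (kf xf8 yf3 zf16)) (@D3.rec (fun _ => Pt) (kf xf9 yf19 zf0) (kf xf8 yf3 zf17) (kf xf9 yf19 zf2) (kf xf10 yf22 zf42) (kf xf11 yf9 zf10) (kf xf11 yf7 zf37) (kf xf11 yf9 zf11) (kf xf11 yf9 zf13) (kf xf11 yf7 zf30) (kf xf10 yf16 zf43) (kf xf10 yf16 zf41) (kf xf10 yf0 zf40) (kf xf8 yf3 zf23) (kf xf10 yf18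 zf30) (kf xf11 yf9 zf18) (kf xf9 yf19 zf15) (kf xf8 yf12 zf5) (kf xf9 yf19 zf17) (kf xf8 yf3 zf29) (kf xf8 yf3 zf30) (kf xf8 yf3 zf31) (kf xf11 yf9 zf22) (kf xf11 yf9 zf23) (kf xf11 yf9 zf25) (kf xf10 yf19 zf19) (kf xf9 yf19 zf25) (kf xf8 yf3 zf37) (kf xf8 yf3 zf38) (kf xf8 yf3 zf39) (kf xf10 yf26 zf14) (kf xf8 yf3 zf40) (kf xf11 yf9 zf30) (kf xf11 yf9 zf32) (kf xf11 yf9 zf33) (kf xf11 yf9 zf35) (kf xf11 yf9 zf37) (kf xf10 yf6 zf50) (kf xf10 yf19 zf35) (kf xf10 yf19 zf37) (kf xf9 yf19 zf39) (kf xf9 yf19 zf40) (kf xf8 yf3 zf50) (kf xf8 yf7 zf15) (kf xf8 yf4 zf0) (kf xf8 yf4 zf1) (kf xf8 yf9 zf37) (kf xf8 yf4 zf2) (kf xf8 yf9 zf39) (kf xf11 yf9 zf48) (kf xf11 yf9 zf50) (kf xf11 yf10 zf1)) (@D3.rec (fun _ => Pt) (kf xf11 yf10 zf3) (kf xf10 yf20 zf6) (kf xf8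 yf5 zf50) (kf xf8 yf11 zf29) (kf xf8 yf12 zf8) (kf xf8 yf12 zf9) (kf xf9 yf20 zf6) (kf xf8 yf4 zf11) (kf xf8 yf4 zf12) (kf xf8 yf4 zf13) (kf xf11 yf10 zf21) (kf xf8 yf4 zf15) (kf xf11 yf10 zf15) (kf xf11 yf1 zf4) (kf xf11 yf10 zf17) (kf xf11 yf10 zf18) (kf xf11 yf10 zf32) (kf xf11 yf10 zf20) (kf xf8 yf4 zf14) (kf xf11 yf10 zf36) (kf xf11 yf10 zf23) (kf xf10 yf7 zf20) (kf xf11 yf2 zf2) (kf xf10 yf20 zf26) (kf xf8 yf4 zf17) (kf xf11 yf10 zf42) (kf xf10 yf20 zf29) (kf xf11 yf10 zf35) (kf xf8 yf4 zf20) (kf xf11 yf10 zf46) (kf xf9 yf20 zf30) (kf xf9 yf20 zf31) (kf xf8 yf4 zf28) (kf xf11 yf11 zf2) (kf xf8 yf4 zf30) (kf xf8 yf4 zf31) (kf xf11 yf11 zf9) (kf xf8 yf4 zf33) (kf xf8 yf4 zf26) (kf xf11 yf11 zf13) (kf xf8 yf4 zf36) (kf xf11 yf10 zf50) (kf xf11 yf11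 zf18) (kf xf11 yf11 zf1) (kf xf8 yf4 zf29) (kf xf11 yf11 zf22) (kf xf11 yf11 zf4) (kf xf11 yf11 zf5) (kf xf11 yf11 zf26) (kf xf11 yf11 zf7) (kf xf8 yf4 zf32)) (@D3.rec (fun _ => Pt) (kf xf11 yf11 zf30) (kf xf11 yf11 zf11) (kf xf8 yf4 zf43) (kf xf8 yf4 zf35) (kf xf11 yf11 zf35) (kf xf11 yf1 zf20) (kf xf10 yf21 zf8) (kf xf8 yf4 zf38) (kf xf11 yf11 zf39) (kf xf10 yf21 zf11) (kf xf11 yf11 zf29) (kf xf8 yf4 zf41) (kf xf11 yf11 zf44) (kf xf10 yf21 zf15) (kf xf11 yf11 zf33) (kf xf11 yf11 zf34) (kf xf8 yf4 zf45) (kf xf9 yf21 zf17) (kf xf8 yf4 zf47) (kf xf8 yf4 zf50) (kf xf8 yf5 zf0) (kf xf11 yf12 zf0) (kf xf9 yf21 zf22) (kf xf9 yf21 zf23) (kf xf8 yf5 zf12) (kf xf8 yf7 zf10) (kf xf8 yf5 zf13) (kf xf8 yf5 zf33) (kf xf8 yf5 zf14) (kf xf8 yf5 zf15) (kf xf8 yf7 zf8)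 (kf xf8 yf5 zf16) (kf xf8 yf10 zf42) (kf xf8 yf10 zf43) (kf xf8 yf5 zf17) (kf xf8 yf5 zf31) (kf xf10 yf23 zf1) (kf xf11 yf12 zf2) (kf xf11 yf12 zf5) (kf xf11 yf12 zf6) (kf xf11 yf12 zf4) (kf xf11 yf12 zf10) (kf xf10 yf22 zf2) (kf xf10 yf22 zf3) (kf xf11 yf0 zf29) (kf xf8 yf5 zf32) (kf xf10 yf23 zf3) (kf xf11 yf10 zf0) (kf xf11 yf7 zf9) (kf xf8 yf6 zf12) (kf xf8 yf12 zf21)) (@D3.rec (fun _ => Pt) (kf xf8 yf12 zf22) (kf xf8 yf12 zf23) (kf xf9 yf22 zf2) (kf xf8 yf5 zf43) (kf xf9 yf22 zf4) (kf xf8 yf6 zf10) (kf xf8 yf5 zf49) (kf xf9 yf22 zf7) (kf xf10 yf20 zf7) (kf xf8 yf6 zf13) (kf xf10 yf22 zf26) (kf xf11 yf7 zf34) (kf xf11 yf12 zf16) (kf xf11 yf7 zf28) (kf xf8 yf12 zf32) (kf xf8 yf12 zf33) (kf xf8 yf6 zf21) (kf xf9 yf22 zf17) (kf xf8 yf6 zf27) (kf xf8 yf7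 zf9) (kf xf8 yf6 zf28) (kf xf8 yf11 zf2) (kf xf8 yf11 zf4) (kf xf10 yf23 zf12) (kf xf8 yf12 zf35) (kf xf8 yf12 zf36) (kf xf8 yf12 zf37) (kf xf9 yf22 zf27) (kf xf8 yf12 zf38) (kf xf9 yf22 zf29) (kf xf9 yf22 zf30) (kf xf8 yf6 zf38) (kf xf9 yf22 zf32) (kf xf8 yf6 zf39) (kf xf8 yf6 zf40) (kf xf9 yf22 zf35) (kf xf8 yf6 zf41) (kf xf9 yf22 zf37) (kf xf11 yf12 zf34) (kf xf11 yf12 zf36) (kf xf11 yf12 zf38) (kf xf11 yf12 zf40) (kf xf10 yf23 zf8) (kf xf9 yf22 zf43) (kf xf8 yf6 zf49) (kf xf9 yf22 zf45) (kf xf8 yf6 zf50) (kf xf9 yf22 zf47) (kf xf9 yf22 zf48) (kf xf10 yf23 zf13) (kf xf8 yf11 zf10)) (@D3.rec (fun _ => Pt) (kf xf8 yf7 zf11) (kf xf11 yf12 zf7) (kf xf11 yf9 zf49) (kf xf11 yf12 zf3) (kf xf11 yf12 zf50) (kf xf10 yf0 zf30) (kf xf9 yf23 zf6) (kf xf10 yf9 zf18)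 (kf xf9 yf23 zf8) (kf xf8 yf7 zf21) (kf xf11 yf13 zf2) (kf xf8 yf7 zf24) (kf xf10 yf23 zf47) (kf xf10 yf23 zf37) (kf xf11 yf4 zf5) (kf xf8 yf7 zf36) (kf xf10 yf0 zf33) (kf xf10 yf2 zf2) (kf xf10 yf2 zf7) (kf xf9 yf23 zf19) (kf xf9 yf23 zf20) (kf xf9 yf23 zf21) (kf xf8 yf7 zf49) (kf xf10 yf25 zf47) (kf xf8 yf7 zf50) (kf xf8 yf8 zf1) (kf xf10 yf8 zf40) (kf xf8 yf8 zf2) (kf xf11 yf4 zf12) (kf xf10 yf3 zf19) (kf xf11 yf13 zf8) (kf xf10 yf8 zf33) (kf xf11 yf13 zf9) (kf xf11 yf13 zf11) (kf xf9 yf23 zf34) (kf xf9 yf23 zf35) (kf xf11 yf13 zf12) (kf xf9 yf23 zf37) (kf xf11 yf5 zf49) (kf xf8 yf8 zf12) (kf xf10 yf0 zf50) (kf xf10 yf7 zf30) (kf xf9 yf23 zf42) (kf xf9 yf23 zf43) (kf xf9 yf23 zf44) (kf xf10 yf9 zf17) (kf xf9 yf23 zf46) (kf xf10 yf1 zf36) (kf xf8 yf8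 zf17) (kf xf10 yf2 zf8) (kf xf10 yf3 zf35)) (@D3.rec (fun _ => Pt) (kf xf11 yf13 zf27) (kf xf10 yf5 zf44) (kf xf8 yf8 zf22) (kf xf11 yf13 zf30) (kf xf8 yf8 zf33) (kf xf8 yf8 zf25) (kf xf11 yf13 zf32) (kf xf11 yf13 zf33) (kf xf9 yf24 zf8) (kf xf8 yf8 zf28) (kf xf11 yf13 zf36) (kf xf9 yf24 zf11) (kf xf11 yf13 zf29) (kf xf8 yf8 zf31) (kf xf11 yf13 zf40) (kf xf9 yf24 zf15) (kf xf10 yf24 zf38) (kf xf11 yf13 zf31) (kf xf8 yf8 zf35) (kf xf8 yf8 zf37) (kf xf8 yf8 zf40) (kf xf8 yf8 zf41) (kf xf8 yf8 zf50) (kf xf11 yf7 zf12) (kf xf8 yf9 zf1) (kf xf11 yf7 zf14) (kf xf11 yf7 zf15) (kf xf8 yf9 zf2) (kf xf11 yf7 zf17) (kf xf10 yf5 zf46) (kf xf10 yf6 zf24) (kf xf10 yf18 zf22) (kf xf11 yf13 zf45) (kf xf10 yf21 zf31) (kf xf9 yf24 zf34) (kf xf9 yf24 zf35) (kf xf11 yf14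 zf5) (kf xf8 yf9 zf16) (kf xf8 yf9 zf17) (kf xf11 yf7 zf32) (kf xf8 yf9 zf18) (kf xf11 yf7 zf35) (kf xf8 yf9 zf19) (kf xf11 yf7 zf38) (kf xf8 yf9 zf20) (kf xf10 yf17 zf0) (kf xf11 yf14 zf6) (kf xf11 yf14 zf7) (kf xf11 yf14 zf9) (kf xf11 yf14 zf11) (kf xf11 yf14 zf19)) (@D3.rec (fun _ => Pt) (kf xf9 yf25 zf0) (kf xf9 yf25 zf1) (kf xf11 yf14 zf23) (kf xf8 yf9 zf23) (kf xf8 yf9 zf28) (kf xf8 yf9 zf29) (kf xf8 yf9 zf30) (kf xf10 yf1 zf7) (kf xf10 yf1 zf8) (kf xf10 yf1 zf9) (kf xf11 yf14 zf25) (kf xf11 yf14 zf26) (kf xf11 yf14 zf27) (kf xf9 yf25 zf13) (kf xf9 yf25 zf14) (kf xf9 yf25 zf15) (kf xf8 yf9 zf41) (kf xf8 yf9 zf42) (kf xf8 yf9 zf44) (kf xf11 yf10 zf2) (kf xf8 yf9 zf45) (kf xf11 yf10 zf4) (kf xf11 yf10 zf5) (kf xf8 yf9 zf46) (kf xf8 yf11 zf5) (kf xf11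 yf14 zf37) (kf xf8 yf10 zf46) (kf xf11 yf14 zf38) (kf xf11 yf14 zf41) (kf xf11 yf14 zf44) (kf xf9 yf25 zf30) (kf xf9 yf25 zf31) (kf xf11 yf1 zf1) (kf xf8 yf10 zf9) (kf xf8 yf10 zf12) (kf xf8 yf10 zf13) (kf xf11 yf14 zf50) (kf xf8 yf10 zf15) (kf xf11 yf15 zf2) (kf xf8 yf10 zf2) (kf xf11 yf15 zf6) (kf xf8 yf10 zf18) (kf xf9 yf25 zf42) (kf xf8 yf10 zf5) (kf xf11 yf15 zf10) (kf xf8 yf11 zf6) (kf xf11 yf15 zf13) (kf xf8 yf10 zf47) (kf xf8 yf10 zf8) (kf xf11 yf15 zf15) (kf xf11 yf14 zf48)) (@D3.rec (fun _ => Pt) (kf xf8 yf10 zf11) (kf xf11 yf15 zf17) (kf xf11 yf15 zf18) (kf xf11 yf14 zf45) (kf xf8 yf10 zf14) (kf xf11 yf15 zf22) (kf xf11 yf15 zf1) (kf xf8 yf10 zf27) (kf xf8 yf10 zf17) (kf xf11 yf15 zf26) (kf xf11 yf15 zf8) (kf xf8 yf10 zf31) (kf xf8 yf10 zf32)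 (kf xf8 yf10 zf21) (kf xf8 yf10 zf22) (kf xf11 yf15 zf32) (kf xf9 yf26 zf16) (kf xf11 yf15 zf21) (kf xf8 yf10 zf25) (kf xf11 yf15 zf36) (kf xf9 yf26 zf20) (kf xf11 yf15 zf24) (kf xf11 yf15 zf25) (kf xf8 yf10 zf29) (kf xf11 yf15 zf40) (kf xf11 yf1 zf2) (kf xf11 yf15 zf29) (kf xf11 yf15 zf30) (kf xf9 yf26 zf28) (kf xf9 yf26 zf29) (kf xf8 yf10 zf38) (kf xf11 yf12 zf8) (kf xf11 yf12 zf9) (kf xf11 yf15 zf45) (kf xf11 yf12 zf23) (kf xf11 yf14 zf28) (kf xf11 yf15 zf47) (kf xf11 yf12 zf47) (kf xf8 yf11 zf11) (kf xf10 yf15 zf8) (kf xf8 yf11 zf20) (kf xf8 yf11 zf24) (kf xf8 yf12 zf1) (kf xf8 yf12 zf7) (kf xf11 yf1 zf5) (kf xf11 yf10 zf9) (kf xf8 yf11 zf34) (kf xf10 yf24 zf50) (kf xf10 yf3 zf45) (kf xf8 yf11 zf46) (kf xf8 yf11 zf49))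
def f_f_10 : D2 → D3 → Pt := @D2.rec (fun _ => D3 → Pt) (@D3.rec (fun _ => Pt) (kf xf8 yf12 zf3) (kf xf11 yf8 zf5) (kf xf11 yf8 zf6) (kf xf8 yf12 zf20) (kf xf11 yf9 zf20) (kf xf11 yf9 zf21) (kf xf11 yf10 zf10) (kf xf11 yf10 zf12) (kf xf8 yf12 zf12) (kf xf8 yf12 zf11) (kf xf11 yf16 zf3) (kf xf11 yf16 zf4) (kf xf8 yf12 zf15) (kf xf10 yf0 zf13) (kf xf10 yf13 zf25) (kf xf10 yf18 zf32) (kf xf11 yf12 zf17) (kf xf11 yf12 zf18) (kf xf11 yf12 zf21) (kf xf11 yf12 zf22) (kf xf11 yf12 zf24) (kf xf11 yf12 zf26) (kf xf11 yf12 zf27) (kf xf11 yf12 zf29) (kf xf11 yf12 zf31) (kf xf8 yf12 zf45) (kf xf8 yf12 zf43) (kf xf10 yf1 zf31) (kf xf8 yf12 zf50) (kf xf11 yf16 zf15) (kf xf9 yf23 zf5) (kf xf8 yf13 zf1) (kf xf11 yf16 zf18) (kf xf9 yf23 zf16) (kf xf8 yf13 zf3) (kf xf11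 yf16 zf21) (kf xf8 yf13 zf7) (kf xf8 yf13 zf22) (kf xf8 yf13 zf6) (kf xf11 yf16 zf25) (kf xf9 yf19 zf11) (kf xf9 yf4 zf50) (kf xf9 yf12 zf41) (kf xf8 yf13 zf15) (kf xf11 yf16 zf17) (kf xf8 yf13 zf14) (kf xf11 yf16 zf31) (kf xf10 yf0 zf47) (kf xf8 yf13 zf17) (kf xf11 yf16 zf34) (kf xf9 yf23 zf40)) (@D3.rec (fun _ => Pt) (kf xf11 yf16 zf33) (kf xf8 yf13 zf20) (kf xf11 yf16 zf38) (kf xf11 yf16 zf23) (kf xf11 yf16 zf24) (kf xf8 yf13 zf24) (kf xf11 yf16 zf41) (kf xf9 yf25 zf7) (kf xf9 yf25 zf8) (kf xf9 yf25 zf9) (kf xf10 yf1 zf10) (kf xf10 yf1 zf11) (kf xf8 yf13 zf34) (kf xf8 yf13 zf35) (kf xf8 yf13 zf36) (kf xf9 yf9 zf12) (kf xf9 yf9 zf13) (kf xf9 yf9 zf14) (kf xf11 yf16 zf46) (kf xf11 yf16 zf47) (kf xf11 yf16 zf48) (kf xf10 yf1 zf21) (kf xf10 yf1 zf22) (kf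 xf10 yf1 zf23) (kf xf9 yf8 zf3) (kf xf9 yf6 zf31) (kf xf8 yf13 zf45) (kf xf8 yf13 zf47) (kf xf8 yf13 zf48) (kf xf8 yf16 zf34) (kf xf8 yf14 zf44) (kf xf10 yf0 zf27) (kf xf8 yf14 zf6) (kf xf8 yf14 zf34) (kf xf9 yf6 zf41) (kf xf8 yf14 zf10) (kf xf9 yf23 zf47) (kf xf9 yf7 zf20) (kf xf9 yf6 zf42) (kf xf9 yf6 zf43) (kf xf10 yf1 zf40) (kf xf10 yf1 zf41) (kf xf10 yf1 zf42) (kf xf8 yf21 zf37) (kf xf8 yf14 zf16) (kf xf11 yf17 zf19) (kf xf9 yf7 zf19) (kf xf9 yf7 zf21) (kf xf8 yf14 zf45) (kf xf8 yf15 zf3) (kf xf8 yf20 zf40)) (@D3.rec (fun _ => Pt) (kf xf9 yf6 zf45) (kf xf8 yf14 zf32) (kf xf9 yf23 zf17) (kf xf9 yf6 zf47) (kf xf9 yf6 zf48) (kf xf8 yf14 zf37) (kf xf11 yf17 zf26) (kf xf9 yf23 zf18) (kf xf9 yf23 zf49) (kf xf9 yf13 zf44) (kf xf9 yf7 zf6) (kf xf9 yf7 zf7)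 (kf xf11 yf17 zf12) (kf xf11 yf17 zf20) (kf xf9 yf7 zf11) (kf xf11 yf17 zf35) (kf xf9 yf7 zf13) (kf xf8 yf14 zf49) (kf xf11 yf17 zf39) (kf xf8 yf15 zf2) (kf xf10 yf2 zf20) (kf xf8 yf15 zf1) (kf xf11 yf17 zf43) (kf xf9 yf7 zf23) (kf xf8 yf15 zf6) (kf xf11 yf17 zf44) (kf xf11 yf17 zf45) (kf xf9 yf7 zf28) (kf xf9 yf7 zf29) (kf xf8 yf15 zf9) (kf xf8 yf15 zf10) (kf xf11 yf18 zf1) (kf xf11 yf18 zf2) (kf xf11 yf18 zf3) (kf xf9 yf7 zf34) (kf xf8 yf25 zf9) (kf xf9 yf7 zf35) (kf xf8 yf17 zf10) (kf xf8 yf17 zf11) (kf xf11 yf18 zf16) (kf xf8 yf17 zf13) (kf xf8 yf25 zf15) (kf xf8 yf15 zf18) (kf xf9 yf6 zf37) (kf xf8 yf15 zf21) (kf xf8 yf15 zf22) (kf xf8 yf15 zf23) (kf xf9 yf8 zf37) (kf xf11 yf18 zf20) (kf xf11 yf18 zf21) (kf xf11 yf18 zf22)) (@D3.rec (fun _ => Pt)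 (kf xf8 yf22 zf4) (kf xf9 yf7 zf38) (kf xf9 yf7 zf39) (kf xf8 yf15 zf32) (kf xf8 yf15 zf34) (kf xf8 yf26 zf12) (kf xf8 yf26 zf26) (kf xf8 yf21 zf42) (kf xf8 yf22 zf21) (kf xf8 yf21 zf16) (kf xf9 yf14 zf48) (kf xf8 yf15 zf39) (kf xf11 yf18 zf33) (kf xf11 yf18 zf34) (kf xf9 yf7 zf42) (kf xf9 yf7 zf43) (kf xf8 yf17 zf50) (kf xf8 yf23 zf31) (kf xf8 yf15 zf46) (kf xf9 yf23 zf29) (kf xf11 yf18 zf40) (kf xf8 yf15 zf47) (kf xf11 yf18 zf0) (kf xf8 yf15 zf49) (kf xf8 yf15 zf50) (kf xf11 yf18 zf42) (kf xf11 yf18 zf43) (kf xf11 yf18 zf45) (kf xf9 yf7 zf49) (kf xf8 yf16 zf3) (kf xf11 yf18 zf49) (kf xf8 yf16 zf7) (kf xf8 yf18 zf24) (kf xf8 yf16 zf6) (kf xf11 yf19 zf2) (kf xf9 yf23 zf50) (kf xf8 yf16 zf10) (kf xf9 yf8 zf10) (kf xf8 yf16 zf13) (kf xf8 yf16 zf14) (kf xf11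 yf19 zf3) (kf xf11 yf19 zf4) (kf xf11 yf19 zf5) (kf xf11 yf19 zf10) (kf xf9 yf8 zf15) (kf xf9 yf26 zf48) (kf xf8 yf16 zf19) (kf xf8 yf16 zf20) (kf xf8 yf16 zf21) (kf xf11 yf19 zf13) (kf xf11 yf19 zf14)) (@D3.rec (fun _ => Pt) (kf xf11 yf19 zf15) (kf xf11 yf19 zf20) (kf xf11 yf19 zf17) (kf xf9 yf8 zf25) (kf xf11 yf19 zf24) (kf xf9 yf8 zf27) (kf xf8 yf16 zf23) (kf xf11 yf19 zf28) (kf xf9 yf8 zf30) (kf xf8 yf16 zf26) (kf xf11 yf19 zf31) (kf xf8 yf19 zf13) (kf xf11 yf19 zf30) (kf xf8 yf16 zf29) (kf xf11 yf19 zf35) (kf xf8 yf19 zf17) (kf xf8 yf19 zf18) (kf xf8 yf16 zf33) (kf xf8 yf16 zf38) (kf xf8 yf16 zf39) (kf xf8 yf16 zf40) (kf xf11 yf19 zf39) (kf xf9 yf8 zf48) (kf xf9 yf9 zf9) (kf xf10 yf4 zf24) (kf xf8 yf16 zf49) (kf xf8 yf16 zf50) (kf xf11 yf19 zf43)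 (kf xf11 yf19 zf44) (kf xf11 yf19 zf45) (kf xf9 yf6 zf19) (kf xf9 yf2 zf23) (kf xf9 yf9 zf24) (kf xf10 yf4 zf33) (kf xf8 yf17 zf4) (kf xf8 yf17 zf5) (kf xf8 yf17 zf6) (kf xf11 yf20 zf4) (kf xf11 yf20 zf5) (kf xf11 yf20 zf6) (kf xf11 yf20 zf15) (kf xf11 yf20 zf8) (kf xf9 yf9 zf33) (kf xf9 yf2 zf35) (kf xf9 yf9 zf34) (kf xf9 yf2 zf37) (kf xf9 yf9 zf35) (kf xf11 yf20 zf22) (kf xf11 yf18 zf15) (kf xf8 yf17 zf12) (kf xf11 yf20 zf25)) (@D3.rec (fun _ => Pt) (kf xf11 yf18 zf18) (kf xf9 yf2 zf44) (kf xf10 yf5 zf2) (kf xf8 yf17 zf20) (kf xf8 yf17 zf21) (kf xf8 yf17 zf22) (kf xf10 yf5 zf6) (kf xf8 yf17 zf23) (kf xf11 yf20 zf29) (kf xf11 yf20 zf30) (kf xf11 yf20 zf31) (kf xf11 yf20 zf33) (kf xf11 yf20 zf35) (kf xf9 yf9 zf44) (kf xf9 yf9 zf45) (kf xf9 yf9 zf46) (kf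 xf10 yf5 zf16) (kf xf8 yf17 zf33) (kf xf8 yf17 zf34) (kf xf8 yf17 zf35) (kf xf10 yf5 zf20) (kf xf8 yf17 zf36) (kf xf10 yf5 zf22) (kf xf8 yf17 zf37) (kf xf11 yf20 zf43) (kf xf11 yf20 zf44) (kf xf11 yf20 zf46) (kf xf11 yf20 zf48) (kf xf9 yf10 zf5) (kf xf9 yf10 zf6) (kf xf9 yf10 zf7) (kf xf8 yf17 zf41) (kf xf11 yf21 zf5) (kf xf11 yf21 zf6) (kf xf9 yf1 zf11) (kf xf9 yf10 zf10) (kf xf8 yf17 zf44) (kf xf8 yf17 zf45) (kf xf11 yf21 zf12) (kf xf11 yf21 zf13) (kf xf11 yf21 zf14) (kf xf9 yf0 zf50) (kf xf9 yf0 zf32) (kf xf9 yf10 zf16) (kf xf9 yf24 zf1) (kf xf11 yf21 zf23) (kf xf9 yf24 zf29) (kf xf8 yf18 zf3) (kf xf9 yf0 zf38) (kf xf8 yf18 zf4) (kf xf11 yf21 zf26)) (@D3.rec (fun _ => Pt) (kf xf10 yf6 zf0) (kf xf8 yf18 zf6) (kf xf8 yf18 zf7) (kf xf11 yf21 zf29) (kf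 xf11 yf21 zf30) (kf xf11 yf21 zf31) (kf xf9 yf10 zf22) (kf xf9 yf18 zf21) (kf xf9 yf10 zf23) (kf xf10 yf6 zf9) (kf xf8 yf18 zf12) (kf xf8 yf18 zf13) (kf xf8 yf18 zf14) (kf xf11 yf21 zf41) (kf xf11 yf21 zf42) (kf xf11 yf21 zf43) (kf xf11 yf21 zf48) (kf xf11 yf21 zf45) (kf xf9 yf10 zf35) (kf xf8 yf18 zf16) (kf xf11 yf22 zf2) (kf xf9 yf10 zf37) (kf xf8 yf18 zf19) (kf xf11 yf22 zf5) (kf xf9 yf24 zf30) (kf xf11 yf22 zf4) (kf xf8 yf18 zf22) (kf xf11 yf22 zf9) (kf xf11 yf19 zf0) (kf xf11 yf19 zf1) (kf xf8 yf18 zf26) (kf xf10 yf6 zf31) (kf xf8 yf18 zf31) (kf xf8 yf18 zf32) (kf xf8 yf18 zf33) (kf xf11 yf22 zf14) (kf xf11 yf22 zf15) (kf xf9 yf11 zf4) (kf xf10 yf6 zf38) (kf xf10 yf6 zf39) (kf xf10 yf6 zf40) (kf xf8 yf18 zf39) (kf xf8 yf18 zf40) (kf xf8 yf18 zf41)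 (kf xf11 yf22 zf22) (kf xf11 yf22 zf23) (kf xf11 yf22 zf24) (kf xf11 yf22 zf33) (kf xf11 yf22 zf26) (kf xf9 yf11 zf15) (kf xf9 yf19 zf36)) (@D3.rec (fun _ => Pt) (kf xf9 yf11 zf17) (kf xf8 yf18 zf43) (kf xf11 yf22 zf40) (kf xf9 yf11 zf20) (kf xf10 yf7 zf4) (kf xf8 yf18 zf49) (kf xf8 yf18 zf50) (kf xf8 yf19 zf0) (kf xf11 yf22 zf50) (kf xf8 yf19 zf2) (kf xf11 yf22 zf44) (kf xf11 yf23 zf4) (kf xf11 yf22 zf46) (kf xf11 yf22 zf47) (kf xf11 yf23 zf10) (kf xf11 yf22 zf49) (kf xf8 yf19 zf1) (kf xf11 yf23 zf14) (kf xf11 yf23 zf1) (kf xf9 yf11 zf36) (kf xf9 yf20 zf21) (kf xf9 yf11 zf38) (kf xf8 yf19 zf4) (kf xf11 yf23 zf20) (kf xf9 yf11 zf41) (kf xf11 yf23 zf13) (kf xf8 yf19 zf7) (kf xf11 yf23 zf25) (kf xf8 yf19 zf9) (kf xf11 yf23 zf28) (kf xf9 yf23 zf41) (kf xf8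 yf19 zf14) (kf xf8 yf19 zf12) (kf xf11 yf23 zf32) (kf xf11 yf23 zf30) (kf xf11 yf23 zf31) (kf xf8 yf19 zf16) (kf xf11 yf23 zf36) (kf xf11 yf19 zf37) (kf xf11 yf19 zf38) (kf xf10 yf7 zf40) (kf xf8 yf19 zf26) (kf xf8 yf19 zf27) (kf xf8 yf19 zf28) (kf xf9 yf9 zf39) (kf xf8 yf19 zf29) (kf xf9 yf9 zf40) (kf xf8 yf19 zf30) (kf xf11 yf23 zf39) (kf xf11 yf23 zf40) (kf xf11 yf23 zf41)) (@D3.rec (fun _ => Pt) (kf xf11 yf23 zf42) (kf xf11 yf23 zf44) (kf xf11 yf23 zf47) (kf xf9 yf12 zf17) (kf xf9 yf12 zf18) (kf xf9 yf12 zf19) (kf xf8 yf19 zf42) (kf xf8 yf19 zf43) (kf xf8 yf19 zf44) (kf xf8 yf19 zf45) (kf xf9 yf9 zf50) (kf xf8 yf19 zf46) (kf xf9 yf10 zf0) (kf xf8 yf19 zf47) (kf xf9 yf10 zf1) (kf xf11 yf24 zf7) (kf xf11 yf24 zf8) (kf xf11 yf24 zf9) (kf xf11 yf24 zf11)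 (kf xf11 yf24 zf13) (kf xf11 yf24 zf15) (kf xf9 yf12 zf39) (kf xf9 yf12 zf40) (kf xf11 yf16 zf28) (kf xf8 yf20 zf17) (kf xf8 yf20 zf2) (kf xf8 yf20 zf3) (kf xf11 yf24 zf22) (kf xf10 yf8 zf28) (kf xf10 yf8 zf29) (kf xf10 yf8 zf30) (kf xf9 yf14 zf14) (kf xf8 yf20 zf10) (kf xf9 yf23 zf31) (kf xf11 yf24 zf26) (kf xf10 yf8 zf35) (kf xf10 yf8 zf36) (kf xf10 yf8 zf37) (kf xf8 yf22 zf31) (kf xf8 yf22 zf32) (kf xf9 yf23 zf26) (kf xf10 yf8 zf41) (kf xf10 yf8 zf42) (kf xf10 yf8 zf43) (kf xf8 yf21 zf27) (kf xf9 yf6 zf50) (kf xf10 yf8 zf46) (kf xf10 yf8 zf47) (kf xf8 yf20 zf24) (kf xf8 yf21 zf22) (kf xf9 yf12 zf42)) (@D3.rec (fun _ => Pt) (kf xf8 yf20 zf26) (kf xf11 yf24 zf44) (kf xf11 yf24 zf45) (kf xf9 yf12 zf44) (kf xf9 yf12 zf45) (kf xf10 yf9 zf5) (kf xf10 yf9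 zf6) (kf xf9 yf14 zf3) (kf xf8 yf20 zf32) (kf xf11 yf25 zf3) (kf xf8 yf20 zf34) (kf xf8 yf20 zf35) (kf xf11 yf25 zf5) (kf xf11 yf25 zf6) (kf xf9 yf12 zf48) (kf xf9 yf12 zf49) (kf xf10 yf9 zf16) (kf xf9 yf23 zf45) (kf xf9 yf23 zf7) (kf xf9 yf13 zf0) (kf xf9 yf13 zf1) (kf xf8 yf20 zf43) (kf xf8 yf20 zf44) (kf xf11 yf25 zf15) (kf xf11 yf25 zf16) (kf xf11 yf25 zf17) (kf xf9 yf13 zf4) (kf xf11 yf25 zf23) (kf xf9 yf13 zf6) (kf xf10 yf9 zf29) (kf xf10 yf9 zf30) (kf xf10 yf9 zf31) (kf xf8 yf20 zf50) (kf xf11 yf25 zf28) (kf xf8 yf21 zf3) (kf xf8 yf21 zf2) (kf xf11 yf25 zf30) (kf xf8 yf24 zf14) (kf xf8 yf21 zf6) (kf xf8 yf21 zf8) (kf xf9 yf14 zf12) (kf xf11 yf18 zf31) (kf xf9 yf14 zf15) (kf xf8 yf22 zf22) (kf xf9 yf13 zf10) (kf xf9 yf13 zf11) (kf xf9 yf14 zf13)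 (kf xf9 yf14 zf16) (kf xf8 yf21 zf43) (kf xf8 yf22 zf23) (kf xf8 yf22 zf27)) (@D3.rec (fun _ => Pt) (kf xf9 yf12 zf43) (kf xf11 yf24 zf40) (kf xf11 yf24 zf41) (kf xf9 yf13 zf5) (kf xf9 yf13 zf9) (kf xf10 yf10 zf5) (kf xf11 yf24 zf34) (kf xf11 yf24 zf35) (kf xf9 yf13 zf12) (kf xf9 yf13 zf13) (kf xf8 yf21 zf30) (kf xf8 yf21 zf31) (kf xf11 yf18 zf25) (kf xf11 yf25 zf50) (kf xf11 yf26 zf0) (kf xf9 yf13 zf18) (kf xf11 yf17 zf13) (kf xf9 yf13 zf19) (kf xf10 yf10 zf18) (kf xf11 yf26 zf11) (kf xf10 yf10 zf20) (kf xf11 yf17 zf18) (kf xf8 yf21 zf39) (kf xf8 yf25 zf17) (kf xf8 yf21 zf44) (kf xf11 yf18 zf30) (kf xf11 yf17 zf38) (kf xf11 yf25 zf35) (kf xf8 yf22 zf11) (kf xf9 yf13 zf27) (kf xf9 yf13 zf28) (kf xf8 yf21 zf49) (kf xf8 yf21 zf50) (kf xf11 yf26 zf20) (kf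 xf11 yf26 zf21) (kf xf11 yf26 zf22) (kf xf9 yf13 zf29) (kf xf11 yf26 zf31) (kf xf9 yf13 zf30) (kf xf8 yf25 zf37) (kf xf8 yf22 zf5) (kf xf8 yf22 zf6) (kf xf11 yf18 zf9) (kf xf11 yf18 zf26) (kf xf11 yf25 zf21) (kf xf11 yf26 zf6) (kf xf11 yf26 zf35) (kf xf9 yf13 zf38) (kf xf11 yf26 zf44) (kf xf9 yf13 zf40) (kf xf8 yf22 zf8)) (@D3.rec (fun _ => Pt) (kf xf11 yf26 zf48) (kf xf9 yf13 zf43) (kf xf11 yf26 zf18) (kf xf10 yf11 zf3) (kf xf11 yf26 zf15) (kf xf8 yf22 zf14) (kf xf12 yf0 zf2) (kf xf10 yf11 zf7) (kf xf10 yf11 zf8) (kf xf8 yf22 zf18) (kf xf11 yf25 zf33) (kf xf11 yf25 zf36) (kf xf9 yf14 zf6) (kf xf9 yf14 zf7) (kf xf9 yf14 zf8) (kf xf9 yf14 zf17) (kf xf9 yf14 zf18) (kf xf11 yf24 zf30) (kf xf8 yf26 zf44) (kf xf8 yf26 zf45) (kf xf8 yf22 zf36) (kf xf12 yf0 zf11)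 (kf xf9 yf0 zf2) (kf xf9 yf0 zf3) (kf xf10 yf11 zf24) (kf xf8 yf26 zf49) (kf xf12 yf0 zf14) (kf xf9 yf0 zf5) (kf xf8 yf22 zf45) (kf xf12 yf0 zf17) (kf xf8 yf22 zf49) (kf xf8 yf22 zf48) (kf xf12 yf0 zf19) (kf xf8 yf23 zf0) (kf xf8 yf23 zf1) (kf xf9 yf0 zf34) (kf xf12 yf0 zf21) (kf xf10 yf11 zf37) (kf xf10 yf11 zf38) (kf xf10 yf11 zf39) (kf xf8 yf23 zf8) (kf xf8 yf23 zf9) (kf xf8 yf23 zf10) (kf xf8 yf24 zf29) (kf xf8 yf23 zf11) (kf xf9 yf6 zf30) (kf xf12 yf0 zf26) (kf xf11 yf16 zf29) (kf xf12 yf0 zf27) (kf xf12 yf0 zf29) (kf xf10 yf11 zf50)) (@D3.rec (fun _ => Pt) (kf xf10 yf12 zf0) (kf xf10 yf12 zf1) (kf xf9 yf15 zf35) (kf xf9 yf13 zf15) (kf xf8 yf23 zf16) (kf xf12 yf0 zf39) (kf xf12 yf0 zf40) (kf xf9 yf7 zf48) (kf xf9 yf8 zf2) (kf xf9 yf0 zf25) (kf xf9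 yf0 zf26) (kf xf8 yf23 zf21) (kf xf12 yf0 zf46) (kf xf12 yf0 zf47) (kf xf9 yf14 zf22) (kf xf9 yf14 zf23) (kf xf8 yf23 zf24) (kf xf8 yf23 zf25) (kf xf12 yf1 zf4) (kf xf12 yf1 zf5) (kf xf12 yf1 zf6) (kf xf9 yf14 zf29) (kf xf11 yf18 zf37) (kf xf9 yf14 zf30) (kf xf9 yf0 zf35) (kf xf12 yf1 zf16) (kf xf9 yf0 zf37) (kf xf11 yf18 zf39) (kf xf8 yf23 zf33) (kf xf11 yf25 zf4) (kf xf8 yf23 zf36) (kf xf8 yf23 zf37) (kf xf8 yf23 zf38) (kf xf12 yf1 zf21) (kf xf12 yf1 zf22) (kf xf12 yf1 zf23) (kf xf9 yf14 zf39) (kf xf9 yf14 zf40) (kf xf9 yf14 zf41) (kf xf10 yf12 zf39) (kf xf8 yf23 zf43) (kf xf8 yf23 zf44) (kf xf12 yf1 zf29) (kf xf12 yf1 zf30) (kf xf12 yf1 zf31) (kf xf9 yf14 zf45) (kf xf12 yf1 zf40) (kf xf9 yf14 zf47) (kf xf11 yf18 zf32) (kf xf8 yf23 zf49) (kf xf8 yf23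 zf50)) (@D3.rec (fun _ => Pt) (kf xf8 yf24 zf0) (kf xf12 yf1 zf44) (kf xf12 yf1 zf45) (kf xf12 yf1 zf46) (kf xf12 yf2 zf1) (kf xf12 yf1 zf48) (kf xf9 yf15 zf6) (kf xf12 yf2 zf7) (kf xf9 yf15 zf8) (kf xf8 yf24 zf2) (kf xf12 yf2 zf11) (kf xf9 yf15 zf10) (kf xf9 yf1 zf17) (kf xf8 yf24 zf6) (kf xf12 yf2 zf15) (kf xf9 yf1 zf20) (kf xf12 yf2 zf14) (kf xf8 yf24 zf9) (kf xf12 yf2 zf18) (kf xf9 yf1 zf25) (kf xf8 yf24 zf13) (kf xf9 yf9 zf4) (kf xf8 yf24 zf18) (kf xf8 yf24 zf19) (kf xf8 yf24 zf20) (kf xf10 yf0 zf14) (kf xf8 yf24 zf21) (kf xf12 yf2 zf23) (kf xf12 yf2 zf24) (kf xf12 yf2 zf26) (kf xf12 yf2 zf28) (kf xf9 yf15 zf20) (kf xf9 yf15 zf21) (kf xf9 yf15 zf22) (kf xf9 yf9 zf5) (kf xf9 yf5 zf12) (kf xf8 yf24 zf32) (kf xf8 yf24 zf33) (kf xf9 yf6 zf27) (kf xf8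 yf24 zf34) (kf xf12 yf0 zf28) (kf xf8 yf24 zf35) (kf xf9 yf16 zf46) (kf xf9 yf17 zf14) (kf xf12 yf2 zf36) (kf xf12 yf2 zf37) (kf xf12 yf2 zf39) (kf xf12 yf2 zf41) (kf xf9 yf15 zf25) (kf xf9 yf15 zf26) (kf xf9 yf15 zf27)) (@D3.rec (fun _ => Pt) (kf xf9 yf14 zf32) (kf xf8 yf24 zf40) (kf xf12 yf1 zf3) (kf xf12 yf2 zf48) (kf xf9 yf14 zf46) (kf xf9 yf15 zf28) (kf xf8 yf24 zf43) (kf xf8 yf24 zf44) (kf xf12 yf3 zf2) (kf xf12 yf3 zf3) (kf xf12 yf3 zf4) (kf xf9 yf15 zf7) (kf xf9 yf15 zf9) (kf xf9 yf2 zf16) (kf xf10 yf14 zf14) (kf xf8 yf24 zf50) (kf xf8 yf25 zf0) (kf xf12 yf3 zf14) (kf xf12 yf3 zf15) (kf xf12 yf3 zf16) (kf xf9 yf15 zf33) (kf xf11 yf17 zf49) (kf xf9 yf15 zf34) (kf xf11 yf25 zf49) (kf xf8 yf25 zf5) (kf xf8 yf25 zf6) (kf xf8 yf25 zf7) (kf xf12 yf3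 zf28) (kf xf12 yf3 zf29) (kf xf12 yf3 zf30) (kf xf12 yf3 zf39) (kf xf12 yf3 zf32) (kf xf9 yf15 zf43) (kf xf11 yf18 zf10) (kf xf9 yf15 zf44) (kf xf11 yf18 zf12) (kf xf9 yf15 zf45) (kf xf12 yf3 zf48) (kf xf9 yf2 zf40) (kf xf8 yf25 zf13) (kf xf12 yf4 zf0) (kf xf9 yf2 zf43) (kf xf11 yf18 zf19) (kf xf11 yf18 zf28) (kf xf8 yf25 zf21) (kf xf8 yf25 zf22) (kf xf8 yf25 zf23) (kf xf10 yf14 zf47) (kf xf8 yf25 zf24) (kf xf12 yf4 zf4) (kf xf12 yf4 zf6)) (@D3.rec (fun _ => Pt) (kf xf12 yf4 zf7) (kf xf12 yf4 zf8) (kf xf12 yf4 zf10) (kf xf9 yf16 zf4) (kf xf9 yf16 zf5) (kf xf9 yf16 zf6) (kf xf10 yf15 zf6) (kf xf10 yf15 zf7) (kf xf9 yf26 zf39) (kf xf8 yf25 zf31) (kf xf8 yf25 zf32) (kf xf8 yf25 zf33) (kf xf12 yf4 zf24) (kf xf12 yf4 zf25) (kf xf12 yf4 zf26) (kf xf12 yf4 zf35)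 (kf xf12 yf4 zf28) (kf xf9 yf16 zf12) (kf xf12 yf1 zf12) (kf xf9 yf16 zf14) (kf xf8 yf25 zf35) (kf xf12 yf4 zf42) (kf xf9 yf16 zf17) (kf xf11 yf18 zf23) (kf xf8 yf25 zf41) (kf xf8 yf25 zf42) (kf xf8 yf25 zf43) (kf xf12 yf5 zf1) (kf xf8 yf25 zf45) (kf xf12 yf4 zf46) (kf xf12 yf5 zf6) (kf xf12 yf4 zf48) (kf xf12 yf4 zf49) (kf xf12 yf5 zf12) (kf xf12 yf5 zf0) (kf xf8 yf25 zf44) (kf xf12 yf5 zf16) (kf xf12 yf5 zf3) (kf xf9 yf16 zf32) (kf xf12 yf1 zf0) (kf xf9 yf16 zf34) (kf xf8 yf25 zf47) (kf xf12 yf5 zf22) (kf xf9 yf16 zf37) (kf xf12 yf5 zf15) (kf xf8 yf25 zf50) (kf xf12 yf5 zf27) (kf xf8 yf26 zf1) (kf xf12 yf5 zf29) (kf xf9 yf3 zf49) (kf xf8 yf26 zf6)) (@D3.rec (fun _ => Pt) (kf xf8 yf26 zf4) (kf xf12 yf5 zf33) (kf xf12 yf5 zf31) (kf xf12 yf5 zf32) (kf xf8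 yf26 zf8) (kf xf12 yf5 zf37) (kf xf9 yf4 zf6) (kf xf9 yf4 zf7) (kf xf11 yf18 zf29) (kf xf8 yf26 zf18) (kf xf10 yf16 zf10) (kf xf8 yf26 zf19) (kf xf8 yf26 zf20) (kf xf10 yf16 zf13) (kf xf8 yf26 zf21) (kf xf10 yf16 zf15) (kf xf8 yf26 zf22) (kf xf12 yf5 zf40) (kf xf12 yf5 zf42) (kf xf12 yf5 zf43) (kf xf12 yf5 zf45) (kf xf12 yf5 zf48) (kf xf9 yf17 zf11) (kf xf9 yf17 zf12) (kf xf9 yf17 zf13) (kf xf10 yf16 zf25) (kf xf8 yf26 zf34) (kf xf8 yf26 zf35) (kf xf10 yf16 zf28) (kf xf8 yf26 zf36) (kf xf10 yf16 zf30) (kf xf8 yf26 zf37) (kf xf10 yf16 zf32) (kf xf12 yf6 zf8) (kf xf12 yf6 zf10) (kf xf9 yf17 zf33) (kf xf9 yf17 zf34) (kf xf8 yf26 zf43) (kf xf11 yf21 zf4) (kf xf12 yf2 zf22) (kf xf12 yf0 zf10) (kf xf9 yf19 zf10) (kf xf8 yf26 zf48) (kf xf9 yf19 zf9) (kf xf12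 yf0 zf12) (kf xf9 yf0 zf4) (kf xf12 yf6 zf18) (kf xf12 yf0 zf16) (kf xf12 yf6 zf17) (kf xf9 yf0 zf7) (kf xf12 yf6 zf21)) (@D3.rec (fun _ => Pt) (kf xf9 yf24 zf45) (kf xf9 yf0 zf11) (kf xf12 yf6 zf23) (kf xf9 yf1 zf46) (kf xf9 yf0 zf21) (kf xf9 yf0 zf22) (kf xf12 yf6 zf24) (kf xf12 yf6 zf25) (kf xf12 yf6 zf26) (kf xf9 yf10 zf34) (kf xf9 yf10 zf36) (kf xf12 yf0 zf45) (kf xf10 yf17 zf12) (kf xf9 yf0 zf29) (kf xf9 yf0 zf30) (kf xf9 yf0 zf31) (kf xf12 yf6 zf34) (kf xf12 yf6 zf35) (kf xf12 yf6 zf40) (kf xf12 yf6 zf37) (kf xf11 yf21 zf21) (kf xf9 yf17 zf43) (kf xf12 yf2 zf25) (kf xf12 yf0 zf22) (kf xf9 yf0 zf36) (kf xf12 yf6 zf46) (kf xf12 yf1 zf18) (kf xf11 yf21 zf27) (kf xf10 yf17 zf28) (kf xf9 yf0 zf43) (kf xf10 yf17 zf30) (kf xf10 yf17 zf31) (kf xf10 yf17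 zf32) (kf xf9 yf0 zf47) (kf xf9 yf0 zf48) (kf xf9 yf0 zf49) (kf xf12 yf7 zf3) (kf xf12 yf7 zf4) (kf xf12 yf7 zf9) (kf xf12 yf7 zf6) (kf xf11 yf21 zf20) (kf xf9 yf18 zf5) (kf xf10 yf17 zf42) (kf xf9 yf1 zf5) (kf xf9 yf1 zf6) (kf xf9 yf1 zf7) (kf xf12 yf7 zf21) (kf xf9 yf1 zf9) (kf xf12 yf7 zf15) (kf xf12 yf7 zf25) (kf xf12 yf7 zf17)) (@D3.rec (fun _ => Pt) (kf xf12 yf7 zf18) (kf xf12 yf7 zf29) (kf xf12 yf7 zf20) (kf xf9 yf1 zf8) (kf xf12 yf7 zf33) (kf xf12 yf7 zf23) (kf xf9 yf18 zf22) (kf xf11 yf21 zf10) (kf xf9 yf18 zf24) (kf xf12 yf7 zf32) (kf xf9 yf1 zf14) (kf xf12 yf7 zf39) (kf xf9 yf1 zf16) (kf xf12 yf7 zf42) (kf xf12 yf2 zf13) (kf xf9 yf1 zf21) (kf xf9 yf1 zf19) (kf xf12 yf7 zf46) (kf xf12 yf7 zf44) (kf xf12 yf7 zf45) (kf xf9 yf1 zf23) (kf xf12 yf7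 zf50) (kf xf9 yf24 zf31) (kf xf12 yf2 zf20) (kf xf10 yf18 zf24) (kf xf10 yf18 zf25) (kf xf9 yf1 zf33) (kf xf9 yf5 zf11) (kf xf9 yf1 zf34) (kf xf9 yf1 zf35) (kf xf9 yf19 zf13) (kf xf9 yf1 zf36) (kf xf10 yf0 zf15) (kf xf12 yf8 zf4) (kf xf12 yf8 zf6) (kf xf10 yf18 zf35) (kf xf9 yf1 zf48) (kf xf9 yf2 zf0) (kf xf9 yf1 zf49) (kf xf9 yf1 zf50) (kf xf12 yf8 zf5) (kf xf12 yf2 zf35) (kf xf10 yf18 zf42) (kf xf9 yf2 zf5) (kf xf9 yf2 zf6) (kf xf12 yf8 zf9) (kf xf12 yf8 zf10) (kf xf12 yf8 zf11) (kf xf9 yf18 zf4) (kf xf10 yf18 zf49) (kf xf9 yf2 zf11)) (@D3.rec (fun _ => Pt) (kf xf9 yf2 zf12) (kf xf9 yf2 zf13) (kf xf12 yf8 zf17) (kf xf12 yf8 zf18) (kf xf12 yf8 zf19) (kf xf12 yf8 zf21) (kf xf9 yf18 zf23) (kf xf9 yf18 zf25) (kf xf10 yf19 zf8) (kf xf10 yf19 zf9) (kf xf10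 yf19 zf10) (kf xf9 yf2 zf20) (kf xf9 yf2 zf21) (kf xf9 yf2 zf22) (kf xf12 yf8 zf31) (kf xf12 yf8 zf32) (kf xf12 yf8 zf37) (kf xf12 yf8 zf34) (kf xf11 yf20 zf1) (kf xf9 yf19 zf24) (kf xf10 yf19 zf20) (kf xf9 yf2 zf29) (kf xf9 yf2 zf30) (kf xf9 yf2 zf31) (kf xf12 yf8 zf49) (kf xf9 yf2 zf33) (kf xf12 yf8 zf43) (kf xf12 yf9 zf3) (kf xf12 yf8 zf45) (kf xf12 yf8 zf46) (kf xf12 yf9 zf7) (kf xf12 yf8 zf48) (kf xf9 yf2 zf32) (kf xf12 yf9 zf10) (kf xf12 yf9 zf0) (kf xf9 yf19 zf37) (kf xf11 yf20 zf19) (kf xf9 yf19 zf38) (kf xf11 yf20 zf21) (kf xf9 yf2 zf39) (kf xf12 yf9 zf16) (kf xf12 yf3 zf50) (kf xf9 yf2 zf42) (kf xf12 yf9 zf18) (kf xf11 yf20 zf27) (kf xf10 yf19 zf45) (kf xf10 yf19 zf46) (kf xf9 yf3 zf0) (kf xf10 yf19 zf48) (kf xf9 yf3 zf1) (kf xf9 yf3 zf2)) (@D3.rec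 (fun _ => Pt) (kf xf10 yf20 zf0) (kf xf9 yf3 zf3) (kf xf10 yf20 zf2) (kf xf12 yf9 zf25) (kf xf12 yf9 zf27) (kf xf12 yf9 zf29) (kf xf9 yf20 zf1) (kf xf9 yf22 zf8) (kf xf10 yf20 zf8) (kf xf10 yf20 zf9) (kf xf10 yf20 zf10) (kf xf10 yf20 zf11) (kf xf9 yf3 zf12) (kf xf9 yf3 zf13) (kf xf9 yf3 zf14) (kf xf12 yf9 zf47) (kf xf9 yf3 zf16) (kf xf12 yf9 zf41) (kf xf12 yf10 zf2) (kf xf12 yf9 zf43) (kf xf12 yf9 zf44) (kf xf12 yf10 zf6) (kf xf12 yf9 zf46) (kf xf9 yf3 zf15) (kf xf12 yf10 zf10) (kf xf12 yf9 zf49) (kf xf9 yf20 zf23) (kf xf9 yf3 zf18) (kf xf12 yf10 zf14) (kf xf9 yf20 zf26) (kf xf12 yf10 zf9) (kf xf9 yf3 zf21) (kf xf12 yf10 zf18) (kf xf10 yf20 zf33) (kf xf10 yf20 zf34) (kf xf9 yf3 zf29) (kf xf12 yf10 zf26) (kf xf9 yf3 zf31) (kf xf9 yf3 zf32) (kf xf12 yf10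 zf33) (kf xf9 yf3 zf34) (kf xf9 yf3 zf27) (kf xf12 yf10 zf37) (kf xf9 yf3 zf37) (kf xf12 yf10 zf23) (kf xf12 yf10 zf42) (kf xf12 yf10 zf25) (kf xf9 yf3 zf30) (kf xf12 yf10 zf46) (kf xf12 yf10 zf28) (kf xf12 yf10 zf29)) (@D3.rec (fun _ => Pt) (kf xf12 yf10 zf49) (kf xf12 yf10 zf31) (kf xf9 yf3 zf33) (kf xf12 yf11 zf2) (kf xf12 yf10 zf35) (kf xf9 yf3 zf44) (kf xf9 yf3 zf36) (kf xf12 yf11 zf7) (kf xf9 yf21 zf6) (kf xf9 yf3 zf39) (kf xf12 yf11 zf11) (kf xf9 yf21 zf9) (kf xf12 yf11 zf1) (kf xf9 yf3 zf42) (kf xf12 yf11 zf16) (kf xf9 yf21 zf13) (kf xf12 yf11 zf5) (kf xf12 yf11 zf6) (kf xf9 yf3 zf46) (kf xf12 yf11 zf21) (kf xf10 yf21 zf20) (kf xf9 yf3 zf48) (kf xf12 yf11 zf25) (kf xf9 yf4 zf2) (kf xf9 yf4 zf3) (kf xf9 yf4 zf1) (kf xf12 yf11 zf29) (kf xf12 yf11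 zf27) (kf xf12 yf11 zf28) (kf xf9 yf4 zf5) (kf xf12 yf11 zf33) (kf xf9 yf24 zf33) (kf xf10 yf21 zf32) (kf xf9 yf6 zf26) (kf xf10 yf21 zf34) (kf xf9 yf4 zf18) (kf xf10 yf21 zf36) (kf xf9 yf4 zf19) (kf xf10 yf21 zf38) (kf xf9 yf4 zf20) (kf xf9 yf4 zf21) (kf xf10 yf21 zf41) (kf xf9 yf4 zf22) (kf xf10 yf21 zf43) (kf xf10 yf21 zf44) (kf xf9 yf4 zf23) (kf xf10 yf21 zf46) (kf xf12 yf11 zf40) (kf xf12 yf11 zf42) (kf xf12 yf11 zf45) (kf xf12 yf11 zf48)) (@D3.rec (fun _ => Pt) (kf xf12 yf12 zf0) (kf xf12 yf12 zf4) (kf xf9 yf21 zf42) (kf xf9 yf21 zf43) (kf xf11 yf20 zf0) (kf xf10 yf22 zf5) (kf xf10 yf22 zf6) (kf xf9 yf4 zf44) (kf xf10 yf22 zf8) (kf xf9 yf4 zf42) (kf xf10 yf22 zf10) (kf xf9 yf4 zf43) (kf xf10 yf22 zf12) (kf xf9 yf4 zf45) (kf xf10 yf22 zf14) (kf xf10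 yf22 zf15) (kf xf9 yf4 zf46) (kf xf10 yf22 zf17) (kf xf9 yf4 zf47) (kf xf10 yf22 zf19) (kf xf12 yf12 zf12) (kf xf12 yf11 zf38) (kf xf12 yf2 zf40) (kf xf12 yf12 zf14) (kf xf12 yf12 zf16) (kf xf12 yf0 zf30) (kf xf9 yf22 zf10) (kf xf10 yf22 zf27) (kf xf10 yf22 zf28) (kf xf10 yf22 zf29) (kf xf10 yf22 zf30) (kf xf9 yf5 zf5) (kf xf10 yf22 zf32) (kf xf10 yf22 zf33) (kf xf10 yf22 zf34) (kf xf9 yf5 zf18) (kf xf10 yf22 zf36) (kf xf9 yf6 zf25) (kf xf10 yf22 zf38) (kf xf9 yf5 zf24) (kf xf10 yf22 zf40) (kf xf10 yf22 zf41) (kf xf9 yf19 zf3) (kf xf10 yf22 zf43) (kf xf10 yf22 zf44) (kf xf10 yf22 zf45) (kf xf9 yf12 zf33) (kf xf10 yf22 zf47) (kf xf10 yf22 zf48) (kf xf9 yf5 zf35) (kf xf9 yf5 zf36)) (@D3.rec (fun _ => Pt) (kf xf9 yf5 zf37) (kf xf9 yf21 zf36) (kf xf9 yf5 zf38)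 (kf xf9 yf21 zf46) (kf xf12 yf12 zf37) (kf xf12 yf12 zf38) (kf xf12 yf12 zf39) (kf xf12 yf12 zf41) (kf xf9 yf22 zf42) (kf xf10 yf23 zf9) (kf xf9 yf5 zf45) (kf xf9 yf5 zf46) (kf xf9 yf22 zf23) (kf xf9 yf22 zf49) (kf xf10 yf23 zf14) (kf xf9 yf6 zf12) (kf xf10 yf23 zf16) (kf xf9 yf6 zf11) (kf xf10 yf23 zf18) (kf xf9 yf6 zf13) (kf xf9 yf6 zf14) (kf xf9 yf6 zf15) (kf xf10 yf23 zf22) (kf xf10 yf23 zf23) (kf xf10 yf23 zf24) (kf xf9 yf6 zf16) (kf xf10 yf23 zf26) (kf xf12 yf12 zf26) (kf xf12 yf11 zf36) (kf xf12 yf12 zf48) (kf xf12 yf12 zf49) (kf xf12 yf12 zf50) (kf xf12 yf13 zf8) (kf xf9 yf6 zf28) (kf xf9 yf6 zf29) (kf xf12 yf9 zf22) (kf xf12 yf2 zf38) (kf xf9 yf23 zf13) (kf xf11 yf17 zf7) (kf xf11 yf17 zf8) (kf xf11 yf17 zf14) (kf xf11 yf17 zf21) (kf xf11 yf17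 zf22) (kf xf11 yf24 zf36) (kf xf11 yf17 zf24) (kf xf11 yf24 zf37) (kf xf9 yf7 zf3) (kf xf9 yf23 zf12) (kf xf11 yf17 zf32) (kf xf9 yf7 zf9) (kf xf9 yf7 zf10)) (@D3.rec (fun _ => Pt) (kf xf11 yf17 zf10) (kf xf12 yf13 zf15) (kf xf9 yf13 zf2) (kf xf12 yf13 zf20) (kf xf11 yf17 zf34) (kf xf9 yf7 zf12) (kf xf12 yf13 zf23) (kf xf11 yf17 zf37) (kf xf9 yf7 zf15) (kf xf10 yf24 zf9) (kf xf10 yf24 zf10) (kf xf11 yf17 zf9) (kf xf11 yf17 zf11) (kf xf9 yf13 zf3) (kf xf9 yf12 zf47) (kf xf9 yf7 zf27) (kf xf12 yf13 zf25) (kf xf12 yf13 zf26) (kf xf11 yf17 zf48) (kf xf11 yf17 zf50) (kf xf9 yf7 zf32) (kf xf9 yf7 zf33) (kf xf12 yf13 zf31) (kf xf11 yf18 zf11) (kf xf11 yf18 zf13) (kf xf11 yf18 zf27) (kf xf9 yf7 zf41) (kf xf12 yf13 zf35) (kf xf12 yf13 zf36) (kf xf11 yf18 zf38)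 (kf xf9 yf7 zf46) (kf xf9 yf7 zf47) (kf xf12 yf13 zf41) (kf xf12 yf13 zf40) (kf xf12 yf0 zf44) (kf xf11 yf18 zf47) (kf xf9 yf8 zf0) (kf xf12 yf13 zf45) (kf xf9 yf24 zf16) (kf xf9 yf8 zf7) (kf xf9 yf8 zf8) (kf xf9 yf8 zf9) (kf xf12 yf13 zf47) (kf xf12 yf13 zf46) (kf xf9 yf8 zf12) (kf xf9 yf8 zf13) (kf xf12 yf13 zf49) (kf xf9 yf8 zf14) (kf xf12 yf14 zf1) (kf xf11 yf19 zf12) (kf xf9 yf26 zf47)) (@D3.rec (fun _ => Pt) (kf xf9 yf8 zf20) (kf xf9 yf8 zf21) (kf xf9 yf8 zf22) (kf xf12 yf14 zf11) (kf xf9 yf8 zf24) (kf xf12 yf14 zf5) (kf xf12 yf14 zf7) (kf xf12 yf14 zf8) (kf xf12 yf14 zf19) (kf xf12 yf14 zf10) (kf xf9 yf8 zf23) (kf xf12 yf14 zf23) (kf xf12 yf14 zf13) (kf xf12 yf1 zf1) (kf xf11 yf19 zf23) (kf xf9 yf8 zf26) (kf xf12 yf14 zf28) (kf xf11 yf19 zf26) (kf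 xf12 yf14 zf22) (kf xf9 yf8 zf29) (kf xf12 yf14 zf33) (kf xf9 yf8 zf33) (kf xf9 yf8 zf32) (kf xf12 yf4 zf23) (kf xf12 yf14 zf34) (kf xf9 yf12 zf0) (kf xf9 yf8 zf47) (kf xf9 yf8 zf43) (kf xf9 yf8 zf44) (kf xf9 yf8 zf45) (kf xf10 yf25 zf30) (kf xf9 yf8 zf46) (kf xf10 yf25 zf32) (kf xf12 yf1 zf43) (kf xf12 yf14 zf36) (kf xf12 yf14 zf37) (kf xf12 yf14 zf4) (kf xf9 yf13 zf35) (kf xf9 yf16 zf16) (kf xf9 yf9 zf6) (kf xf9 yf9 zf7) (kf xf12 yf1 zf20) (kf xf12 yf2 zf21) (kf xf12 yf14 zf43) (kf xf9 yf16 zf47) (kf xf9 yf13 zf25) (kf xf9 yf14 zf2) (kf xf9 yf23 zf23) (kf xf11 yf16 zf49) (kf xf11 yf16 zf50) (kf xf11 yf17 zf0)) (@D3.rec (fun _ => Pt) (kf xf10 yf26 zf0) (kf xf10 yf26 zf1) (kf xf10 yf26 zf2) (kf xf9 yf10 zf19) (kf xf9 yf9 zf21) (kf xf9 yf9 zf22) (kf xf9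 yf9 zf23) (kf xf12 yf15 zf3) (kf xf12 yf15 zf4) (kf xf12 yf15 zf6) (kf xf11 yf20 zf2) (kf xf9 yf9 zf29) (kf xf9 yf9 zf30) (kf xf9 yf9 zf31) (kf xf9 yf19 zf29) (kf xf9 yf9 zf32) (kf xf11 yf23 zf45) (kf xf12 yf15 zf10) (kf xf12 yf15 zf11) (kf xf12 yf15 zf13) (kf xf12 yf15 zf15) (kf xf9 yf11 zf16) (kf xf11 yf20 zf18) (kf xf11 yf20 zf20) (kf xf9 yf9 zf41) (kf xf9 yf9 zf42) (kf xf9 yf9 zf43) (kf xf11 yf23 zf43) (kf xf11 yf23 zf46) (kf xf11 yf23 zf48) (kf xf12 yf15 zf25) (kf xf12 yf15 zf26) (kf xf12 yf15 zf27) (kf xf11 yf20 zf40) (kf xf11 yf20 zf41) (kf xf11 yf20 zf42) (kf xf9 yf10 zf2) (kf xf9 yf10 zf3) (kf xf9 yf10 zf4) (kf xf11 yf24 zf10) (kf xf11 yf24 zf12) (kf xf11 yf24 zf14) (kf xf12 yf15 zf37) (kf xf12 yf15 zf38) (kf xf12 yf15 zf39) (kf xf11 yf21 zf2)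 (kf xf11 yf21 zf3) (kf xf11 yf16 zf27) (kf xf9 yf10 zf9) (kf xf12 yf15 zf44) (kf xf9 yf10 zf13))
def f_f_11 : D2 → D3 → Pt := @D2.rec (fun _ => D3 → Pt) (@D3.rec (fun _ => Pt) (kf xf9 yf10 zf14) (kf xf9 yf10 zf15) (kf xf12 yf15 zf45) (kf xf12 yf15 zf46) (kf xf12 yf15 zf48) (kf xf11 yf21 zf22) (kf xf9 yf10 zf20) (kf xf9 yf10 zf21) (kf xf12 yf15 zf1) (kf xf12 yf15 zf2) (kf xf12 yf16 zf0) (kf xf12 yf16 zf2) (kf xf11 yf21 zf37) (kf xf11 yf21 zf39) (kf xf11 yf0 zf14) (kf xf9 yf10 zf28) (kf xf9 yf10 zf29) (kf xf9 yf10 zf30) (kf xf12 yf16 zf16) (kf xf9 yf10 zf32) (kf xf12 yf16 zf10) (kf xf12 yf16 zf22) (kf xf12 yf16 zf12) (kf xf12 yf16 zf13) (kf xf12 yf16 zf26) (kf xf12 yf16 zf15) (kf xf9 yf10 zf31) (kf xf12 yf16 zf29) (kf xf12 yf16 zf18) (kf xf9 yf21 zf44) (kf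 xf12 yf6 zf31) (kf xf11 yf22 zf0) (kf xf12 yf6 zf32) (kf xf9 yf10 zf38) (kf xf12 yf16 zf34) (kf xf9 yf10 zf41) (kf xf11 yf0 zf36) (kf xf11 yf0 zf37) (kf xf9 yf10 zf48) (kf xf11 yf0 zf39) (kf xf9 yf10 zf49) (kf xf9 yf10 zf50) (kf xf11 yf0 zf42) (kf xf9 yf11 zf0) (kf xf11 yf0 zf44) (kf xf9 yf11 zf1) (kf xf12 yf16 zf37) (kf xf12 yf16 zf39) (kf xf12 yf16 zf41) (kf xf12 yf16 zf42) (kf xf12 yf16 zf44)) (@D3.rec (fun _ => Pt) (kf xf12 yf16 zf47) (kf xf9 yf25 zf32) (kf xf9 yf26 zf25) (kf xf11 yf22 zf17) (kf xf9 yf20 zf13) (kf xf9 yf26 zf44) (kf xf11 yf1 zf6) (kf xf9 yf11 zf10) (kf xf9 yf11 zf11) (kf xf9 yf11 zf12) (kf xf12 yf17 zf18) (kf xf9 yf11 zf14) (kf xf12 yf17 zf12) (kf xf12 yf17 zf14) (kf xf12 yf17 zf15) (kf xf12 yf17 zf26) (kf xf12 yf17 zf17) (kf xf9 yf11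 zf13) (kf xf12 yf17 zf30) (kf xf12 yf17 zf20) (kf xf9 yf21 zf5) (kf xf11 yf22 zf36) (kf xf12 yf15 zf22) (kf xf11 yf22 zf38) (kf xf12 yf17 zf29) (kf xf9 yf11 zf19) (kf xf12 yf17 zf38) (kf xf11 yf1 zf27) (kf xf11 yf1 zf28) (kf xf9 yf11 zf27) (kf xf12 yf17 zf45) (kf xf9 yf11 zf29) (kf xf9 yf11 zf30) (kf xf12 yf18 zf1) (kf xf9 yf11 zf32) (kf xf9 yf11 zf25) (kf xf12 yf18 zf5) (kf xf9 yf11 zf35) (kf xf12 yf17 zf42) (kf xf12 yf18 zf10) (kf xf12 yf17 zf44) (kf xf9 yf11 zf28) (kf xf12 yf18 zf13) (kf xf12 yf17 zf47) (kf xf12 yf17 zf48) (kf xf12 yf18 zf17) (kf xf12 yf17 zf50) (kf xf9 yf11 zf31) (kf xf12 yf18 zf21) (kf xf12 yf18 zf3) (kf xf9 yf11 zf42)) (@D3.rec (fun _ => Pt) (kf xf9 yf11 zf34) (kf xf12 yf18 zf26) (kf xf9 yf20 zf22) (kf xf11 yf23 zf16) (kf xf9 yf11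 zf37) (kf xf12 yf18 zf30) (kf xf11 yf23 zf18) (kf xf12 yf18 zf20) (kf xf9 yf11 zf40) (kf xf12 yf18 zf35) (kf xf11 yf23 zf22) (kf xf12 yf18 zf24) (kf xf12 yf18 zf25) (kf xf9 yf11 zf44) (kf xf9 yf11 zf46) (kf xf9 yf11 zf49) (kf xf9 yf11 zf50) (kf xf12 yf18 zf40) (kf xf11 yf2 zf18) (kf xf11 yf2 zf19) (kf xf9 yf12 zf11) (kf xf11 yf2 zf21) (kf xf9 yf12 zf12) (kf xf11 yf2 zf23) (kf xf9 yf12 zf13) (kf xf9 yf12 zf14) (kf xf11 yf2 zf26) (kf xf9 yf12 zf15) (kf xf11 yf2 zf28) (kf xf11 yf2 zf29) (kf xf9 yf12 zf16) (kf xf11 yf2 zf31) (kf xf12 yf12 zf33) (kf xf12 yf18 zf43) (kf xf12 yf18 zf46) (kf xf12 yf18 zf48) (kf xf12 yf19 zf0) (kf xf12 yf19 zf4) (kf xf11 yf24 zf4) (kf xf11 yf24 zf5) (kf xf12 yf11 zf34) (kf xf11 yf2 zf41) (kf xf9 yf12 zf34) (kf xf11 yf2 zf43) (kf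 xf9 yf12 zf35) (kf xf11 yf2 zf45) (kf xf9 yf12 zf36) (kf xf11 yf2 zf47) (kf xf9 yf12 zf37) (kf xf11 yf2 zf49) (kf xf11 yf2 zf50)) (@D3.rec (fun _ => Pt) (kf xf9 yf12 zf38) (kf xf12 yf12 zf35) (kf xf12 yf19 zf11) (kf xf12 yf19 zf13) (kf xf12 yf19 zf15) (kf xf11 yf24 zf42) (kf xf11 yf24 zf43) (kf xf11 yf25 zf37) (kf xf11 yf25 zf38) (kf xf11 yf24 zf49) (kf xf11 yf25 zf0) (kf xf11 yf17 zf16) (kf xf11 yf25 zf8) (kf xf11 yf25 zf9) (kf xf11 yf25 zf12) (kf xf11 yf25 zf14) (kf xf12 yf13 zf19) (kf xf11 yf25 zf41) (kf xf11 yf25 zf22) (kf xf11 yf25 zf42) (kf xf11 yf25 zf25) (kf xf11 yf25 zf34) (kf xf11 yf25 zf46) (kf xf11 yf25 zf48) (kf xf9 yf13 zf16) (kf xf9 yf13 zf17) (kf xf12 yf0 zf38) (kf xf12 yf19 zf32) (kf xf11 yf26 zf8) (kf xf11 yf26 zf10) (kf xf9 yf15 zf46)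 (kf xf9 yf13 zf26) (kf xf12 yf19 zf35) (kf xf11 yf26 zf19) (kf xf11 yf26 zf28) (kf xf11 yf26 zf30) (kf xf11 yf26 zf33) (kf xf9 yf16 zf18) (kf xf9 yf13 zf36) (kf xf11 yf17 zf31) (kf xf9 yf13 zf37) (kf xf11 yf24 zf50) (kf xf12 yf19 zf39) (kf xf12 yf19 zf41) (kf xf11 yf26 zf41) (kf xf11 yf25 zf10) (kf xf11 yf26 zf43) (kf xf9 yf13 zf39) (kf xf12 yf19 zf47) (kf xf11 yf26 zf46) (kf xf11 yf17 zf29)) (@D3.rec (fun _ => Pt) (kf xf9 yf13 zf42) (kf xf12 yf20 zf0) (kf xf11 yf17 zf28) (kf xf11 yf17 zf30) (kf xf9 yf14 zf4) (kf xf9 yf23 zf14) (kf xf9 yf14 zf5) (kf xf11 yf25 zf2) (kf xf12 yf20 zf1) (kf xf12 yf0 zf5) (kf xf12 yf0 zf6) (kf xf12 yf0 zf7) (kf xf9 yf23 zf28) (kf xf11 yf25 zf31) (kf xf11 yf24 zf25) (kf xf11 yf25 zf32) (kf xf12 yf0 zf8) (kf xf9 yf14 zf21) (kf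 xf12 yf20 zf9) (kf xf12 yf20 zf10) (kf xf12 yf1 zf2) (kf xf9 yf14 zf26) (kf xf9 yf14 zf27) (kf xf9 yf14 zf28) (kf xf12 yf20 zf13) (kf xf12 yf20 zf14) (kf xf12 yf20 zf15) (kf xf12 yf20 zf17) (kf xf12 yf1 zf13) (kf xf12 yf1 zf15) (kf xf9 yf14 zf36) (kf xf9 yf14 zf37) (kf xf9 yf14 zf38) (kf xf12 yf20 zf22) (kf xf12 yf20 zf23) (kf xf12 yf20 zf24) (kf xf12 yf0 zf0) (kf xf12 yf1 zf26) (kf xf12 yf1 zf27) (kf xf9 yf14 zf43) (kf xf9 yf14 zf44) (kf xf12 yf20 zf30) (kf xf12 yf20 zf32) (kf xf12 yf1 zf37) (kf xf12 yf1 zf39) (kf xf12 yf3 zf1) (kf xf12 yf1 zf42) (kf xf9 yf15 zf1) (kf xf9 yf15 zf2) (kf xf9 yf15 zf3) (kf xf12 yf20 zf42)) (@D3.rec (fun _ => Pt) (kf xf9 yf15 zf5) (kf xf12 yf20 zf39) (kf xf12 yf20 zf46) (kf xf12 yf20 zf41) (kf xf9 yf15 zf4) (kf xf12 yf20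 zf49) (kf xf12 yf20 zf44) (kf xf12 yf2 zf4) (kf xf12 yf3 zf9) (kf xf12 yf2 zf6) (kf xf12 yf3 zf10) (kf xf12 yf2 zf9) (kf xf12 yf3 zf11) (kf xf9 yf15 zf13) (kf xf11 yf5 zf14) (kf xf9 yf15 zf18) (kf xf11 yf5 zf16) (kf xf9 yf15 zf19) (kf xf12 yf21 zf7) (kf xf12 yf2 zf32) (kf xf12 yf2 zf33) (kf xf12 yf2 zf34) (kf xf11 yf5 zf22) (kf xf12 yf2 zf46) (kf xf12 yf2 zf47) (kf xf12 yf0 zf9) (kf xf9 yf15 zf31) (kf xf9 yf15 zf32) (kf xf12 yf21 zf13) (kf xf12 yf21 zf15) (kf xf12 yf3 zf22) (kf xf12 yf3 zf24) (kf xf12 yf3 zf26) (kf xf12 yf0 zf37) (kf xf9 yf15 zf39) (kf xf9 yf15 zf40) (kf xf9 yf15 zf41) (kf xf12 yf13 zf30) (kf xf9 yf15 zf42) (kf xf12 yf21 zf23) (kf xf12 yf21 zf25) (kf xf12 yf21 zf27) (kf xf12 yf3 zf42) (kf xf12 yf3 zf44) (kf xf12 yf3 zf46) (kf xf11 yf16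 zf20) (kf xf12 yf14 zf45) (kf xf9 yf16 zf1) (kf xf9 yf16 zf2) (kf xf9 yf23 zf38) (kf xf9 yf16 zf3)) (@D3.rec (fun _ => Pt) (kf xf12 yf21 zf34) (kf xf12 yf21 zf35) (kf xf12 yf4 zf17) (kf xf12 yf4 zf18) (kf xf12 yf4 zf19) (kf xf9 yf16 zf10) (kf xf12 yf14 zf6) (kf xf9 yf16 zf11) (kf xf12 yf21 zf41) (kf xf12 yf21 zf43) (kf xf12 yf21 zf45) (kf xf11 yf25 zf18) (kf xf12 yf4 zf38) (kf xf9 yf16 zf13) (kf xf12 yf13 zf34) (kf xf12 yf4 zf40) (kf xf12 yf14 zf3) (kf xf12 yf14 zf30) (kf xf12 yf14 zf0) (kf xf12 yf14 zf41) (kf xf9 yf16 zf24) (kf xf12 yf13 zf48) (kf xf9 yf16 zf25) (kf xf9 yf16 zf26) (kf xf12 yf22 zf13) (kf xf9 yf16 zf28) (kf xf9 yf16 zf22) (kf xf12 yf22 zf17) (kf xf9 yf16 zf31) (kf xf12 yf22 zf4) (kf xf12 yf22 zf6) (kf xf12 yf22 zf8) (kf xf12 yf22 zf9)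 (kf xf12 yf22 zf22) (kf xf12 yf22 zf11) (kf xf9 yf16 zf27) (kf xf12 yf22 zf26) (kf xf12 yf22 zf15) (kf xf9 yf16 zf38) (kf xf9 yf16 zf30) (kf xf12 yf22 zf31) (kf xf12 yf1 zf38) (kf xf12 yf5 zf18) (kf xf9 yf16 zf33) (kf xf12 yf22 zf34) (kf xf12 yf5 zf20) (kf xf12 yf22 zf25) (kf xf9 yf16 zf36) (kf xf12 yf22 zf38) (kf xf12 yf5 zf24) (kf xf12 yf22 zf29)) (@D3.rec (fun _ => Pt) (kf xf12 yf22 zf30) (kf xf9 yf16 zf40) (kf xf9 yf16 zf43) (kf xf9 yf16 zf44) (kf xf12 yf22 zf43) (kf xf11 yf18 zf48) (kf xf12 yf2 zf43) (kf xf9 yf17 zf5) (kf xf9 yf17 zf6) (kf xf9 yf21 zf48) (kf xf9 yf17 zf7) (kf xf9 yf17 zf8) (kf xf9 yf24 zf23) (kf xf9 yf17 zf9) (kf xf9 yf24 zf25) (kf xf9 yf24 zf26) (kf xf9 yf17 zf10) (kf xf9 yf24 zf28) (kf xf12 yf22 zf46) (kf xf12 yf22 zf47) (kf xf12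 yf22 zf48) (kf xf12 yf23 zf0) (kf xf12 yf23 zf4) (kf xf12 yf6 zf3) (kf xf12 yf6 zf4) (kf xf12 yf23 zf13) (kf xf9 yf17 zf32) (kf xf9 yf17 zf27) (kf xf9 yf22 zf13) (kf xf9 yf17 zf28) (kf xf9 yf19 zf8) (kf xf9 yf17 zf29) (kf xf9 yf24 zf39) (kf xf9 yf17 zf30) (kf xf9 yf22 zf11) (kf xf9 yf24 zf41) (kf xf9 yf17 zf31) (kf xf9 yf19 zf5) (kf xf9 yf24 zf43) (kf xf12 yf23 zf14) (kf xf12 yf23 zf16) (kf xf12 yf23 zf18) (kf xf12 yf22 zf45) (kf xf11 yf24 zf21) (kf xf11 yf16 zf22) (kf xf11 yf18 zf50) (kf xf11 yf16 zf19) (kf xf9 yf17 zf35) (kf xf11 yf7 zf48) (kf xf9 yf17 zf40) (kf xf9 yf17 zf41)) (@D3.rec (fun _ => Pt) (kf xf12 yf15 zf47) (kf xf9 yf17 zf42) (kf xf12 yf23 zf28) (kf xf12 yf23 zf30) (kf xf11 yf8 zf4) (kf xf10 yf0 zf1) (kf xf10 yf0 zf2) (kf xf11 yf8 zf7) (kf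 xf9 yf18 zf0) (kf xf9 yf18 zf1) (kf xf12 yf23 zf38) (kf xf9 yf18 zf3) (kf xf12 yf8 zf7) (kf xf12 yf23 zf37) (kf xf9 yf18 zf2) (kf xf12 yf23 zf43) (kf xf12 yf23 zf40) (kf xf12 yf8 zf15) (kf xf11 yf8 zf18) (kf xf11 yf8 zf19) (kf xf9 yf18 zf12) (kf xf12 yf24 zf0) (kf xf9 yf18 zf14) (kf xf9 yf18 zf15) (kf xf12 yf24 zf6) (kf xf9 yf18 zf17) (kf xf9 yf18 zf10) (kf xf12 yf24 zf9) (kf xf9 yf18 zf20) (kf xf12 yf23 zf48) (kf xf12 yf24 zf13) (kf xf12 yf23 zf50) (kf xf9 yf18 zf13) (kf xf12 yf24 zf17) (kf xf12 yf24 zf2) (kf xf12 yf24 zf19) (kf xf12 yf24 zf4) (kf xf9 yf18 zf16) (kf xf12 yf24 zf22) (kf xf12 yf24 zf8) (kf xf9 yf18 zf19) (kf xf12 yf24 zf24) (kf xf11 yf21 zf38) (kf xf12 yf7 zf35) (kf xf12 yf8 zf26) (kf xf11 yf8 zf45) (kf xf9 yf18 zf27) (kf xf11 yf8 zf47)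 (kf xf11 yf8 zf48) (kf xf9 yf18 zf38) (kf xf11 yf8 zf50)) (@D3.rec (fun _ => Pt) (kf xf9 yf18 zf39) (kf xf11 yf9 zf1) (kf xf9 yf18 zf40) (kf xf11 yf9 zf3) (kf xf9 yf18 zf41) (kf xf11 yf9 zf5) (kf xf11 yf9 zf6) (kf xf12 yf9 zf33) (kf xf12 yf24 zf29) (kf xf12 yf24 zf32) (kf xf9 yf19 zf4) (kf xf9 yf19 zf6) (kf xf11 yf9 zf12) (kf xf9 yf19 zf7) (kf xf12 yf12 zf29) (kf xf12 yf23 zf19) (kf xf12 yf24 zf37) (kf xf12 yf23 zf15) (kf xf9 yf19 zf14) (kf xf12 yf8 zf8) (kf xf10 yf0 zf4) (kf xf10 yf0 zf5) (kf xf9 yf19 zf21) (kf xf9 yf19 zf22) (kf xf12 yf15 zf5) (kf xf9 yf19 zf23) (kf xf12 yf24 zf43) (kf xf12 yf24 zf45) (kf xf11 yf9 zf28) (kf xf11 yf9 zf29) (kf xf9 yf19 zf31) (kf xf12 yf15 zf9) (kf xf9 yf19 zf32) (kf xf9 yf19 zf33) (kf xf12 yf15 zf12) (kf xf9 yf19 zf34)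 (kf xf12 yf15 zf14) (kf xf9 yf19 zf35) (kf xf12 yf24 zf50) (kf xf12 yf25 zf1) (kf xf12 yf25 zf3) (kf xf12 yf25 zf4) (kf xf12 yf25 zf6) (kf xf12 yf25 zf9) (kf xf11 yf22 zf37) (kf xf12 yf9 zf12) (kf xf11 yf9 zf46) (kf xf11 yf9 zf47) (kf xf9 yf19 zf48) (kf xf9 yf23 zf2) (kf xf9 yf19 zf49)) (@D3.rec (fun _ => Pt) (kf xf9 yf21 zf47) (kf xf9 yf19 zf50) (kf xf9 yf25 zf19) (kf xf9 yf20 zf0) (kf xf9 yf25 zf21) (kf xf9 yf25 zf22) (kf xf12 yf12 zf40) (kf xf12 yf25 zf18) (kf xf12 yf25 zf20) (kf xf9 yf26 zf45) (kf xf10 yf0 zf6) (kf xf12 yf17 zf13) (kf xf10 yf0 zf7) (kf xf11 yf10 zf13) (kf xf11 yf10 zf14) (kf xf9 yf20 zf12) (kf xf12 yf17 zf8) (kf xf9 yf20 zf14) (kf xf9 yf20 zf15) (kf xf12 yf25 zf43) (kf xf9 yf20 zf17) (kf xf9 yf20 zf10) (kf xf12 yf25 zf47) (kf xf9 yf20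 zf20) (kf xf12 yf25 zf34) (kf xf12 yf17 zf7) (kf xf12 yf25 zf36) (kf xf12 yf17 zf9) (kf xf12 yf25 zf38) (kf xf12 yf25 zf39) (kf xf12 yf26 zf5) (kf xf12 yf25 zf41) (kf xf9 yf20 zf16) (kf xf12 yf26 zf9) (kf xf12 yf25 zf45) (kf xf9 yf20 zf27) (kf xf9 yf20 zf19) (kf xf12 yf26 zf13) (kf xf11 yf23 zf17) (kf xf12 yf18 zf27) (kf xf12 yf10 zf12) (kf xf12 yf26 zf8) (kf xf9 yf20 zf25) (kf xf12 yf26 zf18) (kf xf12 yf26 zf11) (kf xf12 yf26 zf12) (kf xf9 yf20 zf29) (kf xf11 yf10 zf47) (kf xf12 yf26 zf24) (kf xf11 yf10 zf49) (kf xf9 yf20 zf41)) (@D3.rec (fun _ => Pt) (kf xf12 yf26 zf30) (kf xf9 yf20 zf43) (kf xf9 yf20 zf33) (kf xf12 yf26 zf34) (kf xf9 yf20 zf46) (kf xf9 yf20 zf47) (kf xf12 yf26 zf39) (kf xf9 yf20 zf49) (kf xf12 yf26 zf42) (kf xf9 yf20 zf36) (kf xf12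 yf26 zf46) (kf xf9 yf21 zf1) (kf xf12 yf10 zf36) (kf xf9 yf20 zf39) (kf xf13 yf0 zf0) (kf xf12 yf12 zf42) (kf xf13 yf0 zf4) (kf xf12 yf26 zf28) (kf xf9 yf20 zf42) (kf xf13 yf0 zf7) (kf xf12 yf26 zf32) (kf xf11 yf11 zf21) (kf xf9 yf20 zf45) (kf xf13 yf0 zf12) (kf xf13 yf0 zf13) (kf xf12 yf26 zf37) (kf xf9 yf20 zf48) (kf xf13 yf0 zf17) (kf xf12 yf26 zf41) (kf xf9 yf21 zf10) (kf xf9 yf21 zf0) (kf xf13 yf0 zf22) (kf xf12 yf26 zf48) (kf xf9 yf21 zf14) (kf xf9 yf21 zf15) (kf xf9 yf21 zf4) (kf xf12 yf17 zf32) (kf xf12 yf11 zf9) (kf xf13 yf0 zf16) (kf xf9 yf21 zf8) (kf xf13 yf0 zf30) (kf xf12 yf11 zf13) (kf xf13 yf0 zf20) (kf xf13 yf0 zf21) (kf xf9 yf21 zf12) (kf xf13 yf0 zf34) (kf xf12 yf16 zf31) (kf xf13 yf0 zf25) (kf xf13 yf0 zf26) (kf xf11 yf11 zf49) (kf xf11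 yf11 zf50)) (@D3.rec (fun _ => Pt) (kf xf9 yf21 zf21) (kf xf11 yf12 zf1) (kf xf9 yf21 zf37) (kf xf9 yf23 zf3) (kf xf9 yf21 zf40) (kf xf9 yf21 zf38) (kf xf9 yf21 zf39) (kf xf9 yf23 zf1) (kf xf9 yf26 zf31) (kf xf9 yf26 zf32) (kf xf9 yf21 zf41) (kf xf12 yf12 zf43) (kf xf13 yf0 zf39) (kf xf12 yf25 zf19) (kf xf13 yf0 zf38) (kf xf13 yf0 zf44) (kf xf9 yf22 zf12) (kf xf10 yf0 zf16) (kf xf10 yf0 zf17) (kf xf11 yf12 zf19) (kf xf12 yf12 zf19) (kf xf10 yf0 zf18) (kf xf10 yf0 zf19) (kf xf9 yf26 zf34) (kf xf10 yf0 zf20) (kf xf11 yf12 zf25) (kf xf10 yf0 zf21) (kf xf10 yf0 zf22) (kf xf11 yf12 zf28) (kf xf10 yf0 zf23) (kf xf11 yf12 zf30) (kf xf10 yf0 zf24) (kf xf11 yf12 zf32) (kf xf11 yf12 zf33) (kf xf9 yf22 zf38) (kf xf11 yf12 zf35) (kf xf9 yf22 zf39) (kf xf11 yf12 zf37)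 (kf xf9 yf22 zf40) (kf xf11 yf12 zf39) (kf xf9 yf22 zf41) (kf xf11 yf12 zf41) (kf xf11 yf12 zf42) (kf xf12 yf12 zf46) (kf xf13 yf1 zf11) (kf xf13 yf1 zf14) (kf xf11 yf12 zf46) (kf xf9 yf26 zf37) (kf xf13 yf1 zf21) (kf xf13 yf1 zf22) (kf xf9 yf23 zf4)) (@D3.rec (fun _ => Pt) (kf xf11 yf13 zf0) (kf xf11 yf25 zf11) (kf xf9 yf23 zf10) (kf xf12 yf20 zf2) (kf xf11 yf17 zf23) (kf xf11 yf13 zf5) (kf xf11 yf13 zf6) (kf xf13 yf1 zf28) (kf xf9 yf23 zf30) (kf xf9 yf23 zf32) (kf xf11 yf24 zf31) (kf xf9 yf23 zf33) (kf xf9 yf23 zf36) (kf xf11 yf18 zf41) (kf xf13 yf1 zf29) (kf xf11 yf24 zf27) (kf xf13 yf1 zf30) (kf xf11 yf13 zf17) (kf xf11 yf13 zf18) (kf xf11 yf13 zf19) (kf xf13 yf1 zf24) (kf xf11 yf13 zf21) (kf xf12 yf21 zf36) (kf xf11 yf20 zf24) (kf xf11 yf13 zf24)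 (kf xf11 yf13 zf25) (kf xf12 yf20 zf28) (kf xf9 yf24 zf0) (kf xf13 yf1 zf36) (kf xf9 yf24 zf12) (kf xf9 yf24 zf3) (kf xf9 yf24 zf17) (kf xf9 yf24 zf6) (kf xf9 yf24 zf7) (kf xf13 yf1 zf38) (kf xf11 yf13 zf35) (kf xf9 yf24 zf10) (kf xf11 yf26 zf24) (kf xf11 yf13 zf38) (kf xf13 yf1 zf37) (kf xf9 yf24 zf14) (kf xf12 yf13 zf28) (kf xf12 yf20 zf27) (kf xf12 yf22 zf49) (kf xf12 yf22 zf50) (kf xf9 yf24 zf32) (kf xf12 yf23 zf1) (kf xf12 yf23 zf2) (kf xf12 yf23 zf3) (kf xf11 yf21 zf25) (kf xf12 yf8 zf1)) (@D3.rec (fun _ => Pt) (kf xf11 yf23 zf38) (kf xf13 yf1 zf50) (kf xf11 yf14 zf2) (kf xf11 yf14 zf3) (kf xf12 yf21 zf10) (kf xf9 yf24 zf36) (kf xf9 yf24 zf46) (kf xf9 yf24 zf47) (kf xf12 yf23 zf17) (kf xf9 yf24 zf48) (kf xf12 yf23 zf20) (kf xf9 yf24 zf49) (kf xf11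 yf17 zf3) (kf xf12 yf6 zf22) (kf xf13 yf2 zf1) (kf xf13 yf2 zf9) (kf xf13 yf2 zf3) (kf xf13 yf2 zf4) (kf xf13 yf2 zf10) (kf xf9 yf24 zf50) (kf xf11 yf14 zf20) (kf xf11 yf16 zf26) (kf xf12 yf0 zf20) (kf xf9 yf25 zf2) (kf xf11 yf17 zf6) (kf xf9 yf25 zf10) (kf xf9 yf25 zf11) (kf xf9 yf25 zf12) (kf xf9 yf26 zf35) (kf xf11 yf16 zf43) (kf xf11 yf16 zf44) (kf xf13 yf2 zf11) (kf xf13 yf2 zf12) (kf xf13 yf2 zf13) (kf xf11 yf14 zf34) (kf xf11 yf14 zf35) (kf xf12 yf17 zf4) (kf xf9 yf25 zf25) (kf xf9 yf25 zf27) (kf xf12 yf25 zf21) (kf xf12 yf25 zf22) (kf xf9 yf25 zf28) (kf xf12 yf25 zf23) (kf xf12 yf25 zf24) (kf xf9 yf25 zf29) (kf xf9 yf26 zf3) (kf xf13 yf2 zf14) (kf xf13 yf2 zf25) (kf xf9 yf25 zf50) (kf xf13 yf2 zf26) (kf xf9 yf25 zf36)) (@D3.rec (fun _ => Pt) (kf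 xf13 yf2 zf28) (kf xf9 yf26 zf6) (kf xf9 yf25 zf38) (kf xf13 yf2 zf31) (kf xf13 yf2 zf32) (kf xf11 yf15 zf5) (kf xf9 yf25 zf40) (kf xf13 yf2 zf36) (kf xf9 yf26 zf10) (kf xf11 yf15 zf9) (kf xf9 yf25 zf44) (kf xf13 yf2 zf40) (kf xf13 yf2 zf42) (kf xf9 yf25 zf46) (kf xf13 yf2 zf43) (kf xf9 yf25 zf49) (kf xf13 yf2 zf44) (kf xf9 yf26 zf1) (kf xf9 yf26 zf2) (kf xf13 yf2 zf46) (kf xf13 yf2 zf16) (kf xf9 yf26 zf17) (kf xf9 yf26 zf5) (kf xf13 yf2 zf49) (kf xf9 yf26 zf21) (kf xf9 yf26 zf22) (kf xf9 yf26 zf9) (kf xf13 yf3 zf2) (kf xf13 yf3 zf4) (kf xf9 yf26 zf26) (kf xf9 yf26 zf27) (kf xf13 yf0 zf49) (kf xf9 yf26 zf15) (kf xf13 yf3 zf6) (kf xf13 yf1 zf3) (kf xf13 yf2 zf48) (kf xf9 yf26 zf19) (kf xf13 yf3 zf9) (kf xf13 yf3 zf0) (kf xf13 yf3 zf1) (kf xf9 yf26 zf24)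 (kf xf12 yf17 zf5) (kf xf11 yf15 zf42) (kf xf13 yf0 zf40) (kf xf13 yf0 zf41) (kf xf9 yf26 zf33) (kf xf13 yf0 zf48) (kf xf9 yf26 zf36) (kf xf12 yf23 zf33) (kf xf12 yf24 zf39) (kf xf12 yf24 zf41)) (@D3.rec (fun _ => Pt) (kf xf12 yf25 zf26) (kf xf12 yf25 zf28) (kf xf12 yf25 zf30) (kf xf10 yf0 zf10) (kf xf10 yf0 zf11) (kf xf13 yf3 zf18) (kf xf12 yf2 zf27) (kf xf13 yf0 zf45) (kf xf13 yf0 zf46) (kf xf13 yf0 zf47) (kf xf13 yf1 zf0) (kf xf13 yf1 zf2) (kf xf13 yf1 zf5) (kf xf13 yf1 zf8) (kf xf11 yf16 zf14) (kf xf10 yf0 zf29) (kf xf13 yf3 zf25) (kf xf10 yf0 zf44) (kf xf10 yf0 zf32) (kf xf11 yf7 zf46) (kf xf11 yf5 zf45) (kf xf10 yf0 zf35) (kf xf11 yf7 zf44) (kf xf10 yf1 zf3) (kf xf10 yf1 zf4) (kf xf10 yf0 zf39) (kf xf11 yf14 zf21) (kf xf10 yf26 zf47) (kf xf10 yf8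 zf23) (kf xf10 yf11 zf47) (kf xf13 yf3 zf27) (kf xf10 yf0 zf46) (kf xf13 yf3 zf35) (kf xf10 yf1 zf0) (kf xf10 yf0 zf49) (kf xf13 yf3 zf38) (kf xf13 yf3 zf36) (kf xf13 yf3 zf37) (kf xf10 yf1 zf2) (kf xf13 yf3 zf29) (kf xf13 yf3 zf30) (kf xf10 yf1 zf6) (kf xf13 yf3 zf43) (kf xf11 yf14 zf29) (kf xf11 yf14 zf30) (kf xf11 yf16 zf45) (kf xf10 yf1 zf18) (kf xf10 yf1 zf19) (kf xf10 yf1 zf20) (kf xf10 yf25 zf48) (kf xf10 yf25 zf49)) (@D3.rec (fun _ => Pt) (kf xf10 yf25 zf50) (kf xf13 yf3 zf46) (kf xf13 yf3 zf47) (kf xf11 yf14 zf12) (kf xf11 yf17 zf4) (kf xf11 yf17 zf5) (kf xf11 yf14 zf24) (kf xf10 yf23 zf38) (kf xf10 yf23 zf39) (kf xf10 yf24 zf11) (kf xf10 yf24 zf0) (kf xf10 yf24 zf12) (kf xf10 yf2 zf12) (kf xf10 yf10 zf16) (kf xf10 yf23 zf40) (kf xf11 yf17 zf15)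 (kf xf11 yf3 zf11) (kf xf11 yf17 zf17) (kf xf10 yf10 zf21) (kf xf10 yf1 zf45) (kf xf10 yf2 zf13) (kf xf10 yf23 zf41) (kf xf10 yf23 zf42) (kf xf11 yf13 zf4) (kf xf10 yf23 zf44) (kf xf11 yf17 zf25) (kf xf10 yf2 zf6) (kf xf13 yf4 zf16) (kf xf11 yf4 zf2) (kf xf11 yf3 zf50) (kf xf11 yf4 zf3) (kf xf11 yf3 zf39) (kf xf10 yf23 zf48) (kf xf13 yf4 zf8) (kf xf10 yf24 zf4) (kf xf10 yf2 zf15) (kf xf13 yf4 zf23) (kf xf10 yf24 zf7) (kf xf10 yf10 zf26) (kf xf10 yf2 zf18) (kf xf13 yf4 zf26) (kf xf11 yf17 zf41) (kf xf11 yf17 zf42) (kf xf10 yf2 zf22) (kf xf10 yf2 zf25) (kf xf10 yf2 zf26) (kf xf13 yf4 zf28) (kf xf13 yf4 zf29) (kf xf10 yf24 zf18) (kf xf10 yf14 zf21) (kf xf10 yf24 zf19)) (@D3.rec (fun _ => Pt) (kf xf10 yf3 zf22) (kf xf10 yf2 zf31) (kf xf10 yf2 zf32) (kf xf10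 yf2 zf33) (kf xf13 yf4 zf36) (kf xf13 yf4 zf37) (kf xf13 yf4 zf38) (kf xf13 yf4 zf46) (kf xf13 yf4 zf40) (kf xf10 yf10 zf42) (kf xf10 yf14 zf33) (kf xf10 yf24 zf23) (kf xf10 yf14 zf35) (kf xf10 yf24 zf24) (kf xf13 yf5 zf4) (kf xf10 yf4 zf48) (kf xf10 yf2 zf39) (kf xf13 yf5 zf6) (kf xf10 yf5 zf0) (kf xf10 yf14 zf42) (kf xf10 yf2 zf48) (kf xf10 yf2 zf49) (kf xf10 yf2 zf50) (kf xf10 yf15 zf23) (kf xf13 yf5 zf9) (kf xf10 yf10 zf12) (kf xf10 yf10 zf43) (kf xf10 yf24 zf25) (kf xf10 yf14 zf43) (kf xf10 yf16 zf8) (kf xf10 yf10 zf25) (kf xf10 yf9 zf41) (kf xf10 yf12 zf48) (kf xf10 yf3 zf12) (kf xf10 yf3 zf13) (kf xf13 yf5 zf16) (kf xf13 yf5 zf17) (kf xf10 yf12 zf22) (kf xf10 yf24 zf29) (kf xf10 yf12 zf27) (kf xf10 yf3 zf20) (kf xf11 yf13 zf13) (kf xf10 yf3 zf25)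 (kf xf10 yf3 zf26) (kf xf13 yf5 zf23) (kf xf10 yf3 zf27) (kf xf13 yf5 zf26) (kf xf10 yf24 zf35) (kf xf11 yf7 zf5) (kf xf10 yf3 zf30) (kf xf11 yf7 zf45)) (@D3.rec (fun _ => Pt) (kf xf10 yf6 zf28) (kf xf10 yf6 zf29) (kf xf10 yf3 zf34) (kf xf10 yf3 zf40) (kf xf10 yf3 zf41) (kf xf10 yf3 zf42) (kf xf13 yf5 zf32) (kf xf13 yf5 zf33) (kf xf13 yf5 zf37) (kf xf13 yf5 zf35) (kf xf10 yf3 zf43) (kf xf13 yf5 zf41) (kf xf10 yf24 zf49) (kf xf10 yf3 zf49) (kf xf10 yf3 zf50) (kf xf10 yf4 zf0) (kf xf13 yf5 zf47) (kf xf10 yf4 zf2) (kf xf13 yf5 zf44) (kf xf13 yf5 zf46) (kf xf10 yf4 zf1) (kf xf13 yf6 zf2) (kf xf13 yf5 zf49) (kf xf10 yf25 zf14) (kf xf10 yf4 zf4) (kf xf13 yf6 zf6) (kf xf10 yf25 zf17) (kf xf13 yf6 zf1) (kf xf10 yf4 zf7) (kf xf13 yf6 zf10) (kf xf10 yf4 zf12) (kf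 xf10 yf4 zf10) (kf xf13 yf6 zf14) (kf xf13 yf6 zf12) (kf xf13 yf6 zf13) (kf xf10 yf4 zf14) (kf xf13 yf6 zf18) (kf xf10 yf7 zf38) (kf xf10 yf7 zf39) (kf xf10 yf4 zf21) (kf xf11 yf19 zf40) (kf xf11 yf19 zf41) (kf xf11 yf19 zf42) (kf xf10 yf4 zf27) (kf xf10 yf4 zf28) (kf xf10 yf4 zf29) (kf xf13 yf6 zf24) (kf xf13 yf6 zf25) (kf xf13 yf6 zf26) (kf xf13 yf6 zf33) (kf xf13 yf6 zf28)) (@D3.rec (fun _ => Pt) (kf xf10 yf22 zf4) (kf xf10 yf19 zf18) (kf xf10 yf26 zf10) (kf xf11 yf20 zf3) (kf xf10 yf4 zf37) (kf xf10 yf4 zf38) (kf xf10 yf4 zf39) (kf xf13 yf6 zf46) (kf xf10 yf4 zf41) (kf xf13 yf6 zf40) (kf xf13 yf7 zf0) (kf xf13 yf6 zf42) (kf xf13 yf6 zf43) (kf xf13 yf7 zf4) (kf xf13 yf6 zf45) (kf xf10 yf4 zf40) (kf xf13 yf7 zf7) (kf xf13 yf6 zf48) (kf xf10 yf26 zf22)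 (kf xf10 yf19 zf36) (kf xf10 yf26 zf23) (kf xf10 yf19 zf38) (kf xf10 yf4 zf47) (kf xf13 yf7 zf14) (kf xf11 yf13 zf23) (kf xf10 yf4 zf50) (kf xf13 yf7 zf16) (kf xf10 yf19 zf44) (kf xf11 yf20 zf28) (kf xf10 yf5 zf8) (kf xf10 yf5 zf9) (kf xf10 yf5 zf10) (kf xf11 yf20 zf32) (kf xf10 yf5 zf11) (kf xf11 yf20 zf34) (kf xf10 yf5 zf12) (kf xf13 yf7 zf19) (kf xf13 yf7 zf20) (kf xf13 yf7 zf22) (kf xf13 yf7 zf25) (kf xf10 yf26 zf33) (kf xf10 yf26 zf34) (kf xf10 yf26 zf35) (kf xf10 yf5 zf24) (kf xf10 yf5 zf25) (kf xf11 yf20 zf45) (kf xf10 yf5 zf26) (kf xf11 yf20 zf47) (kf xf10 yf5 zf27) (kf xf11 yf20 zf49) (kf xf13 yf7 zf33)) (@D3.rec (fun _ => Pt) (kf xf13 yf7 zf35) (kf xf13 yf7 zf37) (kf xf10 yf26 zf45) (kf xf10 yf26 zf46) (kf xf10 yf16 zf38) (kf xf10 yf5 zf32) (kf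 xf10 yf5 zf33) (kf xf13 yf7 zf41) (kf xf13 yf7 zf42) (kf xf13 yf7 zf43) (kf xf10 yf18 zf7) (kf xf11 yf21 zf11) (kf xf10 yf5 zf38) (kf xf10 yf5 zf39) (kf xf10 yf5 zf40) (kf xf13 yf7 zf49) (kf xf13 yf7 zf50) (kf xf13 yf8 zf0) (kf xf13 yf8 zf6) (kf xf13 yf8 zf2) (kf xf10 yf17 zf40) (kf xf10 yf17 zf20) (kf xf11 yf0 zf5) (kf xf10 yf5 zf45) (kf xf13 yf8 zf11) (kf xf11 yf13 zf49) (kf xf10 yf5 zf50) (kf xf10 yf17 zf27) (kf xf11 yf21 zf28) (kf xf10 yf6 zf3) (kf xf10 yf6 zf4) (kf xf10 yf6 zf5) (kf xf13 yf8 zf16) (kf xf13 yf8 zf17) (kf xf13 yf8 zf18) (kf xf13 yf8 zf23) (kf xf13 yf8 zf20) (kf xf11 yf0 zf12) (kf xf11 yf8 zf42) (kf xf11 yf0 zf13) (kf xf11 yf21 zf40) (kf xf10 yf6 zf13) (kf xf10 yf6 zf14) (kf xf10 yf6 zf15) (kf xf13 yf8 zf34) (kf xf10 yf6 zf17) (kf xf13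 yf8 zf31) (kf xf13 yf8 zf33) (kf xf10 yf6 zf16) (kf xf13 yf8 zf40) (kf xf13 yf8 zf36)) (@D3.rec (fun _ => Pt) (kf xf11 yf0 zf31) (kf xf13 yf8 zf39) (kf xf10 yf6 zf20) (kf xf13 yf8 zf45) (kf xf10 yf6 zf25) (kf xf10 yf6 zf23) (kf xf13 yf8 zf49) (kf xf13 yf8 zf47) (kf xf13 yf8 zf48) (kf xf10 yf6 zf27) (kf xf13 yf9 zf2) (kf xf13 yf5 zf30) (kf xf13 yf5 zf31) (kf xf11 yf22 zf13) (kf xf10 yf6 zf35) (kf xf10 yf6 zf36) (kf xf13 yf9 zf4) (kf xf11 yf1 zf3) (kf xf11 yf22 zf18) (kf xf11 yf22 zf19) (kf xf11 yf22 zf20) (kf xf11 yf22 zf21) (kf xf10 yf6 zf44) (kf xf10 yf6 zf45) (kf xf10 yf6 zf46) (kf xf13 yf9 zf19) (kf xf10 yf6 zf48) (kf xf13 yf9 zf13) (kf xf13 yf9 zf24) (kf xf13 yf9 zf15) (kf xf13 yf9 zf16) (kf xf13 yf9 zf28) (kf xf13 yf9 zf18) (kf xf10 yf6 zf47) (kf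 xf13 yf9 zf32) (kf xf13 yf9 zf21) (kf xf11 yf1 zf21) (kf xf11 yf9 zf44) (kf xf11 yf1 zf23) (kf xf13 yf9 zf31) (kf xf10 yf7 zf2) (kf xf13 yf9 zf39) (kf xf11 yf22 zf42) (kf xf11 yf22 zf43) (kf xf10 yf7 zf10) (kf xf13 yf9 zf46) (kf xf10 yf7 zf12) (kf xf10 yf7 zf13) (kf xf13 yf10 zf2) (kf xf10 yf7 zf15) (kf xf10 yf7 zf8)) (@D3.rec (fun _ => Pt) (kf xf13 yf10 zf6) (kf xf10 yf7 zf18) (kf xf13 yf9 zf43) (kf xf13 yf9 zf45) (kf xf10 yf7 zf11) (kf xf13 yf10 zf12) (kf xf13 yf9 zf48) (kf xf13 yf9 zf49) (kf xf13 yf10 zf15) (kf xf13 yf10 zf0) (kf xf10 yf7 zf14) (kf xf13 yf10 zf19) (kf xf13 yf10 zf4) (kf xf10 yf7 zf25) (kf xf10 yf7 zf17) (kf xf13 yf10 zf24) (kf xf11 yf2 zf3) (kf xf11 yf10 zf38) (kf xf11 yf2 zf6) (kf xf13 yf10 zf18) (kf xf10 yf7 zf23) (kf xf13 yf10 zf31)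 (kf xf11 yf2 zf10) (kf xf13 yf10 zf22) (kf xf13 yf10 zf23) (kf xf10 yf7 zf27) (kf xf13 yf10 zf35) (kf xf11 yf23 zf27) (kf xf10 yf7 zf29) (kf xf13 yf10 zf39) (kf xf10 yf7 zf34) (kf xf10 yf7 zf35) (kf xf10 yf7 zf33) (kf xf13 yf10 zf43) (kf xf13 yf10 zf41) (kf xf13 yf10 zf42) (kf xf10 yf7 zf37) (kf xf13 yf10 zf47) (kf xf11 yf14 zf0) (kf xf10 yf7 zf48) (kf xf10 yf7 zf49) (kf xf10 yf7 zf50) (kf xf10 yf8 zf0) (kf xf10 yf26 zf27) (kf xf10 yf8 zf1) (kf xf10 yf26 zf16) (kf xf10 yf26 zf28) (kf xf10 yf8 zf2) (kf xf10 yf26 zf29) (kf xf13 yf10 zf49) (kf xf13 yf10 zf50)) (@D3.rec (fun _ => Pt) (kf xf13 yf11 zf0) (kf xf13 yf11 zf2) (kf xf13 yf11 zf5) (kf xf13 yf11 zf9) (kf xf11 yf2 zf38) (kf xf11 yf2 zf39) (kf xf13 yf11 zf17) (kf xf10 yf8 zf15) (kf xf10 yf8 zf16) (kf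 xf10 yf8 zf17) (kf xf10 yf26 zf39) (kf xf10 yf8 zf18) (kf xf10 yf26 zf40) (kf xf10 yf8 zf19) (kf xf10 yf26 zf41) (kf xf10 yf8 zf20) (kf xf13 yf11 zf18) (kf xf13 yf11 zf19) (kf xf13 yf11 zf20) (kf xf13 yf11 zf22) (kf xf13 yf11 zf24) (kf xf11 yf7 zf43) (kf xf10 yf8 zf27) (kf xf13 yf11 zf28) (kf xf11 yf24 zf24) (kf xf11 yf4 zf14) (kf xf10 yf8 zf34) (kf xf11 yf13 zf15) (kf xf11 yf24 zf28) (kf xf11 yf24 zf29) (kf xf10 yf11 zf17) (kf xf11 yf13 zf10) (kf xf11 yf24 zf32) (kf xf11 yf24 zf33) (kf xf10 yf10 zf6) (kf xf10 yf10 zf7) (kf xf10 yf23 zf43) (kf xf10 yf23 zf45) (kf xf11 yf24 zf38) (kf xf11 yf24 zf39) (kf xf10 yf10 zf1) (kf xf10 yf10 zf2) (kf xf11 yf3 zf5) (kf xf11 yf3 zf6) (kf xf10 yf9 zf1) (kf xf10 yf9 zf2) (kf xf13 yf11 zf43) (kf xf13 yf11 zf44) (kf xf13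 yf11 zf45) (kf xf11 yf3 zf9) (kf xf11 yf3 zf41)) (@D3.rec (fun _ => Pt) (kf xf11 yf3 zf10) (kf xf11 yf25 zf1) (kf xf11 yf4 zf7) (kf xf10 yf9 zf9) (kf xf10 yf12 zf29) (kf xf10 yf9 zf12) (kf xf10 yf9 zf13) (kf xf13 yf5 zf15) (kf xf11 yf3 zf12) (kf xf11 yf3 zf13) (kf xf11 yf3 zf45) (kf xf11 yf13 zf1) (kf xf11 yf3 zf14) (kf xf13 yf12 zf5) (kf xf11 yf3 zf15) (kf xf10 yf9 zf23) (kf xf10 yf9 zf24) (kf xf10 yf9 zf25) (kf xf11 yf6 zf11) (kf xf13 yf5 zf13) (kf xf13 yf12 zf8) (kf xf10 yf10 zf44) (kf xf11 yf3 zf18) (kf xf10 yf9 zf27) (kf xf13 yf12 zf13) (kf xf11 yf3 zf20) (kf xf11 yf25 zf26) (kf xf11 yf25 zf27) (kf xf10 yf9 zf33) (kf xf13 yf12 zf15) (kf xf10 yf9 zf36) (kf xf11 yf4 zf13) (kf xf11 yf4 zf15) (kf xf10 yf11 zf10) (kf xf11 yf3 zf21) (kf xf10 yf10 zf27)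 (kf xf10 yf11 zf11) (kf xf11 yf3 zf7) (kf xf11 yf3 zf8) (kf xf13 yf11 zf38) (kf xf13 yf11 zf39) (kf xf11 yf3 zf17) (kf xf11 yf3 zf19) (kf xf13 yf11 zf34) (kf xf13 yf11 zf35) (kf xf13 yf11 zf36) (kf xf11 yf3 zf22) (kf xf13 yf4 zf3) (kf xf11 yf3 zf23) (kf xf10 yf14 zf23) (kf xf10 yf10 zf13)) (@D3.rec (fun _ => Pt) (kf xf10 yf10 zf14) (kf xf13 yf4 zf49) (kf xf13 yf5 zf12) (kf xf13 yf4 zf22) (kf xf13 yf12 zf37) (kf xf13 yf12 zf34) (kf xf10 yf10 zf45) (kf xf13 yf4 zf7) (kf xf11 yf3 zf28) (kf xf13 yf4 zf9) (kf xf11 yf3 zf29) (kf xf10 yf10 zf19) (kf xf13 yf12 zf44) (kf xf11 yf26 zf13) (kf xf13 yf4 zf12) (kf xf10 yf11 zf4) (kf xf13 yf4 zf25) (kf xf13 yf12 zf19) (kf xf10 yf11 zf2) (kf xf11 yf3 zf33) (kf xf10 yf10 zf33) (kf xf10 yf10 zf34) (kf xf10 yf10 zf35) (kf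 xf13 yf4 zf32) (kf xf11 yf13 zf37) (kf xf13 yf12 zf3) (kf xf13 yf12 zf29) (kf xf13 yf13 zf0) (kf xf11 yf3 zf34) (kf xf13 yf4 zf5) (kf xf11 yf3 zf35) (kf xf10 yf10 zf37) (kf xf13 yf13 zf8) (kf xf11 yf3 zf36) (kf xf13 yf12 zf27) (kf xf10 yf10 zf46) (kf xf13 yf5 zf0) (kf xf13 yf12 zf22) (kf xf13 yf12 zf11) (kf xf13 yf12 zf40) (kf xf13 yf13 zf11) (kf xf11 yf3 zf44) (kf xf13 yf11 zf40) (kf xf11 yf3 zf46) (kf xf10 yf10 zf48) (kf xf13 yf13 zf19) (kf xf11 yf3 zf49) (kf xf13 yf12 zf30) (kf xf10 yf11 zf0) (kf xf13 yf13 zf23) (kf xf13 yf12 zf49))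
def f_f_12 : D2 → D3 → Pt := @D2.rec (fun _ => D3 → Pt) (@D3.rec (fun _ => Pt) (kf xf11 yf4 zf36) (kf xf13 yf12 zf47) (kf xf10 yf11 zf6) (kf xf13 yf13 zf26) (kf xf13 yf12 zf17) (kf xf11 yf4 zf9) (kf xf11 yf4 zf10) (kf xf11 yf4 zf11) (kf xf11 yf4 zf16) (kf xf11 yf5 zf25) (kf xf10 yf16 zf40) (kf xf10 yf11 zf21) (kf xf10 yf16 zf44) (kf xf12 yf0 zf13) (kf xf10 yf11 zf26) (kf xf13 yf13 zf34) (kf xf10 yf16 zf47) (kf xf10 yf11 zf29) (kf xf13 yf13 zf36) (kf xf10 yf11 zf32) (kf xf11 yf14 zf22) (kf xf10 yf11 zf36) (kf xf10 yf17 zf23) (kf xf13 yf13 zf37) (kf xf12 yf0 zf24) (kf xf12 yf0 zf25) (kf xf10 yf11 zf46) (kf xf10 yf11 zf48) (kf xf10 yf13 zf40) (kf xf10 yf11 zf49) (kf xf10 yf22 zf25) (kf xf13 yf7 zf40) (kf xf13 yf3 zf33) (kf xf13 yf11 zf27) (kf xf12 yf0 zf34)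 (kf xf12 yf0 zf35) (kf xf12 yf0 zf36) (kf xf11 yf5 zf33) (kf xf11 yf3 zf26) (kf xf10 yf12 zf5) (kf xf10 yf12 zf6) (kf xf13 yf13 zf41) (kf xf13 yf13 zf42) (kf xf13 yf13 zf43) (kf xf10 yf24 zf34) (kf xf10 yf17 zf11) (kf xf10 yf12 zf12) (kf xf10 yf12 zf13) (kf xf13 yf13 zf48) (kf xf13 yf13 zf49) (kf xf13 yf13 zf50)) (@D3.rec (fun _ => Pt) (kf xf10 yf15 zf39) (kf xf10 yf25 zf13) (kf xf11 yf4 zf20) (kf xf10 yf14 zf2) (kf xf10 yf12 zf18) (kf xf10 yf12 zf19) (kf xf10 yf12 zf20) (kf xf13 yf14 zf9) (kf xf13 yf14 zf10) (kf xf13 yf14 zf11) (kf xf13 yf14 zf16) (kf xf13 yf14 zf13) (kf xf10 yf15 zf18) (kf xf11 yf4 zf28) (kf xf13 yf5 zf19) (kf xf11 yf4 zf29) (kf xf10 yf12 zf25) (kf xf13 yf14 zf22) (kf xf10 yf17 zf26) (kf xf13 yf5 zf21) (kf xf10 yf25 zf41) (kf xf10 yf12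 zf33) (kf xf10 yf12 zf34) (kf xf10 yf12 zf35) (kf xf13 yf14 zf26) (kf xf13 yf14 zf27) (kf xf11 yf4 zf37) (kf xf11 yf4 zf38) (kf xf12 yf1 zf28) (kf xf10 yf12 zf42) (kf xf10 yf12 zf43) (kf xf10 yf12 zf44) (kf xf13 yf14 zf32) (kf xf13 yf14 zf33) (kf xf13 yf14 zf34) (kf xf13 yf14 zf40) (kf xf13 yf14 zf36) (kf xf11 yf4 zf43) (kf xf11 yf6 zf41) (kf xf11 yf4 zf44) (kf xf10 yf12 zf46) (kf xf13 yf14 zf47) (kf xf11 yf4 zf46) (kf xf10 yf25 zf33) (kf xf10 yf13 zf1) (kf xf10 yf13 zf2) (kf xf10 yf13 zf3) (kf xf13 yf15 zf5) (kf xf10 yf13 zf5) (kf xf13 yf15 zf1) (kf xf13 yf15 zf2)) (@D3.rec (fun _ => Pt) (kf xf13 yf15 zf4) (kf xf10 yf13 zf4) (kf xf13 yf15 zf12) (kf xf13 yf15 zf7) (kf xf11 yf5 zf7) (kf xf13 yf12 zf25) (kf xf11 yf5 zf9) (kf xf10 yf13 zf7) (kf xf13 yf15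 zf18) (kf xf11 yf5 zf11) (kf xf13 yf15 zf11) (kf xf10 yf13 zf10) (kf xf13 yf15 zf22) (kf xf10 yf18 zf14) (kf xf10 yf13 zf16) (kf xf10 yf13 zf14) (kf xf13 yf15 zf25) (kf xf13 yf15 zf24) (kf xf10 yf13 zf18) (kf xf13 yf15 zf28) (kf xf10 yf18 zf23) (kf xf10 yf25 zf42) (kf xf10 yf16 zf39) (kf xf10 yf13 zf27) (kf xf10 yf13 zf28) (kf xf10 yf17 zf22) (kf xf10 yf13 zf29) (kf xf11 yf16 zf6) (kf xf10 yf13 zf30) (kf xf13 yf15 zf31) (kf xf13 yf15 zf32) (kf xf13 yf15 zf35) (kf xf11 yf5 zf19) (kf xf11 yf5 zf20) (kf xf11 yf5 zf21) (kf xf10 yf18 zf41) (kf xf10 yf13 zf44) (kf xf10 yf13 zf45) (kf xf10 yf23 zf36) (kf xf10 yf13 zf46) (kf xf10 yf22 zf22) (kf xf10 yf13 zf47) (kf xf13 yf7 zf38) (kf xf11 yf7 zf6) (kf xf13 yf15 zf41) (kf xf13 yf15 zf43) (kf xf11 yf5 zf23) (kf xf11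 yf5 zf24) (kf xf10 yf14 zf3) (kf xf13 yf14 zf8) (kf xf13 yf15 zf45)) (@D3.rec (fun _ => Pt) (kf xf13 yf15 zf46) (kf xf11 yf4 zf45) (kf xf10 yf14 zf8) (kf xf10 yf14 zf9) (kf xf10 yf14 zf10) (kf xf13 yf15 zf50) (kf xf13 yf16 zf0) (kf xf13 yf16 zf1) (kf xf13 yf16 zf3) (kf xf11 yf5 zf8) (kf xf11 yf5 zf10) (kf xf11 yf5 zf12) (kf xf12 yf3 zf12) (kf xf12 yf3 zf13) (kf xf10 yf14 zf17) (kf xf10 yf14 zf18) (kf xf10 yf14 zf19) (kf xf13 yf16 zf13) (kf xf13 yf16 zf14) (kf xf13 yf16 zf15) (kf xf13 yf16 zf23) (kf xf13 yf16 zf17) (kf xf11 yf5 zf30) (kf xf13 yf4 zf33) (kf xf11 yf5 zf31) (kf xf13 yf4 zf34) (kf xf11 yf5 zf32) (kf xf13 yf5 zf10) (kf xf10 yf14 zf27) (kf xf10 yf14 zf28) (kf xf10 yf14 zf29) (kf xf13 yf16 zf38) (kf xf10 yf14 zf31) (kf xf13 yf16 zf32) (kf xf13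 yf16 zf42) (kf xf13 yf16 zf34) (kf xf13 yf16 zf35) (kf xf13 yf16 zf47) (kf xf13 yf16 zf37) (kf xf10 yf14 zf30) (kf xf13 yf16 zf50) (kf xf13 yf16 zf40) (kf xf11 yf5 zf42) (kf xf13 yf4 zf50) (kf xf11 yf5 zf43) (kf xf13 yf5 zf1) (kf xf11 yf5 zf44) (kf xf13 yf5 zf3) (kf xf10 yf14 zf37) (kf xf13 yf17 zf8) (kf xf10 yf19 zf41)) (@D3.rec (fun _ => Pt) (kf xf10 yf14 zf40) (kf xf13 yf17 zf10) (kf xf13 yf5 zf8) (kf xf13 yf5 zf14) (kf xf10 yf14 zf49) (kf xf12 yf4 zf5) (kf xf10 yf14 zf50) (kf xf10 yf15 zf0) (kf xf10 yf15 zf1) (kf xf12 yf4 zf9) (kf xf10 yf15 zf2) (kf xf13 yf17 zf13) (kf xf13 yf17 zf14) (kf xf13 yf17 zf16) (kf xf13 yf17 zf7) (kf xf13 yf17 zf17) (kf xf13 yf17 zf18) (kf xf11 yf6 zf2) (kf xf11 yf6 zf3) (kf xf11 yf6 zf4) (kf xf12 yf4 zf20) (kf xf12 yf4 zf21)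 (kf xf12 yf4 zf22) (kf xf10 yf25 zf23) (kf xf10 yf15 zf12) (kf xf10 yf15 zf13) (kf xf10 yf15 zf14) (kf xf13 yf17 zf41) (kf xf10 yf15 zf16) (kf xf13 yf17 zf35) (kf xf13 yf17 zf45) (kf xf13 yf17 zf37) (kf xf13 yf17 zf38) (kf xf13 yf17 zf49) (kf xf13 yf17 zf40) (kf xf10 yf15 zf15) (kf xf13 yf18 zf2) (kf xf13 yf17 zf43) (kf xf11 yf6 zf12) (kf xf13 yf14 zf19) (kf xf11 yf6 zf15) (kf xf13 yf18 zf1) (kf xf10 yf15 zf21) (kf xf13 yf18 zf8) (kf xf13 yf4 zf43) (kf xf13 yf5 zf11) (kf xf10 yf15 zf29) (kf xf13 yf18 zf14) (kf xf10 yf15 zf31) (kf xf10 yf15 zf32) (kf xf13 yf18 zf21)) (@D3.rec (fun _ => Pt) (kf xf10 yf15 zf34) (kf xf10 yf15 zf27) (kf xf13 yf18 zf25) (kf xf10 yf15 zf37) (kf xf13 yf18 zf27) (kf xf13 yf18 zf13) (kf xf10 yf15 zf30) (kf xf13 yf18 zf30) (kf xf13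 yf18 zf16) (kf xf13 yf18 zf17) (kf xf13 yf18 zf33) (kf xf13 yf18 zf19) (kf xf10 yf15 zf33) (kf xf13 yf18 zf37) (kf xf13 yf18 zf23) (kf xf10 yf15 zf44) (kf xf10 yf15 zf36) (kf xf13 yf18 zf42) (kf xf11 yf6 zf42) (kf xf13 yf14 zf5) (kf xf11 yf6 zf45) (kf xf13 yf18 zf36) (kf xf10 yf15 zf42) (kf xf13 yf18 zf48) (kf xf11 yf6 zf49) (kf xf13 yf18 zf40) (kf xf13 yf18 zf41) (kf xf10 yf15 zf46) (kf xf13 yf19 zf2) (kf xf10 yf15 zf48) (kf xf13 yf19 zf4) (kf xf10 yf16 zf2) (kf xf10 yf16 zf3) (kf xf10 yf16 zf1) (kf xf13 yf19 zf8) (kf xf13 yf19 zf6) (kf xf13 yf19 zf7) (kf xf10 yf16 zf5) (kf xf13 yf19 zf11) (kf xf12 yf5 zf39) (kf xf10 yf16 zf17) (kf xf12 yf5 zf41) (kf xf10 yf16 zf18) (kf xf10 yf16 zf19) (kf xf12 yf5 zf44) (kf xf10 yf16 zf20) (kf xf12 yf5 zf46) (kf xf12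 yf5 zf47) (kf xf10 yf16 zf21) (kf xf12 yf5 zf49) (kf xf13 yf19 zf15)) (@D3.rec (fun _ => Pt) (kf xf13 yf19 zf18) (kf xf13 yf19 zf21) (kf xf13 yf19 zf25) (kf xf11 yf7 zf23) (kf xf11 yf7 zf24) (kf xf13 yf19 zf12) (kf xf12 yf6 zf6) (kf xf12 yf6 zf7) (kf xf10 yf16 zf33) (kf xf12 yf6 zf9) (kf xf10 yf16 zf34) (kf xf12 yf6 zf11) (kf xf12 yf6 zf12) (kf xf13 yf19 zf32) (kf xf13 yf15 zf30) (kf xf13 yf13 zf32) (kf xf13 yf13 zf33) (kf xf10 yf16 zf48) (kf xf10 yf16 zf46) (kf xf13 yf19 zf35) (kf xf13 yf19 zf34) (kf xf10 yf16 zf50) (kf xf11 yf14 zf13) (kf xf10 yf17 zf2) (kf xf10 yf17 zf6) (kf xf10 yf17 zf7) (kf xf10 yf17 zf8) (kf xf13 yf19 zf38) (kf xf13 yf19 zf39) (kf xf13 yf19 zf40) (kf xf13 yf19 zf42) (kf xf11 yf0 zf30) (kf xf11 yf0 zf32) (kf xf12 yf6 zf33) (kf xf10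 yf17 zf16) (kf xf10 yf17 zf17) (kf xf13 yf20 zf1) (kf xf10 yf17 zf19) (kf xf13 yf15 zf33) (kf xf13 yf20 zf0) (kf xf10 yf17 zf18) (kf xf13 yf20 zf6) (kf xf13 yf20 zf3) (kf xf13 yf8 zf10) (kf xf13 yf15 zf34) (kf xf13 yf13 zf38) (kf xf10 yf17 zf25) (kf xf13 yf20 zf10) (kf xf13 yf8 zf13) (kf xf12 yf6 zf49) (kf xf12 yf6 zf50)) (@D3.rec (fun _ => Pt) (kf xf12 yf7 zf0) (kf xf12 yf7 zf1) (kf xf12 yf7 zf2) (kf xf10 yf17 zf36) (kf xf10 yf17 zf37) (kf xf13 yf20 zf21) (kf xf10 yf17 zf39) (kf xf13 yf20 zf24) (kf xf13 yf20 zf20) (kf xf10 yf17 zf38) (kf xf13 yf20 zf27) (kf xf13 yf20 zf23) (kf xf13 yf8 zf9) (kf xf12 yf7 zf13) (kf xf12 yf7 zf14) (kf xf10 yf17 zf48) (kf xf13 yf20 zf35) (kf xf10 yf17 zf50) (kf xf10 yf18 zf0) (kf xf13 yf20 zf41) (kf xf10 yf18 zf2) (kf xf10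 yf17 zf46) (kf xf13 yf20 zf45) (kf xf10 yf18 zf5) (kf xf13 yf20 zf34) (kf xf10 yf17 zf49) (kf xf13 yf20 zf48) (kf xf13 yf20 zf37) (kf xf13 yf20 zf39) (kf xf10 yf18 zf1) (kf xf13 yf21 zf0) (kf xf13 yf20 zf43) (kf xf10 yf18 zf9) (kf xf10 yf18 zf4) (kf xf13 yf21 zf4) (kf xf11 yf8 zf43) (kf xf13 yf7 zf47) (kf xf13 yf21 zf2) (kf xf13 yf21 zf3) (kf xf10 yf18 zf11) (kf xf13 yf21 zf8) (kf xf12 yf7 zf41) (kf xf10 yf18 zf13) (kf xf13 yf21 zf11) (kf xf10 yf18 zf18) (kf xf10 yf18 zf19) (kf xf10 yf18 zf17) (kf xf13 yf21 zf15) (kf xf13 yf21 zf13) (kf xf13 yf21 zf14) (kf xf10 yf18 zf21)) (@D3.rec (fun _ => Pt) (kf xf13 yf11 zf16) (kf xf11 yf13 zf50) (kf xf12 yf8 zf2) (kf xf12 yf8 zf3) (kf xf10 yf18 zf33) (kf xf10 yf18 zf40) (kf xf10 yf18 zf34) (kf xf11 yf8 zf12) (kf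 xf11 yf9 zf19) (kf xf10 yf18 zf45) (kf xf10 yf18 zf46) (kf xf10 yf18 zf47) (kf xf13 yf21 zf21) (kf xf13 yf21 zf22) (kf xf13 yf21 zf24) (kf xf11 yf8 zf17) (kf xf12 yf8 zf16) (kf xf10 yf19 zf2) (kf xf10 yf19 zf3) (kf xf10 yf19 zf4) (kf xf13 yf20 zf44) (kf xf10 yf19 zf5) (kf xf13 yf21 zf29) (kf xf13 yf21 zf31) (kf xf13 yf21 zf33) (kf xf13 yf21 zf35) (kf xf11 yf8 zf44) (kf xf12 yf8 zf27) (kf xf12 yf8 zf28) (kf xf12 yf8 zf29) (kf xf12 yf8 zf30) (kf xf10 yf19 zf14) (kf xf10 yf19 zf15) (kf xf13 yf21 zf49) (kf xf10 yf19 zf17) (kf xf13 yf22 zf1) (kf xf13 yf21 zf48) (kf xf10 yf19 zf16) (kf xf13 yf22 zf4) (kf xf13 yf22 zf0) (kf xf13 yf6 zf37) (kf xf12 yf8 zf41) (kf xf12 yf8 zf42) (kf xf10 yf19 zf26) (kf xf13 yf22 zf12) (kf xf10 yf19 zf28) (kf xf10 yf19 zf29) (kf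 xf13 yf22 zf18) (kf xf10 yf19 zf31) (kf xf10 yf19 zf24) (kf xf13 yf22 zf21)) (@D3.rec (fun _ => Pt) (kf xf10 yf19 zf34) (kf xf13 yf22 zf23) (kf xf13 yf22 zf11) (kf xf10 yf19 zf27) (kf xf13 yf22 zf27) (kf xf13 yf22 zf14) (kf xf13 yf22 zf16) (kf xf10 yf19 zf30) (kf xf13 yf22 zf30) (kf xf13 yf22 zf20) (kf xf10 yf19 zf33) (kf xf13 yf22 zf32) (kf xf11 yf9 zf45) (kf xf13 yf7 zf10) (kf xf13 yf7 zf12) (kf xf12 yf9 zf15) (kf xf10 yf19 zf40) (kf xf13 yf22 zf37) (kf xf10 yf19 zf43) (kf xf13 yf22 zf39) (kf xf13 yf7 zf18) (kf xf12 yf9 zf21) (kf xf10 yf23 zf35) (kf xf12 yf9 zf23) (kf xf12 yf9 zf24) (kf xf10 yf20 zf3) (kf xf12 yf9 zf26) (kf xf10 yf20 zf4) (kf xf12 yf9 zf28) (kf xf10 yf20 zf5) (kf xf12 yf9 zf30) (kf xf12 yf9 zf31) (kf xf13 yf22 zf47) (kf xf11 yf9 zf7)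 (kf xf12 yf9 zf34) (kf xf12 yf9 zf35) (kf xf12 yf9 zf36) (kf xf13 yf23 zf9) (kf xf12 yf9 zf38) (kf xf12 yf9 zf39) (kf xf12 yf9 zf40) (kf xf10 yf20 zf17) (kf xf13 yf23 zf18) (kf xf10 yf20 zf19) (kf xf10 yf20 zf20) (kf xf13 yf23 zf24) (kf xf10 yf20 zf22) (kf xf10 yf20 zf15) (kf xf13 yf23 zf28) (kf xf10 yf20 zf25) (kf xf13 yf23 zf15)) (@D3.rec (fun _ => Pt) (kf xf13 yf23 zf31) (kf xf13 yf23 zf17) (kf xf10 yf20 zf18) (kf xf13 yf23 zf35) (kf xf13 yf23 zf20) (kf xf13 yf23 zf22) (kf xf10 yf20 zf21) (kf xf13 yf23 zf39) (kf xf13 yf23 zf26) (kf xf10 yf20 zf30) (kf xf10 yf20 zf24) (kf xf13 yf23 zf43) (kf xf11 yf10 zf40) (kf xf13 yf23 zf38) (kf xf10 yf20 zf28) (kf xf13 yf23 zf47) (kf xf13 yf23 zf41) (kf xf13 yf23 zf42) (kf xf10 yf20 zf32) (kf xf13 yf24 zf0) (kf xf12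 yf10 zf20) (kf xf13 yf24 zf5) (kf xf12 yf10 zf22) (kf xf10 yf20 zf44) (kf xf13 yf24 zf12) (kf xf10 yf20 zf46) (kf xf10 yf20 zf36) (kf xf13 yf24 zf16) (kf xf10 yf20 zf49) (kf xf10 yf20 zf50) (kf xf13 yf24 zf21) (kf xf10 yf21 zf1) (kf xf13 yf24 zf24) (kf xf10 yf20 zf39) (kf xf13 yf24 zf28) (kf xf10 yf21 zf4) (kf xf11 yf11 zf12) (kf xf10 yf20 zf42) (kf xf13 yf24 zf33) (kf xf13 yf24 zf8) (kf xf13 yf24 zf36) (kf xf13 yf24 zf10) (kf xf10 yf20 zf45) (kf xf13 yf24 zf40) (kf xf13 yf24 zf14) (kf xf12 yf10 zf45) (kf xf10 yf20 zf48) (kf xf13 yf24 zf45) (kf xf13 yf24 zf19) (kf xf10 yf21 zf0) (kf xf13 yf24 zf49)) (@D3.rec (fun _ => Pt) (kf xf13 yf24 zf23) (kf xf10 yf21 zf12) (kf xf10 yf21 zf3) (kf xf13 yf25 zf3) (kf xf13 yf24 zf30) (kf xf10 yf21 zf16) (kf xf10 yf21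 zf17) (kf xf10 yf21 zf7) (kf xf13 yf25 zf8) (kf xf11 yf11 zf37) (kf xf13 yf24 zf48) (kf xf10 yf21 zf10) (kf xf13 yf25 zf12) (kf xf11 yf11 zf41) (kf xf13 yf25 zf1) (kf xf13 yf25 zf2) (kf xf10 yf21 zf14) (kf xf13 yf25 zf16) (kf xf13 yf6 zf36) (kf xf13 yf25 zf6) (kf xf13 yf25 zf7) (kf xf10 yf21 zf19) (kf xf13 yf25 zf21) (kf xf12 yf11 zf23) (kf xf12 yf11 zf24) (kf xf10 yf21 zf22) (kf xf13 yf25 zf25) (kf xf10 yf21 zf27) (kf xf10 yf21 zf28) (kf xf10 yf21 zf26) (kf xf13 yf25 zf29) (kf xf13 yf25 zf27) (kf xf13 yf25 zf28) (kf xf10 yf21 zf30) (kf xf11 yf2 zf40) (kf xf12 yf11 zf35) (kf xf10 yf23 zf28) (kf xf12 yf11 zf37) (kf xf10 yf22 zf21) (kf xf12 yf11 zf39) (kf xf10 yf21 zf47) (kf xf12 yf11 zf41) (kf xf10 yf21 zf48) (kf xf12 yf11 zf43) (kf xf12 yf11 zf44) (kf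 xf10 yf21 zf49) (kf xf12 yf11 zf46) (kf xf12 yf11 zf47) (kf xf10 yf21 zf50) (kf xf12 yf11 zf49) (kf xf12 yf11 zf50)) (@D3.rec (fun _ => Pt) (kf xf10 yf22 zf0) (kf xf12 yf12 zf1) (kf xf12 yf12 zf2) (kf xf12 yf12 zf3) (kf xf10 yf22 zf1) (kf xf12 yf12 zf5) (kf xf13 yf25 zf39) (kf xf13 yf25 zf37) (kf xf13 yf25 zf43) (kf xf13 yf25 zf45) (kf xf13 yf25 zf47) (kf xf13 yf26 zf5) (kf xf10 yf22 zf20) (kf xf12 yf12 zf13) (kf xf10 yf22 zf23) (kf xf12 yf12 zf15) (kf xf10 yf22 zf24) (kf xf13 yf22 zf43) (kf xf13 yf15 zf42) (kf xf11 yf12 zf20) (kf xf12 yf12 zf20) (kf xf12 yf12 zf21) (kf xf12 yf12 zf22) (kf xf12 yf12 zf23) (kf xf12 yf12 zf24) (kf xf12 yf12 zf25) (kf xf10 yf23 zf27) (kf xf12 yf12 zf27) (kf xf12 yf12 zf28) (kf xf11 yf9 zf14) (kf xf12 yf12 zf30) (kf xf12 yf12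 zf31) (kf xf12 yf12 zf32) (kf xf11 yf2 zf32) (kf xf12 yf12 zf34) (kf xf11 yf3 zf1) (kf xf12 yf12 zf36) (kf xf10 yf23 zf4) (kf xf10 yf23 zf5) (kf xf10 yf23 zf6) (kf xf11 yf10 zf6) (kf xf10 yf23 zf7) (kf xf11 yf11 zf15) (kf xf11 yf12 zf11) (kf xf13 yf26 zf21) (kf xf13 yf26 zf22) (kf xf11 yf12 zf43) (kf xf12 yf12 zf47) (kf xf10 yf23 zf29) (kf xf10 yf23 zf30) (kf xf10 yf23 zf31)) (@D3.rec (fun _ => Pt) (kf xf12 yf13 zf0) (kf xf12 yf13 zf1) (kf xf12 yf13 zf2) (kf xf13 yf26 zf35) (kf xf12 yf13 zf4) (kf xf13 yf22 zf41) (kf xf13 yf25 zf36) (kf xf13 yf11 zf6) (kf xf10 yf23 zf32) (kf xf13 yf4 zf4) (kf xf13 yf4 zf10) (kf xf13 yf4 zf13) (kf xf13 yf11 zf37) (kf xf13 yf4 zf14) (kf xf13 yf4 zf19) (kf xf10 yf24 zf1) (kf xf13 yf4 zf6) (kf xf13 yf26 zf39) (kf xf13 yf11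 zf41) (kf xf11 yf3 zf16) (kf xf10 yf24 zf3) (kf xf13 yf26 zf43) (kf xf13 yf4 zf21) (kf xf10 yf24 zf6) (kf xf13 yf26 zf45) (kf xf10 yf24 zf16) (kf xf10 yf24 zf17) (kf xf13 yf26 zf47) (kf xf11 yf13 zf41) (kf xf13 yf4 zf35) (kf xf11 yf5 zf37) (kf xf10 yf24 zf22) (kf xf14 yf0 zf0) (kf xf13 yf5 zf2) (kf xf11 yf6 zf14) (kf xf10 yf24 zf27) (kf xf10 yf24 zf28) (kf xf14 yf0 zf3) (kf xf13 yf5 zf20) (kf xf14 yf0 zf5) (kf xf10 yf24 zf33) (kf xf10 yf24 zf32) (kf xf14 yf0 zf8) (kf xf14 yf0 zf7) (kf xf13 yf13 zf47) (kf xf10 yf24 zf37) (kf xf10 yf24 zf43) (kf xf10 yf24 zf42) (kf xf11 yf6 zf21) (kf xf10 yf24 zf46) (kf xf14 yf0 zf11)) (@D3.rec (fun _ => Pt) (kf xf11 yf6 zf18) (kf xf10 yf24 zf48) (kf xf14 yf0 zf13) (kf xf11 yf6 zf16) (kf xf10 yf25 zf36) (kf xf10 yf25 zf5)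 (kf xf11 yf6 zf6) (kf xf10 yf25 zf6) (kf xf10 yf25 zf7) (kf xf14 yf0 zf23) (kf xf10 yf25 zf9) (kf xf10 yf25 zf3) (kf xf14 yf0 zf27) (kf xf10 yf25 zf12) (kf xf13 yf14 zf49) (kf xf14 yf0 zf17) (kf xf14 yf0 zf19) (kf xf14 yf0 zf31) (kf xf14 yf0 zf21) (kf xf10 yf25 zf8) (kf xf14 yf0 zf35) (kf xf14 yf0 zf25) (kf xf10 yf25 zf18) (kf xf10 yf25 zf11) (kf xf14 yf0 zf39) (kf xf13 yf14 zf6) (kf xf13 yf6 zf4) (kf xf14 yf0 zf34) (kf xf10 yf25 zf16) (kf xf14 yf0 zf42) (kf xf11 yf6 zf17) (kf xf13 yf17 zf33) (kf xf14 yf0 zf38) (kf xf10 yf25 zf20) (kf xf10 yf25 zf24) (kf xf13 yf17 zf34) (kf xf10 yf25 zf34) (kf xf10 yf25 zf35) (kf xf12 yf14 zf38) (kf xf12 yf14 zf39) (kf xf13 yf14 zf50) (kf xf11 yf6 zf19) (kf xf14 yf0 zf15) (kf xf10 yf25 zf43) (kf xf13 yf14 zf25) (kf xf11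 yf5 zf46) (kf xf13 yf3 zf48) (kf xf13 yf3 zf49) (kf xf13 yf3 zf50) (kf xf12 yf14 zf49) (kf xf12 yf14 zf50)) (@D3.rec (fun _ => Pt) (kf xf13 yf3 zf32) (kf xf11 yf0 zf8) (kf xf11 yf0 zf9) (kf xf10 yf26 zf7) (kf xf10 yf26 zf8) (kf xf11 yf9 zf24) (kf xf10 yf26 zf9) (kf xf14 yf1 zf2) (kf xf14 yf1 zf4) (kf xf11 yf9 zf31) (kf xf10 yf26 zf17) (kf xf10 yf26 zf18) (kf xf11 yf9 zf34) (kf xf10 yf26 zf19) (kf xf11 yf9 zf36) (kf xf10 yf26 zf20) (kf xf13 yf11 zf3) (kf xf13 yf11 zf7) (kf xf14 yf1 zf7) (kf xf14 yf1 zf8) (kf xf14 yf1 zf10) (kf xf14 yf1 zf12) (kf xf11 yf1 zf22) (kf xf13 yf7 zf9) (kf xf13 yf7 zf11) (kf xf10 yf26 zf30) (kf xf10 yf26 zf31) (kf xf10 yf26 zf32) (kf xf13 yf11 zf1) (kf xf13 yf11 zf4) (kf xf13 yf11 zf8) (kf xf14 yf1 zf22) (kf xf14 yf1 zf23) (kf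 xf14 yf1 zf24) (kf xf13 yf7 zf30) (kf xf13 yf7 zf31) (kf xf13 yf10 zf48) (kf xf10 yf26 zf42) (kf xf10 yf26 zf43) (kf xf10 yf26 zf44) (kf xf13 yf11 zf21) (kf xf13 yf11 zf23) (kf xf14 yf1 zf31) (kf xf14 yf1 zf32) (kf xf10 yf26 zf49) (kf xf11 yf0 zf2) (kf xf11 yf0 zf3) (kf xf11 yf8 zf0) (kf xf11 yf0 zf4) (kf xf14 yf1 zf35) (kf xf14 yf1 zf37)) (@D3.rec (fun _ => Pt) (kf xf11 yf0 zf10) (kf xf13 yf20 zf38) (kf xf11 yf0 zf11) (kf xf14 yf0 zf49) (kf xf14 yf1 zf0) (kf xf14 yf1 zf40) (kf xf14 yf1 zf42) (kf xf13 yf8 zf26) (kf xf12 yf16 zf8) (kf xf12 yf16 zf9) (kf xf11 yf0 zf20) (kf xf14 yf2 zf2) (kf xf11 yf0 zf22) (kf xf11 yf0 zf23) (kf xf14 yf2 zf8) (kf xf11 yf0 zf25) (kf xf11 yf0 zf18) (kf xf14 yf2 zf11) (kf xf11 yf0 zf28) (kf xf14 yf1 zf50) (kf xf14 yf2 zf14)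 (kf xf14 yf2 zf1) (kf xf11 yf0 zf21) (kf xf14 yf2 zf17) (kf xf14 yf2 zf4) (kf xf14 yf2 zf6) (kf xf11 yf0 zf24) (kf xf14 yf2 zf20) (kf xf14 yf2 zf10) (kf xf11 yf0 zf27) (kf xf14 yf2 zf23) (kf xf11 yf11 zf46) (kf xf13 yf19 zf47) (kf xf13 yf8 zf42) (kf xf11 yf0 zf34) (kf xf12 yf16 zf35) (kf xf12 yf16 zf36) (kf xf11 yf0 zf46) (kf xf12 yf16 zf38) (kf xf11 yf0 zf47) (kf xf12 yf16 zf40) (kf xf11 yf0 zf48) (kf xf11 yf0 zf49) (kf xf12 yf16 zf43) (kf xf11 yf0 zf50) (kf xf12 yf16 zf45) (kf xf12 yf16 zf46) (kf xf11 yf1 zf0) (kf xf12 yf16 zf48) (kf xf13 yf26 zf15) (kf xf14 yf2 zf30)) (@D3.rec (fun _ => Pt) (kf xf14 yf2 zf33) (kf xf14 yf2 zf35) (kf xf14 yf2 zf38) (kf xf14 yf2 zf41) (kf xf11 yf14 zf36) (kf xf11 yf15 zf41) (kf xf13 yf25 zf34) (kf xf11 yf10 zf25) (kf xf11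 yf10 zf16) (kf xf11 yf10 zf27) (kf xf12 yf17 zf10) (kf xf12 yf17 zf11) (kf xf11 yf1 zf12) (kf xf11 yf10 zf11) (kf xf11 yf1 zf13) (kf xf11 yf1 zf14) (kf xf14 yf3 zf14) (kf xf11 yf1 zf16) (kf xf11 yf1 zf10) (kf xf14 yf3 zf18) (kf xf11 yf1 zf19) (kf xf14 yf3 zf6) (kf xf14 yf3 zf8) (kf xf14 yf3 zf10) (kf xf14 yf3 zf22) (kf xf14 yf3 zf12) (kf xf11 yf1 zf15) (kf xf14 yf3 zf25) (kf xf14 yf3 zf16) (kf xf11 yf1 zf24) (kf xf11 yf1 zf18) (kf xf14 yf3 zf29) (kf xf11 yf11 zf36) (kf xf13 yf9 zf34) (kf xf14 yf1 zf20) (kf xf13 yf9 zf36) (kf xf13 yf23 zf1) (kf xf14 yf3 zf28) (kf xf11 yf1 zf26) (kf xf12 yf17 zf39) (kf xf14 yf3 zf36) (kf xf12 yf17 zf41) (kf xf11 yf1 zf38) (kf xf14 yf3 zf42) (kf xf11 yf1 zf40) (kf xf11 yf1 zf30) (kf xf14 yf3 zf45) (kf xf11 yf1 zf43) (kf xf11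 yf1 zf44) (kf xf14 yf3 zf50) (kf xf11 yf1 zf46)) (@D3.rec (fun _ => Pt) (kf xf14 yf4 zf2) (kf xf11 yf1 zf33) (kf xf14 yf4 zf6) (kf xf11 yf1 zf49) (kf xf13 yf10 zf5) (kf xf11 yf1 zf36) (kf xf14 yf4 zf11) (kf xf13 yf26 zf17) (kf xf14 yf4 zf15) (kf xf14 yf3 zf40) (kf xf11 yf1 zf39) (kf xf14 yf4 zf18) (kf xf14 yf3 zf44) (kf xf11 yf1 zf42) (kf xf14 yf4 zf21) (kf xf14 yf4 zf22) (kf xf14 yf3 zf48) (kf xf11 yf1 zf45) (kf xf14 yf4 zf26) (kf xf14 yf4 zf1) (kf xf11 yf2 zf7) (kf xf11 yf1 zf48) (kf xf14 yf4 zf31) (kf xf14 yf4 zf8) (kf xf11 yf2 zf11) (kf xf11 yf2 zf12) (kf xf11 yf2 zf1) (kf xf11 yf10 zf39) (kf xf13 yf10 zf26) (kf xf14 yf4 zf25) (kf xf11 yf2 zf5) (kf xf14 yf4 zf39) (kf xf13 yf10 zf28) (kf xf14 yf4 zf29) (kf xf14 yf4 zf30) (kf xf11 yf2 zf9) (kf xf14 yf4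 zf43) (kf xf13 yf25 zf22) (kf xf14 yf4 zf34) (kf xf14 yf4 zf35) (kf xf11 yf2 zf17) (kf xf12 yf18 zf41) (kf xf12 yf18 zf42) (kf xf11 yf2 zf33) (kf xf12 yf18 zf44) (kf xf12 yf18 zf45) (kf xf11 yf2 zf34) (kf xf12 yf18 zf47) (kf xf11 yf2 zf35) (kf xf12 yf18 zf49) (kf xf12 yf18 zf50)) (@D3.rec (fun _ => Pt) (kf xf11 yf2 zf36) (kf xf12 yf19 zf1) (kf xf12 yf19 zf2) (kf xf12 yf19 zf3) (kf xf11 yf2 zf37) (kf xf13 yf26 zf18) (kf xf14 yf4 zf46) (kf xf14 yf4 zf50) (kf xf14 yf5 zf0) (kf xf14 yf5 zf4) (kf xf14 yf5 zf12) (kf xf11 yf3 zf2) (kf xf12 yf19 zf12) (kf xf11 yf3 zf3) (kf xf12 yf19 zf14) (kf xf11 yf3 zf4) (kf xf13 yf26 zf20) (kf xf13 yf11 zf42) (kf xf13 yf12 zf20) (kf xf13 yf11 zf48) (kf xf13 yf11 zf50) (kf xf13 yf4 zf11) (kf xf13 yf12 zf1) (kf xf13 yf12 zf4)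 (kf xf13 yf12 zf7) (kf xf13 yf26 zf42) (kf xf13 yf12 zf23) (kf xf13 yf12 zf12) (kf xf13 yf12 zf24) (kf xf13 yf12 zf18) (kf xf13 yf12 zf31) (kf xf13 yf12 zf33) (kf xf11 yf3 zf27) (kf xf14 yf5 zf23) (kf xf13 yf12 zf42) (kf xf11 yf3 zf32) (kf xf13 yf12 zf50) (kf xf13 yf13 zf5) (kf xf13 yf13 zf7) (kf xf11 yf3 zf42) (kf xf13 yf4 zf18) (kf xf11 yf3 zf43) (kf xf13 yf11 zf49) (kf xf14 yf5 zf28) (kf xf13 yf13 zf16) (kf xf13 yf12 zf2) (kf xf13 yf13 zf18) (kf xf11 yf3 zf48) (kf xf14 yf5 zf35) (kf xf13 yf13 zf21) (kf xf13 yf4 zf17)) (@D3.rec (fun _ => Pt) (kf xf11 yf4 zf1) (kf xf11 yf4 zf8) (kf xf11 yf13 zf3) (kf xf13 yf12 zf0) (kf xf14 yf5 zf38) (kf xf13 yf13 zf29) (kf xf13 yf13 zf30) (kf xf14 yf5 zf42) (kf xf13 yf11 zf30) (kf xf11 yf4 zf18) (kf xf11 yf4 zf19) (kf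 xf14 yf5 zf44) (kf xf13 yf14 zf7) (kf xf11 yf4 zf24) (kf xf11 yf4 zf25) (kf xf11 yf4 zf26) (kf xf14 yf0 zf2) (kf xf11 yf4 zf27) (kf xf14 yf5 zf47) (kf xf14 yf5 zf49) (kf xf14 yf6 zf0) (kf xf13 yf14 zf20) (kf xf11 yf4 zf33) (kf xf11 yf4 zf34) (kf xf11 yf4 zf35) (kf xf14 yf6 zf4) (kf xf14 yf6 zf5) (kf xf11 yf13 zf42) (kf xf11 yf13 zf26) (kf xf13 yf14 zf29) (kf xf11 yf4 zf41) (kf xf14 yf5 zf46) (kf xf11 yf4 zf42) (kf xf14 yf6 zf11) (kf xf14 yf6 zf13) (kf xf13 yf14 zf43) (kf xf13 yf14 zf45) (kf xf13 yf15 zf49) (kf xf14 yf5 zf43) (kf xf11 yf5 zf1) (kf xf14 yf6 zf20) (kf xf11 yf5 zf3) (kf xf11 yf4 zf50) (kf xf14 yf6 zf23) (kf xf11 yf5 zf6) (kf xf14 yf6 zf18) (kf xf11 yf5 zf2) (kf xf14 yf6 zf25) (kf xf14 yf6 zf22) (kf xf11 yf5 zf5) (kf xf14 yf6 zf28)) (@D3.rec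 (fun _ => Pt) (kf xf13 yf15 zf14) (kf xf13 yf16 zf8) (kf xf13 yf15 zf16) (kf xf13 yf16 zf9) (kf xf13 yf15 zf20) (kf xf12 yf21 zf5) (kf xf12 yf21 zf6) (kf xf11 yf5 zf18) (kf xf12 yf21 zf8) (kf xf14 yf6 zf37) (kf xf11 yf14 zf4) (kf xf13 yf15 zf39) (kf xf14 yf6 zf39) (kf xf11 yf5 zf28) (kf xf13 yf26 zf46) (kf xf11 yf5 zf29) (kf xf14 yf6 zf41) (kf xf14 yf6 zf43) (kf xf13 yf16 zf26) (kf xf13 yf16 zf28) (kf xf13 yf6 zf5) (kf xf13 yf13 zf40) (kf xf13 yf5 zf45) (kf xf11 yf5 zf39) (kf xf13 yf5 zf43) (kf xf11 yf5 zf40) (kf xf13 yf26 zf50) (kf xf11 yf5 zf41) (kf xf14 yf6 zf50) (kf xf14 yf7 zf1) (kf xf13 yf17 zf1) (kf xf13 yf17 zf3) (kf xf13 yf17 zf5) (kf xf13 yf3 zf28) (kf xf11 yf6 zf0) (kf xf11 yf6 zf1) (kf xf11 yf13 zf22) (kf xf14 yf7 zf8) (kf xf13 yf17 zf25) (kf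 xf13 yf17 zf26) (kf xf14 yf6 zf8) (kf xf11 yf6 zf8) (kf xf14 yf0 zf16) (kf xf11 yf6 zf9) (kf xf14 yf0 zf18) (kf xf11 yf6 zf10) (kf xf14 yf7 zf11) (kf xf14 yf7 zf14) (kf xf13 yf12 zf9) (kf xf13 yf18 zf4) (kf xf14 yf0 zf1)) (@D3.rec (fun _ => Pt) (kf xf13 yf18 zf6) (kf xf13 yf5 zf25) (kf xf14 yf7 zf23) (kf xf14 yf0 zf12) (kf xf11 yf6 zf29) (kf xf13 yf5 zf22) (kf xf11 yf6 zf30) (kf xf14 yf0 zf10) (kf xf11 yf6 zf31) (kf xf11 yf6 zf32) (kf xf14 yf7 zf34) (kf xf11 yf6 zf34) (kf xf13 yf8 zf30) (kf xf11 yf6 zf24) (kf xf14 yf7 zf40) (kf xf11 yf6 zf37) (kf xf13 yf18 zf24) (kf xf11 yf6 zf27) (kf xf14 yf7 zf45) (kf xf14 yf7 zf27) (kf xf14 yf7 zf29) (kf xf14 yf7 zf32) (kf xf11 yf6 zf33) (kf xf14 yf7 zf50) (kf xf14 yf7 zf36) (kf xf11 yf6 zf46) (kf xf11 yf6 zf36) (kf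 xf14 yf8 zf3) (kf xf14 yf7 zf42) (kf xf11 yf6 zf50) (kf xf11 yf7 zf0) (kf xf11 yf6 zf40) (kf xf13 yf14 zf44) (kf xf13 yf18 zf44) (kf xf11 yf6 zf44) (kf xf14 yf8 zf10) (kf xf13 yf18 zf46) (kf xf14 yf8 zf2) (kf xf11 yf6 zf48) (kf xf13 yf26 zf49) (kf xf14 yf8 zf16) (kf xf14 yf8 zf6) (kf xf14 yf8 zf7) (kf xf11 yf7 zf4) (kf xf13 yf5 zf28) (kf xf11 yf7 zf42) (kf xf11 yf7 zf18) (kf xf11 yf7 zf19) (kf xf11 yf7 zf20) (kf xf11 yf13 zf43) (kf xf11 yf13 zf44)) (@D3.rec (fun _ => Pt) (kf xf11 yf7 zf21) (kf xf11 yf13 zf46) (kf xf11 yf13 zf47) (kf xf11 yf13 zf48) (kf xf11 yf7 zf22) (kf xf14 yf8 zf18) (kf xf14 yf8 zf19) (kf xf14 yf8 zf20) (kf xf14 yf8 zf23) (kf xf14 yf8 zf32) (kf xf13 yf6 zf19) (kf xf13 yf5 zf29) (kf xf13 yf15 zf29) (kf xf11 yf7 zf25) (kf xf11 yf7 zf39)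 (kf xf11 yf9 zf17) (kf xf11 yf7 zf40) (kf xf11 yf14 zf8) (kf xf11 yf7 zf41) (kf xf11 yf9 zf15) (kf xf11 yf14 zf10) (kf xf14 yf8 zf34) (kf xf14 yf7 zf7) (kf xf14 yf8 zf17) (kf xf13 yf3 zf34) (kf xf12 yf23 zf25) (kf xf12 yf23 zf26) (kf xf14 yf1 zf34) (kf xf11 yf8 zf2) (kf xf14 yf1 zf36) (kf xf11 yf8 zf3) (kf xf14 yf8 zf39) (kf xf13 yf20 zf33) (kf xf11 yf15 zf48) (kf xf12 yf23 zf34) (kf xf12 yf23 zf35) (kf xf13 yf20 zf40) (kf xf11 yf8 zf13) (kf xf11 yf8 zf10) (kf xf14 yf8 zf47) (kf xf11 yf8 zf16) (kf xf13 yf21 zf20) (kf xf14 yf8 zf46) (kf xf11 yf8 zf15) (kf xf14 yf8 zf50) (kf xf12 yf23 zf45) (kf xf14 yf9 zf2) (kf xf12 yf23 zf47) (kf xf11 yf8 zf29) (kf xf14 yf9 zf8) (kf xf11 yf8 zf31)) (@D3.rec (fun _ => Pt) (kf xf11 yf8 zf21) (kf xf14 yf9 zf12) (kf xf11 yf8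 zf34) (kf xf14 yf9 zf15) (kf xf11 yf8 zf36) (kf xf14 yf9 zf18) (kf xf11 yf8 zf24) (kf xf14 yf9 zf20) (kf xf11 yf8 zf39) (kf xf11 yf8 zf27) (kf xf14 yf9 zf22) (kf xf14 yf9 zf24) (kf xf14 yf9 zf6) (kf xf11 yf8 zf30) (kf xf14 yf9 zf27) (kf xf14 yf9 zf10) (kf xf12 yf24 zf16) (kf xf11 yf8 zf33) (kf xf14 yf9 zf30) (kf xf11 yf8 zf35) (kf xf14 yf9 zf31) (kf xf14 yf9 zf17) (kf xf11 yf8 zf38) (kf xf14 yf9 zf33) (kf xf11 yf8 zf41) (kf xf13 yf8 zf27) (kf xf13 yf21 zf39) (kf xf12 yf24 zf27) (kf xf12 yf24 zf28) (kf xf11 yf9 zf8) (kf xf12 yf24 zf30) (kf xf12 yf24 zf31) (kf xf11 yf9 zf9) (kf xf12 yf24 zf33) (kf xf12 yf24 zf34) (kf xf12 yf24 zf35) (kf xf13 yf23 zf2) (kf xf11 yf9 zf16) (kf xf13 yf26 zf6) (kf xf11 yf15 zf49) (kf xf14 yf0 zf50) (kf xf11 yf15 zf50) (kf xf14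 yf1 zf1) (kf xf11 yf9 zf26) (kf xf14 yf1 zf3) (kf xf11 yf9 zf27) (kf xf14 yf9 zf44) (kf xf12 yf24 zf47) (kf xf14 yf9 zf48) (kf xf12 yf24 zf49) (kf xf11 yf9 zf38)) (@D3.rec (fun _ => Pt) (kf xf13 yf10 zf1) (kf xf11 yf9 zf39) (kf xf14 yf1 zf6) (kf xf11 yf9 zf40) (kf xf11 yf9 zf41) (kf xf14 yf1 zf9) (kf xf11 yf9 zf42) (kf xf13 yf9 zf44) (kf xf14 yf1 zf11) (kf xf11 yf9 zf43) (kf xf14 yf1 zf13) (kf xf13 yf26 zf23) (kf xf14 yf10 zf1) (kf xf14 yf10 zf3) (kf xf14 yf10 zf6) (kf xf14 yf10 zf9) (kf xf13 yf9 zf35) (kf xf12 yf25 zf17) (kf xf11 yf10 zf7) (kf xf11 yf12 zf13) (kf xf11 yf10 zf8) (kf xf11 yf14 zf39) (kf xf11 yf14 zf40) (kf xf11 yf14 zf42) (kf xf11 yf14 zf43) (kf xf13 yf26 zf24) (kf xf11 yf16 zf0) (kf xf14 yf3 zf7) (kf xf11 yf16 zf1) (kf xf14 yf3 zf9) (kf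 xf11 yf16 zf2) (kf xf12 yf25 zf31) (kf xf14 yf10 zf29) (kf xf12 yf25 zf33) (kf xf11 yf10 zf24) (kf xf14 yf2 zf50) (kf xf11 yf10 zf26) (kf xf14 yf3 zf1) (kf xf11 yf10 zf28) (kf xf11 yf10 zf29) (kf xf14 yf10 zf41) (kf xf11 yf10 zf31) (kf xf14 yf10 zf44) (kf xf11 yf10 zf19) (kf xf14 yf10 zf48) (kf xf11 yf10 zf34) (kf xf13 yf23 zf27) (kf xf11 yf10 zf22) (kf xf14 yf11 zf1) (kf xf13 yf26 zf25) (kf xf14 yf2 zf49)) (@D3.rec (fun _ => Pt) (kf xf14 yf10 zf33) (kf xf14 yf3 zf0) (kf xf14 yf10 zf36) (kf xf14 yf3 zf2) (kf xf14 yf10 zf39) (kf xf11 yf10 zf30) (kf xf14 yf11 zf8) (kf xf14 yf10 zf43) (kf xf11 yf10 zf41) (kf xf11 yf10 zf33) (kf xf14 yf11 zf12) (kf xf11 yf10 zf44) (kf xf11 yf10 zf45) (kf xf11 yf10 zf37) (kf xf13 yf10 zf27) (kf xf14 yf4 zf36) (kf xf14 yf11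 zf10) (kf xf14 yf11 zf11) (kf xf11 yf10 zf43) (kf xf14 yf11 zf19) (kf xf14 yf11 zf14) (kf xf14 yf11 zf15) (kf xf14 yf11 zf21) (kf xf12 yf26 zf23) (kf xf11 yf10 zf48) (kf xf14 yf11 zf25) (kf xf12 yf26 zf26) (kf xf14 yf11 zf27) (kf xf11 yf11 zf17) (kf xf13 yf8 zf32) (kf xf11 yf11 zf0) (kf xf14 yf11 zf31) (kf xf11 yf11 zf20) (kf xf14 yf11 zf24) (kf xf11 yf11 zf3) (kf xf14 yf11 zf36) (kf xf14 yf11 zf38) (kf xf11 yf11 zf25) (kf xf14 yf11 zf41) (kf xf11 yf11 zf6) (kf xf14 yf11 zf44) (kf xf11 yf11 zf28) (kf xf11 yf11 zf8) (kf xf14 yf11 zf48) (kf xf14 yf11 zf49) (kf xf13 yf24 zf27) (kf xf11 yf11 zf10) (kf xf14 yf12 zf3) (kf xf11 yf11 zf32) (kf xf13 yf24 zf31) (kf xf13 yf24 zf32))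
def f_f_13 : D2 → D3 → Pt := @D2.rec (fun _ => D3 → Pt) (@D3.rec (fun _ => Pt) (kf xf11 yf11 zf14) (kf xf14 yf12 zf8) (kf xf14 yf12 zf10) (kf xf13 yf26 zf26) (kf xf11 yf11 zf16) (kf xf14 yf12 zf13) (kf xf14 yf11 zf29) (kf xf11 yf11 zf19) (kf xf14 yf12 zf15) (kf xf14 yf11 zf33) (kf xf13 yf0 zf10) (kf xf13 yf0 zf11) (kf xf11 yf11 zf23) (kf xf11 yf11 zf24) (kf xf14 yf12 zf20) (kf xf14 yf11 zf40) (kf xf11 yf11 zf38) (kf xf11 yf11 zf27) (kf xf14 yf12 zf23) (kf xf14 yf11 zf46) (kf xf11 yf11 zf42) (kf xf11 yf11 zf43) (kf xf11 yf11 zf31) (kf xf14 yf12 zf27) (kf xf14 yf12 zf29) (kf xf11 yf11 zf47) (kf xf11 yf11 zf48) (kf xf14 yf3 zf30) (kf xf14 yf10 zf20) (kf xf14 yf12 zf22) (kf xf11 yf11 zf40) (kf xf14 yf12 zf33) (kf xf14 yf12 zf25) (kf xf14 yf12 zf26) (kf xf11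 yf11 zf45) (kf xf14 yf2 zf24) (kf xf14 yf12 zf30) (kf xf13 yf0 zf37) (kf xf11 yf12 zf14) (kf xf11 yf12 zf12) (kf xf11 yf15 zf43) (kf xf11 yf15 zf44) (kf xf14 yf12 zf38) (kf xf14 yf12 zf39) (kf xf11 yf12 zf15) (kf xf11 yf16 zf7) (kf xf11 yf16 zf8) (kf xf11 yf16 zf9) (kf xf11 yf15 zf46) (kf xf11 yf15 zf31) (kf xf13 yf0 zf50)) (@D3.rec (fun _ => Pt) (kf xf11 yf16 zf10) (kf xf13 yf1 zf1) (kf xf11 yf16 zf11) (kf xf11 yf15 zf34) (kf xf13 yf1 zf4) (kf xf11 yf16 zf12) (kf xf13 yf1 zf6) (kf xf13 yf1 zf7) (kf xf11 yf16 zf13) (kf xf13 yf1 zf9) (kf xf13 yf1 zf10) (kf xf11 yf12 zf44) (kf xf13 yf1 zf12) (kf xf13 yf1 zf13) (kf xf11 yf12 zf45) (kf xf13 yf1 zf15) (kf xf13 yf1 zf16) (kf xf13 yf1 zf17) (kf xf13 yf1 zf18) (kf xf13 yf26 zf27) (kf xf13 yf1 zf20) (kf xf11 yf12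 zf48) (kf xf11 yf12 zf49) (kf xf14 yf5 zf16) (kf xf11 yf13 zf20) (kf xf13 yf1 zf25) (kf xf13 yf1 zf26) (kf xf13 yf12 zf48) (kf xf11 yf13 zf7) (kf xf11 yf13 zf14) (kf xf11 yf13 zf16) (kf xf13 yf3 zf31) (kf xf13 yf11 zf31) (kf xf13 yf3 zf26) (kf xf13 yf1 zf34) (kf xf14 yf13 zf10) (kf xf11 yf13 zf28) (kf xf11 yf13 zf39) (kf xf11 yf13 zf34) (kf xf13 yf12 zf26) (kf xf13 yf13 zf1) (kf xf13 yf16 zf27) (kf xf14 yf8 zf21) (kf xf14 yf8 zf22) (kf xf14 yf8 zf24) (kf xf14 yf8 zf25) (kf xf14 yf8 zf26) (kf xf13 yf9 zf3) (kf xf13 yf3 zf41) (kf xf14 yf13 zf15) (kf xf11 yf14 zf1)) (@D3.rec (fun _ => Pt) (kf xf14 yf13 zf16) (kf xf11 yf14 zf14) (kf xf14 yf8 zf35) (kf xf11 yf14 zf16) (kf xf11 yf14 zf17) (kf xf13 yf4 zf1) (kf xf13 yf19 zf37) (kf xf13 yf3 zf42) (kf xf14 yf13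 zf17) (kf xf11 yf14 zf15) (kf xf11 yf14 zf18) (kf xf11 yf14 zf31) (kf xf11 yf14 zf32) (kf xf11 yf14 zf33) (kf xf11 yf14 zf46) (kf xf13 yf3 zf45) (kf xf11 yf15 zf20) (kf xf14 yf13 zf20) (kf xf14 yf13 zf21) (kf xf14 yf13 zf24) (kf xf14 yf10 zf17) (kf xf14 yf10 zf18) (kf xf14 yf10 zf19) (kf xf14 yf13 zf27) (kf xf14 yf13 zf28) (kf xf11 yf14 zf47) (kf xf11 yf14 zf49) (kf xf13 yf2 zf27) (kf xf11 yf15 zf0) (kf xf14 yf13 zf30) (kf xf13 yf2 zf30) (kf xf11 yf15 zf3) (kf xf11 yf15 zf4) (kf xf14 yf13 zf34) (kf xf14 yf13 zf35) (kf xf13 yf2 zf35) (kf xf11 yf15 zf7) (kf xf14 yf13 zf39) (kf xf14 yf13 zf42) (kf xf13 yf2 zf39) (kf xf11 yf15 zf11) (kf xf14 yf13 zf43) (kf xf11 yf15 zf12) (kf xf11 yf15 zf14) (kf xf11 yf15 zf16) (kf xf14 yf13 zf45) (kf xf11 yf15 zf19) (kf xf14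 yf13 zf46) (kf xf11 yf15 zf35) (kf xf11 yf15 zf23) (kf xf14 yf13 zf48)) (@D3.rec (fun _ => Pt) (kf xf11 yf15 zf38) (kf xf11 yf15 zf39) (kf xf11 yf15 zf27) (kf xf14 yf14 zf1) (kf xf11 yf15 zf28) (kf xf14 yf12 zf42) (kf xf11 yf15 zf33) (kf xf14 yf12 zf47) (kf xf14 yf13 zf47) (kf xf11 yf15 zf37) (kf xf14 yf2 zf48) (kf xf14 yf13 zf50) (kf xf14 yf12 zf37) (kf xf14 yf8 zf42) (kf xf14 yf9 zf40) (kf xf14 yf9 zf42) (kf xf14 yf10 zf22) (kf xf14 yf10 zf25) (kf xf11 yf16 zf5) (kf xf13 yf15 zf36) (kf xf14 yf12 zf40) (kf xf14 yf12 zf45) (kf xf14 yf12 zf50) (kf xf14 yf13 zf3) (kf xf13 yf3 zf24) (kf xf11 yf16 zf16) (kf xf13 yf1 zf33) (kf xf11 yf16 zf30) (kf xf12 yf21 zf33) (kf xf11 yf16 zf39) (kf xf11 yf16 zf40) (kf xf13 yf1 zf31) (kf xf12 yf15 zf0) (kf xf12 yf0 zf32)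 (kf xf12 yf23 zf24) (kf xf11 yf16 zf32) (kf xf11 yf16 zf36) (kf xf11 yf16 zf37) (kf xf11 yf16 zf35) (kf xf14 yf14 zf10) (kf xf14 yf14 zf11) (kf xf13 yf1 zf48) (kf xf13 yf2 zf7) (kf xf11 yf16 zf42) (kf xf13 yf3 zf44) (kf xf13 yf2 zf15) (kf xf11 yf17 zf1) (kf xf11 yf17 zf2) (kf xf12 yf14 zf46) (kf xf12 yf14 zf47) (kf xf12 yf14 zf48)) (@D3.rec (fun _ => Pt) (kf xf14 yf14 zf14) (kf xf13 yf2 zf5) (kf xf13 yf4 zf2) (kf xf11 yf25 zf47) (kf xf12 yf13 zf9) (kf xf11 yf26 zf29) (kf xf12 yf13 zf16) (kf xf11 yf26 zf7) (kf xf11 yf17 zf33) (kf xf11 yf26 zf9) (kf xf12 yf13 zf10) (kf xf12 yf19 zf21) (kf xf11 yf26 zf14) (kf xf12 yf13 zf11) (kf xf12 yf13 zf13) (kf xf13 yf4 zf15) (kf xf11 yf17 zf27) (kf xf12 yf19 zf50) (kf xf12 yf19 zf40) (kf xf12 yf13 zf14) (kf xf14 yf14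 zf23) (kf xf12 yf13 zf22) (kf xf11 yf26 zf3) (kf xf11 yf17 zf36) (kf xf14 yf14 zf30) (kf xf11 yf26 zf16) (kf xf11 yf17 zf40) (kf xf14 yf14 zf32) (kf xf11 yf17 zf46) (kf xf11 yf17 zf47) (kf xf14 yf14 zf36) (kf xf14 yf14 zf35) (kf xf11 yf26 zf23) (kf xf12 yf3 zf23) (kf xf12 yf3 zf25) (kf xf12 yf13 zf29) (kf xf11 yf18 zf4) (kf xf11 yf18 zf5) (kf xf11 yf18 zf6) (kf xf14 yf14 zf44) (kf xf11 yf18 zf8) (kf xf14 yf14 zf47) (kf xf14 yf14 zf41) (kf xf12 yf4 zf44) (kf xf14 yf15 zf2) (kf xf14 yf14 zf43) (kf xf11 yf18 zf7) (kf xf14 yf15 zf5) (kf xf14 yf14 zf46) (kf xf11 yf26 zf1) (kf xf12 yf3 zf43)) (@D3.rec (fun _ => Pt) (kf xf11 yf26 zf36) (kf xf12 yf3 zf45) (kf xf12 yf13 zf33) (kf xf12 yf3 zf47) (kf xf11 yf18 zf14) (kf xf14 yf15 zf12) (kf xf11 yf18 zf17) (kf xf14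 yf15 zf13) (kf xf12 yf4 zf2) (kf xf11 yf18 zf24) (kf xf12 yf3 zf27) (kf xf12 yf4 zf45) (kf xf11 yf26 zf2) (kf xf11 yf25 zf19) (kf xf12 yf4 zf3) (kf xf11 yf25 zf7) (kf xf11 yf18 zf35) (kf xf11 yf18 zf36) (kf xf14 yf15 zf19) (kf xf12 yf1 zf14) (kf xf12 yf13 zf38) (kf xf12 yf1 zf19) (kf xf12 yf22 zf5) (kf xf11 yf18 zf44) (kf xf14 yf15 zf24) (kf xf12 yf22 zf1) (kf xf11 yf18 zf46) (kf xf14 yf15 zf26) (kf xf12 yf22 zf44) (kf xf12 yf23 zf11) (kf xf11 yf22 zf11) (kf xf11 yf22 zf12) (kf xf11 yf19 zf6) (kf xf11 yf19 zf7) (kf xf14 yf15 zf30) (kf xf11 yf19 zf9) (kf xf14 yf15 zf29) (kf xf11 yf19 zf8) (kf xf14 yf15 zf35) (kf xf14 yf15 zf32) (kf xf14 yf15 zf34) (kf xf11 yf19 zf11) (kf xf14 yf15 zf38) (kf xf12 yf21 zf24) (kf xf11 yf19 zf18) (kf xf12 yf21 zf22) (kf xf11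 yf19 zf19) (kf xf11 yf19 zf16) (kf xf14 yf15 zf45) (kf xf11 yf19 zf22) (kf xf14 yf15 zf41)) (@D3.rec (fun _ => Pt) (kf xf14 yf15 zf43) (kf xf11 yf19 zf27) (kf xf11 yf19 zf21) (kf xf14 yf15 zf49) (kf xf12 yf14 zf26) (kf xf12 yf21 zf20) (kf xf11 yf19 zf25) (kf xf14 yf16 zf1) (kf xf14 yf15 zf47) (kf xf14 yf15 zf48) (kf xf11 yf19 zf29) (kf xf14 yf16 zf4) (kf xf11 yf19 zf33) (kf xf11 yf19 zf34) (kf xf11 yf19 zf32) (kf xf14 yf16 zf8) (kf xf14 yf16 zf6) (kf xf14 yf16 zf7) (kf xf11 yf19 zf36) (kf xf12 yf23 zf10) (kf xf13 yf6 zf20) (kf xf13 yf6 zf21) (kf xf13 yf6 zf22) (kf xf13 yf6 zf23) (kf xf11 yf19 zf46) (kf xf11 yf19 zf47) (kf xf11 yf19 zf48) (kf xf14 yf16 zf24) (kf xf11 yf19 zf50) (kf xf14 yf16 zf19) (kf xf14 yf16 zf28) (kf xf14 yf16 zf21) (kf xf14 yf16 zf23)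 (kf xf11 yf19 zf49) (kf xf14 yf16 zf32) (kf xf14 yf16 zf26) (kf xf12 yf11 zf18) (kf xf12 yf8 zf40) (kf xf13 yf6 zf38) (kf xf13 yf6 zf39) (kf xf11 yf20 zf9) (kf xf14 yf16 zf40) (kf xf11 yf20 zf11) (kf xf11 yf20 zf12) (kf xf14 yf16 zf46) (kf xf11 yf20 zf14) (kf xf11 yf20 zf7) (kf xf14 yf16 zf49) (kf xf11 yf20 zf17) (kf xf14 yf17 zf0) (kf xf14 yf16 zf39)) (@D3.rec (fun _ => Pt) (kf xf11 yf20 zf10) (kf xf14 yf17 zf4) (kf xf14 yf16 zf42) (kf xf14 yf16 zf44) (kf xf11 yf20 zf13) (kf xf14 yf17 zf7) (kf xf14 yf16 zf48) (kf xf11 yf20 zf16) (kf xf14 yf17 zf10) (kf xf12 yf15 zf23) (kf xf12 yf9 zf13) (kf xf12 yf15 zf24) (kf xf12 yf9 zf14) (kf xf13 yf7 zf13) (kf xf11 yf20 zf23) (kf xf14 yf17 zf17) (kf xf11 yf20 zf26) (kf xf14 yf17 zf19) (kf xf12 yf9 zf20) (kf xf11 yf20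 zf36) (kf xf11 yf20 zf37) (kf xf13 yf7 zf21) (kf xf11 yf20 zf38) (kf xf13 yf7 zf23) (kf xf13 yf7 zf24) (kf xf11 yf20 zf39) (kf xf13 yf7 zf26) (kf xf14 yf17 zf22) (kf xf14 yf17 zf25) (kf xf14 yf17 zf29) (kf xf12 yf15 zf34) (kf xf12 yf15 zf35) (kf xf14 yf17 zf21) (kf xf11 yf20 zf50) (kf xf13 yf7 zf34) (kf xf11 yf21 zf0) (kf xf13 yf7 zf36) (kf xf11 yf21 zf1) (kf xf12 yf2 zf42) (kf xf14 yf17 zf34) (kf xf12 yf0 zf31) (kf xf11 yf21 zf7) (kf xf11 yf21 zf8) (kf xf11 yf21 zf9) (kf xf14 yf17 zf35) (kf xf14 yf17 zf36) (kf xf14 yf17 zf38) (kf xf12 yf7 zf36) (kf xf13 yf7 zf48) (kf xf11 yf21 zf15) (kf xf11 yf21 zf16)) (@D3.rec (fun _ => Pt) (kf xf11 yf21 zf17) (kf xf14 yf17 zf48) (kf xf11 yf21 zf19) (kf xf14 yf17 zf43) (kf xf14 yf17 zf45) (kf xf14 yf17 zf47) (kf xf11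 yf21 zf18) (kf xf14 yf18 zf3) (kf xf14 yf17 zf50) (kf xf12 yf7 zf12) (kf xf12 yf6 zf43) (kf xf11 yf21 zf24) (kf xf14 yf18 zf7) (kf xf12 yf6 zf48) (kf xf13 yf8 zf14) (kf xf13 yf8 zf15) (kf xf11 yf21 zf32) (kf xf11 yf21 zf33) (kf xf11 yf21 zf34) (kf xf14 yf18 zf15) (kf xf11 yf21 zf36) (kf xf14 yf18 zf12) (kf xf14 yf18 zf14) (kf xf11 yf21 zf35) (kf xf14 yf18 zf20) (kf xf14 yf18 zf17) (kf xf12 yf16 zf7) (kf xf12 yf24 zf25) (kf xf13 yf8 zf28) (kf xf13 yf8 zf29) (kf xf12 yf22 zf12) (kf xf11 yf21 zf46) (kf xf12 yf26 zf29) (kf xf11 yf21 zf47) (kf xf11 yf21 zf44) (kf xf14 yf18 zf31) (kf xf11 yf21 zf50) (kf xf14 yf18 zf27) (kf xf14 yf18 zf29) (kf xf11 yf22 zf1) (kf xf11 yf21 zf49) (kf xf14 yf18 zf36) (kf xf12 yf16 zf33) (kf xf14 yf18 zf34) (kf xf14 yf18 zf35) (kf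 xf11 yf22 zf3) (kf xf14 yf18 zf40) (kf xf11 yf22 zf7) (kf xf11 yf22 zf8) (kf xf11 yf22 zf6) (kf xf14 yf18 zf43)) (@D3.rec (fun _ => Pt) (kf xf14 yf18 zf41) (kf xf14 yf18 zf42) (kf xf11 yf22 zf10) (kf xf13 yf1 zf47) (kf xf11 yf22 zf16) (kf xf14 yf18 zf46) (kf xf13 yf9 zf6) (kf xf13 yf9 zf7) (kf xf13 yf9 zf8) (kf xf14 yf19 zf2) (kf xf13 yf9 zf10) (kf xf13 yf9 zf11) (kf xf13 yf9 zf12) (kf xf11 yf22 zf27) (kf xf14 yf19 zf10) (kf xf11 yf22 zf29) (kf xf11 yf22 zf30) (kf xf14 yf19 zf16) (kf xf11 yf22 zf32) (kf xf11 yf22 zf25) (kf xf14 yf19 zf20) (kf xf11 yf22 zf35) (kf xf14 yf19 zf7) (kf xf14 yf19 zf9) (kf xf11 yf22 zf28) (kf xf14 yf19 zf25) (kf xf14 yf19 zf12) (kf xf14 yf19 zf14) (kf xf11 yf22 zf31) (kf xf14 yf19 zf28) (kf xf14 yf19 zf18) (kf xf11 yf22 zf39)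 (kf xf11 yf22 zf34) (kf xf14 yf19 zf33) (kf xf12 yf17 zf33) (kf xf12 yf25 zf16) (kf xf12 yf17 zf35) (kf xf14 yf19 zf31) (kf xf14 yf19 zf32) (kf xf11 yf22 zf41) (kf xf14 yf19 zf39) (kf xf14 yf19 zf41) (kf xf13 yf9 zf42) (kf xf11 yf23 zf2) (kf xf12 yf25 zf7) (kf xf11 yf23 zf3) (kf xf11 yf22 zf45) (kf xf14 yf19 zf50) (kf xf11 yf23 zf6) (kf xf11 yf23 zf7) (kf xf14 yf20 zf4)) (@D3.rec (fun _ => Pt) (kf xf11 yf23 zf9) (kf xf12 yf25 zf0) (kf xf11 yf22 zf48) (kf xf14 yf20 zf10) (kf xf11 yf23 zf12) (kf xf12 yf18 zf4) (kf xf11 yf23 zf0) (kf xf14 yf20 zf15) (kf xf14 yf19 zf44) (kf xf14 yf19 zf46) (kf xf14 yf19 zf48) (kf xf13 yf10 zf11) (kf xf11 yf23 zf5) (kf xf14 yf20 zf22) (kf xf14 yf20 zf2) (kf xf11 yf23 zf8) (kf xf14 yf20 zf25) (kf xf14 yf20 zf6) (kf xf11 yf23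 zf19) (kf xf11 yf23 zf11) (kf xf14 yf20 zf30) (kf xf14 yf20 zf12) (kf xf11 yf23 zf23) (kf xf11 yf23 zf24) (kf xf11 yf23 zf15) (kf xf14 yf20 zf34) (kf xf12 yf18 zf28) (kf xf12 yf26 zf14) (kf xf12 yf18 zf32) (kf xf14 yf20 zf28) (kf xf14 yf20 zf29) (kf xf11 yf23 zf21) (kf xf14 yf20 zf40) (kf xf14 yf20 zf32) (kf xf14 yf20 zf33) (kf xf11 yf23 zf26) (kf xf14 yf20 zf36) (kf xf13 yf10 zf37) (kf xf13 yf10 zf38) (kf xf11 yf23 zf29) (kf xf14 yf20 zf46) (kf xf11 yf23 zf34) (kf xf11 yf23 zf35) (kf xf11 yf23 zf33) (kf xf14 yf20 zf50) (kf xf14 yf20 zf48) (kf xf14 yf20 zf49) (kf xf11 yf23 zf37) (kf xf12 yf15 zf36) (kf xf11 yf23 zf49) (kf xf11 yf23 zf50)) (@D3.rec (fun _ => Pt) (kf xf11 yf24 zf0) (kf xf12 yf15 zf28) (kf xf11 yf24 zf1) (kf xf12 yf15 zf16) (kf xf12 yf15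 zf29) (kf xf11 yf24 zf2) (kf xf12 yf13 zf7) (kf xf12 yf15 zf17) (kf xf12 yf15 zf30) (kf xf11 yf24 zf3) (kf xf14 yf21 zf4) (kf xf14 yf21 zf5) (kf xf14 yf21 zf6) (kf xf14 yf21 zf9) (kf xf14 yf21 zf13) (kf xf14 yf21 zf22) (kf xf12 yf8 zf0) (kf xf11 yf24 zf6) (kf xf11 yf24 zf16) (kf xf11 yf24 zf17) (kf xf11 yf24 zf18) (kf xf12 yf15 zf40) (kf xf11 yf24 zf19) (kf xf12 yf15 zf41) (kf xf11 yf24 zf20) (kf xf14 yf21 zf24) (kf xf14 yf21 zf25) (kf xf12 yf0 zf33) (kf xf11 yf24 zf23) (kf xf13 yf11 zf29) (kf xf12 yf20 zf8) (kf xf13 yf1 zf32) (kf xf13 yf11 zf32) (kf xf13 yf11 zf33) (kf xf11 yf25 zf43) (kf xf11 yf25 zf44) (kf xf11 yf25 zf45) (kf xf12 yf13 zf12) (kf xf11 yf25 zf39) (kf xf11 yf25 zf40) (kf xf11 yf26 zf42) (kf xf12 yf13 zf18) (kf xf12 yf19 zf17) (kf xf11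 yf24 zf46) (kf xf11 yf24 zf47) (kf xf11 yf24 zf48) (kf xf14 yf15 zf17) (kf xf14 yf21 zf33) (kf xf12 yf19 zf19) (kf xf12 yf19 zf42) (kf xf12 yf19 zf20)) (@D3.rec (fun _ => Pt) (kf xf12 yf20 zf3) (kf xf12 yf19 zf22) (kf xf12 yf19 zf45) (kf xf11 yf26 zf25) (kf xf12 yf19 zf23) (kf xf11 yf25 zf13) (kf xf14 yf21 zf42) (kf xf12 yf19 zf24) (kf xf11 yf25 zf20) (kf xf12 yf21 zf48) (kf xf14 yf21 zf44) (kf xf11 yf26 zf38) (kf xf12 yf19 zf27) (kf xf11 yf25 zf24) (kf xf14 yf21 zf48) (kf xf11 yf25 zf29) (kf xf14 yf21 zf50) (kf xf12 yf0 zf4) (kf xf12 yf19 zf29) (kf xf11 yf26 zf17) (kf xf12 yf19 zf18) (kf xf14 yf21 zf29) (kf xf11 yf26 zf37) (kf xf12 yf19 zf26) (kf xf12 yf19 zf28) (kf xf12 yf2 zf5) (kf xf13 yf1 zf39) (kf xf11 yf26 zf34) (kf xf14 yf21 zf27) (kf xf11 yf26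 zf26) (kf xf11 yf26 zf47) (kf xf12 yf19 zf30) (kf xf14 yf14 zf18) (kf xf12 yf19 zf31) (kf xf11 yf26 zf5) (kf xf14 yf15 zf7) (kf xf14 yf14 zf29) (kf xf11 yf26 zf4) (kf xf14 yf22 zf17) (kf xf14 yf22 zf14) (kf xf11 yf26 zf39) (kf xf14 yf14 zf22) (kf xf12 yf19 zf34) (kf xf14 yf14 zf24) (kf xf11 yf26 zf12) (kf xf14 yf22 zf23) (kf xf14 yf14 zf25) (kf xf12 yf0 zf1) (kf xf13 yf1 zf27) (kf xf11 yf26 zf50) (kf xf12 yf19 zf36)) (@D3.rec (fun _ => Pt) (kf xf11 yf26 zf27) (kf xf13 yf1 zf40) (kf xf14 yf21 zf40) (kf xf14 yf22 zf10) (kf xf14 yf22 zf27) (kf xf12 yf19 zf37) (kf xf14 yf14 zf20) (kf xf12 yf19 zf38) (kf xf11 yf26 zf32) (kf xf14 yf22 zf34) (kf xf14 yf22 zf8) (kf xf11 yf26 zf40) (kf xf14 yf15 zf9) (kf xf14 yf22 zf5) (kf xf14 yf21 zf46) (kf xf14 yf22 zf19) (kf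 xf12 yf19 zf44) (kf xf14 yf21 zf30) (kf xf12 yf19 zf46) (kf xf11 yf26 zf45) (kf xf14 yf22 zf43) (kf xf12 yf19 zf49) (kf xf14 yf22 zf11) (kf xf11 yf26 zf49) (kf xf14 yf22 zf47) (kf xf14 yf22 zf25) (kf xf12 yf0 zf3) (kf xf14 yf22 zf49) (kf xf14 yf22 zf1) (kf xf12 yf20 zf5) (kf xf12 yf20 zf6) (kf xf14 yf22 zf50) (kf xf12 yf6 zf15) (kf xf12 yf6 zf16) (kf xf12 yf0 zf15) (kf xf14 yf23 zf0) (kf xf12 yf0 zf18) (kf xf12 yf0 zf23) (kf xf12 yf6 zf45) (kf xf14 yf14 zf9) (kf xf12 yf21 zf21) (kf xf12 yf0 zf41) (kf xf12 yf0 zf42) (kf xf12 yf0 zf43) (kf xf14 yf23 zf1) (kf xf14 yf23 zf2) (kf xf14 yf23 zf4) (kf xf12 yf13 zf44) (kf xf12 yf0 zf48) (kf xf12 yf0 zf49) (kf xf12 yf0 zf50)) (@D3.rec (fun _ => Pt) (kf xf14 yf23 zf7) (kf xf14 yf23 zf8) (kf xf14 yf23 zf9) (kf xf14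 yf23 zf14) (kf xf14 yf23 zf11) (kf xf12 yf5 zf19) (kf xf12 yf14 zf25) (kf xf12 yf20 zf12) (kf xf12 yf2 zf49) (kf xf12 yf1 zf7) (kf xf12 yf1 zf8) (kf xf12 yf1 zf9) (kf xf14 yf23 zf25) (kf xf12 yf1 zf11) (kf xf14 yf23 zf22) (kf xf14 yf23 zf24) (kf xf12 yf1 zf10) (kf xf14 yf23 zf30) (kf xf14 yf23 zf27) (kf xf12 yf4 zf39) (kf xf12 yf20 zf21) (kf xf14 yf15 zf21) (kf xf12 yf1 zf17) (kf xf14 yf23 zf35) (kf xf14 yf15 zf22) (kf xf12 yf14 zf44) (kf xf12 yf1 zf24) (kf xf12 yf1 zf25) (kf xf14 yf23 zf37) (kf xf12 yf20 zf29) (kf xf13 yf14 zf30) (kf xf13 yf14 zf31) (kf xf12 yf1 zf32) (kf xf12 yf1 zf33) (kf xf12 yf1 zf34) (kf xf14 yf23 zf47) (kf xf12 yf1 zf36) (kf xf14 yf23 zf43) (kf xf14 yf23 zf44) (kf xf14 yf23 zf46) (kf xf12 yf1 zf35) (kf xf14 yf24 zf3) (kf xf14 yf23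 zf49) (kf xf12 yf20 zf35) (kf xf12 yf22 zf32) (kf xf12 yf20 zf36) (kf xf14 yf24 zf2) (kf xf12 yf1 zf41) (kf xf14 yf24 zf9) (kf xf12 yf14 zf14) (kf xf12 yf14 zf40)) (@D3.rec (fun _ => Pt) (kf xf14 yf23 zf23) (kf xf12 yf1 zf49) (kf xf12 yf1 zf50) (kf xf14 yf23 zf21) (kf xf12 yf2 zf0) (kf xf12 yf1 zf47) (kf xf14 yf24 zf21) (kf xf12 yf2 zf3) (kf xf14 yf24 zf14) (kf xf14 yf24 zf16) (kf xf14 yf24 zf19) (kf xf12 yf2 zf10) (kf xf12 yf2 zf2) (kf xf14 yf24 zf26) (kf xf12 yf21 zf0) (kf xf14 yf22 zf7) (kf xf12 yf21 zf2) (kf xf14 yf23 zf19) (kf xf12 yf2 zf8) (kf xf14 yf24 zf32) (kf xf12 yf21 zf4) (kf xf14 yf24 zf25) (kf xf12 yf2 zf12) (kf xf14 yf24 zf35) (kf xf12 yf2 zf17) (kf xf12 yf2 zf16) (kf xf14 yf24 zf38) (kf xf14 yf24 zf37) (kf xf12 yf2 zf19) (kf xf12 yf23 zf12)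 (kf xf12 yf6 zf14) (kf xf12 yf2 zf29) (kf xf12 yf2 zf30) (kf xf12 yf6 zf38) (kf xf12 yf6 zf44) (kf xf12 yf2 zf31) (kf xf13 yf3 zf19) (kf xf14 yf24 zf41) (kf xf14 yf24 zf44) (kf xf12 yf21 zf11) (kf xf14 yf16 zf11) (kf xf12 yf2 zf44) (kf xf12 yf12 zf18) (kf xf12 yf2 zf45) (kf xf14 yf24 zf47) (kf xf12 yf2 zf50) (kf xf12 yf3 zf0) (kf xf14 yf23 zf20) (kf xf14 yf24 zf49) (kf xf12 yf20 zf37) (kf xf12 yf3 zf5)) (@D3.rec (fun _ => Pt) (kf xf12 yf3 zf6) (kf xf12 yf3 zf7) (kf xf14 yf24 zf20) (kf xf12 yf3 zf8) (kf xf14 yf25 zf1) (kf xf14 yf25 zf2) (kf xf14 yf25 zf4) (kf xf14 yf25 zf6) (kf xf12 yf21 zf1) (kf xf12 yf21 zf3) (kf xf13 yf16 zf10) (kf xf13 yf16 zf11) (kf xf13 yf16 zf12) (kf xf12 yf3 zf17) (kf xf12 yf3 zf18) (kf xf12 yf3 zf19) (kf xf14 yf25 zf23) (kf xf12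 yf3 zf21) (kf xf14 yf25 zf17) (kf xf14 yf25 zf19) (kf xf14 yf25 zf20) (kf xf14 yf25 zf29) (kf xf14 yf25 zf22) (kf xf12 yf3 zf20) (kf xf14 yf25 zf32) (kf xf14 yf25 zf25) (kf xf12 yf21 zf18) (kf xf13 yf1 zf41) (kf xf12 yf21 zf19) (kf xf14 yf14 zf39) (kf xf14 yf14 zf50) (kf xf14 yf15 zf16) (kf xf12 yf3 zf33) (kf xf14 yf25 zf42) (kf xf12 yf3 zf35) (kf xf12 yf3 zf36) (kf xf14 yf25 zf48) (kf xf12 yf3 zf38) (kf xf12 yf3 zf31) (kf xf14 yf26 zf0) (kf xf12 yf3 zf41) (kf xf14 yf25 zf41) (kf xf12 yf3 zf34) (kf xf14 yf26 zf3) (kf xf14 yf25 zf44) (kf xf14 yf25 zf45) (kf xf14 yf25 zf47) (kf xf12 yf3 zf37) (kf xf14 yf26 zf7) (kf xf14 yf25 zf50) (kf xf12 yf3 zf40)) (@D3.rec (fun _ => Pt) (kf xf14 yf26 zf10) (kf xf12 yf21 zf30) (kf xf14 yf15 zf8) (kf xf12 yf21 zf31) (kf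 xf14 yf15 zf10) (kf xf12 yf21 zf32) (kf xf14 yf15 zf11) (kf xf12 yf4 zf14) (kf xf12 yf3 zf49) (kf xf14 yf26 zf19) (kf xf12 yf4 zf1) (kf xf14 yf26 zf20) (kf xf14 yf15 zf15) (kf xf12 yf4 zf11) (kf xf12 yf4 zf12) (kf xf13 yf17 zf15) (kf xf12 yf4 zf13) (kf xf12 yf4 zf15) (kf xf12 yf4 zf16) (kf xf13 yf17 zf19) (kf xf14 yf26 zf22) (kf xf14 yf26 zf23) (kf xf14 yf26 zf18) (kf xf14 yf26 zf25) (kf xf14 yf26 zf26) (kf xf12 yf21 zf38) (kf xf12 yf21 zf39) (kf xf14 yf26 zf30) (kf xf13 yf17 zf28) (kf xf13 yf17 zf29) (kf xf13 yf17 zf30) (kf xf14 yf26 zf38) (kf xf13 yf17 zf32) (kf xf12 yf14 zf31) (kf xf12 yf14 zf35) (kf xf12 yf4 zf29) (kf xf14 yf26 zf45) (kf xf12 yf4 zf31) (kf xf12 yf4 zf32) (kf xf15 yf0 zf0) (kf xf12 yf4 zf34) (kf xf12 yf4 zf27) (kf xf15 yf0 zf4) (kf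 xf12 yf4 zf37) (kf xf14 yf26 zf44) (kf xf12 yf4 zf30) (kf xf15 yf0 zf7) (kf xf14 yf26 zf47) (kf xf14 yf26 zf49) (kf xf12 yf4 zf33) (kf xf15 yf0 zf10)) (@D3.rec (fun _ => Pt) (kf xf15 yf0 zf2) (kf xf12 yf4 zf41) (kf xf12 yf4 zf36) (kf xf15 yf0 zf14) (kf xf12 yf21 zf49) (kf xf14 yf23 zf32) (kf xf12 yf22 zf0) (kf xf15 yf0 zf13) (kf xf12 yf4 zf43) (kf xf15 yf0 zf20) (kf xf15 yf0 zf22) (kf xf14 yf15 zf1) (kf xf15 yf0 zf26) (kf xf12 yf5 zf5) (kf xf12 yf4 zf47) (kf xf15 yf0 zf29) (kf xf12 yf5 zf8) (kf xf12 yf5 zf9) (kf xf15 yf0 zf34) (kf xf12 yf5 zf11) (kf xf15 yf0 zf37) (kf xf12 yf4 zf50) (kf xf15 yf0 zf41) (kf xf12 yf5 zf14) (kf xf12 yf22 zf16) (kf xf12 yf5 zf2) (kf xf15 yf0 zf46) (kf xf12 yf5 zf4) (kf xf15 yf0 zf48) (kf xf15 yf0 zf28) (kf xf12 yf5 zf7) (kf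 xf15 yf1 zf0) (kf xf15 yf0 zf32) (kf xf12 yf5 zf10) (kf xf15 yf1 zf3) (kf xf15 yf0 zf36) (kf xf12 yf5 zf21) (kf xf12 yf5 zf13) (kf xf15 yf1 zf7) (kf xf15 yf0 zf43) (kf xf12 yf5 zf25) (kf xf12 yf5 zf26) (kf xf12 yf5 zf17) (kf xf15 yf1 zf12) (kf xf12 yf22 zf33) (kf xf14 yf23 zf17) (kf xf12 yf22 zf36) (kf xf15 yf1 zf6) (kf xf12 yf5 zf23) (kf xf15 yf1 zf17) (kf xf15 yf1 zf20)) (@D3.rec (fun _ => Pt) (kf xf15 yf1 zf10) (kf xf15 yf1 zf11) (kf xf12 yf5 zf28) (kf xf15 yf1 zf15) (kf xf12 yf5 zf30) (kf xf15 yf1 zf23) (kf xf12 yf5 zf35) (kf xf12 yf5 zf36) (kf xf12 yf5 zf34) (kf xf15 yf1 zf25) (kf xf15 yf1 zf24) (kf xf12 yf5 zf38) (kf xf12 yf6 zf5) (kf xf13 yf19 zf13) (kf xf13 yf19 zf14) (kf xf12 yf5 zf50) (kf xf13 yf19 zf16) (kf xf13 yf19 zf17) (kf xf12 yf6 zf0)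 (kf xf13 yf19 zf19) (kf xf13 yf19 zf20) (kf xf12 yf6 zf1) (kf xf13 yf19 zf22) (kf xf13 yf19 zf23) (kf xf13 yf19 zf24) (kf xf12 yf6 zf2) (kf xf13 yf19 zf26) (kf xf15 yf1 zf32) (kf xf15 yf1 zf35) (kf xf15 yf1 zf39) (kf xf15 yf1 zf45) (kf xf13 yf19 zf31) (kf xf12 yf6 zf13) (kf xf13 yf19 zf33) (kf xf12 yf6 zf20) (kf xf12 yf6 zf19) (kf xf15 yf1 zf47) (kf xf13 yf2 zf6) (kf xf12 yf6 zf27) (kf xf12 yf6 zf28) (kf xf12 yf6 zf29) (kf xf14 yf18 zf30) (kf xf12 yf6 zf30) (kf xf14 yf21 zf10) (kf xf15 yf1 zf49) (kf xf15 yf2 zf0) (kf xf15 yf2 zf2) (kf xf12 yf16 zf32) (kf xf13 yf19 zf48) (kf xf13 yf19 zf49) (kf xf14 yf24 zf17)) (@D3.rec (fun _ => Pt) (kf xf12 yf6 zf39) (kf xf12 yf6 zf36) (kf xf15 yf2 zf11) (kf xf12 yf6 zf42) (kf xf14 yf24 zf42) (kf xf15 yf2 zf10) (kf xf12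 yf6 zf41) (kf xf15 yf2 zf14) (kf xf14 yf18 zf6) (kf xf14 yf24 zf43) (kf xf12 yf6 zf47) (kf xf15 yf2 zf17) (kf xf13 yf20 zf12) (kf xf13 yf20 zf13) (kf xf13 yf20 zf14) (kf xf15 yf2 zf22) (kf xf13 yf20 zf16) (kf xf13 yf20 zf17) (kf xf13 yf20 zf18) (kf xf15 yf2 zf27) (kf xf12 yf7 zf8) (kf xf12 yf7 zf5) (kf xf15 yf2 zf30) (kf xf12 yf7 zf11) (kf xf12 yf7 zf7) (kf xf15 yf2 zf32) (kf xf15 yf2 zf29) (kf xf12 yf7 zf10) (kf xf15 yf2 zf34) (kf xf14 yf18 zf5) (kf xf13 yf20 zf30) (kf xf15 yf2 zf38) (kf xf13 yf20 zf32) (kf xf12 yf23 zf32) (kf xf12 yf7 zf24) (kf xf12 yf7 zf16) (kf xf15 yf2 zf43) (kf xf12 yf7 zf27) (kf xf12 yf16 zf1) (kf xf12 yf7 zf28) (kf xf12 yf23 zf36) (kf xf12 yf7 zf19) (kf xf15 yf2 zf48) (kf xf12 yf7 zf31) (kf xf12 yf8 zf20) (kf xf12 yf7 zf22) (kf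 xf15 yf3 zf1) (kf xf15 yf2 zf42) (kf xf12 yf7 zf26) (kf xf15 yf3 zf3) (kf xf15 yf2 zf46)) (@D3.rec (fun _ => Pt) (kf xf12 yf7 zf30) (kf xf15 yf3 zf5) (kf xf12 yf7 zf37) (kf xf12 yf7 zf38) (kf xf12 yf7 zf34) (kf xf15 yf3 zf8) (kf xf15 yf3 zf6) (kf xf15 yf3 zf7) (kf xf12 yf7 zf40) (kf xf14 yf20 zf37) (kf xf13 yf21 zf10) (kf xf12 yf7 zf43) (kf xf15 yf3 zf13) (kf xf12 yf7 zf48) (kf xf12 yf7 zf49) (kf xf12 yf7 zf47) (kf xf15 yf3 zf16) (kf xf15 yf3 zf14) (kf xf15 yf3 zf15) (kf xf13 yf21 zf19) (kf xf12 yf23 zf41) (kf xf12 yf8 zf12) (kf xf12 yf8 zf13) (kf xf14 yf17 zf46) (kf xf12 yf8 zf14) (kf xf15 yf3 zf21) (kf xf15 yf3 zf23) (kf xf13 yf21 zf27) (kf xf13 yf21 zf28) (kf xf12 yf8 zf22) (kf xf15 yf2 zf50) (kf xf12 yf8 zf23) (kf xf14 yf17 zf37) (kf xf12 yf8 zf24)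 (kf xf15 yf3 zf0) (kf xf12 yf8 zf25) (kf xf15 yf3 zf28) (kf xf15 yf3 zf30) (kf xf15 yf3 zf33) (kf xf12 yf24 zf26) (kf xf13 yf21 zf40) (kf xf13 yf21 zf41) (kf xf13 yf21 zf42) (kf xf15 yf3 zf41) (kf xf13 yf21 zf44) (kf xf13 yf21 zf45) (kf xf13 yf21 zf46) (kf xf15 yf3 zf46) (kf xf12 yf8 zf36) (kf xf12 yf8 zf33) (kf xf15 yf3 zf49)) (@D3.rec (fun _ => Pt) (kf xf12 yf8 zf39) (kf xf12 yf8 zf35) (kf xf15 yf4 zf1) (kf xf15 yf3 zf48) (kf xf12 yf8 zf38) (kf xf15 yf4 zf3) (kf xf14 yf16 zf35) (kf xf13 yf22 zf7) (kf xf15 yf4 zf8) (kf xf13 yf22 zf9) (kf xf15 yf4 zf12) (kf xf12 yf9 zf2) (kf xf12 yf8 zf44) (kf xf15 yf4 zf16) (kf xf12 yf9 zf5) (kf xf14 yf18 zf13) (kf xf12 yf9 zf6) (kf xf15 yf4 zf21) (kf xf12 yf8 zf47) (kf xf15 yf4 zf24) (kf xf12 yf9 zf9) (kf xf12 yf8 zf50)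 (kf xf15 yf4 zf26) (kf xf12 yf9 zf1) (kf xf15 yf4 zf29) (kf xf15 yf4 zf14) (kf xf13 yf22 zf26) (kf xf12 yf9 zf4) (kf xf15 yf4 zf32) (kf xf15 yf4 zf20) (kf xf12 yf9 zf8) (kf xf15 yf4 zf34) (kf xf12 yf9 zf11) (kf xf15 yf4 zf36) (kf xf14 yf17 zf13) (kf xf14 yf17 zf15) (kf xf13 yf22 zf36) (kf xf12 yf9 zf17) (kf xf15 yf4 zf40) (kf xf12 yf9 zf19) (kf xf15 yf4 zf42) (kf xf12 yf13 zf5) (kf xf13 yf22 zf42) (kf xf12 yf12 zf17) (kf xf13 yf22 zf44) (kf xf13 yf22 zf45) (kf xf13 yf22 zf46) (kf xf12 yf9 zf32) (kf xf13 yf22 zf48) (kf xf13 yf22 zf49) (kf xf13 yf22 zf50)) (@D3.rec (fun _ => Pt) (kf xf13 yf23 zf0) (kf xf12 yf17 zf36) (kf xf12 yf24 zf36) (kf xf13 yf23 zf3) (kf xf15 yf5 zf6) (kf xf13 yf23 zf5) (kf xf13 yf23 zf6) (kf xf15 yf5 zf13) (kf xf13 yf23 zf8) (kf xf12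 yf9 zf37) (kf xf15 yf5 zf17) (kf xf13 yf23 zf11) (kf xf13 yf23 zf12) (kf xf15 yf5 zf21) (kf xf13 yf23 zf14) (kf xf12 yf9 zf50) (kf xf15 yf5 zf26) (kf xf12 yf10 zf1) (kf xf12 yf9 zf42) (kf xf15 yf5 zf30) (kf xf12 yf10 zf4) (kf xf14 yf20 zf1) (kf xf12 yf10 zf5) (kf xf15 yf5 zf35) (kf xf12 yf9 zf45) (kf xf15 yf5 zf39) (kf xf12 yf10 zf8) (kf xf12 yf25 zf46) (kf xf12 yf9 zf48) (kf xf15 yf5 zf43) (kf xf15 yf5 zf25) (kf xf12 yf10 zf0) (kf xf15 yf5 zf47) (kf xf15 yf5 zf28) (kf xf13 yf23 zf34) (kf xf12 yf10 zf3) (kf xf15 yf6 zf0) (kf xf15 yf5 zf34) (kf xf12 yf10 zf13) (kf xf12 yf10 zf7) (kf xf15 yf6 zf4) (kf xf12 yf10 zf16) (kf xf12 yf10 zf17) (kf xf12 yf10 zf11) (kf xf15 yf6 zf8) (kf xf15 yf6 zf2) (kf xf15 yf6 zf3) (kf xf12 yf10 zf15) (kf xf14 yf20 zf43) (kf xf15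 yf6 zf6) (kf xf15 yf6 zf7)) (@D3.rec (fun _ => Pt) (kf xf12 yf10 zf19) (kf xf15 yf6 zf14) (kf xf13 yf24 zf2) (kf xf15 yf6 zf19) (kf xf13 yf24 zf4) (kf xf12 yf10 zf21) (kf xf15 yf6 zf23) (kf xf13 yf24 zf7) (kf xf12 yf10 zf39) (kf xf15 yf6 zf28) (kf xf12 yf10 zf41) (kf xf15 yf6 zf31) (kf xf12 yf10 zf24) (kf xf15 yf6 zf35) (kf xf12 yf10 zf44) (kf xf15 yf6 zf22) (kf xf12 yf10 zf27) (kf xf15 yf6 zf40) (kf xf14 yf19 zf13) (kf xf12 yf10 zf48) (kf xf15 yf6 zf44) (kf xf12 yf10 zf30) (kf xf15 yf6 zf47) (kf xf12 yf11 zf0) (kf xf12 yf10 zf32) (kf xf15 yf7 zf0) (kf xf15 yf7 zf1) (kf xf12 yf26 zf45) (kf xf12 yf10 zf34) (kf xf15 yf7 zf6) (kf xf12 yf11 zf4) (kf xf12 yf26 zf49) (kf xf12 yf26 zf50) (kf xf12 yf10 zf38) (kf xf15 yf7 zf11) (kf xf15 yf6 zf26) (kf xf12 yf10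 zf40) (kf xf15 yf7 zf14) (kf xf15 yf6 zf30) (kf xf13 yf24 zf39) (kf xf12 yf10 zf43) (kf xf15 yf7 zf19) (kf xf15 yf6 zf37) (kf xf13 yf24 zf43) (kf xf13 yf24 zf44) (kf xf12 yf10 zf47) (kf xf15 yf7 zf24) (kf xf15 yf6 zf43) (kf xf12 yf11 zf10) (kf xf12 yf10 zf50) (kf xf15 yf7 zf28)) (@D3.rec (fun _ => Pt) (kf xf15 yf6 zf49) (kf xf12 yf11 zf14) (kf xf12 yf11 zf15) (kf xf12 yf11 zf3) (kf xf15 yf7 zf32) (kf xf15 yf7 zf35) (kf xf12 yf11 zf19) (kf xf12 yf11 zf20) (kf xf12 yf11 zf8) (kf xf15 yf7 zf38) (kf xf15 yf7 zf26) (kf xf15 yf7 zf27) (kf xf12 yf11 zf12) (kf xf14 yf19 zf40) (kf xf15 yf7 zf30) (kf xf15 yf7 zf31) (kf xf12 yf11 zf17) (kf xf15 yf6 zf15) (kf xf14 yf16 zf34) (kf xf15 yf7 zf36) (kf xf15 yf7 zf37) (kf xf12 yf11 zf22) (kf xf12 yf18 zf37) (kf xf13 yf25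 zf23) (kf xf13 yf25 zf24) (kf xf12 yf11 zf26) (kf xf15 yf8 zf0) (kf xf12 yf11 zf31) (kf xf12 yf11 zf32) (kf xf12 yf11 zf30) (kf xf15 yf3 zf17) (kf xf15 yf8 zf6) (kf xf15 yf8 zf3) (kf xf15 yf8 zf4) (kf xf12 yf17 zf6) (kf xf13 yf25 zf35) (kf xf12 yf13 zf6) (kf xf12 yf12 zf7) (kf xf13 yf25 zf38) (kf xf12 yf12 zf6) (kf xf13 yf25 zf40) (kf xf13 yf25 zf41) (kf xf13 yf25 zf42) (kf xf12 yf12 zf8) (kf xf13 yf25 zf44) (kf xf12 yf12 zf9) (kf xf13 yf25 zf46) (kf xf12 yf12 zf10) (kf xf13 yf25 zf48) (kf xf13 yf25 zf49) (kf xf13 yf25 zf50)) (@D3.rec (fun _ => Pt) (kf xf15 yf8 zf21) (kf xf13 yf26 zf1) (kf xf15 yf4 zf44) (kf xf15 yf8 zf10) (kf xf14 yf21 zf14) (kf xf12 yf12 zf11) (kf xf12 yf24 zf38) (kf xf13 yf26 zf7) (kf xf13 yf26 zf8) (kf xf13 yf26 zf9) (kf xf13 yf26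 zf10) (kf xf13 yf26 zf11) (kf xf13 yf26 zf12) (kf xf13 yf26 zf13) (kf xf13 yf26 zf14) (kf xf12 yf16 zf49) (kf xf13 yf26 zf16) (kf xf12 yf18 zf7) (kf xf12 yf19 zf5) (kf xf13 yf26 zf19) (kf xf12 yf19 zf16) (kf xf12 yf12 zf44) (kf xf12 yf12 zf45) (kf xf12 yf25 zf11) (kf xf12 yf25 zf25) (kf xf12 yf25 zf49) (kf xf13 yf0 zf3) (kf xf13 yf1 zf19) (kf xf13 yf26 zf28) (kf xf14 yf20 zf7) (kf xf15 yf1 zf50) (kf xf13 yf26 zf31) (kf xf13 yf26 zf32) (kf xf13 yf26 zf33) (kf xf15 yf8 zf38) (kf xf12 yf13 zf3) (kf xf14 yf14 zf19) (kf xf14 yf14 zf26) (kf xf14 yf21 zf28) (kf xf12 yf13 zf17) (kf xf14 yf14 zf21) (kf xf14 yf21 zf31) (kf xf12 yf19 zf25) (kf xf12 yf13 zf21) (kf xf15 yf8 zf40) (kf xf12 yf13 zf24) (kf xf12 yf21 zf14) (kf xf12 yf13 zf27) (kf xf15 yf8 zf43) (kf xf12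 yf22 zf39) (kf xf12 yf21 zf26))
def f_f_14 : D2 → D3 → Pt := @D2.rec (fun _ => D3 → Pt) (@D3.rec (fun _ => Pt) (kf xf12 yf13 zf32) (kf xf12 yf21 zf50) (kf xf12 yf20 zf16) (kf xf12 yf13 zf37) (kf xf15 yf8 zf46) (kf xf12 yf13 zf39) (kf xf15 yf8 zf47) (kf xf12 yf13 zf43) (kf xf12 yf13 zf42) (kf xf15 yf8 zf49) (kf xf12 yf22 zf7) (kf xf12 yf13 zf50) (kf xf12 yf22 zf3) (kf xf12 yf14 zf2) (kf xf15 yf0 zf3) (kf xf12 yf14 zf42) (kf xf12 yf21 zf42) (kf xf12 yf14 zf15) (kf xf12 yf21 zf44) (kf xf12 yf14 zf16) (kf xf15 yf9 zf6) (kf xf12 yf14 zf18) (kf xf15 yf9 zf9) (kf xf12 yf14 zf9) (kf xf15 yf9 zf12) (kf xf12 yf14 zf21) (kf xf14 yf15 zf44) (kf xf12 yf14 zf12) (kf xf15 yf9 zf15) (kf xf14 yf24 zf12) (kf xf15 yf9 zf4) (kf xf12 yf14 zf17) (kf xf15 yf9 zf18) (kf xf15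 yf9 zf8) (kf xf12 yf14 zf27) (kf xf12 yf14 zf20) (kf xf15 yf9 zf21) (kf xf15 yf9 zf2) (kf xf12 yf14 zf32) (kf xf12 yf14 zf24) (kf xf14 yf23 zf18) (kf xf15 yf9 zf20) (kf xf12 yf14 zf29) (kf xf15 yf9 zf26) (kf xf14 yf26 zf42) (kf xf15 yf9 zf23) (kf xf14 yf0 zf46) (kf xf14 yf14 zf15) (kf xf14 yf14 zf16) (kf xf12 yf16 zf3) (kf xf12 yf24 zf40)) (@D3.rec (fun _ => Pt) (kf xf12 yf16 zf4) (kf xf12 yf24 zf42) (kf xf12 yf15 zf7) (kf xf12 yf24 zf44) (kf xf12 yf15 zf8) (kf xf15 yf9 zf34) (kf xf12 yf25 zf2) (kf xf12 yf15 zf18) (kf xf12 yf15 zf19) (kf xf12 yf25 zf5) (kf xf12 yf15 zf20) (kf xf12 yf25 zf8) (kf xf12 yf15 zf21) (kf xf12 yf25 zf10) (kf xf14 yf21 zf7) (kf xf14 yf21 zf11) (kf xf14 yf21 zf15) (kf xf15 yf9 zf38) (kf xf15 yf9 zf40) (kf xf15 yf9 zf42) (kf xf12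 yf17 zf34) (kf xf14 yf17 zf12) (kf xf12 yf15 zf31) (kf xf12 yf15 zf32) (kf xf12 yf15 zf33) (kf xf14 yf21 zf8) (kf xf14 yf21 zf12) (kf xf14 yf21 zf16) (kf xf15 yf9 zf49) (kf xf15 yf9 zf50) (kf xf15 yf10 zf4) (kf xf12 yf15 zf42) (kf xf12 yf15 zf43) (kf xf14 yf21 zf26) (kf xf12 yf23 zf27) (kf xf12 yf15 zf49) (kf xf12 yf23 zf29) (kf xf12 yf15 zf50) (kf xf15 yf10 zf6) (kf xf14 yf16 zf43) (kf xf12 yf16 zf5) (kf xf15 yf2 zf45) (kf xf12 yf16 zf6) (kf xf15 yf9 zf30) (kf xf15 yf9 zf32) (kf xf15 yf10 zf10) (kf xf14 yf18 zf22) (kf xf14 yf1 zf47) (kf xf15 yf10 zf17) (kf xf14 yf1 zf49) (kf xf12 yf16 zf19)) (@D3.rec (fun _ => Pt) (kf xf15 yf10 zf23) (kf xf12 yf16 zf21) (kf xf12 yf16 zf11) (kf xf15 yf10 zf26) (kf xf12 yf16 zf24) (kf xf14 yf16 zf22) (kf xf12 yf16 zf25)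 (kf xf15 yf10 zf31) (kf xf12 yf16 zf14) (kf xf15 yf10 zf33) (kf xf12 yf16 zf28) (kf xf12 yf16 zf17) (kf xf15 yf10 zf36) (kf xf15 yf10 zf21) (kf xf12 yf16 zf20) (kf xf15 yf10 zf39) (kf xf15 yf10 zf25) (kf xf12 yf16 zf23) (kf xf15 yf10 zf42) (kf xf15 yf10 zf30) (kf xf12 yf16 zf27) (kf xf15 yf10 zf44) (kf xf15 yf10 zf35) (kf xf12 yf16 zf30) (kf xf13 yf0 zf35) (kf xf15 yf2 zf6) (kf xf15 yf7 zf48) (kf xf14 yf2 zf27) (kf xf14 yf2 zf28) (kf xf14 yf2 zf29) (kf xf12 yf16 zf50) (kf xf14 yf2 zf31) (kf xf14 yf2 zf32) (kf xf12 yf17 zf0) (kf xf14 yf2 zf34) (kf xf12 yf17 zf1) (kf xf14 yf2 zf36) (kf xf14 yf2 zf37) (kf xf12 yf17 zf2) (kf xf14 yf2 zf39) (kf xf14 yf2 zf40) (kf xf12 yf17 zf3) (kf xf15 yf8 zf26) (kf xf15 yf10 zf50) (kf xf15 yf11 zf2) (kf xf15 yf11 zf3) (kf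 xf15 yf11 zf6) (kf xf15 yf11 zf14) (kf xf13 yf3 zf10) (kf xf12 yf25 zf50) (kf xf12 yf25 zf35)) (@D3.rec (fun _ => Pt) (kf xf12 yf26 zf1) (kf xf12 yf25 zf37) (kf xf12 yf26 zf3) (kf xf14 yf3 zf3) (kf xf15 yf5 zf16) (kf xf14 yf3 zf5) (kf xf12 yf17 zf21) (kf xf12 yf25 zf27) (kf xf12 yf17 zf22) (kf xf12 yf25 zf29) (kf xf12 yf17 zf23) (kf xf15 yf11 zf33) (kf xf12 yf17 zf25) (kf xf15 yf11 zf36) (kf xf12 yf17 zf16) (kf xf15 yf11 zf39) (kf xf12 yf17 zf28) (kf xf14 yf19 zf19) (kf xf12 yf17 zf19) (kf xf15 yf11 zf43) (kf xf15 yf11 zf27) (kf xf15 yf11 zf30) (kf xf12 yf17 zf24) (kf xf15 yf11 zf47) (kf xf15 yf11 zf35) (kf xf12 yf17 zf27) (kf xf15 yf11 zf50) (kf xf15 yf11 zf41) (kf xf12 yf17 zf37) (kf xf12 yf17 zf31) (kf xf13 yf0 zf27) (kf xf14 yf19 zf35) (kf xf15 yf5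 zf2) (kf xf15 yf12 zf0) (kf xf15 yf12 zf2) (kf xf14 yf3 zf35) (kf xf12 yf17 zf40) (kf xf15 yf12 zf5) (kf xf14 yf3 zf38) (kf xf15 yf12 zf7) (kf xf12 yf18 zf9) (kf xf15 yf12 zf10) (kf xf12 yf17 zf43) (kf xf15 yf12 zf13) (kf xf12 yf18 zf12) (kf xf12 yf17 zf46) (kf xf15 yf12 zf16) (kf xf15 yf12 zf18) (kf xf12 yf18 zf16) (kf xf15 yf12 zf21) (kf xf12 yf17 zf49)) (@D3.rec (fun _ => Pt) (kf xf15 yf12 zf25) (kf xf12 yf18 zf19) (kf xf12 yf18 zf0) (kf xf15 yf12 zf29) (kf xf15 yf12 zf30) (kf xf14 yf20 zf9) (kf xf12 yf18 zf2) (kf xf15 yf12 zf35) (kf xf12 yf18 zf23) (kf xf14 yf20 zf13) (kf xf14 yf20 zf14) (kf xf12 yf18 zf6) (kf xf15 yf12 zf40) (kf xf15 yf12 zf42) (kf xf15 yf8 zf28) (kf xf12 yf18 zf8) (kf xf15 yf12 zf45) (kf xf15 yf12 zf9) (kf xf12 yf18 zf11) (kf xf15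 yf12 zf48) (kf xf15 yf12 zf15) (kf xf12 yf18 zf14) (kf xf12 yf18 zf15) (kf xf15 yf13 zf0) (kf xf15 yf12 zf20) (kf xf12 yf18 zf29) (kf xf12 yf18 zf18) (kf xf15 yf13 zf3) (kf xf15 yf12 zf27) (kf xf12 yf18 zf33) (kf xf12 yf18 zf34) (kf xf12 yf18 zf22) (kf xf15 yf13 zf7) (kf xf15 yf13 zf8) (kf xf12 yf18 zf38) (kf xf12 yf18 zf39) (kf xf12 yf26 zf15) (kf xf15 yf11 zf15) (kf xf15 yf13 zf2) (kf xf12 yf18 zf31) (kf xf14 yf19 zf36) (kf xf15 yf13 zf5) (kf xf15 yf13 zf6) (kf xf12 yf18 zf36) (kf xf15 yf13 zf9) (kf xf14 yf4 zf45) (kf xf12 yf19 zf6) (kf xf14 yf4 zf47) (kf xf14 yf4 zf48) (kf xf14 yf4 zf49) (kf xf12 yf19 zf7)) (@D3.rec (fun _ => Pt) (kf xf12 yf19 zf8) (kf xf14 yf5 zf1) (kf xf14 yf5 zf2) (kf xf14 yf5 zf3) (kf xf12 yf19 zf9) (kf xf14 yf5 zf5) (kf xf14 yf5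 zf6) (kf xf14 yf5 zf7) (kf xf15 yf13 zf28) (kf xf15 yf8 zf29) (kf xf15 yf13 zf16) (kf xf15 yf13 zf29) (kf xf12 yf19 zf10) (kf xf14 yf21 zf32) (kf xf14 yf22 zf3) (kf xf14 yf21 zf35) (kf xf13 yf1 zf23) (kf xf14 yf21 zf38) (kf xf14 yf21 zf41) (kf xf14 yf22 zf6) (kf xf14 yf21 zf47) (kf xf15 yf13 zf36) (kf xf14 yf22 zf12) (kf xf12 yf19 zf33) (kf xf14 yf22 zf21) (kf xf15 yf13 zf31) (kf xf14 yf22 zf31) (kf xf14 yf22 zf33) (kf xf12 yf19 zf43) (kf xf14 yf14 zf28) (kf xf14 yf21 zf36) (kf xf15 yf13 zf41) (kf xf14 yf22 zf40) (kf xf14 yf21 zf39) (kf xf14 yf22 zf42) (kf xf12 yf19 zf48) (kf xf14 yf14 zf27) (kf xf15 yf13 zf46) (kf xf12 yf20 zf4) (kf xf14 yf21 zf37) (kf xf14 yf14 zf33) (kf xf14 yf22 zf0) (kf xf12 yf20 zf7) (kf xf12 yf20 zf38) (kf xf12 yf20 zf11) (kf xf15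 yf13 zf48) (kf xf12 yf20 zf31) (kf xf12 yf20 zf18) (kf xf14 yf26 zf48) (kf xf12 yf20 zf19) (kf xf15 yf8 zf45)) (@D3.rec (fun _ => Pt) (kf xf12 yf20 zf20) (kf xf15 yf13 zf50) (kf xf15 yf14 zf1) (kf xf14 yf23 zf33) (kf xf12 yf20 zf25) (kf xf12 yf20 zf26) (kf xf15 yf14 zf5) (kf xf15 yf14 zf6) (kf xf12 yf21 zf40) (kf xf14 yf26 zf31) (kf xf15 yf0 zf31) (kf xf12 yf20 zf33) (kf xf15 yf13 zf49) (kf xf12 yf20 zf34) (kf xf15 yf14 zf11) (kf xf14 yf24 zf5) (kf xf14 yf24 zf7) (kf xf15 yf13 zf47) (kf xf12 yf20 zf45) (kf xf15 yf14 zf17) (kf xf12 yf20 zf40) (kf xf15 yf14 zf20) (kf xf12 yf20 zf48) (kf xf12 yf20 zf43) (kf xf15 yf14 zf23) (kf xf12 yf20 zf47) (kf xf15 yf14 zf25) (kf xf15 yf14 zf22) (kf xf12 yf20 zf50) (kf xf14 yf24 zf28) (kf xf14 yf25 zf10) (kf xf14 yf24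 zf30) (kf xf14 yf25 zf11) (kf xf15 yf14 zf30) (kf xf14 yf6 zf34) (kf xf14 yf6 zf35) (kf xf14 yf6 zf36) (kf xf12 yf21 zf9) (kf xf15 yf14 zf35) (kf xf12 yf21 zf12) (kf xf14 yf15 zf28) (kf xf12 yf21 zf16) (kf xf15 yf8 zf42) (kf xf12 yf21 zf17) (kf xf15 yf14 zf39) (kf xf14 yf25 zf34) (kf xf14 yf25 zf36) (kf xf15 yf9 zf11) (kf xf14 yf16 zf0) (kf xf14 yf15 zf42) (kf xf12 yf21 zf28)) (@D3.rec (fun _ => Pt) (kf xf14 yf15 zf40) (kf xf12 yf21 zf29) (kf xf15 yf8 zf44) (kf xf15 yf14 zf47) (kf xf14 yf26 zf12) (kf xf14 yf26 zf14) (kf xf15 yf0 zf17) (kf xf12 yf23 zf22) (kf xf12 yf21 zf37) (kf xf15 yf15 zf0) (kf xf14 yf24 zf11) (kf xf12 yf21 zf46) (kf xf14 yf16 zf36) (kf xf15 yf9 zf3) (kf xf12 yf21 zf47) (kf xf15 yf9 zf5) (kf xf15 yf15 zf2) (kf xf15 yf15 zf6) (kf xf14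 yf21 zf45) (kf xf15 yf0 zf16) (kf xf14 yf26 zf15) (kf xf14 yf23 zf3) (kf xf14 yf15 zf25) (kf xf12 yf22 zf2) (kf xf15 yf15 zf13) (kf xf15 yf9 zf0) (kf xf14 yf15 zf18) (kf xf12 yf22 zf19) (kf xf14 yf15 zf23) (kf xf12 yf22 zf20) (kf xf15 yf8 zf50) (kf xf14 yf25 zf0) (kf xf12 yf22 zf21) (kf xf14 yf17 zf44) (kf xf12 yf22 zf10) (kf xf15 yf15 zf23) (kf xf12 yf22 zf24) (kf xf14 yf18 zf11) (kf xf14 yf18 zf26) (kf xf15 yf0 zf40) (kf xf12 yf22 zf14) (kf xf15 yf15 zf29) (kf xf12 yf22 zf28) (kf xf15 yf0 zf44) (kf xf15 yf0 zf45) (kf xf12 yf22 zf18) (kf xf15 yf15 zf34) (kf xf15 yf15 zf16) (kf xf15 yf15 zf18) (kf xf15 yf15 zf21) (kf xf12 yf22 zf23)) (@D3.rec (fun _ => Pt) (kf xf15 yf15 zf38) (kf xf15 yf15 zf25) (kf xf12 yf22 zf37) (kf xf12 yf22 zf27) (kf xf15 yf15 zf42)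 (kf xf15 yf15 zf43) (kf xf12 yf22 zf41) (kf xf12 yf22 zf42) (kf xf14 yf24 zf6) (kf xf14 yf16 zf5) (kf xf12 yf22 zf35) (kf xf14 yf22 zf28) (kf xf14 yf15 zf27) (kf xf14 yf24 zf36) (kf xf15 yf15 zf41) (kf xf14 yf25 zf35) (kf xf12 yf22 zf40) (kf xf12 yf23 zf23) (kf xf12 yf23 zf5) (kf xf12 yf23 zf6) (kf xf12 yf23 zf7) (kf xf13 yf1 zf42) (kf xf13 yf1 zf43) (kf xf12 yf23 zf8) (kf xf13 yf1 zf44) (kf xf13 yf1 zf45) (kf xf13 yf1 zf46) (kf xf15 yf16 zf4) (kf xf15 yf15 zf46) (kf xf15 yf15 zf48) (kf xf15 yf15 zf45) (kf xf15 yf16 zf5) (kf xf12 yf23 zf9) (kf xf15 yf16 zf6) (kf xf12 yf23 zf21) (kf xf13 yf2 zf2) (kf xf15 yf16 zf7) (kf xf14 yf8 zf37) (kf xf15 yf10 zf5) (kf xf12 yf23 zf31) (kf xf15 yf10 zf7) (kf xf15 yf2 zf41) (kf xf13 yf3 zf13) (kf xf15 yf3 zf31) (kf xf14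 yf8 zf44) (kf xf15 yf2 zf47) (kf xf12 yf23 zf42) (kf xf12 yf23 zf39) (kf xf15 yf16 zf16) (kf xf15 yf3 zf19) (kf xf12 yf23 zf44)) (@D3.rec (fun _ => Pt) (kf xf15 yf16 zf18) (kf xf14 yf9 zf1) (kf xf12 yf23 zf46) (kf xf15 yf16 zf22) (kf xf14 yf9 zf4) (kf xf15 yf16 zf24) (kf xf12 yf24 zf12) (kf xf15 yf16 zf27) (kf xf12 yf23 zf49) (kf xf15 yf16 zf29) (kf xf12 yf24 zf15) (kf xf15 yf16 zf21) (kf xf12 yf24 zf1) (kf xf15 yf16 zf32) (kf xf15 yf16 zf34) (kf xf12 yf24 zf3) (kf xf15 yf16 zf36) (kf xf12 yf24 zf21) (kf xf12 yf24 zf5) (kf xf15 yf16 zf38) (kf xf12 yf24 zf7) (kf xf15 yf16 zf40) (kf xf12 yf24 zf10) (kf xf15 yf16 zf42) (kf xf12 yf24 zf11) (kf xf15 yf16 zf44) (kf xf15 yf16 zf26) (kf xf12 yf24 zf14) (kf xf15 yf16 zf46) (kf xf14 yf9 zf29) (kf xf12 yf24 zf18)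 (kf xf12 yf24 zf20) (kf xf15 yf16 zf49) (kf xf12 yf24 zf23) (kf xf15 yf17 zf0) (kf xf14 yf18 zf23) (kf xf14 yf9 zf36) (kf xf14 yf9 zf37) (kf xf14 yf9 zf38) (kf xf15 yf9 zf29) (kf xf13 yf3 zf14) (kf xf15 yf9 zf31) (kf xf13 yf3 zf15) (kf xf15 yf9 zf33) (kf xf12 yf24 zf46) (kf xf15 yf9 zf35) (kf xf15 yf12 zf28) (kf xf14 yf9 zf47) (kf xf12 yf24 zf48) (kf xf15 yf17 zf10) (kf xf14 yf9 zf50)) (@D3.rec (fun _ => Pt) (kf xf14 yf20 zf3) (kf xf12 yf25 zf12) (kf xf14 yf20 zf8) (kf xf12 yf25 zf13) (kf xf15 yf9 zf36) (kf xf15 yf9 zf37) (kf xf12 yf25 zf14) (kf xf14 yf19 zf45) (kf xf15 yf9 zf39) (kf xf12 yf25 zf15) (kf xf14 yf19 zf8) (kf xf14 yf19 zf47) (kf xf15 yf9 zf41) (kf xf15 yf9 zf43) (kf xf15 yf8 zf31) (kf xf15 yf17 zf13) (kf xf15 yf17 zf17) (kf xf13 yf2 zf20)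 (kf xf13 yf2 zf21) (kf xf13 yf2 zf22) (kf xf13 yf0 zf28) (kf xf15 yf11 zf26) (kf xf13 yf3 zf16) (kf xf15 yf11 zf28) (kf xf15 yf11 zf29) (kf xf13 yf3 zf17) (kf xf15 yf11 zf31) (kf xf15 yf17 zf37) (kf xf14 yf10 zf28) (kf xf12 yf25 zf32) (kf xf15 yf17 zf40) (kf xf14 yf10 zf31) (kf xf15 yf11 zf16) (kf xf12 yf26 zf0) (kf xf15 yf11 zf18) (kf xf15 yf11 zf19) (kf xf12 yf26 zf2) (kf xf15 yf11 zf21) (kf xf15 yf12 zf24) (kf xf12 yf26 zf4) (kf xf15 yf17 zf50) (kf xf12 yf25 zf40) (kf xf15 yf18 zf1) (kf xf12 yf26 zf7) (kf xf12 yf25 zf42) (kf xf15 yf18 zf4) (kf xf15 yf18 zf5) (kf xf15 yf5 zf38) (kf xf12 yf25 zf44) (kf xf15 yf18 zf10) (kf xf15 yf5 zf41)) (@D3.rec (fun _ => Pt) (kf xf15 yf5 zf42) (kf xf12 yf25 zf48) (kf xf15 yf18 zf14) (kf xf15 yf8 zf32) (kf xf15 yf11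 zf17) (kf xf15 yf17 zf43) (kf xf15 yf11 zf20) (kf xf15 yf17 zf48) (kf xf12 yf26 zf6) (kf xf15 yf18 zf19) (kf xf12 yf26 zf16) (kf xf12 yf26 zf17) (kf xf12 yf26 zf10) (kf xf15 yf18 zf23) (kf xf12 yf26 zf20) (kf xf12 yf26 zf21) (kf xf15 yf13 zf10) (kf xf15 yf18 zf21) (kf xf15 yf18 zf22) (kf xf12 yf26 zf19) (kf xf15 yf18 zf24) (kf xf12 yf26 zf22) (kf xf15 yf18 zf28) (kf xf14 yf11 zf23) (kf xf12 yf26 zf33) (kf xf12 yf26 zf25) (kf xf15 yf18 zf31) (kf xf12 yf26 zf27) (kf xf15 yf18 zf33) (kf xf13 yf0 zf6) (kf xf14 yf18 zf28) (kf xf12 yf26 zf31) (kf xf15 yf18 zf36) (kf xf13 yf0 zf9) (kf xf15 yf14 zf37) (kf xf15 yf18 zf30) (kf xf12 yf26 zf35) (kf xf15 yf18 zf41) (kf xf12 yf26 zf36) (kf xf15 yf18 zf43) (kf xf13 yf0 zf15) (kf xf12 yf26 zf38) (kf xf15 yf18 zf46) (kf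 xf15 yf6 zf46) (kf xf12 yf26 zf40) (kf xf15 yf18 zf48) (kf xf13 yf0 zf19) (kf xf15 yf6 zf50) (kf xf12 yf26 zf43) (kf xf12 yf26 zf44) (kf xf15 yf19 zf1)) (@D3.rec (fun _ => Pt) (kf xf15 yf19 zf2) (kf xf15 yf7 zf4) (kf xf15 yf7 zf5) (kf xf12 yf26 zf47) (kf xf15 yf19 zf7) (kf xf15 yf19 zf10) (kf xf15 yf7 zf9) (kf xf15 yf7 zf10) (kf xf13 yf0 zf1) (kf xf15 yf19 zf13) (kf xf13 yf0 zf2) (kf xf15 yf19 zf15) (kf xf15 yf8 zf33) (kf xf13 yf0 zf5) (kf xf15 yf19 zf17) (kf xf13 yf0 zf8) (kf xf15 yf19 zf19) (kf xf15 yf19 zf21) (kf xf14 yf12 zf18) (kf xf14 yf12 zf19) (kf xf13 yf0 zf14) (kf xf15 yf19 zf23) (kf xf13 yf0 zf29) (kf xf13 yf0 zf18) (kf xf15 yf19 zf25) (kf xf13 yf0 zf32) (kf xf13 yf0 zf33) (kf xf13 yf0 zf23) (kf xf15 yf19 zf30) (kf xf13 yf0 zf24) (kf xf13 yf0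 zf36) (kf xf15 yf17 zf28) (kf xf15 yf19 zf24) (kf xf13 yf0 zf31) (kf xf15 yf10 zf47) (kf xf15 yf19 zf27) (kf xf15 yf19 zf28) (kf xf13 yf3 zf12) (kf xf13 yf0 zf42) (kf xf13 yf0 zf43) (kf xf13 yf3 zf20) (kf xf14 yf12 zf41) (kf xf13 yf3 zf5) (kf xf14 yf12 zf43) (kf xf14 yf12 zf44) (kf xf13 yf3 zf21) (kf xf14 yf12 zf46) (kf xf13 yf3 zf7) (kf xf14 yf12 zf48) (kf xf14 yf12 zf49) (kf xf13 yf3 zf22)) (@D3.rec (fun _ => Pt) (kf xf14 yf13 zf0) (kf xf14 yf13 zf1) (kf xf14 yf13 zf2) (kf xf13 yf3 zf23) (kf xf14 yf13 zf4) (kf xf14 yf13 zf5) (kf xf14 yf13 zf6) (kf xf14 yf13 zf7) (kf xf14 yf13 zf8) (kf xf14 yf13 zf9) (kf xf13 yf1 zf35) (kf xf15 yf15 zf49) (kf xf15 yf15 zf50) (kf xf15 yf16 zf1) (kf xf15 yf16 zf2) (kf xf13 yf1 zf49) (kf xf13 yf2 zf0) (kf xf13 yf2 zf8) (kf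 xf14 yf14 zf13) (kf xf14 yf14 zf17) (kf xf13 yf2 zf17) (kf xf13 yf2 zf18) (kf xf15 yf20 zf3) (kf xf15 yf20 zf4) (kf xf13 yf2 zf19) (kf xf15 yf17 zf25) (kf xf15 yf17 zf26) (kf xf13 yf2 zf23) (kf xf13 yf2 zf24) (kf xf14 yf13 zf29) (kf xf13 yf2 zf29) (kf xf15 yf20 zf6) (kf xf14 yf13 zf32) (kf xf14 yf13 zf33) (kf xf13 yf2 zf33) (kf xf13 yf2 zf34) (kf xf15 yf20 zf9) (kf xf15 yf20 zf10) (kf xf14 yf13 zf38) (kf xf13 yf2 zf37) (kf xf15 yf20 zf13) (kf xf15 yf20 zf17) (kf xf13 yf2 zf38) (kf xf13 yf2 zf41) (kf xf15 yf19 zf40) (kf xf13 yf2 zf45) (kf xf13 yf2 zf47) (kf xf13 yf3 zf8) (kf xf13 yf2 zf50) (kf xf15 yf20 zf20) (kf xf13 yf3 zf11)) (@D3.rec (fun _ => Pt) (kf xf15 yf20 zf23) (kf xf13 yf3 zf3) (kf xf15 yf19 zf37) (kf xf15 yf20 zf19) (kf xf15 yf17 zf4) (kf xf15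 yf17 zf31) (kf xf15 yf17 zf35) (kf xf15 yf19 zf35) (kf xf15 yf19 zf43) (kf xf13 yf13 zf39) (kf xf13 yf3 zf39) (kf xf13 yf3 zf40) (kf xf15 yf20 zf27) (kf xf14 yf13 zf18) (kf xf13 yf4 zf0) (kf xf14 yf0 zf47) (kf xf14 yf0 zf48) (kf xf14 yf13 zf19) (kf xf13 yf12 zf32) (kf xf13 yf26 zf36) (kf xf13 yf13 zf6) (kf xf13 yf26 zf40) (kf xf13 yf12 zf41) (kf xf13 yf4 zf20) (kf xf13 yf12 zf43) (kf xf13 yf12 zf46) (kf xf13 yf26 zf37) (kf xf14 yf5 zf36) (kf xf14 yf5 zf29) (kf xf13 yf12 zf36) (kf xf13 yf4 zf24) (kf xf15 yf20 zf35) (kf xf13 yf4 zf27) (kf xf14 yf5 zf40) (kf xf15 yf20 zf38) (kf xf13 yf4 zf31) (kf xf13 yf4 zf30) (kf xf15 yf20 zf41) (kf xf15 yf20 zf40) (kf xf13 yf16 zf29) (kf xf15 yf20 zf44) (kf xf13 yf4 zf42) (kf xf15 yf20 zf47) (kf xf13 yf4 zf45) (kf xf13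 yf4 zf39) (kf xf15 yf20 zf50) (kf xf13 yf4 zf48) (kf xf13 yf4 zf41) (kf xf15 yf21 zf1) (kf xf15 yf20 zf46) (kf xf13 yf16 zf30)) (@D3.rec (fun _ => Pt) (kf xf15 yf21 zf4) (kf xf13 yf18 zf11) (kf xf13 yf4 zf44) (kf xf15 yf21 zf7) (kf xf15 yf20 zf49) (kf xf13 yf4 zf47) (kf xf15 yf21 zf9) (kf xf13 yf12 zf35) (kf xf13 yf17 zf2) (kf xf13 yf13 zf12) (kf xf13 yf17 zf4) (kf xf13 yf17 zf6) (kf xf13 yf5 zf5) (kf xf13 yf5 zf7) (kf xf15 yf21 zf14) (kf xf13 yf17 zf12) (kf xf13 yf16 zf31) (kf xf13 yf11 zf46) (kf xf14 yf7 zf26) (kf xf13 yf5 zf18) (kf xf15 yf21 zf17) (kf xf13 yf14 zf21) (kf xf13 yf14 zf24) (kf xf14 yf7 zf28) (kf xf13 yf5 zf24) (kf xf14 yf7 zf22) (kf xf13 yf5 zf27) (kf xf14 yf8 zf12) (kf xf14 yf6 zf40) (kf xf13 yf5 zf36) (kf xf13 yf5 zf34) (kf xf15 yf21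 zf23) (kf xf13 yf5 zf39) (kf xf15 yf21 zf22) (kf xf13 yf5 zf40) (kf xf13 yf5 zf38) (kf xf15 yf21 zf26) (kf xf15 yf21 zf25) (kf xf13 yf5 zf42) (kf xf15 yf21 zf29) (kf xf14 yf7 zf0) (kf xf13 yf5 zf50) (kf xf14 yf6 zf49) (kf xf13 yf6 zf0) (kf xf14 yf0 zf26) (kf xf13 yf5 zf48) (kf xf15 yf21 zf34) (kf xf13 yf6 zf8) (kf xf13 yf6 zf9) (kf xf13 yf6 zf3) (kf xf15 yf21 zf38)) (@D3.rec (fun _ => Pt) (kf xf14 yf6 zf48) (kf xf13 yf6 zf7) (kf xf15 yf21 zf36) (kf xf15 yf21 zf37) (kf xf13 yf6 zf11) (kf xf14 yf8 zf9) (kf xf13 yf6 zf16) (kf xf13 yf6 zf17) (kf xf13 yf6 zf15) (kf xf15 yf21 zf45) (kf xf15 yf21 zf44) (kf xf13 yf15 zf40) (kf xf14 yf16 zf12) (kf xf14 yf16 zf13) (kf xf14 yf16 zf14) (kf xf15 yf22 zf2) (kf xf14 yf16 zf16) (kf xf14 yf16 zf17) (kf xf14 yf16 zf18)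 (kf xf13 yf6 zf29) (kf xf15 yf22 zf9) (kf xf13 yf6 zf31) (kf xf14 yf2 zf5) (kf xf13 yf6 zf32) (kf xf13 yf6 zf27) (kf xf15 yf22 zf15) (kf xf13 yf6 zf35) (kf xf15 yf22 zf8) (kf xf13 yf6 zf30) (kf xf15 yf22 zf19) (kf xf15 yf22 zf11) (kf xf15 yf22 zf14) (kf xf13 yf6 zf34) (kf xf15 yf22 zf22) (kf xf13 yf25 zf18) (kf xf13 yf22 zf6) (kf xf14 yf7 zf12) (kf xf14 yf16 zf37) (kf xf15 yf22 zf28) (kf xf13 yf6 zf50) (kf xf13 yf6 zf41) (kf xf15 yf22 zf32) (kf xf13 yf7 zf2) (kf xf14 yf1 zf39) (kf xf13 yf7 zf3) (kf xf15 yf22 zf37) (kf xf13 yf6 zf44) (kf xf15 yf22 zf40) (kf xf13 yf7 zf6) (kf xf13 yf6 zf47) (kf xf15 yf22 zf43)) (@D3.rec (fun _ => Pt) (kf xf13 yf6 zf49) (kf xf15 yf22 zf45) (kf xf15 yf22 zf30) (kf xf14 yf17 zf3) (kf xf13 yf7 zf1) (kf xf15 yf22 zf49) (kf xf15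 yf22 zf36) (kf xf13 yf7 zf5) (kf xf15 yf23 zf1) (kf xf15 yf22 zf42) (kf xf13 yf7 zf8) (kf xf15 yf23 zf4) (kf xf14 yf1 zf21) (kf xf13 yf22 zf34) (kf xf15 yf23 zf8) (kf xf13 yf22 zf35) (kf xf14 yf17 zf16) (kf xf13 yf7 zf15) (kf xf15 yf23 zf10) (kf xf13 yf7 zf17) (kf xf15 yf23 zf12) (kf xf13 yf7 zf32) (kf xf13 yf7 zf27) (kf xf14 yf17 zf23) (kf xf14 yf17 zf24) (kf xf13 yf7 zf28) (kf xf14 yf17 zf26) (kf xf14 yf17 zf27) (kf xf14 yf17 zf28) (kf xf13 yf7 zf29) (kf xf15 yf23 zf15) (kf xf15 yf23 zf19) (kf xf15 yf23 zf25) (kf xf14 yf17 zf33) (kf xf13 yf7 zf39) (kf xf13 yf7 zf44) (kf xf13 yf7 zf45) (kf xf13 yf21 zf32) (kf xf13 yf7 zf46) (kf xf15 yf23 zf27) (kf xf15 yf23 zf29) (kf xf14 yf17 zf41) (kf xf14 yf17 zf42) (kf xf13 yf8 zf3) (kf xf14 yf7 zf33) (kf xf13 yf8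 zf4) (kf xf13 yf21 zf23) (kf xf13 yf8 zf5) (kf xf13 yf8 zf1) (kf xf15 yf23 zf41) (kf xf13 yf8 zf8)) (@D3.rec (fun _ => Pt) (kf xf15 yf23 zf35) (kf xf15 yf23 zf37) (kf xf15 yf23 zf40) (kf xf13 yf8 zf7) (kf xf15 yf23 zf45) (kf xf13 yf20 zf29) (kf xf13 yf20 zf8) (kf xf13 yf8 zf12) (kf xf15 yf23 zf47) (kf xf15 yf23 zf48) (kf xf14 yf18 zf10) (kf xf14 yf7 zf37) (kf xf13 yf8 zf21) (kf xf13 yf22 zf15) (kf xf13 yf8 zf22) (kf xf13 yf8 zf19) (kf xf15 yf24 zf5) (kf xf13 yf8 zf25) (kf xf15 yf24 zf1) (kf xf15 yf24 zf4) (kf xf13 yf8 zf24) (kf xf15 yf24 zf8) (kf xf14 yf1 zf46) (kf xf14 yf9 zf35) (kf xf15 yf24 zf10) (kf xf14 yf18 zf25) (kf xf14 yf7 zf38) (kf xf13 yf8 zf37) (kf xf14 yf11 zf30) (kf xf13 yf8 zf38) (kf xf13 yf19 zf41) (kf xf13 yf8 zf35) (kf xf15 yf24 zf18)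 (kf xf15 yf24 zf15) (kf xf13 yf8 zf43) (kf xf13 yf8 zf44) (kf xf13 yf8 zf41) (kf xf15 yf24 zf22) (kf xf15 yf24 zf20) (kf xf15 yf24 zf21) (kf xf13 yf8 zf46) (kf xf13 yf9 zf0) (kf xf13 yf9 zf1) (kf xf13 yf8 zf50) (kf xf15 yf24 zf25) (kf xf15 yf24 zf26) (kf xf13 yf9 zf5) (kf xf14 yf18 zf47) (kf xf15 yf24 zf33) (kf xf14 yf18 zf49) (kf xf14 yf18 zf50)) (@D3.rec (fun _ => Pt) (kf xf15 yf24 zf40) (kf xf14 yf19 zf1) (kf xf13 yf9 zf9) (kf xf15 yf24 zf43) (kf xf14 yf19 zf4) (kf xf15 yf24 zf45) (kf xf14 yf19 zf6) (kf xf13 yf9 zf22) (kf xf14 yf10 zf10) (kf xf13 yf9 zf23) (kf xf13 yf9 zf14) (kf xf15 yf25 zf3) (kf xf13 yf9 zf26) (kf xf13 yf24 zf18) (kf xf13 yf9 zf27) (kf xf15 yf25 zf8) (kf xf13 yf9 zf17) (kf xf15 yf25 zf11) (kf xf13 yf9 zf30) (kf xf14 yf3 zf17) (kf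 xf13 yf9 zf20) (kf xf15 yf25 zf16) (kf xf15 yf24 zf49) (kf xf15 yf25 zf1) (kf xf14 yf19 zf24) (kf xf13 yf9 zf25) (kf xf15 yf25 zf21) (kf xf15 yf25 zf7) (kf xf13 yf9 zf29) (kf xf15 yf25 zf24) (kf xf15 yf25 zf13) (kf xf13 yf9 zf37) (kf xf13 yf9 zf38) (kf xf13 yf9 zf33) (kf xf15 yf25 zf28) (kf xf14 yf3 zf31) (kf xf14 yf4 zf40) (kf xf15 yf25 zf26) (kf xf15 yf25 zf27) (kf xf13 yf9 zf40) (kf xf13 yf25 zf13) (kf xf13 yf9 zf41) (kf xf15 yf25 zf33) (kf xf14 yf19 zf43) (kf xf13 yf10 zf8) (kf xf14 yf10 zf7) (kf xf13 yf10 zf9) (kf xf14 yf10 zf11) (kf xf13 yf10 zf10) (kf xf15 yf25 zf32) (kf xf13 yf9 zf47)) (@D3.rec (fun _ => Pt) (kf xf15 yf25 zf43) (kf xf13 yf23 zf21) (kf xf13 yf10 zf14) (kf xf14 yf10 zf0) (kf xf13 yf9 zf50) (kf xf15 yf25 zf50) (kf xf13 yf10 zf17)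 (kf xf13 yf26 zf29) (kf xf14 yf10 zf2) (kf xf14 yf4 zf5) (kf xf13 yf10 zf3) (kf xf15 yf26 zf6) (kf xf13 yf10 zf21) (kf xf14 yf4 zf9) (kf xf14 yf4 zf10) (kf xf13 yf10 zf7) (kf xf15 yf26 zf11) (kf xf15 yf25 zf36) (kf xf15 yf25 zf38) (kf xf15 yf25 zf40) (kf xf14 yf20 zf20) (kf xf14 yf20 zf21) (kf xf13 yf10 zf13) (kf xf15 yf26 zf18) (kf xf15 yf25 zf47) (kf xf13 yf10 zf16) (kf xf15 yf26 zf21) (kf xf15 yf26 zf1) (kf xf13 yf10 zf29) (kf xf13 yf10 zf30) (kf xf13 yf10 zf20) (kf xf15 yf26 zf25) (kf xf13 yf10 zf33) (kf xf13 yf10 zf34) (kf xf13 yf10 zf25) (kf xf15 yf26 zf28) (kf xf13 yf10 zf36) (kf xf13 yf21 zf9) (kf xf15 yf26 zf23) (kf xf15 yf26 zf24) (kf xf13 yf10 zf32) (kf xf15 yf26 zf26) (kf xf15 yf26 zf27) (kf xf13 yf23 zf48) (kf xf14 yf20 zf44) (kf xf14 yf20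 zf45) (kf xf13 yf10 zf40) (kf xf15 yf26 zf36) (kf xf13 yf10 zf45) (kf xf13 yf10 zf46) (kf xf13 yf10 zf44)) (@D3.rec (fun _ => Pt) (kf xf15 yf23 zf13) (kf xf15 yf26 zf42) (kf xf15 yf26 zf39) (kf xf15 yf26 zf40) (kf xf13 yf11 zf10) (kf xf13 yf11 zf11) (kf xf13 yf11 zf12) (kf xf14 yf1 zf14) (kf xf14 yf1 zf25) (kf xf13 yf11 zf13) (kf xf13 yf19 zf43) (kf xf14 yf1 zf15) (kf xf14 yf1 zf26) (kf xf13 yf11 zf14) (kf xf13 yf26 zf4) (kf xf14 yf1 zf16) (kf xf14 yf1 zf27) (kf xf16 yf0 zf6) (kf xf15 yf26 zf45) (kf xf15 yf26 zf46) (kf xf16 yf0 zf8) (kf xf16 yf0 zf9) (kf xf13 yf11 zf15) (kf xf16 yf0 zf10) (kf xf13 yf11 zf25) (kf xf13 yf11 zf26) (kf xf14 yf1 zf33) (kf xf13 yf12 zf28) (kf xf13 yf26 zf38) (kf xf13 yf12 zf21) (kf xf13 yf13 zf17) (kf xf13 yf26 zf41) (kf xf14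 yf5 zf13) (kf xf13 yf11 zf47) (kf xf16 yf0 zf15) (kf xf14 yf5 zf15) (kf xf14 yf5 zf30) (kf xf14 yf5 zf39) (kf xf14 yf5 zf17) (kf xf14 yf5 zf33) (kf xf13 yf13 zf2) (kf xf14 yf5 zf18) (kf xf13 yf12 zf6) (kf xf16 yf0 zf20) (kf xf13 yf12 zf10) (kf xf14 yf7 zf18) (kf xf13 yf13 zf14) (kf xf14 yf5 zf20) (kf xf13 yf12 zf14) (kf xf16 yf0 zf24) (kf xf13 yf12 zf16)) (@D3.rec (fun _ => Pt) (kf xf14 yf5 zf41) (kf xf13 yf13 zf28) (kf xf15 yf20 zf37) (kf xf14 yf5 zf14) (kf xf16 yf0 zf12) (kf xf13 yf13 zf13) (kf xf14 yf5 zf19) (kf xf13 yf15 zf15) (kf xf13 yf13 zf10) (kf xf16 yf0 zf11) (kf xf13 yf13 zf3) (kf xf13 yf13 zf22) (kf xf14 yf5 zf22) (kf xf15 yf20 zf28) (kf xf13 yf12 zf39) (kf xf15 yf21 zf11) (kf xf15 yf20 zf34) (kf xf13 yf12 zf38) (kf xf16 yf0 zf34) (kf xf13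 yf13 zf15) (kf xf15 yf20 zf30) (kf xf14 yf5 zf24) (kf xf15 yf20 zf31) (kf xf13 yf12 zf45) (kf xf15 yf20 zf32) (kf xf13 yf13 zf25) (kf xf16 yf0 zf39) (kf xf13 yf13 zf4) (kf xf14 yf8 zf11) (kf xf16 yf0 zf18) (kf xf16 yf0 zf30) (kf xf14 yf5 zf26) (kf xf15 yf20 zf29) (kf xf14 yf5 zf27) (kf xf13 yf13 zf9) (kf xf16 yf0 zf46) (kf xf16 yf0 zf29) (kf xf16 yf0 zf26) (kf xf16 yf0 zf22) (kf xf16 yf0 zf35) (kf xf14 yf5 zf32) (kf xf16 yf0 zf13) (kf xf14 yf5 zf34) (kf xf13 yf13 zf20) (kf xf16 yf1 zf1) (kf xf16 yf1 zf4) (kf xf16 yf0 zf31) (kf xf13 yf13 zf24) (kf xf16 yf1 zf0) (kf xf13 yf13 zf27) (kf xf13 yf13 zf31)) (@D3.rec (fun _ => Pt) (kf xf13 yf13 zf35) (kf xf13 yf13 zf44) (kf xf13 yf13 zf45) (kf xf14 yf7 zf21) (kf xf13 yf13 zf46) (kf xf16 yf1 zf6) (kf xf16 yf1 zf8)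 (kf xf13 yf14 zf0) (kf xf13 yf14 zf1) (kf xf13 yf14 zf2) (kf xf16 yf1 zf14) (kf xf13 yf14 zf4) (kf xf16 yf1 zf11) (kf xf16 yf1 zf13) (kf xf13 yf14 zf3) (kf xf16 yf1 zf19) (kf xf16 yf1 zf16) (kf xf13 yf18 zf45) (kf xf14 yf0 zf40) (kf xf13 yf15 zf17) (kf xf13 yf15 zf47) (kf xf13 yf15 zf3) (kf xf13 yf14 zf14) (kf xf13 yf15 zf0) (kf xf13 yf14 zf15) (kf xf13 yf14 zf12) (kf xf16 yf1 zf29) (kf xf13 yf14 zf18) (kf xf16 yf1 zf26) (kf xf16 yf1 zf28) (kf xf13 yf14 zf17) (kf xf16 yf1 zf32) (kf xf13 yf18 zf5) (kf xf14 yf6 zf3) (kf xf15 yf21 zf18) (kf xf13 yf14 zf23) (kf xf16 yf1 zf34) (kf xf13 yf14 zf28) (kf xf16 yf1 zf35) (kf xf14 yf23 zf39) (kf xf16 yf1 zf38) (kf xf14 yf23 zf41) (kf xf16 yf1 zf12) (kf xf13 yf14 zf37) (kf xf13 yf14 zf38) (kf xf16 yf1 zf10) (kf xf13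 yf14 zf39) (kf xf13 yf14 zf35) (kf xf16 yf1 zf49) (kf xf13 yf14 zf42) (kf xf16 yf1 zf42)) (@D3.rec (fun _ => Pt) (kf xf16 yf1 zf44) (kf xf16 yf1 zf47) (kf xf13 yf14 zf46) (kf xf13 yf14 zf41) (kf xf16 yf2 zf3) (kf xf14 yf6 zf15) (kf xf14 yf8 zf8) (kf xf14 yf6 zf16) (kf xf16 yf2 zf2) (kf xf13 yf14 zf48) (kf xf16 yf2 zf8) (kf xf14 yf7 zf10) (kf xf14 yf0 zf29) (kf xf16 yf1 zf27) (kf xf13 yf15 zf8) (kf xf16 yf1 zf5) (kf xf13 yf15 zf9) (kf xf13 yf19 zf50) (kf xf16 yf1 zf25) (kf xf13 yf15 zf10) (kf xf13 yf16 zf2) (kf xf13 yf15 zf6) (kf xf16 yf2 zf19) (kf xf16 yf2 zf14) (kf xf16 yf2 zf17) (kf xf13 yf15 zf21) (kf xf13 yf15 zf13) (kf xf16 yf2 zf24) (kf xf14 yf6 zf29) (kf xf16 yf0 zf28) (kf xf14 yf6 zf31) (kf xf16 yf1 zf24) (kf xf13 yf15 zf19) (kf xf15 yf21 zf43)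 (kf xf16 yf2 zf23) (kf xf13 yf15 zf23) (kf xf14 yf8 zf13) (kf xf13 yf15 zf27) (kf xf13 yf15 zf26) (kf xf16 yf2 zf29) (kf xf16 yf2 zf28) (kf xf13 yf15 zf37) (kf xf13 yf20 zf4) (kf xf13 yf20 zf9) (kf xf13 yf15 zf38) (kf xf16 yf2 zf31) (kf xf16 yf2 zf35) (kf xf13 yf15 zf44) (kf xf16 yf1 zf48) (kf xf13 yf15 zf48) (kf xf16 yf2 zf37)) (@D3.rec (fun _ => Pt) (kf xf14 yf7 zf31) (kf xf13 yf16 zf4) (kf xf13 yf16 zf5) (kf xf16 yf1 zf23) (kf xf13 yf16 zf6) (kf xf16 yf2 zf18) (kf xf13 yf16 zf7) (kf xf16 yf2 zf39) (kf xf16 yf2 zf41) (kf xf16 yf2 zf44) (kf xf14 yf6 zf30) (kf xf14 yf6 zf32) (kf xf14 yf25 zf12) (kf xf14 yf25 zf13) (kf xf14 yf25 zf14) (kf xf16 yf3 zf1) (kf xf14 yf25 zf16) (kf xf13 yf16 zf18) (kf xf16 yf2 zf40) (kf xf13 yf16 zf19) (kf xf13 yf16 zf20) (kf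 xf16 yf3 zf11) (kf xf13 yf16 zf22) (kf xf13 yf16 zf16) (kf xf16 yf3 zf14) (kf xf13 yf16 zf25) (kf xf16 yf3 zf5) (kf xf16 yf3 zf7) (kf xf16 yf3 zf9) (kf xf13 yf16 zf21) (kf xf16 yf3 zf18) (kf xf16 yf3 zf13) (kf xf13 yf16 zf24) (kf xf16 yf3 zf21) (kf xf14 yf6 zf45) (kf xf14 yf8 zf15) (kf xf14 yf6 zf46) (kf xf15 yf20 zf43) (kf xf16 yf1 zf43) (kf xf15 yf21 zf3) (kf xf16 yf3 zf8) (kf xf13 yf16 zf41) (kf xf13 yf16 zf33) (kf xf16 yf3 zf31) (kf xf13 yf16 zf44) (kf xf13 yf16 zf45) (kf xf16 yf3 zf4) (kf xf13 yf16 zf46) (kf xf13 yf16 zf36) (kf xf16 yf3 zf36) (kf xf13 yf16 zf49)) (@D3.rec (fun _ => Pt) (kf xf13 yf16 zf39) (kf xf16 yf3 zf39) (kf xf16 yf3 zf29) (kf xf13 yf16 zf43) (kf xf16 yf3 zf41) (kf xf16 yf3 zf33) (kf xf16 yf3 zf35) (kf xf13 yf16 zf48) (kf xf16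 yf3 zf44) (kf xf16 yf3 zf38) (kf xf13 yf17 zf0) (kf xf16 yf3 zf47) (kf xf14 yf7 zf4) (kf xf15 yf21 zf12) (kf xf14 yf7 zf5) (kf xf14 yf7 zf20) (kf xf16 yf3 zf49) (kf xf15 yf21 zf13) (kf xf13 yf17 zf22) (kf xf13 yf17 zf9) (kf xf13 yf17 zf11) (kf xf16 yf4 zf3) (kf xf13 yf17 zf20) (kf xf13 yf17 zf21) (kf xf14 yf26 zf24) (kf xf13 yf17 zf23) (kf xf13 yf17 zf24) (kf xf16 yf4 zf2) (kf xf16 yf4 zf5) (kf xf16 yf4 zf9) (kf xf13 yf17 zf27) (kf xf14 yf6 zf9) (kf xf14 yf26 zf32) (kf xf16 yf4 zf12) (kf xf14 yf26 zf34) (kf xf14 yf26 zf35) (kf xf16 yf4 zf18) (kf xf14 yf26 zf37) (kf xf13 yf17 zf31) (kf xf16 yf4 zf21) (kf xf14 yf26 zf40) (kf xf15 yf21 zf32) (kf xf14 yf0 zf44) (kf xf16 yf3 zf30) (kf xf13 yf17 zf44) (kf xf13 yf17 zf36) (kf xf16 yf4 zf28) (kf xf13 yf17 zf47)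 (kf xf14 yf5 zf48) (kf xf13 yf17 zf48) (kf xf15 yf22 zf31))
def f_f_15 : D2 → D3 → Pt := @D2.rec (fun _ => D3 → Pt) (@D3.rec (fun _ => Pt) (kf xf13 yf17 zf39) (kf xf16 yf4 zf35) (kf xf13 yf18 zf0) (kf xf14 yf0 zf14) (kf xf13 yf17 zf42) (kf xf16 yf4 zf39) (kf xf16 yf4 zf27) (kf xf13 yf17 zf46) (kf xf16 yf4 zf42) (kf xf16 yf4 zf32) (kf xf13 yf17 zf50) (kf xf16 yf4 zf45) (kf xf16 yf4 zf37) (kf xf13 yf18 zf7) (kf xf13 yf18 zf3) (kf xf16 yf4 zf49) (kf xf14 yf7 zf19) (kf xf14 yf7 zf6) (kf xf16 yf4 zf1) (kf xf16 yf4 zf48) (kf xf13 yf18 zf9) (kf xf16 yf5 zf0) (kf xf13 yf18 zf10) (kf xf16 yf5 zf2) (kf xf15 yf21 zf6) (kf xf16 yf5 zf4) (kf xf13 yf18 zf12) (kf xf16 yf5 zf7) (kf xf13 yf18 zf29) (kf xf13 yf18 zf15) (kf xf16 yf5 zf10) (kf xf14 yf6 zf10) (kf xf13 yf18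 zf32) (kf xf16 yf5 zf15) (kf xf13 yf18 zf18) (kf xf16 yf5 zf18) (kf xf13 yf18 zf35) (kf xf13 yf18 zf20) (kf xf16 yf5 zf21) (kf xf16 yf5 zf22) (kf xf14 yf7 zf39) (kf xf13 yf18 zf22) (kf xf16 yf5 zf26) (kf xf13 yf18 zf39) (kf xf14 yf7 zf43) (kf xf14 yf7 zf44) (kf xf13 yf18 zf26) (kf xf16 yf5 zf31) (kf xf13 yf18 zf28) (kf xf16 yf5 zf33) (kf xf16 yf5 zf9)) (@D3.rec (fun _ => Pt) (kf xf13 yf18 zf31) (kf xf16 yf5 zf35) (kf xf16 yf5 zf14) (kf xf13 yf18 zf34) (kf xf16 yf5 zf36) (kf xf16 yf5 zf20) (kf xf13 yf18 zf47) (kf xf13 yf18 zf38) (kf xf16 yf5 zf40) (kf xf16 yf5 zf43) (kf xf13 yf19 zf0) (kf xf13 yf19 zf1) (kf xf13 yf18 zf43) (kf xf16 yf5 zf46) (kf xf16 yf1 zf21) (kf xf13 yf19 zf3) (kf xf16 yf5 zf39) (kf xf13 yf18 zf49) (kf xf16 yf5 zf49) (kf xf16 yf3 zf24)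 (kf xf13 yf18 zf50) (kf xf16 yf5 zf44) (kf xf16 yf5 zf45) (kf xf13 yf19 zf5) (kf xf13 yf19 zf10) (kf xf13 yf19 zf9) (kf xf16 yf2 zf30) (kf xf16 yf6 zf3) (kf xf16 yf6 zf1) (kf xf15 yf1 zf29) (kf xf15 yf1 zf30) (kf xf15 yf1 zf31) (kf xf13 yf19 zf27) (kf xf15 yf1 zf33) (kf xf15 yf1 zf34) (kf xf13 yf19 zf28) (kf xf15 yf1 zf36) (kf xf15 yf1 zf37) (kf xf15 yf1 zf38) (kf xf13 yf19 zf29) (kf xf15 yf1 zf40) (kf xf15 yf1 zf41) (kf xf15 yf1 zf42) (kf xf16 yf6 zf19) (kf xf15 yf1 zf44) (kf xf13 yf19 zf30) (kf xf15 yf1 zf46) (kf xf13 yf19 zf36) (kf xf15 yf24 zf16) (kf xf13 yf19 zf44) (kf xf13 yf26 zf30)) (@D3.rec (fun _ => Pt) (kf xf13 yf19 zf45) (kf xf15 yf24 zf17) (kf xf13 yf19 zf46) (kf xf15 yf26 zf50) (kf xf16 yf6 zf21) (kf xf16 yf6 zf23) (kf xf14 yf2 zf25) (kf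 xf16 yf2 zf42) (kf xf15 yf2 zf8) (kf xf16 yf2 zf15) (kf xf13 yf20 zf5) (kf xf13 yf20 zf2) (kf xf16 yf6 zf30) (kf xf16 yf2 zf32) (kf xf13 yf20 zf7) (kf xf16 yf6 zf33) (kf xf16 yf2 zf33) (kf xf13 yf20 zf11) (kf xf16 yf6 zf35) (kf xf15 yf2 zf19) (kf xf16 yf4 zf30) (kf xf15 yf2 zf21) (kf xf13 yf20 zf15) (kf xf16 yf6 zf40) (kf xf15 yf2 zf24) (kf xf16 yf6 zf42) (kf xf15 yf2 zf26) (kf xf13 yf20 zf19) (kf xf16 yf6 zf45) (kf xf13 yf20 zf26) (kf xf13 yf20 zf22) (kf xf16 yf6 zf47) (kf xf13 yf20 zf25) (kf xf16 yf6 zf49) (kf xf13 yf20 zf28) (kf xf16 yf7 zf0) (kf xf15 yf23 zf38) (kf xf15 yf2 zf37) (kf xf13 yf20 zf31) (kf xf16 yf7 zf3) (kf xf15 yf2 zf40) (kf xf14 yf8 zf41) (kf xf13 yf20 zf47) (kf xf13 yf20 zf36) (kf xf16 yf7 zf6) (kf xf14 yf1 zf41) (kf xf13 yf20 zf50)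 (kf xf14 yf8 zf45) (kf xf13 yf20 zf42) (kf xf16 yf7 zf10) (kf xf13 yf21 zf30)) (@D3.rec (fun _ => Pt) (kf xf13 yf21 zf34) (kf xf13 yf20 zf46) (kf xf16 yf7 zf14) (kf xf13 yf20 zf49) (kf xf16 yf7 zf16) (kf xf13 yf21 zf1) (kf xf13 yf21 zf6) (kf xf13 yf21 zf7) (kf xf13 yf21 zf5) (kf xf16 yf7 zf19) (kf xf16 yf7 zf17) (kf xf16 yf7 zf18) (kf xf15 yf3 zf12) (kf xf13 yf21 zf12) (kf xf13 yf21 zf17) (kf xf13 yf21 zf18) (kf xf13 yf21 zf16) (kf xf13 yf25 zf30) (kf xf16 yf7 zf24) (kf xf14 yf8 zf49) (kf xf15 yf23 zf34) (kf xf13 yf21 zf25) (kf xf15 yf23 zf39) (kf xf13 yf21 zf26) (kf xf16 yf7 zf28) (kf xf16 yf1 zf45) (kf xf15 yf3 zf26) (kf xf15 yf23 zf26) (kf xf13 yf21 zf36) (kf xf16 yf7 zf12) (kf xf13 yf21 zf37) (kf xf14 yf8 zf43) (kf xf15 yf23 zf28) (kf xf13 yf21 zf38)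 (kf xf16 yf7 zf13) (kf xf16 yf7 zf33) (kf xf16 yf7 zf37) (kf xf16 yf7 zf40) (kf xf15 yf3 zf38) (kf xf16 yf7 zf43) (kf xf15 yf3 zf40) (kf xf13 yf21 zf43) (kf xf16 yf7 zf46) (kf xf15 yf3 zf43) (kf xf16 yf7 zf48) (kf xf15 yf3 zf45) (kf xf13 yf21 zf47) (kf xf16 yf8 zf1) (kf xf13 yf22 zf3) (kf xf13 yf21 zf50) (kf xf16 yf8 zf3)) (@D3.rec (fun _ => Pt) (kf xf15 yf4 zf0) (kf xf13 yf22 zf2) (kf xf16 yf8 zf6) (kf xf13 yf22 zf5) (kf xf16 yf8 zf8) (kf xf15 yf22 zf25) (kf xf16 yf8 zf10) (kf xf15 yf4 zf7) (kf xf13 yf22 zf8) (kf xf16 yf8 zf13) (kf xf15 yf4 zf10) (kf xf16 yf8 zf15) (kf xf13 yf22 zf10) (kf xf16 yf8 zf18) (kf xf13 yf22 zf25) (kf xf16 yf4 zf25) (kf xf13 yf22 zf13) (kf xf16 yf8 zf21) (kf xf15 yf24 zf2) (kf xf15 yf24 zf3) (kf xf13 yf22 zf29) (kf xf13 yf22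 zf17) (kf xf16 yf8 zf26) (kf xf16 yf8 zf27) (kf xf13 yf22 zf19) (kf xf16 yf8 zf30) (kf xf13 yf22 zf22) (kf xf16 yf8 zf32) (kf xf15 yf4 zf28) (kf xf13 yf22 zf24) (kf xf16 yf8 zf35) (kf xf15 yf4 zf31) (kf xf13 yf22 zf28) (kf xf16 yf8 zf38) (kf xf13 yf22 zf31) (kf xf16 yf8 zf40) (kf xf13 yf22 zf33) (kf xf16 yf8 zf42) (kf xf15 yf23 zf6) (kf xf15 yf4 zf39) (kf xf13 yf22 zf38) (kf xf16 yf8 zf45) (kf xf13 yf22 zf40) (kf xf16 yf6 zf34) (kf xf13 yf26 zf2) (kf xf15 yf4 zf45) (kf xf15 yf4 zf46) (kf xf15 yf4 zf47) (kf xf15 yf4 zf48) (kf xf15 yf4 zf49) (kf xf15 yf4 zf50)) (@D3.rec (fun _ => Pt) (kf xf15 yf5 zf0) (kf xf15 yf25 zf14) (kf xf14 yf3 zf32) (kf xf15 yf5 zf3) (kf xf16 yf9 zf6) (kf xf15 yf5 zf5) (kf xf13 yf23 zf4) (kf xf16 yf9 zf10) (kf xf15 yf5 zf8) (kf xf15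 yf5 zf9) (kf xf16 yf9 zf15) (kf xf15 yf5 zf11) (kf xf16 yf9 zf18) (kf xf13 yf23 zf7) (kf xf16 yf9 zf22) (kf xf15 yf5 zf15) (kf xf14 yf3 zf4) (kf xf13 yf23 zf10) (kf xf16 yf9 zf26) (kf xf15 yf25 zf5) (kf xf15 yf5 zf20) (kf xf13 yf23 zf13) (kf xf16 yf9 zf31) (kf xf15 yf5 zf23) (kf xf15 yf25 zf35) (kf xf13 yf23 zf30) (kf xf13 yf23 zf16) (kf xf16 yf9 zf36) (kf xf13 yf23 zf33) (kf xf16 yf9 zf30) (kf xf13 yf23 zf19) (kf xf16 yf9 zf40) (kf xf15 yf25 zf45) (kf xf15 yf25 zf46) (kf xf13 yf23 zf37) (kf xf13 yf23 zf23) (kf xf16 yf9 zf44) (kf xf16 yf9 zf45) (kf xf14 yf10 zf47) (kf xf13 yf23 zf25) (kf xf16 yf9 zf49) (kf xf14 yf10 zf50) (kf xf14 yf11 zf0) (kf xf13 yf23 zf29) (kf xf16 yf10 zf2) (kf xf16 yf9 zf34) (kf xf15 yf5 zf46) (kf xf13 yf23 zf32) (kf xf16 yf10 zf5)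 (kf xf15 yf5 zf49) (kf xf15 yf5 zf50)) (@D3.rec (fun _ => Pt) (kf xf13 yf23 zf36) (kf xf16 yf10 zf9) (kf xf13 yf23 zf45) (kf xf13 yf23 zf46) (kf xf13 yf23 zf40) (kf xf16 yf10 zf13) (kf xf13 yf23 zf49) (kf xf13 yf23 zf50) (kf xf13 yf23 zf44) (kf xf16 yf10 zf16) (kf xf16 yf10 zf11) (kf xf16 yf10 zf12) (kf xf16 yf10 zf14) (kf xf16 yf10 zf15) (kf xf13 yf24 zf1) (kf xf13 yf25 zf17) (kf xf15 yf25 zf9) (kf xf15 yf6 zf17) (kf xf15 yf25 zf48) (kf xf13 yf24 zf3) (kf xf16 yf10 zf26) (kf xf15 yf6 zf21) (kf xf13 yf24 zf15) (kf xf13 yf24 zf6) (kf xf16 yf10 zf30) (kf xf15 yf24 zf48) (kf xf13 yf24 zf35) (kf xf16 yf10 zf34) (kf xf13 yf24 zf9) (kf xf16 yf10 zf36) (kf xf13 yf24 zf38) (kf xf13 yf24 zf11) (kf xf16 yf10 zf40) (kf xf16 yf10 zf41) (kf xf16 yf10 zf25) (kf xf13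 yf24 zf13) (kf xf16 yf10 zf46) (kf xf13 yf24 zf42) (kf xf16 yf3 zf10) (kf xf16 yf10 zf29) (kf xf13 yf24 zf17) (kf xf16 yf11 zf0) (kf xf15 yf25 zf6) (kf xf13 yf24 zf47) (kf xf13 yf24 zf20) (kf xf16 yf11 zf4) (kf xf14 yf11 zf43) (kf xf13 yf24 zf22) (kf xf16 yf11 zf7) (kf xf13 yf25 zf0) (kf xf14 yf11 zf47)) (@D3.rec (fun _ => Pt) (kf xf13 yf24 zf25) (kf xf13 yf24 zf26) (kf xf16 yf11 zf13) (kf xf16 yf11 zf14) (kf xf14 yf12 zf1) (kf xf14 yf12 zf2) (kf xf13 yf24 zf29) (kf xf16 yf11 zf19) (kf xf16 yf11 zf22) (kf xf14 yf12 zf6) (kf xf14 yf12 zf7) (kf xf13 yf24 zf34) (kf xf16 yf11 zf25) (kf xf16 yf10 zf33) (kf xf13 yf24 zf37) (kf xf16 yf11 zf28) (kf xf16 yf10 zf38) (kf xf15 yf7 zf17) (kf xf15 yf7 zf18) (kf xf13 yf24 zf41) (kf xf16 yf11 zf32) (kf xf16 yf0 zf3) (kf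 xf15 yf7 zf22) (kf xf15 yf7 zf23) (kf xf13 yf24 zf46) (kf xf16 yf11 zf37) (kf xf13 yf25 zf10) (kf xf13 yf25 zf11) (kf xf13 yf24 zf50) (kf xf16 yf11 zf42) (kf xf13 yf25 zf14) (kf xf13 yf25 zf15) (kf xf13 yf25 zf4) (kf xf16 yf11 zf45) (kf xf16 yf11 zf47) (kf xf13 yf25 zf5) (kf xf13 yf25 zf19) (kf xf13 yf25 zf20) (kf xf13 yf25 zf9) (kf xf16 yf7 zf20) (kf xf16 yf12 zf0) (kf xf16 yf11 zf40) (kf xf16 yf11 zf41) (kf xf16 yf11 zf43) (kf xf16 yf11 zf44) (kf xf15 yf22 zf24) (kf xf16 yf11 zf48) (kf xf16 yf11 zf49) (kf xf14 yf2 zf26) (kf xf15 yf7 zf49) (kf xf15 yf7 zf50)) (@D3.rec (fun _ => Pt) (kf xf13 yf25 zf26) (kf xf16 yf7 zf23) (kf xf16 yf12 zf10) (kf xf13 yf25 zf32) (kf xf13 yf25 zf33) (kf xf15 yf24 zf27) (kf xf13 yf25 zf31) (kf xf16 yf7 zf26) (kf xf16 yf12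 zf16) (kf xf16 yf12 zf13) (kf xf13 yf26 zf3) (kf xf15 yf8 zf11) (kf xf15 yf8 zf12) (kf xf15 yf8 zf13) (kf xf15 yf26 zf2) (kf xf15 yf8 zf15) (kf xf16 yf6 zf22) (kf xf15 yf8 zf17) (kf xf15 yf8 zf18) (kf xf15 yf8 zf19) (kf xf16 yf12 zf24) (kf xf13 yf26 zf0) (kf xf15 yf8 zf22) (kf xf15 yf8 zf23) (kf xf15 yf8 zf24) (kf xf15 yf8 zf25) (kf xf14 yf2 zf42) (kf xf15 yf8 zf27) (kf xf14 yf4 zf14) (kf xf14 yf5 zf9) (kf xf15 yf8 zf30) (kf xf14 yf10 zf14) (kf xf14 yf11 zf3) (kf xf14 yf12 zf12) (kf xf15 yf8 zf34) (kf xf15 yf8 zf35) (kf xf15 yf24 zf50) (kf xf16 yf12 zf38) (kf xf13 yf26 zf34) (kf xf16 yf0 zf14) (kf xf13 yf26 zf44) (kf xf16 yf12 zf40) (kf xf14 yf6 zf42) (kf xf13 yf26 zf48) (kf xf14 yf7 zf2) (kf xf14 yf5 zf50) (kf xf14 yf0 zf4) (kf xf14 yf0 zf6) (kf xf16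 yf12 zf44) (kf xf14 yf0 zf9) (kf xf14 yf7 zf30)) (@D3.rec (fun _ => Pt) (kf xf14 yf7 zf25) (kf xf16 yf4 zf38) (kf xf14 yf0 zf37) (kf xf14 yf7 zf13) (kf xf14 yf0 zf30) (kf xf14 yf7 zf15) (kf xf14 yf0 zf20) (kf xf16 yf12 zf50) (kf xf14 yf0 zf33) (kf xf14 yf0 zf22) (kf xf16 yf13 zf1) (kf xf14 yf6 zf47) (kf xf14 yf0 zf24) (kf xf16 yf13 zf4) (kf xf15 yf21 zf33) (kf xf14 yf0 zf28) (kf xf16 yf13 zf7) (kf xf16 yf2 zf11) (kf xf14 yf0 zf32) (kf xf16 yf13 zf9) (kf xf14 yf0 zf41) (kf xf14 yf0 zf36) (kf xf16 yf13 zf12) (kf xf14 yf0 zf45) (kf xf16 yf1 zf22) (kf xf16 yf13 zf11) (kf xf14 yf0 zf43) (kf xf16 yf4 zf24) (kf xf15 yf9 zf28) (kf xf14 yf9 zf39) (kf xf14 yf1 zf43) (kf xf14 yf9 zf41) (kf xf14 yf1 zf44) (kf xf14 yf9 zf43) (kf xf14 yf1 zf5) (kf xf14 yf9 zf45) (kf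 xf14 yf10 zf4) (kf xf14 yf10 zf5) (kf xf14 yf1 zf17) (kf xf14 yf10 zf8) (kf xf14 yf1 zf18) (kf xf14 yf10 zf12) (kf xf14 yf1 zf19) (kf xf14 yf10 zf13) (kf xf15 yf26 zf48) (kf xf16 yf0 zf0) (kf xf16 yf0 zf4) (kf xf16 yf13 zf21) (kf xf16 yf13 zf23) (kf xf14 yf1 zf28) (kf xf14 yf1 zf29)) (@D3.rec (fun _ => Pt) (kf xf16 yf13 zf30) (kf xf15 yf26 zf49) (kf xf16 yf0 zf1) (kf xf16 yf13 zf31) (kf xf14 yf1 zf30) (kf xf14 yf8 zf38) (kf xf14 yf1 zf38) (kf xf14 yf8 zf40) (kf xf15 yf22 zf34) (kf xf15 yf22 zf35) (kf xf14 yf1 zf45) (kf xf16 yf7 zf8) (kf xf16 yf13 zf15) (kf xf16 yf13 zf36) (kf xf15 yf10 zf14) (kf xf16 yf11 zf10) (kf xf15 yf10 zf16) (kf xf14 yf1 zf48) (kf xf16 yf13 zf43) (kf xf15 yf10 zf19) (kf xf15 yf22 zf7) (kf xf14 yf2 zf13) (kf xf16 yf13 zf47) (kf xf14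 yf2 zf0) (kf xf16 yf13 zf49) (kf xf14 yf2 zf16) (kf xf14 yf2 zf3) (kf xf16 yf14 zf1) (kf xf15 yf22 zf12) (kf xf15 yf22 zf13) (kf xf14 yf2 zf19) (kf xf14 yf2 zf7) (kf xf16 yf14 zf6) (kf xf14 yf2 zf9) (kf xf16 yf14 zf8) (kf xf14 yf2 zf22) (kf xf14 yf2 zf12) (kf xf16 yf14 zf11) (kf xf16 yf13 zf46) (kf xf14 yf2 zf15) (kf xf16 yf14 zf14) (kf xf16 yf14 zf0) (kf xf14 yf2 zf18) (kf xf16 yf14 zf5) (kf xf14 yf2 zf21) (kf xf16 yf14 zf18) (kf xf16 yf14 zf19) (kf xf14 yf12 zf34) (kf xf15 yf10 zf48) (kf xf15 yf10 zf49) (kf xf14 yf2 zf43)) (@D3.rec (fun _ => Pt) (kf xf15 yf11 zf0) (kf xf15 yf11 zf1) (kf xf14 yf2 zf44) (kf xf14 yf2 zf45) (kf xf15 yf11 zf4) (kf xf15 yf11 zf5) (kf xf14 yf2 zf46) (kf xf15 yf11 zf7) (kf xf15 yf11 zf8) (kf xf16 yf14 zf31) (kf xf16 yf12 zf29)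 (kf xf16 yf14 zf22) (kf xf16 yf14 zf33) (kf xf16 yf14 zf34) (kf xf14 yf2 zf47) (kf xf14 yf4 zf37) (kf xf14 yf10 zf32) (kf xf14 yf11 zf4) (kf xf14 yf10 zf34) (kf xf14 yf10 zf35) (kf xf14 yf11 zf6) (kf xf14 yf10 zf37) (kf xf16 yf9 zf21) (kf xf15 yf11 zf23) (kf xf16 yf9 zf25) (kf xf15 yf11 zf25) (kf xf14 yf10 zf21) (kf xf14 yf3 zf20) (kf xf14 yf10 zf23) (kf xf14 yf10 zf24) (kf xf14 yf3 zf21) (kf xf14 yf10 zf26) (kf xf16 yf9 zf35) (kf xf14 yf3 zf11) (kf xf16 yf15 zf4) (kf xf14 yf3 zf24) (kf xf14 yf3 zf13) (kf xf16 yf8 zf23) (kf xf16 yf15 zf7) (kf xf14 yf3 zf15) (kf xf16 yf15 zf10) (kf xf14 yf3 zf27) (kf xf15 yf25 zf15) (kf xf14 yf3 zf19) (kf xf16 yf15 zf14) (kf xf16 yf14 zf48) (kf xf16 yf15 zf1) (kf xf14 yf3 zf23) (kf xf16 yf15 zf17) (kf xf16 yf15 zf6) (kf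 xf14 yf3 zf26)) (@D3.rec (fun _ => Pt) (kf xf14 yf3 zf33) (kf xf16 yf9 zf3) (kf xf14 yf3 zf34) (kf xf16 yf15 zf18) (kf xf15 yf12 zf4) (kf xf14 yf3 zf37) (kf xf16 yf15 zf21) (kf xf14 yf3 zf39) (kf xf16 yf15 zf23) (kf xf14 yf4 zf17) (kf xf14 yf3 zf41) (kf xf16 yf15 zf26) (kf xf16 yf15 zf27) (kf xf14 yf3 zf43) (kf xf16 yf15 zf30) (kf xf14 yf4 zf20) (kf xf14 yf3 zf46) (kf xf16 yf15 zf33) (kf xf14 yf3 zf47) (kf xf16 yf15 zf35) (kf xf14 yf4 zf24) (kf xf14 yf3 zf49) (kf xf16 yf10 zf39) (kf xf16 yf15 zf37) (kf xf14 yf10 zf38) (kf xf14 yf4 zf0) (kf xf16 yf15 zf41) (kf xf14 yf4 zf28) (kf xf14 yf9 zf46) (kf xf14 yf4 zf3) (kf xf14 yf4 zf4) (kf xf16 yf15 zf45) (kf xf16 yf15 zf46) (kf xf15 yf26 zf4) (kf xf15 yf26 zf5) (kf xf14 yf4 zf7) (kf xf16 yf16 zf0) (kf xf16 yf16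 zf3) (kf xf15 yf26 zf9) (kf xf15 yf26 zf10) (kf xf14 yf4 zf12) (kf xf16 yf16 zf6) (kf xf14 yf4 zf13) (kf xf16 yf16 zf8) (kf xf16 yf12 zf31) (kf xf14 yf4 zf16) (kf xf16 yf16 zf10) (kf xf16 yf15 zf25) (kf xf14 yf4 zf19) (kf xf16 yf16 zf12) (kf xf16 yf16 zf13)) (@D3.rec (fun _ => Pt) (kf xf14 yf4 zf23) (kf xf16 yf16 zf14) (kf xf14 yf4 zf38) (kf xf14 yf4 zf27) (kf xf16 yf16 zf17) (kf xf14 yf4 zf41) (kf xf14 yf4 zf42) (kf xf14 yf4 zf32) (kf xf14 yf4 zf33) (kf xf14 yf4 zf44) (kf xf14 yf11 zf16) (kf xf16 yf14 zf35) (kf xf16 yf16 zf16) (kf xf16 yf16 zf18) (kf xf16 yf16 zf19) (kf xf15 yf13 zf15) (kf xf14 yf5 zf10) (kf xf15 yf13 zf17) (kf xf15 yf13 zf18) (kf xf15 yf13 zf19) (kf xf16 yf16 zf28) (kf xf15 yf13 zf21) (kf xf15 yf13 zf22) (kf xf15 yf13 zf23) (kf xf16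 yf12 zf15) (kf xf15 yf13 zf25) (kf xf15 yf13 zf26) (kf xf16 yf16 zf34) (kf xf14 yf5 zf8) (kf xf14 yf5 zf11) (kf xf16 yf0 zf16) (kf xf14 yf5 zf25) (kf xf16 yf0 zf40) (kf xf16 yf0 zf19) (kf xf16 yf0 zf27) (kf xf16 yf16 zf39) (kf xf14 yf5 zf21) (kf xf16 yf0 zf32) (kf xf16 yf0 zf44) (kf xf16 yf0 zf43) (kf xf16 yf0 zf36) (kf xf14 yf5 zf31) (kf xf15 yf20 zf33) (kf xf16 yf0 zf17) (kf xf15 yf20 zf36) (kf xf16 yf0 zf25) (kf xf14 yf5 zf37) (kf xf14 yf6 zf17) (kf xf14 yf5 zf45) (kf xf14 yf6 zf12) (kf xf14 yf6 zf1)) (@D3.rec (fun _ => Pt) (kf xf16 yf4 zf31) (kf xf14 yf6 zf2) (kf xf16 yf12 zf43) (kf xf16 yf16 zf43) (kf xf16 yf3 zf50) (kf xf14 yf6 zf6) (kf xf14 yf6 zf7) (kf xf16 yf16 zf46) (kf xf16 yf16 zf48) (kf xf16 yf5 zf12) (kf xf16 yf5 zf13) (kf xf14 yf6 zf14)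 (kf xf16 yf16 zf41) (kf xf16 yf17 zf1) (kf xf16 yf2 zf5) (kf xf16 yf4 zf0) (kf xf16 yf16 zf40) (kf xf14 yf6 zf19) (kf xf16 yf17 zf5) (kf xf16 yf17 zf6) (kf xf14 yf6 zf21) (kf xf16 yf17 zf9) (kf xf14 yf6 zf27) (kf xf14 yf6 zf24) (kf xf16 yf17 zf12) (kf xf14 yf6 zf26) (kf xf16 yf17 zf14) (kf xf16 yf17 zf16) (kf xf16 yf2 zf6) (kf xf16 yf3 zf25) (kf xf14 yf6 zf33) (kf xf15 yf14 zf31) (kf xf15 yf14 zf32) (kf xf15 yf14 zf33) (kf xf16 yf17 zf21) (kf xf14 yf6 zf38) (kf xf16 yf17 zf22) (kf xf14 yf11 zf34) (kf xf15 yf21 zf21) (kf xf14 yf6 zf44) (kf xf16 yf12 zf41) (kf xf16 yf17 zf25) (kf xf16 yf3 zf23) (kf xf16 yf13 zf3) (kf xf15 yf21 zf40) (kf xf15 yf21 zf31) (kf xf15 yf21 zf30) (kf xf14 yf7 zf3) (kf xf16 yf12 zf42) (kf xf16 yf17 zf32) (kf xf16 yf17 zf33)) (@D3.rec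 (fun _ => Pt) (kf xf14 yf7 zf9) (kf xf16 yf2 zf10) (kf xf14 yf7 zf16) (kf xf15 yf22 zf5) (kf xf15 yf22 zf26) (kf xf16 yf12 zf48) (kf xf14 yf7 zf17) (kf xf16 yf12 zf49) (kf xf16 yf17 zf35) (kf xf16 yf17 zf42) (kf xf16 yf2 zf9) (kf xf16 yf1 zf7) (kf xf15 yf21 zf20) (kf xf14 yf7 zf24) (kf xf16 yf17 zf45) (kf xf15 yf21 zf16) (kf xf14 yf7 zf47) (kf xf15 yf21 zf19) (kf xf14 yf7 zf48) (kf xf16 yf12 zf46) (kf xf16 yf2 zf38) (kf xf14 yf7 zf49) (kf xf15 yf23 zf36) (kf xf14 yf7 zf35) (kf xf16 yf18 zf4) (kf xf14 yf8 zf1) (kf xf15 yf24 zf0) (kf xf15 yf24 zf13) (kf xf16 yf5 zf25) (kf xf14 yf7 zf41) (kf xf16 yf18 zf10) (kf xf16 yf18 zf13) (kf xf16 yf5 zf29) (kf xf16 yf5 zf30) (kf xf14 yf7 zf46) (kf xf16 yf18 zf16) (kf xf16 yf17 zf48) (kf xf16 yf18 zf2) (kf xf14 yf8 zf0)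 (kf xf16 yf17 zf44) (kf xf16 yf18 zf18) (kf xf14 yf8 zf14) (kf xf14 yf8 zf4) (kf xf14 yf8 zf5) (kf xf16 yf18 zf19) (kf xf14 yf8 zf30) (kf xf14 yf8 zf28) (kf xf16 yf6 zf2) (kf xf14 yf8 zf29) (kf xf14 yf13 zf11) (kf xf14 yf13 zf12)) (@D3.rec (fun _ => Pt) (kf xf16 yf18 zf25) (kf xf14 yf13 zf13) (kf xf14 yf13 zf14) (kf xf16 yf12 zf14) (kf xf14 yf8 zf27) (kf xf14 yf8 zf31) (kf xf14 yf8 zf33) (kf xf14 yf8 zf36) (kf xf16 yf18 zf29) (kf xf15 yf16 zf9) (kf xf16 yf13 zf32) (kf xf16 yf13 zf33) (kf xf16 yf7 zf5) (kf xf16 yf7 zf35) (kf xf15 yf16 zf14) (kf xf16 yf7 zf9) (kf xf14 yf8 zf48) (kf xf16 yf18 zf36) (kf xf14 yf9 zf0) (kf xf16 yf18 zf38) (kf xf15 yf16 zf20) (kf xf14 yf9 zf11) (kf xf14 yf9 zf3) (kf xf16 yf18 zf41) (kf xf14 yf9 zf5) (kf xf16 yf18 zf43) (kf xf14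 yf9 zf26) (kf xf14 yf9 zf7) (kf xf16 yf18 zf45) (kf xf14 yf9 zf9) (kf xf16 yf18 zf47) (kf xf16 yf18 zf40) (kf xf14 yf9 zf13) (kf xf16 yf18 zf50) (kf xf14 yf9 zf14) (kf xf16 yf19 zf1) (kf xf14 yf9 zf16) (kf xf16 yf19 zf3) (kf xf14 yf9 zf19) (kf xf16 yf19 zf5) (kf xf14 yf9 zf21) (kf xf16 yf19 zf7) (kf xf14 yf9 zf23) (kf xf16 yf19 zf9) (kf xf14 yf9 zf25) (kf xf16 yf19 zf11) (kf xf14 yf9 zf28) (kf xf16 yf19 zf13) (kf xf15 yf16 zf48) (kf xf14 yf9 zf32) (kf xf16 yf19 zf14)) (@D3.rec (fun _ => Pt) (kf xf14 yf9 zf34) (kf xf15 yf17 zf1) (kf xf15 yf17 zf2) (kf xf16 yf13 zf14) (kf xf14 yf14 zf4) (kf xf16 yf13 zf16) (kf xf16 yf13 zf17) (kf xf16 yf13 zf18) (kf xf16 yf15 zf44) (kf xf15 yf17 zf9) (kf xf14 yf9 zf49) (kf xf16 yf19 zf22) (kf xf15 yf25 zf49) (kf xf14 yf10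 zf15) (kf xf15 yf26 zf3) (kf xf16 yf13 zf19) (kf xf16 yf13 zf20) (kf xf14 yf10 zf16) (kf xf15 yf25 zf37) (kf xf16 yf13 zf22) (kf xf15 yf25 zf0) (kf xf15 yf25 zf39) (kf xf16 yf13 zf24) (kf xf16 yf13 zf26) (kf xf16 yf12 zf33) (kf xf14 yf13 zf25) (kf xf14 yf13 zf26) (kf xf16 yf9 zf19) (kf xf14 yf12 zf31) (kf xf16 yf14 zf46) (kf xf16 yf14 zf47) (kf xf14 yf14 zf5) (kf xf16 yf14 zf49) (kf xf16 yf14 zf50) (kf xf16 yf15 zf0) (kf xf14 yf14 zf6) (kf xf16 yf15 zf2) (kf xf14 yf10 zf27) (kf xf16 yf19 zf44) (kf xf15 yf17 zf39) (kf xf14 yf10 zf30) (kf xf16 yf19 zf46) (kf xf16 yf14 zf36) (kf xf14 yf11 zf5) (kf xf16 yf14 zf38) (kf xf16 yf14 zf39) (kf xf16 yf14 zf41) (kf xf16 yf15 zf40) (kf xf14 yf11 zf7) (kf xf16 yf9 zf9) (kf xf14 yf10 zf40)) (@D3.rec (fun _ => Pt) (kf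 xf16 yf20 zf3) (kf xf14 yf10 zf42) (kf xf16 yf20 zf5) (kf xf16 yf9 zf4) (kf xf14 yf10 zf45) (kf xf14 yf10 zf46) (kf xf16 yf20 zf9) (kf xf16 yf20 zf10) (kf xf16 yf9 zf14) (kf xf16 yf9 zf48) (kf xf14 yf10 zf49) (kf xf16 yf20 zf15) (kf xf16 yf10 zf0) (kf xf16 yf10 zf1) (kf xf14 yf11 zf2) (kf xf16 yf20 zf19) (kf xf16 yf12 zf34) (kf xf16 yf14 zf37) (kf xf16 yf14 zf40) (kf xf14 yf11 zf9) (kf xf16 yf20 zf22) (kf xf14 yf11 zf17) (kf xf14 yf11 zf18) (kf xf14 yf11 zf13) (kf xf14 yf11 zf20) (kf xf15 yf23 zf7) (kf xf16 yf20 zf24) (kf xf16 yf20 zf25) (kf xf14 yf11 zf22) (kf xf16 yf20 zf28) (kf xf14 yf11 zf35) (kf xf14 yf11 zf26) (kf xf16 yf20 zf31) (kf xf14 yf11 zf28) (kf xf16 yf20 zf33) (kf xf15 yf24 zf14) (kf xf14 yf11 zf32) (kf xf16 yf20 zf36) (kf xf16 yf20 zf39)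 (kf xf16 yf17 zf23) (kf xf16 yf20 zf30) (kf xf14 yf11 zf37) (kf xf16 yf20 zf42) (kf xf14 yf11 zf39) (kf xf16 yf20 zf44) (kf xf16 yf11 zf3) (kf xf14 yf11 zf42) (kf xf16 yf11 zf6) (kf xf14 yf11 zf45) (kf xf16 yf20 zf48) (kf xf16 yf11 zf11)) (@D3.rec (fun _ => Pt) (kf xf16 yf11 zf12) (kf xf14 yf11 zf50) (kf xf14 yf12 zf0) (kf xf16 yf21 zf1) (kf xf16 yf21 zf2) (kf xf16 yf11 zf17) (kf xf16 yf11 zf18) (kf xf14 yf12 zf4) (kf xf16 yf21 zf7) (kf xf16 yf21 zf11) (kf xf14 yf12 zf5) (kf xf16 yf11 zf23) (kf xf16 yf11 zf24) (kf xf14 yf12 zf9) (kf xf16 yf21 zf14) (kf xf14 yf12 zf11) (kf xf16 yf21 zf16) (kf xf14 yf12 zf14) (kf xf16 yf21 zf17) (kf xf14 yf12 zf16) (kf xf16 yf21 zf20) (kf xf14 yf12 zf17) (kf xf15 yf19 zf22) (kf xf14 yf12 zf21) (kf xf14 yf12 zf32) (kf xf14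 yf12 zf24) (kf xf16 yf21 zf23) (kf xf14 yf12 zf35) (kf xf14 yf12 zf36) (kf xf16 yf21 zf27) (kf xf14 yf12 zf28) (kf xf16 yf19 zf35) (kf xf16 yf21 zf22) (kf xf16 yf21 zf25) (kf xf15 yf19 zf34) (kf xf14 yf14 zf7) (kf xf15 yf19 zf36) (kf xf14 yf14 zf2) (kf xf15 yf19 zf38) (kf xf15 yf19 zf39) (kf xf14 yf13 zf44) (kf xf15 yf19 zf41) (kf xf15 yf19 zf42) (kf xf14 yf14 zf8) (kf xf15 yf19 zf44) (kf xf15 yf19 zf45) (kf xf15 yf19 zf46) (kf xf16 yf12 zf11) (kf xf15 yf19 zf48) (kf xf15 yf19 zf49) (kf xf15 yf19 zf50)) (@D3.rec (fun _ => Pt) (kf xf15 yf20 zf0) (kf xf16 yf18 zf23) (kf xf16 yf18 zf26) (kf xf14 yf13 zf22) (kf xf14 yf13 zf23) (kf xf15 yf20 zf5) (kf xf14 yf13 zf31) (kf xf15 yf20 zf7) (kf xf15 yf20 zf8) (kf xf14 yf13 zf36) (kf xf14 yf13 zf37) (kf xf16 yf21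 zf46) (kf xf15 yf20 zf12) (kf xf14 yf13 zf40) (kf xf16 yf21 zf50) (kf xf16 yf21 zf33) (kf xf16 yf22 zf0) (kf xf14 yf13 zf41) (kf xf16 yf21 zf43) (kf xf14 yf14 zf3) (kf xf14 yf13 zf49) (kf xf15 yf24 zf29) (kf xf16 yf22 zf2) (kf xf14 yf14 zf0) (kf xf16 yf19 zf17) (kf xf16 yf19 zf38) (kf xf16 yf21 zf36) (kf xf14 yf14 zf12) (kf xf14 yf22 zf13) (kf xf14 yf22 zf32) (kf xf14 yf22 zf20) (kf xf14 yf22 zf22) (kf xf14 yf22 zf24) (kf xf15 yf13 zf42) (kf xf14 yf22 zf16) (kf xf14 yf14 zf31) (kf xf15 yf13 zf44) (kf xf14 yf22 zf2) (kf xf14 yf14 zf34) (kf xf16 yf22 zf7) (kf xf14 yf14 zf38) (kf xf14 yf14 zf37) (kf xf16 yf22 zf9) (kf xf14 yf25 zf37) (kf xf14 yf14 zf40) (kf xf16 yf22 zf11) (kf xf14 yf14 zf49) (kf xf14 yf14 zf42) (kf xf16 yf22 zf13) (kf xf14 yf15 zf4) (kf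 xf14 yf14 zf45)) (@D3.rec (fun _ => Pt) (kf xf16 yf22 zf15) (kf xf14 yf14 zf48) (kf xf16 yf22 zf17) (kf xf14 yf25 zf39) (kf xf14 yf15 zf0) (kf xf16 yf22 zf19) (kf xf15 yf0 zf24) (kf xf14 yf15 zf3) (kf xf16 yf22 zf21) (kf xf14 yf15 zf6) (kf xf16 yf22 zf22) (kf xf14 yf22 zf15) (kf xf14 yf26 zf13) (kf xf14 yf26 zf17) (kf xf14 yf15 zf14) (kf xf16 yf22 zf24) (kf xf15 yf15 zf15) (kf xf14 yf15 zf20) (kf xf14 yf23 zf34) (kf xf15 yf15 zf17) (kf xf15 yf15 zf12) (kf xf15 yf14 zf38) (kf xf14 yf15 zf33) (kf xf14 yf15 zf31) (kf xf16 yf22 zf29) (kf xf14 yf15 zf37) (kf xf14 yf15 zf36) (kf xf16 yf22 zf32) (kf xf16 yf22 zf31) (kf xf14 yf15 zf39) (kf xf15 yf14 zf46) (kf xf15 yf14 zf45) (kf xf14 yf26 zf41) (kf xf15 yf9 zf14) (kf xf14 yf15 zf46) (kf xf16 yf22 zf38) (kf xf14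 yf16 zf2) (kf xf14 yf16 zf3) (kf xf14 yf15 zf50) (kf xf16 yf22 zf42) (kf xf15 yf14 zf44) (kf xf16 yf22 zf40) (kf xf16 yf22 zf41) (kf xf14 yf24 zf33) (kf xf14 yf16 zf10) (kf xf14 yf16 zf9) (kf xf16 yf22 zf25) (kf xf16 yf22 zf46) (kf xf16 yf22 zf48) (kf xf15 yf21 zf49) (kf xf15 yf21 zf50)) (@D3.rec (fun _ => Pt) (kf xf16 yf23 zf3) (kf xf15 yf22 zf1) (kf xf14 yf16 zf15) (kf xf16 yf23 zf6) (kf xf15 yf22 zf4) (kf xf15 yf15 zf3) (kf xf15 yf22 zf6) (kf xf15 yf10 zf20) (kf xf14 yf16 zf27) (kf xf14 yf16 zf20) (kf xf16 yf23 zf14) (kf xf14 yf16 zf30) (kf xf15 yf10 zf28) (kf xf15 yf10 zf29) (kf xf14 yf16 zf31) (kf xf14 yf16 zf25) (kf xf16 yf23 zf20) (kf xf16 yf23 zf12) (kf xf15 yf22 zf18) (kf xf14 yf16 zf29) (kf xf16 yf23 zf24) (kf xf16 yf23 zf19) (kf xf14 yf16 zf33)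 (kf xf16 yf23 zf27) (kf xf15 yf7 zf45) (kf xf15 yf4 zf5) (kf xf15 yf15 zf4) (kf xf15 yf22 zf27) (kf xf14 yf16 zf38) (kf xf16 yf23 zf30) (kf xf14 yf17 zf2) (kf xf14 yf26 zf50) (kf xf14 yf16 zf41) (kf xf16 yf23 zf34) (kf xf15 yf10 zf8) (kf xf15 yf10 zf9) (kf xf14 yf17 zf6) (kf xf14 yf16 zf45) (kf xf16 yf23 zf40) (kf xf16 yf23 zf41) (kf xf14 yf16 zf47) (kf xf16 yf23 zf44) (kf xf14 yf17 zf9) (kf xf14 yf16 zf50) (kf xf16 yf23 zf47) (kf xf14 yf17 zf1) (kf xf16 yf23 zf49) (kf xf16 yf23 zf32) (kf xf15 yf22 zf48) (kf xf14 yf17 zf5) (kf xf16 yf24 zf2)) (@D3.rec (fun _ => Pt) (kf xf16 yf23 zf39) (kf xf14 yf17 zf8) (kf xf16 yf24 zf4) (kf xf16 yf24 zf7) (kf xf14 yf17 zf11) (kf xf16 yf24 zf8) (kf xf15 yf4 zf38) (kf xf15 yf18 zf25) (kf xf14 yf17 zf14) (kf xf15 yf23 zf9)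 (kf xf14 yf17 zf18) (kf xf16 yf24 zf12) (kf xf14 yf17 zf20) (kf xf14 yf21 zf0) (kf xf16 yf24 zf14) (kf xf14 yf17 zf30) (kf xf15 yf23 zf16) (kf xf15 yf23 zf17) (kf xf15 yf23 zf18) (kf xf14 yf17 zf31) (kf xf15 yf23 zf20) (kf xf15 yf23 zf21) (kf xf15 yf23 zf22) (kf xf16 yf24 zf24) (kf xf16 yf24 zf25) (kf xf14 yf17 zf32) (kf xf15 yf3 zf27) (kf xf14 yf17 zf39) (kf xf15 yf3 zf32) (kf xf14 yf17 zf40) (kf xf16 yf24 zf27) (kf xf15 yf23 zf31) (kf xf16 yf24 zf31) (kf xf15 yf23 zf33) (kf xf15 yf3 zf20) (kf xf14 yf18 zf0) (kf xf15 yf15 zf22) (kf xf14 yf18 zf1) (kf xf15 yf2 zf36) (kf xf15 yf3 zf22) (kf xf14 yf18 zf2) (kf xf14 yf17 zf49) (kf xf16 yf24 zf40) (kf xf16 yf24 zf35) (kf xf16 yf24 zf39) (kf xf14 yf18 zf4) (kf xf16 yf24 zf43) (kf xf14 yf18 zf8) (kf xf14 yf18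 zf9) (kf xf16 yf24 zf45) (kf xf15 yf23 zf50)) (@D3.rec (fun _ => Pt) (kf xf15 yf15 zf26) (kf xf14 yf18 zf18) (kf xf15 yf4 zf18) (kf xf15 yf4 zf19) (kf xf14 yf18 zf19) (kf xf14 yf18 zf16) (kf xf16 yf25 zf0) (kf xf16 yf24 zf50) (kf xf14 yf18 zf21) (kf xf16 yf25 zf2) (kf xf14 yf18 zf24) (kf xf16 yf25 zf3) (kf xf15 yf24 zf12) (kf xf15 yf15 zf27) (kf xf15 yf18 zf35) (kf xf14 yf18 zf33) (kf xf15 yf1 zf48) (kf xf15 yf2 zf1) (kf xf14 yf18 zf32) (kf xf16 yf25 zf10) (kf xf14 yf18 zf38) (kf xf14 yf18 zf39) (kf xf14 yf18 zf37) (kf xf16 yf25 zf12) (kf xf16 yf25 zf13) (kf xf14 yf18 zf44) (kf xf14 yf18 zf45) (kf xf15 yf8 zf5) (kf xf16 yf25 zf16) (kf xf15 yf20 zf21) (kf xf15 yf24 zf30) (kf xf16 yf25 zf21) (kf xf15 yf24 zf32) (kf xf14 yf18 zf48) (kf xf16 yf25 zf25) (kf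 xf15 yf24 zf35) (kf xf15 yf24 zf36) (kf xf16 yf23 zf16) (kf xf15 yf24 zf38) (kf xf16 yf23 zf36) (kf xf14 yf19 zf0) (kf xf16 yf25 zf32) (kf xf15 yf24 zf42) (kf xf14 yf19 zf3) (kf xf16 yf25 zf35) (kf xf14 yf19 zf5) (kf xf16 yf25 zf38) (kf xf15 yf24 zf47) (kf xf15 yf6 zf25) (kf xf14 yf19 zf22) (kf xf15 yf8 zf36)) (@D3.rec (fun _ => Pt) (kf xf15 yf17 zf20) (kf xf14 yf19 zf23) (kf xf16 yf25 zf37) (kf xf14 yf19 zf11) (kf xf16 yf25 zf46) (kf xf15 yf5 zf19) (kf xf15 yf6 zf42) (kf xf14 yf19 zf27) (kf xf14 yf19 zf15) (kf xf15 yf6 zf16) (kf xf16 yf26 zf0) (kf xf14 yf19 zf17) (kf xf16 yf26 zf3) (kf xf14 yf19 zf30) (kf xf15 yf5 zf1) (kf xf15 yf11 zf42) (kf xf14 yf19 zf21) (kf xf16 yf26 zf8) (kf xf16 yf25 zf41) (kf xf16 yf25 zf44) (kf xf15 yf25 zf20) (kf xf14 yf19 zf26)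 (kf xf16 yf26 zf13) (kf xf16 yf25 zf50) (kf xf14 yf19 zf29) (kf xf16 yf26 zf15) (kf xf14 yf19 zf37) (kf xf14 yf19 zf38) (kf xf14 yf19 zf34) (kf xf16 yf26 zf18) (kf xf16 yf26 zf16) (kf xf16 yf26 zf17) (kf xf14 yf19 zf49) (kf xf14 yf19 zf42) (kf xf16 yf26 zf23) (kf xf15 yf5 zf24) (kf xf14 yf20 zf17) (kf xf15 yf17 zf18) (kf xf14 yf20 zf18) (kf xf15 yf17 zf21) (kf xf14 yf20 zf19) (kf xf16 yf26 zf21) (kf xf16 yf26 zf22) (kf xf14 yf20 zf0) (kf xf16 yf26 zf33) (kf xf15 yf5 zf32) (kf xf15 yf5 zf33) (kf xf14 yf20 zf24) (kf xf15 yf6 zf18) (kf xf15 yf17 zf12) (kf xf14 yf20 zf5)) (@D3.rec (fun _ => Pt) (kf xf16 yf26 zf40) (kf xf14 yf20 zf27) (kf xf15 yf8 zf14) (kf xf15 yf17 zf14) (kf xf15 yf12 zf33) (kf xf15 yf12 zf34) (kf xf14 yf20 zf11) (kf xf16 yf26 zf47) (kf xf16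 yf26 zf50) (kf xf15 yf12 zf38) (kf xf15 yf12 zf39) (kf xf14 yf20 zf16) (kf xf17 yf0 zf2) (kf xf16 yf26 zf26) (kf xf16 yf26 zf28) (kf xf17 yf0 zf7) (kf xf15 yf26 zf16) (kf xf15 yf26 zf17) (kf xf14 yf20 zf23) (kf xf17 yf0 zf10) (kf xf16 yf26 zf37) (kf xf14 yf20 zf26) (kf xf17 yf0 zf13) (kf xf14 yf20 zf38) (kf xf14 yf20 zf39) (kf xf14 yf20 zf31) (kf xf14 yf20 zf41) (kf xf14 yf20 zf42) (kf xf14 yf20 zf35) (kf xf16 yf24 zf9) (kf xf17 yf0 zf18) (kf xf17 yf0 zf14) (kf xf17 yf0 zf15) (kf xf17 yf0 zf16) (kf xf15 yf26 zf34) (kf xf15 yf26 zf35) (kf xf14 yf20 zf47) (kf xf16 yf24 zf13) (kf xf17 yf0 zf22) (kf xf14 yf21 zf2) (kf xf14 yf21 zf3) (kf xf16 yf24 zf44) (kf xf14 yf21 zf1) (kf xf16 yf24 zf15) (kf xf17 yf0 zf24) (kf xf14 yf21 zf18) (kf xf14 yf21 zf19) (kf xf17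 yf0 zf30) (kf xf15 yf9 zf44) (kf xf15 yf10 zf1) (kf xf15 yf2 zf3))
def f_f_16 : D2 → D3 → Pt := @D2.rec (fun _ => D3 → Pt) (@D3.rec (fun _ => Pt) (kf xf15 yf9 zf45) (kf xf15 yf10 zf2) (kf xf17 yf0 zf36) (kf xf15 yf7 zf21) (kf xf15 yf9 zf46) (kf xf17 yf0 zf39) (kf xf14 yf21 zf17) (kf xf17 yf0 zf32) (kf xf14 yf21 zf20) (kf xf14 yf21 zf21) (kf xf14 yf21 zf23) (kf xf14 yf22 zf9) (kf xf14 yf22 zf4) (kf xf14 yf22 zf41) (kf xf15 yf8 zf39) (kf xf14 yf21 zf34) (kf xf15 yf13 zf30) (kf xf15 yf13 zf43) (kf xf14 yf22 zf29) (kf xf15 yf13 zf33) (kf xf14 yf21 zf43) (kf xf17 yf0 zf46) (kf xf14 yf22 zf38) (kf xf16 yf22 zf6) (kf xf14 yf21 zf49) (kf xf15 yf13 zf45) (kf xf14 yf22 zf37) (kf xf15 yf13 zf34) (kf xf14 yf24 zf29) (kf xf14 yf22 zf36) (kf xf14 yf22 zf30) (kf xf14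 yf22 zf46) (kf xf15 yf13 zf37) (kf xf16 yf22 zf4) (kf xf14 yf22 zf18) (kf xf14 yf22 zf39) (kf xf15 yf13 zf40) (kf xf17 yf1 zf0) (kf xf16 yf22 zf5) (kf xf14 yf22 zf26) (kf xf15 yf13 zf32) (kf xf17 yf0 zf44) (kf xf17 yf0 zf48) (kf xf15 yf13 zf39) (kf xf15 yf13 zf38) (kf xf17 yf1 zf3) (kf xf14 yf22 zf35) (kf xf17 yf1 zf4) (kf xf17 yf0 zf47) (kf xf17 yf0 zf45) (kf xf17 yf0 zf42)) (@D3.rec (fun _ => Pt) (kf xf14 yf22 zf48) (kf xf14 yf22 zf44) (kf xf17 yf1 zf5) (kf xf17 yf0 zf49) (kf xf14 yf22 zf45) (kf xf14 yf24 zf15) (kf xf14 yf23 zf5) (kf xf15 yf15 zf11) (kf xf14 yf23 zf6) (kf xf17 yf1 zf7) (kf xf14 yf23 zf45) (kf xf14 yf23 zf12) (kf xf14 yf23 zf42) (kf xf14 yf23 zf13) (kf xf14 yf23 zf10) (kf xf17 yf1 zf13) (kf xf14 yf23 zf16) (kf xf17 yf1 zf10) (kf xf17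 yf1 zf12) (kf xf14 yf23 zf15) (kf xf17 yf1 zf16) (kf xf15 yf1 zf14) (kf xf15 yf9 zf24) (kf xf14 yf25 zf3) (kf xf14 yf24 zf31) (kf xf14 yf24 zf18) (kf xf14 yf23 zf28) (kf xf14 yf24 zf13) (kf xf14 yf23 zf29) (kf xf14 yf23 zf26) (kf xf17 yf1 zf23) (kf xf17 yf1 zf22) (kf xf14 yf23 zf31) (kf xf17 yf1 zf25) (kf xf14 yf23 zf36) (kf xf14 yf23 zf38) (kf xf17 yf1 zf29) (kf xf16 yf1 zf37) (kf xf14 yf23 zf40) (kf xf17 yf1 zf32) (kf xf16 yf1 zf40) (kf xf17 yf1 zf11) (kf xf14 yf23 zf50) (kf xf14 yf25 zf38) (kf xf14 yf24 zf0) (kf xf15 yf3 zf25) (kf xf17 yf1 zf9) (kf xf14 yf24 zf1) (kf xf14 yf24 zf48) (kf xf14 yf23 zf48) (kf xf17 yf1 zf41)) (@D3.rec (fun _ => Pt) (kf xf17 yf1 zf36) (kf xf17 yf1 zf39) (kf xf14 yf24 zf8) (kf xf14 yf24 zf4) (kf xf17 yf1 zf46) (kf xf15 yf14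 zf14) (kf xf15 yf14 zf28) (kf xf17 yf1 zf45) (kf xf14 yf24 zf10) (kf xf15 yf15 zf10) (kf xf15 yf15 zf1) (kf xf15 yf9 zf17) (kf xf17 yf1 zf21) (kf xf17 yf1 zf6) (kf xf14 yf24 zf23) (kf xf15 yf2 zf9) (kf xf17 yf1 zf20) (kf xf14 yf24 zf24) (kf xf14 yf25 zf5) (kf xf14 yf24 zf22) (kf xf17 yf2 zf6) (kf xf17 yf2 zf1) (kf xf17 yf2 zf8) (kf xf14 yf24 zf34) (kf xf14 yf24 zf27) (kf xf17 yf2 zf10) (kf xf17 yf1 zf19) (kf xf17 yf2 zf9) (kf xf14 yf24 zf40) (kf xf14 yf24 zf39) (kf xf15 yf1 zf26) (kf xf14 yf24 zf45) (kf xf15 yf2 zf13) (kf xf15 yf2 zf16) (kf xf17 yf2 zf17) (kf xf14 yf24 zf46) (kf xf17 yf1 zf40) (kf xf14 yf24 zf50) (kf xf15 yf15 zf20) (kf xf14 yf25 zf7) (kf xf14 yf25 zf18) (kf xf14 yf25 zf8) (kf xf15 yf2 zf7) (kf xf17 yf1 zf18) (kf xf14 yf25 zf9) (kf xf17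 yf2 zf5) (kf xf17 yf2 zf22) (kf xf17 yf2 zf25) (kf xf17 yf2 zf20) (kf xf16 yf2 zf49) (kf xf17 yf2 zf30)) (@D3.rec (fun _ => Pt) (kf xf16 yf3 zf0) (kf xf14 yf25 zf15) (kf xf17 yf2 zf33) (kf xf16 yf3 zf3) (kf xf14 yf25 zf46) (kf xf14 yf25 zf26) (kf xf17 yf2 zf21) (kf xf14 yf25 zf27) (kf xf14 yf25 zf40) (kf xf14 yf25 zf28) (kf xf15 yf6 zf38) (kf xf14 yf25 zf21) (kf xf17 yf2 zf41) (kf xf14 yf25 zf31) (kf xf14 yf25 zf24) (kf xf17 yf2 zf44) (kf xf17 yf2 zf36) (kf xf17 yf2 zf39) (kf xf14 yf25 zf30) (kf xf17 yf2 zf47) (kf xf17 yf2 zf43) (kf xf14 yf25 zf33) (kf xf17 yf2 zf49) (kf xf15 yf14 zf42) (kf xf15 yf1 zf19) (kf xf15 yf14 zf29) (kf xf17 yf1 zf35) (kf xf16 yf22 zf18) (kf xf17 yf2 zf38) (kf xf14 yf26 zf2) (kf xf14 yf26 zf43) (kf xf14 yf25 zf43) (kf xf17 yf3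 zf3) (kf xf14 yf26 zf5) (kf xf17 yf2 zf35) (kf xf14 yf26 zf6) (kf xf14 yf25 zf49) (kf xf17 yf3 zf8) (kf xf14 yf26 zf9) (kf xf14 yf26 zf1) (kf xf17 yf3 zf11) (kf xf14 yf26 zf4) (kf xf17 yf3 zf5) (kf xf17 yf3 zf7) (kf xf14 yf26 zf8) (kf xf17 yf3 zf15) (kf xf17 yf3 zf18) (kf xf14 yf26 zf11) (kf xf17 yf3 zf19) (kf xf14 yf26 zf16) (kf xf15 yf14 zf4)) (@D3.rec (fun _ => Pt) (kf xf15 yf14 zf15) (kf xf15 yf0 zf18) (kf xf14 yf26 zf27) (kf xf14 yf26 zf21) (kf xf17 yf1 zf26) (kf xf14 yf26 zf28) (kf xf17 yf3 zf24) (kf xf17 yf3 zf22) (kf xf17 yf3 zf25) (kf xf14 yf26 zf29) (kf xf17 yf3 zf27) (kf xf16 yf4 zf11) (kf xf14 yf26 zf33) (kf xf17 yf3 zf30) (kf xf16 yf4 zf14) (kf xf16 yf23 zf2) (kf xf16 yf4 zf16) (kf xf16 yf23 zf0) (kf xf14 yf26 zf36) (kf xf17 yf3 zf36) (kf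 xf16 yf4 zf20) (kf xf14 yf26 zf39) (kf xf17 yf3 zf39) (kf xf16 yf22 zf36) (kf xf15 yf9 zf27) (kf xf15 yf4 zf15) (kf xf17 yf3 zf2) (kf xf15 yf0 zf6) (kf xf14 yf26 zf46) (kf xf17 yf3 zf46) (kf xf15 yf2 zf20) (kf xf15 yf14 zf0) (kf xf15 yf0 zf9) (kf xf16 yf23 zf13) (kf xf16 yf23 zf33) (kf xf15 yf0 zf1) (kf xf17 yf4 zf2) (kf xf15 yf0 zf12) (kf xf15 yf9 zf1) (kf xf15 yf0 zf5) (kf xf17 yf4 zf6) (kf xf17 yf3 zf45) (kf xf15 yf0 zf8) (kf xf17 yf4 zf8) (kf xf17 yf3 zf50) (kf xf15 yf0 zf11) (kf xf17 yf4 zf10) (kf xf17 yf4 zf11) (kf xf15 yf0 zf19) (kf xf15 yf0 zf15) (kf xf17 yf4 zf13)) (@D3.rec (fun _ => Pt) (kf xf15 yf0 zf21) (kf xf17 yf4 zf12) (kf xf15 yf0 zf23) (kf xf17 yf4 zf15) (kf xf15 yf0 zf25) (kf xf17 yf4 zf17) (kf xf17 yf4 zf18) (kf xf15 yf0 zf27) (kf xf17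 yf4 zf21) (kf xf15 yf0 zf50) (kf xf15 yf0 zf30) (kf xf17 yf4 zf24) (kf xf15 yf14 zf9) (kf xf15 yf14 zf10) (kf xf15 yf1 zf2) (kf xf15 yf0 zf33) (kf xf17 yf1 zf28) (kf xf17 yf4 zf28) (kf xf15 yf0 zf35) (kf xf17 yf4 zf31) (kf xf15 yf1 zf5) (kf xf15 yf0 zf38) (kf xf15 yf0 zf39) (kf xf17 yf4 zf34) (kf xf17 yf4 zf35) (kf xf15 yf15 zf28) (kf xf15 yf0 zf42) (kf xf17 yf4 zf39) (kf xf17 yf4 zf42) (kf xf15 yf15 zf32) (kf xf15 yf15 zf33) (kf xf15 yf0 zf47) (kf xf17 yf4 zf45) (kf xf15 yf0 zf49) (kf xf17 yf4 zf48) (kf xf15 yf1 zf1) (kf xf15 yf1 zf4) (kf xf17 yf4 zf50) (kf xf17 yf5 zf1) (kf xf15 yf1 zf16) (kf xf15 yf1 zf8) (kf xf17 yf5 zf3) (kf xf17 yf5 zf5) (kf xf15 yf1 zf9) (kf xf15 yf1 zf21) (kf xf15 yf1 zf22) (kf xf15 yf1 zf13) (kf xf17 yf2 zf11) (kf xf17 yf5 zf6)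 (kf xf15 yf1 zf18) (kf xf17 yf5 zf2)) (@D3.rec (fun _ => Pt) (kf xf17 yf1 zf27) (kf xf15 yf1 zf28) (kf xf15 yf15 zf47) (kf xf15 yf1 zf27) (kf xf17 yf2 zf13) (kf xf16 yf6 zf5) (kf xf16 yf6 zf6) (kf xf16 yf6 zf7) (kf xf17 yf3 zf21) (kf xf16 yf6 zf9) (kf xf16 yf6 zf10) (kf xf16 yf6 zf11) (kf xf16 yf6 zf12) (kf xf16 yf6 zf13) (kf xf17 yf5 zf9) (kf xf16 yf6 zf15) (kf xf16 yf6 zf16) (kf xf16 yf6 zf17) (kf xf17 yf5 zf24) (kf xf15 yf1 zf43) (kf xf16 yf25 zf8) (kf xf15 yf2 zf4) (kf xf15 yf8 zf16) (kf xf15 yf2 zf5) (kf xf16 yf25 zf9) (kf xf17 yf0 zf33) (kf xf17 yf5 zf27) (kf xf17 yf2 zf23) (kf xf16 yf6 zf28) (kf xf17 yf2 zf2) (kf xf15 yf2 zf12) (kf xf17 yf5 zf32) (kf xf17 yf2 zf15) (kf xf15 yf2 zf15) (kf xf15 yf4 zf43) (kf xf15 yf2 zf18) (kf xf17 yf5 zf35) (kf xf16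 yf6 zf37) (kf xf17 yf3 zf48) (kf xf16 yf6 zf39) (kf xf15 yf2 zf23) (kf xf17 yf5 zf39) (kf xf15 yf2 zf25) (kf xf17 yf5 zf41) (kf xf16 yf6 zf44) (kf xf15 yf2 zf28) (kf xf17 yf5 zf43) (kf xf15 yf2 zf31) (kf xf17 yf5 zf45) (kf xf15 yf2 zf33) (kf xf17 yf5 zf47)) (@D3.rec (fun _ => Pt) (kf xf15 yf2 zf35) (kf xf16 yf24 zf37) (kf xf16 yf7 zf2) (kf xf15 yf2 zf39) (kf xf17 yf5 zf50) (kf xf15 yf16 zf12) (kf xf15 yf2 zf44) (kf xf17 yf6 zf2) (kf xf15 yf10 zf11) (kf xf15 yf16 zf15) (kf xf15 yf2 zf49) (kf xf17 yf6 zf6) (kf xf15 yf3 zf29) (kf xf15 yf3 zf34) (kf xf15 yf3 zf2) (kf xf17 yf6 zf10) (kf xf15 yf3 zf4) (kf xf15 yf3 zf10) (kf xf15 yf3 zf11) (kf xf15 yf3 zf9) (kf xf15 yf7 zf39) (kf xf17 yf6 zf14) (kf xf16 yf7 zf22) (kf xf15 yf8 zf1) (kf xf15 yf3 zf18) (kf xf16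 yf25 zf17) (kf xf15 yf8 zf7) (kf xf16 yf24 zf34) (kf xf15 yf3 zf24) (kf xf16 yf24 zf38) (kf xf17 yf1 zf37) (kf xf16 yf7 zf31) (kf xf16 yf24 zf26) (kf xf15 yf3 zf35) (kf xf17 yf6 zf8) (kf xf15 yf16 zf13) (kf xf16 yf24 zf28) (kf xf15 yf3 zf36) (kf xf17 yf6 zf9) (kf xf17 yf6 zf24) (kf xf15 yf3 zf37) (kf xf17 yf6 zf30) (kf xf16 yf7 zf42) (kf xf15 yf3 zf39) (kf xf17 yf6 zf32) (kf xf16 yf7 zf45) (kf xf15 yf3 zf42) (kf xf17 yf6 zf35) (kf xf15 yf3 zf44) (kf xf17 yf6 zf37) (kf xf16 yf7 zf50)) (@D3.rec (fun _ => Pt) (kf xf17 yf3 zf42) (kf xf15 yf3 zf47) (kf xf17 yf6 zf40) (kf xf15 yf3 zf50) (kf xf17 yf6 zf42) (kf xf16 yf8 zf5) (kf xf15 yf4 zf2) (kf xf17 yf6 zf45) (kf xf15 yf4 zf4) (kf xf17 yf6 zf47) (kf xf15 yf4 zf6) (kf xf17 yf6 zf49) (kf xf16 yf8 zf12) (kf xf15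 yf4 zf9) (kf xf17 yf7 zf0) (kf xf15 yf4 zf11) (kf xf17 yf7 zf2) (kf xf17 yf3 zf26) (kf xf15 yf4 zf13) (kf xf17 yf7 zf5) (kf xf17 yf3 zf43) (kf xf15 yf4 zf17) (kf xf17 yf7 zf8) (kf xf15 yf11 zf37) (kf xf16 yf24 zf48) (kf xf16 yf24 zf49) (kf xf15 yf4 zf22) (kf xf15 yf4 zf23) (kf xf17 yf7 zf13) (kf xf17 yf7 zf14) (kf xf15 yf4 zf25) (kf xf17 yf7 zf17) (kf xf15 yf4 zf27) (kf xf17 yf7 zf19) (kf xf16 yf8 zf34) (kf xf15 yf4 zf30) (kf xf17 yf7 zf23) (kf xf16 yf8 zf37) (kf xf15 yf4 zf33) (kf xf17 yf7 zf26) (kf xf15 yf4 zf35) (kf xf17 yf7 zf28) (kf xf15 yf4 zf37) (kf xf17 yf5 zf34) (kf xf16 yf8 zf44) (kf xf15 yf4 zf41) (kf xf17 yf2 zf16) (kf xf16 yf24 zf20) (kf xf16 yf8 zf48) (kf xf16 yf8 zf49) (kf xf16 yf8 zf50)) (@D3.rec (fun _ => Pt) (kf xf16 yf9 zf0) (kf xf16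 yf9 zf1) (kf xf16 yf26 zf6) (kf xf15 yf12 zf1) (kf xf15 yf18 zf3) (kf xf16 yf9 zf5) (kf xf15 yf5 zf4) (kf xf17 yf7 zf40) (kf xf16 yf9 zf8) (kf xf15 yf17 zf49) (kf xf15 yf5 zf7) (kf xf17 yf7 zf44) (kf xf16 yf23 zf10) (kf xf16 yf9 zf13) (kf xf15 yf18 zf8) (kf xf15 yf5 zf10) (kf xf17 yf7 zf49) (kf xf16 yf9 zf17) (kf xf15 yf5 zf12) (kf xf15 yf17 zf27) (kf xf17 yf8 zf1) (kf xf15 yf11 zf22) (kf xf15 yf5 zf14) (kf xf17 yf8 zf5) (kf xf16 yf9 zf24) (kf xf15 yf11 zf24) (kf xf15 yf5 zf18) (kf xf17 yf8 zf9) (kf xf16 yf25 zf48) (kf xf16 yf9 zf29) (kf xf15 yf5 zf29) (kf xf15 yf5 zf22) (kf xf17 yf8 zf13) (kf xf16 yf26 zf25) (kf xf15 yf5 zf45) (kf xf15 yf11 zf32) (kf xf15 yf5 zf27) (kf xf17 yf8 zf17) (kf xf16 yf25 zf24) (kf xf17 yf8 zf12) (kf xf15 yf5 zf31) (kf xf17 yf8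 zf21) (kf xf16 yf26 zf35) (kf xf16 yf26 zf36) (kf xf15 yf5 zf36) (kf xf15 yf5 zf37) (kf xf17 yf8 zf25) (kf xf17 yf8 zf26) (kf xf15 yf18 zf9) (kf xf15 yf5 zf40) (kf xf17 yf8 zf30)) (@D3.rec (fun _ => Pt) (kf xf15 yf18 zf12) (kf xf15 yf18 zf13) (kf xf15 yf5 zf44) (kf xf17 yf8 zf34) (kf xf16 yf10 zf4) (kf xf15 yf5 zf48) (kf xf17 yf8 zf38) (kf xf16 yf10 zf7) (kf xf16 yf10 zf8) (kf xf15 yf6 zf1) (kf xf17 yf8 zf41) (kf xf15 yf6 zf10) (kf xf15 yf6 zf11) (kf xf15 yf6 zf5) (kf xf15 yf6 zf12) (kf xf15 yf6 zf13) (kf xf15 yf6 zf9) (kf xf17 yf5 zf48) (kf xf17 yf8 zf49) (kf xf17 yf8 zf44) (kf xf17 yf8 zf46) (kf xf17 yf8 zf47) (kf xf16 yf26 zf1) (kf xf16 yf10 zf23) (kf xf16 yf26 zf38) (kf xf15 yf6 zf34) (kf xf15 yf6 zf20) (kf xf17 yf9 zf4) (kf xf16 yf10 zf28) (kf xf15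 yf6 zf39) (kf xf15 yf6 zf24) (kf xf17 yf9 zf8) (kf xf16 yf25 zf40) (kf xf15 yf7 zf13) (kf xf15 yf6 zf27) (kf xf17 yf9 zf11) (kf xf15 yf6 zf29) (kf xf17 yf9 zf12) (kf xf15 yf7 zf16) (kf xf15 yf12 zf22) (kf xf15 yf6 zf32) (kf xf15 yf6 zf33) (kf xf17 yf9 zf15) (kf xf17 yf9 zf16) (kf xf17 yf2 zf29) (kf xf17 yf9 zf3) (kf xf15 yf6 zf36) (kf xf17 yf9 zf21) (kf xf16 yf26 zf43) (kf xf17 yf2 zf40) (kf xf17 yf9 zf7)) (@D3.rec (fun _ => Pt) (kf xf15 yf6 zf41) (kf xf17 yf9 zf26) (kf xf16 yf25 zf49) (kf xf15 yf18 zf45) (kf xf15 yf6 zf45) (kf xf17 yf9 zf31) (kf xf15 yf18 zf47) (kf xf15 yf6 zf48) (kf xf17 yf9 zf34) (kf xf17 yf5 zf26) (kf xf15 yf10 zf15) (kf xf15 yf18 zf50) (kf xf15 yf19 zf0) (kf xf15 yf7 zf2) (kf xf15 yf7 zf3) (kf xf17 yf9 zf40) (kf xf17 yf9 zf41) (kf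 xf15 yf19 zf5) (kf xf15 yf19 zf6) (kf xf15 yf7 zf7) (kf xf17 yf9 zf47) (kf xf17 yf10 zf0) (kf xf15 yf7 zf8) (kf xf15 yf19 zf11) (kf xf15 yf19 zf12) (kf xf15 yf7 zf12) (kf xf17 yf6 zf11) (kf xf17 yf10 zf4) (kf xf15 yf7 zf15) (kf xf17 yf10 zf7) (kf xf16 yf11 zf30) (kf xf16 yf11 zf31) (kf xf15 yf7 zf20) (kf xf17 yf10 zf10) (kf xf17 yf0 zf37) (kf xf16 yf11 zf35) (kf xf16 yf11 zf36) (kf xf15 yf7 zf25) (kf xf17 yf6 zf13) (kf xf17 yf10 zf15) (kf xf15 yf7 zf41) (kf xf15 yf7 zf42) (kf xf15 yf7 zf29) (kf xf15 yf7 zf43) (kf xf15 yf7 zf44) (kf xf15 yf7 zf33) (kf xf17 yf10 zf23) (kf xf15 yf7 zf34) (kf xf15 yf7 zf46) (kf xf15 yf7 zf47) (kf xf16 yf25 zf14)) (@D3.rec (fun _ => Pt) (kf xf15 yf7 zf40) (kf xf17 yf6 zf16) (kf xf17 yf10 zf27) (kf xf17 yf10 zf18) (kf xf17 yf10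 zf20) (kf xf17 yf10 zf31) (kf xf17 yf10 zf24) (kf xf16 yf12 zf7) (kf xf16 yf12 zf8) (kf xf17 yf10 zf36) (kf xf15 yf8 zf2) (kf xf15 yf19 zf47) (kf xf17 yf10 zf37) (kf xf15 yf8 zf9) (kf xf15 yf16 zf3) (kf xf15 yf13 zf24) (kf xf15 yf8 zf8) (kf xf17 yf0 zf40) (kf xf17 yf6 zf19) (kf xf16 yf12 zf19) (kf xf16 yf12 zf20) (kf xf16 yf12 zf21) (kf xf17 yf10 zf48) (kf xf17 yf10 zf49) (kf xf15 yf8 zf20) (kf xf16 yf12 zf25) (kf xf16 yf12 zf26) (kf xf16 yf12 zf27) (kf xf16 yf12 zf28) (kf xf15 yf11 zf10) (kf xf16 yf12 zf30) (kf xf15 yf12 zf44) (kf xf17 yf11 zf3) (kf xf15 yf17 zf24) (kf xf15 yf18 zf16) (kf xf16 yf12 zf35) (kf xf16 yf25 zf42) (kf xf16 yf25 zf20) (kf xf15 yf8 zf37) (kf xf17 yf0 zf43) (kf xf15 yf8 zf41) (kf xf15 yf14 zf40) (kf xf15 yf14 zf48) (kf xf15 yf14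 zf2) (kf xf15 yf8 zf48) (kf xf17 yf11 zf8) (kf xf15 yf15 zf19) (kf xf17 yf4 zf5) (kf xf15 yf15 zf5) (kf xf15 yf15 zf7) (kf xf15 yf9 zf7)) (@D3.rec (fun _ => Pt) (kf xf17 yf11 zf14) (kf xf15 yf9 zf10) (kf xf17 yf11 zf16) (kf xf15 yf14 zf43) (kf xf15 yf9 zf13) (kf xf17 yf11 zf19) (kf xf16 yf22 zf37) (kf xf15 yf9 zf16) (kf xf17 yf11 zf22) (kf xf15 yf9 zf19) (kf xf17 yf11 zf24) (kf xf15 yf9 zf25) (kf xf15 yf9 zf22) (kf xf17 yf11 zf25) (kf xf15 yf17 zf3) (kf xf15 yf10 zf12) (kf xf15 yf17 zf5) (kf xf15 yf17 zf6) (kf xf15 yf17 zf7) (kf xf15 yf17 zf15) (kf xf15 yf17 zf16) (kf xf15 yf9 zf47) (kf xf15 yf17 zf19) (kf xf15 yf9 zf48) (kf xf15 yf17 zf22) (kf xf17 yf8 zf45) (kf xf15 yf17 zf23) (kf xf17 yf0 zf31) (kf xf17 yf0 zf34) (kf xf17 yf0 zf26) (kf xf15 yf10 zf0)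 (kf xf15 yf10 zf3) (kf xf15 yf16 zf10) (kf xf15 yf16 zf11) (kf xf16 yf23 zf37) (kf xf16 yf23 zf38) (kf xf15 yf10 zf13) (kf xf17 yf6 zf4) (kf xf17 yf11 zf28) (kf xf17 yf3 zf34) (kf xf16 yf13 zf40) (kf xf17 yf9 zf37) (kf xf16 yf13 zf42) (kf xf15 yf10 zf18) (kf xf17 yf11 zf50) (kf xf16 yf23 zf11) (kf xf15 yf10 zf38) (kf xf15 yf10 zf22) (kf xf17 yf12 zf3) (kf xf15 yf10 zf24) (kf xf17 yf12 zf5)) (@D3.rec (fun _ => Pt) (kf xf15 yf10 zf41) (kf xf15 yf10 zf27) (kf xf17 yf12 zf8) (kf xf16 yf23 zf17) (kf xf16 yf23 zf18) (kf xf15 yf10 zf43) (kf xf15 yf10 zf32) (kf xf17 yf12 zf13) (kf xf15 yf10 zf34) (kf xf17 yf12 zf15) (kf xf17 yf12 zf18) (kf xf15 yf10 zf37) (kf xf17 yf12 zf19) (kf xf17 yf12 zf2) (kf xf15 yf10 zf40) (kf xf17 yf12 zf22) (kf xf17 yf12 zf23) (kf xf17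 yf12 zf24) (kf xf15 yf10 zf45) (kf xf15 yf10 zf46) (kf xf16 yf14 zf20) (kf xf16 yf14 zf21) (kf xf15 yf11 zf11) (kf xf16 yf14 zf23) (kf xf16 yf14 zf24) (kf xf17 yf12 zf31) (kf xf16 yf14 zf26) (kf xf16 yf14 zf27) (kf xf17 yf12 zf35) (kf xf16 yf14 zf29) (kf xf17 yf12 zf37) (kf xf15 yf11 zf9) (kf xf17 yf12 zf38) (kf xf15 yf11 zf12) (kf xf15 yf11 zf13) (kf xf15 yf13 zf11) (kf xf15 yf17 zf42) (kf xf15 yf18 zf17) (kf xf15 yf17 zf44) (kf xf15 yf17 zf45) (kf xf15 yf18 zf18) (kf xf15 yf17 zf46) (kf xf16 yf25 zf18) (kf xf17 yf8 zf4) (kf xf16 yf14 zf44) (kf xf17 yf8 zf8) (kf xf15 yf17 zf29) (kf xf15 yf17 zf30) (kf xf15 yf11 zf45) (kf xf15 yf17 zf32) (kf xf15 yf17 zf33)) (@D3.rec (fun _ => Pt) (kf xf15 yf17 zf34) (kf xf15 yf11 zf46) (kf xf15 yf17 zf36) (kf xf17 yf8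 zf16) (kf xf15 yf11 zf34) (kf xf17 yf13 zf9) (kf xf15 yf11 zf49) (kf xf15 yf11 zf38) (kf xf17 yf7 zf10) (kf xf17 yf13 zf12) (kf xf15 yf11 zf40) (kf xf17 yf13 zf15) (kf xf17 yf10 zf22) (kf xf16 yf26 zf7) (kf xf15 yf11 zf44) (kf xf17 yf13 zf19) (kf xf17 yf13 zf2) (kf xf15 yf11 zf48) (kf xf15 yf12 zf3) (kf xf17 yf13 zf21) (kf xf16 yf15 zf20) (kf xf15 yf12 zf6) (kf xf17 yf13 zf24) (kf xf15 yf12 zf8) (kf xf17 yf13 zf26) (kf xf15 yf12 zf47) (kf xf15 yf12 zf11) (kf xf15 yf12 zf12) (kf xf17 yf13 zf29) (kf xf17 yf13 zf30) (kf xf15 yf12 zf14) (kf xf17 yf13 zf33) (kf xf17 yf13 zf36) (kf xf15 yf12 zf17) (kf xf17 yf13 zf37) (kf xf15 yf12 zf19) (kf xf17 yf13 zf39) (kf xf15 yf12 zf23) (kf xf17 yf9 zf14) (kf xf17 yf13 zf41) (kf xf15 yf17 zf47) (kf xf15 yf12 zf26) (kf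 xf17 yf13 zf45) (kf xf17 yf10 zf26) (kf xf15 yf17 zf8) (kf xf15 yf12 zf31) (kf xf15 yf12 zf32) (kf xf17 yf13 zf49) (kf xf17 yf13 zf50) (kf xf16 yf26 zf45) (kf xf16 yf26 zf46)) (@D3.rec (fun _ => Pt) (kf xf15 yf12 zf36) (kf xf17 yf14 zf5) (kf xf17 yf14 zf9) (kf xf15 yf12 zf37) (kf xf17 yf0 zf0) (kf xf17 yf0 zf1) (kf xf15 yf12 zf41) (kf xf17 yf14 zf12) (kf xf15 yf12 zf43) (kf xf17 yf14 zf14) (kf xf15 yf12 zf46) (kf xf17 yf14 zf16) (kf xf15 yf12 zf49) (kf xf15 yf12 zf50) (kf xf15 yf13 zf1) (kf xf17 yf14 zf19) (kf xf15 yf13 zf12) (kf xf15 yf13 zf4) (kf xf15 yf13 zf13) (kf xf15 yf13 zf14) (kf xf17 yf8 zf50) (kf xf17 yf12 zf40) (kf xf17 yf14 zf21) (kf xf17 yf14 zf23) (kf xf17 yf10 zf40) (kf xf16 yf16 zf25) (kf xf16 yf16 zf26) (kf xf17 yf14 zf26) (kf xf15 yf13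 zf20) (kf xf16 yf16 zf29) (kf xf16 yf16 zf30) (kf xf17 yf10 zf41) (kf xf16 yf16 zf32) (kf xf17 yf14 zf31) (kf xf15 yf13 zf27) (kf xf16 yf16 zf35) (kf xf17 yf1 zf1) (kf xf17 yf1 zf2) (kf xf17 yf0 zf50) (kf xf15 yf13 zf35) (kf xf15 yf14 zf16) (kf xf15 yf14 zf12) (kf xf17 yf3 zf49) (kf xf15 yf14 zf3) (kf xf17 yf11 zf7) (kf xf17 yf14 zf37) (kf xf15 yf14 zf7) (kf xf17 yf14 zf39) (kf xf15 yf14 zf8) (kf xf16 yf24 zf29) (kf xf17 yf4 zf26)) (@D3.rec (fun _ => Pt) (kf xf17 yf4 zf27) (kf xf15 yf14 zf13) (kf xf17 yf14 zf33) (kf xf17 yf14 zf45) (kf xf17 yf14 zf32) (kf xf15 yf14 zf18) (kf xf15 yf14 zf19) (kf xf17 yf14 zf47) (kf xf17 yf14 zf48) (kf xf15 yf14 zf21) (kf xf17 yf15 zf0) (kf xf17 yf15 zf3) (kf xf15 yf14 zf24) (kf xf17 yf15 zf4) (kf xf15 yf14 zf26) (kf xf17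 yf15 zf7) (kf xf15 yf14 zf27) (kf xf17 yf15 zf8) (kf xf16 yf17 zf18) (kf xf16 yf17 zf19) (kf xf17 yf15 zf11) (kf xf15 yf14 zf34) (kf xf15 yf14 zf36) (kf xf15 yf18 zf39) (kf xf16 yf22 zf28) (kf xf15 yf14 zf41) (kf xf17 yf11 zf5) (kf xf17 yf11 zf18) (kf xf16 yf22 zf35) (kf xf16 yf22 zf34) (kf xf17 yf15 zf21) (kf xf17 yf11 zf6) (kf xf15 yf14 zf49) (kf xf15 yf14 zf50) (kf xf17 yf1 zf49) (kf xf15 yf15 zf8) (kf xf16 yf23 zf8) (kf xf16 yf23 zf29) (kf xf17 yf11 zf12) (kf xf17 yf15 zf29) (kf xf17 yf11 zf13) (kf xf17 yf15 zf31) (kf xf15 yf15 zf9) (kf xf17 yf1 zf8) (kf xf15 yf15 zf39) (kf xf15 yf15 zf14) (kf xf17 yf15 zf34) (kf xf16 yf22 zf26) (kf xf15 yf15 zf36) (kf xf16 yf22 zf27) (kf xf17 yf5 zf7)) (@D3.rec (fun _ => Pt) (kf xf17 yf11 zf10) (kf xf17 yf2 zf19)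 (kf xf15 yf15 zf37) (kf xf16 yf24 zf36) (kf xf15 yf15 zf24) (kf xf17 yf15 zf44) (kf xf17 yf15 zf47) (kf xf16 yf24 zf47) (kf xf16 yf25 zf5) (kf xf17 yf4 zf38) (kf xf15 yf15 zf30) (kf xf17 yf16 zf1) (kf xf17 yf16 zf5) (kf xf15 yf15 zf31) (kf xf17 yf4 zf43) (kf xf17 yf4 zf44) (kf xf15 yf15 zf35) (kf xf17 yf16 zf8) (kf xf15 yf15 zf40) (kf xf15 yf15 zf44) (kf xf17 yf2 zf12) (kf xf16 yf22 zf45) (kf xf17 yf2 zf14) (kf xf15 yf20 zf1) (kf xf17 yf0 zf25) (kf xf15 yf16 zf0) (kf xf15 yf20 zf2) (kf xf17 yf10 zf25) (kf xf17 yf5 zf10) (kf xf15 yf16 zf8) (kf xf17 yf16 zf12) (kf xf17 yf11 zf40) (kf xf17 yf11 zf41) (kf xf17 yf6 zf1) (kf xf17 yf6 zf26) (kf xf17 yf6 zf5) (kf xf15 yf16 zf17) (kf xf17 yf16 zf19) (kf xf15 yf16 zf19) (kf xf17 yf16 zf21) (kf xf15 yf16 zf31) (kf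 xf15 yf16 zf23) (kf xf17 yf16 zf24) (kf xf15 yf16 zf25) (kf xf17 yf16 zf26) (kf xf15 yf16 zf28) (kf xf17 yf16 zf28) (kf xf15 yf16 zf30) (kf xf17 yf16 zf30) (kf xf17 yf16 zf23) (kf xf15 yf16 zf33)) (@D3.rec (fun _ => Pt) (kf xf17 yf16 zf33) (kf xf15 yf16 zf35) (kf xf17 yf16 zf35) (kf xf15 yf16 zf37) (kf xf17 yf16 zf37) (kf xf15 yf16 zf39) (kf xf17 yf16 zf39) (kf xf15 yf16 zf41) (kf xf17 yf16 zf41) (kf xf15 yf16 zf43) (kf xf17 yf16 zf44) (kf xf15 yf16 zf45) (kf xf17 yf16 zf46) (kf xf15 yf16 zf47) (kf xf15 yf16 zf50) (kf xf17 yf6 zf48) (kf xf17 yf11 zf27) (kf xf15 yf20 zf24) (kf xf17 yf11 zf29) (kf xf17 yf11 zf30) (kf xf17 yf11 zf31) (kf xf17 yf13 zf48) (kf xf15 yf17 zf11) (kf xf17 yf17 zf4) (kf xf16 yf26 zf39) (kf xf16 yf26 zf44) (kf xf17 yf11 zf32) (kf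 xf17 yf11 zf33) (kf xf16 yf26 zf27) (kf xf17 yf11 zf34) (kf xf16 yf25 zf43) (kf xf16 yf26 zf29) (kf xf17 yf11 zf36) (kf xf17 yf11 zf38) (kf xf17 yf8 zf2) (kf xf15 yf19 zf31) (kf xf17 yf13 zf0) (kf xf17 yf13 zf1) (kf xf15 yf20 zf25) (kf xf17 yf13 zf3) (kf xf17 yf13 zf4) (kf xf17 yf13 zf5) (kf xf17 yf10 zf16) (kf xf17 yf13 zf7) (kf xf15 yf17 zf38) (kf xf17 yf17 zf27) (kf xf15 yf17 zf41) (kf xf17 yf17 zf29) (kf xf17 yf12 zf41) (kf xf17 yf12 zf43) (kf xf17 yf12 zf44)) (@D3.rec (fun _ => Pt) (kf xf17 yf12 zf46) (kf xf17 yf13 zf44) (kf xf17 yf7 zf43) (kf xf15 yf18 zf0) (kf xf17 yf17 zf37) (kf xf15 yf18 zf2) (kf xf17 yf17 zf39) (kf xf16 yf25 zf27) (kf xf17 yf7 zf38) (kf xf15 yf18 zf6) (kf xf15 yf18 zf7) (kf xf17 yf17 zf43) (kf xf17 yf17 zf44) (kf xf17 yf7 zf48)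 (kf xf17 yf8 zf29) (kf xf15 yf18 zf11) (kf xf17 yf17 zf49) (kf xf17 yf8 zf32) (kf xf17 yf8 zf33) (kf xf15 yf18 zf15) (kf xf17 yf18 zf3) (kf xf17 yf12 zf42) (kf xf15 yf18 zf20) (kf xf17 yf18 zf6) (kf xf15 yf18 zf26) (kf xf15 yf18 zf27) (kf xf17 yf7 zf29) (kf xf17 yf18 zf8) (kf xf15 yf18 zf29) (kf xf17 yf18 zf10) (kf xf15 yf18 zf40) (kf xf15 yf18 zf32) (kf xf17 yf18 zf13) (kf xf15 yf18 zf34) (kf xf17 yf18 zf16) (kf xf16 yf25 zf6) (kf xf15 yf18 zf37) (kf xf17 yf18 zf19) (kf xf17 yf18 zf23) (kf xf15 yf18 zf38) (kf xf17 yf15 zf13) (kf xf17 yf18 zf12) (kf xf15 yf18 zf42) (kf xf17 yf18 zf27) (kf xf15 yf18 zf44) (kf xf17 yf18 zf29) (kf xf17 yf9 zf30) (kf xf17 yf9 zf33) (kf xf15 yf18 zf49) (kf xf17 yf18 zf32) (kf xf17 yf9 zf38)) (@D3.rec (fun _ => Pt) (kf xf17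 yf9 zf39) (kf xf15 yf19 zf3) (kf xf15 yf19 zf4) (kf xf17 yf18 zf37) (kf xf17 yf18 zf38) (kf xf17 yf9 zf45) (kf xf17 yf9 zf46) (kf xf15 yf19 zf8) (kf xf17 yf18 zf47) (kf xf17 yf18 zf45) (kf xf17 yf18 zf50) (kf xf15 yf19 zf9) (kf xf17 yf10 zf1) (kf xf17 yf10 zf2) (kf xf15 yf19 zf14) (kf xf17 yf19 zf2) (kf xf15 yf19 zf16) (kf xf15 yf19 zf18) (kf xf17 yf19 zf3) (kf xf17 yf19 zf5) (kf xf15 yf19 zf20) (kf xf16 yf21 zf21) (kf xf15 yf19 zf32) (kf xf15 yf19 zf26) (kf xf16 yf25 zf7) (kf xf15 yf19 zf33) (kf xf17 yf19 zf8) (kf xf15 yf19 zf29) (kf xf17 yf17 zf17) (kf xf17 yf7 zf33) (kf xf16 yf21 zf30) (kf xf16 yf21 zf31) (kf xf16 yf21 zf32) (kf xf15 yf20 zf15) (kf xf16 yf21 zf34) (kf xf16 yf21 zf35) (kf xf15 yf20 zf26) (kf xf17 yf10 zf38) (kf xf16 yf21 zf38) (kf xf16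 yf21 zf39) (kf xf17 yf10 zf39) (kf xf16 yf21 zf41) (kf xf16 yf21 zf42) (kf xf15 yf20 zf18) (kf xf16 yf21 zf44) (kf xf16 yf21 zf45) (kf xf15 yf20 zf11) (kf xf17 yf19 zf4) (kf xf17 yf19 zf22) (kf xf17 yf19 zf23) (kf xf15 yf20 zf14)) (@D3.rec (fun _ => Pt) (kf xf15 yf20 zf16) (kf xf17 yf10 zf42) (kf xf15 yf20 zf22) (kf xf17 yf17 zf20) (kf xf16 yf0 zf33) (kf xf16 yf0 zf38) (kf xf16 yf0 zf23) (kf xf15 yf20 zf39) (kf xf17 yf19 zf24) (kf xf15 yf20 zf42) (kf xf17 yf19 zf26) (kf xf15 yf20 zf45) (kf xf17 yf19 zf27) (kf xf15 yf20 zf48) (kf xf17 yf19 zf29) (kf xf15 yf21 zf0) (kf xf17 yf19 zf31) (kf xf15 yf21 zf2) (kf xf16 yf3 zf27) (kf xf15 yf21 zf5) (kf xf17 yf19 zf33) (kf xf15 yf21 zf8) (kf xf15 yf21 zf10) (kf xf17 yf19 zf34) (kf xf15 yf21 zf15) (kf xf15 yf21 zf46)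 (kf xf16 yf17 zf47) (kf xf16 yf17 zf49) (kf xf16 yf17 zf24) (kf xf15 yf21 zf24) (kf xf17 yf19 zf40) (kf xf15 yf21 zf28) (kf xf15 yf21 zf27) (kf xf17 yf19 zf42) (kf xf16 yf17 zf29) (kf xf16 yf17 zf28) (kf xf16 yf4 zf23) (kf xf16 yf13 zf6) (kf xf15 yf21 zf35) (kf xf17 yf19 zf48) (kf xf15 yf21 zf41) (kf xf15 yf21 zf42) (kf xf15 yf21 zf39) (kf xf17 yf19 zf35) (kf xf17 yf20 zf1) (kf xf16 yf18 zf21) (kf xf15 yf21 zf47) (kf xf17 yf19 zf36) (kf xf15 yf21 zf48) (kf xf17 yf20 zf5) (kf xf16 yf22 zf50)) (@D3.rec (fun _ => Pt) (kf xf16 yf4 zf17) (kf xf16 yf23 zf1) (kf xf16 yf4 zf15) (kf xf15 yf22 zf0) (kf xf17 yf20 zf10) (kf xf16 yf23 zf5) (kf xf15 yf22 zf3) (kf xf17 yf20 zf13) (kf xf16 yf17 zf36) (kf xf16 yf23 zf9) (kf xf16 yf9 zf12) (kf xf16 yf13 zf45) (kf xf15 yf22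 zf17) (kf xf16 yf4 zf33) (kf xf15 yf22 zf10) (kf xf17 yf20 zf20) (kf xf15 yf24 zf37) (kf xf16 yf14 zf3) (kf xf16 yf14 zf4) (kf xf15 yf22 zf21) (kf xf15 yf22 zf16) (kf xf17 yf20 zf26) (kf xf17 yf20 zf18) (kf xf16 yf23 zf23) (kf xf15 yf22 zf20) (kf xf17 yf20 zf30) (kf xf17 yf20 zf32) (kf xf15 yf22 zf23) (kf xf17 yf20 zf33) (kf xf16 yf17 zf37) (kf xf15 yf22 zf29) (kf xf17 yf20 zf36) (kf xf15 yf22 zf47) (kf xf16 yf4 zf34) (kf xf15 yf22 zf33) (kf xf17 yf20 zf40) (kf xf15 yf24 zf39) (kf xf16 yf13 zf34) (kf xf16 yf13 zf35) (kf xf15 yf23 zf0) (kf xf15 yf22 zf38) (kf xf15 yf22 zf39) (kf xf17 yf20 zf46) (kf xf17 yf20 zf47) (kf xf15 yf22 zf41) (kf xf17 yf20 zf50) (kf xf17 yf21 zf2) (kf xf15 yf22 zf44) (kf xf17 yf21 zf3) (kf xf15 yf22 zf46) (kf xf17 yf21 zf6)) (@D3.rec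 (fun _ => Pt) (kf xf17 yf21 zf9) (kf xf16 yf24 zf1) (kf xf15 yf22 zf50) (kf xf17 yf21 zf11) (kf xf15 yf23 zf2) (kf xf17 yf21 zf13) (kf xf17 yf21 zf15) (kf xf15 yf23 zf3) (kf xf15 yf23 zf5) (kf xf15 yf26 zf29) (kf xf17 yf21 zf16) (kf xf16 yf24 zf11) (kf xf15 yf23 zf11) (kf xf15 yf26 zf37) (kf xf15 yf23 zf14) (kf xf15 yf26 zf43) (kf xf17 yf21 zf23) (kf xf16 yf24 zf17) (kf xf16 yf24 zf18) (kf xf16 yf24 zf19) (kf xf16 yf8 zf47) (kf xf16 yf24 zf21) (kf xf16 yf24 zf22) (kf xf17 yf21 zf29) (kf xf15 yf23 zf23) (kf xf15 yf23 zf24) (kf xf16 yf7 zf32) (kf xf15 yf23 zf30) (kf xf16 yf7 zf36) (kf xf16 yf16 zf49) (kf xf16 yf24 zf30) (kf xf15 yf23 zf32) (kf xf17 yf21 zf35) (kf xf16 yf24 zf33) (kf xf16 yf7 zf27) (kf xf15 yf23 zf43) (kf xf16 yf18 zf3) (kf xf16 yf7 zf1)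 (kf xf16 yf7 zf29) (kf xf15 yf23 zf44) (kf xf15 yf23 zf42) (kf xf17 yf21 zf43) (kf xf17 yf21 zf38) (kf xf15 yf23 zf46) (kf xf15 yf26 zf41) (kf xf15 yf23 zf49) (kf xf17 yf21 zf46) (kf xf16 yf18 zf7) (kf xf16 yf8 zf24) (kf xf16 yf8 zf25) (kf xf15 yf24 zf7)) (@D3.rec (fun _ => Pt) (kf xf15 yf24 zf6) (kf xf17 yf22 zf1) (kf xf15 yf24 zf9) (kf xf15 yf24 zf11) (kf xf17 yf22 zf4) (kf xf16 yf18 zf8) (kf xf16 yf20 zf35) (kf xf16 yf21 zf24) (kf xf16 yf6 zf20) (kf xf16 yf6 zf24) (kf xf15 yf24 zf19) (kf xf17 yf22 zf11) (kf xf15 yf24 zf23) (kf xf15 yf24 zf24) (kf xf16 yf11 zf50) (kf xf17 yf22 zf14) (kf xf15 yf24 zf28) (kf xf16 yf7 zf25) (kf xf16 yf14 zf42) (kf xf16 yf25 zf19) (kf xf16 yf12 zf37) (kf xf15 yf24 zf31) (kf xf17 yf22 zf20) (kf xf16 yf25 zf23) (kf xf16 yf9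 zf38) (kf xf15 yf24 zf34) (kf xf17 yf22 zf24) (kf xf16 yf20 zf7) (kf xf16 yf25 zf28) (kf xf17 yf20 zf22) (kf xf16 yf25 zf30) (kf xf17 yf20 zf42) (kf xf15 yf24 zf41) (kf xf17 yf22 zf31) (kf xf16 yf25 zf34) (kf xf15 yf24 zf44) (kf xf17 yf22 zf34) (kf xf15 yf25 zf2) (kf xf15 yf24 zf46) (kf xf17 yf22 zf37) (kf xf16 yf10 zf32) (kf xf15 yf25 zf18) (kf xf16 yf12 zf36) (kf xf16 yf19 zf30) (kf xf15 yf25 zf19) (kf xf17 yf22 zf36) (kf xf15 yf25 zf4) (kf xf17 yf22 zf45) (kf xf16 yf9 zf28) (kf xf16 yf11 zf2) (kf xf15 yf25 zf23)) (@D3.rec (fun _ => Pt) (kf xf15 yf25 zf10) (kf xf16 yf10 zf22) (kf xf17 yf22 zf50) (kf xf15 yf25 zf12) (kf xf17 yf23 zf2) (kf xf17 yf23 zf5) (kf xf16 yf9 zf2) (kf xf16 yf15 zf13) (kf xf15 yf25 zf17) (kf xf17 yf23 zf8) (kf xf17 yf22 zf40) (kf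 xf17 yf23 zf11) (kf xf16 yf26 zf12) (kf xf15 yf25 zf22) (kf xf17 yf23 zf13) (kf xf15 yf25 zf25) (kf xf15 yf25 zf30) (kf xf15 yf25 zf31) (kf xf15 yf25 zf29) (kf xf17 yf20 zf34) (kf xf17 yf23 zf15) (kf xf15 yf25 zf41) (kf xf15 yf25 zf42) (kf xf15 yf25 zf34) (kf xf17 yf23 zf20) (kf xf16 yf9 zf33) (kf xf15 yf26 zf13) (kf xf16 yf19 zf28) (kf xf15 yf26 zf14) (kf xf16 yf19 zf31) (kf xf17 yf23 zf28) (kf xf17 yf23 zf18) (kf xf17 yf23 zf19) (kf xf15 yf25 zf44) (kf xf17 yf23 zf31) (kf xf16 yf9 zf42) (kf xf16 yf9 zf43) (kf xf15 yf26 zf20) (kf xf16 yf10 zf24) (kf xf16 yf19 zf24) (kf xf15 yf26 zf0) (kf xf17 yf23 zf39) (kf xf17 yf23 zf42) (kf xf16 yf10 zf48) (kf xf16 yf19 zf25) (kf xf16 yf15 zf49) (kf xf16 yf15 zf50) (kf xf15 yf26 zf7) (kf xf17 yf23 zf48) (kf xf17 yf24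 zf0) (kf xf15 yf26 zf8))
def f_f_17 : D2 → D3 → Pt := @D2.rec (fun _ => D3 → Pt) (@D3.rec (fun _ => Pt) (kf xf16 yf16 zf4) (kf xf16 yf16 zf5) (kf xf15 yf26 zf12) (kf xf17 yf21 zf4) (kf xf17 yf24 zf5) (kf xf17 yf23 zf23) (kf xf17 yf24 zf8) (kf xf15 yf26 zf15) (kf xf17 yf0 zf8) (kf xf17 yf0 zf9) (kf xf15 yf26 zf19) (kf xf17 yf21 zf12) (kf xf17 yf24 zf12) (kf xf15 yf26 zf22) (kf xf15 yf26 zf31) (kf xf15 yf26 zf32) (kf xf15 yf26 zf33) (kf xf17 yf21 zf45) (kf xf15 yf26 zf30) (kf xf17 yf21 zf17) (kf xf17 yf0 zf20) (kf xf17 yf24 zf18) (kf xf15 yf26 zf38) (kf xf17 yf21 zf20) (kf xf15 yf26 zf44) (kf xf16 yf18 zf24) (kf xf16 yf13 zf29) (kf xf17 yf21 zf21) (kf xf17 yf21 zf22) (kf xf17 yf24 zf21) (kf xf15 yf26 zf47) (kf xf16 yf13 zf27) (kf xf16 yf0 zf7) (kf xf16 yf6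 zf25) (kf xf16 yf13 zf28) (kf xf17 yf24 zf20) (kf xf16 yf0 zf2) (kf xf16 yf11 zf34) (kf xf17 yf24 zf27) (kf xf16 yf0 zf5) (kf xf16 yf12 zf17) (kf xf17 yf0 zf41) (kf xf16 yf0 zf50) (kf xf16 yf12 zf39) (kf xf16 yf0 zf41) (kf xf16 yf0 zf49) (kf xf16 yf0 zf21) (kf xf16 yf0 zf48) (kf xf16 yf0 zf42) (kf xf16 yf1 zf3) (kf xf16 yf16 zf38)) (@D3.rec (fun _ => Pt) (kf xf16 yf0 zf37) (kf xf16 yf16 zf36) (kf xf16 yf16 zf37) (kf xf16 yf0 zf45) (kf xf16 yf0 zf47) (kf xf16 yf1 zf2) (kf xf16 yf2 zf13) (kf xf16 yf1 zf9) (kf xf16 yf17 zf43) (kf xf16 yf1 zf46) (kf xf16 yf1 zf17) (kf xf16 yf1 zf41) (kf xf16 yf1 zf18) (kf xf16 yf1 zf15) (kf xf17 yf24 zf34) (kf xf17 yf24 zf33) (kf xf16 yf1 zf20) (kf xf17 yf24 zf36) (kf xf16 yf2 zf43) (kf xf16 yf2 zf26) (kf xf16 yf2 zf16) (kf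 xf16 yf2 zf12) (kf xf16 yf1 zf31) (kf xf16 yf1 zf30) (kf xf17 yf24 zf41) (kf xf16 yf1 zf33) (kf xf16 yf4 zf4) (kf xf16 yf6 zf0) (kf xf16 yf5 zf16) (kf xf16 yf1 zf36) (kf xf17 yf24 zf45) (kf xf17 yf1 zf31) (kf xf16 yf1 zf39) (kf xf17 yf24 zf48) (kf xf17 yf24 zf32) (kf xf16 yf3 zf26) (kf xf16 yf2 zf0) (kf xf16 yf7 zf30) (kf xf17 yf24 zf31) (kf xf16 yf2 zf1) (kf xf16 yf2 zf36) (kf xf16 yf1 zf50) (kf xf17 yf25 zf6) (kf xf17 yf25 zf1) (kf xf17 yf25 zf8) (kf xf16 yf2 zf7) (kf xf16 yf2 zf4) (kf xf17 yf25 zf10) (kf xf17 yf25 zf9) (kf xf16 yf17 zf34) (kf xf17 yf24 zf39)) (@D3.rec (fun _ => Pt) (kf xf17 yf24 zf29) (kf xf16 yf2 zf21) (kf xf16 yf6 zf29) (kf xf17 yf24 zf38) (kf xf17 yf25 zf19) (kf xf16 yf2 zf45) (kf xf16 yf2 zf20) (kf xf17 yf25 zf21) (kf xf16 yf2 zf22)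 (kf xf16 yf2 zf27) (kf xf16 yf2 zf25) (kf xf16 yf5 zf47) (kf xf16 yf18 zf20) (kf xf16 yf6 zf4) (kf xf16 yf18 zf22) (kf xf16 yf6 zf32) (kf xf16 yf8 zf46) (kf xf16 yf2 zf34) (kf xf17 yf25 zf5) (kf xf16 yf18 zf1) (kf xf16 yf2 zf48) (kf xf16 yf3 zf6) (kf xf16 yf2 zf46) (kf xf16 yf6 zf27) (kf xf17 yf24 zf37) (kf xf16 yf2 zf47) (kf xf17 yf25 zf20) (kf xf17 yf25 zf29) (kf xf17 yf2 zf28) (kf xf16 yf10 zf44) (kf xf16 yf2 zf50) (kf xf17 yf25 zf37) (kf xf17 yf2 zf32) (kf xf16 yf3 zf2) (kf xf17 yf25 zf40) (kf xf16 yf3 zf34) (kf xf16 yf3 zf16) (kf xf17 yf25 zf30) (kf xf16 yf3 zf28) (kf xf16 yf3 zf17) (kf xf16 yf10 zf49) (kf xf16 yf3 zf12) (kf xf17 yf25 zf47) (kf xf16 yf3 zf20) (kf xf16 yf3 zf15) (kf xf17 yf25 zf50) (kf xf17 yf25 zf45) (kf xf16 yf3 zf19) (kf xf17 yf26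 zf1) (kf xf16 yf3 zf22) (kf xf17 yf26 zf2)) (@D3.rec (fun _ => Pt) (kf xf17 yf25 zf0) (kf xf17 yf25 zf44) (kf xf16 yf4 zf26) (kf xf16 yf3 zf32) (kf xf17 yf26 zf7) (kf xf16 yf3 zf42) (kf xf17 yf25 zf42) (kf xf16 yf3 zf43) (kf xf16 yf3 zf37) (kf xf17 yf26 zf12) (kf xf17 yf26 zf15) (kf xf16 yf3 zf40) (kf xf17 yf26 zf16) (kf xf17 yf26 zf10) (kf xf17 yf26 zf19) (kf xf16 yf3 zf45) (kf xf17 yf26 zf20) (kf xf17 yf26 zf22) (kf xf16 yf3 zf46) (kf xf16 yf3 zf48) (kf xf17 yf24 zf43) (kf xf16 yf6 zf8) (kf xf16 yf4 zf7) (kf xf17 yf26 zf26) (kf xf16 yf4 zf6) (kf xf16 yf4 zf8) (kf xf16 yf8 zf17) (kf xf16 yf4 zf10) (kf xf17 yf26 zf28) (kf xf17 yf3 zf29) (kf xf16 yf4 zf13) (kf xf17 yf26 zf31) (kf xf17 yf20 zf9) (kf xf17 yf3 zf33) (kf xf16 yf13 zf39) (kf xf17 yf20 zf7) (kf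 xf16 yf4 zf19) (kf xf17 yf26 zf37) (kf xf17 yf3 zf38) (kf xf16 yf4 zf22) (kf xf17 yf26 zf40) (kf xf17 yf19 zf46) (kf xf16 yf8 zf0) (kf xf16 yf8 zf20) (kf xf17 yf26 zf6) (kf xf16 yf4 zf41) (kf xf16 yf4 zf29) (kf xf17 yf26 zf47) (kf xf16 yf6 zf38) (kf xf16 yf16 zf42) (kf xf16 yf4 zf44)) (@D3.rec (fun _ => Pt) (kf xf17 yf20 zf19) (kf xf17 yf20 zf39) (kf xf16 yf4 zf36) (kf xf18 yf0 zf3) (kf xf18 yf0 zf6) (kf xf16 yf12 zf47) (kf xf16 yf4 zf40) (kf xf18 yf0 zf8) (kf xf16 yf4 zf43) (kf xf18 yf0 zf12) (kf xf16 yf4 zf46) (kf xf16 yf4 zf47) (kf xf16 yf5 zf1) (kf xf16 yf4 zf50) (kf xf17 yf25 zf11) (kf xf16 yf5 zf3) (kf xf18 yf0 zf16) (kf xf16 yf5 zf5) (kf xf16 yf5 zf6) (kf xf18 yf0 zf18) (kf xf18 yf0 zf19) (kf xf16 yf5 zf8) (kf xf18 yf0 zf22) (kf xf17 yf26 zf23)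 (kf xf16 yf5 zf11) (kf xf18 yf0 zf25) (kf xf16 yf16 zf50) (kf xf16 yf17 zf0) (kf xf16 yf5 zf17) (kf xf17 yf24 zf44) (kf xf18 yf0 zf30) (kf xf16 yf5 zf19) (kf xf18 yf0 zf33) (kf xf18 yf0 zf36) (kf xf16 yf5 zf23) (kf xf16 yf5 zf24) (kf xf18 yf0 zf37) (kf xf18 yf0 zf38) (kf xf16 yf18 zf9) (kf xf16 yf5 zf27) (kf xf18 yf0 zf43) (kf xf18 yf0 zf47) (kf xf16 yf5 zf28) (kf xf16 yf18 zf14) (kf xf16 yf18 zf15) (kf xf16 yf5 zf32) (kf xf17 yf25 zf22) (kf xf18 yf1 zf1) (kf xf16 yf5 zf34) (kf xf17 yf24 zf40) (kf xf16 yf5 zf37)) (@D3.rec (fun _ => Pt) (kf xf18 yf1 zf6) (kf xf16 yf5 zf38) (kf xf16 yf5 zf50) (kf xf16 yf5 zf41) (kf xf18 yf1 zf9) (kf xf16 yf5 zf42) (kf xf16 yf5 zf48) (kf xf16 yf17 zf50) (kf xf17 yf25 zf25) (kf xf16 yf6 zf14) (kf xf16 yf18 zf28) (kf xf17 yf24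 zf17) (kf xf17 yf5 zf12) (kf xf17 yf5 zf13) (kf xf17 yf26 zf24) (kf xf17 yf5 zf15) (kf xf17 yf5 zf16) (kf xf17 yf5 zf17) (kf xf17 yf5 zf18) (kf xf18 yf1 zf11) (kf xf17 yf5 zf20) (kf xf17 yf5 zf21) (kf xf18 yf1 zf22) (kf xf18 yf1 zf23) (kf xf16 yf6 zf18) (kf xf17 yf22 zf9) (kf xf16 yf11 zf9) (kf xf16 yf6 zf26) (kf xf17 yf22 zf10) (kf xf17 yf24 zf24) (kf xf17 yf25 zf31) (kf xf17 yf25 zf16) (kf xf16 yf6 zf31) (kf xf18 yf1 zf30) (kf xf16 yf8 zf43) (kf xf16 yf6 zf36) (kf xf18 yf1 zf33) (kf xf17 yf26 zf49) (kf xf17 yf5 zf38) (kf xf16 yf6 zf41) (kf xf18 yf1 zf37) (kf xf16 yf6 zf43) (kf xf18 yf1 zf39) (kf xf16 yf6 zf46) (kf xf18 yf1 zf41) (kf xf16 yf6 zf48) (kf xf18 yf1 zf43) (kf xf16 yf6 zf50) (kf xf16 yf10 zf17) (kf xf17 yf21 zf40) (kf xf16 yf7 zf4)) (@D3.rec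 (fun _ => Pt) (kf xf18 yf1 zf48) (kf xf16 yf18 zf33) (kf xf16 yf7 zf7) (kf xf18 yf2 zf0) (kf xf16 yf13 zf37) (kf xf16 yf18 zf35) (kf xf16 yf7 zf11) (kf xf18 yf2 zf5) (kf xf16 yf7 zf34) (kf xf16 yf7 zf38) (kf xf16 yf7 zf15) (kf xf16 yf11 zf26) (kf xf18 yf2 zf10) (kf xf16 yf11 zf38) (kf xf16 yf7 zf21) (kf xf17 yf22 zf15) (kf xf16 yf12 zf1) (kf xf18 yf2 zf15) (kf xf17 yf22 zf16) (kf xf16 yf12 zf18) (kf xf17 yf21 zf37) (kf xf17 yf21 zf41) (kf xf17 yf25 zf2) (kf xf17 yf21 zf31) (kf xf16 yf7 zf39) (kf xf18 yf2 zf7) (kf xf16 yf18 zf34) (kf xf17 yf21 zf32) (kf xf17 yf23 zf16) (kf xf18 yf2 zf8) (kf xf16 yf7 zf41) (kf xf18 yf2 zf27) (kf xf16 yf7 zf44) (kf xf18 yf2 zf29) (kf xf17 yf6 zf34) (kf xf16 yf7 zf47) (kf xf18 yf2 zf32) (kf xf16 yf7 zf49) (kf xf18 yf2 zf34)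 (kf xf17 yf26 zf43) (kf xf16 yf8 zf2) (kf xf18 yf2 zf37) (kf xf16 yf8 zf4) (kf xf18 yf2 zf39) (kf xf17 yf6 zf44) (kf xf16 yf8 zf7) (kf xf18 yf2 zf43) (kf xf16 yf8 zf9) (kf xf16 yf19 zf15) (kf xf16 yf8 zf11) (kf xf18 yf2 zf46)) (@D3.rec (fun _ => Pt) (kf xf16 yf8 zf14) (kf xf18 yf2 zf48) (kf xf16 yf8 zf16) (kf xf18 yf2 zf50) (kf xf17 yf26 zf27) (kf xf16 yf8 zf19) (kf xf18 yf3 zf2) (kf xf17 yf26 zf44) (kf xf16 yf8 zf22) (kf xf18 yf3 zf5) (kf xf16 yf15 zf8) (kf xf17 yf21 zf49) (kf xf17 yf21 zf50) (kf xf16 yf8 zf28) (kf xf16 yf8 zf29) (kf xf18 yf3 zf11) (kf xf18 yf3 zf12) (kf xf16 yf8 zf31) (kf xf18 yf3 zf15) (kf xf16 yf8 zf33) (kf xf18 yf1 zf31) (kf xf18 yf3 zf18) (kf xf17 yf7 zf22) (kf xf16 yf8 zf36) (kf xf18 yf3 zf22) (kf xf17 yf7 zf25) (kf xf16 yf8 zf39)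 (kf xf17 yf25 zf26) (kf xf16 yf8 zf41) (kf xf16 yf20 zf26) (kf xf17 yf20 zf45) (kf xf17 yf7 zf31) (kf xf18 yf3 zf30) (kf xf16 yf21 zf29) (kf xf17 yf21 zf26) (kf xf17 yf7 zf35) (kf xf17 yf7 zf36) (kf xf17 yf23 zf6) (kf xf16 yf20 zf8) (kf xf17 yf7 zf39) (kf xf16 yf9 zf7) (kf xf18 yf3 zf35) (kf xf17 yf7 zf42) (kf xf16 yf20 zf2) (kf xf16 yf9 zf11) (kf xf18 yf3 zf38) (kf xf17 yf20 zf16) (kf xf17 yf7 zf47) (kf xf16 yf20 zf13) (kf xf16 yf9 zf16) (kf xf18 yf3 zf43)) (@D3.rec (fun _ => Pt) (kf xf17 yf8 zf0) (kf xf16 yf9 zf20) (kf xf16 yf19 zf34) (kf xf18 yf3 zf47) (kf xf16 yf14 zf43) (kf xf16 yf9 zf23) (kf xf18 yf4 zf0) (kf xf18 yf4 zf3) (kf xf16 yf14 zf45) (kf xf16 yf9 zf27) (kf xf18 yf4 zf5) (kf xf17 yf22 zf47) (kf xf16 yf9 zf39) (kf xf16 yf9 zf32) (kf xf18 yf4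 zf10) (kf xf17 yf23 zf22) (kf xf16 yf15 zf3) (kf xf16 yf9 zf37) (kf xf18 yf4 zf14) (kf xf17 yf22 zf23) (kf xf18 yf4 zf9) (kf xf16 yf9 zf41) (kf xf18 yf4 zf18) (kf xf17 yf23 zf34) (kf xf17 yf23 zf35) (kf xf16 yf9 zf46) (kf xf16 yf9 zf47) (kf xf18 yf4 zf23) (kf xf18 yf4 zf24) (kf xf16 yf20 zf14) (kf xf16 yf9 zf50) (kf xf18 yf4 zf28) (kf xf16 yf20 zf17) (kf xf16 yf20 zf18) (kf xf16 yf10 zf3) (kf xf18 yf1 zf44) (kf xf18 yf4 zf34) (kf xf17 yf8 zf37) (kf xf16 yf10 zf6) (kf xf17 yf8 zf39) (kf xf17 yf8 zf40) (kf xf16 yf10 zf10) (kf xf18 yf1 zf46) (kf xf18 yf4 zf41) (kf xf16 yf10 zf19) (kf xf16 yf13 zf25) (kf xf16 yf10 zf20) (kf xf16 yf10 zf21) (kf xf17 yf22 zf3) (kf xf16 yf10 zf18) (kf xf16 yf16 zf20)) (@D3.rec (fun _ => Pt) (kf xf18 yf4 zf43) (kf xf17 yf23 zf0)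 (kf xf17 yf23 zf37) (kf xf16 yf10 zf45) (kf xf16 yf10 zf27) (kf xf18 yf5 zf0) (kf xf18 yf5 zf3) (kf xf16 yf10 zf50) (kf xf16 yf10 zf31) (kf xf18 yf5 zf5) (kf xf17 yf22 zf39) (kf xf16 yf10 zf35) (kf xf16 yf10 zf37) (kf xf18 yf5 zf9) (kf xf16 yf15 zf38) (kf xf16 yf10 zf42) (kf xf16 yf10 zf43) (kf xf18 yf5 zf12) (kf xf18 yf5 zf13) (kf xf17 yf25 zf36) (kf xf18 yf4 zf50) (kf xf16 yf10 zf47) (kf xf18 yf5 zf18) (kf xf17 yf23 zf43) (kf xf17 yf25 zf46) (kf xf18 yf5 zf4) (kf xf16 yf11 zf1) (kf xf18 yf2 zf1) (kf xf18 yf5 zf25) (kf xf17 yf22 zf48) (kf xf16 yf20 zf46) (kf xf16 yf11 zf5) (kf xf18 yf5 zf30) (kf xf16 yf20 zf47) (kf xf16 yf11 zf8) (kf xf18 yf5 zf33) (kf xf18 yf1 zf25) (kf xf16 yf13 zf41) (kf xf16 yf20 zf50) (kf xf16 yf21 zf0) (kf xf16 yf11 zf15) (kf xf16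 yf11 zf16) (kf xf18 yf5 zf40) (kf xf18 yf5 zf41) (kf xf18 yf5 zf47) (kf xf16 yf21 zf5) (kf xf16 yf21 zf6) (kf xf16 yf11 zf20) (kf xf18 yf6 zf2) (kf xf18 yf6 zf0) (kf xf18 yf6 zf5)) (@D3.rec (fun _ => Pt) (kf xf16 yf11 zf21) (kf xf16 yf21 zf12) (kf xf16 yf21 zf13) (kf xf17 yf22 zf12) (kf xf16 yf11 zf27) (kf xf18 yf2 zf11) (kf xf18 yf6 zf10) (kf xf16 yf11 zf29) (kf xf17 yf10 zf8) (kf xf17 yf10 zf9) (kf xf16 yf11 zf33) (kf xf17 yf24 zf26) (kf xf17 yf10 zf12) (kf xf17 yf10 zf13) (kf xf18 yf6 zf22) (kf xf16 yf11 zf39) (kf xf16 yf19 zf42) (kf xf18 yf6 zf23) (kf xf16 yf12 zf3) (kf xf18 yf1 zf26) (kf xf16 yf12 zf4) (kf xf18 yf6 zf27) (kf xf16 yf15 zf12) (kf xf16 yf11 zf46) (kf xf16 yf12 zf6) (kf xf16 yf18 zf27) (kf xf16 yf15 zf43) (kf xf16 yf12 zf2) (kf xf17 yf24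 zf1) (kf xf18 yf2 zf14) (kf xf18 yf6 zf34) (kf xf16 yf12 zf5) (kf xf17 yf10 zf32) (kf xf18 yf1 zf12) (kf xf17 yf10 zf34) (kf xf18 yf6 zf39) (kf xf16 yf12 zf9) (kf xf16 yf12 zf12) (kf xf16 yf21 zf37) (kf xf16 yf21 zf40) (kf xf16 yf16 zf24) (kf xf16 yf16 zf31) (kf xf16 yf22 zf1) (kf xf17 yf24 zf28) (kf xf18 yf2 zf16) (kf xf17 yf10 zf45) (kf xf17 yf22 zf41) (kf xf18 yf7 zf0) (kf xf16 yf12 zf22) (kf xf16 yf12 zf23) (kf xf18 yf6 zf43)) (@D3.rec (fun _ => Pt) (kf xf17 yf11 zf0) (kf xf17 yf11 zf1) (kf xf18 yf7 zf4) (kf xf16 yf12 zf32) (kf xf17 yf22 zf19) (kf xf16 yf17 zf26) (kf xf16 yf17 zf31) (kf xf16 yf16 zf44) (kf xf16 yf12 zf45) (kf xf18 yf7 zf8) (kf xf16 yf18 zf0) (kf xf18 yf0 zf7) (kf xf16 yf17 zf38) (kf xf16 yf17 zf40) (kf xf16 yf13 zf0) (kf xf18 yf7 zf14)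 (kf xf16 yf13 zf2) (kf xf18 yf7 zf16) (kf xf16 yf17 zf27) (kf xf16 yf13 zf5) (kf xf18 yf7 zf19) (kf xf17 yf19 zf47) (kf xf16 yf13 zf8) (kf xf18 yf7 zf23) (kf xf16 yf13 zf10) (kf xf16 yf13 zf13) (kf xf18 yf0 zf14) (kf xf16 yf19 zf16) (kf xf16 yf13 zf38) (kf xf16 yf19 zf18) (kf xf16 yf19 zf19) (kf xf16 yf19 zf20) (kf xf16 yf19 zf26) (kf xf16 yf19 zf27) (kf xf16 yf19 zf29) (kf xf17 yf23 zf36) (kf xf16 yf19 zf32) (kf xf18 yf4 zf29) (kf xf16 yf19 zf33) (kf xf17 yf11 zf39) (kf xf16 yf18 zf31) (kf xf16 yf18 zf32) (kf xf17 yf20 zf43) (kf xf17 yf20 zf44) (kf xf18 yf3 zf27) (kf xf18 yf2 zf3) (kf xf17 yf26 zf35) (kf xf17 yf11 zf47) (kf xf18 yf5 zf37) (kf xf17 yf11 zf49) (kf xf16 yf13 zf44)) (@D3.rec (fun _ => Pt) (kf xf18 yf7 zf49) (kf xf17 yf20 zf17) (kf xf16 yf14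 zf13) (kf xf16 yf13 zf48) (kf xf18 yf8 zf2) (kf xf16 yf13 zf50) (kf xf18 yf8 zf4) (kf xf18 yf8 zf7) (kf xf16 yf14 zf2) (kf xf18 yf8 zf8) (kf xf17 yf20 zf23) (kf xf17 yf20 zf24) (kf xf18 yf8 zf13) (kf xf16 yf14 zf7) (kf xf18 yf8 zf14) (kf xf16 yf14 zf9) (kf xf18 yf8 zf17) (kf xf18 yf8 zf21) (kf xf16 yf14 zf10) (kf xf16 yf14 zf12) (kf xf18 yf8 zf22) (kf xf18 yf8 zf24) (kf xf16 yf14 zf15) (kf xf16 yf14 zf16) (kf xf16 yf14 zf17) (kf xf18 yf2 zf45) (kf xf17 yf12 zf26) (kf xf18 yf8 zf28) (kf xf18 yf8 zf29) (kf xf17 yf12 zf29) (kf xf18 yf8 zf31) (kf xf16 yf14 zf25) (kf xf17 yf12 zf32) (kf xf17 yf12 zf33) (kf xf18 yf8 zf36) (kf xf16 yf14 zf28) (kf xf18 yf8 zf37) (kf xf16 yf14 zf30) (kf xf16 yf14 zf32) (kf xf17 yf12 zf39) (kf xf16 yf16 zf21) (kf xf16 yf19 zf48)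 (kf xf16 yf20 zf21) (kf xf16 yf19 zf49) (kf xf16 yf19 zf50) (kf xf18 yf3 zf23) (kf xf16 yf20 zf0) (kf xf17 yf22 zf17) (kf xf18 yf3 zf50) (kf xf17 yf12 zf49) (kf xf18 yf4 zf4)) (@D3.rec (fun _ => Pt) (kf xf16 yf19 zf36) (kf xf16 yf19 zf37) (kf xf16 yf15 zf16) (kf xf16 yf19 zf39) (kf xf16 yf19 zf40) (kf xf16 yf19 zf41) (kf xf18 yf6 zf17) (kf xf16 yf19 zf43) (kf xf18 yf4 zf13) (kf xf16 yf15 zf5) (kf xf18 yf9 zf7) (kf xf18 yf4 zf45) (kf xf16 yf15 zf9) (kf xf18 yf3 zf8) (kf xf18 yf9 zf10) (kf xf16 yf15 zf11) (kf xf18 yf9 zf14) (kf xf18 yf6 zf28) (kf xf17 yf23 zf7) (kf xf16 yf15 zf15) (kf xf18 yf9 zf18) (kf xf16 yf15 zf19) (kf xf18 yf9 zf20) (kf xf18 yf9 zf23) (kf xf16 yf15 zf22) (kf xf18 yf9 zf24) (kf xf16 yf15 zf24) (kf xf18 yf9 zf27) (kf xf18 yf6 zf29) (kf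 xf16 yf15 zf28) (kf xf16 yf15 zf29) (kf xf18 yf9 zf30) (kf xf18 yf9 zf31) (kf xf16 yf15 zf31) (kf xf18 yf9 zf35) (kf xf18 yf9 zf39) (kf xf16 yf15 zf32) (kf xf16 yf15 zf34) (kf xf18 yf9 zf41) (kf xf16 yf15 zf36) (kf xf18 yf9 zf43) (kf xf16 yf15 zf39) (kf xf18 yf5 zf11) (kf xf18 yf9 zf45) (kf xf16 yf20 zf1) (kf xf16 yf15 zf42) (kf xf18 yf9 zf50) (kf xf18 yf6 zf30) (kf xf16 yf19 zf21) (kf xf16 yf15 zf47) (kf xf16 yf15 zf48)) (@D3.rec (fun _ => Pt) (kf xf18 yf10 zf4) (kf xf18 yf10 zf5) (kf xf18 yf10 zf11) (kf xf17 yf23 zf46) (kf xf17 yf23 zf47) (kf xf16 yf16 zf1) (kf xf18 yf4 zf47) (kf xf18 yf10 zf15) (kf xf18 yf10 zf19) (kf xf16 yf16 zf2) (kf xf17 yf24 zf2) (kf xf17 yf24 zf3) (kf xf16 yf16 zf7) (kf xf18 yf10 zf22) (kf xf16 yf16 zf9) (kf xf18 yf10 zf23) (kf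 xf16 yf16 zf11) (kf xf18 yf4 zf42) (kf xf17 yf14 zf18) (kf xf16 yf16 zf15) (kf xf18 yf4 zf46) (kf xf16 yf16 zf22) (kf xf17 yf22 zf49) (kf xf16 yf16 zf23) (kf xf17 yf14 zf24) (kf xf18 yf10 zf28) (kf xf16 yf16 zf27) (kf xf18 yf6 zf46) (kf xf17 yf14 zf28) (kf xf18 yf6 zf44) (kf xf18 yf10 zf31) (kf xf16 yf16 zf33) (kf xf16 yf17 zf4) (kf xf16 yf17 zf2) (kf xf17 yf26 zf50) (kf xf18 yf10 zf36) (kf xf18 yf7 zf7) (kf xf16 yf16 zf45) (kf xf17 yf26 zf25) (kf xf16 yf16 zf47) (kf xf17 yf21 zf33) (kf xf18 yf0 zf28) (kf xf18 yf0 zf29) (kf xf18 yf10 zf42) (kf xf18 yf10 zf33) (kf xf16 yf17 zf3) (kf xf18 yf10 zf32) (kf xf16 yf17 zf7) (kf xf16 yf17 zf8) (kf xf18 yf10 zf45) (kf xf18 yf10 zf46)) (@D3.rec (fun _ => Pt) (kf xf16 yf17 zf10) (kf xf18 yf10 zf50) (kf xf18 yf11 zf3)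 (kf xf16 yf17 zf11) (kf xf16 yf17 zf13) (kf xf18 yf11 zf5) (kf xf18 yf11 zf7) (kf xf16 yf17 zf15) (kf xf16 yf17 zf17) (kf xf17 yf15 zf9) (kf xf18 yf11 zf9) (kf xf16 yf17 zf20) (kf xf17 yf20 zf3) (kf xf16 yf20 zf40) (kf xf17 yf19 zf39) (kf xf18 yf1 zf7) (kf xf18 yf7 zf5) (kf xf18 yf7 zf18) (kf xf17 yf19 zf45) (kf xf17 yf19 zf44) (kf xf18 yf11 zf18) (kf xf16 yf17 zf30) (kf xf18 yf7 zf6) (kf xf17 yf25 zf12) (kf xf18 yf11 zf22) (kf xf17 yf20 zf15) (kf xf17 yf20 zf35) (kf xf18 yf7 zf12) (kf xf18 yf11 zf28) (kf xf16 yf17 zf39) (kf xf18 yf7 zf13) (kf xf16 yf17 zf41) (kf xf17 yf24 zf30) (kf xf17 yf25 zf24) (kf xf16 yf17 zf46) (kf xf18 yf11 zf32) (kf xf17 yf19 zf37) (kf xf17 yf20 zf0) (kf xf17 yf19 zf38) (kf xf18 yf1 zf0) (kf xf18 yf7 zf10) (kf xf17 yf25 zf28)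 (kf xf17 yf25 zf15) (kf xf17 yf21 zf39) (kf xf16 yf18 zf5) (kf xf18 yf11 zf44) (kf xf18 yf11 zf47) (kf xf16 yf18 zf6) (kf xf17 yf21 zf48) (kf xf17 yf22 zf6) (kf xf18 yf6 zf7)) (@D3.rec (fun _ => Pt) (kf xf18 yf0 zf42) (kf xf16 yf18 zf11) (kf xf18 yf0 zf49) (kf xf18 yf12 zf2) (kf xf18 yf12 zf6) (kf xf16 yf18 zf12) (kf xf18 yf0 zf48) (kf xf18 yf0 zf50) (kf xf16 yf18 zf17) (kf xf18 yf12 zf9) (kf xf17 yf24 zf14) (kf xf18 yf4 zf44) (kf xf16 yf18 zf30) (kf xf18 yf12 zf10) (kf xf18 yf7 zf39) (kf xf18 yf7 zf40) (kf xf18 yf1 zf50) (kf xf18 yf2 zf23) (kf xf18 yf2 zf4) (kf xf16 yf18 zf37) (kf xf18 yf12 zf17) (kf xf16 yf18 zf39) (kf xf18 yf12 zf19) (kf xf16 yf18 zf49) (kf xf16 yf18 zf42) (kf xf18 yf12 zf22) (kf xf16 yf18 zf44) (kf xf18 yf12 zf25) (kf xf16 yf18 zf46)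 (kf xf18 yf12 zf27) (kf xf16 yf18 zf48) (kf xf18 yf12 zf29) (kf xf18 yf12 zf21) (kf xf16 yf19 zf0) (kf xf18 yf12 zf33) (kf xf16 yf19 zf2) (kf xf18 yf12 zf35) (kf xf16 yf19 zf4) (kf xf18 yf12 zf37) (kf xf16 yf19 zf6) (kf xf18 yf12 zf40) (kf xf16 yf19 zf8) (kf xf18 yf2 zf40) (kf xf18 yf12 zf43) (kf xf16 yf19 zf10) (kf xf18 yf12 zf46) (kf xf16 yf19 zf12) (kf xf18 yf2 zf44) (kf xf17 yf21 zf42) (kf xf18 yf7 zf27) (kf xf18 yf3 zf26)) (@D3.rec (fun _ => Pt) (kf xf18 yf7 zf29) (kf xf18 yf7 zf30) (kf xf18 yf7 zf31) (kf xf18 yf10 zf3) (kf xf16 yf19 zf23) (kf xf18 yf13 zf3) (kf xf17 yf23 zf38) (kf xf17 yf23 zf44) (kf xf18 yf7 zf32) (kf xf18 yf7 zf33) (kf xf17 yf23 zf24) (kf xf18 yf7 zf34) (kf xf17 yf22 zf42) (kf xf17 yf23 zf26) (kf xf18 yf7 zf36) (kf xf18 yf7 zf38)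 (kf xf18 yf3 zf48) (kf xf16 yf21 zf28) (kf xf18 yf8 zf49) (kf xf18 yf8 zf50) (kf xf16 yf22 zf3) (kf xf18 yf6 zf24) (kf xf18 yf9 zf1) (kf xf18 yf9 zf2) (kf xf18 yf9 zf3) (kf xf18 yf6 zf25) (kf xf18 yf9 zf5) (kf xf16 yf19 zf45) (kf xf18 yf13 zf27) (kf xf16 yf19 zf47) (kf xf18 yf13 zf29) (kf xf18 yf8 zf38) (kf xf18 yf8 zf41) (kf xf18 yf8 zf42) (kf xf18 yf8 zf44) (kf xf18 yf9 zf49) (kf xf18 yf3 zf37) (kf xf16 yf20 zf4) (kf xf18 yf13 zf38) (kf xf16 yf20 zf6) (kf xf18 yf13 zf40) (kf xf17 yf22 zf26) (kf xf18 yf3 zf34) (kf xf16 yf20 zf11) (kf xf16 yf20 zf12) (kf xf18 yf13 zf45) (kf xf18 yf13 zf46) (kf xf18 yf3 zf42) (kf xf18 yf4 zf27) (kf xf16 yf20 zf16) (kf xf18 yf3 zf16)) (@D3.rec (fun _ => Pt) (kf xf18 yf14 zf2) (kf xf18 yf4 zf31) (kf xf18 yf4 zf32) (kf xf16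 yf20 zf20) (kf xf18 yf14 zf7) (kf xf18 yf8 zf39) (kf xf16 yf20 zf23) (kf xf17 yf22 zf0) (kf xf16 yf20 zf27) (kf xf18 yf14 zf8) (kf xf16 yf20 zf29) (kf xf18 yf14 zf10) (kf xf16 yf20 zf41) (kf xf16 yf20 zf32) (kf xf18 yf12 zf23) (kf xf18 yf14 zf15) (kf xf16 yf20 zf34) (kf xf18 yf14 zf18) (kf xf17 yf22 zf7) (kf xf16 yf20 zf37) (kf xf18 yf14 zf24) (kf xf18 yf14 zf22) (kf xf18 yf14 zf27) (kf xf16 yf20 zf38) (kf xf18 yf5 zf29) (kf xf18 yf11 zf10) (kf xf18 yf14 zf13) (kf xf16 yf20 zf43) (kf xf18 yf14 zf31) (kf xf16 yf20 zf45) (kf xf18 yf14 zf32) (kf xf18 yf5 zf32) (kf xf16 yf20 zf49) (kf xf17 yf22 zf8) (kf xf18 yf14 zf36) (kf xf18 yf5 zf38) (kf xf18 yf5 zf39) (kf xf16 yf21 zf3) (kf xf16 yf21 zf4) (kf xf18 yf14 zf19) (kf xf18 yf14 zf42) (kf xf18 yf14 zf44) (kf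 xf18 yf5 zf48) (kf xf18 yf5 zf49) (kf xf18 yf15 zf1) (kf xf16 yf21 zf9) (kf xf18 yf15 zf4) (kf xf16 yf21 zf8) (kf xf18 yf15 zf2) (kf xf18 yf15 zf6) (kf xf16 yf21 zf10)) (@D3.rec (fun _ => Pt) (kf xf18 yf6 zf6) (kf xf18 yf6 zf8) (kf xf16 yf21 zf15) (kf xf16 yf21 zf18) (kf xf16 yf21 zf47) (kf xf16 yf21 zf19) (kf xf17 yf19 zf6) (kf xf18 yf6 zf31) (kf xf16 yf21 zf26) (kf xf18 yf15 zf9) (kf xf17 yf19 zf10) (kf xf18 yf6 zf40) (kf xf17 yf19 zf12) (kf xf18 yf6 zf41) (kf xf17 yf24 zf19) (kf xf17 yf19 zf15) (kf xf18 yf6 zf42) (kf xf17 yf19 zf17) (kf xf18 yf6 zf45) (kf xf17 yf19 zf19) (kf xf18 yf15 zf15) (kf xf18 yf8 zf40) (kf xf16 yf21 zf48) (kf xf16 yf21 zf49) (kf xf16 yf22 zf8) (kf xf18 yf15 zf16) (kf xf16 yf22 zf10) (kf xf16 yf22 zf12) (kf xf18 yf15 zf19) (kf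 xf16 yf22 zf14) (kf xf18 yf15 zf21) (kf xf16 yf22 zf16) (kf xf18 yf15 zf23) (kf xf16 yf22 zf20) (kf xf16 yf22 zf23) (kf xf16 yf22 zf43) (kf xf16 yf22 zf47) (kf xf17 yf15 zf36) (kf xf17 yf15 zf38) (kf xf17 yf15 zf14) (kf xf16 yf22 zf30) (kf xf18 yf15 zf31) (kf xf16 yf22 zf33) (kf xf18 yf15 zf18) (kf xf17 yf15 zf19) (kf xf17 yf15 zf18) (kf xf17 yf3 zf41) (kf xf17 yf11 zf21) (kf xf16 yf22 zf39) (kf xf18 yf15 zf24) (kf xf18 yf15 zf40)) (@D3.rec (fun _ => Pt) (kf xf17 yf15 zf37) (kf xf16 yf22 zf44) (kf xf18 yf15 zf26) (kf xf17 yf15 zf12) (kf xf18 yf15 zf27) (kf xf16 yf22 zf49) (kf xf18 yf15 zf46) (kf xf17 yf3 zf35) (kf xf17 yf20 zf8) (kf xf17 yf3 zf32) (kf xf16 yf23 zf4) (kf xf18 yf16 zf0) (kf xf17 yf20 zf12) (kf xf16 yf23 zf7) (kf xf18 yf16 zf3) (kf xf17 yf15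 zf25) (kf xf17 yf7 zf46) (kf xf17 yf12 zf1) (kf xf16 yf23 zf22) (kf xf17 yf4 zf0) (kf xf16 yf23 zf15) (kf xf18 yf16 zf10) (kf xf16 yf25 zf29) (kf xf17 yf12 zf10) (kf xf17 yf12 zf11) (kf xf18 yf16 zf16) (kf xf16 yf23 zf21) (kf xf18 yf16 zf17) (kf xf18 yf16 zf20) (kf xf17 yf20 zf29) (kf xf16 yf23 zf25) (kf xf18 yf16 zf22) (kf xf16 yf23 zf26) (kf xf16 yf23 zf28) (kf xf16 yf26 zf19) (kf xf17 yf15 zf26) (kf xf16 yf23 zf31) (kf xf18 yf16 zf26) (kf xf18 yf16 zf29) (kf xf17 yf4 zf1) (kf xf16 yf23 zf35) (kf xf18 yf16 zf31) (kf xf16 yf25 zf31) (kf xf17 yf11 zf42) (kf xf17 yf11 zf43) (kf xf17 yf7 zf30) (kf xf16 yf23 zf42) (kf xf16 yf23 zf43) (kf xf18 yf16 zf38) (kf xf18 yf16 zf39) (kf xf16 yf23 zf45)) (@D3.rec (fun _ => Pt) (kf xf18 yf16 zf43) (kf xf18 yf16 zf47)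 (kf xf16 yf23 zf46) (kf xf16 yf23 zf48) (kf xf17 yf0 zf3) (kf xf18 yf16 zf49) (kf xf16 yf23 zf50) (kf xf18 yf17 zf1) (kf xf18 yf17 zf3) (kf xf16 yf24 zf0) (kf xf17 yf21 zf10) (kf xf16 yf24 zf3) (kf xf17 yf0 zf11) (kf xf16 yf24 zf5) (kf xf18 yf17 zf9) (kf xf16 yf24 zf6) (kf xf16 yf24 zf10) (kf xf17 yf0 zf19) (kf xf17 yf21 zf18) (kf xf18 yf17 zf12) (kf xf17 yf0 zf23) (kf xf17 yf0 zf27) (kf xf17 yf0 zf28) (kf xf16 yf24 zf16) (kf xf17 yf21 zf24) (kf xf17 yf21 zf25) (kf xf17 yf7 zf34) (kf xf17 yf21 zf27) (kf xf18 yf17 zf19) (kf xf16 yf24 zf23) (kf xf17 yf21 zf30) (kf xf17 yf6 zf23) (kf xf17 yf6 zf27) (kf xf17 yf14 zf40) (kf xf17 yf21 zf34) (kf xf16 yf24 zf32) (kf xf18 yf17 zf24) (kf xf17 yf6 zf20) (kf xf16 yf24 zf42) (kf xf17 yf15 zf43) (kf xf17 yf5 zf49) (kf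 xf17 yf6 zf21) (kf xf17 yf16 zf48) (kf xf16 yf24 zf41) (kf xf18 yf17 zf32) (kf xf17 yf0 zf17) (kf xf16 yf24 zf46) (kf xf18 yf17 zf35) (kf xf17 yf15 zf48) (kf xf17 yf7 zf11) (kf xf17 yf7 zf12)) (@D3.rec (fun _ => Pt) (kf xf17 yf18 zf7) (kf xf16 yf25 zf1) (kf xf18 yf17 zf41) (kf xf17 yf8 zf48) (kf xf16 yf25 zf4) (kf xf18 yf17 zf44) (kf xf17 yf15 zf49) (kf xf17 yf18 zf18) (kf xf17 yf18 zf33) (kf xf17 yf5 zf25) (kf xf17 yf5 zf28) (kf xf16 yf25 zf11) (kf xf17 yf10 zf3) (kf xf18 yf18 zf1) (kf xf16 yf25 zf15) (kf xf17 yf6 zf15) (kf xf17 yf6 zf18) (kf xf17 yf12 zf47) (kf xf17 yf22 zf18) (kf xf17 yf11 zf4) (kf xf16 yf25 zf22) (kf xf18 yf18 zf8) (kf xf17 yf22 zf22) (kf xf17 yf8 zf19) (kf xf16 yf25 zf26) (kf xf18 yf18 zf12) (kf xf17 yf17 zf41) (kf xf17 yf22 zf27)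 (kf xf18 yf16 zf12) (kf xf17 yf22 zf29) (kf xf18 yf16 zf34) (kf xf16 yf25 zf33) (kf xf18 yf18 zf20) (kf xf18 yf18 zf23) (kf xf16 yf25 zf36) (kf xf18 yf18 zf24) (kf xf16 yf25 zf45) (kf xf16 yf25 zf39) (kf xf18 yf18 zf28) (kf xf17 yf9 zf10) (kf xf16 yf26 zf10) (kf xf17 yf10 zf46) (kf xf17 yf17 zf12) (kf xf18 yf18 zf35) (kf xf18 yf18 zf27) (kf xf16 yf25 zf47) (kf xf18 yf18 zf37) (kf xf17 yf8 zf11) (kf xf17 yf9 zf29) (kf xf17 yf14 zf22) (kf xf16 yf26 zf2)) (@D3.rec (fun _ => Pt) (kf xf17 yf9 zf1) (kf xf18 yf18 zf43) (kf xf16 yf26 zf4) (kf xf18 yf18 zf47) (kf xf18 yf18 zf50) (kf xf16 yf26 zf5) (kf xf17 yf7 zf37) (kf xf17 yf13 zf18) (kf xf16 yf26 zf9) (kf xf18 yf16 zf18) (kf xf18 yf19 zf3) (kf xf16 yf26 zf11) (kf xf17 yf23 zf12) (kf xf16 yf26 zf14) (kf xf18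 yf16 zf23) (kf xf16 yf26 zf20) (kf xf17 yf6 zf28) (kf xf18 yf16 zf24) (kf xf16 yf26 zf31) (kf xf16 yf26 zf32) (kf xf16 yf26 zf24) (kf xf18 yf19 zf12) (kf xf17 yf8 zf15) (kf xf17 yf0 zf5) (kf xf17 yf17 zf10) (kf xf18 yf19 zf19) (kf xf17 yf17 zf13) (kf xf18 yf19 zf22) (kf xf16 yf26 zf30) (kf xf18 yf19 zf10) (kf xf18 yf19 zf11) (kf xf16 yf26 zf34) (kf xf18 yf16 zf32) (kf xf18 yf19 zf27) (kf xf17 yf8 zf23) (kf xf17 yf8 zf24) (kf xf17 yf11 zf35) (kf xf17 yf9 zf2) (kf xf17 yf17 zf6) (kf xf16 yf26 zf41) (kf xf18 yf19 zf36) (kf xf18 yf19 zf39) (kf xf16 yf26 zf42) (kf xf17 yf9 zf23) (kf xf17 yf17 zf7) (kf xf18 yf19 zf44) (kf xf17 yf14 zf3) (kf xf17 yf14 zf4) (kf xf16 yf26 zf48) (kf xf18 yf19 zf47) (kf xf18 yf19 zf50)) (@D3.rec (fun _ => Pt) (kf xf16 yf26 zf49)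 (kf xf17 yf10 zf28) (kf xf17 yf14 zf10) (kf xf17 yf14 zf11) (kf xf18 yf17 zf33) (kf xf17 yf0 zf4) (kf xf18 yf16 zf50) (kf xf18 yf20 zf5) (kf xf17 yf0 zf6) (kf xf17 yf24 zf9) (kf xf17 yf24 zf10) (kf xf18 yf20 zf9) (kf xf17 yf0 zf12) (kf xf18 yf17 zf7) (kf xf17 yf16 zf10) (kf xf18 yf16 zf48) (kf xf18 yf17 zf10) (kf xf17 yf5 zf11) (kf xf17 yf0 zf21) (kf xf17 yf19 zf14) (kf xf17 yf0 zf35) (kf xf17 yf0 zf29) (kf xf18 yf17 zf13) (kf xf18 yf17 zf14) (kf xf17 yf5 zf29) (kf xf18 yf19 zf16) (kf xf17 yf10 zf11) (kf xf17 yf0 zf38) (kf xf17 yf10 zf43) (kf xf17 yf2 zf0) (kf xf17 yf15 zf32) (kf xf17 yf1 zf38) (kf xf17 yf1 zf34) (kf xf17 yf1 zf15) (kf xf17 yf1 zf14) (kf xf18 yf20 zf22) (kf xf17 yf1 zf17) (kf xf17 yf2 zf24) (kf xf17 yf2 zf3) (kf xf17 yf1 zf50) (kf xf17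 yf4 zf49) (kf xf17 yf1 zf24) (kf xf18 yf20 zf29) (kf xf17 yf3 zf20) (kf xf17 yf4 zf29) (kf xf17 yf1 zf30) (kf xf18 yf20 zf33) (kf xf17 yf24 zf47) (kf xf17 yf1 zf33) (kf xf18 yf20 zf36) (kf xf18 yf20 zf20)) (@D3.rec (fun _ => Pt) (kf xf17 yf3 zf0) (kf xf17 yf1 zf43) (kf xf17 yf6 zf22) (kf xf18 yf20 zf19) (kf xf18 yf20 zf44) (kf xf17 yf2 zf18) (kf xf17 yf1 zf42) (kf xf18 yf20 zf46) (kf xf17 yf1 zf44) (kf xf17 yf1 zf48) (kf xf17 yf1 zf47) (kf xf17 yf4 zf14) (kf xf17 yf15 zf23) (kf xf18 yf20 zf27) (kf xf18 yf20 zf17) (kf xf17 yf15 zf42) (kf xf17 yf5 zf31) (kf xf18 yf20 zf26) (kf xf18 yf21 zf8) (kf xf17 yf2 zf4) (kf xf17 yf2 zf26) (kf xf17 yf2 zf7) (kf xf17 yf4 zf46) (kf xf18 yf21 zf11) (kf xf17 yf15 zf33) (kf xf17 yf5 zf8) (kf xf17 yf7 zf27) (kf xf18 yf20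 zf45) (kf xf17 yf15 zf41) (kf xf17 yf2 zf27) (kf xf17 yf2 zf37) (kf xf17 yf5 zf30) (kf xf18 yf20 zf25) (kf xf18 yf20 zf40) (kf xf18 yf21 zf9) (kf xf18 yf21 zf17) (kf xf17 yf9 zf19) (kf xf17 yf2 zf31) (kf xf18 yf21 zf25) (kf xf17 yf25 zf39) (kf xf17 yf2 zf34) (kf xf18 yf21 zf28) (kf xf17 yf3 zf6) (kf xf18 yf21 zf18) (kf xf17 yf3 zf1) (kf xf17 yf2 zf46) (kf xf17 yf9 zf24) (kf xf17 yf2 zf42) (kf xf18 yf21 zf35) (kf xf18 yf21 zf38) (kf xf17 yf2 zf45)) (@D3.rec (fun _ => Pt) (kf xf18 yf21 zf39) (kf xf17 yf2 zf48) (kf xf17 yf2 zf50) (kf xf18 yf20 zf24) (kf xf18 yf20 zf39) (kf xf18 yf21 zf32) (kf xf17 yf3 zf44) (kf xf17 yf3 zf4) (kf xf18 yf21 zf46) (kf xf18 yf21 zf30) (kf xf17 yf3 zf13) (kf xf18 yf22 zf0) (kf xf17 yf3 zf9) (kf xf18 yf22 zf1) (kf xf18 yf22 zf5)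 (kf xf17 yf3 zf10) (kf xf17 yf3 zf12) (kf xf18 yf20 zf30) (kf xf18 yf22 zf6) (kf xf17 yf3 zf14) (kf xf17 yf3 zf16) (kf xf18 yf22 zf10) (kf xf17 yf3 zf17) (kf xf17 yf4 zf23) (kf xf17 yf5 zf14) (kf xf17 yf14 zf38) (kf xf17 yf3 zf23) (kf xf17 yf7 zf4) (kf xf17 yf3 zf28) (kf xf18 yf22 zf14) (kf xf17 yf26 zf30) (kf xf17 yf3 zf31) (kf xf18 yf22 zf16) (kf xf18 yf15 zf50) (kf xf17 yf26 zf34) (kf xf17 yf11 zf46) (kf xf18 yf15 zf48) (kf xf17 yf3 zf37) (kf xf18 yf22 zf23) (kf xf18 yf22 zf26) (kf xf17 yf3 zf40) (kf xf18 yf22 zf27) (kf xf18 yf15 zf37) (kf xf17 yf6 zf39) (kf xf17 yf7 zf7) (kf xf18 yf21 zf45) (kf xf18 yf21 zf42) (kf xf17 yf3 zf47) (kf xf18 yf22 zf35) (kf xf17 yf5 zf37) (kf xf17 yf14 zf34))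
def f_f_18 : D2 → D3 → Pt := @D2.rec (fun _ => D3 → Pt) (@D3.rec (fun _ => Pt) (kf xf18 yf22 zf41) (kf xf18 yf16 zf9) (kf xf18 yf16 zf30) (kf xf17 yf4 zf3) (kf xf18 yf22 zf45) (kf xf18 yf22 zf49) (kf xf17 yf4 zf4) (kf xf17 yf11 zf11) (kf xf17 yf4 zf7) (kf xf18 yf20 zf47) (kf xf18 yf23 zf1) (kf xf18 yf20 zf21) (kf xf17 yf4 zf9) (kf xf18 yf21 zf50) (kf xf17 yf11 zf26) (kf xf18 yf20 zf50) (kf xf17 yf4 zf16) (kf xf18 yf23 zf5) (kf xf17 yf4 zf19) (kf xf17 yf4 zf20) (kf xf18 yf23 zf8) (kf xf18 yf23 zf9) (kf xf17 yf4 zf22) (kf xf18 yf23 zf13) (kf xf18 yf22 zf11) (kf xf17 yf4 zf25) (kf xf18 yf20 zf28) (kf xf18 yf23 zf17) (kf xf17 yf14 zf41) (kf xf17 yf14 zf42) (kf xf17 yf4 zf30) (kf xf18 yf20 zf32) (kf xf18 yf23 zf22) (kf xf17 yf4 zf32) (kf xf18 yf23 zf26) (kf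 xf18 yf23 zf30) (kf xf17 yf4 zf33) (kf xf17 yf4 zf36) (kf xf17 yf4 zf37) (kf xf18 yf23 zf31) (kf xf18 yf23 zf32) (kf xf18 yf23 zf38) (kf xf17 yf16 zf0) (kf xf17 yf4 zf40) (kf xf18 yf23 zf43) (kf xf18 yf23 zf41) (kf xf18 yf23 zf46) (kf xf17 yf4 zf41) (kf xf17 yf16 zf6) (kf xf17 yf16 zf2) (kf xf17 yf16 zf7)) (@D3.rec (fun _ => Pt) (kf xf17 yf15 zf39) (kf xf17 yf4 zf47) (kf xf18 yf21 zf12) (kf xf18 yf24 zf0) (kf xf18 yf22 zf9) (kf xf18 yf24 zf3) (kf xf17 yf5 zf0) (kf xf17 yf15 zf15) (kf xf18 yf21 zf33) (kf xf17 yf5 zf4) (kf xf18 yf21 zf14) (kf xf17 yf5 zf19) (kf xf17 yf10 zf33) (kf xf18 yf20 zf8) (kf xf18 yf1 zf14) (kf xf18 yf22 zf12) (kf xf18 yf1 zf16) (kf xf18 yf1 zf17) (kf xf18 yf24 zf6) (kf xf18 yf1 zf19) (kf xf18 yf24 zf13) (kf xf18 yf24 zf15) (kf xf17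 yf5 zf22) (kf xf17 yf5 zf23) (kf xf18 yf17 zf49) (kf xf17 yf9 zf36) (kf xf17 yf10 zf19) (kf xf18 yf17 zf50) (kf xf18 yf21 zf19) (kf xf18 yf21 zf4) (kf xf17 yf5 zf33) (kf xf17 yf7 zf20) (kf xf18 yf24 zf22) (kf xf17 yf5 zf36) (kf xf18 yf24 zf25) (kf xf18 yf22 zf38) (kf xf18 yf24 zf29) (kf xf17 yf5 zf40) (kf xf18 yf24 zf30) (kf xf17 yf5 zf42) (kf xf18 yf24 zf33) (kf xf17 yf5 zf44) (kf xf18 yf24 zf35) (kf xf17 yf5 zf46) (kf xf17 yf8 zf35) (kf xf18 yf24 zf38) (kf xf17 yf8 zf42) (kf xf18 yf17 zf29) (kf xf17 yf6 zf0) (kf xf18 yf24 zf42) (kf xf17 yf16 zf16)) (@D3.rec (fun _ => Pt) (kf xf17 yf6 zf3) (kf xf17 yf9 zf27) (kf xf18 yf24 zf46) (kf xf17 yf11 zf45) (kf xf17 yf16 zf18) (kf xf17 yf6 zf7) (kf xf18 yf25 zf0) (kf xf17 yf6 zf25) (kf xf17 yf6 zf29) (kf xf18 yf18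 zf0) (kf xf17 yf6 zf12) (kf xf17 yf10 zf5) (kf xf18 yf25 zf6) (kf xf18 yf18 zf4) (kf xf17 yf10 zf29) (kf xf17 yf6 zf17) (kf xf17 yf10 zf44) (kf xf18 yf17 zf26) (kf xf18 yf17 zf30) (kf xf18 yf20 zf41) (kf xf18 yf17 zf20) (kf xf18 yf19 zf8) (kf xf18 yf25 zf2) (kf xf17 yf16 zf17) (kf xf18 yf17 zf21) (kf xf18 yf19 zf2) (kf xf18 yf25 zf4) (kf xf17 yf6 zf31) (kf xf18 yf25 zf22) (kf xf17 yf6 zf33) (kf xf18 yf25 zf24) (kf xf18 yf25 zf27) (kf xf17 yf6 zf36) (kf xf18 yf25 zf28) (kf xf17 yf6 zf38) (kf xf18 yf25 zf31) (kf xf18 yf22 zf31) (kf xf17 yf6 zf41) (kf xf18 yf25 zf34) (kf xf17 yf6 zf43) (kf xf17 yf16 zf42) (kf xf18 yf25 zf37) (kf xf18 yf2 zf42) (kf xf17 yf6 zf46) (kf xf17 yf16 zf47) (kf xf17 yf12 zf25) (kf xf17 yf6 zf50) (kf xf18 yf25 zf44) (kf xf17 yf7 zf1)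 (kf xf18 yf25 zf46) (kf xf17 yf7 zf3)) (@D3.rec (fun _ => Pt) (kf xf18 yf25 zf49) (kf xf18 yf22 zf13) (kf xf17 yf7 zf6) (kf xf18 yf26 zf1) (kf xf18 yf22 zf32) (kf xf17 yf7 zf9) (kf xf18 yf21 zf5) (kf xf18 yf26 zf6) (kf xf17 yf13 zf13) (kf xf18 yf17 zf38) (kf xf18 yf17 zf39) (kf xf17 yf7 zf15) (kf xf17 yf7 zf16) (kf xf18 yf26 zf12) (kf xf18 yf26 zf13) (kf xf17 yf7 zf18) (kf xf17 yf17 zf50) (kf xf18 yf26 zf17) (kf xf17 yf7 zf21) (kf xf18 yf24 zf23) (kf xf18 yf26 zf20) (kf xf18 yf3 zf21) (kf xf17 yf7 zf24) (kf xf17 yf12 zf45) (kf xf18 yf3 zf24) (kf xf18 yf26 zf27) (kf xf17 yf16 zf50) (kf xf17 yf11 zf44) (kf xf18 yf16 zf37) (kf xf18 yf26 zf31) (kf xf17 yf7 zf32) (kf xf18 yf17 zf17) (kf xf18 yf3 zf32) (kf xf18 yf19 zf0) (kf xf17 yf17 zf42) (kf xf17 yf7 zf41)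 (kf xf18 yf26 zf35) (kf xf17 yf17 zf36) (kf xf17 yf7 zf45) (kf xf18 yf26 zf38) (kf xf18 yf16 zf6) (kf xf18 yf3 zf41) (kf xf17 yf17 zf47) (kf xf17 yf7 zf50) (kf xf18 yf26 zf45) (kf xf18 yf3 zf45) (kf xf18 yf26 zf49) (kf xf17 yf8 zf3) (kf xf17 yf17 zf16) (kf xf18 yf26 zf50) (kf xf17 yf12 zf48)) (@D3.rec (fun _ => Pt) (kf xf17 yf8 zf6) (kf xf19 yf0 zf3) (kf xf19 yf0 zf7) (kf xf17 yf8 zf7) (kf xf17 yf12 zf50) (kf xf17 yf8 zf10) (kf xf18 yf24 zf31) (kf xf19 yf0 zf11) (kf xf18 yf18 zf40) (kf xf17 yf8 zf20) (kf xf17 yf8 zf14) (kf xf19 yf0 zf16) (kf xf18 yf19 zf15) (kf xf17 yf13 zf8) (kf xf17 yf8 zf18) (kf xf19 yf0 zf21) (kf xf18 yf18 zf11) (kf xf19 yf0 zf15) (kf xf17 yf8 zf22) (kf xf18 yf24 zf36) (kf xf19 yf0 zf26) (kf xf18 yf19 zf30) (kf xf18 yf19 zf31) (kf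 xf17 yf8 zf27) (kf xf17 yf8 zf28) (kf xf19 yf0 zf31) (kf xf19 yf0 zf32) (kf xf17 yf17 zf48) (kf xf17 yf8 zf31) (kf xf17 yf11 zf37) (kf xf19 yf0 zf36) (kf xf17 yf18 zf1) (kf xf17 yf18 zf2) (kf xf18 yf17 zf42) (kf xf17 yf8 zf36) (kf xf18 yf24 zf39) (kf xf19 yf0 zf43) (kf xf18 yf4 zf37) (kf xf18 yf4 zf38) (kf xf18 yf4 zf39) (kf xf19 yf0 zf50) (kf xf17 yf8 zf43) (kf xf17 yf14 zf17) (kf xf17 yf9 zf0) (kf xf17 yf16 zf11) (kf xf17 yf13 zf11) (kf xf17 yf14 zf20) (kf xf17 yf14 zf6) (kf xf18 yf18 zf44) (kf xf18 yf19 zf33) (kf xf17 yf9 zf20)) (@D3.rec (fun _ => Pt) (kf xf17 yf9 zf5) (kf xf19 yf1 zf9) (kf xf19 yf1 zf13) (kf xf17 yf9 zf6) (kf xf17 yf9 zf25) (kf xf17 yf9 zf9) (kf xf18 yf24 zf43) (kf xf19 yf1 zf16) (kf xf18 yf18 zf30) (kf xf17 yf9 zf13) (kf xf19 yf1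 zf20) (kf xf17 yf13 zf42) (kf xf17 yf9 zf17) (kf xf17 yf9 zf18) (kf xf19 yf1 zf24) (kf xf19 yf1 zf25) (kf xf18 yf21 zf24) (kf xf19 yf1 zf8) (kf xf17 yf9 zf22) (kf xf18 yf19 zf41) (kf xf19 yf1 zf32) (kf xf18 yf19 zf40) (kf xf18 yf21 zf34) (kf xf19 yf1 zf14) (kf xf19 yf1 zf40) (kf xf17 yf9 zf28) (kf xf18 yf24 zf47) (kf xf19 yf1 zf41) (kf xf18 yf18 zf41) (kf xf17 yf18 zf24) (kf xf17 yf9 zf32) (kf xf19 yf1 zf46) (kf xf17 yf18 zf31) (kf xf17 yf9 zf35) (kf xf18 yf24 zf18) (kf xf19 yf1 zf50) (kf xf18 yf24 zf17) (kf xf17 yf11 zf48) (kf xf17 yf18 zf35) (kf xf17 yf18 zf36) (kf xf17 yf9 zf42) (kf xf17 yf9 zf43) (kf xf19 yf2 zf11) (kf xf19 yf2 zf7) (kf xf18 yf18 zf32) (kf xf19 yf2 zf9) (kf xf19 yf2 zf17) (kf xf17 yf9 zf44) (kf xf17 yf18 zf42) (kf xf17 yf18 zf43) (kf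 xf19 yf2 zf22)) (@D3.rec (fun _ => Pt) (kf xf17 yf9 zf49) (kf xf19 yf2 zf26) (kf xf17 yf9 zf48) (kf xf19 yf2 zf23) (kf xf19 yf2 zf28) (kf xf17 yf9 zf50) (kf xf17 yf19 zf0) (kf xf17 yf15 zf50) (kf xf17 yf19 zf1) (kf xf18 yf18 zf2) (kf xf17 yf10 zf6) (kf xf18 yf25 zf7) (kf xf18 yf25 zf8) (kf xf18 yf20 zf15) (kf xf18 yf6 zf14) (kf xf18 yf6 zf15) (kf xf19 yf2 zf39) (kf xf17 yf13 zf6) (kf xf18 yf6 zf18) (kf xf18 yf24 zf8) (kf xf18 yf6 zf20) (kf xf19 yf0 zf8) (kf xf17 yf10 zf14) (kf xf17 yf10 zf17) (kf xf17 yf17 zf21) (kf xf17 yf17 zf25) (kf xf19 yf2 zf48) (kf xf17 yf10 zf21) (kf xf17 yf13 zf17) (kf xf17 yf13 zf28) (kf xf17 yf13 zf47) (kf xf17 yf19 zf7) (kf xf18 yf20 zf0) (kf xf18 yf25 zf9) (kf xf17 yf10 zf30) (kf xf18 yf24 zf7) (kf xf18 yf6 zf36) (kf xf19 yf3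 zf7) (kf xf18 yf17 zf11) (kf xf17 yf10 zf35) (kf xf17 yf19 zf11) (kf xf17 yf19 zf13) (kf xf17 yf19 zf16) (kf xf17 yf10 zf50) (kf xf17 yf14 zf29) (kf xf17 yf19 zf18) (kf xf17 yf14 zf27) (kf xf18 yf20 zf16) (kf xf18 yf25 zf10) (kf xf18 yf18 zf7) (kf xf19 yf3 zf17)) (@D3.rec (fun _ => Pt) (kf xf17 yf10 zf47) (kf xf18 yf7 zf1) (kf xf19 yf3 zf19) (kf xf19 yf3 zf6) (kf xf17 yf11 zf2) (kf xf17 yf15 zf16) (kf xf17 yf15 zf22) (kf xf17 yf14 zf36) (kf xf17 yf11 zf9) (kf xf19 yf3 zf23) (kf xf17 yf15 zf40) (kf xf18 yf22 zf50) (kf xf17 yf15 zf27) (kf xf17 yf15 zf30) (kf xf17 yf11 zf15) (kf xf19 yf3 zf29) (kf xf17 yf11 zf17) (kf xf19 yf3 zf32) (kf xf17 yf15 zf17) (kf xf17 yf11 zf20) (kf xf18 yf23 zf0) (kf xf19 yf3 zf37) (kf xf18 yf15 zf38) (kf xf17 yf11 zf23) (kf xf19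 yf3 zf41) (kf xf18 yf15 zf34) (kf xf18 yf20 zf49) (kf xf17 yf16 zf49) (kf xf18 yf26 zf25) (kf xf17 yf17 zf0) (kf xf17 yf17 zf1) (kf xf17 yf17 zf2) (kf xf17 yf17 zf8) (kf xf17 yf17 zf9) (kf xf17 yf17 zf11) (kf xf18 yf19 zf32) (kf xf17 yf17 zf14) (kf xf19 yf0 zf37) (kf xf17 yf17 zf15) (kf xf17 yf16 zf14) (kf xf17 yf16 zf15) (kf xf18 yf16 zf35) (kf xf18 yf16 zf36) (kf xf18 yf26 zf29) (kf xf18 yf24 zf49) (kf xf18 yf22 zf21) (kf xf18 yf7 zf46) (kf xf19 yf2 zf3) (kf xf19 yf4 zf13) (kf xf17 yf12 zf0) (kf xf19 yf4 zf14)) (@D3.rec (fun _ => Pt) (kf xf18 yf16 zf7) (kf xf19 yf4 zf19) (kf xf17 yf12 zf4) (kf xf19 yf4 zf20) (kf xf17 yf12 zf6) (kf xf19 yf4 zf23) (kf xf19 yf4 zf27) (kf xf17 yf12 zf7) (kf xf17 yf12 zf9) (kf xf19 yf4 zf29) (kf xf18 yf16 zf13) (kf xf18 yf16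 zf14) (kf xf19 yf4 zf35) (kf xf17 yf12 zf12) (kf xf17 yf12 zf14) (kf xf19 yf4 zf36) (kf xf19 yf4 zf40) (kf xf17 yf12 zf16) (kf xf18 yf25 zf43) (kf xf19 yf4 zf41) (kf xf19 yf4 zf45) (kf xf17 yf12 zf17) (kf xf17 yf12 zf20) (kf xf19 yf4 zf46) (kf xf17 yf12 zf21) (kf xf18 yf25 zf42) (kf xf18 yf8 zf26) (kf xf19 yf3 zf9) (kf xf17 yf12 zf27) (kf xf17 yf12 zf28) (kf xf19 yf4 zf47) (kf xf17 yf12 zf30) (kf xf19 yf3 zf13) (kf xf18 yf8 zf33) (kf xf19 yf4 zf50) (kf xf19 yf4 zf48) (kf xf17 yf12 zf34) (kf xf17 yf12 zf36) (kf xf17 yf17 zf31) (kf xf17 yf18 zf5) (kf xf17 yf19 zf21) (kf xf17 yf17 zf32) (kf xf17 yf17 zf33) (kf xf18 yf26 zf2) (kf xf17 yf17 zf34) (kf xf18 yf18 zf5) (kf xf19 yf0 zf2) (kf xf19 yf5 zf11) (kf xf19 yf0 zf9) (kf xf17 yf17 zf18) (kf xf17 yf17 zf19))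 (@D3.rec (fun _ => Pt) (kf xf19 yf1 zf2) (kf xf17 yf17 zf22) (kf xf17 yf17 zf23) (kf xf17 yf17 zf24) (kf xf19 yf2 zf40) (kf xf17 yf17 zf26) (kf xf19 yf0 zf20) (kf xf17 yf13 zf10) (kf xf19 yf5 zf24) (kf xf19 yf1 zf3) (kf xf17 yf13 zf14) (kf xf18 yf26 zf9) (kf xf19 yf5 zf27) (kf xf19 yf2 zf49) (kf xf17 yf13 zf16) (kf xf19 yf5 zf32) (kf xf19 yf2 zf25) (kf xf18 yf19 zf1) (kf xf17 yf13 zf20) (kf xf19 yf5 zf36) (kf xf17 yf13 zf22) (kf xf19 yf5 zf37) (kf xf19 yf5 zf41) (kf xf17 yf13 zf23) (kf xf17 yf13 zf25) (kf xf19 yf3 zf33) (kf xf19 yf5 zf42) (kf xf17 yf13 zf27) (kf xf19 yf5 zf45) (kf xf19 yf2 zf50) (kf xf17 yf13 zf31) (kf xf17 yf13 zf32) (kf xf19 yf5 zf49) (kf xf19 yf5 zf50) (kf xf19 yf6 zf5) (kf xf17 yf13 zf34) (kf xf19 yf1 zf1) (kf xf19 yf6 zf6) (kf xf19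 yf6 zf10) (kf xf17 yf13 zf35) (kf xf19 yf3 zf15) (kf xf17 yf13 zf38) (kf xf19 yf6 zf12) (kf xf17 yf13 zf40) (kf xf19 yf6 zf13) (kf xf17 yf13 zf43) (kf xf19 yf1 zf23) (kf xf19 yf6 zf16) (kf xf19 yf3 zf0) (kf xf17 yf17 zf35) (kf xf17 yf13 zf46)) (@D3.rec (fun _ => Pt) (kf xf19 yf1 zf4) (kf xf19 yf6 zf23) (kf xf19 yf2 zf33) (kf xf17 yf17 zf3) (kf xf17 yf14 zf0) (kf xf17 yf14 zf1) (kf xf19 yf1 zf5) (kf xf19 yf6 zf29) (kf xf19 yf6 zf35) (kf xf19 yf6 zf31) (kf xf19 yf6 zf38) (kf xf17 yf14 zf2) (kf xf18 yf19 zf45) (kf xf18 yf19 zf46) (kf xf18 yf18 zf42) (kf xf17 yf14 zf7) (kf xf19 yf0 zf45) (kf xf19 yf6 zf43) (kf xf19 yf6 zf46) (kf xf17 yf14 zf8) (kf xf18 yf20 zf1) (kf xf18 yf20 zf3) (kf xf17 yf14 zf13) (kf xf17 yf14 zf15) (kf xf19 yf1 zf0) (kf xf18 yf17 zf8)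 (kf xf18 yf18 zf31) (kf xf19 yf6 zf50) (kf xf17 yf14 zf25) (kf xf18 yf17 zf15) (kf xf19 yf3 zf12) (kf xf17 yf14 zf30) (kf xf17 yf14 zf46) (kf xf17 yf14 zf44) (kf xf18 yf22 zf39) (kf xf19 yf7 zf5) (kf xf17 yf14 zf35) (kf xf19 yf3 zf22) (kf xf18 yf17 zf22) (kf xf18 yf23 zf20) (kf xf18 yf23 zf21) (kf xf19 yf7 zf12) (kf xf17 yf14 zf43) (kf xf19 yf7 zf2) (kf xf19 yf7 zf1) (kf xf17 yf14 zf49) (kf xf17 yf14 zf50) (kf xf19 yf7 zf15) (kf xf19 yf7 zf16) (kf xf19 yf7 zf22) (kf xf17 yf15 zf1)) (@D3.rec (fun _ => Pt) (kf xf19 yf7 zf25) (kf xf19 yf7 zf23) (kf xf19 yf7 zf28) (kf xf17 yf15 zf2) (kf xf18 yf15 zf43) (kf xf17 yf15 zf5) (kf xf19 yf7 zf30) (kf xf17 yf15 zf6) (kf xf19 yf7 zf31) (kf xf17 yf15 zf10) (kf xf17 yf18 zf25) (kf xf18 yf15 zf30) (kf xf18 yf23 zf40)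 (kf xf19 yf3 zf20) (kf xf19 yf3 zf35) (kf xf18 yf15 zf36) (kf xf18 yf15 zf35) (kf xf19 yf7 zf41) (kf xf17 yf15 zf20) (kf xf19 yf3 zf21) (kf xf18 yf21 zf0) (kf xf18 yf23 zf6) (kf xf17 yf15 zf24) (kf xf18 yf16 zf5) (kf xf18 yf16 zf25) (kf xf18 yf19 zf13) (kf xf19 yf3 zf27) (kf xf19 yf7 zf50) (kf xf17 yf15 zf28) (kf xf19 yf3 zf28) (kf xf18 yf20 zf18) (kf xf18 yf21 zf10) (kf xf17 yf15 zf35) (kf xf19 yf3 zf30) (kf xf19 yf8 zf2) (kf xf18 yf15 zf28) (kf xf18 yf15 zf39) (kf xf18 yf15 zf29) (kf xf18 yf23 zf50) (kf xf19 yf3 zf25) (kf xf18 yf21 zf16) (kf xf18 yf21 zf3) (kf xf18 yf17 zf28) (kf xf18 yf20 zf2) (kf xf17 yf15 zf45) (kf xf19 yf8 zf13) (kf xf19 yf8 zf16) (kf xf17 yf15 zf46) (kf xf18 yf17 zf37) (kf xf19 yf0 zf40) (kf xf18 yf17 zf46)) (@D3.rec (fun _ => Pt)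 (kf xf19 yf2 zf30) (kf xf18 yf23 zf39) (kf xf17 yf16 zf3) (kf xf18 yf23 zf48) (kf xf19 yf8 zf22) (kf xf19 yf8 zf25) (kf xf17 yf16 zf4) (kf xf18 yf23 zf47) (kf xf18 yf23 zf49) (kf xf17 yf16 zf9) (kf xf17 yf16 zf13) (kf xf19 yf8 zf28) (kf xf19 yf4 zf2) (kf xf19 yf4 zf3) (kf xf18 yf24 zf45) (kf xf18 yf25 zf17) (kf xf18 yf24 zf50) (kf xf17 yf16 zf20) (kf xf19 yf8 zf35) (kf xf17 yf16 zf22) (kf xf19 yf8 zf36) (kf xf17 yf16 zf32) (kf xf17 yf16 zf25) (kf xf17 yf18 zf14) (kf xf19 yf8 zf41) (kf xf17 yf16 zf27) (kf xf19 yf8 zf44) (kf xf17 yf16 zf29) (kf xf19 yf8 zf47) (kf xf17 yf16 zf31) (kf xf18 yf25 zf35) (kf xf19 yf8 zf50) (kf xf19 yf8 zf39) (kf xf17 yf16 zf34) (kf xf19 yf9 zf3) (kf xf17 yf16 zf36) (kf xf19 yf9 zf4) (kf xf17 yf16 zf38) (kf xf18 yf17 zf31) (kf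 xf19 yf9 zf7) (kf xf17 yf16 zf40) (kf xf18 yf25 zf29) (kf xf19 yf9 zf10) (kf xf17 yf16 zf43) (kf xf18 yf25 zf38) (kf xf19 yf9 zf13) (kf xf17 yf16 zf45) (kf xf18 yf17 zf27) (kf xf19 yf3 zf42) (kf xf18 yf26 zf28) (kf xf19 yf3 zf44)) (@D3.rec (fun _ => Pt) (kf xf19 yf3 zf45) (kf xf19 yf3 zf46) (kf xf19 yf6 zf27) (kf xf17 yf17 zf5) (kf xf19 yf8 zf29) (kf xf19 yf9 zf20) (kf xf18 yf19 zf34) (kf xf18 yf19 zf42) (kf xf19 yf3 zf47) (kf xf19 yf3 zf48) (kf xf18 yf19 zf17) (kf xf19 yf3 zf49) (kf xf18 yf18 zf33) (kf xf18 yf19 zf20) (kf xf19 yf4 zf0) (kf xf19 yf0 zf0) (kf xf19 yf2 zf45) (kf xf19 yf5 zf13) (kf xf19 yf5 zf14) (kf xf19 yf2 zf46) (kf xf18 yf20 zf10) (kf xf19 yf5 zf16) (kf xf19 yf5 zf17) (kf xf19 yf2 zf47) (kf xf19 yf5 zf19) (kf xf19 yf1 zf43) (kf xf19 yf5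 zf21) (kf xf17 yf17 zf28) (kf xf19 yf9 zf43) (kf xf17 yf17 zf30) (kf xf18 yf25 zf18) (kf xf19 yf9 zf46) (kf xf19 yf5 zf0) (kf xf19 yf5 zf3) (kf xf19 yf5 zf5) (kf xf19 yf5 zf7) (kf xf19 yf6 zf22) (kf xf18 yf26 zf37) (kf xf17 yf17 zf38) (kf xf19 yf10 zf4) (kf xf17 yf17 zf40) (kf xf18 yf17 zf40) (kf xf19 yf10 zf7) (kf xf18 yf18 zf14) (kf xf18 yf26 zf34) (kf xf17 yf17 zf45) (kf xf17 yf17 zf46) (kf xf18 yf26 zf14) (kf xf19 yf10 zf13) (kf xf19 yf10 zf15) (kf xf18 yf26 zf44)) (@D3.rec (fun _ => Pt) (kf xf19 yf0 zf35) (kf xf19 yf10 zf23) (kf xf17 yf18 zf0) (kf xf18 yf26 zf18) (kf xf19 yf10 zf24) (kf xf19 yf0 zf39) (kf xf19 yf0 zf41) (kf xf17 yf18 zf4) (kf xf17 yf18 zf9) (kf xf19 yf5 zf2) (kf xf17 yf18 zf11) (kf xf19 yf1 zf47) (kf xf19 yf10 zf28) (kf xf17 yf18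 zf26) (kf xf19 yf4 zf15) (kf xf17 yf18 zf15) (kf xf19 yf8 zf42) (kf xf19 yf10 zf33) (kf xf17 yf18 zf17) (kf xf17 yf18 zf39) (kf xf19 yf10 zf36) (kf xf18 yf17 zf47) (kf xf17 yf18 zf21) (kf xf19 yf10 zf42) (kf xf17 yf18 zf20) (kf xf19 yf10 zf40) (kf xf19 yf10 zf45) (kf xf17 yf18 zf22) (kf xf19 yf1 zf45) (kf xf19 yf7 zf32) (kf xf19 yf10 zf31) (kf xf17 yf18 zf28) (kf xf17 yf18 zf30) (kf xf19 yf10 zf49) (kf xf19 yf1 zf49) (kf xf19 yf3 zf1) (kf xf17 yf18 zf34) (kf xf18 yf17 zf48) (kf xf19 yf11 zf2) (kf xf19 yf2 zf4) (kf xf19 yf2 zf5) (kf xf19 yf11 zf9) (kf xf17 yf18 zf40) (kf xf19 yf5 zf1) (kf xf17 yf18 zf41) (kf xf19 yf10 zf37) (kf xf19 yf11 zf10) (kf xf19 yf11 zf12) (kf xf19 yf2 zf18) (kf xf19 yf11 zf17) (kf xf19 yf2 zf20)) (@D3.rec (fun _ => Pt) (kf xf19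 yf11 zf4) (kf xf17 yf18 zf44) (kf xf17 yf18 zf48) (kf xf19 yf11 zf21) (kf xf17 yf18 zf46) (kf xf19 yf11 zf22) (kf xf17 yf18 zf49) (kf xf19 yf2 zf29) (kf xf19 yf2 zf31) (kf xf17 yf19 zf9) (kf xf19 yf3 zf14) (kf xf19 yf3 zf10) (kf xf19 yf3 zf11) (kf xf18 yf24 zf9) (kf xf19 yf11 zf24) (kf xf17 yf19 zf20) (kf xf17 yf19 zf25) (kf xf19 yf11 zf25) (kf xf17 yf19 zf43) (kf xf17 yf19 zf28) (kf xf19 yf11 zf28) (kf xf17 yf19 zf30) (kf xf19 yf11 zf30) (kf xf17 yf19 zf32) (kf xf17 yf19 zf49) (kf xf19 yf11 zf32) (kf xf17 yf20 zf2) (kf xf17 yf20 zf4) (kf xf18 yf11 zf35) (kf xf18 yf11 zf37) (kf xf18 yf11 zf11) (kf xf17 yf19 zf41) (kf xf19 yf11 zf26) (kf xf19 yf11 zf40) (kf xf18 yf7 zf25) (kf xf18 yf11 zf16) (kf xf18 yf11 zf15) (kf xf17 yf26 zf42) (kf xf18 yf7 zf22) (kf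 xf18 yf11 zf36) (kf xf17 yf19 zf50) (kf xf19 yf11 zf33) (kf xf19 yf11 zf48) (kf xf18 yf11 zf4) (kf xf19 yf11 zf35) (kf xf19 yf11 zf36) (kf xf17 yf20 zf6) (kf xf19 yf12 zf3) (kf xf17 yf26 zf36) (kf xf18 yf15 zf49) (kf xf17 yf26 zf33)) (@D3.rec (fun _ => Pt) (kf xf17 yf20 zf11) (kf xf19 yf12 zf9) (kf xf19 yf12 zf12) (kf xf17 yf20 zf14) (kf xf19 yf12 zf13) (kf xf18 yf11 zf23) (kf xf18 yf3 zf40) (kf xf18 yf8 zf0) (kf xf19 yf12 zf20) (kf xf18 yf0 zf1) (kf xf17 yf20 zf21) (kf xf19 yf12 zf22) (kf xf17 yf22 zf28) (kf xf18 yf8 zf10) (kf xf18 yf8 zf11) (kf xf19 yf12 zf30) (kf xf17 yf20 zf25) (kf xf17 yf20 zf27) (kf xf17 yf23 zf9) (kf xf19 yf12 zf31) (kf xf17 yf20 zf28) (kf xf18 yf16 zf21) (kf xf17 yf20 zf31) (kf xf17 yf23 zf14) (kf xf17 yf23 zf17) (kf xf18 yf11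 zf24) (kf xf17 yf20 zf37) (kf xf19 yf12 zf40) (kf xf19 yf12 zf44) (kf xf17 yf20 zf38) (kf xf18 yf0 zf2) (kf xf17 yf20 zf41) (kf xf17 yf23 zf32) (kf xf19 yf12 zf48) (kf xf17 yf22 zf30) (kf xf18 yf7 zf41) (kf xf18 yf7 zf42) (kf xf18 yf3 zf28) (kf xf17 yf20 zf48) (kf xf17 yf20 zf49) (kf xf19 yf13 zf5) (kf xf19 yf13 zf6) (kf xf19 yf13 zf12) (kf xf17 yf21 zf0) (kf xf19 yf13 zf15) (kf xf19 yf13 zf13) (kf xf19 yf13 zf18) (kf xf17 yf21 zf1) (kf xf17 yf24 zf15) (kf xf17 yf21 zf5) (kf xf17 yf24 zf6)) (@D3.rec (fun _ => Pt) (kf xf19 yf13 zf20) (kf xf17 yf21 zf7) (kf xf19 yf13 zf24) (kf xf17 yf21 zf8) (kf xf18 yf17 zf4) (kf xf18 yf17 zf5) (kf xf19 yf13 zf27) (kf xf17 yf24 zf13) (kf xf18 yf10 zf25) (kf xf17 yf21 zf14) (kf xf17 yf24 zf16) (kf xf18 yf6 zf38) (kf xf17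 yf21 zf19) (kf xf17 yf24 zf22) (kf xf17 yf24 zf23) (kf xf18 yf10 zf29) (kf xf18 yf17 zf16) (kf xf18 yf3 zf31) (kf xf19 yf13 zf34) (kf xf17 yf21 zf28) (kf xf18 yf2 zf20) (kf xf18 yf2 zf24) (kf xf18 yf10 zf38) (kf xf18 yf17 zf23) (kf xf17 yf21 zf36) (kf xf19 yf13 zf38) (kf xf18 yf2 zf17) (kf xf18 yf12 zf47) (kf xf18 yf11 zf42) (kf xf18 yf1 zf47) (kf xf18 yf2 zf18) (kf xf18 yf12 zf38) (kf xf17 yf21 zf44) (kf xf17 yf24 zf4) (kf xf19 yf13 zf47) (kf xf17 yf21 zf47) (kf xf19 yf13 zf50) (kf xf18 yf11 zf48) (kf xf18 yf3 zf9) (kf xf18 yf3 zf10) (kf xf18 yf13 zf41) (kf xf17 yf22 zf2) (kf xf18 yf4 zf33) (kf xf19 yf14 zf7) (kf xf17 yf22 zf5) (kf xf19 yf14 zf10) (kf xf18 yf11 zf50) (kf xf18 yf14 zf21) (kf xf18 yf14 zf37) (kf xf18 yf1 zf24) (kf xf18 yf1 zf27)) (@D3.rec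 (fun _ => Pt) (kf xf18 yf2 zf9) (kf xf17 yf22 zf13) (kf xf18 yf6 zf9) (kf xf19 yf14 zf20) (kf xf18 yf2 zf13) (kf xf18 yf8 zf45) (kf xf18 yf18 zf6) (kf xf18 yf6 zf49) (kf xf17 yf22 zf21) (kf xf19 yf14 zf25) (kf xf19 yf14 zf28) (kf xf18 yf4 zf16) (kf xf17 yf22 zf25) (kf xf19 yf14 zf30) (kf xf18 yf13 zf43) (kf xf18 yf18 zf15) (kf xf19 yf12 zf25) (kf xf18 yf18 zf17) (kf xf19 yf14 zf38) (kf xf19 yf13 zf0) (kf xf17 yf22 zf32) (kf xf19 yf14 zf41) (kf xf19 yf14 zf45) (kf xf17 yf22 zf33) (kf xf17 yf22 zf35) (kf xf19 yf12 zf14) (kf xf19 yf14 zf47) (kf xf17 yf22 zf44) (kf xf17 yf22 zf38) (kf xf19 yf15 zf0) (kf xf18 yf5 zf8) (kf xf18 yf10 zf26) (kf xf18 yf5 zf44) (kf xf18 yf13 zf12) (kf xf19 yf15 zf9) (kf xf17 yf22 zf43) (kf xf19 yf14 zf50) (kf xf17 yf22 zf46) (kf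 xf19 yf12 zf23) (kf xf19 yf15 zf12) (kf xf18 yf4 zf8) (kf xf18 yf5 zf28) (kf xf18 yf10 zf14) (kf xf17 yf23 zf1) (kf xf18 yf4 zf48) (kf xf19 yf15 zf19) (kf xf19 yf15 zf24) (kf xf17 yf23 zf3) (kf xf19 yf15 zf25) (kf xf19 yf15 zf28) (kf xf17 yf23 zf4)) (@D3.rec (fun _ => Pt) (kf xf18 yf3 zf33) (kf xf18 yf9 zf17) (kf xf18 yf2 zf25) (kf xf17 yf23 zf10) (kf xf19 yf12 zf32) (kf xf19 yf15 zf33) (kf xf19 yf15 zf36) (kf xf19 yf12 zf37) (kf xf18 yf2 zf21) (kf xf19 yf12 zf38) (kf xf17 yf23 zf29) (kf xf17 yf23 zf30) (kf xf17 yf23 zf21) (kf xf18 yf11 zf25) (kf xf19 yf15 zf42) (kf xf18 yf4 zf12) (kf xf17 yf24 zf25) (kf xf18 yf13 zf10) (kf xf19 yf15 zf49) (kf xf17 yf23 zf25) (kf xf18 yf13 zf13) (kf xf19 yf16 zf1) (kf xf17 yf23 zf27) (kf xf19 yf13 zf31) (kf xf19 yf15 zf39)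 (kf xf19 yf15 zf40) (kf xf19 yf16 zf7) (kf xf17 yf23 zf33) (kf xf19 yf12 zf49) (kf xf19 yf16 zf8) (kf xf18 yf4 zf21) (kf xf18 yf4 zf22) (kf xf18 yf7 zf35) (kf xf18 yf4 zf49) (kf xf18 yf13 zf6) (kf xf19 yf15 zf46) (kf xf17 yf23 zf40) (kf xf19 yf16 zf18) (kf xf19 yf16 zf21) (kf xf17 yf23 zf41) (kf xf18 yf5 zf21) (kf xf18 yf5 zf19) (kf xf18 yf13 zf7) (kf xf19 yf16 zf26) (kf xf17 yf23 zf45) (kf xf18 yf10 zf12) (kf xf18 yf10 zf13) (kf xf17 yf23 zf49) (kf xf19 yf16 zf30) (kf xf19 yf16 zf32) (kf xf17 yf23 zf50)) (@D3.rec (fun _ => Pt) (kf xf18 yf6 zf32) (kf xf18 yf10 zf20) (kf xf18 yf11 zf43) (kf xf18 yf10 zf21) (kf xf19 yf13 zf48) (kf xf17 yf24 zf7) (kf xf19 yf13 zf21) (kf xf19 yf13 zf22) (kf xf18 yf1 zf13) (kf xf17 yf24 zf11) (kf xf18 yf13 zf20) (kf xf19 yf13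 zf28) (kf xf19 yf13 zf19) (kf xf19 yf13 zf30) (kf xf19 yf13 zf32) (kf xf18 yf6 zf13) (kf xf18 yf6 zf47) (kf xf17 yf25 zf14) (kf xf18 yf11 zf30) (kf xf17 yf25 zf3) (kf xf17 yf24 zf50) (kf xf18 yf0 zf11) (kf xf17 yf24 zf35) (kf xf19 yf16 zf49) (kf xf17 yf26 zf3) (kf xf17 yf25 zf32) (kf xf17 yf25 zf17) (kf xf17 yf25 zf13) (kf xf18 yf0 zf26) (kf xf17 yf24 zf42) (kf xf17 yf26 zf17) (kf xf19 yf17 zf5) (kf xf18 yf0 zf31) (kf xf17 yf24 zf46) (kf xf19 yf17 zf9) (kf xf19 yf17 zf12) (kf xf17 yf24 zf49) (kf xf19 yf17 zf13) (kf xf19 yf16 zf47) (kf xf17 yf26 zf4) (kf xf17 yf25 zf33) (kf xf18 yf2 zf19) (kf xf19 yf16 zf46) (kf xf19 yf17 zf23) (kf xf17 yf25 zf4) (kf xf17 yf25 zf27) (kf xf17 yf25 zf7) (kf xf18 yf0 zf9) (kf xf19 yf17 zf26) (kf xf18 yf7 zf26) (kf xf18 yf0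 zf15)) (@D3.rec (fun _ => Pt) (kf xf18 yf11 zf20) (kf xf19 yf17 zf3) (kf xf19 yf16 zf44) (kf xf18 yf11 zf41) (kf xf18 yf1 zf29) (kf xf18 yf3 zf6) (kf xf19 yf17 zf2) (kf xf19 yf17 zf38) (kf xf17 yf25 zf18) (kf xf17 yf25 zf34) (kf xf18 yf11 zf31) (kf xf17 yf25 zf23) (kf xf18 yf1 zf2) (kf xf19 yf17 zf41) (kf xf18 yf1 zf10) (kf xf19 yf17 zf24) (kf xf18 yf11 zf40) (kf xf17 yf25 zf35) (kf xf17 yf25 zf43) (kf xf18 yf1 zf28) (kf xf19 yf17 zf1) (kf xf19 yf17 zf18) (kf xf19 yf17 zf39) (kf xf19 yf17 zf46) (kf xf18 yf5 zf16) (kf xf17 yf25 zf38) (kf xf19 yf18 zf4) (kf xf19 yf18 zf7) (kf xf17 yf25 zf41) (kf xf19 yf18 zf8) (kf xf17 yf26 zf9) (kf xf19 yf17 zf47) (kf xf17 yf26 zf5) (kf xf18 yf1 zf8) (kf xf18 yf5 zf22) (kf xf17 yf25 zf48) (kf xf19 yf18 zf17) (kf xf19 yf18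 zf20) (kf xf17 yf25 zf49) (kf xf17 yf26 zf0) (kf xf19 yf16 zf50) (kf xf19 yf18 zf21) (kf xf17 yf26 zf46) (kf xf19 yf17 zf17) (kf xf19 yf18 zf13) (kf xf17 yf26 zf45) (kf xf17 yf26 zf8) (kf xf19 yf18 zf28) (kf xf19 yf18 zf11) (kf xf19 yf18 zf32) (kf xf18 yf0 zf13)) (@D3.rec (fun _ => Pt) (kf xf17 yf26 zf11) (kf xf17 yf26 zf13) (kf xf19 yf18 zf36) (kf xf19 yf18 zf34) (kf xf19 yf18 zf39) (kf xf17 yf26 zf14) (kf xf17 yf26 zf18) (kf xf19 yf17 zf6) (kf xf19 yf18 zf40) (kf xf18 yf1 zf4) (kf xf17 yf26 zf21) (kf xf18 yf0 zf24) (kf xf18 yf1 zf15) (kf xf18 yf3 zf1) (kf xf17 yf26 zf29) (kf xf19 yf18 zf47) (kf xf17 yf26 zf32) (kf xf19 yf18 zf49) (kf xf19 yf12 zf8) (kf xf18 yf22 zf19) (kf xf19 yf19 zf4) (kf xf18 yf7 zf45) (kf xf19 yf12 zf5) (kf xf17 yf26 zf38) (kf xf19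 yf19 zf8) (kf xf19 yf19 zf12) (kf xf17 yf26 zf39) (kf xf17 yf26 zf41) (kf xf19 yf17 zf14) (kf xf19 yf19 zf14) (kf xf19 yf11 zf45) (kf xf18 yf2 zf36) (kf xf18 yf3 zf4) (kf xf19 yf18 zf27) (kf xf19 yf18 zf24) (kf xf17 yf26 zf48) (kf xf19 yf16 zf48) (kf xf19 yf19 zf23) (kf xf18 yf1 zf35) (kf xf18 yf10 zf34) (kf xf19 yf19 zf30) (kf xf18 yf0 zf0) (kf xf19 yf12 zf21) (kf xf19 yf12 zf46) (kf xf19 yf19 zf35) (kf xf18 yf0 zf4) (kf xf19 yf18 zf33) (kf xf19 yf19 zf36) (kf xf19 yf19 zf40) (kf xf18 yf0 zf5) (kf xf18 yf7 zf11)) (@D3.rec (fun _ => Pt) (kf xf18 yf7 zf20) (kf xf18 yf0 zf10) (kf xf19 yf17 zf27) (kf xf19 yf19 zf43) (kf xf19 yf17 zf29) (kf xf18 yf0 zf17) (kf xf18 yf11 zf21) (kf xf19 yf19 zf47) (kf xf18 yf0 zf20) (kf xf18 yf0 zf21) (kf xf19 yf19 zf50) (kf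 xf19 yf20 zf0) (kf xf19 yf18 zf44) (kf xf18 yf0 zf23) (kf xf19 yf18 zf43) (kf xf19 yf20 zf6) (kf xf19 yf18 zf42) (kf xf18 yf0 zf27) (kf xf19 yf17 zf4) (kf xf19 yf20 zf10) (kf xf18 yf10 zf39) (kf xf18 yf10 zf40) (kf xf18 yf0 zf32) (kf xf19 yf17 zf8) (kf xf19 yf20 zf14) (kf xf19 yf20 zf20) (kf xf18 yf0 zf34) (kf xf19 yf20 zf23) (kf xf19 yf20 zf21) (kf xf19 yf20 zf26) (kf xf18 yf0 zf35) (kf xf18 yf0 zf39) (kf xf18 yf0 zf40) (kf xf19 yf20 zf31) (kf xf19 yf20 zf27) (kf xf19 yf20 zf34) (kf xf19 yf20 zf29) (kf xf19 yf20 zf38) (kf xf18 yf0 zf41) (kf xf18 yf12 zf1) (kf xf18 yf11 zf12) (kf xf18 yf0 zf45) (kf xf19 yf20 zf45) (kf xf18 yf0 zf44) (kf xf19 yf20 zf42) (kf xf19 yf20 zf47) (kf xf18 yf0 zf46) (kf xf18 yf12 zf7) (kf xf18 yf12 zf3) (kf xf18 yf12 zf8) (kf xf18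 yf11 zf38)) (@D3.rec (fun _ => Pt) (kf xf18 yf1 zf3) (kf xf19 yf17 zf42) (kf xf19 yf17 zf43) (kf xf18 yf1 zf5) (kf xf19 yf18 zf14) (kf xf19 yf16 zf4) (kf xf18 yf1 zf18) (kf xf18 yf6 zf35) (kf xf18 yf6 zf19) (kf xf18 yf15 zf13) (kf xf19 yf18 zf45) (kf xf19 yf21 zf6) (kf xf19 yf21 zf10) (kf xf18 yf1 zf20) (kf xf19 yf21 zf11) (kf xf18 yf1 zf21) (kf xf19 yf14 zf16) (kf xf18 yf5 zf36) (kf xf18 yf5 zf34) (kf xf19 yf14 zf18) (kf xf19 yf17 zf48) (kf xf19 yf17 zf34) (kf xf18 yf1 zf32) (kf xf18 yf3 zf19) (kf xf19 yf21 zf18) (kf xf18 yf1 zf34) (kf xf19 yf21 zf20) (kf xf19 yf19 zf26) (kf xf19 yf21 zf25) (kf xf18 yf1 zf36) (kf xf18 yf1 zf38) (kf xf18 yf4 zf6) (kf xf19 yf21 zf26) (kf xf18 yf1 zf40) (kf xf19 yf21 zf29) (kf xf18 yf1 zf42) (kf xf18 yf4 zf19) (kf xf19 yf21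 zf32) (kf xf18 yf1 zf45) (kf xf18 yf4 zf35) (kf xf19 yf21 zf35) (kf xf19 yf13 zf43) (kf xf18 yf1 zf49) (kf xf18 yf5 zf6) (kf xf19 yf21 zf38) (kf xf18 yf12 zf14) (kf xf18 yf2 zf2) (kf xf18 yf5 zf26) (kf xf19 yf21 zf42) (kf xf18 yf7 zf44) (kf xf18 yf12 zf16)) (@D3.rec (fun _ => Pt) (kf xf18 yf2 zf6) (kf xf19 yf21 zf46) (kf xf18 yf2 zf22) (kf xf19 yf14 zf17) (kf xf18 yf2 zf26) (kf xf19 yf14 zf19) (kf xf18 yf2 zf12) (kf xf18 yf6 zf11) (kf xf18 yf6 zf12) (kf xf18 yf6 zf33) (kf xf18 yf6 zf48) (kf xf19 yf13 zf40) (kf xf19 yf13 zf45) (kf xf19 yf17 zf19) (kf xf19 yf13 zf35) (kf xf19 yf15 zf30) (kf xf19 yf21 zf47) (kf xf18 yf12 zf15) (kf xf18 yf13 zf30) (kf xf19 yf13 zf36) (kf xf19 yf15 zf32) (kf xf19 yf21 zf49) (kf xf18 yf2 zf28) (kf xf19 yf22 zf14) (kf xf18 yf2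 zf30) (kf xf19 yf22 zf17) (kf xf19 yf22 zf21) (kf xf18 yf2 zf31) (kf xf18 yf2 zf33) (kf xf18 yf12 zf41) (kf xf19 yf22 zf23) (kf xf18 yf2 zf35) (kf xf19 yf22 zf26) (kf xf19 yf19 zf18) (kf xf18 yf2 zf38) (kf xf18 yf12 zf30) (kf xf19 yf22 zf31) (kf xf18 yf2 zf41) (kf xf18 yf12 zf44) (kf xf19 yf22 zf34) (kf xf18 yf25 zf40) (kf xf19 yf22 zf38) (kf xf18 yf8 zf25) (kf xf18 yf8 zf18) (kf xf18 yf2 zf47) (kf xf19 yf22 zf41) (kf xf18 yf2 zf49) (kf xf19 yf17 zf49) (kf xf19 yf22 zf44) (kf xf18 yf3 zf0) (kf xf19 yf22 zf47)) (@D3.rec (fun _ => Pt) (kf xf19 yf18 zf46) (kf xf18 yf3 zf3) (kf xf18 yf8 zf43) (kf xf19 yf23 zf1) (kf xf19 yf19 zf19) (kf xf19 yf23 zf6) (kf xf18 yf3 zf7) (kf xf19 yf17 zf35) (kf xf19 yf23 zf7) (kf xf18 yf9 zf11) (kf xf19 yf14 zf3) (kf xf19 yf14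 zf5) (kf xf18 yf3 zf13) (kf xf18 yf3 zf14) (kf xf18 yf13 zf47) (kf xf19 yf23 zf13) (kf xf19 yf23 zf15) (kf xf18 yf3 zf17) (kf xf18 yf14 zf3) (kf xf19 yf23 zf19) (kf xf18 yf3 zf20) (kf xf19 yf21 zf19) (kf xf19 yf13 zf4) (kf xf18 yf26 zf23) (kf xf19 yf14 zf46) (kf xf18 yf7 zf28) (kf xf19 yf22 zf22) (kf xf18 yf3 zf25) (kf xf18 yf12 zf49) (kf xf18 yf7 zf43) (kf xf19 yf13 zf2) (kf xf18 yf3 zf29) (kf xf19 yf13 zf33) (kf xf19 yf15 zf29) (kf xf18 yf13 zf44) (kf xf18 yf3 zf36) (kf xf19 yf23 zf32) (kf xf18 yf13 zf37) (kf xf18 yf3 zf39) (kf xf19 yf21 zf21) (kf xf19 yf23 zf37) (kf xf19 yf12 zf17) (kf xf18 yf26 zf42) (kf xf19 yf23 zf43) (kf xf18 yf13 zf50) (kf xf18 yf3 zf44) (kf xf19 yf23 zf45) (kf xf19 yf23 zf49) (kf xf19 yf24 zf0) (kf xf18 yf3 zf46) (kf xf18 yf3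 zf49))
def f_f_19 : D2 → D3 → Pt := @D2.rec (fun _ => D3 → Pt) (@D3.rec (fun _ => Pt) (kf xf18 yf13 zf15) (kf xf19 yf24 zf2) (kf xf18 yf8 zf46) (kf xf18 yf4 zf1) (kf xf19 yf24 zf10) (kf xf19 yf24 zf8) (kf xf19 yf24 zf13) (kf xf18 yf4 zf2) (kf xf18 yf6 zf21) (kf xf18 yf8 zf48) (kf xf19 yf14 zf0) (kf xf18 yf4 zf7) (kf xf19 yf21 zf27) (kf xf19 yf24 zf17) (kf xf19 yf15 zf15) (kf xf18 yf4 zf17) (kf xf18 yf4 zf11) (kf xf19 yf21 zf30) (kf xf19 yf24 zf23) (kf xf19 yf15 zf45) (kf xf18 yf9 zf6) (kf xf18 yf4 zf15) (kf xf19 yf24 zf28) (kf xf19 yf14 zf29) (kf xf19 yf24 zf21) (kf xf19 yf24 zf34) (kf xf18 yf4 zf20) (kf xf19 yf21 zf33) (kf xf19 yf24 zf35) (kf xf19 yf16 zf11) (kf xf19 yf16 zf12) (kf xf18 yf4 zf25) (kf xf18 yf4 zf26) (kf xf19 yf24 zf40) (kf xf19 yf24 zf41)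 (kf xf18 yf14 zf0) (kf xf18 yf4 zf30) (kf xf18 yf7 zf37) (kf xf19 yf24 zf45) (kf xf18 yf14 zf5) (kf xf18 yf11 zf49) (kf xf18 yf14 zf6) (kf xf19 yf14 zf8) (kf xf18 yf4 zf36) (kf xf19 yf21 zf36) (kf xf18 yf10 zf16) (kf xf19 yf0 zf46) (kf xf19 yf21 zf8) (kf xf19 yf0 zf48) (kf xf19 yf19 zf13) (kf xf18 yf4 zf40)) (@D3.rec (fun _ => Pt) (kf xf18 yf10 zf24) (kf xf18 yf9 zf36) (kf xf18 yf9 zf0) (kf xf18 yf9 zf9) (kf xf18 yf10 zf0) (kf xf18 yf10 zf6) (kf xf19 yf15 zf20) (kf xf19 yf16 zf14) (kf xf18 yf5 zf17) (kf xf18 yf5 zf1) (kf xf19 yf25 zf20) (kf xf19 yf25 zf18) (kf xf19 yf25 zf23) (kf xf18 yf5 zf2) (kf xf18 yf5 zf23) (kf xf19 yf19 zf46) (kf xf18 yf5 zf7) (kf xf19 yf21 zf39) (kf xf19 yf25 zf26) (kf xf19 yf15 zf3) (kf xf18 yf5 zf10) (kf xf19 yf16 zf15) (kf xf19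 yf25 zf30) (kf xf18 yf9 zf46) (kf xf18 yf5 zf14) (kf xf18 yf5 zf15) (kf xf19 yf15 zf21) (kf xf19 yf25 zf35) (kf xf19 yf25 zf36) (kf xf19 yf18 zf3) (kf xf19 yf25 zf16) (kf xf19 yf25 zf44) (kf xf18 yf5 zf20) (kf xf19 yf16 zf23) (kf xf19 yf25 zf45) (kf xf19 yf16 zf22) (kf xf19 yf18 zf15) (kf xf19 yf20 zf39) (kf xf19 yf25 zf24) (kf xf19 yf26 zf3) (kf xf18 yf5 zf24) (kf xf18 yf5 zf27) (kf xf19 yf21 zf43) (kf xf18 yf13 zf25) (kf xf19 yf15 zf17) (kf xf18 yf14 zf28) (kf xf18 yf5 zf31) (kf xf18 yf14 zf11) (kf xf19 yf26 zf9) (kf xf18 yf14 zf34) (kf xf18 yf5 zf35)) (@D3.rec (fun _ => Pt) (kf xf19 yf21 zf14) (kf xf19 yf26 zf13) (kf xf19 yf21 zf13) (kf xf18 yf7 zf47) (kf xf18 yf14 zf39) (kf xf18 yf14 zf40) (kf xf19 yf26 zf22) (kf xf18 yf5 zf43) (kf xf19 yf15 zf6) (kf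 xf18 yf5 zf45) (kf xf19 yf26 zf28) (kf xf18 yf5 zf42) (kf xf19 yf26 zf23) (kf xf19 yf15 zf5) (kf xf19 yf26 zf25) (kf xf19 yf26 zf34) (kf xf19 yf26 zf35) (kf xf18 yf5 zf46) (kf xf18 yf14 zf48) (kf xf19 yf26 zf38) (kf xf18 yf14 zf50) (kf xf19 yf26 zf41) (kf xf18 yf5 zf50) (kf xf18 yf6 zf3) (kf xf19 yf26 zf44) (kf xf18 yf9 zf16) (kf xf18 yf6 zf1) (kf xf19 yf26 zf46) (kf xf18 yf6 zf4) (kf xf18 yf15 zf7) (kf xf18 yf12 zf0) (kf xf18 yf15 zf8) (kf xf19 yf14 zf21) (kf xf18 yf10 zf2) (kf xf19 yf22 zf0) (kf xf19 yf22 zf1) (kf xf19 yf22 zf2) (kf xf20 yf0 zf6) (kf xf20 yf0 zf8) (kf xf18 yf6 zf16) (kf xf18 yf9 zf4) (kf xf19 yf21 zf7) (kf xf19 yf2 zf42) (kf xf19 yf24 zf1) (kf xf19 yf24 zf14) (kf xf18 yf13 zf16) (kf xf18 yf13 zf19) (kf xf18 yf13 zf23) (kf xf18 yf6 zf26)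 (kf xf18 yf9 zf13) (kf xf18 yf9 zf29)) (@D3.rec (fun _ => Pt) (kf xf18 yf9 zf48) (kf xf18 yf14 zf35) (kf xf19 yf16 zf33) (kf xf19 yf16 zf27) (kf xf19 yf22 zf3) (kf xf20 yf0 zf24) (kf xf18 yf7 zf3) (kf xf18 yf6 zf37) (kf xf19 yf13 zf26) (kf xf18 yf8 zf27) (kf xf18 yf15 zf11) (kf xf18 yf15 zf12) (kf xf18 yf10 zf30) (kf xf18 yf8 zf32) (kf xf18 yf15 zf10) (kf xf18 yf9 zf40) (kf xf19 yf14 zf24) (kf xf18 yf6 zf50) (kf xf20 yf0 zf23) (kf xf18 yf7 zf2) (kf xf18 yf11 zf13) (kf xf18 yf11 zf19) (kf xf18 yf10 zf37) (kf xf18 yf7 zf9) (kf xf20 yf0 zf32) (kf xf18 yf11 zf39) (kf xf19 yf19 zf41) (kf xf18 yf11 zf26) (kf xf18 yf11 zf29) (kf xf18 yf7 zf15) (kf xf18 yf11 zf33) (kf xf20 yf0 zf35) (kf xf18 yf7 zf17) (kf xf18 yf9 zf25) (kf xf20 yf0 zf38) (kf xf18 yf11 zf14) (kf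 xf19 yf17 zf25) (kf xf18 yf7 zf21) (kf xf19 yf19 zf42) (kf xf20 yf0 zf43) (kf xf19 yf11 zf46) (kf xf18 yf7 zf24) (kf xf18 yf12 zf48) (kf xf19 yf23 zf26) (kf xf18 yf12 zf50) (kf xf18 yf13 zf0) (kf xf18 yf13 zf1) (kf xf18 yf13 zf8) (kf xf18 yf13 zf9) (kf xf18 yf13 zf11) (kf xf19 yf16 zf13)) (@D3.rec (fun _ => Pt) (kf xf18 yf13 zf14) (kf xf19 yf24 zf46) (kf xf18 yf12 zf12) (kf xf18 yf12 zf13) (kf xf19 yf13 zf1) (kf xf19 yf23 zf28) (kf xf19 yf13 zf3) (kf xf19 yf23 zf21) (kf xf19 yf21 zf44) (kf xf19 yf19 zf5) (kf xf20 yf0 zf26) (kf xf19 yf26 zf16) (kf xf20 yf1 zf12) (kf xf18 yf7 zf48) (kf xf18 yf7 zf50) (kf xf18 yf14 zf14) (kf xf20 yf1 zf13) (kf xf19 yf12 zf18) (kf xf20 yf1 zf18) (kf xf18 yf8 zf1) (kf xf18 yf8 zf3) (kf xf20 yf1 zf19) (kf xf20 yf1 zf23) (kf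 xf18 yf8 zf5) (kf xf19 yf22 zf39) (kf xf20 yf1 zf24) (kf xf20 yf1 zf28) (kf xf18 yf8 zf6) (kf xf20 yf0 zf27) (kf xf18 yf8 zf9) (kf xf20 yf1 zf30) (kf xf19 yf12 zf26) (kf xf20 yf1 zf33) (kf xf19 yf12 zf28) (kf xf20 yf1 zf36) (kf xf18 yf8 zf12) (kf xf18 yf8 zf15) (kf xf19 yf22 zf40) (kf xf20 yf1 zf37) (kf xf20 yf1 zf41) (kf xf18 yf8 zf16) (kf xf18 yf8 zf19) (kf xf19 yf22 zf36) (kf xf20 yf1 zf42) (kf xf20 yf1 zf45) (kf xf18 yf8 zf20) (kf xf18 yf8 zf23) (kf xf18 yf8 zf30) (kf xf18 yf8 zf35) (kf xf20 yf1 zf46) (kf xf18 yf8 zf34)) (@D3.rec (fun _ => Pt) (kf xf18 yf13 zf32) (kf xf18 yf14 zf43) (kf xf18 yf14 zf9) (kf xf18 yf13 zf33) (kf xf19 yf22 zf48) (kf xf18 yf13 zf34) (kf xf19 yf23 zf2) (kf xf18 yf13 zf35) (kf xf19 yf14 zf22) (kf xf19 yf24 zf6) (kf xf20 yf2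 zf8) (kf xf18 yf8 zf47) (kf xf19 yf24 zf15) (kf xf18 yf13 zf17) (kf xf18 yf13 zf18) (kf xf19 yf25 zf9) (kf xf18 yf13 zf21) (kf xf18 yf13 zf22) (kf xf20 yf0 zf9) (kf xf18 yf13 zf24) (kf xf19 yf25 zf47) (kf xf18 yf13 zf26) (kf xf19 yf24 zf27) (kf xf19 yf25 zf10) (kf xf18 yf9 zf8) (kf xf20 yf2 zf22) (kf xf19 yf25 zf0) (kf xf18 yf9 zf12) (kf xf19 yf23 zf10) (kf xf20 yf0 zf18) (kf xf20 yf2 zf25) (kf xf19 yf26 zf45) (kf xf18 yf9 zf15) (kf xf20 yf2 zf31) (kf xf19 yf26 zf43) (kf xf19 yf15 zf31) (kf xf18 yf9 zf19) (kf xf18 yf9 zf21) (kf xf20 yf2 zf36) (kf xf20 yf2 zf34) (kf xf20 yf2 zf39) (kf xf18 yf9 zf22) (kf xf18 yf9 zf26) (kf xf20 yf0 zf39) (kf xf20 yf2 zf40) (kf xf18 yf9 zf28) (kf xf19 yf25 zf7) (kf xf20 yf2 zf43) (kf xf19 yf26 zf49) (kf xf18 yf9 zf32) (kf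 xf18 yf9 zf33)) (@D3.rec (fun _ => Pt) (kf xf19 yf25 zf8) (kf xf20 yf2 zf47) (kf xf20 yf3 zf2) (kf xf20 yf2 zf49) (kf xf20 yf3 zf5) (kf xf18 yf9 zf34) (kf xf18 yf9 zf37) (kf xf19 yf24 zf37) (kf xf20 yf3 zf7) (kf xf20 yf3 zf10) (kf xf18 yf9 zf38) (kf xf20 yf0 zf28) (kf xf18 yf9 zf42) (kf xf18 yf9 zf44) (kf xf19 yf13 zf29) (kf xf20 yf3 zf12) (kf xf18 yf9 zf47) (kf xf19 yf25 zf12) (kf xf19 yf25 zf33) (kf xf20 yf0 zf19) (kf xf20 yf3 zf15) (kf xf20 yf0 zf1) (kf xf18 yf13 zf36) (kf xf18 yf10 zf1) (kf xf19 yf25 zf11) (kf xf20 yf3 zf22) (kf xf20 yf0 zf0) (kf xf18 yf13 zf2) (kf xf19 yf15 zf16) (kf xf18 yf10 zf7) (kf xf19 yf25 zf13) (kf xf18 yf10 zf9) (kf xf19 yf25 zf3) (kf xf20 yf3 zf27) (kf xf20 yf3 zf34) (kf xf18 yf10 zf8) (kf xf20 yf3 zf29) (kf xf20 yf3 zf36)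 (kf xf18 yf10 zf10) (kf xf19 yf16 zf28) (kf xf19 yf15 zf4) (kf xf19 yf16 zf29) (kf xf19 yf15 zf18) (kf xf18 yf10 zf17) (kf xf19 yf25 zf2) (kf xf20 yf3 zf42) (kf xf18 yf10 zf18) (kf xf19 yf16 zf34) (kf xf19 yf16 zf36) (kf xf19 yf13 zf23) (kf xf18 yf10 zf27)) (@D3.rec (fun _ => Pt) (kf xf19 yf12 zf45) (kf xf18 yf10 zf44) (kf xf18 yf10 zf43) (kf xf19 yf19 zf28) (kf xf20 yf3 zf49) (kf xf18 yf10 zf35) (kf xf20 yf0 zf31) (kf xf19 yf13 zf37) (kf xf19 yf20 zf12) (kf xf20 yf4 zf3) (kf xf19 yf20 zf13) (kf xf20 yf4 zf6) (kf xf18 yf10 zf41) (kf xf20 yf3 zf46) (kf xf20 yf3 zf45) (kf xf18 yf10 zf47) (kf xf18 yf10 zf48) (kf xf20 yf4 zf11) (kf xf20 yf4 zf7) (kf xf20 yf4 zf14) (kf xf20 yf4 zf9) (kf xf20 yf4 zf17) (kf xf18 yf10 zf49) (kf xf18 yf11 zf1) (kf xf20 yf4 zf20)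 (kf xf18 yf11 zf0) (kf xf20 yf4 zf18) (kf xf20 yf4 zf22) (kf xf18 yf11 zf2) (kf xf19 yf12 zf0) (kf xf18 yf11 zf6) (kf xf18 yf11 zf8) (kf xf18 yf14 zf29) (kf xf19 yf14 zf11) (kf xf19 yf11 zf39) (kf xf19 yf20 zf41) (kf xf20 yf0 zf30) (kf xf20 yf0 zf41) (kf xf19 yf11 zf44) (kf xf19 yf11 zf43) (kf xf20 yf4 zf30) (kf xf18 yf11 zf17) (kf xf19 yf17 zf30) (kf xf19 yf19 zf48) (kf xf19 yf12 zf16) (kf xf19 yf15 zf1) (kf xf19 yf12 zf39) (kf xf19 yf15 zf43) (kf xf20 yf0 zf34) (kf xf20 yf4 zf39) (kf xf18 yf11 zf27)) (@D3.rec (fun _ => Pt) (kf xf19 yf16 zf45) (kf xf19 yf17 zf40) (kf xf18 yf11 zf34) (kf xf20 yf0 zf36) (kf xf20 yf4 zf42) (kf xf19 yf11 zf37) (kf xf19 yf11 zf47) (kf xf19 yf11 zf38) (kf xf19 yf21 zf0) (kf xf19 yf17 zf45) (kf xf19 yf17 zf33) (kf xf19 yf13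 zf42) (kf xf19 yf16 zf35) (kf xf18 yf11 zf45) (kf xf20 yf5 zf0) (kf xf20 yf5 zf2) (kf xf18 yf11 zf46) (kf xf19 yf14 zf2) (kf xf19 yf24 zf48) (kf xf19 yf14 zf13) (kf xf19 yf26 zf48) (kf xf19 yf20 zf40) (kf xf18 yf12 zf4) (kf xf19 yf20 zf49) (kf xf20 yf5 zf8) (kf xf18 yf12 zf5) (kf xf19 yf20 zf48) (kf xf19 yf20 zf50) (kf xf18 yf12 zf11) (kf xf18 yf13 zf4) (kf xf20 yf5 zf10) (kf xf20 yf1 zf3) (kf xf19 yf21 zf41) (kf xf19 yf22 zf10) (kf xf19 yf21 zf45) (kf xf18 yf12 zf18) (kf xf18 yf12 zf20) (kf xf19 yf22 zf27) (kf xf20 yf5 zf14) (kf xf18 yf12 zf32) (kf xf19 yf18 zf9) (kf xf18 yf12 zf24) (kf xf18 yf14 zf16) (kf xf20 yf5 zf19) (kf xf18 yf12 zf26) (kf xf19 yf13 zf41) (kf xf20 yf5 zf22) (kf xf18 yf12 zf28) (kf xf19 yf22 zf15) (kf xf20 yf5 zf25) (kf xf18 yf12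 zf31)) (@D3.rec (fun _ => Pt) (kf xf19 yf22 zf32) (kf xf20 yf5 zf28) (kf xf20 yf5 zf17) (kf xf18 yf12 zf34) (kf xf18 yf12 zf36) (kf xf19 yf13 zf44) (kf xf20 yf5 zf31) (kf xf18 yf12 zf39) (kf xf19 yf13 zf46) (kf xf20 yf5 zf34) (kf xf18 yf12 zf42) (kf xf19 yf22 zf24) (kf xf20 yf5 zf36) (kf xf18 yf12 zf45) (kf xf19 yf22 zf35) (kf xf20 yf0 zf46) (kf xf19 yf23 zf9) (kf xf20 yf0 zf48) (kf xf20 yf0 zf49) (kf xf20 yf3 zf25) (kf xf18 yf13 zf5) (kf xf20 yf5 zf11) (kf xf20 yf5 zf43) (kf xf19 yf16 zf16) (kf xf19 yf16 zf24) (kf xf20 yf0 zf50) (kf xf19 yf15 zf47) (kf xf20 yf1 zf0) (kf xf19 yf15 zf7) (kf xf19 yf15 zf50) (kf xf19 yf24 zf4) (kf xf20 yf0 zf14) (kf xf20 yf2 zf10) (kf xf20 yf0 zf16) (kf xf20 yf2 zf12) (kf xf20 yf0 zf15) (kf xf19 yf16 zf41) (kf xf20 yf2 zf14)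 (kf xf20 yf0 zf17) (kf xf20 yf2 zf16) (kf xf19 yf26 zf6) (kf xf20 yf2 zf18) (kf xf19 yf26 zf5) (kf xf18 yf13 zf28) (kf xf19 yf22 zf42) (kf xf20 yf6 zf11) (kf xf18 yf13 zf31) (kf xf19 yf22 zf11) (kf xf20 yf6 zf14) (kf xf20 yf1 zf48) (kf xf20 yf2 zf0)) (@D3.rec (fun _ => Pt) (kf xf20 yf2 zf2) (kf xf20 yf3 zf21) (kf xf19 yf23 zf35) (kf xf19 yf21 zf5) (kf xf18 yf13 zf39) (kf xf19 yf14 zf4) (kf xf20 yf6 zf22) (kf xf18 yf13 zf42) (kf xf19 yf14 zf6) (kf xf20 yf6 zf25) (kf xf19 yf14 zf33) (kf xf19 yf23 zf31) (kf xf20 yf6 zf32) (kf xf18 yf13 zf48) (kf xf19 yf23 zf14) (kf xf18 yf13 zf49) (kf xf19 yf23 zf16) (kf xf20 yf6 zf33) (kf xf20 yf6 zf35) (kf xf19 yf23 zf44) (kf xf20 yf1 zf50) (kf xf19 yf24 zf44) (kf xf20 yf6 zf27) (kf xf18 yf14 zf1) (kf xf18 yf14 zf4) (kf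 xf19 yf23 zf20) (kf xf19 yf24 zf47) (kf xf19 yf24 zf49) (kf xf18 yf14 zf12) (kf xf19 yf26 zf10) (kf xf20 yf6 zf45) (kf xf18 yf14 zf30) (kf xf20 yf1 zf14) (kf xf18 yf14 zf17) (kf xf20 yf5 zf20) (kf xf20 yf5 zf21) (kf xf18 yf14 zf20) (kf xf18 yf14 zf45) (kf xf20 yf7 zf3) (kf xf19 yf14 zf14) (kf xf18 yf14 zf25) (kf xf20 yf7 zf7) (kf xf18 yf14 zf23) (kf xf20 yf0 zf21) (kf xf20 yf7 zf9) (kf xf18 yf14 zf26) (kf xf19 yf26 zf8) (kf xf20 yf4 zf24) (kf xf20 yf6 zf48) (kf xf18 yf14 zf33) (kf xf20 yf7 zf12)) (@D3.rec (fun _ => Pt) (kf xf19 yf26 zf12) (kf xf20 yf0 zf20) (kf xf18 yf14 zf38) (kf xf19 yf14 zf15) (kf xf18 yf15 zf0) (kf xf19 yf26 zf18) (kf xf20 yf7 zf20) (kf xf19 yf26 zf20) (kf xf20 yf7 zf17) (kf xf18 yf14 zf41) (kf xf18 yf14 zf46) (kf xf20 yf1 zf49) (kf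 xf18 yf14 zf47) (kf xf20 yf7 zf4) (kf xf20 yf7 zf5) (kf xf20 yf7 zf23) (kf xf19 yf26 zf36) (kf xf18 yf14 zf49) (kf xf19 yf26 zf39) (kf xf20 yf7 zf16) (kf xf20 yf7 zf29) (kf xf18 yf15 zf3) (kf xf18 yf15 zf5) (kf xf19 yf26 zf47) (kf xf18 yf15 zf14) (kf xf18 yf15 zf17) (kf xf18 yf15 zf32) (kf xf20 yf7 zf30) (kf xf18 yf15 zf20) (kf xf20 yf7 zf33) (kf xf18 yf15 zf22) (kf xf20 yf7 zf35) (kf xf18 yf15 zf25) (kf xf18 yf15 zf41) (kf xf20 yf7 zf37) (kf xf18 yf15 zf44) (kf xf18 yf15 zf45) (kf xf19 yf8 zf5) (kf xf19 yf8 zf7) (kf xf19 yf7 zf34) (kf xf18 yf15 zf33) (kf xf20 yf7 zf31) (kf xf20 yf7 zf44) (kf xf19 yf7 zf39) (kf xf19 yf7 zf38) (kf xf18 yf22 zf30) (kf xf19 yf3 zf40) (kf xf19 yf8 zf6) (kf xf18 yf15 zf42) (kf xf20 yf7 zf38) (kf xf20 yf7 zf39)) (@D3.rec (fun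 _ => Pt) (kf xf19 yf7 zf29) (kf xf20 yf7 zf40) (kf xf20 yf7 zf41) (kf xf18 yf15 zf47) (kf xf20 yf8 zf3) (kf xf18 yf22 zf22) (kf xf19 yf12 zf6) (kf xf20 yf8 zf9) (kf xf18 yf22 zf18) (kf xf18 yf16 zf1) (kf xf20 yf8 zf12) (kf xf20 yf8 zf16) (kf xf18 yf16 zf2) (kf xf18 yf16 zf4) (kf xf18 yf18 zf25) (kf xf20 yf8 zf18) (kf xf19 yf7 zf44) (kf xf18 yf26 zf41) (kf xf19 yf4 zf17) (kf xf20 yf8 zf26) (kf xf18 yf16 zf8) (kf xf18 yf22 zf42) (kf xf18 yf16 zf11) (kf xf18 yf18 zf38) (kf xf20 yf8 zf30) (kf xf18 yf18 zf16) (kf xf19 yf4 zf31) (kf xf20 yf8 zf37) (kf xf19 yf4 zf33) (kf xf20 yf8 zf40) (kf xf18 yf16 zf15) (kf xf18 yf16 zf19) (kf xf18 yf19 zf4) (kf xf20 yf8 zf41) (kf xf19 yf12 zf34) (kf xf19 yf12 zf35) (kf xf20 yf8 zf45) (kf xf18 yf19 zf7) (kf xf18 yf19 zf9) (kf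 xf19 yf7 zf46) (kf xf18 yf16 zf27) (kf xf20 yf9 zf0) (kf xf20 yf8 zf49) (kf xf20 yf9 zf3) (kf xf18 yf16 zf28) (kf xf19 yf7 zf0) (kf xf18 yf22 zf43) (kf xf20 yf9 zf7) (kf xf18 yf16 zf33) (kf xf18 yf19 zf28) (kf xf20 yf9 zf8)) (@D3.rec (fun _ => Pt) (kf xf18 yf18 zf19) (kf xf19 yf4 zf4) (kf xf18 yf26 zf30) (kf xf19 yf4 zf6) (kf xf18 yf26 zf22) (kf xf18 yf16 zf40) (kf xf18 yf16 zf41) (kf xf20 yf9 zf21) (kf xf20 yf9 zf17) (kf xf20 yf9 zf24) (kf xf20 yf9 zf19) (kf xf20 yf9 zf27) (kf xf18 yf16 zf42) (kf xf18 yf16 zf45) (kf xf20 yf9 zf32) (kf xf18 yf16 zf44) (kf xf20 yf9 zf29) (kf xf20 yf9 zf34) (kf xf18 yf16 zf46) (kf xf18 yf20 zf12) (kf xf18 yf17 zf0) (kf xf18 yf20 zf6) (kf xf18 yf20 zf7) (kf xf19 yf6 zf49) (kf xf18 yf17 zf2) (kf xf19 yf13 zf25) (kf xf19 yf3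 zf8) (kf xf18 yf17 zf6) (kf xf18 yf20 zf11) (kf xf19 yf6 zf14) (kf xf18 yf20 zf13) (kf xf18 yf19 zf23) (kf xf18 yf20 zf14) (kf xf18 yf26 zf32) (kf xf18 yf17 zf18) (kf xf18 yf25 zf14) (kf xf18 yf25 zf19) (kf xf19 yf7 zf7) (kf xf18 yf17 zf25) (kf xf20 yf9 zf48) (kf xf18 yf25 zf11) (kf xf19 yf8 zf45) (kf xf19 yf8 zf11) (kf xf18 yf24 zf41) (kf xf19 yf9 zf5) (kf xf18 yf25 zf12) (kf xf19 yf9 zf8) (kf xf18 yf17 zf34) (kf xf18 yf20 zf4) (kf xf20 yf10 zf7) (kf xf18 yf17 zf36)) (@D3.rec (fun _ => Pt) (kf xf19 yf0 zf10) (kf xf20 yf10 zf9) (kf xf19 yf8 zf17) (kf xf18 yf26 zf10) (kf xf19 yf10 zf5) (kf xf18 yf26 zf11) (kf xf19 yf10 zf8) (kf xf18 yf17 zf43) (kf xf19 yf0 zf42) (kf xf20 yf10 zf17) (kf xf18 yf17 zf45) (kf xf19 yf7 zf33) (kf xf20 yf10 zf19) (kf xf19 yf8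 zf19) (kf xf19 yf10 zf39) (kf xf19 yf11 zf3) (kf xf18 yf24 zf16) (kf xf18 yf25 zf3) (kf xf18 yf24 zf19) (kf xf18 yf25 zf5) (kf xf18 yf18 zf3) (kf xf19 yf2 zf32) (kf xf19 yf5 zf8) (kf xf20 yf10 zf30) (kf xf19 yf3 zf16) (kf xf18 yf18 zf9) (kf xf20 yf10 zf33) (kf xf20 yf10 zf37) (kf xf18 yf18 zf10) (kf xf19 yf0 zf23) (kf xf18 yf18 zf13) (kf xf20 yf8 zf4) (kf xf20 yf10 zf41) (kf xf19 yf10 zf10) (kf xf20 yf9 zf44) (kf xf20 yf8 zf33) (kf xf20 yf10 zf48) (kf xf20 yf10 zf38) (kf xf18 yf18 zf18) (kf xf20 yf9 zf11) (kf xf20 yf11 zf1) (kf xf18 yf18 zf21) (kf xf20 yf11 zf4) (kf xf20 yf11 zf2) (kf xf20 yf11 zf7) (kf xf18 yf18 zf22) (kf xf18 yf26 zf24) (kf xf18 yf18 zf26) (kf xf20 yf8 zf19) (kf xf20 yf11 zf9) (kf xf18 yf18 zf36)) (@D3.rec (fun _ => Pt) (kf xf18 yf18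 zf29) (kf xf19 yf7 zf45) (kf xf20 yf11 zf14) (kf xf19 yf1 zf19) (kf xf19 yf6 zf40) (kf xf19 yf2 zf13) (kf xf19 yf2 zf8) (kf xf19 yf9 zf28) (kf xf20 yf11 zf23) (kf xf18 yf18 zf34) (kf xf20 yf11 zf12) (kf xf20 yf11 zf26) (kf xf18 yf18 zf39) (kf xf20 yf8 zf31) (kf xf20 yf11 zf27) (kf xf19 yf0 zf14) (kf xf19 yf6 zf28) (kf xf19 yf1 zf44) (kf xf19 yf6 zf42) (kf xf18 yf18 zf45) (kf xf19 yf1 zf6) (kf xf19 yf1 zf26) (kf xf20 yf11 zf34) (kf xf20 yf11 zf40) (kf xf18 yf18 zf46) (kf xf18 yf18 zf48) (kf xf20 yf11 zf41) (kf xf20 yf11 zf43) (kf xf18 yf18 zf49) (kf xf18 yf26 zf33) (kf xf18 yf25 zf15) (kf xf19 yf5 zf35) (kf xf18 yf25 zf20) (kf xf18 yf19 zf5) (kf xf20 yf8 zf42) (kf xf20 yf8 zf43) (kf xf18 yf19 zf6) (kf xf20 yf8 zf46) (kf xf20 yf8 zf47) (kf xf18 yf19 zf24)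 (kf xf18 yf19 zf25) (kf xf20 yf12 zf6) (kf xf18 yf19 zf14) (kf xf19 yf7 zf47) (kf xf20 yf12 zf7) (kf xf19 yf0 zf19) (kf xf18 yf19 zf35) (kf xf19 yf9 zf26) (kf xf20 yf12 zf14) (kf xf18 yf19 zf18) (kf xf19 yf9 zf29)) (@D3.rec (fun _ => Pt) (kf xf20 yf12 zf16) (kf xf18 yf19 zf21) (kf xf20 yf9 zf28) (kf xf20 yf12 zf2) (kf xf18 yf24 zf5) (kf xf20 yf12 zf4) (kf xf20 yf12 zf22) (kf xf18 yf19 zf26) (kf xf18 yf19 zf29) (kf xf20 yf9 zf9) (kf xf20 yf9 zf10) (kf xf19 yf0 zf29) (kf xf19 yf0 zf30) (kf xf19 yf3 zf50) (kf xf19 yf1 zf7) (kf xf19 yf1 zf21) (kf xf19 yf9 zf23) (kf xf20 yf12 zf11) (kf xf18 yf19 zf37) (kf xf20 yf12 zf32) (kf xf20 yf12 zf34) (kf xf18 yf19 zf38) (kf xf19 yf1 zf35) (kf xf19 yf1 zf33) (kf xf19 yf9 zf24) (kf xf20 yf12 zf38) (kf xf18 yf19 zf43) (kf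 xf19 yf3 zf3) (kf xf19 yf6 zf39) (kf xf19 yf6 zf41) (kf xf18 yf19 zf48) (kf xf20 yf12 zf42) (kf xf18 yf19 zf49) (kf xf19 yf3 zf2) (kf xf19 yf6 zf47) (kf xf19 yf8 zf12) (kf xf19 yf6 zf48) (kf xf20 yf10 zf8) (kf xf20 yf9 zf36) (kf xf20 yf9 zf37) (kf xf20 yf9 zf38) (kf xf19 yf9 zf36) (kf xf20 yf9 zf35) (kf xf20 yf9 zf43) (kf xf18 yf21 zf2) (kf xf19 yf8 zf0) (kf xf18 yf20 zf42) (kf xf18 yf20 zf38) (kf xf18 yf22 zf36) (kf xf18 yf20 zf23) (kf xf18 yf21 zf40)) (@D3.rec (fun _ => Pt) (kf xf20 yf13 zf6) (kf xf18 yf21 zf20) (kf xf18 yf21 zf6) (kf xf18 yf21 zf1) (kf xf18 yf23 zf18) (kf xf18 yf20 zf31) (kf xf18 yf22 zf7) (kf xf20 yf13 zf13) (kf xf18 yf23 zf23) (kf xf18 yf20 zf34) (kf xf20 yf13 zf17) (kf xf20 yf13 zf21) (kf xf18 yf20 zf35) (kf xf18 yf20 zf37) (kf xf18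 yf22 zf28) (kf xf20 yf13 zf22) (kf xf20 yf13 zf4) (kf xf18 yf21 zf43) (kf xf18 yf21 zf21) (kf xf18 yf25 zf13) (kf xf20 yf13 zf30) (kf xf20 yf13 zf3) (kf xf20 yf13 zf33) (kf xf18 yf20 zf43) (kf xf18 yf21 zf15) (kf xf19 yf3 zf36) (kf xf18 yf20 zf48) (kf xf18 yf23 zf2) (kf xf20 yf13 zf36) (kf xf18 yf23 zf4) (kf xf19 yf7 zf42) (kf xf20 yf13 zf11) (kf xf20 yf13 zf1) (kf xf19 yf8 zf10) (kf xf18 yf24 zf21) (kf xf18 yf26 zf7) (kf xf20 yf13 zf10) (kf xf20 yf13 zf45) (kf xf18 yf21 zf7) (kf xf18 yf21 zf22) (kf xf19 yf8 zf1) (kf xf18 yf21 zf13) (kf xf18 yf24 zf1) (kf xf18 yf24 zf2) (kf xf20 yf13 zf34) (kf xf19 yf8 zf9) (kf xf18 yf21 zf23) (kf xf18 yf21 zf31) (kf xf18 yf24 zf20) (kf xf18 yf25 zf47) (kf xf20 yf13 zf9)) (@D3.rec (fun _ => Pt) (kf xf20 yf13 zf27) (kf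 xf20 yf13 zf46) (kf xf20 yf14 zf1) (kf xf19 yf1 zf29) (kf xf18 yf21 zf26) (kf xf20 yf14 zf10) (kf xf20 yf14 zf14) (kf xf18 yf21 zf27) (kf xf18 yf21 zf29) (kf xf19 yf8 zf40) (kf xf20 yf14 zf16) (kf xf18 yf21 zf48) (kf xf20 yf14 zf2) (kf xf18 yf21 zf44) (kf xf18 yf24 zf4) (kf xf19 yf1 zf36) (kf xf20 yf14 zf25) (kf xf18 yf21 zf36) (kf xf20 yf14 zf26) (kf xf20 yf14 zf29) (kf xf18 yf21 zf37) (kf xf18 yf21 zf41) (kf xf20 yf13 zf7) (kf xf20 yf14 zf30) (kf xf18 yf22 zf34) (kf xf20 yf13 zf26) (kf xf20 yf14 zf21) (kf xf18 yf22 zf33) (kf xf18 yf21 zf47) (kf xf20 yf14 zf37) (kf xf20 yf14 zf19) (kf xf20 yf14 zf41) (kf xf18 yf21 zf49) (kf xf18 yf22 zf46) (kf xf18 yf22 zf3) (kf xf20 yf14 zf45) (kf xf18 yf22 zf2) (kf xf20 yf14 zf42) (kf xf20 yf14 zf47) (kf xf18 yf22 zf4)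 (kf xf18 yf22 zf8) (kf xf20 yf13 zf14) (kf xf18 yf23 zf16) (kf xf18 yf23 zf14) (kf xf18 yf23 zf12) (kf xf18 yf24 zf10) (kf xf18 yf26 zf0) (kf xf18 yf22 zf15) (kf xf20 yf15 zf3) (kf xf18 yf22 zf17) (kf xf20 yf9 zf49)) (@D3.rec (fun _ => Pt) (kf xf20 yf15 zf6) (kf xf20 yf8 zf10) (kf xf20 yf15 zf11) (kf xf20 yf15 zf13) (kf xf18 yf22 zf20) (kf xf19 yf4 zf9) (kf xf20 yf8 zf6) (kf xf20 yf15 zf18) (kf xf18 yf22 zf24) (kf xf20 yf15 zf21) (kf xf20 yf15 zf19) (kf xf20 yf15 zf24) (kf xf18 yf22 zf25) (kf xf19 yf0 zf49) (kf xf18 yf22 zf29) (kf xf20 yf13 zf23) (kf xf20 yf15 zf27) (kf xf20 yf7 zf46) (kf xf18 yf25 zf33) (kf xf18 yf26 zf4) (kf xf20 yf14 zf33) (kf xf20 yf14 zf36) (kf xf20 yf14 zf32) (kf xf18 yf22 zf37) (kf xf20 yf13 zf5) (kf xf20 yf15 zf37) (kf xf18 yf24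 zf27) (kf xf20 yf15 zf41) (kf xf19 yf7 zf3) (kf xf20 yf15 zf44) (kf xf18 yf22 zf40) (kf xf20 yf8 zf28) (kf xf20 yf15 zf47) (kf xf20 yf9 zf5) (kf xf20 yf16 zf0) (kf xf18 yf22 zf44) (kf xf18 yf22 zf47) (kf xf20 yf14 zf40) (kf xf20 yf16 zf1) (kf xf20 yf16 zf4) (kf xf18 yf22 zf48) (kf xf19 yf3 zf26) (kf xf19 yf3 zf38) (kf xf18 yf23 zf3) (kf xf20 yf13 zf37) (kf xf20 yf13 zf38) (kf xf19 yf1 zf15) (kf xf18 yf23 zf7) (kf xf19 yf7 zf43) (kf xf20 yf16 zf11) (kf xf18 yf23 zf10)) (@D3.rec (fun _ => Pt) (kf xf18 yf23 zf11) (kf xf20 yf15 zf0) (kf xf20 yf16 zf13) (kf xf20 yf15 zf1) (kf xf20 yf16 zf15) (kf xf20 yf14 zf50) (kf xf18 yf23 zf15) (kf xf20 yf14 zf44) (kf xf20 yf16 zf21) (kf xf20 yf14 zf49) (kf xf18 yf23 zf19) (kf xf20 yf13 zf12) (kf xf19 yf7 zf8) (kf xf19 yf7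 zf10) (kf xf18 yf23 zf24) (kf xf20 yf16 zf29) (kf xf20 yf13 zf15) (kf xf20 yf16 zf32) (kf xf20 yf16 zf27) (kf xf20 yf16 zf35) (kf xf18 yf23 zf25) (kf xf18 yf23 zf28) (kf xf20 yf16 zf38) (kf xf18 yf23 zf27) (kf xf20 yf16 zf36) (kf xf20 yf16 zf40) (kf xf18 yf23 zf29) (kf xf18 yf23 zf34) (kf xf20 yf16 zf43) (kf xf18 yf23 zf36) (kf xf20 yf16 zf47) (kf xf18 yf23 zf33) (kf xf20 yf16 zf41) (kf xf20 yf17 zf0) (kf xf18 yf23 zf35) (kf xf20 yf16 zf44) (kf xf20 yf17 zf4) (kf xf20 yf17 zf5) (kf xf18 yf23 zf37) (kf xf19 yf1 zf37) (kf xf19 yf8 zf21) (kf xf19 yf7 zf35) (kf xf18 yf23 zf44) (kf xf20 yf17 zf11) (kf xf20 yf14 zf22) (kf xf18 yf23 zf42) (kf xf20 yf17 zf13) (kf xf18 yf23 zf45) (kf xf19 yf8 zf26) (kf xf19 yf8 zf23) (kf xf19 yf8 zf27)) (@D3.rec (fun _ => Pt) (kf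 xf19 yf8 zf8) (kf xf20 yf13 zf48) (kf xf20 yf13 zf49) (kf xf20 yf12 zf19) (kf xf20 yf12 zf3) (kf xf19 yf10 zf3) (kf xf18 yf24 zf11) (kf xf19 yf2 zf41) (kf xf19 yf0 zf47) (kf xf20 yf17 zf22) (kf xf18 yf24 zf12) (kf xf18 yf24 zf14) (kf xf20 yf10 zf23) (kf xf19 yf2 zf2) (kf xf19 yf2 zf0) (kf xf20 yf10 zf25) (kf xf20 yf14 zf3) (kf xf20 yf13 zf42) (kf xf18 yf24 zf24) (kf xf18 yf26 zf21) (kf xf18 yf24 zf26) (kf xf18 yf26 zf39) (kf xf20 yf17 zf29) (kf xf20 yf15 zf39) (kf xf20 yf17 zf34) (kf xf18 yf24 zf28) (kf xf18 yf24 zf32) (kf xf19 yf0 zf12) (kf xf20 yf17 zf35) (kf xf18 yf24 zf34) (kf xf19 yf0 zf17) (kf xf20 yf17 zf38) (kf xf18 yf24 zf37) (kf xf19 yf0 zf27) (kf xf20 yf17 zf41) (kf xf18 yf24 zf40) (kf xf19 yf0 zf44) (kf xf20 yf10 zf3) (kf xf18 yf24 zf44) (kf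 xf19 yf1 zf17) (kf xf20 yf17 zf45) (kf xf19 yf8 zf32) (kf xf18 yf24 zf48) (kf xf19 yf1 zf42) (kf xf19 yf4 zf8) (kf xf19 yf8 zf34) (kf xf18 yf25 zf1) (kf xf18 yf25 zf16) (kf xf20 yf10 zf24) (kf xf18 yf25 zf21) (kf xf20 yf10 zf26)) (@D3.rec (fun _ => Pt) (kf xf19 yf2 zf34) (kf xf19 yf2 zf35) (kf xf19 yf2 zf36) (kf xf19 yf3 zf4) (kf xf20 yf10 zf0) (kf xf20 yf10 zf5) (kf xf20 yf13 zf28) (kf xf20 yf9 zf45) (kf xf20 yf11 zf45) (kf xf20 yf17 zf49) (kf xf19 yf8 zf33) (kf xf19 yf9 zf47) (kf xf20 yf9 zf46) (kf xf20 yf11 zf47) (kf xf18 yf25 zf23) (kf xf19 yf8 zf48) (kf xf20 yf18 zf12) (kf xf18 yf25 zf25) (kf xf20 yf18 zf17) (kf xf20 yf18 zf15) (kf xf20 yf18 zf20) (kf xf18 yf25 zf26) (kf xf18 yf26 zf26) (kf xf18 yf25 zf30) (kf xf19 yf9 zf11) (kf xf20 yf18 zf22) (kf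 xf18 yf25 zf32) (kf xf19 yf8 zf37) (kf xf20 yf18 zf25) (kf xf20 yf15 zf31) (kf xf20 yf18 zf30) (kf xf18 yf25 zf36) (kf xf19 yf9 zf0) (kf xf20 yf18 zf31) (kf xf18 yf25 zf39) (kf xf19 yf9 zf14) (kf xf19 yf4 zf42) (kf xf20 yf14 zf15) (kf xf18 yf25 zf41) (kf xf19 yf4 zf24) (kf xf19 yf4 zf37) (kf xf18 yf25 zf45) (kf xf19 yf9 zf44) (kf xf20 yf18 zf39) (kf xf18 yf25 zf48) (kf xf20 yf14 zf4) (kf xf20 yf18 zf42) (kf xf18 yf25 zf50) (kf xf19 yf5 zf4) (kf xf20 yf18 zf45) (kf xf20 yf15 zf2)) (@D3.rec (fun _ => Pt) (kf xf20 yf11 zf8) (kf xf18 yf26 zf3) (kf xf19 yf5 zf6) (kf xf20 yf18 zf50) (kf xf20 yf15 zf33) (kf xf20 yf19 zf5) (kf xf18 yf26 zf5) (kf xf18 yf26 zf8) (kf xf20 yf13 zf43) (kf xf19 yf9 zf16) (kf xf19 yf5 zf28) (kf xf20 yf10 zf13) (kf xf20 yf10 zf15) (kf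 xf18 yf26 zf15) (kf xf19 yf10 zf14) (kf xf18 yf26 zf16) (kf xf19 yf10 zf16) (kf xf20 yf19 zf10) (kf xf20 yf19 zf12) (kf xf18 yf26 zf19) (kf xf19 yf10 zf25) (kf xf19 yf4 zf7) (kf xf20 yf17 zf28) (kf xf20 yf9 zf16) (kf xf20 yf9 zf14) (kf xf20 yf8 zf17) (kf xf19 yf3 zf43) (kf xf20 yf18 zf21) (kf xf19 yf4 zf5) (kf xf20 yf9 zf12) (kf xf20 yf11 zf44) (kf xf19 yf10 zf11) (kf xf18 yf26 zf36) (kf xf20 yf9 zf42) (kf xf20 yf19 zf25) (kf xf19 yf10 zf2) (kf xf20 yf17 zf20) (kf xf18 yf26 zf40) (kf xf20 yf17 zf30) (kf xf20 yf19 zf30) (kf xf20 yf8 zf22) (kf xf20 yf19 zf35) (kf xf20 yf19 zf37) (kf xf18 yf26 zf43) (kf xf19 yf10 zf19) (kf xf18 yf26 zf46) (kf xf20 yf19 zf42) (kf xf20 yf19 zf40) (kf xf20 yf19 zf46) (kf xf18 yf26 zf47) (kf xf20 yf19 zf48)) (@D3.rec (fun _ =>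 Pt) (kf xf18 yf26 zf48) (kf xf19 yf2 zf43) (kf xf19 yf0 zf1) (kf xf20 yf9 zf39) (kf xf19 yf9 zf30) (kf xf20 yf19 zf49) (kf xf19 yf5 zf9) (kf xf20 yf20 zf4) (kf xf19 yf0 zf5) (kf xf20 yf20 zf8) (kf xf19 yf0 zf4) (kf xf20 yf20 zf5) (kf xf20 yf20 zf11) (kf xf19 yf0 zf6) (kf xf19 yf2 zf44) (kf xf19 yf5 zf12) (kf xf20 yf10 zf10) (kf xf19 yf0 zf13) (kf xf20 yf17 zf36) (kf xf20 yf17 zf37) (kf xf20 yf11 zf30) (kf xf19 yf0 zf24) (kf xf20 yf16 zf10) (kf xf19 yf0 zf18) (kf xf20 yf17 zf39) (kf xf20 yf20 zf22) (kf xf20 yf12 zf10) (kf xf19 yf5 zf22) (kf xf19 yf0 zf22) (kf xf20 yf20 zf27) (kf xf20 yf10 zf39) (kf xf20 yf17 zf1) (kf xf20 yf20 zf20) (kf xf20 yf20 zf33) (kf xf19 yf0 zf25) (kf xf19 yf0 zf28) (kf xf20 yf17 zf42) (kf xf19 yf6 zf7) (kf xf20 yf12 zf25) (kf xf20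 yf12 zf26) (kf xf19 yf0 zf33) (kf xf19 yf0 zf34) (kf xf20 yf20 zf38) (kf xf20 yf20 zf39) (kf xf19 yf10 zf21) (kf xf19 yf0 zf38) (kf xf19 yf4 zf1) (kf xf19 yf10 zf26) (kf xf19 yf8 zf18) (kf xf19 yf10 zf27) (kf xf20 yf10 zf18)) (@D3.rec (fun _ => Pt) (kf xf19 yf5 zf26) (kf xf20 yf17 zf43) (kf xf19 yf6 zf44) (kf xf19 yf6 zf32) (kf xf20 yf15 zf26) (kf xf20 yf15 zf14) (kf xf20 yf15 zf25) (kf xf19 yf5 zf46) (kf xf19 yf6 zf0) (kf xf19 yf5 zf15) (kf xf19 yf5 zf23) (kf xf19 yf6 zf24) (kf xf19 yf6 zf17) (kf xf19 yf6 zf30) (kf xf20 yf11 zf35) (kf xf20 yf12 zf28) (kf xf19 yf1 zf30) (kf xf20 yf21 zf8) (kf xf19 yf1 zf11) (kf xf20 yf21 zf18) (kf xf19 yf1 zf10) (kf xf20 yf21 zf15) (kf xf20 yf21 zf20) (kf xf19 yf1 zf12) (kf xf19 yf1 zf38) (kf xf20 yf16 zf9) (kf xf19 yf1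 zf18) (kf xf20 yf17 zf46) (kf xf20 yf17 zf47) (kf xf20 yf11 zf17) (kf xf19 yf1 zf22) (kf xf20 yf12 zf29) (kf xf20 yf21 zf28) (kf xf19 yf6 zf18) (kf xf20 yf21 zf10) (kf xf19 yf1 zf27) (kf xf19 yf1 zf28) (kf xf20 yf11 zf36) (kf xf20 yf21 zf32) (kf xf20 yf21 zf33) (kf xf20 yf14 zf8) (kf xf20 yf21 zf39) (kf xf20 yf21 zf13) (kf xf20 yf21 zf43) (kf xf19 yf1 zf31) (kf xf19 yf1 zf34) (kf xf20 yf12 zf36) (kf xf19 yf5 zf20) (kf xf20 yf12 zf35) (kf xf20 yf14 zf23) (kf xf20 yf17 zf6)) (@D3.rec (fun _ => Pt) (kf xf20 yf21 zf21) (kf xf20 yf22 zf1) (kf xf20 yf20 zf12) (kf xf19 yf1 zf39) (kf xf20 yf17 zf48) (kf xf19 yf9 zf42) (kf xf19 yf9 zf40) (kf xf20 yf11 zf32) (kf xf19 yf10 zf46) (kf xf19 yf1 zf48) (kf xf19 yf10 zf29) (kf xf20 yf22 zf8) (kf xf19 yf11 zf0) (kf xf19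 yf2 zf1) (kf xf20 yf17 zf26) (kf xf20 yf17 zf25) (kf xf19 yf4 zf11) (kf xf20 yf22 zf15) (kf xf19 yf11 zf5) (kf xf20 yf22 zf18) (kf xf19 yf11 zf7) (kf xf20 yf22 zf22) (kf xf19 yf2 zf6) (kf xf19 yf2 zf12) (kf xf20 yf11 zf20) (kf xf19 yf2 zf14) (kf xf20 yf22 zf28) (kf xf20 yf22 zf29) (kf xf19 yf2 zf10) (kf xf20 yf22 zf23) (kf xf20 yf11 zf19) (kf xf20 yf10 zf31) (kf xf20 yf22 zf34) (kf xf20 yf22 zf35) (kf xf19 yf2 zf15) (kf xf19 yf2 zf16) (kf xf19 yf11 zf16) (kf xf20 yf22 zf39) (kf xf19 yf2 zf19) (kf xf19 yf11 zf18) (kf xf20 yf22 zf41) (kf xf19 yf2 zf21) (kf xf20 yf22 zf43) (kf xf19 yf5 zf34) (kf xf19 yf2 zf24) (kf xf19 yf5 zf31) (kf xf19 yf2 zf27) (kf xf19 yf11 zf23) (kf xf19 yf8 zf20) (kf xf19 yf5 zf48) (kf xf20 yf10 zf27))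
def f_f_20 : D2 → D3 → Pt := @D2.rec (fun _ => D3 → Pt) (@D3.rec (fun _ => Pt) (kf xf19 yf6 zf26) (kf xf19 yf6 zf21) (kf xf20 yf18 zf1) (kf xf20 yf12 zf43) (kf xf20 yf18 zf2) (kf xf20 yf18 zf3) (kf xf19 yf2 zf37) (kf xf20 yf23 zf4) (kf xf19 yf2 zf38) (kf xf19 yf5 zf18) (kf xf20 yf17 zf21) (kf xf20 yf19 zf38) (kf xf20 yf19 zf47) (kf xf20 yf9 zf41) (kf xf19 yf9 zf31) (kf xf19 yf9 zf35) (kf xf19 yf9 zf33) (kf xf19 yf9 zf38) (kf xf19 yf5 zf29) (kf xf19 yf6 zf19) (kf xf19 yf11 zf1) (kf xf19 yf10 zf43) (kf xf20 yf12 zf39) (kf xf19 yf3 zf18) (kf xf19 yf3 zf5) (kf xf20 yf8 zf44) (kf xf19 yf4 zf10) (kf xf19 yf4 zf28) (kf xf19 yf6 zf11) (kf xf20 yf17 zf23) (kf xf19 yf7 zf36) (kf xf19 yf7 zf6) (kf xf19 yf3 zf24) (kf xf20 yf16 zf5) (kf xf19 yf7 zf48) (kf xf19 yf3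 zf31) (kf xf19 yf8 zf3) (kf xf20 yf23 zf18) (kf xf19 yf3 zf34) (kf xf19 yf5 zf43) (kf xf20 yf23 zf20) (kf xf19 yf7 zf37) (kf xf20 yf13 zf35) (kf xf19 yf3 zf39) (kf xf20 yf16 zf6) (kf xf20 yf7 zf47) (kf xf19 yf9 zf15) (kf xf20 yf19 zf1) (kf xf19 yf9 zf17) (kf xf19 yf9 zf18) (kf xf19 yf9 zf25)) (@D3.rec (fun _ => Pt) (kf xf19 yf9 zf27) (kf xf20 yf12 zf27) (kf xf20 yf20 zf42) (kf xf19 yf8 zf31) (kf xf20 yf9 zf13) (kf xf20 yf19 zf18) (kf xf20 yf9 zf15) (kf xf20 yf19 zf17) (kf xf20 yf15 zf15) (kf xf20 yf23 zf11) (kf xf20 yf22 zf13) (kf xf20 yf23 zf38) (kf xf19 yf4 zf12) (kf xf19 yf4 zf16) (kf xf19 yf10 zf32) (kf xf20 yf23 zf39) (kf xf20 yf8 zf24) (kf xf20 yf23 zf44) (kf xf19 yf4 zf18) (kf xf19 yf4 zf21) (kf xf20 yf18 zf38) (kf xf20 yf23 zf45) (kf xf20 yf23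 zf49) (kf xf19 yf4 zf22) (kf xf19 yf4 zf25) (kf xf20 yf18 zf33) (kf xf20 yf24 zf0) (kf xf20 yf24 zf3) (kf xf19 yf4 zf26) (kf xf20 yf23 zf16) (kf xf19 yf4 zf30) (kf xf20 yf8 zf35) (kf xf20 yf24 zf8) (kf xf19 yf4 zf32) (kf xf20 yf8 zf38) (kf xf20 yf24 zf10) (kf xf19 yf4 zf34) (kf xf19 yf4 zf38) (kf xf20 yf18 zf36) (kf xf20 yf24 zf11) (kf xf20 yf24 zf15) (kf xf19 yf4 zf39) (kf xf19 yf4 zf43) (kf xf20 yf18 zf35) (kf xf20 yf24 zf17) (kf xf19 yf4 zf44) (kf xf19 yf4 zf49) (kf xf20 yf23 zf50) (kf xf19 yf9 zf49) (kf xf19 yf11 zf11) (kf xf19 yf10 zf20)) (@D3.rec (fun _ => Pt) (kf xf19 yf9 zf50) (kf xf20 yf18 zf46) (kf xf19 yf10 zf0) (kf xf20 yf19 zf0) (kf xf20 yf10 zf28) (kf xf20 yf24 zf27) (kf xf20 yf20 zf2) (kf xf20 yf24 zf30) (kf xf19 yf5 zf10) (kf xf20 yf20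 zf13) (kf xf19 yf9 zf32) (kf xf20 yf21 zf7) (kf xf19 yf9 zf34) (kf xf20 yf20 zf45) (kf xf19 yf9 zf37) (kf xf20 yf23 zf6) (kf xf19 yf9 zf39) (kf xf20 yf21 zf46) (kf xf19 yf9 zf41) (kf xf20 yf21 zf45) (kf xf20 yf20 zf26) (kf xf20 yf20 zf48) (kf xf19 yf5 zf25) (kf xf20 yf24 zf44) (kf xf20 yf20 zf47) (kf xf19 yf5 zf30) (kf xf20 yf19 zf8) (kf xf20 yf22 zf45) (kf xf20 yf24 zf46) (kf xf20 yf22 zf44) (kf xf20 yf22 zf30) (kf xf19 yf5 zf33) (kf xf20 yf22 zf42) (kf xf20 yf11 zf46) (kf xf19 yf5 zf39) (kf xf20 yf25 zf4) (kf xf19 yf5 zf38) (kf xf20 yf25 zf1) (kf xf20 yf25 zf6) (kf xf19 yf5 zf40) (kf xf19 yf5 zf44) (kf xf20 yf23 zf21) (kf xf20 yf23 zf22) (kf xf19 yf5 zf47) (kf xf20 yf21 zf5) (kf xf20 yf25 zf10) (kf xf20 yf22 zf47) (kf xf19 yf6 zf1) (kf xf20 yf21 zf6)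 (kf xf19 yf6 zf3) (kf xf20 yf20 zf36)) (@D3.rec (fun _ => Pt) (kf xf20 yf25 zf13) (kf xf20 yf25 zf20) (kf xf19 yf6 zf2) (kf xf20 yf25 zf15) (kf xf20 yf25 zf23) (kf xf19 yf6 zf4) (kf xf20 yf9 zf4) (kf xf19 yf6 zf8) (kf xf20 yf20 zf35) (kf xf20 yf25 zf26) (kf xf19 yf6 zf9) (kf xf20 yf23 zf15) (kf xf19 yf6 zf15) (kf xf20 yf9 zf31) (kf xf20 yf25 zf28) (kf xf19 yf6 zf20) (kf xf20 yf21 zf9) (kf xf20 yf21 zf30) (kf xf20 yf22 zf50) (kf xf20 yf25 zf30) (kf xf20 yf22 zf49) (kf xf19 yf10 zf1) (kf xf19 yf6 zf25) (kf xf20 yf20 zf50) (kf xf20 yf22 zf48) (kf xf19 yf9 zf19) (kf xf20 yf11 zf31) (kf xf19 yf6 zf33) (kf xf20 yf21 zf1) (kf xf19 yf6 zf36) (kf xf20 yf21 zf0) (kf xf20 yf20 zf18) (kf xf20 yf25 zf41) (kf xf20 yf25 zf47) (kf xf19 yf6 zf34) (kf xf20 yf25 zf48) (kf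 xf19 yf6 zf37) (kf xf20 yf12 zf40) (kf xf20 yf11 zf18) (kf xf20 yf12 zf41) (kf xf20 yf11 zf33) (kf xf20 yf20 zf49) (kf xf19 yf6 zf45) (kf xf20 yf12 zf44) (kf xf20 yf8 zf27) (kf xf19 yf7 zf14) (kf xf19 yf7 zf13) (kf xf20 yf15 zf42) (kf xf20 yf26 zf2) (kf xf19 yf7 zf4) (kf xf20 yf9 zf47)) (@D3.rec (fun _ => Pt) (kf xf20 yf26 zf5) (kf xf20 yf16 zf25) (kf xf20 yf26 zf9) (kf xf19 yf7 zf9) (kf xf20 yf16 zf26) (kf xf20 yf26 zf11) (kf xf19 yf7 zf11) (kf xf19 yf7 zf18) (kf xf20 yf26 zf14) (kf xf19 yf7 zf20) (kf xf20 yf26 zf18) (kf xf19 yf7 zf17) (kf xf20 yf26 zf12) (kf xf20 yf26 zf21) (kf xf19 yf7 zf19) (kf xf20 yf26 zf15) (kf xf20 yf26 zf23) (kf xf19 yf7 zf21) (kf xf19 yf7 zf26) (kf xf20 yf26 zf25) (kf xf19 yf7 zf24) (kf xf20 yf26 zf26) (kf xf19 yf7 zf27) (kf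 xf20 yf8 zf1) (kf xf19 yf10 zf47) (kf xf20 yf10 zf20) (kf xf20 yf7 zf43) (kf xf20 yf17 zf8) (kf xf20 yf23 zf23) (kf xf20 yf26 zf32) (kf xf19 yf7 zf40) (kf xf20 yf13 zf39) (kf xf20 yf16 zf12) (kf xf20 yf8 zf21) (kf xf20 yf11 zf15) (kf xf20 yf8 zf48) (kf xf20 yf12 zf8) (kf xf20 yf12 zf9) (kf xf20 yf26 zf39) (kf xf19 yf7 zf49) (kf xf20 yf13 zf2) (kf xf20 yf13 zf47) (kf xf19 yf8 zf4) (kf xf20 yf23 zf19) (kf xf20 yf7 zf42) (kf xf20 yf7 zf48) (kf xf20 yf17 zf16) (kf xf20 yf14 zf0) (kf xf20 yf13 zf41) (kf xf20 yf10 zf2) (kf xf20 yf12 zf45)) (@D3.rec (fun _ => Pt) (kf xf19 yf8 zf14) (kf xf20 yf26 zf45) (kf xf19 yf8 zf15) (kf xf20 yf10 zf12) (kf xf20 yf20 zf44) (kf xf20 yf22 zf46) (kf xf20 yf17 zf7) (kf xf20 yf17 zf15) (kf xf19 yf8 zf24) (kf xf20 yf17 zf14) (kf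 xf19 yf8 zf30) (kf xf19 yf9 zf21) (kf xf20 yf26 zf48) (kf xf20 yf18 zf8) (kf xf19 yf8 zf38) (kf xf20 yf18 zf26) (kf xf20 yf26 zf50) (kf xf19 yf9 zf2) (kf xf20 yf14 zf17) (kf xf19 yf8 zf43) (kf xf19 yf10 zf34) (kf xf19 yf10 zf35) (kf xf19 yf8 zf46) (kf xf20 yf10 zf1) (kf xf21 yf0 zf7) (kf xf19 yf8 zf49) (kf xf20 yf18 zf13) (kf xf21 yf0 zf9) (kf xf19 yf9 zf1) (kf xf20 yf18 zf32) (kf xf21 yf0 zf2) (kf xf19 yf9 zf6) (kf xf20 yf10 zf4) (kf xf21 yf0 zf13) (kf xf19 yf9 zf9) (kf xf20 yf10 zf6) (kf xf19 yf9 zf12) (kf xf20 yf18 zf23) (kf xf20 yf18 zf24) (kf xf20 yf18 zf34) (kf xf20 yf23 zf26) (kf xf20 yf19 zf7) (kf xf20 yf25 zf38) (kf xf19 yf9 zf22) (kf xf20 yf26 zf49) (kf xf20 yf21 zf26) (kf xf20 yf12 zf30) (kf xf20 yf23 zf28) (kf xf20 yf12 zf12) (kf xf20 yf11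 zf21) (kf xf20 yf20 zf0)) (@D3.rec (fun _ => Pt) (kf xf20 yf23 zf10) (kf xf20 yf24 zf31) (kf xf20 yf23 zf12) (kf xf20 yf24 zf33) (kf xf20 yf22 zf4) (kf xf20 yf13 zf0) (kf xf20 yf24 zf35) (kf xf20 yf22 zf6) (kf xf20 yf24 zf37) (kf xf20 yf22 zf5) (kf xf20 yf22 zf3) (kf xf19 yf9 zf45) (kf xf20 yf18 zf40) (kf xf21 yf0 zf31) (kf xf19 yf9 zf48) (kf xf20 yf18 zf9) (kf xf20 yf18 zf10) (kf xf20 yf24 zf18) (kf xf20 yf24 zf21) (kf xf20 yf25 zf36) (kf xf20 yf19 zf28) (kf xf20 yf17 zf19) (kf xf19 yf10 zf6) (kf xf20 yf10 zf14) (kf xf21 yf0 zf38) (kf xf19 yf10 zf9) (kf xf20 yf10 zf16) (kf xf19 yf10 zf22) (kf xf20 yf10 zf44) (kf xf21 yf0 zf46) (kf xf20 yf19 zf24) (kf xf21 yf0 zf43) (kf xf19 yf10 zf12) (kf xf19 yf10 zf17) (kf xf20 yf19 zf11) (kf xf19 yf10 zf18) (kf xf20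 yf19 zf13) (kf xf20 yf19 zf14) (kf xf21 yf0 zf50) (kf xf20 yf19 zf39) (kf xf20 yf24 zf20) (kf xf20 yf20 zf41) (kf xf21 yf0 zf42) (kf xf20 yf19 zf16) (kf xf20 yf20 zf43) (kf xf19 yf10 zf30) (kf xf20 yf22 zf9) (kf xf20 yf22 zf10) (kf xf19 yf10 zf48) (kf xf20 yf23 zf40) (kf xf20 yf23 zf41)) (@D3.rec (fun _ => Pt) (kf xf21 yf0 zf5) (kf xf21 yf0 zf6) (kf xf20 yf18 zf44) (kf xf19 yf10 zf38) (kf xf19 yf11 zf13) (kf xf19 yf11 zf14) (kf xf21 yf1 zf16) (kf xf19 yf10 zf41) (kf xf20 yf23 zf14) (kf xf19 yf10 zf44) (kf xf20 yf22 zf7) (kf xf20 yf26 zf28) (kf xf19 yf10 zf50) (kf xf20 yf22 zf11) (kf xf20 yf23 zf13) (kf xf20 yf10 zf22) (kf xf19 yf11 zf19) (kf xf19 yf11 zf8) (kf xf20 yf22 zf16) (kf xf21 yf1 zf22) (kf xf19 yf11 zf6) (kf xf20 yf22 zf19) (kf xf21 yf1 zf21)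 (kf xf19 yf11 zf15) (kf xf20 yf24 zf19) (kf xf21 yf1 zf14) (kf xf21 yf1 zf15) (kf xf20 yf22 zf37) (kf xf21 yf1 zf20) (kf xf19 yf11 zf20) (kf xf19 yf11 zf27) (kf xf19 yf11 zf41) (kf xf21 yf1 zf28) (kf xf19 yf11 zf29) (kf xf21 yf1 zf30) (kf xf19 yf11 zf31) (kf xf21 yf1 zf31) (kf xf19 yf11 zf34) (kf xf19 yf11 zf49) (kf xf19 yf11 zf50) (kf xf19 yf12 zf1) (kf xf19 yf12 zf2) (kf xf20 yf4 zf44) (kf xf20 yf4 zf26) (kf xf19 yf11 zf42) (kf xf21 yf1 zf29) (kf xf19 yf19 zf17) (kf xf20 yf0 zf45) (kf xf20 yf4 zf45) (kf xf21 yf1 zf32) (kf xf21 yf1 zf33)) (@D3.rec (fun _ => Pt) (kf xf21 yf1 zf34) (kf xf20 yf4 zf23) (kf xf21 yf1 zf35) (kf xf19 yf12 zf4) (kf xf19 yf14 zf31) (kf xf21 yf1 zf43) (kf xf19 yf19 zf6) (kf xf21 yf1 zf48) (kf xf21 yf1 zf50) (kf xf19 yf12 zf7) (kf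 xf19 yf19 zf1) (kf xf21 yf2 zf3) (kf xf19 yf12 zf10) (kf xf21 yf2 zf6) (kf xf21 yf2 zf4) (kf xf21 yf2 zf9) (kf xf19 yf12 zf11) (kf xf19 yf23 zf25) (kf xf19 yf12 zf15) (kf xf19 yf14 zf48) (kf xf21 yf2 zf11) (kf xf20 yf4 zf33) (kf xf19 yf23 zf40) (kf xf21 yf2 zf17) (kf xf20 yf1 zf16) (kf xf21 yf2 zf20) (kf xf19 yf12 zf19) (kf xf20 yf3 zf44) (kf xf19 yf19 zf31) (kf xf21 yf2 zf24) (kf xf19 yf12 zf24) (kf xf19 yf15 zf13) (kf xf21 yf2 zf25) (kf xf19 yf14 zf35) (kf xf21 yf2 zf30) (kf xf20 yf1 zf31) (kf xf21 yf2 zf34) (kf xf19 yf12 zf27) (kf xf20 yf1 zf34) (kf xf21 yf2 zf36) (kf xf19 yf12 zf29) (kf xf19 yf12 zf33) (kf xf19 yf15 zf34) (kf xf19 yf15 zf35) (kf xf20 yf0 zf25) (kf xf19 yf12 zf36) (kf xf19 yf15 zf37) (kf xf19 yf15 zf38) (kf xf20 yf4 zf35) (kf xf19 yf12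 zf42) (kf xf21 yf2 zf46)) (@D3.rec (fun _ => Pt) (kf xf19 yf12 zf41) (kf xf21 yf2 zf43) (kf xf21 yf2 zf49) (kf xf19 yf12 zf43) (kf xf20 yf3 zf6) (kf xf19 yf19 zf33) (kf xf21 yf3 zf3) (kf xf19 yf12 zf47) (kf xf19 yf12 zf50) (kf xf19 yf16 zf9) (kf xf19 yf16 zf10) (kf xf19 yf14 zf39) (kf xf19 yf23 zf29) (kf xf20 yf1 zf4) (kf xf19 yf23 zf24) (kf xf20 yf1 zf6) (kf xf19 yf23 zf23) (kf xf19 yf13 zf8) (kf xf21 yf3 zf13) (kf xf19 yf13 zf10) (kf xf21 yf3 zf17) (kf xf19 yf13 zf7) (kf xf21 yf3 zf11) (kf xf21 yf3 zf20) (kf xf19 yf13 zf9) (kf xf21 yf3 zf14) (kf xf21 yf3 zf23) (kf xf19 yf13 zf11) (kf xf19 yf16 zf2) (kf xf19 yf13 zf16) (kf xf21 yf3 zf27) (kf xf20 yf3 zf13) (kf xf19 yf13 zf14) (kf xf21 yf3 zf29) (kf xf19 yf13 zf17) (kf xf19 yf16 zf42) (kf xf19 yf16 zf38)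 (kf xf19 yf16 zf39) (kf xf19 yf16 zf40) (kf xf19 yf24 zf3) (kf xf21 yf2 zf0) (kf xf20 yf0 zf13) (kf xf19 yf23 zf33) (kf xf19 yf16 zf43) (kf xf19 yf14 zf34) (kf xf19 yf22 zf7) (kf xf19 yf22 zf12) (kf xf20 yf3 zf50) (kf xf19 yf13 zf39) (kf xf19 yf18 zf50) (kf xf21 yf3 zf37)) (@D3.rec (fun _ => Pt) (kf xf19 yf22 zf4) (kf xf20 yf5 zf23) (kf xf20 yf4 zf49) (kf xf19 yf21 zf37) (kf xf20 yf5 zf32) (kf xf19 yf22 zf5) (kf xf20 yf5 zf35) (kf xf19 yf13 zf49) (kf xf19 yf16 zf37) (kf xf19 yf14 zf1) (kf xf19 yf24 zf16) (kf xf21 yf3 zf47) (kf xf20 yf5 zf3) (kf xf19 yf23 zf11) (kf xf20 yf6 zf23) (kf xf19 yf23 zf12) (kf xf20 yf6 zf26) (kf xf19 yf14 zf9) (kf xf19 yf24 zf50) (kf xf19 yf14 zf12) (kf xf20 yf4 zf25) (kf xf21 yf4 zf4) (kf xf20 yf7 zf15) (kf xf19 yf21 zf12) (kf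 xf19 yf21 zf48) (kf xf19 yf21 zf15) (kf xf19 yf21 zf50) (kf xf19 yf26 zf50) (kf xf20 yf2 zf4) (kf xf21 yf4 zf12) (kf xf19 yf14 zf23) (kf xf19 yf26 zf31) (kf xf21 yf4 zf15) (kf xf19 yf14 zf26) (kf xf21 yf4 zf18) (kf xf21 yf4 zf16) (kf xf21 yf4 zf21) (kf xf19 yf14 zf27) (kf xf19 yf14 zf37) (kf xf19 yf24 zf30) (kf xf21 yf4 zf25) (kf xf19 yf14 zf32) (kf xf21 yf1 zf44) (kf xf21 yf4 zf26) (kf xf20 yf6 zf28) (kf xf21 yf3 zf21) (kf xf21 yf2 zf28) (kf xf21 yf4 zf34) (kf xf19 yf14 zf36) (kf xf21 yf4 zf22) (kf xf21 yf3 zf6)) (@D3.rec (fun _ => Pt) (kf xf21 yf4 zf39) (kf xf19 yf14 zf40) (kf xf19 yf14 zf43) (kf xf21 yf4 zf43) (kf xf19 yf14 zf42) (kf xf21 yf4 zf40) (kf xf21 yf4 zf45) (kf xf19 yf14 zf44) (kf xf19 yf23 zf0) (kf xf19 yf14 zf49) (kf xf21 yf2 zf12) (kf xf21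 yf2 zf13) (kf xf19 yf15 zf10) (kf xf21 yf5 zf1) (kf xf19 yf15 zf2) (kf xf20 yf4 zf34) (kf xf21 yf5 zf2) (kf xf19 yf25 zf29) (kf xf20 yf3 zf38) (kf xf19 yf26 zf30) (kf xf19 yf26 zf24) (kf xf20 yf5 zf49) (kf xf21 yf5 zf11) (kf xf19 yf15 zf8) (kf xf21 yf4 zf50) (kf xf21 yf5 zf14) (kf xf19 yf15 zf11) (kf xf19 yf15 zf14) (kf xf21 yf2 zf26) (kf xf21 yf2 zf27) (kf xf19 yf24 zf20) (kf xf20 yf3 zf26) (kf xf19 yf26 zf7) (kf xf20 yf3 zf40) (kf xf19 yf15 zf22) (kf xf19 yf25 zf14) (kf xf19 yf25 zf37) (kf xf21 yf5 zf22) (kf xf21 yf5 zf28) (kf xf21 yf5 zf29) (kf xf19 yf15 zf23) (kf xf19 yf15 zf26) (kf xf21 yf5 zf30) (kf xf19 yf15 zf27) (kf xf19 yf23 zf30) (kf xf19 yf22 zf8) (kf xf20 yf2 zf33) (kf xf19 yf22 zf13) (kf xf21 yf2 zf37) (kf xf21 yf2 zf38) (kf xf21 yf2 zf39))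 (@D3.rec (fun _ => Pt) (kf xf21 yf2 zf41) (kf xf21 yf2 zf42) (kf xf19 yf16 zf3) (kf xf19 yf21 zf4) (kf xf19 yf16 zf5) (kf xf21 yf5 zf42) (kf xf19 yf15 zf41) (kf xf19 yf15 zf44) (kf xf20 yf4 zf36) (kf xf20 yf4 zf37) (kf xf19 yf24 zf26) (kf xf19 yf16 zf17) (kf xf20 yf5 zf48) (kf xf21 yf5 zf49) (kf xf19 yf15 zf48) (kf xf21 yf5 zf50) (kf xf19 yf16 zf0) (kf xf21 yf3 zf24) (kf xf21 yf5 zf37) (kf xf19 yf21 zf3) (kf xf21 yf5 zf39) (kf xf21 yf6 zf4) (kf xf19 yf16 zf6) (kf xf21 yf3 zf4) (kf xf21 yf3 zf5) (kf xf19 yf24 zf38) (kf xf19 yf24 zf39) (kf xf20 yf1 zf1) (kf xf19 yf25 zf15) (kf xf19 yf25 zf31) (kf xf20 yf5 zf46) (kf xf21 yf5 zf47) (kf xf19 yf16 zf19) (kf xf21 yf6 zf12) (kf xf19 yf16 zf20) (kf xf19 yf25 zf48) (kf xf19 yf25 zf46) (kf xf21 yf6 zf14) (kf xf19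 yf16 zf25) (kf xf20 yf0 zf22) (kf xf20 yf3 zf37) (kf xf20 yf3 zf39) (kf xf19 yf16 zf31) (kf xf20 yf0 zf3) (kf xf20 yf3 zf43) (kf xf20 yf4 zf50) (kf xf21 yf3 zf46) (kf xf21 yf3 zf31) (kf xf21 yf3 zf30) (kf xf21 yf3 zf32) (kf xf21 yf3 zf33)) (@D3.rec (fun _ => Pt) (kf xf20 yf6 zf5) (kf xf19 yf17 zf32) (kf xf20 yf4 zf40) (kf xf19 yf17 zf21) (kf xf19 yf17 zf16) (kf xf19 yf19 zf24) (kf xf19 yf17 zf0) (kf xf19 yf18 zf22) (kf xf21 yf6 zf26) (kf xf19 yf17 zf50) (kf xf19 yf17 zf36) (kf xf19 yf17 zf31) (kf xf19 yf20 zf11) (kf xf19 yf17 zf7) (kf xf19 yf18 zf41) (kf xf19 yf20 zf16) (kf xf21 yf6 zf33) (kf xf19 yf17 zf10) (kf xf21 yf6 zf36) (kf xf21 yf6 zf34) (kf xf21 yf6 zf39) (kf xf19 yf17 zf11) (kf xf19 yf17 zf15) (kf xf19 yf19 zf15) (kf xf21 yf6 zf40) (kf xf21 yf6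 zf24) (kf xf19 yf18 zf25) (kf xf19 yf18 zf0) (kf xf19 yf22 zf6) (kf xf21 yf6 zf48) (kf xf19 yf17 zf20) (kf xf21 yf6 zf23) (kf xf21 yf6 zf50) (kf xf19 yf17 zf22) (kf xf19 yf17 zf44) (kf xf20 yf0 zf42) (kf xf19 yf17 zf28) (kf xf19 yf19 zf44) (kf xf19 yf19 zf45) (kf xf20 yf4 zf31) (kf xf21 yf6 zf22) (kf xf20 yf4 zf48) (kf xf19 yf21 zf17) (kf xf19 yf23 zf8) (kf xf21 yf7 zf6) (kf xf19 yf17 zf37) (kf xf19 yf18 zf1) (kf xf20 yf4 zf41) (kf xf19 yf21 zf1) (kf xf19 yf21 zf2) (kf xf21 yf7 zf0)) (@D3.rec (fun _ => Pt) (kf xf20 yf4 zf47) (kf xf19 yf18 zf2) (kf xf19 yf18 zf12) (kf xf19 yf21 zf16) (kf xf19 yf22 zf45) (kf xf21 yf6 zf28) (kf xf21 yf6 zf44) (kf xf21 yf7 zf9) (kf xf19 yf25 zf40) (kf xf21 yf7 zf17) (kf xf19 yf18 zf5) (kf xf21 yf7 zf20) (kf xf21 yf7 zf18)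 (kf xf21 yf7 zf23) (kf xf19 yf18 zf6) (kf xf19 yf22 zf37) (kf xf19 yf18 zf10) (kf xf20 yf5 zf18) (kf xf21 yf7 zf25) (kf xf19 yf18 zf30) (kf xf21 yf7 zf10) (kf xf19 yf18 zf26) (kf xf19 yf20 zf44) (kf xf19 yf25 zf49) (kf xf21 yf7 zf34) (kf xf19 yf18 zf16) (kf xf19 yf18 zf18) (kf xf21 yf7 zf35) (kf xf21 yf7 zf37) (kf xf19 yf18 zf19) (kf xf19 yf18 zf23) (kf xf21 yf6 zf27) (kf xf19 yf19 zf22) (kf xf19 yf19 zf20) (kf xf21 yf6 zf43) (kf xf21 yf7 zf29) (kf xf19 yf19 zf21) (kf xf19 yf18 zf29) (kf xf21 yf7 zf28) (kf xf21 yf7 zf45) (kf xf19 yf19 zf37) (kf xf19 yf18 zf31) (kf xf19 yf18 zf37) (kf xf21 yf7 zf48) (kf xf19 yf20 zf7) (kf xf19 yf18 zf35) (kf xf21 yf7 zf50) (kf xf19 yf18 zf38) (kf xf21 yf6 zf30) (kf xf19 yf20 zf9) (kf xf19 yf20 zf5)) (@D3.rec (fun _ => Pt)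 (kf xf19 yf20 zf1) (kf xf19 yf20 zf3) (kf xf19 yf22 zf50) (kf xf19 yf18 zf48) (kf xf21 yf3 zf34) (kf xf21 yf8 zf5) (kf xf19 yf19 zf0) (kf xf21 yf3 zf38) (kf xf21 yf8 zf8) (kf xf21 yf2 zf1) (kf xf21 yf8 zf14) (kf xf19 yf19 zf2) (kf xf21 yf8 zf16) (kf xf19 yf19 zf3) (kf xf19 yf25 zf5) (kf xf20 yf1 zf8) (kf xf21 yf1 zf46) (kf xf21 yf8 zf22) (kf xf19 yf19 zf7) (kf xf19 yf19 zf10) (kf xf21 yf8 zf27) (kf xf19 yf19 zf9) (kf xf21 yf8 zf24) (kf xf21 yf8 zf30) (kf xf19 yf19 zf11) (kf xf19 yf25 zf6) (kf xf19 yf25 zf4) (kf xf19 yf19 zf16) (kf xf21 yf6 zf41) (kf xf21 yf6 zf42) (kf xf21 yf1 zf37) (kf xf19 yf22 zf29) (kf xf21 yf7 zf41) (kf xf19 yf23 zf4) (kf xf21 yf7 zf40) (kf xf21 yf7 zf42) (kf xf21 yf7 zf39) (kf xf19 yf19 zf25) (kf xf21 yf6 zf25) (kf xf19 yf21 zf23)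 (kf xf21 yf8 zf46) (kf xf19 yf19 zf27) (kf xf20 yf3 zf47) (kf xf21 yf8 zf48) (kf xf19 yf19 zf29) (kf xf21 yf2 zf22) (kf xf21 yf9 zf1) (kf xf19 yf19 zf32) (kf xf21 yf3 zf0) (kf xf21 yf9 zf4) (kf xf21 yf9 zf5)) (@D3.rec (fun _ => Pt) (kf xf19 yf19 zf34) (kf xf19 yf19 zf38) (kf xf21 yf7 zf44) (kf xf21 yf9 zf7) (kf xf19 yf19 zf39) (kf xf20 yf0 zf33) (kf xf20 yf0 zf44) (kf xf21 yf7 zf2) (kf xf21 yf7 zf3) (kf xf19 yf25 zf25) (kf xf19 yf24 zf22) (kf xf19 yf19 zf49) (kf xf20 yf4 zf32) (kf xf19 yf20 zf2) (kf xf21 yf8 zf3) (kf xf19 yf20 zf4) (kf xf21 yf7 zf49) (kf xf21 yf9 zf13) (kf xf21 yf8 zf2) (kf xf21 yf9 zf15) (kf xf21 yf8 zf1) (kf xf19 yf20 zf8) (kf xf21 yf7 zf47) (kf xf21 yf8 zf0) (kf xf21 yf6 zf29) (kf xf20 yf4 zf1) (kf xf20 yf4 zf4) (kf xf19 yf20 zf18)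 (kf xf21 yf9 zf26) (kf xf19 yf20 zf15) (kf xf21 yf6 zf31) (kf xf21 yf9 zf29) (kf xf19 yf20 zf17) (kf xf21 yf9 zf23) (kf xf21 yf9 zf31) (kf xf19 yf20 zf19) (kf xf19 yf20 zf24) (kf xf21 yf9 zf33) (kf xf19 yf20 zf22) (kf xf21 yf9 zf34) (kf xf19 yf20 zf25) (kf xf19 yf20 zf32) (kf xf21 yf9 zf38) (kf xf19 yf20 zf28) (kf xf19 yf20 zf35) (kf xf21 yf9 zf41) (kf xf21 yf9 zf42) (kf xf19 yf20 zf30) (kf xf21 yf9 zf35) (kf xf21 yf9 zf46) (kf xf21 yf9 zf47)) (@D3.rec (fun _ => Pt) (kf xf19 yf20 zf33) (kf xf19 yf24 zf31) (kf xf21 yf9 zf50) (kf xf21 yf10 zf0) (kf xf19 yf20 zf36) (kf xf19 yf20 zf37) (kf xf19 yf25 zf50) (kf xf20 yf5 zf6) (kf xf20 yf4 zf27) (kf xf21 yf10 zf6) (kf xf21 yf7 zf30) (kf xf19 yf20 zf43) (kf xf21 yf5 zf38) (kf xf19 yf20 zf46) (kf xf20 yf5 zf9) (kf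 xf20 yf5 zf7) (kf xf20 yf4 zf46) (kf xf21 yf7 zf8) (kf xf21 yf6 zf2) (kf xf20 yf6 zf21) (kf xf19 yf23 zf36) (kf xf20 yf0 zf10) (kf xf19 yf21 zf9) (kf xf20 yf0 zf29) (kf xf21 yf4 zf7) (kf xf19 yf26 zf15) (kf xf19 yf26 zf14) (kf xf21 yf7 zf11) (kf xf19 yf23 zf22) (kf xf19 yf21 zf22) (kf xf19 yf23 zf38) (kf xf21 yf10 zf14) (kf xf21 yf8 zf43) (kf xf21 yf10 zf18) (kf xf19 yf21 zf24) (kf xf19 yf21 zf28) (kf xf19 yf24 zf18) (kf xf19 yf24 zf19) (kf xf19 yf21 zf31) (kf xf19 yf24 zf24) (kf xf21 yf10 zf21) (kf xf19 yf21 zf34) (kf xf19 yf24 zf36) (kf xf19 yf25 zf1) (kf xf21 yf3 zf42) (kf xf19 yf21 zf40) (kf xf19 yf25 zf27) (kf xf19 yf25 zf28) (kf xf19 yf26 zf4) (kf xf19 yf22 zf9) (kf xf21 yf4 zf8)) (@D3.rec (fun _ => Pt) (kf xf21 yf4 zf9) (kf xf20 yf0 zf2) (kf xf20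 yf0 zf4) (kf xf20 yf0 zf5) (kf xf21 yf3 zf40) (kf xf21 yf6 zf45) (kf xf21 yf3 zf35) (kf xf21 yf5 zf32) (kf xf20 yf5 zf13) (kf xf20 yf6 zf15) (kf xf20 yf6 zf16) (kf xf21 yf5 zf33) (kf xf19 yf22 zf16) (kf xf20 yf5 zf26) (kf xf21 yf10 zf33) (kf xf19 yf22 zf19) (kf xf21 yf10 zf39) (kf xf19 yf22 zf18) (kf xf21 yf10 zf36) (kf xf21 yf10 zf42) (kf xf19 yf22 zf20) (kf xf19 yf23 zf27) (kf xf19 yf22 zf25) (kf xf20 yf5 zf37) (kf xf20 yf5 zf38) (kf xf19 yf22 zf28) (kf xf20 yf5 zf15) (kf xf21 yf10 zf47) (kf xf21 yf8 zf36) (kf xf21 yf11 zf2) (kf xf19 yf22 zf30) (kf xf19 yf22 zf33) (kf xf20 yf5 zf29) (kf xf20 yf1 zf25) (kf xf20 yf5 zf39) (kf xf20 yf1 zf43) (kf xf20 yf1 zf38) (kf xf21 yf7 zf24) (kf xf20 yf1 zf20) (kf xf19 yf22 zf43) (kf xf20 yf6 zf12) (kf xf21 yf11 zf9)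 (kf xf19 yf22 zf46) (kf xf21 yf7 zf12) (kf xf20 yf7 zf2) (kf xf19 yf22 zf49) (kf xf20 yf2 zf1) (kf xf21 yf11 zf14) (kf xf21 yf8 zf4) (kf xf21 yf4 zf46) (kf xf19 yf23 zf3)) (@D3.rec (fun _ => Pt) (kf xf20 yf2 zf3) (kf xf20 yf0 zf47) (kf xf21 yf8 zf38) (kf xf21 yf11 zf24) (kf xf21 yf10 zf43) (kf xf19 yf23 zf5) (kf xf21 yf7 zf5) (kf xf20 yf5 zf41) (kf xf20 yf2 zf26) (kf xf21 yf3 zf50) (kf xf19 yf23 zf17) (kf xf20 yf6 zf34) (kf xf19 yf23 zf18) (kf xf20 yf6 zf36) (kf xf20 yf6 zf37) (kf xf21 yf11 zf27) (kf xf20 yf6 zf43) (kf xf20 yf1 zf7) (kf xf20 yf1 zf5) (kf xf21 yf3 zf10) (kf xf21 yf3 zf9) (kf xf21 yf3 zf7) (kf xf21 yf2 zf10) (kf xf21 yf5 zf31) (kf xf20 yf6 zf30) (kf xf19 yf23 zf34) (kf xf21 yf3 zf28) (kf xf21 yf11 zf38) (kf xf20 yf6 zf20) (kf xf21 yf10 zf8)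 (kf xf19 yf23 zf39) (kf xf21 yf10 zf15) (kf xf21 yf10 zf16) (kf xf21 yf2 zf15) (kf xf21 yf11 zf50) (kf xf19 yf23 zf41) (kf xf21 yf12 zf1) (kf xf19 yf23 zf42) (kf xf20 yf0 zf11) (kf xf20 yf6 zf39) (kf xf19 yf23 zf47) (kf xf21 yf12 zf6) (kf xf19 yf23 zf46) (kf xf21 yf12 zf3) (kf xf21 yf12 zf9) (kf xf21 yf12 zf10) (kf xf19 yf23 zf48) (kf xf20 yf0 zf12) (kf xf19 yf23 zf50) (kf xf19 yf24 zf5) (kf xf21 yf2 zf45)) (@D3.rec (fun _ => Pt) (kf xf20 yf5 zf50) (kf xf21 yf12 zf13) (kf xf20 yf2 zf6) (kf xf21 yf12 zf19) (kf xf19 yf24 zf7) (kf xf19 yf24 zf11) (kf xf21 yf12 zf23) (kf xf21 yf12 zf24) (kf xf19 yf24 zf9) (kf xf21 yf12 zf20) (kf xf21 yf12 zf27) (kf xf19 yf24 zf12) (kf xf19 yf26 zf2) (kf xf20 yf2 zf9) (kf xf21 yf3 zf48) (kf xf21 yf3 zf49) (kf xf21 yf10 zf19)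 (kf xf21 yf10 zf20) (kf xf20 yf3 zf31) (kf xf21 yf5 zf18) (kf xf19 yf24 zf32) (kf xf21 yf9 zf11) (kf xf19 yf24 zf25) (kf xf21 yf10 zf22) (kf xf21 yf10 zf23) (kf xf21 yf5 zf46) (kf xf20 yf2 zf20) (kf xf19 yf24 zf29) (kf xf21 yf4 zf23) (kf xf21 yf9 zf48) (kf xf21 yf12 zf36) (kf xf21 yf12 zf48) (kf xf21 yf8 zf31) (kf xf19 yf24 zf33) (kf xf21 yf10 zf24) (kf xf20 yf3 zf8) (kf xf20 yf2 zf50) (kf xf21 yf6 zf7) (kf xf19 yf24 zf42) (kf xf19 yf24 zf43) (kf xf21 yf13 zf3) (kf xf20 yf6 zf41) (kf xf20 yf1 zf2) (kf xf20 yf6 zf44) (kf xf20 yf5 zf4) (kf xf20 yf2 zf13) (kf xf21 yf4 zf3) (kf xf20 yf2 zf24) (kf xf20 yf2 zf21) (kf xf20 yf3 zf41) (kf xf20 yf3 zf23)) (@D3.rec (fun _ => Pt) (kf xf20 yf3 zf30) (kf xf20 yf3 zf28) (kf xf21 yf8 zf32) (kf xf21 yf8 zf15) (kf xf21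 yf8 zf23) (kf xf20 yf2 zf44) (kf xf20 yf2 zf48) (kf xf20 yf2 zf11) (kf xf19 yf25 zf17) (kf xf20 yf3 zf16) (kf xf19 yf25 zf34) (kf xf21 yf5 zf23) (kf xf21 yf6 zf9) (kf xf19 yf25 zf42) (kf xf21 yf13 zf9) (kf xf19 yf25 zf21) (kf xf21 yf13 zf23) (kf xf21 yf12 zf41) (kf xf19 yf25 zf19) (kf xf21 yf13 zf24) (kf xf19 yf25 zf22) (kf xf19 yf26 zf0) (kf xf21 yf9 zf10) (kf xf21 yf8 zf35) (kf xf21 yf10 zf25) (kf xf21 yf10 zf26) (kf xf20 yf5 zf45) (kf xf21 yf5 zf5) (kf xf19 yf25 zf32) (kf xf21 yf6 zf10) (kf xf20 yf3 zf17) (kf xf21 yf13 zf17) (kf xf19 yf25 zf38) (kf xf19 yf25 zf39) (kf xf21 yf5 zf24) (kf xf21 yf5 zf25) (kf xf21 yf13 zf34) (kf xf21 yf7 zf15) (kf xf21 yf13 zf40) (kf xf19 yf25 zf41) (kf xf21 yf13 zf18) (kf xf21 yf13 zf43) (kf xf21 yf13 zf44) (kf xf19 yf25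 zf43) (kf xf21 yf6 zf13) (kf xf20 yf2 zf19) (kf xf20 yf2 zf17) (kf xf21 yf7 zf31) (kf xf21 yf10 zf1) (kf xf21 yf10 zf3) (kf xf21 yf14 zf1)) (@D3.rec (fun _ => Pt) (kf xf21 yf12 zf28) (kf xf19 yf26 zf1) (kf xf21 yf3 zf2) (kf xf20 yf6 zf10) (kf xf20 yf6 zf4) (kf xf20 yf6 zf9) (kf xf20 yf6 zf7) (kf xf20 yf7 zf10) (kf xf19 yf26 zf11) (kf xf20 yf6 zf46) (kf xf20 yf6 zf47) (kf xf20 yf7 zf13) (kf xf21 yf10 zf13) (kf xf20 yf1 zf10) (kf xf21 yf14 zf15) (kf xf19 yf26 zf17) (kf xf20 yf7 zf18) (kf xf21 yf14 zf19) (kf xf19 yf26 zf19) (kf xf20 yf7 zf21) (kf xf21 yf14 zf22) (kf xf21 yf14 zf23) (kf xf19 yf26 zf21) (kf xf19 yf26 zf29) (kf xf21 yf5 zf8) (kf xf21 yf5 zf9) (kf xf21 yf14 zf28) (kf xf21 yf14 zf30) (kf xf19 yf26 zf26) (kf xf19 yf26 zf27) (kf xf20 yf2 zf30) (kf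 xf21 yf5 zf7) (kf xf21 yf4 zf13) (kf xf21 yf14 zf35) (kf xf19 yf26 zf32) (kf xf19 yf26 zf33) (kf xf21 yf10 zf2) (kf xf20 yf7 zf27) (kf xf21 yf14 zf38) (kf xf19 yf26 zf37) (kf xf21 yf14 zf39) (kf xf19 yf26 zf40) (kf xf20 yf2 zf32) (kf xf19 yf26 zf42) (kf xf20 yf2 zf29) (kf xf20 yf2 zf27) (kf xf20 yf5 zf5) (kf xf20 yf2 zf46) (kf xf20 yf3 zf24) (kf xf20 yf3 zf20) (kf xf20 yf3 zf18)) (@D3.rec (fun _ => Pt) (kf xf21 yf6 zf17) (kf xf21 yf10 zf28) (kf xf21 yf6 zf15) (kf xf21 yf10 zf29) (kf xf20 yf0 zf7) (kf xf21 yf14 zf49) (kf xf20 yf2 zf15) (kf xf21 yf12 zf0) (kf xf21 yf12 zf11) (kf xf21 yf2 zf40) (kf xf20 yf6 zf0) (kf xf20 yf1 zf9) (kf xf20 yf6 zf2) (kf xf20 yf7 zf14) (kf xf20 yf7 zf8) (kf xf20 yf3 zf11) (kf xf20 yf1 zf29) (kf xf21 yf8 zf28) (kf xf20 yf0 zf37)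 (kf xf20 yf4 zf43) (kf xf20 yf0 zf40) (kf xf20 yf2 zf41) (kf xf20 yf2 zf42) (kf xf20 yf4 zf28) (kf xf21 yf7 zf1) (kf xf21 yf9 zf8) (kf xf20 yf5 zf40) (kf xf21 yf11 zf21) (kf xf20 yf5 zf47) (kf xf21 yf6 zf8) (kf xf21 yf3 zf8) (kf xf21 yf11 zf34) (kf xf21 yf11 zf32) (kf xf21 yf11 zf33) (kf xf21 yf8 zf18) (kf xf21 yf15 zf2) (kf xf21 yf14 zf12) (kf xf21 yf15 zf16) (kf xf20 yf1 zf11) (kf xf20 yf1 zf15) (kf xf20 yf6 zf49) (kf xf20 yf6 zf50) (kf xf21 yf2 zf18) (kf xf21 yf15 zf21) (kf xf20 yf1 zf17) (kf xf20 yf1 zf21) (kf xf21 yf11 zf5) (kf xf21 yf15 zf22) (kf xf21 yf15 zf26) (kf xf20 yf1 zf22) (kf xf20 yf1 zf47)) (@D3.rec (fun _ => Pt) (kf xf20 yf1 zf26) (kf xf21 yf11 zf4) (kf xf21 yf15 zf29) (kf xf20 yf1 zf27) (kf xf21 yf15 zf4) (kf xf21 yf2 zf31) (kf xf21 yf15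 zf33) (kf xf21 yf15 zf27) (kf xf20 yf1 zf32) (kf xf21 yf15 zf34) (kf xf20 yf1 zf35) (kf xf20 yf1 zf39) (kf xf21 yf11 zf7) (kf xf21 yf10 zf46) (kf xf21 yf15 zf37) (kf xf20 yf1 zf40) (kf xf21 yf11 zf6) (kf xf20 yf1 zf44) (kf xf20 yf6 zf17) (kf xf20 yf7 zf24) (kf xf20 yf6 zf40) (kf xf20 yf6 zf18) (kf xf21 yf11 zf15) (kf xf21 yf11 zf16) (kf xf21 yf11 zf20) (kf xf21 yf4 zf10) (kf xf21 yf15 zf45) (kf xf20 yf2 zf5) (kf xf21 yf12 zf16) (kf xf21 yf15 zf47) (kf xf20 yf2 zf7) (kf xf20 yf6 zf1) (kf xf21 yf13 zf6) (kf xf20 yf6 zf3) (kf xf21 yf13 zf5) (kf xf20 yf6 zf6) (kf xf21 yf13 zf48) (kf xf20 yf6 zf8) (kf xf21 yf13 zf47) (kf xf21 yf13 zf37) (kf xf21 yf13 zf46) (kf xf21 yf12 zf42) (kf xf21 yf13 zf8) (kf xf21 yf12 zf31) (kf xf20 yf2 zf23) (kf xf21 yf13 zf7) (kf xf20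 yf2 zf28) (kf xf21 yf11 zf26) (kf xf21 yf14 zf41) (kf xf21 yf14 zf33) (kf xf21 yf14 zf40)) (@D3.rec (fun _ => Pt) (kf xf21 yf14 zf31) (kf xf20 yf2 zf37) (kf xf21 yf16 zf14) (kf xf21 yf12 zf25) (kf xf20 yf2 zf35) (kf xf21 yf16 zf15) (kf xf20 yf2 zf38) (kf xf21 yf15 zf7) (kf xf21 yf15 zf8) (kf xf21 yf8 zf45) (kf xf20 yf2 zf45) (kf xf21 yf13 zf0) (kf xf21 yf14 zf42) (kf xf20 yf3 zf0) (kf xf21 yf13 zf2) (kf xf20 yf3 zf3) (kf xf21 yf13 zf1) (kf xf21 yf11 zf46) (kf xf21 yf16 zf21) (kf xf21 yf16 zf27) (kf xf20 yf3 zf1) (kf xf21 yf2 zf21) (kf xf21 yf16 zf29) (kf xf20 yf3 zf4) (kf xf21 yf2 zf50) (kf xf21 yf12 zf50) (kf xf20 yf3 zf9) (kf xf21 yf14 zf48) (kf xf20 yf3 zf14) (kf xf21 yf3 zf26) (kf xf20 yf3 zf19) (kf xf21 yf13 zf12) (kf xf21 yf13 zf16) (kf xf21 yf13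 zf31) (kf xf21 yf14 zf44) (kf xf21 yf14 zf43) (kf xf20 yf6 zf19) (kf xf21 yf13 zf10) (kf xf20 yf5 zf42) (kf xf21 yf5 zf19) (kf xf21 yf5 zf20) (kf xf20 yf3 zf32) (kf xf21 yf13 zf13) (kf xf21 yf12 zf35) (kf xf21 yf13 zf11) (kf xf21 yf12 zf34) (kf xf21 yf16 zf42) (kf xf20 yf3 zf33) (kf xf20 yf3 zf35) (kf xf21 yf6 zf16) (kf xf21 yf5 zf6)) (@D3.rec (fun _ => Pt) (kf xf21 yf5 zf21) (kf xf21 yf16 zf44) (kf xf20 yf3 zf48) (kf xf21 yf3 zf36) (kf xf21 yf16 zf48) (kf xf20 yf4 zf0) (kf xf21 yf9 zf22) (kf xf21 yf17 zf0) (kf xf21 yf5 zf45) (kf xf20 yf4 zf2) (kf xf21 yf17 zf1) (kf xf20 yf4 zf5) (kf xf20 yf4 zf12) (kf xf21 yf17 zf5) (kf xf20 yf4 zf8) (kf xf20 yf4 zf15) (kf xf21 yf17 zf8) (kf xf21 yf15 zf19) (kf xf20 yf4 zf10) (kf xf21 yf17 zf2) (kf xf21 yf17 zf10) (kf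 xf20 yf4 zf13) (kf xf21 yf17 zf11) (kf xf20 yf4 zf16) (kf xf21 yf17 zf12) (kf xf20 yf4 zf19) (kf xf20 yf4 zf21) (kf xf21 yf1 zf40) (kf xf20 yf7 zf11) (kf xf21 yf4 zf5) (kf xf21 yf4 zf6) (kf xf21 yf10 zf4) (kf xf20 yf4 zf29) (kf xf21 yf9 zf12) (kf xf21 yf2 zf14) (kf xf21 yf5 zf3) (kf xf21 yf5 zf4) (kf xf21 yf5 zf43) (kf xf21 yf5 zf44) (kf xf20 yf4 zf38) (kf xf21 yf7 zf7) (kf xf21 yf15 zf6) (kf xf21 yf1 zf38) (kf xf21 yf7 zf4) (kf xf21 yf6 zf18) (kf xf20 yf5 zf1) (kf xf21 yf13 zf4) (kf xf21 yf10 zf9) (kf xf20 yf5 zf12) (kf xf20 yf5 zf44) (kf xf20 yf5 zf16))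
def f_f_21 : D2 → D3 → Pt := @D2.rec (fun _ => D3 → Pt) (@D3.rec (fun _ => Pt) (kf xf21 yf10 zf48) (kf xf21 yf10 zf49) (kf xf20 yf5 zf30) (kf xf21 yf7 zf26) (kf xf21 yf7 zf27) (kf xf20 yf7 zf0) (kf xf20 yf7 zf1) (kf xf20 yf5 zf24) (kf xf21 yf3 zf41) (kf xf20 yf5 zf27) (kf xf21 yf10 zf34) (kf xf21 yf10 zf35) (kf xf21 yf11 zf3) (kf xf20 yf5 zf33) (kf xf21 yf3 zf43) (kf xf21 yf3 zf44) (kf xf21 yf3 zf45) (kf xf21 yf10 zf44) (kf xf21 yf10 zf45) (kf xf21 yf11 zf25) (kf xf21 yf17 zf20) (kf xf21 yf13 zf29) (kf xf21 yf12 zf15) (kf xf21 yf15 zf1) (kf xf21 yf15 zf48) (kf xf21 yf14 zf7) (kf xf21 yf14 zf5) (kf xf21 yf6 zf6) (kf xf21 yf16 zf1) (kf xf21 yf14 zf8) (kf xf21 yf14 zf6) (kf xf20 yf6 zf13) (kf xf21 yf11 zf10) (kf xf21 yf11 zf11) (kf xf21 yf10 zf31) (kf xf21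 yf10 zf32) (kf xf21 yf11 zf41) (kf xf21 yf10 zf11) (kf xf20 yf6 zf24) (kf xf21 yf4 zf0) (kf xf21 yf4 zf1) (kf xf21 yf4 zf2) (kf xf20 yf6 zf42) (kf xf20 yf6 zf31) (kf xf21 yf4 zf29) (kf xf21 yf17 zf50) (kf xf20 yf6 zf29) (kf xf21 yf11 zf37) (kf xf21 yf17 zf49) (kf xf21 yf17 zf47) (kf xf20 yf6 zf38)) (@D3.rec (fun _ => Pt) (kf xf21 yf11 zf28) (kf xf21 yf11 zf29) (kf xf21 yf11 zf30) (kf xf21 yf11 zf31) (kf xf21 yf12 zf2) (kf xf21 yf15 zf39) (kf xf21 yf17 zf48) (kf xf21 yf14 zf10) (kf xf21 yf14 zf11) (kf xf21 yf15 zf17) (kf xf21 yf15 zf18) (kf xf21 yf17 zf25) (kf xf21 yf17 zf26) (kf xf21 yf11 zf13) (kf xf20 yf7 zf25) (kf xf20 yf7 zf26) (kf xf20 yf7 zf6) (kf xf21 yf15 zf3) (kf xf21 yf14 zf9) (kf xf21 yf14 zf45) (kf xf20 yf7 zf28) (kf xf20 yf7 zf22) (kf xf20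 yf7 zf19) (kf xf21 yf14 zf16) (kf xf21 yf18 zf20) (kf xf21 yf18 zf19) (kf xf21 yf15 zf38) (kf xf21 yf18 zf17) (kf xf20 yf7 zf32) (kf xf20 yf7 zf45) (kf xf20 yf7 zf34) (kf xf20 yf7 zf36) (kf xf20 yf7 zf49) (kf xf20 yf7 zf50) (kf xf20 yf8 zf0) (kf xf20 yf8 zf2) (kf xf21 yf18 zf22) (kf xf20 yf15 zf30) (kf xf20 yf26 zf42) (kf xf21 yf18 zf23) (kf xf20 yf26 zf27) (kf xf21 yf18 zf24) (kf xf21 yf18 zf25) (kf xf20 yf8 zf5) (kf xf20 yf10 zf42) (kf xf21 yf18 zf29) (kf xf20 yf15 zf16) (kf xf21 yf18 zf35) (kf xf20 yf8 zf7) (kf xf21 yf18 zf37) (kf xf20 yf8 zf8)) (@D3.rec (fun _ => Pt) (kf xf20 yf9 zf40) (kf xf20 yf15 zf9) (kf xf21 yf18 zf41) (kf xf20 yf8 zf11) (kf xf20 yf8 zf14) (kf xf21 yf18 zf46) (kf xf20 yf8 zf13) (kf xf21 yf18 zf43) (kf xf21 yf18 zf49) (kf xf20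 yf8 zf15) (kf xf20 yf19 zf22) (kf xf20 yf8 zf20) (kf xf20 yf11 zf10) (kf xf20 yf11 zf11) (kf xf20 yf26 zf34) (kf xf20 yf19 zf33) (kf xf21 yf19 zf6) (kf xf20 yf8 zf23) (kf xf20 yf23 zf42) (kf xf21 yf19 zf9) (kf xf20 yf8 zf25) (kf xf20 yf25 zf21) (kf xf20 yf15 zf45) (kf xf21 yf19 zf14) (kf xf20 yf8 zf29) (kf xf20 yf8 zf32) (kf xf20 yf11 zf28) (kf xf20 yf11 zf29) (kf xf20 yf10 zf46) (kf xf21 yf19 zf21) (kf xf20 yf8 zf34) (kf xf20 yf24 zf5) (kf xf21 yf19 zf24) (kf xf21 yf19 zf25) (kf xf20 yf8 zf36) (kf xf21 yf19 zf26) (kf xf20 yf8 zf39) (kf xf20 yf11 zf48) (kf xf20 yf11 zf49) (kf xf20 yf11 zf50) (kf xf20 yf23 zf9) (kf xf20 yf12 zf0) (kf xf20 yf12 zf1) (kf xf20 yf9 zf1) (kf xf21 yf19 zf33) (kf xf20 yf19 zf50) (kf xf20 yf8 zf50) (kf xf21 yf18 zf36) (kf xf21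 yf19 zf35) (kf xf20 yf9 zf2) (kf xf20 yf25 zf24)) (@D3.rec (fun _ => Pt) (kf xf20 yf15 zf48) (kf xf21 yf19 zf39) (kf xf20 yf22 zf2) (kf xf20 yf9 zf6) (kf xf20 yf12 zf23) (kf xf20 yf12 zf24) (kf xf20 yf10 zf50) (kf xf20 yf19 zf21) (kf xf20 yf23 zf30) (kf xf20 yf19 zf20) (kf xf20 yf19 zf19) (kf xf20 yf9 zf22) (kf xf21 yf19 zf47) (kf xf20 yf9 zf18) (kf xf20 yf9 zf25) (kf xf21 yf19 zf50) (kf xf21 yf20 zf0) (kf xf20 yf9 zf20) (kf xf21 yf19 zf44) (kf xf21 yf20 zf3) (kf xf20 yf9 zf23) (kf xf20 yf10 zf45) (kf xf21 yf20 zf5) (kf xf20 yf9 zf26) (kf xf20 yf12 zf17) (kf xf21 yf20 zf8) (kf xf20 yf25 zf29) (kf xf20 yf9 zf30) (kf xf20 yf19 zf26) (kf xf20 yf9 zf33) (kf xf20 yf12 zf48) (kf xf20 yf12 zf47) (kf xf20 yf12 zf49) (kf xf20 yf12 zf50) (kf xf20 yf15 zf4) (kf xf20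 yf18 zf6) (kf xf20 yf26 zf3) (kf xf20 yf9 zf50) (kf xf20 yf15 zf7) (kf xf21 yf20 zf15) (kf xf20 yf18 zf4) (kf xf21 yf0 zf8) (kf xf20 yf17 zf44) (kf xf21 yf0 zf14) (kf xf21 yf0 zf15) (kf xf21 yf0 zf16) (kf xf20 yf12 zf46) (kf xf20 yf10 zf11) (kf xf20 yf20 zf14) (kf xf20 yf20 zf15) (kf xf20 yf19 zf9)) (@D3.rec (fun _ => Pt) (kf xf21 yf0 zf39) (kf xf21 yf0 zf40) (kf xf21 yf0 zf41) (kf xf20 yf20 zf46) (kf xf20 yf10 zf21) (kf xf20 yf26 zf29) (kf xf20 yf26 zf30) (kf xf20 yf17 zf24) (kf xf20 yf17 zf50) (kf xf20 yf18 zf0) (kf xf20 yf24 zf25) (kf xf21 yf20 zf31) (kf xf20 yf10 zf29) (kf xf20 yf22 zf32) (kf xf21 yf20 zf35) (kf xf20 yf10 zf32) (kf xf20 yf10 zf35) (kf xf21 yf20 zf40) (kf xf20 yf10 zf34) (kf xf21 yf20 zf37) (kf xf21 yf20 zf43) (kf xf20 yf10 zf36) (kf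 xf20 yf10 zf49) (kf xf20 yf20 zf28) (kf xf21 yf20 zf48) (kf xf20 yf10 zf40) (kf xf20 yf10 zf43) (kf xf21 yf18 zf30) (kf xf21 yf18 zf31) (kf xf21 yf0 zf44) (kf xf21 yf20 zf4) (kf xf21 yf19 zf18) (kf xf21 yf21 zf5) (kf xf21 yf20 zf44) (kf xf20 yf10 zf47) (kf xf21 yf20 zf36) (kf xf21 yf19 zf41) (kf xf21 yf21 zf9) (kf xf21 yf21 zf10) (kf xf20 yf11 zf0) (kf xf20 yf11 zf5) (kf xf21 yf21 zf13) (kf xf21 yf21 zf14) (kf xf20 yf11 zf3) (kf xf21 yf21 zf16) (kf xf20 yf11 zf6) (kf xf20 yf18 zf49) (kf xf21 yf19 zf0) (kf xf21 yf19 zf1) (kf xf21 yf19 zf2) (kf xf20 yf11 zf24)) (@D3.rec (fun _ => Pt) (kf xf21 yf21 zf25) (kf xf20 yf11 zf13) (kf xf20 yf11 zf16) (kf xf20 yf26 zf35) (kf xf20 yf26 zf36) (kf xf20 yf21 zf27) (kf xf20 yf25 zf50) (kf xf20 yf22 zf31) (kf xf20 yf22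 zf24) (kf xf20 yf22 zf25) (kf xf21 yf21 zf32) (kf xf20 yf11 zf22) (kf xf21 yf21 zf22) (kf xf21 yf21 zf34) (kf xf20 yf11 zf25) (kf xf21 yf19 zf15) (kf xf21 yf19 zf16) (kf xf21 yf19 zf17) (kf xf20 yf20 zf19) (kf xf20 yf25 zf39) (kf xf20 yf25 zf40) (kf xf20 yf26 zf0) (kf xf20 yf11 zf37) (kf xf20 yf21 zf11) (kf xf20 yf21 zf34) (kf xf20 yf21 zf35) (kf xf21 yf21 zf42) (kf xf21 yf21 zf44) (kf xf20 yf11 zf38) (kf xf20 yf11 zf39) (kf xf20 yf11 zf42) (kf xf20 yf19 zf23) (kf xf20 yf18 zf7) (kf xf20 yf18 zf11) (kf xf21 yf19 zf27) (kf xf21 yf19 zf28) (kf xf21 yf19 zf29) (kf xf20 yf12 zf18) (kf xf20 yf17 zf12) (kf xf20 yf12 zf20) (kf xf21 yf22 zf3) (kf xf21 yf22 zf4) (kf xf20 yf12 zf5) (kf xf20 yf26 zf37) (kf xf20 yf26 zf38) (kf xf20 yf26 zf8) (kf xf20 yf20 zf25) (kf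 xf20 yf12 zf31) (kf xf21 yf22 zf11) (kf xf20 yf12 zf13) (kf xf20 yf12 zf15)) (@D3.rec (fun _ => Pt) (kf xf21 yf20 zf6) (kf xf21 yf21 zf49) (kf xf20 yf17 zf18) (kf xf21 yf22 zf14) (kf xf20 yf12 zf21) (kf xf21 yf19 zf40) (kf xf21 yf0 zf27) (kf xf20 yf20 zf37) (kf xf20 yf23 zf29) (kf xf20 yf21 zf12) (kf xf20 yf21 zf29) (kf xf21 yf22 zf10) (kf xf20 yf12 zf33) (kf xf20 yf21 zf44) (kf xf20 yf12 zf37) (kf xf20 yf23 zf2) (kf xf20 yf25 zf49) (kf xf20 yf23 zf0) (kf xf20 yf26 zf44) (kf xf21 yf20 zf11) (kf xf21 yf20 zf12) (kf xf21 yf20 zf13) (kf xf20 yf13 zf40) (kf xf20 yf13 zf31) (kf xf20 yf13 zf25) (kf xf20 yf15 zf38) (kf xf20 yf13 zf8) (kf xf20 yf14 zf31) (kf xf20 yf14 zf5) (kf xf20 yf16 zf24) (kf xf20 yf14 zf48) (kf xf20 yf16 zf30) (kf xf21 yf22 zf24) (kf xf20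 yf13 zf16) (kf xf20 yf13 zf19) (kf xf21 yf22 zf28) (kf xf20 yf13 zf18) (kf xf21 yf22 zf25) (kf xf21 yf22 zf30) (kf xf20 yf13 zf20) (kf xf20 yf13 zf24) (kf xf20 yf15 zf28) (kf xf20 yf15 zf29) (kf xf20 yf14 zf34) (kf xf20 yf14 zf6) (kf xf20 yf18 zf5) (kf xf21 yf22 zf36) (kf xf21 yf22 zf37) (kf xf20 yf13 zf29) (kf xf21 yf22 zf38) (kf xf20 yf13 zf32)) (@D3.rec (fun _ => Pt) (kf xf20 yf13 zf50) (kf xf20 yf23 zf24) (kf xf20 yf16 zf7) (kf xf20 yf16 zf8) (kf xf20 yf26 zf43) (kf xf20 yf19 zf6) (kf xf20 yf13 zf44) (kf xf20 yf26 zf40) (kf xf20 yf17 zf17) (kf xf20 yf14 zf7) (kf xf20 yf14 zf20) (kf xf20 yf17 zf27) (kf xf20 yf18 zf43) (kf xf21 yf22 zf33) (kf xf21 yf22 zf41) (kf xf20 yf21 zf37) (kf xf21 yf22 zf46) (kf xf20 yf14 zf9) (kf xf20 yf14 zf12) (kf xf21 yf23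 zf0) (kf xf20 yf14 zf11) (kf xf21 yf22 zf48) (kf xf21 yf23 zf3) (kf xf20 yf14 zf13) (kf xf20 yf18 zf37) (kf xf20 yf14 zf18) (kf xf21 yf0 zf3) (kf xf21 yf0 zf4) (kf xf20 yf14 zf38) (kf xf20 yf14 zf35) (kf xf20 yf17 zf10) (kf xf20 yf21 zf47) (kf xf21 yf23 zf11) (kf xf21 yf23 zf12) (kf xf20 yf14 zf24) (kf xf20 yf14 zf27) (kf xf21 yf23 zf13) (kf xf20 yf14 zf28) (kf xf21 yf22 zf20) (kf xf20 yf15 zf36) (kf xf20 yf15 zf34) (kf xf20 yf15 zf32) (kf xf20 yf15 zf35) (kf xf21 yf23 zf18) (kf xf20 yf16 zf2) (kf xf20 yf14 zf39) (kf xf21 yf23 zf20) (kf xf20 yf16 zf22) (kf xf20 yf14 zf43) (kf xf20 yf16 zf16) (kf xf20 yf14 zf46)) (@D3.rec (fun _ => Pt) (kf xf20 yf16 zf23) (kf xf20 yf16 zf20) (kf xf20 yf16 zf18) (kf xf20 yf16 zf14) (kf xf20 yf18 zf48) (kf xf20 yf15 zf5)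 (kf xf21 yf20 zf10) (kf xf21 yf23 zf26) (kf xf20 yf15 zf8) (kf xf21 yf20 zf16) (kf xf21 yf20 zf17) (kf xf21 yf18 zf38) (kf xf21 yf23 zf33) (kf xf21 yf23 zf34) (kf xf20 yf15 zf10) (kf xf20 yf21 zf3) (kf xf20 yf15 zf12) (kf xf21 yf23 zf1) (kf xf20 yf23 zf34) (kf xf21 yf18 zf32) (kf xf21 yf23 zf40) (kf xf21 yf23 zf41) (kf xf20 yf15 zf17) (kf xf20 yf21 zf4) (kf xf20 yf15 zf22) (kf xf21 yf23 zf45) (kf xf21 yf23 zf46) (kf xf20 yf15 zf20) (kf xf20 yf23 zf17) (kf xf21 yf23 zf49) (kf xf20 yf15 zf23) (kf xf20 yf20 zf32) (kf xf20 yf21 zf2) (kf xf21 yf22 zf31) (kf xf21 yf22 zf32) (kf xf20 yf21 zf23) (kf xf20 yf18 zf28) (kf xf21 yf23 zf16) (kf xf20 yf19 zf2) (kf xf21 yf23 zf15) (kf xf21 yf23 zf7) (kf xf21 yf23 zf14) (kf xf21 yf22 zf19) (kf xf20 yf17 zf32) (kf xf21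 yf24 zf11) (kf xf20 yf25 zf9) (kf xf20 yf15 zf40) (kf xf21 yf24 zf12) (kf xf20 yf15 zf43) (kf xf21 yf19 zf11) (kf xf21 yf24 zf15)) (@D3.rec (fun _ => Pt) (kf xf21 yf24 zf16) (kf xf20 yf15 zf46) (kf xf21 yf24 zf18) (kf xf21 yf24 zf20) (kf xf20 yf15 zf49) (kf xf20 yf15 zf50) (kf xf21 yf23 zf17) (kf xf20 yf16 zf3) (kf xf20 yf23 zf25) (kf xf21 yf22 zf40) (kf xf20 yf21 zf22) (kf xf20 yf20 zf21) (kf xf20 yf26 zf33) (kf xf20 yf16 zf17) (kf xf21 yf23 zf22) (kf xf20 yf16 zf19) (kf xf21 yf23 zf21) (kf xf21 yf22 zf5) (kf xf21 yf24 zf24) (kf xf21 yf23 zf24) (kf xf21 yf23 zf23) (kf xf21 yf23 zf19) (kf xf20 yf26 zf6) (kf xf20 yf16 zf33) (kf xf21 yf24 zf31) (kf xf21 yf20 zf27) (kf xf20 yf16 zf28) (kf xf21 yf22 zf21) (kf xf21 yf24 zf33) (kf xf20 yf16 zf31) (kf xf21 yf24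 zf34) (kf xf20 yf16 zf34) (kf xf21 yf24 zf35) (kf xf20 yf16 zf37) (kf xf20 yf16 zf39) (kf xf20 yf16 zf48) (kf xf21 yf24 zf38) (kf xf21 yf24 zf39) (kf xf20 yf16 zf42) (kf xf21 yf24 zf42) (kf xf21 yf24 zf44) (kf xf20 yf16 zf45) (kf xf20 yf16 zf46) (kf xf21 yf22 zf0) (kf xf21 yf24 zf49) (kf xf21 yf24 zf50) (kf xf20 yf16 zf49) (kf xf20 yf16 zf50) (kf xf20 yf20 zf29) (kf xf21 yf25 zf1) (kf xf20 yf17 zf2)) (@D3.rec (fun _ => Pt) (kf xf20 yf17 zf3) (kf xf20 yf21 zf48) (kf xf20 yf22 zf36) (kf xf20 yf21 zf49) (kf xf20 yf26 zf31) (kf xf21 yf23 zf8) (kf xf20 yf17 zf9) (kf xf21 yf21 zf50) (kf xf20 yf19 zf29) (kf xf20 yf26 zf47) (kf xf21 yf22 zf13) (kf xf21 yf0 zf37) (kf xf21 yf18 zf42) (kf xf20 yf22 zf12) (kf xf20 yf17 zf31) (kf xf20 yf19 zf31) (kf xf20 yf19 zf32)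 (kf xf21 yf25 zf11) (kf xf20 yf17 zf33) (kf xf20 yf20 zf16) (kf xf20 yf20 zf17) (kf xf20 yf17 zf40) (kf xf20 yf20 zf23) (kf xf20 yf20 zf24) (kf xf20 yf20 zf34) (kf xf20 yf21 zf24) (kf xf20 yf21 zf25) (kf xf21 yf20 zf28) (kf xf20 yf23 zf1) (kf xf20 yf23 zf3) (kf xf21 yf21 zf46) (kf xf21 yf0 zf34) (kf xf21 yf0 zf35) (kf xf20 yf18 zf14) (kf xf21 yf0 zf10) (kf xf21 yf0 zf11) (kf xf20 yf18 zf18) (kf xf21 yf25 zf26) (kf xf21 yf25 zf27) (kf xf20 yf18 zf16) (kf xf21 yf18 zf47) (kf xf21 yf25 zf30) (kf xf20 yf18 zf19) (kf xf20 yf19 zf4) (kf xf21 yf0 zf17) (kf xf21 yf0 zf18) (kf xf20 yf24 zf13) (kf xf20 yf18 zf27) (kf xf21 yf0 zf0) (kf xf21 yf0 zf1) (kf xf21 yf24 zf5)) (@D3.rec (fun _ => Pt) (kf xf21 yf25 zf39) (kf xf21 yf23 zf4) (kf xf20 yf18 zf29) (kf xf21 yf0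 zf12) (kf xf20 yf24 zf1) (kf xf20 yf23 zf46) (kf xf20 yf24 zf16) (kf xf20 yf24 zf12) (kf xf21 yf22 zf47) (kf xf20 yf18 zf41) (kf xf21 yf0 zf32) (kf xf21 yf0 zf33) (kf xf21 yf22 zf42) (kf xf21 yf1 zf13) (kf xf20 yf18 zf47) (kf xf20 yf24 zf22) (kf xf20 yf24 zf23) (kf xf21 yf23 zf25) (kf xf21 yf21 zf17) (kf xf21 yf18 zf50) (kf xf20 yf24 zf24) (kf xf20 yf23 zf27) (kf xf21 yf26 zf3) (kf xf21 yf25 zf31) (kf xf20 yf19 zf3) (kf xf21 yf0 zf19) (kf xf20 yf24 zf47) (kf xf20 yf19 zf15) (kf xf21 yf1 zf0) (kf xf21 yf1 zf1) (kf xf21 yf1 zf2) (kf xf21 yf1 zf3) (kf xf20 yf23 zf32) (kf xf20 yf23 zf33) (kf xf20 yf23 zf31) (kf xf21 yf19 zf43) (kf xf21 yf19 zf42) (kf xf21 yf0 zf47) (kf xf20 yf19 zf27) (kf xf21 yf20 zf9) (kf xf21 yf20 zf1) (kf xf21 yf0 zf36) (kf xf21 yf25 zf7)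 (kf xf21 yf24 zf47) (kf xf21 yf25 zf9) (kf xf21 yf25 zf10) (kf xf20 yf25 zf17) (kf xf21 yf19 zf3) (kf xf21 yf26 zf23) (kf xf21 yf26 zf24) (kf xf20 yf19 zf34)) (@D3.rec (fun _ => Pt) (kf xf20 yf23 zf7) (kf xf20 yf19 zf36) (kf xf21 yf1 zf4) (kf xf20 yf19 zf43) (kf xf21 yf26 zf28) (kf xf21 yf26 zf6) (kf xf20 yf19 zf41) (kf xf21 yf26 zf30) (kf xf21 yf26 zf31) (kf xf20 yf19 zf44) (kf xf20 yf19 zf45) (kf xf20 yf23 zf8) (kf xf21 yf20 zf41) (kf xf20 yf20 zf1) (kf xf21 yf19 zf32) (kf xf21 yf0 zf22) (kf xf20 yf24 zf28) (kf xf21 yf26 zf37) (kf xf21 yf26 zf38) (kf xf20 yf20 zf3) (kf xf20 yf20 zf9) (kf xf21 yf26 zf42) (kf xf21 yf26 zf44) (kf xf20 yf20 zf6) (kf xf20 yf20 zf7) (kf xf20 yf25 zf3) (kf xf21 yf26 zf40) (kf xf20 yf20 zf10) (kf xf20 yf22 zf0) (kf xf21 yf20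 zf21) (kf xf21 yf20 zf22) (kf xf20 yf24 zf43) (kf xf21 yf25 zf12) (kf xf21 yf25 zf13) (kf xf20 yf25 zf45) (kf xf20 yf25 zf43) (kf xf20 yf20 zf30) (kf xf21 yf24 zf23) (kf xf21 yf24 zf4) (kf xf21 yf25 zf14) (kf xf21 yf25 zf15) (kf xf20 yf21 zf17) (kf xf20 yf24 zf41) (kf xf21 yf20 zf45) (kf xf21 yf25 zf0) (kf xf21 yf24 zf0) (kf xf22 yf0 zf13) (kf xf21 yf23 zf50) (kf xf20 yf20 zf31) (kf xf21 yf23 zf42) (kf xf20 yf25 zf25)) (@D3.rec (fun _ => Pt) (kf xf20 yf25 zf11) (kf xf20 yf25 zf16) (kf xf20 yf25 zf14) (kf xf20 yf20 zf40) (kf xf20 yf26 zf46) (kf xf20 yf24 zf34) (kf xf20 yf24 zf32) (kf xf20 yf24 zf45) (kf xf20 yf24 zf42) (kf xf20 yf21 zf14) (kf xf20 yf25 zf37) (kf xf20 yf25 zf44) (kf xf20 yf25 zf31) (kf xf20 yf25 zf42) (kf xf21 yf23 zf36) (kf xf21 yf19 zf30)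 (kf xf20 yf25 zf32) (kf xf20 yf21 zf31) (kf xf20 yf21 zf40) (kf xf22 yf0 zf23) (kf xf22 yf0 zf0) (kf xf22 yf0 zf32) (kf xf22 yf0 zf9) (kf xf20 yf21 zf16) (kf xf20 yf21 zf19) (kf xf21 yf24 zf22) (kf xf21 yf24 zf3) (kf xf21 yf25 zf16) (kf xf21 yf25 zf17) (kf xf21 yf0 zf21) (kf xf21 yf22 zf16) (kf xf20 yf25 zf33) (kf xf22 yf0 zf27) (kf xf22 yf0 zf28) (kf xf20 yf21 zf36) (kf xf21 yf21 zf39) (kf xf21 yf21 zf40) (kf xf20 yf24 zf39) (kf xf21 yf22 zf43) (kf xf22 yf0 zf46) (kf xf20 yf21 zf38) (kf xf22 yf0 zf48) (kf xf22 yf0 zf49) (kf xf20 yf21 zf41) (kf xf20 yf21 zf42) (kf xf22 yf1 zf0) (kf xf20 yf24 zf40) (kf xf20 yf24 zf38) (kf xf20 yf24 zf36) (kf xf21 yf25 zf2) (kf xf21 yf25 zf4)) (@D3.rec (fun _ => Pt) (kf xf21 yf26 zf47) (kf xf20 yf21 zf50) (kf xf21 yf26 zf32)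 (kf xf21 yf19 zf38) (kf xf21 yf19 zf13) (kf xf21 yf0 zf26) (kf xf21 yf0 zf30) (kf xf21 yf0 zf25) (kf xf21 yf0 zf29) (kf xf21 yf1 zf18) (kf xf21 yf1 zf7) (kf xf21 yf1 zf8) (kf xf20 yf23 zf36) (kf xf22 yf1 zf15) (kf xf21 yf25 zf28) (kf xf20 yf22 zf14) (kf xf21 yf1 zf23) (kf xf22 yf1 zf18) (kf xf22 yf1 zf19) (kf xf20 yf22 zf17) (kf xf22 yf1 zf22) (kf xf22 yf1 zf24) (kf xf20 yf22 zf20) (kf xf20 yf22 zf21) (kf xf21 yf21 zf30) (kf xf21 yf21 zf31) (kf xf21 yf19 zf5) (kf xf22 yf1 zf30) (kf xf20 yf22 zf26) (kf xf22 yf1 zf32) (kf xf20 yf22 zf27) (kf xf20 yf25 zf0) (kf xf21 yf24 zf46) (kf xf20 yf24 zf49) (kf xf21 yf20 zf32) (kf xf20 yf22 zf33) (kf xf21 yf25 zf3) (kf xf22 yf1 zf37) (kf xf20 yf22 zf38) (kf xf20 yf22 zf40) (kf xf20 yf24 zf50) (kf xf20 yf24 zf48) (kf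 xf20 yf25 zf12) (kf xf20 yf25 zf35) (kf xf20 yf25 zf34) (kf xf21 yf1 zf19) (kf xf21 yf22 zf17) (kf xf21 yf25 zf18) (kf xf20 yf25 zf27) (kf xf20 yf23 zf5) (kf xf21 yf19 zf7)) (@D3.rec (fun _ => Pt) (kf xf21 yf26 zf25) (kf xf21 yf0 zf23) (kf xf20 yf23 zf35) (kf xf21 yf1 zf17) (kf xf20 yf24 zf4) (kf xf21 yf23 zf48) (kf xf20 yf26 zf41) (kf xf20 yf25 zf7) (kf xf20 yf25 zf8) (kf xf21 yf22 zf39) (kf xf21 yf26 zf1) (kf xf21 yf26 zf10) (kf xf21 yf26 zf9) (kf xf21 yf23 zf37) (kf xf22 yf1 zf44) (kf xf22 yf2 zf0) (kf xf20 yf23 zf37) (kf xf21 yf1 zf9) (kf xf21 yf1 zf10) (kf xf20 yf26 zf17) (kf xf22 yf2 zf5) (kf xf20 yf23 zf43) (kf xf20 yf23 zf47) (kf xf21 yf25 zf42) (kf xf21 yf25 zf23) (kf xf22 yf2 zf8) (kf xf20 yf23 zf48) (kf xf20 yf24 zf7) (kf xf21 yf25 zf41) (kf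 xf20 yf24 zf2) (kf xf22 yf1 zf45) (kf xf22 yf2 zf12) (kf xf22 yf2 zf9) (kf xf20 yf24 zf6) (kf xf20 yf24 zf9) (kf xf21 yf25 zf43) (kf xf21 yf25 zf34) (kf xf20 yf24 zf14) (kf xf21 yf1 zf26) (kf xf21 yf1 zf5) (kf xf21 yf25 zf48) (kf xf21 yf25 zf49) (kf xf21 yf20 zf29) (kf xf22 yf2 zf20) (kf xf22 yf1 zf28) (kf xf20 yf24 zf26) (kf xf22 yf2 zf21) (kf xf20 yf24 zf29) (kf xf21 yf0 zf24) (kf xf22 yf0 zf21) (kf xf21 yf21 zf28)) (@D3.rec (fun _ => Pt) (kf xf22 yf0 zf20) (kf xf21 yf0 zf28) (kf xf22 yf1 zf3) (kf xf22 yf0 zf44) (kf xf22 yf1 zf2) (kf xf22 yf0 zf43) (kf xf22 yf0 zf22) (kf xf21 yf26 zf50) (kf xf22 yf1 zf38) (kf xf22 yf1 zf35) (kf xf22 yf1 zf31) (kf xf22 yf1 zf33) (kf xf22 yf2 zf34) (kf xf21 yf26 zf45) (kf xf20 yf25 zf2) (kf xf20 yf25 zf5) (kf xf22 yf1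 zf46) (kf xf22 yf1 zf47) (kf xf21 yf24 zf10) (kf xf21 yf22 zf27) (kf xf22 yf0 zf17) (kf xf20 yf25 zf18) (kf xf22 yf0 zf19) (kf xf21 yf26 zf20) (kf xf22 yf0 zf18) (kf xf21 yf26 zf19) (kf xf22 yf2 zf44) (kf xf20 yf25 zf19) (kf xf21 yf19 zf10) (kf xf20 yf25 zf22) (kf xf21 yf19 zf36) (kf xf22 yf1 zf41) (kf xf21 yf20 zf7) (kf xf22 yf0 zf24) (kf xf22 yf0 zf26) (kf xf22 yf1 zf39) (kf xf21 yf21 zf37) (kf xf21 yf21 zf38) (kf xf22 yf0 zf25) (kf xf22 yf0 zf4) (kf xf22 yf0 zf2) (kf xf22 yf0 zf3) (kf xf20 yf25 zf46) (kf xf21 yf21 zf29) (kf xf20 yf26 zf1) (kf xf21 yf20 zf14) (kf xf22 yf3 zf5) (kf xf21 yf22 zf9) (kf xf20 yf26 zf4) (kf xf22 yf3 zf7) (kf xf21 yf22 zf8)) (@D3.rec (fun _ => Pt) (kf xf20 yf26 zf7) (kf xf20 yf26 zf10) (kf xf20 yf26 zf19) (kf xf22 yf3 zf11)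 (kf xf22 yf2 zf4) (kf xf20 yf26 zf13) (kf xf22 yf3 zf13) (kf xf22 yf2 zf3) (kf xf20 yf26 zf16) (kf xf22 yf3 zf15) (kf xf20 yf26 zf20) (kf xf20 yf26 zf22) (kf xf20 yf26 zf24) (kf xf21 yf18 zf26) (kf xf21 yf20 zf25) (kf xf21 yf20 zf26) (kf xf21 yf21 zf26) (kf xf21 yf21 zf27) (kf xf21 yf22 zf6) (kf xf21 yf22 zf7) (kf xf21 yf0 zf20) (kf xf21 yf25 zf35) (kf xf21 yf25 zf36) (kf xf21 yf23 zf5) (kf xf21 yf23 zf6) (kf xf21 yf1 zf11) (kf xf21 yf1 zf12) (kf xf21 yf20 zf18) (kf xf21 yf25 zf21) (kf xf21 yf25 zf22) (kf xf21 yf20 zf19) (kf xf21 yf20 zf20) (kf xf21 yf25 zf32) (kf xf21 yf25 zf33) (kf xf22 yf0 zf37) (kf xf22 yf0 zf38) (kf xf22 yf1 zf8) (kf xf22 yf1 zf9) (kf xf21 yf22 zf15) (kf xf22 yf1 zf10) (kf xf21 yf25 zf44) (kf xf21 yf25 zf45) (kf xf21 yf25 zf19) (kf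 xf21 yf25 zf20) (kf xf21 yf25 zf8) (kf xf21 yf20 zf23) (kf xf21 yf20 zf24) (kf xf21 yf0 zf49) (kf xf21 yf1 zf6) (kf xf21 yf0 zf48) (kf xf21 yf0 zf45)) (@D3.rec (fun _ => Pt) (kf xf21 yf21 zf1) (kf xf22 yf3 zf40) (kf xf22 yf3 zf38) (kf xf22 yf3 zf39) (kf xf22 yf3 zf37) (kf xf21 yf26 zf4) (kf xf21 yf26 zf5) (kf xf21 yf26 zf7) (kf xf21 yf26 zf8) (kf xf22 yf2 zf15) (kf xf22 yf1 zf11) (kf xf22 yf1 zf12) (kf xf22 yf2 zf1) (kf xf22 yf2 zf2) (kf xf22 yf3 zf25) (kf xf21 yf25 zf46) (kf xf21 yf25 zf47) (kf xf21 yf1 zf27) (kf xf22 yf1 zf40) (kf xf21 yf1 zf25) (kf xf21 yf1 zf24) (kf xf22 yf4 zf2) (kf xf21 yf1 zf36) (kf xf21 yf1 zf39) (kf xf21 yf1 zf41) (kf xf21 yf1 zf42) (kf xf21 yf17 zf13) (kf xf22 yf4 zf3) (kf xf22 yf4 zf4) (kf xf21 yf1 zf45) (kf xf21 yf4 zf27) (kf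 xf21 yf4 zf28) (kf xf21 yf8 zf19) (kf xf22 yf4 zf11) (kf xf22 yf4 zf12) (kf xf21 yf1 zf47) (kf xf21 yf2 zf47) (kf xf21 yf1 zf49) (kf xf21 yf8 zf11) (kf xf22 yf4 zf16) (kf xf22 yf4 zf17) (kf xf21 yf2 zf2) (kf xf21 yf10 zf12) (kf xf21 yf2 zf7) (kf xf22 yf4 zf21) (kf xf22 yf4 zf22) (kf xf21 yf2 zf5) (kf xf21 yf10 zf40) (kf xf22 yf4 zf25) (kf xf21 yf2 zf8) (kf xf21 yf11 zf19)) (@D3.rec (fun _ => Pt) (kf xf21 yf4 zf47) (kf xf21 yf4 zf48) (kf xf21 yf4 zf49) (kf xf21 yf11 zf47) (kf xf22 yf4 zf33) (kf xf21 yf14 zf26) (kf xf21 yf2 zf16) (kf xf21 yf14 zf50) (kf xf22 yf4 zf35) (kf xf21 yf2 zf19) (kf xf21 yf16 zf28) (kf xf21 yf8 zf49) (kf xf22 yf4 zf39) (kf xf21 yf14 zf4) (kf xf21 yf2 zf23) (kf xf21 yf5 zf15) (kf xf21 yf5 zf16) (kf xf21 yf5 zf17) (kf xf21 yf4 zf31)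 (kf xf22 yf4 zf45) (kf xf22 yf4 zf46) (kf xf21 yf2 zf29) (kf xf22 yf4 zf48) (kf xf22 yf4 zf50) (kf xf21 yf2 zf32) (kf xf21 yf2 zf33) (kf xf21 yf2 zf35) (kf xf21 yf5 zf34) (kf xf21 yf5 zf35) (kf xf21 yf5 zf36) (kf xf21 yf13 zf15) (kf xf22 yf5 zf4) (kf xf21 yf12 zf14) (kf xf21 yf2 zf44) (kf xf22 yf4 zf13) (kf xf21 yf2 zf48) (kf xf21 yf16 zf30) (kf xf22 yf5 zf8) (kf xf21 yf14 zf3) (kf xf21 yf3 zf1) (kf xf21 yf6 zf5) (kf xf21 yf4 zf36) (kf xf21 yf11 zf36) (kf xf21 yf11 zf35) (kf xf21 yf3 zf18) (kf xf22 yf5 zf12) (kf xf22 yf5 zf13) (kf xf21 yf3 zf12) (kf xf22 yf5 zf16) (kf xf22 yf5 zf18) (kf xf21 yf3 zf15)) (@D3.rec (fun _ => Pt) (kf xf21 yf3 zf16) (kf xf21 yf11 zf40) (kf xf22 yf5 zf21) (kf xf21 yf3 zf19) (kf xf21 yf4 zf30) (kf xf21 yf3 zf22) (kf xf21 yf6 zf0)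 (kf xf21 yf16 zf32) (kf xf21 yf3 zf25) (kf xf21 yf11 zf39) (kf xf21 yf8 zf6) (kf xf21 yf6 zf19) (kf xf21 yf6 zf20) (kf xf21 yf6 zf21) (kf xf21 yf16 zf45) (kf xf21 yf3 zf39) (kf xf21 yf8 zf9) (kf xf21 yf8 zf10) (kf xf21 yf17 zf27) (kf xf21 yf17 zf30) (kf xf21 yf17 zf31) (kf xf21 yf12 zf29) (kf xf21 yf12 zf30) (kf xf21 yf17 zf45) (kf xf21 yf17 zf46) (kf xf21 yf17 zf14) (kf xf21 yf17 zf15) (kf xf21 yf9 zf25) (kf xf21 yf10 zf27) (kf xf21 yf15 zf42) (kf xf22 yf5 zf40) (kf xf21 yf4 zf11) (kf xf21 yf14 zf34) (kf xf22 yf5 zf43) (kf xf22 yf5 zf44) (kf xf21 yf4 zf14) (kf xf21 yf4 zf35) (kf xf21 yf4 zf19) (kf xf22 yf5 zf48) (kf xf22 yf5 zf49) (kf xf21 yf4 zf17) (kf xf21 yf12 zf12) (kf xf22 yf6 zf0) (kf xf21 yf4 zf20) (kf xf21 yf4 zf33) (kf xf21 yf12 zf43) (kf xf22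 yf6 zf4) (kf xf22 yf6 zf5) (kf xf21 yf4 zf24) (kf xf22 yf4 zf6) (kf xf22 yf4 zf7)) (@D3.rec (fun _ => Pt) (kf xf22 yf4 zf8) (kf xf21 yf18 zf0) (kf xf22 yf5 zf22) (kf xf22 yf6 zf11) (kf xf22 yf6 zf1) (kf xf21 yf4 zf32) (kf xf22 yf5 zf45) (kf xf22 yf6 zf14) (kf xf22 yf6 zf16) (kf xf21 yf4 zf37) (kf xf21 yf4 zf38) (kf xf22 yf6 zf19) (kf xf22 yf6 zf21) (kf xf21 yf4 zf41) (kf xf21 yf4 zf42) (kf xf22 yf6 zf23) (kf xf21 yf4 zf44) (kf xf21 yf11 zf18) (kf xf22 yf4 zf27) (kf xf22 yf4 zf28) (kf xf22 yf4 zf29) (kf xf22 yf4 zf30) (kf xf21 yf5 zf12) (kf xf22 yf6 zf31) (kf xf22 yf6 zf32) (kf xf21 yf5 zf0) (kf xf21 yf17 zf16) (kf xf21 yf17 zf17) (kf xf21 yf15 zf50) (kf xf21 yf16 zf43) (kf xf21 yf14 zf24) (kf xf21 yf14 zf25) (kf xf21 yf5 zf10) (kf xf22 yf6 zf40) (kf xf21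 yf5 zf13) (kf xf22 yf4 zf41) (kf xf22 yf4 zf42) (kf xf21 yf16 zf36) (kf xf21 yf16 zf37) (kf xf21 yf13 zf35) (kf xf21 yf13 zf36) (kf xf22 yf6 zf47) (kf xf21 yf5 zf26) (kf xf22 yf6 zf48) (kf xf21 yf5 zf27) (kf xf22 yf6 zf17) (kf xf21 yf10 zf30) (kf xf22 yf5 zf1) (kf xf22 yf5 zf2) (kf xf21 yf6 zf1) (kf xf21 yf10 zf7)) (@D3.rec (fun _ => Pt) (kf xf21 yf9 zf43) (kf xf22 yf7 zf3) (kf xf22 yf7 zf5) (kf xf21 yf5 zf40) (kf xf21 yf5 zf41) (kf xf21 yf9 zf17) (kf xf21 yf17 zf18) (kf xf21 yf17 zf19) (kf xf21 yf16 zf50) (kf xf21 yf16 zf47) (kf xf21 yf6 zf11) (kf xf21 yf5 zf48) (kf xf22 yf5 zf23) (kf xf21 yf10 zf10) (kf xf21 yf6 zf3) (kf xf21 yf17 zf38) (kf xf21 yf13 zf30) (kf xf21 yf14 zf46) (kf xf22 yf5 zf26) (kf xf21 yf8 zf42) (kf xf21 yf7 zf38) (kf xf21 yf9 zf27)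 (kf xf22 yf7 zf13) (kf xf22 yf5 zf38) (kf xf21 yf6 zf32) (kf xf21 yf6 zf37) (kf xf22 yf7 zf16) (kf xf21 yf16 zf19) (kf xf21 yf6 zf35) (kf xf22 yf7 zf17) (kf xf21 yf6 zf38) (kf xf21 yf8 zf33) (kf xf21 yf8 zf34) (kf xf21 yf7 zf13) (kf xf22 yf7 zf21) (kf xf22 yf7 zf23) (kf xf21 yf6 zf46) (kf xf21 yf6 zf47) (kf xf21 yf6 zf49) (kf xf21 yf15 zf9) (kf xf21 yf9 zf9) (kf xf21 yf7 zf14) (kf xf21 yf11 zf12) (kf xf21 yf13 zf38) (kf xf22 yf7 zf26) (kf xf22 yf6 zf37) (kf xf21 yf7 zf16) (kf xf21 yf11 zf8) (kf xf21 yf7 zf21) (kf xf22 yf7 zf30) (kf xf22 yf7 zf31)) (@D3.rec (fun _ => Pt) (kf xf21 yf7 zf19) (kf xf21 yf8 zf17) (kf xf22 yf7 zf34) (kf xf21 yf7 zf22) (kf xf21 yf11 zf1) (kf xf21 yf17 zf23) (kf xf21 yf17 zf24) (kf xf21 yf8 zf40) (kf xf21 yf10 zf5) (kf xf22 yf7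 zf40) (kf xf22 yf7 zf42) (kf xf21 yf7 zf32) (kf xf21 yf7 zf33) (kf xf21 yf7 zf36) (kf xf21 yf8 zf41) (kf xf21 yf8 zf39) (kf xf21 yf8 zf37) (kf xf21 yf9 zf6) (kf xf21 yf7 zf43) (kf xf21 yf9 zf21) (kf xf21 yf7 zf46) (kf xf21 yf9 zf16) (kf xf21 yf9 zf14) (kf xf21 yf9 zf20) (kf xf21 yf9 zf19) (kf xf21 yf11 zf17) (kf xf21 yf8 zf7) (kf xf22 yf5 zf25) (kf xf22 yf5 zf20) (kf xf22 yf5 zf27) (kf xf22 yf5 zf28) (kf xf22 yf8 zf3) (kf xf22 yf8 zf4) (kf xf21 yf8 zf12) (kf xf21 yf8 zf13) (kf xf22 yf7 zf33) (kf xf21 yf13 zf14) (kf xf21 yf15 zf13) (kf xf22 yf8 zf8) (kf xf22 yf8 zf10) (kf xf21 yf8 zf20) (kf xf21 yf8 zf21) (kf xf21 yf12 zf49) (kf xf22 yf8 zf15) (kf xf22 yf8 zf17) (kf xf21 yf8 zf25) (kf xf21 yf8 zf26) (kf xf22 yf8 zf21) (kf xf21 yf15 zf5) (kf xf21 yf8 zf29)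 (kf xf21 yf12 zf47)) (@D3.rec (fun _ => Pt) (kf xf21 yf12 zf45) (kf xf22 yf7 zf18) (kf xf22 yf7 zf19) (kf xf21 yf13 zf26) (kf xf21 yf12 zf38) (kf xf21 yf10 zf50) (kf xf22 yf7 zf45) (kf xf22 yf7 zf44) (kf xf22 yf7 zf38) (kf xf22 yf8 zf32) (kf xf21 yf16 zf18) (kf xf21 yf8 zf44) (kf xf21 yf8 zf47) (kf xf22 yf8 zf35) (kf xf22 yf8 zf37) (kf xf21 yf8 zf50) (kf xf21 yf9 zf0) (kf xf22 yf8 zf40) (kf xf21 yf9 zf2) (kf xf22 yf8 zf41) (kf xf21 yf9 zf3) (kf xf22 yf8 zf12) (kf xf21 yf13 zf25) (kf xf21 yf12 zf37) (kf xf21 yf9 zf18) (kf xf22 yf7 zf47) (kf xf22 yf7 zf46) (kf xf22 yf7 zf6) (kf xf22 yf7 zf48) (kf xf22 yf8 zf48) (kf xf22 yf5 zf37) (kf xf21 yf9 zf24) (kf xf22 yf8 zf50) (kf xf21 yf9 zf28) (kf xf21 yf9 zf30) (kf xf21 yf9 zf32) (kf xf22 yf9 zf1) (kf xf22 yf9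 zf3) (kf xf21 yf9 zf36) (kf xf21 yf9 zf37) (kf xf22 yf9 zf5) (kf xf22 yf9 zf7) (kf xf21 yf9 zf39) (kf xf22 yf9 zf9) (kf xf21 yf9 zf40) (kf xf22 yf7 zf1) (kf xf21 yf14 zf32) (kf xf21 yf11 zf43) (kf xf22 yf9 zf13) (kf xf21 yf9 zf44) (kf xf21 yf9 zf45)) (@D3.rec (fun _ => Pt) (kf xf21 yf12 zf44) (kf xf21 yf9 zf49) (kf xf21 yf13 zf49) (kf xf21 yf14 zf36) (kf xf21 yf13 zf50) (kf xf22 yf4 zf18) (kf xf22 yf7 zf0) (kf xf21 yf11 zf42) (kf xf21 yf17 zf44) (kf xf21 yf11 zf44) (kf xf21 yf11 zf45) (kf xf21 yf10 zf17) (kf xf21 yf12 zf32) (kf xf21 yf12 zf33) (kf xf21 yf12 zf39) (kf xf21 yf12 zf40) (kf xf21 yf13 zf27) (kf xf21 yf13 zf28) (kf xf21 yf14 zf47) (kf xf21 yf17 zf42) (kf xf21 yf17 zf43) (kf xf21 yf17 zf28) (kf xf21 yf17 zf29) (kf xf21 yf15 zf24) (kf xf22 yf9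 zf30) (kf xf22 yf9 zf32) (kf xf21 yf10 zf37) (kf xf21 yf10 zf38) (kf xf21 yf14 zf14) (kf xf22 yf4 zf24) (kf xf21 yf10 zf41) (kf xf21 yf11 zf23) (kf xf21 yf17 zf32) (kf xf21 yf17 zf33) (kf xf21 yf15 zf36) (kf xf21 yf17 zf21) (kf xf21 yf17 zf22) (kf xf22 yf9 zf42) (kf xf22 yf7 zf35) (kf xf21 yf11 zf0) (kf xf22 yf7 zf27) (kf xf21 yf15 zf28) (kf xf21 yf15 zf23) (kf xf21 yf15 zf35) (kf xf21 yf17 zf40) (kf xf21 yf17 zf41) (kf xf21 yf18 zf15) (kf xf21 yf18 zf16) (kf xf21 yf15 zf40) (kf xf21 yf15 zf41) (kf xf22 yf6 zf24)) (@D3.rec (fun _ => Pt) (kf xf22 yf4 zf26) (kf xf21 yf15 zf10) (kf xf22 yf9 zf35) (kf xf21 yf11 zf22) (kf xf21 yf18 zf5) (kf xf21 yf18 zf6) (kf xf21 yf12 zf5) (kf xf21 yf18 zf7) (kf xf21 yf18 zf8) (kf xf21 yf15 zf12) (kf xf21 yf15 zf11) (kf xf22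 yf5 zf9) (kf xf22 yf5 zf24) (kf xf22 yf5 zf19) (kf xf22 yf9 zf18) (kf xf22 yf9 zf12) (kf xf22 yf8 zf13) (kf xf22 yf9 zf19) (kf xf22 yf9 zf20) (kf xf21 yf16 zf25) (kf xf21 yf16 zf23) (kf xf22 yf10 zf16) (kf xf22 yf10 zf17) (kf xf21 yf11 zf48) (kf xf21 yf11 zf49) (kf xf21 yf15 zf0) (kf xf22 yf10 zf20) (kf xf22 yf10 zf2) (kf xf21 yf12 zf4) (kf xf22 yf10 zf22) (kf xf21 yf12 zf7) (kf xf21 yf12 zf8) (kf xf21 yf14 zf2) (kf xf22 yf5 zf50) (kf xf22 yf5 zf3) (kf xf22 yf10 zf26) (kf xf22 yf10 zf28) (kf xf21 yf12 zf17) (kf xf21 yf12 zf18) (kf xf22 yf8 zf20) (kf xf21 yf12 zf26) (kf xf22 yf10 zf32) (kf xf21 yf12 zf21) (kf xf22 yf10 zf35) (kf xf21 yf12 zf22) (kf xf21 yf16 zf13) (kf xf22 yf10 zf30) (kf xf21 yf14 zf0) (kf xf22 yf5 zf31) (kf xf22 yf5 zf32) (kf xf21 yf16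 zf7))
def f_f_22 : D2 → D3 → Pt := @D2.rec (fun _ => D3 → Pt) (@D3.rec (fun _ => Pt) (kf xf21 yf13 zf20) (kf xf22 yf9 zf21) (kf xf21 yf16 zf40) (kf xf21 yf16 zf41) (kf xf21 yf16 zf39) (kf xf22 yf8 zf43) (kf xf22 yf8 zf27) (kf xf22 yf9 zf22) (kf xf22 yf9 zf23) (kf xf21 yf13 zf22) (kf xf22 yf9 zf14) (kf xf22 yf8 zf23) (kf xf22 yf8 zf22) (kf xf21 yf12 zf46) (kf xf22 yf8 zf6) (kf xf22 yf8 zf11) (kf xf22 yf4 zf40) (kf xf21 yf16 zf20) (kf xf21 yf16 zf24) (kf xf21 yf16 zf22) (kf xf21 yf16 zf0) (kf xf21 yf15 zf49) (kf xf21 yf16 zf6) (kf xf21 yf13 zf19) (kf xf21 yf16 zf33) (kf xf21 yf16 zf38) (kf xf21 yf16 zf34) (kf xf21 yf13 zf32) (kf xf21 yf13 zf33) (kf xf22 yf11 zf6) (kf xf22 yf10 zf40) (kf xf22 yf10 zf49) (kf xf21 yf13 zf21) (kf xf22 yf10 zf50) (kf xf22 yf8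 zf25) (kf xf22 yf8 zf26) (kf xf22 yf9 zf24) (kf xf21 yf17 zf34) (kf xf21 yf17 zf35) (kf xf22 yf11 zf8) (kf xf22 yf11 zf9) (kf xf22 yf6 zf44) (kf xf22 yf6 zf45) (kf xf21 yf16 zf5) (kf xf21 yf16 zf3) (kf xf22 yf11 zf22) (kf xf21 yf13 zf39) (kf xf22 yf11 zf23) (kf xf21 yf13 zf41) (kf xf21 yf13 zf42) (kf xf22 yf11 zf25)) (@D3.rec (fun _ => Pt) (kf xf21 yf13 zf45) (kf xf22 yf4 zf34) (kf xf21 yf16 zf4) (kf xf21 yf16 zf2) (kf xf22 yf9 zf16) (kf xf22 yf10 zf23) (kf xf22 yf5 zf7) (kf xf22 yf4 zf38) (kf xf21 yf17 zf36) (kf xf21 yf17 zf37) (kf xf21 yf17 zf39) (kf xf21 yf18 zf10) (kf xf21 yf18 zf11) (kf xf22 yf11 zf33) (kf xf22 yf9 zf33) (kf xf21 yf14 zf13) (kf xf22 yf11 zf36) (kf xf22 yf11 zf38) (kf xf21 yf14 zf17) (kf xf21 yf14 zf18) (kf xf22 yf8 zf38) (kf xf22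 yf11 zf41) (kf xf21 yf14 zf20) (kf xf22 yf11 zf42) (kf xf21 yf14 zf21) (kf xf22 yf6 zf38) (kf xf22 yf6 zf39) (kf xf22 yf4 zf32) (kf xf21 yf15 zf44) (kf xf22 yf11 zf48) (kf xf21 yf14 zf27) (kf xf21 yf16 zf10) (kf xf21 yf14 zf29) (kf xf21 yf16 zf11) (kf xf22 yf9 zf11) (kf xf21 yf16 zf9) (kf xf22 yf9 zf15) (kf xf21 yf14 zf37) (kf xf21 yf16 zf8) (kf xf21 yf16 zf35) (kf xf21 yf18 zf18) (kf xf21 yf16 zf31) (kf xf22 yf8 zf19) (kf xf22 yf10 zf18) (kf xf21 yf15 zf14) (kf xf21 yf15 zf30) (kf xf21 yf16 zf16) (kf xf21 yf16 zf17) (kf xf22 yf10 zf4) (kf xf22 yf10 zf5) (kf xf22 yf11 zf30)) (@D3.rec (fun _ => Pt) (kf xf21 yf15 zf15) (kf xf21 yf18 zf12) (kf xf21 yf18 zf13) (kf xf21 yf17 zf7) (kf xf21 yf17 zf4) (kf xf21 yf15 zf20) (kf xf22 yf9 zf44) (kf xf22 yf9 zf28) (kf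 xf21 yf15 zf25) (kf xf21 yf15 zf32) (kf xf22 yf12 zf3) (kf xf22 yf12 zf13) (kf xf21 yf15 zf31) (kf xf22 yf9 zf37) (kf xf22 yf9 zf38) (kf xf21 yf18 zf9) (kf xf22 yf9 zf48) (kf xf22 yf9 zf49) (kf xf22 yf12 zf17) (kf xf22 yf11 zf46) (kf xf21 yf15 zf43) (kf xf21 yf15 zf46) (kf xf22 yf11 zf5) (kf xf22 yf6 zf36) (kf xf22 yf11 zf27) (kf xf22 yf11 zf21) (kf xf22 yf11 zf19) (kf xf22 yf11 zf20) (kf xf22 yf10 zf38) (kf xf22 yf10 zf39) (kf xf22 yf12 zf0) (kf xf22 yf12 zf2) (kf xf22 yf11 zf49) (kf xf22 yf10 zf33) (kf xf21 yf16 zf12) (kf xf22 yf10 zf36) (kf xf22 yf12 zf5) (kf xf22 yf8 zf31) (kf xf22 yf8 zf33) (kf xf22 yf7 zf15) (kf xf22 yf11 zf4) (kf xf22 yf10 zf14) (kf xf22 yf10 zf12) (kf xf22 yf10 zf13) (kf xf21 yf16 zf26) (kf xf22 yf4 zf36) (kf xf22 yf5 zf6) (kf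 xf22 yf11 zf7) (kf xf22 yf10 zf44) (kf xf22 yf6 zf42) (kf xf22 yf6 zf43)) (@D3.rec (fun _ => Pt) (kf xf22 yf10 zf43) (kf xf22 yf10 zf45) (kf xf22 yf10 zf42) (kf xf22 yf12 zf41) (kf xf22 yf7 zf10) (kf xf21 yf16 zf46) (kf xf22 yf7 zf8) (kf xf21 yf16 zf49) (kf xf22 yf7 zf9) (kf xf22 yf12 zf45) (kf xf22 yf12 zf10) (kf xf21 yf17 zf3) (kf xf22 yf12 zf8) (kf xf21 yf17 zf6) (kf xf22 yf12 zf9) (kf xf21 yf17 zf9) (kf xf22 yf5 zf35) (kf xf22 yf5 zf36) (kf xf22 yf6 zf34) (kf xf22 yf6 zf35) (kf xf22 yf7 zf7) (kf xf22 yf9 zf39) (kf xf22 yf9 zf40) (kf xf22 yf7 zf36) (kf xf22 yf7 zf37) (kf xf21 yf18 zf14) (kf xf22 yf9 zf26) (kf xf22 yf9 zf27) (kf xf22 yf5 zf29) (kf xf22 yf5 zf30) (kf xf22 yf9 zf36) (kf xf22 yf11 zf15) (kf xf22 yf9 zf45) (kf xf22 yf9 zf46) (kf xf22 yf9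 zf25) (kf xf22 yf5 zf33) (kf xf22 yf5 zf34) (kf xf21 yf18 zf4) (kf xf21 yf18 zf2) (kf xf21 yf18 zf3) (kf xf21 yf18 zf1) (kf xf22 yf13 zf13) (kf xf22 yf13 zf12) (kf xf22 yf13 zf10) (kf xf22 yf13 zf11) (kf xf22 yf10 zf0) (kf xf22 yf10 zf1) (kf xf22 yf10 zf3) (kf xf22 yf11 zf31) (kf xf22 yf12 zf7) (kf xf22 yf13 zf2)) (@D3.rec (fun _ => Pt) (kf xf22 yf9 zf47) (kf xf22 yf7 zf22) (kf xf21 yf18 zf21) (kf xf21 yf18 zf27) (kf xf21 yf18 zf28) (kf xf22 yf13 zf23) (kf xf21 yf20 zf49) (kf xf21 yf20 zf50) (kf xf21 yf21 zf0) (kf xf22 yf13 zf28) (kf xf22 yf13 zf29) (kf xf21 yf18 zf33) (kf xf21 yf18 zf34) (kf xf21 yf19 zf34) (kf xf22 yf13 zf32) (kf xf22 yf13 zf34) (kf xf21 yf18 zf39) (kf xf21 yf18 zf40) (kf xf21 yf25 zf5) (kf xf22 yf13 zf39) (kf xf22 yf13 zf41) (kf xf21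 yf18 zf44) (kf xf21 yf18 zf45) (kf xf22 yf13 zf45) (kf xf21 yf25 zf29) (kf xf21 yf18 zf48) (kf xf21 yf26 zf0) (kf xf21 yf21 zf18) (kf xf21 yf21 zf19) (kf xf21 yf21 zf20) (kf xf21 yf21 zf21) (kf xf22 yf14 zf1) (kf xf22 yf1 zf27) (kf xf21 yf19 zf4) (kf xf22 yf1 zf1) (kf xf21 yf19 zf8) (kf xf22 yf2 zf45) (kf xf22 yf14 zf6) (kf xf22 yf1 zf7) (kf xf21 yf19 zf12) (kf xf22 yf0 zf16) (kf xf21 yf21 zf35) (kf xf21 yf21 zf36) (kf xf22 yf14 zf10) (kf xf22 yf14 zf12) (kf xf21 yf19 zf19) (kf xf21 yf19 zf20) (kf xf22 yf14 zf15) (kf xf21 yf19 zf22) (kf xf22 yf14 zf16) (kf xf21 yf19 zf23)) (@D3.rec (fun _ => Pt) (kf xf22 yf13 zf36) (kf xf21 yf21 zf47) (kf xf21 yf21 zf48) (kf xf21 yf26 zf34) (kf xf21 yf19 zf31) (kf xf22 yf13 zf30) (kf xf22 yf2 zf46) (kf xf22 yf1 zf6) (kf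 xf21 yf19 zf37) (kf xf21 yf26 zf11) (kf xf22 yf14 zf21) (kf xf22 yf14 zf23) (kf xf21 yf19 zf45) (kf xf21 yf19 zf46) (kf xf22 yf14 zf25) (kf xf22 yf14 zf27) (kf xf21 yf19 zf48) (kf xf22 yf14 zf29) (kf xf21 yf19 zf49) (kf xf21 yf26 zf13) (kf xf21 yf23 zf28) (kf xf21 yf20 zf2) (kf xf21 yf21 zf2) (kf xf21 yf22 zf12) (kf xf21 yf26 zf12) (kf xf21 yf23 zf27) (kf xf21 yf22 zf18) (kf xf21 yf23 zf29) (kf xf21 yf23 zf30) (kf xf22 yf3 zf28) (kf xf22 yf3 zf29) (kf xf21 yf26 zf48) (kf xf21 yf26 zf49) (kf xf22 yf3 zf35) (kf xf22 yf3 zf36) (kf xf22 yf3 zf16) (kf xf22 yf3 zf17) (kf xf21 yf24 zf30) (kf xf21 yf22 zf23) (kf xf22 yf14 zf43) (kf xf21 yf20 zf30) (kf xf22 yf14 zf45) (kf xf22 yf14 zf47) (kf xf21 yf20 zf33) (kf xf21 yf20 zf34) (kf xf21 yf21 zf6) (kf xf22 yf14 zf50)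 (kf xf22 yf15 zf1) (kf xf21 yf20 zf38) (kf xf21 yf20 zf39) (kf xf21 yf26 zf33)) (@D3.rec (fun _ => Pt) (kf xf21 yf20 zf42) (kf xf21 yf21 zf4) (kf xf22 yf15 zf5) (kf xf22 yf15 zf7) (kf xf21 yf20 zf46) (kf xf21 yf20 zf47) (kf xf22 yf13 zf24) (kf xf22 yf13 zf25) (kf xf22 yf13 zf26) (kf xf22 yf14 zf32) (kf xf22 yf15 zf3) (kf xf21 yf21 zf3) (kf xf22 yf14 zf48) (kf xf22 yf15 zf13) (kf xf21 yf21 zf7) (kf xf22 yf15 zf14) (kf xf21 yf21 zf8) (kf xf21 yf21 zf45) (kf xf22 yf15 zf17) (kf xf21 yf21 zf11) (kf xf22 yf15 zf19) (kf xf21 yf21 zf12) (kf xf22 yf15 zf21) (kf xf21 yf21 zf15) (kf xf21 yf25 zf50) (kf xf22 yf13 zf47) (kf xf22 yf13 zf48) (kf xf22 yf13 zf49) (kf xf22 yf13 zf50) (kf xf22 yf15 zf27) (kf xf22 yf15 zf29) (kf xf21 yf21 zf23) (kf xf21 yf21 zf24) (kf xf22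 yf14 zf13) (kf xf22 yf3 zf18) (kf xf22 yf3 zf19) (kf xf22 yf2 zf23) (kf xf21 yf22 zf45) (kf xf22 yf1 zf25) (kf xf22 yf1 zf26) (kf xf21 yf21 zf33) (kf xf22 yf14 zf8) (kf xf22 yf2 zf49) (kf xf22 yf2 zf50) (kf xf22 yf0 zf41) (kf xf22 yf0 zf42) (kf xf22 yf15 zf39) (kf xf21 yf21 zf41) (kf xf21 yf21 zf43) (kf xf22 yf15 zf15) (kf xf22 yf14 zf18)) (@D3.rec (fun _ => Pt) (kf xf21 yf25 zf6) (kf xf21 yf24 zf45) (kf xf22 yf15 zf45) (kf xf21 yf22 zf1) (kf xf22 yf15 zf47) (kf xf21 yf22 zf2) (kf xf21 yf24 zf27) (kf xf22 yf3 zf20) (kf xf22 yf3 zf6) (kf xf22 yf3 zf8) (kf xf22 yf3 zf4) (kf xf22 yf16 zf4) (kf xf22 yf14 zf42) (kf xf21 yf22 zf22) (kf xf22 yf16 zf7) (kf xf22 yf2 zf39) (kf xf21 yf22 zf26) (kf xf21 yf22 zf29) (kf xf21 yf24 zf1) (kf xf21 yf24 zf2) (kf xf22 yf16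 zf11) (kf xf21 yf22 zf34) (kf xf22 yf4 zf1) (kf xf21 yf22 zf35) (kf xf22 yf16 zf13) (kf xf22 yf15 zf34) (kf xf21 yf22 zf44) (kf xf21 yf25 zf40) (kf xf22 yf16 zf17) (kf xf22 yf16 zf19) (kf xf21 yf22 zf49) (kf xf21 yf22 zf50) (kf xf22 yf13 zf44) (kf xf21 yf23 zf35) (kf xf21 yf23 zf2) (kf xf21 yf25 zf38) (kf xf22 yf3 zf23) (kf xf22 yf3 zf24) (kf xf21 yf24 zf8) (kf xf22 yf16 zf26) (kf xf21 yf23 zf9) (kf xf22 yf16 zf27) (kf xf21 yf23 zf10) (kf xf22 yf13 zf37) (kf xf21 yf24 zf7) (kf xf21 yf24 zf6) (kf xf21 yf24 zf26) (kf xf21 yf24 zf25) (kf xf21 yf24 zf28) (kf xf22 yf14 zf33) (kf xf22 yf14 zf31)) (@D3.rec (fun _ => Pt) (kf xf22 yf14 zf34) (kf xf22 yf14 zf35) (kf xf22 yf16 zf34) (kf xf21 yf23 zf31) (kf xf21 yf23 zf32) (kf xf22 yf16 zf21) (kf xf22 yf0 zf14) (kf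 xf22 yf16 zf38) (kf xf21 yf23 zf38) (kf xf22 yf16 zf40) (kf xf21 yf23 zf39) (kf xf22 yf0 zf15) (kf xf21 yf24 zf21) (kf xf21 yf26 zf16) (kf xf22 yf16 zf44) (kf xf21 yf23 zf43) (kf xf22 yf16 zf47) (kf xf21 yf23 zf44) (kf xf22 yf16 zf50) (kf xf22 yf1 zf42) (kf xf21 yf26 zf39) (kf xf21 yf23 zf47) (kf xf22 yf0 zf12) (kf xf22 yf0 zf11) (kf xf22 yf16 zf9) (kf xf22 yf0 zf34) (kf xf22 yf0 zf35) (kf xf22 yf0 zf6) (kf xf22 yf16 zf29) (kf xf22 yf16 zf24) (kf xf22 yf16 zf1) (kf xf22 yf2 zf37) (kf xf21 yf24 zf9) (kf xf22 yf2 zf38) (kf xf22 yf17 zf8) (kf xf21 yf24 zf13) (kf xf22 yf17 zf9) (kf xf21 yf24 zf14) (kf xf22 yf1 zf20) (kf xf22 yf17 zf12) (kf xf21 yf24 zf17) (kf xf21 yf24 zf19) (kf xf22 yf16 zf41) (kf xf22 yf0 zf5) (kf xf22 yf16 zf30) (kf xf22 yf15 zf46) (kf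 xf22 yf15 zf48) (kf xf22 yf14 zf40) (kf xf21 yf24 zf29) (kf xf22 yf14 zf41) (kf xf21 yf24 zf32)) (@D3.rec (fun _ => Pt) (kf xf22 yf17 zf18) (kf xf21 yf24 zf36) (kf xf22 yf17 zf20) (kf xf21 yf24 zf37) (kf xf22 yf17 zf22) (kf xf21 yf24 zf40) (kf xf22 yf17 zf24) (kf xf21 yf24 zf41) (kf xf22 yf15 zf42) (kf xf21 yf24 zf43) (kf xf22 yf15 zf43) (kf xf22 yf1 zf34) (kf xf21 yf26 zf15) (kf xf21 yf24 zf48) (kf xf22 yf0 zf10) (kf xf22 yf1 zf36) (kf xf22 yf1 zf4) (kf xf22 yf13 zf35) (kf xf21 yf26 zf14) (kf xf21 yf26 zf17) (kf xf21 yf26 zf18) (kf xf22 yf0 zf1) (kf xf22 yf0 zf7) (kf xf22 yf0 zf8) (kf xf22 yf0 zf36) (kf xf22 yf3 zf34) (kf xf22 yf3 zf26) (kf xf22 yf3 zf27) (kf xf22 yf2 zf7) (kf xf22 yf17 zf40) (kf xf21 yf25 zf24) (kf xf22 yf17 zf43) (kf xf21 yf25 zf25)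 (kf xf22 yf1 zf14) (kf xf22 yf13 zf43) (kf xf21 yf26 zf2) (kf xf22 yf3 zf30) (kf xf22 yf2 zf13) (kf xf22 yf2 zf14) (kf xf22 yf3 zf21) (kf xf22 yf3 zf22) (kf xf22 yf16 zf22) (kf xf21 yf25 zf37) (kf xf22 yf16 zf15) (kf xf22 yf2 zf6) (kf xf22 yf3 zf32) (kf xf22 yf3 zf33) (kf xf22 yf4 zf0) (kf xf22 yf2 zf16) (kf xf22 yf2 zf17) (kf xf22 yf13 zf46)) (@D3.rec (fun _ => Pt) (kf xf22 yf3 zf45) (kf xf22 yf3 zf46) (kf xf21 yf26 zf27) (kf xf22 yf3 zf47) (kf xf22 yf1 zf48) (kf xf22 yf1 zf49) (kf xf22 yf14 zf28) (kf xf22 yf14 zf30) (kf xf22 yf17 zf27) (kf xf22 yf17 zf29) (kf xf22 yf16 zf42) (kf xf22 yf17 zf31) (kf xf22 yf2 zf42) (kf xf22 yf2 zf43) (kf xf22 yf2 zf41) (kf xf22 yf18 zf14) (kf xf21 yf26 zf21) (kf xf21 yf26 zf22) (kf xf22 yf1 zf43) (kf xf22 yf18 zf2) (kf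 xf21 yf26 zf26) (kf xf22 yf18 zf3) (kf xf21 yf26 zf29) (kf xf22 yf1 zf5) (kf xf22 yf15 zf2) (kf xf22 yf18 zf19) (kf xf21 yf26 zf35) (kf xf22 yf18 zf22) (kf xf21 yf26 zf36) (kf xf22 yf16 zf49) (kf xf21 yf26 zf46) (kf xf22 yf18 zf25) (kf xf21 yf26 zf41) (kf xf22 yf2 zf33) (kf xf22 yf18 zf21) (kf xf21 yf26 zf43) (kf xf22 yf2 zf35) (kf xf22 yf14 zf37) (kf xf22 yf2 zf28) (kf xf22 yf2 zf29) (kf xf22 yf0 zf30) (kf xf22 yf17 zf32) (kf xf22 yf3 zf2) (kf xf22 yf3 zf0) (kf xf22 yf2 zf48) (kf xf22 yf3 zf1) (kf xf22 yf17 zf3) (kf xf22 yf17 zf4) (kf xf22 yf17 zf33) (kf xf22 yf0 zf31) (kf xf22 yf0 zf33)) (@D3.rec (fun _ => Pt) (kf xf22 yf17 zf0) (kf xf22 yf16 zf36) (kf xf22 yf16 zf39) (kf xf22 yf14 zf7) (kf xf22 yf2 zf40) (kf xf22 yf2 zf22) (kf xf22 yf0 zf29) (kf xf22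 yf2 zf47) (kf xf22 yf0 zf39) (kf xf22 yf0 zf40) (kf xf22 yf18 zf29) (kf xf22 yf18 zf30) (kf xf22 yf18 zf37) (kf xf22 yf17 zf2) (kf xf22 yf17 zf34) (kf xf22 yf3 zf31) (kf xf22 yf18 zf39) (kf xf22 yf18 zf34) (kf xf22 yf15 zf37) (kf xf22 yf2 zf26) (kf xf22 yf2 zf27) (kf xf22 yf2 zf25) (kf xf22 yf0 zf45) (kf xf22 yf0 zf47) (kf xf22 yf18 zf49) (kf xf22 yf0 zf50) (kf xf22 yf14 zf3) (kf xf22 yf2 zf24) (kf xf22 yf18 zf15) (kf xf22 yf14 zf5) (kf xf22 yf1 zf50) (kf xf22 yf3 zf48) (kf xf22 yf17 zf41) (kf xf22 yf1 zf13) (kf xf22 yf17 zf44) (kf xf22 yf19 zf3) (kf xf22 yf1 zf16) (kf xf22 yf19 zf5) (kf xf22 yf1 zf17) (kf xf22 yf17 zf10) (kf xf22 yf19 zf8) (kf xf22 yf1 zf21) (kf xf22 yf1 zf23) (kf xf22 yf15 zf35) (kf xf22 yf14 zf0) (kf xf22 yf14 zf2) (kf xf22 yf2 zf19)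 (kf xf22 yf19 zf13) (kf xf22 yf1 zf29) (kf xf22 yf2 zf32) (kf xf22 yf17 zf26)) (@D3.rec (fun _ => Pt) (kf xf22 yf2 zf30) (kf xf22 yf17 zf28) (kf xf22 yf2 zf31) (kf xf22 yf2 zf10) (kf xf22 yf16 zf46) (kf xf22 yf2 zf36) (kf xf22 yf18 zf5) (kf xf22 yf3 zf49) (kf xf22 yf3 zf12) (kf xf22 yf3 zf14) (kf xf22 yf3 zf10) (kf xf22 yf17 zf37) (kf xf22 yf17 zf38) (kf xf22 yf2 zf11) (kf xf22 yf17 zf46) (kf xf22 yf18 zf0) (kf xf22 yf19 zf11) (kf xf22 yf2 zf18) (kf xf22 yf19 zf12) (kf xf22 yf15 zf32) (kf xf22 yf15 zf33) (kf xf22 yf18 zf47) (kf xf22 yf18 zf48) (kf xf22 yf18 zf46) (kf xf22 yf18 zf28) (kf xf22 yf19 zf16) (kf xf22 yf19 zf14) (kf xf22 yf18 zf26) (kf xf22 yf19 zf17) (kf xf22 yf17 zf6) (kf xf22 yf16 zf6) (kf xf22 yf16 zf8) (kf xf22 yf18 zf12) (kf xf22 yf18 zf13)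 (kf xf22 yf18 zf11) (kf xf22 yf14 zf4) (kf xf22 yf18 zf32) (kf xf22 yf15 zf36) (kf xf22 yf18 zf33) (kf xf22 yf18 zf31) (kf xf22 yf16 zf0) (kf xf22 yf3 zf3) (kf xf22 yf16 zf2) (kf xf22 yf15 zf50) (kf xf22 yf19 zf21) (kf xf22 yf3 zf9) (kf xf22 yf19 zf22) (kf xf22 yf19 zf20) (kf xf22 yf14 zf39) (kf xf22 yf15 zf31) (kf xf22 yf15 zf49)) (@D3.rec (fun _ => Pt) (kf xf22 yf17 zf47) (kf xf22 yf16 zf23) (kf xf22 yf3 zf50) (kf xf22 yf17 zf36) (kf xf22 yf14 zf36) (kf xf22 yf17 zf45) (kf xf22 yf18 zf43) (kf xf22 yf17 zf49) (kf xf22 yf17 zf35) (kf xf22 yf14 zf38) (kf xf22 yf3 zf43) (kf xf22 yf3 zf44) (kf xf22 yf3 zf42) (kf xf22 yf3 zf41) (kf xf22 yf20 zf2) (kf xf22 yf20 zf3) (kf xf22 yf20 zf1) (kf xf22 yf18 zf1) (kf xf22 yf18 zf4) (kf xf22 yf19 zf0) (kf xf22 yf19 zf19)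 (kf xf22 yf17 zf50) (kf xf22 yf16 zf10) (kf xf22 yf4 zf5) (kf xf22 yf6 zf6) (kf xf22 yf6 zf7) (kf xf22 yf6 zf8) (kf xf22 yf20 zf11) (kf xf22 yf4 zf9) (kf xf22 yf4 zf10) (kf xf22 yf5 zf5) (kf xf22 yf20 zf14) (kf xf22 yf4 zf14) (kf xf22 yf20 zf16) (kf xf22 yf4 zf15) (kf xf22 yf9 zf17) (kf xf22 yf5 zf0) (kf xf22 yf7 zf43) (kf xf22 yf20 zf20) (kf xf22 yf4 zf19) (kf xf22 yf20 zf23) (kf xf22 yf4 zf20) (kf xf22 yf20 zf26) (kf xf22 yf9 zf34) (kf xf22 yf7 zf32) (kf xf22 yf4 zf23) (kf xf22 yf9 zf50) (kf xf22 yf6 zf25) (kf xf22 yf6 zf26) (kf xf22 yf6 zf27) (kf xf22 yf6 zf28)) (@D3.rec (fun _ => Pt) (kf xf22 yf11 zf44) (kf xf22 yf4 zf31) (kf xf22 yf11 zf45) (kf xf22 yf11 zf26) (kf xf22 yf12 zf35) (kf xf22 yf11 zf29) (kf xf22 yf4 zf37) (kf xf22 yf11 zf3) (kf xf22 yf6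 zf41) (kf xf22 yf20 zf35) (kf xf22 yf4 zf43) (kf xf22 yf20 zf36) (kf xf22 yf4 zf44) (kf xf22 yf6 zf33) (kf xf22 yf20 zf39) (kf xf22 yf4 zf47) (kf xf22 yf4 zf49) (kf xf22 yf20 zf17) (kf xf22 yf6 zf50) (kf xf22 yf20 zf12) (kf xf22 yf20 zf43) (kf xf22 yf5 zf10) (kf xf22 yf20 zf45) (kf xf22 yf5 zf11) (kf xf22 yf20 zf47) (kf xf22 yf5 zf14) (kf xf22 yf20 zf49) (kf xf22 yf5 zf15) (kf xf22 yf10 zf6) (kf xf22 yf5 zf17) (kf xf22 yf10 zf7) (kf xf22 yf7 zf50) (kf xf22 yf6 zf9) (kf xf22 yf7 zf49) (kf xf22 yf8 zf0) (kf xf22 yf8 zf1) (kf xf22 yf13 zf4) (kf xf22 yf10 zf37) (kf xf22 yf13 zf9) (kf xf22 yf12 zf48) (kf xf22 yf8 zf47) (kf xf22 yf8 zf49) (kf xf22 yf7 zf12) (kf xf22 yf5 zf39) (kf xf22 yf21 zf11) (kf xf22 yf5 zf41) (kf xf22 yf21 zf13) (kf xf22 yf5 zf42) (kf xf22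 yf6 zf12) (kf xf22 yf21 zf15) (kf xf22 yf5 zf46)) (@D3.rec (fun _ => Pt) (kf xf22 yf21 zf17) (kf xf22 yf5 zf47) (kf xf22 yf10 zf24) (kf xf22 yf6 zf10) (kf xf22 yf21 zf19) (kf xf22 yf6 zf2) (kf xf22 yf21 zf20) (kf xf22 yf6 zf3) (kf xf22 yf20 zf8) (kf xf22 yf20 zf9) (kf xf22 yf20 zf10) (kf xf22 yf21 zf12) (kf xf22 yf21 zf24) (kf xf22 yf6 zf13) (kf xf22 yf6 zf15) (kf xf22 yf6 zf49) (kf xf22 yf21 zf28) (kf xf22 yf6 zf18) (kf xf22 yf21 zf30) (kf xf22 yf6 zf20) (kf xf22 yf21 zf31) (kf xf22 yf6 zf22) (kf xf22 yf20 zf27) (kf xf22 yf20 zf28) (kf xf22 yf20 zf29) (kf xf22 yf20 zf30) (kf xf22 yf21 zf35) (kf xf22 yf6 zf29) (kf xf22 yf21 zf37) (kf xf22 yf6 zf30) (kf xf22 yf20 zf37) (kf xf22 yf12 zf49) (kf xf22 yf12 zf19) (kf xf22 yf12 zf20) (kf xf22 yf7 zf25) (kf xf22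 yf11 zf43) (kf xf22 yf12 zf37) (kf xf22 yf11 zf18) (kf xf22 yf21 zf46) (kf xf22 yf6 zf46) (kf xf22 yf21 zf25) (kf xf22 yf21 zf26) (kf xf22 yf9 zf8) (kf xf22 yf9 zf10) (kf xf22 yf21 zf50) (kf xf22 yf7 zf2) (kf xf22 yf8 zf45) (kf xf22 yf7 zf4) (kf xf22 yf8 zf46) (kf xf22 yf12 zf50) (kf xf22 yf12 zf43)) (@D3.rec (fun _ => Pt) (kf xf22 yf12 zf40) (kf xf22 yf8 zf30) (kf xf22 yf12 zf42) (kf xf22 yf21 zf8) (kf xf22 yf7 zf11) (kf xf22 yf21 zf9) (kf xf22 yf12 zf30) (kf xf22 yf7 zf14) (kf xf22 yf12 zf31) (kf xf22 yf8 zf24) (kf xf22 yf13 zf22) (kf xf22 yf7 zf20) (kf xf22 yf21 zf41) (kf xf22 yf7 zf24) (kf xf22 yf21 zf42) (kf xf22 yf9 zf43) (kf xf22 yf22 zf12) (kf xf22 yf7 zf28) (kf xf22 yf22 zf15) (kf xf22 yf7 zf29) (kf xf22 yf20 zf25) (kf xf22 yf8 zf5) (kf xf22 yf9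 zf41) (kf xf22 yf13 zf1) (kf xf22 yf8 zf29) (kf xf22 yf22 zf18) (kf xf22 yf7 zf39) (kf xf22 yf7 zf41) (kf xf22 yf20 zf18) (kf xf22 yf8 zf28) (kf xf22 yf8 zf44) (kf xf22 yf21 zf0) (kf xf22 yf21 zf1) (kf xf22 yf21 zf2) (kf xf22 yf8 zf2) (kf xf22 yf22 zf14) (kf xf22 yf11 zf1) (kf xf22 yf22 zf24) (kf xf22 yf8 zf7) (kf xf22 yf11 zf2) (kf xf22 yf8 zf9) (kf xf22 yf8 zf42) (kf xf22 yf10 zf10) (kf xf22 yf22 zf30) (kf xf22 yf8 zf14) (kf xf22 yf22 zf33) (kf xf22 yf12 zf4) (kf xf22 yf8 zf16) (kf xf22 yf22 zf35) (kf xf22 yf10 zf29) (kf xf22 yf8 zf18)) (@D3.rec (fun _ => Pt) (kf xf22 yf11 zf0) (kf xf22 yf22 zf7) (kf xf22 yf11 zf13) (kf xf22 yf10 zf46) (kf xf22 yf10 zf47) (kf xf22 yf22 zf2) (kf xf22 yf12 zf29) (kf xf22 yf22 zf41) (kf xf22 yf8 zf34) (kf xf22 yf8 zf36)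 (kf xf22 yf11 zf39) (kf xf22 yf22 zf44) (kf xf22 yf8 zf39) (kf xf22 yf22 zf25) (kf xf22 yf22 zf27) (kf xf22 yf22 zf0) (kf xf22 yf21 zf7) (kf xf22 yf22 zf49) (kf xf22 yf9 zf0) (kf xf22 yf23 zf0) (kf xf22 yf9 zf2) (kf xf22 yf23 zf1) (kf xf22 yf9 zf4) (kf xf22 yf23 zf2) (kf xf22 yf9 zf6) (kf xf22 yf21 zf48) (kf xf22 yf11 zf50) (kf xf22 yf10 zf8) (kf xf22 yf12 zf1) (kf xf22 yf10 zf9) (kf xf22 yf20 zf15) (kf xf22 yf10 zf11) (kf xf22 yf10 zf41) (kf xf22 yf10 zf48) (kf xf22 yf11 zf14) (kf xf22 yf13 zf8) (kf xf22 yf13 zf3) (kf xf22 yf12 zf11) (kf xf22 yf12 zf12) (kf xf22 yf23 zf11) (kf xf22 yf9 zf29) (kf xf22 yf11 zf32) (kf xf22 yf20 zf22) (kf xf22 yf9 zf31) (kf xf22 yf11 zf34) (kf xf22 yf13 zf5) (kf xf22 yf12 zf14) (kf xf22 yf13 zf0) (kf xf22 yf22 zf10) (kf xf22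 yf13 zf7) (kf xf22 yf13 zf21)) (@D3.rec (fun _ => Pt) (kf xf22 yf12 zf15) (kf xf22 yf13 zf17) (kf xf22 yf10 zf19) (kf xf22 yf10 zf21) (kf xf22 yf13 zf18) (kf xf22 yf12 zf6) (kf xf22 yf20 zf50) (kf xf22 yf23 zf5) (kf xf22 yf22 zf26) (kf xf22 yf22 zf28) (kf xf22 yf23 zf6) (kf xf22 yf12 zf34) (kf xf22 yf12 zf32) (kf xf22 yf12 zf33) (kf xf22 yf10 zf15) (kf xf22 yf11 zf28) (kf xf22 yf23 zf18) (kf xf22 yf21 zf16) (kf xf22 yf23 zf27) (kf xf22 yf10 zf25) (kf xf22 yf22 zf32) (kf xf22 yf10 zf34) (kf xf22 yf10 zf27) (kf xf22 yf22 zf34) (kf xf22 yf23 zf29) (kf xf22 yf10 zf31) (kf xf22 yf12 zf27) (kf xf22 yf21 zf4) (kf xf22 yf12 zf24) (kf xf22 yf11 zf10) (kf xf22 yf11 zf11) (kf xf22 yf12 zf39) (kf xf22 yf12 zf36) (kf xf22 yf12 zf38) (kf xf22 yf11 zf17) (kf xf22 yf22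 zf37) (kf xf22 yf23 zf7) (kf xf22 yf11 zf12) (kf xf22 yf20 zf33) (kf xf22 yf11 zf16) (kf xf22 yf23 zf32) (kf xf22 yf23 zf37) (kf xf22 yf22 zf36) (kf xf22 yf13 zf6) (kf xf22 yf23 zf35) (kf xf22 yf21 zf45) (kf xf22 yf12 zf23) (kf xf22 yf12 zf21) (kf xf22 yf12 zf22) (kf xf22 yf11 zf24) (kf xf22 yf20 zf32)) (@D3.rec (fun _ => Pt) (kf xf22 yf13 zf19) (kf xf22 yf23 zf12) (kf xf22 yf23 zf44) (kf xf22 yf11 zf35) (kf xf22 yf22 zf42) (kf xf22 yf11 zf37) (kf xf22 yf22 zf43) (kf xf22 yf23 zf46) (kf xf22 yf11 zf40) (kf xf22 yf21 zf43) (kf xf22 yf20 zf31) (kf xf22 yf12 zf16) (kf xf22 yf12 zf18) (kf xf22 yf11 zf47) (kf xf22 yf12 zf26) (kf xf22 yf23 zf4) (kf xf22 yf12 zf25) (kf xf22 yf12 zf28) (kf xf22 yf23 zf19) (kf xf22 yf13 zf20) (kf xf22 yf12 zf47) (kf xf22 yf12 zf44)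 (kf xf22 yf12 zf46) (kf xf22 yf23 zf9) (kf xf22 yf23 zf13) (kf xf22 yf23 zf16) (kf xf22 yf23 zf48) (kf xf22 yf21 zf40) (kf xf22 yf23 zf41) (kf xf22 yf23 zf40) (kf xf22 yf23 zf31) (kf xf22 yf23 zf50) (kf xf22 yf23 zf30) (kf xf22 yf22 zf39) (kf xf22 yf22 zf6) (kf xf22 yf23 zf24) (kf xf22 yf23 zf23) (kf xf22 yf23 zf33) (kf xf22 yf21 zf44) (kf xf22 yf23 zf34) (kf xf22 yf22 zf3) (kf xf22 yf22 zf1) (kf xf22 yf24 zf1) (kf xf22 yf24 zf0) (kf xf22 yf21 zf6) (kf xf22 yf21 zf39) (kf xf22 yf23 zf14) (kf xf22 yf22 zf16) (kf xf22 yf23 zf8) (kf xf22 yf21 zf3) (kf xf22 yf23 zf15)) (@D3.rec (fun _ => Pt) (kf xf22 yf21 zf5) (kf xf22 yf13 zf16) (kf xf22 yf13 zf14) (kf xf22 yf13 zf15) (kf xf22 yf24 zf11) (kf xf22 yf24 zf10) (kf xf22 yf23 zf17) (kf xf22 yf22 zf8) (kf xf22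 yf15 zf8) (kf xf22 yf15 zf9) (kf xf22 yf15 zf10) (kf xf22 yf13 zf27) (kf xf22 yf14 zf19) (kf xf22 yf24 zf16) (kf xf22 yf13 zf31) (kf xf22 yf17 zf30) (kf xf22 yf13 zf33) (kf xf22 yf14 zf17) (kf xf22 yf16 zf28) (kf xf22 yf24 zf22) (kf xf22 yf13 zf38) (kf xf22 yf24 zf25) (kf xf22 yf17 zf42) (kf xf22 yf13 zf40) (kf xf22 yf24 zf27) (kf xf22 yf16 zf20) (kf xf22 yf13 zf42) (kf xf22 yf15 zf22) (kf xf22 yf15 zf23) (kf xf22 yf15 zf24) (kf xf22 yf15 zf25) (kf xf22 yf19 zf10) (kf xf22 yf18 zf50) (kf xf22 yf18 zf38) (kf xf22 yf24 zf32) (kf xf22 yf14 zf9) (kf xf22 yf14 zf11) (kf xf22 yf15 zf30) (kf xf22 yf24 zf35) (kf xf22 yf14 zf14) (kf xf22 yf24 zf17) (kf xf22 yf24 zf19) (kf xf22 yf24 zf38) (kf xf22 yf14 zf20) (kf xf22 yf24 zf40) (kf xf22 yf14 zf22) (kf xf22 yf24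 zf41) (kf xf22 yf14 zf24) (kf xf22 yf24 zf42) (kf xf22 yf14 zf26) (kf xf22 yf18 zf6)) (@D3.rec (fun _ => Pt) (kf xf22 yf16 zf31) (kf xf22 yf16 zf32) (kf xf22 yf16 zf33) (kf xf22 yf19 zf49) (kf xf22 yf18 zf27) (kf xf22 yf20 zf0) (kf xf22 yf19 zf44) (kf xf22 yf17 zf16) (kf xf22 yf16 zf3) (kf xf22 yf16 zf5) (kf xf22 yf24 zf49) (kf xf22 yf14 zf44) (kf xf22 yf15 zf11) (kf xf22 yf14 zf46) (kf xf22 yf25 zf0) (kf xf22 yf14 zf49) (kf xf22 yf18 zf17) (kf xf22 yf15 zf0) (kf xf22 yf25 zf2) (kf xf22 yf15 zf4) (kf xf22 yf15 zf6) (kf xf22 yf24 zf13) (kf xf22 yf24 zf14) (kf xf22 yf25 zf4) (kf xf22 yf15 zf12) (kf xf22 yf15 zf40) (kf xf22 yf15 zf41) (kf xf22 yf25 zf6) (kf xf22 yf15 zf16) (kf xf22 yf25 zf8) (kf xf22 yf15 zf18) (kf xf22 yf15 zf20) (kf xf22 yf24 zf28) (kf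 xf22 yf24 zf29) (kf xf22 yf25 zf11) (kf xf22 yf15 zf26) (kf xf22 yf24 zf33) (kf xf22 yf15 zf28) (kf xf22 yf24 zf34) (kf xf22 yf19 zf45) (kf xf22 yf19 zf27) (kf xf22 yf16 zf12) (kf xf22 yf16 zf14) (kf xf22 yf19 zf9) (kf xf22 yf19 zf38) (kf xf22 yf18 zf45) (kf xf22 yf15 zf38) (kf xf22 yf25 zf5) (kf xf22 yf17 zf25) (kf xf22 yf25 zf17) (kf xf22 yf15 zf44)) (@D3.rec (fun _ => Pt) (kf xf22 yf17 zf15) (kf xf22 yf19 zf41) (kf xf22 yf17 zf5) (kf xf22 yf19 zf40) (kf xf22 yf24 zf26) (kf xf22 yf24 zf47) (kf xf22 yf19 zf34) (kf xf22 yf17 zf1) (kf xf22 yf20 zf7) (kf xf22 yf25 zf14) (kf xf22 yf17 zf48) (kf xf22 yf25 zf26) (kf xf22 yf16 zf16) (kf xf22 yf24 zf24) (kf xf22 yf16 zf35) (kf xf22 yf16 zf18) (kf xf22 yf19 zf47) (kf xf22 yf25 zf27) (kf xf22 yf16 zf25) (kf xf22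 yf24 zf18) (kf xf22 yf24 zf20) (kf xf22 yf24 zf44) (kf xf22 yf24 zf45) (kf xf22 yf25 zf30) (kf xf22 yf16 zf37) (kf xf22 yf17 zf13) (kf xf22 yf18 zf8) (kf xf22 yf17 zf14) (kf xf22 yf18 zf9) (kf xf22 yf25 zf33) (kf xf22 yf16 zf43) (kf xf22 yf25 zf36) (kf xf22 yf18 zf20) (kf xf22 yf16 zf45) (kf xf22 yf18 zf23) (kf xf22 yf16 zf48) (kf xf22 yf18 zf42) (kf xf22 yf18 zf35) (kf xf22 yf25 zf19) (kf xf22 yf19 zf33) (kf xf22 yf25 zf38) (kf xf22 yf17 zf7) (kf xf22 yf19 zf4) (kf xf22 yf19 zf6) (kf xf22 yf17 zf11) (kf xf22 yf25 zf31) (kf xf22 yf25 zf18) (kf xf22 yf24 zf46) (kf xf22 yf25 zf41) (kf xf22 yf17 zf17) (kf xf22 yf25 zf43)) (@D3.rec (fun _ => Pt) (kf xf22 yf17 zf19) (kf xf22 yf17 zf21) (kf xf22 yf17 zf23) (kf xf22 yf25 zf16) (kf xf22 yf19 zf15) (kf xf22 yf18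 zf7) (kf xf22 yf18 zf10) (kf xf22 yf18 zf36) (kf xf22 yf19 zf48) (kf xf22 yf19 zf23) (kf xf22 yf25 zf47) (kf xf22 yf17 zf39) (kf xf22 yf19 zf1) (kf xf22 yf19 zf24) (kf xf22 yf19 zf46) (kf xf22 yf19 zf50) (kf xf22 yf19 zf25) (kf xf22 yf20 zf6) (kf xf22 yf18 zf16) (kf xf22 yf19 zf18) (kf xf22 yf24 zf43) (kf xf22 yf25 zf45) (kf xf22 yf25 zf32) (kf xf22 yf19 zf36) (kf xf22 yf19 zf35) (kf xf22 yf25 zf49) (kf xf22 yf26 zf1) (kf xf22 yf18 zf18) (kf xf22 yf25 zf35) (kf xf22 yf18 zf24) (kf xf22 yf19 zf32) (kf xf22 yf19 zf30) (kf xf22 yf18 zf40) (kf xf22 yf19 zf37) (kf xf22 yf19 zf39) (kf xf22 yf18 zf44) (kf xf22 yf25 zf37) (kf xf22 yf18 zf41) (kf xf22 yf26 zf3) (kf xf22 yf26 zf4) (kf xf22 yf19 zf29) (kf xf22 yf19 zf28) (kf xf22 yf25 zf48) (kf xf22 yf26 zf6) (kf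 xf22 yf19 zf2) (kf xf22 yf25 zf39) (kf xf22 yf19 zf7) (kf xf22 yf24 zf30) (kf xf22 yf19 zf26) (kf xf22 yf25 zf44) (kf xf22 yf19 zf31)) (@D3.rec (fun _ => Pt) (kf xf22 yf19 zf43) (kf xf22 yf19 zf42) (kf xf22 yf25 zf46) (kf xf22 yf26 zf8) (kf xf22 yf25 zf13) (kf xf22 yf26 zf5) (kf xf22 yf25 zf23) (kf xf22 yf26 zf0) (kf xf22 yf25 zf20) (kf xf22 yf26 zf9) (kf xf22 yf20 zf5) (kf xf22 yf20 zf4) (kf xf22 yf26 zf10) (kf xf22 yf21 zf21) (kf xf22 yf21 zf22) (kf xf22 yf26 zf12) (kf xf22 yf20 zf13) (kf xf22 yf20 zf40) (kf xf22 yf22 zf19) (kf xf22 yf20 zf41) (kf xf22 yf22 zf20) (kf xf22 yf26 zf15) (kf xf22 yf20 zf19) (kf xf22 yf26 zf18) (kf xf22 yf22 zf13) (kf xf22 yf20 zf21) (kf xf22 yf22 zf4) (kf xf22 yf20 zf24) (kf xf22 yf21 zf32) (kf xf22 yf21 zf33) (kf xf22 yf23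 zf47) (kf xf22 yf26 zf20) (kf xf22 yf20 zf34) (kf xf22 yf21 zf36) (kf xf22 yf21 zf38) (kf xf22 yf20 zf38) (kf xf22 yf26 zf13) (kf xf22 yf26 zf23) (kf xf22 yf20 zf42) (kf xf22 yf26 zf25) (kf xf22 yf20 zf44) (kf xf22 yf20 zf46) (kf xf22 yf20 zf48) (kf xf22 yf23 zf20) (kf xf22 yf22 zf21) (kf xf22 yf22 zf22) (kf xf22 yf22 zf47) (kf xf22 yf22 zf5) (kf xf22 yf26 zf28) (kf xf22 yf21 zf10) (kf xf22 yf26 zf29)) (@D3.rec (fun _ => Pt) (kf xf22 yf21 zf14) (kf xf22 yf26 zf30) (kf xf22 yf21 zf18) (kf xf22 yf26 zf11) (kf xf22 yf21 zf23) (kf xf22 yf21 zf47) (kf xf22 yf21 zf27) (kf xf22 yf26 zf32) (kf xf22 yf21 zf29) (kf xf22 yf26 zf19) (kf xf22 yf26 zf33) (kf xf22 yf21 zf34) (kf xf22 yf26 zf21) (kf xf22 yf24 zf4) (kf xf22 yf22 zf9) (kf xf22 yf26 zf31) (kf xf22 yf23 zf3)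 (kf xf22 yf21 zf49) (kf xf22 yf22 zf46) (kf xf22 yf22 zf38) (kf xf22 yf24 zf8) (kf xf22 yf26 zf17) (kf xf22 yf26 zf27) (kf xf22 yf24 zf6) (kf xf22 yf26 zf35) (kf xf22 yf26 zf37) (kf xf22 yf22 zf11) (kf xf22 yf22 zf17) (kf xf22 yf26 zf14) (kf xf22 yf26 zf26) (kf xf22 yf22 zf23) (kf xf22 yf22 zf45) (kf xf22 yf23 zf22) (kf xf22 yf22 zf29) (kf xf22 yf26 zf42) (kf xf22 yf23 zf28) (kf xf22 yf22 zf31) (kf xf22 yf23 zf36) (kf xf22 yf22 zf40) (kf xf22 yf23 zf45) (kf xf22 yf26 zf39) (kf xf22 yf22 zf48) (kf xf22 yf26 zf44) (kf xf22 yf22 zf50) (kf xf22 yf23 zf49) (kf xf22 yf23 zf21) (kf xf22 yf24 zf2) (kf xf22 yf23 zf10) (kf xf22 yf23 zf42) (kf xf22 yf23 zf25) (kf xf22 yf26 zf40)) (@D3.rec (fun _ => Pt) (kf xf22 yf24 zf7) (kf xf22 yf23 zf26) (kf xf22 yf26 zf41) (kf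 xf22 yf23 zf38) (kf xf22 yf23 zf39) (kf xf22 yf24 zf5) (kf xf22 yf23 zf43) (kf xf22 yf26 zf43) (kf xf22 yf24 zf3) (kf xf22 yf24 zf9) (kf xf22 yf24 zf12) (kf xf22 yf25 zf3) (kf xf22 yf24 zf15) (kf xf22 yf24 zf36) (kf xf22 yf25 zf28) (kf xf22 yf24 zf21) (kf xf22 yf26 zf48) (kf xf22 yf25 zf21) (kf xf22 yf24 zf23) (kf xf22 yf25 zf9) (kf xf22 yf24 zf31) (kf xf22 yf25 zf12) (kf xf22 yf26 zf45) (kf xf22 yf24 zf37) (kf xf22 yf26 zf50) (kf xf22 yf24 zf39) (kf xf22 yf25 zf29) (kf xf22 yf25 zf22) (kf xf22 yf24 zf48) (kf xf22 yf24 zf50) (kf xf22 yf25 zf1) (kf xf22 yf25 zf15) (kf xf22 yf25 zf7) (kf xf22 yf25 zf10) (kf xf22 yf26 zf49) (kf xf22 yf25 zf24) (kf xf22 yf26 zf47) (kf xf22 yf25 zf25) (kf xf22 yf26 zf46) (kf xf22 yf25 zf40) (kf xf22 yf25 zf50) (kf xf22 yf26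 zf2) (kf xf22 yf25 zf34) (kf xf22 yf26 zf7) (kf xf22 yf25 zf42) (kf xf22 yf26 zf22) (kf xf22 yf26 zf38) (kf xf22 yf26 zf36) (kf xf22 yf26 zf16) (kf xf22 yf26 zf34) (kf xf22 yf26 zf24))
def f_f : Pt → Pt := @Pt.rec (fun _ => Pt) (@D1.rec (fun _ => D2 → D3 → Pt) f_f_0 f_f_1 f_f_2 f_f_3 f_f_4 f_f_5 f_f_6 f_f_7 f_f_8 f_f_9 f_f_10 f_f_11 f_f_12 f_f_13 f_f_14 f_f_15 f_f_16 f_f_17 f_f_18 f_f_19 f_f_20 f_f_21 f_f_22)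
def fi_f : Pt → Pt := f_f

theorem inv_chk_f : chkInv allPts beqPt f_f fi_f = true := by decide +kernel

end

end Cfsg.Agent.Helper28.S1689
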