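import Cfsg.Agent.Lib.Helper28.S1689.Defs

set_option autoImplicit false
set_option maxRecDepth 100000
set_option linter.all false

namespace Cfsg.Agent.Helper28.S1689

open Cfsg.Agent.Helper28
open Cfsg.Spor.Fi23 (Gen)

noncomputable section

abbrev kg := Pt.mk
abbrev xg0 := D1.c0
abbrev xg1 := D1.c1
abbrev xg2 := D1.c2
abbrev xg3 := D1.c3
abbrev xg4 := D1.c4
abbrev xg5 := D1.c5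
abbrev xg6 := D1.c6
abbrev xg7 := D1.c7
abbrev xg8 := D1.c8
abbrev xg9 := D1.c9
abbrev xg10 := D1.c10
abbrev xg11 := D1.c11
abbrev xg12 := D1.c12
abbrev xg13 := D1.c13
abbrev xg14 := D1.c14
abbrev xg15 := D1.c15
abbrev xg16 := D1.c16
abbrev xg17 := D1.c17
abbrev xg18 := D1.c18
abbrev xg19 := D1.c19
abbrev xg20 := D1.c20
abbrev xg21 := D1.c21
abbrev xg22 := D1.c22
abbrev yg0 := D2.c0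
abbrev yg1 := D2.c1
abbrev yg2 := D2.c2
abbrev yg3 := D2.c3
abbrev yg4 := D2.c4
abbrev yg5 := D2.c5
abbrev yg6 := D2.c6
abbrev yg7 := D2.c7
abbrev yg8 := D2.c8
abbrev yg9 := D2.c9
abbrev yg10 := D2.c10
abbrev yg11 := D2.c11
abbrev yg12 := D2.c12
abbrev yg13 := D2.c13
abbrev yg14 := D2.c14
abbrev yg15 := D2.c15
abbrev yg16 := D2.c16
abbrev yg17 := D2.c17
abbrev yg18 := D2.c18
abbrev yg19 := D2.c19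
abbrev yg20 := D2.c20
abbrev yg21 := D2.c21
abbrev yg22 := D2.c22
abbrev yg23 := D2.c23
abbrev yg24 := D2.c24
abbrev yg25 := D2.c25
abbrev yg26 := D2.c26
abbrev zg0 := D3.c0
abbrev zg1 := D3.c1
abbrev zg2 := D3.c2
abbrev zg3 := D3.c3
abbrev zg4 := D3.c4
abbrev zg5 := D3.c5
abbrev zg6 := D3.c6
abbrev zg7 := D3.c7
abbrev zg8 := D3.c8
abbrev zg9 := D3.c9
abbrev zg10 := D3.c10
abbrev zg11 := D3.c11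
abbrev zg12 := D3.c12
abbrev zg13 := D3.c13
abbrev zg14 := D3.c14
abbrev zg15 := D3.c15
abbrev zg16 := D3.c16
abbrev zg17 := D3.c17
abbrev zg18 := D3.c18
abbrev zg19 := D3.c19
abbrev zg20 := D3.c20
abbrev zg21 := D3.c21
abbrev zg22 := D3.c22
abbrev zg23 := D3.c23
abbrev zg24 := D3.c24
abbrev zg25 := D3.c25
abbrev zg26 := D3.c26
abbrev zg27 := D3.c27
abbrev zg28 := D3.c28
abbrev zg29 := D3.c29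
abbrev zg30 := D3.c30
abbrev zg31 := D3.c31
abbrev zg32 := D3.c32
abbrev zg33 := D3.c33
abbrev zg34 := D3.c34
abbrev zg35 := D3.c35
abbrev zg36 := D3.c36
abbrev zg37 := D3.c37
abbrev zg38 := D3.c38
abbrev zg39 := D3.c39
abbrev zg40 := D3.c40
abbrev zg41 := D3.c41
abbrev zg42 := D3.c42
abbrev zg43 := D3.c43
abbrev zg44 := D3.c44
abbrev zg45 := D3.c45
abbrev zg46 := D3.c46
abbrev zg47 := D3.c47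
abbrev zg48 := D3.c48
abbrev zg49 := D3.c49
abbrev zg50 := D3.c50
def f_g_0 : D2 → D3 → Pt := @D2.rec (fun _ => D3 → Pt) (@D3.rec (fun _ => Pt) (kg xg0 yg0 zg0) (kg xg0 yg0 zg2) (kg xg0 yg0 zg1) (kg xg0 yg0 zg3) (kg xg0 yg0 zg4) (kg xg0 yg0 zg5) (kg xg0 yg0 zg6) (kg xg0 yg0 zg7) (kg xg0 yg0 zg8) (kg xg0 yg0 zg9) (kg xg0 yg0 zg10) (kg xg0 yg0 zg11) (kg xg0 yg0 zg12) (kg xg0 yg0 zg13) (kg xg0 yg0 zg14) (kg xg0 yg0 zg15) (kg xg0 yg0 zg16) (kg xg0 yg0 zg17) (kg xg0 yg0 zg18) (kg xg0 yg0 zg19) (kg xg0 yg0 zg20) (kg xg0 yg0 zg21) (kg xg0 yg0 zg22) (kg xg0 yg0 zg23) (kg xg0 yg0 zg24) (kg xg0 yg0 zg36) (kg xg0 yg0 zg26) (kg xg0 yg0 zg27) (kg xg0 yg0 zg28) (kg xg0 yg0 zg29) (kg xg0 yg0 zg30) (kg xg0 yg0 zg31) (kg xg0 yg0 zg32) (kg xg0 yg0 zg49) (kg xg0 yg0 zg34)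 (kg xg0 yg0 zg35) (kg xg0 yg0 zg25) (kg xg0 yg1 zg2) (kg xg0 yg0 zg38) (kg xg0 yg0 zg39) (kg xg0 yg0 zg40) (kg xg0 yg0 zg41) (kg xg0 yg1 zg11) (kg xg0 yg0 zg43) (kg xg0 yg0 zg44) (kg xg0 yg0 zg45) (kg xg0 yg1 zg17) (kg xg0 yg0 zg47) (kg xg0 yg0 zg48) (kg xg0 yg0 zg33) (kg xg0 yg1 zg22)) (@D3.rec (fun _ => Pt) (kg xg0 yg1 zg0) (kg xg0 yg1 zg1) (kg xg0 yg0 zg37) (kg xg0 yg1 zg26) (kg xg0 yg1 zg4) (kg xg0 yg1 zg5) (kg xg0 yg1 zg6) (kg xg0 yg1 zg7) (kg xg0 yg1 zg36) (kg xg0 yg1 zg9) (kg xg0 yg1 zg10) (kg xg0 yg0 zg42) (kg xg0 yg1 zg41) (kg xg0 yg1 zg13) (kg xg0 yg1 zg45) (kg xg0 yg1 zg15) (kg xg0 yg1 zg16) (kg xg0 yg0 zg46) (kg xg0 yg2 zg0) (kg xg0 yg1 zg19) (kg xg0 yg1 zg20) (kg xg0 yg1 zg21) (kg xg0 yg0 zg50) (kg xg0 yg2 zg5) (kg xg0 yg1 zg24) (kg xg0 yg1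 zg25) (kg xg0 yg1 zg3) (kg xg0 yg2 zg9) (kg xg0 yg1 zg28) (kg xg0 yg1 zg29) (kg xg0 yg2 zg17) (kg xg0 yg1 zg31) (kg xg0 yg1 zg32) (kg xg0 yg2 zg22) (kg xg0 yg1 zg34) (kg xg0 yg1 zg35) (kg xg0 yg1 zg8) (kg xg0 yg2 zg28) (kg xg0 yg1 zg38) (kg xg0 yg1 zg39) (kg xg0 yg1 zg40) (kg xg0 yg1 zg12) (kg xg0 yg2 zg33) (kg xg0 yg1 zg43) (kg xg0 yg2 zg36) (kg xg0 yg1 zg14) (kg xg0 yg2 zg40) (kg xg0 yg2 zg41) (kg xg0 yg1 zg48) (kg xg0 yg1 zg49) (kg xg0 yg1 zg50)) (@D3.rec (fun _ => Pt) (kg xg0 yg1 zg18) (kg xg0 yg2 zg47) (kg xg0 yg2 zg2) (kg xg0 yg2 zg3) (kg xg0 yg2 zg4) (kg xg0 yg1 zg23) (kg xg0 yg3 zg2) (kg xg0 yg2 zg7) (kg xg0 yg2 zg8) (kg xg0 yg1 zg27) (kg xg0 yg3 zg7) (kg xg0 yg3 zg8) (kg xg0 yg2 zg12) (kg xg0 yg2 zg13) (kg xg0 yg3 zg16) (kg xg0 yg2 zg15) (kg xg0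 yg2 zg16) (kg xg0 yg1 zg30) (kg xg0 yg3 zg22) (kg xg0 yg2 zg19) (kg xg0 yg2 zg20) (kg xg0 yg3 zg27) (kg xg0 yg1 zg33) (kg xg0 yg3 zg31) (kg xg0 yg3 zg32) (kg xg0 yg2 zg25) (kg xg0 yg2 zg26) (kg xg0 yg2 zg27) (kg xg0 yg1 zg37) (kg xg0 yg3 zg38) (kg xg0 yg2 zg30) (kg xg0 yg2 zg31) (kg xg0 yg2 zg32) (kg xg0 yg1 zg42) (kg xg0 yg3 zg44) (kg xg0 yg2 zg35) (kg xg0 yg1 zg44) (kg xg0 yg3 zg50) (kg xg0 yg4 zg0) (kg xg0 yg2 zg39) (kg xg0 yg1 zg46) (kg xg0 yg1 zg47) (kg xg0 yg4 zg6) (kg xg0 yg4 zg7) (kg xg0 yg2 zg44) (kg xg0 yg2 zg45) (kg xg0 yg2 zg46) (kg xg0 yg2 zg1) (kg xg0 yg4 zg14) (kg xg0 yg2 zg49) (kg xg0 yg2 zg50)) (@D3.rec (fun _ => Pt) (kg xg0 yg4 zg20) (kg xg0 yg3 zg1) (kg xg0 yg2 zg6) (kg xg0 yg4 zg22) (kg xg0 yg4 zg23) (kg xg0 yg3 zg5) (kg xg0 yg3 zg6)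 (kg xg0 yg2 zg10) (kg xg0 yg2 zg11) (kg xg0 yg4 zg29) (kg xg0 yg4 zg30) (kg xg0 yg3 zg11) (kg xg0 yg4 zg36) (kg xg0 yg3 zg13) (kg xg0 yg3 zg14) (kg xg0 yg4 zg42) (kg xg0 yg2 zg14) (kg xg0 yg4 zg46) (kg xg0 yg4 zg47) (kg xg0 yg3 zg19) (kg xg0 yg3 zg20) (kg xg0 yg3 zg21) (kg xg0 yg2 zg18) (kg xg0 yg5 zg2) (kg xg0 yg3 zg24) (kg xg0 yg3 zg25) (kg xg0 yg3 zg26) (kg xg0 yg2 zg21) (kg xg0 yg5 zg10) (kg xg0 yg5 zg11) (kg xg0 yg3 zg30) (kg xg0 yg2 zg23) (kg xg0 yg2 zg24) (kg xg0 yg5 zg17) (kg xg0 yg5 zg18) (kg xg0 yg3 zg35) (kg xg0 yg3 zg36) (kg xg0 yg3 zg37) (kg xg0 yg2 zg29) (kg xg0 yg5 zg25) (kg xg0 yg3 zg40) (kg xg0 yg3 zg41) (kg xg0 yg5 zg31) (kg xg0 yg3 zg43) (kg xg0 yg2 zg34) (kg xg0 yg5 zg33) (kg xg0 yg5 zg34) (kg xg0 yg3 zg47) (kg xg0 yg3 zg48) (kg xg0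 yg3 zg49) (kg xg0 yg2 zg37)) (@D3.rec (fun _ => Pt) (kg xg0 yg2 zg38) (kg xg0 yg5 zg43) (kg xg0 yg5 zg44) (kg xg0 yg5 zg45) (kg xg0 yg4 zg4) (kg xg0 yg4 zg5) (kg xg0 yg2 zg42) (kg xg0 yg2 zg43) (kg xg0 yg6 zg1) (kg xg0 yg6 zg2) (kg xg0 yg4 zg10) (kg xg0 yg4 zg11) (kg xg0 yg4 zg12) (kg xg0 yg4 zg13) (kg xg0 yg2 zg48) (kg xg0 yg6 zg12) (kg xg0 yg6 zg13) (kg xg0 yg4 zg17) (kg xg0 yg4 zg18) (kg xg0 yg6 zg20) (kg xg0 yg3 zg0) (kg xg0 yg4 zg21) (kg xg0 yg3 zg3) (kg xg0 yg3 zg4) (kg xg0 yg6 zg24) (kg xg0 yg6 zg25) (kg xg0 yg4 zg26) (kg xg0 yg4 zg27) (kg xg0 yg4 zg28) (kg xg0 yg3 zg9) (kg xg0 yg3 zg10) (kg xg0 yg4 zg31) (kg xg0 yg6 zg33) (kg xg0 yg6 zg34) (kg xg0 yg6 zg35) (kg xg0 yg6 zg41) (kg xg0 yg3 zg12) (kg xg0 yg6 zg45) (kg xg0 yg6 zg46) (kg xg0 yg4 zg39)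 (kg xg0 yg4 zg40) (kg xg0 yg4 zg41) (kg xg0 yg3 zg15) (kg xg0 yg7 zg5) (kg xg0 yg7 zg6) (kg xg0 yg4 zg45) (kg xg0 yg3 zg17) (kg xg0 yg3 zg18) (kg xg0 yg7 zg12) (kg xg0 yg7 zg13) (kg xg0 yg4 zg50)) (@D3.rec (fun _ => Pt) (kg xg0 yg5 zg0) (kg xg0 yg5 zg1) (kg xg0 yg3 zg23) (kg xg0 yg7 zg20) (kg xg0 yg5 zg4) (kg xg0 yg5 zg5) (kg xg0 yg5 zg6) (kg xg0 yg7 zg28) (kg xg0 yg5 zg8) (kg xg0 yg5 zg9) (kg xg0 yg3 zg28) (kg xg0 yg3 zg29) (kg xg0 yg7 zg34) (kg xg0 yg7 zg35) (kg xg0 yg7 zg36) (kg xg0 yg5 zg15) (kg xg0 yg5 zg16) (kg xg0 yg3 zg33) (kg xg0 yg3 zg34) (kg xg0 yg7 zg43) (kg xg0 yg7 zg44) (kg xg0 yg5 zg21) (kg xg0 yg5 zg22) (kg xg0 yg5 zg23) (kg xg0 yg5 zg24) (kg xg0 yg3 zg39) (kg xg0 yg8 zg3) (kg xg0 yg8 zg4) (kg xg0 yg5 zg28) (kg xg0 yg5 zg29) (kg xg0 yg8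 zg11) (kg xg0 yg3 zg42) (kg xg0 yg5 zg32) (kg xg0 yg3 zg45) (kg xg0 yg3 zg46) (kg xg0 yg8 zg15) (kg xg0 yg8 zg16) (kg xg0 yg5 zg37) (kg xg0 yg8 zg21) (kg xg0 yg5 zg39) (kg xg0 yg5 zg40) (kg xg0 yg5 zg41) (kg xg0 yg5 zg42) (kg xg0 yg4 zg1) (kg xg0 yg4 zg2) (kg xg0 yg4 zg3) (kg xg0 yg8 zg30) (kg xg0 yg8 zg31) (kg xg0 yg8 zg32) (kg xg0 yg8 zg33) (kg xg0 yg5 zg50)) (@D3.rec (fun _ => Pt) (kg xg0 yg6 zg0) (kg xg0 yg4 zg8) (kg xg0 yg4 zg9) (kg xg0 yg8 zg42) (kg xg0 yg8 zg43) (kg xg0 yg8 zg44) (kg xg0 yg6 zg6) (kg xg0 yg6 zg7) (kg xg0 yg6 zg8) (kg xg0 yg6 zg9) (kg xg0 yg9 zg6) (kg xg0 yg6 zg11) (kg xg0 yg4 zg15) (kg xg0 yg4 zg16) (kg xg0 yg9 zg9) (kg xg0 yg9 zg10) (kg xg0 yg9 zg16) (kg xg0 yg6 zg17) (kg xg0 yg6 zg18) (kg xg0 yg9 zg19) (kg xg0 yg4 zg19) (kg xg0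 yg6 zg21) (kg xg0 yg6 zg22) (kg xg0 yg6 zg23) (kg xg0 yg4 zg24) (kg xg0 yg4 zg25) (kg xg0 yg6 zg26) (kg xg0 yg9 zg24) (kg xg0 yg9 zg25) (kg xg0 yg9 zg26) (kg xg0 yg6 zg30) (kg xg0 yg6 zg31) (kg xg0 yg9 zg35) (kg xg0 yg4 zg32) (kg xg0 yg4 zg33) (kg xg0 yg4 zg34) (kg xg0 yg6 zg36) (kg xg0 yg9 zg36) (kg xg0 yg9 zg37) (kg xg0 yg9 zg40) (kg xg0 yg9 zg42) (kg xg0 yg4 zg35) (kg xg0 yg9 zg46) (kg xg0 yg9 zg47) (kg xg0 yg6 zg44) (kg xg0 yg4 zg37) (kg xg0 yg4 zg38) (kg xg0 yg10 zg1) (kg xg0 yg10 zg2) (kg xg0 yg10 zg3) (kg xg0 yg6 zg50)) (@D3.rec (fun _ => Pt) (kg xg0 yg7 zg0) (kg xg0 yg7 zg1) (kg xg0 yg7 zg2) (kg xg0 yg7 zg3) (kg xg0 yg7 zg4) (kg xg0 yg4 zg43) (kg xg0 yg4 zg44) (kg xg0 yg10 zg17) (kg xg0 yg10 zg18) (kg xg0 yg10 zg19) (kg xg0 yg7 zg10) (kg xg0 yg7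 zg11) (kg xg0 yg4 zg48) (kg xg0 yg4 zg49) (kg xg0 yg10 zg25) (kg xg0 yg10 zg26) (kg xg0 yg7 zg16) (kg xg0 yg7 zg17) (kg xg0 yg7 zg18) (kg xg0 yg7 zg19) (kg xg0 yg5 zg3) (kg xg0 yg10 zg36) (kg xg0 yg10 zg37) (kg xg0 yg7 zg23) (kg xg0 yg7 zg24) (kg xg0 yg10 zg45) (kg xg0 yg7 zg26) (kg xg0 yg10 zg48) (kg xg0 yg5 zg7) (kg xg0 yg10 zg50) (kg xg0 yg7 zg30) (kg xg0 yg7 zg31) (kg xg0 yg7 zg32) (kg xg0 yg7 zg33) (kg xg0 yg5 zg12) (kg xg0 yg5 zg13) (kg xg0 yg5 zg14) (kg xg0 yg11 zg8) (kg xg0 yg11 zg9) (kg xg0 yg11 zg10) (kg xg0 yg11 zg11) (kg xg0 yg7 zg41) (kg xg0 yg7 zg42) (kg xg0 yg5 zg19) (kg xg0 yg5 zg20) (kg xg0 yg11 zg19) (kg xg0 yg11 zg20) (kg xg0 yg11 zg21) (kg xg0 yg7 zg48) (kg xg0 yg7 zg49) (kg xg0 yg7 zg50)) (@D3.rec (fun _ => Pt) (kg xg0 yg8 zg0) (kg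 xg0 yg11 zg34) (kg xg0 yg8 zg2) (kg xg0 yg5 zg26) (kg xg0 yg5 zg27) (kg xg0 yg11 zg37) (kg xg0 yg11 zg38) (kg xg0 yg11 zg44) (kg xg0 yg8 zg8) (kg xg0 yg8 zg9) (kg xg0 yg11 zg47) (kg xg0 yg5 zg30) (kg xg0 yg8 zg12) (kg xg0 yg8 zg13) (kg xg0 yg8 zg14) (kg xg0 yg5 zg35) (kg xg0 yg5 zg36) (kg xg0 yg8 zg17) (kg xg0 yg12 zg1) (kg xg0 yg12 zg2) (kg xg0 yg12 zg3) (kg xg0 yg5 zg38) (kg xg0 yg12 zg8) (kg xg0 yg12 zg9) (kg xg0 yg8 zg24) (kg xg0 yg8 zg25) (kg xg0 yg8 zg26) (kg xg0 yg8 zg27) (kg xg0 yg8 zg28) (kg xg0 yg8 zg29) (kg xg0 yg5 zg46) (kg xg0 yg5 zg47) (kg xg0 yg5 zg48) (kg xg0 yg5 zg49) (kg xg0 yg12 zg22) (kg xg0 yg12 zg23) (kg xg0 yg12 zg24) (kg xg0 yg12 zg25) (kg xg0 yg12 zg26) (kg xg0 yg12 zg27) (kg xg0 yg8 zg40) (kg xg0 yg8 zg41) (kg xg0 yg6 zg3) (kg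 xg0 yg6 zg4) (kg xg0 yg6 zg5) (kg xg0 yg12 zg37) (kg xg0 yg12 zg38) (kg xg0 yg12 zg39) (kg xg0 yg12 zg40) (kg xg0 yg12 zg49) (kg xg0 yg8 zg50)) (@D3.rec (fun _ => Pt) (kg xg0 yg9 zg0) (kg xg0 yg13 zg3) (kg xg0 yg9 zg2) (kg xg0 yg9 zg3) (kg xg0 yg9 zg4) (kg xg0 yg13 zg8) (kg xg0 yg6 zg10) (kg xg0 yg9 zg7) (kg xg0 yg9 zg8) (kg xg0 yg6 zg14) (kg xg0 yg6 zg15) (kg xg0 yg13 zg17) (kg xg0 yg13 zg13) (kg xg0 yg13 zg14) (kg xg0 yg13 zg15) (kg xg0 yg13 zg23) (kg xg0 yg6 zg16) (kg xg0 yg9 zg17) (kg xg0 yg13 zg26) (kg xg0 yg6 zg19) (kg xg0 yg9 zg20) (kg xg0 yg9 zg21) (kg xg0 yg9 zg22) (kg xg0 yg13 zg32) (kg xg0 yg6 zg27) (kg xg0 yg6 zg28) (kg xg0 yg6 zg29) (kg xg0 yg9 zg27) (kg xg0 yg13 zg33) (kg xg0 yg13 zg34) (kg xg0 yg13 zg37) (kg xg0 yg9 zg31) (kg xg0 yg9 zg32)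 (kg xg0 yg9 zg33) (kg xg0 yg13 zg44) (kg xg0 yg6 zg32) (kg xg0 yg6 zg37) (kg xg0 yg6 zg38) (kg xg0 yg9 zg38) (kg xg0 yg9 zg39) (kg xg0 yg6 zg39) (kg xg0 yg13 zg45) (kg xg0 yg6 zg40) (kg xg0 yg14 zg1) (kg xg0 yg9 zg44) (kg xg0 yg9 zg45) (kg xg0 yg6 zg42) (kg xg0 yg6 zg43) (kg xg0 yg14 zg8) (kg xg0 yg14 zg9) (kg xg0 yg9 zg50)) (@D3.rec (fun _ => Pt) (kg xg0 yg10 zg0) (kg xg0 yg6 zg47) (kg xg0 yg6 zg48) (kg xg0 yg6 zg49) (kg xg0 yg14 zg15) (kg xg0 yg14 zg16) (kg xg0 yg14 zg17) (kg xg0 yg10 zg7) (kg xg0 yg10 zg8) (kg xg0 yg10 zg9) (kg xg0 yg10 zg10) (kg xg0 yg10 zg11) (kg xg0 yg14 zg29) (kg xg0 yg10 zg13) (kg xg0 yg10 zg14) (kg xg0 yg10 zg15) (kg xg0 yg10 zg16) (kg xg0 yg7 zg7) (kg xg0 yg7 zg8) (kg xg0 yg7 zg9) (kg xg0 yg14 zg38) (kg xg0 yg14 zg39) (kg xg0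 yg14 zg40) (kg xg0 yg10 zg23) (kg xg0 yg10 zg24) (kg xg0 yg7 zg14) (kg xg0 yg7 zg15) (kg xg0 yg14 zg47) (kg xg0 yg14 zg48) (kg xg0 yg14 zg49) (kg xg0 yg10 zg30) (kg xg0 yg10 zg31) (kg xg0 yg10 zg32) (kg xg0 yg10 zg33) (kg xg0 yg15 zg11) (kg xg0 yg10 zg35) (kg xg0 yg7 zg21) (kg xg0 yg7 zg22) (kg xg0 yg15 zg14) (kg xg0 yg15 zg15) (kg xg0 yg15 zg21) (kg xg0 yg10 zg41) (kg xg0 yg10 zg42) (kg xg0 yg10 zg43) (kg xg0 yg15 zg27) (kg xg0 yg7 zg25) (kg xg0 yg15 zg30) (kg xg0 yg10 zg47) (kg xg0 yg7 zg27) (kg xg0 yg10 zg49) (kg xg0 yg7 zg29)) (@D3.rec (fun _ => Pt) (kg xg0 yg15 zg34) (kg xg0 yg15 zg35) (kg xg0 yg11 zg2) (kg xg0 yg11 zg3) (kg xg0 yg11 zg4) (kg xg0 yg11 zg5) (kg xg0 yg11 zg6) (kg xg0 yg11 zg7) (kg xg0 yg7 zg37) (kg xg0 yg7 zg38) (kg xg0 yg7 zg39) (kg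 xg0 yg7 zg40) (kg xg0 yg15 zg48) (kg xg0 yg15 zg49) (kg xg0 yg15 zg50) (kg xg0 yg16 zg0) (kg xg0 yg16 zg1) (kg xg0 yg11 zg17) (kg xg0 yg11 zg18) (kg xg0 yg7 zg45) (kg xg0 yg7 zg46) (kg xg0 yg7 zg47) (kg xg0 yg16 zg11) (kg xg0 yg16 zg12) (kg xg0 yg16 zg13) (kg xg0 yg16 zg14) (kg xg0 yg16 zg23) (kg xg0 yg11 zg27) (kg xg0 yg11 zg28) (kg xg0 yg16 zg28) (kg xg0 yg11 zg30) (kg xg0 yg11 zg31) (kg xg0 yg11 zg32) (kg xg0 yg16 zg33) (kg xg0 yg8 zg1) (kg xg0 yg11 zg35) (kg xg0 yg11 zg36) (kg xg0 yg8 zg5) (kg xg0 yg8 zg6) (kg xg0 yg16 zg42) (kg xg0 yg16 zg38) (kg xg0 yg16 zg39) (kg xg0 yg16 zg40) (kg xg0 yg16 zg48) (kg xg0 yg8 zg7) (kg xg0 yg11 zg45) (kg xg0 yg17 zg0) (kg xg0 yg8 zg10) (kg xg0 yg11 zg48) (kg xg0 yg11 zg49) (kg xg0 yg11 zg50)) (@D3.rec (fun _ => Pt)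 (kg xg0 yg17 zg6) (kg xg0 yg8 zg18) (kg xg0 yg8 zg19) (kg xg0 yg8 zg20) (kg xg0 yg12 zg4) (kg xg0 yg17 zg7) (kg xg0 yg17 zg8) (kg xg0 yg17 zg11) (kg xg0 yg8 zg22) (kg xg0 yg8 zg23) (kg xg0 yg17 zg16) (kg xg0 yg17 zg17) (kg xg0 yg17 zg18) (kg xg0 yg12 zg13) (kg xg0 yg12 zg14) (kg xg0 yg12 zg15) (kg xg0 yg12 zg16) (kg xg0 yg12 zg17) (kg xg0 yg12 zg18) (kg xg0 yg12 zg19) (kg xg0 yg12 zg20) (kg xg0 yg12 zg21) (kg xg0 yg8 zg34) (kg xg0 yg8 zg35) (kg xg0 yg8 zg36) (kg xg0 yg8 zg37) (kg xg0 yg8 zg38) (kg xg0 yg8 zg39) (kg xg0 yg17 zg38) (kg xg0 yg17 zg39) (kg xg0 yg17 zg40) (kg xg0 yg17 zg41) (kg xg0 yg17 zg42) (kg xg0 yg17 zg50) (kg xg0 yg12 zg34) (kg xg0 yg12 zg35) (kg xg0 yg12 zg36) (kg xg0 yg8 zg45) (kg xg0 yg8 zg46) (kg xg0 yg8 zg47) (kg xg0 yg8 zg48) (kg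 xg0 yg18 zg12) (kg xg0 yg18 zg5) (kg xg0 yg18 zg6) (kg xg0 yg18 zg17) (kg xg0 yg18 zg8) (kg xg0 yg18 zg9) (kg xg0 yg18 zg10) (kg xg0 yg18 zg23) (kg xg0 yg8 zg49) (kg xg0 yg12 zg50)) (@D3.rec (fun _ => Pt) (kg xg0 yg13 zg0) (kg xg0 yg13 zg1) (kg xg0 yg18 zg30) (kg xg0 yg9 zg1) (kg xg0 yg13 zg4) (kg xg0 yg13 zg5) (kg xg0 yg18 zg36) (kg xg0 yg18 zg38) (kg xg0 yg9 zg5) (kg xg0 yg13 zg9) (kg xg0 yg13 zg10) (kg xg0 yg13 zg11) (kg xg0 yg18 zg44) (kg xg0 yg9 zg12) (kg xg0 yg9 zg13) (kg xg0 yg9 zg14) (kg xg0 yg18 zg50) (kg xg0 yg9 zg11) (kg xg0 yg18 zg45) (kg xg0 yg18 zg46) (kg xg0 yg19 zg4) (kg xg0 yg19 zg5) (kg xg0 yg18 zg49) (kg xg0 yg9 zg15) (kg xg0 yg13 zg24) (kg xg0 yg19 zg8) (kg xg0 yg9 zg18) (kg xg0 yg13 zg27) (kg xg0 yg13 zg28) (kg xg0 yg13 zg29) (kg xg0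 yg13 zg30) (kg xg0 yg19 zg15) (kg xg0 yg9 zg23) (kg xg0 yg9 zg28) (kg xg0 yg9 zg29) (kg xg0 yg13 zg35) (kg xg0 yg13 zg36) (kg xg0 yg9 zg30) (kg xg0 yg19 zg16) (kg xg0 yg13 zg39) (kg xg0 yg13 zg40) (kg xg0 yg19 zg24) (kg xg0 yg19 zg26) (kg xg0 yg13 zg43) (kg xg0 yg9 zg34) (kg xg0 yg9 zg41) (kg xg0 yg13 zg46) (kg xg0 yg13 zg47) (kg xg0 yg13 zg48) (kg xg0 yg13 zg49) (kg xg0 yg13 zg50)) (@D3.rec (fun _ => Pt) (kg xg0 yg14 zg0) (kg xg0 yg9 zg43) (kg xg0 yg19 zg35) (kg xg0 yg19 zg37) (kg xg0 yg14 zg4) (kg xg0 yg14 zg5) (kg xg0 yg14 zg6) (kg xg0 yg14 zg7) (kg xg0 yg9 zg48) (kg xg0 yg9 zg49) (kg xg0 yg19 zg44) (kg xg0 yg19 zg45) (kg xg0 yg14 zg12) (kg xg0 yg14 zg13) (kg xg0 yg14 zg14) (kg xg0 yg10 zg4) (kg xg0 yg10 zg5) (kg xg0 yg10 zg6) (kg xg0 yg20 zg1) (kg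 xg0 yg20 zg2) (kg xg0 yg20 zg3) (kg xg0 yg20 zg4) (kg xg0 yg14 zg22) (kg xg0 yg14 zg23) (kg xg0 yg14 zg24) (kg xg0 yg14 zg25) (kg xg0 yg14 zg26) (kg xg0 yg14 zg27) (kg xg0 yg20 zg21) (kg xg0 yg10 zg12) (kg xg0 yg20 zg22) (kg xg0 yg20 zg23) (kg xg0 yg14 zg32) (kg xg0 yg14 zg33) (kg xg0 yg14 zg34) (kg xg0 yg14 zg35) (kg xg0 yg14 zg36) (kg xg0 yg14 zg37) (kg xg0 yg10 zg20) (kg xg0 yg10 zg21) (kg xg0 yg10 zg22) (kg xg0 yg20 zg34) (kg xg0 yg20 zg35) (kg xg0 yg20 zg36) (kg xg0 yg20 zg37) (kg xg0 yg14 zg45) (kg xg0 yg14 zg46) (kg xg0 yg10 zg27) (kg xg0 yg10 zg28) (kg xg0 yg10 zg29) (kg xg0 yg20 zg47)) (@D3.rec (fun _ => Pt) (kg xg0 yg20 zg48) (kg xg0 yg20 zg49) (kg xg0 yg20 zg50) (kg xg0 yg21 zg8) (kg xg0 yg15 zg4) (kg xg0 yg15 zg5) (kg xg0 yg21 zg13) (kg xg0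 yg15 zg7) (kg xg0 yg15 zg8) (kg xg0 yg15 zg9) (kg xg0 yg21 zg19) (kg xg0 yg10 zg34) (kg xg0 yg15 zg12) (kg xg0 yg15 zg13) (kg xg0 yg10 zg38) (kg xg0 yg10 zg39) (kg xg0 yg21 zg28) (kg xg0 yg21 zg24) (kg xg0 yg21 zg25) (kg xg0 yg21 zg26) (kg xg0 yg21 zg34) (kg xg0 yg10 zg40) (kg xg0 yg15 zg22) (kg xg0 yg15 zg23) (kg xg0 yg21 zg40) (kg xg0 yg21 zg42) (kg xg0 yg15 zg26) (kg xg0 yg10 zg44) (kg xg0 yg15 zg28) (kg xg0 yg21 zg46) (kg xg0 yg10 zg46) (kg xg0 yg21 zg49) (kg xg0 yg15 zg32) (kg xg0 yg15 zg33) (kg xg0 yg11 zg0) (kg xg0 yg11 zg1) (kg xg0 yg22 zg0) (kg xg0 yg22 zg1) (kg xg0 yg22 zg2) (kg xg0 yg15 zg39) (kg xg0 yg15 zg40) (kg xg0 yg15 zg41) (kg xg0 yg15 zg42) (kg xg0 yg15 zg43) (kg xg0 yg15 zg44) (kg xg0 yg15 zg45) (kg xg0 yg15 zg46) (kg xg0 yg15 zg47)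 (kg xg0 yg11 zg12) (kg xg0 yg11 zg13) (kg xg0 yg11 zg14)) (@D3.rec (fun _ => Pt) (kg xg0 yg11 zg15) (kg xg0 yg11 zg16) (kg xg0 yg22 zg20) (kg xg0 yg22 zg21) (kg xg0 yg22 zg22) (kg xg0 yg22 zg23) (kg xg0 yg22 zg24) (kg xg0 yg22 zg34) (kg xg0 yg16 zg8) (kg xg0 yg16 zg9) (kg xg0 yg16 zg10) (kg xg0 yg11 zg22) (kg xg0 yg11 zg23) (kg xg0 yg11 zg24) (kg xg0 yg11 zg25) (kg xg0 yg22 zg47) (kg xg0 yg22 zg40) (kg xg0 yg22 zg41) (kg xg0 yg23 zg1) (kg xg0 yg22 zg43) (kg xg0 yg22 zg44) (kg xg0 yg22 zg45) (kg xg0 yg23 zg7) (kg xg0 yg11 zg26) (kg xg0 yg16 zg24) (kg xg0 yg16 zg25) (kg xg0 yg16 zg26) (kg xg0 yg23 zg14) (kg xg0 yg11 zg29) (kg xg0 yg16 zg29) (kg xg0 yg16 zg30) (kg xg0 yg23 zg20) (kg xg0 yg23 zg22) (kg xg0 yg11 zg33) (kg xg0 yg16 zg34) (kg xg0 yg16 zg35) (kg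 xg0 yg16 zg36) (kg xg0 yg23 zg28) (kg xg0 yg11 zg40) (kg xg0 yg11 zg41) (kg xg0 yg11 zg42) (kg xg0 yg23 zg34) (kg xg0 yg11 zg39) (kg xg0 yg23 zg29) (kg xg0 yg23 zg30) (kg xg0 yg23 zg41) (kg xg0 yg23 zg42) (kg xg0 yg23 zg33) (kg xg0 yg11 zg43) (kg xg0 yg16 zg49) (kg xg0 yg23 zg46)) (@D3.rec (fun _ => Pt) (kg xg0 yg11 zg46) (kg xg0 yg17 zg1) (kg xg0 yg17 zg2) (kg xg0 yg17 zg3) (kg xg0 yg17 zg4) (kg xg0 yg24 zg2) (kg xg0 yg12 zg0) (kg xg0 yg12 zg5) (kg xg0 yg12 zg6) (kg xg0 yg17 zg9) (kg xg0 yg17 zg10) (kg xg0 yg12 zg7) (kg xg0 yg24 zg3) (kg xg0 yg24 zg5) (kg xg0 yg24 zg7) (kg xg0 yg24 zg10) (kg xg0 yg12 zg10) (kg xg0 yg12 zg11) (kg xg0 yg12 zg12) (kg xg0 yg24 zg13) (kg xg0 yg24 zg14) (kg xg0 yg24 zg15) (kg xg0 yg24 zg16) (kg xg0 yg24 zg17) (kg xg0 yg17 zg24)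 (kg xg0 yg17 zg25) (kg xg0 yg17 zg26) (kg xg0 yg17 zg27) (kg xg0 yg17 zg28) (kg xg0 yg17 zg29) (kg xg0 yg17 zg30) (kg xg0 yg17 zg31) (kg xg0 yg17 zg32) (kg xg0 yg17 zg33) (kg xg0 yg17 zg34) (kg xg0 yg17 zg35) (kg xg0 yg17 zg36) (kg xg0 yg17 zg37) (kg xg0 yg12 zg28) (kg xg0 yg12 zg29) (kg xg0 yg12 zg30) (kg xg0 yg12 zg31) (kg xg0 yg12 zg32) (kg xg0 yg24 zg48) (kg xg0 yg24 zg42) (kg xg0 yg24 zg43) (kg xg0 yg25 zg1) (kg xg0 yg24 zg45) (kg xg0 yg24 zg46) (kg xg0 yg25 zg6) (kg xg0 yg12 zg33)) (@D3.rec (fun _ => Pt) (kg xg0 yg18 zg0) (kg xg0 yg18 zg1) (kg xg0 yg18 zg2) (kg xg0 yg18 zg3) (kg xg0 yg25 zg15) (kg xg0 yg12 zg42) (kg xg0 yg12 zg43) (kg xg0 yg25 zg20) (kg xg0 yg12 zg45) (kg xg0 yg12 zg46) (kg xg0 yg12 zg47) (kg xg0 yg25 zg26) (kg xg0 yg12 zg41) (kg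 xg0 yg25 zg16) (kg xg0 yg25 zg17) (kg xg0 yg25 zg18) (kg xg0 yg25 zg33) (kg xg0 yg12 zg44) (kg xg0 yg25 zg21) (kg xg0 yg25 zg22) (kg xg0 yg25 zg38) (kg xg0 yg25 zg40) (kg xg0 yg25 zg25) (kg xg0 yg12 zg48) (kg xg0 yg18 zg24) (kg xg0 yg18 zg25) (kg xg0 yg18 zg26) (kg xg0 yg25 zg48) (kg xg0 yg25 zg50) (kg xg0 yg18 zg29) (kg xg0 yg13 zg2) (kg xg0 yg18 zg31) (kg xg0 yg18 zg32) (kg xg0 yg26 zg4) (kg xg0 yg18 zg34) (kg xg0 yg26 zg7) (kg xg0 yg13 zg6) (kg xg0 yg26 zg9) (kg xg0 yg13 zg7) (kg xg0 yg18 zg39) (kg xg0 yg18 zg40) (kg xg0 yg18 zg41) (kg xg0 yg18 zg42) (kg xg0 yg26 zg16) (kg xg0 yg13 zg12) (kg xg0 yg13 zg18) (kg xg0 yg13 zg19) (kg xg0 yg26 zg21) (kg xg0 yg26 zg23) (kg xg0 yg13 zg22) (kg xg0 yg13 zg16)) (@D3.rec (fun _ => Pt) (kg xg0 yg26 zg17) (kg xg0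 yg26 zg18) (kg xg0 yg26 zg27) (kg xg0 yg26 zg28) (kg xg0 yg13 zg20) (kg xg0 yg13 zg21) (kg xg0 yg26 zg31) (kg xg0 yg19 zg7) (kg xg0 yg13 zg25) (kg xg0 yg19 zg9) (kg xg0 yg19 zg10) (kg xg0 yg19 zg11) (kg xg0 yg26 zg36) (kg xg0 yg26 zg38) (kg xg0 yg19 zg14) (kg xg0 yg13 zg31) (kg xg0 yg13 zg38) (kg xg0 yg19 zg17) (kg xg0 yg19 zg18) (kg xg0 yg19 zg19) (kg xg0 yg19 zg20) (kg xg0 yg19 zg21) (kg xg0 yg26 zg44) (kg xg0 yg26 zg46) (kg xg0 yg13 zg41) (kg xg0 yg26 zg47) (kg xg0 yg13 zg42) (kg xg0 yg26 zg49) (kg xg0 yg19 zg28) (kg xg0 yg19 zg29) (kg xg0 yg19 zg30) (kg xg0 yg19 zg31) (kg xg1 yg0 zg3) (kg xg0 yg19 zg33) (kg xg0 yg19 zg34) (kg xg0 yg14 zg2) (kg xg1 yg0 zg7) (kg xg0 yg14 zg3) (kg xg1 yg0 zg10) (kg xg1 yg0 zg11) (kg xg0 yg19 zg40) (kg xg0 yg19 zg41) (kg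 xg0 yg19 zg42) (kg xg0 yg19 zg43) (kg xg0 yg14 zg10) (kg xg0 yg14 zg11) (kg xg1 yg0 zg18) (kg xg1 yg0 zg19) (kg xg1 yg0 zg20) (kg xg0 yg19 zg49) (kg xg0 yg19 zg50)) (@D3.rec (fun _ => Pt) (kg xg0 yg20 zg0) (kg xg0 yg14 zg18) (kg xg0 yg14 zg19) (kg xg0 yg14 zg20) (kg xg0 yg14 zg21) (kg xg1 yg0 zg30) (kg xg1 yg0 zg31) (kg xg1 yg0 zg32) (kg xg1 yg0 zg33) (kg xg1 yg0 zg34) (kg xg1 yg0 zg45) (kg xg0 yg20 zg11) (kg xg0 yg20 zg12) (kg xg0 yg20 zg13) (kg xg0 yg20 zg14) (kg xg0 yg20 zg15) (kg xg1 yg1 zg4) (kg xg0 yg20 zg17) (kg xg0 yg20 zg18) (kg xg0 yg20 zg19) (kg xg1 yg1 zg10) (kg xg0 yg14 zg28) (kg xg0 yg14 zg30) (kg xg0 yg14 zg31) (kg xg1 yg1 zg12) (kg xg1 yg1 zg13) (kg xg1 yg1 zg14) (kg xg0 yg20 zg27) (kg xg0 yg20 zg28) (kg xg0 yg20 zg29) (kg xg0 yg20 zg30)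 (kg xg0 yg20 zg31) (kg xg0 yg20 zg32) (kg xg0 yg20 zg33) (kg xg0 yg14 zg41) (kg xg0 yg14 zg42) (kg xg0 yg14 zg43) (kg xg0 yg14 zg44) (kg xg1 yg1 zg28) (kg xg1 yg1 zg29) (kg xg1 yg1 zg30) (kg xg1 yg1 zg31) (kg xg1 yg1 zg32) (kg xg1 yg1 zg43) (kg xg0 yg20 zg44) (kg xg0 yg20 zg45) (kg xg0 yg20 zg46) (kg xg0 yg14 zg50) (kg xg0 yg15 zg0) (kg xg0 yg15 zg1) (kg xg0 yg15 zg2)) (@D3.rec (fun _ => Pt) (kg xg1 yg2 zg5) (kg xg1 yg1 zg49) (kg xg1 yg1 zg50) (kg xg1 yg2 zg10) (kg xg1 yg2 zg1) (kg xg1 yg2 zg2) (kg xg1 yg2 zg3) (kg xg1 yg2 zg16) (kg xg0 yg15 zg3) (kg xg0 yg21 zg9) (kg xg0 yg21 zg10) (kg xg0 yg21 zg11) (kg xg1 yg2 zg23) (kg xg0 yg15 zg6) (kg xg0 yg21 zg14) (kg xg0 yg21 zg15) (kg xg1 yg2 zg30) (kg xg1 yg2 zg32) (kg xg0 yg21 zg18) (kg xg0 yg15 zg10) (kg xg0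 yg21 zg20) (kg xg0 yg21 zg21) (kg xg0 yg21 zg22) (kg xg1 yg2 zg40) (kg xg0 yg15 zg17) (kg xg0 yg15 zg18) (kg xg0 yg15 zg19) (kg xg1 yg2 zg46) (kg xg0 yg15 zg16) (kg xg1 yg2 zg41) (kg xg1 yg2 zg42) (kg xg1 yg3 zg2) (kg xg1 yg3 zg4) (kg xg1 yg2 zg45) (kg xg0 yg15 zg20) (kg xg0 yg21 zg35) (kg xg0 yg21 zg36) (kg xg1 yg3 zg10) (kg xg1 yg3 zg12) (kg xg0 yg21 zg39) (kg xg0 yg15 zg24) (kg xg1 yg3 zg16) (kg xg0 yg15 zg25) (kg xg1 yg3 zg19) (kg xg0 yg21 zg44) (kg xg0 yg21 zg45) (kg xg0 yg15 zg29) (kg xg1 yg3 zg23) (kg xg0 yg21 zg48) (kg xg0 yg15 zg31) (kg xg1 yg3 zg27)) (@D3.rec (fun _ => Pt) (kg xg0 yg15 zg36) (kg xg0 yg15 zg37) (kg xg0 yg15 zg38) (kg xg1 yg3 zg28) (kg xg1 yg3 zg29) (kg xg1 yg3 zg30) (kg xg1 yg3 zg31) (kg xg1 yg3 zg32) (kg xg0 yg22 zg8) (kg xg0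 yg22 zg9) (kg xg0 yg22 zg10) (kg xg0 yg22 zg11) (kg xg0 yg22 zg12) (kg xg0 yg22 zg13) (kg xg0 yg22 zg14) (kg xg0 yg22 zg15) (kg xg0 yg22 zg16) (kg xg0 yg22 zg17) (kg xg0 yg22 zg18) (kg xg0 yg22 zg19) (kg xg0 yg16 zg2) (kg xg0 yg16 zg3) (kg xg0 yg16 zg4) (kg xg0 yg16 zg5) (kg xg0 yg16 zg6) (kg xg1 yg4 zg12) (kg xg1 yg4 zg4) (kg xg1 yg4 zg5) (kg xg1 yg4 zg6) (kg xg1 yg4 zg17) (kg xg1 yg4 zg8) (kg xg1 yg4 zg9) (kg xg1 yg4 zg10) (kg xg1 yg4 zg23) (kg xg0 yg16 zg7) (kg xg0 yg22 zg35) (kg xg0 yg22 zg36) (kg xg0 yg22 zg37) (kg xg0 yg22 zg38) (kg xg1 yg4 zg32) (kg xg0 yg16 zg16) (kg xg0 yg16 zg17) (kg xg1 yg4 zg37) (kg xg0 yg16 zg19) (kg xg0 yg16 zg20) (kg xg0 yg16 zg21) (kg xg1 yg4 zg43) (kg xg0 yg16 zg15) (kg xg1 yg4 zg33) (kg xg1 yg4 zg34) (kg xg1 yg4 zg35))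 (@D3.rec (fun _ => Pt) (kg xg1 yg4 zg50) (kg xg0 yg16 zg18) (kg xg1 yg4 zg38) (kg xg1 yg4 zg39) (kg xg1 yg5 zg6) (kg xg1 yg5 zg8) (kg xg1 yg4 zg42) (kg xg0 yg16 zg22) (kg xg0 yg23 zg8) (kg xg0 yg23 zg9) (kg xg0 yg23 zg10) (kg xg1 yg5 zg17) (kg xg1 yg5 zg19) (kg xg0 yg23 zg13) (kg xg0 yg16 zg27) (kg xg0 yg23 zg15) (kg xg0 yg23 zg16) (kg xg1 yg5 zg24) (kg xg0 yg23 zg18) (kg xg1 yg5 zg27) (kg xg0 yg16 zg31) (kg xg1 yg5 zg29) (kg xg0 yg16 zg32) (kg xg0 yg23 zg23) (kg xg0 yg23 zg24) (kg xg0 yg23 zg25) (kg xg0 yg23 zg26) (kg xg1 yg5 zg36) (kg xg0 yg16 zg37) (kg xg0 yg16 zg43) (kg xg0 yg16 zg44) (kg xg1 yg5 zg43) (kg xg1 yg5 zg45) (kg xg0 yg16 zg47) (kg xg0 yg16 zg41) (kg xg1 yg5 zg37) (kg xg1 yg5 zg38) (kg xg1 yg6 zg0) (kg xg1 yg5 zg40) (kg xg1 yg6 zg3) (kg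 xg1 yg5 zg42) (kg xg0 yg16 zg45) (kg xg0 yg16 zg46) (kg xg1 yg6 zg7) (kg xg1 yg5 zg47) (kg xg0 yg23 zg45) (kg xg0 yg16 zg50) (kg xg0 yg23 zg47) (kg xg0 yg23 zg48) (kg xg0 yg23 zg49) (kg xg1 yg6 zg15)) (@D3.rec (fun _ => Pt) (kg xg1 yg6 zg17) (kg xg0 yg24 zg1) (kg xg0 yg17 zg5) (kg xg0 yg17 zg12) (kg xg0 yg24 zg4) (kg xg0 yg17 zg13) (kg xg0 yg24 zg6) (kg xg0 yg17 zg14) (kg xg0 yg24 zg8) (kg xg0 yg24 zg9) (kg xg0 yg17 zg15) (kg xg1 yg6 zg20) (kg xg1 yg6 zg23) (kg xg0 yg17 zg19) (kg xg0 yg17 zg20) (kg xg0 yg17 zg21) (kg xg0 yg17 zg22) (kg xg0 yg17 zg23) (kg xg1 yg6 zg29) (kg xg1 yg6 zg30) (kg xg1 yg6 zg31) (kg xg1 yg6 zg33) (kg xg1 yg6 zg34) (kg xg1 yg6 zg35) (kg xg1 yg6 zg36) (kg xg1 yg6 zg37) (kg xg0 yg24 zg26) (kg xg0 yg24 zg27) (kg xg0 yg24 zg28) (kg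 xg0 yg24 zg29) (kg xg0 yg24 zg30) (kg xg0 yg24 zg31) (kg xg0 yg24 zg32) (kg xg0 yg24 zg33) (kg xg0 yg24 zg34) (kg xg1 yg7 zg7) (kg xg0 yg24 zg36) (kg xg0 yg24 zg37) (kg xg0 yg24 zg38) (kg xg0 yg24 zg39) (kg xg0 yg24 zg40) (kg xg1 yg7 zg14) (kg xg0 yg17 zg44) (kg xg0 yg17 zg45) (kg xg1 yg7 zg18) (kg xg0 yg17 zg47) (kg xg0 yg17 zg48) (kg xg1 yg7 zg23) (kg xg0 yg17 zg43) (kg xg1 yg7 zg25) (kg xg1 yg7 zg16)) (@D3.rec (fun _ => Pt) (kg xg1 yg7 zg27) (kg xg0 yg17 zg46) (kg xg1 yg7 zg19) (kg xg1 yg7 zg32) (kg xg1 yg7 zg34) (kg xg1 yg7 zg22) (kg xg0 yg17 zg49) (kg xg0 yg25 zg7) (kg xg0 yg25 zg8) (kg xg0 yg25 zg9) (kg xg1 yg7 zg41) (kg xg0 yg25 zg11) (kg xg0 yg25 zg12) (kg xg0 yg25 zg13) (kg xg1 yg7 zg47) (kg xg0 yg18 zg4) (kg xg0 yg18 zg13) (kg xg0 yg18 zg14)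 (kg xg0 yg18 zg15) (kg xg1 yg8 zg3) (kg xg0 yg18 zg7) (kg xg0 yg18 zg18) (kg xg0 yg18 zg19) (kg xg1 yg8 zg8) (kg xg1 yg8 zg10) (kg xg0 yg18 zg22) (kg xg0 yg18 zg11) (kg xg1 yg7 zg48) (kg xg1 yg7 zg49) (kg xg1 yg7 zg50) (kg xg1 yg8 zg16) (kg xg1 yg8 zg18) (kg xg1 yg8 zg2) (kg xg0 yg18 zg16) (kg xg0 yg25 zg34) (kg xg1 yg8 zg5) (kg xg1 yg8 zg22) (kg xg1 yg8 zg24) (kg xg0 yg18 zg20) (kg xg1 yg8 zg26) (kg xg0 yg18 zg21) (kg xg1 yg8 zg29) (kg xg0 yg25 zg42) (kg xg0 yg25 zg43) (kg xg1 yg8 zg33) (kg xg0 yg25 zg45) (kg xg1 yg8 zg37) (kg xg0 yg25 zg47) (kg xg0 yg18 zg27) (kg xg1 yg8 zg40) (kg xg0 yg18 zg28)) (@D3.rec (fun _ => Pt) (kg xg1 yg8 zg43) (kg xg0 yg26 zg1) (kg xg0 yg26 zg2) (kg xg1 yg8 zg47) (kg xg0 yg18 zg33) (kg xg1 yg8 zg50) (kg xg1 yg9 zg0) (kg xg0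 yg18 zg35) (kg xg0 yg26 zg8) (kg xg0 yg18 zg37) (kg xg0 yg26 zg10) (kg xg0 yg26 zg11) (kg xg0 yg26 zg12) (kg xg1 yg9 zg7) (kg xg1 yg9 zg9) (kg xg0 yg26 zg15) (kg xg0 yg18 zg43) (kg xg0 yg19 zg0) (kg xg0 yg19 zg1) (kg xg1 yg9 zg13) (kg xg1 yg9 zg15) (kg xg0 yg18 zg47) (kg xg1 yg9 zg17) (kg xg0 yg18 zg48) (kg xg1 yg9 zg20) (kg xg1 yg9 zg11) (kg xg1 yg9 zg21) (kg xg0 yg19 zg2) (kg xg0 yg19 zg3) (kg xg0 yg26 zg29) (kg xg0 yg26 zg30) (kg xg0 yg19 zg6) (kg xg0 yg26 zg32) (kg xg0 yg26 zg33) (kg xg1 yg9 zg26) (kg xg1 yg9 zg28) (kg xg0 yg19 zg12) (kg xg1 yg9 zg29) (kg xg0 yg19 zg13) (kg xg1 yg9 zg31) (kg xg0 yg26 zg40) (kg xg0 yg26 zg41) (kg xg0 yg26 zg42) (kg xg1 yg9 zg35) (kg xg0 yg19 zg22) (kg xg1 yg9 zg36) (kg xg0 yg19 zg23) (kg xg0 yg19 zg25) (kg xg1 yg9 zg38)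 (kg xg0 yg19 zg27) (kg xg0 yg26 zg50))
def f_g_1 : D2 → D3 → Pt := @D2.rec (fun _ => D3 → Pt) (@D3.rec (fun _ => Pt) (kg xg1 yg0 zg0) (kg xg1 yg9 zg41) (kg xg1 yg0 zg2) (kg xg0 yg19 zg32) (kg xg1 yg9 zg44) (kg xg1 yg0 zg5) (kg xg1 yg0 zg6) (kg xg0 yg19 zg36) (kg xg1 yg9 zg48) (kg xg1 yg9 zg49) (kg xg0 yg19 zg38) (kg xg0 yg19 zg39) (kg xg1 yg10 zg2) (kg xg1 yg10 zg3) (kg xg1 yg0 zg14) (kg xg1 yg0 zg15) (kg xg1 yg0 zg16) (kg xg1 yg0 zg17) (kg xg0 yg19 zg46) (kg xg0 yg19 zg47) (kg xg0 yg19 zg48) (kg xg1 yg10 zg12) (kg xg1 yg10 zg13) (kg xg1 yg10 zg14) (kg xg1 yg10 zg15) (kg xg1 yg10 zg24) (kg xg1 yg0 zg26) (kg xg1 yg0 zg27) (kg xg1 yg0 zg28) (kg xg1 yg0 zg29) (kg xg0 yg20 zg5) (kg xg0 yg20 zg6) (kg xg0 yg20 zg7) (kg xg0 yg20 zg8) (kg xg0 yg20 zg9) (kg xg1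 yg10 zg40) (kg xg1 yg10 zg31) (kg xg1 yg10 zg32) (kg xg1 yg10 zg33) (kg xg1 yg10 zg34) (kg xg1 yg10 zg48) (kg xg1 yg10 zg36) (kg xg1 yg10 zg37) (kg xg1 yg10 zg38) (kg xg1 yg11 zg3) (kg xg0 yg20 zg10) (kg xg1 yg0 zg46) (kg xg1 yg0 zg47) (kg xg1 yg0 zg48) (kg xg1 yg0 zg49) (kg xg1 yg11 zg12)) (@D3.rec (fun _ => Pt) (kg xg1 yg1 zg0) (kg xg1 yg1 zg1) (kg xg1 yg1 zg2) (kg xg1 yg11 zg18) (kg xg0 yg20 zg16) (kg xg1 yg1 zg5) (kg xg1 yg1 zg6) (kg xg1 yg11 zg25) (kg xg1 yg11 zg27) (kg xg1 yg1 zg9) (kg xg0 yg20 zg20) (kg xg1 yg1 zg11) (kg xg0 yg20 zg24) (kg xg0 yg20 zg25) (kg xg0 yg20 zg26) (kg xg1 yg11 zg31) (kg xg1 yg11 zg32) (kg xg1 yg11 zg33) (kg xg1 yg11 zg34) (kg xg1 yg1 zg19) (kg xg1 yg1 zg20) (kg xg1 yg1 zg21) (kg xg1 yg1 zg22) (kg xg1 yg1 zg23) (kg xg1 yg1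 zg24) (kg xg1 yg1 zg25) (kg xg1 yg1 zg26) (kg xg1 yg1 zg27) (kg xg0 yg20 zg38) (kg xg0 yg20 zg39) (kg xg0 yg20 zg40) (kg xg0 yg20 zg41) (kg xg0 yg20 zg42) (kg xg1 yg12 zg11) (kg xg1 yg12 zg2) (kg xg1 yg12 zg3) (kg xg1 yg12 zg4) (kg xg1 yg12 zg5) (kg xg1 yg12 zg17) (kg xg1 yg12 zg7) (kg xg1 yg12 zg8) (kg xg1 yg12 zg9) (kg xg1 yg12 zg23) (kg xg0 yg20 zg43) (kg xg1 yg1 zg44) (kg xg1 yg1 zg45) (kg xg1 yg1 zg46) (kg xg1 yg1 zg47) (kg xg1 yg12 zg32) (kg xg0 yg21 zg1) (kg xg0 yg21 zg2)) (@D3.rec (fun _ => Pt) (kg xg1 yg12 zg37) (kg xg0 yg21 zg4) (kg xg0 yg21 zg5) (kg xg0 yg21 zg6) (kg xg1 yg12 zg43) (kg xg0 yg21 zg0) (kg xg1 yg12 zg33) (kg xg1 yg12 zg34) (kg xg1 yg12 zg35) (kg xg1 yg12 zg50) (kg xg0 yg21 zg3) (kg xg1 yg12 zg38) (kg xg1 yg12 zg39) (kg xg1 yg13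 zg6) (kg xg1 yg13 zg8) (kg xg1 yg12 zg42) (kg xg0 yg21 zg7) (kg xg1 yg2 zg17) (kg xg1 yg2 zg18) (kg xg1 yg2 zg19) (kg xg1 yg13 zg17) (kg xg1 yg13 zg19) (kg xg1 yg2 zg22) (kg xg0 yg21 zg12) (kg xg1 yg2 zg24) (kg xg1 yg2 zg25) (kg xg1 yg13 zg26) (kg xg1 yg2 zg27) (kg xg1 yg13 zg30) (kg xg1 yg2 zg29) (kg xg0 yg21 zg16) (kg xg1 yg13 zg34) (kg xg0 yg21 zg17) (kg xg1 yg13 zg37) (kg xg1 yg2 zg34) (kg xg1 yg2 zg35) (kg xg1 yg2 zg36) (kg xg1 yg2 zg37) (kg xg1 yg2 zg38) (kg xg1 yg13 zg44) (kg xg0 yg21 zg23) (kg xg0 yg21 zg29) (kg xg0 yg21 zg30) (kg xg1 yg14 zg0) (kg xg1 yg14 zg2) (kg xg0 yg21 zg33) (kg xg0 yg21 zg27) (kg xg1 yg13 zg45) (kg xg1 yg13 zg46) (kg xg1 yg14 zg9) (kg xg1 yg13 zg48)) (@D3.rec (fun _ => Pt) (kg xg1 yg14 zg13) (kg xg1 yg13 zg50) (kg xg0 yg21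 zg31) (kg xg1 yg14 zg17) (kg xg0 yg21 zg32) (kg xg1 yg14 zg20) (kg xg1 yg14 zg4) (kg xg1 yg3 zg7) (kg xg1 yg14 zg23) (kg xg1 yg3 zg9) (kg xg0 yg21 zg37) (kg xg1 yg14 zg27) (kg xg0 yg21 zg38) (kg xg1 yg14 zg30) (kg xg1 yg3 zg14) (kg xg1 yg3 zg15) (kg xg0 yg21 zg41) (kg xg1 yg14 zg34) (kg xg1 yg3 zg18) (kg xg0 yg21 zg43) (kg xg1 yg14 zg38) (kg xg1 yg3 zg21) (kg xg1 yg3 zg22) (kg xg0 yg21 zg47) (kg xg1 yg14 zg42) (kg xg1 yg14 zg43) (kg xg1 yg3 zg26) (kg xg0 yg21 zg50) (kg xg0 yg22 zg3) (kg xg0 yg22 zg4) (kg xg0 yg22 zg5) (kg xg0 yg22 zg6) (kg xg0 yg22 zg7) (kg xg1 yg14 zg47) (kg xg1 yg14 zg48) (kg xg1 yg14 zg50) (kg xg1 yg15 zg0) (kg xg1 yg15 zg1) (kg xg1 yg15 zg2) (kg xg1 yg15 zg3) (kg xg1 yg3 zg40) (kg xg1 yg3 zg41) (kg xg1 yg3 zg42) (kg xg1 yg3 zg43) (kg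 xg1 yg3 zg44) (kg xg1 yg3 zg45) (kg xg1 yg3 zg46) (kg xg1 yg3 zg47) (kg xg1 yg15 zg24) (kg xg1 yg3 zg49) (kg xg1 yg3 zg50)) (@D3.rec (fun _ => Pt) (kg xg1 yg4 zg0) (kg xg1 yg4 zg1) (kg xg1 yg4 zg2) (kg xg1 yg15 zg33) (kg xg0 yg22 zg26) (kg xg0 yg22 zg27) (kg xg0 yg22 zg28) (kg xg1 yg15 zg38) (kg xg0 yg22 zg30) (kg xg0 yg22 zg31) (kg xg0 yg22 zg32) (kg xg1 yg15 zg44) (kg xg0 yg22 zg25) (kg xg1 yg15 zg46) (kg xg1 yg15 zg35) (kg xg1 yg15 zg36) (kg xg1 yg15 zg50) (kg xg0 yg22 zg29) (kg xg1 yg15 zg39) (kg xg1 yg15 zg40) (kg xg1 yg16 zg6) (kg xg1 yg16 zg8) (kg xg1 yg15 zg43) (kg xg0 yg22 zg33) (kg xg1 yg4 zg24) (kg xg1 yg4 zg25) (kg xg1 yg4 zg26) (kg xg1 yg16 zg16) (kg xg1 yg4 zg28) (kg xg1 yg4 zg29) (kg xg1 yg4 zg30) (kg xg1 yg16 zg22) (kg xg0 yg22 zg39) (kg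 xg0 yg22 zg48) (kg xg0 yg22 zg49) (kg xg0 yg22 zg50) (kg xg1 yg16 zg29) (kg xg0 yg22 zg42) (kg xg0 yg23 zg2) (kg xg0 yg23 zg3) (kg xg1 yg16 zg36) (kg xg1 yg16 zg38) (kg xg0 yg23 zg6) (kg xg0 yg22 zg46) (kg xg1 yg16 zg23) (kg xg1 yg16 zg24) (kg xg1 yg16 zg25) (kg xg1 yg16 zg47) (kg xg1 yg16 zg49) (kg xg1 yg16 zg28) (kg xg0 yg23 zg0)) (@D3.rec (fun _ => Pt) (kg xg1 yg5 zg0) (kg xg1 yg16 zg31) (kg xg1 yg17 zg4) (kg xg1 yg16 zg33) (kg xg1 yg17 zg8) (kg xg1 yg16 zg35) (kg xg0 yg23 zg4) (kg xg1 yg17 zg11) (kg xg0 yg23 zg5) (kg xg1 yg17 zg14) (kg xg1 yg16 zg40) (kg xg1 yg5 zg11) (kg xg1 yg5 zg12) (kg xg1 yg17 zg19) (kg xg1 yg5 zg14) (kg xg1 yg17 zg23) (kg xg1 yg5 zg16) (kg xg0 yg23 zg11) (kg xg1 yg17 zg26) (kg xg0 yg23 zg12) (kg xg1 yg17 zg29) (kg xg1 yg5 zg21)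 (kg xg1 yg5 zg22) (kg xg1 yg17 zg33) (kg xg0 yg23 zg17) (kg xg1 yg17 zg36) (kg xg1 yg17 zg37) (kg xg0 yg23 zg19) (kg xg1 yg5 zg28) (kg xg0 yg23 zg21) (kg xg1 yg5 zg30) (kg xg1 yg5 zg31) (kg xg1 yg5 zg32) (kg xg1 yg17 zg46) (kg xg1 yg17 zg48) (kg xg1 yg5 zg35) (kg xg0 yg23 zg27) (kg xg0 yg23 zg35) (kg xg0 yg23 zg36) (kg xg1 yg18 zg3) (kg xg0 yg23 zg38) (kg xg1 yg18 zg7) (kg xg0 yg23 zg40) (kg xg0 yg23 zg31) (kg xg1 yg18 zg10) (kg xg0 yg23 zg32) (kg xg1 yg18 zg13) (kg xg0 yg23 zg44) (kg xg1 yg18 zg0) (kg xg1 yg18 zg1) (kg xg1 yg18 zg16)) (@D3.rec (fun _ => Pt) (kg xg0 yg23 zg37) (kg xg1 yg18 zg18) (kg xg1 yg18 zg5) (kg xg0 yg23 zg39) (kg xg1 yg18 zg22) (kg xg1 yg6 zg5) (kg xg1 yg6 zg6) (kg xg0 yg23 zg43) (kg xg1 yg18 zg24) (kg xg1 yg6 zg9) (kg xg1 yg6 zg10)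 (kg xg1 yg18 zg27) (kg xg1 yg6 zg12) (kg xg1 yg18 zg31) (kg xg1 yg6 zg14) (kg xg0 yg23 zg50) (kg xg1 yg18 zg33) (kg xg0 yg24 zg0) (kg xg1 yg18 zg35) (kg xg1 yg6 zg19) (kg xg0 yg24 zg11) (kg xg1 yg6 zg21) (kg xg1 yg6 zg22) (kg xg0 yg24 zg12) (kg xg1 yg6 zg24) (kg xg1 yg6 zg25) (kg xg1 yg6 zg26) (kg xg1 yg6 zg27) (kg xg1 yg18 zg41) (kg xg0 yg24 zg18) (kg xg0 yg24 zg19) (kg xg0 yg24 zg20) (kg xg1 yg6 zg32) (kg xg0 yg24 zg21) (kg xg0 yg24 zg22) (kg xg0 yg24 zg23) (kg xg0 yg24 zg24) (kg xg0 yg24 zg25) (kg xg1 yg18 zg46) (kg xg1 yg18 zg47) (kg xg1 yg18 zg49) (kg xg1 yg19 zg0) (kg xg1 yg19 zg1) (kg xg1 yg19 zg2) (kg xg1 yg19 zg3) (kg xg1 yg19 zg4) (kg xg1 yg19 zg5) (kg xg1 yg19 zg17) (kg xg1 yg6 zg48) (kg xg1 yg6 zg49) (kg xg1 yg6 zg50)) (@D3.rec (fun _ => Pt)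 (kg xg1 yg7 zg0) (kg xg1 yg7 zg1) (kg xg1 yg7 zg2) (kg xg1 yg19 zg24) (kg xg1 yg7 zg4) (kg xg1 yg7 zg5) (kg xg1 yg19 zg29) (kg xg0 yg24 zg35) (kg xg1 yg7 zg8) (kg xg1 yg7 zg9) (kg xg1 yg19 zg34) (kg xg1 yg7 zg11) (kg xg1 yg7 zg12) (kg xg1 yg19 zg39) (kg xg0 yg24 zg41) (kg xg1 yg19 zg41) (kg xg0 yg24 zg50) (kg xg1 yg19 zg43) (kg xg0 yg24 zg44) (kg xg0 yg25 zg2) (kg xg1 yg19 zg48) (kg xg1 yg19 zg50) (kg xg0 yg25 zg5) (kg xg0 yg24 zg47) (kg xg1 yg19 zg40) (kg xg0 yg24 zg49) (kg xg1 yg20 zg4) (kg xg0 yg25 zg0) (kg xg1 yg7 zg28) (kg xg1 yg19 zg45) (kg xg1 yg20 zg8) (kg xg1 yg19 zg47) (kg xg0 yg25 zg3) (kg xg1 yg20 zg11) (kg xg0 yg25 zg4) (kg xg1 yg20 zg14) (kg xg1 yg7 zg36) (kg xg1 yg7 zg37) (kg xg1 yg7 zg38) (kg xg1 yg7 zg39) (kg xg1 yg20 zg20) (kg xg0 yg25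 zg10) (kg xg1 yg7 zg42) (kg xg1 yg7 zg43) (kg xg1 yg20 zg25) (kg xg1 yg20 zg27) (kg xg1 yg7 zg46) (kg xg0 yg25 zg14) (kg xg0 yg25 zg27) (kg xg0 yg25 zg28) (kg xg0 yg25 zg29)) (@D3.rec (fun _ => Pt) (kg xg1 yg20 zg33) (kg xg1 yg20 zg35) (kg xg0 yg25 zg32) (kg xg0 yg25 zg19) (kg xg1 yg20 zg21) (kg xg0 yg25 zg35) (kg xg1 yg20 zg39) (kg xg1 yg20 zg41) (kg xg0 yg25 zg23) (kg xg1 yg20 zg43) (kg xg0 yg25 zg24) (kg xg1 yg20 zg46) (kg xg1 yg20 zg29) (kg xg1 yg20 zg30) (kg xg1 yg20 zg48) (kg xg1 yg20 zg50) (kg xg0 yg25 zg30) (kg xg1 yg21 zg1) (kg xg0 yg25 zg31) (kg xg1 yg21 zg4) (kg xg1 yg8 zg20) (kg xg1 yg21 zg6) (kg xg0 yg25 zg36) (kg xg1 yg21 zg8) (kg xg0 yg25 zg37) (kg xg1 yg8 zg25) (kg xg0 yg25 zg39) (kg xg1 yg21 zg12) (kg xg1 yg8 zg28) (kg xg0 yg25 zg41) (kg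 xg1 yg8 zg30) (kg xg1 yg21 zg18) (kg xg1 yg8 zg32) (kg xg0 yg25 zg44) (kg xg1 yg21 zg22) (kg xg1 yg8 zg35) (kg xg1 yg21 zg25) (kg xg0 yg25 zg46) (kg xg1 yg21 zg28) (kg xg1 yg8 zg39) (kg xg0 yg25 zg49) (kg xg1 yg21 zg31) (kg xg1 yg8 zg42) (kg xg0 yg26 zg0) (kg xg1 yg8 zg44) (kg xg1 yg21 zg36) (kg xg1 yg21 zg37) (kg xg0 yg26 zg3) (kg xg1 yg8 zg48) (kg xg1 yg21 zg40) (kg xg0 yg26 zg5)) (@D3.rec (fun _ => Pt) (kg xg0 yg26 zg6) (kg xg1 yg9 zg1) (kg xg1 yg9 zg2) (kg xg1 yg9 zg3) (kg xg1 yg9 zg4) (kg xg1 yg21 zg46) (kg xg1 yg21 zg48) (kg xg0 yg26 zg13) (kg xg1 yg21 zg50) (kg xg0 yg26 zg14) (kg xg1 yg22 zg2) (kg xg0 yg26 zg25) (kg xg1 yg22 zg4) (kg xg0 yg26 zg19) (kg xg1 yg22 zg6) (kg xg0 yg26 zg20) (kg xg1 yg21 zg49) (kg xg0 yg26 zg22) (kg xg1 yg22 zg9) (kg xg1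 yg22 zg1) (kg xg0 yg26 zg24) (kg xg0 yg26 zg26) (kg xg1 yg9 zg22) (kg xg1 yg9 zg23) (kg xg1 yg9 zg24) (kg xg1 yg22 zg14) (kg xg0 yg26 zg34) (kg xg1 yg22 zg15) (kg xg0 yg26 zg35) (kg xg0 yg26 zg37) (kg xg1 yg22 zg17) (kg xg0 yg26 zg39) (kg xg1 yg9 zg32) (kg xg1 yg9 zg33) (kg xg1 yg22 zg20) (kg xg0 yg26 zg43) (kg xg0 yg26 zg45) (kg xg1 yg9 zg37) (kg xg0 yg26 zg48) (kg xg1 yg22 zg23) (kg xg1 yg9 zg40) (kg xg1 yg0 zg1) (kg xg1 yg22 zg26) (kg xg1 yg9 zg43) (kg xg1 yg0 zg4) (kg xg1 yg22 zg29) (kg xg1 yg9 zg46) (kg xg1 yg9 zg47) (kg xg1 yg0 zg8) (kg xg1 yg0 zg9) (kg xg1 yg22 zg35)) (@D3.rec (fun _ => Pt) (kg xg1 yg22 zg36) (kg xg1 yg22 zg42) (kg xg1 yg0 zg12) (kg xg1 yg0 zg13) (kg xg1 yg22 zg43) (kg xg1 yg22 zg44) (kg xg1 yg10 zg6) (kg xg1 yg10 zg7) (kg xg1 yg10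 zg8) (kg xg1 yg10 zg9) (kg xg1 yg10 zg10) (kg xg1 yg10 zg11) (kg xg1 yg0 zg21) (kg xg1 yg0 zg22) (kg xg1 yg0 zg23) (kg xg1 yg0 zg24) (kg xg1 yg23 zg14) (kg xg1 yg23 zg7) (kg xg1 yg23 zg8) (kg xg1 yg23 zg18) (kg xg1 yg23 zg10) (kg xg1 yg23 zg11) (kg xg1 yg23 zg12) (kg xg1 yg23 zg24) (kg xg1 yg0 zg25) (kg xg1 yg10 zg25) (kg xg1 yg10 zg26) (kg xg1 yg10 zg27) (kg xg1 yg10 zg28) (kg xg1 yg10 zg29) (kg xg1 yg23 zg35) (kg xg1 yg0 zg36) (kg xg1 yg0 zg37) (kg xg1 yg0 zg38) (kg xg1 yg0 zg39) (kg xg1 yg23 zg43) (kg xg1 yg0 zg41) (kg xg1 yg0 zg42) (kg xg1 yg0 zg43) (kg xg1 yg23 zg49) (kg xg1 yg0 zg35) (kg xg1 yg23 zg36) (kg xg1 yg23 zg37) (kg xg1 yg24 zg4) (kg xg1 yg23 zg39) (kg xg1 yg23 zg40) (kg xg1 yg23 zg41) (kg xg1 yg24 zg10) (kg xg1 yg0 zg40) (kg xg1 yg23 zg44)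 (kg xg1 yg23 zg45)) (@D3.rec (fun _ => Pt) (kg xg1 yg24 zg17) (kg xg1 yg24 zg19) (kg xg1 yg23 zg48) (kg xg1 yg0 zg44) (kg xg1 yg11 zg4) (kg xg1 yg11 zg5) (kg xg1 yg11 zg6) (kg xg1 yg24 zg27) (kg xg1 yg11 zg8) (kg xg1 yg11 zg9) (kg xg1 yg11 zg10) (kg xg1 yg24 zg33) (kg xg1 yg0 zg50) (kg xg1 yg11 zg13) (kg xg1 yg11 zg14) (kg xg1 yg24 zg40) (kg xg1 yg24 zg42) (kg xg1 yg11 zg17) (kg xg1 yg1 zg3) (kg xg1 yg11 zg19) (kg xg1 yg11 zg20) (kg xg1 yg24 zg49) (kg xg1 yg11 zg22) (kg xg1 yg25 zg2) (kg xg1 yg11 zg24) (kg xg1 yg1 zg7) (kg xg1 yg25 zg6) (kg xg1 yg1 zg8) (kg xg1 yg25 zg9) (kg xg1 yg11 zg29) (kg xg1 yg11 zg30) (kg xg1 yg1 zg15) (kg xg1 yg1 zg16) (kg xg1 yg1 zg17) (kg xg1 yg1 zg18) (kg xg1 yg25 zg12) (kg xg1 yg25 zg13) (kg xg1 yg25 zg14) (kg xg1 yg25 zg15)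 (kg xg1 yg25 zg16) (kg xg1 yg11 zg40) (kg xg1 yg11 zg41) (kg xg1 yg11 zg42) (kg xg1 yg11 zg43) (kg xg1 yg11 zg44) (kg xg1 yg11 zg45) (kg xg1 yg25 zg34) (kg xg1 yg11 zg47) (kg xg1 yg11 zg48) (kg xg1 yg11 zg49) (kg xg1 yg11 zg50)) (@D3.rec (fun _ => Pt) (kg xg1 yg12 zg0) (kg xg1 yg25 zg44) (kg xg1 yg1 zg34) (kg xg1 yg1 zg35) (kg xg1 yg1 zg36) (kg xg1 yg1 zg37) (kg xg1 yg25 zg50) (kg xg1 yg1 zg39) (kg xg1 yg1 zg40) (kg xg1 yg1 zg41) (kg xg1 yg26 zg5) (kg xg1 yg1 zg33) (kg xg1 yg25 zg45) (kg xg1 yg26 zg9) (kg xg1 yg25 zg47) (kg xg1 yg25 zg48) (kg xg1 yg26 zg14) (kg xg1 yg1 zg38) (kg xg1 yg26 zg0) (kg xg1 yg26 zg1) (kg xg1 yg26 zg21) (kg xg1 yg26 zg23) (kg xg1 yg26 zg4) (kg xg1 yg1 zg42) (kg xg1 yg12 zg24) (kg xg1 yg12 zg25) (kg xg1 yg12 zg26) (kg xg1 yg26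 zg31) (kg xg1 yg12 zg28) (kg xg1 yg12 zg29) (kg xg1 yg12 zg30) (kg xg1 yg26 zg37) (kg xg1 yg1 zg48) (kg xg1 yg2 zg6) (kg xg1 yg2 zg7) (kg xg1 yg2 zg8) (kg xg1 yg26 zg44) (kg xg1 yg2 zg0) (kg xg1 yg2 zg11) (kg xg1 yg2 zg12) (kg xg2 yg0 zg0) (kg xg2 yg0 zg2) (kg xg1 yg2 zg15) (kg xg1 yg2 zg4) (kg xg1 yg26 zg38) (kg xg1 yg26 zg39) (kg xg1 yg26 zg40) (kg xg2 yg0 zg11) (kg xg2 yg0 zg13) (kg xg1 yg26 zg43) (kg xg1 yg2 zg9)) (@D3.rec (fun _ => Pt) (kg xg1 yg13 zg0) (kg xg1 yg26 zg46) (kg xg2 yg0 zg20) (kg xg1 yg26 zg48) (kg xg2 yg0 zg24) (kg xg1 yg26 zg50) (kg xg1 yg2 zg13) (kg xg2 yg0 zg28) (kg xg1 yg2 zg14) (kg xg2 yg0 zg31) (kg xg2 yg0 zg4) (kg xg1 yg13 zg11) (kg xg1 yg13 zg12) (kg xg2 yg0 zg34) (kg xg1 yg13 zg14) (kg xg2 yg0 zg37) (kg xg1 yg13 zg16) (kg xg1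 yg2 zg20) (kg xg2 yg0 zg40) (kg xg1 yg2 zg21) (kg xg2 yg0 zg43) (kg xg1 yg13 zg21) (kg xg1 yg13 zg22) (kg xg1 yg13 zg23) (kg xg2 yg0 zg47) (kg xg1 yg13 zg25) (kg xg1 yg2 zg26) (kg xg2 yg1 zg0) (kg xg1 yg13 zg28) (kg xg2 yg1 zg2) (kg xg1 yg2 zg28) (kg xg2 yg1 zg5) (kg xg1 yg13 zg32) (kg xg1 yg13 zg33) (kg xg1 yg2 zg31) (kg xg2 yg1 zg9) (kg xg1 yg13 zg36) (kg xg1 yg2 zg33) (kg xg2 yg1 zg13) (kg xg1 yg13 zg39) (kg xg1 yg13 zg40) (kg xg2 yg1 zg19) (kg xg2 yg1 zg21) (kg xg1 yg13 zg43) (kg xg1 yg2 zg39) (kg xg1 yg2 zg47) (kg xg1 yg2 zg48) (kg xg2 yg1 zg28) (kg xg1 yg2 zg50) (kg xg2 yg1 zg32) (kg xg1 yg3 zg1)) (@D3.rec (fun _ => Pt) (kg xg1 yg2 zg43) (kg xg2 yg1 zg36) (kg xg1 yg2 zg44) (kg xg2 yg1 zg39) (kg xg1 yg3 zg6) (kg xg2 yg1 zg24) (kg xg2 yg1 zg25) (kg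 xg2 yg1 zg44) (kg xg2 yg1 zg27) (kg xg1 yg2 zg49) (kg xg2 yg1 zg49) (kg xg2 yg1 zg30) (kg xg2 yg2 zg2) (kg xg1 yg3 zg0) (kg xg2 yg2 zg5) (kg xg2 yg1 zg34) (kg xg1 yg14 zg16) (kg xg1 yg3 zg3) (kg xg2 yg2 zg9) (kg xg1 yg14 zg19) (kg xg1 yg3 zg5) (kg xg2 yg2 zg13) (kg xg2 yg2 zg14) (kg xg1 yg3 zg8) (kg xg2 yg2 zg17) (kg xg1 yg14 zg25) (kg xg1 yg14 zg26) (kg xg1 yg3 zg11) (kg xg2 yg2 zg21) (kg xg1 yg14 zg29) (kg xg1 yg3 zg13) (kg xg2 yg2 zg25) (kg xg1 yg14 zg32) (kg xg1 yg14 zg33) (kg xg1 yg3 zg17) (kg xg2 yg2 zg29) (kg xg2 yg2 zg30) (kg xg1 yg14 zg37) (kg xg1 yg3 zg20) (kg xg2 yg2 zg34) (kg xg1 yg14 zg40) (kg xg1 yg14 zg41) (kg xg1 yg3 zg24) (kg xg1 yg3 zg25) (kg xg2 yg2 zg38) (kg xg2 yg2 zg35) (kg xg1 yg14 zg46) (kg xg1 yg3 zg33) (kg xg1 yg3 zg34) (kg xg1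 yg14 zg49) (kg xg1 yg3 zg35)) (@D3.rec (fun _ => Pt) (kg xg1 yg3 zg36) (kg xg1 yg3 zg37) (kg xg1 yg3 zg38) (kg xg1 yg3 zg39) (kg xg2 yg2 zg41) (kg xg2 yg2 zg43) (kg xg2 yg2 zg45) (kg xg2 yg2 zg46) (kg xg2 yg2 zg47) (kg xg2 yg2 zg48) (kg xg2 yg2 zg49) (kg xg2 yg2 zg50) (kg xg2 yg3 zg12) (kg xg1 yg15 zg13) (kg xg1 yg15 zg14) (kg xg1 yg15 zg15) (kg xg1 yg15 zg16) (kg xg1 yg15 zg17) (kg xg1 yg15 zg18) (kg xg2 yg3 zg18) (kg xg1 yg15 zg20) (kg xg1 yg15 zg21) (kg xg1 yg15 zg22) (kg xg2 yg3 zg24) (kg xg1 yg3 zg48) (kg xg1 yg15 zg25) (kg xg1 yg15 zg26) (kg xg1 yg15 zg27) (kg xg2 yg3 zg30) (kg xg1 yg15 zg29) (kg xg1 yg15 zg30) (kg xg1 yg15 zg31) (kg xg2 yg3 zg36) (kg xg1 yg4 zg3) (kg xg2 yg3 zg38) (kg xg1 yg4 zg14) (kg xg1 yg4 zg15) (kg xg2 yg3 zg42) (kg xg1 yg4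 zg7) (kg xg1 yg4 zg18) (kg xg1 yg4 zg19) (kg xg2 yg3 zg49) (kg xg2 yg4 zg0) (kg xg1 yg4 zg22) (kg xg1 yg4 zg11) (kg xg2 yg3 zg37) (kg xg1 yg4 zg13) (kg xg2 yg3 zg39) (kg xg2 yg4 zg7) (kg xg2 yg4 zg9) (kg xg1 yg4 zg16)) (@D3.rec (fun _ => Pt) (kg xg1 yg16 zg0) (kg xg2 yg3 zg44) (kg xg2 yg4 zg14) (kg xg2 yg3 zg46) (kg xg2 yg4 zg18) (kg xg2 yg3 zg48) (kg xg1 yg4 zg20) (kg xg2 yg4 zg22) (kg xg1 yg4 zg21) (kg xg2 yg4 zg25) (kg xg2 yg4 zg2) (kg xg1 yg16 zg11) (kg xg1 yg16 zg12) (kg xg1 yg16 zg13) (kg xg1 yg16 zg14) (kg xg2 yg4 zg32) (kg xg1 yg4 zg27) (kg xg1 yg16 zg17) (kg xg1 yg16 zg18) (kg xg2 yg4 zg39) (kg xg2 yg4 zg41) (kg xg1 yg16 zg21) (kg xg1 yg4 zg31) (kg xg1 yg4 zg44) (kg xg1 yg4 zg45) (kg xg1 yg4 zg46) (kg xg2 yg4 zg50) (kg xg2 yg5 zg1) (kg xg1 yg4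 zg49) (kg xg1 yg4 zg36) (kg xg2 yg4 zg33) (kg xg1 yg5 zg1) (kg xg2 yg5 zg7) (kg xg1 yg5 zg3) (kg xg2 yg5 zg11) (kg xg1 yg5 zg5) (kg xg1 yg4 zg40) (kg xg2 yg5 zg14) (kg xg1 yg4 zg41) (kg xg2 yg5 zg17) (kg xg1 yg5 zg10) (kg xg2 yg4 zg44) (kg xg2 yg4 zg45) (kg xg2 yg5 zg21) (kg xg2 yg4 zg47) (kg xg2 yg5 zg25) (kg xg2 yg4 zg49) (kg xg1 yg4 zg47) (kg xg2 yg5 zg28) (kg xg1 yg4 zg48) (kg xg2 yg5 zg31)) (@D3.rec (fun _ => Pt) (kg xg2 yg5 zg3) (kg xg1 yg17 zg1) (kg xg2 yg5 zg5) (kg xg2 yg5 zg35) (kg xg1 yg5 zg2) (kg xg2 yg5 zg38) (kg xg2 yg5 zg9) (kg xg2 yg5 zg41) (kg xg1 yg5 zg4) (kg xg2 yg5 zg44) (kg xg1 yg17 zg10) (kg xg1 yg5 zg7) (kg xg2 yg5 zg47) (kg xg1 yg17 zg13) (kg xg1 yg5 zg9) (kg xg2 yg5 zg50) (kg xg1 yg17 zg16) (kg xg2 yg6 zg2) (kg xg1 yg17 zg18) (kg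 xg1 yg5 zg13) (kg xg2 yg6 zg6) (kg xg1 yg17 zg21) (kg xg2 yg6 zg8) (kg xg1 yg5 zg15) (kg xg2 yg6 zg11) (kg xg1 yg17 zg25) (kg xg1 yg5 zg18) (kg xg2 yg6 zg14) (kg xg1 yg17 zg28) (kg xg1 yg5 zg20) (kg xg1 yg17 zg30) (kg xg2 yg6 zg19) (kg xg2 yg6 zg20) (kg xg1 yg5 zg23) (kg xg1 yg17 zg34) (kg xg2 yg6 zg23) (kg xg1 yg5 zg25) (kg xg1 yg5 zg26) (kg xg1 yg17 zg38) (kg xg1 yg17 zg39) (kg xg1 yg17 zg40) (kg xg1 yg17 zg41) (kg xg2 yg6 zg30) (kg xg1 yg17 zg43) (kg xg2 yg6 zg34) (kg xg1 yg17 zg45) (kg xg1 yg5 zg33) (kg xg2 yg6 zg37) (kg xg1 yg5 zg34) (kg xg2 yg6 zg40) (kg xg1 yg17 zg50)) (@D3.rec (fun _ => Pt) (kg xg1 yg5 zg48) (kg xg1 yg5 zg49) (kg xg2 yg6 zg44) (kg xg1 yg5 zg39) (kg xg2 yg6 zg47) (kg xg1 yg6 zg2) (kg xg2 yg6 zg50) (kg xg1 yg5 zg41) (kg xg2 yg7 zg2)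 (kg xg2 yg6 zg36) (kg xg1 yg5 zg44) (kg xg2 yg7 zg4) (kg xg2 yg6 zg39) (kg xg1 yg5 zg46) (kg xg2 yg7 zg8) (kg xg2 yg7 zg9) (kg xg1 yg5 zg50) (kg xg1 yg18 zg17) (kg xg1 yg6 zg1) (kg xg2 yg7 zg12) (kg xg2 yg6 zg49) (kg xg1 yg18 zg21) (kg xg1 yg6 zg4) (kg xg1 yg18 zg23) (kg xg1 yg6 zg8) (kg xg1 yg18 zg25) (kg xg2 yg7 zg19) (kg xg1 yg6 zg11) (kg xg2 yg7 zg21) (kg xg1 yg18 zg29) (kg xg2 yg7 zg24) (kg xg1 yg6 zg13) (kg xg2 yg7 zg26) (kg xg1 yg6 zg16) (kg xg2 yg7 zg28) (kg xg1 yg6 zg18) (kg xg2 yg7 zg31) (kg xg1 yg18 zg37) (kg xg1 yg18 zg38) (kg xg1 yg18 zg39) (kg xg1 yg18 zg40) (kg xg1 yg6 zg28) (kg xg1 yg18 zg42) (kg xg1 yg18 zg43) (kg xg1 yg18 zg44) (kg xg2 yg7 zg36) (kg xg1 yg6 zg38) (kg xg1 yg6 zg39) (kg xg1 yg18 zg48) (kg xg1 yg6 zg40) (kg xg1 yg18 zg50))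 (@D3.rec (fun _ => Pt) (kg xg1 yg6 zg41) (kg xg1 yg6 zg42) (kg xg1 yg6 zg43) (kg xg1 yg6 zg44) (kg xg1 yg6 zg45) (kg xg1 yg6 zg46) (kg xg2 yg8 zg4) (kg xg2 yg7 zg41) (kg xg2 yg7 zg44) (kg xg2 yg7 zg45) (kg xg2 yg7 zg48) (kg xg2 yg7 zg49) (kg xg2 yg7 zg50) (kg xg2 yg8 zg11) (kg xg2 yg8 zg1) (kg xg2 yg8 zg2) (kg xg2 yg8 zg16) (kg xg1 yg6 zg47) (kg xg1 yg19 zg18) (kg xg1 yg19 zg19) (kg xg1 yg19 zg20) (kg xg2 yg8 zg20) (kg xg1 yg19 zg22) (kg xg2 yg8 zg22) (kg xg1 yg7 zg3) (kg xg1 yg19 zg25) (kg xg2 yg8 zg27) (kg xg2 yg8 zg29) (kg xg1 yg19 zg28) (kg xg1 yg7 zg6) (kg xg2 yg8 zg17) (kg xg2 yg8 zg32) (kg xg1 yg19 zg32) (kg xg2 yg8 zg34) (kg xg1 yg7 zg10) (kg xg1 yg19 zg35) (kg xg2 yg8 zg39) (kg xg2 yg8 zg41) (kg xg1 yg19 zg38) (kg xg1 yg7 zg13) (kg xg1 yg7 zg24)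 (kg xg1 yg7 zg15) (kg xg2 yg8 zg46) (kg xg1 yg7 zg17) (kg xg2 yg8 zg35) (kg xg1 yg7 zg29) (kg xg2 yg8 zg50) (kg xg1 yg7 zg31) (kg xg1 yg7 zg20) (kg xg2 yg9 zg2) (kg xg1 yg7 zg21)) (@D3.rec (fun _ => Pt) (kg xg2 yg9 zg5) (kg xg2 yg8 zg43) (kg xg1 yg20 zg2) (kg xg2 yg9 zg6) (kg xg1 yg7 zg26) (kg xg1 yg20 zg5) (kg xg2 yg9 zg9) (kg xg2 yg9 zg10) (kg xg1 yg7 zg30) (kg xg2 yg9 zg13) (kg xg1 yg20 zg10) (kg xg1 yg7 zg33) (kg xg2 yg9 zg16) (kg xg1 yg20 zg13) (kg xg1 yg7 zg35) (kg xg1 yg20 zg15) (kg xg1 yg20 zg16) (kg xg2 yg9 zg22) (kg xg2 yg9 zg24) (kg xg1 yg20 zg19) (kg xg1 yg7 zg40) (kg xg1 yg8 zg4) (kg xg1 yg20 zg22) (kg xg2 yg9 zg28) (kg xg2 yg9 zg30) (kg xg1 yg7 zg44) (kg xg2 yg8 zg42) (kg xg1 yg7 zg45) (kg xg2 yg8 zg40) (kg xg1 yg8 zg12) (kg xg1 yg8 zg13)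 (kg xg2 yg9 zg33) (kg xg2 yg9 zg35) (kg xg1 yg8 zg0) (kg xg2 yg9 zg37) (kg xg1 yg8 zg1) (kg xg2 yg9 zg40) (kg xg2 yg9 zg26) (kg xg2 yg9 zg42) (kg xg1 yg8 zg6) (kg xg2 yg9 zg44) (kg xg1 yg8 zg7) (kg xg2 yg9 zg31) (kg xg1 yg8 zg9) (kg xg2 yg9 zg4) (kg xg2 yg9 zg3) (kg xg1 yg8 zg11) (kg xg2 yg9 zg47) (kg xg1 yg8 zg14) (kg xg2 yg9 zg49) (kg xg1 yg8 zg15)) (@D3.rec (fun _ => Pt) (kg xg1 yg21 zg0) (kg xg1 yg8 zg17) (kg xg2 yg10 zg2) (kg xg1 yg21 zg3) (kg xg1 yg8 zg19) (kg xg2 yg10 zg5) (kg xg1 yg8 zg21) (kg xg1 yg21 zg7) (kg xg1 yg8 zg23) (kg xg1 yg21 zg9) (kg xg1 yg21 zg10) (kg xg1 yg21 zg11) (kg xg1 yg8 zg27) (kg xg1 yg21 zg13) (kg xg1 yg21 zg14) (kg xg2 yg10 zg11) (kg xg1 yg21 zg16) (kg xg2 yg10 zg13) (kg xg1 yg8 zg31) (kg xg2 yg10 zg16) (kg xg1 yg21 zg20)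 (kg xg2 yg10 zg18) (kg xg1 yg8 zg34) (kg xg2 yg10 zg21) (kg xg1 yg21 zg24) (kg xg1 yg8 zg36) (kg xg2 yg10 zg25) (kg xg1 yg21 zg27) (kg xg1 yg8 zg38) (kg xg1 yg21 zg29) (kg xg1 yg21 zg30) (kg xg1 yg8 zg41) (kg xg2 yg10 zg31) (kg xg1 yg21 zg33) (kg xg2 yg10 zg34) (kg xg2 yg10 zg36) (kg xg1 yg8 zg45) (kg xg1 yg8 zg46) (kg xg1 yg21 zg38) (kg xg2 yg10 zg40) (kg xg1 yg8 zg49) (kg xg1 yg21 zg41) (kg xg1 yg21 zg42) (kg xg1 yg21 zg43) (kg xg2 yg9 zg17) (kg xg2 yg10 zg45) (kg xg1 yg9 zg5) (kg xg2 yg10 zg47) (kg xg1 yg9 zg6) (kg xg1 yg9 zg16) (kg xg1 yg9 zg8)) (@D3.rec (fun _ => Pt) (kg xg2 yg8 zg14) (kg xg1 yg9 zg19) (kg xg1 yg9 zg10) (kg xg2 yg10 zg49) (kg xg1 yg9 zg12) (kg xg2 yg10 zg46) (kg xg1 yg9 zg14) (kg xg2 yg10 zg48) (kg xg2 yg8 zg30) (kg xg1 yg9 zg18)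 (kg xg2 yg8 zg31) (kg xg2 yg8 zg28) (kg xg1 yg22 zg12) (kg xg2 yg11 zg1) (kg xg1 yg9 zg25) (kg xg1 yg9 zg27) (kg xg2 yg8 zg15) (kg xg1 yg9 zg30) (kg xg2 yg8 zg3) (kg xg1 yg22 zg19) (kg xg1 yg9 zg34) (kg xg1 yg22 zg21) (kg xg1 yg22 zg22) (kg xg1 yg9 zg39) (kg xg2 yg11 zg5) (kg xg1 yg22 zg25) (kg xg1 yg9 zg42) (kg xg2 yg11 zg7) (kg xg1 yg22 zg28) (kg xg1 yg9 zg45) (kg xg2 yg11 zg11) (kg xg1 yg22 zg31) (kg xg1 yg22 zg32) (kg xg1 yg22 zg33) (kg xg1 yg22 zg34) (kg xg1 yg9 zg50) (kg xg1 yg10 zg0) (kg xg2 yg11 zg24) (kg xg2 yg11 zg20) (kg xg2 yg11 zg21) (kg xg2 yg11 zg22) (kg xg2 yg11 zg30) (kg xg1 yg10 zg1) (kg xg1 yg10 zg4) (kg xg1 yg10 zg5) (kg xg2 yg11 zg32) (kg xg2 yg11 zg33) (kg xg2 yg11 zg34) (kg xg1 yg22 zg48) (kg xg1 yg22 zg49) (kg xg1 yg22 zg50)) (@D3.rec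 (fun _ => Pt) (kg xg1 yg23 zg0) (kg xg2 yg11 zg47) (kg xg1 yg23 zg2) (kg xg1 yg23 zg3) (kg xg1 yg23 zg4) (kg xg1 yg23 zg5) (kg xg2 yg12 zg4) (kg xg1 yg10 zg17) (kg xg1 yg10 zg18) (kg xg2 yg12 zg8) (kg xg1 yg10 zg20) (kg xg1 yg10 zg21) (kg xg1 yg10 zg22) (kg xg2 yg12 zg14) (kg xg1 yg10 zg16) (kg xg2 yg12 zg5) (kg xg2 yg12 zg6) (kg xg2 yg12 zg20) (kg xg1 yg10 zg19) (kg xg2 yg12 zg9) (kg xg2 yg12 zg10) (kg xg2 yg12 zg27) (kg xg2 yg12 zg29) (kg xg2 yg12 zg13) (kg xg1 yg10 zg23) (kg xg1 yg23 zg25) (kg xg1 yg23 zg26) (kg xg1 yg23 zg27) (kg xg1 yg23 zg28) (kg xg1 yg23 zg29) (kg xg2 yg12 zg40) (kg xg1 yg23 zg31) (kg xg1 yg23 zg32) (kg xg1 yg23 zg33) (kg xg2 yg12 zg46) (kg xg1 yg10 zg30) (kg xg1 yg10 zg41) (kg xg1 yg10 zg42) (kg xg2 yg13 zg1) (kg xg1 yg10 zg44)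 (kg xg1 yg10 zg45) (kg xg1 yg10 zg46) (kg xg2 yg13 zg7) (kg xg1 yg10 zg35) (kg xg1 yg10 zg49) (kg xg1 yg10 zg50) (kg xg2 yg13 zg14) (kg xg2 yg13 zg16) (kg xg1 yg11 zg2) (kg xg1 yg10 zg39) (kg xg2 yg12 zg47)) (@D3.rec (fun _ => Pt) (kg xg2 yg12 zg48) (kg xg2 yg12 zg49) (kg xg2 yg12 zg50) (kg xg2 yg13 zg25) (kg xg1 yg10 zg43) (kg xg2 yg13 zg2) (kg xg2 yg13 zg3) (kg xg2 yg13 zg32) (kg xg2 yg13 zg34) (kg xg2 yg13 zg6) (kg xg1 yg10 zg47) (kg xg1 yg24 zg11) (kg xg2 yg13 zg9) (kg xg2 yg13 zg41) (kg xg2 yg13 zg11) (kg xg2 yg13 zg45) (kg xg2 yg13 zg13) (kg xg1 yg11 zg0) (kg xg2 yg13 zg49) (kg xg1 yg11 zg1) (kg xg2 yg14 zg1) (kg xg2 yg13 zg18) (kg xg1 yg24 zg22) (kg xg1 yg24 zg23) (kg xg1 yg24 zg24) (kg xg1 yg24 zg25) (kg xg2 yg14 zg5) (kg xg1 yg11 zg7) (kg xg1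 yg24 zg28) (kg xg1 yg24 zg29) (kg xg2 yg14 zg9) (kg xg2 yg14 zg11) (kg xg1 yg24 zg32) (kg xg1 yg11 zg11) (kg xg1 yg24 zg34) (kg xg1 yg24 zg35) (kg xg2 yg14 zg15) (kg xg1 yg24 zg37) (kg xg2 yg14 zg18) (kg xg1 yg24 zg39) (kg xg1 yg11 zg15) (kg xg2 yg14 zg21) (kg xg1 yg11 zg16) (kg xg2 yg14 zg24) (kg xg1 yg24 zg44) (kg xg1 yg24 zg45) (kg xg1 yg24 zg46) (kg xg2 yg14 zg28) (kg xg1 yg24 zg48) (kg xg1 yg11 zg21) (kg xg2 yg14 zg32)) (@D3.rec (fun _ => Pt) (kg xg1 yg25 zg0) (kg xg2 yg14 zg34) (kg xg1 yg11 zg23) (kg xg2 yg14 zg37) (kg xg1 yg25 zg4) (kg xg1 yg25 zg5) (kg xg1 yg11 zg26) (kg xg2 yg14 zg41) (kg xg1 yg25 zg8) (kg xg1 yg11 zg28) (kg xg2 yg14 zg45) (kg xg1 yg25 zg11) (kg xg1 yg11 zg35) (kg xg1 yg11 zg36) (kg xg1 yg11 zg37) (kg xg1 yg11 zg38) (kg xg1 yg11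 zg39) (kg xg2 yg14 zg47) (kg xg2 yg14 zg48) (kg xg2 yg14 zg49) (kg xg2 yg14 zg50) (kg xg2 yg15 zg0) (kg xg2 yg15 zg1) (kg xg2 yg15 zg13) (kg xg1 yg25 zg24) (kg xg1 yg25 zg25) (kg xg1 yg25 zg26) (kg xg1 yg25 zg27) (kg xg1 yg25 zg28) (kg xg2 yg15 zg21) (kg xg1 yg25 zg30) (kg xg1 yg25 zg31) (kg xg1 yg25 zg32) (kg xg2 yg15 zg27) (kg xg1 yg11 zg46) (kg xg1 yg25 zg35) (kg xg1 yg25 zg36) (kg xg1 yg25 zg37) (kg xg1 yg25 zg38) (kg xg2 yg15 zg34) (kg xg1 yg25 zg40) (kg xg1 yg25 zg41) (kg xg1 yg25 zg42) (kg xg2 yg15 zg40) (kg xg1 yg12 zg1) (kg xg1 yg12 zg12) (kg xg2 yg15 zg44) (kg xg1 yg12 zg14) (kg xg1 yg12 zg15) (kg xg2 yg15 zg49) (kg xg1 yg12 zg6)) (@D3.rec (fun _ => Pt) (kg xg1 yg12 zg18) (kg xg1 yg12 zg19) (kg xg2 yg16 zg5) (kg xg2 yg16 zg7) (kg xg1 yg12 zg22)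 (kg xg1 yg12 zg10) (kg xg2 yg15 zg41) (kg xg2 yg15 zg42) (kg xg2 yg16 zg13) (kg xg1 yg12 zg13) (kg xg2 yg15 zg45) (kg xg2 yg16 zg18) (kg xg2 yg16 zg20) (kg xg2 yg15 zg48) (kg xg1 yg12 zg16) (kg xg1 yg26 zg15) (kg xg2 yg16 zg0) (kg xg2 yg16 zg27) (kg xg2 yg16 zg2) (kg xg2 yg16 zg31) (kg xg2 yg16 zg4) (kg xg1 yg12 zg20) (kg xg2 yg16 zg35) (kg xg1 yg12 zg21) (kg xg2 yg16 zg38) (kg xg2 yg16 zg9) (kg xg1 yg26 zg26) (kg xg1 yg26 zg27) (kg xg1 yg26 zg28) (kg xg1 yg26 zg29) (kg xg2 yg16 zg45) (kg xg1 yg12 zg27) (kg xg1 yg26 zg32) (kg xg1 yg26 zg33) (kg xg2 yg17 zg1) (kg xg2 yg17 zg3) (kg xg1 yg26 zg36) (kg xg1 yg12 zg31) (kg xg1 yg12 zg44) (kg xg1 yg12 zg45) (kg xg1 yg12 zg46) (kg xg2 yg17 zg12) (kg xg2 yg17 zg14) (kg xg1 yg12 zg49) (kg xg1 yg12 zg36) (kg xg2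 yg16 zg46) (kg xg1 yg13 zg1) (kg xg2 yg17 zg21) (kg xg1 yg13 zg3) (kg xg2 yg17 zg25) (kg xg1 yg13 zg5))
def f_g_2 : D2 → D3 → Pt := @D2.rec (fun _ => D3 → Pt) (@D3.rec (fun _ => Pt) (kg xg1 yg12 zg40) (kg xg2 yg17 zg29) (kg xg1 yg12 zg41) (kg xg2 yg17 zg32) (kg xg1 yg13 zg10) (kg xg2 yg17 zg6) (kg xg2 yg17 zg7) (kg xg2 yg17 zg37) (kg xg2 yg17 zg9) (kg xg2 yg17 zg41) (kg xg2 yg17 zg11) (kg xg1 yg12 zg47) (kg xg2 yg17 zg45) (kg xg1 yg12 zg48) (kg xg2 yg17 zg48) (kg xg2 yg17 zg16) (kg xg2 yg0 zg16) (kg xg2 yg17 zg18) (kg xg2 yg18 zg3) (kg xg2 yg17 zg20) (kg xg1 yg13 zg2) (kg xg2 yg18 zg8) (kg xg2 yg17 zg23) (kg xg2 yg18 zg12) (kg xg1 yg13 zg4) (kg xg2 yg18 zg15) (kg xg2 yg17 zg27) (kg xg2 yg0 zg27) (kg xg1 yg13 zg7) (kg xg2 yg18 zg19) (kg xg2 yg0 zg30) (kg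 xg1 yg13 zg9) (kg xg2 yg18 zg23) (kg xg2 yg18 zg25) (kg xg1 yg13 zg13) (kg xg2 yg18 zg28) (kg xg2 yg18 zg29) (kg xg1 yg13 zg15) (kg xg2 yg18 zg32) (kg xg2 yg0 zg39) (kg xg1 yg13 zg18) (kg xg2 yg18 zg35) (kg xg2 yg0 zg42) (kg xg1 yg13 zg20) (kg xg2 yg18 zg39) (kg xg2 yg18 zg41) (kg xg2 yg18 zg42) (kg xg1 yg13 zg24) (kg xg2 yg18 zg45) (kg xg2 yg0 zg49) (kg xg2 yg18 zg47)) (@D3.rec (fun _ => Pt) (kg xg1 yg13 zg27) (kg xg2 yg18 zg50) (kg xg1 yg13 zg29) (kg xg2 yg19 zg2) (kg xg2 yg1 zg4) (kg xg1 yg13 zg31) (kg xg2 yg19 zg6) (kg xg2 yg14 zg39) (kg xg2 yg1 zg8) (kg xg1 yg13 zg35) (kg xg2 yg19 zg10) (kg xg2 yg19 zg11) (kg xg2 yg1 zg12) (kg xg1 yg13 zg38) (kg xg2 yg1 zg14) (kg xg2 yg19 zg18) (kg xg2 yg1 zg16) (kg xg2 yg19 zg22) (kg xg2 yg1 zg18) (kg xg1 yg13 zg41)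 (kg xg2 yg19 zg26) (kg xg1 yg13 zg42) (kg xg2 yg19 zg29) (kg xg2 yg1 zg23) (kg xg1 yg14 zg5) (kg xg1 yg14 zg6) (kg xg2 yg19 zg34) (kg xg1 yg14 zg8) (kg xg1 yg13 zg47) (kg xg2 yg19 zg39) (kg xg1 yg14 zg11) (kg xg2 yg19 zg43) (kg xg1 yg13 zg49) (kg xg2 yg19 zg46) (kg xg1 yg14 zg15) (kg xg2 yg19 zg25) (kg xg1 yg14 zg1) (kg xg2 yg19 zg50) (kg xg2 yg19 zg28) (kg xg1 yg14 zg3) (kg xg2 yg20 zg3) (kg xg2 yg20 zg5) (kg xg2 yg19 zg32) (kg xg2 yg20 zg8) (kg xg1 yg14 zg7) (kg xg2 yg20 zg11) (kg xg2 yg19 zg36) (kg xg2 yg1 zg47) (kg xg2 yg20 zg13) (kg xg1 yg14 zg10) (kg xg2 yg20 zg16)) (@D3.rec (fun _ => Pt) (kg xg2 yg19 zg41) (kg xg2 yg19 zg42) (kg xg1 yg14 zg12) (kg xg2 yg20 zg23) (kg xg2 yg2 zg4) (kg xg1 yg14 zg14) (kg xg2 yg20 zg27) (kg xg2 yg2 zg7) (kg xg2 yg2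 zg8) (kg xg1 yg14 zg18) (kg xg2 yg20 zg31) (kg xg2 yg20 zg32) (kg xg2 yg2 zg12) (kg xg1 yg14 zg21) (kg xg1 yg14 zg22) (kg xg2 yg20 zg38) (kg xg2 yg2 zg16) (kg xg1 yg14 zg24) (kg xg2 yg20 zg42) (kg xg2 yg2 zg19) (kg xg2 yg2 zg20) (kg xg1 yg14 zg28) (kg xg2 yg20 zg46) (kg xg2 yg20 zg47) (kg xg2 yg2 zg24) (kg xg1 yg14 zg31) (kg xg2 yg21 zg0) (kg xg2 yg2 zg27) (kg xg2 yg2 zg28) (kg xg1 yg14 zg35) (kg xg1 yg14 zg36) (kg xg2 yg21 zg6) (kg xg2 yg21 zg7) (kg xg2 yg2 zg33) (kg xg1 yg14 zg39) (kg xg1 yg14 zg45) (kg xg2 yg2 zg36) (kg xg2 yg2 zg37) (kg xg1 yg14 zg44) (kg xg2 yg21 zg11) (kg xg2 yg21 zg1) (kg xg1 yg15 zg4) (kg xg2 yg2 zg42) (kg xg1 yg15 zg5) (kg xg2 yg2 zg44) (kg xg1 yg15 zg6) (kg xg1 yg15 zg7) (kg xg1 yg15 zg8) (kg xg1 yg15 zg9) (kg xg1 yg15 zg10)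 (kg xg1 yg15 zg11)) (@D3.rec (fun _ => Pt) (kg xg2 yg21 zg28) (kg xg2 yg21 zg15) (kg xg2 yg21 zg16) (kg xg2 yg21 zg19) (kg xg2 yg21 zg20) (kg xg2 yg21 zg21) (kg xg2 yg21 zg22) (kg xg2 yg21 zg34) (kg xg2 yg21 zg24) (kg xg2 yg21 zg25) (kg xg2 yg21 zg26) (kg xg2 yg21 zg40) (kg xg1 yg15 zg12) (kg xg2 yg3 zg13) (kg xg2 yg21 zg43) (kg xg2 yg3 zg15) (kg xg2 yg3 zg16) (kg xg2 yg21 zg47) (kg xg1 yg15 zg19) (kg xg2 yg3 zg19) (kg xg2 yg3 zg20) (kg xg2 yg22 zg3) (kg xg2 yg22 zg5) (kg xg2 yg3 zg23) (kg xg1 yg15 zg23) (kg xg2 yg21 zg41) (kg xg2 yg22 zg8) (kg xg2 yg3 zg27) (kg xg2 yg3 zg28) (kg xg2 yg22 zg12) (kg xg1 yg15 zg28) (kg xg2 yg3 zg31) (kg xg2 yg3 zg32) (kg xg2 yg22 zg19) (kg xg2 yg22 zg21) (kg xg2 yg3 zg35) (kg xg1 yg15 zg32) (kg xg1 yg15 zg45) (kg xg1 yg15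 zg34) (kg xg1 yg15 zg47) (kg xg2 yg22 zg28) (kg xg2 yg22 zg30) (kg xg1 yg15 zg37) (kg xg2 yg22 zg13) (kg xg1 yg16 zg1) (kg xg2 yg22 zg35) (kg xg1 yg16 zg3) (kg xg2 yg22 zg39) (kg xg1 yg16 zg5) (kg xg1 yg15 zg41) (kg xg2 yg22 zg43)) (@D3.rec (fun _ => Pt) (kg xg1 yg15 zg42) (kg xg2 yg22 zg46) (kg xg1 yg16 zg10) (kg xg2 yg22 zg24) (kg xg2 yg4 zg4) (kg xg2 yg22 zg26) (kg xg2 yg22 zg50) (kg xg1 yg15 zg48) (kg xg2 yg23 zg1) (kg xg1 yg15 zg49) (kg xg2 yg4 zg10) (kg xg2 yg22 zg32) (kg xg2 yg23 zg7) (kg xg2 yg22 zg34) (kg xg1 yg16 zg2) (kg xg2 yg23 zg11) (kg xg2 yg22 zg37) (kg xg2 yg23 zg14) (kg xg1 yg16 zg4) (kg xg2 yg23 zg17) (kg xg2 yg22 zg41) (kg xg2 yg4 zg21) (kg xg1 yg16 zg7) (kg xg2 yg23 zg21) (kg xg2 yg4 zg24) (kg xg1 yg16 zg9) (kg xg2 yg23 zg25) (kg xg2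 yg4 zg27) (kg xg2 yg4 zg28) (kg xg2 yg23 zg31) (kg xg2 yg23 zg33) (kg xg2 yg4 zg31) (kg xg1 yg16 zg15) (kg xg1 yg16 zg30) (kg xg2 yg4 zg34) (kg xg2 yg23 zg39) (kg xg2 yg4 zg36) (kg xg2 yg23 zg43) (kg xg2 yg4 zg38) (kg xg1 yg16 zg19) (kg xg2 yg22 zg22) (kg xg1 yg16 zg20) (kg xg2 yg22 zg20) (kg xg2 yg4 zg43) (kg xg1 yg16 zg41) (kg xg1 yg16 zg42) (kg xg2 yg23 zg49) (kg xg1 yg16 zg44) (kg xg2 yg24 zg2) (kg xg1 yg16 zg46) (kg xg1 yg16 zg26)) (@D3.rec (fun _ => Pt) (kg xg2 yg24 zg5) (kg xg1 yg16 zg27) (kg xg2 yg24 zg8) (kg xg1 yg17 zg0) (kg xg2 yg23 zg36) (kg xg1 yg17 zg2) (kg xg2 yg24 zg12) (kg xg1 yg16 zg32) (kg xg2 yg24 zg15) (kg xg1 yg17 zg6) (kg xg2 yg24 zg18) (kg xg1 yg16 zg34) (kg xg2 yg24 zg21) (kg xg2 yg23 zg45) (kg xg1 yg16 zg37) (kg xg2 yg22 zg45)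 (kg xg2 yg22 zg44) (kg xg1 yg16 zg39) (kg xg2 yg24 zg23) (kg xg2 yg23 zg47) (kg xg2 yg24 zg26) (kg xg1 yg16 zg43) (kg xg2 yg24 zg29) (kg xg2 yg24 zg0) (kg xg2 yg24 zg31) (kg xg1 yg16 zg45) (kg xg2 yg24 zg34) (kg xg2 yg5 zg27) (kg xg1 yg16 zg48) (kg xg2 yg24 zg37) (kg xg2 yg5 zg30) (kg xg1 yg16 zg50) (kg xg2 yg24 zg41) (kg xg2 yg24 zg43) (kg xg2 yg24 zg44) (kg xg1 yg17 zg3) (kg xg2 yg5 zg36) (kg xg2 yg24 zg47) (kg xg1 yg17 zg5) (kg xg2 yg24 zg50) (kg xg2 yg24 zg17) (kg xg1 yg17 zg7) (kg xg2 yg25 zg4) (kg xg2 yg5 zg43) (kg xg1 yg17 zg9) (kg xg2 yg5 zg45) (kg xg2 yg5 zg46) (kg xg1 yg17 zg12) (kg xg2 yg25 zg6) (kg xg2 yg5 zg49) (kg xg1 yg17 zg15)) (@D3.rec (fun _ => Pt) (kg xg2 yg25 zg9) (kg xg2 yg25 zg10) (kg xg1 yg17 zg17) (kg xg2 yg25 zg13) (kg xg2 yg6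 zg4) (kg xg2 yg25 zg15) (kg xg1 yg17 zg20) (kg xg2 yg25 zg18) (kg xg1 yg17 zg22) (kg xg2 yg25 zg21) (kg xg2 yg6 zg10) (kg xg1 yg17 zg24) (kg xg2 yg6 zg12) (kg xg2 yg6 zg13) (kg xg1 yg17 zg27) (kg xg2 yg25 zg27) (kg xg2 yg6 zg16) (kg xg2 yg25 zg30) (kg xg2 yg25 zg32) (kg xg1 yg17 zg31) (kg xg1 yg17 zg32) (kg xg2 yg6 zg21) (kg xg2 yg25 zg36) (kg xg1 yg17 zg35) (kg xg2 yg6 zg24) (kg xg2 yg6 zg25) (kg xg2 yg6 zg26) (kg xg2 yg23 zg22) (kg xg2 yg6 zg28) (kg xg2 yg25 zg43) (kg xg1 yg17 zg42) (kg xg2 yg25 zg46) (kg xg2 yg6 zg32) (kg xg2 yg25 zg49) (kg xg1 yg17 zg44) (kg xg2 yg26 zg1) (kg xg1 yg18 zg9) (kg xg1 yg17 zg47) (kg xg2 yg21 zg38) (kg xg1 yg18 zg12) (kg xg1 yg17 zg49) (kg xg2 yg26 zg3) (kg xg2 yg26 zg5) (kg xg2 yg26 zg6) (kg xg1 yg18 zg2) (kg xg2 yg25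 zg44) (kg xg2 yg26 zg9) (kg xg1 yg18 zg4) (kg xg2 yg26 zg12) (kg xg1 yg18 zg20) (kg xg1 yg18 zg6)) (@D3.rec (fun _ => Pt) (kg xg2 yg26 zg16) (kg xg2 yg26 zg0) (kg xg1 yg18 zg8) (kg xg2 yg22 zg6) (kg xg1 yg18 zg11) (kg xg2 yg22 zg7) (kg xg2 yg26 zg19) (kg xg2 yg22 zg4) (kg xg1 yg18 zg14) (kg xg1 yg18 zg15) (kg xg2 yg7 zg10) (kg xg2 yg7 zg11) (kg xg1 yg18 zg19) (kg xg2 yg26 zg24) (kg xg2 yg26 zg14) (kg xg2 yg7 zg15) (kg xg2 yg7 zg16) (kg xg2 yg26 zg28) (kg xg2 yg26 zg29) (kg xg1 yg18 zg26) (kg xg2 yg26 zg31) (kg xg1 yg18 zg28) (kg xg2 yg26 zg33) (kg xg2 yg7 zg23) (kg xg1 yg18 zg30) (kg xg2 yg26 zg37) (kg xg1 yg18 zg32) (kg xg2 yg21 zg39) (kg xg1 yg18 zg34) (kg xg2 yg21 zg27) (kg xg2 yg26 zg39) (kg xg1 yg18 zg36) (kg xg2 yg7 zg32) (kg xg2 yg7 zg33) (kg xg2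 yg7 zg34) (kg xg2 yg7 zg35) (kg xg1 yg18 zg45) (kg xg2 yg7 zg37) (kg xg2 yg7 zg38) (kg xg2 yg7 zg39) (kg xg2 yg26 zg50) (kg xg1 yg19 zg7) (kg xg2 yg7 zg42) (kg xg2 yg7 zg43) (kg xg1 yg19 zg8) (kg xg1 yg19 zg9) (kg xg2 yg7 zg46) (kg xg2 yg7 zg47) (kg xg1 yg19 zg10) (kg xg1 yg19 zg11) (kg xg1 yg19 zg12)) (@D3.rec (fun _ => Pt) (kg xg3 yg0 zg11) (kg xg1 yg19 zg14) (kg xg1 yg19 zg15) (kg xg1 yg22 zg18) (kg xg1 yg19 zg6) (kg xg3 yg0 zg0) (kg xg3 yg0 zg2) (kg xg3 yg0 zg7) (kg xg3 yg0 zg14) (kg xg3 yg0 zg9) (kg xg3 yg0 zg16) (kg xg1 yg19 zg13) (kg xg3 yg0 zg10) (kg xg3 yg0 zg15) (kg xg1 yg22 zg0) (kg xg1 yg22 zg16) (kg xg1 yg19 zg16) (kg xg1 yg19 zg30) (kg xg2 yg8 zg18) (kg xg3 yg0 zg20) (kg xg1 yg19 zg21) (kg xg3 yg0 zg23) (kg xg1 yg19 zg23) (kg xg3 yg0 zg17)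 (kg xg2 yg8 zg24) (kg xg3 yg0 zg24) (kg xg2 yg8 zg26) (kg xg1 yg19 zg26) (kg xg1 yg22 zg11) (kg xg1 yg19 zg27) (kg xg1 yg22 zg8) (kg xg1 yg22 zg10) (kg xg1 yg19 zg31) (kg xg3 yg0 zg30) (kg xg1 yg19 zg33) (kg xg1 yg19 zg44) (kg xg2 yg8 zg36) (kg xg3 yg0 zg29) (kg xg2 yg8 zg38) (kg xg1 yg19 zg36) (kg xg1 yg20 zg28) (kg xg1 yg19 zg37) (kg xg1 yg20 zg26) (kg xg1 yg20 zg1) (kg xg3 yg0 zg28) (kg xg3 yg0 zg33) (kg xg1 yg19 zg42) (kg xg3 yg0 zg26) (kg xg3 yg0 zg36) (kg xg3 yg0 zg34) (kg xg1 yg19 zg46)) (@D3.rec (fun _ => Pt) (kg xg3 yg0 zg38) (kg xg3 yg0 zg22) (kg xg1 yg19 zg49) (kg xg1 yg20 zg45) (kg xg1 yg20 zg44) (kg xg1 yg20 zg0) (kg xg1 yg20 zg3) (kg xg2 yg9 zg7) (kg xg3 yg0 zg42) (kg xg1 yg20 zg6) (kg xg1 yg20 zg7) (kg xg3 yg0 zg44) (kg xg2 yg9 zg12) (kg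 xg1 yg20 zg9) (kg xg2 yg9 zg14) (kg xg2 yg9 zg15) (kg xg1 yg20 zg12) (kg xg1 yg21 zg44) (kg xg2 yg9 zg18) (kg xg2 yg9 zg19) (kg xg3 yg0 zg48) (kg xg3 yg0 zg50) (kg xg1 yg20 zg17) (kg xg3 yg0 zg31) (kg xg1 yg20 zg18) (kg xg3 yg0 zg49) (kg xg1 yg20 zg37) (kg xg3 yg1 zg2) (kg xg1 yg20 zg23) (kg xg3 yg0 zg32) (kg xg1 yg20 zg24) (kg xg1 yg20 zg42) (kg xg3 yg1 zg5) (kg xg1 yg20 zg31) (kg xg3 yg1 zg7) (kg xg1 yg20 zg32) (kg xg3 yg1 zg0) (kg xg1 yg20 zg34) (kg xg3 yg1 zg8) (kg xg3 yg0 zg35) (kg xg1 yg20 zg36) (kg xg3 yg1 zg9) (kg xg1 yg20 zg38) (kg xg3 yg1 zg3) (kg xg1 yg20 zg40) (kg xg3 yg0 zg37) (kg xg3 yg1 zg11) (kg xg1 yg20 zg47) (kg xg2 yg9 zg48) (kg xg1 yg20 zg49) (kg xg2 yg9 zg50)) (@D3.rec (fun _ => Pt) (kg xg2 yg10 zg0) (kg xg2 yg10 zg1) (kg xg1 yg21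 zg2) (kg xg3 yg1 zg15) (kg xg2 yg10 zg4) (kg xg1 yg21 zg5) (kg xg2 yg10 zg6) (kg xg2 yg10 zg7) (kg xg2 yg10 zg8) (kg xg3 yg1 zg19) (kg xg3 yg1 zg21) (kg xg1 yg21 zg15) (kg xg3 yg1 zg24) (kg xg1 yg21 zg17) (kg xg3 yg1 zg27) (kg xg2 yg10 zg15) (kg xg1 yg21 zg19) (kg xg3 yg1 zg30) (kg xg1 yg21 zg21) (kg xg3 yg1 zg33) (kg xg2 yg10 zg20) (kg xg1 yg21 zg23) (kg xg3 yg1 zg35) (kg xg2 yg10 zg23) (kg xg2 yg10 zg24) (kg xg1 yg21 zg26) (kg xg3 yg1 zg38) (kg xg2 yg10 zg27) (kg xg3 yg0 zg41) (kg xg2 yg10 zg29) (kg xg2 yg10 zg30) (kg xg1 yg21 zg32) (kg xg3 yg1 zg39) (kg xg3 yg1 zg41) (kg xg1 yg21 zg34) (kg xg3 yg1 zg43) (kg xg1 yg21 zg35) (kg xg2 yg10 zg37) (kg xg2 yg10 zg38) (kg xg2 yg10 zg39) (kg xg1 yg21 zg39) (kg xg2 yg10 zg41) (kg xg2 yg10 zg42) (kg xg3 yg0 zg45)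 (kg xg3 yg1 zg47) (kg xg1 yg21 zg45) (kg xg1 yg22 zg5) (kg xg1 yg21 zg47) (kg xg1 yg22 zg7) (kg xg1 yg22 zg3) (kg xg3 yg1 zg48)) (@D3.rec (fun _ => Pt) (kg xg3 yg0 zg27) (kg xg1 yg22 zg13) (kg xg3 yg0 zg18) (kg xg2 yg11 zg3) (kg xg2 yg11 zg4) (kg xg1 yg22 zg24) (kg xg2 yg11 zg6) (kg xg1 yg22 zg27) (kg xg3 yg2 zg3) (kg xg2 yg11 zg9) (kg xg2 yg11 zg10) (kg xg1 yg22 zg30) (kg xg3 yg2 zg9) (kg xg3 yg2 zg10) (kg xg2 yg11 zg14) (kg xg2 yg11 zg15) (kg xg3 yg2 zg18) (kg xg2 yg11 zg17) (kg xg2 yg11 zg18) (kg xg3 yg2 zg23) (kg xg1 yg22 zg38) (kg xg1 yg22 zg39) (kg xg1 yg22 zg40) (kg xg3 yg2 zg29) (kg xg1 yg22 zg37) (kg xg3 yg2 zg24) (kg xg3 yg2 zg25) (kg xg3 yg2 zg36) (kg xg3 yg2 zg38) (kg xg3 yg2 zg28) (kg xg1 yg22 zg41) (kg xg2 yg11 zg31) (kg xg1 yg22 zg45) (kg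 xg1 yg22 zg46) (kg xg1 yg22 zg47) (kg xg3 yg2 zg42) (kg xg3 yg2 zg43) (kg xg3 yg2 zg44) (kg xg3 yg2 zg45) (kg xg3 yg3 zg3) (kg xg2 yg11 zg40) (kg xg2 yg11 zg41) (kg xg3 yg3 zg7) (kg xg2 yg11 zg43) (kg xg2 yg11 zg44) (kg xg2 yg11 zg45) (kg xg3 yg3 zg13) (kg xg1 yg23 zg1) (kg xg2 yg11 zg48) (kg xg2 yg11 zg49) (kg xg3 yg3 zg18)) (@D3.rec (fun _ => Pt) (kg xg2 yg12 zg0) (kg xg2 yg12 zg1) (kg xg2 yg12 zg2) (kg xg3 yg3 zg24) (kg xg1 yg23 zg6) (kg xg1 yg23 zg15) (kg xg1 yg23 zg16) (kg xg3 yg3 zg30) (kg xg1 yg23 zg9) (kg xg1 yg23 zg19) (kg xg1 yg23 zg20) (kg xg3 yg3 zg37) (kg xg3 yg3 zg39) (kg xg1 yg23 zg23) (kg xg1 yg23 zg13) (kg xg3 yg3 zg25) (kg xg3 yg3 zg26) (kg xg3 yg3 zg46) (kg xg3 yg3 zg48) (kg xg3 yg3 zg29) (kg xg1 yg23 zg17) (kg xg2 yg12 zg21) (kg xg3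 yg3 zg32) (kg xg3 yg4 zg4) (kg xg3 yg3 zg34) (kg xg3 yg4 zg8) (kg xg3 yg3 zg36) (kg xg1 yg23 zg21) (kg xg3 yg4 zg12) (kg xg1 yg23 zg22) (kg xg3 yg4 zg15) (kg xg3 yg3 zg41) (kg xg2 yg12 zg32) (kg xg2 yg12 zg33) (kg xg2 yg12 zg34) (kg xg3 yg4 zg21) (kg xg2 yg12 zg36) (kg xg2 yg12 zg37) (kg xg2 yg12 zg38) (kg xg3 yg4 zg27) (kg xg1 yg23 zg30) (kg xg2 yg12 zg41) (kg xg2 yg12 zg42) (kg xg3 yg4 zg34) (kg xg3 yg4 zg36) (kg xg2 yg12 zg45) (kg xg1 yg23 zg34) (kg xg1 yg23 zg50) (kg xg1 yg24 zg0) (kg xg1 yg24 zg1) (kg xg1 yg24 zg2)) (@D3.rec (fun _ => Pt) (kg xg3 yg4 zg45) (kg xg1 yg23 zg38) (kg xg1 yg24 zg5) (kg xg1 yg24 zg6) (kg xg3 yg5 zg1) (kg xg3 yg5 zg3) (kg xg1 yg24 zg9) (kg xg1 yg23 zg42) (kg xg3 yg4 zg28) (kg xg1 yg24 zg12) (kg xg3 yg5 zg10) (kg xg1 yg24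 zg14) (kg xg3 yg5 zg14) (kg xg1 yg24 zg16) (kg xg1 yg23 zg46) (kg xg3 yg5 zg18) (kg xg1 yg23 zg47) (kg xg3 yg5 zg21) (kg xg1 yg24 zg21) (kg xg3 yg4 zg39) (kg xg3 yg4 zg40) (kg xg3 yg4 zg41) (kg xg3 yg5 zg28) (kg xg3 yg5 zg30) (kg xg3 yg4 zg44) (kg xg1 yg24 zg3) (kg xg2 yg13 zg26) (kg xg3 yg4 zg47) (kg xg3 yg5 zg37) (kg xg3 yg4 zg49) (kg xg3 yg5 zg41) (kg xg3 yg5 zg0) (kg xg1 yg24 zg7) (kg xg3 yg5 zg45) (kg xg1 yg24 zg8) (kg xg3 yg5 zg48) (kg xg3 yg5 zg5) (kg xg2 yg13 zg37) (kg xg3 yg5 zg7) (kg xg3 yg6 zg3) (kg xg3 yg5 zg9) (kg xg1 yg24 zg13) (kg xg3 yg6 zg8) (kg xg3 yg5 zg12) (kg xg3 yg6 zg12) (kg xg1 yg24 zg15) (kg xg3 yg6 zg15) (kg xg3 yg5 zg16) (kg xg2 yg13 zg48) (kg xg1 yg24 zg18) (kg xg3 yg6 zg19)) (@D3.rec (fun _ => Pt) (kg xg2 yg14 zg0) (kg xg1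 yg24 zg20) (kg xg3 yg6 zg23) (kg xg3 yg6 zg24) (kg xg3 yg6 zg26) (kg xg1 yg24 zg26) (kg xg2 yg14 zg6) (kg xg3 yg6 zg28) (kg xg3 yg6 zg30) (kg xg1 yg24 zg30) (kg xg3 yg6 zg32) (kg xg1 yg24 zg31) (kg xg3 yg6 zg35) (kg xg2 yg14 zg13) (kg xg3 yg6 zg37) (kg xg1 yg24 zg36) (kg xg3 yg6 zg40) (kg xg3 yg6 zg41) (kg xg1 yg24 zg38) (kg xg3 yg6 zg44) (kg xg2 yg14 zg20) (kg xg1 yg24 zg41) (kg xg3 yg6 zg47) (kg xg2 yg14 zg23) (kg xg1 yg24 zg43) (kg xg3 yg7 zg0) (kg xg3 yg7 zg2) (kg xg3 yg7 zg3) (kg xg1 yg24 zg47) (kg xg3 yg7 zg6) (kg xg2 yg14 zg30) (kg xg3 yg7 zg8) (kg xg1 yg24 zg50) (kg xg3 yg7 zg11) (kg xg1 yg25 zg1) (kg xg3 yg7 zg14) (kg xg2 yg14 zg36) (kg xg1 yg25 zg3) (kg xg3 yg7 zg18) (kg xg2 yg1 zg7) (kg xg2 yg14 zg40) (kg xg1 yg25 zg7) (kg xg3 yg7 zg22) (kg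 xg3 yg7 zg23) (kg xg2 yg14 zg44) (kg xg1 yg25 zg10) (kg xg2 yg14 zg46) (kg xg1 yg25 zg17) (kg xg1 yg25 zg18) (kg xg1 yg25 zg19) (kg xg1 yg25 zg20)) (@D3.rec (fun _ => Pt) (kg xg1 yg25 zg21) (kg xg1 yg25 zg22) (kg xg3 yg7 zg38) (kg xg3 yg7 zg28) (kg xg3 yg7 zg29) (kg xg3 yg7 zg30) (kg xg3 yg7 zg31) (kg xg3 yg7 zg32) (kg xg3 yg7 zg46) (kg xg3 yg7 zg34) (kg xg3 yg7 zg35) (kg xg3 yg7 zg36) (kg xg3 yg8 zg1) (kg xg1 yg25 zg23) (kg xg2 yg15 zg14) (kg xg2 yg15 zg15) (kg xg2 yg15 zg16) (kg xg3 yg8 zg7) (kg xg2 yg15 zg18) (kg xg2 yg15 zg19) (kg xg3 yg8 zg12) (kg xg1 yg25 zg29) (kg xg2 yg15 zg22) (kg xg2 yg15 zg23) (kg xg3 yg8 zg19) (kg xg3 yg8 zg21) (kg xg2 yg15 zg26) (kg xg1 yg25 zg33) (kg xg3 yg8 zg2) (kg xg2 yg15 zg29) (kg xg3 yg8 zg27) (kg xg2 yg15 zg31) (kg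 xg2 yg15 zg32) (kg xg3 yg8 zg32) (kg xg1 yg25 zg39) (kg xg2 yg15 zg35) (kg xg2 yg15 zg36) (kg xg3 yg8 zg39) (kg xg3 yg8 zg41) (kg xg2 yg15 zg39) (kg xg1 yg25 zg43) (kg xg1 yg26 zg6) (kg xg1 yg26 zg7) (kg xg3 yg8 zg47) (kg xg1 yg25 zg46) (kg xg1 yg26 zg10) (kg xg3 yg9 zg1) (kg xg3 yg9 zg3) (kg xg1 yg26 zg13) (kg xg1 yg25 zg49) (kg xg3 yg8 zg33)) (@D3.rec (fun _ => Pt) (kg xg1 yg26 zg16) (kg xg3 yg9 zg10) (kg xg1 yg26 zg18) (kg xg3 yg9 zg14) (kg xg1 yg26 zg20) (kg xg1 yg26 zg2) (kg xg3 yg9 zg18) (kg xg1 yg26 zg3) (kg xg3 yg9 zg21) (kg xg1 yg26 zg25) (kg xg3 yg8 zg44) (kg xg3 yg9 zg24) (kg xg3 yg8 zg46) (kg xg1 yg26 zg8) (kg xg2 yg16 zg14) (kg xg3 yg8 zg49) (kg xg3 yg9 zg31) (kg xg3 yg9 zg0) (kg xg1 yg26 zg11) (kg xg3 yg9 zg35) (kg xg1 yg26 zg12) (kg xg3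 yg9 zg38) (kg xg3 yg9 zg5) (kg xg2 yg16 zg23) (kg xg3 yg9 zg7) (kg xg3 yg9 zg44) (kg xg3 yg9 zg9) (kg xg1 yg26 zg17) (kg xg3 yg9 zg49) (kg xg3 yg9 zg12) (kg xg3 yg10 zg2) (kg xg1 yg26 zg19) (kg xg3 yg10 zg5) (kg xg3 yg9 zg16) (kg xg2 yg16 zg34) (kg xg1 yg26 zg22) (kg xg3 yg10 zg9) (kg xg2 yg16 zg37) (kg xg1 yg26 zg24) (kg xg3 yg10 zg13) (kg xg2 yg16 zg40) (kg xg2 yg16 zg41) (kg xg3 yg10 zg19) (kg xg3 yg10 zg21) (kg xg2 yg16 zg44) (kg xg1 yg26 zg30) (kg xg1 yg26 zg45) (kg xg2 yg16 zg47) (kg xg3 yg10 zg28) (kg xg2 yg16 zg49) (kg xg3 yg10 zg32)) (@D3.rec (fun _ => Pt) (kg xg2 yg17 zg0) (kg xg1 yg26 zg34) (kg xg3 yg10 zg36) (kg xg1 yg26 zg35) (kg xg3 yg10 zg39) (kg xg2 yg17 zg5) (kg xg2 yg0 zg5) (kg xg2 yg0 zg6) (kg xg3 yg10 zg44) (kg xg2 yg0 zg8) (kg xg3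 yg10 zg48) (kg xg2 yg0 zg10) (kg xg1 yg26 zg41) (kg xg3 yg11 zg1) (kg xg1 yg26 zg42) (kg xg3 yg11 zg4) (kg xg2 yg0 zg15) (kg xg3 yg10 zg24) (kg xg2 yg0 zg17) (kg xg3 yg11 zg10) (kg xg2 yg0 zg19) (kg xg1 yg26 zg47) (kg xg3 yg11 zg15) (kg xg2 yg0 zg22) (kg xg3 yg11 zg19) (kg xg1 yg26 zg49) (kg xg3 yg11 zg22) (kg xg2 yg0 zg26) (kg xg3 yg10 zg35) (kg xg2 yg0 zg1) (kg xg3 yg11 zg26) (kg xg3 yg10 zg38) (kg xg2 yg0 zg3) (kg xg3 yg11 zg30) (kg xg3 yg10 zg41) (kg xg3 yg11 zg35) (kg xg3 yg10 zg43) (kg xg2 yg0 zg7) (kg xg3 yg11 zg40) (kg xg3 yg10 zg46) (kg xg3 yg11 zg44) (kg xg2 yg0 zg9) (kg xg3 yg11 zg47) (kg xg3 yg10 zg50) (kg xg2 yg17 zg44) (kg xg2 yg0 zg12) (kg xg3 yg12 zg0) (kg xg2 yg17 zg47) (kg xg2 yg0 zg14) (kg xg3 yg12 zg4) (kg xg3 yg11 zg6)) (@D3.rec (fun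 _ => Pt) (kg xg3 yg12 zg7) (kg xg3 yg11 zg8) (kg xg3 yg12 zg10) (kg xg2 yg0 zg18) (kg xg3 yg12 zg13) (kg xg3 yg11 zg12) (kg xg2 yg18 zg6) (kg xg3 yg12 zg16) (kg xg2 yg0 zg21) (kg xg3 yg12 zg19) (kg xg3 yg11 zg17) (kg xg3 yg11 zg18) (kg xg2 yg0 zg23) (kg xg3 yg12 zg26) (kg xg2 yg18 zg14) (kg xg2 yg0 zg25) (kg xg3 yg12 zg30) (kg xg3 yg6 zg17) (kg xg2 yg18 zg18) (kg xg2 yg0 zg29) (kg xg3 yg12 zg34) (kg xg3 yg12 zg35) (kg xg2 yg18 zg22) (kg xg2 yg0 zg32) (kg xg3 yg12 zg39) (kg xg2 yg0 zg33) (kg xg2 yg18 zg26) (kg xg3 yg12 zg42) (kg xg2 yg0 zg35) (kg xg2 yg0 zg36) (kg xg3 yg12 zg46) (kg xg2 yg18 zg31) (kg xg2 yg0 zg38) (kg xg3 yg6 zg45) (kg xg2 yg18 zg34) (kg xg2 yg0 zg41) (kg xg3 yg13 zg1) (kg xg3 yg13 zg2) (kg xg2 yg18 zg38) (kg xg2 yg0 zg44) (kg xg3 yg13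 zg7) (kg xg2 yg0 zg45) (kg xg2 yg0 zg46) (kg xg3 yg13 zg11) (kg xg2 yg18 zg44) (kg xg2 yg0 zg48) (kg xg3 yg13 zg14) (kg xg2 yg0 zg50) (kg xg3 yg13 zg18) (kg xg2 yg18 zg49) (kg xg2 yg1 zg1)) (@D3.rec (fun _ => Pt) (kg xg3 yg7 zg12) (kg xg2 yg19 zg1) (kg xg2 yg1 zg3) (kg xg3 yg13 zg24) (kg xg3 yg13 zg25) (kg xg2 yg19 zg5) (kg xg2 yg1 zg6) (kg xg3 yg13 zg29) (kg xg3 yg7 zg20) (kg xg2 yg19 zg9) (kg xg2 yg1 zg10) (kg xg2 yg1 zg11) (kg xg3 yg13 zg35) (kg xg3 yg13 zg36) (kg xg2 yg19 zg14) (kg xg2 yg19 zg15) (kg xg3 yg13 zg43) (kg xg2 yg19 zg17) (kg xg2 yg1 zg15) (kg xg3 yg13 zg48) (kg xg2 yg19 zg20) (kg xg3 yg14 zg1) (kg xg2 yg1 zg17) (kg xg3 yg14 zg4) (kg xg2 yg19 zg24) (kg xg2 yg1 zg35) (kg xg2 yg1 zg20) (kg xg3 yg14 zg8) (kg xg2 yg1 zg38) (kg xg2 yg1 zg22)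 (kg xg3 yg14 zg12) (kg xg3 yg14 zg14) (kg xg2 yg1 zg42) (kg xg3 yg14 zg17) (kg xg2 yg1 zg26) (kg xg3 yg14 zg20) (kg xg2 yg1 zg46) (kg xg3 yg13 zg46) (kg xg3 yg14 zg23) (kg xg2 yg1 zg29) (kg xg3 yg14 zg26) (kg xg2 yg2 zg0) (kg xg2 yg2 zg1) (kg xg2 yg1 zg31) (kg xg3 yg14 zg33) (kg xg3 yg14 zg3) (kg xg2 yg1 zg33) (kg xg3 yg14 zg37) (kg xg2 yg19 zg48) (kg xg3 yg14 zg7) (kg xg2 yg1 zg37)) (@D3.rec (fun _ => Pt) (kg xg3 yg14 zg41) (kg xg3 yg14 zg42) (kg xg3 yg14 zg11) (kg xg2 yg1 zg40) (kg xg3 yg14 zg46) (kg xg2 yg1 zg41) (kg xg3 yg14 zg49) (kg xg3 yg14 zg16) (kg xg2 yg1 zg43) (kg xg3 yg15 zg2) (kg xg2 yg20 zg10) (kg xg2 yg1 zg45) (kg xg3 yg15 zg6) (kg xg2 yg1 zg48) (kg xg3 yg15 zg9) (kg xg2 yg20 zg15) (kg xg2 yg1 zg50) (kg xg3 yg15 zg13) (kg xg3 yg15 zg14)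 (kg xg3 yg14 zg29) (kg xg3 yg14 zg30) (kg xg2 yg20 zg21) (kg xg2 yg20 zg22) (kg xg2 yg2 zg3) (kg xg3 yg15 zg22) (kg xg3 yg15 zg23) (kg xg2 yg20 zg26) (kg xg2 yg2 zg6) (kg xg3 yg15 zg27) (kg xg2 yg20 zg29) (kg xg2 yg20 zg30) (kg xg2 yg2 zg10) (kg xg2 yg2 zg11) (kg xg3 yg15 zg33) (kg xg3 yg15 zg34) (kg xg2 yg20 zg35) (kg xg2 yg20 zg36) (kg xg2 yg20 zg37) (kg xg2 yg2 zg15) (kg xg3 yg15 zg41) (kg xg3 yg15 zg42) (kg xg2 yg20 zg41) (kg xg2 yg2 zg18) (kg xg3 yg15 zg46) (kg xg2 yg20 zg44) (kg xg2 yg20 zg45) (kg xg2 yg2 zg22) (kg xg2 yg2 zg23) (kg xg3 yg16 zg1) (kg xg3 yg16 zg2) (kg xg2 yg20 zg50)) (@D3.rec (fun _ => Pt) (kg xg2 yg2 zg26) (kg xg2 yg2 zg40) (kg xg2 yg21 zg2) (kg xg2 yg21 zg3) (kg xg2 yg21 zg4) (kg xg2 yg21 zg5) (kg xg2 yg2 zg31) (kg xg2 yg2 zg32)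 (kg xg3 yg16 zg10) (kg xg3 yg16 zg6) (kg xg3 yg16 zg11) (kg xg2 yg2 zg39) (kg xg3 yg16 zg15) (kg xg3 yg15 zg47) (kg xg2 yg21 zg14) (kg xg2 yg3 zg1) (kg xg2 yg3 zg2) (kg xg2 yg21 zg17) (kg xg2 yg21 zg18) (kg xg2 yg3 zg3) (kg xg2 yg3 zg4) (kg xg2 yg3 zg5) (kg xg2 yg3 zg6) (kg xg3 yg16 zg26) (kg xg2 yg3 zg8) (kg xg2 yg3 zg9) (kg xg2 yg3 zg10) (kg xg2 yg7 zg29) (kg xg2 yg3 zg0) (kg xg3 yg16 zg21) (kg xg3 yg16 zg31) (kg xg3 yg16 zg23) (kg xg3 yg16 zg24) (kg xg3 yg16 zg35) (kg xg2 yg3 zg7) (kg xg3 yg16 zg27) (kg xg3 yg16 zg28) (kg xg3 yg16 zg42) (kg xg2 yg6 zg38) (kg xg2 yg7 zg27) (kg xg2 yg3 zg11) (kg xg2 yg3 zg25) (kg xg3 yg16 zg43) (kg xg2 yg3 zg14) (kg xg2 yg21 zg44) (kg xg3 yg16 zg47) (kg xg3 yg16 zg49) (kg xg2 yg3 zg17) (kg xg3 yg16 zg36) (kg xg2 yg21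 zg49) (kg xg3 yg17 zg3)) (@D3.rec (fun _ => Pt) (kg xg2 yg22 zg0) (kg xg3 yg17 zg7) (kg xg2 yg22 zg2) (kg xg2 yg3 zg21) (kg xg2 yg7 zg7) (kg xg2 yg3 zg22) (kg xg2 yg7 zg3) (kg xg2 yg7 zg5) (kg xg2 yg3 zg26) (kg xg2 yg22 zg9) (kg xg3 yg17 zg13) (kg xg3 yg17 zg15) (kg xg2 yg3 zg29) (kg xg2 yg3 zg43) (kg xg2 yg22 zg14) (kg xg3 yg17 zg20) (kg xg2 yg22 zg16) (kg xg3 yg17 zg24) (kg xg2 yg22 zg18) (kg xg2 yg3 zg33) (kg xg2 yg4 zg42) (kg xg2 yg3 zg34) (kg xg2 yg4 zg40) (kg xg2 yg22 zg23) (kg xg2 yg4 zg3) (kg xg3 yg17 zg10) (kg xg2 yg4 zg5) (kg xg3 yg17 zg31) (kg xg2 yg3 zg40) (kg xg3 yg17 zg33) (kg xg2 yg3 zg41) (kg xg3 yg17 zg16) (kg xg2 yg4 zg11) (kg xg3 yg17 zg39) (kg xg2 yg4 zg13) (kg xg2 yg3 zg45) (kg xg3 yg17 zg43) (kg xg2 yg4 zg16) (kg xg3 yg17 zg46) (kg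 xg2 yg3 zg47) (kg xg3 yg17 zg49) (kg xg2 yg4 zg20) (kg xg3 yg17 zg27) (kg xg2 yg3 zg50) (kg xg2 yg5 zg16) (kg xg2 yg5 zg15) (kg xg2 yg4 zg1) (kg xg3 yg18 zg1) (kg xg3 yg18 zg3) (kg xg3 yg18 zg4) (kg xg2 yg4 zg6)) (@D3.rec (fun _ => Pt) (kg xg2 yg23 zg0) (kg xg2 yg4 zg8) (kg xg2 yg23 zg2) (kg xg3 yg17 zg35) (kg xg3 yg18 zg10) (kg xg3 yg17 zg37) (kg xg3 yg18 zg12) (kg xg2 yg4 zg12) (kg xg3 yg18 zg15) (kg xg2 yg23 zg9) (kg xg3 yg18 zg17) (kg xg2 yg4 zg15) (kg xg3 yg18 zg20) (kg xg3 yg17 zg45) (kg xg2 yg4 zg17) (kg xg3 yg18 zg25) (kg xg2 yg23 zg16) (kg xg2 yg4 zg19) (kg xg3 yg18 zg29) (kg xg2 yg23 zg19) (kg xg2 yg23 zg20) (kg xg2 yg4 zg23) (kg xg2 yg6 zg27) (kg xg3 yg18 zg30) (kg xg2 yg23 zg24) (kg xg2 yg4 zg26) (kg xg2 yg23 zg26) (kg xg3 yg18 zg35) (kg xg2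 yg23 zg28) (kg xg3 yg18 zg39) (kg xg2 yg23 zg30) (kg xg2 yg4 zg29) (kg xg3 yg17 zg28) (kg xg2 yg4 zg30) (kg xg3 yg18 zg43) (kg xg2 yg23 zg35) (kg xg2 yg5 zg4) (kg xg2 yg23 zg37) (kg xg3 yg18 zg47) (kg xg2 yg4 zg35) (kg xg3 yg18 zg50) (kg xg2 yg23 zg41) (kg xg3 yg17 zg25) (kg xg2 yg4 zg37) (kg xg3 yg17 zg23) (kg xg2 yg5 zg13) (kg xg3 yg17 zg14) (kg xg2 yg5 zg19) (kg xg3 yg19 zg4) (kg xg2 yg4 zg46) (kg xg3 yg19 zg7)) (@D3.rec (fun _ => Pt) (kg xg2 yg5 zg23) (kg xg3 yg19 zg9) (kg xg2 yg4 zg48) (kg xg3 yg19 zg12) (kg xg3 yg18 zg41) (kg xg2 yg5 zg0) (kg xg3 yg19 zg13) (kg xg3 yg18 zg0) (kg xg2 yg5 zg2) (kg xg3 yg19 zg17) (kg xg3 yg19 zg19) (kg xg3 yg19 zg20) (kg xg2 yg5 zg6) (kg xg3 yg18 zg48) (kg xg3 yg19 zg23) (kg xg2 yg5 zg8) (kg xg3 yg19 zg26) (kg xg2 yg5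 zg40) (kg xg2 yg5 zg10) (kg xg3 yg17 zg48) (kg xg3 yg17 zg47) (kg xg2 yg5 zg12) (kg xg3 yg17 zg34) (kg xg2 yg5 zg18) (kg xg3 yg19 zg30) (kg xg3 yg19 zg31) (kg xg2 yg5 zg20) (kg xg2 yg24 zg27) (kg xg3 yg19 zg34) (kg xg2 yg5 zg22) (kg xg3 yg19 zg37) (kg xg2 yg5 zg24) (kg xg3 yg19 zg40) (kg xg2 yg24 zg33) (kg xg2 yg5 zg26) (kg xg2 yg24 zg35) (kg xg2 yg24 zg36) (kg xg2 yg5 zg29) (kg xg3 yg19 zg45) (kg xg3 yg19 zg46) (kg xg2 yg24 zg40) (kg xg2 yg5 zg32) (kg xg3 yg19 zg50) (kg xg2 yg5 zg33) (kg xg2 yg5 zg34) (kg xg2 yg24 zg45) (kg xg3 yg20 zg3) (kg xg2 yg5 zg37) (kg xg3 yg20 zg7) (kg xg2 yg24 zg49) (kg xg2 yg5 zg39)) (@D3.rec (fun _ => Pt) (kg xg3 yg20 zg10) (kg xg3 yg19 zg28) (kg xg2 yg25 zg2) (kg xg2 yg25 zg3) (kg xg2 yg5 zg42) (kg xg2 yg25 zg5) (kg xg2 yg5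 zg48) (kg xg2 yg25 zg7) (kg xg3 yg20 zg14) (kg xg2 yg6 zg0) (kg xg2 yg6 zg1) (kg xg3 yg20 zg18) (kg xg2 yg25 zg12) (kg xg2 yg6 zg3) (kg xg3 yg20 zg21) (kg xg2 yg6 zg5) (kg xg3 yg20 zg25) (kg xg2 yg25 zg17) (kg xg2 yg6 zg7) (kg xg2 yg25 zg19) (kg xg2 yg25 zg20) (kg xg2 yg6 zg9) (kg xg3 yg20 zg31) (kg xg2 yg25 zg23) (kg xg3 yg18 zg31) (kg xg2 yg25 zg25) (kg xg2 yg25 zg26) (kg xg2 yg6 zg15) (kg xg3 yg20 zg36) (kg xg3 yg20 zg39) (kg xg2 yg6 zg17) (kg xg3 yg20 zg41) (kg xg2 yg6 zg18) (kg xg2 yg25 zg33) (kg xg2 yg25 zg34) (kg xg2 yg25 zg35) (kg xg2 yg6 zg22) (kg xg3 yg20 zg48) (kg xg2 yg25 zg38) (kg xg2 yg25 zg39) (kg xg3 yg18 zg26) (kg xg3 yg21 zg1) (kg xg3 yg21 zg2) (kg xg2 yg6 zg29) (kg xg2 yg6 zg45) (kg xg3 yg21 zg5) (kg xg2 yg6 zg31) (kg xg3 yg21 zg8) (kg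 xg2 yg25 zg48) (kg xg2 yg6 zg33) (kg xg3 yg16 zg40)) (@D3.rec (fun _ => Pt) (kg xg2 yg7 zg1) (kg xg2 yg6 zg35) (kg xg3 yg16 zg34) (kg xg2 yg6 zg41) (kg xg3 yg21 zg12) (kg xg2 yg6 zg42) (kg xg2 yg6 zg43) (kg xg3 yg21 zg3) (kg xg3 yg21 zg15) (kg xg2 yg6 zg46) (kg xg3 yg21 zg18) (kg xg3 yg21 zg7) (kg xg2 yg6 zg48) (kg xg3 yg21 zg21) (kg xg2 yg7 zg14) (kg xg3 yg17 zg8) (kg xg2 yg7 zg0) (kg xg3 yg17 zg9) (kg xg3 yg17 zg6) (kg xg2 yg7 zg6) (kg xg3 yg16 zg50) (kg xg3 yg16 zg48) (kg xg2 yg26 zg22) (kg xg2 yg26 zg23) (kg xg2 yg7 zg13) (kg xg3 yg21 zg27) (kg xg3 yg21 zg29) (kg xg3 yg21 zg31) (kg xg2 yg7 zg17) (kg xg2 yg7 zg18) (kg xg3 yg21 zg33) (kg xg2 yg7 zg20) (kg xg3 yg21 zg36) (kg xg2 yg7 zg22) (kg xg3 yg21 zg38) (kg xg2 yg26 zg35) (kg xg3 yg16 zg41) (kg xg2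 yg7 zg25) (kg xg3 yg16 zg29) (kg xg2 yg7 zg30) (kg xg3 yg16 zg25) (kg xg2 yg26 zg41) (kg xg2 yg26 zg42) (kg xg2 yg26 zg43) (kg xg2 yg26 zg44) (kg xg3 yg21 zg49) (kg xg2 yg26 zg46) (kg xg2 yg26 zg47) (kg xg2 yg26 zg48) (kg xg2 yg26 zg49) (kg xg2 yg7 zg40))
def f_g_3 : D2 → D3 → Pt := @D2.rec (fun _ => D3 → Pt) (@D3.rec (fun _ => Pt) (kg xg2 yg8 zg5) (kg xg3 yg0 zg1) (kg xg2 yg8 zg6) (kg xg3 yg0 zg3) (kg xg3 yg0 zg4) (kg xg3 yg0 zg5) (kg xg3 yg0 zg6) (kg xg2 yg8 zg7) (kg xg3 yg22 zg11) (kg xg2 yg8 zg9) (kg xg2 yg8 zg12) (kg xg2 yg8 zg0) (kg xg3 yg22 zg4) (kg xg3 yg22 zg13) (kg xg2 yg8 zg8) (kg xg2 yg8 zg13) (kg xg2 yg8 zg10) (kg xg2 yg8 zg23) (kg xg2 yg11 zg2) (kg xg3 yg0 zg19) (kg xg2 yg8 zg19) (kg xg3 yg22 zg14) (kg xg2 yg9 zg1) (kg xg2 yg8 zg21) (kg xg2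 yg8 zg25) (kg xg3 yg0 zg25) (kg xg2 yg8 zg47) (kg xg2 yg11 zg0) (kg xg2 yg8 zg44) (kg xg2 yg8 zg37) (kg xg2 yg8 zg33) (kg xg2 yg9 zg23) (kg xg2 yg9 zg29) (kg xg2 yg8 zg45) (kg xg2 yg8 zg49) (kg xg2 yg9 zg39) (kg xg2 yg8 zg48) (kg xg2 yg9 zg45) (kg xg2 yg9 zg0) (kg xg3 yg0 zg39) (kg xg3 yg0 zg40) (kg xg2 yg10 zg28) (kg xg2 yg9 zg8) (kg xg3 yg0 zg43) (kg xg2 yg9 zg11) (kg xg2 yg10 zg43) (kg xg3 yg0 zg46) (kg xg3 yg18 zg42) (kg xg2 yg9 zg20) (kg xg2 yg9 zg25) (kg xg2 yg9 zg21)) (@D3.rec (fun _ => Pt) (kg xg2 yg9 zg36) (kg xg3 yg18 zg44) (kg xg2 yg9 zg27) (kg xg2 yg9 zg43) (kg xg3 yg19 zg16) (kg xg2 yg9 zg32) (kg xg3 yg19 zg14) (kg xg2 yg9 zg34) (kg xg2 yg9 zg38) (kg xg2 yg9 zg41) (kg xg3 yg19 zg15) (kg xg2 yg9 zg46) (kg xg3 yg1 zg12) (kg xg3 yg1 zg13) (kg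 xg3 yg1 zg14) (kg xg2 yg10 zg3) (kg xg3 yg1 zg16) (kg xg3 yg1 zg17) (kg xg3 yg22 zg19) (kg xg2 yg10 zg9) (kg xg3 yg22 zg21) (kg xg2 yg10 zg10) (kg xg3 yg22 zg24) (kg xg3 yg1 zg23) (kg xg2 yg10 zg12) (kg xg3 yg1 zg25) (kg xg3 yg1 zg26) (kg xg2 yg10 zg14) (kg xg3 yg20 zg33) (kg xg3 yg1 zg29) (kg xg2 yg10 zg17) (kg xg3 yg1 zg31) (kg xg3 yg1 zg32) (kg xg2 yg10 zg19) (kg xg3 yg1 zg34) (kg xg2 yg10 zg22) (kg xg3 yg1 zg36) (kg xg3 yg1 zg37) (kg xg2 yg10 zg26) (kg xg2 yg10 zg32) (kg xg3 yg22 zg30) (kg xg2 yg10 zg33) (kg xg3 yg1 zg42) (kg xg2 yg10 zg35) (kg xg3 yg1 zg44) (kg xg3 yg1 zg45) (kg xg3 yg19 zg47) (kg xg2 yg10 zg44) (kg xg2 yg10 zg50) (kg xg3 yg21 zg25) (kg xg3 yg21 zg42)) (@D3.rec (fun _ => Pt) (kg xg3 yg2 zg0) (kg xg3 yg2 zg1) (kg xg3 yg2 zg2) (kg xg2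 yg11 zg8) (kg xg3 yg22 zg35) (kg xg3 yg22 zg36) (kg xg3 yg2 zg6) (kg xg3 yg2 zg7) (kg xg3 yg22 zg44) (kg xg2 yg11 zg12) (kg xg2 yg11 zg13) (kg xg3 yg22 zg45) (kg xg3 yg22 zg46) (kg xg3 yg23 zg1) (kg xg3 yg2 zg14) (kg xg3 yg2 zg15) (kg xg3 yg2 zg16) (kg xg3 yg23 zg7) (kg xg2 yg11 zg16) (kg xg3 yg2 zg19) (kg xg3 yg2 zg20) (kg xg3 yg2 zg21) (kg xg3 yg23 zg14) (kg xg2 yg11 zg19) (kg xg2 yg11 zg25) (kg xg2 yg11 zg26) (kg xg3 yg23 zg21) (kg xg3 yg23 zg23) (kg xg2 yg11 zg29) (kg xg2 yg11 zg23) (kg xg3 yg23 zg15) (kg xg3 yg23 zg16) (kg xg3 yg23 zg30) (kg xg3 yg23 zg18) (kg xg3 yg23 zg34) (kg xg3 yg23 zg20) (kg xg2 yg11 zg27) (kg xg3 yg23 zg38) (kg xg2 yg11 zg28) (kg xg3 yg23 zg41) (kg xg3 yg23 zg25) (kg xg3 yg2 zg41) (kg xg2 yg11 zg35) (kg xg2 yg11 zg36) (kg xg2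 yg11 zg37) (kg xg2 yg11 zg38) (kg xg3 yg23 zg50) (kg xg3 yg23 zg43) (kg xg3 yg23 zg44) (kg xg3 yg24 zg3) (kg xg3 yg23 zg46)) (@D3.rec (fun _ => Pt) (kg xg3 yg23 zg47) (kg xg3 yg23 zg48) (kg xg3 yg24 zg9) (kg xg2 yg11 zg39) (kg xg3 yg3 zg4) (kg xg3 yg3 zg5) (kg xg3 yg24 zg15) (kg xg2 yg11 zg42) (kg xg3 yg3 zg8) (kg xg3 yg3 zg9) (kg xg3 yg24 zg22) (kg xg3 yg24 zg24) (kg xg3 yg3 zg12) (kg xg2 yg11 zg46) (kg xg3 yg24 zg10) (kg xg3 yg3 zg15) (kg xg3 yg3 zg16) (kg xg3 yg24 zg32) (kg xg2 yg11 zg50) (kg xg3 yg3 zg19) (kg xg3 yg3 zg20) (kg xg3 yg24 zg39) (kg xg3 yg24 zg41) (kg xg3 yg3 zg23) (kg xg2 yg12 zg3) (kg xg2 yg12 zg15) (kg xg2 yg12 zg16) (kg xg3 yg24 zg48) (kg xg3 yg24 zg50) (kg xg2 yg12 zg19) (kg xg2 yg12 zg7) (kg xg3 yg24 zg33) (kg xg2 yg12 zg22) (kg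 xg3 yg25 zg6) (kg xg2 yg12 zg24) (kg xg3 yg25 zg10) (kg xg2 yg12 zg26) (kg xg2 yg12 zg11) (kg xg3 yg25 zg14) (kg xg2 yg12 zg12) (kg xg3 yg25 zg17) (kg xg2 yg12 zg31) (kg xg3 yg24 zg44) (kg xg3 yg24 zg45) (kg xg3 yg25 zg22) (kg xg3 yg24 zg47) (kg xg2 yg12 zg17) (kg xg3 yg25 zg26) (kg xg2 yg12 zg18) (kg xg3 yg25 zg29) (kg xg3 yg25 zg1)) (@D3.rec (fun _ => Pt) (kg xg3 yg4 zg0) (kg xg3 yg25 zg3) (kg xg3 yg25 zg35) (kg xg3 yg25 zg5) (kg xg2 yg12 zg23) (kg xg3 yg25 zg40) (kg xg3 yg25 zg8) (kg xg3 yg25 zg44) (kg xg2 yg12 zg25) (kg xg3 yg25 zg47) (kg xg3 yg25 zg12) (kg xg3 yg4 zg11) (kg xg2 yg12 zg28) (kg xg3 yg26 zg0) (kg xg3 yg4 zg14) (kg xg2 yg12 zg30) (kg xg3 yg26 zg4) (kg xg3 yg4 zg17) (kg xg3 yg4 zg18) (kg xg3 yg4 zg19) (kg xg3 yg26 zg10) (kg xg2 yg12 zg35)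 (kg xg3 yg4 zg22) (kg xg3 yg4 zg23) (kg xg3 yg26 zg17) (kg xg3 yg26 zg19) (kg xg3 yg4 zg26) (kg xg2 yg12 zg39) (kg xg2 yg13 zg8) (kg xg3 yg4 zg29) (kg xg3 yg26 zg26) (kg xg3 yg4 zg31) (kg xg3 yg26 zg30) (kg xg3 yg4 zg33) (kg xg2 yg12 zg43) (kg xg3 yg26 zg34) (kg xg2 yg12 zg44) (kg xg3 yg26 zg37) (kg xg3 yg4 zg38) (kg xg2 yg13 zg19) (kg xg2 yg13 zg20) (kg xg2 yg13 zg21) (kg xg3 yg26 zg44) (kg xg3 yg26 zg46) (kg xg2 yg13 zg24) (kg xg2 yg13 zg0) (kg xg3 yg26 zg11) (kg xg2 yg13 zg27) (kg xg4 yg0 zg2) (kg xg2 yg13 zg29) (kg xg4 yg0 zg6)) (@D3.rec (fun _ => Pt) (kg xg2 yg13 zg31) (kg xg2 yg13 zg4) (kg xg4 yg0 zg10) (kg xg2 yg13 zg5) (kg xg4 yg0 zg13) (kg xg2 yg13 zg36) (kg xg3 yg26 zg22) (kg xg2 yg13 zg38) (kg xg4 yg0 zg19) (kg xg2 yg13 zg40) (kg xg2 yg13 zg10)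 (kg xg4 yg0 zg24) (kg xg2 yg13 zg43) (kg xg4 yg0 zg28) (kg xg2 yg13 zg12) (kg xg4 yg0 zg31) (kg xg2 yg13 zg47) (kg xg3 yg26 zg33) (kg xg2 yg13 zg15) (kg xg4 yg0 zg35) (kg xg3 yg26 zg36) (kg xg2 yg13 zg17) (kg xg4 yg0 zg39) (kg xg3 yg26 zg39) (kg xg4 yg0 zg43) (kg xg3 yg26 zg41) (kg xg4 yg0 zg47) (kg xg3 yg26 zg43) (kg xg2 yg13 zg22) (kg xg4 yg1 zg0) (kg xg2 yg13 zg23) (kg xg4 yg1 zg3) (kg xg3 yg26 zg48) (kg xg3 yg5 zg33) (kg xg3 yg26 zg50) (kg xg4 yg1 zg9) (kg xg4 yg0 zg1) (kg xg2 yg13 zg28) (kg xg4 yg1 zg14) (kg xg4 yg0 zg4) (kg xg4 yg1 zg18) (kg xg2 yg13 zg30) (kg xg4 yg1 zg21) (kg xg4 yg0 zg8) (kg xg3 yg5 zg44) (kg xg2 yg13 zg33) (kg xg4 yg1 zg25) (kg xg3 yg5 zg47) (kg xg2 yg13 zg35) (kg xg4 yg1 zg29) (kg xg4 yg0 zg15)) (@D3.rec (fun _ => Pt) (kg xg4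 yg1 zg33) (kg xg4 yg0 zg17) (kg xg4 yg1 zg37) (kg xg2 yg13 zg39) (kg xg4 yg1 zg40) (kg xg4 yg0 zg21) (kg xg3 yg6 zg6) (kg xg4 yg1 zg43) (kg xg2 yg13 zg42) (kg xg4 yg1 zg46) (kg xg4 yg0 zg26) (kg xg4 yg0 zg27) (kg xg2 yg13 zg44) (kg xg4 yg2 zg2) (kg xg3 yg6 zg14) (kg xg2 yg13 zg46) (kg xg4 yg2 zg6) (kg xg2 yg18 zg17) (kg xg3 yg6 zg18) (kg xg2 yg13 zg50) (kg xg4 yg2 zg10) (kg xg4 yg2 zg11) (kg xg3 yg6 zg22) (kg xg2 yg14 zg2) (kg xg2 yg14 zg3) (kg xg4 yg2 zg16) (kg xg2 yg14 zg4) (kg xg3 yg6 zg27) (kg xg2 yg14 zg7) (kg xg4 yg2 zg19) (kg xg2 yg14 zg8) (kg xg3 yg6 zg31) (kg xg2 yg14 zg10) (kg xg4 yg2 zg23) (kg xg3 yg6 zg34) (kg xg2 yg14 zg12) (kg xg4 yg2 zg26) (kg xg2 yg14 zg14) (kg xg3 yg6 zg38) (kg xg4 yg2 zg29) (kg xg2 yg14 zg16) (kg xg2 yg14 zg17) (kg xg4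 yg2 zg33) (kg xg3 yg6 zg43) (kg xg2 yg14 zg19) (kg xg2 yg18 zg33) (kg xg3 yg6 zg46) (kg xg2 yg14 zg22) (kg xg4 yg2 zg39) (kg xg4 yg2 zg40) (kg xg3 yg6 zg50)) (@D3.rec (fun _ => Pt) (kg xg2 yg14 zg25) (kg xg4 yg2 zg45) (kg xg2 yg14 zg26) (kg xg2 yg14 zg27) (kg xg4 yg2 zg49) (kg xg3 yg7 zg5) (kg xg2 yg14 zg29) (kg xg4 yg3 zg1) (kg xg2 yg14 zg31) (kg xg4 yg3 zg5) (kg xg3 yg7 zg10) (kg xg2 yg14 zg33) (kg xg2 yg19 zg0) (kg xg3 yg7 zg13) (kg xg2 yg14 zg35) (kg xg4 yg3 zg11) (kg xg4 yg3 zg12) (kg xg3 yg7 zg17) (kg xg2 yg14 zg38) (kg xg4 yg3 zg16) (kg xg2 yg19 zg8) (kg xg3 yg7 zg21) (kg xg2 yg14 zg42) (kg xg2 yg14 zg43) (kg xg4 yg3 zg22) (kg xg4 yg3 zg23) (kg xg3 yg7 zg26) (kg xg3 yg7 zg27) (kg xg2 yg15 zg3) (kg xg2 yg15 zg4) (kg xg2 yg15 zg5) (kg xg2 yg15 zg6)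 (kg xg2 yg15 zg7) (kg xg4 yg3 zg35) (kg xg2 yg15 zg9) (kg xg2 yg15 zg10) (kg xg2 yg15 zg11) (kg xg4 yg3 zg41) (kg xg2 yg15 zg2) (kg xg4 yg3 zg28) (kg xg4 yg3 zg29) (kg xg4 yg3 zg30) (kg xg4 yg3 zg46) (kg xg4 yg3 zg32) (kg xg4 yg3 zg33) (kg xg4 yg4 zg0) (kg xg2 yg15 zg8) (kg xg4 yg3 zg36) (kg xg4 yg3 zg37) (kg xg4 yg4 zg7) (kg xg4 yg4 zg9)) (@D3.rec (fun _ => Pt) (kg xg4 yg3 zg40) (kg xg2 yg15 zg12) (kg xg2 yg15 zg28) (kg xg3 yg8 zg3) (kg xg4 yg4 zg15) (kg xg3 yg8 zg5) (kg xg4 yg4 zg18) (kg xg2 yg15 zg17) (kg xg3 yg8 zg8) (kg xg4 yg4 zg23) (kg xg4 yg4 zg25) (kg xg3 yg8 zg11) (kg xg2 yg15 zg20) (kg xg4 yg4 zg1) (kg xg3 yg8 zg14) (kg xg4 yg4 zg30) (kg xg3 yg8 zg16) (kg xg4 yg4 zg33) (kg xg3 yg8 zg18) (kg xg2 yg15 zg24) (kg xg4 yg4 zg37) (kg xg2 yg15 zg25)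 (kg xg4 yg4 zg40) (kg xg3 yg8 zg23) (kg xg4 yg4 zg12) (kg xg3 yg8 zg25) (kg xg4 yg4 zg44) (kg xg2 yg15 zg30) (kg xg3 yg8 zg28) (kg xg4 yg4 zg49) (kg xg4 yg5 zg0) (kg xg3 yg8 zg31) (kg xg2 yg15 zg33) (kg xg2 yg15 zg50) (kg xg3 yg8 zg34) (kg xg4 yg5 zg7) (kg xg3 yg8 zg36) (kg xg4 yg5 zg11) (kg xg3 yg8 zg38) (kg xg2 yg15 zg37) (kg xg4 yg5 zg15) (kg xg2 yg15 zg38) (kg xg4 yg5 zg18) (kg xg3 yg8 zg43) (kg xg2 yg16 zg10) (kg xg4 yg5 zg21) (kg xg2 yg16 zg12) (kg xg2 yg15 zg43) (kg xg4 yg4 zg45) (kg xg2 yg16 zg15) (kg xg4 yg5 zg28)) (@D3.rec (fun _ => Pt) (kg xg2 yg16 zg17) (kg xg2 yg15 zg46) (kg xg4 yg5 zg32) (kg xg2 yg15 zg47) (kg xg4 yg5 zg35) (kg xg2 yg16 zg22) (kg xg4 yg5 zg3) (kg xg2 yg16 zg24) (kg xg4 yg5 zg41) (kg xg2 yg16 zg26) (kg xg2 yg16 zg1) (kg xg4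 yg5 zg46) (kg xg2 yg16 zg29) (kg xg4 yg5 zg50) (kg xg2 yg16 zg3) (kg xg4 yg6 zg2) (kg xg2 yg16 zg33) (kg xg4 yg5 zg14) (kg xg2 yg16 zg6) (kg xg4 yg6 zg6) (kg xg4 yg5 zg17) (kg xg2 yg16 zg8) (kg xg4 yg6 zg10) (kg xg4 yg6 zg11) (kg xg2 yg16 zg11) (kg xg4 yg6 zg14) (kg xg4 yg5 zg23) (kg xg3 yg9 zg27) (kg xg4 yg6 zg17) (kg xg4 yg5 zg26) (kg xg4 yg6 zg20) (kg xg2 yg16 zg16) (kg xg4 yg6 zg23) (kg xg4 yg5 zg30) (kg xg3 yg9 zg34) (kg xg2 yg16 zg19) (kg xg4 yg6 zg27) (kg xg3 yg9 zg37) (kg xg2 yg16 zg21) (kg xg4 yg6 zg31) (kg xg4 yg5 zg37) (kg xg4 yg6 zg35) (kg xg4 yg5 zg39) (kg xg4 yg6 zg39) (kg xg2 yg16 zg25) (kg xg4 yg6 zg42) (kg xg4 yg5 zg43) (kg xg3 yg9 zg47) (kg xg4 yg6 zg45) (kg xg2 yg16 zg28) (kg xg4 yg6 zg48)) (@D3.rec (fun _ => Pt) (kg xg4 yg5 zg48) (kg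 xg4 yg5 zg49) (kg xg2 yg16 zg30) (kg xg4 yg7 zg4) (kg xg3 yg10 zg4) (kg xg2 yg16 zg32) (kg xg4 yg7 zg8) (kg xg3 yg25 zg49) (kg xg3 yg10 zg8) (kg xg2 yg16 zg36) (kg xg4 yg7 zg12) (kg xg4 yg7 zg13) (kg xg3 yg10 zg12) (kg xg2 yg16 zg39) (kg xg3 yg10 zg14) (kg xg4 yg7 zg20) (kg xg3 yg10 zg16) (kg xg4 yg7 zg24) (kg xg3 yg10 zg18) (kg xg2 yg16 zg42) (kg xg4 yg7 zg28) (kg xg2 yg16 zg43) (kg xg4 yg7 zg31) (kg xg3 yg10 zg23) (kg xg2 yg17 zg17) (kg xg3 yg10 zg25) (kg xg4 yg7 zg37) (kg xg3 yg10 zg27) (kg xg2 yg16 zg48) (kg xg4 yg7 zg42) (kg xg3 yg10 zg30) (kg xg4 yg7 zg46) (kg xg2 yg16 zg50) (kg xg4 yg7 zg49) (kg xg3 yg10 zg34) (kg xg2 yg17 zg28) (kg xg2 yg17 zg2) (kg xg4 yg8 zg2) (kg xg2 yg17 zg31) (kg xg2 yg17 zg4) (kg xg4 yg8 zg6) (kg xg2 yg17 zg34) (kg xg4 yg8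 zg11) (kg xg2 yg17 zg36) (kg xg2 yg17 zg8) (kg xg4 yg8 zg16) (kg xg2 yg17 zg39) (kg xg4 yg8 zg20) (kg xg2 yg17 zg10) (kg xg4 yg8 zg23) (kg xg2 yg17 zg43)) (@D3.rec (fun _ => Pt) (kg xg4 yg7 zg27) (kg xg2 yg17 zg13) (kg xg4 yg8 zg27) (kg xg4 yg7 zg30) (kg xg2 yg17 zg15) (kg xg4 yg8 zg31) (kg xg2 yg17 zg50) (kg xg4 yg8 zg34) (kg xg2 yg18 zg1) (kg xg4 yg8 zg37) (kg xg2 yg17 zg19) (kg xg4 yg8 zg40) (kg xg2 yg18 zg5) (kg xg4 yg7 zg40) (kg xg4 yg8 zg43) (kg xg2 yg17 zg22) (kg xg4 yg8 zg46) (kg xg2 yg18 zg10) (kg xg2 yg18 zg11) (kg xg2 yg17 zg24) (kg xg4 yg9 zg2) (kg xg4 yg7 zg48) (kg xg2 yg17 zg26) (kg xg4 yg9 zg6) (kg xg4 yg0 zg33) (kg xg4 yg8 zg1) (kg xg2 yg17 zg30) (kg xg4 yg9 zg10) (kg xg4 yg9 zg11) (kg xg4 yg8 zg5) (kg xg2 yg17 zg33) (kg xg4 yg8 zg7) (kg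 xg4 yg9 zg17) (kg xg4 yg8 zg9) (kg xg4 yg9 zg20) (kg xg2 yg17 zg35) (kg xg4 yg9 zg23) (kg xg4 yg8 zg13) (kg xg3 yg11 zg38) (kg xg4 yg9 zg26) (kg xg2 yg17 zg38) (kg xg4 yg9 zg29) (kg xg4 yg8 zg18) (kg xg4 yg8 zg19) (kg xg2 yg17 zg40) (kg xg4 yg9 zg35) (kg xg3 yg11 zg46) (kg xg2 yg17 zg42) (kg xg4 yg9 zg39) (kg xg4 yg1 zg23) (kg xg3 yg11 zg50)) (@D3.rec (fun _ => Pt) (kg xg2 yg17 zg46) (kg xg4 yg9 zg43) (kg xg4 yg9 zg44) (kg xg3 yg12 zg3) (kg xg2 yg17 zg49) (kg xg4 yg9 zg49) (kg xg4 yg10 zg0) (kg xg2 yg18 zg0) (kg xg4 yg10 zg3) (kg xg4 yg8 zg36) (kg xg2 yg18 zg2) (kg xg4 yg10 zg7) (kg xg3 yg12 zg12) (kg xg2 yg18 zg4) (kg xg4 yg10 zg11) (kg xg4 yg10 zg12) (kg xg2 yg18 zg7) (kg xg4 yg10 zg16) (kg xg3 yg12 zg18) (kg xg2 yg18 zg9) (kg xg4 yg10 zg20) (kg xg4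 yg10 zg21) (kg xg4 yg8 zg49) (kg xg4 yg8 zg50) (kg xg4 yg2 zg0) (kg xg3 yg12 zg25) (kg xg2 yg18 zg13) (kg xg4 yg10 zg29) (kg xg4 yg10 zg30) (kg xg3 yg12 zg29) (kg xg2 yg18 zg16) (kg xg4 yg10 zg34) (kg xg4 yg2 zg8) (kg xg3 yg12 zg33) (kg xg2 yg18 zg20) (kg xg2 yg18 zg21) (kg xg4 yg10 zg40) (kg xg4 yg10 zg41) (kg xg3 yg12 zg38) (kg xg2 yg18 zg24) (kg xg3 yg12 zg40) (kg xg4 yg10 zg47) (kg xg2 yg18 zg27) (kg xg3 yg12 zg43) (kg xg4 yg2 zg31) (kg xg3 yg12 zg45) (kg xg2 yg18 zg30) (kg xg4 yg11 zg3) (kg xg3 yg12 zg48) (kg xg4 yg11 zg5) (kg xg4 yg2 zg37)) (@D3.rec (fun _ => Pt) (kg xg3 yg13 zg0) (kg xg2 yg18 zg36) (kg xg2 yg18 zg37) (kg xg4 yg11 zg11) (kg xg4 yg11 zg12) (kg xg3 yg13 zg5) (kg xg4 yg11 zg16) (kg xg2 yg18 zg40) (kg xg3 yg13 zg8) (kg xg4 yg2 zg47)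 (kg xg3 yg13 zg10) (kg xg2 yg18 zg43) (kg xg4 yg11 zg23) (kg xg3 yg13 zg13) (kg xg2 yg18 zg46) (kg xg4 yg11 zg27) (kg xg4 yg3 zg3) (kg xg3 yg13 zg17) (kg xg2 yg18 zg48) (kg xg4 yg11 zg33) (kg xg3 yg13 zg20) (kg xg4 yg11 zg35) (kg xg4 yg3 zg9) (kg xg3 yg13 zg23) (kg xg2 yg19 zg3) (kg xg2 yg19 zg4) (kg xg4 yg11 zg41) (kg xg4 yg11 zg42) (kg xg3 yg13 zg28) (kg xg2 yg19 zg7) (kg xg4 yg11 zg46) (kg xg4 yg3 zg18) (kg xg4 yg3 zg19) (kg xg3 yg13 zg33) (kg xg3 yg13 zg34) (kg xg2 yg19 zg12) (kg xg2 yg19 zg13) (kg xg4 yg12 zg3) (kg xg4 yg12 zg4) (kg xg4 yg12 zg5) (kg xg4 yg12 zg10) (kg xg3 yg13 zg41) (kg xg4 yg12 zg13) (kg xg2 yg19 zg16) (kg xg4 yg12 zg16) (kg xg3 yg13 zg45) (kg xg2 yg19 zg37) (kg xg4 yg12 zg19) (kg xg2 yg19 zg19) (kg xg4 yg12 zg22) (kg xg3 yg13 zg50))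 (@D3.rec (fun _ => Pt) (kg xg3 yg14 zg0) (kg xg2 yg19 zg21) (kg xg4 yg12 zg29) (kg xg2 yg19 zg45) (kg xg2 yg19 zg23) (kg xg4 yg12 zg33) (kg xg3 yg14 zg6) (kg xg2 yg19 zg49) (kg xg2 yg19 zg27) (kg xg4 yg12 zg37) (kg xg4 yg12 zg38) (kg xg2 yg20 zg2) (kg xg2 yg19 zg30) (kg xg4 yg12 zg43) (kg xg2 yg19 zg31) (kg xg4 yg12 zg46) (kg xg2 yg20 zg7) (kg xg2 yg19 zg33) (kg xg4 yg12 zg50) (kg xg4 yg12 zg15) (kg xg2 yg19 zg35) (kg xg4 yg13 zg3) (kg xg4 yg13 zg4) (kg xg2 yg19 zg38) (kg xg4 yg13 zg8) (kg xg4 yg12 zg21) (kg xg2 yg19 zg40) (kg xg4 yg13 zg12) (kg xg4 yg13 zg13) (kg xg2 yg20 zg19) (kg xg2 yg20 zg20) (kg xg3 yg14 zg31) (kg xg4 yg12 zg28) (kg xg2 yg19 zg44) (kg xg4 yg13 zg21) (kg xg4 yg13 zg22) (kg xg4 yg12 zg32) (kg xg2 yg19 zg47) (kg xg4 yg13 zg26) (kg xg3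 yg14 zg39) (kg xg4 yg12 zg36) (kg xg2 yg20 zg0) (kg xg2 yg20 zg1) (kg xg4 yg13 zg32) (kg xg4 yg13 zg33) (kg xg4 yg12 zg41) (kg xg2 yg20 zg4) (kg xg4 yg13 zg39) (kg xg3 yg14 zg48) (kg xg2 yg20 zg6) (kg xg4 yg13 zg43)) (@D3.rec (fun _ => Pt) (kg xg3 yg15 zg0) (kg xg3 yg15 zg1) (kg xg2 yg20 zg9) (kg xg4 yg13 zg47) (kg xg4 yg13 zg48) (kg xg3 yg15 zg5) (kg xg2 yg20 zg12) (kg xg3 yg15 zg7) (kg xg3 yg15 zg8) (kg xg2 yg20 zg14) (kg xg4 yg14 zg4) (kg xg4 yg14 zg5) (kg xg3 yg15 zg12) (kg xg2 yg20 zg17) (kg xg2 yg20 zg18) (kg xg4 yg14 zg11) (kg xg4 yg14 zg12) (kg xg4 yg14 zg15) (kg xg4 yg13 zg17) (kg xg4 yg14 zg17) (kg xg3 yg15 zg20) (kg xg3 yg15 zg21) (kg xg2 yg20 zg24) (kg xg2 yg20 zg25) (kg xg4 yg14 zg23) (kg xg4 yg14 zg24) (kg xg3 yg15 zg26) (kg xg2 yg20 zg28)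 (kg xg4 yg14 zg28) (kg xg3 yg15 zg29) (kg xg3 yg15 zg30) (kg xg3 yg15 zg31) (kg xg3 yg15 zg32) (kg xg2 yg20 zg33) (kg xg2 yg20 zg34) (kg xg4 yg14 zg36) (kg xg4 yg14 zg37) (kg xg4 yg14 zg38) (kg xg4 yg14 zg42) (kg xg3 yg15 zg39) (kg xg3 yg15 zg40) (kg xg2 yg20 zg39) (kg xg2 yg20 zg40) (kg xg4 yg14 zg48) (kg xg4 yg14 zg49) (kg xg3 yg15 zg45) (kg xg2 yg20 zg43) (kg xg2 yg21 zg13) (kg xg3 yg15 zg48) (kg xg3 yg15 zg49) (kg xg3 yg15 zg50)) (@D3.rec (fun _ => Pt) (kg xg3 yg16 zg0) (kg xg2 yg20 zg48) (kg xg2 yg20 zg49) (kg xg4 yg15 zg8) (kg xg4 yg15 zg9) (kg xg4 yg15 zg10) (kg xg2 yg21 zg9) (kg xg3 yg16 zg7) (kg xg3 yg16 zg8) (kg xg3 yg16 zg9) (kg xg2 yg21 zg8) (kg xg2 yg21 zg10) (kg xg4 yg15 zg14) (kg xg4 yg15 zg2) (kg xg4 yg14 zg29) (kg xg2 yg21 zg12) (kg xg4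 yg14 zg43) (kg xg3 yg16 zg17) (kg xg3 yg16 zg18) (kg xg3 yg16 zg19) (kg xg3 yg16 zg20) (kg xg2 yg21 zg29) (kg xg4 yg15 zg21) (kg xg2 yg21 zg31) (kg xg2 yg21 zg32) (kg xg2 yg26 zg40) (kg xg2 yg21 zg23) (kg xg2 yg21 zg35) (kg xg2 yg21 zg36) (kg xg2 yg26 zg38) (kg xg4 yg15 zg25) (kg xg2 yg21 zg30) (kg xg4 yg15 zg22) (kg xg4 yg15 zg29) (kg xg2 yg26 zg2) (kg xg2 yg21 zg33) (kg xg2 yg21 zg48) (kg xg4 yg15 zg23) (kg xg4 yg15 zg28) (kg xg4 yg15 zg24) (kg xg2 yg25 zg50) (kg xg2 yg26 zg36) (kg xg2 yg21 zg37) (kg xg2 yg21 zg42) (kg xg4 yg15 zg26) (kg xg3 yg16 zg45) (kg xg4 yg15 zg37) (kg xg2 yg21 zg45) (kg xg2 yg26 zg21) (kg xg2 yg21 zg46) (kg xg2 yg26 zg20)) (@D3.rec (fun _ => Pt) (kg xg3 yg17 zg0) (kg xg4 yg15 zg38) (kg xg3 yg17 zg2) (kg xg2 yg21 zg50) (kg xg4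 yg15 zg43) (kg xg3 yg17 zg5) (kg xg2 yg26 zg18) (kg xg2 yg22 zg1) (kg xg2 yg26 zg15) (kg xg2 yg26 zg17) (kg xg2 yg22 zg25) (kg xg3 yg17 zg11) (kg xg4 yg15 zg47) (kg xg2 yg22 zg10) (kg xg2 yg23 zg46) (kg xg2 yg22 zg11) (kg xg2 yg22 zg31) (kg xg3 yg17 zg17) (kg xg4 yg15 zg46) (kg xg3 yg17 zg19) (kg xg2 yg22 zg15) (kg xg4 yg16 zg2) (kg xg3 yg17 zg22) (kg xg2 yg23 zg44) (kg xg2 yg22 zg17) (kg xg2 yg23 zg42) (kg xg3 yg17 zg26) (kg xg2 yg22 zg42) (kg xg2 yg23 zg32) (kg xg4 yg16 zg7) (kg xg4 yg16 zg8) (kg xg2 yg22 zg27) (kg xg4 yg15 zg40) (kg xg2 yg22 zg29) (kg xg2 yg24 zg22) (kg xg2 yg23 zg3) (kg xg4 yg16 zg12) (kg xg2 yg23 zg5) (kg xg4 yg16 zg9) (kg xg2 yg22 zg33) (kg xg4 yg16 zg15) (kg xg4 yg15 zg36) (kg xg4 yg16 zg17) (kg xg2 yg22 zg36) (kg xg4 yg16 zg20)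 (kg xg2 yg23 zg13) (kg xg2 yg22 zg38) (kg xg2 yg24 zg20) (kg xg2 yg24 zg19) (kg xg2 yg22 zg40) (kg xg4 yg16 zg24)) (@D3.rec (fun _ => Pt) (kg xg2 yg24 zg7) (kg xg2 yg22 zg47) (kg xg4 yg16 zg26) (kg xg2 yg22 zg48) (kg xg2 yg22 zg49) (kg xg3 yg18 zg5) (kg xg3 yg18 zg6) (kg xg3 yg18 zg7) (kg xg4 yg16 zg31) (kg xg4 yg16 zg33) (kg xg2 yg23 zg4) (kg xg4 yg16 zg36) (kg xg2 yg23 zg6) (kg xg4 yg16 zg37) (kg xg3 yg18 zg14) (kg xg2 yg23 zg8) (kg xg4 yg16 zg40) (kg xg2 yg23 zg10) (kg xg4 yg16 zg44) (kg xg3 yg18 zg19) (kg xg2 yg23 zg12) (kg xg4 yg16 zg47) (kg xg4 yg16 zg22) (kg xg3 yg18 zg23) (kg xg3 yg18 zg24) (kg xg2 yg23 zg15) (kg xg2 yg25 zg40) (kg xg4 yg16 zg50) (kg xg3 yg18 zg28) (kg xg2 yg23 zg18) (kg xg2 yg23 zg23) (kg xg2 yg25 zg24) (kg xg3 yg18 zg32) (kg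 xg3 yg18 zg33) (kg xg4 yg17 zg5) (kg xg2 yg23 zg27) (kg xg4 yg17 zg8) (kg xg3 yg18 zg37) (kg xg4 yg16 zg5) (kg xg2 yg23 zg29) (kg xg4 yg17 zg4) (kg xg2 yg24 zg4) (kg xg3 yg0 zg47) (kg xg2 yg23 zg34) (kg xg3 yg1 zg1) (kg xg4 yg17 zg11) (kg xg4 yg16 zg0) (kg xg2 yg23 zg38) (kg xg2 yg24 zg13) (kg xg4 yg16 zg3) (kg xg2 yg23 zg40)) (@D3.rec (fun _ => Pt) (kg xg4 yg16 zg1) (kg xg3 yg19 zg1) (kg xg4 yg17 zg16) (kg xg4 yg17 zg17) (kg xg2 yg23 zg48) (kg xg4 yg17 zg6) (kg xg4 yg17 zg20) (kg xg2 yg23 zg50) (kg xg4 yg17 zg23) (kg xg2 yg24 zg1) (kg xg4 yg17 zg18) (kg xg4 yg16 zg23) (kg xg2 yg24 zg3) (kg xg2 yg24 zg6) (kg xg3 yg1 zg6) (kg xg3 yg1 zg10) (kg xg3 yg1 zg4) (kg xg2 yg24 zg9) (kg xg4 yg17 zg25) (kg xg2 yg24 zg10) (kg xg2 yg24 zg11) (kg xg4 yg16 zg14) (kg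 xg4 yg17 zg27) (kg xg2 yg24 zg14) (kg xg4 yg16 zg19) (kg xg4 yg16 zg18) (kg xg2 yg24 zg16) (kg xg4 yg17 zg30) (kg xg2 yg25 zg1) (kg xg4 yg17 zg34) (kg xg2 yg24 zg24) (kg xg2 yg24 zg25) (kg xg3 yg19 zg32) (kg xg4 yg17 zg38) (kg xg2 yg24 zg28) (kg xg4 yg17 zg42) (kg xg3 yg19 zg36) (kg xg2 yg24 zg30) (kg xg3 yg19 zg38) (kg xg3 yg19 zg39) (kg xg2 yg24 zg32) (kg xg4 yg17 zg45) (kg xg3 yg19 zg42) (kg xg3 yg19 zg43) (kg xg3 yg19 zg44) (kg xg2 yg24 zg38) (kg xg2 yg24 zg39) (kg xg3 yg1 zg46) (kg xg3 yg19 zg48) (kg xg4 yg17 zg47) (kg xg2 yg24 zg42)) (@D3.rec (fun _ => Pt) (kg xg3 yg20 zg0) (kg xg3 yg20 zg1) (kg xg3 yg20 zg2) (kg xg2 yg24 zg46) (kg xg4 yg18 zg2) (kg xg3 yg20 zg5) (kg xg3 yg20 zg6) (kg xg2 yg24 zg48) (kg xg4 yg18 zg5) (kg xg3 yg20 zg9) (kg xg2 yg25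 zg0) (kg xg4 yg18 zg8) (kg xg4 yg18 zg10) (kg xg4 yg18 zg11) (kg xg2 yg25 zg8) (kg xg3 yg20 zg15) (kg xg3 yg20 zg16) (kg xg3 yg20 zg17) (kg xg2 yg25 zg11) (kg xg4 yg18 zg17) (kg xg3 yg20 zg20) (kg xg2 yg25 zg14) (kg xg4 yg18 zg21) (kg xg3 yg20 zg23) (kg xg3 yg20 zg24) (kg xg2 yg25 zg16) (kg xg4 yg18 zg27) (kg xg3 yg20 zg27) (kg xg4 yg17 zg1) (kg xg3 yg20 zg29) (kg xg3 yg20 zg30) (kg xg2 yg25 zg22) (kg xg4 yg18 zg29) (kg xg3 yg1 zg28) (kg xg3 yg20 zg34) (kg xg3 yg20 zg35) (kg xg2 yg25 zg28) (kg xg4 yg18 zg33) (kg xg4 yg18 zg35) (kg xg2 yg25 zg29) (kg xg3 yg20 zg40) (kg xg2 yg25 zg31) (kg xg4 yg18 zg41) (kg xg3 yg20 zg43) (kg xg3 yg20 zg44) (kg xg4 yg16 zg38) (kg xg3 yg20 zg46) (kg xg3 yg20 zg47) (kg xg2 yg25 zg37) (kg xg4 yg18 zg48) (kg xg4 yg17 zg0)) (@D3.rec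 (fun _ => Pt) (kg xg4 yg18 zg50) (kg xg2 yg25 zg41) (kg xg2 yg25 zg42) (kg xg2 yg26 zg7) (kg xg4 yg19 zg1) (kg xg2 yg25 zg45) (kg xg4 yg15 zg32) (kg xg2 yg26 zg11) (kg xg2 yg25 zg47) (kg xg4 yg19 zg4) (kg xg3 yg21 zg10) (kg xg4 yg19 zg7) (kg xg2 yg26 zg4) (kg xg4 yg19 zg0) (kg xg4 yg15 zg41) (kg xg2 yg26 zg8) (kg xg4 yg19 zg11) (kg xg4 yg15 zg44) (kg xg2 yg26 zg10) (kg xg4 yg19 zg14) (kg xg4 yg15 zg42) (kg xg2 yg26 zg13) (kg xg4 yg19 zg18) (kg xg4 yg19 zg20) (kg xg4 yg4 zg36) (kg xg3 yg1 zg49) (kg xg3 yg21 zg26) (kg xg2 yg26 zg25) (kg xg4 yg19 zg23) (kg xg2 yg26 zg26) (kg xg4 yg19 zg25) (kg xg2 yg26 zg27) (kg xg4 yg15 zg31) (kg xg2 yg26 zg30) (kg xg4 yg19 zg29) (kg xg4 yg15 zg33) (kg xg2 yg26 zg32) (kg xg4 yg19 zg32) (kg xg2 yg26 zg34) (kg xg4 yg19 zg35)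 (kg xg4 yg19 zg37) (kg xg4 yg3 zg38) (kg xg3 yg1 zg50) (kg xg3 yg21 zg43) (kg xg3 yg21 zg44) (kg xg3 yg21 zg45) (kg xg3 yg21 zg46) (kg xg3 yg21 zg47) (kg xg4 yg19 zg43) (kg xg2 yg26 zg45) (kg xg3 yg21 zg50)) (@D3.rec (fun _ => Pt) (kg xg3 yg22 zg0) (kg xg3 yg22 zg1) (kg xg3 yg22 zg2) (kg xg3 yg22 zg3) (kg xg3 yg0 zg12) (kg xg3 yg22 zg5) (kg xg3 yg22 zg6) (kg xg3 yg22 zg7) (kg xg3 yg22 zg8) (kg xg3 yg22 zg9) (kg xg4 yg20 zg0) (kg xg3 yg0 zg8) (kg xg4 yg19 zg47) (kg xg3 yg0 zg13) (kg xg3 yg0 zg21) (kg xg3 yg22 zg15) (kg xg4 yg20 zg2) (kg xg3 yg22 zg17) (kg xg4 yg20 zg5) (kg xg3 yg1 zg18) (kg xg3 yg22 zg20) (kg xg3 yg1 zg20) (kg xg3 yg22 zg22) (kg xg3 yg22 zg23) (kg xg3 yg1 zg22) (kg xg3 yg22 zg25) (kg xg3 yg22 zg26) (kg xg3 yg22 zg27) (kg xg3 yg22 zg28)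 (kg xg4 yg20 zg8) (kg xg3 yg1 zg40) (kg xg3 yg22 zg31) (kg xg3 yg22 zg32) (kg xg3 yg22 zg33) (kg xg3 yg22 zg34) (kg xg3 yg2 zg4) (kg xg3 yg2 zg5) (kg xg4 yg20 zg12) (kg xg4 yg20 zg13) (kg xg4 yg20 zg19) (kg xg3 yg22 zg40) (kg xg3 yg22 zg41) (kg xg3 yg22 zg42) (kg xg4 yg20 zg22) (kg xg3 yg2 zg8) (kg xg3 yg2 zg11) (kg xg3 yg2 zg12) (kg xg4 yg20 zg28) (kg xg4 yg20 zg24) (kg xg4 yg20 zg25) (kg xg4 yg20 zg26)) (@D3.rec (fun _ => Pt) (kg xg4 yg20 zg34) (kg xg3 yg2 zg13) (kg xg3 yg23 zg2) (kg xg3 yg23 zg3) (kg xg4 yg20 zg38) (kg xg4 yg20 zg40) (kg xg3 yg23 zg6) (kg xg3 yg2 zg17) (kg xg4 yg20 zg35) (kg xg3 yg23 zg9) (kg xg3 yg23 zg10) (kg xg4 yg20 zg48) (kg xg4 yg20 zg50) (kg xg3 yg23 zg13) (kg xg3 yg2 zg22) (kg xg3 yg2 zg30) (kg xg3 yg2 zg31) (kg xg4 yg21 zg6)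 (kg xg3 yg2 zg33) (kg xg4 yg21 zg10) (kg xg3 yg2 zg35) (kg xg3 yg2 zg26) (kg xg4 yg21 zg14) (kg xg3 yg2 zg27) (kg xg4 yg21 zg17) (kg xg3 yg2 zg40) (kg xg4 yg21 zg2) (kg xg4 yg21 zg3) (kg xg4 yg21 zg23) (kg xg4 yg21 zg5) (kg xg3 yg2 zg32) (kg xg4 yg21 zg28) (kg xg4 yg21 zg8) (kg xg4 yg21 zg32) (kg xg3 yg2 zg34) (kg xg4 yg21 zg35) (kg xg4 yg21 zg12) (kg xg3 yg23 zg37) (kg xg3 yg2 zg37) (kg xg4 yg21 zg39) (kg xg3 yg23 zg40) (kg xg3 yg2 zg39) (kg xg4 yg21 zg43) (kg xg3 yg2 zg47) (kg xg3 yg2 zg48) (kg xg4 yg21 zg47) (kg xg3 yg2 zg50) (kg xg3 yg3 zg0) (kg xg3 yg3 zg1) (kg xg4 yg22 zg2) (kg xg3 yg2 zg46)) (@D3.rec (fun _ => Pt) (kg xg4 yg21 zg44) (kg xg4 yg21 zg45) (kg xg4 yg22 zg8) (kg xg3 yg2 zg49) (kg xg4 yg21 zg48) (kg xg4 yg21 zg49) (kg xg4 yg22 zg15) (kg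 xg4 yg22 zg17) (kg xg4 yg22 zg1) (kg xg3 yg3 zg2) (kg xg3 yg3 zg14) (kg xg3 yg24 zg11) (kg xg4 yg22 zg24) (kg xg4 yg22 zg26) (kg xg3 yg24 zg14) (kg xg3 yg3 zg6) (kg xg4 yg22 zg9) (kg xg3 yg24 zg17) (kg xg4 yg22 zg31) (kg xg3 yg24 zg19) (kg xg4 yg22 zg34) (kg xg3 yg24 zg21) (kg xg3 yg3 zg10) (kg xg4 yg22 zg37) (kg xg3 yg3 zg11) (kg xg4 yg22 zg40) (kg xg3 yg24 zg26) (kg xg4 yg22 zg20) (kg xg3 yg24 zg28) (kg xg4 yg22 zg45) (kg xg4 yg22 zg47) (kg xg3 yg24 zg31) (kg xg3 yg3 zg17) (kg xg3 yg3 zg31) (kg xg3 yg24 zg34) (kg xg4 yg23 zg3) (kg xg3 yg24 zg36) (kg xg4 yg23 zg7) (kg xg3 yg24 zg38) (kg xg3 yg3 zg21) (kg xg4 yg23 zg11) (kg xg3 yg3 zg22) (kg xg4 yg23 zg14) (kg xg3 yg24 zg43) (kg xg3 yg3 zg42) (kg xg3 yg3 zg43) (kg xg4 yg23 zg19) (kg xg3 yg3 zg45) (kg xg3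 yg3 zg27) (kg xg4 yg23 zg23) (kg xg3 yg3 zg28)) (@D3.rec (fun _ => Pt) (kg xg4 yg23 zg26) (kg xg3 yg3 zg50) (kg xg4 yg22 zg50) (kg xg3 yg4 zg1) (kg xg4 yg23 zg32) (kg xg3 yg4 zg3) (kg xg3 yg3 zg33) (kg xg4 yg23 zg37) (kg xg3 yg4 zg6) (kg xg4 yg23 zg41) (kg xg3 yg3 zg35) (kg xg4 yg23 zg44) (kg xg3 yg4 zg10) (kg xg4 yg23 zg10) (kg xg3 yg3 zg38) (kg xg4 yg23 zg48) (kg xg4 yg23 zg13) (kg xg3 yg3 zg40) (kg xg4 yg24 zg1) (kg xg4 yg24 zg3) (kg xg4 yg23 zg17) (kg xg4 yg24 zg7) (kg xg3 yg3 zg44) (kg xg4 yg24 zg10) (kg xg4 yg23 zg21) (kg xg3 yg25 zg25) (kg xg3 yg3 zg47) (kg xg4 yg24 zg14) (kg xg3 yg25 zg28) (kg xg3 yg3 zg49) (kg xg4 yg24 zg18) (kg xg4 yg23 zg28) (kg xg4 yg24 zg22) (kg xg4 yg23 zg30) (kg xg4 yg24 zg26) (kg xg3 yg4 zg2) (kg xg4 yg24 zg29) (kg xg4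 yg23 zg34) (kg xg3 yg25 zg38) (kg xg4 yg24 zg32) (kg xg3 yg4 zg5) (kg xg4 yg24 zg35) (kg xg4 yg23 zg39) (kg xg4 yg23 zg40) (kg xg3 yg4 zg7) (kg xg4 yg24 zg42) (kg xg3 yg25 zg46) (kg xg3 yg4 zg9) (kg xg4 yg24 zg46) (kg xg3 yg10 zg7) (kg xg3 yg25 zg50)) (@D3.rec (fun _ => Pt) (kg xg3 yg4 zg13) (kg xg4 yg24 zg50) (kg xg4 yg25 zg0) (kg xg3 yg26 zg3) (kg xg3 yg4 zg16) (kg xg3 yg26 zg5) (kg xg3 yg26 zg6) (kg xg4 yg25 zg9) (kg xg4 yg25 zg11) (kg xg3 yg26 zg9) (kg xg3 yg4 zg20) (kg xg3 yg4 zg46) (kg xg3 yg26 zg12) (kg xg4 yg25 zg18) (kg xg3 yg26 zg14) (kg xg4 yg25 zg22) (kg xg3 yg26 zg16) (kg xg3 yg4 zg24) (kg xg4 yg25 zg26) (kg xg3 yg4 zg25) (kg xg4 yg25 zg29) (kg xg3 yg26 zg21) (kg xg3 yg5 zg6) (kg xg3 yg26 zg23) (kg xg4 yg25 zg35) (kg xg3 yg26 zg25) (kg xg3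 yg4 zg30) (kg xg4 yg25 zg40) (kg xg3 yg26 zg28) (kg xg4 yg25 zg44) (kg xg3 yg4 zg32) (kg xg4 yg25 zg47) (kg xg3 yg26 zg32) (kg xg3 yg5 zg17) (kg xg3 yg4 zg35) (kg xg4 yg26 zg0) (kg xg3 yg5 zg20) (kg xg3 yg4 zg37) (kg xg4 yg26 zg4) (kg xg3 yg5 zg23) (kg xg4 yg26 zg8) (kg xg3 yg5 zg25) (kg xg4 yg26 zg12) (kg xg3 yg5 zg27) (kg xg3 yg4 zg42) (kg xg4 yg26 zg16) (kg xg3 yg4 zg43) (kg xg4 yg26 zg19) (kg xg3 yg5 zg32) (kg xg4 yg25 zg14) (kg xg3 yg5 zg34))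
def f_g_4 : D2 → D3 → Pt := @D2.rec (fun _ => D3 → Pt) (@D3.rec (fun _ => Pt) (kg xg4 yg26 zg25) (kg xg3 yg5 zg36) (kg xg3 yg4 zg48) (kg xg4 yg26 zg30) (kg xg3 yg5 zg39) (kg xg4 yg26 zg34) (kg xg3 yg4 zg50) (kg xg4 yg26 zg37) (kg xg3 yg5 zg43) (kg xg4 yg25 zg25) (kg xg3 yg5 zg2) (kg xg4 yg26 zg41) (kg xg4 yg25 zg28) (kg xg3 yg5 zg4) (kg xg4 yg26 zg45) (kg xg3 yg5 zg50) (kg xg4 yg26 zg49) (kg xg3 yg6 zg1) (kg xg5 yg0 zg2) (kg xg3 yg5 zg8) (kg xg5 yg0 zg5) (kg xg3 yg6 zg5) (kg xg4 yg25 zg38) (kg xg5 yg0 zg8) (kg xg3 yg5 zg11) (kg xg5 yg0 zg11) (kg xg3 yg6 zg10) (kg xg3 yg6 zg11) (kg xg3 yg5 zg13) (kg xg5 yg0 zg18) (kg xg4 yg25 zg46) (kg xg3 yg5 zg15) (kg xg5 yg0 zg22) (kg xg3 yg11 zg24) (kg xg4 yg25 zg50) (kg xg3 yg5 zg19) (kg xg5 yg0 zg26) (kg xg5 yg0 zg27)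 (kg xg4 yg26 zg3) (kg xg3 yg5 zg22) (kg xg4 yg26 zg5) (kg xg5 yg0 zg34) (kg xg4 yg26 zg7) (kg xg3 yg5 zg24) (kg xg5 yg0 zg39) (kg xg4 yg26 zg10) (kg xg5 yg0 zg43) (kg xg3 yg5 zg26) (kg xg5 yg0 zg46) (kg xg4 yg26 zg14) (kg xg4 yg0 zg50)) (@D3.rec (fun _ => Pt) (kg xg3 yg5 zg29) (kg xg5 yg0 zg50) (kg xg4 yg1 zg2) (kg xg3 yg5 zg31) (kg xg5 yg1 zg3) (kg xg4 yg26 zg21) (kg xg5 yg1 zg7) (kg xg4 yg26 zg23) (kg xg5 yg1 zg11) (kg xg3 yg5 zg35) (kg xg5 yg1 zg14) (kg xg4 yg26 zg27) (kg xg4 yg1 zg12) (kg xg5 yg1 zg17) (kg xg3 yg5 zg38) (kg xg5 yg1 zg20) (kg xg4 yg26 zg32) (kg xg4 yg26 zg33) (kg xg3 yg5 zg40) (kg xg5 yg1 zg27) (kg xg4 yg1 zg20) (kg xg3 yg5 zg42) (kg xg5 yg1 zg31) (kg xg3 yg11 zg49) (kg xg4 yg1 zg24) (kg xg3 yg5 zg46) (kg xg5 yg1 zg35) (kg xg5 yg1 zg36)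 (kg xg4 yg1 zg28) (kg xg3 yg5 zg49) (kg xg5 yg1 zg41) (kg xg4 yg26 zg47) (kg xg5 yg1 zg45) (kg xg3 yg6 zg0) (kg xg5 yg1 zg48) (kg xg5 yg0 zg0) (kg xg5 yg0 zg1) (kg xg3 yg6 zg2) (kg xg5 yg2 zg3) (kg xg4 yg1 zg39) (kg xg3 yg6 zg4) (kg xg5 yg2 zg7) (kg xg5 yg2 zg8) (kg xg3 yg6 zg7) (kg xg5 yg2 zg12) (kg xg4 yg1 zg45) (kg xg3 yg6 zg9) (kg xg5 yg2 zg16) (kg xg5 yg2 zg17) (kg xg5 yg0 zg14) (kg xg5 yg0 zg15)) (@D3.rec (fun _ => Pt) (kg xg3 yg12 zg24) (kg xg4 yg2 zg1) (kg xg3 yg6 zg13) (kg xg5 yg2 zg26) (kg xg5 yg2 zg27) (kg xg4 yg2 zg5) (kg xg3 yg6 zg16) (kg xg5 yg2 zg31) (kg xg3 yg12 zg32) (kg xg4 yg2 zg9) (kg xg3 yg6 zg20) (kg xg3 yg6 zg21) (kg xg5 yg2 zg37) (kg xg5 yg2 zg38) (kg xg4 yg2 zg14) (kg xg4 yg2 zg15) (kg xg3 yg6 zg25) (kg xg4 yg2 zg17) (kg xg4 yg2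 zg18) (kg xg3 yg6 zg29) (kg xg4 yg2 zg20) (kg xg4 yg2 zg21) (kg xg4 yg2 zg22) (kg xg3 yg6 zg33) (kg xg5 yg2 zg49) (kg xg4 yg2 zg25) (kg xg3 yg6 zg36) (kg xg4 yg2 zg27) (kg xg5 yg3 zg2) (kg xg3 yg6 zg39) (kg xg4 yg2 zg30) (kg xg3 yg12 zg44) (kg xg4 yg2 zg32) (kg xg3 yg6 zg42) (kg xg5 yg3 zg9) (kg xg4 yg2 zg35) (kg xg5 yg3 zg11) (kg xg3 yg12 zg50) (kg xg4 yg2 zg38) (kg xg3 yg6 zg48) (kg xg3 yg6 zg49) (kg xg5 yg3 zg17) (kg xg5 yg3 zg18) (kg xg4 yg2 zg43) (kg xg5 yg3 zg22) (kg xg3 yg7 zg1) (kg xg4 yg2 zg46) (kg xg3 yg13 zg9) (kg xg4 yg2 zg48) (kg xg3 yg7 zg4) (kg xg5 yg3 zg29)) (@D3.rec (fun _ => Pt) (kg xg4 yg3 zg0) (kg xg3 yg7 zg7) (kg xg5 yg3 zg33) (kg xg3 yg13 zg16) (kg xg4 yg3 zg4) (kg xg3 yg7 zg9) (kg xg5 yg3 zg39) (kg xg4 yg3 zg7) (kg xg5 yg3 zg41)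 (kg xg3 yg13 zg22) (kg xg4 yg3 zg10) (kg xg3 yg7 zg15) (kg xg3 yg7 zg16) (kg xg5 yg3 zg47) (kg xg5 yg3 zg48) (kg xg4 yg3 zg15) (kg xg3 yg7 zg19) (kg xg5 yg4 zg1) (kg xg3 yg13 zg31) (kg xg3 yg13 zg32) (kg xg4 yg3 zg20) (kg xg4 yg3 zg21) (kg xg3 yg7 zg24) (kg xg3 yg7 zg25) (kg xg5 yg4 zg9) (kg xg5 yg4 zg10) (kg xg5 yg4 zg11) (kg xg4 yg3 zg27) (kg xg3 yg7 zg39) (kg xg3 yg7 zg40) (kg xg3 yg7 zg41) (kg xg4 yg20 zg17) (kg xg3 yg7 zg43) (kg xg3 yg7 zg44) (kg xg4 yg20 zg33) (kg xg3 yg7 zg33) (kg xg3 yg7 zg47) (kg xg3 yg7 zg48) (kg xg3 yg21 zg41) (kg xg4 yg22 zg19) (kg xg3 yg8 zg0) (kg xg3 yg7 zg37) (kg xg4 yg20 zg14) (kg xg4 yg20 zg18) (kg xg4 yg20 zg27) (kg xg4 yg20 zg32) (kg xg3 yg7 zg42) (kg xg5 yg4 zg15) (kg xg5 yg4 zg27) (kg xg4 yg22 zg18) (kg xg4 yg22 zg0))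 (@D3.rec (fun _ => Pt) (kg xg3 yg7 zg45) (kg xg3 yg8 zg13) (kg xg5 yg4 zg17) (kg xg5 yg4 zg31) (kg xg5 yg4 zg19) (kg xg5 yg4 zg34) (kg xg5 yg4 zg21) (kg xg3 yg7 zg49) (kg xg5 yg4 zg37) (kg xg3 yg7 zg50) (kg xg5 yg4 zg39) (kg xg5 yg4 zg22) (kg xg3 yg8 zg24) (kg xg4 yg4 zg13) (kg xg4 yg20 zg23) (kg xg3 yg8 zg4) (kg xg4 yg20 zg42) (kg xg4 yg4 zg17) (kg xg3 yg8 zg6) (kg xg4 yg20 zg21) (kg xg4 yg4 zg20) (kg xg5 yg4 zg45) (kg xg4 yg4 zg22) (kg xg3 yg8 zg9) (kg xg5 yg4 zg49) (kg xg3 yg8 zg10) (kg xg4 yg22 zg39) (kg xg4 yg4 zg27) (kg xg4 yg20 zg41) (kg xg5 yg5 zg2) (kg xg3 yg8 zg15) (kg xg5 yg5 zg5) (kg xg5 yg5 zg6) (kg xg3 yg8 zg17) (kg xg5 yg5 zg9) (kg xg4 yg4 zg35) (kg xg3 yg21 zg24) (kg xg3 yg8 zg20) (kg xg5 yg5 zg13) (kg xg4 yg22 zg41) (kg xg3 yg8 zg22) (kg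 xg5 yg5 zg17) (kg xg4 yg20 zg49) (kg xg4 yg4 zg43) (kg xg3 yg8 zg26) (kg xg3 yg8 zg48) (kg xg4 yg4 zg46) (kg xg5 yg5 zg23) (kg xg4 yg4 zg48) (kg xg3 yg8 zg29) (kg xg5 yg5 zg27)) (@D3.rec (fun _ => Pt) (kg xg3 yg8 zg30) (kg xg5 yg5 zg30) (kg xg4 yg5 zg2) (kg xg3 yg9 zg6) (kg xg4 yg5 zg4) (kg xg5 yg5 zg36) (kg xg4 yg5 zg6) (kg xg3 yg8 zg35) (kg xg5 yg5 zg41) (kg xg4 yg5 zg9) (kg xg5 yg5 zg45) (kg xg3 yg8 zg37) (kg xg5 yg5 zg48) (kg xg4 yg5 zg13) (kg xg3 yg9 zg17) (kg xg3 yg8 zg40) (kg xg5 yg6 zg1) (kg xg3 yg9 zg20) (kg xg3 yg8 zg42) (kg xg5 yg6 zg5) (kg xg4 yg21 zg16) (kg xg3 yg8 zg45) (kg xg5 yg6 zg7) (kg xg3 yg9 zg26) (kg xg4 yg20 zg39) (kg xg5 yg6 zg10) (kg xg3 yg9 zg29) (kg xg5 yg6 zg13) (kg xg3 yg8 zg50) (kg xg5 yg6 zg16) (kg xg3 yg9 zg33) (kg xg5 yg5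 zg26) (kg xg3 yg9 zg2) (kg xg5 yg6 zg20) (kg xg5 yg5 zg29) (kg xg3 yg9 zg4) (kg xg5 yg6 zg24) (kg xg3 yg9 zg40) (kg xg5 yg6 zg28) (kg xg3 yg9 zg42) (kg xg5 yg6 zg32) (kg xg3 yg9 zg8) (kg xg5 yg6 zg35) (kg xg3 yg9 zg46) (kg xg5 yg5 zg39) (kg xg5 yg6 zg38) (kg xg3 yg9 zg11) (kg xg5 yg6 zg41) (kg xg3 yg10 zg0) (kg xg3 yg10 zg1) (kg xg3 yg9 zg13)) (@D3.rec (fun _ => Pt) (kg xg5 yg6 zg48) (kg xg5 yg5 zg47) (kg xg3 yg9 zg15) (kg xg5 yg7 zg1) (kg xg4 yg23 zg46) (kg xg5 yg6 zg0) (kg xg3 yg9 zg19) (kg xg5 yg7 zg5) (kg xg5 yg7 zg6) (kg xg5 yg6 zg4) (kg xg3 yg9 zg22) (kg xg3 yg9 zg23) (kg xg5 yg7 zg10) (kg xg4 yg6 zg13) (kg xg3 yg9 zg25) (kg xg5 yg7 zg14) (kg xg5 yg7 zg16) (kg xg3 yg9 zg28) (kg xg5 yg7 zg19) (kg xg5 yg6 zg12) (kg xg3 yg9 zg30) (kg xg5 yg7 zg23) (kg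 xg4 yg6 zg22) (kg xg3 yg9 zg32) (kg xg5 yg7 zg27) (kg xg4 yg24 zg12) (kg xg4 yg6 zg26) (kg xg3 yg9 zg36) (kg xg5 yg7 zg31) (kg xg5 yg7 zg32) (kg xg4 yg6 zg30) (kg xg3 yg9 zg39) (kg xg5 yg7 zg37) (kg xg5 yg6 zg26) (kg xg5 yg7 zg41) (kg xg3 yg9 zg41) (kg xg5 yg7 zg44) (kg xg5 yg6 zg30) (kg xg5 yg6 zg31) (kg xg3 yg9 zg43) (kg xg5 yg7 zg50) (kg xg4 yg6 zg41) (kg xg3 yg9 zg45) (kg xg5 yg8 zg3) (kg xg5 yg8 zg4) (kg xg3 yg9 zg48) (kg xg5 yg8 zg8) (kg xg4 yg6 zg47) (kg xg3 yg9 zg50) (kg xg5 yg8 zg12) (kg xg5 yg8 zg13)) (@D3.rec (fun _ => Pt) (kg xg5 yg6 zg44) (kg xg5 yg6 zg45) (kg xg4 yg24 zg40) (kg xg4 yg7 zg3) (kg xg3 yg10 zg3) (kg xg5 yg8 zg21) (kg xg5 yg8 zg22) (kg xg4 yg7 zg7) (kg xg3 yg10 zg6) (kg xg5 yg8 zg26) (kg xg4 yg24 zg48) (kg xg4 yg7 zg11) (kg xg3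 yg10 zg10) (kg xg3 yg10 zg11) (kg xg5 yg8 zg32) (kg xg5 yg8 zg33) (kg xg4 yg7 zg16) (kg xg4 yg7 zg17) (kg xg5 yg8 zg41) (kg xg4 yg7 zg19) (kg xg3 yg10 zg15) (kg xg5 yg8 zg46) (kg xg4 yg7 zg22) (kg xg5 yg8 zg50) (kg xg3 yg10 zg17) (kg xg5 yg9 zg2) (kg xg4 yg7 zg26) (kg xg3 yg11 zg0) (kg xg3 yg10 zg20) (kg xg5 yg9 zg6) (kg xg3 yg11 zg3) (kg xg3 yg10 zg22) (kg xg5 yg9 zg10) (kg xg4 yg7 zg33) (kg xg5 yg9 zg13) (kg xg4 yg7 zg35) (kg xg5 yg9 zg16) (kg xg3 yg10 zg26) (kg xg5 yg9 zg19) (kg xg4 yg7 zg39) (kg xg3 yg11 zg13) (kg xg5 yg9 zg22) (kg xg3 yg10 zg29) (kg xg5 yg9 zg25) (kg xg4 yg7 zg44) (kg xg4 yg7 zg45) (kg xg3 yg10 zg31) (kg xg5 yg9 zg32) (kg xg3 yg11 zg21) (kg xg3 yg10 zg33) (kg xg5 yg9 zg36)) (@D3.rec (fun _ => Pt) (kg xg4 yg25 zg49) (kg xg3 yg11 zg25)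 (kg xg3 yg10 zg37) (kg xg5 yg9 zg40) (kg xg5 yg9 zg41) (kg xg3 yg11 zg29) (kg xg3 yg10 zg40) (kg xg3 yg11 zg31) (kg xg5 yg9 zg47) (kg xg3 yg11 zg33) (kg xg5 yg9 zg50) (kg xg3 yg10 zg42) (kg xg5 yg10 zg2) (kg xg3 yg11 zg37) (kg xg5 yg8 zg44) (kg xg5 yg10 zg5) (kg xg3 yg10 zg45) (kg xg5 yg10 zg8) (kg xg3 yg11 zg42) (kg xg3 yg11 zg43) (kg xg3 yg10 zg47) (kg xg5 yg10 zg14) (kg xg5 yg9 zg1) (kg xg3 yg10 zg49) (kg xg5 yg10 zg18) (kg xg4 yg26 zg39) (kg xg5 yg9 zg5) (kg xg3 yg11 zg2) (kg xg5 yg10 zg22) (kg xg5 yg10 zg23) (kg xg5 yg9 zg9) (kg xg3 yg11 zg5) (kg xg5 yg10 zg28) (kg xg5 yg10 zg30) (kg xg3 yg11 zg7) (kg xg5 yg10 zg33) (kg xg3 yg12 zg9) (kg xg3 yg11 zg9) (kg xg5 yg10 zg37) (kg xg5 yg9 zg18) (kg xg3 yg11 zg11) (kg xg5 yg10 zg41) (kg xg5 yg10 zg42) (kg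 xg3 yg11 zg14) (kg xg5 yg10 zg46) (kg xg5 yg9 zg24) (kg xg3 yg11 zg16) (kg xg5 yg10 zg50) (kg xg5 yg11 zg0) (kg xg3 yg12 zg22) (kg xg3 yg12 zg23)) (@D3.rec (fun _ => Pt) (kg xg5 yg0 zg16) (kg xg5 yg9 zg31) (kg xg3 yg11 zg20) (kg xg5 yg11 zg8) (kg xg5 yg11 zg9) (kg xg5 yg9 zg35) (kg xg3 yg11 zg23) (kg xg5 yg11 zg13) (kg xg5 yg0 zg24) (kg xg5 yg9 zg39) (kg xg3 yg11 zg27) (kg xg3 yg11 zg28) (kg xg5 yg11 zg19) (kg xg5 yg11 zg20) (kg xg5 yg9 zg44) (kg xg5 yg11 zg25) (kg xg5 yg11 zg26) (kg xg3 yg11 zg32) (kg xg5 yg11 zg29) (kg xg5 yg9 zg49) (kg xg3 yg11 zg34) (kg xg5 yg11 zg33) (kg xg4 yg9 zg22) (kg xg3 yg11 zg36) (kg xg5 yg11 zg36) (kg xg5 yg11 zg37) (kg xg3 yg11 zg39) (kg xg5 yg11 zg41) (kg xg4 yg9 zg28) (kg xg3 yg11 zg41) (kg xg5 yg11 zg45) (kg xg5 yg11 zg46)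 (kg xg5 yg10 zg11) (kg xg5 yg1 zg25) (kg xg4 yg9 zg34) (kg xg3 yg11 zg45) (kg xg5 yg12 zg1) (kg xg5 yg12 zg2) (kg xg4 yg9 zg38) (kg xg3 yg11 zg48) (kg xg5 yg12 zg6) (kg xg5 yg1 zg33) (kg xg4 yg9 zg42) (kg xg3 yg12 zg1) (kg xg3 yg12 zg2) (kg xg5 yg12 zg12) (kg xg5 yg12 zg13) (kg xg4 yg9 zg47) (kg xg5 yg12 zg18) (kg xg3 yg12 zg5) (kg xg5 yg12 zg20)) (@D3.rec (fun _ => Pt) (kg xg3 yg12 zg6) (kg xg5 yg12 zg24) (kg xg4 yg10 zg2) (kg xg3 yg12 zg8) (kg xg5 yg12 zg28) (kg xg5 yg2 zg1) (kg xg4 yg10 zg6) (kg xg3 yg12 zg11) (kg xg5 yg12 zg32) (kg xg5 yg12 zg33) (kg xg4 yg10 zg10) (kg xg3 yg12 zg14) (kg xg3 yg12 zg15) (kg xg5 yg12 zg39) (kg xg5 yg2 zg10) (kg xg4 yg10 zg15) (kg xg3 yg12 zg17) (kg xg5 yg12 zg45) (kg xg5 yg12 zg46) (kg xg4 yg10 zg19) (kg xg3 yg12 zg20)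 (kg xg3 yg12 zg21) (kg xg5 yg13 zg1) (kg xg5 yg13 zg2) (kg xg5 yg13 zg5) (kg xg5 yg11 zg4) (kg xg5 yg13 zg7) (kg xg5 yg2 zg24) (kg xg4 yg10 zg28) (kg xg3 yg12 zg27) (kg xg3 yg12 zg28) (kg xg5 yg13 zg13) (kg xg5 yg13 zg14) (kg xg4 yg10 zg33) (kg xg3 yg12 zg31) (kg xg5 yg13 zg18) (kg xg5 yg2 zg33) (kg xg5 yg2 zg34) (kg xg4 yg10 zg38) (kg xg4 yg10 zg39) (kg xg3 yg12 zg36) (kg xg3 yg12 zg37) (kg xg5 yg13 zg26) (kg xg5 yg13 zg27) (kg xg5 yg13 zg28) (kg xg5 yg3 zg0) (kg xg4 yg10 zg46) (kg xg3 yg12 zg41) (kg xg5 yg13 zg35) (kg xg5 yg3 zg4) (kg xg4 yg10 zg50)) (@D3.rec (fun _ => Pt) (kg xg5 yg13 zg38) (kg xg5 yg3 zg7) (kg xg4 yg11 zg2) (kg xg3 yg12 zg47) (kg xg5 yg13 zg42) (kg xg3 yg12 zg49) (kg xg5 yg13 zg44) (kg xg5 yg3 zg13) (kg xg5 yg3 zg14) (kg xg4 yg11 zg9)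 (kg xg4 yg11 zg10) (kg xg3 yg13 zg3) (kg xg3 yg13 zg4) (kg xg5 yg14 zg1) (kg xg5 yg14 zg2) (kg xg5 yg14 zg3) (kg xg3 yg13 zg6) (kg xg5 yg14 zg9) (kg xg5 yg3 zg24) (kg xg4 yg11 zg19) (kg xg5 yg14 zg12) (kg xg5 yg3 zg27) (kg xg4 yg11 zg22) (kg xg3 yg13 zg12) (kg xg5 yg14 zg16) (kg xg5 yg3 zg31) (kg xg4 yg11 zg26) (kg xg3 yg13 zg15) (kg xg5 yg14 zg22) (kg xg5 yg14 zg23) (kg xg5 yg14 zg26) (kg xg5 yg3 zg37) (kg xg4 yg11 zg32) (kg xg3 yg13 zg19) (kg xg5 yg14 zg30) (kg xg3 yg13 zg21) (kg xg5 yg14 zg32) (kg xg5 yg3 zg43) (kg xg5 yg3 zg44) (kg xg4 yg11 zg39) (kg xg4 yg11 zg40) (kg xg3 yg13 zg26) (kg xg3 yg13 zg27) (kg xg5 yg14 zg40) (kg xg5 yg14 zg41) (kg xg5 yg14 zg42) (kg xg3 yg13 zg30) (kg xg5 yg14 zg46) (kg xg5 yg14 zg47) (kg xg5 yg4 zg4) (kg xg5 yg4 zg5))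 (@D3.rec (fun _ => Pt) (kg xg5 yg4 zg6) (kg xg4 yg12 zg1) (kg xg4 yg12 zg2) (kg xg3 yg13 zg37) (kg xg3 yg13 zg38) (kg xg3 yg13 zg39) (kg xg5 yg15 zg4) (kg xg5 yg15 zg5) (kg xg5 yg15 zg6) (kg xg4 yg20 zg46) (kg xg3 yg13 zg40) (kg xg5 yg15 zg11) (kg xg4 yg12 zg12) (kg xg3 yg13 zg42) (kg xg5 yg15 zg13) (kg xg3 yg14 zg19) (kg xg3 yg13 zg44) (kg xg5 yg15 zg17) (kg xg4 yg20 zg44) (kg xg3 yg13 zg47) (kg xg5 yg15 zg18) (kg xg3 yg14 zg25) (kg xg3 yg13 zg49) (kg xg5 yg15 zg22) (kg xg5 yg15 zg23) (kg xg4 yg12 zg25) (kg xg4 yg12 zg26) (kg xg4 yg12 zg27) (kg xg3 yg14 zg32) (kg xg3 yg14 zg2) (kg xg5 yg15 zg30) (kg xg5 yg15 zg31) (kg xg3 yg14 zg36) (kg xg3 yg14 zg5) (kg xg4 yg21 zg19) (kg xg4 yg12 zg35) (kg xg3 yg14 zg40) (kg xg3 yg14 zg9) (kg xg3 yg14 zg10) (kg xg5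 yg15 zg40) (kg xg5 yg15 zg41) (kg xg3 yg14 zg45) (kg xg4 yg21 zg13) (kg xg3 yg14 zg13) (kg xg5 yg15 zg45) (kg xg4 yg21 zg9) (kg xg3 yg14 zg15) (kg xg5 yg15 zg49) (kg xg4 yg12 zg48) (kg xg4 yg21 zg7) (kg xg3 yg14 zg18)) (@D3.rec (fun _ => Pt) (kg xg5 yg16 zg1) (kg xg5 yg16 zg2) (kg xg5 yg15 zg16) (kg xg3 yg14 zg21) (kg xg3 yg14 zg22) (kg xg4 yg23 zg35) (kg xg4 yg13 zg6) (kg xg4 yg21 zg4) (kg xg3 yg14 zg24) (kg xg5 yg16 zg10) (kg xg5 yg16 zg11) (kg xg5 yg15 zg21) (kg xg3 yg14 zg27) (kg xg3 yg14 zg28) (kg xg5 yg16 zg17) (kg xg5 yg16 zg18) (kg xg5 yg16 zg21) (kg xg3 yg15 zg18) (kg xg4 yg21 zg20) (kg xg4 yg13 zg19) (kg xg5 yg15 zg29) (kg xg3 yg14 zg34) (kg xg3 yg14 zg35) (kg xg5 yg16 zg28) (kg xg5 yg16 zg29) (kg xg5 yg15 zg34) (kg xg3 yg14 zg38) (kg xg5 yg16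 zg33) (kg xg4 yg13 zg28) (kg xg4 yg13 zg29) (kg xg5 yg15 zg38) (kg xg5 yg15 zg39) (kg xg3 yg14 zg43) (kg xg3 yg14 zg44) (kg xg5 yg16 zg41) (kg xg5 yg16 zg42) (kg xg5 yg16 zg43) (kg xg4 yg13 zg37) (kg xg4 yg13 zg38) (kg xg3 yg14 zg47) (kg xg5 yg16 zg49) (kg xg5 yg16 zg50) (kg xg4 yg13 zg42) (kg xg3 yg14 zg50) (kg xg4 yg21 zg27) (kg xg4 yg13 zg45) (kg xg4 yg13 zg46) (kg xg3 yg15 zg3) (kg xg3 yg15 zg4) (kg xg5 yg17 zg8) (kg xg5 yg17 zg9)) (@D3.rec (fun _ => Pt) (kg xg4 yg14 zg0) (kg xg4 yg21 zg22) (kg xg4 yg14 zg2) (kg xg4 yg14 zg3) (kg xg3 yg15 zg10) (kg xg3 yg15 zg11) (kg xg5 yg17 zg18) (kg xg5 yg17 zg19) (kg xg5 yg17 zg20) (kg xg4 yg14 zg9) (kg xg4 yg14 zg10) (kg xg3 yg15 zg15) (kg xg3 yg15 zg16) (kg xg5 yg17 zg31) (kg xg5 yg17 zg30) (kg xg3 yg15 zg17)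 (kg xg5 yg17 zg34) (kg xg3 yg15 zg19) (kg xg5 yg17 zg35) (kg xg4 yg14 zg19) (kg xg4 yg14 zg20) (kg xg4 yg14 zg21) (kg xg4 yg14 zg22) (kg xg3 yg15 zg24) (kg xg3 yg15 zg25) (kg xg5 yg17 zg43) (kg xg5 yg17 zg44) (kg xg5 yg17 zg45) (kg xg3 yg15 zg28) (kg xg3 yg16 zg14) (kg xg5 yg17 zg49) (kg xg4 yg14 zg31) (kg xg4 yg14 zg32) (kg xg4 yg14 zg33) (kg xg4 yg14 zg34) (kg xg4 yg14 zg35) (kg xg3 yg15 zg35) (kg xg3 yg15 zg36) (kg xg3 yg15 zg37) (kg xg5 yg18 zg5) (kg xg5 yg18 zg6) (kg xg5 yg17 zg50) (kg xg3 yg15 zg38) (kg xg3 yg16 zg16) (kg xg4 yg14 zg44) (kg xg4 yg14 zg45) (kg xg4 yg14 zg46) (kg xg4 yg14 zg47) (kg xg3 yg15 zg43) (kg xg3 yg15 zg44) (kg xg5 yg18 zg15)) (@D3.rec (fun _ => Pt) (kg xg5 yg18 zg16) (kg xg5 yg18 zg17) (kg xg3 yg16 zg13) (kg xg4 yg15 zg3)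 (kg xg4 yg15 zg4) (kg xg4 yg15 zg5) (kg xg4 yg15 zg6) (kg xg4 yg15 zg7) (kg xg3 yg16 zg3) (kg xg3 yg16 zg4) (kg xg3 yg16 zg5) (kg xg5 yg18 zg25) (kg xg5 yg18 zg21) (kg xg5 yg18 zg26) (kg xg3 yg16 zg12) (kg xg5 yg18 zg9) (kg xg5 yg17 zg36) (kg xg4 yg15 zg17) (kg xg4 yg15 zg18) (kg xg4 yg15 zg19) (kg xg4 yg20 zg16) (kg xg3 yg16 zg22) (kg xg3 yg16 zg32) (kg xg3 yg16 zg37) (kg xg3 yg16 zg39) (kg xg3 yg16 zg30) (kg xg3 yg16 zg44) (kg xg5 yg4 zg18) (kg xg3 yg16 zg38) (kg xg3 yg16 zg33) (kg xg5 yg4 zg16) (kg xg3 yg21 zg32) (kg xg3 yg21 zg6) (kg xg3 yg21 zg35) (kg xg4 yg20 zg20) (kg xg5 yg5 zg3) (kg xg3 yg17 zg41) (kg xg3 yg16 zg46) (kg xg3 yg17 zg1) (kg xg5 yg4 zg48) (kg xg3 yg17 zg32) (kg xg3 yg21 zg14) (kg xg3 yg21 zg20) (kg xg3 yg17 zg4) (kg xg3 yg21 zg17)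 (kg xg5 yg18 zg34) (kg xg3 yg17 zg18) (kg xg3 yg17 zg12) (kg xg4 yg15 zg48) (kg xg5 yg18 zg33) (kg xg4 yg15 zg50)) (@D3.rec (fun _ => Pt) (kg xg3 yg18 zg46) (kg xg3 yg19 zg0) (kg xg3 yg17 zg21) (kg xg3 yg18 zg49) (kg xg4 yg16 zg4) (kg xg3 yg18 zg38) (kg xg5 yg18 zg41) (kg xg3 yg17 zg29) (kg xg3 yg17 zg30) (kg xg3 yg17 zg38) (kg xg5 yg18 zg44) (kg xg5 yg18 zg42) (kg xg3 yg17 zg36) (kg xg5 yg18 zg47) (kg xg3 yg19 zg21) (kg xg3 yg17 zg40) (kg xg5 yg18 zg48) (kg xg3 yg17 zg42) (kg xg3 yg19 zg25) (kg xg3 yg19 zg24) (kg xg3 yg17 zg44) (kg xg5 yg18 zg50) (kg xg3 yg18 zg22) (kg xg3 yg19 zg11) (kg xg3 yg17 zg50) (kg xg5 yg19 zg2) (kg xg3 yg18 zg2) (kg xg4 yg16 zg27) (kg xg4 yg16 zg28) (kg xg4 yg16 zg29) (kg xg5 yg19 zg7) (kg xg3 yg18 zg8) (kg xg5 yg19 zg9) (kg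 xg3 yg18 zg9) (kg xg5 yg19 zg11) (kg xg4 yg16 zg35) (kg xg3 yg18 zg11) (kg xg3 yg18 zg13) (kg xg3 yg20 zg45) (kg xg4 yg16 zg39) (kg xg3 yg18 zg16) (kg xg5 yg19 zg17) (kg xg4 yg16 zg42) (kg xg4 yg16 zg43) (kg xg3 yg18 zg18) (kg xg5 yg19 zg20) (kg xg4 yg16 zg46) (kg xg3 yg18 zg21) (kg xg5 yg19 zg24) (kg xg5 yg19 zg26) (kg xg3 yg18 zg27)) (@D3.rec (fun _ => Pt) (kg xg3 yg20 zg50) (kg xg3 yg20 zg28) (kg xg4 yg17 zg2) (kg xg5 yg19 zg29) (kg xg3 yg18 zg40) (kg xg3 yg18 zg34) (kg xg3 yg19 zg5) (kg xg5 yg18 zg35) (kg xg3 yg18 zg36) (kg xg5 yg19 zg28) (kg xg5 yg18 zg36) (kg xg3 yg18 zg45) (kg xg5 yg18 zg38) (kg xg5 yg18 zg37) (kg xg4 yg17 zg14) (kg xg5 yg19 zg36) (kg xg3 yg19 zg2) (kg xg3 yg19 zg3) (kg xg3 yg19 zg10) (kg xg5 yg19 zg38) (kg xg3 yg19 zg6) (kg xg5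 yg19 zg37) (kg xg5 yg18 zg43) (kg xg3 yg19 zg8) (kg xg5 yg19 zg41) (kg xg3 yg19 zg18) (kg xg5 yg18 zg46) (kg xg3 yg19 zg22) (kg xg5 yg19 zg43) (kg xg5 yg6 zg40) (kg xg3 yg19 zg27) (kg xg5 yg19 zg47) (kg xg5 yg19 zg49) (kg xg5 yg19 zg50) (kg xg3 yg19 zg29) (kg xg4 yg17 zg35) (kg xg4 yg17 zg36) (kg xg4 yg17 zg37) (kg xg3 yg19 zg33) (kg xg5 yg20 zg5) (kg xg4 yg17 zg40) (kg xg4 yg17 zg41) (kg xg3 yg19 zg35) (kg xg5 yg20 zg8) (kg xg4 yg17 zg44) (kg xg3 yg19 zg41) (kg xg5 yg20 zg10) (kg xg3 yg19 zg49) (kg xg5 yg20 zg13) (kg xg4 yg17 zg49) (kg xg4 yg17 zg50)) (@D3.rec (fun _ => Pt) (kg xg4 yg18 zg0) (kg xg4 yg18 zg1) (kg xg3 yg20 zg4) (kg xg5 yg20 zg18) (kg xg5 yg20 zg19) (kg xg3 yg20 zg8) (kg xg5 yg20 zg22) (kg xg4 yg18 zg7) (kg xg3 yg20 zg11) (kg xg5 yg20 zg26)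 (kg xg3 yg20 zg12) (kg xg3 yg20 zg13) (kg xg5 yg20 zg30) (kg xg4 yg18 zg13) (kg xg4 yg18 zg14) (kg xg4 yg18 zg15) (kg xg4 yg18 zg16) (kg xg3 yg20 zg19) (kg xg5 yg20 zg32) (kg xg4 yg18 zg19) (kg xg4 yg18 zg20) (kg xg3 yg20 zg22) (kg xg5 yg20 zg37) (kg xg5 yg20 zg38) (kg xg5 yg19 zg27) (kg xg4 yg18 zg25) (kg xg4 yg18 zg26) (kg xg3 yg20 zg26) (kg xg5 yg20 zg43) (kg xg3 yg20 zg32) (kg xg5 yg2 zg46) (kg xg4 yg18 zg31) (kg xg4 yg18 zg32) (kg xg3 yg20 zg37) (kg xg5 yg20 zg45) (kg xg3 yg20 zg38) (kg xg5 yg20 zg49) (kg xg4 yg18 zg37) (kg xg4 yg18 zg38) (kg xg4 yg18 zg39) (kg xg4 yg18 zg40) (kg xg3 yg20 zg42) (kg xg5 yg21 zg5) (kg xg5 yg19 zg14) (kg xg4 yg18 zg44) (kg xg5 yg19 zg21) (kg xg4 yg18 zg46) (kg xg4 yg18 zg47) (kg xg3 yg20 zg49) (kg xg4 yg20 zg31) (kg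 xg3 yg21 zg0)) (@D3.rec (fun _ => Pt) (kg xg3 yg21 zg13) (kg xg3 yg21 zg4) (kg xg4 yg22 zg11) (kg xg5 yg4 zg32) (kg xg3 yg21 zg9) (kg xg5 yg21 zg14) (kg xg5 yg21 zg16) (kg xg3 yg21 zg11) (kg xg4 yg22 zg36) (kg xg4 yg20 zg37) (kg xg4 yg20 zg36) (kg xg3 yg21 zg16) (kg xg5 yg21 zg18) (kg xg5 yg21 zg19) (kg xg3 yg21 zg19) (kg xg5 yg5 zg8) (kg xg5 yg21 zg23) (kg xg5 yg18 zg32) (kg xg3 yg21 zg22) (kg xg5 yg21 zg28) (kg xg3 yg21 zg23) (kg xg4 yg19 zg21) (kg xg5 yg21 zg31) (kg xg3 yg21 zg28) (kg xg4 yg19 zg24) (kg xg3 yg21 zg30) (kg xg4 yg21 zg50) (kg xg4 yg20 zg30) (kg xg4 yg20 zg29) (kg xg3 yg21 zg34) (kg xg5 yg21 zg34) (kg xg5 yg21 zg35) (kg xg3 yg21 zg37) (kg xg5 yg4 zg20) (kg xg5 yg21 zg39) (kg xg3 yg21 zg39) (kg xg5 yg21 zg12) (kg xg3 yg21 zg40) (kg xg4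 yg19 zg38) (kg xg4 yg19 zg39) (kg xg4 yg19 zg40) (kg xg4 yg19 zg41) (kg xg5 yg21 zg42) (kg xg3 yg21 zg48) (kg xg5 yg16 zg7) (kg xg4 yg19 zg45) (kg xg4 yg19 zg46) (kg xg3 yg22 zg12) (kg xg4 yg19 zg48) (kg xg4 yg19 zg49) (kg xg4 yg20 zg15)) (@D3.rec (fun _ => Pt) (kg xg3 yg22 zg10) (kg xg5 yg21 zg46) (kg xg3 yg22 zg16) (kg xg5 yg21 zg50) (kg xg5 yg21 zg0) (kg xg3 yg22 zg18) (kg xg4 yg20 zg6) (kg xg4 yg20 zg7) (kg xg3 yg22 zg29) (kg xg4 yg20 zg9) (kg xg4 yg20 zg10) (kg xg4 yg20 zg11) (kg xg3 yg22 zg37) (kg xg3 yg22 zg38) (kg xg4 yg3 zg42) (kg xg4 yg19 zg50) (kg xg4 yg15 zg20) (kg xg4 yg3 zg31) (kg xg4 yg3 zg43) (kg xg3 yg22 zg39) (kg xg4 yg15 zg34) (kg xg4 yg4 zg19) (kg xg3 yg22 zg43) (kg xg4 yg4 zg14) (kg xg3 yg22 zg48) (kg xg3 yg22 zg49) (kg xg3 yg22 zg50)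 (kg xg4 yg3 zg44) (kg xg3 yg22 zg47) (kg xg4 yg19 zg28) (kg xg4 yg19 zg27) (kg xg4 yg18 zg49) (kg xg4 yg3 zg45) (kg xg4 yg3 zg34) (kg xg3 yg23 zg0) (kg xg3 yg23 zg8) (kg xg4 yg19 zg10) (kg xg4 yg19 zg9) (kg xg3 yg23 zg4) (kg xg4 yg5 zg24) (kg xg3 yg23 zg5) (kg xg4 yg4 zg28) (kg xg4 yg4 zg16) (kg xg4 yg20 zg43) (kg xg4 yg12 zg18) (kg xg4 yg20 zg45) (kg xg4 yg12 zg9) (kg xg4 yg20 zg47) (kg xg3 yg23 zg11) (kg xg4 yg4 zg42) (kg xg3 yg23 zg12)) (@D3.rec (fun _ => Pt) (kg xg5 yg22 zg6) (kg xg4 yg21 zg1) (kg xg3 yg23 zg26) (kg xg3 yg23 zg27) (kg xg4 yg13 zg7) (kg xg3 yg23 zg29) (kg xg3 yg23 zg17) (kg xg4 yg12 zg49) (kg xg3 yg23 zg32) (kg xg4 yg12 zg45) (kg xg3 yg23 zg19) (kg xg5 yg22 zg15) (kg xg3 yg23 zg36) (kg xg4 yg12 zg42) (kg xg3 yg23 zg22) (kg xg5 yg22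 zg17) (kg xg4 yg5 zg20) (kg xg3 yg23 zg24) (kg xg5 yg22 zg21) (kg xg4 yg12 zg34) (kg xg4 yg13 zg18) (kg xg5 yg22 zg8) (kg xg4 yg14 zg1) (kg xg3 yg23 zg28) (kg xg5 yg22 zg27) (kg xg5 yg22 zg10) (kg xg4 yg21 zg26) (kg xg4 yg13 zg44) (kg xg3 yg23 zg31) (kg xg5 yg22 zg30) (kg xg5 yg22 zg12) (kg xg5 yg22 zg13) (kg xg3 yg23 zg33) (kg xg5 yg22 zg35) (kg xg4 yg21 zg34) (kg xg3 yg23 zg35) (kg xg5 yg22 zg39) (kg xg4 yg21 zg37) (kg xg4 yg21 zg38) (kg xg3 yg23 zg39) (kg xg5 yg22 zg42) (kg xg5 yg22 zg43) (kg xg4 yg21 zg42) (kg xg3 yg23 zg42) (kg xg3 yg24 zg0) (kg xg3 yg24 zg1) (kg xg5 yg23 zg0) (kg xg3 yg23 zg45) (kg xg3 yg24 zg4) (kg xg3 yg24 zg5) (kg xg4 yg19 zg26)) (@D3.rec (fun _ => Pt) (kg xg4 yg3 zg50) (kg xg3 yg24 zg8) (kg xg3 yg23 zg49) (kg xg4 yg22 zg3) (kg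 xg5 yg22 zg47) (kg xg5 yg23 zg9) (kg xg5 yg23 zg11) (kg xg5 yg22 zg50) (kg xg3 yg24 zg2) (kg xg3 yg24 zg16) (kg xg5 yg23 zg2) (kg xg4 yg19 zg2) (kg xg5 yg23 zg3) (kg xg5 yg23 zg18) (kg xg5 yg23 zg5) (kg xg3 yg24 zg6) (kg xg5 yg23 zg20) (kg xg3 yg24 zg7) (kg xg4 yg3 zg49) (kg xg4 yg3 zg39) (kg xg3 yg24 zg27) (kg xg4 yg22 zg21) (kg xg5 yg23 zg24) (kg xg4 yg22 zg23) (kg xg3 yg24 zg12) (kg xg5 yg23 zg27) (kg xg3 yg24 zg13) (kg xg5 yg23 zg30) (kg xg4 yg22 zg28) (kg xg5 yg23 zg14) (kg xg5 yg23 zg33) (kg xg3 yg24 zg18) (kg xg5 yg23 zg35) (kg xg5 yg23 zg36) (kg xg3 yg24 zg20) (kg xg5 yg23 zg39) (kg xg4 yg19 zg8) (kg xg3 yg24 zg23) (kg xg5 yg23 zg42) (kg xg4 yg4 zg26) (kg xg3 yg24 zg25) (kg xg4 yg4 zg39) (kg xg4 yg22 zg42) (kg xg5 yg23 zg48) (kg xg4 yg22 zg44)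 (kg xg3 yg24 zg29) (kg xg5 yg24 zg1) (kg xg3 yg24 zg30) (kg xg5 yg24 zg4) (kg xg4 yg22 zg49) (kg xg3 yg25 zg2)) (@D3.rec (fun _ => Pt) (kg xg4 yg23 zg0) (kg xg5 yg24 zg10) (kg xg4 yg23 zg2) (kg xg3 yg24 zg35) (kg xg5 yg24 zg14) (kg xg4 yg23 zg5) (kg xg5 yg24 zg18) (kg xg3 yg24 zg37) (kg xg5 yg24 zg21) (kg xg4 yg23 zg9) (kg xg3 yg25 zg13) (kg xg3 yg24 zg40) (kg xg5 yg24 zg25) (kg xg3 yg25 zg16) (kg xg3 yg24 zg42) (kg xg5 yg24 zg29) (kg xg5 yg24 zg31) (kg xg3 yg25 zg20) (kg xg5 yg24 zg35) (kg xg3 yg24 zg46) (kg xg5 yg24 zg38) (kg xg3 yg25 zg24) (kg xg5 yg24 zg0) (kg xg3 yg24 zg49) (kg xg5 yg24 zg42) (kg xg5 yg24 zg3) (kg xg3 yg25 zg0) (kg xg5 yg24 zg46) (kg xg3 yg25 zg31) (kg xg5 yg24 zg50) (kg xg3 yg25 zg33) (kg xg5 yg25 zg3) (kg xg3 yg25 zg4) (kg xg5 yg25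 zg6) (kg xg3 yg25 zg37) (kg xg4 yg13 zg5) (kg xg5 yg25 zg9) (kg xg3 yg25 zg7) (kg xg5 yg25 zg12) (kg xg3 yg25 zg42) (kg xg3 yg25 zg43) (kg xg3 yg25 zg9) (kg xg5 yg25 zg19) (kg xg5 yg24 zg20) (kg xg3 yg25 zg11) (kg xg5 yg25 zg23) (kg xg4 yg6 zg4) (kg xg5 yg24 zg24) (kg xg3 yg25 zg15) (kg xg5 yg25 zg27) (kg xg5 yg25 zg28)) (@D3.rec (fun _ => Pt) (kg xg5 yg24 zg28) (kg xg3 yg25 zg18) (kg xg5 yg25 zg33) (kg xg3 yg25 zg19) (kg xg5 yg25 zg36) (kg xg5 yg24 zg33) (kg xg5 yg24 zg34) (kg xg3 yg25 zg21) (kg xg5 yg25 zg42) (kg xg4 yg24 zg9) (kg xg3 yg25 zg23) (kg xg5 yg25 zg46) (kg xg4 yg6 zg25) (kg xg4 yg24 zg13) (kg xg3 yg25 zg27) (kg xg5 yg25 zg50) (kg xg5 yg26 zg0) (kg xg4 yg24 zg17) (kg xg3 yg25 zg30) (kg xg5 yg26 zg5) (kg xg5 yg24 zg48) (kg xg5 yg26 zg10) (kg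 xg3 yg25 zg32) (kg xg5 yg26 zg13) (kg xg5 yg25 zg1) (kg xg5 yg25 zg2) (kg xg3 yg25 zg34) (kg xg5 yg26 zg20) (kg xg4 yg24 zg28) (kg xg3 yg25 zg36) (kg xg5 yg26 zg24) (kg xg5 yg26 zg25) (kg xg3 yg25 zg39) (kg xg5 yg26 zg29) (kg xg4 yg24 zg34) (kg xg3 yg25 zg41) (kg xg5 yg26 zg33) (kg xg5 yg26 zg34) (kg xg5 yg25 zg15) (kg xg5 yg25 zg16) (kg xg4 yg7 zg2) (kg xg4 yg24 zg41) (kg xg3 yg25 zg45) (kg xg5 yg26 zg43) (kg xg5 yg26 zg44) (kg xg4 yg24 zg45) (kg xg3 yg25 zg48) (kg xg5 yg26 zg48) (kg xg4 yg7 zg10) (kg xg4 yg24 zg49) (kg xg3 yg26 zg1)) (@D3.rec (fun _ => Pt) (kg xg3 yg26 zg2) (kg xg6 yg0 zg3) (kg xg6 yg0 zg4) (kg xg4 yg25 zg3) (kg xg4 yg25 zg4) (kg xg6 yg0 zg11) (kg xg4 yg25 zg6) (kg xg6 yg0 zg15) (kg xg4 yg25 zg8) (kg xg3 yg26 zg7) (kg xg6 yg0 zg19) (kg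 xg3 yg26 zg8) (kg xg6 yg0 zg22) (kg xg4 yg25 zg13) (kg xg3 yg26 zg49) (kg xg4 yg25 zg15) (kg xg6 yg0 zg28) (kg xg4 yg25 zg17) (kg xg3 yg26 zg13) (kg xg6 yg0 zg33) (kg xg4 yg25 zg20) (kg xg6 yg0 zg37) (kg xg3 yg26 zg15) (kg xg6 yg0 zg40) (kg xg4 yg25 zg24) (kg xg4 yg0 zg9) (kg xg3 yg26 zg18) (kg xg6 yg0 zg44) (kg xg4 yg0 zg12) (kg xg3 yg26 zg20) (kg xg6 yg0 zg48) (kg xg4 yg25 zg31) (kg xg6 yg1 zg1) (kg xg4 yg25 zg33) (kg xg6 yg1 zg5) (kg xg3 yg26 zg24) (kg xg6 yg1 zg8) (kg xg4 yg25 zg37) (kg xg4 yg0 zg22) (kg xg6 yg1 zg11) (kg xg3 yg26 zg27) (kg xg6 yg1 zg14) (kg xg4 yg25 zg42) (kg xg4 yg25 zg43) (kg xg3 yg26 zg29) (kg xg6 yg1 zg21) (kg xg4 yg0 zg30) (kg xg3 yg26 zg31) (kg xg6 yg1 zg25) (kg xg4 yg8 zg0) (kg xg4 yg0 zg34)) (@D3.rec (fun _ => Pt) (kg xg3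 yg26 zg35) (kg xg6 yg1 zg29) (kg xg6 yg1 zg30) (kg xg4 yg0 zg38) (kg xg3 yg26 zg38) (kg xg4 yg0 zg40) (kg xg6 yg1 zg38) (kg xg4 yg0 zg42) (kg xg3 yg26 zg40) (kg xg6 yg1 zg43) (kg xg4 yg0 zg45) (kg xg6 yg1 zg47) (kg xg3 yg26 zg42) (kg xg6 yg1 zg50) (kg xg4 yg0 zg49) (kg xg6 yg0 zg18) (kg xg3 yg26 zg45) (kg xg6 yg2 zg3) (kg xg6 yg0 zg21) (kg xg3 yg26 zg47) (kg xg6 yg2 zg7) (kg xg4 yg1 zg5) (kg xg6 yg2 zg11) (kg xg4 yg1 zg7) (kg xg6 yg2 zg15) (kg xg4 yg0 zg0) (kg xg6 yg2 zg18) (kg xg4 yg1 zg11) (kg xg6 yg0 zg31) (kg xg6 yg2 zg21) (kg xg4 yg0 zg3) (kg xg6 yg2 zg24) (kg xg4 yg1 zg16) (kg xg4 yg1 zg17) (kg xg4 yg0 zg5) (kg xg6 yg2 zg31) (kg xg6 yg0 zg39) (kg xg4 yg0 zg7) (kg xg6 yg2 zg35) (kg xg4 yg8 zg25) (kg xg6 yg0 zg43) (kg xg4 yg0 zg11) (kg xg6 yg2 zg39)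 (kg xg6 yg2 zg40) (kg xg6 yg0 zg47) (kg xg4 yg0 zg14) (kg xg6 yg2 zg45) (kg xg4 yg1 zg31) (kg xg6 yg2 zg49) (kg xg4 yg0 zg16) (kg xg6 yg3 zg1))
def f_g_5 : D2 → D3 → Pt := @D2.rec (fun _ => D3 → Pt) (@D3.rec (fun _ => Pt) (kg xg4 yg1 zg35) (kg xg4 yg1 zg36) (kg xg4 yg0 zg18) (kg xg6 yg3 zg7) (kg xg6 yg1 zg7) (kg xg4 yg0 zg20) (kg xg6 yg3 zg11) (kg xg6 yg3 zg12) (kg xg4 yg0 zg23) (kg xg6 yg3 zg16) (kg xg6 yg1 zg13) (kg xg4 yg0 zg25) (kg xg6 yg3 zg20) (kg xg6 yg3 zg21) (kg xg4 yg1 zg49) (kg xg4 yg1 zg50) (kg xg4 yg9 zg0) (kg xg6 yg1 zg20) (kg xg4 yg0 zg29) (kg xg6 yg3 zg30) (kg xg6 yg3 zg31) (kg xg6 yg1 zg24) (kg xg4 yg0 zg32) (kg xg6 yg3 zg35) (kg xg4 yg9 zg8) (kg xg6 yg1 zg28) (kg xg4 yg0 zg36) (kg xg4 yg0 zg37) (kg xg6 yg3 zg41) (kg xg6 yg3 zg42) (kg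 xg6 yg1 zg33) (kg xg6 yg1 zg34) (kg xg6 yg3 zg48) (kg xg6 yg1 zg36) (kg xg4 yg0 zg41) (kg xg6 yg4 zg2) (kg xg6 yg1 zg40) (kg xg5 yg0 zg37) (kg xg6 yg4 zg4) (kg xg4 yg0 zg44) (kg xg6 yg4 zg7) (kg xg6 yg1 zg45) (kg xg6 yg1 zg46) (kg xg4 yg0 zg46) (kg xg6 yg4 zg14) (kg xg5 yg0 zg45) (kg xg4 yg0 zg48) (kg xg6 yg4 zg17) (kg xg5 yg0 zg48) (kg xg5 yg0 zg49) (kg xg4 yg1 zg1)) (@D3.rec (fun _ => Pt) (kg xg6 yg4 zg21) (kg xg6 yg4 zg22) (kg xg5 yg1 zg2) (kg xg4 yg1 zg4) (kg xg6 yg4 zg27) (kg xg6 yg2 zg9) (kg xg6 yg4 zg30) (kg xg4 yg1 zg6) (kg xg6 yg4 zg33) (kg xg6 yg2 zg13) (kg xg6 yg2 zg14) (kg xg4 yg1 zg8) (kg xg6 yg4 zg39) (kg xg5 yg1 zg13) (kg xg4 yg1 zg10) (kg xg6 yg4 zg42) (kg xg6 yg4 zg43) (kg xg4 yg1 zg13) (kg xg6 yg4 zg47) (kg xg5 yg1 zg19) (kg xg4 yg1 zg15)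 (kg xg6 yg5 zg0) (kg xg6 yg5 zg1) (kg xg6 yg2 zg27) (kg xg6 yg2 zg28) (kg xg4 yg9 zg33) (kg xg5 yg1 zg26) (kg xg4 yg1 zg19) (kg xg6 yg5 zg10) (kg xg6 yg5 zg11) (kg xg5 yg1 zg30) (kg xg4 yg1 zg22) (kg xg6 yg5 zg15) (kg xg4 yg9 zg41) (kg xg5 yg1 zg34) (kg xg4 yg1 zg26) (kg xg4 yg1 zg27) (kg xg6 yg5 zg21) (kg xg6 yg5 zg22) (kg xg5 yg1 zg39) (kg xg6 yg5 zg27) (kg xg4 yg1 zg30) (kg xg6 yg5 zg30) (kg xg6 yg2 zg47) (kg xg6 yg5 zg32) (kg xg4 yg1 zg32) (kg xg6 yg5 zg36) (kg xg5 yg1 zg47) (kg xg4 yg1 zg34) (kg xg6 yg5 zg40) (kg xg6 yg5 zg41)) (@D3.rec (fun _ => Pt) (kg xg6 yg3 zg4) (kg xg4 yg10 zg5) (kg xg5 yg2 zg2) (kg xg4 yg1 zg38) (kg xg6 yg5 zg48) (kg xg6 yg5 zg49) (kg xg5 yg2 zg6) (kg xg4 yg1 zg41) (kg xg4 yg1 zg42) (kg xg6 yg6 zg4) (kg xg4 yg10 zg14) (kg xg5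 yg2 zg11) (kg xg4 yg1 zg44) (kg xg6 yg6 zg10) (kg xg6 yg6 zg11) (kg xg5 yg2 zg15) (kg xg4 yg1 zg47) (kg xg4 yg1 zg48) (kg xg6 yg6 zg17) (kg xg6 yg6 zg18) (kg xg6 yg6 zg22) (kg xg6 yg3 zg25) (kg xg6 yg3 zg26) (kg xg6 yg6 zg25) (kg xg4 yg10 zg27) (kg xg5 yg2 zg25) (kg xg4 yg2 zg3) (kg xg4 yg2 zg4) (kg xg6 yg6 zg31) (kg xg6 yg6 zg32) (kg xg5 yg2 zg30) (kg xg4 yg2 zg7) (kg xg6 yg6 zg36) (kg xg4 yg10 zg36) (kg xg4 yg10 zg37) (kg xg5 yg2 zg35) (kg xg5 yg2 zg36) (kg xg4 yg2 zg12) (kg xg4 yg2 zg13) (kg xg6 yg6 zg44) (kg xg6 yg6 zg45) (kg xg6 yg6 zg46) (kg xg5 yg2 zg42) (kg xg5 yg2 zg43) (kg xg5 yg2 zg44) (kg xg5 yg2 zg45) (kg xg4 yg18 zg30) (kg xg5 yg2 zg47) (kg xg5 yg2 zg48) (kg xg4 yg2 zg24) (kg xg6 yg7 zg1)) (@D3.rec (fun _ => Pt) (kg xg4 yg10 zg45) (kg xg5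 yg3 zg1) (kg xg4 yg2 zg28) (kg xg6 yg7 zg6) (kg xg4 yg10 zg49) (kg xg5 yg3 zg5) (kg xg6 yg7 zg9) (kg xg4 yg11 zg1) (kg xg5 yg3 zg8) (kg xg4 yg2 zg34) (kg xg6 yg7 zg13) (kg xg4 yg2 zg36) (kg xg6 yg7 zg15) (kg xg4 yg11 zg7) (kg xg4 yg11 zg8) (kg xg5 yg3 zg15) (kg xg5 yg3 zg16) (kg xg4 yg2 zg41) (kg xg4 yg2 zg42) (kg xg6 yg7 zg23) (kg xg6 yg7 zg24) (kg xg6 yg7 zg25) (kg xg4 yg2 zg44) (kg xg6 yg7 zg31) (kg xg4 yg11 zg18) (kg xg5 yg3 zg25) (kg xg6 yg7 zg34) (kg xg4 yg11 zg21) (kg xg5 yg3 zg28) (kg xg4 yg2 zg50) (kg xg6 yg7 zg38) (kg xg4 yg11 zg25) (kg xg5 yg3 zg32) (kg xg4 yg3 zg2) (kg xg6 yg7 zg44) (kg xg6 yg7 zg45) (kg xg6 yg7 zg48) (kg xg4 yg11 zg31) (kg xg5 yg3 zg38) (kg xg4 yg3 zg6) (kg xg6 yg8 zg1) (kg xg4 yg3 zg8) (kg xg6 yg8 zg3) (kg xg4 yg11 zg37)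 (kg xg4 yg11 zg38) (kg xg5 yg3 zg45) (kg xg5 yg3 zg46) (kg xg4 yg3 zg13) (kg xg4 yg3 zg14) (kg xg6 yg8 zg11) (kg xg6 yg8 zg12)) (@D3.rec (fun _ => Pt) (kg xg6 yg8 zg13) (kg xg4 yg3 zg17) (kg xg6 yg8 zg17) (kg xg6 yg8 zg18) (kg xg4 yg11 zg49) (kg xg4 yg11 zg50) (kg xg4 yg12 zg0) (kg xg5 yg4 zg7) (kg xg5 yg4 zg8) (kg xg4 yg3 zg24) (kg xg4 yg3 zg25) (kg xg4 yg3 zg26) (kg xg6 yg8 zg30) (kg xg6 yg8 zg31) (kg xg6 yg8 zg32) (kg xg4 yg3 zg47) (kg xg4 yg15 zg30) (kg xg4 yg4 zg2) (kg xg4 yg15 zg27) (kg xg4 yg4 zg4) (kg xg4 yg19 zg33) (kg xg4 yg4 zg6) (kg xg4 yg4 zg11) (kg xg5 yg23 zg13) (kg xg6 yg8 zg36) (kg xg5 yg23 zg19) (kg xg5 yg23 zg4) (kg xg4 yg3 zg48) (kg xg5 yg23 zg21) (kg xg5 yg22 zg49) (kg xg6 yg8 zg39) (kg xg4 yg4 zg3) (kg xg4 yg19 zg3) (kg xg6 yg8 zg45)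 (kg xg4 yg4 zg5) (kg xg6 yg8 zg47) (kg xg6 yg8 zg37) (kg xg4 yg4 zg8) (kg xg6 yg8 zg50) (kg xg4 yg4 zg10) (kg xg5 yg23 zg12) (kg xg5 yg4 zg41) (kg xg6 yg9 zg2) (kg xg5 yg4 zg43) (kg xg6 yg9 zg4) (kg xg4 yg4 zg21) (kg xg5 yg23 zg38) (kg xg5 yg4 zg47) (kg xg4 yg15 zg39) (kg xg4 yg4 zg24) (kg xg5 yg23 zg41)) (@D3.rec (fun _ => Pt) (kg xg5 yg23 zg29) (kg xg6 yg9 zg9) (kg xg4 yg4 zg29) (kg xg4 yg15 zg35) (kg xg6 yg9 zg11) (kg xg4 yg4 zg31) (kg xg4 yg4 zg32) (kg xg6 yg9 zg14) (kg xg4 yg19 zg15) (kg xg4 yg4 zg34) (kg xg6 yg9 zg18) (kg xg5 yg23 zg40) (kg xg5 yg23 zg44) (kg xg4 yg4 zg38) (kg xg6 yg9 zg22) (kg xg6 yg9 zg23) (kg xg5 yg23 zg31) (kg xg4 yg4 zg41) (kg xg5 yg22 zg5) (kg xg5 yg5 zg19) (kg xg6 yg9 zg28) (kg xg5 yg5 zg21) (kg xg6 yg9 zg31) (kg xg4 yg4 zg47)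 (kg xg6 yg9 zg34) (kg xg5 yg5 zg25) (kg xg4 yg5 zg31) (kg xg4 yg4 zg50) (kg xg5 yg24 zg26) (kg xg4 yg5 zg34) (kg xg4 yg5 zg1) (kg xg6 yg9 zg37) (kg xg5 yg5 zg32) (kg xg6 yg9 zg41) (kg xg5 yg5 zg34) (kg xg6 yg9 zg45) (kg xg4 yg5 zg5) (kg xg6 yg9 zg48) (kg xg5 yg5 zg38) (kg xg4 yg5 zg44) (kg xg6 yg10 zg0) (kg xg4 yg5 zg8) (kg xg6 yg10 zg2) (kg xg5 yg5 zg43) (kg xg5 yg5 zg44) (kg xg4 yg5 zg10) (kg xg6 yg10 zg9) (kg xg4 yg6 zg1) (kg xg4 yg5 zg12) (kg xg6 yg10 zg13) (kg xg5 yg24 zg23)) (@D3.rec (fun _ => Pt) (kg xg4 yg6 zg5) (kg xg4 yg5 zg16) (kg xg6 yg10 zg16) (kg xg6 yg10 zg17) (kg xg4 yg6 zg9) (kg xg4 yg5 zg19) (kg xg5 yg22 zg20) (kg xg4 yg5 zg22) (kg xg6 yg10 zg22) (kg xg6 yg10 zg24) (kg xg4 yg5 zg25) (kg xg6 yg10 zg27) (kg xg4 yg6 zg19) (kg xg4 yg5 zg27)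 (kg xg6 yg10 zg31) (kg xg6 yg9 zg33) (kg xg4 yg5 zg29) (kg xg6 yg10 zg35) (kg xg5 yg24 zg40) (kg xg5 yg23 zg43) (kg xg4 yg5 zg33) (kg xg5 yg25 zg26) (kg xg6 yg10 zg38) (kg xg5 yg22 zg18) (kg xg4 yg5 zg36) (kg xg6 yg10 zg42) (kg xg4 yg6 zg33) (kg xg6 yg10 zg46) (kg xg4 yg5 zg38) (kg xg6 yg10 zg49) (kg xg4 yg6 zg37) (kg xg4 yg6 zg38) (kg xg4 yg5 zg40) (kg xg6 yg11 zg4) (kg xg6 yg9 zg47) (kg xg4 yg5 zg42) (kg xg6 yg11 zg8) (kg xg6 yg11 zg9) (kg xg4 yg5 zg45) (kg xg6 yg11 zg13) (kg xg4 yg17 zg29) (kg xg4 yg5 zg47) (kg xg6 yg11 zg17) (kg xg6 yg11 zg18) (kg xg4 yg7 zg0) (kg xg4 yg7 zg1) (kg xg5 yg25 zg17) (kg xg6 yg10 zg8) (kg xg4 yg6 zg0) (kg xg6 yg11 zg26) (kg xg6 yg11 zg27)) (@D3.rec (fun _ => Pt) (kg xg6 yg10 zg12) (kg xg4 yg6 zg3) (kg xg6 yg11 zg31) (kg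 xg5 yg25 zg25) (kg xg6 yg10 zg15) (kg xg4 yg6 zg7) (kg xg4 yg6 zg8) (kg xg6 yg11 zg37) (kg xg6 yg11 zg38) (kg xg6 yg10 zg20) (kg xg4 yg6 zg12) (kg xg6 yg11 zg42) (kg xg6 yg11 zg43) (kg xg5 yg7 zg13) (kg xg4 yg6 zg15) (kg xg6 yg11 zg47) (kg xg4 yg6 zg16) (kg xg6 yg12 zg0) (kg xg5 yg7 zg18) (kg xg4 yg6 zg18) (kg xg6 yg12 zg4) (kg xg5 yg25 zg40) (kg xg5 yg7 zg22) (kg xg4 yg6 zg21) (kg xg6 yg12 zg8) (kg xg6 yg12 zg9) (kg xg5 yg7 zg26) (kg xg4 yg6 zg24) (kg xg6 yg12 zg13) (kg xg5 yg25 zg48) (kg xg5 yg7 zg30) (kg xg4 yg6 zg28) (kg xg4 yg6 zg29) (kg xg6 yg12 zg19) (kg xg6 yg12 zg20) (kg xg5 yg7 zg35) (kg xg6 yg12 zg25) (kg xg4 yg6 zg32) (kg xg6 yg12 zg28) (kg xg6 yg10 zg44) (kg xg6 yg12 zg30) (kg xg4 yg6 zg34) (kg xg6 yg12 zg34) (kg xg5 yg7 zg43) (kg xg4 yg6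 zg36) (kg xg6 yg12 zg38) (kg xg6 yg12 zg39) (kg xg6 yg11 zg1) (kg xg5 yg26 zg18) (kg xg5 yg7 zg49) (kg xg4 yg6 zg40)) (@D3.rec (fun _ => Pt) (kg xg6 yg12 zg45) (kg xg6 yg12 zg46) (kg xg5 yg8 zg2) (kg xg4 yg6 zg43) (kg xg4 yg6 zg44) (kg xg6 yg13 zg1) (kg xg5 yg26 zg27) (kg xg5 yg8 zg7) (kg xg4 yg6 zg46) (kg xg6 yg13 zg7) (kg xg6 yg13 zg8) (kg xg5 yg8 zg11) (kg xg4 yg6 zg49) (kg xg4 yg6 zg50) (kg xg6 yg13 zg14) (kg xg6 yg13 zg15) (kg xg6 yg13 zg18) (kg xg6 yg11 zg22) (kg xg6 yg13 zg20) (kg xg5 yg26 zg41) (kg xg5 yg8 zg20) (kg xg4 yg7 zg5) (kg xg4 yg7 zg6) (kg xg6 yg13 zg26) (kg xg6 yg13 zg27) (kg xg5 yg8 zg25) (kg xg4 yg7 zg9) (kg xg6 yg13 zg31) (kg xg5 yg26 zg50) (kg xg6 yg0 zg0) (kg xg5 yg8 zg30) (kg xg5 yg8 zg31) (kg xg4 yg7 zg14) (kg xg4 yg7 zg15) (kg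 xg6 yg13 zg39) (kg xg6 yg13 zg40) (kg xg6 yg13 zg41) (kg xg5 yg8 zg37) (kg xg6 yg13 zg47) (kg xg5 yg8 zg39) (kg xg6 yg13 zg50) (kg xg4 yg7 zg18) (kg xg6 yg14 zg2) (kg xg5 yg8 zg43) (kg xg4 yg8 zg14) (kg xg6 yg14 zg5) (kg xg4 yg7 zg21) (kg xg6 yg14 zg8) (kg xg5 yg8 zg48) (kg xg5 yg8 zg49) (kg xg4 yg7 zg23)) (@D3.rec (fun _ => Pt) (kg xg6 yg14 zg14) (kg xg4 yg8 zg22) (kg xg4 yg7 zg25) (kg xg6 yg14 zg18) (kg xg6 yg0 zg42) (kg xg4 yg8 zg26) (kg xg4 yg7 zg29) (kg xg6 yg1 zg31) (kg xg6 yg14 zg19) (kg xg4 yg8 zg30) (kg xg4 yg7 zg32) (kg xg6 yg14 zg23) (kg xg6 yg14 zg25) (kg xg4 yg7 zg34) (kg xg6 yg14 zg28) (kg xg5 yg9 zg15) (kg xg4 yg7 zg36) (kg xg6 yg14 zg32) (kg xg4 yg8 zg39) (kg xg4 yg7 zg38) (kg xg6 yg14 zg36) (kg xg6 yg14 zg37) (kg xg4 yg7 zg41) (kg xg6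 yg14 zg41) (kg xg4 yg8 zg45) (kg xg4 yg7 zg43) (kg xg6 yg14 zg45) (kg xg6 yg14 zg46) (kg xg5 yg9 zg28) (kg xg5 yg9 zg29) (kg xg6 yg1 zg19) (kg xg4 yg9 zg1) (kg xg4 yg7 zg47) (kg xg6 yg15 zg3) (kg xg6 yg15 zg4) (kg xg4 yg9 zg5) (kg xg4 yg7 zg50) (kg xg6 yg15 zg8) (kg xg6 yg1 zg27) (kg xg4 yg9 zg9) (kg xg4 yg8 zg3) (kg xg4 yg8 zg4) (kg xg6 yg15 zg14) (kg xg6 yg15 zg15) (kg xg4 yg9 zg14) (kg xg6 yg15 zg20) (kg xg6 yg15 zg22) (kg xg4 yg8 zg8) (kg xg6 yg15 zg25) (kg xg4 yg9 zg19) (kg xg4 yg8 zg10)) (@D3.rec (fun _ => Pt) (kg xg6 yg15 zg29) (kg xg6 yg14 zg1) (kg xg4 yg8 zg12) (kg xg6 yg15 zg33) (kg xg6 yg15 zg34) (kg xg4 yg8 zg15) (kg xg6 yg15 zg38) (kg xg6 yg14 zg7) (kg xg4 yg8 zg17) (kg xg6 yg15 zg42) (kg xg6 yg15 zg43) (kg xg4 yg9 zg32) (kg xg6 yg2 zg29)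 (kg xg6 yg14 zg13) (kg xg4 yg8 zg21) (kg xg6 yg15 zg49) (kg xg6 yg15 zg50) (kg xg6 yg14 zg17) (kg xg4 yg8 zg24) (kg xg6 yg16 zg3) (kg xg6 yg2 zg37) (kg xg5 yg25 zg29) (kg xg4 yg8 zg28) (kg xg4 yg8 zg29) (kg xg6 yg3 zg39) (kg xg6 yg16 zg8) (kg xg6 yg14 zg21) (kg xg6 yg16 zg13) (kg xg4 yg8 zg32) (kg xg6 yg16 zg15) (kg xg4 yg8 zg33) (kg xg6 yg16 zg19) (kg xg6 yg14 zg27) (kg xg4 yg8 zg35) (kg xg6 yg16 zg23) (kg xg6 yg3 zg5) (kg xg6 yg14 zg31) (kg xg4 yg8 zg38) (kg xg6 yg16 zg27) (kg xg6 yg16 zg28) (kg xg6 yg14 zg35) (kg xg4 yg8 zg41) (kg xg4 yg8 zg42) (kg xg6 yg16 zg34) (kg xg6 yg3 zg14) (kg xg6 yg14 zg40) (kg xg4 yg8 zg44) (kg xg6 yg16 zg40) (kg xg6 yg16 zg41) (kg xg6 yg14 zg44) (kg xg4 yg8 zg47)) (@D3.rec (fun _ => Pt) (kg xg4 yg8 zg48) (kg xg6 yg16 zg47)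 (kg xg6 yg16 zg48) (kg xg6 yg17 zg0) (kg xg4 yg10 zg25) (kg xg6 yg17 zg2) (kg xg6 yg3 zg28) (kg xg6 yg15 zg2) (kg xg4 yg9 zg3) (kg xg4 yg9 zg4) (kg xg6 yg17 zg8) (kg xg6 yg17 zg9) (kg xg6 yg15 zg7) (kg xg4 yg9 zg7) (kg xg6 yg17 zg13) (kg xg6 yg3 zg37) (kg xg6 yg3 zg38) (kg xg6 yg15 zg12) (kg xg6 yg15 zg13) (kg xg4 yg9 zg12) (kg xg4 yg9 zg13) (kg xg6 yg17 zg21) (kg xg6 yg17 zg22) (kg xg6 yg17 zg23) (kg xg6 yg17 zg27) (kg xg4 yg9 zg15) (kg xg4 yg9 zg16) (kg xg6 yg17 zg31) (kg xg5 yg11 zg28) (kg xg4 yg9 zg18) (kg xg6 yg17 zg35) (kg xg6 yg4 zg37) (kg xg5 yg11 zg32) (kg xg4 yg9 zg21) (kg xg6 yg17 zg39) (kg xg5 yg11 zg35) (kg xg4 yg9 zg24) (kg xg4 yg9 zg25) (kg xg6 yg17 zg43) (kg xg6 yg4 zg45) (kg xg5 yg11 zg40) (kg xg4 yg9 zg27) (kg xg6 yg17 zg49) (kg xg6 yg17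 zg50) (kg xg5 yg11 zg44) (kg xg4 yg9 zg30) (kg xg4 yg9 zg31) (kg xg6 yg18 zg5) (kg xg6 yg18 zg6) (kg xg6 yg18 zg8) (kg xg6 yg5 zg8)) (@D3.rec (fun _ => Pt) (kg xg5 yg12 zg0) (kg xg4 yg9 zg36) (kg xg4 yg9 zg37) (kg xg6 yg18 zg14) (kg xg6 yg18 zg15) (kg xg5 yg12 zg5) (kg xg4 yg9 zg40) (kg xg6 yg18 zg18) (kg xg6 yg5 zg17) (kg xg6 yg5 zg18) (kg xg5 yg12 zg10) (kg xg5 yg12 zg11) (kg xg4 yg9 zg45) (kg xg4 yg9 zg46) (kg xg6 yg18 zg26) (kg xg6 yg18 zg27) (kg xg6 yg18 zg28) (kg xg6 yg18 zg32) (kg xg4 yg9 zg48) (kg xg5 yg12 zg19) (kg xg4 yg9 zg50) (kg xg6 yg18 zg38) (kg xg6 yg5 zg34) (kg xg5 yg12 zg23) (kg xg4 yg10 zg1) (kg xg6 yg18 zg44) (kg xg6 yg18 zg45) (kg xg5 yg12 zg27) (kg xg4 yg10 zg4) (kg xg6 yg18 zg49) (kg xg6 yg5 zg46) (kg xg5 yg12 zg31) (kg xg4 yg10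 zg8) (kg xg4 yg10 zg9) (kg xg6 yg19 zg4) (kg xg6 yg19 zg5) (kg xg5 yg12 zg36) (kg xg6 yg6 zg2) (kg xg5 yg12 zg38) (kg xg4 yg10 zg13) (kg xg6 yg19 zg12) (kg xg6 yg19 zg13) (kg xg6 yg19 zg17) (kg xg6 yg6 zg8) (kg xg5 yg12 zg44) (kg xg4 yg10 zg17) (kg xg4 yg10 zg18) (kg xg6 yg19 zg23) (kg xg6 yg19 zg24) (kg xg6 yg19 zg25) (kg xg5 yg12 zg50)) (@D3.rec (fun _ => Pt) (kg xg5 yg13 zg0) (kg xg4 yg10 zg22) (kg xg4 yg10 zg23) (kg xg6 yg19 zg36) (kg xg6 yg19 zg35) (kg xg4 yg10 zg24) (kg xg6 yg19 zg39) (kg xg4 yg10 zg26) (kg xg6 yg19 zg40) (kg xg6 yg6 zg27) (kg xg6 yg6 zg28) (kg xg5 yg13 zg11) (kg xg5 yg13 zg12) (kg xg4 yg10 zg31) (kg xg4 yg10 zg32) (kg xg6 yg19 zg48) (kg xg6 yg19 zg49) (kg xg6 yg19 zg50) (kg xg4 yg10 zg35) (kg xg6 yg20 zg3) (kg xg6 yg20 zg4) (kg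 xg6 yg6 zg39) (kg xg6 yg6 zg40) (kg xg6 yg6 zg41) (kg xg5 yg13 zg24) (kg xg5 yg13 zg25) (kg xg4 yg10 zg42) (kg xg4 yg10 zg43) (kg xg4 yg10 zg44) (kg xg6 yg20 zg16) (kg xg6 yg20 zg17) (kg xg6 yg20 zg18) (kg xg6 yg20 zg22) (kg xg6 yg7 zg4) (kg xg5 yg13 zg34) (kg xg4 yg10 zg48) (kg xg6 yg20 zg27) (kg xg6 yg20 zg28) (kg xg4 yg11 zg0) (kg xg6 yg20 zg29) (kg xg6 yg7 zg11) (kg xg5 yg13 zg41) (kg xg4 yg11 zg4) (kg xg6 yg20 zg34) (kg xg4 yg11 zg6) (kg xg6 yg20 zg36) (kg xg6 yg20 zg37) (kg xg6 yg7 zg18) (kg xg6 yg7 zg19) (kg xg6 yg7 zg20) (kg xg5 yg13 zg50)) (@D3.rec (fun _ => Pt) (kg xg5 yg14 zg0) (kg xg4 yg11 zg13) (kg xg4 yg11 zg14) (kg xg4 yg11 zg15) (kg xg6 yg20 zg49) (kg xg6 yg20 zg50) (kg xg6 yg21 zg0) (kg xg6 yg7 zg29) (kg xg5 yg14 zg8) (kg xg4 yg11 zg17)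 (kg xg6 yg21 zg8) (kg xg6 yg21 zg9) (kg xg4 yg11 zg20) (kg xg6 yg21 zg10) (kg xg6 yg7 zg36) (kg xg5 yg14 zg15) (kg xg4 yg11 zg24) (kg xg6 yg21 zg15) (kg xg6 yg7 zg40) (kg xg6 yg21 zg19) (kg xg6 yg7 zg42) (kg xg5 yg14 zg21) (kg xg4 yg11 zg28) (kg xg4 yg11 zg29) (kg xg6 yg21 zg25) (kg xg6 yg21 zg26) (kg xg4 yg11 zg30) (kg xg6 yg21 zg29) (kg xg6 yg7 zg50) (kg xg5 yg14 zg29) (kg xg4 yg11 zg34) (kg xg6 yg21 zg34) (kg xg4 yg11 zg36) (kg xg6 yg21 zg36) (kg xg6 yg21 zg37) (kg xg6 yg8 zg6) (kg xg6 yg8 zg7) (kg xg6 yg8 zg8) (kg xg5 yg14 zg38) (kg xg5 yg14 zg39) (kg xg4 yg11 zg43) (kg xg4 yg11 zg44) (kg xg4 yg11 zg45) (kg xg6 yg21 zg49) (kg xg6 yg21 zg50) (kg xg6 yg22 zg0) (kg xg4 yg11 zg47) (kg xg4 yg11 zg48) (kg xg6 yg8 zg25) (kg xg6 yg8 zg24) (kg xg6 yg8 zg23))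 (@D3.rec (fun _ => Pt) (kg xg6 yg8 zg22) (kg xg6 yg8 zg26) (kg xg5 yg15 zg2) (kg xg5 yg15 zg3) (kg xg4 yg12 zg6) (kg xg4 yg12 zg7) (kg xg4 yg12 zg8) (kg xg6 yg22 zg6) (kg xg6 yg22 zg7) (kg xg6 yg22 zg8) (kg xg5 yg22 zg3) (kg xg4 yg12 zg11) (kg xg6 yg22 zg13) (kg xg4 yg12 zg14) (kg xg6 yg22 zg14) (kg xg6 yg22 zg15) (kg xg4 yg13 zg2) (kg xg4 yg12 zg17) (kg xg4 yg12 zg20) (kg xg5 yg24 zg11) (kg xg6 yg22 zg19) (kg xg4 yg13 zg11) (kg xg4 yg12 zg23) (kg xg4 yg12 zg24) (kg xg6 yg22 zg25) (kg xg6 yg22 zg26) (kg xg6 yg22 zg29) (kg xg5 yg15 zg27) (kg xg5 yg15 zg28) (kg xg4 yg13 zg20) (kg xg4 yg12 zg30) (kg xg4 yg12 zg31) (kg xg6 yg22 zg35) (kg xg6 yg22 zg36) (kg xg4 yg13 zg25) (kg xg5 yg22 zg22) (kg xg5 yg15 zg36) (kg xg5 yg15 zg37) (kg xg4 yg13 zg30) (kg xg4 yg13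 zg31) (kg xg4 yg12 zg39) (kg xg4 yg12 zg40) (kg xg6 yg22 zg47) (kg xg6 yg22 zg48) (kg xg6 yg22 zg49) (kg xg4 yg12 zg44) (kg xg5 yg25 zg22) (kg xg6 yg23 zg2) (kg xg5 yg22 zg14) (kg xg4 yg12 zg47) (kg xg5 yg15 zg50)) (@D3.rec (fun _ => Pt) (kg xg5 yg22 zg11) (kg xg4 yg13 zg0) (kg xg4 yg13 zg1) (kg xg6 yg23 zg10) (kg xg6 yg23 zg11) (kg xg6 yg22 zg18) (kg xg5 yg25 zg5) (kg xg4 yg19 zg44) (kg xg5 yg16 zg8) (kg xg5 yg22 zg9) (kg xg4 yg13 zg9) (kg xg4 yg13 zg10) (kg xg6 yg23 zg20) (kg xg6 yg23 zg21) (kg xg6 yg23 zg22) (kg xg6 yg22 zg23) (kg xg6 yg22 zg24) (kg xg4 yg13 zg14) (kg xg4 yg13 zg15) (kg xg6 yg23 zg33) (kg xg6 yg23 zg32) (kg xg4 yg13 zg16) (kg xg6 yg23 zg36) (kg xg5 yg22 zg23) (kg xg5 yg16 zg24) (kg xg5 yg16 zg25) (kg xg6 yg22 zg33) (kg xg6 yg22 zg34)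 (kg xg4 yg13 zg23) (kg xg4 yg13 zg24) (kg xg6 yg23 zg44) (kg xg6 yg23 zg45) (kg xg6 yg23 zg46) (kg xg4 yg13 zg27) (kg xg6 yg22 zg11) (kg xg6 yg23 zg50) (kg xg5 yg16 zg36) (kg xg5 yg16 zg37) (kg xg5 yg16 zg38) (kg xg6 yg22 zg45) (kg xg6 yg22 zg46) (kg xg4 yg13 zg34) (kg xg4 yg13 zg35) (kg xg4 yg13 zg36) (kg xg6 yg24 zg10) (kg xg6 yg24 zg11) (kg xg6 yg24 zg12) (kg xg5 yg16 zg47) (kg xg5 yg16 zg48) (kg xg4 yg13 zg40) (kg xg4 yg13 zg41)) (@D3.rec (fun _ => Pt) (kg xg6 yg24 zg20) (kg xg6 yg24 zg21) (kg xg5 yg17 zg2) (kg xg5 yg22 zg29) (kg xg5 yg17 zg4) (kg xg5 yg17 zg5) (kg xg5 yg17 zg6) (kg xg5 yg17 zg7) (kg xg4 yg13 zg49) (kg xg4 yg13 zg50) (kg xg6 yg24 zg32) (kg xg6 yg24 zg33) (kg xg6 yg24 zg34) (kg xg5 yg22 zg26) (kg xg5 yg17 zg14) (kg xg5 yg17 zg15) (kg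 xg5 yg17 zg16) (kg xg5 yg17 zg17) (kg xg4 yg14 zg6) (kg xg4 yg14 zg7) (kg xg4 yg14 zg8) (kg xg6 yg24 zg46) (kg xg6 yg24 zg47) (kg xg6 yg24 zg48) (kg xg6 yg25 zg7) (kg xg6 yg24 zg50) (kg xg6 yg25 zg0) (kg xg5 yg17 zg27) (kg xg5 yg17 zg28) (kg xg6 yg25 zg12) (kg xg4 yg14 zg14) (kg xg4 yg14 zg13) (kg xg6 yg25 zg15) (kg xg5 yg17 zg33) (kg xg4 yg14 zg16) (kg xg4 yg14 zg18) (kg xg4 yg15 zg16) (kg xg6 yg25 zg17) (kg xg5 yg17 zg38) (kg xg5 yg17 zg39) (kg xg5 yg17 zg40) (kg xg5 yg17 zg41) (kg xg5 yg17 zg42) (kg xg4 yg14 zg25) (kg xg4 yg14 zg26) (kg xg4 yg14 zg27) (kg xg6 yg25 zg28) (kg xg6 yg25 zg29) (kg xg6 yg25 zg30) (kg xg4 yg14 zg30) (kg xg4 yg14 zg41)) (@D3.rec (fun _ => Pt) (kg xg5 yg18 zg0) (kg xg5 yg18 zg1) (kg xg5 yg18 zg2) (kg xg5 yg18 zg3) (kg xg5 yg18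 zg4) (kg xg4 yg14 zg39) (kg xg4 yg14 zg40) (kg xg6 yg25 zg36) (kg xg6 yg25 zg19) (kg xg4 yg15 zg15) (kg xg5 yg18 zg10) (kg xg5 yg18 zg11) (kg xg5 yg18 zg12) (kg xg5 yg18 zg13) (kg xg5 yg18 zg14) (kg xg4 yg14 zg50) (kg xg4 yg15 zg0) (kg xg4 yg15 zg1) (kg xg6 yg25 zg44) (kg xg6 yg25 zg45) (kg xg6 yg25 zg46) (kg xg4 yg15 zg12) (kg xg5 yg18 zg22) (kg xg5 yg18 zg23) (kg xg5 yg18 zg24) (kg xg4 yg15 zg11) (kg xg4 yg15 zg13) (kg xg6 yg25 zg38) (kg xg6 yg25 zg18) (kg xg6 yg26 zg0) (kg xg6 yg24 zg25) (kg xg5 yg18 zg31) (kg xg4 yg19 zg17) (kg xg4 yg15 zg49) (kg xg4 yg15 zg45) (kg xg4 yg17 zg7) (kg xg4 yg17 zg10) (kg xg4 yg17 zg13) (kg xg4 yg17 zg12) (kg xg5 yg18 zg39) (kg xg6 yg10 zg48) (kg xg4 yg16 zg6) (kg xg4 yg16 zg11) (kg xg4 yg17 zg22) (kg xg4 yg16 zg10) (kg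 xg6 yg10 zg26) (kg xg4 yg17 zg26) (kg xg4 yg16 zg13) (kg xg4 yg16 zg16) (kg xg6 yg16 zg45) (kg xg4 yg16 zg21)) (@D3.rec (fun _ => Pt) (kg xg6 yg16 zg33) (kg xg6 yg26 zg10) (kg xg4 yg16 zg25) (kg xg6 yg26 zg13) (kg xg5 yg19 zg4) (kg xg5 yg19 zg5) (kg xg6 yg26 zg16) (kg xg4 yg16 zg30) (kg xg5 yg19 zg8) (kg xg4 yg16 zg32) (kg xg6 yg26 zg18) (kg xg4 yg16 zg34) (kg xg6 yg26 zg21) (kg xg5 yg19 zg13) (kg xg4 yg18 zg43) (kg xg5 yg19 zg15) (kg xg5 yg19 zg16) (kg xg4 yg16 zg41) (kg xg6 yg26 zg25) (kg xg6 yg26 zg26) (kg xg4 yg16 zg45) (kg xg4 yg18 zg45) (kg xg6 yg26 zg30) (kg xg5 yg19 zg23) (kg xg4 yg16 zg48) (kg xg6 yg26 zg33) (kg xg4 yg16 zg49) (kg xg4 yg18 zg24) (kg xg4 yg17 zg9) (kg xg4 yg17 zg3) (kg xg6 yg9 zg38) (kg xg6 yg13 zg45) (kg xg6 yg10 zg3) (kg xg6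 yg9 zg50) (kg xg6 yg26 zg39) (kg xg6 yg16 zg14) (kg xg4 yg17 zg15) (kg xg4 yg17 zg21) (kg xg4 yg17 zg19) (kg xg6 yg26 zg41) (kg xg6 yg15 zg24) (kg xg4 yg17 zg24) (kg xg6 yg26 zg44) (kg xg4 yg17 zg28) (kg xg6 yg11 zg16) (kg xg6 yg26 zg46) (kg xg6 yg11 zg12) (kg xg4 yg17 zg31) (kg xg7 yg0 zg0) (kg xg4 yg17 zg32) (kg xg4 yg17 zg33)) (@D3.rec (fun _ => Pt) (kg xg7 yg0 zg4) (kg xg5 yg20 zg1) (kg xg5 yg20 zg2) (kg xg5 yg20 zg3) (kg xg5 yg20 zg4) (kg xg4 yg17 zg39) (kg xg7 yg0 zg9) (kg xg7 yg0 zg10) (kg xg4 yg17 zg43) (kg xg7 yg0 zg13) (kg xg4 yg17 zg46) (kg xg5 yg20 zg11) (kg xg5 yg20 zg12) (kg xg4 yg17 zg48) (kg xg7 yg0 zg17) (kg xg5 yg20 zg15) (kg xg5 yg20 zg16) (kg xg5 yg20 zg17) (kg xg4 yg18 zg3) (kg xg4 yg18 zg4) (kg xg7 yg0 zg21) (kg xg7 yg0 zg22) (kg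 xg4 yg18 zg6) (kg xg7 yg0 zg26) (kg xg5 yg20 zg24) (kg xg7 yg0 zg28) (kg xg4 yg18 zg9) (kg xg5 yg20 zg27) (kg xg5 yg20 zg28) (kg xg5 yg20 zg29) (kg xg4 yg18 zg12) (kg xg7 yg0 zg33) (kg xg4 yg18 zg18) (kg xg5 yg20 zg33) (kg xg6 yg26 zg15) (kg xg5 yg20 zg35) (kg xg5 yg20 zg36) (kg xg4 yg18 zg22) (kg xg4 yg18 zg23) (kg xg7 yg0 zg41) (kg xg7 yg0 zg42) (kg xg5 yg20 zg41) (kg xg5 yg20 zg42) (kg xg4 yg18 zg28) (kg xg6 yg4 zg18) (kg xg4 yg18 zg34) (kg xg7 yg0 zg45) (kg xg5 yg20 zg47) (kg xg5 yg20 zg48) (kg xg4 yg18 zg36) (kg xg7 yg0 zg49)) (@D3.rec (fun _ => Pt) (kg xg4 yg20 zg4) (kg xg5 yg21 zg1) (kg xg6 yg7 zg2) (kg xg5 yg21 zg3) (kg xg5 yg21 zg4) (kg xg4 yg18 zg42) (kg xg6 yg7 zg26) (kg xg5 yg21 zg7) (kg xg6 yg26 zg27) (kg xg5 yg21 zg9) (kg xg5 yg21 zg10) (kg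 xg5 yg23 zg15) (kg xg4 yg19 zg36) (kg xg6 yg8 zg44) (kg xg4 yg19 zg5) (kg xg7 yg1 zg11) (kg xg4 yg19 zg6) (kg xg5 yg23 zg26) (kg xg4 yg19 zg12) (kg xg4 yg19 zg13) (kg xg6 yg9 zg17) (kg xg7 yg1 zg12) (kg xg7 yg1 zg13) (kg xg4 yg19 zg16) (kg xg6 yg9 zg13) (kg xg7 yg1 zg18) (kg xg6 yg9 zg10) (kg xg7 yg1 zg20) (kg xg4 yg19 zg19) (kg xg6 yg23 zg17) (kg xg7 yg1 zg22) (kg xg4 yg19 zg22) (kg xg5 yg21 zg32) (kg xg5 yg22 zg48) (kg xg4 yg19 zg30) (kg xg4 yg19 zg31) (kg xg6 yg8 zg38) (kg xg7 yg1 zg24) (kg xg7 yg1 zg25) (kg xg4 yg19 zg34) (kg xg7 yg1 zg8) (kg xg7 yg1 zg27) (kg xg4 yg19 zg42) (kg xg5 yg21 zg43) (kg xg5 yg21 zg44) (kg xg5 yg21 zg45) (kg xg4 yg20 zg1) (kg xg5 yg21 zg47) (kg xg5 yg21 zg48) (kg xg5 yg21 zg49) (kg xg4 yg20 zg3)) (@D3.rec (fun _ => Pt) (kg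 xg5 yg22 zg0) (kg xg5 yg22 zg1) (kg xg5 yg22 zg2) (kg xg5 yg15 zg10) (kg xg5 yg22 zg4) (kg xg5 yg5 zg18) (kg xg4 yg21 zg0) (kg xg7 yg1 zg33) (kg xg4 yg21 zg21) (kg xg5 yg16 zg9) (kg xg4 yg21 zg25) (kg xg5 yg16 zg0) (kg xg4 yg21 zg30) (kg xg4 yg21 zg31) (kg xg5 yg15 zg48) (kg xg4 yg21 zg11) (kg xg7 yg1 zg43) (kg xg4 yg21 zg15) (kg xg5 yg6 zg23) (kg xg7 yg1 zg44) (kg xg5 yg6 zg6) (kg xg4 yg21 zg18) (kg xg5 yg15 zg35) (kg xg5 yg16 zg23) (kg xg7 yg1 zg34) (kg xg7 yg1 zg35) (kg xg5 yg17 zg13) (kg xg4 yg21 zg24) (kg xg7 yg2 zg4) (kg xg5 yg17 zg3) (kg xg4 yg21 zg29) (kg xg7 yg2 zg6) (kg xg7 yg2 zg7) (kg xg7 yg1 zg39) (kg xg7 yg1 zg40) (kg xg4 yg21 zg33) (kg xg7 yg2 zg13) (kg xg7 yg2 zg14) (kg xg5 yg22 zg38) (kg xg4 yg21 zg36) (kg xg5 yg22 zg40) (kg xg5 yg22 zg41)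 (kg xg4 yg21 zg40) (kg xg4 yg21 zg41) (kg xg7 yg2 zg22) (kg xg7 yg2 zg23) (kg xg5 yg22 zg46) (kg xg4 yg22 zg4) (kg xg5 yg21 zg33) (kg xg5 yg4 zg29) (kg xg4 yg22 zg7)) (@D3.rec (fun _ => Pt) (kg xg4 yg21 zg46) (kg xg5 yg23 zg1) (kg xg4 yg22 zg10) (kg xg4 yg22 zg12) (kg xg5 yg4 zg26) (kg xg4 yg22 zg14) (kg xg7 yg2 zg27) (kg xg7 yg2 zg33) (kg xg7 yg2 zg29) (kg xg4 yg22 zg5) (kg xg7 yg2 zg35) (kg xg4 yg22 zg6) (kg xg5 yg4 zg40) (kg xg5 yg4 zg23) (kg xg4 yg22 zg29) (kg xg5 yg21 zg11) (kg xg7 yg2 zg39) (kg xg7 yg2 zg40) (kg xg4 yg22 zg13) (kg xg5 yg4 zg25) (kg xg4 yg22 zg16) (kg xg5 yg4 zg28) (kg xg7 yg2 zg43) (kg xg7 yg2 zg44) (kg xg4 yg22 zg22) (kg xg7 yg2 zg47) (kg xg5 yg21 zg17) (kg xg4 yg22 zg25) (kg xg7 yg2 zg50) (kg xg5 yg5 zg0) (kg xg4 yg22 zg27) (kg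 xg5 yg5 zg16) (kg xg7 yg3 zg2) (kg xg4 yg22 zg30) (kg xg7 yg3 zg4) (kg xg4 yg22 zg32) (kg xg4 yg22 zg33) (kg xg7 yg3 zg8) (kg xg5 yg4 zg46) (kg xg4 yg22 zg35) (kg xg5 yg5 zg11) (kg xg5 yg4 zg50) (kg xg4 yg22 zg38) (kg xg5 yg6 zg19) (kg xg5 yg5 zg12) (kg xg7 yg3 zg13) (kg xg5 yg23 zg46) (kg xg7 yg3 zg17) (kg xg4 yg22 zg43) (kg xg7 yg3 zg20) (kg xg5 yg23 zg50)) (@D3.rec (fun _ => Pt) (kg xg4 yg23 zg22) (kg xg4 yg22 zg46) (kg xg7 yg3 zg24) (kg xg4 yg23 zg25) (kg xg4 yg22 zg48) (kg xg7 yg3 zg28) (kg xg5 yg24 zg6) (kg xg7 yg3 zg32) (kg xg5 yg24 zg8) (kg xg7 yg3 zg36) (kg xg4 yg23 zg1) (kg xg5 yg15 zg19) (kg xg5 yg24 zg12) (kg xg7 yg3 zg40) (kg xg4 yg23 zg4) (kg xg7 yg3 zg43) (kg xg5 yg24 zg16) (kg xg5 yg24 zg17) (kg xg4 yg23 zg6) (kg xg7 yg3 zg50) (kg xg4 yg23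 zg43) (kg xg4 yg23 zg8) (kg xg7 yg4 zg2) (kg xg5 yg5 zg50) (kg xg4 yg23 zg47) (kg xg4 yg23 zg12) (kg xg5 yg5 zg28) (kg xg7 yg4 zg3) (kg xg4 yg24 zg0) (kg xg4 yg23 zg15) (kg xg7 yg4 zg7) (kg xg4 yg23 zg16) (kg xg7 yg4 zg10) (kg xg4 yg24 zg5) (kg xg4 yg24 zg6) (kg xg4 yg23 zg18) (kg xg7 yg4 zg16) (kg xg7 yg3 zg19) (kg xg4 yg23 zg20) (kg xg7 yg4 zg20) (kg xg5 yg6 zg18) (kg xg7 yg3 zg23) (kg xg4 yg23 zg24) (kg xg7 yg4 zg24) (kg xg7 yg4 zg25) (kg xg7 yg3 zg27) (kg xg4 yg23 zg27) (kg xg7 yg4 zg30) (kg xg4 yg24 zg20) (kg xg7 yg4 zg35) (kg xg4 yg23 zg29)) (@D3.rec (fun _ => Pt) (kg xg7 yg4 zg38) (kg xg4 yg24 zg24) (kg xg4 yg24 zg25) (kg xg4 yg23 zg31) (kg xg7 yg4 zg45) (kg xg5 yg16 zg6) (kg xg4 yg23 zg33) (kg xg7 yg4 zg48) (kg xg7 yg4 zg49) (kg xg4 yg23 zg36)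 (kg xg7 yg5 zg2) (kg xg7 yg3 zg42) (kg xg4 yg23 zg38) (kg xg7 yg5 zg6) (kg xg7 yg5 zg7) (kg xg4 yg24 zg38) (kg xg4 yg24 zg39) (kg xg5 yg6 zg46) (kg xg7 yg3 zg49) (kg xg4 yg23 zg42) (kg xg7 yg5 zg16) (kg xg7 yg5 zg17) (kg xg5 yg15 zg46) (kg xg4 yg23 zg45) (kg xg7 yg5 zg21) (kg xg5 yg7 zg3) (kg xg5 yg6 zg21) (kg xg4 yg23 zg49) (kg xg4 yg23 zg50) (kg xg5 yg10 zg21) (kg xg7 yg5 zg26) (kg xg7 yg4 zg5) (kg xg7 yg5 zg30) (kg xg4 yg24 zg2) (kg xg7 yg5 zg34) (kg xg5 yg25 zg35) (kg xg4 yg24 zg4) (kg xg7 yg5 zg38) (kg xg7 yg5 zg39) (kg xg7 yg4 zg13) (kg xg5 yg7 zg21) (kg xg5 yg25 zg41) (kg xg4 yg24 zg8) (kg xg7 yg5 zg46) (kg xg7 yg5 zg47) (kg xg5 yg25 zg45) (kg xg4 yg24 zg11) (kg xg7 yg6 zg0) (kg xg5 yg7 zg29) (kg xg5 yg25 zg49) (kg xg4 yg24 zg15)) (@D3.rec (fun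 _ => Pt) (kg xg4 yg24 zg16) (kg xg7 yg6 zg6) (kg xg7 yg6 zg7) (kg xg5 yg26 zg3) (kg xg7 yg6 zg12) (kg xg4 yg24 zg19) (kg xg7 yg6 zg15) (kg xg7 yg4 zg32) (kg xg7 yg4 zg33) (kg xg7 yg6 zg20) (kg xg4 yg24 zg21) (kg xg7 yg6 zg24) (kg xg5 yg26 zg12) (kg xg4 yg24 zg23) (kg xg7 yg6 zg28) (kg xg7 yg6 zg29) (kg xg7 yg4 zg41) (kg xg7 yg4 zg42) (kg xg5 yg7 zg48) (kg xg5 yg26 zg19) (kg xg4 yg24 zg27) (kg xg7 yg6 zg38) (kg xg7 yg6 zg39) (kg xg5 yg26 zg23) (kg xg4 yg24 zg30) (kg xg4 yg24 zg31) (kg xg7 yg6 zg45) (kg xg5 yg8 zg6) (kg xg5 yg26 zg28) (kg xg4 yg24 zg33) (kg xg7 yg7 zg0) (kg xg7 yg7 zg1) (kg xg5 yg26 zg32) (kg xg4 yg24 zg36) (kg xg4 yg24 zg37) (kg xg7 yg7 zg7) (kg xg7 yg7 zg8) (kg xg7 yg7 zg12) (kg xg7 yg5 zg11) (kg xg7 yg5 zg12) (kg xg7 yg7 zg15) (kg xg5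 yg8 zg19) (kg xg5 yg26 zg42) (kg xg4 yg24 zg43) (kg xg4 yg24 zg44) (kg xg7 yg7 zg21) (kg xg7 yg7 zg22) (kg xg5 yg26 zg47) (kg xg4 yg24 zg47) (kg xg7 yg7 zg26) (kg xg5 yg8 zg28))
def f_g_6 : D2 → D3 → Pt := @D2.rec (fun _ => D3 → Pt) (@D3.rec (fun _ => Pt) (kg xg5 yg8 zg29) (kg xg6 yg0 zg1) (kg xg6 yg0 zg2) (kg xg4 yg25 zg1) (kg xg4 yg25 zg2) (kg xg7 yg7 zg34) (kg xg7 yg7 zg35) (kg xg7 yg7 zg36) (kg xg6 yg0 zg8) (kg xg7 yg7 zg44) (kg xg6 yg0 zg10) (kg xg4 yg25 zg5) (kg xg7 yg7 zg43) (kg xg6 yg0 zg13) (kg xg7 yg7 zg41) (kg xg4 yg25 zg7) (kg xg7 yg8 zg2) (kg xg6 yg0 zg17) (kg xg4 yg26 zg15) (kg xg4 yg25 zg10) (kg xg7 yg8 zg5) (kg xg4 yg26 zg18) (kg xg4 yg25 zg12) (kg xg7 yg8 zg9) (kg xg6 yg0 zg24) (kg xg7 yg8 zg13) (kg xg6 yg0 zg26) (kg xg7 yg8 zg17) (kg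 xg4 yg25 zg16) (kg xg7 yg8 zg20) (kg xg6 yg0 zg30) (kg xg4 yg26 zg28) (kg xg7 yg8 zg23) (kg xg4 yg25 zg19) (kg xg7 yg8 zg26) (kg xg6 yg0 zg35) (kg xg6 yg0 zg36) (kg xg4 yg25 zg21) (kg xg7 yg8 zg33) (kg xg4 yg26 zg36) (kg xg4 yg25 zg23) (kg xg7 yg8 zg37) (kg xg5 yg9 zg4) (kg xg4 yg26 zg40) (kg xg4 yg25 zg27) (kg xg7 yg8 zg41) (kg xg7 yg8 zg42) (kg xg4 yg26 zg44) (kg xg4 yg25 zg30) (kg xg7 yg8 zg47) (kg xg6 yg0 zg50)) (@D3.rec (fun _ => Pt) (kg xg7 yg9 zg0) (kg xg4 yg25 zg32) (kg xg7 yg9 zg3) (kg xg6 yg1 zg3) (kg xg6 yg1 zg4) (kg xg4 yg25 zg34) (kg xg7 yg9 zg9) (kg xg5 yg0 zg4) (kg xg4 yg25 zg36) (kg xg7 yg9 zg13) (kg xg7 yg9 zg14) (kg xg4 yg25 zg39) (kg xg7 yg9 zg18) (kg xg5 yg0 zg10) (kg xg4 yg25 zg41) (kg xg7 yg9 zg22) (kg xg7 yg9 zg23) (kg xg6 yg1 zg17)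 (kg xg6 yg1 zg18) (kg xg5 yg9 zg30) (kg xg5 yg0 zg17) (kg xg4 yg25 zg45) (kg xg7 yg9 zg32) (kg xg7 yg9 zg33) (kg xg5 yg0 zg21) (kg xg4 yg25 zg48) (kg xg7 yg9 zg37) (kg xg5 yg9 zg38) (kg xg5 yg0 zg25) (kg xg4 yg26 zg1) (kg xg4 yg26 zg2) (kg xg5 yg9 zg7) (kg xg7 yg9 zg40) (kg xg5 yg0 zg30) (kg xg5 yg0 zg31) (kg xg7 yg9 zg45) (kg xg5 yg0 zg33) (kg xg7 yg9 zg49) (kg xg4 yg26 zg6) (kg xg7 yg10 zg1) (kg xg5 yg0 zg36) (kg xg7 yg7 zg47) (kg xg7 yg10 zg0) (kg xg4 yg26 zg9) (kg xg7 yg10 zg4) (kg xg5 yg0 zg41) (kg xg5 yg0 zg42) (kg xg4 yg26 zg11) (kg xg7 yg10 zg10) (kg xg7 yg8 zg1) (kg xg4 yg26 zg13)) (@D3.rec (fun _ => Pt) (kg xg7 yg10 zg14) (kg xg6 yg2 zg1) (kg xg7 yg8 zg4) (kg xg4 yg26 zg17) (kg xg7 yg10 zg18) (kg xg7 yg10 zg19) (kg xg7 yg8 zg8) (kg xg4 yg26 zg20)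 (kg xg7 yg10 zg24) (kg xg5 yg1 zg5) (kg xg7 yg10 zg28) (kg xg4 yg26 zg22) (kg xg7 yg10 zg31) (kg xg5 yg1 zg9) (kg xg5 yg1 zg10) (kg xg4 yg26 zg24) (kg xg7 yg10 zg37) (kg xg7 yg8 zg19) (kg xg4 yg26 zg26) (kg xg7 yg10 zg41) (kg xg7 yg10 zg42) (kg xg4 yg26 zg29) (kg xg7 yg10 zg46) (kg xg7 yg8 zg25) (kg xg4 yg26 zg31) (kg xg7 yg10 zg50) (kg xg7 yg11 zg0) (kg xg5 yg1 zg23) (kg xg5 yg1 zg24) (kg xg5 yg10 zg12) (kg xg7 yg8 zg32) (kg xg4 yg26 zg35) (kg xg7 yg11 zg9) (kg xg7 yg11 zg10) (kg xg7 yg8 zg36) (kg xg4 yg26 zg38) (kg xg7 yg11 zg14) (kg xg5 yg10 zg20) (kg xg7 yg8 zg40) (kg xg4 yg26 zg42) (kg xg4 yg26 zg43) (kg xg7 yg11 zg20) (kg xg7 yg11 zg21) (kg xg7 yg8 zg45) (kg xg7 yg11 zg26) (kg xg4 yg26 zg46) (kg xg7 yg11 zg29) (kg xg5 yg1 zg43) (kg xg7 yg11 zg31)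 (kg xg4 yg26 zg48) (kg xg7 yg11 zg35)) (@D3.rec (fun _ => Pt) (kg xg7 yg9 zg2) (kg xg4 yg26 zg50) (kg xg7 yg11 zg39) (kg xg7 yg11 zg40) (kg xg5 yg2 zg0) (kg xg5 yg10 zg35) (kg xg7 yg9 zg8) (kg xg5 yg0 zg3) (kg xg7 yg11 zg47) (kg xg7 yg11 zg48) (kg xg7 yg9 zg12) (kg xg5 yg0 zg6) (kg xg5 yg0 zg7) (kg xg7 yg12 zg3) (kg xg5 yg10 zg44) (kg xg7 yg9 zg17) (kg xg5 yg0 zg9) (kg xg7 yg12 zg9) (kg xg7 yg12 zg10) (kg xg7 yg9 zg21) (kg xg5 yg0 zg12) (kg xg5 yg0 zg13) (kg xg7 yg12 zg16) (kg xg7 yg12 zg17) (kg xg7 yg12 zg21) (kg xg5 yg2 zg21) (kg xg5 yg2 zg22) (kg xg7 yg12 zg24) (kg xg5 yg11 zg6) (kg xg7 yg9 zg31) (kg xg5 yg0 zg19) (kg xg5 yg0 zg20) (kg xg7 yg12 zg30) (kg xg7 yg12 zg31) (kg xg7 yg9 zg36) (kg xg5 yg0 zg23) (kg xg7 yg12 zg35) (kg xg5 yg11 zg15) (kg xg5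 yg11 zg16) (kg xg5 yg10 zg24) (kg xg7 yg9 zg39) (kg xg5 yg0 zg28) (kg xg5 yg0 zg29) (kg xg7 yg12 zg42) (kg xg7 yg12 zg43) (kg xg7 yg12 zg44) (kg xg7 yg10 zg15) (kg xg7 yg9 zg44) (kg xg5 yg0 zg32) (kg xg7 yg13 zg0) (kg xg7 yg9 zg47)) (@D3.rec (fun _ => Pt) (kg xg7 yg9 zg48) (kg xg6 yg4 zg1) (kg xg5 yg0 zg35) (kg xg7 yg13 zg5) (kg xg5 yg0 zg38) (kg xg7 yg13 zg6) (kg xg6 yg4 zg6) (kg xg5 yg0 zg40) (kg xg7 yg13 zg10) (kg xg7 yg13 zg11) (kg xg7 yg10 zg7) (kg xg7 yg10 zg8) (kg xg6 yg4 zg12) (kg xg6 yg4 zg13) (kg xg5 yg0 zg44) (kg xg7 yg13 zg19) (kg xg6 yg4 zg16) (kg xg5 yg0 zg47) (kg xg5 yg20 zg44) (kg xg6 yg4 zg19) (kg xg6 yg4 zg20) (kg xg5 yg1 zg0) (kg xg5 yg1 zg1) (kg xg7 yg13 zg26) (kg xg7 yg13 zg27) (kg xg6 yg4 zg25) (kg xg7 yg13 zg30) (kg xg5 yg1 zg4)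 (kg xg7 yg13 zg33) (kg xg7 yg10 zg26) (kg xg5 yg1 zg6) (kg xg7 yg13 zg37) (kg xg6 yg4 zg32) (kg xg5 yg1 zg8) (kg xg7 yg13 zg41) (kg xg7 yg13 zg42) (kg xg7 yg10 zg34) (kg xg5 yg11 zg31) (kg xg6 yg4 zg38) (kg xg5 yg1 zg12) (kg xg7 yg13 zg49) (kg xg6 yg4 zg41) (kg xg5 yg1 zg15) (kg xg5 yg1 zg16) (kg xg7 yg14 zg2) (kg xg5 yg11 zg39) (kg xg6 yg4 zg46) (kg xg5 yg1 zg18) (kg xg7 yg14 zg8) (kg xg7 yg14 zg9) (kg xg6 yg4 zg50)) (@D3.rec (fun _ => Pt) (kg xg5 yg1 zg21) (kg xg5 yg1 zg22) (kg xg7 yg14 zg15) (kg xg7 yg14 zg16) (kg xg7 yg14 zg20) (kg xg7 yg11 zg4) (kg xg7 yg11 zg5) (kg xg7 yg14 zg23) (kg xg5 yg11 zg50) (kg xg6 yg5 zg9) (kg xg5 yg1 zg28) (kg xg5 yg1 zg29) (kg xg7 yg14 zg29) (kg xg7 yg14 zg30) (kg xg6 yg5 zg14) (kg xg5 yg1 zg32) (kg xg7 yg14 zg33) (kg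 xg5 yg12 zg8) (kg xg5 yg12 zg9) (kg xg6 yg5 zg19) (kg xg6 yg5 zg20) (kg xg5 yg1 zg37) (kg xg5 yg1 zg38) (kg xg7 yg14 zg41) (kg xg7 yg14 zg42) (kg xg7 yg14 zg43) (kg xg7 yg14 zg47) (kg xg5 yg1 zg40) (kg xg7 yg15 zg0) (kg xg6 yg5 zg29) (kg xg5 yg1 zg42) (kg xg7 yg15 zg4) (kg xg5 yg1 zg44) (kg xg7 yg15 zg7) (kg xg5 yg12 zg22) (kg xg6 yg5 zg35) (kg xg5 yg1 zg46) (kg xg7 yg15 zg13) (kg xg7 yg15 zg14) (kg xg6 yg5 zg39) (kg xg5 yg1 zg49) (kg xg5 yg1 zg50) (kg xg7 yg15 zg20) (kg xg7 yg15 zg21) (kg xg7 yg11 zg43) (kg xg7 yg15 zg24) (kg xg5 yg12 zg30) (kg xg6 yg5 zg47) (kg xg5 yg2 zg4) (kg xg5 yg2 zg5) (kg xg7 yg15 zg30)) (@D3.rec (fun _ => Pt) (kg xg7 yg15 zg31) (kg xg6 yg6 zg1) (kg xg5 yg12 zg37) (kg xg6 yg6 zg3) (kg xg5 yg2 zg9) (kg xg7 yg15 zg38) (kg xg7 yg15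 zg39) (kg xg7 yg15 zg43) (kg xg5 yg12 zg43) (kg xg6 yg6 zg9) (kg xg5 yg2 zg13) (kg xg5 yg2 zg14) (kg xg7 yg15 zg49) (kg xg7 yg15 zg50) (kg xg7 yg16 zg0) (kg xg6 yg6 zg15) (kg xg6 yg6 zg16) (kg xg5 yg2 zg18) (kg xg5 yg2 zg19) (kg xg7 yg16 zg12) (kg xg7 yg16 zg10) (kg xg7 yg16 zg11) (kg xg5 yg2 zg20) (kg xg7 yg16 zg16) (kg xg7 yg12 zg23) (kg xg5 yg2 zg23) (kg xg7 yg16 zg18) (kg xg5 yg13 zg9) (kg xg5 yg13 zg10) (kg xg6 yg6 zg29) (kg xg6 yg6 zg30) (kg xg5 yg2 zg28) (kg xg5 yg2 zg29) (kg xg7 yg16 zg26) (kg xg7 yg16 zg27) (kg xg7 yg16 zg28) (kg xg5 yg2 zg32) (kg xg7 yg16 zg32) (kg xg7 yg16 zg33) (kg xg5 yg13 zg21) (kg xg5 yg13 zg22) (kg xg5 yg13 zg23) (kg xg6 yg6 zg42) (kg xg6 yg6 zg43) (kg xg5 yg2 zg39) (kg xg5 yg2 zg40) (kg xg5 yg2 zg41) (kg xg7 yg16 zg45)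 (kg xg7 yg16 zg46) (kg xg7 yg16 zg47) (kg xg6 yg6 zg50)) (@D3.rec (fun _ => Pt) (kg xg6 yg7 zg0) (kg xg5 yg2 zg50) (kg xg5 yg21 zg2) (kg xg7 yg17 zg1) (kg xg5 yg13 zg33) (kg xg6 yg7 zg5) (kg xg5 yg3 zg3) (kg xg7 yg17 zg6) (kg xg7 yg17 zg7) (kg xg5 yg3 zg6) (kg xg7 yg17 zg8) (kg xg5 yg13 zg40) (kg xg6 yg7 zg12) (kg xg5 yg3 zg10) (kg xg7 yg17 zg13) (kg xg5 yg3 zg12) (kg xg7 yg17 zg14) (kg xg7 yg17 zg15) (kg xg5 yg13 zg47) (kg xg5 yg13 zg48) (kg xg5 yg13 zg49) (kg xg6 yg7 zg21) (kg xg6 yg7 zg22) (kg xg5 yg3 zg19) (kg xg5 yg3 zg20) (kg xg5 yg3 zg21) (kg xg5 yg21 zg6) (kg xg7 yg17 zg22) (kg xg7 yg17 zg23) (kg xg5 yg14 zg7) (kg xg6 yg7 zg30) (kg xg5 yg3 zg23) (kg xg7 yg17 zg31) (kg xg7 yg17 zg32) (kg xg5 yg3 zg26) (kg xg7 yg17 zg33) (kg xg5 yg14 zg14) (kg xg6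 yg7 zg37) (kg xg5 yg3 zg30) (kg xg7 yg17 zg38) (kg xg5 yg14 zg18) (kg xg7 yg17 zg42) (kg xg5 yg14 zg20) (kg xg6 yg7 zg43) (kg xg5 yg3 zg34) (kg xg5 yg3 zg35) (kg xg7 yg17 zg48) (kg xg7 yg17 zg49) (kg xg5 yg3 zg36) (kg xg7 yg18 zg1) (kg xg5 yg14 zg28)) (@D3.rec (fun _ => Pt) (kg xg6 yg8 zg0) (kg xg5 yg3 zg40) (kg xg7 yg18 zg6) (kg xg5 yg3 zg42) (kg xg7 yg18 zg8) (kg xg7 yg18 zg9) (kg xg5 yg14 zg35) (kg xg5 yg14 zg36) (kg xg5 yg14 zg37) (kg xg6 yg8 zg9) (kg xg6 yg8 zg10) (kg xg5 yg3 zg49) (kg xg5 yg3 zg50) (kg xg5 yg4 zg0) (kg xg7 yg18 zg21) (kg xg7 yg18 zg22) (kg xg7 yg18 zg23) (kg xg5 yg4 zg2) (kg xg5 yg4 zg3) (kg xg7 yg18 zg27) (kg xg7 yg18 zg28) (kg xg7 yg18 zg29) (kg xg5 yg15 zg0) (kg xg5 yg14 zg50) (kg xg5 yg14 zg49) (kg xg5 yg14 zg48) (kg xg5 yg15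 zg1) (kg xg6 yg8 zg27) (kg xg6 yg8 zg28) (kg xg6 yg8 zg29) (kg xg5 yg4 zg12) (kg xg5 yg4 zg13) (kg xg5 yg4 zg14) (kg xg7 yg18 zg40) (kg xg7 yg18 zg41) (kg xg7 yg18 zg42) (kg xg5 yg4 zg24) (kg xg5 yg4 zg36) (kg xg5 yg21 zg36) (kg xg5 yg4 zg30) (kg xg7 yg2 zg30) (kg xg7 yg2 zg41) (kg xg7 yg2 zg28) (kg xg7 yg18 zg46) (kg xg5 yg21 zg13) (kg xg5 yg4 zg33) (kg xg7 yg18 zg48) (kg xg5 yg4 zg35) (kg xg7 yg2 zg34) (kg xg7 yg2 zg36) (kg xg5 yg4 zg38)) (@D3.rec (fun _ => Pt) (kg xg7 yg3 zg22) (kg xg7 yg19 zg0) (kg xg5 yg4 zg42) (kg xg7 yg3 zg5) (kg xg5 yg4 zg44) (kg xg7 yg3 zg7) (kg xg7 yg2 zg46) (kg xg7 yg2 zg48) (kg xg7 yg2 zg49) (kg xg5 yg5 zg1) (kg xg5 yg21 zg26) (kg xg5 yg5 zg4) (kg xg7 yg3 zg6) (kg xg5 yg21 zg24) (kg xg5 yg5 zg7) (kg xg7 yg19 zg9) (kg xg7 yg19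 zg10) (kg xg5 yg21 zg20) (kg xg5 yg5 zg10) (kg xg7 yg19 zg12) (kg xg7 yg3 zg11) (kg xg7 yg3 zg1) (kg xg5 yg5 zg14) (kg xg5 yg5 zg15) (kg xg7 yg19 zg16) (kg xg7 yg19 zg17) (kg xg7 yg1 zg32) (kg xg7 yg19 zg21) (kg xg5 yg5 zg20) (kg xg7 yg19 zg23) (kg xg6 yg9 zg30) (kg xg5 yg5 zg22) (kg xg7 yg4 zg0) (kg xg5 yg6 zg15) (kg xg5 yg5 zg24) (kg xg7 yg19 zg26) (kg xg7 yg4 zg4) (kg xg5 yg5 zg31) (kg xg5 yg19 zg30) (kg xg6 yg9 zg39) (kg xg7 yg19 zg20) (kg xg5 yg5 zg33) (kg xg7 yg19 zg31) (kg xg6 yg9 zg43) (kg xg6 yg9 zg44) (kg xg5 yg5 zg35) (kg xg7 yg19 zg36) (kg xg5 yg6 zg34) (kg xg5 yg5 zg37) (kg xg7 yg19 zg40) (kg xg5 yg19 zg33)) (@D3.rec (fun _ => Pt) (kg xg5 yg5 zg40) (kg xg7 yg19 zg43) (kg xg5 yg5 zg42) (kg xg5 yg19 zg32) (kg xg7 yg19 zg46) (kg xg6 yg10 zg5)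 (kg xg6 yg10 zg6) (kg xg7 yg3 zg48) (kg xg5 yg6 zg47) (kg xg5 yg5 zg46) (kg xg7 yg20 zg2) (kg xg7 yg20 zg3) (kg xg5 yg7 zg0) (kg xg5 yg5 zg49) (kg xg7 yg3 zg25) (kg xg5 yg7 zg4) (kg xg5 yg6 zg2) (kg xg5 yg6 zg3) (kg xg7 yg8 zg39) (kg xg7 yg20 zg9) (kg xg5 yg7 zg9) (kg xg7 yg1 zg46) (kg xg5 yg6 zg8) (kg xg7 yg20 zg12) (kg xg5 yg6 zg9) (kg xg7 yg20 zg16) (kg xg5 yg18 zg45) (kg xg5 yg6 zg11) (kg xg7 yg20 zg20) (kg xg7 yg4 zg14) (kg xg7 yg3 zg9) (kg xg5 yg6 zg14) (kg xg7 yg5 zg15) (kg xg7 yg20 zg23) (kg xg7 yg1 zg41) (kg xg5 yg6 zg17) (kg xg7 yg19 zg14) (kg xg7 yg4 zg22) (kg xg5 yg6 zg22) (kg xg7 yg5 zg25) (kg xg7 yg1 zg45) (kg xg7 yg20 zg30) (kg xg5 yg6 zg25) (kg xg7 yg20 zg32) (kg xg5 yg7 zg39) (kg xg7 yg20 zg15) (kg xg5 yg6 zg27) (kg xg7 yg20 zg35) (kg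 xg5 yg18 zg40) (kg xg5 yg6 zg29) (kg xg7 yg20 zg39)) (@D3.rec (fun _ => Pt) (kg xg7 yg20 zg40) (kg xg5 yg7 zg47) (kg xg7 yg4 zg43) (kg xg7 yg18 zg50) (kg xg5 yg6 zg33) (kg xg7 yg20 zg46) (kg xg7 yg20 zg47) (kg xg7 yg19 zg39) (kg xg5 yg6 zg36) (kg xg5 yg6 zg37) (kg xg7 yg21 zg0) (kg xg7 yg5 zg0) (kg xg5 yg19 zg46) (kg xg5 yg6 zg39) (kg xg7 yg21 zg6) (kg xg7 yg21 zg7) (kg xg5 yg19 zg44) (kg xg5 yg6 zg42) (kg xg5 yg6 zg43) (kg xg7 yg21 zg12) (kg xg7 yg21 zg13) (kg xg7 yg21 zg16) (kg xg5 yg8 zg17) (kg xg7 yg21 zg18) (kg xg7 yg5 zg14) (kg xg7 yg20 zg1) (kg xg5 yg6 zg49) (kg xg5 yg6 zg50) (kg xg7 yg21 zg24) (kg xg7 yg21 zg25) (kg xg7 yg20 zg6) (kg xg5 yg7 zg2) (kg xg7 yg21 zg29) (kg xg7 yg5 zg23) (kg xg7 yg5 zg24) (kg xg7 yg20 zg8) (kg xg7 yg5 zg29) (kg xg5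 yg7 zg7) (kg xg5 yg7 zg8) (kg xg7 yg21 zg37) (kg xg7 yg21 zg38) (kg xg7 yg21 zg39) (kg xg5 yg7 zg11) (kg xg5 yg7 zg12) (kg xg7 yg21 zg43) (kg xg7 yg21 zg44) (kg xg6 yg11 zg46) (kg xg5 yg7 zg15) (kg xg7 yg21 zg50) (kg xg7 yg5 zg32) (kg xg6 yg11 zg50)) (@D3.rec (fun _ => Pt) (kg xg5 yg7 zg17) (kg xg7 yg22 zg5) (kg xg7 yg22 zg6) (kg xg6 yg12 zg3) (kg xg5 yg7 zg20) (kg xg7 yg22 zg10) (kg xg7 yg5 zg44) (kg xg6 yg12 zg7) (kg xg5 yg7 zg24) (kg xg5 yg7 zg25) (kg xg7 yg22 zg16) (kg xg7 yg22 zg17) (kg xg6 yg12 zg12) (kg xg5 yg7 zg28) (kg xg7 yg21 zg33) (kg xg7 yg6 zg2) (kg xg7 yg6 zg3) (kg xg6 yg12 zg17) (kg xg6 yg12 zg18) (kg xg5 yg7 zg33) (kg xg5 yg7 zg34) (kg xg7 yg22 zg26) (kg xg7 yg22 zg27) (kg xg7 yg22 zg28) (kg xg7 yg22 zg32) (kg xg5 yg7 zg36) (kg xg7 yg22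 zg36) (kg xg6 yg12 zg27) (kg xg5 yg7 zg38) (kg xg7 yg22 zg40) (kg xg5 yg7 zg40) (kg xg7 yg22 zg43) (kg xg7 yg6 zg22) (kg xg6 yg12 zg33) (kg xg5 yg7 zg42) (kg xg7 yg22 zg49) (kg xg7 yg22 zg50) (kg xg6 yg12 zg37) (kg xg5 yg7 zg45) (kg xg5 yg7 zg46) (kg xg7 yg23 zg5) (kg xg7 yg23 zg6) (kg xg7 yg23 zg8) (kg xg7 yg6 zg36) (kg xg6 yg12 zg44) (kg xg5 yg8 zg0) (kg xg5 yg8 zg1) (kg xg7 yg23 zg14) (kg xg7 yg23 zg15) (kg xg6 yg12 zg49) (kg xg7 yg6 zg43)) (@D3.rec (fun _ => Pt) (kg xg6 yg13 zg0) (kg xg5 yg8 zg5) (kg xg7 yg23 zg23) (kg xg7 yg23 zg24) (kg xg7 yg23 zg28) (kg xg7 yg6 zg49) (kg xg6 yg13 zg6) (kg xg5 yg8 zg9) (kg xg5 yg8 zg10) (kg xg7 yg23 zg34) (kg xg7 yg23 zg35) (kg xg7 yg23 zg36) (kg xg6 yg13 zg12) (kg xg6 yg13 zg13) (kg xg5 yg8 zg14) (kg xg5 yg8 zg15)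 (kg xg7 yg23 zg47) (kg xg7 yg23 zg46) (kg xg5 yg8 zg16) (kg xg7 yg23 zg50) (kg xg5 yg8 zg18) (kg xg7 yg24 zg0) (kg xg7 yg7 zg17) (kg xg7 yg7 zg18) (kg xg6 yg13 zg24) (kg xg6 yg13 zg25) (kg xg5 yg8 zg23) (kg xg5 yg8 zg24) (kg xg7 yg24 zg8) (kg xg7 yg24 zg9) (kg xg7 yg24 zg10) (kg xg5 yg8 zg27) (kg xg7 yg24 zg14) (kg xg7 yg24 zg15) (kg xg7 yg7 zg29) (kg xg7 yg7 zg30) (kg xg7 yg7 zg31) (kg xg6 yg13 zg37) (kg xg6 yg13 zg38) (kg xg5 yg8 zg34) (kg xg5 yg8 zg35) (kg xg5 yg8 zg36) (kg xg7 yg24 zg27) (kg xg7 yg24 zg28) (kg xg7 yg24 zg29) (kg xg5 yg19 zg31) (kg xg7 yg24 zg35) (kg xg5 yg8 zg38) (kg xg7 yg24 zg37) (kg xg6 yg13 zg49) (kg xg5 yg8 zg40)) (@D3.rec (fun _ => Pt) (kg xg7 yg24 zg41) (kg xg5 yg10 zg1) (kg xg5 yg8 zg42) (kg xg7 yg24 zg45) (kg xg7 yg19 zg27)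 (kg xg5 yg8 zg45) (kg xg7 yg24 zg48) (kg xg5 yg10 zg7) (kg xg5 yg8 zg47) (kg xg7 yg25 zg1) (kg xg7 yg25 zg2) (kg xg6 yg14 zg11) (kg xg7 yg8 zg31) (kg xg5 yg10 zg13) (kg xg5 yg9 zg0) (kg xg7 yg9 zg41) (kg xg7 yg25 zg5) (kg xg5 yg10 zg17) (kg xg5 yg9 zg3) (kg xg5 yg9 zg8) (kg xg7 yg9 zg42) (kg xg5 yg10 zg26) (kg xg7 yg24 zg34) (kg xg5 yg9 zg11) (kg xg7 yg24 zg33) (kg xg5 yg9 zg12) (kg xg7 yg25 zg13) (kg xg5 yg10 zg32) (kg xg5 yg9 zg14) (kg xg7 yg25 zg17) (kg xg7 yg9 zg7) (kg xg5 yg10 zg36) (kg xg5 yg9 zg17) (kg xg7 yg25 zg21) (kg xg7 yg25 zg22) (kg xg5 yg10 zg40) (kg xg5 yg9 zg20) (kg xg5 yg9 zg21) (kg xg7 yg19 zg47) (kg xg7 yg9 zg16) (kg xg5 yg10 zg45) (kg xg5 yg9 zg23) (kg xg7 yg25 zg32) (kg xg7 yg25 zg33) (kg xg5 yg10 zg49) (kg xg5 yg9 zg26) (kg xg5 yg9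 zg27) (kg xg7 yg19 zg41) (kg xg7 yg25 zg38) (kg xg7 yg25 zg41) (kg xg6 yg14 zg50)) (@D3.rec (fun _ => Pt) (kg xg7 yg25 zg43) (kg xg7 yg9 zg30) (kg xg5 yg11 zg7) (kg xg5 yg9 zg33) (kg xg5 yg9 zg34) (kg xg7 yg25 zg49) (kg xg7 yg25 zg50) (kg xg5 yg11 zg12) (kg xg5 yg9 zg37) (kg xg7 yg26 zg3) (kg xg7 yg8 zg43) (kg xg7 yg9 zg38) (kg xg5 yg11 zg17) (kg xg5 yg11 zg18) (kg xg5 yg9 zg42) (kg xg5 yg9 zg43) (kg xg7 yg26 zg9) (kg xg7 yg26 zg10) (kg xg7 yg26 zg11) (kg xg7 yg26 zg15) (kg xg5 yg9 zg45) (kg xg7 yg26 zg16) (kg xg5 yg9 zg46) (kg xg7 yg26 zg20) (kg xg5 yg19 zg40) (kg xg5 yg9 zg48) (kg xg7 yg26 zg24) (kg xg7 yg10 zg35) (kg xg7 yg24 zg40) (kg xg5 yg10 zg0) (kg xg7 yg26 zg28) (kg xg7 yg26 zg29) (kg xg7 yg24 zg44) (kg xg5 yg10 zg3) (kg xg5 yg10 zg4) (kg xg7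 yg26 zg34) (kg xg7 yg10 zg44) (kg xg7 yg20 zg29) (kg xg5 yg10 zg6) (kg xg7 yg26 zg40) (kg xg7 yg26 zg41) (kg xg7 yg25 zg0) (kg xg5 yg10 zg9) (kg xg5 yg10 zg10) (kg xg7 yg26 zg47) (kg xg7 yg26 zg48) (kg xg7 yg26 zg50) (kg xg7 yg11 zg7) (kg xg7 yg5 zg27) (kg xg5 yg10 zg15) (kg xg5 yg10 zg16)) (@D3.rec (fun _ => Pt) (kg xg8 yg0 zg4) (kg xg8 yg0 zg5) (kg xg7 yg25 zg8) (kg xg5 yg10 zg19) (kg xg7 yg21 zg32) (kg xg7 yg11 zg16) (kg xg7 yg11 zg17) (kg xg7 yg5 zg28) (kg xg5 yg10 zg25) (kg xg7 yg12 zg28) (kg xg7 yg12 zg41) (kg xg8 yg0 zg12) (kg xg7 yg26 zg19) (kg xg5 yg10 zg27) (kg xg5 yg19 zg35) (kg xg5 yg10 zg29) (kg xg8 yg0 zg19) (kg xg7 yg11 zg33) (kg xg7 yg25 zg12) (kg xg5 yg10 zg31) (kg xg8 yg0 zg25) (kg xg8 yg0 zg26) (kg xg7 yg25 zg16) (kg xg5 yg10 zg34) (kg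 xg8 yg0 zg30) (kg xg7 yg11 zg45) (kg xg7 yg25 zg20) (kg xg5 yg10 zg38) (kg xg5 yg10 zg39) (kg xg8 yg0 zg36) (kg xg8 yg0 zg37) (kg xg7 yg25 zg25) (kg xg7 yg12 zg1) (kg xg5 yg19 zg0) (kg xg5 yg10 zg43) (kg xg8 yg0 zg44) (kg xg8 yg0 zg45) (kg xg8 yg0 zg49) (kg xg7 yg12 zg7) (kg xg7 yg25 zg31) (kg xg5 yg10 zg47) (kg xg5 yg10 zg48) (kg xg8 yg1 zg4) (kg xg8 yg1 zg5) (kg xg8 yg1 zg6) (kg xg5 yg18 zg49) (kg xg7 yg25 zg37) (kg xg5 yg11 zg1) (kg xg5 yg11 zg2) (kg xg8 yg1 zg16) (kg xg8 yg1 zg15)) (@D3.rec (fun _ => Pt) (kg xg5 yg11 zg3) (kg xg8 yg1 zg19) (kg xg5 yg11 zg5) (kg xg8 yg1 zg20) (kg xg7 yg12 zg26) (kg xg7 yg12 zg27) (kg xg7 yg25 zg47) (kg xg7 yg25 zg48) (kg xg5 yg11 zg10) (kg xg5 yg11 zg11) (kg xg8 yg1 zg28) (kg xg8 yg1 zg29) (kg xg8 yg1 zg30) (kg xg5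 yg11 zg14) (kg xg8 yg1 zg34) (kg xg8 yg1 zg35) (kg xg7 yg12 zg38) (kg xg7 yg12 zg39) (kg xg7 yg12 zg40) (kg xg7 yg26 zg7) (kg xg7 yg26 zg8) (kg xg5 yg11 zg21) (kg xg5 yg11 zg22) (kg xg5 yg11 zg23) (kg xg8 yg1 zg47) (kg xg8 yg1 zg48) (kg xg8 yg1 zg49) (kg xg5 yg11 zg24) (kg xg6 yg17 zg28) (kg xg7 yg13 zg35) (kg xg6 yg17 zg30) (kg xg5 yg11 zg27) (kg xg8 yg2 zg7) (kg xg8 yg2 zg8) (kg xg6 yg17 zg34) (kg xg5 yg11 zg30) (kg xg8 yg2 zg11) (kg xg7 yg13 zg47) (kg xg6 yg17 zg38) (kg xg5 yg11 zg34) (kg xg6 yg17 zg40) (kg xg7 yg14 zg0) (kg xg6 yg17 zg42) (kg xg5 yg11 zg38) (kg xg8 yg2 zg19) (kg xg8 yg2 zg20) (kg xg8 yg2 zg23) (kg xg7 yg14 zg6) (kg xg6 yg17 zg48) (kg xg5 yg11 zg42) (kg xg5 yg11 zg43)) (@D3.rec (fun _ => Pt) (kg xg8 yg2 zg29) (kg xg8 yg2 zg30) (kg xg8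 yg2 zg31) (kg xg6 yg18 zg3) (kg xg6 yg18 zg4) (kg xg5 yg11 zg47) (kg xg5 yg11 zg48) (kg xg8 yg2 zg40) (kg xg5 yg11 zg49) (kg xg8 yg2 zg41) (kg xg7 yg14 zg25) (kg xg7 yg14 zg26) (kg xg6 yg18 zg12) (kg xg6 yg18 zg13) (kg xg5 yg12 zg3) (kg xg5 yg12 zg4) (kg xg8 yg2 zg49) (kg xg8 yg2 zg50) (kg xg5 yg12 zg7) (kg xg8 yg3 zg2) (kg xg8 yg3 zg3) (kg xg7 yg14 zg36) (kg xg7 yg14 zg37) (kg xg7 yg14 zg38) (kg xg6 yg18 zg24) (kg xg6 yg18 zg25) (kg xg5 yg12 zg14) (kg xg5 yg12 zg15) (kg xg5 yg12 zg16) (kg xg8 yg3 zg15) (kg xg8 yg3 zg16) (kg xg8 yg3 zg17) (kg xg5 yg12 zg17) (kg xg8 yg3 zg23) (kg xg7 yg14 zg49) (kg xg6 yg18 zg35) (kg xg7 yg15 zg5) (kg xg6 yg18 zg37) (kg xg5 yg12 zg21) (kg xg8 yg3 zg30) (kg xg8 yg3 zg31) (kg xg8 yg3 zg33) (kg xg7 yg15 zg11) (kg xg6 yg18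 zg43) (kg xg5 yg12 zg25) (kg xg5 yg12 zg26) (kg xg8 yg3 zg39) (kg xg8 yg3 zg40) (kg xg6 yg18 zg48) (kg xg5 yg12 zg29) (kg xg8 yg3 zg44)) (@D3.rec (fun _ => Pt) (kg xg7 yg15 zg26) (kg xg7 yg15 zg27) (kg xg6 yg19 zg2) (kg xg6 yg19 zg3) (kg xg5 yg12 zg34) (kg xg5 yg12 zg35) (kg xg8 yg4 zg1) (kg xg8 yg4 zg2) (kg xg7 yg15 zg34) (kg xg8 yg4 zg7) (kg xg7 yg15 zg36) (kg xg6 yg19 zg11) (kg xg5 yg12 zg40) (kg xg5 yg12 zg41) (kg xg8 yg4 zg13) (kg xg8 yg4 zg14) (kg xg8 yg4 zg15) (kg xg5 yg12 zg42) (kg xg8 yg4 zg22) (kg xg7 yg15 zg45) (kg xg7 yg15 zg46) (kg xg6 yg19 zg21) (kg xg6 yg19 zg22) (kg xg5 yg12 zg47) (kg xg5 yg12 zg48) (kg xg5 yg12 zg49) (kg xg8 yg4 zg31) (kg xg8 yg4 zg32) (kg xg8 yg4 zg33) (kg xg8 yg4 zg43) (kg xg8 yg4 zg35) (kg xg8 yg4 zg36) (kg xg6 yg19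 zg32) (kg xg6 yg19 zg33) (kg xg8 yg4 zg48) (kg xg5 yg13 zg4) (kg xg5 yg13 zg3) (kg xg8 yg5 zg0) (kg xg6 yg19 zg38) (kg xg5 yg13 zg6) (kg xg5 yg13 zg8) (kg xg8 yg5 zg2) (kg xg8 yg5 zg3) (kg xg7 yg16 zg21) (kg xg7 yg16 zg22) (kg xg7 yg16 zg23) (kg xg6 yg19 zg46) (kg xg6 yg19 zg47) (kg xg5 yg13 zg15) (kg xg5 yg13 zg16) (kg xg5 yg13 zg17)) (@D3.rec (fun _ => Pt) (kg xg8 yg5 zg15) (kg xg8 yg5 zg16) (kg xg8 yg5 zg17) (kg xg5 yg13 zg19) (kg xg5 yg13 zg20) (kg xg7 yg18 zg36) (kg xg7 yg18 zg35) (kg xg8 yg5 zg21) (kg xg7 yg16 zg37) (kg xg7 yg16 zg38) (kg xg7 yg16 zg39) (kg xg7 yg16 zg40) (kg xg7 yg16 zg41) (kg xg6 yg20 zg13) (kg xg6 yg20 zg14) (kg xg6 yg20 zg15) (kg xg5 yg13 zg29) (kg xg5 yg13 zg30) (kg xg5 yg13 zg31) (kg xg8 yg5 zg32) (kg xg8 yg5 zg33) (kg xg8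 yg5 zg34) (kg xg5 yg13 zg32) (kg xg7 yg17 zg2) (kg xg8 yg5 zg40) (kg xg7 yg17 zg4) (kg xg6 yg20 zg26) (kg xg5 yg13 zg36) (kg xg5 yg13 zg37) (kg xg5 yg13 zg39) (kg xg8 yg5 zg44) (kg xg7 yg17 zg10) (kg xg7 yg17 zg11) (kg xg6 yg20 zg33) (kg xg5 yg13 zg43) (kg xg8 yg5 zg50) (kg xg5 yg13 zg45) (kg xg5 yg13 zg46) (kg xg8 yg6 zg0) (kg xg8 yg6 zg1) (kg xg8 yg6 zg2) (kg xg7 yg17 zg19) (kg xg7 yg17 zg18) (kg xg7 yg17 zg17) (kg xg7 yg17 zg16) (kg xg7 yg17 zg20) (kg xg6 yg20 zg46) (kg xg6 yg20 zg47) (kg xg6 yg20 zg48) (kg xg5 yg14 zg4) (kg xg5 yg14 zg5)) (@D3.rec (fun _ => Pt) (kg xg5 yg14 zg6) (kg xg8 yg6 zg12) (kg xg8 yg6 zg13) (kg xg8 yg6 zg14) (kg xg7 yg17 zg27) (kg xg8 yg6 zg5) (kg xg7 yg17 zg29) (kg xg6 yg21 zg7) (kg xg5 yg14 zg10) (kg xg5 yg14 zg11) (kg xg5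 yg14 zg13) (kg xg8 yg6 zg22) (kg xg7 yg17 zg35) (kg xg7 yg17 zg36) (kg xg6 yg21 zg14) (kg xg5 yg14 zg17) (kg xg8 yg6 zg28) (kg xg8 yg6 zg4) (kg xg7 yg17 zg41) (kg xg5 yg14 zg19) (kg xg8 yg6 zg32) (kg xg7 yg17 zg44) (kg xg7 yg17 zg45) (kg xg6 yg21 zg23) (kg xg6 yg21 zg24) (kg xg5 yg14 zg24) (kg xg5 yg14 zg25) (kg xg8 yg6 zg40) (kg xg8 yg6 zg41) (kg xg5 yg14 zg27) (kg xg8 yg6 zg44) (kg xg7 yg18 zg3) (kg xg7 yg18 zg4) (kg xg6 yg21 zg33) (kg xg5 yg14 zg31) (kg xg8 yg6 zg50) (kg xg5 yg14 zg33) (kg xg5 yg14 zg34) (kg xg8 yg7 zg0) (kg xg7 yg18 zg34) (kg xg7 yg18 zg33) (kg xg7 yg18 zg13) (kg xg7 yg18 zg14) (kg xg7 yg18 zg15) (kg xg7 yg18 zg16) (kg xg7 yg18 zg17) (kg xg6 yg21 zg46) (kg xg6 yg21 zg47) (kg xg6 yg21 zg48) (kg xg5 yg14 zg43) (kg xg5 yg14 zg44)) (@D3.rec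 (fun _ => Pt) (kg xg5 yg14 zg45) (kg xg8 yg7 zg9) (kg xg8 yg7 zg10) (kg xg8 yg7 zg11) (kg xg7 yg18 zg32) (kg xg6 yg22 zg5) (kg xg5 yg15 zg7) (kg xg5 yg15 zg8) (kg xg5 yg15 zg9) (kg xg8 yg7 zg15) (kg xg8 yg7 zg16) (kg xg5 yg16 zg34) (kg xg7 yg1 zg31) (kg xg5 yg15 zg12) (kg xg5 yg15 zg14) (kg xg5 yg15 zg15) (kg xg7 yg3 zg44) (kg xg8 yg7 zg17) (kg xg5 yg16 zg5) (kg xg5 yg15 zg20) (kg xg7 yg3 zg33) (kg xg7 yg3 zg37) (kg xg7 yg3 zg38) (kg xg5 yg16 zg15) (kg xg5 yg16 zg16) (kg xg5 yg15 zg24) (kg xg5 yg15 zg25) (kg xg8 yg7 zg28) (kg xg8 yg7 zg27) (kg xg5 yg15 zg26) (kg xg8 yg7 zg25) (kg xg6 yg22 zg31) (kg xg6 yg22 zg32) (kg xg5 yg16 zg26) (kg xg5 yg16 zg27) (kg xg5 yg15 zg32) (kg xg5 yg15 zg33) (kg xg8 yg7 zg34) (kg xg8 yg7 zg35) (kg xg8 yg7 zg36) (kg xg7 yg1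 zg47) (kg xg7 yg1 zg48) (kg xg6 yg22 zg42) (kg xg6 yg22 zg43) (kg xg6 yg22 zg44) (kg xg5 yg16 zg39) (kg xg5 yg16 zg40) (kg xg5 yg15 zg42) (kg xg5 yg15 zg43) (kg xg5 yg15 zg44) (kg xg8 yg8 zg0)) (@D3.rec (fun _ => Pt) (kg xg8 yg8 zg1) (kg xg8 yg8 zg2) (kg xg5 yg15 zg47) (kg xg7 yg5 zg5) (kg xg7 yg5 zg20) (kg xg7 yg1 zg42) (kg xg6 yg23 zg6) (kg xg6 yg23 zg7) (kg xg7 yg1 zg37) (kg xg7 yg1 zg38) (kg xg5 yg16 zg3) (kg xg5 yg16 zg4) (kg xg7 yg12 zg14) (kg xg8 yg8 zg11) (kg xg8 yg8 zg12) (kg xg7 yg4 zg37) (kg xg7 yg4 zg44) (kg xg5 yg21 zg29) (kg xg6 yg23 zg18) (kg xg7 yg1 zg36) (kg xg5 yg16 zg12) (kg xg5 yg16 zg13) (kg xg5 yg16 zg14) (kg xg8 yg8 zg21) (kg xg8 yg8 zg22) (kg xg8 yg8 zg23) (kg xg8 yg8 zg33) (kg xg8 yg8 zg25) (kg xg8 yg8 zg26) (kg xg7 yg4 zg46) (kg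 xg8 yg7 zg26) (kg xg8 yg8 zg38) (kg xg5 yg16 zg20) (kg xg5 yg16 zg19) (kg xg8 yg8 zg41) (kg xg8 yg7 zg30) (kg xg5 yg16 zg22) (kg xg7 yg1 zg49) (kg xg7 yg1 zg50) (kg xg6 yg23 zg39) (kg xg6 yg23 zg40) (kg xg6 yg23 zg41) (kg xg7 yg4 zg39) (kg xg8 yg7 zg33) (kg xg5 yg16 zg30) (kg xg5 yg16 zg31) (kg xg5 yg16 zg32) (kg xg8 yg9 zg0) (kg xg8 yg9 zg1) (kg xg8 yg9 zg2) (kg xg5 yg16 zg35)) (@D3.rec (fun _ => Pt) (kg xg8 yg6 zg17) (kg xg8 yg5 zg37) (kg xg6 yg24 zg2) (kg xg6 yg24 zg3) (kg xg6 yg24 zg4) (kg xg6 yg24 zg5) (kg xg6 yg24 zg6) (kg xg8 yg7 zg48) (kg xg8 yg7 zg49) (kg xg8 yg7 zg50) (kg xg5 yg16 zg44) (kg xg5 yg16 zg45) (kg xg5 yg16 zg46) (kg xg8 yg9 zg18) (kg xg8 yg9 zg19) (kg xg8 yg9 zg20) (kg xg6 yg24 zg16) (kg xg6 yg24 zg17) (kg xg6 yg24 zg18) (kg xg6 yg24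 zg19) (kg xg5 yg17 zg0) (kg xg5 yg17 zg1) (kg xg8 yg9 zg28) (kg xg8 yg9 zg29) (kg xg8 yg9 zg30) (kg xg5 yg18 zg30) (kg xg7 yg2 zg5) (kg xg6 yg24 zg27) (kg xg6 yg24 zg28) (kg xg6 yg24 zg29) (kg xg6 yg24 zg30) (kg xg6 yg24 zg31) (kg xg5 yg17 zg10) (kg xg5 yg17 zg11) (kg xg5 yg17 zg12) (kg xg8 yg9 zg44) (kg xg8 yg9 zg45) (kg xg8 yg9 zg46) (kg xg7 yg2 zg2) (kg xg7 yg2 zg3) (kg xg6 yg24 zg40) (kg xg6 yg24 zg41) (kg xg6 yg24 zg42) (kg xg6 yg24 zg43) (kg xg6 yg24 zg44) (kg xg6 yg24 zg45) (kg xg5 yg17 zg21) (kg xg5 yg17 zg22) (kg xg5 yg17 zg23) (kg xg8 yg10 zg19) (kg xg5 yg17 zg25)) (@D3.rec (fun _ => Pt) (kg xg5 yg17 zg26) (kg xg8 yg10 zg13) (kg xg8 yg10 zg14) (kg xg8 yg10 zg15) (kg xg8 yg10 zg27) (kg xg8 yg10 zg17) (kg xg8 yg10 zg18) (kg xg5 yg17 zg24) (kg xg8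 yg10 zg32) (kg xg8 yg10 zg21) (kg xg8 yg10 zg34) (kg xg6 yg25 zg11) (kg xg5 yg17 zg29) (kg xg8 yg10 zg37) (kg xg6 yg25 zg14) (kg xg5 yg17 zg32) (kg xg6 yg25 zg16) (kg xg5 yg17 zg37) (kg xg5 yg18 zg28) (kg xg5 yg18 zg8) (kg xg6 yg25 zg20) (kg xg6 yg25 zg21) (kg xg6 yg25 zg22) (kg xg6 yg25 zg23) (kg xg6 yg25 zg24) (kg xg6 yg25 zg25) (kg xg6 yg25 zg26) (kg xg6 yg25 zg27) (kg xg5 yg17 zg46) (kg xg5 yg17 zg47) (kg xg5 yg17 zg48) (kg xg8 yg10 zg46) (kg xg8 yg10 zg39) (kg xg8 yg10 zg47) (kg xg6 yg25 zg34) (kg xg6 yg25 zg35) (kg xg5 yg18 zg7) (kg xg8 yg9 zg35) (kg xg5 yg18 zg27) (kg xg6 yg25 zg39) (kg xg6 yg25 zg40) (kg xg6 yg25 zg41) (kg xg6 yg25 zg42) (kg xg6 yg25 zg43) (kg xg5 yg18 zg18) (kg xg5 yg18 zg19) (kg xg5 yg18 zg20) (kg xg8 yg11 zg0) (kg xg8 yg11 zg5)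 (kg xg8 yg11 zg6) (kg xg6 yg25 zg50)) (@D3.rec (fun _ => Pt) (kg xg5 yg18 zg29) (kg xg8 yg9 zg34) (kg xg8 yg9 zg50) (kg xg8 yg11 zg11) (kg xg6 yg26 zg4) (kg xg8 yg11 zg13) (kg xg7 yg20 zg38) (kg xg7 yg20 zg19) (kg xg8 yg1 zg13) (kg xg8 yg11 zg16) (kg xg5 yg19 zg1) (kg xg6 yg26 zg11) (kg xg6 yg26 zg12) (kg xg5 yg19 zg3) (kg xg8 yg11 zg20) (kg xg5 yg20 zg34) (kg xg5 yg19 zg6) (kg xg8 yg11 zg21) (kg xg5 yg19 zg10) (kg xg8 yg11 zg23) (kg xg8 yg11 zg24) (kg xg5 yg19 zg12) (kg xg6 yg26 zg22) (kg xg6 yg26 zg23) (kg xg6 yg26 zg24) (kg xg5 yg19 zg18) (kg xg5 yg19 zg19) (kg xg5 yg21 zg8) (kg xg8 yg11 zg29) (kg xg8 yg11 zg30) (kg xg5 yg19 zg22) (kg xg6 yg26 zg31) (kg xg8 yg11 zg33) (kg xg5 yg19 zg25) (kg xg6 yg26 zg34) (kg xg7 yg19 zg28) (kg xg7 yg19 zg32) (kg xg7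 yg19 zg48) (kg xg8 yg11 zg37) (kg xg5 yg19 zg34) (kg xg7 yg26 zg45) (kg xg5 yg19 zg39) (kg xg7 yg26 zg23) (kg xg8 yg11 zg39) (kg xg5 yg19 zg42) (kg xg8 yg11 zg41) (kg xg5 yg19 zg45) (kg xg7 yg21 zg5) (kg xg7 yg21 zg11) (kg xg8 yg11 zg44) (kg xg8 yg11 zg45))
def f_g_7 : D2 → D3 → Pt := @D2.rec (fun _ => D3 → Pt) (@D3.rec (fun _ => Pt) (kg xg5 yg19 zg48) (kg xg8 yg8 zg18) (kg xg7 yg0 zg2) (kg xg7 yg0 zg3) (kg xg5 yg20 zg0) (kg xg8 yg11 zg49) (kg xg7 yg0 zg6) (kg xg7 yg0 zg7) (kg xg7 yg0 zg8) (kg xg5 yg20 zg6) (kg xg5 yg20 zg7) (kg xg8 yg12 zg2) (kg xg8 yg12 zg3) (kg xg5 yg20 zg9) (kg xg7 yg0 zg14) (kg xg7 yg0 zg15) (kg xg7 yg0 zg16) (kg xg5 yg20 zg14) (kg xg7 yg0 zg18) (kg xg7 yg0 zg19) (kg xg7 yg0 zg20) (kg xg5 yg20 zg20) (kg xg5 yg20 zg21) (kg xg8 yg12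 zg12) (kg xg8 yg12 zg11) (kg xg8 yg12 zg14) (kg xg5 yg20 zg23) (kg xg8 yg12 zg16) (kg xg5 yg20 zg25) (kg xg7 yg0 zg29) (kg xg7 yg0 zg30) (kg xg7 yg0 zg31) (kg xg7 yg0 zg32) (kg xg5 yg20 zg31) (kg xg7 yg17 zg24) (kg xg7 yg0 zg35) (kg xg7 yg13 zg7) (kg xg7 yg0 zg37) (kg xg7 yg0 zg38) (kg xg7 yg0 zg39) (kg xg7 yg0 zg40) (kg xg5 yg20 zg39) (kg xg5 yg20 zg40) (kg xg7 yg13 zg21) (kg xg8 yg12 zg27) (kg xg5 yg20 zg46) (kg xg8 yg12 zg29) (kg xg7 yg0 zg47) (kg xg7 yg0 zg48) (kg xg5 yg20 zg50) (kg xg7 yg0 zg50)) (@D3.rec (fun _ => Pt) (kg xg7 yg13 zg28) (kg xg7 yg1 zg1) (kg xg7 yg1 zg2) (kg xg7 yg14 zg44) (kg xg7 yg1 zg4) (kg xg7 yg1 zg5) (kg xg8 yg11 zg31) (kg xg7 yg2 zg37) (kg xg5 yg21 zg40) (kg xg8 yg12 zg40) (kg xg8 yg12 zg41) (kg xg5 yg21 zg15) (kg xg5 yg21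 zg21) (kg xg5 yg21 zg22) (kg xg7 yg19 zg8) (kg xg8 yg12 zg45) (kg xg8 yg12 zg43) (kg xg8 yg12 zg46) (kg xg5 yg21 zg25) (kg xg8 yg12 zg47) (kg xg5 yg21 zg27) (kg xg8 yg8 zg20) (kg xg5 yg21 zg30) (kg xg8 yg12 zg49) (kg xg5 yg21 zg37) (kg xg5 yg21 zg38) (kg xg7 yg2 zg31) (kg xg5 yg21 zg41) (kg xg7 yg1 zg28) (kg xg7 yg1 zg29) (kg xg7 yg1 zg30) (kg xg6 yg22 zg12) (kg xg6 yg9 zg26) (kg xg5 yg22 zg7) (kg xg5 yg22 zg24) (kg xg5 yg22 zg25) (kg xg6 yg23 zg19) (kg xg6 yg23 zg8) (kg xg6 yg23 zg9) (kg xg5 yg22 zg33) (kg xg5 yg22 zg34) (kg xg6 yg10 zg34) (kg xg6 yg23 zg5) (kg xg5 yg22 zg16) (kg xg5 yg22 zg19) (kg xg6 yg10 zg40) (kg xg6 yg10 zg21) (kg xg6 yg22 zg40) (kg xg6 yg22 zg41) (kg xg6 yg23 zg37) (kg xg6 yg23 zg38)) (@D3.rec (fun _ => Pt) (kg xg8 yg13 zg1) (kg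 xg8 yg13 zg2) (kg xg6 yg24 zg38) (kg xg6 yg24 zg39) (kg xg5 yg22 zg28) (kg xg6 yg24 zg26) (kg xg5 yg22 zg31) (kg xg5 yg22 zg32) (kg xg8 yg13 zg17) (kg xg8 yg13 zg18) (kg xg8 yg13 zg22) (kg xg8 yg13 zg6) (kg xg8 yg13 zg7) (kg xg5 yg22 zg36) (kg xg5 yg22 zg37) (kg xg8 yg13 zg25) (kg xg8 yg13 zg26) (kg xg7 yg2 zg17) (kg xg7 yg2 zg18) (kg xg7 yg2 zg19) (kg xg7 yg2 zg20) (kg xg7 yg2 zg21) (kg xg5 yg22 zg44) (kg xg5 yg22 zg45) (kg xg8 yg13 zg34) (kg xg8 yg13 zg35) (kg xg8 yg13 zg36) (kg xg5 yg23 zg6) (kg xg6 yg8 zg42) (kg xg5 yg23 zg8) (kg xg6 yg8 zg40) (kg xg7 yg1 zg26) (kg xg8 yg13 zg41) (kg xg5 yg23 zg7) (kg xg6 yg8 zg48) (kg xg5 yg23 zg10) (kg xg6 yg8 zg49) (kg xg7 yg1 zg7) (kg xg8 yg13 zg43) (kg xg5 yg23 zg16) (kg xg5 yg23 zg17) (kg xg6 yg8 zg41) (kg xg8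 yg13 zg45) (kg xg5 yg23 zg22) (kg xg5 yg23 zg23) (kg xg8 yg13 zg48) (kg xg6 yg9 zg6) (kg xg5 yg23 zg25) (kg xg6 yg9 zg7) (kg xg6 yg9 zg8) (kg xg5 yg23 zg28)) (@D3.rec (fun _ => Pt) (kg xg8 yg14 zg1) (kg xg6 yg9 zg21) (kg xg5 yg23 zg32) (kg xg8 yg14 zg4) (kg xg5 yg23 zg34) (kg xg6 yg9 zg3) (kg xg6 yg9 zg12) (kg xg6 yg9 zg5) (kg xg5 yg23 zg37) (kg xg6 yg10 zg30) (kg xg8 yg14 zg0) (kg xg6 yg9 zg20) (kg xg8 yg14 zg10) (kg xg5 yg23 zg45) (kg xg8 yg14 zg13) (kg xg7 yg3 zg15) (kg xg7 yg3 zg16) (kg xg5 yg23 zg47) (kg xg8 yg14 zg19) (kg xg5 yg24 zg37) (kg xg5 yg23 zg49) (kg xg8 yg14 zg23) (kg xg6 yg9 zg0) (kg xg5 yg24 zg41) (kg xg5 yg24 zg2) (kg xg6 yg10 zg14) (kg xg8 yg14 zg25) (kg xg5 yg24 zg45) (kg xg5 yg24 zg5) (kg xg8 yg14 zg29) (kg xg7 yg3 zg30) (kg xg8 yg14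 zg34) (kg xg5 yg24 zg7) (kg xg6 yg22 zg20) (kg xg7 yg3 zg34) (kg xg7 yg3 zg35) (kg xg5 yg24 zg9) (kg xg6 yg22 zg21) (kg xg6 yg22 zg22) (kg xg8 yg14 zg41) (kg xg5 yg24 zg13) (kg xg8 yg14 zg45) (kg xg5 yg25 zg11) (kg xg5 yg24 zg15) (kg xg6 yg22 zg16) (kg xg8 yg14 zg48) (kg xg7 yg3 zg46) (kg xg7 yg3 zg47) (kg xg6 yg10 zg7) (kg xg5 yg25 zg18) (kg xg5 yg24 zg19)) (@D3.rec (fun _ => Pt) (kg xg6 yg9 zg32) (kg xg8 yg15 zg3) (kg xg5 yg24 zg22) (kg xg5 yg24 zg27) (kg xg6 yg9 zg36) (kg xg5 yg25 zg31) (kg xg8 yg15 zg6) (kg xg5 yg24 zg30) (kg xg8 yg15 zg10) (kg xg8 yg14 zg12) (kg xg5 yg24 zg32) (kg xg8 yg15 zg14) (kg xg8 yg15 zg15) (kg xg5 yg25 zg39) (kg xg6 yg10 zg29) (kg xg8 yg14 zg18) (kg xg5 yg24 zg36) (kg xg8 yg15 zg22) (kg xg8 yg15 zg23) (kg xg8 yg14 zg22) (kg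 xg5 yg24 zg39) (kg xg8 yg15 zg27) (kg xg6 yg10 zg37) (kg xg8 yg14 zg24) (kg xg5 yg24 zg43) (kg xg5 yg24 zg44) (kg xg8 yg15 zg33) (kg xg8 yg15 zg34) (kg xg8 yg14 zg27) (kg xg8 yg15 zg39) (kg xg5 yg24 zg47) (kg xg8 yg15 zg42) (kg xg5 yg26 zg7) (kg xg5 yg26 zg8) (kg xg8 yg15 zg47) (kg xg5 yg24 zg49) (kg xg8 yg15 zg50) (kg xg6 yg23 zg15) (kg xg5 yg25 zg0) (kg xg6 yg23 zg42) (kg xg8 yg16 zg2) (kg xg5 yg26 zg16) (kg xg5 yg26 zg17) (kg xg6 yg11 zg2) (kg xg6 yg23 zg16) (kg xg5 yg25 zg4) (kg xg6 yg23 zg29) (kg xg8 yg16 zg10) (kg xg5 yg25 zg7) (kg xg5 yg25 zg8) (kg xg8 yg16 zg14)) (@D3.rec (fun _ => Pt) (kg xg6 yg11 zg11) (kg xg8 yg14 zg44) (kg xg5 yg25 zg10) (kg xg8 yg16 zg20) (kg xg8 yg16 zg21) (kg xg6 yg23 zg3) (kg xg5 yg25 zg13) (kg xg5 yg25 zg14) (kg xg8 yg16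 zg26) (kg xg8 yg16 zg27) (kg xg8 yg16 zg31) (kg xg5 yg26 zg38) (kg xg5 yg26 zg39) (kg xg8 yg16 zg34) (kg xg6 yg11 zg24) (kg xg6 yg10 zg32) (kg xg5 yg25 zg20) (kg xg5 yg25 zg21) (kg xg8 yg16 zg39) (kg xg8 yg16 zg40) (kg xg6 yg23 zg4) (kg xg5 yg25 zg24) (kg xg8 yg15 zg29) (kg xg6 yg11 zg33) (kg xg6 yg11 zg34) (kg xg6 yg10 zg39) (kg xg5 yg25 zg30) (kg xg6 yg15 zg48) (kg xg6 yg16 zg7) (kg xg6 yg11 zg36) (kg xg5 yg25 zg32) (kg xg8 yg16 zg50) (kg xg6 yg11 zg49) (kg xg7 yg5 zg33) (kg xg5 yg25 zg34) (kg xg8 yg17 zg5) (kg xg8 yg17 zg6) (kg xg7 yg5 zg37) (kg xg5 yg25 zg37) (kg xg5 yg25 zg38) (kg xg8 yg17 zg12) (kg xg8 yg17 zg13) (kg xg8 yg15 zg18) (kg xg8 yg17 zg16) (kg xg6 yg12 zg6) (kg xg7 yg5 zg45) (kg xg5 yg25 zg43) (kg xg5 yg25 zg44) (kg xg8 yg17 zg22) (kg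 xg8 yg17 zg23) (kg xg7 yg5 zg50)) (@D3.rec (fun _ => Pt) (kg xg5 yg25 zg47) (kg xg8 yg17 zg27) (kg xg6 yg12 zg15) (kg xg6 yg12 zg16) (kg xg7 yg6 zg4) (kg xg7 yg6 zg5) (kg xg5 yg26 zg1) (kg xg5 yg26 zg2) (kg xg8 yg17 zg35) (kg xg8 yg17 zg36) (kg xg8 yg17 zg37) (kg xg8 yg17 zg41) (kg xg5 yg26 zg4) (kg xg8 yg17 zg45) (kg xg7 yg6 zg14) (kg xg5 yg26 zg6) (kg xg8 yg17 zg49) (kg xg8 yg17 zg50) (kg xg8 yg15 zg45) (kg xg8 yg15 zg46) (kg xg5 yg26 zg9) (kg xg8 yg18 zg7) (kg xg6 yg12 zg32) (kg xg7 yg6 zg23) (kg xg5 yg26 zg11) (kg xg8 yg18 zg13) (kg xg8 yg18 zg14) (kg xg7 yg6 zg27) (kg xg5 yg26 zg14) (kg xg5 yg26 zg15) (kg xg8 yg18 zg19) (kg xg8 yg18 zg20) (kg xg8 yg18 zg24) (kg xg8 yg16 zg6) (kg xg8 yg16 zg7) (kg xg8 yg18 zg27) (kg xg6 yg12 zg43) (kg xg7 yg6 zg37)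 (kg xg5 yg26 zg21) (kg xg5 yg26 zg22) (kg xg8 yg18 zg32) (kg xg8 yg18 zg33) (kg xg7 yg6 zg42) (kg xg6 yg12 zg50) (kg xg7 yg6 zg44) (kg xg5 yg26 zg26) (kg xg8 yg18 zg40) (kg xg8 yg18 zg41) (kg xg8 yg18 zg45) (kg xg6 yg13 zg5) (kg xg7 yg6 zg50)) (@D3.rec (fun _ => Pt) (kg xg5 yg26 zg30) (kg xg5 yg26 zg31) (kg xg8 yg19 zg0) (kg xg8 yg19 zg1) (kg xg8 yg19 zg2) (kg xg7 yg7 zg5) (kg xg7 yg7 zg6) (kg xg5 yg26 zg35) (kg xg5 yg26 zg36) (kg xg8 yg19 zg14) (kg xg8 yg19 zg12) (kg xg8 yg19 zg13) (kg xg5 yg26 zg37) (kg xg8 yg19 zg18) (kg xg8 yg16 zg33) (kg xg5 yg26 zg40) (kg xg8 yg19 zg20) (kg xg6 yg13 zg22) (kg xg6 yg13 zg23) (kg xg7 yg7 zg19) (kg xg7 yg7 zg20) (kg xg5 yg26 zg45) (kg xg5 yg26 zg46) (kg xg8 yg19 zg28) (kg xg8 yg19 zg29) (kg xg8 yg19 zg30) (kg xg5 yg26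 zg49) (kg xg8 yg17 zg31) (kg xg8 yg19 zg34) (kg xg6 yg13 zg34) (kg xg6 yg13 zg35) (kg xg6 yg13 zg36) (kg xg7 yg7 zg32) (kg xg7 yg7 zg33) (kg xg6 yg0 zg5) (kg xg6 yg0 zg6) (kg xg6 yg0 zg7) (kg xg8 yg19 zg45) (kg xg8 yg19 zg46) (kg xg8 yg19 zg47) (kg xg7 yg7 zg40) (kg xg6 yg0 zg14) (kg xg7 yg7 zg42) (kg xg6 yg0 zg12) (kg xg6 yg0 zg9) (kg xg8 yg20 zg5) (kg xg7 yg7 zg46) (kg xg6 yg1 zg41) (kg xg8 yg20 zg4) (kg xg7 yg7 zg49) (kg xg7 yg7 zg50)) (@D3.rec (fun _ => Pt) (kg xg8 yg20 zg1) (kg xg6 yg1 zg49) (kg xg6 yg0 zg16) (kg xg8 yg20 zg14) (kg xg6 yg2 zg2) (kg xg6 yg0 zg20) (kg xg8 yg20 zg16) (kg xg8 yg20 zg17) (kg xg6 yg2 zg6) (kg xg6 yg0 zg23) (kg xg8 yg20 zg22) (kg xg7 yg8 zg11) (kg xg8 yg20 zg26) (kg xg6 yg0 zg25) (kg xg8 yg20 zg29) (kg xg7 yg8 zg15) (kg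 xg7 yg8 zg16) (kg xg6 yg0 zg27) (kg xg8 yg20 zg35) (kg xg6 yg2 zg17) (kg xg6 yg0 zg29) (kg xg8 yg20 zg39) (kg xg8 yg20 zg40) (kg xg6 yg0 zg32) (kg xg8 yg20 zg44) (kg xg6 yg2 zg23) (kg xg6 yg0 zg34) (kg xg8 yg20 zg48) (kg xg8 yg20 zg49) (kg xg7 yg8 zg29) (kg xg7 yg8 zg30) (kg xg6 yg14 zg12) (kg xg6 yg2 zg30) (kg xg6 yg0 zg38) (kg xg8 yg21 zg7) (kg xg8 yg21 zg8) (kg xg6 yg2 zg34) (kg xg6 yg0 zg41) (kg xg8 yg21 zg12) (kg xg6 yg10 zg18) (kg xg6 yg2 zg38) (kg xg6 yg0 zg45) (kg xg6 yg0 zg46) (kg xg6 yg15 zg10) (kg xg8 yg21 zg17) (kg xg6 yg2 zg43) (kg xg8 yg21 zg22) (kg xg6 yg0 zg49) (kg xg8 yg21 zg25) (kg xg7 yg8 zg49) (kg xg8 yg21 zg27)) (@D3.rec (fun _ => Pt) (kg xg6 yg1 zg0) (kg xg8 yg21 zg31) (kg xg6 yg3 zg0) (kg xg6 yg1 zg2) (kg xg8 yg21 zg35) (kg xg8 yg21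 zg36) (kg xg7 yg9 zg6) (kg xg6 yg14 zg30) (kg xg6 yg3 zg6) (kg xg6 yg1 zg6) (kg xg8 yg21 zg43) (kg xg8 yg21 zg44) (kg xg6 yg3 zg10) (kg xg6 yg1 zg9) (kg xg6 yg1 zg10) (kg xg8 yg21 zg50) (kg xg6 yg14 zg39) (kg xg6 yg3 zg15) (kg xg6 yg1 zg12) (kg xg8 yg22 zg5) (kg xg8 yg22 zg6) (kg xg6 yg3 zg19) (kg xg6 yg1 zg15) (kg xg6 yg1 zg16) (kg xg8 yg22 zg11) (kg xg8 yg22 zg12) (kg xg8 yg22 zg16) (kg xg7 yg9 zg27) (kg xg7 yg9 zg28) (kg xg8 yg22 zg19) (kg xg6 yg15 zg1) (kg xg6 yg3 zg29) (kg xg6 yg1 zg22) (kg xg6 yg1 zg23) (kg xg8 yg22 zg22) (kg xg8 yg22 zg23) (kg xg6 yg3 zg34) (kg xg6 yg1 zg26) (kg xg6 yg15 zg11) (kg xg6 yg3 zg40) (kg xg6 yg1 zg32) (kg xg6 yg14 zg15) (kg xg6 yg14 zg20) (kg xg8 yg22 zg27) (kg xg6 yg3 zg47) (kg xg6 yg1 zg35) (kg xg8 yg22 zg33) (kg xg6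 yg3 zg50) (kg xg6 yg4 zg0) (kg xg6 yg1 zg37) (kg xg8 yg22 zg37)) (@D3.rec (fun _ => Pt) (kg xg6 yg1 zg42) (kg xg6 yg1 zg39) (kg xg8 yg22 zg41) (kg xg8 yg22 zg40) (kg xg6 yg1 zg44) (kg xg8 yg22 zg43) (kg xg8 yg22 zg44) (kg xg6 yg4 zg10) (kg xg6 yg4 zg11) (kg xg7 yg10 zg9) (kg xg6 yg1 zg48) (kg xg8 yg23 zg0) (kg xg8 yg23 zg1) (kg xg8 yg20 zg13) (kg xg6 yg2 zg0) (kg xg6 yg3 zg46) (kg xg7 yg10 zg16) (kg xg8 yg20 zg15) (kg xg6 yg2 zg4) (kg xg6 yg2 zg5) (kg xg8 yg23 zg10) (kg xg8 yg23 zg11) (kg xg8 yg20 zg20) (kg xg8 yg23 zg16) (kg xg6 yg2 zg8) (kg xg8 yg23 zg19) (kg xg6 yg4 zg29) (kg xg8 yg23 zg21) (kg xg6 yg2 zg10) (kg xg8 yg23 zg25) (kg xg8 yg20 zg28) (kg xg6 yg2 zg12) (kg xg8 yg23 zg29) (kg xg8 yg23 zg30) (kg xg6 yg4 zg36) (kg xg6 yg15 zg27) (kg xg8 yg20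 zg34) (kg xg6 yg2 zg16) (kg xg8 yg23 zg37) (kg xg8 yg23 zg38) (kg xg8 yg20 zg38) (kg xg6 yg2 zg19) (kg xg6 yg2 zg20) (kg xg8 yg23 zg44) (kg xg6 yg15 zg36) (kg xg8 yg20 zg43) (kg xg6 yg2 zg22) (kg xg8 yg23 zg50) (kg xg8 yg24 zg0) (kg xg8 yg20 zg47) (kg xg6 yg2 zg25)) (@D3.rec (fun _ => Pt) (kg xg6 yg2 zg26) (kg xg8 yg24 zg6) (kg xg8 yg24 zg7) (kg xg8 yg24 zg11) (kg xg6 yg5 zg5) (kg xg6 yg5 zg6) (kg xg8 yg24 zg14) (kg xg6 yg15 zg47) (kg xg8 yg21 zg6) (kg xg6 yg2 zg32) (kg xg6 yg2 zg33) (kg xg8 yg24 zg20) (kg xg8 yg24 zg21) (kg xg8 yg21 zg11) (kg xg6 yg2 zg36) (kg xg8 yg24 zg25) (kg xg6 yg16 zg5) (kg xg6 yg16 zg6) (kg xg8 yg21 zg15) (kg xg8 yg21 zg16) (kg xg6 yg2 zg41) (kg xg6 yg2 zg42) (kg xg8 yg24 zg33) (kg xg8 yg24 zg34) (kg xg8 yg24 zg35) (kg xg8 yg24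 zg40) (kg xg6 yg2 zg44) (kg xg8 yg24 zg44) (kg xg8 yg21 zg24) (kg xg6 yg2 zg46) (kg xg8 yg24 zg48) (kg xg6 yg2 zg48) (kg xg8 yg25 zg0) (kg xg6 yg16 zg17) (kg xg8 yg21 zg30) (kg xg6 yg2 zg50) (kg xg8 yg25 zg6) (kg xg8 yg25 zg7) (kg xg8 yg21 zg34) (kg xg6 yg3 zg2) (kg xg6 yg3 zg3) (kg xg8 yg25 zg13) (kg xg8 yg25 zg14) (kg xg6 yg5 zg44) (kg xg8 yg25 zg17) (kg xg6 yg16 zg25) (kg xg8 yg21 zg42) (kg xg6 yg3 zg8) (kg xg6 yg3 zg9) (kg xg8 yg25 zg23) (kg xg8 yg25 zg24)) (@D3.rec (fun _ => Pt) (kg xg8 yg21 zg47) (kg xg6 yg16 zg32) (kg xg8 yg21 zg49) (kg xg6 yg3 zg13) (kg xg8 yg25 zg32) (kg xg8 yg25 zg33) (kg xg8 yg25 zg37) (kg xg6 yg16 zg38) (kg xg8 yg22 zg4) (kg xg6 yg3 zg17) (kg xg6 yg3 zg18) (kg xg8 yg25 zg43) (kg xg8 yg25 zg44) (kg xg8 yg25 zg45) (kg xg6 yg23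 zg12) (kg xg8 yg22 zg10) (kg xg6 yg3 zg22) (kg xg6 yg3 zg23) (kg xg8 yg26 zg6) (kg xg8 yg26 zg4) (kg xg8 yg26 zg5) (kg xg6 yg3 zg24) (kg xg8 yg26 zg10) (kg xg6 yg6 zg24) (kg xg6 yg3 zg27) (kg xg8 yg26 zg12) (kg xg6 yg17 zg4) (kg xg6 yg17 zg5) (kg xg6 yg16 zg9) (kg xg8 yg22 zg21) (kg xg6 yg3 zg32) (kg xg6 yg3 zg33) (kg xg8 yg26 zg20) (kg xg8 yg26 zg21) (kg xg8 yg26 zg22) (kg xg6 yg3 zg36) (kg xg8 yg24 zg28) (kg xg8 yg26 zg26) (kg xg6 yg17 zg16) (kg xg6 yg17 zg17) (kg xg6 yg17 zg18) (kg xg6 yg16 zg10) (kg xg6 yg3 zg43) (kg xg6 yg3 zg44) (kg xg6 yg3 zg45) (kg xg8 yg26 zg35) (kg xg8 yg26 zg36) (kg xg8 yg26 zg37) (kg xg8 yg23 zg5) (kg xg8 yg22 zg31) (kg xg8 yg22 zg32)) (@D3.rec (fun _ => Pt) (kg xg6 yg3 zg49) (kg xg8 yg26 zg44) (kg xg8 yg26 zg45) (kg xg8 yg22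 zg36) (kg xg7 yg13 zg4) (kg xg6 yg4 zg3) (kg xg6 yg4 zg5) (kg xg7 yg0 zg36) (kg xg8 yg26 zg50) (kg xg7 yg13 zg9) (kg xg6 yg4 zg8) (kg xg6 yg4 zg9) (kg xg9 yg0 zg4) (kg xg9 yg0 zg5) (kg xg9 yg0 zg9) (kg xg8 yg22 zg48) (kg xg8 yg22 zg49) (kg xg7 yg13 zg17) (kg xg7 yg13 zg18) (kg xg6 yg4 zg15) (kg xg7 yg13 zg20) (kg xg7 yg0 zg43) (kg xg7 yg13 zg22) (kg xg7 yg13 zg23) (kg xg7 yg13 zg24) (kg xg7 yg13 zg25) (kg xg6 yg4 zg23) (kg xg6 yg4 zg24) (kg xg7 yg1 zg0) (kg xg9 yg0 zg18) (kg xg6 yg4 zg26) (kg xg9 yg0 zg22) (kg xg7 yg13 zg32) (kg xg6 yg4 zg28) (kg xg9 yg0 zg26) (kg xg6 yg17 zg29) (kg xg7 yg13 zg36) (kg xg6 yg4 zg31) (kg xg9 yg0 zg30) (kg xg9 yg0 zg31) (kg xg7 yg13 zg40) (kg xg6 yg4 zg34) (kg xg6 yg4 zg35) (kg xg9 yg0 zg36) (kg xg9 yg0 zg37) (kg xg8 yg23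 zg33) (kg xg9 yg0 zg40) (kg xg6 yg17 zg37) (kg xg7 yg13 zg48) (kg xg6 yg4 zg40) (kg xg7 yg13 zg50)) (@D3.rec (fun _ => Pt) (kg xg6 yg17 zg41) (kg xg7 yg14 zg1) (kg xg6 yg4 zg44) (kg xg9 yg0 zg48) (kg xg9 yg0 zg49) (kg xg9 yg1 zg1) (kg xg6 yg17 zg47) (kg xg7 yg14 zg7) (kg xg6 yg4 zg48) (kg xg6 yg4 zg49) (kg xg9 yg1 zg7) (kg xg9 yg1 zg8) (kg xg9 yg1 zg9) (kg xg7 yg14 zg13) (kg xg7 yg14 zg14) (kg xg6 yg5 zg2) (kg xg6 yg5 zg3) (kg xg9 yg1 zg21) (kg xg9 yg1 zg19) (kg xg9 yg1 zg20) (kg xg6 yg5 zg4) (kg xg9 yg1 zg25) (kg xg8 yg24 zg13) (kg xg6 yg5 zg7) (kg xg9 yg1 zg27) (kg xg6 yg18 zg10) (kg xg6 yg18 zg11) (kg xg7 yg14 zg27) (kg xg7 yg14 zg28) (kg xg6 yg5 zg12) (kg xg6 yg5 zg13) (kg xg9 yg1 zg35) (kg xg9 yg1 zg36) (kg xg6 yg5 zg16) (kg xg9 yg1 zg38) (kg xg9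 yg1 zg39) (kg xg6 yg18 zg21) (kg xg6 yg18 zg22) (kg xg6 yg18 zg23) (kg xg7 yg14 zg39) (kg xg7 yg14 zg40) (kg xg6 yg5 zg23) (kg xg6 yg5 zg24) (kg xg6 yg5 zg25) (kg xg7 yg1 zg3) (kg xg9 yg1 zg50) (kg xg9 yg2 zg0) (kg xg6 yg5 zg26) (kg xg9 yg2 zg6) (kg xg6 yg18 zg34) (kg xg7 yg14 zg50)) (@D3.rec (fun _ => Pt) (kg xg6 yg5 zg28) (kg xg9 yg2 zg12) (kg xg9 yg2 zg13) (kg xg7 yg15 zg3) (kg xg6 yg5 zg31) (kg xg6 yg18 zg36) (kg xg7 yg15 zg6) (kg xg6 yg5 zg33) (kg xg9 yg2 zg21) (kg xg9 yg2 zg22) (kg xg9 yg2 zg25) (kg xg6 yg18 zg42) (kg xg7 yg15 zg12) (kg xg6 yg5 zg37) (kg xg6 yg5 zg38) (kg xg9 yg2 zg31) (kg xg9 yg2 zg32) (kg xg9 yg2 zg33) (kg xg7 yg15 zg18) (kg xg7 yg15 zg19) (kg xg6 yg5 zg42) (kg xg6 yg5 zg43) (kg xg9 yg2 zg42) (kg xg9 yg2 zg43) (kg xg6 yg5 zg45)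 (kg xg9 yg2 zg45) (kg xg6 yg19 zg0) (kg xg6 yg19 zg1) (kg xg7 yg15 zg28) (kg xg7 yg15 zg29) (kg xg6 yg5 zg50) (kg xg6 yg6 zg0) (kg xg9 yg3 zg2) (kg xg9 yg3 zg3) (kg xg6 yg19 zg8) (kg xg9 yg3 zg8) (kg xg6 yg19 zg10) (kg xg7 yg15 zg37) (kg xg6 yg6 zg5) (kg xg6 yg6 zg6) (kg xg9 yg3 zg14) (kg xg9 yg3 zg15) (kg xg9 yg3 zg16) (kg xg6 yg6 zg7) (kg xg9 yg3 zg23) (kg xg6 yg19 zg19) (kg xg6 yg19 zg20) (kg xg7 yg15 zg47) (kg xg7 yg15 zg48) (kg xg6 yg6 zg12) (kg xg6 yg6 zg13)) (@D3.rec (fun _ => Pt) (kg xg6 yg6 zg14) (kg xg9 yg3 zg32) (kg xg9 yg3 zg33) (kg xg9 yg3 zg34) (kg xg9 yg3 zg44) (kg xg9 yg3 zg36) (kg xg9 yg3 zg37) (kg xg7 yg16 zg7) (kg xg7 yg16 zg8) (kg xg9 yg3 zg50) (kg xg6 yg6 zg20) (kg xg6 yg6 zg21) (kg xg6 yg6 zg19) (kg xg9 yg4 zg3) (kg xg9 yg4 zg1) (kg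 xg7 yg16 zg15) (kg xg6 yg6 zg23) (kg xg9 yg4 zg7) (kg xg6 yg6 zg26) (kg xg9 yg4 zg8) (kg xg9 yg4 zg9) (kg xg6 yg19 zg43) (kg xg6 yg19 zg44) (kg xg6 yg19 zg45) (kg xg7 yg16 zg24) (kg xg7 yg16 zg25) (kg xg6 yg6 zg33) (kg xg6 yg6 zg34) (kg xg6 yg6 zg35) (kg xg9 yg4 zg21) (kg xg9 yg4 zg22) (kg xg9 yg4 zg23) (kg xg6 yg6 zg37) (kg xg6 yg6 zg38) (kg xg9 yg4 zg27) (kg xg9 yg4 zg28) (kg xg9 yg4 zg29) (kg xg6 yg20 zg8) (kg xg6 yg20 zg9) (kg xg6 yg20 zg10) (kg xg6 yg20 zg11) (kg xg6 yg20 zg12) (kg xg7 yg16 zg42) (kg xg7 yg16 zg43) (kg xg7 yg16 zg44) (kg xg6 yg6 zg47) (kg xg6 yg6 zg48) (kg xg6 yg6 zg49) (kg xg9 yg4 zg45) (kg xg9 yg4 zg46) (kg xg9 yg4 zg47)) (@D3.rec (fun _ => Pt) (kg xg7 yg17 zg0) (kg xg6 yg7 zg3) (kg xg6 yg20 zg23) (kg xg9 yg5 zg2) (kg xg6 yg20 zg25)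 (kg xg7 yg17 zg5) (kg xg6 yg7 zg7) (kg xg6 yg7 zg8) (kg xg6 yg7 zg10) (kg xg9 yg5 zg6) (kg xg6 yg20 zg31) (kg xg6 yg20 zg32) (kg xg7 yg17 zg12) (kg xg6 yg7 zg14) (kg xg6 yg7 zg16) (kg xg6 yg7 zg17) (kg xg6 yg20 zg44) (kg xg6 yg20 zg43) (kg xg6 yg20 zg42) (kg xg6 yg20 zg41) (kg xg6 yg20 zg45) (kg xg7 yg17 zg21) (kg xg6 yg7 zg27) (kg xg6 yg7 zg28) (kg xg7 yg0 zg34) (kg xg9 yg5 zg11) (kg xg9 yg5 zg12) (kg xg6 yg21 zg4) (kg xg9 yg5 zg15) (kg xg6 yg21 zg6) (kg xg7 yg17 zg30) (kg xg6 yg7 zg32) (kg xg6 yg7 zg33) (kg xg6 yg7 zg35) (kg xg9 yg5 zg19) (kg xg6 yg21 zg12) (kg xg6 yg21 zg13) (kg xg7 yg17 zg37) (kg xg6 yg7 zg39) (kg xg9 yg5 zg24) (kg xg9 yg5 zg25) (kg xg6 yg21 zg18) (kg xg6 yg7 zg41) (kg xg9 yg5 zg29) (kg xg6 yg21 zg21) (kg xg6 yg21 zg22) (kg xg7 yg17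 zg46) (kg xg7 yg17 zg47) (kg xg6 yg7 zg46) (kg xg6 yg7 zg47) (kg xg9 yg5 zg37)) (@D3.rec (fun _ => Pt) (kg xg9 yg5 zg38) (kg xg6 yg7 zg49) (kg xg9 yg5 zg41) (kg xg6 yg21 zg31) (kg xg6 yg21 zg32) (kg xg7 yg18 zg5) (kg xg6 yg8 zg2) (kg xg9 yg5 zg46) (kg xg6 yg8 zg4) (kg xg6 yg8 zg5) (kg xg9 yg5 zg47) (kg xg9 yg5 zg48) (kg xg9 yg5 zg49) (kg xg6 yg21 zg41) (kg xg6 yg21 zg42) (kg xg6 yg21 zg43) (kg xg6 yg21 zg44) (kg xg6 yg21 zg45) (kg xg7 yg18 zg18) (kg xg7 yg18 zg19) (kg xg7 yg18 zg20) (kg xg6 yg8 zg14) (kg xg6 yg8 zg15) (kg xg6 yg8 zg16) (kg xg9 yg6 zg14) (kg xg9 yg6 zg15) (kg xg9 yg6 zg16) (kg xg6 yg8 zg19) (kg xg6 yg8 zg20) (kg xg6 yg8 zg21) (kg xg9 yg6 zg2) (kg xg9 yg4 zg31) (kg xg6 yg22 zg4) (kg xg6 yg21 zg40) (kg xg6 yg21 zg39) (kg xg6 yg20 zg6) (kg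 xg6 yg20 zg5) (kg xg7 yg18 zg37) (kg xg7 yg18 zg38) (kg xg7 yg18 zg39) (kg xg6 yg8 zg33) (kg xg6 yg8 zg34) (kg xg6 yg8 zg35) (kg xg9 yg6 zg28) (kg xg9 yg6 zg29) (kg xg9 yg6 zg30) (kg xg6 yg8 zg43) (kg xg8 yg13 zg42) (kg xg6 yg8 zg46) (kg xg8 yg14 zg17) (kg xg6 yg11 zg3)) (@D3.rec (fun _ => Pt) (kg xg6 yg9 zg1) (kg xg8 yg14 zg6) (kg xg8 yg13 zg46) (kg xg8 yg13 zg47) (kg xg8 yg14 zg3) (kg xg8 yg14 zg5) (kg xg9 yg6 zg34) (kg xg8 yg14 zg8) (kg xg7 yg1 zg14) (kg xg6 yg9 zg15) (kg xg6 yg9 zg16) (kg xg9 yg6 zg38) (kg xg6 yg9 zg19) (kg xg8 yg13 zg50) (kg xg6 yg10 zg36) (kg xg8 yg14 zg2) (kg xg6 yg9 zg24) (kg xg6 yg9 zg25) (kg xg9 yg6 zg40) (kg xg8 yg15 zg31) (kg xg6 yg9 zg40) (kg xg6 yg9 zg27) (kg xg8 yg15 zg4) (kg xg6 yg9 zg29) (kg xg9 yg6 zg44) (kg xg8 yg15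 zg5) (kg xg6 yg9 zg35) (kg xg6 yg14 zg4) (kg xg6 yg26 zg35) (kg xg7 yg19 zg29) (kg xg9 yg6 zg41) (kg xg6 yg9 zg42) (kg xg6 yg26 zg36) (kg xg9 yg6 zg49) (kg xg7 yg19 zg34) (kg xg8 yg14 zg39) (kg xg6 yg9 zg46) (kg xg9 yg7 zg2) (kg xg9 yg7 zg3) (kg xg6 yg11 zg7) (kg xg6 yg9 zg49) (kg xg6 yg14 zg47) (kg xg8 yg14 zg43) (kg xg6 yg10 zg1) (kg xg9 yg7 zg9) (kg xg9 yg7 zg10) (kg xg6 yg10 zg4) (kg xg6 yg14 zg38) (kg xg6 yg26 zg37) (kg xg9 yg7 zg16) (kg xg7 yg19 zg50)) (@D3.rec (fun _ => Pt) (kg xg8 yg14 zg20) (kg xg6 yg11 zg25) (kg xg6 yg10 zg10) (kg xg6 yg10 zg11) (kg xg9 yg7 zg20) (kg xg9 yg7 zg21) (kg xg6 yg11 zg30) (kg xg8 yg14 zg26) (kg xg6 yg11 zg35) (kg xg6 yg10 zg19) (kg xg8 yg21 zg5) (kg xg8 yg21 zg14) (kg xg6 yg10 zg23) (kg xg9 yg7 zg27) (kg xg8 yg15 zg8)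 (kg xg6 yg10 zg45) (kg xg6 yg10 zg25) (kg xg9 yg7 zg32) (kg xg9 yg7 zg33) (kg xg6 yg26 zg7) (kg xg6 yg10 zg28) (kg xg9 yg6 zg36) (kg xg8 yg15 zg20) (kg xg6 yg10 zg33) (kg xg8 yg16 zg19) (kg xg8 yg16 zg38) (kg xg8 yg13 zg8) (kg xg8 yg15 zg30) (kg xg8 yg15 zg32) (kg xg6 yg15 zg37) (kg xg6 yg10 zg41) (kg xg9 yg7 zg41) (kg xg6 yg10 zg43) (kg xg9 yg7 zg44) (kg xg8 yg15 zg48) (kg xg6 yg10 zg47) (kg xg9 yg7 zg46) (kg xg9 yg7 zg47) (kg xg6 yg26 zg6) (kg xg6 yg10 zg50) (kg xg6 yg11 zg0) (kg xg9 yg8 zg0) (kg xg9 yg8 zg1) (kg xg9 yg8 zg3) (kg xg8 yg16 zg9) (kg xg9 yg6 zg31) (kg xg6 yg11 zg5) (kg xg6 yg11 zg6) (kg xg9 yg8 zg9) (kg xg9 yg7 zg5) (kg xg8 yg16 zg12)) (@D3.rec (fun _ => Pt) (kg xg6 yg11 zg10) (kg xg9 yg8 zg12) (kg xg9 yg8 zg13) (kg xg9 yg8 zg16) (kg xg8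 yg16 zg18) (kg xg6 yg26 zg47) (kg xg6 yg11 zg14) (kg xg6 yg11 zg15) (kg xg9 yg8 zg22) (kg xg9 yg8 zg23) (kg xg9 yg8 zg24) (kg xg6 yg26 zg48) (kg xg6 yg11 zg19) (kg xg6 yg11 zg20) (kg xg9 yg8 zg33) (kg xg9 yg8 zg32) (kg xg6 yg11 zg21) (kg xg9 yg8 zg36) (kg xg6 yg11 zg23) (kg xg9 yg8 zg37) (kg xg8 yg16 zg36) (kg xg8 yg16 zg37) (kg xg9 yg7 zg19) (kg xg8 yg16 zg43) (kg xg6 yg11 zg28) (kg xg6 yg11 zg29) (kg xg9 yg8 zg45) (kg xg9 yg8 zg46) (kg xg9 yg8 zg47) (kg xg6 yg11 zg32) (kg xg8 yg15 zg28) (kg xg9 yg8 zg50) (kg xg6 yg16 zg4) (kg xg6 yg12 zg14) (kg xg8 yg16 zg45) (kg xg8 yg21 zg13) (kg xg8 yg15 zg37) (kg xg6 yg11 zg39) (kg xg6 yg11 zg40) (kg xg6 yg11 zg41) (kg xg9 yg9 zg6) (kg xg9 yg9 zg7) (kg xg9 yg9 zg8) (kg xg6 yg11 zg44) (kg xg6 yg11 zg45) (kg xg9 yg9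 zg12) (kg xg9 yg9 zg13) (kg xg9 yg9 zg14) (kg xg8 yg16 zg48) (kg xg7 yg21 zg49) (kg xg6 yg11 zg48)) (@D3.rec (fun _ => Pt) (kg xg9 yg9 zg22) (kg xg9 yg9 zg23) (kg xg9 yg9 zg25) (kg xg8 yg17 zg3) (kg xg7 yg22 zg4) (kg xg6 yg12 zg1) (kg xg6 yg12 zg2) (kg xg9 yg9 zg31) (kg xg9 yg9 zg32) (kg xg7 yg22 zg9) (kg xg6 yg12 zg5) (kg xg9 yg8 zg41) (kg xg8 yg17 zg18) (kg xg8 yg17 zg19) (kg xg7 yg22 zg14) (kg xg7 yg22 zg15) (kg xg6 yg12 zg10) (kg xg6 yg12 zg11) (kg xg9 yg9 zg41) (kg xg9 yg9 zg42) (kg xg9 yg9 zg43) (kg xg9 yg9 zg3) (kg xg8 yg17 zg30) (kg xg8 yg17 zg32) (kg xg7 yg22 zg24) (kg xg7 yg22 zg25) (kg xg6 yg12 zg21) (kg xg6 yg12 zg22) (kg xg6 yg12 zg23) (kg xg9 yg10 zg2) (kg xg9 yg10 zg3) (kg xg9 yg10 zg4) (kg xg6 yg12 zg24) (kg xg9 yg10 zg9) (kg xg8 yg17 zg43)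 (kg xg7 yg22 zg35) (kg xg6 yg12 zg26) (kg xg9 yg10 zg14) (kg xg9 yg10 zg15) (kg xg7 yg22 zg39) (kg xg6 yg12 zg29) (kg xg8 yg18 zg5) (kg xg7 yg22 zg42) (kg xg6 yg12 zg31) (kg xg9 yg10 zg20) (kg xg9 yg10 zg21) (kg xg9 yg10 zg24) (kg xg8 yg18 zg11) (kg xg7 yg22 zg48) (kg xg6 yg12 zg35) (kg xg6 yg12 zg36)) (@D3.rec (fun _ => Pt) (kg xg9 yg10 zg30) (kg xg9 yg10 zg31) (kg xg9 yg10 zg32) (kg xg7 yg23 zg3) (kg xg7 yg23 zg4) (kg xg6 yg12 zg40) (kg xg6 yg12 zg41) (kg xg9 yg10 zg41) (kg xg6 yg12 zg42) (kg xg9 yg10 zg42) (kg xg8 yg18 zg29) (kg xg8 yg18 zg30) (kg xg7 yg23 zg12) (kg xg7 yg23 zg13) (kg xg6 yg12 zg47) (kg xg6 yg12 zg48) (kg xg9 yg10 zg50) (kg xg9 yg11 zg0) (kg xg9 yg11 zg1) (kg xg8 yg18 zg36) (kg xg9 yg11 zg6) (kg xg8 yg18 zg38) (kg xg7 yg23 zg22) (kg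 xg6 yg13 zg2) (kg xg6 yg13 zg3) (kg xg9 yg11 zg12) (kg xg9 yg11 zg13) (kg xg9 yg11 zg14) (kg xg6 yg13 zg4) (kg xg9 yg11 zg21) (kg xg8 yg18 zg47) (kg xg8 yg18 zg48) (kg xg7 yg23 zg32) (kg xg7 yg23 zg33) (kg xg6 yg13 zg9) (kg xg6 yg13 zg10) (kg xg6 yg13 zg11) (kg xg9 yg11 zg30) (kg xg9 yg11 zg31) (kg xg9 yg11 zg32) (kg xg9 yg11 zg42) (kg xg9 yg11 zg34) (kg xg9 yg11 zg35) (kg xg7 yg23 zg43) (kg xg7 yg23 zg44) (kg xg9 yg11 zg47) (kg xg6 yg13 zg17) (kg xg6 yg13 zg16) (kg xg9 yg11 zg50) (kg xg7 yg23 zg49) (kg xg6 yg13 zg19)) (@D3.rec (fun _ => Pt) (kg xg6 yg13 zg21) (kg xg9 yg12 zg1) (kg xg9 yg12 zg2) (kg xg8 yg19 zg23) (kg xg8 yg19 zg24) (kg xg8 yg19 zg25) (kg xg7 yg24 zg6) (kg xg7 yg24 zg7) (kg xg6 yg13 zg28) (kg xg6 yg13 zg29) (kg xg6 yg13 zg30) (kg xg9 yg12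 zg14) (kg xg9 yg12 zg15) (kg xg9 yg12 zg16) (kg xg6 yg13 zg32) (kg xg6 yg13 zg33) (kg xg9 yg6 zg24) (kg xg8 yg17 zg28) (kg xg9 yg12 zg20) (kg xg8 yg19 zg37) (kg xg8 yg19 zg38) (kg xg8 yg19 zg39) (kg xg8 yg19 zg40) (kg xg8 yg19 zg41) (kg xg7 yg24 zg24) (kg xg7 yg24 zg25) (kg xg7 yg24 zg26) (kg xg6 yg13 zg42) (kg xg6 yg13 zg43) (kg xg6 yg13 zg44) (kg xg9 yg12 zg36) (kg xg9 yg12 zg37) (kg xg9 yg12 zg38) (kg xg6 yg14 zg24) (kg xg6 yg14 zg22) (kg xg6 yg13 zg46) (kg xg9 yg12 zg43) (kg xg6 yg13 zg48) (kg xg9 yg12 zg46) (kg xg8 yg20 zg33) (kg xg6 yg15 zg28) (kg xg6 yg14 zg0) (kg xg8 yg22 zg28) (kg xg9 yg12 zg47) (kg xg6 yg15 zg32) (kg xg6 yg14 zg3) (kg xg9 yg6 zg45) (kg xg8 yg20 zg42) (kg xg6 yg14 zg6) (kg xg9 yg13 zg2) (kg xg9 yg13 zg3)) (@D3.rec (fun _ => Pt)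 (kg xg6 yg15 zg41) (kg xg6 yg14 zg9) (kg xg6 yg14 zg10) (kg xg9 yg12 zg42) (kg xg9 yg13 zg8) (kg xg6 yg14 zg16) (kg xg8 yg22 zg24) (kg xg8 yg22 zg29) (kg xg6 yg16 zg2) (kg xg8 yg22 zg30) (kg xg9 yg6 zg50) (kg xg8 yg21 zg29) (kg xg6 yg16 zg18) (kg xg6 yg14 zg26) (kg xg9 yg13 zg16) (kg xg9 yg13 zg17) (kg xg6 yg16 zg22) (kg xg6 yg14 zg29) (kg xg9 yg13 zg21) (kg xg8 yg21 zg41) (kg xg6 yg16 zg26) (kg xg6 yg14 zg33) (kg xg6 yg14 zg34) (kg xg8 yg14 zg49) (kg xg9 yg13 zg26) (kg xg6 yg16 zg31) (kg xg8 yg21 zg48) (kg xg9 yg7 zg12) (kg xg9 yg7 zg15) (kg xg9 yg13 zg31) (kg xg8 yg22 zg3) (kg xg6 yg16 zg39) (kg xg6 yg14 zg42) (kg xg6 yg14 zg43) (kg xg9 yg13 zg36) (kg xg9 yg7 zg6) (kg xg9 yg13 zg37) (kg xg6 yg16 zg46) (kg xg6 yg14 zg48) (kg xg9 yg13 zg44) (kg xg9 yg7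 zg7) (kg xg6 yg14 zg49) (kg xg9 yg13 zg47) (kg xg6 yg15 zg0) (kg xg9 yg13 zg48) (kg xg8 yg21 zg18) (kg xg8 yg22 zg20) (kg xg6 yg17 zg6) (kg xg6 yg17 zg7) (kg xg6 yg15 zg5) (kg xg6 yg15 zg6)) (@D3.rec (fun _ => Pt) (kg xg9 yg14 zg3) (kg xg9 yg14 zg4) (kg xg9 yg14 zg5) (kg xg6 yg15 zg9) (kg xg8 yg24 zg31) (kg xg8 yg20 zg18) (kg xg8 yg21 zg19) (kg xg6 yg17 zg19) (kg xg6 yg17 zg20) (kg xg6 yg15 zg16) (kg xg6 yg15 zg17) (kg xg6 yg15 zg18) (kg xg9 yg14 zg14) (kg xg9 yg14 zg15) (kg xg9 yg14 zg16) (kg xg6 yg15 zg19) (kg xg6 yg15 zg21) (kg xg9 yg14 zg21) (kg xg8 yg23 zg23) (kg xg6 yg16 zg12) (kg xg6 yg15 zg23) (kg xg9 yg14 zg27) (kg xg9 yg14 zg28) (kg xg6 yg26 zg42) (kg xg6 yg15 zg26) (kg xg9 yg14 zg32) (kg xg8 yg23 zg35) (kg xg8 yg16 zg46) (kg xg6 yg15 zg30) (kg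 xg6 yg15 zg31) (kg xg9 yg14 zg37) (kg xg9 yg14 zg38) (kg xg9 yg12 zg50) (kg xg8 yg23 zg42) (kg xg6 yg15 zg35) (kg xg9 yg14 zg43) (kg xg9 yg14 zg44) (kg xg9 yg14 zg48) (kg xg8 yg23 zg48) (kg xg8 yg16 zg41) (kg xg6 yg15 zg39) (kg xg6 yg15 zg40) (kg xg9 yg15 zg3) (kg xg9 yg15 zg4) (kg xg9 yg15 zg5) (kg xg6 yg26 zg40) (kg xg9 yg13 zg7) (kg xg6 yg15 zg44) (kg xg6 yg15 zg45) (kg xg9 yg15 zg13) (kg xg6 yg15 zg46))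
def f_g_8 : D2 → D3 → Pt := @D2.rec (fun _ => D3 → Pt) (@D3.rec (fun _ => Pt) (kg xg9 yg9 zg1) (kg xg8 yg24 zg16) (kg xg8 yg24 zg17) (kg xg8 yg16 zg47) (kg xg6 yg16 zg0) (kg xg6 yg16 zg1) (kg xg8 yg26 zg18) (kg xg9 yg15 zg18) (kg xg9 yg15 zg19) (kg xg9 yg9 zg2) (kg xg8 yg24 zg29) (kg xg8 yg24 zg30) (kg xg6 yg16 zg11) (kg xg8 yg25 zg21) (kg xg8 yg26 zg19) (kg xg8 yg26 zg34) (kg xg9 yg14 zg26) (kg xg8 yg24 zg42) (kg xg8 yg24 zg49) (kg xg6 yg16 zg16) (kg xg9 yg15 zg31) (kg xg9 yg15 zg32) (kg xg9 yg15 zg35) (kg xg8 yg25 zg4) (kg xg9 yg13 zg15) (kg xg6 yg16 zg20) (kg xg6 yg16 zg21) (kg xg9 yg15 zg41) (kg xg9 yg15 zg42) (kg xg9 yg13 zg20) (kg xg6 yg16 zg24) (kg xg9 yg15 zg46) (kg xg8 yg25 zg19) (kg xg8 yg25 zg20) (kg xg8 yg13 zg3) (kg xg9 yg13 zg25) (kg xg6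 yg16 zg29) (kg xg6 yg16 zg30) (kg xg8 yg26 zg1) (kg xg9 yg16 zg2) (kg xg9 yg16 zg3) (kg xg8 yg25 zg28) (kg xg9 yg16 zg7) (kg xg8 yg25 zg30) (kg xg6 yg16 zg35) (kg xg6 yg16 zg36) (kg xg9 yg16 zg10) (kg xg9 yg8 zg20) (kg xg9 yg16 zg11) (kg xg6 yg16 zg37) (kg xg9 yg16 zg18)) (@D3.rec (fun _ => Pt) (kg xg8 yg25 zg39) (kg xg8 yg25 zg40) (kg xg9 yg8 zg14) (kg xg9 yg13 zg35) (kg xg6 yg16 zg42) (kg xg6 yg16 zg43) (kg xg6 yg16 zg44) (kg xg9 yg16 zg26) (kg xg9 yg16 zg27) (kg xg9 yg16 zg28) (kg xg9 yg16 zg38) (kg xg9 yg16 zg30) (kg xg9 yg16 zg31) (kg xg6 yg26 zg8) (kg xg9 yg16 zg41) (kg xg6 yg16 zg50) (kg xg6 yg16 zg49) (kg xg9 yg16 zg44) (kg xg9 yg13 zg46) (kg xg6 yg17 zg1) (kg xg6 yg17 zg3) (kg xg9 yg16 zg46) (kg xg9 yg16 zg47) (kg xg8 yg26 zg15) (kg xg8 yg26 zg16)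 (kg xg8 yg26 zg17) (kg xg8 yg16 zg3) (kg xg9 yg14 zg2) (kg xg6 yg17 zg10) (kg xg6 yg17 zg11) (kg xg6 yg17 zg12) (kg xg9 yg17 zg8) (kg xg9 yg17 zg9) (kg xg9 yg17 zg10) (kg xg6 yg17 zg14) (kg xg6 yg17 zg15) (kg xg8 yg24 zg26) (kg xg9 yg6 zg23) (kg xg9 yg17 zg14) (kg xg8 yg26 zg29) (kg xg8 yg26 zg30) (kg xg8 yg26 zg31) (kg xg8 yg26 zg32) (kg xg8 yg26 zg33) (kg xg9 yg14 zg12) (kg xg9 yg14 zg13) (kg xg8 yg26 zg40) (kg xg6 yg17 zg24) (kg xg6 yg17 zg25) (kg xg6 yg17 zg26) (kg xg9 yg17 zg30)) (@D3.rec (fun _ => Pt) (kg xg9 yg17 zg31) (kg xg9 yg17 zg32) (kg xg9 yg0 zg20) (kg xg8 yg2 zg3) (kg xg9 yg17 zg36) (kg xg9 yg0 zg28) (kg xg8 yg2 zg6) (kg xg6 yg17 zg32) (kg xg6 yg17 zg33) (kg xg9 yg17 zg42) (kg xg8 yg2 zg10) (kg xg6 yg17 zg36) (kg xg9 yg17 zg44) (kg xg9 yg0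 zg42) (kg xg8 yg2 zg14) (kg xg9 yg0 zg44) (kg xg9 yg17 zg47) (kg xg9 yg0 zg46) (kg xg8 yg2 zg18) (kg xg6 yg17 zg44) (kg xg6 yg17 zg45) (kg xg9 yg18 zg2) (kg xg9 yg18 zg3) (kg xg6 yg17 zg46) (kg xg9 yg18 zg6) (kg xg9 yg1 zg3) (kg xg9 yg1 zg4) (kg xg8 yg2 zg27) (kg xg8 yg2 zg28) (kg xg6 yg18 zg0) (kg xg6 yg18 zg1) (kg xg6 yg18 zg2) (kg xg9 yg18 zg15) (kg xg9 yg18 zg16) (kg xg9 yg18 zg17) (kg xg9 yg18 zg19) (kg xg9 yg18 zg20) (kg xg8 yg2 zg37) (kg xg8 yg2 zg38) (kg xg9 yg2 zg10) (kg xg6 yg18 zg7) (kg xg6 yg18 zg9) (kg xg9 yg18 zg29) (kg xg9 yg18 zg30) (kg xg9 yg1 zg30) (kg xg9 yg1 zg31) (kg xg9 yg1 zg32) (kg xg8 yg2 zg47) (kg xg8 yg2 zg48) (kg xg6 yg18 zg16) (kg xg6 yg18 zg17)) (@D3.rec (fun _ => Pt) (kg xg9 yg18 zg40) (kg xg9 yg18 zg41) (kg xg6 yg18 zg19)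 (kg xg6 yg18 zg20) (kg xg9 yg12 zg29) (kg xg9 yg17 zg23) (kg xg9 yg18 zg43) (kg xg9 yg1 zg43) (kg xg9 yg1 zg44) (kg xg9 yg1 zg45) (kg xg9 yg1 zg46) (kg xg9 yg1 zg47) (kg xg8 yg3 zg12) (kg xg8 yg3 zg13) (kg xg8 yg3 zg14) (kg xg6 yg18 zg29) (kg xg6 yg18 zg30) (kg xg6 yg18 zg31) (kg xg9 yg19 zg6) (kg xg9 yg19 zg7) (kg xg9 yg19 zg8) (kg xg9 yg2 zg4) (kg xg8 yg3 zg22) (kg xg6 yg18 zg33) (kg xg9 yg19 zg14) (kg xg9 yg19 zg15) (kg xg9 yg2 zg17) (kg xg9 yg19 zg17) (kg xg9 yg2 zg19) (kg xg8 yg3 zg29) (kg xg6 yg18 zg39) (kg xg6 yg18 zg40) (kg xg9 yg19 zg23) (kg xg6 yg18 zg41) (kg xg9 yg19 zg25) (kg xg9 yg2 zg27) (kg xg9 yg2 zg28) (kg xg8 yg3 zg37) (kg xg8 yg3 zg38) (kg xg6 yg18 zg46) (kg xg6 yg18 zg47) (kg xg9 yg19 zg33) (kg xg9 yg19 zg34) (kg xg9 yg19 zg35) (kg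 xg6 yg18 zg50) (kg xg9 yg19 zg39) (kg xg9 yg19 zg40) (kg xg9 yg2 zg48) (kg xg9 yg2 zg49) (kg xg9 yg2 zg50) (kg xg8 yg3 zg50)) (@D3.rec (fun _ => Pt) (kg xg8 yg4 zg0) (kg xg6 yg19 zg6) (kg xg6 yg19 zg7) (kg xg9 yg19 zg50) (kg xg9 yg20 zg0) (kg xg9 yg20 zg2) (kg xg9 yg3 zg7) (kg xg6 yg19 zg9) (kg xg9 yg20 zg6) (kg xg9 yg3 zg10) (kg xg9 yg3 zg11) (kg xg8 yg4 zg11) (kg xg8 yg4 zg12) (kg xg6 yg19 zg14) (kg xg6 yg19 zg15) (kg xg6 yg19 zg16) (kg xg9 yg20 zg15) (kg xg9 yg20 zg16) (kg xg9 yg20 zg17) (kg xg9 yg20 zg27) (kg xg9 yg20 zg19) (kg xg9 yg20 zg20) (kg xg6 yg19 zg18) (kg xg9 yg20 zg30) (kg xg9 yg20 zg31) (kg xg9 yg3 zg26) (kg xg9 yg3 zg27) (kg xg9 yg3 zg28) (kg xg8 yg4 zg28) (kg xg8 yg4 zg29) (kg xg8 yg4 zg30) (kg xg6 yg19 zg26) (kg xg6 yg19 zg27) (kg xg6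 yg19 zg28) (kg xg9 yg21 zg2) (kg xg6 yg19 zg30) (kg xg6 yg19 zg31) (kg xg9 yg20 zg47) (kg xg9 yg20 zg48) (kg xg9 yg20 zg49) (kg xg9 yg21 zg10) (kg xg9 yg21 zg0) (kg xg9 yg21 zg1) (kg xg6 yg19 zg29) (kg xg9 yg21 zg15) (kg xg9 yg21 zg4) (kg xg9 yg21 zg17) (kg xg8 yg4 zg47) (kg xg6 yg19 zg34) (kg xg9 yg21 zg20) (kg xg8 yg4 zg50)) (@D3.rec (fun _ => Pt) (kg xg6 yg19 zg37) (kg xg8 yg5 zg1) (kg xg6 yg19 zg41) (kg xg6 yg19 zg42) (kg xg9 yg21 zg22) (kg xg9 yg6 zg22) (kg xg9 yg21 zg23) (kg xg9 yg4 zg13) (kg xg9 yg4 zg14) (kg xg9 yg4 zg15) (kg xg9 yg4 zg16) (kg xg9 yg4 zg17) (kg xg8 yg5 zg12) (kg xg8 yg5 zg13) (kg xg8 yg5 zg14) (kg xg6 yg20 zg0) (kg xg6 yg20 zg1) (kg xg6 yg20 zg2) (kg xg9 yg21 zg39) (kg xg9 yg21 zg40) (kg xg9 yg21 zg41) (kg xg6 yg20 zg7) (kg xg9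 yg6 zg10) (kg xg9 yg4 zg41) (kg xg9 yg4 zg40) (kg xg9 yg4 zg39) (kg xg9 yg4 zg35) (kg xg9 yg4 zg36) (kg xg9 yg4 zg37) (kg xg9 yg4 zg38) (kg xg8 yg5 zg30) (kg xg8 yg5 zg31) (kg xg6 yg20 zg19) (kg xg6 yg20 zg20) (kg xg6 yg20 zg21) (kg xg9 yg21 zg47) (kg xg9 yg21 zg48) (kg xg6 yg24 zg1) (kg xg9 yg21 zg49) (kg xg9 yg5 zg1) (kg xg6 yg20 zg24) (kg xg9 yg22 zg2) (kg xg9 yg5 zg4) (kg xg8 yg5 zg43) (kg xg6 yg20 zg30) (kg xg9 yg22 zg4) (kg xg9 yg22 zg5) (kg xg9 yg5 zg9) (kg xg9 yg5 zg10) (kg xg8 yg5 zg49) (kg xg6 yg20 zg35)) (@D3.rec (fun _ => Pt) (kg xg6 yg20 zg38) (kg xg6 yg20 zg39) (kg xg6 yg20 zg40) (kg xg9 yg5 zg13) (kg xg6 yg21 zg17) (kg xg6 yg21 zg5) (kg xg9 yg5 zg8) (kg xg9 yg1 zg41) (kg xg9 yg1 zg40) (kg xg8 yg6 zg9) (kg xg8 yg6 zg10) (kg xg8 yg6 zg11)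 (kg xg6 yg21 zg1) (kg xg6 yg21 zg2) (kg xg6 yg21 zg3) (kg xg9 yg22 zg12) (kg xg9 yg22 zg13) (kg xg6 yg24 zg0) (kg xg9 yg5 zg14) (kg xg9 yg18 zg49) (kg xg9 yg5 zg17) (kg xg8 yg6 zg21) (kg xg6 yg21 zg11) (kg xg9 yg22 zg17) (kg xg9 yg6 zg21) (kg xg9 yg5 zg22) (kg xg9 yg5 zg23) (kg xg8 yg6 zg27) (kg xg6 yg21 zg16) (kg xg9 yg18 zg48) (kg xg9 yg5 zg27) (kg xg9 yg5 zg28) (kg xg6 yg21 zg20) (kg xg9 yg22 zg29) (kg xg9 yg22 zg30) (kg xg9 yg5 zg32) (kg xg9 yg5 zg33) (kg xg9 yg5 zg34) (kg xg8 yg6 zg38) (kg xg8 yg6 zg39) (kg xg6 yg21 zg27) (kg xg6 yg21 zg28) (kg xg9 yg22 zg40) (kg xg9 yg22 zg41) (kg xg6 yg21 zg30) (kg xg9 yg22 zg43) (kg xg9 yg6 zg20) (kg xg9 yg5 zg43) (kg xg9 yg5 zg44) (kg xg8 yg6 zg49) (kg xg6 yg21 zg35)) (@D3.rec (fun _ => Pt) (kg xg6 yg21 zg38)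 (kg xg9 yg6 zg8) (kg xg9 yg6 zg6) (kg xg9 yg6 zg5) (kg xg9 yg6 zg4) (kg xg9 yg6 zg7) (kg xg9 yg6 zg9) (kg xg8 yg7 zg7) (kg xg8 yg7 zg8) (kg xg6 yg22 zg1) (kg xg6 yg22 zg2) (kg xg6 yg22 zg3) (kg xg9 yg23 zg2) (kg xg9 yg23 zg3) (kg xg9 yg23 zg4) (kg xg6 yg22 zg9) (kg xg6 yg22 zg10) (kg xg6 yg22 zg17) (kg xg8 yg14 zg50) (kg xg9 yg23 zg5) (kg xg8 yg14 zg30) (kg xg8 yg14 zg35) (kg xg8 yg14 zg36) (kg xg9 yg7 zg1) (kg xg8 yg14 zg40) (kg xg6 yg22 zg30) (kg xg6 yg23 zg30) (kg xg6 yg22 zg28) (kg xg6 yg22 zg27) (kg xg9 yg23 zg12) (kg xg6 yg23 zg35) (kg xg8 yg7 zg31) (kg xg8 yg7 zg32) (kg xg6 yg23 zg43) (kg xg6 yg22 zg37) (kg xg6 yg22 zg38) (kg xg6 yg22 zg39) (kg xg8 yg21 zg1) (kg xg9 yg23 zg17) (kg xg9 yg23 zg18) (kg xg8 yg13 zg9) (kg xg8 yg13 zg10) (kg xg8 yg13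 zg11) (kg xg8 yg7 zg43) (kg xg8 yg7 zg44) (kg xg8 yg7 zg45) (kg xg8 yg7 zg46) (kg xg8 yg7 zg47) (kg xg6 yg24 zg7) (kg xg6 yg24 zg8) (kg xg6 yg24 zg9)) (@D3.rec (fun _ => Pt) (kg xg6 yg22 zg50) (kg xg6 yg23 zg0) (kg xg6 yg23 zg1) (kg xg9 yg23 zg31) (kg xg9 yg23 zg32) (kg xg9 yg23 zg33) (kg xg8 yg16 zg25) (kg xg8 yg15 zg26) (kg xg8 yg8 zg8) (kg xg8 yg8 zg9) (kg xg8 yg13 zg4) (kg xg6 yg23 zg13) (kg xg6 yg23 zg14) (kg xg8 yg25 zg11) (kg xg8 yg26 zg2) (kg xg9 yg23 zg41) (kg xg8 yg15 zg41) (kg xg8 yg15 zg49) (kg xg7 yg0 zg1) (kg xg9 yg23 zg50) (kg xg7 yg1 zg21) (kg xg6 yg23 zg23) (kg xg6 yg23 zg24) (kg xg6 yg23 zg25) (kg xg9 yg24 zg4) (kg xg6 yg23 zg27) (kg xg6 yg23 zg28) (kg xg8 yg24 zg47) (kg xg9 yg24 zg0) (kg xg9 yg24 zg1) (kg xg9 yg24 zg12) (kg xg9 yg24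 zg3) (kg xg9 yg16 zg45) (kg xg6 yg23 zg26) (kg xg9 yg24 zg17) (kg xg9 yg24 zg6) (kg xg9 yg8 zg5) (kg xg8 yg16 zg11) (kg xg6 yg23 zg31) (kg xg9 yg24 zg21) (kg xg9 yg23 zg13) (kg xg6 yg23 zg34) (kg xg8 yg13 zg12) (kg xg8 yg8 zg43) (kg xg8 yg8 zg44) (kg xg8 yg8 zg45) (kg xg8 yg8 zg46) (kg xg8 yg8 zg47) (kg xg8 yg15 zg43) (kg xg8 yg16 zg4) (kg xg9 yg23 zg16)) (@D3.rec (fun _ => Pt) (kg xg6 yg23 zg47) (kg xg6 yg23 zg48) (kg xg6 yg23 zg49) (kg xg9 yg24 zg31) (kg xg9 yg24 zg32) (kg xg9 yg24 zg33) (kg xg8 yg18 zg0) (kg xg9 yg19 zg11) (kg xg9 yg12 zg41) (kg xg8 yg9 zg9) (kg xg8 yg9 zg10) (kg xg8 yg9 zg11) (kg xg8 yg9 zg12) (kg xg8 yg9 zg13) (kg xg8 yg9 zg14) (kg xg8 yg22 zg47) (kg xg9 yg23 zg29) (kg xg9 yg23 zg30) (kg xg6 yg24 zg13) (kg xg6 yg24 zg14) (kg xg6 yg24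 zg15) (kg xg9 yg24 zg48) (kg xg9 yg24 zg49) (kg xg9 yg24 zg50) (kg xg8 yg9 zg24) (kg xg8 yg9 zg25) (kg xg8 yg9 zg26) (kg xg8 yg9 zg27) (kg xg6 yg24 zg22) (kg xg6 yg24 zg23) (kg xg6 yg24 zg24) (kg xg9 yg25 zg10) (kg xg9 yg25 zg11) (kg xg9 yg25 zg12) (kg xg6 yg26 zg1) (kg xg6 yg25 zg37) (kg xg8 yg9 zg36) (kg xg8 yg9 zg37) (kg xg8 yg9 zg38) (kg xg8 yg9 zg39) (kg xg8 yg9 zg40) (kg xg8 yg9 zg41) (kg xg8 yg9 zg42) (kg xg8 yg9 zg43) (kg xg6 yg24 zg35) (kg xg6 yg24 zg36) (kg xg6 yg24 zg37) (kg xg9 yg25 zg27) (kg xg9 yg25 zg28) (kg xg9 yg25 zg29) (kg xg6 yg26 zg2)) (@D3.rec (fun _ => Pt) (kg xg8 yg13 zg16) (kg xg8 yg10 zg1) (kg xg8 yg10 zg2) (kg xg8 yg10 zg3) (kg xg9 yg25 zg42) (kg xg8 yg10 zg5) (kg xg8 yg10 zg6) (kg xg8 yg10 zg7) (kg xg8 yg10 zg8) (kg xg8 yg10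 zg9) (kg xg9 yg10 zg46) (kg xg8 yg10 zg11) (kg xg8 yg10 zg12) (kg xg6 yg25 zg1) (kg xg6 yg25 zg2) (kg xg6 yg25 zg3) (kg xg9 yg26 zg7) (kg xg6 yg25 zg5) (kg xg6 yg25 zg6) (kg xg6 yg24 zg49) (kg xg9 yg26 zg12) (kg xg6 yg25 zg9) (kg xg9 yg26 zg2) (kg xg9 yg26 zg3) (kg xg9 yg26 zg17) (kg xg9 yg26 zg5) (kg xg9 yg26 zg6) (kg xg6 yg25 zg4) (kg xg9 yg26 zg22) (kg xg9 yg26 zg9) (kg xg9 yg26 zg10) (kg xg8 yg10 zg31) (kg xg6 yg25 zg8) (kg xg9 yg26 zg27) (kg xg6 yg25 zg10) (kg xg9 yg26 zg29) (kg xg9 yg26 zg28) (kg xg6 yg25 zg13) (kg xg8 yg10 zg38) (kg xg6 yg25 zg32) (kg xg8 yg10 zg40) (kg xg8 yg10 zg41) (kg xg8 yg10 zg42) (kg xg8 yg10 zg43) (kg xg8 yg10 zg44) (kg xg8 yg10 zg45) (kg xg6 yg25 zg31) (kg xg6 yg25 zg33) (kg xg9 yg25 zg17) (kg xg9 yg25 zg33) (kg xg9 yg26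 zg33)) (@D3.rec (fun _ => Pt) (kg xg6 yg25 zg47) (kg xg8 yg11 zg1) (kg xg8 yg11 zg2) (kg xg8 yg11 zg3) (kg xg8 yg11 zg4) (kg xg6 yg25 zg48) (kg xg6 yg25 zg49) (kg xg9 yg25 zg16) (kg xg9 yg26 zg35) (kg xg9 yg26 zg36) (kg xg8 yg11 zg10) (kg xg6 yg26 zg3) (kg xg8 yg11 zg12) (kg xg6 yg26 zg5) (kg xg9 yg7 zg50) (kg xg9 yg7 zg36) (kg xg6 yg26 zg9) (kg xg9 yg23 zg46) (kg xg8 yg11 zg18) (kg xg8 yg11 zg19) (kg xg6 yg26 zg14) (kg xg6 yg26 zg17) (kg xg9 yg26 zg42) (kg xg6 yg26 zg19) (kg xg6 yg26 zg20) (kg xg9 yg26 zg43) (kg xg8 yg11 zg26) (kg xg8 yg11 zg27) (kg xg8 yg11 zg28) (kg xg6 yg26 zg28) (kg xg6 yg26 zg29) (kg xg7 yg1 zg6) (kg xg9 yg26 zg45) (kg xg6 yg26 zg32) (kg xg8 yg11 zg34) (kg xg9 yg6 zg46) (kg xg9 yg7 zg0) (kg xg6 yg26 zg38) (kg xg9 yg15 zg11) (kg xg6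 yg26 zg43) (kg xg9 yg14 zg31) (kg xg6 yg26 zg45) (kg xg9 yg26 zg47) (kg xg9 yg8 zg21) (kg xg6 yg26 zg49) (kg xg6 yg26 zg50) (kg xg9 yg23 zg49) (kg xg8 yg11 zg47) (kg xg8 yg11 zg48) (kg xg7 yg0 zg5) (kg xg8 yg11 zg50)) (@D3.rec (fun _ => Pt) (kg xg8 yg12 zg0) (kg xg8 yg12 zg1) (kg xg7 yg0 zg11) (kg xg7 yg0 zg12) (kg xg10 yg0 zg3) (kg xg8 yg12 zg5) (kg xg8 yg12 zg6) (kg xg8 yg12 zg7) (kg xg8 yg12 zg8) (kg xg8 yg12 zg9) (kg xg10 yg0 zg8) (kg xg7 yg0 zg24) (kg xg7 yg0 zg23) (kg xg10 yg0 zg11) (kg xg7 yg0 zg25) (kg xg8 yg12 zg15) (kg xg7 yg0 zg27) (kg xg10 yg0 zg13) (kg xg8 yg12 zg18) (kg xg8 yg12 zg19) (kg xg8 yg12 zg20) (kg xg9 yg0 zg0) (kg xg8 yg12 zg22) (kg xg8 yg12 zg23) (kg xg9 yg0 zg1) (kg xg8 yg12 zg25) (kg xg8 yg12 zg26) (kg xg7 yg0 zg44) (kg xg9 yg0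 zg14) (kg xg7 yg0 zg46) (kg xg8 yg12 zg30) (kg xg8 yg12 zg31) (kg xg8 yg12 zg32) (kg xg8 yg12 zg33) (kg xg9 yg0 zg19) (kg xg8 yg17 zg38) (kg xg9 yg2 zg1) (kg xg8 yg12 zg37) (kg xg8 yg12 zg38) (kg xg8 yg13 zg40) (kg xg7 yg1 zg9) (kg xg7 yg1 zg10) (kg xg10 yg0 zg25) (kg xg7 yg1 zg16) (kg xg9 yg6 zg37) (kg xg7 yg1 zg15) (kg xg7 yg1 zg17) (kg xg7 yg1 zg19) (kg xg10 yg0 zg27) (kg xg7 yg1 zg23) (kg xg8 yg12 zg50)) (@D3.rec (fun _ => Pt) (kg xg8 yg13 zg0) (kg xg7 yg2 zg0) (kg xg7 yg2 zg1) (kg xg8 yg0 zg34) (kg xg8 yg8 zg10) (kg xg10 yg0 zg37) (kg xg7 yg2 zg11) (kg xg7 yg2 zg12) (kg xg7 yg20 zg26) (kg xg8 yg7 zg40) (kg xg8 yg7 zg41) (kg xg8 yg7 zg42) (kg xg8 yg8 zg42) (kg xg10 yg0 zg44) (kg xg10 yg0 zg32) (kg xg10 yg0 zg33) (kg xg8 yg10 zg0) (kg xg7 yg2 zg8) (kg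 xg7 yg2 zg9) (kg xg10 yg1 zg0) (kg xg10 yg0 zg49) (kg xg10 yg0 zg50) (kg xg7 yg2 zg10) (kg xg10 yg1 zg4) (kg xg10 yg0 zg39) (kg xg7 yg2 zg15) (kg xg7 yg2 zg16) (kg xg10 yg1 zg7) (kg xg10 yg1 zg8) (kg xg10 yg1 zg9) (kg xg8 yg13 zg30) (kg xg8 yg13 zg31) (kg xg8 yg13 zg32) (kg xg8 yg13 zg33) (kg xg7 yg2 zg24) (kg xg7 yg2 zg25) (kg xg7 yg2 zg26) (kg xg10 yg1 zg18) (kg xg10 yg1 zg19) (kg xg10 yg1 zg20) (kg xg8 yg12 zg39) (kg xg7 yg2 zg32) (kg xg7 yg18 zg47) (kg xg7 yg2 zg38) (kg xg10 yg1 zg24) (kg xg7 yg2 zg42) (kg xg7 yg19 zg2) (kg xg7 yg19 zg3) (kg xg7 yg2 zg45) (kg xg10 yg1 zg29) (kg xg7 yg19 zg13)) (@D3.rec (fun _ => Pt) (kg xg7 yg3 zg10) (kg xg7 yg3 zg0) (kg xg7 yg19 zg15) (kg xg7 yg19 zg4) (kg xg7 yg3 zg3) (kg xg7 yg19 zg5) (kg xg7 yg19 zg1) (kg xg10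 yg1 zg28) (kg xg7 yg19 zg7) (kg xg10 yg1 zg33) (kg xg7 yg3 zg12) (kg xg10 yg1 zg37) (kg xg7 yg4 zg9) (kg xg7 yg3 zg14) (kg xg10 yg1 zg41) (kg xg10 yg1 zg42) (kg xg8 yg14 zg16) (kg xg7 yg18 zg49) (kg xg7 yg4 zg15) (kg xg7 yg3 zg18) (kg xg7 yg20 zg0) (kg xg10 yg1 zg47) (kg xg7 yg4 zg19) (kg xg7 yg3 zg21) (kg xg7 yg4 zg23) (kg xg7 yg3 zg26) (kg xg7 yg20 zg7) (kg xg7 yg4 zg28) (kg xg10 yg1 zg50) (kg xg7 yg3 zg29) (kg xg8 yg7 zg20) (kg xg8 yg14 zg31) (kg xg8 yg14 zg32) (kg xg10 yg1 zg35) (kg xg7 yg3 zg31) (kg xg8 yg7 zg21) (kg xg8 yg7 zg22) (kg xg8 yg14 zg37) (kg xg8 yg14 zg38) (kg xg7 yg19 zg35) (kg xg8 yg7 zg24) (kg xg7 yg3 zg39) (kg xg10 yg2 zg9) (kg xg7 yg19 zg42) (kg xg7 yg5 zg1) (kg xg7 yg3 zg41) (kg xg10 yg2 zg12) (kg xg10 yg2 zg13) (kg xg7 yg3 zg45)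 (kg xg7 yg25 zg23) (kg xg8 yg7 zg18)) (@D3.rec (fun _ => Pt) (kg xg10 yg2 zg20) (kg xg8 yg15 zg1) (kg xg8 yg15 zg2) (kg xg7 yg4 zg1) (kg xg7 yg19 zg22) (kg xg7 yg19 zg25) (kg xg7 yg4 zg6) (kg xg10 yg2 zg26) (kg xg7 yg20 zg14) (kg xg10 yg1 zg36) (kg xg7 yg4 zg8) (kg xg10 yg2 zg32) (kg xg10 yg2 zg33) (kg xg10 yg1 zg40) (kg xg7 yg4 zg11) (kg xg7 yg4 zg12) (kg xg10 yg2 zg39) (kg xg10 yg2 zg40) (kg xg7 yg5 zg42) (kg xg10 yg2 zg43) (kg xg7 yg20 zg22) (kg xg10 yg1 zg46) (kg xg7 yg4 zg17) (kg xg7 yg4 zg18) (kg xg10 yg2 zg49) (kg xg10 yg2 zg50) (kg xg8 yg8 zg7) (kg xg7 yg4 zg21) (kg xg7 yg21 zg30) (kg xg7 yg5 zg22) (kg xg7 yg20 zg27) (kg xg7 yg19 zg19) (kg xg7 yg20 zg28) (kg xg7 yg4 zg26) (kg xg7 yg4 zg27) (kg xg10 yg3 zg5) (kg xg10 yg3 zg6) (kg xg7 yg21 zg36)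 (kg xg10 yg3 zg10) (kg xg7 yg4 zg29) (kg xg10 yg3 zg13) (kg xg8 yg8 zg16) (kg xg7 yg4 zg31) (kg xg8 yg8 zg48) (kg xg10 yg3 zg16) (kg xg7 yg6 zg18) (kg xg7 yg6 zg19) (kg xg7 yg4 zg34) (kg xg7 yg20 zg34) (kg xg8 yg8 zg17) (kg xg7 yg4 zg36)) (@D3.rec (fun _ => Pt) (kg xg10 yg3 zg25) (kg xg10 yg3 zg26) (kg xg7 yg4 zg40) (kg xg8 yg1 zg26) (kg xg8 yg8 zg49) (kg xg10 yg3 zg32) (kg xg7 yg6 zg33) (kg xg7 yg6 zg34) (kg xg10 yg3 zg35) (kg xg7 yg20 zg44) (kg xg7 yg4 zg47) (kg xg8 yg8 zg37) (kg xg7 yg20 zg50) (kg xg10 yg2 zg8) (kg xg7 yg4 zg50) (kg xg10 yg3 zg41) (kg xg10 yg3 zg42) (kg xg10 yg3 zg45) (kg xg7 yg21 zg4) (kg xg7 yg20 zg24) (kg xg7 yg5 zg3) (kg xg7 yg5 zg4) (kg xg10 yg4 zg0) (kg xg10 yg4 zg1) (kg xg10 yg4 zg2) (kg xg8 yg8 zg6) (kg xg7 yg5 zg8) (kg xg7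 yg5 zg9) (kg xg10 yg4 zg12) (kg xg10 yg4 zg10) (kg xg10 yg4 zg11) (kg xg7 yg5 zg10) (kg xg10 yg4 zg16) (kg xg7 yg7 zg14) (kg xg7 yg5 zg13) (kg xg10 yg2 zg45) (kg xg7 yg21 zg20) (kg xg7 yg21 zg21) (kg xg7 yg20 zg25) (kg xg7 yg5 zg18) (kg xg7 yg5 zg19) (kg xg7 yg26 zg39) (kg xg10 yg4 zg21) (kg xg7 yg21 zg23) (kg xg10 yg3 zg4) (kg xg7 yg21 zg34) (kg xg7 yg26 zg27) (kg xg8 yg0 zg3) (kg xg7 yg21 zg48) (kg xg8 yg16 zg49) (kg xg7 yg5 zg31)) (@D3.rec (fun _ => Pt) (kg xg10 yg4 zg28) (kg xg10 yg4 zg29) (kg xg10 yg4 zg33) (kg xg7 yg22 zg3) (kg xg8 yg17 zg4) (kg xg7 yg5 zg35) (kg xg7 yg5 zg36) (kg xg10 yg4 zg39) (kg xg10 yg4 zg40) (kg xg10 yg4 zg41) (kg xg8 yg17 zg10) (kg xg8 yg17 zg11) (kg xg7 yg5 zg40) (kg xg7 yg5 zg41) (kg xg10 yg4 zg50) (kg xg10 yg5 zg0) (kg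 xg7 yg5 zg43) (kg xg10 yg5 zg2) (kg xg7 yg22 zg12) (kg xg7 yg22 zg13) (kg xg8 yg17 zg20) (kg xg8 yg17 zg21) (kg xg7 yg5 zg48) (kg xg7 yg5 zg49) (kg xg10 yg5 zg10) (kg xg10 yg5 zg11) (kg xg10 yg5 zg12) (kg xg7 yg6 zg1) (kg xg7 yg24 zg17) (kg xg10 yg5 zg16) (kg xg7 yg22 zg22) (kg xg7 yg7 zg27) (kg xg7 yg22 zg23) (kg xg8 yg17 zg33) (kg xg8 yg17 zg34) (kg xg7 yg6 zg8) (kg xg7 yg6 zg9) (kg xg7 yg6 zg10) (kg xg8 yg12 zg35) (kg xg10 yg5 zg26) (kg xg10 yg5 zg27) (kg xg7 yg6 zg11) (kg xg10 yg5 zg33) (kg xg7 yg22 zg34) (kg xg8 yg17 zg44) (kg xg7 yg6 zg13) (kg xg10 yg5 zg39) (kg xg10 yg5 zg40) (kg xg8 yg17 zg48) (kg xg7 yg6 zg16) (kg xg7 yg6 zg17)) (@D3.rec (fun _ => Pt) (kg xg8 yg9 zg6) (kg xg10 yg5 zg45) (kg xg10 yg5 zg46) (kg xg10 yg3 zg19) (kg xg10 yg3 zg20)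 (kg xg7 yg22 zg41) (kg xg8 yg18 zg6) (kg xg7 yg6 zg21) (kg xg10 yg6 zg4) (kg xg10 yg6 zg5) (kg xg10 yg6 zg9) (kg xg7 yg22 zg47) (kg xg8 yg18 zg12) (kg xg7 yg6 zg25) (kg xg7 yg6 zg26) (kg xg10 yg6 zg15) (kg xg10 yg6 zg16) (kg xg10 yg6 zg17) (kg xg8 yg18 zg18) (kg xg7 yg6 zg30) (kg xg7 yg6 zg31) (kg xg10 yg6 zg25) (kg xg10 yg6 zg23) (kg xg10 yg6 zg24) (kg xg7 yg6 zg32) (kg xg10 yg6 zg29) (kg xg10 yg3 zg34) (kg xg7 yg6 zg35) (kg xg10 yg6 zg31) (kg xg7 yg23 zg10) (kg xg7 yg23 zg11) (kg xg8 yg18 zg31) (kg xg7 yg6 zg40) (kg xg7 yg6 zg41) (kg xg10 yg6 zg35) (kg xg10 yg6 zg36) (kg xg7 yg23 zg19) (kg xg10 yg6 zg40) (kg xg7 yg23 zg21) (kg xg8 yg18 zg39) (kg xg7 yg6 zg46) (kg xg7 yg6 zg47) (kg xg10 yg6 zg46) (kg xg10 yg6 zg47) (kg xg10 yg6 zg48) (kg xg7 yg6 zg48)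 (kg xg10 yg7 zg4) (kg xg7 yg23 zg30) (kg xg7 yg23 zg31) (kg xg8 yg18 zg49) (kg xg8 yg18 zg50)) (@D3.rec (fun _ => Pt) (kg xg7 yg7 zg2) (kg xg7 yg7 zg3) (kg xg7 yg7 zg4) (kg xg10 yg7 zg13) (kg xg10 yg7 zg14) (kg xg10 yg7 zg15) (kg xg10 yg7 zg25) (kg xg10 yg7 zg17) (kg xg10 yg7 zg18) (kg xg8 yg19 zg9) (kg xg8 yg19 zg10) (kg xg10 yg7 zg31) (kg xg7 yg7 zg10) (kg xg7 yg7 zg11) (kg xg7 yg7 zg9) (kg xg10 yg7 zg35) (kg xg10 yg7 zg33) (kg xg8 yg19 zg17) (kg xg7 yg7 zg13) (kg xg10 yg7 zg39) (kg xg7 yg7 zg16) (kg xg10 yg5 zg6) (kg xg10 yg7 zg40) (kg xg7 yg24 zg3) (kg xg7 yg24 zg4) (kg xg7 yg24 zg5) (kg xg8 yg19 zg26) (kg xg8 yg19 zg27) (kg xg7 yg7 zg23) (kg xg7 yg7 zg24) (kg xg7 yg7 zg25) (kg xg10 yg8 zg0) (kg xg10 yg8 zg1) (kg xg10 yg8 zg2) (kg xg7 yg7 zg28) (kg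 xg10 yg5 zg20) (kg xg10 yg5 zg22) (kg xg7 yg24 zg19) (kg xg7 yg24 zg20) (kg xg7 yg24 zg21) (kg xg7 yg24 zg22) (kg xg7 yg24 zg23) (kg xg8 yg19 zg42) (kg xg8 yg19 zg43) (kg xg8 yg19 zg44) (kg xg7 yg7 zg37) (kg xg7 yg7 zg38) (kg xg7 yg7 zg39) (kg xg10 yg8 zg18) (kg xg10 yg8 zg19) (kg xg10 yg8 zg20)) (@D3.rec (fun _ => Pt) (kg xg8 yg20 zg0) (kg xg7 yg8 zg0) (kg xg8 yg20 zg2) (kg xg8 yg20 zg3) (kg xg7 yg7 zg48) (kg xg7 yg7 zg45) (kg xg10 yg8 zg30) (kg xg10 yg8 zg28) (kg xg10 yg8 zg29) (kg xg8 yg20 zg9) (kg xg8 yg20 zg10) (kg xg10 yg8 zg25) (kg xg10 yg8 zg26) (kg xg7 yg10 zg13) (kg xg7 yg8 zg3) (kg xg7 yg10 zg17) (kg xg7 yg8 zg6) (kg xg7 yg8 zg7) (kg xg7 yg26 zg5) (kg xg10 yg8 zg40) (kg xg7 yg10 zg22) (kg xg10 yg8 zg44) (kg xg7 yg8 zg10) (kg xg10 yg8 zg47) (kg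 xg8 yg20 zg24) (kg xg10 yg8 zg49) (kg xg7 yg8 zg12) (kg xg10 yg9 zg2) (kg xg7 yg10 zg30) (kg xg7 yg8 zg14) (kg xg10 yg8 zg35) (kg xg10 yg9 zg6) (kg xg8 yg20 zg32) (kg xg7 yg24 zg39) (kg xg7 yg10 zg36) (kg xg7 yg8 zg18) (kg xg10 yg8 zg31) (kg xg10 yg9 zg13) (kg xg7 yg10 zg40) (kg xg7 yg8 zg21) (kg xg7 yg8 zg22) (kg xg10 yg9 zg18) (kg xg7 yg24 zg47) (kg xg7 yg10 zg45) (kg xg7 yg8 zg24) (kg xg10 yg9 zg24) (kg xg10 yg9 zg25) (kg xg7 yg10 zg49) (kg xg7 yg8 zg27) (kg xg7 yg8 zg28) (kg xg10 yg9 zg14)) (@D3.rec (fun _ => Pt) (kg xg10 yg9 zg31) (kg xg8 yg7 zg37) (kg xg8 yg21 zg2) (kg xg8 yg21 zg3) (kg xg10 yg9 zg37) (kg xg7 yg20 zg10) (kg xg7 yg11 zg8) (kg xg7 yg8 zg34) (kg xg7 yg8 zg35) (kg xg10 yg9 zg7) (kg xg10 yg9 zg42) (kg xg7 yg11 zg13) (kg xg7 yg8 zg38)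 (kg xg7 yg21 zg35) (kg xg7 yg20 zg11) (kg xg7 yg11 zg18) (kg xg7 yg11 zg19) (kg xg7 yg8 zg44) (kg xg7 yg25 zg45) (kg xg7 yg26 zg6) (kg xg10 yg9 zg47) (kg xg10 yg9 zg0) (kg xg7 yg8 zg46) (kg xg10 yg10 zg2) (kg xg7 yg11 zg28) (kg xg7 yg8 zg48) (kg xg10 yg10 zg5) (kg xg7 yg8 zg50) (kg xg10 yg10 zg7) (kg xg7 yg25 zg11) (kg xg7 yg11 zg34) (kg xg7 yg9 zg1) (kg xg10 yg10 zg13) (kg xg10 yg10 zg14) (kg xg7 yg11 zg38) (kg xg7 yg9 zg4) (kg xg7 yg9 zg5) (kg xg10 yg10 zg19) (kg xg10 yg10 zg20) (kg xg8 yg21 zg39) (kg xg10 yg10 zg23) (kg xg7 yg25 zg19) (kg xg7 yg11 zg46) (kg xg7 yg9 zg10) (kg xg7 yg9 zg11) (kg xg10 yg10 zg26) (kg xg10 yg10 zg27) (kg xg7 yg12 zg0) (kg xg7 yg25 zg26) (kg xg7 yg12 zg2) (kg xg7 yg9 zg15)) (@D3.rec (fun _ => Pt) (kg xg10 yg10 zg34) (kg xg10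 yg10 zg35) (kg xg10 yg10 zg39) (kg xg7 yg25 zg30) (kg xg7 yg12 zg8) (kg xg7 yg9 zg19) (kg xg7 yg9 zg20) (kg xg10 yg10 zg44) (kg xg10 yg10 zg45) (kg xg10 yg10 zg46) (kg xg7 yg12 zg15) (kg xg7 yg9 zg24) (kg xg7 yg9 zg25) (kg xg10 yg11 zg4) (kg xg10 yg11 zg2) (kg xg10 yg11 zg3) (kg xg7 yg9 zg26) (kg xg10 yg11 zg8) (kg xg8 yg22 zg18) (kg xg7 yg9 zg29) (kg xg7 yg25 zg46) (kg xg7 yg12 zg29) (kg xg7 yg9 zg34) (kg xg7 yg9 zg35) (kg xg7 yg25 zg6) (kg xg10 yg11 zg10) (kg xg10 yg11 zg11) (kg xg7 yg9 zg43) (kg xg7 yg24 zg42) (kg xg7 yg25 zg7) (kg xg7 yg25 zg9) (kg xg7 yg12 zg49) (kg xg7 yg12 zg50) (kg xg7 yg9 zg46) (kg xg10 yg11 zg18) (kg xg10 yg11 zg19) (kg xg7 yg13 zg3) (kg xg7 yg9 zg50) (kg xg10 yg11 zg22) (kg xg10 yg11 zg23) (kg xg7 yg10 zg3) (kg xg7 yg10 zg2)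 (kg xg10 yg11 zg25) (kg xg7 yg10 zg5) (kg xg7 yg10 zg6) (kg xg10 yg11 zg26) (kg xg10 yg11 zg27) (kg xg8 yg9 zg15) (kg xg7 yg13 zg15) (kg xg7 yg13 zg16) (kg xg8 yg22 zg50)) (@D3.rec (fun _ => Pt) (kg xg7 yg10 zg11) (kg xg7 yg10 zg12) (kg xg10 yg11 zg35) (kg xg10 yg11 zg36) (kg xg10 yg8 zg37) (kg xg7 yg12 zg48) (kg xg8 yg23 zg6) (kg xg8 yg23 zg7) (kg xg10 yg8 zg38) (kg xg10 yg8 zg39) (kg xg7 yg10 zg20) (kg xg7 yg10 zg21) (kg xg10 yg11 zg47) (kg xg10 yg11 zg48) (kg xg10 yg11 zg49) (kg xg10 yg12 zg2) (kg xg7 yg10 zg23) (kg xg10 yg12 zg6) (kg xg10 yg8 zg46) (kg xg7 yg10 zg25) (kg xg10 yg12 zg10) (kg xg7 yg10 zg27) (kg xg10 yg12 zg13) (kg xg7 yg26 zg18) (kg xg10 yg9 zg1) (kg xg7 yg10 zg29) (kg xg10 yg12 zg19) (kg xg10 yg12 zg20) (kg xg10 yg9 zg5) (kg xg7 yg10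 zg32) (kg xg7 yg10 zg33) (kg xg10 yg12 zg25) (kg xg10 yg12 zg26) (kg xg7 yg13 zg45) (kg xg10 yg12 zg29) (kg xg7 yg26 zg26) (kg xg10 yg9 zg12) (kg xg7 yg10 zg38) (kg xg7 yg10 zg39) (kg xg10 yg12 zg34) (kg xg10 yg12 zg35) (kg xg10 yg9 zg16) (kg xg7 yg26 zg33) (kg xg10 yg9 zg17) (kg xg7 yg10 zg43) (kg xg10 yg12 zg43) (kg xg10 yg12 zg44) (kg xg10 yg12 zg48) (kg xg7 yg26 zg38) (kg xg10 yg9 zg23) (kg xg7 yg10 zg47)) (@D3.rec (fun _ => Pt) (kg xg7 yg10 zg48) (kg xg10 yg13 zg3) (kg xg10 yg13 zg4) (kg xg10 yg13 zg5) (kg xg10 yg9 zg29) (kg xg10 yg9 zg30) (kg xg7 yg11 zg1) (kg xg7 yg11 zg2) (kg xg10 yg13 zg16) (kg xg10 yg13 zg14) (kg xg10 yg13 zg15) (kg xg7 yg11 zg3) (kg xg10 yg13 zg19) (kg xg7 yg14 zg22) (kg xg7 yg11 zg6) (kg xg10 yg13 zg21) (kg xg8 yg0 zg1) (kg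 xg8 yg0 zg2) (kg xg10 yg9 zg40) (kg xg10 yg9 zg41) (kg xg7 yg11 zg11) (kg xg7 yg11 zg12) (kg xg10 yg13 zg28) (kg xg10 yg13 zg29) (kg xg10 yg13 zg30) (kg xg7 yg11 zg15) (kg xg8 yg1 zg36) (kg xg10 yg13 zg34) (kg xg7 yg12 zg36) (kg xg8 yg0 zg10) (kg xg8 yg0 zg11) (kg xg7 yg26 zg4) (kg xg10 yg9 zg46) (kg xg7 yg11 zg22) (kg xg7 yg11 zg23) (kg xg7 yg11 zg24) (kg xg10 yg13 zg45) (kg xg10 yg13 zg46) (kg xg10 yg13 zg47) (kg xg10 yg14 zg0) (kg xg7 yg11 zg25) (kg xg10 yg14 zg3) (kg xg8 yg0 zg17) (kg xg10 yg10 zg1) (kg xg7 yg11 zg27) (kg xg10 yg14 zg9) (kg xg10 yg14 zg10) (kg xg8 yg8 zg27) (kg xg7 yg11 zg30) (kg xg8 yg0 zg18) (kg xg10 yg10 zg6)) (@D3.rec (fun _ => Pt) (kg xg7 yg11 zg32) (kg xg10 yg14 zg18) (kg xg10 yg14 zg19) (kg xg10 yg14 zg23) (kg xg8 yg0 zg23)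 (kg xg10 yg10 zg12) (kg xg7 yg11 zg36) (kg xg7 yg11 zg37) (kg xg10 yg14 zg29) (kg xg10 yg14 zg30) (kg xg10 yg14 zg31) (kg xg8 yg8 zg13) (kg xg10 yg10 zg18) (kg xg7 yg11 zg41) (kg xg7 yg11 zg42) (kg xg10 yg14 zg40) (kg xg10 yg14 zg41) (kg xg7 yg11 zg44) (kg xg10 yg14 zg43) (kg xg8 yg0 zg32) (kg xg8 yg0 zg33) (kg xg8 yg0 zg13) (kg xg10 yg10 zg25) (kg xg7 yg11 zg49) (kg xg7 yg11 zg50) (kg xg10 yg15 zg0) (kg xg10 yg15 zg1) (kg xg10 yg15 zg2) (kg xg8 yg0 zg41) (kg xg10 yg15 zg8) (kg xg8 yg0 zg43) (kg xg10 yg10 zg33) (kg xg7 yg12 zg4) (kg xg7 yg12 zg5) (kg xg10 yg15 zg14) (kg xg10 yg15 zg15) (kg xg10 yg15 zg16) (kg xg7 yg12 zg6) (kg xg10 yg15 zg23) (kg xg8 yg1 zg0) (kg xg8 yg1 zg1) (kg xg10 yg10 zg42) (kg xg10 yg10 zg43) (kg xg7 yg12 zg11) (kg xg7 yg12 zg12)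 (kg xg7 yg12 zg13) (kg xg10 yg15 zg32) (kg xg10 yg15 zg33) (kg xg10 yg15 zg34) (kg xg10 yg15 zg44) (kg xg10 yg15 zg36)) (@D3.rec (fun _ => Pt) (kg xg10 yg15 zg37) (kg xg8 yg0 zg38) (kg xg8 yg8 zg14) (kg xg10 yg15 zg50) (kg xg7 yg12 zg19) (kg xg7 yg12 zg20) (kg xg7 yg12 zg18) (kg xg10 yg16 zg3) (kg xg10 yg16 zg1) (kg xg10 yg11 zg7) (kg xg7 yg12 zg22) (kg xg10 yg16 zg7) (kg xg7 yg12 zg25) (kg xg10 yg13 zg37) (kg xg10 yg16 zg8) (kg xg8 yg1 zg23) (kg xg8 yg1 zg24) (kg xg8 yg1 zg25) (kg xg8 yg0 zg6) (kg xg8 yg0 zg14) (kg xg7 yg12 zg32) (kg xg7 yg12 zg33) (kg xg7 yg12 zg34) (kg xg10 yg16 zg19) (kg xg10 yg16 zg20) (kg xg10 yg16 zg21) (kg xg7 yg12 zg37) (kg xg10 yg13 zg38) (kg xg10 yg13 zg39) (kg xg8 yg1 zg39) (kg xg8 yg1 zg40) (kg xg8 yg1 zg41) (kg xg8 yg1 zg42)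 (kg xg8 yg1 zg43) (kg xg8 yg0 zg15) (kg xg7 yg12 zg45) (kg xg7 yg12 zg46) (kg xg7 yg12 zg47) (kg xg10 yg16 zg33) (kg xg10 yg16 zg34) (kg xg8 yg1 zg46) (kg xg10 yg11 zg40) (kg xg10 yg11 zg41) (kg xg10 yg11 zg17) (kg xg7 yg13 zg1) (kg xg7 yg13 zg2) (kg xg10 yg16 zg39) (kg xg10 yg16 zg40) (kg xg10 yg11 zg21) (kg xg8 yg26 zg49) (kg xg7 yg13 zg8))
def f_g_9 : D2 → D3 → Pt := @D2.rec (fun _ => D3 → Pt) (@D3.rec (fun _ => Pt) (kg xg8 yg12 zg21) (kg xg8 yg12 zg24) (kg xg9 yg0 zg2) (kg xg9 yg0 zg3) (kg xg7 yg13 zg12) (kg xg7 yg13 zg13) (kg xg10 yg16 zg48) (kg xg10 yg16 zg46) (kg xg10 yg16 zg47) (kg xg7 yg13 zg14) (kg xg10 yg17 zg0) (kg xg10 yg11 zg32) (kg xg9 yg0 zg12) (kg xg9 yg0 zg13) (kg xg8 yg12 zg28) (kg xg9 yg0 zg15) (kg xg9 yg0 zg16) (kg xg9 yg0 zg17) (kg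 xg7 yg13 zg29) (kg xg8 yg12 zg34) (kg xg8 yg2 zg2) (kg xg9 yg0 zg21) (kg xg7 yg13 zg31) (kg xg10 yg17 zg7) (kg xg10 yg17 zg8) (kg xg9 yg0 zg25) (kg xg7 yg13 zg34) (kg xg10 yg17 zg12) (kg xg8 yg2 zg5) (kg xg9 yg0 zg29) (kg xg7 yg13 zg38) (kg xg7 yg13 zg39) (kg xg10 yg17 zg18) (kg xg10 yg17 zg19) (kg xg9 yg0 zg34) (kg xg9 yg0 zg35) (kg xg7 yg13 zg43) (kg xg7 yg13 zg44) (kg xg10 yg17 zg25) (kg xg10 yg17 zg26) (kg xg7 yg13 zg46) (kg xg10 yg17 zg28) (kg xg8 yg2 zg13) (kg xg9 yg0 zg43) (kg xg8 yg2 zg15) (kg xg10 yg17 zg32) (kg xg8 yg2 zg17) (kg xg9 yg0 zg47) (kg xg7 yg14 zg3) (kg xg7 yg14 zg4) (kg xg10 yg17 zg38)) (@D3.rec (fun _ => Pt) (kg xg10 yg17 zg39) (kg xg7 yg14 zg5) (kg xg10 yg17 zg42) (kg xg8 yg2 zg25) (kg xg8 yg2 zg26) (kg xg9 yg1 zg5) (kg xg9 yg1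 zg6) (kg xg7 yg14 zg10) (kg xg7 yg14 zg11) (kg xg7 yg14 zg12) (kg xg10 yg18 zg0) (kg xg10 yg18 zg1) (kg xg10 yg18 zg2) (kg xg10 yg18 zg9) (kg xg10 yg18 zg4) (kg xg10 yg18 zg5) (kg xg9 yg1 zg16) (kg xg9 yg1 zg17) (kg xg10 yg18 zg15) (kg xg7 yg14 zg18) (kg xg7 yg14 zg19) (kg xg7 yg14 zg17) (kg xg10 yg18 zg19) (kg xg10 yg18 zg17) (kg xg9 yg1 zg24) (kg xg7 yg14 zg21) (kg xg10 yg18 zg23) (kg xg7 yg14 zg24) (kg xg10 yg18 zg24) (kg xg10 yg18 zg25) (kg xg8 yg2 zg44) (kg xg8 yg2 zg45) (kg xg8 yg2 zg46) (kg xg9 yg1 zg33) (kg xg9 yg1 zg34) (kg xg7 yg14 zg31) (kg xg7 yg14 zg32) (kg xg10 yg18 zg34) (kg xg7 yg14 zg34) (kg xg7 yg14 zg35) (kg xg8 yg6 zg8) (kg xg8 yg6 zg7) (kg xg10 yg18 zg35) (kg xg8 yg3 zg7) (kg xg8 yg3 zg8) (kg xg8 yg3 zg9) (kg xg8 yg3 zg10) (kg xg8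 yg3 zg11) (kg xg9 yg1 zg48) (kg xg9 yg1 zg49) (kg xg7 yg14 zg45)) (@D3.rec (fun _ => Pt) (kg xg7 yg14 zg46) (kg xg8 yg12 zg36) (kg xg10 yg18 zg40) (kg xg10 yg18 zg41) (kg xg8 yg3 zg21) (kg xg9 yg2 zg5) (kg xg7 yg14 zg48) (kg xg10 yg18 zg46) (kg xg10 yg18 zg47) (kg xg10 yg18 zg49) (kg xg8 yg2 zg39) (kg xg9 yg2 zg11) (kg xg7 yg15 zg1) (kg xg7 yg15 zg2) (kg xg10 yg19 zg4) (kg xg10 yg19 zg5) (kg xg9 yg2 zg16) (kg xg8 yg3 zg26) (kg xg10 yg19 zg10) (kg xg8 yg3 zg28) (kg xg9 yg2 zg20) (kg xg7 yg15 zg8) (kg xg7 yg15 zg9) (kg xg10 yg19 zg16) (kg xg10 yg19 zg17) (kg xg7 yg15 zg10) (kg xg10 yg19 zg20) (kg xg8 yg3 zg35) (kg xg8 yg3 zg36) (kg xg9 yg2 zg29) (kg xg9 yg2 zg30) (kg xg7 yg15 zg15) (kg xg7 yg15 zg16) (kg xg7 yg15 zg17) (kg xg10 yg19 zg29) (kg xg10 yg19 zg30)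 (kg xg10 yg19 zg31) (kg xg10 yg19 zg33) (kg xg10 yg19 zg34) (kg xg9 yg2 zg39) (kg xg9 yg2 zg40) (kg xg10 yg4 zg49) (kg xg7 yg15 zg22) (kg xg7 yg15 zg23) (kg xg10 yg19 zg43) (kg xg7 yg15 zg25) (kg xg10 yg19 zg45) (kg xg10 yg19 zg46) (kg xg8 yg3 zg47) (kg xg8 yg3 zg48) (kg xg8 yg3 zg49)) (@D3.rec (fun _ => Pt) (kg xg9 yg3 zg0) (kg xg9 yg3 zg1) (kg xg7 yg15 zg32) (kg xg7 yg15 zg33) (kg xg10 yg20 zg4) (kg xg10 yg20 zg5) (kg xg10 yg20 zg7) (kg xg8 yg4 zg6) (kg xg7 yg15 zg35) (kg xg10 yg20 zg11) (kg xg8 yg4 zg9) (kg xg8 yg4 zg10) (kg xg9 yg3 zg12) (kg xg9 yg3 zg13) (kg xg7 yg15 zg40) (kg xg7 yg15 zg41) (kg xg7 yg15 zg42) (kg xg10 yg20 zg20) (kg xg10 yg20 zg21) (kg xg10 yg20 zg22) (kg xg10 yg20 zg30) (kg xg10 yg20 zg24) (kg xg10 yg20 zg25) (kg xg7 yg15 zg44)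 (kg xg10 yg20 zg33) (kg xg10 yg20 zg34) (kg xg8 yg4 zg25) (kg xg8 yg4 zg26) (kg xg8 yg4 zg27) (kg xg9 yg3 zg29) (kg xg9 yg3 zg30) (kg xg9 yg3 zg31) (kg xg7 yg16 zg1) (kg xg7 yg16 zg2) (kg xg7 yg16 zg3) (kg xg10 yg21 zg5) (kg xg7 yg16 zg5) (kg xg7 yg16 zg6) (kg xg10 yg20 zg50) (kg xg10 yg21 zg0) (kg xg10 yg21 zg1) (kg xg10 yg21 zg12) (kg xg10 yg21 zg3) (kg xg10 yg21 zg4) (kg xg7 yg16 zg4) (kg xg10 yg21 zg17) (kg xg10 yg21 zg7) (kg xg10 yg21 zg20) (kg xg9 yg3 zg48) (kg xg9 yg3 zg49) (kg xg7 yg16 zg9)) (@D3.rec (fun _ => Pt) (kg xg10 yg21 zg24) (kg xg7 yg16 zg14) (kg xg9 yg4 zg2) (kg xg7 yg16 zg13) (kg xg10 yg21 zg28) (kg xg10 yg21 zg26) (kg xg9 yg4 zg6) (kg xg7 yg16 zg17) (kg xg7 yg16 zg19) (kg xg7 yg16 zg20) (kg xg10 yg21 zg32) (kg xg10 yg21 zg33) (kg xg10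 yg21 zg34) (kg xg8 yg5 zg7) (kg xg8 yg5 zg8) (kg xg8 yg5 zg9) (kg xg8 yg5 zg10) (kg xg8 yg5 zg11) (kg xg9 yg4 zg18) (kg xg9 yg4 zg19) (kg xg9 yg4 zg20) (kg xg7 yg16 zg29) (kg xg7 yg16 zg30) (kg xg7 yg16 zg31) (kg xg10 yg21 zg50) (kg xg10 yg22 zg0) (kg xg10 yg22 zg1) (kg xg7 yg16 zg34) (kg xg7 yg16 zg35) (kg xg7 yg16 zg36) (kg xg10 yg22 zg5) (kg xg7 yg18 zg31) (kg xg10 yg22 zg6) (kg xg10 yg22 zg7) (kg xg10 yg22 zg8) (kg xg8 yg5 zg26) (kg xg8 yg5 zg27) (kg xg8 yg5 zg28) (kg xg8 yg5 zg29) (kg xg8 yg5 zg25) (kg xg8 yg5 zg24) (kg xg8 yg5 zg23) (kg xg9 yg4 zg42) (kg xg9 yg4 zg43) (kg xg9 yg4 zg44) (kg xg7 yg16 zg48) (kg xg7 yg16 zg49) (kg xg7 yg16 zg50) (kg xg10 yg22 zg23) (kg xg10 yg22 zg24) (kg xg10 yg22 zg25)) (@D3.rec (fun _ => Pt) (kg xg10 yg22 zg26) (kg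 xg8 yg5 zg39) (kg xg7 yg17 zg3) (kg xg10 yg22 zg30) (kg xg8 yg5 zg42) (kg xg9 yg5 zg5) (kg xg7 yg17 zg9) (kg xg10 yg18 zg42) (kg xg8 yg6 zg6) (kg xg8 yg5 zg47) (kg xg8 yg5 zg48) (kg xg7 yg17 zg25) (kg xg7 yg17 zg26) (kg xg8 yg6 zg3) (kg xg8 yg6 zg18) (kg xg7 yg17 zg28) (kg xg10 yg22 zg14) (kg xg8 yg6 zg20) (kg xg9 yg5 zg18) (kg xg7 yg17 zg34) (kg xg10 yg22 zg36) (kg xg10 yg22 zg37) (kg xg8 yg6 zg25) (kg xg8 yg6 zg26) (kg xg7 yg17 zg39) (kg xg7 yg17 zg40) (kg xg10 yg22 zg42) (kg xg8 yg6 zg30) (kg xg8 yg6 zg31) (kg xg7 yg17 zg43) (kg xg10 yg22 zg12) (kg xg10 yg22 zg48) (kg xg8 yg6 zg35) (kg xg8 yg6 zg36) (kg xg8 yg6 zg37) (kg xg9 yg5 zg35) (kg xg9 yg5 zg36) (kg xg7 yg17 zg50) (kg xg7 yg18 zg0) (kg xg10 yg23 zg6) (kg xg10 yg23 zg7) (kg xg7 yg18 zg2) (kg xg10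 yg23 zg9) (kg xg8 yg6 zg47) (kg xg8 yg6 zg48) (kg xg9 yg5 zg45) (kg xg7 yg18 zg7) (kg xg7 yg18 zg10) (kg xg7 yg18 zg11) (kg xg7 yg18 zg12) (kg xg10 yg23 zg14)) (@D3.rec (fun _ => Pt) (kg xg10 yg23 zg15) (kg xg10 yg23 zg16) (kg xg7 yg18 zg30) (kg xg10 yg22 zg10) (kg xg8 yg7 zg4) (kg xg8 yg7 zg3) (kg xg8 yg7 zg2) (kg xg8 yg7 zg5) (kg xg8 yg7 zg1) (kg xg8 yg7 zg6) (kg xg8 yg5 zg22) (kg xg9 yg6 zg11) (kg xg9 yg6 zg12) (kg xg9 yg6 zg13) (kg xg7 yg18 zg24) (kg xg7 yg18 zg25) (kg xg7 yg18 zg26) (kg xg10 yg23 zg30) (kg xg10 yg23 zg31) (kg xg10 yg23 zg32) (kg xg8 yg6 zg46) (kg xg8 yg6 zg24) (kg xg8 yg5 zg5) (kg xg8 yg1 zg37) (kg xg7 yg24 zg16) (kg xg9 yg6 zg25) (kg xg9 yg6 zg26) (kg xg9 yg6 zg27) (kg xg7 yg18 zg43) (kg xg7 yg18 zg44) (kg xg7 yg18 zg45) (kg xg7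 yg20 zg45) (kg xg10 yg1 zg26) (kg xg10 yg1 zg31) (kg xg7 yg19 zg6) (kg xg10 yg1 zg27) (kg xg7 yg20 zg21) (kg xg8 yg12 zg44) (kg xg7 yg19 zg11) (kg xg10 yg2 zg47) (kg xg7 yg19 zg18) (kg xg7 yg19 zg30) (kg xg10 yg2 zg14) (kg xg10 yg2 zg23) (kg xg7 yg19 zg24) (kg xg7 yg24 zg46) (kg xg8 yg11 zg35) (kg xg10 yg23 zg38) (kg xg10 yg23 zg39) (kg xg7 yg19 zg33) (kg xg7 yg25 zg10)) (@D3.rec (fun _ => Pt) (kg xg8 yg11 zg36) (kg xg8 yg7 zg23) (kg xg7 yg19 zg37) (kg xg7 yg19 zg38) (kg xg10 yg23 zg47) (kg xg7 yg20 zg49) (kg xg7 yg25 zg35) (kg xg7 yg25 zg40) (kg xg10 yg1 zg48) (kg xg7 yg19 zg44) (kg xg7 yg19 zg45) (kg xg10 yg24 zg0) (kg xg7 yg25 zg27) (kg xg10 yg24 zg1) (kg xg10 yg10 zg32) (kg xg7 yg25 zg28) (kg xg7 yg19 zg49) (kg xg10 yg24 zg10) (kg xg10 yg1 zg49) (kg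 xg7 yg21 zg22) (kg xg7 yg20 zg4) (kg xg7 yg20 zg5) (kg xg10 yg9 zg22) (kg xg10 yg24 zg12) (kg xg10 yg9 zg11) (kg xg10 yg9 zg39) (kg xg10 yg2 zg24) (kg xg7 yg20 zg13) (kg xg10 yg24 zg16) (kg xg10 yg24 zg17) (kg xg10 yg3 zg21) (kg xg10 yg2 zg30) (kg xg7 yg20 zg17) (kg xg7 yg20 zg18) (kg xg10 yg3 zg49) (kg xg10 yg24 zg22) (kg xg8 yg11 zg15) (kg xg10 yg2 zg46) (kg xg10 yg3 zg50) (kg xg10 yg2 zg48) (kg xg10 yg3 zg11) (kg xg7 yg20 zg31) (kg xg10 yg24 zg27) (kg xg10 yg24 zg28) (kg xg7 yg20 zg33) (kg xg10 yg3 zg24) (kg xg7 yg20 zg36) (kg xg7 yg20 zg37) (kg xg10 yg24 zg32) (kg xg10 yg24 zg33) (kg xg8 yg11 zg14)) (@D3.rec (fun _ => Pt) (kg xg7 yg20 zg41) (kg xg7 yg20 zg42) (kg xg10 yg24 zg37) (kg xg7 yg20 zg43) (kg xg10 yg24 zg38) (kg xg8 yg8 zg36) (kg xg10 yg3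 zg36) (kg xg10 yg23 zg37) (kg xg10 yg3 zg37) (kg xg7 yg20 zg48) (kg xg10 yg24 zg43) (kg xg10 yg3 zg39) (kg xg7 yg21 zg1) (kg xg7 yg21 zg2) (kg xg8 yg1 zg2) (kg xg10 yg24 zg46) (kg xg7 yg21 zg3) (kg xg10 yg24 zg50) (kg xg10 yg3 zg47) (kg xg10 yg3 zg48) (kg xg8 yg0 zg47) (kg xg8 yg11 zg43) (kg xg7 yg21 zg8) (kg xg7 yg21 zg9) (kg xg7 yg21 zg10) (kg xg10 yg25 zg7) (kg xg10 yg25 zg8) (kg xg10 yg25 zg9) (kg xg10 yg25 zg18) (kg xg10 yg25 zg11) (kg xg10 yg25 zg12) (kg xg10 yg25 zg21) (kg xg7 yg21 zg15) (kg xg7 yg21 zg14) (kg xg10 yg25 zg24) (kg xg10 yg24 zg9) (kg xg7 yg21 zg17) (kg xg7 yg21 zg19) (kg xg10 yg2 zg44) (kg xg10 yg25 zg26) (kg xg10 yg4 zg19) (kg xg7 yg22 zg11) (kg xg10 yg4 zg20) (kg xg10 yg24 zg11) (kg xg10 yg3 zg2) (kg xg7 yg21 zg26) (kg xg7 yg21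 zg27) (kg xg7 yg21 zg28) (kg xg10 yg25 zg35) (kg xg10 yg25 zg36) (kg xg7 yg21 zg31)) (@D3.rec (fun _ => Pt) (kg xg10 yg3 zg3) (kg xg8 yg0 zg0) (kg xg8 yg0 zg9) (kg xg7 yg22 zg21) (kg xg10 yg9 zg38) (kg xg10 yg3 zg9) (kg xg7 yg21 zg40) (kg xg7 yg21 zg41) (kg xg7 yg21 zg42) (kg xg10 yg25 zg43) (kg xg10 yg25 zg44) (kg xg10 yg13 zg43) (kg xg7 yg21 zg45) (kg xg7 yg21 zg46) (kg xg7 yg21 zg47) (kg xg10 yg25 zg48) (kg xg10 yg25 zg49) (kg xg10 yg25 zg50) (kg xg10 yg4 zg24) (kg xg10 yg6 zg0) (kg xg10 yg4 zg26) (kg xg9 yg9 zg21) (kg xg7 yg22 zg0) (kg xg7 yg22 zg1) (kg xg10 yg26 zg9) (kg xg7 yg22 zg2) (kg xg10 yg25 zg30) (kg xg10 yg4 zg35) (kg xg10 yg4 zg36) (kg xg9 yg9 zg29) (kg xg9 yg9 zg30) (kg xg7 yg22 zg7) (kg xg7 yg22 zg8) (kg xg10 yg26 zg18) (kg xg10 yg26 zg19)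 (kg xg10 yg26 zg20) (kg xg10 yg25 zg32) (kg xg10 yg5 zg5) (kg xg10 yg5 zg7) (kg xg9 yg9 zg39) (kg xg9 yg9 zg40) (kg xg7 yg22 zg18) (kg xg7 yg22 zg19) (kg xg7 yg22 zg20) (kg xg10 yg26 zg30) (kg xg10 yg26 zg31) (kg xg10 yg26 zg32) (kg xg10 yg5 zg19) (kg xg10 yg5 zg21) (kg xg10 yg5 zg23) (kg xg9 yg9 zg50)) (@D3.rec (fun _ => Pt) (kg xg9 yg10 zg0) (kg xg9 yg10 zg1) (kg xg7 yg22 zg29) (kg xg7 yg22 zg30) (kg xg7 yg22 zg31) (kg xg10 yg26 zg42) (kg xg10 yg26 zg43) (kg xg10 yg26 zg44) (kg xg10 yg5 zg31) (kg xg7 yg22 zg33) (kg xg10 yg26 zg49) (kg xg10 yg12 zg39) (kg xg10 yg5 zg37) (kg xg9 yg10 zg13) (kg xg7 yg22 zg37) (kg xg7 yg22 zg38) (kg xg11 yg0 zg4) (kg xg9 yg10 zg17) (kg xg10 yg6 zg2) (kg xg9 yg10 zg19) (kg xg7 yg22 zg44) (kg xg7 yg22 zg45) (kg xg11 yg0 zg10)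 (kg xg11 yg0 zg11) (kg xg7 yg22 zg46) (kg xg11 yg0 zg14) (kg xg10 yg6 zg11) (kg xg10 yg6 zg12) (kg xg9 yg10 zg28) (kg xg9 yg10 zg29) (kg xg7 yg23 zg0) (kg xg7 yg23 zg1) (kg xg7 yg23 zg2) (kg xg11 yg0 zg23) (kg xg11 yg0 zg24) (kg xg11 yg0 zg25) (kg xg11 yg0 zg27) (kg xg11 yg0 zg28) (kg xg9 yg10 zg38) (kg xg9 yg10 zg39) (kg xg10 yg17 zg5) (kg xg7 yg23 zg7) (kg xg7 yg23 zg9) (kg xg11 yg0 zg36) (kg xg11 yg0 zg37) (kg xg10 yg6 zg33) (kg xg8 yg10 zg10) (kg xg10 yg6 zg34) (kg xg9 yg10 zg48) (kg xg9 yg10 zg49) (kg xg7 yg23 zg16)) (@D3.rec (fun _ => Pt) (kg xg7 yg23 zg17) (kg xg7 yg23 zg18) (kg xg11 yg0 zg49) (kg xg11 yg0 zg50) (kg xg11 yg1 zg0) (kg xg10 yg6 zg39) (kg xg7 yg23 zg20) (kg xg11 yg1 zg6) (kg xg10 yg6 zg42) (kg xg10 yg6 zg43) (kg xg9 yg11 zg10) (kg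 xg9 yg11 zg11) (kg xg7 yg23 zg25) (kg xg7 yg23 zg26) (kg xg7 yg23 zg27) (kg xg11 yg1 zg14) (kg xg11 yg1 zg15) (kg xg11 yg1 zg16) (kg xg11 yg1 zg24) (kg xg11 yg1 zg18) (kg xg11 yg1 zg19) (kg xg7 yg23 zg29) (kg xg11 yg1 zg27) (kg xg11 yg1 zg28) (kg xg10 yg7 zg7) (kg xg10 yg7 zg8) (kg xg10 yg7 zg9) (kg xg9 yg11 zg27) (kg xg9 yg11 zg28) (kg xg9 yg11 zg29) (kg xg7 yg23 zg37) (kg xg7 yg23 zg38) (kg xg7 yg23 zg39) (kg xg11 yg1 zg50) (kg xg7 yg23 zg41) (kg xg7 yg23 zg42) (kg xg11 yg1 zg44) (kg xg11 yg1 zg45) (kg xg11 yg1 zg46) (kg xg11 yg2 zg7) (kg xg11 yg1 zg48) (kg xg11 yg1 zg49) (kg xg7 yg23 zg40) (kg xg11 yg2 zg12) (kg xg11 yg2 zg1) (kg xg10 yg15 zg7) (kg xg9 yg11 zg46) (kg xg7 yg23 zg45) (kg xg11 yg2 zg16) (kg xg9 yg11 zg49) (kg xg7 yg23 zg48)) (@D3.rec (fun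 _ => Pt) (kg xg9 yg12 zg0) (kg xg7 yg24 zg1) (kg xg7 yg24 zg2) (kg xg11 yg2 zg18) (kg xg10 yg5 zg3) (kg xg11 yg2 zg19) (kg xg10 yg7 zg43) (kg xg10 yg7 zg44) (kg xg10 yg7 zg45) (kg xg10 yg7 zg46) (kg xg10 yg7 zg47) (kg xg9 yg12 zg11) (kg xg9 yg12 zg12) (kg xg9 yg12 zg13) (kg xg7 yg24 zg11) (kg xg7 yg24 zg12) (kg xg7 yg24 zg13) (kg xg11 yg2 zg35) (kg xg11 yg2 zg36) (kg xg11 yg2 zg37) (kg xg7 yg24 zg18) (kg xg10 yg23 zg26) (kg xg10 yg5 zg17) (kg xg10 yg22 zg19) (kg xg10 yg5 zg18) (kg xg11 yg2 zg41) (kg xg10 yg8 zg9) (kg xg10 yg8 zg10) (kg xg10 yg8 zg11) (kg xg8 yg3 zg4) (kg xg10 yg8 zg12) (kg xg10 yg8 zg13) (kg xg10 yg8 zg14) (kg xg9 yg12 zg33) (kg xg9 yg12 zg34) (kg xg9 yg12 zg35) (kg xg7 yg24 zg30) (kg xg7 yg24 zg31) (kg xg7 yg24 zg32) (kg xg11 yg3 zg3)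 (kg xg11 yg3 zg4) (kg xg8 yg9 zg8) (kg xg7 yg25 zg3) (kg xg7 yg24 zg36) (kg xg11 yg3 zg7) (kg xg11 yg3 zg8) (kg xg7 yg24 zg38) (kg xg7 yg24 zg43) (kg xg10 yg11 zg12) (kg xg10 yg11 zg15) (kg xg7 yg26 zg32)) (@D3.rec (fun _ => Pt) (kg xg10 yg23 zg41) (kg xg10 yg23 zg42) (kg xg7 yg24 zg49) (kg xg7 yg24 zg50) (kg xg10 yg10 zg47) (kg xg11 yg3 zg5) (kg xg11 yg3 zg16) (kg xg7 yg26 zg46) (kg xg7 yg25 zg4) (kg xg11 yg3 zg6) (kg xg10 yg11 zg13) (kg xg10 yg11 zg16) (kg xg10 yg23 zg43) (kg xg10 yg23 zg45) (kg xg10 yg10 zg11) (kg xg8 yg0 zg24) (kg xg7 yg25 zg14) (kg xg7 yg25 zg15) (kg xg10 yg2 zg15) (kg xg11 yg3 zg27) (kg xg8 yg0 zg29) (kg xg7 yg25 zg18) (kg xg11 yg3 zg30) (kg xg10 yg9 zg48) (kg xg10 yg10 zg24) (kg xg8 yg0 zg35) (kg xg7 yg25 zg24) (kg xg10 yg2 zg18)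 (kg xg11 yg3 zg32) (kg xg10 yg24 zg3) (kg xg10 yg24 zg6) (kg xg7 yg25 zg29) (kg xg11 yg3 zg37) (kg xg10 yg10 zg40) (kg xg10 yg10 zg41) (kg xg8 yg1 zg3) (kg xg7 yg25 zg34) (kg xg7 yg25 zg36) (kg xg11 yg3 zg41) (kg xg10 yg2 zg3) (kg xg11 yg3 zg42) (kg xg11 yg3 zg50) (kg xg10 yg23 zg48) (kg xg11 yg3 zg43) (kg xg7 yg25 zg39) (kg xg11 yg4 zg3) (kg xg8 yg1 zg18) (kg xg7 yg25 zg42) (kg xg7 yg25 zg44) (kg xg10 yg13 zg42) (kg xg10 yg9 zg43)) (@D3.rec (fun _ => Pt) (kg xg10 yg8 zg41) (kg xg10 yg9 zg49) (kg xg8 yg1 zg27) (kg xg7 yg26 zg0) (kg xg7 yg26 zg1) (kg xg7 yg26 zg2) (kg xg10 yg9 zg32) (kg xg11 yg4 zg7) (kg xg11 yg4 zg8) (kg xg10 yg11 zg45) (kg xg10 yg8 zg42) (kg xg10 yg9 zg50) (kg xg8 yg1 zg44) (kg xg8 yg1 zg45) (kg xg7 yg26 zg12) (kg xg7 yg26 zg13) (kg xg7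 yg26 zg14) (kg xg11 yg4 zg14) (kg xg11 yg4 zg15) (kg xg10 yg12 zg4) (kg xg10 yg12 zg11) (kg xg7 yg26 zg17) (kg xg11 yg4 zg18) (kg xg11 yg4 zg19) (kg xg10 yg14 zg1) (kg xg10 yg12 zg17) (kg xg8 yg0 zg16) (kg xg7 yg26 zg21) (kg xg7 yg26 zg22) (kg xg11 yg4 zg26) (kg xg11 yg4 zg27) (kg xg8 yg11 zg40) (kg xg7 yg26 zg25) (kg xg10 yg25 zg39) (kg xg10 yg12 zg31) (kg xg10 yg12 zg32) (kg xg10 yg4 zg23) (kg xg7 yg26 zg30) (kg xg7 yg26 zg31) (kg xg11 yg4 zg33) (kg xg11 yg4 zg34) (kg xg11 yg4 zg35) (kg xg10 yg12 zg41) (kg xg7 yg26 zg35) (kg xg7 yg26 zg36) (kg xg11 yg4 zg41) (kg xg11 yg4 zg24) (kg xg11 yg4 zg42) (kg xg7 yg26 zg37) (kg xg10 yg25 zg29) (kg xg10 yg12 zg50)) (@D3.rec (fun _ => Pt) (kg xg10 yg13 zg0) (kg xg10 yg4 zg3) (kg xg10 yg4 zg22) (kg xg7 yg26 zg42)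 (kg xg7 yg26 zg43) (kg xg7 yg26 zg44) (kg xg10 yg15 zg29) (kg xg11 yg5 zg2) (kg xg11 yg5 zg3) (kg xg11 yg5 zg5) (kg xg11 yg5 zg6) (kg xg8 yg11 zg38) (kg xg10 yg14 zg7) (kg xg7 yg26 zg49) (kg xg10 yg25 zg40) (kg xg10 yg13 zg24) (kg xg10 yg13 zg25) (kg xg10 yg13 zg26) (kg xg8 yg0 zg7) (kg xg8 yg0 zg8) (kg xg10 yg14 zg49) (kg xg10 yg16 zg17) (kg xg11 yg5 zg18) (kg xg10 yg13 zg40) (kg xg10 yg13 zg41) (kg xg10 yg14 zg50) (kg xg10 yg16 zg18) (kg xg10 yg13 zg44) (kg xg11 yg4 zg25) (kg xg10 yg14 zg14) (kg xg10 yg14 zg16) (kg xg8 yg0 zg20) (kg xg8 yg0 zg21) (kg xg11 yg5 zg28) (kg xg11 yg5 zg29) (kg xg8 yg0 zg22) (kg xg11 yg5 zg33) (kg xg10 yg14 zg25) (kg xg10 yg14 zg26) (kg xg10 yg4 zg4) (kg xg11 yg3 zg26) (kg xg8 yg0 zg27) (kg xg8 yg0 zg28) (kg xg10 yg15 zg30)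 (kg xg11 yg5 zg40) (kg xg11 yg5 zg41) (kg xg8 yg0 zg31) (kg xg11 yg5 zg45) (kg xg11 yg5 zg46) (kg xg10 yg14 zg46) (kg xg10 yg14 zg47)) (@D3.rec (fun _ => Pt) (kg xg10 yg14 zg48) (kg xg10 yg0 zg35) (kg xg8 yg0 zg39) (kg xg8 yg0 zg40) (kg xg10 yg14 zg37) (kg xg10 yg15 zg48) (kg xg11 yg6 zg1) (kg xg8 yg0 zg42) (kg xg10 yg15 zg10) (kg xg10 yg15 zg11) (kg xg8 yg0 zg46) (kg xg8 yg0 zg48) (kg xg11 yg6 zg8) (kg xg10 yg25 zg5) (kg xg11 yg6 zg9) (kg xg11 yg6 zg16) (kg xg10 yg25 zg6) (kg xg11 yg6 zg10) (kg xg8 yg0 zg50) (kg xg11 yg6 zg18) (kg xg11 yg6 zg19) (kg xg10 yg15 zg26) (kg xg10 yg15 zg27) (kg xg10 yg15 zg28) (kg xg10 yg3 zg27) (kg xg10 yg24 zg48) (kg xg8 yg1 zg7) (kg xg8 yg1 zg8) (kg xg8 yg1 zg9) (kg xg11 yg6 zg38) (kg xg8 yg1 zg11) (kg xg8 yg1 zg12) (kg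 xg11 yg6 zg32) (kg xg11 yg6 zg33) (kg xg11 yg6 zg34) (kg xg11 yg6 zg46) (kg xg11 yg6 zg36) (kg xg11 yg6 zg37) (kg xg8 yg1 zg10) (kg xg11 yg7 zg0) (kg xg11 yg6 zg40) (kg xg8 yg1 zg14) (kg xg11 yg7 zg3) (kg xg11 yg4 zg2) (kg xg8 yg1 zg17) (kg xg8 yg8 zg32) (kg xg8 yg1 zg21) (kg xg8 yg1 zg22) (kg xg11 yg7 zg5) (kg xg10 yg23 zg34) (kg xg11 yg7 zg6)) (@D3.rec (fun _ => Pt) (kg xg10 yg16 zg12) (kg xg10 yg16 zg13) (kg xg10 yg16 zg14) (kg xg10 yg16 zg15) (kg xg10 yg16 zg16) (kg xg10 yg3 zg17) (kg xg10 yg3 zg30) (kg xg10 yg16 zg36) (kg xg8 yg1 zg31) (kg xg8 yg1 zg32) (kg xg8 yg1 zg33) (kg xg11 yg7 zg20) (kg xg11 yg7 zg21) (kg xg11 yg7 zg22) (kg xg8 yg1 zg38) (kg xg10 yg13 zg22) (kg xg10 yg13 zg35) (kg xg10 yg13 zg36) (kg xg10 yg22 zg18) (kg xg11 yg7 zg26) (kg xg10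 yg16 zg27) (kg xg10 yg16 zg28) (kg xg10 yg16 zg29) (kg xg8 yg3 zg5) (kg xg10 yg16 zg30) (kg xg10 yg16 zg31) (kg xg10 yg16 zg32) (kg xg10 yg11 zg28) (kg xg11 yg4 zg13) (kg xg10 yg13 zg50) (kg xg8 yg1 zg50) (kg xg8 yg2 zg0) (kg xg8 yg2 zg1) (kg xg11 yg7 zg41) (kg xg11 yg7 zg42) (kg xg11 yg7 zg43) (kg xg8 yg2 zg4) (kg xg11 yg7 zg48) (kg xg10 yg17 zg14) (kg xg10 yg17 zg15) (kg xg9 yg17 zg40) (kg xg9 yg17 zg41) (kg xg8 yg2 zg9) (kg xg11 yg8 zg3) (kg xg8 yg2 zg12) (kg xg11 yg8 zg4) (kg xg10 yg17 zg31) (kg xg8 yg2 zg16) (kg xg11 yg8 zg7) (kg xg10 yg17 zg34) (kg xg10 yg17 zg35)) (@D3.rec (fun _ => Pt) (kg xg9 yg18 zg0) (kg xg9 yg18 zg1) (kg xg8 yg2 zg21) (kg xg8 yg2 zg22) (kg xg11 yg8 zg15) (kg xg11 yg8 zg16) (kg xg8 yg2 zg24) (kg xg11 yg8 zg18) (kg xg11 yg8 zg19)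 (kg xg10 yg17 zg45) (kg xg10 yg17 zg46) (kg xg10 yg17 zg47) (kg xg9 yg18 zg12) (kg xg9 yg18 zg13) (kg xg9 yg18 zg14) (kg xg8 yg2 zg32) (kg xg8 yg2 zg33) (kg xg8 yg2 zg34) (kg xg10 yg19 zg0) (kg xg8 yg2 zg35) (kg xg8 yg2 zg36) (kg xg11 yg8 zg35) (kg xg11 yg8 zg36) (kg xg11 yg8 zg38) (kg xg11 yg8 zg39) (kg xg11 yg8 zg41) (kg xg11 yg8 zg45) (kg xg9 yg18 zg27) (kg xg10 yg19 zg1) (kg xg8 yg2 zg42) (kg xg8 yg2 zg43) (kg xg11 yg8 zg47) (kg xg11 yg7 zg34) (kg xg11 yg8 zg48) (kg xg10 yg18 zg29) (kg xg10 yg18 zg30) (kg xg10 yg18 zg31) (kg xg10 yg18 zg32) (kg xg9 yg18 zg38) (kg xg9 yg18 zg39) (kg xg8 yg3 zg0) (kg xg8 yg3 zg1) (kg xg11 yg9 zg9) (kg xg8 yg3 zg6) (kg xg10 yg22 zg32) (kg xg11 yg2 zg49) (kg xg11 yg7 zg37) (kg xg10 yg22 zg17) (kg xg8 yg6 zg29) (kg xg8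 yg6 zg19) (kg xg10 yg18 zg39)) (@D3.rec (fun _ => Pt) (kg xg10 yg18 zg38) (kg xg10 yg18 zg37) (kg xg10 yg18 zg36) (kg xg9 yg19 zg3) (kg xg9 yg19 zg4) (kg xg9 yg19 zg5) (kg xg8 yg3 zg18) (kg xg8 yg3 zg19) (kg xg8 yg3 zg20) (kg xg11 yg9 zg16) (kg xg11 yg9 zg17) (kg xg8 yg9 zg7) (kg xg10 yg18 zg44) (kg xg9 yg19 zg13) (kg xg8 yg3 zg24) (kg xg8 yg3 zg25) (kg xg10 yg19 zg9) (kg xg8 yg3 zg27) (kg xg11 yg9 zg3) (kg xg10 yg19 zg12) (kg xg10 yg19 zg13) (kg xg9 yg19 zg21) (kg xg9 yg19 zg22) (kg xg8 yg3 zg32) (kg xg11 yg9 zg27) (kg xg8 yg3 zg34) (kg xg11 yg9 zg28) (kg xg11 yg9 zg29) (kg xg10 yg19 zg23) (kg xg10 yg19 zg24) (kg xg10 yg19 zg25) (kg xg9 yg19 zg31) (kg xg9 yg19 zg32) (kg xg8 yg3 zg41) (kg xg8 yg3 zg42) (kg xg8 yg3 zg43) (kg xg11 yg9 zg41) (kg xg11 yg9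 zg42) (kg xg11 yg9 zg43) (kg xg8 yg3 zg45) (kg xg8 yg3 zg46) (kg xg11 yg9 zg46) (kg xg10 yg23 zg33) (kg xg11 yg9 zg47) (kg xg10 yg19 zg50) (kg xg10 yg20 zg0) (kg xg10 yg20 zg1) (kg xg10 yg20 zg2) (kg xg9 yg19 zg48) (kg xg9 yg19 zg49) (kg xg8 yg4 zg3)) (@D3.rec (fun _ => Pt) (kg xg8 yg4 zg4) (kg xg11 yg10 zg8) (kg xg8 yg4 zg5) (kg xg11 yg9 zg2) (kg xg10 yg20 zg9) (kg xg10 yg20 zg10) (kg xg8 yg4 zg8) (kg xg11 yg10 zg13) (kg xg11 yg10 zg14) (kg xg10 yg20 zg14) (kg xg10 yg20 zg15) (kg xg10 yg20 zg16) (kg xg9 yg20 zg12) (kg xg9 yg20 zg13) (kg xg9 yg20 zg14) (kg xg8 yg4 zg16) (kg xg8 yg4 zg17) (kg xg8 yg4 zg18) (kg xg11 yg10 zg35) (kg xg8 yg4 zg20) (kg xg8 yg4 zg21) (kg xg11 yg10 zg29) (kg xg11 yg10 zg30) (kg xg11 yg10 zg31) (kg xg11 yg10 zg41) (kg xg11 yg10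 zg33) (kg xg11 yg10 zg34) (kg xg8 yg4 zg19) (kg xg11 yg10 zg45) (kg xg11 yg10 zg37) (kg xg8 yg4 zg23) (kg xg8 yg4 zg24) (kg xg11 yg10 zg47) (kg xg11 yg10 zg48) (kg xg11 yg10 zg49) (kg xg10 yg20 zg38) (kg xg10 yg20 zg39) (kg xg10 yg20 zg40) (kg xg11 yg11 zg12) (kg xg10 yg20 zg42) (kg xg10 yg20 zg43) (kg xg9 yg20 zg41) (kg xg9 yg20 zg42) (kg xg9 yg20 zg43) (kg xg11 yg11 zg21) (kg xg9 yg20 zg45) (kg xg9 yg20 zg46) (kg xg8 yg4 zg37) (kg xg8 yg4 zg38) (kg xg8 yg4 zg39) (kg xg11 yg11 zg29)) (@D3.rec (fun _ => Pt) (kg xg8 yg4 zg41) (kg xg8 yg4 zg42) (kg xg8 yg4 zg34) (kg xg11 yg11 zg34) (kg xg8 yg4 zg45) (kg xg11 yg11 zg24) (kg xg11 yg11 zg25) (kg xg11 yg11 zg38) (kg xg11 yg11 zg27) (kg xg11 yg11 zg28) (kg xg8 yg4 zg40) (kg xg11 yg11 zg43) (kg xg11 yg11 zg31)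 (kg xg11 yg11 zg32) (kg xg9 yg21 zg14) (kg xg8 yg4 zg44) (kg xg11 yg11 zg48) (kg xg8 yg4 zg46) (kg xg11 yg11 zg50) (kg xg11 yg11 zg49) (kg xg8 yg4 zg49) (kg xg9 yg21 zg21) (kg xg8 yg5 zg4) (kg xg8 yg5 zg6) (kg xg10 yg23 zg24) (kg xg10 yg23 zg21) (kg xg11 yg12 zg1) (kg xg10 yg22 zg16) (kg xg10 yg22 zg15) (kg xg10 yg21 zg40) (kg xg10 yg21 zg41) (kg xg10 yg21 zg42) (kg xg10 yg21 zg43) (kg xg10 yg21 zg44) (kg xg10 yg21 zg45) (kg xg10 yg21 zg46) (kg xg9 yg21 zg36) (kg xg9 yg21 zg37) (kg xg9 yg21 zg38) (kg xg8 yg5 zg18) (kg xg8 yg5 zg19) (kg xg8 yg5 zg20) (kg xg11 yg12 zg13) (kg xg11 yg12 zg14) (kg xg11 yg12 zg15) (kg xg10 yg22 zg13) (kg xg9 yg21 zg46) (kg xg8 yg5 zg35) (kg xg8 yg5 zg36) (kg xg8 yg5 zg38) (kg xg11 yg12 zg16)) (@D3.rec (fun _ => Pt) (kg xg10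 yg22 zg28) (kg xg10 yg22 zg29) (kg xg8 yg5 zg41) (kg xg11 yg12 zg19) (kg xg8 yg5 zg45) (kg xg8 yg5 zg46) (kg xg10 yg19 zg8) (kg xg10 yg18 zg43) (kg xg9 yg22 zg8) (kg xg10 yg18 zg27) (kg xg9 yg22 zg10) (kg xg9 yg22 zg11) (kg xg8 yg6 zg15) (kg xg8 yg6 zg16) (kg xg10 yg22 zg33) (kg xg10 yg22 zg34) (kg xg11 yg9 zg12) (kg xg8 yg6 zg23) (kg xg10 yg23 zg18) (kg xg10 yg23 zg20) (kg xg10 yg22 zg39) (kg xg10 yg22 zg40) (kg xg10 yg22 zg41) (kg xg9 yg22 zg23) (kg xg10 yg26 zg36) (kg xg11 yg9 zg11) (kg xg10 yg22 zg45) (kg xg10 yg22 zg46) (kg xg10 yg22 zg47) (kg xg8 yg6 zg33) (kg xg8 yg6 zg34) (kg xg11 yg12 zg32) (kg xg10 yg22 zg9) (kg xg11 yg12 zg33) (kg xg10 yg23 zg0) (kg xg10 yg23 zg1) (kg xg10 yg23 zg2) (kg xg10 yg23 zg3) (kg xg9 yg22 zg38) (kg xg9 yg22 zg39) (kg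 xg8 yg6 zg42) (kg xg8 yg6 zg43) (kg xg11 yg12 zg45) (kg xg8 yg6 zg45) (kg xg10 yg23 zg23) (kg xg10 yg23 zg17) (kg xg10 yg23 zg11) (kg xg10 yg23 zg12) (kg xg10 yg23 zg13) (kg xg9 yg22 zg49) (kg xg10 yg23 zg22)) (@D3.rec (fun _ => Pt) (kg xg10 yg23 zg25) (kg xg9 yg23 zg1) (kg xg8 yg7 zg12) (kg xg8 yg7 zg13) (kg xg8 yg7 zg14) (kg xg8 yg7 zg19) (kg xg10 yg2 zg19) (kg xg10 yg2 zg0) (kg xg10 yg2 zg1) (kg xg10 yg1 zg34) (kg xg10 yg2 zg4) (kg xg10 yg23 zg46) (kg xg8 yg7 zg29) (kg xg8 yg8 zg40) (kg xg9 yg23 zg14) (kg xg9 yg23 zg15) (kg xg8 yg8 zg50) (kg xg8 yg7 zg38) (kg xg8 yg7 zg39) (kg xg10 yg9 zg35) (kg xg11 yg13 zg4) (kg xg10 yg11 zg9) (kg xg10 yg0 zg40) (kg xg10 yg0 zg41) (kg xg10 yg0 zg42) (kg xg9 yg23 zg25) (kg xg9 yg23 zg26) (kg xg9 yg23 zg27) (kg xg9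 yg23 zg28) (kg xg8 yg9 zg16) (kg xg8 yg9 zg17) (kg xg8 yg8 zg3) (kg xg8 yg8 zg4) (kg xg8 yg8 zg5) (kg xg11 yg13 zg15) (kg xg11 yg13 zg16) (kg xg11 yg13 zg17) (kg xg10 yg2 zg38) (kg xg9 yg23 zg38) (kg xg9 yg23 zg39) (kg xg10 yg0 zg36) (kg xg8 yg8 zg15) (kg xg10 yg14 zg38) (kg xg10 yg15 zg49) (kg xg11 yg13 zg23) (kg xg10 yg3 zg12) (kg xg8 yg11 zg17) (kg xg10 yg3 zg22) (kg xg10 yg2 zg25) (kg xg8 yg11 zg46) (kg xg8 yg8 zg19)) (@D3.rec (fun _ => Pt) (kg xg8 yg8 zg28) (kg xg8 yg8 zg29) (kg xg11 yg13 zg29) (kg xg8 yg8 zg31) (kg xg8 yg8 zg24) (kg xg11 yg13 zg31) (kg xg8 yg8 zg35) (kg xg10 yg14 zg8) (kg xg10 yg14 zg13) (kg xg10 yg12 zg42) (kg xg11 yg13 zg28) (kg xg10 yg25 zg25) (kg xg8 yg8 zg30) (kg xg11 yg13 zg39) (kg xg11 yg7 zg4) (kg xg10 yg16 zg6) (kg xg10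 yg1 zg25) (kg xg8 yg8 zg34) (kg xg10 yg24 zg42) (kg xg10 yg24 zg41) (kg xg10 yg24 zg39) (kg xg8 yg8 zg39) (kg xg10 yg0 zg43) (kg xg9 yg24 zg23) (kg xg9 yg24 zg24) (kg xg9 yg24 zg25) (kg xg9 yg24 zg26) (kg xg9 yg24 zg27) (kg xg9 yg24 zg28) (kg xg10 yg3 zg18) (kg xg10 yg3 zg31) (kg xg8 yg9 zg3) (kg xg8 yg9 zg4) (kg xg8 yg9 zg5) (kg xg11 yg13 zg50) (kg xg11 yg14 zg0) (kg xg11 yg14 zg1) (kg xg10 yg5 zg47) (kg xg10 yg26 zg47) (kg xg9 yg24 zg39) (kg xg9 yg24 zg40) (kg xg9 yg24 zg41) (kg xg9 yg24 zg42) (kg xg9 yg24 zg43) (kg xg9 yg24 zg44) (kg xg10 yg11 zg31) (kg xg11 yg13 zg13) (kg xg11 yg13 zg14) (kg xg8 yg9 zg21) (kg xg8 yg9 zg22) (kg xg8 yg9 zg23)) (@D3.rec (fun _ => Pt) (kg xg11 yg14 zg16) (kg xg11 yg14 zg17) (kg xg11 yg14 zg18) (kg xg11 yg14 zg24) (kg xg9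 yg25 zg4) (kg xg9 yg25 zg5) (kg xg9 yg25 zg6) (kg xg9 yg25 zg7) (kg xg9 yg25 zg8) (kg xg9 yg25 zg9) (kg xg8 yg9 zg31) (kg xg8 yg9 zg32) (kg xg8 yg9 zg33) (kg xg11 yg14 zg31) (kg xg11 yg14 zg32) (kg xg11 yg14 zg33) (kg xg8 yg11 zg7) (kg xg8 yg10 zg48) (kg xg9 yg25 zg18) (kg xg9 yg25 zg19) (kg xg9 yg25 zg20) (kg xg9 yg25 zg21) (kg xg9 yg25 zg22) (kg xg9 yg25 zg23) (kg xg9 yg25 zg24) (kg xg9 yg25 zg25) (kg xg9 yg25 zg26) (kg xg8 yg9 zg47) (kg xg8 yg9 zg48) (kg xg8 yg9 zg49) (kg xg11 yg14 zg37) (kg xg11 yg14 zg46) (kg xg11 yg14 zg47) (kg xg8 yg10 zg49) (kg xg10 yg0 zg47) (kg xg9 yg25 zg35) (kg xg9 yg25 zg36) (kg xg9 yg25 zg37) (kg xg9 yg25 zg38) (kg xg11 yg15 zg5) (kg xg9 yg25 zg40) (kg xg9 yg25 zg41) (kg xg8 yg10 zg4) (kg xg11 yg15 zg9) (kg xg9 yg25 zg44)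 (kg xg9 yg25 zg45) (kg xg9 yg25 zg46) (kg xg9 yg25 zg47) (kg xg11 yg0 zg42) (kg xg9 yg25 zg49) (kg xg9 yg25 zg50)) (@D3.rec (fun _ => Pt) (kg xg11 yg0 zg44) (kg xg9 yg26 zg1) (kg xg8 yg10 zg22) (kg xg8 yg10 zg23) (kg xg11 yg15 zg21) (kg xg8 yg10 zg25) (kg xg8 yg10 zg26) (kg xg8 yg10 zg16) (kg xg11 yg15 zg25) (kg xg8 yg10 zg29) (kg xg8 yg10 zg30) (kg xg11 yg0 zg39) (kg xg8 yg10 zg20) (kg xg11 yg15 zg30) (kg xg11 yg15 zg31) (kg xg11 yg15 zg19) (kg xg11 yg15 zg20) (kg xg8 yg10 zg24) (kg xg11 yg15 zg35) (kg xg11 yg15 zg23) (kg xg11 yg14 zg48) (kg xg9 yg26 zg21) (kg xg8 yg10 zg28) (kg xg11 yg15 zg39) (kg xg11 yg15 zg27) (kg xg11 yg15 zg28) (kg xg9 yg26 zg26) (kg xg8 yg10 zg33) (kg xg8 yg10 zg36) (kg xg8 yg10 zg35) (kg xg11 yg15 zg42) (kg xg9 yg26 zg31) (kg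 xg9 yg26 zg32) (kg xg8 yg10 zg50) (kg xg9 yg26 zg34) (kg xg8 yg11 zg8) (kg xg8 yg11 zg9) (kg xg9 yg26 zg37) (kg xg11 yg0 zg41) (kg xg10 yg10 zg31) (kg xg9 yg26 zg40) (kg xg9 yg26 zg41) (kg xg8 yg11 zg22) (kg xg8 yg11 zg25) (kg xg9 yg26 zg44) (kg xg8 yg11 zg32) (kg xg10 yg15 zg6) (kg xg8 yg11 zg42) (kg xg10 yg1 zg30) (kg xg10 yg3 zg38) (kg xg9 yg26 zg50))
def f_g_10 : D2 → D3 → Pt := @D2.rec (fun _ => D3 → Pt) (@D3.rec (fun _ => Pt) (kg xg10 yg0 zg0) (kg xg10 yg0 zg1) (kg xg10 yg0 zg2) (kg xg8 yg12 zg4) (kg xg10 yg0 zg4) (kg xg10 yg0 zg5) (kg xg10 yg0 zg6) (kg xg10 yg0 zg7) (kg xg8 yg12 zg10) (kg xg11 yg16 zg4) (kg xg10 yg0 zg10) (kg xg8 yg12 zg13) (kg xg10 yg6 zg38) (kg xg8 yg12 zg17) (kg xg10 yg0 zg14) (kg xg10 yg0 zg15) (kg xg10 yg16 zg43) (kg xg10 yg0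 zg17) (kg xg10 yg0 zg18) (kg xg10 yg0 zg19) (kg xg10 yg5 zg13) (kg xg10 yg5 zg28) (kg xg10 yg0 zg22) (kg xg10 yg0 zg23) (kg xg10 yg0 zg24) (kg xg8 yg12 zg42) (kg xg10 yg1 zg32) (kg xg8 yg12 zg48) (kg xg11 yg16 zg14) (kg xg10 yg0 zg29) (kg xg10 yg0 zg30) (kg xg11 yg16 zg17) (kg xg8 yg13 zg14) (kg xg8 yg13 zg15) (kg xg11 yg16 zg20) (kg xg9 yg16 zg1) (kg xg9 yg23 zg40) (kg xg8 yg13 zg5) (kg xg11 yg16 zg24) (kg xg8 yg13 zg24) (kg xg9 yg23 zg22) (kg xg9 yg23 zg23) (kg xg9 yg23 zg24) (kg xg9 yg24 zg22) (kg xg8 yg13 zg13) (kg xg11 yg16 zg30) (kg xg11 yg16 zg19) (kg xg9 yg25 zg34) (kg xg11 yg16 zg33) (kg xg8 yg13 zg20) (kg xg8 yg13 zg21)) (@D3.rec (fun _ => Pt) (kg xg8 yg13 zg19) (kg xg11 yg16 zg37) (kg xg11 yg16 zg35) (kg xg10 yg1 zg3) (kg xg8 yg13 zg23) (kg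 xg11 yg16 zg40) (kg xg11 yg16 zg26) (kg xg8 yg13 zg27) (kg xg8 yg13 zg28) (kg xg8 yg13 zg29) (kg xg11 yg16 zg43) (kg xg11 yg16 zg44) (kg xg10 yg1 zg12) (kg xg10 yg1 zg13) (kg xg10 yg1 zg14) (kg xg10 yg1 zg15) (kg xg10 yg1 zg16) (kg xg10 yg1 zg17) (kg xg8 yg13 zg37) (kg xg8 yg13 zg38) (kg xg8 yg13 zg39) (kg xg11 yg17 zg1) (kg xg11 yg17 zg2) (kg xg11 yg17 zg3) (kg xg8 yg13 zg44) (kg xg9 yg24 zg16) (kg xg9 yg6 zg32) (kg xg9 yg6 zg35) (kg xg8 yg14 zg7) (kg xg8 yg13 zg49) (kg xg9 yg26 zg48) (kg xg9 yg6 zg33) (kg xg10 yg0 zg26) (kg xg8 yg14 zg9) (kg xg9 yg23 zg9) (kg xg8 yg14 zg33) (kg xg8 yg15 zg9) (kg xg8 yg14 zg11) (kg xg11 yg17 zg10) (kg xg11 yg17 zg11) (kg xg8 yg15 zg13) (kg xg8 yg14 zg14) (kg xg8 yg14 zg15) (kg xg11 yg17 zg16) (kg xg11 yg17 zg17) (kg xg10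 yg1 zg45) (kg xg8 yg15 zg21) (kg xg8 yg14 zg21) (kg xg9 yg7 zg8) (kg xg9 yg7 zg18) (kg xg8 yg14 zg28)) (@D3.rec (fun _ => Pt) (kg xg9 yg23 zg7) (kg xg9 yg23 zg8) (kg xg10 yg2 zg2) (kg xg9 yg13 zg39) (kg xg9 yg23 zg10) (kg xg11 yg17 zg25) (kg xg10 yg2 zg6) (kg xg10 yg2 zg7) (kg xg8 yg16 zg13) (kg xg8 yg14 zg42) (kg xg11 yg17 zg29) (kg xg11 yg17 zg30) (kg xg8 yg14 zg46) (kg xg8 yg14 zg47) (kg xg9 yg6 zg42) (kg xg9 yg13 zg18) (kg xg11 yg17 zg33) (kg xg11 yg17 zg38) (kg xg9 yg13 zg27) (kg xg9 yg23 zg6) (kg xg8 yg15 zg0) (kg xg11 yg17 zg42) (kg xg10 yg2 zg22) (kg xg9 yg6 zg43) (kg xg9 yg7 zg26) (kg xg9 yg23 zg48) (kg xg8 yg15 zg7) (kg xg11 yg17 zg46) (kg xg11 yg17 zg47) (kg xg11 yg18 zg0) (kg xg9 yg7 zg31) (kg xg11 yg17 zg9) (kg xg8 yg15 zg11) (kg xg8 yg15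 zg12) (kg xg11 yg18 zg6) (kg xg11 yg18 zg7) (kg xg11 yg18 zg8) (kg xg11 yg17 zg15) (kg xg9 yg23 zg37) (kg xg8 yg15 zg16) (kg xg8 yg15 zg17) (kg xg11 yg18 zg17) (kg xg11 yg18 zg18) (kg xg8 yg15 zg19) (kg xg9 yg8 zg38) (kg xg8 yg16 zg35) (kg xg9 yg7 zg37) (kg xg9 yg6 zg39) (kg xg9 yg7 zg39) (kg xg8 yg15 zg24) (kg xg8 yg15 zg25)) (@D3.rec (fun _ => Pt) (kg xg11 yg18 zg23) (kg xg11 yg18 zg24) (kg xg9 yg8 zg44) (kg xg9 yg9 zg0) (kg xg8 yg16 zg44) (kg xg8 yg15 zg35) (kg xg8 yg15 zg36) (kg xg11 yg18 zg28) (kg xg11 yg18 zg29) (kg xg9 yg9 zg5) (kg xg8 yg15 zg38) (kg xg9 yg7 zg40) (kg xg9 yg23 zg45) (kg xg8 yg15 zg40) (kg xg11 yg18 zg35) (kg xg11 yg18 zg36) (kg xg8 yg15 zg44) (kg xg9 yg17 zg5) (kg xg9 yg24 zg29) (kg xg8 yg18 zg3) (kg xg8 yg18 zg4) (kg xg9 yg7 zg30)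 (kg xg9 yg23 zg47) (kg xg11 yg17 zg44) (kg xg9 yg7 zg45) (kg xg8 yg16 zg0) (kg xg8 yg16 zg1) (kg xg9 yg16 zg24) (kg xg11 yg18 zg44) (kg xg11 yg18 zg48) (kg xg9 yg17 zg6) (kg xg9 yg24 zg30) (kg xg8 yg16 zg5) (kg xg11 yg19 zg1) (kg xg8 yg18 zg26) (kg xg8 yg16 zg8) (kg xg9 yg8 zg6) (kg xg9 yg8 zg8) (kg xg9 yg26 zg49) (kg xg9 yg8 zg11) (kg xg11 yg17 zg28) (kg xg8 yg16 zg15) (kg xg8 yg16 zg16) (kg xg11 yg19 zg8) (kg xg11 yg19 zg9) (kg xg8 yg16 zg17) (kg xg11 yg18 zg21) (kg xg9 yg8 zg18) (kg xg9 yg8 zg19) (kg xg9 yg7 zg34) (kg xg9 yg7 zg38)) (@D3.rec (fun _ => Pt) (kg xg8 yg16 zg22) (kg xg8 yg16 zg23) (kg xg8 yg16 zg24) (kg xg9 yg15 zg1) (kg xg9 yg15 zg39) (kg xg11 yg19 zg19) (kg xg11 yg19 zg27) (kg xg11 yg19 zg21) (kg xg11 yg19 zg22) (kg xg11 yg19 zg30) (kg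 xg8 yg16 zg29) (kg xg8 yg16 zg30) (kg xg8 yg16 zg28) (kg xg11 yg19 zg34) (kg xg11 yg19 zg32) (kg xg11 yg17 zg41) (kg xg8 yg16 zg32) (kg xg11 yg19 zg38) (kg xg11 yg18 zg22) (kg xg9 yg8 zg40) (kg xg9 yg8 zg42) (kg xg8 yg16 zg42) (kg xg9 yg15 zg2) (kg xg9 yg14 zg36) (kg xg9 yg9 zg18) (kg xg11 yg19 zg42) (kg xg9 yg9 zg20) (kg xg10 yg4 zg27) (kg xg8 yg17 zg0) (kg xg8 yg17 zg1) (kg xg11 yg19 zg48) (kg xg11 yg19 zg49) (kg xg11 yg19 zg50) (kg xg8 yg17 zg2) (kg xg11 yg20 zg3) (kg xg9 yg9 zg27) (kg xg9 yg9 zg28) (kg xg10 yg4 zg37) (kg xg10 yg4 zg38) (kg xg8 yg17 zg7) (kg xg8 yg17 zg8) (kg xg8 yg17 zg9) (kg xg11 yg20 zg12) (kg xg11 yg20 zg13) (kg xg11 yg20 zg14) (kg xg11 yg20 zg16) (kg xg11 yg20 zg17) (kg xg10 yg4 zg47) (kg xg10 yg4 zg48) (kg xg9 yg2 zg41) (kg xg8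 yg17 zg14)) (@D3.rec (fun _ => Pt) (kg xg8 yg17 zg15) (kg xg11 yg20 zg26) (kg xg8 yg17 zg17) (kg xg9 yg12 zg4) (kg xg11 yg20 zg28) (kg xg9 yg9 zg37) (kg xg8 yg19 zg21) (kg xg9 yg9 zg38) (kg xg10 yg5 zg8) (kg xg10 yg5 zg9) (kg xg8 yg17 zg24) (kg xg8 yg17 zg25) (kg xg8 yg17 zg26) (kg xg10 yg0 zg20) (kg xg11 yg20 zg38) (kg xg11 yg20 zg39) (kg xg8 yg17 zg29) (kg xg9 yg12 zg22) (kg xg9 yg12 zg24) (kg xg9 yg9 zg47) (kg xg8 yg19 zg35) (kg xg9 yg9 zg48) (kg xg8 yg19 zg36) (kg xg9 yg9 zg49) (kg xg10 yg5 zg24) (kg xg10 yg5 zg25) (kg xg8 yg17 zg39) (kg xg8 yg17 zg40) (kg xg10 yg0 zg21) (kg xg11 yg21 zg0) (kg xg11 yg21 zg1) (kg xg9 yg10 zg8) (kg xg10 yg5 zg32) (kg xg8 yg17 zg42) (kg xg11 yg21 zg8) (kg xg11 yg21 zg9) (kg xg11 yg21 zg11) (kg xg9 yg10 zg12) (kg xg10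 yg5 zg38) (kg xg8 yg17 zg46) (kg xg8 yg17 zg47) (kg xg11 yg21 zg17) (kg xg11 yg21 zg18) (kg xg11 yg21 zg19) (kg xg10 yg5 zg44) (kg xg8 yg18 zg1) (kg xg8 yg18 zg2) (kg xg9 yg24 zg37) (kg xg11 yg21 zg24) (kg xg11 yg21 zg25) (kg xg11 yg18 zg41)) (@D3.rec (fun _ => Pt) (kg xg9 yg9 zg19) (kg xg11 yg19 zg40) (kg xg9 yg10 zg18) (kg xg10 yg6 zg3) (kg xg8 yg18 zg8) (kg xg8 yg18 zg9) (kg xg11 yg21 zg34) (kg xg11 yg21 zg35) (kg xg11 yg21 zg36) (kg xg8 yg18 zg10) (kg xg11 yg21 zg40) (kg xg9 yg10 zg26) (kg xg9 yg10 zg27) (kg xg10 yg6 zg13) (kg xg10 yg6 zg14) (kg xg8 yg18 zg15) (kg xg8 yg18 zg16) (kg xg8 yg18 zg17) (kg xg11 yg21 zg47) (kg xg11 yg22 zg1) (kg xg11 yg21 zg49) (kg xg11 yg21 zg50) (kg xg11 yg22 zg4) (kg xg8 yg18 zg22) (kg xg8 yg18 zg23) (kg xg8 yg18 zg21)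 (kg xg11 yg22 zg8) (kg xg11 yg22 zg6) (kg xg10 yg6 zg28) (kg xg8 yg18 zg25) (kg xg11 yg22 zg12) (kg xg8 yg18 zg28) (kg xg11 yg22 zg13) (kg xg9 yg10 zg45) (kg xg9 yg10 zg47) (kg xg8 yg18 zg34) (kg xg8 yg18 zg35) (kg xg11 yg22 zg16) (kg xg10 yg0 zg12) (kg xg9 yg11 zg5) (kg xg8 yg18 zg37) (kg xg11 yg22 zg21) (kg xg9 yg11 zg8) (kg xg9 yg11 zg9) (kg xg10 yg6 zg44) (kg xg10 yg6 zg45) (kg xg8 yg18 zg42) (kg xg8 yg18 zg43) (kg xg8 yg18 zg44) (kg xg11 yg22 zg30) (kg xg11 yg22 zg31)) (@D3.rec (fun _ => Pt) (kg xg11 yg22 zg32) (kg xg11 yg22 zg39) (kg xg11 yg22 zg34) (kg xg11 yg22 zg35) (kg xg8 yg18 zg46) (kg xg11 yg22 zg42) (kg xg11 yg22 zg43) (kg xg9 yg11 zg24) (kg xg9 yg11 zg25) (kg xg9 yg11 zg26) (kg xg10 yg7 zg10) (kg xg10 yg7 zg11) (kg xg10 yg7 zg12) (kg xg8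 yg19 zg3) (kg xg8 yg19 zg4) (kg xg8 yg19 zg5) (kg xg11 yg23 zg13) (kg xg8 yg19 zg7) (kg xg8 yg19 zg8) (kg xg11 yg23 zg7) (kg xg11 yg23 zg8) (kg xg11 yg23 zg9) (kg xg11 yg23 zg19) (kg xg11 yg23 zg11) (kg xg11 yg23 zg12) (kg xg8 yg19 zg6) (kg xg11 yg23 zg24) (kg xg11 yg23 zg15) (kg xg11 yg23 zg27) (kg xg10 yg7 zg29) (kg xg10 yg7 zg30) (kg xg8 yg19 zg11) (kg xg11 yg23 zg31) (kg xg8 yg19 zg16) (kg xg10 yg7 zg34) (kg xg8 yg19 zg15) (kg xg11 yg23 zg35) (kg xg11 yg23 zg33) (kg xg10 yg7 zg38) (kg xg8 yg19 zg19) (kg xg8 yg19 zg22) (kg xg11 yg20 zg32) (kg xg11 yg20 zg34) (kg xg9 yg12 zg6) (kg xg9 yg12 zg7) (kg xg9 yg12 zg8) (kg xg9 yg12 zg9) (kg xg9 yg12 zg10) (kg xg10 yg7 zg48) (kg xg10 yg7 zg49) (kg xg10 yg7 zg50)) (@D3.rec (fun _ => Pt) (kg xg8 yg19 zg31) (kg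 xg8 yg19 zg32) (kg xg8 yg19 zg33) (kg xg11 yg24 zg1) (kg xg11 yg24 zg2) (kg xg11 yg24 zg3) (kg xg11 yg20 zg45) (kg xg11 yg20 zg47) (kg xg11 yg20 zg49) (kg xg9 yg12 zg26) (kg xg9 yg12 zg27) (kg xg9 yg12 zg28) (kg xg9 yg12 zg30) (kg xg9 yg12 zg31) (kg xg9 yg12 zg32) (kg xg10 yg8 zg15) (kg xg10 yg8 zg16) (kg xg10 yg8 zg17) (kg xg8 yg19 zg48) (kg xg8 yg19 zg49) (kg xg8 yg19 zg50) (kg xg11 yg24 zg19) (kg xg11 yg24 zg20) (kg xg11 yg24 zg21) (kg xg10 yg8 zg24) (kg xg8 yg20 zg11) (kg xg8 yg20 zg12) (kg xg10 yg8 zg27) (kg xg8 yg20 zg7) (kg xg8 yg20 zg8) (kg xg8 yg20 zg6) (kg xg8 yg20 zg36) (kg xg11 yg24 zg24) (kg xg10 yg8 zg33) (kg xg10 yg8 zg34) (kg xg8 yg20 zg30) (kg xg11 yg24 zg22) (kg xg8 yg23 zg4) (kg xg8 yg23 zg8) (kg xg8 yg23 zg9) (kg xg8 yg20 zg19) (kg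 xg9 yg14 zg0) (kg xg9 yg14 zg10) (kg xg11 yg24 zg31) (kg xg8 yg20 zg21) (kg xg11 yg24 zg35) (kg xg8 yg23 zg18) (kg xg8 yg20 zg23) (kg xg11 yg24 zg39) (kg xg8 yg20 zg25) (kg xg11 yg24 zg41)) (@D3.rec (fun _ => Pt) (kg xg8 yg21 zg21) (kg xg8 yg23 zg24) (kg xg8 yg20 zg27) (kg xg11 yg24 zg47) (kg xg11 yg24 zg48) (kg xg8 yg23 zg28) (kg xg8 yg20 zg31) (kg xg8 yg21 zg9) (kg xg11 yg24 zg28) (kg xg10 yg9 zg9) (kg xg11 yg25 zg4) (kg xg9 yg7 zg24) (kg xg8 yg23 zg36) (kg xg8 yg20 zg37) (kg xg8 yg20 zg50) (kg xg11 yg24 zg25) (kg xg8 yg23 zg41) (kg xg8 yg23 zg43) (kg xg8 yg20 zg41) (kg xg11 yg25 zg10) (kg xg11 yg25 zg11) (kg xg11 yg18 zg32) (kg xg9 yg7 zg22) (kg xg8 yg23 zg49) (kg xg8 yg20 zg45) (kg xg8 yg20 zg46) (kg xg11 yg24 zg50) (kg xg11 yg24 zg49) (kg xg11 yg25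 zg20) (kg xg8 yg24 zg4) (kg xg8 yg24 zg5) (kg xg8 yg21 zg0) (kg xg9 yg14 zg6) (kg xg11 yg25 zg8) (kg xg11 yg25 zg27) (kg xg9 yg23 zg19) (kg xg10 yg9 zg36) (kg xg8 yg21 zg4) (kg xg9 yg9 zg4) (kg xg9 yg7 zg25) (kg xg8 yg24 zg18) (kg xg8 yg24 zg19) (kg xg8 yg21 zg10) (kg xg9 yg13 zg50) (kg xg11 yg25 zg2) (kg xg11 yg25 zg32) (kg xg8 yg24 zg32) (kg xg8 yg21 zg20) (kg xg9 yg13 zg23) (kg xg9 yg14 zg1) (kg xg9 yg14 zg11)) (@D3.rec (fun _ => Pt) (kg xg11 yg24 zg45) (kg xg8 yg24 zg43) (kg xg8 yg21 zg23) (kg xg11 yg25 zg39) (kg xg11 yg25 zg40) (kg xg8 yg21 zg26) (kg xg8 yg24 zg50) (kg xg8 yg21 zg28) (kg xg11 yg25 zg44) (kg xg11 yg25 zg45) (kg xg11 yg25 zg49) (kg xg9 yg13 zg14) (kg xg8 yg25 zg5) (kg xg8 yg21 zg32) (kg xg8 yg21 zg33) (kg xg11 yg26 zg3) (kg xg11 yg26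 zg4) (kg xg11 yg26 zg5) (kg xg8 yg25 zg12) (kg xg8 yg21 zg37) (kg xg8 yg21 zg38) (kg xg11 yg26 zg12) (kg xg11 yg26 zg13) (kg xg8 yg21 zg40) (kg xg9 yg13 zg24) (kg xg8 yg25 zg22) (kg xg8 yg21 zg45) (kg xg8 yg21 zg46) (kg xg11 yg26 zg15) (kg xg11 yg26 zg16) (kg xg11 yg26 zg17) (kg xg9 yg26 zg39) (kg xg9 yg7 zg14) (kg xg8 yg25 zg31) (kg xg8 yg22 zg0) (kg xg8 yg22 zg1) (kg xg11 yg26 zg25) (kg xg11 yg26 zg26) (kg xg11 yg26 zg27) (kg xg8 yg22 zg2) (kg xg9 yg13 zg33) (kg xg9 yg13 zg34) (kg xg8 yg25 zg41) (kg xg8 yg25 zg42) (kg xg8 yg22 zg7) (kg xg8 yg22 zg8) (kg xg8 yg22 zg9) (kg xg9 yg13 zg4) (kg xg11 yg26 zg37) (kg xg11 yg26 zg38) (kg xg11 yg26 zg47)) (@D3.rec (fun _ => Pt) (kg xg11 yg26 zg39) (kg xg11 yg26 zg40) (kg xg8 yg22 zg14) (kg xg8 yg22 zg15) (kg xg8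 yg22 zg13) (kg xg12 yg0 zg1) (kg xg11 yg26 zg50) (kg xg8 yg26 zg9) (kg xg8 yg22 zg17) (kg xg9 yg23 zg21) (kg xg8 yg22 zg25) (kg xg8 yg22 zg26) (kg xg9 yg12 zg48) (kg xg9 yg13 zg10) (kg xg12 yg0 zg4) (kg xg9 yg12 zg49) (kg xg9 yg13 zg11) (kg xg8 yg26 zg43) (kg xg8 yg22 zg34) (kg xg8 yg22 zg35) (kg xg12 yg0 zg10) (kg xg8 yg26 zg48) (kg xg8 yg22 zg38) (kg xg8 yg22 zg39) (kg xg12 yg0 zg12) (kg xg8 yg22 zg42) (kg xg8 yg22 zg45) (kg xg8 yg22 zg46) (kg xg9 yg17 zg27) (kg xg12 yg0 zg15) (kg xg12 yg0 zg16) (kg xg9 yg24 zg45) (kg xg9 yg0 zg11) (kg xg10 yg11 zg33) (kg xg10 yg11 zg34) (kg xg8 yg23 zg2) (kg xg8 yg23 zg3) (kg xg11 yg19 zg0) (kg xg12 yg0 zg22) (kg xg12 yg0 zg23) (kg xg8 yg26 zg41) (kg xg8 yg26 zg42) (kg xg10 yg11 zg42) (kg xg10 yg11 zg43) (kg xg10 yg11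 zg44) (kg xg9 yg14 zg9) (kg xg11 yg24 zg30) (kg xg8 yg23 zg12) (kg xg8 yg23 zg13) (kg xg8 yg23 zg14) (kg xg11 yg16 zg23)) (@D3.rec (fun _ => Pt) (kg xg12 yg0 zg32) (kg xg12 yg0 zg33) (kg xg8 yg23 zg15) (kg xg12 yg0 zg37) (kg xg9 yg14 zg19) (kg xg11 yg24 zg34) (kg xg8 yg23 zg17) (kg xg12 yg0 zg42) (kg xg12 yg0 zg43) (kg xg11 yg24 zg38) (kg xg8 yg23 zg20) (kg xg9 yg14 zg20) (kg xg11 yg24 zg40) (kg xg8 yg23 zg22) (kg xg12 yg0 zg49) (kg xg12 yg0 zg50) (kg xg12 yg1 zg3) (kg xg9 yg14 zg25) (kg xg11 yg24 zg46) (kg xg8 yg23 zg26) (kg xg8 yg23 zg27) (kg xg12 yg1 zg9) (kg xg12 yg1 zg10) (kg xg12 yg1 zg11) (kg xg11 yg25 zg1) (kg xg8 yg23 zg31) (kg xg8 yg23 zg32) (kg xg12 yg1 zg17) (kg xg12 yg1 zg18) (kg xg8 yg23 zg34) (kg xg12 yg1 zg20) (kg xg9 yg14 zg34) (kg xg9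 yg14 zg35) (kg xg11 yg25 zg7) (kg xg8 yg23 zg39) (kg xg8 yg23 zg40) (kg xg11 yg18 zg14) (kg xg12 yg1 zg24) (kg xg12 yg1 zg25) (kg xg9 yg10 zg11) (kg xg11 yg18 zg33) (kg xg9 yg14 zg42) (kg xg9 yg24 zg9) (kg xg8 yg23 zg45) (kg xg8 yg23 zg46) (kg xg12 yg1 zg34) (kg xg12 yg1 zg35) (kg xg12 yg1 zg36) (kg xg8 yg23 zg47) (kg xg12 yg1 zg43) (kg xg9 yg14 zg50)) (@D3.rec (fun _ => Pt) (kg xg9 yg15 zg0) (kg xg11 yg25 zg18) (kg xg11 yg25 zg19) (kg xg8 yg24 zg1) (kg xg8 yg24 zg2) (kg xg8 yg24 zg3) (kg xg12 yg1 zg50) (kg xg12 yg1 zg7) (kg xg12 yg2 zg0) (kg xg12 yg2 zg10) (kg xg12 yg2 zg2) (kg xg12 yg2 zg3) (kg xg11 yg25 zg26) (kg xg12 yg2 zg14) (kg xg8 yg24 zg9) (kg xg8 yg24 zg10) (kg xg8 yg24 zg8) (kg xg12 yg2 zg17) (kg xg12 yg2 zg16) (kg xg8 yg24 zg12) (kg xg12 yg2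 zg20) (kg xg8 yg24 zg15) (kg xg9 yg17 zg15) (kg xg12 yg2 zg21) (kg xg9 yg15 zg15) (kg xg9 yg15 zg16) (kg xg9 yg15 zg17) (kg xg11 yg25 zg31) (kg xg8 yg24 zg22) (kg xg8 yg24 zg23) (kg xg8 yg24 zg24) (kg xg11 yg19 zg33) (kg xg12 yg2 zg30) (kg xg12 yg2 zg31) (kg xg8 yg24 zg27) (kg xg9 yg17 zg16) (kg xg9 yg17 zg17) (kg xg8 yg26 zg13) (kg xg8 yg26 zg27) (kg xg8 yg26 zg28) (kg xg9 yg15 zg23) (kg xg9 yg15 zg24) (kg xg9 yg13 zg49) (kg xg9 yg9 zg11) (kg xg9 yg15 zg27) (kg xg8 yg24 zg36) (kg xg8 yg24 zg37) (kg xg8 yg24 zg38) (kg xg12 yg2 zg44) (kg xg12 yg2 zg45) (kg xg9 yg17 zg29)) (@D3.rec (fun _ => Pt) (kg xg8 yg24 zg39) (kg xg9 yg14 zg24) (kg xg11 yg24 zg44) (kg xg8 yg24 zg41) (kg xg12 yg2 zg50) (kg xg12 yg3 zg0) (kg xg12 yg0 zg46) (kg xg9 yg15 zg12) (kg xg9 yg24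 zg7) (kg xg8 yg24 zg45) (kg xg8 yg24 zg46) (kg xg12 yg3 zg7) (kg xg12 yg3 zg8) (kg xg9 yg24 zg8) (kg xg9 yg15 zg29) (kg xg12 yg0 zg39) (kg xg9 yg15 zg30) (kg xg11 yg25 zg43) (kg xg8 yg25 zg1) (kg xg8 yg25 zg2) (kg xg12 yg3 zg19) (kg xg12 yg3 zg20) (kg xg12 yg3 zg21) (kg xg8 yg25 zg3) (kg xg12 yg3 zg27) (kg xg9 yg15 zg37) (kg xg9 yg15 zg38) (kg xg11 yg26 zg1) (kg xg11 yg26 zg2) (kg xg8 yg25 zg8) (kg xg8 yg25 zg9) (kg xg8 yg25 zg10) (kg xg12 yg3 zg36) (kg xg12 yg3 zg37) (kg xg12 yg3 zg38) (kg xg12 yg3 zg40) (kg xg12 yg3 zg41) (kg xg9 yg16 zg4) (kg xg9 yg23 zg42) (kg xg11 yg18 zg16) (kg xg8 yg25 zg15) (kg xg8 yg25 zg16) (kg xg12 yg4 zg1) (kg xg8 yg25 zg18) (kg xg12 yg2 zg37) (kg xg12 yg4 zg3) (kg xg9 yg15 zg49) (kg xg9 yg15 zg50) (kg xg9 yg16 zg0) (kg xg9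 yg15 zg20) (kg xg9 yg15 zg25)) (@D3.rec (fun _ => Pt) (kg xg8 yg25 zg25) (kg xg8 yg25 zg26) (kg xg8 yg25 zg27) (kg xg12 yg4 zg14) (kg xg12 yg4 zg15) (kg xg12 yg4 zg16) (kg xg9 yg26 zg46) (kg xg9 yg11 zg45) (kg xg8 yg25 zg29) (kg xg12 yg4 zg23) (kg xg9 yg16 zg8) (kg xg9 yg16 zg9) (kg xg11 yg26 zg23) (kg xg11 yg26 zg24) (kg xg8 yg25 zg34) (kg xg8 yg25 zg35) (kg xg8 yg25 zg36) (kg xg12 yg4 zg32) (kg xg12 yg4 zg33) (kg xg12 yg4 zg34) (kg xg12 yg4 zg41) (kg xg12 yg4 zg36) (kg xg12 yg4 zg37) (kg xg8 yg25 zg38) (kg xg12 yg4 zg44) (kg xg12 yg4 zg45) (kg xg9 yg16 zg21) (kg xg9 yg16 zg22) (kg xg9 yg16 zg23) (kg xg9 yg15 zg6) (kg xg9 yg15 zg43) (kg xg11 yg26 zg36) (kg xg8 yg25 zg46) (kg xg8 yg25 zg47) (kg xg8 yg25 zg48) (kg xg12 yg5 zg15) (kg xg8 yg25 zg50) (kg xg8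 yg26 zg0) (kg xg12 yg5 zg9) (kg xg12 yg5 zg10) (kg xg12 yg5 zg11) (kg xg12 yg5 zg21) (kg xg12 yg5 zg13) (kg xg12 yg5 zg14) (kg xg8 yg25 zg49) (kg xg12 yg5 zg26) (kg xg12 yg5 zg17) (kg xg12 yg4 zg7) (kg xg9 yg16 zg5) (kg xg9 yg23 zg43) (kg xg8 yg26 zg3)) (@D3.rec (fun _ => Pt) (kg xg12 yg5 zg32) (kg xg8 yg26 zg8) (kg xg12 yg0 zg0) (kg xg8 yg26 zg7) (kg xg12 yg5 zg36) (kg xg12 yg5 zg34) (kg xg9 yg24 zg15) (kg xg8 yg26 zg11) (kg xg8 yg26 zg14) (kg xg12 yg2 zg24) (kg xg12 yg2 zg38) (kg xg12 yg2 zg39) (kg xg9 yg17 zg0) (kg xg9 yg17 zg1) (kg xg9 yg17 zg2) (kg xg9 yg17 zg3) (kg xg9 yg17 zg4) (kg xg9 yg15 zg21) (kg xg9 yg15 zg26) (kg xg8 yg26 zg23) (kg xg8 yg26 zg24) (kg xg8 yg26 zg25) (kg xg12 yg6 zg0) (kg xg12 yg6 zg1) (kg xg12 yg6 zg2) (kg xg12 yg2 zg40) (kg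 xg12 yg2 zg41) (kg xg9 yg17 zg20) (kg xg9 yg17 zg21) (kg xg9 yg17 zg22) (kg xg9 yg17 zg24) (kg xg9 yg17 zg25) (kg xg9 yg17 zg26) (kg xg8 yg26 zg38) (kg xg8 yg26 zg39) (kg xg12 yg6 zg13) (kg xg9 yg17 zg7) (kg xg12 yg0 zg26) (kg xg12 yg0 zg9) (kg xg8 yg26 zg46) (kg xg8 yg26 zg47) (kg xg12 yg6 zg14) (kg xg12 yg6 zg15) (kg xg10 yg0 zg16) (kg xg10 yg16 zg44) (kg xg12 yg6 zg17) (kg xg9 yg0 zg7) (kg xg9 yg0 zg8) (kg xg9 yg0 zg6) (kg xg12 yg6 zg20) (kg xg12 yg6 zg19)) (@D3.rec (fun _ => Pt) (kg xg9 yg0 zg10) (kg xg12 yg6 zg22) (kg xg12 yg0 zg20) (kg xg10 yg17 zg3) (kg xg12 yg3 zg12) (kg xg9 yg10 zg40) (kg xg10 yg17 zg6) (kg xg9 yg0 zg23) (kg xg9 yg0 zg24) (kg xg12 yg6 zg29) (kg xg12 yg6 zg30) (kg xg10 yg17 zg11) (kg xg9 yg0 zg27) (kg xg12 yg6 zg33) (kg xg9 yg17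 zg38) (kg xg9 yg17 zg39) (kg xg10 yg17 zg16) (kg xg10 yg17 zg17) (kg xg9 yg0 zg32) (kg xg9 yg0 zg33) (kg xg12 yg6 zg41) (kg xg12 yg6 zg42) (kg xg10 yg17 zg22) (kg xg10 yg17 zg23) (kg xg11 yg21 zg23) (kg xg9 yg0 zg38) (kg xg9 yg0 zg39) (kg xg12 yg6 zg47) (kg xg9 yg0 zg41) (kg xg12 yg6 zg49) (kg xg11 yg21 zg5) (kg xg9 yg17 zg46) (kg xg9 yg0 zg45) (kg xg12 yg7 zg2) (kg xg9 yg17 zg49) (kg xg9 yg17 zg50) (kg xg10 yg17 zg36) (kg xg10 yg17 zg37) (kg xg9 yg0 zg50) (kg xg9 yg1 zg0) (kg xg12 yg7 zg10) (kg xg12 yg7 zg11) (kg xg9 yg1 zg2) (kg xg12 yg7 zg13) (kg xg12 yg7 zg14) (kg xg9 yg18 zg9) (kg xg9 yg18 zg10) (kg xg9 yg18 zg11) (kg xg10 yg17 zg48) (kg xg10 yg17 zg49) (kg xg10 yg17 zg50)) (@D3.rec (fun _ => Pt) (kg xg9 yg1 zg10) (kg xg9 yg1 zg11) (kg xg9 yg1 zg12)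 (kg xg12 yg7 zg32) (kg xg9 yg1 zg14) (kg xg9 yg1 zg15) (kg xg12 yg7 zg28) (kg xg12 yg7 zg30) (kg xg12 yg7 zg31) (kg xg9 yg1 zg13) (kg xg12 yg7 zg38) (kg xg12 yg7 zg34) (kg xg12 yg7 zg41) (kg xg10 yg18 zg13) (kg xg10 yg18 zg14) (kg xg9 yg1 zg18) (kg xg12 yg7 zg45) (kg xg9 yg1 zg23) (kg xg10 yg18 zg18) (kg xg9 yg1 zg22) (kg xg12 yg7 zg49) (kg xg12 yg7 zg47) (kg xg10 yg18 zg22) (kg xg9 yg1 zg26) (kg xg9 yg1 zg28) (kg xg9 yg1 zg29) (kg xg12 yg8 zg2) (kg xg9 yg22 zg9) (kg xg12 yg8 zg3) (kg xg9 yg18 zg34) (kg xg9 yg18 zg35) (kg xg9 yg18 zg36) (kg xg9 yg18 zg37) (kg xg10 yg18 zg33) (kg xg9 yg1 zg37) (kg xg9 yg1 zg42) (kg xg9 yg19 zg2) (kg xg9 yg19 zg1) (kg xg9 yg19 zg0) (kg xg9 yg18 zg50) (kg xg9 yg2 zg2) (kg xg9 yg2 zg3) (kg xg9 yg5 zg7) (kg xg9 yg22 zg7) (kg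 xg9 yg19 zg12) (kg xg10 yg18 zg45) (kg xg9 yg2 zg7) (kg xg9 yg2 zg8) (kg xg12 yg8 zg14) (kg xg9 yg2 zg9) (kg xg12 yg8 zg16)) (@D3.rec (fun _ => Pt) (kg xg9 yg18 zg18) (kg xg9 yg18 zg28) (kg xg10 yg19 zg2) (kg xg10 yg19 zg3) (kg xg9 yg2 zg14) (kg xg9 yg2 zg15) (kg xg12 yg8 zg24) (kg xg12 yg8 zg25) (kg xg9 yg22 zg6) (kg xg9 yg19 zg16) (kg xg9 yg2 zg18) (kg xg12 yg8 zg30) (kg xg9 yg19 zg19) (kg xg9 yg19 zg20) (kg xg10 yg19 zg14) (kg xg10 yg19 zg15) (kg xg9 yg2 zg23) (kg xg9 yg2 zg24) (kg xg12 yg8 zg38) (kg xg12 yg8 zg39) (kg xg9 yg2 zg26) (kg xg12 yg8 zg41) (kg xg12 yg8 zg42) (kg xg9 yg19 zg28) (kg xg9 yg19 zg29) (kg xg9 yg19 zg30) (kg xg10 yg19 zg26) (kg xg10 yg19 zg27) (kg xg10 yg19 zg28) (kg xg9 yg2 zg34) (kg xg9 yg2 zg35) (kg xg9 yg2 zg36) (kg xg11 yg20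 zg15) (kg xg9 yg2 zg37) (kg xg9 yg2 zg38) (kg xg12 yg9 zg6) (kg xg12 yg9 zg8) (kg xg12 yg9 zg9) (kg xg12 yg9 zg11) (kg xg12 yg9 zg15) (kg xg10 yg19 zg40) (kg xg10 yg19 zg41) (kg xg11 yg20 zg25) (kg xg9 yg2 zg44) (kg xg12 yg9 zg19) (kg xg9 yg2 zg46) (kg xg9 yg2 zg47) (kg xg12 yg9 zg21) (kg xg12 yg9 zg22) (kg xg12 yg9 zg23) (kg xg9 yg19 zg44)) (@D3.rec (fun _ => Pt) (kg xg9 yg19 zg45) (kg xg9 yg19 zg46) (kg xg9 yg19 zg47) (kg xg10 yg20 zg3) (kg xg9 yg3 zg4) (kg xg9 yg3 zg5) (kg xg12 yg9 zg32) (kg xg9 yg3 zg6) (kg xg12 yg9 zg33) (kg xg9 yg20 zg4) (kg xg9 yg20 zg5) (kg xg9 yg3 zg9) (kg xg12 yg9 zg39) (kg xg12 yg9 zg40) (kg xg9 yg20 zg9) (kg xg9 yg20 zg10) (kg xg9 yg20 zg11) (kg xg10 yg20 zg17) (kg xg10 yg20 zg18) (kg xg10 yg20 zg19) (kg xg9 yg3 zg17) (kg xg9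 yg3 zg18) (kg xg9 yg3 zg19) (kg xg12 yg10 zg9) (kg xg9 yg3 zg21) (kg xg9 yg3 zg22) (kg xg12 yg10 zg5) (kg xg12 yg10 zg13) (kg xg12 yg10 zg7) (kg xg12 yg10 zg8) (kg xg9 yg3 zg20) (kg xg12 yg10 zg17) (kg xg12 yg10 zg11) (kg xg9 yg3 zg24) (kg xg9 yg3 zg25) (kg xg12 yg10 zg20) (kg xg12 yg10 zg21) (kg xg12 yg10 zg22) (kg xg9 yg20 zg35) (kg xg9 yg20 zg36) (kg xg9 yg20 zg37) (kg xg12 yg10 zg36) (kg xg9 yg20 zg39) (kg xg9 yg20 zg40) (kg xg10 yg20 zg44) (kg xg10 yg20 zg45) (kg xg10 yg20 zg46) (kg xg12 yg10 zg45) (kg xg10 yg20 zg48) (kg xg10 yg20 zg49) (kg xg9 yg3 zg38)) (@D3.rec (fun _ => Pt) (kg xg9 yg3 zg39) (kg xg9 yg3 zg40) (kg xg12 yg11 zg1) (kg xg9 yg3 zg42) (kg xg9 yg3 zg43) (kg xg9 yg3 zg35) (kg xg12 yg11 zg6) (kg xg9 yg3 zg46) (kg xg12 yg10 zg48) (kg xg12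 yg11 zg10) (kg xg12 yg10 zg50) (kg xg12 yg11 zg0) (kg xg9 yg3 zg41) (kg xg12 yg11 zg15) (kg xg12 yg11 zg3) (kg xg12 yg11 zg4) (kg xg10 yg21 zg16) (kg xg9 yg3 zg45) (kg xg12 yg11 zg20) (kg xg12 yg11 zg8) (kg xg9 yg3 zg47) (kg xg12 yg11 zg24) (kg xg10 yg21 zg22) (kg xg12 yg11 zg23) (kg xg9 yg4 zg0) (kg xg12 yg11 zg28) (kg xg9 yg4 zg5) (kg xg10 yg21 zg27) (kg xg9 yg4 zg4) (kg xg12 yg11 zg32) (kg xg12 yg11 zg30) (kg xg10 yg21 zg31) (kg xg9 yg4 zg10) (kg xg9 yg4 zg11) (kg xg9 yg4 zg12) (kg xg12 yg11 zg35) (kg xg12 yg11 zg36) (kg xg12 yg11 zg37) (kg xg12 yg11 zg38) (kg xg12 yg11 zg39) (kg xg9 yg21 zg29) (kg xg9 yg21 zg30) (kg xg9 yg21 zg31) (kg xg9 yg21 zg32) (kg xg9 yg21 zg33) (kg xg9 yg21 zg34) (kg xg9 yg21 zg35) (kg xg10 yg21 zg47) (kg xg10 yg21 zg48) (kg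 xg10 yg21 zg49) (kg xg9 yg4 zg24)) (@D3.rec (fun _ => Pt) (kg xg9 yg4 zg25) (kg xg9 yg4 zg26) (kg xg12 yg12 zg9) (kg xg12 yg12 zg10) (kg xg12 yg12 zg11) (kg xg9 yg4 zg30) (kg xg9 yg4 zg32) (kg xg9 yg4 zg33) (kg xg9 yg4 zg34) (kg xg9 yg22 zg32) (kg xg9 yg6 zg3) (kg xg12 yg11 zg46) (kg xg9 yg5 zg30) (kg xg9 yg21 zg45) (kg xg9 yg5 zg16) (kg xg9 yg21 zg28) (kg xg9 yg21 zg27) (kg xg9 yg18 zg47) (kg xg9 yg17 zg18) (kg xg9 yg12 zg23) (kg xg10 yg22 zg20) (kg xg10 yg22 zg21) (kg xg10 yg22 zg22) (kg xg9 yg4 zg48) (kg xg9 yg4 zg49) (kg xg9 yg4 zg50) (kg xg9 yg5 zg0) (kg xg12 yg12 zg19) (kg xg9 yg22 zg0) (kg xg9 yg22 zg1) (kg xg9 yg5 zg3) (kg xg12 yg12 zg22) (kg xg9 yg18 zg44) (kg xg9 yg22 zg14) (kg xg9 yg22 zg15) (kg xg12 yg12 zg15) (kg xg9 yg5 zg20) (kg xg9 yg5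 zg21) (kg xg12 yg12 zg26) (kg xg9 yg22 zg20) (kg xg9 yg22 zg21) (kg xg9 yg22 zg22) (kg xg9 yg5 zg26) (kg xg11 yg24 zg10) (kg xg12 yg12 zg29) (kg xg9 yg22 zg26) (kg xg9 yg22 zg27) (kg xg9 yg22 zg28) (kg xg9 yg5 zg31) (kg xg12 yg11 zg47) (kg xg12 yg12 zg13)) (@D3.rec (fun _ => Pt) (kg xg9 yg22 zg34) (kg xg9 yg22 zg35) (kg xg9 yg22 zg36) (kg xg9 yg22 zg37) (kg xg10 yg23 zg4) (kg xg10 yg23 zg5) (kg xg9 yg5 zg39) (kg xg9 yg5 zg40) (kg xg12 yg12 zg45) (kg xg9 yg5 zg42) (kg xg12 yg12 zg27) (kg xg9 yg22 zg46) (kg xg9 yg22 zg47) (kg xg9 yg22 zg48) (kg xg9 yg5 zg50) (kg xg9 yg6 zg0) (kg xg9 yg6 zg1) (kg xg9 yg22 zg45) (kg xg9 yg22 zg18) (kg xg12 yg11 zg41) (kg xg9 yg22 zg19) (kg xg9 yg21 zg25) (kg xg9 yg22 zg50) (kg xg9 yg22 zg44) (kg xg9 yg21 zg24) (kg xg9 yg23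 zg0) (kg xg9 yg12 zg21) (kg xg10 yg23 zg27) (kg xg10 yg23 zg28) (kg xg10 yg23 zg29) (kg xg9 yg6 zg17) (kg xg9 yg6 zg18) (kg xg9 yg6 zg19) (kg xg9 yg19 zg42) (kg xg9 yg16 zg49) (kg xg10 yg23 zg35) (kg xg10 yg23 zg36) (kg xg9 yg8 zg7) (kg xg9 yg6 zg47) (kg xg9 yg6 zg48) (kg xg11 yg17 zg34) (kg xg9 yg13 zg0) (kg xg9 yg13 zg1) (kg xg9 yg13 zg12) (kg xg12 yg13 zg9) (kg xg9 yg13 zg13) (kg xg9 yg23 zg11) (kg xg9 yg7 zg4) (kg xg9 yg13 zg42) (kg xg11 yg17 zg12) (kg xg11 yg17 zg20)) (@D3.rec (fun _ => Pt) (kg xg9 yg7 zg11) (kg xg9 yg7 zg13) (kg xg11 yg25 zg16) (kg xg9 yg13 zg29) (kg xg12 yg13 zg16) (kg xg11 yg26 zg21) (kg xg9 yg13 zg30) (kg xg12 yg13 zg17) (kg xg11 yg26 zg22) (kg xg9 yg8 zg35) (kg xg9 yg7 zg17) (kg xg9 yg8 zg43) (kg xg9 yg7 zg23) (kg xg11 yg25 zg17)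 (kg xg11 yg25 zg6) (kg xg11 yg17 zg45) (kg xg9 yg7 zg28) (kg xg9 yg7 zg29) (kg xg11 yg19 zg6) (kg xg12 yg13 zg27) (kg xg11 yg18 zg2) (kg xg11 yg18 zg3) (kg xg9 yg7 zg35) (kg xg11 yg19 zg18) (kg xg12 yg13 zg32) (kg xg11 yg18 zg5) (kg xg11 yg18 zg34) (kg xg9 yg7 zg42) (kg xg9 yg7 zg43) (kg xg12 yg13 zg37) (kg xg11 yg18 zg42) (kg xg11 yg18 zg43) (kg xg9 yg7 zg48) (kg xg9 yg7 zg49) (kg xg12 yg13 zg42) (kg xg12 yg13 zg43) (kg xg12 yg0 zg40) (kg xg9 yg8 zg2) (kg xg9 yg8 zg4) (kg xg9 yg24 zg20) (kg xg12 yg13 zg46) (kg xg9 yg24 zg19) (kg xg9 yg24 zg18) (kg xg9 yg8 zg10) (kg xg11 yg19 zg4) (kg xg11 yg19 zg5) (kg xg9 yg8 zg15) (kg xg12 yg14 zg0) (kg xg9 yg16 zg25) (kg xg12 yg13 zg50) (kg xg9 yg8 zg17)) (@D3.rec (fun _ => Pt) (kg xg12 yg14 zg3) (kg xg12 yg14 zg4)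 (kg xg11 yg19 zg15) (kg xg11 yg19 zg16) (kg xg11 yg19 zg17) (kg xg9 yg16 zg13) (kg xg9 yg16 zg16) (kg xg9 yg8 zg25) (kg xg9 yg8 zg26) (kg xg9 yg8 zg27) (kg xg12 yg14 zg22) (kg xg9 yg8 zg29) (kg xg9 yg8 zg30) (kg xg12 yg14 zg17) (kg xg12 yg14 zg18) (kg xg12 yg14 zg27) (kg xg12 yg14 zg20) (kg xg12 yg14 zg21) (kg xg9 yg8 zg28) (kg xg12 yg14 zg32) (kg xg12 yg14 zg24) (kg xg9 yg8 zg31) (kg xg12 yg14 zg34) (kg xg11 yg26 zg20) (kg xg9 yg8 zg34) (kg xg9 yg24 zg11) (kg xg9 yg8 zg39) (kg xg11 yg18 zg1) (kg xg11 yg18 zg20) (kg xg9 yg14 zg49) (kg xg9 yg9 zg26) (kg xg11 yg19 zg39) (kg xg9 yg9 zg36) (kg xg11 yg25 zg15) (kg xg11 yg18 zg27) (kg xg9 yg8 zg48) (kg xg9 yg8 zg49) (kg xg12 yg14 zg41) (kg xg12 yg14 zg42) (kg xg9 yg14 zg33) (kg xg9 yg15 zg14) (kg xg11 yg25 zg5)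 (kg xg11 yg18 zg31) (kg xg9 yg9 zg9) (kg xg9 yg9 zg10) (kg xg12 yg14 zg45) (kg xg12 yg2 zg43) (kg xg12 yg0 zg30) (kg xg9 yg9 zg15) (kg xg9 yg9 zg16) (kg xg9 yg9 zg17)) (@D3.rec (fun _ => Pt) (kg xg12 yg14 zg46) (kg xg12 yg14 zg47) (kg xg12 yg14 zg48) (kg xg11 yg19 zg41) (kg xg11 yg21 zg28) (kg xg11 yg19 zg44) (kg xg11 yg19 zg45) (kg xg10 yg26 zg7) (kg xg10 yg26 zg8) (kg xg9 yg9 zg24) (kg xg12 yg15 zg8) (kg xg12 yg14 zg38) (kg xg12 yg14 zg39) (kg xg11 yg20 zg6) (kg xg11 yg20 zg7) (kg xg11 yg20 zg8) (kg xg10 yg26 zg16) (kg xg10 yg26 zg17) (kg xg9 yg9 zg33) (kg xg9 yg9 zg34) (kg xg9 yg9 zg35) (kg xg12 yg15 zg19) (kg xg12 yg15 zg20) (kg xg12 yg15 zg21) (kg xg11 yg20 zg31) (kg xg11 yg20 zg33) (kg xg11 yg20 zg35) (kg xg10 yg26 zg27) (kg xg10 yg26 zg28) (kg xg10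 yg26 zg29) (kg xg9 yg9 zg44) (kg xg9 yg9 zg45) (kg xg9 yg9 zg46) (kg xg12 yg15 zg31) (kg xg12 yg15 zg32) (kg xg12 yg15 zg33) (kg xg9 yg22 zg24) (kg xg11 yg20 zg46) (kg xg11 yg20 zg48) (kg xg10 yg26 zg39) (kg xg10 yg26 zg40) (kg xg10 yg26 zg41) (kg xg9 yg10 zg5) (kg xg9 yg10 zg6) (kg xg9 yg10 zg7) (kg xg12 yg15 zg42) (kg xg12 yg15 zg43) (kg xg9 yg24 zg38) (kg xg11 yg21 zg6) (kg xg9 yg10 zg10) (kg xg12 yg1 zg28))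
def f_g_11 : D2 → D3 → Pt := @D2.rec (fun _ => D3 → Pt) (@D3.rec (fun _ => Pt) (kg xg11 yg21 zg13) (kg xg11 yg21 zg14) (kg xg11 yg0 zg2) (kg xg11 yg0 zg3) (kg xg9 yg10 zg16) (kg xg12 yg15 zg50) (kg xg11 yg21 zg30) (kg xg11 yg21 zg31) (kg xg11 yg0 zg8) (kg xg11 yg0 zg9) (kg xg9 yg10 zg22) (kg xg9 yg10 zg23) (kg xg12 yg16 zg5) (kg xg12 yg16 zg6) (kg xg9 yg10 zg25) (kg xg12 yg16 zg8) (kg xg12 yg16 zg9) (kg xg11 yg21 zg43) (kg xg11 yg21 zg44) (kg xg11 yg21 zg45) (kg xg11 yg0 zg20) (kg xg11 yg0 zg21) (kg xg11 yg0 zg22) (kg xg9 yg10 zg33) (kg xg9 yg10 zg34) (kg xg9 yg10 zg35) (kg xg12 yg6 zg25) (kg xg9 yg10 zg36) (kg xg9 yg10 zg37) (kg xg12 yg16 zg25) (kg xg12 yg16 zg27) (kg xg12 yg16 zg28) (kg xg12 yg16 zg30) (kg xg12 yg3 zg13) (kg xg11 yg0 zg34) (kg xg12 yg6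 zg26) (kg xg9 yg10 zg43) (kg xg9 yg10 zg44) (kg xg12 yg16 zg35) (kg xg9 yg26 zg11) (kg xg12 yg16 zg36) (kg xg9 yg26 zg38) (kg xg9 yg25 zg48) (kg xg11 yg22 zg14) (kg xg9 yg26 zg0) (kg xg11 yg22 zg15) (kg xg11 yg0 zg46) (kg xg11 yg0 zg47) (kg xg11 yg0 zg48) (kg xg9 yg11 zg2) (kg xg9 yg11 zg3)) (@D3.rec (fun _ => Pt) (kg xg9 yg11 zg4) (kg xg12 yg17 zg1) (kg xg12 yg17 zg2) (kg xg12 yg17 zg3) (kg xg11 yg22 zg19) (kg xg11 yg22 zg20) (kg xg9 yg11 zg7) (kg xg12 yg17 zg10) (kg xg12 yg17 zg11) (kg xg11 yg22 zg24) (kg xg11 yg22 zg25) (kg xg11 yg22 zg26) (kg xg11 yg1 zg12) (kg xg11 yg1 zg13) (kg xg9 yg11 zg15) (kg xg9 yg11 zg16) (kg xg9 yg11 zg17) (kg xg12 yg17 zg29) (kg xg9 yg11 zg19) (kg xg9 yg11 zg20) (kg xg12 yg17 zg24) (kg xg12 yg17 zg25) (kg xg12 yg17 zg27)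 (kg xg12 yg17 zg28) (kg xg9 yg11 zg18) (kg xg12 yg17 zg37) (kg xg12 yg17 zg31) (kg xg9 yg11 zg22) (kg xg9 yg11 zg23) (kg xg12 yg17 zg39) (kg xg12 yg17 zg40) (kg xg12 yg17 zg41) (kg xg11 yg22 zg47) (kg xg11 yg22 zg48) (kg xg11 yg22 zg49) (kg xg12 yg18 zg4) (kg xg11 yg23 zg0) (kg xg11 yg23 zg1) (kg xg11 yg1 zg38) (kg xg11 yg1 zg39) (kg xg11 yg1 zg40) (kg xg12 yg4 zg21) (kg xg11 yg1 zg42) (kg xg11 yg1 zg43) (kg xg9 yg11 zg36) (kg xg9 yg11 zg37) (kg xg9 yg11 zg38) (kg xg12 yg18 zg20) (kg xg9 yg11 zg40) (kg xg9 yg11 zg41) (kg xg9 yg11 zg33)) (@D3.rec (fun _ => Pt) (kg xg12 yg18 zg25) (kg xg9 yg11 zg44) (kg xg12 yg18 zg15) (kg xg12 yg18 zg16) (kg xg12 yg18 zg29) (kg xg12 yg18 zg18) (kg xg12 yg18 zg19) (kg xg9 yg11 zg39) (kg xg12 yg18 zg34) (kg xg12 yg18 zg22)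 (kg xg12 yg18 zg23) (kg xg11 yg2 zg11) (kg xg9 yg11 zg43) (kg xg12 yg18 zg39) (kg xg12 yg4 zg22) (kg xg12 yg4 zg20) (kg xg9 yg11 zg48) (kg xg11 yg2 zg17) (kg xg9 yg12 zg3) (kg xg9 yg12 zg5) (kg xg12 yg13 zg4) (kg xg11 yg20 zg29) (kg xg12 yg18 zg41) (kg xg11 yg20 zg30) (kg xg12 yg18 zg42) (kg xg11 yg23 zg42) (kg xg11 yg23 zg43) (kg xg11 yg23 zg44) (kg xg11 yg23 zg45) (kg xg11 yg23 zg46) (kg xg11 yg23 zg47) (kg xg11 yg23 zg48) (kg xg11 yg2 zg32) (kg xg11 yg2 zg33) (kg xg11 yg2 zg34) (kg xg9 yg12 zg17) (kg xg9 yg12 zg18) (kg xg9 yg12 zg19) (kg xg12 yg19 zg8) (kg xg12 yg19 zg9) (kg xg12 yg19 zg10) (kg xg9 yg12 zg25) (kg xg12 yg12 zg5) (kg xg11 yg20 zg43) (kg xg12 yg6 zg12) (kg xg11 yg20 zg44) (kg xg11 yg24 zg11) (kg xg11 yg24 zg12) (kg xg11 yg24 zg13) (kg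 xg9 yg18 zg45) (kg xg11 yg24 zg14)) (@D3.rec (fun _ => Pt) (kg xg11 yg24 zg15) (kg xg11 yg3 zg1) (kg xg11 yg3 zg2) (kg xg9 yg12 zg39) (kg xg9 yg12 zg40) (kg xg9 yg13 zg5) (kg xg9 yg13 zg9) (kg xg9 yg12 zg44) (kg xg9 yg12 zg45) (kg xg11 yg26 zg41) (kg xg12 yg19 zg18) (kg xg11 yg26 zg11) (kg xg12 yg0 zg5) (kg xg12 yg0 zg8) (kg xg11 yg26 zg28) (kg xg12 yg13 zg11) (kg xg9 yg13 zg6) (kg xg11 yg26 zg42) (kg xg11 yg26 zg43) (kg xg12 yg19 zg17) (kg xg12 yg19 zg25) (kg xg12 yg0 zg6) (kg xg11 yg17 zg31) (kg xg12 yg13 zg12) (kg xg11 yg25 zg50) (kg xg11 yg26 zg0) (kg xg9 yg15 zg40) (kg xg9 yg13 zg19) (kg xg11 yg17 zg36) (kg xg12 yg19 zg33) (kg xg9 yg13 zg22) (kg xg11 yg25 zg35) (kg xg9 yg13 zg28) (kg xg11 yg17 zg40) (kg xg12 yg13 zg18) (kg xg12 yg13 zg21) (kg xg12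 yg13 zg24) (kg xg9 yg13 zg32) (kg xg11 yg25 zg21) (kg xg11 yg26 zg34) (kg xg11 yg26 zg35) (kg xg9 yg13 zg38) (kg xg9 yg13 zg40) (kg xg9 yg13 zg43) (kg xg11 yg25 zg23) (kg xg11 yg17 zg21) (kg xg12 yg19 zg42) (kg xg11 yg17 zg7) (kg xg11 yg17 zg24) (kg xg12 yg19 zg43) (kg xg9 yg13 zg41)) (@D3.rec (fun _ => Pt) (kg xg12 yg19 zg50) (kg xg12 yg13 zg14) (kg xg9 yg16 zg43) (kg xg9 yg13 zg45) (kg xg11 yg25 zg33) (kg xg11 yg24 zg32) (kg xg11 yg25 zg36) (kg xg9 yg14 zg7) (kg xg9 yg14 zg8) (kg xg11 yg25 zg28) (kg xg12 yg20 zg3) (kg xg12 yg20 zg4) (kg xg11 yg24 zg33) (kg xg9 yg17 zg28) (kg xg9 yg14 zg17) (kg xg9 yg14 zg18) (kg xg12 yg20 zg8) (kg xg12 yg0 zg47) (kg xg9 yg14 zg22) (kg xg9 yg14 zg23) (kg xg12 yg20 zg11) (kg xg12 yg2 zg48) (kg xg12 yg1 zg5) (kg xg12 yg1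 zg6) (kg xg9 yg14 zg46) (kg xg9 yg15 zg28) (kg xg9 yg14 zg29) (kg xg9 yg14 zg30) (kg xg12 yg20 zg19) (kg xg12 yg20 zg20) (kg xg12 yg14 zg43) (kg xg12 yg1 zg22) (kg xg12 yg1 zg23) (kg xg9 yg14 zg39) (kg xg9 yg14 zg40) (kg xg9 yg14 zg41) (kg xg12 yg4 zg11) (kg xg12 yg20 zg25) (kg xg12 yg20 zg26) (kg xg12 yg1 zg30) (kg xg12 yg1 zg31) (kg xg9 yg14 zg45) (kg xg9 yg14 zg47) (kg xg12 yg4 zg29) (kg xg12 yg20 zg33) (kg xg12 yg20 zg18) (kg xg12 yg20 zg34) (kg xg12 yg14 zg8) (kg xg12 yg14 zg37) (kg xg12 yg1 zg46) (kg xg12 yg1 zg47)) (@D3.rec (fun _ => Pt) (kg xg12 yg1 zg48) (kg xg11 yg19 zg23) (kg xg9 yg15 zg7) (kg xg9 yg15 zg8) (kg xg12 yg3 zg3) (kg xg9 yg15 zg9) (kg xg9 yg15 zg10) (kg xg12 yg3 zg33) (kg xg12 yg5 zg4) (kg xg12 yg5 zg5) (kg xg12 yg20 zg47) (kg xg12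 yg20 zg48) (kg xg12 yg20 zg50) (kg xg12 yg3 zg4) (kg xg12 yg2 zg25) (kg xg12 yg2 zg26) (kg xg12 yg2 zg27) (kg xg12 yg2 zg28) (kg xg9 yg15 zg22) (kg xg12 yg4 zg12) (kg xg12 yg5 zg50) (kg xg12 yg21 zg9) (kg xg12 yg2 zg42) (kg xg12 yg4 zg13) (kg xg12 yg2 zg29) (kg xg12 yg0 zg31) (kg xg12 yg3 zg15) (kg xg12 yg3 zg16) (kg xg9 yg15 zg33) (kg xg9 yg15 zg34) (kg xg12 yg4 zg30) (kg xg12 yg21 zg16) (kg xg12 yg21 zg17) (kg xg9 yg15 zg36) (kg xg12 yg21 zg20) (kg xg12 yg21 zg21) (kg xg12 yg3 zg30) (kg xg12 yg3 zg31) (kg xg12 yg3 zg32) (kg xg11 yg19 zg25) (kg xg9 yg15 zg44) (kg xg9 yg15 zg45) (kg xg12 yg3 zg34) (kg xg12 yg5 zg7) (kg xg12 yg21 zg29) (kg xg9 yg15 zg47) (kg xg9 yg15 zg48) (kg xg12 yg21 zg33) (kg xg12 yg4 zg8) (kg xg12 yg4 zg9) (kg xg12 yg4 zg10)) (@D3.rec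 (fun _ => Pt) (kg xg11 yg16 zg22) (kg xg9 yg16 zg6) (kg xg12 yg3 zg49) (kg xg12 yg5 zg30) (kg xg12 yg21 zg37) (kg xg12 yg4 zg26) (kg xg12 yg4 zg27) (kg xg12 yg4 zg28) (kg xg9 yg16 zg12) (kg xg9 yg16 zg14) (kg xg9 yg16 zg17) (kg xg12 yg14 zg14) (kg xg12 yg21 zg46) (kg xg11 yg18 zg4) (kg xg12 yg14 zg15) (kg xg12 yg21 zg47) (kg xg9 yg16 zg15) (kg xg12 yg14 zg16) (kg xg9 yg16 zg19) (kg xg9 yg16 zg20) (kg xg12 yg22 zg1) (kg xg12 yg22 zg2) (kg xg12 yg22 zg3) (kg xg12 yg4 zg49) (kg xg12 yg4 zg50) (kg xg12 yg5 zg0) (kg xg12 yg22 zg16) (kg xg12 yg5 zg2) (kg xg12 yg5 zg3) (kg xg11 yg18 zg37) (kg xg11 yg18 zg46) (kg xg12 yg14 zg2) (kg xg9 yg16 zg32) (kg xg9 yg16 zg33) (kg xg9 yg16 zg34) (kg xg12 yg22 zg25) (kg xg9 yg16 zg36) (kg xg9 yg16 zg37) (kg xg9 yg16 zg29)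 (kg xg12 yg22 zg30) (kg xg9 yg16 zg40) (kg xg12 yg3 zg5) (kg xg12 yg22 zg21) (kg xg12 yg1 zg32) (kg xg12 yg22 zg23) (kg xg12 yg22 zg24) (kg xg9 yg16 zg35) (kg xg12 yg22 zg37) (kg xg12 yg22 zg27) (kg xg12 yg22 zg28) (kg xg11 yg17 zg48)) (@D3.rec (fun _ => Pt) (kg xg9 yg16 zg39) (kg xg12 yg22 zg42) (kg xg11 yg19 zg3) (kg xg9 yg16 zg42) (kg xg9 yg24 zg14) (kg xg9 yg16 zg48) (kg xg9 yg16 zg50) (kg xg12 yg1 zg16) (kg xg12 yg22 zg44) (kg xg12 yg12 zg16) (kg xg12 yg22 zg45) (kg xg12 yg5 zg43) (kg xg12 yg5 zg44) (kg xg12 yg5 zg45) (kg xg12 yg5 zg46) (kg xg12 yg5 zg47) (kg xg12 yg5 zg48) (kg xg12 yg5 zg49) (kg xg11 yg18 zg39) (kg xg11 yg18 zg50) (kg xg9 yg17 zg11) (kg xg9 yg17 zg12) (kg xg9 yg17 zg13) (kg xg12 yg23 zg7) (kg xg12 yg23 zg8) (kg xg12 yg23 zg9) (kg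 xg9 yg17 zg19) (kg xg12 yg0 zg14) (kg xg12 yg2 zg22) (kg xg12 yg2 zg23) (kg xg12 yg2 zg35) (kg xg12 yg2 zg36) (kg xg12 yg6 zg7) (kg xg12 yg6 zg8) (kg xg9 yg18 zg32) (kg xg12 yg6 zg9) (kg xg12 yg6 zg10) (kg xg9 yg18 zg46) (kg xg12 yg6 zg11) (kg xg12 yg0 zg17) (kg xg12 yg2 zg47) (kg xg9 yg17 zg33) (kg xg9 yg17 zg34) (kg xg9 yg17 zg35) (kg xg12 yg23 zg22) (kg xg12 yg23 zg23) (kg xg12 yg23 zg24) (kg xg11 yg16 zg28) (kg xg9 yg17 zg37) (kg xg12 yg23 zg25) (kg xg12 yg23 zg26)) (@D3.rec (fun _ => Pt) (kg xg12 yg6 zg36) (kg xg12 yg6 zg37) (kg xg11 yg8 zg2) (kg xg9 yg17 zg43) (kg xg9 yg17 zg45) (kg xg12 yg7 zg0) (kg xg12 yg7 zg1) (kg xg9 yg17 zg48) (kg xg12 yg23 zg34) (kg xg12 yg23 zg35) (kg xg12 yg7 zg5) (kg xg12 yg7 zg6) (kg xg11 yg8 zg12) (kg xg11 yg8 zg13) (kg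 xg12 yg8 zg10) (kg xg9 yg18 zg4) (kg xg9 yg18 zg5) (kg xg12 yg23 zg44) (kg xg9 yg18 zg7) (kg xg9 yg18 zg8) (kg xg12 yg23 zg45) (kg xg12 yg23 zg46) (kg xg12 yg23 zg47) (kg xg12 yg7 zg18) (kg xg12 yg7 zg19) (kg xg12 yg7 zg20) (kg xg12 yg8 zg20) (kg xg12 yg7 zg22) (kg xg12 yg7 zg23) (kg xg11 yg8 zg29) (kg xg11 yg8 zg30) (kg xg11 yg8 zg31) (kg xg12 yg24 zg16) (kg xg11 yg8 zg33) (kg xg11 yg8 zg34) (kg xg9 yg18 zg21) (kg xg9 yg18 zg22) (kg xg12 yg8 zg19) (kg xg9 yg18 zg23) (kg xg9 yg18 zg24) (kg xg12 yg8 zg21) (kg xg9 yg18 zg25) (kg xg12 yg24 zg20) (kg xg12 yg24 zg21) (kg xg12 yg24 zg23) (kg xg9 yg18 zg26) (kg xg12 yg24 zg27) (kg xg9 yg18 zg31) (kg xg9 yg18 zg33) (kg xg12 yg8 zg27) (kg xg12 yg8 zg9)) (@D3.rec (fun _ => Pt) (kg xg12 yg24 zg28) (kg xg12 yg23 zg19)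 (kg xg9 yg20 zg3) (kg xg9 yg19 zg18) (kg xg12 yg8 zg6) (kg xg12 yg8 zg7) (kg xg12 yg8 zg8) (kg xg11 yg9 zg7) (kg xg11 yg9 zg8) (kg xg9 yg18 zg42) (kg xg12 yg12 zg23) (kg xg9 yg22 zg25) (kg xg9 yg22 zg16) (kg xg12 yg8 zg5) (kg xg11 yg9 zg14) (kg xg11 yg9 zg15) (kg xg9 yg19 zg9) (kg xg9 yg19 zg10) (kg xg12 yg8 zg11) (kg xg11 yg9 zg19) (kg xg12 yg8 zg28) (kg xg12 yg8 zg29) (kg xg12 yg24 zg33) (kg xg12 yg24 zg34) (kg xg12 yg8 zg33) (kg xg12 yg8 zg34) (kg xg11 yg9 zg26) (kg xg9 yg19 zg24) (kg xg9 yg19 zg26) (kg xg9 yg19 zg27) (kg xg12 yg24 zg47) (kg xg12 yg24 zg48) (kg xg12 yg24 zg49) (kg xg12 yg8 zg46) (kg xg12 yg8 zg47) (kg xg12 yg8 zg48) (kg xg12 yg8 zg50) (kg xg12 yg9 zg0) (kg xg11 yg9 zg38) (kg xg11 yg9 zg39) (kg xg11 yg9 zg40) (kg xg9 yg19 zg36) (kg xg9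 yg19 zg37) (kg xg9 yg19 zg38) (kg xg12 yg25 zg14) (kg xg12 yg25 zg15) (kg xg9 yg19 zg41) (kg xg9 yg19 zg43) (kg xg12 yg12 zg47) (kg xg12 yg12 zg49) (kg xg12 yg25 zg17)) (@D3.rec (fun _ => Pt) (kg xg12 yg12 zg14) (kg xg12 yg9 zg27) (kg xg12 yg9 zg28) (kg xg12 yg9 zg29) (kg xg12 yg9 zg30) (kg xg12 yg9 zg31) (kg xg11 yg10 zg6) (kg xg11 yg10 zg7) (kg xg9 yg20 zg1) (kg xg12 yg24 zg32) (kg xg12 yg9 zg36) (kg xg12 yg9 zg37) (kg xg12 yg9 zg38) (kg xg9 yg20 zg7) (kg xg9 yg20 zg8) (kg xg12 yg25 zg31) (kg xg12 yg25 zg32) (kg xg12 yg25 zg33) (kg xg12 yg9 zg44) (kg xg12 yg9 zg45) (kg xg12 yg9 zg46) (kg xg12 yg25 zg46) (kg xg12 yg9 zg48) (kg xg12 yg9 zg49) (kg xg11 yg10 zg24) (kg xg11 yg10 zg25) (kg xg11 yg10 zg26) (kg xg11 yg10 zg27) (kg xg11 yg10 zg28) (kg xg9 yg20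 zg21) (kg xg9 yg20 zg22) (kg xg9 yg20 zg23) (kg xg12 yg26 zg8) (kg xg9 yg20 zg25) (kg xg9 yg20 zg26) (kg xg9 yg20 zg18) (kg xg12 yg26 zg12) (kg xg9 yg20 zg29) (kg xg12 yg26 zg4) (kg xg12 yg26 zg6) (kg xg12 yg26 zg7) (kg xg9 yg20 zg24) (kg xg12 yg26 zg17) (kg xg12 yg26 zg10) (kg xg11 yg10 zg44) (kg xg9 yg20 zg28) (kg xg12 yg26 zg21) (kg xg9 yg20 zg32) (kg xg9 yg20 zg33) (kg xg9 yg20 zg34) (kg xg12 yg13 zg2)) (@D3.rec (fun _ => Pt) (kg xg12 yg26 zg22) (kg xg12 yg26 zg23) (kg xg12 yg26 zg33) (kg xg12 yg26 zg25) (kg xg12 yg26 zg26) (kg xg12 yg10 zg29) (kg xg12 yg10 zg30) (kg xg12 yg10 zg31) (kg xg12 yg10 zg32) (kg xg12 yg26 zg45) (kg xg12 yg10 zg34) (kg xg12 yg10 zg35) (kg xg9 yg20 zg38) (kg xg12 yg26 zg50) (kg xg12 yg10 zg38) (kg xg11 yg11 zg15) (kg xg11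 yg11 zg16) (kg xg11 yg11 zg17) (kg xg12 yg16 zg45) (kg xg11 yg11 zg19) (kg xg11 yg11 zg20) (kg xg9 yg20 zg44) (kg xg13 yg0 zg11) (kg xg11 yg11 zg23) (kg xg9 yg21 zg5) (kg xg9 yg21 zg6) (kg xg13 yg0 zg16) (kg xg9 yg21 zg8) (kg xg9 yg21 zg9) (kg xg9 yg20 zg50) (kg xg13 yg0 zg21) (kg xg9 yg21 zg12) (kg xg9 yg21 zg13) (kg xg13 yg0 zg10) (kg xg9 yg21 zg3) (kg xg13 yg0 zg26) (kg xg13 yg0 zg14) (kg xg13 yg0 zg15) (kg xg9 yg21 zg7) (kg xg13 yg0 zg29) (kg xg13 yg0 zg18) (kg xg13 yg0 zg19) (kg xg11 yg11 zg42) (kg xg9 yg21 zg11) (kg xg13 yg0 zg33) (kg xg13 yg0 zg23) (kg xg13 yg0 zg24) (kg xg11 yg11 zg47) (kg xg9 yg21 zg16) (kg xg9 yg21 zg19) (kg xg9 yg21 zg18)) (@D3.rec (fun _ => Pt) (kg xg13 yg0 zg37) (kg xg9 yg21 zg26) (kg xg12 yg12 zg3) (kg xg12 yg12 zg50) (kg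 xg12 yg12 zg0) (kg xg12 yg11 zg50) (kg xg12 yg11 zg48) (kg xg12 yg11 zg49) (kg xg12 yg12 zg1) (kg xg12 yg12 zg2) (kg xg12 yg12 zg4) (kg xg11 yg12 zg11) (kg xg11 yg12 zg12) (kg xg9 yg21 zg42) (kg xg9 yg21 zg43) (kg xg9 yg21 zg44) (kg xg9 yg21 zg50) (kg xg12 yg24 zg37) (kg xg12 yg12 zg21) (kg xg9 yg22 zg3) (kg xg11 yg12 zg20) (kg xg12 yg12 zg24) (kg xg12 yg12 zg25) (kg xg12 yg12 zg28) (kg xg12 yg15 zg25) (kg xg11 yg24 zg7) (kg xg12 yg15 zg37) (kg xg12 yg12 zg32) (kg xg12 yg12 zg33) (kg xg12 yg12 zg34) (kg xg12 yg12 zg35) (kg xg12 yg12 zg36) (kg xg9 yg22 zg31) (kg xg9 yg22 zg33) (kg xg12 yg13 zg1) (kg xg12 yg11 zg40) (kg xg13 yg1 zg10) (kg xg12 yg12 zg12) (kg xg12 yg12 zg39) (kg xg12 yg12 zg40) (kg xg12 yg12 zg41) (kg xg12 yg12 zg42) (kg xg12 yg12 zg43) (kg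 xg11 yg12 zg43) (kg xg11 yg12 zg44) (kg xg9 yg22 zg42) (kg xg12 yg12 zg46) (kg xg12 yg13 zg0) (kg xg12 yg13 zg3) (kg xg11 yg12 zg49) (kg xg12 yg16 zg13)) (@D3.rec (fun _ => Pt) (kg xg11 yg17 zg19) (kg xg11 yg17 zg22) (kg xg11 yg17 zg8) (kg xg11 yg13 zg3) (kg xg9 yg23 zg20) (kg xg11 yg25 zg30) (kg xg11 yg17 zg43) (kg xg12 yg0 zg2) (kg xg11 yg16 zg27) (kg xg11 yg13 zg9) (kg xg11 yg13 zg10) (kg xg11 yg13 zg11) (kg xg11 yg13 zg12) (kg xg9 yg24 zg46) (kg xg9 yg24 zg47) (kg xg9 yg23 zg34) (kg xg9 yg23 zg35) (kg xg9 yg23 zg36) (kg xg13 yg1 zg32) (kg xg13 yg1 zg33) (kg xg13 yg1 zg34) (kg xg11 yg18 zg15) (kg xg11 yg13 zg22) (kg xg9 yg23 zg44) (kg xg12 yg3 zg50) (kg xg12 yg2 zg13) (kg xg13 yg1 zg35) (kg xg12 yg1 zg29) (kg xg9 yg24 zg10) (kg xg9 yg24 zg2) (kg xg13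 yg1 zg37) (kg xg9 yg24 zg5) (kg xg12 yg13 zg47) (kg xg12 yg0 zg48) (kg xg12 yg3 zg6) (kg xg12 yg0 zg45) (kg xg12 yg1 zg33) (kg xg12 yg14 zg35) (kg xg11 yg19 zg37) (kg xg9 yg24 zg13) (kg xg11 yg19 zg7) (kg xg12 yg22 zg41) (kg xg12 yg5 zg35) (kg xg11 yg13 zg43) (kg xg11 yg13 zg44) (kg xg11 yg13 zg45) (kg xg11 yg13 zg46) (kg xg11 yg13 zg47) (kg xg11 yg13 zg48) (kg xg11 yg18 zg40) (kg xg9 yg24 zg34)) (@D3.rec (fun _ => Pt) (kg xg9 yg24 zg35) (kg xg9 yg24 zg36) (kg xg13 yg1 zg47) (kg xg13 yg1 zg48) (kg xg13 yg1 zg49) (kg xg13 yg2 zg0) (kg xg11 yg21 zg26) (kg xg12 yg15 zg0) (kg xg11 yg14 zg8) (kg xg11 yg14 zg9) (kg xg11 yg14 zg10) (kg xg11 yg14 zg11) (kg xg11 yg14 zg12) (kg xg12 yg0 zg19) (kg xg13 yg1 zg31) (kg xg12 yg0 zg36) (kg xg9 yg25 zg0) (kg xg9 yg25 zg1)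 (kg xg9 yg25 zg2) (kg xg11 yg17 zg6) (kg xg13 yg2 zg8) (kg xg13 yg2 zg7) (kg xg13 yg2 zg6) (kg xg11 yg16 zg32) (kg xg9 yg25 zg3) (kg xg11 yg14 zg25) (kg xg11 yg14 zg26) (kg xg11 yg14 zg27) (kg xg11 yg14 zg28) (kg xg11 yg14 zg29) (kg xg11 yg14 zg30) (kg xg9 yg25 zg13) (kg xg9 yg25 zg14) (kg xg9 yg25 zg15) (kg xg13 yg2 zg17) (kg xg13 yg2 zg18) (kg xg13 yg2 zg19) (kg xg9 yg25 zg30) (kg xg11 yg14 zg38) (kg xg11 yg14 zg39) (kg xg11 yg14 zg40) (kg xg11 yg14 zg41) (kg xg11 yg14 zg42) (kg xg11 yg14 zg43) (kg xg11 yg14 zg44) (kg xg11 yg14 zg45) (kg xg9 yg25 zg31) (kg xg9 yg25 zg32) (kg xg9 yg26 zg20) (kg xg11 yg14 zg49) (kg xg13 yg2 zg27)) (@D3.rec (fun _ => Pt) (kg xg11 yg15 zg0) (kg xg11 yg15 zg1) (kg xg13 yg2 zg30) (kg xg11 yg15 zg3) (kg xg11 yg15 zg4) (kg xg9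 yg25 zg39) (kg xg13 yg2 zg35) (kg xg11 yg15 zg7) (kg xg11 yg15 zg8) (kg xg9 yg25 zg43) (kg xg13 yg2 zg39) (kg xg11 yg15 zg11) (kg xg11 yg15 zg12) (kg xg12 yg16 zg43) (kg xg11 yg15 zg14) (kg xg12 yg16 zg46) (kg xg11 yg15 zg16) (kg xg12 yg16 zg48) (kg xg13 yg0 zg49) (kg xg9 yg26 zg15) (kg xg9 yg26 zg16) (kg xg9 yg26 zg4) (kg xg13 yg2 zg48) (kg xg9 yg26 zg19) (kg xg12 yg16 zg38) (kg xg9 yg26 zg8) (kg xg13 yg3 zg1) (kg xg9 yg26 zg24) (kg xg9 yg26 zg25) (kg xg12 yg16 zg40) (kg xg9 yg26 zg13) (kg xg9 yg26 zg14) (kg xg13 yg3 zg5) (kg xg13 yg2 zg47) (kg xg11 yg15 zg34) (kg xg9 yg26 zg18) (kg xg13 yg3 zg8) (kg xg13 yg2 zg50) (kg xg11 yg15 zg38) (kg xg9 yg26 zg23) (kg xg13 yg3 zg11) (kg xg13 yg3 zg3) (kg xg9 yg26 zg30) (kg xg11 yg15 zg43) (kg xg11 yg15 zg44) (kg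 xg12 yg16 zg44) (kg xg11 yg15 zg46) (kg xg12 yg16 zg42) (kg xg11 yg15 zg48) (kg xg11 yg15 zg49) (kg xg11 yg15 zg50)) (@D3.rec (fun _ => Pt) (kg xg11 yg16 zg0) (kg xg11 yg16 zg1) (kg xg11 yg16 zg2) (kg xg11 yg22 zg18) (kg xg10 yg0 zg9) (kg xg11 yg16 zg5) (kg xg11 yg16 zg6) (kg xg11 yg16 zg7) (kg xg11 yg16 zg8) (kg xg11 yg16 zg9) (kg xg11 yg20 zg40) (kg xg11 yg21 zg2) (kg xg11 yg16 zg12) (kg xg11 yg16 zg13) (kg xg10 yg0 zg28) (kg xg13 yg3 zg24) (kg xg11 yg16 zg16) (kg xg10 yg0 zg31) (kg xg13 yg3 zg27) (kg xg10 yg0 zg46) (kg xg10 yg0 zg34) (kg xg13 yg3 zg28) (kg xg11 yg6 zg0) (kg xg10 yg11 zg50) (kg xg10 yg0 zg38) (kg xg13 yg3 zg30) (kg xg10 yg1 zg6) (kg xg11 yg13 zg8) (kg xg11 yg7 zg47) (kg xg11 yg16 zg29) (kg xg10 yg0 zg45) (kg xg13 yg3 zg34) (kg xg11 yg14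 zg23) (kg xg10 yg0 zg48) (kg xg13 yg3 zg37) (kg xg10 yg1 zg2) (kg xg11 yg16 zg36) (kg xg10 yg1 zg1) (kg xg13 yg3 zg40) (kg xg11 yg16 zg39) (kg xg10 yg1 zg5) (kg xg13 yg3 zg42) (kg xg13 yg3 zg31) (kg xg10 yg1 zg10) (kg xg10 yg1 zg11) (kg xg13 yg3 zg45) (kg xg11 yg16 zg46) (kg xg11 yg16 zg47) (kg xg11 yg16 zg48) (kg xg11 yg16 zg49) (kg xg11 yg16 zg50)) (@D3.rec (fun _ => Pt) (kg xg11 yg17 zg0) (kg xg10 yg1 zg21) (kg xg10 yg1 zg22) (kg xg10 yg1 zg23) (kg xg13 yg4 zg0) (kg xg13 yg4 zg1) (kg xg11 yg14 zg19) (kg xg11 yg3 zg47) (kg xg11 yg13 zg2) (kg xg10 yg2 zg31) (kg xg10 yg1 zg38) (kg xg10 yg1 zg39) (kg xg10 yg23 zg49) (kg xg13 yg4 zg5) (kg xg13 yg4 zg6) (kg xg10 yg2 zg37) (kg xg10 yg1 zg43) (kg xg10 yg1 zg44) (kg xg13 yg4 zg11) (kg xg11 yg13 zg0) (kg xg10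 yg23 zg50) (kg xg11 yg3 zg45) (kg xg11 yg13 zg1) (kg xg11 yg17 zg23) (kg xg11 yg3 zg48) (kg xg10 yg2 zg5) (kg xg13 yg4 zg15) (kg xg11 yg17 zg27) (kg xg10 yg3 zg40) (kg xg10 yg2 zg10) (kg xg10 yg2 zg11) (kg xg11 yg3 zg22) (kg xg13 yg4 zg17) (kg xg10 yg2 zg16) (kg xg10 yg23 zg40) (kg xg13 yg4 zg22) (kg xg11 yg3 zg28) (kg xg13 yg4 zg20) (kg xg10 yg2 zg17) (kg xg13 yg4 zg25) (kg xg11 yg3 zg33) (kg xg10 yg4 zg15) (kg xg10 yg2 zg21) (kg xg11 yg13 zg6) (kg xg10 yg3 zg23) (kg xg10 yg24 zg15) (kg xg10 yg2 zg27) (kg xg10 yg2 zg28) (kg xg11 yg6 zg50) (kg xg13 yg4 zg30) (kg xg13 yg4 zg31)) (@D3.rec (fun _ => Pt) (kg xg10 yg2 zg29) (kg xg10 yg25 zg27) (kg xg10 yg24 zg20) (kg xg10 yg24 zg21) (kg xg11 yg6 zg13) (kg xg10 yg24 zg25) (kg xg10 yg2 zg34) (kg xg10 yg2 zg35)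 (kg xg10 yg2 zg36) (kg xg13 yg4 zg43) (kg xg13 yg4 zg44) (kg xg13 yg4 zg45) (kg xg13 yg4 zg47) (kg xg13 yg4 zg48) (kg xg10 yg12 zg36) (kg xg11 yg13 zg21) (kg xg10 yg14 zg39) (kg xg10 yg2 zg41) (kg xg10 yg2 zg42) (kg xg13 yg5 zg7) (kg xg10 yg25 zg28) (kg xg10 yg3 zg46) (kg xg10 yg4 zg18) (kg xg10 yg3 zg0) (kg xg10 yg3 zg1) (kg xg13 yg5 zg10) (kg xg13 yg5 zg11) (kg xg10 yg25 zg34) (kg xg10 yg3 zg7) (kg xg10 yg3 zg8) (kg xg13 yg5 zg14) (kg xg10 yg25 zg42) (kg xg10 yg9 zg21) (kg xg10 yg12 zg40) (kg xg10 yg24 zg26) (kg xg10 yg3 zg14) (kg xg10 yg3 zg15) (kg xg11 yg6 zg29) (kg xg13 yg5 zg18) (kg xg11 yg7 zg18) (kg xg11 yg13 zg49) (kg xg10 yg5 zg50) (kg xg10 yg24 zg30) (kg xg10 yg24 zg31) (kg xg10 yg3 zg28) (kg xg13 yg5 zg25) (kg xg11 yg6 zg30) (kg xg13 yg5 zg24)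 (kg xg10 yg3 zg29) (kg xg13 yg5 zg28) (kg xg11 yg7 zg19)) (@D3.rec (fun _ => Pt) (kg xg10 yg11 zg37) (kg xg10 yg3 zg33) (kg xg13 yg5 zg31) (kg xg11 yg7 zg2) (kg xg10 yg24 zg44) (kg xg10 yg24 zg45) (kg xg10 yg24 zg18) (kg xg11 yg13 zg40) (kg xg10 yg3 zg43) (kg xg10 yg3 zg44) (kg xg13 yg5 zg40) (kg xg13 yg5 zg38) (kg xg13 yg5 zg39) (kg xg13 yg4 zg38) (kg xg13 yg5 zg9) (kg xg10 yg25 zg2) (kg xg10 yg25 zg3) (kg xg10 yg25 zg4) (kg xg10 yg24 zg23) (kg xg10 yg4 zg5) (kg xg13 yg6 zg1) (kg xg10 yg4 zg7) (kg xg10 yg4 zg8) (kg xg11 yg5 zg1) (kg xg13 yg6 zg5) (kg xg11 yg5 zg39) (kg xg13 yg6 zg0) (kg xg10 yg4 zg6) (kg xg13 yg6 zg9) (kg xg13 yg6 zg3) (kg xg10 yg4 zg9) (kg xg13 yg6 zg13) (kg xg10 yg4 zg14) (kg xg10 yg13 zg31) (kg xg10 yg4 zg13) (kg xg13 yg6 zg17) (kg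 xg13 yg6 zg15) (kg xg11 yg13 zg38) (kg xg10 yg4 zg17) (kg xg10 yg25 zg31) (kg xg10 yg6 zg1) (kg xg10 yg26 zg3) (kg xg10 yg4 zg25) (kg xg13 yg6 zg23) (kg xg10 yg26 zg5) (kg xg10 yg26 zg6) (kg xg11 yg19 zg46) (kg xg11 yg19 zg47) (kg xg10 yg4 zg30) (kg xg10 yg4 zg31) (kg xg10 yg4 zg32)) (@D3.rec (fun _ => Pt) (kg xg13 yg6 zg32) (kg xg13 yg6 zg34) (kg xg13 yg6 zg35) (kg xg10 yg4 zg34) (kg xg13 yg6 zg38) (kg xg13 yg6 zg39) (kg xg10 yg26 zg13) (kg xg10 yg26 zg14) (kg xg10 yg26 zg15) (kg xg11 yg20 zg9) (kg xg11 yg20 zg10) (kg xg11 yg20 zg11) (kg xg10 yg4 zg42) (kg xg10 yg4 zg43) (kg xg10 yg4 zg44) (kg xg10 yg19 zg32) (kg xg10 yg4 zg45) (kg xg10 yg4 zg46) (kg xg13 yg7 zg3) (kg xg13 yg7 zg5) (kg xg13 yg7 zg6) (kg xg13 yg7 zg8) (kg xg13 yg7 zg13) (kg xg11 yg20 zg23)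 (kg xg11 yg20 zg24) (kg xg10 yg19 zg42) (kg xg10 yg5 zg1) (kg xg13 yg7 zg17) (kg xg10 yg5 zg4) (kg xg11 yg2 zg21) (kg xg11 yg2 zg23) (kg xg10 yg26 zg24) (kg xg10 yg7 zg41) (kg xg10 yg26 zg25) (kg xg10 yg7 zg42) (kg xg10 yg26 zg26) (kg xg11 yg20 zg36) (kg xg11 yg20 zg37) (kg xg10 yg5 zg14) (kg xg10 yg5 zg15) (kg xg11 yg16 zg10) (kg xg13 yg7 zg28) (kg xg13 yg7 zg29) (kg xg11 yg2 zg43) (kg xg11 yg2 zg45) (kg xg10 yg8 zg6) (kg xg10 yg26 zg37) (kg xg10 yg8 zg7) (kg xg10 yg26 zg38) (kg xg10 yg8 zg8) (kg xg11 yg20 zg50)) (@D3.rec (fun _ => Pt) (kg xg10 yg5 zg29) (kg xg10 yg5 zg30) (kg xg11 yg16 zg11) (kg xg13 yg7 zg39) (kg xg13 yg7 zg40) (kg xg10 yg17 zg30) (kg xg10 yg26 zg48) (kg xg11 yg21 zg7) (kg xg10 yg5 zg34) (kg xg10 yg5 zg35) (kg xg13 yg7 zg46) (kg xg10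 yg5 zg36) (kg xg13 yg7 zg48) (kg xg11 yg0 zg0) (kg xg11 yg0 zg1) (kg xg11 yg21 zg15) (kg xg11 yg21 zg16) (kg xg10 yg5 zg41) (kg xg10 yg5 zg42) (kg xg10 yg5 zg43) (kg xg13 yg8 zg5) (kg xg13 yg8 zg7) (kg xg13 yg8 zg8) (kg xg10 yg17 zg24) (kg xg10 yg5 zg48) (kg xg10 yg5 zg49) (kg xg11 yg14 zg6) (kg xg13 yg8 zg12) (kg xg10 yg26 zg4) (kg xg13 yg6 zg20) (kg xg11 yg0 zg6) (kg xg11 yg0 zg7) (kg xg11 yg21 zg32) (kg xg11 yg21 zg33) (kg xg10 yg6 zg6) (kg xg10 yg6 zg7) (kg xg10 yg6 zg8) (kg xg13 yg8 zg22) (kg xg13 yg8 zg24) (kg xg13 yg8 zg25) (kg xg10 yg6 zg10) (kg xg13 yg8 zg28) (kg xg13 yg8 zg29) (kg xg11 yg0 zg17) (kg xg11 yg0 zg18) (kg xg11 yg0 zg19) (kg xg11 yg21 zg46) (kg xg10 yg6 zg18) (kg xg13 yg8 zg39) (kg xg10 yg6 zg20) (kg xg10 yg6 zg21)) (@D3.rec (fun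 _ => Pt) (kg xg13 yg8 zg38) (kg xg10 yg6 zg19) (kg xg13 yg8 zg44) (kg xg13 yg8 zg41) (kg xg10 yg6 zg22) (kg xg13 yg8 zg48) (kg xg10 yg6 zg27) (kg xg11 yg22 zg7) (kg xg10 yg6 zg26) (kg xg13 yg9 zg1) (kg xg13 yg8 zg50) (kg xg11 yg22 zg11) (kg xg10 yg6 zg30) (kg xg10 yg6 zg32) (kg xg11 yg0 zg43) (kg xg11 yg0 zg45) (kg xg10 yg6 zg37) (kg xg13 yg9 zg5) (kg xg11 yg16 zg3) (kg xg11 yg1 zg4) (kg xg11 yg1 zg5) (kg xg10 yg6 zg41) (kg xg13 yg9 zg11) (kg xg13 yg9 zg12) (kg xg11 yg1 zg9) (kg xg11 yg1 zg10) (kg xg11 yg1 zg11) (kg xg11 yg22 zg27) (kg xg11 yg22 zg28) (kg xg11 yg22 zg29) (kg xg10 yg6 zg49) (kg xg10 yg6 zg50) (kg xg10 yg7 zg0) (kg xg13 yg9 zg31) (kg xg10 yg7 zg2) (kg xg10 yg7 zg3) (kg xg13 yg9 zg27) (kg xg13 yg9 zg29) (kg xg13 yg9 zg30) (kg xg10 yg7 zg1)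 (kg xg13 yg9 zg38) (kg xg13 yg9 zg33) (kg xg10 yg7 zg5) (kg xg10 yg7 zg6) (kg xg13 yg7 zg23) (kg xg13 yg9 zg41) (kg xg13 yg9 zg42) (kg xg11 yg1 zg32) (kg xg11 yg1 zg33) (kg xg11 yg1 zg34) (kg xg13 yg10 zg5)) (@D3.rec (fun _ => Pt) (kg xg11 yg1 zg36) (kg xg11 yg1 zg37) (kg xg11 yg23 zg2) (kg xg11 yg23 zg3) (kg xg13 yg10 zg11) (kg xg11 yg23 zg5) (kg xg11 yg23 zg6) (kg xg10 yg7 zg19) (kg xg10 yg7 zg20) (kg xg10 yg7 zg21) (kg xg13 yg10 zg18) (kg xg10 yg7 zg23) (kg xg10 yg7 zg24) (kg xg10 yg7 zg16) (kg xg13 yg10 zg23) (kg xg10 yg7 zg27) (kg xg13 yg10 zg14) (kg xg13 yg10 zg16) (kg xg13 yg10 zg17) (kg xg10 yg7 zg22) (kg xg13 yg10 zg30) (kg xg13 yg10 zg20) (kg xg13 yg10 zg21) (kg xg11 yg23 zg23) (kg xg10 yg7 zg26) (kg xg13 yg10 zg34) (kg xg13 yg10 zg25) (kg xg10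 yg7 zg28) (kg xg13 yg10 zg38) (kg xg11 yg23 zg29) (kg xg13 yg10 zg37) (kg xg10 yg7 zg32) (kg xg13 yg10 zg42) (kg xg10 yg7 zg37) (kg xg11 yg23 zg34) (kg xg10 yg7 zg36) (kg xg13 yg10 zg46) (kg xg13 yg10 zg44) (kg xg11 yg23 zg38) (kg xg13 yg7 zg21) (kg xg13 yg7 zg24) (kg xg13 yg7 zg26) (kg xg11 yg2 zg25) (kg xg11 yg2 zg26) (kg xg11 yg2 zg27) (kg xg11 yg2 zg28) (kg xg11 yg2 zg29) (kg xg11 yg2 zg30) (kg xg11 yg2 zg31) (kg xg11 yg23 zg49) (kg xg11 yg23 zg50)) (@D3.rec (fun _ => Pt) (kg xg11 yg24 zg0) (kg xg10 yg8 zg3) (kg xg10 yg8 zg4) (kg xg10 yg8 zg5) (kg xg13 yg11 zg13) (kg xg13 yg11 zg14) (kg xg13 yg11 zg15) (kg xg11 yg12 zg25) (kg xg13 yg7 zg34) (kg xg13 yg7 zg36) (kg xg10 yg22 zg43) (kg xg11 yg2 zg46) (kg xg11 yg2 zg47) (kg xg11 yg2 zg48) (kg xg11 yg2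 zg50) (kg xg11 yg3 zg0) (kg xg11 yg24 zg16) (kg xg11 yg24 zg17) (kg xg11 yg24 zg18) (kg xg10 yg8 zg21) (kg xg10 yg8 zg22) (kg xg10 yg8 zg23) (kg xg10 yg8 zg36) (kg xg11 yg24 zg23) (kg xg10 yg8 zg32) (kg xg10 yg9 zg15) (kg xg13 yg11 zg29) (kg xg11 yg24 zg27) (kg xg10 yg9 zg8) (kg xg13 yg11 zg28) (kg xg10 yg11 zg46) (kg xg10 yg8 zg43) (kg xg11 yg4 zg5) (kg xg11 yg4 zg12) (kg xg10 yg12 zg5) (kg xg10 yg8 zg45) (kg xg13 yg11 zg35) (kg xg13 yg11 zg36) (kg xg10 yg12 zg9) (kg xg10 yg8 zg48) (kg xg10 yg12 zg12) (kg xg10 yg8 zg50) (kg xg13 yg11 zg38) (kg xg13 yg11 zg39) (kg xg10 yg14 zg2) (kg xg10 yg10 zg0) (kg xg10 yg12 zg18) (kg xg10 yg9 zg3) (kg xg10 yg9 zg4) (kg xg10 yg9 zg27) (kg xg10 yg9 zg26)) (@D3.rec (fun _ => Pt) (kg xg13 yg11 zg47) (kg xg10 yg12 zg24)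 (kg xg10 yg9 zg44) (kg xg13 yg11 zg32) (kg xg10 yg9 zg10) (kg xg10 yg25 zg41) (kg xg10 yg24 zg14) (kg xg10 yg12 zg33) (kg xg10 yg9 zg33) (kg xg13 yg11 zg30) (kg xg10 yg9 zg19) (kg xg10 yg9 zg20) (kg xg13 yg11 zg41) (kg xg13 yg11 zg40) (kg xg13 yg12 zg2) (kg xg10 yg25 zg33) (kg xg10 yg24 zg2) (kg xg10 yg24 zg13) (kg xg10 yg13 zg1) (kg xg10 yg13 zg2) (kg xg10 yg9 zg28) (kg xg11 yg3 zg38) (kg xg13 yg11 zg49) (kg xg11 yg3 zg44) (kg xg13 yg11 zg48) (kg xg13 yg12 zg10) (kg xg10 yg13 zg12) (kg xg10 yg9 zg34) (kg xg11 yg4 zg9) (kg xg13 yg12 zg1) (kg xg11 yg13 zg5) (kg xg10 yg13 zg27) (kg xg10 yg9 zg45) (kg xg11 yg4 zg4) (kg xg13 yg12 zg0) (kg xg11 yg3 zg31) (kg xg11 yg4 zg6) (kg xg13 yg11 zg44) (kg xg13 yg11 zg45) (kg xg10 yg10 zg3) (kg xg10 yg10 zg4) (kg xg13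 yg12 zg5) (kg xg13 yg12 zg21) (kg xg10 yg14 zg17) (kg xg10 yg10 zg8) (kg xg10 yg10 zg9) (kg xg13 yg12 zg27) (kg xg13 yg12 zg22) (kg xg13 yg12 zg28) (kg xg10 yg10 zg10) (kg xg11 yg3 zg24)) (@D3.rec (fun _ => Pt) (kg xg11 yg3 zg25) (kg xg10 yg14 zg27) (kg xg10 yg14 zg28) (kg xg10 yg10 zg15) (kg xg10 yg10 zg16) (kg xg10 yg10 zg17) (kg xg13 yg12 zg30) (kg xg13 yg12 zg29) (kg xg13 yg12 zg36) (kg xg13 yg12 zg38) (kg xg13 yg12 zg39) (kg xg11 yg3 zg11) (kg xg10 yg10 zg21) (kg xg10 yg10 zg22) (kg xg13 yg12 zg45) (kg xg10 yg10 zg28) (kg xg10 yg10 zg29) (kg xg10 yg10 zg30) (kg xg13 yg12 zg47) (kg xg13 yg12 zg48) (kg xg10 yg25 zg23) (kg xg10 yg24 zg5) (kg xg10 yg24 zg8) (kg xg10 yg15 zg12) (kg xg10 yg15 zg13) (kg xg10 yg10 zg36) (kg xg10 yg10 zg37) (kg xg10 yg10 zg38)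 (kg xg11 yg3 zg14) (kg xg13 yg12 zg37) (kg xg13 yg13 zg2) (kg xg13 yg4 zg7) (kg xg13 yg13 zg3) (kg xg13 yg13 zg4) (kg xg11 yg3 zg39) (kg xg11 yg3 zg40) (kg xg10 yg15 zg31) (kg xg10 yg10 zg48) (kg xg10 yg10 zg49) (kg xg10 yg11 zg0) (kg xg10 yg11 zg1) (kg xg11 yg3 zg9) (kg xg11 yg3 zg17) (kg xg11 yg3 zg18) (kg xg13 yg4 zg3) (kg xg13 yg13 zg13) (kg xg13 yg13 zg14) (kg xg10 yg10 zg50) (kg xg13 yg13 zg22) (kg xg13 yg13 zg15) (kg xg10 yg11 zg6))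
def f_g_12 : D2 → D3 → Pt := @D2.rec (fun _ => D3 → Pt) (@D3.rec (fun _ => Pt) (kg xg10 yg16 zg2) (kg xg10 yg11 zg5) (kg xg11 yg13 zg7) (kg xg13 yg13 zg25) (kg xg10 yg11 zg14) (kg xg11 yg3 zg12) (kg xg11 yg3 zg21) (kg xg13 yg13 zg28) (kg xg11 yg3 zg13) (kg xg10 yg16 zg38) (kg xg10 yg11 zg20) (kg xg13 yg13 zg32) (kg xg10 yg11 zg24) (kg xg13 yg13 zg33) (kg xg11 yg7 zg27) (kg xg10 yg11 zg29) (kg xg10 yg11 zg30) (kg xg11 yg7 zg39) (kg xg13 yg13 zg35) (kg xg11 yg14 zg13) (kg xg10 yg17 zg2) (kg xg12 yg0 zg21) (kg xg10 yg11 zg38) (kg xg10 yg11 zg39) (kg xg13 yg5 zg30) (kg xg13 yg13 zg38) (kg xg10 yg16 zg37) (kg xg12 yg0 zg27) (kg xg12 yg0 zg28) (kg xg12 yg0 zg29) (kg xg10 yg25 zg47) (kg xg11 yg5 zg25) (kg xg10 yg12 zg0) (kg xg10 yg12 zg1) (kg xg13 yg3 zg29) (kg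 xg13 yg13 zg39) (kg xg11 yg14 zg15) (kg xg10 yg12 zg3) (kg xg13 yg13 zg40) (kg xg10 yg14 zg15) (kg xg10 yg24 zg36) (kg xg13 yg11 zg34) (kg xg10 yg12 zg7) (kg xg10 yg12 zg8) (kg xg13 yg13 zg46) (kg xg11 yg13 zg35) (kg xg10 yg14 zg6) (kg xg11 yg4 zg17) (kg xg11 yg13 zg33) (kg xg10 yg12 zg14) (kg xg10 yg12 zg15)) (@D3.rec (fun _ => Pt) (kg xg13 yg14 zg2) (kg xg13 yg14 zg3) (kg xg13 yg14 zg4) (kg xg10 yg12 zg16) (kg xg13 yg14 zg8) (kg xg11 yg4 zg22) (kg xg11 yg4 zg23) (kg xg10 yg13 zg7) (kg xg13 yg11 zg46) (kg xg10 yg12 zg21) (kg xg10 yg12 zg22) (kg xg10 yg12 zg23) (kg xg13 yg4 zg41) (kg xg13 yg14 zg15) (kg xg13 yg14 zg17) (kg xg13 yg14 zg18) (kg xg11 yg7 zg7) (kg xg10 yg12 zg27) (kg xg10 yg12 zg28) (kg xg13 yg14 zg23) (kg xg10 yg12 zg30) (kg xg13 yg14 zg25)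 (kg xg11 yg4 zg31) (kg xg11 yg4 zg32) (kg xg10 yg12 zg37) (kg xg10 yg12 zg38) (kg xg13 yg5 zg5) (kg xg13 yg14 zg28) (kg xg10 yg26 zg50) (kg xg11 yg13 zg27) (kg xg11 yg4 zg39) (kg xg11 yg4 zg40) (kg xg11 yg6 zg43) (kg xg11 yg13 zg36) (kg xg10 yg12 zg45) (kg xg10 yg12 zg46) (kg xg10 yg12 zg47) (kg xg13 yg14 zg38) (kg xg13 yg14 zg0) (kg xg13 yg14 zg39) (kg xg13 yg14 zg46) (kg xg13 yg14 zg41) (kg xg13 yg14 zg42) (kg xg10 yg12 zg49) (kg xg13 yg14 zg49) (kg xg13 yg14 zg50) (kg xg11 yg4 zg49) (kg xg11 yg4 zg50) (kg xg11 yg5 zg0) (kg xg13 yg12 zg9) (kg xg10 yg13 zg6)) (@D3.rec (fun _ => Pt) (kg xg10 yg13 zg8) (kg xg13 yg15 zg11) (kg xg10 yg13 zg10) (kg xg10 yg13 zg11) (kg xg13 yg6 zg8) (kg xg13 yg13 zg44) (kg xg13 yg15 zg9) (kg xg13 yg15 zg17) (kg xg13 yg14 zg14)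 (kg xg13 yg15 zg10) (kg xg10 yg13 zg9) (kg xg13 yg15 zg21) (kg xg13 yg15 zg13) (kg xg11 yg13 zg25) (kg xg10 yg13 zg13) (kg xg13 yg15 zg24) (kg xg10 yg13 zg18) (kg xg10 yg13 zg17) (kg xg13 yg15 zg27) (kg xg13 yg15 zg26) (kg xg10 yg13 zg20) (kg xg10 yg13 zg23) (kg xg11 yg7 zg28) (kg xg11 yg7 zg29) (kg xg10 yg16 zg9) (kg xg11 yg5 zg14) (kg xg11 yg5 zg15) (kg xg11 yg5 zg16) (kg xg11 yg5 zg17) (kg xg11 yg5 zg24) (kg xg10 yg13 zg32) (kg xg10 yg13 zg33) (kg xg13 yg6 zg16) (kg xg13 yg15 zg37) (kg xg13 yg15 zg38) (kg xg11 yg7 zg30) (kg xg11 yg7 zg31) (kg xg10 yg14 zg44) (kg xg10 yg16 zg10) (kg xg10 yg16 zg11) (kg xg10 yg16 zg25) (kg xg10 yg16 zg26) (kg xg11 yg5 zg22) (kg xg10 yg25 zg46) (kg xg10 yg13 zg48) (kg xg10 yg13 zg49) (kg xg13 yg15 zg44) (kg xg11 yg7 zg40)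 (kg xg11 yg4 zg21) (kg xg13 yg11 zg43) (kg xg10 yg14 zg4)) (@D3.rec (fun _ => Pt) (kg xg10 yg14 zg5) (kg xg13 yg15 zg48) (kg xg13 yg13 zg48) (kg xg11 yg5 zg4) (kg xg11 yg5 zg13) (kg xg11 yg6 zg41) (kg xg11 yg13 zg34) (kg xg10 yg14 zg11) (kg xg10 yg14 zg12) (kg xg13 yg16 zg5) (kg xg13 yg16 zg6) (kg xg13 yg16 zg7) (kg xg10 yg17 zg4) (kg xg11 yg0 zg33) (kg xg13 yg13 zg41) (kg xg11 yg5 zg26) (kg xg11 yg5 zg27) (kg xg13 yg12 zg25) (kg xg13 yg12 zg26) (kg xg10 yg14 zg20) (kg xg10 yg14 zg21) (kg xg10 yg14 zg22) (kg xg13 yg16 zg20) (kg xg13 yg16 zg21) (kg xg13 yg16 zg22) (kg xg13 yg16 zg24) (kg xg13 yg16 zg25) (kg xg10 yg14 zg24) (kg xg13 yg16 zg30) (kg xg13 yg16 zg31) (kg xg11 yg5 zg36) (kg xg11 yg5 zg37) (kg xg11 yg5 zg38) (kg xg11 yg5 zg7) (kg xg11 yg5 zg42)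 (kg xg13 yg12 zg35) (kg xg10 yg14 zg32) (kg xg10 yg14 zg33) (kg xg10 yg14 zg34) (kg xg13 yg4 zg46) (kg xg10 yg14 zg35) (kg xg10 yg14 zg36) (kg xg13 yg16 zg45) (kg xg13 yg16 zg18) (kg xg13 yg16 zg46) (kg xg13 yg16 zg48) (kg xg13 yg16 zg49) (kg xg13 yg17 zg0) (kg xg13 yg17 zg7) (kg xg11 yg6 zg2) (kg xg11 yg13 zg24)) (@D3.rec (fun _ => Pt) (kg xg13 yg5 zg6) (kg xg10 yg14 zg42) (kg xg13 yg17 zg11) (kg xg10 yg14 zg45) (kg xg13 yg6 zg12) (kg xg13 yg3 zg36) (kg xg13 yg15 zg41) (kg xg10 yg15 zg47) (kg xg11 yg5 zg48) (kg xg11 yg5 zg49) (kg xg11 yg5 zg50) (kg xg11 yg4 zg36) (kg xg11 yg5 zg19) (kg xg11 yg5 zg23) (kg xg10 yg15 zg3) (kg xg10 yg15 zg4) (kg xg10 yg15 zg5) (kg xg13 yg17 zg22) (kg xg13 yg17 zg23) (kg xg13 yg17 zg24) (kg xg11 yg2 zg15) (kg xg11 yg1 zg41)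 (kg xg11 yg2 zg14) (kg xg10 yg15 zg9) (kg xg13 yg17 zg33) (kg xg13 yg17 zg34) (kg xg11 yg6 zg5) (kg xg11 yg6 zg6) (kg xg11 yg6 zg7) (kg xg11 yg4 zg43) (kg xg11 yg5 zg30) (kg xg13 yg13 zg1) (kg xg10 yg15 zg17) (kg xg10 yg15 zg18) (kg xg10 yg15 zg19) (kg xg13 yg18 zg1) (kg xg10 yg15 zg21) (kg xg10 yg15 zg22) (kg xg13 yg17 zg48) (kg xg13 yg17 zg50) (kg xg13 yg18 zg0) (kg xg10 yg15 zg20) (kg xg13 yg18 zg7) (kg xg13 yg18 zg3) (kg xg10 yg15 zg24) (kg xg10 yg15 zg25) (kg xg13 yg15 zg2) (kg xg13 yg18 zg10) (kg xg13 yg18 zg11) (kg xg11 yg6 zg23) (kg xg11 yg6 zg24)) (@D3.rec (fun _ => Pt) (kg xg11 yg6 zg25) (kg xg13 yg18 zg24) (kg xg11 yg6 zg27) (kg xg11 yg6 zg28) (kg xg11 yg5 zg8) (kg xg11 yg5 zg9) (kg xg13 yg16 zg35) (kg xg11 yg5 zg43) (kg xg13 yg13 zg12) (kg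 xg10 yg15 zg38) (kg xg10 yg15 zg39) (kg xg10 yg15 zg40) (kg xg13 yg18 zg36) (kg xg10 yg15 zg42) (kg xg10 yg15 zg43) (kg xg10 yg15 zg35) (kg xg13 yg18 zg41) (kg xg10 yg15 zg46) (kg xg13 yg18 zg32) (kg xg13 yg18 zg34) (kg xg13 yg18 zg35) (kg xg10 yg15 zg41) (kg xg13 yg18 zg47) (kg xg13 yg18 zg38) (kg xg13 yg18 zg39) (kg xg13 yg4 zg33) (kg xg10 yg15 zg45) (kg xg13 yg19 zg1) (kg xg13 yg18 zg43) (kg xg13 yg17 zg17) (kg xg11 yg6 zg3) (kg xg13 yg17 zg13) (kg xg10 yg16 zg0) (kg xg13 yg19 zg7) (kg xg10 yg16 zg5) (kg xg11 yg13 zg42) (kg xg10 yg16 zg4) (kg xg13 yg19 zg10) (kg xg13 yg19 zg9) (kg xg13 yg8 zg47) (kg xg13 yg15 zg32) (kg xg13 yg15 zg42) (kg xg13 yg15 zg43) (kg xg11 yg7 zg11) (kg xg11 yg7 zg12) (kg xg11 yg7 zg13) (kg xg11 yg7 zg14) (kg xg11 yg7 zg15) (kg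 xg11 yg7 zg16) (kg xg11 yg7 zg17) (kg xg11 yg5 zg20)) (@D3.rec (fun _ => Pt) (kg xg10 yg16 zg22) (kg xg10 yg16 zg23) (kg xg10 yg16 zg24) (kg xg13 yg19 zg28) (kg xg13 yg19 zg29) (kg xg13 yg19 zg30) (kg xg13 yg11 zg20) (kg xg11 yg7 zg32) (kg xg11 yg7 zg33) (kg xg11 yg7 zg35) (kg xg11 yg7 zg36) (kg xg11 yg7 zg38) (kg xg11 yg2 zg44) (kg xg10 yg16 zg35) (kg xg10 yg16 zg41) (kg xg10 yg16 zg42) (kg xg12 yg6 zg16) (kg xg10 yg16 zg45) (kg xg13 yg19 zg34) (kg xg10 yg16 zg50) (kg xg10 yg16 zg49) (kg xg13 yg19 zg36) (kg xg10 yg17 zg1) (kg xg13 yg19 zg37) (kg xg13 yg16 zg10) (kg xg11 yg0 zg26) (kg xg11 yg0 zg35) (kg xg12 yg6 zg27) (kg xg12 yg6 zg28) (kg xg10 yg17 zg9) (kg xg10 yg17 zg10) (kg xg13 yg19 zg45) (kg xg13 yg19 zg46) (kg xg10 yg17 zg13) (kg xg13 yg19 zg48)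 (kg xg13 yg19 zg49) (kg xg11 yg8 zg0) (kg xg11 yg8 zg1) (kg xg12 yg6 zg38) (kg xg12 yg6 zg39) (kg xg13 yg8 zg6) (kg xg10 yg17 zg20) (kg xg10 yg17 zg21) (kg xg13 yg20 zg7) (kg xg12 yg6 zg44) (kg xg12 yg6 zg45) (kg xg13 yg8 zg11) (kg xg10 yg17 zg27) (kg xg13 yg20 zg11) (kg xg10 yg17 zg29) (kg xg13 yg7 zg41)) (@D3.rec (fun _ => Pt) (kg xg11 yg8 zg5) (kg xg11 yg8 zg6) (kg xg10 yg17 zg33) (kg xg13 yg20 zg17) (kg xg13 yg20 zg18) (kg xg11 yg8 zg10) (kg xg11 yg8 zg11) (kg xg12 yg7 zg7) (kg xg12 yg7 zg8) (kg xg13 yg8 zg0) (kg xg10 yg17 zg40) (kg xg10 yg17 zg41) (kg xg13 yg20 zg28) (kg xg10 yg17 zg43) (kg xg10 yg17 zg44) (kg xg13 yg20 zg30) (kg xg13 yg20 zg31) (kg xg13 yg20 zg32) (kg xg11 yg8 zg23) (kg xg11 yg8 zg24) (kg xg11 yg8 zg25) (kg xg13 yg20 zg44) (kg xg11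 yg8 zg27) (kg xg11 yg8 zg28) (kg xg12 yg7 zg24) (kg xg13 yg20 zg14) (kg xg12 yg7 zg26) (kg xg12 yg7 zg27) (kg xg10 yg18 zg6) (kg xg13 yg7 zg42) (kg xg10 yg18 zg7) (kg xg10 yg18 zg8) (kg xg10 yg18 zg3) (kg xg13 yg21 zg3) (kg xg10 yg18 zg11) (kg xg13 yg20 zg50) (kg xg13 yg21 zg1) (kg xg12 yg7 zg37) (kg xg10 yg18 zg10) (kg xg13 yg21 zg7) (kg xg13 yg21 zg5) (kg xg10 yg18 zg12) (kg xg13 yg21 zg10) (kg xg12 yg7 zg43) (kg xg13 yg19 zg17) (kg xg10 yg18 zg16) (kg xg13 yg21 zg14) (kg xg10 yg18 zg21) (kg xg12 yg7 zg48) (kg xg10 yg18 zg20) (kg xg13 yg21 zg18)) (@D3.rec (fun _ => Pt) (kg xg13 yg21 zg16) (kg xg12 yg8 zg1) (kg xg10 yg18 zg26) (kg xg10 yg18 zg28) (kg xg13 yg21 zg19) (kg xg11 yg9 zg13) (kg xg11 yg9 zg4) (kg xg11 yg9 zg5) (kg xg11 yg9 zg6) (kg xg11 yg8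 zg50) (kg xg11 yg8 zg14) (kg xg11 yg9 zg18) (kg xg12 yg8 zg12) (kg xg12 yg8 zg13) (kg xg10 yg18 zg48) (kg xg13 yg21 zg26) (kg xg10 yg18 zg50) (kg xg13 yg21 zg27) (kg xg13 yg21 zg28) (kg xg11 yg8 zg37) (kg xg11 yg8 zg26) (kg xg11 yg8 zg40) (kg xg12 yg8 zg22) (kg xg12 yg8 zg23) (kg xg10 yg19 zg6) (kg xg10 yg19 zg7) (kg xg13 yg21 zg38) (kg xg11 yg8 zg49) (kg xg11 yg9 zg20) (kg xg11 yg9 zg21) (kg xg10 yg19 zg11) (kg xg13 yg21 zg45) (kg xg13 yg21 zg46) (kg xg11 yg9 zg24) (kg xg11 yg9 zg25) (kg xg12 yg8 zg35) (kg xg12 yg8 zg36) (kg xg13 yg6 zg33) (kg xg10 yg19 zg18) (kg xg10 yg19 zg19) (kg xg13 yg22 zg5) (kg xg10 yg19 zg21) (kg xg10 yg19 zg22) (kg xg13 yg22 zg7) (kg xg13 yg22 zg8) (kg xg13 yg22 zg9) (kg xg11 yg9 zg33) (kg xg11 yg9 zg34) (kg xg11 yg9 zg35) (kg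 xg13 yg6 zg46) (kg xg11 yg9 zg36)) (@D3.rec (fun _ => Pt) (kg xg11 yg9 zg37) (kg xg12 yg9 zg1) (kg xg12 yg9 zg2) (kg xg13 yg22 zg26) (kg xg12 yg9 zg4) (kg xg12 yg9 zg5) (kg xg10 yg19 zg35) (kg xg13 yg7 zg4) (kg xg10 yg19 zg36) (kg xg10 yg19 zg37) (kg xg13 yg7 zg7) (kg xg10 yg19 zg38) (kg xg13 yg22 zg29) (kg xg13 yg22 zg31) (kg xg13 yg22 zg33) (kg xg10 yg19 zg39) (kg xg13 yg22 zg36) (kg xg12 yg9 zg17) (kg xg13 yg7 zg16) (kg xg10 yg19 zg44) (kg xg13 yg22 zg40) (kg xg10 yg19 zg47) (kg xg10 yg19 zg48) (kg xg10 yg19 zg49) (kg xg13 yg22 zg41) (kg xg13 yg22 zg42) (kg xg13 yg22 zg43) (kg xg11 yg10 zg1) (kg xg11 yg10 zg2) (kg xg11 yg10 zg3) (kg xg11 yg10 zg4) (kg xg11 yg10 zg5) (kg xg10 yg20 zg6) (kg xg10 yg20 zg8) (kg xg13 yg23 zg1) (kg xg13 yg23 zg2) (kg xg11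 yg10 zg10) (kg xg11 yg10 zg11) (kg xg11 yg10 zg12) (kg xg10 yg20 zg12) (kg xg10 yg20 zg13) (kg xg13 yg23 zg12) (kg xg13 yg23 zg13) (kg xg13 yg23 zg14) (kg xg11 yg10 zg18) (kg xg11 yg10 zg19) (kg xg11 yg10 zg20) (kg xg13 yg23 zg27) (kg xg11 yg10 zg22) (kg xg11 yg10 zg23) (kg xg12 yg9 zg50)) (@D3.rec (fun _ => Pt) (kg xg12 yg10 zg0) (kg xg12 yg10 zg1) (kg xg13 yg23 zg34) (kg xg12 yg10 zg3) (kg xg12 yg10 zg4) (kg xg10 yg20 zg26) (kg xg13 yg23 zg38) (kg xg10 yg20 zg28) (kg xg10 yg20 zg29) (kg xg10 yg20 zg23) (kg xg13 yg23 zg42) (kg xg10 yg20 zg32) (kg xg13 yg23 zg37) (kg xg10 yg20 zg27) (kg xg13 yg23 zg46) (kg xg13 yg23 zg40) (kg xg12 yg10 zg16) (kg xg10 yg20 zg31) (kg xg13 yg23 zg50) (kg xg13 yg23 zg44) (kg xg10 yg20 zg35) (kg xg10 yg20 zg36) (kg xg10 yg20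 zg37) (kg xg13 yg24 zg2) (kg xg13 yg24 zg3) (kg xg13 yg24 zg4) (kg xg13 yg24 zg15) (kg xg13 yg24 zg6) (kg xg13 yg24 zg7) (kg xg11 yg11 zg5) (kg xg11 yg11 zg6) (kg xg11 yg11 zg7) (kg xg11 yg11 zg8) (kg xg13 yg24 zg27) (kg xg11 yg11 zg10) (kg xg11 yg11 zg11) (kg xg10 yg20 zg41) (kg xg13 yg24 zg32) (kg xg11 yg11 zg14) (kg xg12 yg10 zg39) (kg xg12 yg10 zg40) (kg xg12 yg10 zg41) (kg xg13 yg24 zg39) (kg xg12 yg10 zg43) (kg xg12 yg10 zg44) (kg xg10 yg20 zg47) (kg xg13 yg24 zg44) (kg xg12 yg10 zg47) (kg xg10 yg21 zg8) (kg xg13 yg24 zg48) (kg xg10 yg21 zg10)) (@D3.rec (fun _ => Pt) (kg xg10 yg21 zg11) (kg xg10 yg21 zg2) (kg xg13 yg25 zg2) (kg xg10 yg21 zg14) (kg xg10 yg21 zg15) (kg xg13 yg24 zg43) (kg xg10 yg21 zg6) (kg xg13 yg25 zg7) (kg xg10 yg21 zg19) (kg xg13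 yg24 zg47) (kg xg10 yg21 zg9) (kg xg13 yg25 zg11) (kg xg13 yg24 zg50) (kg xg13 yg25 zg0) (kg xg12 yg11 zg14) (kg xg10 yg21 zg13) (kg xg13 yg25 zg15) (kg xg13 yg25 zg4) (kg xg13 yg25 zg5) (kg xg12 yg11 zg19) (kg xg10 yg21 zg18) (kg xg13 yg25 zg20) (kg xg13 yg25 zg9) (kg xg10 yg21 zg23) (kg xg10 yg21 zg21) (kg xg13 yg25 zg24) (kg xg12 yg11 zg26) (kg xg13 yg25 zg23) (kg xg10 yg21 zg25) (kg xg13 yg25 zg28) (kg xg10 yg21 zg30) (kg xg12 yg11 zg31) (kg xg10 yg21 zg29) (kg xg13 yg25 zg33) (kg xg13 yg25 zg31) (kg xg10 yg21 zg35) (kg xg10 yg21 zg36) (kg xg10 yg21 zg37) (kg xg10 yg21 zg38) (kg xg10 yg21 zg39) (kg xg11 yg12 zg35) (kg xg10 yg23 zg19) (kg xg13 yg25 zg35) (kg xg13 yg25 zg36) (kg xg13 yg25 zg37) (kg xg13 yg25 zg38) (kg xg10 yg22 zg11) (kg xg10 yg22 zg49)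 (kg xg11 yg12 zg6) (kg xg11 yg12 zg7) (kg xg11 yg12 zg5)) (@D3.rec (fun _ => Pt) (kg xg11 yg12 zg4) (kg xg11 yg12 zg8) (kg xg11 yg12 zg9) (kg xg11 yg12 zg2) (kg xg11 yg12 zg10) (kg xg11 yg2 zg42) (kg xg12 yg12 zg6) (kg xg12 yg12 zg7) (kg xg12 yg12 zg8) (kg xg10 yg22 zg2) (kg xg10 yg22 zg3) (kg xg10 yg22 zg4) (kg xg11 yg12 zg37) (kg xg10 yg22 zg50) (kg xg11 yg10 zg0) (kg xg10 yg22 zg35) (kg xg11 yg7 zg9) (kg xg12 yg12 zg17) (kg xg12 yg12 zg18) (kg xg10 yg22 zg27) (kg xg13 yg26 zg6) (kg xg11 yg12 zg18) (kg xg10 yg22 zg31) (kg xg11 yg9 zg10) (kg xg11 yg12 zg21) (kg xg11 yg12 zg22) (kg xg10 yg22 zg38) (kg xg10 yg23 zg10) (kg xg11 yg12 zg23) (kg xg10 yg22 zg44) (kg xg13 yg11 zg1) (kg xg13 yg11 zg21) (kg xg11 yg12 zg27) (kg xg11 yg12 zg28) (kg xg11 yg12 zg29)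 (kg xg11 yg12 zg30) (kg xg11 yg12 zg31) (kg xg13 yg22 zg46) (kg xg13 yg25 zg44) (kg xg11 yg12 zg38) (kg xg11 yg12 zg39) (kg xg11 yg12 zg40) (kg xg11 yg12 zg41) (kg xg11 yg12 zg42) (kg xg12 yg12 zg44) (kg xg10 yg23 zg8) (kg xg11 yg12 zg46) (kg xg11 yg9 zg48) (kg xg13 yg25 zg40) (kg xg11 yg9 zg49) (kg xg11 yg12 zg3)) (@D3.rec (fun _ => Pt) (kg xg11 yg12 zg47) (kg xg11 yg12 zg34) (kg xg11 yg10 zg50) (kg xg11 yg12 zg48) (kg xg11 yg2 zg20) (kg xg12 yg13 zg5) (kg xg12 yg13 zg6) (kg xg12 yg13 zg7) (kg xg13 yg6 zg26) (kg xg10 yg23 zg44) (kg xg13 yg4 zg21) (kg xg11 yg3 zg15) (kg xg11 yg3 zg23) (kg xg13 yg26 zg36) (kg xg11 yg4 zg1) (kg xg13 yg4 zg8) (kg xg10 yg24 zg4) (kg xg10 yg24 zg7) (kg xg11 yg3 zg34) (kg xg13 yg12 zg8) (kg xg13 yg12 zg3) (kg xg11 yg3 zg35)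 (kg xg13 yg26 zg40) (kg xg13 yg13 zg0) (kg xg11 yg3 zg36) (kg xg13 yg4 zg28) (kg xg13 yg4 zg29) (kg xg10 yg24 zg19) (kg xg13 yg5 zg36) (kg xg13 yg26 zg48) (kg xg13 yg4 zg39) (kg xg13 yg4 zg40) (kg xg10 yg24 zg24) (kg xg13 yg5 zg50) (kg xg13 yg4 zg42) (kg xg13 yg5 zg16) (kg xg13 yg5 zg17) (kg xg10 yg24 zg29) (kg xg14 yg0 zg4) (kg xg13 yg5 zg22) (kg xg13 yg5 zg23) (kg xg13 yg13 zg42) (kg xg10 yg24 zg34) (kg xg10 yg24 zg35) (kg xg14 yg0 zg9) (kg xg13 yg13 zg43) (kg xg10 yg24 zg40) (kg xg11 yg13 zg32) (kg xg13 yg5 zg34) (kg xg13 yg5 zg35) (kg xg10 yg24 zg49)) (@D3.rec (fun _ => Pt) (kg xg10 yg24 zg47) (kg xg14 yg0 zg12) (kg xg11 yg6 zg31) (kg xg10 yg25 zg0) (kg xg10 yg25 zg1) (kg xg13 yg4 zg36) (kg xg14 yg0 zg14) (kg xg14 yg0 zg15) (kg xg11 yg4 zg47) (kg xg13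 yg5 zg45) (kg xg13 yg5 zg46) (kg xg14 yg0 zg26) (kg xg13 yg5 zg48) (kg xg13 yg5 zg49) (kg xg11 yg6 zg11) (kg xg11 yg6 zg14) (kg xg11 yg6 zg17) (kg xg10 yg25 zg13) (kg xg10 yg25 zg14) (kg xg14 yg0 zg34) (kg xg10 yg25 zg16) (kg xg10 yg25 zg17) (kg xg10 yg25 zg10) (kg xg14 yg0 zg38) (kg xg10 yg25 zg20) (kg xg14 yg0 zg32) (kg xg14 yg0 zg33) (kg xg10 yg25 zg15) (kg xg14 yg0 zg41) (kg xg14 yg0 zg36) (kg xg14 yg0 zg37) (kg xg13 yg4 zg32) (kg xg10 yg25 zg19) (kg xg14 yg0 zg45) (kg xg10 yg25 zg22) (kg xg11 yg13 zg37) (kg xg13 yg4 zg37) (kg xg11 yg4 zg48) (kg xg10 yg26 zg11) (kg xg10 yg26 zg12) (kg xg13 yg5 zg13) (kg xg10 yg25 zg37) (kg xg10 yg25 zg38) (kg xg11 yg4 zg30) (kg xg13 yg5 zg15) (kg xg10 yg25 zg45) (kg xg10 yg26 zg0) (kg xg10 yg26 zg1) (kg xg10 yg26 zg2)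 (kg xg14 yg0 zg47) (kg xg14 yg0 zg48)) (@D3.rec (fun _ => Pt) (kg xg11 yg14 zg7) (kg xg13 yg6 zg21) (kg xg13 yg6 zg22) (kg xg13 yg8 zg14) (kg xg13 yg8 zg15) (kg xg13 yg6 zg27) (kg xg13 yg6 zg28) (kg xg12 yg15 zg7) (kg xg10 yg26 zg10) (kg xg14 yg0 zg22) (kg xg14 yg0 zg46) (kg xg13 yg6 zg43) (kg xg13 yg6 zg44) (kg xg13 yg6 zg45) (kg xg13 yg6 zg47) (kg xg13 yg6 zg48) (kg xg12 yg15 zg16) (kg xg12 yg15 zg17) (kg xg12 yg15 zg18) (kg xg10 yg26 zg21) (kg xg10 yg26 zg22) (kg xg10 yg26 zg23) (kg xg14 yg1 zg17) (kg xg14 yg1 zg18) (kg xg14 yg1 zg19) (kg xg11 yg12 zg24) (kg xg13 yg7 zg22) (kg xg13 yg7 zg25) (kg xg12 yg15 zg28) (kg xg12 yg15 zg29) (kg xg12 yg15 zg30) (kg xg10 yg26 zg33) (kg xg10 yg26 zg34) (kg xg10 yg26 zg35) (kg xg14 yg1 zg28) (kg xg14 yg1 zg29) (kg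 xg14 yg1 zg30) (kg xg11 yg12 zg26) (kg xg13 yg7 zg35) (kg xg13 yg7 zg37) (kg xg12 yg15 zg40) (kg xg12 yg15 zg41) (kg xg10 yg26 zg45) (kg xg10 yg26 zg46) (kg xg13 yg7 zg43) (kg xg13 yg14 zg30) (kg xg13 yg14 zg31) (kg xg13 yg8 zg1) (kg xg13 yg8 zg2) (kg xg12 yg15 zg49) (kg xg11 yg0 zg5)) (@D3.rec (fun _ => Pt) (kg xg13 yg8 zg18) (kg xg13 yg8 zg19) (kg xg13 yg8 zg20) (kg xg12 yg16 zg3) (kg xg12 yg16 zg4) (kg xg11 yg0 zg12) (kg xg11 yg0 zg13) (kg xg14 yg1 zg45) (kg xg11 yg0 zg15) (kg xg11 yg0 zg16) (kg xg14 yg1 zg47) (kg xg14 yg1 zg48) (kg xg14 yg1 zg49) (kg xg11 yg12 zg50) (kg xg13 yg8 zg32) (kg xg13 yg8 zg33) (kg xg13 yg19 zg41) (kg xg13 yg8 zg35) (kg xg13 yg8 zg36) (kg xg12 yg16 zg19) (kg xg12 yg16 zg20) (kg xg12 yg16 zg21) (kg xg13 yg16 zg11) (kg xg12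 yg16 zg23) (kg xg12 yg16 zg24) (kg xg11 yg0 zg29) (kg xg13 yg19 zg40) (kg xg11 yg0 zg30) (kg xg11 yg0 zg31) (kg xg13 yg19 zg42) (kg xg11 yg0 zg32) (kg xg14 yg2 zg19) (kg xg14 yg2 zg21) (kg xg14 yg2 zg22) (kg xg13 yg16 zg12) (kg xg11 yg0 zg38) (kg xg11 yg0 zg40) (kg xg14 yg2 zg27) (kg xg11 yg15 zg24) (kg xg14 yg2 zg28) (kg xg11 yg15 zg29) (kg xg14 yg2 zg29) (kg xg11 yg15 zg47) (kg xg11 yg15 zg13) (kg xg11 yg15 zg45) (kg xg11 yg11 zg18) (kg xg11 yg15 zg15) (kg xg13 yg9 zg4) (kg xg11 yg15 zg17) (kg xg12 yg16 zg49) (kg xg12 yg16 zg50)) (@D3.rec (fun _ => Pt) (kg xg12 yg17 zg0) (kg xg11 yg1 zg1) (kg xg11 yg1 zg2) (kg xg11 yg1 zg3) (kg xg14 yg2 zg45) (kg xg14 yg2 zg46) (kg xg14 yg2 zg47) (kg xg13 yg9 zg8) (kg xg13 yg9 zg9) (kg xg13 yg9 zg10) (kg xg11 yg1 zg7)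 (kg xg11 yg1 zg8) (kg xg14 yg3 zg3) (kg xg14 yg3 zg4) (kg xg14 yg3 zg5) (kg xg13 yg9 zg16) (kg xg13 yg9 zg17) (kg xg13 yg9 zg18) (kg xg14 yg3 zg17) (kg xg13 yg9 zg20) (kg xg13 yg9 zg21) (kg xg12 yg17 zg21) (kg xg12 yg17 zg22) (kg xg12 yg17 zg23) (kg xg11 yg1 zg20) (kg xg11 yg1 zg21) (kg xg14 yg1 zg8) (kg xg11 yg1 zg22) (kg xg11 yg1 zg23) (kg xg11 yg1 zg17) (kg xg14 yg3 zg28) (kg xg11 yg1 zg26) (kg xg14 yg3 zg23) (kg xg14 yg3 zg24) (kg xg14 yg3 zg26) (kg xg14 yg3 zg27) (kg xg12 yg17 zg36) (kg xg11 yg1 zg25) (kg xg14 yg3 zg33) (kg xg11 yg1 zg29) (kg xg11 yg1 zg30) (kg xg11 yg1 zg31) (kg xg13 yg26 zg33) (kg xg14 yg3 zg34) (kg xg14 yg3 zg35) (kg xg13 yg17 zg31) (kg xg14 yg3 zg37) (kg xg14 yg3 zg38) (kg xg13 yg9 zg49) (kg xg13 yg9 zg50) (kg xg13 yg10 zg0))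 (@D3.rec (fun _ => Pt) (kg xg13 yg10 zg1) (kg xg14 yg4 zg5) (kg xg13 yg10 zg3) (kg xg13 yg10 zg4) (kg xg11 yg1 zg35) (kg xg14 yg4 zg10) (kg xg13 yg10 zg7) (kg xg12 yg18 zg7) (kg xg12 yg18 zg8) (kg xg12 yg18 zg9) (kg xg13 yg17 zg30) (kg xg12 yg18 zg11) (kg xg12 yg18 zg12) (kg xg13 yg17 zg32) (kg xg12 yg18 zg14) (kg xg11 yg2 zg2) (kg xg11 yg2 zg3) (kg xg14 yg4 zg25) (kg xg11 yg2 zg5) (kg xg11 yg2 zg6) (kg xg11 yg1 zg47) (kg xg14 yg4 zg30) (kg xg11 yg2 zg9) (kg xg11 yg2 zg10) (kg xg13 yg17 zg28) (kg xg11 yg2 zg0) (kg xg14 yg4 zg35) (kg xg14 yg4 zg23) (kg xg14 yg4 zg24) (kg xg11 yg2 zg4) (kg xg14 yg4 zg38) (kg xg14 yg4 zg27) (kg xg14 yg4 zg28) (kg xg12 yg18 zg33) (kg xg11 yg2 zg8) (kg xg14 yg4 zg42) (kg xg14 yg4 zg32) (kg xg14 yg4 zg33) (kg xg12 yg18 zg38)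 (kg xg11 yg2 zg13) (kg xg13 yg17 zg29) (kg xg11 yg2 zg22) (kg xg11 yg2 zg24) (kg xg13 yg26 zg1) (kg xg13 yg6 zg40) (kg xg13 yg7 zg19) (kg xg14 yg4 zg45) (kg xg13 yg7 zg20) (kg xg13 yg11 zg2) (kg xg13 yg11 zg3) (kg xg13 yg11 zg4)) (@D3.rec (fun _ => Pt) (kg xg13 yg11 zg5) (kg xg13 yg11 zg6) (kg xg13 yg11 zg7) (kg xg13 yg11 zg8) (kg xg13 yg11 zg9) (kg xg12 yg19 zg5) (kg xg12 yg19 zg6) (kg xg12 yg19 zg7) (kg xg11 yg2 zg38) (kg xg11 yg2 zg39) (kg xg11 yg2 zg40) (kg xg13 yg19 zg26) (kg xg13 yg7 zg33) (kg xg13 yg11 zg22) (kg xg13 yg11 zg23) (kg xg13 yg11 zg24) (kg xg12 yg19 zg16) (kg xg11 yg3 zg19) (kg xg11 yg3 zg10) (kg xg13 yg13 zg16) (kg xg14 yg5 zg14) (kg xg13 yg12 zg44) (kg xg13 yg13 zg29) (kg xg13 yg13 zg5) (kg xg13 yg26 zg37) (kg xg11 yg3 zg20) (kg xg13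 yg13 zg17) (kg xg13 yg13 zg18) (kg xg14 yg5 zg13) (kg xg13 yg13 zg30) (kg xg13 yg4 zg18) (kg xg13 yg26 zg38) (kg xg13 yg12 zg34) (kg xg11 yg3 zg29) (kg xg13 yg4 zg24) (kg xg13 yg12 zg19) (kg xg13 yg4 zg27) (kg xg13 yg26 zg41) (kg xg13 yg26 zg44) (kg xg13 yg12 zg11) (kg xg13 yg13 zg10) (kg xg13 yg13 zg11) (kg xg11 yg3 zg46) (kg xg11 yg3 zg49) (kg xg13 yg12 zg13) (kg xg13 yg4 zg13) (kg xg14 yg5 zg30) (kg xg13 yg4 zg4) (kg xg13 yg4 zg14) (kg xg14 yg5 zg31) (kg xg11 yg4 zg0)) (@D3.rec (fun _ => Pt) (kg xg14 yg5 zg36) (kg xg13 yg12 zg17) (kg xg13 yg11 zg33) (kg xg11 yg4 zg10) (kg xg11 yg4 zg11) (kg xg13 yg12 zg15) (kg xg14 yg5 zg39) (kg xg13 yg13 zg26) (kg xg11 yg4 zg16) (kg xg13 yg13 zg49) (kg xg13 yg13 zg50) (kg xg11 yg4 zg20) (kg xg14 yg5 zg45) (kg xg13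 yg15 zg45) (kg xg13 yg15 zg46) (kg xg13 yg14 zg11) (kg xg13 yg14 zg12) (kg xg13 yg14 zg13) (kg xg11 yg4 zg45) (kg xg11 yg4 zg28) (kg xg11 yg4 zg29) (kg xg14 yg6 zg2) (kg xg13 yg5 zg4) (kg xg13 yg14 zg26) (kg xg13 yg14 zg27) (kg xg11 yg4 zg37) (kg xg11 yg4 zg38) (kg xg13 yg17 zg20) (kg xg14 yg6 zg6) (kg xg14 yg6 zg7) (kg xg13 yg14 zg34) (kg xg13 yg14 zg35) (kg xg13 yg14 zg36) (kg xg11 yg4 zg44) (kg xg11 yg4 zg46) (kg xg13 yg17 zg44) (kg xg14 yg6 zg14) (kg xg14 yg6 zg1) (kg xg14 yg0 zg20) (kg xg14 yg0 zg21) (kg xg13 yg15 zg3) (kg xg13 yg15 zg4) (kg xg13 yg16 zg2) (kg xg13 yg15 zg6) (kg xg13 yg15 zg7) (kg xg13 yg6 zg4) (kg xg13 yg16 zg1) (kg xg11 yg5 zg10) (kg xg11 yg5 zg11) (kg xg13 yg16 zg3) (kg xg11 yg5 zg12)) (@D3.rec (fun _ => Pt) (kg xg13 yg16 zg41)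 (kg xg13 yg18 zg28) (kg xg13 yg18 zg29) (kg xg14 yg6 zg26) (kg xg14 yg6 zg27) (kg xg13 yg15 zg33) (kg xg13 yg15 zg34) (kg xg13 yg15 zg35) (kg xg13 yg15 zg36) (kg xg11 yg5 zg21) (kg xg13 yg17 zg21) (kg xg13 yg19 zg27) (kg xg14 yg6 zg38) (kg xg13 yg16 zg15) (kg xg13 yg16 zg16) (kg xg13 yg16 zg17) (kg xg11 yg5 zg31) (kg xg11 yg5 zg32) (kg xg13 yg17 zg46) (kg xg14 yg6 zg44) (kg xg11 yg5 zg34) (kg xg11 yg5 zg35) (kg xg14 yg6 zg47) (kg xg14 yg6 zg48) (kg xg13 yg16 zg36) (kg xg13 yg16 zg37) (kg xg13 yg16 zg39) (kg xg13 yg16 zg40) (kg xg13 yg6 zg7) (kg xg11 yg5 zg44) (kg xg13 yg16 zg43) (kg xg13 yg18 zg31) (kg xg14 yg7 zg3) (kg xg11 yg5 zg47) (kg xg14 yg7 zg7) (kg xg13 yg17 zg18) (kg xg13 yg17 zg19) (kg xg11 yg6 zg4) (kg xg13 yg17 zg9) (kg xg13 yg19 zg5) (kg xg14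 yg7 zg9) (kg xg13 yg17 zg38) (kg xg13 yg17 zg39) (kg xg13 yg17 zg40) (kg xg13 yg17 zg42) (kg xg13 yg17 zg43) (kg xg11 yg6 zg12) (kg xg11 yg6 zg15) (kg xg14 yg0 zg29) (kg xg14 yg7 zg16) (kg xg14 yg0 zg30)) (@D3.rec (fun _ => Pt) (kg xg14 yg7 zg17) (kg xg11 yg6 zg20) (kg xg11 yg6 zg21) (kg xg11 yg6 zg22) (kg xg13 yg14 zg16) (kg xg14 yg7 zg21) (kg xg14 yg7 zg22) (kg xg14 yg7 zg24) (kg xg14 yg7 zg25) (kg xg13 yg18 zg17) (kg xg13 yg18 zg18) (kg xg13 yg18 zg19) (kg xg13 yg18 zg20) (kg xg14 yg7 zg39) (kg xg13 yg18 zg22) (kg xg13 yg18 zg23) (kg xg11 yg6 zg26) (kg xg14 yg7 zg44) (kg xg13 yg18 zg26) (kg xg13 yg5 zg19) (kg xg13 yg5 zg27) (kg xg11 yg6 zg42) (kg xg13 yg14 zg32) (kg xg11 yg6 zg44) (kg xg11 yg6 zg45) (kg xg11 yg6 zg35) (kg xg14 yg8 zg2) (kg xg11 yg6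 zg48) (kg xg11 yg6 zg49) (kg xg13 yg5 zg32) (kg xg11 yg6 zg39) (kg xg14 yg8 zg7) (kg xg13 yg16 zg4) (kg xg14 yg7 zg49) (kg xg13 yg14 zg37) (kg xg14 yg8 zg0) (kg xg14 yg8 zg1) (kg xg11 yg6 zg47) (kg xg14 yg8 zg14) (kg xg14 yg8 zg4) (kg xg14 yg8 zg5) (kg xg11 yg13 zg41) (kg xg11 yg7 zg1) (kg xg13 yg5 zg33) (kg xg11 yg7 zg8) (kg xg11 yg7 zg10) (kg xg13 yg14 zg22) (kg xg14 yg8 zg17) (kg xg13 yg19 zg18) (kg xg13 yg19 zg19) (kg xg13 yg19 zg20)) (@D3.rec (fun _ => Pt) (kg xg13 yg19 zg21) (kg xg13 yg19 zg22) (kg xg13 yg19 zg23) (kg xg13 yg19 zg24) (kg xg13 yg19 zg25) (kg xg13 yg5 zg21) (kg xg13 yg5 zg29) (kg xg11 yg7 zg23) (kg xg11 yg7 zg24) (kg xg11 yg7 zg25) (kg xg14 yg8 zg29) (kg xg14 yg8 zg30) (kg xg14 yg8 zg31) (kg xg14 yg8 zg33) (kg xg13 yg13 zg34) (kg xg13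 yg15 zg30) (kg xg13 yg15 zg31) (kg xg13 yg19 zg31) (kg xg13 yg19 zg32) (kg xg11 yg9 zg1) (kg xg13 yg19 zg33) (kg xg13 yg13 zg36) (kg xg11 yg7 zg44) (kg xg11 yg7 zg45) (kg xg11 yg7 zg46) (kg xg11 yg7 zg49) (kg xg11 yg7 zg50) (kg xg14 yg8 zg36) (kg xg14 yg8 zg37) (kg xg13 yg20 zg2) (kg xg13 yg20 zg3) (kg xg12 yg23 zg31) (kg xg13 yg20 zg15) (kg xg13 yg20 zg16) (kg xg11 yg8 zg8) (kg xg11 yg8 zg9) (kg xg14 yg8 zg43) (kg xg14 yg8 zg44) (kg xg13 yg21 zg23) (kg xg13 yg20 zg22) (kg xg13 yg20 zg23) (kg xg12 yg23 zg41) (kg xg12 yg23 zg42) (kg xg13 yg21 zg24) (kg xg11 yg8 zg17) (kg xg11 yg8 zg20) (kg xg11 yg8 zg21) (kg xg11 yg8 zg22) (kg xg13 yg21 zg40) (kg xg14 yg9 zg0) (kg xg14 yg9 zg1)) (@D3.rec (fun _ => Pt) (kg xg14 yg9 zg11) (kg xg14 yg9 zg3) (kg xg14 yg9 zg4)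 (kg xg13 yg20 zg38) (kg xg13 yg20 zg39) (kg xg13 yg20 zg40) (kg xg13 yg21 zg32) (kg xg13 yg20 zg42) (kg xg13 yg20 zg43) (kg xg13 yg21 zg34) (kg xg13 yg20 zg46) (kg xg12 yg24 zg11) (kg xg12 yg24 zg12) (kg xg14 yg6 zg34) (kg xg12 yg24 zg14) (kg xg12 yg24 zg15) (kg xg11 yg8 zg32) (kg xg14 yg9 zg29) (kg xg12 yg24 zg18) (kg xg13 yg8 zg23) (kg xg11 yg8 zg42) (kg xg11 yg8 zg43) (kg xg13 yg21 zg33) (kg xg11 yg8 zg44) (kg xg13 yg21 zg35) (kg xg14 yg9 zg32) (kg xg14 yg9 zg34) (kg xg11 yg8 zg46) (kg xg11 yg9 zg0) (kg xg13 yg21 zg41) (kg xg13 yg21 zg21) (kg xg13 yg21 zg22) (kg xg11 yg10 zg9) (kg xg11 yg9 zg22) (kg xg11 yg9 zg23) (kg xg13 yg21 zg20) (kg xg12 yg24 zg36) (kg xg11 yg12 zg17) (kg xg12 yg24 zg38) (kg xg13 yg21 zg42) (kg xg13 yg21 zg43) (kg xg13 yg21 zg44)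 (kg xg14 yg9 zg14) (kg xg14 yg9 zg37) (kg xg13 yg21 zg50) (kg xg13 yg22 zg0) (kg xg12 yg24 zg46) (kg xg11 yg9 zg30) (kg xg11 yg9 zg31) (kg xg11 yg9 zg32) (kg xg13 yg25 zg41)) (@D3.rec (fun _ => Pt) (kg xg14 yg9 zg46) (kg xg14 yg9 zg47) (kg xg14 yg9 zg49) (kg xg14 yg9 zg50) (kg xg13 yg9 zg28) (kg xg13 yg22 zg15) (kg xg13 yg22 zg16) (kg xg13 yg22 zg17) (kg xg13 yg22 zg19) (kg xg13 yg22 zg20) (kg xg13 yg22 zg22) (kg xg12 yg25 zg11) (kg xg12 yg25 zg12) (kg xg12 yg25 zg13) (kg xg11 yg9 zg44) (kg xg11 yg9 zg45) (kg xg14 yg10 zg16) (kg xg11 yg9 zg50) (kg xg13 yg26 zg28) (kg xg13 yg25 zg45) (kg xg13 yg22 zg47) (kg xg13 yg22 zg48) (kg xg13 yg22 zg49) (kg xg13 yg22 zg50) (kg xg13 yg23 zg0) (kg xg12 yg25 zg25) (kg xg13 yg23 zg6) (kg xg13 yg23 zg7) (kg xg13 yg23 zg8)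 (kg xg13 yg23 zg10) (kg xg13 yg23 zg11) (kg xg11 yg10 zg15) (kg xg11 yg10 zg16) (kg xg11 yg10 zg17) (kg xg13 yg26 zg32) (kg xg14 yg10 zg27) (kg xg14 yg10 zg28) (kg xg14 yg10 zg30) (kg xg14 yg10 zg31) (kg xg13 yg10 zg15) (kg xg13 yg23 zg21) (kg xg13 yg23 zg22) (kg xg13 yg23 zg23) (kg xg14 yg10 zg47) (kg xg13 yg23 zg25) (kg xg13 yg23 zg26) (kg xg11 yg10 zg21) (kg xg14 yg11 zg0) (kg xg13 yg23 zg29) (kg xg12 yg25 zg49) (kg xg12 yg25 zg50)) (@D3.rec (fun _ => Pt) (kg xg12 yg26 zg0) (kg xg12 yg26 zg1) (kg xg12 yg26 zg2) (kg xg12 yg26 zg3) (kg xg11 yg10 zg38) (kg xg14 yg4 zg22) (kg xg11 yg10 zg39) (kg xg11 yg10 zg40) (kg xg11 yg10 zg32) (kg xg14 yg11 zg11) (kg xg11 yg10 zg43) (kg xg13 yg9 zg6) (kg xg11 yg10 zg36) (kg xg14 yg11 zg15) (kg xg14 yg11 zg7) (kg xg14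 yg11 zg9) (kg xg12 yg26 zg16) (kg xg11 yg10 zg42) (kg xg14 yg11 zg18) (kg xg14 yg11 zg13) (kg xg12 yg26 zg20) (kg xg11 yg10 zg46) (kg xg11 yg11 zg0) (kg xg11 yg11 zg1) (kg xg14 yg11 zg24) (kg xg11 yg11 zg3) (kg xg11 yg11 zg4) (kg xg13 yg26 zg34) (kg xg13 yg25 zg50) (kg xg13 yg26 zg30) (kg xg14 yg2 zg7) (kg xg14 yg11 zg22) (kg xg14 yg11 zg23) (kg xg11 yg11 zg2) (kg xg14 yg11 zg35) (kg xg14 yg11 zg26) (kg xg13 yg24 zg18) (kg xg13 yg24 zg19) (kg xg13 yg24 zg20) (kg xg14 yg11 zg43) (kg xg13 yg24 zg22) (kg xg13 yg24 zg23) (kg xg14 yg11 zg47) (kg xg13 yg24 zg25) (kg xg13 yg24 zg26) (kg xg11 yg11 zg9) (kg xg14 yg12 zg2) (kg xg13 yg24 zg29) (kg xg13 yg24 zg30) (kg xg14 yg11 zg34) (kg xg11 yg11 zg13))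
def f_g_13 : D2 → D3 → Pt := @D2.rec (fun _ => D3 → Pt) (@D3.rec (fun _ => Pt) (kg xg14 yg12 zg7) (kg xg13 yg24 zg34) (kg xg13 yg0 zg2) (kg xg13 yg0 zg3) (kg xg14 yg2 zg36) (kg xg13 yg0 zg5) (kg xg13 yg0 zg6) (kg xg14 yg2 zg39) (kg xg13 yg0 zg8) (kg xg13 yg0 zg9) (kg xg11 yg11 zg33) (kg xg11 yg11 zg22) (kg xg14 yg12 zg19) (kg xg14 yg3 zg22) (kg xg11 yg11 zg36) (kg xg11 yg11 zg37) (kg xg11 yg11 zg26) (kg xg14 yg12 zg22) (kg xg11 yg11 zg40) (kg xg11 yg11 zg41) (kg xg14 yg2 zg31) (kg xg11 yg11 zg30) (kg xg14 yg12 zg26) (kg xg11 yg11 zg45) (kg xg11 yg11 zg46) (kg xg14 yg12 zg18) (kg xg11 yg11 zg35) (kg xg14 yg12 zg21) (kg xg13 yg0 zg28) (kg xg11 yg11 zg39) (kg xg14 yg12 zg32) (kg xg14 yg12 zg24) (kg xg13 yg0 zg32) (kg xg11 yg11 zg44) (kg xg14 yg12 zg36) (kg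 xg14 yg12 zg28) (kg xg13 yg0 zg36) (kg xg11 yg12 zg0) (kg xg13 yg25 zg47) (kg xg13 yg25 zg46) (kg xg13 yg25 zg48) (kg xg13 yg25 zg49) (kg xg13 yg26 zg0) (kg xg13 yg0 zg43) (kg xg14 yg2 zg6) (kg xg13 yg26 zg7) (kg xg13 yg26 zg8) (kg xg13 yg26 zg9) (kg xg13 yg26 zg10) (kg xg11 yg15 zg18) (kg xg13 yg10 zg49)) (@D3.rec (fun _ => Pt) (kg xg14 yg1 zg22) (kg xg13 yg11 zg18) (kg xg14 yg1 zg31) (kg xg13 yg26 zg14) (kg xg13 yg26 zg15) (kg xg13 yg26 zg16) (kg xg13 yg26 zg17) (kg xg13 yg26 zg18) (kg xg13 yg26 zg19) (kg xg13 yg26 zg20) (kg xg11 yg12 zg36) (kg xg13 yg26 zg31) (kg xg13 yg24 zg8) (kg xg13 yg25 zg39) (kg xg13 yg26 zg22) (kg xg13 yg26 zg23) (kg xg13 yg26 zg24) (kg xg13 yg26 zg25) (kg xg13 yg26 zg26) (kg xg13 yg1 zg19) (kg xg13 yg26 zg27) (kg xg14 yg2 zg5)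 (kg xg14 yg13 zg9) (kg xg13 yg4 zg12) (kg xg13 yg1 zg24) (kg xg13 yg4 zg16) (kg xg13 yg3 zg25) (kg xg13 yg4 zg26) (kg xg13 yg12 zg49) (kg xg13 yg3 zg32) (kg xg13 yg1 zg30) (kg xg11 yg14 zg14) (kg xg11 yg13 zg18) (kg xg11 yg13 zg19) (kg xg11 yg13 zg20) (kg xg11 yg13 zg26) (kg xg13 yg14 zg33) (kg xg11 yg13 zg30) (kg xg13 yg14 zg1) (kg xg13 yg13 zg45) (kg xg14 yg0 zg44) (kg xg13 yg19 zg0) (kg xg13 yg1 zg42) (kg xg13 yg1 zg43) (kg xg13 yg1 zg44) (kg xg13 yg1 zg45) (kg xg13 yg1 zg46) (kg xg11 yg14 zg2) (kg xg11 yg14 zg3) (kg xg11 yg14 zg4) (kg xg14 yg13 zg16)) (@D3.rec (fun _ => Pt) (kg xg11 yg14 zg5) (kg xg13 yg3 zg43) (kg xg13 yg2 zg2) (kg xg13 yg2 zg3) (kg xg13 yg2 zg4) (kg xg13 yg2 zg5) (kg xg11 yg14 zg22) (kg xg11 yg14 zg21) (kg xg11 yg14 zg20) (kg xg13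 yg2 zg9) (kg xg13 yg3 zg35) (kg xg13 yg2 zg11) (kg xg13 yg2 zg12) (kg xg13 yg2 zg13) (kg xg13 yg2 zg14) (kg xg13 yg2 zg15) (kg xg13 yg2 zg16) (kg xg11 yg14 zg34) (kg xg11 yg14 zg35) (kg xg11 yg14 zg36) (kg xg13 yg2 zg20) (kg xg13 yg2 zg21) (kg xg13 yg2 zg22) (kg xg13 yg2 zg23) (kg xg13 yg2 zg24) (kg xg14 yg2 zg35) (kg xg14 yg12 zg41) (kg xg11 yg14 zg50) (kg xg14 yg13 zg29) (kg xg13 yg2 zg29) (kg xg11 yg15 zg2) (kg xg14 yg13 zg32) (kg xg14 yg13 zg33) (kg xg13 yg2 zg33) (kg xg13 yg2 zg34) (kg xg11 yg15 zg6) (kg xg14 yg13 zg38) (kg xg13 yg2 zg37) (kg xg13 yg2 zg38) (kg xg11 yg15 zg10) (kg xg14 yg2 zg34) (kg xg13 yg2 zg41) (kg xg13 yg26 zg11) (kg xg14 yg2 zg37) (kg xg14 yg2 zg40) (kg xg13 yg2 zg45) (kg xg14 yg12 zg42) (kg xg11 yg15 zg33) (kg xg11 yg15 zg22)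 (kg xg14 yg13 zg47) (kg xg11 yg15 zg37)) (@D3.rec (fun _ => Pt) (kg xg14 yg2 zg32) (kg xg11 yg15 zg26) (kg xg14 yg13 zg50) (kg xg11 yg15 zg41) (kg xg14 yg2 zg38) (kg xg11 yg15 zg32) (kg xg14 yg14 zg2) (kg xg13 yg3 zg7) (kg xg11 yg15 zg36) (kg xg14 yg14 zg3) (kg xg14 yg13 zg49) (kg xg11 yg15 zg40) (kg xg13 yg3 zg12) (kg xg13 yg3 zg13) (kg xg13 yg3 zg14) (kg xg13 yg3 zg15) (kg xg13 yg3 zg16) (kg xg13 yg3 zg17) (kg xg13 yg9 zg7) (kg xg13 yg3 zg19) (kg xg13 yg3 zg20) (kg xg13 yg7 zg30) (kg xg13 yg3 zg22) (kg xg13 yg3 zg23) (kg xg11 yg16 zg15) (kg xg13 yg1 zg26) (kg xg13 yg3 zg26) (kg xg11 yg16 zg18) (kg xg11 yg16 zg21) (kg xg12 yg0 zg34) (kg xg11 yg16 zg25) (kg xg11 yg16 zg42) (kg xg13 yg1 zg29) (kg xg13 yg3 zg33) (kg xg11 yg16 zg31) (kg xg13 yg2 zg10) (kg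 xg12 yg4 zg5) (kg xg11 yg16 zg34) (kg xg14 yg14 zg11) (kg xg13 yg3 zg39) (kg xg11 yg16 zg38) (kg xg13 yg3 zg41) (kg xg11 yg16 zg41) (kg xg13 yg2 zg1) (kg xg14 yg14 zg13) (kg xg11 yg16 zg45) (kg xg13 yg3 zg46) (kg xg13 yg3 zg47) (kg xg13 yg3 zg48) (kg xg13 yg3 zg49) (kg xg13 yg3 zg50)) (@D3.rec (fun _ => Pt) (kg xg11 yg17 zg4) (kg xg11 yg17 zg5) (kg xg14 yg14 zg17) (kg xg11 yg26 zg44) (kg xg12 yg19 zg47) (kg xg11 yg17 zg13) (kg xg11 yg17 zg14) (kg xg11 yg26 zg31) (kg xg12 yg13 zg15) (kg xg14 yg14 zg20) (kg xg14 yg14 zg21) (kg xg11 yg17 zg18) (kg xg13 yg1 zg23) (kg xg12 yg19 zg45) (kg xg12 yg19 zg48) (kg xg11 yg17 zg26) (kg xg13 yg1 zg25) (kg xg11 yg17 zg32) (kg xg12 yg19 zg30) (kg xg14 yg14 zg27) (kg xg11 yg17 zg37) (kg xg12 yg13 zg10) (kg xg11 yg17 zg35)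 (kg xg14 yg14 zg29) (kg xg12 yg19 zg34) (kg xg11 yg17 zg39) (kg xg13 yg1 zg27) (kg xg12 yg19 zg36) (kg xg12 yg13 zg25) (kg xg12 yg13 zg26) (kg xg11 yg17 zg49) (kg xg11 yg17 zg50) (kg xg12 yg14 zg31) (kg xg12 yg5 zg25) (kg xg14 yg14 zg37) (kg xg14 yg14 zg38) (kg xg12 yg14 zg5) (kg xg12 yg14 zg36) (kg xg11 yg19 zg13) (kg xg12 yg13 zg30) (kg xg12 yg13 zg31) (kg xg12 yg1 zg12) (kg xg12 yg13 zg34) (kg xg11 yg18 zg9) (kg xg11 yg18 zg10) (kg xg11 yg18 zg11) (kg xg12 yg3 zg39) (kg xg11 yg18 zg12) (kg xg11 yg18 zg13) (kg xg14 yg14 zg50) (kg xg14 yg15 zg0)) (@D3.rec (fun _ => Pt) (kg xg14 yg15 zg1) (kg xg14 yg15 zg3) (kg xg14 yg15 zg4) (kg xg14 yg15 zg6) (kg xg12 yg20 zg22) (kg xg12 yg1 zg26) (kg xg12 yg4 zg0) (kg xg11 yg18 zg19) (kg xg14 yg15 zg14) (kg xg11 yg19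 zg14) (kg xg11 yg18 zg25) (kg xg11 yg18 zg26) (kg xg14 yg15 zg16) (kg xg12 yg14 zg40) (kg xg11 yg18 zg30) (kg xg12 yg14 zg44) (kg xg12 yg13 zg35) (kg xg12 yg13 zg36) (kg xg11 yg18 zg38) (kg xg12 yg22 zg19) (kg xg14 yg15 zg20) (kg xg12 yg23 zg5) (kg xg12 yg13 zg39) (kg xg12 yg13 zg40) (kg xg11 yg18 zg47) (kg xg11 yg18 zg45) (kg xg14 yg15 zg25) (kg xg12 yg22 zg20) (kg xg11 yg18 zg49) (kg xg12 yg23 zg6) (kg xg12 yg0 zg24) (kg xg11 yg19 zg2) (kg xg12 yg22 zg29) (kg xg12 yg22 zg43) (kg xg12 yg13 zg48) (kg xg12 yg13 zg49) (kg xg12 yg13 zg28) (kg xg14 yg15 zg34) (kg xg11 yg19 zg11) (kg xg11 yg19 zg12) (kg xg11 yg19 zg10) (kg xg14 yg15 zg37) (kg xg14 yg15 zg36) (kg xg14 yg14 zg42) (kg xg14 yg14 zg43) (kg xg12 yg14 zg9) (kg xg12 yg14 zg10) (kg xg14 yg15 zg44) (kg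 xg12 yg14 zg12) (kg xg12 yg14 zg13) (kg xg12 yg13 zg33)) (@D3.rec (fun _ => Pt) (kg xg11 yg19 zg26) (kg xg11 yg19 zg20) (kg xg14 yg15 zg48) (kg xg11 yg19 zg29) (kg xg12 yg20 zg45) (kg xg11 yg19 zg24) (kg xg14 yg16 zg0) (kg xg12 yg21 zg28) (kg xg12 yg2 zg4) (kg xg11 yg19 zg28) (kg xg14 yg16 zg3) (kg xg14 yg15 zg50) (kg xg12 yg4 zg4) (kg xg11 yg19 zg31) (kg xg14 yg16 zg7) (kg xg11 yg19 zg36) (kg xg12 yg2 zg32) (kg xg11 yg19 zg35) (kg xg14 yg16 zg10) (kg xg14 yg16 zg9) (kg xg11 yg21 zg29) (kg xg12 yg15 zg1) (kg xg12 yg15 zg2) (kg xg11 yg19 zg43) (kg xg14 yg16 zg17) (kg xg14 yg16 zg18) (kg xg12 yg13 zg8) (kg xg12 yg15 zg5) (kg xg12 yg15 zg6) (kg xg13 yg6 zg29) (kg xg13 yg6 zg30) (kg xg13 yg6 zg31) (kg xg11 yg20 zg0) (kg xg12 yg8 zg37) (kg xg11 yg20 zg1) (kg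 xg11 yg20 zg2) (kg xg14 yg16 zg31) (kg xg14 yg16 zg33) (kg xg11 yg20 zg4) (kg xg11 yg20 zg5) (kg xg12 yg18 zg44) (kg xg14 yg16 zg36) (kg xg14 yg16 zg37) (kg xg12 yg15 zg11) (kg xg12 yg15 zg12) (kg xg12 yg15 zg13) (kg xg12 yg8 zg49) (kg xg12 yg15 zg14) (kg xg12 yg15 zg15) (kg xg13 yg6 zg49) (kg xg13 yg6 zg50)) (@D3.rec (fun _ => Pt) (kg xg14 yg17 zg3) (kg xg13 yg7 zg1) (kg xg13 yg7 zg2) (kg xg11 yg20 zg18) (kg xg12 yg9 zg7) (kg xg11 yg20 zg19) (kg xg11 yg20 zg20) (kg xg12 yg9 zg10) (kg xg11 yg20 zg21) (kg xg14 yg17 zg6) (kg xg14 yg17 zg8) (kg xg14 yg17 zg9) (kg xg14 yg17 zg11) (kg xg11 yg20 zg22) (kg xg14 yg17 zg16) (kg xg13 yg7 zg15) (kg xg12 yg9 zg18) (kg xg11 yg20 zg27) (kg xg14 yg17 zg20) (kg xg12 yg18 zg45) (kg xg12 yg18 zg47) (kg xg11 yg23 zg39) (kg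 xg12 yg15 zg26) (kg xg11 yg22 zg44) (kg xg11 yg23 zg40) (kg xg12 yg15 zg27) (kg xg11 yg23 zg41) (kg xg13 yg7 zg27) (kg xg11 yg20 zg41) (kg xg11 yg20 zg42) (kg xg13 yg3 zg21) (kg xg14 yg17 zg31) (kg xg14 yg17 zg32) (kg xg12 yg19 zg12) (kg xg11 yg24 zg8) (kg xg12 yg15 zg38) (kg xg11 yg24 zg9) (kg xg12 yg15 zg39) (kg xg13 yg7 zg38) (kg xg11 yg21 zg3) (kg xg11 yg21 zg4) (kg xg12 yg6 zg50) (kg xg12 yg7 zg29) (kg xg12 yg15 zg44) (kg xg13 yg7 zg44) (kg xg13 yg7 zg45) (kg xg11 yg21 zg10) (kg xg14 yg17 zg40) (kg xg11 yg21 zg12) (kg xg14 yg17 zg41) (kg xg14 yg17 zg42)) (@D3.rec (fun _ => Pt) (kg xg12 yg7 zg9) (kg xg12 yg15 zg47) (kg xg12 yg15 zg48) (kg xg13 yg8 zg3) (kg xg13 yg8 zg4) (kg xg11 yg21 zg20) (kg xg12 yg6 zg40) (kg xg11 yg21 zg21) (kg xg11 yg21 zg22)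 (kg xg14 yg18 zg2) (kg xg14 yg18 zg4) (kg xg12 yg6 zg46) (kg xg11 yg21 zg27) (kg xg14 yg18 zg8) (kg xg12 yg15 zg3) (kg xg12 yg15 zg4) (kg xg14 yg16 zg12) (kg xg14 yg16 zg13) (kg xg12 yg16 zg0) (kg xg12 yg16 zg1) (kg xg12 yg16 zg2) (kg xg13 yg8 zg21) (kg xg11 yg21 zg37) (kg xg12 yg24 zg19) (kg xg11 yg21 zg38) (kg xg11 yg21 zg39) (kg xg14 yg18 zg19) (kg xg14 yg18 zg21) (kg xg11 yg21 zg41) (kg xg11 yg21 zg42) (kg xg14 yg18 zg24) (kg xg14 yg18 zg25) (kg xg12 yg16 zg14) (kg xg12 yg16 zg15) (kg xg14 yg18 zg30) (kg xg12 yg16 zg17) (kg xg12 yg16 zg18) (kg xg13 yg8 zg37) (kg xg11 yg22 zg0) (kg xg11 yg21 zg48) (kg xg14 yg18 zg35) (kg xg11 yg22 zg3) (kg xg14 yg18 zg33) (kg xg13 yg8 zg43) (kg xg11 yg22 zg2) (kg xg14 yg18 zg39) (kg xg14 yg18 zg37) (kg xg12 yg5 zg39)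 (kg xg11 yg22 zg5) (kg xg14 yg18 zg42) (kg xg11 yg22 zg10)) (@D3.rec (fun _ => Pt) (kg xg13 yg9 zg0) (kg xg11 yg22 zg9) (kg xg14 yg18 zg45) (kg xg13 yg9 zg3) (kg xg12 yg16 zg47) (kg xg11 yg22 zg17) (kg xg12 yg26 zg11) (kg xg13 yg3 zg18) (kg xg12 yg17 zg7) (kg xg12 yg17 zg8) (kg xg12 yg17 zg9) (kg xg11 yg22 zg22) (kg xg11 yg22 zg23) (kg xg14 yg17 zg26) (kg xg14 yg19 zg5) (kg xg14 yg19 zg6) (kg xg12 yg17 zg15) (kg xg12 yg17 zg16) (kg xg12 yg17 zg17) (kg xg14 yg19 zg19) (kg xg12 yg17 zg19) (kg xg12 yg17 zg20) (kg xg13 yg9 zg22) (kg xg13 yg9 zg23) (kg xg14 yg19 zg24) (kg xg13 yg9 zg25) (kg xg13 yg9 zg26) (kg xg11 yg22 zg36) (kg xg12 yg25 zg4) (kg xg11 yg22 zg37) (kg xg11 yg22 zg38) (kg xg11 yg22 zg33) (kg xg14 yg19 zg32) (kg xg11 yg22 zg41) (kg xg14 yg19 zg27)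 (kg xg14 yg19 zg29) (kg xg14 yg19 zg30) (kg xg13 yg9 zg37) (kg xg11 yg22 zg40) (kg xg14 yg19 zg38) (kg xg14 yg19 zg34) (kg xg11 yg22 zg45) (kg xg11 yg22 zg46) (kg xg14 yg17 zg23) (kg xg14 yg16 zg45) (kg xg14 yg17 zg27) (kg xg14 yg19 zg49) (kg xg14 yg19 zg42) (kg xg14 yg19 zg43) (kg xg12 yg17 zg48) (kg xg12 yg17 zg49)) (@D3.rec (fun _ => Pt) (kg xg12 yg17 zg50) (kg xg12 yg18 zg0) (kg xg14 yg20 zg9) (kg xg12 yg18 zg2) (kg xg12 yg18 zg3) (kg xg11 yg22 zg50) (kg xg14 yg20 zg14) (kg xg12 yg18 zg6) (kg xg13 yg10 zg8) (kg xg13 yg10 zg9) (kg xg13 yg10 zg10) (kg xg11 yg23 zg4) (kg xg14 yg20 zg21) (kg xg13 yg10 zg13) (kg xg11 yg23 zg16) (kg xg12 yg25 zg39) (kg xg11 yg23 zg17) (kg xg11 yg23 zg18) (kg xg11 yg23 zg10) (kg xg14 yg20 zg29) (kg xg11 yg23 zg21) (kg xg11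 yg23 zg22) (kg xg14 yg20 zg20) (kg xg11 yg23 zg14) (kg xg14 yg20 zg33) (kg xg11 yg23 zg26) (kg xg14 yg20 zg24) (kg xg14 yg20 zg26) (kg xg14 yg20 zg27) (kg xg13 yg10 zg29) (kg xg11 yg23 zg20) (kg xg14 yg20 zg39) (kg xg14 yg20 zg31) (kg xg13 yg10 zg33) (kg xg11 yg23 zg25) (kg xg14 yg20 zg42) (kg xg14 yg20 zg35) (kg xg11 yg23 zg30) (kg xg11 yg23 zg28) (kg xg14 yg20 zg45) (kg xg13 yg10 zg40) (kg xg14 yg20 zg44) (kg xg11 yg23 zg32) (kg xg14 yg20 zg49) (kg xg11 yg23 zg37) (kg xg13 yg10 zg45) (kg xg11 yg23 zg36) (kg xg14 yg21 zg3) (kg xg14 yg21 zg1) (kg xg13 yg0 zg50) (kg xg14 yg17 zg24)) (@D3.rec (fun _ => Pt) (kg xg14 yg17 zg28) (kg xg12 yg12 zg30) (kg xg12 yg18 zg48) (kg xg12 yg18 zg49) (kg xg12 yg18 zg50) (kg xg12 yg19 zg0) (kg xg12 yg19 zg1) (kg xg12 yg19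 zg2) (kg xg12 yg19 zg3) (kg xg12 yg19 zg4) (kg xg13 yg11 zg10) (kg xg13 yg11 zg11) (kg xg13 yg11 zg12) (kg xg11 yg24 zg4) (kg xg11 yg24 zg5) (kg xg11 yg24 zg6) (kg xg14 yg21 zg21) (kg xg14 yg21 zg23) (kg xg13 yg1 zg1) (kg xg14 yg17 zg33) (kg xg12 yg6 zg6) (kg xg12 yg12 zg31) (kg xg12 yg19 zg13) (kg xg12 yg19 zg14) (kg xg12 yg19 zg15) (kg xg13 yg11 zg25) (kg xg13 yg11 zg26) (kg xg13 yg11 zg27) (kg xg11 yg24 zg29) (kg xg11 yg24 zg26) (kg xg11 yg25 zg9) (kg xg13 yg11 zg31) (kg xg11 yg25 zg3) (kg xg12 yg20 zg2) (kg xg12 yg0 zg41) (kg xg11 yg24 zg36) (kg xg11 yg24 zg37) (kg xg14 yg21 zg27) (kg xg11 yg24 zg42) (kg xg11 yg24 zg43) (kg xg11 yg25 zg13) (kg xg11 yg25 zg12) (kg xg14 yg21 zg29) (kg xg12 yg2 zg49) (kg xg11 yg25 zg37) (kg xg11 yg25 zg38) (kg xg12 yg1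 zg8) (kg xg11 yg25 zg0) (kg xg11 yg25 zg24) (kg xg11 yg25 zg22) (kg xg14 yg21 zg34)) (@D3.rec (fun _ => Pt) (kg xg11 yg25 zg34) (kg xg11 yg25 zg29) (kg xg11 yg25 zg14) (kg xg12 yg13 zg20) (kg xg14 yg21 zg31) (kg xg11 yg25 zg41) (kg xg14 yg21 zg30) (kg xg14 yg21 zg39) (kg xg12 yg13 zg19) (kg xg12 yg1 zg49) (kg xg11 yg25 zg25) (kg xg12 yg19 zg39) (kg xg14 yg21 zg36) (kg xg12 yg19 zg44) (kg xg14 yg21 zg35) (kg xg12 yg20 zg5) (kg xg14 yg21 zg38) (kg xg12 yg20 zg1) (kg xg14 yg21 zg37) (kg xg12 yg19 zg35) (kg xg14 yg21 zg33) (kg xg11 yg25 zg42) (kg xg11 yg25 zg47) (kg xg14 yg21 zg42) (kg xg14 yg22 zg4) (kg xg12 yg3 zg17) (kg xg12 yg3 zg18) (kg xg11 yg25 zg46) (kg xg11 yg25 zg48) (kg xg11 yg26 zg7) (kg xg11 yg26 zg6) (kg xg14 yg22 zg8) (kg xg14 yg22 zg5) (kg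 xg14 yg22 zg9) (kg xg12 yg19 zg32) (kg xg12 yg3 zg35) (kg xg11 yg26 zg8) (kg xg11 yg26 zg29) (kg xg11 yg26 zg9) (kg xg11 yg26 zg10) (kg xg14 yg22 zg11) (kg xg14 yg22 zg10) (kg xg14 yg22 zg16) (kg xg14 yg22 zg18) (kg xg12 yg19 zg21) (kg xg11 yg26 zg14) (kg xg14 yg22 zg2) (kg xg11 yg26 zg18) (kg xg11 yg26 zg19) (kg xg13 yg1 zg28) (kg xg14 yg22 zg0)) (@D3.rec (fun _ => Pt) (kg xg12 yg13 zg23) (kg xg12 yg4 zg31) (kg xg11 yg26 zg30) (kg xg11 yg26 zg32) (kg xg11 yg26 zg33) (kg xg12 yg19 zg23) (kg xg14 yg22 zg17) (kg xg14 yg22 zg29) (kg xg14 yg14 zg22) (kg xg14 yg22 zg30) (kg xg12 yg19 zg40) (kg xg12 yg19 zg41) (kg xg12 yg5 zg8) (kg xg11 yg26 zg45) (kg xg11 yg26 zg46) (kg xg11 yg26 zg49) (kg xg12 yg19 zg19) (kg xg12 yg19 zg26) (kg xg12 yg19 zg27) (kg xg14 yg14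 zg18) (kg xg14 yg22 zg37) (kg xg14 yg22 zg38) (kg xg11 yg26 zg48) (kg xg14 yg22 zg46) (kg xg14 yg22 zg39) (kg xg12 yg0 zg3) (kg xg12 yg20 zg7) (kg xg14 yg22 zg26) (kg xg12 yg0 zg7) (kg xg12 yg19 zg22) (kg xg12 yg19 zg29) (kg xg14 yg22 zg24) (kg xg12 yg0 zg11) (kg xg12 yg0 zg13) (kg xg12 yg23 zg14) (kg xg12 yg0 zg18) (kg xg12 yg23 zg21) (kg xg13 yg13 zg37) (kg xg12 yg0 zg25) (kg xg12 yg0 zg35) (kg xg12 yg0 zg38) (kg xg12 yg3 zg14) (kg xg12 yg13 zg41) (kg xg12 yg13 zg45) (kg xg12 yg2 zg5) (kg xg13 yg1 zg39) (kg xg12 yg0 zg44) (kg xg14 yg23 zg6) (kg xg12 yg3 zg2) (kg xg12 yg20 zg9) (kg xg12 yg20 zg10)) (@D3.rec (fun _ => Pt) (kg xg12 yg1 zg38) (kg xg13 yg1 zg38) (kg xg12 yg1 zg0) (kg xg12 yg1 zg1) (kg xg12 yg1 zg2) (kg xg14 yg23 zg13) (kg xg14 yg23 zg15)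 (kg xg14 yg23 zg16) (kg xg12 yg1 zg4) (kg xg14 yg23 zg19) (kg xg14 yg23 zg20) (kg xg12 yg20 zg15) (kg xg12 yg20 zg16) (kg xg12 yg20 zg17) (kg xg12 yg2 zg8) (kg xg12 yg1 zg13) (kg xg12 yg22 zg4) (kg xg12 yg1 zg14) (kg xg12 yg1 zg15) (kg xg14 yg14 zg48) (kg xg14 yg23 zg29) (kg xg14 yg23 zg31) (kg xg12 yg22 zg46) (kg xg12 yg1 zg19) (kg xg14 yg23 zg36) (kg xg12 yg1 zg21) (kg xg12 yg20 zg23) (kg xg12 yg20 zg24) (kg xg12 yg1 zg27) (kg xg14 yg23 zg38) (kg xg12 yg15 zg45) (kg xg12 yg15 zg46) (kg xg12 yg22 zg22) (kg xg13 yg1 zg36) (kg xg12 yg20 zg30) (kg xg12 yg20 zg31) (kg xg12 yg20 zg32) (kg xg12 yg22 zg34) (kg xg12 yg1 zg37) (kg xg12 yg1 zg39) (kg xg14 yg24 zg2) (kg xg12 yg1 zg41) (kg xg12 yg1 zg42) (kg xg14 yg24 zg0) (kg xg14 yg23 zg12) (kg xg14 yg24 zg1) (kg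 xg12 yg1 zg40) (kg xg14 yg24 zg8) (kg xg14 yg24 zg4) (kg xg12 yg1 zg44) (kg xg12 yg1 zg45)) (@D3.rec (fun _ => Pt) (kg xg14 yg24 zg11) (kg xg14 yg24 zg12) (kg xg12 yg4 zg46) (kg xg12 yg20 zg40) (kg xg12 yg20 zg41) (kg xg14 yg24 zg20) (kg xg12 yg20 zg43) (kg xg12 yg20 zg44) (kg xg14 yg21 zg45) (kg xg12 yg2 zg6) (kg xg12 yg2 zg9) (kg xg12 yg2 zg1) (kg xg14 yg24 zg25) (kg xg12 yg2 zg12) (kg xg14 yg16 zg2) (kg xg14 yg23 zg5) (kg xg14 yg24 zg23) (kg xg12 yg2 zg7) (kg xg14 yg24 zg31) (kg xg14 yg23 zg28) (kg xg14 yg24 zg24) (kg xg12 yg2 zg11) (kg xg14 yg24 zg34) (kg xg14 yg24 zg27) (kg xg12 yg2 zg15) (kg xg14 yg24 zg37) (kg xg12 yg2 zg19) (kg xg12 yg2 zg18) (kg xg14 yg24 zg40) (kg xg14 yg24 zg39) (kg xg12 yg23 zg15) (kg xg12 yg23 zg16) (kg xg12 yg5 zg40) (kg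 xg12 yg21 zg5) (kg xg12 yg21 zg6) (kg xg12 yg21 zg7) (kg xg12 yg21 zg8) (kg xg12 yg2 zg33) (kg xg12 yg2 zg34) (kg xg14 yg24 zg45) (kg xg14 yg24 zg46) (kg xg12 yg4 zg6) (kg xg12 yg5 zg41) (kg xg12 yg5 zg42) (kg xg12 yg2 zg46) (kg xg12 yg20 zg13) (kg xg12 yg20 zg14) (kg xg14 yg15 zg17) (kg xg12 yg3 zg1) (kg xg14 yg24 zg50) (kg xg14 yg23 zg7)) (@D3.rec (fun _ => Pt) (kg xg14 yg23 zg8) (kg xg12 yg20 zg46) (kg xg12 yg20 zg42) (kg xg12 yg20 zg49) (kg xg12 yg22 zg32) (kg xg12 yg3 zg9) (kg xg12 yg3 zg10) (kg xg12 yg3 zg11) (kg xg14 yg25 zg8) (kg xg14 yg25 zg9) (kg xg12 yg6 zg24) (kg xg12 yg16 zg22) (kg xg12 yg16 zg34) (kg xg14 yg23 zg1) (kg xg14 yg23 zg2) (kg xg12 yg21 zg13) (kg xg12 yg21 zg14) (kg xg12 yg21 zg15) (kg xg12 yg3 zg43) (kg xg14 yg22 zg7) (kg xg12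 yg3 zg22) (kg xg12 yg3 zg23) (kg xg12 yg3 zg24) (kg xg14 yg14 zg36) (kg xg12 yg3 zg25) (kg xg12 yg3 zg26) (kg xg14 yg25 zg28) (kg xg14 yg25 zg30) (kg xg14 yg25 zg31) (kg xg14 yg25 zg33) (kg xg12 yg3 zg28) (kg xg12 yg3 zg29) (kg xg14 yg15 zg47) (kg xg14 yg25 zg38) (kg xg14 yg25 zg39) (kg xg12 yg5 zg6) (kg xg12 yg21 zg24) (kg xg12 yg21 zg25) (kg xg14 yg14 zg44) (kg xg12 yg21 zg26) (kg xg12 yg21 zg27) (kg xg12 yg21 zg0) (kg xg14 yg25 zg45) (kg xg12 yg21 zg30) (kg xg14 yg22 zg15) (kg xg12 yg3 zg42) (kg xg12 yg3 zg44) (kg xg14 yg15 zg2) (kg xg12 yg3 zg45) (kg xg12 yg3 zg46) (kg xg14 yg15 zg5)) (@D3.rec (fun _ => Pt) (kg xg12 yg3 zg47) (kg xg14 yg26 zg5) (kg xg14 yg25 zg26) (kg xg14 yg26 zg6) (kg xg14 yg26 zg8) (kg xg14 yg26 zg9) (kg xg14 yg26 zg11) (kg xg12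 yg3 zg48) (kg xg14 yg26 zg18) (kg xg12 yg21 zg38) (kg xg14 yg15 zg13) (kg xg12 yg4 zg2) (kg xg14 yg26 zg21) (kg xg12 yg5 zg31) (kg xg14 yg16 zg6) (kg xg14 yg14 zg10) (kg xg14 yg24 zg47) (kg xg12 yg5 zg29) (kg xg12 yg21 zg35) (kg xg12 yg21 zg36) (kg xg12 yg20 zg27) (kg xg12 yg21 zg10) (kg xg12 yg4 zg17) (kg xg12 yg4 zg18) (kg xg12 yg4 zg19) (kg xg14 yg26 zg27) (kg xg14 yg26 zg28) (kg xg14 yg26 zg29) (kg xg12 yg18 zg24) (kg xg12 yg18 zg40) (kg xg12 yg18 zg10) (kg xg12 yg17 zg45) (kg xg12 yg18 zg13) (kg xg12 yg4 zg24) (kg xg12 yg4 zg25) (kg xg14 yg23 zg44) (kg xg14 yg26 zg41) (kg xg14 yg26 zg42) (kg xg12 yg21 zg41) (kg xg12 yg21 zg42) (kg xg12 yg21 zg43) (kg xg15 yg0 zg3) (kg xg12 yg21 zg44) (kg xg12 yg21 zg45) (kg xg12 yg20 zg35) (kg xg14 yg25 zg20) (kg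 xg12 yg21 zg18) (kg xg14 yg22 zg28) (kg xg12 yg4 zg38) (kg xg14 yg14 zg47) (kg xg12 yg4 zg39)) (@D3.rec (fun _ => Pt) (kg xg12 yg4 zg40) (kg xg12 yg4 zg35) (kg xg15 yg0 zg13) (kg xg12 yg4 zg43) (kg xg15 yg0 zg9) (kg xg15 yg0 zg11) (kg xg15 yg0 zg12) (kg xg12 yg4 zg42) (kg xg15 yg0 zg19) (kg xg15 yg0 zg15) (kg xg12 yg4 zg47) (kg xg12 yg4 zg48) (kg xg14 yg24 zg15) (kg xg14 yg24 zg16) (kg xg14 yg25 zg46) (kg xg15 yg0 zg23) (kg xg15 yg0 zg24) (kg xg12 yg22 zg9) (kg xg12 yg22 zg10) (kg xg12 yg22 zg11) (kg xg12 yg22 zg12) (kg xg15 yg0 zg40) (kg xg12 yg22 zg14) (kg xg12 yg22 zg15) (kg xg12 yg5 zg1) (kg xg15 yg0 zg45) (kg xg12 yg22 zg18) (kg xg14 yg25 zg2) (kg xg12 yg21 zg1) (kg xg12 yg21 zg2) (kg xg14 yg25 zg47) (kg xg12 yg21 zg31) (kg xg12 yg5 zg18) (kg xg14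 yg23 zg9) (kg xg12 yg5 zg19) (kg xg12 yg5 zg20) (kg xg12 yg5 zg12) (kg xg15 yg1 zg6) (kg xg12 yg5 zg23) (kg xg12 yg5 zg24) (kg xg14 yg25 zg29) (kg xg12 yg5 zg16) (kg xg15 yg1 zg11) (kg xg12 yg5 zg28) (kg xg15 yg1 zg2) (kg xg15 yg1 zg4) (kg xg15 yg1 zg5) (kg xg12 yg5 zg22) (kg xg15 yg1 zg16) (kg xg15 yg1 zg8) (kg xg15 yg1 zg9)) (@D3.rec (fun _ => Pt) (kg xg13 yg1 zg41) (kg xg12 yg5 zg27) (kg xg15 yg1 zg22) (kg xg15 yg1 zg13) (kg xg14 yg26 zg25) (kg xg12 yg21 zg39) (kg xg14 yg26 zg22) (kg xg12 yg5 zg33) (kg xg15 yg1 zg24) (kg xg12 yg5 zg38) (kg xg12 yg5 zg37) (kg xg15 yg1 zg28) (kg xg15 yg1 zg27) (kg xg14 yg18 zg34) (kg xg14 yg18 zg41) (kg xg14 yg24 zg41) (kg xg14 yg21 zg25) (kg xg12 yg7 zg44) (kg xg12 yg22 zg48) (kg xg12 yg22 zg49) (kg xg12 yg22 zg50) (kg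 xg12 yg23 zg0) (kg xg12 yg23 zg1) (kg xg12 yg23 zg2) (kg xg12 yg23 zg3) (kg xg12 yg23 zg4) (kg xg12 yg19 zg11) (kg xg12 yg21 zg11) (kg xg12 yg6 zg3) (kg xg12 yg6 zg4) (kg xg12 yg6 zg5) (kg xg12 yg23 zg17) (kg xg12 yg23 zg18) (kg xg12 yg23 zg20) (kg xg12 yg6 zg18) (kg xg15 yg1 zg47) (kg xg12 yg6 zg21) (kg xg12 yg6 zg23) (kg xg14 yg25 zg12) (kg xg14 yg25 zg13) (kg xg12 yg16 zg26) (kg xg12 yg16 zg16) (kg xg12 yg16 zg29) (kg xg13 yg19 zg43) (kg xg13 yg19 zg44) (kg xg12 yg6 zg31) (kg xg12 yg6 zg32) (kg xg15 yg2 zg5) (kg xg12 yg6 zg34) (kg xg12 yg6 zg35) (kg xg15 yg2 zg7)) (@D3.rec (fun _ => Pt) (kg xg15 yg2 zg8) (kg xg14 yg17 zg48) (kg xg12 yg23 zg29) (kg xg12 yg23 zg30) (kg xg13 yg20 zg4) (kg xg13 yg20 zg5) (kg xg14 yg18 zg3) (kg xg12 yg6 zg43) (kg xg15 yg2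 zg15) (kg xg13 yg20 zg9) (kg xg14 yg18 zg7) (kg xg12 yg6 zg48) (kg xg14 yg17 zg35) (kg xg14 yg17 zg36) (kg xg12 yg7 zg25) (kg xg12 yg23 zg32) (kg xg12 yg23 zg33) (kg xg12 yg7 zg3) (kg xg12 yg7 zg4) (kg xg15 yg2 zg25) (kg xg15 yg2 zg26) (kg xg14 yg17 zg46) (kg xg12 yg23 zg39) (kg xg12 yg23 zg40) (kg xg14 yg23 zg39) (kg xg13 yg20 zg25) (kg xg13 yg20 zg26) (kg xg14 yg17 zg47) (kg xg12 yg7 zg12) (kg xg15 yg2 zg35) (kg xg12 yg7 zg15) (kg xg12 yg7 zg16) (kg xg12 yg7 zg17) (kg xg15 yg2 zg36) (kg xg15 yg2 zg37) (kg xg15 yg2 zg20) (kg xg15 yg2 zg39) (kg xg15 yg2 zg40) (kg xg12 yg24 zg3) (kg xg12 yg24 zg4) (kg xg12 yg24 zg5) (kg xg14 yg17 zg37) (kg xg12 yg24 zg7) (kg xg12 yg24 zg8) (kg xg12 yg7 zg21) (kg xg15 yg3 zg0) (kg xg12 yg24 zg10) (kg xg13 yg20 zg47) (kg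 xg15 yg2 zg21) (kg xg13 yg20 zg49) (kg xg12 yg7 zg35)) (@D3.rec (fun _ => Pt) (kg xg14 yg17 zg38) (kg xg12 yg7 zg36) (kg xg15 yg1 zg33) (kg xg12 yg7 zg33) (kg xg15 yg3 zg7) (kg xg12 yg7 zg40) (kg xg13 yg21 zg6) (kg xg12 yg7 zg39) (kg xg15 yg3 zg11) (kg xg15 yg3 zg9) (kg xg12 yg7 zg42) (kg xg15 yg3 zg12) (kg xg13 yg21 zg12) (kg xg15 yg1 zg34) (kg xg12 yg7 zg46) (kg xg15 yg3 zg15) (kg xg12 yg8 zg0) (kg xg13 yg21 zg17) (kg xg12 yg7 zg50) (kg xg12 yg8 zg4) (kg xg12 yg24 zg35) (kg xg12 yg24 zg30) (kg xg12 yg24 zg31) (kg xg12 yg23 zg38) (kg xg12 yg23 zg43) (kg xg13 yg21 zg25) (kg xg12 yg8 zg15) (kg xg12 yg8 zg17) (kg xg12 yg8 zg18) (kg xg15 yg1 zg36) (kg xg15 yg3 zg25) (kg xg15 yg3 zg26) (kg xg12 yg24 zg6) (kg xg12 yg24 zg22) (kg xg12 yg24 zg9) (kg xg12 yg24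 zg24) (kg xg13 yg21 zg36) (kg xg13 yg21 zg37) (kg xg12 yg8 zg26) (kg xg15 yg3 zg36) (kg xg12 yg23 zg48) (kg xg12 yg24 zg29) (kg xg12 yg24 zg39) (kg xg12 yg24 zg40) (kg xg12 yg24 zg41) (kg xg12 yg8 zg31) (kg xg12 yg8 zg32) (kg xg15 yg3 zg44) (kg xg15 yg3 zg45) (kg xg14 yg16 zg24) (kg xg12 yg24 zg44)) (@D3.rec (fun _ => Pt) (kg xg12 yg24 zg45) (kg xg15 yg4 zg0) (kg xg13 yg22 zg2) (kg xg13 yg22 zg3) (kg xg14 yg16 zg32) (kg xg12 yg8 zg40) (kg xg15 yg4 zg4) (kg xg12 yg8 zg43) (kg xg12 yg8 zg44) (kg xg12 yg8 zg45) (kg xg15 yg4 zg6) (kg xg15 yg4 zg7) (kg xg15 yg4 zg15) (kg xg15 yg4 zg9) (kg xg15 yg4 zg10) (kg xg12 yg25 zg5) (kg xg12 yg25 zg6) (kg xg12 yg25 zg7) (kg xg14 yg16 zg46) (kg xg12 yg25 zg8) (kg xg12 yg25 zg9) (kg xg14 yg16 zg49) (kg xg12 yg25 zg10) (kg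 xg15 yg4 zg28) (kg xg13 yg22 zg24) (kg xg13 yg22 zg25) (kg xg12 yg9 zg3) (kg xg15 yg4 zg31) (kg xg13 yg22 zg28) (kg xg12 yg9 zg12) (kg xg14 yg17 zg7) (kg xg12 yg9 zg13) (kg xg14 yg17 zg10) (kg xg12 yg9 zg14) (kg xg15 yg4 zg35) (kg xg15 yg4 zg37) (kg xg12 yg9 zg16) (kg xg15 yg4 zg39) (kg xg13 yg22 zg38) (kg xg14 yg17 zg19) (kg xg12 yg9 zg20) (kg xg12 yg9 zg24) (kg xg12 yg9 zg25) (kg xg12 yg9 zg26) (kg xg14 yg20 zg28) (kg xg15 yg4 zg44) (kg xg12 yg12 zg37) (kg xg12 yg25 zg20) (kg xg12 yg25 zg21) (kg xg12 yg25 zg22) (kg xg12 yg25 zg23)) (@D3.rec (fun _ => Pt) (kg xg12 yg25 zg24) (kg xg12 yg9 zg34) (kg xg12 yg9 zg35) (kg xg14 yg21 zg7) (kg xg15 yg5 zg1) (kg xg15 yg5 zg2) (kg xg12 yg25 zg26) (kg xg12 yg25 zg27) (kg xg12 yg25 zg28) (kg xg15 yg5 zg16) (kg xg12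 yg25 zg29) (kg xg12 yg25 zg30) (kg xg12 yg9 zg41) (kg xg12 yg9 zg42) (kg xg12 yg9 zg43) (kg xg15 yg4 zg46) (kg xg15 yg5 zg19) (kg xg15 yg5 zg20) (kg xg15 yg5 zg29) (kg xg15 yg5 zg22) (kg xg15 yg5 zg23) (kg xg12 yg25 zg40) (kg xg12 yg25 zg41) (kg xg12 yg25 zg42) (kg xg15 yg5 zg38) (kg xg12 yg25 zg44) (kg xg12 yg25 zg45) (kg xg12 yg9 zg47) (kg xg15 yg5 zg42) (kg xg12 yg25 zg48) (kg xg13 yg23 zg30) (kg xg15 yg5 zg46) (kg xg13 yg23 zg32) (kg xg13 yg23 zg33) (kg xg12 yg10 zg2) (kg xg15 yg5 zg50) (kg xg13 yg23 zg36) (kg xg12 yg10 zg12) (kg xg12 yg10 zg6) (kg xg15 yg6 zg3) (kg xg12 yg10 zg15) (kg xg15 yg5 zg49) (kg xg12 yg10 zg10) (kg xg15 yg6 zg7) (kg xg12 yg10 zg19) (kg xg13 yg23 zg45) (kg xg12 yg10 zg14) (kg xg15 yg6 zg11) (kg xg15 yg6 zg5) (kg xg13 yg23 zg49)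 (kg xg12 yg10 zg18)) (@D3.rec (fun _ => Pt) (kg xg15 yg6 zg13) (kg xg15 yg6 zg9) (kg xg12 yg10 zg23) (kg xg12 yg10 zg24) (kg xg12 yg10 zg25) (kg xg15 yg6 zg22) (kg xg12 yg10 zg27) (kg xg12 yg10 zg28) (kg xg13 yg1 zg12) (kg xg15 yg6 zg16) (kg xg15 yg6 zg17) (kg xg15 yg6 zg18) (kg xg15 yg6 zg34) (kg xg15 yg6 zg20) (kg xg15 yg6 zg21) (kg xg12 yg10 zg26) (kg xg15 yg6 zg39) (kg xg15 yg6 zg24) (kg xg12 yg26 zg36) (kg xg12 yg26 zg37) (kg xg12 yg26 zg38) (kg xg15 yg6 zg46) (kg xg12 yg26 zg40) (kg xg12 yg26 zg41) (kg xg15 yg6 zg50) (kg xg12 yg26 zg43) (kg xg12 yg26 zg44) (kg xg12 yg10 zg33) (kg xg15 yg7 zg5) (kg xg12 yg26 zg47) (kg xg12 yg26 zg48) (kg xg15 yg6 zg38) (kg xg12 yg10 zg37) (kg xg15 yg7 zg10) (kg xg13 yg0 zg1) (kg xg13 yg24 zg35) (kg xg15 yg4 zg48)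 (kg xg13 yg24 zg37) (kg xg13 yg24 zg38) (kg xg12 yg10 zg42) (kg xg15 yg7 zg18) (kg xg13 yg24 zg41) (kg xg13 yg24 zg42) (kg xg12 yg11 zg5) (kg xg12 yg10 zg46) (kg xg15 yg7 zg23) (kg xg13 yg24 zg46) (kg xg12 yg11 zg9) (kg xg12 yg10 zg49) (kg xg15 yg7 zg27) (kg xg12 yg11 zg12)) (@D3.rec (fun _ => Pt) (kg xg12 yg11 zg13) (kg xg15 yg7 zg17) (kg xg12 yg11 zg2) (kg xg15 yg7 zg31) (kg xg12 yg11 zg17) (kg xg12 yg11 zg18) (kg xg15 yg7 zg22) (kg xg12 yg11 zg7) (kg xg15 yg7 zg37) (kg xg12 yg11 zg22) (kg xg13 yg25 zg10) (kg xg12 yg11 zg11) (kg xg15 yg7 zg42) (kg xg15 yg7 zg29) (kg xg13 yg25 zg14) (kg xg12 yg11 zg16) (kg xg15 yg7 zg44) (kg xg15 yg7 zg33) (kg xg15 yg7 zg34) (kg xg13 yg25 zg19) (kg xg12 yg11 zg21) (kg xg15 yg7 zg47) (kg xg15 yg7 zg40) (kg xg12 yg11 zg27)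 (kg xg12 yg11 zg25) (kg xg15 yg7 zg50) (kg xg13 yg25 zg26) (kg xg15 yg7 zg49) (kg xg12 yg11 zg29) (kg xg15 yg8 zg4) (kg xg15 yg8 zg5) (kg xg12 yg11 zg34) (kg xg13 yg25 zg32) (kg xg12 yg11 zg33) (kg xg15 yg8 zg8) (kg xg12 yg11 zg42) (kg xg12 yg11 zg43) (kg xg12 yg11 zg44) (kg xg12 yg11 zg45) (kg xg13 yg1 zg13) (kg xg12 yg12 zg48) (kg xg12 yg24 zg50) (kg xg15 yg8 zg10) (kg xg15 yg8 zg11) (kg xg12 yg12 zg38) (kg xg12 yg25 zg19) (kg xg13 yg0 zg39) (kg xg13 yg0 zg38) (kg xg13 yg0 zg40) (kg xg13 yg0 zg41) (kg xg12 yg26 zg28)) (@D3.rec (fun _ => Pt) (kg xg13 yg0 zg42) (kg xg12 yg18 zg43) (kg xg13 yg26 zg2) (kg xg13 yg26 zg3) (kg xg13 yg26 zg4) (kg xg14 yg16 zg23) (kg xg12 yg12 zg20) (kg xg13 yg0 zg45) (kg xg13 yg0 zg46) (kg xg13 yg0 zg47) (kg xg13 yg0 zg48) (kg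 xg13 yg2 zg42) (kg xg14 yg21 zg8) (kg xg14 yg21 zg26) (kg xg13 yg1 zg3) (kg xg13 yg1 zg4) (kg xg13 yg1 zg5) (kg xg13 yg1 zg6) (kg xg13 yg1 zg7) (kg xg13 yg1 zg8) (kg xg13 yg1 zg9) (kg xg15 yg4 zg47) (kg xg13 yg1 zg14) (kg xg13 yg1 zg15) (kg xg13 yg1 zg16) (kg xg13 yg1 zg17) (kg xg13 yg1 zg18) (kg xg13 yg1 zg20) (kg xg12 yg25 zg18) (kg xg15 yg6 zg27) (kg xg12 yg26 zg29) (kg xg13 yg1 zg11) (kg xg12 yg25 zg34) (kg xg12 yg17 zg42) (kg xg12 yg26 zg27) (kg xg14 yg16 zg22) (kg xg12 yg13 zg13) (kg xg12 yg19 zg24) (kg xg12 yg19 zg31) (kg xg14 yg14 zg23) (kg xg12 yg13 zg22) (kg xg12 yg19 zg37) (kg xg14 yg21 zg44) (kg xg14 yg21 zg40) (kg xg12 yg19 zg38) (kg xg14 yg22 zg27) (kg xg14 yg14 zg34) (kg xg14 yg14 zg35) (kg xg12 yg13 zg29) (kg xg14 yg15 zg33) (kg xg14 yg14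 zg45))
def f_g_14 : D2 → D3 → Pt := @D2.rec (fun _ => D3 → Pt) (@D3.rec (fun _ => Pt) (kg xg14 yg14 zg46) (kg xg14 yg14 zg49) (kg xg14 yg15 zg18) (kg xg14 yg15 zg19) (kg xg12 yg13 zg38) (kg xg14 yg23 zg3) (kg xg14 yg15 zg23) (kg xg14 yg15 zg24) (kg xg14 yg23 zg4) (kg xg12 yg13 zg44) (kg xg14 yg15 zg31) (kg xg14 yg15 zg32) (kg xg12 yg14 zg1) (kg xg15 yg9 zg0) (kg xg12 yg14 zg6) (kg xg12 yg14 zg7) (kg xg14 yg14 zg40) (kg xg14 yg14 zg41) (kg xg15 yg9 zg1) (kg xg15 yg9 zg2) (kg xg12 yg20 zg38) (kg xg12 yg20 zg39) (kg xg12 yg15 zg9) (kg xg15 yg9 zg11) (kg xg14 yg15 zg42) (kg xg14 yg15 zg43) (kg xg12 yg14 zg11) (kg xg15 yg9 zg14) (kg xg14 yg15 zg46) (kg xg12 yg21 zg48) (kg xg12 yg21 zg50) (kg xg14 yg23 zg14) (kg xg12 yg14 zg25) (kg xg12 yg14 zg26) (kg xg12 yg14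 zg19) (kg xg15 yg9 zg20) (kg xg12 yg14 zg29) (kg xg12 yg14 zg30) (kg xg12 yg14 zg23) (kg xg15 yg9 zg23) (kg xg15 yg9 zg19) (kg xg12 yg14 zg28) (kg xg15 yg9 zg25) (kg xg15 yg9 zg22) (kg xg13 yg1 zg40) (kg xg12 yg14 zg33) (kg xg12 yg15 zg10) (kg xg12 yg14 zg49) (kg xg12 yg14 zg50) (kg xg14 yg16 zg14) (kg xg14 yg16 zg15)) (@D3.rec (fun _ => Pt) (kg xg14 yg16 zg16) (kg xg14 yg18 zg9) (kg xg14 yg18 zg10) (kg xg14 yg16 zg25) (kg xg14 yg16 zg26) (kg xg14 yg1 zg5) (kg xg15 yg9 zg10) (kg xg15 yg9 zg28) (kg xg12 yg17 zg26) (kg xg14 yg16 zg43) (kg xg14 yg16 zg44) (kg xg14 yg16 zg47) (kg xg14 yg16 zg48) (kg xg14 yg16 zg50) (kg xg14 yg1 zg14) (kg xg14 yg1 zg15) (kg xg14 yg1 zg16) (kg xg12 yg15 zg22) (kg xg12 yg15 zg23) (kg xg12 yg15 zg24) (kg xg15 yg9 zg47) (kg xg15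 yg9 zg48) (kg xg13 yg1 zg0) (kg xg14 yg17 zg25) (kg xg14 yg17 zg29) (kg xg14 yg1 zg25) (kg xg14 yg1 zg26) (kg xg14 yg1 zg27) (kg xg12 yg15 zg34) (kg xg12 yg15 zg35) (kg xg12 yg15 zg36) (kg xg13 yg1 zg2) (kg xg14 yg17 zg34) (kg xg14 yg1 zg33) (kg xg14 yg23 zg40) (kg xg14 yg23 zg41) (kg xg14 yg17 zg49) (kg xg14 yg17 zg50) (kg xg14 yg1 zg38) (kg xg14 yg18 zg13) (kg xg14 yg18 zg14) (kg xg14 yg18 zg16) (kg xg14 yg18 zg17) (kg xg14 yg1 zg43) (kg xg14 yg1 zg44) (kg xg12 yg16 zg7) (kg xg15 yg10 zg13) (kg xg12 yg16 zg10) (kg xg12 yg16 zg11) (kg xg12 yg16 zg12) (kg xg15 yg10 zg14)) (@D3.rec (fun _ => Pt) (kg xg15 yg10 zg15) (kg xg15 yg10 zg16) (kg xg14 yg25 zg15) (kg xg15 yg10 zg18) (kg xg15 yg10 zg19) (kg xg13 yg1 zg21) (kg xg13 yg0 zg44) (kg xg12 yg26 zg30) (kg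 xg15 yg1 zg50) (kg xg14 yg18 zg28) (kg xg14 yg18 zg29) (kg xg15 yg2 zg1) (kg xg14 yg18 zg32) (kg xg14 yg2 zg13) (kg xg14 yg25 zg14) (kg xg14 yg2 zg15) (kg xg14 yg2 zg16) (kg xg14 yg25 zg16) (kg xg14 yg2 zg18) (kg xg12 yg16 zg31) (kg xg15 yg2 zg0) (kg xg12 yg16 zg32) (kg xg12 yg16 zg33) (kg xg15 yg2 zg2) (kg xg15 yg10 zg43) (kg xg15 yg10 zg45) (kg xg15 yg10 zg46) (kg xg12 yg16 zg37) (kg xg12 yg16 zg39) (kg xg12 yg16 zg41) (kg xg15 yg10 zg48) (kg xg13 yg0 zg20) (kg xg13 yg3 zg0) (kg xg15 yg10 zg49) (kg xg13 yg2 zg40) (kg xg13 yg2 zg25) (kg xg13 yg0 zg4) (kg xg13 yg2 zg43) (kg xg13 yg3 zg4) (kg xg13 yg0 zg7) (kg xg13 yg2 zg44) (kg xg14 yg18 zg46) (kg xg14 yg2 zg42) (kg xg14 yg2 zg43) (kg xg14 yg2 zg44) (kg xg12 yg17 zg4) (kg xg12 yg17 zg5) (kg xg12 yg17 zg6)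 (kg xg15 yg11 zg13) (kg xg14 yg18 zg50) (kg xg14 yg19 zg0)) (@D3.rec (fun _ => Pt) (kg xg14 yg19 zg1) (kg xg14 yg19 zg3) (kg xg14 yg19 zg4) (kg xg12 yg17 zg12) (kg xg12 yg17 zg13) (kg xg12 yg17 zg14) (kg xg15 yg8 zg35) (kg xg15 yg11 zg22) (kg xg15 yg11 zg23) (kg xg15 yg11 zg24) (kg xg15 yg11 zg25) (kg xg14 yg19 zg13) (kg xg14 yg19 zg14) (kg xg14 yg19 zg15) (kg xg15 yg9 zg37) (kg xg14 yg19 zg17) (kg xg14 yg19 zg18) (kg xg12 yg17 zg18) (kg xg15 yg11 zg42) (kg xg14 yg19 zg21) (kg xg14 yg3 zg20) (kg xg14 yg3 zg21) (kg xg13 yg0 zg13) (kg xg12 yg17 zg32) (kg xg12 yg17 zg33) (kg xg15 yg9 zg38) (kg xg12 yg17 zg34) (kg xg12 yg17 zg35) (kg xg12 yg17 zg30) (kg xg15 yg12 zg0) (kg xg15 yg11 zg48) (kg xg15 yg11 zg49) (kg xg14 yg3 zg32) (kg xg12 yg17 zg38) (kg xg12 yg17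 zg43) (kg xg12 yg17 zg44) (kg xg14 yg26 zg38) (kg xg12 yg17 zg46) (kg xg12 yg17 zg47) (kg xg15 yg8 zg37) (kg xg15 yg8 zg19) (kg xg14 yg16 zg38) (kg xg14 yg26 zg36) (kg xg15 yg12 zg3) (kg xg15 yg12 zg4) (kg xg14 yg26 zg39) (kg xg15 yg12 zg6) (kg xg14 yg20 zg1) (kg xg14 yg20 zg2) (kg xg14 yg20 zg3) (kg xg15 yg12 zg24)) (@D3.rec (fun _ => Pt) (kg xg14 yg20 zg5) (kg xg14 yg20 zg6) (kg xg15 yg12 zg28) (kg xg14 yg20 zg7) (kg xg14 yg20 zg8) (kg xg12 yg18 zg1) (kg xg15 yg12 zg34) (kg xg14 yg20 zg11) (kg xg14 yg20 zg12) (kg xg14 yg26 zg33) (kg xg12 yg18 zg5) (kg xg15 yg12 zg39) (kg xg14 yg20 zg16) (kg xg14 yg4 zg13) (kg xg14 yg4 zg14) (kg xg14 yg26 zg35) (kg xg14 yg4 zg16) (kg xg14 yg4 zg17) (kg xg14 yg26 zg37) (kg xg14 yg4 zg19) (kg xg14 yg4 zg20) (kg xg14 yg26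 zg40) (kg xg12 yg26 zg5) (kg xg12 yg18 zg27) (kg xg12 yg18 zg28) (kg xg12 yg18 zg17) (kg xg15 yg13 zg2) (kg xg12 yg18 zg31) (kg xg12 yg18 zg32) (kg xg14 yg26 zg32) (kg xg12 yg18 zg21) (kg xg15 yg13 zg6) (kg xg12 yg18 zg36) (kg xg12 yg18 zg37) (kg xg14 yg26 zg34) (kg xg12 yg18 zg26) (kg xg15 yg13 zg1) (kg xg14 yg4 zg37) (kg xg12 yg18 zg30) (kg xg15 yg13 zg12) (kg xg15 yg13 zg4) (kg xg14 yg4 zg41) (kg xg12 yg18 zg35) (kg xg15 yg13 zg14) (kg xg14 yg4 zg44) (kg xg12 yg18 zg46) (kg xg15 yg1 zg44) (kg xg14 yg16 zg19) (kg xg14 yg16 zg39) (kg xg14 yg17 zg22) (kg xg15 yg13 zg15)) (@D3.rec (fun _ => Pt) (kg xg14 yg21 zg9) (kg xg14 yg21 zg10) (kg xg14 yg21 zg11) (kg xg14 yg21 zg12) (kg xg14 yg21 zg13) (kg xg14 yg21 zg14) (kg xg14 yg21 zg15) (kg xg14 yg21 zg16) (kg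 xg14 yg21 zg17) (kg xg14 yg5 zg9) (kg xg14 yg5 zg10) (kg xg14 yg5 zg11) (kg xg15 yg8 zg6) (kg xg12 yg19 zg28) (kg xg12 yg19 zg20) (kg xg14 yg22 zg40) (kg xg14 yg22 zg23) (kg xg14 yg14 zg33) (kg xg14 yg22 zg31) (kg xg14 yg22 zg41) (kg xg14 yg22 zg42) (kg xg14 yg22 zg49) (kg xg14 yg14 zg28) (kg xg14 yg22 zg14) (kg xg14 yg14 zg31) (kg xg14 yg14 zg25) (kg xg15 yg8 zg39) (kg xg15 yg8 zg41) (kg xg14 yg21 zg46) (kg xg14 yg22 zg36) (kg xg12 yg19 zg46) (kg xg12 yg19 zg49) (kg xg14 yg21 zg48) (kg xg14 yg14 zg26) (kg xg15 yg13 zg43) (kg xg14 yg14 zg19) (kg xg12 yg20 zg0) (kg xg14 yg22 zg47) (kg xg14 yg22 zg1) (kg xg12 yg20 zg6) (kg xg14 yg21 zg50) (kg xg14 yg14 zg32) (kg xg14 yg22 zg25) (kg xg14 yg23 zg10) (kg xg14 yg23 zg11) (kg xg12 yg20 zg12) (kg xg14 yg24 zg48)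 (kg xg14 yg24 zg49) (kg xg14 yg23 zg23) (kg xg14 yg23 zg24) (kg xg14 yg23 zg26)) (@D3.rec (fun _ => Pt) (kg xg14 yg23 zg27) (kg xg12 yg20 zg37) (kg xg12 yg20 zg21) (kg xg15 yg14 zg3) (kg xg14 yg15 zg12) (kg xg14 yg23 zg37) (kg xg12 yg20 zg28) (kg xg12 yg20 zg29) (kg xg15 yg14 zg7) (kg xg15 yg14 zg8) (kg xg14 yg23 zg45) (kg xg14 yg23 zg46) (kg xg14 yg23 zg48) (kg xg14 yg23 zg49) (kg xg12 yg20 zg36) (kg xg15 yg0 zg6) (kg xg15 yg14 zg13) (kg xg15 yg9 zg7) (kg xg15 yg9 zg8) (kg xg14 yg24 zg17) (kg xg14 yg25 zg3) (kg xg14 yg24 zg18) (kg xg14 yg24 zg19) (kg xg14 yg25 zg5) (kg xg14 yg24 zg22) (kg xg14 yg25 zg4) (kg xg12 yg21 zg3) (kg xg12 yg21 zg4) (kg xg14 yg25 zg6) (kg xg14 yg26 zg2) (kg xg15 yg0 zg49) (kg xg15 yg0 zg50) (kg xg15 yg14 zg26) (kg xg15 yg14 zg27)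 (kg xg12 yg24 zg13) (kg xg14 yg24 zg42) (kg xg14 yg24 zg43) (kg xg14 yg24 zg44) (kg xg12 yg21 zg12) (kg xg15 yg14 zg36) (kg xg14 yg25 zg21) (kg xg14 yg25 zg22) (kg xg14 yg25 zg24) (kg xg14 yg25 zg25) (kg xg12 yg21 zg19) (kg xg15 yg0 zg8) (kg xg15 yg14 zg41) (kg xg12 yg21 zg22) (kg xg12 yg21 zg23) (kg xg15 yg14 zg43) (kg xg15 yg14 zg44)) (@D3.rec (fun _ => Pt) (kg xg14 yg25 zg49) (kg xg14 yg25 zg50) (kg xg14 yg26 zg1) (kg xg12 yg21 zg32) (kg xg14 yg26 zg4) (kg xg15 yg1 zg1) (kg xg15 yg14 zg49) (kg xg12 yg21 zg34) (kg xg14 yg26 zg26) (kg xg12 yg21 zg40) (kg xg14 yg26 zg48) (kg xg14 yg26 zg49) (kg xg14 yg26 zg50) (kg xg15 yg0 zg1) (kg xg15 yg0 zg2) (kg xg15 yg0 zg5) (kg xg12 yg21 zg49) (kg xg12 yg22 zg0) (kg xg15 yg9 zg17) (kg xg15 yg15 zg8) (kg xg15 yg15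 zg9) (kg xg12 yg22 zg5) (kg xg12 yg22 zg6) (kg xg14 yg15 zg30) (kg xg12 yg22 zg7) (kg xg12 yg22 zg8) (kg xg14 yg23 zg25) (kg xg14 yg23 zg30) (kg xg15 yg15 zg11) (kg xg15 yg15 zg12) (kg xg15 yg15 zg14) (kg xg15 yg0 zg31) (kg xg15 yg0 zg32) (kg xg15 yg0 zg33) (kg xg14 yg23 zg42) (kg xg15 yg0 zg35) (kg xg15 yg0 zg36) (kg xg15 yg0 zg38) (kg xg15 yg0 zg39) (kg xg12 yg22 zg13) (kg xg15 yg15 zg28) (kg xg15 yg0 zg42) (kg xg15 yg0 zg43) (kg xg14 yg15 zg28) (kg xg12 yg22 zg17) (kg xg15 yg15 zg33) (kg xg15 yg0 zg47) (kg xg14 yg15 zg21) (kg xg14 yg15 zg27) (kg xg12 yg22 zg33) (kg xg14 yg23 zg43)) (@D3.rec (fun _ => Pt) (kg xg12 yg22 zg35) (kg xg12 yg22 zg36) (kg xg12 yg22 zg26) (kg xg15 yg15 zg41) (kg xg12 yg22 zg39) (kg xg12 yg22 zg40) (kg xg14 yg15 zg29) (kg xg12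 yg22 zg31) (kg xg14 yg25 zg7) (kg xg15 yg15 zg37) (kg xg14 yg23 zg50) (kg xg15 yg9 zg27) (kg xg15 yg15 zg39) (kg xg15 yg15 zg40) (kg xg12 yg22 zg38) (kg xg15 yg1 zg21) (kg xg15 yg15 zg44) (kg xg12 yg22 zg47) (kg xg14 yg23 zg35) (kg xg15 yg15 zg45) (kg xg15 yg1 zg35) (kg xg15 yg1 zg37) (kg xg15 yg1 zg38) (kg xg15 yg1 zg39) (kg xg15 yg1 zg40) (kg xg15 yg1 zg41) (kg xg15 yg1 zg42) (kg xg15 yg1 zg43) (kg xg14 yg15 zg22) (kg xg12 yg23 zg10) (kg xg12 yg23 zg11) (kg xg12 yg23 zg12) (kg xg15 yg16 zg6) (kg xg12 yg23 zg13) (kg xg14 yg23 zg0) (kg xg15 yg1 zg46) (kg xg12 yg23 zg27) (kg xg12 yg23 zg28) (kg xg15 yg16 zg8) (kg xg15 yg16 zg9) (kg xg15 yg2 zg12) (kg xg15 yg2 zg23) (kg xg15 yg2 zg24) (kg xg12 yg23 zg36) (kg xg12 yg23 zg37) (kg xg15 yg16 zg13) (kg xg15 yg16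 zg14) (kg xg15 yg3 zg22) (kg xg15 yg2 zg31) (kg xg14 yg8 zg49) (kg xg15 yg3 zg23)) (@D3.rec (fun _ => Pt) (kg xg12 yg23 zg49) (kg xg12 yg23 zg50) (kg xg15 yg16 zg21) (kg xg12 yg24 zg1) (kg xg12 yg24 zg2) (kg xg15 yg3 zg37) (kg xg15 yg3 zg38) (kg xg15 yg3 zg20) (kg xg15 yg14 zg18) (kg xg15 yg16 zg19) (kg xg15 yg16 zg20) (kg xg12 yg24 zg0) (kg xg15 yg16 zg31) (kg xg15 yg16 zg23) (kg xg12 yg24 zg42) (kg xg14 yg18 zg15) (kg xg15 yg2 zg45) (kg xg15 yg2 zg46) (kg xg15 yg3 zg31) (kg xg15 yg2 zg47) (kg xg15 yg3 zg32) (kg xg15 yg2 zg49) (kg xg15 yg3 zg34) (kg xg15 yg3 zg2) (kg xg15 yg1 zg29) (kg xg14 yg9 zg25) (kg xg14 yg9 zg26) (kg xg15 yg14 zg31) (kg xg14 yg9 zg28) (kg xg12 yg24 zg17) (kg xg15 yg16 zg48) (kg xg14 yg18 zg20) (kg xg12 yg24 zg25) (kg xg15 yg3 zg33)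 (kg xg12 yg24 zg26) (kg xg15 yg16 zg50) (kg xg15 yg3 zg21) (kg xg12 yg24 zg43) (kg xg15 yg3 zg19) (kg xg15 yg3 zg39) (kg xg15 yg3 zg40) (kg xg15 yg3 zg42) (kg xg15 yg3 zg43) (kg xg15 yg16 zg35) (kg xg15 yg17 zg2) (kg xg15 yg3 zg50) (kg xg12 yg25 zg0) (kg xg12 yg25 zg1) (kg xg15 yg9 zg9) (kg xg12 yg25 zg2) (kg xg12 yg25 zg3)) (@D3.rec (fun _ => Pt) (kg xg15 yg6 zg32) (kg xg15 yg8 zg12) (kg xg15 yg17 zg8) (kg xg15 yg17 zg9) (kg xg15 yg17 zg11) (kg xg14 yg19 zg16) (kg xg14 yg19 zg28) (kg xg15 yg4 zg18) (kg xg15 yg4 zg19) (kg xg15 yg4 zg20) (kg xg15 yg4 zg22) (kg xg15 yg4 zg23) (kg xg15 yg4 zg25) (kg xg15 yg4 zg27) (kg xg14 yg10 zg14) (kg xg14 yg10 zg15) (kg xg12 yg25 zg16) (kg xg15 yg4 zg49) (kg xg15 yg4 zg50) (kg xg15 yg5 zg0) (kg xg15 yg5 zg9) (kg xg15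 yg5 zg10) (kg xg15 yg5 zg11) (kg xg15 yg5 zg12) (kg xg15 yg5 zg14) (kg xg15 yg5 zg15) (kg xg15 yg5 zg18) (kg xg12 yg25 zg35) (kg xg12 yg25 zg36) (kg xg14 yg19 zg2) (kg xg12 yg25 zg37) (kg xg12 yg25 zg38) (kg xg15 yg8 zg36) (kg xg15 yg8 zg34) (kg xg15 yg6 zg25) (kg xg15 yg17 zg38) (kg xg15 yg17 zg39) (kg xg15 yg17 zg41) (kg xg14 yg20 zg4) (kg xg14 yg20 zg25) (kg xg15 yg5 zg32) (kg xg15 yg12 zg18) (kg xg15 yg5 zg33) (kg xg15 yg5 zg34) (kg xg15 yg18 zg3) (kg xg15 yg5 zg36) (kg xg15 yg5 zg37) (kg xg12 yg25 zg43) (kg xg15 yg18 zg9) (kg xg15 yg5 zg40) (kg xg14 yg18 zg48)) (@D3.rec (fun _ => Pt) (kg xg12 yg25 zg47) (kg xg15 yg18 zg13) (kg xg15 yg5 zg44) (kg xg14 yg11 zg3) (kg xg14 yg11 zg4) (kg xg14 yg11 zg5) (kg xg14 yg11 zg6) (kg xg12 yg26 zg14) (kg xg15 yg13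 zg0) (kg xg12 yg26 zg15) (kg xg14 yg18 zg47) (kg xg12 yg26 zg9) (kg xg15 yg18 zg22) (kg xg12 yg26 zg19) (kg xg14 yg18 zg49) (kg xg12 yg26 zg13) (kg xg15 yg18 zg20) (kg xg14 yg11 zg17) (kg xg12 yg26 zg18) (kg xg15 yg18 zg27) (kg xg14 yg11 zg20) (kg xg15 yg10 zg31) (kg xg12 yg26 zg31) (kg xg12 yg26 zg32) (kg xg12 yg26 zg24) (kg xg15 yg18 zg30) (kg xg12 yg26 zg35) (kg xg15 yg10 zg28) (kg xg15 yg8 zg20) (kg xg15 yg8 zg18) (kg xg15 yg8 zg16) (kg xg15 yg10 zg32) (kg xg15 yg18 zg29) (kg xg15 yg8 zg15) (kg xg12 yg26 zg49) (kg xg12 yg26 zg34) (kg xg15 yg18 zg40) (kg xg15 yg18 zg32) (kg xg15 yg11 zg33) (kg xg15 yg6 zg42) (kg xg15 yg6 zg43) (kg xg15 yg18 zg45) (kg xg15 yg6 zg45) (kg xg12 yg26 zg39) (kg xg15 yg18 zg47) (kg xg15 yg6 zg48) (kg xg15 yg6 zg49) (kg xg12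 yg26 zg42) (kg xg15 yg18 zg50) (kg xg15 yg19 zg0) (kg xg15 yg7 zg2)) (@D3.rec (fun _ => Pt) (kg xg15 yg7 zg3) (kg xg15 yg10 zg22) (kg xg12 yg26 zg46) (kg xg15 yg19 zg6) (kg xg15 yg7 zg7) (kg xg15 yg7 zg8) (kg xg15 yg18 zg39) (kg xg13 yg0 zg0) (kg xg15 yg19 zg12) (kg xg15 yg7 zg12) (kg xg15 yg5 zg3) (kg xg14 yg12 zg11) (kg xg14 yg12 zg12) (kg xg15 yg11 zg4) (kg xg14 yg12 zg14) (kg xg15 yg11 zg7) (kg xg14 yg12 zg16) (kg xg14 yg12 zg17) (kg xg13 yg0 zg25) (kg xg13 yg0 zg12) (kg xg15 yg11 zg47) (kg xg13 yg0 zg27) (kg xg13 yg0 zg17) (kg xg15 yg19 zg24) (kg xg13 yg0 zg31) (kg xg15 yg11 zg0) (kg xg13 yg0 zg22) (kg xg15 yg19 zg28) (kg xg13 yg0 zg35) (kg xg15 yg10 zg30) (kg xg15 yg19 zg22) (kg xg14 yg12 zg31) (kg xg13 yg0 zg30) (kg xg15 yg19 zg32) (kg xg15 yg19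 zg26) (kg xg14 yg12 zg35) (kg xg13 yg0 zg34) (kg xg15 yg8 zg17) (kg xg15 yg10 zg29) (kg xg15 yg19 zg34) (kg xg15 yg8 zg22) (kg xg13 yg2 zg26) (kg xg13 yg2 zg46) (kg xg14 yg19 zg44) (kg xg14 yg21 zg4) (kg xg15 yg9 zg49) (kg xg14 yg21 zg24) (kg xg15 yg8 zg25) (kg xg15 yg6 zg2) (kg xg15 yg8 zg26) (kg xg15 yg8 zg27)) (@D3.rec (fun _ => Pt) (kg xg15 yg7 zg26) (kg xg15 yg8 zg28) (kg xg15 yg8 zg29) (kg xg15 yg8 zg30) (kg xg15 yg6 zg26) (kg xg14 yg19 zg31) (kg xg15 yg8 zg31) (kg xg15 yg8 zg32) (kg xg15 yg8 zg33) (kg xg13 yg1 zg22) (kg xg15 yg14 zg5) (kg xg14 yg13 zg11) (kg xg14 yg13 zg12) (kg xg14 yg13 zg13) (kg xg14 yg13 zg14) (kg xg14 yg26 zg23) (kg xg13 yg1 zg50) (kg xg14 yg13 zg17) (kg xg14 yg13 zg18) (kg xg14 yg13 zg19) (kg xg14 yg13 zg20) (kg xg14 yg13 zg21)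 (kg xg14 yg13 zg22) (kg xg14 yg13 zg23) (kg xg15 yg11 zg3) (kg xg14 yg13 zg25) (kg xg14 yg13 zg26) (kg xg15 yg8 zg23) (kg xg15 yg19 zg36) (kg xg13 yg2 zg28) (kg xg15 yg20 zg5) (kg xg14 yg13 zg31) (kg xg13 yg2 zg31) (kg xg13 yg2 zg32) (kg xg15 yg20 zg7) (kg xg15 yg20 zg8) (kg xg14 yg13 zg36) (kg xg14 yg13 zg37) (kg xg13 yg2 zg36) (kg xg15 yg20 zg12) (kg xg14 yg13 zg40) (kg xg14 yg13 zg41) (kg xg15 yg11 zg5) (kg xg15 yg11 zg1) (kg xg14 yg13 zg44) (kg xg15 yg11 zg8) (kg xg15 yg19 zg37) (kg xg13 yg2 zg49) (kg xg15 yg20 zg19) (kg xg13 yg3 zg10) (kg xg13 yg3 zg2)) (@D3.rec (fun _ => Pt) (kg xg15 yg20 zg22) (kg xg15 yg11 zg6) (kg xg13 yg3 zg6) (kg xg13 yg3 zg9) (kg xg14 yg14 zg4) (kg xg14 yg14 zg5) (kg xg14 yg14 zg6) (kg xg14 yg14 zg7) (kg xg14 yg14 zg8) (kg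 xg14 yg14 zg9) (kg xg13 yg17 zg15) (kg xg13 yg3 zg38) (kg xg14 yg14 zg12) (kg xg13 yg3 zg44) (kg xg14 yg14 zg14) (kg xg14 yg14 zg15) (kg xg14 yg14 zg16) (kg xg13 yg4 zg2) (kg xg13 yg13 zg19) (kg xg14 yg5 zg35) (kg xg13 yg4 zg9) (kg xg13 yg4 zg10) (kg xg13 yg13 zg8) (kg xg13 yg26 zg39) (kg xg15 yg20 zg29) (kg xg14 yg5 zg25) (kg xg14 yg5 zg33) (kg xg13 yg4 zg19) (kg xg14 yg5 zg22) (kg xg13 yg4 zg23) (kg xg15 yg20 zg34) (kg xg14 yg5 zg24) (kg xg14 yg5 zg41) (kg xg14 yg5 zg17) (kg xg13 yg26 zg46) (kg xg13 yg26 zg47) (kg xg13 yg16 zg23) (kg xg13 yg4 zg34) (kg xg13 yg4 zg35) (kg xg15 yg20 zg42) (kg xg14 yg0 zg16) (kg xg14 yg0 zg17) (kg xg13 yg5 zg43) (kg xg13 yg5 zg44) (kg xg13 yg16 zg38) (kg xg13 yg26 zg50) (kg xg14 yg0 zg0) (kg xg13 yg17 zg49) (kg xg13 yg14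 zg19) (kg xg14 yg0 zg1) (kg xg13 yg4 zg49)) (@D3.rec (fun _ => Pt) (kg xg13 yg4 zg50) (kg xg13 yg5 zg0) (kg xg13 yg16 zg47) (kg xg13 yg5 zg1) (kg xg13 yg5 zg2) (kg xg13 yg16 zg50) (kg xg13 yg5 zg3) (kg xg15 yg21 zg3) (kg xg15 yg21 zg5) (kg xg15 yg21 zg6) (kg xg15 yg21 zg8) (kg xg15 yg21 zg10) (kg xg14 yg6 zg4) (kg xg13 yg17 zg10) (kg xg13 yg5 zg8) (kg xg15 yg21 zg15) (kg xg13 yg5 zg12) (kg xg13 yg15 zg47) (kg xg14 yg0 zg2) (kg xg14 yg0 zg3) (kg xg13 yg5 zg20) (kg xg14 yg7 zg47) (kg xg14 yg8 zg28) (kg xg14 yg0 zg6) (kg xg14 yg0 zg7) (kg xg13 yg5 zg26) (kg xg15 yg21 zg20) (kg xg14 yg7 zg48) (kg xg14 yg7 zg43) (kg xg14 yg8 zg6) (kg xg14 yg7 zg23) (kg xg14 yg0 zg10) (kg xg14 yg0 zg11) (kg xg13 yg26 zg49) (kg xg13 yg5 zg37) (kg xg15 yg21 zg25) (kg xg13 yg5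 zg42) (kg xg13 yg5 zg41) (kg xg15 yg21 zg28) (kg xg15 yg21 zg27) (kg xg15 yg20 zg48) (kg xg15 yg20 zg49) (kg xg14 yg0 zg24) (kg xg14 yg0 zg25) (kg xg13 yg5 zg47) (kg xg15 yg21 zg33) (kg xg14 yg0 zg28) (kg xg13 yg16 zg32) (kg xg13 yg6 zg2) (kg xg15 yg21 zg37) (kg xg13 yg6 zg11)) (@D3.rec (fun _ => Pt) (kg xg13 yg6 zg6) (kg xg15 yg21 zg40) (kg xg13 yg15 zg14) (kg xg13 yg6 zg10) (kg xg15 yg21 zg42) (kg xg15 yg21 zg39) (kg xg13 yg17 zg14) (kg xg13 yg6 zg14) (kg xg15 yg21 zg44) (kg xg13 yg6 zg19) (kg xg13 yg6 zg18) (kg xg15 yg21 zg47) (kg xg13 yg8 zg16) (kg xg13 yg8 zg17) (kg xg14 yg0 zg49) (kg xg14 yg0 zg50) (kg xg14 yg1 zg0) (kg xg13 yg6 zg24) (kg xg13 yg6 zg25) (kg xg14 yg4 zg47) (kg xg15 yg22 zg5) (kg xg15 yg22 zg6) (kg xg13 yg26 zg35) (kg xg13 yg26 zg5)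 (kg xg13 yg21 zg49) (kg xg14 yg1 zg3) (kg xg14 yg1 zg4) (kg xg14 yg16 zg27) (kg xg15 yg22 zg18) (kg xg14 yg16 zg29) (kg xg14 yg16 zg30) (kg xg13 yg6 zg36) (kg xg13 yg22 zg4) (kg xg13 yg6 zg37) (kg xg15 yg22 zg21) (kg xg15 yg22 zg23) (kg xg13 yg6 zg41) (kg xg13 yg6 zg42) (kg xg14 yg3 zg41) (kg xg14 yg4 zg48) (kg xg15 yg22 zg31) (kg xg15 yg22 zg26) (kg xg15 yg22 zg27) (kg xg14 yg1 zg9) (kg xg14 yg1 zg10) (kg xg13 yg9 zg44) (kg xg13 yg22 zg18) (kg xg14 yg1 zg11) (kg xg14 yg1 zg12) (kg xg13 yg22 zg21) (kg xg14 yg1 zg13)) (@D3.rec (fun _ => Pt) (kg xg15 yg21 zg50) (kg xg14 yg17 zg1) (kg xg14 yg17 zg2) (kg xg13 yg7 zg0) (kg xg15 yg22 zg48) (kg xg14 yg17 zg5) (kg xg13 yg7 zg9) (kg xg13 yg22 zg30) (kg xg13 yg7 zg10) (kg xg13 yg7 zg11) (kg xg13 yg22 zg32) (kg xg13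 yg7 zg12) (kg xg15 yg23 zg0) (kg xg15 yg23 zg2) (kg xg15 yg23 zg3) (kg xg15 yg23 zg5) (kg xg13 yg7 zg14) (kg xg15 yg23 zg9) (kg xg14 yg17 zg18) (kg xg13 yg22 zg39) (kg xg13 yg7 zg18) (kg xg15 yg23 zg14) (kg xg14 yg4 zg49) (kg xg13 yg9 zg43) (kg xg13 yg10 zg50) (kg xg14 yg1 zg23) (kg xg13 yg9 zg13) (kg xg13 yg9 zg45) (kg xg13 yg11 zg0) (kg xg14 yg1 zg24) (kg xg14 yg17 zg30) (kg xg13 yg7 zg31) (kg xg13 yg7 zg32) (kg xg13 yg11 zg19) (kg xg14 yg1 zg32) (kg xg13 yg20 zg12) (kg xg13 yg20 zg13) (kg xg13 yg20 zg41) (kg xg13 yg21 zg0) (kg xg14 yg17 zg39) (kg xg13 yg7 zg47) (kg xg13 yg7 zg49) (kg xg13 yg7 zg50) (kg xg15 yg23 zg31) (kg xg15 yg23 zg32) (kg xg15 yg23 zg33) (kg xg13 yg20 zg21) (kg xg13 yg20 zg27) (kg xg13 yg20 zg1) (kg xg14 yg1 zg36) (kg xg14 yg1 zg37))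 (@D3.rec (fun _ => Pt) (kg xg14 yg18 zg0) (kg xg14 yg18 zg1) (kg xg13 yg8 zg9) (kg xg13 yg20 zg6) (kg xg13 yg8 zg10) (kg xg15 yg23 zg44) (kg xg15 yg23 zg46) (kg xg13 yg20 zg10) (kg xg13 yg8 zg13) (kg xg14 yg1 zg1) (kg xg14 yg1 zg2) (kg xg15 yg21 zg48) (kg xg15 yg21 zg49) (kg xg14 yg1 zg39) (kg xg14 yg1 zg40) (kg xg14 yg9 zg15) (kg xg14 yg1 zg41) (kg xg14 yg1 zg42) (kg xg14 yg18 zg18) (kg xg13 yg8 zg26) (kg xg14 yg9 zg31) (kg xg13 yg8 zg27) (kg xg15 yg24 zg7) (kg xg15 yg24 zg9) (kg xg13 yg8 zg30) (kg xg13 yg8 zg31) (kg xg15 yg24 zg11) (kg xg15 yg24 zg12) (kg xg14 yg2 zg9) (kg xg14 yg2 zg10) (kg xg13 yg8 zg34) (kg xg15 yg24 zg17) (kg xg14 yg2 zg12) (kg xg13 yg8 zg42) (kg xg13 yg19 zg13) (kg xg13 yg8 zg40) (kg xg15 yg24 zg21) (kg xg13 yg8 zg46) (kg xg14 yg18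 zg38) (kg xg13 yg8 zg45) (kg xg15 yg24 zg24) (kg xg13 yg19 zg14) (kg xg13 yg8 zg49) (kg xg15 yg24 zg26) (kg xg14 yg18 zg44) (kg xg13 yg9 zg2) (kg xg14 yg2 zg41) (kg xg14 yg11 zg10) (kg xg14 yg10 zg50) (kg xg14 yg11 zg14) (kg xg14 yg2 zg49)) (@D3.rec (fun _ => Pt) (kg xg14 yg2 zg50) (kg xg14 yg3 zg0) (kg xg14 yg10 zg29) (kg xg14 yg3 zg1) (kg xg14 yg3 zg2) (kg xg13 yg9 zg14) (kg xg13 yg9 zg15) (kg xg15 yg23 zg16) (kg xg15 yg22 zg38) (kg xg15 yg23 zg20) (kg xg15 yg25 zg2) (kg xg15 yg24 zg46) (kg xg15 yg24 zg47) (kg xg14 yg3 zg11) (kg xg14 yg3 zg12) (kg xg14 yg3 zg13) (kg xg14 yg10 zg5) (kg xg14 yg3 zg15) (kg xg14 yg3 zg16) (kg xg13 yg9 zg19) (kg xg15 yg25 zg15) (kg xg14 yg3 zg19) (kg xg14 yg19 zg22) (kg xg14 yg19 zg23) (kg xg13 yg9 zg24) (kg xg15 yg25 zg20)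 (kg xg14 yg19 zg26) (kg xg13 yg9 zg34) (kg xg14 yg10 zg6) (kg xg13 yg9 zg35) (kg xg13 yg9 zg36) (kg xg14 yg13 zg5) (kg xg13 yg9 zg32) (kg xg15 yg25 zg27) (kg xg13 yg9 zg40) (kg xg15 yg25 zg23) (kg xg15 yg25 zg25) (kg xg14 yg19 zg37) (kg xg13 yg9 zg39) (kg xg15 yg25 zg31) (kg xg15 yg25 zg29) (kg xg15 yg25 zg32) (kg xg13 yg9 zg47) (kg xg13 yg9 zg48) (kg xg14 yg12 zg43) (kg xg15 yg22 zg34) (kg xg15 yg23 zg17) (kg xg15 yg22 zg39) (kg xg15 yg23 zg21) (kg xg13 yg9 zg46) (kg xg15 yg25 zg42)) (@D3.rec (fun _ => Pt) (kg xg15 yg25 zg34) (kg xg14 yg3 zg47) (kg xg14 yg3 zg48) (kg xg14 yg3 zg49) (kg xg14 yg10 zg38) (kg xg14 yg4 zg0) (kg xg14 yg4 zg1) (kg xg14 yg4 zg3) (kg xg14 yg4 zg4) (kg xg13 yg10 zg2) (kg xg15 yg26 zg5) (kg xg14 yg4 zg7) (kg xg14 yg4 zg8) (kg xg15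 yg25 zg41) (kg xg13 yg10 zg6) (kg xg15 yg26 zg10) (kg xg14 yg4 zg12) (kg xg14 yg20 zg17) (kg xg14 yg20 zg18) (kg xg14 yg20 zg19) (kg xg13 yg10 zg22) (kg xg13 yg10 zg12) (kg xg15 yg26 zg17) (kg xg14 yg20 zg23) (kg xg13 yg10 zg26) (kg xg14 yg10 zg39) (kg xg13 yg10 zg27) (kg xg13 yg10 zg28) (kg xg13 yg22 zg44) (kg xg13 yg10 zg19) (kg xg15 yg26 zg24) (kg xg13 yg10 zg32) (kg xg15 yg26 zg16) (kg xg13 yg10 zg24) (kg xg15 yg26 zg27) (kg xg13 yg10 zg36) (kg xg15 yg26 zg20) (kg xg15 yg26 zg22) (kg xg14 yg20 zg38) (kg xg13 yg10 zg31) (kg xg15 yg26 zg32) (kg xg14 yg20 zg41) (kg xg13 yg10 zg35) (kg xg15 yg26 zg30) (kg xg13 yg10 zg41) (kg xg13 yg10 zg39) (kg xg15 yg26 zg35) (kg xg14 yg20 zg47) (kg xg15 yg26 zg34) (kg xg13 yg10 zg43) (kg xg15 yg26 zg40)) (@D3.rec (fun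 _ => Pt) (kg xg15 yg26 zg41) (kg xg13 yg10 zg48) (kg xg14 yg21 zg2) (kg xg13 yg10 zg47) (kg xg14 yg12 zg44) (kg xg15 yg23 zg18) (kg xg15 yg23 zg22) (kg xg13 yg23 zg3) (kg xg13 yg26 zg12) (kg xg14 yg5 zg0) (kg xg14 yg5 zg1) (kg xg14 yg5 zg2) (kg xg14 yg5 zg3) (kg xg14 yg5 zg4) (kg xg14 yg5 zg5) (kg xg14 yg5 zg6) (kg xg14 yg5 zg7) (kg xg14 yg5 zg8) (kg xg14 yg21 zg18) (kg xg14 yg21 zg19) (kg xg14 yg21 zg20) (kg xg13 yg11 zg16) (kg xg16 yg0 zg10) (kg xg13 yg11 zg17) (kg xg14 yg12 zg46) (kg xg13 yg19 zg16) (kg xg13 yg26 zg13) (kg xg13 yg11 zg37) (kg xg16 yg0 zg11) (kg xg13 yg11 zg42) (kg xg13 yg12 zg6) (kg xg13 yg12 zg4) (kg xg16 yg0 zg12) (kg xg13 yg12 zg20) (kg xg13 yg11 zg50) (kg xg13 yg12 zg14) (kg xg13 yg12 zg12) (kg xg13 yg12 zg18) (kg xg13 yg12 zg16)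 (kg xg13 yg12 zg7) (kg xg13 yg26 zg43) (kg xg16 yg0 zg14) (kg xg13 yg12 zg23) (kg xg16 yg0 zg13) (kg xg13 yg26 zg42) (kg xg13 yg15 zg8) (kg xg14 yg5 zg28) (kg xg16 yg0 zg17) (kg xg14 yg5 zg32) (kg xg16 yg0 zg16) (kg xg14 yg5 zg40)) (@D3.rec (fun _ => Pt) (kg xg13 yg12 zg50) (kg xg14 yg5 zg38) (kg xg13 yg12 zg46) (kg xg16 yg0 zg15) (kg xg13 yg12 zg24) (kg xg13 yg12 zg32) (kg xg16 yg0 zg20) (kg xg13 yg16 zg19) (kg xg13 yg12 zg31) (kg xg13 yg12 zg33) (kg xg13 yg12 zg41) (kg xg13 yg12 zg40) (kg xg16 yg0 zg29) (kg xg16 yg0 zg26) (kg xg14 yg5 zg23) (kg xg13 yg16 zg44) (kg xg13 yg12 zg42) (kg xg13 yg13 zg6) (kg xg13 yg12 zg43) (kg xg16 yg0 zg31) (kg xg16 yg0 zg30) (kg xg16 yg0 zg25) (kg xg16 yg0 zg23) (kg xg14 yg5 zg16) (kg xg13 yg13 zg31) (kg xg14 yg5 zg42)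 (kg xg13 yg13 zg27) (kg xg13 yg26 zg45) (kg xg13 yg17 zg47) (kg xg13 yg13 zg7) (kg xg13 yg13 zg9) (kg xg14 yg5 zg18) (kg xg16 yg0 zg34) (kg xg16 yg0 zg41) (kg xg15 yg20 zg30) (kg xg16 yg0 zg42) (kg xg14 yg5 zg29) (kg xg13 yg13 zg20) (kg xg13 yg13 zg21) (kg xg13 yg13 zg24) (kg xg14 yg5 zg15) (kg xg14 yg5 zg19) (kg xg14 yg5 zg20) (kg xg15 yg20 zg28) (kg xg16 yg0 zg49) (kg xg16 yg0 zg38) (kg xg13 yg13 zg23) (kg xg14 yg5 zg37) (kg xg16 yg0 zg37) (kg xg14 yg5 zg21) (kg xg16 yg0 zg40)) (@D3.rec (fun _ => Pt) (kg xg14 yg8 zg34) (kg xg13 yg16 zg13) (kg xg13 yg16 zg14) (kg xg14 yg0 zg5) (kg xg14 yg0 zg8) (kg xg13 yg15 zg15) (kg xg13 yg13 zg47) (kg xg13 yg15 zg50) (kg xg13 yg16 zg0) (kg xg13 yg18 zg33) (kg xg14 yg5 zg43) (kg xg14 yg5 zg44) (kg xg13 yg14 zg44) (kg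 xg13 yg14 zg5) (kg xg14 yg0 zg31) (kg xg13 yg14 zg6) (kg xg13 yg14 zg7) (kg xg16 yg1 zg18) (kg xg16 yg1 zg20) (kg xg13 yg14 zg9) (kg xg13 yg14 zg10) (kg xg16 yg1 zg23) (kg xg16 yg1 zg24) (kg xg14 yg5 zg48) (kg xg14 yg5 zg49) (kg xg14 yg7 zg26) (kg xg14 yg5 zg50) (kg xg14 yg6 zg0) (kg xg13 yg15 zg19) (kg xg13 yg14 zg20) (kg xg14 yg7 zg27) (kg xg13 yg14 zg21) (kg xg15 yg21 zg2) (kg xg16 yg1 zg31) (kg xg16 yg1 zg33) (kg xg14 yg8 zg18) (kg xg13 yg14 zg24) (kg xg14 yg6 zg5) (kg xg13 yg14 zg29) (kg xg13 yg20 zg24) (kg xg14 yg1 zg34) (kg xg14 yg1 zg35) (kg xg14 yg7 zg34) (kg xg14 yg7 zg50) (kg xg13 yg17 zg35) (kg xg14 yg6 zg10) (kg xg14 yg6 zg11) (kg xg16 yg1 zg48) (kg xg14 yg6 zg12) (kg xg14 yg6 zg13) (kg xg14 yg8 zg10)) (@D3.rec (fun _ => Pt) (kg xg13 yg14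 zg43) (kg xg13 yg14 zg45) (kg xg13 yg14 zg40) (kg xg16 yg2 zg2) (kg xg13 yg14 zg48) (kg xg16 yg2 zg0) (kg xg16 yg1 zg17) (kg xg16 yg2 zg1) (kg xg13 yg14 zg47) (kg xg16 yg2 zg7) (kg xg16 yg2 zg4) (kg xg13 yg15 zg0) (kg xg13 yg15 zg1) (kg xg16 yg2 zg10) (kg xg16 yg2 zg11) (kg xg13 yg18 zg12) (kg xg13 yg18 zg13) (kg xg14 yg6 zg19) (kg xg14 yg6 zg21) (kg xg14 yg6 zg22) (kg xg13 yg15 zg5) (kg xg16 yg2 zg18) (kg xg14 yg6 zg24) (kg xg13 yg15 zg16) (kg xg13 yg15 zg20) (kg xg13 yg15 zg12) (kg xg16 yg2 zg23) (kg xg13 yg15 zg23) (kg xg15 yg21 zg41) (kg xg16 yg1 zg9) (kg xg16 yg2 zg21) (kg xg13 yg15 zg18) (kg xg16 yg2 zg26) (kg xg16 yg2 zg22) (kg xg13 yg15 zg22) (kg xg16 yg2 zg27) (kg xg16 yg2 zg25) (kg xg13 yg15 zg25) (kg xg16 yg2 zg28) (kg xg13 yg15 zg29) (kg xg13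 yg15 zg28) (kg xg13 yg19 zg15) (kg xg14 yg6 zg35) (kg xg14 yg6 zg36) (kg xg14 yg6 zg37) (kg xg13 yg15 zg39) (kg xg13 yg15 zg40) (kg xg13 yg17 zg16) (kg xg14 yg5 zg46) (kg xg14 yg5 zg47) (kg xg13 yg15 zg49)) (@D3.rec (fun _ => Pt) (kg xg16 yg1 zg10) (kg xg16 yg1 zg11) (kg xg13 yg18 zg27) (kg xg14 yg6 zg20) (kg xg14 yg6 zg25) (kg xg14 yg6 zg23) (kg xg14 yg6 zg28) (kg xg14 yg8 zg8) (kg xg13 yg16 zg8) (kg xg13 yg16 zg9) (kg xg16 yg2 zg46) (kg xg16 yg2 zg47) (kg xg13 yg19 zg38) (kg xg13 yg19 zg39) (kg xg14 yg2 zg14) (kg xg14 yg2 zg2) (kg xg14 yg2 zg17) (kg xg15 yg21 zg4) (kg xg16 yg1 zg5) (kg xg16 yg1 zg6) (kg xg13 yg17 zg45) (kg xg14 yg6 zg40) (kg xg14 yg6 zg41) (kg xg15 yg20 zg38) (kg xg14 yg6 zg42) (kg xg14 yg6 zg43) (kg xg13 yg17 zg2) (kg xg16 yg0 zg28)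 (kg xg13 yg16 zg26) (kg xg13 yg18 zg40) (kg xg13 yg16 zg27) (kg xg13 yg16 zg28) (kg xg15 yg20 zg41) (kg xg13 yg16 zg29) (kg xg16 yg3 zg17) (kg xg16 yg3 zg19) (kg xg16 yg3 zg20) (kg xg16 yg3 zg22) (kg xg13 yg16 zg33) (kg xg13 yg16 zg34) (kg xg15 yg21 zg32) (kg xg15 yg21 zg36) (kg xg16 yg3 zg30) (kg xg16 yg3 zg26) (kg xg16 yg3 zg27) (kg xg13 yg16 zg42) (kg xg13 yg18 zg14) (kg xg13 yg18 zg30) (kg xg15 yg20 zg47) (kg xg14 yg7 zg0) (kg xg14 yg7 zg1)) (@D3.rec (fun _ => Pt) (kg xg15 yg20 zg50) (kg xg14 yg7 zg2) (kg xg14 yg6 zg29) (kg xg16 yg3 zg33) (kg xg14 yg7 zg4) (kg xg13 yg17 zg1) (kg xg13 yg17 zg3) (kg xg15 yg21 zg7) (kg xg13 yg17 zg4) (kg xg13 yg17 zg5) (kg xg15 yg21 zg9) (kg xg13 yg17 zg6) (kg xg16 yg3 zg42) (kg xg16 yg3 zg16) (kg xg16 yg3 zg43) (kg xg16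 yg3 zg45) (kg xg16 yg3 zg46) (kg xg16 yg3 zg48) (kg xg13 yg17 zg8) (kg xg16 yg4 zg2) (kg xg15 yg21 zg14) (kg xg13 yg17 zg12) (kg xg13 yg19 zg6) (kg xg14 yg13 zg15) (kg xg15 yg20 zg27) (kg xg13 yg19 zg4) (kg xg14 yg7 zg8) (kg xg13 yg17 zg25) (kg xg13 yg17 zg26) (kg xg13 yg17 zg27) (kg xg16 yg4 zg7) (kg xg16 yg4 zg8) (kg xg14 yg4 zg29) (kg xg14 yg4 zg9) (kg xg14 yg4 zg34) (kg xg14 yg4 zg15) (kg xg14 yg3 zg42) (kg xg14 yg4 zg18) (kg xg14 yg3 zg36) (kg xg14 yg3 zg45) (kg xg14 yg4 zg21) (kg xg13 yg17 zg36) (kg xg13 yg17 zg37) (kg xg16 yg1 zg43) (kg xg16 yg1 zg44) (kg xg16 yg3 zg8) (kg xg16 yg4 zg23) (kg xg16 yg4 zg24) (kg xg14 yg7 zg10) (kg xg14 yg7 zg11) (kg xg14 yg7 zg12))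
def f_g_15 : D2 → D3 → Pt := @D2.rec (fun _ => D3 → Pt) (@D3.rec (fun _ => Pt) (kg xg15 yg20 zg44) (kg xg14 yg7 zg13) (kg xg14 yg7 zg14) (kg xg13 yg17 zg41) (kg xg16 yg4 zg38) (kg xg14 yg7 zg15) (kg xg14 yg6 zg15) (kg xg16 yg3 zg9) (kg xg14 yg6 zg45) (kg xg13 yg18 zg4) (kg xg15 yg21 zg1) (kg xg13 yg18 zg5) (kg xg13 yg18 zg6) (kg xg13 yg18 zg2) (kg xg16 yg4 zg48) (kg xg13 yg18 zg9) (kg xg16 yg4 zg44) (kg xg16 yg4 zg46) (kg xg16 yg4 zg47) (kg xg13 yg18 zg8) (kg xg16 yg5 zg1) (kg xg16 yg4 zg50) (kg xg16 yg3 zg4) (kg xg13 yg18 zg15) (kg xg13 yg18 zg16) (kg xg15 yg24 zg16) (kg xg16 yg2 zg40) (kg xg16 yg2 zg13) (kg xg16 yg2 zg14) (kg xg16 yg3 zg34) (kg xg16 yg5 zg3) (kg xg14 yg7 zg31) (kg xg14 yg7 zg32) (kg xg14 yg7 zg33) (kg xg16 yg1 zg12) (kg xg14 yg7 zg35)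 (kg xg14 yg7 zg36) (kg xg15 yg24 zg10) (kg xg14 yg7 zg37) (kg xg14 yg7 zg38) (kg xg13 yg18 zg21) (kg xg16 yg5 zg25) (kg xg14 yg7 zg41) (kg xg14 yg7 zg42) (kg xg16 yg3 zg11) (kg xg13 yg18 zg25) (kg xg16 yg5 zg30) (kg xg14 yg7 zg46) (kg xg16 yg2 zg41) (kg xg14 yg6 zg30) (kg xg14 yg6 zg31)) (@D3.rec (fun _ => Pt) (kg xg16 yg3 zg35) (kg xg14 yg7 zg5) (kg xg13 yg18 zg44) (kg xg16 yg1 zg13) (kg xg13 yg18 zg45) (kg xg13 yg18 zg46) (kg xg13 yg18 zg37) (kg xg16 yg5 zg39) (kg xg13 yg18 zg49) (kg xg13 yg18 zg50) (kg xg16 yg3 zg18) (kg xg13 yg18 zg42) (kg xg16 yg5 zg45) (kg xg13 yg19 zg3) (kg xg16 yg5 zg37) (kg xg16 yg5 zg38) (kg xg13 yg18 zg48) (kg xg16 yg5 zg50) (kg xg16 yg5 zg41) (kg xg16 yg5 zg42) (kg xg16 yg5 zg48) (kg xg14 yg8 zg15) (kg xg13 yg19 zg2) (kg xg16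 yg4 zg5) (kg xg13 yg19 zg8) (kg xg16 yg6 zg1) (kg xg16 yg6 zg2) (kg xg13 yg19 zg12) (kg xg13 yg19 zg11) (kg xg14 yg9 zg24) (kg xg15 yg24 zg20) (kg xg15 yg24 zg25) (kg xg16 yg2 zg31) (kg xg13 yg21 zg2) (kg xg13 yg21 zg13) (kg xg14 yg8 zg20) (kg xg13 yg21 zg29) (kg xg14 yg8 zg21) (kg xg14 yg8 zg22) (kg xg14 yg8 zg23) (kg xg14 yg8 zg24) (kg xg14 yg8 zg25) (kg xg14 yg8 zg26) (kg xg14 yg8 zg27) (kg xg14 yg4 zg46) (kg xg16 yg6 zg3) (kg xg14 yg8 zg35) (kg xg13 yg19 zg35) (kg xg16 yg2 zg48) (kg xg16 yg2 zg49) (kg xg14 yg2 zg8)) (@D3.rec (fun _ => Pt) (kg xg14 yg2 zg20) (kg xg14 yg2 zg11) (kg xg14 yg2 zg23) (kg xg15 yg2 zg3) (kg xg15 yg2 zg4) (kg xg13 yg19 zg47) (kg xg16 yg6 zg26) (kg xg13 yg19 zg50) (kg xg13 yg20 zg0) (kg xg16 yg6 zg27) (kg xg16 yg6 zg28) (kg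 xg15 yg23 zg41) (kg xg14 yg8 zg40) (kg xg15 yg2 zg13) (kg xg15 yg23 zg45) (kg xg13 yg20 zg8) (kg xg15 yg2 zg16) (kg xg15 yg23 zg47) (kg xg15 yg23 zg26) (kg xg15 yg23 zg27) (kg xg13 yg20 zg35) (kg xg13 yg20 zg48) (kg xg15 yg23 zg38) (kg xg14 yg8 zg41) (kg xg14 yg8 zg42) (kg xg13 yg20 zg19) (kg xg13 yg20 zg20) (kg xg16 yg1 zg36) (kg xg16 yg6 zg43) (kg xg16 yg6 zg44) (kg xg15 yg23 zg39) (kg xg14 yg8 zg48) (kg xg16 yg1 zg37) (kg xg15 yg2 zg33) (kg xg15 yg23 zg40) (kg xg13 yg20 zg29) (kg xg13 yg20 zg33) (kg xg13 yg20 zg34) (kg xg16 yg4 zg30) (kg xg13 yg20 zg36) (kg xg13 yg20 zg37) (kg xg16 yg7 zg1) (kg xg16 yg7 zg2) (kg xg16 yg6 zg38) (kg xg16 yg7 zg4) (kg xg14 yg9 zg16) (kg xg14 yg9 zg17) (kg xg14 yg9 zg19) (kg xg15 yg23 zg28) (kg xg14 yg9 zg21) (kg xg16 yg5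 zg12)) (@D3.rec (fun _ => Pt) (kg xg13 yg20 zg45) (kg xg16 yg7 zg13) (kg xg14 yg9 zg23) (kg xg16 yg6 zg39) (kg xg15 yg3 zg4) (kg xg15 yg23 zg29) (kg xg16 yg6 zg9) (kg xg13 yg21 zg4) (kg xg16 yg7 zg18) (kg xg13 yg21 zg9) (kg xg15 yg3 zg10) (kg xg13 yg21 zg8) (kg xg13 yg21 zg11) (kg xg16 yg7 zg22) (kg xg16 yg6 zg10) (kg xg13 yg21 zg15) (kg xg16 yg0 zg9) (kg xg16 yg7 zg25) (kg xg15 yg3 zg18) (kg xg14 yg9 zg38) (kg xg14 yg9 zg7) (kg xg14 yg9 zg36) (kg xg14 yg8 zg47) (kg xg14 yg8 zg50) (kg xg15 yg3 zg24) (kg xg13 yg21 zg30) (kg xg13 yg21 zg31) (kg xg16 yg5 zg16) (kg xg16 yg6 zg11) (kg xg16 yg7 zg30) (kg xg16 yg7 zg31) (kg xg14 yg9 zg18) (kg xg14 yg9 zg20) (kg xg14 yg9 zg33) (kg xg14 yg9 zg22) (kg xg15 yg3 zg35) (kg xg13 yg21 zg39) (kg xg14 yg9 zg5) (kg xg14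 yg9 zg6) (kg xg14 yg9 zg39) (kg xg14 yg9 zg40) (kg xg15 yg22 zg2) (kg xg14 yg9 zg41) (kg xg14 yg9 zg42) (kg xg13 yg21 zg47) (kg xg13 yg21 zg48) (kg xg16 yg8 zg0) (kg xg16 yg7 zg49) (kg xg16 yg7 zg50) (kg xg15 yg22 zg15) (kg xg14 yg9 zg45)) (@D3.rec (fun _ => Pt) (kg xg13 yg22 zg1) (kg xg16 yg8 zg5) (kg xg15 yg4 zg2) (kg xg15 yg22 zg22) (kg xg13 yg22 zg6) (kg xg16 yg8 zg9) (kg xg13 yg22 zg10) (kg xg13 yg22 zg11) (kg xg16 yg4 zg25) (kg xg13 yg22 zg13) (kg xg13 yg22 zg14) (kg xg15 yg26 zg4) (kg xg16 yg8 zg17) (kg xg16 yg8 zg11) (kg xg16 yg8 zg12) (kg xg13 yg22 zg12) (kg xg16 yg8 zg20) (kg xg16 yg8 zg14) (kg xg14 yg10 zg7) (kg xg14 yg10 zg8) (kg xg14 yg10 zg9) (kg xg15 yg22 zg37) (kg xg14 yg10 zg10) (kg xg14 yg10 zg11) (kg xg15 yg22 zg40) (kg xg14 yg10 zg12)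 (kg xg15 yg22 zg43) (kg xg14 yg10 zg13) (kg xg13 yg22 zg23) (kg xg16 yg8 zg34) (kg xg15 yg4 zg30) (kg xg13 yg22 zg27) (kg xg16 yg8 zg37) (kg xg15 yg4 zg33) (kg xg15 yg23 zg1) (kg xg13 yg22 zg34) (kg xg15 yg23 zg4) (kg xg13 yg22 zg35) (kg xg16 yg8 zg41) (kg xg13 yg22 zg37) (kg xg16 yg8 zg44) (kg xg15 yg4 zg41) (kg xg15 yg23 zg12) (kg xg15 yg23 zg13) (kg xg13 yg22 zg45) (kg xg15 yg26 zg23) (kg xg13 yg23 zg15) (kg xg13 yg26 zg21) (kg xg13 yg24 zg36) (kg xg14 yg10 zg17) (kg xg14 yg10 zg18)) (@D3.rec (fun _ => Pt) (kg xg14 yg10 zg19) (kg xg13 yg23 zg4) (kg xg13 yg23 zg5) (kg xg14 yg12 zg10) (kg xg15 yg25 zg45) (kg xg15 yg26 zg48) (kg xg16 yg9 zg9) (kg xg16 yg9 zg2) (kg xg16 yg9 zg3) (kg xg14 yg10 zg20) (kg xg14 yg10 zg21) (kg xg14 yg10 zg22) (kg xg14 yg10 zg23)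 (kg xg16 yg9 zg21) (kg xg14 yg10 zg24) (kg xg14 yg10 zg25) (kg xg13 yg23 zg9) (kg xg16 yg9 zg25) (kg xg14 yg10 zg26) (kg xg13 yg23 zg16) (kg xg13 yg23 zg17) (kg xg16 yg9 zg30) (kg xg13 yg23 zg19) (kg xg13 yg23 zg20) (kg xg15 yg25 zg8) (kg xg16 yg8 zg49) (kg xg16 yg9 zg35) (kg xg16 yg9 zg28) (kg xg16 yg9 zg29) (kg xg13 yg23 zg18) (kg xg16 yg9 zg39) (kg xg16 yg9 zg32) (kg xg14 yg10 zg40) (kg xg14 yg10 zg42) (kg xg14 yg10 zg43) (kg xg16 yg9 zg4) (kg xg14 yg10 zg45) (kg xg14 yg10 zg46) (kg xg13 yg23 zg24) (kg xg16 yg9 zg48) (kg xg14 yg10 zg49) (kg xg16 yg9 zg38) (kg xg13 yg23 zg28) (kg xg16 yg10 zg1) (kg xg14 yg11 zg2) (kg xg15 yg5 zg45) (kg xg13 yg23 zg31) (kg xg16 yg10 zg4) (kg xg15 yg5 zg48) (kg xg13 yg23 zg41) (kg xg13 yg23 zg35)) (@D3.rec (fun _ => Pt)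 (kg xg16 yg10 zg8) (kg xg15 yg6 zg1) (kg xg14 yg12 zg48) (kg xg13 yg23 zg39) (kg xg16 yg10 zg12) (kg xg13 yg23 zg48) (kg xg16 yg10 zg7) (kg xg13 yg23 zg43) (kg xg16 yg10 zg15) (kg xg13 yg24 zg1) (kg xg15 yg6 zg10) (kg xg13 yg23 zg47) (kg xg15 yg6 zg12) (kg xg13 yg24 zg0) (kg xg16 yg10 zg21) (kg xg16 yg10 zg18) (kg xg13 yg24 zg9) (kg xg13 yg24 zg10) (kg xg13 yg24 zg11) (kg xg16 yg10 zg25) (kg xg13 yg24 zg13) (kg xg13 yg24 zg14) (kg xg13 yg24 zg5) (kg xg16 yg10 zg29) (kg xg13 yg24 zg17) (kg xg14 yg10 zg34) (kg xg14 yg13 zg4) (kg xg13 yg26 zg29) (kg xg16 yg8 zg23) (kg xg16 yg10 zg22) (kg xg16 yg10 zg23) (kg xg16 yg10 zg39) (kg xg14 yg10 zg0) (kg xg16 yg10 zg24) (kg xg13 yg24 zg12) (kg xg16 yg10 zg45) (kg xg16 yg10 zg27) (kg xg16 yg10 zg28) (kg xg13 yg24 zg31)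 (kg xg13 yg24 zg16) (kg xg16 yg10 zg50) (kg xg16 yg10 zg31) (kg xg14 yg11 zg39) (kg xg14 yg11 zg40) (kg xg16 yg11 zg3) (kg xg14 yg11 zg42) (kg xg13 yg24 zg21) (kg xg16 yg11 zg6) (kg xg14 yg11 zg45) (kg xg14 yg11 zg46) (kg xg13 yg24 zg24)) (@D3.rec (fun _ => Pt) (kg xg16 yg11 zg11) (kg xg16 yg11 zg12) (kg xg14 yg11 zg50) (kg xg14 yg12 zg0) (kg xg16 yg10 zg44) (kg xg13 yg24 zg28) (kg xg16 yg11 zg18) (kg xg14 yg12 zg4) (kg xg14 yg12 zg5) (kg xg16 yg10 zg49) (kg xg13 yg24 zg33) (kg xg16 yg11 zg24) (kg xg14 yg12 zg9) (kg xg15 yg7 zg13) (kg xg16 yg8 zg50) (kg xg15 yg7 zg15) (kg xg15 yg7 zg16) (kg xg13 yg25 zg1) (kg xg13 yg24 zg40) (kg xg16 yg11 zg31) (kg xg15 yg7 zg20) (kg xg15 yg7 zg21) (kg xg13 yg25 zg6) (kg xg13 yg24 zg45) (kg xg16 yg11 zg36) (kg xg15 yg7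 zg25) (kg xg14 yg13 zg0) (kg xg13 yg24 zg49) (kg xg16 yg11 zg41) (kg xg13 yg25 zg13) (kg xg16 yg11 zg30) (kg xg13 yg25 zg3) (kg xg16 yg11 zg44) (kg xg13 yg25 zg17) (kg xg13 yg25 zg18) (kg xg15 yg22 zg14) (kg xg16 yg11 zg35) (kg xg13 yg25 zg8) (kg xg16 yg11 zg49) (kg xg16 yg11 zg50) (kg xg13 yg25 zg22) (kg xg15 yg7 zg41) (kg xg13 yg25 zg12) (kg xg15 yg7 zg43) (kg xg13 yg25 zg16) (kg xg16 yg12 zg5) (kg xg15 yg7 zg46) (kg xg13 yg25 zg21) (kg xg16 yg12 zg2) (kg xg13 yg25 zg27) (kg xg13 yg25 zg25)) (@D3.rec (fun _ => Pt) (kg xg16 yg12 zg8) (kg xg16 yg12 zg9) (kg xg15 yg8 zg2) (kg xg16 yg12 zg7) (kg xg13 yg25 zg29) (kg xg13 yg25 zg30) (kg xg14 yg5 zg12) (kg xg16 yg12 zg15) (kg xg13 yg25 zg34) (kg xg15 yg8 zg9) (kg xg13 yg25 zg42) (kg xg13 yg25 zg43) (kg xg14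 yg10 zg1) (kg xg16 yg10 zg38) (kg xg16 yg10 zg35) (kg xg14 yg11 zg33) (kg xg14 yg11 zg30) (kg xg14 yg12 zg37) (kg xg14 yg11 zg29) (kg xg14 yg3 zg40) (kg xg14 yg11 zg28) (kg xg15 yg22 zg13) (kg xg14 yg12 zg40) (kg xg14 yg13 zg27) (kg xg15 yg26 zg49) (kg xg14 yg12 zg47) (kg xg14 yg12 zg49) (kg xg14 yg12 zg50) (kg xg14 yg13 zg1) (kg xg14 yg13 zg2) (kg xg14 yg13 zg3) (kg xg14 yg13 zg6) (kg xg14 yg13 zg7) (kg xg14 yg13 zg8) (kg xg14 yg10 zg33) (kg xg14 yg3 zg6) (kg xg14 yg10 zg32) (kg xg14 yg3 zg39) (kg xg15 yg22 zg12) (kg xg14 yg5 zg26) (kg xg16 yg0 zg18) (kg xg14 yg5 zg27) (kg xg15 yg20 zg39) (kg xg15 yg20 zg40) (kg xg15 yg21 zg0) (kg xg15 yg21 zg16) (kg xg15 yg21 zg17) (kg xg16 yg1 zg7) (kg xg15 yg21 zg19) (kg xg16 yg1 zg8) (kg xg15 yg21 zg24)) (@D3.rec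 (fun _ => Pt) (kg xg14 yg0 zg13) (kg xg14 yg0 zg18) (kg xg14 yg0 zg19) (kg xg15 yg20 zg45) (kg xg15 yg20 zg46) (kg xg16 yg12 zg47) (kg xg16 yg1 zg14) (kg xg14 yg6 zg17) (kg xg14 yg6 zg18) (kg xg14 yg9 zg48) (kg xg14 yg1 zg6) (kg xg14 yg0 zg23) (kg xg16 yg13 zg3) (kg xg15 yg21 zg31) (kg xg14 yg0 zg27) (kg xg16 yg13 zg6) (kg xg15 yg21 zg35) (kg xg14 yg7 zg18) (kg xg16 yg1 zg19) (kg xg14 yg0 zg40) (kg xg14 yg0 zg35) (kg xg16 yg13 zg11) (kg xg14 yg0 zg43) (kg xg14 yg0 zg39) (kg xg16 yg13 zg10) (kg xg14 yg0 zg42) (kg xg16 yg13 zg13) (kg xg14 yg8 zg11) (kg xg14 yg1 zg7) (kg xg15 yg22 zg0) (kg xg15 yg22 zg1) (kg xg15 yg22 zg3) (kg xg15 yg22 zg4) (kg xg15 yg23 zg49) (kg xg15 yg23 zg50) (kg xg15 yg22 zg16) (kg xg16 yg13 zg2) (kg xg14 yg3 zg14) (kg xg14 yg3 zg25)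 (kg xg15 yg22 zg35) (kg xg15 yg22 zg36) (kg xg15 yg22 zg41) (kg xg15 yg22 zg42) (kg xg15 yg22 zg44) (kg xg15 yg9 zg44) (kg xg15 yg9 zg45) (kg xg15 yg9 zg46) (kg xg14 yg1 zg20) (kg xg14 yg1 zg21) (kg xg14 yg12 zg45) (kg xg15 yg23 zg19)) (@D3.rec (fun _ => Pt) (kg xg15 yg23 zg23) (kg xg15 yg10 zg1) (kg xg15 yg10 zg2) (kg xg15 yg10 zg3) (kg xg15 yg26 zg42) (kg xg16 yg1 zg39) (kg xg16 yg1 zg40) (kg xg15 yg23 zg42) (kg xg15 yg24 zg2) (kg xg15 yg24 zg3) (kg xg15 yg24 zg4) (kg xg15 yg24 zg6) (kg xg15 yg10 zg12) (kg xg14 yg1 zg46) (kg xg14 yg1 zg50) (kg xg14 yg2 zg0) (kg xg14 yg2 zg1) (kg xg16 yg3 zg1) (kg xg14 yg2 zg3) (kg xg14 yg2 zg4) (kg xg16 yg13 zg39) (kg xg16 yg13 zg40) (kg xg14 yg12 zg1) (kg xg16 yg2 zg50) (kg xg16 yg13 zg41) (kg xg16 yg13 zg42) (kg xg16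 yg3 zg2) (kg xg16 yg13 zg44) (kg xg14 yg11 zg27) (kg xg14 yg12 zg38) (kg xg14 yg12 zg29) (kg xg14 yg11 zg21) (kg xg14 yg11 zg31) (kg xg16 yg6 zg22) (kg xg15 yg24 zg14) (kg xg15 yg24 zg15) (kg xg16 yg6 zg24) (kg xg15 yg24 zg19) (kg xg15 yg10 zg38) (kg xg16 yg3 zg0) (kg xg15 yg10 zg40) (kg xg15 yg10 zg41) (kg xg16 yg3 zg3) (kg xg14 yg2 zg24) (kg xg16 yg6 zg23) (kg xg14 yg2 zg25) (kg xg14 yg2 zg26) (kg xg16 yg14 zg17) (kg xg14 yg2 zg30) (kg xg14 yg2 zg33) (kg xg16 yg14 zg20)) (@D3.rec (fun _ => Pt) (kg xg14 yg12 zg25) (kg xg14 yg13 zg43) (kg xg16 yg14 zg21) (kg xg14 yg13 zg24) (kg xg14 yg12 zg13) (kg xg14 yg13 zg42) (kg xg14 yg14 zg1) (kg xg14 yg12 zg15) (kg xg14 yg13 zg45) (kg xg15 yg24 zg29) (kg xg15 yg11 zg10) (kg xg15 yg11 zg11) (kg xg15 yg11 zg12) (kg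 xg14 yg2 zg48) (kg xg16 yg12 zg16) (kg xg15 yg24 zg36) (kg xg15 yg24 zg37) (kg xg15 yg24 zg38) (kg xg15 yg24 zg39) (kg xg15 yg24 zg41) (kg xg15 yg24 zg42) (kg xg15 yg24 zg44) (kg xg14 yg3 zg7) (kg xg14 yg3 zg8) (kg xg14 yg3 zg9) (kg xg14 yg3 zg10) (kg xg16 yg12 zg37) (kg xg16 yg12 zg35) (kg xg16 yg14 zg42) (kg xg16 yg14 zg43) (kg xg16 yg14 zg44) (kg xg16 yg14 zg45) (kg xg15 yg25 zg5) (kg xg14 yg11 zg38) (kg xg15 yg25 zg6) (kg xg15 yg25 zg7) (kg xg15 yg25 zg35) (kg xg15 yg25 zg9) (kg xg15 yg25 zg10) (kg xg16 yg13 zg20) (kg xg15 yg25 zg12) (kg xg15 yg25 zg13) (kg xg14 yg3 zg18) (kg xg16 yg15 zg13) (kg xg15 yg25 zg17) (kg xg15 yg11 zg45) (kg xg15 yg11 zg46) (kg xg14 yg12 zg20) (kg xg14 yg3 zg30) (kg xg14 yg3 zg31) (kg xg16 yg13 zg21)) (@D3.rec (fun _ => Pt)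 (kg xg14 yg3 zg29) (kg xg15 yg12 zg1) (kg xg16 yg4 zg18) (kg xg14 yg3 zg43) (kg xg14 yg3 zg44) (kg xg16 yg4 zg21) (kg xg14 yg3 zg46) (kg xg16 yg4 zg15) (kg xg16 yg12 zg23) (kg xg16 yg12 zg21) (kg xg16 yg4 zg17) (kg xg15 yg22 zg7) (kg xg15 yg22 zg29) (kg xg16 yg4 zg19) (kg xg16 yg15 zg19) (kg xg16 yg15 zg20) (kg xg16 yg4 zg22) (kg xg16 yg15 zg22) (kg xg14 yg10 zg41) (kg xg15 yg25 zg46) (kg xg15 yg25 zg47) (kg xg16 yg10 zg40) (kg xg15 yg25 zg48) (kg xg15 yg25 zg49) (kg xg14 yg3 zg50) (kg xg16 yg15 zg40) (kg xg15 yg26 zg0) (kg xg15 yg26 zg1) (kg xg14 yg4 zg2) (kg xg16 yg10 zg34) (kg xg16 yg15 zg44) (kg xg15 yg26 zg2) (kg xg15 yg26 zg3) (kg xg16 yg4 zg10) (kg xg14 yg4 zg6) (kg xg16 yg15 zg50) (kg xg15 yg26 zg7) (kg xg15 yg26 zg8) (kg xg16 yg4 zg13) (kg xg14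 yg4 zg11) (kg xg16 yg16 zg5) (kg xg15 yg26 zg12) (kg xg15 yg24 zg30) (kg xg15 yg12 zg43) (kg xg15 yg12 zg44) (kg xg16 yg4 zg16) (kg xg15 yg12 zg46) (kg xg15 yg12 zg47) (kg xg16 yg4 zg20) (kg xg15 yg12 zg49) (kg xg15 yg12 zg50)) (@D3.rec (fun _ => Pt) (kg xg14 yg11 zg8) (kg xg14 yg4 zg36) (kg xg14 yg4 zg26) (kg xg16 yg16 zg16) (kg xg14 yg4 zg40) (kg xg16 yg4 zg11) (kg xg14 yg4 zg31) (kg xg16 yg16 zg19) (kg xg16 yg12 zg0) (kg xg16 yg4 zg14) (kg xg16 yg16 zg15) (kg xg15 yg13 zg11) (kg xg14 yg4 zg39) (kg xg15 yg13 zg13) (kg xg14 yg4 zg43) (kg xg14 yg4 zg50) (kg xg16 yg6 zg17) (kg xg15 yg22 zg8) (kg xg15 yg22 zg30) (kg xg15 yg23 zg15) (kg xg16 yg16 zg23) (kg xg15 yg26 zg50) (kg xg16 yg0 zg0) (kg xg16 yg0 zg1) (kg xg16 yg0 zg2) (kg xg16 yg0 zg3) (kg xg16 yg0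 zg4) (kg xg16 yg0 zg5) (kg xg16 yg12 zg17) (kg xg16 yg16 zg35) (kg xg15 yg20 zg36) (kg xg15 yg20 zg37) (kg xg15 yg20 zg32) (kg xg16 yg0 zg43) (kg xg16 yg0 zg50) (kg xg16 yg1 zg0) (kg xg16 yg0 zg39) (kg xg15 yg20 zg33) (kg xg15 yg20 zg31) (kg xg16 yg12 zg39) (kg xg16 yg0 zg46) (kg xg16 yg0 zg22) (kg xg16 yg0 zg48) (kg xg14 yg5 zg34) (kg xg16 yg0 zg24) (kg xg15 yg20 zg35) (kg xg16 yg0 zg35) (kg xg16 yg1 zg15) (kg xg16 yg1 zg16) (kg xg16 yg2 zg36) (kg xg16 yg2 zg37)) (@D3.rec (fun _ => Pt) (kg xg16 yg1 zg27) (kg xg16 yg1 zg28) (kg xg16 yg1 zg30) (kg xg14 yg6 zg3) (kg xg16 yg16 zg45) (kg xg14 yg13 zg10) (kg xg16 yg1 zg35) (kg xg14 yg6 zg8) (kg xg14 yg6 zg9) (kg xg16 yg1 zg45) (kg xg16 yg1 zg46) (kg xg16 yg1 zg47) (kg xg16 yg1 zg50) (kg xg14 yg6 zg16) (kg xg16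 yg4 zg41) (kg xg16 yg17 zg3) (kg xg16 yg13 zg0) (kg xg16 yg2 zg42) (kg xg14 yg9 zg8) (kg xg16 yg2 zg15) (kg xg16 yg2 zg43) (kg xg16 yg2 zg16) (kg xg16 yg2 zg17) (kg xg16 yg2 zg45) (kg xg16 yg2 zg20) (kg xg16 yg2 zg44) (kg xg14 yg6 zg32) (kg xg14 yg6 zg33) (kg xg16 yg5 zg34) (kg xg16 yg17 zg15) (kg xg16 yg17 zg17) (kg xg14 yg9 zg27) (kg xg16 yg2 zg32) (kg xg16 yg2 zg33) (kg xg16 yg2 zg34) (kg xg16 yg17 zg22) (kg xg14 yg6 zg39) (kg xg16 yg3 zg10) (kg xg16 yg3 zg12) (kg xg16 yg3 zg13) (kg xg16 yg3 zg15) (kg xg14 yg6 zg46) (kg xg16 yg4 zg43) (kg xg14 yg6 zg49) (kg xg14 yg6 zg50) (kg xg16 yg17 zg27) (kg xg16 yg3 zg37) (kg xg16 yg3 zg38) (kg xg16 yg3 zg40) (kg xg14 yg7 zg6) (kg xg16 yg4 zg6)) (@D3.rec (fun _ => Pt) (kg xg16 yg16 zg46) (kg xg16 yg4 zg31) (kg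 xg16 yg4 zg32) (kg xg16 yg4 zg33) (kg xg16 yg4 zg34) (kg xg16 yg4 zg36) (kg xg16 yg4 zg37) (kg xg16 yg4 zg40) (kg xg14 yg7 zg19) (kg xg14 yg7 zg20) (kg xg16 yg17 zg41) (kg xg14 yg7 zg28) (kg xg14 yg7 zg29) (kg xg15 yg21 zg23) (kg xg14 yg7 zg30) (kg xg16 yg1 zg29) (kg xg16 yg1 zg32) (kg xg16 yg17 zg43) (kg xg16 yg17 zg44) (kg xg16 yg17 zg46) (kg xg16 yg5 zg13) (kg xg16 yg5 zg14) (kg xg16 yg5 zg17) (kg xg16 yg1 zg41) (kg xg16 yg5 zg19) (kg xg16 yg5 zg20) (kg xg16 yg5 zg23) (kg xg16 yg5 zg24) (kg xg14 yg7 zg40) (kg xg16 yg18 zg9) (kg xg16 yg5 zg27) (kg xg16 yg5 zg28) (kg xg15 yg21 zg21) (kg xg14 yg7 zg45) (kg xg16 yg18 zg15) (kg xg16 yg5 zg32) (kg xg15 yg21 zg18) (kg xg14 yg8 zg9) (kg xg16 yg1 zg42) (kg xg14 yg8 zg12) (kg xg14 yg8 zg13) (kg xg14 yg8 zg3)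 (kg xg15 yg21 zg22) (kg xg16 yg18 zg19) (kg xg14 yg8 zg16) (kg xg14 yg8 zg19) (kg xg16 yg1 zg34) (kg xg16 yg18 zg20) (kg xg15 yg21 zg45) (kg xg16 yg6 zg12) (kg xg16 yg6 zg13)) (@D3.rec (fun _ => Pt) (kg xg16 yg6 zg14) (kg xg16 yg6 zg15) (kg xg16 yg6 zg16) (kg xg16 yg6 zg18) (kg xg16 yg18 zg28) (kg xg16 yg2 zg29) (kg xg14 yg8 zg32) (kg xg16 yg1 zg38) (kg xg14 yg8 zg38) (kg xg14 yg8 zg39) (kg xg16 yg18 zg30) (kg xg16 yg6 zg31) (kg xg16 yg6 zg41) (kg xg14 yg8 zg45) (kg xg14 yg8 zg46) (kg xg16 yg18 zg34) (kg xg16 yg7 zg29) (kg xg16 yg6 zg48) (kg xg16 yg17 zg5) (kg xg14 yg9 zg9) (kg xg14 yg9 zg10) (kg xg14 yg9 zg2) (kg xg16 yg18 zg40) (kg xg14 yg9 zg13) (kg xg16 yg5 zg5) (kg xg16 yg7 zg41) (kg xg16 yg7 zg42) (kg xg16 yg16 zg49) (kg xg16 yg7 zg27) (kg xg16 yg17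 zg7) (kg xg16 yg18 zg39) (kg xg14 yg9 zg12) (kg xg16 yg18 zg49) (kg xg16 yg18 zg42) (kg xg15 yg23 zg48) (kg xg14 yg9 zg43) (kg xg15 yg24 zg5) (kg xg16 yg7 zg8) (kg xg16 yg7 zg35) (kg xg16 yg7 zg9) (kg xg16 yg7 zg36) (kg xg16 yg7 zg11) (kg xg16 yg7 zg38) (kg xg16 yg7 zg15) (kg xg16 yg6 zg5) (kg xg15 yg16 zg45) (kg xg16 yg17 zg18) (kg xg15 yg16 zg47) (kg xg14 yg9 zg30) (kg xg15 yg24 zg8) (kg xg14 yg9 zg35)) (@D3.rec (fun _ => Pt) (kg xg16 yg7 zg37) (kg xg16 yg7 zg28) (kg xg14 yg9 zg44) (kg xg16 yg7 zg44) (kg xg16 yg7 zg45) (kg xg16 yg7 zg47) (kg xg16 yg19 zg2) (kg xg16 yg8 zg4) (kg xg14 yg10 zg2) (kg xg14 yg10 zg3) (kg xg16 yg13 zg1) (kg xg14 yg10 zg4) (kg xg16 yg10 zg42) (kg xg16 yg12 zg19) (kg xg16 yg19 zg21) (kg xg16 yg19 zg23) (kg xg15 yg25 zg11) (kg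 xg15 yg25 zg24) (kg xg16 yg8 zg24) (kg xg16 yg8 zg25) (kg xg16 yg8 zg28) (kg xg16 yg8 zg29) (kg xg16 yg8 zg31) (kg xg16 yg8 zg33) (kg xg15 yg17 zg24) (kg xg16 yg9 zg0) (kg xg16 yg9 zg1) (kg xg16 yg9 zg12) (kg xg16 yg9 zg13) (kg xg16 yg9 zg14) (kg xg16 yg9 zg16) (kg xg16 yg9 zg17) (kg xg16 yg9 zg19) (kg xg16 yg9 zg20) (kg xg16 yg9 zg23) (kg xg16 yg9 zg24) (kg xg16 yg9 zg27) (kg xg15 yg24 zg40) (kg xg14 yg10 zg35) (kg xg14 yg10 zg36) (kg xg15 yg24 zg43) (kg xg14 yg10 zg37) (kg xg16 yg12 zg36) (kg xg16 yg12 zg20) (kg xg16 yg10 zg32) (kg xg16 yg19 zg45) (kg xg16 yg19 zg47) (kg xg15 yg25 zg50) (kg xg15 yg26 zg21) (kg xg15 yg25 zg14) (kg xg16 yg9 zg6)) (@D3.rec (fun _ => Pt) (kg xg16 yg9 zg42) (kg xg16 yg15 zg35) (kg xg16 yg9 zg43) (kg xg14 yg10 zg44) (kg xg16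 yg20 zg7) (kg xg16 yg20 zg8) (kg xg16 yg9 zg46) (kg xg16 yg9 zg47) (kg xg15 yg24 zg31) (kg xg14 yg10 zg48) (kg xg16 yg20 zg14) (kg xg16 yg9 zg50) (kg xg15 yg24 zg34) (kg xg14 yg11 zg1) (kg xg16 yg20 zg18) (kg xg16 yg10 zg3) (kg xg15 yg18 zg16) (kg xg15 yg18 zg17) (kg xg15 yg18 zg18) (kg xg16 yg16 zg14) (kg xg14 yg11 zg16) (kg xg15 yg24 zg32) (kg xg14 yg11 zg12) (kg xg16 yg20 zg25) (kg xg15 yg24 zg35) (kg xg16 yg20 zg23) (kg xg15 yg18 zg26) (kg xg14 yg11 zg19) (kg xg16 yg14 zg6) (kg xg14 yg11 zg32) (kg xg14 yg11 zg25) (kg xg16 yg20 zg30) (kg xg14 yg11 zg37) (kg xg16 yg14 zg3) (kg xg16 yg12 zg22) (kg xg16 yg11 zg9) (kg xg16 yg14 zg7) (kg xg16 yg20 zg29) (kg xg16 yg11 zg5) (kg xg14 yg12 zg6) (kg xg14 yg11 zg36) (kg xg16 yg20 zg41) (kg xg16 yg20 zg32) (kg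 xg16 yg15 zg4) (kg xg16 yg11 zg2) (kg xg14 yg11 zg41) (kg xg16 yg20 zg46) (kg xg14 yg11 zg44) (kg xg16 yg20 zg47) (kg xg16 yg11 zg8) (kg xg14 yg11 zg48)) (@D3.rec (fun _ => Pt) (kg xg14 yg11 zg49) (kg xg16 yg20 zg50) (kg xg16 yg21 zg0) (kg xg16 yg11 zg15) (kg xg16 yg11 zg16) (kg xg16 yg13 zg48) (kg xg14 yg12 zg3) (kg xg16 yg21 zg6) (kg xg16 yg11 zg20) (kg xg16 yg11 zg21) (kg xg16 yg14 zg4) (kg xg16 yg20 zg40) (kg xg14 yg12 zg8) (kg xg16 yg21 zg13) (kg xg16 yg11 zg27) (kg xg16 yg9 zg5) (kg xg15 yg19 zg16) (kg xg16 yg14 zg26) (kg xg15 yg19 zg18) (kg xg16 yg14 zg29) (kg xg15 yg19 zg20) (kg xg16 yg21 zg21) (kg xg14 yg12 zg30) (kg xg16 yg15 zg17) (kg xg14 yg12 zg23) (kg xg16 yg21 zg22) (kg xg14 yg12 zg34) (kg xg16 yg14 zg23) (kg xg14 yg12 zg27) (kg xg16 yg21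 zg26) (kg xg16 yg14 zg5) (kg xg15 yg19 zg31) (kg xg14 yg12 zg33) (kg xg15 yg19 zg33) (kg xg14 yg12 zg39) (kg xg16 yg12 zg25) (kg xg14 yg13 zg28) (kg xg14 yg13 zg46) (kg xg15 yg25 zg36) (kg xg15 yg26 zg45) (kg xg16 yg12 zg28) (kg xg16 yg10 zg11) (kg xg16 yg12 zg29) (kg xg16 yg12 zg30) (kg xg16 yg11 zg40) (kg xg16 yg12 zg31) (kg xg15 yg26 zg36) (kg xg16 yg12 zg32) (kg xg16 yg10 zg33) (kg xg15 yg25 zg26) (kg xg16 yg12 zg33)) (@D3.rec (fun _ => Pt) (kg xg16 yg12 zg34) (kg xg15 yg20 zg1) (kg xg15 yg20 zg2) (kg xg16 yg12 zg26) (kg xg16 yg21 zg30) (kg xg14 yg13 zg30) (kg xg16 yg21 zg42) (kg xg14 yg13 zg34) (kg xg14 yg13 zg35) (kg xg16 yg21 zg44) (kg xg16 yg21 zg45) (kg xg15 yg20 zg11) (kg xg14 yg13 zg39) (kg xg16 yg14 zg24) (kg xg16 yg21 zg48) (kg xg15 yg20 zg15)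 (kg xg15 yg20 zg16) (kg xg16 yg14 zg27) (kg xg16 yg14 zg30) (kg xg14 yg13 zg48) (kg xg16 yg14 zg34) (kg xg16 yg22 zg1) (kg xg14 yg14 zg0) (kg xg16 yg14 zg28) (kg xg15 yg20 zg24) (kg xg15 yg20 zg25) (kg xg15 yg20 zg26) (kg xg14 yg26 zg24) (kg xg14 yg22 zg43) (kg xg14 yg14 zg24) (kg xg14 yg22 zg34) (kg xg15 yg13 zg38) (kg xg15 yg13 zg32) (kg xg15 yg13 zg37) (kg xg14 yg14 zg30) (kg xg15 yg13 zg45) (kg xg15 yg13 zg30) (kg xg15 yg13 zg31) (kg xg14 yg25 zg23) (kg xg15 yg8 zg42) (kg xg15 yg8 zg43) (kg xg14 yg25 zg32) (kg xg14 yg14 zg39) (kg xg16 yg22 zg10) (kg xg15 yg0 zg0) (kg xg15 yg9 zg3) (kg xg15 yg9 zg4) (kg xg14 yg25 zg48) (kg xg14 yg15 zg40) (kg xg14 yg15 zg41) (kg xg14 yg26 zg0)) (@D3.rec (fun _ => Pt) (kg xg15 yg8 zg44) (kg xg15 yg0 zg10) (kg xg14 yg23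 zg32) (kg xg14 yg15 zg7) (kg xg14 yg25 zg17) (kg xg14 yg15 zg8) (kg xg14 yg15 zg9) (kg xg14 yg26 zg7) (kg xg14 yg15 zg10) (kg xg14 yg26 zg10) (kg xg14 yg15 zg11) (kg xg16 yg22 zg18) (kg xg16 yg22 zg20) (kg xg16 yg22 zg23) (kg xg14 yg26 zg20) (kg xg14 yg15 zg15) (kg xg15 yg8 zg45) (kg xg15 yg8 zg46) (kg xg15 yg15 zg36) (kg xg15 yg8 zg48) (kg xg14 yg15 zg26) (kg xg15 yg15 zg32) (kg xg15 yg15 zg42) (kg xg15 yg15 zg13) (kg xg15 yg8 zg50) (kg xg14 yg15 zg35) (kg xg16 yg22 zg31) (kg xg14 yg15 zg39) (kg xg14 yg15 zg38) (kg xg16 yg22 zg33) (kg xg16 yg22 zg14) (kg xg15 yg9 zg13) (kg xg14 yg25 zg40) (kg xg14 yg15 zg45) (kg xg16 yg22 zg37) (kg xg15 yg9 zg16) (kg xg14 yg25 zg41) (kg xg14 yg15 zg49) (kg xg16 yg22 zg41) (kg xg14 yg16 zg5) (kg xg14 yg16 zg1) (kg xg14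 yg24 zg28) (kg xg14 yg16 zg4) (kg xg16 yg22 zg44) (kg xg14 yg16 zg8) (kg xg15 yg15 zg48) (kg xg16 yg22 zg45) (kg xg14 yg16 zg11) (kg xg14 yg18 zg11) (kg xg14 yg18 zg12) (kg xg14 yg17 zg0)) (@D3.rec (fun _ => Pt) (kg xg15 yg9 zg29) (kg xg15 yg9 zg30) (kg xg15 yg3 zg41) (kg xg15 yg9 zg31) (kg xg15 yg9 zg32) (kg xg14 yg16 zg20) (kg xg14 yg16 zg21) (kg xg15 yg12 zg11) (kg xg15 yg13 zg17) (kg xg16 yg23 zg13) (kg xg16 yg23 zg8) (kg xg16 yg23 zg9) (kg xg15 yg8 zg38) (kg xg15 yg8 zg21) (kg xg15 yg7 zg35) (kg xg15 yg3 zg49) (kg xg15 yg9 zg35) (kg xg15 yg22 zg17) (kg xg14 yg16 zg28) (kg xg16 yg23 zg23) (kg xg15 yg22 zg20) (kg xg14 yg16 zg34) (kg xg15 yg4 zg3) (kg xg14 yg16 zg35) (kg xg16 yg23 zg26) (kg xg16 yg23 zg28) (kg xg14 yg16 zg41) (kg xg14 yg16 zg42) (kg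 xg16 yg23 zg0) (kg xg15 yg12 zg12) (kg xg15 yg13 zg18) (kg xg14 yg16 zg40) (kg xg16 yg23 zg33) (kg xg16 yg23 zg29) (kg xg14 yg19 zg45) (kg xg15 yg9 zg39) (kg xg15 yg9 zg40) (kg xg15 yg4 zg21) (kg xg14 yg19 zg8) (kg xg14 yg19 zg47) (kg xg15 yg4 zg24) (kg xg15 yg9 zg41) (kg xg15 yg9 zg42) (kg xg15 yg4 zg26) (kg xg15 yg9 zg43) (kg xg16 yg23 zg1) (kg xg15 yg22 zg46) (kg xg15 yg22 zg47) (kg xg14 yg17 zg4) (kg xg16 yg24 zg1) (kg xg15 yg22 zg50)) (@D3.rec (fun _ => Pt) (kg xg14 yg17 zg12) (kg xg15 yg4 zg34) (kg xg14 yg17 zg13) (kg xg14 yg17 zg14) (kg xg15 yg4 zg36) (kg xg14 yg17 zg15) (kg xg16 yg24 zg5) (kg xg16 yg24 zg6) (kg xg16 yg24 zg10) (kg xg14 yg17 zg17) (kg xg16 yg24 zg11) (kg xg15 yg23 zg11) (kg xg15 yg4 zg42) (kg xg15 yg4 zg43) (kg xg14 yg17 zg21) (kg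 xg15 yg13 zg19) (kg xg14 yg19 zg7) (kg xg14 yg19 zg46) (kg xg14 yg21 zg5) (kg xg15 yg9 zg50) (kg xg14 yg19 zg9) (kg xg14 yg19 zg48) (kg xg14 yg21 zg6) (kg xg15 yg10 zg0) (kg xg15 yg23 zg24) (kg xg16 yg24 zg14) (kg xg15 yg2 zg18) (kg xg15 yg2 zg19) (kg xg15 yg2 zg48) (kg xg15 yg3 zg5) (kg xg15 yg23 zg30) (kg xg14 yg17 zg43) (kg xg14 yg17 zg44) (kg xg14 yg17 zg45) (kg xg16 yg24 zg29) (kg xg16 yg24 zg30) (kg xg16 yg24 zg32) (kg xg16 yg24 zg33) (kg xg15 yg2 zg22) (kg xg15 yg2 zg30) (kg xg15 yg2 zg34) (kg xg15 yg2 zg11) (kg xg15 yg10 zg7) (kg xg15 yg23 zg43) (kg xg14 yg18 zg5) (kg xg15 yg2 zg14) (kg xg14 yg18 zg6) (kg xg15 yg2 zg17) (kg xg15 yg16 zg34) (kg xg15 yg9 zg33) (kg xg15 yg9 zg34)) (@D3.rec (fun _ => Pt) (kg xg16 yg22 zg49) (kg xg16 yg22 zg50) (kg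 xg15 yg10 zg8) (kg xg15 yg10 zg9) (kg xg15 yg10 zg10) (kg xg15 yg16 zg36) (kg xg15 yg10 zg11) (kg xg14 yg18 zg22) (kg xg15 yg16 zg49) (kg xg14 yg18 zg23) (kg xg15 yg0 zg37) (kg xg14 yg18 zg26) (kg xg14 yg18 zg27) (kg xg16 yg25 zg4) (kg xg15 yg10 zg34) (kg xg15 yg10 zg35) (kg xg15 yg0 zg25) (kg xg14 yg18 zg31) (kg xg16 yg25 zg9) (kg xg15 yg10 zg37) (kg xg15 yg1 zg30) (kg xg14 yg18 zg36) (kg xg16 yg25 zg13) (kg xg15 yg24 zg23) (kg xg14 yg18 zg40) (kg xg15 yg1 zg31) (kg xg14 yg18 zg43) (kg xg16 yg25 zg17) (kg xg15 yg24 zg28) (kg xg15 yg11 zg9) (kg xg15 yg12 zg42) (kg xg15 yg18 zg8) (kg xg15 yg18 zg21) (kg xg16 yg25 zg24) (kg xg15 yg18 zg12) (kg xg15 yg18 zg24) (kg xg15 yg11 zg15) (kg xg15 yg11 zg16) (kg xg15 yg11 zg17) (kg xg15 yg11 zg18) (kg xg15 yg17 zg37)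 (kg xg15 yg11 zg19) (kg xg15 yg11 zg20) (kg xg15 yg17 zg40) (kg xg15 yg11 zg21) (kg xg16 yg25 zg37) (kg xg14 yg19 zg11) (kg xg14 yg19 zg12) (kg xg16 yg23 zg36) (kg xg16 yg24 zg17) (kg xg16 yg23 zg16)) (@D3.rec (fun _ => Pt) (kg xg16 yg23 zg42) (kg xg16 yg24 zg21) (kg xg14 yg19 zg10) (kg xg16 yg25 zg45) (kg xg16 yg25 zg39) (kg xg15 yg11 zg32) (kg xg15 yg11 zg34) (kg xg15 yg11 zg35) (kg xg15 yg5 zg24) (kg xg15 yg11 zg37) (kg xg15 yg11 zg38) (kg xg15 yg17 zg16) (kg xg15 yg11 zg40) (kg xg15 yg11 zg41) (kg xg15 yg17 zg49) (kg xg14 yg19 zg20) (kg xg16 yg26 zg7) (kg xg15 yg11 zg44) (kg xg15 yg25 zg18) (kg xg15 yg25 zg19) (kg xg14 yg19 zg25) (kg xg16 yg26 zg12) (kg xg15 yg25 zg22) (kg xg14 yg19 zg35) (kg xg15 yg17 zg17) (kg xg14 yg19 zg36) (kg xg15 yg19 zg49)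 (kg xg14 yg19 zg33) (kg xg16 yg26 zg17) (kg xg14 yg19 zg40) (kg xg15 yg25 zg30) (kg xg14 yg19 zg39) (kg xg14 yg19 zg41) (kg xg16 yg26 zg22) (kg xg14 yg20 zg0) (kg xg15 yg11 zg36) (kg xg15 yg19 zg38) (kg xg16 yg23 zg37) (kg xg16 yg24 zg18) (kg xg16 yg23 zg43) (kg xg16 yg24 zg22) (kg xg14 yg20 zg13) (kg xg14 yg19 zg50) (kg xg16 yg26 zg32) (kg xg16 yg26 zg24) (kg xg15 yg5 zg4) (kg xg15 yg12 zg19) (kg xg15 yg12 zg20) (kg xg15 yg12 zg22) (kg xg15 yg12 zg23) (kg xg15 yg17 zg47)) (@D3.rec (fun _ => Pt) (kg xg15 yg12 zg26) (kg xg15 yg12 zg27) (kg xg15 yg12 zg31) (kg xg15 yg12 zg32) (kg xg15 yg4 zg11) (kg xg14 yg20 zg10) (kg xg16 yg26 zg46) (kg xg15 yg12 zg36) (kg xg15 yg12 zg37) (kg xg16 yg26 zg31) (kg xg14 yg20 zg15) (kg xg17 yg0 zg1) (kg xg15 yg12 zg41) (kg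 xg15 yg26 zg13) (kg xg15 yg26 zg14) (kg xg15 yg26 zg15) (kg xg14 yg20 zg32) (kg xg14 yg20 zg22) (kg xg17 yg0 zg9) (kg xg15 yg26 zg19) (kg xg14 yg20 zg36) (kg xg15 yg17 zg48) (kg xg14 yg20 zg37) (kg xg15 yg4 zg45) (kg xg14 yg20 zg30) (kg xg17 yg0 zg15) (kg xg17 yg0 zg8) (kg xg14 yg20 zg34) (kg xg16 yg26 zg37) (kg xg17 yg0 zg17) (kg xg14 yg20 zg43) (kg xg15 yg26 zg31) (kg xg14 yg20 zg40) (kg xg15 yg26 zg33) (kg xg14 yg20 zg48) (kg xg14 yg20 zg46) (kg xg15 yg19 zg46) (kg xg17 yg0 zg21) (kg xg15 yg26 zg38) (kg xg17 yg0 zg20) (kg xg14 yg20 zg50) (kg xg14 yg21 zg0) (kg xg15 yg10 zg4) (kg xg17 yg0 zg26) (kg xg15 yg26 zg44) (kg xg15 yg19 zg39) (kg xg16 yg24 zg19) (kg xg16 yg24 zg23) (kg xg15 yg5 zg5) (kg xg15 yg8 zg24) (kg xg15 yg13 zg21))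
def f_g_16 : D2 → D3 → Pt := @D2.rec (fun _ => D3 → Pt) (@D3.rec (fun _ => Pt) (kg xg15 yg13 zg22) (kg xg15 yg13 zg23) (kg xg15 yg13 zg24) (kg xg15 yg13 zg25) (kg xg15 yg13 zg26) (kg xg15 yg13 zg27) (kg xg17 yg0 zg40) (kg xg16 yg0 zg7) (kg xg17 yg0 zg41) (kg xg15 yg3 zg16) (kg xg14 yg21 zg22) (kg xg14 yg21 zg28) (kg xg14 yg21 zg32) (kg xg14 yg21 zg43) (kg xg14 yg21 zg41) (kg xg14 yg22 zg3) (kg xg14 yg21 zg49) (kg xg14 yg21 zg47) (kg xg15 yg8 zg40) (kg xg17 yg0 zg43) (kg xg14 yg22 zg6) (kg xg17 yg0 zg42) (kg xg15 yg13 zg41) (kg xg14 yg22 zg22) (kg xg15 yg13 zg44) (kg xg14 yg22 zg21) (kg xg14 yg22 zg13) (kg xg17 yg0 zg46) (kg xg14 yg25 zg27) (kg xg14 yg22 zg12) (kg xg14 yg22 zg20) (kg xg14 yg22 zg19) (kg xg17 yg0 zg47) (kg xg17 yg0 zg45) (kg xg14 yg22 zg32)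 (kg xg15 yg13 zg46) (kg xg17 yg0 zg48) (kg xg14 yg22 zg48) (kg xg14 yg22 zg45) (kg xg15 yg13 zg36) (kg xg14 yg22 zg50) (kg xg14 yg22 zg33) (kg xg14 yg22 zg35) (kg xg15 yg13 zg33) (kg xg16 yg22 zg6) (kg xg17 yg0 zg50) (kg xg15 yg13 zg40) (kg xg17 yg0 zg49) (kg xg15 yg13 zg42) (kg xg14 yg22 zg44) (kg xg15 yg13 zg34)) (@D3.rec (fun _ => Pt) (kg xg15 yg13 zg35) (kg xg16 yg22 zg4) (kg xg17 yg1 zg3) (kg xg17 yg1 zg2) (kg xg17 yg1 zg1) (kg xg14 yg25 zg18) (kg xg14 yg25 zg19) (kg xg15 yg8 zg47) (kg xg15 yg8 zg49) (kg xg14 yg24 zg29) (kg xg14 yg25 zg0) (kg xg14 yg25 zg1) (kg xg15 yg0 zg34) (kg xg15 yg1 zg3) (kg xg15 yg9 zg6) (kg xg15 yg13 zg47) (kg xg15 yg13 zg48) (kg xg14 yg24 zg6) (kg xg14 yg23 zg17) (kg xg15 yg9 zg18) (kg xg14 yg23 zg18) (kg xg17 yg1 zg15) (kg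 xg17 yg1 zg17) (kg xg14 yg23 zg21) (kg xg14 yg23 zg22) (kg xg17 yg1 zg18) (kg xg17 yg1 zg19) (kg xg15 yg14 zg0) (kg xg15 yg14 zg1) (kg xg15 yg15 zg15) (kg xg15 yg14 zg2) (kg xg14 yg23 zg33) (kg xg15 yg15 zg16) (kg xg14 yg23 zg34) (kg xg15 yg15 zg46) (kg xg15 yg14 zg6) (kg xg15 yg2 zg27) (kg xg15 yg2 zg32) (kg xg15 yg16 zg7) (kg xg15 yg10 zg5) (kg xg15 yg10 zg6) (kg xg15 yg15 zg23) (kg xg15 yg15 zg38) (kg xg14 yg26 zg43) (kg xg14 yg26 zg44) (kg xg15 yg14 zg9) (kg xg15 yg14 zg10) (kg xg15 yg14 zg11) (kg xg14 yg23 zg47) (kg xg17 yg1 zg40) (kg xg15 yg14 zg12)) (@D3.rec (fun _ => Pt) (kg xg14 yg24 zg5) (kg xg14 yg24 zg7) (kg xg14 yg24 zg3) (kg xg17 yg1 zg45) (kg xg14 yg24 zg10) (kg xg17 yg1 zg43) (kg xg17 yg1 zg44) (kg xg14 yg24 zg9) (kg xg17 yg1 zg48) (kg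 xg17 yg1 zg47) (kg xg14 yg24 zg13) (kg xg14 yg24 zg14) (kg xg17 yg1 zg49) (kg xg15 yg0 zg27) (kg xg15 yg0 zg28) (kg xg15 yg14 zg19) (kg xg15 yg14 zg21) (kg xg15 yg14 zg22) (kg xg14 yg24 zg21) (kg xg17 yg2 zg5) (kg xg15 yg14 zg24) (kg xg14 yg24 zg30) (kg xg14 yg24 zg33) (kg xg14 yg24 zg26) (kg xg17 yg2 zg9) (kg xg14 yg24 zg36) (kg xg14 yg24 zg32) (kg xg14 yg24 zg35) (kg xg14 yg24 zg38) (kg xg15 yg16 zg5) (kg xg17 yg2 zg12) (kg xg15 yg1 zg32) (kg xg15 yg14 zg32) (kg xg15 yg14 zg33) (kg xg15 yg14 zg34) (kg xg16 yg22 zg46) (kg xg15 yg13 zg49) (kg xg15 yg13 zg50) (kg xg17 yg1 zg9) (kg xg17 yg1 zg10) (kg xg15 yg0 zg26) (kg xg15 yg0 zg48) (kg xg15 yg14 zg17) (kg xg15 yg14 zg20) (kg xg15 yg14 zg25) (kg xg15 yg14 zg23) (kg xg14 yg25 zg10) (kg xg14 yg25 zg11) (kg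 xg15 yg1 zg48) (kg xg15 yg1 zg49) (kg xg15 yg10 zg23)) (@D3.rec (fun _ => Pt) (kg xg15 yg10 zg39) (kg xg15 yg10 zg17) (kg xg15 yg10 zg26) (kg xg15 yg10 zg42) (kg xg15 yg0 zg22) (kg xg16 yg22 zg19) (kg xg17 yg1 zg6) (kg xg17 yg1 zg7) (kg xg14 yg26 zg45) (kg xg15 yg0 zg7) (kg xg15 yg14 zg37) (kg xg15 yg0 zg44) (kg xg15 yg14 zg38) (kg xg15 yg14 zg39) (kg xg16 yg22 zg7) (kg xg15 yg14 zg40) (kg xg14 yg26 zg13) (kg xg14 yg25 zg34) (kg xg15 yg1 zg10) (kg xg14 yg25 zg35) (kg xg14 yg25 zg36) (kg xg16 yg22 zg9) (kg xg14 yg25 zg37) (kg xg17 yg2 zg46) (kg xg17 yg2 zg48) (kg xg17 yg2 zg50) (kg xg14 yg25 zg43) (kg xg14 yg25 zg44) (kg xg16 yg22 zg36) (kg xg16 yg22 zg40) (kg xg14 yg25 zg42) (kg xg17 yg3 zg2) (kg xg17 yg3 zg0) (kg xg14 yg26 zg3) (kg xg15 yg0 zg29) (kg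 xg15 yg1 zg0) (kg xg16 yg22 zg13) (kg xg15 yg14 zg46) (kg xg15 yg14 zg47) (kg xg16 yg22 zg15) (kg xg15 yg14 zg48) (kg xg17 yg3 zg5) (kg xg14 yg26 zg12) (kg xg14 yg26 zg14) (kg xg16 yg22 zg21) (kg xg14 yg26 zg15) (kg xg14 yg26 zg16) (kg xg16 yg22 zg22) (kg xg14 yg26 zg17) (kg xg17 yg3 zg13) (kg xg17 yg3 zg14)) (@D3.rec (fun _ => Pt) (kg xg17 yg3 zg16) (kg xg17 yg3 zg17) (kg xg14 yg26 zg19) (kg xg16 yg22 zg24) (kg xg16 yg22 zg25) (kg xg15 yg1 zg23) (kg xg15 yg14 zg50) (kg xg14 yg26 zg30) (kg xg14 yg26 zg31) (kg xg17 yg3 zg22) (kg xg15 yg12 zg33) (kg xg15 yg13 zg5) (kg xg16 yg26 zg21) (kg xg15 yg12 zg38) (kg xg15 yg13 zg9) (kg xg15 yg12 zg7) (kg xg15 yg12 zg45) (kg xg15 yg12 zg10) (kg xg15 yg12 zg2) (kg xg15 yg12 zg13) (kg xg15 yg12 zg48) (kg xg15 yg12 zg5)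 (kg xg15 yg12 zg16) (kg xg14 yg26 zg46) (kg xg14 yg26 zg47) (kg xg15 yg4 zg8) (kg xg17 yg1 zg35) (kg xg17 yg1 zg36) (kg xg17 yg2 zg38) (kg xg17 yg3 zg41) (kg xg15 yg2 zg38) (kg xg15 yg15 zg1) (kg xg15 yg15 zg2) (kg xg15 yg15 zg3) (kg xg15 yg15 zg4) (kg xg16 yg22 zg11) (kg xg15 yg15 zg5) (kg xg15 yg15 zg6) (kg xg15 yg0 zg4) (kg xg17 yg4 zg5) (kg xg15 yg15 zg7) (kg xg15 yg14 zg14) (kg xg17 yg2 zg39) (kg xg15 yg14 zg42) (kg xg15 yg0 zg16) (kg xg16 yg22 zg17) (kg xg15 yg0 zg17) (kg xg15 yg0 zg18) (kg xg15 yg0 zg14) (kg xg17 yg4 zg12) (kg xg15 yg0 zg21)) (@D3.rec (fun _ => Pt) (kg xg17 yg4 zg9) (kg xg15 yg0 zg20) (kg xg17 yg2 zg35) (kg xg15 yg0 zg30) (kg xg17 yg2 zg20) (kg xg15 yg16 zg24) (kg xg16 yg25 zg8) (kg xg17 yg2 zg21) (kg xg17 yg2 zg0) (kg xg17 yg2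 zg1) (kg xg17 yg3 zg6) (kg xg17 yg4 zg16) (kg xg15 yg2 zg50) (kg xg15 yg15 zg20) (kg xg15 yg15 zg21) (kg xg16 yg24 zg31) (kg xg15 yg3 zg27) (kg xg15 yg15 zg22) (kg xg17 yg1 zg11) (kg xg15 yg15 zg24) (kg xg15 yg15 zg25) (kg xg16 yg22 zg48) (kg xg16 yg25 zg3) (kg xg15 yg15 zg26) (kg xg15 yg15 zg27) (kg xg15 yg0 zg41) (kg xg17 yg4 zg38) (kg xg15 yg15 zg30) (kg xg15 yg15 zg31) (kg xg17 yg2 zg41) (kg xg15 yg0 zg46) (kg xg17 yg4 zg44) (kg xg15 yg15 zg35) (kg xg17 yg2 zg22) (kg xg15 yg14 zg28) (kg xg17 yg3 zg7) (kg xg17 yg1 zg12) (kg xg15 yg1 zg14) (kg xg15 yg1 zg15) (kg xg15 yg1 zg7) (kg xg17 yg5 zg2) (kg xg15 yg1 zg18) (kg xg15 yg1 zg19) (kg xg17 yg5 zg6) (kg xg17 yg2 zg47) (kg xg15 yg1 zg12) (kg xg17 yg5 zg1) (kg xg17 yg5 zg7) (kg xg15 yg1 zg20) (kg xg17 yg5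 zg0) (kg xg15 yg1 zg17)) (@D3.rec (fun _ => Pt) (kg xg17 yg3 zg23) (kg xg15 yg1 zg25) (kg xg15 yg1 zg26) (kg xg15 yg1 zg45) (kg xg17 yg5 zg9) (kg xg15 yg16 zg44) (kg xg16 yg25 zg12) (kg xg16 yg25 zg16) (kg xg17 yg2 zg14) (kg xg15 yg3 zg6) (kg xg15 yg3 zg14) (kg xg15 yg3 zg28) (kg xg15 yg15 zg49) (kg xg15 yg15 zg50) (kg xg15 yg16 zg0) (kg xg15 yg16 zg1) (kg xg15 yg16 zg2) (kg xg15 yg13 zg16) (kg xg15 yg16 zg3) (kg xg17 yg5 zg10) (kg xg17 yg2 zg27) (kg xg17 yg2 zg28) (kg xg15 yg10 zg33) (kg xg15 yg10 zg44) (kg xg15 yg10 zg36) (kg xg16 yg6 zg25) (kg xg15 yg2 zg6) (kg xg15 yg2 zg9) (kg xg15 yg2 zg10) (kg xg17 yg5 zg30) (kg xg16 yg24 zg40) (kg xg15 yg16 zg11) (kg xg16 yg6 zg32) (kg xg16 yg24 zg43) (kg xg16 yg24 zg44) (kg xg17 yg1 zg28) (kg xg16 yg24 zg26) (kg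 xg16 yg24 zg27) (kg xg15 yg2 zg43) (kg xg15 yg3 zg3) (kg xg16 yg24 zg37) (kg xg15 yg16 zg12) (kg xg17 yg1 zg29) (kg xg15 yg2 zg28) (kg xg15 yg2 zg29) (kg xg17 yg1 zg30) (kg xg17 yg5 zg42) (kg xg16 yg24 zg38) (kg xg15 yg16 zg17) (kg xg17 yg1 zg31) (kg xg16 yg6 zg50)) (@D3.rec (fun _ => Pt) (kg xg16 yg24 zg39) (kg xg15 yg2 zg41) (kg xg15 yg2 zg42) (kg xg17 yg3 zg48) (kg xg15 yg2 zg44) (kg xg17 yg5 zg49) (kg xg17 yg5 zg37) (kg xg17 yg6 zg0) (kg xg15 yg16 zg37) (kg xg15 yg16 zg39) (kg xg16 yg24 zg28) (kg xg15 yg16 zg41) (kg xg17 yg4 zg26) (kg xg15 yg3 zg1) (kg xg17 yg6 zg9) (kg xg15 yg16 zg43) (kg xg17 yg5 zg38) (kg xg17 yg5 zg15) (kg xg15 yg3 zg8) (kg xg17 yg0 zg13) (kg xg17 yg6 zg15) (kg xg16 yg7 zg21) (kg xg15 yg3 zg13) (kg xg17 yg6 zg17) (kg xg17 yg5 zg16)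 (kg xg15 yg3 zg17) (kg xg17 yg0 zg36) (kg xg15 yg16 zg28) (kg xg15 yg17 zg1) (kg xg15 yg16 zg16) (kg xg15 yg3 zg29) (kg xg15 yg3 zg30) (kg xg17 yg4 zg29) (kg xg17 yg5 zg17) (kg xg17 yg6 zg22) (kg xg15 yg16 zg38) (kg xg15 yg16 zg40) (kg xg15 yg17 zg0) (kg xg15 yg16 zg42) (kg xg16 yg7 zg39) (kg xg17 yg4 zg17) (kg xg15 yg16 zg25) (kg xg15 yg16 zg26) (kg xg16 yg23 zg3) (kg xg15 yg17 zg3) (kg xg15 yg17 zg4) (kg xg16 yg23 zg6) (kg xg15 yg17 zg5) (kg xg17 yg3 zg42) (kg xg15 yg3 zg47) (kg xg15 yg3 zg48)) (@D3.rec (fun _ => Pt) (kg xg15 yg3 zg46) (kg xg17 yg6 zg39) (kg xg17 yg6 zg38) (kg xg16 yg23 zg20) (kg xg15 yg17 zg7) (kg xg15 yg4 zg1) (kg xg17 yg6 zg44) (kg xg16 yg8 zg7) (kg xg16 yg23 zg27) (kg xg15 yg4 zg5) (kg xg17 yg3 zg26) (kg xg15 yg4 zg13) (kg xg15 yg4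 zg14) (kg xg17 yg3 zg43) (kg xg15 yg4 zg17) (kg xg17 yg3 zg27) (kg xg16 yg26 zg45) (kg xg15 yg4 zg12) (kg xg17 yg7 zg4) (kg xg17 yg6 zg50) (kg xg15 yg4 zg16) (kg xg17 yg7 zg7) (kg xg17 yg7 zg1) (kg xg15 yg6 zg28) (kg xg15 yg17 zg18) (kg xg15 yg17 zg19) (kg xg16 yg23 zg40) (kg xg16 yg23 zg41) (kg xg15 yg17 zg20) (kg xg15 yg17 zg21) (kg xg16 yg23 zg44) (kg xg15 yg17 zg22) (kg xg16 yg23 zg47) (kg xg15 yg17 zg23) (kg xg15 yg4 zg29) (kg xg17 yg7 zg22) (kg xg16 yg8 zg36) (kg xg15 yg4 zg32) (kg xg17 yg7 zg25) (kg xg16 yg8 zg39) (kg xg16 yg24 zg4) (kg xg15 yg4 zg38) (kg xg16 yg24 zg8) (kg xg16 yg24 zg9) (kg xg15 yg4 zg40) (kg xg17 yg7 zg31) (kg xg17 yg7 zg32) (kg xg16 yg24 zg15) (kg xg17 yg0 zg14) (kg xg15 yg5 zg25) (kg xg15 yg7 zg14)) (@D3.rec (fun _ => Pt) (kg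 xg15 yg17 zg25) (kg xg15 yg17 zg26) (kg xg15 yg5 zg7) (kg xg15 yg5 zg8) (kg xg15 yg5 zg35) (kg xg15 yg19 zg15) (kg xg15 yg17 zg50) (kg xg16 yg26 zg35) (kg xg17 yg0 zg31) (kg xg15 yg5 zg6) (kg xg17 yg7 zg43) (kg xg17 yg7 zg37) (kg xg15 yg17 zg27) (kg xg15 yg17 zg28) (kg xg15 yg17 zg29) (kg xg16 yg25 zg20) (kg xg15 yg17 zg30) (kg xg15 yg17 zg31) (kg xg16 yg25 zg18) (kg xg15 yg17 zg32) (kg xg15 yg17 zg33) (kg xg15 yg5 zg13) (kg xg17 yg8 zg4) (kg xg15 yg17 zg34) (kg xg15 yg17 zg35) (kg xg15 yg5 zg17) (kg xg17 yg8 zg8) (kg xg15 yg17 zg36) (kg xg15 yg5 zg27) (kg xg15 yg5 zg28) (kg xg15 yg5 zg21) (kg xg17 yg8 zg12) (kg xg15 yg5 zg31) (kg xg16 yg26 zg0) (kg xg17 yg7 zg35) (kg xg15 yg5 zg26) (kg xg17 yg8 zg16) (kg xg17 yg8 zg11) (kg xg15 yg5 zg41) (kg xg15 yg5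 zg30) (kg xg17 yg8 zg20) (kg xg17 yg8 zg14) (kg xg15 yg18 zg0) (kg xg15 yg18 zg2) (kg xg16 yg25 zg27) (kg xg17 yg7 zg38) (kg xg15 yg18 zg6) (kg xg15 yg18 zg7) (kg xg15 yg5 zg39) (kg xg17 yg8 zg29) (kg xg15 yg18 zg11)) (@D3.rec (fun _ => Pt) (kg xg17 yg8 zg19) (kg xg15 yg5 zg43) (kg xg17 yg8 zg33) (kg xg15 yg18 zg15) (kg xg15 yg5 zg47) (kg xg17 yg8 zg37) (kg xg16 yg10 zg6) (kg xg15 yg6 zg6) (kg xg15 yg6 zg0) (kg xg17 yg8 zg40) (kg xg16 yg10 zg10) (kg xg15 yg19 zg41) (kg xg15 yg6 zg4) (kg xg17 yg0 zg18) (kg xg17 yg8 zg39) (kg xg15 yg6 zg8) (kg xg17 yg8 zg47) (kg xg17 yg8 zg48) (kg xg15 yg6 zg15) (kg xg16 yg10 zg19) (kg xg16 yg10 zg20) (kg xg15 yg6 zg14) (kg xg15 yg6 zg29) (kg xg15 yg6 zg30) (kg xg15 yg6 zg33) (kg xg15 yg6 zg19) (kg xg17 yg9 zg3) (kg xg15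 yg6 zg36) (kg xg15 yg6 zg37) (kg xg15 yg6 zg23) (kg xg17 yg9 zg7) (kg xg15 yg6 zg41) (kg xg15 yg17 zg44) (kg xg15 yg19 zg48) (kg xg15 yg12 zg29) (kg xg15 yg8 zg14) (kg xg17 yg7 zg10) (kg xg17 yg9 zg1) (kg xg15 yg8 zg13) (kg xg15 yg6 zg31) (kg xg15 yg12 zg21) (kg xg17 yg9 zg14) (kg xg15 yg17 zg12) (kg xg17 yg9 zg2) (kg xg15 yg7 zg4) (kg xg15 yg6 zg35) (kg xg17 yg9 zg20) (kg xg17 yg9 zg5) (kg xg17 yg9 zg6) (kg xg15 yg7 zg9) (kg xg15 yg6 zg40)) (@D3.rec (fun _ => Pt) (kg xg17 yg9 zg25) (kg xg17 yg9 zg9) (kg xg15 yg18 zg44) (kg xg15 yg6 zg44) (kg xg17 yg9 zg30) (kg xg15 yg18 zg38) (kg xg15 yg6 zg47) (kg xg17 yg9 zg33) (kg xg15 yg18 zg49) (kg xg15 yg18 zg35) (kg xg17 yg2 zg30) (kg xg15 yg7 zg0) (kg xg15 yg7 zg1) (kg xg17 yg9 zg38) (kg xg17 yg9 zg39) (kg xg15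 yg19 zg3) (kg xg15 yg19 zg4) (kg xg17 yg9 zg19) (kg xg15 yg7 zg6) (kg xg17 yg9 zg46) (kg xg15 yg19 zg8) (kg xg15 yg19 zg9) (kg xg16 yg23 zg18) (kg xg17 yg9 zg24) (kg xg15 yg7 zg11) (kg xg17 yg10 zg2) (kg xg17 yg10 zg3) (kg xg15 yg19 zg14) (kg xg17 yg7 zg36) (kg xg16 yg11 zg29) (kg xg15 yg7 zg30) (kg xg15 yg7 zg19) (kg xg17 yg10 zg9) (kg xg16 yg11 zg33) (kg xg16 yg11 zg34) (kg xg15 yg7 zg36) (kg xg15 yg7 zg24) (kg xg17 yg10 zg13) (kg xg17 yg10 zg14) (kg xg16 yg11 zg39) (kg xg15 yg19 zg44) (kg xg15 yg7 zg28) (kg xg16 yg26 zg18) (kg xg17 yg10 zg8) (kg xg15 yg7 zg32) (kg xg17 yg8 zg49) (kg xg17 yg10 zg21) (kg xg16 yg23 zg19) (kg xg17 yg10 zg12) (kg xg15 yg7 zg38) (kg xg15 yg7 zg39)) (@D3.rec (fun _ => Pt) (kg xg15 yg13 zg8) (kg xg17 yg10 zg26) (kg xg15 yg7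 zg48) (kg xg16 yg12 zg3) (kg xg16 yg12 zg4) (kg xg15 yg7 zg45) (kg xg16 yg12 zg6) (kg xg15 yg8 zg3) (kg xg15 yg8 zg0) (kg xg15 yg8 zg1) (kg xg17 yg10 zg34) (kg xg17 yg10 zg35) (kg xg16 yg12 zg12) (kg xg17 yg10 zg32) (kg xg17 yg10 zg33) (kg xg15 yg8 zg7) (kg xg15 yg11 zg14) (kg xg15 yg13 zg28) (kg xg17 yg10 zg41) (kg xg15 yg17 zg13) (kg xg15 yg17 zg43) (kg xg15 yg12 zg9) (kg xg15 yg18 zg34) (kg xg15 yg12 zg8) (kg xg16 yg23 zg17) (kg xg15 yg19 zg35) (kg xg15 yg20 zg3) (kg xg17 yg0 zg32) (kg xg15 yg19 zg40) (kg xg15 yg19 zg42) (kg xg15 yg19 zg43) (kg xg15 yg19 zg45) (kg xg15 yg19 zg47) (kg xg15 yg19 zg50) (kg xg15 yg20 zg0) (kg xg15 yg11 zg27) (kg xg15 yg17 zg42) (kg xg15 yg11 zg26) (kg xg16 yg23 zg2) (kg xg15 yg13 zg39) (kg xg17 yg0 zg44) (kg xg16 yg22 zg8)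 (kg xg16 yg22 zg16) (kg xg16 yg22 zg26) (kg xg17 yg1 zg8) (kg xg16 yg22 zg27) (kg xg16 yg22 zg30) (kg xg15 yg9 zg5) (kg xg16 yg22 zg12) (kg xg17 yg11 zg11) (kg xg17 yg1 zg13)) (@D3.rec (fun _ => Pt) (kg xg15 yg14 zg16) (kg xg15 yg17 zg10) (kg xg15 yg9 zg36) (kg xg15 yg9 zg12) (kg xg17 yg11 zg18) (kg xg16 yg22 zg35) (kg xg15 yg9 zg15) (kg xg17 yg11 zg21) (kg xg16 yg22 zg39) (kg xg17 yg1 zg16) (kg xg15 yg9 zg24) (kg xg15 yg9 zg21) (kg xg17 yg11 zg25) (kg xg15 yg9 zg26) (kg xg16 yg23 zg4) (kg xg16 yg23 zg5) (kg xg16 yg23 zg7) (kg xg16 yg24 zg46) (kg xg16 yg23 zg21) (kg xg17 yg11 zg17) (kg xg15 yg11 zg39) (kg xg15 yg11 zg50) (kg xg16 yg23 zg38) (kg xg16 yg23 zg39) (kg xg16 yg23 zg45) (kg xg16 yg23 zg46) (kg xg16 yg23 zg48) (kg xg16 yg13 zg27) (kg xg16 yg13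 zg28) (kg xg16 yg24 zg20) (kg xg17 yg0 zg27) (kg xg17 yg11 zg39) (kg xg17 yg1 zg33) (kg xg16 yg24 zg41) (kg xg16 yg24 zg48) (kg xg16 yg24 zg49) (kg xg16 yg24 zg50) (kg xg16 yg25 zg1) (kg xg16 yg13 zg38) (kg xg15 yg10 zg20) (kg xg15 yg10 zg21) (kg xg15 yg10 zg24) (kg xg15 yg10 zg25) (kg xg17 yg2 zg33) (kg xg15 yg10 zg27) (kg xg17 yg11 zg46) (kg xg17 yg11 zg47) (kg xg17 yg2 zg29) (kg xg15 yg19 zg5) (kg xg17 yg2 zg31) (kg xg17 yg11 zg48)) (@D3.rec (fun _ => Pt) (kg xg17 yg11 zg49) (kg xg17 yg2 zg34) (kg xg17 yg12 zg0) (kg xg15 yg18 zg33) (kg xg15 yg19 zg10) (kg xg15 yg19 zg30) (kg xg15 yg18 zg28) (kg xg15 yg18 zg36) (kg xg17 yg5 zg26) (kg xg16 yg25 zg6) (kg xg16 yg25 zg7) (kg xg17 yg5 zg28) (kg xg16 yg25 zg11) (kg xg16 yg14 zg13) (kg xg17 yg2 zg32) (kg xg16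 yg14 zg15) (kg xg16 yg14 zg16) (kg xg15 yg10 zg47) (kg xg17 yg5 zg27) (kg xg17 yg10 zg27) (kg xg15 yg10 zg50) (kg xg15 yg11 zg2) (kg xg17 yg12 zg26) (kg xg15 yg19 zg27) (kg xg15 yg20 zg13) (kg xg17 yg12 zg27) (kg xg15 yg19 zg17) (kg xg15 yg20 zg17) (kg xg15 yg20 zg23) (kg xg15 yg19 zg19) (kg xg15 yg20 zg18) (kg xg17 yg10 zg42) (kg xg16 yg14 zg32) (kg xg17 yg12 zg39) (kg xg15 yg20 zg20) (kg xg16 yg25 zg28) (kg xg16 yg25 zg29) (kg xg16 yg25 zg30) (kg xg16 yg25 zg31) (kg xg16 yg25 zg33) (kg xg16 yg25 zg34) (kg xg16 yg25 zg36) (kg xg15 yg11 zg28) (kg xg15 yg11 zg29) (kg xg15 yg11 zg30) (kg xg15 yg11 zg31) (kg xg16 yg25 zg21) (kg xg17 yg11 zg4) (kg xg17 yg10 zg45) (kg xg16 yg23 zg10) (kg xg17 yg12 zg47)) (@D3.rec (fun _ => Pt) (kg xg17 yg12 zg48) (kg xg17 yg12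 zg49) (kg xg17 yg12 zg50) (kg xg16 yg25 zg48) (kg xg15 yg18 zg43) (kg xg16 yg25 zg49) (kg xg16 yg25 zg50) (kg xg16 yg26 zg25) (kg xg16 yg26 zg1) (kg xg16 yg26 zg2) (kg xg17 yg11 zg33) (kg xg16 yg26 zg4) (kg xg16 yg26 zg5) (kg xg15 yg11 zg43) (kg xg17 yg13 zg18) (kg xg16 yg26 zg9) (kg xg16 yg15 zg16) (kg xg15 yg19 zg23) (kg xg17 yg3 zg36) (kg xg15 yg12 zg14) (kg xg15 yg12 zg15) (kg xg17 yg3 zg39) (kg xg15 yg12 zg17) (kg xg17 yg3 zg32) (kg xg17 yg10 zg47) (kg xg17 yg5 zg21) (kg xg17 yg3 zg34) (kg xg17 yg3 zg35) (kg xg16 yg23 zg11) (kg xg16 yg23 zg31) (kg xg17 yg3 zg37) (kg xg17 yg13 zg22) (kg xg17 yg13 zg23) (kg xg17 yg3 zg40) (kg xg17 yg13 zg25) (kg xg15 yg18 zg1) (kg xg16 yg26 zg36) (kg xg17 yg9 zg15) (kg xg16 yg26 zg38) (kg xg16 yg26 zg39) (kg xg15 yg12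 zg25) (kg xg17 yg13 zg44) (kg xg16 yg26 zg41) (kg xg16 yg26 zg42) (kg xg15 yg12 zg30) (kg xg17 yg9 zg11) (kg xg17 yg13 zg48) (kg xg16 yg26 zg43) (kg xg16 yg26 zg44) (kg xg17 yg3 zg28) (kg xg15 yg12 zg35)) (@D3.rec (fun _ => Pt) (kg xg17 yg14 zg4) (kg xg16 yg26 zg48) (kg xg16 yg26 zg49) (kg xg17 yg10 zg28) (kg xg17 yg3 zg31) (kg xg15 yg12 zg40) (kg xg17 yg14 zg11) (kg xg17 yg0 zg4) (kg xg16 yg25 zg19) (kg xg16 yg16 zg9) (kg xg17 yg3 zg33) (kg xg16 yg16 zg11) (kg xg17 yg3 zg38) (kg xg17 yg14 zg18) (kg xg15 yg18 zg19) (kg xg15 yg13 zg10) (kg xg15 yg13 zg3) (kg xg16 yg26 zg15) (kg xg17 yg3 zg29) (kg xg15 yg13 zg7) (kg xg17 yg14 zg22) (kg xg16 yg16 zg21) (kg xg16 yg16 zg22) (kg xg15 yg13 zg20) (kg xg17 yg5 zg23) (kg xg16 yg23 zg12) (kg xg16 yg23 zg32) (kg xg16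 yg24 zg16) (kg xg17 yg14 zg27) (kg xg17 yg0 zg33) (kg xg17 yg0 zg34) (kg xg17 yg0 zg35) (kg xg17 yg0 zg37) (kg xg17 yg0 zg38) (kg xg17 yg10 zg43) (kg xg15 yg13 zg29) (kg xg16 yg22 zg5) (kg xg17 yg1 zg4) (kg xg17 yg1 zg5) (kg xg17 yg1 zg0) (kg xg17 yg1 zg14) (kg xg17 yg2 zg18) (kg xg17 yg1 zg21) (kg xg17 yg1 zg22) (kg xg17 yg1 zg24) (kg xg15 yg14 zg4) (kg xg15 yg15 zg0) (kg xg17 yg1 zg27) (kg xg17 yg3 zg25) (kg xg15 yg16 zg27) (kg xg17 yg1 zg37)) (@D3.rec (fun _ => Pt) (kg xg17 yg1 zg38) (kg xg17 yg1 zg39) (kg xg17 yg1 zg42) (kg xg15 yg14 zg15) (kg xg17 yg11 zg15) (kg xg15 yg16 zg18) (kg xg17 yg2 zg23) (kg xg15 yg16 zg29) (kg xg17 yg2 zg2) (kg xg17 yg2 zg24) (kg xg17 yg2 zg3) (kg xg17 yg2 zg4) (kg xg17 yg2 zg26) (kg xg17 yg2 zg7) (kg xg17 yg2 zg25) (kg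 xg15 yg14 zg29) (kg xg17 yg15 zg8) (kg xg15 yg14 zg30) (kg xg15 yg16 zg46) (kg xg17 yg2 zg15) (kg xg17 yg2 zg16) (kg xg17 yg15 zg12) (kg xg15 yg14 zg35) (kg xg17 yg2 zg40) (kg xg17 yg2 zg42) (kg xg17 yg2 zg43) (kg xg17 yg2 zg45) (kg xg15 yg14 zg45) (kg xg17 yg15 zg17) (kg xg17 yg3 zg9) (kg xg17 yg3 zg10) (kg xg17 yg3 zg12) (kg xg17 yg4 zg10) (kg xg17 yg14 zg38) (kg xg17 yg3 zg49) (kg xg17 yg3 zg50) (kg xg17 yg4 zg0) (kg xg17 yg4 zg1) (kg xg17 yg4 zg3) (kg xg17 yg4 zg4) (kg xg17 yg4 zg7) (kg xg15 yg15 zg10) (kg xg17 yg3 zg15) (kg xg15 yg15 zg17) (kg xg15 yg15 zg18) (kg xg16 yg22 zg29) (kg xg15 yg15 zg19) (kg xg17 yg1 zg23) (kg xg17 yg1 zg25) (kg xg17 yg15 zg32) (kg xg17 yg15 zg33)) (@D3.rec (fun _ => Pt) (kg xg17 yg15 zg35) (kg xg17 yg4 zg27) (kg xg16 yg22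 zg42) (kg xg17 yg4 zg30) (kg xg17 yg1 zg34) (kg xg17 yg4 zg32) (kg xg17 yg4 zg33) (kg xg17 yg4 zg36) (kg xg17 yg4 zg37) (kg xg15 yg15 zg29) (kg xg17 yg16 zg0) (kg xg17 yg4 zg40) (kg xg17 yg4 zg41) (kg xg17 yg16 zg6) (kg xg16 yg22 zg28) (kg xg15 yg15 zg34) (kg xg17 yg16 zg7) (kg xg17 yg4 zg47) (kg xg17 yg2 zg10) (kg xg15 yg15 zg43) (kg xg15 yg15 zg47) (kg xg17 yg1 zg26) (kg xg16 yg22 zg47) (kg xg17 yg5 zg18) (kg xg17 yg5 zg19) (kg xg17 yg2 zg13) (kg xg17 yg5 zg20) (kg xg17 yg5 zg22) (kg xg15 yg16 zg4) (kg xg17 yg1 zg32) (kg xg15 yg16 zg10) (kg xg17 yg16 zg13) (kg xg17 yg5 zg33) (kg xg17 yg5 zg40) (kg xg15 yg16 zg15) (kg xg17 yg16 zg17) (kg xg17 yg6 zg21) (kg xg17 yg5 zg46) (kg xg17 yg14 zg47) (kg xg15 yg16 zg30) (kg xg15 yg16 zg22) (kg xg17 yg16 zg23) (kg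 xg15 yg16 zg33) (kg xg17 yg4 zg19) (kg xg17 yg6 zg31) (kg xg17 yg14 zg40) (kg xg17 yg6 zg20) (kg xg17 yg14 zg49) (kg xg17 yg16 zg22) (kg xg15 yg16 zg32) (kg xg17 yg16 zg32)) (@D3.rec (fun _ => Pt) (kg xg17 yg16 zg25) (kg xg16 yg24 zg45) (kg xg15 yg17 zg6) (kg xg16 yg25 zg0) (kg xg17 yg6 zg4) (kg xg17 yg6 zg26) (kg xg17 yg6 zg5) (kg xg17 yg6 zg27) (kg xg17 yg6 zg7) (kg xg17 yg6 zg29) (kg xg17 yg6 zg12) (kg xg17 yg5 zg12) (kg xg16 yg19 zg12) (kg xg17 yg15 zg9) (kg xg16 yg25 zg2) (kg xg17 yg6 zg28) (kg xg17 yg6 zg33) (kg xg17 yg6 zg34) (kg xg17 yg6 zg36) (kg xg17 yg16 zg36) (kg xg17 yg6 zg43) (kg xg15 yg17 zg14) (kg xg17 yg11 zg16) (kg xg15 yg17 zg15) (kg xg17 yg9 zg17) (kg xg17 yg17 zg3) (kg xg17 yg17 zg5) (kg xg16 yg26 zg3) (kg xg17 yg7 zg11) (kg xg17 yg7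 zg12) (kg xg17 yg7 zg15) (kg xg17 yg7 zg16) (kg xg17 yg7 zg18) (kg xg17 yg7 zg21) (kg xg17 yg7 zg46) (kg xg17 yg7 zg47) (kg xg17 yg7 zg48) (kg xg17 yg7 zg50) (kg xg17 yg8 zg0) (kg xg17 yg8 zg2) (kg xg17 yg8 zg3) (kg xg17 yg8 zg6) (kg xg17 yg8 zg7) (kg xg17 yg8 zg10) (kg xg16 yg25 zg32) (kg xg15 yg17 zg45) (kg xg16 yg25 zg35) (kg xg15 yg17 zg46) (kg xg17 yg10 zg46) (kg xg17 yg9 zg10) (kg xg17 yg17 zg28)) (@D3.rec (fun _ => Pt) (kg xg17 yg17 zg30) (kg xg16 yg26 zg40) (kg xg16 yg26 zg6) (kg xg17 yg7 zg40) (kg xg17 yg8 zg23) (kg xg17 yg13 zg39) (kg xg17 yg8 zg24) (kg xg15 yg18 zg4) (kg xg15 yg18 zg5) (kg xg17 yg17 zg41) (kg xg17 yg17 zg42) (kg xg17 yg8 zg27) (kg xg17 yg8 zg28) (kg xg16 yg25 zg22) (kg xg15 yg18 zg10) (kg xg17 yg17 zg48) (kg xg17 yg8 zg31) (kg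 xg16 yg25 zg26) (kg xg15 yg18 zg14) (kg xg17 yg18 zg2) (kg xg17 yg8 zg36) (kg xg16 yg20 zg21) (kg xg17 yg14 zg19) (kg xg15 yg18 zg25) (kg xg16 yg25 zg23) (kg xg15 yg18 zg23) (kg xg17 yg18 zg9) (kg xg16 yg20 zg27) (kg xg17 yg12 zg13) (kg xg15 yg18 zg37) (kg xg15 yg18 zg31) (kg xg17 yg18 zg12) (kg xg15 yg18 zg42) (kg xg17 yg12 zg10) (kg xg17 yg9 zg44) (kg xg17 yg9 zg36) (kg xg17 yg12 zg14) (kg xg17 yg18 zg11) (kg xg17 yg9 zg32) (kg xg17 yg18 zg24) (kg xg15 yg19 zg11) (kg xg15 yg18 zg41) (kg xg17 yg18 zg26) (kg xg17 yg18 zg15) (kg xg17 yg13 zg9) (kg xg17 yg9 zg29) (kg xg15 yg18 zg46) (kg xg15 yg18 zg48) (kg xg17 yg18 zg31) (kg xg17 yg9 zg35) (kg xg15 yg19 zg1)) (@D3.rec (fun _ => Pt) (kg xg15 yg19 zg2) (kg xg17 yg18 zg35) (kg xg17 yg18 zg36) (kg xg17 yg9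 zg42) (kg xg17 yg9 zg43) (kg xg17 yg12 zg4) (kg xg15 yg19 zg7) (kg xg17 yg18 zg43) (kg xg17 yg18 zg44) (kg xg17 yg9 zg49) (kg xg17 yg9 zg50) (kg xg17 yg12 zg11) (kg xg17 yg18 zg25) (kg xg15 yg19 zg13) (kg xg17 yg19 zg1) (kg xg17 yg10 zg6) (kg xg17 yg7 zg39) (kg xg17 yg12 zg32) (kg xg16 yg21 zg18) (kg xg17 yg12 zg36) (kg xg17 yg19 zg6) (kg xg15 yg19 zg21) (kg xg15 yg19 zg25) (kg xg17 yg12 zg24) (kg xg17 yg19 zg7) (kg xg17 yg12 zg29) (kg xg15 yg19 zg29) (kg xg17 yg12 zg12) (kg xg16 yg21 zg28) (kg xg17 yg10 zg50) (kg xg15 yg20 zg4) (kg xg16 yg26 zg26) (kg xg17 yg0 zg24) (kg xg17 yg11 zg0) (kg xg17 yg8 zg44) (kg xg17 yg0 zg22) (kg xg17 yg11 zg1) (kg xg17 yg11 zg2) (kg xg17 yg10 zg18) (kg xg17 yg0 zg10) (kg xg17 yg0 zg23) (kg xg16 yg26 zg16) (kg xg15 yg20 zg6)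 (kg xg17 yg19 zg18) (kg xg15 yg20 zg9) (kg xg15 yg20 zg10) (kg xg17 yg19 zg19) (kg xg17 yg19 zg20) (kg xg15 yg20 zg14) (kg xg17 yg12 zg30) (kg xg17 yg12 zg34)) (@D3.rec (fun _ => Pt) (kg xg17 yg12 zg33) (kg xg15 yg20 zg21) (kg xg17 yg12 zg35) (kg xg16 yg22 zg3) (kg xg16 yg1 zg1) (kg xg16 yg16 zg36) (kg xg16 yg0 zg44) (kg xg16 yg3 zg14) (kg xg16 yg12 zg41) (kg xg16 yg3 zg21) (kg xg15 yg20 zg43) (kg xg16 yg4 zg35) (kg xg16 yg12 zg48) (kg xg16 yg3 zg36) (kg xg15 yg21 zg30) (kg xg16 yg3 zg39) (kg xg16 yg12 zg42) (kg xg16 yg4 zg45) (kg xg15 yg21 zg11) (kg xg16 yg3 zg5) (kg xg15 yg21 zg12) (kg xg16 yg3 zg44) (kg xg16 yg3 zg47) (kg xg15 yg21 zg13) (kg xg16 yg4 zg3) (kg xg16 yg4 zg4) (kg xg16 yg12 zg43) (kg xg16 yg12 zg45) (kg xg16 yg18 zg14) (kg xg16 yg17 zg45)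 (kg xg16 yg12 zg46) (kg xg15 yg21 zg26) (kg xg17 yg19 zg42) (kg xg15 yg21 zg29) (kg xg17 yg19 zg30) (kg xg16 yg13 zg5) (kg xg16 yg3 zg28) (kg xg15 yg21 zg34) (kg xg17 yg19 zg47) (kg xg16 yg13 zg8) (kg xg16 yg3 zg29) (kg xg15 yg21 zg38) (kg xg16 yg18 zg2) (kg xg17 yg20 zg0) (kg xg15 yg21 zg43) (kg xg15 yg21 zg46) (kg xg16 yg2 zg35) (kg xg16 yg18 zg22) (kg xg16 yg5 zg21) (kg xg15 yg24 zg0) (kg xg15 yg24 zg1)) (@D3.rec (fun _ => Pt) (kg xg15 yg22 zg28) (kg xg15 yg22 zg45) (kg xg16 yg12 zg38) (kg xg16 yg7 zg43) (kg xg16 yg13 zg14) (kg xg16 yg13 zg15) (kg xg16 yg7 zg46) (kg xg16 yg13 zg16) (kg xg15 yg22 zg10) (kg xg15 yg22 zg11) (kg xg16 yg14 zg49) (kg xg16 yg15 zg28) (kg xg16 yg16 zg25) (kg xg15 yg22 zg9) (kg xg17 yg20 zg19) (kg xg17 yg20 zg15) (kg xg15 yg24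 zg50) (kg xg16 yg12 zg24) (kg xg16 yg11 zg22) (kg xg16 yg11 zg47) (kg xg16 yg8 zg3) (kg xg16 yg13 zg18) (kg xg16 yg23 zg22) (kg xg15 yg22 zg19) (kg xg17 yg20 zg29) (kg xg16 yg23 zg25) (kg xg15 yg22 zg24) (kg xg16 yg8 zg8) (kg xg15 yg22 zg25) (kg xg15 yg22 zg33) (kg xg17 yg20 zg7) (kg xg16 yg15 zg29) (kg xg16 yg16 zg26) (kg xg15 yg22 zg32) (kg xg17 yg20 zg39) (kg xg17 yg20 zg35) (kg xg15 yg24 zg48) (kg xg15 yg25 zg37) (kg xg16 yg13 zg22) (kg xg16 yg13 zg23) (kg xg16 yg8 zg26) (kg xg16 yg8 zg27) (kg xg15 yg25 zg0) (kg xg15 yg25 zg39) (kg xg16 yg8 zg30) (kg xg16 yg13 zg24) (kg xg16 yg13 zg25) (kg xg16 yg8 zg32) (kg xg16 yg13 zg26) (kg xg17 yg20 zg8) (kg xg16 yg23 zg50)) (@D3.rec (fun _ => Pt) (kg xg16 yg24 zg0) (kg xg15 yg22 zg49) (kg xg17 yg21 zg10) (kg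 xg16 yg24 zg3) (kg xg16 yg8 zg40) (kg xg15 yg23 zg6) (kg xg15 yg23 zg7) (kg xg17 yg21 zg16) (kg xg16 yg8 zg42) (kg xg16 yg8 zg43) (kg xg15 yg23 zg8) (kg xg15 yg23 zg10) (kg xg17 yg21 zg18) (kg xg17 yg21 zg19) (kg xg15 yg23 zg25) (kg xg16 yg8 zg47) (kg xg16 yg16 zg27) (kg xg15 yg24 zg49) (kg xg15 yg25 zg38) (kg xg15 yg26 zg46) (kg xg16 yg13 zg29) (kg xg15 yg25 zg1) (kg xg15 yg25 zg40) (kg xg15 yg26 zg47) (kg xg17 yg21 zg21) (kg xg17 yg21 zg30) (kg xg16 yg6 zg36) (kg xg16 yg6 zg37) (kg xg16 yg7 zg10) (kg xg15 yg23 zg34) (kg xg15 yg23 zg35) (kg xg16 yg5 zg15) (kg xg15 yg23 zg36) (kg xg15 yg23 zg37) (kg xg17 yg21 zg33) (kg xg17 yg21 zg34) (kg xg17 yg21 zg36) (kg xg16 yg6 zg40) (kg xg16 yg6 zg47) (kg xg16 yg7 zg0) (kg xg16 yg6 zg30) (kg xg16 yg13 zg33) (kg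 xg16 yg24 zg42) (kg xg16 yg6 zg33) (kg xg16 yg6 zg34) (kg xg16 yg19 zg1) (kg xg16 yg13 zg17) (kg xg17 yg20 zg6) (kg xg16 yg13 zg34) (kg xg16 yg13 zg35) (kg xg16 yg13 zg36)) (@D3.rec (fun _ => Pt) (kg xg16 yg19 zg3) (kg xg16 yg13 zg37) (kg xg16 yg19 zg14) (kg xg16 yg5 zg22) (kg xg15 yg24 zg13) (kg xg17 yg22 zg5) (kg xg16 yg14 zg9) (kg xg16 yg14 zg10) (kg xg16 yg5 zg6) (kg xg15 yg24 zg18) (kg xg17 yg22 zg10) (kg xg16 yg14 zg12) (kg xg16 yg6 zg6) (kg xg15 yg24 zg22) (kg xg17 yg22 zg15) (kg xg16 yg25 zg15) (kg xg16 yg6 zg7) (kg xg15 yg24 zg27) (kg xg16 yg9 zg18) (kg xg16 yg16 zg8) (kg xg16 yg9 zg15) (kg xg16 yg14 zg46) (kg xg16 yg20 zg13) (kg xg16 yg20 zg24) (kg xg15 yg24 zg33) (kg xg17 yg22 zg23) (kg xg16 yg20 zg17) (kg xg16 yg9 zg44) (kg xg16 yg14 zg35)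 (kg xg16 yg14 zg36) (kg xg16 yg14 zg37) (kg xg16 yg14 zg38) (kg xg16 yg19 zg44) (kg xg16 yg14 zg39) (kg xg16 yg14 zg40) (kg xg16 yg19 zg46) (kg xg16 yg14 zg41) (kg xg15 yg24 zg45) (kg xg17 yg22 zg36) (kg xg15 yg25 zg4) (kg xg17 yg20 zg42) (kg xg17 yg21 zg24) (kg xg17 yg20 zg22) (kg xg17 yg20 zg48) (kg xg17 yg21 zg27) (kg xg15 yg25 zg3) (kg xg17 yg22 zg44) (kg xg17 yg22 zg38) (kg xg16 yg15 zg3) (kg xg16 yg15 zg5) (kg xg16 yg15 zg6)) (@D3.rec (fun _ => Pt) (kg xg16 yg9 zg33) (kg xg16 yg15 zg8) (kg xg16 yg15 zg9) (kg xg16 yg19 zg27) (kg xg16 yg15 zg11) (kg xg16 yg15 zg12) (kg xg16 yg20 zg2) (kg xg15 yg25 zg16) (kg xg17 yg23 zg7) (kg xg16 yg15 zg15) (kg xg16 yg26 zg10) (kg xg16 yg26 zg11) (kg xg15 yg25 zg21) (kg xg17 yg23 zg12) (kg xg16 yg26 zg14) (kg xg16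 yg16 zg17) (kg xg16 yg21 zg41) (kg xg15 yg25 zg28) (kg xg16 yg11 zg42) (kg xg17 yg23 zg16) (kg xg16 yg26 zg20) (kg xg16 yg4 zg12) (kg xg15 yg25 zg33) (kg xg17 yg23 zg19) (kg xg15 yg25 zg44) (kg xg16 yg15 zg7) (kg xg16 yg21 zg31) (kg xg17 yg20 zg43) (kg xg17 yg21 zg25) (kg xg17 yg20 zg49) (kg xg17 yg21 zg28) (kg xg15 yg26 zg9) (kg xg15 yg25 zg43) (kg xg17 yg23 zg30) (kg xg17 yg23 zg21) (kg xg16 yg9 zg7) (kg xg16 yg15 zg36) (kg xg15 yg26 zg28) (kg xg16 yg15 zg38) (kg xg16 yg15 zg39) (kg xg16 yg20 zg1) (kg xg16 yg15 zg42) (kg xg16 yg15 zg43) (kg xg16 yg15 zg47) (kg xg16 yg15 zg48) (kg xg16 yg8 zg16) (kg xg15 yg26 zg6) (kg xg17 yg23 zg47) (kg xg16 yg16 zg1) (kg xg16 yg16 zg2) (kg xg17 yg24 zg1))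
def f_g_17 : D2 → D3 → Pt := @D2.rec (fun _ => D3 → Pt) (@D3.rec (fun _ => Pt) (kg xg17 yg23 zg29) (kg xg15 yg26 zg11) (kg xg17 yg24 zg3) (kg xg17 yg24 zg4) (kg xg16 yg16 zg7) (kg xg17 yg0 zg5) (kg xg17 yg0 zg6) (kg xg17 yg24 zg9) (kg xg15 yg26 zg26) (kg xg15 yg26 zg18) (kg xg16 yg21 zg39) (kg xg17 yg24 zg11) (kg xg17 yg0 zg12) (kg xg16 yg7 zg19) (kg xg16 yg8 zg48) (kg xg15 yg26 zg25) (kg xg17 yg24 zg10) (kg xg15 yg26 zg29) (kg xg16 yg10 zg13) (kg xg17 yg23 zg36) (kg xg15 yg26 zg39) (kg xg15 yg26 zg37) (kg xg16 yg21 zg35) (kg xg16 yg21 zg40) (kg xg16 yg21 zg32) (kg xg17 yg24 zg17) (kg xg15 yg26 zg43) (kg xg16 yg13 zg30) (kg xg17 yg24 zg21) (kg xg17 yg21 zg26) (kg xg17 yg24 zg22) (kg xg16 yg9 zg8) (kg xg16 yg12 zg27) (kg xg16 yg16 zg29) (kg xg16 yg16 zg30)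 (kg xg16 yg16 zg31) (kg xg16 yg7 zg26) (kg xg16 yg16 zg32) (kg xg16 yg16 zg33) (kg xg17 yg24 zg28) (kg xg16 yg0 zg6) (kg xg16 yg0 zg8) (kg xg16 yg0 zg21) (kg xg16 yg0 zg19) (kg xg16 yg12 zg40) (kg xg16 yg0 zg33) (kg xg16 yg0 zg27) (kg xg16 yg0 zg32) (kg xg16 yg0 zg36) (kg xg16 yg0 zg47) (kg xg16 yg0 zg45)) (@D3.rec (fun _ => Pt) (kg xg16 yg16 zg39) (kg xg16 yg1 zg4) (kg xg16 yg1 zg3) (kg xg16 yg1 zg2) (kg xg16 yg16 zg37) (kg xg16 yg16 zg38) (kg xg16 yg3 zg6) (kg xg16 yg3 zg7) (kg xg16 yg12 zg44) (kg xg16 yg2 zg38) (kg xg16 yg2 zg39) (kg xg16 yg5 zg18) (kg xg16 yg5 zg36) (kg xg16 yg12 zg50) (kg xg16 yg16 zg40) (kg xg16 yg1 zg21) (kg xg16 yg13 zg9) (kg xg16 yg1 zg22) (kg xg16 yg1 zg25) (kg xg16 yg1 zg26) (kg xg17 yg24 zg37) (kg xg16 yg16 zg42) (kg xg16 yg16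 zg43) (kg xg16 yg17 zg47) (kg xg16 yg16 zg44) (kg xg16 yg17 zg48) (kg xg16 yg18 zg21) (kg xg16 yg16 zg47) (kg xg16 yg6 zg35) (kg xg16 yg6 zg42) (kg xg16 yg6 zg45) (kg xg16 yg6 zg49) (kg xg16 yg18 zg29) (kg xg16 yg13 zg32) (kg xg16 yg18 zg4) (kg xg16 yg4 zg26) (kg xg16 yg4 zg27) (kg xg16 yg16 zg50) (kg xg16 yg17 zg0) (kg xg16 yg17 zg1) (kg xg16 yg1 zg49) (kg xg17 yg25 zg5) (kg xg16 yg17 zg2) (kg xg16 yg2 zg5) (kg xg16 yg2 zg6) (kg xg16 yg2 zg3) (kg xg17 yg25 zg9) (kg xg16 yg2 zg9) (kg xg16 yg2 zg8) (kg xg16 yg2 zg12) (kg xg17 yg25 zg12)) (@D3.rec (fun _ => Pt) (kg xg16 yg5 zg8) (kg xg16 yg5 zg9) (kg xg16 yg17 zg8) (kg xg16 yg17 zg10) (kg xg16 yg17 zg11) (kg xg16 yg2 zg19) (kg xg17 yg25 zg20) (kg xg16 yg17 zg13) (kg xg17 yg20 zg1) (kg xg16 yg2 zg24) (kg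 xg16 yg18 zg18) (kg xg17 yg25 zg24) (kg xg16 yg2 zg30) (kg xg16 yg18 zg25) (kg xg16 yg6 zg8) (kg xg16 yg17 zg19) (kg xg16 yg17 zg20) (kg xg17 yg20 zg3) (kg xg16 yg16 zg41) (kg xg17 yg24 zg31) (kg xg16 yg5 zg4) (kg xg16 yg5 zg7) (kg xg16 yg5 zg33) (kg xg16 yg17 zg6) (kg xg16 yg17 zg9) (kg xg16 yg17 zg14) (kg xg16 yg17 zg12) (kg xg16 yg6 zg20) (kg xg16 yg6 zg21) (kg xg16 yg13 zg47) (kg xg16 yg11 zg10) (kg xg16 yg13 zg49) (kg xg16 yg14 zg14) (kg xg16 yg13 zg43) (kg xg16 yg14 zg1) (kg xg16 yg5 zg2) (kg xg17 yg19 zg33) (kg xg17 yg24 zg29) (kg xg16 yg4 zg28) (kg xg16 yg4 zg42) (kg xg16 yg17 zg23) (kg xg16 yg5 zg29) (kg xg16 yg17 zg24) (kg xg16 yg17 zg25) (kg xg17 yg19 zg24) (kg xg16 yg17 zg26) (kg xg16 yg3 zg23) (kg xg16 yg5 zg44) (kg xg16 yg3 zg24) (kg xg17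 yg19 zg26) (kg xg16 yg3 zg25)) (@D3.rec (fun _ => Pt) (kg xg16 yg3 zg32) (kg xg17 yg19 zg46) (kg xg16 yg3 zg31) (kg xg17 yg26 zg6) (kg xg17 yg26 zg4) (kg xg16 yg3 zg41) (kg xg16 yg5 zg10) (kg xg16 yg5 zg35) (kg xg17 yg19 zg29) (kg xg16 yg17 zg29) (kg xg16 yg17 zg30) (kg xg17 yg19 zg31) (kg xg16 yg17 zg31) (kg xg16 yg3 zg49) (kg xg16 yg3 zg50) (kg xg16 yg17 zg42) (kg xg16 yg4 zg0) (kg xg16 yg4 zg1) (kg xg17 yg26 zg10) (kg xg17 yg19 zg34) (kg xg17 yg19 zg35) (kg xg17 yg19 zg36) (kg xg16 yg4 zg9) (kg xg16 yg6 zg0) (kg xg17 yg26 zg25) (kg xg16 yg16 zg48) (kg xg16 yg8 zg10) (kg xg16 yg8 zg15) (kg xg16 yg15 zg49) (kg xg16 yg16 zg18) (kg xg17 yg23 zg18) (kg xg16 yg16 zg4) (kg xg16 yg15 zg23) (kg xg16 yg16 zg10) (kg xg16 yg15 zg26) (kg xg16 yg15 zg27) (kg xg16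 yg15 zg18) (kg xg16 yg15 zg30) (kg xg16 yg16 zg12) (kg xg16 yg15 zg21) (kg xg16 yg15 zg33) (kg xg16 yg4 zg29) (kg xg16 yg7 zg48) (kg xg16 yg8 zg13) (kg xg17 yg25 zg0) (kg xg17 yg25 zg1) (kg xg17 yg25 zg44) (kg xg17 yg26 zg42) (kg xg16 yg7 zg3) (kg xg16 yg17 zg34) (kg xg16 yg17 zg35)) (@D3.rec (fun _ => Pt) (kg xg16 yg17 zg36) (kg xg16 yg17 zg37) (kg xg17 yg19 zg27) (kg xg16 yg17 zg38) (kg xg16 yg17 zg39) (kg xg16 yg4 zg39) (kg xg18 yg0 zg7) (kg xg16 yg17 zg40) (kg xg17 yg25 zg45) (kg xg16 yg5 zg0) (kg xg16 yg17 zg32) (kg xg17 yg26 zg22) (kg xg16 yg4 zg49) (kg xg18 yg0 zg12) (kg xg18 yg0 zg14) (kg xg17 yg25 zg42) (kg xg16 yg5 zg11) (kg xg16 yg7 zg40) (kg xg17 yg25 zg29) (kg xg16 yg18 zg43) (kg xg17 yg22 zg9) (kg xg17 yg25 zg30) (kg xg17 yg25 zg14) (kg xg17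 yg25 zg15) (kg xg17 yg26 zg9) (kg xg18 yg0 zg17) (kg xg16 yg7 zg12) (kg xg16 yg18 zg1) (kg xg17 yg21 zg35) (kg xg16 yg7 zg32) (kg xg16 yg18 zg3) (kg xg17 yg24 zg32) (kg xg16 yg18 zg5) (kg xg16 yg18 zg6) (kg xg17 yg20 zg5) (kg xg17 yg22 zg4) (kg xg16 yg18 zg7) (kg xg16 yg18 zg8) (kg xg16 yg5 zg26) (kg xg18 yg0 zg42) (kg xg16 yg18 zg11) (kg xg16 yg18 zg12) (kg xg18 yg0 zg48) (kg xg17 yg25 zg47) (kg xg16 yg5 zg31) (kg xg18 yg0 zg50) (kg xg18 yg1 zg0) (kg xg16 yg18 zg17) (kg xg17 yg25 zg8) (kg xg17 yg26 zg11) (kg xg17 yg24 zg33)) (@D3.rec (fun _ => Pt) (kg xg16 yg5 zg49) (kg xg16 yg5 zg46) (kg xg16 yg5 zg40) (kg xg18 yg1 zg6) (kg xg18 yg1 zg7) (kg xg17 yg26 zg1) (kg xg16 yg5 zg43) (kg xg16 yg5 zg47) (kg xg18 yg0 zg36) (kg xg16 yg6 zg4) (kg xg16 yg6 zg19) (kg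 xg18 yg1 zg11) (kg xg16 yg19 zg11) (kg xg17 yg22 zg14) (kg xg17 yg22 zg16) (kg xg16 yg7 zg17) (kg xg16 yg7 zg24) (kg xg16 yg7 zg33) (kg xg16 yg18 zg23) (kg xg16 yg18 zg24) (kg xg16 yg18 zg26) (kg xg16 yg15 zg25) (kg xg16 yg18 zg27) (kg xg16 yg16 zg24) (kg xg18 yg1 zg12) (kg xg17 yg25 zg35) (kg xg16 yg14 zg8) (kg xg16 yg14 zg18) (kg xg16 yg14 zg11) (kg xg17 yg5 zg29) (kg xg16 yg6 zg29) (kg xg18 yg1 zg28) (kg xg17 yg21 zg43) (kg xg16 yg18 zg32) (kg xg17 yg21 zg45) (kg xg17 yg24 zg44) (kg xg17 yg21 zg31) (kg xg16 yg7 zg6) (kg xg16 yg7 zg16) (kg xg17 yg21 zg40) (kg xg16 yg18 zg33) (kg xg17 yg24 zg45) (kg xg16 yg6 zg46) (kg xg17 yg24 zg46) (kg xg18 yg1 zg40) (kg xg17 yg21 zg41) (kg xg16 yg18 zg37) (kg xg17 yg24 zg47) (kg xg17 yg21 zg42) (kg xg16 yg7 zg5) (kg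 xg17 yg26 zg49)) (@D3.rec (fun _ => Pt) (kg xg16 yg7 zg7) (kg xg18 yg1 zg47) (kg xg18 yg1 zg35) (kg xg18 yg1 zg49) (kg xg16 yg19 zg4) (kg xg16 yg19 zg6) (kg xg17 yg21 zg32) (kg xg16 yg19 zg8) (kg xg18 yg0 zg28) (kg xg16 yg7 zg14) (kg xg18 yg2 zg8) (kg xg18 yg2 zg9) (kg xg16 yg19 zg10) (kg xg18 yg1 zg36) (kg xg18 yg1 zg16) (kg xg16 yg7 zg20) (kg xg17 yg23 zg42) (kg xg16 yg7 zg23) (kg xg17 yg20 zg4) (kg xg17 yg24 zg20) (kg xg16 yg18 zg46) (kg xg16 yg18 zg36) (kg xg16 yg7 zg34) (kg xg18 yg0 zg31) (kg xg18 yg1 zg17) (kg xg18 yg2 zg19) (kg xg16 yg19 zg5) (kg xg16 yg19 zg7) (kg xg16 yg19 zg15) (kg xg16 yg19 zg9) (kg xg18 yg0 zg18) (kg xg16 yg18 zg44) (kg xg17 yg20 zg10) (kg xg16 yg19 zg16) (kg xg16 yg19 zg17) (kg xg17 yg20 zg13) (kg xg16 yg19 zg18) (kg xg17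 yg26 zg43) (kg xg16 yg8 zg2) (kg xg16 yg8 zg1) (kg xg18 yg2 zg36) (kg xg18 yg2 zg35) (kg xg17 yg20 zg26) (kg xg16 yg19 zg20) (kg xg16 yg8 zg6) (kg xg18 yg2 zg42) (kg xg17 yg6 zg46) (kg xg17 yg20 zg33) (kg xg17 yg20 zg34) (kg xg17 yg26 zg27) (kg xg16 yg8 zg19)) (@D3.rec (fun _ => Pt) (kg xg17 yg26 zg44) (kg xg16 yg8 zg22) (kg xg17 yg26 zg28) (kg xg17 yg23 zg46) (kg xg16 yg8 zg18) (kg xg18 yg3 zg1) (kg xg18 yg2 zg47) (kg xg16 yg8 zg21) (kg xg18 yg3 zg4) (kg xg18 yg2 zg49) (kg xg16 yg10 zg36) (kg xg16 yg19 zg28) (kg xg16 yg19 zg29) (kg xg17 yg20 zg46) (kg xg17 yg20 zg47) (kg xg16 yg19 zg30) (kg xg16 yg19 zg31) (kg xg17 yg20 zg50) (kg xg16 yg19 zg32) (kg xg17 yg21 zg3) (kg xg17 yg21 zg4) (kg xg16 yg19 zg33) (kg xg16 yg8 zg35) (kg xg18 yg3 zg21) (kg xg17 yg7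 zg24) (kg xg16 yg8 zg38) (kg xg18 yg3 zg24) (kg xg18 yg3 zg25) (kg xg17 yg21 zg13) (kg xg17 yg21 zg14) (kg xg17 yg21 zg17) (kg xg16 yg8 zg45) (kg xg16 yg8 zg46) (kg xg18 yg3 zg29) (kg xg17 yg21 zg22) (kg xg16 yg9 zg34) (kg xg16 yg11 zg28) (kg xg16 yg9 zg11) (kg xg16 yg9 zg45) (kg xg16 yg21 zg16) (kg xg16 yg20 zg3) (kg xg17 yg23 zg34) (kg xg17 yg24 zg8) (kg xg16 yg9 zg10) (kg xg18 yg3 zg37) (kg xg18 yg3 zg33) (kg xg16 yg19 zg34) (kg xg16 yg19 zg35) (kg xg16 yg19 zg36) (kg xg17 yg22 zg19) (kg xg16 yg19 zg37)) (@D3.rec (fun _ => Pt) (kg xg16 yg19 zg38) (kg xg17 yg22 zg17) (kg xg16 yg19 zg39) (kg xg16 yg19 zg40) (kg xg16 yg9 zg22) (kg xg18 yg3 zg50) (kg xg16 yg19 zg41) (kg xg16 yg19 zg42) (kg xg16 yg9 zg26) (kg xg18 yg4 zg4) (kg xg16 yg19 zg43) (kg xg16 yg9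 zg37) (kg xg16 yg9 zg31) (kg xg18 yg4 zg9) (kg xg16 yg9 zg41) (kg xg17 yg22 zg50) (kg xg16 yg9 zg36) (kg xg18 yg4 zg13) (kg xg18 yg4 zg8) (kg xg16 yg10 zg0) (kg xg16 yg9 zg40) (kg xg18 yg4 zg17) (kg xg18 yg4 zg11) (kg xg16 yg20 zg4) (kg xg16 yg20 zg6) (kg xg17 yg22 zg26) (kg xg18 yg3 zg34) (kg xg16 yg20 zg11) (kg xg16 yg20 zg12) (kg xg16 yg9 zg49) (kg xg18 yg4 zg27) (kg xg16 yg20 zg16) (kg xg18 yg4 zg16) (kg xg16 yg10 zg2) (kg xg18 yg4 zg32) (kg xg18 yg4 zg33) (kg xg16 yg20 zg20) (kg xg16 yg10 zg5) (kg xg18 yg4 zg37) (kg xg16 yg10 zg14) (kg xg16 yg10 zg9) (kg xg18 yg4 zg39) (kg xg18 yg4 zg40) (kg xg17 yg8 zg43) (kg xg16 yg21 zg34) (kg xg17 yg24 zg15) (kg xg18 yg4 zg38) (kg xg16 yg10 zg16) (kg xg16 yg10 zg17) (kg xg16 yg11 zg45) (kg xg18 yg4 zg45)) (@D3.rec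 (fun _ => Pt) (kg xg17 yg9 zg0) (kg xg16 yg10 zg37) (kg xg16 yg10 zg43) (kg xg16 yg10 zg26) (kg xg18 yg4 zg50) (kg xg16 yg10 zg47) (kg xg16 yg10 zg48) (kg xg16 yg10 zg30) (kg xg18 yg5 zg4) (kg xg16 yg11 zg1) (kg xg16 yg19 zg49) (kg xg16 yg15 zg45) (kg xg18 yg3 zg8) (kg xg18 yg4 zg48) (kg xg16 yg10 zg41) (kg xg16 yg15 zg37) (kg xg18 yg5 zg11) (kg xg16 yg19 zg24) (kg xg18 yg4 zg49) (kg xg16 yg11 zg17) (kg xg16 yg10 zg46) (kg xg18 yg5 zg17) (kg xg18 yg5 zg1) (kg xg18 yg5 zg2) (kg xg16 yg11 zg23) (kg xg16 yg11 zg0) (kg xg18 yg5 zg23) (kg xg18 yg5 zg24) (kg xg18 yg5 zg7) (kg xg16 yg20 zg45) (kg xg16 yg11 zg4) (kg xg18 yg5 zg29) (kg xg16 yg20 zg38) (kg xg16 yg11 zg7) (kg xg18 yg5 zg32) (kg xg16 yg20 zg49) (kg xg16 yg20 zg35) (kg xg17 yg25 zg37) (kg xg16 yg11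 zg13) (kg xg16 yg11 zg14) (kg xg18 yg5 zg38) (kg xg18 yg5 zg39) (kg xg16 yg21 zg3) (kg xg16 yg21 zg4) (kg xg16 yg20 zg34) (kg xg18 yg5 zg16) (kg xg16 yg11 zg19) (kg xg18 yg5 zg49) (kg xg18 yg5 zg50) (kg xg16 yg21 zg9) (kg xg16 yg21 zg10)) (@D3.rec (fun _ => Pt) (kg xg17 yg20 zg24) (kg xg18 yg5 zg22) (kg xg16 yg11 zg25) (kg xg16 yg11 zg26) (kg xg18 yg6 zg8) (kg xg18 yg6 zg9) (kg xg16 yg21 zg15) (kg xg18 yg3 zg32) (kg xg16 yg11 zg43) (kg xg16 yg11 zg32) (kg xg18 yg6 zg15) (kg xg18 yg6 zg16) (kg xg16 yg11 zg48) (kg xg16 yg11 zg37) (kg xg16 yg11 zg38) (kg xg18 yg6 zg20) (kg xg18 yg6 zg21) (kg xg17 yg10 zg17) (kg xg16 yg21 zg38) (kg xg17 yg23 zg17) (kg xg18 yg6 zg14) (kg xg16 yg11 zg46) (kg xg18 yg4 zg46) (kg xg17 yg20 zg25) (kg xg18 yg6 zg18) (kg xg18 yg6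 zg19) (kg xg16 yg12 zg1) (kg xg16 yg14 zg19) (kg xg16 yg16 zg3) (kg xg18 yg6 zg30) (kg xg17 yg10 zg30) (kg xg17 yg20 zg32) (kg xg16 yg12 zg13) (kg xg16 yg12 zg14) (kg xg16 yg12 zg10) (kg xg16 yg12 zg11) (kg xg18 yg2 zg15) (kg xg18 yg6 zg36) (kg xg18 yg6 zg37) (kg xg18 yg6 zg38) (kg xg18 yg6 zg35) (kg xg16 yg12 zg18) (kg xg16 yg14 zg31) (kg xg16 yg16 zg34) (kg xg18 yg6 zg44) (kg xg16 yg14 zg48) (kg xg16 yg19 zg48) (kg xg16 yg15 zg24) (kg xg17 yg20 zg23) (kg xg17 yg20 zg9) (kg xg16 yg21 zg29)) (@D3.rec (fun _ => Pt) (kg xg16 yg21 zg33) (kg xg16 yg21 zg36) (kg xg16 yg21 zg37) (kg xg18 yg6 zg39) (kg xg16 yg14 zg47) (kg xg17 yg19 zg25) (kg xg17 yg19 zg32) (kg xg17 yg19 zg37) (kg xg17 yg24 zg30) (kg xg17 yg19 zg38) (kg xg17 yg19 zg41) (kg xg16 yg12 zg49) (kg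 xg17 yg19 zg28) (kg xg18 yg7 zg11) (kg xg17 yg24 zg34) (kg xg16 yg17 zg4) (kg xg16 yg19 zg22) (kg xg16 yg13 zg19) (kg xg16 yg13 zg4) (kg xg18 yg7 zg18) (kg xg17 yg19 zg45) (kg xg16 yg13 zg7) (kg xg18 yg7 zg22) (kg xg17 yg19 zg50) (kg xg17 yg24 zg36) (kg xg16 yg13 zg12) (kg xg18 yg7 zg26) (kg xg17 yg20 zg11) (kg xg17 yg20 zg12) (kg xg17 yg20 zg14) (kg xg17 yg21 zg47) (kg xg17 yg20 zg27) (kg xg18 yg7 zg17) (kg xg16 yg15 zg10) (kg xg17 yg20 zg44) (kg xg17 yg20 zg45) (kg xg17 yg21 zg0) (kg xg17 yg21 zg1) (kg xg17 yg21 zg5) (kg xg16 yg13 zg31) (kg xg17 yg24 zg49) (kg xg17 yg21 zg44) (kg xg17 yg21 zg49) (kg xg17 yg21 zg50) (kg xg17 yg22 zg0) (kg xg17 yg22 zg2) (kg xg16 yg13 zg45) (kg xg16 yg13 zg46) (kg xg16 yg13 zg50) (kg xg16 yg14 zg0) (kg xg17 yg25 zg40))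 (@D3.rec (fun _ => Pt) (kg xg16 yg14 zg2) (kg xg18 yg7 zg45) (kg xg18 yg7 zg46) (kg xg17 yg25 zg36) (kg xg16 yg21 zg5) (kg xg17 yg25 zg38) (kg xg18 yg7 zg47) (kg xg18 yg7 zg48) (kg xg17 yg25 zg41) (kg xg18 yg7 zg50) (kg xg16 yg20 zg33) (kg xg16 yg21 zg11) (kg xg16 yg21 zg27) (kg xg16 yg20 zg28) (kg xg16 yg20 zg36) (kg xg18 yg1 zg25) (kg xg17 yg22 zg7) (kg xg17 yg22 zg8) (kg xg18 yg6 zg31) (kg xg18 yg1 zg27) (kg xg17 yg22 zg13) (kg xg17 yg12 zg21) (kg xg17 yg25 zg39) (kg xg18 yg8 zg26) (kg xg16 yg21 zg23) (kg xg18 yg1 zg26) (kg xg16 yg14 zg22) (kg xg16 yg14 zg25) (kg xg18 yg8 zg27) (kg xg16 yg21 zg25) (kg xg16 yg21 zg49) (kg xg18 yg8 zg32) (kg xg16 yg21 zg17) (kg xg16 yg22 zg0) (kg xg16 yg21 zg50) (kg xg16 yg22 zg2) (kg xg16 yg21 zg19) (kg xg18 yg6 zg45)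 (kg xg18 yg7 zg1) (kg xg16 yg14 zg33) (kg xg17 yg22 zg27) (kg xg17 yg22 zg28) (kg xg17 yg22 zg29) (kg xg17 yg22 zg30) (kg xg17 yg22 zg32) (kg xg17 yg22 zg33) (kg xg17 yg22 zg35) (kg xg16 yg14 zg50) (kg xg16 yg15 zg0) (kg xg16 yg15 zg1) (kg xg16 yg15 zg2)) (@D3.rec (fun _ => Pt) (kg xg17 yg22 zg20) (kg xg18 yg6 zg49) (kg xg18 yg1 zg19) (kg xg17 yg20 zg16) (kg xg18 yg8 zg45) (kg xg18 yg8 zg46) (kg xg18 yg8 zg47) (kg xg18 yg8 zg48) (kg xg17 yg22 zg47) (kg xg16 yg20 zg44) (kg xg17 yg22 zg48) (kg xg17 yg22 zg49) (kg xg17 yg23 zg22) (kg xg17 yg23 zg0) (kg xg17 yg23 zg1) (kg xg18 yg7 zg33) (kg xg17 yg23 zg3) (kg xg17 yg23 zg4) (kg xg16 yg15 zg14) (kg xg18 yg9 zg17) (kg xg17 yg23 zg10) (kg xg17 yg26 zg37) (kg xg16 yg15 zg31) (kg xg16 yg15 zg32) (kg xg17 yg26 zg40)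 (kg xg16 yg15 zg34) (kg xg17 yg26 zg33) (kg xg18 yg6 zg50) (kg xg18 yg1 zg21) (kg xg17 yg26 zg35) (kg xg17 yg26 zg36) (kg xg17 yg20 zg17) (kg xg17 yg20 zg37) (kg xg17 yg26 zg38) (kg xg18 yg9 zg21) (kg xg18 yg9 zg22) (kg xg18 yg9 zg40) (kg xg17 yg26 zg41) (kg xg18 yg9 zg26) (kg xg16 yg20 zg5) (kg xg17 yg23 zg35) (kg xg18 yg5 zg12) (kg xg17 yg23 zg37) (kg xg17 yg23 zg38) (kg xg16 yg15 zg41) (kg xg18 yg9 zg49) (kg xg17 yg23 zg40) (kg xg17 yg23 zg41) (kg xg16 yg15 zg46) (kg xg18 yg5 zg3) (kg xg18 yg10 zg3)) (@D3.rec (fun _ => Pt) (kg xg17 yg23 zg43) (kg xg17 yg23 zg44) (kg xg17 yg23 zg45) (kg xg17 yg26 zg29) (kg xg16 yg16 zg0) (kg xg18 yg10 zg13) (kg xg18 yg10 zg14) (kg xg17 yg23 zg49) (kg xg17 yg23 zg50) (kg xg18 yg6 zg32) (kg xg17 yg26 zg32) (kg xg16 yg16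 zg6) (kg xg18 yg10 zg21) (kg xg17 yg24 zg7) (kg xg17 yg22 zg18) (kg xg17 yg14 zg15) (kg xg17 yg26 zg34) (kg xg17 yg26 zg39) (kg xg16 yg16 zg13) (kg xg16 yg20 zg22) (kg xg17 yg23 zg5) (kg xg17 yg26 zg30) (kg xg16 yg16 zg20) (kg xg18 yg6 zg46) (kg xg17 yg20 zg18) (kg xg17 yg20 zg38) (kg xg18 yg10 zg29) (kg xg16 yg16 zg28) (kg xg17 yg24 zg24) (kg xg17 yg24 zg25) (kg xg17 yg24 zg26) (kg xg18 yg6 zg47) (kg xg17 yg24 zg35) (kg xg17 yg25 zg27) (kg xg17 yg24 zg39) (kg xg17 yg24 zg40) (kg xg17 yg24 zg42) (kg xg17 yg26 zg19) (kg xg16 yg17 zg33) (kg xg17 yg26 zg26) (kg xg16 yg18 zg45) (kg xg17 yg25 zg2) (kg xg17 yg25 zg3) (kg xg17 yg25 zg4) (kg xg17 yg25 zg7) (kg xg17 yg26 zg20) (kg xg18 yg7 zg15) (kg xg16 yg18 zg38) (kg xg17 yg25 zg31) (kg xg16 yg18 zg47) (kg xg17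 yg25 zg16)) (@D3.rec (fun _ => Pt) (kg xg17 yg25 zg32) (kg xg17 yg25 zg17) (kg xg17 yg25 zg18) (kg xg18 yg11 zg4) (kg xg17 yg25 zg34) (kg xg17 yg25 zg23) (kg xg17 yg25 zg33) (kg xg17 yg26 zg2) (kg xg16 yg17 zg16) (kg xg16 yg19 zg13) (kg xg17 yg25 zg26) (kg xg18 yg3 zg30) (kg xg16 yg17 zg21) (kg xg17 yg25 zg46) (kg xg17 yg25 zg48) (kg xg17 yg25 zg49) (kg xg17 yg26 zg0) (kg xg16 yg17 zg28) (kg xg18 yg11 zg14) (kg xg17 yg26 zg13) (kg xg17 yg26 zg14) (kg xg18 yg0 zg13) (kg xg17 yg26 zg18) (kg xg17 yg26 zg50) (kg xg18 yg0 zg0) (kg xg18 yg0 zg1) (kg xg18 yg0 zg2) (kg xg18 yg0 zg4) (kg xg18 yg0 zg5) (kg xg17 yg26 zg21) (kg xg18 yg0 zg10) (kg xg17 yg25 zg10) (kg xg16 yg17 zg49) (kg xg16 yg17 zg50) (kg xg17 yg19 zg40) (kg xg16 yg18 zg0) (kg xg17 yg24 zg41) (kg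 xg17 yg24 zg43) (kg xg18 yg11 zg30) (kg xg18 yg11 zg31) (kg xg18 yg11 zg34) (kg xg18 yg0 zg29) (kg xg17 yg20 zg2) (kg xg18 yg0 zg32) (kg xg17 yg24 zg50) (kg xg18 yg0 zg34) (kg xg18 yg0 zg35) (kg xg17 yg25 zg25) (kg xg18 yg0 zg39) (kg xg18 yg0 zg40) (kg xg18 yg0 zg41)) (@D3.rec (fun _ => Pt) (kg xg16 yg18 zg10) (kg xg18 yg12 zg1) (kg xg17 yg19 zg39) (kg xg18 yg0 zg45) (kg xg18 yg0 zg46) (kg xg18 yg12 zg7) (kg xg16 yg18 zg13) (kg xg16 yg18 zg16) (kg xg18 yg12 zg8) (kg xg18 yg1 zg3) (kg xg18 yg1 zg18) (kg xg18 yg1 zg20) (kg xg17 yg24 zg48) (kg xg16 yg18 zg31) (kg xg18 yg12 zg11) (kg xg18 yg1 zg32) (kg xg18 yg1 zg38) (kg xg16 yg18 zg35) (kg xg18 yg12 zg15) (kg xg18 yg2 zg18) (kg xg18 yg1 zg45) (kg xg18 yg10 zg45) (kg xg16 yg18 zg48) (kg xg16 yg18 zg41) (kg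 xg18 yg12 zg21) (kg xg16 yg19 zg0) (kg xg18 yg0 zg20) (kg xg18 yg2 zg28) (kg xg18 yg10 zg38) (kg xg18 yg2 zg17) (kg xg18 yg10 zg47) (kg xg18 yg12 zg20) (kg xg16 yg18 zg50) (kg xg18 yg12 zg32) (kg xg18 yg12 zg24) (kg xg17 yg21 zg46) (kg xg16 yg19 zg19) (kg xg17 yg22 zg1) (kg xg18 yg2 zg3) (kg xg18 yg2 zg23) (kg xg18 yg2 zg4) (kg xg18 yg2 zg24) (kg xg18 yg2 zg25) (kg xg18 yg2 zg6) (kg xg18 yg2 zg26) (kg xg18 yg2 zg12) (kg xg18 yg1 zg14) (kg xg18 yg11 zg8) (kg xg17 yg22 zg3) (kg xg18 yg2 zg30) (kg xg18 yg2 zg31)) (@D3.rec (fun _ => Pt) (kg xg18 yg2 zg33) (kg xg18 yg12 zg36) (kg xg18 yg2 zg41) (kg xg16 yg19 zg25) (kg xg18 yg7 zg16) (kg xg16 yg19 zg26) (kg xg18 yg5 zg14) (kg xg18 yg13 zg2) (kg xg18 yg13 zg5) (kg xg17 yg23 zg2) (kg xg18 yg3 zg9) (kg xg18 yg3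 zg10) (kg xg18 yg3 zg13) (kg xg18 yg3 zg14) (kg xg18 yg3 zg17) (kg xg18 yg3 zg20) (kg xg18 yg3 zg40) (kg xg18 yg3 zg41) (kg xg18 yg3 zg42) (kg xg18 yg3 zg44) (kg xg18 yg3 zg45) (kg xg18 yg3 zg46) (kg xg18 yg3 zg48) (kg xg18 yg3 zg49) (kg xg18 yg4 zg1) (kg xg18 yg4 zg2) (kg xg18 yg4 zg7) (kg xg17 yg22 zg31) (kg xg16 yg19 zg50) (kg xg17 yg22 zg34) (kg xg16 yg20 zg0) (kg xg18 yg5 zg44) (kg xg18 yg5 zg8) (kg xg18 yg13 zg28) (kg xg18 yg13 zg31) (kg xg17 yg23 zg39) (kg xg17 yg23 zg6) (kg xg18 yg3 zg35) (kg xg18 yg4 zg21) (kg xg18 yg9 zg43) (kg xg18 yg4 zg22) (kg xg16 yg20 zg9) (kg xg16 yg20 zg10) (kg xg18 yg13 zg43) (kg xg18 yg13 zg44) (kg xg18 yg4 zg25) (kg xg18 yg4 zg26) (kg xg17 yg22 zg21) (kg xg16 yg20 zg15) (kg xg18 yg14 zg0) (kg xg18 yg14 zg1)) (@D3.rec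 (fun _ => Pt) (kg xg18 yg4 zg30) (kg xg17 yg22 zg25) (kg xg16 yg20 zg19) (kg xg18 yg14 zg6) (kg xg18 yg4 zg36) (kg xg17 yg18 zg5) (kg xg17 yg21 zg15) (kg xg18 yg10 zg25) (kg xg17 yg22 zg22) (kg xg16 yg20 zg26) (kg xg18 yg8 zg14) (kg xg16 yg20 zg37) (kg xg16 yg20 zg31) (kg xg18 yg14 zg13) (kg xg18 yg14 zg14) (kg xg16 yg20 zg43) (kg xg18 yg8 zg10) (kg xg18 yg5 zg46) (kg xg18 yg5 zg36) (kg xg18 yg8 zg15) (kg xg18 yg8 zg16) (kg xg18 yg14 zg12) (kg xg18 yg5 zg31) (kg xg18 yg14 zg28) (kg xg16 yg20 zg39) (kg xg16 yg21 zg12) (kg xg16 yg20 zg42) (kg xg18 yg14 zg30) (kg xg18 yg14 zg17) (kg xg18 yg9 zg7) (kg xg18 yg5 zg28) (kg xg16 yg20 zg48) (kg xg18 yg14 zg34) (kg xg18 yg14 zg35) (kg xg18 yg5 zg35) (kg xg16 yg21 zg1) (kg xg16 yg21 zg2) (kg xg18 yg14 zg39) (kg xg18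 yg14 zg40) (kg xg18 yg14 zg41) (kg xg18 yg5 zg43) (kg xg18 yg5 zg45) (kg xg18 yg8 zg3) (kg xg16 yg21 zg7) (kg xg16 yg21 zg8) (kg xg18 yg14 zg50) (kg xg18 yg15 zg0) (kg xg18 yg8 zg12) (kg xg18 yg6 zg3) (kg xg18 yg6 zg4) (kg xg18 yg8 zg11)) (@D3.rec (fun _ => Pt) (kg xg18 yg14 zg29) (kg xg16 yg21 zg14) (kg xg18 yg15 zg8) (kg xg18 yg8 zg33) (kg xg18 yg8 zg34) (kg xg18 yg15 zg10) (kg xg16 yg21 zg20) (kg xg16 yg21 zg24) (kg xg18 yg8 zg13) (kg xg18 yg8 zg30) (kg xg17 yg23 zg23) (kg xg18 yg7 zg2) (kg xg17 yg24 zg12) (kg xg17 yg24 zg19) (kg xg18 yg7 zg3) (kg xg17 yg23 zg13) (kg xg17 yg24 zg13) (kg xg17 yg23 zg15) (kg xg16 yg21 zg43) (kg xg16 yg21 zg46) (kg xg16 yg21 zg47) (kg xg18 yg15 zg14) (kg xg18 yg8 zg36) (kg xg18 yg8 zg35) (kg xg17 yg2 zg44) (kg xg17 yg11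 zg5) (kg xg17 yg2 zg49) (kg xg17 yg4 zg2) (kg xg17 yg11 zg12) (kg xg17 yg3 zg8) (kg xg16 yg22 zg34) (kg xg17 yg3 zg11) (kg xg17 yg11 zg6) (kg xg17 yg2 zg36) (kg xg17 yg3 zg19) (kg xg17 yg3 zg20) (kg xg17 yg3 zg21) (kg xg17 yg11 zg7) (kg xg17 yg11 zg9) (kg xg17 yg16 zg2) (kg xg17 yg15 zg34) (kg xg17 yg11 zg10) (kg xg16 yg22 zg32) (kg xg18 yg15 zg34) (kg xg18 yg15 zg22) (kg xg17 yg11 zg20) (kg xg17 yg3 zg1) (kg xg16 yg22 zg38) (kg xg18 yg15 zg38) (kg xg18 yg15 zg39) (kg xg17 yg11 zg23)) (@D3.rec (fun _ => Pt) (kg xg16 yg22 zg43) (kg xg17 yg2 zg8) (kg xg17 yg15 zg42) (kg xg17 yg2 zg17) (kg xg17 yg6 zg18) (kg xg17 yg4 zg34) (kg xg16 yg24 zg47) (kg xg16 yg23 zg30) (kg xg16 yg23 zg49) (kg xg17 yg10 zg49) (kg xg17 yg6 zg32) (kg xg17 yg11 zg27) (kg xg17 yg11 zg28)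 (kg xg17 yg6 zg35) (kg xg17 yg11 zg29) (kg xg16 yg23 zg15) (kg xg17 yg13 zg3) (kg xg17 yg13 zg31) (kg xg17 yg14 zg24) (kg xg16 yg23 zg14) (kg xg18 yg16 zg9) (kg xg18 yg16 zg5) (kg xg16 yg25 zg42) (kg xg17 yg10 zg48) (kg xg17 yg10 zg0) (kg xg17 yg10 zg23) (kg xg17 yg6 zg42) (kg xg17 yg11 zg31) (kg xg17 yg20 zg28) (kg xg16 yg23 zg24) (kg xg18 yg16 zg21) (kg xg17 yg20 zg31) (kg xg17 yg10 zg31) (kg xg17 yg6 zg47) (kg xg17 yg6 zg48) (kg xg16 yg23 zg35) (kg xg18 yg15 zg48) (kg xg17 yg13 zg32) (kg xg17 yg14 zg25) (kg xg16 yg23 zg34) (kg xg18 yg16 zg30) (kg xg18 yg16 zg25) (kg xg16 yg25 zg40) (kg xg16 yg26 zg27) (kg xg17 yg11 zg34) (kg xg17 yg11 zg35) (kg xg17 yg7 zg13) (kg xg17 yg7 zg14) (kg xg16 yg25 zg43) (kg xg16 yg26 zg29) (kg xg17 yg7 zg17)) (@D3.rec (fun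 _ => Pt) (kg xg17 yg11 zg36) (kg xg17 yg11 zg37) (kg xg18 yg16 zg48) (kg xg17 yg7 zg19) (kg xg17 yg7 zg20) (kg xg17 yg11 zg38) (kg xg18 yg15 zg49) (kg xg17 yg21 zg7) (kg xg17 yg21 zg8) (kg xg18 yg17 zg4) (kg xg16 yg24 zg2) (kg xg18 yg17 zg5) (kg xg18 yg17 zg6) (kg xg17 yg7 zg28) (kg xg17 yg7 zg29) (kg xg17 yg18 zg6) (kg xg16 yg24 zg7) (kg xg17 yg7 zg30) (kg xg16 yg24 zg12) (kg xg16 yg24 zg13) (kg xg18 yg17 zg11) (kg xg16 yg24 zg24) (kg xg17 yg7 zg34) (kg xg18 yg17 zg15) (kg xg16 yg25 zg41) (kg xg16 yg26 zg28) (kg xg17 yg0 zg29) (kg xg16 yg25 zg44) (kg xg16 yg26 zg30) (kg xg18 yg17 zg13) (kg xg16 yg24 zg25) (kg xg17 yg5 zg36) (kg xg17 yg6 zg6) (kg xg16 yg24 zg34) (kg xg16 yg24 zg35) (kg xg17 yg4 zg28) (kg xg16 yg24 zg36) (kg xg18 yg17 zg22) (kg xg18 yg17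 zg23) (kg xg18 yg17 zg25) (kg xg17 yg5 zg39) (kg xg17 yg5 zg45) (kg xg17 yg5 zg48) (kg xg17 yg5 zg32) (kg xg17 yg11 zg41) (kg xg17 yg5 zg34) (kg xg17 yg16 zg35) (kg xg17 yg11 zg30) (kg xg18 yg15 zg47) (kg xg17 yg11 zg42) (kg xg17 yg11 zg43)) (@D3.rec (fun _ => Pt) (kg xg17 yg11 zg44) (kg xg17 yg16 zg37) (kg xg17 yg11 zg45) (kg xg17 yg16 zg48) (kg xg17 yg4 zg35) (kg xg16 yg25 zg5) (kg xg18 yg17 zg45) (kg xg17 yg12 zg16) (kg xg17 yg12 zg17) (kg xg17 yg4 zg20) (kg xg16 yg25 zg10) (kg xg18 yg17 zg50) (kg xg18 yg18 zg0) (kg xg17 yg12 zg20) (kg xg17 yg5 zg13) (kg xg16 yg25 zg14) (kg xg17 yg5 zg14) (kg xg17 yg8 zg1) (kg xg17 yg14 zg14) (kg xg17 yg7 zg49) (kg xg17 yg13 zg0) (kg xg17 yg17 zg47) (kg xg17 yg18 zg8) (kg xg16 yg25 zg25) (kg xg18 yg18 zg11) (kg xg17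 yg18 zg1) (kg xg17 yg8 zg25) (kg xg17 yg12 zg40) (kg xg17 yg12 zg41) (kg xg17 yg12 zg42) (kg xg17 yg12 zg43) (kg xg17 yg17 zg27) (kg xg17 yg12 zg44) (kg xg17 yg12 zg45) (kg xg17 yg17 zg29) (kg xg17 yg12 zg46) (kg xg16 yg25 zg38) (kg xg18 yg18 zg27) (kg xg16 yg25 zg47) (kg xg18 yg16 zg34) (kg xg18 yg17 zg16) (kg xg18 yg16 zg12) (kg xg18 yg16 zg40) (kg xg18 yg17 zg18) (kg xg16 yg25 zg46) (kg xg18 yg18 zg36) (kg xg18 yg18 zg29) (kg xg17 yg13 zg8) (kg xg17 yg13 zg10) (kg xg17 yg13 zg11) (kg xg17 yg8 zg15)) (@D3.rec (fun _ => Pt) (kg xg17 yg13 zg13) (kg xg17 yg13 zg14) (kg xg17 yg17 zg9) (kg xg17 yg13 zg16) (kg xg17 yg13 zg17) (kg xg17 yg14 zg20) (kg xg17 yg17 zg36) (kg xg16 yg26 zg8) (kg xg18 yg19 zg1) (kg xg18 yg19 zg2) (kg xg17 yg13 zg20) (kg xg18 yg18 zg15)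 (kg xg16 yg26 zg13) (kg xg17 yg19 zg15) (kg xg18 yg19 zg6) (kg xg17 yg19 zg17) (kg xg16 yg26 zg19) (kg xg17 yg10 zg19) (kg xg17 yg3 zg30) (kg xg16 yg26 zg23) (kg xg18 yg19 zg11) (kg xg16 yg26 zg34) (kg xg17 yg13 zg12) (kg xg17 yg19 zg10) (kg xg18 yg16 zg35) (kg xg18 yg17 zg17) (kg xg18 yg16 zg41) (kg xg18 yg16 zg42) (kg xg18 yg19 zg23) (kg xg17 yg0 zg0) (kg xg16 yg26 zg33) (kg xg18 yg19 zg25) (kg xg18 yg19 zg26) (kg xg18 yg19 zg14) (kg xg17 yg7 zg41) (kg xg17 yg13 zg40) (kg xg17 yg0 zg19) (kg xg17 yg13 zg42) (kg xg17 yg13 zg43) (kg xg17 yg17 zg35) (kg xg17 yg13 zg46) (kg xg17 yg13 zg47) (kg xg17 yg6 zg16) (kg xg17 yg14 zg0) (kg xg17 yg14 zg1) (kg xg17 yg14 zg2) (kg xg17 yg7 zg3) (kg xg16 yg26 zg47) (kg xg18 yg19 zg46) (kg xg17 yg14 zg7) (kg xg17 yg14 zg8))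 (@D3.rec (fun _ => Pt) (kg xg18 yg20 zg0) (kg xg16 yg26 zg50) (kg xg18 yg19 zg24) (kg xg17 yg0 zg2) (kg xg17 yg0 zg3) (kg xg18 yg20 zg3) (kg xg18 yg20 zg4) (kg xg17 yg14 zg13) (kg xg17 yg7 zg42) (kg xg17 yg0 zg7) (kg xg17 yg0 zg16) (kg xg17 yg0 zg11) (kg xg17 yg19 zg12) (kg xg17 yg19 zg16) (kg xg18 yg20 zg8) (kg xg17 yg8 zg45) (kg xg18 yg19 zg32) (kg xg17 yg0 zg25) (kg xg18 yg17 zg12) (kg xg17 yg19 zg13) (kg xg17 yg6 zg19) (kg xg17 yg0 zg28) (kg xg17 yg0 zg30) (kg xg18 yg19 zg19) (kg xg17 yg14 zg28) (kg xg17 yg14 zg29) (kg xg17 yg14 zg30) (kg xg18 yg20 zg16) (kg xg17 yg0 zg39) (kg xg17 yg2 zg37) (kg xg17 yg11 zg8) (kg xg17 yg2 zg19) (kg xg17 yg4 zg31) (kg xg17 yg4 zg50) (kg xg17 yg11 zg14) (kg xg17 yg14 zg32) (kg xg17 yg11 zg24) (kg xg17 yg1 zg20) (kg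 xg18 yg20 zg25) (kg xg17 yg14 zg34) (kg xg17 yg14 zg35) (kg xg17 yg15 zg36) (kg xg17 yg14 zg36) (kg xg17 yg15 zg37) (kg xg17 yg5 zg35) (kg xg17 yg5 zg41) (kg xg17 yg5 zg43) (kg xg17 yg5 zg47) (kg xg17 yg16 zg12) (kg xg17 yg11 zg40) (kg xg17 yg15 zg44)) (@D3.rec (fun _ => Pt) (kg xg17 yg3 zg44) (kg xg17 yg3 zg45) (kg xg17 yg14 zg41) (kg xg17 yg14 zg42) (kg xg17 yg14 zg43) (kg xg17 yg1 zg41) (kg xg18 yg20 zg45) (kg xg17 yg14 zg44) (kg xg17 yg4 zg48) (kg xg17 yg1 zg46) (kg xg17 yg15 zg31) (kg xg18 yg20 zg49) (kg xg17 yg1 zg50) (kg xg18 yg21 zg0) (kg xg17 yg4 zg22) (kg xg17 yg4 zg23) (kg xg17 yg14 zg50) (kg xg17 yg15 zg1) (kg xg17 yg15 zg2) (kg xg18 yg15 zg43) (kg xg17 yg2 zg6) (kg xg18 yg21 zg9) (kg xg18 yg21 zg10) (kg xg17 yg15 zg5) (kg xg17 yg2 zg11) (kg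 xg17 yg15 zg47) (kg xg17 yg15 zg10) (kg xg17 yg14 zg33) (kg xg18 yg20 zg19) (kg xg17 yg4 zg18) (kg xg17 yg4 zg21) (kg xg17 yg14 zg48) (kg xg17 yg15 zg0) (kg xg17 yg15 zg6) (kg xg17 yg15 zg4) (kg xg17 yg5 zg25) (kg xg17 yg12 zg3) (kg xg17 yg9 zg37) (kg xg17 yg12 zg5) (kg xg17 yg12 zg22) (kg xg17 yg11 zg50) (kg xg17 yg12 zg8) (kg xg17 yg4 zg15) (kg xg18 yg20 zg17) (kg xg17 yg3 zg46) (kg xg17 yg4 zg8) (kg xg17 yg15 zg13) (kg xg17 yg4 zg43) (kg xg17 yg15 zg14) (kg xg17 yg15 zg15) (kg xg18 yg15 zg16)) (@D3.rec (fun _ => Pt) (kg xg17 yg15 zg16) (kg xg17 yg5 zg5) (kg xg17 yg15 zg7) (kg xg18 yg15 zg18) (kg xg17 yg3 zg4) (kg xg18 yg15 zg37) (kg xg17 yg3 zg3) (kg xg18 yg21 zg45) (kg xg18 yg21 zg43) (kg xg17 yg4 zg24) (kg xg17 yg3 zg18) (kg xg17 yg4 zg49) (kg xg18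 yg15 zg21) (kg xg17 yg15 zg19) (kg xg17 yg15 zg20) (kg xg18 yg21 zg50) (kg xg18 yg15 zg23) (kg xg18 yg15 zg24) (kg xg17 yg15 zg22) (kg xg17 yg14 zg37) (kg xg17 yg14 zg45) (kg xg17 yg15 zg29) (kg xg17 yg4 zg11) (kg xg18 yg15 zg26) (kg xg18 yg15 zg27) (kg xg17 yg3 zg24) (kg xg17 yg14 zg39) (kg xg17 yg6 zg49) (kg xg17 yg7 zg2) (kg xg17 yg14 zg3) (kg xg17 yg14 zg21) (kg xg18 yg19 zg10) (kg xg17 yg14 zg10) (kg xg17 yg13 zg26) (kg xg17 yg14 zg16) (kg xg17 yg13 zg29) (kg xg17 yg13 zg30) (kg xg17 yg13 zg21) (kg xg17 yg13 zg33) (kg xg17 yg14 zg17) (kg xg17 yg13 zg24) (kg xg17 yg13 zg37) (kg xg17 yg3 zg47) (kg xg17 yg6 zg37) (kg xg17 yg7 zg0) (kg xg18 yg20 zg39) (kg xg18 yg20 zg40) (kg xg18 yg21 zg32) (kg xg18 yg22 zg30) (kg xg17 yg5 zg50) (kg xg17 yg15 zg23))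
def f_g_18 : D2 → D3 → Pt := @D2.rec (fun _ => D3 → Pt) (@D3.rec (fun _ => Pt) (kg xg17 yg15 zg24) (kg xg17 yg15 zg25) (kg xg17 yg15 zg26) (kg xg18 yg15 zg19) (kg xg17 yg15 zg27) (kg xg17 yg15 zg28) (kg xg18 yg22 zg10) (kg xg17 yg4 zg6) (kg xg18 yg22 zg50) (kg xg18 yg23 zg0) (kg xg17 yg15 zg30) (kg xg18 yg21 zg33) (kg xg17 yg4 zg13) (kg xg17 yg15 zg21) (kg xg17 yg4 zg14) (kg xg18 yg22 zg41) (kg xg18 yg21 zg30) (kg xg17 yg4 zg25) (kg xg17 yg6 zg30) (kg xg18 yg21 zg17) (kg xg17 yg16 zg26) (kg xg18 yg17 zg49) (kg xg18 yg21 zg18) (kg xg18 yg21 zg2) (kg xg18 yg21 zg3) (kg xg18 yg21 zg48) (kg xg18 yg21 zg49) (kg xg18 yg23 zg7) (kg xg17 yg6 zg8) (kg xg17 yg15 zg41) (kg xg18 yg17 zg24) (kg xg17 yg6 zg23) (kg xg17 yg15 zg43) (kg xg18 yg20 zg20) (kg xg17 yg15 zg45)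 (kg xg17 yg15 zg46) (kg xg17 yg5 zg8) (kg xg18 yg15 zg46) (kg xg18 yg17 zg44) (kg xg17 yg15 zg48) (kg xg17 yg15 zg49) (kg xg17 yg15 zg50) (kg xg17 yg4 zg39) (kg xg18 yg23 zg39) (kg xg18 yg23 zg40) (kg xg17 yg16 zg3) (kg xg17 yg16 zg4) (kg xg18 yg23 zg47) (kg xg17 yg4 zg42) (kg xg18 yg21 zg35) (kg xg17 yg4 zg45)) (@D3.rec (fun _ => Pt) (kg xg17 yg4 zg46) (kg xg18 yg23 zg49) (kg xg18 yg23 zg50) (kg xg17 yg16 zg9) (kg xg18 yg20 zg44) (kg xg18 yg20 zg21) (kg xg17 yg5 zg3) (kg xg17 yg5 zg4) (kg xg18 yg24 zg3) (kg xg18 yg21 zg38) (kg xg18 yg23 zg30) (kg xg17 yg5 zg11) (kg xg17 yg5 zg24) (kg xg18 yg24 zg6) (kg xg17 yg16 zg46) (kg xg18 yg18 zg4) (kg xg17 yg6 zg14) (kg xg17 yg6 zg24) (kg xg17 yg16 zg10) (kg xg17 yg13 zg2) (kg xg17 yg16 zg11) (kg xg17 yg13 zg28)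 (kg xg18 yg24 zg8) (kg xg18 yg24 zg7) (kg xg18 yg21 zg23) (kg xg17 yg12 zg15) (kg xg17 yg12 zg25) (kg xg17 yg12 zg19) (kg xg17 yg5 zg31) (kg xg18 yg24 zg20) (kg xg18 yg17 zg32) (kg xg18 yg17 zg33) (kg xg17 yg16 zg15) (kg xg18 yg20 zg32) (kg xg18 yg17 zg20) (kg xg17 yg6 zg2) (kg xg17 yg6 zg13) (kg xg18 yg17 zg29) (kg xg17 yg16 zg16) (kg xg18 yg20 zg33) (kg xg17 yg5 zg44) (kg xg18 yg20 zg34) (kg xg18 yg24 zg34) (kg xg18 yg17 zg30) (kg xg18 yg17 zg31) (kg xg17 yg16 zg20) (kg xg18 yg20 zg35) (kg xg17 yg6 zg1) (kg xg18 yg22 zg38) (kg xg17 yg6 zg3) (kg xg18 yg24 zg41)) (@D3.rec (fun _ => Pt) (kg xg18 yg24 zg27) (kg xg18 yg24 zg28) (kg xg18 yg24 zg44) (kg xg17 yg16 zg38) (kg xg17 yg16 zg40) (kg xg18 yg17 zg21) (kg xg17 yg16 zg43) (kg xg18 yg23 zg20) (kg xg17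 yg6 zg10) (kg xg17 yg6 zg11) (kg xg18 yg25 zg4) (kg xg18 yg25 zg5) (kg xg17 yg16 zg45) (kg xg18 yg15 zg45) (kg xg18 yg19 zg39) (kg xg17 yg10 zg36) (kg xg18 yg19 zg16) (kg xg17 yg16 zg29) (kg xg17 yg16 zg19) (kg xg17 yg6 zg25) (kg xg18 yg23 zg23) (kg xg18 yg24 zg11) (kg xg18 yg25 zg13) (kg xg17 yg16 zg39) (kg xg17 yg16 zg41) (kg xg17 yg16 zg42) (kg xg17 yg16 zg44) (kg xg18 yg23 zg8) (kg xg17 yg16 zg27) (kg xg18 yg16 zg0) (kg xg17 yg16 zg49) (kg xg17 yg16 zg50) (kg xg18 yg16 zg3) (kg xg17 yg17 zg0) (kg xg18 yg22 zg31) (kg xg17 yg6 zg41) (kg xg17 yg6 zg40) (kg xg18 yg25 zg33) (kg xg18 yg25 zg32) (kg xg18 yg16 zg17) (kg xg18 yg16 zg18) (kg xg17 yg17 zg2) (kg xg17 yg6 zg45) (kg xg18 yg25 zg40) (kg xg18 yg25 zg41) (kg xg18 yg16 zg24) (kg xg18 yg22 zg13) (kg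 xg17 yg7 zg6) (kg xg18 yg22 zg32) (kg xg17 yg7 zg9) (kg xg18 yg22 zg14)) (@D3.rec (fun _ => Pt) (kg xg18 yg19 zg45) (kg xg17 yg7 zg5) (kg xg18 yg26 zg0) (kg xg18 yg25 zg45) (kg xg17 yg7 zg8) (kg xg18 yg26 zg4) (kg xg18 yg26 zg5) (kg xg18 yg25 zg48) (kg xg17 yg9 zg12) (kg xg17 yg17 zg10) (kg xg17 yg17 zg11) (kg xg18 yg16 zg38) (kg xg18 yg16 zg39) (kg xg17 yg17 zg12) (kg xg17 yg17 zg13) (kg xg18 yg16 zg43) (kg xg18 yg16 zg44) (kg xg17 yg17 zg14) (kg xg18 yg16 zg49) (kg xg18 yg16 zg50) (kg xg17 yg17 zg15) (kg xg17 yg7 zg23) (kg xg18 yg26 zg23) (kg xg18 yg26 zg24) (kg xg17 yg7 zg26) (kg xg17 yg7 zg27) (kg xg18 yg26 zg26) (kg xg18 yg17 zg8) (kg xg18 yg17 zg10) (kg xg17 yg7 zg33) (kg xg17 yg15 zg11) (kg xg18 yg17 zg14) (kg xg17 yg10 zg7) (kg xg17 yg7 zg45) (kg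 xg17 yg8 zg26) (kg xg17 yg17 zg37) (kg xg18 yg19 zg30) (kg xg17 yg7 zg44) (kg xg18 yg26 zg37) (kg xg18 yg26 zg33) (kg xg17 yg17 zg16) (kg xg17 yg17 zg17) (kg xg17 yg17 zg18) (kg xg18 yg18 zg7) (kg xg17 yg17 zg19) (kg xg17 yg17 zg20) (kg xg17 yg17 zg21) (kg xg18 yg18 zg5) (kg xg17 yg17 zg22) (kg xg17 yg17 zg23) (kg xg17 yg8 zg5)) (@D3.rec (fun _ => Pt) (kg xg19 yg0 zg2) (kg xg17 yg17 zg24) (kg xg17 yg17 zg25) (kg xg19 yg0 zg8) (kg xg17 yg8 zg9) (kg xg19 yg0 zg9) (kg xg19 yg0 zg10) (kg xg17 yg17 zg26) (kg xg17 yg8 zg18) (kg xg17 yg8 zg13) (kg xg19 yg0 zg15) (kg xg17 yg8 zg22) (kg xg18 yg18 zg43) (kg xg17 yg8 zg17) (kg xg19 yg0 zg20) (kg xg19 yg0 zg14) (kg xg17 yg8 zg32) (kg xg17 yg8 zg21) (kg xg19 yg0 zg24) (kg xg19 yg0 zg25) (kg xg19 yg0 zg18) (kg xg17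 yg17 zg38) (kg xg17 yg17 zg40) (kg xg18 yg18 zg14) (kg xg18 yg26 zg34) (kg xg17 yg17 zg45) (kg xg17 yg17 zg46) (kg xg17 yg8 zg30) (kg xg19 yg0 zg35) (kg xg18 yg20 zg12) (kg xg17 yg18 zg0) (kg xg19 yg0 zg23) (kg xg17 yg8 zg34) (kg xg17 yg8 zg35) (kg xg19 yg0 zg41) (kg xg19 yg0 zg42) (kg xg17 yg18 zg4) (kg xg17 yg8 zg38) (kg xg17 yg8 zg46) (kg xg17 yg8 zg41) (kg xg17 yg8 zg42) (kg xg19 yg0 zg48) (kg xg19 yg0 zg49) (kg xg19 yg0 zg46) (kg xg19 yg0 zg47) (kg xg17 yg8 zg50) (kg xg17 yg10 zg22) (kg xg19 yg1 zg3) (kg xg17 yg9 zg13) (kg xg17 yg9 zg18) (kg xg17 yg9 zg4)) (@D3.rec (fun _ => Pt) (kg xg19 yg1 zg8) (kg xg17 yg9 zg22) (kg xg17 yg9 zg23) (kg xg17 yg13 zg49) (kg xg17 yg9 zg8) (kg xg19 yg1 zg14) (kg xg19 yg1 zg15) (kg xg17 yg9 zg28) (kg xg17 yg17 zg32)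 (kg xg18 yg26 zg9) (kg xg19 yg1 zg6) (kg xg17 yg9 zg16) (kg xg17 yg13 zg41) (kg xg19 yg1 zg23) (kg xg17 yg17 zg6) (kg xg19 yg1 zg7) (kg xg17 yg9 zg45) (kg xg17 yg9 zg21) (kg xg19 yg1 zg30) (kg xg19 yg1 zg31) (kg xg19 yg1 zg11) (kg xg19 yg1 zg12) (kg xg17 yg10 zg1) (kg xg17 yg9 zg26) (kg xg17 yg9 zg27) (kg xg19 yg1 zg38) (kg xg19 yg1 zg39) (kg xg19 yg1 zg18) (kg xg17 yg18 zg30) (kg xg17 yg9 zg31) (kg xg19 yg1 zg45) (kg xg17 yg18 zg22) (kg xg17 yg9 zg34) (kg xg19 yg1 zg49) (kg xg18 yg19 zg9) (kg xg17 yg18 zg34) (kg xg17 yg18 zg18) (kg xg18 yg21 zg25) (kg xg17 yg9 zg40) (kg xg17 yg9 zg41) (kg xg19 yg2 zg4) (kg xg19 yg2 zg5) (kg xg19 yg2 zg6) (kg xg17 yg18 zg40) (kg xg17 yg17 zg31) (kg xg17 yg18 zg41) (kg xg17 yg18 zg17) (kg xg18 yg16 zg13) (kg xg19 yg1 zg29)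 (kg xg17 yg9 zg47) (kg xg17 yg9 zg48)) (@D3.rec (fun _ => Pt) (kg xg19 yg2 zg20) (kg xg19 yg2 zg21) (kg xg18 yg16 zg15) (kg xg17 yg18 zg48) (kg xg17 yg18 zg49) (kg xg18 yg16 zg14) (kg xg19 yg1 zg36) (kg xg19 yg1 zg37) (kg xg17 yg10 zg4) (kg xg17 yg10 zg5) (kg xg19 yg2 zg31) (kg xg19 yg2 zg32) (kg xg19 yg2 zg33) (kg xg18 yg25 zg10) (kg xg17 yg10 zg20) (kg xg17 yg10 zg10) (kg xg17 yg10 zg11) (kg xg19 yg2 zg38) (kg xg17 yg10 zg24) (kg xg17 yg10 zg25) (kg xg17 yg10 zg15) (kg xg17 yg10 zg16) (kg xg18 yg24 zg29) (kg xg19 yg2 zg42) (kg xg19 yg2 zg43) (kg xg19 yg2 zg44) (kg xg19 yg2 zg37) (kg xg18 yg16 zg16) (kg xg19 yg1 zg4) (kg xg19 yg2 zg41) (kg xg17 yg10 zg29) (kg xg17 yg12 zg18) (kg xg17 yg14 zg9) (kg xg19 yg3 zg0) (kg xg18 yg22 zg19) (kg xg17 yg10 zg40)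 (kg xg17 yg10 zg37) (kg xg17 yg10 zg38) (kg xg17 yg10 zg39) (kg xg17 yg11 zg3) (kg xg19 yg3 zg5) (kg xg19 yg3 zg6) (kg xg19 yg3 zg8) (kg xg18 yg26 zg31) (kg xg17 yg10 zg44) (kg xg17 yg12 zg37) (kg xg17 yg14 zg23) (kg xg17 yg14 zg31) (kg xg19 yg3 zg12) (kg xg17 yg13 zg1) (kg xg17 yg13 zg27)) (@D3.rec (fun _ => Pt) (kg xg18 yg15 zg50) (kg xg17 yg12 zg38) (kg xg17 yg19 zg11) (kg xg17 yg19 zg14) (kg xg19 yg3 zg7) (kg xg18 yg15 zg17) (kg xg18 yg15 zg25) (kg xg18 yg15 zg28) (kg xg18 yg20 zg18) (kg xg18 yg15 zg29) (kg xg18 yg15 zg33) (kg xg17 yg11 zg13) (kg xg18 yg15 zg20) (kg xg19 yg3 zg26) (kg xg18 yg20 zg22) (kg xg17 yg14 zg46) (kg xg17 yg17 zg4) (kg xg17 yg11 zg32) (kg xg17 yg11 zg19) (kg xg19 yg3 zg35) (kg xg19 yg3 zg36) (kg xg18 yg15 zg36) (kg xg17 yg11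 zg22) (kg xg19 yg3 zg40) (kg xg18 yg15 zg42) (kg xg18 yg20 zg24) (kg xg17 yg11 zg26) (kg xg18 yg16 zg1) (kg xg18 yg16 zg2) (kg xg18 yg16 zg4) (kg xg18 yg17 zg36) (kg xg18 yg16 zg19) (kg xg19 yg3 zg34) (kg xg17 yg13 zg15) (kg xg18 yg16 zg36) (kg xg18 yg16 zg37) (kg xg18 yg16 zg45) (kg xg18 yg16 zg46) (kg xg18 yg17 zg0) (kg xg18 yg20 zg37) (kg xg18 yg17 zg34) (kg xg18 yg17 zg38) (kg xg18 yg17 zg39) (kg xg18 yg17 zg40) (kg xg18 yg17 zg43) (kg xg17 yg12 zg1) (kg xg17 yg12 zg2) (kg xg17 yg12 zg6) (kg xg17 yg12 zg7) (kg xg18 yg21 zg28) (kg xg17 yg12 zg9)) (@D3.rec (fun _ => Pt) (kg xg19 yg4 zg9) (kg xg19 yg4 zg10) (kg xg18 yg21 zg24) (kg xg17 yg18 zg42) (kg xg18 yg21 zg26) (kg xg19 yg4 zg11) (kg xg19 yg4 zg12) (kg xg19 yg4 zg28) (kg xg18 yg21 zg29) (kg xg19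 yg4 zg16) (kg xg17 yg18 zg16) (kg xg17 yg18 zg50) (kg xg17 yg18 zg47) (kg xg17 yg19 zg8) (kg xg17 yg18 zg10) (kg xg17 yg18 zg19) (kg xg17 yg18 zg20) (kg xg18 yg24 zg17) (kg xg18 yg24 zg18) (kg xg18 yg17 zg47) (kg xg18 yg17 zg48) (kg xg19 yg3 zg1) (kg xg18 yg24 zg19) (kg xg18 yg18 zg3) (kg xg18 yg26 zg42) (kg xg18 yg21 zg27) (kg xg17 yg12 zg23) (kg xg17 yg12 zg28) (kg xg19 yg3 zg13) (kg xg19 yg3 zg18) (kg xg17 yg19 zg9) (kg xg19 yg4 zg48) (kg xg17 yg12 zg31) (kg xg17 yg19 zg3) (kg xg17 yg19 zg4) (kg xg17 yg19 zg23) (kg xg17 yg19 zg22) (kg xg19 yg3 zg14) (kg xg18 yg18 zg16) (kg xg18 yg18 zg17) (kg xg18 yg18 zg18) (kg xg18 yg18 zg19) (kg xg18 yg18 zg21) (kg xg18 yg18 zg22) (kg xg18 yg18 zg26) (kg xg17 yg13 zg4) (kg xg17 yg13 zg5) (kg xg17 yg13 zg6) (kg xg17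 yg13 zg7) (kg xg18 yg18 zg8) (kg xg19 yg3 zg16)) (@D3.rec (fun _ => Pt) (kg xg18 yg24 zg12) (kg xg18 yg16 zg6) (kg xg19 yg5 zg8) (kg xg19 yg5 zg9) (kg xg19 yg5 zg10) (kg xg19 yg5 zg12) (kg xg18 yg18 zg40) (kg xg17 yg18 zg29) (kg xg18 yg18 zg41) (kg xg18 yg18 zg42) (kg xg18 yg19 zg15) (kg xg18 yg18 zg44) (kg xg18 yg18 zg45) (kg xg18 yg18 zg46) (kg xg19 yg3 zg48) (kg xg18 yg18 zg48) (kg xg18 yg18 zg49) (kg xg17 yg13 zg19) (kg xg19 yg5 zg35) (kg xg18 yg19 zg5) (kg xg18 yg22 zg23) (kg xg17 yg13 zg34) (kg xg17 yg13 zg35) (kg xg19 yg3 zg15) (kg xg18 yg22 zg27) (kg xg18 yg22 zg28) (kg xg17 yg13 zg38) (kg xg18 yg22 zg18) (kg xg19 yg2 zg16) (kg xg18 yg24 zg14) (kg xg18 yg22 zg21) (kg xg18 yg22 zg22) (kg xg18 yg16 zg7) (kg xg18 yg16 zg27) (kg xg18 yg16 zg28) (kg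 xg18 yg22 zg24) (kg xg18 yg22 zg25) (kg xg19 yg5 zg39) (kg xg19 yg5 zg40) (kg xg19 yg6 zg11) (kg xg17 yg13 zg36) (kg xg18 yg22 zg29) (kg xg19 yg5 zg44) (kg xg17 yg17 zg39) (kg xg18 yg19 zg31) (kg xg19 yg1 zg24) (kg xg18 yg19 zg33) (kg xg18 yg19 zg34) (kg xg18 yg19 zg35) (kg xg17 yg13 zg45) (kg xg19 yg6 zg22)) (@D3.rec (fun _ => Pt) (kg xg18 yg18 zg50) (kg xg18 yg19 zg37) (kg xg18 yg19 zg38) (kg xg17 yg13 zg50) (kg xg19 yg1 zg13) (kg xg19 yg6 zg27) (kg xg19 yg6 zg28) (kg xg18 yg19 zg40) (kg xg18 yg19 zg41) (kg xg18 yg19 zg42) (kg xg18 yg19 zg43) (kg xg19 yg3 zg3) (kg xg18 yg22 zg15) (kg xg17 yg14 zg5) (kg xg17 yg14 zg6) (kg xg19 yg6 zg41) (kg xg19 yg6 zg42) (kg xg18 yg19 zg48) (kg xg18 yg19 zg49) (kg xg19 yg3 zg2) (kg xg18 yg22 zg17) (kg xg17 yg14 zg12)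 (kg xg19 yg6 zg48) (kg xg18 yg18 zg6) (kg xg18 yg22 zg20) (kg xg17 yg18 zg7) (kg xg18 yg20 zg14) (kg xg18 yg16 zg8) (kg xg19 yg7 zg0) (kg xg17 yg14 zg26) (kg xg18 yg20 zg15) (kg xg19 yg2 zg39) (kg xg18 yg20 zg23) (kg xg18 yg21 zg15) (kg xg18 yg20 zg27) (kg xg18 yg20 zg28) (kg xg18 yg22 zg0) (kg xg18 yg20 zg31) (kg xg17 yg16 zg28) (kg xg18 yg20 zg41) (kg xg18 yg20 zg42) (kg xg18 yg20 zg43) (kg xg18 yg22 zg9) (kg xg18 yg20 zg48) (kg xg19 yg3 zg31) (kg xg17 yg16 zg21) (kg xg18 yg21 zg19) (kg xg17 yg16 zg30) (kg xg18 yg21 zg4) (kg xg18 yg21 zg5) (kg xg18 yg21 zg20)) (@D3.rec (fun _ => Pt) (kg xg18 yg21 zg21) (kg xg18 yg21 zg6) (kg xg18 yg21 zg7) (kg xg19 yg7 zg29) (kg xg17 yg15 zg3) (kg xg18 yg21 zg22) (kg xg18 yg21 zg13) (kg xg18 yg21 zg42) (kg xg17 yg16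 zg47) (kg xg18 yg26 zg27) (kg xg18 yg21 zg34) (kg xg18 yg21 zg36) (kg xg18 yg21 zg37) (kg xg18 yg21 zg41) (kg xg17 yg15 zg18) (kg xg19 yg7 zg37) (kg xg18 yg22 zg3) (kg xg18 yg22 zg4) (kg xg18 yg22 zg46) (kg xg18 yg22 zg8) (kg xg18 yg22 zg39) (kg xg18 yg22 zg40) (kg xg18 yg20 zg50) (kg xg18 yg22 zg42) (kg xg18 yg22 zg43) (kg xg18 yg22 zg44) (kg xg18 yg22 zg47) (kg xg18 yg22 zg48) (kg xg18 yg22 zg2) (kg xg18 yg23 zg3) (kg xg17 yg15 zg38) (kg xg17 yg15 zg39) (kg xg18 yg15 zg31) (kg xg18 yg15 zg32) (kg xg17 yg15 zg40) (kg xg18 yg20 zg29) (kg xg18 yg20 zg30) (kg xg19 yg8 zg0) (kg xg19 yg8 zg1) (kg xg19 yg8 zg4) (kg xg18 yg23 zg21) (kg xg18 yg15 zg44) (kg xg18 yg23 zg24) (kg xg18 yg23 zg25) (kg xg18 yg20 zg38) (kg xg18 yg23 zg28) (kg xg18 yg23 zg29) (kg xg18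 yg21 zg14) (kg xg18 yg23 zg34) (kg xg18 yg23 zg35) (kg xg18 yg23 zg36)) (@D3.rec (fun _ => Pt) (kg xg18 yg23 zg37) (kg xg17 yg16 zg1) (kg xg19 yg8 zg21) (kg xg18 yg15 zg30) (kg xg18 yg23 zg44) (kg xg18 yg23 zg45) (kg xg19 yg8 zg26) (kg xg17 yg16 zg5) (kg xg17 yg16 zg8) (kg xg19 yg8 zg27) (kg xg18 yg20 zg36) (kg xg17 yg16 zg14) (kg xg19 yg8 zg30) (kg xg18 yg24 zg24) (kg xg18 yg24 zg32) (kg xg17 yg16 zg18) (kg xg19 yg8 zg33) (kg xg18 yg25 zg12) (kg xg18 yg24 zg40) (kg xg19 yg7 zg15) (kg xg17 yg16 zg31) (kg xg17 yg16 zg24) (kg xg19 yg8 zg39) (kg xg19 yg8 zg40) (kg xg17 yg16 zg34) (kg xg18 yg23 zg10) (kg xg18 yg25 zg23) (kg xg19 yg7 zg7) (kg xg18 yg25 zg11) (kg xg19 yg7 zg18) (kg xg19 yg7 zg19) (kg xg19 yg8 zg38) (kg xg17 yg16 zg33) (kg xg19 yg9 zg2) (kg xg19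 yg8 zg43) (kg xg18 yg17 zg35) (kg xg17 yg17 zg1) (kg xg18 yg17 zg41) (kg xg18 yg17 zg42) (kg xg18 yg24 zg49) (kg xg18 yg25 zg17) (kg xg18 yg25 zg18) (kg xg18 yg24 zg50) (kg xg18 yg25 zg19) (kg xg18 yg25 zg20) (kg xg18 yg25 zg1) (kg xg18 yg25 zg21) (kg xg18 yg24 zg10) (kg xg18 yg25 zg25) (kg xg18 yg25 zg26) (kg xg18 yg25 zg30)) (@D3.rec (fun _ => Pt) (kg xg19 yg9 zg6) (kg xg18 yg25 zg39) (kg xg17 yg17 zg7) (kg xg19 yg3 zg32) (kg xg19 yg3 zg33) (kg xg17 yg17 zg8) (kg xg19 yg1 zg27) (kg xg19 yg9 zg19) (kg xg19 yg9 zg22) (kg xg18 yg18 zg47) (kg xg18 yg26 zg10) (kg xg18 yg26 zg11) (kg xg18 yg26 zg15) (kg xg18 yg26 zg16) (kg xg18 yg26 zg19) (kg xg18 yg26 zg41) (kg xg18 yg26 zg43) (kg xg18 yg26 zg44) (kg xg18 yg26 zg46) (kg xg18 yg26 zg47) (kg xg18 yg26 zg48)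 (kg xg19 yg0 zg0) (kg xg19 yg0 zg1) (kg xg18 yg20 zg11) (kg xg19 yg0 zg5) (kg xg19 yg0 zg6) (kg xg19 yg0 zg13) (kg xg18 yg18 zg20) (kg xg17 yg17 zg33) (kg xg18 yg18 zg24) (kg xg18 yg18 zg25) (kg xg17 yg17 zg34) (kg xg19 yg2 zg13) (kg xg19 yg1 zg19) (kg xg19 yg9 zg45) (kg xg19 yg9 zg48) (kg xg18 yg19 zg36) (kg xg18 yg19 zg0) (kg xg18 yg26 zg35) (kg xg19 yg0 zg29) (kg xg19 yg6 zg13) (kg xg19 yg6 zg14) (kg xg19 yg0 zg30) (kg xg17 yg17 zg43) (kg xg17 yg17 zg44) (kg xg19 yg10 zg10) (kg xg19 yg10 zg11) (kg xg19 yg10 zg12) (kg xg19 yg0 zg33) (kg xg19 yg0 zg34) (kg xg18 yg18 zg9)) (@D3.rec (fun _ => Pt) (kg xg17 yg17 zg49) (kg xg17 yg17 zg50) (kg xg19 yg10 zg21) (kg xg19 yg10 zg22) (kg xg19 yg0 zg38) (kg xg18 yg18 zg13) (kg xg17 yg18 zg3) (kg xg19 yg10 zg27) (kg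 xg18 yg17 zg9) (kg xg18 yg18 zg10) (kg xg19 yg4 zg36) (kg xg19 yg4 zg37) (kg xg17 yg18 zg21) (kg xg17 yg18 zg13) (kg xg17 yg18 zg14) (kg xg19 yg10 zg31) (kg xg19 yg10 zg32) (kg xg17 yg18 zg28) (kg xg19 yg4 zg31) (kg xg19 yg4 zg32) (kg xg19 yg2 zg15) (kg xg19 yg2 zg2) (kg xg19 yg4 zg38) (kg xg19 yg4 zg39) (kg xg19 yg10 zg43) (kg xg19 yg10 zg30) (kg xg19 yg1 zg48) (kg xg19 yg10 zg46) (kg xg17 yg18 zg23) (kg xg17 yg19 zg0) (kg xg17 yg18 zg27) (kg xg19 yg10 zg48) (kg xg19 yg5 zg24) (kg xg19 yg1 zg44) (kg xg17 yg18 zg32) (kg xg17 yg18 zg33) (kg xg19 yg11 zg0) (kg xg19 yg11 zg1) (kg xg19 yg2 zg1) (kg xg17 yg18 zg37) (kg xg17 yg18 zg38) (kg xg17 yg18 zg39) (kg xg19 yg11 zg5) (kg xg19 yg11 zg6) (kg xg19 yg11 zg7) (kg xg19 yg11 zg8) (kg xg19 yg2 zg12) (kg xg19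 yg2 zg14) (kg xg19 yg4 zg21) (kg xg19 yg4 zg22) (kg xg17 yg18 zg45)) (@D3.rec (fun _ => Pt) (kg xg17 yg18 zg46) (kg xg19 yg4 zg35) (kg xg19 yg11 zg18) (kg xg19 yg11 zg19) (kg xg19 yg4 zg34) (kg xg19 yg2 zg27) (kg xg19 yg4 zg33) (kg xg19 yg10 zg47) (kg xg17 yg19 zg2) (kg xg19 yg4 zg49) (kg xg17 yg19 zg5) (kg xg18 yg20 zg10) (kg xg18 yg19 zg7) (kg xg18 yg19 zg8) (kg xg17 yg19 zg21) (kg xg19 yg4 zg50) (kg xg17 yg25 zg50) (kg xg18 yg7 zg5) (kg xg17 yg26 zg3) (kg xg18 yg0 zg3) (kg xg18 yg7 zg12) (kg xg17 yg26 zg12) (kg xg17 yg19 zg44) (kg xg17 yg26 zg16) (kg xg17 yg26 zg17) (kg xg18 yg7 zg6) (kg xg17 yg26 zg23) (kg xg17 yg26 zg24) (kg xg18 yg7 zg7) (kg xg18 yg7 zg9) (kg xg18 yg12 zg3) (kg xg18 yg11 zg32) (kg xg18 yg11 zg33) (kg xg18 yg7 zg10) (kg xg17 yg19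 zg43) (kg xg19 yg11 zg31) (kg xg18 yg7 zg21) (kg xg17 yg26 zg5) (kg xg17 yg19 zg48) (kg xg17 yg19 zg49) (kg xg19 yg11 zg46) (kg xg19 yg11 zg47) (kg xg18 yg7 zg24) (kg xg17 yg25 zg19) (kg xg18 yg11 zg41) (kg xg18 yg2 zg13) (kg xg18 yg0 zg37) (kg xg17 yg21 zg48) (kg xg17 yg20 zg36) (kg xg17 yg21 zg6) (kg xg18 yg7 zg0)) (@D3.rec (fun _ => Pt) (kg xg18 yg2 zg29) (kg xg18 yg7 zg27) (kg xg18 yg7 zg28) (kg xg18 yg2 zg32) (kg xg18 yg7 zg29) (kg xg17 yg20 zg21) (kg xg18 yg9 zg1) (kg xg18 yg9 zg32) (kg xg18 yg10 zg27) (kg xg17 yg20 zg20) (kg xg19 yg12 zg21) (kg xg19 yg12 zg16) (kg xg17 yg22 zg41) (kg xg18 yg5 zg47) (kg xg18 yg6 zg5) (kg xg18 yg6 zg2) (kg xg18 yg6 zg27) (kg xg18 yg2 zg39) (kg xg18 yg2 zg40) (kg xg18 yg7 zg31) (kg xg19 yg12 zg34) (kg xg17 yg20 zg30)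 (kg xg19 yg12 zg35) (kg xg19 yg12 zg36) (kg xg18 yg2 zg45) (kg xg17 yg20 zg41) (kg xg19 yg12 zg5) (kg xg18 yg9 zg33) (kg xg18 yg9 zg34) (kg xg19 yg12 zg45) (kg xg17 yg20 zg40) (kg xg19 yg12 zg46) (kg xg19 yg12 zg47) (kg xg19 yg12 zg39) (kg xg17 yg22 zg39) (kg xg17 yg23 zg24) (kg xg18 yg7 zg34) (kg xg18 yg7 zg35) (kg xg18 yg3 zg11) (kg xg18 yg3 zg12) (kg xg17 yg22 zg42) (kg xg17 yg23 zg26) (kg xg17 yg23 zg27) (kg xg18 yg3 zg15) (kg xg18 yg3 zg16) (kg xg18 yg7 zg36) (kg xg18 yg7 zg37) (kg xg19 yg13 zg19) (kg xg17 yg21 zg2) (kg xg18 yg3 zg18) (kg xg18 yg3 zg19)) (@D3.rec (fun _ => Pt) (kg xg18 yg7 zg38) (kg xg19 yg12 zg6) (kg xg19 yg12 zg7) (kg xg19 yg13 zg25) (kg xg17 yg21 zg9) (kg xg17 yg21 zg11) (kg xg17 yg21 zg12) (kg xg19 yg13 zg26) (kg xg18 yg3 zg27)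 (kg xg18 yg14 zg8) (kg xg18 yg3 zg28) (kg xg17 yg21 zg20) (kg xg17 yg24 zg18) (kg xg17 yg21 zg29) (kg xg18 yg3 zg31) (kg xg17 yg21 zg23) (kg xg17 yg22 zg40) (kg xg17 yg23 zg25) (kg xg17 yg22 zg43) (kg xg19 yg13 zg31) (kg xg18 yg1 zg34) (kg xg18 yg2 zg5) (kg xg17 yg21 zg37) (kg xg17 yg21 zg38) (kg xg18 yg0 zg30) (kg xg17 yg21 zg39) (kg xg19 yg13 zg37) (kg xg19 yg12 zg2) (kg xg19 yg13 zg39) (kg xg18 yg1 zg37) (kg xg18 yg1 zg43) (kg xg18 yg1 zg44) (kg xg18 yg1 zg30) (kg xg18 yg1 zg31) (kg xg18 yg7 zg40) (kg xg18 yg12 zg35) (kg xg18 yg7 zg30) (kg xg19 yg12 zg4) (kg xg18 yg7 zg41) (kg xg18 yg7 zg42) (kg xg18 yg7 zg43) (kg xg18 yg12 zg37) (kg xg18 yg12 zg38) (kg xg18 yg7 zg44) (kg xg18 yg0 zg38) (kg xg17 yg22 zg6) (kg xg19 yg14 zg12) (kg xg18 yg8 zg19) (kg xg18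 yg8 zg20) (kg xg18 yg0 zg21) (kg xg17 yg22 zg11)) (@D3.rec (fun _ => Pt) (kg xg17 yg22 zg12) (kg xg19 yg14 zg18) (kg xg19 yg14 zg19) (kg xg18 yg8 zg23) (kg xg18 yg1 zg15) (kg xg18 yg3 zg47) (kg xg18 yg10 zg23) (kg xg18 yg3 zg43) (kg xg18 yg8 zg49) (kg xg18 yg13 zg50) (kg xg18 yg14 zg9) (kg xg17 yg22 zg24) (kg xg19 yg14 zg29) (kg xg18 yg14 zg5) (kg xg18 yg4 zg23) (kg xg17 yg23 zg11) (kg xg18 yg8 zg38) (kg xg18 yg8 zg39) (kg xg18 yg8 zg40) (kg xg18 yg8 zg41) (kg xg18 yg13 zg27) (kg xg18 yg8 zg42) (kg xg18 yg8 zg43) (kg xg19 yg14 zg46) (kg xg18 yg13 zg29) (kg xg18 yg13 zg30) (kg xg18 yg8 zg44) (kg xg17 yg22 zg37) (kg xg19 yg14 zg50) (kg xg17 yg22 zg46) (kg xg19 yg13 zg0) (kg xg19 yg13 zg33) (kg xg19 yg12 zg25) (kg xg19 yg13 zg8) (kg xg19 yg13 zg9) (kg xg19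 yg14 zg34) (kg xg17 yg22 zg45) (kg xg19 yg15 zg10) (kg xg19 yg15 zg11) (kg xg19 yg15 zg2) (kg xg18 yg9 zg6) (kg xg18 yg9 zg8) (kg xg18 yg9 zg9) (kg xg18 yg4 zg12) (kg xg18 yg9 zg11) (kg xg18 yg9 zg12) (kg xg18 yg9 zg13) (kg xg18 yg13 zg9) (kg xg18 yg9 zg15) (kg xg18 yg9 zg16) (kg xg18 yg10 zg0)) (@D3.rec (fun _ => Pt) (kg xg18 yg13 zg37) (kg xg17 yg23 zg8) (kg xg17 yg23 zg9) (kg xg19 yg15 zg31) (kg xg19 yg15 zg32) (kg xg18 yg9 zg19) (kg xg17 yg23 zg14) (kg xg18 yg15 zg12) (kg xg18 yg15 zg13) (kg xg18 yg5 zg34) (kg xg17 yg26 zg31) (kg xg17 yg23 zg20) (kg xg19 yg15 zg40) (kg xg19 yg15 zg41) (kg xg17 yg23 zg33) (kg xg18 yg9 zg10) (kg xg18 yg2 zg16) (kg xg19 yg13 zg1) (kg xg19 yg13 zg2) (kg xg17 yg24 zg23) (kg xg19 yg13 zg10) (kg xg19 yg13 zg11) (kg xg19 yg16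 zg2) (kg xg17 yg23 zg28) (kg xg17 yg24 zg2) (kg xg17 yg23 zg31) (kg xg17 yg23 zg32) (kg xg19 yg16 zg5) (kg xg19 yg16 zg6) (kg xg19 yg15 zg44) (kg xg18 yg3 zg36) (kg xg18 yg9 zg44) (kg xg17 yg24 zg16) (kg xg18 yg9 zg46) (kg xg18 yg9 zg47) (kg xg18 yg9 zg48) (kg xg18 yg13 zg36) (kg xg18 yg10 zg1) (kg xg18 yg10 zg2) (kg xg18 yg2 zg14) (kg xg18 yg10 zg7) (kg xg18 yg10 zg8) (kg xg18 yg10 zg9) (kg xg18 yg10 zg10) (kg xg19 yg16 zg27) (kg xg18 yg3 zg0) (kg xg17 yg23 zg48) (kg xg19 yg16 zg29) (kg xg18 yg10 zg17) (kg xg18 yg10 zg18) (kg xg19 yg16 zg33)) (@D3.rec (fun _ => Pt) (kg xg17 yg24 zg0) (kg xg19 yg16 zg3) (kg xg19 yg16 zg4) (kg xg17 yg24 zg5) (kg xg17 yg24 zg6) (kg xg19 yg16 zg36) (kg xg19 yg16 zg37) (kg xg19 yg16 zg13) (kg xg17 yg24 zg14) (kg xg19 yg13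 zg27) (kg xg18 yg15 zg11) (kg xg18 yg13 zg23) (kg xg18 yg4 zg29) (kg xg19 yg15 zg49) (kg xg18 yg10 zg26) (kg xg18 yg10 zg30) (kg xg17 yg24 zg27) (kg xg17 yg25 zg43) (kg xg18 yg7 zg8) (kg xg17 yg25 zg28) (kg xg18 yg0 zg33) (kg xg18 yg1 zg5) (kg xg18 yg7 zg14) (kg xg18 yg10 zg32) (kg xg18 yg7 zg25) (kg xg17 yg24 zg38) (kg xg19 yg17 zg1) (kg xg18 yg10 zg34) (kg xg18 yg10 zg35) (kg xg18 yg11 zg35) (kg xg18 yg11 zg36) (kg xg18 yg10 zg37) (kg xg18 yg1 zg33) (kg xg18 yg1 zg39) (kg xg18 yg1 zg41) (kg xg18 yg1 zg46) (kg xg18 yg12 zg10) (kg xg18 yg7 zg39) (kg xg18 yg11 zg44) (kg xg17 yg26 zg45) (kg xg17 yg26 zg46) (kg xg18 yg10 zg39) (kg xg18 yg10 zg40) (kg xg18 yg10 zg41) (kg xg18 yg1 zg4) (kg xg17 yg25 zg6) (kg xg19 yg17 zg24) (kg xg19 yg17 zg25) (kg xg18 yg10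 zg43) (kg xg17 yg25 zg11) (kg xg18 yg11 zg22)) (@D3.rec (fun _ => Pt) (kg xg17 yg25 zg13) (kg xg19 yg17 zg30) (kg xg18 yg0 zg23) (kg xg18 yg0 zg24) (kg xg18 yg10 zg48) (kg xg18 yg10 zg49) (kg xg18 yg11 zg1) (kg xg18 yg11 zg2) (kg xg19 yg12 zg0) (kg xg17 yg25 zg21) (kg xg17 yg25 zg22) (kg xg19 yg17 zg39) (kg xg19 yg17 zg40) (kg xg18 yg11 zg6) (kg xg18 yg11 zg47) (kg xg18 yg10 zg33) (kg xg19 yg16 zg46) (kg xg18 yg0 zg19) (kg xg18 yg0 zg22) (kg xg18 yg10 zg46) (kg xg18 yg10 zg50) (kg xg18 yg11 zg0) (kg xg18 yg11 zg5) (kg xg18 yg1 zg24) (kg xg18 yg8 zg2) (kg xg18 yg5 zg37) (kg xg18 yg8 zg4) (kg xg18 yg8 zg25) (kg xg18 yg7 zg49) (kg xg18 yg8 zg8) (kg xg18 yg0 zg16) (kg xg19 yg16 zg44) (kg xg17 yg26 zg47) (kg xg18 yg0 zg11) (kg xg18 yg11 zg10) (kg xg18 yg0 zg49)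 (kg xg18 yg11 zg11) (kg xg18 yg11 zg12) (kg xg18 yg1 zg9) (kg xg19 yg11 zg25) (kg xg19 yg11 zg26) (kg xg18 yg11 zg13) (kg xg18 yg11 zg7) (kg xg17 yg26 zg8) (kg xg19 yg11 zg45) (kg xg17 yg26 zg7) (kg xg19 yg18 zg27) (kg xg19 yg18 zg25) (kg xg18 yg0 zg25) (kg xg18 yg0 zg26) (kg xg17 yg26 zg15)) (@D3.rec (fun _ => Pt) (kg xg18 yg10 zg36) (kg xg19 yg11 zg30) (kg xg18 yg11 zg28) (kg xg18 yg11 zg16) (kg xg18 yg11 zg17) (kg xg19 yg18 zg33) (kg xg19 yg11 zg32) (kg xg19 yg11 zg33) (kg xg18 yg11 zg19) (kg xg18 yg10 zg42) (kg xg18 yg0 zg6) (kg xg19 yg11 zg35) (kg xg19 yg11 zg36) (kg xg18 yg2 zg46) (kg xg18 yg2 zg50) (kg xg18 yg10 zg12) (kg xg19 yg15 zg39) (kg xg18 yg10 zg20) (kg xg18 yg9 zg27) (kg xg18 yg6 zg34) (kg xg18 yg10 zg24) (kg xg18 yg9 zg30) (kg xg18 yg9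 zg31) (kg xg18 yg9 zg20) (kg xg18 yg9 zg35) (kg xg18 yg9 zg36) (kg xg19 yg19 zg13) (kg xg18 yg9 zg24) (kg xg18 yg9 zg25) (kg xg18 yg9 zg41) (kg xg17 yg26 zg48) (kg xg18 yg2 zg34) (kg xg18 yg2 zg48) (kg xg19 yg17 zg17) (kg xg19 yg17 zg18) (kg xg19 yg18 zg13) (kg xg19 yg18 zg14) (kg xg19 yg19 zg17) (kg xg18 yg1 zg48) (kg xg18 yg11 zg20) (kg xg18 yg11 zg21) (kg xg18 yg0 zg15) (kg xg18 yg11 zg23) (kg xg18 yg11 zg24) (kg xg18 yg11 zg25) (kg xg19 yg11 zg28) (kg xg18 yg11 zg18) (kg xg18 yg11 zg26) (kg xg18 yg11 zg27) (kg xg19 yg18 zg36) (kg xg18 yg0 zg8)) (@D3.rec (fun _ => Pt) (kg xg18 yg0 zg9) (kg xg19 yg19 zg41) (kg xg19 yg19 zg42) (kg xg18 yg11 zg29) (kg xg19 yg19 zg30) (kg xg19 yg18 zg11) (kg xg19 yg17 zg29) (kg xg18 yg0 zg27) (kg xg18 yg2 zg27) (kg xg19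 yg17 zg46) (kg xg18 yg12 zg25) (kg xg19 yg14 zg16) (kg xg19 yg14 zg17) (kg xg19 yg17 zg47) (kg xg19 yg17 zg23) (kg xg19 yg17 zg32) (kg xg19 yg17 zg33) (kg xg19 yg18 zg30) (kg xg19 yg18 zg31) (kg xg19 yg19 zg49) (kg xg18 yg2 zg7) (kg xg18 yg11 zg40) (kg xg19 yg13 zg38) (kg xg18 yg2 zg20) (kg xg18 yg11 zg42) (kg xg18 yg11 zg43) (kg xg19 yg16 zg47) (kg xg19 yg16 zg48) (kg xg18 yg11 zg45) (kg xg18 yg11 zg46) (kg xg18 yg1 zg10) (kg xg19 yg12 zg3) (kg xg19 yg14 zg10) (kg xg19 yg14 zg11) (kg xg18 yg11 zg48) (kg xg18 yg11 zg49) (kg xg18 yg11 zg50) (kg xg18 yg12 zg0) (kg xg19 yg20 zg39) (kg xg18 yg0 zg43) (kg xg18 yg0 zg44) (kg xg19 yg20 zg40) (kg xg19 yg20 zg41) (kg xg19 yg18 zg20) (kg xg18 yg12 zg4) (kg xg18 yg12 zg5) (kg xg19 yg20 zg48) (kg xg18 yg0 zg47) (kg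 xg19 yg18 zg17) (kg xg18 yg1 zg1) (kg xg18 yg1 zg2)) (@D3.rec (fun _ => Pt) (kg xg19 yg20 zg50) (kg xg19 yg21 zg0) (kg xg19 yg20 zg26) (kg xg18 yg1 zg8) (kg xg19 yg20 zg23) (kg xg19 yg20 zg20) (kg xg18 yg1 zg13) (kg xg18 yg1 zg23) (kg xg18 yg1 zg22) (kg xg19 yg21 zg6) (kg xg18 yg12 zg47) (kg xg18 yg2 zg21) (kg xg18 yg9 zg0) (kg xg19 yg21 zg8) (kg xg18 yg9 zg29) (kg xg19 yg21 zg7) (kg xg19 yg18 zg2) (kg xg18 yg8 zg17) (kg xg18 yg8 zg18) (kg xg18 yg8 zg22) (kg xg18 yg1 zg29) (kg xg19 yg21 zg16) (kg xg19 yg13 zg47) (kg xg19 yg13 zg48) (kg xg18 yg12 zg13) (kg xg19 yg17 zg8) (kg xg19 yg13 zg35) (kg xg18 yg2 zg0) (kg xg18 yg2 zg1) (kg xg18 yg6 zg22) (kg xg19 yg13 zg43) (kg xg19 yg13 zg44) (kg xg18 yg12 zg14) (kg xg19 yg17 zg9) (kg xg18 yg1 zg42) (kg xg19 yg17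 zg10) (kg xg19 yg17 zg11) (kg xg19 yg21 zg31) (kg xg19 yg13 zg45) (kg xg19 yg13 zg46) (kg xg18 yg12 zg18) (kg xg18 yg1 zg50) (kg xg19 yg19 zg26) (kg xg19 yg19 zg27) (kg xg18 yg2 zg2) (kg xg19 yg21 zg37) (kg xg19 yg21 zg23) (kg xg19 yg21 zg24) (kg xg19 yg21 zg40) (kg xg18 yg12 zg39) (kg xg18 yg12 zg42)) (@D3.rec (fun _ => Pt) (kg xg19 yg13 zg36) (kg xg18 yg12 zg45) (kg xg19 yg20 zg12) (kg xg19 yg12 zg1) (kg xg18 yg2 zg10) (kg xg18 yg2 zg11) (kg xg19 yg21 zg49) (kg xg19 yg21 zg50) (kg xg19 yg16 zg21) (kg xg19 yg15 zg46) (kg xg18 yg6 zg13) (kg xg18 yg12 zg28) (kg xg18 yg12 zg17) (kg xg18 yg2 zg22) (kg xg19 yg20 zg16) (kg xg19 yg20 zg17) (kg xg19 yg22 zg6) (kg xg18 yg12 zg40) (kg xg18 yg12 zg41) (kg xg18 yg12 zg43) (kg xg18 yg12 zg44) (kg xg18 yg12 zg46) (kg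 xg19 yg19 zg50) (kg xg18 yg12 zg26) (kg xg19 yg12 zg9) (kg xg18 yg12 zg48) (kg xg18 yg12 zg49) (kg xg19 yg22 zg22) (kg xg19 yg12 zg13) (kg xg19 yg12 zg14) (kg xg18 yg12 zg50) (kg xg19 yg19 zg18) (kg xg18 yg2 zg38) (kg xg18 yg2 zg37) (kg xg19 yg22 zg29) (kg xg19 yg22 zg30) (kg xg19 yg22 zg28) (kg xg19 yg12 zg31) (kg xg19 yg12 zg32) (kg xg18 yg13 zg1) (kg xg18 yg2 zg43) (kg xg18 yg2 zg44) (kg xg19 yg22 zg37) (kg xg19 yg12 zg38) (kg xg19 yg18 zg46) (kg xg18 yg3 zg3) (kg xg19 yg19 zg19) (kg xg19 yg19 zg20) (kg xg18 yg3 zg7) (kg xg19 yg18 zg47) (kg xg19 yg16 zg28)) (@D3.rec (fun _ => Pt) (kg xg18 yg3 zg2) (kg xg19 yg22 zg50) (kg xg19 yg23 zg0) (kg xg19 yg22 zg43) (kg xg18 yg3 zg5) (kg xg18 yg3 zg6) (kg xg19 yg23 zg4) (kg xg19 yg23 zg5) (kg xg19 yg22 zg46) (kg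 xg18 yg5 zg9) (kg xg18 yg13 zg10) (kg xg18 yg13 zg11) (kg xg19 yg13 zg5) (kg xg19 yg13 zg6) (kg xg19 yg13 zg7) (kg xg18 yg13 zg12) (kg xg18 yg13 zg13) (kg xg19 yg13 zg13) (kg xg19 yg13 zg14) (kg xg18 yg13 zg14) (kg xg19 yg13 zg20) (kg xg19 yg13 zg21) (kg xg19 yg13 zg22) (kg xg18 yg3 zg22) (kg xg18 yg3 zg23) (kg xg19 yg23 zg25) (kg xg18 yg3 zg26) (kg xg18 yg11 zg9) (kg xg19 yg23 zg27) (kg xg19 yg13 zg29) (kg xg19 yg13 zg30) (kg xg18 yg6 zg43) (kg xg19 yg13 zg32) (kg xg18 yg3 zg39) (kg xg18 yg4 zg24) (kg xg18 yg13 zg38) (kg xg19 yg16 zg11) (kg xg18 yg3 zg38) (kg xg19 yg23 zg35) (kg xg19 yg23 zg36) (kg xg19 yg23 zg30) (kg xg18 yg13 zg15) (kg xg18 yg8 zg24) (kg xg18 yg13 zg16) (kg xg18 yg13 zg17) (kg xg19 yg14 zg24) (kg xg18 yg13 zg18) (kg xg18 yg13 zg19)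 (kg xg18 yg13 zg20) (kg xg19 yg24 zg1) (kg xg19 yg14 zg22))
def f_g_19 : D2 → D3 → Pt := @D2.rec (fun _ => D3 → Pt) (@D3.rec (fun _ => Pt) (kg xg18 yg13 zg21) (kg xg18 yg13 zg22) (kg xg18 yg4 zg0) (kg xg19 yg24 zg6) (kg xg19 yg24 zg7) (kg xg18 yg13 zg24) (kg xg18 yg13 zg25) (kg xg19 yg24 zg14) (kg xg18 yg4 zg3) (kg xg18 yg4 zg5) (kg xg18 yg4 zg6) (kg xg19 yg24 zg15) (kg xg19 yg24 zg16) (kg xg18 yg13 zg26) (kg xg18 yg4 zg15) (kg xg18 yg4 zg10) (kg xg19 yg24 zg21) (kg xg19 yg24 zg22) (kg xg18 yg4 zg20) (kg xg19 yg15 zg19) (kg xg18 yg4 zg14) (kg xg19 yg24 zg27) (kg xg19 yg24 zg20) (kg xg18 yg4 zg31) (kg xg18 yg4 zg18) (kg xg18 yg4 zg19) (kg xg19 yg24 zg32) (kg xg19 yg24 zg33) (kg xg19 yg24 zg25) (kg xg18 yg13 zg39) (kg xg18 yg13 zg42) (kg xg19 yg14 zg33)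 (kg xg19 yg23 zg31) (kg xg18 yg13 zg48) (kg xg18 yg13 zg49) (kg xg18 yg4 zg28) (kg xg19 yg24 zg44) (kg xg19 yg16 zg42) (kg xg18 yg14 zg4) (kg xg19 yg24 zg30) (kg xg19 yg24 zg31) (kg xg18 yg4 zg34) (kg xg18 yg4 zg35) (kg xg19 yg24 zg49) (kg xg19 yg24 zg50) (kg xg19 yg25 zg0) (kg xg18 yg4 zg43) (kg xg18 yg4 zg44) (kg xg18 yg4 zg41) (kg xg18 yg4 zg42) (kg xg19 yg17 zg12)) (@D3.rec (fun _ => Pt) (kg xg19 yg25 zg5) (kg xg19 yg25 zg6) (kg xg19 yg25 zg4) (kg xg18 yg4 zg47) (kg xg18 yg6 zg28) (kg xg19 yg25 zg10) (kg xg18 yg5 zg10) (kg xg18 yg5 zg15) (kg xg18 yg5 zg0) (kg xg19 yg25 zg16) (kg xg19 yg25 zg17) (kg xg18 yg5 zg20) (kg xg18 yg5 zg21) (kg xg18 yg10 zg4) (kg xg18 yg5 zg5) (kg xg18 yg5 zg6) (kg xg19 yg25 zg24) (kg xg19 yg25 zg25) (kg xg18 yg5 zg27) (kg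 xg18 yg13 zg33) (kg xg19 yg23 zg10) (kg xg19 yg22 zg3) (kg xg19 yg25 zg14) (kg xg18 yg5 zg13) (kg xg18 yg9 zg45) (kg xg19 yg25 zg33) (kg xg19 yg25 zg34) (kg xg18 yg13 zg6) (kg xg19 yg25 zg15) (kg xg18 yg5 zg48) (kg xg18 yg5 zg18) (kg xg18 yg5 zg19) (kg xg19 yg25 zg42) (kg xg19 yg25 zg43) (kg xg19 yg25 zg21) (kg xg19 yg25 zg22) (kg xg18 yg6 zg6) (kg xg18 yg6 zg7) (kg xg18 yg5 zg25) (kg xg18 yg5 zg26) (kg xg19 yg21 zg25) (kg xg19 yg26 zg0) (kg xg19 yg26 zg1) (kg xg19 yg26 zg2) (kg xg18 yg14 zg33) (kg xg18 yg5 zg30) (kg xg19 yg26 zg8) (kg xg19 yg15 zg38) (kg xg18 yg14 zg26) (kg xg18 yg5 zg33) (kg xg19 yg26 zg12)) (@D3.rec (fun _ => Pt) (kg xg19 yg15 zg35) (kg xg18 yg14 zg38) (kg xg18 yg14 zg21) (kg xg19 yg18 zg4) (kg xg18 yg5 zg40) (kg xg18 yg5 zg41) (kg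 xg18 yg5 zg42) (kg xg19 yg26 zg18) (kg xg19 yg26 zg19) (kg xg19 yg26 zg20) (kg xg19 yg26 zg21) (kg xg19 yg12 zg27) (kg xg18 yg14 zg46) (kg xg18 yg13 zg32) (kg xg18 yg14 zg47) (kg xg18 yg14 zg20) (kg xg18 yg9 zg28) (kg xg19 yg12 zg26) (kg xg19 yg25 zg40) (kg xg19 yg25 zg41) (kg xg18 yg6 zg0) (kg xg18 yg6 zg1) (kg xg19 yg12 zg30) (kg xg19 yg26 zg39) (kg xg19 yg26 zg40) (kg xg19 yg25 zg11) (kg xg19 yg12 zg29) (kg xg18 yg15 zg5) (kg xg19 yg12 zg28) (kg xg19 yg25 zg49) (kg xg19 yg25 zg50) (kg xg18 yg6 zg10) (kg xg18 yg6 zg11) (kg xg18 yg6 zg12) (kg xg19 yg26 zg50) (kg xg20 yg0 zg0) (kg xg20 yg0 zg1) (kg xg18 yg6 zg26) (kg xg18 yg6 zg17) (kg xg18 yg10 zg31) (kg xg20 yg0 zg7) (kg xg18 yg6 zg29) (kg xg18 yg6 zg23) (kg xg18 yg6 zg24) (kg xg18 yg6 zg25) (kg xg20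 yg0 zg11) (kg xg20 yg0 zg12) (kg xg20 yg0 zg13) (kg xg19 yg19 zg3) (kg xg19 yg25 zg12) (kg xg20 yg0 zg10)) (@D3.rec (fun _ => Pt) (kg xg18 yg6 zg33) (kg xg18 yg8 zg21) (kg xg18 yg10 zg19) (kg xg18 yg10 zg11) (kg xg20 yg0 zg19) (kg xg18 yg6 zg40) (kg xg18 yg6 zg41) (kg xg18 yg7 zg4) (kg xg18 yg6 zg42) (kg xg20 yg0 zg23) (kg xg19 yg24 zg0) (kg xg20 yg0 zg25) (kg xg18 yg6 zg48) (kg xg18 yg8 zg28) (kg xg18 yg8 zg37) (kg xg18 yg9 zg23) (kg xg18 yg8 zg50) (kg xg19 yg12 zg8) (kg xg18 yg8 zg29) (kg xg20 yg0 zg24) (kg xg19 yg11 zg27) (kg xg19 yg11 zg34) (kg xg19 yg11 zg37) (kg xg19 yg16 zg45) (kg xg19 yg11 zg38) (kg xg19 yg11 zg42) (kg xg18 yg7 zg13) (kg xg19 yg11 zg29) (kg xg20 yg0 zg33) (kg xg19 yg16 zg49) (kg xg19 yg16 zg50) (kg xg18 yg10 zg44) (kg xg18 yg13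 zg3) (kg xg18 yg13 zg4) (kg xg18 yg7 zg32) (kg xg18 yg7 zg19) (kg xg18 yg7 zg20) (kg xg20 yg0 zg41) (kg xg20 yg0 zg42) (kg xg19 yg11 zg44) (kg xg18 yg7 zg23) (kg xg20 yg0 zg45) (kg xg19 yg12 zg10) (kg xg19 yg12 zg11) (kg xg19 yg12 zg15) (kg xg19 yg14 zg1) (kg xg19 yg12 zg33) (kg xg20 yg0 zg40) (kg xg18 yg9 zg14) (kg xg19 yg13 zg3) (kg xg19 yg13 zg4)) (@D3.rec (fun _ => Pt) (kg xg19 yg13 zg16) (kg xg19 yg13 zg17) (kg xg19 yg17 zg15) (kg xg19 yg13 zg49) (kg xg19 yg14 zg3) (kg xg19 yg14 zg4) (kg xg19 yg14 zg5) (kg xg19 yg14 zg6) (kg xg19 yg14 zg9) (kg xg18 yg8 zg0) (kg xg18 yg8 zg1) (kg xg18 yg8 zg5) (kg xg18 yg8 zg6) (kg xg20 yg0 zg27) (kg xg19 yg18 zg8) (kg xg19 yg18 zg9) (kg xg18 yg8 zg9) (kg xg20 yg1 zg8) (kg xg20 yg1 zg9) (kg xg19 yg23 zg42) (kg xg19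 yg18 zg3) (kg xg18 yg14 zg48) (kg xg18 yg14 zg49) (kg xg19 yg18 zg5) (kg xg19 yg18 zg6) (kg xg20 yg1 zg10) (kg xg20 yg1 zg11) (kg xg20 yg1 zg29) (kg xg18 yg8 zg7) (kg xg19 yg18 zg10) (kg xg20 yg1 zg15) (kg xg18 yg14 zg18) (kg xg18 yg14 zg19) (kg xg18 yg15 zg6) (kg xg18 yg15 zg4) (kg xg18 yg15 zg1) (kg xg18 yg14 zg10) (kg xg18 yg14 zg11) (kg xg18 yg14 zg22) (kg xg18 yg14 zg23) (kg xg20 yg0 zg21) (kg xg19 yg21 zg13) (kg xg19 yg21 zg14) (kg xg19 yg14 zg14) (kg xg19 yg14 zg15) (kg xg20 yg0 zg20) (kg xg19 yg21 zg15) (kg xg20 yg1 zg46) (kg xg18 yg8 zg31) (kg xg18 yg15 zg9) (kg xg18 yg15 zg15)) (@D3.rec (fun _ => Pt) (kg xg19 yg14 zg35) (kg xg19 yg14 zg36) (kg xg19 yg14 zg37) (kg xg19 yg14 zg39) (kg xg19 yg14 zg40) (kg xg19 yg14 zg43) (kg xg19 yg14 zg44) (kg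 xg19 yg14 zg49) (kg xg18 yg9 zg2) (kg xg18 yg9 zg3) (kg xg18 yg9 zg4) (kg xg20 yg0 zg8) (kg xg18 yg9 zg5) (kg xg19 yg14 zg25) (kg xg19 yg26 zg31) (kg xg19 yg21 zg9) (kg xg19 yg12 zg17) (kg xg20 yg2 zg4) (kg xg20 yg2 zg5) (kg xg20 yg2 zg6) (kg xg20 yg2 zg7) (kg xg20 yg2 zg9) (kg xg19 yg15 zg15) (kg xg19 yg15 zg16) (kg xg18 yg14 zg32) (kg xg19 yg15 zg17) (kg xg19 yg15 zg18) (kg xg19 yg15 zg45) (kg xg19 yg15 zg20) (kg xg19 yg15 zg21) (kg xg19 yg15 zg22) (kg xg19 yg15 zg23) (kg xg20 yg0 zg50) (kg xg19 yg15 zg26) (kg xg19 yg15 zg27) (kg xg18 yg9 zg18) (kg xg20 yg2 zg33) (kg xg19 yg19 zg8) (kg xg19 yg19 zg9) (kg xg18 yg9 zg37) (kg xg18 yg9 zg38) (kg xg20 yg0 zg28) (kg xg19 yg19 zg14) (kg xg19 yg19 zg15) (kg xg18 yg9 zg42) (kg xg19 yg19 zg1) (kg xg19 yg19 zg2)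 (kg xg19 yg26 zg33) (kg xg19 yg20 zg37) (kg xg19 yg19 zg5) (kg xg19 yg19 zg6)) (@D3.rec (fun _ => Pt) (kg xg19 yg19 zg7) (kg xg19 yg12 zg18) (kg xg19 yg12 zg19) (kg xg19 yg12 zg42) (kg xg19 yg12 zg43) (kg xg20 yg3 zg6) (kg xg19 yg19 zg10) (kg xg19 yg19 zg11) (kg xg20 yg2 zg37) (kg xg20 yg2 zg38) (kg xg20 yg3 zg11) (kg xg18 yg9 zg39) (kg xg19 yg19 zg16) (kg xg18 yg13 zg40) (kg xg18 yg13 zg41) (kg xg19 yg16 zg12) (kg xg19 yg25 zg35) (kg xg19 yg15 zg24) (kg xg19 yg16 zg14) (kg xg19 yg16 zg15) (kg xg19 yg16 zg16) (kg xg19 yg16 zg17) (kg xg18 yg9 zg50) (kg xg20 yg3 zg21) (kg xg19 yg15 zg28) (kg xg19 yg16 zg19) (kg xg19 yg16 zg20) (kg xg18 yg10 zg5) (kg xg18 yg10 zg6) (kg xg19 yg25 zg23) (kg xg19 yg25 zg20) (kg xg20 yg3 zg25) (kg xg20 yg3 zg26) (kg xg19 yg16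 zg22) (kg xg19 yg16 zg23) (kg xg19 yg25 zg44) (kg xg19 yg16 zg24) (kg xg19 yg16 zg25) (kg xg20 yg0 zg22) (kg xg19 yg18 zg48) (kg xg19 yg16 zg43) (kg xg18 yg10 zg15) (kg xg18 yg10 zg16) (kg xg20 yg3 zg39) (kg xg20 yg3 zg40) (kg xg19 yg16 zg31) (kg xg20 yg0 zg3) (kg xg19 yg19 zg0) (kg xg18 yg10 zg22) (kg xg19 yg14 zg23) (kg xg20 yg3 zg44)) (@D3.rec (fun _ => Pt) (kg xg18 yg10 zg28) (kg xg19 yg17 zg0) (kg xg19 yg17 zg44) (kg xg19 yg17 zg3) (kg xg19 yg17 zg4) (kg xg19 yg18 zg32) (kg xg19 yg17 zg7) (kg xg18 yg12 zg27) (kg xg19 yg17 zg19) (kg xg19 yg17 zg20) (kg xg19 yg17 zg21) (kg xg19 yg17 zg22) (kg xg19 yg18 zg43) (kg xg19 yg17 zg28) (kg xg20 yg0 zg37) (kg xg18 yg12 zg19) (kg xg19 yg17 zg48) (kg xg19 yg17 zg49) (kg xg18 yg12 zg29) (kg xg18 yg12 zg30) (kg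 xg19 yg17 zg34) (kg xg19 yg17 zg35) (kg xg19 yg23 zg6) (kg xg19 yg17 zg50) (kg xg19 yg18 zg0) (kg xg19 yg18 zg24) (kg xg19 yg17 zg36) (kg xg19 yg17 zg37) (kg xg20 yg4 zg23) (kg xg18 yg11 zg3) (kg xg19 yg18 zg1) (kg xg19 yg22 zg38) (kg xg19 yg18 zg15) (kg xg19 yg18 zg16) (kg xg19 yg18 zg18) (kg xg19 yg18 zg19) (kg xg19 yg18 zg23) (kg xg18 yg11 zg15) (kg xg20 yg4 zg28) (kg xg19 yg18 zg37) (kg xg19 yg18 zg38) (kg xg19 yg19 zg37) (kg xg19 yg19 zg28) (kg xg19 yg19 zg29) (kg xg19 yg19 zg31) (kg xg19 yg19 zg32) (kg xg19 yg19 zg33) (kg xg19 yg19 zg34) (kg xg19 yg19 zg38) (kg xg19 yg19 zg39) (kg xg19 yg18 zg35)) (@D3.rec (fun _ => Pt) (kg xg18 yg11 zg37) (kg xg18 yg11 zg38) (kg xg19 yg11 zg40) (kg xg19 yg11 zg41) (kg xg18 yg11 zg39) (kg xg19 yg17 zg5) (kg xg19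 yg17 zg6) (kg xg20 yg4 zg40) (kg xg20 yg4 zg41) (kg xg19 yg20 zg13) (kg xg19 yg11 zg50) (kg xg19 yg20 zg18) (kg xg19 yg20 zg19) (kg xg19 yg17 zg16) (kg xg19 yg20 zg24) (kg xg19 yg20 zg25) (kg xg19 yg17 zg43) (kg xg19 yg20 zg32) (kg xg19 yg20 zg33) (kg xg19 yg20 zg35) (kg xg19 yg20 zg36) (kg xg18 yg12 zg2) (kg xg20 yg5 zg6) (kg xg19 yg11 zg39) (kg xg19 yg20 zg46) (kg xg20 yg5 zg9) (kg xg18 yg12 zg6) (kg xg18 yg12 zg9) (kg xg19 yg17 zg13) (kg xg19 yg17 zg14) (kg xg18 yg12 zg12) (kg xg20 yg5 zg12) (kg xg19 yg21 zg28) (kg xg18 yg12 zg16) (kg xg20 yg5 zg13) (kg xg19 yg22 zg5) (kg xg20 yg4 zg7) (kg xg20 yg4 zg8) (kg xg18 yg12 zg31) (kg xg18 yg12 zg22) (kg xg18 yg12 zg23) (kg xg20 yg5 zg17) (kg xg20 yg5 zg18) (kg xg18 yg12 zg34) (kg xg19 yg20 zg2) (kg xg19 yg20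 zg3) (kg xg19 yg22 zg16) (kg xg20 yg3 zg50) (kg xg20 yg4 zg0) (kg xg19 yg22 zg4) (kg xg20 yg4 zg12)) (@D3.rec (fun _ => Pt) (kg xg20 yg4 zg13) (kg xg20 yg5 zg16) (kg xg18 yg12 zg33) (kg xg20 yg5 zg30) (kg xg19 yg13 zg50) (kg xg19 yg14 zg0) (kg xg18 yg13 zg0) (kg xg19 yg14 zg7) (kg xg19 yg14 zg8) (kg xg19 yg21 zg44) (kg xg19 yg22 zg10) (kg xg19 yg22 zg11) (kg xg19 yg21 zg45) (kg xg19 yg22 zg12) (kg xg19 yg22 zg13) (kg xg19 yg22 zg19) (kg xg19 yg22 zg20) (kg xg19 yg22 zg25) (kg xg20 yg5 zg33) (kg xg18 yg13 zg7) (kg xg20 yg0 zg38) (kg xg20 yg0 zg39) (kg xg18 yg13 zg8) (kg xg19 yg25 zg38) (kg xg20 yg5 zg42) (kg xg19 yg15 zg25) (kg xg19 yg23 zg11) (kg xg19 yg23 zg12) (kg xg19 yg23 zg17) (kg xg19 yg23 zg18) (kg xg19 yg23 zg40) (kg xg19 yg23 zg41) (kg xg19 yg23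 zg44) (kg xg19 yg16 zg41) (kg xg19 yg23 zg47) (kg xg19 yg23 zg48) (kg xg19 yg23 zg50) (kg xg19 yg24 zg4) (kg xg19 yg15 zg37) (kg xg19 yg24 zg5) (kg xg19 yg16 zg10) (kg xg19 yg24 zg11) (kg xg19 yg24 zg12) (kg xg19 yg14 zg41) (kg xg19 yg14 zg42) (kg xg18 yg13 zg34) (kg xg19 yg14 zg47) (kg xg19 yg14 zg48) (kg xg18 yg13 zg35) (kg xg19 yg26 zg30) (kg xg19 yg25 zg29)) (@D3.rec (fun _ => Pt) (kg xg20 yg6 zg13) (kg xg19 yg16 zg18) (kg xg19 yg15 zg29) (kg xg19 yg15 zg30) (kg xg19 yg23 zg32) (kg xg19 yg23 zg33) (kg xg19 yg24 zg38) (kg xg20 yg3 zg12) (kg xg20 yg3 zg13) (kg xg19 yg24 zg39) (kg xg18 yg13 zg45) (kg xg18 yg13 zg46) (kg xg18 yg13 zg47) (kg xg20 yg6 zg28) (kg xg20 yg6 zg29) (kg xg20 yg6 zg30) (kg xg20 yg6 zg31) (kg xg19 yg24 zg42) (kg xg19 yg24 zg43) (kg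 xg19 yg14 zg26) (kg xg19 yg14 zg27) (kg xg18 yg14 zg2) (kg xg18 yg14 zg3) (kg xg19 yg13 zg15) (kg xg20 yg6 zg41) (kg xg20 yg6 zg42) (kg xg19 yg14 zg32) (kg xg18 yg14 zg7) (kg xg20 yg1 zg37) (kg xg20 yg1 zg38) (kg xg18 yg14 zg25) (kg xg18 yg14 zg15) (kg xg18 yg14 zg16) (kg xg20 yg6 zg48) (kg xg20 yg6 zg49) (kg xg20 yg6 zg50) (kg xg20 yg1 zg31) (kg xg20 yg1 zg32) (kg xg19 yg26 zg32) (kg xg19 yg26 zg15) (kg xg20 yg1 zg39) (kg xg20 yg1 zg40) (kg xg20 yg7 zg8) (kg xg18 yg14 zg24) (kg xg19 yg26 zg11) (kg xg20 yg7 zg10) (kg xg18 yg14 zg27) (kg xg18 yg15 zg7) (kg xg18 yg14 zg31) (kg xg20 yg2 zg22) (kg xg19 yg26 zg7)) (@D3.rec (fun _ => Pt) (kg xg18 yg14 zg36) (kg xg18 yg14 zg37) (kg xg20 yg7 zg13) (kg xg20 yg7 zg14) (kg xg20 yg1 zg36) (kg xg18 yg14 zg42) (kg xg18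 yg14 zg43) (kg xg18 yg14 zg44) (kg xg18 yg14 zg45) (kg xg20 yg1 zg33) (kg xg20 yg7 zg18) (kg xg20 yg7 zg19) (kg xg20 yg7 zg21) (kg xg20 yg7 zg22) (kg xg20 yg1 zg22) (kg xg19 yg26 zg29) (kg xg20 yg1 zg21) (kg xg20 yg1 zg47) (kg xg18 yg15 zg2) (kg xg18 yg15 zg3) (kg xg20 yg7 zg28) (kg xg20 yg1 zg35) (kg xg20 yg1 zg34) (kg xg20 yg7 zg11) (kg xg19 yg14 zg38) (kg xg18 yg21 zg39) (kg xg18 yg21 zg40) (kg xg19 yg3 zg20) (kg xg18 yg22 zg45) (kg xg19 yg3 zg27) (kg xg18 yg22 zg1) (kg xg18 yg15 zg35) (kg xg18 yg22 zg6) (kg xg18 yg22 zg7) (kg xg19 yg3 zg21) (kg xg18 yg22 zg11) (kg xg18 yg22 zg12) (kg xg19 yg3 zg22) (kg xg19 yg3 zg24) (kg xg19 yg8 zg23) (kg xg19 yg8 zg2) (kg xg19 yg8 zg3) (kg xg19 yg3 zg25) (kg xg20 yg7 zg36) (kg xg19 yg3 zg39) (kg xg18 yg21 zg44) (kg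 xg18 yg15 zg40) (kg xg18 yg15 zg41) (kg xg20 yg7 zg47) (kg xg20 yg7 zg48) (kg xg19 yg8 zg10)) (@D3.rec (fun _ => Pt) (kg xg18 yg21 zg8) (kg xg18 yg25 zg3) (kg xg18 yg17 zg27) (kg xg18 yg23 zg31) (kg xg18 yg17 zg37) (kg xg18 yg16 zg26) (kg xg18 yg17 zg1) (kg xg18 yg17 zg2) (kg xg19 yg3 zg17) (kg xg18 yg25 zg24) (kg xg19 yg3 zg42) (kg xg19 yg3 zg43) (kg xg20 yg8 zg17) (kg xg18 yg25 zg28) (kg xg18 yg25 zg29) (kg xg19 yg3 zg44) (kg xg18 yg16 zg11) (kg xg19 yg5 zg16) (kg xg19 yg6 zg1) (kg xg19 yg6 zg2) (kg xg20 yg8 zg27) (kg xg18 yg16 zg10) (kg xg20 yg8 zg28) (kg xg20 yg8 zg29) (kg xg20 yg8 zg21) (kg xg18 yg18 zg32) (kg xg19 yg2 zg17) (kg xg19 yg2 zg11) (kg xg19 yg2 zg28) (kg xg19 yg2 zg26) (kg xg19 yg2 zg22) (kg xg18 yg25 zg37) (kg xg18 yg25 zg38) (kg xg19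 yg3 zg46) (kg xg18 yg16 zg20) (kg xg18 yg16 zg22) (kg xg18 yg16 zg23) (kg xg20 yg8 zg44) (kg xg18 yg25 zg43) (kg xg18 yg16 zg33) (kg xg20 yg8 zg6) (kg xg20 yg8 zg7) (kg xg19 yg6 zg3) (kg xg19 yg6 zg4) (kg xg20 yg9 zg4) (kg xg18 yg16 zg29) (kg xg18 yg16 zg31) (kg xg18 yg16 zg32) (kg xg20 yg9 zg5) (kg xg20 yg9 zg6) (kg xg20 yg8 zg48)) (@D3.rec (fun _ => Pt) (kg xg18 yg18 zg30) (kg xg18 yg19 zg17) (kg xg18 yg19 zg18) (kg xg19 yg3 zg49) (kg xg19 yg3 zg50) (kg xg18 yg26 zg12) (kg xg18 yg26 zg13) (kg xg18 yg26 zg14) (kg xg18 yg18 zg33) (kg xg18 yg18 zg34) (kg xg18 yg19 zg20) (kg xg18 yg19 zg21) (kg xg20 yg9 zg28) (kg xg18 yg26 zg17) (kg xg18 yg26 zg18) (kg xg19 yg10 zg23) (kg xg19 yg4 zg0) (kg xg19 yg4 zg1) (kg xg20 yg9 zg35) (kg xg18 yg16 zg47) (kg xg18 yg26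 zg20) (kg xg18 yg26 zg21) (kg xg18 yg26 zg22) (kg xg20 yg8 zg8) (kg xg20 yg9 zg40) (kg xg18 yg17 zg3) (kg xg18 yg17 zg7) (kg xg18 yg20 zg9) (kg xg20 yg9 zg41) (kg xg18 yg26 zg29) (kg xg18 yg26 zg30) (kg xg18 yg17 zg19) (kg xg18 yg26 zg32) (kg xg18 yg18 zg31) (kg xg20 yg9 zg44) (kg xg18 yg24 zg26) (kg xg18 yg25 zg0) (kg xg18 yg17 zg26) (kg xg18 yg23 zg22) (kg xg18 yg17 zg28) (kg xg20 yg9 zg47) (kg xg20 yg8 zg2) (kg xg20 yg9 zg50) (kg xg18 yg24 zg30) (kg xg18 yg24 zg31) (kg xg18 yg24 zg38) (kg xg18 yg24 zg39) (kg xg18 yg24 zg22) (kg xg18 yg24 zg23) (kg xg19 yg4 zg3) (kg xg19 yg9 zg4)) (@D3.rec (fun _ => Pt) (kg xg19 yg9 zg5) (kg xg19 yg3 zg45) (kg xg20 yg8 zg5) (kg xg19 yg4 zg4) (kg xg19 yg4 zg5) (kg xg19 yg4 zg6) (kg xg19 yg4 zg7) (kg xg19 yg9 zg7) (kg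 xg19 yg9 zg8) (kg xg19 yg4 zg8) (kg xg18 yg23 zg32) (kg xg18 yg23 zg33) (kg xg18 yg17 zg46) (kg xg20 yg10 zg21) (kg xg19 yg4 zg43) (kg xg19 yg4 zg44) (kg xg18 yg23 zg11) (kg xg18 yg23 zg12) (kg xg18 yg18 zg1) (kg xg18 yg18 zg2) (kg xg20 yg10 zg25) (kg xg20 yg10 zg26) (kg xg18 yg26 zg50) (kg xg19 yg6 zg49) (kg xg18 yg26 zg45) (kg xg19 yg5 zg13) (kg xg19 yg10 zg19) (kg xg19 yg10 zg20) (kg xg20 yg10 zg38) (kg xg18 yg18 zg12) (kg xg20 yg10 zg39) (kg xg20 yg10 zg40) (kg xg19 yg10 zg26) (kg xg19 yg0 zg31) (kg xg18 yg18 zg35) (kg xg19 yg5 zg0) (kg xg19 yg5 zg1) (kg xg19 yg5 zg2) (kg xg19 yg11 zg24) (kg xg19 yg5 zg3) (kg xg19 yg5 zg4) (kg xg19 yg9 zg43) (kg xg19 yg9 zg44) (kg xg19 yg5 zg5) (kg xg19 yg5 zg6) (kg xg20 yg11 zg8) (kg xg18 yg18 zg23) (kg xg19 yg9 zg46)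 (kg xg19 yg9 zg47) (kg xg19 yg5 zg7) (kg xg18 yg18 zg28)) (@D3.rec (fun _ => Pt) (kg xg20 yg11 zg12) (kg xg20 yg11 zg13) (kg xg18 yg18 zg39) (kg xg20 yg9 zg11) (kg xg20 yg9 zg12) (kg xg20 yg8 zg33) (kg xg20 yg8 zg34) (kg xg20 yg9 zg22) (kg xg20 yg9 zg23) (kg xg20 yg10 zg45) (kg xg18 yg18 zg37) (kg xg18 yg18 zg38) (kg xg20 yg11 zg24) (kg xg20 yg11 zg25) (kg xg20 yg11 zg16) (kg xg19 yg5 zg22) (kg xg19 yg5 zg23) (kg xg19 yg5 zg25) (kg xg19 yg5 zg26) (kg xg19 yg0 zg19) (kg xg19 yg5 zg28) (kg xg19 yg5 zg29) (kg xg19 yg5 zg30) (kg xg19 yg5 zg31) (kg xg19 yg6 zg17) (kg xg19 yg9 zg25) (kg xg19 yg5 zg33) (kg xg19 yg5 zg34) (kg xg19 yg6 zg24) (kg xg19 yg10 zg2) (kg xg19 yg10 zg3) (kg xg18 yg19 zg3) (kg xg18 yg19 zg4) (kg xg20 yg11 zg46) (kg xg20 yg11 zg47) (kg xg19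 yg2 zg0) (kg xg20 yg8 zg45) (kg xg19 yg9 zg38) (kg xg19 yg1 zg47) (kg xg18 yg22 zg16) (kg xg18 yg19 zg12) (kg xg18 yg19 zg13) (kg xg20 yg12 zg4) (kg xg20 yg12 zg5) (kg xg18 yg19 zg29) (kg xg19 yg5 zg27) (kg xg18 yg25 zg9) (kg xg20 yg9 zg13) (kg xg20 yg9 zg14) (kg xg18 yg20 zg13) (kg xg20 yg9 zg25)) (@D3.rec (fun _ => Pt) (kg xg20 yg9 zg26) (kg xg20 yg12 zg17) (kg xg18 yg19 zg22) (kg xg18 yg20 zg1) (kg xg18 yg20 zg2) (kg xg18 yg19 zg27) (kg xg18 yg19 zg28) (kg xg20 yg9 zg7) (kg xg20 yg12 zg20) (kg xg20 yg12 zg21) (kg xg19 yg9 zg40) (kg xg18 yg26 zg36) (kg xg19 yg6 zg15) (kg xg18 yg20 zg7) (kg xg19 yg6 zg18) (kg xg19 yg6 zg19) (kg xg19 yg6 zg20) (kg xg19 yg6 zg21) (kg xg19 yg10 zg1) (kg xg19 yg6 zg25) (kg xg19 yg6 zg26) (kg xg18 yg25 zg8) (kg xg19 yg6 zg33)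 (kg xg19 yg6 zg34) (kg xg19 yg6 zg36) (kg xg19 yg6 zg37) (kg xg20 yg12 zg39) (kg xg18 yg19 zg44) (kg xg18 yg25 zg50) (kg xg18 yg19 zg47) (kg xg20 yg12 zg41) (kg xg19 yg6 zg45) (kg xg20 yg12 zg43) (kg xg18 yg19 zg50) (kg xg20 yg12 zg18) (kg xg20 yg12 zg19) (kg xg18 yg20 zg5) (kg xg18 yg20 zg6) (kg xg20 yg12 zg46) (kg xg20 yg12 zg27) (kg xg20 yg12 zg14) (kg xg19 yg9 zg33) (kg xg19 yg0 zg37) (kg xg19 yg6 zg40) (kg xg18 yg21 zg31) (kg xg19 yg3 zg23) (kg xg18 yg21 zg16) (kg xg18 yg23 zg26) (kg xg18 yg23 zg27) (kg xg19 yg3 zg29) (kg xg19 yg3 zg30)) (@D3.rec (fun _ => Pt) (kg xg19 yg7 zg1) (kg xg18 yg20 zg26) (kg xg20 yg13 zg9) (kg xg19 yg7 zg3) (kg xg19 yg7 zg4) (kg xg19 yg8 zg5) (kg xg19 yg8 zg6) (kg xg19 yg7 zg6) (kg xg18 yg24 zg25) (kg xg18 yg24 zg33) (kg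 xg18 yg24 zg35) (kg xg18 yg24 zg36) (kg xg19 yg0 zg50) (kg xg19 yg8 zg28) (kg xg19 yg8 zg29) (kg xg19 yg4 zg2) (kg xg19 yg8 zg13) (kg xg18 yg22 zg33) (kg xg18 yg22 zg34) (kg xg19 yg7 zg8) (kg xg19 yg7 zg9) (kg xg19 yg7 zg10) (kg xg19 yg7 zg11) (kg xg18 yg23 zg14) (kg xg18 yg20 zg46) (kg xg18 yg20 zg47) (kg xg20 yg13 zg34) (kg xg20 yg13 zg35) (kg xg19 yg7 zg13) (kg xg18 yg23 zg6) (kg xg18 yg21 zg1) (kg xg20 yg13 zg39) (kg xg18 yg23 zg15) (kg xg18 yg23 zg16) (kg xg19 yg7 zg20) (kg xg19 yg7 zg21) (kg xg19 yg7 zg26) (kg xg19 yg7 zg27) (kg xg20 yg8 zg1) (kg xg18 yg21 zg11) (kg xg18 yg21 zg12) (kg xg20 yg13 zg46) (kg xg20 yg13 zg47) (kg xg19 yg8 zg16) (kg xg19 yg7 zg2) (kg xg20 yg13 zg3) (kg xg18 yg23 zg9) (kg xg18 yg23 zg13) (kg xg19 yg7 zg16) (kg xg19 yg7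 zg17) (kg xg19 yg7 zg23)) (@D3.rec (fun _ => Pt) (kg xg19 yg7 zg24) (kg xg19 yg7 zg30) (kg xg18 yg24 zg16) (kg xg19 yg4 zg20) (kg xg19 yg2 zg3) (kg xg19 yg4 zg23) (kg xg19 yg4 zg24) (kg xg20 yg14 zg15) (kg xg19 yg4 zg14) (kg xg19 yg4 zg15) (kg xg19 yg4 zg29) (kg xg18 yg23 zg5) (kg xg20 yg13 zg1) (kg xg18 yg22 zg35) (kg xg18 yg22 zg36) (kg xg19 yg7 zg32) (kg xg19 yg7 zg33) (kg xg18 yg23 zg48) (kg xg19 yg7 zg34) (kg xg19 yg7 zg35) (kg xg18 yg23 zg43) (kg xg20 yg7 zg30) (kg xg20 yg7 zg31) (kg xg19 yg7 zg36) (kg xg19 yg7 zg25) (kg xg18 yg21 zg47) (kg xg20 yg7 zg46) (kg xg18 yg21 zg46) (kg xg20 yg14 zg36) (kg xg20 yg14 zg34) (kg xg18 yg23 zg17) (kg xg18 yg23 zg18) (kg xg19 yg7 zg5) (kg xg18 yg22 zg5) (kg xg20 yg7 zg35) (kg xg19 yg7 zg50) (kg xg18 yg22 zg49)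 (kg xg19 yg7 zg39) (kg xg19 yg7 zg40) (kg xg20 yg14 zg40) (kg xg20 yg7 zg37) (kg xg20 yg7 zg38) (kg xg20 yg7 zg39) (kg xg19 yg7 zg12) (kg xg20 yg7 zg40) (kg xg20 yg7 zg41) (kg xg18 yg25 zg44) (kg xg18 yg25 zg49) (kg xg19 yg6 zg39) (kg xg20 yg12 zg2) (kg xg20 yg12 zg3)) (@D3.rec (fun _ => Pt) (kg xg19 yg6 zg47) (kg xg19 yg5 zg45) (kg xg19 yg5 zg46) (kg xg19 yg2 zg48) (kg xg20 yg15 zg14) (kg xg19 yg5 zg49) (kg xg19 yg5 zg50) (kg xg19 yg6 zg0) (kg xg19 yg5 zg37) (kg xg19 yg5 zg38) (kg xg19 yg6 zg6) (kg xg19 yg6 zg7) (kg xg20 yg15 zg25) (kg xg18 yg22 zg26) (kg xg19 yg5 zg42) (kg xg19 yg5 zg43) (kg xg19 yg6 zg12) (kg xg18 yg22 zg37) (kg xg18 yg25 zg31) (kg xg18 yg25 zg46) (kg xg18 yg25 zg47) (kg xg20 yg13 zg26) (kg xg20 yg13 zg27) (kg xg20 yg14 zg21) (kg xg20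 yg14 zg22) (kg xg20 yg15 zg30) (kg xg18 yg24 zg42) (kg xg18 yg24 zg43) (kg xg19 yg7 zg42) (kg xg19 yg7 zg43) (kg xg18 yg23 zg4) (kg xg19 yg7 zg44) (kg xg19 yg7 zg45) (kg xg19 yg7 zg46) (kg xg19 yg7 zg47) (kg xg20 yg12 zg6) (kg xg20 yg7 zg33) (kg xg19 yg7 zg41) (kg xg19 yg7 zg48) (kg xg19 yg7 zg49) (kg xg20 yg14 zg45) (kg xg18 yg23 zg1) (kg xg18 yg23 zg2) (kg xg20 yg16 zg5) (kg xg20 yg16 zg6) (kg xg20 yg15 zg44) (kg xg20 yg15 zg41) (kg xg20 yg14 zg19) (kg xg20 yg13 zg38) (kg xg18 yg23 zg19) (kg xg18 yg25 zg22)) (@D3.rec (fun _ => Pt) (kg xg20 yg14 zg1) (kg xg20 yg13 zg30) (kg xg19 yg8 zg44) (kg xg19 yg8 zg45) (kg xg20 yg10 zg23) (kg xg20 yg10 zg24) (kg xg20 yg14 zg2) (kg xg20 yg13 zg33) (kg xg20 yg13 zg40) (kg xg20 yg13 zg41) (kg xg20 yg14 zg38) (kg xg20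 yg14 zg39) (kg xg18 yg25 zg2) (kg xg19 yg8 zg9) (kg xg20 yg9 zg48) (kg xg20 yg9 zg49) (kg xg18 yg25 zg14) (kg xg18 yg25 zg15) (kg xg19 yg8 zg11) (kg xg19 yg8 zg12) (kg xg18 yg24 zg5) (kg xg20 yg13 zg4) (kg xg20 yg13 zg5) (kg xg18 yg24 zg4) (kg xg19 yg8 zg14) (kg xg19 yg8 zg15) (kg xg18 yg24 zg2) (kg xg20 yg8 zg3) (kg xg20 yg8 zg4) (kg xg20 yg10 zg19) (kg xg20 yg10 zg20) (kg xg20 yg14 zg25) (kg xg19 yg8 zg17) (kg xg19 yg8 zg18) (kg xg20 yg17 zg1) (kg xg19 yg8 zg19) (kg xg19 yg8 zg20) (kg xg19 yg5 zg48) (kg xg20 yg17 zg6) (kg xg18 yg23 zg38) (kg xg18 yg23 zg41) (kg xg18 yg23 zg42) (kg xg20 yg17 zg7) (kg xg20 yg17 zg8) (kg xg20 yg16 zg38) (kg xg20 yg14 zg29) (kg xg19 yg8 zg24) (kg xg20 yg17 zg14) (kg xg18 yg23 zg46) (kg xg20 yg14 zg26) (kg xg18 yg24 zg0))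 (@D3.rec (fun _ => Pt) (kg xg18 yg24 zg1) (kg xg20 yg17 zg16) (kg xg20 yg16 zg40) (kg xg20 yg16 zg35) (kg xg20 yg16 zg29) (kg xg20 yg16 zg32) (kg xg18 yg24 zg9) (kg xg18 yg24 zg15) (kg xg18 yg24 zg13) (kg xg19 yg5 zg15) (kg xg20 yg15 zg26) (kg xg20 yg17 zg21) (kg xg20 yg14 zg7) (kg xg19 yg4 zg41) (kg xg19 yg4 zg42) (kg xg19 yg4 zg46) (kg xg18 yg24 zg21) (kg xg20 yg17 zg27) (kg xg20 yg10 zg7) (kg xg20 yg10 zg8) (kg xg20 yg13 zg15) (kg xg20 yg13 zg16) (kg xg20 yg9 zg45) (kg xg18 yg24 zg46) (kg xg18 yg24 zg47) (kg xg19 yg1 zg40) (kg xg20 yg10 zg3) (kg xg20 yg10 zg4) (kg xg19 yg8 zg32) (kg xg20 yg13 zg17) (kg xg20 yg13 zg18) (kg xg18 yg24 zg37) (kg xg20 yg13 zg19) (kg xg20 yg13 zg20) (kg xg20 yg17 zg40) (kg xg20 yg10 zg5) (kg xg20 yg10 zg6) (kg xg18 yg24 zg45)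 (kg xg20 yg15 zg39) (kg xg20 yg15 zg40) (kg xg18 yg24 zg48) (kg xg20 yg17 zg44) (kg xg20 yg17 zg32) (kg xg20 yg17 zg33) (kg xg19 yg9 zg9) (kg xg19 yg9 zg12) (kg xg20 yg9 zg46) (kg xg20 yg16 zg25) (kg xg20 yg8 zg0) (kg xg18 yg25 zg6) (kg xg18 yg25 zg7)) (@D3.rec (fun _ => Pt) (kg xg20 yg18 zg0) (kg xg20 yg12 zg34) (kg xg20 yg12 zg11) (kg xg19 yg1 zg21) (kg xg19 yg8 zg49) (kg xg19 yg8 zg35) (kg xg18 yg25 zg16) (kg xg20 yg16 zg30) (kg xg20 yg16 zg31) (kg xg20 yg18 zg5) (kg xg19 yg9 zg10) (kg xg19 yg9 zg11) (kg xg19 yg9 zg13) (kg xg19 yg9 zg14) (kg xg20 yg16 zg13) (kg xg20 yg16 zg14) (kg xg19 yg8 zg46) (kg xg20 yg8 zg12) (kg xg20 yg8 zg13) (kg xg19 yg9 zg15) (kg xg19 yg9 zg16) (kg xg20 yg18 zg21) (kg xg18 yg25 zg27) (kg xg20 yg8 zg18) (kg xg20 yg8 zg19) (kg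 xg19 yg9 zg17) (kg xg20 yg15 zg31) (kg xg20 yg15 zg32) (kg xg18 yg25 zg36) (kg xg18 yg25 zg34) (kg xg18 yg25 zg35) (kg xg20 yg18 zg28) (kg xg20 yg18 zg29) (kg xg20 yg18 zg27) (kg xg20 yg8 zg41) (kg xg20 yg8 zg42) (kg xg20 yg8 zg43) (kg xg18 yg25 zg42) (kg xg19 yg7 zg31) (kg xg20 yg18 zg37) (kg xg20 yg8 zg47) (kg xg20 yg15 zg2) (kg xg20 yg12 zg1) (kg xg18 yg26 zg3) (kg xg20 yg15 zg33) (kg xg20 yg15 zg34) (kg xg18 yg26 zg8) (kg xg20 yg15 zg3) (kg xg20 yg15 zg4) (kg xg20 yg12 zg40) (kg xg18 yg26 zg1)) (@D3.rec (fun _ => Pt) (kg xg18 yg26 zg2) (kg xg20 yg18 zg48) (kg xg20 yg18 zg49) (kg xg20 yg18 zg41) (kg xg18 yg26 zg6) (kg xg18 yg26 zg7) (kg xg19 yg7 zg22) (kg xg20 yg19 zg2) (kg xg20 yg19 zg3) (kg xg20 yg19 zg4) (kg xg19 yg1 zg20) (kg xg19 yg9 zg26) (kg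 xg19 yg9 zg27) (kg xg20 yg9 zg17) (kg xg20 yg9 zg18) (kg xg20 yg9 zg19) (kg xg20 yg9 zg20) (kg xg19 yg9 zg28) (kg xg19 yg9 zg29) (kg xg20 yg9 zg29) (kg xg20 yg9 zg30) (kg xg20 yg9 zg31) (kg xg20 yg9 zg36) (kg xg20 yg9 zg37) (kg xg20 yg9 zg38) (kg xg18 yg26 zg25) (kg xg20 yg19 zg22) (kg xg18 yg26 zg28) (kg xg20 yg9 zg42) (kg xg20 yg9 zg43) (kg xg18 yg26 zg40) (kg xg19 yg0 zg32) (kg xg19 yg10 zg4) (kg xg19 yg10 zg5) (kg xg20 yg12 zg25) (kg xg18 yg26 zg38) (kg xg18 yg26 zg39) (kg xg20 yg19 zg28) (kg xg20 yg19 zg29) (kg xg20 yg19 zg23) (kg xg19 yg9 zg30) (kg xg19 yg9 zg31) (kg xg19 yg4 zg19) (kg xg20 yg19 zg38) (kg xg19 yg9 zg32) (kg xg20 yg10 zg31) (kg xg20 yg10 zg32) (kg xg19 yg9 zg34) (kg xg19 yg9 zg35) (kg xg20 yg19 zg47) (kg xg19 yg9 zg36)) (@D3.rec (fun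 _ => Pt) (kg xg19 yg3 zg10) (kg xg18 yg26 zg49) (kg xg20 yg10 zg28) (kg xg20 yg10 zg29) (kg xg19 yg9 zg37) (kg xg19 yg9 zg39) (kg xg19 yg0 zg3) (kg xg19 yg0 zg4) (kg xg20 yg20 zg2) (kg xg20 yg20 zg3) (kg xg20 yg20 zg9) (kg xg19 yg9 zg41) (kg xg19 yg9 zg42) (kg xg20 yg20 zg12) (kg xg19 yg0 zg7) (kg xg19 yg0 zg11) (kg xg19 yg0 zg12) (kg xg20 yg20 zg13) (kg xg20 yg20 zg14) (kg xg20 yg20 zg15) (kg xg19 yg0 zg22) (kg xg19 yg0 zg16) (kg xg19 yg0 zg17) (kg xg20 yg20 zg20) (kg xg20 yg20 zg21) (kg xg19 yg0 zg28) (kg xg20 yg11 zg34) (kg xg19 yg0 zg21) (kg xg20 yg20 zg26) (kg xg20 yg20 zg19) (kg xg19 yg0 zg39) (kg xg19 yg0 zg40) (kg xg19 yg0 zg26) (kg xg19 yg0 zg27) (kg xg20 yg13 zg21) (kg xg20 yg20 zg30) (kg xg20 yg20 zg31) (kg xg20 yg20 zg32) (kg xg19 yg10 zg6)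 (kg xg19 yg10 zg9) (kg xg20 yg10 zg44) (kg xg20 yg19 zg24) (kg xg19 yg10 zg17) (kg xg19 yg10 zg18) (kg xg19 yg0 zg36) (kg xg20 yg20 zg41) (kg xg20 yg12 zg48) (kg xg20 yg20 zg28) (kg xg20 yg20 zg29) (kg xg19 yg0 zg43) (kg xg19 yg0 zg44)) (@D3.rec (fun _ => Pt) (kg xg19 yg0 zg45) (kg xg20 yg20 zg46) (kg xg20 yg20 zg47) (kg xg20 yg20 zg48) (kg xg19 yg1 zg2) (kg xg19 yg1 zg0) (kg xg19 yg1 zg1) (kg xg20 yg21 zg3) (kg xg20 yg21 zg4) (kg xg20 yg21 zg2) (kg xg19 yg1 zg5) (kg xg19 yg2 zg25) (kg xg19 yg2 zg49) (kg xg20 yg21 zg8) (kg xg19 yg1 zg22) (kg xg19 yg1 zg28) (kg xg19 yg1 zg9) (kg xg19 yg1 zg10) (kg xg20 yg21 zg13) (kg xg20 yg21 zg14) (kg xg19 yg6 zg30) (kg xg19 yg1 zg34) (kg xg19 yg1 zg35) (kg xg19 yg6 zg29) (kg xg19 yg1 zg16) (kg xg19 yg1 zg17) (kg xg20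 yg21 zg21) (kg xg20 yg21 zg22) (kg xg20 yg21 zg23) (kg xg19 yg9 zg50) (kg xg20 yg19 zg8) (kg xg20 yg18 zg3) (kg xg20 yg21 zg11) (kg xg19 yg1 zg25) (kg xg19 yg1 zg26) (kg xg19 yg6 zg16) (kg xg20 yg21 zg30) (kg xg20 yg21 zg31) (kg xg19 yg9 zg23) (kg xg20 yg21 zg12) (kg xg19 yg2 zg18) (kg xg19 yg2 zg19) (kg xg19 yg1 zg32) (kg xg19 yg1 zg33) (kg xg19 yg6 zg35) (kg xg20 yg21 zg40) (kg xg20 yg21 zg41) (kg xg20 yg21 zg42) (kg xg20 yg21 zg19) (kg xg19 yg2 zg29) (kg xg19 yg2 zg30)) (@D3.rec (fun _ => Pt) (kg xg19 yg1 zg41) (kg xg19 yg1 zg42) (kg xg19 yg1 zg43) (kg xg20 yg17 zg34) (kg xg20 yg21 zg50) (kg xg20 yg22 zg0) (kg xg20 yg22 zg2) (kg xg19 yg10 zg50) (kg xg19 yg1 zg46) (kg xg20 yg22 zg7) (kg xg20 yg11 zg50) (kg xg19 yg10 zg44) (kg xg19 yg1 zg50) (kg xg20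 yg22 zg11) (kg xg20 yg11 zg49) (kg xg19 yg10 zg39) (kg xg20 yg14 zg10) (kg xg20 yg14 zg11) (kg xg19 yg2 zg7) (kg xg19 yg2 zg8) (kg xg19 yg2 zg9) (kg xg19 yg2 zg10) (kg xg20 yg8 zg37) (kg xg20 yg22 zg16) (kg xg20 yg22 zg17) (kg xg20 yg22 zg19) (kg xg20 yg22 zg20) (kg xg20 yg22 zg21) (kg xg20 yg8 zg36) (kg xg19 yg11 zg15) (kg xg19 yg9 zg49) (kg xg19 yg5 zg14) (kg xg19 yg10 zg38) (kg xg19 yg5 zg47) (kg xg20 yg8 zg35) (kg xg20 yg8 zg10) (kg xg20 yg21 zg37) (kg xg20 yg21 zg38) (kg xg20 yg15 zg12) (kg xg19 yg2 zg23) (kg xg19 yg2 zg24) (kg xg20 yg8 zg40) (kg xg20 yg22 zg40) (kg xg20 yg20 zg50) (kg xg20 yg8 zg39) (kg xg20 yg21 zg9) (kg xg20 yg8 zg38) (kg xg20 yg21 zg47) (kg xg20 yg21 zg48) (kg xg20 yg21 zg49) (kg xg19 yg2 zg34))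
def f_g_20 : D2 → D3 → Pt := @D2.rec (fun _ => D3 → Pt) (@D3.rec (fun _ => Pt) (kg xg19 yg2 zg35) (kg xg19 yg2 zg36) (kg xg20 yg22 zg48) (kg xg19 yg6 zg46) (kg xg20 yg22 zg49) (kg xg20 yg22 zg50) (kg xg20 yg15 zg13) (kg xg19 yg2 zg40) (kg xg19 yg5 zg11) (kg xg20 yg23 zg5) (kg xg19 yg2 zg50) (kg xg19 yg2 zg45) (kg xg19 yg2 zg46) (kg xg19 yg2 zg47) (kg xg20 yg23 zg7) (kg xg20 yg23 zg8) (kg xg20 yg19 zg48) (kg xg20 yg23 zg9) (kg xg20 yg21 zg10) (kg xg19 yg3 zg4) (kg xg19 yg4 zg45) (kg xg19 yg4 zg40) (kg xg19 yg6 zg38) (kg xg19 yg3 zg9) (kg xg19 yg3 zg19) (kg xg19 yg3 zg11) (kg xg20 yg19 zg37) (kg xg19 yg4 zg13) (kg xg19 yg5 zg41) (kg xg20 yg8 zg11) (kg xg20 yg7 zg32) (kg xg20 yg7 zg42) (kg xg20 yg13 zg2) (kg xg19 yg3 zg28) (kg xg20 yg7 zg34) (kg xg20 yg13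 zg6) (kg xg20 yg13 zg7) (kg xg19 yg7 zg14) (kg xg19 yg9 zg20) (kg xg19 yg9 zg21) (kg xg19 yg3 zg47) (kg xg19 yg3 zg37) (kg xg19 yg3 zg38) (kg xg20 yg23 zg23) (kg xg20 yg23 zg24) (kg xg19 yg3 zg41) (kg xg20 yg8 zg14) (kg xg20 yg8 zg15) (kg xg20 yg8 zg20) (kg xg20 yg10 zg11) (kg xg19 yg5 zg32)) (@D3.rec (fun _ => Pt) (kg xg20 yg9 zg15) (kg xg20 yg9 zg16) (kg xg20 yg9 zg33) (kg xg20 yg13 zg24) (kg xg20 yg10 zg13) (kg xg20 yg10 zg14) (kg xg20 yg10 zg15) (kg xg20 yg10 zg16) (kg xg19 yg4 zg17) (kg xg19 yg4 zg18) (kg xg19 yg4 zg25) (kg xg19 yg4 zg26) (kg xg20 yg23 zg16) (kg xg20 yg14 zg16) (kg xg20 yg14 zg17) (kg xg19 yg4 zg30) (kg xg20 yg23 zg34) (kg xg20 yg23 zg35) (kg xg20 yg19 zg36) (kg xg20 yg14 zg8) (kg xg20 yg14 zg9) (kg xg19 yg11 zg16) (kg xg19 yg11 zg14)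 (kg xg20 yg23 zg50) (kg xg20 yg14 zg12) (kg xg20 yg14 zg13) (kg xg20 yg23 zg36) (kg xg20 yg23 zg37) (kg xg20 yg24 zg4) (kg xg19 yg4 zg27) (kg xg20 yg14 zg18) (kg xg19 yg10 zg36) (kg xg19 yg10 zg37) (kg xg19 yg11 zg9) (kg xg19 yg11 zg22) (kg xg19 yg11 zg21) (kg xg19 yg11 zg4) (kg xg19 yg10 zg28) (kg xg19 yg10 zg29) (kg xg19 yg10 zg40) (kg xg19 yg10 zg41) (kg xg20 yg23 zg14) (kg xg20 yg17 zg25) (kg xg20 yg17 zg26) (kg xg20 yg10 zg22) (kg xg20 yg23 zg13) (kg xg19 yg4 zg47) (kg xg19 yg11 zg17) (kg xg20 yg10 zg46) (kg xg20 yg10 zg47) (kg xg20 yg10 zg49)) (@D3.rec (fun _ => Pt) (kg xg20 yg10 zg50) (kg xg20 yg11 zg0) (kg xg20 yg11 zg5) (kg xg20 yg11 zg6) (kg xg19 yg5 zg17) (kg xg19 yg5 zg18) (kg xg19 yg5 zg19) (kg xg19 yg5 zg20) (kg xg20 yg23 zg4) (kg xg19 yg5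 zg21) (kg xg20 yg10 zg33) (kg xg20 yg10 zg34) (kg xg20 yg22 zg32) (kg xg20 yg16 zg50) (kg xg20 yg8 zg22) (kg xg20 yg8 zg23) (kg xg20 yg24 zg25) (kg xg20 yg24 zg26) (kg xg20 yg24 zg28) (kg xg20 yg24 zg29) (kg xg20 yg11 zg30) (kg xg20 yg11 zg31) (kg xg19 yg10 zg49) (kg xg20 yg11 zg32) (kg xg20 yg11 zg33) (kg xg20 yg12 zg10) (kg xg20 yg11 zg35) (kg xg20 yg11 zg36) (kg xg20 yg11 zg37) (kg xg20 yg11 zg38) (kg xg20 yg11 zg39) (kg xg20 yg23 zg28) (kg xg20 yg11 zg42) (kg xg19 yg5 zg36) (kg xg20 yg15 zg19) (kg xg20 yg15 zg20) (kg xg20 yg23 zg17) (kg xg19 yg6 zg8) (kg xg19 yg6 zg9) (kg xg20 yg23 zg15) (kg xg20 yg15 zg27) (kg xg20 yg15 zg28) (kg xg20 yg15 zg29) (kg xg20 yg15 zg9) (kg xg20 yg15 zg10) (kg xg20 yg22 zg33) (kg xg20 yg17 zg3) (kg xg20 yg15 zg15) (kg xg20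 yg12 zg0) (kg xg20 yg15 zg16) (kg xg20 yg15 zg17)) (@D3.rec (fun _ => Pt) (kg xg20 yg8 zg24) (kg xg20 yg8 zg25) (kg xg20 yg25 zg21) (kg xg20 yg9 zg1) (kg xg20 yg9 zg2) (kg xg20 yg25 zg24) (kg xg19 yg6 zg5) (kg xg20 yg15 zg22) (kg xg20 yg15 zg23) (kg xg20 yg25 zg5) (kg xg20 yg25 zg27) (kg xg19 yg6 zg10) (kg xg19 yg10 zg7) (kg xg19 yg10 zg8) (kg xg20 yg12 zg26) (kg xg20 yg21 zg32) (kg xg20 yg11 zg40) (kg xg20 yg12 zg28) (kg xg20 yg12 zg29) (kg xg20 yg12 zg30) (kg xg20 yg12 zg31) (kg xg19 yg6 zg23) (kg xg20 yg25 zg36) (kg xg20 yg11 zg43) (kg xg20 yg12 zg33) (kg xg19 yg6 zg31) (kg xg19 yg6 zg32) (kg xg20 yg21 zg20) (kg xg20 yg21 zg18) (kg xg20 yg25 zg38) (kg xg20 yg25 zg39) (kg xg20 yg25 zg40) (kg xg20 yg12 zg35) (kg xg20 yg12 zg36) (kg xg20 yg21 zg43) (kg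 xg20 yg12 zg37) (kg xg20 yg23 zg2) (kg xg20 yg15 zg5) (kg xg20 yg12 zg50) (kg xg19 yg6 zg43) (kg xg19 yg6 zg44) (kg xg20 yg26 zg0) (kg xg20 yg23 zg0) (kg xg20 yg15 zg8) (kg xg19 yg6 zg50) (kg xg20 yg13 zg8) (kg xg20 yg13 zg50) (kg xg20 yg13 zg11) (kg xg20 yg13 zg12) (kg xg20 yg14 zg41) (kg xg19 yg8 zg47)) (@D3.rec (fun _ => Pt) (kg xg19 yg8 zg48) (kg xg20 yg13 zg28) (kg xg20 yg13 zg29) (kg xg20 yg15 zg0) (kg xg20 yg13 zg31) (kg xg20 yg13 zg32) (kg xg20 yg14 zg44) (kg xg19 yg8 zg36) (kg xg19 yg8 zg37) (kg xg20 yg14 zg3) (kg xg20 yg14 zg4) (kg xg20 yg14 zg33) (kg xg19 yg8 zg50) (kg xg19 yg9 zg0) (kg xg20 yg18 zg30) (kg xg20 yg13 zg42) (kg xg20 yg13 zg43) (kg xg20 yg19 zg5) (kg xg20 yg14 zg5) (kg xg20 yg14 zg6) (kg xg20 yg14 zg32) (kg xg20 yg13 zg44) (kg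 xg20 yg26 zg27) (kg xg19 yg7 zg28) (kg xg20 yg14 zg23) (kg xg20 yg14 zg24) (kg xg20 yg14 zg27) (kg xg20 yg14 zg28) (kg xg19 yg7 zg38) (kg xg20 yg14 zg46) (kg xg20 yg16 zg2) (kg xg20 yg15 zg42) (kg xg20 yg15 zg43) (kg xg20 yg15 zg45) (kg xg20 yg15 zg46) (kg xg20 yg15 zg48) (kg xg20 yg15 zg49) (kg xg20 yg15 zg50) (kg xg20 yg16 zg3) (kg xg20 yg14 zg43) (kg xg19 yg8 zg7) (kg xg19 yg8 zg8) (kg xg20 yg7 zg44) (kg xg20 yg7 zg45) (kg xg20 yg13 zg13) (kg xg20 yg13 zg14) (kg xg20 yg26 zg40) (kg xg20 yg16 zg26) (kg xg20 yg7 zg50) (kg xg20 yg16 zg33) (kg xg20 yg16 zg34)) (@D3.rec (fun _ => Pt) (kg xg20 yg13 zg25) (kg xg20 yg16 zg39) (kg xg20 yg13 zg49) (kg xg20 yg16 zg48) (kg xg20 yg16 zg49) (kg xg20 yg17 zg2) (kg xg19 yg8 zg22) (kg xg20 yg7 zg43) (kg xg20 yg26 zg47)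 (kg xg19 yg8 zg25) (kg xg20 yg13 zg22) (kg xg20 yg13 zg23) (kg xg19 yg8 zg31) (kg xg19 yg8 zg34) (kg xg20 yg26 zg12) (kg xg20 yg26 zg13) (kg xg19 yg9 zg1) (kg xg19 yg8 zg41) (kg xg19 yg8 zg42) (kg xg21 yg0 zg2) (kg xg21 yg0 zg3) (kg xg21 yg0 zg4) (kg xg20 yg16 zg17) (kg xg20 yg16 zg18) (kg xg20 yg18 zg14) (kg xg20 yg26 zg3) (kg xg20 yg26 zg4) (kg xg20 yg18 zg4) (kg xg20 yg26 zg19) (kg xg20 yg26 zg20) (kg xg19 yg9 zg3) (kg xg20 yg10 zg9) (kg xg20 yg10 zg10) (kg xg19 yg9 zg18) (kg xg20 yg10 zg17) (kg xg20 yg10 zg18) (kg xg20 yg18 zg8) (kg xg20 yg18 zg9) (kg xg20 yg18 zg10) (kg xg20 yg18 zg11) (kg xg20 yg18 zg18) (kg xg20 yg18 zg19) (kg xg19 yg9 zg24) (kg xg20 yg23 zg20) (kg xg20 yg23 zg21) (kg xg20 yg23 zg22) (kg xg20 yg21 zg36) (kg xg20 yg11 zg41) (kg xg20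 yg19 zg9) (kg xg20 yg19 zg15) (kg xg20 yg19 zg33)) (@D3.rec (fun _ => Pt) (kg xg20 yg19 zg34) (kg xg20 yg19 zg39) (kg xg20 yg13 zg0) (kg xg20 yg19 zg43) (kg xg20 yg19 zg44) (kg xg20 yg19 zg45) (kg xg20 yg20 zg0) (kg xg20 yg11 zg29) (kg xg20 yg20 zg1) (kg xg20 yg12 zg24) (kg xg20 yg20 zg10) (kg xg20 yg11 zg2) (kg xg20 yg11 zg3) (kg xg19 yg10 zg0) (kg xg20 yg11 zg9) (kg xg20 yg11 zg10) (kg xg20 yg11 zg11) (kg xg20 yg22 zg31) (kg xg20 yg21 zg27) (kg xg20 yg12 zg32) (kg xg20 yg11 zg44) (kg xg20 yg11 zg45) (kg xg20 yg19 zg25) (kg xg20 yg19 zg26) (kg xg20 yg20 zg37) (kg xg20 yg25 zg28) (kg xg20 yg25 zg29) (kg xg20 yg9 zg32) (kg xg19 yg10 zg13) (kg xg19 yg10 zg14) (kg xg19 yg10 zg15) (kg xg19 yg10 zg16) (kg xg20 yg9 zg21) (kg xg21 yg0 zg44) (kg xg21 yg0 zg45)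 (kg xg21 yg0 zg47) (kg xg21 yg0 zg48) (kg xg21 yg0 zg49) (kg xg20 yg20 zg40) (kg xg20 yg10 zg35) (kg xg20 yg10 zg36) (kg xg19 yg10 zg24) (kg xg19 yg10 zg25) (kg xg21 yg1 zg6) (kg xg20 yg10 zg43) (kg xg20 yg24 zg11) (kg xg20 yg24 zg12) (kg xg20 yg24 zg13) (kg xg19 yg10 zg33) (kg xg19 yg10 zg34) (kg xg19 yg10 zg35)) (@D3.rec (fun _ => Pt) (kg xg21 yg1 zg9) (kg xg21 yg1 zg10) (kg xg20 yg26 zg17) (kg xg20 yg24 zg5) (kg xg20 yg24 zg6) (kg xg20 yg24 zg7) (kg xg20 yg24 zg14) (kg xg21 yg1 zg17) (kg xg19 yg10 zg42) (kg xg21 yg1 zg18) (kg xg19 yg10 zg45) (kg xg19 yg11 zg23) (kg xg20 yg24 zg44) (kg xg19 yg11 zg2) (kg xg19 yg11 zg3) (kg xg21 yg1 zg19) (kg xg20 yg24 zg10) (kg xg20 yg24 zg8) (kg xg19 yg11 zg10) (kg xg19 yg11 zg11) (kg xg20 yg10 zg48) (kg xg19 yg11 zg12)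 (kg xg19 yg11 zg13) (kg xg21 yg1 zg23) (kg xg21 yg1 zg24) (kg xg21 yg1 zg25) (kg xg20 yg23 zg48) (kg xg20 yg23 zg47) (kg xg19 yg11 zg20) (kg xg20 yg24 zg9) (kg xg19 yg18 zg21) (kg xg19 yg18 zg22) (kg xg20 yg0 zg30) (kg xg19 yg19 zg36) (kg xg20 yg0 zg34) (kg xg19 yg18 zg34) (kg xg19 yg11 zg43) (kg xg19 yg18 zg40) (kg xg19 yg18 zg41) (kg xg19 yg18 zg42) (kg xg19 yg18 zg44) (kg xg19 yg18 zg45) (kg xg20 yg0 zg31) (kg xg20 yg5 zg7) (kg xg20 yg4 zg42) (kg xg20 yg4 zg43) (kg xg19 yg18 zg26) (kg xg19 yg11 zg48) (kg xg19 yg11 zg49) (kg xg21 yg1 zg38) (kg xg20 yg4 zg48)) (@D3.rec (fun _ => Pt) (kg xg19 yg21 zg48) (kg xg19 yg17 zg38) (kg xg19 yg13 zg41) (kg xg19 yg20 zg27) (kg xg19 yg20 zg28) (kg xg19 yg14 zg2) (kg xg19 yg12 zg40) (kg xg19 yg12 zg41) (kg xg19 yg13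 zg23) (kg xg21 yg2 zg0) (kg xg19 yg26 zg35) (kg xg20 yg0 zg29) (kg xg19 yg22 zg17) (kg xg19 yg22 zg18) (kg xg20 yg0 zg46) (kg xg20 yg0 zg47) (kg xg21 yg2 zg10) (kg xg19 yg12 zg12) (kg xg19 yg22 zg23) (kg xg19 yg22 zg24) (kg xg20 yg0 zg48) (kg xg19 yg12 zg24) (kg xg20 yg2 zg14) (kg xg20 yg2 zg15) (kg xg20 yg3 zg0) (kg xg20 yg3 zg1) (kg xg21 yg2 zg21) (kg xg19 yg12 zg20) (kg xg19 yg12 zg22) (kg xg19 yg12 zg23) (kg xg21 yg2 zg22) (kg xg21 yg2 zg23) (kg xg21 yg2 zg14) (kg xg19 yg15 zg5) (kg xg19 yg15 zg6) (kg xg19 yg26 zg34) (kg xg19 yg26 zg28) (kg xg19 yg26 zg22) (kg xg19 yg26 zg46) (kg xg19 yg26 zg44) (kg xg19 yg26 zg41) (kg xg19 yg22 zg34) (kg xg19 yg22 zg35) (kg xg19 yg22 zg36) (kg xg19 yg12 zg37) (kg xg19 yg15 zg36) (kg xg21 yg2 zg40) (kg xg19 yg22 zg40)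 (kg xg19 yg12 zg50) (kg xg21 yg1 zg46) (kg xg21 yg1 zg47)) (@D3.rec (fun _ => Pt) (kg xg21 yg2 zg47) (kg xg20 yg3 zg3) (kg xg20 yg3 zg4) (kg xg21 yg2 zg50) (kg xg19 yg12 zg44) (kg xg19 yg12 zg48) (kg xg19 yg12 zg49) (kg xg19 yg16 zg7) (kg xg21 yg3 zg0) (kg xg21 yg3 zg1) (kg xg21 yg3 zg2) (kg xg19 yg15 zg3) (kg xg19 yg15 zg4) (kg xg19 yg15 zg47) (kg xg19 yg15 zg48) (kg xg20 yg1 zg0) (kg xg20 yg1 zg1) (kg xg19 yg23 zg13) (kg xg19 yg23 zg14) (kg xg19 yg23 zg15) (kg xg19 yg23 zg16) (kg xg20 yg6 zg32) (kg xg19 yg15 zg7) (kg xg19 yg15 zg8) (kg xg21 yg3 zg21) (kg xg19 yg15 zg50) (kg xg19 yg16 zg0) (kg xg21 yg3 zg24) (kg xg19 yg13 zg12) (kg xg19 yg23 zg19) (kg xg19 yg23 zg20) (kg xg19 yg23 zg21) (kg xg20 yg6 zg27) (kg xg20 yg1 zg2) (kg xg21 yg3 zg30) (kg xg19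 yg13 zg18) (kg xg19 yg23 zg22) (kg xg19 yg23 zg23) (kg xg19 yg23 zg24) (kg xg21 yg1 zg49) (kg xg19 yg13 zg24) (kg xg19 yg13 zg28) (kg xg19 yg23 zg28) (kg xg19 yg23 zg29) (kg xg19 yg13 zg34) (kg xg19 yg21 zg22) (kg xg19 yg21 zg46) (kg xg19 yg13 zg40) (kg xg19 yg20 zg14) (kg xg19 yg20 zg15) (kg xg19 yg13 zg42)) (@D3.rec (fun _ => Pt) (kg xg21 yg3 zg36) (kg xg21 yg1 zg42) (kg xg21 yg3 zg39) (kg xg19 yg21 zg26) (kg xg19 yg21 zg27) (kg xg19 yg21 zg35) (kg xg19 yg21 zg36) (kg xg19 yg21 zg18) (kg xg19 yg21 zg19) (kg xg20 yg5 zg31) (kg xg20 yg5 zg32) (kg xg20 yg0 zg49) (kg xg21 yg1 zg45) (kg xg20 yg1 zg4) (kg xg20 yg1 zg5) (kg xg20 yg1 zg6) (kg xg20 yg1 zg7) (kg xg20 yg5 zg34) (kg xg20 yg5 zg35) (kg xg19 yg20 zg29) (kg xg19 yg20 zg30) (kg xg19 yg14 zg13) (kg xg20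 yg1 zg44) (kg xg19 yg20 zg4) (kg xg19 yg20 zg5) (kg xg19 yg14 zg20) (kg xg19 yg14 zg21) (kg xg21 yg4 zg9) (kg xg19 yg24 zg2) (kg xg19 yg24 zg3) (kg xg21 yg1 zg50) (kg xg19 yg23 zg45) (kg xg19 yg23 zg46) (kg xg20 yg2 zg10) (kg xg20 yg2 zg11) (kg xg20 yg6 zg39) (kg xg20 yg6 zg40) (kg xg21 yg4 zg22) (kg xg19 yg14 zg28) (kg xg19 yg14 zg30) (kg xg19 yg14 zg31) (kg xg21 yg4 zg23) (kg xg21 yg4 zg24) (kg xg20 yg6 zg44) (kg xg19 yg24 zg40) (kg xg19 yg15 zg9) (kg xg20 yg1 zg48) (kg xg20 yg1 zg49) (kg xg20 yg7 zg20) (kg xg20 yg1 zg50) (kg xg20 yg2 zg0)) (@D3.rec (fun _ => Pt) (kg xg20 yg2 zg1) (kg xg21 yg3 zg34) (kg xg20 yg6 zg11) (kg xg20 yg6 zg12) (kg xg21 yg2 zg42) (kg xg20 yg2 zg2) (kg xg20 yg2 zg3) (kg xg21 yg4 zg46) (kg xg19 yg14 zg45) (kg xg20 yg6 zg14) (kg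 xg20 yg6 zg15) (kg xg20 yg6 zg16) (kg xg19 yg15 zg0) (kg xg19 yg15 zg1) (kg xg21 yg4 zg50) (kg xg21 yg5 zg0) (kg xg19 yg15 zg14) (kg xg21 yg3 zg6) (kg xg21 yg3 zg7) (kg xg21 yg2 zg28) (kg xg21 yg2 zg29) (kg xg21 yg3 zg18) (kg xg21 yg3 zg19) (kg xg21 yg4 zg30) (kg xg19 yg15 zg12) (kg xg19 yg15 zg13) (kg xg21 yg2 zg24) (kg xg21 yg5 zg12) (kg xg21 yg5 zg13) (kg xg20 yg6 zg7) (kg xg20 yg2 zg20) (kg xg20 yg2 zg21) (kg xg20 yg2 zg23) (kg xg20 yg2 zg24) (kg xg19 yg24 zg26) (kg xg20 yg2 zg26) (kg xg20 yg2 zg27) (kg xg20 yg2 zg28) (kg xg20 yg2 zg29) (kg xg20 yg2 zg30) (kg xg20 yg3 zg16) (kg xg20 yg5 zg47) (kg xg20 yg2 zg32) (kg xg20 yg3 zg23) (kg xg20 yg6 zg20) (kg xg20 yg6 zg21) (kg xg19 yg15 zg33) (kg xg19 yg15 zg34) (kg xg21 yg5 zg33) (kg xg19 yg26 zg14) (kg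 xg19 yg26 zg10)) (@D3.rec (fun _ => Pt) (kg xg20 yg2 zg48) (kg xg19 yg22 zg42) (kg xg19 yg18 zg49) (kg xg19 yg18 zg50) (kg xg19 yg15 zg42) (kg xg19 yg15 zg43) (kg xg19 yg19 zg35) (kg xg21 yg5 zg39) (kg xg21 yg5 zg40) (kg xg21 yg5 zg41) (kg xg20 yg2 zg25) (kg xg19 yg22 zg2) (kg xg21 yg3 zg8) (kg xg21 yg3 zg9) (kg xg19 yg16 zg40) (kg xg21 yg3 zg22) (kg xg21 yg6 zg0) (kg xg19 yg16 zg1) (kg xg19 yg16 zg34) (kg xg19 yg16 zg35) (kg xg19 yg16 zg8) (kg xg19 yg16 zg9) (kg xg21 yg3 zg3) (kg xg21 yg6 zg3) (kg xg20 yg6 zg9) (kg xg19 yg23 zg34) (kg xg20 yg3 zg14) (kg xg19 yg16 zg39) (kg xg20 yg3 zg17) (kg xg20 yg3 zg18) (kg xg20 yg3 zg19) (kg xg20 yg3 zg20) (kg xg20 yg6 zg19) (kg xg20 yg3 zg24) (kg xg19 yg22 zg1) (kg xg20 yg3 zg32) (kg xg20 yg3 zg33) (kg xg20 yg3 zg35)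 (kg xg21 yg6 zg15) (kg xg19 yg16 zg26) (kg xg19 yg22 zg49) (kg xg19 yg16 zg30) (kg xg21 yg6 zg17) (kg xg19 yg16 zg32) (kg xg21 yg6 zg1) (kg xg21 yg6 zg2) (kg xg19 yg16 zg38) (kg xg21 yg6 zg8) (kg xg19 yg24 zg46) (kg xg21 yg5 zg49) (kg xg20 yg3 zg38)) (@D3.rec (fun _ => Pt) (kg xg20 yg6 zg2) (kg xg19 yg18 zg12) (kg xg20 yg0 zg32) (kg xg19 yg17 zg45) (kg xg19 yg20 zg21) (kg xg19 yg20 zg22) (kg xg20 yg0 zg35) (kg xg20 yg0 zg36) (kg xg20 yg3 zg45) (kg xg19 yg17 zg2) (kg xg21 yg6 zg28) (kg xg20 yg3 zg47) (kg xg20 yg3 zg48) (kg xg20 yg4 zg44) (kg xg20 yg4 zg45) (kg xg19 yg21 zg20) (kg xg19 yg21 zg21) (kg xg19 yg21 zg29) (kg xg19 yg21 zg30) (kg xg19 yg21 zg32) (kg xg19 yg21 zg33) (kg xg19 yg24 zg34) (kg xg20 yg5 zg10) (kg xg20 yg5 zg11) (kg xg20 yg1 zg3) (kg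 xg20 yg5 zg0) (kg xg19 yg19 zg21) (kg xg19 yg19 zg22) (kg xg20 yg4 zg1) (kg xg20 yg4 zg2) (kg xg19 yg20 zg1) (kg xg20 yg4 zg4) (kg xg20 yg4 zg5) (kg xg19 yg20 zg7) (kg xg19 yg17 zg26) (kg xg19 yg17 zg27) (kg xg21 yg7 zg0) (kg xg21 yg7 zg1) (kg xg19 yg19 zg48) (kg xg19 yg17 zg31) (kg xg19 yg20 zg8) (kg xg19 yg20 zg9) (kg xg20 yg4 zg15) (kg xg20 yg4 zg16) (kg xg20 yg4 zg21) (kg xg21 yg1 zg40) (kg xg19 yg17 zg41) (kg xg19 yg17 zg42) (kg xg21 yg7 zg7) (kg xg20 yg5 zg2) (kg xg20 yg3 zg46)) (@D3.rec (fun _ => Pt) (kg xg21 yg6 zg23) (kg xg19 yg20 zg0) (kg xg19 yg20 zg6) (kg xg20 yg4 zg9) (kg xg20 yg4 zg10) (kg xg20 yg4 zg18) (kg xg20 yg4 zg19) (kg xg19 yg21 zg12) (kg xg20 yg1 zg19) (kg xg20 yg1 zg20) (kg xg19 yg26 zg16) (kg xg19 yg26 zg17) (kg xg20 yg1 zg24)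 (kg xg20 yg1 zg25) (kg xg21 yg7 zg24) (kg xg19 yg18 zg7) (kg xg20 yg1 zg13) (kg xg20 yg1 zg14) (kg xg20 yg1 zg30) (kg xg19 yg19 zg47) (kg xg21 yg6 zg22) (kg xg19 yg19 zg23) (kg xg19 yg19 zg24) (kg xg20 yg4 zg24) (kg xg20 yg4 zg25) (kg xg19 yg20 zg31) (kg xg19 yg20 zg49) (kg xg20 yg4 zg26) (kg xg20 yg4 zg27) (kg xg19 yg20 zg45) (kg xg21 yg1 zg28) (kg xg21 yg1 zg29) (kg xg20 yg4 zg20) (kg xg20 yg4 zg11) (kg xg19 yg18 zg29) (kg xg21 yg1 zg37) (kg xg19 yg18 zg28) (kg xg21 yg7 zg42) (kg xg19 yg20 zg10) (kg xg19 yg20 zg11) (kg xg19 yg18 zg39) (kg xg20 yg3 zg49) (kg xg21 yg1 zg31) (kg xg20 yg4 zg39) (kg xg20 yg4 zg6) (kg xg19 yg19 zg40) (kg xg20 yg4 zg29) (kg xg21 yg7 zg44) (kg xg21 yg1 zg32) (kg xg21 yg1 zg33) (kg xg21 yg1 zg34)) (@D3.rec (fun _ => Pt) (kg xg20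 yg4 zg3) (kg xg21 yg1 zg35) (kg xg19 yg22 zg41) (kg xg19 yg22 zg47) (kg xg19 yg22 zg48) (kg xg20 yg3 zg37) (kg xg21 yg5 zg37) (kg xg21 yg5 zg38) (kg xg20 yg3 zg43) (kg xg20 yg2 zg43) (kg xg20 yg2 zg44) (kg xg21 yg8 zg15) (kg xg19 yg26 zg38) (kg xg20 yg0 zg6) (kg xg19 yg19 zg4) (kg xg20 yg2 zg47) (kg xg20 yg2 zg49) (kg xg20 yg2 zg50) (kg xg21 yg8 zg23) (kg xg20 yg2 zg34) (kg xg20 yg2 zg35) (kg xg21 yg8 zg28) (kg xg20 yg3 zg7) (kg xg20 yg3 zg8) (kg xg21 yg8 zg31) (kg xg19 yg19 zg12) (kg xg19 yg21 zg10) (kg xg20 yg2 zg40) (kg xg20 yg2 zg41) (kg xg20 yg2 zg42) (kg xg19 yg19 zg25) (kg xg19 yg22 zg26) (kg xg19 yg22 zg27) (kg xg19 yg22 zg44) (kg xg19 yg22 zg45) (kg xg21 yg6 zg43) (kg xg21 yg6 zg44) (kg xg21 yg7 zg29) (kg xg21 yg7 zg30) (kg xg19 yg21 zg38) (kg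 xg19 yg21 zg39) (kg xg19 yg19 zg46) (kg xg20 yg4 zg31) (kg xg20 yg4 zg32) (kg xg19 yg19 zg45) (kg xg20 yg4 zg33) (kg xg20 yg4 zg34) (kg xg21 yg5 zg1) (kg xg20 yg4 zg35) (kg xg20 yg4 zg36) (kg xg20 yg4 zg37)) (@D3.rec (fun _ => Pt) (kg xg21 yg5 zg42) (kg xg21 yg1 zg30) (kg xg20 yg4 zg30) (kg xg20 yg4 zg38) (kg xg21 yg7 zg48) (kg xg19 yg19 zg43) (kg xg19 yg19 zg44) (kg xg21 yg9 zg8) (kg xg21 yg8 zg48) (kg xg21 yg8 zg46) (kg xg21 yg6 zg36) (kg xg21 yg7 zg28) (kg xg21 yg7 zg3) (kg xg19 yg22 zg14) (kg xg19 yg22 zg15) (kg xg21 yg7 zg9) (kg xg21 yg6 zg48) (kg xg20 yg5 zg22) (kg xg20 yg5 zg23) (kg xg21 yg4 zg7) (kg xg21 yg4 zg8) (kg xg21 yg7 zg10) (kg xg21 yg6 zg50) (kg xg21 yg7 zg4) (kg xg21 yg7 zg43) (kg xg19 yg21 zg47) (kg xg20 yg4 zg47) (kg xg21 yg3 zg37)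 (kg xg21 yg3 zg38) (kg xg19 yg21 zg4) (kg xg19 yg22 zg7) (kg xg19 yg22 zg8) (kg xg19 yg21 zg5) (kg xg20 yg4 zg49) (kg xg20 yg4 zg50) (kg xg19 yg21 zg3) (kg xg21 yg6 zg24) (kg xg21 yg6 zg25) (kg xg19 yg20 zg44) (kg xg20 yg5 zg1) (kg xg19 yg21 zg2) (kg xg21 yg1 zg43) (kg xg21 yg1 zg44) (kg xg21 yg4 zg25) (kg xg21 yg4 zg4) (kg xg21 yg4 zg5) (kg xg21 yg4 zg6) (kg xg21 yg7 zg34) (kg xg20 yg5 zg3) (kg xg20 yg5 zg4) (kg xg20 yg2 zg13)) (@D3.rec (fun _ => Pt) (kg xg21 yg9 zg48) (kg xg19 yg20 zg34) (kg xg20 yg5 zg5) (kg xg20 yg2 zg46) (kg xg21 yg10 zg1) (kg xg21 yg10 zg3) (kg xg19 yg20 zg38) (kg xg19 yg20 zg42) (kg xg19 yg20 zg43) (kg xg21 yg10 zg4) (kg xg21 yg9 zg33) (kg xg21 yg7 zg37) (kg xg21 yg9 zg26) (kg xg21 yg10 zg9) (kg xg19 yg20 zg47) (kg xg21 yg7 zg35)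 (kg xg19 yg21 zg1) (kg xg21 yg9 zg34) (kg xg21 yg9 zg31) (kg xg21 yg9 zg29) (kg xg21 yg6 zg33) (kg xg19 yg21 zg11) (kg xg21 yg8 zg32) (kg xg21 yg10 zg12) (kg xg21 yg7 zg14) (kg xg20 yg1 zg42) (kg xg20 yg1 zg43) (kg xg19 yg21 zg17) (kg xg21 yg3 zg46) (kg xg21 yg6 zg31) (kg xg21 yg6 zg32) (kg xg21 yg3 zg35) (kg xg19 yg21 zg42) (kg xg19 yg21 zg43) (kg xg19 yg26 zg3) (kg xg21 yg3 zg42) (kg xg21 yg3 zg43) (kg xg21 yg3 zg44) (kg xg21 yg6 zg34) (kg xg21 yg6 zg35) (kg xg19 yg21 zg34) (kg xg21 yg6 zg37) (kg xg21 yg6 zg38) (kg xg21 yg3 zg45) (kg xg19 yg21 zg41) (kg xg21 yg8 zg43) (kg xg21 yg8 zg44) (kg xg21 yg8 zg45) (kg xg21 yg10 zg17) (kg xg21 yg9 zg22) (kg xg21 yg1 zg41)) (@D3.rec (fun _ => Pt) (kg xg19 yg22 zg0) (kg xg21 yg6 zg12) (kg xg21 yg5 zg47) (kg xg19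 yg25 zg31) (kg xg20 yg5 zg27) (kg xg19 yg22 zg9) (kg xg21 yg9 zg27) (kg xg21 yg9 zg28) (kg xg20 yg5 zg36) (kg xg20 yg5 zg37) (kg xg20 yg5 zg38) (kg xg20 yg5 zg39) (kg xg21 yg9 zg13) (kg xg21 yg9 zg14) (kg xg20 yg5 zg24) (kg xg21 yg2 zg4) (kg xg21 yg2 zg5) (kg xg21 yg10 zg40) (kg xg20 yg5 zg40) (kg xg20 yg5 zg41) (kg xg21 yg10 zg43) (kg xg19 yg22 zg21) (kg xg21 yg2 zg11) (kg xg21 yg2 zg12) (kg xg21 yg2 zg13) (kg xg21 yg8 zg36) (kg xg21 yg8 zg37) (kg xg19 yg22 zg33) (kg xg19 yg22 zg31) (kg xg19 yg22 zg32) (kg xg20 yg4 zg14) (kg xg21 yg10 zg50) (kg xg21 yg11 zg0) (kg xg21 yg11 zg1) (kg xg21 yg2 zg37) (kg xg21 yg2 zg38) (kg xg21 yg2 zg39) (kg xg19 yg22 zg39) (kg xg21 yg11 zg8) (kg xg21 yg8 zg4) (kg xg21 yg5 zg36) (kg xg19 yg23 zg3) (kg xg21 yg8 zg38) (kg xg21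 yg8 zg39) (kg xg21 yg8 zg40) (kg xg21 yg8 zg5) (kg xg21 yg8 zg6) (kg xg21 yg6 zg16) (kg xg19 yg23 zg1) (kg xg19 yg23 zg2) (kg xg21 yg11 zg17)) (@D3.rec (fun _ => Pt) (kg xg21 yg11 zg18) (kg xg21 yg11 zg19) (kg xg19 yg23 zg7) (kg xg19 yg23 zg8) (kg xg19 yg23 zg9) (kg xg20 yg4 zg17) (kg xg21 yg11 zg22) (kg xg21 yg11 zg23) (kg xg19 yg25 zg30) (kg xg20 yg5 zg48) (kg xg21 yg3 zg11) (kg xg21 yg3 zg12) (kg xg21 yg3 zg14) (kg xg21 yg3 zg15) (kg xg21 yg3 zg16) (kg xg20 yg5 zg49) (kg xg21 yg3 zg25) (kg xg21 yg3 zg26) (kg xg21 yg3 zg28) (kg xg21 yg3 zg31) (kg xg21 yg3 zg32) (kg xg21 yg3 zg33) (kg xg19 yg23 zg26) (kg xg19 yg23 zg39) (kg xg19 yg24 zg41) (kg xg20 yg6 zg22) (kg xg20 yg6 zg23) (kg xg21 yg6 zg7) (kg xg19 yg23 zg37) (kg xg19 yg23 zg38) (kg xg21 yg11 zg41)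 (kg xg21 yg11 zg42) (kg xg21 yg11 zg43) (kg xg20 yg5 zg50) (kg xg20 yg6 zg0) (kg xg21 yg12 zg0) (kg xg20 yg1 zg18) (kg xg20 yg0 zg26) (kg xg19 yg23 zg43) (kg xg20 yg6 zg1) (kg xg21 yg4 zg13) (kg xg21 yg4 zg14) (kg xg21 yg4 zg35) (kg xg20 yg6 zg3) (kg xg20 yg6 zg4) (kg xg20 yg6 zg5) (kg xg21 yg12 zg11) (kg xg19 yg23 zg49) (kg xg20 yg0 zg16) (kg xg21 yg4 zg10) (kg xg21 yg4 zg11)) (@D3.rec (fun _ => Pt) (kg xg20 yg6 zg6) (kg xg20 yg6 zg8) (kg xg19 yg24 zg8) (kg xg19 yg24 zg9) (kg xg21 yg12 zg20) (kg xg21 yg12 zg16) (kg xg21 yg12 zg17) (kg xg21 yg12 zg18) (kg xg21 yg12 zg26) (kg xg19 yg24 zg10) (kg xg20 yg6 zg10) (kg xg21 yg12 zg28) (kg xg19 yg24 zg13) (kg xg19 yg24 zg17) (kg xg19 yg24 zg18) (kg xg19 yg24 zg19) (kg xg21 yg12 zg29) (kg xg21 yg12 zg30) (kg xg21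 yg12 zg31) (kg xg19 yg24 zg29) (kg xg19 yg24 zg23) (kg xg19 yg24 zg24) (kg xg21 yg12 zg36) (kg xg21 yg12 zg37) (kg xg21 yg12 zg38) (kg xg21 yg5 zg22) (kg xg19 yg24 zg28) (kg xg21 yg12 zg42) (kg xg19 yg24 zg47) (kg xg19 yg24 zg48) (kg xg19 yg24 zg35) (kg xg19 yg24 zg36) (kg xg19 yg24 zg37) (kg xg21 yg6 zg39) (kg xg21 yg12 zg46) (kg xg21 yg12 zg47) (kg xg21 yg12 zg49) (kg xg20 yg6 zg24) (kg xg21 yg4 zg29) (kg xg21 yg11 zg37) (kg xg20 yg6 zg38) (kg xg19 yg24 zg45) (kg xg21 yg6 zg19) (kg xg21 yg12 zg43) (kg xg21 yg12 zg44) (kg xg21 yg12 zg45) (kg xg19 yg25 zg1) (kg xg19 yg25 zg2) (kg xg19 yg25 zg3) (kg xg21 yg13 zg7) (kg xg19 yg26 zg43)) (@D3.rec (fun _ => Pt) (kg xg21 yg13 zg8) (kg xg21 yg13 zg9) (kg xg19 yg25 zg9) (kg xg19 yg25 zg7) (kg xg19 yg25 zg8) (kg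 xg21 yg13 zg14) (kg xg21 yg13 zg15) (kg xg21 yg12 zg12) (kg xg19 yg25 zg13) (kg xg19 yg26 zg45) (kg xg20 yg0 zg18) (kg xg19 yg25 zg32) (kg xg19 yg25 zg39) (kg xg19 yg25 zg18) (kg xg19 yg25 zg19) (kg xg21 yg13 zg18) (kg xg21 yg13 zg19) (kg xg21 yg13 zg20) (kg xg20 yg3 zg28) (kg xg19 yg25 zg48) (kg xg20 yg3 zg27) (kg xg19 yg25 zg26) (kg xg19 yg25 zg27) (kg xg19 yg25 zg28) (kg xg21 yg13 zg25) (kg xg21 yg13 zg26) (kg xg21 yg6 zg42) (kg xg20 yg6 zg18) (kg xg21 yg11 zg26) (kg xg21 yg10 zg29) (kg xg19 yg25 zg36) (kg xg19 yg25 zg37) (kg xg20 yg3 zg15) (kg xg21 yg13 zg31) (kg xg21 yg13 zg32) (kg xg21 yg13 zg33) (kg xg20 yg5 zg46) (kg xg19 yg26 zg36) (kg xg19 yg26 zg37) (kg xg21 yg8 zg16) (kg xg19 yg25 zg45) (kg xg19 yg25 zg46) (kg xg19 yg25 zg47) (kg xg20 yg3 zg34)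 (kg xg21 yg13 zg41) (kg xg21 yg13 zg42) (kg xg21 yg13 zg45) (kg xg19 yg26 zg47) (kg xg19 yg26 zg48) (kg xg19 yg26 zg49) (kg xg19 yg26 zg4)) (@D3.rec (fun _ => Pt) (kg xg19 yg26 zg5) (kg xg21 yg10 zg18) (kg xg19 yg26 zg6) (kg xg21 yg14 zg0) (kg xg21 yg14 zg2) (kg xg21 yg14 zg3) (kg xg21 yg14 zg4) (kg xg19 yg26 zg9) (kg xg21 yg14 zg9) (kg xg21 yg5 zg35) (kg xg21 yg4 zg49) (kg xg19 yg26 zg13) (kg xg21 yg5 zg34) (kg xg21 yg7 zg18) (kg xg21 yg7 zg19) (kg xg21 yg8 zg17) (kg xg19 yg26 zg23) (kg xg19 yg26 zg24) (kg xg21 yg2 zg30) (kg xg19 yg26 zg25) (kg xg19 yg26 zg26) (kg xg19 yg26 zg27) (kg xg21 yg2 zg34) (kg xg21 yg14 zg16) (kg xg21 yg14 zg17) (kg xg21 yg14 zg18) (kg xg21 yg14 zg20) (kg xg21 yg14 zg21) (kg xg21 yg2 zg32) (kg xg21 yg2 zg33) (kg xg21 yg13 zg16)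 (kg xg20 yg6 zg17) (kg xg20 yg2 zg12) (kg xg20 yg2 zg45) (kg xg21 yg2 zg31) (kg xg21 yg2 zg1) (kg xg21 yg2 zg2) (kg xg21 yg13 zg38) (kg xg21 yg13 zg39) (kg xg21 yg8 zg13) (kg xg19 yg26 zg42) (kg xg21 yg2 zg36) (kg xg21 yg13 zg10) (kg xg21 yg2 zg35) (kg xg21 yg13 zg12) (kg xg21 yg13 zg17) (kg xg21 yg13 zg49) (kg xg21 yg13 zg50) (kg xg20 yg0 zg2) (kg xg20 yg0 zg4) (kg xg20 yg0 zg5)) (@D3.rec (fun _ => Pt) (kg xg20 yg3 zg42) (kg xg21 yg14 zg43) (kg xg20 yg3 zg36) (kg xg21 yg14 zg44) (kg xg20 yg2 zg8) (kg xg20 yg0 zg9) (kg xg21 yg14 zg50) (kg xg20 yg0 zg14) (kg xg20 yg0 zg15) (kg xg20 yg0 zg17) (kg xg21 yg15 zg0) (kg xg21 yg12 zg1) (kg xg21 yg12 zg10) (kg xg20 yg1 zg45) (kg xg20 yg1 zg41) (kg xg20 yg2 zg39) (kg xg20 yg1 zg12) (kg xg20 yg2 zg36) (kg xg21 yg6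 zg26) (kg xg21 yg6 zg27) (kg xg20 yg5 zg43) (kg xg20 yg5 zg44) (kg xg20 yg5 zg45) (kg xg20 yg0 zg43) (kg xg20 yg0 zg44) (kg xg21 yg15 zg9) (kg xg21 yg2 zg7) (kg xg21 yg2 zg8) (kg xg20 yg2 zg31) (kg xg21 yg3 zg10) (kg xg21 yg3 zg50) (kg xg21 yg4 zg0) (kg xg21 yg4 zg1) (kg xg21 yg4 zg2) (kg xg20 yg1 zg16) (kg xg20 yg1 zg17) (kg xg20 yg1 zg26) (kg xg20 yg1 zg27) (kg xg21 yg15 zg4) (kg xg21 yg7 zg25) (kg xg21 yg7 zg26) (kg xg21 yg7 zg27) (kg xg21 yg15 zg13) (kg xg21 yg15 zg14) (kg xg21 yg11 zg49) (kg xg21 yg7 zg15) (kg xg21 yg7 zg16) (kg xg20 yg7 zg27) (kg xg20 yg7 zg26) (kg xg21 yg15 zg27) (kg xg20 yg1 zg23)) (@D3.rec (fun _ => Pt) (kg xg21 yg7 zg21) (kg xg21 yg7 zg22) (kg xg21 yg15 zg15) (kg xg21 yg15 zg30) (kg xg20 yg1 zg28) (kg xg20 yg7 zg3) (kg xg20 yg7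 zg4) (kg xg20 yg7 zg5) (kg xg20 yg7 zg17) (kg xg20 yg7 zg29) (kg xg20 yg7 zg16) (kg xg20 yg6 zg45) (kg xg20 yg6 zg46) (kg xg20 yg6 zg47) (kg xg20 yg7 zg6) (kg xg21 yg15 zg3) (kg xg21 yg10 zg13) (kg xg21 yg14 zg45) (kg xg21 yg4 zg31) (kg xg21 yg4 zg32) (kg xg21 yg4 zg33) (kg xg21 yg4 zg36) (kg xg21 yg4 zg37) (kg xg21 yg4 zg38) (kg xg21 yg4 zg44) (kg xg20 yg2 zg16) (kg xg20 yg2 zg17) (kg xg21 yg14 zg49) (kg xg20 yg2 zg18) (kg xg20 yg2 zg19) (kg xg21 yg13 zg44) (kg xg21 yg4 zg16) (kg xg21 yg4 zg17) (kg xg21 yg14 zg34) (kg xg21 yg9 zg45) (kg xg21 yg2 zg15) (kg xg21 yg2 zg16) (kg xg21 yg15 zg42) (kg xg21 yg15 zg43) (kg xg21 yg15 zg44) (kg xg21 yg15 zg46) (kg xg21 yg5 zg18) (kg xg21 yg5 zg19) (kg xg21 yg5 zg20) (kg xg20 yg7 zg12) (kg xg21 yg5 zg21) (kg xg21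 yg5 zg46) (kg xg21 yg5 zg23) (kg xg21 yg5 zg24) (kg xg21 yg5 zg25) (kg xg21 yg5 zg26)) (@D3.rec (fun _ => Pt) (kg xg21 yg5 zg27) (kg xg21 yg8 zg24) (kg xg21 yg8 zg25) (kg xg21 yg8 zg26) (kg xg21 yg15 zg5) (kg xg20 yg3 zg9) (kg xg21 yg14 zg48) (kg xg21 yg8 zg33) (kg xg21 yg8 zg34) (kg xg21 yg8 zg35) (kg xg21 yg8 zg11) (kg xg21 yg8 zg12) (kg xg21 yg9 zg49) (kg xg21 yg8 zg18) (kg xg21 yg5 zg17) (kg xg21 yg8 zg19) (kg xg21 yg8 zg20) (kg xg21 yg8 zg21) (kg xg21 yg2 zg18) (kg xg21 yg2 zg19) (kg xg21 yg16 zg28) (kg xg20 yg3 zg2) (kg xg21 yg2 zg48) (kg xg21 yg16 zg30) (kg xg20 yg3 zg5) (kg xg21 yg8 zg29) (kg xg21 yg16 zg31) (kg xg20 yg3 zg10) (kg xg20 yg6 zg25) (kg xg20 yg6 zg26) (kg xg21 yg13 zg34) (kg xg21 yg5 zg28) (kg xg21 yg5 zg29) (kg xg21 yg6 zg9) (kg xg21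 yg6 zg10) (kg xg21 yg6 zg11) (kg xg20 yg3 zg22) (kg xg21 yg5 zg30) (kg xg20 yg3 zg29) (kg xg20 yg3 zg30) (kg xg20 yg3 zg31) (kg xg21 yg13 zg24) (kg xg21 yg13 zg23) (kg xg21 yg12 zg41) (kg xg21 yg16 zg36) (kg xg21 yg16 zg37) (kg xg21 yg6 zg13) (kg xg21 yg13 zg43) (kg xg21 yg14 zg46) (kg xg21 yg8 zg7) (kg xg21 yg6 zg21)) (@D3.rec (fun _ => Pt) (kg xg20 yg3 zg41) (kg xg21 yg6 zg29) (kg xg21 yg7 zg45) (kg xg20 yg5 zg25) (kg xg20 yg5 zg26) (kg xg21 yg8 zg3) (kg xg21 yg6 zg45) (kg xg21 yg6 zg46) (kg xg21 yg6 zg47) (kg xg21 yg7 zg49) (kg xg21 yg6 zg49) (kg xg21 yg7 zg47) (kg xg20 yg5 zg14) (kg xg20 yg5 zg15) (kg xg21 yg7 zg41) (kg xg21 yg7 zg11) (kg xg21 yg7 zg12) (kg xg20 yg7 zg2) (kg xg21 yg7 zg40) (kg xg20 yg5 zg28) (kg xg20 yg5 zg29) (kg xg21 yg11 zg2) (kg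 xg21 yg7 zg5) (kg xg21 yg11 zg24) (kg xg21 yg7 zg13) (kg xg21 yg7 zg39) (kg xg21 yg17 zg13) (kg xg20 yg4 zg22) (kg xg21 yg7 zg31) (kg xg21 yg7 zg32) (kg xg21 yg7 zg33) (kg xg21 yg7 zg36) (kg xg21 yg9 zg6) (kg xg21 yg8 zg47) (kg xg21 yg8 zg49) (kg xg21 yg8 zg50) (kg xg21 yg9 zg0) (kg xg21 yg9 zg2) (kg xg21 yg9 zg3) (kg xg21 yg7 zg46) (kg xg20 yg4 zg46) (kg xg21 yg1 zg36) (kg xg21 yg6 zg30) (kg xg21 yg1 zg39) (kg xg21 yg9 zg30) (kg xg21 yg7 zg8) (kg xg21 yg9 zg44) (kg xg20 yg5 zg8) (kg xg21 yg6 zg40) (kg xg21 yg6 zg41) (kg xg21 yg17 zg2))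
def f_g_21 : D2 → D3 → Pt := @D2.rec (fun _ => D3 → Pt) (@D3.rec (fun _ => Pt) (kg xg21 yg17 zg3) (kg xg21 yg17 zg4) (kg xg20 yg5 zg19) (kg xg20 yg5 zg20) (kg xg20 yg5 zg21) (kg xg21 yg17 zg23) (kg xg21 yg17 zg24) (kg xg21 yg9 zg18) (kg xg21 yg9 zg19) (kg xg21 yg16 zg45) (kg xg21 yg16 zg46) (kg xg21 yg16 zg47) (kg xg21 yg17 zg9) (kg xg21 yg3 zg47) (kg xg21 yg3 zg48) (kg xg21 yg3 zg49) (kg xg21 yg4 zg3) (kg xg21 yg10 zg31) (kg xg21 yg10 zg32) (kg xg21 yg10 zg41) (kg xg21 yg15 zg7) (kg xg21 yg15 zg8) (kg xg21 yg11 zg47) (kg xg21 yg11 zg48) (kg xg21 yg12 zg2) (kg xg21 yg6 zg6) (kg xg21 yg12 zg7) (kg xg21 yg12 zg8) (kg xg21 yg12 zg15) (kg xg21 yg5 zg16) (kg xg21 yg6 zg5) (kg xg21 yg4 zg40) (kg xg21 yg4 zg41) (kg xg21 yg4 zg42) (kg xg21 yg4 zg47) (kg xg21 yg4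 zg48) (kg xg21 yg5 zg31) (kg xg21 yg5 zg32) (kg xg21 yg11 zg38) (kg xg21 yg11 zg39) (kg xg21 yg11 zg40) (kg xg21 yg16 zg32) (kg xg21 yg3 zg27) (kg xg21 yg3 zg17) (kg xg20 yg6 zg33) (kg xg20 yg6 zg34) (kg xg21 yg3 zg13) (kg xg20 yg6 zg35) (kg xg20 yg6 zg36) (kg xg20 yg6 zg37) (kg xg21 yg18 zg0)) (@D3.rec (fun _ => Pt) (kg xg21 yg18 zg1) (kg xg21 yg18 zg2) (kg xg21 yg18 zg3) (kg xg21 yg18 zg4) (kg xg21 yg4 zg19) (kg xg21 yg4 zg20) (kg xg20 yg6 zg43) (kg xg21 yg15 zg35) (kg xg21 yg15 zg36) (kg xg20 yg7 zg0) (kg xg20 yg7 zg1) (kg xg21 yg18 zg12) (kg xg21 yg18 zg13) (kg xg21 yg17 zg7) (kg xg21 yg15 zg31) (kg xg21 yg15 zg32) (kg xg21 yg18 zg18) (kg xg20 yg7 zg7) (kg xg20 yg7 zg9) (kg xg20 yg7 zg15) (kg xg21 yg15 zg34) (kg xg21 yg15 zg33) (kg xg21 yg4 zg34) (kg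 xg20 yg7 zg23) (kg xg20 yg7 zg24) (kg xg20 yg7 zg25) (kg xg21 yg18 zg21) (kg xg21 yg15 zg25) (kg xg20 yg14 zg30) (kg xg20 yg14 zg31) (kg xg20 yg16 zg1) (kg xg20 yg14 zg42) (kg xg20 yg14 zg48) (kg xg20 yg14 zg49) (kg xg20 yg14 zg50) (kg xg20 yg15 zg1) (kg xg20 yg26 zg41) (kg xg20 yg14 zg35) (kg xg20 yg7 zg49) (kg xg20 yg26 zg43) (kg xg20 yg13 zg45) (kg xg20 yg17 zg50) (kg xg20 yg10 zg1) (kg xg20 yg16 zg41) (kg xg20 yg16 zg42) (kg xg20 yg10 zg12) (kg xg20 yg8 zg49) (kg xg20 yg8 zg50) (kg xg21 yg18 zg36) (kg xg20 yg9 zg39) (kg xg20 yg10 zg30)) (@D3.rec (fun _ => Pt) (kg xg20 yg8 zg9) (kg xg20 yg22 zg35) (kg xg20 yg22 zg36) (kg xg21 yg18 zg42) (kg xg20 yg18 zg15) (kg xg20 yg18 zg16) (kg xg21 yg18 zg47) (kg xg20 yg23 zg26) (kg xg20 yg23 zg27) (kg xg21 yg18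 zg50) (kg xg20 yg8 zg16) (kg xg20 yg18 zg22) (kg xg20 yg18 zg23) (kg xg20 yg18 zg24) (kg xg20 yg8 zg32) (kg xg20 yg24 zg35) (kg xg20 yg24 zg36) (kg xg21 yg19 zg7) (kg xg20 yg25 zg18) (kg xg20 yg25 zg19) (kg xg21 yg19 zg10) (kg xg20 yg8 zg26) (kg xg20 yg8 zg30) (kg xg20 yg8 zg31) (kg xg20 yg11 zg26) (kg xg21 yg19 zg11) (kg xg21 yg19 zg12) (kg xg21 yg19 zg13) (kg xg20 yg11 zg19) (kg xg20 yg11 zg20) (kg xg20 yg22 zg18) (kg xg20 yg22 zg34) (kg xg20 yg22 zg28) (kg xg20 yg22 zg29) (kg xg20 yg22 zg22) (kg xg20 yg22 zg43) (kg xg20 yg22 zg41) (kg xg20 yg18 zg34) (kg xg20 yg18 zg35) (kg xg20 yg18 zg36) (kg xg20 yg8 zg46) (kg xg21 yg19 zg30) (kg xg20 yg11 zg4) (kg xg21 yg18 zg32) (kg xg21 yg18 zg33) (kg xg21 yg18 zg34) (kg xg21 yg19 zg34) (kg xg20 yg9 zg0) (kg xg20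 yg25 zg22) (kg xg21 yg19 zg36) (kg xg20 yg9 zg3)) (@D3.rec (fun _ => Pt) (kg xg20 yg9 zg8) (kg xg20 yg9 zg9) (kg xg20 yg9 zg10) (kg xg20 yg12 zg22) (kg xg21 yg19 zg37) (kg xg21 yg19 zg38) (kg xg20 yg11 zg17) (kg xg20 yg11 zg18) (kg xg20 yg12 zg12) (kg xg20 yg12 zg13) (kg xg20 yg23 zg29) (kg xg20 yg19 zg10) (kg xg20 yg19 zg11) (kg xg21 yg0 zg46) (kg xg20 yg19 zg12) (kg xg20 yg19 zg13) (kg xg20 yg19 zg14) (kg xg21 yg0 zg43) (kg xg20 yg11 zg21) (kg xg20 yg11 zg22) (kg xg21 yg20 zg4) (kg xg20 yg9 zg24) (kg xg20 yg12 zg15) (kg xg21 yg20 zg6) (kg xg20 yg9 zg27) (kg xg20 yg19 zg16) (kg xg20 yg19 zg17) (kg xg21 yg0 zg42) (kg xg20 yg19 zg18) (kg xg21 yg20 zg11) (kg xg20 yg9 zg34) (kg xg20 yg19 zg19) (kg xg20 yg19 zg20) (kg xg20 yg19 zg21) (kg xg20 yg11 zg1) (kg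 xg20 yg17 zg31) (kg xg20 yg10 zg0) (kg xg20 yg16 zg27) (kg xg20 yg16 zg28) (kg xg20 yg10 zg2) (kg xg21 yg20 zg14) (kg xg21 yg18 zg28) (kg xg20 yg17 zg35) (kg xg20 yg17 zg36) (kg xg20 yg17 zg37) (kg xg20 yg17 zg43) (kg xg20 yg17 zg28) (kg xg21 yg0 zg13) (kg xg21 yg0 zg14) (kg xg21 yg0 zg15) (kg xg20 yg23 zg30)) (@D3.rec (fun _ => Pt) (kg xg20 yg23 zg31) (kg xg20 yg23 zg32) (kg xg20 yg23 zg33) (kg xg21 yg0 zg16) (kg xg20 yg16 zg44) (kg xg20 yg16 zg45) (kg xg20 yg16 zg46) (kg xg20 yg16 zg19) (kg xg20 yg16 zg20) (kg xg20 yg10 zg27) (kg xg20 yg19 zg49) (kg xg20 yg19 zg50) (kg xg21 yg18 zg37) (kg xg20 yg19 zg40) (kg xg20 yg19 zg41) (kg xg21 yg20 zg36) (kg xg20 yg24 zg31) (kg xg20 yg24 zg32) (kg xg21 yg20 zg41) (kg xg21 yg1 zg4) (kg xg21 yg1 zg5) (kg xg21 yg20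 zg44) (kg xg20 yg10 zg37) (kg xg20 yg10 zg41) (kg xg20 yg10 zg42) (kg xg20 yg16 zg43) (kg xg21 yg20 zg45) (kg xg21 yg20 zg46) (kg xg21 yg20 zg47) (kg xg20 yg20 zg38) (kg xg20 yg11 zg23) (kg xg20 yg24 zg18) (kg xg20 yg24 zg19) (kg xg20 yg24 zg20) (kg xg21 yg1 zg22) (kg xg20 yg19 zg42) (kg xg20 yg24 zg21) (kg xg20 yg24 zg22) (kg xg20 yg24 zg23) (kg xg21 yg20 zg10) (kg xg21 yg0 zg31) (kg xg21 yg0 zg32) (kg xg21 yg0 zg33) (kg xg21 yg19 zg29) (kg xg20 yg24 zg24) (kg xg21 yg21 zg17) (kg xg20 yg11 zg7) (kg xg21 yg0 zg34) (kg xg21 yg0 zg35) (kg xg20 yg22 zg10) (kg xg20 yg11 zg14)) (@D3.rec (fun _ => Pt) (kg xg20 yg11 zg15) (kg xg20 yg15 zg47) (kg xg21 yg21 zg22) (kg xg21 yg21 zg23) (kg xg21 yg21 zg24) (kg xg21 yg19 zg41) (kg xg21 yg19 zg42) (kg xg21 yg19 zg18)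 (kg xg21 yg19 zg19) (kg xg21 yg19 zg20) (kg xg21 yg20 zg2) (kg xg21 yg21 zg2) (kg xg20 yg11 zg27) (kg xg20 yg11 zg28) (kg xg21 yg19 zg14) (kg xg21 yg21 zg33) (kg xg21 yg0 zg29) (kg xg20 yg25 zg14) (kg xg20 yg24 zg41) (kg xg20 yg24 zg42) (kg xg20 yg24 zg43) (kg xg20 yg24 zg45) (kg xg20 yg20 zg25) (kg xg20 yg24 zg47) (kg xg20 yg24 zg48) (kg xg20 yg24 zg49) (kg xg20 yg24 zg50) (kg xg20 yg25 zg0) (kg xg20 yg25 zg31) (kg xg20 yg25 zg32) (kg xg20 yg25 zg37) (kg xg21 yg0 zg36) (kg xg21 yg0 zg37) (kg xg20 yg11 zg48) (kg xg20 yg22 zg12) (kg xg20 yg22 zg9) (kg xg20 yg18 zg40) (kg xg20 yg15 zg6) (kg xg20 yg15 zg7) (kg xg20 yg12 zg7) (kg xg20 yg12 zg8) (kg xg20 yg12 zg9) (kg xg20 yg16 zg0) (kg xg21 yg22 zg1) (kg xg21 yg22 zg2) (kg xg21 yg22 zg5) (kg xg20 yg24 zg46)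 (kg xg20 yg18 zg2) (kg xg21 yg19 zg43) (kg xg20 yg12 zg49) (kg xg21 yg22 zg12)) (@D3.rec (fun _ => Pt) (kg xg20 yg12 zg16) (kg xg20 yg12 zg44) (kg xg20 yg12 zg45) (kg xg20 yg12 zg23) (kg xg21 yg19 zg39) (kg xg21 yg0 zg30) (kg xg21 yg0 zg25) (kg xg20 yg19 zg27) (kg xg20 yg12 zg47) (kg xg20 yg25 zg33) (kg xg20 yg25 zg34) (kg xg20 yg25 zg35) (kg xg20 yg18 zg1) (kg xg20 yg25 zg46) (kg xg21 yg22 zg17) (kg xg20 yg12 zg38) (kg xg20 yg18 zg47) (kg xg20 yg12 zg42) (kg xg21 yg22 zg13) (kg xg20 yg20 zg42) (kg xg21 yg22 zg11) (kg xg20 yg25 zg50) (kg xg20 yg14 zg20) (kg xg20 yg14 zg0) (kg xg20 yg16 zg36) (kg xg20 yg16 zg37) (kg xg20 yg23 zg18) (kg xg20 yg23 zg19) (kg xg20 yg13 zg10) (kg xg20 yg26 zg1) (kg xg20 yg26 zg42) (kg xg20 yg17 zg29) (kg xg20 yg17 zg30) (kg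 xg20 yg17 zg20) (kg xg20 yg17 zg38) (kg xg20 yg17 zg39) (kg xg20 yg16 zg10) (kg xg20 yg17 zg41) (kg xg20 yg17 zg42) (kg xg20 yg20 zg33) (kg xg20 yg26 zg48) (kg xg20 yg26 zg49) (kg xg20 yg21 zg26) (kg xg20 yg15 zg35) (kg xg20 yg15 zg36) (kg xg20 yg26 zg6) (kg xg20 yg26 zg7) (kg xg20 yg26 zg8) (kg xg20 yg16 zg16) (kg xg20 yg26 zg10) (kg xg20 yg16 zg22)) (@D3.rec (fun _ => Pt) (kg xg20 yg13 zg36) (kg xg20 yg13 zg37) (kg xg21 yg22 zg39) (kg xg20 yg16 zg12) (kg xg20 yg16 zg23) (kg xg20 yg26 zg22) (kg xg21 yg18 zg26) (kg xg20 yg13 zg48) (kg xg20 yg26 zg45) (kg xg20 yg16 zg15) (kg xg20 yg16 zg21) (kg xg20 yg26 zg15) (kg xg20 yg26 zg16) (kg xg20 yg26 zg24) (kg xg20 yg17 zg24) (kg xg20 yg23 zg45) (kg xg20 yg23 zg46) (kg xg21 yg22 zg47) (kg xg20 yg22 zg13) (kg xg20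 yg22 zg14) (kg xg21 yg23 zg1) (kg xg20 yg24 zg0) (kg xg20 yg24 zg1) (kg xg21 yg23 zg4) (kg xg20 yg14 zg14) (kg xg20 yg23 zg39) (kg xg20 yg23 zg40) (kg xg20 yg23 zg41) (kg xg20 yg16 zg11) (kg xg20 yg15 zg37) (kg xg20 yg15 zg38) (kg xg20 yg26 zg28) (kg xg20 yg26 zg29) (kg xg20 yg26 zg30) (kg xg20 yg16 zg47) (kg xg20 yg17 zg15) (kg xg20 yg26 zg31) (kg xg20 yg17 zg11) (kg xg21 yg18 zg22) (kg xg20 yg26 zg25) (kg xg20 yg26 zg18) (kg xg20 yg26 zg14) (kg xg20 yg14 zg37) (kg xg20 yg16 zg24) (kg xg20 yg14 zg47) (kg xg20 yg26 zg2) (kg xg20 yg26 zg39) (kg xg20 yg26 zg11) (kg xg20 yg16 zg4) (kg xg20 yg26 zg9) (kg xg21 yg23 zg17)) (@D3.rec (fun _ => Pt) (kg xg21 yg18 zg23) (kg xg21 yg18 zg24) (kg xg21 yg18 zg25) (kg xg20 yg26 zg5) (kg xg20 yg18 zg39) (kg xg20 yg18 zg45)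 (kg xg20 yg18 zg46) (kg xg20 yg25 zg49) (kg xg21 yg21 zg49) (kg xg21 yg21 zg50) (kg xg21 yg22 zg0) (kg xg20 yg25 zg10) (kg xg20 yg25 zg11) (kg xg20 yg22 zg39) (kg xg21 yg23 zg36) (kg xg20 yg15 zg11) (kg xg20 yg21 zg39) (kg xg20 yg22 zg15) (kg xg20 yg25 zg13) (kg xg20 yg25 zg15) (kg xg20 yg25 zg16) (kg xg20 yg25 zg17) (kg xg21 yg23 zg42) (kg xg20 yg15 zg18) (kg xg20 yg25 zg1) (kg xg20 yg25 zg2) (kg xg20 yg25 zg3) (kg xg21 yg23 zg48) (kg xg20 yg15 zg21) (kg xg20 yg25 zg25) (kg xg21 yg23 zg50) (kg xg20 yg15 zg24) (kg xg20 yg17 zg22) (kg xg20 yg25 zg7) (kg xg20 yg25 zg8) (kg xg20 yg25 zg9) (kg xg20 yg18 zg25) (kg xg20 yg18 zg26) (kg xg20 yg18 zg42) (kg xg20 yg18 zg43) (kg xg20 yg18 zg44) (kg xg21 yg22 zg33) (kg xg21 yg23 zg8) (kg xg20 yg17 zg45) (kg xg20 yg17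 zg46) (kg xg20 yg17 zg47) (kg xg20 yg16 zg9) (kg xg20 yg26 zg33) (kg xg20 yg16 zg8) (kg xg20 yg26 zg34) (kg xg20 yg26 zg35)) (@D3.rec (fun _ => Pt) (kg xg20 yg26 zg36) (kg xg21 yg21 zg25) (kg xg20 yg26 zg37) (kg xg20 yg26 zg38) (kg xg21 yg22 zg3) (kg xg21 yg22 zg4) (kg xg20 yg26 zg32) (kg xg21 yg23 zg20) (kg xg20 yg16 zg7) (kg xg21 yg24 zg12) (kg xg21 yg24 zg11) (kg xg21 yg22 zg28) (kg xg21 yg22 zg40) (kg xg20 yg18 zg12) (kg xg20 yg18 zg13) (kg xg21 yg22 zg41) (kg xg21 yg22 zg36) (kg xg21 yg22 zg37) (kg xg21 yg0 zg7) (kg xg21 yg0 zg8) (kg xg21 yg20 zg28) (kg xg21 yg22 zg38) (kg xg20 yg17 zg49) (kg xg21 yg20 zg15) (kg xg21 yg20 zg16) (kg xg21 yg20 zg17) (kg xg20 yg17 zg12) (kg xg20 yg18 zg6) (kg xg20 yg18 zg7) (kg xg20 yg17 zg19) (kg xg20 yg26 zg44) (kg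 xg20 yg17 zg18) (kg xg21 yg22 zg19) (kg xg20 yg17 zg10) (kg xg20 yg17 zg17) (kg xg21 yg18 zg29) (kg xg21 yg18 zg30) (kg xg21 yg18 zg31) (kg xg21 yg20 zg48) (kg xg21 yg20 zg25) (kg xg21 yg20 zg26) (kg xg21 yg23 zg11) (kg xg21 yg23 zg12) (kg xg21 yg20 zg27) (kg xg20 yg26 zg46) (kg xg20 yg24 zg34) (kg xg21 yg25 zg0) (kg xg21 yg24 zg0) (kg xg20 yg17 zg0) (kg xg20 yg25 zg12) (kg xg21 yg25 zg2)) (@D3.rec (fun _ => Pt) (kg xg21 yg25 zg4) (kg xg20 yg17 zg4) (kg xg21 yg25 zg5) (kg xg20 yg17 zg5) (kg xg20 yg17 zg9) (kg xg21 yg24 zg35) (kg xg21 yg23 zg13) (kg xg21 yg24 zg31) (kg xg21 yg22 zg24) (kg xg20 yg17 zg13) (kg xg21 yg24 zg34) (kg xg21 yg24 zg33) (kg xg20 yg17 zg23) (kg xg20 yg24 zg16) (kg xg21 yg22 zg21) (kg xg21 yg22 zg22) (kg xg21 yg22 zg23) (kg xg20 yg17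 zg48) (kg xg20 yg22 zg1) (kg xg21 yg20 zg19) (kg xg21 yg20 zg20) (kg xg21 yg22 zg25) (kg xg21 yg22 zg26) (kg xg21 yg22 zg27) (kg xg21 yg22 zg29) (kg xg21 yg24 zg9) (kg xg21 yg24 zg10) (kg xg21 yg18 zg27) (kg xg21 yg22 zg10) (kg xg20 yg21 zg29) (kg xg21 yg24 zg32) (kg xg21 yg0 zg17) (kg xg21 yg0 zg18) (kg xg21 yg24 zg24) (kg xg21 yg24 zg25) (kg xg21 yg21 zg45) (kg xg21 yg18 zg43) (kg xg21 yg18 zg44) (kg xg21 yg18 zg45) (kg xg21 yg25 zg29) (kg xg20 yg18 zg17) (kg xg21 yg0 zg19) (kg xg21 yg25 zg31) (kg xg20 yg18 zg20) (kg xg21 yg19 zg0) (kg xg21 yg19 zg1) (kg xg21 yg19 zg2) (kg xg21 yg24 zg5) (kg xg21 yg24 zg6) (kg xg21 yg21 zg15) (kg xg20 yg18 zg31)) (@D3.rec (fun _ => Pt) (kg xg20 yg18 zg32) (kg xg20 yg18 zg33) (kg xg20 yg26 zg21) (kg xg21 yg25 zg37) (kg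 xg21 yg25 zg38) (kg xg21 yg25 zg40) (kg xg21 yg19 zg27) (kg xg21 yg19 zg28) (kg xg20 yg18 zg38) (kg xg21 yg23 zg25) (kg xg21 yg21 zg48) (kg xg21 yg21 zg21) (kg xg21 yg24 zg7) (kg xg21 yg24 zg8) (kg xg21 yg23 zg26) (kg xg21 yg23 zg27) (kg xg21 yg23 zg28) (kg xg20 yg18 zg50) (kg xg20 yg19 zg0) (kg xg20 yg19 zg1) (kg xg21 yg25 zg50) (kg xg21 yg26 zg0) (kg xg20 yg19 zg6) (kg xg20 yg19 zg7) (kg xg20 yg26 zg23) (kg xg21 yg26 zg2) (kg xg20 yg21 zg28) (kg xg21 yg19 zg44) (kg xg21 yg19 zg45) (kg xg21 yg19 zg46) (kg xg21 yg19 zg48) (kg xg21 yg19 zg49) (kg xg21 yg20 zg1) (kg xg21 yg20 zg7) (kg xg21 yg20 zg9) (kg xg21 yg20 zg12) (kg xg21 yg20 zg13) (kg xg20 yg20 zg39) (kg xg21 yg0 zg38) (kg xg21 yg0 zg39) (kg xg21 yg0 zg40) (kg xg20 yg19 zg30) (kg xg20 yg19 zg31)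 (kg xg20 yg19 zg32) (kg xg21 yg26 zg14) (kg xg21 yg26 zg15) (kg xg21 yg26 zg16) (kg xg21 yg0 zg22) (kg xg21 yg0 zg23) (kg xg20 yg23 zg44) (kg xg21 yg26 zg25)) (@D3.rec (fun _ => Pt) (kg xg20 yg19 zg35) (kg xg20 yg23 zg11) (kg xg21 yg0 zg24) (kg xg21 yg20 zg32) (kg xg21 yg20 zg33) (kg xg21 yg20 zg34) (kg xg21 yg21 zg6) (kg xg21 yg0 zg26) (kg xg21 yg0 zg27) (kg xg21 yg26 zg32) (kg xg20 yg23 zg12) (kg xg20 yg19 zg46) (kg xg20 yg21 zg7) (kg xg21 yg20 zg29) (kg xg21 yg20 zg30) (kg xg21 yg0 zg28) (kg xg20 yg20 zg5) (kg xg20 yg20 zg6) (kg xg20 yg20 zg7) (kg xg21 yg26 zg40) (kg xg20 yg20 zg4) (kg xg21 yg26 zg35) (kg xg21 yg26 zg36) (kg xg21 yg26 zg46) (kg xg21 yg23 zg47) (kg xg21 yg26 zg39) (kg xg20 yg20 zg8) (kg xg21 yg26 zg47) (kg xg20 yg20 zg11) (kg xg20 yg20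 zg16) (kg xg20 yg20 zg17) (kg xg20 yg20 zg18) (kg xg21 yg26 zg48) (kg xg21 yg26 zg49) (kg xg21 yg26 zg50) (kg xg22 yg0 zg0) (kg xg20 yg20 zg22) (kg xg20 yg20 zg23) (kg xg20 yg20 zg24) (kg xg22 yg0 zg5) (kg xg22 yg0 zg6) (kg xg20 yg25 zg43) (kg xg20 yg20 zg27) (kg xg20 yg20 zg43) (kg xg20 yg20 zg44) (kg xg20 yg20 zg45) (kg xg20 yg20 zg34) (kg xg20 yg20 zg35) (kg xg21 yg22 zg30) (kg xg20 yg20 zg36) (kg xg22 yg0 zg12)) (@D3.rec (fun _ => Pt) (kg xg22 yg0 zg14) (kg xg22 yg0 zg15) (kg xg22 yg0 zg16) (kg xg21 yg21 zg1) (kg xg22 yg0 zg10) (kg xg22 yg0 zg11) (kg xg21 yg26 zg33) (kg xg20 yg20 zg49) (kg xg20 yg21 zg0) (kg xg20 yg21 zg1) (kg xg20 yg22 zg42) (kg xg22 yg0 zg22) (kg xg20 yg22 zg44) (kg xg22 yg0 zg23) (kg xg20 yg21 zg5) (kg xg20 yg21 zg6) (kg xg20 yg22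 zg30) (kg xg20 yg22 zg45) (kg xg20 yg21 zg15) (kg xg20 yg21 zg16) (kg xg20 yg21 zg17) (kg xg22 yg0 zg29) (kg xg22 yg0 zg30) (kg xg20 yg25 zg42) (kg xg20 yg25 zg41) (kg xg20 yg21 zg24) (kg xg20 yg21 zg25) (kg xg22 yg0 zg34) (kg xg22 yg0 zg35) (kg xg21 yg22 zg32) (kg xg21 yg25 zg18) (kg xg20 yg21 zg33) (kg xg20 yg21 zg34) (kg xg20 yg21 zg35) (kg xg20 yg25 zg30) (kg xg22 yg0 zg39) (kg xg22 yg0 zg40) (kg xg21 yg24 zg21) (kg xg20 yg22 zg37) (kg xg20 yg22 zg38) (kg xg21 yg23 zg34) (kg xg20 yg21 zg44) (kg xg20 yg21 zg45) (kg xg20 yg25 zg47) (kg xg20 yg24 zg30) (kg xg20 yg21 zg46) (kg xg22 yg0 zg47) (kg xg22 yg0 zg50) (kg xg22 yg1 zg1) (kg xg20 yg22 zg46) (kg xg20 yg22 zg47)) (@D3.rec (fun _ => Pt) (kg xg20 yg22 zg3) (kg xg21 yg25 zg11) (kg xg20 yg22 zg4) (kg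 xg20 yg22 zg5) (kg xg20 yg22 zg6) (kg xg22 yg1 zg5) (kg xg22 yg1 zg6) (kg xg21 yg26 zg31) (kg xg22 yg1 zg7) (kg xg20 yg22 zg8) (kg xg21 yg21 zg47) (kg xg21 yg21 zg20) (kg xg21 yg22 zg48) (kg xg21 yg22 zg49) (kg xg21 yg22 zg50) (kg xg21 yg23 zg35) (kg xg20 yg22 zg23) (kg xg20 yg22 zg24) (kg xg20 yg22 zg25) (kg xg21 yg19 zg21) (kg xg20 yg22 zg26) (kg xg20 yg22 zg27) (kg xg21 yg19 zg24) (kg xg21 yg19 zg25) (kg xg22 yg1 zg16) (kg xg22 yg1 zg17) (kg xg22 yg1 zg20) (kg xg22 yg1 zg21) (kg xg21 yg19 zg22) (kg xg22 yg1 zg23) (kg xg21 yg19 zg23) (kg xg22 yg0 zg26) (kg xg21 yg18 zg40) (kg xg22 yg0 zg28) (kg xg20 yg24 zg33) (kg xg21 yg18 zg38) (kg xg21 yg18 zg39) (kg xg22 yg0 zg45) (kg xg21 yg23 zg32) (kg xg21 yg19 zg26) (kg xg22 yg0 zg24) (kg xg22 yg0 zg27) (kg xg22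 yg1 zg4) (kg xg20 yg23 zg1) (kg xg20 yg23 zg3) (kg xg20 yg24 zg17) (kg xg20 yg25 zg48) (kg xg22 yg1 zg39) (kg xg20 yg25 zg6) (kg xg20 yg24 zg27) (kg xg20 yg23 zg6)) (@D3.rec (fun _ => Pt) (kg xg20 yg23 zg10) (kg xg22 yg1 zg43) (kg xg21 yg26 zg24) (kg xg20 yg24 zg15) (kg xg20 yg23 zg38) (kg xg20 yg25 zg4) (kg xg21 yg22 zg20) (kg xg21 yg0 zg20) (kg xg21 yg0 zg21) (kg xg20 yg23 zg25) (kg xg21 yg18 zg48) (kg xg21 yg20 zg23) (kg xg21 yg20 zg24) (kg xg20 yg23 zg42) (kg xg20 yg23 zg43) (kg xg20 yg24 zg2) (kg xg22 yg1 zg45) (kg xg21 yg23 zg5) (kg xg21 yg23 zg6) (kg xg21 yg23 zg7) (kg xg22 yg1 zg50) (kg xg21 yg26 zg22) (kg xg21 yg22 zg43) (kg xg21 yg22 zg44) (kg xg21 yg22 zg45) (kg xg21 yg1 zg27) (kg xg22 yg2 zg9) (kg xg20 yg23 zg49) (kg xg21 yg23 zg2) (kg xg22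 yg2 zg10) (kg xg20 yg24 zg3) (kg xg21 yg1 zg14) (kg xg21 yg1 zg15) (kg xg21 yg1 zg21) (kg xg21 yg1 zg20) (kg xg21 yg1 zg7) (kg xg21 yg1 zg8) (kg xg22 yg1 zg40) (kg xg21 yg21 zg3) (kg xg21 yg21 zg4) (kg xg21 yg21 zg7) (kg xg21 yg21 zg8) (kg xg20 yg24 zg37) (kg xg20 yg24 zg38) (kg xg20 yg24 zg39) (kg xg22 yg1 zg0) (kg xg20 yg24 zg40) (kg xg22 yg0 zg49) (kg xg21 yg20 zg37) (kg xg21 yg20 zg38) (kg xg21 yg20 zg39)) (@D3.rec (fun _ => Pt) (kg xg21 yg24 zg48) (kg xg21 yg19 zg3) (kg xg21 yg19 zg4) (kg xg21 yg19 zg5) (kg xg22 yg2 zg18) (kg xg22 yg2 zg19) (kg xg21 yg21 zg37) (kg xg21 yg21 zg38) (kg xg21 yg21 zg39) (kg xg21 yg21 zg40) (kg xg21 yg21 zg41) (kg xg21 yg21 zg43) (kg xg21 yg23 zg43) (kg xg21 yg23 zg44) (kg xg22 yg1 zg42) (kg xg22 yg1 zg41) (kg xg21 yg24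 zg1) (kg xg21 yg24 zg2) (kg xg21 yg24 zg3) (kg xg21 yg24 zg4) (kg xg21 yg23 zg31) (kg xg21 yg23 zg37) (kg xg21 yg21 zg36) (kg xg21 yg21 zg0) (kg xg21 yg23 zg38) (kg xg21 yg23 zg39) (kg xg21 yg19 zg8) (kg xg22 yg2 zg45) (kg xg20 yg25 zg20) (kg xg22 yg2 zg46) (kg xg20 yg25 zg23) (kg xg20 yg25 zg26) (kg xg21 yg0 zg41) (kg xg21 yg21 zg42) (kg xg21 yg21 zg44) (kg xg21 yg22 zg16) (kg xg20 yg25 zg44) (kg xg20 yg25 zg45) (kg xg22 yg0 zg32) (kg xg22 yg0 zg9) (kg xg22 yg2 zg49) (kg xg22 yg2 zg50) (kg xg22 yg0 zg48) (kg xg21 yg22 zg18) (kg xg21 yg23 zg18) (kg xg21 yg0 zg9) (kg xg21 yg0 zg10) (kg xg21 yg0 zg11) (kg xg21 yg23 zg22) (kg xg21 yg22 zg34) (kg xg21 yg22 zg35)) (@D3.rec (fun _ => Pt) (kg xg21 yg23 zg21) (kg xg21 yg23 zg19) (kg xg20 yg26 zg50) (kg xg21 yg0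 zg0) (kg xg21 yg0 zg1) (kg xg21 yg23 zg16) (kg xg21 yg22 zg42) (kg xg21 yg1 zg13) (kg xg21 yg23 zg15) (kg xg21 yg0 zg12) (kg xg21 yg25 zg39) (kg xg21 yg26 zg3) (kg xg21 yg23 zg14) (kg xg20 yg26 zg26) (kg xg21 yg23 zg9) (kg xg21 yg23 zg10) (kg xg21 yg24 zg13) (kg xg21 yg24 zg14) (kg xg21 yg24 zg17) (kg xg21 yg24 zg19) (kg xg21 yg22 zg31) (kg xg22 yg3 zg9) (kg xg22 yg3 zg10) (kg xg21 yg0 zg5) (kg xg21 yg0 zg6) (kg xg22 yg3 zg23) (kg xg22 yg3 zg24) (kg xg21 yg24 zg28) (kg xg22 yg3 zg3) (kg xg22 yg3 zg4) (kg xg21 yg20 zg21) (kg xg21 yg20 zg22) (kg xg21 yg25 zg19) (kg xg21 yg25 zg20) (kg xg22 yg1 zg46) (kg xg22 yg1 zg47) (kg xg21 yg26 zg21) (kg xg21 yg22 zg15) (kg xg21 yg26 zg29) (kg xg21 yg21 zg35) (kg xg21 yg21 zg11) (kg xg21 yg21 zg12) (kg xg21 yg21 zg18)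 (kg xg21 yg21 zg19) (kg xg21 yg21 zg46) (kg xg21 yg26 zg12) (kg xg21 yg26 zg13) (kg xg21 yg20 zg0) (kg xg21 yg20 zg8) (kg xg21 yg19 zg50) (kg xg21 yg19 zg47)) (@D3.rec (fun _ => Pt) (kg xg21 yg0 zg50) (kg xg21 yg1 zg0) (kg xg21 yg1 zg1) (kg xg21 yg1 zg2) (kg xg21 yg1 zg3) (kg xg22 yg3 zg41) (kg xg22 yg3 zg42) (kg xg22 yg3 zg43) (kg xg22 yg3 zg44) (kg xg21 yg20 zg42) (kg xg22 yg2 zg13) (kg xg22 yg2 zg14) (kg xg21 yg1 zg11) (kg xg21 yg1 zg12) (kg xg22 yg3 zg49) (kg xg22 yg3 zg12) (kg xg22 yg3 zg14) (kg xg22 yg2 zg11) (kg xg21 yg1 zg16) (kg xg22 yg2 zg12) (kg xg21 yg21 zg5) (kg xg21 yg1 zg26) (kg xg21 yg7 zg38) (kg xg21 yg8 zg0) (kg xg21 yg8 zg1) (kg xg21 yg8 zg2) (kg xg21 yg7 zg6) (kg xg21 yg10 zg27) (kg xg21 yg3 zg41) (kg xg21 yg9 zg35) (kg xg21 yg9 zg36)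 (kg xg21 yg9 zg37) (kg xg21 yg2 zg43) (kg xg21 yg2 zg44) (kg xg21 yg2 zg45) (kg xg22 yg4 zg13) (kg xg21 yg1 zg48) (kg xg21 yg4 zg12) (kg xg21 yg14 zg35) (kg xg21 yg14 zg36) (kg xg21 yg14 zg32) (kg xg22 yg4 zg18) (kg xg21 yg2 zg3) (kg xg21 yg10 zg36) (kg xg21 yg10 zg37) (kg xg21 yg10 zg38) (kg xg22 yg4 zg24) (kg xg21 yg2 zg6) (kg xg21 yg15 zg10) (kg xg22 yg4 zg26) (kg xg21 yg2 zg9)) (@D3.rec (fun _ => Pt) (kg xg21 yg10 zg44) (kg xg21 yg10 zg45) (kg xg21 yg10 zg46) (kg xg21 yg16 zg1) (kg xg21 yg16 zg2) (kg xg21 yg16 zg3) (kg xg22 yg4 zg34) (kg xg21 yg2 zg17) (kg xg21 yg16 zg26) (kg xg22 yg4 zg36) (kg xg21 yg2 zg20) (kg xg21 yg2 zg25) (kg xg21 yg2 zg26) (kg xg21 yg2 zg27) (kg xg21 yg5 zg14) (kg xg22 yg4 zg37) (kg xg22 yg4 zg38) (kg xg22 yg4 zg40) (kg xg21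 yg5 zg7) (kg xg21 yg5 zg8) (kg xg21 yg5 zg9) (kg xg21 yg14 zg19) (kg xg21 yg14 zg28) (kg xg21 yg14 zg30) (kg xg21 yg14 zg22) (kg xg21 yg14 zg23) (kg xg21 yg14 zg39) (kg xg21 yg11 zg6) (kg xg21 yg11 zg7) (kg xg21 yg4 zg43) (kg xg21 yg2 zg41) (kg xg22 yg4 zg9) (kg xg22 yg4 zg10) (kg xg22 yg5 zg5) (kg xg21 yg2 zg46) (kg xg22 yg5 zg6) (kg xg21 yg2 zg49) (kg xg21 yg3 zg4) (kg xg21 yg3 zg5) (kg xg21 yg6 zg4) (kg xg22 yg5 zg7) (kg xg21 yg5 zg5) (kg xg21 yg5 zg6) (kg xg21 yg5 zg48) (kg xg21 yg11 zg27) (kg xg21 yg11 zg28) (kg xg21 yg11 zg29) (kg xg21 yg17 zg50) (kg xg21 yg11 zg30) (kg xg21 yg11 zg31) (kg xg21 yg17 zg49)) (@D3.rec (fun _ => Pt) (kg xg21 yg17 zg47) (kg xg21 yg11 zg32) (kg xg21 yg5 zg10) (kg xg22 yg5 zg22) (kg xg21 yg3 zg20) (kg xg22 yg5 zg23) (kg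 xg21 yg3 zg23) (kg xg21 yg11 zg33) (kg xg21 yg17 zg48) (kg xg21 yg11 zg34) (kg xg21 yg4 zg39) (kg xg21 yg3 zg29) (kg xg21 yg11 zg35) (kg xg21 yg11 zg36) (kg xg21 yg3 zg40) (kg xg21 yg9 zg23) (kg xg21 yg9 zg24) (kg xg21 yg9 zg25) (kg xg22 yg4 zg5) (kg xg21 yg10 zg19) (kg xg21 yg10 zg20) (kg xg21 yg17 zg30) (kg xg21 yg17 zg31) (kg xg21 yg15 zg11) (kg xg21 yg15 zg12) (kg xg21 yg9 zg39) (kg xg21 yg9 zg40) (kg xg21 yg9 zg43) (kg xg21 yg9 zg20) (kg xg21 yg12 zg13) (kg xg21 yg12 zg14) (kg xg22 yg4 zg12) (kg xg21 yg12 zg3) (kg xg21 yg12 zg4) (kg xg21 yg12 zg5) (kg xg22 yg5 zg45) (kg xg21 yg4 zg15) (kg xg21 yg15 zg48) (kg xg21 yg15 zg49) (kg xg21 yg15 zg50) (kg xg22 yg5 zg50) (kg xg21 yg4 zg18) (kg xg21 yg18 zg9) (kg xg22 yg6 zg1) (kg xg21 yg4 zg21) (kg xg21 yg4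 zg26) (kg xg21 yg4 zg27) (kg xg21 yg4 zg28) (kg xg21 yg9 zg38) (kg xg22 yg6 zg2) (kg xg22 yg6 zg3)) (@D3.rec (fun _ => Pt) (kg xg21 yg16 zg23) (kg xg21 yg13 zg3) (kg xg21 yg5 zg11) (kg xg21 yg15 zg38) (kg xg21 yg15 zg39) (kg xg21 yg18 zg20) (kg xg21 yg12 zg6) (kg xg21 yg15 zg40) (kg xg21 yg15 zg41) (kg xg22 yg5 zg25) (kg xg22 yg5 zg20) (kg xg21 yg17 zg40) (kg xg21 yg17 zg41) (kg xg22 yg5 zg2) (kg xg22 yg4 zg30) (kg xg21 yg10 zg49) (kg xg22 yg6 zg24) (kg xg21 yg4 zg45) (kg xg21 yg17 zg42) (kg xg21 yg17 zg43) (kg xg21 yg14 zg11) (kg xg21 yg11 zg11) (kg xg21 yg5 zg2) (kg xg21 yg5 zg3) (kg xg21 yg5 zg4) (kg xg21 yg9 zg1) (kg xg22 yg6 zg29) (kg xg22 yg6 zg30) (kg xg22 yg6 zg33) (kg xg22 yg5 zg9) (kg xg22 yg4 zg43) (kg xg22 yg4 zg44) (kg xg22 yg6 zg9) (kg xg21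 yg5 zg15) (kg xg22 yg4 zg39) (kg xg21 yg17 zg39) (kg xg21 yg16 zg22) (kg xg21 yg16 zg6) (kg xg21 yg16 zg7) (kg xg21 yg16 zg8) (kg xg21 yg16 zg9) (kg xg21 yg16 zg10) (kg xg21 yg16 zg33) (kg xg21 yg16 zg11) (kg xg21 yg16 zg34) (kg xg21 yg10 zg35) (kg xg21 yg17 zg44) (kg xg21 yg14 zg10) (kg xg21 yg11 zg10) (kg xg21 yg8 zg8) (kg xg21 yg8 zg9)) (@D3.rec (fun _ => Pt) (kg xg21 yg8 zg10) (kg xg21 yg5 zg43) (kg xg21 yg5 zg44) (kg xg21 yg9 zg4) (kg xg21 yg9 zg5) (kg xg21 yg5 zg45) (kg xg22 yg7 zg2) (kg xg22 yg7 zg4) (kg xg22 yg7 zg6) (kg xg22 yg6 zg17) (kg xg21 yg10 zg28) (kg xg21 yg6 zg20) (kg xg21 yg5 zg50) (kg xg21 yg6 zg18) (kg xg22 yg5 zg8) (kg xg21 yg17 zg37) (kg xg21 yg16 zg35) (kg xg21 yg6 zg14) (kg xg21 yg16 zg43) (kg xg21 yg9 zg32) (kg xg21 yg15 zg6)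 (kg xg21 yg10 zg14) (kg xg21 yg10 zg15) (kg xg21 yg10 zg16) (kg xg21 yg10 zg8) (kg xg21 yg10 zg21) (kg xg21 yg10 zg22) (kg xg21 yg10 zg23) (kg xg21 yg9 zg11) (kg xg21 yg10 zg24) (kg xg21 yg12 zg48) (kg xg21 yg17 zg20) (kg xg21 yg13 zg29) (kg xg21 yg8 zg41) (kg xg21 yg16 zg49) (kg xg21 yg16 zg50) (kg xg21 yg9 zg16) (kg xg21 yg9 zg17) (kg xg21 yg9 zg21) (kg xg21 yg7 zg2) (kg xg21 yg9 zg12) (kg xg21 yg9 zg15) (kg xg21 yg17 zg6) (kg xg21 yg15 zg22) (kg xg21 yg15 zg23) (kg xg21 yg15 zg24) (kg xg22 yg7 zg27) (kg xg21 yg7 zg17) (kg xg21 yg14 zg12) (kg xg21 yg14 zg13) (kg xg21 yg14 zg14)) (@D3.rec (fun _ => Pt) (kg xg22 yg7 zg33) (kg xg21 yg7 zg20) (kg xg21 yg15 zg28) (kg xg22 yg7 zg35) (kg xg21 yg7 zg23) (kg xg21 yg15 zg17) (kg xg21 yg15 zg18) (kg xg21 yg15 zg19)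 (kg xg21 yg8 zg42) (kg xg21 yg17 zg14) (kg xg21 yg17 zg15) (kg xg21 yg9 zg41) (kg xg21 yg9 zg42) (kg xg21 yg10 zg6) (kg xg21 yg17 zg12) (kg xg21 yg17 zg8) (kg xg21 yg17 zg5) (kg xg21 yg7 zg50) (kg xg21 yg16 zg44) (kg xg21 yg17 zg1) (kg xg21 yg9 zg7) (kg xg21 yg17 zg0) (kg xg21 yg16 zg48) (kg xg22 yg4 zg3) (kg xg22 yg4 zg4) (kg xg21 yg11 zg9) (kg xg21 yg11 zg14) (kg xg21 yg11 zg15) (kg xg21 yg11 zg16) (kg xg22 yg7 zg0) (kg xg22 yg7 zg1) (kg xg21 yg16 zg20) (kg xg21 yg14 zg38) (kg xg22 yg8 zg6) (kg xg21 yg13 zg40) (kg xg21 yg14 zg15) (kg xg21 yg8 zg14) (kg xg21 yg16 zg21) (kg xg21 yg16 zg24) (kg xg21 yg16 zg25) (kg xg22 yg8 zg11) (kg xg22 yg8 zg13) (kg xg21 yg8 zg22) (kg xg21 yg16 zg12) (kg xg21 yg16 zg13) (kg xg22 yg8 zg19) (kg xg22 yg8 zg20) (kg xg21 yg12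 zg24) (kg xg21 yg8 zg27) (kg xg22 yg8 zg22) (kg xg21 yg8 zg30)) (@D3.rec (fun _ => Pt) (kg xg21 yg9 zg47) (kg xg21 yg16 zg16) (kg xg21 yg16 zg17) (kg xg21 yg16 zg18) (kg xg21 yg16 zg19) (kg xg21 yg10 zg47) (kg xg21 yg10 zg48) (kg xg21 yg11 zg12) (kg xg21 yg11 zg13) (kg xg21 yg10 zg25) (kg xg21 yg10 zg26) (kg xg21 yg9 zg10) (kg xg21 yg9 zg9) (kg xg21 yg17 zg16) (kg xg21 yg17 zg17) (kg xg22 yg6 zg31) (kg xg22 yg6 zg32) (kg xg21 yg17 zg18) (kg xg22 yg7 zg3) (kg xg21 yg17 zg19) (kg xg22 yg7 zg5) (kg xg21 yg13 zg37) (kg xg22 yg8 zg32) (kg xg22 yg7 zg16) (kg xg21 yg10 zg33) (kg xg21 yg10 zg34) (kg xg22 yg7 zg21) (kg xg22 yg7 zg23) (kg xg21 yg17 zg27) (kg xg22 yg5 zg27) (kg xg22 yg5 zg28) (kg xg21 yg10 zg7) (kg xg21 yg10 zg30) (kg xg21 yg10 zg11) (kg xg21 yg10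 zg10) (kg xg21 yg10 zg5) (kg xg22 yg4 zg6) (kg xg22 yg4 zg7) (kg xg22 yg6 zg4) (kg xg22 yg6 zg5) (kg xg22 yg4 zg8) (kg xg22 yg5 zg35) (kg xg22 yg7 zg40) (kg xg22 yg5 zg36) (kg xg22 yg7 zg42) (kg xg22 yg5 zg37) (kg xg22 yg7 zg43) (kg xg22 yg5 zg38) (kg xg21 yg16 zg0) (kg xg22 yg9 zg14) (kg xg22 yg8 zg23)) (@D3.rec (fun _ => Pt) (kg xg21 yg9 zg46) (kg xg22 yg9 zg16) (kg xg21 yg9 zg50) (kg xg22 yg9 zg17) (kg xg21 yg10 zg0) (kg xg21 yg10 zg2) (kg xg22 yg8 zg48) (kg xg22 yg7 zg13) (kg xg22 yg8 zg50) (kg xg22 yg7 zg11) (kg xg22 yg7 zg12) (kg xg21 yg14 zg1) (kg xg22 yg5 zg29) (kg xg22 yg5 zg30) (kg xg22 yg7 zg14) (kg xg22 yg7 zg15) (kg xg22 yg8 zg31) (kg xg22 yg8 zg33) (kg xg21 yg13 zg30) (kg xg21 yg17 zg32) (kg xg21 yg17 zg33) (kg xg22 yg8 zg44) (kg xg22 yg6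 zg49) (kg xg22 yg5 zg0) (kg xg22 yg4 zg19) (kg xg22 yg4 zg20) (kg xg22 yg9 zg34) (kg xg22 yg7 zg32) (kg xg22 yg4 zg23) (kg xg21 yg10 zg39) (kg xg22 yg9 zg35) (kg xg21 yg10 zg42) (kg xg22 yg4 zg27) (kg xg22 yg4 zg28) (kg xg22 yg4 zg29) (kg xg22 yg8 zg28) (kg xg22 yg6 zg22) (kg xg21 yg11 zg3) (kg xg21 yg11 zg4) (kg xg21 yg17 zg10) (kg xg21 yg11 zg5) (kg xg22 yg9 zg41) (kg xg22 yg9 zg43) (kg xg22 yg5 zg1) (kg xg22 yg6 zg50) (kg xg22 yg6 zg28) (kg xg22 yg8 zg29) (kg xg22 yg8 zg30) (kg xg22 yg7 zg49) (kg xg22 yg7 zg50) (kg xg21 yg11 zg20)) (@D3.rec (fun _ => Pt) (kg xg21 yg11 zg21) (kg xg22 yg9 zg50) (kg xg21 yg11 zg25) (kg xg21 yg17 zg11) (kg xg22 yg5 zg10) (kg xg22 yg5 zg11) (kg xg22 yg5 zg14) (kg xg22 yg5 zg15) (kg xg22 yg5 zg17) (kg xg22 yg5 zg19) (kg xg22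 yg5 zg24) (kg xg22 yg5 zg26) (kg xg21 yg17 zg45) (kg xg21 yg17 zg46) (kg xg21 yg11 zg44) (kg xg21 yg11 zg45) (kg xg21 yg11 zg46) (kg xg22 yg10 zg8) (kg xg22 yg10 zg9) (kg xg22 yg10 zg10) (kg xg22 yg9 zg5) (kg xg21 yg17 zg36) (kg xg21 yg15 zg21) (kg xg22 yg10 zg18) (kg xg21 yg15 zg2) (kg xg21 yg11 zg50) (kg xg22 yg5 zg41) (kg xg22 yg5 zg42) (kg xg22 yg6 zg12) (kg xg21 yg17 zg38) (kg xg22 yg10 zg23) (kg xg21 yg14 zg7) (kg xg21 yg12 zg9) (kg xg21 yg13 zg6) (kg xg22 yg5 zg39) (kg xg21 yg12 zg21) (kg xg21 yg12 zg22) (kg xg22 yg10 zg30) (kg xg22 yg8 zg21) (kg xg21 yg12 zg25) (kg xg21 yg12 zg19) (kg xg22 yg10 zg25) (kg xg22 yg10 zg34) (kg xg22 yg10 zg27) (kg xg22 yg8 zg18) (kg xg22 yg10 zg29) (kg xg21 yg12 zg23) (kg xg21 yg12 zg27) (kg xg21 yg12 zg32) (kg xg21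 yg12 zg33) (kg xg21 yg12 zg34))
def f_g_22 : D2 → D3 → Pt := @D2.rec (fun _ => D3 → Pt) (@D3.rec (fun _ => Pt) (kg xg21 yg12 zg35) (kg xg22 yg10 zg37) (kg xg22 yg10 zg38) (kg xg22 yg10 zg39) (kg xg22 yg10 zg40) (kg xg21 yg12 zg39) (kg xg21 yg12 zg40) (kg xg22 yg10 zg46) (kg xg22 yg10 zg47) (kg xg21 yg16 zg39) (kg xg21 yg13 zg4) (kg xg21 yg13 zg5) (kg xg21 yg12 zg50) (kg xg22 yg7 zg17) (kg xg21 yg13 zg0) (kg xg21 yg13 zg1) (kg xg21 yg13 zg2) (kg xg22 yg11 zg1) (kg xg22 yg11 zg2) (kg xg22 yg11 zg3) (kg xg22 yg11 zg0) (kg xg22 yg10 zg24) (kg xg21 yg13 zg11) (kg xg21 yg13 zg13) (kg xg21 yg14 zg40) (kg xg22 yg11 zg6) (kg xg21 yg14 zg31) (kg xg21 yg14 zg41) (kg xg21 yg14 zg33) (kg xg21 yg13 zg21) (kg xg21 yg13 zg22) (kg xg22 yg11 zg10) (kg xg21 yg16 zg38) (kg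 xg22 yg11 zg11) (kg xg21 yg13 zg27) (kg xg21 yg13 zg28) (kg xg22 yg11 zg13) (kg xg22 yg7 zg18) (kg xg22 yg7 zg19) (kg xg21 yg13 zg35) (kg xg21 yg13 zg36) (kg xg22 yg11 zg16) (kg xg22 yg11 zg17) (kg xg22 yg8 zg42) (kg xg22 yg8 zg38) (kg xg21 yg14 zg37) (kg xg22 yg8 zg4) (kg xg21 yg13 zg46) (kg xg21 yg16 zg42) (kg xg21 yg15 zg47) (kg xg21 yg13 zg47)) (@D3.rec (fun _ => Pt) (kg xg21 yg15 zg45) (kg xg21 yg13 zg48) (kg xg22 yg11 zg24) (kg xg22 yg11 zg26) (kg xg21 yg14 zg42) (kg xg21 yg14 zg5) (kg xg21 yg14 zg6) (kg xg21 yg14 zg8) (kg xg22 yg11 zg28) (kg xg22 yg10 zg22) (kg xg22 yg11 zg29) (kg xg22 yg6 zg26) (kg xg22 yg6 zg27) (kg xg22 yg7 zg28) (kg xg22 yg7 zg29) (kg xg22 yg8 zg5) (kg xg21 yg14 zg24) (kg xg21 yg14 zg25) (kg xg22 yg4 zg45) (kg xg22 yg4 zg46)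 (kg xg21 yg14 zg26) (kg xg21 yg14 zg27) (kg xg22 yg4 zg48) (kg xg21 yg14 zg29) (kg xg22 yg4 zg50) (kg xg22 yg11 zg35) (kg xg22 yg11 zg37) (kg xg22 yg11 zg39) (kg xg22 yg8 zg12) (kg xg22 yg11 zg40) (kg xg22 yg4 zg47) (kg xg22 yg11 zg7) (kg xg22 yg4 zg49) (kg xg22 yg10 zg44) (kg xg22 yg4 zg15) (kg xg22 yg11 zg9) (kg xg22 yg4 zg14) (kg xg22 yg8 zg2) (kg xg22 yg11 zg8) (kg xg21 yg14 zg47) (kg xg21 yg15 zg37) (kg xg21 yg16 zg15) (kg xg21 yg16 zg14) (kg xg21 yg15 zg1) (kg xg22 yg10 zg17) (kg xg21 yg15 zg16) (kg xg21 yg17 zg34) (kg xg21 yg17 zg35) (kg xg22 yg5 zg33) (kg xg22 yg5 zg34) (kg xg21 yg15 zg20)) (@D3.rec (fun _ => Pt) (kg xg22 yg12 zg3) (kg xg22 yg7 zg36) (kg xg22 yg7 zg37) (kg xg22 yg7 zg38) (kg xg22 yg6 zg23) (kg xg22 yg10 zg15) (kg xg22 yg7 zg24)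 (kg xg22 yg7 zg25) (kg xg22 yg12 zg13) (kg xg21 yg15 zg26) (kg xg21 yg15 zg29) (kg xg21 yg18 zg17) (kg xg21 yg18 zg19) (kg xg21 yg18 zg10) (kg xg21 yg18 zg11) (kg xg22 yg6 zg10) (kg xg22 yg6 zg13) (kg xg22 yg6 zg15) (kg xg21 yg16 zg4) (kg xg21 yg16 zg5) (kg xg22 yg11 zg25) (kg xg22 yg11 zg23) (kg xg22 yg5 zg46) (kg xg22 yg5 zg47) (kg xg22 yg4 zg31) (kg xg22 yg4 zg32) (kg xg22 yg12 zg16) (kg xg22 yg12 zg18) (kg xg22 yg6 zg42) (kg xg22 yg6 zg43) (kg xg22 yg6 zg44) (kg xg22 yg6 zg45) (kg xg22 yg6 zg46) (kg xg22 yg8 zg14) (kg xg22 yg12 zg4) (kg xg22 yg8 zg16) (kg xg22 yg8 zg24) (kg xg22 yg8 zg25) (kg xg22 yg8 zg26) (kg xg22 yg8 zg27) (kg xg22 yg6 zg41) (kg xg22 yg6 zg8) (kg xg22 yg8 zg7) (kg xg22 yg8 zg9) (kg xg22 yg12 zg35) (kg xg21 yg16 zg27) (kg xg21 yg16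 zg29) (kg xg22 yg6 zg47) (kg xg22 yg6 zg48) (kg xg21 yg16 zg40) (kg xg21 yg16 zg41)) (@D3.rec (fun _ => Pt) (kg xg22 yg10 zg49) (kg xg22 yg10 zg50) (kg xg22 yg12 zg37) (kg xg21 yg17 zg28) (kg xg21 yg17 zg29) (kg xg22 yg7 zg47) (kg xg22 yg7 zg20) (kg xg22 yg7 zg46) (kg xg22 yg7 zg22) (kg xg21 yg17 zg21) (kg xg21 yg17 zg22) (kg xg22 yg7 zg45) (kg xg21 yg18 zg15) (kg xg22 yg7 zg44) (kg xg21 yg18 zg16) (kg xg22 yg9 zg42) (kg xg22 yg7 zg39) (kg xg22 yg7 zg41) (kg xg22 yg8 zg34) (kg xg22 yg8 zg36) (kg xg22 yg8 zg39) (kg xg22 yg12 zg44) (kg xg22 yg12 zg46) (kg xg21 yg17 zg25) (kg xg21 yg17 zg26) (kg xg22 yg13 zg1) (kg xg22 yg12 zg40) (kg xg22 yg12 zg42) (kg xg22 yg5 zg31) (kg xg22 yg5 zg32) (kg xg22 yg9 zg25) (kg xg22 yg12 zg5) (kg xg22 yg6 zg18) (kg xg22 yg6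 zg20) (kg xg22 yg6 zg25) (kg xg22 yg10 zg6) (kg xg22 yg10 zg7) (kg xg22 yg5 zg18) (kg xg22 yg5 zg13) (kg xg22 yg5 zg16) (kg xg22 yg5 zg12) (kg xg21 yg18 zg5) (kg xg21 yg18 zg6) (kg xg21 yg18 zg7) (kg xg21 yg18 zg8) (kg xg22 yg13 zg14) (kg xg22 yg13 zg15) (kg xg22 yg13 zg16) (kg xg22 yg12 zg14) (kg xg21 yg18 zg14) (kg xg22 yg13 zg20)) (@D3.rec (fun _ => Pt) (kg xg22 yg12 zg47) (kg xg22 yg8 zg46) (kg xg22 yg6 zg11) (kg xg21 yg23 zg23) (kg xg21 yg23 zg24) (kg xg21 yg20 zg18) (kg xg21 yg24 zg36) (kg xg21 yg24 zg37) (kg xg21 yg24 zg40) (kg xg21 yg19 zg31) (kg xg21 yg19 zg32) (kg xg22 yg13 zg30) (kg xg21 yg20 zg31) (kg xg21 yg18 zg35) (kg xg22 yg1 zg36) (kg xg22 yg1 zg34) (kg xg22 yg13 zg35) (kg xg22 yg13 zg37) (kg xg21 yg18 zg41) (kg xg21 yg25 zg24) (kg xg21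 yg25 zg25) (kg xg22 yg13 zg43) (kg xg22 yg13 zg44) (kg xg21 yg25 zg28) (kg xg21 yg18 zg46) (kg xg22 yg13 zg46) (kg xg21 yg18 zg49) (kg xg21 yg25 zg32) (kg xg21 yg25 zg33) (kg xg21 yg25 zg34) (kg xg21 yg21 zg14) (kg xg22 yg2 zg24) (kg xg22 yg2 zg25) (kg xg22 yg14 zg3) (kg xg21 yg19 zg6) (kg xg22 yg14 zg4) (kg xg21 yg19 zg9) (kg xg21 yg19 zg15) (kg xg21 yg19 zg16) (kg xg21 yg21 zg34) (kg xg21 yg19 zg17) (kg xg22 yg14 zg5) (kg xg22 yg14 zg7) (kg xg21 yg21 zg30) (kg xg21 yg21 zg31) (kg xg22 yg1 zg18) (kg xg22 yg1 zg19) (kg xg22 yg1 zg30) (kg xg22 yg1 zg22) (kg xg22 yg1 zg32) (kg xg22 yg1 zg24)) (@D3.rec (fun _ => Pt) (kg xg21 yg25 zg23) (kg xg21 yg25 zg43) (kg xg21 yg21 zg13) (kg xg22 yg13 zg27) (kg xg22 yg14 zg19) (kg xg21 yg19 zg33) (kg xg21 yg19 zg35) (kg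 xg21 yg19 zg40) (kg xg21 yg22 zg14) (kg xg21 yg21 zg29) (kg xg21 yg26 zg4) (kg xg21 yg26 zg5) (kg xg22 yg3 zg40) (kg xg22 yg3 zg38) (kg xg21 yg26 zg6) (kg xg21 yg26 zg7) (kg xg22 yg3 zg39) (kg xg21 yg26 zg8) (kg xg22 yg3 zg37) (kg xg21 yg26 zg9) (kg xg21 yg21 zg10) (kg xg22 yg14 zg32) (kg xg21 yg20 zg3) (kg xg21 yg20 zg5) (kg xg21 yg26 zg10) (kg xg21 yg21 zg9) (kg xg21 yg26 zg11) (kg xg21 yg24 zg29) (kg xg21 yg24 zg30) (kg xg21 yg25 zg12) (kg xg21 yg25 zg13) (kg xg22 yg3 zg28) (kg xg22 yg3 zg29) (kg xg22 yg1 zg48) (kg xg22 yg1 zg49) (kg xg21 yg24 zg41) (kg xg21 yg24 zg43) (kg xg21 yg24 zg45) (kg xg21 yg24 zg47) (kg xg21 yg26 zg34) (kg xg22 yg13 zg29) (kg xg21 yg26 zg26) (kg xg21 yg26 zg27) (kg xg22 yg14 zg48) (kg xg22 yg14 zg25) (kg xg21 yg20 zg35) (kg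 xg22 yg2 zg22) (kg xg22 yg2 zg23) (kg xg22 yg15 zg2) (kg xg22 yg14 zg13) (kg xg21 yg20 zg40)) (@D3.rec (fun _ => Pt) (kg xg22 yg15 zg3) (kg xg21 yg20 zg43) (kg xg21 yg20 zg49) (kg xg21 yg20 zg50) (kg xg21 yg24 zg38) (kg xg21 yg24 zg39) (kg xg22 yg15 zg4) (kg xg22 yg15 zg6) (kg xg22 yg2 zg41) (kg xg21 yg21 zg32) (kg xg22 yg2 zg15) (kg xg22 yg4 zg2) (kg xg21 yg26 zg28) (kg xg22 yg2 zg16) (kg xg22 yg14 zg33) (kg xg22 yg2 zg17) (kg xg22 yg14 zg31) (kg xg21 yg22 zg9) (kg xg22 yg3 zg32) (kg xg22 yg14 zg18) (kg xg22 yg3 zg33) (kg xg22 yg13 zg50) (kg xg21 yg25 zg36) (kg xg22 yg2 zg4) (kg xg21 yg21 zg16) (kg xg22 yg3 zg34) (kg xg22 yg1 zg11) (kg xg22 yg1 zg12) (kg xg21 yg25 zg45) (kg xg21 yg21 zg26) (kg xg21 yg21 zg27) (kg xg21 yg24 zg15) (kg xg21 yg24 zg16) (kg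 xg21 yg21 zg28) (kg xg22 yg15 zg26) (kg xg22 yg15 zg28) (kg xg22 yg15 zg30) (kg xg22 yg13 zg36) (kg xg22 yg14 zg9) (kg xg22 yg14 zg11) (kg xg22 yg14 zg6) (kg xg22 yg2 zg40) (kg xg22 yg2 zg28) (kg xg22 yg2 zg29) (kg xg22 yg2 zg30) (kg xg22 yg2 zg31) (kg xg22 yg2 zg32) (kg xg22 yg2 zg47) (kg xg22 yg2 zg48) (kg xg21 yg25 zg22) (kg xg21 yg25 zg44)) (@D3.rec (fun _ => Pt) (kg xg21 yg23 zg29) (kg xg21 yg23 zg30) (kg xg21 yg22 zg6) (kg xg21 yg24 zg18) (kg xg21 yg22 zg7) (kg xg21 yg24 zg20) (kg xg21 yg22 zg8) (kg xg22 yg15 zg44) (kg xg22 yg15 zg46) (kg xg22 yg15 zg48) (kg xg22 yg15 zg15) (kg xg21 yg25 zg9) (kg xg21 yg25 zg10) (kg xg21 yg25 zg7) (kg xg21 yg25 zg14) (kg xg21 yg25 zg15) (kg xg21 yg24 zg23) (kg xg22 yg0 zg13) (kg xg22 yg0 zg37) (kg xg22 yg0 zg38)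 (kg xg22 yg3 zg6) (kg xg21 yg24 zg26) (kg xg22 yg3 zg8) (kg xg21 yg24 zg27) (kg xg22 yg2 zg6) (kg xg22 yg2 zg7) (kg xg22 yg16 zg15) (kg xg21 yg22 zg46) (kg xg22 yg1 zg13) (kg xg22 yg1 zg14) (kg xg22 yg16 zg21) (kg xg22 yg13 zg45) (kg xg21 yg25 zg27) (kg xg21 yg23 zg0) (kg xg22 yg16 zg22) (kg xg21 yg23 zg3) (kg xg22 yg2 zg1) (kg xg22 yg2 zg2) (kg xg22 yg2 zg3) (kg xg22 yg3 zg16) (kg xg21 yg24 zg42) (kg xg22 yg3 zg17) (kg xg21 yg24 zg44) (kg xg21 yg24 zg46) (kg xg22 yg3 zg13) (kg xg22 yg3 zg11) (kg xg22 yg3 zg7) (kg xg22 yg3 zg5) (kg xg22 yg13 zg23) (kg xg21 yg25 zg48) (kg xg21 yg25 zg49)) (@D3.rec (fun _ => Pt) (kg xg22 yg15 zg42) (kg xg22 yg15 zg43) (kg xg22 yg1 zg37) (kg xg22 yg16 zg36) (kg xg22 yg0 zg46) (kg xg22 yg1 zg15) (kg xg21 yg23 zg33) (kg xg22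 yg2 zg42) (kg xg22 yg16 zg39) (kg xg22 yg2 zg43) (kg xg22 yg16 zg42) (kg xg21 yg23 zg40) (kg xg22 yg1 zg28) (kg xg21 yg23 zg41) (kg xg22 yg2 zg33) (kg xg22 yg16 zg46) (kg xg22 yg2 zg35) (kg xg22 yg16 zg49) (kg xg21 yg26 zg44) (kg xg21 yg23 zg45) (kg xg21 yg23 zg46) (kg xg21 yg26 zg38) (kg xg21 yg23 zg49) (kg xg21 yg24 zg50) (kg xg22 yg2 zg36) (kg xg22 yg2 zg37) (kg xg22 yg2 zg38) (kg xg22 yg2 zg39) (kg xg21 yg25 zg35) (kg xg21 yg25 zg46) (kg xg21 yg25 zg47) (kg xg21 yg25 zg16) (kg xg21 yg24 zg22) (kg xg21 yg25 zg17) (kg xg22 yg3 zg18) (kg xg22 yg15 zg27) (kg xg22 yg3 zg19) (kg xg22 yg15 zg29) (kg xg22 yg0 zg44) (kg xg22 yg3 zg20) (kg xg22 yg15 zg45) (kg xg22 yg15 zg47) (kg xg22 yg0 zg43) (kg xg22 yg16 zg7) (kg xg21 yg25 zg21) (kg xg22 yg16 zg11) (kg xg22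 yg4 zg1) (kg xg22 yg14 zg34) (kg xg21 yg25 zg6) (kg xg22 yg14 zg35) (kg xg21 yg25 zg8)) (@D3.rec (fun _ => Pt) (kg xg22 yg13 zg24) (kg xg22 yg15 zg5) (kg xg22 yg13 zg25) (kg xg22 yg15 zg7) (kg xg22 yg13 zg26) (kg xg21 yg26 zg20) (kg xg22 yg14 zg39) (kg xg22 yg16 zg26) (kg xg22 yg14 zg40) (kg xg22 yg16 zg27) (kg xg22 yg14 zg41) (kg xg22 yg16 zg28) (kg xg22 yg14 zg42) (kg xg22 yg17 zg0) (kg xg21 yg24 zg49) (kg xg22 yg17 zg30) (kg xg21 yg25 zg1) (kg xg21 yg25 zg3) (kg xg22 yg16 zg4) (kg xg22 yg16 zg3) (kg xg22 yg16 zg5) (kg xg22 yg14 zg36) (kg xg22 yg16 zg6) (kg xg22 yg16 zg8) (kg xg22 yg17 zg6) (kg xg22 yg3 zg30) (kg xg22 yg15 zg40) (kg xg22 yg15 zg41) (kg xg22 yg14 zg17) (kg xg22 yg13 zg38) (kg xg22 yg17 zg42) (kg xg22 yg13 zg40) (kg xg22 yg16 zg20) (kg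 xg22 yg13 zg42) (kg xg21 yg25 zg26) (kg xg21 yg25 zg30) (kg xg22 yg13 zg47) (kg xg22 yg13 zg48) (kg xg22 yg13 zg49) (kg xg22 yg15 zg18) (kg xg22 yg15 zg20) (kg xg21 yg25 zg41) (kg xg22 yg3 zg15) (kg xg21 yg25 zg42) (kg xg22 yg17 zg48) (kg xg22 yg15 zg24) (kg xg22 yg15 zg25) (kg xg22 yg17 zg5) (kg xg22 yg16 zg31) (kg xg22 yg16 zg32) (kg xg21 yg26 zg1)) (@D3.rec (fun _ => Pt) (kg xg22 yg14 zg20) (kg xg22 yg14 zg22) (kg xg22 yg14 zg24) (kg xg22 yg14 zg26) (kg xg22 yg14 zg28) (kg xg22 yg14 zg30) (kg xg22 yg3 zg35) (kg xg22 yg3 zg36) (kg xg21 yg26 zg17) (kg xg21 yg26 zg18) (kg xg21 yg26 zg19) (kg xg22 yg18 zg7) (kg xg22 yg18 zg8) (kg xg22 yg18 zg9) (kg xg22 yg17 zg22) (kg xg22 yg2 zg5) (kg xg22 yg18 zg15) (kg xg22 yg1 zg44) (kg xg21 yg26 zg23) (kg xg22 yg14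 zg44) (kg xg22 yg15 zg11) (kg xg22 yg14 zg46) (kg xg22 yg1 zg9) (kg xg21 yg26 zg30) (kg xg22 yg0 zg21) (kg xg21 yg26 zg41) (kg xg22 yg18 zg21) (kg xg21 yg26 zg43) (kg xg22 yg16 zg50) (kg xg21 yg26 zg45) (kg xg21 yg26 zg37) (kg xg22 yg18 zg18) (kg xg22 yg16 zg45) (kg xg22 yg18 zg20) (kg xg21 yg26 zg42) (kg xg22 yg16 zg48) (kg xg22 yg18 zg23) (kg xg22 yg0 zg1) (kg xg22 yg0 zg2) (kg xg22 yg0 zg3) (kg xg22 yg0 zg4) (kg xg22 yg18 zg27) (kg xg22 yg18 zg28) (kg xg22 yg18 zg29) (kg xg22 yg1 zg33) (kg xg22 yg18 zg30) (kg xg22 yg0 zg7) (kg xg22 yg0 zg8) (kg xg22 yg18 zg35) (kg xg22 yg3 zg0) (kg xg22 yg3 zg1)) (@D3.rec (fun _ => Pt) (kg xg22 yg0 zg20) (kg xg22 yg0 zg17) (kg xg22 yg0 zg18) (kg xg22 yg0 zg19) (kg xg22 yg18 zg38) (kg xg22 yg18 zg17) (kg xg22 yg0 zg25)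 (kg xg22 yg1 zg31) (kg xg22 yg1 zg38) (kg xg22 yg1 zg35) (kg xg22 yg0 zg31) (kg xg22 yg0 zg33) (kg xg22 yg18 zg40) (kg xg22 yg0 zg36) (kg xg22 yg18 zg42) (kg xg22 yg16 zg9) (kg xg22 yg0 zg41) (kg xg22 yg0 zg42) (kg xg22 yg18 zg44) (kg xg22 yg17 zg13) (kg xg22 yg17 zg14) (kg xg22 yg17 zg10) (kg xg22 yg16 zg34) (kg xg22 yg2 zg21) (kg xg22 yg1 zg2) (kg xg22 yg2 zg20) (kg xg22 yg1 zg3) (kg xg22 yg18 zg50) (kg xg22 yg1 zg8) (kg xg22 yg1 zg10) (kg xg22 yg18 zg14) (kg xg22 yg15 zg23) (kg xg22 yg16 zg16) (kg xg22 yg16 zg35) (kg xg22 yg16 zg18) (kg xg22 yg1 zg25) (kg xg22 yg14 zg10) (kg xg22 yg1 zg26) (kg xg22 yg14 zg12) (kg xg22 yg1 zg27) (kg xg22 yg1 zg29) (kg xg22 yg14 zg15) (kg xg22 yg14 zg16) (kg xg22 yg19 zg2) (kg xg22 yg19 zg4) (kg xg22 yg19 zg6) (kg xg22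 yg16 zg41) (kg xg22 yg19 zg7) (kg xg22 yg14 zg14) (kg xg22 yg18 zg32) (kg xg22 yg13 zg31)) (@D3.rec (fun _ => Pt) (kg xg22 yg18 zg39) (kg xg22 yg13 zg33) (kg xg22 yg18 zg34) (kg xg22 yg2 zg0) (kg xg22 yg2 zg34) (kg xg22 yg3 zg31) (kg xg22 yg14 zg38) (kg xg22 yg16 zg23) (kg xg22 yg16 zg24) (kg xg22 yg16 zg1) (kg xg22 yg15 zg21) (kg xg22 yg16 zg12) (kg xg22 yg16 zg14) (kg xg22 yg2 zg8) (kg xg22 yg3 zg48) (kg xg22 yg15 zg12) (kg xg22 yg2 zg26) (kg xg22 yg18 zg49) (kg xg22 yg2 zg27) (kg xg22 yg14 zg49) (kg xg22 yg15 zg0) (kg xg22 yg14 zg0) (kg xg22 yg14 zg2) (kg xg22 yg19 zg26) (kg xg22 yg15 zg36) (kg xg22 yg15 zg37) (kg xg22 yg15 zg38) (kg xg22 yg16 zg43) (kg xg22 yg17 zg1) (kg xg22 yg17 zg2) (kg xg22 yg17 zg3) (kg xg22 yg17 zg4) (kg xg22 yg15 zg9) (kg xg22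 yg15 zg10) (kg xg22 yg16 zg37) (kg xg22 yg2 zg44) (kg xg22 yg15 zg39) (kg xg22 yg3 zg2) (kg xg22 yg18 zg37) (kg xg22 yg19 zg38) (kg xg22 yg3 zg26) (kg xg22 yg16 zg30) (kg xg22 yg3 zg27) (kg xg22 yg16 zg10) (kg xg22 yg3 zg21) (kg xg22 yg16 zg29) (kg xg22 yg3 zg22) (kg xg22 yg4 zg0) (kg xg22 yg16 zg25) (kg xg22 yg17 zg7) (kg xg22 yg17 zg11)) (@D3.rec (fun _ => Pt) (kg xg22 yg19 zg42) (kg xg22 yg3 zg25) (kg xg22 yg19 zg47) (kg xg22 yg19 zg40) (kg xg22 yg14 zg37) (kg xg22 yg17 zg35) (kg xg22 yg19 zg17) (kg xg22 yg15 zg16) (kg xg22 yg15 zg22) (kg xg22 yg18 zg6) (kg xg22 yg14 zg27) (kg xg22 yg14 zg29) (kg xg22 yg14 zg23) (kg xg22 yg14 zg21) (kg xg22 yg3 zg45) (kg xg22 yg3 zg46) (kg xg22 yg3 zg47) (kg xg22 yg20 zg4) (kg xg22 yg20 zg5) (kg xg22 yg19 zg24) (kg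 xg22 yg3 zg50) (kg xg22 yg19 zg43) (kg xg22 yg17 zg15) (kg xg22 yg7 zg48) (kg xg22 yg9 zg0) (kg xg22 yg9 zg2) (kg xg22 yg9 zg4) (kg xg22 yg5 zg3) (kg xg22 yg20 zg12) (kg xg22 yg5 zg40) (kg xg22 yg4 zg11) (kg xg22 yg11 zg50) (kg xg22 yg20 zg15) (kg xg22 yg12 zg1) (kg xg22 yg20 zg18) (kg xg22 yg4 zg16) (kg xg22 yg6 zg37) (kg xg22 yg4 zg17) (kg xg22 yg9 zg29) (kg xg22 yg20 zg22) (kg xg22 yg9 zg31) (kg xg22 yg20 zg25) (kg xg22 yg9 zg33) (kg xg22 yg4 zg21) (kg xg22 yg4 zg22) (kg xg22 yg7 zg31) (kg xg22 yg4 zg25) (kg xg22 yg9 zg36) (kg xg22 yg9 zg37) (kg xg22 yg9 zg38) (kg xg22 yg6 zg21)) (@D3.rec (fun _ => Pt) (kg xg22 yg12 zg21) (kg xg22 yg20 zg32) (kg xg22 yg12 zg22) (kg xg22 yg4 zg33) (kg xg22 yg4 zg35) (kg xg22 yg4 zg41) (kg xg22 yg6 zg40) (kg xg22 yg4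 zg42) (kg xg22 yg20 zg33) (kg xg22 yg6 zg38) (kg xg22 yg11 zg36) (kg xg22 yg6 zg39) (kg xg22 yg11 zg38) (kg xg22 yg5 zg49) (kg xg22 yg11 zg48) (kg xg22 yg11 zg41) (kg xg22 yg11 zg42) (kg xg22 yg9 zg28) (kg xg22 yg6 zg19) (kg xg22 yg5 zg4) (kg xg22 yg10 zg0) (kg xg22 yg13 zg13) (kg xg22 yg10 zg1) (kg xg22 yg13 zg12) (kg xg22 yg10 zg2) (kg xg22 yg5 zg44) (kg xg22 yg10 zg3) (kg xg22 yg13 zg10) (kg xg22 yg10 zg4) (kg xg22 yg13 zg11) (kg xg22 yg10 zg5) (kg xg22 yg6 zg16) (kg xg22 yg5 zg21) (kg xg22 yg6 zg14) (kg xg22 yg8 zg47) (kg xg22 yg8 zg49) (kg xg22 yg9 zg21) (kg xg22 yg13 zg4) (kg xg22 yg12 zg6) (kg xg22 yg9 zg6) (kg xg22 yg9 zg8) (kg xg22 yg9 zg10) (kg xg22 yg9 zg12) (kg xg22 yg20 zg11) (kg xg22 yg10 zg19) (kg xg22 yg21 zg12) (kg xg22 yg10 zg21) (kg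 xg22 yg20 zg47) (kg xg22 yg5 zg43) (kg xg22 yg12 zg19) (kg xg22 yg21 zg16)) (@D3.rec (fun _ => Pt) (kg xg22 yg12 zg20) (kg xg22 yg20 zg37) (kg xg22 yg5 zg48) (kg xg22 yg6 zg0) (kg xg22 yg6 zg6) (kg xg22 yg9 zg1) (kg xg22 yg6 zg7) (kg xg22 yg9 zg3) (kg xg22 yg21 zg18) (kg xg22 yg12 zg32) (kg xg22 yg12 zg33) (kg xg22 yg10 zg20) (kg xg22 yg12 zg15) (kg xg22 yg21 zg0) (kg xg22 yg21 zg1) (kg xg22 yg7 zg10) (kg xg22 yg13 zg7) (kg xg22 yg20 zg29) (kg xg22 yg9 zg39) (kg xg22 yg20 zg30) (kg xg22 yg9 zg40) (kg xg22 yg12 zg10) (kg xg22 yg13 zg8) (kg xg22 yg11 zg31) (kg xg22 yg9 zg45) (kg xg22 yg9 zg46) (kg xg22 yg6 zg34) (kg xg22 yg8 zg35) (kg xg22 yg6 zg35) (kg xg22 yg8 zg37) (kg xg22 yg6 zg36) (kg xg22 yg21 zg34) (kg xg22 yg21 zg36) (kg xg22 yg21 zg38) (kg xg22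 yg20 zg17) (kg xg22 yg20 zg34) (kg xg22 yg12 zg24) (kg xg22 yg12 zg25) (kg xg22 yg12 zg26) (kg xg22 yg12 zg36) (kg xg22 yg9 zg26) (kg xg22 yg9 zg27) (kg xg22 yg8 zg0) (kg xg22 yg8 zg1) (kg xg22 yg7 zg7) (kg xg22 yg8 zg40) (kg xg22 yg7 zg8) (kg xg22 yg8 zg41) (kg xg22 yg7 zg9) (kg xg22 yg21 zg49) (kg xg22 yg22 zg0)) (@D3.rec (fun _ => Pt) (kg xg22 yg21 zg25) (kg xg22 yg12 zg9) (kg xg22 yg21 zg26) (kg xg22 yg9 zg19) (kg xg22 yg9 zg18) (kg xg22 yg9 zg20) (kg xg22 yg9 zg22) (kg xg22 yg8 zg43) (kg xg22 yg9 zg23) (kg xg22 yg11 zg15) (kg xg22 yg12 zg43) (kg xg22 yg8 zg45) (kg xg22 yg12 zg11) (kg xg22 yg22 zg10) (kg xg22 yg12 zg12) (kg xg22 yg7 zg26) (kg xg22 yg11 zg32) (kg xg22 yg22 zg14) (kg xg22 yg11 zg34) (kg xg22 yg20 zg26) (kg xg22 yg9 zg32) (kg xg22 yg7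 zg30) (kg xg22 yg7 zg34) (kg xg22 yg12 zg7) (kg xg22 yg12 zg8) (kg xg22 yg12 zg48) (kg xg22 yg9 zg7) (kg xg22 yg9 zg9) (kg xg22 yg9 zg11) (kg xg22 yg12 zg45) (kg xg22 yg12 zg41) (kg xg22 yg9 zg48) (kg xg22 yg9 zg49) (kg xg22 yg21 zg48) (kg xg22 yg11 zg22) (kg xg22 yg11 zg33) (kg xg22 yg8 zg3) (kg xg22 yg12 zg34) (kg xg22 yg22 zg26) (kg xg22 yg8 zg8) (kg xg22 yg22 zg28) (kg xg22 yg11 zg46) (kg xg22 yg8 zg10) (kg xg22 yg12 zg27) (kg xg22 yg22 zg32) (kg xg22 yg10 zg32) (kg xg22 yg8 zg15) (kg xg22 yg22 zg34) (kg xg22 yg10 zg35) (kg xg22 yg8 zg17) (kg xg22 yg10 zg28)) (@D3.rec (fun _ => Pt) (kg xg22 yg9 zg13) (kg xg22 yg12 zg28) (kg xg22 yg12 zg29) (kg xg22 yg12 zg30) (kg xg22 yg12 zg31) (kg xg22 yg9 zg47) (kg xg22 yg9 zg24) (kg xg22 yg12 zg49) (kg xg22 yg21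 zg35) (kg xg22 yg21 zg37) (kg xg22 yg11 zg21) (kg xg22 yg12 zg50) (kg xg22 yg21 zg50) (kg xg22 yg11 zg19) (kg xg22 yg11 zg20) (kg xg22 yg13 zg22) (kg xg22 yg21 zg2) (kg xg22 yg20 zg8) (kg xg22 yg21 zg19) (kg xg22 yg20 zg9) (kg xg22 yg21 zg20) (kg xg22 yg20 zg10) (kg xg22 yg10 zg14) (kg xg22 yg21 zg6) (kg xg22 yg22 zg18) (kg xg22 yg21 zg7) (kg xg22 yg22 zg19) (kg xg22 yg21 zg8) (kg xg22 yg22 zg20) (kg xg22 yg21 zg9) (kg xg22 yg9 zg15) (kg xg22 yg22 zg5) (kg xg22 yg21 zg3) (kg xg22 yg22 zg6) (kg xg22 yg22 zg39) (kg xg22 yg13 zg5) (kg xg22 yg21 zg47) (kg xg22 yg20 zg40) (kg xg22 yg20 zg41) (kg xg22 yg20 zg19) (kg xg22 yg22 zg13) (kg xg22 yg20 zg21) (kg xg22 yg9 zg30) (kg xg22 yg22 zg4) (kg xg22 yg20 zg24) (kg xg22 yg20 zg27) (kg xg22 yg20 zg28) (kg xg22 yg21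 zg29) (kg xg22 yg9 zg44) (kg xg22 yg21 zg33) (kg xg22 yg22 zg38)) (@D3.rec (fun _ => Pt) (kg xg22 yg22 zg21) (kg xg22 yg20 zg42) (kg xg22 yg20 zg44) (kg xg22 yg20 zg46) (kg xg22 yg20 zg48) (kg xg22 yg20 zg50) (kg xg22 yg13 zg9) (kg xg22 yg10 zg11) (kg xg22 yg10 zg12) (kg xg22 yg10 zg13) (kg xg22 yg23 zg21) (kg xg22 yg23 zg22) (kg xg22 yg23 zg0) (kg xg22 yg23 zg1) (kg xg22 yg11 zg30) (kg xg22 yg10 zg16) (kg xg22 yg21 zg10) (kg xg22 yg11 zg5) (kg xg22 yg10 zg31) (kg xg22 yg22 zg33) (kg xg22 yg10 zg33) (kg xg22 yg10 zg26) (kg xg22 yg22 zg35) (kg xg22 yg10 zg36) (kg xg22 yg23 zg26) (kg xg22 yg22 zg31) (kg xg22 yg23 zg28) (kg xg22 yg10 zg41) (kg xg22 yg10 zg42) (kg xg22 yg10 zg43) (kg xg22 yg10 zg45) (kg xg22 yg23 zg31) (kg xg22 yg11 zg49) (kg xg22 yg23 zg32)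 (kg xg22 yg12 zg2) (kg xg22 yg10 zg48) (kg xg22 yg23 zg36) (kg xg22 yg12 zg38) (kg xg22 yg11 zg4) (kg xg22 yg12 zg0) (kg xg22 yg11 zg12) (kg xg22 yg23 zg38) (kg xg22 yg11 zg14) (kg xg22 yg22 zg7) (kg xg22 yg11 zg18) (kg xg22 yg23 zg39) (kg xg22 yg22 zg45) (kg xg22 yg22 zg42) (kg xg22 yg22 zg43) (kg xg22 yg12 zg17) (kg xg22 yg11 zg27)) (@D3.rec (fun _ => Pt) (kg xg22 yg21 zg32) (kg xg22 yg22 zg11) (kg xg22 yg11 zg43) (kg xg22 yg20 zg35) (kg xg22 yg11 zg44) (kg xg22 yg20 zg36) (kg xg22 yg11 zg45) (kg xg22 yg11 zg47) (kg xg22 yg20 zg39) (kg xg22 yg23 zg43) (kg xg22 yg23 zg45) (kg xg22 yg22 zg25) (kg xg22 yg22 zg27) (kg xg22 yg20 zg38) (kg xg22 yg23 zg33) (kg xg22 yg20 zg13) (kg xg22 yg23 zg35) (kg xg22 yg13 zg6) (kg xg22 yg21 zg5) (kg xg22 yg22 zg16) (kg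 xg22 yg22 zg2) (kg xg22 yg21 zg30) (kg xg22 yg21 zg31) (kg xg22 yg22 zg9) (kg xg22 yg13 zg19) (kg xg22 yg21 zg23) (kg xg22 yg12 zg23) (kg xg22 yg21 zg14) (kg xg22 yg20 zg31) (kg xg22 yg24 zg3) (kg xg22 yg21 zg44) (kg xg22 yg21 zg45) (kg xg22 yg22 zg29) (kg xg22 yg22 zg36) (kg xg22 yg22 zg37) (kg xg22 yg21 zg22) (kg xg22 yg22 zg23) (kg xg22 yg21 zg46) (kg xg22 yg12 zg39) (kg xg22 yg23 zg37) (kg xg22 yg13 zg3) (kg xg22 yg22 zg8) (kg xg22 yg13 zg0) (kg xg22 yg13 zg21) (kg xg22 yg22 zg17) (kg xg22 yg22 zg40) (kg xg22 yg24 zg9) (kg xg22 yg13 zg2) (kg xg22 yg24 zg8) (kg xg22 yg21 zg4) (kg xg22 yg21 zg27)) (@D3.rec (fun _ => Pt) (kg xg22 yg23 zg20) (kg xg22 yg20 zg49) (kg xg22 yg20 zg43) (kg xg22 yg20 zg45) (kg xg22 yg13 zg17) (kg xg22 yg13 zg18) (kg xg22 yg24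 zg12) (kg xg22 yg22 zg46) (kg xg22 yg17 zg17) (kg xg22 yg17 zg19) (kg xg22 yg17 zg21) (kg xg22 yg14 zg43) (kg xg22 yg13 zg28) (kg xg22 yg19 zg15) (kg xg22 yg24 zg18) (kg xg22 yg13 zg32) (kg xg22 yg24 zg20) (kg xg22 yg15 zg34) (kg xg22 yg13 zg34) (kg xg22 yg17 zg39) (kg xg22 yg24 zg24) (kg xg22 yg17 zg41) (kg xg22 yg13 zg39) (kg xg22 yg24 zg26) (kg xg22 yg17 zg44) (kg xg22 yg13 zg41) (kg xg22 yg16 zg19) (kg xg22 yg17 zg45) (kg xg22 yg17 zg46) (kg xg22 yg15 zg17) (kg xg22 yg15 zg19) (kg xg22 yg19 zg28) (kg xg22 yg14 zg1) (kg xg22 yg14 zg8) (kg xg22 yg15 zg35) (kg xg22 yg19 zg3) (kg xg22 yg19 zg5) (kg xg22 yg15 zg1) (kg xg22 yg19 zg13) (kg xg22 yg19 zg8) (kg xg22 yg17 zg37) (kg xg22 yg17 zg38) (kg xg22 yg18 zg1) (kg xg22 yg20 zg2) (kg xg22 yg18 zg2) (kg xg22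 yg20 zg3) (kg xg22 yg18 zg3) (kg xg22 yg14 zg47) (kg xg22 yg18 zg4) (kg xg22 yg20 zg1) (kg xg22 yg18 zg5)) (@D3.rec (fun _ => Pt) (kg xg22 yg15 zg13) (kg xg22 yg15 zg14) (kg xg22 yg17 zg16) (kg xg22 yg17 zg32) (kg xg22 yg19 zg49) (kg xg22 yg19 zg18) (kg xg22 yg17 zg23) (kg xg22 yg17 zg25) (kg xg22 yg17 zg27) (kg xg22 yg17 zg29) (kg xg22 yg18 zg16) (kg xg22 yg24 zg40) (kg xg22 yg14 zg45) (kg xg22 yg24 zg41) (kg xg22 yg19 zg27) (kg xg22 yg24 zg33) (kg xg22 yg14 zg50) (kg xg22 yg24 zg34) (kg xg22 yg15 zg8) (kg xg22 yg17 zg18) (kg xg22 yg17 zg20) (kg xg22 yg25 zg1) (kg xg22 yg19 zg35) (kg xg22 yg19 zg25) (kg xg22 yg24 zg44) (kg xg22 yg16 zg0) (kg xg22 yg16 zg2) (kg xg22 yg19 zg50) (kg xg22 yg24 zg29) (kg xg22 yg17 zg47) (kg xg22 yg19 zg21) (kg xg22 yg19 zg22)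 (kg xg22 yg19 zg0) (kg xg22 yg17 zg49) (kg xg22 yg15 zg31) (kg xg22 yg17 zg8) (kg xg22 yg15 zg32) (kg xg22 yg17 zg9) (kg xg22 yg15 zg33) (kg xg22 yg25 zg10) (kg xg22 yg25 zg12) (kg xg22 yg24 zg17) (kg xg22 yg24 zg19) (kg xg22 yg24 zg31) (kg xg22 yg19 zg30) (kg xg22 yg19 zg31) (kg xg22 yg19 zg37) (kg xg22 yg17 zg36) (kg xg22 yg16 zg33) (kg xg22 yg15 zg49) (kg xg22 yg17 zg12)) (@D3.rec (fun _ => Pt) (kg xg22 yg15 zg50) (kg xg22 yg25 zg18) (kg xg22 yg19 zg20) (kg xg22 yg25 zg5) (kg xg22 yg17 zg43) (kg xg22 yg17 zg31) (kg xg22 yg17 zg33) (kg xg22 yg18 zg43) (kg xg22 yg19 zg41) (kg xg22 yg19 zg23) (kg xg22 yg16 zg13) (kg xg22 yg19 zg1) (kg xg22 yg24 zg25) (kg xg22 yg17 zg40) (kg xg22 yg16 zg17) (kg xg22 yg24 zg27) (kg xg22 yg19 zg19) (kg xg22 yg19 zg44) (kg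 xg22 yg17 zg24) (kg xg22 yg17 zg26) (kg xg22 yg17 zg28) (kg xg22 yg18 zg0) (kg xg22 yg25 zg16) (kg xg22 yg19 zg36) (kg xg22 yg25 zg32) (kg xg22 yg19 zg11) (kg xg22 yg16 zg38) (kg xg22 yg19 zg12) (kg xg22 yg16 zg40) (kg xg22 yg19 zg32) (kg xg22 yg25 zg35) (kg xg22 yg18 zg25) (kg xg22 yg16 zg44) (kg xg22 yg18 zg19) (kg xg22 yg16 zg47) (kg xg22 yg18 zg22) (kg xg22 yg19 zg33) (kg xg22 yg19 zg34) (kg xg22 yg17 zg50) (kg xg22 yg17 zg34) (kg xg22 yg19 zg45) (kg xg22 yg25 zg11) (kg xg22 yg18 zg47) (kg xg22 yg18 zg48) (kg xg22 yg25 zg17) (kg xg22 yg18 zg46) (kg xg22 yg20 zg7) (kg xg22 yg24 zg45) (kg xg22 yg24 zg13) (kg xg22 yg25 zg2) (kg xg22 yg24 zg14)) (@D3.rec (fun _ => Pt) (kg xg22 yg18 zg12) (kg xg22 yg18 zg13) (kg xg22 yg25 zg27) (kg xg22 yg24 zg46) (kg xg22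 yg25 zg28) (kg xg22 yg24 zg47) (kg xg22 yg25 zg22) (kg xg22 yg25 zg23) (kg xg22 yg25 zg15) (kg xg22 yg24 zg36) (kg xg22 yg24 zg21) (kg xg22 yg25 zg21) (kg xg22 yg24 zg23) (kg xg22 yg24 zg28) (kg xg22 yg25 zg7) (kg xg22 yg25 zg9) (kg xg22 yg25 zg29) (kg xg22 yg24 zg37) (kg xg22 yg24 zg39) (kg xg22 yg24 zg43) (kg xg22 yg20 zg0) (kg xg22 yg18 zg10) (kg xg22 yg18 zg11) (kg xg22 yg25 zg50) (kg xg22 yg25 zg43) (kg xg22 yg24 zg48) (kg xg22 yg18 zg24) (kg xg22 yg25 zg36) (kg xg22 yg18 zg26) (kg xg22 yg25 zg34) (kg xg22 yg26 zg2) (kg xg22 yg18 zg31) (kg xg22 yg18 zg33) (kg xg22 yg19 zg14) (kg xg22 yg26 zg3) (kg xg22 yg19 zg16) (kg xg22 yg18 zg36) (kg xg22 yg19 zg39) (kg xg22 yg18 zg41) (kg xg22 yg18 zg45) (kg xg22 yg25 zg40) (kg xg22 yg25 zg39) (kg xg22 yg25 zg25)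 (kg xg22 yg19 zg9) (kg xg22 yg24 zg32) (kg xg22 yg19 zg10) (kg xg22 yg24 zg35) (kg xg22 yg26 zg7) (kg xg22 yg25 zg31) (kg xg22 yg24 zg15) (kg xg22 yg26 zg4)) (@D3.rec (fun _ => Pt) (kg xg22 yg25 zg19) (kg xg22 yg25 zg8) (kg xg22 yg25 zg24) (kg xg22 yg19 zg29) (kg xg22 yg24 zg50) (kg xg22 yg24 zg30) (kg xg22 yg25 zg37) (kg xg22 yg25 zg3) (kg xg22 yg19 zg48) (kg xg22 yg19 zg46) (kg xg22 yg24 zg42) (kg xg22 yg24 zg38) (kg xg22 yg20 zg6) (kg xg22 yg22 zg48) (kg xg22 yg22 zg50) (kg xg22 yg23 zg49) (kg xg22 yg26 zg14) (kg xg22 yg21 zg41) (kg xg22 yg20 zg14) (kg xg22 yg21 zg42) (kg xg22 yg20 zg16) (kg xg22 yg23 zg10) (kg xg22 yg26 zg17) (kg xg22 yg23 zg12) (kg xg22 yg20 zg20) (kg xg22 yg22 zg12) (kg xg22 yg20 zg23) (kg xg22 yg22 zg15) (kg xg22 yg23 zg13) (kg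 xg22 yg21 zg28) (kg xg22 yg24 zg5) (kg xg22 yg21 zg43) (kg xg22 yg23 zg44) (kg xg22 yg21 zg15) (kg xg22 yg21 zg17) (kg xg22 yg23 zg46) (kg xg22 yg23 zg9) (kg xg22 yg23 zg17) (kg xg22 yg24 zg11) (kg xg22 yg23 zg18) (kg xg22 yg21 zg11) (kg xg22 yg21 zg13) (kg xg22 yg24 zg10) (kg xg22 yg23 zg19) (kg xg22 yg21 zg24) (kg xg22 yg22 zg47) (kg xg22 yg23 zg3) (kg xg22 yg23 zg5) (kg xg22 yg23 zg25) (kg xg22 yg26 zg25) (kg xg22 yg24 zg4)) (@D3.rec (fun _ => Pt) (kg xg22 yg26 zg21) (kg xg22 yg21 zg21) (kg xg22 yg22 zg49) (kg xg22 yg24 zg7) (kg xg22 yg26 zg26) (kg xg22 yg22 zg3) (kg xg22 yg26 zg19) (kg xg22 yg23 zg14) (kg xg22 yg24 zg1) (kg xg22 yg23 zg15) (kg xg22 yg21 zg39) (kg xg22 yg22 zg41) (kg xg22 yg21 zg40) (kg xg22 yg26 zg34) (kg xg22 yg26 zg13) (kg xg22 yg23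 zg8) (kg xg22 yg22 zg22) (kg xg22 yg22 zg44) (kg xg22 yg22 zg1) (kg xg22 yg24 zg0) (kg xg22 yg26 zg31) (kg xg22 yg23 zg11) (kg xg22 yg23 zg6) (kg xg22 yg23 zg7) (kg xg22 yg24 zg2) (kg xg22 yg23 zg42) (kg xg22 yg26 zg18) (kg xg22 yg23 zg2) (kg xg22 yg23 zg4) (kg xg22 yg23 zg16) (kg xg22 yg26 zg40) (kg xg22 yg23 zg48) (kg xg22 yg22 zg24) (kg xg22 yg26 zg41) (kg xg22 yg23 zg29) (kg xg22 yg22 zg30) (kg xg22 yg23 zg27) (kg xg22 yg24 zg6) (kg xg22 yg26 zg33) (kg xg22 yg23 zg41) (kg xg22 yg23 zg40) (kg xg22 yg26 zg30) (kg xg22 yg26 zg11) (kg xg22 yg23 zg24) (kg xg22 yg26 zg38) (kg xg22 yg26 zg27) (kg xg22 yg26 zg22) (kg xg22 yg26 zg36) (kg xg22 yg26 zg16) (kg xg22 yg26 zg24) (kg xg22 yg23 zg23)) (@D3.rec (fun _ => Pt) (kg xg22 yg26 zg44) (kg xg22 yg26 zg42) (kg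 xg22 yg23 zg30) (kg xg22 yg23 zg34) (kg xg22 yg23 zg50) (kg xg22 yg26 zg43) (kg xg22 yg26 zg20) (kg xg22 yg23 zg47) (kg xg22 yg26 zg39) (kg xg22 yg26 zg32) (kg xg22 yg26 zg23) (kg xg22 yg25 zg42) (kg xg22 yg26 zg46) (kg xg22 yg25 zg14) (kg xg22 yg24 zg16) (kg xg22 yg26 zg47) (kg xg22 yg25 zg48) (kg xg22 yg24 zg22) (kg xg22 yg25 zg26) (kg xg22 yg25 zg6) (kg xg22 yg26 zg6) (kg xg22 yg25 zg0) (kg xg22 yg25 zg46) (kg xg22 yg26 zg10) (kg xg22 yg25 zg49) (kg xg22 yg24 zg49) (kg xg22 yg25 zg4) (kg xg22 yg25 zg45) (kg xg22 yg26 zg50) (kg xg22 yg26 zg49) (kg xg22 yg25 zg41) (kg xg22 yg25 zg20) (kg xg22 yg26 zg9) (kg xg22 yg25 zg38) (kg xg22 yg25 zg13) (kg xg22 yg26 zg45) (kg xg22 yg25 zg47) (kg xg22 yg26 zg48) (kg xg22 yg25 zg44) (kg xg22 yg26 zg8) (kg xg22 yg25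 zg30) (kg xg22 yg25 zg33) (kg xg22 yg26 zg1) (kg xg22 yg26 zg5) (kg xg22 yg26 zg0) (kg xg22 yg26 zg35) (kg xg22 yg26 zg12) (kg xg22 yg26 zg15) (kg xg22 yg26 zg37) (kg xg22 yg26 zg29) (kg xg22 yg26 zg28))
def f_g : Pt → Pt := @Pt.rec (fun _ => Pt) (@D1.rec (fun _ => D2 → D3 → Pt) f_g_0 f_g_1 f_g_2 f_g_3 f_g_4 f_g_5 f_g_6 f_g_7 f_g_8 f_g_9 f_g_10 f_g_11 f_g_12 f_g_13 f_g_14 f_g_15 f_g_16 f_g_17 f_g_18 f_g_19 f_g_20 f_g_21 f_g_22)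
def fi_g : Pt → Pt := f_g

theorem inv_chk_g : chkInv allPts beqPt f_g fi_g = true := by decide +kernel

end

end Cfsg.Agent.Helper28.S1689
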