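import Cfsg.Agent.Lib.Helper28.S1689.Defs

set_option autoImplicit false
set_option maxRecDepth 100000
set_option linter.all false

namespace Cfsg.Agent.Helper28.S1689

open Cfsg.Agent.Helper28
open Cfsg.Spor.Fi23 (Gen)

noncomputable section

abbrev kh := Pt.mk
abbrev xh0 := D1.c0
abbrev xh1 := D1.c1
abbrev xh2 := D1.c2
abbrev xh3 := D1.c3
abbrev xh4 := D1.c4
abbrev xh5 := D1.c5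
abbrev xh6 := D1.c6
abbrev xh7 := D1.c7
abbrev xh8 := D1.c8
abbrev xh9 := D1.c9
abbrev xh10 := D1.c10
abbrev xh11 := D1.c11
abbrev xh12 := D1.c12
abbrev xh13 := D1.c13
abbrev xh14 := D1.c14
abbrev xh15 := D1.c15
abbrev xh16 := D1.c16
abbrev xh17 := D1.c17
abbrev xh18 := D1.c18
abbrev xh19 := D1.c19
abbrev xh20 := D1.c20
abbrev xh21 := D1.c21
abbrev xh22 := D1.c22
abbrev yh0 := D2.c0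
abbrev yh1 := D2.c1
abbrev yh2 := D2.c2
abbrev yh3 := D2.c3
abbrev yh4 := D2.c4
abbrev yh5 := D2.c5
abbrev yh6 := D2.c6
abbrev yh7 := D2.c7
abbrev yh8 := D2.c8
abbrev yh9 := D2.c9
abbrev yh10 := D2.c10
abbrev yh11 := D2.c11
abbrev yh12 := D2.c12
abbrev yh13 := D2.c13
abbrev yh14 := D2.c14
abbrev yh15 := D2.c15
abbrev yh16 := D2.c16
abbrev yh17 := D2.c17
abbrev yh18 := D2.c18
abbrev yh19 := D2.c19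
abbrev yh20 := D2.c20
abbrev yh21 := D2.c21
abbrev yh22 := D2.c22
abbrev yh23 := D2.c23
abbrev yh24 := D2.c24
abbrev yh25 := D2.c25
abbrev yh26 := D2.c26
abbrev zh0 := D3.c0
abbrev zh1 := D3.c1
abbrev zh2 := D3.c2
abbrev zh3 := D3.c3
abbrev zh4 := D3.c4
abbrev zh5 := D3.c5
abbrev zh6 := D3.c6
abbrev zh7 := D3.c7
abbrev zh8 := D3.c8
abbrev zh9 := D3.c9
abbrev zh10 := D3.c10
abbrev zh11 := D3.c11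
abbrev zh12 := D3.c12
abbrev zh13 := D3.c13
abbrev zh14 := D3.c14
abbrev zh15 := D3.c15
abbrev zh16 := D3.c16
abbrev zh17 := D3.c17
abbrev zh18 := D3.c18
abbrev zh19 := D3.c19
abbrev zh20 := D3.c20
abbrev zh21 := D3.c21
abbrev zh22 := D3.c22
abbrev zh23 := D3.c23
abbrev zh24 := D3.c24
abbrev zh25 := D3.c25
abbrev zh26 := D3.c26
abbrev zh27 := D3.c27
abbrev zh28 := D3.c28
abbrev zh29 := D3.c29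
abbrev zh30 := D3.c30
abbrev zh31 := D3.c31
abbrev zh32 := D3.c32
abbrev zh33 := D3.c33
abbrev zh34 := D3.c34
abbrev zh35 := D3.c35
abbrev zh36 := D3.c36
abbrev zh37 := D3.c37
abbrev zh38 := D3.c38
abbrev zh39 := D3.c39
abbrev zh40 := D3.c40
abbrev zh41 := D3.c41
abbrev zh42 := D3.c42
abbrev zh43 := D3.c43
abbrev zh44 := D3.c44
abbrev zh45 := D3.c45
abbrev zh46 := D3.c46
abbrev zh47 := D3.c47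
abbrev zh48 := D3.c48
abbrev zh49 := D3.c49
abbrev zh50 := D3.c50
def f_h_0 : D2 → D3 → Pt := @D2.rec (fun _ => D3 → Pt) (@D3.rec (fun _ => Pt) (kh xh0 yh0 zh0) (kh xh0 yh0 zh1) (kh xh0 yh0 zh2) (kh xh0 yh0 zh3) (kh xh0 yh0 zh4) (kh xh0 yh0 zh7) (kh xh0 yh0 zh9) (kh xh0 yh0 zh5) (kh xh0 yh0 zh12) (kh xh0 yh0 zh6) (kh xh0 yh0 zh10) (kh xh0 yh0 zh15) (kh xh0 yh0 zh8) (kh xh0 yh0 zh13) (kh xh0 yh0 zh14) (kh xh0 yh0 zh11) (kh xh0 yh0 zh16) (kh xh0 yh0 zh17) (kh xh0 yh0 zh18) (kh xh0 yh0 zh27) (kh xh0 yh0 zh20) (kh xh0 yh0 zh21) (kh xh0 yh0 zh22) (kh xh0 yh0 zh23) (kh xh0 yh0 zh35) (kh xh0 yh0 zh25) (kh xh0 yh0 zh38) (kh xh0 yh0 zh19) (kh xh0 yh0 zh28) (kh xh0 yh0 zh29) (kh xh0 yh0 zh44) (kh xh0 yh0 zh31) (kh xh0 yh0 zh48) (kh xh0 yh0 zh33) (kh xh0 yh1 zh0)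 (kh xh0 yh0 zh24) (kh xh0 yh0 zh36) (kh xh0 yh1 zh3) (kh xh0 yh0 zh26) (kh xh0 yh0 zh39) (kh xh0 yh0 zh40) (kh xh0 yh1 zh10) (kh xh0 yh0 zh42) (kh xh0 yh1 zh13) (kh xh0 yh0 zh30) (kh xh0 yh1 zh15) (kh xh0 yh0 zh46) (kh xh0 yh1 zh19) (kh xh0 yh0 zh32) (kh xh0 yh0 zh49) (kh xh0 yh1 zh23)) (@D3.rec (fun _ => Pt) (kh xh0 yh0 zh34) (kh xh0 yh1 zh1) (kh xh0 yh1 zh26) (kh xh0 yh0 zh37) (kh xh0 yh1 zh4) (kh xh0 yh1 zh5) (kh xh0 yh1 zh32) (kh xh0 yh1 zh34) (kh xh0 yh1 zh8) (kh xh0 yh1 zh38) (kh xh0 yh0 zh41) (kh xh0 yh1 zh11) (kh xh0 yh1 zh42) (kh xh0 yh0 zh43) (kh xh0 yh1 zh46) (kh xh0 yh0 zh45) (kh xh0 yh1 zh49) (kh xh0 yh1 zh17) (kh xh0 yh2 zh1) (kh xh0 yh0 zh47) (kh xh0 yh1 zh20) (kh xh0 yh1 zh21) (kh xh0 yh2 zh5) (kh xh0 yh0 zh50) (kh xh0 yh1 zh24) (kh xh0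 yh2 zh8) (kh xh0 yh1 zh2) (kh xh0 yh1 zh27) (kh xh0 yh1 zh28) (kh xh0 yh2 zh15) (kh xh0 yh1 zh30) (kh xh0 yh2 zh19) (kh xh0 yh1 zh6) (kh xh0 yh2 zh23) (kh xh0 yh1 zh7) (kh xh0 yh2 zh26) (kh xh0 yh1 zh36) (kh xh0 yh2 zh29) (kh xh0 yh1 zh9) (kh xh0 yh1 zh39) (kh xh0 yh1 zh40) (kh xh0 yh2 zh33) (kh xh0 yh1 zh12) (kh xh0 yh1 zh43) (kh xh0 yh2 zh37) (kh xh0 yh2 zh40) (kh xh0 yh1 zh14) (kh xh0 yh2 zh43) (kh xh0 yh2 zh44) (kh xh0 yh1 zh16) (kh xh0 yh1 zh50)) (@D3.rec (fun _ => Pt) (kh xh0 yh2 zh47) (kh xh0 yh1 zh18) (kh xh0 yh2 zh45) (kh xh0 yh2 zh3) (kh xh0 yh3 zh1) (kh xh0 yh1 zh22) (kh xh0 yh2 zh6) (kh xh0 yh2 zh7) (kh xh0 yh1 zh25) (kh xh0 yh2 zh9) (kh xh0 yh2 zh10) (kh xh0 yh2 zh11) (kh xh0 yh2 zh12) (kh xh0 yh3 zh13) (kh xh0 yh3 zh17) (kh xh0 yh1 zh29)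 (kh xh0 yh3 zh20) (kh xh0 yh2 zh17) (kh xh0 yh3 zh23) (kh xh0 yh1 zh31) (kh xh0 yh2 zh20) (kh xh0 yh3 zh28) (kh xh0 yh3 zh31) (kh xh0 yh1 zh33) (kh xh0 yh3 zh34) (kh xh0 yh3 zh35) (kh xh0 yh1 zh35) (kh xh0 yh2 zh27) (kh xh0 yh3 zh38) (kh xh0 yh1 zh37) (kh xh0 yh3 zh36) (kh xh0 yh2 zh31) (kh xh0 yh3 zh43) (kh xh0 yh1 zh41) (kh xh0 yh2 zh34) (kh xh0 yh2 zh35) (kh xh0 yh3 zh50) (kh xh0 yh1 zh44) (kh xh0 yh4 zh3) (kh xh0 yh4 zh4) (kh xh0 yh1 zh45) (kh xh0 yh4 zh7) (kh xh0 yh4 zh8) (kh xh0 yh1 zh47) (kh xh0 yh1 zh48) (kh xh0 yh2 zh2) (kh xh0 yh4 zh13) (kh xh0 yh2 zh0) (kh xh0 yh4 zh9) (kh xh0 yh4 zh11) (kh xh0 yh4 zh12)) (@D3.rec (fun _ => Pt) (kh xh0 yh3 zh0) (kh xh0 yh2 zh4) (kh xh0 yh3 zh2) (kh xh0 yh3 zh3) (kh xh0 yh3 zh4) (kh xh0 yh3 zh5) (kh xh0 yh3 zh6)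 (kh xh0 yh3 zh7) (kh xh0 yh3 zh8) (kh xh0 yh3 zh9) (kh xh0 yh3 zh10) (kh xh0 yh3 zh11) (kh xh0 yh4 zh37) (kh xh0 yh2 zh13) (kh xh0 yh4 zh41) (kh xh0 yh4 zh43) (kh xh0 yh4 zh46) (kh xh0 yh2 zh14) (kh xh0 yh4 zh49) (kh xh0 yh4 zh50) (kh xh0 yh2 zh16) (kh xh0 yh3 zh21) (kh xh0 yh5 zh2) (kh xh0 yh2 zh18) (kh xh0 yh5 zh0) (kh xh0 yh3 zh25) (kh xh0 yh3 zh26) (kh xh0 yh5 zh10) (kh xh0 yh2 zh21) (kh xh0 yh5 zh14) (kh xh0 yh5 zh15) (kh xh0 yh2 zh22) (kh xh0 yh5 zh18) (kh xh0 yh5 zh19) (kh xh0 yh2 zh24) (kh xh0 yh2 zh25) (kh xh0 yh2 zh30) (kh xh0 yh5 zh24) (kh xh0 yh2 zh28) (kh xh0 yh5 zh20) (kh xh0 yh5 zh22) (kh xh0 yh5 zh23) (kh xh0 yh3 zh42) (kh xh0 yh2 zh32) (kh xh0 yh3 zh44) (kh xh0 yh3 zh45) (kh xh0 yh3 zh46) (kh xh0 yh3 zh47) (kh xh0 yh5 zh39) (kh xh0 yh5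 zh41) (kh xh0 yh2 zh36)) (@D3.rec (fun _ => Pt) (kh xh0 yh5 zh45) (kh xh0 yh4 zh1) (kh xh0 yh5 zh48) (kh xh0 yh2 zh38) (kh xh0 yh2 zh39) (kh xh0 yh6 zh0) (kh xh0 yh6 zh1) (kh xh0 yh2 zh41) (kh xh0 yh2 zh42) (kh xh0 yh2 zh48) (kh xh0 yh4 zh10) (kh xh0 yh2 zh49) (kh xh0 yh2 zh50) (kh xh0 yh2 zh46) (kh xh0 yh6 zh2) (kh xh0 yh6 zh4) (kh xh0 yh6 zh5) (kh xh0 yh6 zh8) (kh xh0 yh6 zh9) (kh xh0 yh6 zh10) (kh xh0 yh4 zh20) (kh xh0 yh4 zh21) (kh xh0 yh4 zh22) (kh xh0 yh4 zh23) (kh xh0 yh4 zh24) (kh xh0 yh4 zh25) (kh xh0 yh4 zh26) (kh xh0 yh4 zh27) (kh xh0 yh4 zh28) (kh xh0 yh4 zh29) (kh xh0 yh4 zh30) (kh xh0 yh4 zh31) (kh xh0 yh4 zh32) (kh xh0 yh4 zh33) (kh xh0 yh6 zh39) (kh xh0 yh6 zh42) (kh xh0 yh6 zh45) (kh xh0 yh3 zh12) (kh xh0 yh6 zh49) (kh xh0 yh4 zh39) (kh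 xh0 yh7 zh1) (kh xh0 yh3 zh14) (kh xh0 yh7 zh5) (kh xh0 yh3 zh15) (kh xh0 yh7 zh9) (kh xh0 yh7 zh10) (kh xh0 yh3 zh16) (kh xh0 yh7 zh13) (kh xh0 yh7 zh14) (kh xh0 yh3 zh18) (kh xh0 yh3 zh19)) (@D3.rec (fun _ => Pt) (kh xh0 yh3 zh24) (kh xh0 yh7 zh19) (kh xh0 yh3 zh22) (kh xh0 yh7 zh15) (kh xh0 yh7 zh17) (kh xh0 yh7 zh18) (kh xh0 yh5 zh6) (kh xh0 yh5 zh7) (kh xh0 yh7 zh30) (kh xh0 yh7 zh32) (kh xh0 yh3 zh27) (kh xh0 yh7 zh36) (kh xh0 yh5 zh12) (kh xh0 yh7 zh39) (kh xh0 yh3 zh29) (kh xh0 yh3 zh30) (kh xh0 yh7 zh42) (kh xh0 yh7 zh43) (kh xh0 yh3 zh32) (kh xh0 yh3 zh33) (kh xh0 yh3 zh39) (kh xh0 yh5 zh21) (kh xh0 yh3 zh40) (kh xh0 yh3 zh41) (kh xh0 yh3 zh37) (kh xh0 yh7 zh44) (kh xh0 yh7 zh46) (kh xh0 yh7 zh47) (kh xh0 yh7 zh50) (kh xh0 yh8 zh0) (kh xh0 yh8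 zh1) (kh xh0 yh5 zh31) (kh xh0 yh5 zh32) (kh xh0 yh5 zh33) (kh xh0 yh5 zh34) (kh xh0 yh5 zh35) (kh xh0 yh5 zh36) (kh xh0 yh5 zh37) (kh xh0 yh8 zh22) (kh xh0 yh3 zh48) (kh xh0 yh8 zh26) (kh xh0 yh3 zh49) (kh xh0 yh8 zh29) (kh xh0 yh5 zh43) (kh xh0 yh8 zh32) (kh xh0 yh4 zh0) (kh xh0 yh5 zh46) (kh xh0 yh8 zh36) (kh xh0 yh4 zh2) (kh xh0 yh5 zh49) (kh xh0 yh8 zh40)) (@D3.rec (fun _ => Pt) (kh xh0 yh4 zh5) (kh xh0 yh4 zh6) (kh xh0 yh4 zh14) (kh xh0 yh6 zh3) (kh xh0 yh4 zh15) (kh xh0 yh4 zh16) (kh xh0 yh6 zh6) (kh xh0 yh6 zh7) (kh xh0 yh4 zh17) (kh xh0 yh4 zh18) (kh xh0 yh4 zh19) (kh xh0 yh8 zh41) (kh xh0 yh8 zh43) (kh xh0 yh8 zh44) (kh xh0 yh8 zh47) (kh xh0 yh8 zh48) (kh xh0 yh8 zh49) (kh xh0 yh9 zh2) (kh xh0 yh9 zh3) (kh xh0 yh9 zh5) (kh xh0 yh9 zh6) (kh xh0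 yh6 zh21) (kh xh0 yh6 zh22) (kh xh0 yh6 zh23) (kh xh0 yh6 zh24) (kh xh0 yh6 zh25) (kh xh0 yh6 zh26) (kh xh0 yh6 zh27) (kh xh0 yh6 zh28) (kh xh0 yh9 zh30) (kh xh0 yh6 zh30) (kh xh0 yh6 zh31) (kh xh0 yh6 zh32) (kh xh0 yh6 zh33) (kh xh0 yh6 zh34) (kh xh0 yh9 zh40) (kh xh0 yh6 zh36) (kh xh0 yh6 zh37) (kh xh0 yh8 zh35) (kh xh0 yh4 zh34) (kh xh0 yh6 zh40) (kh xh0 yh9 zh46) (kh xh0 yh4 zh35) (kh xh0 yh9 zh49) (kh xh0 yh9 zh50) (kh xh0 yh4 zh36) (kh xh0 yh10 zh3) (kh xh0 yh6 zh47) (kh xh0 yh10 zh5) (kh xh0 yh4 zh38) (kh xh0 yh6 zh50)) (@D3.rec (fun _ => Pt) (kh xh0 yh10 zh8) (kh xh0 yh4 zh40) (kh xh0 yh7 zh2) (kh xh0 yh10 zh13) (kh xh0 yh10 zh15) (kh xh0 yh4 zh42) (kh xh0 yh10 zh19) (kh xh0 yh7 zh7) (kh xh0 yh10 zh21) (kh xh0 yh4 zh44) (kh xh0 yh4 zh45) (kh xh0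 yh10 zh24) (kh xh0 yh10 zh25) (kh xh0 yh4 zh47) (kh xh0 yh4 zh48) (kh xh0 yh5 zh3) (kh xh0 yh7 zh16) (kh xh0 yh5 zh4) (kh xh0 yh5 zh5) (kh xh0 yh5 zh1) (kh xh0 yh10 zh26) (kh xh0 yh10 zh28) (kh xh0 yh10 zh29) (kh xh0 yh10 zh32) (kh xh0 yh10 zh33) (kh xh0 yh10 zh34) (kh xh0 yh10 zh47) (kh xh0 yh7 zh27) (kh xh0 yh7 zh28) (kh xh0 yh11 zh0) (kh xh0 yh5 zh8) (kh xh0 yh11 zh4) (kh xh0 yh5 zh9) (kh xh0 yh11 zh7) (kh xh0 yh7 zh34) (kh xh0 yh11 zh10) (kh xh0 yh5 zh11) (kh xh0 yh7 zh37) (kh xh0 yh11 zh13) (kh xh0 yh5 zh13) (kh xh0 yh7 zh40) (kh xh0 yh11 zh17) (kh xh0 yh5 zh16) (kh xh0 yh5 zh17) (kh xh0 yh5 zh25) (kh xh0 yh7 zh45) (kh xh0 yh5 zh26) (kh xh0 yh5 zh27) (kh xh0 yh7 zh48) (kh xh0 yh7 zh49) (kh xh0 yh5 zh28)) (@D3.rec (fun _ => Pt) (kh xh0 yh5 zh29) (kh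 xh0 yh5 zh30) (kh xh0 yh11 zh18) (kh xh0 yh11 zh20) (kh xh0 yh11 zh21) (kh xh0 yh11 zh24) (kh xh0 yh11 zh25) (kh xh0 yh11 zh26) (kh xh0 yh11 zh30) (kh xh0 yh11 zh31) (kh xh0 yh11 zh33) (kh xh0 yh11 zh34) (kh xh0 yh8 zh12) (kh xh0 yh8 zh13) (kh xh0 yh8 zh14) (kh xh0 yh8 zh15) (kh xh0 yh8 zh16) (kh xh0 yh8 zh17) (kh xh0 yh8 zh18) (kh xh0 yh8 zh19) (kh xh0 yh12 zh7) (kh xh0 yh12 zh8) (kh xh0 yh5 zh38) (kh xh0 yh12 zh12) (kh xh0 yh8 zh24) (kh xh0 yh12 zh16) (kh xh0 yh5 zh40) (kh xh0 yh8 zh27) (kh xh0 yh12 zh20) (kh xh0 yh5 zh42) (kh xh0 yh8 zh30) (kh xh0 yh12 zh24) (kh xh0 yh5 zh44) (kh xh0 yh8 zh33) (kh xh0 yh8 zh34) (kh xh0 yh6 zh38) (kh xh0 yh5 zh47) (kh xh0 yh12 zh28) (kh xh0 yh8 zh38) (kh xh0 yh8 zh39) (kh xh0 yh5 zh50) (kh xh0 yh6 zh11) (kh xh0 yh8 zh42)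 (kh xh0 yh6 zh12) (kh xh0 yh6 zh13) (kh xh0 yh8 zh45) (kh xh0 yh8 zh46) (kh xh0 yh6 zh14) (kh xh0 yh6 zh15) (kh xh0 yh6 zh16) (kh xh0 yh8 zh50)) (@D3.rec (fun _ => Pt) (kh xh0 yh9 zh0) (kh xh0 yh9 zh1) (kh xh0 yh6 zh17) (kh xh0 yh6 zh18) (kh xh0 yh9 zh4) (kh xh0 yh6 zh19) (kh xh0 yh6 zh20) (kh xh0 yh12 zh35) (kh xh0 yh12 zh36) (kh xh0 yh12 zh39) (kh xh0 yh12 zh40) (kh xh0 yh12 zh41) (kh xh0 yh12 zh45) (kh xh0 yh12 zh46) (kh xh0 yh13 zh22) (kh xh0 yh12 zh48) (kh xh0 yh12 zh49) (kh xh0 yh13 zh4) (kh xh0 yh13 zh6) (kh xh0 yh13 zh8) (kh xh0 yh13 zh9) (kh xh0 yh9 zh21) (kh xh0 yh9 zh22) (kh xh0 yh9 zh23) (kh xh0 yh9 zh24) (kh xh0 yh9 zh25) (kh xh0 yh13 zh37) (kh xh0 yh9 zh27) (kh xh0 yh9 zh28) (kh xh0 yh12 zh29) (kh xh0 yh6 zh29) (kh xh0 yh9 zh31) (kh xh0 yh9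 zh32) (kh xh0 yh13 zh43) (kh xh0 yh9 zh34) (kh xh0 yh9 zh35) (kh xh0 yh9 zh36) (kh xh0 yh12 zh23) (kh xh0 yh9 zh38) (kh xh0 yh13 zh49) (kh xh0 yh6 zh35) (kh xh0 yh11 zh12) (kh xh0 yh9 zh42) (kh xh0 yh14 zh2) (kh xh0 yh14 zh4) (kh xh0 yh14 zh6) (kh xh0 yh6 zh41) (kh xh0 yh14 zh9) (kh xh0 yh14 zh10) (kh xh0 yh6 zh43) (kh xh0 yh6 zh44)) (@D3.rec (fun _ => Pt) (kh xh0 yh14 zh14) (kh xh0 yh10 zh1) (kh xh0 yh14 zh16) (kh xh0 yh6 zh46) (kh xh0 yh14 zh18) (kh xh0 yh6 zh48) (kh xh0 yh10 zh6) (kh xh0 yh14 zh22) (kh xh0 yh7 zh0) (kh xh0 yh14 zh23) (kh xh0 yh10 zh10) (kh xh0 yh10 zh11) (kh xh0 yh14 zh30) (kh xh0 yh7 zh3) (kh xh0 yh14 zh34) (kh xh0 yh7 zh4) (kh xh0 yh14 zh37) (kh xh0 yh10 zh17) (kh xh0 yh14 zh39) (kh xh0 yh7 zh6) (kh xh0 yh14 zh41) (kh xh0 yh7 zh8)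 (kh xh0 yh10 zh22) (kh xh0 yh14 zh45) (kh xh0 yh7 zh11) (kh xh0 yh7 zh12) (kh xh0 yh7 zh20) (kh xh0 yh10 zh27) (kh xh0 yh7 zh21) (kh xh0 yh7 zh22) (kh xh0 yh10 zh30) (kh xh0 yh10 zh31) (kh xh0 yh7 zh23) (kh xh0 yh7 zh24) (kh xh0 yh7 zh25) (kh xh0 yh14 zh46) (kh xh0 yh14 zh48) (kh xh0 yh14 zh49) (kh xh0 yh15 zh1) (kh xh0 yh15 zh2) (kh xh0 yh15 zh3) (kh xh0 yh15 zh7) (kh xh0 yh15 zh8) (kh xh0 yh15 zh26) (kh xh0 yh15 zh10) (kh xh0 yh15 zh11) (kh xh0 yh15 zh31) (kh xh0 yh7 zh26) (kh xh0 yh10 zh48) (kh xh0 yh10 zh49) (kh xh0 yh15 zh34)) (@D3.rec (fun _ => Pt) (kh xh0 yh7 zh29) (kh xh0 yh15 zh38) (kh xh0 yh11 zh2) (kh xh0 yh15 zh42) (kh xh0 yh7 zh31) (kh xh0 yh11 zh5) (kh xh0 yh15 zh46) (kh xh0 yh7 zh33) (kh xh0 yh11 zh8) (kh xh0 yh15 zh49) (kh xh0 yh7 zh35)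 (kh xh0 yh11 zh11) (kh xh0 yh9 zh41) (kh xh0 yh7 zh38) (kh xh0 yh16 zh2) (kh xh0 yh11 zh15) (kh xh0 yh11 zh16) (kh xh0 yh7 zh41) (kh xh0 yh8 zh2) (kh xh0 yh11 zh19) (kh xh0 yh8 zh3) (kh xh0 yh8 zh4) (kh xh0 yh11 zh22) (kh xh0 yh11 zh23) (kh xh0 yh8 zh5) (kh xh0 yh8 zh6) (kh xh0 yh8 zh7) (kh xh0 yh11 zh27) (kh xh0 yh11 zh28) (kh xh0 yh11 zh29) (kh xh0 yh8 zh8) (kh xh0 yh8 zh9) (kh xh0 yh11 zh32) (kh xh0 yh8 zh10) (kh xh0 yh8 zh11) (kh xh0 yh16 zh9) (kh xh0 yh16 zh10) (kh xh0 yh16 zh13) (kh xh0 yh16 zh14) (kh xh0 yh16 zh15) (kh xh0 yh16 zh19) (kh xh0 yh16 zh20) (kh xh0 yh16 zh47) (kh xh0 yh16 zh22) (kh xh0 yh16 zh23) (kh xh0 yh16 zh29) (kh xh0 yh16 zh31) (kh xh0 yh16 zh33) (kh xh0 yh16 zh34) (kh xh0 yh11 zh49) (kh xh0 yh11 zh50)) (@D3.rec (fun _ => Pt) (kh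 xh0 yh12 zh0) (kh xh0 yh12 zh1) (kh xh0 yh12 zh2) (kh xh0 yh17 zh11) (kh xh0 yh12 zh4) (kh xh0 yh12 zh5) (kh xh0 yh17 zh14) (kh xh0 yh8 zh20) (kh xh0 yh8 zh21) (kh xh0 yh17 zh18) (kh xh0 yh12 zh10) (kh xh0 yh17 zh22) (kh xh0 yh8 zh23) (kh xh0 yh12 zh13) (kh xh0 yh12 zh14) (kh xh0 yh17 zh28) (kh xh0 yh8 zh25) (kh xh0 yh12 zh17) (kh xh0 yh12 zh18) (kh xh0 yh17 zh34) (kh xh0 yh8 zh28) (kh xh0 yh12 zh21) (kh xh0 yh12 zh22) (kh xh0 yh9 zh37) (kh xh0 yh8 zh31) (kh xh0 yh17 zh38) (kh xh0 yh12 zh26) (kh xh0 yh12 zh27) (kh xh0 yh8 zh37) (kh xh0 yh9 zh29) (kh xh0 yh17 zh44) (kh xh0 yh12 zh31) (kh xh0 yh12 zh32) (kh xh0 yh12 zh33) (kh xh0 yh12 zh34) (kh xh0 yh9 zh7) (kh xh0 yh9 zh8) (kh xh0 yh12 zh37) (kh xh0 yh12 zh38) (kh xh0 yh9 zh9) (kh xh0 yh9 zh10) (kh xh0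 yh9 zh11) (kh xh0 yh12 zh42) (kh xh0 yh12 zh43) (kh xh0 yh12 zh44) (kh xh0 yh9 zh12) (kh xh0 yh9 zh13) (kh xh0 yh18 zh22) (kh xh0 yh9 zh15) (kh xh0 yh9 zh16) (kh xh0 yh12 zh50)) (@D3.rec (fun _ => Pt) (kh xh0 yh13 zh0) (kh xh0 yh18 zh29) (kh xh0 yh13 zh2) (kh xh0 yh13 zh3) (kh xh0 yh9 zh17) (kh xh0 yh13 zh5) (kh xh0 yh9 zh18) (kh xh0 yh13 zh7) (kh xh0 yh9 zh19) (kh xh0 yh9 zh20) (kh xh0 yh18 zh2) (kh xh0 yh18 zh3) (kh xh0 yh18 zh4) (kh xh0 yh18 zh8) (kh xh0 yh18 zh9) (kh xh0 yh18 zh49) (kh xh0 yh18 zh11) (kh xh0 yh18 zh12) (kh xh0 yh18 zh18) (kh xh0 yh17 zh45) (kh xh0 yh18 zh20) (kh xh0 yh19 zh6) (kh xh0 yh9 zh14) (kh xh0 yh18 zh23) (kh xh0 yh18 zh24) (kh xh0 yh18 zh33) (kh xh0 yh18 zh36) (kh xh0 yh18 zh39) (kh xh0 yh13 zh28) (kh xh0 yh13 zh29) (kh xh0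 yh19 zh14) (kh xh0 yh13 zh31) (kh xh0 yh13 zh32) (kh xh0 yh13 zh33) (kh xh0 yh17 zh39) (kh xh0 yh13 zh35) (kh xh0 yh19 zh20) (kh xh0 yh9 zh26) (kh xh0 yh16 zh3) (kh xh0 yh13 zh39) (kh xh0 yh17 zh33) (kh xh0 yh13 zh41) (kh xh0 yh19 zh27) (kh xh0 yh9 zh33) (kh xh0 yh13 zh44) (kh xh0 yh15 zh48) (kh xh0 yh13 zh46) (kh xh0 yh17 zh26) (kh xh0 yh19 zh30) (kh xh0 yh9 zh39) (kh xh0 yh13 zh50)) (@D3.rec (fun _ => Pt) (kh xh0 yh14 zh0) (kh xh0 yh19 zh35) (kh xh0 yh9 zh43) (kh xh0 yh19 zh38) (kh xh0 yh9 zh44) (kh xh0 yh19 zh41) (kh xh0 yh9 zh45) (kh xh0 yh19 zh43) (kh xh0 yh19 zh44) (kh xh0 yh9 zh47) (kh xh0 yh9 zh48) (kh xh0 yh19 zh36) (kh xh0 yh14 zh12) (kh xh0 yh19 zh50) (kh xh0 yh10 zh0) (kh xh0 yh20 zh1) (kh xh0 yh10 zh2) (kh xh0 yh14 zh17) (kh xh0 yh10 zh4)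 (kh xh0 yh20 zh5) (kh xh0 yh14 zh20) (kh xh0 yh14 zh21) (kh xh0 yh10 zh7) (kh xh0 yh10 zh9) (kh xh0 yh20 zh12) (kh xh0 yh20 zh13) (kh xh0 yh14 zh26) (kh xh0 yh14 zh27) (kh xh0 yh14 zh28) (kh xh0 yh20 zh22) (kh xh0 yh10 zh12) (kh xh0 yh20 zh26) (kh xh0 yh14 zh32) (kh xh0 yh20 zh29) (kh xh0 yh10 zh14) (kh xh0 yh14 zh35) (kh xh0 yh20 zh32) (kh xh0 yh10 zh16) (kh xh0 yh20 zh34) (kh xh0 yh10 zh18) (kh xh0 yh14 zh40) (kh xh0 yh10 zh20) (kh xh0 yh20 zh38) (kh xh0 yh14 zh43) (kh xh0 yh14 zh44) (kh xh0 yh10 zh23) (kh xh0 yh10 zh35) (kh xh0 yh14 zh47) (kh xh0 yh10 zh36) (kh xh0 yh10 zh37) (kh xh0 yh14 zh50)) (@D3.rec (fun _ => Pt) (kh xh0 yh15 zh0) (kh xh0 yh10 zh38) (kh xh0 yh10 zh39) (kh xh0 yh10 zh40) (kh xh0 yh15 zh4) (kh xh0 yh15 zh5) (kh xh0 yh15 zh6) (kh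 xh0 yh10 zh41) (kh xh0 yh10 zh42) (kh xh0 yh21 zh18) (kh xh0 yh10 zh44) (kh xh0 yh10 zh45) (kh xh0 yh20 zh45) (kh xh0 yh20 zh46) (kh xh0 yh20 zh49) (kh xh0 yh20 zh50) (kh xh0 yh21 zh0) (kh xh0 yh21 zh4) (kh xh0 yh21 zh5) (kh xh0 yh21 zh33) (kh xh0 yh21 zh7) (kh xh0 yh21 zh8) (kh xh0 yh21 zh14) (kh xh0 yh21 zh39) (kh xh0 yh21 zh16) (kh xh0 yh21 zh43) (kh xh0 yh10 zh43) (kh xh0 yh21 zh19) (kh xh0 yh21 zh20) (kh xh0 yh21 zh47) (kh xh0 yh21 zh49) (kh xh0 yh10 zh46) (kh xh0 yh15 zh32) (kh xh0 yh15 zh33) (kh xh0 yh10 zh50) (kh xh0 yh22 zh2) (kh xh0 yh15 zh36) (kh xh0 yh22 zh6) (kh xh0 yh11 zh1) (kh xh0 yh15 zh39) (kh xh0 yh15 zh40) (kh xh0 yh22 zh11) (kh xh0 yh11 zh3) (kh xh0 yh15 zh43) (kh xh0 yh15 zh44) (kh xh0 yh22 zh16) (kh xh0 yh11 zh6) (kh xh0 yh15 zh47)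 (kh xh0 yh13 zh45) (kh xh0 yh11 zh9) (kh xh0 yh22 zh20)) (@D3.rec (fun _ => Pt) (kh xh0 yh16 zh0) (kh xh0 yh16 zh1) (kh xh0 yh11 zh14) (kh xh0 yh13 zh38) (kh xh0 yh22 zh26) (kh xh0 yh16 zh5) (kh xh0 yh16 zh6) (kh xh0 yh16 zh7) (kh xh0 yh16 zh8) (kh xh0 yh11 zh35) (kh xh0 yh11 zh36) (kh xh0 yh16 zh11) (kh xh0 yh16 zh12) (kh xh0 yh11 zh37) (kh xh0 yh11 zh38) (kh xh0 yh11 zh39) (kh xh0 yh16 zh16) (kh xh0 yh16 zh17) (kh xh0 yh16 zh18) (kh xh0 yh11 zh40) (kh xh0 yh11 zh41) (kh xh0 yh23 zh6) (kh xh0 yh11 zh43) (kh xh0 yh11 zh44) (kh xh0 yh16 zh24) (kh xh0 yh16 zh25) (kh xh0 yh23 zh13) (kh xh0 yh16 zh27) (kh xh0 yh16 zh28) (kh xh0 yh11 zh45) (kh xh0 yh16 zh30) (kh xh0 yh11 zh46) (kh xh0 yh16 zh32) (kh xh0 yh11 zh47) (kh xh0 yh11 zh48) (kh xh0 yh22 zh37) (kh xh0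 yh22 zh38) (kh xh0 yh22 zh39) (kh xh0 yh22 zh43) (kh xh0 yh22 zh44) (kh xh0 yh23 zh33) (kh xh0 yh22 zh46) (kh xh0 yh22 zh47) (kh xh0 yh23 zh2) (kh xh0 yh23 zh40) (kh xh0 yh23 zh4) (kh xh0 yh23 zh43) (kh xh0 yh11 zh42) (kh xh0 yh23 zh7) (kh xh0 yh23 zh8) (kh xh0 yh23 zh17)) (@D3.rec (fun _ => Pt) (kh xh0 yh23 zh20) (kh xh0 yh23 zh23) (kh xh0 yh17 zh2) (kh xh0 yh17 zh3) (kh xh0 yh24 zh1) (kh xh0 yh17 zh5) (kh xh0 yh17 zh6) (kh xh0 yh17 zh7) (kh xh0 yh24 zh7) (kh xh0 yh17 zh9) (kh xh0 yh24 zh9) (kh xh0 yh12 zh3) (kh xh0 yh22 zh27) (kh xh0 yh24 zh12) (kh xh0 yh12 zh6) (kh xh0 yh17 zh15) (kh xh0 yh17 zh16) (kh xh0 yh24 zh16) (kh xh0 yh12 zh9) (kh xh0 yh17 zh19) (kh xh0 yh17 zh20) (kh xh0 yh24 zh22) (kh xh0 yh12 zh11) (kh xh0 yh17 zh23) (kh xh0 yh17 zh24) (kh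 xh0 yh17 zh25) (kh xh0 yh13 zh47) (kh xh0 yh24 zh29) (kh xh0 yh12 zh15) (kh xh0 yh24 zh30) (kh xh0 yh17 zh30) (kh xh0 yh17 zh31) (kh xh0 yh17 zh32) (kh xh0 yh13 zh40) (kh xh0 yh12 zh19) (kh xh0 yh24 zh36) (kh xh0 yh17 zh36) (kh xh0 yh17 zh37) (kh xh0 yh12 zh25) (kh xh0 yh13 zh34) (kh xh0 yh24 zh42) (kh xh0 yh17 zh41) (kh xh0 yh17 zh42) (kh xh0 yh17 zh43) (kh xh0 yh12 zh30) (kh xh0 yh13 zh19) (kh xh0 yh24 zh49) (kh xh0 yh17 zh47) (kh xh0 yh25 zh5) (kh xh0 yh17 zh49) (kh xh0 yh17 zh50)) (@D3.rec (fun _ => Pt) (kh xh0 yh18 zh0) (kh xh0 yh18 zh1) (kh xh0 yh13 zh10) (kh xh0 yh13 zh11) (kh xh0 yh13 zh12) (kh xh0 yh18 zh5) (kh xh0 yh18 zh6) (kh xh0 yh18 zh7) (kh xh0 yh13 zh13) (kh xh0 yh13 zh14) (kh xh0 yh25 zh25) (kh xh0 yh13 zh16) (kh xh0 yh13 zh17) (kh xh0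 yh18 zh13) (kh xh0 yh18 zh14) (kh xh0 yh25 zh32) (kh xh0 yh18 zh16) (kh xh0 yh18 zh17) (kh xh0 yh13 zh18) (kh xh0 yh24 zh50) (kh xh0 yh13 zh20) (kh xh0 yh25 zh41) (kh xh0 yh12 zh47) (kh xh0 yh13 zh23) (kh xh0 yh13 zh24) (kh xh0 yh18 zh25) (kh xh0 yh25 zh47) (kh xh0 yh18 zh27) (kh xh0 yh26 zh0) (kh xh0 yh13 zh1) (kh xh0 yh18 zh30) (kh xh0 yh18 zh31) (kh xh0 yh18 zh32) (kh xh0 yh13 zh25) (kh xh0 yh18 zh34) (kh xh0 yh18 zh35) (kh xh0 yh13 zh26) (kh xh0 yh18 zh37) (kh xh0 yh18 zh38) (kh xh0 yh13 zh27) (kh xh0 yh25 zh11) (kh xh0 yh25 zh12) (kh xh0 yh26 zh15) (kh xh0 yh25 zh14) (kh xh0 yh25 zh15) (kh xh0 yh25 zh21) (kh xh0 yh24 zh43) (kh xh0 yh25 zh23) (kh xh0 yh26 zh24) (kh xh0 yh13 zh15) (kh xh0 yh25 zh26)) (@D3.rec (fun _ => Pt) (kh xh0 yh25 zh27) (kh xh0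 yh22 zh28) (kh xh0 yh25 zh36) (kh xh0 yh25 zh0) (kh xh0 yh25 zh38) (kh xh0 yh26 zh31) (kh xh0 yh13 zh21) (kh xh0 yh25 zh42) (kh xh0 yh26 zh4) (kh xh0 yh26 zh8) (kh xh0 yh19 zh10) (kh xh0 yh24 zh37) (kh xh0 yh19 zh12) (kh xh0 yh26 zh39) (kh xh0 yh13 zh30) (kh xh0 yh19 zh15) (kh xh0 yh22 zh21) (kh xh0 yh19 zh17) (kh xh0 yh24 zh31) (kh xh0 yh26 zh42) (kh xh0 yh13 zh36) (kh xh0 yh22 zh15) (kh xh0 yh19 zh22) (kh xh0 yh24 zh20) (kh xh0 yh19 zh24) (kh xh0 yh26 zh48) (kh xh0 yh26 zh49) (kh xh0 yh13 zh42) (kh xh0 yh22 zh9) (kh xh0 yh24 zh28) (kh xh0 yh13 zh48) (kh xh0 yh19 zh31) (kh xh0 yh19 zh32) (kh xh1 yh0 zh5) (kh xh1 yh0 zh6) (kh xh0 yh14 zh1) (kh xh0 yh14 zh11) (kh xh1 yh0 zh10) (kh xh0 yh14 zh3) (kh xh1 yh0 zh13) (kh xh1 yh0 zh14) (kh xh0 yh14 zh5) (kh xh1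 yh0 zh16) (kh xh0 yh14 zh7) (kh xh0 yh14 zh8) (kh xh1 yh0 zh7) (kh xh0 yh19 zh46) (kh xh1 yh0 zh8) (kh xh1 yh0 zh9) (kh xh1 yh0 zh26) (kh xh0 yh14 zh13)) (@D3.rec (fun _ => Pt) (kh xh0 yh20 zh0) (kh xh0 yh14 zh15) (kh xh1 yh0 zh30) (kh xh0 yh20 zh3) (kh xh0 yh20 zh4) (kh xh0 yh14 zh19) (kh xh1 yh0 zh36) (kh xh1 yh0 zh37) (kh xh0 yh20 zh8) (kh xh0 yh20 zh9) (kh xh0 yh20 zh10) (kh xh0 yh20 zh11) (kh xh0 yh14 zh24) (kh xh0 yh14 zh25) (kh xh1 yh0 zh48) (kh xh1 yh0 zh49) (kh xh1 yh0 zh50) (kh xh0 yh20 zh17) (kh xh0 yh20 zh18) (kh xh1 yh1 zh9) (kh xh0 yh20 zh20) (kh xh0 yh20 zh21) (kh xh0 yh14 zh29) (kh xh1 yh1 zh14) (kh xh0 yh20 zh24) (kh xh1 yh1 zh17) (kh xh0 yh14 zh31) (kh xh0 yh20 zh27) (kh xh1 yh1 zh20) (kh xh0 yh14 zh33) (kh xh0 yh20 zh30) (kh xh1 yh1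 zh24) (kh xh0 yh14 zh36) (kh xh0 yh20 zh33) (kh xh0 yh14 zh38) (kh xh1 yh1 zh28) (kh xh0 yh20 zh36) (kh xh0 yh20 zh37) (kh xh0 yh14 zh42) (kh xh1 yh1 zh34) (kh xh1 yh1 zh35) (kh xh0 yh20 zh41) (kh xh0 yh20 zh42) (kh xh0 yh20 zh43) (kh xh0 yh20 zh44) (kh xh0 yh15 zh12) (kh xh0 yh15 zh13) (kh xh0 yh20 zh47) (kh xh0 yh20 zh48) (kh xh0 yh15 zh14) (kh xh0 yh15 zh15)) (@D3.rec (fun _ => Pt) (kh xh0 yh15 zh16) (kh xh0 yh21 zh1) (kh xh0 yh21 zh2) (kh xh0 yh21 zh3) (kh xh0 yh15 zh17) (kh xh0 yh15 zh18) (kh xh1 yh2 zh15) (kh xh0 yh15 zh20) (kh xh0 yh15 zh21) (kh xh0 yh21 zh9) (kh xh0 yh21 zh10) (kh xh1 yh2 zh22) (kh xh0 yh21 zh12) (kh xh0 yh21 zh13) (kh xh0 yh15 zh22) (kh xh1 yh2 zh29) (kh xh0 yh15 zh24) (kh xh1 yh2 zh33) (kh xh0 yh15 zh9) (kh xh0 yh15 zh27) (kh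 xh0 yh15 zh28) (kh xh1 yh1 zh46) (kh xh1 yh1 zh47) (kh xh1 yh1 zh48) (kh xh1 yh2 zh1) (kh xh1 yh2 zh2) (kh xh1 yh2 zh45) (kh xh1 yh2 zh4) (kh xh1 yh2 zh5) (kh xh1 yh2 zh11) (kh xh1 yh3 zh1) (kh xh1 yh2 zh13) (kh xh1 yh3 zh5) (kh xh0 yh15 zh19) (kh xh1 yh2 zh16) (kh xh1 yh2 zh17) (kh xh1 yh3 zh9) (kh xh1 yh2 zh26) (kh xh1 yh3 zh13) (kh xh0 yh15 zh23) (kh xh1 yh2 zh30) (kh xh1 yh3 zh17) (kh xh1 yh3 zh19) (kh xh0 yh15 zh25) (kh xh0 yh21 zh44) (kh xh1 yh2 zh35) (kh xh1 yh3 zh23) (kh xh0 yh15 zh29) (kh xh1 yh3 zh26) (kh xh0 yh15 zh30) (kh xh0 yh21 zh50)) (@D3.rec (fun _ => Pt) (kh xh0 yh22 zh0) (kh xh1 yh3 zh31) (kh xh0 yh15 zh35) (kh xh0 yh22 zh3) (kh xh0 yh22 zh4) (kh xh1 yh3 zh36) (kh xh0 yh15 zh37) (kh xh0 yh22 zh7) (kh xh0 yh22 zh8) (kh xh0 yh19 zh28)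 (kh xh1 yh3 zh42) (kh xh0 yh15 zh41) (kh xh1 yh3 zh43) (kh xh0 yh22 zh13) (kh xh0 yh22 zh14) (kh xh0 yh19 zh21) (kh xh0 yh15 zh45) (kh xh1 yh3 zh49) (kh xh0 yh22 zh18) (kh xh0 yh22 zh19) (kh xh0 yh15 zh50) (kh xh0 yh19 zh16) (kh xh1 yh4 zh4) (kh xh0 yh22 zh23) (kh xh0 yh22 zh24) (kh xh0 yh22 zh25) (kh xh0 yh16 zh4) (kh xh0 yh17 zh12) (kh xh0 yh19 zh1) (kh xh1 yh4 zh13) (kh xh0 yh22 zh30) (kh xh0 yh22 zh31) (kh xh1 yh4 zh22) (kh xh0 yh22 zh33) (kh xh0 yh22 zh34) (kh xh0 yh22 zh35) (kh xh0 yh22 zh36) (kh xh0 yh16 zh35) (kh xh0 yh16 zh36) (kh xh0 yh16 zh37) (kh xh0 yh22 zh40) (kh xh0 yh22 zh41) (kh xh0 yh22 zh42) (kh xh0 yh16 zh38) (kh xh0 yh16 zh39) (kh xh1 yh4 zh42) (kh xh0 yh16 zh41) (kh xh0 yh16 zh42) (kh xh0 yh22 zh48) (kh xh0 yh22 zh49) (kh xh1 yh4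 zh49)) (@D3.rec (fun _ => Pt) (kh xh0 yh23 zh0) (kh xh0 yh23 zh1) (kh xh0 yh16 zh43) (kh xh1 yh5 zh5) (kh xh0 yh16 zh45) (kh xh1 yh5 zh9) (kh xh0 yh16 zh21) (kh xh0 yh16 zh48) (kh xh0 yh16 zh49) (kh xh0 yh23 zh9) (kh xh1 yh5 zh16) (kh xh0 yh23 zh11) (kh xh1 yh5 zh20) (kh xh0 yh16 zh26) (kh xh0 yh23 zh14) (kh xh0 yh23 zh15) (kh xh0 yh23 zh16) (kh xh0 yh16 zh50) (kh xh0 yh23 zh18) (kh xh0 yh23 zh19) (kh xh0 yh17 zh0) (kh xh0 yh23 zh21) (kh xh0 yh23 zh22) (kh xh0 yh17 zh1) (kh xh1 yh4 zh28) (kh xh1 yh4 zh29) (kh xh1 yh5 zh35) (kh xh1 yh4 zh31) (kh xh1 yh4 zh32) (kh xh1 yh4 zh38) (kh xh1 yh5 zh42) (kh xh1 yh4 zh40) (kh xh1 yh5 zh46) (kh xh0 yh16 zh40) (kh xh1 yh4 zh43) (kh xh1 yh4 zh44) (kh xh1 yh4 zh14) (kh xh1 yh5 zh2) (kh xh1 yh6 zh2) (kh xh1 yh6 zh4) (kh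 xh0 yh16 zh44) (kh xh1 yh5 zh6) (kh xh1 yh6 zh7) (kh xh0 yh16 zh46) (kh xh0 yh23 zh44) (kh xh1 yh5 zh11) (kh xh1 yh5 zh24) (kh xh1 yh5 zh28) (kh xh0 yh23 zh48) (kh xh1 yh6 zh14) (kh xh0 yh23 zh50)) (@D3.rec (fun _ => Pt) (kh xh1 yh6 zh18) (kh xh0 yh17 zh4) (kh xh0 yh24 zh2) (kh xh1 yh4 zh5) (kh xh0 yh24 zh4) (kh xh1 yh6 zh23) (kh xh1 yh6 zh25) (kh xh0 yh17 zh8) (kh xh1 yh6 zh26) (kh xh0 yh17 zh10) (kh xh0 yh24 zh10) (kh xh1 yh1 zh36) (kh xh0 yh17 zh13) (kh xh0 yh24 zh13) (kh xh0 yh24 zh14) (kh xh1 yh6 zh34) (kh xh0 yh17 zh17) (kh xh0 yh24 zh17) (kh xh0 yh24 zh18) (kh xh0 yh24 zh19) (kh xh0 yh19 zh23) (kh xh1 yh6 zh41) (kh xh0 yh17 zh21) (kh xh1 yh6 zh42) (kh xh0 yh24 zh24) (kh xh0 yh24 zh25) (kh xh0 yh24 zh26) (kh xh1 yh6 zh49) (kh xh0 yh19 zh29) (kh xh0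 yh17 zh27) (kh xh0 yh17 zh29) (kh xh0 yh19 zh18) (kh xh1 yh7 zh1) (kh xh0 yh24 zh33) (kh xh0 yh24 zh34) (kh xh0 yh24 zh35) (kh xh0 yh17 zh35) (kh xh0 yh19 zh11) (kh xh1 yh7 zh8) (kh xh0 yh24 zh39) (kh xh0 yh24 zh40) (kh xh0 yh24 zh41) (kh xh0 yh17 zh40) (kh xh0 yh18 zh46) (kh xh1 yh7 zh15) (kh xh0 yh24 zh45) (kh xh1 yh7 zh22) (kh xh0 yh24 zh47) (kh xh0 yh24 zh48) (kh xh0 yh17 zh46) (kh xh0 yh18 zh19)) (@D3.rec (fun _ => Pt) (kh xh0 yh19 zh3) (kh xh1 yh7 zh25) (kh xh1 yh7 zh31) (kh xh0 yh25 zh3) (kh xh1 yh7 zh35) (kh xh0 yh17 zh48) (kh xh0 yh25 zh6) (kh xh0 yh25 zh7) (kh xh0 yh25 zh8) (kh xh0 yh25 zh9) (kh xh0 yh25 zh10) (kh xh0 yh18 zh40) (kh xh0 yh18 zh41) (kh xh1 yh7 zh46) (kh xh0 yh18 zh43) (kh xh0 yh18 zh44) (kh xh0 yh25 zh16) (kh xh0 yh25 zh17) (kh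 xh1 yh8 zh2) (kh xh0 yh25 zh19) (kh xh0 yh25 zh20) (kh xh0 yh18 zh45) (kh xh1 yh7 zh16) (kh xh0 yh18 zh47) (kh xh1 yh8 zh11) (kh xh0 yh18 zh10) (kh xh0 yh18 zh50) (kh xh0 yh19 zh0) (kh xh0 yh25 zh28) (kh xh1 yh7 zh29) (kh xh0 yh25 zh30) (kh xh1 yh8 zh19) (kh xh0 yh18 zh15) (kh xh0 yh25 zh33) (kh xh0 yh25 zh34) (kh xh1 yh4 zh15) (kh xh0 yh19 zh2) (kh xh1 yh7 zh26) (kh xh0 yh19 zh4) (kh xh1 yh8 zh27) (kh xh1 yh8 zh29) (kh xh0 yh18 zh21) (kh xh0 yh19 zh7) (kh xh1 yh8 zh32) (kh xh0 yh25 zh44) (kh xh1 yh8 zh35) (kh xh1 yh8 zh38) (kh xh0 yh18 zh26) (kh xh0 yh25 zh48) (kh xh1 yh8 zh41) (kh xh1 yh8 zh43)) (@D3.rec (fun _ => Pt) (kh xh0 yh18 zh28) (kh xh0 yh26 zh1) (kh xh0 yh26 zh2) (kh xh0 yh26 zh3) (kh xh0 yh19 zh8) (kh xh0 yh26 zh5) (kh xh0 yh26 zh6) (kh xh0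 yh26 zh7) (kh xh0 yh19 zh9) (kh xh0 yh26 zh9) (kh xh0 yh26 zh10) (kh xh1 yh7 zh42) (kh xh1 yh7 zh9) (kh xh1 yh7 zh44) (kh xh1 yh9 zh10) (kh xh0 yh18 zh42) (kh xh1 yh7 zh47) (kh xh1 yh7 zh48) (kh xh1 yh4 zh6) (kh xh1 yh8 zh6) (kh xh1 yh7 zh17) (kh xh1 yh8 zh8) (kh xh1 yh9 zh18) (kh xh1 yh9 zh20) (kh xh0 yh18 zh48) (kh xh1 yh8 zh12) (kh xh1 yh4 zh16) (kh xh1 yh8 zh22) (kh xh1 yh7 zh27) (kh xh1 yh8 zh25) (kh xh1 yh9 zh24) (kh xh0 yh19 zh5) (kh xh1 yh8 zh48) (kh xh1 yh3 zh50) (kh xh0 yh26 zh34) (kh xh1 yh6 zh43) (kh xh0 yh26 zh36) (kh xh1 yh9 zh30) (kh xh1 yh9 zh31) (kh xh0 yh19 zh13) (kh xh1 yh3 zh44) (kh xh1 yh7 zh2) (kh xh0 yh19 zh19) (kh xh1 yh3 zh34) (kh xh0 yh26 zh44) (kh xh1 yh6 zh40) (kh xh1 yh6 zh31) (kh xh1 yh9 zh38) (kh xh0 yh19 zh25) (kh xh0 yh19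 zh26) (kh xh1 yh3 zh41))
def f_h_1 : D2 → D3 → Pt := @D2.rec (fun _ => D3 → Pt) (@D3.rec (fun _ => Pt) (kh xh1 yh0 zh0) (kh xh1 yh0 zh1) (kh xh1 yh9 zh43) (kh xh1 yh0 zh3) (kh xh1 yh9 zh45) (kh xh0 yh19 zh33) (kh xh0 yh19 zh34) (kh xh0 yh19 zh45) (kh xh0 yh19 zh47) (kh xh0 yh19 zh48) (kh xh0 yh19 zh37) (kh xh1 yh10 zh3) (kh xh1 yh10 zh4) (kh xh0 yh19 zh39) (kh xh0 yh19 zh40) (kh xh1 yh9 zh46) (kh xh0 yh19 zh42) (kh xh1 yh9 zh47) (kh xh1 yh0 zh18) (kh xh1 yh9 zh48) (kh xh1 yh9 zh49) (kh xh1 yh0 zh21) (kh xh1 yh0 zh22) (kh xh1 yh9 zh50) (kh xh1 yh10 zh0) (kh xh1 yh10 zh1) (kh xh0 yh19 zh49) (kh xh1 yh10 zh25) (kh xh1 yh0 zh28) (kh xh1 yh0 zh29) (kh xh0 yh20 zh2) (kh xh1 yh10 zh31) (kh xh1 yh10 zh32) (kh xh1 yh0 zh33) (kh xh1 yh0 zh34) (kh xh1 yh0 zh35) (kh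 xh0 yh20 zh6) (kh xh0 yh20 zh7) (kh xh1 yh10 zh41) (kh xh1 yh10 zh42) (kh xh1 yh10 zh43) (kh xh1 yh0 zh41) (kh xh1 yh0 zh42) (kh xh1 yh11 zh2) (kh xh1 yh0 zh44) (kh xh1 yh0 zh45) (kh xh1 yh0 zh46) (kh xh1 yh0 zh47) (kh xh0 yh20 zh14) (kh xh0 yh20 zh15) (kh xh0 yh20 zh16)) (@D3.rec (fun _ => Pt) (kh xh1 yh11 zh8) (kh xh1 yh11 zh9) (kh xh1 yh11 zh17) (kh xh1 yh11 zh11) (kh xh1 yh11 zh12) (kh xh1 yh1 zh5) (kh xh1 yh11 zh24) (kh xh1 yh1 zh7) (kh xh1 yh11 zh28) (kh xh0 yh20 zh19) (kh xh1 yh1 zh10) (kh xh1 yh1 zh11) (kh xh1 yh1 zh12) (kh xh1 yh11 zh33) (kh xh0 yh20 zh23) (kh xh1 yh1 zh15) (kh xh1 yh11 zh36) (kh xh0 yh20 zh25) (kh xh1 yh1 zh18) (kh xh1 yh11 zh40) (kh xh0 yh20 zh28) (kh xh1 yh11 zh41) (kh xh1 yh1 zh22) (kh xh1 yh1 zh23) (kh xh0 yh20 zh31) (kh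 xh1 yh11 zh47) (kh xh1 yh1 zh26) (kh xh1 yh1 zh27) (kh xh0 yh20 zh35) (kh xh1 yh12 zh2) (kh xh1 yh12 zh3) (kh xh1 yh1 zh31) (kh xh1 yh1 zh32) (kh xh1 yh1 zh33) (kh xh0 yh20 zh39) (kh xh0 yh20 zh40) (kh xh0 yh24 zh11) (kh xh1 yh12 zh12) (kh xh1 yh12 zh13) (kh xh1 yh1 zh39) (kh xh1 yh1 zh40) (kh xh1 yh12 zh22) (kh xh1 yh1 zh42) (kh xh1 yh1 zh43) (kh xh1 yh1 zh44) (kh xh1 yh1 zh45) (kh xh0 yh21 zh21) (kh xh0 yh21 zh22) (kh xh0 yh21 zh23) (kh xh1 yh1 zh49) (kh xh1 yh1 zh50)) (@D3.rec (fun _ => Pt) (kh xh1 yh2 zh0) (kh xh0 yh21 zh24) (kh xh0 yh21 zh25) (kh xh1 yh12 zh42) (kh xh0 yh21 zh27) (kh xh0 yh21 zh28) (kh xh1 yh2 zh6) (kh xh1 yh2 zh7) (kh xh1 yh12 zh49) (kh xh1 yh2 zh9) (kh xh1 yh2 zh10) (kh xh0 yh21 zh29) (kh xh1 yh13 zh5) (kh xh0 yh21 zh31) (kh xh1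 yh13 zh9) (kh xh0 yh21 zh6) (kh xh0 yh21 zh34) (kh xh0 yh21 zh35) (kh xh1 yh2 zh18) (kh xh1 yh13 zh16) (kh xh1 yh2 zh20) (kh xh1 yh13 zh20) (kh xh0 yh21 zh11) (kh xh1 yh2 zh23) (kh xh1 yh2 zh24) (kh xh1 yh13 zh25) (kh xh0 yh21 zh37) (kh xh1 yh13 zh28) (kh xh1 yh13 zh31) (kh xh0 yh21 zh15) (kh xh0 yh21 zh40) (kh xh1 yh13 zh35) (kh xh1 yh13 zh37) (kh xh0 yh21 zh17) (kh xh1 yh13 zh21) (kh xh0 yh21 zh45) (kh xh1 yh12 zh28) (kh xh1 yh12 zh29) (kh xh1 yh13 zh43) (kh xh1 yh12 zh31) (kh xh1 yh12 zh32) (kh xh1 yh12 zh38) (kh xh1 yh13 zh50) (kh xh1 yh12 zh40) (kh xh1 yh14 zh3) (kh xh0 yh21 zh26) (kh xh1 yh12 zh43) (kh xh1 yh12 zh44) (kh xh1 yh14 zh8) (kh xh1 yh13 zh2) (kh xh1 yh14 zh11)) (@D3.rec (fun _ => Pt) (kh xh1 yh14 zh14) (kh xh0 yh21 zh30) (kh xh1 yh13 zh6)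 (kh xh1 yh14 zh18) (kh xh1 yh14 zh20) (kh xh0 yh21 zh32) (kh xh1 yh3 zh6) (kh xh1 yh13 zh11) (kh xh1 yh14 zh24) (kh xh0 yh21 zh36) (kh xh1 yh13 zh26) (kh xh1 yh14 zh28) (kh xh1 yh14 zh30) (kh xh0 yh21 zh38) (kh xh1 yh3 zh14) (kh xh1 yh13 zh33) (kh xh1 yh14 zh34) (kh xh0 yh21 zh41) (kh xh1 yh14 zh37) (kh xh0 yh21 zh42) (kh xh1 yh3 zh20) (kh xh1 yh14 zh40) (kh xh1 yh14 zh41) (kh xh0 yh21 zh46) (kh xh1 yh3 zh24) (kh xh1 yh3 zh25) (kh xh0 yh21 zh48) (kh xh1 yh3 zh27) (kh xh1 yh3 zh28) (kh xh1 yh3 zh29) (kh xh1 yh15 zh0) (kh xh0 yh22 zh1) (kh xh1 yh3 zh32) (kh xh1 yh3 zh33) (kh xh0 yh26 zh43) (kh xh1 yh15 zh6) (kh xh0 yh22 zh5) (kh xh1 yh15 zh7) (kh xh1 yh3 zh38) (kh xh1 yh3 zh39) (kh xh1 yh15 zh13) (kh xh0 yh26 zh50) (kh xh0 yh22 zh10) (kh xh0 yh22 zh12) (kh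 xh0 yh26 zh40) (kh xh1 yh15 zh16) (kh xh1 yh3 zh46) (kh xh1 yh3 zh47) (kh xh1 yh3 zh48) (kh xh0 yh22 zh17) (kh xh0 yh26 zh33)) (@D3.rec (fun _ => Pt) (kh xh1 yh15 zh25) (kh xh1 yh4 zh1) (kh xh1 yh4 zh2) (kh xh1 yh4 zh3) (kh xh0 yh22 zh22) (kh xh0 yh24 zh3) (kh xh0 yh26 zh18) (kh xh1 yh15 zh34) (kh xh1 yh4 zh8) (kh xh1 yh4 zh9) (kh xh1 yh15 zh43) (kh xh1 yh4 zh11) (kh xh1 yh4 zh12) (kh xh0 yh22 zh29) (kh xh0 yh23 zh36) (kh xh0 yh25 zh35) (kh xh0 yh26 zh26) (kh xh1 yh15 zh46) (kh xh1 yh4 zh18) (kh xh1 yh16 zh5) (kh xh1 yh4 zh20) (kh xh1 yh16 zh9) (kh xh0 yh22 zh32) (kh xh1 yh4 zh23) (kh xh1 yh4 zh24) (kh xh1 yh4 zh25) (kh xh1 yh4 zh26) (kh xh1 yh4 zh27) (kh xh0 yh23 zh24) (kh xh0 yh23 zh25) (kh xh1 yh16 zh21) (kh xh0 yh23 zh27) (kh xh0 yh23 zh28) (kh xh1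 yh4 zh33) (kh xh1 yh4 zh34) (kh xh1 yh16 zh28) (kh xh1 yh4 zh36) (kh xh1 yh4 zh37) (kh xh0 yh23 zh29) (kh xh1 yh16 zh35) (kh xh0 yh23 zh31) (kh xh1 yh16 zh39) (kh xh0 yh22 zh45) (kh xh0 yh23 zh34) (kh xh0 yh23 zh35) (kh xh1 yh4 zh45) (kh xh1 yh16 zh46) (kh xh1 yh4 zh47) (kh xh1 yh16 zh50) (kh xh0 yh22 zh50) (kh xh1 yh4 zh50)) (@D3.rec (fun _ => Pt) (kh xh1 yh5 zh0) (kh xh1 yh15 zh47) (kh xh0 yh23 zh37) (kh xh1 yh17 zh6) (kh xh1 yh17 zh9) (kh xh0 yh23 zh3) (kh xh0 yh23 zh41) (kh xh1 yh17 zh12) (kh xh1 yh17 zh14) (kh xh0 yh23 zh5) (kh xh1 yh17 zh0) (kh xh0 yh23 zh45) (kh xh1 yh17 zh18) (kh xh1 yh5 zh13) (kh xh1 yh17 zh21) (kh xh1 yh17 zh24) (kh xh0 yh23 zh10) (kh xh1 yh5 zh17) (kh xh1 yh17 zh27) (kh xh1 yh17 zh29) (kh xh0 yh23 zh12) (kh xh1 yh5 zh21) (kh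 xh1 yh5 zh22) (kh xh1 yh5 zh23) (kh xh0 yh23 zh46) (kh xh1 yh5 zh25) (kh xh1 yh5 zh26) (kh xh1 yh5 zh27) (kh xh0 yh23 zh47) (kh xh1 yh5 zh29) (kh xh1 yh5 zh30) (kh xh1 yh16 zh17) (kh xh1 yh17 zh45) (kh xh1 yh16 zh19) (kh xh1 yh17 zh49) (kh xh0 yh23 zh26) (kh xh1 yh16 zh22) (kh xh1 yh16 zh23) (kh xh1 yh15 zh35) (kh xh1 yh16 zh32) (kh xh1 yh18 zh5) (kh xh1 yh18 zh8) (kh xh0 yh23 zh30) (kh xh1 yh16 zh36) (kh xh1 yh18 zh11) (kh xh1 yh18 zh13) (kh xh0 yh23 zh32) (kh xh1 yh5 zh47) (kh xh1 yh16 zh41) (kh xh1 yh12 zh14) (kh xh1 yh15 zh48)) (@D3.rec (fun _ => Pt) (kh xh1 yh17 zh4) (kh xh1 yh18 zh19) (kh xh0 yh23 zh38) (kh xh1 yh18 zh22) (kh xh0 yh23 zh39) (kh xh1 yh17 zh10) (kh xh1 yh18 zh23) (kh xh0 yh23 zh42) (kh xh1 yh6 zh8) (kh xh1 yh17 zh34) (kh xh1 yh15 zh26)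 (kh xh1 yh6 zh11) (kh xh1 yh18 zh29) (kh xh1 yh18 zh32) (kh xh0 yh23 zh49) (kh xh1 yh6 zh15) (kh xh1 yh18 zh34) (kh xh1 yh18 zh35) (kh xh0 yh24 zh0) (kh xh1 yh6 zh19) (kh xh1 yh12 zh4) (kh xh1 yh15 zh17) (kh xh1 yh18 zh40) (kh xh0 yh24 zh5) (kh xh1 yh18 zh42) (kh xh0 yh24 zh6) (kh xh0 yh24 zh8) (kh xh1 yh6 zh27) (kh xh1 yh6 zh28) (kh xh1 yh6 zh29) (kh xh1 yh6 zh30) (kh xh0 yh26 zh46) (kh xh1 yh6 zh32) (kh xh1 yh19 zh0) (kh xh0 yh24 zh15) (kh xh1 yh19 zh1) (kh xh1 yh6 zh36) (kh xh1 yh6 zh37) (kh xh1 yh6 zh38) (kh xh1 yh19 zh8) (kh xh0 yh26 zh45) (kh xh0 yh24 zh21) (kh xh0 yh24 zh23) (kh xh0 yh26 zh35) (kh xh1 yh19 zh11) (kh xh1 yh6 zh45) (kh xh1 yh6 zh46) (kh xh1 yh6 zh47) (kh xh1 yh19 zh19) (kh xh0 yh24 zh27) (kh xh1 yh6 zh50)) (@D3.rec (fun _ => Pt) (kh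 xh1 yh7 zh0) (kh xh0 yh24 zh32) (kh xh0 yh26 zh41) (kh xh1 yh19 zh21) (kh xh1 yh7 zh4) (kh xh1 yh19 zh28) (kh xh1 yh7 zh6) (kh xh1 yh7 zh7) (kh xh0 yh24 zh38) (kh xh0 yh26 zh12) (kh xh1 yh19 zh31) (kh xh1 yh7 zh11) (kh xh1 yh19 zh38) (kh xh1 yh7 zh13) (kh xh1 yh7 zh14) (kh xh0 yh24 zh44) (kh xh0 yh25 zh22) (kh xh0 yh26 zh20) (kh xh1 yh19 zh41) (kh xh1 yh19 zh47) (kh xh1 yh7 zh20) (kh xh1 yh20 zh0) (kh xh0 yh24 zh46) (kh xh1 yh7 zh23) (kh xh1 yh7 zh24) (kh xh0 yh25 zh1) (kh xh0 yh25 zh37) (kh xh0 yh26 zh28) (kh xh1 yh20 zh2) (kh xh0 yh25 zh29) (kh xh1 yh20 zh9) (kh xh0 yh25 zh2) (kh xh1 yh7 zh32) (kh xh1 yh20 zh12) (kh xh1 yh20 zh14) (kh xh0 yh25 zh4) (kh xh1 yh7 zh36) (kh xh1 yh7 zh37) (kh xh1 yh7 zh38) (kh xh1 yh20 zh19) (kh xh1 yh7 zh40) (kh xh1 yh7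 zh41) (kh xh0 yh26 zh11) (kh xh1 yh19 zh32) (kh xh0 yh26 zh13) (kh xh1 yh20 zh28) (kh xh0 yh25 zh13) (kh xh0 yh26 zh16) (kh xh0 yh26 zh17) (kh xh1 yh7 zh49) (kh xh1 yh19 zh45)) (@D3.rec (fun _ => Pt) (kh xh1 yh8 zh0) (kh xh1 yh20 zh36) (kh xh0 yh25 zh18) (kh xh1 yh8 zh3) (kh xh1 yh8 zh4) (kh xh1 yh15 zh36) (kh xh0 yh26 zh19) (kh xh1 yh19 zh42) (kh xh0 yh26 zh21) (kh xh1 yh20 zh44) (kh xh1 yh20 zh46) (kh xh0 yh25 zh24) (kh xh0 yh26 zh25) (kh xh1 yh16 zh10) (kh xh1 yh8 zh14) (kh xh1 yh20 zh6) (kh xh1 yh8 zh16) (kh xh1 yh21 zh2) (kh xh1 yh21 zh4) (kh xh0 yh25 zh31) (kh xh1 yh8 zh20) (kh xh1 yh15 zh49) (kh xh0 yh26 zh27) (kh xh1 yh20 zh3) (kh xh1 yh20 zh4) (kh xh0 yh26 zh29) (kh xh1 yh21 zh12) (kh xh0 yh25 zh39) (kh xh1 yh21 zh13) (kh xh0 yh25 zh40) (kh xh1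 yh21 zh16) (kh xh1 yh21 zh19) (kh xh0 yh25 zh43) (kh xh1 yh8 zh33) (kh xh1 yh21 zh23) (kh xh0 yh25 zh45) (kh xh1 yh21 zh26) (kh xh1 yh21 zh28) (kh xh0 yh25 zh46) (kh xh1 yh8 zh39) (kh xh1 yh21 zh31) (kh xh0 yh25 zh49) (kh xh1 yh21 zh33) (kh xh0 yh25 zh50) (kh xh1 yh8 zh44) (kh xh1 yh8 zh45) (kh xh1 yh8 zh46) (kh xh1 yh8 zh47) (kh xh0 yh26 zh32) (kh xh1 yh8 zh49) (kh xh1 yh8 zh50)) (@D3.rec (fun _ => Pt) (kh xh1 yh9 zh0) (kh xh1 yh9 zh1) (kh xh1 yh9 zh2) (kh xh1 yh9 zh3) (kh xh1 yh15 zh27) (kh xh1 yh20 zh23) (kh xh1 yh19 zh33) (kh xh1 yh20 zh25) (kh xh1 yh22 zh0) (kh xh1 yh22 zh2) (kh xh0 yh26 zh14) (kh xh1 yh20 zh29) (kh xh1 yh15 zh37) (kh xh1 yh20 zh39) (kh xh1 yh19 zh23) (kh xh1 yh19 zh43) (kh xh1 yh20 zh42) (kh xh1 yh22 zh9) (kh xh0 yh26 zh22) (kh xh1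 yh22 zh11) (kh xh0 yh26 zh23) (kh xh1 yh15 zh50) (kh xh1 yh21 zh7) (kh xh1 yh20 zh5) (kh xh0 yh26 zh30) (kh xh1 yh15 zh8) (kh xh1 yh9 zh26) (kh xh1 yh19 zh12) (kh xh1 yh19 zh2) (kh xh1 yh22 zh17) (kh xh0 yh26 zh37) (kh xh0 yh26 zh38) (kh xh1 yh15 zh18) (kh xh1 yh9 zh33) (kh xh1 yh15 zh5) (kh xh1 yh14 zh48) (kh xh1 yh18 zh49) (kh xh1 yh22 zh22) (kh xh0 yh26 zh47) (kh xh1 yh9 zh39) (kh xh1 yh9 zh40) (kh xh1 yh9 zh41) (kh xh1 yh22 zh27) (kh xh1 yh0 zh2) (kh xh1 yh22 zh29) (kh xh1 yh0 zh4) (kh xh1 yh0 zh15) (kh xh1 yh0 zh17) (kh xh1 yh0 zh19) (kh xh1 yh0 zh20) (kh xh1 yh0 zh23)) (@D3.rec (fun _ => Pt) (kh xh1 yh0 zh24) (kh xh1 yh0 zh25) (kh xh1 yh22 zh43) (kh xh1 yh0 zh11) (kh xh1 yh0 zh12) (kh xh1 yh22 zh30) (kh xh1 yh10 zh6) (kh xh1 yh22 zh31) (kh xh1 yh22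 zh32) (kh xh1 yh10 zh9) (kh xh1 yh22 zh33) (kh xh1 yh22 zh34) (kh xh1 yh10 zh12) (kh xh1 yh10 zh13) (kh xh1 yh22 zh35) (kh xh1 yh22 zh36) (kh xh1 yh22 zh37) (kh xh1 yh10 zh17) (kh xh1 yh10 zh18) (kh xh1 yh10 zh19) (kh xh1 yh22 zh38) (kh xh1 yh22 zh39) (kh xh1 yh23 zh23) (kh xh1 yh22 zh41) (kh xh1 yh22 zh42) (kh xh1 yh0 zh27) (kh xh1 yh23 zh26) (kh xh1 yh23 zh27) (kh xh1 yh10 zh28) (kh xh1 yh10 zh29) (kh xh1 yh10 zh30) (kh xh1 yh0 zh31) (kh xh1 yh0 zh32) (kh xh1 yh23 zh36) (kh xh1 yh23 zh37) (kh xh1 yh23 zh38) (kh xh1 yh10 zh36) (kh xh1 yh10 zh37) (kh xh1 yh23 zh48) (kh xh1 yh10 zh39) (kh xh1 yh10 zh40) (kh xh1 yh0 zh38) (kh xh1 yh0 zh39) (kh xh1 yh0 zh40) (kh xh1 yh24 zh0) (kh xh1 yh24 zh1) (kh xh1 yh24 zh9) (kh xh1 yh24 zh3) (kh xh1 yh24 zh4) (kh xh1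 yh10 zh49) (kh xh1 yh24 zh16)) (@D3.rec (fun _ => Pt) (kh xh1 yh11 zh0) (kh xh1 yh24 zh20) (kh xh1 yh0 zh43) (kh xh1 yh11 zh3) (kh xh1 yh11 zh4) (kh xh1 yh11 zh5) (kh xh1 yh11 zh6) (kh xh1 yh11 zh7) (kh xh1 yh1 zh0) (kh xh1 yh1 zh1) (kh xh1 yh24 zh32) (kh xh1 yh1 zh3) (kh xh1 yh1 zh4) (kh xh1 yh24 zh28) (kh xh1 yh24 zh39) (kh xh1 yh24 zh30) (kh xh1 yh24 zh43) (kh xh1 yh1 zh2) (kh xh1 yh24 zh33) (kh xh1 yh24 zh34) (kh xh1 yh24 zh48) (kh xh1 yh11 zh21) (kh xh1 yh25 zh0) (kh xh1 yh25 zh3) (kh xh1 yh1 zh6) (kh xh1 yh11 zh25) (kh xh1 yh25 zh7) (kh xh1 yh25 zh9) (kh xh1 yh1 zh8) (kh xh1 yh24 zh44) (kh xh1 yh11 zh30) (kh xh1 yh11 zh31) (kh xh1 yh25 zh13) (kh xh1 yh1 zh13) (kh xh1 yh11 zh34) (kh xh1 yh25 zh17) (kh xh1 yh1 zh16) (kh xh1 yh25 zh18) (kh xh1 yh11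 zh38) (kh xh1 yh11 zh39) (kh xh1 yh1 zh19) (kh xh1 yh1 zh21) (kh xh1 yh25 zh25) (kh xh1 yh25 zh26) (kh xh1 yh11 zh44) (kh xh1 yh11 zh45) (kh xh1 yh11 zh46) (kh xh1 yh1 zh25) (kh xh1 yh25 zh35) (kh xh1 yh25 zh36) (kh xh1 yh11 zh50)) (@D3.rec (fun _ => Pt) (kh xh1 yh12 zh0) (kh xh1 yh12 zh1) (kh xh1 yh1 zh29) (kh xh1 yh1 zh30) (kh xh1 yh6 zh20) (kh xh1 yh25 zh45) (kh xh1 yh25 zh46) (kh xh1 yh12 zh7) (kh xh1 yh12 zh8) (kh xh1 yh26 zh4) (kh xh1 yh12 zh10) (kh xh1 yh12 zh11) (kh xh1 yh1 zh37) (kh xh1 yh1 zh38) (kh xh1 yh5 zh49) (kh xh1 yh26 zh13) (kh xh1 yh26 zh8) (kh xh1 yh26 zh9) (kh xh1 yh12 zh18) (kh xh1 yh26 zh20) (kh xh1 yh12 zh20) (kh xh1 yh26 zh24) (kh xh1 yh1 zh41) (kh xh1 yh12 zh23) (kh xh1 yh12 zh24) (kh xh1 yh12 zh25) (kh xh1 yh12 zh26) (kh xh1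 yh12 zh27) (kh xh1 yh2 zh36) (kh xh1 yh2 zh37) (kh xh1 yh26 zh36) (kh xh1 yh2 zh39) (kh xh1 yh2 zh40) (kh xh1 yh12 zh33) (kh xh1 yh12 zh34) (kh xh1 yh26 zh43) (kh xh1 yh12 zh36) (kh xh1 yh12 zh37) (kh xh1 yh2 zh41) (kh xh1 yh26 zh50) (kh xh1 yh2 zh43) (kh xh2 yh0 zh3) (kh xh1 yh2 zh3) (kh xh1 yh2 zh46) (kh xh1 yh2 zh47) (kh xh1 yh12 zh45) (kh xh2 yh0 zh10) (kh xh1 yh12 zh47) (kh xh2 yh0 zh14) (kh xh1 yh2 zh8) (kh xh1 yh12 zh50)) (@D3.rec (fun _ => Pt) (kh xh1 yh13 zh0) (kh xh2 yh0 zh19) (kh xh1 yh2 zh49) (kh xh2 yh0 zh22) (kh xh2 yh0 zh25) (kh xh1 yh2 zh12) (kh xh1 yh3 zh2) (kh xh2 yh0 zh29) (kh xh2 yh0 zh31) (kh xh1 yh2 zh14) (kh xh2 yh0 zh15) (kh xh1 yh3 zh7) (kh xh1 yh24 zh37) (kh xh1 yh13 zh13) (kh xh1 yh24 zh35) (kh xh2 yh0 zh38) (kh xh1 yh2 zh19)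 (kh xh1 yh13 zh17) (kh xh2 yh0 zh41) (kh xh2 yh0 zh43) (kh xh1 yh2 zh21) (kh xh1 yh2 zh34) (kh xh1 yh13 zh22) (kh xh1 yh25 zh4) (kh xh2 yh0 zh48) (kh xh1 yh2 zh25) (kh xh1 yh3 zh10) (kh xh2 yh1 zh1) (kh xh1 yh2 zh27) (kh xh2 yh1 zh3) (kh xh2 yh1 zh5) (kh xh1 yh2 zh28) (kh xh1 yh24 zh46) (kh xh1 yh3 zh15) (kh xh2 yh1 zh9) (kh xh1 yh2 zh31) (kh xh2 yh1 zh12) (kh xh1 yh2 zh32) (kh xh2 yh0 zh44) (kh xh1 yh26 zh32) (kh xh2 yh1 zh18) (kh xh1 yh26 zh34) (kh xh2 yh1 zh22) (kh xh1 yh2 zh38) (kh xh1 yh26 zh37) (kh xh1 yh26 zh38) (kh xh2 yh1 zh27) (kh xh1 yh26 zh47) (kh xh2 yh1 zh30) (kh xh2 yh1 zh33) (kh xh1 yh2 zh42)) (@D3.rec (fun _ => Pt) (kh xh2 yh0 zh0) (kh xh2 yh1 zh37) (kh xh2 yh1 zh39) (kh xh1 yh2 zh44) (kh xh1 yh14 zh4) (kh xh2 yh0 zh5) (kh xh2 yh1 zh42)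 (kh xh2 yh1 zh45) (kh xh1 yh2 zh48) (kh xh2 yh0 zh20) (kh xh2 yh1 zh50) (kh xh1 yh2 zh50) (kh xh2 yh2 zh3) (kh xh2 yh2 zh5) (kh xh1 yh3 zh0) (kh xh1 yh14 zh15) (kh xh2 yh0 zh27) (kh xh2 yh2 zh9) (kh xh1 yh3 zh3) (kh xh2 yh2 zh12) (kh xh1 yh3 zh4) (kh xh1 yh14 zh21) (kh xh2 yh2 zh15) (kh xh2 yh2 zh17) (kh xh1 yh3 zh8) (kh xh1 yh14 zh25) (kh xh2 yh0 zh49) (kh xh2 yh2 zh21) (kh xh1 yh3 zh11) (kh xh2 yh2 zh24) (kh xh1 yh3 zh12) (kh xh1 yh14 zh31) (kh xh2 yh2 zh27) (kh xh2 yh2 zh28) (kh xh1 yh3 zh16) (kh xh2 yh2 zh10) (kh xh1 yh14 zh36) (kh xh1 yh3 zh18) (kh xh1 yh14 zh38) (kh xh2 yh2 zh35) (kh xh1 yh3 zh21) (kh xh1 yh3 zh22) (kh xh1 yh14 zh42) (kh xh1 yh14 zh43) (kh xh1 yh14 zh44) (kh xh2 yh2 zh34) (kh xh1 yh14 zh46) (kh xh1 yh14 zh47) (kh xh1 yh9 zh35) (kh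 xh1 yh14 zh49) (kh xh2 yh2 zh45)) (@D3.rec (fun _ => Pt) (kh xh1 yh3 zh30) (kh xh2 yh2 zh46) (kh xh1 yh15 zh2) (kh xh1 yh15 zh3) (kh xh2 yh3 zh1) (kh xh1 yh9 zh34) (kh xh1 yh3 zh35) (kh xh1 yh3 zh37) (kh xh1 yh9 zh25) (kh xh2 yh3 zh4) (kh xh1 yh15 zh10) (kh xh1 yh15 zh11) (kh xh1 yh15 zh12) (kh xh1 yh3 zh40) (kh xh1 yh15 zh14) (kh xh1 yh15 zh15) (kh xh1 yh3 zh45) (kh xh1 yh6 zh21) (kh xh1 yh9 zh32) (kh xh2 yh3 zh14) (kh xh1 yh15 zh20) (kh xh1 yh15 zh21) (kh xh2 yh3 zh23) (kh xh1 yh15 zh23) (kh xh1 yh15 zh24) (kh xh1 yh4 zh0) (kh xh1 yh6 zh10) (kh xh1 yh9 zh4) (kh xh2 yh3 zh26) (kh xh1 yh15 zh29) (kh xh1 yh15 zh30) (kh xh2 yh3 zh35) (kh xh1 yh15 zh32) (kh xh1 yh15 zh33) (kh xh1 yh4 zh7) (kh xh1 yh5 zh38) (kh xh1 yh8 zh5) (kh xh1 yh9 zh12) (kh xh2 yh3 zh38)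 (kh xh1 yh15 zh39) (kh xh2 yh3 zh48) (kh xh1 yh15 zh41) (kh xh2 yh4 zh1) (kh xh1 yh4 zh10) (kh xh1 yh15 zh44) (kh xh1 yh15 zh45) (kh xh1 yh4 zh17) (kh xh1 yh5 zh1) (kh xh1 yh5 zh50) (kh xh1 yh8 zh21) (kh xh1 yh9 zh21)) (@D3.rec (fun _ => Pt) (kh xh2 yh4 zh4) (kh xh2 yh4 zh13) (kh xh1 yh16 zh2) (kh xh2 yh4 zh16) (kh xh2 yh4 zh19) (kh xh1 yh4 zh19) (kh xh1 yh16 zh6) (kh xh2 yh4 zh23) (kh xh2 yh4 zh25) (kh xh1 yh4 zh21) (kh xh1 yh8 zh13) (kh xh1 yh16 zh11) (kh xh1 yh16 zh12) (kh xh1 yh16 zh13) (kh xh2 yh4 zh31) (kh xh1 yh16 zh15) (kh xh1 yh16 zh16) (kh xh1 yh5 zh31) (kh xh2 yh4 zh38) (kh xh1 yh5 zh33) (kh xh2 yh4 zh42) (kh xh1 yh4 zh30) (kh xh1 yh5 zh36) (kh xh1 yh5 zh37) (kh xh1 yh16 zh24) (kh xh2 yh4 zh49) (kh xh1 yh16 zh26) (kh xh2 yh5 zh2) (kh xh1 yh4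 zh35) (kh xh1 yh16 zh29) (kh xh1 yh16 zh30) (kh xh2 yh3 zh39) (kh xh1 yh5 zh39) (kh xh2 yh5 zh9) (kh xh2 yh5 zh12) (kh xh1 yh4 zh39) (kh xh1 yh5 zh43) (kh xh2 yh5 zh15) (kh xh2 yh5 zh17) (kh xh1 yh4 zh41) (kh xh2 yh5 zh3) (kh xh1 yh5 zh48) (kh xh2 yh4 zh20) (kh xh1 yh16 zh43) (kh xh2 yh5 zh23) (kh xh2 yh5 zh26) (kh xh1 yh4 zh46) (kh xh1 yh16 zh47) (kh xh2 yh5 zh29) (kh xh2 yh5 zh31) (kh xh1 yh4 zh48)) (@D3.rec (fun _ => Pt) (kh xh1 yh5 zh10) (kh xh1 yh17 zh1) (kh xh2 yh4 zh5) (kh xh2 yh4 zh6) (kh xh1 yh6 zh0) (kh xh2 yh5 zh39) (kh xh1 yh5 zh3) (kh xh2 yh5 zh42) (kh xh2 yh5 zh44) (kh xh1 yh5 zh4) (kh xh1 yh6 zh5) (kh xh2 yh5 zh47) (kh xh1 yh5 zh7) (kh xh2 yh5 zh49) (kh xh1 yh5 zh8) (kh xh2 yh5 zh32) (kh xh1 yh24 zh29) (kh xh2 yh6 zh3) (kh xh1 yh5 zh12)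 (kh xh1 yh17 zh19) (kh xh2 yh6 zh7) (kh xh1 yh5 zh14) (kh xh2 yh6 zh9) (kh xh2 yh6 zh11) (kh xh1 yh5 zh15) (kh xh1 yh17 zh25) (kh xh2 yh6 zh14) (kh xh1 yh5 zh18) (kh xh2 yh6 zh16) (kh xh1 yh5 zh19) (kh xh1 yh17 zh30) (kh xh1 yh17 zh31) (kh xh1 yh17 zh32) (kh xh1 yh17 zh33) (kh xh1 yh6 zh9) (kh xh1 yh17 zh35) (kh xh1 yh17 zh36) (kh xh1 yh17 zh37) (kh xh1 yh17 zh38) (kh xh1 yh17 zh39) (kh xh1 yh17 zh40) (kh xh2 yh3 zh27) (kh xh2 yh4 zh35) (kh xh2 yh6 zh32) (kh xh2 yh6 zh35) (kh xh1 yh5 zh32) (kh xh2 yh4 zh39) (kh xh2 yh6 zh38) (kh xh2 yh6 zh40) (kh xh1 yh5 zh34) (kh xh1 yh17 zh50)) (@D3.rec (fun _ => Pt) (kh xh2 yh4 zh44) (kh xh1 yh25 zh47) (kh xh2 yh3 zh40) (kh xh2 yh5 zh7) (kh xh2 yh6 zh48) (kh xh1 yh5 zh40) (kh xh2 yh7 zh0) (kh xh2 yh7 zh2) (kh xh1 yh5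 zh41) (kh xh2 yh5 zh13) (kh xh2 yh7 zh4) (kh xh1 yh5 zh44) (kh xh2 yh7 zh7) (kh xh1 yh5 zh45) (kh xh1 yh18 zh14) (kh xh1 yh26 zh11) (kh xh2 yh4 zh7) (kh xh2 yh5 zh36) (kh xh2 yh7 zh12) (kh xh1 yh6 zh1) (kh xh2 yh2 zh0) (kh xh2 yh7 zh15) (kh xh1 yh6 zh3) (kh xh1 yh6 zh6) (kh xh1 yh18 zh24) (kh xh1 yh25 zh37) (kh xh2 yh3 zh5) (kh xh1 yh18 zh27) (kh xh2 yh7 zh22) (kh xh1 yh6 zh12) (kh xh2 yh7 zh25) (kh xh2 yh7 zh26) (kh xh1 yh6 zh13) (kh xh2 yh7 zh28) (kh xh1 yh6 zh16) (kh xh1 yh6 zh17) (kh xh1 yh18 zh36) (kh xh1 yh25 zh27) (kh xh2 yh3 zh15) (kh xh2 yh7 zh34) (kh xh1 yh6 zh22) (kh xh1 yh18 zh41) (kh xh1 yh6 zh24) (kh xh1 yh18 zh43) (kh xh1 yh18 zh44) (kh xh1 yh18 zh45) (kh xh1 yh18 zh46) (kh xh2 yh7 zh44) (kh xh1 yh18 zh48) (kh xh1 yh9 zh36) (kh xh2 yh7 zh47))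 (@D3.rec (fun _ => Pt) (kh xh1 yh6 zh33) (kh xh1 yh6 zh35) (kh xh1 yh9 zh28) (kh xh2 yh7 zh49) (kh xh1 yh19 zh4) (kh xh1 yh19 zh5) (kh xh1 yh19 zh6) (kh xh2 yh8 zh6) (kh xh1 yh6 zh39) (kh xh1 yh19 zh9) (kh xh1 yh19 zh10) (kh xh1 yh6 zh44) (kh xh1 yh9 zh27) (kh xh2 yh8 zh8) (kh xh1 yh19 zh14) (kh xh2 yh8 zh15) (kh xh1 yh19 zh16) (kh xh1 yh19 zh17) (kh xh2 yh8 zh18) (kh xh1 yh6 zh48) (kh xh1 yh19 zh20) (kh xh1 yh7 zh3) (kh xh1 yh19 zh22) (kh xh1 yh9 zh14) (kh xh2 yh8 zh20) (kh xh2 yh8 zh26) (kh xh1 yh19 zh26) (kh xh2 yh8 zh30) (kh xh1 yh7 zh5) (kh xh1 yh19 zh29) (kh xh1 yh19 zh30) (kh xh1 yh7 zh10) (kh xh1 yh7 zh43) (kh xh1 yh9 zh6) (kh xh2 yh8 zh32) (kh xh2 yh8 zh38) (kh xh1 yh19 zh36) (kh xh2 yh8 zh42) (kh xh1 yh7 zh12) (kh xh1 yh19 zh39) (kh xh1 yh19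 zh40) (kh xh1 yh7 zh18) (kh xh1 yh8 zh7) (kh xh1 yh9 zh15) (kh xh2 yh8 zh44) (kh xh1 yh7 zh50) (kh xh2 yh9 zh0) (kh xh1 yh7 zh19) (kh xh1 yh19 zh48) (kh xh2 yh9 zh3) (kh xh2 yh9 zh5)) (@D3.rec (fun _ => Pt) (kh xh1 yh7 zh21) (kh xh1 yh20 zh1) (kh xh1 yh7 zh28) (kh xh1 yh8 zh23) (kh xh1 yh8 zh24) (kh xh1 yh9 zh23) (kh xh1 yh8 zh15) (kh xh2 yh9 zh11) (kh xh2 yh9 zh13) (kh xh1 yh7 zh30) (kh xh1 yh20 zh10) (kh xh2 yh9 zh16) (kh xh1 yh7 zh33) (kh xh2 yh9 zh18) (kh xh1 yh7 zh34) (kh xh1 yh20 zh15) (kh xh2 yh8 zh36) (kh xh1 yh20 zh17) (kh xh2 yh9 zh25) (kh xh1 yh7 zh39) (kh xh1 yh20 zh20) (kh xh1 yh20 zh21) (kh xh2 yh3 zh28) (kh xh1 yh9 zh5) (kh xh2 yh8 zh33) (kh xh1 yh9 zh7) (kh xh2 yh8 zh41) (kh xh2 yh8 zh40) (kh xh1 yh7 zh45) (kh xh1 yh9 zh11) (kh xh2 yh4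 zh2) (kh xh1 yh20 zh31) (kh xh2 yh8 zh48) (kh xh1 yh20 zh33) (kh xh2 yh9 zh38) (kh xh2 yh9 zh40) (kh xh1 yh8 zh1) (kh xh1 yh20 zh37) (kh xh2 yh3 zh41) (kh xh1 yh9 zh13) (kh xh2 yh8 zh45) (kh xh2 yh8 zh46) (kh xh1 yh9 zh16) (kh xh2 yh9 zh4) (kh xh1 yh8 zh9) (kh xh2 yh9 zh2) (kh xh1 yh8 zh10) (kh xh2 yh4 zh26) (kh xh1 yh20 zh48) (kh xh2 yh9 zh8) (kh xh2 yh9 zh9)) (@D3.rec (fun _ => Pt) (kh xh1 yh21 zh0) (kh xh2 yh10 zh2) (kh xh1 yh8 zh17) (kh xh2 yh10 zh4) (kh xh1 yh8 zh18) (kh xh2 yh4 zh8) (kh xh2 yh4 zh9) (kh xh1 yh9 zh22) (kh xh2 yh9 zh6) (kh xh2 yh9 zh7) (kh xh2 yh9 zh15) (kh xh2 yh9 zh14) (kh xh1 yh8 zh26) (kh xh1 yh8 zh28) (kh xh1 yh24 zh25) (kh xh2 yh10 zh12) (kh xh1 yh8 zh30) (kh xh2 yh10 zh14) (kh xh2 yh10 zh16) (kh xh1 yh8 zh31) (kh xh1 yh21 zh20)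 (kh xh2 yh10 zh19) (kh xh2 yh10 zh21) (kh xh1 yh8 zh34) (kh xh1 yh21 zh24) (kh xh2 yh10 zh25) (kh xh1 yh8 zh36) (kh xh2 yh10 zh27) (kh xh1 yh8 zh37) (kh xh2 yh10 zh29) (kh xh2 yh10 zh30) (kh xh1 yh8 zh40) (kh xh2 yh10 zh3) (kh xh1 yh8 zh42) (kh xh1 yh21 zh34) (kh xh1 yh21 zh35) (kh xh1 yh21 zh36) (kh xh1 yh21 zh37) (kh xh1 yh21 zh38) (kh xh2 yh10 zh32) (kh xh1 yh21 zh40) (kh xh1 yh21 zh41) (kh xh1 yh21 zh42) (kh xh1 yh21 zh43) (kh xh1 yh21 zh44) (kh xh2 yh3 zh29) (kh xh2 yh9 zh28) (kh xh2 yh8 zh10) (kh xh2 yh8 zh34) (kh xh2 yh9 zh31) (kh xh2 yh8 zh14)) (@D3.rec (fun _ => Pt) (kh xh1 yh9 zh8) (kh xh2 yh8 zh28) (kh xh1 yh9 zh9) (kh xh2 yh3 zh17) (kh xh2 yh3 zh42) (kh xh2 yh9 zh43) (kh xh2 yh8 zh22) (kh xh2 yh8 zh47) (kh xh2 yh8 zh29) (kh xh1 yh9 zh17) (kh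 xh1 yh22 zh10) (kh xh1 yh9 zh19) (kh xh2 yh4 zh10) (kh xh2 yh3 zh6) (kh xh2 yh2 zh47) (kh xh2 yh7 zh50) (kh xh2 yh8 zh2) (kh xh1 yh9 zh29) (kh xh1 yh22 zh18) (kh xh1 yh22 zh19) (kh xh2 yh2 zh43) (kh xh2 yh7 zh46) (kh xh1 yh9 zh37) (kh xh1 yh22 zh23) (kh xh1 yh22 zh24) (kh xh1 yh22 zh25) (kh xh2 yh11 zh7) (kh xh1 yh9 zh42) (kh xh1 yh22 zh28) (kh xh1 yh9 zh44) (kh xh1 yh10 zh5) (kh xh1 yh10 zh7) (kh xh1 yh10 zh8) (kh xh1 yh10 zh10) (kh xh1 yh10 zh11) (kh xh1 yh10 zh14) (kh xh1 yh10 zh15) (kh xh1 yh10 zh16) (kh xh1 yh10 zh20) (kh xh1 yh10 zh21) (kh xh2 yh11 zh29) (kh xh1 yh10 zh23) (kh xh1 yh10 zh24) (kh xh1 yh10 zh2) (kh xh2 yh11 zh11) (kh xh1 yh22 zh45) (kh xh2 yh11 zh12) (kh xh2 yh11 zh13) (kh xh1 yh22 zh48) (kh xh1 yh22 zh49) (kh xh2 yh11 zh14)) (@D3.rec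 (fun _ => Pt) (kh xh2 yh11 zh15) (kh xh2 yh11 zh16) (kh xh1 yh23 zh2) (kh xh1 yh23 zh3) (kh xh2 yh11 zh17) (kh xh2 yh11 zh18) (kh xh2 yh11 zh19) (kh xh1 yh23 zh7) (kh xh1 yh23 zh8) (kh xh1 yh23 zh9) (kh xh2 yh11 zh20) (kh xh2 yh11 zh21) (kh xh2 yh12 zh13) (kh xh2 yh11 zh23) (kh xh2 yh11 zh24) (kh xh1 yh23 zh15) (kh xh2 yh12 zh19) (kh xh1 yh23 zh17) (kh xh1 yh23 zh18) (kh xh2 yh11 zh25) (kh xh2 yh12 zh26) (kh xh2 yh11 zh27) (kh xh2 yh12 zh30) (kh xh1 yh10 zh22) (kh xh2 yh11 zh30) (kh xh2 yh11 zh31) (kh xh1 yh10 zh26) (kh xh1 yh10 zh27) (kh xh2 yh12 zh33) (kh xh2 yh12 zh34) (kh xh2 yh12 zh35) (kh xh1 yh23 zh31) (kh xh1 yh23 zh32) (kh xh2 yh12 zh45) (kh xh1 yh23 zh34) (kh xh1 yh23 zh35) (kh xh1 yh10 zh33) (kh xh1 yh10 zh34) (kh xh1 yh10 zh35) (kh xh2 yh12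 zh48) (kh xh2 yh12 zh49) (kh xh2 yh13 zh6) (kh xh2 yh13 zh0) (kh xh2 yh13 zh1) (kh xh1 yh23 zh44) (kh xh2 yh13 zh13) (kh xh1 yh23 zh46) (kh xh2 yh13 zh17) (kh xh1 yh10 zh38) (kh xh1 yh23 zh49) (kh xh1 yh23 zh50)) (@D3.rec (fun _ => Pt) (kh xh1 yh10 zh44) (kh xh1 yh10 zh45) (kh xh2 yh13 zh24) (kh xh1 yh10 zh47) (kh xh1 yh10 zh48) (kh xh2 yh13 zh20) (kh xh2 yh13 zh31) (kh xh2 yh13 zh22) (kh xh2 yh13 zh35) (kh xh1 yh10 zh46) (kh xh2 yh13 zh25) (kh xh2 yh13 zh26) (kh xh2 yh13 zh40) (kh xh1 yh24 zh13) (kh xh2 yh13 zh43) (kh xh2 yh13 zh46) (kh xh1 yh10 zh50) (kh xh1 yh24 zh17) (kh xh2 yh13 zh50) (kh xh2 yh14 zh1) (kh xh1 yh11 zh1) (kh xh2 yh13 zh36) (kh xh1 yh24 zh22) (kh xh1 yh24 zh23) (kh xh1 yh24 zh24) (kh xh1 yh21 zh14) (kh xh1 yh24 zh26) (kh xh1 yh24 zh27)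 (kh xh1 yh11 zh13) (kh xh1 yh17 zh16) (kh xh1 yh11 zh15) (kh xh2 yh14 zh12) (kh xh1 yh11 zh10) (kh xh1 yh11 zh18) (kh xh1 yh11 zh19) (kh xh1 yh13 zh14) (kh xh2 yh14 zh7) (kh xh1 yh13 zh12) (kh xh2 yh14 zh19) (kh xh1 yh11 zh14) (kh xh2 yh14 zh9) (kh xh2 yh14 zh22) (kh xh2 yh14 zh24) (kh xh1 yh11 zh16) (kh xh1 yh11 zh29) (kh xh2 yh14 zh13) (kh xh1 yh13 zh32) (kh xh2 yh14 zh29) (kh xh1 yh11 zh20) (kh xh1 yh24 zh49) (kh xh2 yh14 zh33)) (@D3.rec (fun _ => Pt) (kh xh1 yh11 zh22) (kh xh2 yh14 zh35) (kh xh2 yh14 zh37) (kh xh1 yh11 zh23) (kh xh1 yh13 zh23) (kh xh1 yh25 zh5) (kh xh2 yh14 zh41) (kh xh1 yh11 zh26) (kh xh2 yh14 zh44) (kh xh1 yh11 zh27) (kh xh2 yh14 zh25) (kh xh1 yh25 zh11) (kh xh2 yh14 zh47) (kh xh1 yh11 zh32) (kh xh2 yh14 zh48) (kh xh1 yh25 zh15)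 (kh xh1 yh25 zh16) (kh xh1 yh11 zh35) (kh xh1 yh11 zh37) (kh xh2 yh15 zh4) (kh xh2 yh15 zh5) (kh xh1 yh25 zh21) (kh xh1 yh25 zh22) (kh xh1 yh25 zh23) (kh xh1 yh25 zh24) (kh xh1 yh11 zh42) (kh xh1 yh11 zh43) (kh xh1 yh18 zh37) (kh xh2 yh15 zh16) (kh xh2 yh15 zh17) (kh xh1 yh25 zh30) (kh xh1 yh25 zh31) (kh xh2 yh15 zh26) (kh xh1 yh25 zh33) (kh xh1 yh25 zh34) (kh xh1 yh11 zh48) (kh xh1 yh11 zh49) (kh xh1 yh18 zh25) (kh xh2 yh15 zh29) (kh xh2 yh15 zh30) (kh xh1 yh25 zh40) (kh xh1 yh25 zh41) (kh xh2 yh15 zh39) (kh xh1 yh25 zh43) (kh xh1 yh25 zh44) (kh xh1 yh12 zh5) (kh xh1 yh12 zh6) (kh xh1 yh18 zh1) (kh xh2 yh15 zh48) (kh xh2 yh15 zh43) (kh xh2 yh15 zh44)) (@D3.rec (fun _ => Pt) (kh xh1 yh26 zh0) (kh xh2 yh16 zh4) (kh xh1 yh26 zh2) (kh xh2 yh16 zh8) (kh xh1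 yh12 zh9) (kh xh1 yh26 zh5) (kh xh1 yh26 zh6) (kh xh2 yh16 zh12) (kh xh1 yh12 zh16) (kh xh1 yh12 zh17) (kh xh2 yh16 zh17) (kh xh1 yh18 zh15) (kh xh2 yh16 zh21) (kh xh1 yh12 zh15) (kh xh2 yh16 zh13) (kh xh2 yh16 zh14) (kh xh2 yh16 zh26) (kh xh1 yh26 zh17) (kh xh2 yh16 zh29) (kh xh2 yh16 zh32) (kh xh1 yh12 zh19) (kh xh1 yh26 zh21) (kh xh2 yh16 zh36) (kh xh2 yh16 zh38) (kh xh1 yh12 zh21) (kh xh2 yh16 zh22) (kh xh1 yh26 zh26) (kh xh1 yh26 zh27) (kh xh1 yh26 zh28) (kh xh2 yh16 zh44) (kh xh1 yh26 zh30) (kh xh1 yh26 zh31) (kh xh1 yh13 zh39) (kh xh2 yh17 zh0) (kh xh1 yh13 zh41) (kh xh2 yh17 zh4) (kh xh1 yh12 zh30) (kh xh1 yh13 zh44) (kh xh1 yh13 zh45) (kh xh1 yh26 zh39) (kh xh2 yh17 zh11) (kh xh1 yh26 zh41) (kh xh2 yh17 zh15) (kh xh1 yh12 zh35) (kh xh1 yh26 zh44)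 (kh xh1 yh26 zh45) (kh xh2 yh17 zh20) (kh xh1 yh13 zh47) (kh xh2 yh17 zh23) (kh xh2 yh17 zh26) (kh xh1 yh12 zh39))
def f_h_2 : D2 → D3 → Pt := @D2.rec (fun _ => D3 → Pt) (@D3.rec (fun _ => Pt) (kh xh1 yh14 zh0) (kh xh2 yh17 zh30) (kh xh2 yh17 zh32) (kh xh1 yh12 zh41) (kh xh2 yh17 zh16) (kh xh1 yh14 zh5) (kh xh2 yh17 zh36) (kh xh2 yh0 zh7) (kh xh2 yh17 zh39) (kh xh2 yh17 zh42) (kh xh1 yh12 zh46) (kh xh2 yh0 zh11) (kh xh2 yh17 zh46) (kh xh2 yh17 zh48) (kh xh1 yh12 zh48) (kh xh1 yh13 zh10) (kh xh2 yh0 zh16) (kh xh2 yh18 zh1) (kh xh2 yh18 zh4) (kh xh1 yh13 zh1) (kh xh1 yh14 zh9) (kh xh2 yh18 zh9) (kh xh1 yh13 zh3) (kh xh2 yh18 zh13) (kh xh2 yh18 zh15) (kh xh1 yh13 zh4) (kh xh2 yh17 zh43) (kh xh1 yh14 zh16) (kh xh2 yh18 zh19) (kh xh1 yh13 zh7) (kh xh2 yh18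 zh22) (kh xh1 yh13 zh8) (kh xh2 yh17 zh49) (kh xh2 yh14 zh16) (kh xh2 yh0 zh34) (kh xh2 yh14 zh14) (kh xh2 yh18 zh30) (kh xh2 yh18 zh32) (kh xh1 yh13 zh15) (kh xh2 yh0 zh39) (kh xh2 yh18 zh35) (kh xh1 yh13 zh18) (kh xh2 yh18 zh38) (kh xh1 yh13 zh19) (kh xh1 yh13 zh38) (kh xh2 yh14 zh38) (kh xh2 yh18 zh43) (kh xh2 yh18 zh45) (kh xh1 yh13 zh24) (kh xh1 yh14 zh26) (kh xh2 yh18 zh48)) (@D3.rec (fun _ => Pt) (kh xh2 yh18 zh50) (kh xh1 yh13 zh27) (kh xh2 yh19 zh2) (kh xh1 yh13 zh29) (kh xh2 yh19 zh5) (kh xh1 yh13 zh30) (kh xh2 yh14 zh26) (kh xh2 yh19 zh8) (kh xh2 yh19 zh9) (kh xh1 yh13 zh34) (kh xh2 yh18 zh20) (kh xh2 yh18 zh37) (kh xh1 yh13 zh36) (kh xh2 yh18 zh39) (kh xh2 yh19 zh17) (kh xh2 yh16 zh48) (kh xh2 yh19 zh20) (kh xh2 yh19 zh23) (kh xh1 yh13 zh40)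 (kh xh2 yh17 zh1) (kh xh2 yh19 zh27) (kh xh2 yh19 zh29) (kh xh1 yh13 zh42) (kh xh2 yh1 zh23) (kh xh2 yh17 zh6) (kh xh2 yh19 zh32) (kh xh2 yh19 zh35) (kh xh1 yh13 zh46) (kh xh2 yh17 zh21) (kh xh2 yh19 zh40) (kh xh1 yh13 zh48) (kh xh2 yh19 zh44) (kh xh2 yh19 zh46) (kh xh1 yh13 zh49) (kh xh2 yh1 zh34) (kh xh2 yh17 zh28) (kh xh2 yh19 zh50) (kh xh1 yh14 zh1) (kh xh2 yh20 zh2) (kh xh1 yh14 zh2) (kh xh2 yh1 zh40) (kh xh2 yh20 zh6) (kh xh1 yh14 zh6) (kh xh2 yh20 zh9) (kh xh2 yh20 zh11) (kh xh1 yh14 zh7) (kh xh2 yh1 zh46) (kh xh2 yh18 zh6) (kh xh2 yh20 zh14) (kh xh2 yh20 zh16) (kh xh1 yh14 zh10)) (@D3.rec (fun _ => Pt) (kh xh1 yh18 zh20) (kh xh2 yh2 zh1) (kh xh2 yh20 zh23) (kh xh1 yh14 zh12) (kh xh2 yh20 zh26) (kh xh1 yh14 zh13) (kh xh2 yh2 zh6) (kh xh2 yh20 zh29)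 (kh xh2 yh20 zh30) (kh xh1 yh14 zh17) (kh xh1 yh14 zh35) (kh xh2 yh2 zh11) (kh xh1 yh14 zh19) (kh xh2 yh2 zh13) (kh xh2 yh20 zh38) (kh xh1 yh14 zh22) (kh xh2 yh20 zh41) (kh xh1 yh14 zh23) (kh xh2 yh2 zh18) (kh xh2 yh20 zh44) (kh xh2 yh20 zh45) (kh xh1 yh14 zh27) (kh xh2 yh20 zh24) (kh xh2 yh2 zh23) (kh xh1 yh14 zh29) (kh xh2 yh2 zh25) (kh xh2 yh21 zh1) (kh xh1 yh14 zh32) (kh xh1 yh14 zh33) (kh xh2 yh20 zh31) (kh xh2 yh2 zh30) (kh xh2 yh20 zh33) (kh xh2 yh21 zh10) (kh xh2 yh2 zh33) (kh xh1 yh14 zh45) (kh xh1 yh14 zh39) (kh xh2 yh2 zh36) (kh xh2 yh2 zh37) (kh xh2 yh2 zh38) (kh xh2 yh2 zh39) (kh xh2 yh21 zh0) (kh xh2 yh21 zh15) (kh xh2 yh2 zh42) (kh xh1 yh22 zh20) (kh xh2 yh21 zh18) (kh xh1 yh14 zh50) (kh xh1 yh15 zh1) (kh xh1 yh22 zh14) (kh xh2 yh21 zh20)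 (kh xh2 yh2 zh49) (kh xh2 yh2 zh50)) (@D3.rec (fun _ => Pt) (kh xh2 yh3 zh0) (kh xh1 yh15 zh4) (kh xh2 yh3 zh2) (kh xh2 yh3 zh3) (kh xh1 yh15 zh9) (kh xh1 yh18 zh26) (kh xh1 yh22 zh13) (kh xh2 yh21 zh30) (kh xh2 yh3 zh8) (kh xh2 yh3 zh9) (kh xh2 yh21 zh39) (kh xh2 yh3 zh11) (kh xh2 yh3 zh12) (kh xh2 yh3 zh13) (kh xh1 yh15 zh19) (kh xh1 yh18 zh38) (kh xh2 yh3 zh16) (kh xh1 yh22 zh3) (kh xh2 yh21 zh43) (kh xh2 yh3 zh19) (kh xh2 yh22 zh2) (kh xh2 yh3 zh21) (kh xh2 yh22 zh6) (kh xh1 yh15 zh22) (kh xh2 yh3 zh24) (kh xh2 yh3 zh25) (kh xh1 yh15 zh28) (kh xh1 yh17 zh41) (kh xh1 yh20 zh22) (kh xh1 yh21 zh45) (kh xh2 yh22 zh8) (kh xh2 yh3 zh31) (kh xh2 yh22 zh18) (kh xh2 yh3 zh33) (kh xh2 yh22 zh22) (kh xh1 yh15 zh31) (kh xh2 yh3 zh36) (kh xh2 yh3 zh37) (kh xh1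 yh15 zh38) (kh xh1 yh16 zh31) (kh xh1 yh18 zh2) (kh xh1 yh20 zh38) (kh xh1 yh22 zh4) (kh xh2 yh22 zh25) (kh xh2 yh22 zh34) (kh xh2 yh3 zh45) (kh xh2 yh22 zh37) (kh xh2 yh22 zh40) (kh xh1 yh15 zh40) (kh xh2 yh3 zh49) (kh xh2 yh22 zh44)) (@D3.rec (fun _ => Pt) (kh xh2 yh22 zh46) (kh xh1 yh15 zh42) (kh xh1 yh20 zh30) (kh xh2 yh4 zh3) (kh xh1 yh16 zh0) (kh xh1 yh17 zh2) (kh xh1 yh17 zh3) (kh xh1 yh18 zh16) (kh xh1 yh21 zh5) (kh xh1 yh21 zh6) (kh xh1 yh22 zh12) (kh xh2 yh23 zh5) (kh xh2 yh23 zh8) (kh xh1 yh16 zh1) (kh xh2 yh4 zh14) (kh xh2 yh23 zh12) (kh xh1 yh16 zh3) (kh xh2 yh23 zh15) (kh xh2 yh23 zh17) (kh xh1 yh16 zh4) (kh xh1 yh16 zh42) (kh xh2 yh4 zh21) (kh xh2 yh23 zh21) (kh xh1 yh16 zh7) (kh xh2 yh23 zh24) (kh xh1 yh16 zh8) (kh xh1 yh20 zh47) (kh xh2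 yh4 zh27) (kh xh2 yh23 zh30) (kh xh2 yh4 zh29) (kh xh2 yh23 zh34) (kh xh1 yh16 zh14) (kh xh2 yh4 zh32) (kh xh2 yh4 zh33) (kh xh2 yh22 zh9) (kh xh1 yh17 zh42) (kh xh2 yh23 zh41) (kh xh2 yh23 zh44) (kh xh1 yh16 zh18) (kh xh1 yh17 zh46) (kh xh2 yh22 zh21) (kh xh2 yh22 zh20) (kh xh1 yh16 zh20) (kh xh2 yh23 zh35) (kh xh1 yh18 zh0) (kh xh2 yh22 zh41) (kh xh2 yh4 zh46) (kh xh2 yh24 zh0) (kh xh2 yh24 zh3) (kh xh1 yh16 zh25) (kh xh2 yh4 zh50)) (@D3.rec (fun _ => Pt) (kh xh2 yh24 zh6) (kh xh2 yh24 zh8) (kh xh1 yh16 zh27) (kh xh1 yh16 zh40) (kh xh2 yh5 zh4) (kh xh2 yh22 zh26) (kh xh2 yh22 zh27) (kh xh1 yh18 zh3) (kh xh2 yh24 zh16) (kh xh1 yh16 zh33) (kh xh2 yh24 zh19) (kh xh2 yh24 zh21) (kh xh1 yh16 zh34) (kh xh1 yh18 zh9) (kh xh2 yh22 zh45) (kh xh1 yh16 zh37) (kh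 xh2 yh22 zh43) (kh xh1 yh16 zh38) (kh xh2 yh24 zh9) (kh xh2 yh23 zh3) (kh xh2 yh23 zh18) (kh xh2 yh5 zh21) (kh xh2 yh24 zh30) (kh xh1 yh16 zh44) (kh xh2 yh24 zh32) (kh xh2 yh24 zh34) (kh xh1 yh16 zh45) (kh xh2 yh5 zh27) (kh xh2 yh24 zh37) (kh xh1 yh16 zh48) (kh xh2 yh24 zh40) (kh xh1 yh16 zh49) (kh xh1 yh17 zh15) (kh xh2 yh22 zh48) (kh xh2 yh22 zh49) (kh xh2 yh22 zh50) (kh xh1 yh18 zh17) (kh xh2 yh24 zh48) (kh xh2 yh24 zh50) (kh xh1 yh17 zh5) (kh xh2 yh18 zh10) (kh xh2 yh25 zh4) (kh xh1 yh17 zh7) (kh xh2 yh25 zh5) (kh xh1 yh17 zh8) (kh xh2 yh23 zh20) (kh xh2 yh23 zh19) (kh xh1 yh17 zh11) (kh xh2 yh24 zh39) (kh xh1 yh17 zh13) (kh xh2 yh24 zh41)) (@D3.rec (fun _ => Pt) (kh xh2 yh14 zh8) (kh xh2 yh25 zh11) (kh xh2 yh25 zh13) (kh xh1 yh17 zh17) (kh xh2 yh6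 zh4) (kh xh2 yh25 zh16) (kh xh2 yh25 zh18) (kh xh1 yh17 zh20) (kh xh2 yh25 zh21) (kh xh1 yh17 zh22) (kh xh2 yh25 zh23) (kh xh1 yh17 zh23) (kh xh2 yh25 zh25) (kh xh2 yh25 zh26) (kh xh1 yh17 zh26) (kh xh2 yh24 zh38) (kh xh1 yh17 zh28) (kh xh2 yh6 zh17) (kh xh2 yh6 zh18) (kh xh2 yh6 zh19) (kh xh2 yh6 zh20) (kh xh2 yh6 zh21) (kh xh2 yh25 zh37) (kh xh2 yh6 zh23) (kh xh2 yh6 zh24) (kh xh2 yh6 zh25) (kh xh2 yh6 zh26) (kh xh2 yh6 zh27) (kh xh2 yh15 zh31) (kh xh2 yh22 zh10) (kh xh2 yh23 zh39) (kh xh2 yh25 zh47) (kh xh1 yh17 zh43) (kh xh2 yh25 zh50) (kh xh2 yh26 zh1) (kh xh1 yh17 zh44) (kh xh2 yh23 zh45) (kh xh2 yh21 zh38) (kh xh1 yh17 zh47) (kh xh2 yh22 zh4) (kh xh1 yh17 zh48) (kh xh2 yh6 zh41) (kh xh2 yh15 zh46) (kh xh2 yh21 zh45) (kh xh2 yh22 zh28) (kh xh2 yh24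 zh13) (kh xh2 yh26 zh10) (kh xh2 yh26 zh12) (kh xh1 yh18 zh4) (kh xh2 yh19 zh41) (kh xh2 yh26 zh16)) (@D3.rec (fun _ => Pt) (kh xh1 yh18 zh6) (kh xh2 yh26 zh18) (kh xh1 yh18 zh7) (kh xh2 yh22 zh5) (kh xh1 yh18 zh10) (kh xh2 yh7 zh5) (kh xh2 yh7 zh6) (kh xh1 yh18 zh12) (kh xh2 yh7 zh8) (kh xh2 yh16 zh18) (kh xh2 yh23 zh0) (kh xh2 yh26 zh23) (kh xh1 yh18 zh18) (kh xh2 yh20 zh17) (kh xh2 yh20 zh19) (kh xh1 yh18 zh21) (kh xh2 yh7 zh16) (kh xh2 yh15 zh6) (kh xh2 yh21 zh31) (kh xh2 yh21 zh21) (kh xh2 yh26 zh32) (kh xh2 yh26 zh33) (kh xh1 yh18 zh28) (kh xh2 yh7 zh23) (kh xh2 yh26 zh37) (kh xh1 yh18 zh30) (kh xh1 yh18 zh31) (kh xh2 yh21 zh26) (kh xh1 yh18 zh33) (kh xh2 yh7 zh29) (kh xh2 yh7 zh30) (kh xh2 yh7 zh31) (kh xh2 yh15 zh18) (kh xh2 yh26 zh42) (kh xh1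 yh18 zh39) (kh xh2 yh7 zh35) (kh xh2 yh7 zh36) (kh xh2 yh7 zh37) (kh xh2 yh7 zh38) (kh xh2 yh26 zh49) (kh xh2 yh7 zh40) (kh xh3 yh0 zh2) (kh xh2 yh7 zh42) (kh xh3 yh0 zh4) (kh xh1 yh18 zh47) (kh xh2 yh7 zh45) (kh xh1 yh22 zh21) (kh xh1 yh18 zh50) (kh xh2 yh7 zh48) (kh xh1 yh19 zh3) (kh xh1 yh22 zh15)) (@D3.rec (fun _ => Pt) (kh xh3 yh0 zh8) (kh xh2 yh8 zh1) (kh xh1 yh22 zh16) (kh xh2 yh8 zh3) (kh xh2 yh8 zh4) (kh xh3 yh0 zh12) (kh xh1 yh19 zh7) (kh xh2 yh8 zh7) (kh xh1 yh19 zh13) (kh xh2 yh8 zh9) (kh xh1 yh21 zh47) (kh xh3 yh0 zh14) (kh xh3 yh0 zh18) (kh xh2 yh8 zh13) (kh xh1 yh21 zh50) (kh xh1 yh19 zh15) (kh xh2 yh8 zh16) (kh xh2 yh8 zh17) (kh xh1 yh19 zh18) (kh xh2 yh8 zh19) (kh xh1 yh19 zh24) (kh xh2 yh8 zh21) (kh xh1 yh22 zh6) (kh xh3 yh0 zh21) (kh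 xh3 yh0 zh25) (kh xh3 yh0 zh27) (kh xh1 yh19 zh25) (kh xh2 yh8 zh27) (kh xh1 yh22 zh1) (kh xh1 yh22 zh8) (kh xh1 yh19 zh27) (kh xh2 yh8 zh31) (kh xh1 yh19 zh34) (kh xh1 yh20 zh24) (kh xh1 yh21 zh48) (kh xh3 yh0 zh28) (kh xh1 yh20 zh16) (kh xh3 yh0 zh32) (kh xh1 yh19 zh35) (kh xh2 yh8 zh39) (kh xh1 yh20 zh27) (kh xh1 yh20 zh26) (kh xh1 yh19 zh37) (kh xh2 yh8 zh43) (kh xh1 yh19 zh44) (kh xh1 yh20 zh40) (kh xh1 yh20 zh41) (kh xh1 yh22 zh7) (kh xh1 yh20 zh32) (kh xh3 yh0 zh37) (kh xh3 yh0 zh38)) (@D3.rec (fun _ => Pt) (kh xh1 yh19 zh46) (kh xh2 yh9 zh1) (kh xh1 yh20 zh45) (kh xh1 yh19 zh49) (kh xh1 yh20 zh43) (kh xh1 yh19 zh50) (kh xh1 yh21 zh8) (kh xh1 yh21 zh9) (kh xh1 yh20 zh49) (kh xh1 yh20 zh50) (kh xh3 yh0 zh44) (kh xh1 yh20 zh7) (kh xh3 yh0 zh46) (kh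 xh1 yh20 zh8) (kh xh1 yh21 zh11) (kh xh1 yh21 zh10) (kh xh1 yh20 zh11) (kh xh2 yh9 zh17) (kh xh1 yh20 zh13) (kh xh2 yh22 zh23) (kh xh2 yh9 zh20) (kh xh3 yh0 zh31) (kh xh2 yh9 zh22) (kh xh3 yh0 zh50) (kh xh3 yh0 zh49) (kh xh1 yh20 zh18) (kh xh2 yh9 zh26) (kh xh2 yh22 zh11) (kh xh1 yh21 zh46) (kh xh3 yh0 zh29) (kh xh3 yh0 zh30) (kh xh1 yh21 zh49) (kh xh2 yh22 zh47) (kh xh2 yh9 zh33) (kh xh3 yh0 zh35) (kh xh3 yh0 zh36) (kh xh2 yh9 zh36) (kh xh3 yh1 zh8) (kh xh1 yh20 zh34) (kh xh3 yh1 zh7) (kh xh1 yh20 zh35) (kh xh2 yh22 zh29) (kh xh2 yh22 zh30) (kh xh1 yh22 zh5) (kh xh3 yh0 zh33) (kh xh3 yh0 zh34) (kh xh2 yh23 zh23) (kh xh2 yh23 zh25) (kh xh2 yh9 zh48) (kh xh3 yh0 zh42) (kh xh3 yh0 zh43)) (@D3.rec (fun _ => Pt) (kh xh3 yh1 zh14) (kh xh3 yh1 zh13) (kh xh1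 yh21 zh1) (kh xh1 yh21 zh32) (kh xh1 yh21 zh3) (kh xh2 yh23 zh1) (kh xh2 yh23 zh2) (kh xh3 yh0 zh39) (kh xh3 yh0 zh40) (kh xh2 yh14 zh4) (kh xh3 yh1 zh22) (kh xh3 yh1 zh24) (kh xh1 yh21 zh15) (kh xh3 yh1 zh27) (kh xh1 yh21 zh17) (kh xh3 yh1 zh29) (kh xh1 yh21 zh18) (kh xh2 yh10 zh17) (kh xh3 yh1 zh33) (kh xh1 yh21 zh21) (kh xh3 yh1 zh34) (kh xh1 yh21 zh22) (kh xh2 yh10 zh22) (kh xh3 yh1 zh36) (kh xh3 yh1 zh37) (kh xh1 yh21 zh25) (kh xh3 yh0 zh41) (kh xh1 yh21 zh27) (kh xh3 yh1 zh38) (kh xh1 yh21 zh29) (kh xh1 yh21 zh30) (kh xh3 yh1 zh15) (kh xh1 yh21 zh39) (kh xh2 yh10 zh33) (kh xh2 yh10 zh34) (kh xh2 yh25 zh28) (kh xh2 yh10 zh36) (kh xh2 yh10 zh37) (kh xh2 yh10 zh38) (kh xh2 yh10 zh39) (kh xh3 yh1 zh39) (kh xh2 yh10 zh41) (kh xh2 yh10 zh42) (kh xh2 yh10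 zh43) (kh xh2 yh21 zh33) (kh xh2 yh22 zh12) (kh xh3 yh1 zh3) (kh xh3 yh0 zh16) (kh xh3 yh0 zh26) (kh xh2 yh21 zh47) (kh xh2 yh22 zh31)) (@D3.rec (fun _ => Pt) (kh xh3 yh0 zh24) (kh xh2 yh21 zh22) (kh xh3 yh0 zh10) (kh xh2 yh21 zh17) (kh xh2 yh11 zh4) (kh xh2 yh11 zh5) (kh xh3 yh2 zh2) (kh xh1 yh22 zh26) (kh xh2 yh11 zh8) (kh xh2 yh11 zh9) (kh xh2 yh11 zh10) (kh xh1 yh22 zh44) (kh xh1 yh22 zh46) (kh xh1 yh22 zh47) (kh xh1 yh22 zh50) (kh xh1 yh23 zh0) (kh xh1 yh23 zh1) (kh xh1 yh23 zh4) (kh xh1 yh23 zh5) (kh xh1 yh23 zh6) (kh xh1 yh23 zh10) (kh xh1 yh23 zh11) (kh xh3 yh2 zh28) (kh xh1 yh23 zh13) (kh xh1 yh23 zh14) (kh xh1 yh23 zh19) (kh xh3 yh2 zh35) (kh xh1 yh23 zh21) (kh xh3 yh2 zh39) (kh xh1 yh22 zh40) (kh xh1 yh23 zh24) (kh xh1 yh23 zh25) (kh xh2 yh11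 zh32) (kh xh3 yh2 zh9) (kh xh3 yh2 zh10) (kh xh2 yh11 zh35) (kh xh2 yh11 zh36) (kh xh3 yh2 zh11) (kh xh3 yh2 zh12) (kh xh3 yh2 zh13) (kh xh2 yh11 zh40) (kh xh2 yh11 zh41) (kh xh2 yh11 zh42) (kh xh3 yh2 zh14) (kh xh3 yh2 zh15) (kh xh3 yh3 zh12) (kh xh3 yh2 zh17) (kh xh3 yh2 zh18) (kh xh2 yh11 zh48) (kh xh2 yh11 zh49) (kh xh2 yh11 zh50)) (@D3.rec (fun _ => Pt) (kh xh3 yh2 zh19) (kh xh3 yh2 zh20) (kh xh3 yh3 zh23) (kh xh3 yh2 zh22) (kh xh3 yh2 zh23) (kh xh2 yh12 zh5) (kh xh3 yh3 zh29) (kh xh2 yh12 zh7) (kh xh2 yh12 zh8) (kh xh3 yh2 zh24) (kh xh3 yh3 zh36) (kh xh3 yh2 zh26) (kh xh3 yh3 zh40) (kh xh1 yh23 zh12) (kh xh3 yh2 zh29) (kh xh3 yh2 zh30) (kh xh3 yh3 zh45) (kh xh2 yh12 zh17) (kh xh3 yh3 zh49) (kh xh1 yh23 zh16) (kh xh2 yh12 zh20) (kh xh2 yh12 zh21)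 (kh xh3 yh4 zh3) (kh xh3 yh2 zh32) (kh xh3 yh4 zh6) (kh xh3 yh4 zh9) (kh xh1 yh23 zh20) (kh xh3 yh2 zh36) (kh xh3 yh4 zh13) (kh xh3 yh4 zh15) (kh xh1 yh23 zh22) (kh xh3 yh3 zh50) (kh xh3 yh2 zh41) (kh xh1 yh23 zh28) (kh xh1 yh23 zh29) (kh xh1 yh23 zh30) (kh xh3 yh4 zh17) (kh xh3 yh4 zh18) (kh xh3 yh4 zh26) (kh xh3 yh4 zh20) (kh xh3 yh4 zh21) (kh xh2 yh12 zh41) (kh xh3 yh4 zh33) (kh xh2 yh12 zh43) (kh xh3 yh4 zh37) (kh xh1 yh23 zh33) (kh xh2 yh12 zh46) (kh xh2 yh12 zh47) (kh xh1 yh23 zh39) (kh xh1 yh23 zh40) (kh xh3 yh4 zh44)) (@D3.rec (fun _ => Pt) (kh xh1 yh23 zh42) (kh xh1 yh23 zh43) (kh xh3 yh4 zh40) (kh xh3 yh5 zh0) (kh xh3 yh4 zh42) (kh xh3 yh5 zh4) (kh xh1 yh23 zh41) (kh xh3 yh4 zh45) (kh xh3 yh4 zh46) (kh xh3 yh5 zh9) (kh xh2 yh13 zh10) (kh xh3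 yh5 zh12) (kh xh3 yh5 zh15) (kh xh1 yh23 zh45) (kh xh2 yh13 zh14) (kh xh3 yh5 zh19) (kh xh3 yh5 zh21) (kh xh1 yh23 zh47) (kh xh3 yh5 zh5) (kh xh2 yh13 zh19) (kh xh1 yh24 zh5) (kh xh3 yh5 zh27) (kh xh1 yh24 zh7) (kh xh3 yh5 zh31) (kh xh1 yh24 zh2) (kh xh1 yh24 zh10) (kh xh1 yh24 zh11) (kh xh3 yh5 zh36) (kh xh3 yh5 zh24) (kh xh3 yh5 zh39) (kh xh3 yh5 zh42) (kh xh1 yh24 zh6) (kh xh3 yh5 zh28) (kh xh3 yh5 zh46) (kh xh3 yh5 zh48) (kh xh1 yh24 zh8) (kh xh1 yh24 zh21) (kh xh3 yh5 zh33) (kh xh3 yh6 zh1) (kh xh3 yh6 zh4) (kh xh1 yh24 zh12) (kh xh2 yh13 zh41) (kh xh3 yh6 zh9) (kh xh1 yh24 zh14) (kh xh3 yh6 zh13) (kh xh3 yh6 zh15) (kh xh1 yh24 zh15) (kh xh3 yh5 zh43) (kh xh2 yh13 zh48) (kh xh3 yh6 zh19) (kh xh1 yh24 zh18)) (@D3.rec (fun _ => Pt) (kh xh3 yh6 zh22)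 (kh xh1 yh24 zh19) (kh xh3 yh5 zh49) (kh xh2 yh14 zh3) (kh xh2 yh10 zh9) (kh xh2 yh14 zh5) (kh xh2 yh14 zh6) (kh xh1 yh24 zh36) (kh xh2 yh6 zh0) (kh xh1 yh24 zh40) (kh xh3 yh6 zh33) (kh xh3 yh6 zh35) (kh xh1 yh24 zh31) (kh xh1 yh24 zh45) (kh xh2 yh0 zh35) (kh xh3 yh6 zh28) (kh xh2 yh0 zh33) (kh xh3 yh6 zh42) (kh xh3 yh6 zh44) (kh xh1 yh24 zh38) (kh xh3 yh6 zh31) (kh xh3 yh6 zh47) (kh xh1 yh24 zh41) (kh xh3 yh6 zh50) (kh xh1 yh24 zh42) (kh xh1 yh25 zh10) (kh xh2 yh1 zh6) (kh xh3 yh7 zh4) (kh xh3 yh7 zh6) (kh xh1 yh24 zh47) (kh xh2 yh14 zh30) (kh xh3 yh7 zh9) (kh xh3 yh7 zh11) (kh xh1 yh24 zh50) (kh xh3 yh7 zh14) (kh xh1 yh25 zh1) (kh xh3 yh7 zh17) (kh xh1 yh25 zh2) (kh xh2 yh0 zh45) (kh xh3 yh7 zh20) (kh xh3 yh7 zh21) (kh xh1 yh25 zh6) (kh xh3 yh6 zh20)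 (kh xh3 yh6 zh49) (kh xh1 yh25 zh8) (kh xh3 yh7 zh0) (kh xh3 yh7 zh27) (kh xh1 yh25 zh12) (kh xh1 yh25 zh14) (kh xh3 yh7 zh29) (kh xh3 yh7 zh30)) (@D3.rec (fun _ => Pt) (kh xh2 yh15 zh0) (kh xh2 yh15 zh1) (kh xh2 yh15 zh2) (kh xh2 yh15 zh3) (kh xh1 yh25 zh19) (kh xh1 yh25 zh20) (kh xh2 yh7 zh17) (kh xh3 yh7 zh41) (kh xh3 yh7 zh42) (kh xh2 yh15 zh9) (kh xh2 yh15 zh10) (kh xh3 yh8 zh0) (kh xh2 yh15 zh12) (kh xh2 yh15 zh13) (kh xh2 yh15 zh14) (kh xh2 yh15 zh15) (kh xh1 yh25 zh28) (kh xh1 yh25 zh29) (kh xh2 yh7 zh32) (kh xh3 yh8 zh11) (kh xh3 yh8 zh6) (kh xh3 yh8 zh7) (kh xh2 yh15 zh22) (kh xh3 yh8 zh18) (kh xh2 yh15 zh24) (kh xh3 yh8 zh22) (kh xh1 yh25 zh32) (kh xh2 yh15 zh27) (kh xh2 yh15 zh28) (kh xh1 yh25 zh38) (kh xh1 yh25 zh39) (kh xh2 yh6 zh28) (kh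 xh3 yh8 zh31) (kh xh3 yh8 zh26) (kh xh3 yh8 zh27) (kh xh2 yh15 zh35) (kh xh3 yh8 zh38) (kh xh2 yh15 zh37) (kh xh3 yh8 zh42) (kh xh1 yh25 zh42) (kh xh2 yh15 zh40) (kh xh2 yh15 zh41) (kh xh3 yh8 zh46) (kh xh1 yh25 zh49) (kh xh1 yh25 zh50) (kh xh3 yh9 zh0) (kh xh2 yh6 zh42) (kh xh3 yh9 zh4) (kh xh1 yh25 zh48) (kh xh3 yh8 zh47) (kh xh3 yh8 zh48)) (@D3.rec (fun _ => Pt) (kh xh3 yh9 zh9) (kh xh2 yh16 zh1) (kh xh3 yh9 zh12) (kh xh3 yh9 zh15) (kh xh1 yh26 zh1) (kh xh2 yh16 zh5) (kh xh3 yh9 zh19) (kh xh3 yh9 zh21) (kh xh1 yh26 zh3) (kh xh3 yh9 zh5) (kh xh2 yh16 zh10) (kh xh3 yh9 zh25) (kh xh1 yh26 zh7) (kh xh1 yh26 zh14) (kh xh1 yh26 zh15) (kh xh3 yh9 zh29) (kh xh3 yh9 zh32) (kh xh1 yh26 zh10) (kh xh2 yh7 zh9) (kh xh3 yh9 zh36) (kh xh3 yh9 zh38) (kh xh1 yh26 zh12)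 (kh xh1 yh26 zh25) (kh xh3 yh9 zh27) (kh xh3 yh9 zh42) (kh xh3 yh9 zh45) (kh xh1 yh26 zh16) (kh xh2 yh16 zh27) (kh xh3 yh9 zh50) (kh xh1 yh26 zh18) (kh xh3 yh10 zh3) (kh xh3 yh10 zh5) (kh xh1 yh26 zh19) (kh xh3 yh9 zh33) (kh xh2 yh16 zh34) (kh xh3 yh10 zh9) (kh xh1 yh26 zh22) (kh xh3 yh10 zh12) (kh xh1 yh26 zh23) (kh xh3 yh9 zh39) (kh xh2 yh16 zh40) (kh xh3 yh10 zh18) (kh xh2 yh16 zh42) (kh xh3 yh10 zh22) (kh xh1 yh26 zh29) (kh xh2 yh16 zh45) (kh xh2 yh16 zh46) (kh xh3 yh10 zh27) (kh xh2 yh1 zh15) (kh xh3 yh10 zh30) (kh xh3 yh10 zh33)) (@D3.rec (fun _ => Pt) (kh xh1 yh26 zh33) (kh xh2 yh1 zh19) (kh xh3 yh10 zh37) (kh xh3 yh10 zh39) (kh xh1 yh26 zh35) (kh xh3 yh10 zh23) (kh xh2 yh1 zh24) (kh xh3 yh10 zh43) (kh xh2 yh17 zh8) (kh xh3 yh10 zh46) (kh xh3 yh10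 zh49) (kh xh1 yh26 zh40) (kh xh2 yh17 zh12) (kh xh3 yh11 zh2) (kh xh3 yh11 zh4) (kh xh1 yh26 zh42) (kh xh2 yh0 zh4) (kh xh2 yh17 zh17) (kh xh3 yh11 zh8) (kh xh3 yh11 zh11) (kh xh1 yh26 zh46) (kh xh2 yh1 zh28) (kh xh3 yh11 zh16) (kh xh1 yh26 zh48) (kh xh3 yh11 zh20) (kh xh3 yh11 zh22) (kh xh1 yh26 zh49) (kh xh3 yh10 zh50) (kh xh2 yh1 zh35) (kh xh3 yh11 zh26) (kh xh2 yh0 zh1) (kh xh3 yh11 zh29) (kh xh2 yh0 zh2) (kh xh3 yh11 zh5) (kh xh3 yh11 zh33) (kh xh3 yh11 zh36) (kh xh2 yh0 zh6) (kh xh2 yh17 zh37) (kh xh3 yh11 zh41) (kh xh2 yh0 zh8) (kh xh3 yh11 zh45) (kh xh3 yh11 zh47) (kh xh2 yh0 zh9) (kh xh2 yh0 zh26) (kh xh2 yh17 zh44) (kh xh3 yh12 zh0) (kh xh2 yh0 zh12) (kh xh3 yh12 zh3) (kh xh2 yh0 zh13) (kh xh2 yh0 zh32) (kh xh3 yh11 zh42)) (@D3.rec (fun _ =>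 Pt) (kh xh3 yh12 zh8) (kh xh2 yh0 zh17) (kh xh3 yh12 zh11) (kh xh3 yh12 zh13) (kh xh2 yh0 zh18) (kh xh3 yh11 zh37) (kh xh2 yh1 zh47) (kh xh3 yh12 zh17) (kh xh3 yh12 zh19) (kh xh2 yh0 zh21) (kh xh2 yh5 zh40) (kh xh3 yh11 zh43) (kh xh3 yh12 zh26) (kh xh2 yh0 zh23) (kh xh3 yh12 zh29) (kh xh2 yh0 zh24) (kh xh3 yh11 zh48) (kh xh3 yh12 zh32) (kh xh3 yh12 zh33) (kh xh2 yh0 zh28) (kh xh2 yh1 zh10) (kh xh3 yh12 zh2) (kh xh2 yh0 zh30) (kh xh3 yh12 zh4) (kh xh3 yh6 zh39) (kh xh3 yh6 zh40) (kh xh2 yh18 zh26) (kh xh3 yh6 zh36) (kh xh3 yh6 zh37) (kh xh3 yh12 zh46) (kh xh2 yh0 zh36) (kh xh3 yh12 zh48) (kh xh2 yh0 zh37) (kh xh3 yh12 zh50) (kh xh3 yh13 zh0) (kh xh2 yh0 zh40) (kh xh3 yh12 zh1) (kh xh2 yh1 zh11) (kh xh2 yh0 zh42) (kh xh2 yh1 zh13) (kh xh3 yh7 zh16) (kh xh3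 yh7 zh18) (kh xh3 yh13 zh11) (kh xh2 yh0 zh46) (kh xh3 yh13 zh13) (kh xh2 yh0 zh47) (kh xh3 yh13 zh15) (kh xh3 yh13 zh18) (kh xh2 yh0 zh50) (kh xh3 yh13 zh20) (kh xh2 yh1 zh0)) (@D3.rec (fun _ => Pt) (kh xh3 yh13 zh22) (kh xh3 yh13 zh23) (kh xh2 yh1 zh2) (kh xh3 yh12 zh27) (kh xh3 yh7 zh1) (kh xh2 yh1 zh4) (kh xh3 yh7 zh2) (kh xh3 yh13 zh30) (kh xh2 yh1 zh7) (kh xh2 yh1 zh8) (kh xh3 yh12 zh34) (kh xh3 yh13 zh2) (kh xh3 yh12 zh36) (kh xh3 yh13 zh39) (kh xh3 yh13 zh5) (kh xh3 yh13 zh41) (kh xh3 yh13 zh44) (kh xh2 yh1 zh14) (kh xh3 yh10 zh28) (kh xh3 yh13 zh49) (kh xh2 yh1 zh16) (kh xh3 yh14 zh2) (kh xh3 yh14 zh4) (kh xh2 yh1 zh17) (kh xh2 yh19 zh24) (kh xh3 yh10 zh35) (kh xh3 yh14 zh8) (kh xh2 yh1 zh20) (kh xh3 yh14 zh11) (kh xh2 yh1 zh21) (kh xh2 yh19 zh30)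 (kh xh3 yh14 zh15) (kh xh2 yh1 zh25) (kh xh3 yh14 zh18) (kh xh3 yh14 zh20) (kh xh2 yh1 zh26) (kh xh2 yh19 zh36) (kh xh3 yh11 zh13) (kh xh3 yh14 zh24) (kh xh3 yh14 zh26) (kh xh2 yh1 zh29) (kh xh2 yh6 zh49) (kh xh2 yh19 zh42) (kh xh3 yh14 zh33) (kh xh2 yh1 zh31) (kh xh3 yh14 zh36) (kh xh2 yh1 zh32) (kh xh2 yh19 zh47) (kh xh3 yh14 zh39) (kh xh3 yh14 zh40) (kh xh2 yh1 zh36)) (@D3.rec (fun _ => Pt) (kh xh2 yh20 zh0) (kh xh2 yh20 zh1) (kh xh2 yh1 zh38) (kh xh2 yh20 zh3) (kh xh3 yh14 zh47) (kh xh3 yh14 zh49) (kh xh2 yh1 zh41) (kh xh2 yh20 zh7) (kh xh3 yh15 zh2) (kh xh2 yh1 zh43) (kh xh3 yh15 zh5) (kh xh2 yh1 zh44) (kh xh2 yh20 zh12) (kh xh3 yh15 zh9) (kh xh2 yh1 zh48) (kh xh3 yh15 zh12) (kh xh2 yh1 zh49) (kh xh2 yh7 zh13) (kh xh2 yh20 zh18) (kh xh2 yh7 zh14)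 (kh xh3 yh9 zh46) (kh xh3 yh15 zh20) (kh xh3 yh15 zh21) (kh xh2 yh2 zh2) (kh xh2 yh2 zh22) (kh xh2 yh20 zh25) (kh xh2 yh2 zh4) (kh xh2 yh20 zh27) (kh xh3 yh15 zh28) (kh xh2 yh2 zh7) (kh xh2 yh2 zh8) (kh xh2 yh2 zh29) (kh xh2 yh20 zh32) (kh xh2 yh2 zh31) (kh xh3 yh15 zh37) (kh xh2 yh20 zh35) (kh xh3 yh15 zh39) (kh xh3 yh15 zh40) (kh xh2 yh2 zh14) (kh xh3 yh15 zh3) (kh xh2 yh20 zh40) (kh xh2 yh2 zh16) (kh xh2 yh20 zh42) (kh xh3 yh15 zh47) (kh xh2 yh2 zh19) (kh xh2 yh2 zh20) (kh xh3 yh15 zh22) (kh xh2 yh20 zh47) (kh xh3 yh15 zh24) (kh xh3 yh16 zh5) (kh xh2 yh20 zh50)) (@D3.rec (fun _ => Pt) (kh xh2 yh2 zh40) (kh xh2 yh2 zh26) (kh xh3 yh15 zh29) (kh xh2 yh21 zh3) (kh xh3 yh15 zh31) (kh xh2 yh21 zh5) (kh xh3 yh15 zh33) (kh xh3 yh16 zh11) (kh xh3 yh15 zh35)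 (kh xh3 yh16 zh14) (kh xh2 yh2 zh32) (kh xh2 yh21 zh11) (kh xh2 yh21 zh12) (kh xh3 yh15 zh46) (kh xh3 yh16 zh18) (kh xh2 yh2 zh41) (kh xh2 yh21 zh16) (kh xh2 yh11 zh3) (kh xh2 yh2 zh44) (kh xh2 yh21 zh19) (kh xh2 yh2 zh48) (kh xh2 yh7 zh19) (kh xh2 yh11 zh1) (kh xh3 yh16 zh22) (kh xh2 yh21 zh24) (kh xh2 yh21 zh25) (kh xh2 yh7 zh27) (kh xh2 yh21 zh27) (kh xh2 yh21 zh28) (kh xh2 yh21 zh29) (kh xh2 yh3 zh7) (kh xh2 yh7 zh18) (kh xh2 yh21 zh32) (kh xh2 yh10 zh44) (kh xh3 yh16 zh31) (kh xh2 yh21 zh35) (kh xh3 yh16 zh41) (kh xh2 yh21 zh37) (kh xh2 yh6 zh37) (kh xh2 yh3 zh10) (kh xh2 yh21 zh40) (kh xh2 yh21 zh41) (kh xh2 yh21 zh42) (kh xh2 yh3 zh18) (kh xh2 yh21 zh44) (kh xh2 yh6 zh43) (kh xh2 yh21 zh46) (kh xh2 yh10 zh49) (kh xh3 yh16 zh44) (kh xh3 yh17 zh2)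 (kh xh2 yh21 zh50)) (@D3.rec (fun _ => Pt) (kh xh3 yh17 zh5) (kh xh3 yh17 zh8) (kh xh2 yh3 zh20) (kh xh2 yh22 zh3) (kh xh2 yh6 zh39) (kh xh2 yh7 zh3) (kh xh2 yh3 zh22) (kh xh2 yh22 zh7) (kh xh2 yh3 zh30) (kh xh2 yh4 zh34) (kh xh2 yh6 zh29) (kh xh2 yh9 zh27) (kh xh2 yh10 zh45) (kh xh3 yh17 zh10) (kh xh3 yh17 zh19) (kh xh2 yh22 zh15) (kh xh3 yh17 zh22) (kh xh3 yh17 zh25) (kh xh2 yh3 zh32) (kh xh2 yh22 zh19) (kh xh2 yh4 zh41) (kh xh2 yh4 zh40) (kh xh2 yh3 zh34) (kh xh2 yh9 zh19) (kh xh2 yh22 zh24) (kh xh2 yh3 zh43) (kh xh2 yh5 zh5) (kh xh2 yh5 zh6) (kh xh2 yh6 zh44) (kh xh2 yh9 zh41) (kh xh2 yh9 zh42) (kh xh2 yh10 zh50) (kh xh3 yh17 zh37) (kh xh3 yh17 zh40) (kh xh2 yh3 zh44) (kh xh2 yh22 zh35) (kh xh3 yh17 zh44) (kh xh2 yh3 zh46) (kh xh3 yh17 zh47) (kh xh3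 yh17 zh49) (kh xh2 yh3 zh47) (kh xh2 yh4 zh45) (kh xh2 yh22 zh42) (kh xh2 yh5 zh16) (kh xh2 yh3 zh50) (kh xh2 yh5 zh14) (kh xh2 yh4 zh0) (kh xh2 yh9 zh32) (kh xh2 yh5 zh33) (kh xh2 yh5 zh34) (kh xh2 yh5 zh35)) (@D3.rec (fun _ => Pt) (kh xh2 yh7 zh10) (kh xh2 yh10 zh5) (kh xh2 yh10 zh6) (kh xh2 yh5 zh19) (kh xh3 yh18 zh11) (kh xh2 yh4 zh11) (kh xh3 yh18 zh13) (kh xh3 yh18 zh15) (kh xh2 yh4 zh12) (kh xh2 yh23 zh9) (kh xh3 yh18 zh18) (kh xh3 yh18 zh20) (kh xh2 yh4 zh15) (kh xh3 yh10 zh0) (kh xh3 yh18 zh25) (kh xh2 yh4 zh17) (kh xh3 yh18 zh28) (kh xh2 yh4 zh18) (kh xh2 yh5 zh20) (kh xh2 yh5 zh46) (kh xh2 yh5 zh45) (kh xh2 yh4 zh22) (kh xh2 yh23 zh22) (kh xh2 yh9 zh46) (kh xh2 yh4 zh24) (kh xh2 yh9 zh47) (kh xh3 yh17 zh26) (kh xh2 yh23 zh27) (kh xh3 yh18 zh37)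 (kh xh3 yh18 zh40) (kh xh2 yh4 zh28) (kh xh2 yh23 zh31) (kh xh3 yh18 zh42) (kh xh3 yh18 zh43) (kh xh2 yh4 zh30) (kh xh2 yh4 zh43) (kh xh2 yh23 zh36) (kh xh3 yh17 zh11) (kh xh3 yh17 zh12) (kh xh2 yh6 zh30) (kh xh3 yh19 zh0) (kh xh2 yh4 zh36) (kh xh3 yh17 zh24) (kh xh3 yh17 zh23) (kh xh2 yh4 zh37) (kh xh2 yh6 zh36) (kh xh3 yh18 zh44) (kh xh3 yh17 zh35) (kh xh3 yh17 zh50) (kh xh2 yh23 zh49) (kh xh3 yh19 zh8)) (@D3.rec (fun _ => Pt) (kh xh2 yh4 zh47) (kh xh3 yh19 zh10) (kh xh3 yh19 zh12) (kh xh2 yh4 zh48) (kh xh2 yh24 zh4) (kh xh3 yh19 zh13) (kh xh2 yh5 zh0) (kh xh3 yh19 zh16) (kh xh2 yh5 zh1) (kh xh2 yh5 zh18) (kh xh3 yh17 zh29) (kh xh3 yh17 zh30) (kh xh3 yh17 zh31) (kh xh2 yh6 zh45) (kh xh3 yh19 zh24) (kh xh3 yh19 zh26) (kh xh2 yh5 zh8) (kh xh3 yh11 zh17)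 (kh xh3 yh17 zh48) (kh xh2 yh5 zh10) (kh xh3 yh17 zh46) (kh xh2 yh5 zh11) (kh xh3 yh19 zh15) (kh xh3 yh19 zh17) (kh xh3 yh18 zh8) (kh xh3 yh18 zh27) (kh xh3 yh18 zh29) (kh xh2 yh24 zh27) (kh xh3 yh19 zh35) (kh xh3 yh19 zh37) (kh xh2 yh5 zh22) (kh xh3 yh19 zh40) (kh xh2 yh5 zh24) (kh xh3 yh19 zh42) (kh xh2 yh5 zh25) (kh xh3 yh19 zh43) (kh xh3 yh19 zh44) (kh xh2 yh5 zh28) (kh xh2 yh6 zh15) (kh xh2 yh5 zh48) (kh xh2 yh5 zh30) (kh xh2 yh5 zh50) (kh xh3 yh18 zh2) (kh xh3 yh18 zh3) (kh xh3 yh18 zh4) (kh xh3 yh18 zh5) (kh xh3 yh20 zh4) (kh xh3 yh20 zh7) (kh xh2 yh5 zh37) (kh xh3 yh20 zh9) (kh xh2 yh5 zh38)) (@D3.rec (fun _ => Pt) (kh xh3 yh12 zh20) (kh xh3 yh12 zh22) (kh xh3 yh18 zh24) (kh xh3 yh18 zh23) (kh xh2 yh5 zh41) (kh xh2 yh5 zh43) (kh xh3 yh19 zh46)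 (kh xh3 yh19 zh48) (kh xh3 yh6 zh29) (kh xh3 yh6 zh30) (kh xh3 yh20 zh18) (kh xh2 yh6 zh1) (kh xh3 yh20 zh20) (kh xh2 yh6 zh2) (kh xh3 yh20 zh22) (kh xh3 yh20 zh25) (kh xh2 yh6 zh5) (kh xh3 yh20 zh27) (kh xh2 yh6 zh6) (kh xh3 yh20 zh29) (kh xh3 yh20 zh30) (kh xh2 yh6 zh8) (kh xh3 yh19 zh41) (kh xh2 yh6 zh10) (kh xh3 yh20 zh33) (kh xh2 yh6 zh12) (kh xh2 yh6 zh13) (kh xh3 yh19 zh45) (kh xh2 yh10 zh35) (kh xh2 yh25 zh29) (kh xh2 yh25 zh30) (kh xh3 yh20 zh42) (kh xh2 yh25 zh32) (kh xh2 yh25 zh33) (kh xh2 yh25 zh34) (kh xh2 yh25 zh35) (kh xh3 yh20 zh48) (kh xh2 yh6 zh22) (kh xh2 yh25 zh38) (kh xh2 yh25 zh39) (kh xh2 yh25 zh40) (kh xh3 yh8 zh29) (kh xh3 yh16 zh33) (kh xh3 yh17 zh13) (kh xh3 yh18 zh48) (kh xh3 yh21 zh6) (kh xh3 yh21 zh8) (kh xh2 yh6 zh31) (kh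 xh3 yh13 zh50) (kh xh3 yh16 zh40) (kh xh2 yh6 zh33)) (@D3.rec (fun _ => Pt) (kh xh3 yh17 zh6) (kh xh2 yh6 zh34) (kh xh2 yh26 zh2) (kh xh2 yh26 zh3) (kh xh3 yh8 zh9) (kh xh3 yh9 zh1) (kh xh3 yh16 zh47) (kh xh3 yh17 zh32) (kh xh3 yh21 zh16) (kh xh3 yh21 zh18) (kh xh2 yh6 zh46) (kh xh3 yh21 zh20) (kh xh2 yh6 zh47) (kh xh3 yh14 zh27) (kh xh3 yh14 zh29) (kh xh3 yh17 zh7) (kh xh2 yh6 zh50) (kh xh2 yh26 zh17) (kh xh2 yh7 zh1) (kh xh2 yh26 zh19) (kh xh3 yh21 zh25) (kh xh2 yh26 zh21) (kh xh3 yh9 zh34) (kh xh2 yh7 zh11) (kh xh3 yh15 zh13) (kh xh3 yh15 zh15) (kh xh3 yh15 zh17) (kh xh3 yh7 zh43) (kh xh3 yh7 zh31) (kh xh3 yh16 zh23) (kh xh3 yh21 zh34) (kh xh3 yh21 zh36) (kh xh2 yh7 zh20) (kh xh2 yh7 zh21) (kh xh2 yh26 zh34) (kh xh2 yh26 zh35) (kh xh3 yh16 zh28) (kh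 xh2 yh7 zh24) (kh xh2 yh26 zh38) (kh xh2 yh26 zh39) (kh xh3 yh21 zh42) (kh xh3 yh21 zh43) (kh xh2 yh7 zh33) (kh xh3 yh21 zh44) (kh xh2 yh26 zh44) (kh xh2 yh26 zh45) (kh xh2 yh26 zh46) (kh xh2 yh26 zh47) (kh xh3 yh22 zh1) (kh xh2 yh7 zh39) (kh xh2 yh26 zh50))
def f_h_3 : D2 → D3 → Pt := @D2.rec (fun _ => D3 → Pt) (@D3.rec (fun _ => Pt) (kh xh3 yh22 zh4) (kh xh3 yh22 zh6) (kh xh2 yh7 zh41) (kh xh3 yh22 zh7) (kh xh2 yh7 zh43) (kh xh3 yh0 zh5) (kh xh3 yh0 zh6) (kh xh3 yh0 zh7) (kh xh2 yh8 zh0) (kh xh3 yh0 zh9) (kh xh2 yh11 zh2) (kh xh3 yh22 zh11) (kh xh2 yh8 zh5) (kh xh3 yh0 zh13) (kh xh2 yh8 zh11) (kh xh3 yh0 zh15) (kh xh2 yh10 zh47) (kh xh3 yh22 zh14) (kh xh2 yh8 zh12) (kh xh3 yh0 zh19) (kh xh3 yh0 zh20) (kh xh2 yh8 zh23) (kh xh3 yh0 zh22) (kh xh3 yh0 zh23)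 (kh xh2 yh11 zh0) (kh xh2 yh8 zh24) (kh xh2 yh10 zh48) (kh xh2 yh8 zh25) (kh xh2 yh8 zh35) (kh xh2 yh9 zh29) (kh xh2 yh9 zh30) (kh xh2 yh9 zh21) (kh xh2 yh8 zh37) (kh xh2 yh9 zh44) (kh xh2 yh9 zh45) (kh xh2 yh9 zh34) (kh xh2 yh9 zh35) (kh xh2 yh8 zh49) (kh xh2 yh8 zh50) (kh xh2 yh10 zh7) (kh xh2 yh10 zh8) (kh xh2 yh10 zh26) (kh xh2 yh9 zh49) (kh xh2 yh9 zh50) (kh xh2 yh9 zh10) (kh xh3 yh0 zh45) (kh xh2 yh9 zh12) (kh xh3 yh17 zh28) (kh xh3 yh0 zh48) (kh xh2 yh9 zh24) (kh xh2 yh9 zh23)) (@D3.rec (fun _ => Pt) (kh xh3 yh1 zh0) (kh xh3 yh17 zh14) (kh xh3 yh17 zh15) (kh xh2 yh10 zh46) (kh xh3 yh18 zh0) (kh xh3 yh18 zh1) (kh xh3 yh1 zh6) (kh xh2 yh9 zh39) (kh xh2 yh9 zh37) (kh xh3 yh17 zh33) (kh xh3 yh17 zh34) (kh xh3 yh18 zh30) (kh xh3 yh18 zh32) (kh xh2 yh10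 zh1) (kh xh2 yh10 zh0) (kh xh2 yh10 zh31) (kh xh3 yh18 zh6) (kh xh3 yh18 zh7) (kh xh3 yh6 zh25) (kh xh3 yh6 zh26) (kh xh3 yh1 zh20) (kh xh3 yh22 zh24) (kh xh2 yh10 zh10) (kh xh3 yh22 zh25) (kh xh2 yh10 zh11) (kh xh3 yh20 zh35) (kh xh3 yh20 zh34) (kh xh2 yh10 zh13) (kh xh3 yh18 zh31) (kh xh2 yh10 zh15) (kh xh3 yh1 zh30) (kh xh3 yh22 zh26) (kh xh3 yh22 zh27) (kh xh2 yh10 zh18) (kh xh2 yh10 zh20) (kh xh3 yh1 zh35) (kh xh2 yh10 zh23) (kh xh2 yh10 zh24) (kh xh2 yh10 zh28) (kh xh2 yh10 zh40) (kh xh3 yh20 zh37) (kh xh3 yh1 zh41) (kh xh3 yh1 zh42) (kh xh3 yh20 zh36) (kh xh3 yh1 zh44) (kh xh3 yh1 zh45) (kh xh3 yh1 zh46) (kh xh3 yh16 zh35) (kh xh3 yh17 zh16) (kh xh3 yh16 zh50) (kh xh3 yh16 zh25)) (@D3.rec (fun _ => Pt) (kh xh3 yh2 zh0) (kh xh3 yh2 zh1) (kh xh2 yh11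 zh6) (kh xh3 yh2 zh3) (kh xh3 yh2 zh4) (kh xh3 yh2 zh5) (kh xh3 yh2 zh6) (kh xh3 yh2 zh7) (kh xh3 yh2 zh8) (kh xh2 yh11 zh33) (kh xh2 yh11 zh34) (kh xh2 yh11 zh37) (kh xh2 yh11 zh38) (kh xh2 yh11 zh39) (kh xh2 yh11 zh43) (kh xh2 yh11 zh44) (kh xh3 yh23 zh6) (kh xh2 yh11 zh46) (kh xh2 yh11 zh47) (kh xh2 yh12 zh0) (kh xh2 yh12 zh1) (kh xh3 yh23 zh13) (kh xh2 yh12 zh3) (kh xh2 yh12 zh4) (kh xh2 yh12 zh9) (kh xh3 yh23 zh20) (kh xh2 yh12 zh11) (kh xh3 yh23 zh24) (kh xh2 yh11 zh22) (kh xh2 yh12 zh14) (kh xh2 yh12 zh15) (kh xh3 yh23 zh29) (kh xh2 yh12 zh23) (kh xh3 yh23 zh32) (kh xh3 yh23 zh35) (kh xh2 yh11 zh26) (kh xh2 yh12 zh27) (kh xh3 yh23 zh39) (kh xh3 yh23 zh41) (kh xh2 yh11 zh28) (kh xh3 yh2 zh40) (kh xh2 yh12 zh32) (kh xh3 yh2 zh42) (kh xh3 yh2 zh43)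 (kh xh3 yh22 zh45) (kh xh3 yh22 zh46) (kh xh3 yh22 zh47) (kh xh3 yh2 zh47) (kh xh3 yh2 zh48) (kh xh3 yh2 zh49) (kh xh3 yh22 zh48)) (@D3.rec (fun _ => Pt) (kh xh3 yh22 zh49) (kh xh3 yh24 zh8) (kh xh3 yh23 zh0) (kh xh3 yh23 zh1) (kh xh3 yh3 zh4) (kh xh3 yh24 zh14) (kh xh3 yh3 zh6) (kh xh3 yh3 zh7) (kh xh3 yh23 zh2) (kh xh3 yh24 zh21) (kh xh3 yh23 zh4) (kh xh3 yh24 zh25) (kh xh2 yh11 zh45) (kh xh3 yh23 zh7) (kh xh3 yh23 zh8) (kh xh3 yh3 zh15) (kh xh3 yh24 zh31) (kh xh3 yh3 zh17) (kh xh3 yh3 zh18) (kh xh3 yh23 zh9) (kh xh3 yh24 zh38) (kh xh3 yh23 zh11) (kh xh3 yh24 zh42) (kh xh2 yh12 zh2) (kh xh3 yh23 zh14) (kh xh3 yh23 zh15) (kh xh3 yh24 zh47) (kh xh3 yh3 zh27) (kh xh3 yh25 zh0) (kh xh2 yh12 zh6) (kh xh3 yh3 zh30) (kh xh3 yh3 zh31) (kh xh3 yh25 zh5) (kh xh3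 yh23 zh17) (kh xh3 yh25 zh8) (kh xh3 yh25 zh11) (kh xh2 yh12 zh10) (kh xh3 yh23 zh21) (kh xh3 yh25 zh15) (kh xh3 yh25 zh17) (kh xh2 yh12 zh12) (kh xh3 yh25 zh1) (kh xh3 yh23 zh26) (kh xh3 yh25 zh20) (kh xh3 yh25 zh23) (kh xh2 yh12 zh16) (kh xh3 yh3 zh46) (kh xh3 yh25 zh27) (kh xh3 yh25 zh29) (kh xh2 yh12 zh18) (kh xh2 yh12 zh31)) (@D3.rec (fun _ => Pt) (kh xh3 yh4 zh0) (kh xh3 yh25 zh33) (kh xh3 yh25 zh36) (kh xh2 yh12 zh22) (kh xh3 yh23 zh30) (kh xh3 yh25 zh41) (kh xh2 yh12 zh24) (kh xh3 yh25 zh45) (kh xh3 yh25 zh47) (kh xh2 yh12 zh25) (kh xh3 yh25 zh24) (kh xh3 yh23 zh37) (kh xh3 yh26 zh0) (kh xh2 yh12 zh28) (kh xh3 yh26 zh3) (kh xh2 yh12 zh29) (kh xh3 yh25 zh30) (kh xh2 yh12 zh36) (kh xh2 yh12 zh37) (kh xh3 yh26 zh9) (kh xh2 yh12 zh39) (kh xh2 yh12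 zh40) (kh xh3 yh26 zh5) (kh xh3 yh26 zh16) (kh xh3 yh26 zh7) (kh xh3 yh26 zh20) (kh xh2 yh12 zh38) (kh xh3 yh26 zh10) (kh xh3 yh26 zh11) (kh xh3 yh26 zh25) (kh xh3 yh4 zh30) (kh xh3 yh26 zh28) (kh xh3 yh26 zh31) (kh xh2 yh12 zh42) (kh xh3 yh4 zh34) (kh xh3 yh26 zh35) (kh xh3 yh26 zh37) (kh xh2 yh12 zh44) (kh xh3 yh26 zh21) (kh xh3 yh4 zh39) (kh xh2 yh13 zh2) (kh xh3 yh26 zh43) (kh xh2 yh13 zh4) (kh xh3 yh26 zh47) (kh xh2 yh12 zh50) (kh xh2 yh13 zh7) (kh xh2 yh13 zh8) (kh xh4 yh0 zh1) (kh xh3 yh26 zh40) (kh xh4 yh0 zh4) (kh xh4 yh0 zh7)) (@D3.rec (fun _ => Pt) (kh xh2 yh13 zh3) (kh xh3 yh26 zh44) (kh xh4 yh0 zh11) (kh xh4 yh0 zh13) (kh xh2 yh13 zh5) (kh xh2 yh13 zh18) (kh xh3 yh26 zh49) (kh xh4 yh0 zh17) (kh xh4 yh0 zh20) (kh xh2 yh13 zh9) (kh xh3 yh5 zh10)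 (kh xh4 yh0 zh25) (kh xh2 yh13 zh11) (kh xh4 yh0 zh29) (kh xh4 yh0 zh31) (kh xh2 yh13 zh12) (kh xh4 yh0 zh8) (kh xh3 yh5 zh17) (kh xh4 yh0 zh35) (kh xh2 yh13 zh15) (kh xh4 yh0 zh38) (kh xh2 yh13 zh16) (kh xh4 yh0 zh14) (kh xh4 yh0 zh42) (kh xh2 yh13 zh28) (kh xh4 yh0 zh45) (kh xh4 yh0 zh48) (kh xh2 yh13 zh21) (kh xh2 yh13 zh32) (kh xh4 yh1 zh1) (kh xh4 yh1 zh3) (kh xh2 yh13 zh23) (kh xh3 yh5 zh32) (kh xh2 yh13 zh37) (kh xh4 yh1 zh7) (kh xh4 yh1 zh10) (kh xh2 yh13 zh27) (kh xh4 yh0 zh43) (kh xh4 yh1 zh15) (kh xh2 yh13 zh29) (kh xh4 yh1 zh19) (kh xh4 yh1 zh21) (kh xh2 yh13 zh30) (kh xh2 yh13 zh47) (kh xh4 yh0 zh50) (kh xh4 yh1 zh25) (kh xh2 yh13 zh33) (kh xh4 yh1 zh28) (kh xh2 yh13 zh34) (kh xh2 yh14 zh2) (kh xh4 yh1 zh31)) (@D3.rec (fun _ => Pt) (kh xh4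 yh1 zh34) (kh xh2 yh13 zh38) (kh xh4 yh1 zh38) (kh xh4 yh1 zh40) (kh xh2 yh13 zh39) (kh xh4 yh1 zh11) (kh xh3 yh6 zh6) (kh xh4 yh1 zh44) (kh xh4 yh1 zh46) (kh xh2 yh13 zh42) (kh xh3 yh6 zh10) (kh xh4 yh1 zh17) (kh xh4 yh2 zh2) (kh xh2 yh13 zh44) (kh xh4 yh2 zh5) (kh xh2 yh13 zh45) (kh xh4 yh1 zh22) (kh xh4 yh2 zh8) (kh xh4 yh2 zh9) (kh xh2 yh13 zh49) (kh xh2 yh14 zh42) (kh xh4 yh1 zh27) (kh xh2 yh14 zh0) (kh xh4 yh1 zh29) (kh xh3 yh6 zh24) (kh xh3 yh1 zh18) (kh xh3 yh1 zh19) (kh xh3 yh6 zh27) (kh xh2 yh14 zh15) (kh xh2 yh25 zh8) (kh xh2 yh25 zh9) (kh xh2 yh14 zh20) (kh xh4 yh2 zh23) (kh xh2 yh14 zh10) (kh xh4 yh2 zh25) (kh xh2 yh14 zh11) (kh xh2 yh18 zh27) (kh xh2 yh18 zh28) (kh xh4 yh2 zh18) (kh xh2 yh18 zh24) (kh xh2 yh18 zh25) (kh xh4 yh2 zh33) (kh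 xh2 yh14 zh17) (kh xh4 yh2 zh35) (kh xh2 yh14 zh18) (kh xh4 yh2 zh37) (kh xh4 yh2 zh38) (kh xh2 yh14 zh21) (kh xh4 yh1 zh26) (kh xh2 yh14 zh43) (kh xh2 yh14 zh23)) (@D3.rec (fun _ => Pt) (kh xh2 yh14 zh45) (kh xh2 yh19 zh4) (kh xh2 yh19 zh6) (kh xh4 yh2 zh49) (kh xh2 yh14 zh27) (kh xh4 yh3 zh0) (kh xh2 yh14 zh28) (kh xh4 yh3 zh2) (kh xh4 yh3 zh5) (kh xh2 yh14 zh31) (kh xh4 yh3 zh7) (kh xh2 yh14 zh32) (kh xh4 yh3 zh9) (kh xh4 yh3 zh10) (kh xh2 yh14 zh34) (kh xh4 yh2 zh3) (kh xh2 yh18 zh40) (kh xh2 yh14 zh36) (kh xh2 yh18 zh41) (kh xh4 yh3 zh17) (kh xh2 yh14 zh39) (kh xh2 yh14 zh40) (kh xh4 yh2 zh10) (kh xh4 yh2 zh40) (kh xh4 yh2 zh12) (kh xh4 yh3 zh26) (kh xh4 yh2 zh43) (kh xh2 yh14 zh46) (kh xh3 yh7 zh28) (kh xh2 yh14 zh49) (kh xh2 yh14 zh50) (kh xh2 yh26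 zh28) (kh xh4 yh3 zh30) (kh xh4 yh3 zh31) (kh xh3 yh7 zh34) (kh xh3 yh7 zh35) (kh xh4 yh3 zh40) (kh xh3 yh7 zh37) (kh xh3 yh7 zh38) (kh xh3 yh7 zh39) (kh xh3 yh7 zh40) (kh xh2 yh15 zh7) (kh xh2 yh15 zh8) (kh xh2 yh26 zh27) (kh xh4 yh3 zh50) (kh xh4 yh3 zh45) (kh xh4 yh3 zh46) (kh xh3 yh7 zh47) (kh xh4 yh4 zh6) (kh xh3 yh7 zh49) (kh xh4 yh4 zh10)) (@D3.rec (fun _ => Pt) (kh xh2 yh15 zh11) (kh xh3 yh8 zh1) (kh xh3 yh8 zh2) (kh xh3 yh8 zh3) (kh xh3 yh8 zh4) (kh xh4 yh4 zh17) (kh xh2 yh15 zh20) (kh xh2 yh15 zh21) (kh xh4 yh4 zh22) (kh xh2 yh26 zh4) (kh xh4 yh4 zh26) (kh xh2 yh15 zh19) (kh xh4 yh4 zh18) (kh xh4 yh4 zh19) (kh xh3 yh24 zh19) (kh xh3 yh8 zh15) (kh xh3 yh24 zh17) (kh xh4 yh4 zh34) (kh xh2 yh15 zh23) (kh xh3 yh8 zh19) (kh xh4 yh4 zh38) (kh xh4 yh4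 zh40) (kh xh2 yh15 zh25) (kh xh4 yh4 zh27) (kh xh3 yh8 zh24) (kh xh4 yh4 zh43) (kh xh2 yh15 zh33) (kh xh2 yh15 zh34) (kh xh4 yh4 zh48) (kh xh2 yh25 zh41) (kh xh4 yh5 zh1) (kh xh2 yh15 zh32) (kh xh4 yh4 zh44) (kh xh4 yh4 zh45) (kh xh4 yh5 zh6) (kh xh3 yh8 zh35) (kh xh4 yh5 zh9) (kh xh4 yh5 zh12) (kh xh2 yh15 zh36) (kh xh3 yh8 zh39) (kh xh4 yh5 zh16) (kh xh4 yh5 zh18) (kh xh2 yh15 zh38) (kh xh4 yh5 zh2) (kh xh3 yh8 zh44) (kh xh4 yh5 zh22) (kh xh2 yh15 zh42) (kh xh2 yh15 zh49) (kh xh2 yh15 zh50) (kh xh4 yh5 zh26) (kh xh4 yh5 zh29)) (@D3.rec (fun _ => Pt) (kh xh2 yh15 zh45) (kh xh2 yh26 zh5) (kh xh4 yh5 zh33) (kh xh4 yh5 zh35) (kh xh2 yh15 zh47) (kh xh2 yh16 zh9) (kh xh4 yh5 zh24) (kh xh4 yh5 zh39) (kh xh4 yh5 zh42) (kh xh2 yh16 zh0) (kh xh3 yh9 zh10) (kh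 xh4 yh5 zh47) (kh xh2 yh16 zh2) (kh xh4 yh6 zh0) (kh xh4 yh6 zh2) (kh xh2 yh16 zh3) (kh xh4 yh5 zh30) (kh xh3 yh9 zh17) (kh xh4 yh6 zh6) (kh xh2 yh16 zh6) (kh xh4 yh6 zh9) (kh xh2 yh16 zh7) (kh xh4 yh5 zh36) (kh xh4 yh6 zh12) (kh xh4 yh6 zh14) (kh xh2 yh16 zh11) (kh xh3 yh9 zh26) (kh xh2 yh16 zh23) (kh xh4 yh6 zh18) (kh xh2 yh16 zh15) (kh xh4 yh6 zh21) (kh xh4 yh6 zh23) (kh xh2 yh16 zh16) (kh xh2 yh16 zh33) (kh xh2 yh26 zh22) (kh xh4 yh6 zh27) (kh xh2 yh16 zh19) (kh xh4 yh6 zh30) (kh xh2 yh16 zh20) (kh xh2 yh16 zh39) (kh xh4 yh6 zh33) (kh xh4 yh6 zh36) (kh xh2 yh16 zh24) (kh xh4 yh6 zh40) (kh xh4 yh6 zh42) (kh xh2 yh16 zh25) (kh xh2 yh20 zh20) (kh xh3 yh9 zh47) (kh xh4 yh6 zh46) (kh xh4 yh6 zh48) (kh xh2 yh16 zh28)) (@D3.rec (fun _ => Pt) (kh xh2 yh23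 zh13) (kh xh4 yh6 zh19) (kh xh4 yh7 zh4) (kh xh2 yh16 zh30) (kh xh4 yh7 zh7) (kh xh2 yh16 zh31) (kh xh4 yh6 zh24) (kh xh4 yh7 zh10) (kh xh4 yh7 zh11) (kh xh2 yh16 zh35) (kh xh3 yh10 zh10) (kh xh4 yh6 zh29) (kh xh2 yh16 zh37) (kh xh4 yh6 zh31) (kh xh4 yh7 zh19) (kh xh3 yh10 zh15) (kh xh4 yh7 zh22) (kh xh4 yh7 zh25) (kh xh2 yh16 zh41) (kh xh3 yh10 zh19) (kh xh4 yh7 zh29) (kh xh4 yh7 zh31) (kh xh2 yh16 zh43) (kh xh2 yh17 zh5) (kh xh3 yh10 zh24) (kh xh4 yh7 zh35) (kh xh4 yh7 zh38) (kh xh2 yh16 zh47) (kh xh2 yh19 zh18) (kh xh4 yh7 zh43) (kh xh2 yh16 zh49) (kh xh4 yh7 zh47) (kh xh4 yh7 zh49) (kh xh2 yh16 zh50) (kh xh4 yh7 zh26) (kh xh2 yh19 zh25) (kh xh4 yh8 zh2) (kh xh2 yh17 zh2) (kh xh4 yh8 zh5) (kh xh2 yh17 zh3) (kh xh4 yh7 zh32) (kh xh4 yh8 zh9) (kh xh4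 yh8 zh12) (kh xh2 yh17 zh7) (kh xh3 yh10 zh44) (kh xh4 yh8 zh17) (kh xh2 yh17 zh9) (kh xh4 yh8 zh21) (kh xh4 yh8 zh23) (kh xh2 yh17 zh10) (kh xh2 yh17 zh27)) (@D3.rec (fun _ => Pt) (kh xh3 yh11 zh0) (kh xh4 yh8 zh27) (kh xh2 yh17 zh13) (kh xh4 yh8 zh30) (kh xh2 yh17 zh14) (kh xh2 yh17 zh33) (kh xh4 yh8 zh18) (kh xh4 yh8 zh35) (kh xh2 yh17 zh18) (kh xh4 yh8 zh38) (kh xh4 yh8 zh40) (kh xh2 yh17 zh19) (kh xh4 yh8 zh13) (kh xh2 yh19 zh37) (kh xh4 yh8 zh44) (kh xh4 yh8 zh46) (kh xh2 yh17 zh22) (kh xh2 yh24 zh17) (kh xh4 yh8 zh19) (kh xh4 yh9 zh2) (kh xh2 yh17 zh24) (kh xh4 yh9 zh5) (kh xh2 yh17 zh25) (kh xh4 yh8 zh24) (kh xh4 yh9 zh8) (kh xh4 yh9 zh9) (kh xh2 yh17 zh29) (kh xh3 yh11 zh27) (kh xh4 yh8 zh29) (kh xh2 yh17 zh31) (kh xh4 yh8 zh31) (kh xh4 yh6 zh37)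 (kh xh4 yh9 zh18) (kh xh2 yh17 zh34) (kh xh4 yh9 zh21) (kh xh4 yh9 zh23) (kh xh2 yh17 zh35) (kh xh2 yh18 zh5) (kh xh3 yh11 zh38) (kh xh4 yh9 zh27) (kh xh4 yh9 zh29) (kh xh2 yh17 zh38) (kh xh2 yh17 zh50) (kh xh2 yh18 zh11) (kh xh4 yh9 zh35) (kh xh2 yh17 zh40) (kh xh4 yh9 zh38) (kh xh2 yh17 zh41) (kh xh2 yh18 zh16) (kh xh4 yh9 zh41) (kh xh4 yh9 zh42)) (@D3.rec (fun _ => Pt) (kh xh2 yh17 zh45) (kh xh2 yh18 zh36) (kh xh2 yh18 zh21) (kh xh2 yh17 zh47) (kh xh2 yh18 zh23) (kh xh4 yh9 zh30) (kh xh4 yh10 zh1) (kh xh4 yh10 zh3) (kh xh2 yh18 zh0) (kh xh4 yh9 zh19) (kh xh4 yh10 zh7) (kh xh2 yh18 zh2) (kh xh4 yh10 zh10) (kh xh2 yh18 zh3) (kh xh4 yh9 zh24) (kh xh4 yh10 zh13) (kh xh4 yh10 zh16) (kh xh2 yh18 zh7) (kh xh4 yh10 zh19) (kh xh2 yh18 zh8) (kh xh2 yh25 zh0)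 (kh xh4 yh9 zh31) (kh xh2 yh25 zh1) (kh xh4 yh6 zh38) (kh xh4 yh10 zh27) (kh xh4 yh10 zh28) (kh xh2 yh18 zh12) (kh xh2 yh19 zh3) (kh xh4 yh9 zh37) (kh xh2 yh18 zh14) (kh xh4 yh9 zh39) (kh xh4 yh10 zh35) (kh xh2 yh18 zh17) (kh xh2 yh18 zh18) (kh xh2 yh19 zh10) (kh xh4 yh9 zh44) (kh xh2 yh19 zh12) (kh xh4 yh10 zh44) (kh xh4 yh9 zh47) (kh xh4 yh2 zh29) (kh xh4 yh2 zh30) (kh xh4 yh10 zh48) (kh xh4 yh2 zh26) (kh xh4 yh2 zh27) (kh xh4 yh11 zh1) (kh xh4 yh11 zh2) (kh xh2 yh18 zh29) (kh xh4 yh9 zh36) (kh xh2 yh18 zh31) (kh xh4 yh11 zh6) (kh xh2 yh18 zh33)) (@D3.rec (fun _ => Pt) (kh xh2 yh18 zh34) (kh xh4 yh9 zh43) (kh xh2 yh19 zh11) (kh xh4 yh9 zh45) (kh xh4 yh11 zh15) (kh xh2 yh19 zh14) (kh xh4 yh11 zh17) (kh xh4 yh3 zh12) (kh xh4 yh3 zh15) (kh xh4 yh11 zh21)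 (kh xh4 yh11 zh22) (kh xh2 yh18 zh42) (kh xh4 yh10 zh8) (kh xh2 yh18 zh44) (kh xh4 yh11 zh27) (kh xh2 yh18 zh46) (kh xh4 yh11 zh31) (kh xh4 yh11 zh32) (kh xh2 yh18 zh47) (kh xh4 yh11 zh28) (kh xh2 yh18 zh49) (kh xh4 yh11 zh36) (kh xh2 yh19 zh0) (kh xh2 yh19 zh1) (kh xh4 yh10 zh29) (kh xh4 yh2 zh45) (kh xh4 yh10 zh31) (kh xh4 yh11 zh45) (kh xh4 yh2 zh46) (kh xh4 yh11 zh46) (kh xh2 yh19 zh7) (kh xh4 yh10 zh36) (kh xh4 yh11 zh8) (kh xh4 yh10 zh38) (kh xh4 yh11 zh10) (kh xh4 yh10 zh40) (kh xh4 yh12 zh5) (kh xh4 yh10 zh42) (kh xh4 yh12 zh8) (kh xh2 yh19 zh13) (kh xh4 yh12 zh11) (kh xh2 yh19 zh15) (kh xh4 yh12 zh14) (kh xh4 yh12 zh16) (kh xh2 yh19 zh16) (kh xh3 yh13 zh45) (kh xh4 yh7 zh40) (kh xh4 yh12 zh20) (kh xh4 yh12 zh22) (kh xh2 yh19 zh19) (kh xh2 yh25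 zh48)) (@D3.rec (fun _ => Pt) (kh xh3 yh14 zh0) (kh xh4 yh12 zh29) (kh xh2 yh19 zh21) (kh xh4 yh12 zh32) (kh xh2 yh19 zh22) (kh xh3 yh14 zh5) (kh xh4 yh12 zh35) (kh xh4 yh12 zh36) (kh xh2 yh19 zh26) (kh xh3 yh14 zh9) (kh xh3 yh14 zh10) (kh xh2 yh19 zh28) (kh xh3 yh14 zh12) (kh xh4 yh12 zh44) (kh xh4 yh12 zh46) (kh xh2 yh19 zh31) (kh xh3 yh14 zh16) (kh xh4 yh12 zh50) (kh xh2 yh19 zh33) (kh xh4 yh13 zh2) (kh xh2 yh19 zh34) (kh xh3 yh14 zh21) (kh xh4 yh13 zh5) (kh xh4 yh13 zh8) (kh xh2 yh19 zh38) (kh xh4 yh13 zh11) (kh xh2 yh19 zh39) (kh xh2 yh26 zh13) (kh xh3 yh14 zh28) (kh xh2 yh26 zh14) (kh xh4 yh5 zh43) (kh xh4 yh13 zh19) (kh xh4 yh13 zh20) (kh xh2 yh19 zh43) (kh xh3 yh14 zh34) (kh xh3 yh14 zh35) (kh xh2 yh19 zh45) (kh xh3 yh14 zh37) (kh xh4 yh13 zh27)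 (kh xh2 yh19 zh48) (kh xh2 yh19 zh49) (kh xh3 yh14 zh41) (kh xh3 yh14 zh42) (kh xh3 yh14 zh43) (kh xh4 yh13 zh36) (kh xh3 yh14 zh45) (kh xh4 yh13 zh39) (kh xh2 yh20 zh4) (kh xh4 yh13 zh42) (kh xh2 yh20 zh5) (kh xh3 yh14 zh50)) (@D3.rec (fun _ => Pt) (kh xh4 yh13 zh45) (kh xh4 yh13 zh46) (kh xh2 yh20 zh8) (kh xh2 yh20 zh39) (kh xh3 yh15 zh4) (kh xh2 yh20 zh10) (kh xh3 yh15 zh6) (kh xh4 yh14 zh2) (kh xh4 yh14 zh3) (kh xh2 yh20 zh13) (kh xh3 yh15 zh10) (kh xh3 yh15 zh11) (kh xh2 yh20 zh15) (kh xh2 yh26 zh24) (kh xh3 yh15 zh14) (kh xh2 yh26 zh25) (kh xh4 yh6 zh43) (kh xh2 yh26 zh26) (kh xh3 yh25 zh37) (kh xh4 yh14 zh18) (kh xh2 yh20 zh21) (kh xh2 yh20 zh22) (kh xh2 yh20 zh46) (kh xh3 yh15 zh23) (kh xh2 yh20 zh48) (kh xh4 yh14 zh27) (kh xh3 yh15 zh26) (kh xh4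 yh14 zh28) (kh xh2 yh20 zh28) (kh xh2 yh21 zh2) (kh xh3 yh15 zh30) (kh xh2 yh21 zh4) (kh xh3 yh15 zh32) (kh xh2 yh21 zh6) (kh xh4 yh14 zh38) (kh xh2 yh21 zh8) (kh xh4 yh14 zh41) (kh xh2 yh20 zh34) (kh xh4 yh14 zh43) (kh xh2 yh20 zh36) (kh xh2 yh20 zh37) (kh xh4 yh13 zh47) (kh xh3 yh15 zh42) (kh xh4 yh13 zh49) (kh xh4 yh15 zh1) (kh xh3 yh15 zh45) (kh xh2 yh21 zh13) (kh xh2 yh20 zh43) (kh xh4 yh14 zh19) (kh xh3 yh15 zh49) (kh xh4 yh14 zh21)) (@D3.rec (fun _ => Pt) (kh xh3 yh16 zh0) (kh xh4 yh14 zh23) (kh xh4 yh15 zh10) (kh xh4 yh14 zh25) (kh xh4 yh15 zh13) (kh xh2 yh20 zh49) (kh xh4 yh14 zh29) (kh xh4 yh14 zh31) (kh xh4 yh14 zh32) (kh xh4 yh14 zh34) (kh xh4 yh14 zh36) (kh xh2 yh21 zh7) (kh xh4 yh14 zh39) (kh xh4 yh15 zh16) (kh xh2 yh21 zh9) (kh xh3 yh16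 zh15) (kh xh4 yh14 zh42) (kh xh4 yh15 zh17) (kh xh2 yh21 zh14) (kh xh3 yh16 zh19) (kh xh3 yh16 zh20) (kh xh3 yh16 zh21) (kh xh2 yh21 zh23) (kh xh2 yh26 zh29) (kh xh3 yh16 zh24) (kh xh3 yh1 zh50) (kh xh4 yh15 zh21) (kh xh3 yh16 zh27) (kh xh2 yh26 zh36) (kh xh3 yh16 zh29) (kh xh3 yh16 zh30) (kh xh2 yh21 zh34) (kh xh3 yh16 zh32) (kh xh2 yh25 zh42) (kh xh3 yh16 zh34) (kh xh3 yh1 zh47) (kh xh4 yh15 zh26) (kh xh4 yh15 zh31) (kh xh3 yh16 zh38) (kh xh4 yh15 zh33) (kh xh2 yh25 zh49) (kh xh2 yh21 zh36) (kh xh3 yh16 zh42) (kh xh3 yh16 zh43) (kh xh2 yh21 zh48) (kh xh3 yh16 zh45) (kh xh3 yh16 zh46) (kh xh2 yh26 zh6) (kh xh3 yh16 zh48) (kh xh3 yh16 zh49) (kh xh3 yh1 zh49)) (@D3.rec (fun _ => Pt) (kh xh3 yh23 zh3) (kh xh4 yh15 zh41) (kh xh2 yh21 zh49) (kh xh3 yh17 zh3)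 (kh xh4 yh15 zh44) (kh xh2 yh22 zh0) (kh xh2 yh26 zh0) (kh xh2 yh26 zh15) (kh xh2 yh22 zh1) (kh xh3 yh17 zh9) (kh xh2 yh22 zh13) (kh xh2 yh23 zh37) (kh xh2 yh23 zh38) (kh xh2 yh25 zh43) (kh xh3 yh1 zh1) (kh xh3 yh1 zh2) (kh xh3 yh1 zh48) (kh xh4 yh15 zh50) (kh xh4 yh16 zh0) (kh xh2 yh22 zh14) (kh xh3 yh17 zh20) (kh xh4 yh16 zh3) (kh xh2 yh22 zh16) (kh xh2 yh23 zh43) (kh xh2 yh23 zh42) (kh xh2 yh22 zh17) (kh xh2 yh23 zh26) (kh xh3 yh17 zh27) (kh xh3 yh0 zh47) (kh xh2 yh24 zh10) (kh xh2 yh24 zh11) (kh xh2 yh24 zh12) (kh xh2 yh26 zh7) (kh xh3 yh1 zh9) (kh xh3 yh1 zh10) (kh xh2 yh23 zh47) (kh xh4 yh16 zh13) (kh xh2 yh22 zh32) (kh xh4 yh16 zh14) (kh xh4 yh16 zh15) (kh xh2 yh22 zh33) (kh xh3 yh17 zh41) (kh xh4 yh16 zh18) (kh xh4 yh16 zh20) (kh xh2 yh22 zh36)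 (kh xh4 yh5 zh48) (kh xh2 yh24 zh20) (kh xh2 yh22 zh38) (kh xh2 yh24 zh18) (kh xh2 yh22 zh39) (kh xh2 yh23 zh48)) (@D3.rec (fun _ => Pt) (kh xh3 yh1 zh4) (kh xh3 yh1 zh5) (kh xh2 yh24 zh42) (kh xh2 yh24 zh43) (kh xh2 yh24 zh44) (kh xh2 yh24 zh45) (kh xh3 yh1 zh16) (kh xh3 yh1 zh17) (kh xh2 yh24 zh24) (kh xh4 yh16 zh34) (kh xh4 yh16 zh36) (kh xh2 yh23 zh4) (kh xh4 yh16 zh37) (kh xh2 yh23 zh6) (kh xh4 yh16 zh39) (kh xh2 yh23 zh7) (kh xh4 yh16 zh41) (kh xh4 yh16 zh44) (kh xh2 yh23 zh10) (kh xh4 yh16 zh46) (kh xh2 yh23 zh11) (kh xh4 yh6 zh49) (kh xh4 yh7 zh0) (kh xh2 yh25 zh3) (kh xh2 yh25 zh2) (kh xh2 yh23 zh14) (kh xh3 yh18 zh26) (kh xh2 yh24 zh25) (kh xh2 yh23 zh16) (kh xh2 yh24 zh26) (kh xh3 yh1 zh11) (kh xh3 yh1 zh28) (kh xh3 yh1 zh12) (kh xh4 yh15 zh48)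 (kh xh4 yh16 zh5) (kh xh3 yh18 zh35) (kh xh4 yh17 zh9) (kh xh2 yh23 zh28) (kh xh4 yh17 zh5) (kh xh4 yh17 zh4) (kh xh2 yh23 zh29) (kh xh3 yh18 zh41) (kh xh2 yh23 zh32) (kh xh2 yh23 zh33) (kh xh2 yh23 zh46) (kh xh4 yh15 zh45) (kh xh4 yh15 zh46) (kh xh4 yh15 zh47) (kh xh2 yh25 zh44) (kh xh4 yh16 zh2) (kh xh4 yh16 zh1)) (@D3.rec (fun _ => Pt) (kh xh2 yh23 zh40) (kh xh4 yh7 zh44) (kh xh4 yh16 zh10) (kh xh4 yh16 zh23) (kh xh4 yh16 zh24) (kh xh3 yh19 zh5) (kh xh4 yh17 zh21) (kh xh4 yh17 zh23) (kh xh2 yh23 zh50) (kh xh4 yh17 zh18) (kh xh2 yh24 zh1) (kh xh4 yh17 zh17) (kh xh2 yh24 zh2) (kh xh2 yh24 zh5) (kh xh3 yh19 zh14) (kh xh2 yh24 zh22) (kh xh2 yh24 zh7) (kh xh2 yh24 zh23) (kh xh4 yh16 zh6) (kh xh4 yh16 zh7) (kh xh4 yh16 zh8) (kh xh4 yh16 zh9) (kh xh4 yh17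 zh28) (kh xh4 yh16 zh19) (kh xh2 yh24 zh14) (kh xh4 yh16 zh17) (kh xh2 yh24 zh15) (kh xh4 yh8 zh47) (kh xh4 yh8 zh49) (kh xh4 yh16 zh30) (kh xh4 yh16 zh31) (kh xh4 yh16 zh50) (kh xh4 yh17 zh2) (kh xh4 yh17 zh39) (kh xh4 yh17 zh42) (kh xh2 yh24 zh28) (kh xh4 yh17 zh44) (kh xh2 yh24 zh29) (kh xh4 yh17 zh37) (kh xh4 yh17 zh36) (kh xh2 yh24 zh31) (kh xh2 yh25 zh22) (kh xh2 yh24 zh33) (kh xh2 yh24 zh35) (kh xh2 yh24 zh36) (kh xh2 yh25 zh27) (kh xh2 yh25 zh6) (kh xh3 yh19 zh47) (kh xh2 yh25 zh7) (kh xh4 yh17 zh48) (kh xh4 yh16 zh26)) (@D3.rec (fun _ => Pt) (kh xh4 yh16 zh27) (kh xh4 yh16 zh28) (kh xh4 yh16 zh29) (kh xh4 yh18 zh2) (kh xh2 yh24 zh46) (kh xh4 yh16 zh43) (kh xh4 yh16 zh42) (kh xh2 yh24 zh47) (kh xh4 yh18 zh3) (kh xh2 yh24 zh49) (kh xh4 yh10 zh20)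 (kh xh4 yh10 zh22) (kh xh4 yh10 zh24) (kh xh4 yh18 zh12) (kh xh4 yh2 zh19) (kh xh4 yh2 zh20) (kh xh4 yh18 zh15) (kh xh4 yh18 zh16) (kh xh2 yh25 zh10) (kh xh4 yh17 zh1) (kh xh2 yh25 zh12) (kh xh4 yh18 zh21) (kh xh2 yh25 zh14) (kh xh4 yh18 zh25) (kh xh4 yh18 zh26) (kh xh2 yh25 zh15) (kh xh4 yh18 zh22) (kh xh2 yh25 zh17) (kh xh4 yh18 zh17) (kh xh2 yh25 zh19) (kh xh2 yh25 zh20) (kh xh4 yh17 zh45) (kh xh4 yh17 zh46) (kh xh2 yh25 zh24) (kh xh3 yh1 zh26) (kh xh3 yh1 zh25) (kh xh3 yh1 zh43) (kh xh3 yh1 zh40) (kh xh4 yh18 zh36) (kh xh3 yh20 zh39) (kh xh3 yh20 zh40) (kh xh4 yh18 zh41) (kh xh2 yh25 zh31) (kh xh3 yh20 zh43) (kh xh3 yh20 zh44) (kh xh3 yh20 zh45) (kh xh4 yh18 zh46) (kh xh4 yh18 zh47) (kh xh2 yh25 zh36) (kh xh4 yh18 zh23) (kh xh3 yh20 zh50)) (@D3.rec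 (fun _ => Pt) (kh xh4 yh3 zh48) (kh xh4 yh4 zh49) (kh xh4 yh15 zh29) (kh xh4 yh15 zh40) (kh xh4 yh19 zh2) (kh xh4 yh15 zh32) (kh xh2 yh25 zh45) (kh xh4 yh15 zh42) (kh xh2 yh25 zh46) (kh xh4 yh12 zh23) (kh xh4 yh12 zh25) (kh xh4 yh19 zh8) (kh xh4 yh4 zh23) (kh xh4 yh5 zh31) (kh xh4 yh15 zh38) (kh xh4 yh19 zh11) (kh xh2 yh26 zh8) (kh xh4 yh15 zh43) (kh xh2 yh26 zh9) (kh xh4 yh19 zh12) (kh xh2 yh26 zh11) (kh xh4 yh13 zh12) (kh xh4 yh13 zh14) (kh xh4 yh13 zh16) (kh xh3 yh21 zh24) (kh xh2 yh26 zh20) (kh xh4 yh14 zh9) (kh xh4 yh14 zh11) (kh xh4 yh14 zh13) (kh xh4 yh14 zh15) (kh xh4 yh19 zh26) (kh xh4 yh3 zh32) (kh xh4 yh15 zh23) (kh xh4 yh19 zh29) (kh xh2 yh26 zh30) (kh xh4 yh15 zh24) (kh xh2 yh26 zh31) (kh xh4 yh19 zh30) (kh xh3 yh21 zh38) (kh xh3 yh21 zh39)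 (kh xh3 yh21 zh40) (kh xh3 yh21 zh41) (kh xh2 yh26 zh40) (kh xh2 yh26 zh41) (kh xh2 yh26 zh43) (kh xh3 yh21 zh45) (kh xh4 yh19 zh39) (kh xh4 yh19 zh40) (kh xh3 yh21 zh48) (kh xh3 yh21 zh49) (kh xh3 yh21 zh50)) (@D3.rec (fun _ => Pt) (kh xh3 yh22 zh42) (kh xh2 yh26 zh48) (kh xh3 yh22 zh2) (kh xh4 yh19 zh46) (kh xh3 yh0 zh0) (kh xh4 yh19 zh48) (kh xh3 yh0 zh1) (kh xh3 yh0 zh3) (kh xh3 yh22 zh8) (kh xh3 yh22 zh9) (kh xh3 yh22 zh10) (kh xh3 yh0 zh11) (kh xh3 yh22 zh12) (kh xh3 yh22 zh13) (kh xh3 yh0 zh17) (kh xh3 yh22 zh15) (kh xh3 yh22 zh16) (kh xh3 yh22 zh17) (kh xh3 yh22 zh18) (kh xh4 yh2 zh16) (kh xh4 yh2 zh17) (kh xh3 yh22 zh21) (kh xh4 yh18 zh32) (kh xh4 yh18 zh31) (kh xh3 yh1 zh21) (kh xh3 yh1 zh23) (kh xh3 yh1 zh31) (kh xh3 yh1 zh32) (kh xh3 yh22 zh28)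 (kh xh4 yh18 zh30) (kh xh4 yh18 zh33) (kh xh3 yh22 zh31) (kh xh3 yh22 zh32) (kh xh3 yh22 zh33) (kh xh3 yh22 zh34) (kh xh3 yh22 zh35) (kh xh3 yh22 zh36) (kh xh3 yh22 zh37) (kh xh3 yh22 zh38) (kh xh3 yh22 zh39) (kh xh3 yh22 zh40) (kh xh3 yh22 zh41) (kh xh3 yh22 zh0) (kh xh3 yh22 zh43) (kh xh3 yh22 zh44) (kh xh3 yh2 zh44) (kh xh3 yh2 zh45) (kh xh3 yh2 zh46) (kh xh3 yh2 zh50) (kh xh3 yh3 zh0) (kh xh4 yh20 zh33)) (@D3.rec (fun _ => Pt) (kh xh3 yh3 zh2) (kh xh3 yh3 zh3) (kh xh3 yh3 zh8) (kh xh3 yh17 zh0) (kh xh3 yh3 zh10) (kh xh4 yh20 zh41) (kh xh3 yh2 zh16) (kh xh3 yh3 zh13) (kh xh3 yh3 zh14) (kh xh3 yh3 zh19) (kh xh4 yh20 zh47) (kh xh3 yh3 zh21) (kh xh4 yh21 zh0) (kh xh3 yh2 zh21) (kh xh3 yh3 zh24) (kh xh3 yh3 zh25) (kh xh4 yh21 zh5) (kh xh3 yh3 zh33) (kh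 xh4 yh21 zh8) (kh xh4 yh21 zh11) (kh xh3 yh2 zh25) (kh xh3 yh3 zh37) (kh xh4 yh21 zh15) (kh xh4 yh21 zh17) (kh xh3 yh2 zh27) (kh xh3 yh23 zh25) (kh xh3 yh3 zh42) (kh xh4 yh21 zh21) (kh xh4 yh21 zh24) (kh xh3 yh2 zh31) (kh xh3 yh4 zh4) (kh xh4 yh21 zh29) (kh xh3 yh2 zh33) (kh xh4 yh21 zh33) (kh xh4 yh21 zh35) (kh xh3 yh2 zh34) (kh xh3 yh23 zh36) (kh xh3 yh4 zh11) (kh xh4 yh21 zh39) (kh xh3 yh2 zh37) (kh xh4 yh21 zh42) (kh xh3 yh2 zh38) (kh xh3 yh23 zh42) (kh xh3 yh23 zh43) (kh xh3 yh23 zh44) (kh xh3 yh23 zh45) (kh xh4 yh20 zh24) (kh xh4 yh20 zh25) (kh xh4 yh22 zh1) (kh xh4 yh20 zh27) (kh xh4 yh20 zh28)) (@D3.rec (fun _ => Pt) (kh xh3 yh24 zh0) (kh xh4 yh22 zh7) (kh xh3 yh24 zh2) (kh xh3 yh24 zh3) (kh xh4 yh20 zh29) (kh xh4 yh22 zh14) (kh xh4 yh20 zh31)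 (kh xh4 yh22 zh18) (kh xh3 yh3 zh1) (kh xh4 yh20 zh34) (kh xh4 yh20 zh35) (kh xh4 yh22 zh23) (kh xh3 yh24 zh12) (kh xh4 yh22 zh27) (kh xh3 yh3 zh5) (kh xh3 yh24 zh15) (kh xh3 yh24 zh16) (kh xh3 yh8 zh16) (kh xh4 yh20 zh36) (kh xh3 yh8 zh14) (kh xh4 yh22 zh35) (kh xh3 yh3 zh9) (kh xh4 yh20 zh38) (kh xh4 yh22 zh38) (kh xh4 yh22 zh40) (kh xh3 yh3 zh11) (kh xh4 yh22 zh28) (kh xh4 yh20 zh42) (kh xh4 yh22 zh44) (kh xh3 yh24 zh29) (kh xh4 yh22 zh48) (kh xh3 yh3 zh16) (kh xh3 yh24 zh32) (kh xh3 yh24 zh33) (kh xh4 yh23 zh2) (kh xh4 yh20 zh44) (kh xh4 yh23 zh5) (kh xh4 yh23 zh8) (kh xh3 yh3 zh20) (kh xh4 yh20 zh48) (kh xh4 yh23 zh12) (kh xh4 yh23 zh14) (kh xh3 yh3 zh22) (kh xh4 yh22 zh49) (kh xh4 yh21 zh2) (kh xh4 yh23 zh17) (kh xh4 yh23 zh20) (kh xh3 yh3 zh26)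 (kh xh3 yh24 zh48) (kh xh4 yh23 zh24) (kh xh4 yh23 zh26)) (@D3.rec (fun _ => Pt) (kh xh3 yh3 zh28) (kh xh3 yh3 zh41) (kh xh3 yh25 zh2) (kh xh4 yh23 zh30) (kh xh4 yh23 zh33) (kh xh3 yh3 zh32) (kh xh4 yh21 zh6) (kh xh4 yh23 zh38) (kh xh3 yh3 zh34) (kh xh4 yh23 zh42) (kh xh4 yh23 zh44) (kh xh3 yh3 zh35) (kh xh4 yh23 zh21) (kh xh4 yh21 zh13) (kh xh4 yh23 zh48) (kh xh3 yh3 zh38) (kh xh4 yh24 zh0) (kh xh3 yh3 zh39) (kh xh4 yh23 zh27) (kh xh4 yh24 zh4) (kh xh3 yh3 zh43) (kh xh4 yh24 zh8) (kh xh4 yh24 zh10) (kh xh3 yh3 zh44) (kh xh3 yh4 zh10) (kh xh3 yh25 zh25) (kh xh4 yh24 zh14) (kh xh3 yh3 zh47) (kh xh4 yh24 zh17) (kh xh3 yh3 zh48) (kh xh3 yh4 zh16) (kh xh4 yh24 zh20) (kh xh4 yh24 zh23) (kh xh3 yh4 zh1) (kh xh4 yh24 zh27) (kh xh4 yh24 zh29) (kh xh3 yh4 zh2)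 (kh xh3 yh15 zh18) (kh xh4 yh21 zh26) (kh xh4 yh24 zh33) (kh xh4 yh24 zh35) (kh xh3 yh4 zh5) (kh xh3 yh25 zh42) (kh xh4 yh24 zh6) (kh xh4 yh24 zh42) (kh xh3 yh4 zh7) (kh xh4 yh24 zh45) (kh xh3 yh4 zh8) (kh xh4 yh24 zh11) (kh xh4 yh24 zh48) (kh xh4 yh24 zh49)) (@D3.rec (fun _ => Pt) (kh xh3 yh4 zh12) (kh xh3 yh26 zh1) (kh xh4 yh24 zh16) (kh xh3 yh4 zh14) (kh xh4 yh24 zh18) (kh xh3 yh4 zh22) (kh xh4 yh25 zh8) (kh xh3 yh4 zh24) (kh xh4 yh25 zh12) (kh xh3 yh4 zh19) (kh xh3 yh4 zh27) (kh xh3 yh4 zh28) (kh xh4 yh25 zh17) (kh xh4 yh25 zh5) (kh xh4 yh25 zh20) (kh xh4 yh25 zh23) (kh xh3 yh4 zh23) (kh xh4 yh25 zh9) (kh xh4 yh25 zh27) (kh xh4 yh25 zh29) (kh xh3 yh4 zh25) (kh xh3 yh4 zh38) (kh xh4 yh25 zh14) (kh xh4 yh25 zh33) (kh xh4 yh25 zh36) (kh xh3 yh4 zh29)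 (kh xh3 yh26 zh26) (kh xh4 yh25 zh41) (kh xh3 yh4 zh31) (kh xh4 yh25 zh45) (kh xh4 yh25 zh47) (kh xh3 yh4 zh32) (kh xh4 yh25 zh24) (kh xh3 yh26 zh33) (kh xh4 yh26 zh0) (kh xh3 yh4 zh35) (kh xh4 yh26 zh3) (kh xh3 yh4 zh36) (kh xh4 yh25 zh30) (kh xh4 yh26 zh7) (kh xh3 yh4 zh48) (kh xh4 yh26 zh10) (kh xh4 yh26 zh13) (kh xh3 yh4 zh41) (kh xh3 yh5 zh1) (kh xh4 yh26 zh17) (kh xh4 yh26 zh19) (kh xh3 yh4 zh43) (kh xh3 yh26 zh48) (kh xh3 yh5 zh6) (kh xh4 yh26 zh23))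
def f_h_4 : D2 → D3 → Pt := @D2.rec (fun _ => D3 → Pt) (@D3.rec (fun _ => Pt) (kh xh4 yh26 zh26) (kh xh3 yh4 zh47) (kh xh4 yh26 zh8) (kh xh4 yh26 zh31) (kh xh3 yh4 zh49) (kh xh4 yh26 zh35) (kh xh4 yh26 zh37) (kh xh3 yh4 zh50) (kh xh3 yh5 zh16) (kh xh4 yh26 zh15) (kh xh4 yh26 zh41) (kh xh3 yh5 zh2) (kh xh4 yh26 zh44) (kh xh3 yh5 zh3) (kh xh3 yh5 zh22) (kh xh4 yh26 zh47) (kh xh4 yh26 zh50) (kh xh3 yh5 zh7) (kh xh5 yh0 zh3) (kh xh5 yh0 zh5) (kh xh3 yh5 zh8) (kh xh4 yh26 zh27) (kh xh4 yh0 zh22) (kh xh5 yh0 zh9) (kh xh5 yh0 zh11) (kh xh3 yh5 zh11) (kh xh4 yh0 zh26) (kh xh4 yh26 zh33) (kh xh5 yh0 zh18) (kh xh3 yh5 zh13) (kh xh5 yh0 zh21) (kh xh3 yh5 zh14) (kh xh4 yh26 zh38) (kh xh5 yh0 zh24) (kh xh5 yh0 zh25) (kh xh3 yh5 zh18) (kh xh4 yh0 zh36) (kh xh4 yh26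 zh43) (kh xh3 yh5 zh20) (kh xh4 yh26 zh45) (kh xh5 yh0 zh33) (kh xh5 yh0 zh35) (kh xh3 yh5 zh23) (kh xh3 yh5 zh37) (kh xh5 yh0 zh40) (kh xh3 yh5 zh25) (kh xh5 yh0 zh44) (kh xh5 yh0 zh46) (kh xh3 yh5 zh26) (kh xh4 yh0 zh49) (kh xh3 yh5 zh44)) (@D3.rec (fun _ => Pt) (kh xh5 yh0 zh50) (kh xh3 yh5 zh29) (kh xh5 yh1 zh2) (kh xh3 yh5 zh30) (kh xh4 yh1 zh4) (kh xh5 yh1 zh5) (kh xh5 yh1 zh8) (kh xh3 yh5 zh34) (kh xh5 yh1 zh12) (kh xh5 yh1 zh14) (kh xh3 yh5 zh35) (kh xh3 yh6 zh5) (kh xh5 yh0 zh37) (kh xh5 yh1 zh18) (kh xh5 yh1 zh20) (kh xh3 yh5 zh38) (kh xh4 yh1 zh16) (kh xh3 yh6 zh11) (kh xh5 yh1 zh27) (kh xh3 yh5 zh40) (kh xh5 yh1 zh30) (kh xh3 yh5 zh41) (kh xh3 yh6 zh16) (kh xh5 yh1 zh33) (kh xh5 yh1 zh34) (kh xh3 yh5 zh45) (kh xh3 yh6 zh48) (kh xh3 yh6 zh21)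 (kh xh3 yh5 zh47) (kh xh3 yh6 zh23) (kh xh5 yh1 zh42) (kh xh3 yh5 zh50) (kh xh5 yh1 zh46) (kh xh5 yh1 zh48) (kh xh3 yh6 zh0) (kh xh4 yh1 zh35) (kh xh5 yh1 zh10) (kh xh5 yh2 zh3) (kh xh3 yh6 zh2) (kh xh5 yh2 zh6) (kh xh3 yh6 zh3) (kh xh5 yh1 zh15) (kh xh5 yh2 zh9) (kh xh5 yh2 zh12) (kh xh3 yh6 zh7) (kh xh5 yh2 zh15) (kh xh3 yh6 zh8) (kh xh4 yh1 zh47) (kh xh5 yh1 zh22) (kh xh4 yh1 zh49) (kh xh5 yh2 zh22)) (@D3.rec (fun _ => Pt) (kh xh5 yh2 zh24) (kh xh5 yh2 zh25) (kh xh3 yh6 zh12) (kh xh3 yh7 zh15) (kh xh5 yh1 zh29) (kh xh3 yh6 zh14) (kh xh5 yh1 zh31) (kh xh5 yh2 zh32) (kh xh3 yh6 zh17) (kh xh3 yh6 zh18) (kh xh3 yh7 zh22) (kh xh5 yh1 zh36) (kh xh3 yh7 zh24) (kh xh5 yh2 zh41) (kh xh5 yh1 zh39) (kh xh4 yh2 zh15) (kh xh3 yh22 zh19) (kh xh3 yh22 zh20) (kh xh3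 yh6 zh38) (kh xh3 yh20 zh14) (kh xh3 yh20 zh15) (kh xh5 yh2 zh47) (kh xh5 yh2 zh48) (kh xh3 yh6 zh32) (kh xh5 yh1 zh0) (kh xh3 yh6 zh34) (kh xh3 yh12 zh42) (kh xh3 yh12 zh43) (kh xh5 yh3 zh3) (kh xh3 yh12 zh39) (kh xh3 yh12 zh40) (kh xh5 yh3 zh7) (kh xh5 yh3 zh8) (kh xh3 yh6 zh41) (kh xh5 yh1 zh28) (kh xh3 yh6 zh43) (kh xh5 yh3 zh12) (kh xh3 yh6 zh45) (kh xh3 yh6 zh46) (kh xh5 yh1 zh35) (kh xh3 yh7 zh23) (kh xh5 yh1 zh37) (kh xh5 yh3 zh21) (kh xh3 yh7 zh26) (kh xh5 yh3 zh23) (kh xh3 yh13 zh25) (kh xh3 yh13 zh28) (kh xh5 yh3 zh27) (kh xh5 yh3 zh28) (kh xh3 yh7 zh3) (kh xh5 yh2 zh4)) (@D3.rec (fun _ => Pt) (kh xh3 yh7 zh5) (kh xh5 yh3 zh33) (kh xh3 yh7 zh7) (kh xh5 yh3 zh37) (kh xh5 yh3 zh38) (kh xh3 yh7 zh8) (kh xh5 yh3 zh34) (kh xh3 yh7 zh10) (kh xh5 yh3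 zh42) (kh xh3 yh7 zh12) (kh xh3 yh7 zh13) (kh xh5 yh2 zh26) (kh xh3 yh13 zh7) (kh xh5 yh2 zh28) (kh xh5 yh4 zh0) (kh xh3 yh13 zh8) (kh xh5 yh4 zh1) (kh xh3 yh7 zh19) (kh xh5 yh2 zh33) (kh xh5 yh3 zh14) (kh xh5 yh2 zh35) (kh xh5 yh3 zh16) (kh xh5 yh2 zh37) (kh xh5 yh4 zh11) (kh xh5 yh2 zh39) (kh xh5 yh4 zh14) (kh xh3 yh7 zh25) (kh xh4 yh3 zh27) (kh xh4 yh3 zh28) (kh xh4 yh3 zh29) (kh xh3 yh7 zh32) (kh xh3 yh7 zh33) (kh xh3 yh21 zh31) (kh xh4 yh22 zh0) (kh xh4 yh20 zh26) (kh xh4 yh20 zh17) (kh xh4 yh3 zh36) (kh xh5 yh4 zh21) (kh xh4 yh3 zh38) (kh xh5 yh4 zh23) (kh xh3 yh7 zh36) (kh xh4 yh3 zh41) (kh xh4 yh3 zh42) (kh xh4 yh3 zh43) (kh xh4 yh22 zh2) (kh xh3 yh7 zh45) (kh xh3 yh7 zh46) (kh xh5 yh4 zh26) (kh xh3 yh21 zh0) (kh xh4 yh22 zh17) (kh xh3 yh7 zh44))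 (@D3.rec (fun _ => Pt) (kh xh4 yh20 zh32) (kh xh4 yh20 zh21) (kh xh4 yh22 zh12) (kh xh4 yh4 zh3) (kh xh4 yh22 zh10) (kh xh5 yh4 zh35) (kh xh3 yh7 zh48) (kh xh4 yh4 zh7) (kh xh5 yh4 zh38) (kh xh5 yh4 zh39) (kh xh3 yh7 zh50) (kh xh5 yh4 zh29) (kh xh4 yh4 zh12) (kh xh4 yh22 zh3) (kh xh4 yh4 zh14) (kh xh4 yh4 zh15) (kh xh4 yh22 zh20) (kh xh3 yh8 zh5) (kh xh3 yh8 zh12) (kh xh3 yh8 zh13) (kh xh5 yh4 zh43) (kh xh5 yh4 zh46) (kh xh3 yh8 zh8) (kh xh3 yh21 zh12) (kh xh5 yh4 zh50) (kh xh4 yh22 zh39) (kh xh3 yh8 zh10) (kh xh3 yh8 zh23) (kh xh4 yh20 zh40) (kh xh4 yh22 zh32) (kh xh4 yh4 zh30) (kh xh4 yh22 zh30) (kh xh5 yh5 zh7) (kh xh5 yh5 zh9) (kh xh3 yh8 zh17) (kh xh5 yh4 zh47) (kh xh4 yh4 zh36) (kh xh5 yh5 zh13) (kh xh3 yh8 zh20) (kh xh5 yh5 zh16) (kh xh3 yh8 zh21)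 (kh xh5 yh5 zh0) (kh xh5 yh5 zh18) (kh xh3 yh8 zh25) (kh xh3 yh8 zh32) (kh xh3 yh8 zh33) (kh xh5 yh5 zh21) (kh xh5 yh5 zh24) (kh xh3 yh8 zh28) (kh xh3 yh21 zh1) (kh xh5 yh5 zh28)) (@D3.rec (fun _ => Pt) (kh xh5 yh5 zh30) (kh xh3 yh8 zh30) (kh xh3 yh8 zh43) (kh xh4 yh20 zh39) (kh xh5 yh5 zh34) (kh xh5 yh5 zh37) (kh xh3 yh8 zh34) (kh xh4 yh5 zh7) (kh xh5 yh5 zh42) (kh xh3 yh8 zh36) (kh xh5 yh5 zh46) (kh xh5 yh5 zh48) (kh xh3 yh8 zh37) (kh xh5 yh5 zh25) (kh xh4 yh5 zh14) (kh xh5 yh6 zh1) (kh xh3 yh8 zh40) (kh xh5 yh6 zh4) (kh xh3 yh8 zh41) (kh xh5 yh5 zh31) (kh xh5 yh6 zh6) (kh xh5 yh6 zh7) (kh xh3 yh8 zh45) (kh xh4 yh5 zh23) (kh xh3 yh9 zh6) (kh xh5 yh6 zh11) (kh xh3 yh8 zh49) (kh xh5 yh6 zh14) (kh xh5 yh6 zh16) (kh xh3 yh8 zh50) (kh xh3 yh9 zh16) (kh xh3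 yh21 zh13) (kh xh5 yh6 zh20) (kh xh3 yh9 zh2) (kh xh5 yh6 zh23) (kh xh3 yh9 zh3) (kh xh3 yh9 zh22) (kh xh5 yh6 zh26) (kh xh5 yh6 zh29) (kh xh3 yh9 zh7) (kh xh5 yh6 zh33) (kh xh5 yh6 zh35) (kh xh3 yh9 zh8) (kh xh3 yh14 zh30) (kh xh4 yh5 zh44) (kh xh5 yh6 zh39) (kh xh5 yh6 zh41) (kh xh3 yh9 zh11) (kh xh3 yh17 zh45) (kh xh5 yh6 zh12) (kh xh5 yh6 zh48)) (@D3.rec (fun _ => Pt) (kh xh3 yh9 zh13) (kh xh5 yh7 zh0) (kh xh3 yh9 zh14) (kh xh5 yh6 zh17) (kh xh5 yh7 zh3) (kh xh5 yh7 zh4) (kh xh3 yh9 zh18) (kh xh5 yh5 zh14) (kh xh5 yh6 zh22) (kh xh3 yh9 zh20) (kh xh5 yh6 zh24) (kh xh5 yh7 zh10) (kh xh3 yh9 zh23) (kh xh5 yh7 zh13) (kh xh3 yh9 zh24) (kh xh4 yh6 zh15) (kh xh5 yh7 zh17) (kh xh5 yh7 zh19) (kh xh3 yh9 zh28) (kh xh3 yh10 zh1) (kh xh5 yh7 zh23) (kh xh3 yh9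 zh30) (kh xh5 yh7 zh26) (kh xh3 yh9 zh31) (kh xh3 yh10 zh6) (kh xh5 yh7 zh29) (kh xh5 yh7 zh30) (kh xh3 yh9 zh35) (kh xh4 yh6 zh28) (kh xh3 yh10 zh11) (kh xh3 yh9 zh37) (kh xh3 yh10 zh13) (kh xh5 yh7 zh38) (kh xh3 yh9 zh40) (kh xh5 yh7 zh42) (kh xh5 yh7 zh44) (kh xh3 yh9 zh41) (kh xh3 yh11 zh31) (kh xh3 yh12 zh23) (kh xh5 yh7 zh50) (kh xh3 yh9 zh43) (kh xh5 yh8 zh2) (kh xh3 yh9 zh44) (kh xh3 yh15 zh16) (kh xh5 yh8 zh5) (kh xh5 yh8 zh8) (kh xh3 yh9 zh48) (kh xh5 yh8 zh11) (kh xh3 yh9 zh49) (kh xh3 yh18 zh21) (kh xh5 yh7 zh20)) (@D3.rec (fun _ => Pt) (kh xh3 yh18 zh22) (kh xh5 yh7 zh39) (kh xh5 yh8 zh19) (kh xh5 yh8 zh20) (kh xh3 yh10 zh2) (kh xh4 yh7 zh5) (kh xh5 yh7 zh25) (kh xh3 yh10 zh4) (kh xh5 yh7 zh27) (kh xh5 yh8 zh27) (kh xh3 yh10 zh7) (kh xh3 yh10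 zh8) (kh xh4 yh7 zh12) (kh xh5 yh7 zh32) (kh xh4 yh7 zh14) (kh xh5 yh8 zh36) (kh xh5 yh7 zh35) (kh xh5 yh8 zh39) (kh xh5 yh8 zh42) (kh xh3 yh10 zh14) (kh xh4 yh7 zh20) (kh xh5 yh8 zh47) (kh xh3 yh10 zh16) (kh xh5 yh9 zh0) (kh xh5 yh9 zh2) (kh xh3 yh10 zh17) (kh xh3 yh10 zh34) (kh xh4 yh7 zh27) (kh xh5 yh9 zh6) (kh xh3 yh10 zh20) (kh xh5 yh9 zh9) (kh xh3 yh10 zh21) (kh xh3 yh10 zh40) (kh xh5 yh8 zh48) (kh xh5 yh9 zh14) (kh xh3 yh10 zh25) (kh xh5 yh9 zh17) (kh xh5 yh9 zh19) (kh xh3 yh10 zh26) (kh xh5 yh8 zh43) (kh xh3 yh13 zh46) (kh xh5 yh9 zh23) (kh xh5 yh9 zh25) (kh xh3 yh10 zh29) (kh xh3 yh19 zh1) (kh xh5 yh8 zh49) (kh xh5 yh9 zh32) (kh xh3 yh10 zh31) (kh xh5 yh9 zh35) (kh xh3 yh10 zh32) (kh xh5 yh9 zh3)) (@D3.rec (fun _ => Pt) (kh xh5 yh9 zh38) (kh xh5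 yh9 zh39) (kh xh3 yh10 zh36) (kh xh4 yh8 zh3) (kh xh5 yh9 zh8) (kh xh3 yh10 zh38) (kh xh5 yh9 zh10) (kh xh5 yh6 zh30) (kh xh5 yh9 zh48) (kh xh3 yh10 zh41) (kh xh5 yh10 zh0) (kh xh5 yh10 zh2) (kh xh3 yh10 zh42) (kh xh3 yh11 zh12) (kh xh4 yh8 zh14) (kh xh5 yh10 zh6) (kh xh5 yh10 zh8) (kh xh3 yh10 zh45) (kh xh3 yh11 zh6) (kh xh3 yh11 zh18) (kh xh5 yh10 zh14) (kh xh3 yh10 zh47) (kh xh5 yh10 zh17) (kh xh3 yh10 zh48) (kh xh3 yh11 zh23) (kh xh5 yh10 zh20) (kh xh5 yh10 zh21) (kh xh3 yh11 zh1) (kh xh4 yh8 zh28) (kh xh3 yh11 zh28) (kh xh3 yh11 zh3) (kh xh3 yh11 zh30) (kh xh5 yh10 zh9) (kh xh5 yh10 zh31) (kh xh5 yh10 zh33) (kh xh3 yh11 zh7) (kh xh5 yh9 zh49) (kh xh5 yh10 zh37) (kh xh3 yh11 zh9) (kh xh5 yh10 zh40) (kh xh3 yh11 zh10) (kh xh5 yh10 zh3) (kh xh5 yh10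 zh43) (kh xh5 yh10 zh46) (kh xh3 yh11 zh14) (kh xh5 yh10 zh49) (kh xh3 yh11 zh15) (kh xh3 yh19 zh27) (kh xh5 yh10 zh10) (kh xh3 yh19 zh28) (kh xh5 yh6 zh31)) (@D3.rec (fun _ => Pt) (kh xh5 yh11 zh6) (kh xh5 yh11 zh7) (kh xh3 yh11 zh19) (kh xh4 yh9 zh3) (kh xh5 yh10 zh16) (kh xh3 yh11 zh21) (kh xh5 yh10 zh18) (kh xh5 yh11 zh14) (kh xh3 yh11 zh24) (kh xh3 yh11 zh25) (kh xh4 yh9 zh10) (kh xh5 yh10 zh23) (kh xh4 yh9 zh12) (kh xh5 yh11 zh23) (kh xh5 yh10 zh26) (kh xh5 yh7 zh45) (kh xh5 yh11 zh27) (kh xh5 yh11 zh29) (kh xh3 yh11 zh32) (kh xh3 yh12 zh9) (kh xh5 yh11 zh33) (kh xh3 yh11 zh34) (kh xh5 yh11 zh35) (kh xh3 yh11 zh35) (kh xh3 yh12 zh14) (kh xh5 yh11 zh38) (kh xh5 yh11 zh41) (kh xh3 yh11 zh39) (kh xh5 yh11 zh44) (kh xh3 yh11 zh40) (kh xh3 yh12 zh5) (kh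 xh3 yh12 zh21) (kh xh5 yh7 zh47) (kh xh5 yh11 zh50) (kh xh5 yh12 zh0) (kh xh3 yh11 zh44) (kh xh3 yh12 zh47) (kh xh3 yh12 zh28) (kh xh3 yh11 zh46) (kh xh3 yh12 zh30) (kh xh5 yh12 zh7) (kh xh3 yh11 zh49) (kh xh3 yh11 zh50) (kh xh3 yh13 zh1) (kh xh3 yh12 zh35) (kh xh3 yh13 zh3) (kh xh5 yh12 zh16) (kh xh3 yh12 zh38) (kh xh5 yh11 zh47) (kh xh5 yh11 zh45) (kh xh5 yh12 zh21)) (@D3.rec (fun _ => Pt) (kh xh5 yh12 zh24) (kh xh3 yh12 zh6) (kh xh5 yh12 zh27) (kh xh3 yh12 zh7) (kh xh5 yh11 zh30) (kh xh5 yh12 zh30) (kh xh5 yh12 zh31) (kh xh3 yh12 zh10) (kh xh3 yh13 zh12) (kh xh5 yh11 zh34) (kh xh3 yh12 zh12) (kh xh5 yh11 zh36) (kh xh5 yh12 zh39) (kh xh3 yh12 zh15) (kh xh5 yh12 zh43) (kh xh5 yh12 zh44) (kh xh3 yh12 zh16) (kh xh5 yh12 zh40) (kh xh5 yh11 zh43) (kh xh3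 yh12 zh18) (kh xh3 yh20 zh10) (kh xh5 yh11 zh46) (kh xh3 yh20 zh11) (kh xh5 yh7 zh46) (kh xh3 yh20 zh12) (kh xh4 yh24 zh25) (kh xh5 yh13 zh8) (kh xh3 yh12 zh24) (kh xh3 yh12 zh25) (kh xh3 yh13 zh24) (kh xh5 yh12 zh2) (kh xh3 yh13 zh26) (kh xh5 yh13 zh17) (kh xh5 yh12 zh5) (kh xh5 yh13 zh18) (kh xh3 yh12 zh31) (kh xh3 yh13 zh31) (kh xh5 yh12 zh9) (kh xh3 yh13 zh33) (kh xh5 yh12 zh11) (kh xh3 yh13 zh35) (kh xh5 yh13 zh28) (kh xh3 yh13 zh37) (kh xh5 yh13 zh31) (kh xh3 yh12 zh37) (kh xh5 yh3 zh4) (kh xh5 yh3 zh5) (kh xh5 yh13 zh35) (kh xh3 yh12 zh41) (kh xh5 yh3 zh0) (kh xh5 yh3 zh1)) (@D3.rec (fun _ => Pt) (kh xh5 yh13 zh39) (kh xh3 yh12 zh44) (kh xh3 yh12 zh45) (kh xh5 yh12 zh1) (kh xh5 yh12 zh3) (kh xh5 yh13 zh44) (kh xh3 yh12 zh49) (kh xh5 yh12 zh8) (kh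 xh3 yh13 zh32) (kh xh5 yh12 zh10) (kh xh3 yh13 zh34) (kh xh5 yh12 zh12) (kh xh5 yh14 zh3) (kh xh5 yh12 zh14) (kh xh5 yh14 zh6) (kh xh3 yh13 zh4) (kh xh5 yh14 zh9) (kh xh3 yh13 zh6) (kh xh5 yh3 zh44) (kh xh5 yh3 zh46) (kh xh5 yh14 zh13) (kh xh3 yh13 zh9) (kh xh3 yh13 zh10) (kh xh5 yh12 zh32) (kh xh5 yh12 zh34) (kh xh5 yh14 zh20) (kh xh5 yh14 zh21) (kh xh3 yh13 zh14) (kh xh3 yh13 zh19) (kh xh5 yh13 zh36) (kh xh5 yh14 zh27) (kh xh3 yh13 zh16) (kh xh3 yh13 zh17) (kh xh5 yh14 zh22) (kh xh5 yh14 zh24) (kh xh5 yh14 zh32) (kh xh3 yh13 zh21) (kh xh5 yh13 zh9) (kh xh5 yh3 zh24) (kh xh5 yh13 zh11) (kh xh5 yh3 zh25) (kh xh5 yh13 zh13) (kh xh5 yh14 zh42) (kh xh5 yh13 zh15) (kh xh5 yh14 zh45) (kh xh3 yh13 zh27) (kh xh3 yh13 zh29) (kh xh5 yh13 zh19) (kh xh5 yh13 zh46)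 (kh xh5 yh13 zh21) (kh xh5 yh13 zh22)) (@D3.rec (fun _ => Pt) (kh xh5 yh15 zh1) (kh xh5 yh13 zh24) (kh xh5 yh15 zh3) (kh xh5 yh13 zh26) (kh xh5 yh15 zh6) (kh xh3 yh13 zh36) (kh xh5 yh13 zh29) (kh xh5 yh15 zh8) (kh xh3 yh13 zh38) (kh xh5 yh15 zh10) (kh xh5 yh15 zh11) (kh xh3 yh13 zh40) (kh xh4 yh12 zh12) (kh xh5 yh15 zh13) (kh xh3 yh13 zh42) (kh xh5 yh15 zh16) (kh xh3 yh13 zh43) (kh xh4 yh12 zh17) (kh xh4 yh23 zh3) (kh xh5 yh15 zh18) (kh xh3 yh13 zh47) (kh xh5 yh15 zh21) (kh xh3 yh13 zh48) (kh xh3 yh21 zh9) (kh xh4 yh12 zh24) (kh xh3 yh21 zh10) (kh xh5 yh5 zh38) (kh xh5 yh15 zh28) (kh xh5 yh15 zh29) (kh xh3 yh14 zh1) (kh xh4 yh12 zh30) (kh xh4 yh12 zh31) (kh xh3 yh14 zh3) (kh xh4 yh12 zh33) (kh xh5 yh15 zh35) (kh xh3 yh14 zh6) (kh xh3 yh14 zh7) (kh xh4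 yh12 zh37) (kh xh4 yh12 zh38) (kh xh4 yh12 zh39) (kh xh5 yh15 zh44) (kh xh4 yh12 zh41) (kh xh4 yh23 zh10) (kh xh5 yh15 zh45) (kh xh3 yh14 zh13) (kh xh5 yh15 zh48) (kh xh3 yh14 zh14) (kh xh4 yh12 zh47) (kh xh5 yh15 zh50) (kh xh5 yh16 zh0) (kh xh3 yh14 zh17)) (@D3.rec (fun _ => Pt) (kh xh4 yh13 zh0) (kh xh4 yh13 zh1) (kh xh3 yh14 zh19) (kh xh4 yh13 zh3) (kh xh4 yh23 zh35) (kh xh3 yh14 zh22) (kh xh5 yh16 zh8) (kh xh5 yh16 zh9) (kh xh3 yh14 zh23) (kh xh5 yh16 zh6) (kh xh4 yh13 zh10) (kh xh3 yh14 zh25) (kh xh3 yh21 zh21) (kh xh4 yh13 zh13) (kh xh3 yh21 zh22) (kh xh5 yh6 zh36) (kh xh3 yh21 zh23) (kh xh4 yh23 zh34) (kh xh5 yh16 zh23) (kh xh3 yh14 zh31) (kh xh3 yh14 zh32) (kh xh4 yh13 zh21) (kh xh4 yh13 zh22) (kh xh4 yh13 zh23) (kh xh5 yh16 zh32) (kh xh4 yh13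 zh25) (kh xh5 yh16 zh33) (kh xh3 yh14 zh38) (kh xh4 yh13 zh28) (kh xh4 yh13 zh29) (kh xh4 yh13 zh30) (kh xh4 yh13 zh31) (kh xh4 yh13 zh32) (kh xh5 yh16 zh43) (kh xh4 yh13 zh34) (kh xh5 yh16 zh46) (kh xh3 yh14 zh44) (kh xh5 yh16 zh47) (kh xh5 yh16 zh48) (kh xh3 yh14 zh46) (kh xh4 yh13 zh40) (kh xh4 yh13 zh41) (kh xh3 yh14 zh48) (kh xh4 yh13 zh43) (kh xh5 yh17 zh3) (kh xh3 yh15 zh0) (kh xh3 yh15 zh1) (kh xh3 yh15 zh41) (kh xh4 yh13 zh48) (kh xh3 yh15 zh43) (kh xh5 yh17 zh12)) (@D3.rec (fun _ => Pt) (kh xh4 yh14 zh0) (kh xh5 yh17 zh13) (kh xh3 yh15 zh7) (kh xh3 yh15 zh8) (kh xh4 yh14 zh4) (kh xh4 yh14 zh5) (kh xh4 yh14 zh6) (kh xh4 yh14 zh7) (kh xh5 yh17 zh26) (kh xh3 yh21 zh26) (kh xh4 yh14 zh10) (kh xh3 yh21 zh27) (kh xh5 yh8 zh3) (kh xh3 yh21 zh28) (kh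 xh5 yh8 zh1) (kh xh3 yh21 zh29) (kh xh4 yh24 zh30) (kh xh5 yh17 zh35) (kh xh3 yh15 zh19) (kh xh3 yh15 zh48) (kh xh4 yh14 zh20) (kh xh3 yh15 zh50) (kh xh4 yh14 zh22) (kh xh3 yh16 zh1) (kh xh5 yh17 zh45) (kh xh3 yh16 zh3) (kh xh5 yh17 zh48) (kh xh3 yh15 zh25) (kh xh3 yh15 zh27) (kh xh3 yh16 zh6) (kh xh4 yh14 zh30) (kh xh3 yh16 zh7) (kh xh3 yh16 zh8) (kh xh5 yh18 zh3) (kh xh3 yh16 zh9) (kh xh5 yh18 zh1) (kh xh3 yh16 zh10) (kh xh5 yh17 zh50) (kh xh3 yh15 zh34) (kh xh3 yh16 zh12) (kh xh5 yh18 zh8) (kh xh3 yh15 zh36) (kh xh3 yh16 zh16) (kh xh3 yh15 zh38) (kh xh5 yh17 zh4) (kh xh4 yh14 zh45) (kh xh5 yh17 zh6) (kh xh4 yh14 zh47) (kh xh5 yh17 zh8) (kh xh5 yh18 zh17) (kh xh5 yh17 zh10)) (@D3.rec (fun _ => Pt) (kh xh5 yh18 zh20) (kh xh3 yh15 zh44) (kh xh5 yh17 zh36)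 (kh xh5 yh17 zh38) (kh xh5 yh17 zh39) (kh xh5 yh18 zh4) (kh xh5 yh17 zh41) (kh xh5 yh18 zh0) (kh xh5 yh17 zh43) (kh xh5 yh18 zh26) (kh xh3 yh16 zh2) (kh xh5 yh17 zh46) (kh xh5 yh18 zh28) (kh xh3 yh16 zh4) (kh xh5 yh18 zh5) (kh xh5 yh18 zh30) (kh xh3 yh16 zh13) (kh xh3 yh16 zh17) (kh xh4 yh15 zh18) (kh xh4 yh15 zh19) (kh xh4 yh15 zh20) (kh xh3 yh16 zh26) (kh xh4 yh15 zh22) (kh xh3 yh21 zh32) (kh xh3 yh21 zh35) (kh xh4 yh15 zh25) (kh xh3 yh16 zh36) (kh xh4 yh15 zh27) (kh xh4 yh15 zh28) (kh xh3 yh21 zh2) (kh xh4 yh20 zh30) (kh xh3 yh16 zh37) (kh xh3 yh21 zh5) (kh xh3 yh16 zh39) (kh xh4 yh15 zh34) (kh xh4 yh15 zh35) (kh xh4 yh15 zh36) (kh xh4 yh15 zh37) (kh xh3 yh21 zh14) (kh xh4 yh20 zh37) (kh xh3 yh21 zh3) (kh xh3 yh17 zh1) (kh xh3 yh21 zh7) (kh xh3 yh21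 zh17) (kh xh3 yh17 zh4) (kh xh3 yh18 zh45) (kh xh3 yh18 zh46) (kh xh3 yh18 zh47) (kh xh3 yh18 zh33) (kh xh5 yh18 zh36) (kh xh3 yh17 zh17)) (@D3.rec (fun _ => Pt) (kh xh3 yh17 zh18) (kh xh3 yh18 zh50) (kh xh3 yh18 zh49) (kh xh3 yh17 zh21) (kh xh5 yh5 zh43) (kh xh3 yh18 zh34) (kh xh3 yh19 zh18) (kh xh3 yh19 zh19) (kh xh3 yh19 zh20) (kh xh3 yh19 zh21) (kh xh3 yh19 zh2) (kh xh5 yh18 zh46) (kh xh5 yh18 zh47) (kh xh3 yh17 zh36) (kh xh3 yh17 zh38) (kh xh3 yh17 zh39) (kh xh5 yh18 zh49) (kh xh3 yh19 zh25) (kh xh3 yh17 zh42) (kh xh3 yh19 zh23) (kh xh3 yh17 zh43) (kh xh5 yh6 zh42) (kh xh5 yh6 zh44) (kh xh3 yh19 zh3) (kh xh3 yh19 zh4) (kh xh5 yh19 zh3) (kh xh3 yh19 zh50) (kh xh3 yh20 zh0) (kh xh3 yh20 zh1) (kh xh3 yh20 zh2) (kh xh3 yh19 zh29) (kh xh3 yh19 zh30) (kh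 xh5 yh19 zh10) (kh xh5 yh19 zh11) (kh xh3 yh18 zh9) (kh xh5 yh19 zh13) (kh xh3 yh18 zh10) (kh xh3 yh18 zh12) (kh xh4 yh16 zh38) (kh xh3 yh18 zh14) (kh xh5 yh19 zh17) (kh xh3 yh18 zh16) (kh xh3 yh20 zh6) (kh xh3 yh20 zh5) (kh xh3 yh18 zh17) (kh xh5 yh19 zh18) (kh xh3 yh18 zh19) (kh xh5 yh8 zh12) (kh xh5 yh8 zh14) (kh xh5 yh8 zh16) (kh xh3 yh19 zh31)) (@D3.rec (fun _ => Pt) (kh xh4 yh17 zh0) (kh xh3 yh20 zh19) (kh xh3 yh19 zh32) (kh xh5 yh18 zh35) (kh xh3 yh18 zh39) (kh xh3 yh18 zh38) (kh xh4 yh17 zh6) (kh xh5 yh19 zh29) (kh xh5 yh19 zh28) (kh xh3 yh18 zh36) (kh xh5 yh18 zh33) (kh xh5 yh18 zh34) (kh xh5 yh19 zh32) (kh xh5 yh9 zh26) (kh xh5 yh9 zh28) (kh xh5 yh18 zh43) (kh xh5 yh18 zh44) (kh xh3 yh19 zh11) (kh xh3 yh19 zh9) (kh xh5 yh19 zh39) (kh xh5 yh19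 zh37) (kh xh3 yh19 zh6) (kh xh5 yh19 zh36) (kh xh3 yh19 zh7) (kh xh5 yh19 zh42) (kh xh5 yh18 zh41) (kh xh5 yh18 zh42) (kh xh5 yh19 zh43) (kh xh3 yh19 zh22) (kh xh5 yh19 zh44) (kh xh5 yh10 zh50) (kh xh5 yh11 zh1) (kh xh5 yh11 zh3) (kh xh5 yh20 zh0) (kh xh5 yh19 zh7) (kh xh5 yh19 zh8) (kh xh3 yh19 zh39) (kh xh3 yh19 zh38) (kh xh5 yh20 zh5) (kh xh3 yh19 zh33) (kh xh5 yh20 zh2) (kh xh5 yh20 zh1) (kh xh3 yh19 zh34) (kh xh5 yh20 zh6) (kh xh3 yh19 zh36) (kh xh3 yh20 zh31) (kh xh3 yh20 zh32) (kh xh5 yh20 zh13) (kh xh3 yh19 zh49) (kh xh5 yh19 zh4) (kh xh5 yh19 zh5)) (@D3.rec (fun _ => Pt) (kh xh5 yh20 zh16) (kh xh5 yh20 zh17) (kh xh3 yh20 zh3) (kh xh3 yh20 zh8) (kh xh5 yh20 zh7) (kh xh5 yh20 zh18) (kh xh5 yh20 zh20) (kh xh5 yh12 zh50) (kh xh5 yh13 zh1) (kh xh5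 yh13 zh3) (kh xh5 yh13 zh5) (kh xh5 yh20 zh30) (kh xh3 yh20 zh13) (kh xh5 yh2 zh44) (kh xh5 yh2 zh45) (kh xh3 yh20 zh16) (kh xh3 yh20 zh17) (kh xh3 yh20 zh28) (kh xh5 yh19 zh27) (kh xh5 yh20 zh35) (kh xh5 yh20 zh36) (kh xh3 yh20 zh21) (kh xh3 yh20 zh26) (kh xh3 yh20 zh49) (kh xh5 yh20 zh32) (kh xh3 yh20 zh23) (kh xh3 yh20 zh24) (kh xh5 yh20 zh37) (kh xh5 yh20 zh39) (kh xh5 yh20 zh10) (kh xh3 yh22 zh29) (kh xh3 yh22 zh23) (kh xh3 yh22 zh22) (kh xh3 yh22 zh30) (kh xh5 yh20 zh46) (kh xh5 yh20 zh49) (kh xh3 yh20 zh38) (kh xh4 yh18 zh37) (kh xh4 yh18 zh38) (kh xh5 yh21 zh3) (kh xh5 yh21 zh4) (kh xh3 yh20 zh41) (kh xh5 yh20 zh31) (kh xh4 yh18 zh43) (kh xh5 yh21 zh7) (kh xh5 yh21 zh8) (kh xh3 yh20 zh46) (kh xh3 yh20 zh47) (kh xh5 yh20 zh38) (kh xh4 yh22 zh15)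 (kh xh5 yh4 zh27)) (@D3.rec (fun _ => Pt) (kh xh5 yh5 zh26) (kh xh4 yh22 zh11) (kh xh3 yh21 zh4) (kh xh5 yh21 zh11) (kh xh5 yh15 zh22) (kh xh5 yh15 zh24) (kh xh5 yh15 zh26) (kh xh4 yh22 zh36) (kh xh3 yh21 zh11) (kh xh5 yh4 zh48) (kh xh4 yh22 zh31) (kh xh3 yh21 zh15) (kh xh3 yh21 zh19) (kh xh4 yh19 zh13) (kh xh5 yh21 zh18) (kh xh5 yh21 zh20) (kh xh5 yh21 zh21) (kh xh5 yh16 zh15) (kh xh5 yh16 zh17) (kh xh5 yh16 zh19) (kh xh5 yh16 zh21) (kh xh5 yh17 zh27) (kh xh5 yh17 zh29) (kh xh5 yh17 zh31) (kh xh5 yh17 zh33) (kh xh4 yh21 zh50) (kh xh3 yh21 zh30) (kh xh5 yh4 zh16) (kh xh4 yh21 zh48) (kh xh3 yh21 zh33) (kh xh3 yh21 zh37) (kh xh4 yh19 zh31) (kh xh5 yh21 zh34) (kh xh5 yh21 zh36) (kh xh5 yh21 zh37) (kh xh4 yh19 zh35) (kh xh4 yh19 zh36) (kh xh4 yh19 zh37) (kh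 xh4 yh19 zh38) (kh xh3 yh21 zh46) (kh xh3 yh21 zh47) (kh xh4 yh22 zh21) (kh xh5 yh21 zh41) (kh xh4 yh19 zh43) (kh xh4 yh19 zh44) (kh xh5 yh21 zh44) (kh xh3 yh22 zh3) (kh xh4 yh19 zh47) (kh xh3 yh22 zh5) (kh xh4 yh19 zh49) (kh xh4 yh19 zh50)) (@D3.rec (fun _ => Pt) (kh xh4 yh20 zh0) (kh xh4 yh20 zh1) (kh xh4 yh20 zh2) (kh xh4 yh20 zh3) (kh xh4 yh20 zh4) (kh xh4 yh20 zh5) (kh xh5 yh2 zh42) (kh xh5 yh2 zh43) (kh xh5 yh2 zh46) (kh xh5 yh22 zh0) (kh xh4 yh20 zh10) (kh xh4 yh20 zh11) (kh xh4 yh20 zh12) (kh xh4 yh20 zh13) (kh xh4 yh20 zh14) (kh xh4 yh20 zh15) (kh xh4 yh20 zh16) (kh xh4 yh3 zh35) (kh xh4 yh20 zh18) (kh xh4 yh20 zh19) (kh xh4 yh20 zh20) (kh xh4 yh4 zh1) (kh xh4 yh20 zh22) (kh xh4 yh20 zh23) (kh xh3 yh23 zh46) (kh xh3 yh23 zh47) (kh xh4 yh3 zh34)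 (kh xh3 yh23 zh49) (kh xh3 yh23 zh50) (kh xh3 yh24 zh4) (kh xh4 yh15 zh30) (kh xh3 yh24 zh6) (kh xh4 yh4 zh0) (kh xh3 yh22 zh50) (kh xh3 yh24 zh9) (kh xh3 yh24 zh10) (kh xh3 yh24 zh18) (kh xh4 yh15 zh39) (kh xh3 yh24 zh22) (kh xh4 yh5 zh3) (kh xh4 yh4 zh28) (kh xh3 yh23 zh5) (kh xh3 yh24 zh27) (kh xh5 yh22 zh1) (kh xh3 yh24 zh35) (kh xh5 yh22 zh2) (kh xh5 yh22 zh3) (kh xh3 yh23 zh10) (kh xh3 yh24 zh39) (kh xh5 yh22 zh5) (kh xh5 yh22 zh6)) (@D3.rec (fun _ => Pt) (kh xh3 yh23 zh12) (kh xh4 yh21 zh1) (kh xh3 yh24 zh44) (kh xh5 yh22 zh8) (kh xh5 yh22 zh9) (kh xh3 yh23 zh16) (kh xh3 yh25 zh6) (kh xh5 yh22 zh11) (kh xh3 yh23 zh18) (kh xh5 yh22 zh14) (kh xh5 yh22 zh15) (kh xh3 yh23 zh19) (kh xh4 yh21 zh12) (kh xh3 yh25 zh13) (kh xh5 yh22 zh17) (kh xh3 yh23 zh22)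 (kh xh5 yh22 zh20) (kh xh3 yh23 zh23) (kh xh4 yh21 zh18) (kh xh5 yh22 zh22) (kh xh5 yh22 zh23) (kh xh3 yh23 zh27) (kh xh5 yh22 zh26) (kh xh5 yh22 zh27) (kh xh3 yh23 zh28) (kh xh4 yh21 zh25) (kh xh3 yh25 zh38) (kh xh5 yh22 zh29) (kh xh5 yh22 zh30) (kh xh3 yh23 zh31) (kh xh4 yh21 zh30) (kh xh4 yh21 zh31) (kh xh5 yh22 zh35) (kh xh3 yh23 zh33) (kh xh5 yh22 zh38) (kh xh3 yh23 zh34) (kh xh4 yh21 zh36) (kh xh5 yh22 zh40) (kh xh5 yh22 zh41) (kh xh3 yh23 zh38) (kh xh4 yh21 zh40) (kh xh4 yh21 zh41) (kh xh3 yh23 zh40) (kh xh4 yh21 zh43) (kh xh4 yh21 zh44) (kh xh5 yh22 zh50) (kh xh4 yh21 zh46) (kh xh4 yh21 zh47) (kh xh4 yh19 zh28) (kh xh5 yh23 zh5) (kh xh4 yh19 zh25)) (@D3.rec (fun _ => Pt) (kh xh4 yh3 zh33) (kh xh3 yh23 zh48) (kh xh4 yh3 zh44) (kh xh4 yh4 zh13) (kh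 xh5 yh23 zh8) (kh xh4 yh22 zh5) (kh xh5 yh23 zh12) (kh xh3 yh24 zh1) (kh xh4 yh22 zh8) (kh xh4 yh22 zh9) (kh xh4 yh4 zh4) (kh xh4 yh19 zh1) (kh xh4 yh4 zh2) (kh xh5 yh23 zh19) (kh xh3 yh24 zh5) (kh xh4 yh18 zh49) (kh xh5 yh23 zh21) (kh xh4 yh3 zh49) (kh xh3 yh24 zh7) (kh xh5 yh23 zh13) (kh xh4 yh4 zh16) (kh xh4 yh19 zh41) (kh xh5 yh23 zh25) (kh xh3 yh24 zh11) (kh xh4 yh22 zh24) (kh xh5 yh23 zh28) (kh xh5 yh23 zh30) (kh xh3 yh24 zh13) (kh xh3 yh24 zh26) (kh xh4 yh22 zh29) (kh xh4 yh4 zh31) (kh xh4 yh19 zh10) (kh xh4 yh4 zh29) (kh xh5 yh23 zh37) (kh xh5 yh23 zh39) (kh xh3 yh24 zh20) (kh xh4 yh19 zh7) (kh xh5 yh23 zh42) (kh xh3 yh24 zh23) (kh xh4 yh4 zh25) (kh xh3 yh24 zh24) (kh xh5 yh23 zh31) (kh xh5 yh23 zh46) (kh xh5 yh23 zh49) (kh xh3 yh24 zh28) (kh xh4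 yh22 zh45) (kh xh5 yh24 zh2) (kh xh5 yh24 zh4) (kh xh3 yh24 zh30) (kh xh3 yh24 zh43) (kh xh4 yh22 zh50)) (@D3.rec (fun _ => Pt) (kh xh5 yh24 zh8) (kh xh5 yh24 zh11) (kh xh3 yh24 zh34) (kh xh4 yh12 zh18) (kh xh5 yh24 zh15) (kh xh3 yh24 zh36) (kh xh5 yh24 zh19) (kh xh5 yh24 zh21) (kh xh3 yh24 zh37) (kh xh5 yh23 zh50) (kh xh4 yh12 zh42) (kh xh5 yh24 zh25) (kh xh3 yh24 zh40) (kh xh5 yh24 zh28) (kh xh3 yh24 zh41) (kh xh5 yh24 zh5) (kh xh5 yh24 zh32) (kh xh3 yh24 zh45) (kh xh5 yh24 zh36) (kh xh5 yh24 zh38) (kh xh3 yh24 zh46) (kh xh3 yh25 zh12) (kh xh4 yh23 zh22) (kh xh5 yh24 zh42) (kh xh3 yh24 zh49) (kh xh5 yh24 zh45) (kh xh3 yh24 zh50) (kh xh3 yh25 zh18) (kh xh5 yh24 zh48) (kh xh5 yh25 zh0) (kh xh3 yh25 zh3) (kh xh5 yh25 zh4) (kh xh5 yh25 zh6) (kh xh3 yh25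 zh4) (kh xh4 yh13 zh17) (kh xh4 yh13 zh4) (kh xh5 yh25 zh10) (kh xh5 yh25 zh12) (kh xh3 yh25 zh7) (kh xh4 yh23 zh39) (kh xh5 yh24 zh34) (kh xh5 yh25 zh19) (kh xh3 yh25 zh9) (kh xh5 yh25 zh22) (kh xh3 yh25 zh10) (kh xh5 yh24 zh39) (kh xh5 yh25 zh25) (kh xh5 yh25 zh26) (kh xh3 yh25 zh14) (kh xh5 yh23 zh43) (kh xh5 yh24 zh44)) (@D3.rec (fun _ => Pt) (kh xh3 yh25 zh16) (kh xh5 yh24 zh46) (kh xh5 yh25 zh34) (kh xh5 yh25 zh36) (kh xh3 yh25 zh19) (kh xh4 yh24 zh5) (kh xh3 yh25 zh43) (kh xh5 yh25 zh42) (kh xh3 yh25 zh21) (kh xh5 yh25 zh45) (kh xh3 yh25 zh22) (kh xh3 yh25 zh48) (kh xh5 yh25 zh48) (kh xh5 yh25 zh49) (kh xh3 yh25 zh26) (kh xh4 yh24 zh15) (kh xh3 yh26 zh2) (kh xh3 yh25 zh28) (kh xh3 yh26 zh4) (kh xh5 yh26 zh6) (kh xh3 yh25 zh31) (kh xh5 yh26 zh11)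 (kh xh5 yh26 zh13) (kh xh3 yh25 zh32) (kh xh4 yh24 zh24) (kh xh4 yh10 zh25) (kh xh5 yh26 zh20) (kh xh3 yh25 zh34) (kh xh5 yh26 zh23) (kh xh3 yh25 zh35) (kh xh4 yh14 zh16) (kh xh5 yh26 zh26) (kh xh5 yh26 zh29) (kh xh3 yh25 zh39) (kh xh5 yh26 zh32) (kh xh3 yh25 zh40) (kh xh4 yh24 zh36) (kh xh5 yh25 zh38) (kh xh4 yh24 zh38) (kh xh5 yh26 zh39) (kh xh5 yh26 zh41) (kh xh5 yh26 zh42) (kh xh3 yh25 zh44) (kh xh4 yh24 zh43) (kh xh5 yh25 zh44) (kh xh3 yh25 zh46) (kh xh5 yh25 zh46) (kh xh5 yh26 zh49) (kh xh3 yh25 zh49) (kh xh3 yh25 zh50) (kh xh4 yh24 zh50)) (@D3.rec (fun _ => Pt) (kh xh5 yh26 zh0) (kh xh4 yh25 zh1) (kh xh6 yh0 zh7) (kh xh5 yh26 zh3) (kh xh6 yh0 zh10) (kh xh3 yh26 zh13) (kh xh6 yh0 zh13) (kh xh6 yh0 zh16) (kh xh3 yh26 zh6) (kh xh3 yh26 zh17) (kh xh6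 yh0 zh20) (kh xh6 yh0 zh22) (kh xh3 yh26 zh8) (kh xh4 yh25 zh13) (kh xh3 yh26 zh22) (kh xh6 yh0 zh26) (kh xh6 yh0 zh29) (kh xh3 yh26 zh12) (kh xh6 yh0 zh11) (kh xh6 yh0 zh34) (kh xh3 yh26 zh14) (kh xh6 yh0 zh38) (kh xh6 yh0 zh40) (kh xh3 yh26 zh15) (kh xh3 yh26 zh32) (kh xh6 yh0 zh18) (kh xh6 yh0 zh44) (kh xh3 yh26 zh18) (kh xh6 yh0 zh47) (kh xh3 yh26 zh19) (kh xh3 yh26 zh38) (kh xh6 yh0 zh50) (kh xh6 yh1 zh2) (kh xh3 yh26 zh23) (kh xh6 yh1 zh6) (kh xh6 yh1 zh8) (kh xh3 yh26 zh24) (kh xh6 yh0 zh30) (kh xh4 yh25 zh38) (kh xh6 yh1 zh12) (kh xh6 yh1 zh14) (kh xh3 yh26 zh27) (kh xh4 yh25 zh42) (kh xh6 yh0 zh36) (kh xh6 yh1 zh21) (kh xh3 yh26 zh29) (kh xh6 yh1 zh24) (kh xh3 yh26 zh30) (kh xh6 yh0 zh41) (kh xh6 yh1 zh27) (kh xh6 yh1 zh28)) (@D3.rec (fun _ =>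 Pt) (kh xh3 yh26 zh34) (kh xh4 yh26 zh1) (kh xh6 yh0 zh46) (kh xh3 yh26 zh36) (kh xh6 yh0 zh48) (kh xh6 yh1 zh36) (kh xh6 yh1 zh39) (kh xh3 yh26 zh39) (kh xh4 yh0 zh2) (kh xh6 yh1 zh44) (kh xh3 yh26 zh41) (kh xh6 yh1 zh48) (kh xh6 yh1 zh50) (kh xh3 yh26 zh42) (kh xh4 yh26 zh14) (kh xh4 yh0 zh9) (kh xh6 yh2 zh3) (kh xh3 yh26 zh45) (kh xh6 yh2 zh6) (kh xh3 yh26 zh46) (kh xh4 yh26 zh20) (kh xh6 yh2 zh9) (kh xh6 yh2 zh12) (kh xh3 yh26 zh50) (kh xh6 yh2 zh16) (kh xh6 yh2 zh18) (kh xh4 yh0 zh0) (kh xh4 yh0 zh21) (kh xh6 yh1 zh41) (kh xh6 yh2 zh22) (kh xh6 yh2 zh24) (kh xh4 yh0 zh3) (kh xh4 yh26 zh32) (kh xh4 yh0 zh27) (kh xh6 yh2 zh31) (kh xh4 yh0 zh5) (kh xh6 yh2 zh34) (kh xh4 yh0 zh6) (kh xh4 yh0 zh32) (kh xh6 yh2 zh37) (kh xh6 yh2 zh38) (kh xh4 yh0 zh10)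 (kh xh4 yh26 zh42) (kh xh4 yh0 zh37) (kh xh4 yh0 zh12) (kh xh4 yh0 zh39) (kh xh6 yh2 zh46) (kh xh4 yh0 zh15) (kh xh6 yh2 zh50) (kh xh6 yh3 zh1) (kh xh4 yh0 zh16))
def f_h_5 : D2 → D3 → Pt := @D2.rec (fun _ => D3 → Pt) (@D3.rec (fun _ => Pt) (kh xh5 yh0 zh0) (kh xh6 yh2 zh14) (kh xh6 yh3 zh7) (kh xh4 yh0 zh18) (kh xh6 yh3 zh10) (kh xh4 yh0 zh19) (kh xh6 yh2 zh19) (kh xh6 yh3 zh13) (kh xh6 yh3 zh16) (kh xh4 yh0 zh23) (kh xh6 yh3 zh19) (kh xh4 yh0 zh24) (kh xh5 yh0 zh12) (kh xh6 yh2 zh26) (kh xh5 yh0 zh14) (kh xh6 yh3 zh26) (kh xh6 yh3 zh28) (kh xh6 yh3 zh29) (kh xh4 yh0 zh28) (kh xh5 yh0 zh19) (kh xh6 yh2 zh33) (kh xh4 yh0 zh30) (kh xh6 yh2 zh35) (kh xh6 yh3 zh36) (kh xh4 yh0 zh33) (kh xh4 yh0 zh34) (kh xh5 yh0 zh26) (kh xh6 yh2 zh40) (kh xh5 yh0 zh28) (kh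 xh6 yh3 zh45) (kh xh6 yh2 zh43) (kh xh6 yh3 zh47) (kh xh6 yh3 zh49) (kh xh4 yh0 zh40) (kh xh6 yh4 zh2) (kh xh4 yh0 zh41) (kh xh5 yh0 zh36) (kh xh4 yh1 zh12) (kh xh6 yh4 zh5) (kh xh6 yh4 zh7) (kh xh4 yh0 zh44) (kh xh5 yh0 zh41) (kh xh5 yh0 zh42) (kh xh6 yh4 zh14) (kh xh4 yh0 zh46) (kh xh6 yh4 zh16) (kh xh4 yh0 zh47) (kh xh5 yh0 zh47) (kh xh6 yh4 zh19) (kh xh6 yh4 zh20) (kh xh4 yh1 zh0)) (@D3.rec (fun _ => Pt) (kh xh4 yh2 zh24) (kh xh5 yh1 zh1) (kh xh4 yh1 zh2) (kh xh5 yh1 zh3) (kh xh6 yh4 zh28) (kh xh4 yh1 zh5) (kh xh6 yh4 zh31) (kh xh6 yh4 zh33) (kh xh4 yh1 zh6) (kh xh5 yh1 zh9) (kh xh4 yh1 zh36) (kh xh6 yh4 zh39) (kh xh4 yh1 zh8) (kh xh6 yh4 zh41) (kh xh4 yh1 zh9) (kh xh4 yh1 zh41) (kh xh6 yh4 zh44) (kh xh6 yh4 zh47) (kh xh4 yh1 zh13) (kh xh6 yh4 zh50)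 (kh xh4 yh1 zh14) (kh xh5 yh1 zh21) (kh xh4 yh1 zh48) (kh xh5 yh1 zh23) (kh xh6 yh5 zh6) (kh xh6 yh5 zh8) (kh xh6 yh5 zh9) (kh xh4 yh1 zh18) (kh xh4 yh2 zh34) (kh xh4 yh2 zh4) (kh xh4 yh1 zh20) (kh xh4 yh2 zh6) (kh xh6 yh5 zh16) (kh xh4 yh1 zh23) (kh xh4 yh1 zh24) (kh xh4 yh2 zh39) (kh xh4 yh2 zh11) (kh xh4 yh2 zh41) (kh xh6 yh5 zh25) (kh xh4 yh2 zh14) (kh xh6 yh5 zh28) (kh xh6 yh5 zh30) (kh xh4 yh1 zh30) (kh xh6 yh4 zh29) (kh xh6 yh5 zh33) (kh xh6 yh5 zh36) (kh xh4 yh1 zh32) (kh xh6 yh5 zh39) (kh xh4 yh1 zh33) (kh xh5 yh1 zh49) (kh xh6 yh4 zh35)) (@D3.rec (fun _ => Pt) (kh xh6 yh5 zh44) (kh xh6 yh5 zh46) (kh xh6 yh5 zh47) (kh xh4 yh1 zh37) (kh xh4 yh2 zh50) (kh xh6 yh4 zh40) (kh xh4 yh1 zh39) (kh xh6 yh4 zh42) (kh xh6 yh6 zh4) (kh xh4 yh1 zh42) (kh xh6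 yh6 zh8) (kh xh6 yh6 zh9) (kh xh4 yh1 zh43) (kh xh6 yh6 zh5) (kh xh6 yh4 zh49) (kh xh4 yh1 zh45) (kh xh5 yh2 zh16) (kh xh6 yh5 zh1) (kh xh5 yh2 zh18) (kh xh6 yh6 zh21) (kh xh5 yh2 zh20) (kh xh6 yh6 zh24) (kh xh4 yh1 zh50) (kh xh6 yh6 zh26) (kh xh4 yh2 zh0) (kh xh4 yh2 zh1) (kh xh4 yh3 zh11) (kh xh6 yh5 zh11) (kh xh4 yh3 zh13) (kh xh6 yh6 zh35) (kh xh6 yh5 zh14) (kh xh6 yh6 zh36) (kh xh4 yh2 zh7) (kh xh4 yh3 zh18) (kh xh6 yh5 zh18) (kh xh4 yh3 zh20) (kh xh6 yh5 zh20) (kh xh4 yh3 zh22) (kh xh6 yh6 zh46) (kh xh4 yh3 zh24) (kh xh6 yh6 zh49) (kh xh4 yh2 zh13) (kh xh4 yh20 zh6) (kh xh4 yh20 zh7) (kh xh4 yh18 zh13) (kh xh4 yh18 zh14) (kh xh4 yh20 zh8) (kh xh4 yh2 zh21) (kh xh4 yh2 zh22) (kh xh6 yh4 zh21) (kh xh6 yh4 zh23)) (@D3.rec (fun _ => Pt) (kh xh4 yh10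 zh49) (kh xh4 yh10 zh50) (kh xh6 yh7 zh6) (kh xh4 yh2 zh28) (kh xh4 yh10 zh45) (kh xh4 yh10 zh46) (kh xh6 yh7 zh10) (kh xh4 yh2 zh31) (kh xh4 yh2 zh32) (kh xh6 yh5 zh10) (kh xh6 yh5 zh12) (kh xh6 yh7 zh15) (kh xh4 yh2 zh36) (kh xh6 yh5 zh17) (kh xh4 yh3 zh19) (kh xh6 yh5 zh19) (kh xh4 yh3 zh21) (kh xh6 yh5 zh21) (kh xh6 yh7 zh25) (kh xh6 yh5 zh23) (kh xh6 yh7 zh28) (kh xh4 yh2 zh42) (kh xh6 yh7 zh31) (kh xh4 yh2 zh44) (kh xh4 yh11 zh38) (kh xh4 yh11 zh40) (kh xh6 yh7 zh35) (kh xh4 yh2 zh47) (kh xh4 yh2 zh48) (kh xh6 yh5 zh48) (kh xh6 yh5 zh50) (kh xh6 yh7 zh42) (kh xh6 yh7 zh43) (kh xh4 yh3 zh1) (kh xh4 yh3 zh6) (kh xh6 yh7 zh7) (kh xh6 yh7 zh49) (kh xh4 yh3 zh3) (kh xh4 yh3 zh4) (kh xh6 yh7 zh44) (kh xh6 yh7 zh46) (kh xh6 yh8 zh3) (kh xh4 yh3 zh8) (kh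 xh6 yh6 zh27) (kh xh4 yh11 zh18) (kh xh6 yh6 zh29) (kh xh4 yh11 zh19) (kh xh6 yh6 zh31) (kh xh6 yh8 zh13) (kh xh6 yh6 zh33) (kh xh6 yh8 zh16)) (@D3.rec (fun _ => Pt) (kh xh4 yh3 zh14) (kh xh4 yh3 zh16) (kh xh6 yh6 zh37) (kh xh6 yh7 zh17) (kh xh6 yh6 zh39) (kh xh6 yh6 zh40) (kh xh6 yh8 zh26) (kh xh6 yh6 zh42) (kh xh6 yh8 zh29) (kh xh6 yh6 zh44) (kh xh6 yh8 zh32) (kh xh4 yh3 zh23) (kh xh6 yh6 zh47) (kh xh6 yh8 zh34) (kh xh4 yh3 zh25) (kh xh5 yh23 zh4) (kh xh4 yh19 zh27) (kh xh5 yh23 zh3) (kh xh5 yh4 zh18) (kh xh5 yh23 zh2) (kh xh6 yh8 zh38) (kh xh4 yh3 zh37) (kh xh5 yh22 zh49) (kh xh4 yh3 zh39) (kh xh6 yh8 zh40) (kh xh5 yh23 zh18) (kh xh4 yh3 zh47) (kh xh4 yh18 zh50) (kh xh5 yh23 zh20) (kh xh4 yh4 zh11) (kh xh5 yh23 zh16) (kh xh5 yh4 zh31) (kh xh5 yh23 zh15)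 (kh xh6 yh8 zh46) (kh xh6 yh8 zh47) (kh xh4 yh4 zh5) (kh xh6 yh8 zh42) (kh xh6 yh8 zh50) (kh xh4 yh4 zh8) (kh xh4 yh4 zh9) (kh xh5 yh23 zh11) (kh xh5 yh4 zh41) (kh xh6 yh9 zh3) (kh xh4 yh4 zh20) (kh xh6 yh9 zh5) (kh xh5 yh23 zh38) (kh xh4 yh4 zh21) (kh xh4 yh4 zh35) (kh xh4 yh19 zh9) (kh xh5 yh23 zh41) (kh xh4 yh4 zh24)) (@D3.rec (fun _ => Pt) (kh xh4 yh4 zh41) (kh xh5 yh23 zh34) (kh xh5 yh23 zh35) (kh xh5 yh5 zh3) (kh xh5 yh23 zh32) (kh xh5 yh23 zh33) (kh xh6 yh9 zh14) (kh xh4 yh4 zh32) (kh xh6 yh9 zh17) (kh xh4 yh4 zh33) (kh xh6 yh9 zh6) (kh xh6 yh9 zh20) (kh xh6 yh9 zh21) (kh xh4 yh4 zh37) (kh xh4 yh6 zh7) (kh xh6 yh9 zh8) (kh xh4 yh4 zh39) (kh xh5 yh23 zh29) (kh xh4 yh4 zh42) (kh xh5 yh5 zh19) (kh xh6 yh9 zh29) (kh xh4 yh4 zh46) (kh xh6 yh9 zh32) (kh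 xh6 yh9 zh34) (kh xh4 yh4 zh47) (kh xh4 yh5 zh13) (kh xh4 yh19 zh0) (kh xh5 yh24 zh26) (kh xh4 yh4 zh50) (kh xh5 yh22 zh18) (kh xh4 yh5 zh0) (kh xh4 yh5 zh19) (kh xh6 yh9 zh39) (kh xh6 yh9 zh42) (kh xh4 yh5 zh4) (kh xh6 yh9 zh46) (kh xh6 yh9 zh48) (kh xh4 yh5 zh5) (kh xh4 yh12 zh26) (kh xh5 yh5 zh39) (kh xh6 yh10 zh1) (kh xh6 yh10 zh2) (kh xh4 yh5 zh8) (kh xh4 yh16 zh4) (kh xh6 yh9 zh30) (kh xh6 yh10 zh9) (kh xh4 yh5 zh10) (kh xh6 yh10 zh12) (kh xh4 yh5 zh11) (kh xh6 yh9 zh35) (kh xh6 yh10 zh14)) (@D3.rec (fun _ => Pt) (kh xh6 yh10 zh15) (kh xh4 yh5 zh15) (kh xh6 yh9 zh0) (kh xh6 yh9 zh36) (kh xh4 yh5 zh17) (kh xh6 yh9 zh37) (kh xh4 yh5 zh20) (kh xh4 yh5 zh21) (kh xh5 yh6 zh8) (kh xh6 yh10 zh25) (kh xh6 yh10 zh27) (kh xh4 yh5 zh25) (kh xh4 yh5 zh49) (kh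 xh6 yh10 zh31) (kh xh4 yh5 zh27) (kh xh6 yh10 zh34) (kh xh4 yh5 zh28) (kh xh4 yh6 zh3) (kh xh6 yh10 zh37) (kh xh5 yh25 zh27) (kh xh4 yh5 zh32) (kh xh5 yh24 zh24) (kh xh4 yh6 zh8) (kh xh4 yh5 zh34) (kh xh4 yh6 zh10) (kh xh6 yh10 zh43) (kh xh4 yh5 zh37) (kh xh6 yh10 zh47) (kh xh6 yh10 zh49) (kh xh4 yh5 zh38) (kh xh4 yh8 zh7) (kh xh4 yh8 zh50) (kh xh6 yh11 zh4) (kh xh4 yh5 zh40) (kh xh6 yh11 zh7) (kh xh4 yh5 zh41) (kh xh4 yh13 zh15) (kh xh6 yh11 zh10) (kh xh6 yh11 zh13) (kh xh4 yh5 zh45) (kh xh6 yh11 zh16) (kh xh4 yh5 zh46) (kh xh4 yh16 zh21) (kh xh6 yh10 zh28) (kh xh4 yh16 zh22) (kh xh6 yh10 zh44) (kh xh6 yh11 zh24) (kh xh6 yh11 zh25) (kh xh4 yh5 zh50) (kh xh6 yh9 zh15) (kh xh6 yh10 zh33)) (@D3.rec (fun _ => Pt) (kh xh4 yh6 zh1) (kh xh6 yh10 zh35) (kh xh6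 yh11 zh32) (kh xh4 yh6 zh4) (kh xh4 yh6 zh5) (kh xh6 yh9 zh22) (kh xh6 yh10 zh38) (kh xh6 yh9 zh24) (kh xh6 yh11 zh41) (kh xh6 yh10 zh40) (kh xh4 yh6 zh11) (kh xh5 yh7 zh11) (kh xh5 yh7 zh12) (kh xh4 yh6 zh13) (kh xh5 yh7 zh14) (kh xh6 yh11 zh48) (kh xh6 yh12 zh0) (kh xh4 yh6 zh16) (kh xh6 yh12 zh3) (kh xh4 yh6 zh17) (kh xh4 yh6 zh50) (kh xh6 yh12 zh6) (kh xh6 yh12 zh7) (kh xh4 yh6 zh20) (kh xh5 yh7 zh24) (kh xh4 yh7 zh6) (kh xh4 yh6 zh22) (kh xh4 yh7 zh8) (kh xh6 yh12 zh14) (kh xh4 yh6 zh25) (kh xh4 yh6 zh26) (kh xh5 yh7 zh31) (kh xh4 yh7 zh13) (kh xh5 yh7 zh33) (kh xh6 yh12 zh23) (kh xh4 yh7 zh16) (kh xh6 yh12 zh26) (kh xh6 yh12 zh28) (kh xh4 yh6 zh32) (kh xh4 yh7 zh1) (kh xh6 yh12 zh31) (kh xh6 yh12 zh34) (kh xh4 yh6 zh34) (kh xh6 yh12 zh37) (kh xh4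 yh6 zh35) (kh xh4 yh9 zh15) (kh xh4 yh10 zh23) (kh xh4 yh9 zh32) (kh xh6 yh12 zh43) (kh xh6 yh12 zh44) (kh xh4 yh6 zh39)) (@D3.rec (fun _ => Pt) (kh xh5 yh8 zh0) (kh xh4 yh14 zh14) (kh xh4 yh6 zh41) (kh xh4 yh14 zh12) (kh xh6 yh13 zh1) (kh xh4 yh6 zh44) (kh xh6 yh13 zh5) (kh xh6 yh13 zh6) (kh xh4 yh6 zh45) (kh xh6 yh13 zh2) (kh xh6 yh12 zh2) (kh xh4 yh6 zh47) (kh xh4 yh16 zh47) (kh xh6 yh12 zh4) (kh xh4 yh16 zh48) (kh xh6 yh12 zh29) (kh xh4 yh16 zh49) (kh xh5 yh26 zh8) (kh xh6 yh13 zh21) (kh xh4 yh7 zh2) (kh xh4 yh7 zh3) (kh xh5 yh8 zh21) (kh xh6 yh12 zh9) (kh xh5 yh8 zh23) (kh xh6 yh13 zh30) (kh xh6 yh12 zh12) (kh xh6 yh13 zh31) (kh xh4 yh7 zh9) (kh xh5 yh8 zh28) (kh xh6 yh12 zh16) (kh xh5 yh8 zh30) (kh xh6 yh12 zh18) (kh xh5 yh8 zh32) (kh xh6 yh13 zh41)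 (kh xh5 yh8 zh34) (kh xh6 yh13 zh44) (kh xh4 yh7 zh15) (kh xh6 yh9 zh43) (kh xh6 yh13 zh48) (kh xh4 yh7 zh17) (kh xh6 yh14 zh0) (kh xh6 yh14 zh2) (kh xh4 yh7 zh18) (kh xh4 yh7 zh39) (kh xh5 yh8 zh44) (kh xh6 yh14 zh6) (kh xh6 yh14 zh8) (kh xh4 yh7 zh21) (kh xh4 yh7 zh33) (kh xh4 yh7 zh45) (kh xh6 yh14 zh14)) (@D3.rec (fun _ => Pt) (kh xh4 yh7 zh23) (kh xh6 yh14 zh17) (kh xh4 yh7 zh24) (kh xh4 yh7 zh50) (kh xh6 yh10 zh18) (kh xh5 yh25 zh29) (kh xh4 yh7 zh28) (kh xh5 yh9 zh7) (kh xh4 yh8 zh4) (kh xh4 yh7 zh30) (kh xh4 yh8 zh6) (kh xh6 yh14 zh9) (kh xh6 yh14 zh26) (kh xh6 yh14 zh28) (kh xh4 yh7 zh34) (kh xh6 yh13 zh49) (kh xh6 yh14 zh32) (kh xh4 yh7 zh36) (kh xh6 yh14 zh35) (kh xh4 yh7 zh37) (kh xh6 yh14 zh3) (kh xh6 yh14 zh38) (kh xh6 yh14 zh41) (kh xh4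 yh7 zh41) (kh xh6 yh14 zh44) (kh xh4 yh7 zh42) (kh xh4 yh17 zh13) (kh xh6 yh14 zh10) (kh xh4 yh17 zh14) (kh xh6 yh9 zh44) (kh xh6 yh15 zh1) (kh xh6 yh15 zh2) (kh xh4 yh7 zh46) (kh xh5 yh9 zh33) (kh xh6 yh14 zh16) (kh xh4 yh7 zh48) (kh xh6 yh14 zh18) (kh xh6 yh15 zh9) (kh xh4 yh8 zh0) (kh xh4 yh8 zh1) (kh xh5 yh9 zh40) (kh xh6 yh14 zh19) (kh xh5 yh9 zh42) (kh xh6 yh15 zh18) (kh xh6 yh14 zh21) (kh xh6 yh10 zh50) (kh xh6 yh15 zh23) (kh xh6 yh15 zh25) (kh xh4 yh8 zh8) (kh xh4 yh8 zh36) (kh xh6 yh15 zh29)) (@D3.rec (fun _ => Pt) (kh xh4 yh8 zh10) (kh xh6 yh15 zh32) (kh xh4 yh8 zh11) (kh xh4 yh8 zh41) (kh xh6 yh15 zh35) (kh xh6 yh15 zh38) (kh xh4 yh8 zh15) (kh xh6 yh15 zh41) (kh xh4 yh8 zh16) (kh xh4 yh8 zh32) (kh xh4 yh8 zh48) (kh xh6 yh11 zh1) (kh xh6 yh15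 zh47) (kh xh6 yh15 zh48) (kh xh4 yh8 zh20) (kh xh5 yh10 zh15) (kh xh4 yh9 zh4) (kh xh4 yh8 zh22) (kh xh4 yh9 zh6) (kh xh6 yh16 zh4) (kh xh4 yh8 zh25) (kh xh4 yh8 zh26) (kh xh5 yh10 zh22) (kh xh4 yh9 zh11) (kh xh5 yh10 zh24) (kh xh6 yh16 zh11) (kh xh4 yh9 zh14) (kh xh6 yh15 zh44) (kh xh6 yh15 zh42) (kh xh6 yh16 zh16) (kh xh6 yh16 zh19) (kh xh4 yh8 zh33) (kh xh6 yh16 zh22) (kh xh4 yh8 zh34) (kh xh6 yh15 zh26) (kh xh6 yh16 zh25) (kh xh6 yh16 zh26) (kh xh4 yh8 zh37) (kh xh5 yh10 zh38) (kh xh6 yh15 zh31) (kh xh4 yh8 zh39) (kh xh6 yh15 zh33) (kh xh6 yh16 zh34) (kh xh4 yh8 zh42) (kh xh6 yh16 zh38) (kh xh6 yh16 zh39) (kh xh4 yh8 zh43) (kh xh6 yh16 zh35) (kh xh6 yh15 zh40) (kh xh4 yh8 zh45) (kh xh4 yh17 zh30)) (@D3.rec (fun _ => Pt) (kh xh6 yh15 zh43) (kh xh4 yh17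 zh31) (kh xh6 yh11 zh0) (kh xh4 yh17 zh32) (kh xh5 yh25 zh2) (kh xh6 yh17 zh3) (kh xh4 yh9 zh0) (kh xh4 yh9 zh1) (kh xh5 yh11 zh8) (kh xh6 yh15 zh50) (kh xh5 yh11 zh10) (kh xh6 yh17 zh12) (kh xh6 yh16 zh2) (kh xh6 yh17 zh13) (kh xh4 yh9 zh7) (kh xh5 yh11 zh15) (kh xh6 yh16 zh6) (kh xh5 yh11 zh17) (kh xh6 yh16 zh7) (kh xh5 yh11 zh19) (kh xh6 yh17 zh23) (kh xh5 yh11 zh21) (kh xh6 yh17 zh26) (kh xh4 yh9 zh13) (kh xh6 yh12 zh40) (kh xh6 yh12 zh38) (kh xh6 yh17 zh31) (kh xh4 yh9 zh16) (kh xh6 yh17 zh34) (kh xh4 yh9 zh17) (kh xh4 yh10 zh4) (kh xh6 yh17 zh37) (kh xh6 yh17 zh38) (kh xh4 yh9 zh20) (kh xh4 yh10 zh9) (kh xh4 yh9 zh22) (kh xh4 yh10 zh11) (kh xh6 yh17 zh43) (kh xh4 yh9 zh25) (kh xh6 yh17 zh47) (kh xh6 yh17 zh48) (kh xh4 yh9 zh26) (kh xh6 yh17 zh44)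 (kh xh4 yh10 zh18) (kh xh4 yh9 zh28) (kh xh4 yh9 zh49) (kh xh4 yh10 zh21) (kh xh4 yh9 zh48) (kh xh6 yh12 zh41) (kh xh6 yh18 zh9) (kh xh4 yh9 zh33)) (@D3.rec (fun _ => Pt) (kh xh4 yh9 zh34) (kh xh4 yh11 zh3) (kh xh4 yh10 zh30) (kh xh4 yh11 zh4) (kh xh6 yh7 zh32) (kh xh4 yh10 zh33) (kh xh6 yh18 zh18) (kh xh4 yh9 zh40) (kh xh4 yh11 zh7) (kh xh4 yh10 zh37) (kh xh4 yh11 zh9) (kh xh4 yh10 zh39) (kh xh4 yh11 zh11) (kh xh6 yh18 zh28) (kh xh4 yh11 zh13) (kh xh6 yh18 zh31) (kh xh4 yh9 zh46) (kh xh6 yh18 zh33) (kh xh6 yh18 zh5) (kh xh6 yh18 zh3) (kh xh6 yh18 zh38) (kh xh4 yh9 zh50) (kh xh6 yh18 zh42) (kh xh6 yh18 zh43) (kh xh4 yh10 zh0) (kh xh6 yh18 zh39) (kh xh6 yh17 zh33) (kh xh4 yh10 zh2) (kh xh6 yh17 zh35) (kh xh6 yh18 zh50) (kh xh4 yh10 zh5) (kh xh4 yh10 zh6)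 (kh xh4 yh11 zh23) (kh xh6 yh17 zh39) (kh xh4 yh11 zh24) (kh xh6 yh7 zh47) (kh xh6 yh17 zh40) (kh xh6 yh19 zh10) (kh xh6 yh19 zh11) (kh xh4 yh10 zh12) (kh xh4 yh10 zh17) (kh xh6 yh17 zh45) (kh xh6 yh19 zh18) (kh xh4 yh10 zh14) (kh xh4 yh10 zh15) (kh xh6 yh19 zh12) (kh xh6 yh17 zh50) (kh xh6 yh19 zh14) (kh xh6 yh19 zh15) (kh xh6 yh19 zh31) (kh xh4 yh18 zh7)) (@D3.rec (fun _ => Pt) (kh xh6 yh18 zh4) (kh xh4 yh18 zh8) (kh xh6 yh12 zh39) (kh xh4 yh18 zh9) (kh xh6 yh12 zh36) (kh xh4 yh18 zh10) (kh xh5 yh26 zh15) (kh xh6 yh19 zh40) (kh xh4 yh10 zh26) (kh xh4 yh11 zh37) (kh xh6 yh18 zh11) (kh xh4 yh11 zh39) (kh xh6 yh18 zh13) (kh xh4 yh11 zh41) (kh xh6 yh19 zh50) (kh xh4 yh11 zh43) (kh xh6 yh20 zh2) (kh xh4 yh10 zh32) (kh xh4 yh10 zh34) (kh xh4 yh11 zh47) (kh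 xh6 yh18 zh20) (kh xh4 yh11 zh49) (kh xh4 yh11 zh50) (kh xh6 yh20 zh12) (kh xh4 yh12 zh1) (kh xh6 yh20 zh15) (kh xh4 yh12 zh3) (kh xh6 yh20 zh18) (kh xh4 yh10 zh41) (kh xh4 yh12 zh6) (kh xh6 yh20 zh20) (kh xh4 yh10 zh43) (kh xh6 yh7 zh8) (kh xh6 yh20 zh25) (kh xh6 yh20 zh26) (kh xh4 yh10 zh47) (kh xh4 yh11 zh29) (kh xh6 yh7 zh3) (kh xh6 yh20 zh29) (kh xh4 yh11 zh0) (kh xh6 yh18 zh10) (kh xh6 yh18 zh12) (kh xh6 yh18 zh14) (kh xh6 yh18 zh16) (kh xh4 yh11 zh5) (kh xh6 yh18 zh19) (kh xh4 yh11 zh48) (kh xh6 yh18 zh21) (kh xh6 yh18 zh22) (kh xh6 yh20 zh45) (kh xh6 yh18 zh24)) (@D3.rec (fun _ => Pt) (kh xh6 yh20 zh48) (kh xh6 yh18 zh26) (kh xh6 yh21 zh0) (kh xh4 yh11 zh12) (kh xh6 yh18 zh29) (kh xh6 yh21 zh2) (kh xh4 yh11 zh14) (kh xh6 yh21 zh6) (kh xh6 yh21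 zh7) (kh xh4 yh11 zh16) (kh xh6 yh5 zh13) (kh xh6 yh8 zh5) (kh xh6 yh21 zh10) (kh xh4 yh11 zh20) (kh xh6 yh19 zh0) (kh xh6 yh19 zh2) (kh xh6 yh19 zh4) (kh xh6 yh19 zh6) (kh xh6 yh21 zh18) (kh xh6 yh21 zh20) (kh xh4 yh11 zh25) (kh xh4 yh11 zh26) (kh xh4 yh11 zh33) (kh xh6 yh20 zh27) (kh xh4 yh11 zh34) (kh xh6 yh6 zh0) (kh xh6 yh21 zh29) (kh xh4 yh11 zh30) (kh xh6 yh21 zh21) (kh xh6 yh21 zh23) (kh xh6 yh21 zh25) (kh xh6 yh21 zh27) (kh xh4 yh11 zh35) (kh xh6 yh19 zh41) (kh xh6 yh7 zh33) (kh xh6 yh19 zh43) (kh xh6 yh19 zh44) (kh xh6 yh21 zh45) (kh xh6 yh19 zh46) (kh xh6 yh21 zh48) (kh xh6 yh19 zh48) (kh xh6 yh22 zh0) (kh xh4 yh11 zh42) (kh xh6 yh20 zh0) (kh xh6 yh22 zh2) (kh xh4 yh11 zh44) (kh xh6 yh20 zh3) (kh xh6 yh20 zh37) (kh xh6 yh20 zh5) (kh xh6 yh20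 zh6) (kh xh6 yh20 zh9)) (@D3.rec (fun _ => Pt) (kh xh6 yh20 zh8) (kh xh4 yh12 zh0) (kh xh6 yh20 zh13) (kh xh4 yh12 zh2) (kh xh6 yh20 zh16) (kh xh6 yh22 zh7) (kh xh4 yh12 zh4) (kh xh6 yh22 zh9) (kh xh4 yh12 zh7) (kh xh5 yh15 zh9) (kh xh4 yh12 zh9) (kh xh4 yh12 zh10) (kh xh5 yh15 zh12) (kh xh4 yh12 zh13) (kh xh5 yh15 zh14) (kh xh5 yh15 zh15) (kh xh4 yh12 zh15) (kh xh5 yh15 zh17) (kh xh4 yh12 zh19) (kh xh5 yh24 zh10) (kh xh5 yh15 zh20) (kh xh4 yh12 zh21) (kh xh4 yh19 zh4) (kh xh5 yh15 zh23) (kh xh4 yh19 zh5) (kh xh6 yh9 zh49) (kh xh4 yh19 zh6) (kh xh5 yh24 zh12) (kh xh4 yh12 zh27) (kh xh4 yh12 zh28) (kh xh5 yh15 zh30) (kh xh5 yh15 zh31) (kh xh5 yh15 zh32) (kh xh6 yh22 zh39) (kh xh5 yh15 zh34) (kh xh4 yh12 zh34) (kh xh5 yh15 zh36) (kh xh5 yh15 zh37) (kh xh5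 yh15 zh38) (kh xh5 yh15 zh39) (kh xh5 yh15 zh40) (kh xh6 yh22 zh49) (kh xh5 yh15 zh42) (kh xh6 yh23 zh1) (kh xh4 yh12 zh40) (kh xh4 yh12 zh43) (kh xh5 yh24 zh20) (kh xh5 yh15 zh47) (kh xh4 yh12 zh45) (kh xh5 yh15 zh49) (kh xh4 yh12 zh48)) (@D3.rec (fun _ => Pt) (kh xh4 yh12 zh49) (kh xh5 yh16 zh1) (kh xh5 yh16 zh2) (kh xh5 yh16 zh3) (kh xh6 yh23 zh14) (kh xh5 yh16 zh5) (kh xh4 yh13 zh9) (kh xh5 yh16 zh7) (kh xh4 yh13 zh6) (kh xh4 yh13 zh7) (kh xh5 yh25 zh5) (kh xh5 yh16 zh11) (kh xh6 yh23 zh15) (kh xh6 yh23 zh16) (kh xh6 yh23 zh28) (kh xh4 yh19 zh17) (kh xh5 yh16 zh16) (kh xh4 yh19 zh18) (kh xh6 yh11 zh8) (kh xh4 yh19 zh19) (kh xh6 yh11 zh6) (kh xh4 yh19 zh20) (kh xh5 yh25 zh7) (kh xh4 yh13 zh18) (kh xh5 yh16 zh24) (kh xh5 yh16 zh25) (kh xh5 yh16 zh26)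 (kh xh5 yh16 zh27) (kh xh5 yh16 zh28) (kh xh6 yh23 zh46) (kh xh5 yh16 zh30) (kh xh6 yh23 zh49) (kh xh4 yh13 zh24) (kh xh4 yh13 zh26) (kh xh5 yh16 zh34) (kh xh5 yh16 zh35) (kh xh5 yh16 zh36) (kh xh5 yh16 zh37) (kh xh6 yh24 zh6) (kh xh5 yh16 zh39) (kh xh6 yh24 zh9) (kh xh5 yh16 zh41) (kh xh6 yh24 zh12) (kh xh4 yh13 zh33) (kh xh5 yh16 zh44) (kh xh6 yh24 zh14) (kh xh4 yh13 zh35) (kh xh4 yh13 zh37) (kh xh4 yh13 zh38) (kh xh5 yh16 zh49) (kh xh5 yh16 zh50)) (@D3.rec (fun _ => Pt) (kh xh5 yh17 zh0) (kh xh6 yh24 zh24) (kh xh5 yh17 zh2) (kh xh4 yh13 zh44) (kh xh4 yh14 zh44) (kh xh5 yh17 zh5) (kh xh4 yh14 zh46) (kh xh5 yh17 zh7) (kh xh4 yh14 zh48) (kh xh6 yh24 zh34) (kh xh4 yh14 zh50) (kh xh6 yh24 zh37) (kh xh4 yh13 zh50) (kh xh4 yh14 zh1) (kh xh5 yh17 zh14) (kh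 xh5 yh17 zh15) (kh xh5 yh17 zh16) (kh xh5 yh17 zh17) (kh xh5 yh17 zh18) (kh xh5 yh17 zh19) (kh xh6 yh25 zh0) (kh xh5 yh17 zh21) (kh xh5 yh17 zh22) (kh xh6 yh25 zh6) (kh xh5 yh17 zh24) (kh xh6 yh25 zh9) (kh xh4 yh14 zh8) (kh xh4 yh19 zh21) (kh xh6 yh12 zh49) (kh xh4 yh19 zh22) (kh xh6 yh12 zh46) (kh xh4 yh19 zh23) (kh xh5 yh26 zh22) (kh xh4 yh19 zh24) (kh xh5 yh26 zh24) (kh xh4 yh14 zh17) (kh xh4 yh15 zh2) (kh xh5 yh17 zh37) (kh xh4 yh15 zh3) (kh xh4 yh15 zh4) (kh xh6 yh25 zh24) (kh xh4 yh15 zh6) (kh xh6 yh25 zh27) (kh xh4 yh15 zh8) (kh xh6 yh25 zh30) (kh xh4 yh14 zh24) (kh xh4 yh15 zh11) (kh xh6 yh25 zh32) (kh xh4 yh14 zh26) (kh xh5 yh17 zh49) (kh xh4 yh14 zh37)) (@D3.rec (fun _ => Pt) (kh xh4 yh15 zh7) (kh xh4 yh14 zh35) (kh xh6 yh20 zh14) (kh xh4 yh14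 zh33) (kh xh4 yh15 zh5) (kh xh4 yh15 zh14) (kh xh6 yh25 zh19) (kh xh6 yh25 zh37) (kh xh4 yh14 zh40) (kh xh6 yh24 zh25) (kh xh6 yh24 zh27) (kh xh6 yh24 zh28) (kh xh6 yh25 zh35) (kh xh6 yh24 zh30) (kh xh6 yh25 zh34) (kh xh6 yh24 zh32) (kh xh6 yh25 zh46) (kh xh4 yh14 zh49) (kh xh6 yh24 zh35) (kh xh6 yh25 zh48) (kh xh4 yh15 zh0) (kh xh6 yh25 zh18) (kh xh6 yh25 zh20) (kh xh6 yh25 zh21) (kh xh6 yh25 zh25) (kh xh6 yh25 zh28) (kh xh4 yh15 zh9) (kh xh6 yh26 zh1) (kh xh4 yh15 zh12) (kh xh5 yh18 zh29) (kh xh4 yh15 zh15) (kh xh5 yh18 zh31) (kh xh6 yh22 zh23) (kh xh4 yh17 zh10) (kh xh4 yh17 zh11) (kh xh4 yh17 zh3) (kh xh4 yh15 zh49) (kh xh6 yh14 zh45) (kh xh6 yh10 zh3) (kh xh6 yh10 zh5) (kh xh6 yh26 zh6) (kh xh4 yh17 zh25) (kh xh4 yh17 zh26) (kh xh4 yh17 zh15) (kh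 xh4 yh17 zh16) (kh xh6 yh26 zh7) (kh xh4 yh16 zh11) (kh xh4 yh16 zh12) (kh xh6 yh16 zh45) (kh xh4 yh16 zh16) (kh xh6 yh11 zh17)) (@D3.rec (fun _ => Pt) (kh xh6 yh11 zh19) (kh xh6 yh11 zh21) (kh xh6 yh26 zh13) (kh xh4 yh16 zh25) (kh xh4 yh17 zh49) (kh xh4 yh17 zh50) (kh xh6 yh26 zh17) (kh xh4 yh17 zh34) (kh xh4 yh17 zh35) (kh xh6 yh26 zh18) (kh xh4 yh16 zh32) (kh xh4 yh16 zh33) (kh xh6 yh26 zh19) (kh xh4 yh16 zh35) (kh xh5 yh19 zh14) (kh xh6 yh26 zh23) (kh xh6 yh26 zh24) (kh xh4 yh16 zh40) (kh xh4 yh16 zh45) (kh xh6 yh26 zh14) (kh xh6 yh26 zh25) (kh xh6 yh26 zh27) (kh xh6 yh26 zh28) (kh xh6 yh13 zh12) (kh xh6 yh13 zh14) (kh xh6 yh13 zh16) (kh xh6 yh13 zh18) (kh xh4 yh18 zh18) (kh xh4 yh17 zh8) (kh xh4 yh17 zh7) (kh xh6 yh26 zh35) (kh xh6 yh26 zh36) (kh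 xh4 yh17 zh12) (kh xh6 yh14 zh47) (kh xh6 yh14 zh49) (kh xh6 yh26 zh40) (kh xh4 yh17 zh22) (kh xh4 yh17 zh20) (kh xh6 yh26 zh41) (kh xh4 yh17 zh19) (kh xh6 yh26 zh42) (kh xh6 yh26 zh44) (kh xh4 yh17 zh24) (kh xh4 yh17 zh27) (kh xh4 yh17 zh29) (kh xh6 yh26 zh43) (kh xh6 yh26 zh47) (kh xh6 yh16 zh47) (kh xh6 yh16 zh49) (kh xh6 yh17 zh0) (kh xh7 yh0 zh4)) (@D3.rec (fun _ => Pt) (kh xh4 yh17 zh33) (kh xh4 yh17 zh41) (kh xh4 yh17 zh40) (kh xh7 yh0 zh7) (kh xh7 yh0 zh8) (kh xh4 yh17 zh38) (kh xh4 yh17 zh43) (kh xh4 yh18 zh4) (kh xh7 yh0 zh9) (kh xh7 yh0 zh11) (kh xh4 yh18 zh29) (kh xh7 yh0 zh15) (kh xh7 yh0 zh16) (kh xh4 yh17 zh47) (kh xh7 yh0 zh5) (kh xh7 yh0 zh18) (kh xh4 yh18 zh0) (kh xh4 yh18 zh1) (kh xh4 yh18 zh5) (kh xh7 yh0 zh10) (kh xh4 yh18 zh6) (kh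 xh6 yh26 zh20) (kh xh7 yh0 zh21) (kh xh7 yh0 zh23) (kh xh6 yh19 zh32) (kh xh6 yh19 zh34) (kh xh6 yh19 zh36) (kh xh6 yh19 zh38) (kh xh7 yh0 zh31) (kh xh7 yh0 zh32) (kh xh4 yh18 zh11) (kh xh4 yh18 zh42) (kh xh4 yh18 zh24) (kh xh7 yh0 zh35) (kh xh7 yh0 zh36) (kh xh4 yh18 zh19) (kh xh4 yh18 zh20) (kh xh4 yh18 zh27) (kh xh4 yh18 zh48) (kh xh4 yh18 zh28) (kh xh5 yh20 zh40) (kh xh7 yh0 zh37) (kh xh7 yh0 zh39) (kh xh7 yh0 zh41) (kh xh7 yh0 zh43) (kh xh7 yh0 zh45) (kh xh4 yh18 zh34) (kh xh7 yh0 zh47) (kh xh7 yh0 zh48) (kh xh4 yh18 zh35) (kh xh6 yh4 zh24)) (@D3.rec (fun _ => Pt) (kh xh5 yh21 zh0) (kh xh7 yh0 zh50) (kh xh7 yh1 zh0) (kh xh4 yh18 zh39) (kh xh4 yh18 zh40) (kh xh7 yh0 zh33) (kh xh7 yh1 zh3) (kh xh4 yh18 zh44) (kh xh4 yh18 zh45) (kh xh7 yh0 zh38) (kh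 xh7 yh0 zh40) (kh xh4 yh19 zh3) (kh xh5 yh21 zh12) (kh xh7 yh1 zh7) (kh xh6 yh22 zh25) (kh xh6 yh22 zh27) (kh xh6 yh22 zh29) (kh xh5 yh21 zh17) (kh xh4 yh19 zh14) (kh xh5 yh21 zh19) (kh xh4 yh19 zh15) (kh xh4 yh19 zh16) (kh xh5 yh23 zh22) (kh xh7 yh1 zh12) (kh xh7 yh1 zh14) (kh xh7 yh1 zh15) (kh xh6 yh23 zh29) (kh xh6 yh23 zh31) (kh xh6 yh23 zh33) (kh xh6 yh23 zh35) (kh xh6 yh25 zh10) (kh xh6 yh25 zh12) (kh xh6 yh25 zh14) (kh xh5 yh21 zh33) (kh xh4 yh19 zh32) (kh xh5 yh21 zh35) (kh xh4 yh19 zh33) (kh xh4 yh19 zh34) (kh xh5 yh23 zh6) (kh xh7 yh1 zh24) (kh xh7 yh1 zh26) (kh xh4 yh19 zh42) (kh xh7 yh1 zh27) (kh xh5 yh21 zh43) (kh xh4 yh19 zh45) (kh xh5 yh21 zh45) (kh xh5 yh21 zh46) (kh xh5 yh21 zh47) (kh xh5 yh21 zh48) (kh xh5 yh21 zh49) (kh xh5 yh21 zh50))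 (@D3.rec (fun _ => Pt) (kh xh4 yh20 zh9) (kh xh4 yh20 zh43) (kh xh4 yh20 zh45) (kh xh4 yh20 zh46) (kh xh5 yh22 zh4) (kh xh4 yh20 zh49) (kh xh4 yh20 zh50) (kh xh5 yh22 zh7) (kh xh4 yh21 zh3) (kh xh4 yh21 zh4) (kh xh5 yh22 zh10) (kh xh4 yh21 zh7) (kh xh5 yh22 zh12) (kh xh5 yh22 zh13) (kh xh4 yh21 zh9) (kh xh4 yh21 zh10) (kh xh5 yh22 zh16) (kh xh4 yh21 zh14) (kh xh5 yh5 zh29) (kh xh5 yh22 zh19) (kh xh4 yh21 zh16) (kh xh5 yh22 zh21) (kh xh4 yh21 zh19) (kh xh4 yh21 zh20) (kh xh5 yh22 zh24) (kh xh5 yh22 zh25) (kh xh4 yh21 zh22) (kh xh4 yh21 zh23) (kh xh5 yh22 zh28) (kh xh4 yh21 zh27) (kh xh4 yh21 zh28) (kh xh5 yh22 zh31) (kh xh5 yh22 zh32) (kh xh5 yh22 zh33) (kh xh7 yh2 zh12) (kh xh4 yh21 zh32) (kh xh5 yh22 zh36) (kh xh5 yh22 zh37) (kh xh4 yh21 zh34) (kh xh5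 yh22 zh39) (kh xh4 yh21 zh37) (kh xh4 yh21 zh38) (kh xh5 yh22 zh42) (kh xh5 yh22 zh43) (kh xh5 yh22 zh44) (kh xh7 yh2 zh26) (kh xh5 yh22 zh46) (kh xh7 yh2 zh29) (kh xh5 yh22 zh48) (kh xh5 yh4 zh22) (kh xh4 yh21 zh45)) (@D3.rec (fun _ => Pt) (kh xh5 yh23 zh0) (kh xh5 yh23 zh1) (kh xh5 yh4 zh19) (kh xh5 yh4 zh17) (kh xh5 yh4 zh15) (kh xh4 yh21 zh49) (kh xh5 yh21 zh38) (kh xh7 yh2 zh34) (kh xh4 yh22 zh4) (kh xh5 yh23 zh9) (kh xh7 yh2 zh36) (kh xh5 yh4 zh40) (kh xh4 yh22 zh6) (kh xh4 yh22 zh19) (kh xh5 yh23 zh14) (kh xh5 yh4 zh32) (kh xh5 yh4 zh30) (kh xh7 yh2 zh41) (kh xh5 yh4 zh25) (kh xh4 yh22 zh13) (kh xh5 yh4 zh28) (kh xh4 yh22 zh16) (kh xh5 yh21 zh22) (kh xh7 yh2 zh45) (kh xh7 yh2 zh47) (kh xh4 yh22 zh22) (kh xh5 yh23 zh26) (kh xh7 yh2 zh50) (kh xh4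 yh22 zh25) (kh xh5 yh5 zh17) (kh xh4 yh22 zh26) (kh xh4 yh22 zh41) (kh xh5 yh5 zh4) (kh xh5 yh5 zh5) (kh xh5 yh5 zh1) (kh xh5 yh5 zh2) (kh xh7 yh3 zh8) (kh xh4 yh22 zh33) (kh xh5 yh4 zh45) (kh xh4 yh22 zh34) (kh xh7 yh3 zh11) (kh xh5 yh4 zh49) (kh xh4 yh22 zh37) (kh xh4 yh23 zh49) (kh xh7 yh3 zh1) (kh xh7 yh3 zh14) (kh xh4 yh22 zh42) (kh xh7 yh3 zh18) (kh xh7 yh3 zh20) (kh xh4 yh22 zh43) (kh xh4 yh23 zh9)) (@D3.rec (fun _ => Pt) (kh xh5 yh24 zh0) (kh xh7 yh3 zh24) (kh xh4 yh22 zh46) (kh xh7 yh3 zh27) (kh xh4 yh22 zh47) (kh xh4 yh23 zh15) (kh xh7 yh3 zh30) (kh xh7 yh3 zh33) (kh xh4 yh23 zh0) (kh xh7 yh3 zh37) (kh xh5 yh15 zh19) (kh xh4 yh23 zh1) (kh xh5 yh15 zh27) (kh xh7 yh3 zh41) (kh xh7 yh3 zh43) (kh xh4 yh23 zh4) (kh xh5 yh24 zh16) (kh xh7 yh3 zh16)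 (kh xh7 yh3 zh50) (kh xh4 yh23 zh6) (kh xh5 yh15 zh46) (kh xh4 yh23 zh7) (kh xh7 yh3 zh21) (kh xh7 yh3 zh25) (kh xh5 yh6 zh21) (kh xh4 yh23 zh11) (kh xh5 yh5 zh27) (kh xh7 yh3 zh26) (kh xh4 yh23 zh13) (kh xh7 yh3 zh28) (kh xh7 yh4 zh8) (kh xh7 yh4 zh10) (kh xh4 yh23 zh16) (kh xh5 yh24 zh33) (kh xh4 yh23 zh40) (kh xh7 yh4 zh16) (kh xh4 yh23 zh18) (kh xh7 yh4 zh19) (kh xh4 yh23 zh19) (kh xh4 yh23 zh45) (kh xh7 yh4 zh22) (kh xh7 yh4 zh23) (kh xh4 yh23 zh23) (kh xh7 yh3 zh0) (kh xh4 yh23 zh50) (kh xh4 yh23 zh25) (kh xh4 yh24 zh1) (kh xh7 yh4 zh31) (kh xh4 yh23 zh28) (kh xh7 yh4 zh36) (kh xh7 yh4 zh38)) (@D3.rec (fun _ => Pt) (kh xh4 yh23 zh29) (kh xh5 yh25 zh1) (kh xh5 yh11 zh4) (kh xh7 yh4 zh45) (kh xh4 yh23 zh31) (kh xh5 yh16 zh10) (kh xh4 yh23 zh32) (kh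 xh5 yh16 zh22) (kh xh7 yh4 zh50) (kh xh7 yh5 zh2) (kh xh4 yh23 zh36) (kh xh7 yh5 zh5) (kh xh4 yh23 zh37) (kh xh5 yh25 zh13) (kh xh7 yh4 zh12) (kh xh5 yh25 zh15) (kh xh7 yh5 zh12) (kh xh7 yh5 zh14) (kh xh7 yh5 zh15) (kh xh4 yh23 zh41) (kh xh7 yh3 zh9) (kh xh7 yh4 zh18) (kh xh4 yh23 zh43) (kh xh7 yh4 zh20) (kh xh7 yh5 zh22) (kh xh4 yh23 zh46) (kh xh4 yh23 zh47) (kh xh5 yh6 zh19) (kh xh7 yh4 zh25) (kh xh5 yh9 zh5) (kh xh7 yh5 zh29) (kh xh7 yh4 zh28) (kh xh7 yh5 zh31) (kh xh7 yh5 zh34) (kh xh4 yh24 zh2) (kh xh7 yh5 zh37) (kh xh4 yh24 zh3) (kh xh5 yh25 zh37) (kh xh4 yh24 zh37) (kh xh7 yh5 zh42) (kh xh7 yh5 zh44) (kh xh7 yh5 zh45) (kh xh4 yh24 zh7) (kh xh5 yh25 zh43) (kh xh4 yh24 zh44) (kh xh4 yh24 zh9) (kh xh4 yh24 zh46) (kh xh7 yh6 zh1) (kh xh4 yh24 zh12)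 (kh xh4 yh24 zh13) (kh xh5 yh25 zh50)) (@D3.rec (fun _ => Pt) (kh xh4 yh25 zh0) (kh xh5 yh26 zh1) (kh xh7 yh6 zh10) (kh xh4 yh25 zh3) (kh xh7 yh6 zh13) (kh xh7 yh6 zh15) (kh xh4 yh24 zh19) (kh xh5 yh26 zh7) (kh xh5 yh8 zh17) (kh xh7 yh6 zh21) (kh xh7 yh6 zh24) (kh xh4 yh24 zh21) (kh xh7 yh6 zh27) (kh xh4 yh24 zh22) (kh xh5 yh26 zh14) (kh xh5 yh13 zh6) (kh xh5 yh26 zh16) (kh xh7 yh6 zh34) (kh xh7 yh6 zh36) (kh xh7 yh6 zh37) (kh xh4 yh24 zh26) (kh xh5 yh26 zh21) (kh xh5 yh17 zh32) (kh xh4 yh24 zh28) (kh xh5 yh17 zh34) (kh xh7 yh6 zh45) (kh xh4 yh24 zh31) (kh xh7 yh6 zh49) (kh xh7 yh6 zh50) (kh xh4 yh24 zh32) (kh xh7 yh6 zh46) (kh xh7 yh5 zh36) (kh xh4 yh24 zh34) (kh xh5 yh26 zh33) (kh xh7 yh5 zh39) (kh xh5 yh26 zh35) (kh xh7 yh7 zh11) (kh xh5 yh26 zh37)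 (kh xh7 yh7 zh14) (kh xh4 yh24 zh39) (kh xh7 yh7 zh16) (kh xh4 yh24 zh40) (kh xh4 yh24 zh41) (kh xh5 yh26 zh43) (kh xh7 yh5 zh47) (kh xh5 yh26 zh45) (kh xh7 yh7 zh25) (kh xh7 yh5 zh50) (kh xh7 yh7 zh26) (kh xh4 yh24 zh47) (kh xh5 yh26 zh50))
def f_h_6 : D2 → D3 → Pt := @D2.rec (fun _ => D3 → Pt) (@D3.rec (fun _ => Pt) (kh xh7 yh6 zh3) (kh xh6 yh0 zh1) (kh xh7 yh6 zh5) (kh xh6 yh0 zh3) (kh xh7 yh7 zh36) (kh xh6 yh0 zh5) (kh xh7 yh7 zh39) (kh xh4 yh25 zh2) (kh xh7 yh7 zh42) (kh xh7 yh7 zh45) (kh xh4 yh25 zh4) (kh xh4 yh25 zh18) (kh xh7 yh7 zh48) (kh xh4 yh25 zh6) (kh xh7 yh8 zh0) (kh xh7 yh8 zh2) (kh xh4 yh25 zh7) (kh xh6 yh0 zh17) (kh xh4 yh25 zh25) (kh xh7 yh8 zh5) (kh xh4 yh25 zh10) (kh xh7 yh8 zh8) (kh xh4 yh25 zh11) (kh xh6 yh0 zh23) (kh xh7 yh8 zh11)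 (kh xh7 yh8 zh14) (kh xh4 yh25 zh15) (kh xh7 yh8 zh18) (kh xh7 yh8 zh20) (kh xh4 yh25 zh16) (kh xh4 yh25 zh37) (kh xh7 yh7 zh47) (kh xh7 yh8 zh24) (kh xh7 yh8 zh26) (kh xh4 yh25 zh19) (kh xh6 yh0 zh35) (kh xh4 yh25 zh43) (kh xh7 yh8 zh33) (kh xh4 yh25 zh21) (kh xh7 yh8 zh36) (kh xh4 yh25 zh22) (kh xh4 yh25 zh48) (kh xh7 yh8 zh39) (kh xh7 yh8 zh40) (kh xh4 yh25 zh26) (kh xh6 yh0 zh45) (kh xh4 yh26 zh2) (kh xh4 yh25 zh28) (kh xh4 yh26 zh4) (kh xh7 yh8 zh48) (kh xh4 yh25 zh31)) (@D3.rec (fun _ => Pt) (kh xh7 yh9 zh1) (kh xh7 yh9 zh3) (kh xh4 yh25 zh32) (kh xh6 yh1 zh3) (kh xh7 yh8 zh16) (kh xh7 yh9 zh9) (kh xh4 yh25 zh34) (kh xh7 yh9 zh12) (kh xh4 yh25 zh35) (kh xh7 yh8 zh21) (kh xh7 yh9 zh15) (kh xh7 yh9 zh18) (kh xh4 yh25 zh39) (kh xh7 yh9 zh21) (kh xh4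 yh25 zh40) (kh xh6 yh1 zh15) (kh xh7 yh8 zh28) (kh xh6 yh1 zh17) (kh xh7 yh9 zh28) (kh xh7 yh9 zh30) (kh xh7 yh9 zh31) (kh xh4 yh25 zh44) (kh xh6 yh1 zh22) (kh xh7 yh8 zh35) (kh xh4 yh25 zh46) (kh xh7 yh8 zh37) (kh xh7 yh4 zh26) (kh xh4 yh25 zh49) (kh xh4 yh25 zh50) (kh xh6 yh1 zh29) (kh xh7 yh8 zh42) (kh xh6 yh1 zh31) (kh xh7 yh9 zh43) (kh xh7 yh8 zh45) (kh xh7 yh9 zh44) (kh xh7 yh9 zh46) (kh xh4 yh26 zh5) (kh xh7 yh9 zh50) (kh xh7 yh10 zh1) (kh xh4 yh26 zh6) (kh xh6 yh1 zh40) (kh xh4 yh26 zh28) (kh xh7 yh10 zh3) (kh xh7 yh10 zh4) (kh xh4 yh26 zh9) (kh xh6 yh1 zh45) (kh xh6 yh1 zh46) (kh xh7 yh10 zh10) (kh xh4 yh26 zh11) (kh xh7 yh10 zh13) (kh xh4 yh26 zh12)) (@D3.rec (fun _ => Pt) (kh xh6 yh2 zh0) (kh xh7 yh10 zh16) (kh xh7 yh10 zh17) (kh xh4 yh26 zh16)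 (kh xh6 yh2 zh4) (kh xh6 yh2 zh5) (kh xh4 yh26 zh18) (kh xh6 yh2 zh7) (kh xh7 yh10 zh25) (kh xh4 yh26 zh21) (kh xh7 yh10 zh29) (kh xh7 yh10 zh31) (kh xh4 yh26 zh22) (kh xh6 yh2 zh13) (kh xh5 yh0 zh1) (kh xh7 yh10 zh37) (kh xh4 yh26 zh24) (kh xh7 yh10 zh40) (kh xh4 yh26 zh25) (kh xh5 yh0 zh6) (kh xh7 yh10 zh43) (kh xh7 yh10 zh46) (kh xh4 yh26 zh29) (kh xh7 yh10 zh49) (kh xh4 yh26 zh30) (kh xh6 yh2 zh25) (kh xh5 yh0 zh13) (kh xh6 yh2 zh27) (kh xh7 yh11 zh5) (kh xh7 yh11 zh7) (kh xh7 yh11 zh8) (kh xh4 yh26 zh34) (kh xh6 yh2 zh32) (kh xh5 yh0 zh20) (kh xh4 yh26 zh36) (kh xh5 yh0 zh22) (kh xh7 yh11 zh15) (kh xh4 yh26 zh39) (kh xh4 yh26 zh40) (kh xh6 yh2 zh39) (kh xh5 yh0 zh27) (kh xh6 yh2 zh41) (kh xh7 yh11 zh24) (kh xh5 yh0 zh30) (kh xh7 yh11 zh27) (kh xh7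 yh11 zh29) (kh xh4 yh26 zh46) (kh xh7 yh10 zh26) (kh xh7 yh11 zh32) (kh xh7 yh11 zh35) (kh xh4 yh26 zh48)) (@D3.rec (fun _ => Pt) (kh xh7 yh11 zh38) (kh xh4 yh26 zh49) (kh xh6 yh3 zh2) (kh xh7 yh10 zh33) (kh xh7 yh11 zh43) (kh xh7 yh11 zh45) (kh xh7 yh11 zh46) (kh xh5 yh0 zh2) (kh xh6 yh3 zh8) (kh xh7 yh10 zh39) (kh xh5 yh0 zh4) (kh xh7 yh10 zh41) (kh xh7 yh12 zh3) (kh xh5 yh0 zh7) (kh xh7 yh12 zh7) (kh xh7 yh12 zh8) (kh xh5 yh0 zh8) (kh xh7 yh12 zh4) (kh xh7 yh10 zh48) (kh xh5 yh0 zh10) (kh xh6 yh3 zh20) (kh xh7 yh11 zh0) (kh xh6 yh3 zh22) (kh xh7 yh12 zh20) (kh xh6 yh3 zh24) (kh xh7 yh12 zh23) (kh xh5 yh0 zh15) (kh xh7 yh12 zh25) (kh xh5 yh0 zh16) (kh xh5 yh0 zh17) (kh xh6 yh3 zh30) (kh xh7 yh11 zh10) (kh xh6 yh3 zh32) (kh xh7 yh12 zh34) (kh xh7 yh11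 zh13) (kh xh7 yh12 zh35) (kh xh5 yh0 zh23) (kh xh6 yh3 zh37) (kh xh7 yh11 zh17) (kh xh6 yh3 zh39) (kh xh7 yh11 zh19) (kh xh6 yh3 zh41) (kh xh7 yh12 zh44) (kh xh6 yh3 zh43) (kh xh7 yh12 zh47) (kh xh5 yh0 zh29) (kh xh7 yh12 zh48) (kh xh5 yh0 zh31) (kh xh7 yh13 zh0) (kh xh5 yh0 zh32) (kh xh6 yh3 zh50)) (@D3.rec (fun _ => Pt) (kh xh6 yh4 zh0) (kh xh7 yh13 zh4) (kh xh5 yh0 zh34) (kh xh6 yh4 zh3) (kh xh7 yh13 zh6) (kh xh5 yh0 zh38) (kh xh7 yh13 zh9) (kh xh5 yh0 zh39) (kh xh6 yh4 zh8) (kh xh6 yh4 zh9) (kh xh6 yh4 zh10) (kh xh7 yh13 zh16) (kh xh7 yh13 zh17) (kh xh7 yh13 zh18) (kh xh5 yh0 zh43) (kh xh6 yh4 zh15) (kh xh5 yh0 zh45) (kh xh6 yh4 zh17) (kh xh7 yh13 zh21) (kh xh5 yh0 zh48) (kh xh5 yh0 zh49) (kh xh5 yh2 zh49) (kh xh6 yh4 zh22) (kh xh5 yh2 zh50) (kh xh5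 yh20 zh50) (kh xh6 yh4 zh25) (kh xh7 yh13 zh31) (kh xh7 yh13 zh33) (kh xh5 yh1 zh4) (kh xh5 yh1 zh43) (kh xh7 yh13 zh37) (kh xh5 yh1 zh6) (kh xh7 yh13 zh40) (kh xh5 yh1 zh7) (kh xh6 yh4 zh34) (kh xh5 yh1 zh50) (kh xh7 yh13 zh45) (kh xh7 yh13 zh47) (kh xh7 yh13 zh48) (kh xh5 yh1 zh11) (kh xh5 yh2 zh5) (kh xh5 yh1 zh13) (kh xh5 yh2 zh7) (kh xh7 yh14 zh2) (kh xh5 yh1 zh16) (kh xh7 yh14 zh6) (kh xh7 yh14 zh7) (kh xh5 yh1 zh17) (kh xh7 yh14 zh3) (kh xh5 yh2 zh14) (kh xh5 yh1 zh19)) (@D3.rec (fun _ => Pt) (kh xh6 yh5 zh0) (kh xh5 yh2 zh17) (kh xh6 yh5 zh2) (kh xh7 yh14 zh19) (kh xh6 yh5 zh4) (kh xh7 yh14 zh22) (kh xh5 yh1 zh24) (kh xh7 yh14 zh24) (kh xh5 yh1 zh25) (kh xh5 yh1 zh26) (kh xh5 yh3 zh9) (kh xh5 yh2 zh27) (kh xh5 yh3 zh10) (kh xh5 yh14 zh10) (kh xh5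 yh2 zh30) (kh xh7 yh14 zh33) (kh xh5 yh1 zh32) (kh xh5 yh3 zh13) (kh xh5 yh2 zh34) (kh xh5 yh3 zh15) (kh xh5 yh2 zh36) (kh xh5 yh3 zh17) (kh xh7 yh14 zh43) (kh xh5 yh3 zh19) (kh xh7 yh14 zh46) (kh xh5 yh1 zh38) (kh xh7 yh14 zh48) (kh xh7 yh15 zh0) (kh xh5 yh1 zh40) (kh xh7 yh15 zh3) (kh xh5 yh1 zh41) (kh xh7 yh13 zh34) (kh xh7 yh15 zh7) (kh xh5 yh1 zh44) (kh xh7 yh15 zh11) (kh xh7 yh15 zh12) (kh xh5 yh1 zh45) (kh xh7 yh15 zh8) (kh xh7 yh13 zh39) (kh xh5 yh1 zh47) (kh xh6 yh5 zh40) (kh xh7 yh13 zh42) (kh xh6 yh5 zh42) (kh xh7 yh15 zh23) (kh xh5 yh2 zh0) (kh xh7 yh15 zh25) (kh xh5 yh2 zh1) (kh xh5 yh2 zh2) (kh xh5 yh3 zh29) (kh xh7 yh13 zh49) (kh xh5 yh3 zh30)) (@D3.rec (fun _ => Pt) (kh xh5 yh14 zh25) (kh xh7 yh13 zh50) (kh xh7 yh15 zh36) (kh xh7 yh15 zh37)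 (kh xh5 yh2 zh8) (kh xh5 yh2 zh13) (kh xh7 yh14 zh4) (kh xh7 yh15 zh44) (kh xh5 yh2 zh10) (kh xh5 yh2 zh11) (kh xh7 yh15 zh38) (kh xh7 yh14 zh9) (kh xh7 yh15 zh40) (kh xh7 yh15 zh41) (kh xh7 yh16 zh6) (kh xh6 yh6 zh15) (kh xh7 yh14 zh14) (kh xh6 yh6 zh17) (kh xh7 yh16 zh11) (kh xh6 yh6 zh19) (kh xh7 yh16 zh14) (kh xh5 yh2 zh19) (kh xh6 yh6 zh22) (kh xh7 yh16 zh17) (kh xh5 yh2 zh21) (kh xh7 yh16 zh18) (kh xh5 yh2 zh23) (kh xh5 yh3 zh43) (kh xh7 yh14 zh26) (kh xh5 yh3 zh45) (kh xh7 yh14 zh28) (kh xh5 yh3 zh47) (kh xh7 yh16 zh28) (kh xh5 yh3 zh49) (kh xh7 yh16 zh31) (kh xh5 yh2 zh29) (kh xh5 yh2 zh31) (kh xh5 yh4 zh2) (kh xh7 yh14 zh35) (kh xh5 yh4 zh4) (kh xh5 yh4 zh5) (kh xh7 yh16 zh41) (kh xh5 yh4 zh7) (kh xh7 yh16 zh44) (kh xh5 yh4 zh9) (kh xh7 yh16 zh47)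 (kh xh5 yh2 zh38) (kh xh5 yh4 zh12) (kh xh7 yh16 zh49) (kh xh5 yh2 zh40) (kh xh7 yh13 zh22)) (@D3.rec (fun _ => Pt) (kh xh7 yh13 zh24) (kh xh7 yh13 zh26) (kh xh7 yh13 zh28) (kh xh5 yh13 zh37) (kh xh7 yh17 zh4) (kh xh7 yh17 zh5) (kh xh5 yh3 zh2) (kh xh5 yh3 zh35) (kh xh5 yh13 zh32) (kh xh7 yh17 zh8) (kh xh5 yh3 zh6) (kh xh7 yh14 zh25) (kh xh7 yh14 zh27) (kh xh7 yh14 zh29) (kh xh7 yh14 zh31) (kh xh5 yh3 zh11) (kh xh7 yh14 zh34) (kh xh5 yh4 zh3) (kh xh7 yh14 zh36) (kh xh7 yh14 zh37) (kh xh7 yh17 zh20) (kh xh7 yh14 zh39) (kh xh7 yh17 zh21) (kh xh7 yh14 zh41) (kh xh7 yh17 zh23) (kh xh5 yh3 zh18) (kh xh7 yh14 zh44) (kh xh7 yh17 zh25) (kh xh5 yh3 zh20) (kh xh7 yh17 zh29) (kh xh7 yh17 zh30) (kh xh5 yh3 zh22) (kh xh5 yh12 zh4) (kh xh5 yh14 zh34) (kh xh7 yh17 zh33)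 (kh xh5 yh3 zh26) (kh xh7 yh15 zh26) (kh xh7 yh15 zh28) (kh xh7 yh15 zh30) (kh xh7 yh15 zh32) (kh xh7 yh17 zh41) (kh xh7 yh17 zh43) (kh xh5 yh3 zh31) (kh xh5 yh3 zh32) (kh xh5 yh3 zh39) (kh xh7 yh17 zh6) (kh xh5 yh3 zh40) (kh xh5 yh12 zh35) (kh xh7 yh18 zh1) (kh xh5 yh3 zh36) (kh xh7 yh17 zh44)) (@D3.rec (fun _ => Pt) (kh xh7 yh17 zh46) (kh xh7 yh17 zh48) (kh xh7 yh17 zh50) (kh xh5 yh3 zh41) (kh xh7 yh16 zh19) (kh xh5 yh14 zh11) (kh xh7 yh16 zh21) (kh xh7 yh16 zh22) (kh xh7 yh18 zh17) (kh xh7 yh16 zh24) (kh xh7 yh18 zh20) (kh xh7 yh16 zh26) (kh xh7 yh18 zh23) (kh xh5 yh3 zh48) (kh xh7 yh16 zh29) (kh xh7 yh18 zh25) (kh xh5 yh3 zh50) (kh xh7 yh16 zh32) (kh xh7 yh17 zh15) (kh xh7 yh16 zh34) (kh xh7 yh16 zh35) (kh xh7 yh18 zh31) (kh xh7 yh16 zh37) (kh xh7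 yh16 zh38) (kh xh7 yh18 zh35) (kh xh7 yh18 zh36) (kh xh5 yh4 zh6) (kh xh7 yh16 zh42) (kh xh7 yh18 zh39) (kh xh5 yh4 zh8) (kh xh7 yh16 zh45) (kh xh7 yh18 zh41) (kh xh5 yh4 zh10) (kh xh7 yh18 zh43) (kh xh5 yh4 zh13) (kh xh6 yh8 zh35) (kh xh7 yh2 zh30) (kh xh7 yh2 zh28) (kh xh5 yh4 zh20) (kh xh7 yh2 zh39) (kh xh5 yh4 zh24) (kh xh7 yh2 zh40) (kh xh5 yh4 zh36) (kh xh7 yh2 zh38) (kh xh7 yh2 zh37) (kh xh7 yh18 zh48) (kh xh5 yh4 zh33) (kh xh5 yh4 zh34) (kh xh7 yh2 zh33) (kh xh7 yh2 zh35) (kh xh5 yh4 zh37)) (@D3.rec (fun _ => Pt) (kh xh5 yh6 zh2) (kh xh7 yh19 zh1) (kh xh7 yh3 zh5) (kh xh5 yh4 zh42) (kh xh7 yh3 zh7) (kh xh5 yh4 zh44) (kh xh5 yh5 zh10) (kh xh7 yh3 zh10) (kh xh5 yh5 zh15) (kh xh7 yh3 zh4) (kh xh7 yh4 zh46) (kh xh7 yh3 zh2) (kh xh7 yh19 zh7) (kh xh7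 yh19 zh8) (kh xh5 yh5 zh6) (kh xh5 yh6 zh49) (kh xh7 yh19 zh3) (kh xh5 yh5 zh8) (kh xh7 yh2 zh46) (kh xh7 yh19 zh13) (kh xh5 yh5 zh11) (kh xh5 yh5 zh12) (kh xh5 yh7 zh5) (kh xh7 yh2 zh49) (kh xh5 yh7 zh7) (kh xh7 yh19 zh19) (kh xh6 yh9 zh26) (kh xh7 yh19 zh22) (kh xh7 yh19 zh23) (kh xh5 yh5 zh20) (kh xh5 yh5 zh44) (kh xh7 yh4 zh0) (kh xh5 yh5 zh22) (kh xh7 yh1 zh41) (kh xh5 yh5 zh23) (kh xh5 yh5 zh49) (kh xh5 yh6 zh3) (kh xh5 yh6 zh5) (kh xh7 yh19 zh28) (kh xh5 yh5 zh32) (kh xh7 yh19 zh30) (kh xh7 yh19 zh31) (kh xh5 yh5 zh33) (kh xh5 yh8 zh37) (kh xh5 yh9 zh29) (kh xh7 yh19 zh36) (kh xh5 yh5 zh35) (kh xh7 yh19 zh39) (kh xh5 yh5 zh36) (kh xh5 yh15 zh25) (kh xh7 yh19 zh41)) (@D3.rec (fun _ => Pt) (kh xh7 yh19 zh43) (kh xh5 yh5 zh40) (kh xh5 yh5 zh41) (kh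 xh5 yh18 zh38) (kh xh7 yh19 zh24) (kh xh5 yh18 zh39) (kh xh7 yh19 zh29) (kh xh7 yh20 zh0) (kh xh7 yh20 zh1) (kh xh5 yh5 zh45) (kh xh7 yh18 zh49) (kh xh7 yh19 zh25) (kh xh5 yh5 zh47) (kh xh7 yh19 zh26) (kh xh5 yh5 zh50) (kh xh5 yh6 zh0) (kh xh7 yh3 zh22) (kh xh7 yh4 zh4) (kh xh5 yh9 zh4) (kh xh7 yh20 zh7) (kh xh7 yh1 zh45) (kh xh6 yh10 zh21) (kh xh6 yh10 zh22) (kh xh7 yh20 zh13) (kh xh7 yh20 zh16) (kh xh5 yh6 zh9) (kh xh7 yh20 zh19) (kh xh5 yh6 zh10) (kh xh5 yh6 zh43) (kh xh7 yh20 zh22) (kh xh7 yh5 zh16) (kh xh5 yh6 zh13) (kh xh7 yh3 zh49) (kh xh5 yh6 zh50) (kh xh5 yh6 zh15) (kh xh5 yh7 zh1) (kh xh7 yh5 zh23) (kh xh5 yh6 zh18) (kh xh5 yh7 zh6) (kh xh7 yh20 zh28) (kh xh5 yh7 zh9) (kh xh7 yh20 zh31) (kh xh7 yh20 zh32) (kh xh5 yh6 zh25) (kh xh5 yh6 zh45) (kh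 xh7 yh5 zh18) (kh xh7 yh20 zh35) (kh xh5 yh6 zh27) (kh xh7 yh20 zh38) (kh xh5 yh6 zh28) (kh xh5 yh9 zh45)) (@D3.rec (fun _ => Pt) (kh xh5 yh11 zh2) (kh xh5 yh10 zh11) (kh xh7 yh20 zh44) (kh xh7 yh20 zh45) (kh xh5 yh6 zh32) (kh xh7 yh3 zh3) (kh xh5 yh16 zh20) (kh xh5 yh6 zh34) (kh xh5 yh16 zh18) (kh xh7 yh21 zh0) (kh xh5 yh6 zh37) (kh xh7 yh21 zh4) (kh xh7 yh21 zh5) (kh xh5 yh6 zh38) (kh xh7 yh21 zh1) (kh xh7 yh20 zh18) (kh xh5 yh6 zh40) (kh xh5 yh18 zh50) (kh xh7 yh20 zh20) (kh xh5 yh19 zh0) (kh xh7 yh20 zh33) (kh xh5 yh19 zh1) (kh xh7 yh4 zh33) (kh xh7 yh21 zh19) (kh xh5 yh6 zh46) (kh xh5 yh6 zh47) (kh xh7 yh19 zh9) (kh xh7 yh20 zh23) (kh xh7 yh4 zh34) (kh xh7 yh21 zh28) (kh xh7 yh20 zh26) (kh xh7 yh21 zh29) (kh xh5 yh7 zh2) (kh xh7 yh19 zh14) (kh xh7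 yh20 zh27) (kh xh7 yh19 zh15) (kh xh7 yh5 zh26) (kh xh7 yh19 zh16) (kh xh7 yh21 zh39) (kh xh7 yh19 zh18) (kh xh7 yh21 zh42) (kh xh5 yh7 zh8) (kh xh6 yh11 zh42) (kh xh6 yh11 zh43) (kh xh6 yh11 zh44) (kh xh7 yh21 zh47) (kh xh6 yh11 zh46) (kh xh7 yh21 zh50) (kh xh5 yh7 zh15) (kh xh7 yh22 zh3) (kh xh7 yh22 zh4)) (@D3.rec (fun _ => Pt) (kh xh5 yh7 zh16) (kh xh7 yh22 zh0) (kh xh5 yh8 zh10) (kh xh5 yh7 zh18) (kh xh5 yh8 zh13) (kh xh7 yh22 zh11) (kh xh5 yh7 zh21) (kh xh5 yh7 zh22) (kh xh6 yh12 zh8) (kh xh5 yh8 zh22) (kh xh6 yh12 zh10) (kh xh7 yh22 zh20) (kh xh5 yh8 zh25) (kh xh7 yh21 zh33) (kh xh5 yh7 zh28) (kh xh6 yh12 zh15) (kh xh5 yh8 zh29) (kh xh6 yh12 zh17) (kh xh5 yh8 zh31) (kh xh6 yh12 zh19) (kh xh7 yh22 zh28) (kh xh6 yh12 zh21) (kh xh7 yh22 zh31) (kh xh5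 yh7 zh34) (kh xh7 yh22 zh33) (kh xh7 yh22 zh36) (kh xh5 yh7 zh36) (kh xh7 yh22 zh39) (kh xh5 yh7 zh37) (kh xh5 yh8 zh15) (kh xh7 yh22 zh43) (kh xh5 yh7 zh40) (kh xh7 yh22 zh47) (kh xh7 yh22 zh48) (kh xh5 yh7 zh41) (kh xh7 yh22 zh44) (kh xh5 yh13 zh4) (kh xh5 yh7 zh43) (kh xh5 yh11 zh25) (kh xh5 yh13 zh2) (kh xh5 yh11 zh24) (kh xh5 yh11 zh48) (kh xh7 yh23 zh9) (kh xh5 yh7 zh48) (kh xh5 yh7 zh49) (kh xh6 yh12 zh45) (kh xh5 yh17 zh30) (kh xh6 yh12 zh47) (kh xh7 yh23 zh18) (kh xh5 yh17 zh28) (kh xh7 yh23 zh21)) (@D3.rec (fun _ => Pt) (kh xh7 yh23 zh22) (kh xh5 yh8 zh4) (kh xh5 yh8 zh9) (kh xh7 yh22 zh1) (kh xh7 yh23 zh29) (kh xh5 yh8 zh6) (kh xh5 yh8 zh7) (kh xh7 yh23 zh23) (kh xh7 yh22 zh6) (kh xh7 yh23 zh25) (kh xh7 yh23 zh26) (kh xh7 yh23 zh42) (kh xh5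 yh19 zh23) (kh xh7 yh22 zh9) (kh xh5 yh19 zh24) (kh xh7 yh22 zh40) (kh xh5 yh19 zh25) (kh xh7 yh22 zh38) (kh xh5 yh19 zh26) (kh xh7 yh6 zh17) (kh xh7 yh24 zh0) (kh xh5 yh8 zh18) (kh xh6 yh13 zh22) (kh xh7 yh22 zh13) (kh xh6 yh13 zh24) (kh xh7 yh22 zh15) (kh xh6 yh13 zh26) (kh xh7 yh24 zh10) (kh xh6 yh13 zh28) (kh xh7 yh24 zh13) (kh xh5 yh8 zh24) (kh xh5 yh8 zh26) (kh xh6 yh13 zh32) (kh xh7 yh22 zh21) (kh xh6 yh13 zh34) (kh xh6 yh13 zh35) (kh xh7 yh24 zh23) (kh xh6 yh13 zh37) (kh xh7 yh24 zh26) (kh xh6 yh13 zh39) (kh xh7 yh24 zh29) (kh xh5 yh8 zh33) (kh xh6 yh13 zh42) (kh xh7 yh24 zh31) (kh xh5 yh8 zh35) (kh xh7 yh19 zh32) (kh xh7 yh24 zh36) (kh xh7 yh24 zh37) (kh xh5 yh8 zh38) (kh xh5 yh9 zh15) (kh xh7 yh24 zh41)) (@D3.rec (fun _ => Pt) (kh xh5 yh8 zh40)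 (kh xh7 yh24 zh44) (kh xh5 yh8 zh41) (kh xh5 yh9 zh20) (kh xh7 yh24 zh46) (kh xh7 yh24 zh48) (kh xh5 yh8 zh45) (kh xh7 yh25 zh0) (kh xh5 yh8 zh46) (kh xh5 yh9 zh11) (kh xh5 yh9 zh27) (kh xh7 yh19 zh34) (kh xh7 yh20 zh10) (kh xh7 yh5 zh27) (kh xh5 yh8 zh50) (kh xh6 yh14 zh15) (kh xh5 yh9 zh34) (kh xh5 yh9 zh1) (kh xh5 yh9 zh36) (kh xh5 yh9 zh41) (kh xh7 yh25 zh9) (kh xh5 yh9 zh44) (kh xh7 yh25 zh3) (kh xh7 yh25 zh1) (kh xh7 yh25 zh10) (kh xh7 yh25 zh13) (kh xh5 yh9 zh12) (kh xh7 yh25 zh16) (kh xh5 yh9 zh13) (kh xh7 yh24 zh38) (kh xh7 yh25 zh19) (kh xh7 yh25 zh20) (kh xh5 yh9 zh16) (kh xh6 yh14 zh33) (kh xh7 yh24 zh43) (kh xh5 yh9 zh18) (kh xh7 yh24 zh45) (kh xh7 yh19 zh47) (kh xh5 yh9 zh21) (kh xh7 yh25 zh30) (kh xh7 yh25 zh31) (kh xh5 yh9 zh22) (kh xh7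 yh25 zh27) (kh xh7 yh24 zh50) (kh xh5 yh9 zh24) (kh xh5 yh18 zh37) (kh xh7 yh25 zh2) (kh xh5 yh19 zh33) (kh xh7 yh19 zh33) (kh xh5 yh19 zh34) (kh xh7 yh3 zh35)) (@D3.rec (fun _ => Pt) (kh xh7 yh25 zh44) (kh xh5 yh9 zh30) (kh xh5 yh9 zh31) (kh xh6 yh15 zh3) (kh xh7 yh25 zh5) (kh xh6 yh15 zh5) (kh xh7 yh26 zh2) (kh xh7 yh25 zh8) (kh xh7 yh26 zh3) (kh xh5 yh9 zh37) (kh xh6 yh15 zh10) (kh xh7 yh20 zh11) (kh xh6 yh15 zh12) (kh xh7 yh5 zh28) (kh xh6 yh15 zh14) (kh xh7 yh26 zh11) (kh xh6 yh15 zh16) (kh xh7 yh26 zh14) (kh xh5 yh9 zh43) (kh xh7 yh20 zh41) (kh xh7 yh20 zh39) (kh xh7 yh26 zh17) (kh xh7 yh26 zh20) (kh xh5 yh9 zh46) (kh xh7 yh26 zh23) (kh xh5 yh9 zh47) (kh xh5 yh10 zh34) (kh xh7 yh26 zh26) (kh xh7 yh26 zh27) (kh xh5 yh9 zh50) (kh xh6 yh15 zh30) (kh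 xh5 yh10 zh39) (kh xh5 yh10 zh1) (kh xh5 yh10 zh41) (kh xh7 yh26 zh34) (kh xh5 yh10 zh4) (kh xh7 yh26 zh38) (kh xh7 yh26 zh39) (kh xh5 yh10 zh5) (kh xh7 yh26 zh35) (kh xh5 yh10 zh48) (kh xh5 yh10 zh7) (kh xh5 yh10 zh28) (kh xh5 yh11 zh0) (kh xh5 yh10 zh27) (kh xh7 yh20 zh42) (kh xh8 yh0 zh0) (kh xh5 yh10 zh12) (kh xh5 yh10 zh13) (kh xh6 yh15 zh49) (kh xh5 yh11 zh9)) (@D3.rec (fun _ => Pt) (kh xh6 yh16 zh0) (kh xh8 yh0 zh8) (kh xh5 yh11 zh12) (kh xh7 yh21 zh32) (kh xh5 yh10 zh19) (kh xh6 yh16 zh5) (kh xh5 yh11 zh16) (kh xh5 yh11 zh18) (kh xh8 yh0 zh12) (kh xh6 yh16 zh9) (kh xh8 yh0 zh15) (kh xh5 yh10 zh25) (kh xh8 yh0 zh16) (kh xh7 yh26 zh47) (kh xh7 yh26 zh45) (kh xh8 yh0 zh19) (kh xh5 yh10 zh29) (kh xh8 yh0 zh23) (kh xh8 yh0 zh24) (kh xh5 yh10 zh30) (kh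 xh8 yh0 zh20) (kh xh7 yh26 zh22) (kh xh5 yh10 zh32) (kh xh7 yh26 zh24) (kh xh8 yh0 zh31) (kh xh5 yh10 zh35) (kh xh5 yh10 zh36) (kh xh6 yh16 zh27) (kh xh7 yh26 zh29) (kh xh6 yh16 zh29) (kh xh8 yh0 zh40) (kh xh7 yh26 zh32) (kh xh8 yh0 zh43) (kh xh7 yh21 zh12) (kh xh5 yh10 zh42) (kh xh5 yh10 zh47) (kh xh7 yh26 zh36) (kh xh8 yh0 zh50) (kh xh5 yh10 zh44) (kh xh5 yh10 zh45) (kh xh8 yh0 zh44) (kh xh7 yh26 zh41) (kh xh8 yh0 zh46) (kh xh8 yh0 zh47) (kh xh8 yh1 zh12) (kh xh5 yh18 zh48) (kh xh7 yh26 zh46) (kh xh5 yh19 zh47) (kh xh7 yh20 zh40) (kh xh5 yh19 zh48) (kh xh7 yh20 zh37)) (@D3.rec (fun _ => Pt) (kh xh5 yh19 zh49) (kh xh7 yh4 zh40) (kh xh8 yh1 zh20) (kh xh5 yh11 zh5) (kh xh6 yh17 zh4) (kh xh8 yh0 zh2) (kh xh6 yh17 zh6) (kh xh8 yh0 zh3) (kh xh6 yh17 zh8) (kh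 xh8 yh1 zh30) (kh xh6 yh17 zh10) (kh xh8 yh1 zh33) (kh xh5 yh11 zh11) (kh xh5 yh11 zh13) (kh xh6 yh17 zh14) (kh xh8 yh0 zh9) (kh xh6 yh17 zh16) (kh xh6 yh17 zh17) (kh xh8 yh1 zh43) (kh xh6 yh17 zh19) (kh xh8 yh1 zh46) (kh xh6 yh17 zh21) (kh xh8 yh1 zh49) (kh xh5 yh11 zh20) (kh xh6 yh17 zh24) (kh xh8 yh2 zh0) (kh xh5 yh11 zh22) (kh xh7 yh23 zh5) (kh xh7 yh23 zh3) (kh xh8 yh2 zh5) (kh xh8 yh2 zh6) (kh xh5 yh11 zh26) (kh xh7 yh14 zh10) (kh xh5 yh12 zh26) (kh xh5 yh11 zh28) (kh xh5 yh12 zh28) (kh xh8 yh2 zh12) (kh xh5 yh11 zh31) (kh xh5 yh11 zh32) (kh xh5 yh12 zh33) (kh xh5 yh12 zh36) (kh xh8 yh2 zh17) (kh xh8 yh2 zh18) (kh xh5 yh11 zh37) (kh xh5 yh11 zh42) (kh xh5 yh12 zh41) (kh xh8 yh2 zh24) (kh xh5 yh11 zh39) (kh xh5 yh11 zh40) (kh xh8 yh2 zh19) (kh xh5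 yh12 zh46)) (@D3.rec (fun _ => Pt) (kh xh7 yh13 zh38) (kh xh8 yh2 zh21) (kh xh8 yh2 zh36) (kh xh5 yh12 zh19) (kh xh5 yh13 zh0) (kh xh5 yh12 zh18) (kh xh7 yh23 zh6) (kh xh7 yh23 zh7) (kh xh8 yh2 zh41) (kh xh5 yh11 zh49) (kh xh5 yh13 zh40) (kh xh5 yh13 zh10) (kh xh5 yh13 zh41) (kh xh5 yh13 zh12) (kh xh5 yh13 zh42) (kh xh7 yh17 zh31) (kh xh5 yh13 zh43) (kh xh7 yh15 zh9) (kh xh5 yh12 zh6) (kh xh5 yh13 zh45) (kh xh5 yh13 zh20) (kh xh5 yh13 zh47) (kh xh5 yh13 zh48) (kh xh8 yh3 zh11) (kh xh5 yh13 zh50) (kh xh8 yh3 zh14) (kh xh5 yh14 zh1) (kh xh8 yh3 zh17) (kh xh5 yh12 zh13) (kh xh5 yh14 zh4) (kh xh8 yh3 zh19) (kh xh5 yh12 zh15) (kh xh8 yh3 zh23) (kh xh5 yh12 zh17) (kh xh8 yh2 zh39) (kh xh8 yh2 zh37) (kh xh8 yh3 zh28) (kh xh8 yh3 zh29) (kh xh5 yh12 zh20) (kh xh5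 yh12 zh25) (kh xh7 yh14 zh32) (kh xh8 yh3 zh34) (kh xh5 yh12 zh22) (kh xh5 yh12 zh23) (kh xh8 yh3 zh30) (kh xh8 yh2 zh8) (kh xh7 yh18 zh26) (kh xh8 yh3 zh43) (kh xh8 yh2 zh10) (kh xh8 yh3 zh44) (kh xh5 yh12 zh29)) (@D3.rec (fun _ => Pt) (kh xh5 yh14 zh14) (kh xh8 yh2 zh13) (kh xh5 yh14 zh15) (kh xh8 yh2 zh14) (kh xh5 yh14 zh16) (kh xh7 yh17 zh49) (kh xh5 yh14 zh17) (kh xh7 yh18 zh0) (kh xh8 yh4 zh6) (kh xh8 yh4 zh8) (kh xh5 yh12 zh37) (kh xh5 yh12 zh38) (kh xh5 yh12 zh45) (kh xh8 yh2 zh20) (kh xh5 yh12 zh47) (kh xh5 yh12 zh48) (kh xh8 yh4 zh21) (kh xh8 yh4 zh22) (kh xh5 yh12 zh42) (kh xh8 yh4 zh9) (kh xh8 yh2 zh26) (kh xh8 yh4 zh11) (kh xh8 yh2 zh28) (kh xh8 yh4 zh13) (kh xh8 yh4 zh14) (kh xh8 yh4 zh36) (kh xh8 yh4 zh16) (kh xh8 yh4 zh17) (kh xh8 yh4 zh42)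 (kh xh8 yh4 zh19) (kh xh8 yh4 zh45) (kh xh5 yh12 zh49) (kh xh5 yh20 zh24) (kh xh7 yh23 zh4) (kh xh5 yh20 zh25) (kh xh7 yh22 zh50) (kh xh5 yh20 zh26) (kh xh7 yh6 zh26) (kh xh5 yh20 zh27) (kh xh7 yh6 zh29) (kh xh5 yh13 zh7) (kh xh5 yh14 zh33) (kh xh8 yh2 zh43) (kh xh5 yh14 zh35) (kh xh5 yh14 zh36) (kh xh8 yh5 zh11) (kh xh5 yh14 zh38) (kh xh8 yh5 zh14) (kh xh5 yh14 zh40) (kh xh8 yh5 zh17) (kh xh5 yh13 zh14)) (@D3.rec (fun _ => Pt) (kh xh5 yh14 zh43) (kh xh8 yh5 zh19) (kh xh5 yh13 zh16) (kh xh5 yh14 zh46) (kh xh8 yh3 zh3) (kh xh5 yh14 zh48) (kh xh5 yh14 zh49) (kh xh8 yh5 zh25) (kh xh5 yh15 zh0) (kh xh5 yh14 zh50) (kh xh8 yh5 zh24) (kh xh8 yh5 zh23) (kh xh5 yh13 zh23) (kh xh5 yh15 zh2) (kh xh5 yh18 zh2) (kh xh5 yh13 zh25) (kh xh5 yh15 zh4) (kh xh8 yh5 zh33)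 (kh xh5 yh13 zh27) (kh xh8 yh5 zh35) (kh xh5 yh13 zh30) (kh xh7 yh24 zh32) (kh xh7 yh17 zh7) (kh xh8 yh5 zh39) (kh xh8 yh5 zh41) (kh xh5 yh13 zh33) (kh xh5 yh13 zh34) (kh xh5 yh14 zh23) (kh xh7 yh17 zh1) (kh xh5 yh13 zh38) (kh xh8 yh2 zh42) (kh xh8 yh2 zh44) (kh xh8 yh2 zh45) (kh xh8 yh2 zh47) (kh xh8 yh2 zh49) (kh xh8 yh3 zh0) (kh xh8 yh3 zh2) (kh xh5 yh14 zh47) (kh xh8 yh3 zh4) (kh xh8 yh3 zh5) (kh xh8 yh5 zh29) (kh xh8 yh3 zh7) (kh xh8 yh3 zh8) (kh xh8 yh6 zh7) (kh xh8 yh6 zh8) (kh xh5 yh13 zh49) (kh xh8 yh3 zh12) (kh xh8 yh6 zh11) (kh xh5 yh14 zh0) (kh xh8 yh3 zh15) (kh xh8 yh6 zh13)) (@D3.rec (fun _ => Pt) (kh xh5 yh14 zh2) (kh xh8 yh6 zh15) (kh xh5 yh14 zh5) (kh xh6 yh21 zh3) (kh xh8 yh6 zh18) (kh xh8 yh6 zh19) (kh xh5 yh14 zh7) (kh xh5 yh14 zh8)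 (kh xh7 yh14 zh30) (kh xh7 yh18 zh9) (kh xh5 yh14 zh12) (kh xh8 yh3 zh45) (kh xh8 yh3 zh47) (kh xh8 yh3 zh48) (kh xh8 yh3 zh50) (kh xh8 yh4 zh1) (kh xh8 yh4 zh3) (kh xh8 yh6 zh29) (kh xh5 yh14 zh18) (kh xh8 yh6 zh32) (kh xh5 yh14 zh19) (kh xh5 yh14 zh28) (kh xh8 yh5 zh42) (kh xh5 yh14 zh29) (kh xh8 yh5 zh43) (kh xh5 yh14 zh30) (kh xh7 yh15 zh31) (kh xh5 yh14 zh31) (kh xh7 yh15 zh33) (kh xh5 yh14 zh26) (kh xh8 yh6 zh33) (kh xh8 yh6 zh35) (kh xh8 yh6 zh36) (kh xh8 yh6 zh38) (kh xh8 yh6 zh40) (kh xh8 yh6 zh42) (kh xh8 yh5 zh2) (kh xh7 yh17 zh32) (kh xh8 yh5 zh4) (kh xh8 yh5 zh5) (kh xh8 yh5 zh27) (kh xh8 yh5 zh7) (kh xh8 yh5 zh8) (kh xh8 yh7 zh6) (kh xh8 yh5 zh22) (kh xh5 yh14 zh37) (kh xh8 yh5 zh12) (kh xh8 yh7 zh8) (kh xh5 yh14 zh39) (kh xh8 yh5 zh15) (kh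 xh8 yh7 zh10)) (@D3.rec (fun _ => Pt) (kh xh5 yh14 zh41) (kh xh8 yh7 zh12) (kh xh5 yh14 zh44) (kh xh7 yh15 zh15) (kh xh8 yh5 zh26) (kh xh8 yh5 zh30) (kh xh8 yh7 zh15) (kh xh5 yh15 zh5) (kh xh6 yh22 zh8) (kh xh5 yh15 zh7) (kh xh6 yh22 zh10) (kh xh6 yh22 zh11) (kh xh6 yh22 zh12) (kh xh6 yh22 zh13) (kh xh6 yh22 zh14) (kh xh6 yh22 zh15) (kh xh6 yh22 zh16) (kh xh8 yh7 zh19) (kh xh6 yh22 zh18) (kh xh6 yh22 zh19) (kh xh7 yh3 zh32) (kh xh7 yh3 zh36) (kh xh8 yh7 zh25) (kh xh5 yh18 zh32) (kh xh6 yh22 zh24) (kh xh5 yh21 zh14) (kh xh7 yh19 zh40) (kh xh5 yh21 zh15) (kh xh7 yh19 zh38) (kh xh5 yh21 zh16) (kh xh7 yh3 zh38) (kh xh6 yh22 zh31) (kh xh6 yh22 zh32) (kh xh6 yh22 zh33) (kh xh6 yh22 zh34) (kh xh6 yh22 zh35) (kh xh8 yh7 zh36) (kh xh6 yh22 zh37) (kh xh8 yh7 zh39)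 (kh xh5 yh15 zh33) (kh xh6 yh22 zh40) (kh xh6 yh22 zh41) (kh xh6 yh22 zh42) (kh xh6 yh22 zh43) (kh xh8 yh7 zh47) (kh xh6 yh22 zh45) (kh xh8 yh7 zh50) (kh xh6 yh22 zh47) (kh xh8 yh8 zh2) (kh xh5 yh15 zh41) (kh xh6 yh22 zh50)) (@D3.rec (fun _ => Pt) (kh xh8 yh8 zh4) (kh xh5 yh15 zh43) (kh xh6 yh23 zh2) (kh xh7 yh3 zh42) (kh xh8 yh8 zh7) (kh xh6 yh23 zh5) (kh xh6 yh23 zh6) (kh xh6 yh23 zh7) (kh xh6 yh23 zh8) (kh xh6 yh23 zh9) (kh xh6 yh23 zh10) (kh xh8 yh8 zh12) (kh xh6 yh23 zh12) (kh xh8 yh8 zh15) (kh xh5 yh16 zh4) (kh xh5 yh16 zh12) (kh xh5 yh16 zh13) (kh xh8 yh7 zh30) (kh xh6 yh23 zh18) (kh xh6 yh23 zh19) (kh xh7 yh4 zh37) (kh xh7 yh4 zh44) (kh xh8 yh8 zh26) (kh xh8 yh8 zh16) (kh xh8 yh8 zh17) (kh xh8 yh8 zh32) (kh xh8 yh8 zh19) (kh xh8 yh8 zh35) (kh xh5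 yh16 zh14) (kh xh5 yh21 zh26) (kh xh7 yh20 zh49) (kh xh5 yh21 zh27) (kh xh7 yh20 zh47) (kh xh5 yh21 zh28) (kh xh7 yh4 zh47) (kh xh5 yh21 zh29) (kh xh7 yh4 zh48) (kh xh6 yh23 zh37) (kh xh6 yh23 zh38) (kh xh6 yh23 zh39) (kh xh6 yh23 zh40) (kh xh8 yh8 zh47) (kh xh6 yh23 zh42) (kh xh8 yh8 zh50) (kh xh6 yh23 zh44) (kh xh8 yh9 zh2) (kh xh5 yh16 zh29) (kh xh6 yh23 zh47) (kh xh8 yh9 zh4) (kh xh5 yh16 zh31) (kh xh6 yh23 zh50)) (@D3.rec (fun _ => Pt) (kh xh6 yh24 zh0) (kh xh8 yh9 zh8) (kh xh6 yh24 zh2) (kh xh6 yh24 zh3) (kh xh8 yh9 zh13) (kh xh8 yh9 zh14) (kh xh5 yh16 zh38) (kh xh6 yh24 zh7) (kh xh8 yh9 zh17) (kh xh5 yh16 zh40) (kh xh6 yh24 zh10) (kh xh8 yh9 zh19) (kh xh5 yh16 zh42) (kh xh8 yh9 zh21) (kh xh5 yh16 zh45) (kh xh6 yh24 zh15) (kh xh6 yh24 zh16) (kh xh6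 yh24 zh17) (kh xh6 yh24 zh18) (kh xh6 yh24 zh19) (kh xh6 yh24 zh20) (kh xh8 yh9 zh30) (kh xh6 yh24 zh22) (kh xh8 yh9 zh33) (kh xh5 yh17 zh1) (kh xh5 yh18 zh9) (kh xh6 yh24 zh26) (kh xh5 yh18 zh10) (kh xh5 yh18 zh11) (kh xh8 yh9 zh40) (kh xh5 yh18 zh13) (kh xh8 yh9 zh43) (kh xh5 yh18 zh15) (kh xh8 yh9 zh46) (kh xh5 yh17 zh9) (kh xh5 yh18 zh18) (kh xh8 yh9 zh48) (kh xh5 yh17 zh11) (kh xh6 yh24 zh38) (kh xh6 yh24 zh39) (kh xh6 yh24 zh40) (kh xh6 yh24 zh41) (kh xh8 yh10 zh6) (kh xh6 yh24 zh43) (kh xh6 yh24 zh44) (kh xh8 yh10 zh12) (kh xh6 yh24 zh46) (kh xh6 yh24 zh47) (kh xh8 yh10 zh18) (kh xh6 yh24 zh49) (kh xh8 yh10 zh21)) (@D3.rec (fun _ => Pt) (kh xh5 yh17 zh20) (kh xh6 yh25 zh1) (kh xh6 yh25 zh2) (kh xh8 yh10 zh26) (kh xh6 yh25 zh4) (kh xh8 yh10 zh29)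 (kh xh5 yh17 zh23) (kh xh6 yh25 zh7) (kh xh8 yh10 zh33) (kh xh5 yh17 zh25) (kh xh5 yh21 zh30) (kh xh7 yh23 zh13) (kh xh5 yh21 zh31) (kh xh7 yh23 zh11) (kh xh5 yh21 zh32) (kh xh7 yh6 zh39) (kh xh7 yh6 zh42) (kh xh6 yh25 zh17) (kh xh5 yh18 zh21) (kh xh5 yh18 zh6) (kh xh5 yh18 zh22) (kh xh5 yh18 zh23) (kh xh8 yh10 zh44) (kh xh8 yh5 zh31) (kh xh5 yh17 zh40) (kh xh5 yh18 zh24) (kh xh8 yh10 zh41) (kh xh5 yh17 zh42) (kh xh5 yh18 zh25) (kh xh8 yh10 zh39) (kh xh5 yh17 zh44) (kh xh8 yh10 zh48) (kh xh5 yh17 zh47) (kh xh8 yh10 zh30) (kh xh5 yh18 zh14) (kh xh5 yh18 zh12) (kh xh8 yh9 zh35) (kh xh5 yh18 zh7) (kh xh8 yh9 zh34) (kh xh8 yh9 zh36) (kh xh8 yh9 zh37) (kh xh8 yh10 zh45) (kh xh8 yh9 zh41) (kh xh8 yh10 zh40) (kh xh8 yh9 zh44) (kh xh8 yh11 zh5) (kh xh5 yh18 zh16)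 (kh xh8 yh11 zh7) (kh xh5 yh18 zh19) (kh xh6 yh25 zh49) (kh xh8 yh11 zh10)) (@D3.rec (fun _ => Pt) (kh xh6 yh26 zh0) (kh xh5 yh18 zh27) (kh xh6 yh26 zh2) (kh xh6 yh26 zh3) (kh xh6 yh26 zh4) (kh xh7 yh19 zh49) (kh xh5 yh18 zh40) (kh xh5 yh18 zh45) (kh xh8 yh11 zh14) (kh xh7 yh21 zh14) (kh xh7 yh21 zh16) (kh xh8 yh11 zh18) (kh xh8 yh11 zh19) (kh xh5 yh19 zh2) (kh xh5 yh19 zh19) (kh xh7 yh13 zh7) (kh xh8 yh11 zh21) (kh xh5 yh19 zh6) (kh xh5 yh19 zh9) (kh xh5 yh19 zh12) (kh xh5 yh20 zh21) (kh xh8 yh11 zh23) (kh xh8 yh11 zh26) (kh xh5 yh19 zh15) (kh xh5 yh19 zh16) (kh xh5 yh19 zh20) (kh xh8 yh11 zh20) (kh xh5 yh19 zh21) (kh xh5 yh19 zh22) (kh xh8 yh11 zh22) (kh xh8 yh11 zh29) (kh xh7 yh23 zh43) (kh xh7 yh23 zh45) (kh xh7 yh23 zh47) (kh xh7 yh23 zh49) (kh xh5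 yh19 zh30) (kh xh5 yh19 zh31) (kh xh8 yh11 zh35) (kh xh7 yh25 zh39) (kh xh7 yh25 zh41) (kh xh5 yh19 zh35) (kh xh5 yh19 zh38) (kh xh5 yh19 zh40) (kh xh5 yh19 zh45) (kh xh5 yh19 zh41) (kh xh8 yh11 zh38) (kh xh8 yh11 zh39) (kh xh5 yh19 zh46) (kh xh8 yh11 zh15) (kh xh8 yh11 zh42) (kh xh8 yh1 zh14))
def f_h_7 : D2 → D3 → Pt := @D2.rec (fun _ => D3 → Pt) (@D3.rec (fun _ => Pt) (kh xh8 yh1 zh16) (kh xh8 yh1 zh18) (kh xh8 yh11 zh47) (kh xh8 yh11 zh48) (kh xh5 yh19 zh50) (kh xh5 yh20 zh14) (kh xh8 yh11 zh50) (kh xh5 yh20 zh3) (kh xh5 yh20 zh4) (kh xh5 yh20 zh8) (kh xh5 yh20 zh19) (kh xh5 yh20 zh9) (kh xh8 yh11 zh25) (kh xh8 yh12 zh2) (kh xh8 yh12 zh5) (kh xh5 yh20 zh11) (kh xh5 yh20 zh12) (kh xh8 yh11 zh49) (kh xh5 yh20 zh15) (kh xh8 yh12 zh0) (kh xh8 yh12 zh1)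 (kh xh5 yh20 zh22) (kh xh8 yh11 zh24) (kh xh5 yh20 zh23) (kh xh7 yh22 zh45) (kh xh8 yh12 zh10) (kh xh8 yh12 zh12) (kh xh8 yh4 zh46) (kh xh8 yh4 zh48) (kh xh8 yh4 zh50) (kh xh8 yh12 zh18) (kh xh5 yh20 zh28) (kh xh5 yh20 zh29) (kh xh5 yh21 zh5) (kh xh8 yh12 zh21) (kh xh5 yh20 zh33) (kh xh5 yh20 zh34) (kh xh5 yh20 zh41) (kh xh5 yh21 zh9) (kh xh5 yh20 zh42) (kh xh5 yh21 zh10) (kh xh5 yh20 zh43) (kh xh7 yh0 zh42) (kh xh5 yh20 zh44) (kh xh7 yh0 zh44) (kh xh5 yh20 zh45) (kh xh7 yh13 zh29) (kh xh5 yh20 zh47) (kh xh5 yh20 zh48) (kh xh7 yh13 zh27) (kh xh5 yh21 zh1)) (@D3.rec (fun _ => Pt) (kh xh5 yh21 zh2) (kh xh8 yh12 zh19) (kh xh8 yh12 zh20) (kh xh5 yh21 zh6) (kh xh7 yh1 zh4) (kh xh8 yh12 zh23) (kh xh8 yh12 zh24) (kh xh5 yh21 zh13) (kh xh7 yh2 zh31) (kh xh8 yh12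 zh39) (kh xh7 yh19 zh37) (kh xh8 yh7 zh28) (kh xh5 yh21 zh23) (kh xh7 yh2 zh43) (kh xh5 yh21 zh24) (kh xh5 yh21 zh25) (kh xh7 yh2 zh42) (kh xh8 yh12 zh42) (kh xh8 yh12 zh45) (kh xh8 yh8 zh36) (kh xh8 yh8 zh38) (kh xh8 yh8 zh40) (kh xh8 yh10 zh34) (kh xh8 yh10 zh36) (kh xh5 yh21 zh39) (kh xh7 yh2 zh27) (kh xh5 yh21 zh40) (kh xh5 yh21 zh42) (kh xh7 yh1 zh28) (kh xh7 yh1 zh29) (kh xh7 yh1 zh30) (kh xh7 yh1 zh31) (kh xh7 yh1 zh32) (kh xh7 yh1 zh33) (kh xh7 yh1 zh34) (kh xh7 yh1 zh35) (kh xh7 yh1 zh36) (kh xh7 yh1 zh37) (kh xh7 yh1 zh38) (kh xh7 yh1 zh39) (kh xh8 yh13 zh7) (kh xh6 yh9 zh33) (kh xh7 yh1 zh42) (kh xh7 yh1 zh43) (kh xh7 yh1 zh44) (kh xh6 yh10 zh20) (kh xh7 yh1 zh46) (kh xh7 yh1 zh47) (kh xh7 yh1 zh48) (kh xh7 yh1 zh49) (kh xh7 yh1 zh50)) (@D3.rec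 (fun _ => Pt) (kh xh7 yh2 zh0) (kh xh8 yh13 zh15) (kh xh7 yh2 zh2) (kh xh7 yh2 zh3) (kh xh7 yh2 zh4) (kh xh7 yh2 zh5) (kh xh7 yh2 zh6) (kh xh7 yh2 zh7) (kh xh7 yh2 zh8) (kh xh8 yh13 zh21) (kh xh7 yh2 zh10) (kh xh8 yh13 zh24) (kh xh5 yh22 zh34) (kh xh7 yh2 zh13) (kh xh7 yh2 zh14) (kh xh7 yh2 zh15) (kh xh8 yh13 zh29) (kh xh7 yh2 zh17) (kh xh7 yh2 zh18) (kh xh7 yh2 zh19) (kh xh7 yh2 zh20) (kh xh7 yh2 zh21) (kh xh7 yh2 zh22) (kh xh8 yh13 zh36) (kh xh7 yh2 zh24) (kh xh8 yh13 zh39) (kh xh5 yh22 zh45) (kh xh7 yh1 zh25) (kh xh6 yh8 zh37) (kh xh5 yh22 zh47) (kh xh6 yh8 zh36) (kh xh7 yh1 zh8) (kh xh8 yh13 zh42) (kh xh6 yh8 zh48) (kh xh5 yh23 zh7) (kh xh6 yh8 zh49) (kh xh5 yh23 zh10) (kh xh6 yh8 zh44) (kh xh6 yh8 zh43) (kh xh6 yh8 zh39) (kh xh6 yh8 zh41) (kh xh5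 yh23 zh17) (kh xh7 yh1 zh16) (kh xh7 yh1 zh13) (kh xh8 yh13 zh48) (kh xh5 yh23 zh23) (kh xh6 yh9 zh18) (kh xh5 yh23 zh24) (kh xh8 yh14 zh0) (kh xh6 yh9 zh23) (kh xh5 yh23 zh27)) (@D3.rec (fun _ => Pt) (kh xh5 yh24 zh43) (kh xh5 yh23 zh44) (kh xh6 yh9 zh11) (kh xh6 yh11 zh5) (kh xh6 yh9 zh9) (kh xh6 yh9 zh2) (kh xh8 yh14 zh8) (kh xh6 yh9 zh4) (kh xh5 yh23 zh36) (kh xh5 yh25 zh20) (kh xh6 yh9 zh7) (kh xh5 yh23 zh40) (kh xh8 yh14 zh11) (kh xh8 yh14 zh13) (kh xh5 yh23 zh45) (kh xh7 yh3 zh15) (kh xh5 yh24 zh17) (kh xh8 yh14 zh19) (kh xh5 yh23 zh47) (kh xh8 yh14 zh22) (kh xh5 yh23 zh48) (kh xh5 yh24 zh22) (kh xh6 yh10 zh16) (kh xh8 yh14 zh24) (kh xh5 yh24 zh1) (kh xh5 yh24 zh23) (kh xh5 yh24 zh27) (kh xh5 yh24 zh3) (kh xh5 yh24 zh29) (kh xh8 yh14 zh30) (kh xh5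 yh24 zh6) (kh xh8 yh14 zh35) (kh xh6 yh22 zh20) (kh xh5 yh24 zh7) (kh xh7 yh3 zh34) (kh xh6 yh14 zh50) (kh xh6 yh22 zh21) (kh xh5 yh24 zh9) (kh xh6 yh22 zh30) (kh xh8 yh14 zh42) (kh xh8 yh14 zh45) (kh xh5 yh24 zh13) (kh xh6 yh23 zh3) (kh xh5 yh24 zh14) (kh xh7 yh3 zh44) (kh xh8 yh14 zh15) (kh xh7 yh3 zh46) (kh xh8 yh15 zh2) (kh xh8 yh14 zh20) (kh xh6 yh10 zh32) (kh xh5 yh24 zh18)) (@D3.rec (fun _ => Pt) (kh xh6 yh9 zh31) (kh xh8 yh14 zh21) (kh xh8 yh14 zh23) (kh xh8 yh14 zh25) (kh xh6 yh10 zh17) (kh xh8 yh14 zh27) (kh xh8 yh15 zh7) (kh xh8 yh15 zh10) (kh xh5 yh24 zh30) (kh xh8 yh15 zh13) (kh xh5 yh24 zh31) (kh xh7 yh4 zh11) (kh xh5 yh25 zh14) (kh xh8 yh15 zh18) (kh xh8 yh15 zh20) (kh xh8 yh15 zh21) (kh xh5 yh24 zh35) (kh xh8 yh13 zh49) (kh xh5 yh25 zh21)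 (kh xh5 yh24 zh37) (kh xh5 yh25 zh23) (kh xh8 yh15 zh28) (kh xh5 yh24 zh40) (kh xh5 yh24 zh41) (kh xh8 yh14 zh1) (kh xh5 yh25 zh28) (kh xh6 yh1 zh26) (kh xh8 yh15 zh37) (kh xh5 yh25 zh31) (kh xh8 yh15 zh40) (kh xh8 yh15 zh42) (kh xh5 yh24 zh47) (kh xh7 yh4 zh32) (kh xh6 yh11 zh22) (kh xh6 yh11 zh28) (kh xh8 yh15 zh50) (kh xh5 yh24 zh49) (kh xh6 yh23 zh20) (kh xh5 yh24 zh50) (kh xh7 yh4 zh39) (kh xh6 yh17 zh1) (kh xh7 yh4 zh41) (kh xh8 yh16 zh7) (kh xh8 yh16 zh9) (kh xh6 yh23 zh21) (kh xh5 yh25 zh3) (kh xh6 yh9 zh10) (kh xh6 yh23 zh34) (kh xh6 yh23 zh36) (kh xh8 yh16 zh14) (kh xh5 yh25 zh8)) (@D3.rec (fun _ => Pt) (kh xh8 yh16 zh18) (kh xh8 yh16 zh19) (kh xh5 yh25 zh9) (kh xh8 yh16 zh15) (kh xh8 yh15 zh12) (kh xh5 yh25 zh11) (kh xh7 yh5 zh6) (kh xh8 yh15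 zh15) (kh xh7 yh5 zh8) (kh xh8 yh16 zh30) (kh xh7 yh5 zh10) (kh xh8 yh16 zh33) (kh xh5 yh25 zh16) (kh xh8 yh16 zh35) (kh xh5 yh25 zh17) (kh xh5 yh25 zh18) (kh xh6 yh10 zh30) (kh xh8 yh15 zh23) (kh xh6 yh10 zh45) (kh xh8 yh16 zh43) (kh xh8 yh15 zh26) (kh xh8 yh15 zh29) (kh xh5 yh25 zh24) (kh xh6 yh10 zh36) (kh xh8 yh15 zh30) (kh xh8 yh15 zh32) (kh xh6 yh11 zh36) (kh xh6 yh14 zh13) (kh xh6 yh15 zh13) (kh xh5 yh25 zh30) (kh xh8 yh16 zh50) (kh xh5 yh25 zh32) (kh xh8 yh17 zh3) (kh xh8 yh17 zh4) (kh xh5 yh25 zh33) (kh xh8 yh17 zh0) (kh xh5 yh26 zh31) (kh xh5 yh25 zh35) (kh xh7 yh5 zh38) (kh xh5 yh26 zh34) (kh xh7 yh5 zh40) (kh xh8 yh17 zh15) (kh xh5 yh25 zh39) (kh xh8 yh17 zh17) (kh xh5 yh25 zh40) (kh xh5 yh25 zh41) (kh xh7 yh5 zh46) (kh xh5 yh26 zh44) (kh xh7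 yh5 zh48) (kh xh8 yh17 zh26) (kh xh5 yh26 zh47)) (@D3.rec (fun _ => Pt) (kh xh8 yh17 zh27) (kh xh5 yh25 zh47) (kh xh7 yh6 zh2) (kh xh6 yh0 zh0) (kh xh7 yh6 zh4) (kh xh6 yh0 zh2) (kh xh7 yh6 zh6) (kh xh8 yh17 zh37) (kh xh7 yh6 zh8) (kh xh8 yh17 zh40) (kh xh5 yh26 zh2) (kh xh8 yh17 zh42) (kh xh8 yh17 zh45) (kh xh5 yh26 zh4) (kh xh8 yh17 zh48) (kh xh5 yh26 zh5) (kh xh7 yh6 zh16) (kh xh6 yh13 zh19) (kh xh7 yh6 zh18) (kh xh8 yh18 zh4) (kh xh8 yh18 zh7) (kh xh5 yh26 zh9) (kh xh8 yh18 zh11) (kh xh8 yh18 zh12) (kh xh5 yh26 zh10) (kh xh8 yh18 zh8) (kh xh6 yh19 zh37) (kh xh5 yh26 zh12) (kh xh7 yh6 zh28) (kh xh6 yh19 zh39) (kh xh7 yh6 zh30) (kh xh8 yh18 zh23) (kh xh7 yh6 zh32) (kh xh8 yh18 zh26) (kh xh5 yh26 zh17) (kh xh8 yh18 zh28) (kh xh5 yh26 zh18) (kh xh5 yh26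 zh19) (kh xh7 yh6 zh38) (kh xh6 yh25 zh15) (kh xh7 yh6 zh40) (kh xh8 yh18 zh35) (kh xh6 yh25 zh16) (kh xh8 yh18 zh38) (kh xh8 yh18 zh39) (kh xh5 yh26 zh25) (kh xh5 yh26 zh30) (kh xh8 yh17 zh1) (kh xh8 yh18 zh46) (kh xh5 yh26 zh27) (kh xh5 yh26 zh28)) (@D3.rec (fun _ => Pt) (kh xh8 yh18 zh40) (kh xh8 yh17 zh6) (kh xh8 yh18 zh42) (kh xh8 yh18 zh43) (kh xh8 yh19 zh8) (kh xh7 yh7 zh5) (kh xh8 yh17 zh11) (kh xh7 yh7 zh7) (kh xh8 yh19 zh13) (kh xh7 yh7 zh9) (kh xh8 yh19 zh16) (kh xh5 yh26 zh36) (kh xh7 yh7 zh12) (kh xh8 yh19 zh19) (kh xh5 yh26 zh38) (kh xh8 yh19 zh20) (kh xh5 yh26 zh40) (kh xh7 yh7 zh17) (kh xh8 yh17 zh19) (kh xh7 yh7 zh19) (kh xh8 yh17 zh21) (kh xh7 yh7 zh21) (kh xh8 yh19 zh30) (kh xh7 yh7 zh23) (kh xh8 yh19 zh33) (kh xh5 yh26 zh46) (kh xh5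 yh26 zh48) (kh xh7 yh7 zh27) (kh xh8 yh17 zh29) (kh xh7 yh7 zh29) (kh xh7 yh7 zh30) (kh xh8 yh19 zh41) (kh xh7 yh7 zh32) (kh xh8 yh19 zh44) (kh xh7 yh7 zh34) (kh xh8 yh19 zh47) (kh xh6 yh0 zh4) (kh xh7 yh7 zh37) (kh xh8 yh19 zh49) (kh xh6 yh0 zh6) (kh xh8 yh20 zh0) (kh xh8 yh20 zh1) (kh xh6 yh0 zh8) (kh xh8 yh20 zh4) (kh xh8 yh20 zh5) (kh xh6 yh0 zh9) (kh xh7 yh7 zh46) (kh xh6 yh0 zh31) (kh xh6 yh0 zh12) (kh xh7 yh7 zh49) (kh xh7 yh7 zh50)) (@D3.rec (fun _ => Pt) (kh xh6 yh0 zh14) (kh xh8 yh20 zh13) (kh xh6 yh0 zh15) (kh xh7 yh8 zh3) (kh xh8 yh20 zh15) (kh xh6 yh0 zh19) (kh xh7 yh8 zh6) (kh xh7 yh8 zh7) (kh xh6 yh0 zh21) (kh xh7 yh8 zh9) (kh xh8 yh20 zh23) (kh xh6 yh0 zh24) (kh xh8 yh20 zh27) (kh xh8 yh20 zh29) (kh xh6 yh0 zh25) (kh xh7 yh8 zh15) (kh xh6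 yh1 zh4) (kh xh8 yh20 zh35) (kh xh6 yh0 zh27) (kh xh8 yh20 zh38) (kh xh6 yh0 zh28) (kh xh6 yh1 zh9) (kh xh8 yh20 zh41) (kh xh8 yh20 zh44) (kh xh6 yh0 zh32) (kh xh8 yh20 zh47) (kh xh6 yh0 zh33) (kh xh7 yh8 zh27) (kh xh6 yh1 zh16) (kh xh7 yh8 zh29) (kh xh8 yh21 zh3) (kh xh8 yh21 zh5) (kh xh8 yh21 zh6) (kh xh6 yh0 zh37) (kh xh7 yh8 zh34) (kh xh6 yh1 zh23) (kh xh6 yh0 zh39) (kh xh6 yh1 zh25) (kh xh8 yh21 zh13) (kh xh6 yh0 zh42) (kh xh6 yh0 zh43) (kh xh7 yh8 zh41) (kh xh6 yh1 zh30) (kh xh7 yh8 zh43) (kh xh8 yh21 zh20) (kh xh6 yh1 zh33) (kh xh8 yh21 zh23) (kh xh8 yh21 zh25) (kh xh6 yh0 zh49) (kh xh8 yh20 zh24) (kh xh8 yh21 zh28)) (@D3.rec (fun _ => Pt) (kh xh8 yh21 zh31) (kh xh6 yh1 zh0) (kh xh8 yh21 zh34) (kh xh6 yh1 zh1) (kh xh7 yh9 zh4) (kh xh8 yh20 zh31)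 (kh xh8 yh21 zh39) (kh xh8 yh21 zh41) (kh xh8 yh21 zh42) (kh xh6 yh1 zh5) (kh xh7 yh9 zh10) (kh xh8 yh20 zh37) (kh xh6 yh1 zh7) (kh xh8 yh20 zh39) (kh xh8 yh21 zh50) (kh xh6 yh1 zh10) (kh xh8 yh22 zh3) (kh xh8 yh22 zh4) (kh xh6 yh1 zh11) (kh xh8 yh22 zh0) (kh xh8 yh20 zh46) (kh xh6 yh1 zh13) (kh xh7 yh9 zh22) (kh xh8 yh20 zh49) (kh xh7 yh9 zh24) (kh xh8 yh22 zh15) (kh xh7 yh9 zh26) (kh xh8 yh22 zh18) (kh xh6 yh1 zh18) (kh xh8 yh15 zh35) (kh xh6 yh1 zh19) (kh xh6 yh1 zh20) (kh xh7 yh9 zh32) (kh xh8 yh21 zh8) (kh xh7 yh9 zh34) (kh xh8 yh22 zh26) (kh xh8 yh21 zh11) (kh xh8 yh15 zh33) (kh xh8 yh21 zh14) (kh xh8 yh21 zh16) (kh xh8 yh22 zh27) (kh xh7 yh9 zh41) (kh xh8 yh22 zh30) (kh xh6 yh1 zh32) (kh xh6 yh1 zh34) (kh xh8 yh22 zh33) (kh xh6 yh1 zh35) (kh xh7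 yh9 zh47) (kh xh7 yh9 zh48) (kh xh8 yh22 zh37) (kh xh6 yh1 zh37)) (@D3.rec (fun _ => Pt) (kh xh8 yh22 zh40) (kh xh6 yh1 zh38) (kh xh7 yh10 zh2) (kh xh6 yh1 zh42) (kh xh6 yh1 zh43) (kh xh7 yh10 zh5) (kh xh7 yh10 zh6) (kh xh7 yh10 zh7) (kh xh8 yh22 zh49) (kh xh8 yh22 zh50) (kh xh6 yh1 zh47) (kh xh7 yh10 zh11) (kh xh7 yh10 zh12) (kh xh6 yh1 zh49) (kh xh7 yh10 zh14) (kh xh8 yh23 zh5) (kh xh6 yh2 zh1) (kh xh6 yh2 zh2) (kh xh7 yh10 zh18) (kh xh7 yh10 zh19) (kh xh7 yh10 zh20) (kh xh8 yh23 zh14) (kh xh7 yh10 zh22) (kh xh8 yh23 zh17) (kh xh8 yh23 zh19) (kh xh6 yh2 zh8) (kh xh6 yh2 zh47) (kh xh8 yh23 zh22) (kh xh8 yh23 zh25) (kh xh6 yh2 zh10) (kh xh8 yh23 zh28) (kh xh6 yh2 zh11) (kh xh7 yh10 zh32) (kh xh6 yh3 zh3) (kh xh8 yh23 zh33) (kh xh8 yh23 zh35) (kh xh8 yh23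 zh36) (kh xh6 yh2 zh15) (kh xh7 yh10 zh38) (kh xh6 yh3 zh9) (kh xh6 yh2 zh17) (kh xh6 yh3 zh11) (kh xh8 yh23 zh44) (kh xh6 yh2 zh20) (kh xh8 yh23 zh48) (kh xh8 yh23 zh49) (kh xh6 yh2 zh21) (kh xh8 yh23 zh45) (kh xh6 yh3 zh18) (kh xh6 yh2 zh23) (kh xh7 yh10 zh50)) (@D3.rec (fun _ => Pt) (kh xh6 yh3 zh21) (kh xh7 yh11 zh1) (kh xh8 yh24 zh10) (kh xh7 yh11 zh3) (kh xh8 yh24 zh13) (kh xh6 yh2 zh28) (kh xh8 yh24 zh15) (kh xh6 yh2 zh29) (kh xh6 yh2 zh30) (kh xh7 yh11 zh9) (kh xh6 yh3 zh31) (kh xh7 yh11 zh11) (kh xh8 yh24 zh24) (kh xh6 yh3 zh34) (kh xh8 yh24 zh25) (kh xh6 yh2 zh36) (kh xh7 yh11 zh16) (kh xh6 yh3 zh38) (kh xh7 yh11 zh18) (kh xh6 yh3 zh40) (kh xh7 yh11 zh20) (kh xh8 yh24 zh35) (kh xh7 yh11 zh22) (kh xh8 yh24 zh38) (kh xh6 yh2 zh42) (kh xh8 yh24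 zh41) (kh xh8 yh24 zh44) (kh xh6 yh2 zh44) (kh xh8 yh24 zh47) (kh xh6 yh2 zh45) (kh xh8 yh23 zh20) (kh xh8 yh25 zh0) (kh xh6 yh2 zh48) (kh xh8 yh25 zh4) (kh xh8 yh25 zh5) (kh xh6 yh2 zh49) (kh xh8 yh25 zh1) (kh xh8 yh23 zh27) (kh xh6 yh3 zh0) (kh xh7 yh11 zh39) (kh xh8 yh23 zh30) (kh xh7 yh11 zh41) (kh xh8 yh25 zh16) (kh xh6 yh3 zh4) (kh xh8 yh25 zh18) (kh xh6 yh3 zh5) (kh xh6 yh3 zh6) (kh xh7 yh11 zh47) (kh xh8 yh23 zh38) (kh xh7 yh11 zh49) (kh xh8 yh25 zh27)) (@D3.rec (fun _ => Pt) (kh xh8 yh23 zh41) (kh xh8 yh25 zh30) (kh xh8 yh25 zh31) (kh xh6 yh3 zh12) (kh xh6 yh3 zh17) (kh xh8 yh23 zh46) (kh xh8 yh25 zh38) (kh xh6 yh3 zh14) (kh xh6 yh3 zh15) (kh xh8 yh25 zh32) (kh xh8 yh24 zh0) (kh xh8 yh25 zh34) (kh xh8 yh25 zh35) (kh xh8 yh26 zh0) (kh xh7 yh12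 zh14) (kh xh8 yh24 zh5) (kh xh7 yh12 zh16) (kh xh8 yh26 zh5) (kh xh7 yh12 zh18) (kh xh8 yh26 zh8) (kh xh6 yh3 zh23) (kh xh7 yh12 zh21) (kh xh8 yh26 zh11) (kh xh6 yh3 zh25) (kh xh8 yh26 zh12) (kh xh6 yh3 zh27) (kh xh7 yh12 zh26) (kh xh8 yh24 zh17) (kh xh7 yh12 zh28) (kh xh8 yh24 zh19) (kh xh7 yh12 zh30) (kh xh8 yh26 zh22) (kh xh7 yh12 zh32) (kh xh8 yh26 zh25) (kh xh6 yh3 zh33) (kh xh6 yh3 zh35) (kh xh7 yh12 zh36) (kh xh8 yh24 zh27) (kh xh7 yh12 zh38) (kh xh7 yh12 zh39) (kh xh8 yh26 zh33) (kh xh8 yh26 zh34) (kh xh7 yh12 zh42) (kh xh8 yh26 zh37) (kh xh6 yh3 zh42) (kh xh7 yh12 zh45) (kh xh8 yh26 zh39) (kh xh6 yh3 zh44) (kh xh6 yh3 zh46) (kh xh7 yh12 zh49) (kh xh7 yh12 zh50)) (@D3.rec (fun _ => Pt) (kh xh6 yh3 zh48) (kh xh7 yh13 zh1) (kh xh7 yh13 zh2) (kh xh8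 yh26 zh48) (kh xh6 yh4 zh1) (kh xh7 yh13 zh5) (kh xh6 yh4 zh4) (kh xh6 yh26 zh15) (kh xh7 yh13 zh8) (kh xh6 yh4 zh6) (kh xh7 yh13 zh10) (kh xh7 yh13 zh11) (kh xh7 yh13 zh12) (kh xh9 yh0 zh8) (kh xh7 yh13 zh14) (kh xh9 yh0 zh11) (kh xh6 yh4 zh11) (kh xh6 yh4 zh12) (kh xh6 yh4 zh13) (kh xh7 yh13 zh19) (kh xh7 yh13 zh20) (kh xh6 yh4 zh18) (kh xh6 yh6 zh50) (kh xh7 yh13 zh23) (kh xh6 yh7 zh0) (kh xh7 yh13 zh25) (kh xh6 yh7 zh1) (kh xh7 yh0 zh49) (kh xh6 yh7 zh2) (kh xh7 yh0 zh46) (kh xh9 yh0 zh22) (kh xh6 yh4 zh26) (kh xh9 yh0 zh25) (kh xh6 yh4 zh27) (kh xh6 yh5 zh31) (kh xh9 yh0 zh28) (kh xh9 yh0 zh29) (kh xh6 yh4 zh30) (kh xh6 yh18 zh0) (kh xh6 yh5 zh38) (kh xh6 yh4 zh32) (kh xh7 yh13 zh41) (kh xh6 yh5 zh41) (kh xh7 yh13 zh43) (kh xh9 yh0 zh39) (kh xh6 yh4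 zh36) (kh xh9 yh0 zh41) (kh xh6 yh4 zh37) (kh xh6 yh4 zh38) (kh xh6 yh5 zh49) (kh xh6 yh6 zh1)) (@D3.rec (fun _ => Pt) (kh xh9 yh0 zh46) (kh xh9 yh0 zh47) (kh xh6 yh4 zh43) (kh xh6 yh4 zh48) (kh xh6 yh6 zh6) (kh xh9 yh1 zh2) (kh xh6 yh4 zh45) (kh xh6 yh4 zh46) (kh xh9 yh0 zh48) (kh xh6 yh6 zh11) (kh xh6 yh17 zh32) (kh xh9 yh0 zh50) (kh xh9 yh1 zh15) (kh xh7 yh14 zh13) (kh xh6 yh6 zh16) (kh xh7 yh14 zh15) (kh xh9 yh1 zh20) (kh xh7 yh14 zh17) (kh xh9 yh1 zh23) (kh xh6 yh5 zh3) (kh xh7 yh14 zh20) (kh xh9 yh1 zh26) (kh xh6 yh5 zh5) (kh xh9 yh1 zh27) (kh xh6 yh5 zh7) (kh xh6 yh7 zh11) (kh xh6 yh6 zh28) (kh xh6 yh7 zh12) (kh xh6 yh6 zh30) (kh xh6 yh7 zh13) (kh xh6 yh21 zh8) (kh xh6 yh7 zh14) (kh xh6 yh18 zh40) (kh xh6 yh5 zh15) (kh xh6 yh7 zh16) (kh xh6 yh6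 zh38) (kh xh6 yh7 zh18) (kh xh6 yh7 zh19) (kh xh9 yh1 zh47) (kh xh6 yh7 zh21) (kh xh9 yh1 zh49) (kh xh6 yh7 zh23) (kh xh9 yh2 zh0) (kh xh6 yh5 zh22) (kh xh6 yh7 zh26) (kh xh9 yh2 zh2) (kh xh6 yh5 zh24) (kh xh9 yh2 zh6) (kh xh6 yh5 zh26) (kh xh9 yh2 zh10) (kh xh9 yh2 zh11)) (@D3.rec (fun _ => Pt) (kh xh6 yh5 zh27) (kh xh9 yh2 zh7) (kh xh9 yh0 zh24) (kh xh6 yh5 zh29) (kh xh9 yh0 zh26) (kh xh9 yh2 zh19) (kh xh9 yh2 zh20) (kh xh6 yh5 zh32) (kh xh6 yh5 zh37) (kh xh6 yh18 zh17) (kh xh9 yh2 zh26) (kh xh6 yh5 zh34) (kh xh6 yh5 zh35) (kh xh9 yh2 zh21) (kh xh9 yh0 zh31) (kh xh6 yh22 zh3) (kh xh9 yh2 zh23) (kh xh9 yh2 zh38) (kh xh7 yh15 zh18) (kh xh9 yh0 zh35) (kh xh7 yh15 zh20) (kh xh9 yh2 zh43) (kh xh9 yh2 zh44) (kh xh6 yh5 zh43) (kh xh9 yh2 zh45) (kh xh6 yh5 zh45)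 (kh xh6 yh7 zh36) (kh xh9 yh0 zh42) (kh xh6 yh7 zh37) (kh xh9 yh0 zh43) (kh xh6 yh7 zh38) (kh xh6 yh21 zh26) (kh xh6 yh7 zh39) (kh xh6 yh21 zh28) (kh xh9 yh3 zh7) (kh xh9 yh3 zh9) (kh xh6 yh6 zh2) (kh xh6 yh6 zh3) (kh xh6 yh6 zh10) (kh xh9 yh0 zh49) (kh xh6 yh6 zh12) (kh xh6 yh6 zh13) (kh xh9 yh3 zh22) (kh xh9 yh3 zh23) (kh xh6 yh6 zh7) (kh xh9 yh3 zh10) (kh xh9 yh1 zh4) (kh xh9 yh3 zh12) (kh xh9 yh1 zh6) (kh xh9 yh3 zh14) (kh xh9 yh3 zh15)) (@D3.rec (fun _ => Pt) (kh xh9 yh3 zh37) (kh xh9 yh3 zh17) (kh xh9 yh3 zh18) (kh xh9 yh3 zh43) (kh xh9 yh3 zh20) (kh xh9 yh3 zh46) (kh xh6 yh6 zh14) (kh xh7 yh16 zh7) (kh xh9 yh3 zh49) (kh xh7 yh16 zh9) (kh xh9 yh4 zh1) (kh xh6 yh6 zh18) (kh xh7 yh16 zh12) (kh xh9 yh4 zh4) (kh xh6 yh6 zh20) (kh xh7 yh16 zh15) (kh xh9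 yh4 zh7) (kh xh6 yh6 zh23) (kh xh6 yh6 zh25) (kh xh6 yh8 zh4) (kh xh9 yh1 zh29) (kh xh6 yh8 zh6) (kh xh6 yh8 zh7) (kh xh9 yh4 zh17) (kh xh6 yh8 zh9) (kh xh9 yh4 zh20) (kh xh6 yh8 zh11) (kh xh9 yh4 zh23) (kh xh6 yh6 zh32) (kh xh6 yh8 zh14) (kh xh9 yh4 zh25) (kh xh6 yh6 zh34) (kh xh6 yh8 zh17) (kh xh9 yh1 zh39) (kh xh6 yh8 zh19) (kh xh6 yh8 zh20) (kh xh9 yh4 zh34) (kh xh6 yh8 zh22) (kh xh6 yh8 zh23) (kh xh9 yh4 zh40) (kh xh9 yh4 zh41) (kh xh6 yh6 zh41) (kh xh6 yh8 zh27) (kh xh9 yh4 zh44) (kh xh6 yh6 zh43) (kh xh6 yh8 zh30) (kh xh9 yh4 zh46) (kh xh6 yh6 zh45) (kh xh9 yh4 zh48) (kh xh6 yh6 zh48) (kh xh8 yh19 zh50)) (@D3.rec (fun _ => Pt) (kh xh9 yh0 zh15) (kh xh6 yh20 zh28) (kh xh9 yh5 zh1) (kh xh9 yh5 zh3) (kh xh6 yh7 zh4) (kh xh6 yh7 zh5) (kh xh6 yh7 zh45)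 (kh xh6 yh20 zh22) (kh xh6 yh7 zh9) (kh xh9 yh1 zh28) (kh xh9 yh1 zh30) (kh xh9 yh1 zh31) (kh xh9 yh1 zh33) (kh xh9 yh1 zh35) (kh xh9 yh1 zh38) (kh xh6 yh8 zh18) (kh xh9 yh1 zh40) (kh xh9 yh1 zh41) (kh xh9 yh1 zh44) (kh xh9 yh1 zh43) (kh xh6 yh7 zh20) (kh xh6 yh7 zh22) (kh xh9 yh5 zh11) (kh xh6 yh7 zh24) (kh xh9 yh0 zh0) (kh xh6 yh7 zh27) (kh xh7 yh17 zh26) (kh xh9 yh5 zh14) (kh xh9 yh5 zh16) (kh xh6 yh7 zh29) (kh xh6 yh7 zh30) (kh xh6 yh18 zh15) (kh xh6 yh21 zh37) (kh xh6 yh7 zh34) (kh xh9 yh2 zh46) (kh xh9 yh2 zh48) (kh xh9 yh2 zh49) (kh xh9 yh3 zh0) (kh xh9 yh3 zh2) (kh xh9 yh3 zh4) (kh xh9 yh5 zh26) (kh xh6 yh7 zh40) (kh xh9 yh5 zh29) (kh xh6 yh7 zh41) (kh xh6 yh7 zh50) (kh xh9 yh5 zh4) (kh xh6 yh8 zh0) (kh xh9 yh5 zh5) (kh xh6 yh8 zh1) (kh xh6 yh19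 zh5) (kh xh6 yh8 zh2)) (@D3.rec (fun _ => Pt) (kh xh6 yh19 zh7) (kh xh6 yh7 zh48) (kh xh9 yh5 zh30) (kh xh9 yh5 zh32) (kh xh9 yh5 zh33) (kh xh9 yh5 zh35) (kh xh9 yh5 zh37) (kh xh9 yh5 zh39) (kh xh9 yh4 zh8) (kh xh6 yh21 zh9) (kh xh9 yh4 zh10) (kh xh9 yh4 zh11) (kh xh9 yh6 zh3) (kh xh9 yh4 zh13) (kh xh9 yh4 zh14) (kh xh9 yh6 zh9) (kh xh9 yh6 zh10) (kh xh6 yh8 zh8) (kh xh9 yh4 zh18) (kh xh9 yh6 zh13) (kh xh6 yh8 zh10) (kh xh9 yh4 zh21) (kh xh9 yh6 zh15) (kh xh6 yh8 zh12) (kh xh9 yh6 zh17) (kh xh6 yh8 zh15) (kh xh6 yh18 zh46) (kh xh9 yh4 zh27) (kh xh9 yh4 zh28) (kh xh9 yh4 zh31) (kh xh9 yh4 zh30) (kh xh6 yh8 zh21) (kh xh9 yh4 zh35) (kh xh9 yh4 zh36) (kh xh9 yh6 zh22) (kh xh6 yh8 zh24) (kh xh6 yh8 zh25) (kh xh9 yh4 zh42) (kh xh9 yh6 zh26) (kh xh6 yh8 zh28)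 (kh xh9 yh6 zh28) (kh xh6 yh8 zh31) (kh xh7 yh18 zh42) (kh xh6 yh8 zh33) (kh xh7 yh18 zh44) (kh xh7 yh18 zh45) (kh xh8 yh13 zh43) (kh xh8 yh13 zh41) (kh xh6 yh8 zh45) (kh xh6 yh10 zh10) (kh xh9 yh6 zh31)) (@D3.rec (fun _ => Pt) (kh xh8 yh14 zh6) (kh xh6 yh9 zh1) (kh xh8 yh14 zh7) (kh xh6 yh9 zh16) (kh xh8 yh14 zh5) (kh xh8 yh14 zh3) (kh xh9 yh6 zh35) (kh xh6 yh9 zh12) (kh xh6 yh9 zh13) (kh xh6 yh11 zh26) (kh xh8 yh13 zh47) (kh xh9 yh6 zh39) (kh xh8 yh13 zh50) (kh xh6 yh9 zh19) (kh xh6 yh11 zh33) (kh xh6 yh11 zh35) (kh xh6 yh11 zh37) (kh xh8 yh15 zh31) (kh xh6 yh11 zh39) (kh xh6 yh9 zh25) (kh xh9 yh6 zh41) (kh xh8 yh15 zh4) (kh xh6 yh9 zh27) (kh xh6 yh9 zh28) (kh xh6 yh10 zh4) (kh xh6 yh10 zh11) (kh xh6 yh10 zh13) (kh xh9 yh6 zh45) (kh xh6 yh9 zh38) (kh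 xh6 yh10 zh6) (kh xh6 yh9 zh40) (kh xh6 yh9 zh41) (kh xh6 yh13 zh45) (kh xh6 yh14 zh48) (kh xh6 yh14 zh11) (kh xh9 yh7 zh1) (kh xh6 yh9 zh45) (kh xh7 yh1 zh10) (kh xh6 yh22 zh28) (kh xh6 yh9 zh47) (kh xh6 yh22 zh26) (kh xh6 yh9 zh50) (kh xh9 yh7 zh8) (kh xh6 yh10 zh0) (kh xh9 yh7 zh6) (kh xh9 yh6 zh43) (kh xh9 yh6 zh44) (kh xh6 yh14 zh37) (kh xh9 yh6 zh46) (kh xh6 yh26 zh5) (kh xh8 yh14 zh32)) (@D3.rec (fun _ => Pt) (kh xh6 yh10 zh7) (kh xh6 yh10 zh8) (kh xh8 yh14 zh17) (kh xh8 yh15 zh5) (kh xh8 yh14 zh33) (kh xh9 yh7 zh18) (kh xh8 yh13 zh8) (kh xh6 yh10 zh19) (kh xh8 yh14 zh2) (kh xh8 yh14 zh26) (kh xh6 yh14 zh12) (kh xh6 yh15 zh11) (kh xh9 yh7 zh27) (kh xh6 yh10 zh23) (kh xh9 yh7 zh31) (kh xh8 yh16 zh39) (kh xh6 yh10 zh24) (kh xh9 yh7 zh28) (kh xh6 yh11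 zh15) (kh xh6 yh10 zh26) (kh xh6 yh11 zh18) (kh xh8 yh16 zh36) (kh xh6 yh10 zh29) (kh xh6 yh11 zh27) (kh xh8 yh14 zh44) (kh xh9 yh7 zh39) (kh xh6 yh11 zh30) (kh xh6 yh11 zh34) (kh xh6 yh10 zh39) (kh xh8 yh16 zh41) (kh xh9 yh7 zh41) (kh xh6 yh10 zh41) (kh xh6 yh10 zh42) (kh xh6 yh11 zh20) (kh xh9 yh7 zh45) (kh xh6 yh10 zh46) (kh xh8 yh16 zh22) (kh xh6 yh16 zh50) (kh xh6 yh10 zh48) (kh xh6 yh15 zh20) (kh xh6 yh16 zh48) (kh xh6 yh15 zh19) (kh xh6 yh15 zh45) (kh xh9 yh8 zh4) (kh xh6 yh11 zh2) (kh xh6 yh11 zh3) (kh xh8 yh14 zh4) (kh xh6 yh23 zh32) (kh xh9 yh8 zh10) (kh xh6 yh23 zh30) (kh xh9 yh8 zh11)) (@D3.rec (fun _ => Pt) (kh xh6 yh11 zh9) (kh xh6 yh11 zh14) (kh xh9 yh7 zh29) (kh xh9 yh8 zh17) (kh xh6 yh11 zh11) (kh xh6 yh11 zh12) (kh xh9 yh8 zh12) (kh xh9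 yh7 zh33) (kh xh8 yh16 zh0) (kh xh9 yh8 zh14) (kh xh9 yh8 zh30) (kh xh9 yh7 zh36) (kh xh6 yh16 zh33) (kh xh9 yh7 zh44) (kh xh6 yh26 zh9) (kh xh9 yh7 zh43) (kh xh6 yh26 zh10) (kh xh8 yh15 zh44) (kh xh9 yh8 zh37) (kh xh6 yh11 zh23) (kh xh9 yh6 zh36) (kh xh9 yh7 zh37) (kh xh9 yh6 zh37) (kh xh8 yh16 zh40) (kh xh8 yh15 zh47) (kh xh9 yh8 zh47) (kh xh8 yh15 zh38) (kh xh9 yh8 zh49) (kh xh6 yh11 zh29) (kh xh6 yh11 zh31) (kh xh8 yh15 zh27) (kh xh8 yh16 zh45) (kh xh6 yh16 zh3) (kh xh6 yh12 zh13) (kh xh9 yh8 zh50) (kh xh8 yh21 zh12) (kh xh8 yh15 zh34) (kh xh9 yh6 zh40) (kh xh9 yh9 zh8) (kh xh6 yh11 zh38) (kh xh8 yh24 zh39) (kh xh9 yh9 zh10) (kh xh6 yh11 zh40) (kh xh7 yh21 zh43) (kh xh9 yh9 zh14) (kh xh7 yh21 zh45) (kh xh9 yh9 zh17) (kh xh6 yh11 zh45) (kh xh9 yh9 zh20)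 (kh xh9 yh9 zh21) (kh xh6 yh11 zh47)) (@D3.rec (fun _ => Pt) (kh xh6 yh12 zh1) (kh xh6 yh13 zh3) (kh xh9 yh9 zh26) (kh xh6 yh11 zh49) (kh xh6 yh11 zh50) (kh xh9 yh9 zh22) (kh xh6 yh13 zh8) (kh xh9 yh6 zh19) (kh xh9 yh9 zh35) (kh xh6 yh13 zh13) (kh xh9 yh8 zh41) (kh xh6 yh12 zh5) (kh xh7 yh22 zh12) (kh xh6 yh13 zh23) (kh xh7 yh22 zh14) (kh xh6 yh13 zh25) (kh xh7 yh22 zh16) (kh xh9 yh9 zh43) (kh xh7 yh22 zh18) (kh xh9 yh9 zh46) (kh xh6 yh12 zh11) (kh xh6 yh13 zh33) (kh xh7 yh22 zh22) (kh xh9 yh9 zh49) (kh xh7 yh22 zh24) (kh xh9 yh10 zh1) (kh xh7 yh22 zh26) (kh xh9 yh10 zh4) (kh xh6 yh12 zh20) (kh xh7 yh22 zh29) (kh xh9 yh10 zh6) (kh xh6 yh12 zh22) (kh xh9 yh10 zh9) (kh xh6 yh12 zh24) (kh xh9 yh10 zh12) (kh xh9 yh10 zh13) (kh xh6 yh12 zh25) (kh xh9 yh1 zh11)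 (kh xh6 yh13 zh17) (kh xh6 yh12 zh27) (kh xh6 yh13 zh15) (kh xh9 yh10 zh18) (kh xh9 yh10 zh19) (kh xh6 yh12 zh30) (kh xh6 yh12 zh35) (kh xh7 yh0 zh24) (kh xh9 yh10 zh25) (kh xh6 yh12 zh32) (kh xh6 yh12 zh33) (kh xh9 yh10 zh20) (kh xh6 yh19 zh35)) (@D3.rec (fun _ => Pt) (kh xh9 yh10 zh22) (kh xh9 yh1 zh10) (kh xh9 yh10 zh37) (kh xh6 yh17 zh28) (kh xh6 yh19 zh33) (kh xh6 yh17 zh27) (kh xh6 yh18 zh6) (kh xh6 yh18 zh7) (kh xh9 yh10 zh42) (kh xh6 yh12 zh42) (kh xh7 yh23 zh10) (kh xh6 yh25 zh13) (kh xh7 yh23 zh12) (kh xh6 yh25 zh11) (kh xh7 yh23 zh14) (kh xh9 yh11 zh1) (kh xh7 yh23 zh16) (kh xh9 yh11 zh4) (kh xh6 yh12 zh48) (kh xh9 yh11 zh5) (kh xh9 yh11 zh7) (kh xh6 yh12 zh50) (kh xh6 yh13 zh0) (kh xh6 yh13 zh7) (kh xh9 yh9 zh23) (kh xh6 yh13 zh9) (kh xh6 yh13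 zh10) (kh xh9 yh11 zh20) (kh xh9 yh11 zh21) (kh xh6 yh13 zh4) (kh xh9 yh11 zh8) (kh xh9 yh9 zh28) (kh xh9 yh11 zh10) (kh xh9 yh9 zh30) (kh xh9 yh11 zh12) (kh xh9 yh11 zh13) (kh xh9 yh11 zh35) (kh xh9 yh11 zh15) (kh xh9 yh11 zh16) (kh xh9 yh11 zh41) (kh xh9 yh11 zh18) (kh xh9 yh11 zh44) (kh xh6 yh13 zh11) (kh xh6 yh26 zh31) (kh xh9 yh10 zh17) (kh xh6 yh26 zh32) (kh xh9 yh10 zh15) (kh xh6 yh26 zh33) (kh xh8 yh17 zh47) (kh xh6 yh26 zh34) (kh xh8 yh17 zh50)) (@D3.rec (fun _ => Pt) (kh xh6 yh13 zh20) (kh xh7 yh24 zh1) (kh xh9 yh9 zh36) (kh xh7 yh24 zh3) (kh xh7 yh24 zh4) (kh xh9 yh12 zh10) (kh xh7 yh24 zh6) (kh xh9 yh12 zh13) (kh xh7 yh24 zh8) (kh xh9 yh12 zh16) (kh xh6 yh13 zh27) (kh xh7 yh24 zh11) (kh xh9 yh12 zh18) (kh xh6 yh13 zh29) (kh xh7 yh24 zh14) (kh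 xh9 yh9 zh3) (kh xh7 yh24 zh16) (kh xh7 yh24 zh17) (kh xh9 yh12 zh25) (kh xh7 yh24 zh19) (kh xh7 yh24 zh20) (kh xh9 yh12 zh31) (kh xh9 yh12 zh32) (kh xh6 yh13 zh36) (kh xh7 yh24 zh24) (kh xh9 yh12 zh35) (kh xh6 yh13 zh38) (kh xh7 yh24 zh27) (kh xh9 yh12 zh37) (kh xh6 yh13 zh40) (kh xh9 yh12 zh39) (kh xh6 yh13 zh43) (kh xh6 yh20 zh21) (kh xh9 yh6 zh50) (kh xh9 yh12 zh42) (kh xh9 yh12 zh43) (kh xh6 yh13 zh46) (kh xh6 yh13 zh47) (kh xh6 yh14 zh29) (kh xh9 yh7 zh24) (kh xh8 yh16 zh46) (kh xh6 yh13 zh50) (kh xh7 yh24 zh42) (kh xh6 yh14 zh34) (kh xh6 yh14 zh1) (kh xh6 yh14 zh36) (kh xh6 yh14 zh4) (kh xh9 yh7 zh22) (kh xh6 yh14 zh5) (kh xh9 yh13 zh0) (kh xh6 yh14 zh43)) (@D3.rec (fun _ => Pt) (kh xh6 yh14 zh7) (kh xh6 yh14 zh23) (kh xh6 yh14 zh46) (kh xh6 yh14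 zh22) (kh xh9 yh7 zh0) (kh xh6 yh15 zh4) (kh xh7 yh25 zh6) (kh xh9 yh13 zh11) (kh xh6 yh15 zh7) (kh xh6 yh14 zh20) (kh xh6 yh14 zh24) (kh xh9 yh13 zh14) (kh xh9 yh13 zh15) (kh xh6 yh14 zh25) (kh xh9 yh13 zh12) (kh xh9 yh12 zh45) (kh xh6 yh14 zh27) (kh xh9 yh12 zh46) (kh xh9 yh13 zh22) (kh xh6 yh14 zh30) (kh xh6 yh14 zh31) (kh xh7 yh25 zh21) (kh xh9 yh12 zh47) (kh xh7 yh25 zh23) (kh xh9 yh13 zh28) (kh xh9 yh12 zh50) (kh xh9 yh7 zh14) (kh xh6 yh14 zh42) (kh xh9 yh13 zh1) (kh xh9 yh13 zh32) (kh xh6 yh14 zh39) (kh xh6 yh14 zh40) (kh xh9 yh7 zh12) (kh xh9 yh13 zh3) (kh xh9 yh13 zh29) (kh xh9 yh7 zh9) (kh xh9 yh13 zh43) (kh xh9 yh13 zh7) (kh xh9 yh6 zh49) (kh xh6 yh26 zh38) (kh xh9 yh6 zh48) (kh xh6 yh26 zh39) (kh xh8 yh14 zh36) (kh xh9 yh13 zh48) (kh xh6 yh15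 zh0) (kh xh7 yh25 zh45) (kh xh9 yh7 zh25) (kh xh7 yh25 zh47) (kh xh8 yh16 zh47) (kh xh7 yh25 zh49) (kh xh9 yh14 zh5)) (@D3.rec (fun _ => Pt) (kh xh7 yh26 zh0) (kh xh9 yh14 zh8) (kh xh6 yh15 zh6) (kh xh6 yh15 zh8) (kh xh7 yh26 zh4) (kh xh7 yh26 zh5) (kh xh9 yh14 zh11) (kh xh7 yh26 zh7) (kh xh8 yh26 zh40) (kh xh7 yh26 zh9) (kh xh9 yh14 zh16) (kh xh6 yh15 zh15) (kh xh7 yh26 zh12) (kh xh9 yh14 zh18) (kh xh6 yh15 zh17) (kh xh9 yh8 zh0) (kh xh9 yh14 zh21) (kh xh6 yh15 zh21) (kh xh9 yh14 zh25) (kh xh9 yh14 zh26) (kh xh6 yh15 zh22) (kh xh9 yh14 zh22) (kh xh6 yh16 zh21) (kh xh6 yh15 zh24) (kh xh6 yh16 zh23) (kh xh9 yh14 zh33) (kh xh6 yh15 zh27) (kh xh6 yh15 zh28) (kh xh7 yh26 zh28) (kh xh6 yh16 zh28) (kh xh7 yh26 zh30) (kh xh9 yh14 zh41) (kh xh6 yh16 zh31) (kh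 xh9 yh14 zh42) (kh xh6 yh15 zh34) (kh xh6 yh15 zh39) (kh xh6 yh16 zh36) (kh xh9 yh14 zh49) (kh xh6 yh15 zh36) (kh xh6 yh15 zh37) (kh xh9 yh14 zh43) (kh xh6 yh16 zh41) (kh xh9 yh14 zh45) (kh xh9 yh14 zh46) (kh xh9 yh15 zh10) (kh xh6 yh16 zh14) (kh xh6 yh16 zh46) (kh xh6 yh16 zh13) (kh xh9 yh8 zh1) (kh xh9 yh8 zh2) (kh xh9 yh9 zh1))
def f_h_8 : D2 → D3 → Pt := @D2.rec (fun _ => D3 → Pt) (@D3.rec (fun _ => Pt) (kh xh6 yh15 zh46) (kh xh8 yh0 zh1) (kh xh6 yh17 zh5) (kh xh6 yh17 zh7) (kh xh8 yh0 zh4) (kh xh9 yh15 zh19) (kh xh8 yh0 zh6) (kh xh9 yh15 zh22) (kh xh6 yh16 zh1) (kh xh6 yh17 zh15) (kh xh8 yh0 zh10) (kh xh9 yh15 zh24) (kh xh6 yh16 zh8) (kh xh8 yh0 zh13) (kh xh9 yh15 zh26) (kh xh6 yh16 zh10) (kh xh6 yh16 zh12) (kh xh9 yh15 zh12) (kh xh9 yh15 zh30) (kh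 xh6 yh16 zh15) (kh xh6 yh16 zh20) (kh xh9 yh14 zh23) (kh xh9 yh15 zh36) (kh xh6 yh16 zh17) (kh xh6 yh16 zh18) (kh xh9 yh15 zh31) (kh xh9 yh14 zh28) (kh xh9 yh15 zh33) (kh xh9 yh15 zh45) (kh xh9 yh14 zh31) (kh xh9 yh15 zh46) (kh xh6 yh16 zh24) (kh xh8 yh0 zh32) (kh xh9 yh14 zh35) (kh xh8 yh0 zh34) (kh xh9 yh14 zh36) (kh xh8 yh0 zh36) (kh xh9 yh16 zh3) (kh xh8 yh0 zh38) (kh xh9 yh16 zh6) (kh xh6 yh16 zh30) (kh xh9 yh11 zh45) (kh xh9 yh8 zh31) (kh xh6 yh16 zh32) (kh xh6 yh16 zh40) (kh xh9 yh14 zh44) (kh xh6 yh16 zh42) (kh xh6 yh16 zh43) (kh xh9 yh16 zh17) (kh xh9 yh16 zh18) (kh xh6 yh16 zh37)) (@D3.rec (fun _ => Pt) (kh xh9 yh16 zh8) (kh xh9 yh15 zh0) (kh xh9 yh8 zh23) (kh xh9 yh15 zh2) (kh xh9 yh16 zh10) (kh xh9 yh8 zh20) (kh xh9 yh16 zh31) (kh xh9 yh16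 zh12) (kh xh9 yh16 zh13) (kh xh9 yh16 zh37) (kh xh9 yh16 zh15) (kh xh9 yh16 zh40) (kh xh6 yh16 zh44) (kh xh9 yh7 zh50) (kh xh6 yh26 zh50) (kh xh9 yh7 zh47) (kh xh7 yh0 zh0) (kh xh8 yh16 zh1) (kh xh7 yh0 zh1) (kh xh8 yh16 zh2) (kh xh6 yh17 zh2) (kh xh8 yh1 zh21) (kh xh9 yh15 zh14) (kh xh8 yh1 zh23) (kh xh8 yh1 zh24) (kh xh9 yh17 zh4) (kh xh8 yh1 zh26) (kh xh9 yh17 zh7) (kh xh8 yh1 zh28) (kh xh9 yh17 zh10) (kh xh6 yh17 zh9) (kh xh8 yh1 zh31) (kh xh9 yh17 zh12) (kh xh6 yh17 zh11) (kh xh8 yh1 zh34) (kh xh9 yh9 zh2) (kh xh8 yh1 zh36) (kh xh8 yh1 zh37) (kh xh9 yh17 zh19) (kh xh8 yh1 zh39) (kh xh8 yh1 zh40) (kh xh9 yh17 zh25) (kh xh9 yh17 zh26) (kh xh6 yh17 zh18) (kh xh8 yh1 zh44) (kh xh9 yh17 zh29) (kh xh6 yh17 zh20) (kh xh8 yh1 zh47) (kh xh9 yh17 zh31) (kh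 xh6 yh17 zh22) (kh xh9 yh17 zh33)) (@D3.rec (fun _ => Pt) (kh xh6 yh17 zh25) (kh xh9 yh9 zh11) (kh xh9 yh10 zh40) (kh xh9 yh10 zh38) (kh xh9 yh17 zh37) (kh xh6 yh17 zh29) (kh xh6 yh17 zh30) (kh xh9 yh1 zh7) (kh xh6 yh18 zh45) (kh xh9 yh17 zh43) (kh xh6 yh18 zh48) (kh xh9 yh17 zh44) (kh xh6 yh17 zh36) (kh xh6 yh19 zh1) (kh xh6 yh19 zh3) (kh xh9 yh17 zh46) (kh xh9 yh17 zh48) (kh xh6 yh17 zh41) (kh xh6 yh17 zh42) (kh xh6 yh17 zh49) (kh xh6 yh19 zh13) (kh xh6 yh18 zh1) (kh xh9 yh18 zh5) (kh xh9 yh18 zh6) (kh xh6 yh17 zh46) (kh xh9 yh17 zh49) (kh xh6 yh19 zh20) (kh xh9 yh18 zh0) (kh xh6 yh19 zh22) (kh xh9 yh0 zh30) (kh xh9 yh18 zh2) (kh xh9 yh18 zh20) (kh xh9 yh0 zh23) (kh xh9 yh0 zh32) (kh xh9 yh18 zh24) (kh xh9 yh18 zh25) (kh xh6 yh18 zh2) (kh xh6 yh18 zh35)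 (kh xh9 yh10 zh39) (kh xh6 yh18 zh34) (kh xh9 yh10 zh41) (kh xh6 yh18 zh8) (kh xh6 yh20 zh30) (kh xh6 yh19 zh42) (kh xh6 yh20 zh31) (kh xh6 yh20 zh32) (kh xh9 yh5 zh17) (kh xh6 yh20 zh33) (kh xh9 yh5 zh18) (kh xh6 yh20 zh34) (kh xh9 yh2 zh22)) (@D3.rec (fun _ => Pt) (kh xh6 yh20 zh35) (kh xh9 yh2 zh8) (kh xh6 yh20 zh36) (kh xh6 yh20 zh4) (kh xh6 yh20 zh38) (kh xh6 yh20 zh39) (kh xh9 yh18 zh47) (kh xh6 yh20 zh41) (kh xh6 yh20 zh42) (kh xh9 yh19 zh1) (kh xh9 yh19 zh2) (kh xh6 yh18 zh23) (kh xh6 yh20 zh46) (kh xh9 yh19 zh5) (kh xh6 yh18 zh25) (kh xh6 yh20 zh49) (kh xh9 yh19 zh7) (kh xh6 yh18 zh27) (kh xh9 yh19 zh9) (kh xh6 yh18 zh30) (kh xh9 yh10 zh7) (kh xh9 yh19 zh12) (kh xh9 yh19 zh13) (kh xh6 yh18 zh32) (kh xh9 yh1 zh37) (kh xh9 yh18 zh26) (kh xh9 yh19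 zh16) (kh xh9 yh19 zh18) (kh xh6 yh18 zh36) (kh xh6 yh18 zh37) (kh xh6 yh18 zh44) (kh xh9 yh1 zh36) (kh xh9 yh19 zh24) (kh xh9 yh19 zh25) (kh xh6 yh18 zh41) (kh xh9 yh19 zh19) (kh xh9 yh17 zh39) (kh xh9 yh19 zh21) (kh xh9 yh17 zh41) (kh xh9 yh6 zh16) (kh xh9 yh19 zh35) (kh xh9 yh6 zh18) (kh xh9 yh19 zh38) (kh xh6 yh18 zh47) (kh xh6 yh18 zh49) (kh xh6 yh21 zh11) (kh xh9 yh17 zh45) (kh xh6 yh21 zh12) (kh xh6 yh21 zh13) (kh xh9 yh5 zh34) (kh xh6 yh21 zh14)) (@D3.rec (fun _ => Pt) (kh xh9 yh5 zh36) (kh xh6 yh21 zh15) (kh xh9 yh5 zh38) (kh xh6 yh21 zh16) (kh xh9 yh5 zh40) (kh xh9 yh20 zh3) (kh xh6 yh19 zh8) (kh xh9 yh20 zh6) (kh xh6 yh19 zh9) (kh xh6 yh19 zh19) (kh xh9 yh17 zh50) (kh xh6 yh19 zh21) (kh xh9 yh18 zh1) (kh xh6 yh19 zh23) (kh xh6 yh19 zh24) (kh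 xh9 yh20 zh20) (kh xh6 yh19 zh26) (kh xh6 yh19 zh27) (kh xh9 yh20 zh26) (kh xh6 yh19 zh29) (kh xh9 yh20 zh29) (kh xh6 yh19 zh16) (kh xh6 yh19 zh17) (kh xh9 yh20 zh7) (kh xh9 yh18 zh8) (kh xh9 yh20 zh9) (kh xh9 yh20 zh10) (kh xh9 yh20 zh40) (kh xh9 yh20 zh12) (kh xh9 yh20 zh13) (kh xh9 yh20 zh46) (kh xh9 yh20 zh15) (kh xh9 yh20 zh16) (kh xh9 yh21 zh1) (kh xh9 yh20 zh18) (kh xh9 yh21 zh4) (kh xh6 yh19 zh25) (kh xh9 yh20 zh21) (kh xh9 yh20 zh22) (kh xh9 yh21 zh9) (kh xh9 yh20 zh24) (kh xh9 yh21 zh12) (kh xh6 yh19 zh28) (kh xh9 yh20 zh27) (kh xh9 yh21 zh16) (kh xh6 yh19 zh30) (kh xh7 yh0 zh27) (kh xh9 yh10 zh29) (kh xh7 yh0 zh28) (kh xh9 yh10 zh27) (kh xh7 yh0 zh29)) (@D3.rec (fun _ => Pt) (kh xh8 yh18 zh14) (kh xh8 yh18 zh18) (kh xh6 yh21 zh36) (kh xh9 yh18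 zh30) (kh xh6 yh21 zh38) (kh xh6 yh21 zh39) (kh xh9 yh21 zh28) (kh xh6 yh21 zh41) (kh xh6 yh21 zh42) (kh xh9 yh21 zh34) (kh xh9 yh21 zh35) (kh xh6 yh19 zh45) (kh xh6 yh21 zh46) (kh xh9 yh21 zh38) (kh xh6 yh19 zh47) (kh xh6 yh21 zh49) (kh xh9 yh21 zh40) (kh xh6 yh19 zh49) (kh xh9 yh21 zh42) (kh xh6 yh20 zh1) (kh xh9 yh21 zh13) (kh xh9 yh4 zh39) (kh xh6 yh21 zh44) (kh xh6 yh20 zh11) (kh xh6 yh20 zh10) (kh xh6 yh20 zh7) (kh xh6 yh22 zh4) (kh xh6 yh21 zh40) (kh xh9 yh21 zh27) (kh xh6 yh20 zh40) (kh xh6 yh22 zh5) (kh xh6 yh25 zh23) (kh xh9 yh21 zh47) (kh xh6 yh20 zh17) (kh xh9 yh12 zh38) (kh xh6 yh20 zh19) (kh xh9 yh12 zh40) (kh xh9 yh12 zh41) (kh xh9 yh21 zh50) (kh xh6 yh20 zh23) (kh xh9 yh22 zh2) (kh xh6 yh20 zh24) (kh xh6 yh21 zh22) (kh xh6 yh21 zh24) (kh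 xh9 yh18 zh29) (kh xh9 yh18 zh31) (kh xh9 yh18 zh32) (kh xh9 yh18 zh34) (kh xh9 yh18 zh35) (kh xh9 yh18 zh38) (kh xh9 yh18 zh40)) (@D3.rec (fun _ => Pt) (kh xh9 yh12 zh29) (kh xh9 yh17 zh23) (kh xh9 yh4 zh38) (kh xh9 yh18 zh44) (kh xh9 yh18 zh48) (kh xh9 yh18 zh49) (kh xh9 yh22 zh9) (kh xh6 yh20 zh43) (kh xh6 yh20 zh44) (kh xh9 yh19 zh3) (kh xh9 yh22 zh11) (kh xh6 yh20 zh47) (kh xh9 yh22 zh12) (kh xh6 yh20 zh50) (kh xh8 yh6 zh14) (kh xh6 yh21 zh1) (kh xh8 yh6 zh16) (kh xh8 yh6 zh17) (kh xh6 yh21 zh4) (kh xh6 yh21 zh5) (kh xh9 yh1 zh32) (kh xh9 yh1 zh34) (kh xh9 yh19 zh39) (kh xh9 yh19 zh41) (kh xh9 yh19 zh42) (kh xh9 yh19 zh44) (kh xh9 yh19 zh45) (kh xh9 yh19 zh48) (kh xh9 yh19 zh50) (kh xh6 yh21 zh17) (kh xh8 yh6 zh30) (kh xh9 yh22 zh1) (kh xh6 yh21 zh19)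 (kh xh6 yh21 zh30) (kh xh9 yh22 zh3) (kh xh6 yh21 zh31) (kh xh6 yh21 zh32) (kh xh9 yh2 zh50) (kh xh6 yh21 zh33) (kh xh9 yh3 zh1) (kh xh6 yh21 zh34) (kh xh9 yh3 zh3) (kh xh6 yh21 zh35) (kh xh9 yh3 zh5) (kh xh9 yh22 zh29) (kh xh9 yh22 zh31) (kh xh9 yh22 zh32) (kh xh9 yh22 zh34) (kh xh9 yh22 zh35) (kh xh9 yh22 zh38) (kh xh9 yh22 zh40)) (@D3.rec (fun _ => Pt) (kh xh9 yh21 zh22) (kh xh9 yh21 zh24) (kh xh9 yh21 zh25) (kh xh9 yh21 zh30) (kh xh9 yh21 zh29) (kh xh9 yh22 zh50) (kh xh6 yh21 zh43) (kh xh9 yh21 zh36) (kh xh6 yh21 zh47) (kh xh9 yh23 zh2) (kh xh6 yh21 zh50) (kh xh9 yh2 zh31) (kh xh6 yh22 zh1) (kh xh9 yh2 zh34) (kh xh9 yh2 zh35) (kh xh6 yh22 zh6) (kh xh8 yh7 zh16) (kh xh9 yh23 zh5) (kh xh9 yh23 zh6) (kh xh6 yh22 zh17) (kh xh8 yh14 zh29) (kh xh8 yh14 zh34)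 (kh xh9 yh13 zh47) (kh xh8 yh14 zh39) (kh xh9 yh23 zh12) (kh xh6 yh22 zh22) (kh xh9 yh7 zh5) (kh xh9 yh7 zh3) (kh xh7 yh1 zh11) (kh xh8 yh14 zh40) (kh xh6 yh23 zh17) (kh xh8 yh7 zh31) (kh xh9 yh23 zh15) (kh xh9 yh23 zh16) (kh xh8 yh7 zh34) (kh xh9 yh23 zh18) (kh xh6 yh22 zh36) (kh xh8 yh7 zh37) (kh xh9 yh23 zh20) (kh xh6 yh22 zh38) (kh xh8 yh7 zh40) (kh xh8 yh7 zh41) (kh xh9 yh23 zh24) (kh xh8 yh7 zh43) (kh xh8 yh7 zh44) (kh xh9 yh23 zh27) (kh xh9 yh23 zh28) (kh xh6 yh22 zh44) (kh xh8 yh7 zh48) (kh xh9 yh23 zh30) (kh xh6 yh22 zh46)) (@D3.rec (fun _ => Pt) (kh xh8 yh8 zh0) (kh xh9 yh23 zh32) (kh xh6 yh22 zh48) (kh xh9 yh23 zh34) (kh xh6 yh23 zh0) (kh xh8 yh8 zh5) (kh xh9 yh23 zh37) (kh xh6 yh23 zh4) (kh xh8 yh8 zh8) (kh xh9 yh23 zh39) (kh xh9 yh23 zh40)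 (kh xh9 yh23 zh41) (kh xh6 yh23 zh11) (kh xh8 yh8 zh13) (kh xh9 yh23 zh43) (kh xh6 yh23 zh13) (kh xh6 yh23 zh23) (kh xh6 yh23 zh24) (kh xh9 yh13 zh46) (kh xh6 yh23 zh26) (kh xh9 yh23 zh13) (kh xh8 yh15 zh41) (kh xh8 yh15 zh49) (kh xh9 yh16 zh45) (kh xh8 yh16 zh8) (kh xh9 yh24 zh6) (kh xh6 yh23 zh22) (kh xh8 yh21 zh24) (kh xh9 yh23 zh45) (kh xh9 yh24 zh11) (kh xh9 yh23 zh48) (kh xh9 yh24 zh14) (kh xh6 yh23 zh25) (kh xh9 yh23 zh50) (kh xh9 yh24 zh18) (kh xh6 yh23 zh27) (kh xh7 yh1 zh19) (kh xh9 yh8 zh8) (kh xh7 yh1 zh20) (kh xh9 yh8 zh6) (kh xh7 yh1 zh21) (kh xh8 yh16 zh10) (kh xh9 yh24 zh22) (kh xh8 yh8 zh43) (kh xh8 yh8 zh44) (kh xh9 yh24 zh27) (kh xh9 yh24 zh28) (kh xh6 yh23 zh41) (kh xh8 yh8 zh48) (kh xh9 yh24 zh30) (kh xh6 yh23 zh43)) (@D3.rec (fun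 _ => Pt) (kh xh8 yh9 zh0) (kh xh9 yh24 zh32) (kh xh6 yh23 zh45) (kh xh9 yh24 zh34) (kh xh6 yh23 zh48) (kh xh9 yh24 zh15) (kh xh8 yh9 zh6) (kh xh9 yh24 zh38) (kh xh6 yh24 zh1) (kh xh8 yh9 zh9) (kh xh8 yh9 zh10) (kh xh9 yh24 zh42) (kh xh9 yh24 zh43) (kh xh6 yh24 zh4) (kh xh6 yh24 zh5) (kh xh8 yh9 zh15) (kh xh9 yh24 zh46) (kh xh6 yh24 zh8) (kh xh9 yh24 zh48) (kh xh6 yh24 zh11) (kh xh8 yh9 zh20) (kh xh6 yh24 zh13) (kh xh8 yh9 zh22) (kh xh8 yh9 zh23) (kh xh8 yh9 zh24) (kh xh9 yh25 zh6) (kh xh8 yh9 zh26) (kh xh9 yh25 zh9) (kh xh8 yh9 zh28) (kh xh9 yh25 zh12) (kh xh6 yh24 zh21) (kh xh8 yh9 zh31) (kh xh9 yh25 zh14) (kh xh6 yh24 zh23) (kh xh6 yh25 zh38) (kh xh6 yh25 zh36) (kh xh6 yh25 zh39) (kh xh6 yh25 zh40) (kh xh9 yh25 zh23) (kh xh9 yh21 zh46) (kh xh6 yh24 zh29)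 (kh xh6 yh25 zh42) (kh xh9 yh25 zh26) (kh xh6 yh24 zh31) (kh xh6 yh25 zh44) (kh xh9 yh25 zh28) (kh xh6 yh24 zh33) (kh xh9 yh25 zh30) (kh xh6 yh24 zh36) (kh xh9 yh25 zh15) (kh xh8 yh9 zh50)) (@D3.rec (fun _ => Pt) (kh xh9 yh25 zh34) (kh xh8 yh10 zh1) (kh xh8 yh10 zh2) (kh xh9 yh25 zh41) (kh xh8 yh10 zh4) (kh xh9 yh25 zh44) (kh xh6 yh24 zh42) (kh xh8 yh10 zh7) (kh xh8 yh10 zh8) (kh xh9 yh25 zh50) (kh xh8 yh10 zh10) (kh xh9 yh26 zh1) (kh xh6 yh24 zh45) (kh xh8 yh10 zh13) (kh xh8 yh10 zh14) (kh xh9 yh26 zh6) (kh xh8 yh10 zh16) (kh xh9 yh26 zh9) (kh xh6 yh24 zh48) (kh xh8 yh10 zh19) (kh xh9 yh26 zh13) (kh xh6 yh24 zh50) (kh xh8 yh10 zh22) (kh xh9 yh26 zh16) (kh xh8 yh10 zh24) (kh xh9 yh26 zh19) (kh xh6 yh25 zh3) (kh xh8 yh10 zh27) (kh xh9 yh26 zh23) (kh xh6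 yh25 zh5) (kh xh6 yh25 zh33) (kh xh8 yh10 zh31) (kh xh9 yh26 zh27) (kh xh6 yh25 zh8) (kh xh7 yh1 zh22) (kh xh9 yh10 zh44) (kh xh7 yh1 zh23) (kh xh8 yh18 zh30) (kh xh8 yh18 zh31) (kh xh6 yh25 zh29) (kh xh6 yh25 zh43) (kh xh6 yh25 zh26) (kh xh9 yh26 zh31) (kh xh9 yh21 zh37) (kh xh6 yh25 zh22) (kh xh6 yh25 zh41) (kh xh9 yh25 zh17) (kh xh9 yh26 zh10) (kh xh6 yh25 zh31) (kh xh9 yh26 zh20) (kh xh9 yh26 zh25)) (@D3.rec (fun _ => Pt) (kh xh9 yh25 zh16) (kh xh9 yh25 zh18) (kh xh9 yh25 zh19) (kh xh9 yh25 zh24) (kh xh9 yh26 zh34) (kh xh6 yh25 zh45) (kh xh8 yh11 zh6) (kh xh6 yh25 zh47) (kh xh8 yh11 zh8) (kh xh8 yh11 zh9) (kh xh6 yh25 zh50) (kh xh8 yh11 zh11) (kh xh8 yh11 zh12) (kh xh9 yh7 zh16) (kh xh6 yh26 zh8) (kh xh6 yh26 zh48) (kh xh9 yh8 zh33) (kh xh9 yh8 zh35)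 (kh xh6 yh26 zh11) (kh xh6 yh26 zh12) (kh xh6 yh26 zh26) (kh xh6 yh26 zh16) (kh xh6 yh26 zh29) (kh xh6 yh26 zh21) (kh xh7 yh0 zh22) (kh xh7 yh0 zh12) (kh xh6 yh26 zh22) (kh xh9 yh26 zh40) (kh xh9 yh26 zh41) (kh xh6 yh26 zh30) (kh xh9 yh26 zh42) (kh xh9 yh0 zh1) (kh xh9 yh10 zh10) (kh xh9 yh11 zh47) (kh xh9 yh11 zh49) (kh xh6 yh26 zh37) (kh xh9 yh13 zh8) (kh xh9 yh13 zh44) (kh xh6 yh26 zh45) (kh xh6 yh26 zh46) (kh xh9 yh13 zh20) (kh xh9 yh15 zh11) (kh xh6 yh26 zh49) (kh xh8 yh16 zh42) (kh xh9 yh26 zh47) (kh xh9 yh16 zh41) (kh xh9 yh16 zh43) (kh xh7 yh0 zh2) (kh xh7 yh0 zh3) (kh xh7 yh0 zh17) (kh xh7 yh0 zh6)) (@D3.rec (fun _ => Pt) (kh xh7 yh0 zh19) (kh xh7 yh0 zh20) (kh xh7 yh0 zh13) (kh xh9 yh26 zh43) (kh xh9 yh0 zh19) (kh xh7 yh0 zh14) (kh xh9 yh26 zh50)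 (kh xh10 yh0 zh0) (kh xh9 yh11 zh28) (kh xh10 yh0 zh2) (kh xh7 yh0 zh25) (kh xh9 yh10 zh21) (kh xh7 yh0 zh26) (kh xh8 yh18 zh9) (kh xh10 yh0 zh8) (kh xh10 yh0 zh10) (kh xh9 yh21 zh17) (kh xh9 yh21 zh19) (kh xh7 yh0 zh30) (kh xh7 yh1 zh1) (kh xh7 yh1 zh2) (kh xh7 yh0 zh34) (kh xh8 yh12 zh22) (kh xh7 yh1 zh5) (kh xh7 yh1 zh6) (kh xh8 yh12 zh25) (kh xh8 yh12 zh26) (kh xh8 yh12 zh27) (kh xh8 yh12 zh28) (kh xh9 yh0 zh18) (kh xh9 yh0 zh16) (kh xh9 yh0 zh17) (kh xh8 yh12 zh32) (kh xh10 yh0 zh15) (kh xh10 yh0 zh3) (kh xh8 yh12 zh35) (kh xh10 yh0 zh16) (kh xh8 yh12 zh37) (kh xh10 yh0 zh24) (kh xh7 yh1 zh9) (kh xh8 yh13 zh40) (kh xh9 yh7 zh2) (kh xh7 yh1 zh17) (kh xh8 yh13 zh45) (kh xh9 yh7 zh19) (kh xh7 yh1 zh18) (kh xh10 yh0 zh25) (kh xh9 yh8 zh5) (kh xh9 yh24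 zh20) (kh xh9 yh26 zh28) (kh xh8 yh12 zh50)) (@D3.rec (fun _ => Pt) (kh xh10 yh0 zh30) (kh xh8 yh13 zh1) (kh xh10 yh0 zh33) (kh xh8 yh13 zh3) (kh xh10 yh0 zh36) (kh xh8 yh13 zh5) (kh xh10 yh0 zh39) (kh xh7 yh1 zh40) (kh xh7 yh20 zh6) (kh xh8 yh13 zh9) (kh xh8 yh13 zh10) (kh xh10 yh0 zh42) (kh xh10 yh0 zh43) (kh xh8 yh13 zh13) (kh xh10 yh0 zh46) (kh xh7 yh2 zh1) (kh xh10 yh0 zh47) (kh xh8 yh13 zh17) (kh xh10 yh0 zh50) (kh xh8 yh13 zh19) (kh xh10 yh1 zh2) (kh xh7 yh2 zh9) (kh xh8 yh13 zh22) (kh xh10 yh1 zh5) (kh xh7 yh2 zh11) (kh xh8 yh13 zh25) (kh xh10 yh1 zh9) (kh xh8 yh13 zh27) (kh xh10 yh1 zh11) (kh xh7 yh2 zh16) (kh xh8 yh13 zh30) (kh xh10 yh1 zh14) (kh xh8 yh13 zh32) (kh xh10 yh1 zh17) (kh xh8 yh13 zh34) (kh xh10 yh1 zh20) (kh xh7 yh2 zh23) (kh xh8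 yh13 zh37) (kh xh10 yh1 zh22) (kh xh7 yh2 zh25) (kh xh8 yh12 zh40) (kh xh7 yh18 zh47) (kh xh7 yh2 zh32) (kh xh7 yh18 zh46) (kh xh10 yh1 zh25) (kh xh8 yh12 zh43) (kh xh10 yh1 zh28) (kh xh7 yh19 zh10) (kh xh7 yh2 zh44) (kh xh7 yh4 zh17) (kh xh7 yh19 zh12)) (@D3.rec (fun _ => Pt) (kh xh7 yh2 zh48) (kh xh7 yh4 zh24) (kh xh7 yh20 zh8) (kh xh7 yh19 zh5) (kh xh7 yh20 zh46) (kh xh7 yh19 zh4) (kh xh7 yh19 zh0) (kh xh7 yh19 zh2) (kh xh7 yh3 zh6) (kh xh10 yh1 zh34) (kh xh10 yh1 zh37) (kh xh7 yh3 zh12) (kh xh10 yh1 zh40) (kh xh7 yh3 zh13) (kh xh8 yh14 zh14) (kh xh7 yh3 zh45) (kh xh10 yh1 zh45) (kh xh7 yh20 zh2) (kh xh10 yh1 zh46) (kh xh7 yh3 zh17) (kh xh7 yh3 zh48) (kh xh7 yh4 zh1) (kh xh7 yh3 zh19) (kh xh7 yh4 zh2) (kh xh7 yh3 zh23) (kh xh7 yh4 zh3) (kh xh7 yh20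 zh9) (kh xh7 yh4 zh5) (kh xh10 yh2 zh0) (kh xh8 yh7 zh20) (kh xh7 yh3 zh29) (kh xh8 yh14 zh31) (kh xh7 yh19 zh50) (kh xh7 yh20 zh4) (kh xh8 yh7 zh21) (kh xh7 yh3 zh31) (kh xh7 yh25 zh42) (kh xh8 yh14 zh37) (kh xh10 yh2 zh7) (kh xh8 yh7 zh23) (kh xh8 yh7 zh29) (kh xh10 yh2 zh9) (kh xh7 yh3 zh39) (kh xh10 yh1 zh48) (kh xh7 yh20 zh24) (kh xh7 yh3 zh40) (kh xh10 yh2 zh10) (kh xh10 yh1 zh39) (kh xh10 yh1 zh42) (kh xh8 yh14 zh49) (kh xh10 yh2 zh19)) (@D3.rec (fun _ => Pt) (kh xh8 yh15 zh0) (kh xh10 yh2 zh22) (kh xh7 yh3 zh47) (kh xh10 yh1 zh47) (kh xh7 yh19 zh21) (kh xh7 yh20 zh3) (kh xh10 yh2 zh26) (kh xh7 yh4 zh6) (kh xh10 yh2 zh30) (kh xh10 yh2 zh31) (kh xh7 yh4 zh7) (kh xh10 yh2 zh27) (kh xh7 yh5 zh4) (kh xh7 yh4 zh9) (kh xh8 yh15 zh14) (kh xh7 yh5 zh7)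 (kh xh8 yh15 zh16) (kh xh10 yh2 zh42) (kh xh7 yh4 zh13) (kh xh10 yh2 zh44) (kh xh7 yh4 zh14) (kh xh7 yh4 zh15) (kh xh10 yh1 zh29) (kh xh7 yh5 zh17) (kh xh10 yh1 zh30) (kh xh10 yh3 zh2) (kh xh7 yh5 zh20) (kh xh7 yh21 zh30) (kh xh7 yh4 zh21) (kh xh7 yh5 zh21) (kh xh7 yh5 zh24) (kh xh7 yh19 zh17) (kh xh7 yh5 zh25) (kh xh7 yh9 zh37) (kh xh7 yh21 zh36) (kh xh7 yh9 zh29) (kh xh10 yh3 zh9) (kh xh7 yh4 zh27) (kh xh7 yh21 zh26) (kh xh10 yh3 zh13) (kh xh7 yh4 zh29) (kh xh8 yh8 zh21) (kh xh7 yh4 zh30) (kh xh8 yh15 zh43) (kh xh7 yh21 zh17) (kh xh8 yh15 zh45) (kh xh10 yh3 zh20) (kh xh7 yh21 zh24) (kh xh10 yh3 zh24) (kh xh8 yh8 zh22) (kh xh7 yh4 zh35)) (@D3.rec (fun _ => Pt) (kh xh7 yh21 zh8) (kh xh8 yh1 zh17) (kh xh8 yh1 zh19) (kh xh8 yh16 zh3) (kh xh10 yh3 zh31) (kh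 xh8 yh16 zh5) (kh xh10 yh3 zh34) (kh xh7 yh4 zh42) (kh xh8 yh8 zh24) (kh xh7 yh4 zh43) (kh xh8 yh8 zh41) (kh xh10 yh3 zh37) (kh xh10 yh3 zh39) (kh xh10 yh3 zh40) (kh xh7 yh4 zh49) (kh xh7 yh5 zh3) (kh xh10 yh2 zh28) (kh xh10 yh3 zh46) (kh xh7 yh5 zh0) (kh xh7 yh5 zh1) (kh xh10 yh3 zh41) (kh xh10 yh2 zh33) (kh xh7 yh20 zh36) (kh xh10 yh3 zh43) (kh xh10 yh4 zh8) (kh xh10 yh2 zh38) (kh xh8 yh16 zh26) (kh xh10 yh4 zh11) (kh xh8 yh16 zh28) (kh xh10 yh4 zh14) (kh xh7 yh5 zh9) (kh xh8 yh16 zh31) (kh xh10 yh4 zh17) (kh xh7 yh5 zh11) (kh xh10 yh2 zh45) (kh xh7 yh5 zh13) (kh xh7 yh20 zh21) (kh xh10 yh2 zh46) (kh xh10 yh2 zh48) (kh xh7 yh20 zh15) (kh xh7 yh21 zh23) (kh xh7 yh20 zh29) (kh xh8 yh11 zh43) (kh xh7 yh5 zh19) (kh xh10 yh3 zh3) (kh xh7 yh21 zh31) (kh xh7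 yh24 zh40) (kh xh7 yh25 zh48) (kh xh10 yh4 zh26) (kh xh10 yh4 zh27) (kh xh7 yh5 zh30)) (@D3.rec (fun _ => Pt) (kh xh7 yh5 zh35) (kh xh7 yh6 zh47) (kh xh10 yh4 zh34) (kh xh7 yh5 zh32) (kh xh7 yh5 zh33) (kh xh10 yh4 zh28) (kh xh7 yh7 zh1) (kh xh10 yh4 zh30) (kh xh10 yh4 zh31) (kh xh10 yh4 zh46) (kh xh8 yh17 zh10) (kh xh7 yh7 zh6) (kh xh8 yh17 zh12) (kh xh10 yh5 zh0) (kh xh10 yh5 zh1) (kh xh7 yh5 zh41) (kh xh10 yh5 zh2) (kh xh7 yh5 zh43) (kh xh8 yh17 zh18) (kh xh7 yh7 zh18) (kh xh8 yh17 zh20) (kh xh7 yh7 zh20) (kh xh8 yh17 zh22) (kh xh10 yh5 zh12) (kh xh8 yh17 zh24) (kh xh10 yh5 zh15) (kh xh7 yh5 zh49) (kh xh7 yh6 zh0) (kh xh8 yh17 zh28) (kh xh7 yh7 zh28) (kh xh8 yh17 zh30) (kh xh8 yh17 zh31) (kh xh10 yh5 zh23) (kh xh8 yh17 zh33) (kh xh10 yh5 zh25) (kh xh8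 yh17 zh35) (kh xh10 yh5 zh27) (kh xh7 yh6 zh7) (kh xh8 yh17 zh38) (kh xh10 yh5 zh29) (kh xh7 yh6 zh9) (kh xh10 yh5 zh33) (kh xh7 yh6 zh11) (kh xh10 yh5 zh37) (kh xh10 yh5 zh38) (kh xh7 yh6 zh12) (kh xh10 yh5 zh34) (kh xh7 yh23 zh48) (kh xh7 yh6 zh14) (kh xh8 yh17 zh49) (kh xh7 yh23 zh50)) (@D3.rec (fun _ => Pt) (kh xh8 yh18 zh0) (kh xh8 yh18 zh1) (kh xh10 yh5 zh49) (kh xh10 yh5 zh50) (kh xh7 yh6 zh19) (kh xh10 yh6 zh2) (kh xh10 yh6 zh3) (kh xh7 yh6 zh20) (kh xh7 yh6 zh25) (kh xh8 yh12 zh13) (kh xh10 yh6 zh10) (kh xh7 yh6 zh22) (kh xh7 yh6 zh23) (kh xh10 yh6 zh4) (kh xh8 yh5 zh0) (kh xh10 yh6 zh6) (kh xh10 yh6 zh7) (kh xh10 yh6 zh21) (kh xh8 yh5 zh1) (kh xh8 yh18 zh19) (kh xh10 yh6 zh24) (kh xh8 yh18 zh21) (kh xh10 yh6 zh27) (kh xh7 yh6 zh31) (kh xh8 yh18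 zh24) (kh xh10 yh6 zh30) (kh xh7 yh6 zh33) (kh xh10 yh6 zh31) (kh xh7 yh6 zh35) (kh xh8 yh18 zh29) (kh xh8 yh10 zh37) (kh xh8 yh10 zh38) (kh xh8 yh18 zh32) (kh xh10 yh6 zh36) (kh xh10 yh6 zh37) (kh xh7 yh6 zh41) (kh xh10 yh6 zh39) (kh xh10 yh6 zh41) (kh xh7 yh6 zh43) (kh xh7 yh6 zh44) (kh xh7 yh7 zh0) (kh xh10 yh4 zh29) (kh xh7 yh7 zh2) (kh xh7 yh7 zh3) (kh xh10 yh7 zh3) (kh xh10 yh7 zh4) (kh xh7 yh6 zh48) (kh xh10 yh6 zh42) (kh xh10 yh4 zh36) (kh xh10 yh6 zh44) (kh xh10 yh4 zh38)) (@D3.rec (fun _ => Pt) (kh xh10 yh6 zh46) (kh xh10 yh6 zh47) (kh xh10 yh7 zh18) (kh xh10 yh6 zh49) (kh xh10 yh6 zh50) (kh xh10 yh7 zh24) (kh xh10 yh7 zh1) (kh xh10 yh7 zh27) (kh xh7 yh7 zh4) (kh xh8 yh19 zh9) (kh xh10 yh7 zh30) (kh xh8 yh19 zh11) (kh xh10 yh7 zh33) (kh xh7 yh7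 zh8) (kh xh8 yh19 zh14) (kh xh10 yh7 zh36) (kh xh7 yh7 zh10) (kh xh8 yh19 zh17) (kh xh10 yh7 zh39) (kh xh7 yh7 zh13) (kh xh7 yh7 zh15) (kh xh8 yh19 zh21) (kh xh10 yh5 zh4) (kh xh8 yh19 zh23) (kh xh8 yh19 zh24) (kh xh10 yh7 zh47) (kh xh8 yh19 zh26) (kh xh10 yh7 zh50) (kh xh8 yh19 zh28) (kh xh10 yh8 zh2) (kh xh7 yh7 zh22) (kh xh8 yh19 zh31) (kh xh10 yh8 zh4) (kh xh7 yh7 zh24) (kh xh10 yh5 zh16) (kh xh8 yh19 zh35) (kh xh10 yh8 zh8) (kh xh8 yh19 zh37) (kh xh8 yh19 zh38) (kh xh10 yh8 zh13) (kh xh10 yh8 zh14) (kh xh7 yh7 zh31) (kh xh8 yh19 zh42) (kh xh10 yh8 zh17) (kh xh7 yh7 zh33) (kh xh8 yh19 zh45) (kh xh10 yh8 zh19) (kh xh7 yh7 zh35) (kh xh10 yh8 zh21) (kh xh7 yh7 zh38) (kh xh7 yh16 zh50)) (@D3.rec (fun _ => Pt) (kh xh7 yh7 zh40) (kh xh7 yh7 zh41) (kh xh8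 yh20 zh2) (kh xh8 yh20 zh3) (kh xh7 yh7 zh43) (kh xh7 yh7 zh44) (kh xh8 yh20 zh6) (kh xh8 yh20 zh7) (kh xh8 yh20 zh8) (kh xh8 yh20 zh9) (kh xh10 yh8 zh34) (kh xh8 yh20 zh11) (kh xh8 yh20 zh12) (kh xh7 yh8 zh1) (kh xh8 yh20 zh14) (kh xh7 yh8 zh4) (kh xh8 yh20 zh16) (kh xh8 yh20 zh17) (kh xh8 yh20 zh18) (kh xh10 yh8 zh43) (kh xh8 yh20 zh20) (kh xh10 yh8 zh45) (kh xh10 yh8 zh47) (kh xh7 yh8 zh10) (kh xh7 yh8 zh49) (kh xh10 yh8 zh50) (kh xh10 yh9 zh2) (kh xh7 yh8 zh12) (kh xh10 yh9 zh5) (kh xh7 yh8 zh13) (kh xh8 yh20 zh30) (kh xh7 yh9 zh5) (kh xh10 yh9 zh9) (kh xh10 yh9 zh11) (kh xh10 yh9 zh12) (kh xh7 yh8 zh17) (kh xh8 yh20 zh36) (kh xh7 yh9 zh11) (kh xh7 yh8 zh19) (kh xh7 yh9 zh13) (kh xh10 yh9 zh18) (kh xh7 yh8 zh22) (kh xh10 yh9 zh22) (kh xh10 yh9 zh23)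 (kh xh7 yh8 zh23) (kh xh10 yh9 zh19) (kh xh7 yh9 zh20) (kh xh7 yh8 zh25) (kh xh8 yh20 zh48) (kh xh7 yh9 zh23) (kh xh8 yh20 zh50)) (@D3.rec (fun _ => Pt) (kh xh10 yh9 zh34) (kh xh8 yh21 zh1) (kh xh10 yh9 zh36) (kh xh7 yh8 zh30) (kh xh10 yh9 zh38) (kh xh7 yh8 zh31) (kh xh7 yh8 zh32) (kh xh8 yh21 zh7) (kh xh7 yh9 zh33) (kh xh8 yh21 zh9) (kh xh10 yh9 zh45) (kh xh7 yh9 zh36) (kh xh7 yh21 zh35) (kh xh7 yh8 zh38) (kh xh7 yh9 zh38) (kh xh8 yh21 zh15) (kh xh7 yh9 zh39) (kh xh10 yh9 zh47) (kh xh8 yh21 zh18) (kh xh10 yh9 zh50) (kh xh7 yh8 zh44) (kh xh10 yh10 zh0) (kh xh10 yh10 zh2) (kh xh7 yh8 zh46) (kh xh8 yh8 zh27) (kh xh7 yh8 zh47) (kh xh10 yh8 zh48) (kh xh10 yh10 zh7) (kh xh7 yh8 zh50) (kh xh10 yh10 zh11) (kh xh10 yh10 zh12) (kh xh7 yh9 zh0) (kh xh10 yh10 zh8)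 (kh xh10 yh9 zh4) (kh xh7 yh9 zh2) (kh xh8 yh21 zh35) (kh xh10 yh9 zh6) (kh xh8 yh21 zh37) (kh xh10 yh10 zh22) (kh xh7 yh9 zh6) (kh xh10 yh3 zh7) (kh xh7 yh9 zh7) (kh xh7 yh9 zh8) (kh xh8 yh21 zh43) (kh xh10 yh9 zh13) (kh xh8 yh21 zh45) (kh xh10 yh10 zh30) (kh xh10 yh9 zh16) (kh xh10 yh10 zh32) (kh xh10 yh10 zh33) (kh xh7 yh9 zh14)) (@D3.rec (fun _ => Pt) (kh xh7 yh9 zh19) (kh xh10 yh9 zh20) (kh xh10 yh3 zh0) (kh xh7 yh9 zh16) (kh xh7 yh9 zh17) (kh xh10 yh10 zh34) (kh xh10 yh9 zh25) (kh xh10 yh10 zh36) (kh xh10 yh10 zh37) (kh xh10 yh11 zh1) (kh xh10 yh9 zh30) (kh xh8 yh22 zh11) (kh xh10 yh11 zh3) (kh xh8 yh22 zh13) (kh xh10 yh11 zh6) (kh xh7 yh9 zh25) (kh xh8 yh22 zh16) (kh xh10 yh11 zh9) (kh xh7 yh9 zh27) (kh xh10 yh3 zh5) (kh xh10 yh9 zh39) (kh xh10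 yh9 zh41) (kh xh8 yh22 zh22) (kh xh10 yh11 zh11) (kh xh8 yh22 zh24) (kh xh10 yh11 zh14) (kh xh7 yh9 zh35) (kh xh7 yh9 zh40) (kh xh8 yh22 zh28) (kh xh10 yh11 zh16) (kh xh7 yh9 zh42) (kh xh8 yh22 zh31) (kh xh8 yh22 zh32) (kh xh7 yh9 zh45) (kh xh8 yh22 zh34) (kh xh8 yh22 zh35) (kh xh10 yh11 zh21) (kh xh7 yh9 zh49) (kh xh8 yh22 zh38) (kh xh8 yh22 zh39) (kh xh7 yh10 zh0) (kh xh8 yh22 zh41) (kh xh8 yh22 zh42) (kh xh8 yh22 zh43) (kh xh8 yh22 zh44) (kh xh8 yh22 zh45) (kh xh10 yh11 zh30) (kh xh8 yh22 zh47) (kh xh10 yh11 zh32) (kh xh7 yh10 zh8) (kh xh7 yh10 zh9)) (@D3.rec (fun _ => Pt) (kh xh8 yh23 zh0) (kh xh8 yh23 zh1) (kh xh8 yh23 zh2) (kh xh10 yh11 zh39) (kh xh8 yh23 zh4) (kh xh7 yh10 zh15) (kh xh8 yh23 zh6) (kh xh8 yh23 zh7) (kh xh8 yh23 zh8) (kh xh8 yh23 zh9)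 (kh xh8 yh23 zh10) (kh xh10 yh11 zh49) (kh xh8 yh23 zh12) (kh xh10 yh12 zh1) (kh xh7 yh10 zh21) (kh xh10 yh12 zh3) (kh xh10 yh12 zh6) (kh xh7 yh10 zh23) (kh xh10 yh12 zh9) (kh xh7 yh10 zh24) (kh xh7 yh11 zh30) (kh xh10 yh12 zh13) (kh xh7 yh10 zh27) (kh xh10 yh12 zh17) (kh xh10 yh12 zh18) (kh xh7 yh10 zh28) (kh xh10 yh12 zh14) (kh xh7 yh11 zh37) (kh xh7 yh10 zh30) (kh xh8 yh23 zh29) (kh xh7 yh11 zh40) (kh xh8 yh23 zh31) (kh xh10 yh12 zh28) (kh xh7 yh10 zh34) (kh xh10 yh12 zh30) (kh xh7 yh10 zh35) (kh xh7 yh10 zh36) (kh xh8 yh23 zh37) (kh xh7 yh11 zh48) (kh xh8 yh23 zh39) (kh xh10 yh12 zh38) (kh xh7 yh12 zh0) (kh xh10 yh12 zh41) (kh xh10 yh12 zh42) (kh xh7 yh10 zh42) (kh xh7 yh10 zh47) (kh xh7 yh12 zh5) (kh xh10 yh12 zh49) (kh xh7 yh10 zh44) (kh xh7 yh10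 zh45) (kh xh10 yh12 zh43)) (@D3.rec (fun _ => Pt) (kh xh7 yh12 zh10) (kh xh10 yh12 zh45) (kh xh10 yh12 zh46) (kh xh10 yh13 zh11) (kh xh8 yh24 zh4) (kh xh7 yh12 zh15) (kh xh8 yh24 zh6) (kh xh10 yh13 zh15) (kh xh8 yh24 zh8) (kh xh10 yh13 zh18) (kh xh7 yh11 zh2) (kh xh8 yh24 zh11) (kh xh10 yh13 zh20) (kh xh7 yh11 zh4) (kh xh10 yh13 zh21) (kh xh7 yh11 zh6) (kh xh8 yh24 zh16) (kh xh7 yh12 zh27) (kh xh8 yh24 zh18) (kh xh7 yh12 zh29) (kh xh8 yh24 zh20) (kh xh10 yh13 zh30) (kh xh8 yh24 zh22) (kh xh10 yh13 zh33) (kh xh7 yh11 zh12) (kh xh7 yh11 zh14) (kh xh8 yh24 zh26) (kh xh7 yh12 zh37) (kh xh8 yh24 zh28) (kh xh8 yh24 zh29) (kh xh10 yh13 zh41) (kh xh8 yh24 zh31) (kh xh10 yh13 zh44) (kh xh8 yh24 zh33) (kh xh10 yh13 zh47) (kh xh7 yh11 zh21) (kh xh8 yh24 zh36) (kh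 xh10 yh13 zh49) (kh xh7 yh11 zh23) (kh xh7 yh21 zh40) (kh xh10 yh14 zh3) (kh xh7 yh11 zh25) (kh xh10 yh14 zh7) (kh xh10 yh14 zh8) (kh xh7 yh11 zh26) (kh xh10 yh14 zh4) (kh xh10 yh12 zh8) (kh xh7 yh11 zh28) (kh xh10 yh12 zh10) (kh xh10 yh14 zh16) (kh xh10 yh14 zh17)) (@D3.rec (fun _ => Pt) (kh xh7 yh11 zh31) (kh xh7 yh11 zh36) (kh xh10 yh12 zh15) (kh xh10 yh14 zh24) (kh xh7 yh11 zh33) (kh xh7 yh11 zh34) (kh xh10 yh14 zh18) (kh xh10 yh12 zh20) (kh xh10 yh14 zh20) (kh xh10 yh14 zh21) (kh xh10 yh14 zh36) (kh xh8 yh25 zh11) (kh xh10 yh12 zh24) (kh xh8 yh25 zh13) (kh xh10 yh14 zh41) (kh xh10 yh14 zh42) (kh xh7 yh11 zh42) (kh xh10 yh14 zh43) (kh xh7 yh11 zh44) (kh xh8 yh25 zh19) (kh xh10 yh12 zh32) (kh xh8 yh25 zh21) (kh xh10 yh12 zh33) (kh xh8 yh25 zh23) (kh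 xh10 yh15 zh2) (kh xh8 yh25 zh25) (kh xh10 yh15 zh5) (kh xh7 yh11 zh50) (kh xh10 yh15 zh7) (kh xh10 yh15 zh9) (kh xh7 yh12 zh1) (kh xh7 yh12 zh2) (kh xh7 yh12 zh9) (kh xh10 yh12 zh44) (kh xh7 yh12 zh11) (kh xh7 yh12 zh12) (kh xh10 yh15 zh22) (kh xh10 yh15 zh23) (kh xh7 yh12 zh6) (kh xh10 yh15 zh10) (kh xh10 yh13 zh0) (kh xh10 yh15 zh12) (kh xh10 yh13 zh2) (kh xh10 yh15 zh14) (kh xh10 yh15 zh15) (kh xh10 yh15 zh37) (kh xh10 yh15 zh17) (kh xh10 yh15 zh18) (kh xh10 yh15 zh43) (kh xh10 yh15 zh20) (kh xh10 yh15 zh46)) (@D3.rec (fun _ => Pt) (kh xh7 yh12 zh13) (kh xh8 yh26 zh1) (kh xh10 yh15 zh49) (kh xh8 yh26 zh3) (kh xh10 yh16 zh1) (kh xh7 yh12 zh17) (kh xh8 yh26 zh6) (kh xh10 yh16 zh4) (kh xh7 yh12 zh19) (kh xh8 yh26 zh9) (kh xh10 yh16 zh7) (kh xh7 yh12 zh22)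 (kh xh7 yh12 zh24) (kh xh8 yh26 zh13) (kh xh10 yh13 zh23) (kh xh8 yh26 zh15) (kh xh8 yh26 zh16) (kh xh10 yh16 zh16) (kh xh8 yh26 zh18) (kh xh10 yh16 zh18) (kh xh8 yh26 zh20) (kh xh10 yh16 zh21) (kh xh7 yh12 zh31) (kh xh8 yh26 zh23) (kh xh10 yh16 zh23) (kh xh7 yh12 zh33) (kh xh10 yh13 zh34) (kh xh8 yh26 zh27) (kh xh10 yh16 zh26) (kh xh8 yh26 zh29) (kh xh8 yh26 zh30) (kh xh10 yh16 zh31) (kh xh10 yh16 zh32) (kh xh7 yh12 zh40) (kh xh7 yh12 zh41) (kh xh8 yh26 zh35) (kh xh10 yh16 zh34) (kh xh7 yh12 zh43) (kh xh10 yh16 zh35) (kh xh7 yh12 zh46) (kh xh7 yh26 zh8) (kh xh8 yh26 zh41) (kh xh8 yh26 zh42) (kh xh10 yh16 zh38) (kh xh8 yh26 zh44) (kh xh8 yh26 zh45) (kh xh8 yh26 zh46) (kh xh10 yh16 zh42) (kh xh7 yh13 zh3) (kh xh8 yh26 zh49) (kh xh8 yh26 zh50))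
def f_h_9 : D2 → D3 → Pt := @D2.rec (fun _ => D3 → Pt) (@D3.rec (fun _ => Pt) (kh xh7 yh17 zh24) (kh xh8 yh11 zh31) (kh xh9 yh0 zh2) (kh xh9 yh0 zh3) (kh xh9 yh0 zh4) (kh xh10 yh16 zh47) (kh xh9 yh0 zh6) (kh xh10 yh16 zh50) (kh xh7 yh13 zh13) (kh xh9 yh0 zh9) (kh xh10 yh17 zh1) (kh xh7 yh13 zh15) (kh xh9 yh0 zh12) (kh xh9 yh0 zh13) (kh xh9 yh0 zh14) (kh xh7 yh17 zh0) (kh xh8 yh12 zh30) (kh xh8 yh12 zh31) (kh xh8 yh12 zh29) (kh xh8 yh12 zh4) (kh xh10 yh17 zh5) (kh xh10 yh17 zh6) (kh xh7 yh13 zh30) (kh xh8 yh2 zh32) (kh xh7 yh15 zh2) (kh xh7 yh13 zh32) (kh xh7 yh15 zh4) (kh xh10 yh17 zh13) (kh xh7 yh13 zh35) (kh xh7 yh13 zh36) (kh xh8 yh2 zh29) (kh xh7 yh15 zh14) (kh xh8 yh2 zh33) (kh xh10 yh17 zh21) (kh xh9 yh0 zh34) (kh xh7 yh15 zh19) (kh xh9 yh0 zh36)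 (kh xh10 yh17 zh26) (kh xh10 yh17 zh27) (kh xh7 yh13 zh44) (kh xh10 yh17 zh28) (kh xh7 yh13 zh46) (kh xh7 yh15 zh27) (kh xh7 yh15 zh29) (kh xh10 yh17 zh31) (kh xh10 yh17 zh33) (kh xh7 yh14 zh0) (kh xh7 yh14 zh1) (kh xh7 yh14 zh8) (kh xh7 yh15 zh39) (kh xh7 yh14 zh11)) (@D3.rec (fun _ => Pt) (kh xh10 yh17 zh41) (kh xh10 yh17 zh42) (kh xh7 yh14 zh5) (kh xh10 yh17 zh34) (kh xh7 yh15 zh46) (kh xh10 yh17 zh36) (kh xh7 yh15 zh48) (kh xh8 yh2 zh7) (kh xh10 yh17 zh38) (kh xh10 yh18 zh5) (kh xh7 yh23 zh1) (kh xh7 yh22 zh37) (kh xh10 yh18 zh8) (kh xh10 yh5 zh41) (kh xh10 yh18 zh11) (kh xh7 yh14 zh12) (kh xh9 yh1 zh16) (kh xh10 yh18 zh14) (kh xh9 yh1 zh18) (kh xh10 yh18 zh17) (kh xh7 yh14 zh16) (kh xh9 yh1 zh21) (kh xh10 yh18 zh20) (kh xh7 yh14 zh18) (kh xh9 yh1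 zh24) (kh xh10 yh18 zh23) (kh xh7 yh14 zh21) (kh xh7 yh14 zh23) (kh xh7 yh17 zh9) (kh xh7 yh16 zh20) (kh xh7 yh17 zh10) (kh xh7 yh17 zh11) (kh xh8 yh6 zh20) (kh xh7 yh17 zh12) (kh xh8 yh6 zh21) (kh xh7 yh17 zh13) (kh xh8 yh3 zh31) (kh xh8 yh3 zh24) (kh xh7 yh17 zh14) (kh xh7 yh16 zh33) (kh xh7 yh17 zh16) (kh xh7 yh17 zh17) (kh xh10 yh18 zh38) (kh xh7 yh17 zh19) (kh xh7 yh17 zh18) (kh xh10 yh18 zh37) (kh xh10 yh18 zh36) (kh xh7 yh14 zh38) (kh xh10 yh17 zh3) (kh xh7 yh14 zh40) (kh xh10 yh18 zh40)) (@D3.rec (fun _ => Pt) (kh xh7 yh14 zh42) (kh xh10 yh16 zh43) (kh xh7 yh14 zh45) (kh xh10 yh5 zh30) (kh xh10 yh18 zh44) (kh xh10 yh18 zh45) (kh xh7 yh14 zh47) (kh xh7 yh15 zh1) (kh xh8 yh3 zh1) (kh xh10 yh18 zh50) (kh xh7 yh14 zh49) (kh xh7 yh14 zh50) (kh xh10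 yh18 zh46) (kh xh10 yh17 zh8) (kh xh10 yh5 zh42) (kh xh10 yh19 zh7) (kh xh10 yh17 zh11) (kh xh10 yh19 zh9) (kh xh10 yh19 zh11) (kh xh7 yh15 zh5) (kh xh7 yh15 zh6) (kh xh7 yh15 zh13) (kh xh8 yh2 zh50) (kh xh7 yh15 zh16) (kh xh10 yh19 zh19) (kh xh10 yh19 zh20) (kh xh7 yh15 zh10) (kh xh10 yh19 zh12) (kh xh10 yh17 zh15) (kh xh10 yh19 zh14) (kh xh10 yh17 zh17) (kh xh8 yh7 zh11) (kh xh10 yh19 zh16) (kh xh10 yh19 zh34) (kh xh8 yh7 zh13) (kh xh8 yh7 zh14) (kh xh10 yh19 zh37) (kh xh10 yh19 zh38) (kh xh7 yh15 zh17) (kh xh9 yh2 zh39) (kh xh10 yh19 zh41) (kh xh9 yh2 zh41) (kh xh10 yh19 zh43) (kh xh7 yh15 zh21) (kh xh7 yh15 zh22) (kh xh7 yh15 zh24) (kh xh7 yh17 zh34) (kh xh10 yh17 zh29) (kh xh7 yh17 zh35) (kh xh7 yh17 zh36) (kh xh8 yh6 zh37)) (@D3.rec (fun _ => Pt)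 (kh xh7 yh17 zh37) (kh xh8 yh6 zh39) (kh xh7 yh17 zh38) (kh xh8 yh6 zh41) (kh xh7 yh17 zh39) (kh xh8 yh6 zh43) (kh xh10 yh20 zh8) (kh xh7 yh15 zh34) (kh xh10 yh20 zh11) (kh xh7 yh15 zh35) (kh xh7 yh15 zh45) (kh xh10 yh17 zh35) (kh xh7 yh15 zh47) (kh xh10 yh17 zh37) (kh xh7 yh15 zh49) (kh xh7 yh15 zh50) (kh xh10 yh20 zh25) (kh xh7 yh16 zh1) (kh xh7 yh16 zh2) (kh xh10 yh20 zh29) (kh xh7 yh16 zh4) (kh xh10 yh20 zh32) (kh xh7 yh15 zh42) (kh xh7 yh15 zh43) (kh xh10 yh20 zh12) (kh xh10 yh17 zh44) (kh xh10 yh20 zh14) (kh xh10 yh20 zh15) (kh xh10 yh20 zh43) (kh xh10 yh20 zh17) (kh xh10 yh20 zh18) (kh xh10 yh20 zh49) (kh xh10 yh20 zh20) (kh xh10 yh20 zh21) (kh xh10 yh21 zh4) (kh xh10 yh20 zh23) (kh xh10 yh21 zh7) (kh xh7 yh16 zh0) (kh xh10 yh7 zh20) (kh xh10 yh7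 zh19) (kh xh10 yh21 zh11) (kh xh10 yh20 zh27) (kh xh10 yh21 zh14) (kh xh7 yh16 zh3) (kh xh10 yh20 zh30) (kh xh10 yh21 zh18) (kh xh7 yh16 zh5) (kh xh9 yh3 zh47) (kh xh10 yh21 zh22) (kh xh7 yh16 zh8) (kh xh9 yh3 zh50)) (@D3.rec (fun _ => Pt) (kh xh10 yh21 zh25) (kh xh7 yh16 zh10) (kh xh9 yh4 zh2) (kh xh10 yh21 zh28) (kh xh7 yh16 zh13) (kh xh10 yh21 zh19) (kh xh10 yh21 zh31) (kh xh7 yh16 zh16) (kh xh7 yh18 zh8) (kh xh10 yh18 zh25) (kh xh7 yh18 zh10) (kh xh7 yh18 zh11) (kh xh10 yh21 zh39) (kh xh7 yh18 zh13) (kh xh7 yh18 zh14) (kh xh10 yh21 zh45) (kh xh10 yh21 zh46) (kh xh7 yh16 zh23) (kh xh7 yh18 zh18) (kh xh10 yh21 zh49) (kh xh7 yh16 zh25) (kh xh7 yh18 zh21) (kh xh10 yh22 zh0) (kh xh7 yh16 zh27) (kh xh10 yh22 zh2) (kh xh7 yh16 zh30) (kh xh10 yh21 zh15) (kh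 xh7 yh18 zh27) (kh xh7 yh18 zh28) (kh xh10 yh22 zh8) (kh xh7 yh18 zh30) (kh xh7 yh18 zh29) (kh xh10 yh22 zh7) (kh xh10 yh22 zh6) (kh xh7 yh16 zh36) (kh xh7 yh18 zh32) (kh xh7 yh18 zh33) (kh xh10 yh22 zh16) (kh xh8 yh6 zh2) (kh xh8 yh5 zh21) (kh xh7 yh16 zh39) (kh xh7 yh16 zh40) (kh xh7 yh18 zh37) (kh xh10 yh22 zh21) (kh xh7 yh16 zh43) (kh xh10 yh22 zh23) (kh xh7 yh16 zh46) (kh xh10 yh8 zh20) (kh xh7 yh16 zh48) (kh xh10 yh8 zh22) (kh xh10 yh8 zh23)) (@D3.rec (fun _ => Pt) (kh xh10 yh22 zh27) (kh xh7 yh17 zh2) (kh xh10 yh22 zh30) (kh xh7 yh17 zh3) (kh xh7 yh17 zh45) (kh xh7 yh17 zh47) (kh xh10 yh18 zh24) (kh xh10 yh18 zh26) (kh xh10 yh18 zh27) (kh xh10 yh18 zh29) (kh xh10 yh18 zh30) (kh xh7 yh17 zh22) (kh xh9 yh5 zh12) (kh xh10 yh22 zh32) (kh xh7 yh17 zh27)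 (kh xh10 yh22 zh14) (kh xh7 yh17 zh28) (kh xh8 yh2 zh46) (kh xh8 yh2 zh48) (kh xh10 yh19 zh45) (kh xh10 yh19 zh47) (kh xh10 yh19 zh48) (kh xh10 yh19 zh50) (kh xh10 yh20 zh0) (kh xh10 yh20 zh4) (kh xh10 yh22 zh42) (kh xh7 yh17 zh40) (kh xh9 yh5 zh27) (kh xh10 yh22 zh29) (kh xh7 yh17 zh42) (kh xh7 yh18 zh2) (kh xh10 yh22 zh31) (kh xh7 yh18 zh3) (kh xh7 yh18 zh4) (kh xh8 yh3 zh49) (kh xh7 yh18 zh5) (kh xh8 yh4 zh0) (kh xh7 yh18 zh6) (kh xh8 yh4 zh2) (kh xh7 yh18 zh7) (kh xh8 yh4 zh4) (kh xh10 yh22 zh12) (kh xh10 yh22 zh49) (kh xh10 yh23 zh0) (kh xh10 yh23 zh1) (kh xh10 yh23 zh4) (kh xh10 yh23 zh6) (kh xh10 yh21 zh32) (kh xh10 yh21 zh33) (kh xh10 yh22 zh10) (kh xh10 yh21 zh35)) (@D3.rec (fun _ => Pt) (kh xh10 yh21 zh36) (kh xh10 yh23 zh19) (kh xh10 yh22 zh5)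 (kh xh7 yh18 zh12) (kh xh10 yh21 zh40) (kh xh10 yh21 zh41) (kh xh10 yh23 zh21) (kh xh10 yh23 zh22) (kh xh10 yh23 zh24) (kh xh7 yh18 zh15) (kh xh7 yh18 zh16) (kh xh10 yh21 zh47) (kh xh10 yh23 zh28) (kh xh7 yh18 zh19) (kh xh10 yh23 zh30) (kh xh7 yh18 zh22) (kh xh8 yh3 zh39) (kh xh7 yh18 zh24) (kh xh8 yh3 zh41) (kh xh7 yh22 zh7) (kh xh10 yh22 zh9) (kh xh10 yh23 zh33) (kh xh7 yh18 zh34) (kh xh9 yh6 zh23) (kh xh9 yh6 zh24) (kh xh10 yh23 zh35) (kh xh7 yh18 zh38) (kh xh9 yh6 zh27) (kh xh7 yh18 zh40) (kh xh9 yh6 zh29) (kh xh9 yh6 zh30) (kh xh7 yh18 zh50) (kh xh10 yh1 zh32) (kh xh10 yh23 zh37) (kh xh10 yh1 zh27) (kh xh7 yh19 zh6) (kh xh7 yh21 zh20) (kh xh7 yh21 zh22) (kh xh10 yh2 zh47) (kh xh7 yh19 zh11) (kh xh7 yh21 zh37) (kh xh7 yh19 zh20) (kh xh10 yh23 zh38)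 (kh xh7 yh19 zh45) (kh xh7 yh19 zh46) (kh xh7 yh19 zh27) (kh xh7 yh19 zh48) (kh xh10 yh2 zh14) (kh xh7 yh25 zh40) (kh xh7 yh25 zh38) (kh xh7 yh24 zh33)) (@D3.rec (fun _ => Pt) (kh xh7 yh25 zh4) (kh xh7 yh19 zh35) (kh xh8 yh12 zh41) (kh xh8 yh7 zh27) (kh xh10 yh23 zh46) (kh xh8 yh7 zh26) (kh xh7 yh19 zh44) (kh xh10 yh23 zh39) (kh xh7 yh19 zh42) (kh xh7 yh25 zh35) (kh xh10 yh2 zh23) (kh xh10 yh2 zh3) (kh xh7 yh25 zh32) (kh xh10 yh24 zh7) (kh xh7 yh25 zh26) (kh xh10 yh23 zh42) (kh xh8 yh11 zh13) (kh xh10 yh2 zh1) (kh xh7 yh20 zh5) (kh xh8 yh12 zh44) (kh xh10 yh1 zh35) (kh xh10 yh1 zh49) (kh xh7 yh24 zh47) (kh xh10 yh23 zh50) (kh xh7 yh24 zh39) (kh xh7 yh25 zh46) (kh xh10 yh24 zh15) (kh xh7 yh20 zh12) (kh xh7 yh20 zh17) (kh xh7 yh21 zh2) (kh xh10 yh4 zh19)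 (kh xh7 yh20 zh14) (kh xh10 yh24 zh16) (kh xh7 yh21 zh7) (kh xh10 yh24 zh18) (kh xh10 yh24 zh24) (kh xh7 yh21 zh11) (kh xh7 yh21 zh21) (kh xh10 yh24 zh25) (kh xh7 yh20 zh25) (kh xh10 yh24 zh26) (kh xh7 yh20 zh30) (kh xh10 yh4 zh3) (kh xh7 yh21 zh15) (kh xh7 yh21 zh13) (kh xh7 yh20 zh34) (kh xh10 yh4 zh0) (kh xh8 yh1 zh15) (kh xh10 yh4 zh4) (kh xh10 yh24 zh35) (kh xh8 yh1 zh13)) (@D3.rec (fun _ => Pt) (kh xh7 yh26 zh15) (kh xh7 yh26 zh48) (kh xh7 yh26 zh49) (kh xh10 yh24 zh38) (kh xh7 yh20 zh43) (kh xh8 yh12 zh47) (kh xh8 yh8 zh39) (kh xh10 yh1 zh31) (kh xh8 yh8 zh37) (kh xh10 yh24 zh43) (kh xh7 yh20 zh48) (kh xh7 yh20 zh50) (kh xh7 yh21 zh6) (kh xh10 yh24 zh17) (kh xh7 yh21 zh9) (kh xh10 yh24 zh49) (kh xh10 yh24 zh50) (kh xh7 yh21 zh3) (kh xh10 yh24 zh44)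 (kh xh10 yh24 zh21) (kh xh8 yh1 zh5) (kh xh10 yh4 zh21) (kh xh10 yh3 zh25) (kh xh8 yh1 zh2) (kh xh10 yh25 zh12) (kh xh10 yh3 zh14) (kh xh10 yh3 zh27) (kh xh10 yh25 zh17) (kh xh10 yh24 zh47) (kh xh10 yh25 zh20) (kh xh7 yh21 zh10) (kh xh8 yh0 zh42) (kh xh10 yh24 zh28) (kh xh8 yh11 zh16) (kh xh10 yh3 zh15) (kh xh8 yh11 zh17) (kh xh10 yh3 zh16) (kh xh7 yh21 zh18) (kh xh10 yh2 zh43) (kh xh10 yh4 zh20) (kh xh10 yh3 zh21) (kh xh7 yh22 zh10) (kh xh10 yh25 zh26) (kh xh10 yh3 zh22) (kh xh10 yh2 zh50) (kh xh10 yh3 zh10) (kh xh10 yh25 zh36) (kh xh7 yh21 zh25) (kh xh10 yh25 zh37) (kh xh7 yh21 zh27) (kh xh7 yh21 zh34)) (@D3.rec (fun _ => Pt) (kh xh10 yh3 zh4) (kh xh7 yh26 zh50) (kh xh8 yh1 zh35) (kh xh7 yh24 zh15) (kh xh10 yh9 zh37) (kh xh10 yh3 zh6) (kh xh10 yh14 zh0)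 (kh xh10 yh25 zh44) (kh xh7 yh21 zh38) (kh xh10 yh25 zh45) (kh xh7 yh21 zh41) (kh xh8 yh2 zh1) (kh xh9 yh9 zh12) (kh xh10 yh25 zh50) (kh xh7 yh21 zh44) (kh xh9 yh9 zh15) (kh xh10 yh26 zh1) (kh xh7 yh21 zh46) (kh xh10 yh26 zh3) (kh xh10 yh26 zh4) (kh xh7 yh21 zh48) (kh xh7 yh21 zh49) (kh xh7 yh22 zh5) (kh xh7 yh23 zh24) (kh xh10 yh26 zh10) (kh xh10 yh25 zh30) (kh xh7 yh22 zh2) (kh xh10 yh26 zh5) (kh xh7 yh23 zh31) (kh xh10 yh26 zh7) (kh xh7 yh23 zh33) (kh xh10 yh23 zh32) (kh xh10 yh26 zh20) (kh xh10 yh17 zh9) (kh xh10 yh26 zh23) (kh xh7 yh22 zh8) (kh xh7 yh24 zh2) (kh xh9 yh9 zh37) (kh xh10 yh26 zh26) (kh xh9 yh9 zh39) (kh xh10 yh26 zh29) (kh xh9 yh9 zh41) (kh xh10 yh26 zh32) (kh xh7 yh22 zh17) (kh xh9 yh9 zh44) (kh xh10 yh26 zh34) (kh xh7 yh22 zh19) (kh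 xh9 yh9 zh47) (kh xh10 yh26 zh38) (kh xh7 yh22 zh23) (kh xh9 yh9 zh50)) (@D3.rec (fun _ => Pt) (kh xh10 yh26 zh41) (kh xh7 yh22 zh25) (kh xh9 yh10 zh2) (kh xh10 yh26 zh43) (kh xh7 yh22 zh27) (kh xh10 yh26 zh45) (kh xh7 yh22 zh30) (kh xh8 yh3 zh20) (kh xh10 yh26 zh48) (kh xh7 yh22 zh32) (kh xh8 yh11 zh32) (kh xh10 yh26 zh50) (kh xh7 yh22 zh34) (kh xh7 yh22 zh35) (kh xh10 yh18 zh1) (kh xh7 yh23 zh46) (kh xh11 yh0 zh5) (kh xh7 yh23 zh44) (kh xh7 yh22 zh41) (kh xh7 yh22 zh42) (kh xh7 yh22 zh49) (kh xh8 yh12 zh11) (kh xh7 yh23 zh0) (kh xh11 yh0 zh13) (kh xh11 yh0 zh14) (kh xh7 yh22 zh46) (kh xh11 yh0 zh6) (kh xh8 yh4 zh49) (kh xh11 yh0 zh8) (kh xh8 yh4 zh47) (kh xh11 yh0 zh10) (kh xh10 yh18 zh0) (kh xh11 yh0 zh28) (kh xh10 yh4 zh43) (kh xh10 yh4 zh42) (kh xh11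 yh0 zh31) (kh xh11 yh0 zh32) (kh xh7 yh23 zh2) (kh xh8 yh2 zh3) (kh xh8 yh2 zh38) (kh xh8 yh2 zh2) (kh xh8 yh2 zh40) (kh xh7 yh23 zh8) (kh xh9 yh10 zh43) (kh xh8 yh10 zh35) (kh xh9 yh10 zh45) (kh xh9 yh10 zh46) (kh xh11 yh0 zh45) (kh xh9 yh10 zh48) (kh xh11 yh0 zh48) (kh xh9 yh10 zh50)) (@D3.rec (fun _ => Pt) (kh xh11 yh1 zh0) (kh xh7 yh23 zh15) (kh xh9 yh11 zh2) (kh xh11 yh1 zh2) (kh xh7 yh23 zh17) (kh xh7 yh23 zh19) (kh xh11 yh1 zh6) (kh xh7 yh23 zh20) (kh xh7 yh23 zh30) (kh xh10 yh26 zh6) (kh xh7 yh23 zh32) (kh xh10 yh26 zh8) (kh xh7 yh23 zh34) (kh xh7 yh23 zh35) (kh xh11 yh1 zh19) (kh xh7 yh23 zh37) (kh xh7 yh23 zh38) (kh xh11 yh1 zh23) (kh xh7 yh23 zh40) (kh xh11 yh1 zh26) (kh xh7 yh23 zh27) (kh xh7 yh23 zh28) (kh xh11 yh1 zh7) (kh xh10 yh26 zh12)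 (kh xh11 yh1 zh9) (kh xh11 yh1 zh10) (kh xh11 yh1 zh37) (kh xh11 yh1 zh12) (kh xh8 yh12 zh8) (kh xh11 yh1 zh43) (kh xh11 yh1 zh14) (kh xh11 yh1 zh15) (kh xh11 yh1 zh49) (kh xh11 yh1 zh17) (kh xh11 yh2 zh1) (kh xh7 yh23 zh36) (kh xh10 yh21 zh9) (kh xh11 yh1 zh20) (kh xh11 yh2 zh6) (kh xh10 yh26 zh21) (kh xh11 yh2 zh9) (kh xh7 yh23 zh39) (kh xh11 yh1 zh24) (kh xh11 yh2 zh13) (kh xh7 yh23 zh41) (kh xh8 yh0 zh41) (kh xh11 yh0 zh3) (kh xh8 yh11 zh33) (kh xh11 yh0 zh1) (kh xh8 yh11 zh34) (kh xh10 yh5 zh40)) (@D3.rec (fun _ => Pt) (kh xh10 yh5 zh44) (kh xh9 yh12 zh1) (kh xh10 yh25 zh32) (kh xh9 yh12 zh3) (kh xh9 yh12 zh4) (kh xh11 yh2 zh24) (kh xh9 yh12 zh6) (kh xh9 yh12 zh7) (kh xh11 yh2 zh30) (kh xh11 yh2 zh31) (kh xh7 yh24 zh5) (kh xh9 yh12 zh11) (kh xh11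 yh2 zh34) (kh xh7 yh24 zh7) (kh xh9 yh12 zh14) (kh xh11 yh2 zh36) (kh xh7 yh24 zh9) (kh xh11 yh2 zh38) (kh xh7 yh24 zh12) (kh xh11 yh2 zh10) (kh xh11 yh2 zh41) (kh xh9 yh12 zh21) (kh xh9 yh12 zh22) (kh xh11 yh2 zh44) (kh xh11 yh2 zh45) (kh xh7 yh24 zh18) (kh xh9 yh12 zh26) (kh xh9 yh12 zh27) (kh xh11 yh2 zh48) (kh xh8 yh6 zh0) (kh xh11 yh2 zh50) (kh xh7 yh24 zh21) (kh xh7 yh24 zh22) (kh xh9 yh12 zh33) (kh xh11 yh3 zh2) (kh xh7 yh24 zh25) (kh xh11 yh3 zh3) (kh xh7 yh24 zh28) (kh xh8 yh5 zh34) (kh xh7 yh24 zh30) (kh xh8 yh5 zh36) (kh xh8 yh5 zh37) (kh xh7 yh24 zh34) (kh xh7 yh24 zh35) (kh xh11 yh3 zh5) (kh xh7 yh25 zh15) (kh xh7 yh25 zh17) (kh xh7 yh25 zh22) (kh xh9 yh12 zh48) (kh xh11 yh3 zh13) (kh xh7 yh25 zh25)) (@D3.rec (fun _ => Pt) (kh xh7 yh24 zh49)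 (kh xh7 yh25 zh28) (kh xh10 yh23 zh41) (kh xh7 yh25 zh33) (kh xh11 yh3 zh14) (kh xh11 yh3 zh7) (kh xh11 yh3 zh20) (kh xh7 yh25 zh37) (kh xh8 yh11 zh36) (kh xh10 yh23 zh45) (kh xh11 yh3 zh21) (kh xh7 yh25 zh7) (kh xh7 yh25 zh14) (kh xh11 yh3 zh6) (kh xh7 yh25 zh11) (kh xh7 yh25 zh12) (kh xh10 yh23 zh43) (kh xh11 yh3 zh8) (kh xh11 yh3 zh22) (kh xh11 yh3 zh29) (kh xh8 yh11 zh40) (kh xh11 yh3 zh30) (kh xh7 yh25 zh18) (kh xh9 yh13 zh23) (kh xh10 yh24 zh14) (kh xh10 yh4 zh23) (kh xh11 yh3 zh32) (kh xh11 yh3 zh33) (kh xh7 yh25 zh24) (kh xh7 yh25 zh34) (kh xh11 yh3 zh36) (kh xh11 yh3 zh37) (kh xh7 yh25 zh29) (kh xh10 yh24 zh5) (kh xh10 yh24 zh13) (kh xh10 yh4 zh22) (kh xh10 yh24 zh3) (kh xh11 yh3 zh43) (kh xh11 yh3 zh34) (kh xh10 yh24 zh0) (kh xh11 yh3 zh49) (kh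 xh10 yh23 zh49) (kh xh11 yh4 zh1) (kh xh7 yh25 zh36) (kh xh8 yh11 zh37) (kh xh10 yh2 zh4) (kh xh8 yh8 zh18) (kh xh8 yh7 zh22) (kh xh7 yh25 zh43) (kh xh9 yh13 zh49) (kh xh9 yh13 zh50)) (@D3.rec (fun _ => Pt) (kh xh9 yh14 zh0) (kh xh11 yh4 zh6) (kh xh10 yh16 zh36) (kh xh9 yh14 zh3) (kh xh11 yh4 zh8) (kh xh7 yh25 zh50) (kh xh9 yh14 zh6) (kh xh11 yh4 zh10) (kh xh7 yh26 zh1) (kh xh9 yh14 zh9) (kh xh11 yh4 zh12) (kh xh7 yh26 zh6) (kh xh9 yh14 zh12) (kh xh10 yh13 zh50) (kh xh9 yh14 zh14) (kh xh11 yh4 zh15) (kh xh7 yh26 zh10) (kh xh11 yh4 zh16) (kh xh7 yh26 zh13) (kh xh10 yh24 zh36) (kh xh11 yh4 zh17) (kh xh7 yh26 zh16) (kh xh7 yh26 zh21) (kh xh8 yh0 zh21) (kh xh11 yh4 zh21) (kh xh7 yh26 zh18) (kh xh7 yh26 zh19) (kh xh11 yh4 zh18) (kh xh8 yh0 zh26) (kh xh10 yh15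 zh39) (kh xh11 yh4 zh29) (kh xh8 yh0 zh29) (kh xh10 yh25 zh39) (kh xh7 yh26 zh25) (kh xh9 yh14 zh34) (kh xh8 yh0 zh33) (kh xh8 yh0 zh35) (kh xh9 yh14 zh37) (kh xh11 yh4 zh35) (kh xh9 yh14 zh39) (kh xh11 yh4 zh38) (kh xh7 yh26 zh31) (kh xh7 yh26 zh33) (kh xh7 yh26 zh40) (kh xh8 yh0 zh45) (kh xh7 yh26 zh42) (kh xh7 yh26 zh43) (kh xh11 yh4 zh46) (kh xh10 yh25 zh29) (kh xh7 yh26 zh37) (kh xh11 yh4 zh39)) (@D3.rec (fun _ => Pt) (kh xh8 yh1 zh1) (kh xh10 yh24 zh27) (kh xh8 yh1 zh3) (kh xh11 yh4 zh41) (kh xh11 yh4 zh24) (kh xh11 yh5 zh6) (kh xh11 yh4 zh43) (kh xh10 yh15 zh38) (kh xh11 yh5 zh11) (kh xh11 yh5 zh12) (kh xh7 yh26 zh44) (kh xh8 yh11 zh41) (kh xh8 yh0 zh17) (kh xh10 yh24 zh37) (kh xh8 yh1 zh22) (kh xh9 yh15 zh15) (kh xh9 yh15 zh16) (kh xh11 yh5 zh17)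 (kh xh11 yh5 zh18) (kh xh8 yh0 zh5) (kh xh9 yh15 zh20) (kh xh11 yh5 zh20) (kh xh8 yh0 zh7) (kh xh11 yh5 zh22) (kh xh8 yh0 zh11) (kh xh11 yh5 zh23) (kh xh8 yh0 zh14) (kh xh10 yh9 zh46) (kh xh11 yh3 zh26) (kh xh11 yh0 zh33) (kh xh8 yh0 zh18) (kh xh8 yh0 zh25) (kh xh11 yh4 zh19) (kh xh8 yh0 zh27) (kh xh11 yh5 zh32) (kh xh11 yh5 zh33) (kh xh8 yh0 zh22) (kh xh11 yh5 zh26) (kh xh11 yh4 zh23) (kh xh10 yh24 zh32) (kh xh11 yh4 zh25) (kh xh11 yh5 zh28) (kh xh11 yh5 zh41) (kh xh11 yh5 zh30) (kh xh11 yh5 zh44) (kh xh8 yh0 zh28) (kh xh8 yh0 zh30) (kh xh9 yh15 zh47) (kh xh11 yh4 zh30) (kh xh9 yh15 zh49) (kh xh9 yh15 zh50)) (@D3.rec (fun _ => Pt) (kh xh11 yh5 zh50) (kh xh11 yh6 zh0) (kh xh11 yh6 zh1) (kh xh8 yh0 zh37) (kh xh9 yh16 zh4) (kh xh11 yh6 zh3) (kh xh8 yh0 zh39)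 (kh xh10 yh25 zh21) (kh xh8 yh1 zh0) (kh xh11 yh4 zh40) (kh xh8 yh1 zh4) (kh xh11 yh6 zh10) (kh xh8 yh1 zh7) (kh xh8 yh1 zh8) (kh xh11 yh6 zh15) (kh xh8 yh1 zh10) (kh xh11 yh6 zh17) (kh xh8 yh0 zh48) (kh xh8 yh0 zh49) (kh xh10 yh25 zh10) (kh xh11 yh4 zh48) (kh xh11 yh6 zh5) (kh xh11 yh6 zh6) (kh xh11 yh6 zh28) (kh xh10 yh25 zh8) (kh xh11 yh6 zh31) (kh xh11 yh6 zh8) (kh xh10 yh25 zh5) (kh xh11 yh6 zh37) (kh xh10 yh25 zh0) (kh xh11 yh6 zh40) (kh xh8 yh1 zh6) (kh xh10 yh14 zh11) (kh xh11 yh6 zh11) (kh xh11 yh6 zh45) (kh xh11 yh6 zh13) (kh xh11 yh6 zh48) (kh xh8 yh1 zh9) (kh xh11 yh6 zh16) (kh xh11 yh7 zh1) (kh xh8 yh1 zh11) (kh xh8 yh11 zh45) (kh xh10 yh24 zh31) (kh xh8 yh11 zh46) (kh xh10 yh3 zh26) (kh xh8 yh8 zh23) (kh xh9 yh16 zh46) (kh xh10 yh25 zh40)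 (kh xh9 yh16 zh48) (kh xh9 yh16 zh49) (kh xh11 yh7 zh10)) (@D3.rec (fun _ => Pt) (kh xh9 yh17 zh0) (kh xh9 yh17 zh1) (kh xh11 yh7 zh16) (kh xh11 yh7 zh17) (kh xh8 yh1 zh25) (kh xh9 yh17 zh5) (kh xh11 yh7 zh19) (kh xh8 yh1 zh27) (kh xh9 yh17 zh8) (kh xh11 yh7 zh21) (kh xh8 yh1 zh29) (kh xh11 yh7 zh23) (kh xh8 yh1 zh32) (kh xh11 yh6 zh49) (kh xh11 yh7 zh26) (kh xh9 yh17 zh15) (kh xh9 yh17 zh16) (kh xh11 yh7 zh31) (kh xh11 yh3 zh0) (kh xh8 yh1 zh38) (kh xh9 yh17 zh20) (kh xh9 yh17 zh21) (kh xh11 yh7 zh36) (kh xh8 yh6 zh1) (kh xh11 yh7 zh38) (kh xh8 yh1 zh41) (kh xh8 yh1 zh42) (kh xh9 yh17 zh27) (kh xh11 yh7 zh40) (kh xh8 yh1 zh45) (kh xh11 yh7 zh41) (kh xh8 yh1 zh48) (kh xh10 yh13 zh43) (kh xh8 yh1 zh50) (kh xh10 yh25 zh46) (kh xh10 yh25 zh47) (kh xh11 yh7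 zh48) (kh xh8 yh2 zh4) (kh xh10 yh17 zh45) (kh xh8 yh3 zh36) (kh xh10 yh17 zh48) (kh xh8 yh3 zh38) (kh xh11 yh8 zh3) (kh xh8 yh2 zh9) (kh xh8 yh2 zh11) (kh xh8 yh3 zh46) (kh xh8 yh2 zh15) (kh xh11 yh8 zh7) (kh xh8 yh2 zh16) (kh xh8 yh2 zh25) (kh xh8 yh4 zh10)) (@D3.rec (fun _ => Pt) (kh xh8 yh2 zh27) (kh xh8 yh4 zh12) (kh xh8 yh2 zh30) (kh xh11 yh8 zh16) (kh xh11 yh8 zh17) (kh xh8 yh2 zh22) (kh xh8 yh2 zh23) (kh xh11 yh8 zh8) (kh xh8 yh4 zh24) (kh xh10 yh17 zh14) (kh xh11 yh8 zh10) (kh xh11 yh8 zh28) (kh xh10 yh17 zh16) (kh xh11 yh8 zh12) (kh xh11 yh8 zh34) (kh xh10 yh17 zh7) (kh xh10 yh17 zh18) (kh xh11 yh8 zh39) (kh xh11 yh8 zh14) (kh xh11 yh8 zh41) (kh xh8 yh2 zh31) (kh xh10 yh6 zh19) (kh xh11 yh8 zh43) (kh xh11 yh8 zh44) (kh xh8 yh2 zh34) (kh xh8 yh2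 zh35) (kh xh8 yh3 zh25) (kh xh11 yh0 zh34) (kh xh11 yh0 zh35) (kh xh8 yh5 zh44) (kh xh8 yh5 zh3) (kh xh8 yh5 zh45) (kh xh8 yh5 zh46) (kh xh10 yh22 zh35) (kh xh8 yh5 zh47) (kh xh8 yh5 zh48) (kh xh10 yh19 zh13) (kh xh10 yh22 zh34) (kh xh8 yh5 zh49) (kh xh10 yh19 zh15) (kh xh8 yh5 zh50) (kh xh10 yh18 zh47) (kh xh10 yh5 zh35) (kh xh10 yh22 zh17) (kh xh8 yh6 zh3) (kh xh11 yh7 zh37) (kh xh11 yh2 zh49) (kh xh8 yh3 zh6) (kh xh8 yh6 zh4) (kh xh8 yh6 zh5) (kh xh11 yh9 zh13)) (@D3.rec (fun _ => Pt) (kh xh10 yh18 zh35) (kh xh8 yh3 zh9) (kh xh8 yh3 zh10) (kh xh8 yh6 zh9) (kh xh11 yh9 zh15) (kh xh8 yh3 zh13) (kh xh11 yh9 zh16) (kh xh8 yh3 zh16) (kh xh10 yh26 zh44) (kh xh8 yh3 zh18) (kh xh10 yh26 zh46) (kh xh10 yh26 zh47) (kh xh8 yh3 zh21) (kh xh8 yh3 zh22) (kh xh10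 yh18 zh34) (kh xh11 yh8 zh45) (kh xh8 yh3 zh26) (kh xh11 yh9 zh3) (kh xh8 yh3 zh27) (kh xh8 yh3 zh35) (kh xh10 yh18 zh31) (kh xh8 yh3 zh37) (kh xh10 yh18 zh33) (kh xh11 yh9 zh27) (kh xh8 yh3 zh32) (kh xh8 yh3 zh33) (kh xh11 yh9 zh22) (kh xh11 yh7 zh50) (kh xh10 yh23 zh25) (kh xh11 yh9 zh24) (kh xh11 yh9 zh37) (kh xh10 yh23 zh29) (kh xh11 yh9 zh40) (kh xh10 yh23 zh31) (kh xh11 yh9 zh43) (kh xh8 yh3 zh40) (kh xh10 yh7 zh22) (kh xh11 yh9 zh45) (kh xh8 yh3 zh42) (kh xh8 yh6 zh22) (kh xh11 yh8 zh4) (kh xh8 yh6 zh23) (kh xh8 yh6 zh24) (kh xh10 yh22 zh50) (kh xh8 yh6 zh25) (kh xh8 yh6 zh26) (kh xh10 yh23 zh2) (kh xh10 yh23 zh3) (kh xh8 yh6 zh27) (kh xh10 yh23 zh5) (kh xh8 yh6 zh28)) (@D3.rec (fun _ => Pt) (kh xh10 yh23 zh7) (kh xh10 yh23 zh8) (kh xh11 yh9 zh2)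 (kh xh8 yh4 zh5) (kh xh11 yh1 zh41) (kh xh11 yh8 zh6) (kh xh8 yh4 zh7) (kh xh8 yh4 zh23) (kh xh11 yh8 zh9) (kh xh8 yh4 zh25) (kh xh8 yh4 zh26) (kh xh11 yh10 zh23) (kh xh8 yh4 zh28) (kh xh8 yh4 zh29) (kh xh11 yh10 zh28) (kh xh8 yh4 zh31) (kh xh8 yh4 zh32) (kh xh11 yh10 zh34) (kh xh8 yh4 zh34) (kh xh11 yh10 zh37) (kh xh8 yh4 zh15) (kh xh8 yh4 zh37) (kh xh8 yh4 zh38) (kh xh11 yh10 zh40) (kh xh8 yh4 zh40) (kh xh11 yh10 zh43) (kh xh8 yh4 zh18) (kh xh8 yh4 zh43) (kh xh11 yh10 zh46) (kh xh8 yh4 zh20) (kh xh11 yh10 zh13) (kh xh11 yh8 zh19) (kh xh11 yh10 zh15) (kh xh11 yh10 zh16) (kh xh11 yh11 zh4) (kh xh11 yh10 zh18) (kh xh11 yh10 zh19) (kh xh11 yh11 zh11) (kh xh11 yh10 zh21) (kh xh11 yh11 zh14) (kh xh8 yh4 zh27) (kh xh11 yh10 zh24) (kh xh11 yh10 zh25) (kh xh11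 yh11 zh20) (kh xh11 yh1 zh4) (kh xh11 yh11 zh23) (kh xh8 yh4 zh30) (kh xh11 yh10 zh29) (kh xh11 yh10 zh30) (kh xh11 yh11 zh28) (kh xh11 yh10 zh32)) (@D3.rec (fun _ => Pt) (kh xh11 yh11 zh31) (kh xh8 yh4 zh33) (kh xh11 yh10 zh35) (kh xh11 yh11 zh35) (kh xh8 yh4 zh35) (kh xh11 yh2 zh4) (kh xh11 yh11 zh37) (kh xh11 yh2 zh2) (kh xh11 yh11 zh40) (kh xh8 yh4 zh39) (kh xh11 yh10 zh41) (kh xh11 yh11 zh44) (kh xh8 yh4 zh41) (kh xh8 yh5 zh20) (kh xh11 yh10 zh44) (kh xh11 yh11 zh48) (kh xh8 yh4 zh44) (kh xh8 yh12 zh16) (kh xh11 yh0 zh16) (kh xh8 yh12 zh17) (kh xh10 yh6 zh12) (kh xh10 yh6 zh14) (kh xh8 yh7 zh0) (kh xh10 yh22 zh15) (kh xh8 yh7 zh1) (kh xh8 yh7 zh2) (kh xh11 yh12 zh5) (kh xh8 yh5 zh28) (kh xh8 yh5 zh6) (kh xh8 yh7 zh4) (kh xh8 yh7 zh3) (kh xh11 yh12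 zh4) (kh xh11 yh12 zh8) (kh xh11 yh12 zh2) (kh xh8 yh5 zh9) (kh xh8 yh5 zh10) (kh xh8 yh7 zh7) (kh xh8 yh10 zh43) (kh xh8 yh5 zh13) (kh xh11 yh12 zh13) (kh xh8 yh5 zh16) (kh xh11 yh11 zh32) (kh xh8 yh5 zh18) (kh xh11 yh11 zh41) (kh xh11 yh11 zh46) (kh xh11 yh10 zh0) (kh xh8 yh9 zh39) (kh xh8 yh5 zh32) (kh xh11 yh3 zh4) (kh xh11 yh12 zh16) (kh xh8 yh5 zh38)) (@D3.rec (fun _ => Pt) (kh xh9 yh22 zh0) (kh xh8 yh6 zh31) (kh xh8 yh5 zh40) (kh xh8 yh6 zh34) (kh xh11 yh8 zh47) (kh xh11 yh7 zh34) (kh xh11 yh8 zh49) (kh xh11 yh8 zh50) (kh xh11 yh9 zh7) (kh xh8 yh6 zh6) (kh xh11 yh12 zh20) (kh xh8 yh6 zh10) (kh xh8 yh6 zh12) (kh xh9 yh22 zh13) (kh xh9 yh22 zh14) (kh xh10 yh18 zh32) (kh xh10 yh18 zh28) (kh xh11 yh9 zh46) (kh xh11 yh9 zh48) (kh xh11 yh9 zh49) (kh xh11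 yh10 zh1) (kh xh11 yh10 zh2) (kh xh11 yh12 zh23) (kh xh11 yh10 zh6) (kh xh9 yh22 zh24) (kh xh11 yh12 zh17) (kh xh9 yh22 zh26) (kh xh9 yh22 zh27) (kh xh11 yh12 zh31) (kh xh8 yh6 zh44) (kh xh11 yh12 zh19) (kh xh8 yh6 zh45) (kh xh8 yh6 zh46) (kh xh10 yh19 zh49) (kh xh8 yh6 zh47) (kh xh8 yh6 zh48) (kh xh10 yh20 zh1) (kh xh10 yh20 zh2) (kh xh8 yh6 zh49) (kh xh10 yh20 zh3) (kh xh8 yh6 zh50) (kh xh10 yh20 zh5) (kh xh10 yh20 zh6) (kh xh11 yh12 zh32) (kh xh11 yh12 zh34) (kh xh11 yh12 zh35) (kh xh11 yh12 zh38) (kh xh11 yh12 zh39) (kh xh11 yh12 zh46) (kh xh11 yh12 zh43) (kh xh8 yh7 zh5)) (@D3.rec (fun _ => Pt) (kh xh10 yh19 zh23) (kh xh10 yh19 zh26) (kh xh8 yh7 zh9) (kh xh10 yh19 zh29) (kh xh10 yh19 zh30) (kh xh8 yh7 zh17) (kh xh8 yh7 zh18) (kh xh10 yh1 zh50) (kh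 xh10 yh24 zh10) (kh xh10 yh1 zh33) (kh xh11 yh4 zh3) (kh xh10 yh23 zh47) (kh xh8 yh7 zh24) (kh xh8 yh8 zh20) (kh xh11 yh13 zh3) (kh xh8 yh7 zh32) (kh xh8 yh7 zh33) (kh xh11 yh13 zh4) (kh xh8 yh7 zh35) (kh xh11 yh13 zh5) (kh xh8 yh7 zh38) (kh xh10 yh11 zh8) (kh xh11 yh13 zh8) (kh xh11 yh7 zh47) (kh xh8 yh7 zh42) (kh xh11 yh13 zh9) (kh xh11 yh13 zh10) (kh xh8 yh7 zh45) (kh xh8 yh7 zh46) (kh xh11 yh13 zh13) (kh xh8 yh7 zh49) (kh xh11 yh13 zh15) (kh xh8 yh8 zh1) (kh xh9 yh23 zh33) (kh xh8 yh8 zh3) (kh xh9 yh23 zh35) (kh xh9 yh23 zh36) (kh xh8 yh8 zh6) (kh xh11 yh13 zh22) (kh xh8 yh8 zh9) (kh xh8 yh8 zh10) (kh xh8 yh8 zh11) (kh xh11 yh13 zh24) (kh xh8 yh8 zh14) (kh xh11 yh13 zh21) (kh xh8 yh8 zh28) (kh xh10 yh24 zh9) (kh xh10 yh24 zh11) (kh xh8 yh8 zh30) (kh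 xh11 yh4 zh2) (kh xh8 yh8 zh33)) (@D3.rec (fun _ => Pt) (kh xh10 yh3 zh12) (kh xh10 yh25 zh25) (kh xh10 yh3 zh23) (kh xh11 yh7 zh4) (kh xh10 yh3 zh35) (kh xh11 yh13 zh32) (kh xh8 yh8 zh25) (kh xh10 yh10 zh1) (kh xh11 yh13 zh35) (kh xh10 yh9 zh17) (kh xh11 yh13 zh37) (kh xh8 yh8 zh29) (kh xh10 yh2 zh25) (kh xh11 yh13 zh40) (kh xh8 yh8 zh31) (kh xh8 yh9 zh5) (kh xh10 yh1 zh24) (kh xh10 yh24 zh42) (kh xh8 yh8 zh34) (kh xh10 yh24 zh40) (kh xh8 yh12 zh48) (kh xh10 yh3 zh36) (kh xh8 yh8 zh42) (kh xh9 yh24 zh23) (kh xh11 yh13 zh45) (kh xh11 yh13 zh46) (kh xh11 yh13 zh48) (kh xh8 yh8 zh45) (kh xh8 yh8 zh46) (kh xh11 yh13 zh49) (kh xh8 yh8 zh49) (kh xh11 yh13 zh50) (kh xh8 yh9 zh1) (kh xh10 yh16 zh6) (kh xh8 yh9 zh3) (kh xh11 yh13 zh38) (kh xh11 yh13 zh42) (kh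 xh11 yh14 zh6) (kh xh8 yh9 zh7) (kh xh9 yh24 zh39) (kh xh11 yh14 zh9) (kh xh11 yh14 zh10) (kh xh8 yh9 zh11) (kh xh8 yh9 zh12) (kh xh9 yh24 zh44) (kh xh11 yh14 zh13) (kh xh8 yh9 zh16) (kh xh9 yh24 zh47) (kh xh8 yh9 zh18) (kh xh9 yh24 zh49) (kh xh9 yh24 zh50)) (@D3.rec (fun _ => Pt) (kh xh9 yh25 zh0) (kh xh9 yh25 zh1) (kh xh9 yh25 zh2) (kh xh9 yh25 zh3) (kh xh9 yh25 zh4) (kh xh11 yh14 zh27) (kh xh8 yh9 zh25) (kh xh9 yh25 zh7) (kh xh11 yh14 zh30) (kh xh8 yh9 zh27) (kh xh9 yh25 zh10) (kh xh11 yh14 zh32) (kh xh8 yh9 zh29) (kh xh11 yh14 zh34) (kh xh8 yh9 zh32) (kh xh8 yh9 zh49) (kh xh8 yh11 zh0) (kh xh8 yh10 zh46) (kh xh8 yh11 zh1) (kh xh8 yh11 zh2) (kh xh11 yh14 zh41) (kh xh11 yh14 zh42) (kh xh11 yh12 zh11) (kh xh8 yh9 zh38) (kh xh8 yh11 zh3) (kh xh11 yh14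 zh38) (kh xh8 yh9 zh42) (kh xh11 yh14 zh37) (kh xh8 yh9 zh45) (kh xh11 yh14 zh33) (kh xh8 yh9 zh47) (kh xh11 yh14 zh35) (kh xh11 yh14 zh36) (kh xh11 yh14 zh48) (kh xh8 yh10 zh0) (kh xh9 yh25 zh35) (kh xh9 yh25 zh36) (kh xh11 yh15 zh1) (kh xh11 yh15 zh3) (kh xh9 yh25 zh39) (kh xh11 yh15 zh7) (kh xh8 yh10 zh3) (kh xh9 yh25 zh42) (kh xh11 yh15 zh10) (kh xh8 yh10 zh5) (kh xh9 yh25 zh45) (kh xh9 yh25 zh46) (kh xh11 yh15 zh8) (kh xh9 yh25 zh48) (kh xh11 yh15 zh16) (kh xh8 yh10 zh9)) (@D3.rec (fun _ => Pt) (kh xh11 yh15 zh17) (kh xh8 yh10 zh11) (kh xh9 yh26 zh2) (kh xh11 yh15 zh20) (kh xh9 yh26 zh4) (kh xh11 yh15 zh23) (kh xh8 yh10 zh15) (kh xh9 yh26 zh7) (kh xh11 yh15 zh26) (kh xh8 yh10 zh17) (kh xh8 yh10 zh47) (kh xh9 yh26 zh11) (kh xh11 yh15 zh30) (kh xh8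 yh10 zh20) (kh xh9 yh26 zh14) (kh xh11 yh15 zh33) (kh xh8 yh10 zh23) (kh xh9 yh26 zh17) (kh xh11 yh15 zh36) (kh xh8 yh10 zh25) (kh xh8 yh10 zh49) (kh xh9 yh26 zh21) (kh xh11 yh15 zh39) (kh xh8 yh10 zh28) (kh xh11 yh11 zh45) (kh xh8 yh10 zh50) (kh xh11 yh15 zh11) (kh xh8 yh10 zh32) (kh xh8 yh12 zh49) (kh xh11 yh0 zh37) (kh xh10 yh6 zh32) (kh xh8 yh10 zh42) (kh xh11 yh15 zh44) (kh xh11 yh15 zh28) (kh xh8 yh11 zh4) (kh xh9 yh26 zh35) (kh xh9 yh26 zh36) (kh xh11 yh12 zh44) (kh xh9 yh26 zh38) (kh xh10 yh25 zh23) (kh xh8 yh11 zh27) (kh xh8 yh11 zh28) (kh xh8 yh11 zh30) (kh xh8 yh12 zh3) (kh xh11 yh0 zh9) (kh xh10 yh26 zh49) (kh xh11 yh2 zh15) (kh xh8 yh11 zh44) (kh xh10 yh2 zh49) (kh xh11 yh7 zh2) (kh xh8 yh12 zh6))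
def f_h_10 : D2 → D3 → Pt := @D2.rec (fun _ => D3 → Pt) (@D3.rec (fun _ => Pt) (kh xh8 yh12 zh7) (kh xh11 yh0 zh2) (kh xh8 yh12 zh9) (kh xh8 yh12 zh34) (kh xh11 yh0 zh21) (kh xh11 yh9 zh19) (kh xh11 yh1 zh39) (kh xh11 yh16 zh2) (kh xh8 yh12 zh14) (kh xh11 yh0 zh7) (kh xh8 yh12 zh15) (kh xh10 yh6 zh5) (kh xh11 yh16 zh3) (kh xh11 yh11 zh49) (kh xh10 yh0 zh14) (kh xh8 yh12 zh33) (kh xh8 yh12 zh36) (kh xh11 yh16 zh7) (kh xh10 yh0 zh18) (kh xh11 yh16 zh9) (kh xh10 yh0 zh20) (kh xh11 yh16 zh11) (kh xh10 yh0 zh22) (kh xh11 yh16 zh13) (kh xh8 yh12 zh38) (kh xh8 yh12 zh46) (kh xh10 yh1 zh26) (kh xh10 yh24 zh39) (kh xh10 yh0 zh28) (kh xh11 yh16 zh16) (kh xh8 yh13 zh0) (kh xh10 yh0 zh31) (kh xh11 yh16 zh19) (kh xh8 yh13 zh2) (kh xh10 yh0 zh34) (kh xh11 yh16 zh22)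 (kh xh8 yh13 zh4) (kh xh10 yh0 zh37) (kh xh11 yh16 zh25) (kh xh8 yh13 zh6) (kh xh11 yh16 zh27) (kh xh11 yh16 zh28) (kh xh8 yh13 zh11) (kh xh8 yh13 zh12) (kh xh10 yh0 zh44) (kh xh11 yh16 zh31) (kh xh8 yh13 zh14) (kh xh8 yh13 zh16) (kh xh10 yh0 zh48) (kh xh11 yh16 zh35) (kh xh8 yh13 zh18)) (@D3.rec (fun _ => Pt) (kh xh10 yh1 zh0) (kh xh11 yh16 zh38) (kh xh8 yh13 zh20) (kh xh10 yh1 zh3) (kh xh11 yh16 zh40) (kh xh8 yh13 zh23) (kh xh10 yh1 zh6) (kh xh10 yh1 zh7) (kh xh11 yh16 zh44) (kh xh8 yh13 zh26) (kh xh11 yh16 zh45) (kh xh8 yh13 zh28) (kh xh10 yh1 zh12) (kh xh11 yh16 zh48) (kh xh8 yh13 zh31) (kh xh10 yh1 zh15) (kh xh11 yh17 zh0) (kh xh8 yh13 zh33) (kh xh10 yh1 zh18) (kh xh11 yh17 zh2) (kh xh8 yh13 zh35) (kh xh11 yh17 zh4) (kh xh8 yh13 zh38) (kh xh10 yh1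 zh23) (kh xh9 yh24 zh16) (kh xh8 yh13 zh44) (kh xh10 yh0 zh26) (kh xh9 yh6 zh34) (kh xh8 yh13 zh46) (kh xh8 yh15 zh22) (kh xh8 yh15 zh24) (kh xh9 yh8 zh7) (kh xh9 yh6 zh32) (kh xh9 yh23 zh9) (kh xh8 yh14 zh9) (kh xh9 yh7 zh20) (kh xh11 yh17 zh9) (kh xh8 yh14 zh10) (kh xh11 yh17 zh7) (kh xh8 yh14 zh47) (kh xh8 yh14 zh12) (kh xh10 yh1 zh41) (kh xh8 yh14 zh48) (kh xh10 yh1 zh43) (kh xh11 yh17 zh19) (kh xh8 yh14 zh16) (kh xh8 yh14 zh18) (kh xh8 yh15 zh3) (kh xh8 yh14 zh43) (kh xh9 yh7 zh21) (kh xh9 yh23 zh7)) (@D3.rec (fun _ => Pt) (kh xh8 yh14 zh28) (kh xh9 yh7 zh17) (kh xh11 yh17 zh23) (kh xh9 yh7 zh11) (kh xh9 yh13 zh45) (kh xh10 yh2 zh5) (kh xh11 yh17 zh27) (kh xh8 yh14 zh38) (kh xh11 yh17 zh28) (kh xh8 yh14 zh41) (kh xh8 yh14 zh46) (kh xh11 yh17 zh8)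 (kh xh11 yh17 zh29) (kh xh11 yh17 zh11) (kh xh9 yh6 zh47) (kh xh11 yh17 zh31) (kh xh11 yh17 zh37) (kh xh10 yh2 zh17) (kh xh11 yh17 zh40) (kh xh8 yh14 zh50) (kh xh10 yh2 zh20) (kh xh11 yh17 zh43) (kh xh8 yh15 zh1) (kh xh9 yh7 zh10) (kh xh11 yh17 zh45) (kh xh9 yh24 zh12) (kh xh8 yh15 zh6) (kh xh8 yh15 zh11) (kh xh8 yh16 zh16) (kh xh11 yh18 zh1) (kh xh8 yh15 zh8) (kh xh8 yh15 zh9) (kh xh11 yh17 zh46) (kh xh8 yh16 zh21) (kh xh11 yh17 zh48) (kh xh11 yh17 zh49) (kh xh11 yh18 zh13) (kh xh10 yh2 zh37) (kh xh8 yh16 zh25) (kh xh10 yh2 zh39) (kh xh11 yh18 zh18) (kh xh11 yh18 zh19) (kh xh8 yh15 zh17) (kh xh9 yh8 zh38) (kh xh8 yh15 zh19) (kh xh8 yh16 zh34) (kh xh8 yh16 zh37) (kh xh9 yh6 zh38) (kh xh8 yh16 zh38) (kh xh9 yh26 zh48) (kh xh9 yh8 zh44)) (@D3.rec (fun _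 => Pt) (kh xh8 yh22 zh2) (kh xh11 yh18 zh27) (kh xh8 yh15 zh25) (kh xh8 yh16 zh44) (kh xh9 yh9 zh0) (kh xh8 yh22 zh19) (kh xh9 yh9 zh5) (kh xh8 yh21 zh40) (kh xh11 yh18 zh31) (kh xh8 yh15 zh36) (kh xh9 yh8 zh45) (kh xh11 yh18 zh34) (kh xh9 yh24 zh0) (kh xh8 yh15 zh39) (kh xh9 yh8 zh25) (kh xh9 yh8 zh34) (kh xh9 yh8 zh36) (kh xh10 yh3 zh17) (kh xh11 yh18 zh40) (kh xh11 yh18 zh41) (kh xh8 yh15 zh46) (kh xh9 yh8 zh40) (kh xh9 yh8 zh43) (kh xh9 yh24 zh2) (kh xh8 yh15 zh48) (kh xh9 yh8 zh22) (kh xh9 yh16 zh44) (kh xh9 yh8 zh26) (kh xh11 yh18 zh47) (kh xh10 yh3 zh29) (kh xh11 yh18 zh50) (kh xh8 yh16 zh4) (kh xh10 yh3 zh32) (kh xh11 yh19 zh2) (kh xh8 yh16 zh6) (kh xh9 yh24 zh4) (kh xh9 yh24 zh21) (kh xh8 yh16 zh11) (kh xh11 yh19 zh3) (kh xh8 yh16 zh12) (kh xh8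 yh16 zh13) (kh xh8 yh16 zh20) (kh xh11 yh17 zh47) (kh xh8 yh16 zh23) (kh xh11 yh19 zh12) (kh xh11 yh18 zh21) (kh xh8 yh16 zh17) (kh xh11 yh19 zh4) (kh xh11 yh18 zh3) (kh xh11 yh19 zh6) (kh xh11 yh18 zh5)) (@D3.rec (fun _ => Pt) (kh xh9 yh7 zh46) (kh xh11 yh19 zh8) (kh xh11 yh19 zh22) (kh xh9 yh7 zh42) (kh xh9 yh7 zh48) (kh xh11 yh19 zh26) (kh xh11 yh19 zh10) (kh xh11 yh19 zh29) (kh xh8 yh16 zh24) (kh xh10 yh4 zh9) (kh xh11 yh19 zh32) (kh xh8 yh16 zh27) (kh xh10 yh4 zh12) (kh xh11 yh19 zh35) (kh xh8 yh16 zh29) (kh xh10 yh4 zh15) (kh xh11 yh19 zh38) (kh xh8 yh16 zh32) (kh xh11 yh18 zh20) (kh xh9 yh7 zh30) (kh xh9 yh8 zh39) (kh xh9 yh8 zh21) (kh xh9 yh13 zh35) (kh xh9 yh13 zh25) (kh xh11 yh19 zh41) (kh xh11 yh19 zh43) (kh xh8 yh16 zh48) (kh xh8 yh16 zh49)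 (kh xh8 yh17 zh5) (kh xh8 yh18 zh41) (kh xh8 yh17 zh7) (kh xh8 yh17 zh8) (kh xh11 yh20 zh2) (kh xh11 yh20 zh3) (kh xh8 yh17 zh2) (kh xh11 yh19 zh44) (kh xh8 yh18 zh48) (kh xh11 yh19 zh46) (kh xh8 yh18 zh50) (kh xh11 yh19 zh48) (kh xh11 yh19 zh49) (kh xh11 yh20 zh17) (kh xh9 yh10 zh34) (kh xh9 yh10 zh33) (kh xh11 yh20 zh20) (kh xh11 yh20 zh21) (kh xh8 yh17 zh9) (kh xh10 yh4 zh47) (kh xh11 yh20 zh24) (kh xh10 yh4 zh49) (kh xh11 yh20 zh26)) (@D3.rec (fun _ => Pt) (kh xh8 yh17 zh13) (kh xh8 yh17 zh14) (kh xh8 yh17 zh16) (kh xh10 yh5 zh3) (kh xh8 yh19 zh22) (kh xh10 yh5 zh5) (kh xh10 yh5 zh6) (kh xh11 yh20 zh35) (kh xh10 yh5 zh8) (kh xh11 yh20 zh37) (kh xh10 yh5 zh10) (kh xh11 yh20 zh39) (kh xh8 yh17 zh23) (kh xh10 yh5 zh13) (kh xh11 yh20 zh41) (kh xh8 yh17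 zh25) (kh xh8 yh19 zh34) (kh xh10 yh5 zh17) (kh xh11 yh20 zh44) (kh xh10 yh5 zh19) (kh xh10 yh5 zh20) (kh xh11 yh20 zh48) (kh xh11 yh20 zh49) (kh xh8 yh17 zh32) (kh xh11 yh20 zh50) (kh xh8 yh17 zh34) (kh xh11 yh21 zh0) (kh xh8 yh17 zh36) (kh xh11 yh21 zh2) (kh xh8 yh17 zh39) (kh xh9 yh2 zh3) (kh xh11 yh21 zh6) (kh xh11 yh21 zh7) (kh xh8 yh17 zh41) (kh xh8 yh17 zh46) (kh xh9 yh18 zh42) (kh xh11 yh21 zh12) (kh xh8 yh17 zh43) (kh xh8 yh17 zh44) (kh xh11 yh21 zh8) (kh xh9 yh11 zh50) (kh xh9 yh1 zh13) (kh xh9 yh2 zh14) (kh xh11 yh21 zh22) (kh xh9 yh12 zh0) (kh xh10 yh5 zh45) (kh xh11 yh21 zh25) (kh xh11 yh21 zh26) (kh xh11 yh21 zh27) (kh xh8 yh18 zh2) (kh xh8 yh18 zh3)) (@D3.rec (fun _ => Pt) (kh xh11 yh21 zh28) (kh xh11 yh21 zh29) (kh xh8 yh18 zh5) (kh xh8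 yh18 zh6) (kh xh8 yh18 zh13) (kh xh10 yh0 zh11) (kh xh8 yh18 zh15) (kh xh8 yh18 zh16) (kh xh11 yh21 zh39) (kh xh11 yh21 zh40) (kh xh8 yh18 zh10) (kh xh11 yh21 zh30) (kh xh9 yh21 zh20) (kh xh11 yh21 zh32) (kh xh9 yh21 zh21) (kh xh11 yh21 zh34) (kh xh11 yh21 zh35) (kh xh11 yh21 zh50) (kh xh11 yh22 zh0) (kh xh9 yh18 zh21) (kh xh11 yh22 zh3) (kh xh8 yh18 zh17) (kh xh10 yh6 zh22) (kh xh11 yh22 zh6) (kh xh8 yh18 zh20) (kh xh10 yh6 zh25) (kh xh11 yh22 zh9) (kh xh8 yh18 zh22) (kh xh10 yh6 zh28) (kh xh11 yh22 zh12) (kh xh8 yh18 zh25) (kh xh8 yh18 zh27) (kh xh9 yh26 zh30) (kh xh10 yh6 zh33) (kh xh11 yh22 zh15) (kh xh11 yh22 zh16) (kh xh8 yh18 zh33) (kh xh8 yh18 zh34) (kh xh11 yh22 zh18) (kh xh8 yh18 zh36) (kh xh11 yh22 zh21) (kh xh8 yh18 zh37) (kh xh8 yh18 zh47)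 (kh xh11 yh19 zh45) (kh xh8 yh18 zh49) (kh xh11 yh19 zh47) (kh xh8 yh19 zh0) (kh xh8 yh19 zh1) (kh xh11 yh22 zh35) (kh xh8 yh19 zh3) (kh xh8 yh19 zh4)) (@D3.rec (fun _ => Pt) (kh xh11 yh22 zh38) (kh xh8 yh19 zh6) (kh xh11 yh22 zh41) (kh xh8 yh18 zh44) (kh xh8 yh18 zh45) (kh xh11 yh22 zh22) (kh xh11 yh20 zh5) (kh xh11 yh22 zh24) (kh xh11 yh22 zh25) (kh xh11 yh23 zh1) (kh xh11 yh22 zh27) (kh xh11 yh22 zh28) (kh xh11 yh23 zh6) (kh xh11 yh22 zh30) (kh xh11 yh22 zh31) (kh xh11 yh23 zh12) (kh xh11 yh22 zh33) (kh xh11 yh23 zh15) (kh xh8 yh19 zh2) (kh xh9 yh3 zh39) (kh xh9 yh3 zh38) (kh xh11 yh23 zh18) (kh xh9 yh19 zh36) (kh xh11 yh23 zh21) (kh xh8 yh19 zh5) (kh xh11 yh22 zh39) (kh xh11 yh23 zh25) (kh xh8 yh19 zh7) (kh xh10 yh7 zh28) (kh xh11 yh23 zh29) (kh xh8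 yh19 zh10) (kh xh10 yh7 zh31) (kh xh11 yh23 zh32) (kh xh8 yh19 zh12) (kh xh10 yh7 zh34) (kh xh11 yh23 zh35) (kh xh8 yh19 zh15) (kh xh11 yh23 zh26) (kh xh11 yh23 zh38) (kh xh8 yh19 zh18) (kh xh11 yh20 zh28) (kh xh10 yh7 zh41) (kh xh11 yh23 zh41) (kh xh10 yh7 zh43) (kh xh10 yh7 zh44) (kh xh11 yh23 zh47) (kh xh11 yh23 zh48) (kh xh8 yh19 zh25) (kh xh10 yh7 zh48) (kh xh11 yh24 zh0) (kh xh8 yh19 zh27)) (@D3.rec (fun _ => Pt) (kh xh10 yh8 zh0) (kh xh11 yh24 zh2) (kh xh8 yh19 zh29) (kh xh11 yh24 zh4) (kh xh8 yh19 zh32) (kh xh11 yh23 zh22) (kh xh10 yh8 zh6) (kh xh11 yh24 zh9) (kh xh8 yh19 zh36) (kh xh10 yh8 zh9) (kh xh10 yh8 zh10) (kh xh11 yh24 zh13) (kh xh11 yh24 zh14) (kh xh8 yh19 zh39) (kh xh8 yh19 zh40) (kh xh10 yh8 zh15) (kh xh11 yh24 zh17) (kh xh8 yh19 zh43)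 (kh xh11 yh24 zh19) (kh xh8 yh19 zh46) (kh xh9 yh4 zh47) (kh xh8 yh19 zh48) (kh xh9 yh4 zh49) (kh xh9 yh4 zh50) (kh xh10 yh8 zh24) (kh xh10 yh8 zh25) (kh xh10 yh8 zh26) (kh xh11 yh24 zh23) (kh xh10 yh8 zh28) (kh xh10 yh8 zh29) (kh xh10 yh8 zh30) (kh xh10 yh8 zh31) (kh xh11 yh24 zh26) (kh xh11 yh24 zh27) (kh xh8 yh20 zh10) (kh xh10 yh8 zh35) (kh xh11 yh24 zh29) (kh xh10 yh8 zh37) (kh xh10 yh8 zh38) (kh xh10 yh8 zh39) (kh xh11 yh24 zh31) (kh xh10 yh8 zh41) (kh xh11 yh24 zh33) (kh xh8 yh20 zh19) (kh xh11 yh24 zh35) (kh xh8 yh20 zh21) (kh xh11 yh24 zh38) (kh xh8 yh20 zh22) (kh xh8 yh21 zh26) (kh xh11 yh24 zh41) (kh xh8 yh20 zh25)) (@D3.rec (fun _ => Pt) (kh xh11 yh24 zh45) (kh xh11 yh24 zh46) (kh xh8 yh20 zh26) (kh xh11 yh24 zh42) (kh xh8 yh21 zh33) (kh xh8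 yh20 zh28) (kh xh8 yh21 zh36) (kh xh10 yh9 zh7) (kh xh11 yh25 zh3) (kh xh8 yh20 zh32) (kh xh11 yh25 zh5) (kh xh8 yh20 zh33) (kh xh8 yh20 zh34) (kh xh8 yh21 zh44) (kh xh10 yh9 zh14) (kh xh11 yh25 zh9) (kh xh8 yh21 zh47) (kh xh9 yh24 zh9) (kh xh8 yh20 zh40) (kh xh8 yh20 zh45) (kh xh8 yh22 zh1) (kh xh11 yh25 zh15) (kh xh8 yh20 zh42) (kh xh8 yh20 zh43) (kh xh11 yh25 zh10) (kh xh8 yh22 zh6) (kh xh11 yh25 zh12) (kh xh11 yh25 zh13) (kh xh11 yh25 zh25) (kh xh10 yh9 zh29) (kh xh8 yh22 zh10) (kh xh11 yh25 zh27) (kh xh10 yh9 zh32) (kh xh11 yh25 zh29) (kh xh8 yh21 zh0) (kh xh11 yh25 zh30) (kh xh8 yh21 zh2) (kh xh9 yh9 zh4) (kh xh8 yh21 zh4) (kh xh8 yh22 zh20) (kh xh10 yh9 zh40) (kh xh8 yh22 zh21) (kh xh11 yh25 zh32) (kh xh10 yh9 zh43) (kh xh11 yh25 zh34) (kh xh8 yh21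 zh10) (kh xh9 yh15 zh27) (kh xh8 yh21 zh17) (kh xh10 yh9 zh48) (kh xh11 yh25 zh36) (kh xh8 yh21 zh19)) (@D3.rec (fun _ => Pt) (kh xh8 yh21 zh21) (kh xh9 yh24 zh7) (kh xh8 yh21 zh22) (kh xh11 yh25 zh37) (kh xh11 yh24 zh37) (kh xh11 yh24 zh39) (kh xh11 yh25 zh43) (kh xh8 yh21 zh27) (kh xh8 yh21 zh32) (kh xh11 yh24 zh43) (kh xh11 yh18 zh25) (kh xh8 yh21 zh29) (kh xh8 yh21 zh30) (kh xh11 yh25 zh44) (kh xh11 yh24 zh48) (kh xh11 yh25 zh46) (kh xh11 yh25 zh47) (kh xh11 yh26 zh10) (kh xh11 yh25 zh1) (kh xh10 yh10 zh19) (kh xh11 yh26 zh13) (kh xh11 yh26 zh14) (kh xh8 yh21 zh38) (kh xh11 yh18 zh28) (kh xh11 yh25 zh6) (kh xh11 yh25 zh7) (kh xh10 yh10 zh26) (kh xh11 yh26 zh17) (kh xh10 yh10 zh28) (kh xh11 yh26 zh19) (kh xh8 yh21 zh46) (kh xh11 yh26 zh20) (kh xh8 yh21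 zh48) (kh xh8 yh21 zh49) (kh xh8 yh22 zh5) (kh xh11 yh25 zh11) (kh xh8 yh22 zh7) (kh xh8 yh22 zh8) (kh xh11 yh26 zh33) (kh xh11 yh18 zh23) (kh xh11 yh26 zh21) (kh xh11 yh25 zh17) (kh xh11 yh26 zh23) (kh xh11 yh25 zh19) (kh xh11 yh26 zh25) (kh xh11 yh26 zh26) (kh xh11 yh26 zh40) (kh xh11 yh26 zh28) (kh xh11 yh26 zh29) (kh xh11 yh26 zh46) (kh xh11 yh26 zh31)) (@D3.rec (fun _ => Pt) (kh xh11 yh26 zh49) (kh xh8 yh22 zh9) (kh xh11 yh26 zh50) (kh xh8 yh22 zh12) (kh xh10 yh11 zh4) (kh xh12 yh0 zh2) (kh xh8 yh22 zh14) (kh xh10 yh11 zh7) (kh xh9 yh23 zh21) (kh xh8 yh22 zh17) (kh xh12 yh0 zh4) (kh xh8 yh22 zh23) (kh xh10 yh11 zh12) (kh xh12 yh0 zh6) (kh xh8 yh22 zh25) (kh xh12 yh0 zh8) (kh xh8 yh22 zh29) (kh xh12 yh0 zh9) (kh xh10 yh11 zh18) (kh xh10 yh11 zh19)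 (kh xh12 yh0 zh11) (kh xh8 yh22 zh36) (kh xh10 yh11 zh22) (kh xh10 yh11 zh23) (kh xh12 yh0 zh13) (kh xh10 yh11 zh25) (kh xh10 yh11 zh26) (kh xh12 yh0 zh16) (kh xh10 yh11 zh28) (kh xh12 yh0 zh18) (kh xh8 yh22 zh46) (kh xh12 yh0 zh19) (kh xh8 yh22 zh48) (kh xh10 yh11 zh33) (kh xh10 yh11 zh34) (kh xh10 yh11 zh35) (kh xh12 yh0 zh23) (kh xh10 yh11 zh37) (kh xh12 yh0 zh25) (kh xh8 yh23 zh3) (kh xh10 yh11 zh40) (kh xh10 yh11 zh41) (kh xh10 yh11 zh42) (kh xh10 yh11 zh43) (kh xh12 yh0 zh29) (kh xh10 yh11 zh45) (kh xh12 yh0 zh31) (kh xh10 yh11 zh47) (kh xh12 yh0 zh33) (kh xh8 yh23 zh11) (kh xh10 yh11 zh50)) (@D3.rec (fun _ => Pt) (kh xh12 yh0 zh35) (kh xh8 yh23 zh13) (kh xh12 yh0 zh37) (kh xh8 yh23 zh15) (kh xh12 yh0 zh40) (kh xh12 yh0 zh41) (kh xh8 yh23 zh16) (kh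 xh11 yh19 zh24) (kh xh8 yh24 zh46) (kh xh8 yh23 zh18) (kh xh8 yh24 zh48) (kh xh12 yh0 zh47) (kh xh12 yh0 zh48) (kh xh8 yh23 zh21) (kh xh8 yh23 zh26) (kh xh8 yh25 zh2) (kh xh12 yh1 zh4) (kh xh8 yh23 zh23) (kh xh8 yh23 zh24) (kh xh12 yh0 zh49) (kh xh8 yh25 zh7) (kh xh12 yh1 zh0) (kh xh12 yh1 zh1) (kh xh12 yh1 zh15) (kh xh8 yh25 zh12) (kh xh10 yh12 zh25) (kh xh12 yh1 zh18) (kh xh12 yh1 zh19) (kh xh8 yh23 zh32) (kh xh12 yh1 zh20) (kh xh8 yh23 zh34) (kh xh10 yh12 zh31) (kh xh8 yh25 zh20) (kh xh8 yh25 zh22) (kh xh10 yh12 zh34) (kh xh12 yh1 zh25) (kh xh10 yh12 zh36) (kh xh12 yh1 zh27) (kh xh8 yh23 zh40) (kh xh12 yh1 zh28) (kh xh12 yh1 zh29) (kh xh8 yh23 zh42) (kh xh8 yh23 zh43) (kh xh8 yh23 zh50) (kh xh8 yh25 zh33) (kh xh8 yh24 zh1) (kh xh8 yh24 zh2) (kh xh12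 yh1 zh42) (kh xh12 yh1 zh43) (kh xh8 yh23 zh47) (kh xh12 yh1 zh30)) (@D3.rec (fun _ => Pt) (kh xh8 yh25 zh40) (kh xh12 yh1 zh32) (kh xh8 yh25 zh42) (kh xh12 yh1 zh34) (kh xh12 yh1 zh35) (kh xh12 yh2 zh3) (kh xh12 yh1 zh37) (kh xh12 yh1 zh38) (kh xh12 yh2 zh9) (kh xh12 yh1 zh40) (kh xh12 yh2 zh12) (kh xh8 yh24 zh3) (kh xh12 yh2 zh13) (kh xh10 yh13 zh13) (kh xh12 yh2 zh16) (kh xh8 yh24 zh7) (kh xh10 yh13 zh16) (kh xh12 yh2 zh18) (kh xh8 yh24 zh9) (kh xh12 yh2 zh20) (kh xh8 yh24 zh12) (kh xh8 yh24 zh14) (kh xh10 yh13 zh22) (kh xh8 yh26 zh14) (kh xh10 yh13 zh24) (kh xh10 yh13 zh25) (kh xh12 yh2 zh28) (kh xh12 yh2 zh29) (kh xh10 yh13 zh28) (kh xh12 yh2 zh31) (kh xh8 yh24 zh21) (kh xh10 yh13 zh31) (kh xh12 yh2 zh33) (kh xh8 yh24 zh23) (kh xh8 yh26 zh26) (kh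 xh10 yh13 zh35) (kh xh12 yh2 zh36) (kh xh10 yh13 zh37) (kh xh10 yh13 zh38) (kh xh12 yh2 zh41) (kh xh12 yh2 zh42) (kh xh8 yh24 zh30) (kh xh10 yh13 zh42) (kh xh9 yh17 zh32) (kh xh8 yh24 zh32) (kh xh10 yh13 zh45) (kh xh12 yh2 zh45) (kh xh8 yh24 zh34) (kh xh12 yh2 zh46) (kh xh8 yh24 zh37) (kh xh9 yh14 zh13)) (@D3.rec (fun _ => Pt) (kh xh9 yh9 zh6) (kh xh12 yh2 zh48) (kh xh12 yh2 zh49) (kh xh8 yh24 zh40) (kh xh8 yh24 zh45) (kh xh12 yh0 zh38) (kh xh12 yh3 zh2) (kh xh8 yh24 zh42) (kh xh8 yh24 zh43) (kh xh12 yh2 zh50) (kh xh12 yh0 zh43) (kh xh9 yh16 zh32) (kh xh12 yh3 zh11) (kh xh12 yh0 zh45) (kh xh12 yh3 zh13) (kh xh12 yh3 zh14) (kh xh8 yh24 zh49) (kh xh8 yh24 zh50) (kh xh8 yh25 zh6) (kh xh12 yh0 zh50) (kh xh8 yh25 zh8) (kh xh8 yh25 zh9) (kh xh12 yh3 zh26) (kh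 xh12 yh3 zh27) (kh xh8 yh25 zh3) (kh xh12 yh3 zh15) (kh xh12 yh1 zh6) (kh xh12 yh3 zh17) (kh xh12 yh1 zh8) (kh xh12 yh3 zh19) (kh xh12 yh3 zh20) (kh xh12 yh3 zh41) (kh xh12 yh3 zh22) (kh xh12 yh3 zh23) (kh xh12 yh3 zh46) (kh xh12 yh3 zh47) (kh xh8 yh25 zh10) (kh xh10 yh14 zh37) (kh xh12 yh3 zh50) (kh xh10 yh14 zh39) (kh xh12 yh4 zh1) (kh xh8 yh25 zh14) (kh xh8 yh25 zh15) (kh xh8 yh25 zh17) (kh xh10 yh14 zh44) (kh xh12 yh1 zh21) (kh xh10 yh14 zh46) (kh xh10 yh14 zh47) (kh xh12 yh4 zh10) (kh xh10 yh14 zh49) (kh xh12 yh4 zh13)) (@D3.rec (fun _ => Pt) (kh xh10 yh15 zh0) (kh xh12 yh4 zh16) (kh xh8 yh25 zh24) (kh xh10 yh15 zh3) (kh xh12 yh4 zh18) (kh xh8 yh25 zh26) (kh xh12 yh4 zh20) (kh xh8 yh25 zh28) (kh xh12 yh4 zh23) (kh xh8 yh25 zh29) (kh xh8 yh25 zh39)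 (kh xh12 yh1 zh31) (kh xh8 yh25 zh41) (kh xh12 yh1 zh33) (kh xh8 yh25 zh43) (kh xh8 yh25 zh44) (kh xh12 yh4 zh37) (kh xh8 yh25 zh46) (kh xh8 yh25 zh47) (kh xh12 yh4 zh40) (kh xh8 yh25 zh49) (kh xh12 yh4 zh43) (kh xh8 yh25 zh36) (kh xh8 yh25 zh37) (kh xh12 yh4 zh24) (kh xh12 yh1 zh45) (kh xh12 yh4 zh26) (kh xh12 yh4 zh27) (kh xh12 yh5 zh3) (kh xh12 yh4 zh29) (kh xh12 yh4 zh30) (kh xh12 yh5 zh8) (kh xh12 yh4 zh32) (kh xh12 yh4 zh33) (kh xh12 yh5 zh14) (kh xh12 yh4 zh35) (kh xh12 yh5 zh17) (kh xh8 yh25 zh45) (kh xh9 yh15 zh7) (kh xh9 yh14 zh29) (kh xh12 yh5 zh20) (kh xh12 yh1 zh12) (kh xh12 yh5 zh23) (kh xh8 yh25 zh48) (kh xh12 yh4 zh41) (kh xh12 yh5 zh27) (kh xh8 yh25 zh50) (kh xh10 yh15 zh47) (kh xh12 yh5 zh30) (kh xh8 yh26 zh2) (kh xh10 yh15 zh50)) (@D3.rec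 (fun _ => Pt) (kh xh12 yh5 zh33) (kh xh8 yh26 zh4) (kh xh10 yh16 zh2) (kh xh12 yh5 zh36) (kh xh8 yh26 zh7) (kh xh12 yh5 zh28) (kh xh9 yh24 zh33) (kh xh8 yh26 zh10) (kh xh12 yh2 zh21) (kh xh10 yh16 zh9) (kh xh10 yh16 zh10) (kh xh12 yh5 zh42) (kh xh10 yh16 zh12) (kh xh10 yh16 zh13) (kh xh12 yh5 zh48) (kh xh12 yh5 zh49) (kh xh8 yh26 zh17) (kh xh12 yh5 zh50) (kh xh8 yh26 zh19) (kh xh10 yh16 zh19) (kh xh12 yh6 zh1) (kh xh8 yh26 zh21) (kh xh12 yh6 zh3) (kh xh8 yh26 zh24) (kh xh12 yh5 zh24) (kh xh12 yh6 zh6) (kh xh8 yh26 zh28) (kh xh10 yh16 zh27) (kh xh10 yh16 zh28) (kh xh12 yh6 zh10) (kh xh12 yh6 zh11) (kh xh8 yh26 zh31) (kh xh8 yh26 zh32) (kh xh12 yh6 zh13) (kh xh8 yh26 zh36) (kh xh8 yh26 zh38) (kh xh9 yh14 zh2) (kh xh11 yh21 zh4) (kh xh8 yh26 zh43) (kh xh10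 yh16 zh39) (kh xh12 yh6 zh15) (kh xh11 yh21 zh3) (kh xh8 yh26 zh47) (kh xh9 yh2 zh1) (kh xh12 yh6 zh16) (kh xh10 yh16 zh45) (kh xh12 yh6 zh19) (kh xh9 yh0 zh5) (kh xh10 yh16 zh48) (kh xh12 yh6 zh21) (kh xh9 yh0 zh7)) (@D3.rec (fun _ => Pt) (kh xh12 yh6 zh22) (kh xh9 yh0 zh10) (kh xh10 yh17 zh2) (kh xh9 yh1 zh48) (kh xh12 yh6 zh24) (kh xh9 yh0 zh20) (kh xh9 yh0 zh21) (kh xh9 yh18 zh15) (kh xh9 yh2 zh13) (kh xh9 yh9 zh33) (kh xh12 yh6 zh32) (kh xh9 yh2 zh16) (kh xh12 yh6 zh33) (kh xh9 yh0 zh27) (kh xh9 yh18 zh9) (kh xh9 yh2 zh28) (kh xh9 yh18 zh12) (kh xh9 yh2 zh30) (kh xh9 yh18 zh16) (kh xh12 yh6 zh42) (kh xh12 yh6 zh43) (kh xh9 yh0 zh33) (kh xh10 yh17 zh22) (kh xh12 yh6 zh45) (kh xh10 yh17 zh24) (kh xh12 yh6 zh47) (kh xh9 yh0 zh37) (kh xh9 yh0 zh38) (kh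 xh9 yh0 zh40) (kh xh9 yh2 zh47) (kh xh12 yh6 zh50) (kh xh9 yh0 zh44) (kh xh12 yh7 zh2) (kh xh9 yh0 zh45) (kh xh9 yh1 zh3) (kh xh9 yh3 zh11) (kh xh9 yh1 zh5) (kh xh9 yh3 zh13) (kh xh9 yh1 zh8) (kh xh12 yh7 zh11) (kh xh12 yh7 zh12) (kh xh9 yh1 zh0) (kh xh9 yh1 zh1) (kh xh12 yh7 zh3) (kh xh9 yh3 zh25) (kh xh9 yh17 zh38) (kh xh12 yh7 zh5) (kh xh12 yh7 zh23) (kh xh9 yh17 zh40) (kh xh12 yh7 zh7) (kh xh12 yh7 zh27)) (@D3.rec (fun _ => Pt) (kh xh9 yh10 zh31) (kh xh9 yh10 zh14) (kh xh12 yh7 zh31) (kh xh12 yh7 zh9) (kh xh12 yh7 zh34) (kh xh9 yh1 zh9) (kh xh12 yh7 zh35) (kh xh12 yh7 zh36) (kh xh9 yh1 zh12) (kh xh11 yh21 zh17) (kh xh12 yh7 zh39) (kh xh9 yh1 zh14) (kh xh10 yh18 zh12) (kh xh12 yh7 zh43) (kh xh9 yh1 zh17) (kh xh10 yh18 zh15) (kh xh12 yh7 zh46) (kh xh9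 yh1 zh19) (kh xh10 yh18 zh18) (kh xh12 yh7 zh49) (kh xh9 yh1 zh22) (kh xh12 yh7 zh40) (kh xh12 yh8 zh1) (kh xh9 yh1 zh25) (kh xh9 yh5 zh6) (kh xh9 yh4 zh9) (kh xh9 yh5 zh7) (kh xh9 yh5 zh8) (kh xh9 yh22 zh16) (kh xh9 yh5 zh9) (kh xh9 yh5 zh10) (kh xh9 yh19 zh20) (kh xh9 yh22 zh15) (kh xh9 yh19 zh22) (kh xh9 yh19 zh14) (kh xh9 yh19 zh0) (kh xh9 yh1 zh46) (kh xh9 yh1 zh45) (kh xh9 yh1 zh42) (kh xh12 yh8 zh5) (kh xh9 yh1 zh50) (kh xh11 yh21 zh1) (kh xh12 yh8 zh2) (kh xh12 yh8 zh9) (kh xh9 yh2 zh4) (kh xh9 yh2 zh5) (kh xh9 yh2 zh12) (kh xh9 yh18 zh41) (kh xh12 yh8 zh15) (kh xh12 yh8 zh16) (kh xh9 yh2 zh9)) (@D3.rec (fun _ => Pt) (kh xh12 yh8 zh10) (kh xh12 yh6 zh26) (kh xh12 yh8 zh12) (kh xh12 yh6 zh28) (kh xh11 yh21 zh18) (kh xh12 yh8 zh25) (kh xh12 yh8 zh26)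 (kh xh9 yh2 zh15) (kh xh12 yh8 zh27) (kh xh9 yh2 zh17) (kh xh12 yh8 zh30) (kh xh9 yh2 zh18) (kh xh9 yh2 zh27) (kh xh9 yh18 zh36) (kh xh9 yh2 zh29) (kh xh9 yh18 zh39) (kh xh9 yh2 zh32) (kh xh12 yh8 zh39) (kh xh12 yh8 zh40) (kh xh9 yh2 zh24) (kh xh9 yh2 zh25) (kh xh12 yh8 zh31) (kh xh12 yh6 zh35) (kh xh9 yh23 zh0) (kh xh12 yh8 zh33) (kh xh12 yh9 zh0) (kh xh9 yh23 zh1) (kh xh12 yh8 zh35) (kh xh12 yh9 zh5) (kh xh9 yh23 zh3) (kh xh9 yh23 zh4) (kh xh12 yh9 zh9) (kh xh12 yh8 zh37) (kh xh12 yh9 zh11) (kh xh9 yh2 zh33) (kh xh12 yh9 zh12) (kh xh12 yh9 zh13) (kh xh9 yh2 zh36) (kh xh9 yh2 zh37) (kh xh10 yh19 zh39) (kh xh12 yh9 zh17) (kh xh9 yh2 zh40) (kh xh12 yh9 zh18) (kh xh9 yh2 zh42) (kh xh12 yh9 zh14) (kh xh9 yh5 zh19) (kh xh12 yh6 zh49) (kh xh9 yh5 zh20) (kh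 xh9 yh5 zh21) (kh xh9 yh22 zh33) (kh xh9 yh5 zh22)) (@D3.rec (fun _ => Pt) (kh xh9 yh5 zh23) (kh xh9 yh22 zh36) (kh xh9 yh22 zh37) (kh xh9 yh22 zh39) (kh xh9 yh5 zh24) (kh xh9 yh22 zh41) (kh xh9 yh22 zh42) (kh xh12 yh9 zh33) (kh xh9 yh3 zh6) (kh xh12 yh4 zh21) (kh xh12 yh7 zh1) (kh xh9 yh3 zh8) (kh xh9 yh3 zh24) (kh xh12 yh7 zh4) (kh xh9 yh3 zh26) (kh xh9 yh3 zh27) (kh xh12 yh9 zh49) (kh xh9 yh3 zh29) (kh xh9 yh3 zh30) (kh xh12 yh10 zh4) (kh xh9 yh3 zh32) (kh xh9 yh3 zh33) (kh xh12 yh10 zh8) (kh xh9 yh3 zh35) (kh xh12 yh10 zh11) (kh xh9 yh3 zh16) (kh xh12 yh10 zh12) (kh xh9 yh3 zh41) (kh xh12 yh10 zh15) (kh xh9 yh3 zh19) (kh xh9 yh3 zh44) (kh xh12 yh10 zh18) (kh xh9 yh3 zh21) (kh xh12 yh9 zh39) (kh xh12 yh7 zh14) (kh xh12 yh9 zh41) (kh xh12 yh9 zh42) (kh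 xh12 yh10 zh28) (kh xh12 yh9 zh44) (kh xh12 yh9 zh45) (kh xh12 yh10 zh35) (kh xh12 yh9 zh47) (kh xh12 yh10 zh38) (kh xh9 yh3 zh28) (kh xh12 yh9 zh50) (kh xh12 yh10 zh0) (kh xh12 yh10 zh44) (kh xh12 yh10 zh2) (kh xh12 yh10 zh47) (kh xh9 yh3 zh31) (kh xh11 yh23 zh8)) (@D3.rec (fun _ => Pt) (kh xh11 yh23 zh7) (kh xh12 yh11 zh0) (kh xh12 yh10 zh6) (kh xh12 yh11 zh3) (kh xh9 yh3 zh34) (kh xh12 yh10 zh9) (kh xh12 yh11 zh7) (kh xh9 yh3 zh36) (kh xh12 yh11 zh9) (kh xh9 yh11 zh36) (kh xh12 yh11 zh12) (kh xh9 yh3 zh40) (kh xh12 yh10 zh13) (kh xh12 yh11 zh16) (kh xh9 yh3 zh42) (kh xh9 yh4 zh26) (kh xh12 yh10 zh16) (kh xh12 yh11 zh20) (kh xh9 yh3 zh45) (kh xh9 yh4 zh5) (kh xh10 yh21 zh20) (kh xh12 yh11 zh25) (kh xh9 yh3 zh48) (kh xh10 yh21 zh23) (kh xh12 yh11 zh28)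 (kh xh9 yh4 zh0) (kh xh12 yh11 zh8) (kh xh12 yh11 zh31) (kh xh9 yh4 zh3) (kh xh12 yh11 zh21) (kh xh12 yh11 zh22) (kh xh9 yh4 zh6) (kh xh9 yh5 zh47) (kh xh9 yh5 zh48) (kh xh12 yh11 zh39) (kh xh9 yh5 zh50) (kh xh9 yh6 zh0) (kh xh12 yh11 zh45) (kh xh12 yh11 zh46) (kh xh9 yh4 zh12) (kh xh9 yh6 zh4) (kh xh9 yh6 zh5) (kh xh12 yh12 zh0) (kh xh12 yh12 zh1) (kh xh12 yh12 zh3) (kh xh9 yh4 zh15) (kh xh9 yh4 zh16) (kh xh9 yh6 zh11) (kh xh12 yh12 zh7) (kh xh9 yh4 zh19) (kh xh12 yh12 zh9)) (@D3.rec (fun _ => Pt) (kh xh9 yh4 zh22) (kh xh12 yh11 zh4) (kh xh9 yh4 zh24) (kh xh12 yh11 zh13) (kh xh12 yh11 zh18) (kh xh9 yh6 zh2) (kh xh9 yh4 zh33) (kh xh9 yh4 zh32) (kh xh9 yh4 zh29) (kh xh9 yh6 zh20) (kh xh9 yh5 zh49) (kh xh12 yh11 zh38) (kh xh9 yh5 zh41) (kh xh12 yh12 zh14)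 (kh xh9 yh5 zh15) (kh xh9 yh21 zh23) (kh xh9 yh4 zh37) (kh xh9 yh18 zh43) (kh xh11 yh24 zh15) (kh xh12 yh6 zh12) (kh xh12 yh12 zh17) (kh xh9 yh4 zh43) (kh xh11 yh24 zh18) (kh xh9 yh4 zh45) (kh xh11 yh24 zh20) (kh xh11 yh24 zh21) (kh xh12 yh12 zh19) (kh xh9 yh5 zh0) (kh xh10 yh22 zh28) (kh xh9 yh5 zh28) (kh xh9 yh5 zh2) (kh xh9 yh5 zh31) (kh xh9 yh5 zh13) (kh xh10 yh22 zh33) (kh xh9 yh18 zh37) (kh xh9 yh18 zh33) (kh xh12 yh9 zh21) (kh xh12 yh9 zh22) (kh xh12 yh9 zh24) (kh xh12 yh9 zh27) (kh xh12 yh9 zh28) (kh xh12 yh12 zh28) (kh xh9 yh5 zh25) (kh xh10 yh22 zh43) (kh xh12 yh12 zh20) (kh xh10 yh22 zh45) (kh xh10 yh22 zh46) (kh xh12 yh12 zh36) (kh xh12 yh12 zh22) (kh xh9 yh5 zh42) (kh xh9 yh19 zh43)) (@D3.rec (fun _ => Pt) (kh xh9 yh5 zh43) (kh xh9 yh5 zh44)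 (kh xh9 yh19 zh46) (kh xh9 yh19 zh47) (kh xh9 yh5 zh45) (kh xh9 yh19 zh49) (kh xh9 yh5 zh46) (kh xh9 yh20 zh0) (kh xh9 yh20 zh1) (kh xh12 yh11 zh47) (kh xh12 yh12 zh37) (kh xh12 yh12 zh39) (kh xh12 yh12 zh40) (kh xh12 yh12 zh46) (kh xh12 yh11 zh35) (kh xh12 yh11 zh36) (kh xh12 yh11 zh41) (kh xh12 yh11 zh40) (kh xh12 yh12 zh47) (kh xh9 yh6 zh1) (kh xh12 yh12 zh49) (kh xh9 yh6 zh6) (kh xh9 yh6 zh7) (kh xh12 yh13 zh1) (kh xh9 yh6 zh8) (kh xh9 yh19 zh28) (kh xh10 yh23 zh26) (kh xh12 yh13 zh5) (kh xh9 yh6 zh12) (kh xh9 yh19 zh31) (kh xh9 yh6 zh14) (kh xh9 yh19 zh33) (kh xh9 yh9 zh31) (kh xh9 yh6 zh21) (kh xh10 yh23 zh34) (kh xh9 yh6 zh25) (kh xh10 yh23 zh36) (kh xh9 yh6 zh33) (kh xh9 yh6 zh42) (kh xh9 yh7 zh7) (kh xh12 yh13 zh10) (kh xh9 yh13 zh2) (kh xh9 yh7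 zh15) (kh xh9 yh13 zh16) (kh xh12 yh13 zh13) (kh xh9 yh13 zh9) (kh xh9 yh7 zh4) (kh xh9 yh23 zh11) (kh xh12 yh13 zh14) (kh xh9 yh13 zh41) (kh xh9 yh7 zh23)) (@D3.rec (fun _ => Pt) (kh xh9 yh13 zh39) (kh xh12 yh13 zh17) (kh xh11 yh17 zh21) (kh xh9 yh13 zh36) (kh xh12 yh13 zh22) (kh xh9 yh13 zh33) (kh xh12 yh13 zh24) (kh xh9 yh7 zh13) (kh xh11 yh17 zh22) (kh xh9 yh23 zh46) (kh xh9 yh23 zh8) (kh xh9 yh23 zh47) (kh xh11 yh17 zh20) (kh xh9 yh13 zh34) (kh xh9 yh13 zh24) (kh xh9 yh7 zh26) (kh xh9 yh7 zh32) (kh xh9 yh8 zh13) (kh xh9 yh7 zh34) (kh xh12 yh13 zh29) (kh xh12 yh13 zh25) (kh xh9 yh8 zh19) (kh xh12 yh13 zh32) (kh xh12 yh13 zh33) (kh xh9 yh7 zh35) (kh xh9 yh7 zh38) (kh xh9 yh7 zh40) (kh xh9 yh15 zh1) (kh xh9 yh8 zh32) (kh xh12 yh13 zh38) (kh xh11 yh19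 zh15) (kh xh9 yh16 zh42) (kh xh9 yh15 zh39) (kh xh12 yh13 zh43) (kh xh12 yh13 zh44) (kh xh9 yh7 zh49) (kh xh9 yh14 zh19) (kh xh9 yh15 zh13) (kh xh9 yh8 zh3) (kh xh10 yh0 zh27) (kh xh9 yh24 zh19) (kh xh12 yh13 zh46) (kh xh9 yh24 zh17) (kh xh9 yh8 zh9) (kh xh9 yh8 zh18) (kh xh12 yh13 zh26) (kh xh12 yh13 zh50) (kh xh9 yh8 zh28) (kh xh12 yh14 zh2) (kh xh9 yh8 zh15) (kh xh9 yh8 zh16)) (@D3.rec (fun _ => Pt) (kh xh9 yh16 zh29) (kh xh11 yh19 zh39) (kh xh11 yh18 zh42) (kh xh12 yh13 zh48) (kh xh12 yh14 zh13) (kh xh9 yh16 zh27) (kh xh12 yh14 zh16) (kh xh11 yh18 zh35) (kh xh9 yh16 zh24) (kh xh12 yh14 zh21) (kh xh9 yh16 zh19) (kh xh12 yh14 zh24) (kh xh9 yh8 zh24) (kh xh11 yh18 zh37) (kh xh12 yh14 zh26) (kh xh11 yh18 zh45) (kh xh12 yh14 zh29) (kh xh9 yh8 zh27) (kh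 xh12 yh14 zh0) (kh xh12 yh14 zh33) (kh xh9 yh8 zh29) (kh xh9 yh16 zh7) (kh xh12 yh13 zh36) (kh xh9 yh26 zh39) (kh xh11 yh18 zh36) (kh xh9 yh24 zh1) (kh xh9 yh8 zh42) (kh xh11 yh18 zh0) (kh xh11 yh18 zh22) (kh xh9 yh14 zh48) (kh xh9 yh9 zh25) (kh xh12 yh14 zh4) (kh xh9 yh12 zh2) (kh xh11 yh18 zh32) (kh xh11 yh18 zh24) (kh xh12 yh14 zh41) (kh xh9 yh8 zh46) (kh xh9 yh8 zh48) (kh xh12 yh14 zh30) (kh xh9 yh14 zh32) (kh xh9 yh16 zh47) (kh xh11 yh25 zh4) (kh xh11 yh18 zh29) (kh xh12 yh14 zh45) (kh xh9 yh9 zh7) (kh xh9 yh9 zh9) (kh xh9 yh17 zh34) (kh xh9 yh17 zh35) (kh xh10 yh25 zh48) (kh xh12 yh14 zh47) (kh xh9 yh9 zh13)) (@D3.rec (fun _ => Pt) (kh xh12 yh14 zh49) (kh xh9 yh9 zh16) (kh xh10 yh26 zh2) (kh xh9 yh9 zh18) (kh xh9 yh9 zh19) (kh xh9 yh9 zh27) (kh xh9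 yh11 zh9) (kh xh9 yh9 zh29) (kh xh9 yh11 zh11) (kh xh12 yh15 zh8) (kh xh9 yh9 zh24) (kh xh12 yh15 zh3) (kh xh9 yh11 zh23) (kh xh12 yh13 zh8) (kh xh12 yh15 zh5) (kh xh12 yh15 zh15) (kh xh12 yh13 zh7) (kh xh12 yh15 zh18) (kh xh12 yh6 zh29) (kh xh12 yh15 zh21) (kh xh9 yh9 zh32) (kh xh9 yh11 zh39) (kh xh12 yh15 zh23) (kh xh9 yh9 zh34) (kh xh10 yh26 zh24) (kh xh12 yh15 zh27) (kh xh9 yh9 zh38) (kh xh10 yh26 zh27) (kh xh12 yh15 zh30) (kh xh9 yh9 zh40) (kh xh10 yh26 zh30) (kh xh12 yh15 zh32) (kh xh9 yh9 zh42) (kh xh12 yh15 zh34) (kh xh9 yh9 zh45) (kh xh12 yh15 zh24) (kh xh10 yh26 zh36) (kh xh12 yh15 zh38) (kh xh9 yh9 zh48) (kh xh10 yh26 zh39) (kh xh12 yh15 zh41) (kh xh9 yh10 zh0) (kh xh12 yh15 zh42) (kh xh9 yh10 zh3) (kh xh9 yh19 zh8) (kh xh9 yh10 zh5) (kh xh9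 yh19 zh10) (kh xh9 yh19 zh11) (kh xh9 yh10 zh8) (kh xh9 yh26 zh45) (kh xh9 yh10 zh11))
def f_h_11 : D2 → D3 → Pt := @D2.rec (fun _ => D3 → Pt) (@D3.rec (fun _ => Pt) (kh xh12 yh7 zh29) (kh xh9 yh11 zh48) (kh xh10 yh0 zh1) (kh xh9 yh11 zh46) (kh xh12 yh15 zh50) (kh xh9 yh10 zh16) (kh xh9 yh10 zh26) (kh xh10 yh0 zh9) (kh xh9 yh10 zh28) (kh xh9 yh26 zh44) (kh xh9 yh10 zh30) (kh xh12 yh16 zh6) (kh xh12 yh16 zh7) (kh xh9 yh10 zh23) (kh xh9 yh10 zh24) (kh xh12 yh15 zh1) (kh xh9 yh21 zh18) (kh xh12 yh16 zh0) (kh xh12 yh16 zh1) (kh xh12 yh16 zh18) (kh xh12 yh16 zh3) (kh xh10 yh0 zh4) (kh xh12 yh16 zh24) (kh xh11 yh20 zh13) (kh xh11 yh20 zh12) (kh xh12 yh16 zh28) (kh xh12 yh7 zh18) (kh xh12 yh16 zh30) (kh xh9 yh10 zh32) (kh xh12 yh16 zh31) (kh xh12 yh16 zh32) (kh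 xh9 yh10 zh35) (kh xh9 yh10 zh36) (kh xh9 yh15 zh29) (kh xh9 yh18 zh27) (kh xh9 yh18 zh28) (kh xh11 yh0 zh36) (kh xh9 yh26 zh29) (kh xh11 yh0 zh38) (kh xh11 yh0 zh39) (kh xh12 yh16 zh41) (kh xh11 yh0 zh41) (kh xh11 yh0 zh42) (kh xh12 yh16 zh47) (kh xh12 yh16 zh48) (kh xh9 yh10 zh47) (kh xh11 yh0 zh46) (kh xh12 yh17 zh0) (kh xh9 yh10 zh49) (kh xh11 yh0 zh49) (kh xh12 yh17 zh2)) (@D3.rec (fun _ => Pt) (kh xh9 yh11 zh0) (kh xh12 yh17 zh4) (kh xh9 yh11 zh3) (kh xh12 yh16 zh33) (kh xh9 yh20 zh44) (kh xh12 yh15 zh2) (kh xh9 yh11 zh6) (kh xh9 yh11 zh22) (kh xh12 yh15 zh4) (kh xh9 yh11 zh24) (kh xh9 yh11 zh25) (kh xh12 yh17 zh20) (kh xh9 yh11 zh27) (kh xh12 yh17 zh23) (kh xh9 yh11 zh30) (kh xh9 yh11 zh31) (kh xh12 yh17 zh28) (kh xh9 yh11 zh33) (kh xh12 yh17 zh31)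 (kh xh9 yh11 zh14) (kh xh9 yh11 zh37) (kh xh12 yh17 zh33) (kh xh12 yh17 zh34) (kh xh9 yh11 zh17) (kh xh9 yh11 zh42) (kh xh12 yh17 zh38) (kh xh9 yh11 zh19) (kh xh12 yh17 zh10) (kh xh12 yh14 zh39) (kh xh12 yh17 zh12) (kh xh12 yh17 zh13) (kh xh12 yh17 zh47) (kh xh12 yh17 zh15) (kh xh12 yh17 zh16) (kh xh12 yh18 zh3) (kh xh12 yh17 zh18) (kh xh12 yh18 zh6) (kh xh9 yh11 zh26) (kh xh12 yh17 zh21) (kh xh10 yh0 zh6) (kh xh12 yh18 zh12) (kh xh9 yh20 zh4) (kh xh12 yh18 zh14) (kh xh9 yh11 zh29) (kh xh12 yh11 zh10) (kh xh12 yh17 zh24) (kh xh12 yh18 zh19) (kh xh12 yh17 zh26) (kh xh12 yh18 zh22) (kh xh9 yh11 zh32) (kh xh12 yh17 zh29)) (@D3.rec (fun _ => Pt) (kh xh12 yh18 zh26) (kh xh9 yh11 zh34) (kh xh9 yh21 zh7) (kh xh12 yh18 zh28) (kh xh9 yh21 zh5) (kh xh12 yh18 zh31)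 (kh xh9 yh11 zh38) (kh xh12 yh15 zh19) (kh xh12 yh18 zh35) (kh xh9 yh11 zh40) (kh xh9 yh12 zh19) (kh xh12 yh17 zh36) (kh xh12 yh18 zh39) (kh xh9 yh11 zh43) (kh xh12 yh15 zh46) (kh xh9 yh26 zh46) (kh xh11 yh21 zh14) (kh xh11 yh21 zh16) (kh xh11 yh2 zh18) (kh xh12 yh18 zh42) (kh xh11 yh2 zh20) (kh xh11 yh2 zh21) (kh xh12 yh18 zh46) (kh xh12 yh18 zh47) (kh xh9 yh12 zh5) (kh xh11 yh2 zh25) (kh xh11 yh2 zh26) (kh xh12 yh19 zh0) (kh xh12 yh19 zh1) (kh xh12 yh19 zh3) (kh xh9 yh12 zh8) (kh xh9 yh12 zh9) (kh xh11 yh2 zh32) (kh xh12 yh19 zh6) (kh xh9 yh12 zh12) (kh xh12 yh19 zh8) (kh xh9 yh12 zh15) (kh xh12 yh18 zh23) (kh xh9 yh12 zh17) (kh xh12 yh18 zh32) (kh xh12 yh18 zh37) (kh xh9 yh12 zh20) (kh xh12 yh19 zh11) (kh xh12 yh19 zh12) (kh xh9 yh12 zh23) (kh xh9 yh12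 zh24) (kh xh12 yh19 zh13) (kh xh12 yh19 zh14) (kh xh9 yh12 zh28) (kh xh9 yh18 zh46) (kh xh9 yh12 zh30)) (@D3.rec (fun _ => Pt) (kh xh9 yh17 zh18) (kh xh12 yh19 zh16) (kh xh9 yh12 zh34) (kh xh9 yh12 zh36) (kh xh9 yh21 zh48) (kh xh9 yh12 zh44) (kh xh9 yh13 zh13) (kh xh9 yh13 zh5) (kh xh9 yh13 zh17) (kh xh11 yh26 zh42) (kh xh12 yh19 zh20) (kh xh11 yh3 zh11) (kh xh12 yh19 zh22) (kh xh9 yh12 zh49) (kh xh9 yh13 zh4) (kh xh12 yh19 zh24) (kh xh12 yh19 zh25) (kh xh11 yh26 zh41) (kh xh12 yh19 zh27) (kh xh12 yh19 zh28) (kh xh9 yh13 zh6) (kh xh9 yh13 zh10) (kh xh9 yh13 zh18) (kh xh12 yh19 zh31) (kh xh11 yh24 zh36) (kh xh11 yh25 zh38) (kh xh9 yh15 zh28) (kh xh12 yh19 zh33) (kh xh12 yh19 zh34) (kh xh9 yh13 zh19) (kh xh9 yh13 zh21) (kh xh12 yh19 zh35) (kh xh9 yh13 zh26)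 (kh xh9 yh13 zh27) (kh xh9 yh13 zh38) (kh xh12 yh19 zh38) (kh xh9 yh13 zh30) (kh xh9 yh13 zh31) (kh xh12 yh13 zh20) (kh xh11 yh17 zh35) (kh xh12 yh19 zh41) (kh xh12 yh13 zh18) (kh xh12 yh19 zh43) (kh xh9 yh13 zh37) (kh xh11 yh25 zh41) (kh xh11 yh25 zh16) (kh xh12 yh19 zh46) (kh xh11 yh17 zh10) (kh xh12 yh19 zh48) (kh xh9 yh13 zh40) (kh xh11 yh17 zh12)) (@D3.rec (fun _ => Pt) (kh xh12 yh20 zh0) (kh xh9 yh13 zh42) (kh xh9 yh23 zh49) (kh xh9 yh23 zh10) (kh xh12 yh20 zh1) (kh xh12 yh20 zh2) (kh xh9 yh14 zh1) (kh xh12 yh20 zh3) (kh xh9 yh14 zh4) (kh xh12 yh20 zh5) (kh xh9 yh14 zh7) (kh xh12 yh19 zh49) (kh xh9 yh14 zh10) (kh xh12 yh2 zh47) (kh xh12 yh20 zh8) (kh xh9 yh14 zh15) (kh xh9 yh14 zh17) (kh xh9 yh14 zh20) (kh xh9 yh14 zh27) (kh xh9 yh15 zh32) (kh xh12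 yh20 zh12) (kh xh9 yh14 zh24) (kh xh12 yh20 zh9) (kh xh9 yh15 zh38) (kh xh9 yh15 zh4) (kh xh9 yh15 zh40) (kh xh12 yh5 zh10) (kh xh12 yh20 zh20) (kh xh12 yh20 zh21) (kh xh9 yh14 zh30) (kh xh9 yh15 zh48) (kh xh11 yh4 zh31) (kh xh12 yh20 zh24) (kh xh11 yh4 zh33) (kh xh12 yh20 zh26) (kh xh9 yh14 zh38) (kh xh11 yh4 zh36) (kh xh12 yh20 zh28) (kh xh9 yh14 zh40) (kh xh9 yh14 zh50) (kh xh9 yh16 zh9) (kh xh9 yh15 zh3) (kh xh12 yh20 zh34) (kh xh9 yh15 zh6) (kh xh12 yh20 zh36) (kh xh12 yh20 zh37) (kh xh9 yh14 zh47) (kh xh12 yh13 zh35) (kh xh9 yh16 zh20) (kh xh12 yh20 zh30) (kh xh12 yh20 zh31)) (@D3.rec (fun _ => Pt) (kh xh12 yh20 zh44) (kh xh12 yh20 zh45) (kh xh12 yh5 zh9) (kh xh12 yh20 zh48) (kh xh12 yh20 zh13) (kh xh12 yh20 zh50) (kh xh9 yh15 zh5) (kh xh12 yh3 zh43)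 (kh xh12 yh3 zh42) (kh xh12 yh21 zh2) (kh xh12 yh21 zh3) (kh xh9 yh15 zh8) (kh xh9 yh15 zh9) (kh xh12 yh13 zh45) (kh xh11 yh5 zh14) (kh xh12 yh21 zh7) (kh xh12 yh21 zh8) (kh xh9 yh15 zh17) (kh xh9 yh15 zh18) (kh xh12 yh21 zh10) (kh xh9 yh15 zh21) (kh xh12 yh21 zh4) (kh xh9 yh15 zh23) (kh xh9 yh15 zh25) (kh xh11 yh25 zh31) (kh xh11 yh24 zh30) (kh xh9 yh15 zh37) (kh xh12 yh20 zh10) (kh xh9 yh15 zh41) (kh xh12 yh21 zh17) (kh xh9 yh15 zh43) (kh xh12 yh21 zh19) (kh xh9 yh15 zh34) (kh xh9 yh15 zh35) (kh xh12 yh13 zh41) (kh xh12 yh20 zh14) (kh xh12 yh21 zh13) (kh xh12 yh21 zh14) (kh xh12 yh21 zh27) (kh xh12 yh21 zh28) (kh xh12 yh21 zh29) (kh xh9 yh15 zh42) (kh xh12 yh3 zh9) (kh xh12 yh21 zh31) (kh xh9 yh15 zh44) (kh xh11 yh5 zh45) (kh xh12 yh14 zh43) (kh xh12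 yh21 zh34) (kh xh12 yh21 zh35) (kh xh12 yh21 zh36) (kh xh9 yh16 zh0)) (@D3.rec (fun _ => Pt) (kh xh9 yh16 zh1) (kh xh9 yh16 zh2) (kh xh12 yh21 zh38) (kh xh9 yh16 zh5) (kh xh12 yh21 zh32) (kh xh9 yh16 zh21) (kh xh9 yh16 zh22) (kh xh12 yh21 zh45) (kh xh9 yh16 zh26) (kh xh12 yh21 zh47) (kh xh9 yh16 zh11) (kh xh9 yh16 zh33) (kh xh12 yh21 zh49) (kh xh9 yh16 zh35) (kh xh12 yh21 zh50) (kh xh9 yh16 zh14) (kh xh9 yh16 zh38) (kh xh9 yh16 zh16) (kh xh12 yh14 zh22) (kh xh12 yh14 zh37) (kh xh12 yh14 zh19) (kh xh12 yh14 zh11) (kh xh12 yh22 zh8) (kh xh12 yh21 zh41) (kh xh12 yh21 zh42) (kh xh12 yh22 zh15) (kh xh12 yh14 zh6) (kh xh12 yh22 zh18) (kh xh9 yh16 zh23) (kh xh12 yh14 zh17) (kh xh12 yh22 zh20) (kh xh9 yh16 zh25) (kh xh12 yh3 zh7) (kh xh12 yh14 zh14) (kh xh12 yh22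 zh24) (kh xh12 yh14 zh5) (kh xh12 yh22 zh27) (kh xh9 yh16 zh28) (kh xh12 yh14 zh3) (kh xh12 yh22 zh31) (kh xh9 yh16 zh30) (kh xh12 yh2 zh7) (kh xh12 yh22 zh33) (kh xh11 yh25 zh18) (kh xh12 yh22 zh35) (kh xh9 yh16 zh34) (kh xh11 yh18 zh4) (kh xh12 yh22 zh38) (kh xh9 yh16 zh36) (kh xh9 yh17 zh13) (kh xh11 yh18 zh6)) (@D3.rec (fun _ => Pt) (kh xh12 yh22 zh42) (kh xh9 yh16 zh39) (kh xh9 yh26 zh49) (kh xh11 yh18 zh43) (kh xh9 yh24 zh3) (kh xh11 yh7 zh5) (kh xh12 yh22 zh45) (kh xh11 yh7 zh7) (kh xh12 yh22 zh47) (kh xh12 yh19 zh15) (kh xh9 yh16 zh50) (kh xh11 yh7 zh11) (kh xh11 yh7 zh12) (kh xh12 yh23 zh0) (kh xh12 yh23 zh1) (kh xh12 yh23 zh3) (kh xh9 yh17 zh2) (kh xh9 yh17 zh3) (kh xh12 yh23 zh5) (kh xh9 yh17 zh6) (kh xh12 yh23 zh7) (kh xh9 yh17 zh9) (kh xh12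 yh22 zh28) (kh xh9 yh17 zh11) (kh xh12 yh22 zh36) (kh xh12 yh22 zh40) (kh xh9 yh17 zh14) (kh xh11 yh7 zh27) (kh xh11 yh7 zh28) (kh xh12 yh23 zh16) (kh xh12 yh15 zh39) (kh xh9 yh17 zh17) (kh xh11 yh7 zh32) (kh xh12 yh23 zh18) (kh xh9 yh22 zh5) (kh xh12 yh23 zh20) (kh xh9 yh17 zh22) (kh xh9 yh18 zh45) (kh xh9 yh17 zh24) (kh xh12 yh23 zh21) (kh xh9 yh17 zh28) (kh xh9 yh17 zh30) (kh xh12 yh2 zh43) (kh xh12 yh0 zh30) (kh xh11 yh16 zh21) (kh xh11 yh18 zh49) (kh xh11 yh16 zh18) (kh xh9 yh23 zh23) (kh xh9 yh17 zh36) (kh xh12 yh7 zh15) (kh xh9 yh19 zh27)) (@D3.rec (fun _ => Pt) (kh xh12 yh7 zh19) (kh xh12 yh23 zh30) (kh xh12 yh23 zh31) (kh xh9 yh17 zh42) (kh xh9 yh19 zh40) (kh xh12 yh15 zh45) (kh xh9 yh20 zh5) (kh xh9 yh17 zh47) (kh xh9 yh18 zh7) (kh xh9 yh20 zh8)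 (kh xh9 yh18 zh10) (kh xh12 yh23 zh40) (kh xh9 yh18 zh13) (kh xh12 yh23 zh42) (kh xh9 yh18 zh18) (kh xh12 yh23 zh44) (kh xh9 yh18 zh3) (kh xh9 yh18 zh4) (kh xh12 yh23 zh34) (kh xh9 yh20 zh31) (kh xh12 yh6 zh34) (kh xh12 yh23 zh36) (kh xh12 yh24 zh2) (kh xh12 yh6 zh25) (kh xh12 yh6 zh36) (kh xh12 yh24 zh8) (kh xh12 yh23 zh38) (kh xh12 yh24 zh10) (kh xh9 yh18 zh11) (kh xh12 yh6 zh27) (kh xh12 yh6 zh38) (kh xh12 yh24 zh15) (kh xh12 yh8 zh7) (kh xh12 yh24 zh18) (kh xh9 yh18 zh14) (kh xh11 yh22 zh1) (kh xh12 yh24 zh21) (kh xh12 yh6 zh40) (kh xh12 yh24 zh23) (kh xh9 yh18 zh17) (kh xh12 yh24 zh24) (kh xh9 yh18 zh19) (kh xh12 yh24 zh25) (kh xh9 yh18 zh22) (kh xh9 yh18 zh23) (kh xh9 yh19 zh15) (kh xh12 yh16 zh34) (kh xh9 yh22 zh4) (kh xh12 yh12 zh15) (kh xh9 yh22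 zh6) (kh xh9 yh22 zh7)) (@D3.rec (fun _ => Pt) (kh xh12 yh8 zh32) (kh xh12 yh12 zh23) (kh xh9 yh20 zh2) (kh xh9 yh19 zh17) (kh xh12 yh8 zh11) (kh xh12 yh24 zh16) (kh xh12 yh8 zh29) (kh xh9 yh22 zh8) (kh xh12 yh8 zh13) (kh xh11 yh21 zh9) (kh xh12 yh23 zh19) (kh xh12 yh24 zh37) (kh xh12 yh8 zh3) (kh xh9 yh18 zh50) (kh xh12 yh24 zh38) (kh xh9 yh19 zh4) (kh xh9 yh19 zh6) (kh xh12 yh15 zh43) (kh xh12 yh8 zh6) (kh xh10 yh0 zh5) (kh xh12 yh16 zh22) (kh xh12 yh8 zh8) (kh xh9 yh19 zh26) (kh xh12 yh8 zh4) (kh xh9 yh19 zh29) (kh xh12 yh24 zh45) (kh xh12 yh24 zh46) (kh xh9 yh19 zh23) (kh xh12 yh24 zh33) (kh xh12 yh23 zh26) (kh xh12 yh12 zh48) (kh xh12 yh24 zh42) (kh xh12 yh25 zh3) (kh xh12 yh12 zh50) (kh xh12 yh13 zh3) (kh xh12 yh25 zh9) (kh xh12 yh25 zh10) (kh xh9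 yh19 zh30) (kh xh12 yh13 zh6) (kh xh12 yh25 zh13) (kh xh9 yh19 zh32) (kh xh11 yh23 zh19) (kh xh12 yh25 zh15) (kh xh9 yh19 zh34) (kh xh12 yh25 zh16) (kh xh9 yh19 zh37) (kh xh9 yh22 zh17) (kh xh12 yh12 zh13) (kh xh9 yh22 zh18) (kh xh9 yh22 zh19) (kh xh12 yh12 zh38)) (@D3.rec (fun _ => Pt) (kh xh9 yh21 zh45) (kh xh9 yh22 zh20) (kh xh9 yh22 zh21) (kh xh12 yh12 zh41) (kh xh12 yh25 zh23) (kh xh12 yh12 zh43) (kh xh9 yh22 zh23) (kh xh12 yh12 zh44) (kh xh12 yh12 zh45) (kh xh12 yh15 zh44) (kh xh12 yh18 zh10) (kh xh12 yh17 zh45) (kh xh12 yh25 zh30) (kh xh9 yh20 zh30) (kh xh12 yh23 zh35) (kh xh9 yh20 zh32) (kh xh9 yh20 zh33) (kh xh12 yh25 zh38) (kh xh9 yh20 zh35) (kh xh9 yh20 zh36) (kh xh12 yh25 zh45) (kh xh9 yh20 zh38) (kh xh12 yh25 zh48) (kh xh9 yh20 zh11) (kh xh9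 yh20 zh41) (kh xh9 yh20 zh42) (kh xh12 yh26 zh2) (kh xh12 yh26 zh3) (kh xh9 yh20 zh14) (kh xh9 yh20 zh47) (kh xh9 yh20 zh48) (kh xh12 yh26 zh7) (kh xh9 yh20 zh50) (kh xh12 yh26 zh10) (kh xh9 yh20 zh17) (kh xh9 yh21 zh2) (kh xh12 yh26 zh13) (kh xh9 yh20 zh19) (kh xh12 yh26 zh14) (kh xh12 yh26 zh15) (kh xh9 yh20 zh23) (kh xh9 yh21 zh10) (kh xh12 yh26 zh18) (kh xh9 yh20 zh25) (kh xh9 yh21 zh14) (kh xh12 yh26 zh21) (kh xh9 yh20 zh28) (kh xh12 yh25 zh31) (kh xh12 yh25 zh32) (kh xh12 yh26 zh26) (kh xh12 yh25 zh34)) (@D3.rec (fun _ => Pt) (kh xh12 yh25 zh35) (kh xh12 yh26 zh32) (kh xh12 yh17 zh8) (kh xh12 yh26 zh35) (kh xh9 yh20 zh34) (kh xh12 yh25 zh39) (kh xh12 yh25 zh40) (kh xh12 yh26 zh41) (kh xh12 yh26 zh43) (kh xh12 yh25 zh43) (kh xh12 yh26 zh47) (kh xh9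 yh20 zh37) (kh xh12 yh25 zh46) (kh xh13 yh0 zh0) (kh xh9 yh20 zh39) (kh xh12 yh25 zh49) (kh xh12 yh25 zh50) (kh xh13 yh0 zh6) (kh xh12 yh17 zh7) (kh xh13 yh0 zh8) (kh xh9 yh20 zh43) (kh xh11 yh22 zh19) (kh xh13 yh0 zh12) (kh xh9 yh20 zh45) (kh xh12 yh18 zh29) (kh xh13 yh0 zh15) (kh xh12 yh26 zh5) (kh xh13 yh0 zh18) (kh xh9 yh20 zh49) (kh xh12 yh26 zh8) (kh xh13 yh0 zh22) (kh xh9 yh21 zh0) (kh xh9 yh21 zh41) (kh xh12 yh26 zh11) (kh xh13 yh0 zh26) (kh xh9 yh21 zh3) (kh xh13 yh0 zh27) (kh xh9 yh21 zh6) (kh xh12 yh18 zh15) (kh xh13 yh0 zh30) (kh xh9 yh21 zh8) (kh xh9 yh21 zh43) (kh xh12 yh26 zh16) (kh xh13 yh0 zh33) (kh xh9 yh21 zh11) (kh xh9 yh26 zh24) (kh xh9 yh21 zh44) (kh xh13 yh0 zh36) (kh xh9 yh21 zh15) (kh xh10 yh0 zh13) (kh xh12 yh16 zh9)) (@D3.rec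 (fun _ => Pt) (kh xh11 yh21 zh42) (kh xh12 yh11 zh50) (kh xh9 yh21 zh33) (kh xh12 yh8 zh46) (kh xh9 yh21 zh31) (kh xh9 yh21 zh26) (kh xh12 yh25 zh19) (kh xh12 yh8 zh43) (kh xh9 yh21 zh32) (kh xh13 yh0 zh41) (kh xh12 yh26 zh48) (kh xh9 yh25 zh22) (kh xh13 yh0 zh9) (kh xh9 yh21 zh39) (kh xh13 yh0 zh19) (kh xh13 yh0 zh24) (kh xh9 yh21 zh49) (kh xh9 yh22 zh25) (kh xh13 yh0 zh45) (kh xh9 yh22 zh30) (kh xh9 yh22 zh10) (kh xh11 yh12 zh21) (kh xh13 yh0 zh47) (kh xh9 yh22 zh22) (kh xh11 yh12 zh24) (kh xh11 yh12 zh25) (kh xh13 yh1 zh2) (kh xh11 yh12 zh27) (kh xh11 yh12 zh28) (kh xh13 yh1 zh8) (kh xh13 yh1 zh9) (kh xh9 yh22 zh28) (kh xh9 yh22 zh43) (kh xh12 yh9 zh23) (kh xh9 yh22 zh44) (kh xh9 yh22 zh45) (kh xh12 yh9 zh25) (kh xh12 yh9 zh26) (kh xh9 yh22 zh46) (kh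 xh9 yh22 zh47) (kh xh12 yh9 zh29) (kh xh13 yh1 zh17) (kh xh12 yh9 zh31) (kh xh9 yh22 zh49) (kh xh9 yh26 zh37) (kh xh12 yh9 zh32) (kh xh9 yh22 zh48) (kh xh13 yh1 zh11) (kh xh12 yh8 zh47) (kh xh12 yh9 zh1) (kh xh12 yh9 zh7)) (@D3.rec (fun _ => Pt) (kh xh11 yh17 zh17) (kh xh11 yh26 zh22) (kh xh11 yh17 zh30) (kh xh9 yh23 zh14) (kh xh9 yh23 zh17) (kh xh9 yh23 zh19) (kh xh11 yh17 zh42) (kh xh12 yh0 zh1) (kh xh9 yh23 zh22) (kh xh9 yh23 zh25) (kh xh9 yh23 zh26) (kh xh11 yh13 zh11) (kh xh11 yh13 zh12) (kh xh9 yh23 zh29) (kh xh11 yh13 zh14) (kh xh9 yh23 zh31) (kh xh11 yh13 zh16) (kh xh11 yh13 zh17) (kh xh11 yh13 zh18) (kh xh11 yh13 zh19) (kh xh11 yh13 zh20) (kh xh9 yh23 zh44) (kh xh9 yh23 zh38) (kh xh11 yh18 zh15) (kh xh9 yh23 zh42) (kh xh11 yh25 zh26) (kh xh12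 yh1 zh26) (kh xh11 yh18 zh33) (kh xh12 yh14 zh35) (kh xh11 yh17 zh44) (kh xh12 yh22 zh43) (kh xh12 yh13 zh47) (kh xh9 yh24 zh5) (kh xh11 yh24 zh40) (kh xh13 yh1 zh39) (kh xh9 yh24 zh8) (kh xh11 yh26 zh24) (kh xh9 yh24 zh10) (kh xh9 yh24 zh35) (kh xh11 yh19 zh7) (kh xh9 yh24 zh13) (kh xh12 yh22 zh39) (kh xh9 yh24 zh36) (kh xh12 yh8 zh22) (kh xh13 yh1 zh43) (kh xh9 yh24 zh24) (kh xh9 yh24 zh25) (kh xh13 yh1 zh45) (kh xh9 yh24 zh26) (kh xh9 yh24 zh29) (kh xh9 yh24 zh31)) (@D3.rec (fun _ => Pt) (kh xh11 yh19 zh37) (kh xh12 yh5 zh35) (kh xh12 yh0 zh24) (kh xh12 yh0 zh34) (kh xh12 yh2 zh32) (kh xh12 yh20 zh27) (kh xh9 yh24 zh37) (kh xh11 yh14 zh7) (kh xh13 yh2 zh2) (kh xh9 yh24 zh40) (kh xh9 yh24 zh41) (kh xh11 yh14 zh11) (kh xh11 yh14 zh12) (kh xh9 yh24 zh45)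 (kh xh11 yh14 zh14) (kh xh11 yh14 zh15) (kh xh11 yh14 zh16) (kh xh11 yh14 zh17) (kh xh11 yh14 zh18) (kh xh11 yh14 zh19) (kh xh11 yh14 zh20) (kh xh11 yh14 zh21) (kh xh11 yh14 zh22) (kh xh11 yh14 zh23) (kh xh11 yh14 zh24) (kh xh11 yh14 zh25) (kh xh13 yh2 zh12) (kh xh9 yh25 zh5) (kh xh11 yh14 zh28) (kh xh13 yh2 zh15) (kh xh9 yh25 zh8) (kh xh13 yh2 zh17) (kh xh9 yh25 zh11) (kh xh9 yh25 zh29) (kh xh9 yh25 zh13) (kh xh9 yh25 zh31) (kh xh9 yh25 zh32) (kh xh9 yh25 zh27) (kh xh9 yh25 zh25) (kh xh12 yh10 zh39) (kh xh12 yh25 zh25) (kh xh9 yh25 zh20) (kh xh9 yh25 zh21) (kh xh13 yh2 zh22) (kh xh13 yh2 zh13) (kh xh13 yh2 zh16) (kh xh13 yh2 zh18) (kh xh13 yh2 zh19) (kh xh9 yh25 zh33) (kh xh11 yh14 zh49) (kh xh11 yh14 zh50)) (@D3.rec (fun _ => Pt) (kh xh13 yh2 zh29) (kh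 xh9 yh25 zh37) (kh xh13 yh2 zh31) (kh xh9 yh25 zh38) (kh xh13 yh2 zh34) (kh xh11 yh15 zh5) (kh xh13 yh2 zh36) (kh xh9 yh25 zh40) (kh xh9 yh25 zh47) (kh xh13 yh2 zh39) (kh xh9 yh25 zh43) (kh xh9 yh26 zh26) (kh xh11 yh15 zh12) (kh xh11 yh15 zh13) (kh xh13 yh2 zh38) (kh xh13 yh2 zh44) (kh xh9 yh25 zh49) (kh xh9 yh26 zh0) (kh xh11 yh15 zh18) (kh xh13 yh2 zh47) (kh xh9 yh26 zh3) (kh xh11 yh15 zh21) (kh xh13 yh2 zh49) (kh xh9 yh26 zh5) (kh xh11 yh15 zh24) (kh xh13 yh3 zh1) (kh xh9 yh26 zh8) (kh xh13 yh0 zh23) (kh xh9 yh26 zh33) (kh xh13 yh2 zh40) (kh xh9 yh26 zh12) (kh xh11 yh15 zh31) (kh xh13 yh3 zh6) (kh xh9 yh26 zh15) (kh xh11 yh15 zh34) (kh xh13 yh3 zh8) (kh xh9 yh26 zh18) (kh xh13 yh0 zh31) (kh xh13 yh2 zh41) (kh xh9 yh26 zh22) (kh xh13 yh0 zh34) (kh xh13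 yh0 zh35) (kh xh11 yh22 zh13) (kh xh13 yh3 zh12) (kh xh9 yh26 zh32) (kh xh13 yh3 zh4) (kh xh13 yh1 zh19) (kh xh11 yh15 zh47) (kh xh13 yh3 zh13) (kh xh12 yh16 zh20) (kh xh13 yh3 zh15)) (@D3.rec (fun _ => Pt) (kh xh12 yh18 zh8) (kh xh13 yh3 zh17) (kh xh10 yh0 zh7) (kh xh10 yh0 zh12) (kh xh11 yh21 zh31) (kh xh11 yh21 zh33) (kh xh13 yh3 zh19) (kh xh10 yh0 zh17) (kh xh13 yh3 zh20) (kh xh10 yh0 zh19) (kh xh13 yh3 zh21) (kh xh10 yh0 zh21) (kh xh13 yh3 zh22) (kh xh10 yh0 zh23) (kh xh11 yh16 zh14) (kh xh13 yh3 zh25) (kh xh10 yh0 zh29) (kh xh11 yh16 zh17) (kh xh11 yh7 zh46) (kh xh10 yh0 zh32) (kh xh11 yh16 zh20) (kh xh11 yh7 zh44) (kh xh10 yh0 zh35) (kh xh11 yh16 zh23) (kh xh13 yh3 zh30) (kh xh10 yh0 zh38) (kh xh11 yh16 zh26) (kh xh10 yh0 zh40) (kh xh10 yh0 zh41)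 (kh xh11 yh16 zh29) (kh xh13 yh3 zh34) (kh xh10 yh0 zh45) (kh xh11 yh16 zh32) (kh xh11 yh16 zh33) (kh xh13 yh3 zh38) (kh xh10 yh0 zh49) (kh xh11 yh16 zh36) (kh xh13 yh3 zh40) (kh xh10 yh1 zh1) (kh xh13 yh3 zh41) (kh xh10 yh1 zh4) (kh xh11 yh16 zh41) (kh xh11 yh16 zh42) (kh xh13 yh3 zh45) (kh xh10 yh1 zh8) (kh xh10 yh1 zh10) (kh xh11 yh16 zh46) (kh xh13 yh3 zh47) (kh xh10 yh1 zh13) (kh xh11 yh16 zh49) (kh xh13 yh3 zh49)) (@D3.rec (fun _ => Pt) (kh xh10 yh1 zh16) (kh xh13 yh4 zh0) (kh xh10 yh1 zh19) (kh xh11 yh17 zh3) (kh xh10 yh1 zh21) (kh xh11 yh17 zh5) (kh xh11 yh17 zh6) (kh xh10 yh1 zh38) (kh xh10 yh2 zh11) (kh xh10 yh1 zh36) (kh xh11 yh3 zh47) (kh xh10 yh2 zh13) (kh xh11 yh3 zh50) (kh xh13 yh4 zh3) (kh xh13 yh4 zh10) (kh xh11 yh17 zh15) (kh xh11 yh17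 zh16) (kh xh11 yh13 zh0) (kh xh13 yh4 zh12) (kh xh10 yh1 zh44) (kh xh10 yh24 zh12) (kh xh10 yh24 zh2) (kh xh10 yh24 zh8) (kh xh10 yh2 zh2) (kh xh13 yh4 zh14) (kh xh11 yh17 zh25) (kh xh13 yh4 zh16) (kh xh10 yh2 zh6) (kh xh10 yh2 zh8) (kh xh10 yh2 zh12) (kh xh11 yh13 zh2) (kh xh10 yh2 zh15) (kh xh13 yh4 zh19) (kh xh13 yh4 zh20) (kh xh13 yh4 zh21) (kh xh11 yh3 zh39) (kh xh13 yh4 zh24) (kh xh10 yh2 zh16) (kh xh11 yh17 zh38) (kh xh13 yh4 zh26) (kh xh10 yh2 zh18) (kh xh11 yh17 zh41) (kh xh11 yh13 zh6) (kh xh10 yh2 zh21) (kh xh11 yh13 zh29) (kh xh10 yh2 zh24) (kh xh10 yh2 zh32) (kh xh10 yh3 zh42) (kh xh10 yh2 zh34) (kh xh10 yh2 zh35) (kh xh13 yh4 zh35)) (@D3.rec (fun _ => Pt) (kh xh10 yh25 zh27) (kh xh10 yh2 zh29) (kh xh13 yh4 zh28) (kh xh10 yh3 zh48) (kh xh11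 yh6 zh46) (kh xh10 yh3 zh50) (kh xh11 yh6 zh50) (kh xh13 yh4 zh30) (kh xh13 yh4 zh48) (kh xh13 yh4 zh32) (kh xh13 yh4 zh33) (kh xh13 yh5 zh2) (kh xh13 yh5 zh3) (kh xh10 yh2 zh36) (kh xh11 yh18 zh14) (kh xh11 yh13 zh23) (kh xh11 yh18 zh16) (kh xh13 yh5 zh7) (kh xh10 yh2 zh40) (kh xh10 yh2 zh41) (kh xh10 yh4 zh18) (kh xh10 yh3 zh45) (kh xh10 yh25 zh28) (kh xh10 yh10 zh39) (kh xh10 yh25 zh34) (kh xh10 yh10 zh10) (kh xh13 yh5 zh13) (kh xh10 yh3 zh1) (kh xh10 yh10 zh23) (kh xh10 yh25 zh42) (kh xh13 yh5 zh15) (kh xh10 yh3 zh8) (kh xh10 yh25 zh33) (kh xh11 yh13 zh27) (kh xh10 yh3 zh11) (kh xh10 yh25 zh7) (kh xh10 yh25 zh24) (kh xh10 yh25 zh13) (kh xh13 yh5 zh20) (kh xh13 yh5 zh21) (kh xh10 yh3 zh18) (kh xh10 yh3 zh19) (kh xh10 yh25 zh2) (kh xh11 yh7 zh3) (kh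 xh13 yh5 zh24) (kh xh10 yh25 zh15) (kh xh13 yh5 zh27) (kh xh10 yh3 zh28) (kh xh11 yh18 zh48) (kh xh11 yh7 zh45) (kh xh10 yh3 zh30)) (@D3.rec (fun _ => Pt) (kh xh11 yh19 zh0) (kh xh13 yh5 zh31) (kh xh10 yh3 zh33) (kh xh10 yh3 zh38) (kh xh10 yh3 zh47) (kh xh13 yh4 zh29) (kh xh10 yh3 zh49) (kh xh11 yh13 zh39) (kh xh10 yh4 zh1) (kh xh13 yh5 zh39) (kh xh10 yh4 zh6) (kh xh13 yh5 zh42) (kh xh10 yh3 zh44) (kh xh13 yh5 zh32) (kh xh13 yh4 zh37) (kh xh10 yh24 zh30) (kh xh13 yh5 zh34) (kh xh13 yh5 zh49) (kh xh13 yh5 zh50) (kh xh13 yh6 zh0) (kh xh13 yh5 zh37) (kh xh13 yh6 zh3) (kh xh10 yh4 zh2) (kh xh13 yh6 zh4) (kh xh10 yh12 zh7) (kh xh13 yh6 zh7) (kh xh10 yh4 zh5) (kh xh13 yh5 zh40) (kh xh13 yh6 zh10) (kh xh10 yh4 zh7) (kh xh11 yh19 zh30) (kh xh13 yh6 zh14) (kh xh10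 yh4 zh10) (kh xh11 yh19 zh33) (kh xh13 yh6 zh17) (kh xh10 yh4 zh13) (kh xh13 yh6 zh11) (kh xh11 yh14 zh0) (kh xh10 yh4 zh16) (kh xh10 yh25 zh1) (kh xh13 yh6 zh20) (kh xh10 yh4 zh24) (kh xh13 yh6 zh23) (kh xh10 yh4 zh25) (kh xh10 yh4 zh35) (kh xh10 yh6 zh43) (kh xh10 yh4 zh37) (kh xh10 yh6 zh45) (kh xh10 yh4 zh39) (kh xh10 yh4 zh40) (kh xh13 yh6 zh35)) (@D3.rec (fun _ => Pt) (kh xh13 yh6 zh36) (kh xh13 yh6 zh37) (kh xh10 yh4 zh32) (kh xh10 yh4 zh33) (kh xh13 yh6 zh24) (kh xh10 yh7 zh6) (kh xh13 yh6 zh26) (kh xh13 yh6 zh27) (kh xh13 yh6 zh48) (kh xh13 yh6 zh29) (kh xh13 yh6 zh30) (kh xh13 yh7 zh2) (kh xh11 yh0 zh24) (kh xh11 yh0 zh23) (kh xh13 yh7 zh6) (kh xh13 yh6 zh33) (kh xh13 yh7 zh8) (kh xh10 yh4 zh41) (kh xh13 yh7 zh9) (kh xh13 yh7 zh10) (kh xh10 yh4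 zh44) (kh xh10 yh4 zh45) (kh xh11 yh20 zh22) (kh xh13 yh7 zh15) (kh xh10 yh4 zh48) (kh xh13 yh7 zh16) (kh xh10 yh4 zh50) (kh xh13 yh7 zh12) (kh xh10 yh7 zh40) (kh xh11 yh20 zh29) (kh xh13 yh7 zh20) (kh xh11 yh20 zh31) (kh xh11 yh20 zh32) (kh xh13 yh7 zh25) (kh xh13 yh7 zh26) (kh xh10 yh5 zh7) (kh xh13 yh7 zh27) (kh xh10 yh5 zh9) (kh xh13 yh7 zh28) (kh xh10 yh5 zh11) (kh xh13 yh7 zh30) (kh xh10 yh5 zh14) (kh xh13 yh7 zh11) (kh xh13 yh7 zh33) (kh xh10 yh5 zh18) (kh xh11 yh20 zh45) (kh xh13 yh7 zh35) (kh xh13 yh7 zh36) (kh xh10 yh5 zh21) (kh xh10 yh5 zh22) (kh xh10 yh5 zh24)) (@D3.rec (fun _ => Pt) (kh xh10 yh5 zh26) (kh xh10 yh18 zh41) (kh xh10 yh5 zh28) (kh xh10 yh16 zh41) (kh xh10 yh16 zh37) (kh xh13 yh7 zh41) (kh xh10 yh5 zh31) (kh xh10 yh5 zh32) (kh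 xh10 yh5 zh39) (kh xh11 yh9 zh9) (kh xh13 yh7 zh47) (kh xh13 yh7 zh48) (kh xh10 yh5 zh36) (kh xh13 yh7 zh42) (kh xh11 yh2 zh16) (kh xh13 yh7 zh44) (kh xh11 yh2 zh17) (kh xh10 yh18 zh9) (kh xh10 yh19 zh4) (kh xh13 yh8 zh8) (kh xh13 yh8 zh9) (kh xh13 yh8 zh10) (kh xh10 yh5 zh43) (kh xh11 yh21 zh23) (kh xh13 yh8 zh12) (kh xh10 yh5 zh46) (kh xh10 yh5 zh47) (kh xh10 yh5 zh48) (kh xh10 yh6 zh0) (kh xh10 yh6 zh1) (kh xh10 yh6 zh11) (kh xh11 yh16 zh4) (kh xh10 yh6 zh13) (kh xh11 yh16 zh5) (kh xh10 yh6 zh15) (kh xh10 yh6 zh16) (kh xh13 yh8 zh25) (kh xh13 yh8 zh26) (kh xh13 yh8 zh27) (kh xh10 yh6 zh8) (kh xh10 yh6 zh9) (kh xh13 yh8 zh16) (kh xh11 yh12 zh0) (kh xh13 yh8 zh18) (kh xh13 yh8 zh19) (kh xh13 yh8 zh36) (kh xh13 yh8 zh37) (kh xh13 yh8 zh38) (kh xh13 yh8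 zh23) (kh xh13 yh8 zh41) (kh xh10 yh6 zh17)) (@D3.rec (fun _ => Pt) (kh xh10 yh6 zh18) (kh xh11 yh8 zh35) (kh xh13 yh8 zh45) (kh xh10 yh6 zh20) (kh xh11 yh22 zh4) (kh xh13 yh8 zh49) (kh xh10 yh6 zh23) (kh xh11 yh22 zh7) (kh xh13 yh9 zh1) (kh xh10 yh6 zh26) (kh xh13 yh8 zh46) (kh xh13 yh9 zh3) (kh xh10 yh6 zh29) (kh xh11 yh15 zh42) (kh xh13 yh9 zh4) (kh xh10 yh6 zh34) (kh xh10 yh6 zh35) (kh xh13 yh8 zh42) (kh xh10 yh6 zh38) (kh xh11 yh11 zh21) (kh xh13 yh6 zh22) (kh xh10 yh6 zh40) (kh xh10 yh7 zh5) (kh xh13 yh6 zh25) (kh xh10 yh7 zh7) (kh xh10 yh7 zh8) (kh xh13 yh9 zh21) (kh xh10 yh7 zh10) (kh xh10 yh7 zh11) (kh xh13 yh9 zh26) (kh xh10 yh7 zh13) (kh xh10 yh7 zh14) (kh xh13 yh9 zh30) (kh xh10 yh7 zh16) (kh xh13 yh9 zh33) (kh xh10 yh6 zh48) (kh xh13 yh9 zh34)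 (kh xh13 yh9 zh35) (kh xh10 yh7 zh0) (kh xh10 yh7 zh25) (kh xh13 yh9 zh39) (kh xh10 yh7 zh2) (kh xh13 yh9 zh11) (kh xh13 yh6 zh39) (kh xh13 yh9 zh13) (kh xh13 yh9 zh14) (kh xh13 yh9 zh48) (kh xh13 yh9 zh16) (kh xh13 yh9 zh17) (kh xh13 yh10 zh4) (kh xh13 yh9 zh19)) (@D3.rec (fun _ => Pt) (kh xh13 yh10 zh7) (kh xh10 yh7 zh9) (kh xh13 yh9 zh22) (kh xh13 yh10 zh10) (kh xh13 yh9 zh24) (kh xh13 yh10 zh13) (kh xh10 yh7 zh12) (kh xh10 yh21 zh0) (kh xh10 yh20 zh50) (kh xh13 yh10 zh17) (kh xh13 yh9 zh28) (kh xh13 yh10 zh20) (kh xh10 yh7 zh15) (kh xh13 yh9 zh31) (kh xh13 yh10 zh24) (kh xh10 yh7 zh17) (kh xh13 yh10 zh26) (kh xh13 yh10 zh27) (kh xh10 yh7 zh21) (kh xh11 yh9 zh41) (kh xh13 yh10 zh31) (kh xh10 yh7 zh23) (kh xh10 yh8 zh5) (kh xh13 yh9 zh37) (kh xh13 yh10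 zh34) (kh xh10 yh7 zh26) (kh xh10 yh7 zh37) (kh xh11 yh23 zh27) (kh xh13 yh10 zh39) (kh xh10 yh7 zh29) (kh xh11 yh23 zh30) (kh xh13 yh10 zh42) (kh xh10 yh7 zh32) (kh xh13 yh10 zh25) (kh xh13 yh10 zh45) (kh xh10 yh7 zh35) (kh xh13 yh10 zh35) (kh xh13 yh10 zh36) (kh xh10 yh7 zh38) (kh xh11 yh23 zh39) (kh xh13 yh11 zh0) (kh xh10 yh7 zh42) (kh xh11 yh23 zh42) (kh xh11 yh23 zh43) (kh xh13 yh11 zh5) (kh xh13 yh11 zh6) (kh xh13 yh11 zh8) (kh xh10 yh7 zh45) (kh xh10 yh7 zh46) (kh xh11 yh23 zh49) (kh xh13 yh11 zh11)) (@D3.rec (fun _ => Pt) (kh xh10 yh7 zh49) (kh xh13 yh11 zh13) (kh xh10 yh8 zh1) (kh xh13 yh10 zh21) (kh xh10 yh8 zh3) (kh xh13 yh10 zh28) (kh xh13 yh10 zh32) (kh xh11 yh24 zh7) (kh xh13 yh11 zh19) (kh xh10 yh8 zh7) (kh xh11 yh24 zh10) (kh xh13 yh11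 zh22) (kh xh13 yh11 zh23) (kh xh10 yh8 zh11) (kh xh10 yh8 zh12) (kh xh10 yh22 zh18) (kh xh13 yh11 zh25) (kh xh10 yh8 zh16) (kh xh10 yh22 zh22) (kh xh10 yh8 zh18) (kh xh10 yh22 zh24) (kh xh10 yh22 zh25) (kh xh13 yh11 zh28) (kh xh10 yh8 zh27) (kh xh13 yh11 zh29) (kh xh13 yh11 zh30) (kh xh10 yh8 zh32) (kh xh10 yh8 zh33) (kh xh13 yh11 zh32) (kh xh10 yh8 zh36) (kh xh11 yh5 zh25) (kh xh10 yh8 zh40) (kh xh13 yh11 zh33) (kh xh10 yh8 zh42) (kh xh13 yh11 zh34) (kh xh10 yh8 zh44) (kh xh11 yh3 zh24) (kh xh10 yh10 zh4) (kh xh10 yh8 zh46) (kh xh10 yh10 zh5) (kh xh11 yh13 zh33) (kh xh10 yh8 zh49) (kh xh10 yh9 zh3) (kh xh10 yh10 zh9) (kh xh13 yh11 zh43) (kh xh10 yh9 zh0) (kh xh10 yh9 zh1) (kh xh13 yh11 zh38) (kh xh10 yh10 zh14) (kh xh13 yh11 zh40) (kh xh13 yh11 zh41))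 (@D3.rec (fun _ => Pt) (kh xh13 yh11 zh50) (kh xh10 yh10 zh18) (kh xh13 yh12 zh0) (kh xh10 yh9 zh8) (kh xh10 yh25 zh41) (kh xh10 yh9 zh10) (kh xh10 yh10 zh24) (kh xh10 yh10 zh25) (kh xh13 yh12 zh1) (kh xh10 yh9 zh15) (kh xh10 yh9 zh24) (kh xh10 yh10 zh35) (kh xh10 yh9 zh26) (kh xh10 yh9 zh27) (kh xh13 yh12 zh7) (kh xh10 yh9 zh21) (kh xh11 yh3 zh45) (kh xh10 yh10 zh41) (kh xh11 yh6 zh43) (kh xh10 yh10 zh43) (kh xh13 yh12 zh10) (kh xh13 yh12 zh3) (kh xh13 yh12 zh12) (kh xh13 yh12 zh5) (kh xh13 yh12 zh14) (kh xh10 yh9 zh28) (kh xh11 yh13 zh25) (kh xh10 yh9 zh31) (kh xh13 yh12 zh15) (kh xh10 yh9 zh33) (kh xh10 yh9 zh35) (kh xh11 yh5 zh24) (kh xh10 yh9 zh42) (kh xh13 yh12 zh17) (kh xh10 yh9 zh44) (kh xh13 yh12 zh19) (kh xh10 yh9 zh49) (kh xh10 yh10 zh3) (kh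 xh11 yh3 zh25) (kh xh13 yh11 zh44) (kh xh13 yh11 zh36) (kh xh11 yh3 zh44) (kh xh13 yh12 zh24) (kh xh10 yh10 zh6) (kh xh10 yh10 zh13) (kh xh13 yh11 zh39) (kh xh10 yh10 zh15) (kh xh10 yh10 zh16) (kh xh13 yh12 zh33) (kh xh13 yh5 zh10) (kh xh13 yh11 zh35)) (@D3.rec (fun _ => Pt) (kh xh13 yh11 zh45) (kh xh13 yh12 zh25) (kh xh13 yh11 zh46) (kh xh13 yh12 zh27) (kh xh13 yh12 zh22) (kh xh13 yh12 zh39) (kh xh13 yh12 zh29) (kh xh13 yh12 zh30) (kh xh13 yh12 zh42) (kh xh13 yh12 zh43) (kh xh10 yh10 zh17) (kh xh11 yh26 zh11) (kh xh13 yh12 zh45) (kh xh10 yh10 zh20) (kh xh10 yh10 zh21) (kh xh11 yh26 zh15) (kh xh13 yh12 zh48) (kh xh10 yh10 zh27) (kh xh13 yh12 zh49) (kh xh10 yh10 zh29) (kh xh10 yh10 zh31) (kh xh10 yh10 zh40) (kh xh11 yh13 zh1) (kh xh10 yh10 zh42) (kh xh11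 yh13 zh36) (kh xh10 yh10 zh44) (kh xh10 yh10 zh45) (kh xh13 yh13 zh4) (kh xh10 yh10 zh47) (kh xh10 yh10 zh48) (kh xh13 yh13 zh7) (kh xh10 yh10 zh50) (kh xh13 yh13 zh9) (kh xh10 yh10 zh38) (kh xh13 yh4 zh22) (kh xh13 yh13 zh11) (kh xh13 yh13 zh12) (kh xh13 yh12 zh37) (kh xh13 yh13 zh14) (kh xh13 yh13 zh15) (kh xh10 yh10 zh46) (kh xh11 yh3 zh17) (kh xh11 yh3 zh9) (kh xh13 yh13 zh18) (kh xh13 yh4 zh5) (kh xh13 yh13 zh20) (kh xh10 yh10 zh49) (kh xh13 yh4 zh7) (kh xh13 yh13 zh23) (kh xh10 yh11 zh0) (kh xh10 yh11 zh2))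
def f_h_12 : D2 → D3 → Pt := @D2.rec (fun _ => D3 → Pt) (@D3.rec (fun _ => Pt) (kh xh12 yh0 zh0) (kh xh11 yh13 zh7) (kh xh10 yh11 zh5) (kh xh13 yh13 zh24) (kh xh10 yh11 zh10) (kh xh13 yh13 zh29) (kh xh10 yh11 zh13) (kh xh13 yh13 zh21) (kh xh10 yh11 zh15) (kh xh10 yh11 zh17) (kh xh13 yh13 zh32) (kh xh10 yh11 zh20) (kh xh13 yh13 zh33) (kh xh10 yh11 zh24) (kh xh12 yh0 zh14) (kh xh13 yh13 zh35) (kh xh10 yh11 zh27) (kh xh13 yh13 zh36) (kh xh10 yh11 zh29) (kh xh10 yh11 zh31) (kh xh12 yh0 zh20) (kh xh13 yh13 zh37) (kh xh13 yh13 zh38) (kh xh10 yh11 zh36) (kh xh11 yh14 zh2) (kh xh10 yh11 zh38) (kh xh13 yh7 zh40) (kh xh13 yh11 zh27) (kh xh13 yh7 zh38) (kh xh10 yh11 zh44) (kh xh11 yh7 zh43) (kh xh10 yh11 zh46) (kh xh13 yh13 zh39) (kh xh10 yh11 zh48) (kh xh11 yh14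 zh3) (kh xh10 yh12 zh0) (kh xh12 yh0 zh36) (kh xh10 yh12 zh2) (kh xh10 yh14 zh5) (kh xh13 yh13 zh41) (kh xh10 yh12 zh4) (kh xh10 yh12 zh5) (kh xh13 yh6 zh5) (kh xh10 yh14 zh10) (kh xh13 yh13 zh47) (kh xh10 yh14 zh13) (kh xh13 yh13 zh48) (kh xh10 yh12 zh11) (kh xh10 yh12 zh12) (kh xh10 yh12 zh19) (kh xh10 yh14 zh19)) (@D3.rec (fun _ => Pt) (kh xh10 yh12 zh21) (kh xh10 yh12 zh22) (kh xh13 yh14 zh7) (kh xh13 yh14 zh8) (kh xh10 yh12 zh16) (kh xh13 yh13 zh49) (kh xh10 yh14 zh26) (kh xh13 yh14 zh0) (kh xh10 yh14 zh28) (kh xh13 yh14 zh2) (kh xh13 yh14 zh3) (kh xh13 yh14 zh18) (kh xh10 yh15 zh41) (kh xh13 yh14 zh20) (kh xh13 yh14 zh21) (kh xh10 yh12 zh23) (kh xh12 yh1 zh16) (kh xh13 yh14 zh23) (kh xh10 yh12 zh26) (kh xh10 yh12 zh27) (kh xh10 yh12 zh29) (kh xh10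 yh14 zh45) (kh xh12 yh1 zh22) (kh xh13 yh14 zh27) (kh xh13 yh14 zh28) (kh xh10 yh12 zh35) (kh xh11 yh13 zh26) (kh xh10 yh12 zh37) (kh xh10 yh12 zh39) (kh xh10 yh12 zh40) (kh xh10 yh12 zh50) (kh xh10 yh15 zh11) (kh xh10 yh13 zh1) (kh xh10 yh15 zh13) (kh xh10 yh13 zh3) (kh xh10 yh13 zh4) (kh xh13 yh14 zh42) (kh xh10 yh13 zh6) (kh xh10 yh13 zh7) (kh xh13 yh14 zh45) (kh xh10 yh13 zh9) (kh xh13 yh14 zh48) (kh xh10 yh12 zh47) (kh xh10 yh12 zh48) (kh xh13 yh14 zh32) (kh xh10 yh15 zh25) (kh xh13 yh14 zh34) (kh xh13 yh14 zh35) (kh xh13 yh15 zh7) (kh xh13 yh15 zh8) (kh xh13 yh14 zh38)) (@D3.rec (fun _ => Pt) (kh xh13 yh15 zh10) (kh xh13 yh14 zh40) (kh xh13 yh15 zh13) (kh xh10 yh13 zh5) (kh xh13 yh4 zh50) (kh xh13 yh4 zh49) (kh xh13 yh15 zh16) (kh xh11 yh6 zh41)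 (kh xh13 yh15 zh19) (kh xh10 yh13 zh8) (kh xh13 yh14 zh46) (kh xh13 yh15 zh22) (kh xh10 yh13 zh10) (kh xh10 yh13 zh12) (kh xh12 yh2 zh14) (kh xh13 yh15 zh25) (kh xh10 yh13 zh14) (kh xh13 yh15 zh27) (kh xh10 yh13 zh17) (kh xh13 yh15 zh23) (kh xh10 yh13 zh19) (kh xh10 yh16 zh8) (kh xh12 yh2 zh22) (kh xh13 yh15 zh31) (kh xh12 yh2 zh24) (kh xh12 yh2 zh25) (kh xh13 yh15 zh35) (kh xh13 yh15 zh36) (kh xh10 yh13 zh26) (kh xh10 yh13 zh27) (kh xh13 yh15 zh37) (kh xh10 yh13 zh29) (kh xh11 yh14 zh4) (kh xh10 yh13 zh32) (kh xh13 yh15 zh20) (kh xh13 yh7 zh37) (kh xh10 yh13 zh36) (kh xh12 yh2 zh37) (kh xh12 yh2 zh38) (kh xh13 yh15 zh43) (kh xh13 yh11 zh20) (kh xh10 yh13 zh39) (kh xh10 yh13 zh40) (kh xh11 yh7 zh42) (kh xh13 yh15 zh44) (kh xh10 yh13 zh46) (kh xh10 yh13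 zh48) (kh xh11 yh4 zh13) (kh xh10 yh14 zh1) (kh xh10 yh14 zh2) (kh xh10 yh14 zh9)) (@D3.rec (fun _ => Pt) (kh xh13 yh13 zh40) (kh xh13 yh15 zh49) (kh xh10 yh14 zh6) (kh xh13 yh15 zh45) (kh xh13 yh13 zh43) (kh xh13 yh15 zh17) (kh xh13 yh13 zh45) (kh xh11 yh6 zh32) (kh xh13 yh16 zh7) (kh xh11 yh5 zh42) (kh xh13 yh16 zh9) (kh xh10 yh14 zh12) (kh xh13 yh16 zh10) (kh xh10 yh14 zh14) (kh xh10 yh14 zh15) (kh xh10 yh14 zh25) (kh xh13 yh13 zh50) (kh xh10 yh14 zh27) (kh xh13 yh14 zh1) (kh xh10 yh14 zh29) (kh xh10 yh14 zh30) (kh xh13 yh16 zh25) (kh xh10 yh14 zh32) (kh xh10 yh14 zh33) (kh xh13 yh16 zh28) (kh xh13 yh16 zh29) (kh xh10 yh14 zh22) (kh xh10 yh14 zh23) (kh xh13 yh16 zh13) (kh xh13 yh14 zh10) (kh xh13 yh16 zh15) (kh xh13 yh16 zh16) (kh xh13 yh16 zh40) (kh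 xh13 yh16 zh18) (kh xh13 yh16 zh5) (kh xh13 yh16 zh44) (kh xh13 yh16 zh20) (kh xh13 yh16 zh21) (kh xh13 yh16 zh49) (kh xh13 yh16 zh23) (kh xh13 yh17 zh0) (kh xh10 yh14 zh31) (kh xh11 yh5 zh8) (kh xh11 yh5 zh7) (kh xh13 yh17 zh3) (kh xh13 yh17 zh4) (kh xh10 yh14 zh34) (kh xh10 yh14 zh35) (kh xh12 yh3 zh48) (kh xh13 yh17 zh9) (kh xh10 yh14 zh38)) (@D3.rec (fun _ => Pt) (kh xh13 yh17 zh10) (kh xh10 yh14 zh40) (kh xh13 yh17 zh6) (kh xh13 yh14 zh25) (kh xh12 yh4 zh4) (kh xh12 yh4 zh5) (kh xh13 yh17 zh16) (kh xh12 yh4 zh7) (kh xh13 yh17 zh18) (kh xh13 yh17 zh19) (kh xh10 yh14 zh48) (kh xh12 yh4 zh11) (kh xh13 yh17 zh21) (kh xh10 yh14 zh50) (kh xh12 yh4 zh14) (kh xh13 yh17 zh23) (kh xh10 yh15 zh1) (kh xh13 yh17 zh25) (kh xh10 yh15 zh4) (kh xh13 yh17 zh5) (kh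 xh10 yh15 zh6) (kh xh10 yh20 zh9) (kh xh13 yh14 zh31) (kh xh10 yh15 zh8) (kh xh10 yh15 zh24) (kh xh13 yh14 zh33) (kh xh10 yh15 zh26) (kh xh10 yh15 zh27) (kh xh13 yh17 zh43) (kh xh10 yh15 zh29) (kh xh10 yh15 zh30) (kh xh13 yh17 zh47) (kh xh10 yh15 zh32) (kh xh10 yh15 zh33) (kh xh13 yh18 zh0) (kh xh10 yh15 zh35) (kh xh13 yh18 zh3) (kh xh10 yh15 zh16) (kh xh13 yh18 zh4) (kh xh13 yh18 zh5) (kh xh10 yh15 zh19) (kh xh10 yh15 zh44) (kh xh13 yh18 zh8) (kh xh10 yh15 zh21) (kh xh13 yh17 zh33) (kh xh13 yh14 zh50) (kh xh13 yh17 zh35) (kh xh13 yh17 zh36) (kh xh13 yh18 zh16) (kh xh13 yh17 zh38) (kh xh13 yh17 zh39)) (@D3.rec (fun _ => Pt) (kh xh13 yh18 zh23) (kh xh13 yh17 zh41) (kh xh13 yh18 zh26) (kh xh10 yh15 zh28) (kh xh13 yh16 zh45) (kh xh13 yh18 zh29) (kh xh13 yh17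 zh45) (kh xh13 yh18 zh31) (kh xh10 yh15 zh31) (kh xh11 yh5 zh2) (kh xh11 yh4 zh26) (kh xh13 yh18 zh35) (kh xh13 yh17 zh49) (kh xh13 yh18 zh38) (kh xh10 yh15 zh34) (kh xh13 yh18 zh1) (kh xh13 yh18 zh42) (kh xh10 yh15 zh36) (kh xh13 yh18 zh44) (kh xh13 yh18 zh45) (kh xh10 yh15 zh40) (kh xh13 yh4 zh41) (kh xh13 yh18 zh48) (kh xh10 yh15 zh42) (kh xh10 yh16 zh24) (kh xh13 yh4 zh44) (kh xh13 yh19 zh1) (kh xh10 yh15 zh45) (kh xh10 yh16 zh5) (kh xh13 yh19 zh4) (kh xh10 yh15 zh48) (kh xh12 yh5 zh31) (kh xh13 yh19 zh7) (kh xh10 yh16 zh0) (kh xh13 yh18 zh43) (kh xh11 yh14 zh1) (kh xh10 yh16 zh3) (kh xh13 yh19 zh2) (kh xh13 yh19 zh3) (kh xh12 yh5 zh39) (kh xh13 yh19 zh15) (kh xh13 yh19 zh16) (kh xh10 yh16 zh11) (kh xh12 yh5 zh43) (kh xh12 yh5 zh44) (kh xh13 yh19 zh21)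 (kh xh13 yh19 zh22) (kh xh13 yh19 zh24) (kh xh10 yh16 zh14) (kh xh10 yh16 zh15) (kh xh10 yh16 zh17)) (@D3.rec (fun _ => Pt) (kh xh13 yh19 zh28) (kh xh10 yh16 zh20) (kh xh13 yh18 zh39) (kh xh10 yh16 zh22) (kh xh13 yh18 zh46) (kh xh13 yh18 zh50) (kh xh10 yh16 zh25) (kh xh12 yh6 zh7) (kh xh13 yh19 zh32) (kh xh13 yh19 zh33) (kh xh10 yh16 zh29) (kh xh10 yh16 zh30) (kh xh10 yh22 zh19) (kh xh10 yh16 zh33) (kh xh13 yh7 zh39) (kh xh10 yh16 zh40) (kh xh10 yh16 zh44) (kh xh12 yh6 zh17) (kh xh13 yh19 zh35) (kh xh10 yh16 zh46) (kh xh13 yh19 zh36) (kh xh10 yh16 zh49) (kh xh10 yh17 zh0) (kh xh12 yh6 zh23) (kh xh10 yh17 zh4) (kh xh11 yh8 zh23) (kh xh10 yh19 zh1) (kh xh11 yh8 zh29) (kh xh10 yh19 zh3) (kh xh10 yh26 zh18) (kh xh13 yh19 zh46) (kh xh13 yh19 zh47) (kh xh10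 yh17 zh10) (kh xh10 yh17 zh12) (kh xh11 yh8 zh20) (kh xh10 yh19 zh22) (kh xh11 yh8 zh24) (kh xh13 yh20 zh3) (kh xh11 yh8 zh30) (kh xh13 yh20 zh5) (kh xh11 yh8 zh37) (kh xh13 yh20 zh7) (kh xh10 yh17 zh19) (kh xh10 yh17 zh20) (kh xh13 yh20 zh9) (kh xh10 yh17 zh23) (kh xh13 yh20 zh10) (kh xh10 yh17 zh25) (kh xh13 yh20 zh8) (kh xh10 yh19 zh46) (kh xh10 yh17 zh30)) (@D3.rec (fun _ => Pt) (kh xh13 yh14 zh30) (kh xh10 yh20 zh10) (kh xh10 yh17 zh32) (kh xh10 yh17 zh43) (kh xh10 yh20 zh13) (kh xh10 yh17 zh46) (kh xh13 yh20 zh23) (kh xh10 yh17 zh49) (kh xh13 yh20 zh26) (kh xh10 yh18 zh3) (kh xh13 yh20 zh28) (kh xh10 yh17 zh39) (kh xh10 yh17 zh40) (kh xh13 yh20 zh17) (kh xh10 yh20 zh34) (kh xh11 yh7 zh49) (kh xh13 yh20 zh19) (kh xh13 yh20 zh37) (kh xh11 yh0 zh26)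 (kh xh11 yh8 zh0) (kh xh13 yh20 zh43) (kh xh13 yh20 zh21) (kh xh13 yh20 zh46) (kh xh10 yh17 zh47) (kh xh13 yh20 zh47) (kh xh13 yh20 zh24) (kh xh13 yh20 zh49) (kh xh10 yh17 zh50) (kh xh13 yh20 zh50) (kh xh11 yh0 zh0) (kh xh13 yh21 zh1) (kh xh10 yh18 zh2) (kh xh13 yh8 zh0) (kh xh13 yh21 zh4) (kh xh10 yh18 zh4) (kh xh10 yh18 zh6) (kh xh10 yh18 zh7) (kh xh13 yh8 zh3) (kh xh13 yh21 zh7) (kh xh10 yh18 zh10) (kh xh10 yh18 zh21) (kh xh12 yh7 zh41) (kh xh13 yh21 zh11) (kh xh10 yh18 zh13) (kh xh12 yh7 zh44) (kh xh13 yh21 zh14) (kh xh10 yh18 zh16) (kh xh13 yh21 zh5) (kh xh13 yh21 zh17) (kh xh10 yh18 zh19) (kh xh13 yh21 zh8)) (@D3.rec (fun _ => Pt) (kh xh13 yh21 zh9) (kh xh10 yh18 zh22) (kh xh10 yh18 zh42) (kh xh11 yh9 zh12) (kh xh11 yh9 zh23) (kh xh10 yh18 zh39)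 (kh xh11 yh9 zh18) (kh xh11 yh8 zh32) (kh xh11 yh9 zh21) (kh xh10 yh18 zh43) (kh xh10 yh19 zh0) (kh xh11 yh9 zh4) (kh xh10 yh19 zh2) (kh xh11 yh9 zh8) (kh xh13 yh21 zh26) (kh xh10 yh18 zh48) (kh xh10 yh18 zh49) (kh xh13 yh21 zh21) (kh xh13 yh19 zh39) (kh xh13 yh8 zh6) (kh xh13 yh21 zh23) (kh xh13 yh21 zh35) (kh xh11 yh13 zh43) (kh xh13 yh21 zh37) (kh xh13 yh21 zh38) (kh xh10 yh19 zh5) (kh xh10 yh19 zh6) (kh xh10 yh19 zh8) (kh xh13 yh16 zh11) (kh xh11 yh9 zh6) (kh xh10 yh19 zh10) (kh xh10 yh19 zh21) (kh xh11 yh9 zh0) (kh xh10 yh19 zh24) (kh xh13 yh22 zh0) (kh xh10 yh19 zh27) (kh xh13 yh22 zh3) (kh xh10 yh19 zh32) (kh xh13 yh22 zh5) (kh xh10 yh19 zh17) (kh xh10 yh19 zh18) (kh xh13 yh21 zh45) (kh xh13 yh19 zh49) (kh xh11 yh12 zh7) (kh xh13 yh21 zh47) (kh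 xh13 yh22 zh14) (kh xh11 yh12 zh3) (kh xh11 yh12 zh48) (kh xh13 yh22 zh20) (kh xh13 yh21 zh49) (kh xh13 yh22 zh22)) (@D3.rec (fun _ => Pt) (kh xh10 yh19 zh25) (kh xh11 yh12 zh49) (kh xh13 yh22 zh25) (kh xh13 yh22 zh1) (kh xh13 yh22 zh28) (kh xh10 yh19 zh28) (kh xh13 yh22 zh29) (kh xh11 yh12 zh50) (kh xh13 yh22 zh31) (kh xh10 yh19 zh31) (kh xh13 yh22 zh32) (kh xh10 yh19 zh33) (kh xh10 yh19 zh35) (kh xh10 yh19 zh36) (kh xh10 yh19 zh44) (kh xh12 yh9 zh15) (kh xh13 yh22 zh37) (kh xh10 yh19 zh40) (kh xh10 yh19 zh42) (kh xh13 yh22 zh33) (kh xh13 yh22 zh35) (kh xh10 yh22 zh36) (kh xh10 yh22 zh37) (kh xh11 yh12 zh33) (kh xh10 yh22 zh38) (kh xh11 yh12 zh36) (kh xh11 yh12 zh37) (kh xh10 yh22 zh39) (kh xh10 yh22 zh40) (kh xh11 yh12 zh40) (kh xh13 yh22 zh50) (kh xh11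 yh12 zh42) (kh xh11 yh12 zh45) (kh xh10 yh20 zh7) (kh xh13 yh17 zh28) (kh xh13 yh20 zh13) (kh xh13 yh17 zh30) (kh xh13 yh17 zh31) (kh xh13 yh23 zh11) (kh xh10 yh20 zh33) (kh xh13 yh20 zh18) (kh xh10 yh20 zh35) (kh xh10 yh20 zh36) (kh xh13 yh23 zh20) (kh xh10 yh20 zh38) (kh xh10 yh20 zh39) (kh xh13 yh23 zh26) (kh xh10 yh20 zh41) (kh xh13 yh23 zh29) (kh xh10 yh20 zh16) (kh xh10 yh20 zh44)) (@D3.rec (fun _ => Pt) (kh xh10 yh20 zh45) (kh xh13 yh23 zh33) (kh xh10 yh20 zh47) (kh xh13 yh23 zh36) (kh xh10 yh20 zh19) (kh xh13 yh23 zh37) (kh xh10 yh21 zh2) (kh xh13 yh23 zh40) (kh xh10 yh20 zh22) (kh xh10 yh21 zh5) (kh xh13 yh23 zh43) (kh xh10 yh20 zh24) (kh xh10 yh20 zh26) (kh xh10 yh21 zh12) (kh xh13 yh23 zh47) (kh xh10 yh20 zh28) (kh xh10 yh21 zh16) (kh xh13 yh23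 zh50) (kh xh10 yh20 zh31) (kh xh12 yh10 zh19) (kh xh13 yh23 zh12) (kh xh13 yh23 zh13) (kh xh13 yh24 zh7) (kh xh13 yh23 zh15) (kh xh13 yh23 zh16) (kh xh13 yh24 zh14) (kh xh13 yh23 zh18) (kh xh13 yh24 zh17) (kh xh10 yh20 zh37) (kh xh13 yh10 zh15) (kh xh13 yh23 zh21) (kh xh13 yh24 zh23) (kh xh13 yh24 zh25) (kh xh13 yh23 zh24) (kh xh13 yh24 zh29) (kh xh10 yh20 zh40) (kh xh13 yh23 zh27) (kh xh13 yh24 zh33) (kh xh10 yh20 zh42) (kh xh11 yh14 zh39) (kh xh13 yh10 zh8) (kh xh13 yh24 zh38) (kh xh13 yh23 zh31) (kh xh13 yh24 zh41) (kh xh10 yh20 zh46) (kh xh13 yh23 zh34) (kh xh13 yh24 zh45) (kh xh10 yh20 zh48) (kh xh13 yh24 zh47) (kh xh13 yh9 zh49) (kh xh13 yh24 zh50)) (@D3.rec (fun _ => Pt) (kh xh10 yh21 zh1) (kh xh13 yh23 zh38) (kh xh13 yh25 zh3) (kh xh10 yh21 zh3)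 (kh xh10 yh22 zh1) (kh xh13 yh23 zh41) (kh xh13 yh25 zh7) (kh xh10 yh21 zh6) (kh xh10 yh21 zh26) (kh xh10 yh21 zh8) (kh xh11 yh1 zh44) (kh xh13 yh25 zh12) (kh xh10 yh21 zh10) (kh xh10 yh22 zh3) (kh xh13 yh23 zh45) (kh xh13 yh25 zh15) (kh xh10 yh21 zh13) (kh xh12 yh11 zh17) (kh xh10 yh22 zh4) (kh xh13 yh25 zh19) (kh xh10 yh21 zh17) (kh xh10 yh21 zh29) (kh xh10 yh21 zh30) (kh xh12 yh11 zh23) (kh xh13 yh25 zh24) (kh xh10 yh21 zh21) (kh xh13 yh24 zh46) (kh xh13 yh25 zh27) (kh xh10 yh21 zh24) (kh xh13 yh25 zh8) (kh xh13 yh25 zh9) (kh xh10 yh21 zh27) (kh xh13 yh25 zh20) (kh xh13 yh25 zh21) (kh xh13 yh25 zh22) (kh xh10 yh23 zh14) (kh xh10 yh23 zh15) (kh xh13 yh25 zh38) (kh xh10 yh22 zh11) (kh xh10 yh21 zh34) (kh xh10 yh23 zh17) (kh xh10 yh23 zh16) (kh xh13 yh25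 zh37) (kh xh13 yh25 zh41) (kh xh13 yh25 zh35) (kh xh10 yh21 zh37) (kh xh10 yh21 zh38) (kh xh10 yh23 zh9) (kh xh13 yh25 zh45) (kh xh13 yh22 zh7) (kh xh11 yh12 zh1)) (@D3.rec (fun _ => Pt) (kh xh10 yh21 zh42) (kh xh10 yh21 zh43) (kh xh13 yh25 zh49) (kh xh10 yh21 zh44) (kh xh13 yh24 zh30) (kh xh13 yh19 zh26) (kh xh13 yh26 zh2) (kh xh10 yh21 zh48) (kh xh13 yh24 zh42) (kh xh10 yh21 zh50) (kh xh13 yh25 zh0) (kh xh13 yh25 zh5) (kh xh13 yh22 zh43) (kh xh11 yh9 zh47) (kh xh10 yh22 zh13) (kh xh11 yh8 zh48) (kh xh13 yh11 zh24) (kh xh10 yh22 zh20) (kh xh13 yh11 zh26) (kh xh10 yh22 zh26) (kh xh10 yh22 zh44) (kh xh13 yh26 zh7) (kh xh10 yh22 zh48) (kh xh11 yh9 zh1) (kh xh12 yh12 zh24) (kh xh13 yh26 zh9) (kh xh13 yh22 zh41) (kh xh13 yh22 zh46) (kh xh10 yh22 zh41) (kh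 xh13 yh26 zh6) (kh xh12 yh12 zh30) (kh xh13 yh26 zh13) (kh xh12 yh12 zh32) (kh xh12 yh12 zh33) (kh xh13 yh26 zh19) (kh xh13 yh26 zh20) (kh xh10 yh22 zh47) (kh xh10 yh23 zh10) (kh xh11 yh9 zh50) (kh xh10 yh23 zh11) (kh xh10 yh23 zh12) (kh xh11 yh10 zh3) (kh xh13 yh26 zh25) (kh xh11 yh10 zh5) (kh xh11 yh10 zh7) (kh xh11 yh10 zh8) (kh xh10 yh23 zh13) (kh xh10 yh23 zh18) (kh xh11 yh9 zh30) (kh xh10 yh23 zh20) (kh xh11 yh9 zh33)) (@D3.rec (fun _ => Pt) (kh xh13 yh26 zh31) (kh xh10 yh23 zh23) (kh xh13 yh26 zh32) (kh xh11 yh9 zh34) (kh xh12 yh13 zh4) (kh xh10 yh23 zh27) (kh xh11 yh9 zh38) (kh xh10 yh26 zh16) (kh xh10 yh26 zh13) (kh xh13 yh26 zh36) (kh xh10 yh23 zh40) (kh xh13 yh26 zh37) (kh xh13 yh26 zh38) (kh xh10 yh23 zh44) (kh xh10 yh23 zh48) (kh xh13 yh26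 zh39) (kh xh13 yh26 zh40) (kh xh10 yh24 zh1) (kh xh11 yh3 zh41) (kh xh13 yh26 zh42) (kh xh11 yh3 zh38) (kh xh13 yh26 zh44) (kh xh10 yh24 zh4) (kh xh13 yh26 zh45) (kh xh10 yh24 zh6) (kh xh10 yh24 zh20) (kh xh10 yh24 zh45) (kh xh13 yh26 zh48) (kh xh13 yh26 zh49) (kh xh10 yh24 zh19) (kh xh13 yh26 zh46) (kh xh14 yh0 zh0) (kh xh10 yh24 zh22) (kh xh10 yh24 zh23) (kh xh14 yh0 zh1) (kh xh11 yh4 zh47) (kh xh10 yh25 zh22) (kh xh14 yh0 zh4) (kh xh10 yh24 zh29) (kh xh13 yh5 zh45) (kh xh14 yh0 zh7) (kh xh11 yh5 zh34) (kh xh14 yh0 zh9) (kh xh10 yh24 zh33) (kh xh10 yh24 zh34) (kh xh11 yh5 zh13) (kh xh10 yh24 zh41) (kh xh11 yh13 zh31) (kh xh10 yh25 zh3) (kh xh14 yh0 zh11) (kh xh10 yh24 zh46)) (@D3.rec (fun _ => Pt) (kh xh10 yh25 zh18) (kh xh14 yh0 zh13) (kh xh10 yh24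 zh48) (kh xh11 yh6 zh38) (kh xh10 yh25 zh31) (kh xh11 yh6 zh35) (kh xh11 yh6 zh26) (kh xh14 yh0 zh19) (kh xh13 yh5 zh16) (kh xh13 yh5 zh22) (kh xh14 yh0 zh25) (kh xh11 yh6 zh21) (kh xh14 yh0 zh28) (kh xh10 yh25 zh4) (kh xh11 yh6 zh33) (kh xh14 yh0 zh30) (kh xh10 yh25 zh6) (kh xh11 yh6 zh29) (kh xh14 yh0 zh33) (kh xh11 yh6 zh20) (kh xh14 yh0 zh36) (kh xh10 yh25 zh9) (kh xh11 yh6 zh18) (kh xh14 yh0 zh39) (kh xh10 yh25 zh11) (kh xh14 yh0 zh40) (kh xh10 yh25 zh14) (kh xh13 yh5 zh25) (kh xh14 yh0 zh42) (kh xh10 yh25 zh16) (kh xh10 yh25 zh38) (kh xh13 yh4 zh43) (kh xh14 yh0 zh45) (kh xh10 yh25 zh19) (kh xh13 yh5 zh17) (kh xh11 yh13 zh28) (kh xh13 yh5 zh9) (kh xh11 yh6 zh19) (kh xh13 yh8 zh14) (kh xh11 yh1 zh28) (kh xh13 yh5 zh11) (kh xh10 yh25 zh35) (kh xh14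 yh0 zh37) (kh xh11 yh5 zh46) (kh xh13 yh5 zh14) (kh xh10 yh25 zh43) (kh xh14 yh0 zh47) (kh xh10 yh25 zh49) (kh xh12 yh14 zh48) (kh xh10 yh26 zh0) (kh xh12 yh14 zh50)) (@D3.rec (fun _ => Pt) (kh xh12 yh15 zh0) (kh xh11 yh0 zh15) (kh xh11 yh1 zh5) (kh xh10 yh26 zh11) (kh xh11 yh1 zh8) (kh xh10 yh26 zh14) (kh xh14 yh1 zh4) (kh xh14 yh1 zh5) (kh xh10 yh26 zh9) (kh xh14 yh1 zh1) (kh xh14 yh1 zh7) (kh xh13 yh19 zh40) (kh xh13 yh26 zh35) (kh xh14 yh1 zh12) (kh xh14 yh1 zh13) (kh xh10 yh26 zh15) (kh xh13 yh19 zh43) (kh xh14 yh1 zh16) (kh xh10 yh26 zh17) (kh xh11 yh2 zh7) (kh xh14 yh1 zh18) (kh xh10 yh26 zh19) (kh xh14 yh1 zh20) (kh xh10 yh26 zh22) (kh xh10 yh26 zh35) (kh xh12 yh15 zh25) (kh xh14 yh1 zh23) (kh xh10 yh26 zh25) (kh xh12 yh15 zh28) (kh xh14 yh1 zh26)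 (kh xh10 yh26 zh28) (kh xh14 yh1 zh28) (kh xh10 yh26 zh31) (kh xh14 yh1 zh19) (kh xh10 yh26 zh33) (kh xh14 yh1 zh21) (kh xh13 yh23 zh48) (kh xh14 yh1 zh31) (kh xh10 yh26 zh37) (kh xh11 yh7 zh30) (kh xh14 yh1 zh33) (kh xh10 yh26 zh40) (kh xh10 yh26 zh42) (kh xh11 yh9 zh17) (kh xh11 yh10 zh9) (kh xh11 yh8 zh5) (kh xh11 yh2 zh14) (kh xh13 yh20 zh41) (kh xh14 yh1 zh37) (kh xh14 yh1 zh38) (kh xh11 yh0 zh4)) (@D3.rec (fun _ => Pt) (kh xh11 yh0 zh17) (kh xh11 yh0 zh18) (kh xh14 yh1 zh42) (kh xh11 yh0 zh20) (kh xh14 yh1 zh44) (kh xh14 yh1 zh45) (kh xh11 yh0 zh11) (kh xh11 yh0 zh12) (kh xh13 yh6 zh21) (kh xh11 yh11 zh50) (kh xh14 yh0 zh49) (kh xh14 yh0 zh50) (kh xh14 yh2 zh4) (kh xh13 yh7 zh4) (kh xh14 yh1 zh39) (kh xh14 yh2 zh10) (kh xh13 yh20 zh38) (kh xh14 yh2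 zh12) (kh xh11 yh0 zh19) (kh xh13 yh6 zh49) (kh xh11 yh15 zh49) (kh xh14 yh2 zh16) (kh xh11 yh9 zh20) (kh xh14 yh2 zh18) (kh xh11 yh0 zh22) (kh xh14 yh2 zh19) (kh xh13 yh6 zh43) (kh xh14 yh2 zh21) (kh xh11 yh0 zh25) (kh xh14 yh2 zh23) (kh xh11 yh0 zh27) (kh xh11 yh0 zh29) (kh xh11 yh0 zh30) (kh xh11 yh1 zh3) (kh xh11 yh8 zh46) (kh xh12 yh16 zh35) (kh xh14 yh2 zh29) (kh xh12 yh16 zh37) (kh xh12 yh16 zh38) (kh xh14 yh2 zh33) (kh xh14 yh2 zh34) (kh xh11 yh0 zh40) (kh xh12 yh16 zh42) (kh xh12 yh16 zh43) (kh xh14 yh2 zh38) (kh xh13 yh9 zh8) (kh xh14 yh2 zh40) (kh xh11 yh0 zh43) (kh xh11 yh0 zh44) (kh xh12 yh16 zh49) (kh xh14 yh2 zh43)) (@D3.rec (fun _ => Pt) (kh xh11 yh0 zh47) (kh xh14 yh2 zh45) (kh xh11 yh0 zh50) (kh xh14 yh2 zh22) (kh xh11 yh1 zh1) (kh xh14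 yh2 zh24) (kh xh14 yh2 zh26) (kh xh11 yh11 zh18) (kh xh11 yh11 zh2) (kh xh14 yh3 zh2) (kh xh11 yh1 zh27) (kh xh13 yh8 zh15) (kh xh11 yh1 zh29) (kh xh11 yh1 zh30) (kh xh14 yh3 zh10) (kh xh11 yh1 zh32) (kh xh11 yh1 zh33) (kh xh14 yh3 zh16) (kh xh11 yh1 zh35) (kh xh14 yh3 zh19) (kh xh11 yh1 zh11) (kh xh11 yh1 zh38) (kh xh14 yh3 zh21) (kh xh11 yh1 zh13) (kh xh11 yh1 zh45) (kh xh14 yh3 zh24) (kh xh11 yh1 zh47) (kh xh14 yh3 zh26) (kh xh11 yh1 zh16) (kh xh11 yh1 zh50) (kh xh14 yh3 zh29) (kh xh11 yh1 zh18) (kh xh14 yh3 zh30) (kh xh11 yh1 zh21) (kh xh11 yh1 zh22) (kh xh12 yh17 zh35) (kh xh11 yh2 zh11) (kh xh14 yh3 zh33) (kh xh11 yh1 zh25) (kh xh14 yh3 zh3) (kh xh14 yh3 zh4) (kh xh14 yh3 zh38) (kh xh14 yh3 zh6) (kh xh14 yh3 zh7) (kh xh14 yh3 zh44) (kh xh11 yh10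 zh11) (kh xh14 yh3 zh46) (kh xh11 yh1 zh31) (kh xh13 yh24 zh48) (kh xh14 yh3 zh11) (kh xh14 yh4 zh1)) (@D3.rec (fun _ => Pt) (kh xh14 yh4 zh3) (kh xh14 yh3 zh14) (kh xh14 yh4 zh7) (kh xh11 yh1 zh34) (kh xh14 yh3 zh17) (kh xh14 yh4 zh11) (kh xh11 yh1 zh36) (kh xh13 yh25 zh10) (kh xh11 yh16 zh0) (kh xh14 yh4 zh17) (kh xh11 yh10 zh10) (kh xh14 yh4 zh19) (kh xh11 yh1 zh40) (kh xh14 yh4 zh21) (kh xh11 yh1 zh42) (kh xh11 yh11 zh38) (kh xh14 yh4 zh24) (kh xh14 yh3 zh22) (kh xh14 yh4 zh27) (kh xh11 yh1 zh46) (kh xh14 yh1 zh8) (kh xh14 yh4 zh31) (kh xh11 yh1 zh48) (kh xh11 yh2 zh37) (kh xh13 yh23 zh1) (kh xh14 yh4 zh35) (kh xh11 yh2 zh0) (kh xh14 yh4 zh36) (kh xh11 yh2 zh3) (kh xh11 yh11 zh24) (kh xh14 yh4 zh39) (kh xh11 yh2 zh5) (kh xh11 yh2 zh39) (kh xh14 yh1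 zh14) (kh xh14 yh4 zh42) (kh xh11 yh2 zh8) (kh xh12 yh18 zh36) (kh xh11 yh2 zh40) (kh xh14 yh4 zh44) (kh xh11 yh2 zh12) (kh xh13 yh7 zh50) (kh xh14 yh4 zh45) (kh xh11 yh2 zh19) (kh xh14 yh4 zh46) (kh xh14 yh4 zh47) (kh xh14 yh4 zh49) (kh xh11 yh2 zh22) (kh xh11 yh2 zh23) (kh xh14 yh5 zh0) (kh xh14 yh5 zh1) (kh xh14 yh5 zh3)) (@D3.rec (fun _ => Pt) (kh xh11 yh2 zh27) (kh xh11 yh2 zh28) (kh xh14 yh5 zh6) (kh xh11 yh2 zh29) (kh xh14 yh4 zh8) (kh xh14 yh5 zh9) (kh xh11 yh2 zh33) (kh xh14 yh4 zh20) (kh xh11 yh2 zh35) (kh xh14 yh4 zh28) (kh xh14 yh4 zh33) (kh xh11 yh2 zh42) (kh xh11 yh2 zh43) (kh xh11 yh2 zh46) (kh xh11 yh2 zh47) (kh xh11 yh7 zh9) (kh xh11 yh3 zh1) (kh xh14 yh5 zh13) (kh xh14 yh5 zh14) (kh xh14 yh5 zh15) (kh xh11 yh3 zh10) (kh xh14 yh5 zh16)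 (kh xh11 yh3 zh12) (kh xh14 yh5 zh18) (kh xh11 yh3 zh15) (kh xh11 yh3 zh16) (kh xh14 yh5 zh19) (kh xh11 yh3 zh18) (kh xh11 yh3 zh19) (kh xh14 yh5 zh20) (kh xh14 yh5 zh22) (kh xh11 yh3 zh23) (kh xh14 yh5 zh23) (kh xh11 yh3 zh27) (kh xh11 yh3 zh28) (kh xh11 yh3 zh31) (kh xh14 yh5 zh24) (kh xh14 yh5 zh26) (kh xh11 yh3 zh35) (kh xh14 yh5 zh28) (kh xh14 yh5 zh29) (kh xh11 yh3 zh40) (kh xh14 yh5 zh30) (kh xh11 yh3 zh42) (kh xh14 yh5 zh32) (kh xh14 yh5 zh33) (kh xh11 yh3 zh46) (kh xh14 yh5 zh35) (kh xh11 yh3 zh48) (kh xh11 yh4 zh11) (kh xh14 yh5 zh36)) (@D3.rec (fun _ => Pt) (kh xh11 yh4 zh0) (kh xh11 yh4 zh4) (kh xh11 yh4 zh5) (kh xh11 yh4 zh7) (kh xh14 yh5 zh31) (kh xh11 yh4 zh9) (kh xh14 yh5 zh34) (kh xh14 yh5 zh37) (kh xh11 yh4 zh14) (kh xh11 yh4 zh22) (kh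 xh11 yh5 zh27) (kh xh14 yh5 zh45) (kh xh11 yh4 zh20) (kh xh11 yh5 zh4) (kh xh11 yh5 zh35) (kh xh13 yh18 zh33) (kh xh14 yh5 zh43) (kh xh14 yh6 zh0) (kh xh14 yh6 zh1) (kh xh14 yh6 zh2) (kh xh11 yh4 zh27) (kh xh11 yh4 zh28) (kh xh12 yh20 zh22) (kh xh14 yh6 zh5) (kh xh11 yh4 zh32) (kh xh14 yh6 zh6) (kh xh11 yh4 zh34) (kh xh11 yh14 zh5) (kh xh11 yh4 zh37) (kh xh14 yh6 zh3) (kh xh11 yh4 zh49) (kh xh11 yh4 zh50) (kh xh14 yh6 zh13) (kh xh14 yh6 zh14) (kh xh11 yh4 zh42) (kh xh14 yh6 zh15) (kh xh11 yh4 zh44) (kh xh11 yh4 zh45) (kh xh14 yh0 zh2) (kh xh14 yh6 zh18) (kh xh14 yh6 zh10) (kh xh14 yh6 zh22) (kh xh14 yh5 zh46) (kh xh14 yh6 zh24) (kh xh11 yh5 zh0) (kh xh11 yh5 zh1) (kh xh13 yh18 zh17) (kh xh14 yh6 zh26) (kh xh11 yh5 zh3) (kh xh14 yh6 zh28) (kh xh11 yh5 zh5))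 (@D3.rec (fun _ => Pt) (kh xh14 yh6 zh29) (kh xh14 yh6 zh30) (kh xh11 yh5 zh9) (kh xh11 yh5 zh10) (kh xh11 yh5 zh21) (kh xh14 yh6 zh34) (kh xh14 yh6 zh36) (kh xh11 yh5 zh15) (kh xh11 yh5 zh16) (kh xh14 yh6 zh27) (kh xh11 yh5 zh19) (kh xh14 yh6 zh31) (kh xh14 yh6 zh33) (kh xh11 yh5 zh36) (kh xh11 yh5 zh37) (kh xh14 yh6 zh43) (kh xh14 yh6 zh44) (kh xh11 yh5 zh29) (kh xh14 yh6 zh45) (kh xh11 yh5 zh31) (kh xh13 yh13 zh42) (kh xh13 yh15 zh46) (kh xh14 yh0 zh5) (kh xh14 yh6 zh50) (kh xh14 yh6 zh40) (kh xh14 yh7 zh1) (kh xh14 yh7 zh2) (kh xh11 yh5 zh38) (kh xh11 yh5 zh39) (kh xh11 yh5 zh40) (kh xh14 yh7 zh4) (kh xh11 yh5 zh43) (kh xh11 yh6 zh4) (kh xh14 yh7 zh7) (kh xh11 yh5 zh47) (kh xh11 yh5 zh48) (kh xh11 yh5 zh49) (kh xh14 yh7 zh3) (kh xh11 yh6 zh2) (kh xh14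 yh7 zh5) (kh xh14 yh7 zh6) (kh xh11 yh6 zh23) (kh xh11 yh6 zh24) (kh xh14 yh7 zh14) (kh xh14 yh7 zh15) (kh xh11 yh6 zh7) (kh xh14 yh7 zh16) (kh xh11 yh6 zh9) (kh xh14 yh7 zh18) (kh xh11 yh6 zh12) (kh xh11 yh6 zh14)) (@D3.rec (fun _ => Pt) (kh xh12 yh22 zh0) (kh xh14 yh0 zh34) (kh xh14 yh0 zh26) (kh xh14 yh7 zh25) (kh xh14 yh0 zh31) (kh xh14 yh0 zh23) (kh xh14 yh7 zh29) (kh xh14 yh7 zh30) (kh xh11 yh6 zh22) (kh xh13 yh16 zh1) (kh xh14 yh7 zh10) (kh xh14 yh7 zh36) (kh xh14 yh7 zh37) (kh xh14 yh0 zh16) (kh xh14 yh7 zh41) (kh xh11 yh6 zh25) (kh xh14 yh0 zh14) (kh xh14 yh7 zh45) (kh xh11 yh6 zh27) (kh xh14 yh7 zh47) (kh xh11 yh6 zh30) (kh xh14 yh7 zh49) (kh xh13 yh14 zh49) (kh xh14 yh8 zh0) (kh xh11 yh6 zh34) (kh xh13 yh4 zh36) (kh xh14 yh8 zh3) (kh xh11 yh6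 zh36) (kh xh11 yh7 zh22) (kh xh13 yh4 zh38) (kh xh14 yh8 zh7) (kh xh11 yh6 zh39) (kh xh14 yh8 zh8) (kh xh11 yh6 zh42) (kh xh14 yh8 zh10) (kh xh11 yh6 zh44) (kh xh11 yh7 zh24) (kh xh14 yh8 zh14) (kh xh11 yh6 zh47) (kh xh11 yh13 zh41) (kh xh11 yh7 zh25) (kh xh14 yh8 zh4) (kh xh11 yh7 zh0) (kh xh11 yh13 zh30) (kh xh14 yh8 zh17) (kh xh11 yh7 zh6) (kh xh14 yh8 zh18) (kh xh11 yh7 zh8) (kh xh14 yh8 zh20) (kh xh13 yh21 zh29) (kh xh14 yh8 zh22)) (@D3.rec (fun _ => Pt) (kh xh11 yh7 zh13) (kh xh11 yh7 zh14) (kh xh14 yh8 zh25) (kh xh11 yh7 zh15) (kh xh14 yh7 zh42) (kh xh11 yh7 zh18) (kh xh14 yh7 zh48) (kh xh11 yh7 zh20) (kh xh14 yh8 zh1) (kh xh14 yh8 zh5) (kh xh14 yh8 zh9) (kh xh14 yh8 zh12) (kh xh14 yh8 zh13) (kh xh14 yh8 zh16) (kh xh14 yh8 zh34) (kh xh14 yh1 zh32)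 (kh xh11 yh7 zh29) (kh xh14 yh8 zh35) (kh xh11 yh7 zh33) (kh xh11 yh9 zh10) (kh xh11 yh7 zh35) (kh xh11 yh7 zh39) (kh xh13 yh3 zh28) (kh xh13 yh5 zh28) (kh xh13 yh3 zh27) (kh xh13 yh20 zh30) (kh xh11 yh9 zh29) (kh xh13 yh20 zh33) (kh xh14 yh8 zh39) (kh xh14 yh8 zh40) (kh xh11 yh8 zh1) (kh xh11 yh8 zh2) (kh xh14 yh1 zh34) (kh xh14 yh8 zh42) (kh xh11 yh8 zh18) (kh xh11 yh10 zh14) (kh xh11 yh8 zh21) (kh xh14 yh8 zh46) (kh xh11 yh8 zh26) (kh xh14 yh8 zh48) (kh xh11 yh8 zh11) (kh xh14 yh8 zh49) (kh xh11 yh8 zh13) (kh xh14 yh8 zh50) (kh xh11 yh8 zh15) (kh xh13 yh19 zh48) (kh xh14 yh8 zh43) (kh xh14 yh9 zh4) (kh xh13 yh19 zh38) (kh xh13 yh19 zh50) (kh xh14 yh9 zh10)) (@D3.rec (fun _ => Pt) (kh xh13 yh20 zh40) (kh xh14 yh9 zh13) (kh xh11 yh8 zh22) (kh xh13 yh19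 zh41) (kh xh14 yh9 zh17) (kh xh14 yh9 zh11) (kh xh13 yh20 zh1) (kh xh14 yh9 zh21) (kh xh11 yh8 zh25) (kh xh14 yh9 zh22) (kh xh11 yh8 zh27) (kh xh13 yh8 zh43) (kh xh14 yh9 zh26) (kh xh13 yh15 zh33) (kh xh14 yh9 zh28) (kh xh11 yh8 zh31) (kh xh11 yh9 zh5) (kh xh14 yh9 zh30) (kh xh11 yh8 zh33) (kh xh13 yh8 zh39) (kh xh14 yh9 zh32) (kh xh11 yh8 zh36) (kh xh14 yh9 zh33) (kh xh11 yh8 zh38) (kh xh11 yh8 zh40) (kh xh11 yh8 zh42) (kh xh12 yh24 zh26) (kh xh13 yh16 zh12) (kh xh13 yh21 zh46) (kh xh13 yh21 zh22) (kh xh13 yh21 zh27) (kh xh13 yh21 zh41) (kh xh13 yh7 zh43) (kh xh11 yh9 zh28) (kh xh13 yh21 zh19) (kh xh14 yh9 zh38) (kh xh13 yh7 zh45) (kh xh11 yh9 zh11) (kh xh11 yh9 zh14) (kh xh14 yh2 zh14) (kh xh14 yh2 zh2) (kh xh14 yh9 zh42) (kh xh11 yh9 zh31) (kh xh14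 yh9 zh44) (kh xh14 yh9 zh45) (kh xh11 yh9 zh25) (kh xh11 yh9 zh26) (kh xh13 yh25 zh40) (kh xh14 yh9 zh14) (kh xh14 yh9 zh50) (kh xh13 yh25 zh36)) (@D3.rec (fun _ => Pt) (kh xh13 yh26 zh29) (kh xh14 yh10 zh3) (kh xh14 yh10 zh4) (kh xh11 yh9 zh32) (kh xh13 yh10 zh18) (kh xh13 yh26 zh30) (kh xh14 yh10 zh9) (kh xh14 yh10 zh10) (kh xh14 yh10 zh12) (kh xh11 yh9 zh35) (kh xh11 yh9 zh36) (kh xh13 yh10 zh29) (kh xh14 yh10 zh15) (kh xh11 yh9 zh39) (kh xh14 yh10 zh16) (kh xh11 yh9 zh42) (kh xh11 yh9 zh44) (kh xh13 yh25 zh44) (kh xh13 yh26 zh21) (kh xh11 yh12 zh6) (kh xh13 yh26 zh22) (kh xh13 yh24 zh8) (kh xh13 yh26 zh24) (kh xh11 yh10 zh4) (kh xh14 yh10 zh19) (kh xh11 yh14 zh40) (kh xh14 yh4 zh15) (kh xh14 yh3 zh42) (kh xh14 yh10 zh25) (kh xh14 yh10 zh26) (kh xh11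 yh10 zh12) (kh xh11 yh10 zh47) (kh xh11 yh10 zh48) (kh xh14 yh10 zh31) (kh xh11 yh10 zh50) (kh xh11 yh11 zh0) (kh xh14 yh10 zh36) (kh xh14 yh10 zh37) (kh xh11 yh10 zh17) (kh xh11 yh11 zh5) (kh xh11 yh11 zh6) (kh xh14 yh10 zh43) (kh xh14 yh10 zh45) (kh xh11 yh11 zh9) (kh xh14 yh10 zh49) (kh xh11 yh10 zh20) (kh xh11 yh11 zh12) (kh xh14 yh11 zh1) (kh xh11 yh10 zh22) (kh xh11 yh11 zh15) (kh xh11 yh11 zh16)) (@D3.rec (fun _ => Pt) (kh xh14 yh11 zh5) (kh xh14 yh11 zh6) (kh xh11 yh10 zh26) (kh xh11 yh10 zh27) (kh xh14 yh11 zh7) (kh xh11 yh11 zh26) (kh xh14 yh11 zh9) (kh xh11 yh10 zh31) (kh xh11 yh11 zh29) (kh xh14 yh11 zh12) (kh xh11 yh10 zh33) (kh xh11 yh11 zh33) (kh xh14 yh11 zh15) (kh xh11 yh10 zh36) (kh xh11 yh10 zh38) (kh xh11 yh10 zh39) (kh xh11 yh11 zh42)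 (kh xh14 yh11 zh18) (kh xh11 yh10 zh42) (kh xh12 yh26 zh19) (kh xh14 yh11 zh20) (kh xh11 yh10 zh45) (kh xh14 yh10 zh27) (kh xh14 yh11 zh23) (kh xh14 yh10 zh29) (kh xh14 yh11 zh26) (kh xh11 yh10 zh49) (kh xh14 yh10 zh32) (kh xh14 yh11 zh29) (kh xh13 yh22 zh15) (kh xh14 yh2 zh50) (kh xh14 yh11 zh32) (kh xh11 yh11 zh1) (kh xh13 yh9 zh9) (kh xh14 yh11 zh36) (kh xh11 yh11 zh3) (kh xh14 yh10 zh38) (kh xh14 yh11 zh40) (kh xh13 yh22 zh10) (kh xh14 yh10 zh41) (kh xh14 yh11 zh45) (kh xh11 yh11 zh7) (kh xh14 yh11 zh48) (kh xh11 yh11 zh8) (kh xh14 yh12 zh0) (kh xh14 yh10 zh47) (kh xh14 yh12 zh3) (kh xh11 yh11 zh10) (kh xh11 yh12 zh10) (kh xh14 yh10 zh50) (kh xh14 yh12 zh7))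
def f_h_13 : D2 → D3 → Pt := @D2.rec (fun _ => D3 → Pt) (@D3.rec (fun _ => Pt) (kh xh11 yh11 zh13) (kh xh14 yh7 zh46) (kh xh14 yh4 zh37) (kh xh14 yh12 zh12) (kh xh14 yh2 zh49) (kh xh14 yh12 zh14) (kh xh11 yh11 zh17) (kh xh14 yh12 zh15) (kh xh11 yh11 zh19) (kh xh11 yh12 zh12) (kh xh13 yh9 zh6) (kh xh14 yh12 zh19) (kh xh11 yh11 zh22) (kh xh14 yh4 zh25) (kh xh14 yh12 zh21) (kh xh11 yh11 zh25) (kh xh14 yh4 zh22) (kh xh14 yh12 zh23) (kh xh11 yh11 zh27) (kh xh11 yh12 zh14) (kh xh14 yh11 zh10) (kh xh14 yh12 zh26) (kh xh11 yh11 zh30) (kh xh11 yh15 zh27) (kh xh11 yh12 zh15) (kh xh14 yh12 zh30) (kh xh11 yh11 zh34) (kh xh11 yh11 zh36) (kh xh14 yh4 zh13) (kh xh14 yh12 zh32) (kh xh11 yh11 zh39) (kh xh11 yh15 zh37) (kh xh14 yh12 zh35) (kh xh11 yh11 zh43) (kh xh11 yh15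 zh40) (kh xh11 yh15 zh41) (kh xh11 yh11 zh47) (kh xh13 yh8 zh29) (kh xh14 yh11 zh46) (kh xh14 yh11 zh33) (kh xh14 yh12 zh37) (kh xh11 yh12 zh9) (kh xh14 yh12 zh5) (kh xh14 yh12 zh17) (kh xh14 yh12 zh29) (kh xh11 yh12 zh18) (kh xh14 yh12 zh40) (kh xh11 yh12 zh22) (kh xh13 yh26 zh27) (kh xh13 yh0 zh49) (kh xh13 yh0 zh50)) (@D3.rec (fun _ => Pt) (kh xh14 yh12 zh45) (kh xh14 yh12 zh46) (kh xh11 yh12 zh26) (kh xh13 yh1 zh3) (kh xh13 yh1 zh4) (kh xh14 yh12 zh50) (kh xh14 yh13 zh0) (kh xh14 yh13 zh2) (kh xh11 yh12 zh29) (kh xh11 yh12 zh30) (kh xh13 yh22 zh42) (kh xh11 yh12 zh47) (kh xh13 yh22 zh48) (kh xh13 yh22 zh45) (kh xh13 yh22 zh47) (kh xh13 yh22 zh44) (kh xh13 yh22 zh49) (kh xh11 yh12 zh41) (kh xh14 yh13 zh8) (kh xh11 yh15 zh46) (kh xh13 yh26 zh10) (kh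 xh13 yh22 zh18) (kh xh13 yh22 zh23) (kh xh13 yh4 zh11) (kh xh13 yh1 zh24) (kh xh13 yh4 zh15) (kh xh13 yh3 zh24) (kh xh13 yh4 zh25) (kh xh13 yh12 zh47) (kh xh13 yh1 zh29) (kh xh13 yh1 zh30) (kh xh13 yh1 zh31) (kh xh13 yh1 zh32) (kh xh13 yh1 zh33) (kh xh13 yh1 zh34) (kh xh13 yh5 zh5) (kh xh13 yh17 zh34) (kh xh13 yh5 zh33) (kh xh13 yh12 zh26) (kh xh11 yh13 zh34) (kh xh14 yh8 zh11) (kh xh14 yh8 zh15) (kh xh14 yh13 zh11) (kh xh11 yh13 zh44) (kh xh14 yh13 zh13) (kh xh11 yh13 zh47) (kh xh14 yh13 zh14) (kh xh13 yh5 zh30) (kh xh13 yh3 zh29) (kh xh13 yh6 zh16) (kh xh13 yh19 zh6)) (@D3.rec (fun _ => Pt) (kh xh13 yh17 zh20) (kh xh13 yh2 zh1) (kh xh11 yh14 zh8) (kh xh13 yh2 zh3) (kh xh13 yh2 zh4) (kh xh13 yh2 zh5) (kh xh13 yh2 zh6) (kh xh13 yh2 zh7) (kh xh13 yh2 zh8)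 (kh xh13 yh2 zh9) (kh xh13 yh2 zh10) (kh xh14 yh13 zh20) (kh xh11 yh14 zh26) (kh xh11 yh14 zh44) (kh xh14 yh13 zh21) (kh xh11 yh14 zh29) (kh xh11 yh14 zh45) (kh xh11 yh14 zh31) (kh xh11 yh14 zh46) (kh xh11 yh14 zh47) (kh xh14 yh13 zh25) (kh xh14 yh13 zh26) (kh xh11 yh14 zh43) (kh xh14 yh13 zh22) (kh xh14 yh13 zh23) (kh xh14 yh13 zh24) (kh xh13 yh2 zh26) (kh xh13 yh2 zh27) (kh xh14 yh13 zh30) (kh xh11 yh15 zh0) (kh xh14 yh13 zh32) (kh xh11 yh15 zh2) (kh xh14 yh13 zh35) (kh xh14 yh13 zh36) (kh xh11 yh15 zh4) (kh xh14 yh13 zh38) (kh xh11 yh15 zh6) (kh xh14 yh13 zh37) (kh xh11 yh15 zh14) (kh xh11 yh15 zh9) (kh xh11 yh15 zh29) (kh xh11 yh15 zh38) (kh xh13 yh2 zh42) (kh xh14 yh13 zh42) (kh xh11 yh15 zh15) (kh xh14 yh12 zh16) (kh xh14 yh13 zh46) (kh xh11 yh15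 zh19) (kh xh14 yh13 zh47) (kh xh11 yh15 zh22) (kh xh14 yh12 zh24)) (@D3.rec (fun _ => Pt) (kh xh14 yh13 zh43) (kh xh11 yh15 zh25) (kh xh14 yh12 zh27) (kh xh14 yh12 zh28) (kh xh11 yh15 zh45) (kh xh14 yh14 zh2) (kh xh11 yh15 zh32) (kh xh14 yh13 zh44) (kh xh11 yh15 zh35) (kh xh14 yh12 zh33) (kh xh14 yh12 zh34) (kh xh14 yh12 zh36) (kh xh11 yh15 zh43) (kh xh11 yh15 zh48) (kh xh14 yh14 zh4) (kh xh11 yh15 zh50) (kh xh14 yh14 zh5) (kh xh11 yh16 zh1) (kh xh13 yh8 zh17) (kh xh11 yh16 zh6) (kh xh11 yh16 zh8) (kh xh11 yh16 zh10) (kh xh11 yh16 zh12) (kh xh14 yh14 zh6) (kh xh13 yh1 zh26) (kh xh11 yh16 zh15) (kh xh13 yh3 zh26) (kh xh12 yh23 zh24) (kh xh12 yh23 zh22) (kh xh13 yh1 zh48) (kh xh11 yh16 zh24) (kh xh13 yh3 zh31) (kh xh13 yh3 zh32) (kh xh14 yh14 zh9) (kh xh11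 yh16 zh30) (kh xh13 yh3 zh35) (kh xh13 yh3 zh36) (kh xh14 yh14 zh11) (kh xh11 yh16 zh34) (kh xh14 yh14 zh12) (kh xh11 yh16 zh37) (kh xh11 yh16 zh39) (kh xh13 yh3 zh42) (kh xh13 yh3 zh43) (kh xh13 yh3 zh44) (kh xh11 yh16 zh43) (kh xh14 yh14 zh14) (kh xh11 yh16 zh47) (kh xh14 yh14 zh15) (kh xh11 yh16 zh50) (kh xh13 yh3 zh50)) (@D3.rec (fun _ => Pt) (kh xh11 yh17 zh1) (kh xh13 yh4 zh1) (kh xh13 yh4 zh2) (kh xh11 yh17 zh13) (kh xh14 yh14 zh19) (kh xh11 yh26 zh44) (kh xh14 yh14 zh21) (kh xh11 yh26 zh47) (kh xh14 yh14 zh23) (kh xh14 yh14 zh24) (kh xh11 yh17 zh14) (kh xh13 yh1 zh23) (kh xh11 yh17 zh18) (kh xh14 yh14 zh26) (kh xh11 yh17 zh24) (kh xh13 yh1 zh25) (kh xh11 yh17 zh26) (kh xh14 yh14 zh27) (kh xh14 yh14 zh28) (kh xh11 yh17 zh32) (kh xh11 yh17 zh33)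 (kh xh11 yh17 zh34) (kh xh11 yh26 zh34) (kh xh14 yh14 zh30) (kh xh11 yh17 zh36) (kh xh13 yh1 zh27) (kh xh11 yh17 zh39) (kh xh14 yh14 zh31) (kh xh11 yh18 zh2) (kh xh11 yh19 zh5) (kh xh11 yh18 zh7) (kh xh14 yh14 zh38) (kh xh11 yh18 zh9) (kh xh11 yh18 zh10) (kh xh14 yh14 zh39) (kh xh11 yh17 zh50) (kh xh12 yh22 zh25) (kh xh11 yh19 zh14) (kh xh12 yh22 zh29) (kh xh14 yh14 zh34) (kh xh14 yh14 zh46) (kh xh12 yh5 zh21) (kh xh14 yh14 zh49) (kh xh12 yh14 zh31) (kh xh12 yh5 zh25) (kh xh14 yh15 zh4) (kh xh14 yh14 zh36) (kh xh14 yh15 zh6) (kh xh11 yh18 zh8) (kh xh12 yh2 zh5) (kh xh12 yh2 zh4)) (@D3.rec (fun _ => Pt) (kh xh14 yh15 zh9) (kh xh14 yh15 zh10) (kh xh11 yh18 zh11) (kh xh11 yh18 zh12) (kh xh13 yh5 zh4) (kh xh13 yh1 zh35) (kh xh14 yh15 zh13) (kh xh11 yh18 zh17)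 (kh xh14 yh15 zh11) (kh xh12 yh14 zh36) (kh xh11 yh25 zh49) (kh xh12 yh14 zh40) (kh xh14 yh15 zh17) (kh xh11 yh18 zh26) (kh xh12 yh14 zh44) (kh xh11 yh18 zh30) (kh xh12 yh14 zh8) (kh xh12 yh14 zh34) (kh xh14 yh15 zh20) (kh xh14 yh15 zh21) (kh xh11 yh18 zh38) (kh xh11 yh18 zh39) (kh xh12 yh14 zh9) (kh xh14 yh15 zh24) (kh xh11 yh18 zh44) (kh xh12 yh14 zh27) (kh xh14 yh15 zh26) (kh xh11 yh18 zh46) (kh xh12 yh23 zh23) (kh xh14 yh15 zh27) (kh xh13 yh1 zh47) (kh xh11 yh19 zh1) (kh xh11 yh19 zh13) (kh xh13 yh1 zh37) (kh xh11 yh19 zh16) (kh xh14 yh15 zh32) (kh xh14 yh15 zh33) (kh xh11 yh19 zh20) (kh xh14 yh15 zh36) (kh xh11 yh19 zh9) (kh xh11 yh19 zh27) (kh xh14 yh15 zh38) (kh xh11 yh19 zh11) (kh xh14 yh15 zh28) (kh xh14 yh15 zh41) (kh xh12 yh13 zh39) (kh xh14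 yh15 zh43) (kh xh14 yh15 zh30) (kh xh14 yh15 zh46) (kh xh11 yh19 zh17) (kh xh11 yh19 zh18)) (@D3.rec (fun _ => Pt) (kh xh11 yh19 zh19) (kh xh14 yh15 zh34) (kh xh14 yh15 zh49) (kh xh11 yh19 zh21) (kh xh11 yh19 zh23) (kh xh12 yh0 zh42) (kh xh14 yh16 zh1) (kh xh11 yh19 zh25) (kh xh14 yh15 zh0) (kh xh14 yh16 zh3) (kh xh11 yh19 zh28) (kh xh11 yh19 zh36) (kh xh13 yh6 zh12) (kh xh14 yh16 zh7) (kh xh11 yh19 zh31) (kh xh14 yh15 zh50) (kh xh13 yh1 zh49) (kh xh11 yh19 zh34) (kh xh14 yh16 zh4) (kh xh14 yh16 zh5) (kh xh11 yh19 zh40) (kh xh12 yh16 zh8) (kh xh11 yh22 zh20) (kh xh11 yh19 zh42) (kh xh11 yh20 zh4) (kh xh11 yh22 zh23) (kh xh11 yh20 zh6) (kh xh11 yh20 zh7) (kh xh14 yh16 zh26) (kh xh11 yh20 zh9) (kh xh11 yh20 zh10) (kh xh14 yh16 zh30) (kh xh14 yh16 zh31) (kh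 xh11 yh20 zh15) (kh xh14 yh16 zh33) (kh xh11 yh19 zh50) (kh xh11 yh20 zh0) (kh xh11 yh20 zh1) (kh xh14 yh16 zh17) (kh xh11 yh22 zh43) (kh xh14 yh16 zh19) (kh xh14 yh16 zh20) (kh xh14 yh16 zh42) (kh xh12 yh16 zh26) (kh xh14 yh16 zh22) (kh xh14 yh16 zh48) (kh xh14 yh16 zh24) (kh xh14 yh16 zh50) (kh xh11 yh20 zh8) (kh xh12 yh16 zh19) (kh xh14 yh17 zh2)) (@D3.rec (fun _ => Pt) (kh xh14 yh16 zh28) (kh xh14 yh17 zh5) (kh xh11 yh20 zh11) (kh xh14 yh17 zh6) (kh xh12 yh16 zh13) (kh xh14 yh17 zh8) (kh xh11 yh20 zh14) (kh xh14 yh17 zh10) (kh xh11 yh20 zh16) (kh xh11 yh20 zh18) (kh xh11 yh20 zh19) (kh xh11 yh20 zh42) (kh xh11 yh20 zh27) (kh xh13 yh7 zh13) (kh xh14 yh17 zh17) (kh xh11 yh20 zh23) (kh xh11 yh20 zh25) (kh xh14 yh17 zh11) (kh xh14 yh17 zh15) (kh xh14 yh17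 zh22) (kh xh11 yh20 zh30) (kh xh13 yh7 zh21) (kh xh14 yh17 zh25) (kh xh14 yh17 zh26) (kh xh14 yh17 zh28) (kh xh11 yh20 zh33) (kh xh11 yh20 zh34) (kh xh11 yh20 zh36) (kh xh11 yh20 zh38) (kh xh14 yh17 zh9) (kh xh11 yh20 zh40) (kh xh14 yh17 zh12) (kh xh14 yh17 zh14) (kh xh11 yh20 zh43) (kh xh14 yh17 zh33) (kh xh11 yh20 zh46) (kh xh11 yh20 zh47) (kh xh12 yh2 zh35) (kh xh12 yh0 zh28) (kh xh12 yh6 zh14) (kh xh12 yh0 zh26) (kh xh11 yh21 zh5) (kh xh11 yh21 zh13) (kh xh12 yh24 zh32) (kh xh11 yh21 zh15) (kh xh12 yh24 zh36) (kh xh14 yh17 zh40) (kh xh11 yh21 zh10) (kh xh11 yh21 zh11) (kh xh14 yh17 zh35) (kh xh12 yh18 zh40)) (@D3.rec (fun _ => Pt) (kh xh12 yh7 zh32) (kh xh14 yh17 zh37) (kh xh14 yh17 zh50) (kh xh12 yh7 zh37) (kh xh14 yh18 zh1) (kh xh14 yh18 zh2) (kh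 xh12 yh8 zh19) (kh xh14 yh18 zh4) (kh xh11 yh21 zh19) (kh xh11 yh21 zh20) (kh xh11 yh21 zh21) (kh xh14 yh18 zh7) (kh xh11 yh21 zh24) (kh xh14 yh18 zh6) (kh xh12 yh14 zh38) (kh xh12 yh17 zh11) (kh xh11 yh21 zh41) (kh xh13 yh3 zh18) (kh xh11 yh21 zh43) (kh xh11 yh21 zh44) (kh xh14 yh18 zh17) (kh xh14 yh18 zh18) (kh xh14 yh18 zh19) (kh xh11 yh21 zh48) (kh xh14 yh18 zh21) (kh xh11 yh21 zh36) (kh xh11 yh21 zh37) (kh xh11 yh21 zh38) (kh xh14 yh16 zh12) (kh xh13 yh0 zh37) (kh xh14 yh18 zh11) (kh xh14 yh18 zh27) (kh xh14 yh18 zh13) (kh xh14 yh18 zh29) (kh xh14 yh18 zh15) (kh xh14 yh18 zh32) (kh xh11 yh21 zh45) (kh xh11 yh21 zh46) (kh xh11 yh21 zh47) (kh xh12 yh24 zh19) (kh xh14 yh18 zh36) (kh xh11 yh21 zh49) (kh xh11 yh22 zh17) (kh xh12 yh24 zh11) (kh xh14 yh18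 zh39) (kh xh11 yh22 zh2) (kh xh11 yh22 zh10) (kh xh13 yh8 zh47) (kh xh14 yh18 zh42) (kh xh11 yh22 zh5) (kh xh14 yh18 zh37)) (@D3.rec (fun _ => Pt) (kh xh14 yh18 zh44) (kh xh11 yh22 zh8) (kh xh14 yh18 zh40) (kh xh11 yh22 zh11) (kh xh11 yh22 zh14) (kh xh14 yh18 zh33) (kh xh13 yh0 zh10) (kh xh14 yh16 zh13) (kh xh12 yh16 zh45) (kh xh12 yh26 zh33) (kh xh14 yh19 zh4) (kh xh11 yh22 zh42) (kh xh14 yh16 zh18) (kh xh11 yh22 zh44) (kh xh11 yh22 zh45) (kh xh14 yh19 zh12) (kh xh11 yh22 zh47) (kh xh11 yh22 zh48) (kh xh14 yh19 zh18) (kh xh11 yh22 zh50) (kh xh14 yh19 zh21) (kh xh11 yh22 zh26) (kh xh11 yh23 zh2) (kh xh14 yh19 zh23) (kh xh11 yh23 zh4) (kh xh14 yh19 zh26) (kh xh11 yh22 zh29) (kh xh14 yh19 zh27) (kh xh11 yh23 zh10) (kh xh14 yh19 zh29) (kh xh11 yh22 zh32)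 (kh xh11 yh23 zh13) (kh xh14 yh19 zh33) (kh xh11 yh22 zh34) (kh xh11 yh22 zh36) (kh xh11 yh22 zh37) (kh xh13 yh9 zh36) (kh xh11 yh23 zh23) (kh xh14 yh19 zh38) (kh xh11 yh22 zh40) (kh xh13 yh9 zh40) (kh xh14 yh19 zh5) (kh xh14 yh19 zh43) (kh xh14 yh19 zh7) (kh xh14 yh19 zh8) (kh xh14 yh19 zh48) (kh xh14 yh19 zh10) (kh xh14 yh20 zh0) (kh xh11 yh22 zh46) (kh xh12 yh10 zh49) (kh xh14 yh19 zh13)) (@D3.rec (fun _ => Pt) (kh xh14 yh20 zh6) (kh xh14 yh20 zh7) (kh xh14 yh19 zh16) (kh xh14 yh20 zh11) (kh xh11 yh22 zh49) (kh xh14 yh19 zh19) (kh xh14 yh20 zh15) (kh xh11 yh23 zh0) (kh xh12 yh10 zh40) (kh xh14 yh20 zh18) (kh xh11 yh23 zh3) (kh xh14 yh19 zh24) (kh xh14 yh20 zh22) (kh xh11 yh23 zh5) (kh xh14 yh20 zh24) (kh xh12 yh10 zh29) (kh xh14 yh20 zh26) (kh xh11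 yh23 zh9) (kh xh12 yh25 zh4) (kh xh14 yh20 zh30) (kh xh11 yh23 zh11) (kh xh11 yh24 zh3) (kh xh14 yh19 zh31) (kh xh14 yh20 zh33) (kh xh11 yh23 zh14) (kh xh11 yh23 zh33) (kh xh11 yh23 zh16) (kh xh11 yh23 zh17) (kh xh11 yh24 zh5) (kh xh12 yh25 zh11) (kh xh14 yh20 zh39) (kh xh11 yh23 zh20) (kh xh11 yh24 zh6) (kh xh14 yh20 zh41) (kh xh11 yh23 zh24) (kh xh11 yh23 zh36) (kh xh11 yh23 zh37) (kh xh13 yh10 zh37) (kh xh14 yh20 zh45) (kh xh11 yh23 zh28) (kh xh14 yh20 zh23) (kh xh14 yh20 zh48) (kh xh11 yh23 zh31) (kh xh14 yh20 zh34) (kh xh14 yh20 zh35) (kh xh11 yh23 zh34) (kh xh14 yh20 zh42) (kh xh14 yh20 zh36) (kh xh14 yh20 zh43) (kh xh13 yh10 zh49) (kh xh14 yh21 zh5)) (@D3.rec (fun _ => Pt) (kh xh11 yh23 zh40) (kh xh13 yh11 zh1) (kh xh14 yh21 zh9) (kh xh14 yh21 zh10)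 (kh xh14 yh21 zh12) (kh xh11 yh23 zh44) (kh xh11 yh23 zh45) (kh xh14 yh21 zh15) (kh xh11 yh23 zh46) (kh xh14 yh20 zh12) (kh xh14 yh21 zh18) (kh xh11 yh23 zh50) (kh xh14 yh20 zh19) (kh xh11 yh24 zh1) (kh xh14 yh20 zh27) (kh xh14 yh20 zh31) (kh xh14 yh20 zh37) (kh xh14 yh20 zh40) (kh xh14 yh21 zh24) (kh xh11 yh24 zh8) (kh xh12 yh2 zh40) (kh xh14 yh21 zh26) (kh xh11 yh24 zh11) (kh xh11 yh24 zh12) (kh xh12 yh12 zh16) (kh xh11 yh24 zh16) (kh xh12 yh12 zh18) (kh xh12 yh0 zh27) (kh xh11 yh24 zh22) (kh xh11 yh24 zh24) (kh xh11 yh24 zh25) (kh xh13 yh11 zh31) (kh xh11 yh24 zh28) (kh xh11 yh24 zh32) (kh xh11 yh24 zh34) (kh xh11 yh25 zh50) (kh xh11 yh25 zh40) (kh xh14 yh21 zh28) (kh xh11 yh24 zh47) (kh xh11 yh25 zh45) (kh xh11 yh24 zh49) (kh xh11 yh24 zh50) (kh xh14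 yh21 zh32) (kh xh11 yh24 zh44) (kh xh11 yh25 zh39) (kh xh11 yh26 zh0) (kh xh11 yh26 zh2) (kh xh14 yh21 zh34) (kh xh14 yh21 zh35) (kh xh14 yh21 zh36) (kh xh11 yh25 zh0)) (@D3.rec (fun _ => Pt) (kh xh11 yh25 zh2) (kh xh11 yh25 zh8) (kh xh14 yh21 zh39) (kh xh11 yh25 zh21) (kh xh14 yh21 zh41) (kh xh11 yh25 zh23) (kh xh14 yh21 zh43) (kh xh11 yh25 zh14) (kh xh14 yh21 zh44) (kh xh14 yh21 zh45) (kh xh11 yh25 zh20) (kh xh14 yh21 zh46) (kh xh11 yh25 zh22) (kh xh14 yh21 zh48) (kh xh11 yh25 zh24) (kh xh11 yh25 zh28) (kh xh14 yh21 zh49) (kh xh11 yh25 zh33) (kh xh14 yh21 zh47) (kh xh11 yh25 zh35) (kh xh14 yh22 zh3) (kh xh14 yh22 zh4) (kh xh11 yh26 zh4) (kh xh14 yh22 zh6) (kh xh11 yh25 zh42) (kh xh11 yh26 zh1) (kh xh13 yh1 zh38) (kh xh11 yh26 zh3) (kh xh14 yh22 zh9)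 (kh xh11 yh26 zh6) (kh xh11 yh26 zh7) (kh xh14 yh22 zh12) (kh xh14 yh22 zh13) (kh xh11 yh25 zh48) (kh xh14 yh22 zh14) (kh xh14 yh22 zh15) (kh xh14 yh22 zh16) (kh xh11 yh26 zh37) (kh xh14 yh22 zh18) (kh xh11 yh26 zh5) (kh xh14 yh22 zh19) (kh xh14 yh22 zh20) (kh xh11 yh26 zh8) (kh xh11 yh26 zh9) (kh xh14 yh22 zh23) (kh xh11 yh26 zh12) (kh xh14 yh22 zh22) (kh xh13 yh1 zh28) (kh xh11 yh26 zh16) (kh xh11 yh26 zh18) (kh xh14 yh22 zh21)) (@D3.rec (fun _ => Pt) (kh xh14 yh22 zh27) (kh xh14 yh22 zh28) (kh xh14 yh22 zh29) (kh xh14 yh22 zh30) (kh xh11 yh26 zh27) (kh xh14 yh22 zh31) (kh xh14 yh22 zh32) (kh xh11 yh26 zh30) (kh xh14 yh22 zh34) (kh xh11 yh26 zh32) (kh xh14 yh22 zh36) (kh xh11 yh26 zh35) (kh xh11 yh26 zh36) (kh xh14 yh22 zh37) (kh xh11 yh26 zh38) (kh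 xh11 yh26 zh39) (kh xh14 yh22 zh40) (kh xh14 yh22 zh41) (kh xh11 yh26 zh43) (kh xh14 yh22 zh43) (kh xh11 yh26 zh45) (kh xh12 yh0 zh7) (kh xh14 yh22 zh46) (kh xh11 yh26 zh48) (kh xh12 yh0 zh3) (kh xh14 yh22 zh39) (kh xh14 yh22 zh47) (kh xh14 yh22 zh48) (kh xh14 yh22 zh38) (kh xh12 yh0 zh5) (kh xh14 yh22 zh42) (kh xh14 yh22 zh45) (kh xh12 yh0 zh10) (kh xh12 yh0 zh12) (kh xh14 yh23 zh0) (kh xh12 yh0 zh15) (kh xh12 yh0 zh17) (kh xh12 yh0 zh21) (kh xh12 yh0 zh22) (kh xh12 yh0 zh32) (kh xh12 yh3 zh0) (kh xh12 yh0 zh39) (kh xh12 yh21 zh20) (kh xh12 yh3 zh4) (kh xh14 yh14 zh50) (kh xh12 yh3 zh6) (kh xh14 yh23 zh6) (kh xh12 yh0 zh44) (kh xh12 yh0 zh46) (kh xh12 yh1 zh5) (kh xh12 yh3 zh16)) (@D3.rec (fun _ => Pt) (kh xh12 yh1 zh7) (kh xh12 yh3 zh18) (kh xh12 yh1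 zh9) (kh xh12 yh1 zh10) (kh xh14 yh23 zh16) (kh xh14 yh23 zh17) (kh xh14 yh23 zh18) (kh xh12 yh1 zh2) (kh xh12 yh1 zh3) (kh xh14 yh23 zh7) (kh xh12 yh3 zh29) (kh xh14 yh23 zh9) (kh xh14 yh23 zh10) (kh xh14 yh23 zh27) (kh xh14 yh23 zh28) (kh xh14 yh23 zh29) (kh xh14 yh23 zh14) (kh xh14 yh23 zh31) (kh xh12 yh1 zh11) (kh xh14 yh23 zh32) (kh xh12 yh1 zh13) (kh xh12 yh1 zh14) (kh xh14 yh23 zh35) (kh xh12 yh1 zh17) (kh xh14 yh23 zh34) (kh xh12 yh4 zh3) (kh xh14 yh23 zh37) (kh xh12 yh1 zh23) (kh xh12 yh1 zh24) (kh xh14 yh23 zh33) (kh xh12 yh7 zh0) (kh xh12 yh4 zh22) (kh xh12 yh1 zh44) (kh xh12 yh4 zh25) (kh xh12 yh1 zh46) (kh xh12 yh1 zh47) (kh xh14 yh23 zh49) (kh xh14 yh23 zh50) (kh xh12 yh1 zh50) (kh xh14 yh24 zh1) (kh xh12 yh2 zh1) (kh xh14 yh24 zh4) (kh xh12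 yh1 zh36) (kh xh14 yh24 zh5) (kh xh14 yh24 zh6) (kh xh12 yh1 zh39) (kh xh12 yh2 zh10) (kh xh14 yh24 zh9) (kh xh12 yh1 zh41) (kh xh12 yh22 zh22) (kh xh12 yh4 zh45)) (@D3.rec (fun _ => Pt) (kh xh14 yh23 zh42) (kh xh14 yh24 zh14) (kh xh14 yh23 zh44) (kh xh14 yh23 zh45) (kh xh14 yh24 zh19) (kh xh14 yh23 zh47) (kh xh14 yh24 zh22) (kh xh12 yh1 zh48) (kh xh12 yh1 zh49) (kh xh14 yh24 zh23) (kh xh12 yh2 zh0) (kh xh14 yh24 zh2) (kh xh14 yh24 zh26) (kh xh12 yh2 zh2) (kh xh14 yh24 zh28) (kh xh14 yh24 zh29) (kh xh12 yh2 zh6) (kh xh12 yh3 zh5) (kh xh14 yh24 zh32) (kh xh12 yh2 zh8) (kh xh12 yh2 zh34) (kh xh14 yh24 zh34) (kh xh12 yh2 zh11) (kh xh12 yh2 zh19) (kh xh14 yh24 zh37) (kh xh12 yh2 zh15) (kh xh14 yh24 zh27) (kh xh12 yh2 zh17) (kh xh14 yh24 zh35) (kh xh14 yh24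 zh36) (kh xh14 yh17 zh34) (kh xh12 yh2 zh23) (kh xh14 yh24 zh41) (kh xh12 yh24 zh13) (kh xh14 yh24 zh43) (kh xh12 yh2 zh26) (kh xh12 yh2 zh27) (kh xh12 yh2 zh30) (kh xh14 yh24 zh24) (kh xh14 yh24 zh30) (kh xh14 yh24 zh33) (kh xh14 yh24 zh47) (kh xh14 yh21 zh25) (kh xh12 yh2 zh39) (kh xh12 yh2 zh44) (kh xh12 yh3 zh3) (kh xh12 yh21 zh21) (kh xh14 yh15 zh16) (kh xh14 yh24 zh50) (kh xh12 yh3 zh1) (kh xh14 yh23 zh19)) (@D3.rec (fun _ => Pt) (kh xh14 yh23 zh2) (kh xh12 yh22 zh9) (kh xh14 yh24 zh48) (kh xh14 yh25 zh6) (kh xh14 yh25 zh7) (kh xh12 yh3 zh34) (kh xh14 yh25 zh9) (kh xh12 yh3 zh8) (kh xh14 yh25 zh10) (kh xh12 yh3 zh10) (kh xh12 yh3 zh12) (kh xh12 yh8 zh28) (kh xh12 yh24 zh27) (kh xh12 yh3 zh28) (kh xh14 yh23 zh8) (kh xh12 yh3 zh30) (kh xh12 yh3 zh31)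 (kh xh14 yh25 zh25) (kh xh12 yh3 zh33) (kh xh14 yh25 zh27) (kh xh12 yh3 zh36) (kh xh12 yh3 zh37) (kh xh14 yh25 zh31) (kh xh12 yh3 zh39) (kh xh14 yh25 zh33) (kh xh12 yh3 zh21) (kh xh14 yh25 zh34) (kh xh14 yh25 zh35) (kh xh12 yh3 zh24) (kh xh12 yh3 zh25) (kh xh14 yh23 zh1) (kh xh14 yh23 zh20) (kh xh14 yh25 zh17) (kh xh14 yh25 zh18) (kh xh14 yh25 zh44) (kh xh14 yh25 zh20) (kh xh14 yh25 zh21) (kh xh14 yh25 zh50) (kh xh14 yh25 zh23) (kh xh14 yh26 zh1) (kh xh12 yh3 zh32) (kh xh14 yh26 zh2) (kh xh14 yh25 zh2) (kh xh14 yh26 zh4) (kh xh12 yh3 zh35) (kh xh12 yh5 zh4) (kh xh14 yh26 zh6) (kh xh14 yh25 zh29) (kh xh14 yh26 zh8) (kh xh12 yh3 zh38) (kh xh14 yh26 zh10)) (@D3.rec (fun _ => Pt) (kh xh12 yh3 zh40) (kh xh14 yh26 zh12) (kh xh14 yh26 zh13) (kh xh12 yh3 zh44)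 (kh xh12 yh3 zh45) (kh xh12 yh4 zh19) (kh xh12 yh4 zh2) (kh xh13 yh17 zh7) (kh xh14 yh26 zh19) (kh xh12 yh3 zh49) (kh xh12 yh4 zh0) (kh xh14 yh26 zh11) (kh xh14 yh26 zh17) (kh xh13 yh17 zh13) (kh xh14 yh26 zh23) (kh xh14 yh26 zh24) (kh xh12 yh4 zh6) (kh xh14 yh26 zh25) (kh xh12 yh4 zh8) (kh xh12 yh4 zh9) (kh xh13 yh2 zh0) (kh xh12 yh4 zh12) (kh xh14 yh26 zh27) (kh xh12 yh4 zh15) (kh xh14 yh26 zh9) (kh xh12 yh4 zh17) (kh xh14 yh26 zh14) (kh xh14 yh26 zh16) (kh xh12 yh9 zh34) (kh xh14 yh17 zh42) (kh xh12 yh9 zh36) (kh xh12 yh9 zh37) (kh xh14 yh26 zh40) (kh xh12 yh4 zh44) (kh xh13 yh1 zh36) (kh xh12 yh4 zh46) (kh xh12 yh4 zh47) (kh xh14 yh26 zh47) (kh xh12 yh4 zh49) (kh xh12 yh4 zh50) (kh xh15 yh0 zh2) (kh xh12 yh5 zh1) (kh xh15 yh0 zh5) (kh xh12 yh4 zh28)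 (kh xh15 yh0 zh6) (kh xh12 yh5 zh6) (kh xh15 yh0 zh8) (kh xh12 yh4 zh31) (kh xh15 yh0 zh9) (kh xh12 yh5 zh12) (kh xh15 yh0 zh11)) (@D3.rec (fun _ => Pt) (kh xh12 yh4 zh34) (kh xh12 yh5 zh15) (kh xh15 yh0 zh14) (kh xh12 yh4 zh36) (kh xh12 yh4 zh38) (kh xh12 yh4 zh39) (kh xh13 yh18 zh6) (kh xh15 yh0 zh19) (kh xh12 yh4 zh42) (kh xh13 yh18 zh9) (kh xh14 yh26 zh41) (kh xh15 yh0 zh24) (kh xh14 yh26 zh43) (kh xh15 yh0 zh28) (kh xh14 yh26 zh45) (kh xh15 yh0 zh30) (kh xh12 yh4 zh48) (kh xh12 yh20 zh46) (kh xh14 yh26 zh48) (kh xh15 yh0 zh36) (kh xh15 yh0 zh38) (kh xh15 yh0 zh0) (kh xh15 yh0 zh42) (kh xh12 yh5 zh0) (kh xh15 yh0 zh3) (kh xh15 yh0 zh46) (kh xh12 yh5 zh2) (kh xh14 yh25 zh45) (kh xh15 yh0 zh49) (kh xh12 yh5 zh5) (kh xh15 yh1 zh0) (kh xh12 yh5 zh7) (kh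 xh15 yh1 zh2) (kh xh12 yh20 zh15) (kh xh15 yh1 zh4) (kh xh12 yh5 zh11) (kh xh14 yh14 zh47) (kh xh15 yh1 zh7) (kh xh12 yh5 zh13) (kh xh12 yh6 zh2) (kh xh14 yh15 zh2) (kh xh15 yh1 zh11) (kh xh12 yh5 zh16) (kh xh12 yh5 zh34) (kh xh12 yh5 zh18) (kh xh12 yh5 zh19) (kh xh12 yh6 zh4) (kh xh15 yh1 zh16) (kh xh12 yh5 zh22) (kh xh13 yh18 zh49) (kh xh12 yh6 zh5)) (@D3.rec (fun _ => Pt) (kh xh15 yh1 zh21) (kh xh12 yh5 zh26) (kh xh12 yh5 zh37) (kh xh12 yh5 zh38) (kh xh12 yh5 zh29) (kh xh15 yh1 zh1) (kh xh13 yh1 zh50) (kh xh12 yh5 zh32) (kh xh15 yh1 zh12) (kh xh15 yh1 zh13) (kh xh15 yh1 zh22) (kh xh15 yh1 zh15) (kh xh15 yh1 zh20) (kh xh15 yh1 zh29) (kh xh15 yh1 zh31) (kh xh12 yh5 zh40) (kh xh12 yh5 zh41) (kh xh13 yh19 zh17) (kh xh15 yh1 zh35) (kh xh15 yh1 zh36) (kh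 xh15 yh1 zh38) (kh xh12 yh5 zh45) (kh xh12 yh5 zh46) (kh xh15 yh1 zh41) (kh xh12 yh5 zh47) (kh xh15 yh0 zh43) (kh xh12 yh12 zh5) (kh xh15 yh0 zh50) (kh xh12 yh6 zh0) (kh xh15 yh1 zh5) (kh xh15 yh1 zh9) (kh xh15 yh1 zh46) (kh xh12 yh6 zh8) (kh xh12 yh6 zh9) (kh xh15 yh1 zh47) (kh xh12 yh6 zh18) (kh xh12 yh6 zh20) (kh xh13 yh19 zh37) (kh xh12 yh23 zh48) (kh xh12 yh8 zh18) (kh xh12 yh15 zh11) (kh xh12 yh24 zh3) (kh xh15 yh2 zh2) (kh xh12 yh15 zh16) (kh xh15 yh2 zh4) (kh xh15 yh2 zh5) (kh xh12 yh6 zh30) (kh xh12 yh6 zh31) (kh xh12 yh23 zh45) (kh xh12 yh8 zh42) (kh xh12 yh23 zh49)) (@D3.rec (fun _ => Pt) (kh xh15 yh2 zh10) (kh xh12 yh24 zh6) (kh xh15 yh2 zh12) (kh xh12 yh6 zh37) (kh xh15 yh2 zh13) (kh xh12 yh6 zh39) (kh xh15 yh2 zh14) (kh xh12 yh6 zh41) (kh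 xh12 yh6 zh48) (kh xh12 yh6 zh44) (kh xh12 yh6 zh46) (kh xh15 yh2 zh15) (kh xh14 yh17 zh41) (kh xh12 yh9 zh35) (kh xh14 yh23 zh39) (kh xh14 yh23 zh40) (kh xh15 yh2 zh24) (kh xh12 yh7 zh13) (kh xh12 yh9 zh40) (kh xh12 yh7 zh16) (kh xh15 yh2 zh29) (kh xh12 yh7 zh21) (kh xh15 yh2 zh31) (kh xh12 yh7 zh6) (kh xh12 yh7 zh25) (kh xh15 yh2 zh33) (kh xh12 yh7 zh8) (kh xh15 yh2 zh34) (kh xh12 yh7 zh10) (kh xh13 yh20 zh29) (kh xh12 yh23 zh25) (kh xh15 yh2 zh25) (kh xh15 yh2 zh40) (kh xh12 yh23 zh27) (kh xh15 yh2 zh42) (kh xh15 yh2 zh27) (kh xh15 yh2 zh44) (kh xh12 yh7 zh17) (kh xh12 yh16 zh16) (kh xh15 yh2 zh46) (kh xh12 yh24 zh0) (kh xh12 yh15 zh47) (kh xh15 yh2 zh49) (kh xh12 yh7 zh20) (kh xh14 yh17 zh46) (kh xh15 yh3 zh1) (kh xh12 yh7 zh22) (kh xh12 yh7 zh24)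 (kh xh15 yh3 zh3) (kh xh12 yh7 zh26) (kh xh12 yh7 zh28)) (@D3.rec (fun _ => Pt) (kh xh15 yh3 zh5) (kh xh12 yh7 zh30) (kh xh14 yh17 zh43) (kh xh15 yh3 zh7) (kh xh12 yh7 zh33) (kh xh12 yh7 zh47) (kh xh15 yh3 zh10) (kh xh12 yh7 zh38) (kh xh12 yh7 zh50) (kh xh12 yh8 zh0) (kh xh15 yh3 zh12) (kh xh12 yh7 zh42) (kh xh15 yh3 zh4) (kh xh15 yh3 zh14) (kh xh12 yh7 zh45) (kh xh15 yh3 zh8) (kh xh15 yh3 zh9) (kh xh12 yh7 zh48) (kh xh15 yh3 zh11) (kh xh12 yh24 zh34) (kh xh15 yh3 zh19) (kh xh12 yh8 zh17) (kh xh12 yh24 zh29) (kh xh12 yh8 zh20) (kh xh15 yh3 zh23) (kh xh15 yh3 zh24) (kh xh12 yh8 zh14) (kh xh12 yh24 zh30) (kh xh14 yh25 zh13) (kh xh12 yh22 zh49) (kh xh15 yh3 zh20) (kh xh15 yh3 zh30) (kh xh14 yh17 zh48) (kh xh15 yh3 zh33) (kh xh15 yh3 zh34) (kh xh12 yh8 zh21)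 (kh xh15 yh3 zh35) (kh xh12 yh8 zh23) (kh xh12 yh8 zh24) (kh xh13 yh21 zh39) (kh xh14 yh25 zh12) (kh xh12 yh24 zh31) (kh xh14 yh25 zh14) (kh xh14 yh25 zh15) (kh xh15 yh3 zh43) (kh xh12 yh8 zh41) (kh xh12 yh24 zh28) (kh xh12 yh8 zh44) (kh xh15 yh3 zh48) (kh xh12 yh8 zh49) (kh xh15 yh3 zh50)) (@D3.rec (fun _ => Pt) (kh xh12 yh8 zh34) (kh xh12 yh9 zh3) (kh xh15 yh4 zh2) (kh xh12 yh8 zh36) (kh xh15 yh4 zh3) (kh xh12 yh8 zh38) (kh xh13 yh22 zh6) (kh xh12 yh11 zh49) (kh xh15 yh3 zh44) (kh xh15 yh4 zh10) (kh xh12 yh26 zh38) (kh xh15 yh4 zh14) (kh xh15 yh3 zh46) (kh xh15 yh4 zh17) (kh xh12 yh8 zh45) (kh xh12 yh26 zh29) (kh xh15 yh4 zh20) (kh xh15 yh4 zh22) (kh xh13 yh1 zh21) (kh xh15 yh4 zh25) (kh xh12 yh8 zh48) (kh xh15 yh4 zh26) (kh xh12 yh8 zh50) (kh xh13 yh1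 zh22) (kh xh15 yh4 zh30) (kh xh12 yh9 zh2) (kh xh15 yh4 zh0) (kh xh15 yh4 zh32) (kh xh12 yh9 zh4) (kh xh12 yh9 zh6) (kh xh15 yh4 zh34) (kh xh12 yh9 zh8) (kh xh12 yh9 zh10) (kh xh12 yh9 zh19) (kh xh13 yh22 zh34) (kh xh12 yh9 zh20) (kh xh15 yh4 zh39) (kh xh12 yh9 zh16) (kh xh15 yh4 zh33) (kh xh15 yh4 zh36) (kh xh15 yh4 zh37) (kh xh12 yh12 zh26) (kh xh13 yh1 zh10) (kh xh12 yh12 zh12) (kh xh13 yh1 zh15) (kh xh13 yh1 zh13) (kh xh12 yh12 zh27) (kh xh13 yh1 zh14) (kh xh13 yh1 zh12) (kh xh13 yh1 zh16) (kh xh12 yh9 zh30)) (@D3.rec (fun _ => Pt) (kh xh15 yh5 zh0) (kh xh12 yh18 zh24) (kh xh14 yh17 zh36) (kh xh14 yh26 zh32) (kh xh14 yh26 zh33) (kh xh15 yh5 zh8) (kh xh14 yh26 zh35) (kh xh14 yh26 zh36) (kh xh15 yh5 zh15) (kh xh14 yh26 zh38) (kh xh15 yh5 zh18) (kh xh12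 yh9 zh38) (kh xh12 yh10 zh20) (kh xh12 yh10 zh21) (kh xh15 yh5 zh23) (kh xh12 yh10 zh23) (kh xh12 yh10 zh24) (kh xh15 yh5 zh28) (kh xh12 yh10 zh26) (kh xh15 yh5 zh31) (kh xh12 yh9 zh43) (kh xh12 yh10 zh30) (kh xh15 yh5 zh34) (kh xh15 yh5 zh36) (kh xh12 yh10 zh33) (kh xh15 yh5 zh40) (kh xh12 yh9 zh46) (kh xh12 yh10 zh36) (kh xh15 yh5 zh43) (kh xh12 yh9 zh48) (kh xh15 yh5 zh45) (kh xh12 yh10 zh42) (kh xh15 yh5 zh48) (kh xh12 yh10 zh1) (kh xh12 yh10 zh45) (kh xh15 yh6 zh0) (kh xh12 yh10 zh3) (kh xh12 yh10 zh5) (kh xh12 yh11 zh1) (kh xh15 yh6 zh4) (kh xh12 yh10 zh7) (kh xh12 yh11 zh5) (kh xh15 yh6 zh7) (kh xh12 yh10 zh10) (kh xh13 yh23 zh44) (kh xh12 yh11 zh14) (kh xh15 yh6 zh11) (kh xh12 yh10 zh14) (kh xh12 yh15 zh36) (kh xh15 yh6 zh12) (kh xh12 yh10 zh17))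 (@D3.rec (fun _ => Pt) (kh xh13 yh24 zh0) (kh xh13 yh24 zh1) (kh xh15 yh4 zh46) (kh xh15 yh5 zh19) (kh xh15 yh6 zh21) (kh xh15 yh5 zh21) (kh xh15 yh6 zh24) (kh xh12 yh10 zh22) (kh xh12 yh25 zh21) (kh xh15 yh5 zh24) (kh xh15 yh6 zh30) (kh xh15 yh6 zh32) (kh xh15 yh5 zh26) (kh xh15 yh6 zh36) (kh xh12 yh10 zh25) (kh xh15 yh5 zh29) (kh xh15 yh6 zh40) (kh xh12 yh10 zh27) (kh xh14 yh20 zh4) (kh xh15 yh6 zh43) (kh xh15 yh4 zh6) (kh xh14 yh20 zh1) (kh xh15 yh6 zh48) (kh xh12 yh10 zh31) (kh xh15 yh7 zh0) (kh xh12 yh10 zh32) (kh xh15 yh7 zh3) (kh xh15 yh5 zh38) (kh xh15 yh7 zh6) (kh xh12 yh10 zh34) (kh xh12 yh12 zh4) (kh xh15 yh5 zh41) (kh xh15 yh7 zh10) (kh xh12 yh10 zh37) (kh xh15 yh0 zh47) (kh xh15 yh7 zh13) (kh xh14 yh19 zh44) (kh xh15 yh7 zh15) (kh xh12 yh10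 zh41) (kh xh15 yh5 zh46) (kh xh15 yh7 zh19) (kh xh12 yh10 zh43) (kh xh12 yh12 zh8) (kh xh15 yh5 zh49) (kh xh15 yh7 zh23) (kh xh12 yh10 zh46) (kh xh12 yh11 zh26) (kh xh12 yh10 zh48) (kh xh12 yh17 zh48) (kh xh15 yh7 zh28) (kh xh12 yh10 zh50)) (@D3.rec (fun _ => Pt) (kh xh12 yh12 zh10) (kh xh15 yh6 zh2) (kh xh15 yh7 zh31) (kh xh12 yh11 zh2) (kh xh13 yh25 zh4) (kh xh12 yh12 zh11) (kh xh15 yh7 zh36) (kh xh12 yh11 zh6) (kh xh12 yh11 zh29) (kh xh12 yh11 zh30) (kh xh12 yh18 zh7) (kh xh15 yh7 zh42) (kh xh12 yh11 zh11) (kh xh13 yh25 zh13) (kh xh15 yh7 zh43) (kh xh12 yh11 zh15) (kh xh13 yh25 zh16) (kh xh13 yh25 zh17) (kh xh13 yh25 zh18) (kh xh12 yh11 zh19) (kh xh12 yh11 zh32) (kh xh12 yh11 zh33) (kh xh12 yh11 zh34) (kh xh15 yh7 zh49) (kh xh12 yh11 zh24) (kh xh15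 yh7 zh24) (kh xh15 yh7 zh25) (kh xh12 yh11 zh27) (kh xh15 yh7 zh37) (kh xh15 yh7 zh38) (kh xh15 yh7 zh39) (kh xh15 yh7 zh40) (kh xh15 yh7 zh46) (kh xh15 yh7 zh47) (kh xh15 yh7 zh48) (kh xh12 yh11 zh44) (kh xh12 yh24 zh50) (kh xh12 yh11 zh42) (kh xh12 yh11 zh37) (kh xh15 yh4 zh44) (kh xh12 yh24 zh47) (kh xh12 yh11 zh43) (kh xh15 yh8 zh13) (kh xh15 yh6 zh37) (kh xh12 yh25 zh17) (kh xh12 yh11 zh48) (kh xh15 yh8 zh15) (kh xh15 yh6 zh49) (kh xh15 yh8 zh17) (kh xh12 yh12 zh2) (kh xh15 yh8 zh18)) (@D3.rec (fun _ => Pt) (kh xh15 yh7 zh8) (kh xh15 yh1 zh44) (kh xh12 yh12 zh6) (kh xh15 yh7 zh16) (kh xh15 yh7 zh21) (kh xh15 yh7 zh35) (kh xh12 yh12 zh29) (kh xh12 yh12 zh21) (kh xh15 yh8 zh22) (kh xh12 yh12 zh25) (kh xh13 yh1 zh20) (kh xh13 yh26 zh11) (kh xh15 yh8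 zh24) (kh xh12 yh12 zh31) (kh xh13 yh26 zh14) (kh xh13 yh26 zh15) (kh xh15 yh8 zh27) (kh xh15 yh7 zh26) (kh xh15 yh8 zh29) (kh xh12 yh12 zh34) (kh xh12 yh12 zh35) (kh xh12 yh25 zh18) (kh xh12 yh25 zh20) (kh xh14 yh20 zh28) (kh xh12 yh25 zh22) (kh xh12 yh12 zh42) (kh xh15 yh8 zh33) (kh xh13 yh0 zh48) (kh xh15 yh4 zh47) (kh xh12 yh25 zh0) (kh xh12 yh25 zh5) (kh xh12 yh13 zh0) (kh xh12 yh13 zh2) (kh xh15 yh8 zh35) (kh xh15 yh8 zh36) (kh xh12 yh15 zh12) (kh xh12 yh13 zh9) (kh xh12 yh13 zh11) (kh xh12 yh13 zh12) (kh xh12 yh13 zh15) (kh xh12 yh13 zh16) (kh xh15 yh8 zh39) (kh xh12 yh13 zh19) (kh xh15 yh8 zh40) (kh xh12 yh13 zh21) (kh xh12 yh13 zh23) (kh xh12 yh13 zh30) (kh xh15 yh8 zh43) (kh xh12 yh13 zh27) (kh xh12 yh13 zh28) (kh xh15 yh8 zh44))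
def f_h_14 : D2 → D3 → Pt := @D2.rec (fun _ => D3 → Pt) (@D3.rec (fun _ => Pt) (kh xh12 yh13 zh31) (kh xh12 yh13 zh34) (kh xh12 yh20 zh38) (kh xh15 yh8 zh46) (kh xh12 yh13 zh37) (kh xh12 yh21 zh22) (kh xh15 yh8 zh48) (kh xh12 yh13 zh40) (kh xh15 yh8 zh49) (kh xh12 yh13 zh42) (kh xh15 yh8 zh50) (kh xh12 yh13 zh49) (kh xh15 yh9 zh0) (kh xh12 yh14 zh1) (kh xh12 yh22 zh16) (kh xh15 yh9 zh2) (kh xh12 yh22 zh13) (kh xh15 yh9 zh4) (kh xh15 yh9 zh5) (kh xh12 yh14 zh7) (kh xh14 yh15 zh18) (kh xh15 yh9 zh8) (kh xh14 yh18 zh9) (kh xh12 yh22 zh5) (kh xh15 yh9 zh13) (kh xh12 yh14 zh10) (kh xh12 yh22 zh2) (kh xh15 yh9 zh15) (kh xh12 yh14 zh12) (kh xh15 yh9 zh17) (kh xh12 yh14 zh15) (kh xh12 yh22 zh4) (kh xh15 yh9 zh19) (kh xh12 yh14 zh18) (kh xh12 yh22 zh1) (kh xh15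 yh9 zh21) (kh xh12 yh14 zh20) (kh xh12 yh14 zh42) (kh xh15 yh9 zh23) (kh xh12 yh14 zh23) (kh xh12 yh14 zh25) (kh xh15 yh9 zh25) (kh xh12 yh14 zh28) (kh xh14 yh0 zh43) (kh xh15 yh9 zh27) (kh xh12 yh14 zh32) (kh xh15 yh9 zh28) (kh xh12 yh14 zh46) (kh xh14 yh0 zh48) (kh xh12 yh16 zh10) (kh xh12 yh16 zh11)) (@D3.rec (fun _ => Pt) (kh xh15 yh9 zh32) (kh xh12 yh15 zh9) (kh xh15 yh9 zh34) (kh xh15 yh9 zh35) (kh xh12 yh15 zh6) (kh xh12 yh15 zh7) (kh xh15 yh9 zh36) (kh xh12 yh15 zh10) (kh xh12 yh18 zh20) (kh xh15 yh1 zh50) (kh xh15 yh9 zh40) (kh xh15 yh9 zh41) (kh xh12 yh15 zh13) (kh xh12 yh15 zh14) (kh xh12 yh18 zh33) (kh xh15 yh9 zh45) (kh xh12 yh15 zh17) (kh xh15 yh9 zh47) (kh xh12 yh15 zh20) (kh xh12 yh15 zh33) (kh xh12 yh15 zh22) (kh xh12 yh15 zh35) (kh xh15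 yh9 zh49) (kh xh12 yh15 zh26) (kh xh15 yh9 zh42) (kh xh15 yh10 zh1) (kh xh12 yh15 zh29) (kh xh15 yh9 zh46) (kh xh12 yh15 zh31) (kh xh15 yh9 zh48) (kh xh15 yh6 zh5) (kh xh12 yh15 zh37) (kh xh12 yh23 zh15) (kh xh12 yh15 zh40) (kh xh12 yh23 zh32) (kh xh15 yh10 zh6) (kh xh15 yh10 zh7) (kh xh12 yh15 zh48) (kh xh12 yh15 zh49) (kh xh12 yh16 zh14) (kh xh15 yh10 zh10) (kh xh15 yh10 zh11) (kh xh12 yh16 zh2) (kh xh15 yh10 zh12) (kh xh12 yh16 zh4) (kh xh12 yh16 zh5) (kh xh14 yh1 zh46) (kh xh14 yh16 zh14) (kh xh14 yh16 zh15) (kh xh15 yh10 zh19) (kh xh14 yh17 zh0)) (@D3.rec (fun _ => Pt) (kh xh15 yh9 zh29) (kh xh15 yh10 zh25) (kh xh12 yh24 zh40) (kh xh15 yh10 zh27) (kh xh12 yh16 zh12) (kh xh14 yh16 zh46) (kh xh15 yh10 zh30) (kh xh14 yh19 zh0) (kh xh14 yh16 zh43) (kh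 xh15 yh10 zh34) (kh xh12 yh16 zh15) (kh xh15 yh10 zh36) (kh xh12 yh16 zh17) (kh xh15 yh10 zh38) (kh xh12 yh24 zh39) (kh xh15 yh10 zh40) (kh xh12 yh16 zh21) (kh xh15 yh10 zh42) (kh xh12 yh16 zh23) (kh xh12 yh16 zh25) (kh xh15 yh10 zh44) (kh xh12 yh16 zh27) (kh xh12 yh17 zh3) (kh xh12 yh16 zh29) (kh xh12 yh17 zh5) (kh xh14 yh2 zh25) (kh xh12 yh17 zh6) (kh xh14 yh2 zh27) (kh xh15 yh10 zh49) (kh xh12 yh16 zh36) (kh xh15 yh10 zh50) (kh xh14 yh18 zh47) (kh xh15 yh11 zh1) (kh xh12 yh16 zh39) (kh xh12 yh16 zh40) (kh xh15 yh11 zh3) (kh xh14 yh18 zh50) (kh xh15 yh11 zh5) (kh xh12 yh16 zh44) (kh xh15 yh11 zh7) (kh xh12 yh16 zh46) (kh xh15 yh10 zh35) (kh xh15 yh11 zh10) (kh xh12 yh16 zh50) (kh xh15 yh10 zh41) (kh xh12 yh17 zh1) (kh xh15 yh10 zh43) (kh xh15 yh10 zh46)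 (kh xh15 yh10 zh47) (kh xh13 yh0 zh4) (kh xh12 yh26 zh30)) (@D3.rec (fun _ => Pt) (kh xh15 yh11 zh20) (kh xh15 yh11 zh21) (kh xh12 yh17 zh9) (kh xh12 yh17 zh39) (kh xh12 yh17 zh40) (kh xh15 yh11 zh25) (kh xh12 yh17 zh42) (kh xh12 yh17 zh43) (kh xh15 yh11 zh30) (kh xh15 yh11 zh31) (kh xh12 yh17 zh14) (kh xh12 yh17 zh49) (kh xh15 yh11 zh35) (kh xh15 yh11 zh37) (kh xh12 yh18 zh1) (kh xh15 yh11 zh40) (kh xh12 yh17 zh17) (kh xh12 yh18 zh4) (kh xh15 yh11 zh43) (kh xh12 yh17 zh19) (kh xh15 yh11 zh45) (kh xh12 yh17 zh22) (kh xh12 yh18 zh17) (kh xh15 yh11 zh48) (kh xh12 yh17 zh25) (kh xh15 yh11 zh50) (kh xh12 yh17 zh27) (kh xh14 yh3 zh27) (kh xh15 yh12 zh0) (kh xh12 yh17 zh30) (kh xh12 yh17 zh32) (kh xh14 yh3 zh31) (kh xh15 yh12 zh1) (kh xh12 yh17 zh37) (kh xh15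 yh11 zh22) (kh xh15 yh12 zh4) (kh xh15 yh5 zh16) (kh xh15 yh12 zh6) (kh xh12 yh17 zh41) (kh xh15 yh11 zh26) (kh xh15 yh12 zh9) (kh xh15 yh12 zh11) (kh xh12 yh25 zh27) (kh xh15 yh12 zh14) (kh xh12 yh17 zh44) (kh xh15 yh12 zh16) (kh xh12 yh17 zh46) (kh xh15 yh6 zh46) (kh xh15 yh12 zh20) (kh xh15 yh12 zh22) (kh xh15 yh11 zh33)) (@D3.rec (fun _ => Pt) (kh xh15 yh12 zh26) (kh xh12 yh17 zh50) (kh xh15 yh12 zh29) (kh xh12 yh18 zh0) (kh xh15 yh12 zh32) (kh xh15 yh9 zh37) (kh xh15 yh12 zh35) (kh xh12 yh18 zh2) (kh xh12 yh19 zh4) (kh xh15 yh5 zh1) (kh xh15 yh12 zh39) (kh xh12 yh18 zh5) (kh xh15 yh9 zh16) (kh xh13 yh0 zh28) (kh xh15 yh12 zh44) (kh xh12 yh25 zh26) (kh xh15 yh12 zh46) (kh xh12 yh18 zh9) (kh xh15 yh12 zh48) (kh xh12 yh18 zh11) (kh xh12 yh19 zh7) (kh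 xh12 yh18 zh13) (kh xh13 yh0 zh16) (kh xh15 yh13 zh1) (kh xh12 yh18 zh16) (kh xh13 yh0 zh13) (kh xh15 yh13 zh3) (kh xh12 yh18 zh18) (kh xh12 yh19 zh9) (kh xh14 yh21 zh7) (kh xh15 yh13 zh6) (kh xh12 yh18 zh21) (kh xh14 yh4 zh32) (kh xh12 yh19 zh10) (kh xh15 yh13 zh9) (kh xh12 yh18 zh25) (kh xh12 yh18 zh27) (kh xh13 yh0 zh2) (kh xh15 yh13 zh12) (kh xh12 yh18 zh30) (kh xh14 yh4 zh40) (kh xh15 yh13 zh13) (kh xh12 yh18 zh34) (kh xh14 yh4 zh43) (kh xh12 yh18 zh38) (kh xh12 yh18 zh41) (kh xh12 yh18 zh43) (kh xh12 yh18 zh44) (kh xh15 yh13 zh18) (kh xh12 yh18 zh45) (kh xh15 yh12 zh15)) (@D3.rec (fun _ => Pt) (kh xh12 yh18 zh48) (kh xh12 yh18 zh49) (kh xh15 yh13 zh22) (kh xh12 yh18 zh50) (kh xh15 yh12 zh27) (kh xh15 yh13 zh25) (kh xh12 yh19 zh2) (kh xh15 yh13 zh26)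 (kh xh15 yh12 zh37) (kh xh12 yh19 zh5) (kh xh15 yh12 zh47) (kh xh15 yh12 zh50) (kh xh15 yh13 zh8) (kh xh12 yh19 zh17) (kh xh12 yh19 zh18) (kh xh12 yh19 zh19) (kh xh12 yh19 zh21) (kh xh15 yh13 zh30) (kh xh12 yh19 zh23) (kh xh12 yh19 zh26) (kh xh12 yh19 zh29) (kh xh15 yh13 zh35) (kh xh12 yh19 zh30) (kh xh12 yh19 zh32) (kh xh12 yh19 zh36) (kh xh15 yh13 zh38) (kh xh12 yh19 zh37) (kh xh14 yh5 zh27) (kh xh12 yh19 zh39) (kh xh12 yh19 zh40) (kh xh12 yh19 zh42) (kh xh12 yh20 zh4) (kh xh12 yh19 zh44) (kh xh12 yh19 zh45) (kh xh12 yh20 zh6) (kh xh12 yh19 zh47) (kh xh12 yh19 zh50) (kh xh12 yh20 zh7) (kh xh15 yh13 zh41) (kh xh15 yh13 zh43) (kh xh15 yh13 zh44) (kh xh15 yh13 zh45) (kh xh15 yh13 zh46) (kh xh12 yh20 zh16) (kh xh15 yh13 zh48) (kh xh12 yh20 zh11) (kh xh12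 yh20 zh42) (kh xh15 yh13 zh50) (kh xh15 yh0 zh34) (kh xh15 yh14 zh1) (kh xh15 yh14 zh2)) (@D3.rec (fun _ => Pt) (kh xh12 yh20 zh17) (kh xh12 yh20 zh18) (kh xh12 yh20 zh19) (kh xh12 yh20 zh29) (kh xh15 yh14 zh5) (kh xh12 yh20 zh23) (kh xh12 yh20 zh25) (kh xh15 yh14 zh3) (kh xh15 yh0 zh17) (kh xh15 yh14 zh4) (kh xh12 yh20 zh40) (kh xh15 yh14 zh11) (kh xh15 yh14 zh12) (kh xh12 yh20 zh32) (kh xh12 yh20 zh33) (kh xh12 yh20 zh35) (kh xh14 yh6 zh16) (kh xh15 yh14 zh16) (kh xh12 yh20 zh39) (kh xh15 yh14 zh18) (kh xh15 yh0 zh31) (kh xh15 yh14 zh21) (kh xh12 yh20 zh41) (kh xh15 yh14 zh23) (kh xh12 yh20 zh43) (kh xh15 yh14 zh25) (kh xh12 yh20 zh47) (kh xh12 yh21 zh9) (kh xh12 yh20 zh49) (kh xh12 yh21 zh0) (kh xh12 yh21 zh1) (kh xh12 yh21 zh11) (kh xh14 yh6 zh32)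 (kh xh12 yh21 zh12) (kh xh12 yh21 zh5) (kh xh15 yh14 zh32) (kh xh12 yh21 zh6) (kh xh15 yh14 zh22) (kh xh15 yh14 zh27) (kh xh15 yh14 zh30) (kh xh12 yh21 zh24) (kh xh15 yh14 zh39) (kh xh15 yh14 zh40) (kh xh12 yh21 zh15) (kh xh12 yh21 zh16) (kh xh12 yh21 zh18) (kh xh14 yh6 zh46) (kh xh14 yh23 zh3) (kh xh15 yh14 zh44) (kh xh15 yh14 zh45) (kh xh12 yh21 zh23)) (@D3.rec (fun _ => Pt) (kh xh15 yh14 zh46) (kh xh12 yh21 zh25) (kh xh12 yh21 zh26) (kh xh12 yh21 zh37) (kh xh12 yh21 zh30) (kh xh12 yh21 zh39) (kh xh12 yh21 zh40) (kh xh12 yh21 zh33) (kh xh15 yh14 zh47) (kh xh15 yh14 zh49) (kh xh12 yh22 zh10) (kh xh15 yh15 zh2) (kh xh15 yh15 zh3) (kh xh15 yh15 zh5) (kh xh12 yh21 zh43) (kh xh12 yh21 zh44) (kh xh12 yh21 zh46) (kh xh14 yh7 zh17) (kh xh12 yh21 zh48) (kh xh14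 yh7 zh19) (kh xh14 yh7 zh20) (kh xh15 yh9 zh11) (kh xh15 yh15 zh12) (kh xh14 yh15 zh44) (kh xh15 yh15 zh14) (kh xh12 yh22 zh3) (kh xh15 yh9 zh6) (kh xh15 yh15 zh16) (kh xh15 yh15 zh17) (kh xh12 yh22 zh6) (kh xh12 yh22 zh7) (kh xh14 yh25 zh3) (kh xh15 yh15 zh21) (kh xh15 yh3 zh27) (kh xh14 yh24 zh11) (kh xh15 yh15 zh24) (kh xh12 yh22 zh11) (kh xh12 yh22 zh12) (kh xh15 yh15 zh27) (kh xh14 yh14 zh40) (kh xh15 yh15 zh29) (kh xh12 yh22 zh14) (kh xh12 yh23 zh4) (kh xh14 yh14 zh42) (kh xh15 yh15 zh33) (kh xh12 yh22 zh17) (kh xh13 yh0 zh1) (kh xh12 yh22 zh19) (kh xh12 yh23 zh6) (kh xh12 yh22 zh21) (kh xh15 yh15 zh38)) (@D3.rec (fun _ => Pt) (kh xh12 yh22 zh23) (kh xh12 yh23 zh8) (kh xh15 yh15 zh41) (kh xh12 yh22 zh26) (kh xh12 yh22 zh41) (kh xh12 yh23 zh9) (kh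 xh15 yh15 zh42) (kh xh12 yh22 zh30) (kh xh12 yh22 zh32) (kh xh12 yh23 zh10) (kh xh12 yh22 zh34) (kh xh13 yh1 zh40) (kh xh12 yh23 zh11) (kh xh12 yh23 zh12) (kh xh12 yh22 zh37) (kh xh13 yh1 zh41) (kh xh12 yh23 zh13) (kh xh12 yh22 zh44) (kh xh12 yh22 zh46) (kh xh15 yh15 zh18) (kh xh12 yh22 zh48) (kh xh15 yh15 zh49) (kh xh12 yh22 zh50) (kh xh15 yh15 zh25) (kh xh15 yh16 zh1) (kh xh12 yh23 zh2) (kh xh15 yh16 zh2) (kh xh15 yh15 zh31) (kh xh15 yh15 zh36) (kh xh15 yh15 zh37) (kh xh15 yh15 zh39) (kh xh15 yh15 zh40) (kh xh15 yh15 zh43) (kh xh15 yh15 zh44) (kh xh12 yh23 zh14) (kh xh12 yh23 zh17) (kh xh15 yh2 zh36) (kh xh15 yh16 zh9) (kh xh15 yh16 zh10) (kh xh12 yh23 zh28) (kh xh12 yh23 zh29) (kh xh15 yh16 zh12) (kh xh12 yh23 zh33) (kh xh12 yh23 zh46) (kh xh15 yh16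 zh14) (kh xh15 yh16 zh15) (kh xh12 yh23 zh37) (kh xh15 yh16 zh16) (kh xh12 yh23 zh39) (kh xh12 yh23 zh41) (kh xh12 yh23 zh43)) (@D3.rec (fun _ => Pt) (kh xh15 yh2 zh7) (kh xh15 yh16 zh20) (kh xh15 yh3 zh31) (kh xh15 yh16 zh23) (kh xh12 yh23 zh47) (kh xh15 yh1 zh48) (kh xh15 yh16 zh26) (kh xh15 yh3 zh25) (kh xh14 yh24 zh17) (kh xh15 yh16 zh30) (kh xh12 yh23 zh50) (kh xh12 yh24 zh5) (kh xh15 yh16 zh32) (kh xh12 yh24 zh1) (kh xh12 yh24 zh48) (kh xh14 yh18 zh30) (kh xh15 yh16 zh37) (kh xh12 yh24 zh4) (kh xh15 yh16 zh21) (kh xh15 yh16 zh39) (kh xh15 yh16 zh40) (kh xh12 yh24 zh7) (kh xh12 yh24 zh9) (kh xh15 yh14 zh24) (kh xh14 yh18 zh34) (kh xh15 yh16 zh45) (kh xh12 yh24 zh12) (kh xh15 yh16 zh46) (kh xh12 yh24 zh14) (kh xh15 yh16 zh48) (kh xh12 yh24 zh17) (kh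 xh15 yh16 zh49) (kh xh12 yh24 zh20) (kh xh12 yh24 zh22) (kh xh14 yh9 zh34) (kh xh14 yh9 zh35) (kh xh15 yh17 zh1) (kh xh15 yh17 zh2) (kh xh12 yh24 zh35) (kh xh15 yh10 zh23) (kh xh15 yh17 zh4) (kh xh15 yh17 zh5) (kh xh12 yh24 zh41) (kh xh15 yh17 zh6) (kh xh12 yh24 zh43) (kh xh12 yh24 zh44) (kh xh15 yh6 zh27) (kh xh15 yh17 zh9) (kh xh15 yh16 zh34) (kh xh15 yh17 zh11) (kh xh12 yh24 zh49)) (@D3.rec (fun _ => Pt) (kh xh15 yh6 zh18) (kh xh15 yh17 zh13) (kh xh15 yh17 zh14) (kh xh12 yh25 zh1) (kh xh12 yh25 zh2) (kh xh14 yh20 zh9) (kh xh15 yh17 zh17) (kh xh15 yh6 zh25) (kh xh15 yh17 zh19) (kh xh12 yh25 zh6) (kh xh12 yh25 zh7) (kh xh15 yh17 zh21) (kh xh12 yh25 zh8) (kh xh15 yh14 zh48) (kh xh15 yh17 zh24) (kh xh12 yh25 zh12) (kh xh12 yh25 zh14) (kh xh15 yh17 zh25)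 (kh xh15 yh17 zh26) (kh xh12 yh25 zh24) (kh xh15 yh12 zh42) (kh xh15 yh12 zh7) (kh xh15 yh17 zh31) (kh xh15 yh17 zh32) (kh xh15 yh17 zh34) (kh xh12 yh25 zh28) (kh xh12 yh25 zh29) (kh xh12 yh26 zh22) (kh xh15 yh17 zh39) (kh xh12 yh26 zh24) (kh xh15 yh17 zh41) (kh xh12 yh25 zh33) (kh xh12 yh26 zh27) (kh xh15 yh17 zh43) (kh xh15 yh4 zh18) (kh xh15 yh17 zh45) (kh xh12 yh25 zh36) (kh xh12 yh25 zh37) (kh xh12 yh26 zh36) (kh xh15 yh17 zh48) (kh xh15 yh4 zh11) (kh xh12 yh26 zh39) (kh xh15 yh18 zh2) (kh xh12 yh25 zh41) (kh xh15 yh18 zh4) (kh xh12 yh25 zh42) (kh xh15 yh18 zh7) (kh xh12 yh26 zh45) (kh xh15 yh18 zh10) (kh xh12 yh25 zh44) (kh xh12 yh26 zh49)) (@D3.rec (fun _ => Pt) (kh xh15 yh18 zh13) (kh xh12 yh25 zh47) (kh xh15 yh17 zh36) (kh xh15 yh18 zh16) (kh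 xh15 yh18 zh17) (kh xh12 yh26 zh0) (kh xh12 yh26 zh1) (kh xh12 yh26 zh4) (kh xh15 yh18 zh19) (kh xh12 yh26 zh6) (kh xh13 yh0 zh20) (kh xh15 yh18 zh22) (kh xh12 yh26 zh9) (kh xh14 yh11 zh13) (kh xh15 yh18 zh24) (kh xh12 yh26 zh12) (kh xh14 yh11 zh16) (kh xh15 yh18 zh26) (kh xh12 yh26 zh17) (kh xh14 yh11 zh19) (kh xh12 yh26 zh20) (kh xh15 yh17 zh37) (kh xh15 yh18 zh29) (kh xh12 yh26 zh23) (kh xh14 yh19 zh2) (kh xh15 yh18 zh31) (kh xh12 yh26 zh25) (kh xh15 yh11 zh16) (kh xh15 yh18 zh34) (kh xh12 yh26 zh28) (kh xh15 yh18 zh35) (kh xh15 yh18 zh36) (kh xh12 yh26 zh31) (kh xh13 yh0 zh39) (kh xh14 yh18 zh48) (kh xh15 yh18 zh40) (kh xh12 yh26 zh34) (kh xh15 yh15 zh19) (kh xh15 yh12 zh24) (kh xh15 yh18 zh44) (kh xh12 yh26 zh37) (kh xh15 yh4 zh12) (kh xh15 yh18 zh38)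 (kh xh15 yh12 zh18) (kh xh15 yh18 zh48) (kh xh12 yh26 zh40) (kh xh13 yh0 zh38) (kh xh15 yh18 zh50) (kh xh12 yh26 zh42) (kh xh15 yh19 zh2) (kh xh15 yh19 zh3)) (@D3.rec (fun _ => Pt) (kh xh12 yh26 zh44) (kh xh15 yh18 zh8) (kh xh15 yh19 zh6) (kh xh12 yh26 zh46) (kh xh15 yh19 zh4) (kh xh13 yh0 zh42) (kh xh15 yh19 zh11) (kh xh12 yh26 zh50) (kh xh15 yh15 zh34) (kh xh15 yh15 zh35) (kh xh15 yh11 zh15) (kh xh15 yh19 zh16) (kh xh13 yh0 zh3) (kh xh15 yh19 zh17) (kh xh13 yh0 zh5) (kh xh13 yh0 zh7) (kh xh13 yh2 zh45) (kh xh13 yh0 zh43) (kh xh15 yh19 zh22) (kh xh13 yh0 zh11) (kh xh15 yh19 zh23) (kh xh13 yh0 zh14) (kh xh15 yh19 zh24) (kh xh13 yh0 zh17) (kh xh13 yh2 zh50) (kh xh15 yh19 zh27) (kh xh13 yh0 zh21) (kh xh13 yh3 zh2) (kh xh13 yh3 zh3) (kh xh13 yh0 zh44) (kh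 xh13 yh0 zh25) (kh xh15 yh19 zh31) (kh xh13 yh0 zh29) (kh xh13 yh3 zh9) (kh xh13 yh3 zh10) (kh xh13 yh0 zh32) (kh xh13 yh3 zh11) (kh xh13 yh0 zh40) (kh xh15 yh19 zh10) (kh xh15 yh19 zh21) (kh xh13 yh0 zh46) (kh xh14 yh12 zh41) (kh xh15 yh19 zh37) (kh xh15 yh4 zh48) (kh xh15 yh19 zh39) (kh xh13 yh1 zh0) (kh xh13 yh1 zh1) (kh xh15 yh19 zh40) (kh xh15 yh7 zh17) (kh xh15 yh19 zh42) (kh xh13 yh1 zh5)) (@D3.rec (fun _ => Pt) (kh xh13 yh1 zh6) (kh xh15 yh19 zh45) (kh xh13 yh1 zh7) (kh xh15 yh17 zh35) (kh xh15 yh19 zh48) (kh xh14 yh20 zh20) (kh xh15 yh19 zh50) (kh xh15 yh20 zh0) (kh xh13 yh1 zh18) (kh xh15 yh4 zh28) (kh xh14 yh15 zh12) (kh xh13 yh1 zh42) (kh xh15 yh20 zh1) (kh xh13 yh1 zh44) (kh xh13 yh1 zh46) (kh xh14 yh16 zh6) (kh xh14 yh26 zh22) (kh xh14 yh13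 zh17) (kh xh14 yh13 zh18) (kh xh14 yh13 zh19) (kh xh13 yh2 zh11) (kh xh13 yh2 zh14) (kh xh13 yh2 zh23) (kh xh13 yh2 zh24) (kh xh13 yh2 zh25) (kh xh13 yh2 zh20) (kh xh13 yh2 zh21) (kh xh15 yh20 zh3) (kh xh15 yh20 zh4) (kh xh15 yh20 zh5) (kh xh13 yh2 zh28) (kh xh15 yh19 zh20) (kh xh13 yh2 zh30) (kh xh15 yh20 zh8) (kh xh15 yh20 zh9) (kh xh13 yh2 zh32) (kh xh13 yh2 zh33) (kh xh13 yh2 zh37) (kh xh13 yh2 zh35) (kh xh15 yh20 zh10) (kh xh15 yh19 zh33) (kh xh15 yh19 zh18) (kh xh13 yh2 zh43) (kh xh13 yh3 zh0) (kh xh13 yh3 zh7) (kh xh15 yh19 zh19) (kh xh13 yh2 zh46) (kh xh13 yh2 zh48) (kh xh15 yh19 zh25) (kh xh15 yh19 zh26) (kh xh15 yh19 zh28)) (@D3.rec (fun _ => Pt) (kh xh15 yh19 zh29) (kh xh15 yh19 zh30) (kh xh13 yh3 zh5) (kh xh15 yh19 zh32) (kh xh13 yh3 zh14)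 (kh xh13 yh3 zh16) (kh xh13 yh3 zh23) (kh xh15 yh20 zh24) (kh xh15 yh20 zh25) (kh xh13 yh3 zh33) (kh xh15 yh20 zh27) (kh xh13 yh3 zh37) (kh xh13 yh3 zh39) (kh xh14 yh14 zh13) (kh xh13 yh3 zh46) (kh xh13 yh3 zh48) (kh xh14 yh14 zh16) (kh xh14 yh14 zh17) (kh xh15 yh20 zh28) (kh xh13 yh4 zh4) (kh xh15 yh20 zh29) (kh xh13 yh4 zh6) (kh xh15 yh20 zh30) (kh xh13 yh4 zh8) (kh xh13 yh4 zh9) (kh xh15 yh20 zh31) (kh xh13 yh4 zh13) (kh xh13 yh4 zh17) (kh xh13 yh4 zh18) (kh xh15 yh20 zh34) (kh xh13 yh4 zh23) (kh xh13 yh4 zh27) (kh xh15 yh20 zh35) (kh xh15 yh20 zh36) (kh xh13 yh4 zh39) (kh xh15 yh20 zh40) (kh xh13 yh4 zh46) (kh xh15 yh20 zh42) (kh xh13 yh4 zh31) (kh xh13 yh4 zh34) (kh xh14 yh7 zh39) (kh xh15 yh20 zh46) (kh xh14 yh7 zh43) (kh xh15 yh20 zh49) (kh xh15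 yh20 zh38) (kh xh15 yh21 zh0) (kh xh13 yh4 zh40) (kh xh13 yh18 zh36) (kh xh15 yh21 zh2) (kh xh13 yh4 zh42) (kh xh13 yh13 zh44)) (@D3.rec (fun _ => Pt) (kh xh13 yh6 zh8) (kh xh15 yh21 zh6) (kh xh13 yh18 zh40) (kh xh15 yh21 zh8) (kh xh13 yh4 zh45) (kh xh15 yh21 zh9) (kh xh13 yh4 zh47) (kh xh15 yh21 zh11) (kh xh15 yh21 zh12) (kh xh13 yh5 zh0) (kh xh13 yh5 zh1) (kh xh13 yh5 zh8) (kh xh14 yh13 zh10) (kh xh13 yh5 zh6) (kh xh15 yh21 zh10) (kh xh15 yh21 zh13) (kh xh13 yh15 zh47) (kh xh13 yh5 zh12) (kh xh14 yh0 zh20) (kh xh15 yh21 zh17) (kh xh13 yh5 zh18) (kh xh13 yh5 zh19) (kh xh15 yh21 zh18) (kh xh15 yh21 zh19) (kh xh13 yh5 zh23) (kh xh15 yh21 zh20) (kh xh13 yh5 zh26) (kh xh13 yh5 zh29) (kh xh13 yh5 zh43) (kh xh15 yh21 zh22) (kh xh13 yh5 zh47) (kh xh15 yh21 zh24)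 (kh xh13 yh5 zh35) (kh xh13 yh5 zh36) (kh xh13 yh6 zh1) (kh xh15 yh21 zh26) (kh xh13 yh5 zh38) (kh xh15 yh21 zh28) (kh xh13 yh5 zh41) (kh xh14 yh15 zh39) (kh xh15 yh21 zh30) (kh xh13 yh5 zh44) (kh xh15 yh21 zh31) (kh xh13 yh5 zh46) (kh xh14 yh7 zh23) (kh xh15 yh21 zh34) (kh xh13 yh5 zh48) (kh xh15 yh21 zh4) (kh xh15 yh21 zh37) (kh xh13 yh6 zh2) (kh xh13 yh6 zh15)) (@D3.rec (fun _ => Pt) (kh xh15 yh21 zh40) (kh xh13 yh6 zh6) (kh xh15 yh21 zh41) (kh xh13 yh6 zh9) (kh xh13 yh6 zh18) (kh xh13 yh6 zh19) (kh xh14 yh13 zh15) (kh xh13 yh6 zh13) (kh xh15 yh21 zh38) (kh xh15 yh21 zh39) (kh xh15 yh21 zh42) (kh xh15 yh21 zh43) (kh xh13 yh8 zh28) (kh xh13 yh9 zh7) (kh xh14 yh1 zh47) (kh xh14 yh1 zh48) (kh xh15 yh22 zh4) (kh xh13 yh6 zh38) (kh xh13 yh9 zh12) (kh xh13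 yh6 zh40) (kh xh13 yh6 zh41) (kh xh15 yh22 zh11) (kh xh13 yh6 zh44) (kh xh15 yh22 zh14) (kh xh13 yh6 zh46) (kh xh15 yh22 zh16) (kh xh13 yh6 zh28) (kh xh15 yh22 zh17) (kh xh13 yh7 zh0) (kh xh15 yh22 zh20) (kh xh13 yh6 zh31) (kh xh13 yh6 zh32) (kh xh15 yh22 zh22) (kh xh13 yh6 zh34) (kh xh14 yh16 zh34) (kh xh14 yh16 zh35) (kh xh15 yh22 zh5) (kh xh15 yh22 zh27) (kh xh15 yh22 zh7) (kh xh15 yh22 zh30) (kh xh15 yh22 zh9) (kh xh15 yh22 zh33) (kh xh13 yh6 zh42) (kh xh14 yh2 zh8) (kh xh15 yh22 zh36) (kh xh15 yh22 zh38) (kh xh14 yh2 zh5) (kh xh15 yh22 zh41) (kh xh13 yh6 zh45) (kh xh15 yh22 zh43) (kh xh13 yh6 zh47)) (@D3.rec (fun _ => Pt) (kh xh14 yh1 zh50) (kh xh15 yh22 zh46) (kh xh13 yh6 zh50) (kh xh15 yh22 zh18) (kh xh15 yh22 zh49) (kh xh13 yh7 zh1) (kh xh13 yh7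 zh3) (kh xh15 yh23 zh1) (kh xh13 yh7 zh5) (kh xh13 yh7 zh29) (kh xh13 yh7 zh7) (kh xh13 yh7 zh17) (kh xh13 yh7 zh31) (kh xh14 yh17 zh13) (kh xh13 yh7 zh32) (kh xh13 yh7 zh18) (kh xh15 yh23 zh9) (kh xh13 yh7 zh14) (kh xh15 yh22 zh50) (kh xh15 yh23 zh4) (kh xh15 yh23 zh5) (kh xh15 yh23 zh8) (kh xh13 yh7 zh19) (kh xh15 yh23 zh16) (kh xh15 yh23 zh18) (kh xh13 yh7 zh22) (kh xh13 yh7 zh23) (kh xh15 yh23 zh21) (kh xh13 yh7 zh24) (kh xh15 yh22 zh42) (kh xh15 yh22 zh47) (kh xh15 yh23 zh0) (kh xh15 yh23 zh3) (kh xh13 yh7 zh34) (kh xh13 yh15 zh30) (kh xh13 yh7 zh49) (kh xh13 yh23 zh2) (kh xh13 yh8 zh1) (kh xh15 yh23 zh29) (kh xh15 yh23 zh30) (kh xh13 yh7 zh46) (kh xh13 yh20 zh12) (kh xh13 yh17 zh29) (kh xh13 yh21 zh2) (kh xh15 yh23 zh26) (kh xh15 yh23 zh37) (kh xh13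 yh20 zh44) (kh xh15 yh23 zh40) (kh xh13 yh21 zh32) (kh xh15 yh23 zh42) (kh xh13 yh8 zh2)) (@D3.rec (fun _ => Pt) (kh xh15 yh23 zh43) (kh xh13 yh8 zh4) (kh xh13 yh8 zh5) (kh xh15 yh23 zh45) (kh xh13 yh8 zh7) (kh xh14 yh18 zh5) (kh xh13 yh8 zh13) (kh xh13 yh8 zh11) (kh xh15 yh23 zh46) (kh xh14 yh0 zh22) (kh xh15 yh23 zh50) (kh xh13 yh8 zh30) (kh xh15 yh24 zh1) (kh xh13 yh8 zh32) (kh xh15 yh24 zh4) (kh xh13 yh8 zh34) (kh xh15 yh24 zh6) (kh xh13 yh8 zh20) (kh xh13 yh8 zh21) (kh xh13 yh8 zh22) (kh xh15 yh24 zh8) (kh xh13 yh8 zh24) (kh xh14 yh18 zh22) (kh xh14 yh18 zh23) (kh xh15 yh21 zh48) (kh xh15 yh24 zh12) (kh xh15 yh24 zh13) (kh xh13 yh8 zh31) (kh xh15 yh24 zh14) (kh xh13 yh8 zh33) (kh xh14 yh9 zh15) (kh xh15 yh24 zh18) (kh xh13 yh8 zh35) (kh xh13 yh9 zh5)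 (kh xh14 yh9 zh24) (kh xh15 yh24 zh21) (kh xh13 yh8 zh40) (kh xh13 yh8 zh50) (kh xh15 yh24 zh23) (kh xh13 yh8 zh44) (kh xh13 yh9 zh2) (kh xh15 yh24 zh25) (kh xh13 yh8 zh48) (kh xh15 yh24 zh22) (kh xh13 yh9 zh0) (kh xh15 yh24 zh24) (kh xh15 yh24 zh15) (kh xh14 yh2 zh31) (kh xh14 yh11 zh34) (kh xh15 yh24 zh35) (kh xh14 yh2 zh36)) (@D3.rec (fun _ => Pt) (kh xh14 yh2 zh7) (kh xh15 yh24 zh42) (kh xh14 yh11 zh24) (kh xh15 yh24 zh44) (kh xh13 yh9 zh10) (kh xh13 yh9 zh41) (kh xh15 yh24 zh47) (kh xh13 yh9 zh43) (kh xh13 yh9 zh44) (kh xh15 yh25 zh1) (kh xh13 yh9 zh46) (kh xh15 yh25 zh4) (kh xh13 yh9 zh15) (kh xh13 yh9 zh50) (kh xh15 yh25 zh7) (kh xh15 yh25 zh9) (kh xh13 yh10 zh2) (kh xh15 yh25 zh12) (kh xh13 yh9 zh18) (kh xh13 yh10 zh5) (kh xh15 yh25 zh16) (kh xh13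 yh9 zh20) (kh xh15 yh25 zh18) (kh xh13 yh9 zh23) (kh xh13 yh10 zh11) (kh xh15 yh25 zh21) (kh xh13 yh9 zh25) (kh xh13 yh9 zh27) (kh xh15 yh25 zh24) (kh xh13 yh9 zh29) (kh xh14 yh19 zh30) (kh xh13 yh10 zh22) (kh xh15 yh25 zh27) (kh xh13 yh9 zh32) (kh xh14 yh19 zh34) (kh xh14 yh19 zh35) (kh xh14 yh19 zh36) (kh xh15 yh25 zh30) (kh xh13 yh9 zh38) (kh xh14 yh19 zh39) (kh xh14 yh19 zh40) (kh xh15 yh24 zh45) (kh xh15 yh25 zh34) (kh xh13 yh9 zh42) (kh xh13 yh24 zh36) (kh xh15 yh24 zh48) (kh xh15 yh25 zh38) (kh xh15 yh25 zh39) (kh xh13 yh9 zh45) (kh xh15 yh25 zh2) (kh xh15 yh25 zh43)) (@D3.rec (fun _ => Pt) (kh xh13 yh9 zh47) (kh xh13 yh24 zh21) (kh xh15 yh25 zh47) (kh xh15 yh25 zh48) (kh xh13 yh24 zh18) (kh xh15 yh26 zh0) (kh xh13 yh10 zh0) (kh xh13 yh10 zh1) (kh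 xh15 yh26 zh3) (kh xh14 yh10 zh5) (kh xh15 yh26 zh6) (kh xh13 yh10 zh3) (kh xh13 yh11 zh9) (kh xh15 yh25 zh14) (kh xh15 yh26 zh10) (kh xh13 yh10 zh6) (kh xh15 yh21 zh35) (kh xh15 yh26 zh13) (kh xh13 yh10 zh9) (kh xh13 yh11 zh12) (kh xh14 yh13 zh5) (kh xh15 yh26 zh17) (kh xh13 yh10 zh12) (kh xh13 yh10 zh40) (kh xh13 yh10 zh14) (kh xh15 yh26 zh21) (kh xh13 yh10 zh16) (kh xh13 yh11 zh14) (kh xh13 yh26 zh23) (kh xh15 yh26 zh24) (kh xh13 yh10 zh19) (kh xh13 yh11 zh15) (kh xh15 yh26 zh26) (kh xh13 yh10 zh23) (kh xh13 yh10 zh43) (kh xh13 yh10 zh44) (kh xh13 yh10 zh47) (kh xh13 yh11 zh16) (kh xh15 yh26 zh31) (kh xh13 yh10 zh30) (kh xh13 yh11 zh17) (kh xh13 yh10 zh33) (kh xh13 yh10 zh46) (kh xh13 yh10 zh48) (kh xh15 yh26 zh34) (kh xh13 yh10 zh38) (kh xh15 yh26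 zh18) (kh xh15 yh26 zh19) (kh xh13 yh10 zh41) (kh xh15 yh26 zh27) (kh xh15 yh26 zh28)) (@D3.rec (fun _ => Pt) (kh xh15 yh26 zh29) (kh xh15 yh26 zh30) (kh xh15 yh26 zh33) (kh xh15 yh26 zh20) (kh xh15 yh26 zh45) (kh xh13 yh10 zh50) (kh xh15 yh25 zh40) (kh xh14 yh4 zh29) (kh xh15 yh26 zh49) (kh xh13 yh11 zh2) (kh xh13 yh11 zh3) (kh xh16 yh0 zh0) (kh xh13 yh11 zh4) (kh xh15 yh26 zh1) (kh xh16 yh0 zh3) (kh xh13 yh11 zh7) (kh xh16 yh0 zh4) (kh xh15 yh26 zh8) (kh xh13 yh11 zh10) (kh xh15 yh26 zh14) (kh xh15 yh26 zh15) (kh xh15 yh26 zh22) (kh xh15 yh26 zh25) (kh xh15 yh26 zh32) (kh xh13 yh11 zh18) (kh xh13 yh15 zh42) (kh xh13 yh11 zh21) (kh xh16 yh0 zh11) (kh xh13 yh11 zh37) (kh xh16 yh0 zh12) (kh xh16 yh0 zh13) (kh xh16 yh0 zh14) (kh xh13 yh11 zh42) (kh xh16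 yh0 zh15) (kh xh13 yh11 zh47) (kh xh13 yh11 zh48) (kh xh13 yh11 zh49) (kh xh16 yh0 zh17) (kh xh16 yh0 zh16) (kh xh13 yh12 zh2) (kh xh16 yh0 zh18) (kh xh13 yh12 zh4) (kh xh16 yh0 zh20) (kh xh13 yh12 zh6) (kh xh13 yh12 zh8) (kh xh13 yh12 zh9) (kh xh13 yh12 zh11) (kh xh13 yh12 zh18) (kh xh13 yh12 zh13) (kh xh13 yh12 zh16) (kh xh16 yh0 zh24)) (@D3.rec (fun _ => Pt) (kh xh16 yh0 zh25) (kh xh16 yh0 zh22) (kh xh16 yh0 zh23) (kh xh13 yh12 zh20) (kh xh13 yh12 zh21) (kh xh16 yh0 zh26) (kh xh13 yh12 zh23) (kh xh16 yh0 zh28) (kh xh16 yh0 zh29) (kh xh13 yh12 zh28) (kh xh16 yh0 zh30) (kh xh16 yh0 zh31) (kh xh13 yh12 zh31) (kh xh13 yh12 zh32) (kh xh13 yh12 zh34) (kh xh13 yh12 zh35) (kh xh13 yh12 zh36) (kh xh16 yh0 zh34) (kh xh13 yh12 zh38) (kh xh13 yh12 zh40) (kh xh13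 yh12 zh41) (kh xh13 yh12 zh50) (kh xh13 yh12 zh46) (kh xh13 yh12 zh44) (kh xh16 yh0 zh38) (kh xh16 yh0 zh35) (kh xh16 yh0 zh37) (kh xh13 yh13 zh0) (kh xh13 yh13 zh1) (kh xh13 yh13 zh2) (kh xh13 yh13 zh3) (kh xh13 yh13 zh5) (kh xh13 yh13 zh6) (kh xh14 yh22 zh33) (kh xh13 yh13 zh8) (kh xh14 yh22 zh35) (kh xh13 yh13 zh10) (kh xh13 yh13 zh13) (kh xh13 yh13 zh28) (kh xh13 yh13 zh25) (kh xh13 yh13 zh16) (kh xh13 yh13 zh17) (kh xh13 yh13 zh30) (kh xh13 yh13 zh19) (kh xh14 yh22 zh44) (kh xh13 yh13 zh31) (kh xh13 yh13 zh22) (kh xh13 yh13 zh26) (kh xh13 yh13 zh27) (kh xh16 yh1 zh0) (kh xh16 yh1 zh4)) (@D3.rec (fun _ => Pt) (kh xh13 yh13 zh34) (kh xh13 yh16 zh30) (kh xh13 yh16 zh0) (kh xh14 yh6 zh47) (kh xh16 yh1 zh8) (kh xh16 yh1 zh9) (kh xh13 yh13 zh46) (kh xh13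 yh14 zh9) (kh xh13 yh16 zh14) (kh xh13 yh14 zh11) (kh xh13 yh14 zh12) (kh xh16 yh1 zh16) (kh xh16 yh1 zh17) (kh xh16 yh1 zh18) (kh xh13 yh14 zh16) (kh xh16 yh1 zh20) (kh xh13 yh14 zh4) (kh xh13 yh14 zh5) (kh xh13 yh14 zh6) (kh xh13 yh15 zh50) (kh xh13 yh16 zh31) (kh xh16 yh1 zh10) (kh xh16 yh1 zh26) (kh xh16 yh1 zh12) (kh xh16 yh1 zh28) (kh xh16 yh1 zh14) (kh xh16 yh1 zh30) (kh xh13 yh14 zh13) (kh xh13 yh14 zh14) (kh xh13 yh14 zh15) (kh xh16 yh1 zh32) (kh xh13 yh14 zh17) (kh xh13 yh14 zh19) (kh xh13 yh14 zh29) (kh xh13 yh14 zh24) (kh xh13 yh14 zh22) (kh xh16 yh1 zh33) (kh xh13 yh14 zh26) (kh xh16 yh1 zh31) (kh xh13 yh20 zh14) (kh xh13 yh20 zh15) (kh xh16 yh1 zh40) (kh xh13 yh15 zh0) (kh xh16 yh1 zh42) (kh xh13 yh15 zh2) (kh xh13 yh15 zh3) (kh xh16 yh1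 zh47) (kh xh13 yh15 zh5) (kh xh16 yh1 zh50) (kh xh13 yh14 zh36) (kh xh13 yh14 zh37)) (@D3.rec (fun _ => Pt) (kh xh16 yh2 zh0) (kh xh13 yh14 zh39) (kh xh13 yh15 zh11) (kh xh16 yh2 zh3) (kh xh13 yh14 zh41) (kh xh13 yh14 zh43) (kh xh13 yh14 zh44) (kh xh14 yh24 zh7) (kh xh16 yh2 zh7) (kh xh13 yh14 zh47) (kh xh14 yh24 zh10) (kh xh14 yh7 zh34) (kh xh16 yh2 zh11) (kh xh16 yh2 zh12) (kh xh13 yh15 zh1) (kh xh16 yh1 zh43) (kh xh16 yh2 zh14) (kh xh14 yh9 zh8) (kh xh16 yh2 zh16) (kh xh13 yh15 zh4) (kh xh16 yh1 zh48) (kh xh16 yh2 zh19) (kh xh13 yh15 zh6) (kh xh13 yh15 zh9) (kh xh13 yh15 zh38) (kh xh16 yh2 zh23) (kh xh13 yh15 zh12) (kh xh13 yh15 zh26) (kh xh13 yh15 zh14) (kh xh13 yh15 zh15) (kh xh13 yh15 zh39) (kh xh16 yh2 zh26) (kh xh13 yh15 zh18) (kh xh13 yh15 zh40)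 (kh xh13 yh15 zh21) (kh xh13 yh15 zh28) (kh xh13 yh15 zh29) (kh xh13 yh15 zh24) (kh xh16 yh2 zh24) (kh xh16 yh2 zh25) (kh xh16 yh2 zh27) (kh xh13 yh15 zh32) (kh xh16 yh2 zh32) (kh xh13 yh15 zh34) (kh xh16 yh2 zh17) (kh xh16 yh2 zh21) (kh xh16 yh2 zh22) (kh xh13 yh15 zh41) (kh xh13 yh16 zh2) (kh xh16 yh2 zh37) (kh xh13 yh15 zh48)) (@D3.rec (fun _ => Pt) (kh xh16 yh1 zh23) (kh xh16 yh2 zh39) (kh xh13 yh16 zh42) (kh xh14 yh7 zh31) (kh xh16 yh2 zh44) (kh xh16 yh2 zh45) (kh xh13 yh16 zh3) (kh xh13 yh16 zh4) (kh xh16 yh2 zh46) (kh xh13 yh16 zh6) (kh xh13 yh16 zh8) (kh xh14 yh25 zh11) (kh xh13 yh21 zh40) (kh xh13 yh21 zh28) (kh xh13 yh21 zh42) (kh xh13 yh21 zh43) (kh xh16 yh3 zh3) (kh xh13 yh16 zh32) (kh xh13 yh16 zh33) (kh xh16 yh3 zh7) (kh xh13 yh16 zh35) (kh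 xh13 yh16 zh36) (kh xh16 yh3 zh13) (kh xh13 yh16 zh38) (kh xh16 yh3 zh15) (kh xh13 yh16 zh17) (kh xh16 yh3 zh16) (kh xh13 yh16 zh19) (kh xh16 yh3 zh17) (kh xh13 yh16 zh47) (kh xh16 yh3 zh19) (kh xh13 yh16 zh22) (kh xh16 yh3 zh21) (kh xh13 yh16 zh24) (kh xh13 yh16 zh26) (kh xh13 yh16 zh27) (kh xh14 yh25 zh36) (kh xh14 yh25 zh37) (kh xh16 yh1 zh5) (kh xh16 yh3 zh27) (kh xh16 yh3 zh4) (kh xh16 yh3 zh29) (kh xh16 yh2 zh40) (kh xh16 yh3 zh32) (kh xh13 yh16 zh34) (kh xh13 yh18 zh27) (kh xh16 yh3 zh8) (kh xh16 yh3 zh35) (kh xh16 yh3 zh11) (kh xh16 yh3 zh37) (kh xh13 yh16 zh37)) (@D3.rec (fun _ => Pt) (kh xh16 yh3 zh39) (kh xh13 yh16 zh39) (kh xh13 yh16 zh41) (kh xh16 yh3 zh41) (kh xh13 yh16 zh43) (kh xh16 yh3 zh42) (kh xh13 yh16 zh46) (kh xh16 yh3 zh44) (kh xh13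 yh16 zh48) (kh xh13 yh17 zh24) (kh xh13 yh16 zh50) (kh xh13 yh17 zh11) (kh xh13 yh17 zh1) (kh xh13 yh17 zh2) (kh xh13 yh17 zh26) (kh xh14 yh26 zh15) (kh xh13 yh17 zh27) (kh xh13 yh17 zh12) (kh xh16 yh4 zh2) (kh xh13 yh17 zh8) (kh xh16 yh3 zh47) (kh xh16 yh3 zh48) (kh xh14 yh13 zh16) (kh xh13 yh17 zh14) (kh xh13 yh17 zh15) (kh xh13 yh17 zh17) (kh xh16 yh3 zh38) (kh xh13 yh17 zh22) (kh xh16 yh3 zh43) (kh xh16 yh3 zh46) (kh xh16 yh3 zh49) (kh xh16 yh3 zh50) (kh xh13 yh23 zh3) (kh xh13 yh23 zh4) (kh xh16 yh4 zh14) (kh xh13 yh23 zh6) (kh xh13 yh23 zh7) (kh xh16 yh4 zh20) (kh xh13 yh23 zh9) (kh xh16 yh4 zh22) (kh xh13 yh17 zh32) (kh xh13 yh18 zh10) (kh xh16 yh4 zh24) (kh xh13 yh18 zh12) (kh xh16 yh4 zh27) (kh xh13 yh18 zh14) (kh xh16 yh4 zh29) (kh xh13 yh17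 zh37) (kh xh13 yh18 zh18) (kh xh16 yh4 zh32) (kh xh16 yh4 zh33))
def f_h_15 : D2 → D3 → Pt := @D2.rec (fun _ => D3 → Pt) (@D3.rec (fun _ => Pt) (kh xh13 yh18 zh21) (kh xh16 yh4 zh36) (kh xh13 yh17 zh40) (kh xh13 yh18 zh24) (kh xh16 yh4 zh39) (kh xh13 yh17 zh42) (kh xh13 yh17 zh44) (kh xh16 yh4 zh42) (kh xh13 yh17 zh46) (kh xh13 yh17 zh48) (kh xh16 yh4 zh45) (kh xh13 yh17 zh50) (kh xh15 yh0 zh12) (kh xh16 yh4 zh48) (kh xh13 yh18 zh2) (kh xh15 yh0 zh15) (kh xh15 yh0 zh16) (kh xh14 yh6 zh8) (kh xh15 yh0 zh18) (kh xh13 yh18 zh7) (kh xh15 yh0 zh20) (kh xh15 yh0 zh21) (kh xh15 yh21 zh32) (kh xh16 yh5 zh3) (kh xh13 yh18 zh11) (kh xh16 yh5 zh5) (kh xh16 yh3 zh30) (kh xh16 yh5 zh8) (kh xh13 yh18 zh13) (kh xh16 yh5 zh10) (kh xh13 yh18 zh15) (kh xh14 yh6 zh20) (kh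 xh16 yh5 zh14) (kh xh16 yh5 zh16) (kh xh14 yh5 zh48) (kh xh16 yh5 zh19) (kh xh13 yh18 zh19) (kh xh16 yh5 zh21) (kh xh13 yh18 zh20) (kh xh16 yh5 zh24) (kh xh15 yh20 zh44) (kh xh16 yh5 zh26) (kh xh13 yh18 zh22) (kh xh13 yh19 zh25) (kh xh15 yh20 zh47) (kh xh16 yh5 zh30) (kh xh13 yh18 zh25) (kh xh13 yh24 zh34) (kh xh16 yh5 zh33) (kh xh13 yh18 zh28) (kh xh13 yh19 zh27)) (@D3.rec (fun _ => Pt) (kh xh13 yh18 zh30) (kh xh13 yh19 zh5) (kh xh13 yh18 zh32) (kh xh16 yh5 zh36) (kh xh13 yh18 zh34) (kh xh13 yh19 zh29) (kh xh16 yh5 zh39) (kh xh13 yh18 zh37) (kh xh15 yh1 zh8) (kh xh13 yh19 zh30) (kh xh16 yh5 zh44) (kh xh13 yh18 zh41) (kh xh13 yh19 zh8) (kh xh13 yh19 zh9) (kh xh15 yh1 zh14) (kh xh13 yh19 zh11) (kh xh13 yh18 zh47) (kh xh15 yh1 zh17) (kh xh15 yh1 zh18) (kh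 xh15 yh1 zh19) (kh xh13 yh19 zh12) (kh xh13 yh19 zh0) (kh xh13 yh19 zh10) (kh xh16 yh5 zh35) (kh xh16 yh5 zh45) (kh xh16 yh5 zh46) (kh xh16 yh5 zh47) (kh xh16 yh5 zh48) (kh xh16 yh5 zh38) (kh xh13 yh19 zh13) (kh xh16 yh6 zh6) (kh xh13 yh19 zh14) (kh xh16 yh5 zh9) (kh xh15 yh23 zh31) (kh xh16 yh6 zh10) (kh xh13 yh19 zh18) (kh xh13 yh19 zh19) (kh xh16 yh6 zh12) (kh xh13 yh19 zh20) (kh xh16 yh5 zh20) (kh xh16 yh6 zh15) (kh xh13 yh19 zh23) (kh xh16 yh6 zh16) (kh xh16 yh5 zh28) (kh xh13 yh26 zh1) (kh xh16 yh5 zh43) (kh xh13 yh19 zh31) (kh xh13 yh19 zh34) (kh xh14 yh9 zh5) (kh xh16 yh6 zh21) (kh xh14 yh1 zh9)) (@D3.rec (fun _ => Pt) (kh xh16 yh6 zh23) (kh xh16 yh6 zh24) (kh xh13 yh19 zh42) (kh xh16 yh6 zh25) (kh xh13 yh19 zh44) (kh xh13 yh19 zh45) (kh xh15 yh2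 zh6) (kh xh14 yh9 zh0) (kh xh16 yh6 zh28) (kh xh16 yh6 zh29) (kh xh13 yh20 zh0) (kh xh16 yh6 zh30) (kh xh13 yh20 zh2) (kh xh13 yh20 zh4) (kh xh13 yh20 zh6) (kh xh13 yh20 zh11) (kh xh16 yh6 zh32) (kh xh16 yh6 zh33) (kh xh15 yh23 zh32) (kh xh16 yh6 zh37) (kh xh16 yh1 zh36) (kh xh16 yh6 zh39) (kh xh16 yh1 zh38) (kh xh16 yh6 zh41) (kh xh13 yh20 zh16) (kh xh13 yh20 zh31) (kh xh16 yh6 zh44) (kh xh13 yh20 zh35) (kh xh16 yh6 zh46) (kh xh13 yh20 zh20) (kh xh16 yh6 zh47) (kh xh13 yh20 zh22) (kh xh16 yh6 zh49) (kh xh13 yh20 zh25) (kh xh13 yh20 zh27) (kh xh15 yh2 zh35) (kh xh14 yh8 zh36) (kh xh16 yh7 zh2) (kh xh16 yh6 zh42) (kh xh16 yh7 zh4) (kh xh13 yh20 zh32) (kh xh16 yh7 zh5) (kh xh13 yh20 zh34) (kh xh16 yh7 zh6) (kh xh13 yh20 zh36) (kh xh16 yh7 zh8) (kh xh13 yh20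 zh39) (kh xh16 yh7 zh9) (kh xh16 yh7 zh10) (kh xh13 yh20 zh42) (kh xh15 yh23 zh34)) (@D3.rec (fun _ => Pt) (kh xh16 yh7 zh13) (kh xh13 yh20 zh45) (kh xh16 yh2 zh20) (kh xh13 yh20 zh48) (kh xh13 yh21 zh12) (kh xh13 yh21 zh0) (kh xh16 yh7 zh17) (kh xh13 yh21 zh3) (kh xh13 yh21 zh15) (kh xh13 yh21 zh16) (kh xh13 yh21 zh6) (kh xh13 yh21 zh18) (kh xh13 yh21 zh10) (kh xh16 yh7 zh16) (kh xh13 yh21 zh13) (kh xh16 yh7 zh18) (kh xh16 yh7 zh19) (kh xh16 yh7 zh20) (kh xh16 yh7 zh21) (kh xh13 yh21 zh20) (kh xh13 yh21 zh30) (kh xh16 yh7 zh28) (kh xh16 yh7 zh29) (kh xh13 yh21 zh24) (kh xh13 yh21 zh25) (kh xh14 yh9 zh7) (kh xh16 yh7 zh31) (kh xh14 yh7 zh33) (kh xh16 yh7 zh33) (kh xh16 yh7 zh34) (kh xh13 yh21 zh31) (kh xh14 yh9 zh2) (kh xh16 yh7 zh36) (kh xh13 yh21 zh33)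 (kh xh13 yh21 zh34) (kh xh13 yh21 zh36) (kh xh15 yh3 zh36) (kh xh16 yh2 zh48) (kh xh16 yh7 zh42) (kh xh16 yh2 zh50) (kh xh16 yh7 zh45) (kh xh16 yh3 zh1) (kh xh16 yh7 zh47) (kh xh13 yh21 zh44) (kh xh13 yh22 zh8) (kh xh16 yh7 zh50) (kh xh13 yh22 zh12) (kh xh16 yh8 zh2) (kh xh13 yh21 zh48) (kh xh16 yh8 zh3) (kh xh13 yh21 zh50)) (@D3.rec (fun _ => Pt) (kh xh13 yh22 zh26) (kh xh16 yh8 zh6) (kh xh13 yh22 zh2) (kh xh13 yh22 zh4) (kh xh15 yh4 zh4) (kh xh15 yh4 zh5) (kh xh13 yh24 zh20) (kh xh16 yh8 zh12) (kh xh16 yh7 zh48) (kh xh16 yh8 zh14) (kh xh13 yh22 zh9) (kh xh14 yh10 zh40) (kh xh14 yh11 zh41) (kh xh16 yh8 zh19) (kh xh13 yh22 zh11) (kh xh16 yh8 zh0) (kh xh16 yh8 zh21) (kh xh13 yh22 zh13) (kh xh14 yh10 zh34) (kh xh16 yh8 zh25) (kh xh13 yh22 zh16) (kh xh16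 yh8 zh26) (kh xh13 yh22 zh17) (kh xh16 yh8 zh29) (kh xh16 yh8 zh30) (kh xh13 yh22 zh19) (kh xh13 yh22 zh21) (kh xh16 yh3 zh40) (kh xh14 yh13 zh9) (kh xh16 yh8 zh35) (kh xh13 yh22 zh24) (kh xh16 yh8 zh37) (kh xh13 yh22 zh27) (kh xh13 yh22 zh38) (kh xh13 yh22 zh30) (kh xh15 yh4 zh35) (kh xh13 yh22 zh39) (kh xh13 yh22 zh40) (kh xh15 yh4 zh38) (kh xh13 yh22 zh36) (kh xh16 yh8 zh38) (kh xh16 yh8 zh39) (kh xh16 yh8 zh42) (kh xh16 yh8 zh43) (kh xh13 yh25 zh39) (kh xh16 yh8 zh48) (kh xh13 yh24 zh2) (kh xh13 yh26 zh28) (kh xh14 yh12 zh43) (kh xh16 yh9 zh0) (kh xh16 yh9 zh1)) (@D3.rec (fun _ => Pt) (kh xh13 yh23 zh0) (kh xh14 yh4 zh9) (kh xh16 yh9 zh3) (kh xh15 yh24 zh36) (kh xh16 yh4 zh10) (kh xh16 yh9 zh8) (kh xh16 yh4 zh12) (kh xh16 yh9 zh11) (kh xh13 yh23 zh5)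 (kh xh15 yh24 zh30) (kh xh16 yh4 zh15) (kh xh16 yh9 zh17) (kh xh16 yh9 zh19) (kh xh16 yh4 zh18) (kh xh16 yh9 zh23) (kh xh13 yh23 zh8) (kh xh14 yh3 zh36) (kh xh16 yh9 zh26) (kh xh13 yh23 zh10) (kh xh13 yh24 zh3) (kh xh16 yh9 zh29) (kh xh13 yh24 zh5) (kh xh16 yh9 zh32) (kh xh13 yh23 zh14) (kh xh13 yh24 zh9) (kh xh16 yh9 zh34) (kh xh13 yh24 zh12) (kh xh16 yh9 zh37) (kh xh13 yh23 zh17) (kh xh13 yh24 zh15) (kh xh16 yh9 zh40) (kh xh13 yh23 zh19) (kh xh15 yh26 zh4) (kh xh16 yh9 zh43) (kh xh13 yh23 zh22) (kh xh16 yh9 zh44) (kh xh13 yh23 zh23) (kh xh16 yh9 zh47) (kh xh13 yh24 zh27) (kh xh16 yh9 zh49) (kh xh13 yh23 zh25) (kh xh13 yh24 zh31) (kh xh16 yh10 zh1) (kh xh13 yh23 zh28) (kh xh16 yh9 zh27) (kh xh13 yh23 zh30) (kh xh13 yh24 zh39) (kh xh16 yh10 zh5) (kh xh13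 yh23 zh32) (kh xh13 yh24 zh43) (kh xh16 yh10 zh8)) (@D3.rec (fun _ => Pt) (kh xh13 yh23 zh35) (kh xh15 yh6 zh1) (kh xh13 yh25 zh1) (kh xh16 yh10 zh12) (kh xh13 yh23 zh39) (kh xh14 yh1 zh30) (kh xh16 yh10 zh14) (kh xh13 yh23 zh42) (kh xh15 yh6 zh8) (kh xh15 yh6 zh9) (kh xh16 yh10 zh19) (kh xh13 yh23 zh46) (kh xh13 yh23 zh49) (kh xh15 yh6 zh13) (kh xh15 yh6 zh14) (kh xh15 yh6 zh15) (kh xh15 yh25 zh8) (kh xh16 yh10 zh23) (kh xh14 yh10 zh0) (kh xh15 yh25 zh5) (kh xh16 yh10 zh27) (kh xh13 yh24 zh4) (kh xh16 yh9 zh30) (kh xh16 yh10 zh30) (kh xh13 yh24 zh6) (kh xh14 yh10 zh7) (kh xh16 yh10 zh33) (kh xh14 yh9 zh46) (kh xh15 yh25 zh35) (kh xh16 yh10 zh37) (kh xh13 yh24 zh10) (kh xh16 yh10 zh40) (kh xh13 yh24 zh11) (kh xh16 yh10 zh43) (kh xh16 yh9 zh35) (kh xh16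 yh10 zh46) (kh xh13 yh24 zh13) (kh xh13 yh25 zh43) (kh xh16 yh9 zh38) (kh xh16 yh10 zh50) (kh xh13 yh24 zh16) (kh xh16 yh5 zh11) (kh xh16 yh11 zh2) (kh xh13 yh24 zh19) (kh xh16 yh8 zh10) (kh xh16 yh11 zh5) (kh xh14 yh3 zh47) (kh xh16 yh11 zh7) (kh xh13 yh24 zh22) (kh xh13 yh25 zh47) (kh xh16 yh11 zh11)) (@D3.rec (fun _ => Pt) (kh xh13 yh24 zh24) (kh xh16 yh11 zh14) (kh xh16 yh11 zh15) (kh xh13 yh24 zh26) (kh xh16 yh9 zh14) (kh xh16 yh11 zh18) (kh xh13 yh24 zh28) (kh xh16 yh11 zh16) (kh xh13 yh26 zh0) (kh xh16 yh11 zh23) (kh xh13 yh24 zh32) (kh xh16 yh5 zh31) (kh xh16 yh5 zh32) (kh xh13 yh24 zh35) (kh xh16 yh11 zh28) (kh xh13 yh24 zh37) (kh xh13 yh26 zh3) (kh xh14 yh12 zh48) (kh xh16 yh11 zh31) (kh xh13 yh24 zh40) (kh xh15 yh7 zh20) (kh xh13 yh26 zh4) (kh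 xh16 yh11 zh35) (kh xh13 yh24 zh44) (kh xh13 yh25 zh25) (kh xh13 yh25 zh26) (kh xh13 yh26 zh17) (kh xh16 yh11 zh41) (kh xh13 yh24 zh49) (kh xh15 yh7 zh29) (kh xh16 yh11 zh43) (kh xh13 yh25 zh2) (kh xh15 yh7 zh32) (kh xh15 yh7 zh33) (kh xh15 yh7 zh34) (kh xh13 yh26 zh5) (kh xh13 yh25 zh6) (kh xh13 yh25 zh28) (kh xh13 yh25 zh29) (kh xh13 yh25 zh30) (kh xh13 yh25 zh31) (kh xh16 yh12 zh3) (kh xh13 yh25 zh11) (kh xh13 yh25 zh14) (kh xh15 yh7 zh44) (kh xh15 yh7 zh45) (kh xh13 yh25 zh32) (kh xh13 yh25 zh33) (kh xh13 yh25 zh34) (kh xh13 yh25 zh23) (kh xh16 yh11 zh36)) (@D3.rec (fun _ => Pt) (kh xh16 yh11 zh37) (kh xh16 yh11 zh38) (kh xh16 yh11 zh39) (kh xh16 yh11 zh48) (kh xh16 yh11 zh49) (kh xh16 yh11 zh50) (kh xh16 yh12 zh0) (kh xh16 yh12 zh1) (kh xh16 yh12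 zh2) (kh xh16 yh12 zh6) (kh xh16 yh10 zh38) (kh xh16 yh10 zh28) (kh xh16 yh12 zh19) (kh xh13 yh25 zh42) (kh xh16 yh10 zh48) (kh xh13 yh25 zh46) (kh xh16 yh11 zh9) (kh xh13 yh25 zh48) (kh xh13 yh25 zh50) (kh xh16 yh12 zh21) (kh xh16 yh12 zh22) (kh xh16 yh11 zh22) (kh xh13 yh26 zh8) (kh xh16 yh12 zh26) (kh xh13 yh26 zh12) (kh xh16 yh12 zh28) (kh xh16 yh12 zh29) (kh xh13 yh26 zh16) (kh xh16 yh12 zh31) (kh xh13 yh26 zh18) (kh xh16 yh9 zh24) (kh xh16 yh12 zh33) (kh xh16 yh12 zh34) (kh xh13 yh26 zh26) (kh xh16 yh12 zh20) (kh xh13 yh26 zh33) (kh xh13 yh26 zh34) (kh xh16 yh12 zh37) (kh xh15 yh24 zh50) (kh xh13 yh26 zh41) (kh xh13 yh26 zh43) (kh xh15 yh8 zh41) (kh xh16 yh12 zh41) (kh xh13 yh26 zh47) (kh xh13 yh26 zh50) (kh xh16 yh12 zh43) (kh xh14 yh0 zh3) (kh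 xh16 yh12 zh44) (kh xh14 yh0 zh6) (kh xh14 yh0 zh8) (kh xh14 yh0 zh10)) (@D3.rec (fun _ => Pt) (kh xh14 yh0 zh12) (kh xh16 yh12 zh47) (kh xh14 yh0 zh15) (kh xh16 yh12 zh48) (kh xh14 yh0 zh17) (kh xh14 yh0 zh18) (kh xh14 yh7 zh26) (kh xh16 yh13 zh0) (kh xh14 yh0 zh21) (kh xh15 yh23 zh48) (kh xh16 yh13 zh2) (kh xh14 yh7 zh21) (kh xh16 yh13 zh4) (kh xh14 yh0 zh24) (kh xh16 yh13 zh6) (kh xh14 yh0 zh27) (kh xh14 yh4 zh12) (kh xh14 yh0 zh29) (kh xh16 yh13 zh9) (kh xh14 yh0 zh32) (kh xh16 yh13 zh11) (kh xh14 yh0 zh35) (kh xh15 yh9 zh22) (kh xh14 yh0 zh38) (kh xh15 yh9 zh24) (kh xh14 yh0 zh41) (kh xh15 yh9 zh26) (kh xh14 yh0 zh44) (kh xh14 yh0 zh46) (kh xh14 yh2 zh0) (kh xh16 yh13 zh15) (kh xh16 yh13 zh16) (kh xh14 yh1 zh0) (kh xh16 yh13 zh17) (kh xh14 yh1 zh2)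 (kh xh14 yh1 zh3) (kh xh14 yh1 zh6) (kh xh14 yh4 zh5) (kh xh16 yh13 zh21) (kh xh16 yh13 zh22) (kh xh14 yh1 zh10) (kh xh14 yh1 zh11) (kh xh14 yh1 zh24) (kh xh16 yh12 zh42) (kh xh16 yh13 zh27) (kh xh14 yh1 zh15) (kh xh14 yh1 zh27) (kh xh14 yh1 zh17) (kh xh14 yh1 zh29) (kh xh14 yh1 zh22) (kh xh16 yh13 zh23)) (@D3.rec (fun _ => Pt) (kh xh16 yh13 zh25) (kh xh14 yh1 zh25) (kh xh16 yh13 zh28) (kh xh16 yh10 zh6) (kh xh16 yh10 zh13) (kh xh16 yh13 zh32) (kh xh14 yh1 zh35) (kh xh14 yh1 zh36) (kh xh15 yh24 zh39) (kh xh16 yh13 zh35) (kh xh14 yh1 zh40) (kh xh14 yh1 zh41) (kh xh14 yh1 zh43) (kh xh15 yh10 zh13) (kh xh15 yh21 zh50) (kh xh15 yh22 zh0) (kh xh16 yh13 zh42) (kh xh15 yh22 zh2) (kh xh16 yh13 zh44) (kh xh14 yh1 zh49) (kh xh15 yh22 zh28) (kh xh16 yh13 zh46) (kh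 xh15 yh24 zh31) (kh xh14 yh9 zh39) (kh xh16 yh13 zh50) (kh xh14 yh2 zh1) (kh xh16 yh14 zh1) (kh xh14 yh2 zh3) (kh xh15 yh24 zh37) (kh xh16 yh14 zh4) (kh xh14 yh2 zh6) (kh xh15 yh24 zh40) (kh xh16 yh14 zh7) (kh xh16 yh14 zh8) (kh xh14 yh2 zh9) (kh xh14 yh2 zh41) (kh xh14 yh2 zh11) (kh xh16 yh12 zh45) (kh xh14 yh2 zh13) (kh xh16 yh14 zh14) (kh xh14 yh2 zh15) (kh xh14 yh2 zh44) (kh xh14 yh2 zh17) (kh xh14 yh2 zh46) (kh xh14 yh2 zh20) (kh xh15 yh10 zh45) (kh xh14 yh2 zh47) (kh xh14 yh2 zh48) (kh xh16 yh14 zh20) (kh xh14 yh2 zh28) (kh xh14 yh2 zh30)) (@D3.rec (fun _ => Pt) (kh xh16 yh14 zh23) (kh xh14 yh2 zh32) (kh xh16 yh14 zh0) (kh xh14 yh2 zh35) (kh xh16 yh14 zh26) (kh xh14 yh2 zh37) (kh xh16 yh14 zh5) (kh xh14 yh2 zh39) (kh xh16 yh14 zh29) (kh xh16 yh14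 zh10) (kh xh14 yh2 zh42) (kh xh16 yh14 zh13) (kh xh16 yh14 zh16) (kh xh16 yh14 zh17) (kh xh16 yh14 zh19) (kh xh14 yh12 zh10) (kh xh14 yh11 zh27) (kh xh16 yh14 zh37) (kh xh15 yh24 zh2) (kh xh16 yh14 zh39) (kh xh14 yh3 zh0) (kh xh14 yh3 zh1) (kh xh14 yh3 zh34) (kh xh16 yh14 zh44) (kh xh16 yh14 zh45) (kh xh14 yh3 zh5) (kh xh14 yh3 zh39) (kh xh16 yh14 zh48) (kh xh16 yh14 zh49) (kh xh16 yh15 zh0) (kh xh14 yh3 zh8) (kh xh14 yh3 zh9) (kh xh16 yh10 zh25) (kh xh14 yh3 zh50) (kh xh16 yh15 zh5) (kh xh14 yh3 zh12) (kh xh16 yh8 zh23) (kh xh14 yh3 zh13) (kh xh16 yh15 zh9) (kh xh16 yh15 zh10) (kh xh14 yh3 zh15) (kh xh15 yh11 zh41) (kh xh16 yh15 zh13) (kh xh14 yh3 zh18) (kh xh16 yh14 zh41) (kh xh14 yh3 zh20) (kh xh15 yh11 zh46) (kh xh16 yh15 zh17) (kh xh14 yh3 zh23) (kh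 xh15 yh11 zh49) (kh xh14 yh3 zh25)) (@D3.rec (fun _ => Pt) (kh xh14 yh3 zh28) (kh xh14 yh3 zh32) (kh xh16 yh9 zh21) (kh xh16 yh15 zh19) (kh xh14 yh3 zh35) (kh xh16 yh15 zh21) (kh xh14 yh3 zh37) (kh xh14 yh10 zh21) (kh xh16 yh15 zh24) (kh xh14 yh3 zh40) (kh xh16 yh15 zh26) (kh xh14 yh3 zh41) (kh xh16 yh15 zh29) (kh xh16 yh15 zh30) (kh xh14 yh3 zh43) (kh xh14 yh4 zh50) (kh xh14 yh3 zh45) (kh xh16 yh12 zh49) (kh xh14 yh11 zh43) (kh xh16 yh15 zh36) (kh xh14 yh3 zh48) (kh xh16 yh10 zh39) (kh xh14 yh3 zh49) (kh xh16 yh15 zh39) (kh xh14 yh11 zh38) (kh xh16 yh15 zh41) (kh xh14 yh4 zh0) (kh xh14 yh5 zh4) (kh xh16 yh10 zh34) (kh xh14 yh4 zh2) (kh xh16 yh15 zh46) (kh xh16 yh15 zh47) (kh xh14 yh4 zh4) (kh xh15 yh25 zh45) (kh xh16 yh15 zh50) (kh xh14 yh4 zh6) (kh xh16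 yh15 zh48) (kh xh14 yh5 zh8) (kh xh16 yh16 zh4) (kh xh14 yh4 zh10) (kh xh16 yh13 zh7) (kh xh16 yh13 zh8) (kh xh14 yh10 zh20) (kh xh16 yh16 zh9) (kh xh14 yh4 zh14) (kh xh16 yh16 zh10) (kh xh14 yh4 zh16) (kh xh14 yh5 zh10) (kh xh14 yh4 zh18) (kh xh15 yh12 zh49) (kh xh14 yh5 zh11)) (@D3.rec (fun _ => Pt) (kh xh16 yh16 zh14) (kh xh14 yh4 zh23) (kh xh16 yh16 zh16) (kh xh14 yh4 zh26) (kh xh15 yh13 zh4) (kh xh16 yh16 zh18) (kh xh14 yh4 zh30) (kh xh15 yh13 zh7) (kh xh14 yh5 zh12) (kh xh14 yh4 zh34) (kh xh15 yh13 zh10) (kh xh16 yh16 zh21) (kh xh14 yh4 zh38) (kh xh14 yh4 zh41) (kh xh15 yh13 zh14) (kh xh16 yh15 zh20) (kh xh16 yh15 zh25) (kh xh16 yh16 zh25) (kh xh14 yh4 zh48) (kh xh16 yh16 zh26) (kh xh16 yh15 zh32) (kh xh16 yh16 zh29) (kh xh14 yh5 zh2) (kh xh16 yh16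 zh30) (kh xh16 yh15 zh43) (kh xh14 yh5 zh5) (kh xh14 yh5 zh7) (kh xh16 yh16 zh33) (kh xh16 yh16 zh3) (kh xh16 yh16 zh13) (kh xh14 yh5 zh17) (kh xh16 yh0 zh44) (kh xh16 yh16 zh36) (kh xh15 yh13 zh33) (kh xh15 yh13 zh34) (kh xh14 yh5 zh21) (kh xh16 yh16 zh39) (kh xh15 yh13 zh37) (kh xh14 yh5 zh25) (kh xh15 yh13 zh39) (kh xh15 yh13 zh40) (kh xh14 yh5 zh38) (kh xh15 yh13 zh42) (kh xh14 yh5 zh39) (kh xh14 yh5 zh40) (kh xh14 yh5 zh41) (kh xh14 yh5 zh42) (kh xh16 yh16 zh40) (kh xh14 yh5 zh44) (kh xh16 yh16 zh41) (kh xh14 yh5 zh47)) (@D3.rec (fun _ => Pt) (kh xh16 yh16 zh42) (kh xh14 yh5 zh49) (kh xh14 yh5 zh50) (kh xh14 yh6 zh7) (kh xh14 yh6 zh9) (kh xh14 yh6 zh4) (kh xh16 yh16 zh43) (kh xh16 yh4 zh46) (kh xh16 yh16 zh45) (kh xh16 yh16 zh49) (kh xh16 yh17 zh0)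 (kh xh14 yh6 zh11) (kh xh14 yh6 zh12) (kh xh15 yh14 zh13) (kh xh15 yh14 zh14) (kh xh15 yh14 zh15) (kh xh14 yh6 zh17) (kh xh16 yh17 zh5) (kh xh14 yh6 zh19) (kh xh16 yh17 zh8) (kh xh16 yh17 zh9) (kh xh14 yh6 zh21) (kh xh14 yh6 zh37) (kh xh14 yh6 zh23) (kh xh14 yh9 zh23) (kh xh14 yh6 zh25) (kh xh15 yh14 zh26) (kh xh14 yh6 zh38) (kh xh15 yh14 zh28) (kh xh15 yh14 zh29) (kh xh14 yh6 zh39) (kh xh16 yh17 zh18) (kh xh14 yh6 zh35) (kh xh16 yh17 zh19) (kh xh16 yh17 zh11) (kh xh16 yh17 zh16) (kh xh16 yh17 zh17) (kh xh15 yh24 zh33) (kh xh16 yh17 zh24) (kh xh14 yh6 zh41) (kh xh14 yh6 zh42) (kh xh15 yh14 zh41) (kh xh15 yh14 zh42) (kh xh16 yh17 zh27) (kh xh14 yh6 zh48) (kh xh14 yh6 zh49) (kh xh14 yh7 zh0) (kh xh14 yh7 zh8) (kh xh14 yh10 zh13) (kh xh14 yh7 zh9) (kh xh16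 yh17 zh30)) (@D3.rec (fun _ => Pt) (kh xh16 yh17 zh32) (kh xh16 yh17 zh34) (kh xh14 yh7 zh11) (kh xh14 yh7 zh12) (kh xh16 yh17 zh37) (kh xh14 yh7 zh13) (kh xh15 yh15 zh6) (kh xh16 yh15 zh33) (kh xh15 yh15 zh8) (kh xh15 yh15 zh9) (kh xh15 yh15 zh10) (kh xh16 yh17 zh43) (kh xh14 yh7 zh22) (kh xh16 yh17 zh45) (kh xh14 yh7 zh24) (kh xh16 yh17 zh47) (kh xh14 yh7 zh27) (kh xh14 yh7 zh28) (kh xh14 yh8 zh19) (kh xh14 yh11 zh37) (kh xh16 yh18 zh1) (kh xh14 yh7 zh32) (kh xh16 yh18 zh3) (kh xh16 yh18 zh4) (kh xh14 yh7 zh35) (kh xh14 yh8 zh23) (kh xh16 yh18 zh7) (kh xh14 yh7 zh38) (kh xh16 yh18 zh9) (kh xh14 yh7 zh40) (kh xh16 yh18 zh8) (kh xh14 yh8 zh27) (kh xh16 yh18 zh14) (kh xh14 yh7 zh44) (kh xh14 yh12 zh8) (kh xh14 yh12 zh9) (kh xh14 yh8 zh28) (kh xh14 yh8 zh29)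 (kh xh14 yh7 zh50) (kh xh14 yh8 zh30) (kh xh14 yh8 zh31) (kh xh14 yh8 zh2) (kh xh14 yh8 zh6) (kh xh14 yh8 zh32) (kh xh14 yh8 zh33) (kh xh16 yh17 zh44) (kh xh16 yh17 zh48) (kh xh16 yh17 zh50) (kh xh16 yh18 zh2) (kh xh14 yh8 zh21) (kh xh16 yh18 zh23)) (@D3.rec (fun _ => Pt) (kh xh16 yh18 zh6) (kh xh14 yh8 zh24) (kh xh14 yh8 zh26) (kh xh16 yh18 zh27) (kh xh16 yh18 zh13) (kh xh16 yh18 zh18) (kh xh16 yh18 zh19) (kh xh15 yh23 zh38) (kh xh16 yh18 zh30) (kh xh14 yh8 zh37) (kh xh14 yh8 zh38) (kh xh16 yh16 zh44) (kh xh14 yh8 zh41) (kh xh16 yh18 zh34) (kh xh14 yh8 zh44) (kh xh14 yh8 zh45) (kh xh14 yh8 zh47) (kh xh16 yh18 zh33) (kh xh16 yh2 zh42) (kh xh16 yh18 zh39) (kh xh14 yh9 zh1) (kh xh14 yh9 zh18) (kh xh16 yh18 zh41) (kh xh14 yh9 zh3) (kh xh15 yh24 zh16) (kh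 xh16 yh18 zh44) (kh xh14 yh9 zh6) (kh xh16 yh1 zh45) (kh xh16 yh18 zh46) (kh xh16 yh18 zh47) (kh xh14 yh9 zh9) (kh xh16 yh18 zh49) (kh xh14 yh9 zh12) (kh xh16 yh17 zh4) (kh xh14 yh9 zh48) (kh xh16 yh19 zh2) (kh xh16 yh19 zh3) (kh xh14 yh9 zh16) (kh xh16 yh19 zh5) (kh xh14 yh9 zh19) (kh xh14 yh9 zh20) (kh xh16 yh19 zh6) (kh xh16 yh17 zh12) (kh xh16 yh17 zh13) (kh xh16 yh19 zh11) (kh xh14 yh9 zh25) (kh xh14 yh9 zh27) (kh xh15 yh16 zh47) (kh xh14 yh9 zh29) (kh xh14 yh9 zh31) (kh xh15 yh16 zh50)) (@D3.rec (fun _ => Pt) (kh xh15 yh17 zh0) (kh xh14 yh9 zh36) (kh xh14 yh9 zh37) (kh xh16 yh19 zh16) (kh xh14 yh9 zh40) (kh xh14 yh9 zh41) (kh xh14 yh9 zh43) (kh xh16 yh19 zh18) (kh xh16 yh19 zh21) (kh xh14 yh9 zh47) (kh xh16 yh19 zh22) (kh xh14 yh9 zh49) (kh xh16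 yh19 zh24) (kh xh14 yh10 zh1) (kh xh14 yh10 zh2) (kh xh16 yh17 zh28) (kh xh16 yh19 zh27) (kh xh14 yh10 zh6) (kh xh16 yh19 zh28) (kh xh14 yh10 zh8) (kh xh16 yh19 zh30) (kh xh14 yh10 zh11) (kh xh16 yh19 zh31) (kh xh16 yh17 zh31) (kh xh14 yh10 zh14) (kh xh14 yh10 zh17) (kh xh14 yh10 zh18) (kh xh16 yh9 zh18) (kh xh16 yh19 zh35) (kh xh16 yh10 zh44) (kh xh16 yh19 zh37) (kh xh14 yh10 zh22) (kh xh14 yh10 zh23) (kh xh16 yh19 zh40) (kh xh14 yh10 zh24) (kh xh14 yh13 zh3) (kh xh14 yh11 zh2) (kh xh14 yh11 zh21) (kh xh16 yh19 zh45) (kh xh14 yh10 zh28) (kh xh16 yh19 zh46) (kh xh14 yh10 zh30) (kh xh16 yh19 zh48) (kh xh14 yh10 zh33) (kh xh16 yh19 zh49) (kh xh14 yh10 zh35) (kh xh16 yh15 zh14) (kh xh16 yh20 zh1) (kh xh14 yh10 zh39) (kh xh15 yh25 zh41) (kh xh16 yh8 zh15))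 (@D3.rec (fun _ => Pt) (kh xh16 yh20 zh4) (kh xh16 yh20 zh5) (kh xh14 yh10 zh42) (kh xh16 yh20 zh7) (kh xh14 yh10 zh44) (kh xh16 yh20 zh10) (kh xh16 yh20 zh11) (kh xh14 yh10 zh46) (kh xh14 yh12 zh1) (kh xh16 yh20 zh14) (kh xh14 yh10 zh48) (kh xh16 yh20 zh12) (kh xh16 yh20 zh17) (kh xh14 yh11 zh0) (kh xh16 yh15 zh2) (kh xh16 yh19 zh43) (kh xh14 yh11 zh3) (kh xh14 yh11 zh4) (kh xh15 yh18 zh18) (kh xh14 yh11 zh8) (kh xh15 yh18 zh20) (kh xh16 yh20 zh24) (kh xh14 yh11 zh11) (kh xh15 yh18 zh23) (kh xh14 yh11 zh14) (kh xh15 yh18 zh25) (kh xh14 yh11 zh17) (kh xh15 yh18 zh27) (kh xh16 yh20 zh28) (kh xh14 yh11 zh22) (kh xh16 yh20 zh30) (kh xh14 yh11 zh25) (kh xh16 yh17 zh46) (kh xh16 yh20 zh33) (kh xh14 yh11 zh28) (kh xh14 yh11 zh30) (kh xh14 yh11 zh31) (kh xh16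 yh20 zh35) (kh xh14 yh11 zh42) (kh xh16 yh20 zh40) (kh xh14 yh11 zh35) (kh xh16 yh12 zh46) (kh xh16 yh18 zh0) (kh xh16 yh20 zh44) (kh xh14 yh11 zh39) (kh xh16 yh8 zh17) (kh xh16 yh20 zh39) (kh xh16 yh20 zh47) (kh xh14 yh11 zh44) (kh xh16 yh20 zh38) (kh xh14 yh11 zh47)) (@D3.rec (fun _ => Pt) (kh xh16 yh21 zh0) (kh xh16 yh21 zh1) (kh xh14 yh11 zh49) (kh xh14 yh11 zh50) (kh xh14 yh12 zh4) (kh xh16 yh21 zh5) (kh xh14 yh12 zh2) (kh xh16 yh21 zh2) (kh xh16 yh21 zh4) (kh xh16 yh20 zh34) (kh xh14 yh12 zh38) (kh xh14 yh12 zh6) (kh xh16 yh18 zh15) (kh xh16 yh18 zh16) (kh xh16 yh18 zh17) (kh xh16 yh21 zh16) (kh xh14 yh12 zh11) (kh xh14 yh12 zh13) (kh xh14 yh13 zh41) (kh xh14 yh13 zh45) (kh xh14 yh13 zh31) (kh xh14 yh12 zh39) (kh xh14 yh12 zh18) (kh xh14 yh12 zh20)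 (kh xh14 yh12 zh22) (kh xh14 yh13 zh48) (kh xh14 yh13 zh49) (kh xh14 yh12 zh25) (kh xh14 yh13 zh50) (kh xh14 yh14 zh0) (kh xh14 yh14 zh1) (kh xh14 yh12 zh31) (kh xh14 yh14 zh3) (kh xh14 yh13 zh40) (kh xh16 yh21 zh21) (kh xh16 yh19 zh17) (kh xh16 yh21 zh30) (kh xh14 yh12 zh42) (kh xh16 yh21 zh31) (kh xh14 yh12 zh44) (kh xh14 yh12 zh47) (kh xh16 yh21 zh34) (kh xh14 yh12 zh49) (kh xh16 yh19 zh38) (kh xh16 yh21 zh38) (kh xh14 yh13 zh1) (kh xh16 yh21 zh39) (kh xh16 yh19 zh42) (kh xh14 yh13 zh4) (kh xh16 yh21 zh41) (kh xh14 yh13 zh6)) (@D3.rec (fun _ => Pt) (kh xh14 yh13 zh7) (kh xh14 yh13 zh12) (kh xh15 yh20 zh2) (kh xh14 yh13 zh27) (kh xh14 yh13 zh28) (kh xh14 yh13 zh29) (kh xh16 yh21 zh20) (kh xh16 yh21 zh44) (kh xh14 yh13 zh33) (kh xh14 yh13 zh34) (kh xh14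 yh13 zh39) (kh xh15 yh20 zh11) (kh xh16 yh21 zh45) (kh xh16 yh21 zh25) (kh xh16 yh21 zh47) (kh xh16 yh21 zh28) (kh xh16 yh21 zh18) (kh xh16 yh21 zh17) (kh xh16 yh21 zh19) (kh xh16 yh21 zh22) (kh xh16 yh21 zh23) (kh xh16 yh21 zh24) (kh xh16 yh21 zh26) (kh xh16 yh21 zh27) (kh xh14 yh14 zh7) (kh xh14 yh14 zh8) (kh xh16 yh22 zh3) (kh xh14 yh14 zh10) (kh xh14 yh14 zh18) (kh xh14 yh14 zh20) (kh xh14 yh14 zh22) (kh xh14 yh14 zh25) (kh xh16 yh22 zh5) (kh xh15 yh20 zh33) (kh xh14 yh14 zh29) (kh xh14 yh14 zh32) (kh xh14 yh14 zh33) (kh xh16 yh22 zh6) (kh xh14 yh14 zh44) (kh xh16 yh22 zh8) (kh xh14 yh14 zh35) (kh xh16 yh22 zh9) (kh xh14 yh14 zh37) (kh xh15 yh20 zh43) (kh xh15 yh0 zh40) (kh xh16 yh22 zh12) (kh xh14 yh14 zh41) (kh xh15 yh0 zh44) (kh xh16 yh22 zh14)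 (kh xh14 yh14 zh43) (kh xh16 yh22 zh15)) (@D3.rec (fun _ => Pt) (kh xh14 yh14 zh45) (kh xh16 yh22 zh17) (kh xh14 yh14 zh48) (kh xh16 yh22 zh18) (kh xh14 yh15 zh47) (kh xh16 yh22 zh20) (kh xh14 yh15 zh1) (kh xh16 yh22 zh21) (kh xh14 yh15 zh3) (kh xh14 yh15 zh5) (kh xh14 yh15 zh14) (kh xh14 yh15 zh7) (kh xh14 yh15 zh8) (kh xh14 yh15 zh15) (kh xh16 yh22 zh22) (kh xh16 yh22 zh23) (kh xh16 yh22 zh26) (kh xh14 yh15 zh19) (kh xh14 yh15 zh22) (kh xh14 yh15 zh23) (kh xh14 yh15 zh25) (kh xh16 yh22 zh28) (kh xh14 yh15 zh29) (kh xh16 yh22 zh29) (kh xh14 yh15 zh31) (kh xh16 yh22 zh31) (kh xh14 yh15 zh35) (kh xh15 yh21 zh27) (kh xh14 yh15 zh37) (kh xh15 yh21 zh29) (kh xh14 yh15 zh40) (kh xh14 yh15 zh42) (kh xh15 yh0 zh22) (kh xh16 yh22 zh37) (kh xh14 yh15 zh45) (kh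 xh14 yh20 zh16) (kh xh16 yh22 zh40) (kh xh14 yh15 zh48) (kh xh14 yh16 zh8) (kh xh14 yh16 zh9) (kh xh14 yh16 zh0) (kh xh14 yh16 zh2) (kh xh14 yh16 zh10) (kh xh14 yh16 zh11) (kh xh16 yh22 zh41) (kh xh16 yh22 zh42) (kh xh16 yh22 zh43) (kh xh16 yh22 zh44) (kh xh14 yh18 zh24) (kh xh16 yh22 zh50) (kh xh15 yh10 zh14)) (@D3.rec (fun _ => Pt) (kh xh15 yh10 zh15) (kh xh16 yh23 zh5) (kh xh15 yh10 zh17) (kh xh16 yh23 zh7) (kh xh14 yh16 zh16) (kh xh14 yh16 zh36) (kh xh16 yh23 zh9) (kh xh14 yh16 zh38) (kh xh16 yh23 zh12) (kh xh14 yh16 zh40) (kh xh16 yh23 zh15) (kh xh14 yh16 zh21) (kh xh16 yh23 zh16) (kh xh16 yh23 zh18) (kh xh14 yh16 zh23) (kh xh16 yh23 zh20) (kh xh14 yh16 zh25) (kh xh14 yh16 zh27) (kh xh14 yh17 zh3) (kh xh16 yh23 zh24) (kh xh14 yh16 zh29) (kh xh15 yh22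 zh21) (kh xh14 yh16 zh32) (kh xh15 yh22 zh23) (kh xh15 yh22 zh24) (kh xh15 yh22 zh25) (kh xh16 yh23 zh29) (kh xh14 yh16 zh37) (kh xh15 yh10 zh20) (kh xh16 yh23 zh31) (kh xh14 yh16 zh39) (kh xh16 yh23 zh13) (kh xh16 yh23 zh34) (kh xh14 yh16 zh41) (kh xh16 yh23 zh36) (kh xh16 yh23 zh38) (kh xh14 yh16 zh44) (kh xh16 yh23 zh40) (kh xh14 yh16 zh45) (kh xh16 yh23 zh43) (kh xh16 yh23 zh44) (kh xh14 yh16 zh47) (kh xh14 yh17 zh29) (kh xh14 yh16 zh49) (kh xh16 yh22 zh16) (kh xh16 yh23 zh49) (kh xh14 yh17 zh1) (kh xh14 yh17 zh30) (kh xh16 yh24 zh1) (kh xh14 yh17 zh4) (kh xh14 yh17 zh18)) (@D3.rec (fun _ => Pt) (kh xh14 yh17 zh31) (kh xh14 yh17 zh7) (kh xh15 yh23 zh2) (kh xh14 yh17 zh32) (kh xh14 yh17 zh19) (kh xh14 yh17 zh20) (kh xh15 yh23 zh6) (kh xh15 yh23 zh7)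 (kh xh14 yh17 zh21) (kh xh14 yh17 zh16) (kh xh16 yh24 zh2) (kh xh16 yh24 zh3) (kh xh16 yh24 zh8) (kh xh16 yh24 zh9) (kh xh16 yh24 zh10) (kh xh16 yh23 zh32) (kh xh14 yh17 zh23) (kh xh16 yh24 zh18) (kh xh14 yh17 zh24) (kh xh16 yh23 zh39) (kh xh16 yh24 zh21) (kh xh14 yh17 zh27) (kh xh16 yh24 zh22) (kh xh16 yh23 zh46) (kh xh16 yh24 zh0) (kh xh16 yh24 zh7) (kh xh14 yh17 zh44) (kh xh16 yh24 zh27) (kh xh16 yh24 zh28) (kh xh14 yh17 zh38) (kh xh14 yh17 zh39) (kh xh15 yh1 zh33) (kh xh15 yh2 zh18) (kh xh16 yh24 zh33) (kh xh15 yh2 zh50) (kh xh16 yh24 zh35) (kh xh16 yh24 zh36) (kh xh14 yh17 zh45) (kh xh15 yh16 zh7) (kh xh16 yh24 zh38) (kh xh14 yh17 zh47) (kh xh16 yh24 zh40) (kh xh14 yh17 zh49) (kh xh14 yh18 zh0) (kh xh15 yh23 zh44) (kh xh14 yh18 zh3) (kh xh14 yh18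 zh8) (kh xh16 yh24 zh43) (kh xh15 yh9 zh9) (kh xh16 yh24 zh46) (kh xh14 yh18 zh10)) (@D3.rec (fun _ => Pt) (kh xh16 yh24 zh47) (kh xh14 yh18 zh12) (kh xh15 yh11 zh18) (kh xh16 yh24 zh49) (kh xh14 yh18 zh14) (kh xh16 yh25 zh0) (kh xh14 yh18 zh16) (kh xh15 yh24 zh7) (kh xh14 yh18 zh20) (kh xh15 yh24 zh9) (kh xh16 yh22 zh48) (kh xh16 yh25 zh4) (kh xh14 yh18 zh25) (kh xh14 yh18 zh26) (kh xh14 yh18 zh28) (kh xh14 yh18 zh46) (kh xh15 yh16 zh24) (kh xh16 yh25 zh9) (kh xh14 yh18 zh31) (kh xh16 yh22 zh27) (kh xh16 yh25 zh12) (kh xh14 yh18 zh35) (kh xh14 yh18 zh43) (kh xh14 yh18 zh38) (kh xh14 yh18 zh45) (kh xh14 yh18 zh41) (kh xh16 yh25 zh13) (kh xh16 yh25 zh14) (kh xh16 yh25 zh15) (kh xh16 yh25 zh7) (kh xh15 yh5 zh9) (kh xh15 yh10 zh22) (kh xh16 yh25 zh23) (kh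 xh15 yh14 zh37) (kh xh16 yh25 zh26) (kh xh14 yh18 zh49) (kh xh15 yh5 zh3) (kh xh15 yh10 zh28) (kh xh16 yh25 zh30) (kh xh15 yh10 zh8) (kh xh15 yh10 zh31) (kh xh16 yh25 zh33) (kh xh14 yh19 zh1) (kh xh16 yh25 zh35) (kh xh14 yh19 zh3) (kh xh14 yh19 zh41) (kh xh16 yh25 zh39) (kh xh14 yh19 zh6) (kh xh14 yh19 zh45) (kh xh16 yh25 zh41) (kh xh15 yh8 zh38)) (@D3.rec (fun _ => Pt) (kh xh16 yh25 zh43) (kh xh14 yh19 zh9) (kh xh14 yh19 zh49) (kh xh16 yh25 zh46) (kh xh14 yh19 zh11) (kh xh15 yh6 zh19) (kh xh16 yh25 zh49) (kh xh14 yh19 zh14) (kh xh15 yh6 zh16) (kh xh14 yh19 zh15) (kh xh16 yh26 zh2) (kh xh16 yh26 zh3) (kh xh14 yh19 zh17) (kh xh15 yh25 zh13) (kh xh14 yh20 zh13) (kh xh16 yh26 zh7) (kh xh14 yh19 zh20) (kh xh16 yh25 zh36) (kh xh14 yh19 zh22) (kh xh15 yh25 zh19)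 (kh xh16 yh26 zh12) (kh xh14 yh19 zh25) (kh xh15 yh25 zh22) (kh xh15 yh25 zh23) (kh xh14 yh19 zh28) (kh xh15 yh25 zh25) (kh xh16 yh26 zh16) (kh xh14 yh19 zh32) (kh xh15 yh25 zh28) (kh xh15 yh25 zh29) (kh xh14 yh19 zh37) (kh xh15 yh25 zh31) (kh xh16 yh25 zh37) (kh xh16 yh26 zh23) (kh xh14 yh19 zh42) (kh xh15 yh6 zh28) (kh xh16 yh26 zh26) (kh xh16 yh26 zh27) (kh xh14 yh19 zh46) (kh xh14 yh19 zh47) (kh xh14 yh21 zh6) (kh xh15 yh17 zh49) (kh xh16 yh26 zh32) (kh xh14 yh19 zh50) (kh xh16 yh22 zh34) (kh xh15 yh12 zh33) (kh xh16 yh26 zh36) (kh xh14 yh20 zh2) (kh xh14 yh20 zh3) (kh xh16 yh26 zh39) (kh xh16 yh26 zh40)) (@D3.rec (fun _ => Pt) (kh xh14 yh20 zh5) (kh xh14 yh21 zh13) (kh xh16 yh26 zh43) (kh xh14 yh20 zh8) (kh xh15 yh5 zh32) (kh xh16 yh26 zh46) (kh xh14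 yh20 zh10) (kh xh16 yh26 zh44) (kh xh14 yh21 zh17) (kh xh17 yh0 zh0) (kh xh14 yh20 zh14) (kh xh16 yh22 zh38) (kh xh16 yh22 zh39) (kh xh14 yh20 zh17) (kh xh14 yh21 zh19) (kh xh14 yh21 zh20) (kh xh17 yh0 zh8) (kh xh14 yh20 zh21) (kh xh14 yh20 zh46) (kh xh14 yh20 zh47) (kh xh14 yh21 zh3) (kh xh14 yh20 zh25) (kh xh14 yh21 zh21) (kh xh17 yh0 zh14) (kh xh14 yh20 zh29) (kh xh14 yh21 zh22) (kh xh14 yh20 zh32) (kh xh14 yh20 zh49) (kh xh14 yh20 zh50) (kh xh14 yh21 zh0) (kh xh14 yh21 zh1) (kh xh14 yh20 zh38) (kh xh14 yh21 zh23) (kh xh14 yh21 zh2) (kh xh14 yh20 zh44) (kh xh17 yh0 zh9) (kh xh17 yh0 zh10) (kh xh17 yh0 zh11) (kh xh17 yh0 zh12) (kh xh17 yh0 zh16) (kh xh16 yh26 zh37) (kh xh17 yh0 zh17) (kh xh17 yh0 zh18) (kh xh17 yh0 zh19) (kh xh17 yh0 zh5) (kh xh14 yh21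 zh4) (kh xh16 yh26 zh28) (kh xh16 yh26 zh30) (kh xh17 yh0 zh31) (kh xh14 yh21 zh8) (kh xh17 yh0 zh33))
def f_h_16 : D2 → D3 → Pt := @D2.rec (fun _ => D3 → Pt) (@D3.rec (fun _ => Pt) (kh xh14 yh21 zh11) (kh xh17 yh0 zh34) (kh xh16 yh26 zh42) (kh xh14 yh21 zh14) (kh xh14 yh21 zh16) (kh xh17 yh0 zh38) (kh xh16 yh26 zh50) (kh xh17 yh0 zh6) (kh xh17 yh0 zh7) (kh xh17 yh0 zh13) (kh xh17 yh0 zh15) (kh xh14 yh21 zh27) (kh xh14 yh21 zh29) (kh xh14 yh21 zh30) (kh xh14 yh21 zh31) (kh xh14 yh21 zh33) (kh xh14 yh21 zh38) (kh xh14 yh21 zh37) (kh xh14 yh21 zh40) (kh xh16 yh0 zh19) (kh xh14 yh21 zh42) (kh xh16 yh0 zh21) (kh xh14 yh22 zh1) (kh xh14 yh22 zh2) (kh xh14 yh21 zh50) (kh xh14 yh22 zh0) (kh xh14 yh22 zh5) (kh xh16 yh0 zh27) (kh xh14 yh22 zh7) (kh xh14 yh22 zh8)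 (kh xh14 yh22 zh10) (kh xh14 yh22 zh11) (kh xh16 yh0 zh32) (kh xh16 yh0 zh33) (kh xh14 yh22 zh17) (kh xh14 yh22 zh25) (kh xh16 yh0 zh36) (kh xh14 yh22 zh26) (kh xh14 yh22 zh24) (kh xh17 yh1 zh0) (kh xh17 yh1 zh1) (kh xh16 yh0 zh41) (kh xh16 yh0 zh42) (kh xh16 yh0 zh43) (kh xh15 yh13 zh31) (kh xh16 yh0 zh45) (kh xh16 yh0 zh46) (kh xh16 yh0 zh47) (kh xh16 yh0 zh48) (kh xh16 yh0 zh49) (kh xh16 yh0 zh50)) (@D3.rec (fun _ => Pt) (kh xh14 yh22 zh49) (kh xh16 yh1 zh1) (kh xh16 yh1 zh2) (kh xh16 yh1 zh3) (kh xh14 yh22 zh50) (kh xh14 yh25 zh38) (kh xh17 yh1 zh7) (kh xh17 yh1 zh8) (kh xh14 yh23 zh4) (kh xh14 yh23 zh5) (kh xh14 yh23 zh21) (kh xh17 yh1 zh10) (kh xh14 yh23 zh23) (kh xh17 yh1 zh12) (kh xh14 yh23 zh25) (kh xh17 yh1 zh14) (kh xh14 yh23 zh11) (kh xh14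 yh23 zh12) (kh xh14 yh23 zh13) (kh xh17 yh1 zh16) (kh xh14 yh23 zh15) (kh xh16 yh1 zh21) (kh xh16 yh1 zh22) (kh xh14 yh25 zh0) (kh xh17 yh1 zh19) (kh xh17 yh1 zh20) (kh xh14 yh23 zh22) (kh xh17 yh1 zh21) (kh xh14 yh23 zh24) (kh xh17 yh1 zh23) (kh xh14 yh23 zh26) (kh xh14 yh23 zh38) (kh xh14 yh23 zh30) (kh xh14 yh23 zh36) (kh xh17 yh1 zh25) (kh xh17 yh1 zh22) (kh xh15 yh2 zh20) (kh xh17 yh1 zh31) (kh xh15 yh2 zh22) (kh xh17 yh1 zh33) (kh xh14 yh23 zh41) (kh xh17 yh1 zh34) (kh xh14 yh23 zh43) (kh xh14 yh24 zh15) (kh xh17 yh1 zh36) (kh xh15 yh16 zh27) (kh xh17 yh1 zh38) (kh xh14 yh23 zh46) (kh xh14 yh24 zh20) (kh xh17 yh1 zh41) (kh xh14 yh23 zh48)) (@D3.rec (fun _ => Pt) (kh xh14 yh24 zh0) (kh xh16 yh2 zh1) (kh xh17 yh1 zh45) (kh xh14 yh24 zh3) (kh xh16 yh2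 zh4) (kh xh16 yh2 zh5) (kh xh16 yh2 zh6) (kh xh14 yh24 zh8) (kh xh16 yh2 zh8) (kh xh16 yh2 zh9) (kh xh17 yh1 zh49) (kh xh14 yh24 zh12) (kh xh14 yh24 zh13) (kh xh17 yh2 zh0) (kh xh14 yh24 zh16) (kh xh17 yh2 zh2) (kh xh14 yh24 zh18) (kh xh14 yh24 zh44) (kh xh17 yh2 zh5) (kh xh14 yh24 zh21) (kh xh15 yh3 zh2) (kh xh14 yh24 zh45) (kh xh14 yh24 zh46) (kh xh14 yh24 zh25) (kh xh14 yh24 zh38) (kh xh14 yh24 zh39) (kh xh14 yh24 zh31) (kh xh14 yh24 zh40) (kh xh17 yh2 zh9) (kh xh17 yh2 zh10) (kh xh17 yh2 zh11) (kh xh17 yh2 zh1) (kh xh14 yh24 zh42) (kh xh17 yh2 zh15) (kh xh17 yh2 zh4) (kh xh17 yh2 zh8) (kh xh17 yh2 zh18) (kh xh14 yh24 zh49) (kh xh17 yh2 zh19) (kh xh14 yh25 zh1) (kh xh14 yh25 zh42) (kh xh17 yh2 zh22) (kh xh15 yh16 zh18) (kh xh17 yh2 zh24) (kh xh14 yh25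 zh4) (kh xh14 yh25 zh5) (kh xh14 yh25 zh8) (kh xh16 yh2 zh47) (kh xh15 yh3 zh37) (kh xh17 yh2 zh28) (kh xh15 yh3 zh39)) (@D3.rec (fun _ => Pt) (kh xh17 yh2 zh32) (kh xh15 yh3 zh41) (kh xh17 yh2 zh34) (kh xh14 yh25 zh16) (kh xh14 yh25 zh40) (kh xh17 yh2 zh36) (kh xh17 yh2 zh37) (kh xh14 yh25 zh19) (kh xh14 yh25 zh46) (kh xh17 yh2 zh39) (kh xh16 yh25 zh24) (kh xh14 yh25 zh48) (kh xh17 yh2 zh42) (kh xh14 yh25 zh22) (kh xh17 yh2 zh44) (kh xh14 yh25 zh24) (kh xh14 yh25 zh26) (kh xh14 yh25 zh28) (kh xh17 yh2 zh47) (kh xh14 yh25 zh30) (kh xh16 yh3 zh20) (kh xh14 yh25 zh32) (kh xh16 yh3 zh22) (kh xh16 yh3 zh23) (kh xh16 yh3 zh24) (kh xh16 yh3 zh25) (kh xh17 yh3 zh0) (kh xh14 yh25 zh39) (kh xh17 yh3 zh1) (kh xh14 yh25 zh41) (kh xh15 yh0 zh26) (kh xh17 yh3 zh3)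 (kh xh14 yh25 zh43) (kh xh17 yh3 zh5) (kh xh17 yh3 zh6) (kh xh14 yh25 zh47) (kh xh17 yh3 zh8) (kh xh14 yh25 zh49) (kh xh14 yh26 zh26) (kh xh14 yh26 zh0) (kh xh15 yh4 zh27) (kh xh14 yh26 zh3) (kh xh14 yh26 zh5) (kh xh14 yh26 zh28) (kh xh14 yh26 zh7) (kh xh16 yh3 zh45) (kh xh14 yh26 zh29) (kh xh14 yh26 zh20) (kh xh14 yh26 zh21) (kh xh14 yh26 zh30) (kh xh14 yh26 zh31)) (@D3.rec (fun _ => Pt) (kh xh16 yh4 zh0) (kh xh16 yh4 zh1) (kh xh14 yh26 zh18) (kh xh17 yh3 zh19) (kh xh17 yh3 zh20) (kh xh17 yh3 zh7) (kh xh17 yh3 zh10) (kh xh17 yh3 zh13) (kh xh17 yh3 zh14) (kh xh17 yh3 zh18) (kh xh15 yh5 zh4) (kh xh17 yh3 zh29) (kh xh15 yh5 zh6) (kh xh17 yh3 zh31) (kh xh14 yh26 zh34) (kh xh15 yh5 zh10) (kh xh17 yh3 zh33) (kh xh17 yh3 zh34) (kh xh15 yh5 zh13) (kh xh17 yh3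 zh37) (kh xh14 yh26 zh37) (kh xh17 yh3 zh39) (kh xh14 yh26 zh39) (kh xh17 yh3 zh41) (kh xh14 yh26 zh42) (kh xh17 yh3 zh42) (kh xh17 yh3 zh44) (kh xh14 yh26 zh44) (kh xh17 yh3 zh46) (kh xh14 yh26 zh46) (kh xh17 yh1 zh29) (kh xh17 yh3 zh49) (kh xh14 yh26 zh49) (kh xh14 yh26 zh50) (kh xh17 yh4 zh1) (kh xh17 yh4 zh2) (kh xh15 yh0 zh1) (kh xh16 yh4 zh37) (kh xh17 yh4 zh5) (kh xh15 yh0 zh4) (kh xh17 yh3 zh40) (kh xh16 yh4 zh41) (kh xh15 yh0 zh7) (kh xh16 yh4 zh43) (kh xh16 yh4 zh44) (kh xh15 yh0 zh10) (kh xh15 yh14 zh7) (kh xh16 yh4 zh47) (kh xh15 yh0 zh13) (kh xh16 yh4 zh49) (kh xh16 yh4 zh50)) (@D3.rec (fun _ => Pt) (kh xh16 yh5 zh0) (kh xh16 yh5 zh1) (kh xh17 yh4 zh15) (kh xh15 yh0 zh23) (kh xh17 yh4 zh17) (kh xh15 yh0 zh25) (kh xh17 yh4 zh20) (kh xh17 yh4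 zh21) (kh xh15 yh0 zh27) (kh xh15 yh1 zh32) (kh xh15 yh0 zh29) (kh xh15 yh6 zh41) (kh xh16 yh24 zh29) (kh xh17 yh4 zh27) (kh xh15 yh0 zh32) (kh xh17 yh1 zh28) (kh xh15 yh0 zh33) (kh xh17 yh4 zh30) (kh xh17 yh4 zh31) (kh xh15 yh0 zh35) (kh xh15 yh1 zh39) (kh xh15 yh0 zh37) (kh xh17 yh4 zh35) (kh xh17 yh4 zh36) (kh xh15 yh0 zh39) (kh xh17 yh4 zh38) (kh xh15 yh0 zh41) (kh xh17 yh4 zh37) (kh xh15 yh1 zh43) (kh xh17 yh4 zh43) (kh xh15 yh0 zh45) (kh xh15 yh7 zh11) (kh xh15 yh7 zh12) (kh xh15 yh0 zh48) (kh xh16 yh5 zh34) (kh xh15 yh1 zh23) (kh xh15 yh1 zh3) (kh xh16 yh5 zh37) (kh xh15 yh1 zh28) (kh xh15 yh1 zh6) (kh xh16 yh5 zh40) (kh xh16 yh5 zh41) (kh xh16 yh5 zh42) (kh xh15 yh1 zh45) (kh xh15 yh1 zh10) (kh xh15 yh1 zh24) (kh xh15 yh1 zh25) (kh xh15 yh1 zh26)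 (kh xh15 yh1 zh27) (kh xh16 yh5 zh49) (kh xh16 yh5 zh50)) (@D3.rec (fun _ => Pt) (kh xh17 yh4 zh49) (kh xh17 yh5 zh1) (kh xh17 yh5 zh7) (kh xh17 yh5 zh6) (kh xh17 yh5 zh8) (kh xh17 yh5 zh12) (kh xh15 yh1 zh30) (kh xh17 yh5 zh13) (kh xh17 yh4 zh23) (kh xh17 yh5 zh15) (kh xh15 yh1 zh34) (kh xh17 yh5 zh17) (kh xh15 yh1 zh37) (kh xh17 yh5 zh18) (kh xh17 yh4 zh33) (kh xh15 yh1 zh40) (kh xh15 yh1 zh42) (kh xh17 yh5 zh21) (kh xh17 yh5 zh22) (kh xh17 yh4 zh42) (kh xh17 yh5 zh25) (kh xh15 yh1 zh49) (kh xh17 yh5 zh26) (kh xh15 yh2 zh0) (kh xh15 yh2 zh1) (kh xh15 yh2 zh3) (kh xh16 yh6 zh26) (kh xh17 yh5 zh30) (kh xh15 yh2 zh8) (kh xh15 yh2 zh9) (kh xh15 yh2 zh11) (kh xh17 yh1 zh24) (kh xh15 yh2 zh16) (kh xh15 yh2 zh17) (kh xh17 yh5 zh34) (kh xh16 yh24 zh31) (kh xh17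 yh5 zh36) (kh xh15 yh2 zh19) (kh xh17 yh5 zh37) (kh xh15 yh2 zh21) (kh xh17 yh5 zh39) (kh xh15 yh2 zh23) (kh xh15 yh2 zh38) (kh xh17 yh5 zh42) (kh xh15 yh2 zh26) (kh xh17 yh5 zh43) (kh xh15 yh2 zh28) (kh xh15 yh2 zh30) (kh xh17 yh5 zh40) (kh xh15 yh2 zh32) (kh xh16 yh6 zh50)) (@D3.rec (fun _ => Pt) (kh xh16 yh7 zh0) (kh xh17 yh5 zh49) (kh xh15 yh2 zh37) (kh xh17 yh5 zh50) (kh xh15 yh2 zh39) (kh xh15 yh2 zh41) (kh xh15 yh2 zh43) (kh xh17 yh1 zh50) (kh xh15 yh2 zh45) (kh xh15 yh2 zh47) (kh xh15 yh2 zh48) (kh xh17 yh6 zh5) (kh xh17 yh6 zh8) (kh xh15 yh3 zh0) (kh xh17 yh2 zh6) (kh xh17 yh2 zh7) (kh xh15 yh3 zh13) (kh xh15 yh3 zh6) (kh xh15 yh3 zh15) (kh xh15 yh3 zh16) (kh xh15 yh3 zh17) (kh xh15 yh3 zh18) (kh xh17 yh5 zh38) (kh xh17 yh6 zh13) (kh xh17 yh6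 zh14) (kh xh17 yh6 zh15) (kh xh17 yh6 zh16) (kh xh17 yh6 zh20) (kh xh15 yh3 zh21) (kh xh15 yh3 zh22) (kh xh17 yh6 zh22) (kh xh15 yh3 zh26) (kh xh17 yh6 zh23) (kh xh15 yh3 zh28) (kh xh15 yh3 zh29) (kh xh17 yh6 zh26) (kh xh15 yh3 zh32) (kh xh16 yh7 zh37) (kh xh17 yh2 zh26) (kh xh16 yh7 zh39) (kh xh17 yh2 zh20) (kh xh17 yh6 zh31) (kh xh15 yh3 zh38) (kh xh17 yh2 zh30) (kh xh17 yh6 zh33) (kh xh15 yh3 zh40) (kh xh17 yh6 zh35) (kh xh15 yh3 zh42) (kh xh15 yh4 zh8) (kh xh17 yh6 zh38) (kh xh15 yh3 zh45)) (@D3.rec (fun _ => Pt) (kh xh15 yh4 zh15) (kh xh17 yh6 zh40) (kh xh15 yh3 zh47) (kh xh15 yh3 zh49) (kh xh17 yh6 zh36) (kh xh17 yh6 zh44) (kh xh15 yh4 zh1) (kh xh16 yh8 zh7) (kh xh16 yh8 zh8) (kh xh16 yh8 zh9) (kh xh15 yh6 zh44) (kh xh17 yh6 zh50) (kh xh15 yh4 zh7)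 (kh xh17 yh7 zh0) (kh xh15 yh4 zh9) (kh xh15 yh17 zh50) (kh xh17 yh7 zh3) (kh xh15 yh18 zh45) (kh xh17 yh7 zh5) (kh xh15 yh4 zh13) (kh xh17 yh7 zh7) (kh xh15 yh4 zh16) (kh xh17 yh3 zh4) (kh xh15 yh11 zh36) (kh xh17 yh7 zh11) (kh xh15 yh4 zh19) (kh xh15 yh4 zh21) (kh xh17 yh7 zh14) (kh xh17 yh7 zh15) (kh xh15 yh4 zh23) (kh xh15 yh4 zh24) (kh xh17 yh7 zh16) (kh xh17 yh3 zh11) (kh xh17 yh3 zh12) (kh xh17 yh7 zh22) (kh xh15 yh4 zh29) (kh xh16 yh8 zh36) (kh xh15 yh4 zh31) (kh xh15 yh4 zh40) (kh xh15 yh4 zh41) (kh xh16 yh8 zh40) (kh xh16 yh8 zh41) (kh xh15 yh4 zh42) (kh xh15 yh4 zh43) (kh xh17 yh7 zh25) (kh xh17 yh7 zh26) (kh xh17 yh7 zh27) (kh xh17 yh7 zh30) (kh xh15 yh4 zh45) (kh xh17 yh7 zh35) (kh xh17 yh7 zh36)) (@D3.rec (fun _ => Pt) (kh xh15 yh4 zh49)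 (kh xh15 yh4 zh50) (kh xh17 yh7 zh37) (kh xh15 yh5 zh2) (kh xh16 yh25 zh27) (kh xh17 yh7 zh39) (kh xh17 yh3 zh27) (kh xh17 yh7 zh41) (kh xh15 yh5 zh5) (kh xh16 yh26 zh21) (kh xh17 yh7 zh44) (kh xh15 yh5 zh7) (kh xh16 yh25 zh18) (kh xh17 yh7 zh47) (kh xh15 yh7 zh4) (kh xh16 yh23 zh2) (kh xh17 yh7 zh50) (kh xh15 yh5 zh11) (kh xh15 yh17 zh27) (kh xh15 yh5 zh12) (kh xh17 yh8 zh3) (kh xh15 yh12 zh2) (kh xh17 yh8 zh5) (kh xh15 yh5 zh14) (kh xh15 yh8 zh30) (kh xh17 yh8 zh8) (kh xh15 yh5 zh17) (kh xh15 yh5 zh44) (kh xh17 yh8 zh11) (kh xh15 yh5 zh20) (kh xh15 yh6 zh22) (kh xh17 yh8 zh13) (kh xh15 yh5 zh22) (kh xh17 yh8 zh15) (kh xh15 yh5 zh25) (kh xh15 yh6 zh34) (kh xh17 yh8 zh17) (kh xh15 yh5 zh27) (kh xh15 yh6 zh38) (kh xh17 yh8 zh20) (kh xh15 yh5 zh30) (kh xh17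 yh7 zh45) (kh xh17 yh8 zh23) (kh xh15 yh5 zh33) (kh xh15 yh5 zh35) (kh xh17 yh8 zh26) (kh xh17 yh8 zh27) (kh xh15 yh5 zh37) (kh xh17 yh8 zh29) (kh xh15 yh5 zh39) (kh xh17 yh8 zh28)) (@D3.rec (fun _ => Pt) (kh xh17 yh8 zh32) (kh xh15 yh5 zh42) (kh xh17 yh8 zh9) (kh xh17 yh8 zh10) (kh xh17 yh8 zh37) (kh xh15 yh5 zh47) (kh xh15 yh10 zh3) (kh xh17 yh8 zh39) (kh xh15 yh5 zh50) (kh xh16 yh10 zh9) (kh xh16 yh10 zh10) (kh xh17 yh8 zh44) (kh xh15 yh6 zh3) (kh xh15 yh10 zh4) (kh xh15 yh6 zh6) (kh xh16 yh10 zh15) (kh xh16 yh10 zh16) (kh xh16 yh10 zh17) (kh xh16 yh10 zh18) (kh xh15 yh6 zh10) (kh xh16 yh10 zh20) (kh xh16 yh10 zh21) (kh xh17 yh9 zh1) (kh xh15 yh6 zh17) (kh xh17 yh9 zh2) (kh xh15 yh11 zh32) (kh xh17 yh9 zh4) (kh xh15 yh6 zh20) (kh xh15 yh8 zh11) (kh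 xh17 yh9 zh7) (kh xh15 yh6 zh23) (kh xh17 yh4 zh16) (kh xh17 yh9 zh10) (kh xh15 yh6 zh26) (kh xh15 yh12 zh28) (kh xh17 yh9 zh6) (kh xh17 yh9 zh12) (kh xh15 yh6 zh29) (kh xh15 yh8 zh10) (kh xh15 yh12 zh21) (kh xh15 yh6 zh31) (kh xh17 yh9 zh16) (kh xh17 yh9 zh17) (kh xh15 yh6 zh33) (kh xh15 yh17 zh29) (kh xh17 yh9 zh20) (kh xh15 yh6 zh35) (kh xh17 yh9 zh18) (kh xh15 yh8 zh14) (kh xh17 yh9 zh24) (kh xh15 yh6 zh39)) (@D3.rec (fun _ => Pt) (kh xh17 yh4 zh24) (kh xh17 yh4 zh25) (kh xh15 yh6 zh42) (kh xh17 yh3 zh26) (kh xh17 yh9 zh31) (kh xh15 yh6 zh45) (kh xh17 yh9 zh33) (kh xh15 yh6 zh47) (kh xh17 yh9 zh32) (kh xh15 yh8 zh16) (kh xh16 yh23 zh3) (kh xh15 yh6 zh50) (kh xh17 yh9 zh39) (kh xh17 yh9 zh40) (kh xh15 yh7 zh1) (kh xh15 yh7 zh2) (kh xh15 yh7 zh7) (kh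 xh17 yh9 zh45) (kh xh15 yh7 zh5) (kh xh17 yh9 zh41) (kh xh17 yh9 zh43) (kh xh17 yh9 zh44) (kh xh15 yh8 zh21) (kh xh15 yh7 zh9) (kh xh17 yh4 zh44) (kh xh17 yh4 zh45) (kh xh17 yh4 zh46) (kh xh17 yh4 zh47) (kh xh15 yh7 zh14) (kh xh16 yh11 zh29) (kh xh17 yh10 zh8) (kh xh15 yh7 zh18) (kh xh16 yh11 zh32) (kh xh16 yh11 zh33) (kh xh16 yh11 zh34) (kh xh15 yh7 zh22) (kh xh15 yh7 zh50) (kh xh15 yh8 zh0) (kh xh15 yh8 zh1) (kh xh15 yh8 zh2) (kh xh17 yh10 zh18) (kh xh15 yh7 zh27) (kh xh16 yh11 zh42) (kh xh15 yh7 zh30) (kh xh16 yh11 zh44) (kh xh16 yh11 zh45) (kh xh16 yh11 zh46) (kh xh16 yh11 zh47) (kh xh15 yh8 zh3) (kh xh15 yh8 zh4) (kh xh15 yh8 zh5)) (@D3.rec (fun _ => Pt) (kh xh15 yh8 zh6) (kh xh15 yh8 zh7) (kh xh15 yh8 zh8) (kh xh15 yh7 zh41) (kh xh16 yh12 zh4) (kh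 xh16 yh12 zh5) (kh xh15 yh8 zh9) (kh xh17 yh10 zh12) (kh xh17 yh10 zh13) (kh xh17 yh10 zh14) (kh xh17 yh10 zh15) (kh xh17 yh10 zh16) (kh xh17 yh10 zh17) (kh xh17 yh10 zh24) (kh xh17 yh10 zh25) (kh xh17 yh10 zh26) (kh xh17 yh10 zh27) (kh xh17 yh10 zh28) (kh xh17 yh10 zh44) (kh xh15 yh8 zh12) (kh xh15 yh8 zh34) (kh xh15 yh8 zh19) (kh xh15 yh8 zh20) (kh xh17 yh10 zh47) (kh xh17 yh10 zh48) (kh xh17 yh6 zh34) (kh xh15 yh8 zh23) (kh xh17 yh7 zh42) (kh xh15 yh8 zh25) (kh xh15 yh8 zh26) (kh xh17 yh8 zh0) (kh xh15 yh8 zh28) (kh xh17 yh8 zh7) (kh xh15 yh8 zh31) (kh xh15 yh8 zh32) (kh xh17 yh10 zh45) (kh xh17 yh10 zh46) (kh xh15 yh8 zh37) (kh xh16 yh25 zh20) (kh xh16 yh12 zh39) (kh xh16 yh12 zh40) (kh xh15 yh8 zh42) (kh xh15 yh9 zh43) (kh xh15 yh8 zh45) (kh xh15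 yh8 zh47) (kh xh15 yh10 zh37) (kh xh15 yh18 zh41) (kh xh15 yh9 zh1) (kh xh15 yh9 zh3) (kh xh15 yh12 zh17) (kh xh17 yh11 zh14)) (@D3.rec (fun _ => Pt) (kh xh15 yh9 zh7) (kh xh17 yh11 zh16) (kh xh15 yh9 zh10) (kh xh17 yh11 zh18) (kh xh15 yh9 zh12) (kh xh17 yh11 zh17) (kh xh15 yh9 zh14) (kh xh15 yh12 zh40) (kh xh15 yh12 zh41) (kh xh15 yh9 zh18) (kh xh16 yh13 zh10) (kh xh15 yh9 zh20) (kh xh16 yh13 zh12) (kh xh16 yh13 zh13) (kh xh17 yh11 zh27) (kh xh15 yh9 zh30) (kh xh15 yh9 zh31) (kh xh15 yh9 zh33) (kh xh17 yh11 zh29) (kh xh16 yh22 zh35) (kh xh17 yh11 zh33) (kh xh15 yh9 zh38) (kh xh15 yh9 zh39) (kh xh15 yh9 zh50) (kh xh16 yh26 zh29) (kh xh15 yh10 zh0) (kh xh17 yh11 zh6) (kh xh15 yh9 zh44) (kh xh15 yh10 zh2) (kh xh17 yh11 zh35) (kh xh17 yh8 zh45) (kh xh17 yh8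 zh38) (kh xh15 yh10 zh5) (kh xh17 yh11 zh7) (kh xh17 yh11 zh42) (kh xh15 yh10 zh9) (kh xh16 yh13 zh36) (kh xh17 yh11 zh30) (kh xh16 yh13 zh38) (kh xh16 yh23 zh0) (kh xh17 yh11 zh47) (kh xh17 yh11 zh48) (kh xh15 yh10 zh16) (kh xh17 yh11 zh50) (kh xh15 yh10 zh18) (kh xh17 yh12 zh1) (kh xh15 yh10 zh21) (kh xh16 yh25 zh21) (kh xh17 yh12 zh4) (kh xh17 yh12 zh5) (kh xh15 yh10 zh24)) (@D3.rec (fun _ => Pt) (kh xh15 yh11 zh2) (kh xh15 yh10 zh26) (kh xh17 yh11 zh5) (kh xh17 yh12 zh10) (kh xh15 yh10 zh29) (kh xh15 yh11 zh6) (kh xh17 yh12 zh13) (kh xh15 yh10 zh32) (kh xh15 yh10 zh33) (kh xh17 yh12 zh14) (kh xh15 yh11 zh9) (kh xh17 yh11 zh8) (kh xh17 yh11 zh9) (kh xh15 yh11 zh11) (kh xh15 yh10 zh39) (kh xh16 yh14 zh15) (kh xh15 yh11 zh12) (kh xh15 yh11 zh13) (kh xh16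 yh14 zh18) (kh xh15 yh11 zh14) (kh xh15 yh10 zh48) (kh xh17 yh11 zh49) (kh xh17 yh12 zh2) (kh xh15 yh11 zh0) (kh xh17 yh12 zh29) (kh xh17 yh12 zh7) (kh xh15 yh11 zh4) (kh xh17 yh12 zh32) (kh xh17 yh12 zh12) (kh xh15 yh11 zh8) (kh xh17 yh12 zh36) (kh xh17 yh12 zh18) (kh xh17 yh12 zh21) (kh xh17 yh12 zh23) (kh xh17 yh12 zh24) (kh xh17 yh12 zh40) (kh xh17 yh12 zh41) (kh xh15 yh11 zh17) (kh xh17 yh12 zh43) (kh xh15 yh11 zh19) (kh xh16 yh14 zh40) (kh xh15 yh11 zh44) (kh xh16 yh23 zh10) (kh xh17 yh12 zh48) (kh xh15 yh11 zh23) (kh xh15 yh11 zh24) (kh xh17 yh2 zh29) (kh xh17 yh13 zh1) (kh xh15 yh11 zh27) (kh xh15 yh11 zh28) (kh xh17 yh13 zh4)) (@D3.rec (fun _ => Pt) (kh xh15 yh11 zh29) (kh xh16 yh15 zh1) (kh xh15 yh18 zh14) (kh xh17 yh13 zh8) (kh xh17 yh13 zh9)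 (kh xh15 yh11 zh34) (kh xh16 yh15 zh6) (kh xh17 yh13 zh12) (kh xh17 yh13 zh13) (kh xh15 yh11 zh38) (kh xh15 yh11 zh39) (kh xh17 yh13 zh14) (kh xh16 yh15 zh12) (kh xh15 yh11 zh42) (kh xh15 yh17 zh46) (kh xh17 yh12 zh46) (kh xh16 yh15 zh16) (kh xh15 yh11 zh47) (kh xh17 yh13 zh21) (kh xh15 yh12 zh3) (kh xh15 yh13 zh15) (kh xh15 yh12 zh5) (kh xh17 yh11 zh11) (kh xh17 yh13 zh26) (kh xh15 yh12 zh8) (kh xh15 yh13 zh16) (kh xh15 yh12 zh10) (kh xh17 yh13 zh30) (kh xh17 yh13 zh31) (kh xh15 yh12 zh12) (kh xh15 yh12 zh13) (kh xh17 yh13 zh32) (kh xh15 yh13 zh20) (kh xh15 yh15 zh7) (kh xh17 yh11 zh13) (kh xh17 yh13 zh39) (kh xh15 yh12 zh19) (kh xh17 yh13 zh41) (kh xh17 yh13 zh42) (kh xh15 yh12 zh23) (kh xh17 yh13 zh44) (kh xh15 yh12 zh25) (kh xh17 yh13 zh43) (kh xh15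 yh13 zh24) (kh xh17 yh13 zh48) (kh xh17 yh13 zh49) (kh xh15 yh12 zh30) (kh xh15 yh12 zh31) (kh xh15 yh12 zh36) (kh xh17 yh14 zh3) (kh xh15 yh12 zh34)) (@D3.rec (fun _ => Pt) (kh xh17 yh13 zh50) (kh xh17 yh14 zh1) (kh xh17 yh14 zh2) (kh xh15 yh13 zh28) (kh xh15 yh12 zh38) (kh xh17 yh11 zh21) (kh xh17 yh11 zh22) (kh xh17 yh11 zh23) (kh xh17 yh14 zh14) (kh xh15 yh12 zh43) (kh xh15 yh12 zh45) (kh xh16 yh16 zh11) (kh xh16 yh16 zh12) (kh xh15 yh13 zh29) (kh xh15 yh13 zh0) (kh xh16 yh16 zh15) (kh xh15 yh13 zh2) (kh xh16 yh16 zh17) (kh xh15 yh13 zh5) (kh xh16 yh16 zh19) (kh xh16 yh16 zh20) (kh xh15 yh13 zh11) (kh xh16 yh16 zh22) (kh xh17 yh13 zh23) (kh xh17 yh13 zh28) (kh xh15 yh13 zh17) (kh xh15 yh13 zh19) (kh xh17 yh14 zh25) (kh xh17 yh13 zh36) (kh xh15 yh13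 zh21) (kh xh15 yh13 zh23) (kh xh17 yh14 zh29) (kh xh16 yh16 zh32) (kh xh15 yh13 zh27) (kh xh17 yh14 zh31) (kh xh17 yh14 zh18) (kh xh15 yh13 zh32) (kh xh16 yh16 zh37) (kh xh16 yh16 zh38) (kh xh15 yh13 zh36) (kh xh15 yh13 zh47) (kh xh15 yh13 zh49) (kh xh15 yh14 zh0) (kh xh15 yh14 zh6) (kh xh15 yh16 zh11) (kh xh15 yh14 zh8) (kh xh17 yh4 zh10) (kh xh17 yh14 zh35) (kh xh17 yh14 zh37) (kh xh15 yh14 zh9) (kh xh17 yh14 zh41)) (@D3.rec (fun _ => Pt) (kh xh15 yh14 zh10) (kh xh16 yh17 zh1) (kh xh17 yh11 zh40) (kh xh16 yh17 zh3) (kh xh15 yh16 zh33) (kh xh15 yh14 zh17) (kh xh17 yh14 zh48) (kh xh17 yh14 zh49) (kh xh15 yh14 zh19) (kh xh15 yh14 zh20) (kh xh17 yh14 zh50) (kh xh15 yh14 zh34) (kh xh15 yh16 zh42) (kh xh15 yh16 zh43) (kh xh16 yh17 zh14) (kh xh16 yh17 zh15)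 (kh xh15 yh14 zh35) (kh xh15 yh14 zh36) (kh xh15 yh14 zh31) (kh xh15 yh14 zh33) (kh xh17 yh15 zh10) (kh xh17 yh15 zh3) (kh xh17 yh15 zh8) (kh xh17 yh15 zh13) (kh xh15 yh14 zh38) (kh xh16 yh17 zh25) (kh xh17 yh12 zh8) (kh xh15 yh14 zh43) (kh xh15 yh17 zh15) (kh xh16 yh26 zh33) (kh xh15 yh14 zh50) (kh xh15 yh17 zh23) (kh xh15 yh15 zh0) (kh xh17 yh15 zh21) (kh xh15 yh15 zh1) (kh xh16 yh17 zh35) (kh xh17 yh15 zh25) (kh xh15 yh15 zh4) (kh xh17 yh15 zh26) (kh xh16 yh17 zh39) (kh xh17 yh13 zh37) (kh xh16 yh17 zh41) (kh xh16 yh17 zh42) (kh xh15 yh15 zh11) (kh xh15 yh15 zh45) (kh xh15 yh15 zh13) (kh xh15 yh18 zh32) (kh xh15 yh15 zh15) (kh xh15 yh15 zh46) (kh xh16 yh25 zh10) (kh xh15 yh15 zh47)) (@D3.rec (fun _ => Pt) (kh xh15 yh18 zh42) (kh xh15 yh15 zh20) (kh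 xh15 yh15 zh48) (kh xh15 yh15 zh22) (kh xh15 yh15 zh23) (kh xh17 yh15 zh43) (kh xh15 yh16 zh0) (kh xh15 yh15 zh26) (kh xh15 yh15 zh30) (kh xh15 yh15 zh28) (kh xh16 yh25 zh5) (kh xh17 yh15 zh49) (kh xh17 yh15 zh50) (kh xh15 yh16 zh4) (kh xh15 yh15 zh32) (kh xh15 yh19 zh12) (kh xh15 yh19 zh13) (kh xh15 yh19 zh14) (kh xh15 yh16 zh5) (kh xh15 yh16 zh6) (kh xh17 yh15 zh33) (kh xh17 yh15 zh37) (kh xh17 yh15 zh42) (kh xh15 yh15 zh50) (kh xh17 yh16 zh10) (kh xh17 yh15 zh47) (kh xh16 yh18 zh26) (kh xh15 yh16 zh3) (kh xh17 yh16 zh6) (kh xh17 yh16 zh12) (kh xh15 yh16 zh8) (kh xh17 yh14 zh33) (kh xh17 yh14 zh36) (kh xh15 yh16 zh17) (kh xh15 yh16 zh13) (kh xh17 yh6 zh6) (kh xh17 yh6 zh1) (kh xh17 yh16 zh16) (kh xh17 yh16 zh21) (kh xh15 yh16 zh19) (kh xh17 yh16 zh23)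 (kh xh15 yh16 zh22) (kh xh17 yh11 zh15) (kh xh17 yh16 zh26) (kh xh15 yh16 zh25) (kh xh17 yh16 zh28) (kh xh15 yh16 zh28) (kh xh15 yh16 zh29) (kh xh17 yh16 zh29) (kh xh15 yh16 zh31) (kh xh17 yh14 zh32)) (@D3.rec (fun _ => Pt) (kh xh17 yh14 zh46) (kh xh17 yh16 zh35) (kh xh15 yh16 zh35) (kh xh15 yh16 zh36) (kh xh17 yh16 zh36) (kh xh15 yh16 zh38) (kh xh15 yh16 zh41) (kh xh17 yh16 zh39) (kh xh17 yh16 zh40) (kh xh17 yh15 zh4) (kh xh17 yh15 zh5) (kh xh15 yh16 zh44) (kh xh16 yh19 zh12) (kh xh16 yh19 zh13) (kh xh16 yh19 zh14) (kh xh16 yh19 zh15) (kh xh15 yh17 zh3) (kh xh15 yh19 zh35) (kh xh15 yh17 zh7) (kh xh17 yh6 zh4) (kh xh17 yh17 zh0) (kh xh15 yh17 zh8) (kh xh15 yh17 zh10) (kh xh17 yh15 zh17) (kh xh15 yh17 zh12) (kh xh16 yh26 zh47) (kh xh17 yh15 zh18) (kh xh15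 yh17 zh16) (kh xh15 yh17 zh18) (kh xh17 yh17 zh10) (kh xh15 yh17 zh20) (kh xh15 yh17 zh22) (kh xh17 yh17 zh13) (kh xh17 yh15 zh22) (kh xh17 yh17 zh16) (kh xh15 yh17 zh28) (kh xh17 yh17 zh18) (kh xh15 yh17 zh30) (kh xh15 yh19 zh43) (kh xh17 yh17 zh22) (kh xh15 yh17 zh33) (kh xh17 yh17 zh23) (kh xh15 yh19 zh47) (kh xh15 yh18 zh15) (kh xh17 yh17 zh27) (kh xh15 yh17 zh38) (kh xh15 yh17 zh40) (kh xh17 yh13 zh18) (kh xh15 yh17 zh42) (kh xh15 yh17 zh44) (kh xh17 yh17 zh32)) (@D3.rec (fun _ => Pt) (kh xh17 yh13 zh19) (kh xh15 yh17 zh47) (kh xh17 yh17 zh36) (kh xh17 yh17 zh37) (kh xh15 yh18 zh0) (kh xh15 yh18 zh1) (kh xh17 yh17 zh38) (kh xh15 yh18 zh3) (kh xh17 yh17 zh42) (kh xh17 yh17 zh43) (kh xh15 yh18 zh5) (kh xh15 yh18 zh6) (kh xh15 yh18 zh11) (kh xh17 yh17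 zh47) (kh xh15 yh18 zh9) (kh xh17 yh17 zh44) (kh xh17 yh17 zh46) (kh xh15 yh18 zh12) (kh xh17 yh12 zh50) (kh xh17 yh13 zh7) (kh xh17 yh17 zh26) (kh xh16 yh20 zh21) (kh xh16 yh20 zh22) (kh xh16 yh20 zh23) (kh xh15 yh18 zh21) (kh xh16 yh20 zh25) (kh xh16 yh20 zh26) (kh xh16 yh20 zh27) (kh xh15 yh18 zh28) (kh xh17 yh9 zh36) (kh xh15 yh18 zh30) (kh xh17 yh15 zh34) (kh xh17 yh15 zh35) (kh xh15 yh18 zh33) (kh xh15 yh19 zh9) (kh xh15 yh18 zh37) (kh xh16 yh25 zh6) (kh xh17 yh18 zh18) (kh xh15 yh18 zh49) (kh xh15 yh18 zh46) (kh xh15 yh18 zh39) (kh xh16 yh22 zh30) (kh xh17 yh11 zh10) (kh xh17 yh15 zh40) (kh xh15 yh18 zh43) (kh xh17 yh8 zh18) (kh xh17 yh18 zh24) (kh xh15 yh18 zh47) (kh xh17 yh18 zh23) (kh xh17 yh18 zh22) (kh xh17 yh18 zh35)) (@D3.rec (fun _ => Pt)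 (kh xh15 yh19 zh0) (kh xh15 yh19 zh1) (kh xh15 yh19 zh7) (kh xh17 yh17 zh45) (kh xh15 yh19 zh8) (kh xh15 yh19 zh5) (kh xh17 yh18 zh36) (kh xh17 yh18 zh38) (kh xh17 yh18 zh39) (kh xh17 yh18 zh41) (kh xh17 yh18 zh17) (kh xh17 yh18 zh16) (kh xh17 yh16 zh2) (kh xh17 yh16 zh7) (kh xh17 yh16 zh8) (kh xh17 yh16 zh9) (kh xh15 yh19 zh15) (kh xh15 yh20 zh17) (kh xh15 yh20 zh16) (kh xh15 yh20 zh18) (kh xh15 yh20 zh6) (kh xh15 yh19 zh34) (kh xh15 yh20 zh19) (kh xh15 yh20 zh20) (kh xh15 yh20 zh21) (kh xh15 yh20 zh13) (kh xh15 yh20 zh22) (kh xh15 yh20 zh23) (kh xh15 yh20 zh15) (kh xh17 yh16 zh50) (kh xh15 yh19 zh36) (kh xh15 yh19 zh38) (kh xh17 yh19 zh10) (kh xh17 yh17 zh17) (kh xh15 yh19 zh41) (kh xh17 yh19 zh12) (kh xh17 yh17 zh20) (kh xh17 yh17 zh21) (kh xh15 yh19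 zh44) (kh xh15 yh19 zh46) (kh xh17 yh19 zh16) (kh xh15 yh19 zh49) (kh xh17 yh19 zh6) (kh xh17 yh19 zh5) (kh xh15 yh20 zh7) (kh xh15 yh20 zh12) (kh xh16 yh21 zh46) (kh xh15 yh20 zh14) (kh xh17 yh19 zh20) (kh xh17 yh19 zh9) (kh xh17 yh19 zh4)) (@D3.rec (fun _ => Pt) (kh xh17 yh19 zh3) (kh xh17 yh19 zh7) (kh xh17 yh19 zh8) (kh xh15 yh20 zh26) (kh xh16 yh22 zh4) (kh xh15 yh20 zh32) (kh xh15 yh20 zh37) (kh xh17 yh19 zh24) (kh xh15 yh20 zh39) (kh xh15 yh20 zh41) (kh xh16 yh22 zh10) (kh xh17 yh19 zh27) (kh xh15 yh20 zh45) (kh xh17 yh19 zh29) (kh xh15 yh20 zh48) (kh xh15 yh20 zh50) (kh xh15 yh22 zh44) (kh xh15 yh21 zh1) (kh xh15 yh21 zh3) (kh xh17 yh19 zh33) (kh xh15 yh21 zh5) (kh xh15 yh21 zh7) (kh xh15 yh21 zh14) (kh xh15 yh21 zh15) (kh xh17 yh19 zh34) (kh xh17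 yh19 zh35) (kh xh15 yh21 zh16) (kh xh15 yh24 zh19) (kh xh15 yh21 zh21) (kh xh15 yh21 zh23) (kh xh16 yh20 zh41) (kh xh15 yh21 zh25) (kh xh16 yh22 zh32) (kh xh16 yh22 zh33) (kh xh15 yh25 zh44) (kh xh16 yh13 zh19) (kh xh17 yh19 zh46) (kh xh15 yh21 zh33) (kh xh15 yh26 zh11) (kh xh15 yh26 zh12) (kh xh15 yh21 zh36) (kh xh15 yh21 zh44) (kh xh15 yh21 zh45) (kh xh15 yh21 zh46) (kh xh15 yh21 zh47) (kh xh17 yh20 zh0) (kh xh17 yh20 zh1) (kh xh17 yh20 zh2) (kh xh15 yh24 zh10) (kh xh17 yh20 zh6) (kh xh15 yh21 zh49)) (@D3.rec (fun _ => Pt) (kh xh16 yh13 zh39) (kh xh17 yh20 zh8) (kh xh16 yh9 zh15) (kh xh16 yh11 zh10) (kh xh17 yh20 zh11) (kh xh15 yh22 zh1) (kh xh17 yh20 zh13) (kh xh15 yh22 zh3) (kh xh17 yh20 zh15) (kh xh15 yh22 zh6) (kh xh16 yh14 zh42) (kh xh17 yh20 zh17)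 (kh xh15 yh22 zh8) (kh xh15 yh22 zh31) (kh xh17 yh20 zh20) (kh xh15 yh22 zh10) (kh xh15 yh22 zh12) (kh xh17 yh20 zh23) (kh xh15 yh22 zh13) (kh xh16 yh23 zh19) (kh xh15 yh22 zh15) (kh xh17 yh20 zh14) (kh xh16 yh23 zh22) (kh xh17 yh20 zh29) (kh xh15 yh22 zh19) (kh xh16 yh23 zh25) (kh xh16 yh23 zh26) (kh xh16 yh23 zh27) (kh xh16 yh23 zh28) (kh xh15 yh22 zh26) (kh xh17 yh20 zh36) (kh xh15 yh22 zh29) (kh xh15 yh23 zh15) (kh xh17 yh20 zh39) (kh xh15 yh22 zh32) (kh xh17 yh19 zh28) (kh xh15 yh22 zh34) (kh xh17 yh20 zh43) (kh xh15 yh22 zh35) (kh xh15 yh23 zh19) (kh xh15 yh22 zh37) (kh xh17 yh20 zh47) (kh xh17 yh20 zh48) (kh xh15 yh22 zh39) (kh xh15 yh22 zh40) (kh xh17 yh20 zh49) (kh xh15 yh23 zh23) (kh xh17 yh19 zh31) (kh xh17 yh19 zh32) (kh xh15 yh22 zh45) (kh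 xh16 yh23 zh50)) (@D3.rec (fun _ => Pt) (kh xh15 yh23 zh24) (kh xh15 yh22 zh48) (kh xh15 yh23 zh10) (kh xh15 yh23 zh11) (kh xh16 yh24 zh4) (kh xh16 yh24 zh5) (kh xh16 yh24 zh6) (kh xh15 yh23 zh25) (kh xh15 yh23 zh12) (kh xh15 yh23 zh13) (kh xh15 yh23 zh14) (kh xh17 yh21 zh10) (kh xh17 yh21 zh11) (kh xh17 yh21 zh12) (kh xh17 yh21 zh16) (kh xh17 yh21 zh17) (kh xh17 yh20 zh38) (kh xh17 yh21 zh24) (kh xh15 yh23 zh17) (kh xh17 yh21 zh25) (kh xh17 yh20 zh45) (kh xh15 yh23 zh20) (kh xh15 yh23 zh22) (kh xh17 yh21 zh28) (kh xh17 yh21 zh2) (kh xh17 yh21 zh9) (kh xh17 yh21 zh31) (kh xh15 yh23 zh27) (kh xh15 yh23 zh28) (kh xh16 yh5 zh12) (kh xh17 yh21 zh34) (kh xh16 yh6 zh35) (kh xh17 yh21 zh36) (kh xh15 yh23 zh33) (kh xh17 yh21 zh37) (kh xh15 yh23 zh35) (kh xh15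 yh23 zh36) (kh xh17 yh21 zh40) (kh xh15 yh23 zh39) (kh xh16 yh24 zh39) (kh xh15 yh23 zh41) (kh xh17 yh19 zh37) (kh xh16 yh24 zh42) (kh xh15 yh23 zh47) (kh xh17 yh21 zh45) (kh xh17 yh21 zh46) (kh xh15 yh23 zh49) (kh xh15 yh24 zh0) (kh xh17 yh21 zh49) (kh xh15 yh24 zh3) (kh xh16 yh24 zh50)) (@D3.rec (fun _ => Pt) (kh xh15 yh24 zh5) (kh xh17 yh21 zh47) (kh xh16 yh25 zh2) (kh xh17 yh22 zh4) (kh xh15 yh24 zh11) (kh xh16 yh18 zh10) (kh xh16 yh20 zh36) (kh xh15 yh24 zh29) (kh xh17 yh22 zh9) (kh xh15 yh24 zh17) (kh xh16 yh17 zh49) (kh xh17 yh19 zh38) (kh xh15 yh24 zh20) (kh xh15 yh24 zh26) (kh xh15 yh24 zh27) (kh xh15 yh24 zh28) (kh xh17 yh22 zh14) (kh xh17 yh22 zh15) (kh xh16 yh9 zh12) (kh xh17 yh22 zh18) (kh xh16 yh12 zh38) (kh xh16 yh13 zh47) (kh xh17 yh22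 zh21) (kh xh15 yh24 zh32) (kh xh16 yh3 zh10) (kh xh17 yh22 zh24) (kh xh15 yh24 zh34) (kh xh16 yh9 zh4) (kh xh17 yh22 zh27) (kh xh17 yh22 zh28) (kh xh15 yh24 zh38) (kh xh17 yh22 zh30) (kh xh17 yh22 zh31) (kh xh15 yh24 zh41) (kh xh16 yh25 zh34) (kh xh15 yh24 zh43) (kh xh15 yh25 zh17) (kh xh15 yh25 zh32) (kh xh17 yh22 zh37) (kh xh15 yh24 zh46) (kh xh17 yh22 zh39) (kh xh15 yh24 zh49) (kh xh17 yh22 zh41) (kh xh15 yh25 zh0) (kh xh16 yh25 zh44) (kh xh17 yh22 zh44) (kh xh15 yh25 zh3) (kh xh17 yh22 zh25) (kh xh17 yh22 zh47) (kh xh15 yh25 zh6) (kh xh16 yh25 zh50)) (@D3.rec (fun _ => Pt) (kh xh17 yh22 zh50) (kh xh17 yh23 zh0) (kh xh15 yh25 zh10) (kh xh15 yh25 zh11) (kh xh17 yh23 zh1) (kh xh16 yh26 zh5) (kh xh17 yh23 zh6) (kh xh15 yh25 zh15) (kh xh17 yh22 zh34) (kh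 xh17 yh22 zh35) (kh xh16 yh26 zh10) (kh xh16 yh26 zh11) (kh xh15 yh25 zh20) (kh xh16 yh26 zh13) (kh xh16 yh26 zh14) (kh xh16 yh26 zh15) (kh xh15 yh25 zh26) (kh xh16 yh26 zh17) (kh xh16 yh26 zh18) (kh xh16 yh26 zh19) (kh xh16 yh26 zh20) (kh xh16 yh9 zh9) (kh xh17 yh23 zh19) (kh xh15 yh25 zh33) (kh xh17 yh19 zh30) (kh xh17 yh23 zh22) (kh xh15 yh25 zh36) (kh xh15 yh25 zh37) (kh xh15 yh26 zh46) (kh xh16 yh13 zh24) (kh xh15 yh26 zh47) (kh xh17 yh23 zh29) (kh xh15 yh25 zh42) (kh xh16 yh17 zh29) (kh xh17 yh19 zh44) (kh xh17 yh23 zh34) (kh xh15 yh25 zh46) (kh xh15 yh26 zh40) (kh xh17 yh23 zh37) (kh xh15 yh25 zh49) (kh xh15 yh25 zh50) (kh xh17 yh23 zh38) (kh xh16 yh0 zh2) (kh xh15 yh26 zh2) (kh xh15 yh26 zh7) (kh xh17 yh23 zh46) (kh xh15 yh26 zh5) (kh xh16 yh19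 zh25) (kh xh17 yh23 zh44) (kh xh17 yh23 zh45) (kh xh16 yh0 zh6))
def f_h_17 : D2 → D3 → Pt := @D2.rec (fun _ => D3 → Pt) (@D3.rec (fun _ => Pt) (kh xh15 yh26 zh9) (kh xh17 yh19 zh47) (kh xh17 yh19 zh48) (kh xh17 yh19 zh49) (kh xh17 yh19 zh50) (kh xh15 yh26 zh44) (kh xh16 yh0 zh7) (kh xh16 yh0 zh8) (kh xh15 yh26 zh16) (kh xh15 yh26 zh35) (kh xh15 yh26 zh36) (kh xh15 yh26 zh37) (kh xh15 yh26 zh38) (kh xh16 yh0 zh9) (kh xh15 yh26 zh23) (kh xh16 yh0 zh10) (kh xh15 yh26 zh39) (kh xh15 yh26 zh41) (kh xh15 yh26 zh42) (kh xh15 yh26 zh43) (kh xh17 yh24 zh10) (kh xh17 yh24 zh11) (kh xh17 yh24 zh12) (kh xh17 yh24 zh13) (kh xh17 yh23 zh23) (kh xh17 yh24 zh14) (kh xh17 yh23 zh36) (kh xh17 yh24 zh15) (kh xh17 yh24 zh23) (kh xh17 yh23 zh25) (kh xh17 yh23 zh28) (kh xh15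 yh26 zh48) (kh xh17 yh24 zh8) (kh xh15 yh26 zh50) (kh xh16 yh0 zh1) (kh xh17 yh24 zh25) (kh xh17 yh23 zh42) (kh xh17 yh0 zh37) (kh xh16 yh0 zh5) (kh xh17 yh24 zh27) (kh xh17 yh24 zh1) (kh xh17 yh24 zh9) (kh xh17 yh0 zh42) (kh xh17 yh0 zh43) (kh xh17 yh0 zh44) (kh xh17 yh0 zh45) (kh xh17 yh0 zh46) (kh xh17 yh0 zh47) (kh xh17 yh0 zh48) (kh xh17 yh0 zh49) (kh xh17 yh0 zh50)) (@D3.rec (fun _ => Pt) (kh xh16 yh0 zh39) (kh xh16 yh0 zh40) (kh xh17 yh1 zh2) (kh xh17 yh1 zh3) (kh xh17 yh1 zh4) (kh xh17 yh1 zh5) (kh xh17 yh24 zh29) (kh xh16 yh1 zh6) (kh xh16 yh1 zh7) (kh xh17 yh24 zh31) (kh xh16 yh1 zh11) (kh xh17 yh24 zh32) (kh xh16 yh1 zh13) (kh xh17 yh24 zh34) (kh xh16 yh1 zh15) (kh xh17 yh1 zh15) (kh xh16 yh1 zh19) (kh xh17 yh1 zh17) (kh xh17 yh24 zh37) (kh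 xh16 yh1 zh24) (kh xh16 yh1 zh25) (kh xh16 yh1 zh27) (kh xh16 yh1 zh35) (kh xh16 yh1 zh29) (kh xh16 yh6 zh31) (kh xh16 yh1 zh34) (kh xh17 yh24 zh43) (kh xh17 yh24 zh40) (kh xh16 yh5 zh15) (kh xh16 yh4 zh30) (kh xh17 yh24 zh46) (kh xh16 yh1 zh37) (kh xh17 yh24 zh48) (kh xh16 yh1 zh39) (kh xh16 yh1 zh41) (kh xh17 yh25 zh0) (kh xh16 yh1 zh44) (kh xh17 yh25 zh2) (kh xh16 yh1 zh46) (kh xh17 yh1 zh39) (kh xh17 yh25 zh5) (kh xh16 yh1 zh49) (kh xh17 yh24 zh49) (kh xh17 yh1 zh43) (kh xh17 yh1 zh44) (kh xh16 yh2 zh2) (kh xh17 yh1 zh46) (kh xh17 yh1 zh47) (kh xh17 yh1 zh48) (kh xh16 yh2 zh10) (kh xh16 yh7 zh7)) (@D3.rec (fun _ => Pt) (kh xh16 yh2 zh13) (kh xh16 yh2 zh31) (kh xh16 yh2 zh15) (kh xh17 yh25 zh16) (kh xh16 yh2 zh34) (kh xh16 yh2 zh18) (kh xh16 yh7 zh14)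 (kh xh16 yh7 zh15) (kh xh16 yh2 zh35) (kh xh16 yh2 zh28) (kh xh16 yh2 zh29) (kh xh16 yh2 zh30) (kh xh17 yh25 zh24) (kh xh17 yh25 zh25) (kh xh17 yh25 zh15) (kh xh16 yh2 zh33) (kh xh17 yh25 zh26) (kh xh17 yh25 zh19) (kh xh16 yh2 zh36) (kh xh16 yh2 zh38) (kh xh16 yh7 zh40) (kh xh17 yh25 zh30) (kh xh16 yh2 zh41) (kh xh17 yh25 zh31) (kh xh16 yh2 zh43) (kh xh17 yh2 zh25) (kh xh16 yh7 zh38) (kh xh17 yh25 zh35) (kh xh16 yh2 zh49) (kh xh16 yh14 zh46) (kh xh16 yh7 zh43) (kh xh17 yh25 zh38) (kh xh16 yh3 zh0) (kh xh17 yh25 zh40) (kh xh16 yh3 zh2) (kh xh17 yh25 zh42) (kh xh16 yh3 zh5) (kh xh16 yh3 zh6) (kh xh17 yh25 zh44) (kh xh16 yh3 zh9) (kh xh17 yh25 zh46) (kh xh17 yh25 zh47) (kh xh16 yh3 zh12) (kh xh17 yh2 zh43) (kh xh16 yh3 zh14) (kh xh17 yh25 zh41) (kh xh17 yh2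 zh46) (kh xh16 yh3 zh18) (kh xh17 yh2 zh48) (kh xh17 yh2 zh49) (kh xh17 yh2 zh50)) (@D3.rec (fun _ => Pt) (kh xh16 yh3 zh26) (kh xh16 yh3 zh28) (kh xh17 yh26 zh6) (kh xh16 yh3 zh31) (kh xh16 yh8 zh22) (kh xh16 yh3 zh33) (kh xh16 yh3 zh34) (kh xh16 yh4 zh5) (kh xh16 yh3 zh36) (kh xh17 yh23 zh30) (kh xh16 yh4 zh6) (kh xh16 yh8 zh32) (kh xh16 yh8 zh33) (kh xh16 yh4 zh7) (kh xh16 yh4 zh8) (kh xh17 yh3 zh15) (kh xh17 yh3 zh16) (kh xh17 yh3 zh17) (kh xh16 yh4 zh9) (kh xh16 yh4 zh3) (kh xh16 yh4 zh4) (kh xh17 yh26 zh23) (kh xh17 yh26 zh10) (kh xh17 yh26 zh11) (kh xh17 yh26 zh15) (kh xh17 yh26 zh19) (kh xh16 yh11 zh3) (kh xh16 yh9 zh6) (kh xh17 yh26 zh29) (kh xh16 yh4 zh11) (kh xh17 yh26 zh31) (kh xh16 yh4 zh13) (kh xh17 yh26 zh33) (kh xh16 yh4 zh16) (kh xh16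 yh4 zh17) (kh xh17 yh26 zh36) (kh xh17 yh26 zh37) (kh xh16 yh4 zh19) (kh xh17 yh3 zh38) (kh xh16 yh4 zh21) (kh xh16 yh4 zh40) (kh xh16 yh4 zh23) (kh xh16 yh4 zh25) (kh xh17 yh26 zh44) (kh xh16 yh4 zh26) (kh xh17 yh3 zh45) (kh xh16 yh4 zh28) (kh xh17 yh26 zh32) (kh xh17 yh26 zh49) (kh xh16 yh4 zh31) (kh xh17 yh3 zh50)) (@D3.rec (fun _ => Pt) (kh xh18 yh0 zh1) (kh xh16 yh4 zh34) (kh xh16 yh4 zh35) (kh xh18 yh0 zh2) (kh xh17 yh4 zh4) (kh xh16 yh4 zh38) (kh xh17 yh26 zh40) (kh xh17 yh26 zh41) (kh xh17 yh4 zh8) (kh xh17 yh4 zh9) (kh xh16 yh16 zh46) (kh xh17 yh4 zh11) (kh xh17 yh4 zh12) (kh xh17 yh4 zh13) (kh xh17 yh4 zh14) (kh xh16 yh5 zh2) (kh xh16 yh10 zh31) (kh xh16 yh5 zh4) (kh xh18 yh0 zh19) (kh xh18 yh0 zh20) (kh xh16 yh5 zh6) (kh xh16 yh5 zh7) (kh xh18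 yh0 zh21) (kh xh16 yh6 zh8) (kh xh16 yh11 zh0) (kh xh16 yh11 zh1) (kh xh18 yh0 zh28) (kh xh16 yh5 zh13) (kh xh18 yh0 zh30) (kh xh18 yh0 zh31) (kh xh16 yh5 zh17) (kh xh16 yh5 zh18) (kh xh18 yh0 zh32) (kh xh16 yh6 zh14) (kh xh18 yh0 zh37) (kh xh16 yh5 zh22) (kh xh16 yh5 zh23) (kh xh16 yh5 zh27) (kh xh16 yh5 zh25) (kh xh18 yh0 zh38) (kh xh18 yh0 zh40) (kh xh18 yh0 zh41) (kh xh16 yh6 zh19) (kh xh16 yh5 zh29) (kh xh16 yh11 zh24) (kh xh16 yh11 zh25) (kh xh16 yh11 zh26) (kh xh16 yh11 zh27) (kh xh17 yh4 zh48) (kh xh16 yh6 zh0) (kh xh17 yh4 zh50)) (@D3.rec (fun _ => Pt) (kh xh17 yh5 zh0) (kh xh16 yh6 zh1) (kh xh17 yh5 zh2) (kh xh17 yh5 zh3) (kh xh17 yh5 zh4) (kh xh17 yh5 zh5) (kh xh16 yh6 zh3) (kh xh16 yh6 zh2) (kh xh16 yh6 zh4) (kh xh18 yh0 zh36) (kh xh18 yh0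 zh48) (kh xh18 yh1 zh13) (kh xh16 yh6 zh5) (kh xh16 yh6 zh7) (kh xh18 yh1 zh15) (kh xh16 yh6 zh9) (kh xh18 yh1 zh16) (kh xh16 yh6 zh11) (kh xh16 yh6 zh13) (kh xh18 yh1 zh18) (kh xh17 yh5 zh20) (kh xh16 yh6 zh17) (kh xh16 yh6 zh18) (kh xh18 yh1 zh21) (kh xh18 yh1 zh22) (kh xh16 yh6 zh20) (kh xh16 yh6 zh22) (kh xh17 yh5 zh27) (kh xh17 yh24 zh30) (kh xh17 yh5 zh29) (kh xh16 yh6 zh27) (kh xh17 yh24 zh38) (kh xh17 yh24 zh41) (kh xh17 yh24 zh42) (kh xh16 yh6 zh34) (kh xh18 yh1 zh33) (kh xh16 yh6 zh36) (kh xh16 yh6 zh38) (kh xh16 yh7 zh22) (kh xh16 yh6 zh40) (kh xh16 yh6 zh48) (kh xh18 yh1 zh39) (kh xh16 yh6 zh43) (kh xh16 yh6 zh45) (kh xh18 yh1 zh34) (kh xh18 yh1 zh37) (kh xh18 yh1 zh38) (kh xh17 yh5 zh47) (kh xh17 yh5 zh48) (kh xh16 yh7 zh1) (kh xh16 yh7 zh3))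 (@D3.rec (fun _ => Pt) (kh xh17 yh25 zh12) (kh xh16 yh18 zh36) (kh xh17 yh24 zh39) (kh xh17 yh25 zh13) (kh xh16 yh19 zh19) (kh xh16 yh7 zh11) (kh xh16 yh18 zh35) (kh xh18 yh2 zh4) (kh xh16 yh7 zh12) (kh xh17 yh25 zh20) (kh xh17 yh25 zh21) (kh xh17 yh25 zh22) (kh xh17 yh25 zh23) (kh xh16 yh7 zh23) (kh xh16 yh7 zh24) (kh xh16 yh7 zh25) (kh xh16 yh7 zh26) (kh xh18 yh1 zh36) (kh xh18 yh2 zh13) (kh xh18 yh2 zh16) (kh xh16 yh7 zh27) (kh xh18 yh1 zh47) (kh xh16 yh7 zh30) (kh xh16 yh7 zh32) (kh xh17 yh6 zh24) (kh xh17 yh25 zh28) (kh xh16 yh7 zh35) (kh xh18 yh2 zh23) (kh xh17 yh6 zh28) (kh xh17 yh25 zh34) (kh xh18 yh2 zh27) (kh xh16 yh7 zh41) (kh xh18 yh2 zh29) (kh xh16 yh7 zh44) (kh xh16 yh12 zh25) (kh xh16 yh7 zh46) (kh xh16 yh8 zh4) (kh xh18 yh2 zh34) (kh xh16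 yh7 zh49) (kh xh18 yh2 zh36) (kh xh16 yh8 zh1) (kh xh18 yh2 zh28) (kh xh18 yh2 zh32) (kh xh18 yh2 zh33) (kh xh16 yh8 zh5) (kh xh17 yh6 zh45) (kh xh17 yh6 zh46) (kh xh17 yh6 zh47) (kh xh17 yh6 zh48) (kh xh18 yh2 zh46) (kh xh16 yh8 zh11)) (@D3.rec (fun _ => Pt) (kh xh16 yh8 zh13) (kh xh17 yh26 zh4) (kh xh18 yh2 zh50) (kh xh16 yh8 zh16) (kh xh18 yh3 zh1) (kh xh16 yh8 zh18) (kh xh18 yh3 zh0) (kh xh16 yh8 zh20) (kh xh17 yh26 zh7) (kh xh17 yh26 zh8) (kh xh18 yh3 zh8) (kh xh16 yh8 zh24) (kh xh18 yh3 zh9) (kh xh18 yh3 zh11) (kh xh16 yh8 zh27) (kh xh16 yh8 zh28) (kh xh16 yh8 zh31) (kh xh18 yh3 zh12) (kh xh18 yh3 zh14) (kh xh17 yh26 zh16) (kh xh17 yh26 zh17) (kh xh17 yh26 zh18) (kh xh16 yh8 zh34) (kh xh17 yh7 zh23) (kh xh17 yh7 zh24) (kh xh16 yh8 zh44) (kh xh16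 yh8 zh45) (kh xh16 yh8 zh46) (kh xh17 yh7 zh28) (kh xh17 yh7 zh29) (kh xh16 yh8 zh47) (kh xh18 yh3 zh24) (kh xh18 yh3 zh25) (kh xh18 yh3 zh26) (kh xh18 yh3 zh31) (kh xh16 yh8 zh49) (kh xh16 yh8 zh50) (kh xh16 yh9 zh2) (kh xh18 yh3 zh34) (kh xh16 yh9 zh5) (kh xh18 yh3 zh35) (kh xh16 yh9 zh7) (kh xh16 yh12 zh27) (kh xh18 yh3 zh37) (kh xh16 yh9 zh10) (kh xh16 yh9 zh41) (kh xh18 yh3 zh40) (kh xh16 yh9 zh13) (kh xh18 yh3 zh42) (kh xh18 yh3 zh43) (kh xh16 yh9 zh16)) (@D3.rec (fun _ => Pt) (kh xh16 yh12 zh30) (kh xh18 yh3 zh47) (kh xh18 yh3 zh48) (kh xh16 yh9 zh20) (kh xh18 yh3 zh50) (kh xh16 yh9 zh22) (kh xh18 yh3 zh49) (kh xh16 yh12 zh32) (kh xh16 yh9 zh25) (kh xh16 yh10 zh2) (kh xh16 yh10 zh3) (kh xh16 yh9 zh28) (kh xh18 yh4 zh9) (kh xh16 yh9 zh31) (kh xh18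 yh3 zh33) (kh xh16 yh9 zh33) (kh xh18 yh4 zh13) (kh xh16 yh9 zh36) (kh xh16 yh20 zh45) (kh xh18 yh4 zh16) (kh xh16 yh9 zh39) (kh xh18 yh3 zh38) (kh xh18 yh3 zh39) (kh xh16 yh9 zh42) (kh xh18 yh4 zh21) (kh xh18 yh4 zh23) (kh xh16 yh9 zh45) (kh xh16 yh9 zh46) (kh xh16 yh9 zh50) (kh xh16 yh9 zh48) (kh xh18 yh4 zh24) (kh xh18 yh4 zh26) (kh xh16 yh10 zh0) (kh xh18 yh4 zh4) (kh xh18 yh4 zh5) (kh xh18 yh4 zh6) (kh xh18 yh4 zh7) (kh xh16 yh10 zh4) (kh xh16 yh13 zh31) (kh xh16 yh10 zh7) (kh xh17 yh8 zh40) (kh xh17 yh8 zh41) (kh xh17 yh8 zh42) (kh xh17 yh8 zh43) (kh xh16 yh10 zh11) (kh xh16 yh13 zh30) (kh xh17 yh8 zh46) (kh xh17 yh8 zh47) (kh xh17 yh8 zh48) (kh xh17 yh8 zh49) (kh xh17 yh8 zh50)) (@D3.rec (fun _ => Pt) (kh xh17 yh9 zh0) (kh xh16 yh10 zh22) (kh xh16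 yh10 zh24) (kh xh18 yh4 zh50) (kh xh16 yh10 zh26) (kh xh18 yh4 zh49) (kh xh16 yh10 zh35) (kh xh16 yh10 zh29) (kh xh18 yh0 zh16) (kh xh18 yh0 zh17) (kh xh16 yh10 zh32) (kh xh18 yh5 zh3) (kh xh16 yh10 zh36) (kh xh18 yh5 zh2) (kh xh18 yh5 zh11) (kh xh18 yh5 zh12) (kh xh16 yh10 zh41) (kh xh16 yh10 zh42) (kh xh16 yh10 zh47) (kh xh18 yh5 zh16) (kh xh16 yh10 zh45) (kh xh18 yh5 zh13) (kh xh18 yh5 zh15) (kh xh18 yh4 zh48) (kh xh16 yh10 zh49) (kh xh17 yh26 zh9) (kh xh18 yh0 zh25) (kh xh18 yh0 zh26) (kh xh18 yh0 zh27) (kh xh18 yh4 zh8) (kh xh18 yh5 zh29) (kh xh16 yh11 zh4) (kh xh16 yh11 zh8) (kh xh16 yh11 zh6) (kh xh18 yh5 zh30) (kh xh18 yh5 zh31) (kh xh16 yh20 zh29) (kh xh18 yh5 zh37) (kh xh18 yh5 zh38) (kh xh16 yh11 zh12) (kh xh16 yh11 zh13) (kh xh16 yh11 zh19)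 (kh xh18 yh4 zh25) (kh xh16 yh11 zh20) (kh xh16 yh11 zh21) (kh xh16 yh11 zh17) (kh xh18 yh5 zh39) (kh xh18 yh5 zh41) (kh xh18 yh5 zh42) (kh xh18 yh5 zh45) (kh xh18 yh5 zh46)) (@D3.rec (fun _ => Pt) (kh xh18 yh5 zh47) (kh xh18 yh0 zh49) (kh xh18 yh0 zh50) (kh xh18 yh1 zh0) (kh xh18 yh1 zh1) (kh xh18 yh1 zh2) (kh xh18 yh1 zh3) (kh xh17 yh10 zh7) (kh xh16 yh11 zh30) (kh xh17 yh10 zh9) (kh xh17 yh10 zh10) (kh xh17 yh10 zh11) (kh xh16 yh12 zh7) (kh xh16 yh12 zh8) (kh xh16 yh12 zh9) (kh xh16 yh12 zh10) (kh xh16 yh12 zh11) (kh xh16 yh12 zh12) (kh xh16 yh11 zh40) (kh xh17 yh10 zh19) (kh xh17 yh10 zh20) (kh xh17 yh10 zh21) (kh xh17 yh10 zh22) (kh xh17 yh10 zh23) (kh xh16 yh12 zh13) (kh xh16 yh12 zh14) (kh xh16 yh12 zh15) (kh xh16 yh12 zh16) (kh xh16 yh12 zh17)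 (kh xh18 yh6 zh33) (kh xh17 yh10 zh30) (kh xh17 yh10 zh31) (kh xh18 yh6 zh18) (kh xh18 yh6 zh19) (kh xh18 yh6 zh20) (kh xh18 yh6 zh21) (kh xh18 yh6 zh22) (kh xh18 yh6 zh23) (kh xh18 yh6 zh24) (kh xh18 yh6 zh42) (kh xh18 yh6 zh29) (kh xh18 yh6 zh44) (kh xh18 yh6 zh31) (kh xh18 yh6 zh47) (kh xh16 yh12 zh18) (kh xh16 yh12 zh35) (kh xh16 yh12 zh36) (kh xh16 yh12 zh23) (kh xh16 yh12 zh24) (kh xh18 yh7 zh0) (kh xh18 yh2 zh31)) (@D3.rec (fun _ => Pt) (kh xh18 yh3 zh41) (kh xh18 yh3 zh45) (kh xh18 yh3 zh46) (kh xh18 yh4 zh3) (kh xh18 yh6 zh49) (kh xh16 yh14 zh2) (kh xh16 yh13 zh26) (kh xh16 yh13 zh33) (kh xh16 yh14 zh11) (kh xh16 yh14 zh12) (kh xh16 yh20 zh42) (kh xh16 yh15 zh22) (kh xh17 yh20 zh35) (kh xh16 yh15 zh34) (kh xh16 yh12 zh50) (kh xh16 yh18 zh42) (kh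 xh16 yh13 zh1) (kh xh16 yh13 zh5) (kh xh16 yh13 zh3) (kh xh18 yh7 zh16) (kh xh18 yh7 zh17) (kh xh16 yh16 zh5) (kh xh16 yh16 zh6) (kh xh16 yh16 zh7) (kh xh17 yh11 zh24) (kh xh17 yh11 zh25) (kh xh17 yh11 zh26) (kh xh16 yh13 zh14) (kh xh17 yh11 zh28) (kh xh16 yh13 zh18) (kh xh16 yh13 zh37) (kh xh18 yh7 zh29) (kh xh17 yh19 zh45) (kh xh16 yh13 zh20) (kh xh17 yh23 zh24) (kh xh16 yh13 zh29) (kh xh17 yh23 zh26) (kh xh17 yh23 zh27) (kh xh18 yh7 zh6) (kh xh18 yh4 zh37) (kh xh16 yh17 zh2) (kh xh18 yh7 zh7) (kh xh16 yh13 zh34) (kh xh18 yh7 zh41) (kh xh17 yh11 zh44) (kh xh18 yh7 zh30) (kh xh18 yh7 zh45) (kh xh16 yh13 zh40) (kh xh16 yh13 zh41) (kh xh16 yh14 zh21) (kh xh16 yh13 zh43)) (@D3.rec (fun _ => Pt) (kh xh17 yh19 zh25) (kh xh16 yh13 zh45) (kh xh16 yh14 zh22)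 (kh xh18 yh8 zh2) (kh xh16 yh13 zh48) (kh xh16 yh13 zh49) (kh xh18 yh8 zh3) (kh xh16 yh14 zh25) (kh xh16 yh17 zh26) (kh xh18 yh7 zh5) (kh xh16 yh14 zh3) (kh xh18 yh8 zh10) (kh xh16 yh14 zh28) (kh xh16 yh14 zh6) (kh xh16 yh14 zh9) (kh xh18 yh8 zh14) (kh xh18 yh8 zh15) (kh xh18 yh8 zh16) (kh xh16 yh14 zh31) (kh xh18 yh7 zh8) (kh xh18 yh7 zh9) (kh xh16 yh14 zh32) (kh xh17 yh12 zh22) (kh xh16 yh14 zh33) (kh xh16 yh14 zh34) (kh xh17 yh12 zh25) (kh xh18 yh7 zh46) (kh xh18 yh7 zh48) (kh xh18 yh8 zh1) (kh xh16 yh14 zh24) (kh xh18 yh8 zh30) (kh xh18 yh8 zh7) (kh xh16 yh14 zh27) (kh xh18 yh8 zh33) (kh xh18 yh8 zh34) (kh xh18 yh8 zh13) (kh xh16 yh14 zh30) (kh xh18 yh8 zh37) (kh xh18 yh8 zh24) (kh xh18 yh8 zh26) (kh xh16 yh14 zh35) (kh xh16 yh14 zh36) (kh xh17 yh12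 zh42) (kh xh16 yh14 zh38) (kh xh18 yh8 zh41) (kh xh17 yh12 zh45) (kh xh16 yh15 zh15) (kh xh18 yh8 zh45) (kh xh16 yh14 zh43) (kh xh17 yh12 zh49) (kh xh16 yh20 zh18)) (@D3.rec (fun _ => Pt) (kh xh18 yh8 zh49) (kh xh16 yh14 zh47) (kh xh17 yh13 zh2) (kh xh18 yh9 zh1) (kh xh16 yh14 zh50) (kh xh18 yh9 zh2) (kh xh17 yh13 zh6) (kh xh16 yh20 zh19) (kh xh16 yh15 zh3) (kh xh16 yh15 zh4) (kh xh18 yh9 zh6) (kh xh17 yh13 zh11) (kh xh16 yh15 zh7) (kh xh16 yh15 zh8) (kh xh16 yh15 zh11) (kh xh18 yh9 zh10) (kh xh18 yh9 zh12) (kh xh18 yh9 zh13) (kh xh16 yh19 zh47) (kh xh16 yh20 zh0) (kh xh18 yh8 zh44) (kh xh16 yh15 zh18) (kh xh17 yh20 zh37) (kh xh16 yh16 zh23) (kh xh18 yh0 zh7) (kh xh18 yh7 zh11) (kh xh16 yh15 zh23) (kh xh18 yh2 zh30) (kh xh16 yh16 zh24) (kh xh18 yh9 zh30)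 (kh xh16 yh15 zh27) (kh xh16 yh15 zh28) (kh xh16 yh15 zh31) (kh xh18 yh9 zh31) (kh xh18 yh9 zh33) (kh xh18 yh9 zh34) (kh xh16 yh16 zh28) (kh xh16 yh17 zh40) (kh xh18 yh7 zh13) (kh xh16 yh15 zh35) (kh xh18 yh3 zh36) (kh xh16 yh15 zh37) (kh xh16 yh15 zh38) (kh xh16 yh15 zh42) (kh xh16 yh15 zh40) (kh xh18 yh9 zh45) (kh xh18 yh9 zh47) (kh xh18 yh9 zh48) (kh xh16 yh15 zh44) (kh xh16 yh15 zh45) (kh xh16 yh16 zh0)) (@D3.rec (fun _ => Pt) (kh xh18 yh9 zh11) (kh xh16 yh16 zh1) (kh xh16 yh16 zh2) (kh xh16 yh15 zh49) (kh xh18 yh10 zh3) (kh xh18 yh10 zh5) (kh xh18 yh10 zh6) (kh xh18 yh10 zh9) (kh xh18 yh10 zh10) (kh xh18 yh10 zh11) (kh xh17 yh26 zh42) (kh xh18 yh7 zh22) (kh xh18 yh7 zh23) (kh xh18 yh7 zh24) (kh xh16 yh16 zh8) (kh xh17 yh14 zh15) (kh xh17 yh14 zh16)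 (kh xh17 yh14 zh17) (kh xh16 yh16 zh35) (kh xh17 yh14 zh19) (kh xh17 yh14 zh20) (kh xh17 yh14 zh21) (kh xh17 yh14 zh22) (kh xh18 yh9 zh23) (kh xh17 yh14 zh24) (kh xh16 yh16 zh27) (kh xh18 yh10 zh28) (kh xh18 yh9 zh40) (kh xh17 yh14 zh28) (kh xh16 yh16 zh31) (kh xh17 yh14 zh30) (kh xh16 yh16 zh34) (kh xh16 yh18 zh50) (kh xh16 yh18 zh31) (kh xh18 yh1 zh35) (kh xh16 yh16 zh47) (kh xh16 yh18 zh32) (kh xh16 yh16 zh48) (kh xh18 yh0 zh13) (kh xh18 yh10 zh36) (kh xh18 yh10 zh38) (kh xh16 yh16 zh50) (kh xh18 yh10 zh39) (kh xh17 yh14 zh43) (kh xh18 yh7 zh39) (kh xh17 yh14 zh45) (kh xh16 yh19 zh0) (kh xh18 yh10 zh45) (kh xh16 yh17 zh6) (kh xh16 yh17 zh7) (kh xh16 yh17 zh10)) (@D3.rec (fun _ => Pt) (kh xh18 yh10 zh46) (kh xh18 yh10 zh48) (kh xh18 yh10 zh49) (kh xh16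 yh17 zh21) (kh xh16 yh19 zh9) (kh xh16 yh19 zh10) (kh xh17 yh15 zh6) (kh xh17 yh15 zh7) (kh xh16 yh17 zh22) (kh xh17 yh15 zh9) (kh xh16 yh17 zh20) (kh xh18 yh11 zh9) (kh xh18 yh11 zh4) (kh xh16 yh17 zh23) (kh xh18 yh11 zh10) (kh xh17 yh15 zh15) (kh xh18 yh8 zh8) (kh xh16 yh19 zh23) (kh xh16 yh19 zh26) (kh xh17 yh23 zh31) (kh xh17 yh23 zh32) (kh xh16 yh17 zh33) (kh xh16 yh19 zh33) (kh xh18 yh1 zh48) (kh xh17 yh15 zh24) (kh xh16 yh17 zh36) (kh xh16 yh17 zh38) (kh xh18 yh11 zh24) (kh xh18 yh11 zh25) (kh xh17 yh15 zh29) (kh xh18 yh9 zh41) (kh xh17 yh15 zh31) (kh xh17 yh22 zh10) (kh xh16 yh18 zh20) (kh xh16 yh20 zh31) (kh xh16 yh20 zh32) (kh xh17 yh21 zh43) (kh xh16 yh18 zh21) (kh xh17 yh22 zh11) (kh xh17 yh22 zh12) (kh xh16 yh20 zh43) (kh xh18 yh2 zh7) (kh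 xh16 yh18 zh22) (kh xh16 yh18 zh5) (kh xh17 yh21 zh39) (kh xh18 yh11 zh42) (kh xh18 yh11 zh43) (kh xh16 yh18 zh25) (kh xh18 yh11 zh23) (kh xh16 yh18 zh11) (kh xh16 yh18 zh12)) (@D3.rec (fun _ => Pt) (kh xh17 yh22 zh5) (kh xh17 yh22 zh6) (kh xh16 yh21 zh12) (kh xh18 yh11 zh50) (kh xh18 yh12 zh0) (kh xh18 yh6 zh7) (kh xh16 yh18 zh28) (kh xh16 yh21 zh13) (kh xh16 yh21 zh14) (kh xh16 yh21 zh15) (kh xh16 yh18 zh24) (kh xh17 yh16 zh11) (kh xh16 yh18 zh29) (kh xh17 yh25 zh27) (kh xh18 yh10 zh33) (kh xh18 yh10 zh37) (kh xh16 yh18 zh37) (kh xh17 yh21 zh32) (kh xh18 yh2 zh5) (kh xh18 yh1 zh50) (kh xh18 yh12 zh14) (kh xh16 yh18 zh38) (kh xh18 yh2 zh17) (kh xh16 yh18 zh40) (kh xh18 yh7 zh14) (kh xh18 yh7 zh15) (kh xh16 yh18 zh43) (kh xh18 yh2 zh35) (kh xh16 yh18 zh45)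 (kh xh16 yh18 zh48) (kh xh18 yh12 zh27) (kh xh18 yh12 zh28) (kh xh17 yh24 zh35) (kh xh18 yh10 zh32) (kh xh18 yh10 zh44) (kh xh16 yh19 zh1) (kh xh16 yh19 zh4) (kh xh18 yh12 zh35) (kh xh18 yh12 zh36) (kh xh16 yh19 zh7) (kh xh16 yh19 zh8) (kh xh18 yh12 zh40) (kh xh18 yh12 zh41) (kh xh18 yh12 zh42) (kh xh18 yh11 zh5) (kh xh18 yh11 zh6) (kh xh17 yh16 zh46) (kh xh17 yh16 zh47) (kh xh17 yh16 zh48) (kh xh18 yh6 zh50) (kh xh16 yh21 zh29)) (@D3.rec (fun _ => Pt) (kh xh16 yh19 zh20) (kh xh18 yh2 zh3) (kh xh18 yh12 zh50) (kh xh17 yh23 zh47) (kh xh18 yh7 zh18) (kh xh18 yh11 zh14) (kh xh17 yh23 zh39) (kh xh17 yh23 zh48) (kh xh18 yh11 zh15) (kh xh18 yh4 zh12) (kh xh16 yh19 zh29) (kh xh18 yh13 zh10) (kh xh18 yh5 zh44) (kh xh16 yh19 zh32) (kh xh18 yh13 zh13) (kh xh18 yh11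 zh19) (kh xh16 yh19 zh34) (kh xh16 yh21 zh33) (kh xh16 yh19 zh36) (kh xh18 yh13 zh17) (kh xh16 yh21 zh36) (kh xh16 yh21 zh37) (kh xh16 yh19 zh39) (kh xh16 yh19 zh41) (kh xh18 yh13 zh22) (kh xh18 yh13 zh23) (kh xh16 yh20 zh20) (kh xh16 yh19 zh44) (kh xh18 yh5 zh8) (kh xh17 yh23 zh7) (kh xh18 yh9 zh17) (kh xh18 yh3 zh13) (kh xh16 yh19 zh50) (kh xh18 yh13 zh33) (kh xh18 yh9 zh18) (kh xh18 yh5 zh14) (kh xh16 yh20 zh2) (kh xh16 yh20 zh3) (kh xh16 yh20 zh6) (kh xh18 yh13 zh38) (kh xh18 yh13 zh39) (kh xh18 yh13 zh43) (kh xh16 yh20 zh8) (kh xh16 yh20 zh9) (kh xh16 yh20 zh15) (kh xh16 yh21 zh3) (kh xh16 yh20 zh16) (kh xh16 yh20 zh13) (kh xh18 yh13 zh44) (kh xh18 yh13 zh46) (kh xh18 yh13 zh47)) (@D3.rec (fun _ => Pt) (kh xh18 yh13 zh49) (kh xh17 yh22 zh38) (kh xh18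 yh8 zh48) (kh xh18 yh9 zh5) (kh xh18 yh13 zh26) (kh xh17 yh18 zh5) (kh xh17 yh18 zh6) (kh xh17 yh18 zh7) (kh xh17 yh18 zh8) (kh xh17 yh18 zh9) (kh xh18 yh1 zh25) (kh xh18 yh5 zh36) (kh xh17 yh19 zh40) (kh xh18 yh11 zh32) (kh xh18 yh11 zh33) (kh xh18 yh11 zh34) (kh xh16 yh21 zh11) (kh xh16 yh21 zh10) (kh xh16 yh20 zh37) (kh xh17 yh22 zh7) (kh xh17 yh22 zh8) (kh xh18 yh14 zh21) (kh xh16 yh20 zh49) (kh xh16 yh20 zh48) (kh xh16 yh20 zh46) (kh xh17 yh19 zh39) (kh xh17 yh19 zh41) (kh xh18 yh7 zh10) (kh xh18 yh11 zh39) (kh xh18 yh4 zh14) (kh xh18 yh4 zh15) (kh xh18 yh14 zh28) (kh xh18 yh14 zh27) (kh xh18 yh14 zh24) (kh xh18 yh14 zh26) (kh xh16 yh20 zh50) (kh xh16 yh21 zh6) (kh xh18 yh13 zh45) (kh xh16 yh21 zh7) (kh xh16 yh21 zh8) (kh xh18 yh13 zh48) (kh xh16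 yh21 zh9) (kh xh18 yh7 zh47) (kh xh18 yh14 zh40) (kh xh18 yh14 zh41) (kh xh18 yh14 zh44) (kh xh18 yh14 zh45) (kh xh18 yh14 zh19) (kh xh18 yh14 zh47) (kh xh18 yh14 zh20) (kh xh18 yh14 zh18)) (@D3.rec (fun _ => Pt) (kh xh18 yh12 zh3) (kh xh18 yh12 zh8) (kh xh18 yh12 zh9) (kh xh16 yh22 zh0) (kh xh16 yh21 zh50) (kh xh16 yh21 zh43) (kh xh16 yh21 zh42) (kh xh16 yh22 zh1) (kh xh16 yh22 zh2) (kh xh16 yh21 zh49) (kh xh16 yh21 zh32) (kh xh18 yh13 zh16) (kh xh16 yh21 zh35) (kh xh18 yh15 zh11) (kh xh18 yh13 zh20) (kh xh17 yh19 zh15) (kh xh16 yh21 zh40) (kh xh17 yh19 zh17) (kh xh18 yh15 zh10) (kh xh17 yh19 zh19) (kh xh16 yh21 zh48) (kh xh17 yh19 zh21) (kh xh18 yh15 zh15) (kh xh18 yh15 zh9) (kh xh16 yh22 zh7) (kh xh17 yh12 zh0) (kh xh17 yh19 zh26) (kh xh16 yh22 zh11)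 (kh xh16 yh23 zh35) (kh xh16 yh22 zh13) (kh xh16 yh26 zh24) (kh xh16 yh23 zh47) (kh xh16 yh23 zh48) (kh xh16 yh22 zh19) (kh xh16 yh22 zh24) (kh xh16 yh22 zh25) (kh xh18 yh15 zh26) (kh xh16 yh24 zh41) (kh xh16 yh25 zh11) (kh xh17 yh18 zh25) (kh xh17 yh18 zh12) (kh xh17 yh18 zh26) (kh xh17 yh19 zh42) (kh xh17 yh19 zh43) (kh xh16 yh26 zh34) (kh xh17 yh11 zh32) (kh xh16 yh22 zh36) (kh xh17 yh0 zh1) (kh xh17 yh0 zh2) (kh xh17 yh0 zh3) (kh xh17 yh0 zh4)) (@D3.rec (fun _ => Pt) (kh xh16 yh22 zh45) (kh xh16 yh22 zh46) (kh xh16 yh22 zh47) (kh xh18 yh15 zh43) (kh xh18 yh15 zh45) (kh xh18 yh15 zh46) (kh xh16 yh22 zh49) (kh xh18 yh15 zh48) (kh xh16 yh23 zh1) (kh xh18 yh15 zh50) (kh xh18 yh16 zh0) (kh xh16 yh23 zh4) (kh xh17 yh20 zh12) (kh xh16 yh23 zh6) (kh xh16 yh23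 zh21) (kh xh16 yh23 zh8) (kh xh18 yh16 zh6) (kh xh16 yh23 zh11) (kh xh17 yh20 zh18) (kh xh18 yh16 zh9) (kh xh16 yh23 zh14) (kh xh18 yh15 zh47) (kh xh18 yh16 zh12) (kh xh16 yh23 zh17) (kh xh18 yh16 zh13) (kh xh17 yh20 zh25) (kh xh18 yh16 zh3) (kh xh18 yh16 zh4) (kh xh17 yh20 zh28) (kh xh16 yh23 zh23) (kh xh17 yh20 zh30) (kh xh17 yh20 zh31) (kh xh17 yh20 zh32) (kh xh17 yh20 zh33) (kh xh17 yh20 zh34) (kh xh17 yh11 zh12) (kh xh16 yh23 zh30) (kh xh17 yh13 zh22) (kh xh16 yh24 zh16) (kh xh16 yh23 zh33) (kh xh18 yh15 zh19) (kh xh18 yh15 zh20) (kh xh18 yh16 zh34) (kh xh16 yh23 zh37) (kh xh18 yh16 zh35) (kh xh16 yh24 zh20) (kh xh18 yh16 zh38) (kh xh16 yh23 zh41) (kh xh16 yh23 zh42) (kh xh16 yh23 zh45) (kh xh18 yh16 zh39)) (@D3.rec (fun _ => Pt) (kh xh18 yh16 zh41)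 (kh xh18 yh16 zh42) (kh xh16 yh24 zh24) (kh xh18 yh15 zh23) (kh xh18 yh15 zh24) (kh xh18 yh15 zh25) (kh xh17 yh21 zh6) (kh xh17 yh21 zh7) (kh xh17 yh21 zh8) (kh xh16 yh24 zh25) (kh xh16 yh24 zh11) (kh xh16 yh24 zh12) (kh xh16 yh24 zh13) (kh xh17 yh21 zh13) (kh xh17 yh21 zh14) (kh xh17 yh21 zh15) (kh xh16 yh24 zh14) (kh xh16 yh24 zh15) (kh xh18 yh17 zh5) (kh xh18 yh17 zh6) (kh xh18 yh17 zh7) (kh xh18 yh16 zh48) (kh xh18 yh17 zh14) (kh xh18 yh16 zh29) (kh xh16 yh24 zh17) (kh xh16 yh24 zh19) (kh xh18 yh17 zh17) (kh xh17 yh21 zh27) (kh xh16 yh24 zh23) (kh xh18 yh17 zh19) (kh xh18 yh17 zh4) (kh xh16 yh24 zh26) (kh xh17 yh16 zh17) (kh xh18 yh17 zh22) (kh xh16 yh24 zh30) (kh xh18 yh17 zh24) (kh xh16 yh24 zh32) (kh xh16 yh24 zh34) (kh xh17 yh21 zh38) (kh xh17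 yh15 zh44) (kh xh16 yh24 zh37) (kh xh18 yh17 zh29) (kh xh17 yh21 zh42) (kh xh17 yh15 zh36) (kh xh18 yh15 zh28) (kh xh16 yh24 zh44) (kh xh16 yh24 zh45) (kh xh16 yh25 zh1) (kh xh18 yh16 zh5) (kh xh16 yh24 zh48) (kh xh18 yh17 zh38)) (@D3.rec (fun _ => Pt) (kh xh17 yh22 zh0) (kh xh18 yh17 zh35) (kh xh18 yh17 zh36) (kh xh17 yh22 zh3) (kh xh16 yh25 zh3) (kh xh17 yh16 zh0) (kh xh17 yh16 zh1) (kh xh17 yh18 zh19) (kh xh17 yh18 zh20) (kh xh16 yh25 zh8) (kh xh17 yh15 zh32) (kh xh17 yh15 zh38) (kh xh17 yh15 zh39) (kh xh18 yh15 zh29) (kh xh16 yh25 zh16) (kh xh16 yh25 zh17) (kh xh18 yh18 zh4) (kh xh18 yh18 zh5) (kh xh16 yh25 zh19) (kh xh18 yh18 zh7) (kh xh18 yh18 zh8) (kh xh16 yh25 zh22) (kh xh17 yh22 zh22) (kh xh18 yh18 zh11) (kh xh16 yh25 zh25) (kh xh16 yh25 zh47)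 (kh xh18 yh18 zh14) (kh xh16 yh25 zh28) (kh xh16 yh25 zh29) (kh xh17 yh22 zh29) (kh xh16 yh25 zh31) (kh xh16 yh25 zh32) (kh xh18 yh18 zh19) (kh xh17 yh22 zh33) (kh xh16 yh26 zh8) (kh xh16 yh26 zh9) (kh xh18 yh18 zh27) (kh xh16 yh25 zh38) (kh xh17 yh18 zh1) (kh xh16 yh25 zh40) (kh xh17 yh22 zh40) (kh xh16 yh25 zh42) (kh xh18 yh18 zh32) (kh xh17 yh22 zh43) (kh xh16 yh25 zh45) (kh xh18 yh18 zh12) (kh xh18 yh18 zh13) (kh xh16 yh25 zh48) (kh xh18 yh18 zh40) (kh xh17 yh22 zh49) (kh xh16 yh26 zh0)) (@D3.rec (fun _ => Pt) (kh xh16 yh26 zh1) (kh xh16 yh26 zh4) (kh xh18 yh18 zh43) (kh xh18 yh18 zh45) (kh xh18 yh18 zh46) (kh xh17 yh23 zh5) (kh xh16 yh26 zh6) (kh xh17 yh17 zh29) (kh xh18 yh18 zh24) (kh xh18 yh18 zh25) (kh xh18 yh18 zh26) (kh xh17 yh23 zh11) (kh xh17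 yh23 zh12) (kh xh17 yh23 zh13) (kh xh17 yh23 zh14) (kh xh17 yh23 zh15) (kh xh17 yh23 zh16) (kh xh17 yh23 zh17) (kh xh18 yh19 zh10) (kh xh16 yh26 zh22) (kh xh18 yh15 zh21) (kh xh18 yh15 zh22) (kh xh16 yh26 zh25) (kh xh17 yh0 zh24) (kh xh17 yh11 zh34) (kh xh17 yh0 zh29) (kh xh17 yh11 zh36) (kh xh17 yh11 zh37) (kh xh17 yh0 zh30) (kh xh16 yh26 zh31) (kh xh17 yh3 zh9) (kh xh17 yh15 zh19) (kh xh17 yh15 zh20) (kh xh18 yh15 zh35) (kh xh16 yh26 zh35) (kh xh18 yh19 zh30) (kh xh17 yh0 zh26) (kh xh16 yh26 zh38) (kh xh16 yh26 zh41) (kh xh17 yh17 zh6) (kh xh18 yh19 zh34) (kh xh18 yh19 zh35) (kh xh17 yh0 zh36) (kh xh18 yh18 zh44) (kh xh16 yh26 zh48) (kh xh16 yh26 zh49) (kh xh16 yh26 zh45) (kh xh17 yh17 zh3) (kh xh17 yh17 zh7) (kh xh18 yh19 zh42) (kh xh18 yh19 zh43))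 (@D3.rec (fun _ => Pt) (kh xh18 yh19 zh44) (kh xh17 yh0 zh40) (kh xh18 yh15 zh37) (kh xh18 yh15 zh38) (kh xh18 yh15 zh39) (kh xh18 yh15 zh40) (kh xh18 yh15 zh41) (kh xh18 yh15 zh42) (kh xh17 yh0 zh32) (kh xh17 yh0 zh41) (kh xh17 yh0 zh20) (kh xh17 yh0 zh21) (kh xh17 yh0 zh22) (kh xh17 yh0 zh23) (kh xh17 yh0 zh25) (kh xh17 yh0 zh27) (kh xh18 yh20 zh13) (kh xh18 yh20 zh8) (kh xh18 yh20 zh9) (kh xh18 yh20 zh10) (kh xh18 yh19 zh16) (kh xh18 yh19 zh19) (kh xh18 yh19 zh23) (kh xh17 yh0 zh28) (kh xh17 yh24 zh24) (kh xh17 yh0 zh35) (kh xh17 yh24 zh26) (kh xh17 yh0 zh39) (kh xh18 yh20 zh16) (kh xh17 yh1 zh6) (kh xh17 yh5 zh28) (kh xh17 yh1 zh9) (kh xh17 yh1 zh11) (kh xh17 yh24 zh33) (kh xh17 yh1 zh13) (kh xh17 yh16 zh32) (kh xh17 yh24 zh36) (kh xh17 yh1 zh18) (kh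 xh17 yh5 zh31) (kh xh17 yh6 zh2) (kh xh17 yh1 zh27) (kh xh17 yh5 zh32) (kh xh17 yh5 zh33) (kh xh17 yh1 zh26) (kh xh18 yh20 zh32) (kh xh18 yh20 zh33) (kh xh17 yh1 zh30) (kh xh17 yh24 zh47) (kh xh17 yh1 zh32) (kh xh17 yh1 zh42) (kh xh18 yh17 zh25)) (@D3.rec (fun _ => Pt) (kh xh17 yh1 zh35) (kh xh17 yh25 zh1) (kh xh17 yh1 zh37) (kh xh18 yh20 zh41) (kh xh17 yh25 zh4) (kh xh17 yh1 zh40) (kh xh18 yh20 zh36) (kh xh18 yh20 zh37) (kh xh17 yh25 zh8) (kh xh17 yh25 zh9) (kh xh17 yh25 zh10) (kh xh17 yh25 zh11) (kh xh17 yh6 zh0) (kh xh17 yh6 zh3) (kh xh18 yh17 zh49) (kh xh17 yh2 zh14) (kh xh17 yh2 zh3) (kh xh18 yh21 zh4) (kh xh18 yh21 zh5) (kh xh17 yh2 zh17) (kh xh17 yh6 zh9) (kh xh17 yh6 zh10) (kh xh17 yh6 zh11) (kh xh17 yh6 zh12) (kh xh17 yh2 zh12) (kh xh17 yh2 zh13)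 (kh xh17 yh2 zh16) (kh xh17 yh16 zh13) (kh xh17 yh6 zh25) (kh xh18 yh21 zh17) (kh xh17 yh2 zh21) (kh xh17 yh2 zh23) (kh xh18 yh21 zh19) (kh xh17 yh25 zh33) (kh xh17 yh6 zh29) (kh xh17 yh2 zh27) (kh xh18 yh21 zh24) (kh xh18 yh21 zh25) (kh xh17 yh2 zh31) (kh xh17 yh25 zh39) (kh xh17 yh2 zh33) (kh xh17 yh2 zh45) (kh xh17 yh2 zh35) (kh xh18 yh21 zh23) (kh xh17 yh2 zh38) (kh xh17 yh25 zh45) (kh xh17 yh2 zh40) (kh xh17 yh2 zh41) (kh xh18 yh21 zh34) (kh xh17 yh25 zh49) (kh xh18 yh21 zh28)) (@D3.rec (fun _ => Pt) (kh xh18 yh21 zh29) (kh xh17 yh26 zh1) (kh xh17 yh26 zh2) (kh xh17 yh26 zh3) (kh xh17 yh7 zh1) (kh xh18 yh19 zh24) (kh xh17 yh3 zh2) (kh xh17 yh7 zh8) (kh xh17 yh7 zh9) (kh xh17 yh9 zh25) (kh xh17 yh3 zh22) (kh xh17 yh3 zh23) (kh xh18 yh19 zh11) (kh xh18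 yh19 zh25) (kh xh18 yh19 zh26) (kh xh17 yh3 zh24) (kh xh17 yh7 zh19) (kh xh17 yh7 zh20) (kh xh17 yh7 zh21) (kh xh17 yh3 zh25) (kh xh17 yh26 zh20) (kh xh17 yh26 zh21) (kh xh17 yh26 zh22) (kh xh17 yh3 zh21) (kh xh18 yh22 zh12) (kh xh18 yh21 zh50) (kh xh18 yh22 zh0) (kh xh18 yh22 zh13) (kh xh18 yh22 zh14) (kh xh17 yh3 zh28) (kh xh17 yh26 zh30) (kh xh17 yh3 zh30) (kh xh17 yh3 zh47) (kh xh17 yh3 zh32) (kh xh17 yh26 zh34) (kh xh18 yh22 zh21) (kh xh17 yh3 zh35) (kh xh17 yh3 zh36) (kh xh18 yh22 zh22) (kh xh17 yh26 zh39) (kh xh17 yh4 zh6) (kh xh17 yh4 zh7) (kh xh17 yh14 zh10) (kh xh18 yh22 zh31) (kh xh17 yh3 zh43) (kh xh18 yh22 zh32) (kh xh17 yh26 zh46) (kh xh18 yh22 zh16) (kh xh18 yh22 zh17) (kh xh17 yh3 zh48) (kh xh18 yh22 zh38))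
def f_h_18 : D2 → D3 → Pt := @D2.rec (fun _ => D3 → Pt) (@D3.rec (fun _ => Pt) (kh xh18 yh0 zh0) (kh xh17 yh4 zh0) (kh xh17 yh4 zh3) (kh xh18 yh16 zh30) (kh xh18 yh22 zh43) (kh xh18 yh22 zh44) (kh xh18 yh0 zh6) (kh xh17 yh13 zh24) (kh xh18 yh22 zh27) (kh xh18 yh22 zh28) (kh xh18 yh22 zh29) (kh xh18 yh0 zh11) (kh xh18 yh0 zh12) (kh xh17 yh14 zh38) (kh xh18 yh0 zh14) (kh xh18 yh0 zh15) (kh xh17 yh9 zh8) (kh xh17 yh9 zh9) (kh xh18 yh23 zh8) (kh xh17 yh4 zh18) (kh xh17 yh4 zh19) (kh xh17 yh4 zh22) (kh xh18 yh23 zh9) (kh xh18 yh23 zh11) (kh xh18 yh23 zh12) (kh xh17 yh9 zh26) (kh xh17 yh9 zh27) (kh xh17 yh9 zh28) (kh xh17 yh4 zh26) (kh xh18 yh23 zh20) (kh xh17 yh4 zh28) (kh xh17 yh4 zh29) (kh xh17 yh4 zh32) (kh xh18 yh23 zh22) (kh xh18 yh23 zh24) (kh xh18 yh23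 zh25) (kh xh17 yh5 zh9) (kh xh17 yh4 zh34) (kh xh17 yh4 zh39) (kh xh18 yh22 zh42) (kh xh17 yh4 zh40) (kh xh17 yh4 zh41) (kh xh18 yh17 zh44) (kh xh18 yh23 zh32) (kh xh18 yh23 zh33) (kh xh18 yh23 zh36) (kh xh18 yh23 zh37) (kh xh18 yh23 zh38) (kh xh17 yh5 zh10) (kh xh17 yh10 zh1) (kh xh17 yh10 zh2)) (@D3.rec (fun _ => Pt) (kh xh17 yh10 zh3) (kh xh17 yh10 zh4) (kh xh17 yh10 zh5) (kh xh17 yh10 zh6) (kh xh18 yh1 zh4) (kh xh18 yh1 zh5) (kh xh18 yh1 zh6) (kh xh18 yh1 zh7) (kh xh18 yh1 zh8) (kh xh18 yh1 zh9) (kh xh18 yh24 zh5) (kh xh18 yh24 zh6) (kh xh18 yh24 zh8) (kh xh17 yh5 zh11) (kh xh18 yh1 zh14) (kh xh17 yh5 zh14) (kh xh17 yh5 zh16) (kh xh18 yh1 zh17) (kh xh17 yh5 zh19) (kh xh18 yh1 zh19) (kh xh18 yh1 zh20) (kh xh17 yh5 zh23) (kh xh17 yh5 zh24) (kh xh18 yh24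 zh15) (kh xh18 yh20 zh17) (kh xh17 yh18 zh10) (kh xh18 yh1 zh26) (kh xh18 yh20 zh18) (kh xh18 yh20 zh25) (kh xh18 yh20 zh26) (kh xh18 yh20 zh29) (kh xh18 yh20 zh30) (kh xh18 yh20 zh31) (kh xh17 yh5 zh35) (kh xh17 yh5 zh44) (kh xh17 yh14 zh34) (kh xh17 yh6 zh17) (kh xh17 yh5 zh45) (kh xh17 yh5 zh46) (kh xh17 yh5 zh41) (kh xh18 yh17 zh20) (kh xh18 yh24 zh25) (kh xh18 yh24 zh26) (kh xh18 yh24 zh30) (kh xh18 yh24 zh31) (kh xh18 yh24 zh32) (kh xh18 yh1 zh46) (kh xh17 yh6 zh21) (kh xh17 yh15 zh23) (kh xh18 yh21 zh0) (kh xh17 yh16 zh19)) (@D3.rec (fun _ => Pt) (kh xh18 yh20 zh27) (kh xh18 yh20 zh28) (kh xh18 yh21 zh1) (kh xh17 yh17 zh1) (kh xh17 yh6 zh7) (kh xh17 yh16 zh18) (kh xh18 yh24 zh50) (kh xh17 yh15 zh41) (kh xh18 yh21 zh9) (kh xh18 yh21 zh10) (kh xh18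 yh21 zh11) (kh xh18 yh21 zh12) (kh xh18 yh21 zh13) (kh xh17 yh6 zh18) (kh xh18 yh25 zh9) (kh xh18 yh24 zh29) (kh xh17 yh6 zh19) (kh xh17 yh16 zh22) (kh xh18 yh24 zh41) (kh xh18 yh20 zh19) (kh xh18 yh24 zh33) (kh xh18 yh2 zh21) (kh xh18 yh21 zh16) (kh xh17 yh6 zh27) (kh xh18 yh25 zh17) (kh xh18 yh25 zh18) (kh xh18 yh21 zh22) (kh xh17 yh6 zh30) (kh xh17 yh6 zh41) (kh xh17 yh6 zh32) (kh xh17 yh13 zh27) (kh xh17 yh10 zh50) (kh xh17 yh6 zh42) (kh xh17 yh6 zh43) (kh xh17 yh6 zh37) (kh xh17 yh16 zh27) (kh xh17 yh6 zh39) (kh xh18 yh25 zh22) (kh xh18 yh25 zh23) (kh xh18 yh25 zh28) (kh xh18 yh25 zh29) (kh xh18 yh25 zh30) (kh xh18 yh2 zh42) (kh xh18 yh2 zh43) (kh xh18 yh2 zh44) (kh xh18 yh2 zh45) (kh xh17 yh6 zh49) (kh xh18 yh19 zh45) (kh xh18 yh20 zh39) (kh xh18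 yh21 zh43) (kh xh17 yh7 zh2)) (@D3.rec (fun _ => Pt) (kh xh17 yh7 zh6) (kh xh17 yh7 zh4) (kh xh18 yh25 zh49) (kh xh18 yh25 zh50) (kh xh18 yh21 zh45) (kh xh18 yh21 zh46) (kh xh18 yh21 zh8) (kh xh18 yh21 zh47) (kh xh17 yh7 zh10) (kh xh17 yh7 zh12) (kh xh18 yh26 zh10) (kh xh17 yh7 zh13) (kh xh17 yh7 zh17) (kh xh17 yh17 zh31) (kh xh17 yh7 zh18) (kh xh18 yh26 zh13) (kh xh18 yh26 zh14) (kh xh18 yh26 zh16) (kh xh18 yh22 zh6) (kh xh18 yh22 zh7) (kh xh18 yh22 zh8) (kh xh18 yh3 zh21) (kh xh18 yh3 zh22) (kh xh18 yh3 zh23) (kh xh17 yh7 zh31) (kh xh17 yh7 zh32) (kh xh17 yh7 zh33) (kh xh18 yh3 zh27) (kh xh18 yh26 zh30) (kh xh18 yh26 zh26) (kh xh18 yh26 zh27) (kh xh17 yh7 zh34) (kh xh18 yh3 zh32) (kh xh17 yh8 zh14) (kh xh17 yh7 zh38) (kh xh17 yh7 zh40) (kh xh17 yh13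 zh40) (kh xh17 yh7 zh43) (kh xh17 yh8 zh21) (kh xh17 yh8 zh22) (kh xh17 yh7 zh46) (kh xh17 yh11 zh0) (kh xh17 yh7 zh48) (kh xh17 yh7 zh49) (kh xh18 yh26 zh44) (kh xh17 yh11 zh1) (kh xh17 yh11 zh2) (kh xh17 yh8 zh1) (kh xh17 yh8 zh2) (kh xh17 yh8 zh6) (kh xh17 yh8 zh4)) (@D3.rec (fun _ => Pt) (kh xh18 yh26 zh50) (kh xh19 yh0 zh1) (kh xh18 yh20 zh11) (kh xh17 yh11 zh3) (kh xh17 yh8 zh33) (kh xh17 yh8 zh34) (kh xh17 yh8 zh35) (kh xh17 yh8 zh36) (kh xh17 yh9 zh29) (kh xh17 yh8 zh12) (kh xh18 yh19 zh0) (kh xh18 yh26 zh33) (kh xh17 yh17 zh9) (kh xh17 yh8 zh16) (kh xh17 yh18 zh29) (kh xh17 yh18 zh30) (kh xh17 yh8 zh19) (kh xh18 yh26 zh37) (kh xh18 yh26 zh38) (kh xh18 yh26 zh39) (kh xh18 yh26 zh40) (kh xh17 yh8 zh24) (kh xh19 yh0 zh29) (kh xh17 yh8 zh25) (kh xh17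 yh8 zh30) (kh xh17 yh9 zh42) (kh xh17 yh8 zh31) (kh xh18 yh26 zh34) (kh xh19 yh0 zh32) (kh xh18 yh19 zh22) (kh xh19 yh0 zh34) (kh xh18 yh18 zh28) (kh xh19 yh0 zh9) (kh xh19 yh0 zh10) (kh xh19 yh0 zh11) (kh xh19 yh0 zh12) (kh xh19 yh0 zh13) (kh xh17 yh11 zh39) (kh xh18 yh4 zh38) (kh xh18 yh4 zh39) (kh xh18 yh4 zh40) (kh xh18 yh4 zh41) (kh xh18 yh4 zh42) (kh xh18 yh4 zh43) (kh xh18 yh4 zh44) (kh xh18 yh4 zh45) (kh xh18 yh4 zh46) (kh xh19 yh1 zh5) (kh xh17 yh9 zh23) (kh xh17 yh9 zh5) (kh xh17 yh9 zh3)) (@D3.rec (fun _ => Pt) (kh xh18 yh19 zh33) (kh xh19 yh1 zh7) (kh xh17 yh9 zh13) (kh xh17 yh9 zh11) (kh xh18 yh21 zh30) (kh xh18 yh23 zh5) (kh xh18 yh23 zh6) (kh xh18 yh23 zh7) (kh xh17 yh17 zh28) (kh xh19 yh1 zh13) (kh xh19 yh1 zh12) (kh xh17 yh9 zh14) (kh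 xh17 yh9 zh15) (kh xh17 yh9 zh21) (kh xh17 yh17 zh35) (kh xh17 yh9 zh22) (kh xh17 yh9 zh19) (kh xh19 yh1 zh23) (kh xh19 yh1 zh25) (kh xh19 yh1 zh26) (kh xh19 yh1 zh28) (kh xh19 yh1 zh6) (kh xh18 yh21 zh35) (kh xh18 yh21 zh48) (kh xh18 yh21 zh49) (kh xh18 yh23 zh17) (kh xh18 yh23 zh18) (kh xh18 yh23 zh19) (kh xh19 yh0 zh14) (kh xh17 yh9 zh30) (kh xh17 yh9 zh34) (kh xh17 yh9 zh35) (kh xh19 yh1 zh45) (kh xh19 yh1 zh46) (kh xh19 yh1 zh47) (kh xh19 yh1 zh48) (kh xh17 yh18 zh11) (kh xh17 yh9 zh37) (kh xh17 yh9 zh38) (kh xh17 yh9 zh46) (kh xh19 yh0 zh31) (kh xh17 yh9 zh47) (kh xh17 yh9 zh48) (kh xh19 yh0 zh33) (kh xh17 yh17 zh12) (kh xh17 yh9 zh49) (kh xh17 yh9 zh50) (kh xh17 yh10 zh0) (kh xh19 yh2 zh3) (kh xh19 yh2 zh5) (kh xh19 yh2 zh6)) (@D3.rec (fun _ =>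 Pt) (kh xh19 yh2 zh9) (kh xh19 yh2 zh10) (kh xh19 yh2 zh11) (kh xh19 yh2 zh14) (kh xh19 yh2 zh15) (kh xh19 yh2 zh17) (kh xh18 yh23 zh48) (kh xh17 yh16 zh5) (kh xh18 yh23 zh49) (kh xh18 yh23 zh50) (kh xh18 yh24 zh0) (kh xh18 yh24 zh1) (kh xh19 yh2 zh36) (kh xh18 yh6 zh13) (kh xh18 yh6 zh14) (kh xh18 yh6 zh15) (kh xh18 yh6 zh16) (kh xh18 yh6 zh17) (kh xh17 yh10 zh32) (kh xh17 yh10 zh33) (kh xh17 yh10 zh34) (kh xh17 yh10 zh35) (kh xh17 yh10 zh36) (kh xh17 yh10 zh37) (kh xh17 yh10 zh38) (kh xh19 yh2 zh47) (kh xh18 yh6 zh26) (kh xh18 yh6 zh27) (kh xh19 yh2 zh49) (kh xh17 yh10 zh40) (kh xh19 yh3 zh0) (kh xh17 yh10 zh42) (kh xh19 yh3 zh3) (kh xh17 yh10 zh29) (kh xh18 yh6 zh34) (kh xh19 yh2 zh41) (kh xh19 yh2 zh42) (kh xh19 yh2 zh43) (kh xh19 yh3 zh8) (kh xh19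 yh0 zh8) (kh xh19 yh2 zh45) (kh xh19 yh3 zh10) (kh xh17 yh10 zh39) (kh xh18 yh25 zh27) (kh xh17 yh10 zh41) (kh xh19 yh3 zh14) (kh xh19 yh3 zh15) (kh xh17 yh10 zh43) (kh xh18 yh6 zh48) (kh xh17 yh11 zh4) (kh xh17 yh16 zh49)) (@D3.rec (fun _ => Pt) (kh xh17 yh10 zh49) (kh xh18 yh26 zh42) (kh xh18 yh26 zh43) (kh xh18 yh26 zh48) (kh xh18 yh26 zh49) (kh xh17 yh12 zh9) (kh xh17 yh11 zh38) (kh xh17 yh11 zh41) (kh xh17 yh12 zh19) (kh xh17 yh12 zh20) (kh xh17 yh18 zh27) (kh xh17 yh13 zh25) (kh xh18 yh16 zh25) (kh xh17 yh13 zh38) (kh xh17 yh16 zh24) (kh xh17 yh16 zh25) (kh xh17 yh11 zh19) (kh xh17 yh11 zh20) (kh xh17 yh17 zh4) (kh xh19 yh3 zh32) (kh xh19 yh3 zh33) (kh xh19 yh3 zh34) (kh xh17 yh14 zh11) (kh xh17 yh14 zh12) (kh xh17 yh14 zh13) (kh xh18 yh7 zh25) (kh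 xh18 yh7 zh26) (kh xh19 yh3 zh17) (kh xh18 yh7 zh28) (kh xh17 yh11 zh31) (kh xh17 yh11 zh45) (kh xh19 yh3 zh44) (kh xh18 yh15 zh36) (kh xh18 yh19 zh15) (kh xh18 yh19 zh17) (kh xh18 yh19 zh18) (kh xh18 yh19 zh20) (kh xh18 yh19 zh21) (kh xh19 yh3 zh21) (kh xh17 yh14 zh44) (kh xh19 yh3 zh22) (kh xh17 yh11 zh43) (kh xh19 yh4 zh4) (kh xh19 yh4 zh5) (kh xh19 yh3 zh45) (kh xh17 yh11 zh46) (kh xh17 yh12 zh26) (kh xh17 yh18 zh42) (kh xh17 yh12 zh27) (kh xh18 yh15 zh16) (kh xh18 yh15 zh17)) (@D3.rec (fun _ => Pt) (kh xh18 yh26 zh41) (kh xh17 yh12 zh28) (kh xh17 yh12 zh3) (kh xh17 yh12 zh6) (kh xh19 yh4 zh20) (kh xh19 yh4 zh21) (kh xh19 yh4 zh22) (kh xh17 yh12 zh31) (kh xh17 yh15 zh16) (kh xh19 yh3 zh20) (kh xh17 yh12 zh11) (kh xh19 yh4 zh31) (kh xh19 yh4 zh32) (kh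 xh17 yh12 zh35) (kh xh17 yh12 zh15) (kh xh17 yh12 zh16) (kh xh17 yh12 zh17) (kh xh19 yh4 zh36) (kh xh19 yh4 zh37) (kh xh19 yh4 zh38) (kh xh19 yh4 zh39) (kh xh19 yh4 zh40) (kh xh19 yh3 zh23) (kh xh19 yh3 zh24) (kh xh17 yh12 zh38) (kh xh18 yh8 zh25) (kh xh17 yh12 zh39) (kh xh19 yh4 zh10) (kh xh19 yh4 zh13) (kh xh19 yh4 zh19) (kh xh17 yh12 zh30) (kh xh19 yh4 zh47) (kh xh19 yh4 zh28) (kh xh17 yh12 zh33) (kh xh17 yh12 zh34) (kh xh19 yh4 zh49) (kh xh19 yh4 zh50) (kh xh17 yh12 zh37) (kh xh18 yh26 zh12) (kh xh18 yh8 zh39) (kh xh18 yh8 zh40) (kh xh17 yh12 zh44) (kh xh19 yh5 zh3) (kh xh19 yh5 zh4) (kh xh17 yh13 zh20) (kh xh17 yh12 zh47) (kh xh19 yh5 zh8) (kh xh18 yh8 zh47) (kh xh17 yh18 zh2) (kh xh17 yh13 zh0) (kh xh19 yh5 zh13)) (@D3.rec (fun _ => Pt) (kh xh18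 yh9 zh0) (kh xh17 yh13 zh3) (kh xh17 yh13 zh5) (kh xh19 yh5 zh17) (kh xh19 yh5 zh18) (kh xh17 yh18 zh3) (kh xh17 yh13 zh10) (kh xh19 yh0 zh20) (kh xh19 yh5 zh22) (kh xh19 yh5 zh23) (kh xh17 yh13 zh15) (kh xh17 yh14 zh0) (kh xh17 yh13 zh16) (kh xh17 yh13 zh17) (kh xh19 yh5 zh27) (kh xh19 yh5 zh30) (kh xh19 yh5 zh31) (kh xh17 yh17 zh30) (kh xh17 yh17 zh34) (kh xh19 yh5 zh7) (kh xh18 yh16 zh26) (kh xh18 yh16 zh27) (kh xh18 yh16 zh28) (kh xh17 yh14 zh23) (kh xh18 yh22 zh50) (kh xh18 yh23 zh0) (kh xh19 yh3 zh26) (kh xh18 yh25 zh24) (kh xh18 yh25 zh25) (kh xh18 yh25 zh26) (kh xh17 yh13 zh29) (kh xh17 yh13 zh33) (kh xh19 yh5 zh16) (kh xh17 yh13 zh34) (kh xh17 yh13 zh35) (kh xh19 yh5 zh50) (kh xh19 yh6 zh0) (kh xh19 yh6 zh3) (kh xh19 yh6 zh4) (kh xh19 yh6 zh5)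 (kh xh17 yh14 zh27) (kh xh17 yh15 zh30) (kh xh19 yh3 zh28) (kh xh18 yh26 zh35) (kh xh18 yh26 zh36) (kh xh17 yh13 zh45) (kh xh19 yh1 zh8) (kh xh17 yh13 zh46) (kh xh17 yh13 zh47) (kh xh19 yh1 zh24) (kh xh19 yh6 zh16)) (@D3.rec (fun _ => Pt) (kh xh19 yh6 zh17) (kh xh19 yh6 zh20) (kh xh19 yh6 zh21) (kh xh17 yh14 zh4) (kh xh18 yh26 zh9) (kh xh17 yh14 zh5) (kh xh17 yh14 zh6) (kh xh19 yh5 zh28) (kh xh19 yh5 zh29) (kh xh17 yh14 zh7) (kh xh17 yh14 zh8) (kh xh17 yh14 zh9) (kh xh18 yh25 zh44) (kh xh19 yh6 zh27) (kh xh19 yh6 zh28) (kh xh19 yh6 zh31) (kh xh19 yh6 zh32) (kh xh19 yh6 zh36) (kh xh19 yh6 zh37) (kh xh19 yh6 zh38) (kh xh18 yh22 zh30) (kh xh19 yh3 zh40) (kh xh19 yh3 zh41) (kh xh18 yh10 zh23) (kh xh18 yh10 zh24) (kh xh18 yh10 zh25) (kh xh18 yh10 zh26) (kh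 xh18 yh10 zh27) (kh xh17 yh14 zh26) (kh xh19 yh7 zh0) (kh xh18 yh10 zh30) (kh xh18 yh10 zh31) (kh xh17 yh16 zh33) (kh xh17 yh16 zh14) (kh xh18 yh24 zh27) (kh xh18 yh24 zh28) (kh xh17 yh14 zh39) (kh xh17 yh16 zh15) (kh xh17 yh14 zh40) (kh xh17 yh14 zh42) (kh xh19 yh7 zh8) (kh xh19 yh7 zh9) (kh xh18 yh10 zh42) (kh xh19 yh4 zh2) (kh xh17 yh16 zh34) (kh xh17 yh14 zh47) (kh xh17 yh15 zh0) (kh xh19 yh7 zh7) (kh xh17 yh15 zh1) (kh xh17 yh15 zh2) (kh xh19 yh7 zh16)) (@D3.rec (fun _ => Pt) (kh xh19 yh7 zh17) (kh xh19 yh7 zh20) (kh xh19 yh7 zh21) (kh xh19 yh7 zh22) (kh xh17 yh15 zh12) (kh xh17 yh16 zh44) (kh xh17 yh16 zh45) (kh xh18 yh11 zh7) (kh xh18 yh11 zh8) (kh xh17 yh15 zh11) (kh xh17 yh15 zh14) (kh xh19 yh7 zh32) (kh xh19 yh7 zh33) (kh xh19 yh4 zh29) (kh xh17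 yh17 zh5) (kh xh17 yh17 zh8) (kh xh18 yh19 zh27) (kh xh18 yh19 zh28) (kh xh18 yh16 zh32) (kh xh17 yh17 zh15) (kh xh18 yh24 zh42) (kh xh18 yh24 zh43) (kh xh18 yh11 zh22) (kh xh17 yh15 zh48) (kh xh17 yh15 zh27) (kh xh17 yh15 zh28) (kh xh19 yh7 zh46) (kh xh19 yh7 zh47) (kh xh18 yh19 zh13) (kh xh19 yh6 zh12) (kh xh18 yh17 zh50) (kh xh18 yh18 zh0) (kh xh17 yh18 zh13) (kh xh17 yh18 zh14) (kh xh17 yh18 zh15) (kh xh18 yh17 zh32) (kh xh18 yh17 zh33) (kh xh18 yh18 zh1) (kh xh18 yh18 zh2) (kh xh17 yh18 zh28) (kh xh18 yh25 zh2) (kh xh18 yh25 zh3) (kh xh17 yh15 zh45) (kh xh17 yh15 zh46) (kh xh18 yh17 zh28) (kh xh19 yh8 zh11) (kh xh19 yh8 zh12) (kh xh18 yh20 zh2) (kh xh19 yh7 zh44) (kh xh19 yh7 zh45) (kh xh17 yh16 zh3)) (@D3.rec (fun _ => Pt) (kh xh17 yh16 zh4) (kh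 xh18 yh17 zh45) (kh xh18 yh17 zh46) (kh xh17 yh19 zh0) (kh xh19 yh8 zh19) (kh xh19 yh8 zh20) (kh xh19 yh2 zh30) (kh xh19 yh1 zh37) (kh xh17 yh19 zh1) (kh xh17 yh19 zh2) (kh xh18 yh20 zh45) (kh xh18 yh21 zh15) (kh xh19 yh7 zh2) (kh xh19 yh7 zh6) (kh xh17 yh16 zh20) (kh xh18 yh17 zh21) (kh xh18 yh25 zh0) (kh xh18 yh24 zh45) (kh xh19 yh8 zh32) (kh xh18 yh17 zh26) (kh xh18 yh25 zh11) (kh xh18 yh20 zh22) (kh xh19 yh3 zh29) (kh xh19 yh3 zh30) (kh xh19 yh3 zh31) (kh xh18 yh25 zh31) (kh xh18 yh25 zh32) (kh xh17 yh16 zh30) (kh xh17 yh16 zh31) (kh xh19 yh8 zh47) (kh xh19 yh8 zh48) (kh xh19 yh8 zh49) (kh xh18 yh20 zh23) (kh xh19 yh7 zh1) (kh xh19 yh7 zh14) (kh xh17 yh16 zh37) (kh xh17 yh16 zh38) (kh xh19 yh9 zh4) (kh xh19 yh9 zh5) (kh xh19 yh9 zh6) (kh xh17 yh16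 zh41) (kh xh17 yh16 zh42) (kh xh17 yh16 zh43) (kh xh19 yh9 zh10) (kh xh19 yh9 zh11) (kh xh19 yh9 zh12) (kh xh19 yh7 zh30) (kh xh18 yh12 zh47) (kh xh19 yh2 zh16) (kh xh18 yh24 zh14) (kh xh17 yh17 zh2)) (@D3.rec (fun _ => Pt) (kh xh18 yh24 zh49) (kh xh19 yh9 zh17) (kh xh18 yh19 zh46) (kh xh19 yh3 zh35) (kh xh19 yh3 zh36) (kh xh19 yh7 zh37) (kh xh18 yh19 zh36) (kh xh18 yh19 zh47) (kh xh19 yh7 zh38) (kh xh19 yh0 zh19) (kh xh17 yh17 zh11) (kh xh19 yh9 zh26) (kh xh19 yh2 zh13) (kh xh17 yh17 zh14) (kh xh19 yh9 zh29) (kh xh19 yh4 zh9) (kh xh17 yh19 zh11) (kh xh17 yh17 zh19) (kh xh19 yh9 zh32) (kh xh19 yh9 zh33) (kh xh17 yh19 zh14) (kh xh19 yh5 zh49) (kh xh17 yh17 zh24) (kh xh17 yh17 zh25) (kh xh19 yh9 zh39) (kh xh19 yh9 zh40) (kh xh17 yh18 zh4) (kh xh18 yh18 zh30)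 (kh xh19 yh1 zh19) (kh xh18 yh19 zh1) (kh xh18 yh19 zh2) (kh xh19 yh5 zh35) (kh xh18 yh26 zh15) (kh xh17 yh17 zh33) (kh xh19 yh9 zh50) (kh xh19 yh5 zh36) (kh xh19 yh1 zh27) (kh xh19 yh0 zh15) (kh xh17 yh17 zh39) (kh xh17 yh17 zh40) (kh xh19 yh10 zh4) (kh xh19 yh10 zh5) (kh xh19 yh10 zh6) (kh xh17 yh17 zh41) (kh xh17 yh17 zh48) (kh xh17 yh18 zh37) (kh xh17 yh17 zh49) (kh xh17 yh17 zh50) (kh xh17 yh18 zh40) (kh xh17 yh18 zh0) (kh xh18 yh26 zh45)) (@D3.rec (fun _ => Pt) (kh xh19 yh10 zh11) (kh xh19 yh10 zh12) (kh xh19 yh10 zh15) (kh xh19 yh10 zh16) (kh xh19 yh10 zh18) (kh xh18 yh18 zh29) (kh xh19 yh5 zh12) (kh xh19 yh5 zh21) (kh xh18 yh14 zh8) (kh xh18 yh14 zh9) (kh xh18 yh24 zh17) (kh xh18 yh24 zh18) (kh xh19 yh2 zh2) (kh xh18 yh15 zh31) (kh xh18 yh15 zh32)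 (kh xh19 yh8 zh2) (kh xh19 yh8 zh3) (kh xh19 yh8 zh4) (kh xh17 yh18 zh50) (kh xh17 yh18 zh47) (kh xh17 yh18 zh49) (kh xh17 yh18 zh21) (kh xh18 yh17 zh47) (kh xh18 yh17 zh48) (kh xh17 yh18 zh33) (kh xh19 yh10 zh39) (kh xh17 yh18 zh34) (kh xh17 yh18 zh32) (kh xh17 yh18 zh31) (kh xh18 yh15 zh30) (kh xh18 yh15 zh33) (kh xh19 yh3 zh25) (kh xh19 yh0 zh21) (kh xh19 yh0 zh22) (kh xh19 yh10 zh46) (kh xh19 yh10 zh43) (kh xh19 yh10 zh45) (kh xh19 yh10 zh42) (kh xh19 yh10 zh44) (kh xh19 yh10 zh10) (kh xh17 yh18 zh43) (kh xh17 yh18 zh44) (kh xh19 yh10 zh13) (kh xh19 yh10 zh14) (kh xh17 yh18 zh45) (kh xh17 yh18 zh46) (kh xh19 yh10 zh17) (kh xh17 yh18 zh48) (kh xh19 yh4 zh11) (kh xh19 yh4 zh12) (kh xh19 yh11 zh7)) (@D3.rec (fun _ => Pt) (kh xh19 yh11 zh8) (kh xh19 yh11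 zh9) (kh xh19 yh11 zh12) (kh xh19 yh11 zh13) (kh xh19 yh10 zh37) (kh xh19 yh10 zh38) (kh xh19 yh10 zh36) (kh xh19 yh8 zh23) (kh xh19 yh8 zh27) (kh xh17 yh19 zh23) (kh xh17 yh19 zh18) (kh xh17 yh19 zh13) (kh xh18 yh15 zh12) (kh xh18 yh15 zh13) (kh xh18 yh15 zh14) (kh xh17 yh19 zh22) (kh xh18 yh7 zh49) (kh xh18 yh7 zh50) (kh xh18 yh15 zh18) (kh xh17 yh20 zh40) (kh xh17 yh20 zh41) (kh xh17 yh23 zh20) (kh xh17 yh23 zh21) (kh xh17 yh21 zh3) (kh xh17 yh21 zh4) (kh xh17 yh21 zh5) (kh xh17 yh19 zh36) (kh xh19 yh11 zh36) (kh xh17 yh21 zh44) (kh xh17 yh22 zh13) (kh xh18 yh14 zh29) (kh xh18 yh14 zh13) (kh xh18 yh14 zh14) (kh xh18 yh14 zh30) (kh xh18 yh15 zh34) (kh xh17 yh23 zh33) (kh xh18 yh7 zh32) (kh xh17 yh24 zh2) (kh xh17 yh24 zh3) (kh xh17 yh24 zh4) (kh xh17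 yh24 zh5) (kh xh17 yh24 zh6) (kh xh17 yh24 zh7) (kh xh17 yh20 zh3) (kh xh19 yh12 zh1) (kh xh17 yh20 zh4) (kh xh17 yh20 zh5) (kh xh17 yh20 zh21) (kh xh17 yh20 zh7) (kh xh18 yh15 zh49) (kh xh17 yh20 zh9)) (@D3.rec (fun _ => Pt) (kh xh17 yh20 zh10) (kh xh19 yh12 zh8) (kh xh18 yh16 zh2) (kh xh17 yh20 zh26) (kh xh17 yh20 zh27) (kh xh17 yh21 zh48) (kh xh17 yh20 zh16) (kh xh19 yh12 zh17) (kh xh18 yh16 zh8) (kh xh17 yh20 zh19) (kh xh19 yh12 zh3) (kh xh19 yh12 zh4) (kh xh17 yh20 zh22) (kh xh17 yh20 zh24) (kh xh19 yh12 zh26) (kh xh19 yh12 zh27) (kh xh18 yh16 zh16) (kh xh19 yh12 zh13) (kh xh19 yh12 zh14) (kh xh19 yh12 zh15) (kh xh18 yh16 zh20) (kh xh18 yh16 zh21) (kh xh18 yh16 zh22) (kh xh18 yh16 zh23) (kh xh18 yh16 zh24) (kh xh18 yh7 zh12) (kh xh18 yh9 zh20) (kh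 xh18 yh9 zh21) (kh xh18 yh9 zh22) (kh xh17 yh21 zh23) (kh xh18 yh0 zh3) (kh xh19 yh11 zh28) (kh xh18 yh11 zh18) (kh xh19 yh11 zh29) (kh xh17 yh20 zh42) (kh xh17 yh20 zh44) (kh xh19 yh13 zh1) (kh xh19 yh13 zh2) (kh xh17 yh20 zh46) (kh xh17 yh20 zh50) (kh xh19 yh12 zh25) (kh xh17 yh21 zh0) (kh xh17 yh21 zh1) (kh xh19 yh13 zh6) (kh xh19 yh13 zh7) (kh xh19 yh13 zh10) (kh xh19 yh13 zh11) (kh xh19 yh13 zh12) (kh xh17 yh21 zh21) (kh xh19 yh11 zh32) (kh xh19 yh11 zh33)) (@D3.rec (fun _ => Pt) (kh xh19 yh11 zh34) (kh xh18 yh17 zh1) (kh xh18 yh17 zh2) (kh xh18 yh17 zh3) (kh xh17 yh21 zh30) (kh xh17 yh21 zh18) (kh xh17 yh21 zh19) (kh xh17 yh21 zh20) (kh xh18 yh17 zh8) (kh xh18 yh17 zh9) (kh xh19 yh13 zh30) (kh xh19 yh13 zh26) (kh xh19 yh13 zh27) (kh xh19 yh13 zh31)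 (kh xh17 yh21 zh22) (kh xh19 yh12 zh45) (kh xh18 yh17 zh16) (kh xh17 yh21 zh26) (kh xh18 yh17 zh18) (kh xh17 yh21 zh29) (kh xh18 yh1 zh40) (kh xh18 yh12 zh15) (kh xh17 yh21 zh33) (kh xh18 yh17 zh23) (kh xh17 yh21 zh35) (kh xh17 yh24 zh50) (kh xh18 yh12 zh19) (kh xh18 yh17 zh27) (kh xh18 yh11 zh44) (kh xh17 yh21 zh41) (kh xh19 yh13 zh43) (kh xh19 yh13 zh44) (kh xh18 yh11 zh35) (kh xh18 yh11 zh36) (kh xh19 yh11 zh37) (kh xh17 yh22 zh1) (kh xh17 yh22 zh2) (kh xh19 yh12 zh16) (kh xh17 yh21 zh50) (kh xh19 yh14 zh3) (kh xh19 yh14 zh4) (kh xh19 yh13 zh50) (kh xh19 yh14 zh0) (kh xh19 yh14 zh1) (kh xh18 yh0 zh42) (kh xh18 yh12 zh1) (kh xh18 yh12 zh2) (kh xh18 yh14 zh22) (kh xh18 yh14 zh23) (kh xh17 yh25 zh14) (kh xh18 yh11 zh30)) (@D3.rec (fun _ => Pt) (kh xh18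 yh11 zh31) (kh xh18 yh11 zh37) (kh xh18 yh11 zh38) (kh xh19 yh11 zh38) (kh xh17 yh22 zh16) (kh xh17 yh22 zh17) (kh xh18 yh18 zh6) (kh xh17 yh22 zh19) (kh xh17 yh22 zh20) (kh xh19 yh14 zh24) (kh xh18 yh18 zh10) (kh xh17 yh22 zh23) (kh xh17 yh22 zh45) (kh xh17 yh22 zh46) (kh xh17 yh22 zh26) (kh xh18 yh18 zh15) (kh xh19 yh13 zh5) (kh xh18 yh18 zh17) (kh xh18 yh18 zh18) (kh xh17 yh22 zh32) (kh xh19 yh13 zh0) (kh xh19 yh14 zh39) (kh xh19 yh14 zh40) (kh xh18 yh18 zh23) (kh xh17 yh23 zh8) (kh xh17 yh23 zh9) (kh xh17 yh23 zh10) (kh xh17 yh22 zh36) (kh xh18 yh4 zh31) (kh xh18 yh14 zh5) (kh xh18 yh13 zh27) (kh xh18 yh18 zh31) (kh xh17 yh22 zh42) (kh xh19 yh15 zh5) (kh xh19 yh15 zh6) (kh xh18 yh18 zh35) (kh xh19 yh14 zh29) (kh xh19 yh14 zh30) (kh xh19 yh14 zh31)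 (kh xh19 yh14 zh32) (kh xh17 yh22 zh48) (kh xh19 yh15 zh15) (kh xh19 yh15 zh16) (kh xh17 yh23 zh2) (kh xh17 yh23 zh43) (kh xh17 yh23 zh3) (kh xh17 yh23 zh4) (kh xh19 yh15 zh19) (kh xh19 yh15 zh22) (kh xh19 yh15 zh23) (kh xh19 yh15 zh24)) (@D3.rec (fun _ => Pt) (kh xh18 yh4 zh10) (kh xh18 yh13 zh29) (kh xh18 yh13 zh30) (kh xh19 yh14 zh47) (kh xh19 yh14 zh48) (kh xh19 yh14 zh49) (kh xh18 yh19 zh6) (kh xh18 yh19 zh7) (kh xh18 yh19 zh8) (kh xh19 yh15 zh38) (kh xh17 yh23 zh18) (kh xh17 yh26 zh12) (kh xh19 yh11 zh30) (kh xh18 yh11 zh28) (kh xh19 yh11 zh31) (kh xh18 yh7 zh33) (kh xh17 yh24 zh20) (kh xh18 yh7 zh34) (kh xh18 yh7 zh35) (kh xh17 yh24 zh21) (kh xh18 yh7 zh36) (kh xh18 yh7 zh37) (kh xh18 yh4 zh29) (kh xh17 yh24 zh22) (kh xh17 yh26 zh5) (kh xh17 yh26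 zh13) (kh xh17 yh26 zh14) (kh xh18 yh11 zh16) (kh xh18 yh11 zh17) (kh xh19 yh11 zh43) (kh xh17 yh23 zh35) (kh xh19 yh16 zh11) (kh xh19 yh15 zh49) (kh xh18 yh5 zh0) (kh xh17 yh23 zh40) (kh xh17 yh23 zh41) (kh xh18 yh13 zh6) (kh xh19 yh16 zh16) (kh xh19 yh16 zh17) (kh xh19 yh15 zh46) (kh xh19 yh15 zh20) (kh xh19 yh15 zh21) (kh xh17 yh23 zh49) (kh xh17 yh23 zh50) (kh xh17 yh24 zh0) (kh xh18 yh2 zh47) (kh xh18 yh13 zh2) (kh xh18 yh13 zh7) (kh xh19 yh16 zh24) (kh xh19 yh16 zh25) (kh xh19 yh16 zh26)) (@D3.rec (fun _ => Pt) (kh xh19 yh16 zh27) (kh xh19 yh11 zh45) (kh xh18 yh11 zh47) (kh xh19 yh11 zh46) (kh xh19 yh11 zh47) (kh xh19 yh11 zh48) (kh xh19 yh11 zh49) (kh xh19 yh16 zh40) (kh xh17 yh24 zh17) (kh xh17 yh24 zh18) (kh xh17 yh24 zh19) (kh xh18 yh4 zh2) (kh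 xh19 yh16 zh2) (kh xh17 yh24 zh16) (kh xh18 yh20 zh14) (kh xh18 yh20 zh15) (kh xh17 yh24 zh28) (kh xh18 yh1 zh24) (kh xh18 yh1 zh27) (kh xh18 yh2 zh19) (kh xh19 yh13 zh38) (kh xh18 yh20 zh21) (kh xh18 yh12 zh21) (kh xh18 yh12 zh32) (kh xh18 yh20 zh24) (kh xh18 yh1 zh28) (kh xh18 yh1 zh29) (kh xh18 yh2 zh0) (kh xh18 yh2 zh1) (kh xh18 yh1 zh30) (kh xh18 yh1 zh31) (kh xh18 yh1 zh32) (kh xh17 yh24 zh44) (kh xh17 yh24 zh45) (kh xh19 yh17 zh8) (kh xh18 yh20 zh35) (kh xh17 yh25 zh6) (kh xh17 yh25 zh7) (kh xh19 yh13 zh39) (kh xh18 yh2 zh48) (kh xh18 yh20 zh40) (kh xh17 yh25 zh3) (kh xh19 yh17 zh19) (kh xh19 yh17 zh20) (kh xh18 yh20 zh44) (kh xh18 yh12 zh10) (kh xh19 yh17 zh13) (kh xh19 yh17 zh14) (kh xh19 yh17 zh15) (kh xh18 yh20 zh49) (kh xh18 yh20 zh50)) (@D3.rec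 (fun _ => Pt) (kh xh18 yh1 zh49) (kh xh18 yh2 zh2) (kh xh19 yh14 zh16) (kh xh19 yh14 zh17) (kh xh17 yh25 zh17) (kh xh17 yh25 zh18) (kh xh19 yh17 zh34) (kh xh19 yh17 zh35) (kh xh18 yh3 zh6) (kh xh18 yh2 zh8) (kh xh18 yh2 zh9) (kh xh18 yh2 zh10) (kh xh18 yh2 zh11) (kh xh18 yh2 zh12) (kh xh19 yh16 zh4) (kh xh18 yh12 zh11) (kh xh18 yh2 zh22) (kh xh17 yh25 zh29) (kh xh19 yh17 zh46) (kh xh17 yh25 zh32) (kh xh19 yh17 zh48) (kh xh19 yh17 zh49) (kh xh18 yh2 zh26) (kh xh17 yh25 zh43) (kh xh17 yh25 zh36) (kh xh17 yh25 zh37) (kh xh19 yh18 zh3) (kh xh18 yh21 zh27) (kh xh17 yh25 zh50) (kh xh17 yh26 zh0) (kh xh18 yh5 zh4) (kh xh19 yh18 zh2) (kh xh19 yh15 zh39) (kh xh18 yh21 zh33) (kh xh17 yh25 zh48) (kh xh18 yh5 zh22) (kh xh19 yh18 zh15) (kh xh19 yh18 zh16) (kh xh18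 yh21 zh38) (kh xh19 yh18 zh8) (kh xh19 yh18 zh9) (kh xh19 yh18 zh10) (kh xh18 yh21 zh42) (kh xh18 yh2 zh49) (kh xh19 yh16 zh3) (kh xh18 yh3 zh4) (kh xh18 yh3 zh5) (kh xh18 yh3 zh7) (kh xh18 yh5 zh23) (kh xh18 yh5 zh24) (kh xh17 yh26 zh25)) (@D3.rec (fun _ => Pt) (kh xh17 yh26 zh26) (kh xh19 yh15 zh40) (kh xh19 yh15 zh41) (kh xh19 yh16 zh5) (kh xh19 yh16 zh6) (kh xh19 yh16 zh7) (kh xh18 yh3 zh18) (kh xh18 yh3 zh19) (kh xh18 yh3 zh20) (kh xh18 yh22 zh9) (kh xh18 yh22 zh10) (kh xh19 yh18 zh44) (kh xh17 yh26 zh24) (kh xh17 yh26 zh27) (kh xh17 yh26 zh28) (kh xh19 yh18 zh46) (kh xh17 yh26 zh47) (kh xh17 yh26 zh48) (kh xh19 yh12 zh9) (kh xh18 yh22 zh19) (kh xh18 yh22 zh20) (kh xh17 yh26 zh35) (kh xh17 yh26 zh38) (kh xh19 yh12 zh5) (kh xh19 yh19 zh6) (kh xh19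 yh19 zh7) (kh xh18 yh22 zh26) (kh xh18 yh0 zh8) (kh xh18 yh0 zh9) (kh xh18 yh0 zh10) (kh xh18 yh10 zh20) (kh xh17 yh26 zh43) (kh xh17 yh26 zh45) (kh xh19 yh19 zh19) (kh xh19 yh19 zh20) (kh xh19 yh18 zh49) (kh xh19 yh18 zh50) (kh xh19 yh19 zh0) (kh xh17 yh26 zh50) (kh xh19 yh19 zh26) (kh xh19 yh19 zh27) (kh xh18 yh22 zh41) (kh xh18 yh0 zh39) (kh xh18 yh0 zh4) (kh xh18 yh0 zh5) (kh xh19 yh12 zh46) (kh xh19 yh12 zh47) (kh xh19 yh19 zh33) (kh xh19 yh19 zh34) (kh xh19 yh19 zh35) (kh xh18 yh9 zh24)) (@D3.rec (fun _ => Pt) (kh xh18 yh9 zh25) (kh xh19 yh19 zh14) (kh xh19 yh19 zh15) (kh xh19 yh19 zh16) (kh xh19 yh19 zh46) (kh xh18 yh5 zh5) (kh xh18 yh5 zh6) (kh xh18 yh5 zh7) (kh xh18 yh0 zh18) (kh xh18 yh0 zh22) (kh xh19 yh19 zh18) (kh xh18 yh0 zh23) (kh xh18 yh0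 zh24) (kh xh19 yh20 zh0) (kh xh19 yh20 zh1) (kh xh19 yh20 zh4) (kh xh19 yh20 zh5) (kh xh18 yh5 zh25) (kh xh18 yh5 zh26) (kh xh18 yh5 zh27) (kh xh18 yh0 zh29) (kh xh19 yh20 zh12) (kh xh18 yh0 zh33) (kh xh19 yh17 zh9) (kh xh18 yh0 zh34) (kh xh18 yh0 zh35) (kh xh19 yh20 zh14) (kh xh19 yh20 zh15) (kh xh19 yh20 zh18) (kh xh19 yh20 zh19) (kh xh19 yh20 zh20) (kh xh19 yh12 zh21) (kh xh18 yh0 zh43) (kh xh18 yh0 zh44) (kh xh19 yh19 zh31) (kh xh19 yh19 zh32) (kh xh18 yh0 zh45) (kh xh18 yh0 zh46) (kh xh18 yh0 zh47) (kh xh19 yh14 zh10) (kh xh19 yh14 zh11) (kh xh19 yh20 zh29) (kh xh19 yh20 zh30) (kh xh19 yh20 zh31) (kh xh19 yh20 zh35) (kh xh19 yh20 zh36) (kh xh19 yh20 zh38) (kh xh19 yh20 zh39) (kh xh18 yh6 zh6) (kh xh18 yh6 zh8) (kh xh18 yh6 zh9)) (@D3.rec (fun _ =>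 Pt) (kh xh18 yh6 zh10) (kh xh18 yh6 zh11) (kh xh19 yh21 zh3) (kh xh18 yh24 zh3) (kh xh19 yh21 zh4) (kh xh18 yh1 zh10) (kh xh18 yh1 zh11) (kh xh19 yh21 zh7) (kh xh18 yh1 zh12) (kh xh18 yh24 zh9) (kh xh18 yh24 zh10) (kh xh18 yh24 zh11) (kh xh18 yh24 zh12) (kh xh18 yh24 zh13) (kh xh18 yh12 zh49) (kh xh18 yh1 zh23) (kh xh19 yh16 zh44) (kh xh18 yh14 zh10) (kh xh18 yh14 zh11) (kh xh19 yh16 zh45) (kh xh19 yh17 zh1) (kh xh19 yh17 zh2) (kh xh19 yh17 zh5) (kh xh19 yh17 zh6) (kh xh19 yh17 zh7) (kh xh18 yh1 zh41) (kh xh18 yh1 zh42) (kh xh18 yh10 zh34) (kh xh18 yh10 zh35) (kh xh18 yh2 zh15) (kh xh18 yh1 zh43) (kh xh18 yh1 zh44) (kh xh18 yh1 zh45) (kh xh18 yh2 zh20) (kh xh19 yh13 zh35) (kh xh19 yh21 zh20) (kh xh19 yh21 zh21) (kh xh19 yh21 zh22) (kh xh19 yh21 zh26) (kh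 xh19 yh21 zh27) (kh xh19 yh21 zh28) (kh xh18 yh2 zh18) (kh xh18 yh11 zh20) (kh xh18 yh11 zh21) (kh xh19 yh17 zh30) (kh xh18 yh12 zh17) (kh xh19 yh17 zh3) (kh xh19 yh17 zh4) (kh xh19 yh17 zh31) (kh xh18 yh13 zh0) (kh xh18 yh2 zh6)) (@D3.rec (fun _ => Pt) (kh xh18 yh12 zh16) (kh xh19 yh21 zh45) (kh xh18 yh11 zh40) (kh xh18 yh11 zh41) (kh xh19 yh17 zh39) (kh xh19 yh17 zh40) (kh xh19 yh17 zh41) (kh xh19 yh17 zh42) (kh xh19 yh22 zh2) (kh xh18 yh2 zh14) (kh xh18 yh25 zh10) (kh xh18 yh12 zh20) (kh xh19 yh21 zh37) (kh xh19 yh16 zh46) (kh xh19 yh21 zh29) (kh xh19 yh21 zh30) (kh xh19 yh17 zh45) (kh xh18 yh2 zh24) (kh xh18 yh2 zh25) (kh xh19 yh22 zh10) (kh xh19 yh22 zh11) (kh xh19 yh18 zh1) (kh xh18 yh2 zh37) (kh xh18 yh2 zh38) (kh xh18 yh9 zh27) (kh xh18 yh9 zh28)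 (kh xh18 yh9 zh29) (kh xh18 yh6 zh43) (kh xh18 yh2 zh39) (kh xh18 yh2 zh40) (kh xh18 yh2 zh41) (kh xh18 yh12 zh25) (kh xh18 yh12 zh26) (kh xh19 yh19 zh50) (kh xh19 yh22 zh14) (kh xh19 yh22 zh15) (kh xh19 yh22 zh16) (kh xh19 yh22 zh23) (kh xh19 yh22 zh24) (kh xh19 yh22 zh25) (kh xh18 yh25 zh40) (kh xh18 yh25 zh41) (kh xh18 yh25 zh42) (kh xh19 yh22 zh40) (kh xh18 yh10 zh12) (kh xh19 yh16 zh28) (kh xh19 yh17 zh17) (kh xh19 yh17 zh18) (kh xh19 yh18 zh25) (kh xh18 yh3 zh2) (kh xh18 yh3 zh3)) (@D3.rec (fun _ => Pt) (kh xh19 yh18 zh47) (kh xh19 yh22 zh47) (kh xh19 yh22 zh48) (kh xh19 yh22 zh49) (kh xh19 yh18 zh27) (kh xh19 yh12 zh0) (kh xh19 yh18 zh28) (kh xh19 yh17 zh38) (kh xh19 yh18 zh29) (kh xh18 yh10 zh4) (kh xh18 yh3 zh10) (kh xh19 yh23 zh11) (kh xh18 yh8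 zh38) (kh xh18 yh3 zh15) (kh xh18 yh3 zh16) (kh xh18 yh13 zh32) (kh xh18 yh3 zh17) (kh xh19 yh23 zh15) (kh xh19 yh23 zh16) (kh xh19 yh23 zh18) (kh xh19 yh18 zh40) (kh xh19 yh18 zh41) (kh xh19 yh23 zh24) (kh xh18 yh26 zh23) (kh xh18 yh26 zh24) (kh xh18 yh26 zh25) (kh xh18 yh3 zh29) (kh xh18 yh3 zh30) (kh xh19 yh21 zh11) (kh xh19 yh23 zh28) (kh xh18 yh3 zh28) (kh xh19 yh22 zh22) (kh xh18 yh26 zh32) (kh xh18 yh4 zh11) (kh xh18 yh4 zh27) (kh xh18 yh9 zh43) (kh xh18 yh9 zh44) (kh xh18 yh4 zh17) (kh xh18 yh4 zh18) (kh xh18 yh4 zh19) (kh xh18 yh4 zh20) (kh xh18 yh8 zh0) (kh xh18 yh7 zh1) (kh xh18 yh7 zh2) (kh xh18 yh3 zh44) (kh xh18 yh13 zh50) (kh xh19 yh23 zh44) (kh xh19 yh16 zh41) (kh xh18 yh7 zh3) (kh xh18 yh7 zh4) (kh xh18 yh4 zh0))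
def f_h_19 : D2 → D3 → Pt := @D2.rec (fun _ => D3 → Pt) (@D3.rec (fun _ => Pt) (kh xh19 yh19 zh5) (kh xh18 yh4 zh1) (kh xh19 yh14 zh22) (kh xh19 yh24 zh2) (kh xh19 yh24 zh3) (kh xh19 yh24 zh5) (kh xh19 yh16 zh10) (kh xh19 yh13 zh28) (kh xh18 yh6 zh39) (kh xh18 yh4 zh32) (kh xh18 yh4 zh33) (kh xh18 yh4 zh34) (kh xh18 yh4 zh35) (kh xh18 yh4 zh36) (kh xh18 yh5 zh28) (kh xh18 yh13 zh37) (kh xh19 yh15 zh29) (kh xh19 yh15 zh30) (kh xh19 yh23 zh30) (kh xh18 yh13 zh9) (kh xh18 yh9 zh7) (kh xh18 yh14 zh32) (kh xh18 yh14 zh33) (kh xh19 yh14 zh50) (kh xh19 yh23 zh35) (kh xh19 yh23 zh36) (kh xh19 yh23 zh37) (kh xh19 yh23 zh38) (kh xh19 yh23 zh39) (kh xh18 yh4 zh22) (kh xh19 yh24 zh38) (kh xh18 yh5 zh40) (kh xh18 yh4 zh28) (kh xh18 yh5 zh43) (kh xh18 yh4 zh30) (kh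 xh19 yh23 zh31) (kh xh19 yh24 zh41) (kh xh19 yh16 zh1) (kh xh19 yh24 zh43) (kh xh19 yh15 zh0) (kh xh19 yh15 zh1) (kh xh19 yh24 zh15) (kh xh19 yh24 zh16) (kh xh19 yh24 zh17) (kh xh19 yh24 zh18) (kh xh19 yh25 zh3) (kh xh19 yh0 zh46) (kh xh19 yh0 zh47) (kh xh19 yh0 zh48) (kh xh19 yh0 zh49) (kh xh19 yh0 zh50)) (@D3.rec (fun _ => Pt) (kh xh19 yh1 zh0) (kh xh19 yh25 zh8) (kh xh19 yh1 zh2) (kh xh19 yh25 zh10) (kh xh19 yh25 zh12) (kh xh18 yh4 zh47) (kh xh18 yh5 zh21) (kh xh18 yh5 zh1) (kh xh18 yh9 zh46) (kh xh19 yh16 zh14) (kh xh19 yh16 zh15) (kh xh19 yh25 zh15) (kh xh18 yh5 zh10) (kh xh18 yh5 zh9) (kh xh19 yh18 zh11) (kh xh19 yh17 zh29) (kh xh19 yh19 zh47) (kh xh19 yh19 zh48) (kh xh19 yh19 zh49) (kh xh18 yh13 zh28) (kh xh19 yh25 zh23) (kh xh19 yh25 zh20) (kh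 xh19 yh25 zh22) (kh xh18 yh5 zh17) (kh xh18 yh9 zh49) (kh xh18 yh5 zh18) (kh xh18 yh5 zh19) (kh xh18 yh13 zh36) (kh xh18 yh5 zh20) (kh xh19 yh18 zh4) (kh xh19 yh25 zh33) (kh xh19 yh25 zh34) (kh xh19 yh25 zh36) (kh xh19 yh25 zh37) (kh xh19 yh25 zh39) (kh xh19 yh25 zh14) (kh xh19 yh18 zh17) (kh xh18 yh12 zh7) (kh xh19 yh18 zh30) (kh xh19 yh18 zh31) (kh xh19 yh18 zh32) (kh xh19 yh20 zh10) (kh xh19 yh20 zh11) (kh xh19 yh26 zh6) (kh xh19 yh24 zh20) (kh xh18 yh5 zh32) (kh xh18 yh5 zh33) (kh xh18 yh5 zh34) (kh xh18 yh5 zh35) (kh xh19 yh26 zh8) (kh xh19 yh26 zh9)) (@D3.rec (fun _ => Pt) (kh xh19 yh26 zh10) (kh xh19 yh26 zh11) (kh xh18 yh14 zh12) (kh xh18 yh5 zh48) (kh xh19 yh14 zh33) (kh xh18 yh5 zh49) (kh xh18 yh5 zh50) (kh xh19 yh24 zh40) (kh xh19 yh15 zh9)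 (kh xh18 yh6 zh0) (kh xh18 yh6 zh1) (kh xh18 yh6 zh2) (kh xh19 yh24 zh42) (kh xh18 yh13 zh12) (kh xh18 yh6 zh3) (kh xh18 yh6 zh4) (kh xh18 yh12 zh48) (kh xh18 yh6 zh5) (kh xh19 yh26 zh16) (kh xh19 yh26 zh17) (kh xh19 yh26 zh20) (kh xh19 yh26 zh21) (kh xh19 yh26 zh22) (kh xh19 yh26 zh25) (kh xh19 yh26 zh26) (kh xh19 yh26 zh45) (kh xh19 yh26 zh28) (kh xh19 yh26 zh32) (kh xh19 yh26 zh34) (kh xh19 yh20 zh49) (kh xh18 yh12 zh6) (kh xh19 yh20 zh50) (kh xh19 yh21 zh0) (kh xh20 yh0 zh1) (kh xh19 yh21 zh1) (kh xh20 yh0 zh4) (kh xh18 yh6 zh12) (kh xh19 yh2 zh37) (kh xh19 yh2 zh38) (kh xh19 yh2 zh39) (kh xh20 yh0 zh9) (kh xh18 yh6 zh35) (kh xh18 yh6 zh36) (kh xh18 yh6 zh37) (kh xh20 yh0 zh13) (kh xh18 yh6 zh40) (kh xh20 yh0 zh16) (kh xh18 yh6 zh25) (kh xh19 yh2 zh48)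 (kh xh18 yh6 zh28) (kh xh19 yh22 zh21)) (@D3.rec (fun _ => Pt) (kh xh18 yh6 zh30) (kh xh20 yh0 zh21) (kh xh20 yh0 zh22) (kh xh18 yh6 zh32) (kh xh19 yh25 zh13) (kh xh20 yh0 zh11) (kh xh19 yh24 zh0) (kh xh19 yh24 zh1) (kh xh18 yh6 zh38) (kh xh20 yh0 zh26) (kh xh18 yh6 zh41) (kh xh19 yh3 zh11) (kh xh19 yh3 zh12) (kh xh20 yh0 zh27) (kh xh18 yh6 zh45) (kh xh18 yh6 zh46) (kh xh19 yh14 zh25) (kh xh18 yh7 zh27) (kh xh19 yh23 zh42) (kh xh19 yh23 zh43) (kh xh18 yh8 zh9) (kh xh18 yh7 zh38) (kh xh18 yh7 zh40) (kh xh18 yh8 zh22) (kh xh18 yh8 zh23) (kh xh18 yh14 zh31) (kh xh18 yh9 zh26) (kh xh19 yh12 zh39) (kh xh18 yh9 zh42) (kh xh18 yh12 zh22) (kh xh18 yh12 zh23) (kh xh18 yh12 zh24) (kh xh18 yh7 zh19) (kh xh18 yh7 zh20) (kh xh18 yh7 zh21) (kh xh18 yh13 zh3) (kh xh18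 yh13 zh4) (kh xh20 yh0 zh38) (kh xh20 yh0 zh39) (kh xh20 yh0 zh40) (kh xh18 yh10 zh21) (kh xh18 yh10 zh22) (kh xh19 yh26 zh35) (kh xh20 yh0 zh29) (kh xh18 yh7 zh31) (kh xh18 yh7 zh44) (kh xh20 yh0 zh48) (kh xh19 yh11 zh44) (kh xh19 yh15 zh45) (kh xh19 yh15 zh47) (kh xh19 yh15 zh48)) (@D3.rec (fun _ => Pt) (kh xh19 yh15 zh50) (kh xh19 yh16 zh0) (kh xh18 yh10 zh43) (kh xh20 yh0 zh31) (kh xh18 yh7 zh42) (kh xh18 yh7 zh43) (kh xh20 yh1 zh4) (kh xh20 yh1 zh5) (kh xh20 yh0 zh49) (kh xh18 yh13 zh15) (kh xh18 yh8 zh27) (kh xh18 yh14 zh48) (kh xh18 yh14 zh49) (kh xh18 yh8 zh28) (kh xh19 yh11 zh25) (kh xh19 yh11 zh26) (kh xh19 yh11 zh27) (kh xh19 yh23 zh40) (kh xh19 yh23 zh41) (kh xh18 yh8 zh29) (kh xh18 yh8 zh4) (kh xh18 yh8 zh5) (kh xh18 yh8 zh6) (kh xh20 yh1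 zh19) (kh xh20 yh1 zh20) (kh xh20 yh1 zh21) (kh xh20 yh1 zh22) (kh xh20 yh1 zh23) (kh xh18 yh8 zh32) (kh xh18 yh11 zh13) (kh xh20 yh0 zh30) (kh xh18 yh8 zh11) (kh xh18 yh8 zh12) (kh xh20 yh1 zh31) (kh xh20 yh1 zh32) (kh xh20 yh1 zh33) (kh xh18 yh8 zh17) (kh xh18 yh8 zh18) (kh xh18 yh8 zh19) (kh xh18 yh8 zh20) (kh xh18 yh8 zh21) (kh xh20 yh1 zh37) (kh xh20 yh1 zh38) (kh xh20 yh1 zh39) (kh xh20 yh1 zh40) (kh xh20 yh1 zh41) (kh xh20 yh0 zh32) (kh xh18 yh8 zh31) (kh xh20 yh1 zh46) (kh xh18 yh8 zh35) (kh xh18 yh8 zh36)) (@D3.rec (fun _ => Pt) (kh xh19 yh23 zh13) (kh xh19 yh23 zh14) (kh xh19 yh5 zh2) (kh xh18 yh8 zh42) (kh xh18 yh8 zh43) (kh xh20 yh2 zh0) (kh xh20 yh2 zh1) (kh xh18 yh9 zh19) (kh xh18 yh8 zh46) (kh xh20 yh2 zh4) (kh xh20 yh2 zh5) (kh xh19 yh5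 zh11) (kh xh18 yh14 zh6) (kh xh18 yh8 zh50) (kh xh20 yh2 zh10) (kh xh20 yh2 zh11) (kh xh18 yh9 zh32) (kh xh18 yh9 zh3) (kh xh18 yh9 zh4) (kh xh20 yh2 zh16) (kh xh20 yh2 zh17) (kh xh18 yh14 zh7) (kh xh18 yh9 zh8) (kh xh18 yh9 zh9) (kh xh19 yh24 zh27) (kh xh20 yh2 zh20) (kh xh20 yh2 zh21) (kh xh18 yh9 zh14) (kh xh18 yh10 zh7) (kh xh18 yh10 zh8) (kh xh18 yh9 zh15) (kh xh18 yh9 zh16) (kh xh20 yh2 zh25) (kh xh20 yh2 zh28) (kh xh20 yh2 zh29) (kh xh18 yh13 zh31) (kh xh18 yh13 zh35) (kh xh19 yh12 zh40) (kh xh19 yh12 zh41) (kh xh19 yh12 zh42) (kh xh19 yh12 zh43) (kh xh19 yh12 zh44) (kh xh19 yh19 zh41) (kh xh19 yh19 zh42) (kh xh20 yh0 zh33) (kh xh19 yh22 zh17) (kh xh19 yh22 zh18) (kh xh19 yh22 zh19) (kh xh19 yh22 zh20) (kh xh18 yh13 zh21) (kh xh18 yh9 zh35)) (@D3.rec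 (fun _ => Pt) (kh xh18 yh9 zh36) (kh xh20 yh2 zh14) (kh xh20 yh2 zh15) (kh xh18 yh9 zh37) (kh xh18 yh9 zh38) (kh xh18 yh9 zh39) (kh xh20 yh2 zh49) (kh xh20 yh2 zh50) (kh xh20 yh3 zh3) (kh xh20 yh3 zh4) (kh xh20 yh3 zh5) (kh xh20 yh3 zh6) (kh xh18 yh11 zh29) (kh xh19 yh23 zh32) (kh xh19 yh23 zh33) (kh xh19 yh23 zh34) (kh xh18 yh9 zh50) (kh xh18 yh10 zh0) (kh xh19 yh25 zh16) (kh xh19 yh25 zh17) (kh xh18 yh10 zh1) (kh xh18 yh10 zh2) (kh xh19 yh25 zh35) (kh xh20 yh3 zh15) (kh xh20 yh3 zh16) (kh xh20 yh3 zh19) (kh xh20 yh3 zh20) (kh xh18 yh10 zh13) (kh xh18 yh10 zh14) (kh xh19 yh23 zh10) (kh xh19 yh22 zh3) (kh xh18 yh10 zh15) (kh xh18 yh10 zh16) (kh xh20 yh2 zh26) (kh xh20 yh2 zh27) (kh xh20 yh0 zh18) (kh xh18 yh10 zh17) (kh xh18 yh10 zh18) (kh xh18 yh10 zh19)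 (kh xh19 yh22 zh41) (kh xh19 yh22 zh42) (kh xh20 yh3 zh25) (kh xh20 yh3 zh26) (kh xh20 yh3 zh29) (kh xh20 yh3 zh30) (kh xh20 yh3 zh35) (kh xh20 yh3 zh36) (kh xh19 yh19 zh17) (kh xh20 yh0 zh45) (kh xh19 yh6 zh49) (kh xh19 yh6 zh50)) (@D3.rec (fun _ => Pt) (kh xh18 yh10 zh29) (kh xh18 yh12 zh33) (kh xh18 yh12 zh12) (kh xh19 yh21 zh23) (kh xh19 yh21 zh24) (kh xh19 yh21 zh25) (kh xh18 yh12 zh13) (kh xh18 yh10 zh47) (kh xh18 yh10 zh40) (kh xh18 yh10 zh41) (kh xh20 yh4 zh1) (kh xh20 yh4 zh2) (kh xh20 yh4 zh3) (kh xh20 yh1 zh3) (kh xh18 yh12 zh34) (kh xh19 yh13 zh37) (kh xh18 yh10 zh50) (kh xh18 yh11 zh0) (kh xh20 yh3 zh50) (kh xh20 yh4 zh0) (kh xh18 yh11 zh1) (kh xh18 yh11 zh2) (kh xh18 yh11 zh3) (kh xh20 yh4 zh9) (kh xh20 yh4 zh10) (kh xh20 yh4 zh11) (kh xh20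 yh4 zh15) (kh xh20 yh4 zh16) (kh xh20 yh4 zh17) (kh xh19 yh23 zh6) (kh xh18 yh12 zh46) (kh xh19 yh7 zh31) (kh xh18 yh11 zh11) (kh xh18 yh11 zh12) (kh xh20 yh4 zh24) (kh xh20 yh4 zh25) (kh xh20 yh1 zh30) (kh xh18 yh13 zh5) (kh xh18 yh13 zh8) (kh xh19 yh16 zh8) (kh xh19 yh16 zh9) (kh xh19 yh12 zh49) (kh xh19 yh21 zh38) (kh xh19 yh21 zh39) (kh xh18 yh11 zh48) (kh xh18 yh11 zh49) (kh xh18 yh11 zh26) (kh xh18 yh11 zh27) (kh xh20 yh4 zh35) (kh xh20 yh4 zh36) (kh xh19 yh15 zh43)) (@D3.rec (fun _ => Pt) (kh xh19 yh14 zh18) (kh xh19 yh14 zh19) (kh xh18 yh14 zh15) (kh xh18 yh14 zh16) (kh xh18 yh14 zh17) (kh xh19 yh13 zh47) (kh xh19 yh13 zh48) (kh xh19 yh14 zh20) (kh xh19 yh14 zh21) (kh xh19 yh21 zh47) (kh xh19 yh21 zh48) (kh xh18 yh11 zh45) (kh xh18 yh11 zh46) (kh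 xh19 yh13 zh42) (kh xh20 yh4 zh49) (kh xh20 yh4 zh50) (kh xh19 yh16 zh35) (kh xh20 yh4 zh33) (kh xh20 yh4 zh34) (kh xh18 yh12 zh4) (kh xh18 yh12 zh5) (kh xh19 yh14 zh12) (kh xh19 yh14 zh13) (kh xh18 yh15 zh7) (kh xh20 yh5 zh5) (kh xh19 yh26 zh48) (kh xh19 yh25 zh50) (kh xh18 yh15 zh8) (kh xh19 yh17 zh24) (kh xh19 yh17 zh25) (kh xh19 yh17 zh44) (kh xh20 yh3 zh46) (kh xh18 yh12 zh18) (kh xh19 yh13 zh36) (kh xh19 yh21 zh46) (kh xh19 yh21 zh41) (kh xh19 yh13 zh40) (kh xh19 yh13 zh41) (kh xh19 yh22 zh4) (kh xh19 yh16 zh49) (kh xh19 yh16 zh50) (kh xh20 yh0 zh35) (kh xh20 yh0 zh36) (kh xh20 yh0 zh37) (kh xh19 yh22 zh26) (kh xh19 yh22 zh27) (kh xh19 yh22 zh28) (kh xh18 yh12 zh29) (kh xh18 yh12 zh30) (kh xh18 yh12 zh31) (kh xh20 yh5 zh25)) (@D3.rec (fun _ => Pt)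 (kh xh20 yh5 zh26) (kh xh20 yh5 zh27) (kh xh19 yh17 zh0) (kh xh20 yh3 zh45) (kh xh18 yh12 zh37) (kh xh18 yh12 zh38) (kh xh18 yh12 zh39) (kh xh20 yh5 zh31) (kh xh20 yh5 zh32) (kh xh20 yh5 zh33) (kh xh18 yh12 zh43) (kh xh18 yh12 zh44) (kh xh18 yh12 zh45) (kh xh20 yh5 zh36) (kh xh20 yh5 zh37) (kh xh19 yh26 zh33) (kh xh19 yh20 zh37) (kh xh18 yh13 zh1) (kh xh19 yh21 zh44) (kh xh19 yh16 zh29) (kh xh20 yh0 zh41) (kh xh20 yh0 zh42) (kh xh20 yh4 zh28) (kh xh19 yh16 zh18) (kh xh19 yh16 zh30) (kh xh19 yh24 zh26) (kh xh18 yh13 zh11) (kh xh20 yh5 zh48) (kh xh19 yh26 zh30) (kh xh18 yh13 zh14) (kh xh20 yh1 zh8) (kh xh20 yh1 zh9) (kh xh18 yh13 zh18) (kh xh18 yh13 zh19) (kh xh20 yh6 zh1) (kh xh20 yh6 zh2) (kh xh19 yh23 zh49) (kh xh20 yh2 zh47) (kh xh20 yh2 zh48) (kh xh18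 yh13 zh24) (kh xh18 yh13 zh25) (kh xh20 yh6 zh8) (kh xh20 yh6 zh9) (kh xh19 yh15 zh3) (kh xh19 yh15 zh4) (kh xh19 yh25 zh29) (kh xh19 yh15 zh31) (kh xh19 yh15 zh32) (kh xh20 yh2 zh33) (kh xh19 yh23 zh17) (kh xh18 yh13 zh34)) (@D3.rec (fun _ => Pt) (kh xh20 yh6 zh18) (kh xh19 yh25 zh38) (kh xh19 yh24 zh21) (kh xh19 yh24 zh22) (kh xh18 yh13 zh40) (kh xh18 yh13 zh41) (kh xh18 yh13 zh42) (kh xh20 yh6 zh22) (kh xh20 yh6 zh23) (kh xh20 yh6 zh24) (kh xh18 yh14 zh39) (kh xh18 yh14 zh0) (kh xh18 yh14 zh1) (kh xh18 yh14 zh42) (kh xh18 yh14 zh43) (kh xh18 yh14 zh2) (kh xh18 yh14 zh3) (kh xh18 yh14 zh46) (kh xh18 yh14 zh4) (kh xh19 yh23 zh45) (kh xh19 yh23 zh46) (kh xh20 yh6 zh30) (kh xh20 yh6 zh31) (kh xh20 yh6 zh32) (kh xh20 yh6 zh35) (kh xh20 yh6 zh36) (kh xh19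 yh15 zh2) (kh xh20 yh2 zh9) (kh xh19 yh21 zh13) (kh xh19 yh21 zh14) (kh xh19 yh26 zh15) (kh xh19 yh11 zh40) (kh xh19 yh11 zh41) (kh xh20 yh4 zh42) (kh xh20 yh4 zh43) (kh xh20 yh7 zh2) (kh xh18 yh15 zh6) (kh xh18 yh15 zh4) (kh xh18 yh15 zh5) (kh xh18 yh14 zh25) (kh xh19 yh14 zh14) (kh xh19 yh14 zh15) (kh xh18 yh14 zh37) (kh xh18 yh14 zh35) (kh xh18 yh14 zh38) (kh xh18 yh14 zh36) (kh xh18 yh14 zh34) (kh xh19 yh11 zh39) (kh xh19 yh11 zh42) (kh xh19 yh24 zh28) (kh xh19 yh24 zh29)) (@D3.rec (fun _ => Pt) (kh xh20 yh7 zh10) (kh xh20 yh7 zh8) (kh xh20 yh7 zh9) (kh xh20 yh7 zh7) (kh xh20 yh7 zh17) (kh xh20 yh6 zh28) (kh xh20 yh6 zh29) (kh xh18 yh14 zh50) (kh xh18 yh15 zh0) (kh xh18 yh15 zh1) (kh xh20 yh6 zh33) (kh xh20 yh6 zh34) (kh xh18 yh15 zh2) (kh xh18 yh15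 zh3) (kh xh20 yh1 zh11) (kh xh20 yh6 zh38) (kh xh20 yh1 zh10) (kh xh20 yh1 zh12) (kh xh20 yh7 zh21) (kh xh20 yh7 zh22) (kh xh20 yh7 zh25) (kh xh20 yh7 zh4) (kh xh20 yh7 zh3) (kh xh20 yh5 zh7) (kh xh19 yh11 zh24) (kh xh19 yh4 zh14) (kh xh19 yh4 zh15) (kh xh19 yh4 zh16) (kh xh18 yh16 zh31) (kh xh18 yh16 zh33) (kh xh18 yh19 zh12) (kh xh18 yh19 zh14) (kh xh18 yh16 zh49) (kh xh18 yh16 zh50) (kh xh18 yh17 zh0) (kh xh20 yh7 zh40) (kh xh18 yh15 zh27) (kh xh18 yh17 zh34) (kh xh18 yh18 zh3) (kh xh19 yh10 zh47) (kh xh19 yh10 zh31) (kh xh19 yh10 zh32) (kh xh19 yh10 zh48) (kh xh18 yh19 zh29) (kh xh19 yh3 zh47) (kh xh18 yh20 zh1) (kh xh18 yh20 zh3) (kh xh18 yh20 zh4) (kh xh18 yh20 zh5) (kh xh18 yh20 zh6) (kh xh20 yh8 zh0)) (@D3.rec (fun _ => Pt) (kh xh18 yh26 zh5) (kh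 xh18 yh15 zh44) (kh xh19 yh12 zh2) (kh xh18 yh16 zh10) (kh xh18 yh16 zh11) (kh xh18 yh22 zh23) (kh xh19 yh12 zh6) (kh xh19 yh12 zh7) (kh xh18 yh16 zh1) (kh xh18 yh22 zh18) (kh xh20 yh8 zh10) (kh xh20 yh8 zh11) (kh xh19 yh12 zh12) (kh xh18 yh16 zh17) (kh xh18 yh16 zh18) (kh xh18 yh16 zh19) (kh xh18 yh17 zh37) (kh xh18 yh16 zh7) (kh xh20 yh8 zh22) (kh xh20 yh8 zh23) (kh xh19 yh12 zh20) (kh xh18 yh23 zh31) (kh xh20 yh8 zh3) (kh xh20 yh8 zh4) (kh xh20 yh8 zh5) (kh xh18 yh16 zh40) (kh xh18 yh16 zh14) (kh xh18 yh16 zh15) (kh xh20 yh8 zh35) (kh xh20 yh8 zh36) (kh xh20 yh8 zh37) (kh xh20 yh8 zh18) (kh xh20 yh8 zh19) (kh xh20 yh8 zh20) (kh xh19 yh12 zh34) (kh xh19 yh12 zh35) (kh xh19 yh12 zh36) (kh xh19 yh12 zh37) (kh xh20 yh8 zh47) (kh xh19 yh3 zh27) (kh xh19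 yh5 zh37) (kh xh19 yh5 zh38) (kh xh19 yh5 zh39) (kh xh19 yh5 zh40) (kh xh19 yh5 zh41) (kh xh18 yh17 zh15) (kh xh18 yh22 zh45) (kh xh18 yh22 zh46) (kh xh20 yh7 zh33) (kh xh19 yh7 zh41) (kh xh20 yh7 zh34)) (@D3.rec (fun _ => Pt) (kh xh18 yh18 zh20) (kh xh18 yh16 zh36) (kh xh18 yh16 zh37) (kh xh20 yh9 zh13) (kh xh20 yh9 zh14) (kh xh18 yh18 zh16) (kh xh18 yh16 zh43) (kh xh18 yh16 zh44) (kh xh20 yh8 zh33) (kh xh20 yh8 zh34) (kh xh18 yh16 zh45) (kh xh18 yh16 zh46) (kh xh18 yh16 zh47) (kh xh20 yh9 zh19) (kh xh20 yh9 zh20) (kh xh20 yh9 zh21) (kh xh20 yh9 zh25) (kh xh20 yh9 zh26) (kh xh20 yh9 zh27) (kh xh20 yh9 zh28) (kh xh20 yh7 zh37) (kh xh20 yh7 zh38) (kh xh20 yh9 zh38) (kh xh19 yh13 zh23) (kh xh19 yh13 zh24) (kh xh19 yh13 zh25) (kh xh18 yh17 zh11) (kh xh18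 yh17 zh12) (kh xh19 yh0 zh7) (kh xh20 yh9 zh42) (kh xh18 yh17 zh10) (kh xh18 yh17 zh13) (kh xh19 yh13 zh32) (kh xh19 yh13 zh33) (kh xh19 yh13 zh34) (kh xh18 yh24 zh34) (kh xh19 yh8 zh33) (kh xh19 yh7 zh15) (kh xh18 yh20 zh20) (kh xh18 yh20 zh38) (kh xh19 yh8 zh36) (kh xh19 yh8 zh37) (kh xh19 yh8 zh13) (kh xh18 yh17 zh30) (kh xh18 yh17 zh31) (kh xh20 yh10 zh3) (kh xh20 yh10 zh4) (kh xh19 yh8 zh5) (kh xh19 yh8 zh6) (kh xh20 yh7 zh42) (kh xh18 yh17 zh41)) (@D3.rec (fun _ => Pt) (kh xh18 yh17 zh42) (kh xh18 yh17 zh43) (kh xh20 yh8 zh21) (kh xh18 yh17 zh39) (kh xh18 yh17 zh40) (kh xh20 yh10 zh13) (kh xh20 yh10 zh14) (kh xh20 yh10 zh9) (kh xh20 yh10 zh10) (kh xh20 yh10 zh11) (kh xh18 yh23 zh39) (kh xh18 yh23 zh40) (kh xh19 yh8 zh21) (kh xh19 yh8 zh22) (kh xh19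 yh10 zh40) (kh xh19 yh10 zh41) (kh xh18 yh21 zh2) (kh xh18 yh21 zh3) (kh xh19 yh8 zh0) (kh xh19 yh8 zh1) (kh xh19 yh8 zh7) (kh xh19 yh8 zh8) (kh xh19 yh0 zh2) (kh xh19 yh14 zh23) (kh xh18 yh18 zh9) (kh xh19 yh3 zh16) (kh xh20 yh10 zh31) (kh xh20 yh10 zh32) (kh xh19 yh14 zh28) (kh xh18 yh18 zh36) (kh xh18 yh18 zh37) (kh xh18 yh18 zh38) (kh xh18 yh18 zh39) (kh xh19 yh2 zh4) (kh xh19 yh14 zh34) (kh xh20 yh9 zh17) (kh xh20 yh9 zh18) (kh xh19 yh14 zh37) (kh xh19 yh14 zh38) (kh xh18 yh18 zh21) (kh xh18 yh18 zh22) (kh xh20 yh9 zh11) (kh xh20 yh9 zh12) (kh xh20 yh10 zh50) (kh xh20 yh11 zh0) (kh xh20 yh11 zh1) (kh xh19 yh14 zh46) (kh xh18 yh19 zh3) (kh xh18 yh19 zh4) (kh xh18 yh19 zh5) (kh xh19 yh0 zh23)) (@D3.rec (fun _ => Pt) (kh xh19 yh0 zh39) (kh xh19 yh0 zh40)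 (kh xh19 yh10 zh26) (kh xh19 yh9 zh43) (kh xh19 yh9 zh44) (kh xh18 yh18 zh33) (kh xh18 yh18 zh34) (kh xh20 yh11 zh19) (kh xh20 yh11 zh20) (kh xh19 yh2 zh8) (kh xh20 yh10 zh39) (kh xh20 yh10 zh40) (kh xh20 yh10 zh41) (kh xh20 yh10 zh42) (kh xh20 yh10 zh43) (kh xh18 yh18 zh41) (kh xh18 yh18 zh42) (kh xh20 yh11 zh30) (kh xh20 yh11 zh31) (kh xh18 yh18 zh47) (kh xh18 yh19 zh40) (kh xh18 yh19 zh41) (kh xh18 yh18 zh48) (kh xh18 yh18 zh49) (kh xh18 yh18 zh50) (kh xh20 yh11 zh34) (kh xh20 yh11 zh37) (kh xh20 yh11 zh38) (kh xh20 yh11 zh40) (kh xh19 yh0 zh16) (kh xh19 yh0 zh17) (kh xh19 yh9 zh46) (kh xh19 yh9 zh47) (kh xh20 yh11 zh9) (kh xh20 yh11 zh10) (kh xh20 yh11 zh50) (kh xh19 yh15 zh36) (kh xh20 yh12 zh0) (kh xh18 yh19 zh9) (kh xh18 yh21 zh32) (kh xh18 yh22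 zh1) (kh xh18 yh22 zh2) (kh xh20 yh7 zh35) (kh xh19 yh7 zh50) (kh xh20 yh7 zh36) (kh xh19 yh3 zh48) (kh xh18 yh19 zh39) (kh xh19 yh3 zh49) (kh xh19 yh3 zh50) (kh xh18 yh19 zh32) (kh xh19 yh4 zh0)) (@D3.rec (fun _ => Pt) (kh xh19 yh4 zh1) (kh xh19 yh0 zh37) (kh xh18 yh20 zh12) (kh xh18 yh21 zh44) (kh xh18 yh21 zh14) (kh xh18 yh22 zh3) (kh xh18 yh22 zh4) (kh xh18 yh22 zh5) (kh xh19 yh7 zh39) (kh xh19 yh7 zh40) (kh xh19 yh0 zh6) (kh xh18 yh19 zh31) (kh xh20 yh12 zh25) (kh xh20 yh12 zh14) (kh xh19 yh1 zh9) (kh xh19 yh1 zh10) (kh xh18 yh19 zh37) (kh xh18 yh19 zh38) (kh xh19 yh9 zh23) (kh xh20 yh12 zh30) (kh xh20 yh12 zh31) (kh xh20 yh12 zh11) (kh xh20 yh11 zh35) (kh xh20 yh11 zh36) (kh xh18 yh19 zh48) (kh xh18 yh19 zh49) (kh xh18 yh19 zh50) (kh xh18 yh20 zh0)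 (kh xh18 yh25 zh45) (kh xh19 yh9 zh19) (kh xh19 yh9 zh24) (kh xh20 yh12 zh37) (kh xh20 yh12 zh38) (kh xh20 yh12 zh39) (kh xh20 yh7 zh46) (kh xh19 yh8 zh16) (kh xh20 yh7 zh47) (kh xh20 yh7 zh48) (kh xh20 yh7 zh49) (kh xh20 yh12 zh49) (kh xh18 yh20 zh7) (kh xh18 yh26 zh47) (kh xh20 yh12 zh17) (kh xh20 yh12 zh1) (kh xh18 yh24 zh16) (kh xh18 yh24 zh19) (kh xh18 yh25 zh13) (kh xh20 yh9 zh48) (kh xh20 yh9 zh49) (kh xh19 yh8 zh39) (kh xh19 yh8 zh40)) (@D3.rec (fun _ => Pt) (kh xh19 yh9 zh2) (kh xh18 yh24 zh20) (kh xh18 yh24 zh21) (kh xh18 yh24 zh46) (kh xh18 yh24 zh47) (kh xh18 yh24 zh22) (kh xh18 yh24 zh23) (kh xh18 yh24 zh24) (kh xh18 yh20 zh34) (kh xh18 yh23 zh23) (kh xh20 yh13 zh15) (kh xh20 yh13 zh16) (kh xh19 yh17 zh12) (kh xh18 yh20 zh46) (kh xh18 yh20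 zh47) (kh xh18 yh20 zh48) (kh xh20 yh9 zh50) (kh xh18 yh25 zh46) (kh xh18 yh25 zh47) (kh xh18 yh20 zh42) (kh xh18 yh20 zh43) (kh xh20 yh13 zh28) (kh xh20 yh13 zh29) (kh xh20 yh13 zh30) (kh xh19 yh8 zh28) (kh xh19 yh8 zh29) (kh xh20 yh13 zh22) (kh xh20 yh13 zh23) (kh xh20 yh13 zh24) (kh xh19 yh1 zh15) (kh xh18 yh24 zh44) (kh xh18 yh24 zh48) (kh xh20 yh10 zh23) (kh xh20 yh10 zh24) (kh xh18 yh21 zh6) (kh xh18 yh21 zh7) (kh xh20 yh13 zh42) (kh xh20 yh13 zh43) (kh xh18 yh26 zh7) (kh xh18 yh25 zh4) (kh xh18 yh25 zh5) (kh xh18 yh25 zh6) (kh xh18 yh25 zh7) (kh xh20 yh12 zh19) (kh xh19 yh8 zh30) (kh xh18 yh25 zh16) (kh xh18 yh21 zh18) (kh xh20 yh14 zh1) (kh xh18 yh21 zh20) (kh xh18 yh21 zh21) (kh xh20 yh14 zh3)) (@D3.rec (fun _ => Pt) (kh xh20 yh14 zh4) (kh xh18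 yh25 zh21) (kh xh18 yh21 zh31) (kh xh18 yh21 zh26) (kh xh19 yh1 zh29) (kh xh20 yh14 zh8) (kh xh20 yh14 zh9) (kh xh19 yh18 zh7) (kh xh18 yh21 zh39) (kh xh18 yh21 zh40) (kh xh18 yh21 zh41) (kh xh19 yh1 zh14) (kh xh20 yh14 zh7) (kh xh20 yh12 zh2) (kh xh20 yh12 zh3) (kh xh18 yh21 zh36) (kh xh18 yh21 zh37) (kh xh19 yh1 zh36) (kh xh20 yh14 zh23) (kh xh20 yh14 zh24) (kh xh20 yh14 zh25) (kh xh20 yh14 zh16) (kh xh20 yh14 zh17) (kh xh20 yh14 zh18) (kh xh20 yh14 zh33) (kh xh18 yh25 zh48) (kh xh20 yh12 zh18) (kh xh18 yh26 zh4) (kh xh18 yh26 zh6) (kh xh18 yh26 zh8) (kh xh19 yh1 zh38) (kh xh19 yh1 zh39) (kh xh19 yh1 zh40) (kh xh20 yh9 zh7) (kh xh20 yh12 zh4) (kh xh20 yh12 zh5) (kh xh20 yh12 zh6) (kh xh20 yh12 zh20) (kh xh20 yh12 zh21) (kh xh20 yh12 zh22) (kh xh18 yh26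 zh20) (kh xh18 yh26 zh21) (kh xh20 yh14 zh50) (kh xh20 yh15 zh0) (kh xh18 yh22 zh11) (kh xh19 yh18 zh45) (kh xh18 yh22 zh15) (kh xh18 yh26 zh0) (kh xh20 yh15 zh2) (kh xh18 yh22 zh35) (kh xh18 yh22 zh36)) (@D3.rec (fun _ => Pt) (kh xh18 yh22 zh37) (kh xh20 yh8 zh12) (kh xh20 yh8 zh13) (kh xh19 yh19 zh3) (kh xh19 yh19 zh4) (kh xh19 yh0 zh0) (kh xh18 yh22 zh24) (kh xh18 yh22 zh25) (kh xh20 yh8 zh6) (kh xh20 yh8 zh7) (kh xh20 yh15 zh16) (kh xh20 yh15 zh17) (kh xh20 yh15 zh18) (kh xh19 yh19 zh13) (kh xh18 yh23 zh1) (kh xh18 yh23 zh2) (kh xh18 yh23 zh3) (kh xh19 yh6 zh47) (kh xh18 yh23 zh10) (kh xh18 yh22 zh33) (kh xh18 yh22 zh34) (kh xh20 yh15 zh33) (kh xh20 yh15 zh34) (kh xh20 yh15 zh6) (kh xh20 yh15 zh7) (kh xh20 yh15 zh8) (kh xh18 yh22 zh39) (kh xh18 yh22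 zh40) (kh xh20 yh15 zh39) (kh xh20 yh15 zh40) (kh xh20 yh15 zh41) (kh xh18 yh23 zh34) (kh xh18 yh23 zh35) (kh xh18 yh22 zh47) (kh xh18 yh22 zh48) (kh xh18 yh22 zh49) (kh xh20 yh9 zh5) (kh xh20 yh9 zh6) (kh xh20 yh15 zh48) (kh xh20 yh15 zh49) (kh xh20 yh16 zh0) (kh xh19 yh5 zh42) (kh xh19 yh5 zh43) (kh xh20 yh15 zh27) (kh xh20 yh15 zh28) (kh xh20 yh16 zh9) (kh xh18 yh23 zh4) (kh xh19 yh1 zh16) (kh xh19 yh1 zh17) (kh xh19 yh1 zh18) (kh xh18 yh25 zh33)) (@D3.rec (fun _ => Pt) (kh xh18 yh23 zh13) (kh xh18 yh23 zh14) (kh xh20 yh15 zh31) (kh xh20 yh15 zh32) (kh xh18 yh23 zh15) (kh xh18 yh23 zh16) (kh xh20 yh16 zh15) (kh xh20 yh16 zh16) (kh xh20 yh16 zh19) (kh xh20 yh16 zh20) (kh xh19 yh1 zh41) (kh xh19 yh1 zh42) (kh xh18 yh23 zh21) (kh xh20 yh16 zh25) (kh xh18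 yh23 zh26) (kh xh18 yh23 zh27) (kh xh20 yh13 zh17) (kh xh20 yh13 zh18) (kh xh18 yh23 zh28) (kh xh18 yh23 zh29) (kh xh18 yh23 zh30) (kh xh20 yh16 zh27) (kh xh20 yh16 zh28) (kh xh20 yh16 zh29) (kh xh20 yh16 zh33) (kh xh20 yh16 zh34) (kh xh20 yh16 zh35) (kh xh20 yh8 zh28) (kh xh20 yh8 zh29) (kh xh18 yh23 zh41) (kh xh18 yh23 zh42) (kh xh18 yh23 zh43) (kh xh20 yh15 zh45) (kh xh20 yh15 zh46) (kh xh20 yh15 zh47) (kh xh18 yh23 zh44) (kh xh18 yh23 zh45) (kh xh19 yh9 zh16) (kh xh18 yh23 zh46) (kh xh18 yh23 zh47) (kh xh20 yh10 zh19) (kh xh20 yh10 zh20) (kh xh20 yh16 zh44) (kh xh20 yh16 zh45) (kh xh20 yh17 zh12) (kh xh20 yh16 zh47) (kh xh20 yh17 zh2) (kh xh20 yh17 zh4) (kh xh20 yh17 zh6) (kh xh19 yh2 zh29) (kh xh19 yh2 zh31)) (@D3.rec (fun _ => Pt) (kh xh19 yh2 zh32)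 (kh xh19 yh2 zh34) (kh xh20 yh17 zh18) (kh xh18 yh24 zh2) (kh xh18 yh24 zh4) (kh xh20 yh16 zh10) (kh xh19 yh21 zh6) (kh xh18 yh24 zh7) (kh xh19 yh21 zh8) (kh xh20 yh10 zh34) (kh xh19 yh21 zh10) (kh xh18 yh26 zh28) (kh xh20 yh13 zh1) (kh xh19 yh10 zh28) (kh xh19 yh10 zh29) (kh xh20 yh13 zh2) (kh xh20 yh13 zh9) (kh xh20 yh13 zh10) (kh xh20 yh13 zh13) (kh xh20 yh13 zh14) (kh xh18 yh24 zh35) (kh xh18 yh24 zh36) (kh xh18 yh24 zh37) (kh xh19 yh7 zh3) (kh xh19 yh7 zh4) (kh xh19 yh7 zh5) (kh xh18 yh24 zh38) (kh xh18 yh24 zh39) (kh xh18 yh24 zh40) (kh xh18 yh25 zh14) (kh xh18 yh25 zh15) (kh xh20 yh9 zh45) (kh xh20 yh17 zh29) (kh xh20 yh17 zh30) (kh xh20 yh17 zh31) (kh xh20 yh17 zh35) (kh xh20 yh17 zh36) (kh xh18 yh25 zh12) (kh xh19 yh7 zh42) (kh xh19 yh7 zh43)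 (kh xh20 yh13 zh39) (kh xh19 yh8 zh35) (kh xh20 yh13 zh11) (kh xh20 yh13 zh12) (kh xh19 yh9 zh18) (kh xh18 yh25 zh1) (kh xh19 yh8 zh34) (kh xh19 yh8 zh9) (kh xh19 yh8 zh10) (kh xh20 yh13 zh46) (kh xh20 yh13 zh47)) (@D3.rec (fun _ => Pt) (kh xh20 yh13 zh48) (kh xh20 yh18 zh2) (kh xh18 yh25 zh8) (kh xh19 yh6 zh30) (kh xh19 yh8 zh38) (kh xh20 yh17 zh44) (kh xh20 yh13 zh3) (kh xh20 yh17 zh38) (kh xh20 yh17 zh39) (kh xh20 yh14 zh0) (kh xh18 yh25 zh19) (kh xh18 yh25 zh20) (kh xh20 yh18 zh8) (kh xh20 yh18 zh9) (kh xh18 yh25 zh34) (kh xh18 yh25 zh35) (kh xh18 yh25 zh36) (kh xh19 yh5 zh45) (kh xh19 yh5 zh46) (kh xh19 yh5 zh47) (kh xh19 yh5 zh48) (kh xh19 yh2 zh50) (kh xh18 yh26 zh31) (kh xh18 yh25 zh37) (kh xh18 yh25 zh38) (kh xh18 yh25 zh39) (kh xh19 yh8 zh44)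 (kh xh19 yh8 zh45) (kh xh19 yh8 zh46) (kh xh20 yh16 zh13) (kh xh20 yh16 zh14) (kh xh20 yh18 zh12) (kh xh20 yh18 zh13) (kh xh20 yh18 zh14) (kh xh20 yh18 zh22) (kh xh20 yh18 zh23) (kh xh20 yh18 zh36) (kh xh19 yh22 zh37) (kh xh19 yh22 zh38) (kh xh20 yh18 zh38) (kh xh18 yh25 zh43) (kh xh19 yh6 zh39) (kh xh19 yh6 zh40) (kh xh20 yh12 zh40) (kh xh20 yh13 zh26) (kh xh20 yh13 zh27) (kh xh20 yh14 zh34) (kh xh18 yh26 zh1) (kh xh18 yh26 zh2) (kh xh18 yh26 zh3) (kh xh20 yh15 zh3)) (@D3.rec (fun _ => Pt) (kh xh20 yh15 zh4) (kh xh20 yh18 zh45) (kh xh20 yh18 zh46) (kh xh20 yh18 zh47) (kh xh20 yh14 zh36) (kh xh20 yh8 zh1) (kh xh19 yh7 zh29) (kh xh20 yh14 zh37) (kh xh20 yh13 zh45) (kh xh20 yh17 zh5) (kh xh19 yh6 zh29) (kh xh18 yh26 zh11) (kh xh20 yh19 zh9) (kh xh19 yh5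 zh0) (kh xh19 yh5 zh1) (kh xh18 yh26 zh17) (kh xh18 yh26 zh18) (kh xh19 yh9 zh49) (kh xh18 yh26 zh19) (kh xh20 yh19 zh12) (kh xh20 yh19 zh13) (kh xh20 yh19 zh18) (kh xh20 yh14 zh48) (kh xh20 yh19 zh20) (kh xh18 yh26 zh22) (kh xh19 yh23 zh25) (kh xh20 yh17 zh23) (kh xh20 yh17 zh21) (kh xh18 yh26 zh29) (kh xh20 yh11 zh4) (kh xh19 yh0 zh18) (kh xh19 yh0 zh35) (kh xh19 yh6 zh13) (kh xh19 yh6 zh14) (kh xh19 yh6 zh15) (kh xh19 yh0 zh24) (kh xh19 yh0 zh25) (kh xh19 yh0 zh26) (kh xh19 yh0 zh27) (kh xh19 yh0 zh28) (kh xh19 yh4 zh17) (kh xh19 yh4 zh18) (kh xh19 yh3 zh18) (kh xh19 yh3 zh19) (kh xh18 yh26 zh46) (kh xh19 yh10 zh19) (kh xh19 yh10 zh20) (kh xh20 yh19 zh39) (kh xh20 yh13 zh0) (kh xh19 yh9 zh36) (kh xh20 yh19 zh47)) (@D3.rec (fun _ => Pt) (kh xh19 yh3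 zh6) (kh xh19 yh3 zh7) (kh xh19 yh0 zh3) (kh xh19 yh0 zh4) (kh xh20 yh15 zh15) (kh xh19 yh0 zh5) (kh xh20 yh10 zh28) (kh xh20 yh10 zh29) (kh xh20 yh19 zh49) (kh xh20 yh19 zh50) (kh xh20 yh9 zh39) (kh xh20 yh20 zh1) (kh xh20 yh12 zh24) (kh xh20 yh9 zh10) (kh xh20 yh9 zh41) (kh xh19 yh0 zh41) (kh xh19 yh0 zh42) (kh xh19 yh0 zh43) (kh xh19 yh0 zh44) (kh xh20 yh20 zh18) (kh xh19 yh1 zh44) (kh xh19 yh10 zh2) (kh xh19 yh10 zh3) (kh xh20 yh11 zh44) (kh xh20 yh11 zh45) (kh xh20 yh19 zh23) (kh xh19 yh9 zh25) (kh xh19 yh5 zh24) (kh xh19 yh10 zh49) (kh xh19 yh10 zh50) (kh xh20 yh11 zh12) (kh xh20 yh11 zh13) (kh xh20 yh19 zh28) (kh xh20 yh19 zh29) (kh xh20 yh17 zh20) (kh xh20 yh19 zh30) (kh xh20 yh19 zh31) (kh xh20 yh20 zh36) (kh xh19 yh0 zh30) (kh xh20 yh20 zh37)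 (kh xh19 yh2 zh7) (kh xh19 yh0 zh36) (kh xh19 yh2 zh12) (kh xh19 yh0 zh38) (kh xh20 yh19 zh24) (kh xh20 yh20 zh39) (kh xh20 yh12 zh16) (kh xh20 yh11 zh14) (kh xh20 yh11 zh15) (kh xh20 yh20 zh13) (kh xh20 yh20 zh14)) (@D3.rec (fun _ => Pt) (kh xh20 yh20 zh48) (kh xh20 yh20 zh16) (kh xh20 yh21 zh0) (kh xh19 yh0 zh45) (kh xh19 yh25 zh4) (kh xh19 yh25 zh5) (kh xh20 yh21 zh4) (kh xh20 yh18 zh17) (kh xh19 yh1 zh1) (kh xh20 yh21 zh7) (kh xh19 yh1 zh3) (kh xh20 yh21 zh9) (kh xh19 yh1 zh4) (kh xh19 yh3 zh4) (kh xh19 yh1 zh35) (kh xh19 yh1 zh11) (kh xh19 yh6 zh18) (kh xh19 yh6 zh19) (kh xh20 yh12 zh28) (kh xh20 yh12 zh29) (kh xh19 yh1 zh21) (kh xh20 yh21 zh12) (kh xh19 yh1 zh22) (kh xh19 yh1 zh20) (kh xh20 yh14 zh19) (kh xh20 yh13 zh38) (kh xh20 yh16 zh11) (kh xh20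 yh16 zh12) (kh xh20 yh21 zh26) (kh xh19 yh9 zh45) (kh xh20 yh21 zh20) (kh xh20 yh21 zh18) (kh xh20 yh21 zh19) (kh xh19 yh1 zh30) (kh xh19 yh1 zh31) (kh xh19 yh6 zh22) (kh xh19 yh1 zh32) (kh xh19 yh1 zh33) (kh xh19 yh10 zh1) (kh xh19 yh1 zh34) (kh xh20 yh14 zh10) (kh xh20 yh14 zh11) (kh xh20 yh21 zh30) (kh xh20 yh21 zh31) (kh xh20 yh21 zh10) (kh xh20 yh21 zh33) (kh xh20 yh21 zh34) (kh xh20 yh21 zh46) (kh xh20 yh21 zh11) (kh xh20 yh14 zh26) (kh xh19 yh8 zh26)) (@D3.rec (fun _ => Pt) (kh xh20 yh14 zh38) (kh xh20 yh14 zh39) (kh xh20 yh22 zh2) (kh xh20 yh14 zh41) (kh xh20 yh16 zh24) (kh xh20 yh22 zh5) (kh xh19 yh1 zh43) (kh xh20 yh20 zh19) (kh xh19 yh1 zh49) (kh xh19 yh1 zh50) (kh xh19 yh2 zh0) (kh xh19 yh2 zh1) (kh xh20 yh22 zh7) (kh xh20 yh22 zh8) (kh xh20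 yh22 zh9) (kh xh19 yh10 zh30) (kh xh19 yh2 zh18) (kh xh19 yh2 zh19) (kh xh20 yh10 zh44) (kh xh20 yh10 zh45) (kh xh19 yh2 zh20) (kh xh19 yh2 zh21) (kh xh19 yh2 zh22) (kh xh20 yh20 zh38) (kh xh20 yh11 zh23) (kh xh19 yh2 zh23) (kh xh19 yh2 zh24) (kh xh20 yh22 zh30) (kh xh19 yh2 zh26) (kh xh20 yh20 zh40) (kh xh19 yh9 zh28) (kh xh20 yh10 zh33) (kh xh19 yh2 zh27) (kh xh19 yh9 zh15) (kh xh19 yh2 zh28) (kh xh19 yh3 zh42) (kh xh20 yh22 zh13) (kh xh20 yh22 zh14) (kh xh20 yh22 zh15) (kh xh20 yh22 zh19) (kh xh20 yh22 zh20) (kh xh20 yh22 zh22) (kh xh20 yh22 zh26) (kh xh20 yh22 zh44) (kh xh20 yh22 zh28) (kh xh19 yh2 zh25) (kh xh20 yh22 zh34) (kh xh20 yh17 zh15) (kh xh19 yh8 zh25) (kh xh20 yh18 zh20) (kh xh20 yh17 zh16))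
def f_h_20 : D2 → D3 → Pt := @D2.rec (fun _ => D3 → Pt) (@D3.rec (fun _ => Pt) (kh xh20 yh22 zh49) (kh xh19 yh2 zh33) (kh xh20 yh23 zh1) (kh xh20 yh23 zh2) (kh xh19 yh2 zh35) (kh xh20 yh21 zh1) (kh xh20 yh0 zh6) (kh xh20 yh23 zh5) (kh xh20 yh0 zh8) (kh xh19 yh2 zh40) (kh xh20 yh18 zh21) (kh xh19 yh3 zh5) (kh xh20 yh19 zh48) (kh xh19 yh2 zh44) (kh xh20 yh23 zh11) (kh xh20 yh23 zh12) (kh xh19 yh2 zh46) (kh xh20 yh21 zh6) (kh xh19 yh6 zh35) (kh xh20 yh21 zh8) (kh xh20 yh23 zh14) (kh xh19 yh3 zh1) (kh xh19 yh3 zh2) (kh xh20 yh19 zh37) (kh xh20 yh19 zh38) (kh xh20 yh0 zh25) (kh xh19 yh3 zh9) (kh xh19 yh3 zh13) (kh xh20 yh9 zh4) (kh xh19 yh3 zh43) (kh xh19 yh4 zh30) (kh xh19 yh4 zh3) (kh xh19 yh4 zh46) (kh xh19 yh5 zh44) (kh xh20 yh8 zh48) (kh xh19 yh8 zh41)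 (kh xh19 yh8 zh42) (kh xh19 yh8 zh43) (kh xh19 yh3 zh37) (kh xh19 yh3 zh38) (kh xh19 yh3 zh39) (kh xh19 yh9 zh20) (kh xh19 yh9 zh21) (kh xh20 yh23 zh20) (kh xh20 yh23 zh21) (kh xh19 yh6 zh48) (kh xh20 yh22 zh35) (kh xh20 yh22 zh36) (kh xh19 yh3 zh46) (kh xh19 yh4 zh8) (kh xh20 yh12 zh10)) (@D3.rec (fun _ => Pt) (kh xh20 yh12 zh12) (kh xh20 yh12 zh13) (kh xh20 yh12 zh15) (kh xh19 yh7 zh13) (kh xh19 yh4 zh6) (kh xh19 yh4 zh7) (kh xh20 yh23 zh30) (kh xh20 yh23 zh31) (kh xh19 yh9 zh30) (kh xh19 yh9 zh31) (kh xh19 yh11 zh16) (kh xh19 yh11 zh14) (kh xh19 yh11 zh17) (kh xh20 yh7 zh30) (kh xh20 yh7 zh31) (kh xh20 yh7 zh32) (kh xh20 yh19 zh33) (kh xh20 yh19 zh34) (kh xh20 yh19 zh35) (kh xh19 yh4 zh23) (kh xh19 yh4 zh24) (kh xh19 yh4 zh25) (kh xh19 yh4 zh26) (kh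 xh19 yh4 zh27) (kh xh20 yh23 zh45) (kh xh20 yh23 zh46) (kh xh20 yh23 zh47) (kh xh20 yh23 zh48) (kh xh20 yh23 zh49) (kh xh20 yh23 zh50) (kh xh19 yh7 zh36) (kh xh19 yh4 zh33) (kh xh19 yh4 zh34) (kh xh19 yh4 zh35) (kh xh20 yh24 zh5) (kh xh20 yh24 zh6) (kh xh20 yh24 zh8) (kh xh19 yh4 zh41) (kh xh19 yh4 zh42) (kh xh19 yh4 zh43) (kh xh19 yh4 zh44) (kh xh19 yh4 zh45) (kh xh20 yh24 zh11) (kh xh20 yh24 zh12) (kh xh20 yh24 zh14) (kh xh20 yh24 zh15) (kh xh19 yh4 zh48) (kh xh20 yh23 zh16) (kh xh20 yh19 zh10) (kh xh20 yh19 zh11) (kh xh20 yh19 zh42)) (@D3.rec (fun _ => Pt) (kh xh19 yh5 zh5) (kh xh19 yh5 zh6) (kh xh20 yh24 zh21) (kh xh20 yh24 zh22) (kh xh19 yh5 zh9) (kh xh19 yh5 zh10) (kh xh20 yh24 zh25) (kh xh20 yh24 zh26) (kh xh20 yh24 zh27) (kh xh19 yh10 zh27) (kh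 xh19 yh5 zh14) (kh xh19 yh5 zh15) (kh xh20 yh24 zh31) (kh xh20 yh24 zh32) (kh xh19 yh6 zh1) (kh xh19 yh6 zh2) (kh xh19 yh5 zh19) (kh xh19 yh5 zh20) (kh xh20 yh24 zh37) (kh xh20 yh24 zh38) (kh xh19 yh5 zh25) (kh xh19 yh5 zh26) (kh xh20 yh20 zh26) (kh xh20 yh24 zh41) (kh xh20 yh24 zh42) (kh xh19 yh5 zh32) (kh xh19 yh6 zh33) (kh xh19 yh6 zh34) (kh xh19 yh5 zh33) (kh xh19 yh5 zh34) (kh xh20 yh22 zh29) (kh xh20 yh24 zh46) (kh xh20 yh24 zh50) (kh xh19 yh9 zh48) (kh xh20 yh8 zh49) (kh xh20 yh8 zh50) (kh xh20 yh9 zh0) (kh xh20 yh9 zh1) (kh xh20 yh9 zh2) (kh xh20 yh9 zh3) (kh xh20 yh16 zh5) (kh xh20 yh16 zh6) (kh xh20 yh25 zh9) (kh xh20 yh18 zh15) (kh xh20 yh18 zh16) (kh xh20 yh18 zh18) (kh xh20 yh18 zh19) (kh xh19 yh9 zh37) (kh xh19 yh9 zh38) (kh xh19 yh6 zh6)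 (kh xh19 yh6 zh7)) (@D3.rec (fun _ => Pt) (kh xh20 yh24 zh35) (kh xh20 yh24 zh36) (kh xh20 yh23 zh6) (kh xh19 yh6 zh8) (kh xh19 yh6 zh9) (kh xh19 yh6 zh10) (kh xh19 yh6 zh11) (kh xh20 yh25 zh15) (kh xh20 yh25 zh16) (kh xh20 yh25 zh22) (kh xh20 yh25 zh23) (kh xh20 yh25 zh24) (kh xh20 yh19 zh25) (kh xh20 yh19 zh26) (kh xh20 yh19 zh27) (kh xh19 yh6 zh23) (kh xh19 yh6 zh24) (kh xh20 yh21 zh13) (kh xh20 yh21 zh14) (kh xh19 yh6 zh25) (kh xh19 yh6 zh26) (kh xh20 yh21 zh32) (kh xh20 yh25 zh30) (kh xh20 yh25 zh31) (kh xh20 yh25 zh35) (kh xh19 yh6 zh41) (kh xh19 yh6 zh42) (kh xh20 yh19 zh8) (kh xh20 yh18 zh3) (kh xh19 yh6 zh43) (kh xh19 yh6 zh44) (kh xh20 yh17 zh37) (kh xh20 yh24 zh47) (kh xh20 yh24 zh48) (kh xh20 yh22 zh45) (kh xh19 yh6 zh45) (kh xh19 yh6 zh46)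 (kh xh20 yh18 zh39) (kh xh20 yh18 zh40) (kh xh20 yh25 zh38) (kh xh20 yh25 zh39) (kh xh20 yh25 zh44) (kh xh20 yh25 zh48) (kh xh20 yh15 zh30) (kh xh20 yh3 zh44) (kh xh19 yh9 zh3) (kh xh19 yh8 zh31) (kh xh20 yh17 zh32) (kh xh20 yh17 zh33) (kh xh20 yh17 zh34) (kh xh19 yh7 zh18)) (@D3.rec (fun _ => Pt) (kh xh19 yh7 zh19) (kh xh19 yh7 zh10) (kh xh19 yh7 zh11) (kh xh19 yh7 zh12) (kh xh20 yh26 zh6) (kh xh20 yh26 zh7) (kh xh20 yh26 zh9) (kh xh20 yh9 zh47) (kh xh20 yh8 zh2) (kh xh19 yh7 zh23) (kh xh19 yh7 zh24) (kh xh19 yh7 zh25) (kh xh20 yh26 zh3) (kh xh20 yh26 zh4) (kh xh20 yh26 zh5) (kh xh19 yh7 zh26) (kh xh19 yh7 zh27) (kh xh19 yh7 zh28) (kh xh20 yh26 zh15) (kh xh20 yh26 zh16) (kh xh20 yh26 zh18) (kh xh20 yh26 zh22) (kh xh20 yh26 zh23) (kh xh20 yh19 zh5) (kh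 xh19 yh7 zh34) (kh xh19 yh7 zh35) (kh xh20 yh26 zh28) (kh xh20 yh26 zh29) (kh xh19 yh9 zh22) (kh xh20 yh12 zh23) (kh xh20 yh9 zh9) (kh xh20 yh17 zh45) (kh xh20 yh17 zh46) (kh xh19 yh8 zh17) (kh xh19 yh8 zh18) (kh xh19 yh7 zh48) (kh xh19 yh7 zh49) (kh xh20 yh26 zh8) (kh xh20 yh26 zh37) (kh xh20 yh12 zh8) (kh xh20 yh10 zh25) (kh xh20 yh10 zh26) (kh xh19 yh10 zh33) (kh xh19 yh10 zh34) (kh xh20 yh10 zh7) (kh xh20 yh10 zh8) (kh xh20 yh10 zh27) (kh xh20 yh17 zh49) (kh xh20 yh17 zh50) (kh xh19 yh8 zh14) (kh xh19 yh8 zh15)) (@D3.rec (fun _ => Pt) (kh xh20 yh10 zh2) (kh xh20 yh26 zh44) (kh xh20 yh12 zh45) (kh xh20 yh26 zh34) (kh xh20 yh26 zh35) (kh xh19 yh8 zh24) (kh xh20 yh10 zh21) (kh xh19 yh11 zh23) (kh xh20 yh22 zh46) (kh xh20 yh21 zh48) (kh xh20 yh13 zh34)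 (kh xh20 yh13 zh35) (kh xh20 yh13 zh50) (kh xh20 yh9 zh46) (kh xh20 yh10 zh0) (kh xh20 yh10 zh1) (kh xh20 yh18 zh4) (kh xh20 yh13 zh6) (kh xh20 yh13 zh7) (kh xh20 yh23 zh18) (kh xh20 yh23 zh19) (kh xh20 yh18 zh44) (kh xh20 yh18 zh25) (kh xh20 yh18 zh26) (kh xh20 yh18 zh27) (kh xh19 yh8 zh50) (kh xh19 yh9 zh0) (kh xh19 yh9 zh1) (kh xh21 yh0 zh9) (kh xh21 yh0 zh10) (kh xh20 yh13 zh8) (kh xh19 yh9 zh7) (kh xh19 yh9 zh8) (kh xh19 yh9 zh9) (kh xh21 yh0 zh13) (kh xh21 yh0 zh14) (kh xh19 yh9 zh13) (kh xh19 yh9 zh14) (kh xh20 yh24 zh13) (kh xh21 yh0 zh17) (kh xh20 yh22 zh33) (kh xh20 yh17 zh3) (kh xh20 yh12 zh41) (kh xh20 yh23 zh23) (kh xh20 yh23 zh24) (kh xh20 yh17 zh47) (kh xh20 yh12 zh32) (kh xh20 yh20 zh25) (kh xh19 yh9 zh27) (kh xh20 yh22 zh31) (kh xh20 yh23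 zh34)) (@D3.rec (fun _ => Pt) (kh xh20 yh23 zh35) (kh xh19 yh9 zh34) (kh xh19 yh9 zh35) (kh xh21 yh0 zh24) (kh xh21 yh0 zh25) (kh xh20 yh19 zh46) (kh xh20 yh25 zh13) (kh xh20 yh25 zh14) (kh xh19 yh9 zh41) (kh xh19 yh9 zh42) (kh xh21 yh0 zh30) (kh xh20 yh11 zh17) (kh xh20 yh11 zh18) (kh xh20 yh21 zh27) (kh xh20 yh11 zh46) (kh xh20 yh11 zh47) (kh xh20 yh22 zh10) (kh xh20 yh19 zh15) (kh xh19 yh10 zh0) (kh xh20 yh21 zh36) (kh xh20 yh20 zh20) (kh xh20 yh20 zh21) (kh xh19 yh10 zh7) (kh xh19 yh10 zh8) (kh xh19 yh10 zh9) (kh xh21 yh0 zh38) (kh xh21 yh0 zh39) (kh xh21 yh0 zh43) (kh xh19 yh11 zh5) (kh xh19 yh11 zh6) (kh xh19 yh10 zh21) (kh xh19 yh10 zh22) (kh xh19 yh10 zh23) (kh xh19 yh11 zh10) (kh xh19 yh11 zh11) (kh xh19 yh10 zh24) (kh xh19 yh10 zh25) (kh xh20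 yh23 zh32) (kh xh19 yh11 zh15) (kh xh20 yh19 zh40) (kh xh20 yh19 zh41) (kh xh21 yh0 zh47) (kh xh21 yh0 zh48) (kh xh21 yh1 zh2) (kh xh20 yh11 zh16) (kh xh20 yh17 zh25) (kh xh20 yh17 zh26) (kh xh20 yh18 zh10) (kh xh20 yh7 zh44) (kh xh20 yh7 zh45) (kh xh20 yh26 zh17)) (@D3.rec (fun _ => Pt) (kh xh20 yh26 zh41) (kh xh21 yh1 zh13) (kh xh19 yh10 zh35) (kh xh19 yh11 zh22) (kh xh19 yh11 zh21) (kh xh20 yh23 zh38) (kh xh20 yh10 zh22) (kh xh19 yh11 zh3) (kh xh19 yh11 zh1) (kh xh19 yh11 zh2) (kh xh19 yh11 zh0) (kh xh20 yh7 zh43) (kh xh20 yh20 zh27) (kh xh21 yh1 zh18) (kh xh21 yh1 zh17) (kh xh21 yh1 zh16) (kh xh21 yh1 zh21) (kh xh19 yh11 zh4) (kh xh21 yh0 zh44) (kh xh21 yh0 zh45) (kh xh21 yh0 zh46) (kh xh19 yh11 zh18) (kh xh19 yh11 zh19) (kh xh21 yh0 zh50) (kh xh21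 yh1 zh0) (kh xh19 yh11 zh20) (kh xh20 yh23 zh37) (kh xh20 yh23 zh36) (kh xh21 yh1 zh25) (kh xh21 yh1 zh14) (kh xh20 yh1 zh13) (kh xh20 yh1 zh14) (kh xh20 yh1 zh15) (kh xh19 yh12 zh48) (kh xh19 yh12 zh50) (kh xh19 yh15 zh42) (kh xh19 yh15 zh44) (kh xh19 yh13 zh20) (kh xh19 yh13 zh21) (kh xh21 yh1 zh34) (kh xh19 yh11 zh35) (kh xh20 yh7 zh41) (kh xh19 yh13 zh49) (kh xh20 yh7 zh11) (kh xh20 yh6 zh48) (kh xh20 yh6 zh49) (kh xh19 yh16 zh34) (kh xh19 yh16 zh36) (kh xh19 yh16 zh37) (kh xh19 yh16 zh38) (kh xh21 yh1 zh41)) (@D3.rec (fun _ => Pt) (kh xh19 yh11 zh50) (kh xh19 yh23 zh5) (kh xh20 yh4 zh8) (kh xh19 yh12 zh22) (kh xh19 yh12 zh23) (kh xh19 yh12 zh24) (kh xh19 yh19 zh8) (kh xh19 yh19 zh9) (kh xh20 yh8 zh8) (kh xh20 yh8 zh9) (kh xh19 yh12 zh10) (kh xh19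 yh12 zh11) (kh xh19 yh19 zh1) (kh xh19 yh19 zh2) (kh xh21 yh2 zh1) (kh xh21 yh2 zh2) (kh xh21 yh2 zh3) (kh xh20 yh8 zh17) (kh xh19 yh12 zh31) (kh xh19 yh12 zh32) (kh xh19 yh12 zh33) (kh xh19 yh14 zh2) (kh xh19 yh12 zh18) (kh xh19 yh12 zh19) (kh xh21 yh2 zh15) (kh xh21 yh2 zh16) (kh xh21 yh2 zh17) (kh xh20 yh8 zh27) (kh xh19 yh20 zh27) (kh xh19 yh20 zh28) (kh xh21 yh1 zh43) (kh xh21 yh1 zh44) (kh xh21 yh1 zh45) (kh xh19 yh13 zh8) (kh xh19 yh13 zh9) (kh xh19 yh12 zh28) (kh xh19 yh12 zh29) (kh xh19 yh12 zh30) (kh xh21 yh2 zh31) (kh xh21 yh2 zh32) (kh xh21 yh2 zh34) (kh xh21 yh2 zh11) (kh xh21 yh2 zh12) (kh xh21 yh2 zh39) (kh xh20 yh8 zh44) (kh xh20 yh8 zh45) (kh xh21 yh2 zh41) (kh xh19 yh12 zh38) (kh xh20 yh0 zh34) (kh xh20 yh2 zh34) (kh xh20 yh2 zh35)) (@D3.rec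 (fun _ => Pt) (kh xh20 yh2 zh36) (kh xh20 yh2 zh37) (kh xh20 yh2 zh38) (kh xh20 yh2 zh39) (kh xh20 yh0 zh28) (kh xh19 yh19 zh36) (kh xh19 yh19 zh37) (kh xh19 yh18 zh33) (kh xh21 yh1 zh30) (kh xh20 yh4 zh30) (kh xh19 yh24 zh13) (kh xh19 yh14 zh41) (kh xh19 yh14 zh42) (kh xh19 yh13 zh3) (kh xh19 yh13 zh4) (kh xh21 yh3 zh8) (kh xh21 yh3 zh9) (kh xh19 yh14 zh35) (kh xh19 yh14 zh36) (kh xh19 yh13 zh13) (kh xh19 yh13 zh14) (kh xh19 yh13 zh15) (kh xh21 yh2 zh28) (kh xh21 yh2 zh29) (kh xh21 yh2 zh30) (kh xh19 yh13 zh16) (kh xh19 yh13 zh17) (kh xh19 yh13 zh18) (kh xh19 yh13 zh19) (kh xh21 yh3 zh14) (kh xh21 yh3 zh15) (kh xh21 yh3 zh28) (kh xh21 yh3 zh17) (kh xh21 yh3 zh22) (kh xh21 yh3 zh23) (kh xh21 yh3 zh24) (kh xh21 yh1 zh32) (kh xh21 yh3 zh32) (kh xh19 yh13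 zh22) (kh xh19 yh24 zh10) (kh xh20 yh9 zh40) (kh xh19 yh24 zh14) (kh xh19 yh13 zh29) (kh xh21 yh2 zh42) (kh xh20 yh9 zh44) (kh xh19 yh21 zh31) (kh xh20 yh5 zh13) (kh xh20 yh4 zh7) (kh xh19 yh16 zh47) (kh xh19 yh16 zh48) (kh xh19 yh17 zh16)) (@D3.rec (fun _ => Pt) (kh xh20 yh5 zh14) (kh xh20 yh5 zh15) (kh xh20 yh5 zh0) (kh xh19 yh13 zh45) (kh xh19 yh13 zh46) (kh xh21 yh3 zh42) (kh xh21 yh3 zh43) (kh xh20 yh4 zh44) (kh xh20 yh4 zh45) (kh xh19 yh14 zh7) (kh xh19 yh14 zh8) (kh xh19 yh14 zh9) (kh xh21 yh2 zh14) (kh xh19 yh14 zh5) (kh xh19 yh14 zh6) (kh xh21 yh3 zh50) (kh xh21 yh4 zh0) (kh xh21 yh3 zh47) (kh xh21 yh3 zh48) (kh xh19 yh20 zh40) (kh xh19 yh20 zh41) (kh xh20 yh5 zh6) (kh xh20 yh7 zh6) (kh xh19 yh17 zh32) (kh xh19 yh17 zh33) (kh xh20 yh4 zh40) (kh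 xh20 yh4 zh41) (kh xh20 yh4 zh46) (kh xh19 yh24 zh6) (kh xh19 yh24 zh7) (kh xh20 yh10 zh30) (kh xh19 yh14 zh26) (kh xh19 yh14 zh27) (kh xh19 yh26 zh31) (kh xh19 yh21 zh9) (kh xh21 yh4 zh13) (kh xh21 yh4 zh14) (kh xh21 yh4 zh15) (kh xh20 yh10 zh38) (kh xh19 yh15 zh10) (kh xh19 yh15 zh11) (kh xh19 yh15 zh12) (kh xh19 yh15 zh13) (kh xh19 yh15 zh14) (kh xh19 yh26 zh18) (kh xh19 yh26 zh19) (kh xh21 yh3 zh11) (kh xh21 yh3 zh12) (kh xh21 yh3 zh13) (kh xh21 yh4 zh35) (kh xh19 yh14 zh43)) (@D3.rec (fun _ => Pt) (kh xh19 yh14 zh44) (kh xh19 yh14 zh45) (kh xh21 yh3 zh6) (kh xh21 yh3 zh7) (kh xh19 yh23 zh29) (kh xh21 yh4 zh36) (kh xh21 yh4 zh37) (kh xh21 yh4 zh39) (kh xh21 yh3 zh34) (kh xh19 yh15 zh33) (kh xh19 yh15 zh34) (kh xh21 yh4 zh49) (kh xh19 yh24 zh30) (kh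 xh19 yh24 zh31) (kh xh19 yh24 zh47) (kh xh19 yh24 zh48) (kh xh20 yh6 zh44) (kh xh20 yh6 zh11) (kh xh20 yh6 zh12) (kh xh19 yh15 zh7) (kh xh19 yh15 zh8) (kh xh21 yh5 zh7) (kh xh21 yh5 zh8) (kh xh19 yh26 zh24) (kh xh21 yh4 zh23) (kh xh21 yh4 zh24) (kh xh21 yh4 zh25) (kh xh21 yh4 zh26) (kh xh21 yh4 zh27) (kh xh21 yh5 zh17) (kh xh19 yh15 zh17) (kh xh19 yh15 zh18) (kh xh21 yh5 zh18) (kh xh21 yh5 zh19) (kh xh19 yh15 zh25) (kh xh19 yh16 zh22) (kh xh19 yh16 zh23) (kh xh19 yh15 zh26) (kh xh19 yh15 zh27) (kh xh21 yh2 zh33) (kh xh19 yh15 zh28) (kh xh21 yh5 zh22) (kh xh21 yh5 zh26) (kh xh21 yh5 zh28) (kh xh19 yh24 zh23) (kh xh19 yh24 zh24) (kh xh20 yh6 zh14) (kh xh20 yh6 zh15) (kh xh21 yh4 zh47) (kh xh21 yh5 zh35) (kh xh19 yh15 zh35)) (@D3.rec (fun _ => Pt) (kh xh19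 yh15 zh37) (kh xh19 yh16 zh43) (kh xh19 yh18 zh13) (kh xh19 yh18 zh14) (kh xh19 yh18 zh34) (kh xh19 yh18 zh35) (kh xh19 yh18 zh36) (kh xh21 yh1 zh31) (kh xh20 yh4 zh39) (kh xh21 yh5 zh45) (kh xh20 yh0 zh50) (kh xh19 yh16 zh21) (kh xh20 yh1 zh0) (kh xh20 yh1 zh1) (kh xh19 yh16 zh13) (kh xh20 yh1 zh2) (kh xh19 yh24 zh46) (kh xh19 yh16 zh42) (kh xh19 yh18 zh26) (kh xh19 yh17 zh43) (kh xh19 yh18 zh37) (kh xh19 yh18 zh38) (kh xh19 yh18 zh39) (kh xh20 yh4 zh29) (kh xh19 yh24 zh12) (kh xh19 yh16 zh12) (kh xh21 yh6 zh7) (kh xh21 yh5 zh49) (kh xh19 yh25 zh18) (kh xh19 yh25 zh19) (kh xh19 yh16 zh19) (kh xh19 yh16 zh20) (kh xh20 yh5 zh46) (kh xh21 yh6 zh11) (kh xh21 yh5 zh47) (kh xh21 yh5 zh23) (kh xh21 yh5 zh24) (kh xh19 yh16 zh31) (kh xh19 yh16 zh32) (kh xh19 yh16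 zh33) (kh xh19 yh22 zh43) (kh xh20 yh5 zh42) (kh xh21 yh6 zh14) (kh xh21 yh6 zh15) (kh xh21 yh1 zh37) (kh xh20 yh5 zh2) (kh xh21 yh1 zh38) (kh xh21 yh6 zh20) (kh xh21 yh6 zh0) (kh xh19 yh16 zh39) (kh xh21 yh5 zh36)) (@D3.rec (fun _ => Pt) (kh xh19 yh23 zh48) (kh xh19 yh21 zh12) (kh xh19 yh21 zh15) (kh xh19 yh22 zh6) (kh xh21 yh3 zh37) (kh xh21 yh3 zh38) (kh xh20 yh5 zh17) (kh xh20 yh5 zh18) (kh xh20 yh5 zh30) (kh xh19 yh21 zh16) (kh xh19 yh21 zh17) (kh xh19 yh21 zh42) (kh xh19 yh21 zh43) (kh xh19 yh21 zh18) (kh xh19 yh21 zh19) (kh xh19 yh17 zh10) (kh xh19 yh17 zh11) (kh xh19 yh20 zh16) (kh xh19 yh20 zh17) (kh xh21 yh6 zh31) (kh xh21 yh6 zh32) (kh xh21 yh6 zh33) (kh xh19 yh17 zh26) (kh xh19 yh17 zh27) (kh xh19 yh17 zh28) (kh xh21 yh3 zh39) (kh xh19 yh22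 zh44) (kh xh19 yh22 zh45) (kh xh19 yh17 zh21) (kh xh19 yh17 zh22) (kh xh19 yh17 zh23) (kh xh21 yh6 zh45) (kh xh21 yh6 zh46) (kh xh21 yh6 zh48) (kh xh20 yh5 zh10) (kh xh20 yh5 zh11) (kh xh21 yh6 zh40) (kh xh21 yh6 zh41) (kh xh19 yh25 zh25) (kh xh19 yh21 zh40) (kh xh21 yh4 zh7) (kh xh21 yh4 zh8) (kh xh19 yh17 zh36) (kh xh19 yh17 zh37) (kh xh21 yh7 zh5) (kh xh19 yh23 zh8) (kh xh19 yh21 zh49) (kh xh19 yh21 zh50) (kh xh19 yh22 zh0) (kh xh21 yh6 zh2) (kh xh20 yh5 zh12)) (@D3.rec (fun _ => Pt) (kh xh19 yh22 zh9) (kh xh19 yh17 zh47) (kh xh21 yh7 zh9) (kh xh19 yh17 zh50) (kh xh19 yh18 zh0) (kh xh21 yh7 zh11) (kh xh21 yh7 zh12) (kh xh19 yh18 zh12) (kh xh19 yh18 zh5) (kh xh19 yh18 zh6) (kh xh19 yh25 zh40) (kh xh19 yh25 zh41) (kh xh21 yh7 zh15) (kh xh21 yh7 zh16)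 (kh xh21 yh7 zh17) (kh xh20 yh14 zh15) (kh xh19 yh18 zh21) (kh xh19 yh18 zh22) (kh xh19 yh18 zh23) (kh xh19 yh25 zh24) (kh xh21 yh7 zh14) (kh xh21 yh5 zh37) (kh xh21 yh5 zh38) (kh xh19 yh18 zh18) (kh xh19 yh18 zh19) (kh xh19 yh18 zh20) (kh xh19 yh25 zh49) (kh xh21 yh7 zh31) (kh xh21 yh7 zh32) (kh xh21 yh7 zh34) (kh xh21 yh7 zh25) (kh xh21 yh7 zh26) (kh xh21 yh7 zh40) (kh xh19 yh18 zh24) (kh xh19 yh22 zh46) (kh xh21 yh6 zh1) (kh xh19 yh23 zh4) (kh xh19 yh23 zh7) (kh xh19 yh26 zh0) (kh xh19 yh26 zh1) (kh xh21 yh3 zh3) (kh xh19 yh26 zh3) (kh xh21 yh5 zh39) (kh xh21 yh5 zh40) (kh xh21 yh7 zh49) (kh xh21 yh5 zh42) (kh xh21 yh6 zh3) (kh xh21 yh6 zh4) (kh xh19 yh23 zh22) (kh xh21 yh8 zh1) (kh xh19 yh18 zh42)) (@D3.rec (fun _ => Pt) (kh xh19 yh18 zh43) (kh xh21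 yh7 zh41) (kh xh19 yh18 zh48) (kh xh19 yh22 zh50) (kh xh19 yh23 zh0) (kh xh21 yh8 zh4) (kh xh19 yh19 zh23) (kh xh19 yh19 zh24) (kh xh19 yh19 zh25) (kh xh21 yh2 zh4) (kh xh21 yh2 zh5) (kh xh21 yh2 zh6) (kh xh21 yh8 zh17) (kh xh20 yh15 zh13) (kh xh20 yh15 zh14) (kh xh19 yh24 zh4) (kh xh19 yh19 zh10) (kh xh19 yh19 zh11) (kh xh19 yh19 zh12) (kh xh21 yh1 zh46) (kh xh21 yh1 zh47) (kh xh21 yh1 zh48) (kh xh21 yh8 zh19) (kh xh21 yh8 zh20) (kh xh21 yh8 zh22) (kh xh21 yh8 zh23) (kh xh20 yh15 zh26) (kh xh19 yh19 zh43) (kh xh19 yh19 zh44) (kh xh21 yh8 zh35) (kh xh20 yh3 zh43) (kh xh19 yh20 zh2) (kh xh19 yh20 zh3) (kh xh19 yh19 zh21) (kh xh19 yh19 zh22) (kh xh21 yh8 zh38) (kh xh21 yh8 zh39) (kh xh21 yh8 zh8) (kh xh21 yh8 zh9) (kh xh19 yh19 zh28) (kh xh19 yh19 zh29)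 (kh xh19 yh19 zh30) (kh xh21 yh8 zh43) (kh xh21 yh8 zh44) (kh xh21 yh8 zh46) (kh xh19 yh20 zh32) (kh xh19 yh20 zh33) (kh xh19 yh20 zh34) (kh xh19 yh19 zh38) (kh xh19 yh19 zh39) (kh xh21 yh6 zh47)) (@D3.rec (fun _ => Pt) (kh xh19 yh19 zh40) (kh xh21 yh3 zh0) (kh xh21 yh3 zh1) (kh xh21 yh9 zh2) (kh xh21 yh9 zh4) (kh xh20 yh2 zh40) (kh xh20 yh2 zh41) (kh xh21 yh8 zh33) (kh xh21 yh9 zh10) (kh xh19 yh19 zh45) (kh xh19 yh21 zh5) (kh xh19 yh25 zh26) (kh xh19 yh25 zh27) (kh xh19 yh22 zh29) (kh xh19 yh22 zh30) (kh xh19 yh20 zh6) (kh xh19 yh20 zh7) (kh xh21 yh8 zh36) (kh xh21 yh8 zh37) (kh xh19 yh20 zh8) (kh xh19 yh20 zh9) (kh xh21 yh9 zh15) (kh xh21 yh9 zh16) (kh xh21 yh9 zh20) (kh xh19 yh26 zh4) (kh xh19 yh20 zh13) (kh xh21 yh9 zh22) (kh xh19 yh20 zh21) (kh xh19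 yh20 zh22) (kh xh19 yh20 zh23) (kh xh21 yh6 zh34) (kh xh21 yh6 zh35) (kh xh21 yh6 zh36) (kh xh19 yh20 zh24) (kh xh19 yh20 zh25) (kh xh19 yh20 zh26) (kh xh21 yh9 zh23) (kh xh21 yh9 zh24) (kh xh21 yh9 zh26) (kh xh21 yh9 zh30) (kh xh21 yh9 zh31) (kh xh21 yh2 zh22) (kh xh21 yh2 zh23) (kh xh21 yh2 zh24) (kh xh19 yh20 zh42) (kh xh19 yh20 zh43) (kh xh21 yh9 zh43) (kh xh19 yh20 zh45) (kh xh21 yh8 zh49) (kh xh21 yh8 zh50) (kh xh21 yh4 zh17)) (@D3.rec (fun _ => Pt) (kh xh21 yh9 zh1) (kh xh21 yh5 zh1) (kh xh19 yh20 zh46) (kh xh20 yh5 zh41) (kh xh19 yh20 zh47) (kh xh19 yh23 zh9) (kh xh19 yh20 zh48) (kh xh21 yh4 zh4) (kh xh21 yh4 zh5) (kh xh21 yh9 zh39) (kh xh21 yh10 zh7) (kh xh21 yh9 zh41) (kh xh19 yh20 zh44) (kh xh21 yh9 zh50) (kh xh21 yh10 zh1) (kh xh19 yh26 zh47)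 (kh xh19 yh26 zh50) (kh xh21 yh10 zh10) (kh xh19 yh21 zh2) (kh xh21 yh9 zh11) (kh xh19 yh24 zh34) (kh xh19 yh23 zh27) (kh xh21 yh4 zh18) (kh xh19 yh23 zh26) (kh xh21 yh6 zh22) (kh xh20 yh6 zh45) (kh xh20 yh6 zh46) (kh xh21 yh6 zh28) (kh xh21 yh6 zh30) (kh xh19 yh21 zh32) (kh xh19 yh21 zh33) (kh xh19 yh21 zh34) (kh xh20 yh3 zh47) (kh xh20 yh3 zh48) (kh xh20 yh3 zh49) (kh xh19 yh21 zh35) (kh xh19 yh21 zh36) (kh xh20 yh3 zh31) (kh xh19 yh22 zh7) (kh xh19 yh22 zh8) (kh xh21 yh3 zh35) (kh xh21 yh10 zh14) (kh xh21 yh10 zh15) (kh xh21 yh10 zh19) (kh xh19 yh22 zh5) (kh xh20 yh4 zh31) (kh xh20 yh4 zh32) (kh xh20 yh5 zh45) (kh xh21 yh6 zh29) (kh xh20 yh4 zh47) (kh xh20 yh4 zh48)) (@D3.rec (fun _ => Pt) (kh xh21 yh7 zh7) (kh xh21 yh10 zh28) (kh xh19 yh22 zh1) (kh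 xh20 yh3 zh28) (kh xh20 yh5 zh16) (kh xh21 yh6 zh23) (kh xh21 yh10 zh21) (kh xh21 yh10 zh22) (kh xh19 yh22 zh12) (kh xh19 yh22 zh13) (kh xh20 yh6 zh47) (kh xh21 yh10 zh31) (kh xh19 yh22 zh31) (kh xh19 yh22 zh32) (kh xh19 yh22 zh33) (kh xh20 yh2 zh43) (kh xh20 yh2 zh44) (kh xh19 yh25 zh7) (kh xh20 yh2 zh45) (kh xh20 yh2 zh46) (kh xh19 yh26 zh49) (kh xh20 yh0 zh10) (kh xh19 yh22 zh34) (kh xh19 yh22 zh35) (kh xh21 yh10 zh46) (kh xh20 yh5 zh22) (kh xh20 yh5 zh23) (kh xh20 yh5 zh24) (kh xh21 yh9 zh13) (kh xh21 yh9 zh14) (kh xh21 yh8 zh3) (kh xh21 yh10 zh33) (kh xh21 yh10 zh34) (kh xh21 yh11 zh5) (kh xh21 yh10 zh44) (kh xh21 yh11 zh7) (kh xh19 yh22 zh36) (kh xh21 yh11 zh8) (kh xh19 yh22 zh39) (kh xh20 yh3 zh37) (kh xh20 yh3 zh38) (kh xh21 yh6 zh16) (kh xh21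 yh6 zh43) (kh xh21 yh6 zh44) (kh xh20 yh5 zh21) (kh xh19 yh23 zh1) (kh xh19 yh23 zh2) (kh xh19 yh23 zh3) (kh xh21 yh8 zh5) (kh xh21 yh8 zh6) (kh xh21 yh11 zh14)) (@D3.rec (fun _ => Pt) (kh xh21 yh11 zh15) (kh xh21 yh10 zh2) (kh xh21 yh7 zh42) (kh xh21 yh1 zh40) (kh xh21 yh10 zh3) (kh xh20 yh4 zh23) (kh xh21 yh7 zh6) (kh xh21 yh10 zh0) (kh xh20 yh3 zh27) (kh xh19 yh23 zh12) (kh xh20 yh1 zh48) (kh xh20 yh1 zh49) (kh xh19 yh23 zh19) (kh xh19 yh23 zh20) (kh xh21 yh11 zh32) (kh xh20 yh6 zh17) (kh xh21 yh11 zh30) (kh xh21 yh11 zh34) (kh xh19 yh23 zh21) (kh xh21 yh11 zh35) (kh xh19 yh23 zh23) (kh xh21 yh4 zh43) (kh xh21 yh10 zh12) (kh xh19 yh24 zh25) (kh xh19 yh24 zh44) (kh xh20 yh3 zh12) (kh xh20 yh3 zh13) (kh xh20 yh3 zh14) (kh xh19 yh24 zh32) (kh xh19 yh24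 zh33) (kh xh19 yh24 zh35) (kh xh19 yh24 zh36) (kh xh21 yh11 zh46) (kh xh20 yh1 zh16) (kh xh20 yh1 zh17) (kh xh20 yh1 zh18) (kh xh21 yh12 zh0) (kh xh20 yh0 zh23) (kh xh20 yh0 zh24) (kh xh19 yh23 zh47) (kh xh20 yh6 zh39) (kh xh20 yh6 zh40) (kh xh20 yh1 zh50) (kh xh21 yh12 zh2) (kh xh21 yh6 zh6) (kh xh21 yh12 zh11) (kh xh20 yh6 zh5) (kh xh19 yh23 zh50) (kh xh20 yh0 zh12) (kh xh19 yh24 zh8) (kh xh19 yh24 zh9)) (@D3.rec (fun _ => Pt) (kh xh21 yh8 zh18) (kh xh19 yh24 zh11) (kh xh21 yh4 zh10) (kh xh21 yh4 zh11) (kh xh21 yh4 zh12) (kh xh21 yh12 zh13) (kh xh21 yh12 zh14) (kh xh21 yh12 zh25) (kh xh21 yh2 zh45) (kh xh21 yh1 zh49) (kh xh21 yh6 zh5) (kh xh21 yh3 zh5) (kh xh21 yh3 zh2) (kh xh19 yh24 zh49) (kh xh19 yh24 zh50) (kh xh21 yh12 zh31) (kh xh19 yh25 zh1) (kh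 xh21 yh12 zh34) (kh xh19 yh24 zh19) (kh xh19 yh26 zh7) (kh xh20 yh6 zh20) (kh xh20 yh6 zh21) (kh xh21 yh5 zh31) (kh xh21 yh5 zh32) (kh xh21 yh12 zh41) (kh xh20 yh5 zh47) (kh xh20 yh2 zh22) (kh xh20 yh7 zh12) (kh xh21 yh4 zh50) (kh xh21 yh5 zh0) (kh xh21 yh11 zh41) (kh xh21 yh11 zh42) (kh xh21 yh12 zh49) (kh xh21 yh10 zh8) (kh xh21 yh11 zh44) (kh xh21 yh13 zh1) (kh xh19 yh24 zh37) (kh xh19 yh24 zh39) (kh xh19 yh26 zh23) (kh xh19 yh24 zh45) (kh xh19 yh26 zh29) (kh xh21 yh11 zh37) (kh xh21 yh5 zh50) (kh xh21 yh5 zh2) (kh xh21 yh5 zh3) (kh xh21 yh13 zh6) (kh xh21 yh12 zh29) (kh xh21 yh13 zh8) (kh xh19 yh25 zh0) (kh xh21 yh13 zh11) (kh xh21 yh13 zh12)) (@D3.rec (fun _ => Pt) (kh xh19 yh25 zh2) (kh xh20 yh0 zh5) (kh xh21 yh12 zh12) (kh xh21 yh10 zh40) (kh xh19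 yh25 zh6) (kh xh21 yh10 zh39) (kh xh20 yh0 zh17) (kh xh19 yh25 zh9) (kh xh20 yh0 zh19) (kh xh19 yh25 zh11) (kh xh19 yh25 zh44) (kh xh19 yh25 zh48) (kh xh19 yh25 zh21) (kh xh20 yh3 zh17) (kh xh20 yh3 zh18) (kh xh21 yh6 zh9) (kh xh21 yh6 zh10) (kh xh21 yh10 zh23) (kh xh19 yh25 zh31) (kh xh19 yh25 zh32) (kh xh19 yh25 zh30) (kh xh21 yh7 zh28) (kh xh21 yh7 zh3) (kh xh21 yh6 zh42) (kh xh21 yh9 zh12) (kh xh21 yh13 zh29) (kh xh19 yh25 zh28) (kh xh20 yh6 zh13) (kh xh21 yh13 zh24) (kh xh21 yh13 zh23) (kh xh19 yh25 zh42) (kh xh19 yh25 zh43) (kh xh20 yh3 zh21) (kh xh19 yh25 zh45) (kh xh19 yh25 zh46) (kh xh21 yh13 zh37) (kh xh20 yh6 zh19) (kh xh21 yh7 zh18) (kh xh21 yh7 zh19) (kh xh21 yh7 zh20) (kh xh21 yh13 zh31) (kh xh21 yh13 zh32) (kh xh21 yh13 zh45) (kh xh21 yh13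 zh17) (kh xh21 yh13 zh35) (kh xh21 yh13 zh47) (kh xh19 yh25 zh47) (kh xh21 yh7 zh35) (kh xh20 yh5 zh9) (kh xh21 yh10 zh43) (kh xh21 yh7 zh43)) (@D3.rec (fun _ => Pt) (kh xh21 yh14 zh3) (kh xh21 yh7 zh45) (kh xh19 yh26 zh2) (kh xh21 yh14 zh6) (kh xh21 yh14 zh7) (kh xh19 yh26 zh5) (kh xh21 yh13 zh2) (kh xh19 yh26 zh12) (kh xh19 yh26 zh13) (kh xh19 yh26 zh14) (kh xh20 yh6 zh16) (kh xh21 yh14 zh9) (kh xh21 yh14 zh10) (kh xh19 yh26 zh36) (kh xh19 yh26 zh37) (kh xh19 yh26 zh38) (kh xh21 yh4 zh29) (kh xh21 yh4 zh30) (kh xh21 yh3 zh21) (kh xh19 yh26 zh39) (kh xh19 yh26 zh40) (kh xh21 yh13 zh16) (kh xh19 yh26 zh41) (kh xh21 yh13 zh3) (kh xh21 yh5 zh11) (kh xh21 yh14 zh26) (kh xh19 yh26 zh42) (kh xh21 yh14 zh31) (kh xh19 yh26 zh44) (kh xh20 yh2 zh30) (kh xh19 yh26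 zh27) (kh xh20 yh5 zh49) (kh xh21 yh4 zh16) (kh xh20 yh5 zh40) (kh xh19 yh26 zh46) (kh xh20 yh0 zh46) (kh xh20 yh0 zh47) (kh xh21 yh14 zh12) (kh xh21 yh14 zh13) (kh xh21 yh14 zh15) (kh xh21 yh14 zh20) (kh xh21 yh14 zh22) (kh xh21 yh14 zh40) (kh xh21 yh14 zh28) (kh xh19 yh26 zh43) (kh xh20 yh3 zh34) (kh xh20 yh5 zh8) (kh xh21 yh10 zh42) (kh xh21 yh14 zh43) (kh xh20 yh0 zh0) (kh xh21 yh13 zh9)) (@D3.rec (fun _ => Pt) (kh xh21 yh14 zh46) (kh xh20 yh0 zh2) (kh xh20 yh0 zh3) (kh xh21 yh13 zh13) (kh xh21 yh14 zh49) (kh xh20 yh0 zh7) (kh xh20 yh3 zh2) (kh xh21 yh12 zh1) (kh xh21 yh12 zh10) (kh xh21 yh13 zh15) (kh xh21 yh15 zh2) (kh xh20 yh0 zh14) (kh xh20 yh0 zh15) (kh xh21 yh15 zh3) (kh xh20 yh0 zh20) (kh xh21 yh2 zh50) (kh xh20 yh1 zh47) (kh xh21 yh2 zh47)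 (kh xh20 yh5 zh19) (kh xh20 yh5 zh20) (kh xh20 yh0 zh43) (kh xh20 yh0 zh44) (kh xh21 yh8 zh45) (kh xh20 yh5 zh43) (kh xh20 yh5 zh44) (kh xh21 yh15 zh7) (kh xh21 yh14 zh35) (kh xh21 yh14 zh36) (kh xh21 yh5 zh46) (kh xh21 yh5 zh48) (kh xh20 yh1 zh6) (kh xh20 yh1 zh7) (kh xh20 yh6 zh37) (kh xh21 yh15 zh11) (kh xh20 yh5 zh50) (kh xh20 yh6 zh0) (kh xh20 yh7 zh27) (kh xh20 yh7 zh26) (kh xh20 yh7 zh5) (kh xh21 yh1 zh28) (kh xh21 yh1 zh29) (kh xh21 yh15 zh19) (kh xh21 yh11 zh47) (kh xh21 yh11 zh48) (kh xh21 yh11 zh50) (kh xh20 yh1 zh24) (kh xh20 yh1 zh25) (kh xh20 yh1 zh26) (kh xh20 yh1 zh27) (kh xh20 yh1 zh28) (kh xh20 yh1 zh29)) (@D3.rec (fun _ => Pt) (kh xh21 yh15 zh22) (kh xh21 yh15 zh23) (kh xh21 yh15 zh25) (kh xh21 yh15 zh26) (kh xh21 yh15 zh27) (kh xh20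 yh1 zh34) (kh xh20 yh1 zh35) (kh xh21 yh15 zh4) (kh xh20 yh1 zh36) (kh xh21 yh15 zh31) (kh xh21 yh15 zh33) (kh xh20 yh1 zh42) (kh xh20 yh1 zh43) (kh xh20 yh5 zh38) (kh xh20 yh1 zh44) (kh xh20 yh1 zh45) (kh xh21 yh15 zh35) (kh xh21 yh15 zh37) (kh xh21 yh11 zh27) (kh xh21 yh11 zh28) (kh xh21 yh12 zh6) (kh xh20 yh2 zh2) (kh xh20 yh2 zh3) (kh xh21 yh14 zh32) (kh xh21 yh15 zh40) (kh xh20 yh2 zh6) (kh xh20 yh2 zh7) (kh xh20 yh2 zh8) (kh xh21 yh15 zh42) (kh xh21 yh15 zh43) (kh xh21 yh15 zh45) (kh xh20 yh2 zh12) (kh xh20 yh2 zh13) (kh xh21 yh15 zh48) (kh xh21 yh15 zh49) (kh xh20 yh3 zh0) (kh xh20 yh3 zh1) (kh xh20 yh2 zh18) (kh xh20 yh2 zh19) (kh xh21 yh5 zh25) (kh xh21 yh16 zh4) (kh xh20 yh2 zh23) (kh xh20 yh2 zh24) (kh xh21 yh3 zh49) (kh xh21 yh12 zh42) (kh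 xh21 yh16 zh6) (kh xh20 yh2 zh31) (kh xh20 yh3 zh32) (kh xh20 yh3 zh33) (kh xh21 yh15 zh44) (kh xh20 yh2 zh32)) (@D3.rec (fun _ => Pt) (kh xh21 yh14 zh30) (kh xh21 yh2 zh43) (kh xh21 yh2 zh44) (kh xh21 yh12 zh24) (kh xh21 yh2 zh46) (kh xh21 yh2 zh48) (kh xh21 yh2 zh49) (kh xh21 yh9 zh8) (kh xh21 yh16 zh18) (kh xh20 yh2 zh42) (kh xh21 yh10 zh36) (kh xh21 yh10 zh37) (kh xh21 yh10 zh41) (kh xh20 yh6 zh6) (kh xh20 yh6 zh7) (kh xh20 yh3 zh7) (kh xh20 yh3 zh8) (kh xh21 yh10 zh16) (kh xh21 yh16 zh1) (kh xh21 yh16 zh2) (kh xh21 yh13 zh48) (kh xh21 yh14 zh50) (kh xh20 yh3 zh9) (kh xh20 yh3 zh10) (kh xh20 yh3 zh11) (kh xh21 yh16 zh24) (kh xh21 yh16 zh29) (kh xh21 yh16 zh30) (kh xh21 yh11 zh38) (kh xh21 yh11 zh39) (kh xh20 yh3 zh22) (kh xh20 yh3 zh23) (kh xh21 yh14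 zh23) (kh xh21 yh13 zh18) (kh xh21 yh13 zh19) (kh xh20 yh3 zh24) (kh xh21 yh13 zh34) (kh xh21 yh16 zh33) (kh xh20 yh3 zh39) (kh xh20 yh3 zh40) (kh xh21 yh3 zh44) (kh xh21 yh11 zh26) (kh xh21 yh10 zh29) (kh xh21 yh12 zh38) (kh xh20 yh3 zh41) (kh xh21 yh10 zh20) (kh xh21 yh16 zh8) (kh xh21 yh14 zh41) (kh xh20 yh3 zh42) (kh xh21 yh11 zh9) (kh xh21 yh11 zh10)) (@D3.rec (fun _ => Pt) (kh xh21 yh16 zh36) (kh xh21 yh10 zh17) (kh xh21 yh10 zh18) (kh xh20 yh4 zh12) (kh xh20 yh4 zh13) (kh xh20 yh4 zh14) (kh xh20 yh4 zh4) (kh xh20 yh4 zh5) (kh xh20 yh4 zh37) (kh xh20 yh4 zh6) (kh xh21 yh16 zh49) (kh xh21 yh17 zh0) (kh xh21 yh3 zh36) (kh xh21 yh1 zh42) (kh xh21 yh1 zh35) (kh xh20 yh4 zh18) (kh xh20 yh4 zh19) (kh xh20 yh6 zh50) (kh xh20 yh4 zh20) (kh xh21 yh16 zh45)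 (kh xh21 yh16 zh46) (kh xh21 yh16 zh48) (kh xh20 yh4 zh21) (kh xh20 yh4 zh22) (kh xh21 yh17 zh6) (kh xh21 yh17 zh8) (kh xh21 yh17 zh11) (kh xh21 yh11 zh24) (kh xh20 yh4 zh26) (kh xh20 yh4 zh27) (kh xh21 yh9 zh25) (kh xh21 yh17 zh14) (kh xh21 yh3 zh4) (kh xh21 yh10 zh25) (kh xh20 yh5 zh3) (kh xh20 yh5 zh4) (kh xh21 yh15 zh50) (kh xh20 yh4 zh38) (kh xh21 yh16 zh50) (kh xh21 yh5 zh43) (kh xh21 yh4 zh9) (kh xh20 yh7 zh0) (kh xh21 yh3 zh46) (kh xh21 yh10 zh27) (kh xh20 yh5 zh1) (kh xh21 yh6 zh18) (kh xh21 yh17 zh16) (kh xh21 yh13 zh49) (kh xh21 yh7 zh0) (kh xh21 yh7 zh1) (kh xh21 yh3 zh40))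
def f_h_21 : D2 → D3 → Pt := @D2.rec (fun _ => D3 → Pt) (@D3.rec (fun _ => Pt) (kh xh21 yh3 zh41) (kh xh21 yh11 zh11) (kh xh21 yh6 zh26) (kh xh21 yh6 zh27) (kh xh21 yh8 zh40) (kh xh21 yh15 zh6) (kh xh21 yh11 zh13) (kh xh21 yh10 zh47) (kh xh21 yh10 zh48) (kh xh20 yh5 zh28) (kh xh20 yh5 zh29) (kh xh21 yh15 zh24) (kh xh21 yh17 zh28) (kh xh20 yh5 zh34) (kh xh20 yh5 zh35) (kh xh21 yh5 zh20) (kh xh21 yh17 zh30) (kh xh20 yh5 zh39) (kh xh21 yh15 zh36) (kh xh21 yh9 zh49) (kh xh21 yh15 zh9) (kh xh21 yh10 zh26) (kh xh21 yh15 zh13) (kh xh21 yh15 zh14) (kh xh20 yh6 zh3) (kh xh20 yh6 zh4) (kh xh21 yh17 zh37) (kh xh21 yh12 zh9) (kh xh21 yh16 zh21) (kh xh21 yh16 zh22) (kh xh20 yh6 zh10) (kh xh21 yh5 zh5) (kh xh21 yh5 zh6) (kh xh21 yh10 zh49) (kh xh21 yh5 zh33) (kh xh21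 yh14 zh11) (kh xh21 yh12 zh36) (kh xh21 yh12 zh37) (kh xh20 yh6 zh25) (kh xh20 yh6 zh26) (kh xh21 yh17 zh47) (kh xh21 yh17 zh45) (kh xh21 yh17 zh49) (kh xh20 yh6 zh27) (kh xh20 yh7 zh18) (kh xh20 yh7 zh19) (kh xh20 yh7 zh20) (kh xh20 yh6 zh41) (kh xh20 yh6 zh42) (kh xh21 yh4 zh1) (kh xh20 yh7 zh23)) (@D3.rec (fun _ => Pt) (kh xh20 yh7 zh24) (kh xh21 yh12 zh5) (kh xh20 yh6 zh43) (kh xh21 yh15 zh12) (kh xh21 yh12 zh3) (kh xh21 yh12 zh4) (kh xh21 yh18 zh3) (kh xh21 yh10 zh13) (kh xh21 yh10 zh32) (kh xh21 yh1 zh36) (kh xh21 yh17 zh7) (kh xh21 yh18 zh15) (kh xh21 yh18 zh16) (kh xh20 yh7 zh1) (kh xh20 yh7 zh29) (kh xh21 yh15 zh16) (kh xh20 yh7 zh15) (kh xh20 yh7 zh14) (kh xh20 yh7 zh13) (kh xh21 yh18 zh18) (kh xh21 yh18 zh19) (kh xh20 yh7 zh16) (kh xh21 yh17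 zh50) (kh xh21 yh18 zh0) (kh xh21 yh18 zh1) (kh xh20 yh7 zh28) (kh xh21 yh18 zh5) (kh xh21 yh15 zh15) (kh xh20 yh23 zh39) (kh xh20 yh23 zh40) (kh xh20 yh9 zh8) (kh xh20 yh12 zh7) (kh xh20 yh9 zh36) (kh xh21 yh18 zh24) (kh xh20 yh7 zh39) (kh xh20 yh26 zh14) (kh xh21 yh1 zh9) (kh xh20 yh12 zh44) (kh xh20 yh12 zh46) (kh xh21 yh18 zh27) (kh xh20 yh19 zh3) (kh xh20 yh7 zh50) (kh xh20 yh26 zh13) (kh xh20 yh8 zh30) (kh xh20 yh8 zh31) (kh xh20 yh8 zh32) (kh xh20 yh15 zh19) (kh xh20 yh15 zh20) (kh xh20 yh15 zh21) (kh xh20 yh20 zh9) (kh xh21 yh1 zh50)) (@D3.rec (fun _ => Pt) (kh xh21 yh2 zh0) (kh xh20 yh8 zh14) (kh xh20 yh8 zh15) (kh xh20 yh8 zh16) (kh xh20 yh15 zh9) (kh xh20 yh15 zh10) (kh xh20 yh15 zh11) (kh xh21 yh18 zh38) (kh xh21 yh18 zh39) (kh xh21 yh18 zh41)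 (kh xh21 yh18 zh42) (kh xh20 yh8 zh41) (kh xh20 yh8 zh42) (kh xh21 yh19 zh2) (kh xh20 yh10 zh12) (kh xh20 yh8 zh24) (kh xh20 yh8 zh25) (kh xh20 yh8 zh26) (kh xh21 yh19 zh3) (kh xh21 yh19 zh4) (kh xh21 yh19 zh6) (kh xh21 yh19 zh7) (kh xh20 yh16 zh41) (kh xh20 yh16 zh42) (kh xh20 yh16 zh43) (kh xh21 yh18 zh29) (kh xh21 yh18 zh30) (kh xh21 yh19 zh17) (kh xh20 yh9 zh22) (kh xh20 yh9 zh23) (kh xh20 yh9 zh24) (kh xh20 yh8 zh38) (kh xh20 yh8 zh39) (kh xh20 yh11 zh39) (kh xh20 yh8 zh40) (kh xh21 yh19 zh22) (kh xh21 yh19 zh24) (kh xh21 yh19 zh0) (kh xh21 yh19 zh28) (kh xh20 yh8 zh43) (kh xh21 yh19 zh30) (kh xh20 yh8 zh46) (kh xh20 yh9 zh43) (kh xh20 yh25 zh1) (kh xh20 yh25 zh2) (kh xh20 yh20 zh8) (kh xh20 yh25 zh4) (kh xh20 yh23 zh17) (kh xh20 yh25 zh5) (kh xh20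 yh25 zh6) (kh xh20 yh23 zh15)) (@D3.rec (fun _ => Pt) (kh xh20 yh16 zh1) (kh xh20 yh16 zh2) (kh xh20 yh20 zh12) (kh xh20 yh14 zh40) (kh xh20 yh26 zh32) (kh xh20 yh20 zh11) (kh xh20 yh11 zh2) (kh xh20 yh11 zh3) (kh xh20 yh9 zh15) (kh xh20 yh9 zh16) (kh xh21 yh19 zh43) (kh xh20 yh10 zh46) (kh xh20 yh10 zh47) (kh xh20 yh10 zh48) (kh xh20 yh9 zh29) (kh xh20 yh9 zh30) (kh xh21 yh20 zh1) (kh xh20 yh9 zh32) (kh xh21 yh19 zh18) (kh xh21 yh19 zh19) (kh xh21 yh19 zh21) (kh xh20 yh22 zh18) (kh xh20 yh9 zh33) (kh xh20 yh9 zh34) (kh xh20 yh9 zh35) (kh xh21 yh19 zh48) (kh xh21 yh20 zh9) (kh xh21 yh19 zh50) (kh xh20 yh9 zh31) (kh xh21 yh20 zh5) (kh xh21 yh20 zh6) (kh xh21 yh20 zh12) (kh xh20 yh9 zh37) (kh xh21 yh19 zh29) (kh xh20 yh11 zh8) (kh xh20 yh17 zh40) (kh xh20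 yh26 zh12) (kh xh20 yh13 zh4) (kh xh20 yh13 zh5) (kh xh20 yh13 zh25) (kh xh20 yh26 zh50) (kh xh21 yh0 zh0) (kh xh20 yh10 zh5) (kh xh20 yh10 zh6) (kh xh20 yh25 zh40) (kh xh21 yh20 zh19) (kh xh20 yh26 zh42) (kh xh20 yh10 zh17) (kh xh20 yh10 zh18) (kh xh20 yh24 zh43) (kh xh20 yh10 zh15)) (@D3.rec (fun _ => Pt) (kh xh20 yh10 zh16) (kh xh21 yh0 zh49) (kh xh21 yh20 zh23) (kh xh21 yh20 zh21) (kh xh20 yh17 zh7) (kh xh20 yh17 zh8) (kh xh21 yh20 zh27) (kh xh20 yh13 zh40) (kh xh20 yh13 zh41) (kh xh20 yh26 zh40) (kh xh20 yh20 zh2) (kh xh20 yh20 zh3) (kh xh20 yh20 zh4) (kh xh20 yh10 zh35) (kh xh20 yh10 zh36) (kh xh20 yh10 zh37) (kh xh20 yh22 zh32) (kh xh20 yh16 zh50) (kh xh20 yh17 zh22) (kh xh21 yh20 zh32) (kh xh21 yh20 zh33) (kh xh21 yh20 zh35) (kh xh21 yh20 zh36)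 (kh xh20 yh11 zh24) (kh xh20 yh11 zh25) (kh xh20 yh11 zh26) (kh xh20 yh11 zh27) (kh xh20 yh11 zh28) (kh xh21 yh21 zh0) (kh xh20 yh22 zh16) (kh xh20 yh22 zh17) (kh xh21 yh19 zh44) (kh xh21 yh19 zh45) (kh xh21 yh21 zh6) (kh xh21 yh19 zh47) (kh xh20 yh10 zh49) (kh xh20 yh11 zh5) (kh xh20 yh11 zh6) (kh xh21 yh18 zh40) (kh xh20 yh11 zh7) (kh xh21 yh19 zh41) (kh xh21 yh19 zh42) (kh xh21 yh21 zh15) (kh xh20 yh19 zh21) (kh xh21 yh21 zh7) (kh xh21 yh21 zh9) (kh xh21 yh20 zh10) (kh xh20 yh11 zh48) (kh xh21 yh21 zh20) (kh xh20 yh11 zh11) (kh xh20 yh20 zh28)) (@D3.rec (fun _ => Pt) (kh xh20 yh20 zh29) (kh xh20 yh17 zh1) (kh xh20 yh20 zh43) (kh xh20 yh20 zh44) (kh xh21 yh21 zh28) (kh xh21 yh0 zh31) (kh xh21 yh0 zh32) (kh xh20 yh11 zh21) (kh xh20 yh11 zh22) (kh xh21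 yh19 zh5) (kh xh21 yh21 zh30) (kh xh20 yh22 zh24) (kh xh21 yh20 zh45) (kh xh21 yh20 zh46) (kh xh21 yh20 zh48) (kh xh21 yh20 zh49) (kh xh21 yh21 zh36) (kh xh20 yh11 zh29) (kh xh20 yh11 zh32) (kh xh20 yh11 zh33) (kh xh21 yh0 zh15) (kh xh21 yh21 zh37) (kh xh20 yh11 zh41) (kh xh20 yh12 zh35) (kh xh20 yh12 zh36) (kh xh20 yh24 zh39) (kh xh20 yh11 zh42) (kh xh21 yh19 zh23) (kh xh20 yh11 zh43) (kh xh21 yh19 zh25) (kh xh21 yh21 zh42) (kh xh20 yh20 zh22) (kh xh20 yh20 zh23) (kh xh21 yh0 zh34) (kh xh21 yh21 zh47) (kh xh20 yh11 zh49) (kh xh20 yh12 zh50) (kh xh20 yh14 zh21) (kh xh20 yh14 zh22) (kh xh20 yh14 zh42) (kh xh20 yh14 zh43) (kh xh21 yh22 zh5) (kh xh20 yh14 zh45) (kh xh20 yh26 zh39) (kh xh21 yh22 zh8) (kh xh20 yh12 zh9) (kh xh20 yh23 zh28) (kh xh20 yh12 zh34)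 (kh xh20 yh23 zh29) (kh xh20 yh12 zh27) (kh xh20 yh20 zh42)) (@D3.rec (fun _ => Pt) (kh xh20 yh12 zh48) (kh xh20 yh14 zh35) (kh xh20 yh13 zh49) (kh xh20 yh14 zh46) (kh xh20 yh14 zh47) (kh xh20 yh20 zh10) (kh xh20 yh19 zh44) (kh xh20 yh12 zh26) (kh xh21 yh22 zh11) (kh xh20 yh21 zh15) (kh xh20 yh21 zh16) (kh xh20 yh12 zh33) (kh xh21 yh22 zh10) (kh xh21 yh21 zh39) (kh xh20 yh12 zh42) (kh xh20 yh12 zh43) (kh xh20 yh18 zh41) (kh xh21 yh22 zh17) (kh xh20 yh26 zh45) (kh xh21 yh22 zh12) (kh xh20 yh12 zh47) (kh xh21 yh21 zh48) (kh xh20 yh17 zh24) (kh xh20 yh18 zh5) (kh xh21 yh20 zh15) (kh xh21 yh20 zh16) (kh xh21 yh0 zh2) (kh xh21 yh0 zh3) (kh xh20 yh17 zh27) (kh xh20 yh17 zh48) (kh xh20 yh17 zh28) (kh xh20 yh13 zh19) (kh xh20 yh13 zh20) (kh xh20 yh13 zh21) (kh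 xh20 yh16 zh30) (kh xh20 yh16 zh31) (kh xh20 yh16 zh32) (kh xh21 yh22 zh21) (kh xh21 yh22 zh22) (kh xh21 yh22 zh24) (kh xh20 yh13 zh36) (kh xh20 yh13 zh37) (kh xh20 yh21 zh23) (kh xh20 yh18 zh42) (kh xh20 yh18 zh43) (kh xh20 yh13 zh31) (kh xh20 yh13 zh32) (kh xh20 yh15 zh50) (kh xh20 yh13 zh33) (kh xh21 yh22 zh34) (kh xh21 yh22 zh36)) (@D3.rec (fun _ => Pt) (kh xh20 yh26 zh48) (kh xh20 yh26 zh49) (kh xh21 yh22 zh31) (kh xh20 yh21 zh22) (kh xh21 yh20 zh28) (kh xh20 yh13 zh44) (kh xh20 yh19 zh6) (kh xh20 yh18 zh0) (kh xh21 yh22 zh13) (kh xh20 yh14 zh2) (kh xh21 yh22 zh41) (kh xh20 yh14 zh5) (kh xh20 yh14 zh6) (kh xh21 yh22 zh42) (kh xh20 yh14 zh20) (kh xh20 yh14 zh12) (kh xh20 yh14 zh13) (kh xh20 yh14 zh14) (kh xh20 yh21 zh37) (kh xh20 yh21 zh38) (kh xh20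 yh21 zh39) (kh xh21 yh22 zh43) (kh xh21 yh22 zh44) (kh xh21 yh22 zh46) (kh xh21 yh22 zh47) (kh xh20 yh14 zh30) (kh xh20 yh14 zh31) (kh xh21 yh23 zh7) (kh xh20 yh21 zh21) (kh xh21 yh21 zh49) (kh xh21 yh21 zh50) (kh xh20 yh14 zh27) (kh xh20 yh14 zh28) (kh xh21 yh20 zh17) (kh xh20 yh14 zh29) (kh xh20 yh21 zh47) (kh xh21 yh23 zh9) (kh xh21 yh23 zh11) (kh xh21 yh23 zh5) (kh xh21 yh23 zh15) (kh xh20 yh14 zh32) (kh xh20 yh15 zh1) (kh xh20 yh19 zh2) (kh xh20 yh21 zh50) (kh xh21 yh19 zh39) (kh xh20 yh22 zh1) (kh xh21 yh22 zh1) (kh xh21 yh23 zh21) (kh xh21 yh22 zh3) (kh xh20 yh14 zh44) (kh xh21 yh22 zh14)) (@D3.rec (fun _ => Pt) (kh xh21 yh23 zh23) (kh xh20 yh14 zh49) (kh xh21 yh23 zh16) (kh xh20 yh18 zh30) (kh xh20 yh15 zh5) (kh xh20 yh18 zh48) (kh xh20 yh18 zh49)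 (kh xh21 yh23 zh25) (kh xh20 yh15 zh37) (kh xh20 yh15 zh38) (kh xh21 yh23 zh12) (kh xh21 yh18 zh43) (kh xh21 yh18 zh44) (kh xh21 yh23 zh35) (kh xh21 yh18 zh46) (kh xh21 yh18 zh47) (kh xh21 yh23 zh1) (kh xh20 yh15 zh12) (kh xh20 yh20 zh0) (kh xh20 yh15 zh22) (kh xh20 yh15 zh23) (kh xh21 yh22 zh23) (kh xh20 yh15 zh24) (kh xh20 yh15 zh25) (kh xh21 yh18 zh32) (kh xh21 yh18 zh33) (kh xh21 yh23 zh47) (kh xh21 yh18 zh35) (kh xh21 yh18 zh36) (kh xh21 yh23 zh38) (kh xh21 yh23 zh40) (kh xh21 yh23 zh42) (kh xh21 yh20 zh41) (kh xh20 yh16 zh7) (kh xh21 yh24 zh3) (kh xh20 yh15 zh29) (kh xh20 yh16 zh17) (kh xh20 yh16 zh18) (kh xh20 yh15 zh35) (kh xh20 yh15 zh36) (kh xh21 yh0 zh4) (kh xh21 yh24 zh7) (kh xh21 yh23 zh29) (kh xh20 yh15 zh42) (kh xh20 yh15 zh43) (kh xh20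 yh23 zh22) (kh xh20 yh15 zh44) (kh xh21 yh24 zh9) (kh xh21 yh24 zh11) (kh xh20 yh16 zh48) (kh xh20 yh16 zh49)) (@D3.rec (fun _ => Pt) (kh xh21 yh20 zh39) (kh xh20 yh17 zh0) (kh xh20 yh16 zh3) (kh xh21 yh22 zh35) (kh xh20 yh16 zh4) (kh xh21 yh22 zh37) (kh xh21 yh19 zh37) (kh xh21 yh24 zh18) (kh xh20 yh25 zh7) (kh xh21 yh24 zh22) (kh xh20 yh16 zh8) (kh xh20 yh17 zh19) (kh xh20 yh21 zh24) (kh xh20 yh18 zh28) (kh xh20 yh18 zh29) (kh xh20 yh16 zh21) (kh xh20 yh16 zh22) (kh xh21 yh22 zh4) (kh xh21 yh24 zh5) (kh xh21 yh24 zh6) (kh xh20 yh16 zh23) (kh xh21 yh24 zh26) (kh xh20 yh16 zh26) (kh xh20 yh16 zh36) (kh xh20 yh16 zh37) (kh xh20 yh26 zh30) (kh xh20 yh16 zh38) (kh xh21 yh22 zh25) (kh xh21 yh22 zh26) (kh xh21 yh22 zh28) (kh xh20 yh16 zh39) (kh xh20 yh16 zh40)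 (kh xh21 yh24 zh29) (kh xh21 yh24 zh31) (kh xh21 yh24 zh34) (kh xh21 yh19 zh11) (kh xh21 yh19 zh12) (kh xh21 yh24 zh40) (kh xh21 yh19 zh14) (kh xh20 yh17 zh9) (kh xh21 yh24 zh45) (kh xh20 yh17 zh11) (kh xh21 yh22 zh0) (kh xh20 yh16 zh46) (kh xh21 yh24 zh13) (kh xh21 yh20 zh38) (kh xh21 yh24 zh15) (kh xh21 yh20 zh40) (kh xh21 yh21 zh25) (kh xh21 yh0 zh19) (kh xh20 yh17 zh13)) (@D3.rec (fun _ => Pt) (kh xh20 yh19 zh7) (kh xh20 yh17 zh14) (kh xh20 yh19 zh1) (kh xh20 yh19 zh4) (kh xh21 yh20 zh25) (kh xh21 yh25 zh6) (kh xh21 yh24 zh42) (kh xh20 yh17 zh10) (kh xh20 yh20 zh33) (kh xh21 yh25 zh2) (kh xh20 yh17 zh17) (kh xh21 yh24 zh23) (kh xh20 yh19 zh22) (kh xh21 yh1 zh7) (kh xh20 yh17 zh41) (kh xh20 yh17 zh42) (kh xh20 yh25 zh17) (kh xh20 yh26 zh1) (kh xh20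 yh26 zh2) (kh xh20 yh17 zh43) (kh xh20 yh25 zh45) (kh xh20 yh18 zh6) (kh xh20 yh18 zh7) (kh xh20 yh21 zh17) (kh xh21 yh25 zh9) (kh xh20 yh26 zh33) (kh xh21 yh0 zh21) (kh xh20 yh26 zh43) (kh xh20 yh18 zh1) (kh xh20 yh25 zh42) (kh xh21 yh25 zh14) (kh xh20 yh18 zh11) (kh xh21 yh1 zh8) (kh xh20 yh18 zh31) (kh xh20 yh18 zh32) (kh xh21 yh25 zh23) (kh xh20 yh25 zh10) (kh xh20 yh25 zh11) (kh xh21 yh25 zh28) (kh xh20 yh21 zh5) (kh xh20 yh21 zh3) (kh xh20 yh25 zh12) (kh xh20 yh22 zh47) (kh xh20 yh21 zh49) (kh xh20 yh18 zh34) (kh xh21 yh25 zh34) (kh xh20 yh18 zh24) (kh xh21 yh0 zh7) (kh xh21 yh0 zh8) (kh xh21 yh0 zh33) (kh xh21 yh24 zh24)) (@D3.rec (fun _ => Pt) (kh xh21 yh24 zh25) (kh xh21 yh25 zh40) (kh xh21 yh23 zh22) (kh xh21 yh25 zh21) (kh xh21 yh25 zh42) (kh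 xh20 yh18 zh33) (kh xh21 yh25 zh43) (kh xh20 yh18 zh35) (kh xh20 yh18 zh37) (kh xh20 yh25 zh49) (kh xh20 yh25 zh50) (kh xh21 yh0 zh1) (kh xh21 yh22 zh33) (kh xh21 yh0 zh6) (kh xh20 yh18 zh50) (kh xh20 yh19 zh0) (kh xh21 yh24 zh46) (kh xh21 yh23 zh26) (kh xh21 yh23 zh27) (kh xh21 yh25 zh5) (kh xh21 yh25 zh48) (kh xh21 yh25 zh3) (kh xh21 yh18 zh26) (kh xh21 yh25 zh4) (kh xh20 yh26 zh27) (kh xh21 yh25 zh1) (kh xh20 yh25 zh41) (kh xh20 yh24 zh18) (kh xh20 yh24 zh19) (kh xh21 yh26 zh6) (kh xh20 yh19 zh16) (kh xh21 yh26 zh9) (kh xh20 yh19 zh14) (kh xh21 yh26 zh10) (kh xh20 yh19 zh17) (kh xh20 yh19 zh19) (kh xh21 yh21 zh13) (kh xh20 yh20 zh41) (kh xh20 yh25 zh28) (kh xh20 yh25 zh29) (kh xh21 yh20 zh0) (kh xh20 yh20 zh30) (kh xh20 yh20 zh31) (kh xh21 yh26 zh16)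 (kh xh20 yh20 zh34) (kh xh21 yh26 zh19) (kh xh20 yh19 zh32) (kh xh20 yh23 zh42) (kh xh20 yh23 zh43) (kh xh21 yh26 zh25) (kh xh20 yh23 zh44)) (@D3.rec (fun _ => Pt) (kh xh20 yh19 zh36) (kh xh20 yh23 zh7) (kh xh20 yh19 zh43) (kh xh21 yh1 zh4) (kh xh21 yh1 zh5) (kh xh21 yh1 zh1) (kh xh20 yh24 zh20) (kh xh21 yh22 zh15) (kh xh21 yh26 zh32) (kh xh21 yh0 zh27) (kh xh20 yh23 zh8) (kh xh20 yh19 zh45) (kh xh20 yh21 zh2) (kh xh20 yh20 zh5) (kh xh20 yh20 zh6) (kh xh21 yh23 zh37) (kh xh21 yh20 zh29) (kh xh21 yh20 zh30) (kh xh21 yh26 zh39) (kh xh21 yh20 zh31) (kh xh21 yh18 zh37) (kh xh21 yh26 zh34) (kh xh21 yh26 zh45) (kh xh21 yh19 zh32) (kh xh20 yh25 zh3) (kh xh20 yh20 zh7) (kh xh21 yh18 zh34) (kh xh21 yh19 zh40) (kh xh21 yh19 zh38) (kh xh20 yh20 zh46) (kh xh21 yh26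 zh50) (kh xh20 yh20 zh15) (kh xh22 yh0 zh2) (kh xh22 yh0 zh3) (kh xh20 yh20 zh17) (kh xh21 yh24 zh4) (kh xh21 yh0 zh36) (kh xh21 yh0 zh37) (kh xh20 yh25 zh43) (kh xh21 yh21 zh46) (kh xh22 yh0 zh9) (kh xh20 yh20 zh24) (kh xh20 yh24 zh44) (kh xh21 yh21 zh22) (kh xh21 yh21 zh23) (kh xh21 yh26 zh33) (kh xh21 yh26 zh14) (kh xh22 yh0 zh15) (kh xh21 yh25 zh7) (kh xh20 yh20 zh32) (kh xh22 yh0 zh18)) (@D3.rec (fun _ => Pt) (kh xh21 yh25 zh26) (kh xh20 yh20 zh35) (kh xh20 yh22 zh6) (kh xh20 yh22 zh23) (kh xh21 yh21 zh26) (kh xh22 yh0 zh21) (kh xh20 yh20 zh45) (kh xh22 yh0 zh22) (kh xh20 yh20 zh47) (kh xh20 yh22 zh50) (kh xh22 yh0 zh24) (kh xh20 yh20 zh49) (kh xh20 yh20 zh50) (kh xh20 yh23 zh3) (kh xh21 yh25 zh29) (kh xh20 yh23 zh9) (kh xh20 yh22 zh21) (kh xh20 yh21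 zh43) (kh xh20 yh25 zh33) (kh xh20 yh25 zh34) (kh xh21 yh22 zh27) (kh xh21 yh22 zh16) (kh xh21 yh25 zh15) (kh xh20 yh21 zh29) (kh xh20 yh21 zh28) (kh xh21 yh22 zh40) (kh xh21 yh22 zh32) (kh xh22 yh0 zh37) (kh xh22 yh0 zh38) (kh xh20 yh21 zh25) (kh xh22 yh0 zh32) (kh xh20 yh21 zh40) (kh xh20 yh21 zh41) (kh xh21 yh24 zh21) (kh xh20 yh25 zh36) (kh xh20 yh21 zh44) (kh xh22 yh0 zh43) (kh xh20 yh21 zh35) (kh xh21 yh22 zh48) (kh xh21 yh22 zh49) (kh xh21 yh23 zh0) (kh xh22 yh0 zh39) (kh xh22 yh0 zh50) (kh xh22 yh0 zh27) (kh xh22 yh1 zh0) (kh xh20 yh21 zh42) (kh xh22 yh1 zh2) (kh xh20 yh21 zh45) (kh xh20 yh25 zh20) (kh xh20 yh26 zh47) (kh xh21 yh25 zh31)) (@D3.rec (fun _ => Pt) (kh xh22 yh1 zh6) (kh xh21 yh23 zh18) (kh xh21 yh26 zh31) (kh xh20 yh22 zh0) (kh xh22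 yh0 zh16) (kh xh22 yh1 zh9) (kh xh20 yh22 zh3) (kh xh20 yh22 zh4) (kh xh22 yh0 zh19) (kh xh20 yh22 zh11) (kh xh20 yh22 zh12) (kh xh21 yh0 zh35) (kh xh20 yh22 zh37) (kh xh20 yh22 zh38) (kh xh21 yh25 zh27) (kh xh20 yh22 zh39) (kh xh21 yh21 zh1) (kh xh21 yh21 zh2) (kh xh22 yh1 zh20) (kh xh21 yh20 zh4) (kh xh20 yh22 zh40) (kh xh22 yh0 zh26) (kh xh20 yh22 zh41) (kh xh20 yh25 zh32) (kh xh21 yh21 zh32) (kh xh22 yh1 zh27) (kh xh20 yh22 zh25) (kh xh22 yh1 zh31) (kh xh20 yh22 zh43) (kh xh22 yh1 zh33) (kh xh20 yh25 zh0) (kh xh20 yh22 zh27) (kh xh20 yh24 zh23) (kh xh22 yh1 zh28) (kh xh21 yh20 zh37) (kh xh20 yh23 zh26) (kh xh20 yh23 zh27) (kh xh22 yh1 zh13) (kh xh22 yh1 zh15) (kh xh22 yh1 zh22) (kh xh20 yh22 zh42) (kh xh20 yh25 zh47) (kh xh21 yh25 zh30) (kh xh20 yh22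 zh48) (kh xh22 yh0 zh23) (kh xh22 yh1 zh40) (kh xh20 yh23 zh0) (kh xh22 yh0 zh25) (kh xh21 yh19 zh36) (kh xh20 yh23 zh4) (kh xh20 yh25 zh21)) (@D3.rec (fun _ => Pt) (kh xh21 yh26 zh24) (kh xh22 yh1 zh44) (kh xh20 yh23 zh10) (kh xh20 yh23 zh13) (kh xh20 yh24 zh7) (kh xh21 yh19 zh34) (kh xh21 yh0 zh5) (kh xh20 yh23 zh25) (kh xh21 yh24 zh10) (kh xh21 yh0 zh20) (kh xh22 yh1 zh36) (kh xh20 yh23 zh33) (kh xh21 yh1 zh3) (kh xh21 yh0 zh22) (kh xh21 yh0 zh23) (kh xh21 yh1 zh27) (kh xh21 yh1 zh15) (kh xh21 yh18 zh22) (kh xh22 yh2 zh3) (kh xh20 yh23 zh41) (kh xh21 yh26 zh21) (kh xh21 yh26 zh23) (kh xh20 yh24 zh0) (kh xh20 yh24 zh1) (kh xh21 yh0 zh11) (kh xh20 yh24 zh2) (kh xh20 yh24 zh3) (kh xh20 yh24 zh4) (kh xh22 yh2 zh6) (kh xh22 yh2 zh8) (kh xh22 yh2 zh9) (kh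 xh20 yh24 zh9) (kh xh22 yh1 zh45) (kh xh20 yh24 zh10) (kh xh22 yh2 zh12) (kh xh20 yh24 zh16) (kh xh21 yh0 zh18) (kh xh20 yh24 zh17) (kh xh21 yh26 zh4) (kh xh21 yh26 zh28) (kh xh20 yh24 zh24) (kh xh22 yh1 zh34) (kh xh20 yh24 zh28) (kh xh20 yh24 zh29) (kh xh20 yh24 zh49) (kh xh20 yh24 zh30) (kh xh22 yh2 zh18) (kh xh22 yh2 zh20) (kh xh20 yh24 zh33) (kh xh20 yh24 zh34) (kh xh20 yh26 zh36)) (@D3.rec (fun _ => Pt) (kh xh22 yh2 zh22) (kh xh20 yh25 zh18) (kh xh20 yh25 zh19) (kh xh21 yh19 zh20) (kh xh20 yh24 zh40) (kh xh21 yh21 zh40) (kh xh20 yh24 zh45) (kh xh21 yh20 zh22) (kh xh20 yh25 zh46) (kh xh22 yh2 zh19) (kh xh22 yh1 zh30) (kh xh22 yh1 zh32) (kh xh21 yh19 zh31) (kh xh21 yh26 zh44) (kh xh21 yh19 zh33) (kh xh21 yh19 zh35) (kh xh22 yh2 zh37) (kh xh22 yh2 zh38)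 (kh xh20 yh25 zh8) (kh xh22 yh0 zh0) (kh xh21 yh25 zh24) (kh xh21 yh0 zh28) (kh xh21 yh0 zh29) (kh xh21 yh20 zh47) (kh xh20 yh25 zh25) (kh xh21 yh25 zh10) (kh xh22 yh2 zh24) (kh xh22 yh1 zh3) (kh xh22 yh1 zh1) (kh xh20 yh25 zh26) (kh xh20 yh25 zh27) (kh xh22 yh2 zh46) (kh xh21 yh26 zh12) (kh xh20 yh25 zh37) (kh xh22 yh1 zh24) (kh xh22 yh0 zh29) (kh xh20 yh26 zh0) (kh xh21 yh20 zh20) (kh xh21 yh25 zh18) (kh xh22 yh0 zh6) (kh xh21 yh25 zh12) (kh xh21 yh25 zh13) (kh xh22 yh1 zh38) (kh xh21 yh25 zh44) (kh xh21 yh25 zh11) (kh xh20 yh26 zh19) (kh xh20 yh26 zh20) (kh xh21 yh22 zh45) (kh xh20 yh26 zh21) (kh xh20 yh26 zh10) (kh xh20 yh26 zh38)) (@D3.rec (fun _ => Pt) (kh xh20 yh26 zh11) (kh xh22 yh3 zh7) (kh xh21 yh20 zh14) (kh xh21 yh18 zh28) (kh xh21 yh21 zh21)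 (kh xh21 yh18 zh25) (kh xh20 yh26 zh24) (kh xh21 yh1 zh10) (kh xh20 yh26 zh25) (kh xh22 yh3 zh3) (kh xh22 yh3 zh5) (kh xh20 yh26 zh26) (kh xh22 yh3 zh13) (kh xh21 yh26 zh3) (kh xh20 yh26 zh31) (kh xh21 yh24 zh30) (kh xh20 yh26 zh46) (kh xh22 yh2 zh23) (kh xh22 yh3 zh6) (kh xh22 yh3 zh8) (kh xh21 yh22 zh39) (kh xh21 yh20 zh18) (kh xh21 yh25 zh45) (kh xh21 yh22 zh20) (kh xh21 yh24 zh8) (kh xh21 yh25 zh46) (kh xh21 yh25 zh47) (kh xh21 yh25 zh35) (kh xh21 yh0 zh12) (kh xh22 yh2 zh7) (kh xh21 yh0 zh16) (kh xh21 yh21 zh38) (kh xh22 yh2 zh13) (kh xh22 yh2 zh14) (kh xh21 yh25 zh16) (kh xh21 yh25 zh17) (kh xh22 yh1 zh50) (kh xh21 yh0 zh26) (kh xh21 yh26 zh30) (kh xh22 yh2 zh40) (kh xh21 yh21 zh29) (kh xh21 yh25 zh36) (kh xh22 yh1 zh11) (kh xh22 yh1 zh12) (kh xh22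 yh0 zh5) (kh xh21 yh0 zh41) (kh xh22 yh3 zh37) (kh xh21 yh0 zh40) (kh xh22 yh3 zh39) (kh xh21 yh0 zh42) (kh xh21 yh1 zh22)) (@D3.rec (fun _ => Pt) (kh xh21 yh1 zh23) (kh xh21 yh1 zh24) (kh xh21 yh20 zh34) (kh xh21 yh1 zh6) (kh xh21 yh20 zh24) (kh xh21 yh1 zh26) (kh xh21 yh26 zh27) (kh xh22 yh1 zh48) (kh xh22 yh1 zh49) (kh xh21 yh26 zh26) (kh xh21 yh25 zh19) (kh xh21 yh25 zh20) (kh xh22 yh3 zh12) (kh xh22 yh3 zh14) (kh xh22 yh4 zh0) (kh xh21 yh1 zh11) (kh xh21 yh1 zh12) (kh xh22 yh2 zh0) (kh xh21 yh1 zh19) (kh xh21 yh1 zh20) (kh xh22 yh3 zh40) (kh xh22 yh3 zh41) (kh xh21 yh15 zh17) (kh xh22 yh4 zh3) (kh xh21 yh1 zh33) (kh xh21 yh17 zh5) (kh xh21 yh11 zh22) (kh xh21 yh1 zh39) (kh xh21 yh17 zh3) (kh xh21 yh2 zh25) (kh xh21 yh2 zh26) (kh xh22 yh4 zh8) (kh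 xh21 yh8 zh24) (kh xh21 yh8 zh25) (kh xh21 yh12 zh26) (kh xh21 yh8 zh27) (kh xh21 yh8 zh28) (kh xh21 yh12 zh20) (kh xh21 yh2 zh7) (kh xh21 yh2 zh8) (kh xh21 yh4 zh38) (kh xh21 yh2 zh9) (kh xh21 yh2 zh10) (kh xh21 yh8 zh11) (kh xh21 yh8 zh12) (kh xh22 yh4 zh23) (kh xh21 yh8 zh14) (kh xh21 yh8 zh15) (kh xh22 yh4 zh14) (kh xh22 yh4 zh16) (kh xh22 yh4 zh18)) (@D3.rec (fun _ => Pt) (kh xh21 yh2 zh37) (kh xh22 yh4 zh29) (kh xh21 yh2 zh13) (kh xh21 yh2 zh18) (kh xh21 yh2 zh19) (kh xh21 yh5 zh9) (kh xh21 yh2 zh20) (kh xh21 yh2 zh21) (kh xh22 yh4 zh31) (kh xh22 yh4 zh33) (kh xh22 yh4 zh34) (kh xh21 yh9 zh35) (kh xh21 yh9 zh36) (kh xh22 yh4 zh40) (kh xh21 yh9 zh38) (kh xh22 yh4 zh6) (kh xh22 yh4 zh42) (kh xh21 yh2 zh27) (kh xh21 yh3 zh18) (kh xh21 yh3 zh19) (kh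 xh21 yh16 zh3) (kh xh21 yh3 zh20) (kh xh21 yh2 zh35) (kh xh21 yh5 zh27) (kh xh21 yh2 zh36) (kh xh21 yh5 zh29) (kh xh22 yh4 zh48) (kh xh22 yh5 zh1) (kh xh21 yh2 zh38) (kh xh21 yh3 zh33) (kh xh21 yh2 zh40) (kh xh21 yh16 zh12) (kh xh21 yh12 zh23) (kh xh21 yh16 zh14) (kh xh21 yh15 zh5) (kh xh21 yh16 zh15) (kh xh21 yh14 zh48) (kh xh21 yh9 zh6) (kh xh21 yh12 zh28) (kh xh21 yh7 zh44) (kh xh21 yh12 zh27) (kh xh21 yh4 zh40) (kh xh21 yh4 zh41) (kh xh21 yh3 zh10) (kh xh21 yh4 zh31) (kh xh21 yh4 zh32) (kh xh22 yh5 zh14) (kh xh21 yh4 zh34) (kh xh21 yh3 zh25) (kh xh22 yh5 zh19) (kh xh21 yh3 zh27)) (@D3.rec (fun _ => Pt) (kh xh21 yh11 zh40) (kh xh21 yh3 zh16) (kh xh22 yh4 zh43) (kh xh22 yh4 zh45) (kh xh21 yh14 zh19) (kh xh21 yh3 zh29) (kh xh21 yh3 zh30) (kh xh22 yh5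 zh24) (kh xh22 yh5 zh16) (kh xh21 yh3 zh26) (kh xh21 yh4 zh46) (kh xh22 yh5 zh23) (kh xh21 yh3 zh31) (kh xh22 yh5 zh2) (kh xh21 yh17 zh2) (kh xh21 yh6 zh24) (kh xh21 yh6 zh25) (kh xh21 yh7 zh33) (kh xh21 yh17 zh21) (kh xh21 yh3 zh45) (kh xh21 yh16 zh37) (kh xh21 yh4 zh3) (kh xh21 yh16 zh7) (kh xh21 yh4 zh2) (kh xh21 yh18 zh4) (kh xh21 yh10 zh4) (kh xh22 yh5 zh37) (kh xh21 yh4 zh6) (kh xh21 yh7 zh4) (kh xh21 yh12 zh16) (kh xh21 yh12 zh17) (kh xh21 yh12 zh19) (kh xh21 yh4 zh19) (kh xh21 yh4 zh20) (kh xh21 yh18 zh2) (kh xh21 yh4 zh21) (kh xh21 yh4 zh22) (kh xh21 yh14 zh34) (kh xh21 yh9 zh45) (kh xh21 yh9 zh0) (kh xh21 yh9 zh47) (kh xh21 yh8 zh32) (kh xh22 yh5 zh41) (kh xh22 yh5 zh43) (kh xh22 yh5 zh45) (kh xh21 yh5 zh12) (kh xh21 yh5 zh13) (kh xh21 yh16 zh23)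 (kh xh21 yh5 zh14) (kh xh21 yh5 zh15) (kh xh22 yh6 zh8)) (@D3.rec (fun _ => Pt) (kh xh21 yh4 zh28) (kh xh21 yh14 zh16) (kh xh21 yh14 zh17) (kh xh22 yh5 zh10) (kh xh22 yh6 zh12) (kh xh22 yh5 zh12) (kh xh21 yh4 zh33) (kh xh21 yh4 zh44) (kh xh22 yh4 zh15) (kh xh21 yh4 zh45) (kh xh22 yh4 zh17) (kh xh22 yh5 zh9) (kh xh22 yh6 zh22) (kh xh21 yh11 zh36) (kh xh22 yh6 zh23) (kh xh21 yh4 zh42) (kh xh22 yh6 zh14) (kh xh22 yh5 zh25) (kh xh22 yh6 zh26) (kh xh22 yh6 zh27) (kh xh21 yh4 zh48) (kh xh21 yh17 zh4) (kh xh21 yh12 zh43) (kh xh21 yh12 zh44) (kh xh22 yh6 zh33) (kh xh21 yh9 zh48) (kh xh21 yh13 zh4) (kh xh22 yh6 zh36) (kh xh21 yh5 zh4) (kh xh21 yh17 zh40) (kh xh21 yh5 zh10) (kh xh22 yh4 zh32) (kh xh21 yh14 zh24) (kh xh22 yh6 zh2) (kh xh22 yh6 zh4) (kh xh22 yh6 zh41)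 (kh xh21 yh5 zh16) (kh xh21 yh5 zh21) (kh xh21 yh17 zh31) (kh xh21 yh6 zh13) (kh xh21 yh16 zh5) (kh xh22 yh4 zh47) (kh xh21 yh5 zh30) (kh xh22 yh4 zh49) (kh xh22 yh4 zh50) (kh xh22 yh5 zh0) (kh xh21 yh12 zh39) (kh xh21 yh5 zh34) (kh xh21 yh6 zh21) (kh xh21 yh7 zh29) (kh xh21 yh7 zh30)) (@D3.rec (fun _ => Pt) (kh xh21 yh9 zh42) (kh xh21 yh7 zh46) (kh xh22 yh7 zh6) (kh xh21 yh7 zh48) (kh xh21 yh9 zh17) (kh xh21 yh5 zh41) (kh xh22 yh7 zh8) (kh xh22 yh7 zh9) (kh xh21 yh5 zh44) (kh xh22 yh6 zh37) (kh xh21 yh6 zh12) (kh xh21 yh6 zh8) (kh xh21 yh6 zh19) (kh xh21 yh7 zh8) (kh xh21 yh7 zh50) (kh xh21 yh12 zh7) (kh xh21 yh13 zh21) (kh xh21 yh6 zh17) (kh xh22 yh6 zh50) (kh xh22 yh5 zh27) (kh xh21 yh17 zh23) (kh xh21 yh6 zh37) (kh xh21 yh6 zh38) (kh xh21 yh8 zh21)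 (kh xh21 yh6 zh39) (kh xh21 yh9 zh27) (kh xh21 yh9 zh28) (kh xh21 yh13 zh20) (kh xh21 yh9 zh29) (kh xh22 yh7 zh11) (kh xh22 yh7 zh13) (kh xh21 yh7 zh2) (kh xh21 yh13 zh26) (kh xh21 yh11 zh12) (kh xh21 yh6 zh49) (kh xh21 yh9 zh3) (kh xh21 yh6 zh50) (kh xh21 yh9 zh5) (kh xh22 yh7 zh21) (kh xh21 yh17 zh20) (kh xh21 yh13 zh25) (kh xh21 yh7 zh10) (kh xh21 yh7 zh13) (kh xh21 yh7 zh21) (kh xh21 yh7 zh22) (kh xh21 yh16 zh47) (kh xh21 yh7 zh23) (kh xh21 yh7 zh24) (kh xh21 yh13 zh38) (kh xh21 yh13 zh39) (kh xh22 yh7 zh32)) (@D3.rec (fun _ => Pt) (kh xh21 yh13 zh40) (kh xh21 yh8 zh16) (kh xh22 yh7 zh24) (kh xh22 yh7 zh26) (kh xh22 yh7 zh27) (kh xh21 yh7 zh38) (kh xh22 yh7 zh38) (kh xh21 yh7 zh27) (kh xh22 yh7 zh0) (kh xh21 yh7 zh36) (kh xh22 yh5 zh28) (kh xh21 yh7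 zh37) (kh xh21 yh8 zh10) (kh xh22 yh7 zh40) (kh xh22 yh7 zh44) (kh xh21 yh7 zh39) (kh xh21 yh8 zh2) (kh xh22 yh5 zh8) (kh xh21 yh14 zh1) (kh xh22 yh7 zh46) (kh xh22 yh7 zh3) (kh xh21 yh7 zh47) (kh xh21 yh11 zh2) (kh xh21 yh8 zh0) (kh xh22 yh7 zh45) (kh xh21 yh8 zh7) (kh xh21 yh11 zh17) (kh xh21 yh11 zh18) (kh xh22 yh7 zh43) (kh xh21 yh8 zh42) (kh xh22 yh7 zh42) (kh xh22 yh4 zh19) (kh xh22 yh8 zh5) (kh xh22 yh4 zh21) (kh xh22 yh7 zh33) (kh xh21 yh8 zh13) (kh xh22 yh4 zh24) (kh xh21 yh12 zh15) (kh xh21 yh8 zh29) (kh xh22 yh7 zh12) (kh xh21 yh8 zh30) (kh xh22 yh5 zh38) (kh xh21 yh8 zh31) (kh xh22 yh4 zh9) (kh xh22 yh8 zh18) (kh xh22 yh4 zh11) (kh xh22 yh8 zh21) (kh xh21 yh8 zh26) (kh xh22 yh4 zh13) (kh xh22 yh8 zh8) (kh xh22 yh8 zh11)) (@D3.rec (fun _ =>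 Pt) (kh xh22 yh5 zh50) (kh xh22 yh8 zh25) (kh xh22 yh8 zh26) (kh xh21 yh8 zh34) (kh xh21 yh12 zh35) (kh xh21 yh9 zh18) (kh xh21 yh9 zh19) (kh xh21 yh8 zh41) (kh xh21 yh17 zh24) (kh xh21 yh8 zh47) (kh xh21 yh15 zh8) (kh xh21 yh8 zh48) (kh xh22 yh8 zh32) (kh xh21 yh9 zh44) (kh xh22 yh5 zh47) (kh xh21 yh9 zh46) (kh xh22 yh5 zh49) (kh xh22 yh7 zh20) (kh xh21 yh9 zh7) (kh xh22 yh7 zh22) (kh xh22 yh7 zh23) (kh xh21 yh13 zh33) (kh xh21 yh9 zh9) (kh xh21 yh10 zh11) (kh xh21 yh10 zh50) (kh xh21 yh11 zh0) (kh xh21 yh9 zh21) (kh xh22 yh7 zh5) (kh xh22 yh8 zh28) (kh xh21 yh9 zh32) (kh xh21 yh17 zh15) (kh xh21 yh9 zh33) (kh xh22 yh7 zh14) (kh xh22 yh7 zh16) (kh xh21 yh9 zh34) (kh xh22 yh8 zh48) (kh xh22 yh4 zh37) (kh xh22 yh9 zh4) (kh xh22 yh4 zh39) (kh xh22 yh9 zh5)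 (kh xh21 yh9 zh37) (kh xh22 yh9 zh8) (kh xh21 yh10 zh6) (kh xh22 yh9 zh10) (kh xh22 yh7 zh1) (kh xh21 yh9 zh40) (kh xh21 yh11 zh16) (kh xh22 yh8 zh13) (kh xh22 yh5 zh46) (kh xh22 yh8 zh35) (kh xh22 yh5 zh48)) (@D3.rec (fun _ => Pt) (kh xh22 yh6 zh31) (kh xh21 yh11 zh25) (kh xh21 yh10 zh9) (kh xh21 yh11 zh21) (kh xh21 yh11 zh23) (kh xh21 yh11 zh19) (kh xh21 yh10 zh5) (kh xh21 yh12 zh48) (kh xh22 yh8 zh43) (kh xh21 yh10 zh24) (kh xh21 yh16 zh25) (kh xh21 yh16 zh44) (kh xh21 yh16 zh40) (kh xh21 yh16 zh41) (kh xh21 yh10 zh30) (kh xh21 yh13 zh22) (kh xh21 yh17 zh34) (kh xh21 yh17 zh35) (kh xh21 yh16 zh38) (kh xh21 yh18 zh10) (kh xh21 yh18 zh11) (kh xh21 yh11 zh3) (kh xh22 yh9 zh28) (kh xh21 yh10 zh35) (kh xh21 yh16 zh20) (kh xh22 yh9 zh33) (kh xh21 yh13 zh0)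 (kh xh21 yh14 zh14) (kh xh21 yh10 zh38) (kh xh21 yh13 zh14) (kh xh21 yh14 zh42) (kh xh21 yh13 zh50) (kh xh22 yh9 zh37) (kh xh22 yh9 zh38) (kh xh21 yh10 zh45) (kh xh21 yh17 zh27) (kh xh21 yh17 zh41) (kh xh22 yh8 zh44) (kh xh22 yh9 zh43) (kh xh22 yh7 zh47) (kh xh21 yh11 zh1) (kh xh22 yh9 zh44) (kh xh21 yh11 zh4) (kh xh21 yh11 zh6) (kh xh21 yh16 zh43) (kh xh21 yh17 zh22) (kh xh21 yh17 zh25) (kh xh21 yh17 zh26) (kh xh21 yh11 zh20) (kh xh22 yh9 zh11) (kh xh22 yh7 zh49)) (@D3.rec (fun _ => Pt) (kh xh22 yh9 zh17) (kh xh22 yh9 zh15) (kh xh22 yh9 zh16) (kh xh21 yh17 zh13) (kh xh21 yh15 zh38) (kh xh22 yh10 zh2) (kh xh21 yh11 zh29) (kh xh22 yh10 zh4) (kh xh22 yh10 zh5) (kh xh21 yh11 zh31) (kh xh21 yh11 zh33) (kh xh22 yh6 zh19) (kh xh21 yh16 zh32) (kh xh22 yh5 zh18)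 (kh xh21 yh12 zh46) (kh xh22 yh10 zh10) (kh xh21 yh11 zh43) (kh xh22 yh10 zh12) (kh xh22 yh10 zh13) (kh xh21 yh11 zh45) (kh xh22 yh6 zh5) (kh xh21 yh15 zh20) (kh xh22 yh10 zh18) (kh xh21 yh15 zh21) (kh xh21 yh15 zh0) (kh xh21 yh11 zh49) (kh xh21 yh18 zh9) (kh xh21 yh18 zh6) (kh xh21 yh15 zh39) (kh xh22 yh10 zh23) (kh xh21 yh17 zh38) (kh xh21 yh14 zh2) (kh xh21 yh12 zh8) (kh xh21 yh12 zh45) (kh xh21 yh12 zh21) (kh xh22 yh5 zh39) (kh xh22 yh10 zh29) (kh xh22 yh5 zh40) (kh xh22 yh8 zh20) (kh xh21 yh12 zh18) (kh xh22 yh4 zh12) (kh xh22 yh10 zh33) (kh xh22 yh5 zh3) (kh xh22 yh10 zh36) (kh xh21 yh16 zh13) (kh xh21 yh12 zh22) (kh xh22 yh4 zh10) (kh xh22 yh5 zh7) (kh xh22 yh10 zh38) (kh xh22 yh10 zh39) (kh xh21 yh12 zh30))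
def f_h_22 : D2 → D3 → Pt := @D2.rec (fun _ => D3 → Pt) (@D3.rec (fun _ => Pt) (kh xh21 yh16 zh19) (kh xh22 yh10 zh42) (kh xh21 yh12 zh32) (kh xh21 yh12 zh33) (kh xh22 yh8 zh27) (kh xh21 yh17 zh44) (kh xh21 yh16 zh39) (kh xh22 yh10 zh49) (kh xh22 yh10 zh50) (kh xh21 yh12 zh40) (kh xh22 yh6 zh29) (kh xh22 yh10 zh24) (kh xh22 yh11 zh2) (kh xh22 yh9 zh18) (kh xh22 yh9 zh34) (kh xh21 yh12 zh47) (kh xh21 yh14 zh4) (kh xh22 yh9 zh30) (kh xh21 yh12 zh50) (kh xh21 yh14 zh8) (kh xh22 yh11 zh5) (kh xh21 yh13 zh5) (kh xh21 yh13 zh7) (kh xh21 yh14 zh44) (kh xh21 yh13 zh10) (kh xh21 yh14 zh47) (kh xh21 yh14 zh21) (kh xh21 yh13 zh43) (kh xh22 yh8 zh12) (kh xh21 yh16 zh35) (kh xh22 yh7 zh15) (kh xh22 yh9 zh22) (kh xh21 yh13 zh30) (kh xh22 yh9 zh23) (kh xh22 yh7 zh18)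 (kh xh22 yh7 zh19) (kh xh22 yh11 zh15) (kh xh21 yh13 zh27) (kh xh21 yh13 zh28) (kh xh21 yh13 zh41) (kh xh22 yh8 zh42) (kh xh22 yh11 zh19) (kh xh22 yh11 zh20) (kh xh21 yh13 zh36) (kh xh22 yh4 zh46) (kh xh22 yh7 zh28) (kh xh22 yh7 zh30) (kh xh22 yh11 zh24) (kh xh22 yh11 zh8) (kh xh22 yh11 zh25) (kh xh21 yh13 zh42)) (@D3.rec (fun _ => Pt) (kh xh21 yh13 zh44) (kh xh21 yh16 zh28) (kh xh21 yh13 zh46) (kh xh21 yh16 zh27) (kh xh22 yh9 zh35) (kh xh22 yh10 zh22) (kh xh21 yh14 zh0) (kh xh22 yh11 zh3) (kh xh22 yh11 zh30) (kh xh21 yh14 zh5) (kh xh22 yh11 zh4) (kh xh21 yh17 zh42) (kh xh21 yh17 zh43) (kh xh21 yh14 zh37) (kh xh22 yh9 zh32) (kh xh21 yh14 zh38) (kh xh22 yh6 zh9) (kh xh22 yh11 zh39) (kh xh22 yh5 zh22) (kh xh22 yh8 zh38) (kh xh21 yh14 zh18) (kh xh22 yh11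 zh7) (kh xh21 yh14 zh39) (kh xh22 yh10 zh44) (kh xh21 yh16 zh34) (kh xh22 yh11 zh44) (kh xh22 yh11 zh45) (kh xh21 yh14 zh25) (kh xh21 yh14 zh33) (kh xh22 yh11 zh49) (kh xh21 yh16 zh10) (kh xh21 yh14 zh27) (kh xh21 yh16 zh11) (kh xh21 yh14 zh29) (kh xh21 yh15 zh41) (kh xh22 yh11 zh46) (kh xh21 yh15 zh10) (kh xh22 yh11 zh33) (kh xh21 yh16 zh42) (kh xh22 yh11 zh6) (kh xh21 yh14 zh45) (kh xh22 yh5 zh6) (kh xh22 yh5 zh5) (kh xh22 yh10 zh17) (kh xh21 yh15 zh1) (kh xh21 yh15 zh32) (kh xh22 yh8 zh31) (kh xh22 yh8 zh33) (kh xh21 yh18 zh7) (kh xh21 yh18 zh8) (kh xh21 yh17 zh36)) (@D3.rec (fun _ => Pt) (kh xh21 yh18 zh17) (kh xh22 yh12 zh8) (kh xh22 yh12 zh9) (kh xh21 yh15 zh18) (kh xh22 yh4 zh30) (kh xh22 yh10 zh16) (kh xh21 yh15 zh28) (kh xh21 yh17 zh29) (kh xh21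 yh15 zh29) (kh xh21 yh15 zh30) (kh xh22 yh12 zh13) (kh xh22 yh12 zh3) (kh xh21 yh15 zh34) (kh xh21 yh17 zh32) (kh xh21 yh17 zh33) (kh xh22 yh10 zh20) (kh xh22 yh11 zh50) (kh xh22 yh12 zh1) (kh xh21 yh15 zh46) (kh xh21 yh16 zh9) (kh xh21 yh15 zh47) (kh xh22 yh12 zh17) (kh xh21 yh16 zh0) (kh xh21 yh17 zh17) (kh xh21 yh16 zh26) (kh xh22 yh4 zh44) (kh xh22 yh6 zh44) (kh xh22 yh6 zh45) (kh xh22 yh5 zh31) (kh xh22 yh5 zh32) (kh xh22 yh12 zh16) (kh xh22 yh12 zh18) (kh xh22 yh11 zh48) (kh xh22 yh10 zh32) (kh xh22 yh5 zh4) (kh xh22 yh10 zh35) (kh xh22 yh12 zh29) (kh xh21 yh16 zh16) (kh xh21 yh16 zh17) (kh xh22 yh10 zh40) (kh xh21 yh17 zh39) (kh xh22 yh6 zh3) (kh xh22 yh9 zh19) (kh xh22 yh9 zh20) (kh xh22 yh11 zh27) (kh xh22 yh11 zh26) (kh xh21 yh16 zh31) (kh xh22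 yh11 zh41) (kh xh22 yh11 zh42) (kh xh22 yh5 zh29) (kh xh22 yh5 zh30)) (@D3.rec (fun _ => Pt) (kh xh22 yh10 zh46) (kh xh22 yh10 zh47) (kh xh22 yh9 zh21) (kh xh21 yh17 zh9) (kh xh22 yh7 zh25) (kh xh21 yh17 zh10) (kh xh21 yh17 zh18) (kh xh21 yh17 zh1) (kh xh21 yh17 zh19) (kh xh22 yh4 zh5) (kh xh22 yh6 zh28) (kh xh22 yh4 zh4) (kh xh21 yh18 zh12) (kh xh21 yh17 zh12) (kh xh21 yh18 zh13) (kh xh22 yh12 zh41) (kh xh22 yh8 zh47) (kh xh22 yh8 zh49) (kh xh22 yh12 zh19) (kh xh22 yh12 zh20) (kh xh22 yh12 zh43) (kh xh22 yh9 zh45) (kh xh22 yh9 zh46) (kh xh22 yh8 zh29) (kh xh22 yh8 zh30) (kh xh22 yh9 zh47) (kh xh22 yh12 zh11) (kh xh22 yh12 zh12) (kh xh22 yh6 zh42) (kh xh22 yh6 zh43) (kh xh22 yh12 zh14) (kh xh22 yh9 zh24) (kh xh22 yh9 zh39) (kh xh22 yh9 zh40) (kh xh22 yh11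 zh31) (kh xh22 yh13 zh10) (kh xh22 yh13 zh11) (kh xh21 yh17 zh46) (kh xh22 yh5 zh44) (kh xh21 yh17 zh48) (kh xh21 yh18 zh20) (kh xh21 yh18 zh21) (kh xh22 yh5 zh42) (kh xh22 yh5 zh33) (kh xh22 yh5 zh34) (kh xh22 yh10 zh19) (kh xh22 yh10 zh21) (kh xh22 yh12 zh6) (kh xh22 yh9 zh25) (kh xh22 yh12 zh47) (kh xh22 yh13 zh21)) (@D3.rec (fun _ => Pt) (kh xh21 yh18 zh14) (kh xh22 yh8 zh41) (kh xh22 yh13 zh13) (kh xh21 yh18 zh23) (kh xh22 yh3 zh11) (kh xh22 yh3 zh9) (kh xh21 yh19 zh15) (kh xh22 yh13 zh26) (kh xh21 yh18 zh31) (kh xh21 yh23 zh43) (kh xh21 yh26 zh46) (kh xh21 yh23 zh45) (kh xh21 yh26 zh40) (kh xh21 yh23 zh48) (kh xh21 yh18 zh48) (kh xh21 yh21 zh8) (kh xh21 yh18 zh49) (kh xh21 yh21 zh10) (kh xh21 yh18 zh50) (kh xh21 yh23 zh31) (kh xh22 yh13 zh42) (kh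 xh21 yh23 zh33) (kh xh22 yh13 zh45) (kh xh21 yh18 zh45) (kh xh21 yh23 zh36) (kh xh22 yh13 zh32) (kh xh22 yh13 zh35) (kh xh22 yh13 zh48) (kh xh22 yh13 zh49) (kh xh21 yh19 zh1) (kh xh22 yh2 zh4) (kh xh21 yh19 zh8) (kh xh21 yh21 zh31) (kh xh21 yh19 zh9) (kh xh21 yh19 zh10) (kh xh22 yh14 zh1) (kh xh22 yh14 zh3) (kh xh21 yh24 zh36) (kh xh22 yh14 zh7) (kh xh21 yh24 zh38) (kh xh21 yh19 zh13) (kh xh22 yh14 zh8) (kh xh21 yh19 zh16) (kh xh21 yh20 zh2) (kh xh22 yh2 zh25) (kh xh21 yh20 zh3) (kh xh22 yh0 zh44) (kh xh21 yh21 zh41) (kh xh21 yh19 zh26) (kh xh21 yh21 zh43) (kh xh21 yh21 zh44)) (@D3.rec (fun _ => Pt) (kh xh21 yh21 zh45) (kh xh21 yh19 zh27) (kh xh21 yh20 zh13) (kh xh21 yh26 zh42) (kh xh22 yh2 zh34) (kh xh22 yh1 zh42) (kh xh22 yh1 zh41) (kh xh21 yh26 zh47)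 (kh xh21 yh23 zh17) (kh xh21 yh21 zh11) (kh xh21 yh21 zh3) (kh xh22 yh14 zh24) (kh xh21 yh21 zh5) (kh xh22 yh14 zh25) (kh xh21 yh19 zh46) (kh xh22 yh14 zh28) (kh xh21 yh20 zh8) (kh xh22 yh14 zh30) (kh xh21 yh26 zh13) (kh xh21 yh19 zh49) (kh xh22 yh13 zh37) (kh xh22 yh14 zh10) (kh xh22 yh1 zh18) (kh xh21 yh20 zh11) (kh xh21 yh20 zh7) (kh xh21 yh21 zh17) (kh xh22 yh14 zh18) (kh xh21 yh22 zh19) (kh xh21 yh23 zh10) (kh xh22 yh2 zh49) (kh xh22 yh2 zh50) (kh xh22 yh2 zh28) (kh xh22 yh2 zh29) (kh xh22 yh3 zh43) (kh xh22 yh3 zh44) (kh xh22 yh14 zh40) (kh xh22 yh14 zh41) (kh xh21 yh20 zh26) (kh xh21 yh23 zh41) (kh xh21 yh26 zh35) (kh xh21 yh26 zh37) (kh xh21 yh20 zh42) (kh xh22 yh3 zh42) (kh xh21 yh20 zh43) (kh xh22 yh3 zh38) (kh xh21 yh20 zh44) (kh xh21 yh24 zh48)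 (kh xh21 yh24 zh14) (kh xh21 yh24 zh50) (kh xh21 yh24 zh16) (kh xh21 yh24 zh0)) (@D3.rec (fun _ => Pt) (kh xh22 yh14 zh45) (kh xh22 yh14 zh48) (kh xh21 yh21 zh33) (kh xh22 yh2 zh41) (kh xh21 yh21 zh34) (kh xh21 yh26 zh20) (kh xh22 yh15 zh9) (kh xh22 yh15 zh10) (kh xh21 yh20 zh50) (kh xh22 yh1 zh16) (kh xh22 yh15 zh11) (kh xh22 yh14 zh21) (kh xh21 yh21 zh4) (kh xh22 yh13 zh31) (kh xh21 yh21 zh16) (kh xh22 yh13 zh33) (kh xh22 yh13 zh34) (kh xh22 yh13 zh36) (kh xh22 yh15 zh18) (kh xh21 yh26 zh11) (kh xh22 yh15 zh20) (kh xh22 yh15 zh21) (kh xh21 yh21 zh12) (kh xh21 yh21 zh14) (kh xh22 yh14 zh33) (kh xh22 yh15 zh23) (kh xh21 yh21 zh18) (kh xh21 yh21 zh19) (kh xh22 yh3 zh10) (kh xh22 yh0 zh10) (kh xh22 yh15 zh30) (kh xh21 yh25 zh0) (kh xh22 yh14 zh13) (kh xh21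 yh21 zh24) (kh xh22 yh15 zh32) (kh xh22 yh15 zh33) (kh xh21 yh21 zh27) (kh xh21 yh22 zh9) (kh xh22 yh14 zh0) (kh xh22 yh14 zh2) (kh xh22 yh15 zh5) (kh xh21 yh21 zh35) (kh xh22 yh3 zh28) (kh xh22 yh3 zh29) (kh xh22 yh2 zh26) (kh xh22 yh2 zh27) (kh xh22 yh14 zh14) (kh xh22 yh14 zh15) (kh xh22 yh14 zh16) (kh xh22 yh14 zh17) (kh xh21 yh22 zh18)) (@D3.rec (fun _ => Pt) (kh xh21 yh23 zh8) (kh xh21 yh24 zh44) (kh xh22 yh15 zh46) (kh xh21 yh23 zh20) (kh xh22 yh15 zh48) (kh xh21 yh24 zh27) (kh xh21 yh22 zh2) (kh xh22 yh15 zh50) (kh xh21 yh22 zh6) (kh xh21 yh22 zh7) (kh xh22 yh15 zh34) (kh xh21 yh22 zh29) (kh xh21 yh23 zh39) (kh xh21 yh22 zh30) (kh xh21 yh24 zh32) (kh xh22 yh0 zh30) (kh xh21 yh24 zh33) (kh xh22 yh16 zh4) (kh xh22 yh0 zh34) (kh xh22 yh0 zh35) (kh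 xh21 yh24 zh17) (kh xh21 yh22 zh38) (kh xh21 yh24 zh19) (kh xh21 yh24 zh20) (kh xh21 yh23 zh2) (kh xh22 yh3 zh4) (kh xh21 yh23 zh3) (kh xh21 yh23 zh4) (kh xh22 yh0 zh45) (kh xh22 yh16 zh20) (kh xh22 yh0 zh46) (kh xh22 yh13 zh44) (kh xh21 yh22 zh50) (kh xh21 yh23 zh34) (kh xh22 yh16 zh13) (kh xh22 yh16 zh15) (kh xh22 yh16 zh24) (kh xh22 yh16 zh1) (kh xh21 yh23 zh6) (kh xh22 yh14 zh34) (kh xh21 yh23 zh13) (kh xh22 yh14 zh35) (kh xh21 yh23 zh30) (kh xh21 yh23 zh28) (kh xh21 yh23 zh14) (kh xh21 yh23 zh24) (kh xh21 yh23 zh19) (kh xh21 yh25 zh39) (kh xh22 yh16 zh29) (kh xh21 yh25 zh50) (kh xh22 yh16 zh28)) (@D3.rec (fun _ => Pt) (kh xh22 yh16 zh26) (kh xh22 yh16 zh27) (kh xh22 yh16 zh35) (kh xh22 yh13 zh39) (kh xh22 yh16 zh21) (kh xh21 yh23 zh32) (kh xh22 yh13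 zh43) (kh xh22 yh16 zh3) (kh xh21 yh23 zh49) (kh xh22 yh16 zh5) (kh xh22 yh14 zh42) (kh xh21 yh23 zh50) (kh xh22 yh0 zh28) (kh xh21 yh24 zh47) (kh xh22 yh16 zh45) (kh xh22 yh13 zh28) (kh xh22 yh16 zh48) (kh xh22 yh16 zh50) (kh xh21 yh23 zh44) (kh xh22 yh13 zh30) (kh xh21 yh26 zh38) (kh xh21 yh23 zh46) (kh xh22 yh16 zh39) (kh xh22 yh15 zh2) (kh xh22 yh17 zh2) (kh xh21 yh24 zh1) (kh xh21 yh24 zh2) (kh xh22 yh0 zh4) (kh xh21 yh24 zh28) (kh xh22 yh3 zh23) (kh xh22 yh3 zh24) (kh xh22 yh1 zh46) (kh xh21 yh24 zh12) (kh xh22 yh1 zh47) (kh xh22 yh14 zh49) (kh xh21 yh24 zh49) (kh xh22 yh15 zh0) (kh xh22 yh15 zh1) (kh xh22 yh1 zh19) (kh xh22 yh16 zh10) (kh xh22 yh16 zh11) (kh xh22 yh4 zh1) (kh xh22 yh0 zh40) (kh xh21 yh25 zh8) (kh xh21 yh25 zh37) (kh xh22 yh15 zh45)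 (kh xh22 yh15 zh47) (kh xh22 yh3 zh16) (kh xh21 yh24 zh35) (kh xh22 yh3 zh17) (kh xh22 yh16 zh7)) (@D3.rec (fun _ => Pt) (kh xh22 yh17 zh19) (kh xh22 yh14 zh6) (kh xh22 yh17 zh21) (kh xh22 yh17 zh22) (kh xh21 yh24 zh37) (kh xh21 yh24 zh39) (kh xh22 yh17 zh25) (kh xh22 yh15 zh42) (kh xh21 yh24 zh41) (kh xh22 yh15 zh43) (kh xh21 yh24 zh43) (kh xh21 yh25 zh49) (kh xh22 yh16 zh42) (kh xh22 yh14 zh50) (kh xh22 yh15 zh27) (kh xh21 yh26 zh1) (kh xh21 yh26 zh2) (kh xh21 yh26 zh0) (kh xh22 yh0 zh13) (kh xh22 yh2 zh42) (kh xh22 yh2 zh43) (kh xh22 yh3 zh2) (kh xh22 yh0 zh31) (kh xh22 yh0 zh33) (kh xh22 yh3 zh31) (kh xh22 yh3 zh48) (kh xh22 yh17 zh37) (kh xh22 yh17 zh38) (kh xh21 yh25 zh22) (kh xh22 yh17 zh41) (kh xh22 yh0 zh17) (kh xh22 yh17 zh44) (kh xh22 yh1 zh14)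 (kh xh21 yh25 zh25) (kh xh22 yh0 zh14) (kh xh22 yh1 zh4) (kh xh22 yh17 zh46) (kh xh21 yh25 zh32) (kh xh21 yh25 zh33) (kh xh22 yh3 zh32) (kh xh22 yh3 zh33) (kh xh22 yh17 zh48) (kh xh22 yh16 zh30) (kh xh21 yh25 zh38) (kh xh21 yh25 zh41) (kh xh22 yh3 zh21) (kh xh22 yh3 zh22) (kh xh22 yh3 zh25) (kh xh22 yh17 zh26) (kh xh22 yh17 zh28) (kh xh22 yh17 zh30)) (@D3.rec (fun _ => Pt) (kh xh22 yh18 zh2) (kh xh22 yh18 zh3) (kh xh21 yh26 zh5) (kh xh22 yh18 zh5) (kh xh21 yh26 zh7) (kh xh21 yh26 zh8) (kh xh22 yh14 zh27) (kh xh22 yh14 zh29) (kh xh22 yh18 zh8) (kh xh22 yh18 zh9) (kh xh21 yh26 zh15) (kh xh22 yh18 zh11) (kh xh21 yh26 zh17) (kh xh21 yh26 zh18) (kh xh22 yh15 zh7) (kh xh22 yh18 zh15) (kh xh22 yh2 zh5) (kh xh22 yh1 zh43) (kh xh21 yh26 zh22) (kh xh22 yh3 zh45)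 (kh xh22 yh2 zh15) (kh xh22 yh3 zh46) (kh xh22 yh1 zh5) (kh xh21 yh26 zh29) (kh xh22 yh0 zh11) (kh xh22 yh18 zh20) (kh xh22 yh14 zh43) (kh xh22 yh18 zh23) (kh xh22 yh16 zh49) (kh xh21 yh26 zh36) (kh xh22 yh13 zh29) (kh xh22 yh18 zh26) (kh xh22 yh2 zh33) (kh xh21 yh26 zh41) (kh xh22 yh13 zh27) (kh xh22 yh2 zh35) (kh xh21 yh26 zh43) (kh xh22 yh18 zh28) (kh xh21 yh26 zh48) (kh xh21 yh26 zh49) (kh xh22 yh2 zh39) (kh xh22 yh18 zh31) (kh xh22 yh0 zh1) (kh xh22 yh17 zh3) (kh xh22 yh1 zh23) (kh xh22 yh17 zh4) (kh xh22 yh3 zh0) (kh xh22 yh3 zh1) (kh xh22 yh18 zh37) (kh xh22 yh0 zh7) (kh xh22 yh0 zh8)) (@D3.rec (fun _ => Pt) (kh xh22 yh18 zh17) (kh xh22 yh17 zh42) (kh xh22 yh0 zh12) (kh xh22 yh1 zh7) (kh xh22 yh1 zh10) (kh xh22 yh0 zh20) (kh xh22 yh1 zh39) (kh xh22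 yh1 zh21) (kh xh22 yh0 zh48) (kh xh22 yh16 zh41) (kh xh22 yh16 zh6) (kh xh22 yh16 zh8) (kh xh22 yh17 zh33) (kh xh22 yh16 zh9) (kh xh22 yh18 zh43) (kh xh22 yh0 zh36) (kh xh22 yh17 zh13) (kh xh22 yh17 zh14) (kh xh22 yh18 zh46) (kh xh22 yh0 zh41) (kh xh22 yh0 zh42) (kh xh22 yh14 zh12) (kh xh22 yh16 zh17) (kh xh22 yh18 zh49) (kh xh22 yh0 zh47) (kh xh22 yh0 zh49) (kh xh22 yh2 zh45) (kh xh22 yh2 zh44) (kh xh22 yh18 zh14) (kh xh22 yh18 zh38) (kh xh22 yh1 zh8) (kh xh22 yh3 zh34) (kh xh22 yh17 zh40) (kh xh22 yh1 zh37) (kh xh22 yh17 zh43) (kh xh22 yh19 zh4) (kh xh22 yh14 zh32) (kh xh22 yh19 zh6) (kh xh22 yh17 zh10) (kh xh22 yh1 zh17) (kh xh22 yh18 zh32) (kh xh22 yh2 zh47) (kh xh22 yh2 zh48) (kh xh22 yh19 zh10) (kh xh22 yh1 zh25) (kh xh22 yh1 zh26) (kh xh22 yh1 zh35)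 (kh xh22 yh19 zh14) (kh xh22 yh2 zh32) (kh xh22 yh1 zh29) (kh xh22 yh2 zh16)) (@D3.rec (fun _ => Pt) (kh xh22 yh19 zh11) (kh xh22 yh2 zh17) (kh xh22 yh19 zh12) (kh xh22 yh2 zh11) (kh xh22 yh14 zh19) (kh xh22 yh17 zh6) (kh xh22 yh3 zh47) (kh xh22 yh19 zh20) (kh xh22 yh2 zh1) (kh xh22 yh2 zh2) (kh xh22 yh13 zh50) (kh xh22 yh3 zh26) (kh xh22 yh3 zh27) (kh xh22 yh2 zh10) (kh xh22 yh3 zh30) (kh xh22 yh19 zh15) (kh xh22 yh2 zh30) (kh xh22 yh2 zh21) (kh xh22 yh2 zh31) (kh xh22 yh3 zh18) (kh xh22 yh3 zh19) (kh xh22 yh14 zh9) (kh xh22 yh14 zh11) (kh xh22 yh15 zh37) (kh xh22 yh14 zh37) (kh xh22 yh19 zh26) (kh xh22 yh19 zh13) (kh xh22 yh18 zh25) (kh xh22 yh19 zh33) (kh xh22 yh2 zh36) (kh xh22 yh18 zh29) (kh xh22 yh18 zh30) (kh xh22 yh15 zh4) (kh xh22 yh15 zh6) (kh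 xh22 yh17 zh31) (kh xh22 yh18 zh50) (kh xh22 yh19 zh8) (kh xh22 yh14 zh36) (kh xh22 yh18 zh35) (kh xh22 yh17 zh32) (kh xh22 yh16 zh12) (kh xh22 yh3 zh15) (kh xh22 yh16 zh14) (kh xh22 yh3 zh20) (kh xh22 yh15 zh24) (kh xh22 yh13 zh23) (kh xh22 yh15 zh25) (kh xh22 yh3 zh49) (kh xh22 yh17 zh16) (kh xh22 yh19 zh27) (kh xh22 yh19 zh41)) (@D3.rec (fun _ => Pt) (kh xh22 yh17 zh49) (kh xh22 yh17 zh5) (kh xh22 yh17 zh50) (kh xh22 yh19 zh23) (kh xh22 yh15 zh36) (kh xh22 yh19 zh24) (kh xh22 yh17 zh34) (kh xh22 yh17 zh47) (kh xh22 yh19 zh0) (kh xh22 yh20 zh1) (kh xh22 yh3 zh35) (kh xh22 yh3 zh36) (kh xh22 yh14 zh47) (kh xh22 yh4 zh2) (kh xh22 yh14 zh44) (kh xh22 yh14 zh46) (kh xh22 yh14 zh38) (kh xh22 yh18 zh16) (kh xh22 yh19 zh18) (kh xh22 yh17 zh35) (kh xh22 yh19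 zh43) (kh xh22 yh3 zh50) (kh xh22 yh17 zh12) (kh xh22 yh12 zh45) (kh xh22 yh20 zh9) (kh xh22 yh20 zh10) (kh xh22 yh4 zh7) (kh xh22 yh10 zh34) (kh xh22 yh8 zh15) (kh xh22 yh10 zh30) (kh xh22 yh8 zh19) (kh xh22 yh6 zh13) (kh xh22 yh4 zh25) (kh xh22 yh6 zh15) (kh xh22 yh6 zh16) (kh xh22 yh4 zh26) (kh xh22 yh6 zh17) (kh xh22 yh5 zh20) (kh xh22 yh20 zh21) (kh xh22 yh8 zh3) (kh xh22 yh20 zh24) (kh xh22 yh20 zh26) (kh xh22 yh4 zh20) (kh xh22 yh8 zh6) (kh xh22 yh7 zh31) (kh xh22 yh4 zh22) (kh xh22 yh20 zh15) (kh xh22 yh20 zh28) (kh xh22 yh4 zh27) (kh xh22 yh4 zh28) (kh xh22 yh12 zh10)) (@D3.rec (fun _ => Pt) (kh xh22 yh6 zh38) (kh xh22 yh4 zh35) (kh xh22 yh6 zh39) (kh xh22 yh4 zh36) (kh xh22 yh20 zh32) (kh xh22 yh20 zh33) (kh xh22 yh9 zh1) (kh xh22 yh4 zh38) (kh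 xh22 yh4 zh41) (kh xh22 yh12 zh21) (kh xh22 yh5 zh21) (kh xh22 yh12 zh22) (kh xh22 yh11 zh21) (kh xh22 yh6 zh32) (kh xh22 yh6 zh46) (kh xh22 yh6 zh47) (kh xh22 yh6 zh48) (kh xh22 yh6 zh49) (kh xh22 yh5 zh26) (kh xh22 yh12 zh4) (kh xh22 yh20 zh44) (kh xh22 yh6 zh11) (kh xh22 yh20 zh46) (kh xh22 yh20 zh47) (kh xh22 yh5 zh11) (kh xh22 yh5 zh13) (kh xh22 yh20 zh50) (kh xh22 yh10 zh6) (kh xh22 yh5 zh15) (kh xh22 yh10 zh7) (kh xh22 yh5 zh17) (kh xh22 yh20 zh18) (kh xh22 yh11 zh36) (kh xh22 yh6 zh24) (kh xh22 yh7 zh39) (kh xh22 yh7 zh41) (kh xh22 yh12 zh37) (kh xh22 yh12 zh24) (kh xh22 yh13 zh16) (kh xh22 yh21 zh7) (kh xh22 yh5 zh35) (kh xh22 yh5 zh36) (kh xh22 yh8 zh10) (kh xh22 yh10 zh26) (kh xh22 yh13 zh14) (kh xh22 yh6 zh0) (kh xh22 yh13 zh15) (kh xh22 yh13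 zh12) (kh xh22 yh6 zh1) (kh xh22 yh8 zh34) (kh xh22 yh9 zh13)) (@D3.rec (fun _ => Pt) (kh xh22 yh8 zh36) (kh xh22 yh8 zh37) (kh xh22 yh8 zh23) (kh xh22 yh21 zh12) (kh xh22 yh12 zh32) (kh xh22 yh6 zh40) (kh xh22 yh12 zh33) (kh xh22 yh10 zh14) (kh xh22 yh21 zh22) (kh xh22 yh6 zh6) (kh xh22 yh6 zh7) (kh xh22 yh6 zh10) (kh xh22 yh20 zh13) (kh xh22 yh20 zh14) (kh xh22 yh20 zh16) (kh xh22 yh20 zh17) (kh xh22 yh21 zh29) (kh xh22 yh21 zh30) (kh xh22 yh6 zh18) (kh xh22 yh21 zh31) (kh xh22 yh6 zh20) (kh xh22 yh6 zh21) (kh xh22 yh21 zh32) (kh xh22 yh6 zh25) (kh xh22 yh12 zh44) (kh xh22 yh12 zh46) (kh xh22 yh21 zh36) (kh xh22 yh9 zh14) (kh xh22 yh21 zh38) (kh xh22 yh20 zh37) (kh xh22 yh6 zh30) (kh xh22 yh21 zh40) (kh xh22 yh6 zh34) (kh xh22 yh6 zh35) (kh xh22 yh7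 zh10) (kh xh22 yh20 zh31) (kh xh22 yh13 zh4) (kh xh22 yh12 zh23) (kh xh22 yh20 zh38) (kh xh22 yh20 zh39) (kh xh22 yh20 zh40) (kh xh22 yh20 zh41) (kh xh22 yh9 zh7) (kh xh22 yh9 zh9) (kh xh22 yh22 zh0) (kh xh22 yh8 zh45) (kh xh22 yh7 zh2) (kh xh22 yh8 zh46) (kh xh22 yh7 zh4) (kh xh22 yh22 zh1) (kh xh22 yh7 zh7)) (@D3.rec (fun _ => Pt) (kh xh22 yh21 zh41) (kh xh22 yh7 zh37) (kh xh22 yh21 zh42) (kh xh22 yh8 zh7) (kh xh22 yh7 zh17) (kh xh22 yh8 zh9) (kh xh22 yh11 zh10) (kh xh22 yh8 zh50) (kh xh22 yh11 zh11) (kh xh22 yh11 zh13) (kh xh22 yh8 zh39) (kh xh22 yh8 zh40) (kh xh22 yh12 zh40) (kh xh22 yh7 zh34) (kh xh22 yh12 zh42) (kh xh22 yh7 zh35) (kh xh22 yh22 zh13) (kh xh22 yh11 zh22) (kh xh22 yh22 zh4) (kh xh22 yh20 zh25) (kh xh22 yh7 zh29) (kh xh22 yh8 zh4) (kh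 xh22 yh22 zh10) (kh xh22 yh22 zh2) (kh xh22 yh7 zh36) (kh xh22 yh21 zh2) (kh xh22 yh8 zh0) (kh xh22 yh8 zh1) (kh xh22 yh7 zh50) (kh xh22 yh7 zh48) (kh xh22 yh9 zh42) (kh xh22 yh22 zh19) (kh xh22 yh22 zh20) (kh xh22 yh22 zh18) (kh xh22 yh22 zh14) (kh xh22 yh8 zh2) (kh xh22 yh20 zh22) (kh xh22 yh22 zh5) (kh xh22 yh21 zh8) (kh xh22 yh8 zh22) (kh xh22 yh21 zh9) (kh xh22 yh11 zh9) (kh xh22 yh9 zh12) (kh xh22 yh22 zh31) (kh xh22 yh22 zh33) (kh xh22 yh8 zh14) (kh xh22 yh20 zh12) (kh xh22 yh22 zh35) (kh xh22 yh8 zh16) (kh xh22 yh10 zh28) (kh xh22 yh8 zh17)) (@D3.rec (fun _ => Pt) (kh xh22 yh21 zh16) (kh xh22 yh22 zh36) (kh xh22 yh8 zh24) (kh xh22 yh10 zh43) (kh xh22 yh10 zh45) (kh xh22 yh13 zh1) (kh xh22 yh12 zh5) (kh xh22 yh21 zh14) (kh xh22 yh21 zh15) (kh xh22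 yh21 zh17) (kh xh22 yh11 zh38) (kh xh22 yh22 zh8) (kh xh22 yh13 zh22) (kh xh22 yh11 zh16) (kh xh22 yh11 zh17) (kh xh22 yh21 zh50) (kh xh22 yh12 zh48) (kh xh22 yh22 zh50) (kh xh22 yh23 zh0) (kh xh22 yh9 zh0) (kh xh22 yh23 zh1) (kh xh22 yh9 zh2) (kh xh22 yh9 zh3) (kh xh22 yh23 zh3) (kh xh22 yh21 zh48) (kh xh22 yh9 zh6) (kh xh22 yh9 zh48) (kh xh22 yh22 zh26) (kh xh22 yh9 zh49) (kh xh22 yh22 zh28) (kh xh22 yh9 zh50) (kh xh22 yh12 zh34) (kh xh22 yh12 zh39) (kh xh22 yh11 zh12) (kh xh22 yh13 zh6) (kh xh22 yh13 zh19) (kh xh22 yh23 zh9) (kh xh22 yh9 zh26) (kh xh22 yh9 zh27) (kh xh22 yh23 zh12) (kh xh22 yh11 zh32) (kh xh22 yh9 zh29) (kh xh22 yh11 zh1) (kh xh22 yh11 zh34) (kh xh22 yh9 zh31) (kh xh22 yh23 zh13) (kh xh22 yh9 zh36) (kh xh22 yh13 zh7) (kh xh22 yh9 zh41)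 (kh xh22 yh13 zh0) (kh xh22 yh13 zh2)) (@D3.rec (fun _ => Pt) (kh xh22 yh23 zh4) (kh xh22 yh23 zh18) (kh xh22 yh10 zh0) (kh xh22 yh10 zh1) (kh xh22 yh23 zh19) (kh xh22 yh10 zh3) (kh xh22 yh20 zh49) (kh xh22 yh23 zh22) (kh xh22 yh10 zh8) (kh xh22 yh10 zh9) (kh xh22 yh23 zh23) (kh xh22 yh10 zh11) (kh xh22 yh21 zh19) (kh xh22 yh21 zh20) (kh xh22 yh11 zh28) (kh xh22 yh10 zh15) (kh xh22 yh13 zh17) (kh xh22 yh11 zh0) (kh xh22 yh23 zh28) (kh xh22 yh22 zh32) (kh xh22 yh10 zh25) (kh xh22 yh20 zh11) (kh xh22 yh22 zh34) (kh xh22 yh10 zh27) (kh xh22 yh23 zh30) (kh xh22 yh12 zh27) (kh xh22 yh10 zh31) (kh xh22 yh23 zh31) (kh xh22 yh10 zh37) (kh xh22 yh12 zh30) (kh xh22 yh12 zh31) (kh xh22 yh10 zh41) (kh xh22 yh11 zh40) (kh xh22 yh22 zh37) (kh xh22 yh22 zh27) (kh xh22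 yh12 zh38) (kh xh22 yh23 zh37) (kh xh22 yh10 zh48) (kh xh22 yh11 zh29) (kh xh22 yh22 zh25) (kh xh22 yh22 zh6) (kh xh22 yh23 zh7) (kh xh22 yh22 zh7) (kh xh22 yh11 zh14) (kh xh22 yh22 zh45) (kh xh22 yh23 zh40) (kh xh22 yh11 zh18) (kh xh22 yh20 zh35) (kh xh22 yh20 zh36) (kh xh22 yh11 zh23) (kh xh22 yh12 zh35)) (@D3.rec (fun _ => Pt) (kh xh22 yh13 zh8) (kh xh22 yh23 zh11) (kh xh22 yh23 zh45) (kh xh22 yh22 zh42) (kh xh22 yh11 zh35) (kh xh22 yh22 zh43) (kh xh22 yh11 zh37) (kh xh22 yh23 zh33) (kh xh22 yh12 zh36) (kh xh22 yh23 zh47) (kh xh22 yh11 zh43) (kh xh22 yh12 zh0) (kh xh22 yh12 zh2) (kh xh22 yh12 zh26) (kh xh22 yh11 zh47) (kh xh22 yh12 zh15) (kh xh22 yh23 zh48) (kh xh22 yh22 zh39) (kh xh22 yh13 zh18) (kh xh22 yh24 zh0) (kh xh22 yh12 zh7) (kh xh22 yh20 zh29)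 (kh xh22 yh20 zh30) (kh xh22 yh13 zh3) (kh xh22 yh13 zh5) (kh xh22 yh23 zh49) (kh xh22 yh12 zh25) (kh xh22 yh12 zh49) (kh xh22 yh20 zh34) (kh xh22 yh21 zh45) (kh xh22 yh21 zh4) (kh xh22 yh24 zh3) (kh xh22 yh23 zh29) (kh xh22 yh12 zh28) (kh xh22 yh23 zh32) (kh xh22 yh21 zh18) (kh xh22 yh23 zh6) (kh xh22 yh23 zh46) (kh xh22 yh21 zh3) (kh xh22 yh23 zh36) (kh xh22 yh22 zh9) (kh xh22 yh12 zh50) (kh xh22 yh21 zh33) (kh xh22 yh13 zh20) (kh xh22 yh22 zh47) (kh xh22 yh24 zh4) (kh xh22 yh23 zh15) (kh xh22 yh22 zh38) (kh xh22 yh24 zh2) (kh xh22 yh21 zh44) (kh xh22 yh23 zh14)) (@D3.rec (fun _ => Pt) (kh xh22 yh24 zh10) (kh xh22 yh13 zh9) (kh xh22 yh21 zh11) (kh xh22 yh21 zh13) (kh xh22 yh21 zh10) (kh xh22 yh21 zh5) (kh xh22 yh23 zh25) (kh xh22 yh22 zh44) (kh xh22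 yh24 zh14) (kh xh22 yh13 zh24) (kh xh22 yh13 zh25) (kh xh22 yh18 zh21) (kh xh22 yh16 zh46) (kh xh22 yh15 zh12) (kh xh22 yh15 zh13) (kh xh22 yh13 zh46) (kh xh22 yh15 zh14) (kh xh22 yh15 zh15) (kh xh22 yh14 zh31) (kh xh22 yh24 zh23) (kh xh22 yh24 zh25) (kh xh22 yh13 zh38) (kh xh22 yh16 zh36) (kh xh22 yh24 zh27) (kh xh22 yh13 zh40) (kh xh22 yh16 zh19) (kh xh22 yh13 zh41) (kh xh22 yh24 zh28) (kh xh22 yh13 zh47) (kh xh22 yh19 zh21) (kh xh22 yh19 zh22) (kh xh22 yh15 zh35) (kh xh22 yh14 zh4) (kh xh22 yh14 zh5) (kh xh22 yh19 zh28) (kh xh22 yh18 zh47) (kh xh22 yh18 zh48) (kh xh22 yh15 zh29) (kh xh22 yh15 zh38) (kh xh22 yh15 zh39) (kh xh22 yh15 zh40) (kh xh22 yh15 zh41) (kh xh22 yh24 zh39) (kh xh22 yh24 zh40) (kh xh22 yh14 zh20) (kh xh22 yh24 zh41) (kh xh22 yh14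 zh22) (kh xh22 yh14 zh23) (kh xh22 yh24 zh43) (kh xh22 yh18 zh6) (kh xh22 yh14 zh26)) (@D3.rec (fun _ => Pt) (kh xh22 yh24 zh18) (kh xh22 yh24 zh20) (kh xh22 yh16 zh25) (kh xh22 yh19 zh38) (kh xh22 yh19 zh30) (kh xh22 yh20 zh5) (kh xh22 yh24 zh46) (kh xh22 yh14 zh39) (kh xh22 yh16 zh38) (kh xh22 yh16 zh40) (kh xh22 yh20 zh4) (kh xh22 yh20 zh2) (kh xh22 yh15 zh3) (kh xh22 yh20 zh3) (kh xh22 yh17 zh7) (kh xh22 yh17 zh8) (kh xh22 yh17 zh0) (kh xh22 yh17 zh9) (kh xh22 yh19 zh35) (kh xh22 yh18 zh12) (kh xh22 yh18 zh13) (kh xh22 yh25 zh3) (kh xh22 yh15 zh8) (kh xh22 yh24 zh15) (kh xh22 yh24 zh16) (kh xh22 yh24 zh17) (kh xh22 yh24 zh19) (kh xh22 yh25 zh7) (kh xh22 yh25 zh8) (kh xh22 yh15 zh16) (kh xh22 yh15 zh17) (kh xh22 yh15 zh19) (kh xh22 yh15 zh22) (kh xh22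 yh19 zh42) (kh xh22 yh25 zh12) (kh xh22 yh24 zh33) (kh xh22 yh15 zh26) (kh xh22 yh24 zh34) (kh xh22 yh15 zh28) (kh xh22 yh25 zh13) (kh xh22 yh15 zh31) (kh xh22 yh16 zh0) (kh xh22 yh16 zh2) (kh xh22 yh24 zh30) (kh xh22 yh19 zh49) (kh xh22 yh19 zh29) (kh xh22 yh24 zh35) (kh xh22 yh24 zh36) (kh xh22 yh17 zh24) (kh xh22 yh25 zh18) (kh xh22 yh17 zh15)) (@D3.rec (fun _ => Pt) (kh xh22 yh15 zh44) (kh xh22 yh15 zh49) (kh xh22 yh16 zh23) (kh xh22 yh25 zh14) (kh xh22 yh16 zh18) (kh xh22 yh16 zh37) (kh xh22 yh18 zh40) (kh xh22 yh18 zh42) (kh xh22 yh17 zh11) (kh xh22 yh19 zh40) (kh xh22 yh16 zh22) (kh xh22 yh25 zh21) (kh xh22 yh24 zh24) (kh xh22 yh16 zh16) (kh xh22 yh16 zh34) (kh xh22 yh24 zh26) (kh xh22 yh25 zh19) (kh xh22 yh24 zh45) (kh xh22 yh16 zh33) (kh xh22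 yh16 zh31) (kh xh22 yh16 zh32) (kh xh22 yh25 zh28) (kh xh22 yh25 zh27) (kh xh22 yh25 zh22) (kh xh22 yh24 zh47) (kh xh22 yh18 zh39) (kh xh22 yh17 zh27) (kh xh22 yh18 zh34) (kh xh22 yh17 zh29) (kh xh22 yh25 zh34) (kh xh22 yh25 zh36) (kh xh22 yh16 zh43) (kh xh22 yh18 zh19) (kh xh22 yh16 zh44) (kh xh22 yh18 zh22) (kh xh22 yh16 zh47) (kh xh22 yh17 zh1) (kh xh22 yh18 zh33) (kh xh22 yh19 zh47) (kh xh22 yh19 zh17) (kh xh22 yh24 zh50) (kh xh22 yh25 zh0) (kh xh22 yh19 zh3) (kh xh22 yh19 zh5) (kh xh22 yh20 zh7) (kh xh22 yh18 zh44) (kh xh22 yh25 zh17) (kh xh22 yh19 zh44) (kh xh22 yh25 zh42) (kh xh22 yh25 zh43) (kh xh22 yh17 zh17)) (@D3.rec (fun _ => Pt) (kh xh22 yh17 zh18) (kh xh22 yh17 zh20) (kh xh22 yh25 zh16) (kh xh22 yh17 zh23) (kh xh22 yh18 zh0) (kh xh22 yh25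 zh32) (kh xh22 yh19 zh36) (kh xh22 yh18 zh41) (kh xh22 yh25 zh46) (kh xh22 yh17 zh36) (kh xh22 yh25 zh48) (kh xh22 yh19 zh1) (kh xh22 yh17 zh39) (kh xh22 yh17 zh45) (kh xh22 yh19 zh50) (kh xh22 yh19 zh46) (kh xh22 yh25 zh44) (kh xh22 yh25 zh49) (kh xh22 yh18 zh1) (kh xh22 yh18 zh4) (kh xh22 yh24 zh42) (kh xh22 yh25 zh50) (kh xh22 yh18 zh7) (kh xh22 yh18 zh10) (kh xh22 yh25 zh2) (kh xh22 yh20 zh6) (kh xh22 yh26 zh2) (kh xh22 yh25 zh35) (kh xh22 yh18 zh18) (kh xh22 yh19 zh32) (kh xh22 yh18 zh24) (kh xh22 yh18 zh27) (kh xh22 yh19 zh34) (kh xh22 yh19 zh7) (kh xh22 yh25 zh37) (kh xh22 yh25 zh31) (kh xh22 yh19 zh39) (kh xh22 yh18 zh36) (kh xh22 yh25 zh23) (kh xh22 yh25 zh40) (kh xh22 yh18 zh45) (kh xh22 yh24 zh32) (kh xh22 yh25 zh47) (kh xh22 yh26 zh7) (kh xh22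 yh25 zh39) (kh xh22 yh19 zh2) (kh xh22 yh19 zh37) (kh xh22 yh19 zh9) (kh xh22 yh19 zh16) (kh xh22 yh19 zh25) (kh xh22 yh26 zh8)) (@D3.rec (fun _ => Pt) (kh xh22 yh19 zh19) (kh xh22 yh24 zh29) (kh xh22 yh19 zh48) (kh xh22 yh19 zh31) (kh xh22 yh19 zh45) (kh xh22 yh24 zh31) (kh xh22 yh26 zh3) (kh xh22 yh25 zh1) (kh xh22 yh25 zh24) (kh xh22 yh25 zh9) (kh xh22 yh20 zh0) (kh xh22 yh24 zh49) (kh xh22 yh24 zh48) (kh xh22 yh26 zh11) (kh xh22 yh20 zh8) (kh xh22 yh21 zh23) (kh xh22 yh21 zh24) (kh xh22 yh21 zh25) (kh xh22 yh21 zh0) (kh xh22 yh21 zh26) (kh xh22 yh21 zh1) (kh xh22 yh26 zh16) (kh xh22 yh26 zh18) (kh xh22 yh20 zh19) (kh xh22 yh22 zh12) (kh xh22 yh20 zh20) (kh xh22 yh22 zh15) (kh xh22 yh20 zh23) (kh xh22 yh20 zh27) (kh xh22 yh24 zh1) (kh xh22 yh21 zh43)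 (kh xh22 yh24 zh5) (kh xh22 yh23 zh41) (kh xh22 yh21 zh35) (kh xh22 yh21 zh37) (kh xh22 yh21 zh46) (kh xh22 yh21 zh47) (kh xh22 yh26 zh24) (kh xh22 yh26 zh25) (kh xh22 yh20 zh42) (kh xh22 yh20 zh43) (kh xh22 yh20 zh45) (kh xh22 yh23 zh20) (kh xh22 yh20 zh48) (kh xh22 yh26 zh14) (kh xh22 yh22 zh17) (kh xh22 yh21 zh6) (kh xh22 yh22 zh24) (kh xh22 yh24 zh12) (kh xh22 yh24 zh11) (kh xh22 yh22 zh40)) (@D3.rec (fun _ => Pt) (kh xh22 yh22 zh41) (kh xh22 yh24 zh7) (kh xh22 yh23 zh24) (kh xh22 yh21 zh21) (kh xh22 yh26 zh12) (kh xh22 yh26 zh13) (kh xh22 yh26 zh32) (kh xh22 yh21 zh27) (kh xh22 yh21 zh28) (kh xh22 yh24 zh9) (kh xh22 yh26 zh34) (kh xh22 yh26 zh21) (kh xh22 yh21 zh34) (kh xh22 yh21 zh39) (kh xh22 yh22 zh3) (kh xh22 yh26 zh22) (kh xh22 yh23 zh2) (kh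 xh22 yh22 zh46) (kh xh22 yh21 zh49) (kh xh22 yh22 zh16) (kh xh22 yh26 zh35) (kh xh22 yh22 zh11) (kh xh22 yh22 zh23) (kh xh22 yh23 zh38) (kh xh22 yh24 zh8) (kh xh22 yh26 zh36) (kh xh22 yh26 zh17) (kh xh22 yh22 zh22) (kh xh22 yh22 zh21) (kh xh22 yh26 zh38) (kh xh22 yh26 zh27) (kh xh22 yh23 zh35) (kh xh22 yh23 zh5) (kh xh22 yh26 zh42) (kh xh22 yh22 zh29) (kh xh22 yh23 zh27) (kh xh22 yh22 zh30) (kh xh22 yh23 zh34) (kh xh22 yh26 zh29) (kh xh22 yh23 zh44) (kh xh22 yh23 zh39) (kh xh22 yh26 zh44) (kh xh22 yh22 zh48) (kh xh22 yh22 zh49) (kh xh22 yh23 zh16) (kh xh22 yh26 zh40) (kh xh22 yh23 zh8) (kh xh22 yh23 zh42) (kh xh22 yh23 zh10) (kh xh22 yh23 zh17) (kh xh22 yh23 zh21)) (@D3.rec (fun _ => Pt) (kh xh22 yh26 zh30) (kh xh22 yh26 zh41) (kh xh22 yh23 zh26) (kh xh22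 yh24 zh6) (kh xh22 yh26 zh39) (kh xh22 yh26 zh20) (kh xh22 yh26 zh43) (kh xh22 yh23 zh43) (kh xh22 yh23 zh50) (kh xh22 yh26 zh19) (kh xh22 yh26 zh28) (kh xh22 yh24 zh13) (kh xh22 yh25 zh4) (kh xh22 yh25 zh5) (kh xh22 yh24 zh44) (kh xh22 yh26 zh48) (kh xh22 yh24 zh21) (kh xh22 yh25 zh26) (kh xh22 yh24 zh22) (kh xh22 yh26 zh9) (kh xh22 yh26 zh5) (kh xh22 yh25 zh11) (kh xh22 yh25 zh15) (kh xh22 yh26 zh50) (kh xh22 yh24 zh37) (kh xh22 yh24 zh38) (kh xh22 yh26 zh46) (kh xh22 yh25 zh30) (kh xh22 yh26 zh10) (kh xh22 yh25 zh38) (kh xh22 yh26 zh0) (kh xh22 yh26 zh45) (kh xh22 yh25 zh6) (kh xh22 yh26 zh49) (kh xh22 yh25 zh10) (kh xh22 yh25 zh20) (kh xh22 yh25 zh25) (kh xh22 yh26 zh47) (kh xh22 yh25 zh29) (kh xh22 yh26 zh4) (kh xh22 yh25 zh45) (kh xh22 yh26 zh1)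 (kh xh22 yh25 zh33) (kh xh22 yh26 zh6) (kh xh22 yh25 zh41) (kh xh22 yh26 zh31) (kh xh22 yh26 zh26) (kh xh22 yh26 zh37) (kh xh22 yh26 zh15) (kh xh22 yh26 zh33) (kh xh22 yh26 zh23))
def f_h : Pt → Pt := @Pt.rec (fun _ => Pt) (@D1.rec (fun _ => D2 → D3 → Pt) f_h_0 f_h_1 f_h_2 f_h_3 f_h_4 f_h_5 f_h_6 f_h_7 f_h_8 f_h_9 f_h_10 f_h_11 f_h_12 f_h_13 f_h_14 f_h_15 f_h_16 f_h_17 f_h_18 f_h_19 f_h_20 f_h_21 f_h_22)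
def fi_h : Pt → Pt := f_h

theorem inv_chk_h : chkInv allPts beqPt f_h fi_h = true := by decide +kernel

end

end Cfsg.Agent.Helper28.S1689
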