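import Cfsg.Agent.Lib.Helper28.S1689.Defs

set_option autoImplicit false
set_option maxRecDepth 100000
set_option linter.all false

namespace Cfsg.Agent.Helper28.S1689

open Cfsg.Agent.Helper28
open Cfsg.Spor.Fi23 (Gen)

noncomputable section

abbrev kj := Pt.mk
abbrev xj0 := D1.c0
abbrev xj1 := D1.c1
abbrev xj2 := D1.c2
abbrev xj3 := D1.c3
abbrev xj4 := D1.c4
abbrev xj5 := D1.c5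
abbrev xj6 := D1.c6
abbrev xj7 := D1.c7
abbrev xj8 := D1.c8
abbrev xj9 := D1.c9
abbrev xj10 := D1.c10
abbrev xj11 := D1.c11
abbrev xj12 := D1.c12
abbrev xj13 := D1.c13
abbrev xj14 := D1.c14
abbrev xj15 := D1.c15
abbrev xj16 := D1.c16
abbrev xj17 := D1.c17
abbrev xj18 := D1.c18
abbrev xj19 := D1.c19
abbrev xj20 := D1.c20
abbrev xj21 := D1.c21
abbrev xj22 := D1.c22
abbrev yj0 := D2.c0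
abbrev yj1 := D2.c1
abbrev yj2 := D2.c2
abbrev yj3 := D2.c3
abbrev yj4 := D2.c4
abbrev yj5 := D2.c5
abbrev yj6 := D2.c6
abbrev yj7 := D2.c7
abbrev yj8 := D2.c8
abbrev yj9 := D2.c9
abbrev yj10 := D2.c10
abbrev yj11 := D2.c11
abbrev yj12 := D2.c12
abbrev yj13 := D2.c13
abbrev yj14 := D2.c14
abbrev yj15 := D2.c15
abbrev yj16 := D2.c16
abbrev yj17 := D2.c17
abbrev yj18 := D2.c18
abbrev yj19 := D2.c19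
abbrev yj20 := D2.c20
abbrev yj21 := D2.c21
abbrev yj22 := D2.c22
abbrev yj23 := D2.c23
abbrev yj24 := D2.c24
abbrev yj25 := D2.c25
abbrev yj26 := D2.c26
abbrev zj0 := D3.c0
abbrev zj1 := D3.c1
abbrev zj2 := D3.c2
abbrev zj3 := D3.c3
abbrev zj4 := D3.c4
abbrev zj5 := D3.c5
abbrev zj6 := D3.c6
abbrev zj7 := D3.c7
abbrev zj8 := D3.c8
abbrev zj9 := D3.c9
abbrev zj10 := D3.c10
abbrev zj11 := D3.c11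
abbrev zj12 := D3.c12
abbrev zj13 := D3.c13
abbrev zj14 := D3.c14
abbrev zj15 := D3.c15
abbrev zj16 := D3.c16
abbrev zj17 := D3.c17
abbrev zj18 := D3.c18
abbrev zj19 := D3.c19
abbrev zj20 := D3.c20
abbrev zj21 := D3.c21
abbrev zj22 := D3.c22
abbrev zj23 := D3.c23
abbrev zj24 := D3.c24
abbrev zj25 := D3.c25
abbrev zj26 := D3.c26
abbrev zj27 := D3.c27
abbrev zj28 := D3.c28
abbrev zj29 := D3.c29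
abbrev zj30 := D3.c30
abbrev zj31 := D3.c31
abbrev zj32 := D3.c32
abbrev zj33 := D3.c33
abbrev zj34 := D3.c34
abbrev zj35 := D3.c35
abbrev zj36 := D3.c36
abbrev zj37 := D3.c37
abbrev zj38 := D3.c38
abbrev zj39 := D3.c39
abbrev zj40 := D3.c40
abbrev zj41 := D3.c41
abbrev zj42 := D3.c42
abbrev zj43 := D3.c43
abbrev zj44 := D3.c44
abbrev zj45 := D3.c45
abbrev zj46 := D3.c46
abbrev zj47 := D3.c47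
abbrev zj48 := D3.c48
abbrev zj49 := D3.c49
abbrev zj50 := D3.c50
def f_j_0 : D2 → D3 → Pt := @D2.rec (fun _ => D3 → Pt) (@D3.rec (fun _ => Pt) (kj xj0 yj0 zj1) (kj xj0 yj0 zj0) (kj xj0 yj0 zj2) (kj xj0 yj0 zj3) (kj xj0 yj0 zj4) (kj xj0 yj0 zj5) (kj xj0 yj0 zj6) (kj xj0 yj0 zj7) (kj xj0 yj0 zj8) (kj xj0 yj0 zj9) (kj xj0 yj0 zj10) (kj xj0 yj0 zj11) (kj xj0 yj0 zj12) (kj xj0 yj0 zj13) (kj xj0 yj0 zj14) (kj xj0 yj0 zj15) (kj xj0 yj0 zj16) (kj xj0 yj0 zj17) (kj xj0 yj0 zj18) (kj xj0 yj0 zj19) (kj xj0 yj0 zj20) (kj xj0 yj0 zj21) (kj xj0 yj0 zj22) (kj xj0 yj0 zj23) (kj xj0 yj0 zj24) (kj xj0 yj0 zj25) (kj xj0 yj0 zj26) (kj xj0 yj0 zj27) (kj xj0 yj0 zj28) (kj xj0 yj0 zj29) (kj xj0 yj0 zj30) (kj xj0 yj0 zj31) (kj xj0 yj0 zj32) (kj xj0 yj0 zj33) (kj xj0 yj0 zj34)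 (kj xj0 yj0 zj35) (kj xj0 yj1 zj1) (kj xj0 yj0 zj37) (kj xj0 yj0 zj38) (kj xj0 yj0 zj39) (kj xj0 yj0 zj40) (kj xj0 yj0 zj41) (kj xj0 yj0 zj42) (kj xj0 yj0 zj43) (kj xj0 yj0 zj44) (kj xj0 yj0 zj45) (kj xj0 yj0 zj46) (kj xj0 yj0 zj47) (kj xj0 yj0 zj48) (kj xj0 yj1 zj21) (kj xj0 yj0 zj50)) (@D3.rec (fun _ => Pt) (kj xj0 yj1 zj0) (kj xj0 yj0 zj36) (kj xj0 yj1 zj25) (kj xj0 yj1 zj3) (kj xj0 yj1 zj4) (kj xj0 yj1 zj5) (kj xj0 yj1 zj6) (kj xj0 yj1 zj7) (kj xj0 yj1 zj8) (kj xj0 yj1 zj9) (kj xj0 yj1 zj10) (kj xj0 yj1 zj40) (kj xj0 yj1 zj12) (kj xj0 yj1 zj13) (kj xj0 yj1 zj14) (kj xj0 yj1 zj15) (kj xj0 yj1 zj16) (kj xj0 yj1 zj50) (kj xj0 yj1 zj18) (kj xj0 yj1 zj19) (kj xj0 yj1 zj20) (kj xj0 yj0 zj49) (kj xj0 yj2 zj4) (kj xj0 yj1 zj23) (kj xj0 yj1 zj24) (kj xj0 yj1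 zj2) (kj xj0 yj2 zj8) (kj xj0 yj1 zj27) (kj xj0 yj1 zj28) (kj xj0 yj1 zj29) (kj xj0 yj1 zj30) (kj xj0 yj1 zj31) (kj xj0 yj1 zj32) (kj xj0 yj1 zj33) (kj xj0 yj1 zj34) (kj xj0 yj1 zj35) (kj xj0 yj2 zj27) (kj xj0 yj1 zj37) (kj xj0 yj1 zj38) (kj xj0 yj1 zj39) (kj xj0 yj1 zj11) (kj xj0 yj2 zj32) (kj xj0 yj1 zj42) (kj xj0 yj1 zj43) (kj xj0 yj1 zj44) (kj xj0 yj2 zj39) (kj xj0 yj1 zj46) (kj xj0 yj1 zj47) (kj xj0 yj1 zj48) (kj xj0 yj1 zj49) (kj xj0 yj1 zj17)) (@D3.rec (fun _ => Pt) (kj xj0 yj2 zj46) (kj xj0 yj2 zj1) (kj xj0 yj2 zj2) (kj xj0 yj2 zj3) (kj xj0 yj1 zj22) (kj xj0 yj3 zj1) (kj xj0 yj2 zj6) (kj xj0 yj2 zj7) (kj xj0 yj1 zj26) (kj xj0 yj3 zj6) (kj xj0 yj2 zj10) (kj xj0 yj2 zj11) (kj xj0 yj2 zj12) (kj xj0 yj2 zj13) (kj xj0 yj2 zj14) (kj xj0 yj2 zj15) (kj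 xj0 yj2 zj16) (kj xj0 yj3 zj21) (kj xj0 yj2 zj18) (kj xj0 yj2 zj19) (kj xj0 yj2 zj20) (kj xj0 yj2 zj21) (kj xj0 yj3 zj30) (kj xj0 yj2 zj23) (kj xj0 yj2 zj24) (kj xj0 yj2 zj25) (kj xj0 yj2 zj26) (kj xj0 yj1 zj36) (kj xj0 yj3 zj37) (kj xj0 yj2 zj29) (kj xj0 yj2 zj30) (kj xj0 yj2 zj31) (kj xj0 yj1 zj41) (kj xj0 yj3 zj43) (kj xj0 yj2 zj34) (kj xj0 yj2 zj35) (kj xj0 yj3 zj49) (kj xj0 yj2 zj37) (kj xj0 yj2 zj38) (kj xj0 yj1 zj45) (kj xj0 yj4 zj4) (kj xj0 yj4 zj5) (kj xj0 yj2 zj42) (kj xj0 yj2 zj43) (kj xj0 yj2 zj44) (kj xj0 yj2 zj45) (kj xj0 yj2 zj0) (kj xj0 yj4 zj13) (kj xj0 yj2 zj48) (kj xj0 yj2 zj49) (kj xj0 yj2 zj50)) (@D3.rec (fun _ => Pt) (kj xj0 yj3 zj0) (kj xj0 yj2 zj5) (kj xj0 yj4 zj21) (kj xj0 yj3 zj3) (kj xj0 yj3 zj4) (kj xj0 yj3 zj5) (kj xj0 yj2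 zj9) (kj xj0 yj4 zj27) (kj xj0 yj4 zj28) (kj xj0 yj3 zj9) (kj xj0 yj3 zj10) (kj xj0 yj3 zj11) (kj xj0 yj3 zj12) (kj xj0 yj3 zj13) (kj xj0 yj3 zj14) (kj xj0 yj3 zj15) (kj xj0 yj4 zj45) (kj xj0 yj3 zj17) (kj xj0 yj3 zj18) (kj xj0 yj3 zj19) (kj xj0 yj3 zj20) (kj xj0 yj2 zj17) (kj xj0 yj5 zj1) (kj xj0 yj3 zj23) (kj xj0 yj3 zj24) (kj xj0 yj3 zj25) (kj xj0 yj3 zj26) (kj xj0 yj5 zj9) (kj xj0 yj3 zj28) (kj xj0 yj3 zj29) (kj xj0 yj2 zj22) (kj xj0 yj5 zj15) (kj xj0 yj5 zj16) (kj xj0 yj3 zj33) (kj xj0 yj3 zj34) (kj xj0 yj3 zj35) (kj xj0 yj3 zj36) (kj xj0 yj2 zj28) (kj xj0 yj5 zj24) (kj xj0 yj3 zj39) (kj xj0 yj3 zj40) (kj xj0 yj3 zj41) (kj xj0 yj3 zj42) (kj xj0 yj2 zj33) (kj xj0 yj5 zj32) (kj xj0 yj3 zj45) (kj xj0 yj3 zj46) (kj xj0 yj3 zj47) (kj xj0 yj5 zj38) (kj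 xj0 yj2 zj36) (kj xj0 yj5 zj41)) (@D3.rec (fun _ => Pt) (kj xj0 yj5 zj42) (kj xj0 yj4 zj1) (kj xj0 yj4 zj2) (kj xj0 yj4 zj3) (kj xj0 yj2 zj40) (kj xj0 yj2 zj41) (kj xj0 yj5 zj50) (kj xj0 yj6 zj0) (kj xj0 yj4 zj8) (kj xj0 yj4 zj9) (kj xj0 yj4 zj10) (kj xj0 yj4 zj11) (kj xj0 yj4 zj12) (kj xj0 yj2 zj47) (kj xj0 yj6 zj11) (kj xj0 yj4 zj15) (kj xj0 yj4 zj16) (kj xj0 yj4 zj17) (kj xj0 yj4 zj18) (kj xj0 yj4 zj19) (kj xj0 yj6 zj21) (kj xj0 yj3 zj2) (kj xj0 yj6 zj22) (kj xj0 yj6 zj23) (kj xj0 yj4 zj24) (kj xj0 yj4 zj25) (kj xj0 yj4 zj26) (kj xj0 yj3 zj7) (kj xj0 yj3 zj8) (kj xj0 yj6 zj30) (kj xj0 yj6 zj31) (kj xj0 yj6 zj32) (kj xj0 yj4 zj32) (kj xj0 yj4 zj33) (kj xj0 yj4 zj34) (kj xj0 yj4 zj35) (kj xj0 yj6 zj44) (kj xj0 yj4 zj37) (kj xj0 yj4 zj38) (kj xj0 yj4 zj39)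 (kj xj0 yj4 zj40) (kj xj0 yj4 zj41) (kj xj0 yj7 zj4) (kj xj0 yj4 zj43) (kj xj0 yj4 zj44) (kj xj0 yj3 zj16) (kj xj0 yj7 zj10) (kj xj0 yj7 zj11) (kj xj0 yj4 zj48) (kj xj0 yj4 zj49) (kj xj0 yj4 zj50)) (@D3.rec (fun _ => Pt) (kj xj0 yj5 zj0) (kj xj0 yj3 zj22) (kj xj0 yj7 zj19) (kj xj0 yj5 zj3) (kj xj0 yj5 zj4) (kj xj0 yj5 zj5) (kj xj0 yj5 zj6) (kj xj0 yj5 zj7) (kj xj0 yj7 zj29) (kj xj0 yj3 zj27) (kj xj0 yj7 zj32) (kj xj0 yj7 zj33) (kj xj0 yj5 zj12) (kj xj0 yj5 zj13) (kj xj0 yj5 zj14) (kj xj0 yj3 zj31) (kj xj0 yj3 zj32) (kj xj0 yj7 zj41) (kj xj0 yj7 zj42) (kj xj0 yj5 zj19) (kj xj0 yj5 zj20) (kj xj0 yj5 zj21) (kj xj0 yj5 zj22) (kj xj0 yj5 zj23) (kj xj0 yj3 zj38) (kj xj0 yj8 zj2) (kj xj0 yj5 zj26) (kj xj0 yj5 zj27) (kj xj0 yj5 zj28) (kj xj0 yj5 zj29) (kj xj0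 yj5 zj30) (kj xj0 yj8 zj12) (kj xj0 yj3 zj44) (kj xj0 yj8 zj13) (kj xj0 yj8 zj14) (kj xj0 yj5 zj35) (kj xj0 yj5 zj36) (kj xj0 yj5 zj37) (kj xj0 yj3 zj48) (kj xj0 yj8 zj22) (kj xj0 yj8 zj23) (kj xj0 yj3 zj50) (kj xj0 yj4 zj0) (kj xj0 yj8 zj27) (kj xj0 yj8 zj28) (kj xj0 yj8 zj29) (kj xj0 yj5 zj46) (kj xj0 yj5 zj47) (kj xj0 yj5 zj48) (kj xj0 yj5 zj49) (kj xj0 yj4 zj6)) (@D3.rec (fun _ => Pt) (kj xj0 yj4 zj7) (kj xj0 yj8 zj40) (kj xj0 yj8 zj41) (kj xj0 yj6 zj3) (kj xj0 yj6 zj4) (kj xj0 yj6 zj5) (kj xj0 yj6 zj6) (kj xj0 yj6 zj7) (kj xj0 yj6 zj8) (kj xj0 yj6 zj9) (kj xj0 yj6 zj10) (kj xj0 yj4 zj14) (kj xj0 yj9 zj7) (kj xj0 yj9 zj8) (kj xj0 yj6 zj14) (kj xj0 yj6 zj15) (kj xj0 yj6 zj16) (kj xj0 yj6 zj17) (kj xj0 yj6 zj18) (kj xj0 yj6 zj19) (kj xj0 yj9 zj20) (kj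 xj0 yj4 zj20) (kj xj0 yj4 zj22) (kj xj0 yj4 zj23) (kj xj0 yj9 zj21) (kj xj0 yj9 zj22) (kj xj0 yj9 zj23) (kj xj0 yj6 zj27) (kj xj0 yj6 zj28) (kj xj0 yj6 zj29) (kj xj0 yj4 zj29) (kj xj0 yj4 zj30) (kj xj0 yj4 zj31) (kj xj0 yj9 zj31) (kj xj0 yj9 zj32) (kj xj0 yj9 zj33) (kj xj0 yj9 zj34) (kj xj0 yj6 zj37) (kj xj0 yj6 zj38) (kj xj0 yj6 zj39) (kj xj0 yj6 zj40) (kj xj0 yj9 zj45) (kj xj0 yj6 zj42) (kj xj0 yj6 zj43) (kj xj0 yj4 zj36) (kj xj0 yj9 zj50) (kj xj0 yj10 zj0) (kj xj0 yj6 zj47) (kj xj0 yj6 zj48) (kj xj0 yj6 zj49) (kj xj0 yj6 zj50)) (@D3.rec (fun _ => Pt) (kj xj0 yj7 zj0) (kj xj0 yj7 zj1) (kj xj0 yj7 zj2) (kj xj0 yj10 zj12) (kj xj0 yj4 zj42) (kj xj0 yj10 zj15) (kj xj0 yj10 zj16) (kj xj0 yj7 zj7) (kj xj0 yj7 zj8) (kj xj0 yj7 zj9) (kj xj0 yj4 zj46) (kj xj0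 yj4 zj47) (kj xj0 yj10 zj23) (kj xj0 yj10 zj24) (kj xj0 yj7 zj14) (kj xj0 yj7 zj15) (kj xj0 yj7 zj16) (kj xj0 yj7 zj17) (kj xj0 yj7 zj18) (kj xj0 yj5 zj2) (kj xj0 yj10 zj35) (kj xj0 yj7 zj21) (kj xj0 yj7 zj22) (kj xj0 yj7 zj23) (kj xj0 yj7 zj24) (kj xj0 yj7 zj25) (kj xj0 yj7 zj26) (kj xj0 yj7 zj27) (kj xj0 yj10 zj49) (kj xj0 yj5 zj8) (kj xj0 yj11 zj0) (kj xj0 yj11 zj1) (kj xj0 yj5 zj10) (kj xj0 yj5 zj11) (kj xj0 yj11 zj5) (kj xj0 yj11 zj6) (kj xj0 yj11 zj7) (kj xj0 yj7 zj37) (kj xj0 yj7 zj38) (kj xj0 yj7 zj39) (kj xj0 yj7 zj40) (kj xj0 yj5 zj17) (kj xj0 yj5 zj18) (kj xj0 yj11 zj17) (kj xj0 yj11 zj18) (kj xj0 yj7 zj45) (kj xj0 yj7 zj46) (kj xj0 yj7 zj47) (kj xj0 yj7 zj48) (kj xj0 yj7 zj49) (kj xj0 yj7 zj50)) (@D3.rec (fun _ => Pt) (kj xj0 yj8 zj0) (kj xj0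 yj8 zj1) (kj xj0 yj5 zj25) (kj xj0 yj11 zj35) (kj xj0 yj11 zj36) (kj xj0 yj8 zj5) (kj xj0 yj8 zj6) (kj xj0 yj8 zj7) (kj xj0 yj8 zj8) (kj xj0 yj8 zj9) (kj xj0 yj8 zj10) (kj xj0 yj11 zj48) (kj xj0 yj5 zj31) (kj xj0 yj5 zj33) (kj xj0 yj5 zj34) (kj xj0 yj11 zj49) (kj xj0 yj11 zj50) (kj xj0 yj12 zj0) (kj xj0 yj8 zj18) (kj xj0 yj8 zj19) (kj xj0 yj8 zj20) (kj xj0 yj8 zj21) (kj xj0 yj5 zj39) (kj xj0 yj5 zj40) (kj xj0 yj12 zj10) (kj xj0 yj12 zj11) (kj xj0 yj12 zj12) (kj xj0 yj5 zj43) (kj xj0 yj5 zj44) (kj xj0 yj5 zj45) (kj xj0 yj12 zj18) (kj xj0 yj12 zj19) (kj xj0 yj12 zj20) (kj xj0 yj12 zj21) (kj xj0 yj8 zj34) (kj xj0 yj8 zj35) (kj xj0 yj8 zj36) (kj xj0 yj8 zj37) (kj xj0 yj8 zj38) (kj xj0 yj8 zj39) (kj xj0 yj6 zj1) (kj xj0 yj6 zj2) (kj xj0 yj12 zj34) (kj xj0 yj12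 zj35) (kj xj0 yj12 zj36) (kj xj0 yj8 zj45) (kj xj0 yj8 zj46) (kj xj0 yj8 zj47) (kj xj0 yj8 zj48) (kj xj0 yj8 zj49) (kj xj0 yj8 zj50)) (@D3.rec (fun _ => Pt) (kj xj0 yj9 zj0) (kj xj0 yj9 zj1) (kj xj0 yj9 zj2) (kj xj0 yj9 zj3) (kj xj0 yj9 zj4) (kj xj0 yj9 zj5) (kj xj0 yj13 zj9) (kj xj0 yj6 zj12) (kj xj0 yj6 zj13) (kj xj0 yj13 zj10) (kj xj0 yj13 zj11) (kj xj0 yj13 zj12) (kj xj0 yj9 zj12) (kj xj0 yj9 zj13) (kj xj0 yj9 zj14) (kj xj0 yj9 zj15) (kj xj0 yj13 zj24) (kj xj0 yj9 zj17) (kj xj0 yj9 zj18) (kj xj0 yj13 zj27) (kj xj0 yj6 zj20) (kj xj0 yj6 zj24) (kj xj0 yj6 zj25) (kj xj0 yj6 zj26) (kj xj0 yj13 zj28) (kj xj0 yj13 zj29) (kj xj0 yj13 zj30) (kj xj0 yj13 zj31) (kj xj0 yj9 zj28) (kj xj0 yj9 zj29) (kj xj0 yj9 zj30) (kj xj0 yj6 zj33) (kj xj0 yj6 zj34) (kj xj0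 yj6 zj35) (kj xj0 yj6 zj36) (kj xj0 yj9 zj35) (kj xj0 yj13 zj39) (kj xj0 yj13 zj40) (kj xj0 yj13 zj41) (kj xj0 yj13 zj42) (kj xj0 yj13 zj43) (kj xj0 yj9 zj41) (kj xj0 yj14 zj0) (kj xj0 yj9 zj43) (kj xj0 yj14 zj3) (kj xj0 yj6 zj41) (kj xj0 yj14 zj6) (kj xj0 yj14 zj7) (kj xj0 yj9 zj48) (kj xj0 yj9 zj49) (kj xj0 yj6 zj45)) (@D3.rec (fun _ => Pt) (kj xj0 yj6 zj46) (kj xj0 yj14 zj12) (kj xj0 yj14 zj13) (kj xj0 yj14 zj14) (kj xj0 yj10 zj4) (kj xj0 yj10 zj5) (kj xj0 yj10 zj6) (kj xj0 yj10 zj7) (kj xj0 yj10 zj8) (kj xj0 yj10 zj9) (kj xj0 yj10 zj10) (kj xj0 yj10 zj11) (kj xj0 yj7 zj3) (kj xj0 yj14 zj30) (kj xj0 yj14 zj31) (kj xj0 yj7 zj5) (kj xj0 yj7 zj6) (kj xj0 yj14 zj35) (kj xj0 yj14 zj36) (kj xj0 yj14 zj37) (kj xj0 yj10 zj20) (kj xj0 yj10 zj21) (kj xj0 yj10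 zj22) (kj xj0 yj7 zj12) (kj xj0 yj7 zj13) (kj xj0 yj14 zj45) (kj xj0 yj14 zj46) (kj xj0 yj10 zj27) (kj xj0 yj10 zj28) (kj xj0 yj10 zj29) (kj xj0 yj10 zj30) (kj xj0 yj10 zj31) (kj xj0 yj10 zj32) (kj xj0 yj10 zj33) (kj xj0 yj10 zj34) (kj xj0 yj7 zj20) (kj xj0 yj15 zj12) (kj xj0 yj15 zj13) (kj xj0 yj10 zj38) (kj xj0 yj10 zj39) (kj xj0 yj10 zj40) (kj xj0 yj10 zj41) (kj xj0 yj10 zj42) (kj xj0 yj10 zj43) (kj xj0 yj10 zj44) (kj xj0 yj15 zj28) (kj xj0 yj10 zj46) (kj xj0 yj10 zj47) (kj xj0 yj15 zj33) (kj xj0 yj7 zj28) (kj xj0 yj10 zj50)) (@D3.rec (fun _ => Pt) (kj xj0 yj7 zj30) (kj xj0 yj7 zj31) (kj xj0 yj15 zj36) (kj xj0 yj15 zj37) (kj xj0 yj15 zj38) (kj xj0 yj7 zj34) (kj xj0 yj7 zj35) (kj xj0 yj7 zj36) (kj xj0 yj15 zj44) (kj xj0 yj15 zj45) (kj xj0 yj15 zj46)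 (kj xj0 yj15 zj47) (kj xj0 yj11 zj12) (kj xj0 yj11 zj13) (kj xj0 yj11 zj14) (kj xj0 yj11 zj15) (kj xj0 yj11 zj16) (kj xj0 yj7 zj43) (kj xj0 yj7 zj44) (kj xj0 yj16 zj8) (kj xj0 yj16 zj9) (kj xj0 yj16 zj10) (kj xj0 yj11 zj22) (kj xj0 yj11 zj23) (kj xj0 yj11 zj24) (kj xj0 yj11 zj25) (kj xj0 yj11 zj26) (kj xj0 yj11 zj27) (kj xj0 yj11 zj28) (kj xj0 yj11 zj29) (kj xj0 yj11 zj30) (kj xj0 yj11 zj31) (kj xj0 yj11 zj32) (kj xj0 yj11 zj33) (kj xj0 yj16 zj34) (kj xj0 yj8 zj3) (kj xj0 yj8 zj4) (kj xj0 yj16 zj35) (kj xj0 yj16 zj36) (kj xj0 yj16 zj37) (kj xj0 yj11 zj40) (kj xj0 yj11 zj41) (kj xj0 yj11 zj42) (kj xj0 yj11 zj43) (kj xj0 yj16 zj49) (kj xj0 yj11 zj45) (kj xj0 yj11 zj46) (kj xj0 yj17 zj1) (kj xj0 yj8 zj11) (kj xj0 yj8 zj15) (kj xj0 yj8 zj16)) (@D3.rec (fun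 _ => Pt) (kj xj0 yj8 zj17) (kj xj0 yj17 zj2) (kj xj0 yj17 zj3) (kj xj0 yj17 zj4) (kj xj0 yj17 zj5) (kj xj0 yj12 zj5) (kj xj0 yj12 zj6) (kj xj0 yj12 zj7) (kj xj0 yj12 zj8) (kj xj0 yj12 zj9) (kj xj0 yj8 zj24) (kj xj0 yj8 zj25) (kj xj0 yj8 zj26) (kj xj0 yj17 zj19) (kj xj0 yj17 zj20) (kj xj0 yj17 zj21) (kj xj0 yj17 zj22) (kj xj0 yj17 zj23) (kj xj0 yj8 zj30) (kj xj0 yj8 zj31) (kj xj0 yj8 zj32) (kj xj0 yj8 zj33) (kj xj0 yj17 zj32) (kj xj0 yj17 zj33) (kj xj0 yj17 zj34) (kj xj0 yj17 zj35) (kj xj0 yj17 zj36) (kj xj0 yj17 zj37) (kj xj0 yj12 zj28) (kj xj0 yj12 zj29) (kj xj0 yj12 zj30) (kj xj0 yj12 zj31) (kj xj0 yj12 zj32) (kj xj0 yj12 zj33) (kj xj0 yj8 zj42) (kj xj0 yj8 zj43) (kj xj0 yj8 zj44) (kj xj0 yj18 zj0) (kj xj0 yj18 zj1) (kj xj0 yj18 zj2) (kj xj0 yj18 zj3)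 (kj xj0 yj18 zj4) (kj xj0 yj12 zj42) (kj xj0 yj12 zj43) (kj xj0 yj12 zj44) (kj xj0 yj12 zj45) (kj xj0 yj12 zj46) (kj xj0 yj12 zj47) (kj xj0 yj12 zj48) (kj xj0 yj18 zj24) (kj xj0 yj12 zj50)) (@D3.rec (fun _ => Pt) (kj xj0 yj13 zj0) (kj xj0 yj13 zj1) (kj xj0 yj13 zj2) (kj xj0 yj18 zj31) (kj xj0 yj13 zj4) (kj xj0 yj13 zj5) (kj xj0 yj13 zj6) (kj xj0 yj13 zj7) (kj xj0 yj18 zj39) (kj xj0 yj9 zj6) (kj xj0 yj9 zj9) (kj xj0 yj9 zj10) (kj xj0 yj9 zj11) (kj xj0 yj18 zj40) (kj xj0 yj18 zj41) (kj xj0 yj18 zj42) (kj xj0 yj18 zj43) (kj xj0 yj19 zj0) (kj xj0 yj13 zj18) (kj xj0 yj13 zj19) (kj xj0 yj13 zj20) (kj xj0 yj13 zj21) (kj xj0 yj13 zj22) (kj xj0 yj19 zj7) (kj xj0 yj9 zj16) (kj xj0 yj13 zj25) (kj xj0 yj19 zj9) (kj xj0 yj9 zj19) (kj xj0 yj9 zj24) (kj xj0 yj9 zj25)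 (kj xj0 yj9 zj26) (kj xj0 yj9 zj27) (kj xj0 yj13 zj32) (kj xj0 yj19 zj10) (kj xj0 yj19 zj11) (kj xj0 yj19 zj12) (kj xj0 yj19 zj13) (kj xj0 yj19 zj14) (kj xj0 yj13 zj38) (kj xj0 yj9 zj36) (kj xj0 yj9 zj37) (kj xj0 yj9 zj38) (kj xj0 yj9 zj39) (kj xj0 yj9 zj40) (kj xj0 yj13 zj44) (kj xj0 yj19 zj21) (kj xj0 yj19 zj22) (kj xj0 yj19 zj23) (kj xj0 yj19 zj25) (kj xj0 yj19 zj27) (kj xj0 yj19 zj32)) (@D3.rec (fun _ => Pt) (kj xj0 yj9 zj42) (kj xj0 yj19 zj34) (kj xj0 yj14 zj2) (kj xj0 yj9 zj44) (kj xj0 yj19 zj38) (kj xj0 yj19 zj39) (kj xj0 yj9 zj46) (kj xj0 yj9 zj47) (kj xj0 yj19 zj42) (kj xj0 yj19 zj43) (kj xj0 yj14 zj10) (kj xj0 yj14 zj11) (kj xj0 yj10 zj1) (kj xj0 yj10 zj2) (kj xj0 yj10 zj3) (kj xj0 yj19 zj49) (kj xj0 yj19 zj50) (kj xj0 yj20 zj0) (kj xj0 yj14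 zj18) (kj xj0 yj14 zj19) (kj xj0 yj14 zj20) (kj xj0 yj14 zj21) (kj xj0 yj14 zj22) (kj xj0 yj14 zj23) (kj xj0 yj14 zj24) (kj xj0 yj14 zj25) (kj xj0 yj14 zj26) (kj xj0 yj14 zj27) (kj xj0 yj14 zj28) (kj xj0 yj14 zj29) (kj xj0 yj10 zj13) (kj xj0 yj10 zj14) (kj xj0 yj20 zj24) (kj xj0 yj20 zj25) (kj xj0 yj20 zj26) (kj xj0 yj10 zj17) (kj xj0 yj10 zj18) (kj xj0 yj10 zj19) (kj xj0 yj20 zj31) (kj xj0 yj20 zj32) (kj xj0 yj20 zj33) (kj xj0 yj14 zj41) (kj xj0 yj14 zj42) (kj xj0 yj14 zj43) (kj xj0 yj14 zj44) (kj xj0 yj10 zj25) (kj xj0 yj10 zj26) (kj xj0 yj20 zj44) (kj xj0 yj20 zj45) (kj xj0 yj20 zj46) (kj xj0 yj14 zj50)) (@D3.rec (fun _ => Pt) (kj xj0 yj15 zj0) (kj xj0 yj15 zj1) (kj xj0 yj15 zj2) (kj xj0 yj15 zj3) (kj xj0 yj15 zj4) (kj xj0 yj15 zj5) (kj xj0 yj15 zj6)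 (kj xj0 yj15 zj7) (kj xj0 yj15 zj8) (kj xj0 yj15 zj9) (kj xj0 yj15 zj10) (kj xj0 yj21 zj20) (kj xj0 yj10 zj36) (kj xj0 yj10 zj37) (kj xj0 yj21 zj21) (kj xj0 yj21 zj22) (kj xj0 yj21 zj23) (kj xj0 yj15 zj17) (kj xj0 yj15 zj18) (kj xj0 yj15 zj19) (kj xj0 yj15 zj20) (kj xj0 yj21 zj35) (kj xj0 yj15 zj22) (kj xj0 yj15 zj23) (kj xj0 yj15 zj24) (kj xj0 yj15 zj25) (kj xj0 yj15 zj26) (kj xj0 yj21 zj45) (kj xj0 yj10 zj45) (kj xj0 yj15 zj29) (kj xj0 yj21 zj48) (kj xj0 yj15 zj31) (kj xj0 yj15 zj32) (kj xj0 yj10 zj48) (kj xj0 yj15 zj34) (kj xj0 yj15 zj35) (kj xj0 yj11 zj2) (kj xj0 yj11 zj3) (kj xj0 yj11 zj4) (kj xj0 yj22 zj3) (kj xj0 yj22 zj4) (kj xj0 yj22 zj5) (kj xj0 yj22 zj6) (kj xj0 yj22 zj7) (kj xj0 yj11 zj8) (kj xj0 yj11 zj9) (kj xj0 yj11 zj10) (kj xj0 yj11 zj11)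 (kj xj0 yj22 zj15) (kj xj0 yj22 zj16) (kj xj0 yj22 zj17)) (@D3.rec (fun _ => Pt) (kj xj0 yj22 zj18) (kj xj0 yj22 zj19) (kj xj0 yj16 zj2) (kj xj0 yj16 zj3) (kj xj0 yj16 zj4) (kj xj0 yj16 zj5) (kj xj0 yj16 zj6) (kj xj0 yj16 zj7) (kj xj0 yj11 zj19) (kj xj0 yj11 zj20) (kj xj0 yj11 zj21) (kj xj0 yj22 zj35) (kj xj0 yj22 zj36) (kj xj0 yj22 zj37) (kj xj0 yj22 zj38) (kj xj0 yj22 zj39) (kj xj0 yj16 zj16) (kj xj0 yj16 zj17) (kj xj0 yj16 zj18) (kj xj0 yj16 zj19) (kj xj0 yj16 zj20) (kj xj0 yj16 zj21) (kj xj0 yj16 zj22) (kj xj0 yj23 zj8) (kj xj0 yj16 zj24) (kj xj0 yj16 zj25) (kj xj0 yj16 zj26) (kj xj0 yj16 zj27) (kj xj0 yj23 zj15) (kj xj0 yj16 zj29) (kj xj0 yj16 zj30) (kj xj0 yj16 zj31) (kj xj0 yj16 zj32) (kj xj0 yj23 zj23) (kj xj0 yj11 zj34) (kj xj0 yj11 zj37) (kj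 xj0 yj11 zj38) (kj xj0 yj11 zj39) (kj xj0 yj23 zj24) (kj xj0 yj23 zj25) (kj xj0 yj23 zj26) (kj xj0 yj23 zj27) (kj xj0 yj23 zj35) (kj xj0 yj16 zj43) (kj xj0 yj16 zj44) (kj xj0 yj16 zj45) (kj xj0 yj16 zj46) (kj xj0 yj16 zj47) (kj xj0 yj23 zj45) (kj xj0 yj11 zj44) (kj xj0 yj16 zj50)) (@D3.rec (fun _ => Pt) (kj xj0 yj23 zj47) (kj xj0 yj11 zj47) (kj xj0 yj12 zj1) (kj xj0 yj12 zj2) (kj xj0 yj12 zj3) (kj xj0 yj12 zj4) (kj xj0 yj17 zj6) (kj xj0 yj23 zj48) (kj xj0 yj23 zj49) (kj xj0 yj23 zj50) (kj xj0 yj24 zj0) (kj xj0 yj24 zj1) (kj xj0 yj17 zj12) (kj xj0 yj17 zj13) (kj xj0 yj17 zj14) (kj xj0 yj17 zj15) (kj xj0 yj17 zj16) (kj xj0 yj17 zj17) (kj xj0 yj17 zj18) (kj xj0 yj12 zj13) (kj xj0 yj12 zj14) (kj xj0 yj12 zj15) (kj xj0 yj12 zj16) (kj xj0 yj12 zj17) (kj xj0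 yj24 zj18) (kj xj0 yj24 zj19) (kj xj0 yj24 zj20) (kj xj0 yj24 zj21) (kj xj0 yj24 zj22) (kj xj0 yj24 zj23) (kj xj0 yj24 zj24) (kj xj0 yj24 zj25) (kj xj0 yj12 zj22) (kj xj0 yj12 zj23) (kj xj0 yj12 zj24) (kj xj0 yj12 zj25) (kj xj0 yj12 zj26) (kj xj0 yj12 zj27) (kj xj0 yj24 zj36) (kj xj0 yj24 zj37) (kj xj0 yj24 zj38) (kj xj0 yj24 zj39) (kj xj0 yj24 zj40) (kj xj0 yj24 zj41) (kj xj0 yj17 zj44) (kj xj0 yj17 zj45) (kj xj0 yj17 zj46) (kj xj0 yj17 zj47) (kj xj0 yj17 zj48) (kj xj0 yj17 zj49) (kj xj0 yj25 zj7)) (@D3.rec (fun _ => Pt) (kj xj0 yj12 zj37) (kj xj0 yj12 zj38) (kj xj0 yj12 zj39) (kj xj0 yj12 zj40) (kj xj0 yj12 zj41) (kj xj0 yj25 zj8) (kj xj0 yj25 zj9) (kj xj0 yj25 zj10) (kj xj0 yj25 zj11) (kj xj0 yj25 zj12) (kj xj0 yj25 zj13) (kj xj0 yj25 zj14) (kj xj0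 yj25 zj27) (kj xj0 yj18 zj13) (kj xj0 yj18 zj14) (kj xj0 yj18 zj15) (kj xj0 yj18 zj16) (kj xj0 yj25 zj34) (kj xj0 yj18 zj18) (kj xj0 yj18 zj19) (kj xj0 yj18 zj20) (kj xj0 yj18 zj21) (kj xj0 yj18 zj22) (kj xj0 yj25 zj42) (kj xj0 yj12 zj49) (kj xj0 yj18 zj25) (kj xj0 yj18 zj26) (kj xj0 yj18 zj27) (kj xj0 yj18 zj28) (kj xj0 yj18 zj29) (kj xj0 yj26 zj1) (kj xj0 yj13 zj3) (kj xj0 yj18 zj32) (kj xj0 yj18 zj33) (kj xj0 yj18 zj34) (kj xj0 yj18 zj35) (kj xj0 yj26 zj8) (kj xj0 yj18 zj37) (kj xj0 yj26 zj10) (kj xj0 yj13 zj8) (kj xj0 yj13 zj13) (kj xj0 yj13 zj14) (kj xj0 yj13 zj15) (kj xj0 yj13 zj16) (kj xj0 yj26 zj17) (kj xj0 yj26 zj11) (kj xj0 yj26 zj12) (kj xj0 yj26 zj13) (kj xj0 yj26 zj14) (kj xj0 yj26 zj15) (kj xj0 yj26 zj25)) (@D3.rec (fun _ => Pt) (kj xj0 yj13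 zj17) (kj xj0 yj19 zj1) (kj xj0 yj19 zj2) (kj xj0 yj19 zj3) (kj xj0 yj26 zj29) (kj xj0 yj26 zj30) (kj xj0 yj19 zj6) (kj xj0 yj13 zj23) (kj xj0 yj26 zj32) (kj xj0 yj13 zj26) (kj xj0 yj13 zj33) (kj xj0 yj13 zj34) (kj xj0 yj13 zj35) (kj xj0 yj13 zj36) (kj xj0 yj13 zj37) (kj xj0 yj19 zj15) (kj xj0 yj26 zj33) (kj xj0 yj26 zj34) (kj xj0 yj26 zj35) (kj xj0 yj26 zj37) (kj xj0 yj26 zj39) (kj xj0 yj13 zj45) (kj xj0 yj13 zj46) (kj xj0 yj13 zj47) (kj xj0 yj19 zj24) (kj xj0 yj13 zj48) (kj xj0 yj19 zj26) (kj xj0 yj13 zj49) (kj xj0 yj26 zj43) (kj xj0 yj26 zj45) (kj xj0 yj26 zj48) (kj xj1 yj0 zj1) (kj xj0 yj13 zj50) (kj xj1 yj0 zj4) (kj xj0 yj14 zj1) (kj xj1 yj0 zj6) (kj xj0 yj19 zj36) (kj xj0 yj19 zj37) (kj xj0 yj14 zj4) (kj xj0 yj14 zj5) (kj xj1 yj0 zj12) (kj xj1 yj0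 zj13) (kj xj0 yj14 zj8) (kj xj0 yj14 zj9) (kj xj1 yj0 zj16) (kj xj1 yj0 zj17) (kj xj0 yj19 zj46) (kj xj0 yj19 zj47) (kj xj0 yj19 zj48) (kj xj0 yj14 zj15) (kj xj0 yj14 zj16)) (@D3.rec (fun _ => Pt) (kj xj0 yj14 zj17) (kj xj1 yj0 zj26) (kj xj1 yj0 zj27) (kj xj1 yj0 zj28) (kj xj1 yj0 zj29) (kj xj0 yj20 zj5) (kj xj0 yj20 zj6) (kj xj0 yj20 zj7) (kj xj0 yj20 zj8) (kj xj0 yj20 zj9) (kj xj0 yj20 zj10) (kj xj0 yj20 zj11) (kj xj0 yj20 zj12) (kj xj0 yj20 zj13) (kj xj0 yj20 zj14) (kj xj0 yj20 zj15) (kj xj0 yj20 zj16) (kj xj0 yj20 zj17) (kj xj0 yj20 zj18) (kj xj0 yj20 zj19) (kj xj0 yj20 zj20) (kj xj1 yj1 zj11) (kj xj0 yj20 zj22) (kj xj0 yj20 zj23) (kj xj0 yj14 zj32) (kj xj0 yj14 zj33) (kj xj0 yj14 zj34) (kj xj1 yj1 zj15) (kj xj1 yj1 zj16) (kj xj1 yj1 zj17) (kj xj1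 yj1 zj18) (kj xj0 yj14 zj38) (kj xj0 yj14 zj39) (kj xj0 yj14 zj40) (kj xj1 yj1 zj24) (kj xj1 yj1 zj25) (kj xj1 yj1 zj26) (kj xj1 yj1 zj27) (kj xj0 yj20 zj38) (kj xj0 yj20 zj39) (kj xj0 yj20 zj40) (kj xj0 yj20 zj41) (kj xj0 yj20 zj42) (kj xj0 yj20 zj43) (kj xj0 yj14 zj47) (kj xj0 yj14 zj48) (kj xj0 yj14 zj49) (kj xj1 yj1 zj44) (kj xj1 yj1 zj45) (kj xj1 yj1 zj46) (kj xj1 yj1 zj47)) (@D3.rec (fun _ => Pt) (kj xj1 yj1 zj48) (kj xj0 yj21 zj1) (kj xj0 yj21 zj2) (kj xj0 yj21 zj3) (kj xj0 yj21 zj4) (kj xj0 yj21 zj5) (kj xj0 yj21 zj6) (kj xj0 yj21 zj7) (kj xj1 yj2 zj17) (kj xj0 yj21 zj9) (kj xj0 yj21 zj10) (kj xj0 yj21 zj11) (kj xj0 yj21 zj12) (kj xj1 yj2 zj24) (kj xj0 yj21 zj14) (kj xj0 yj21 zj15) (kj xj0 yj21 zj16) (kj xj0 yj21 zj17) (kj xj0 yj21 zj18) (kj xj1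 yj2 zj35) (kj xj0 yj15 zj11) (kj xj0 yj15 zj14) (kj xj0 yj15 zj15) (kj xj0 yj15 zj16) (kj xj1 yj2 zj36) (kj xj1 yj2 zj37) (kj xj1 yj2 zj38) (kj xj1 yj2 zj39) (kj xj1 yj2 zj47) (kj xj0 yj21 zj29) (kj xj0 yj21 zj30) (kj xj0 yj21 zj31) (kj xj0 yj21 zj32) (kj xj0 yj21 zj33) (kj xj1 yj3 zj7) (kj xj0 yj15 zj21) (kj xj0 yj21 zj36) (kj xj0 yj21 zj37) (kj xj0 yj21 zj38) (kj xj0 yj21 zj39) (kj xj1 yj3 zj15) (kj xj0 yj21 zj41) (kj xj1 yj3 zj18) (kj xj0 yj21 zj43) (kj xj0 yj21 zj44) (kj xj0 yj15 zj27) (kj xj1 yj3 zj22) (kj xj0 yj21 zj47) (kj xj0 yj15 zj30) (kj xj1 yj3 zj26) (kj xj0 yj21 zj50)) (@D3.rec (fun _ => Pt) (kj xj0 yj22 zj0) (kj xj0 yj22 zj1) (kj xj0 yj22 zj2) (kj xj0 yj15 zj39) (kj xj0 yj15 zj40) (kj xj0 yj15 zj41) (kj xj0 yj15 zj42) (kj xj0 yj15 zj43) (kj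 xj1 yj3 zj33) (kj xj1 yj3 zj34) (kj xj1 yj3 zj35) (kj xj1 yj3 zj36) (kj xj1 yj3 zj37) (kj xj1 yj3 zj38) (kj xj1 yj3 zj39) (kj xj0 yj15 zj48) (kj xj0 yj15 zj49) (kj xj0 yj15 zj50) (kj xj0 yj16 zj0) (kj xj0 yj16 zj1) (kj xj1 yj3 zj49) (kj xj1 yj3 zj50) (kj xj1 yj4 zj0) (kj xj1 yj4 zj1) (kj xj1 yj4 zj2) (kj xj1 yj4 zj3) (kj xj0 yj22 zj26) (kj xj0 yj22 zj27) (kj xj0 yj22 zj28) (kj xj0 yj22 zj29) (kj xj0 yj22 zj30) (kj xj0 yj22 zj31) (kj xj0 yj22 zj32) (kj xj0 yj22 zj33) (kj xj1 yj4 zj24) (kj xj0 yj16 zj11) (kj xj0 yj16 zj12) (kj xj0 yj16 zj13) (kj xj0 yj16 zj14) (kj xj0 yj16 zj15) (kj xj1 yj4 zj25) (kj xj1 yj4 zj26) (kj xj1 yj4 zj27) (kj xj1 yj4 zj28) (kj xj1 yj4 zj29) (kj xj1 yj4 zj30) (kj xj1 yj4 zj31) (kj xj1 yj4 zj44) (kj xj0 yj22 zj48) (kj xj0 yj22 zj49)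 (kj xj0 yj22 zj50)) (@D3.rec (fun _ => Pt) (kj xj0 yj23 zj0) (kj xj1 yj5 zj0) (kj xj0 yj23 zj2) (kj xj0 yj23 zj3) (kj xj0 yj23 zj4) (kj xj0 yj23 zj5) (kj xj0 yj23 zj6) (kj xj1 yj5 zj11) (kj xj0 yj16 zj23) (kj xj0 yj23 zj9) (kj xj0 yj23 zj10) (kj xj0 yj23 zj11) (kj xj0 yj23 zj12) (kj xj0 yj23 zj13) (kj xj1 yj5 zj21) (kj xj0 yj16 zj28) (kj xj0 yj23 zj16) (kj xj0 yj23 zj17) (kj xj0 yj23 zj18) (kj xj0 yj23 zj19) (kj xj1 yj5 zj28) (kj xj0 yj23 zj21) (kj xj1 yj5 zj30) (kj xj0 yj16 zj33) (kj xj0 yj16 zj38) (kj xj0 yj16 zj39) (kj xj0 yj16 zj40) (kj xj0 yj16 zj41) (kj xj1 yj5 zj37) (kj xj1 yj5 zj31) (kj xj1 yj5 zj32) (kj xj1 yj5 zj33) (kj xj1 yj5 zj34) (kj xj1 yj5 zj35) (kj xj1 yj5 zj48) (kj xj0 yj16 zj42) (kj xj0 yj23 zj36) (kj xj0 yj23 zj37) (kj xj0 yj23 zj38)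 (kj xj0 yj23 zj39) (kj xj0 yj23 zj40) (kj xj1 yj6 zj5) (kj xj1 yj6 zj6) (kj xj0 yj23 zj43) (kj xj0 yj23 zj44) (kj xj0 yj16 zj48) (kj xj1 yj6 zj9) (kj xj0 yj17 zj0) (kj xj0 yj17 zj7) (kj xj0 yj17 zj8) (kj xj0 yj17 zj9)) (@D3.rec (fun _ => Pt) (kj xj0 yj17 zj10) (kj xj0 yj17 zj11) (kj xj0 yj24 zj2) (kj xj1 yj6 zj10) (kj xj1 yj6 zj11) (kj xj1 yj6 zj12) (kj xj1 yj6 zj13) (kj xj1 yj6 zj14) (kj xj1 yj6 zj16) (kj xj1 yj6 zj18) (kj xj1 yj6 zj19) (kj xj0 yj24 zj11) (kj xj0 yj24 zj12) (kj xj0 yj24 zj13) (kj xj0 yj24 zj14) (kj xj0 yj24 zj15) (kj xj0 yj24 zj16) (kj xj0 yj24 zj17) (kj xj0 yj17 zj24) (kj xj0 yj17 zj25) (kj xj0 yj17 zj26) (kj xj0 yj17 zj27) (kj xj0 yj17 zj28) (kj xj0 yj17 zj29) (kj xj0 yj17 zj30) (kj xj0 yj17 zj31) (kj xj1 yj6 zj38) (kj xj1 yj6 zj39)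 (kj xj1 yj6 zj40) (kj xj1 yj6 zj41) (kj xj1 yj6 zj42) (kj xj1 yj6 zj43) (kj xj1 yj6 zj44) (kj xj1 yj6 zj45) (kj xj1 yj6 zj46) (kj xj1 yj6 zj47) (kj xj0 yj17 zj38) (kj xj0 yj17 zj39) (kj xj0 yj17 zj40) (kj xj0 yj17 zj41) (kj xj0 yj17 zj42) (kj xj0 yj17 zj43) (kj xj1 yj7 zj8) (kj xj1 yj7 zj9) (kj xj1 yj7 zj10) (kj xj1 yj7 zj11) (kj xj1 yj7 zj12) (kj xj1 yj7 zj13) (kj xj1 yj7 zj24) (kj xj0 yj24 zj49) (kj xj0 yj24 zj50)) (@D3.rec (fun _ => Pt) (kj xj0 yj25 zj0) (kj xj1 yj7 zj28) (kj xj0 yj25 zj2) (kj xj0 yj25 zj3) (kj xj0 yj25 zj4) (kj xj0 yj25 zj5) (kj xj1 yj7 zj36) (kj xj0 yj17 zj50) (kj xj0 yj18 zj5) (kj xj0 yj18 zj6) (kj xj0 yj18 zj7) (kj xj0 yj18 zj8) (kj xj0 yj18 zj9) (kj xj0 yj18 zj10) (kj xj0 yj18 zj11) (kj xj1 yj7 zj48) (kj xj1 yj7 zj37) (kj xj1 yj7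 zj38) (kj xj1 yj7 zj39) (kj xj1 yj7 zj40) (kj xj1 yj8 zj4) (kj xj1 yj7 zj42) (kj xj1 yj7 zj43) (kj xj1 yj7 zj44) (kj xj1 yj7 zj45) (kj xj1 yj7 zj46) (kj xj1 yj8 zj12) (kj xj0 yj18 zj12) (kj xj0 yj25 zj28) (kj xj0 yj25 zj29) (kj xj0 yj25 zj30) (kj xj0 yj25 zj31) (kj xj0 yj25 zj32) (kj xj1 yj8 zj20) (kj xj0 yj18 zj17) (kj xj0 yj25 zj35) (kj xj0 yj25 zj36) (kj xj0 yj25 zj37) (kj xj1 yj8 zj25) (kj xj0 yj25 zj39) (kj xj1 yj8 zj28) (kj xj0 yj25 zj41) (kj xj0 yj18 zj23) (kj xj0 yj25 zj43) (kj xj0 yj25 zj44) (kj xj0 yj25 zj45) (kj xj0 yj25 zj46) (kj xj0 yj25 zj47) (kj xj1 yj8 zj39) (kj xj0 yj25 zj49) (kj xj1 yj8 zj42)) (@D3.rec (fun _ => Pt) (kj xj0 yj26 zj0) (kj xj0 yj18 zj30) (kj xj0 yj26 zj2) (kj xj0 yj26 zj3) (kj xj1 yj8 zj48) (kj xj0 yj26 zj5) (kj xj0 yj26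 zj6) (kj xj1 yj9 zj1) (kj xj0 yj18 zj36) (kj xj1 yj9 zj3) (kj xj0 yj18 zj38) (kj xj0 yj18 zj45) (kj xj0 yj18 zj46) (kj xj0 yj18 zj47) (kj xj0 yj18 zj48) (kj xj0 yj18 zj49) (kj xj1 yj9 zj11) (kj xj0 yj18 zj44) (kj xj1 yj9 zj4) (kj xj1 yj9 zj5) (kj xj1 yj9 zj6) (kj xj1 yj9 zj16) (kj xj1 yj9 zj8) (kj xj1 yj9 zj19) (kj xj1 yj9 zj10) (kj xj0 yj18 zj50) (kj xj0 yj26 zj26) (kj xj1 yj9 zj22) (kj xj1 yj9 zj23) (kj xj0 yj19 zj4) (kj xj0 yj19 zj5) (kj xj1 yj9 zj24) (kj xj0 yj19 zj8) (kj xj0 yj19 zj16) (kj xj0 yj19 zj17) (kj xj0 yj19 zj18) (kj xj0 yj26 zj36) (kj xj0 yj19 zj19) (kj xj0 yj26 zj38) (kj xj0 yj19 zj20) (kj xj1 yj9 zj25) (kj xj1 yj9 zj27) (kj xj1 yj9 zj30) (kj xj0 yj19 zj28) (kj xj0 yj26 zj44) (kj xj0 yj19 zj29) (kj xj0 yj26 zj46) (kj xj0 yj26 zj47) (kj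 xj0 yj19 zj30) (kj xj0 yj26 zj49) (kj xj1 yj9 zj34))
def f_j_1 : D2 → D3 → Pt := @D2.rec (fun _ => D3 → Pt) (@D3.rec (fun _ => Pt) (kj xj1 yj9 zj39) (kj xj0 yj19 zj31) (kj xj1 yj9 zj42) (kj xj1 yj0 zj3) (kj xj0 yj19 zj33) (kj xj1 yj9 zj45) (kj xj0 yj19 zj35) (kj xj1 yj9 zj47) (kj xj1 yj0 zj8) (kj xj1 yj0 zj9) (kj xj1 yj0 zj10) (kj xj1 yj0 zj11) (kj xj0 yj19 zj40) (kj xj0 yj19 zj41) (kj xj1 yj10 zj4) (kj xj1 yj10 zj5) (kj xj0 yj19 zj44) (kj xj0 yj19 zj45) (kj xj1 yj10 zj9) (kj xj1 yj10 zj10) (kj xj1 yj10 zj11) (kj xj1 yj0 zj21) (kj xj1 yj0 zj22) (kj xj1 yj0 zj23) (kj xj1 yj0 zj24) (kj xj1 yj0 zj25) (kj xj0 yj20 zj1) (kj xj0 yj20 zj2) (kj xj0 yj20 zj3) (kj xj0 yj20 zj4) (kj xj1 yj10 zj25) (kj xj1 yj10 zj26) (kj xj1 yj10 zj27) (kj xj1 yj10 zj28) (kj xj1 yj10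 zj29) (kj xj1 yj10 zj30) (kj xj1 yj0 zj36) (kj xj1 yj0 zj37) (kj xj1 yj0 zj38) (kj xj1 yj0 zj39) (kj xj1 yj0 zj40) (kj xj1 yj0 zj41) (kj xj1 yj0 zj42) (kj xj1 yj0 zj43) (kj xj1 yj0 zj44) (kj xj1 yj11 zj4) (kj xj1 yj0 zj46) (kj xj1 yj0 zj47) (kj xj1 yj0 zj48) (kj xj1 yj0 zj49) (kj xj1 yj0 zj50)) (@D3.rec (fun _ => Pt) (kj xj1 yj1 zj0) (kj xj1 yj1 zj1) (kj xj1 yj1 zj2) (kj xj1 yj1 zj3) (kj xj1 yj11 zj19) (kj xj1 yj1 zj5) (kj xj1 yj1 zj6) (kj xj1 yj1 zj7) (kj xj1 yj1 zj8) (kj xj1 yj1 zj9) (kj xj1 yj11 zj30) (kj xj0 yj20 zj21) (kj xj1 yj1 zj12) (kj xj1 yj1 zj13) (kj xj1 yj1 zj14) (kj xj0 yj20 zj27) (kj xj0 yj20 zj28) (kj xj0 yj20 zj29) (kj xj0 yj20 zj30) (kj xj1 yj11 zj35) (kj xj1 yj11 zj36) (kj xj1 yj11 zj37) (kj xj1 yj11 zj38) (kj xj1 yj11 zj39) (kj xj0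 yj20 zj34) (kj xj0 yj20 zj35) (kj xj0 yj20 zj36) (kj xj0 yj20 zj37) (kj xj1 yj11 zj47) (kj xj1 yj11 zj48) (kj xj1 yj11 zj49) (kj xj1 yj11 zj50) (kj xj1 yj12 zj0) (kj xj1 yj12 zj1) (kj xj1 yj1 zj34) (kj xj1 yj1 zj35) (kj xj1 yj1 zj36) (kj xj1 yj1 zj37) (kj xj1 yj1 zj38) (kj xj1 yj1 zj39) (kj xj1 yj1 zj40) (kj xj1 yj1 zj41) (kj xj1 yj1 zj42) (kj xj1 yj12 zj24) (kj xj0 yj20 zj47) (kj xj0 yj20 zj48) (kj xj0 yj20 zj49) (kj xj0 yj20 zj50) (kj xj0 yj21 zj0) (kj xj1 yj12 zj25) (kj xj1 yj12 zj26)) (@D3.rec (fun _ => Pt) (kj xj1 yj12 zj27) (kj xj1 yj12 zj28) (kj xj1 yj12 zj29) (kj xj1 yj12 zj30) (kj xj1 yj12 zj31) (kj xj1 yj12 zj44) (kj xj1 yj2 zj6) (kj xj1 yj2 zj7) (kj xj1 yj2 zj8) (kj xj1 yj2 zj9) (kj xj1 yj13 zj0) (kj xj1 yj2 zj11) (kj xj1 yj2 zj12) (kj xj1 yj2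 zj13) (kj xj1 yj2 zj14) (kj xj1 yj2 zj15) (kj xj1 yj13 zj11) (kj xj0 yj21 zj8) (kj xj1 yj2 zj18) (kj xj1 yj2 zj19) (kj xj1 yj2 zj20) (kj xj1 yj2 zj21) (kj xj1 yj2 zj22) (kj xj1 yj13 zj22) (kj xj0 yj21 zj13) (kj xj1 yj2 zj25) (kj xj1 yj2 zj26) (kj xj1 yj2 zj27) (kj xj1 yj2 zj28) (kj xj1 yj2 zj29) (kj xj1 yj13 zj33) (kj xj1 yj2 zj31) (kj xj1 yj13 zj36) (kj xj1 yj2 zj33) (kj xj1 yj2 zj34) (kj xj0 yj21 zj19) (kj xj0 yj21 zj24) (kj xj0 yj21 zj25) (kj xj0 yj21 zj26) (kj xj0 yj21 zj27) (kj xj1 yj13 zj45) (kj xj1 yj13 zj39) (kj xj1 yj13 zj40) (kj xj1 yj13 zj41) (kj xj1 yj13 zj42) (kj xj1 yj13 zj43) (kj xj1 yj14 zj5) (kj xj0 yj21 zj28) (kj xj1 yj2 zj48) (kj xj1 yj2 zj49) (kj xj1 yj2 zj50)) (@D3.rec (fun _ => Pt) (kj xj1 yj3 zj0) (kj xj1 yj3 zj1) (kj xj1 yj14 zj16)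 (kj xj1 yj3 zj3) (kj xj1 yj14 zj19) (kj xj1 yj3 zj5) (kj xj1 yj3 zj6) (kj xj0 yj21 zj34) (kj xj1 yj3 zj8) (kj xj1 yj3 zj9) (kj xj1 yj14 zj26) (kj xj1 yj3 zj11) (kj xj1 yj14 zj29) (kj xj1 yj3 zj13) (kj xj1 yj3 zj14) (kj xj0 yj21 zj40) (kj xj1 yj14 zj33) (kj xj1 yj3 zj17) (kj xj0 yj21 zj42) (kj xj1 yj14 zj37) (kj xj1 yj3 zj20) (kj xj1 yj14 zj39) (kj xj0 yj21 zj46) (kj xj1 yj14 zj41) (kj xj1 yj3 zj24) (kj xj1 yj3 zj25) (kj xj0 yj21 zj49) (kj xj1 yj14 zj46) (kj xj1 yj3 zj28) (kj xj1 yj3 zj29) (kj xj1 yj3 zj30) (kj xj1 yj3 zj31) (kj xj1 yj3 zj32) (kj xj0 yj22 zj8) (kj xj0 yj22 zj9) (kj xj0 yj22 zj10) (kj xj0 yj22 zj11) (kj xj0 yj22 zj12) (kj xj0 yj22 zj13) (kj xj0 yj22 zj14) (kj xj1 yj15 zj4) (kj xj1 yj15 zj5) (kj xj1 yj15 zj6) (kj xj1 yj15 zj7) (kj xj1 yj15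 zj8) (kj xj1 yj15 zj9) (kj xj1 yj15 zj10) (kj xj1 yj15 zj11) (kj xj1 yj15 zj12) (kj xj0 yj22 zj20) (kj xj0 yj22 zj21)) (@D3.rec (fun _ => Pt) (kj xj0 yj22 zj22) (kj xj0 yj22 zj23) (kj xj0 yj22 zj24) (kj xj0 yj22 zj25) (kj xj1 yj15 zj25) (kj xj1 yj15 zj26) (kj xj1 yj15 zj27) (kj xj1 yj15 zj28) (kj xj1 yj15 zj29) (kj xj1 yj15 zj30) (kj xj1 yj15 zj31) (kj xj1 yj15 zj32) (kj xj1 yj15 zj45) (kj xj1 yj4 zj13) (kj xj1 yj4 zj14) (kj xj1 yj4 zj15) (kj xj1 yj4 zj16) (kj xj1 yj16 zj0) (kj xj1 yj4 zj18) (kj xj1 yj4 zj19) (kj xj1 yj4 zj20) (kj xj1 yj4 zj21) (kj xj1 yj4 zj22) (kj xj1 yj16 zj11) (kj xj0 yj22 zj34) (kj xj0 yj22 zj40) (kj xj0 yj22 zj41) (kj xj0 yj22 zj42) (kj xj0 yj22 zj43) (kj xj0 yj22 zj44) (kj xj0 yj22 zj45) (kj xj0 yj22 zj46) (kj xj1 yj16 zj23) (kj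 xj1 yj16 zj12) (kj xj1 yj16 zj13) (kj xj1 yj16 zj14) (kj xj1 yj16 zj15) (kj xj1 yj16 zj30) (kj xj1 yj16 zj17) (kj xj1 yj16 zj18) (kj xj1 yj16 zj19) (kj xj1 yj16 zj20) (kj xj1 yj16 zj21) (kj xj1 yj16 zj41) (kj xj0 yj22 zj47) (kj xj1 yj4 zj45) (kj xj1 yj4 zj46) (kj xj1 yj4 zj47) (kj xj1 yj4 zj48) (kj xj1 yj4 zj49) (kj xj1 yj17 zj1)) (@D3.rec (fun _ => Pt) (kj xj0 yj23 zj1) (kj xj1 yj5 zj1) (kj xj1 yj5 zj2) (kj xj1 yj5 zj3) (kj xj1 yj5 zj4) (kj xj1 yj5 zj5) (kj xj1 yj17 zj10) (kj xj1 yj5 zj7) (kj xj1 yj17 zj13) (kj xj1 yj5 zj9) (kj xj1 yj5 zj10) (kj xj0 yj23 zj7) (kj xj1 yj5 zj12) (kj xj1 yj5 zj13) (kj xj1 yj5 zj14) (kj xj1 yj5 zj15) (kj xj1 yj5 zj16) (kj xj1 yj17 zj25) (kj xj1 yj5 zj18) (kj xj1 yj17 zj28) (kj xj1 yj5 zj20) (kj xj0 yj23 zj14) (kj xj1 yj5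 zj22) (kj xj1 yj5 zj23) (kj xj1 yj17 zj34) (kj xj1 yj5 zj25) (kj xj1 yj5 zj26) (kj xj1 yj17 zj38) (kj xj0 yj23 zj20) (kj xj1 yj17 zj40) (kj xj0 yj23 zj22) (kj xj0 yj23 zj29) (kj xj0 yj23 zj30) (kj xj0 yj23 zj31) (kj xj0 yj23 zj32) (kj xj0 yj23 zj33) (kj xj1 yj18 zj0) (kj xj0 yj23 zj28) (kj xj1 yj17 zj41) (kj xj1 yj17 zj42) (kj xj1 yj17 zj43) (kj xj1 yj17 zj44) (kj xj1 yj17 zj45) (kj xj1 yj18 zj9) (kj xj1 yj17 zj47) (kj xj1 yj18 zj12) (kj xj1 yj17 zj49) (kj xj1 yj17 zj50) (kj xj0 yj23 zj34) (kj xj1 yj5 zj49) (kj xj1 yj5 zj50)) (@D3.rec (fun _ => Pt) (kj xj1 yj18 zj17) (kj xj1 yj6 zj1) (kj xj1 yj6 zj2) (kj xj1 yj18 zj21) (kj xj1 yj6 zj4) (kj xj0 yj23 zj41) (kj xj0 yj23 zj42) (kj xj1 yj18 zj23) (kj xj1 yj6 zj8) (kj xj0 yj23 zj46) (kj xj0 yj24 zj3) (kj xj0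 yj24 zj4) (kj xj0 yj24 zj5) (kj xj0 yj24 zj6) (kj xj0 yj24 zj7) (kj xj1 yj6 zj15) (kj xj0 yj24 zj8) (kj xj1 yj6 zj17) (kj xj0 yj24 zj9) (kj xj0 yj24 zj10) (kj xj1 yj18 zj25) (kj xj1 yj18 zj26) (kj xj1 yj18 zj28) (kj xj1 yj18 zj29) (kj xj1 yj18 zj30) (kj xj1 yj18 zj32) (kj xj1 yj18 zj34) (kj xj1 yj18 zj36) (kj xj1 yj6 zj28) (kj xj1 yj6 zj29) (kj xj1 yj6 zj30) (kj xj1 yj6 zj31) (kj xj1 yj6 zj32) (kj xj1 yj6 zj33) (kj xj1 yj6 zj34) (kj xj1 yj6 zj35) (kj xj1 yj6 zj36) (kj xj1 yj6 zj37) (kj xj0 yj24 zj26) (kj xj0 yj24 zj27) (kj xj0 yj24 zj28) (kj xj0 yj24 zj29) (kj xj0 yj24 zj30) (kj xj0 yj24 zj31) (kj xj0 yj24 zj32) (kj xj0 yj24 zj33) (kj xj0 yj24 zj34) (kj xj0 yj24 zj35) (kj xj1 yj19 zj7) (kj xj1 yj19 zj8) (kj xj1 yj19 zj9)) (@D3.rec (fun _ => Pt) (kj xj1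 yj19 zj10) (kj xj1 yj19 zj11) (kj xj1 yj19 zj12) (kj xj1 yj19 zj13) (kj xj1 yj19 zj14) (kj xj1 yj19 zj15) (kj xj1 yj19 zj16) (kj xj1 yj19 zj30) (kj xj0 yj24 zj42) (kj xj0 yj24 zj43) (kj xj0 yj24 zj44) (kj xj0 yj24 zj45) (kj xj0 yj24 zj46) (kj xj0 yj24 zj47) (kj xj1 yj19 zj40) (kj xj1 yj19 zj31) (kj xj1 yj19 zj32) (kj xj1 yj19 zj33) (kj xj1 yj19 zj44) (kj xj1 yj19 zj35) (kj xj1 yj19 zj36) (kj xj1 yj19 zj37) (kj xj1 yj19 zj38) (kj xj1 yj20 zj1) (kj xj0 yj24 zj48) (kj xj1 yj20 zj2) (kj xj1 yj7 zj26) (kj xj1 yj20 zj5) (kj xj0 yj25 zj1) (kj xj1 yj7 zj29) (kj xj1 yj7 zj30) (kj xj1 yj7 zj31) (kj xj1 yj20 zj10) (kj xj1 yj7 zj33) (kj xj1 yj20 zj13) (kj xj1 yj7 zj35) (kj xj0 yj25 zj6) (kj xj0 yj25 zj16) (kj xj0 yj25 zj17) (kj xj0 yj25 zj18) (kj xj0 yj25 zj19) (kj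 xj1 yj20 zj21) (kj xj0 yj25 zj21) (kj xj0 yj25 zj22) (kj xj0 yj25 zj23) (kj xj0 yj25 zj24) (kj xj0 yj25 zj25) (kj xj1 yj20 zj29) (kj xj0 yj25 zj15) (kj xj1 yj20 zj15) (kj xj1 yj20 zj16)) (@D3.rec (fun _ => Pt) (kj xj1 yj20 zj17) (kj xj1 yj20 zj18) (kj xj1 yj20 zj19) (kj xj1 yj20 zj37) (kj xj0 yj25 zj20) (kj xj1 yj20 zj22) (kj xj1 yj20 zj23) (kj xj1 yj20 zj24) (kj xj1 yj20 zj42) (kj xj1 yj20 zj26) (kj xj1 yj20 zj45) (kj xj1 yj20 zj28) (kj xj0 yj25 zj26) (kj xj1 yj8 zj13) (kj xj1 yj8 zj14) (kj xj1 yj8 zj15) (kj xj1 yj21 zj0) (kj xj1 yj8 zj17) (kj xj1 yj21 zj3) (kj xj1 yj8 zj19) (kj xj0 yj25 zj33) (kj xj1 yj8 zj21) (kj xj1 yj21 zj7) (kj xj1 yj8 zj23) (kj xj1 yj21 zj9) (kj xj0 yj25 zj38) (kj xj1 yj21 zj11) (kj xj1 yj8 zj27) (kj xj0 yj25 zj40) (kj xj1 yj21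 zj13) (kj xj1 yj8 zj30) (kj xj1 yj8 zj31) (kj xj1 yj8 zj32) (kj xj1 yj21 zj20) (kj xj1 yj8 zj34) (kj xj1 yj8 zj35) (kj xj1 yj8 zj36) (kj xj1 yj21 zj27) (kj xj1 yj8 zj38) (kj xj0 yj25 zj48) (kj xj1 yj21 zj30) (kj xj1 yj8 zj41) (kj xj0 yj25 zj50) (kj xj1 yj21 zj33) (kj xj1 yj8 zj44) (kj xj1 yj8 zj45) (kj xj1 yj8 zj46) (kj xj1 yj21 zj38) (kj xj0 yj26 zj4) (kj xj1 yj8 zj49) (kj xj1 yj21 zj41)) (@D3.rec (fun _ => Pt) (kj xj1 yj21 zj43) (kj xj0 yj26 zj7) (kj xj1 yj21 zj44) (kj xj0 yj26 zj9) (kj xj0 yj26 zj18) (kj xj0 yj26 zj19) (kj xj0 yj26 zj20) (kj xj1 yj21 zj49) (kj xj0 yj26 zj22) (kj xj1 yj22 zj1) (kj xj0 yj26 zj24) (kj xj0 yj26 zj16) (kj xj1 yj21 zj45) (kj xj1 yj22 zj5) (kj xj1 yj21 zj47) (kj xj1 yj22 zj7) (kj xj0 yj26 zj21) (kj xj1 yj22 zj8) (kj xj1 yj22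 zj0) (kj xj0 yj26 zj23) (kj xj1 yj22 zj11) (kj xj1 yj22 zj12) (kj xj0 yj26 zj27) (kj xj0 yj26 zj28) (kj xj0 yj26 zj31) (kj xj0 yj26 zj40) (kj xj1 yj9 zj26) (kj xj0 yj26 zj41) (kj xj1 yj9 zj28) (kj xj1 yj9 zj29) (kj xj0 yj26 zj42) (kj xj1 yj9 zj31) (kj xj1 yj22 zj13) (kj xj1 yj22 zj18) (kj xj0 yj26 zj50) (kj xj1 yj9 zj35) (kj xj1 yj9 zj36) (kj xj1 yj9 zj37) (kj xj1 yj9 zj38) (kj xj1 yj0 zj0) (kj xj1 yj22 zj24) (kj xj1 yj9 zj41) (kj xj1 yj0 zj2) (kj xj1 yj22 zj27) (kj xj1 yj9 zj44) (kj xj1 yj0 zj5) (kj xj1 yj22 zj30) (kj xj1 yj0 zj7) (kj xj1 yj22 zj33) (kj xj1 yj22 zj34) (kj xj1 yj9 zj50)) (@D3.rec (fun _ => Pt) (kj xj1 yj10 zj0) (kj xj1 yj10 zj1) (kj xj1 yj10 zj2) (kj xj1 yj10 zj3) (kj xj1 yj0 zj14) (kj xj1 yj0 zj15) (kj xj1 yj22 zj45) (kj xj1 yj22 zj46)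 (kj xj1 yj22 zj47) (kj xj1 yj0 zj18) (kj xj1 yj0 zj19) (kj xj1 yj0 zj20) (kj xj1 yj23 zj2) (kj xj1 yj23 zj3) (kj xj1 yj23 zj4) (kj xj1 yj23 zj5) (kj xj1 yj23 zj6) (kj xj1 yj10 zj17) (kj xj1 yj10 zj18) (kj xj1 yj10 zj19) (kj xj1 yj10 zj20) (kj xj1 yj10 zj21) (kj xj1 yj10 zj22) (kj xj1 yj10 zj23) (kj xj1 yj23 zj25) (kj xj1 yj0 zj30) (kj xj1 yj0 zj31) (kj xj1 yj0 zj32) (kj xj1 yj0 zj33) (kj xj1 yj0 zj34) (kj xj1 yj0 zj35) (kj xj1 yj23 zj26) (kj xj1 yj23 zj27) (kj xj1 yj23 zj28) (kj xj1 yj23 zj29) (kj xj1 yj23 zj30) (kj xj1 yj23 zj31) (kj xj1 yj23 zj32) (kj xj1 yj23 zj33) (kj xj1 yj23 zj34) (kj xj1 yj23 zj50) (kj xj1 yj10 zj41) (kj xj1 yj10 zj42) (kj xj1 yj10 zj43) (kj xj1 yj10 zj44) (kj xj1 yj10 zj45) (kj xj1 yj10 zj46) (kj xj1 yj10 zj47) (kj xj1 yj24 zj11)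 (kj xj1 yj10 zj49) (kj xj1 yj10 zj50)) (@D3.rec (fun _ => Pt) (kj xj1 yj11 zj0) (kj xj1 yj11 zj1) (kj xj1 yj11 zj2) (kj xj1 yj24 zj22) (kj xj1 yj0 zj45) (kj xj1 yj11 zj5) (kj xj1 yj11 zj6) (kj xj1 yj11 zj7) (kj xj1 yj11 zj8) (kj xj1 yj11 zj9) (kj xj1 yj11 zj10) (kj xj1 yj11 zj11) (kj xj1 yj24 zj34) (kj xj1 yj11 zj13) (kj xj1 yj11 zj14) (kj xj1 yj11 zj15) (kj xj1 yj11 zj16) (kj xj1 yj11 zj17) (kj xj1 yj24 zj45) (kj xj1 yj1 zj4) (kj xj1 yj11 zj20) (kj xj1 yj11 zj21) (kj xj1 yj11 zj22) (kj xj1 yj11 zj23) (kj xj1 yj11 zj24) (kj xj1 yj25 zj5) (kj xj1 yj11 zj26) (kj xj1 yj25 zj8) (kj xj1 yj11 zj28) (kj xj1 yj11 zj29) (kj xj1 yj1 zj10) (kj xj1 yj11 zj31) (kj xj1 yj11 zj32) (kj xj1 yj11 zj33) (kj xj1 yj11 zj34) (kj xj1 yj1 zj19) (kj xj1 yj1 zj20) (kj xj1 yj1 zj21)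 (kj xj1 yj1 zj22) (kj xj1 yj1 zj23) (kj xj1 yj25 zj17) (kj xj1 yj25 zj18) (kj xj1 yj25 zj19) (kj xj1 yj25 zj20) (kj xj1 yj25 zj21) (kj xj1 yj25 zj22) (kj xj1 yj25 zj23) (kj xj1 yj1 zj28) (kj xj1 yj1 zj29) (kj xj1 yj1 zj30) (kj xj1 yj1 zj31)) (@D3.rec (fun _ => Pt) (kj xj1 yj1 zj32) (kj xj1 yj1 zj33) (kj xj1 yj25 zj35) (kj xj1 yj25 zj36) (kj xj1 yj25 zj37) (kj xj1 yj25 zj38) (kj xj1 yj25 zj39) (kj xj1 yj25 zj40) (kj xj1 yj25 zj41) (kj xj1 yj25 zj42) (kj xj1 yj25 zj43) (kj xj1 yj26 zj6) (kj xj1 yj12 zj12) (kj xj1 yj12 zj13) (kj xj1 yj12 zj14) (kj xj1 yj12 zj15) (kj xj1 yj12 zj16) (kj xj1 yj26 zj15) (kj xj1 yj12 zj18) (kj xj1 yj12 zj19) (kj xj1 yj12 zj20) (kj xj1 yj12 zj21) (kj xj1 yj12 zj22) (kj xj1 yj26 zj26) (kj xj1 yj1 zj43) (kj xj1 yj1 zj49) (kj xj1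 yj1 zj50) (kj xj1 yj2 zj0) (kj xj1 yj2 zj1) (kj xj1 yj2 zj2) (kj xj1 yj2 zj3) (kj xj1 yj2 zj4) (kj xj1 yj26 zj38) (kj xj1 yj26 zj27) (kj xj1 yj26 zj28) (kj xj1 yj26 zj29) (kj xj1 yj26 zj30) (kj xj1 yj26 zj45) (kj xj1 yj26 zj32) (kj xj1 yj26 zj33) (kj xj1 yj26 zj34) (kj xj1 yj26 zj35) (kj xj1 yj26 zj36) (kj xj2 yj0 zj5) (kj xj1 yj2 zj5) (kj xj1 yj12 zj45) (kj xj1 yj12 zj46) (kj xj1 yj12 zj47) (kj xj1 yj12 zj48) (kj xj1 yj12 zj49) (kj xj2 yj0 zj16)) (@D3.rec (fun _ => Pt) (kj xj1 yj2 zj10) (kj xj1 yj13 zj1) (kj xj1 yj13 zj2) (kj xj1 yj13 zj3) (kj xj1 yj13 zj4) (kj xj1 yj13 zj5) (kj xj2 yj0 zj27) (kj xj1 yj13 zj7) (kj xj2 yj0 zj30) (kj xj1 yj13 zj9) (kj xj1 yj13 zj10) (kj xj1 yj2 zj16) (kj xj1 yj13 zj12) (kj xj1 yj13 zj13) (kj xj1 yj13 zj14) (kj xj1 yj13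 zj15) (kj xj1 yj13 zj16) (kj xj2 yj0 zj39) (kj xj1 yj13 zj18) (kj xj2 yj0 zj42) (kj xj1 yj13 zj20) (kj xj1 yj13 zj21) (kj xj1 yj2 zj23) (kj xj1 yj13 zj23) (kj xj1 yj13 zj24) (kj xj1 yj13 zj25) (kj xj2 yj0 zj49) (kj xj1 yj13 zj27) (kj xj1 yj13 zj28) (kj xj1 yj13 zj29) (kj xj2 yj1 zj4) (kj xj1 yj13 zj31) (kj xj1 yj13 zj32) (kj xj1 yj2 zj30) (kj xj2 yj1 zj8) (kj xj1 yj13 zj35) (kj xj1 yj2 zj32) (kj xj2 yj1 zj12) (kj xj1 yj13 zj38) (kj xj1 yj2 zj41) (kj xj1 yj2 zj42) (kj xj1 yj2 zj43) (kj xj1 yj2 zj44) (kj xj1 yj2 zj45) (kj xj2 yj1 zj24) (kj xj1 yj2 zj40) (kj xj2 yj1 zj14) (kj xj2 yj1 zj15) (kj xj2 yj1 zj16) (kj xj2 yj1 zj17) (kj xj2 yj1 zj18)) (@D3.rec (fun _ => Pt) (kj xj2 yj1 zj35) (kj xj2 yj1 zj20) (kj xj2 yj1 zj38) (kj xj2 yj1 zj22) (kj xj2 yj1 zj23)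 (kj xj1 yj2 zj46) (kj xj1 yj14 zj6) (kj xj1 yj14 zj7) (kj xj1 yj14 zj8) (kj xj2 yj1 zj47) (kj xj1 yj14 zj10) (kj xj1 yj14 zj11) (kj xj1 yj14 zj12) (kj xj2 yj2 zj4) (kj xj1 yj14 zj14) (kj xj1 yj14 zj15) (kj xj1 yj3 zj2) (kj xj2 yj2 zj8) (kj xj1 yj14 zj18) (kj xj1 yj3 zj4) (kj xj2 yj2 zj12) (kj xj1 yj14 zj21) (kj xj1 yj14 zj22) (kj xj2 yj2 zj16) (kj xj1 yj14 zj24) (kj xj1 yj14 zj25) (kj xj1 yj3 zj10) (kj xj2 yj2 zj20) (kj xj1 yj14 zj28) (kj xj1 yj3 zj12) (kj xj2 yj2 zj24) (kj xj1 yj14 zj31) (kj xj2 yj2 zj26) (kj xj1 yj3 zj16) (kj xj2 yj2 zj28) (kj xj1 yj14 zj35) (kj xj1 yj14 zj36) (kj xj1 yj3 zj19) (kj xj2 yj2 zj33) (kj xj1 yj3 zj21) (kj xj2 yj2 zj35) (kj xj1 yj3 zj23) (kj xj2 yj2 zj37) (kj xj2 yj2 zj36) (kj xj1 yj14 zj44) (kj xj1 yj14 zj45) (kj xj1 yj3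 zj27) (kj xj1 yj14 zj47) (kj xj1 yj14 zj48) (kj xj1 yj14 zj49) (kj xj1 yj14 zj50)) (@D3.rec (fun _ => Pt) (kj xj1 yj15 zj0) (kj xj1 yj15 zj1) (kj xj1 yj15 zj2) (kj xj1 yj15 zj3) (kj xj1 yj3 zj40) (kj xj1 yj3 zj41) (kj xj1 yj3 zj42) (kj xj1 yj3 zj43) (kj xj1 yj3 zj44) (kj xj1 yj3 zj45) (kj xj1 yj3 zj46) (kj xj1 yj3 zj47) (kj xj1 yj3 zj48) (kj xj2 yj3 zj1) (kj xj2 yj3 zj2) (kj xj2 yj3 zj3) (kj xj2 yj3 zj4) (kj xj2 yj3 zj5) (kj xj2 yj3 zj6) (kj xj2 yj3 zj7) (kj xj2 yj3 zj8) (kj xj2 yj3 zj9) (kj xj2 yj3 zj10) (kj xj2 yj3 zj11) (kj xj2 yj3 zj25) (kj xj1 yj4 zj4) (kj xj1 yj4 zj5) (kj xj1 yj4 zj6) (kj xj1 yj4 zj7) (kj xj1 yj4 zj8) (kj xj1 yj4 zj9) (kj xj1 yj4 zj10) (kj xj1 yj4 zj11) (kj xj2 yj3 zj37) (kj xj2 yj3 zj26) (kj xj2 yj3 zj27) (kj xj2 yj3 zj28) (kj xj2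 yj3 zj29) (kj xj2 yj3 zj43) (kj xj2 yj3 zj31) (kj xj2 yj3 zj32) (kj xj2 yj3 zj33) (kj xj2 yj3 zj34) (kj xj2 yj3 zj35) (kj xj2 yj4 zj3) (kj xj1 yj4 zj12) (kj xj2 yj4 zj4) (kj xj1 yj15 zj47) (kj xj1 yj15 zj48) (kj xj1 yj15 zj49) (kj xj2 yj4 zj10)) (@D3.rec (fun _ => Pt) (kj xj1 yj4 zj17) (kj xj1 yj16 zj1) (kj xj1 yj16 zj2) (kj xj1 yj16 zj3) (kj xj1 yj16 zj4) (kj xj1 yj16 zj5) (kj xj2 yj4 zj21) (kj xj1 yj16 zj7) (kj xj2 yj4 zj24) (kj xj1 yj16 zj9) (kj xj1 yj16 zj10) (kj xj1 yj4 zj23) (kj xj1 yj4 zj33) (kj xj1 yj4 zj34) (kj xj1 yj4 zj35) (kj xj1 yj4 zj36) (kj xj2 yj4 zj33) (kj xj1 yj4 zj38) (kj xj1 yj4 zj39) (kj xj1 yj4 zj40) (kj xj1 yj4 zj41) (kj xj1 yj4 zj42) (kj xj2 yj4 zj44) (kj xj1 yj4 zj32) (kj xj2 yj4 zj27) (kj xj2 yj4 zj28) (kj xj2 yj4 zj29) (kj xj2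 yj4 zj30) (kj xj2 yj4 zj31) (kj xj2 yj5 zj4) (kj xj1 yj4 zj37) (kj xj2 yj4 zj34) (kj xj2 yj4 zj35) (kj xj2 yj4 zj36) (kj xj2 yj4 zj37) (kj xj2 yj4 zj38) (kj xj2 yj5 zj13) (kj xj2 yj4 zj40) (kj xj2 yj5 zj16) (kj xj2 yj4 zj42) (kj xj2 yj4 zj43) (kj xj1 yj4 zj43) (kj xj1 yj16 zj42) (kj xj1 yj16 zj43) (kj xj1 yj16 zj44) (kj xj1 yj16 zj45) (kj xj1 yj16 zj46) (kj xj2 yj5 zj27) (kj xj1 yj16 zj48) (kj xj2 yj5 zj30) (kj xj1 yj16 zj50)) (@D3.rec (fun _ => Pt) (kj xj1 yj17 zj0) (kj xj1 yj4 zj50) (kj xj1 yj17 zj2) (kj xj1 yj17 zj3) (kj xj2 yj5 zj36) (kj xj1 yj17 zj5) (kj xj1 yj17 zj6) (kj xj1 yj17 zj7) (kj xj2 yj5 zj43) (kj xj1 yj17 zj9) (kj xj1 yj5 zj6) (kj xj2 yj5 zj46) (kj xj1 yj17 zj12) (kj xj1 yj5 zj8) (kj xj2 yj5 zj49) (kj xj1 yj17 zj15) (kj xj1 yj17 zj16) (kj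 xj1 yj17 zj17) (kj xj1 yj17 zj18) (kj xj2 yj6 zj4) (kj xj1 yj17 zj20) (kj xj1 yj17 zj21) (kj xj1 yj17 zj22) (kj xj2 yj6 zj10) (kj xj1 yj17 zj24) (kj xj1 yj5 zj17) (kj xj2 yj6 zj13) (kj xj1 yj17 zj27) (kj xj1 yj5 zj19) (kj xj2 yj6 zj16) (kj xj1 yj17 zj30) (kj xj1 yj17 zj31) (kj xj1 yj17 zj32) (kj xj2 yj6 zj21) (kj xj1 yj5 zj24) (kj xj1 yj17 zj35) (kj xj2 yj6 zj24) (kj xj2 yj6 zj26) (kj xj1 yj5 zj27) (kj xj2 yj6 zj27) (kj xj1 yj5 zj29) (kj xj1 yj5 zj38) (kj xj1 yj5 zj39) (kj xj1 yj5 zj40) (kj xj1 yj5 zj41) (kj xj1 yj5 zj42) (kj xj2 yj6 zj36) (kj xj1 yj5 zj44) (kj xj2 yj6 zj39) (kj xj1 yj5 zj46) (kj xj1 yj5 zj47)) (@D3.rec (fun _ => Pt) (kj xj1 yj5 zj36) (kj xj2 yj6 zj28) (kj xj2 yj6 zj29) (kj xj2 yj6 zj45) (kj xj2 yj6 zj31) (kj xj2 yj6 zj32) (kj xj2 yj6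 zj33) (kj xj2 yj7 zj1) (kj xj2 yj6 zj35) (kj xj1 yj5 zj43) (kj xj2 yj7 zj3) (kj xj2 yj6 zj38) (kj xj1 yj5 zj45) (kj xj2 yj7 zj7) (kj xj2 yj6 zj41) (kj xj1 yj18 zj15) (kj xj2 yj7 zj10) (kj xj1 yj6 zj0) (kj xj2 yj7 zj11) (kj xj1 yj18 zj19) (kj xj1 yj18 zj20) (kj xj1 yj6 zj3) (kj xj2 yj7 zj15) (kj xj1 yj6 zj7) (kj xj2 yj7 zj16) (kj xj1 yj6 zj20) (kj xj1 yj6 zj21) (kj xj1 yj18 zj27) (kj xj1 yj6 zj22) (kj xj1 yj6 zj23) (kj xj1 yj6 zj24) (kj xj1 yj18 zj31) (kj xj1 yj6 zj25) (kj xj1 yj18 zj33) (kj xj1 yj6 zj26) (kj xj1 yj18 zj35) (kj xj1 yj6 zj27) (kj xj2 yj7 zj17) (kj xj2 yj7 zj18) (kj xj2 yj7 zj20) (kj xj2 yj7 zj22) (kj xj2 yj7 zj23) (kj xj2 yj7 zj25) (kj xj2 yj7 zj29) (kj xj2 yj7 zj30) (kj xj1 yj18 zj45) (kj xj1 yj18 zj46) (kj xj1 yj18 zj47) (kj xj1 yj18 zj48)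 (kj xj1 yj18 zj49) (kj xj1 yj18 zj50)) (@D3.rec (fun _ => Pt) (kj xj1 yj19 zj0) (kj xj1 yj19 zj1) (kj xj1 yj19 zj2) (kj xj1 yj19 zj3) (kj xj1 yj19 zj4) (kj xj1 yj19 zj5) (kj xj1 yj19 zj6) (kj xj1 yj6 zj48) (kj xj1 yj6 zj49) (kj xj1 yj6 zj50) (kj xj1 yj7 zj0) (kj xj1 yj7 zj1) (kj xj1 yj7 zj2) (kj xj1 yj7 zj3) (kj xj1 yj7 zj4) (kj xj1 yj7 zj5) (kj xj1 yj7 zj6) (kj xj2 yj8 zj17) (kj xj2 yj8 zj5) (kj xj2 yj8 zj6) (kj xj2 yj8 zj7) (kj xj2 yj8 zj8) (kj xj2 yj8 zj9) (kj xj2 yj8 zj10) (kj xj2 yj8 zj23) (kj xj2 yj8 zj12) (kj xj2 yj8 zj13) (kj xj2 yj8 zj14) (kj xj2 yj8 zj15) (kj xj2 yj8 zj31) (kj xj1 yj7 zj7) (kj xj1 yj7 zj15) (kj xj1 yj7 zj16) (kj xj1 yj7 zj17) (kj xj2 yj8 zj35) (kj xj1 yj7 zj19) (kj xj1 yj7 zj20) (kj xj1 yj7 zj21) (kj xj1 yj7 zj22) (kj xj2 yj8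 zj43) (kj xj1 yj7 zj14) (kj xj2 yj8 zj44) (kj xj2 yj8 zj33) (kj xj2 yj8 zj47) (kj xj1 yj7 zj18) (kj xj2 yj8 zj36) (kj xj2 yj8 zj37) (kj xj2 yj8 zj38) (kj xj2 yj9 zj1) (kj xj2 yj8 zj40) (kj xj2 yj9 zj4)) (@D3.rec (fun _ => Pt) (kj xj2 yj8 zj42) (kj xj1 yj7 zj23) (kj xj1 yj7 zj25) (kj xj1 yj20 zj3) (kj xj2 yj9 zj7) (kj xj1 yj7 zj27) (kj xj1 yj20 zj6) (kj xj1 yj20 zj7) (kj xj2 yj9 zj12) (kj xj1 yj20 zj9) (kj xj1 yj7 zj32) (kj xj2 yj9 zj15) (kj xj1 yj20 zj12) (kj xj1 yj7 zj34) (kj xj2 yj9 zj18) (kj xj1 yj7 zj49) (kj xj1 yj7 zj50) (kj xj1 yj8 zj0) (kj xj1 yj8 zj1) (kj xj1 yj8 zj2) (kj xj2 yj9 zj26) (kj xj1 yj7 zj41) (kj xj1 yj8 zj5) (kj xj1 yj8 zj6) (kj xj1 yj8 zj7) (kj xj2 yj9 zj31) (kj xj1 yj8 zj9) (kj xj2 yj9 zj3) (kj xj1 yj8 zj11) (kj xj1 yj7 zj47) (kj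 xj2 yj9 zj19) (kj xj2 yj9 zj20) (kj xj2 yj9 zj21) (kj xj2 yj9 zj36) (kj xj2 yj9 zj23) (kj xj2 yj9 zj39) (kj xj2 yj9 zj25) (kj xj1 yj8 zj3) (kj xj2 yj9 zj27) (kj xj2 yj9 zj43) (kj xj2 yj9 zj29) (kj xj2 yj9 zj45) (kj xj1 yj8 zj8) (kj xj2 yj9 zj5) (kj xj2 yj8 zj41) (kj xj1 yj8 zj10) (kj xj2 yj9 zj2) (kj xj1 yj20 zj47) (kj xj2 yj9 zj48) (kj xj1 yj20 zj49) (kj xj2 yj9 zj50)) (@D3.rec (fun _ => Pt) (kj xj1 yj8 zj16) (kj xj2 yj10 zj1) (kj xj1 yj21 zj2) (kj xj1 yj8 zj18) (kj xj2 yj10 zj4) (kj xj1 yj21 zj5) (kj xj2 yj10 zj6) (kj xj1 yj8 zj22) (kj xj2 yj10 zj8) (kj xj1 yj8 zj24) (kj xj2 yj9 zj16) (kj xj1 yj8 zj26) (kj xj2 yj9 zj14) (kj xj1 yj8 zj29) (kj xj1 yj21 zj14) (kj xj1 yj21 zj15) (kj xj1 yj21 zj16) (kj xj1 yj21 zj17) (kj xj2 yj10 zj15) (kj xj1 yj21 zj19)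 (kj xj1 yj8 zj33) (kj xj1 yj21 zj21) (kj xj2 yj10 zj20) (kj xj1 yj21 zj23) (kj xj1 yj21 zj24) (kj xj2 yj10 zj24) (kj xj1 yj21 zj26) (kj xj1 yj8 zj37) (kj xj2 yj10 zj27) (kj xj2 yj10 zj28) (kj xj1 yj8 zj40) (kj xj2 yj10 zj30) (kj xj1 yj21 zj32) (kj xj1 yj8 zj43) (kj xj1 yj21 zj34) (kj xj1 yj21 zj35) (kj xj2 yj10 zj37) (kj xj2 yj10 zj39) (kj xj1 yj8 zj47) (kj xj1 yj21 zj39) (kj xj2 yj10 zj42) (kj xj1 yj8 zj50) (kj xj2 yj10 zj43) (kj xj1 yj9 zj0) (kj xj1 yj9 zj2) (kj xj1 yj9 zj12) (kj xj2 yj10 zj46) (kj xj1 yj9 zj14) (kj xj2 yj10 zj48) (kj xj1 yj9 zj7) (kj xj2 yj8 zj30)) (@D3.rec (fun _ => Pt) (kj xj1 yj9 zj18) (kj xj1 yj9 zj9) (kj xj2 yj8 zj28) (kj xj2 yj10 zj44) (kj xj2 yj10 zj50) (kj xj1 yj9 zj13) (kj xj2 yj11 zj0) (kj xj1 yj9 zj15) (kj xj1 yj9 zj17) (kj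 xj2 yj8 zj29) (kj xj2 yj8 zj16) (kj xj1 yj9 zj20) (kj xj1 yj9 zj21) (kj xj1 yj9 zj32) (kj xj1 yj22 zj14) (kj xj1 yj22 zj15) (kj xj1 yj22 zj16) (kj xj1 yj22 zj17) (kj xj1 yj9 zj33) (kj xj2 yj8 zj4) (kj xj1 yj22 zj20) (kj xj1 yj22 zj21) (kj xj1 yj22 zj22) (kj xj1 yj22 zj23) (kj xj1 yj9 zj40) (kj xj1 yj22 zj25) (kj xj1 yj22 zj26) (kj xj1 yj9 zj43) (kj xj2 yj11 zj8) (kj xj1 yj22 zj29) (kj xj1 yj9 zj46) (kj xj2 yj11 zj12) (kj xj2 yj11 zj13) (kj xj1 yj9 zj48) (kj xj1 yj9 zj49) (kj xj2 yj11 zj17) (kj xj2 yj11 zj18) (kj xj2 yj11 zj19) (kj xj1 yj22 zj38) (kj xj1 yj22 zj39) (kj xj1 yj22 zj40) (kj xj1 yj22 zj41) (kj xj2 yj11 zj31) (kj xj1 yj22 zj43) (kj xj1 yj22 zj44) (kj xj1 yj10 zj6) (kj xj1 yj10 zj7) (kj xj1 yj10 zj8) (kj xj2 yj11 zj35) (kj xj2 yj11 zj36) (kj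 xj2 yj11 zj37)) (@D3.rec (fun _ => Pt) (kj xj2 yj11 zj38) (kj xj2 yj11 zj39) (kj xj1 yj10 zj12) (kj xj1 yj10 zj13) (kj xj1 yj10 zj14) (kj xj1 yj10 zj15) (kj xj1 yj10 zj16) (kj xj2 yj11 zj48) (kj xj2 yj11 zj49) (kj xj2 yj11 zj50) (kj xj2 yj12 zj0) (kj xj2 yj12 zj1) (kj xj2 yj12 zj2) (kj xj2 yj12 zj3) (kj xj2 yj12 zj15) (kj xj1 yj23 zj15) (kj xj1 yj23 zj16) (kj xj1 yj23 zj17) (kj xj2 yj12 zj21) (kj xj1 yj23 zj19) (kj xj1 yj23 zj20) (kj xj1 yj23 zj21) (kj xj1 yj23 zj22) (kj xj1 yj23 zj23) (kj xj2 yj12 zj32) (kj xj1 yj10 zj24) (kj xj1 yj10 zj31) (kj xj1 yj10 zj32) (kj xj1 yj10 zj33) (kj xj1 yj10 zj34) (kj xj1 yj10 zj35) (kj xj1 yj10 zj36) (kj xj1 yj10 zj37) (kj xj1 yj10 zj38) (kj xj1 yj10 zj39) (kj xj2 yj12 zj47) (kj xj2 yj12 zj33) (kj xj2 yj12 zj34) (kj xj2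 yj12 zj35) (kj xj2 yj12 zj36) (kj xj2 yj12 zj37) (kj xj2 yj12 zj38) (kj xj2 yj12 zj39) (kj xj2 yj13 zj8) (kj xj2 yj12 zj41) (kj xj2 yj12 zj42) (kj xj2 yj12 zj43) (kj xj2 yj12 zj44) (kj xj2 yj12 zj45) (kj xj2 yj13 zj19) (kj xj1 yj10 zj40)) (@D3.rec (fun _ => Pt) (kj xj1 yj24 zj0) (kj xj1 yj24 zj1) (kj xj1 yj24 zj2) (kj xj1 yj24 zj3) (kj xj2 yj13 zj26) (kj xj1 yj24 zj5) (kj xj1 yj24 zj6) (kj xj1 yj24 zj7) (kj xj1 yj24 zj8) (kj xj1 yj24 zj9) (kj xj2 yj13 zj37) (kj xj1 yj10 zj48) (kj xj1 yj24 zj12) (kj xj1 yj24 zj13) (kj xj1 yj24 zj14) (kj xj1 yj24 zj15) (kj xj1 yj24 zj16) (kj xj2 yj13 zj48) (kj xj1 yj24 zj18) (kj xj2 yj14 zj0) (kj xj1 yj24 zj20) (kj xj1 yj24 zj21) (kj xj1 yj11 zj3) (kj xj1 yj24 zj23) (kj xj1 yj24 zj24) (kj xj1 yj24 zj25) (kj xj1 yj24 zj26)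 (kj xj2 yj14 zj6) (kj xj1 yj24 zj28) (kj xj1 yj24 zj29) (kj xj1 yj24 zj30) (kj xj1 yj24 zj31) (kj xj1 yj24 zj32) (kj xj2 yj14 zj13) (kj xj1 yj11 zj12) (kj xj1 yj24 zj35) (kj xj1 yj24 zj36) (kj xj1 yj24 zj37) (kj xj1 yj24 zj38) (kj xj1 yj24 zj39) (kj xj2 yj14 zj20) (kj xj1 yj24 zj41) (kj xj2 yj14 zj23) (kj xj1 yj24 zj43) (kj xj1 yj24 zj44) (kj xj1 yj11 zj18) (kj xj1 yj24 zj46) (kj xj1 yj24 zj47) (kj xj1 yj24 zj48) (kj xj2 yj14 zj30) (kj xj1 yj24 zj50)) (@D3.rec (fun _ => Pt) (kj xj1 yj25 zj0) (kj xj1 yj25 zj1) (kj xj2 yj14 zj36) (kj xj1 yj25 zj3) (kj xj1 yj25 zj4) (kj xj1 yj11 zj25) (kj xj2 yj14 zj40) (kj xj1 yj25 zj7) (kj xj1 yj11 zj27) (kj xj2 yj14 zj44) (kj xj1 yj25 zj10) (kj xj1 yj25 zj11) (kj xj1 yj25 zj12) (kj xj1 yj25 zj13) (kj xj1 yj25 zj14) (kj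 xj1 yj25 zj15) (kj xj1 yj25 zj16) (kj xj1 yj11 zj40) (kj xj1 yj11 zj41) (kj xj1 yj11 zj42) (kj xj1 yj11 zj43) (kj xj1 yj11 zj44) (kj xj1 yj11 zj45) (kj xj1 yj11 zj46) (kj xj2 yj15 zj3) (kj xj2 yj15 zj4) (kj xj2 yj15 zj5) (kj xj2 yj15 zj6) (kj xj2 yj15 zj7) (kj xj2 yj15 zj8) (kj xj2 yj15 zj9) (kj xj2 yj15 zj10) (kj xj2 yj15 zj11) (kj xj2 yj15 zj12) (kj xj2 yj15 zj28) (kj xj1 yj12 zj2) (kj xj1 yj12 zj3) (kj xj1 yj12 zj4) (kj xj1 yj12 zj5) (kj xj1 yj12 zj6) (kj xj1 yj12 zj7) (kj xj1 yj12 zj8) (kj xj1 yj12 zj9) (kj xj1 yj12 zj10) (kj xj2 yj15 zj41) (kj xj2 yj15 zj29) (kj xj2 yj15 zj30) (kj xj2 yj15 zj31) (kj xj2 yj15 zj32) (kj xj2 yj15 zj33) (kj xj2 yj15 zj50)) (@D3.rec (fun _ => Pt) (kj xj2 yj15 zj35) (kj xj2 yj15 zj36) (kj xj2 yj15 zj37) (kj xj2 yj15 zj38)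 (kj xj2 yj15 zj39) (kj xj2 yj16 zj10) (kj xj1 yj12 zj11) (kj xj1 yj26 zj7) (kj xj1 yj26 zj8) (kj xj2 yj16 zj14) (kj xj1 yj26 zj10) (kj xj1 yj26 zj11) (kj xj1 yj26 zj12) (kj xj1 yj26 zj13) (kj xj2 yj16 zj23) (kj xj1 yj12 zj17) (kj xj1 yj26 zj16) (kj xj1 yj26 zj17) (kj xj1 yj26 zj18) (kj xj1 yj26 zj19) (kj xj1 yj26 zj20) (kj xj2 yj16 zj34) (kj xj1 yj26 zj22) (kj xj2 yj16 zj37) (kj xj1 yj26 zj24) (kj xj1 yj26 zj25) (kj xj1 yj12 zj23) (kj xj1 yj12 zj33) (kj xj1 yj12 zj34) (kj xj1 yj12 zj35) (kj xj1 yj12 zj36) (kj xj2 yj16 zj46) (kj xj1 yj12 zj38) (kj xj1 yj12 zj39) (kj xj1 yj12 zj40) (kj xj1 yj12 zj41) (kj xj1 yj12 zj42) (kj xj2 yj17 zj6) (kj xj1 yj12 zj32) (kj xj2 yj16 zj40) (kj xj2 yj16 zj41) (kj xj2 yj16 zj42) (kj xj2 yj16 zj43) (kj xj2 yj16 zj44) (kj xj2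 yj17 zj17) (kj xj1 yj12 zj37) (kj xj2 yj16 zj47) (kj xj2 yj16 zj48) (kj xj2 yj16 zj49) (kj xj2 yj16 zj50) (kj xj2 yj17 zj0))
def f_j_2 : D2 → D3 → Pt := @D2.rec (fun _ => D3 → Pt) (@D3.rec (fun _ => Pt) (kj xj2 yj17 zj28) (kj xj2 yj17 zj2) (kj xj2 yj17 zj31) (kj xj2 yj17 zj4) (kj xj2 yj17 zj5) (kj xj1 yj12 zj43) (kj xj2 yj0 zj6) (kj xj2 yj0 zj7) (kj xj2 yj0 zj8) (kj xj2 yj0 zj9) (kj xj2 yj0 zj10) (kj xj2 yj17 zj44) (kj xj2 yj0 zj12) (kj xj2 yj17 zj47) (kj xj2 yj0 zj14) (kj xj2 yj0 zj15) (kj xj1 yj12 zj50) (kj xj2 yj0 zj17) (kj xj2 yj0 zj18) (kj xj2 yj0 zj19) (kj xj2 yj18 zj6) (kj xj2 yj0 zj21) (kj xj2 yj0 zj22) (kj xj2 yj0 zj23) (kj xj2 yj18 zj14) (kj xj2 yj0 zj25) (kj xj2 yj0 zj26) (kj xj1 yj13 zj6) (kj xj2 yj18 zj18) (kj xj2 yj0 zj29) (kj xj1 yj13 zj8)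 (kj xj2 yj18 zj22) (kj xj2 yj0 zj32) (kj xj2 yj0 zj33) (kj xj2 yj18 zj26) (kj xj2 yj0 zj35) (kj xj2 yj0 zj36) (kj xj2 yj18 zj31) (kj xj2 yj0 zj38) (kj xj1 yj13 zj17) (kj xj2 yj18 zj34) (kj xj2 yj0 zj41) (kj xj1 yj13 zj19) (kj xj2 yj18 zj38) (kj xj2 yj0 zj44) (kj xj2 yj0 zj45) (kj xj2 yj0 zj46) (kj xj2 yj18 zj44) (kj xj2 yj0 zj48) (kj xj1 yj13 zj26) (kj xj2 yj0 zj50)) (@D3.rec (fun _ => Pt) (kj xj2 yj18 zj49) (kj xj2 yj1 zj1) (kj xj2 yj19 zj1) (kj xj2 yj1 zj3) (kj xj1 yj13 zj30) (kj xj2 yj19 zj5) (kj xj2 yj1 zj6) (kj xj2 yj19 zj7) (kj xj1 yj13 zj34) (kj xj2 yj19 zj9) (kj xj2 yj1 zj10) (kj xj2 yj1 zj11) (kj xj1 yj13 zj37) (kj xj2 yj19 zj14) (kj xj1 yj13 zj46) (kj xj1 yj13 zj47) (kj xj1 yj13 zj48) (kj xj1 yj13 zj49) (kj xj1 yj13 zj50) (kj xj2 yj19 zj25) (kj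 xj1 yj14 zj1) (kj xj2 yj19 zj28) (kj xj1 yj14 zj3) (kj xj1 yj14 zj4) (kj xj1 yj13 zj44) (kj xj2 yj19 zj15) (kj xj2 yj19 zj16) (kj xj2 yj19 zj17) (kj xj2 yj19 zj37) (kj xj2 yj19 zj19) (kj xj2 yj19 zj20) (kj xj2 yj19 zj21) (kj xj2 yj19 zj45) (kj xj2 yj19 zj23) (kj xj2 yj19 zj24) (kj xj1 yj14 zj0) (kj xj2 yj19 zj49) (kj xj2 yj19 zj27) (kj xj1 yj14 zj2) (kj xj2 yj20 zj2) (kj xj2 yj19 zj30) (kj xj2 yj1 zj41) (kj xj2 yj1 zj42) (kj xj2 yj1 zj43) (kj xj2 yj20 zj10) (kj xj2 yj1 zj45) (kj xj2 yj1 zj46) (kj xj1 yj14 zj9) (kj xj2 yj1 zj48) (kj xj2 yj20 zj15) (kj xj2 yj1 zj50)) (@D3.rec (fun _ => Pt) (kj xj2 yj2 zj0) (kj xj2 yj2 zj1) (kj xj2 yj20 zj22) (kj xj2 yj2 zj3) (kj xj1 yj14 zj13) (kj xj2 yj20 zj26) (kj xj2 yj2 zj6) (kj xj2 yj20 zj28) (kj xj1 yj14 zj17) (kj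 xj2 yj20 zj30) (kj xj2 yj2 zj10) (kj xj2 yj2 zj11) (kj xj1 yj14 zj20) (kj xj2 yj20 zj35) (kj xj2 yj20 zj37) (kj xj2 yj2 zj15) (kj xj1 yj14 zj23) (kj xj2 yj20 zj41) (kj xj2 yj2 zj18) (kj xj2 yj20 zj43) (kj xj1 yj14 zj27) (kj xj2 yj20 zj45) (kj xj2 yj2 zj22) (kj xj2 yj2 zj23) (kj xj1 yj14 zj30) (kj xj2 yj20 zj50) (kj xj1 yj14 zj32) (kj xj2 yj21 zj1) (kj xj1 yj14 zj34) (kj xj2 yj21 zj4) (kj xj2 yj21 zj5) (kj xj2 yj2 zj31) (kj xj2 yj2 zj32) (kj xj1 yj14 zj38) (kj xj2 yj2 zj34) (kj xj1 yj14 zj40) (kj xj1 yj14 zj43) (kj xj1 yj14 zj42) (kj xj2 yj21 zj3) (kj xj2 yj2 zj39) (kj xj2 yj2 zj40) (kj xj2 yj2 zj41) (kj xj2 yj2 zj42) (kj xj2 yj2 zj43) (kj xj2 yj2 zj44) (kj xj2 yj2 zj45) (kj xj2 yj2 zj46) (kj xj2 yj2 zj47) (kj xj2 yj2 zj48) (kj xj2 yj2 zj49) (kj xj2 yj2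 zj50)) (@D3.rec (fun _ => Pt) (kj xj2 yj3 zj0) (kj xj1 yj15 zj13) (kj xj1 yj15 zj14) (kj xj1 yj15 zj15) (kj xj1 yj15 zj16) (kj xj1 yj15 zj17) (kj xj1 yj15 zj18) (kj xj1 yj15 zj19) (kj xj1 yj15 zj20) (kj xj1 yj15 zj21) (kj xj1 yj15 zj22) (kj xj1 yj15 zj23) (kj xj2 yj21 zj41) (kj xj2 yj21 zj29) (kj xj2 yj21 zj30) (kj xj2 yj21 zj31) (kj xj2 yj21 zj32) (kj xj2 yj21 zj33) (kj xj2 yj21 zj48) (kj xj2 yj21 zj35) (kj xj2 yj21 zj36) (kj xj2 yj21 zj37) (kj xj2 yj21 zj38) (kj xj2 yj21 zj39) (kj xj2 yj22 zj7) (kj xj1 yj15 zj24) (kj xj1 yj15 zj34) (kj xj1 yj15 zj35) (kj xj1 yj15 zj36) (kj xj1 yj15 zj37) (kj xj2 yj22 zj13) (kj xj1 yj15 zj39) (kj xj1 yj15 zj40) (kj xj1 yj15 zj41) (kj xj1 yj15 zj42) (kj xj1 yj15 zj43) (kj xj2 yj22 zj24) (kj xj1 yj15 zj33) (kj xj2 yj22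 zj25) (kj xj2 yj22 zj9) (kj xj2 yj22 zj10) (kj xj2 yj22 zj11) (kj xj2 yj22 zj31) (kj xj1 yj15 zj38) (kj xj2 yj22 zj14) (kj xj2 yj22 zj15) (kj xj2 yj22 zj16) (kj xj2 yj22 zj17) (kj xj2 yj22 zj18) (kj xj2 yj22 zj42) (kj xj2 yj22 zj20)) (@D3.rec (fun _ => Pt) (kj xj2 yj22 zj45) (kj xj2 yj22 zj22) (kj xj2 yj22 zj23) (kj xj1 yj15 zj44) (kj xj1 yj15 zj46) (kj xj2 yj4 zj5) (kj xj2 yj4 zj6) (kj xj2 yj23 zj0) (kj xj2 yj4 zj8) (kj xj2 yj23 zj2) (kj xj1 yj15 zj50) (kj xj2 yj4 zj11) (kj xj2 yj4 zj12) (kj xj2 yj4 zj13) (kj xj2 yj23 zj9) (kj xj2 yj4 zj15) (kj xj2 yj4 zj16) (kj xj2 yj4 zj17) (kj xj2 yj23 zj16) (kj xj2 yj4 zj19) (kj xj2 yj4 zj20) (kj xj1 yj16 zj6) (kj xj2 yj23 zj20) (kj xj2 yj4 zj23) (kj xj1 yj16 zj8) (kj xj2 yj23 zj24) (kj xj2 yj4 zj26) (kj xj1 yj16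 zj24) (kj xj1 yj16 zj25) (kj xj1 yj16 zj26) (kj xj1 yj16 zj27) (kj xj1 yj16 zj28) (kj xj2 yj23 zj36) (kj xj1 yj16 zj16) (kj xj1 yj16 zj31) (kj xj1 yj16 zj32) (kj xj1 yj16 zj33) (kj xj1 yj16 zj34) (kj xj1 yj16 zj35) (kj xj2 yj23 zj45) (kj xj1 yj16 zj37) (kj xj2 yj22 zj44) (kj xj1 yj16 zj39) (kj xj1 yj16 zj40) (kj xj1 yj16 zj22) (kj xj2 yj23 zj26) (kj xj2 yj23 zj27) (kj xj2 yj23 zj28) (kj xj2 yj23 zj29) (kj xj2 yj23 zj30) (kj xj2 yj24 zj4)) (@D3.rec (fun _ => Pt) (kj xj2 yj23 zj32) (kj xj2 yj24 zj7) (kj xj2 yj23 zj34) (kj xj2 yj23 zj35) (kj xj1 yj16 zj29) (kj xj2 yj23 zj37) (kj xj2 yj23 zj38) (kj xj2 yj24 zj13) (kj xj2 yj23 zj40) (kj xj2 yj23 zj41) (kj xj2 yj23 zj42) (kj xj2 yj24 zj20) (kj xj2 yj23 zj44) (kj xj1 yj16 zj36) (kj xj2 yj22 zj46) (kj xj2 yj22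 zj21) (kj xj1 yj16 zj38) (kj xj2 yj22 zj43) (kj xj2 yj23 zj46) (kj xj2 yj5 zj19) (kj xj2 yj5 zj20) (kj xj2 yj24 zj27) (kj xj2 yj5 zj22) (kj xj2 yj5 zj23) (kj xj2 yj5 zj24) (kj xj2 yj24 zj33) (kj xj2 yj5 zj26) (kj xj1 yj16 zj47) (kj xj2 yj24 zj36) (kj xj2 yj5 zj29) (kj xj1 yj16 zj49) (kj xj2 yj24 zj40) (kj xj2 yj5 zj32) (kj xj2 yj5 zj33) (kj xj2 yj5 zj34) (kj xj2 yj24 zj45) (kj xj1 yj17 zj4) (kj xj2 yj5 zj37) (kj xj2 yj24 zj49) (kj xj2 yj5 zj39) (kj xj2 yj5 zj40) (kj xj2 yj25 zj3) (kj xj2 yj5 zj42) (kj xj1 yj17 zj8) (kj xj2 yj25 zj5) (kj xj2 yj23 zj21) (kj xj1 yj17 zj11) (kj xj2 yj23 zj19) (kj xj2 yj5 zj48) (kj xj1 yj17 zj14) (kj xj2 yj25 zj7)) (@D3.rec (fun _ => Pt) (kj xj2 yj6 zj0) (kj xj2 yj6 zj1) (kj xj2 yj25 zj12) (kj xj2 yj6 zj3) (kj xj1 yj17 zj19)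 (kj xj2 yj6 zj5) (kj xj2 yj25 zj17) (kj xj2 yj6 zj7) (kj xj2 yj25 zj20) (kj xj2 yj6 zj9) (kj xj1 yj17 zj23) (kj xj2 yj25 zj23) (kj xj2 yj25 zj24) (kj xj1 yj17 zj26) (kj xj2 yj25 zj26) (kj xj2 yj6 zj15) (kj xj1 yj17 zj29) (kj xj2 yj6 zj17) (kj xj2 yj6 zj18) (kj xj2 yj25 zj33) (kj xj2 yj25 zj35) (kj xj1 yj17 zj33) (kj xj2 yj6 zj22) (kj xj2 yj25 zj39) (kj xj1 yj17 zj36) (kj xj2 yj25 zj40) (kj xj1 yj17 zj37) (kj xj1 yj17 zj39) (kj xj1 yj18 zj1) (kj xj1 yj18 zj2) (kj xj2 yj25 zj44) (kj xj1 yj18 zj4) (kj xj1 yj18 zj5) (kj xj1 yj18 zj6) (kj xj2 yj26 zj0) (kj xj1 yj18 zj8) (kj xj1 yj17 zj46) (kj xj2 yj22 zj6) (kj xj1 yj18 zj11) (kj xj1 yj17 zj48) (kj xj2 yj22 zj4) (kj xj1 yj18 zj14) (kj xj2 yj25 zj41) (kj xj2 yj25 zj42) (kj xj2 yj26 zj7) (kj xj1 yj18 zj3) (kj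 xj2 yj25 zj45) (kj xj2 yj26 zj11) (kj xj2 yj25 zj47) (kj xj2 yj25 zj48) (kj xj2 yj26 zj15)) (@D3.rec (fun _ => Pt) (kj xj2 yj25 zj50) (kj xj1 yj18 zj7) (kj xj2 yj26 zj18) (kj xj1 yj18 zj10) (kj xj2 yj22 zj5) (kj xj2 yj21 zj40) (kj xj2 yj26 zj2) (kj xj1 yj18 zj13) (kj xj2 yj26 zj21) (kj xj2 yj26 zj22) (kj xj1 yj18 zj16) (kj xj1 yj18 zj18) (kj xj2 yj26 zj23) (kj xj2 yj7 zj13) (kj xj2 yj7 zj14) (kj xj1 yj18 zj22) (kj xj1 yj18 zj24) (kj xj1 yj18 zj37) (kj xj1 yj18 zj38) (kj xj2 yj7 zj19) (kj xj1 yj18 zj39) (kj xj2 yj7 zj21) (kj xj1 yj18 zj40) (kj xj1 yj18 zj41) (kj xj2 yj7 zj24) (kj xj1 yj18 zj42) (kj xj2 yj7 zj26) (kj xj2 yj7 zj27) (kj xj2 yj7 zj28) (kj xj1 yj18 zj43) (kj xj1 yj18 zj44) (kj xj2 yj7 zj31) (kj xj2 yj26 zj27) (kj xj2 yj26 zj30) (kj xj2 yj26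 zj32) (kj xj2 yj26 zj34) (kj xj2 yj26 zj35) (kj xj2 yj26 zj38) (kj xj2 yj21 zj28) (kj xj2 yj26 zj40) (kj xj2 yj7 zj40) (kj xj2 yj7 zj41) (kj xj2 yj7 zj42) (kj xj2 yj7 zj43) (kj xj2 yj7 zj44) (kj xj2 yj7 zj45) (kj xj2 yj7 zj46) (kj xj2 yj7 zj47) (kj xj2 yj7 zj48) (kj xj2 yj7 zj49) (kj xj2 yj7 zj50)) (@D3.rec (fun _ => Pt) (kj xj2 yj8 zj0) (kj xj2 yj8 zj1) (kj xj2 yj8 zj2) (kj xj2 yj8 zj3) (kj xj1 yj22 zj19) (kj xj1 yj19 zj18) (kj xj1 yj19 zj19) (kj xj1 yj19 zj20) (kj xj1 yj19 zj21) (kj xj1 yj19 zj22) (kj xj1 yj19 zj23) (kj xj3 yj0 zj17) (kj xj1 yj19 zj25) (kj xj1 yj19 zj26) (kj xj1 yj19 zj27) (kj xj1 yj19 zj28) (kj xj1 yj22 zj10) (kj xj1 yj19 zj17) (kj xj3 yj0 zj12) (kj xj3 yj0 zj13) (kj xj3 yj0 zj21) (kj xj3 yj0 zj15) (kj xj3 yj0 zj24) (kj xj1 yj19 zj24)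 (kj xj3 yj0 zj11) (kj xj3 yj0 zj16) (kj xj3 yj0 zj18) (kj xj3 yj0 zj23) (kj xj1 yj22 zj2) (kj xj1 yj22 zj9) (kj xj1 yj21 zj50) (kj xj1 yj19 zj29) (kj xj3 yj0 zj28) (kj xj1 yj19 zj42) (kj xj3 yj0 zj26) (kj xj1 yj19 zj34) (kj xj1 yj19 zj45) (kj xj1 yj19 zj46) (kj xj1 yj19 zj47) (kj xj3 yj0 zj22) (kj xj1 yj19 zj49) (kj xj1 yj20 zj44) (kj xj1 yj20 zj0) (kj xj1 yj19 zj39) (kj xj1 yj19 zj41) (kj xj3 yj0 zj29) (kj xj3 yj0 zj34) (kj xj1 yj19 zj43) (kj xj3 yj0 zj31) (kj xj3 yj0 zj30) (kj xj3 yj0 zj33)) (@D3.rec (fun _ => Pt) (kj xj3 yj0 zj32) (kj xj1 yj19 zj48) (kj xj1 yj20 zj46) (kj xj1 yj20 zj27) (kj xj1 yj19 zj50) (kj xj1 yj20 zj43) (kj xj3 yj0 zj40) (kj xj1 yj20 zj4) (kj xj2 yj9 zj8) (kj xj3 yj0 zj43) (kj xj3 yj0 zj39) (kj xj2 yj9 zj11) (kj xj1 yj20 zj8) (kj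 xj3 yj0 zj46) (kj xj1 yj21 zj12) (kj xj1 yj20 zj11) (kj xj1 yj21 zj10) (kj xj2 yj9 zj17) (kj xj1 yj20 zj14) (kj xj1 yj20 zj30) (kj xj1 yj20 zj31) (kj xj1 yj20 zj32) (kj xj3 yj1 zj0) (kj xj1 yj20 zj34) (kj xj3 yj0 zj35) (kj xj1 yj20 zj36) (kj xj1 yj20 zj20) (kj xj1 yj20 zj38) (kj xj3 yj1 zj3) (kj xj1 yj20 zj40) (kj xj3 yj0 zj37) (kj xj1 yj20 zj25) (kj xj3 yj0 zj47) (kj xj3 yj1 zj6) (kj xj3 yj0 zj49) (kj xj3 yj1 zj8) (kj xj1 yj20 zj33) (kj xj3 yj0 zj36) (kj xj3 yj0 zj50) (kj xj1 yj20 zj35) (kj xj3 yj1 zj7) (kj xj3 yj1 zj1) (kj xj3 yj1 zj10) (kj xj1 yj20 zj39) (kj xj3 yj0 zj38) (kj xj1 yj20 zj41) (kj xj2 yj9 zj46) (kj xj3 yj1 zj12) (kj xj1 yj20 zj48) (kj xj3 yj1 zj14) (kj xj1 yj20 zj50)) (@D3.rec (fun _ => Pt) (kj xj3 yj0 zj42) (kj xj1 yj21 zj1) (kj xj3 yj1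 zj13) (kj xj2 yj10 zj3) (kj xj1 yj21 zj4) (kj xj3 yj1 zj17) (kj xj1 yj21 zj6) (kj xj3 yj0 zj44) (kj xj1 yj21 zj8) (kj xj2 yj10 zj9) (kj xj2 yj10 zj10) (kj xj3 yj1 zj23) (kj xj2 yj10 zj12) (kj xj3 yj1 zj26) (kj xj2 yj10 zj14) (kj xj1 yj21 zj18) (kj xj3 yj1 zj29) (kj xj2 yj10 zj17) (kj xj3 yj1 zj32) (kj xj2 yj10 zj19) (kj xj1 yj21 zj22) (kj xj3 yj1 zj34) (kj xj2 yj10 zj22) (kj xj3 yj1 zj15) (kj xj1 yj21 zj25) (kj xj3 yj1 zj37) (kj xj2 yj10 zj26) (kj xj1 yj21 zj28) (kj xj1 yj21 zj29) (kj xj3 yj1 zj38) (kj xj1 yj21 zj31) (kj xj3 yj1 zj36) (kj xj2 yj10 zj32) (kj xj2 yj10 zj33) (kj xj3 yj1 zj42) (kj xj2 yj10 zj35) (kj xj3 yj1 zj45) (kj xj1 yj21 zj36) (kj xj3 yj1 zj46) (kj xj1 yj21 zj37) (kj xj3 yj1 zj31) (kj xj3 yj1 zj30) (kj xj1 yj21 zj40) (kj xj1 yj21 zj42)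 (kj xj1 yj22 zj3) (kj xj3 yj1 zj48) (kj xj1 yj21 zj46) (kj xj3 yj0 zj27) (kj xj1 yj21 zj48) (kj xj3 yj1 zj49) (kj xj1 yj22 zj4)) (@D3.rec (fun _ => Pt) (kj xj1 yj22 zj6) (kj xj2 yj11 zj1) (kj xj2 yj11 zj2) (kj xj2 yj11 zj3) (kj xj2 yj11 zj4) (kj xj2 yj11 zj5) (kj xj2 yj11 zj6) (kj xj2 yj11 zj7) (kj xj1 yj22 zj28) (kj xj3 yj2 zj4) (kj xj3 yj2 zj5) (kj xj2 yj11 zj11) (kj xj1 yj22 zj31) (kj xj1 yj22 zj32) (kj xj3 yj2 zj11) (kj xj3 yj2 zj12) (kj xj3 yj2 zj13) (kj xj1 yj22 zj35) (kj xj1 yj22 zj36) (kj xj1 yj22 zj37) (kj xj3 yj2 zj19) (kj xj3 yj2 zj20) (kj xj3 yj2 zj21) (kj xj3 yj2 zj22) (kj xj3 yj2 zj30) (kj xj2 yj11 zj25) (kj xj2 yj11 zj26) (kj xj2 yj11 zj27) (kj xj2 yj11 zj28) (kj xj2 yj11 zj29) (kj xj3 yj2 zj41) (kj xj1 yj22 zj42) (kj xj2 yj11 zj32) (kj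 xj2 yj11 zj33) (kj xj2 yj11 zj34) (kj xj1 yj22 zj48) (kj xj1 yj22 zj49) (kj xj1 yj22 zj50) (kj xj1 yj23 zj0) (kj xj1 yj23 zj1) (kj xj3 yj2 zj47) (kj xj3 yj2 zj48) (kj xj3 yj2 zj49) (kj xj3 yj2 zj50) (kj xj3 yj3 zj0) (kj xj3 yj3 zj1) (kj xj3 yj3 zj2) (kj xj3 yj3 zj14) (kj xj1 yj23 zj7) (kj xj1 yj23 zj8) (kj xj1 yj23 zj9)) (@D3.rec (fun _ => Pt) (kj xj1 yj23 zj10) (kj xj1 yj23 zj11) (kj xj1 yj23 zj12) (kj xj1 yj23 zj13) (kj xj3 yj3 zj25) (kj xj3 yj3 zj15) (kj xj3 yj3 zj16) (kj xj3 yj3 zj17) (kj xj3 yj3 zj31) (kj xj3 yj3 zj19) (kj xj3 yj3 zj20) (kj xj3 yj3 zj21) (kj xj3 yj3 zj22) (kj xj3 yj3 zj23) (kj xj3 yj3 zj42) (kj xj1 yj23 zj14) (kj xj2 yj12 zj16) (kj xj2 yj12 zj17) (kj xj2 yj12 zj18) (kj xj2 yj12 zj19) (kj xj3 yj4 zj0) (kj xj1 yj23 zj18) (kj xj2 yj12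 zj22) (kj xj2 yj12 zj23) (kj xj2 yj12 zj24) (kj xj2 yj12 zj25) (kj xj2 yj12 zj26) (kj xj3 yj4 zj11) (kj xj2 yj12 zj28) (kj xj3 yj4 zj14) (kj xj2 yj12 zj30) (kj xj2 yj12 zj31) (kj xj1 yj23 zj24) (kj xj1 yj23 zj36) (kj xj1 yj23 zj37) (kj xj1 yj23 zj38) (kj xj1 yj23 zj39) (kj xj1 yj23 zj40) (kj xj1 yj23 zj41) (kj xj1 yj23 zj42) (kj xj3 yj4 zj28) (kj xj1 yj23 zj44) (kj xj1 yj23 zj45) (kj xj1 yj23 zj46) (kj xj1 yj23 zj47) (kj xj1 yj23 zj48) (kj xj3 yj4 zj39) (kj xj1 yj23 zj35) (kj xj3 yj4 zj17) (kj xj3 yj4 zj18) (kj xj3 yj4 zj19)) (@D3.rec (fun _ => Pt) (kj xj3 yj4 zj20) (kj xj3 yj4 zj46) (kj xj3 yj4 zj22) (kj xj3 yj4 zj23) (kj xj3 yj4 zj24) (kj xj3 yj4 zj25) (kj xj3 yj4 zj26) (kj xj3 yj5 zj6) (kj xj1 yj23 zj43) (kj xj3 yj4 zj29) (kj xj3 yj4 zj30) (kj xj3 yj4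 zj31) (kj xj3 yj4 zj32) (kj xj3 yj4 zj33) (kj xj3 yj5 zj17) (kj xj3 yj4 zj35) (kj xj3 yj5 zj20) (kj xj3 yj4 zj37) (kj xj3 yj4 zj38) (kj xj1 yj23 zj49) (kj xj2 yj13 zj20) (kj xj2 yj13 zj21) (kj xj2 yj13 zj22) (kj xj2 yj13 zj23) (kj xj2 yj13 zj24) (kj xj3 yj5 zj33) (kj xj1 yj24 zj4) (kj xj2 yj13 zj27) (kj xj2 yj13 zj28) (kj xj2 yj13 zj29) (kj xj2 yj13 zj30) (kj xj2 yj13 zj31) (kj xj3 yj5 zj44) (kj xj2 yj13 zj33) (kj xj3 yj5 zj47) (kj xj2 yj13 zj35) (kj xj2 yj13 zj36) (kj xj1 yj24 zj10) (kj xj2 yj13 zj38) (kj xj2 yj13 zj39) (kj xj2 yj13 zj40) (kj xj3 yj6 zj6) (kj xj2 yj13 zj42) (kj xj2 yj13 zj43) (kj xj2 yj13 zj44) (kj xj3 yj6 zj14) (kj xj2 yj13 zj46) (kj xj2 yj13 zj47) (kj xj1 yj24 zj17) (kj xj3 yj6 zj18) (kj xj2 yj13 zj50)) (@D3.rec (fun _ => Pt) (kj xj1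 yj24 zj19) (kj xj3 yj6 zj22) (kj xj2 yj14 zj2) (kj xj2 yj14 zj3) (kj xj2 yj14 zj4) (kj xj3 yj6 zj27) (kj xj1 yj24 zj27) (kj xj2 yj14 zj7) (kj xj2 yj14 zj8) (kj xj3 yj6 zj31) (kj xj2 yj14 zj10) (kj xj3 yj6 zj34) (kj xj2 yj14 zj12) (kj xj1 yj24 zj33) (kj xj2 yj14 zj14) (kj xj3 yj6 zj38) (kj xj2 yj14 zj16) (kj xj2 yj14 zj17) (kj xj3 yj6 zj43) (kj xj2 yj14 zj19) (kj xj1 yj24 zj40) (kj xj3 yj6 zj46) (kj xj2 yj14 zj22) (kj xj1 yj24 zj42) (kj xj3 yj6 zj50) (kj xj2 yj14 zj25) (kj xj2 yj14 zj26) (kj xj2 yj14 zj27) (kj xj3 yj7 zj5) (kj xj2 yj14 zj29) (kj xj1 yj24 zj49) (kj xj2 yj14 zj31) (kj xj3 yj7 zj10) (kj xj2 yj14 zj33) (kj xj3 yj7 zj13) (kj xj2 yj14 zj35) (kj xj1 yj25 zj2) (kj xj3 yj7 zj17) (kj xj2 yj14 zj38) (kj xj3 yj7 zj19) (kj xj1 yj25 zj6) (kj xj3 yj7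 zj21) (kj xj2 yj14 zj42) (kj xj2 yj14 zj43) (kj xj1 yj25 zj9) (kj xj3 yj7 zj26) (kj xj2 yj14 zj46) (kj xj2 yj14 zj47) (kj xj2 yj14 zj48) (kj xj2 yj14 zj49) (kj xj2 yj14 zj50)) (@D3.rec (fun _ => Pt) (kj xj2 yj15 zj0) (kj xj2 yj15 zj1) (kj xj2 yj15 zj2) (kj xj1 yj25 zj24) (kj xj1 yj25 zj25) (kj xj1 yj25 zj26) (kj xj1 yj25 zj27) (kj xj1 yj25 zj28) (kj xj1 yj25 zj29) (kj xj1 yj25 zj30) (kj xj1 yj25 zj31) (kj xj1 yj25 zj32) (kj xj1 yj25 zj33) (kj xj3 yj8 zj2) (kj xj3 yj7 zj39) (kj xj3 yj7 zj40) (kj xj3 yj7 zj41) (kj xj3 yj7 zj42) (kj xj3 yj7 zj43) (kj xj3 yj7 zj44) (kj xj3 yj7 zj45) (kj xj3 yj8 zj13) (kj xj3 yj7 zj47) (kj xj3 yj7 zj48) (kj xj3 yj7 zj49) (kj xj3 yj7 zj50) (kj xj3 yj8 zj0) (kj xj3 yj8 zj24) (kj xj1 yj25 zj34) (kj xj1 yj25 zj45) (kj xj1 yj25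 zj46) (kj xj1 yj25 zj47) (kj xj1 yj25 zj48) (kj xj1 yj25 zj49) (kj xj3 yj8 zj33) (kj xj1 yj26 zj0) (kj xj1 yj26 zj1) (kj xj1 yj26 zj2) (kj xj1 yj26 zj3) (kj xj1 yj26 zj4) (kj xj3 yj8 zj44) (kj xj1 yj25 zj44) (kj xj3 yj8 zj25) (kj xj3 yj8 zj26) (kj xj3 yj8 zj48) (kj xj3 yj8 zj28) (kj xj3 yj8 zj29) (kj xj3 yj8 zj30) (kj xj3 yj8 zj31) (kj xj3 yj9 zj6) (kj xj1 yj25 zj50)) (@D3.rec (fun _ => Pt) (kj xj3 yj8 zj34) (kj xj3 yj8 zj35) (kj xj3 yj8 zj36) (kj xj3 yj8 zj37) (kj xj3 yj8 zj38) (kj xj3 yj9 zj17) (kj xj3 yj8 zj40) (kj xj3 yj9 zj20) (kj xj3 yj8 zj42) (kj xj3 yj8 zj43) (kj xj1 yj26 zj5) (kj xj2 yj16 zj11) (kj xj2 yj16 zj12) (kj xj3 yj9 zj27) (kj xj1 yj26 zj9) (kj xj2 yj16 zj15) (kj xj2 yj16 zj16) (kj xj2 yj16 zj17) (kj xj3 yj9 zj34) (kj xj2 yj16 zj19) (kj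 xj3 yj9 zj37) (kj xj2 yj16 zj21) (kj xj2 yj16 zj22) (kj xj1 yj26 zj14) (kj xj2 yj16 zj24) (kj xj2 yj16 zj25) (kj xj2 yj16 zj26) (kj xj3 yj9 zj47) (kj xj2 yj16 zj28) (kj xj2 yj16 zj29) (kj xj2 yj16 zj30) (kj xj3 yj10 zj4) (kj xj2 yj16 zj32) (kj xj2 yj16 zj33) (kj xj1 yj26 zj21) (kj xj3 yj10 zj8) (kj xj2 yj16 zj36) (kj xj1 yj26 zj23) (kj xj3 yj10 zj12) (kj xj2 yj16 zj39) (kj xj1 yj26 zj39) (kj xj1 yj26 zj40) (kj xj1 yj26 zj41) (kj xj1 yj26 zj42) (kj xj1 yj26 zj43) (kj xj3 yj10 zj24) (kj xj1 yj26 zj31) (kj xj1 yj26 zj46) (kj xj1 yj26 zj47) (kj xj1 yj26 zj48) (kj xj1 yj26 zj49)) (@D3.rec (fun _ => Pt) (kj xj1 yj26 zj50) (kj xj3 yj10 zj35) (kj xj2 yj0 zj1) (kj xj3 yj10 zj38) (kj xj2 yj0 zj3) (kj xj2 yj0 zj4) (kj xj1 yj26 zj37) (kj xj3 yj10 zj14) (kj xj3 yj10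 zj15) (kj xj3 yj10 zj16) (kj xj3 yj10 zj17) (kj xj3 yj10 zj18) (kj xj3 yj11 zj0) (kj xj3 yj10 zj20) (kj xj3 yj11 zj3) (kj xj3 yj10 zj22) (kj xj3 yj10 zj23) (kj xj1 yj26 zj44) (kj xj3 yj10 zj25) (kj xj3 yj10 zj26) (kj xj3 yj10 zj27) (kj xj3 yj11 zj13) (kj xj3 yj10 zj29) (kj xj3 yj10 zj30) (kj xj3 yj10 zj31) (kj xj3 yj11 zj21) (kj xj3 yj10 zj33) (kj xj3 yj10 zj34) (kj xj2 yj0 zj0) (kj xj3 yj11 zj25) (kj xj3 yj10 zj37) (kj xj2 yj0 zj2) (kj xj3 yj11 zj29) (kj xj3 yj10 zj40) (kj xj2 yj17 zj34) (kj xj2 yj17 zj35) (kj xj2 yj17 zj36) (kj xj3 yj11 zj38) (kj xj2 yj17 zj38) (kj xj2 yj17 zj39) (kj xj2 yj17 zj40) (kj xj3 yj11 zj46) (kj xj2 yj17 zj42) (kj xj2 yj17 zj43) (kj xj2 yj0 zj11) (kj xj3 yj11 zj50) (kj xj2 yj17 zj46) (kj xj2 yj0 zj13) (kj xj3 yj12 zj3) (kj xj2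 yj17 zj49) (kj xj2 yj17 zj50)) (@D3.rec (fun _ => Pt) (kj xj2 yj18 zj0) (kj xj2 yj18 zj1) (kj xj2 yj18 zj2) (kj xj3 yj12 zj12) (kj xj2 yj18 zj4) (kj xj2 yj18 zj5) (kj xj2 yj0 zj20) (kj xj2 yj18 zj7) (kj xj3 yj12 zj18) (kj xj2 yj18 zj9) (kj xj2 yj18 zj10) (kj xj2 yj18 zj11) (kj xj3 yj12 zj25) (kj xj2 yj18 zj13) (kj xj2 yj0 zj24) (kj xj3 yj12 zj29) (kj xj2 yj18 zj16) (kj xj3 yj12 zj31) (kj xj2 yj0 zj28) (kj xj3 yj12 zj33) (kj xj2 yj18 zj20) (kj xj2 yj18 zj21) (kj xj2 yj0 zj31) (kj xj3 yj12 zj38) (kj xj2 yj18 zj24) (kj xj3 yj12 zj40) (kj xj2 yj0 zj34) (kj xj2 yj18 zj27) (kj xj3 yj12 zj43) (kj xj3 yj12 zj45) (kj xj2 yj18 zj30) (kj xj2 yj0 zj37) (kj xj3 yj12 zj48) (kj xj3 yj12 zj49) (kj xj2 yj0 zj40) (kj xj3 yj13 zj0) (kj xj2 yj18 zj36) (kj xj2 yj18 zj37) (kj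 xj2 yj0 zj43) (kj xj3 yj13 zj5) (kj xj2 yj18 zj40) (kj xj3 yj13 zj8) (kj xj3 yj13 zj10) (kj xj2 yj18 zj43) (kj xj2 yj0 zj47) (kj xj3 yj13 zj13) (kj xj2 yj18 zj46) (kj xj3 yj13 zj17) (kj xj2 yj18 zj48) (kj xj2 yj1 zj0) (kj xj3 yj13 zj20)) (@D3.rec (fun _ => Pt) (kj xj3 yj13 zj21) (kj xj2 yj1 zj2) (kj xj3 yj13 zj23) (kj xj2 yj19 zj3) (kj xj2 yj19 zj4) (kj xj2 yj1 zj5) (kj xj3 yj13 zj28) (kj xj2 yj1 zj7) (kj xj3 yj13 zj30) (kj xj2 yj1 zj9) (kj xj3 yj13 zj33) (kj xj3 yj13 zj34) (kj xj2 yj19 zj12) (kj xj2 yj19 zj13) (kj xj2 yj1 zj13) (kj xj2 yj1 zj25) (kj xj2 yj1 zj26) (kj xj2 yj1 zj27) (kj xj3 yj13 zj46) (kj xj2 yj1 zj29) (kj xj2 yj1 zj30) (kj xj2 yj1 zj31) (kj xj3 yj14 zj3) (kj xj2 yj1 zj33) (kj xj2 yj1 zj34) (kj xj2 yj1 zj19) (kj xj3 yj14 zj7) (kj xj2 yj1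 zj37) (kj xj2 yj1 zj21) (kj xj3 yj14 zj11) (kj xj2 yj1 zj40) (kj xj3 yj13 zj40) (kj xj3 yj13 zj41) (kj xj3 yj13 zj42) (kj xj3 yj14 zj19) (kj xj3 yj13 zj44) (kj xj3 yj13 zj45) (kj xj2 yj1 zj28) (kj xj3 yj13 zj47) (kj xj3 yj14 zj25) (kj xj3 yj13 zj49) (kj xj3 yj13 zj50) (kj xj3 yj14 zj0) (kj xj3 yj14 zj32) (kj xj3 yj14 zj2) (kj xj2 yj1 zj32) (kj xj3 yj14 zj36) (kj xj3 yj14 zj5) (kj xj3 yj14 zj38) (kj xj2 yj1 zj36) (kj xj3 yj14 zj40)) (@D3.rec (fun _ => Pt) (kj xj3 yj14 zj9) (kj xj3 yj14 zj10) (kj xj2 yj1 zj39) (kj xj3 yj14 zj45) (kj xj2 yj20 zj4) (kj xj3 yj14 zj48) (kj xj2 yj20 zj6) (kj xj2 yj20 zj7) (kj xj3 yj15 zj1) (kj xj2 yj20 zj9) (kj xj2 yj1 zj44) (kj xj3 yj15 zj5) (kj xj2 yj20 zj12) (kj xj3 yj15 zj8) (kj xj2 yj20 zj14) (kj xj2 yj1 zj49) (kj xj3 yj15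 zj12) (kj xj2 yj20 zj17) (kj xj2 yj20 zj18) (kj xj2 yj20 zj19) (kj xj2 yj20 zj20) (kj xj3 yj15 zj19) (kj xj2 yj2 zj2) (kj xj3 yj15 zj21) (kj xj2 yj20 zj24) (kj xj2 yj20 zj25) (kj xj2 yj2 zj5) (kj xj3 yj15 zj26) (kj xj2 yj2 zj7) (kj xj3 yj15 zj28) (kj xj2 yj2 zj9) (kj xj3 yj15 zj31) (kj xj3 yj15 zj32) (kj xj2 yj20 zj33) (kj xj2 yj20 zj34) (kj xj2 yj2 zj13) (kj xj3 yj15 zj38) (kj xj2 yj2 zj14) (kj xj3 yj15 zj40) (kj xj2 yj20 zj39) (kj xj2 yj20 zj40) (kj xj2 yj2 zj17) (kj xj3 yj15 zj45) (kj xj2 yj2 zj19) (kj xj3 yj15 zj47) (kj xj2 yj2 zj21) (kj xj3 yj15 zj50) (kj xj3 yj16 zj0) (kj xj2 yj20 zj48) (kj xj2 yj20 zj49) (kj xj2 yj2 zj25)) (@D3.rec (fun _ => Pt) (kj xj2 yj21 zj0) (kj xj2 yj2 zj27) (kj xj3 yj16 zj6) (kj xj2 yj2 zj38) (kj xj2 yj2 zj29) (kj xj2 yj2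 zj30) (kj xj3 yj16 zj9) (kj xj3 yj16 zj7) (kj xj2 yj21 zj8) (kj xj2 yj21 zj9) (kj xj2 yj21 zj10) (kj xj3 yj15 zj49) (kj xj2 yj21 zj12) (kj xj2 yj21 zj13) (kj xj2 yj21 zj14) (kj xj2 yj21 zj15) (kj xj2 yj21 zj16) (kj xj2 yj21 zj17) (kj xj2 yj21 zj18) (kj xj2 yj21 zj19) (kj xj2 yj21 zj20) (kj xj2 yj21 zj21) (kj xj2 yj21 zj22) (kj xj2 yj21 zj23) (kj xj2 yj21 zj24) (kj xj2 yj21 zj25) (kj xj2 yj21 zj26) (kj xj2 yj21 zj27) (kj xj2 yj7 zj38) (kj xj2 yj3 zj13) (kj xj2 yj3 zj14) (kj xj2 yj3 zj15) (kj xj2 yj3 zj16) (kj xj2 yj3 zj17) (kj xj3 yj16 zj36) (kj xj2 yj3 zj19) (kj xj2 yj3 zj20) (kj xj2 yj3 zj21) (kj xj2 yj3 zj22) (kj xj2 yj3 zj23) (kj xj2 yj7 zj5) (kj xj2 yj3 zj12) (kj xj3 yj16 zj30) (kj xj3 yj16 zj44) (kj xj3 yj16 zj32) (kj xj3 yj16 zj33) (kj xj3 yj16 zj34)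 (kj xj3 yj16 zj50) (kj xj2 yj3 zj18) (kj xj3 yj16 zj37) (kj xj3 yj16 zj38)) (@D3.rec (fun _ => Pt) (kj xj3 yj16 zj39) (kj xj3 yj16 zj40) (kj xj3 yj16 zj41) (kj xj3 yj17 zj9) (kj xj2 yj6 zj40) (kj xj2 yj7 zj4) (kj xj2 yj6 zj37) (kj xj2 yj3 zj24) (kj xj3 yj17 zj10) (kj xj2 yj3 zj39) (kj xj2 yj3 zj40) (kj xj2 yj3 zj41) (kj xj3 yj17 zj16) (kj xj2 yj3 zj30) (kj xj2 yj3 zj44) (kj xj2 yj3 zj45) (kj xj2 yj3 zj46) (kj xj2 yj3 zj47) (kj xj2 yj3 zj48) (kj xj3 yj17 zj27) (kj xj2 yj3 zj50) (kj xj2 yj5 zj15) (kj xj2 yj4 zj1) (kj xj2 yj4 zj2) (kj xj2 yj3 zj36) (kj xj2 yj3 zj38) (kj xj3 yj17 zj11) (kj xj3 yj17 zj12) (kj xj3 yj17 zj32) (kj xj3 yj17 zj14) (kj xj3 yj17 zj34) (kj xj2 yj3 zj42) (kj xj3 yj17 zj17) (kj xj3 yj17 zj18) (kj xj3 yj17 zj19) (kj xj3 yj17 zj41) (kj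 xj3 yj17 zj21) (kj xj3 yj17 zj22) (kj xj3 yj17 zj23) (kj xj3 yj17 zj48) (kj xj3 yj17 zj25) (kj xj3 yj17 zj26) (kj xj2 yj3 zj49) (kj xj2 yj5 zj17) (kj xj2 yj4 zj41) (kj xj2 yj4 zj0) (kj xj2 yj5 zj14) (kj xj3 yj17 zj28) (kj xj2 yj22 zj48) (kj xj2 yj22 zj49) (kj xj3 yj18 zj5)) (@D3.rec (fun _ => Pt) (kj xj2 yj4 zj7) (kj xj3 yj18 zj7) (kj xj2 yj4 zj9) (kj xj2 yj23 zj3) (kj xj2 yj23 zj4) (kj xj2 yj23 zj5) (kj xj2 yj23 zj6) (kj xj3 yj18 zj14) (kj xj2 yj23 zj8) (kj xj2 yj4 zj14) (kj xj2 yj23 zj10) (kj xj3 yj18 zj19) (kj xj2 yj23 zj12) (kj xj2 yj23 zj13) (kj xj3 yj18 zj24) (kj xj2 yj23 zj15) (kj xj2 yj4 zj18) (kj xj3 yj18 zj28) (kj xj2 yj23 zj18) (kj xj2 yj5 zj47) (kj xj2 yj4 zj22) (kj xj2 yj5 zj45) (kj xj2 yj23 zj22) (kj xj2 yj23 zj23) (kj xj2 yj4 zj25) (kj xj3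 yj18 zj32) (kj xj2 yj4 zj45) (kj xj2 yj4 zj46) (kj xj2 yj4 zj47) (kj xj2 yj4 zj48) (kj xj2 yj4 zj49) (kj xj3 yj18 zj41) (kj xj2 yj5 zj0) (kj xj3 yj18 zj0) (kj xj2 yj5 zj2) (kj xj2 yj5 zj3) (kj xj2 yj4 zj32) (kj xj2 yj5 zj5) (kj xj2 yj5 zj6) (kj xj3 yj18 zj48) (kj xj2 yj5 zj8) (kj xj2 yj5 zj9) (kj xj2 yj5 zj10) (kj xj3 yj17 zj47) (kj xj2 yj5 zj12) (kj xj2 yj4 zj39) (kj xj2 yj5 zj18) (kj xj3 yj18 zj33) (kj xj3 yj18 zj34) (kj xj3 yj19 zj5) (kj xj3 yj18 zj36)) (@D3.rec (fun _ => Pt) (kj xj3 yj18 zj37) (kj xj3 yj18 zj38) (kj xj3 yj19 zj11) (kj xj3 yj18 zj40) (kj xj2 yj4 zj50) (kj xj3 yj18 zj1) (kj xj3 yj18 zj42) (kj xj2 yj5 zj1) (kj xj3 yj19 zj16) (kj xj3 yj18 zj44) (kj xj3 yj18 zj45) (kj xj3 yj18 zj46) (kj xj3 yj19 zj21) (kj xj2 yj5 zj7) (kj xj3 yj18 zj49)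 (kj xj3 yj19 zj25) (kj xj3 yj19 zj0) (kj xj3 yj19 zj1) (kj xj3 yj17 zj49) (kj xj3 yj17 zj24) (kj xj2 yj5 zj11) (kj xj3 yj17 zj46) (kj xj3 yj17 zj15) (kj xj3 yj17 zj33) (kj xj2 yj24 zj24) (kj xj2 yj24 zj25) (kj xj3 yj19 zj32) (kj xj2 yj5 zj21) (kj xj2 yj24 zj28) (kj xj3 yj19 zj36) (kj xj2 yj24 zj30) (kj xj3 yj19 zj39) (kj xj2 yj24 zj32) (kj xj2 yj5 zj25) (kj xj3 yj19 zj42) (kj xj3 yj18 zj30) (kj xj2 yj5 zj28) (kj xj3 yj19 zj44) (kj xj2 yj24 zj38) (kj xj2 yj24 zj39) (kj xj2 yj5 zj31) (kj xj3 yj19 zj48) (kj xj2 yj24 zj42) (kj xj3 yj20 zj0) (kj xj3 yj20 zj2) (kj xj2 yj5 zj35) (kj xj2 yj24 zj46) (kj xj3 yj20 zj6) (kj xj2 yj24 zj48) (kj xj2 yj5 zj38) (kj xj3 yj20 zj9)) (@D3.rec (fun _ => Pt) (kj xj2 yj25 zj0) (kj xj2 yj25 zj1) (kj xj3 yj18 zj25) (kj xj2 yj5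 zj41) (kj xj3 yj18 zj23) (kj xj2 yj5 zj44) (kj xj3 yj18 zj6) (kj xj2 yj5 zj50) (kj xj2 yj25 zj8) (kj xj3 yj20 zj15) (kj xj3 yj20 zj17) (kj xj2 yj25 zj11) (kj xj2 yj6 zj2) (kj xj3 yj20 zj20) (kj xj2 yj25 zj14) (kj xj3 yj20 zj24) (kj xj2 yj25 zj16) (kj xj2 yj6 zj6) (kj xj3 yj20 zj27) (kj xj3 yj20 zj28) (kj xj2 yj6 zj8) (kj xj3 yj20 zj30) (kj xj2 yj25 zj22) (kj xj2 yj6 zj11) (kj xj2 yj6 zj12) (kj xj3 yj20 zj33) (kj xj2 yj6 zj14) (kj xj3 yj20 zj35) (kj xj2 yj25 zj28) (kj xj2 yj25 zj29) (kj xj3 yj20 zj40) (kj xj2 yj25 zj31) (kj xj3 yj20 zj44) (kj xj2 yj6 zj19) (kj xj3 yj20 zj45) (kj xj2 yj6 zj20) (kj xj3 yj20 zj47) (kj xj2 yj25 zj37) (kj xj3 yj20 zj50) (kj xj2 yj6 zj23) (kj xj2 yj6 zj25) (kj xj2 yj6 zj42) (kj xj2 yj6 zj43) (kj xj3 yj21 zj3) (kj xj2 yj6 zj30)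 (kj xj2 yj6 zj46) (kj xj3 yj21 zj7) (kj xj2 yj6 zj48) (kj xj2 yj6 zj49) (kj xj3 yj17 zj8) (kj xj2 yj7 zj0)) (@D3.rec (fun _ => Pt) (kj xj2 yj6 zj34) (kj xj3 yj17 zj6) (kj xj2 yj7 zj6) (kj xj3 yj16 zj48) (kj xj3 yj21 zj0) (kj xj3 yj21 zj13) (kj xj3 yj21 zj14) (kj xj2 yj6 zj44) (kj xj3 yj21 zj4) (kj xj3 yj21 zj17) (kj xj3 yj21 zj6) (kj xj2 yj6 zj47) (kj xj3 yj21 zj20) (kj xj3 yj21 zj9) (kj xj3 yj21 zj10) (kj xj2 yj6 zj50) (kj xj3 yj17 zj7) (kj xj3 yj16 zj42) (kj xj2 yj7 zj2) (kj xj3 yj16 zj49) (kj xj3 yj16 zj35) (kj xj2 yj7 zj8) (kj xj2 yj7 zj9) (kj xj2 yj7 zj12) (kj xj3 yj21 zj26) (kj xj2 yj26 zj25) (kj xj2 yj26 zj26) (kj xj2 yj7 zj32) (kj xj2 yj26 zj28) (kj xj2 yj26 zj29) (kj xj2 yj7 zj33) (kj xj2 yj26 zj31) (kj xj2 yj7 zj34) (kj xj2 yj26 zj33) (kj xj2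 yj7 zj35) (kj xj2 yj7 zj36) (kj xj2 yj26 zj36) (kj xj2 yj26 zj37) (kj xj2 yj7 zj37) (kj xj2 yj26 zj39) (kj xj2 yj7 zj39) (kj xj3 yj21 zj30) (kj xj3 yj21 zj34) (kj xj3 yj21 zj37) (kj xj3 yj21 zj39) (kj xj3 yj21 zj40) (kj xj3 yj21 zj41) (kj xj3 yj7 zj38) (kj xj3 yj16 zj26) (kj xj3 yj21 zj42) (kj xj3 yj22 zj2))
def f_j_3 : D2 → D3 → Pt := @D2.rec (fun _ => D3 → Pt) (@D3.rec (fun _ => Pt) (kj xj3 yj0 zj0) (kj xj3 yj0 zj1) (kj xj3 yj0 zj2) (kj xj3 yj0 zj3) (kj xj3 yj0 zj4) (kj xj3 yj0 zj5) (kj xj3 yj0 zj6) (kj xj3 yj0 zj7) (kj xj3 yj0 zj8) (kj xj3 yj0 zj9) (kj xj3 yj0 zj10) (kj xj2 yj8 zj24) (kj xj2 yj8 zj18) (kj xj2 yj8 zj19) (kj xj3 yj22 zj14) (kj xj2 yj8 zj21) (kj xj2 yj8 zj25) (kj xj2 yj8 zj11) (kj xj2 yj8 zj26) (kj xj3 yj22 zj12) (kj xj3 yj22 zj16) (kj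 xj2 yj8 zj20) (kj xj2 yj8 zj39) (kj xj2 yj8 zj27) (kj xj2 yj8 zj22) (kj xj3 yj22 zj11) (kj xj2 yj8 zj34) (kj xj2 yj10 zj47) (kj xj2 yj8 zj32) (kj xj2 yj8 zj45) (kj xj2 yj8 zj49) (kj xj2 yj8 zj48) (kj xj2 yj9 zj0) (kj xj2 yj8 zj50) (kj xj2 yj8 zj46) (kj xj2 yj9 zj24) (kj xj2 yj9 zj37) (kj xj2 yj9 zj30) (kj xj2 yj9 zj44) (kj xj2 yj9 zj10) (kj xj2 yj9 zj6) (kj xj3 yj0 zj41) (kj xj2 yj10 zj0) (kj xj2 yj9 zj9) (kj xj2 yj10 zj7) (kj xj3 yj0 zj45) (kj xj2 yj9 zj13) (kj xj2 yj9 zj32) (kj xj3 yj19 zj14) (kj xj2 yj9 zj34) (kj xj2 yj9 zj38)) (@D3.rec (fun _ => Pt) (kj xj2 yj9 zj22) (kj xj2 yj9 zj41) (kj xj3 yj19 zj15) (kj xj2 yj9 zj28) (kj xj3 yj18 zj43) (kj xj3 yj19 zj13) (kj xj2 yj9 zj33) (kj xj2 yj9 zj40) (kj xj2 yj9 zj35) (kj xj3 yj19 zj17) (kj xj2 yj9 zj42)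 (kj xj3 yj19 zj43) (kj xj2 yj9 zj47) (kj xj2 yj10 zj2) (kj xj2 yj9 zj49) (kj xj2 yj10 zj23) (kj xj3 yj19 zj46) (kj xj2 yj10 zj5) (kj xj3 yj1 zj18) (kj xj3 yj22 zj20) (kj xj3 yj1 zj20) (kj xj3 yj22 zj23) (kj xj3 yj1 zj22) (kj xj2 yj10 zj11) (kj xj3 yj22 zj25) (kj xj3 yj19 zj45) (kj xj2 yj10 zj13) (kj xj3 yj20 zj34) (kj xj3 yj1 zj28) (kj xj2 yj10 zj16) (kj xj2 yj10 zj41) (kj xj2 yj10 zj40) (kj xj2 yj10 zj18) (kj xj3 yj22 zj27) (kj xj2 yj10 zj21) (kj xj3 yj22 zj28) (kj xj2 yj10 zj31) (kj xj2 yj10 zj25) (kj xj2 yj10 zj29) (kj xj3 yj22 zj26) (kj xj3 yj1 zj40) (kj xj3 yj22 zj32) (kj xj2 yj10 zj34) (kj xj3 yj22 zj22) (kj xj3 yj22 zj21) (kj xj2 yj10 zj36) (kj xj2 yj10 zj38) (kj xj3 yj21 zj25) (kj xj2 yj10 zj45) (kj xj2 yj10 zj49) (kj xj3 yj1 zj50)) (@D3.rec (fun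 _ => Pt) (kj xj3 yj2 zj0) (kj xj3 yj2 zj1) (kj xj3 yj2 zj2) (kj xj3 yj2 zj3) (kj xj2 yj11 zj9) (kj xj2 yj11 zj10) (kj xj3 yj22 zj37) (kj xj3 yj22 zj38) (kj xj3 yj22 zj39) (kj xj3 yj2 zj9) (kj xj3 yj2 zj10) (kj xj2 yj11 zj14) (kj xj2 yj11 zj15) (kj xj2 yj11 zj16) (kj xj3 yj22 zj48) (kj xj3 yj22 zj49) (kj xj3 yj22 zj50) (kj xj3 yj23 zj0) (kj xj3 yj23 zj8) (kj xj2 yj11 zj20) (kj xj2 yj11 zj21) (kj xj2 yj11 zj22) (kj xj2 yj11 zj23) (kj xj3 yj23 zj15) (kj xj3 yj23 zj9) (kj xj3 yj23 zj10) (kj xj3 yj23 zj11) (kj xj3 yj23 zj12) (kj xj3 yj23 zj13) (kj xj3 yj23 zj26) (kj xj2 yj11 zj24) (kj xj3 yj2 zj31) (kj xj3 yj2 zj32) (kj xj3 yj2 zj33) (kj xj3 yj2 zj34) (kj xj3 yj2 zj35) (kj xj3 yj23 zj37) (kj xj3 yj2 zj37) (kj xj3 yj23 zj40) (kj xj3 yj2 zj39) (kj xj3 yj2 zj40)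 (kj xj2 yj11 zj30) (kj xj3 yj2 zj42) (kj xj3 yj2 zj43) (kj xj3 yj2 zj44) (kj xj3 yj2 zj45) (kj xj3 yj2 zj46) (kj xj2 yj11 zj40) (kj xj2 yj11 zj41) (kj xj2 yj11 zj42) (kj xj2 yj11 zj43)) (@D3.rec (fun _ => Pt) (kj xj2 yj11 zj44) (kj xj2 yj11 zj45) (kj xj2 yj11 zj46) (kj xj3 yj24 zj10) (kj xj3 yj24 zj0) (kj xj3 yj24 zj1) (kj xj3 yj24 zj2) (kj xj3 yj24 zj16) (kj xj3 yj24 zj4) (kj xj3 yj24 zj5) (kj xj3 yj24 zj6) (kj xj3 yj24 zj7) (kj xj3 yj24 zj8) (kj xj3 yj24 zj27) (kj xj2 yj11 zj47) (kj xj2 yj12 zj5) (kj xj2 yj12 zj6) (kj xj2 yj12 zj7) (kj xj3 yj24 zj33) (kj xj2 yj12 zj9) (kj xj2 yj12 zj10) (kj xj2 yj12 zj11) (kj xj2 yj12 zj12) (kj xj2 yj12 zj13) (kj xj3 yj24 zj44) (kj xj2 yj12 zj4) (kj xj3 yj24 zj28) (kj xj3 yj24 zj29) (kj xj3 yj24 zj30) (kj xj3 yj24 zj31)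 (kj xj3 yj25 zj2) (kj xj2 yj12 zj8) (kj xj3 yj24 zj34) (kj xj3 yj24 zj35) (kj xj3 yj24 zj36) (kj xj3 yj24 zj37) (kj xj3 yj24 zj38) (kj xj3 yj25 zj13) (kj xj3 yj24 zj40) (kj xj3 yj25 zj16) (kj xj3 yj24 zj42) (kj xj3 yj24 zj43) (kj xj2 yj12 zj14) (kj xj3 yj3 zj43) (kj xj3 yj3 zj44) (kj xj3 yj3 zj45) (kj xj3 yj25 zj25) (kj xj3 yj3 zj47) (kj xj3 yj25 zj28) (kj xj3 yj3 zj49) (kj xj3 yj3 zj50)) (@D3.rec (fun _ => Pt) (kj xj2 yj12 zj20) (kj xj3 yj4 zj1) (kj xj3 yj4 zj2) (kj xj3 yj4 zj3) (kj xj3 yj25 zj38) (kj xj3 yj4 zj5) (kj xj3 yj4 zj6) (kj xj3 yj4 zj7) (kj xj3 yj25 zj46) (kj xj3 yj4 zj9) (kj xj3 yj4 zj10) (kj xj2 yj12 zj27) (kj xj3 yj25 zj50) (kj xj3 yj4 zj13) (kj xj2 yj12 zj29) (kj xj3 yj26 zj3) (kj xj3 yj4 zj16) (kj xj2 yj12 zj48) (kj xj2 yj12 zj49) (kj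 xj2 yj12 zj50) (kj xj2 yj13 zj0) (kj xj3 yj26 zj11) (kj xj2 yj13 zj2) (kj xj2 yj13 zj3) (kj xj2 yj13 zj4) (kj xj2 yj13 zj5) (kj xj2 yj13 zj6) (kj xj3 yj26 zj22) (kj xj2 yj12 zj40) (kj xj2 yj13 zj9) (kj xj2 yj13 zj10) (kj xj2 yj13 zj11) (kj xj2 yj13 zj12) (kj xj2 yj13 zj13) (kj xj3 yj26 zj33) (kj xj2 yj13 zj15) (kj xj3 yj26 zj36) (kj xj2 yj13 zj17) (kj xj2 yj13 zj18) (kj xj2 yj12 zj46) (kj xj3 yj26 zj5) (kj xj3 yj26 zj6) (kj xj3 yj26 zj7) (kj xj3 yj26 zj8) (kj xj3 yj26 zj9) (kj xj3 yj26 zj49) (kj xj2 yj13 zj1) (kj xj3 yj26 zj12) (kj xj3 yj26 zj13) (kj xj3 yj26 zj14) (kj xj3 yj26 zj15)) (@D3.rec (fun _ => Pt) (kj xj3 yj26 zj16) (kj xj4 yj0 zj9) (kj xj3 yj26 zj18) (kj xj4 yj0 zj12) (kj xj3 yj26 zj20) (kj xj3 yj26 zj21) (kj xj2 yj13 zj7) (kj xj3 yj26 zj23)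 (kj xj3 yj26 zj24) (kj xj3 yj26 zj25) (kj xj4 yj0 zj22) (kj xj3 yj26 zj27) (kj xj3 yj26 zj28) (kj xj3 yj26 zj29) (kj xj4 yj0 zj30) (kj xj3 yj26 zj31) (kj xj3 yj26 zj32) (kj xj2 yj13 zj14) (kj xj4 yj0 zj34) (kj xj3 yj26 zj35) (kj xj2 yj13 zj16) (kj xj4 yj0 zj38) (kj xj3 yj26 zj38) (kj xj3 yj5 zj23) (kj xj3 yj5 zj24) (kj xj3 yj5 zj25) (kj xj3 yj5 zj26) (kj xj3 yj5 zj27) (kj xj4 yj0 zj50) (kj xj3 yj5 zj29) (kj xj4 yj1 zj2) (kj xj3 yj5 zj31) (kj xj3 yj5 zj32) (kj xj2 yj13 zj25) (kj xj3 yj5 zj34) (kj xj3 yj5 zj35) (kj xj3 yj5 zj36) (kj xj4 yj1 zj12) (kj xj3 yj5 zj38) (kj xj3 yj5 zj39) (kj xj3 yj5 zj40) (kj xj4 yj1 zj20) (kj xj3 yj5 zj42) (kj xj3 yj5 zj43) (kj xj2 yj13 zj32) (kj xj4 yj1 zj24) (kj xj3 yj5 zj46) (kj xj2 yj13 zj34) (kj xj4 yj1 zj28) (kj xj3 yj5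 zj49) (kj xj3 yj5 zj50)) (@D3.rec (fun _ => Pt) (kj xj3 yj6 zj0) (kj xj3 yj6 zj1) (kj xj3 yj6 zj2) (kj xj4 yj1 zj39) (kj xj3 yj6 zj4) (kj xj3 yj6 zj5) (kj xj2 yj13 zj41) (kj xj3 yj6 zj7) (kj xj4 yj1 zj45) (kj xj3 yj6 zj9) (kj xj3 yj6 zj10) (kj xj3 yj6 zj11) (kj xj4 yj2 zj1) (kj xj3 yj6 zj13) (kj xj2 yj13 zj45) (kj xj4 yj2 zj5) (kj xj3 yj6 zj16) (kj xj4 yj2 zj7) (kj xj2 yj13 zj49) (kj xj4 yj2 zj9) (kj xj3 yj6 zj20) (kj xj3 yj6 zj21) (kj xj2 yj14 zj1) (kj xj4 yj2 zj14) (kj xj4 yj2 zj15) (kj xj3 yj6 zj25) (kj xj4 yj2 zj17) (kj xj2 yj14 zj5) (kj xj4 yj2 zj18) (kj xj3 yj6 zj29) (kj xj4 yj2 zj20) (kj xj2 yj14 zj9) (kj xj4 yj2 zj22) (kj xj3 yj6 zj33) (kj xj2 yj14 zj11) (kj xj4 yj2 zj25) (kj xj3 yj6 zj36) (kj xj4 yj2 zj27) (kj xj2 yj14 zj15) (kj xj3 yj6 zj39)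 (kj xj4 yj2 zj30) (kj xj4 yj2 zj32) (kj xj3 yj6 zj42) (kj xj2 yj14 zj18) (kj xj4 yj2 zj35) (kj xj4 yj2 zj36) (kj xj2 yj14 zj21) (kj xj4 yj2 zj38) (kj xj3 yj6 zj48) (kj xj3 yj6 zj49) (kj xj2 yj14 zj24)) (@D3.rec (fun _ => Pt) (kj xj4 yj2 zj43) (kj xj3 yj7 zj1) (kj xj4 yj2 zj46) (kj xj4 yj2 zj48) (kj xj3 yj7 zj4) (kj xj2 yj14 zj28) (kj xj4 yj3 zj0) (kj xj3 yj7 zj7) (kj xj4 yj3 zj4) (kj xj3 yj7 zj9) (kj xj2 yj14 zj32) (kj xj4 yj3 zj7) (kj xj4 yj3 zj8) (kj xj2 yj14 zj34) (kj xj4 yj3 zj10) (kj xj3 yj7 zj15) (kj xj3 yj7 zj16) (kj xj2 yj14 zj37) (kj xj4 yj3 zj15) (kj xj2 yj14 zj39) (kj xj4 yj3 zj17) (kj xj2 yj14 zj41) (kj xj4 yj3 zj20) (kj xj4 yj3 zj21) (kj xj3 yj7 zj24) (kj xj3 yj7 zj25) (kj xj2 yj14 zj45) (kj xj3 yj7 zj27) (kj xj3 yj7 zj28) (kj xj3 yj7 zj29)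 (kj xj3 yj7 zj30) (kj xj3 yj7 zj31) (kj xj3 yj7 zj32) (kj xj3 yj7 zj33) (kj xj3 yj7 zj34) (kj xj3 yj7 zj35) (kj xj3 yj7 zj36) (kj xj3 yj7 zj37) (kj xj2 yj26 zj47) (kj xj2 yj15 zj14) (kj xj2 yj15 zj15) (kj xj2 yj15 zj16) (kj xj2 yj15 zj17) (kj xj2 yj15 zj18) (kj xj2 yj15 zj19) (kj xj2 yj15 zj20) (kj xj4 yj4 zj1) (kj xj2 yj15 zj22) (kj xj2 yj15 zj23) (kj xj2 yj15 zj24) (kj xj2 yj15 zj25)) (@D3.rec (fun _ => Pt) (kj xj2 yj15 zj26) (kj xj4 yj4 zj12) (kj xj2 yj15 zj13) (kj xj4 yj3 zj42) (kj xj4 yj3 zj43) (kj xj4 yj3 zj44) (kj xj4 yj3 zj45) (kj xj4 yj4 zj19) (kj xj4 yj3 zj47) (kj xj4 yj3 zj48) (kj xj4 yj3 zj49) (kj xj4 yj3 zj50) (kj xj4 yj4 zj28) (kj xj2 yj15 zj21) (kj xj4 yj4 zj2) (kj xj4 yj4 zj3) (kj xj4 yj4 zj4) (kj xj4 yj4 zj5) (kj xj4 yj4 zj6) (kj xj4 yj4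 zj36) (kj xj4 yj4 zj8) (kj xj4 yj4 zj39) (kj xj4 yj4 zj10) (kj xj4 yj4 zj11) (kj xj2 yj15 zj27) (kj xj2 yj15 zj42) (kj xj2 yj15 zj43) (kj xj4 yj4 zj45) (kj xj2 yj15 zj45) (kj xj2 yj15 zj46) (kj xj2 yj15 zj47) (kj xj2 yj15 zj48) (kj xj4 yj5 zj3) (kj xj2 yj15 zj34) (kj xj2 yj16 zj0) (kj xj2 yj16 zj1) (kj xj2 yj16 zj2) (kj xj2 yj16 zj3) (kj xj2 yj16 zj4) (kj xj4 yj5 zj14) (kj xj2 yj16 zj6) (kj xj4 yj5 zj17) (kj xj2 yj16 zj8) (kj xj2 yj16 zj9) (kj xj2 yj15 zj40) (kj xj4 yj4 zj42) (kj xj4 yj4 zj43) (kj xj4 yj5 zj24) (kj xj2 yj15 zj44) (kj xj4 yj4 zj46) (kj xj4 yj4 zj47)) (@D3.rec (fun _ => Pt) (kj xj4 yj4 zj48) (kj xj4 yj5 zj31) (kj xj4 yj4 zj50) (kj xj4 yj5 zj34) (kj xj4 yj5 zj1) (kj xj4 yj5 zj2) (kj xj2 yj15 zj49) (kj xj4 yj5 zj4) (kj xj4 yj5 zj5) (kj xj4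 yj5 zj6) (kj xj4 yj5 zj44) (kj xj4 yj5 zj8) (kj xj4 yj5 zj9) (kj xj4 yj5 zj10) (kj xj4 yj6 zj1) (kj xj4 yj5 zj12) (kj xj4 yj5 zj13) (kj xj2 yj16 zj5) (kj xj4 yj6 zj5) (kj xj4 yj5 zj16) (kj xj2 yj16 zj7) (kj xj4 yj6 zj9) (kj xj4 yj5 zj19) (kj xj3 yj9 zj23) (kj xj4 yj6 zj13) (kj xj3 yj9 zj25) (kj xj3 yj9 zj26) (kj xj2 yj16 zj13) (kj xj3 yj9 zj28) (kj xj3 yj9 zj29) (kj xj3 yj9 zj30) (kj xj4 yj6 zj22) (kj xj3 yj9 zj32) (kj xj3 yj9 zj33) (kj xj2 yj16 zj18) (kj xj4 yj6 zj26) (kj xj3 yj9 zj36) (kj xj2 yj16 zj20) (kj xj4 yj6 zj30) (kj xj3 yj9 zj39) (kj xj3 yj9 zj40) (kj xj3 yj9 zj41) (kj xj3 yj9 zj42) (kj xj3 yj9 zj43) (kj xj4 yj6 zj41) (kj xj3 yj9 zj45) (kj xj3 yj9 zj46) (kj xj2 yj16 zj27) (kj xj3 yj9 zj48) (kj xj4 yj6 zj47) (kj xj3 yj9 zj50)) (@D3.rec (fun _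 => Pt) (kj xj3 yj10 zj0) (kj xj3 yj10 zj1) (kj xj4 yj7 zj3) (kj xj3 yj10 zj3) (kj xj2 yj16 zj31) (kj xj4 yj7 zj7) (kj xj3 yj10 zj6) (kj xj4 yj7 zj9) (kj xj2 yj16 zj35) (kj xj4 yj7 zj11) (kj xj3 yj10 zj10) (kj xj3 yj10 zj11) (kj xj2 yj16 zj38) (kj xj4 yj7 zj16) (kj xj2 yj17 zj7) (kj xj2 yj17 zj8) (kj xj2 yj17 zj9) (kj xj2 yj17 zj10) (kj xj2 yj17 zj11) (kj xj4 yj7 zj27) (kj xj2 yj17 zj13) (kj xj4 yj7 zj30) (kj xj2 yj17 zj15) (kj xj2 yj17 zj16) (kj xj2 yj16 zj45) (kj xj2 yj17 zj18) (kj xj2 yj17 zj19) (kj xj2 yj17 zj20) (kj xj4 yj7 zj40) (kj xj2 yj17 zj22) (kj xj2 yj17 zj23) (kj xj2 yj17 zj24) (kj xj4 yj7 zj48) (kj xj2 yj17 zj26) (kj xj2 yj17 zj27) (kj xj2 yj17 zj1) (kj xj4 yj8 zj1) (kj xj2 yj17 zj30) (kj xj2 yj17 zj3) (kj xj4 yj8 zj5) (kj xj2 yj17 zj33) (kj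 xj4 yj7 zj17) (kj xj4 yj7 zj18) (kj xj4 yj7 zj19) (kj xj4 yj8 zj14) (kj xj4 yj7 zj21) (kj xj4 yj7 zj22) (kj xj4 yj7 zj23) (kj xj4 yj8 zj22) (kj xj4 yj7 zj25) (kj xj4 yj7 zj26)) (@D3.rec (fun _ => Pt) (kj xj2 yj17 zj12) (kj xj4 yj8 zj26) (kj xj4 yj7 zj29) (kj xj2 yj17 zj14) (kj xj4 yj8 zj30) (kj xj4 yj7 zj32) (kj xj4 yj7 zj33) (kj xj4 yj7 zj34) (kj xj4 yj7 zj35) (kj xj4 yj7 zj36) (kj xj4 yj8 zj39) (kj xj4 yj7 zj38) (kj xj4 yj7 zj39) (kj xj2 yj17 zj21) (kj xj4 yj7 zj41) (kj xj4 yj8 zj45) (kj xj4 yj7 zj43) (kj xj4 yj7 zj44) (kj xj4 yj7 zj45) (kj xj4 yj9 zj1) (kj xj4 yj7 zj47) (kj xj2 yj17 zj25) (kj xj4 yj9 zj5) (kj xj4 yj7 zj50) (kj xj4 yj9 zj7) (kj xj2 yj17 zj29) (kj xj4 yj9 zj9) (kj xj4 yj8 zj3) (kj xj4 yj8 zj4) (kj xj2 yj17 zj32) (kj xj4 yj9 zj14) (kj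 xj3 yj11 zj31) (kj xj3 yj11 zj32) (kj xj3 yj11 zj33) (kj xj3 yj11 zj34) (kj xj4 yj9 zj22) (kj xj3 yj11 zj36) (kj xj3 yj11 zj37) (kj xj2 yj17 zj37) (kj xj3 yj11 zj39) (kj xj4 yj9 zj28) (kj xj3 yj11 zj41) (kj xj3 yj11 zj42) (kj xj3 yj11 zj43) (kj xj4 yj9 zj34) (kj xj3 yj11 zj45) (kj xj2 yj17 zj41) (kj xj4 yj9 zj38) (kj xj3 yj11 zj48) (kj xj4 yj9 zj40) (kj xj2 yj17 zj45)) (@D3.rec (fun _ => Pt) (kj xj4 yj9 zj42) (kj xj3 yj12 zj1) (kj xj3 yj12 zj2) (kj xj2 yj17 zj48) (kj xj4 yj9 zj47) (kj xj3 yj12 zj5) (kj xj3 yj12 zj6) (kj xj4 yj10 zj2) (kj xj3 yj12 zj8) (kj xj3 yj12 zj9) (kj xj4 yj10 zj6) (kj xj3 yj12 zj11) (kj xj2 yj18 zj3) (kj xj4 yj10 zj10) (kj xj3 yj12 zj14) (kj xj3 yj12 zj15) (kj xj4 yj10 zj15) (kj xj3 yj12 zj17) (kj xj2 yj18 zj8) (kj xj4 yj10 zj19)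 (kj xj3 yj12 zj20) (kj xj3 yj12 zj21) (kj xj3 yj12 zj22) (kj xj3 yj12 zj23) (kj xj4 yj10 zj26) (kj xj2 yj18 zj12) (kj xj4 yj10 zj28) (kj xj3 yj12 zj27) (kj xj3 yj12 zj28) (kj xj2 yj18 zj15) (kj xj4 yj10 zj33) (kj xj2 yj18 zj17) (kj xj4 yj10 zj35) (kj xj2 yj18 zj19) (kj xj4 yj10 zj38) (kj xj4 yj10 zj39) (kj xj3 yj12 zj36) (kj xj3 yj12 zj37) (kj xj2 yj18 zj23) (kj xj4 yj10 zj46) (kj xj2 yj18 zj25) (kj xj3 yj12 zj41) (kj xj4 yj10 zj50) (kj xj2 yj18 zj28) (kj xj4 yj11 zj0) (kj xj2 yj18 zj29) (kj xj4 yj11 zj2) (kj xj3 yj12 zj47) (kj xj2 yj18 zj32) (kj xj2 yj18 zj33) (kj xj4 yj11 zj6)) (@D3.rec (fun _ => Pt) (kj xj2 yj18 zj35) (kj xj4 yj11 zj9) (kj xj4 yj11 zj10) (kj xj3 yj13 zj3) (kj xj3 yj13 zj4) (kj xj2 yj18 zj39) (kj xj3 yj13 zj6) (kj xj4 yj11 zj19) (kj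 xj2 yj18 zj41) (kj xj4 yj11 zj20) (kj xj2 yj18 zj42) (kj xj4 yj11 zj22) (kj xj3 yj13 zj12) (kj xj2 yj18 zj45) (kj xj4 yj11 zj26) (kj xj3 yj13 zj15) (kj xj4 yj11 zj30) (kj xj2 yj18 zj47) (kj xj4 yj11 zj32) (kj xj3 yj13 zj19) (kj xj2 yj18 zj50) (kj xj2 yj19 zj0) (kj xj4 yj11 zj36) (kj xj2 yj19 zj2) (kj xj4 yj11 zj39) (kj xj4 yj11 zj40) (kj xj3 yj13 zj26) (kj xj3 yj13 zj27) (kj xj2 yj19 zj6) (kj xj4 yj3 zj16) (kj xj2 yj19 zj8) (kj xj4 yj11 zj47) (kj xj4 yj11 zj48) (kj xj2 yj19 zj10) (kj xj2 yj19 zj11) (kj xj4 yj12 zj1) (kj xj4 yj12 zj2) (kj xj3 yj13 zj37) (kj xj3 yj13 zj38) (kj xj3 yj13 zj39) (kj xj2 yj19 zj31) (kj xj2 yj19 zj32) (kj xj2 yj19 zj33) (kj xj4 yj12 zj15) (kj xj2 yj19 zj35) (kj xj2 yj19 zj36) (kj xj2 yj19 zj18) (kj xj2 yj19 zj38) (kj xj4 yj12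 zj21) (kj xj2 yj19 zj40) (kj xj2 yj19 zj41)) (@D3.rec (fun _ => Pt) (kj xj2 yj19 zj42) (kj xj4 yj12 zj28) (kj xj2 yj19 zj44) (kj xj2 yj19 zj22) (kj xj4 yj12 zj32) (kj xj2 yj19 zj47) (kj xj4 yj12 zj34) (kj xj2 yj19 zj26) (kj xj4 yj12 zj36) (kj xj2 yj20 zj0) (kj xj2 yj20 zj1) (kj xj2 yj19 zj29) (kj xj4 yj12 zj41) (kj xj4 yj12 zj9) (kj xj4 yj12 zj45) (kj xj4 yj12 zj11) (kj xj4 yj12 zj12) (kj xj4 yj12 zj49) (kj xj4 yj12 zj14) (kj xj2 yj19 zj34) (kj xj4 yj13 zj2) (kj xj4 yj12 zj17) (kj xj4 yj12 zj18) (kj xj4 yj13 zj7) (kj xj4 yj12 zj20) (kj xj2 yj19 zj39) (kj xj4 yj13 zj11) (kj xj4 yj12 zj23) (kj xj4 yj12 zj24) (kj xj4 yj12 zj25) (kj xj4 yj12 zj26) (kj xj4 yj13 zj18) (kj xj2 yj19 zj43) (kj xj4 yj13 zj20) (kj xj4 yj12 zj30) (kj xj4 yj12 zj31) (kj xj2 yj19 zj46)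 (kj xj4 yj13 zj25) (kj xj2 yj19 zj48) (kj xj4 yj13 zj27) (kj xj2 yj19 zj50) (kj xj4 yj13 zj30) (kj xj4 yj13 zj31) (kj xj4 yj12 zj39) (kj xj4 yj12 zj40) (kj xj2 yj20 zj3) (kj xj4 yj13 zj38) (kj xj3 yj14 zj47) (kj xj2 yj20 zj5) (kj xj4 yj13 zj42) (kj xj3 yj14 zj50)) (@D3.rec (fun _ => Pt) (kj xj4 yj13 zj44) (kj xj2 yj20 zj8) (kj xj4 yj13 zj46) (kj xj3 yj15 zj3) (kj xj3 yj15 zj4) (kj xj2 yj20 zj11) (kj xj4 yj14 zj0) (kj xj4 yj14 zj1) (kj xj2 yj20 zj13) (kj xj4 yj14 zj3) (kj xj3 yj15 zj10) (kj xj3 yj15 zj11) (kj xj2 yj20 zj16) (kj xj4 yj14 zj9) (kj xj4 yj14 zj10) (kj xj3 yj15 zj15) (kj xj3 yj15 zj16) (kj xj3 yj15 zj17) (kj xj3 yj15 zj18) (kj xj2 yj20 zj21) (kj xj4 yj14 zj18) (kj xj2 yj20 zj23) (kj xj4 yj14 zj21) (kj xj4 yj14 zj22) (kj xj3 yj15 zj24) (kj xj3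 yj15 zj25) (kj xj2 yj20 zj27) (kj xj3 yj15 zj27) (kj xj2 yj20 zj29) (kj xj4 yj14 zj29) (kj xj4 yj14 zj30) (kj xj2 yj20 zj31) (kj xj2 yj20 zj32) (kj xj4 yj14 zj34) (kj xj4 yj14 zj35) (kj xj3 yj15 zj35) (kj xj3 yj15 zj36) (kj xj3 yj15 zj37) (kj xj2 yj20 zj36) (kj xj4 yj14 zj43) (kj xj2 yj20 zj38) (kj xj4 yj14 zj46) (kj xj4 yj14 zj47) (kj xj3 yj15 zj43) (kj xj3 yj15 zj44) (kj xj2 yj20 zj42) (kj xj3 yj15 zj46) (kj xj2 yj20 zj44) (kj xj4 yj15 zj2) (kj xj2 yj21 zj11) (kj xj2 yj20 zj46)) (@D3.rec (fun _ => Pt) (kj xj2 yj20 zj47) (kj xj4 yj15 zj6) (kj xj4 yj15 zj7) (kj xj3 yj16 zj3) (kj xj3 yj16 zj4) (kj xj3 yj16 zj5) (kj xj2 yj21 zj2) (kj xj2 yj21 zj7) (kj xj4 yj12 zj4) (kj xj2 yj21 zj6) (kj xj4 yj15 zj5) (kj xj4 yj14 zj31) (kj xj3 yj16 zj12) (kj xj3 yj16 zj13)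 (kj xj3 yj16 zj14) (kj xj4 yj14 zj45) (kj xj3 yj16 zj16) (kj xj3 yj16 zj17) (kj xj3 yj16 zj18) (kj xj3 yj16 zj19) (kj xj3 yj16 zj20) (kj xj3 yj16 zj21) (kj xj3 yj16 zj22) (kj xj3 yj16 zj23) (kj xj3 yj16 zj24) (kj xj3 yj16 zj25) (kj xj2 yj26 zj48) (kj xj3 yj16 zj27) (kj xj3 yj16 zj28) (kj xj3 yj16 zj29) (kj xj2 yj21 zj42) (kj xj4 yj15 zj26) (kj xj2 yj21 zj44) (kj xj2 yj21 zj45) (kj xj2 yj21 zj46) (kj xj2 yj26 zj20) (kj xj2 yj21 zj34) (kj xj2 yj21 zj49) (kj xj2 yj21 zj50) (kj xj2 yj22 zj0) (kj xj2 yj22 zj1) (kj xj2 yj22 zj2) (kj xj2 yj26 zj17) (kj xj4 yj15 zj34) (kj xj2 yj21 zj43) (kj xj4 yj15 zj27) (kj xj4 yj15 zj28) (kj xj4 yj15 zj38) (kj xj2 yj26 zj3) (kj xj2 yj26 zj19) (kj xj2 yj21 zj47)) (@D3.rec (fun _ => Pt) (kj xj4 yj15 zj30) (kj xj4 yj15 zj29) (kj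 xj4 yj15 zj31) (kj xj4 yj15 zj37) (kj xj4 yj15 zj32) (kj xj4 yj15 zj33) (kj xj2 yj26 zj1) (kj xj2 yj26 zj16) (kj xj2 yj25 zj49) (kj xj2 yj22 zj3) (kj xj2 yj22 zj8) (kj xj2 yj22 zj26) (kj xj2 yj22 zj27) (kj xj4 yj15 zj40) (kj xj2 yj22 zj29) (kj xj2 yj24 zj22) (kj xj2 yj22 zj12) (kj xj2 yj22 zj32) (kj xj2 yj22 zj33) (kj xj2 yj22 zj34) (kj xj4 yj15 zj36) (kj xj2 yj22 zj36) (kj xj2 yj22 zj37) (kj xj2 yj22 zj38) (kj xj2 yj24 zj19) (kj xj2 yj22 zj40) (kj xj2 yj22 zj41) (kj xj2 yj22 zj19) (kj xj2 yj22 zj47) (kj xj4 yj15 zj45) (kj xj4 yj15 zj46) (kj xj4 yj16 zj9) (kj xj2 yj22 zj28) (kj xj2 yj24 zj23) (kj xj2 yj22 zj30) (kj xj4 yj15 zj48) (kj xj4 yj15 zj49) (kj xj4 yj15 zj50) (kj xj4 yj15 zj47) (kj xj4 yj16 zj8) (kj xj4 yj16 zj0) (kj xj2 yj22 zj35) (kj xj4 yj16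 zj1) (kj xj4 yj16 zj19) (kj xj4 yj16 zj3) (kj xj4 yj16 zj4) (kj xj2 yj24 zj21) (kj xj2 yj23 zj43) (kj xj2 yj22 zj39) (kj xj2 yj24 zj18) (kj xj4 yj16 zj5)) (@D3.rec (fun _ => Pt) (kj xj2 yj23 zj33) (kj xj2 yj24 zj5) (kj xj3 yj18 zj2) (kj xj4 yj16 zj27) (kj xj4 yj16 zj29) (kj xj2 yj22 zj50) (kj xj2 yj25 zj6) (kj xj2 yj23 zj1) (kj xj3 yj18 zj8) (kj xj3 yj18 zj9) (kj xj4 yj16 zj35) (kj xj3 yj18 zj11) (kj xj4 yj16 zj28) (kj xj3 yj18 zj13) (kj xj2 yj23 zj7) (kj xj4 yj16 zj39) (kj xj3 yj18 zj16) (kj xj4 yj16 zj43) (kj xj3 yj18 zj18) (kj xj2 yj23 zj11) (kj xj4 yj16 zj46) (kj xj3 yj18 zj21) (kj xj3 yj18 zj22) (kj xj2 yj25 zj4) (kj xj2 yj23 zj14) (kj xj2 yj25 zj2) (kj xj3 yj18 zj26) (kj xj3 yj18 zj27) (kj xj2 yj23 zj17) (kj xj4 yj17 zj2) (kj xj2 yj24 zj35) (kj xj3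 yj18 zj31) (kj xj2 yj23 zj25) (kj xj2 yj23 zj47) (kj xj2 yj23 zj48) (kj xj4 yj17 zj6) (kj xj2 yj23 zj50) (kj xj2 yj24 zj0) (kj xj2 yj24 zj1) (kj xj4 yj16 zj23) (kj xj2 yj24 zj3) (kj xj2 yj23 zj31) (kj xj2 yj24 zj6) (kj xj3 yj1 zj4) (kj xj2 yj24 zj9) (kj xj2 yj24 zj10) (kj xj2 yj24 zj11) (kj xj4 yj16 zj14) (kj xj2 yj23 zj39) (kj xj2 yj24 zj14) (kj xj4 yj16 zj18)) (@D3.rec (fun _ => Pt) (kj xj2 yj24 zj16) (kj xj2 yj24 zj17) (kj xj4 yj17 zj3) (kj xj4 yj17 zj4) (kj xj4 yj17 zj18) (kj xj2 yj23 zj49) (kj xj4 yj17 zj7) (kj xj4 yj17 zj22) (kj xj4 yj17 zj9) (kj xj4 yj16 zj24) (kj xj4 yj17 zj5) (kj xj2 yj24 zj2) (kj xj4 yj17 zj17) (kj xj3 yj1 zj5) (kj xj3 yj0 zj48) (kj xj3 yj1 zj2) (kj xj2 yj24 zj8) (kj xj3 yj1 zj9) (kj xj4 yj17 zj10) (kj xj4 yj17 zj26) (kj xj4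 yj16 zj15) (kj xj2 yj24 zj12) (kj xj4 yj17 zj12) (kj xj4 yj16 zj20) (kj xj4 yj16 zj2) (kj xj2 yj24 zj15) (kj xj4 yj16 zj17) (kj xj4 yj17 zj13) (kj xj4 yj17 zj14) (kj xj3 yj19 zj29) (kj xj4 yj17 zj35) (kj xj4 yj17 zj37) (kj xj2 yj24 zj26) (kj xj3 yj19 zj33) (kj xj4 yj17 zj41) (kj xj3 yj19 zj35) (kj xj2 yj24 zj29) (kj xj4 yj17 zj44) (kj xj4 yj16 zj50) (kj xj2 yj24 zj31) (kj xj4 yj17 zj36) (kj xj3 yj19 zj41) (kj xj2 yj24 zj34) (kj xj3 yj1 zj11) (kj xj2 yj24 zj37) (kj xj3 yj1 zj25) (kj xj3 yj1 zj16) (kj xj3 yj19 zj47) (kj xj2 yj24 zj41) (kj xj3 yj19 zj49) (kj xj4 yj17 zj50)) (@D3.rec (fun _ => Pt) (kj xj2 yj24 zj43) (kj xj4 yj16 zj37) (kj xj2 yj24 zj44) (kj xj4 yj18 zj1) (kj xj3 yj20 zj4) (kj xj4 yj16 zj44) (kj xj2 yj24 zj47) (kj xj4 yj16 zj42) (kj xj3 yj20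 zj8) (kj xj2 yj24 zj50) (kj xj4 yj18 zj7) (kj xj3 yj20 zj11) (kj xj3 yj20 zj12) (kj xj3 yj20 zj13) (kj xj4 yj18 zj14) (kj xj2 yj25 zj9) (kj xj4 yj17 zj45) (kj xj2 yj25 zj10) (kj xj4 yj18 zj16) (kj xj3 yj20 zj19) (kj xj2 yj25 zj13) (kj xj4 yj18 zj20) (kj xj3 yj20 zj22) (kj xj4 yj18 zj24) (kj xj2 yj25 zj15) (kj xj4 yj18 zj26) (kj xj3 yj20 zj26) (kj xj2 yj25 zj18) (kj xj2 yj25 zj19) (kj xj4 yj18 zj17) (kj xj2 yj25 zj21) (kj xj4 yj18 zj15) (kj xj3 yj20 zj32) (kj xj2 yj25 zj25) (kj xj3 yj1 zj27) (kj xj2 yj25 zj27) (kj xj4 yj18 zj32) (kj xj3 yj20 zj37) (kj xj3 yj20 zj38) (kj xj4 yj18 zj38) (kj xj2 yj25 zj30) (kj xj4 yj18 zj40) (kj xj3 yj20 zj42) (kj xj4 yj18 zj43) (kj xj2 yj25 zj32) (kj xj2 yj25 zj34) (kj xj4 yj18 zj45) (kj xj2 yj25 zj36) (kj xj4 yj18 zj47)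 (kj xj3 yj20 zj49) (kj xj2 yj25 zj38)) (@D3.rec (fun _ => Pt) (kj xj2 yj26 zj4) (kj xj4 yj19 zj0) (kj xj4 yj15 zj41) (kj xj2 yj25 zj43) (kj xj2 yj26 zj8) (kj xj4 yj15 zj44) (kj xj2 yj26 zj10) (kj xj2 yj25 zj46) (kj xj4 yj15 zj42) (kj xj2 yj26 zj13) (kj xj2 yj26 zj14) (kj xj4 yj18 zj49) (kj xj4 yj19 zj9) (kj xj2 yj26 zj5) (kj xj2 yj26 zj6) (kj xj4 yj19 zj10) (kj xj4 yj19 zj2) (kj xj2 yj26 zj9) (kj xj4 yj15 zj43) (kj xj4 yj19 zj3) (kj xj2 yj26 zj12) (kj xj4 yj19 zj17) (kj xj4 yj19 zj5) (kj xj4 yj19 zj6) (kj xj4 yj4 zj7) (kj xj3 yj1 zj47) (kj xj2 yj26 zj24) (kj xj4 yj19 zj21) (kj xj3 yj21 zj28) (kj xj4 yj19 zj24) (kj xj2 yj26 zj41) (kj xj3 yj21 zj31) (kj xj3 yj21 zj32) (kj xj3 yj21 zj33) (kj xj2 yj26 zj42) (kj xj3 yj21 zj35) (kj xj3 yj21 zj36) (kj xj2 yj26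 zj43) (kj xj3 yj21 zj38) (kj xj2 yj26 zj44) (kj xj2 yj26 zj45) (kj xj2 yj26 zj46) (kj xj2 yj26 zj49) (kj xj4 yj19 zj26) (kj xj4 yj19 zj30) (kj xj4 yj19 zj31) (kj xj4 yj19 zj33) (kj xj4 yj19 zj34) (kj xj4 yj19 zj36) (kj xj4 yj19 zj44) (kj xj4 yj3 zj41)) (@D3.rec (fun _ => Pt) (kj xj4 yj3 zj35) (kj xj4 yj15 zj21) (kj xj2 yj26 zj50) (kj xj3 yj22 zj3) (kj xj3 yj22 zj4) (kj xj3 yj22 zj5) (kj xj3 yj22 zj6) (kj xj3 yj22 zj7) (kj xj3 yj22 zj8) (kj xj3 yj22 zj9) (kj xj3 yj22 zj10) (kj xj3 yj0 zj25) (kj xj3 yj0 zj19) (kj xj4 yj20 zj2) (kj xj3 yj0 zj14) (kj xj4 yj20 zj1) (kj xj3 yj0 zj20) (kj xj4 yj20 zj0) (kj xj3 yj22 zj18) (kj xj4 yj20 zj7) (kj xj3 yj1 zj19) (kj xj3 yj1 zj44) (kj xj3 yj1 zj43) (kj xj3 yj1 zj21) (kj xj4 yj18 zj31) (kj xj3 yj1 zj24) (kj xj3 yj1 zj39)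 (kj xj3 yj1 zj33) (kj xj3 yj1 zj35) (kj xj3 yj22 zj29) (kj xj4 yj20 zj6) (kj xj4 yj20 zj5) (kj xj3 yj1 zj41) (kj xj3 yj22 zj33) (kj xj3 yj22 zj34) (kj xj3 yj22 zj35) (kj xj3 yj22 zj36) (kj xj3 yj2 zj6) (kj xj3 yj2 zj7) (kj xj3 yj2 zj8) (kj xj4 yj20 zj15) (kj xj4 yj20 zj16) (kj xj4 yj20 zj17) (kj xj4 yj20 zj18) (kj xj4 yj20 zj23) (kj xj3 yj22 zj45) (kj xj3 yj22 zj46) (kj xj3 yj22 zj47) (kj xj3 yj2 zj14) (kj xj3 yj2 zj15) (kj xj3 yj2 zj16)) (@D3.rec (fun _ => Pt) (kj xj3 yj2 zj17) (kj xj4 yj20 zj35) (kj xj4 yj20 zj29) (kj xj4 yj20 zj30) (kj xj4 yj20 zj31) (kj xj4 yj20 zj32) (kj xj4 yj20 zj33) (kj xj4 yj20 zj42) (kj xj3 yj2 zj18) (kj xj3 yj2 zj24) (kj xj3 yj2 zj25) (kj xj3 yj2 zj26) (kj xj3 yj2 zj27) (kj xj3 yj2 zj28) (kj xj4 yj21 zj2) (kj xj3 yj2 zj23) (kj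 xj4 yj20 zj43) (kj xj4 yj20 zj44) (kj xj4 yj20 zj45) (kj xj4 yj20 zj46) (kj xj4 yj20 zj47) (kj xj4 yj21 zj13) (kj xj4 yj20 zj49) (kj xj4 yj21 zj16) (kj xj4 yj21 zj0) (kj xj4 yj21 zj1) (kj xj3 yj2 zj29) (kj xj3 yj23 zj27) (kj xj3 yj23 zj28) (kj xj3 yj23 zj29) (kj xj4 yj21 zj26) (kj xj3 yj23 zj31) (kj xj3 yj23 zj32) (kj xj3 yj23 zj33) (kj xj4 yj21 zj34) (kj xj3 yj23 zj35) (kj xj3 yj23 zj36) (kj xj3 yj2 zj36) (kj xj4 yj21 zj38) (kj xj3 yj23 zj39) (kj xj3 yj2 zj38) (kj xj4 yj21 zj42) (kj xj3 yj23 zj42) (kj xj3 yj23 zj43) (kj xj3 yj23 zj44) (kj xj3 yj23 zj45) (kj xj3 yj23 zj46) (kj xj3 yj23 zj47) (kj xj3 yj23 zj48) (kj xj3 yj23 zj49) (kj xj4 yj22 zj3)) (@D3.rec (fun _ => Pt) (kj xj3 yj3 zj4) (kj xj3 yj3 zj5) (kj xj3 yj3 zj6) (kj xj4 yj22 zj9) (kj xj3 yj3 zj8)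 (kj xj3 yj3 zj9) (kj xj3 yj3 zj10) (kj xj3 yj3 zj11) (kj xj3 yj3 zj12) (kj xj4 yj22 zj20) (kj xj3 yj3 zj3) (kj xj4 yj22 zj4) (kj xj4 yj22 zj5) (kj xj4 yj22 zj6) (kj xj4 yj22 zj7) (kj xj4 yj22 zj29) (kj xj3 yj3 zj7) (kj xj4 yj22 zj10) (kj xj4 yj22 zj11) (kj xj4 yj22 zj12) (kj xj4 yj22 zj13) (kj xj4 yj22 zj14) (kj xj4 yj22 zj36) (kj xj4 yj22 zj16) (kj xj4 yj22 zj39) (kj xj4 yj22 zj18) (kj xj4 yj22 zj19) (kj xj3 yj3 zj13) (kj xj3 yj3 zj26) (kj xj3 yj3 zj27) (kj xj3 yj3 zj28) (kj xj3 yj3 zj29) (kj xj4 yj22 zj50) (kj xj3 yj3 zj18) (kj xj3 yj3 zj32) (kj xj3 yj3 zj33) (kj xj3 yj3 zj34) (kj xj3 yj3 zj35) (kj xj3 yj3 zj36) (kj xj4 yj23 zj10) (kj xj3 yj3 zj38) (kj xj4 yj23 zj13) (kj xj3 yj3 zj40) (kj xj3 yj3 zj41) (kj xj3 yj3 zj24) (kj xj4 yj22 zj42) (kj xj4 yj22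 zj43) (kj xj4 yj22 zj44) (kj xj4 yj23 zj22) (kj xj4 yj22 zj46) (kj xj4 yj23 zj25)) (@D3.rec (fun _ => Pt) (kj xj4 yj22 zj48) (kj xj4 yj22 zj49) (kj xj3 yj3 zj30) (kj xj4 yj23 zj0) (kj xj4 yj23 zj1) (kj xj4 yj23 zj2) (kj xj4 yj23 zj35) (kj xj4 yj23 zj4) (kj xj4 yj23 zj5) (kj xj4 yj23 zj6) (kj xj4 yj23 zj43) (kj xj4 yj23 zj8) (kj xj4 yj23 zj9) (kj xj3 yj3 zj37) (kj xj4 yj23 zj47) (kj xj4 yj23 zj12) (kj xj3 yj3 zj39) (kj xj4 yj24 zj0) (kj xj4 yj23 zj15) (kj xj3 yj25 zj19) (kj xj3 yj25 zj20) (kj xj3 yj25 zj21) (kj xj4 yj24 zj9) (kj xj3 yj25 zj23) (kj xj3 yj25 zj24) (kj xj3 yj3 zj46) (kj xj4 yj24 zj13) (kj xj3 yj25 zj27) (kj xj3 yj3 zj48) (kj xj4 yj24 zj17) (kj xj3 yj25 zj30) (kj xj3 yj25 zj31) (kj xj3 yj25 zj32) (kj xj3 yj25 zj33) (kj xj3 yj25 zj34) (kj xj4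 yj24 zj28) (kj xj3 yj25 zj36) (kj xj3 yj25 zj37) (kj xj3 yj4 zj4) (kj xj3 yj25 zj39) (kj xj4 yj24 zj34) (kj xj3 yj25 zj41) (kj xj3 yj25 zj42) (kj xj3 yj25 zj43) (kj xj4 yj24 zj41) (kj xj3 yj25 zj45) (kj xj3 yj4 zj8) (kj xj4 yj24 zj45) (kj xj3 yj25 zj48) (kj xj4 yj24 zj47) (kj xj3 yj4 zj12)) (@D3.rec (fun _ => Pt) (kj xj4 yj24 zj49) (kj xj3 yj26 zj1) (kj xj3 yj26 zj2) (kj xj3 yj4 zj15) (kj xj4 yj25 zj3) (kj xj3 yj4 zj40) (kj xj3 yj4 zj41) (kj xj3 yj4 zj42) (kj xj3 yj4 zj43) (kj xj3 yj4 zj44) (kj xj4 yj25 zj14) (kj xj3 yj4 zj21) (kj xj3 yj4 zj47) (kj xj3 yj4 zj48) (kj xj3 yj4 zj49) (kj xj3 yj4 zj50) (kj xj3 yj5 zj0) (kj xj4 yj25 zj25) (kj xj3 yj5 zj2) (kj xj4 yj25 zj28) (kj xj3 yj5 zj4) (kj xj3 yj5 zj5) (kj xj3 yj4 zj27) (kj xj3 yj5 zj7) (kj xj3 yj5 zj8)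 (kj xj3 yj5 zj9) (kj xj4 yj25 zj38) (kj xj3 yj5 zj11) (kj xj3 yj5 zj12) (kj xj3 yj5 zj13) (kj xj4 yj25 zj46) (kj xj3 yj5 zj15) (kj xj3 yj5 zj16) (kj xj3 yj4 zj34) (kj xj4 yj25 zj50) (kj xj3 yj5 zj19) (kj xj3 yj4 zj36) (kj xj4 yj26 zj3) (kj xj3 yj5 zj22) (kj xj4 yj25 zj4) (kj xj4 yj25 zj5) (kj xj4 yj25 zj6) (kj xj4 yj25 zj7) (kj xj4 yj25 zj8) (kj xj4 yj26 zj15) (kj xj4 yj25 zj10) (kj xj4 yj26 zj18) (kj xj4 yj25 zj12) (kj xj4 yj25 zj13) (kj xj3 yj4 zj45) (kj xj4 yj25 zj15))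
def f_j_4 : D2 → D3 → Pt := @D2.rec (fun _ => D3 → Pt) (@D3.rec (fun _ => Pt) (kj xj4 yj25 zj16) (kj xj4 yj25 zj17) (kj xj4 yj26 zj28) (kj xj4 yj25 zj19) (kj xj4 yj25 zj20) (kj xj4 yj25 zj21) (kj xj4 yj26 zj36) (kj xj4 yj25 zj23) (kj xj4 yj25 zj24) (kj xj3 yj5 zj1) (kj xj4 yj26 zj40) (kj xj4 yj25 zj27) (kj xj3 yj5 zj3) (kj xj4 yj26 zj44) (kj xj4 yj25 zj30) (kj xj4 yj25 zj31) (kj xj4 yj25 zj32) (kj xj4 yj25 zj33) (kj xj4 yj25 zj34) (kj xj5 yj0 zj4) (kj xj4 yj25 zj36) (kj xj4 yj25 zj37) (kj xj3 yj5 zj10) (kj xj4 yj25 zj39) (kj xj5 yj0 zj10) (kj xj4 yj25 zj41) (kj xj4 yj25 zj42) (kj xj4 yj25 zj43) (kj xj5 yj0 zj17) (kj xj4 yj25 zj45) (kj xj3 yj5 zj14) (kj xj5 yj0 zj21) (kj xj4 yj25 zj48) (kj xj5 yj0 zj23) (kj xj3 yj5 zj18) (kj xj5 yj0 zj25) (kj xj4 yj26 zj1)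 (kj xj4 yj26 zj2) (kj xj3 yj5 zj21) (kj xj5 yj0 zj30) (kj xj4 yj0 zj40) (kj xj4 yj0 zj41) (kj xj4 yj0 zj42) (kj xj5 yj0 zj37) (kj xj4 yj0 zj44) (kj xj4 yj0 zj45) (kj xj4 yj0 zj46) (kj xj5 yj0 zj45) (kj xj4 yj0 zj48) (kj xj4 yj0 zj49) (kj xj3 yj5 zj28)) (@D3.rec (fun _ => Pt) (kj xj5 yj0 zj49) (kj xj4 yj1 zj1) (kj xj3 yj5 zj30) (kj xj5 yj1 zj2) (kj xj4 yj1 zj4) (kj xj4 yj1 zj5) (kj xj4 yj1 zj6) (kj xj4 yj1 zj7) (kj xj4 yj1 zj8) (kj xj5 yj1 zj13) (kj xj4 yj1 zj10) (kj xj4 yj1 zj11) (kj xj3 yj5 zj37) (kj xj4 yj1 zj13) (kj xj5 yj1 zj19) (kj xj4 yj1 zj15) (kj xj4 yj1 zj16) (kj xj4 yj1 zj17) (kj xj5 yj1 zj26) (kj xj4 yj1 zj19) (kj xj3 yj5 zj41) (kj xj5 yj1 zj30) (kj xj4 yj1 zj22) (kj xj5 yj1 zj32) (kj xj3 yj5 zj45) (kj xj5 yj1 zj34) (kj xj4 yj1 zj26) (kj xj4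 yj1 zj27) (kj xj3 yj5 zj48) (kj xj5 yj1 zj39) (kj xj4 yj1 zj30) (kj xj4 yj1 zj31) (kj xj4 yj1 zj32) (kj xj5 yj1 zj47) (kj xj4 yj1 zj34) (kj xj4 yj1 zj35) (kj xj4 yj1 zj36) (kj xj5 yj2 zj2) (kj xj4 yj1 zj38) (kj xj3 yj6 zj3) (kj xj5 yj2 zj6) (kj xj4 yj1 zj41) (kj xj4 yj1 zj42) (kj xj5 yj2 zj11) (kj xj4 yj1 zj44) (kj xj3 yj6 zj8) (kj xj5 yj2 zj15) (kj xj4 yj1 zj47) (kj xj4 yj1 zj48) (kj xj4 yj1 zj49) (kj xj4 yj1 zj50)) (@D3.rec (fun _ => Pt) (kj xj5 yj2 zj23) (kj xj3 yj6 zj12) (kj xj5 yj2 zj25) (kj xj4 yj2 zj3) (kj xj4 yj2 zj4) (kj xj3 yj6 zj15) (kj xj5 yj2 zj30) (kj xj3 yj6 zj17) (kj xj5 yj2 zj32) (kj xj3 yj6 zj19) (kj xj5 yj2 zj35) (kj xj5 yj2 zj36) (kj xj4 yj2 zj12) (kj xj4 yj2 zj13) (kj xj3 yj6 zj23) (kj xj3 yj6 zj24) (kj xj5 yj2 zj43) (kj xj3 yj6 zj26)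 (kj xj3 yj6 zj28) (kj xj5 yj2 zj45) (kj xj3 yj6 zj30) (kj xj5 yj2 zj46) (kj xj3 yj6 zj32) (kj xj5 yj2 zj48) (kj xj4 yj2 zj24) (kj xj3 yj6 zj35) (kj xj5 yj3 zj1) (kj xj3 yj6 zj37) (kj xj4 yj2 zj28) (kj xj5 yj3 zj5) (kj xj3 yj6 zj40) (kj xj5 yj3 zj6) (kj xj3 yj6 zj41) (kj xj5 yj3 zj8) (kj xj4 yj2 zj34) (kj xj3 yj6 zj44) (kj xj3 yj6 zj45) (kj xj5 yj3 zj12) (kj xj3 yj6 zj47) (kj xj5 yj3 zj15) (kj xj5 yj3 zj16) (kj xj4 yj2 zj41) (kj xj4 yj2 zj42) (kj xj3 yj7 zj0) (kj xj4 yj2 zj44) (kj xj5 yj3 zj25) (kj xj3 yj7 zj2) (kj xj5 yj3 zj26) (kj xj3 yj7 zj3) (kj xj5 yj3 zj28) (kj xj4 yj2 zj50)) (@D3.rec (fun _ => Pt) (kj xj3 yj7 zj6) (kj xj5 yj3 zj32) (kj xj4 yj3 zj2) (kj xj5 yj3 zj36) (kj xj3 yj7 zj8) (kj xj5 yj3 zj38) (kj xj4 yj3 zj6) (kj xj3 yj7 zj11) (kj xj3 yj7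 zj12) (kj xj5 yj3 zj42) (kj xj3 yj7 zj14) (kj xj5 yj3 zj45) (kj xj5 yj3 zj46) (kj xj4 yj3 zj13) (kj xj4 yj3 zj14) (kj xj3 yj7 zj18) (kj xj3 yj13 zj29) (kj xj3 yj7 zj20) (kj xj5 yj4 zj2) (kj xj5 yj4 zj3) (kj xj3 yj7 zj22) (kj xj3 yj7 zj23) (kj xj5 yj4 zj7) (kj xj5 yj4 zj8) (kj xj4 yj3 zj24) (kj xj4 yj3 zj25) (kj xj4 yj3 zj26) (kj xj4 yj3 zj27) (kj xj4 yj3 zj28) (kj xj4 yj3 zj29) (kj xj4 yj3 zj30) (kj xj4 yj3 zj31) (kj xj4 yj3 zj32) (kj xj4 yj3 zj33) (kj xj4 yj3 zj34) (kj xj3 yj22 zj0) (kj xj4 yj3 zj36) (kj xj4 yj3 zj37) (kj xj4 yj3 zj38) (kj xj4 yj3 zj39) (kj xj4 yj3 zj40) (kj xj3 yj21 zj50) (kj xj3 yj8 zj3) (kj xj3 yj8 zj4) (kj xj3 yj8 zj5) (kj xj3 yj8 zj6) (kj xj4 yj20 zj21) (kj xj3 yj8 zj8) (kj xj3 yj8 zj9) (kj xj3 yj8 zj10) (kj xj3 yj8 zj11)) (@D3.rec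 (fun _ => Pt) (kj xj4 yj20 zj41) (kj xj3 yj7 zj46) (kj xj3 yj8 zj14) (kj xj3 yj8 zj15) (kj xj3 yj8 zj16) (kj xj3 yj8 zj17) (kj xj3 yj8 zj18) (kj xj3 yj21 zj24) (kj xj3 yj8 zj20) (kj xj4 yj22 zj41) (kj xj3 yj8 zj22) (kj xj3 yj8 zj23) (kj xj3 yj8 zj1) (kj xj4 yj20 zj28) (kj xj4 yj20 zj19) (kj xj4 yj20 zj22) (kj xj4 yj20 zj34) (kj xj4 yj22 zj2) (kj xj4 yj20 zj40) (kj xj3 yj8 zj7) (kj xj5 yj4 zj24) (kj xj5 yj4 zj25) (kj xj5 yj4 zj26) (kj xj5 yj4 zj48) (kj xj5 yj4 zj28) (kj xj4 yj22 zj40) (kj xj4 yj22 zj17) (kj xj5 yj4 zj29) (kj xj3 yj8 zj12) (kj xj5 yj4 zj30) (kj xj5 yj5 zj3) (kj xj5 yj4 zj32) (kj xj5 yj4 zj33) (kj xj5 yj5 zj8) (kj xj5 yj4 zj35) (kj xj5 yj4 zj36) (kj xj3 yj8 zj19) (kj xj5 yj5 zj12) (kj xj5 yj4 zj38) (kj xj3 yj8 zj21) (kj xj5 yj5 zj16) (kj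 xj5 yj4 zj40) (kj xj3 yj8 zj45) (kj xj3 yj8 zj46) (kj xj4 yj20 zj39) (kj xj3 yj8 zj27) (kj xj3 yj8 zj49) (kj xj3 yj8 zj50) (kj xj3 yj9 zj0) (kj xj5 yj5 zj26) (kj xj3 yj9 zj2)) (@D3.rec (fun _ => Pt) (kj xj5 yj5 zj29) (kj xj3 yj9 zj4) (kj xj3 yj9 zj5) (kj xj3 yj8 zj32) (kj xj3 yj9 zj7) (kj xj3 yj9 zj8) (kj xj3 yj9 zj9) (kj xj5 yj5 zj39) (kj xj3 yj9 zj11) (kj xj3 yj9 zj12) (kj xj3 yj9 zj13) (kj xj5 yj5 zj47) (kj xj3 yj9 zj15) (kj xj3 yj9 zj16) (kj xj3 yj8 zj39) (kj xj5 yj6 zj0) (kj xj3 yj9 zj19) (kj xj3 yj8 zj41) (kj xj5 yj6 zj4) (kj xj3 yj9 zj22) (kj xj4 yj20 zj50) (kj xj4 yj21 zj14) (kj xj5 yj5 zj18) (kj xj5 yj5 zj19) (kj xj3 yj8 zj47) (kj xj5 yj5 zj20) (kj xj5 yj5 zj21) (kj xj5 yj5 zj22) (kj xj5 yj6 zj15) (kj xj5 yj5 zj24) (kj xj5 yj5 zj25) (kj xj3 yj9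 zj1) (kj xj5 yj6 zj19) (kj xj5 yj5 zj28) (kj xj3 yj9 zj3) (kj xj5 yj6 zj23) (kj xj5 yj5 zj31) (kj xj5 yj5 zj32) (kj xj5 yj5 zj33) (kj xj5 yj5 zj34) (kj xj5 yj5 zj35) (kj xj5 yj6 zj34) (kj xj5 yj5 zj37) (kj xj5 yj5 zj38) (kj xj3 yj9 zj10) (kj xj5 yj5 zj40) (kj xj5 yj6 zj40) (kj xj5 yj5 zj42) (kj xj5 yj5 zj43) (kj xj5 yj5 zj44) (kj xj5 yj6 zj47)) (@D3.rec (fun _ => Pt) (kj xj5 yj5 zj46) (kj xj3 yj9 zj14) (kj xj5 yj7 zj0) (kj xj5 yj5 zj49) (kj xj5 yj7 zj2) (kj xj3 yj9 zj18) (kj xj5 yj7 zj4) (kj xj5 yj6 zj2) (kj xj5 yj6 zj3) (kj xj3 yj9 zj21) (kj xj5 yj7 zj9) (kj xj4 yj21 zj37) (kj xj4 yj6 zj12) (kj xj3 yj9 zj24) (kj xj5 yj7 zj13) (kj xj4 yj6 zj15) (kj xj4 yj6 zj16) (kj xj5 yj7 zj18) (kj xj4 yj6 zj18) (kj xj4 yj6 zj19) (kj xj5 yj7 zj22) (kj xj4 yj6 zj21) (kj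 xj3 yj9 zj31) (kj xj5 yj7 zj26) (kj xj4 yj6 zj24) (kj xj5 yj7 zj28) (kj xj3 yj9 zj35) (kj xj5 yj7 zj30) (kj xj4 yj6 zj28) (kj xj4 yj6 zj29) (kj xj3 yj9 zj38) (kj xj5 yj7 zj35) (kj xj4 yj6 zj32) (kj xj4 yj6 zj33) (kj xj4 yj6 zj34) (kj xj5 yj7 zj43) (kj xj4 yj6 zj36) (kj xj4 yj6 zj37) (kj xj4 yj6 zj38) (kj xj5 yj7 zj49) (kj xj4 yj6 zj40) (kj xj3 yj9 zj44) (kj xj5 yj8 zj2) (kj xj4 yj6 zj43) (kj xj4 yj6 zj44) (kj xj5 yj8 zj7) (kj xj4 yj6 zj46) (kj xj3 yj9 zj49) (kj xj5 yj8 zj11) (kj xj4 yj6 zj49) (kj xj4 yj6 zj50)) (@D3.rec (fun _ => Pt) (kj xj4 yj7 zj0) (kj xj4 yj7 zj1) (kj xj5 yj8 zj18) (kj xj3 yj10 zj2) (kj xj5 yj8 zj20) (kj xj4 yj7 zj5) (kj xj4 yj7 zj6) (kj xj3 yj10 zj5) (kj xj5 yj8 zj25) (kj xj3 yj10 zj7) (kj xj5 yj8 zj27) (kj xj3 yj10 zj9) (kj xj5 yj8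 zj30) (kj xj5 yj8 zj31) (kj xj4 yj7 zj14) (kj xj4 yj7 zj15) (kj xj3 yj10 zj13) (kj xj3 yj10 zj41) (kj xj3 yj10 zj42) (kj xj3 yj10 zj43) (kj xj5 yj8 zj44) (kj xj3 yj10 zj45) (kj xj3 yj10 zj46) (kj xj3 yj10 zj47) (kj xj5 yj9 zj1) (kj xj3 yj10 zj49) (kj xj3 yj10 zj50) (kj xj3 yj10 zj19) (kj xj5 yj9 zj5) (kj xj3 yj11 zj2) (kj xj3 yj10 zj21) (kj xj5 yj9 zj9) (kj xj3 yj11 zj5) (kj xj3 yj11 zj6) (kj xj3 yj11 zj7) (kj xj3 yj11 zj8) (kj xj3 yj11 zj9) (kj xj5 yj9 zj18) (kj xj3 yj11 zj11) (kj xj3 yj11 zj12) (kj xj3 yj10 zj28) (kj xj3 yj11 zj14) (kj xj5 yj9 zj24) (kj xj3 yj11 zj16) (kj xj3 yj11 zj17) (kj xj3 yj11 zj18) (kj xj5 yj9 zj31) (kj xj3 yj11 zj20) (kj xj3 yj10 zj32) (kj xj5 yj9 zj35) (kj xj3 yj11 zj23)) (@D3.rec (fun _ => Pt) (kj xj5 yj9 zj37) (kj xj3 yj10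 zj36) (kj xj5 yj9 zj39) (kj xj3 yj11 zj27) (kj xj3 yj11 zj28) (kj xj3 yj10 zj39) (kj xj5 yj9 zj44) (kj xj5 yj8 zj37) (kj xj5 yj8 zj38) (kj xj5 yj8 zj39) (kj xj5 yj8 zj40) (kj xj5 yj10 zj1) (kj xj5 yj8 zj42) (kj xj5 yj8 zj43) (kj xj3 yj10 zj44) (kj xj5 yj8 zj45) (kj xj5 yj10 zj7) (kj xj5 yj8 zj47) (kj xj5 yj8 zj48) (kj xj5 yj8 zj49) (kj xj5 yj10 zj13) (kj xj5 yj9 zj0) (kj xj3 yj10 zj48) (kj xj5 yj10 zj17) (kj xj5 yj9 zj3) (kj xj5 yj10 zj19) (kj xj3 yj11 zj1) (kj xj5 yj10 zj21) (kj xj5 yj9 zj7) (kj xj5 yj9 zj8) (kj xj3 yj11 zj4) (kj xj5 yj10 zj26) (kj xj5 yj9 zj11) (kj xj5 yj9 zj12) (kj xj5 yj10 zj32) (kj xj5 yj9 zj14) (kj xj5 yj9 zj15) (kj xj5 yj10 zj36) (kj xj5 yj9 zj17) (kj xj3 yj11 zj10) (kj xj5 yj10 zj40) (kj xj5 yj9 zj20) (kj xj5 yj9 zj21) (kj xj5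 yj10 zj45) (kj xj5 yj9 zj23) (kj xj3 yj11 zj15) (kj xj5 yj10 zj49) (kj xj5 yj9 zj26) (kj xj5 yj9 zj27) (kj xj5 yj9 zj28) (kj xj5 yj9 zj29)) (@D3.rec (fun _ => Pt) (kj xj5 yj11 zj5) (kj xj3 yj11 zj19) (kj xj5 yj11 zj7) (kj xj5 yj9 zj33) (kj xj5 yj9 zj34) (kj xj3 yj11 zj22) (kj xj5 yj11 zj12) (kj xj3 yj11 zj24) (kj xj5 yj11 zj14) (kj xj3 yj11 zj26) (kj xj5 yj11 zj17) (kj xj5 yj11 zj18) (kj xj5 yj9 zj42) (kj xj5 yj9 zj43) (kj xj3 yj11 zj30) (kj xj4 yj9 zj15) (kj xj4 yj9 zj16) (kj xj5 yj11 zj28) (kj xj4 yj9 zj18) (kj xj4 yj9 zj19) (kj xj5 yj11 zj32) (kj xj4 yj9 zj21) (kj xj3 yj11 zj35) (kj xj5 yj11 zj35) (kj xj4 yj9 zj24) (kj xj4 yj9 zj25) (kj xj5 yj11 zj40) (kj xj4 yj9 zj27) (kj xj3 yj11 zj40) (kj xj5 yj11 zj44) (kj xj4 yj9 zj30) (kj xj4 yj9 zj31) (kj xj4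 yj9 zj32) (kj xj5 yj11 zj49) (kj xj3 yj11 zj44) (kj xj5 yj12 zj0) (kj xj4 yj9 zj36) (kj xj4 yj9 zj37) (kj xj3 yj11 zj47) (kj xj5 yj12 zj5) (kj xj3 yj11 zj49) (kj xj5 yj12 zj7) (kj xj3 yj12 zj0) (kj xj5 yj12 zj10) (kj xj5 yj12 zj11) (kj xj4 yj9 zj45) (kj xj4 yj9 zj46) (kj xj3 yj12 zj4) (kj xj4 yj9 zj48) (kj xj5 yj12 zj19) (kj xj4 yj9 zj50)) (@D3.rec (fun _ => Pt) (kj xj5 yj12 zj23) (kj xj4 yj10 zj1) (kj xj3 yj12 zj7) (kj xj5 yj12 zj27) (kj xj4 yj10 zj4) (kj xj5 yj12 zj29) (kj xj3 yj12 zj10) (kj xj5 yj12 zj31) (kj xj4 yj10 zj8) (kj xj4 yj10 zj9) (kj xj3 yj12 zj13) (kj xj5 yj12 zj36) (kj xj5 yj12 zj38) (kj xj4 yj10 zj13) (kj xj5 yj12 zj42) (kj xj3 yj12 zj16) (kj xj5 yj12 zj44) (kj xj4 yj10 zj17) (kj xj4 yj10 zj18) (kj xj3 yj12 zj19) (kj xj5 yj12 zj50) (kj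 xj5 yj13 zj0) (kj xj4 yj10 zj22) (kj xj4 yj10 zj23) (kj xj4 yj10 zj24) (kj xj4 yj10 zj25) (kj xj3 yj12 zj24) (kj xj5 yj13 zj8) (kj xj3 yj12 zj26) (kj xj5 yj13 zj11) (kj xj5 yj13 zj12) (kj xj4 yj10 zj31) (kj xj4 yj10 zj32) (kj xj3 yj12 zj30) (kj xj5 yj2 zj31) (kj xj3 yj12 zj32) (kj xj5 yj13 zj19) (kj xj5 yj13 zj20) (kj xj3 yj12 zj34) (kj xj3 yj12 zj35) (kj xj5 yj13 zj24) (kj xj5 yj13 zj25) (kj xj4 yj10 zj42) (kj xj4 yj10 zj43) (kj xj4 yj10 zj44) (kj xj5 yj13 zj32) (kj xj3 yj12 zj39) (kj xj5 yj13 zj34) (kj xj4 yj10 zj48) (kj xj5 yj13 zj37) (kj xj3 yj12 zj42)) (@D3.rec (fun _ => Pt) (kj xj3 yj12 zj44) (kj xj5 yj13 zj39) (kj xj3 yj12 zj46) (kj xj5 yj13 zj41) (kj xj4 yj11 zj4) (kj xj5 yj3 zj11) (kj xj3 yj12 zj50) (kj xj5 yj13 zj45) (kj xj5 yj13 zj46) (kj xj3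 yj13 zj1) (kj xj3 yj13 zj2) (kj xj5 yj13 zj50) (kj xj5 yj14 zj0) (kj xj4 yj11 zj13) (kj xj4 yj11 zj14) (kj xj4 yj11 zj15) (kj xj5 yj14 zj8) (kj xj4 yj11 zj17) (kj xj5 yj14 zj11) (kj xj3 yj13 zj7) (kj xj3 yj13 zj9) (kj xj5 yj14 zj13) (kj xj3 yj13 zj11) (kj xj5 yj14 zj15) (kj xj4 yj11 zj24) (kj xj5 yj14 zj19) (kj xj3 yj13 zj14) (kj xj5 yj14 zj21) (kj xj4 yj11 zj28) (kj xj4 yj11 zj29) (kj xj3 yj13 zj16) (kj xj5 yj14 zj27) (kj xj3 yj13 zj18) (kj xj5 yj14 zj29) (kj xj4 yj11 zj34) (kj xj5 yj3 zj41) (kj xj3 yj13 zj22) (kj xj5 yj14 zj33) (kj xj5 yj14 zj34) (kj xj3 yj13 zj24) (kj xj3 yj13 zj25) (kj xj5 yj14 zj38) (kj xj5 yj14 zj39) (kj xj4 yj11 zj43) (kj xj4 yj11 zj44) (kj xj4 yj11 zj45) (kj xj5 yj4 zj1) (kj xj3 yj13 zj31) (kj xj3 yj13 zj32) (kj xj5 yj14 zj48)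 (kj xj5 yj14 zj49)) (@D3.rec (fun _ => Pt) (kj xj5 yj14 zj50) (kj xj3 yj13 zj35) (kj xj3 yj13 zj36) (kj xj5 yj15 zj2) (kj xj3 yj16 zj8) (kj xj5 yj15 zj3) (kj xj4 yj12 zj6) (kj xj4 yj12 zj7) (kj xj4 yj12 zj8) (kj xj3 yj14 zj13) (kj xj4 yj21 zj9) (kj xj3 yj14 zj15) (kj xj3 yj14 zj16) (kj xj4 yj21 zj7) (kj xj3 yj14 zj18) (kj xj3 yj13 zj43) (kj xj5 yj15 zj16) (kj xj3 yj14 zj21) (kj xj3 yj14 zj22) (kj xj4 yj21 zj4) (kj xj3 yj14 zj24) (kj xj3 yj13 zj48) (kj xj5 yj15 zj21) (kj xj3 yj14 zj27) (kj xj3 yj14 zj28) (kj xj3 yj14 zj29) (kj xj3 yj14 zj30) (kj xj4 yj21 zj3) (kj xj3 yj14 zj1) (kj xj5 yj15 zj29) (kj xj3 yj14 zj34) (kj xj3 yj14 zj35) (kj xj3 yj14 zj4) (kj xj5 yj15 zj34) (kj xj3 yj14 zj6) (kj xj5 yj15 zj35) (kj xj3 yj14 zj8) (kj xj5 yj15 zj38) (kj xj5 yj15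 zj39) (kj xj3 yj14 zj43) (kj xj3 yj14 zj44) (kj xj3 yj14 zj12) (kj xj4 yj20 zj48) (kj xj4 yj21 zj10) (kj xj5 yj15 zj10) (kj xj3 yj14 zj14) (kj xj5 yj15 zj48) (kj xj5 yj15 zj12) (kj xj4 yj21 zj28) (kj xj3 yj14 zj17) (kj xj5 yj16 zj0)) (@D3.rec (fun _ => Pt) (kj xj5 yj15 zj14) (kj xj5 yj15 zj15) (kj xj3 yj14 zj20) (kj xj5 yj16 zj5) (kj xj4 yj21 zj6) (kj xj4 yj23 zj3) (kj xj4 yj21 zj23) (kj xj3 yj14 zj23) (kj xj5 yj16 zj9) (kj xj5 yj15 zj19) (kj xj5 yj15 zj20) (kj xj3 yj14 zj26) (kj xj5 yj16 zj15) (kj xj5 yj16 zj16) (kj xj5 yj15 zj24) (kj xj5 yj15 zj25) (kj xj5 yj15 zj26) (kj xj5 yj15 zj27) (kj xj3 yj14 zj31) (kj xj5 yj16 zj23) (kj xj3 yj14 zj33) (kj xj5 yj16 zj26) (kj xj5 yj16 zj27) (kj xj5 yj15 zj32) (kj xj5 yj15 zj33) (kj xj3 yj14 zj37) (kj xj4 yj13 zj26)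 (kj xj3 yj14 zj39) (kj xj5 yj16 zj34) (kj xj5 yj16 zj35) (kj xj3 yj14 zj41) (kj xj3 yj14 zj42) (kj xj5 yj16 zj39) (kj xj5 yj16 zj40) (kj xj5 yj15 zj42) (kj xj5 yj15 zj43) (kj xj5 yj15 zj44) (kj xj4 yj21 zj32) (kj xj3 yj14 zj46) (kj xj5 yj16 zj48) (kj xj4 yj13 zj40) (kj xj4 yj13 zj41) (kj xj3 yj14 zj49) (kj xj5 yj17 zj2) (kj xj3 yj15 zj0) (kj xj5 yj17 zj3) (kj xj3 yj15 zj2) (kj xj5 yj17 zj6) (kj xj5 yj17 zj7) (kj xj4 yj13 zj49) (kj xj4 yj13 zj50)) (@D3.rec (fun _ => Pt) (kj xj3 yj15 zj6) (kj xj3 yj15 zj7) (kj xj5 yj17 zj13) (kj xj3 yj15 zj9) (kj xj5 yj17 zj16) (kj xj5 yj17 zj17) (kj xj4 yj14 zj6) (kj xj4 yj14 zj7) (kj xj4 yj14 zj8) (kj xj3 yj15 zj13) (kj xj3 yj15 zj14) (kj xj5 yj17 zj27) (kj xj5 yj17 zj28) (kj xj4 yj14 zj13) (kj xj4 yj14 zj14) (kj xj5 yj17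 zj33) (kj xj4 yj14 zj16) (kj xj4 yj14 zj17) (kj xj3 yj15 zj20) (kj xj5 yj17 zj36) (kj xj5 yj17 zj37) (kj xj3 yj15 zj22) (kj xj3 yj15 zj23) (kj xj5 yj17 zj41) (kj xj5 yj17 zj42) (kj xj4 yj14 zj25) (kj xj4 yj14 zj26) (kj xj4 yj14 zj27) (kj xj4 yj14 zj28) (kj xj3 yj15 zj29) (kj xj3 yj15 zj30) (kj xj3 yj16 zj11) (kj xj5 yj15 zj6) (kj xj5 yj17 zj50) (kj xj3 yj15 zj33) (kj xj3 yj15 zj34) (kj xj5 yj18 zj4) (kj xj5 yj18 zj3) (kj xj5 yj18 zj1) (kj xj4 yj14 zj39) (kj xj4 yj14 zj40) (kj xj4 yj14 zj41) (kj xj4 yj14 zj42) (kj xj3 yj15 zj39) (kj xj5 yj18 zj9) (kj xj3 yj16 zj15) (kj xj3 yj15 zj41) (kj xj3 yj15 zj42) (kj xj5 yj18 zj13) (kj xj5 yj18 zj14) (kj xj4 yj14 zj50)) (@D3.rec (fun _ => Pt) (kj xj4 yj15 zj0) (kj xj4 yj15 zj1) (kj xj3 yj15 zj48) (kj xj5 yj18 zj21)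 (kj xj5 yj15 zj5) (kj xj3 yj16 zj10) (kj xj3 yj16 zj1) (kj xj3 yj16 zj2) (kj xj5 yj18 zj24) (kj xj5 yj18 zj22) (kj xj5 yj18 zj0) (kj xj4 yj15 zj11) (kj xj4 yj15 zj12) (kj xj4 yj15 zj13) (kj xj5 yj18 zj12) (kj xj4 yj15 zj15) (kj xj4 yj15 zj16) (kj xj4 yj15 zj17) (kj xj4 yj15 zj18) (kj xj4 yj15 zj19) (kj xj4 yj15 zj20) (kj xj3 yj22 zj1) (kj xj4 yj15 zj22) (kj xj4 yj15 zj23) (kj xj4 yj15 zj24) (kj xj4 yj20 zj20) (kj xj3 yj16 zj31) (kj xj3 yj16 zj45) (kj xj3 yj16 zj46) (kj xj3 yj17 zj1) (kj xj3 yj17 zj0) (kj xj3 yj17 zj2) (kj xj3 yj17 zj4) (kj xj3 yj17 zj5) (kj xj3 yj16 zj43) (kj xj5 yj4 zj31) (kj xj3 yj17 zj20) (kj xj3 yj17 zj3) (kj xj3 yj16 zj47) (kj xj5 yj4 zj27) (kj xj3 yj17 zj13) (kj xj3 yj21 zj2) (kj xj3 yj21 zj8) (kj xj3 yj21 zj18) (kj xj3 yj21 zj5)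 (kj xj3 yj17 zj29) (kj xj3 yj17 zj30) (kj xj3 yj17 zj38) (kj xj3 yj17 zj35) (kj xj3 yj17 zj36) (kj xj3 yj17 zj37)) (@D3.rec (fun _ => Pt) (kj xj3 yj17 zj40) (kj xj3 yj17 zj42) (kj xj3 yj19 zj24) (kj xj3 yj17 zj44) (kj xj3 yj17 zj45) (kj xj3 yj17 zj50) (kj xj5 yj18 zj33) (kj xj5 yj18 zj42) (kj xj3 yj17 zj39) (kj xj3 yj17 zj31) (kj xj5 yj18 zj35) (kj xj5 yj18 zj34) (kj xj5 yj18 zj41) (kj xj5 yj18 zj36) (kj xj3 yj18 zj47) (kj xj3 yj19 zj20) (kj xj5 yj18 zj37) (kj xj3 yj19 zj26) (kj xj3 yj18 zj50) (kj xj3 yj17 zj43) (kj xj3 yj19 zj23) (kj xj5 yj18 zj38) (kj xj5 yj18 zj39) (kj xj3 yj18 zj39) (kj xj3 yj19 zj9) (kj xj4 yj16 zj25) (kj xj5 yj19 zj5) (kj xj3 yj18 zj3) (kj xj3 yj18 zj12) (kj xj3 yj18 zj4) (kj xj4 yj16 zj30) (kj xj5 yj19 zj8) (kj xj4 yj16 zj32) (kj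 xj5 yj19 zj4) (kj xj4 yj16 zj34) (kj xj3 yj18 zj10) (kj xj5 yj19 zj13) (kj xj3 yj20 zj1) (kj xj4 yj16 zj38) (kj xj3 yj18 zj15) (kj xj5 yj19 zj16) (kj xj4 yj16 zj41) (kj xj3 yj20 zj7) (kj xj3 yj18 zj17) (kj xj3 yj20 zj5) (kj xj4 yj16 zj45) (kj xj3 yj18 zj20) (kj xj5 yj19 zj23) (kj xj4 yj16 zj48) (kj xj4 yj16 zj49) (kj xj3 yj19 zj38)) (@D3.rec (fun _ => Pt) (kj xj4 yj17 zj0) (kj xj4 yj17 zj1) (kj xj3 yj18 zj29) (kj xj3 yj19 zj2) (kj xj3 yj19 zj3) (kj xj3 yj19 zj10) (kj xj3 yj18 zj35) (kj xj3 yj19 zj6) (kj xj5 yj18 zj43) (kj xj3 yj19 zj8) (kj xj3 yj19 zj18) (kj xj5 yj18 zj46) (kj xj3 yj19 zj22) (kj xj3 yj19 zj27) (kj xj3 yj19 zj28) (kj xj5 yj19 zj28) (kj xj5 yj19 zj37) (kj xj3 yj19 zj12) (kj xj3 yj19 zj4) (kj xj5 yj19 zj30) (kj xj5 yj18 zj44) (kj xj5 yj19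 zj29) (kj xj3 yj19 zj7) (kj xj5 yj19 zj36) (kj xj5 yj19 zj31) (kj xj5 yj18 zj47) (kj xj3 yj19 zj19) (kj xj5 yj18 zj50) (kj xj5 yj19 zj32) (kj xj5 yj5 zj41) (kj xj5 yj18 zj48) (kj xj5 yj19 zj33) (kj xj5 yj19 zj34) (kj xj4 yj17 zj33) (kj xj5 yj20 zj2) (kj xj3 yj19 zj30) (kj xj3 yj19 zj40) (kj xj3 yj19 zj31) (kj xj5 yj20 zj4) (kj xj4 yj17 zj39) (kj xj5 yj19 zj7) (kj xj3 yj19 zj34) (kj xj5 yj20 zj1) (kj xj4 yj17 zj43) (kj xj3 yj19 zj37) (kj xj3 yj20 zj16) (kj xj4 yj17 zj46) (kj xj5 yj20 zj12) (kj xj4 yj17 zj48) (kj xj5 yj19 zj11) (kj xj3 yj19 zj50)) (@D3.rec (fun _ => Pt) (kj xj5 yj19 zj20) (kj xj3 yj20 zj3) (kj xj5 yj20 zj17) (kj xj4 yj18 zj3) (kj xj4 yj18 zj4) (kj xj5 yj19 zj15) (kj xj4 yj18 zj6) (kj xj3 yj20 zj10) (kj xj5 yj20 zj24) (kj xj4 yj18 zj9) (kj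 xj5 yj20 zj27) (kj xj5 yj20 zj29) (kj xj4 yj18 zj12) (kj xj5 yj20 zj10) (kj xj3 yj20 zj14) (kj xj3 yj20 zj31) (kj xj3 yj20 zj18) (kj xj3 yj20 zj29) (kj xj4 yj18 zj18) (kj xj5 yj20 zj34) (kj xj3 yj20 zj21) (kj xj5 yj20 zj36) (kj xj4 yj18 zj22) (kj xj4 yj18 zj23) (kj xj3 yj20 zj23) (kj xj5 yj20 zj32) (kj xj3 yj20 zj25) (kj xj5 yj20 zj42) (kj xj4 yj18 zj28) (kj xj5 yj2 zj44) (kj xj4 yj18 zj30) (kj xj3 yj22 zj24) (kj xj3 yj20 zj36) (kj xj5 yj2 zj42) (kj xj4 yj18 zj34) (kj xj5 yj20 zj48) (kj xj4 yj18 zj36) (kj xj5 yj21 zj0) (kj xj3 yj20 zj39) (kj xj5 yj21 zj2) (kj xj3 yj20 zj41) (kj xj5 yj21 zj4) (kj xj4 yj18 zj42) (kj xj3 yj20 zj43) (kj xj5 yj21 zj6) (kj xj3 yj20 zj46) (kj xj5 yj21 zj8) (kj xj3 yj20 zj48) (kj xj5 yj21 zj10) (kj xj3 yj21 zj11) (kj xj4 yj20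 zj37)) (@D3.rec (fun _ => Pt) (kj xj3 yj21 zj1) (kj xj4 yj20 zj36) (kj xj3 yj21 zj16) (kj xj3 yj21 zj19) (kj xj5 yj18 zj32) (kj xj3 yj21 zj22) (kj xj3 yj21 zj23) (kj xj4 yj20 zj38) (kj xj4 yj22 zj15) (kj xj3 yj21 zj12) (kj xj3 yj21 zj15) (kj xj4 yj22 zj31) (kj xj5 yj21 zj11) (kj xj5 yj21 zj12) (kj xj5 yj5 zj5) (kj xj5 yj4 zj34) (kj xj5 yj21 zj13) (kj xj3 yj21 zj21) (kj xj5 yj21 zj26) (kj xj5 yj21 zj15) (kj xj5 yj21 zj29) (kj xj3 yj21 zj27) (kj xj5 yj21 zj30) (kj xj5 yj21 zj32) (kj xj3 yj21 zj29) (kj xj4 yj19 zj25) (kj xj3 yj21 zj43) (kj xj4 yj19 zj27) (kj xj4 yj19 zj28) (kj xj4 yj19 zj29) (kj xj3 yj21 zj44) (kj xj3 yj21 zj45) (kj xj4 yj19 zj32) (kj xj3 yj21 zj46) (kj xj3 yj21 zj47) (kj xj4 yj19 zj35) (kj xj3 yj21 zj48) (kj xj5 yj16 zj7) (kj xj5 yj21 zj33)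 (kj xj5 yj21 zj36) (kj xj5 yj21 zj37) (kj xj5 yj21 zj38) (kj xj5 yj21 zj40) (kj xj5 yj21 zj19) (kj xj3 yj21 zj49) (kj xj4 yj19 zj45) (kj xj4 yj19 zj46) (kj xj4 yj19 zj47) (kj xj4 yj19 zj48) (kj xj4 yj19 zj49) (kj xj4 yj19 zj50)) (@D3.rec (fun _ => Pt) (kj xj3 yj22 zj17) (kj xj3 yj22 zj15) (kj xj3 yj22 zj13) (kj xj5 yj21 zj49) (kj xj4 yj20 zj4) (kj xj3 yj22 zj31) (kj xj3 yj22 zj30) (kj xj3 yj22 zj19) (kj xj5 yj2 zj47) (kj xj4 yj20 zj9) (kj xj4 yj20 zj10) (kj xj4 yj20 zj11) (kj xj4 yj20 zj12) (kj xj4 yj20 zj13) (kj xj4 yj20 zj14) (kj xj3 yj22 zj40) (kj xj3 yj22 zj41) (kj xj3 yj22 zj42) (kj xj3 yj22 zj43) (kj xj4 yj4 zj14) (kj xj4 yj15 zj25) (kj xj4 yj3 zj46) (kj xj4 yj4 zj15) (kj xj3 yj22 zj44) (kj xj4 yj20 zj24) (kj xj4 yj20 zj25) (kj xj4 yj20 zj26) (kj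 xj4 yj20 zj27) (kj xj4 yj4 zj13) (kj xj3 yj23 zj2) (kj xj3 yj23 zj3) (kj xj3 yj23 zj4) (kj xj3 yj23 zj5) (kj xj3 yj23 zj6) (kj xj4 yj4 zj16) (kj xj3 yj23 zj1) (kj xj4 yj19 zj1) (kj xj4 yj18 zj50) (kj xj4 yj19 zj7) (kj xj4 yj4 zj44) (kj xj4 yj4 zj18) (kj xj4 yj4 zj0) (kj xj3 yj23 zj7) (kj xj3 yj23 zj16) (kj xj3 yj23 zj17) (kj xj3 yj23 zj18) (kj xj3 yj23 zj19) (kj xj3 yj23 zj20) (kj xj4 yj12 zj42) (kj xj3 yj23 zj22) (kj xj4 yj5 zj20)) (@D3.rec (fun _ => Pt) (kj xj3 yj23 zj24) (kj xj3 yj23 zj25) (kj xj3 yj23 zj14) (kj xj4 yj12 zj27) (kj xj4 yj12 zj19) (kj xj5 yj22 zj1) (kj xj4 yj13 zj4) (kj xj4 yj12 zj13) (kj xj5 yj22 zj2) (kj xj4 yj12 zj10) (kj xj4 yj12 zj43) (kj xj5 yj22 zj3) (kj xj5 yj22 zj4) (kj xj3 yj23 zj21) (kj xj4 yj5 zj21) (kj xj5 yj22 zj5) (kj xj3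 yj23 zj23) (kj xj5 yj22 zj20) (kj xj5 yj22 zj7) (kj xj4 yj21 zj19) (kj xj4 yj21 zj20) (kj xj4 yj21 zj21) (kj xj4 yj21 zj22) (kj xj4 yj13 zj6) (kj xj4 yj21 zj24) (kj xj4 yj21 zj25) (kj xj3 yj23 zj30) (kj xj4 yj21 zj27) (kj xj4 yj12 zj48) (kj xj4 yj21 zj29) (kj xj4 yj21 zj30) (kj xj4 yj21 zj31) (kj xj4 yj13 zj37) (kj xj4 yj21 zj33) (kj xj3 yj23 zj34) (kj xj5 yj22 zj38) (kj xj4 yj21 zj36) (kj xj4 yj6 zj11) (kj xj3 yj23 zj38) (kj xj5 yj22 zj41) (kj xj4 yj21 zj40) (kj xj4 yj21 zj41) (kj xj3 yj23 zj41) (kj xj5 yj22 zj46) (kj xj4 yj21 zj44) (kj xj4 yj21 zj45) (kj xj4 yj21 zj46) (kj xj5 yj23 zj1) (kj xj4 yj21 zj48) (kj xj4 yj21 zj49) (kj xj4 yj21 zj50)) (@D3.rec (fun _ => Pt) (kj xj4 yj22 zj0) (kj xj4 yj22 zj1) (kj xj4 yj4 zj17) (kj xj3 yj23 zj50) (kj xj3 yj24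 zj11) (kj xj3 yj24 zj12) (kj xj3 yj24 zj13) (kj xj3 yj24 zj14) (kj xj5 yj23 zj14) (kj xj3 yj24 zj3) (kj xj3 yj24 zj17) (kj xj3 yj24 zj18) (kj xj3 yj24 zj19) (kj xj3 yj24 zj20) (kj xj3 yj24 zj21) (kj xj4 yj19 zj8) (kj xj3 yj24 zj23) (kj xj4 yj4 zj26) (kj xj3 yj24 zj25) (kj xj3 yj24 zj26) (kj xj3 yj24 zj9) (kj xj5 yj23 zj6) (kj xj5 yj23 zj7) (kj xj5 yj23 zj8) (kj xj5 yj23 zj26) (kj xj5 yj23 zj10) (kj xj5 yj23 zj29) (kj xj5 yj23 zj12) (kj xj5 yj23 zj13) (kj xj3 yj24 zj15) (kj xj5 yj23 zj15) (kj xj4 yj19 zj11) (kj xj5 yj23 zj16) (kj xj5 yj23 zj17) (kj xj5 yj23 zj38) (kj xj5 yj23 zj19) (kj xj3 yj24 zj22) (kj xj5 yj23 zj41) (kj xj5 yj23 zj21) (kj xj3 yj24 zj24) (kj xj4 yj4 zj25) (kj xj4 yj4 zj9) (kj xj3 yj24 zj45) (kj xj3 yj24 zj46) (kj xj3 yj24 zj47) (kj xj5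 yj24 zj0) (kj xj3 yj24 zj49) (kj xj5 yj24 zj3) (kj xj3 yj25 zj0) (kj xj3 yj25 zj1) (kj xj3 yj24 zj32)) (@D3.rec (fun _ => Pt) (kj xj3 yj25 zj3) (kj xj3 yj25 zj4) (kj xj3 yj25 zj5) (kj xj4 yj13 zj5) (kj xj3 yj25 zj7) (kj xj3 yj25 zj8) (kj xj3 yj25 zj9) (kj xj5 yj24 zj20) (kj xj3 yj25 zj11) (kj xj3 yj25 zj12) (kj xj3 yj24 zj39) (kj xj5 yj24 zj24) (kj xj3 yj25 zj15) (kj xj3 yj24 zj41) (kj xj5 yj24 zj28) (kj xj3 yj25 zj18) (kj xj5 yj23 zj45) (kj xj5 yj23 zj46) (kj xj5 yj23 zj47) (kj xj5 yj24 zj37) (kj xj5 yj23 zj49) (kj xj5 yj23 zj50) (kj xj3 yj24 zj48) (kj xj5 yj24 zj41) (kj xj5 yj24 zj2) (kj xj3 yj24 zj50) (kj xj5 yj24 zj45) (kj xj5 yj24 zj5) (kj xj5 yj24 zj6) (kj xj5 yj24 zj7) (kj xj5 yj24 zj8) (kj xj5 yj24 zj9) (kj xj5 yj25 zj5) (kj xj5 yj24 zj11) (kj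 xj5 yj24 zj12) (kj xj3 yj25 zj6) (kj xj5 yj24 zj13) (kj xj5 yj25 zj11) (kj xj5 yj24 zj15) (kj xj5 yj24 zj16) (kj xj5 yj24 zj17) (kj xj5 yj25 zj18) (kj xj5 yj24 zj19) (kj xj3 yj25 zj10) (kj xj5 yj25 zj22) (kj xj5 yj24 zj22) (kj xj5 yj25 zj24) (kj xj3 yj25 zj14) (kj xj5 yj25 zj26) (kj xj5 yj24 zj26) (kj xj5 yj24 zj27)) (@D3.rec (fun _ => Pt) (kj xj3 yj25 zj17) (kj xj5 yj25 zj31) (kj xj4 yj24 zj2) (kj xj5 yj25 zj35) (kj xj4 yj24 zj4) (kj xj4 yj24 zj5) (kj xj4 yj24 zj6) (kj xj5 yj25 zj41) (kj xj4 yj24 zj8) (kj xj3 yj25 zj22) (kj xj5 yj25 zj45) (kj xj4 yj24 zj11) (kj xj5 yj25 zj47) (kj xj3 yj25 zj26) (kj xj5 yj25 zj49) (kj xj4 yj24 zj15) (kj xj4 yj24 zj16) (kj xj3 yj25 zj29) (kj xj5 yj26 zj3) (kj xj4 yj24 zj19) (kj xj4 yj24 zj20) (kj xj4 yj24 zj21) (kj xj5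 yj26 zj12) (kj xj4 yj24 zj23) (kj xj4 yj24 zj24) (kj xj4 yj24 zj25) (kj xj5 yj26 zj19) (kj xj4 yj24 zj27) (kj xj3 yj25 zj35) (kj xj5 yj26 zj23) (kj xj4 yj24 zj30) (kj xj4 yj24 zj31) (kj xj5 yj26 zj28) (kj xj4 yj24 zj33) (kj xj3 yj25 zj40) (kj xj5 yj26 zj32) (kj xj4 yj24 zj36) (kj xj4 yj24 zj37) (kj xj4 yj24 zj38) (kj xj4 yj24 zj39) (kj xj5 yj26 zj40) (kj xj3 yj25 zj44) (kj xj5 yj26 zj42) (kj xj4 yj24 zj43) (kj xj4 yj24 zj44) (kj xj3 yj25 zj47) (kj xj5 yj26 zj47) (kj xj3 yj25 zj49) (kj xj5 yj26 zj49) (kj xj3 yj26 zj0) (kj xj6 yj0 zj1)) (@D3.rec (fun _ => Pt) (kj xj6 yj0 zj2) (kj xj4 yj25 zj1) (kj xj4 yj25 zj2) (kj xj3 yj26 zj4) (kj xj3 yj26 zj39) (kj xj3 yj26 zj40) (kj xj3 yj26 zj41) (kj xj3 yj26 zj42) (kj xj3 yj26 zj43) (kj xj6 yj0 zj18) (kj xj3 yj26 zj45)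 (kj xj6 yj0 zj21) (kj xj3 yj26 zj47) (kj xj3 yj26 zj48) (kj xj3 yj26 zj10) (kj xj3 yj26 zj50) (kj xj4 yj0 zj0) (kj xj4 yj0 zj1) (kj xj6 yj0 zj31) (kj xj4 yj0 zj3) (kj xj4 yj0 zj4) (kj xj4 yj0 zj5) (kj xj6 yj0 zj39) (kj xj4 yj0 zj7) (kj xj4 yj0 zj8) (kj xj3 yj26 zj17) (kj xj6 yj0 zj43) (kj xj4 yj0 zj11) (kj xj3 yj26 zj19) (kj xj6 yj0 zj47) (kj xj4 yj0 zj14) (kj xj4 yj0 zj15) (kj xj4 yj0 zj16) (kj xj4 yj0 zj17) (kj xj4 yj0 zj18) (kj xj6 yj1 zj7) (kj xj4 yj0 zj20) (kj xj4 yj0 zj21) (kj xj3 yj26 zj26) (kj xj4 yj0 zj23) (kj xj6 yj1 zj13) (kj xj4 yj0 zj25) (kj xj4 yj0 zj26) (kj xj4 yj0 zj27) (kj xj6 yj1 zj20) (kj xj4 yj0 zj29) (kj xj3 yj26 zj30) (kj xj6 yj1 zj24) (kj xj4 yj0 zj32) (kj xj6 yj1 zj26) (kj xj3 yj26 zj34)) (@D3.rec (fun _ => Pt) (kj xj6 yj1 zj28)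 (kj xj4 yj0 zj36) (kj xj4 yj0 zj37) (kj xj3 yj26 zj37) (kj xj6 yj1 zj33) (kj xj6 yj0 zj8) (kj xj6 yj0 zj9) (kj xj6 yj0 zj10) (kj xj6 yj1 zj41) (kj xj6 yj0 zj12) (kj xj6 yj0 zj13) (kj xj6 yj0 zj14) (kj xj6 yj1 zj49) (kj xj6 yj0 zj16) (kj xj6 yj0 zj17) (kj xj3 yj26 zj44) (kj xj6 yj2 zj2) (kj xj6 yj0 zj20) (kj xj3 yj26 zj46) (kj xj6 yj2 zj6) (kj xj6 yj0 zj23) (kj xj6 yj0 zj24) (kj xj6 yj0 zj25) (kj xj6 yj0 zj26) (kj xj6 yj0 zj27) (kj xj6 yj2 zj17) (kj xj6 yj0 zj29) (kj xj6 yj0 zj30) (kj xj4 yj0 zj2) (kj xj6 yj0 zj32) (kj xj6 yj2 zj23) (kj xj6 yj0 zj34) (kj xj6 yj0 zj35) (kj xj6 yj0 zj36) (kj xj6 yj2 zj30) (kj xj6 yj0 zj38) (kj xj4 yj0 zj6) (kj xj6 yj2 zj34) (kj xj6 yj0 zj41) (kj xj6 yj2 zj36) (kj xj4 yj0 zj10) (kj xj6 yj2 zj38) (kj xj6 yj0 zj45) (kj xj6 yj0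 zj46) (kj xj4 yj0 zj13) (kj xj6 yj2 zj43) (kj xj6 yj0 zj49) (kj xj6 yj0 zj50) (kj xj6 yj1 zj0) (kj xj6 yj3 zj0) (kj xj6 yj1 zj2))
def f_j_5 : D2 → D3 → Pt := @D2.rec (fun _ => D3 → Pt) (@D3.rec (fun _ => Pt) (kj xj6 yj1 zj3) (kj xj6 yj1 zj4) (kj xj6 yj3 zj6) (kj xj6 yj1 zj6) (kj xj4 yj0 zj19) (kj xj6 yj3 zj10) (kj xj6 yj1 zj9) (kj xj6 yj1 zj10) (kj xj6 yj3 zj15) (kj xj6 yj1 zj12) (kj xj4 yj0 zj24) (kj xj6 yj3 zj19) (kj xj6 yj1 zj15) (kj xj6 yj1 zj16) (kj xj6 yj1 zj17) (kj xj6 yj1 zj18) (kj xj6 yj3 zj27) (kj xj4 yj0 zj28) (kj xj6 yj3 zj29) (kj xj6 yj1 zj22) (kj xj6 yj1 zj23) (kj xj4 yj0 zj31) (kj xj6 yj3 zj34) (kj xj4 yj0 zj33) (kj xj6 yj3 zj36) (kj xj4 yj0 zj35) (kj xj6 yj3 zj39) (kj xj6 yj3 zj40) (kj xj6 yj1 zj31) (kj xj6 yj1 zj32) (kj xj4 yj0 zj39) (kj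 xj5 yj0 zj31) (kj xj5 yj0 zj32) (kj xj5 yj0 zj33) (kj xj6 yj4 zj1) (kj xj5 yj0 zj35) (kj xj5 yj0 zj36) (kj xj4 yj0 zj43) (kj xj5 yj0 zj38) (kj xj6 yj4 zj6) (kj xj5 yj0 zj40) (kj xj5 yj0 zj41) (kj xj5 yj0 zj42) (kj xj6 yj4 zj13) (kj xj5 yj0 zj44) (kj xj4 yj0 zj47) (kj xj6 yj4 zj16) (kj xj5 yj0 zj47) (kj xj6 yj4 zj18) (kj xj4 yj1 zj0) (kj xj6 yj4 zj20)) (@D3.rec (fun _ => Pt) (kj xj5 yj1 zj0) (kj xj5 yj1 zj1) (kj xj4 yj1 zj3) (kj xj6 yj4 zj25) (kj xj5 yj1 zj4) (kj xj5 yj1 zj5) (kj xj5 yj1 zj6) (kj xj6 yj4 zj32) (kj xj5 yj1 zj8) (kj xj5 yj1 zj9) (kj xj5 yj1 zj10) (kj xj6 yj4 zj38) (kj xj5 yj1 zj12) (kj xj4 yj1 zj9) (kj xj6 yj4 zj41) (kj xj5 yj1 zj15) (kj xj5 yj1 zj16) (kj xj6 yj4 zj46) (kj xj5 yj1 zj18) (kj xj4 yj1 zj14) (kj xj6 yj4 zj50) (kj xj5 yj1 zj21)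 (kj xj5 yj1 zj22) (kj xj5 yj1 zj23) (kj xj5 yj1 zj24) (kj xj6 yj5 zj7) (kj xj4 yj1 zj18) (kj xj6 yj5 zj9) (kj xj5 yj1 zj28) (kj xj5 yj1 zj29) (kj xj4 yj1 zj21) (kj xj6 yj5 zj14) (kj xj4 yj1 zj23) (kj xj6 yj5 zj16) (kj xj4 yj1 zj25) (kj xj6 yj5 zj19) (kj xj6 yj5 zj20) (kj xj5 yj1 zj37) (kj xj5 yj1 zj38) (kj xj4 yj1 zj29) (kj xj5 yj1 zj40) (kj xj6 yj5 zj29) (kj xj5 yj1 zj42) (kj xj5 yj1 zj43) (kj xj5 yj1 zj44) (kj xj6 yj5 zj35) (kj xj5 yj1 zj46) (kj xj4 yj1 zj33) (kj xj6 yj5 zj39) (kj xj5 yj1 zj49) (kj xj5 yj1 zj50)) (@D3.rec (fun _ => Pt) (kj xj5 yj2 zj0) (kj xj6 yj5 zj45) (kj xj4 yj1 zj37) (kj xj6 yj5 zj47) (kj xj5 yj2 zj4) (kj xj5 yj2 zj5) (kj xj4 yj1 zj40) (kj xj6 yj6 zj1) (kj xj6 yj6 zj3) (kj xj5 yj2 zj9) (kj xj6 yj6 zj7) (kj xj4 yj1 zj43) (kj xj6 yj6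 zj9) (kj xj5 yj2 zj13) (kj xj5 yj2 zj14) (kj xj4 yj1 zj46) (kj xj6 yj6 zj15) (kj xj6 yj6 zj16) (kj xj5 yj2 zj18) (kj xj5 yj2 zj19) (kj xj5 yj2 zj20) (kj xj5 yj2 zj21) (kj xj5 yj2 zj22) (kj xj4 yj2 zj0) (kj xj6 yj6 zj26) (kj xj4 yj2 zj2) (kj xj6 yj6 zj29) (kj xj6 yj6 zj30) (kj xj5 yj2 zj28) (kj xj5 yj2 zj29) (kj xj4 yj2 zj6) (kj xj4 yj10 zj34) (kj xj4 yj2 zj8) (kj xj6 yj6 zj37) (kj xj6 yj6 zj38) (kj xj4 yj2 zj10) (kj xj4 yj2 zj11) (kj xj6 yj6 zj42) (kj xj6 yj6 zj43) (kj xj5 yj2 zj39) (kj xj5 yj2 zj40) (kj xj5 yj2 zj41) (kj xj4 yj18 zj33) (kj xj4 yj2 zj16) (kj xj4 yj18 zj29) (kj xj4 yj2 zj19) (kj xj4 yj2 zj21) (kj xj4 yj20 zj8) (kj xj4 yj2 zj23) (kj xj6 yj7 zj0) (kj xj5 yj2 zj50)) (@D3.rec (fun _ => Pt) (kj xj6 yj7 zj3) (kj xj4 yj2 zj26) (kj xj6 yj7 zj5)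 (kj xj5 yj3 zj3) (kj xj6 yj7 zj8) (kj xj4 yj2 zj29) (kj xj4 yj2 zj31) (kj xj6 yj7 zj10) (kj xj4 yj2 zj33) (kj xj6 yj7 zj12) (kj xj5 yj3 zj10) (kj xj4 yj11 zj5) (kj xj4 yj2 zj37) (kj xj6 yj7 zj16) (kj xj6 yj7 zj17) (kj xj4 yj2 zj39) (kj xj4 yj2 zj40) (kj xj6 yj7 zj21) (kj xj6 yj7 zj22) (kj xj5 yj3 zj19) (kj xj5 yj3 zj20) (kj xj5 yj3 zj21) (kj xj6 yj7 zj30) (kj xj5 yj3 zj23) (kj xj6 yj7 zj33) (kj xj4 yj2 zj45) (kj xj4 yj2 zj47) (kj xj6 yj7 zj35) (kj xj4 yj2 zj49) (kj xj6 yj7 zj37) (kj xj5 yj3 zj30) (kj xj6 yj7 zj41) (kj xj4 yj3 zj1) (kj xj6 yj7 zj43) (kj xj5 yj3 zj34) (kj xj5 yj3 zj35) (kj xj4 yj3 zj3) (kj xj6 yj7 zj49) (kj xj4 yj3 zj5) (kj xj6 yj8 zj0) (kj xj5 yj3 zj40) (kj xj4 yj11 zj35) (kj xj4 yj3 zj9) (kj xj6 yj8 zj4) (kj xj6 yj8 zj5) (kj xj4 yj3 zj11)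 (kj xj4 yj3 zj12) (kj xj6 yj8 zj9) (kj xj6 yj8 zj10) (kj xj5 yj3 zj49) (kj xj5 yj3 zj50)) (@D3.rec (fun _ => Pt) (kj xj5 yj4 zj0) (kj xj4 yj11 zj46) (kj xj4 yj3 zj18) (kj xj4 yj3 zj19) (kj xj6 yj8 zj19) (kj xj6 yj8 zj20) (kj xj6 yj8 zj21) (kj xj4 yj3 zj22) (kj xj4 yj3 zj23) (kj xj6 yj8 zj27) (kj xj6 yj8 zj28) (kj xj6 yj8 zj29) (kj xj5 yj4 zj12) (kj xj5 yj4 zj13) (kj xj5 yj4 zj14) (kj xj5 yj4 zj15) (kj xj5 yj4 zj16) (kj xj5 yj4 zj17) (kj xj5 yj4 zj18) (kj xj5 yj4 zj19) (kj xj5 yj4 zj20) (kj xj5 yj4 zj21) (kj xj5 yj4 zj22) (kj xj5 yj4 zj23) (kj xj4 yj4 zj20) (kj xj4 yj4 zj21) (kj xj4 yj4 zj22) (kj xj4 yj15 zj39) (kj xj4 yj4 zj24) (kj xj4 yj4 zj27) (kj xj4 yj4 zj29) (kj xj4 yj15 zj35) (kj xj4 yj4 zj31) (kj xj4 yj4 zj32) (kj xj4 yj19 zj15) (kj xj4 yj4 zj34)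 (kj xj4 yj4 zj35) (kj xj5 yj23 zj44) (kj xj4 yj4 zj38) (kj xj5 yj23 zj31) (kj xj4 yj4 zj41) (kj xj5 yj23 zj0) (kj xj6 yj8 zj39) (kj xj6 yj8 zj40) (kj xj6 yj8 zj41) (kj xj5 yj23 zj39) (kj xj5 yj23 zj18) (kj xj6 yj8 zj42) (kj xj4 yj4 zj23) (kj xj5 yj23 zj42) (kj xj5 yj23 zj20)) (@D3.rec (fun _ => Pt) (kj xj5 yj23 zj11) (kj xj6 yj8 zj43) (kj xj6 yj9 zj2) (kj xj4 yj4 zj30) (kj xj6 yj8 zj44) (kj xj4 yj19 zj14) (kj xj6 yj9 zj13) (kj xj6 yj8 zj46) (kj xj4 yj4 zj33) (kj xj6 yj9 zj17) (kj xj6 yj8 zj48) (kj xj6 yj9 zj19) (kj xj4 yj4 zj37) (kj xj6 yj9 zj21) (kj xj6 yj9 zj0) (kj xj6 yj8 zj49) (kj xj4 yj4 zj40) (kj xj5 yj23 zj30) (kj xj4 yj5 zj22) (kj xj4 yj5 zj23) (kj xj4 yj5 zj25) (kj xj4 yj5 zj26) (kj xj4 yj5 zj27) (kj xj6 yj9 zj33) (kj xj4 yj5 zj29) (kj xj4 yj5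 zj30) (kj xj4 yj4 zj49) (kj xj5 yj23 zj43) (kj xj4 yj5 zj33) (kj xj4 yj5 zj0) (kj xj5 yj22 zj18) (kj xj4 yj5 zj36) (kj xj4 yj5 zj37) (kj xj4 yj5 zj38) (kj xj4 yj5 zj39) (kj xj4 yj5 zj40) (kj xj6 yj9 zj47) (kj xj4 yj5 zj42) (kj xj4 yj5 zj43) (kj xj4 yj5 zj7) (kj xj4 yj5 zj45) (kj xj4 yj17 zj29) (kj xj4 yj5 zj47) (kj xj4 yj5 zj48) (kj xj4 yj5 zj49) (kj xj6 yj10 zj8) (kj xj4 yj6 zj0) (kj xj4 yj5 zj11) (kj xj6 yj10 zj12) (kj xj4 yj6 zj3) (kj xj6 yj9 zj25)) (@D3.rec (fun _ => Pt) (kj xj4 yj5 zj15) (kj xj6 yj10 zj15) (kj xj4 yj6 zj7) (kj xj4 yj6 zj8) (kj xj4 yj5 zj18) (kj xj6 yj10 zj20) (kj xj5 yj22 zj6) (kj xj5 yj22 zj17) (kj xj6 yj9 zj26) (kj xj6 yj9 zj27) (kj xj6 yj10 zj26) (kj xj6 yj9 zj29) (kj xj6 yj9 zj30) (kj xj6 yj10 zj30) (kj xj6 yj9 zj32) (kj xj4 yj5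 zj28) (kj xj6 yj10 zj34) (kj xj6 yj9 zj35) (kj xj6 yj10 zj36) (kj xj4 yj5 zj32) (kj xj5 yj25 zj27) (kj xj5 yj24 zj25) (kj xj6 yj9 zj36) (kj xj4 yj5 zj35) (kj xj6 yj10 zj40) (kj xj6 yj9 zj38) (kj xj6 yj9 zj39) (kj xj6 yj9 zj40) (kj xj6 yj10 zj48) (kj xj6 yj9 zj42) (kj xj6 yj9 zj43) (kj xj6 yj9 zj44) (kj xj6 yj11 zj3) (kj xj6 yj9 zj46) (kj xj4 yj5 zj41) (kj xj6 yj11 zj7) (kj xj6 yj9 zj49) (kj xj6 yj9 zj50) (kj xj6 yj11 zj12) (kj xj6 yj10 zj1) (kj xj4 yj5 zj46) (kj xj6 yj11 zj16) (kj xj6 yj10 zj3) (kj xj6 yj10 zj4) (kj xj6 yj10 zj5) (kj xj6 yj10 zj6) (kj xj6 yj11 zj23) (kj xj4 yj5 zj50) (kj xj6 yj11 zj25) (kj xj6 yj10 zj10) (kj xj6 yj10 zj11)) (@D3.rec (fun _ => Pt) (kj xj4 yj6 zj2) (kj xj6 yj11 zj30) (kj xj4 yj6 zj4) (kj xj6 yj11 zj32) (kj xj4 yj6 zj6) (kj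 xj6 yj11 zj35) (kj xj6 yj11 zj36) (kj xj6 yj10 zj18) (kj xj6 yj10 zj19) (kj xj4 yj6 zj10) (kj xj5 yj22 zj40) (kj xj5 yj7 zj11) (kj xj5 yj7 zj12) (kj xj4 yj6 zj14) (kj xj6 yj11 zj46) (kj xj5 yj7 zj15) (kj xj6 yj11 zj50) (kj xj5 yj7 zj17) (kj xj4 yj6 zj17) (kj xj6 yj12 zj3) (kj xj5 yj7 zj20) (kj xj6 yj12 zj5) (kj xj4 yj6 zj20) (kj xj6 yj12 zj7) (kj xj5 yj7 zj24) (kj xj5 yj7 zj25) (kj xj4 yj6 zj23) (kj xj6 yj12 zj12) (kj xj4 yj6 zj25) (kj xj6 yj12 zj14) (kj xj4 yj6 zj27) (kj xj6 yj12 zj17) (kj xj6 yj12 zj18) (kj xj5 yj7 zj33) (kj xj5 yj7 zj34) (kj xj4 yj6 zj31) (kj xj5 yj7 zj36) (kj xj6 yj12 zj27) (kj xj5 yj7 zj38) (kj xj5 yj7 zj39) (kj xj5 yj7 zj40) (kj xj6 yj12 zj33) (kj xj5 yj7 zj42) (kj xj4 yj6 zj35) (kj xj6 yj12 zj37) (kj xj5 yj7 zj45) (kj xj5 yj7 zj46)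 (kj xj5 yj7 zj47) (kj xj6 yj12 zj42) (kj xj4 yj6 zj39) (kj xj6 yj12 zj44)) (@D3.rec (fun _ => Pt) (kj xj5 yj8 zj0) (kj xj5 yj8 zj1) (kj xj4 yj6 zj42) (kj xj6 yj12 zj49) (kj xj6 yj13 zj0) (kj xj5 yj8 zj5) (kj xj6 yj13 zj4) (kj xj4 yj6 zj45) (kj xj6 yj13 zj6) (kj xj5 yj8 zj9) (kj xj5 yj8 zj10) (kj xj4 yj6 zj48) (kj xj6 yj13 zj12) (kj xj6 yj13 zj13) (kj xj5 yj8 zj14) (kj xj5 yj8 zj15) (kj xj5 yj8 zj16) (kj xj5 yj8 zj17) (kj xj4 yj7 zj2) (kj xj6 yj13 zj21) (kj xj4 yj7 zj4) (kj xj6 yj13 zj24) (kj xj6 yj13 zj25) (kj xj5 yj8 zj23) (kj xj5 yj8 zj24) (kj xj4 yj7 zj8) (kj xj5 yj26 zj48) (kj xj4 yj7 zj10) (kj xj6 yj13 zj32) (kj xj6 yj13 zj33) (kj xj4 yj7 zj12) (kj xj4 yj7 zj13) (kj xj6 yj13 zj37) (kj xj6 yj13 zj38) (kj xj5 yj8 zj34) (kj xj5 yj8 zj35) (kj xj5 yj8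 zj36) (kj xj4 yj8 zj7) (kj xj4 yj8 zj8) (kj xj4 yj8 zj9) (kj xj4 yj8 zj10) (kj xj6 yj14 zj1) (kj xj4 yj8 zj12) (kj xj4 yj8 zj13) (kj xj4 yj7 zj20) (kj xj4 yj8 zj15) (kj xj6 yj14 zj7) (kj xj4 yj8 zj17) (kj xj4 yj8 zj18) (kj xj4 yj8 zj19) (kj xj6 yj14 zj13)) (@D3.rec (fun _ => Pt) (kj xj4 yj8 zj21) (kj xj4 yj7 zj24) (kj xj6 yj14 zj17) (kj xj4 yj8 zj24) (kj xj6 yj9 zj24) (kj xj4 yj7 zj28) (kj xj5 yj25 zj29) (kj xj4 yj8 zj28) (kj xj4 yj8 zj29) (kj xj4 yj7 zj31) (kj xj6 yj14 zj21) (kj xj4 yj8 zj32) (kj xj4 yj8 zj33) (kj xj6 yj14 zj27) (kj xj4 yj8 zj35) (kj xj4 yj8 zj36) (kj xj6 yj14 zj31) (kj xj4 yj8 zj38) (kj xj4 yj7 zj37) (kj xj6 yj14 zj35) (kj xj4 yj8 zj41) (kj xj4 yj8 zj42) (kj xj6 yj14 zj40) (kj xj4 yj8 zj44) (kj xj4 yj7 zj42) (kj xj6 yj14 zj44) (kj xj4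 yj8 zj47) (kj xj4 yj8 zj48) (kj xj4 yj8 zj49) (kj xj4 yj8 zj50) (kj xj6 yj15 zj0) (kj xj4 yj7 zj46) (kj xj6 yj15 zj2) (kj xj4 yj9 zj3) (kj xj4 yj9 zj4) (kj xj4 yj7 zj49) (kj xj6 yj15 zj7) (kj xj4 yj8 zj0) (kj xj6 yj15 zj9) (kj xj4 yj8 zj2) (kj xj6 yj15 zj12) (kj xj6 yj15 zj13) (kj xj4 yj9 zj12) (kj xj4 yj9 zj13) (kj xj4 yj8 zj6) (kj xj6 yj13 zj45) (kj xj6 yj13 zj46) (kj xj6 yj15 zj24) (kj xj6 yj13 zj48) (kj xj6 yj13 zj49) (kj xj6 yj15 zj28)) (@D3.rec (fun _ => Pt) (kj xj6 yj14 zj0) (kj xj4 yj8 zj11) (kj xj6 yj15 zj32) (kj xj6 yj14 zj3) (kj xj6 yj14 zj4) (kj xj6 yj15 zj37) (kj xj6 yj14 zj6) (kj xj4 yj8 zj16) (kj xj6 yj15 zj41) (kj xj6 yj14 zj9) (kj xj6 yj14 zj10) (kj xj6 yj14 zj11) (kj xj6 yj15 zj46) (kj xj4 yj8 zj20) (kj xj6 yj15 zj48) (kj xj6 yj14 zj15)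 (kj xj6 yj14 zj16) (kj xj4 yj8 zj23) (kj xj6 yj16 zj2) (kj xj4 yj8 zj25) (kj xj6 yj16 zj4) (kj xj4 yj8 zj27) (kj xj6 yj3 zj41) (kj xj6 yj16 zj7) (kj xj6 yj1 zj29) (kj xj6 yj14 zj20) (kj xj4 yj8 zj31) (kj xj6 yj14 zj22) (kj xj6 yj16 zj14) (kj xj6 yj14 zj24) (kj xj6 yj16 zj18) (kj xj6 yj14 zj26) (kj xj4 yj8 zj34) (kj xj6 yj16 zj22) (kj xj6 yj14 zj29) (kj xj6 yj16 zj24) (kj xj4 yj8 zj37) (kj xj6 yj16 zj26) (kj xj6 yj14 zj33) (kj xj6 yj14 zj34) (kj xj4 yj8 zj40) (kj xj6 yj16 zj31) (kj xj6 yj16 zj33) (kj xj6 yj14 zj38) (kj xj6 yj16 zj37) (kj xj4 yj8 zj43) (kj xj6 yj16 zj39) (kj xj6 yj14 zj42) (kj xj6 yj14 zj43) (kj xj4 yj8 zj46) (kj xj6 yj16 zj45)) (@D3.rec (fun _ => Pt) (kj xj6 yj16 zj46) (kj xj6 yj14 zj47) (kj xj6 yj14 zj48) (kj xj6 yj14 zj49) (kj xj6 yj14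 zj50) (kj xj4 yj9 zj0) (kj xj6 yj17 zj3) (kj xj4 yj9 zj2) (kj xj6 yj17 zj6) (kj xj6 yj17 zj7) (kj xj6 yj15 zj5) (kj xj6 yj15 zj6) (kj xj4 yj9 zj6) (kj xj6 yj3 zj35) (kj xj4 yj9 zj8) (kj xj6 yj17 zj14) (kj xj6 yj17 zj15) (kj xj4 yj9 zj10) (kj xj4 yj9 zj11) (kj xj6 yj17 zj19) (kj xj6 yj17 zj20) (kj xj6 yj15 zj16) (kj xj6 yj15 zj17) (kj xj6 yj15 zj18) (kj xj5 yj11 zj24) (kj xj6 yj17 zj28) (kj xj6 yj17 zj30) (kj xj5 yj11 zj27) (kj xj4 yj9 zj17) (kj xj6 yj17 zj34) (kj xj5 yj11 zj30) (kj xj6 yj17 zj36) (kj xj4 yj9 zj20) (kj xj6 yj17 zj38) (kj xj5 yj11 zj34) (kj xj4 yj9 zj23) (kj xj6 yj17 zj40) (kj xj6 yj17 zj42) (kj xj5 yj11 zj38) (kj xj6 yj17 zj46) (kj xj4 yj9 zj26) (kj xj6 yj17 zj48) (kj xj5 yj11 zj42) (kj xj5 yj11 zj43) (kj xj4 yj9 zj29) (kj xj6 yj18 zj3)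 (kj xj6 yj18 zj4) (kj xj5 yj11 zj47) (kj xj5 yj11 zj48) (kj xj4 yj9 zj33) (kj xj6 yj18 zj9)) (@D3.rec (fun _ => Pt) (kj xj4 yj9 zj35) (kj xj6 yj18 zj12) (kj xj6 yj18 zj13) (kj xj5 yj12 zj3) (kj xj5 yj12 zj4) (kj xj4 yj9 zj39) (kj xj6 yj5 zj15) (kj xj4 yj9 zj41) (kj xj6 yj18 zj19) (kj xj6 yj18 zj20) (kj xj4 yj9 zj43) (kj xj4 yj9 zj44) (kj xj6 yj18 zj24) (kj xj6 yj18 zj25) (kj xj5 yj12 zj14) (kj xj5 yj12 zj15) (kj xj5 yj12 zj16) (kj xj5 yj12 zj17) (kj xj6 yj18 zj35) (kj xj4 yj9 zj49) (kj xj6 yj18 zj37) (kj xj5 yj12 zj21) (kj xj6 yj18 zj41) (kj xj4 yj10 zj0) (kj xj6 yj18 zj43) (kj xj5 yj12 zj25) (kj xj5 yj12 zj26) (kj xj4 yj10 zj3) (kj xj6 yj18 zj48) (kj xj4 yj10 zj5) (kj xj6 yj18 zj50) (kj xj4 yj10 zj7) (kj xj6 yj19 zj2) (kj xj6 yj19 zj3) (kj xj5 yj12 zj34)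 (kj xj5 yj12 zj35) (kj xj4 yj10 zj11) (kj xj6 yj19 zj9) (kj xj4 yj10 zj12) (kj xj6 yj19 zj11) (kj xj5 yj12 zj40) (kj xj5 yj12 zj41) (kj xj4 yj10 zj14) (kj xj6 yj19 zj18) (kj xj4 yj10 zj16) (kj xj6 yj19 zj21) (kj xj6 yj19 zj22) (kj xj5 yj12 zj47) (kj xj5 yj12 zj48) (kj xj5 yj12 zj49) (kj xj4 yj10 zj20)) (@D3.rec (fun _ => Pt) (kj xj4 yj10 zj21) (kj xj6 yj19 zj32) (kj xj6 yj19 zj33) (kj xj5 yj13 zj3) (kj xj5 yj13 zj4) (kj xj6 yj19 zj38) (kj xj5 yj13 zj6) (kj xj6 yj6 zj25) (kj xj4 yj10 zj27) (kj xj6 yj19 zj41) (kj xj6 yj19 zj42) (kj xj4 yj10 zj29) (kj xj4 yj10 zj30) (kj xj6 yj19 zj46) (kj xj6 yj19 zj47) (kj xj5 yj13 zj15) (kj xj5 yj13 zj16) (kj xj5 yj13 zj17) (kj xj6 yj6 zj36) (kj xj4 yj10 zj36) (kj xj4 yj10 zj37) (kj xj6 yj20 zj5) (kj xj6 yj20 zj6) (kj xj6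 yj20 zj7) (kj xj4 yj10 zj40) (kj xj4 yj10 zj41) (kj xj6 yj20 zj13) (kj xj6 yj20 zj14) (kj xj6 yj20 zj15) (kj xj5 yj13 zj29) (kj xj5 yj13 zj30) (kj xj5 yj13 zj31) (kj xj4 yj10 zj45) (kj xj6 yj20 zj24) (kj xj4 yj10 zj47) (kj xj6 yj20 zj26) (kj xj5 yj13 zj36) (kj xj4 yj10 zj49) (kj xj6 yj7 zj9) (kj xj4 yj11 zj1) (kj xj6 yj20 zj30) (kj xj4 yj11 zj3) (kj xj6 yj20 zj33) (kj xj5 yj13 zj43) (kj xj6 yj7 zj15) (kj xj4 yj11 zj7) (kj xj4 yj11 zj8) (kj xj6 yj20 zj38) (kj xj6 yj20 zj39) (kj xj6 yj20 zj40) (kj xj4 yj11 zj11)) (@D3.rec (fun _ => Pt) (kj xj4 yj11 zj12) (kj xj6 yj20 zj46) (kj xj6 yj20 zj47) (kj xj6 yj20 zj48) (kj xj5 yj14 zj4) (kj xj5 yj14 zj5) (kj xj5 yj14 zj6) (kj xj6 yj21 zj5) (kj xj4 yj11 zj16) (kj xj6 yj21 zj7) (kj xj5 yj14 zj10) (kj xj4 yj11 zj18)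 (kj xj6 yj7 zj34) (kj xj4 yj11 zj21) (kj xj6 yj21 zj11) (kj xj4 yj11 zj23) (kj xj6 yj21 zj14) (kj xj5 yj14 zj17) (kj xj6 yj21 zj17) (kj xj4 yj11 zj25) (kj xj6 yj21 zj20) (kj xj4 yj11 zj27) (kj xj6 yj21 zj23) (kj xj6 yj21 zj24) (kj xj5 yj14 zj24) (kj xj5 yj14 zj25) (kj xj6 yj7 zj48) (kj xj4 yj11 zj31) (kj xj6 yj21 zj30) (kj xj4 yj11 zj33) (kj xj6 yj21 zj33) (kj xj5 yj14 zj31) (kj xj6 yj8 zj3) (kj xj4 yj11 zj37) (kj xj4 yj11 zj38) (kj xj6 yj21 zj38) (kj xj6 yj21 zj39) (kj xj6 yj21 zj40) (kj xj4 yj11 zj41) (kj xj4 yj11 zj42) (kj xj6 yj21 zj46) (kj xj6 yj21 zj47) (kj xj6 yj21 zj48) (kj xj5 yj14 zj43) (kj xj5 yj14 zj44) (kj xj5 yj14 zj45) (kj xj6 yj8 zj17) (kj xj6 yj8 zj18) (kj xj4 yj11 zj49) (kj xj4 yj11 zj50) (kj xj4 yj12 zj0)) (@D3.rec (fun _ => Pt) (kj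 xj6 yj21 zj44) (kj xj6 yj20 zj9) (kj xj4 yj12 zj3) (kj xj4 yj12 zj5) (kj xj6 yj22 zj5) (kj xj4 yj15 zj4) (kj xj4 yj14 zj32) (kj xj5 yj15 zj7) (kj xj5 yj15 zj8) (kj xj5 yj15 zj9) (kj xj4 yj12 zj44) (kj xj5 yj22 zj14) (kj xj4 yj12 zj47) (kj xj5 yj22 zj11) (kj xj4 yj13 zj0) (kj xj4 yj13 zj1) (kj xj4 yj12 zj16) (kj xj6 yj22 zj18) (kj xj5 yj22 zj9) (kj xj4 yj13 zj9) (kj xj4 yj13 zj10) (kj xj4 yj12 zj22) (kj xj6 yj22 zj23) (kj xj6 yj22 zj24) (kj xj4 yj13 zj14) (kj xj4 yj13 zj15) (kj xj4 yj13 zj16) (kj xj4 yj13 zj17) (kj xj5 yj22 zj8) (kj xj4 yj12 zj29) (kj xj6 yj22 zj33) (kj xj6 yj22 zj34) (kj xj4 yj13 zj23) (kj xj4 yj13 zj24) (kj xj4 yj12 zj33) (kj xj4 yj12 zj35) (kj xj6 yj22 zj40) (kj xj6 yj22 zj41) (kj xj4 yj12 zj37) (kj xj4 yj12 zj38) (kj xj6 yj22 zj45)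 (kj xj6 yj22 zj46) (kj xj4 yj13 zj34) (kj xj4 yj13 zj35) (kj xj4 yj13 zj36) (kj xj5 yj22 zj15) (kj xj5 yj24 zj21) (kj xj6 yj22 zj12) (kj xj4 yj12 zj46) (kj xj6 yj23 zj5) (kj xj5 yj22 zj30)) (@D3.rec (fun _ => Pt) (kj xj4 yj12 zj50) (kj xj6 yj23 zj8) (kj xj6 yj23 zj9) (kj xj6 yj22 zj16) (kj xj6 yj22 zj17) (kj xj4 yj13 zj3) (kj xj5 yj24 zj10) (kj xj4 yj19 zj37) (kj xj5 yj22 zj27) (kj xj4 yj13 zj8) (kj xj5 yj25 zj6) (kj xj6 yj23 zj19) (kj xj6 yj22 zj20) (kj xj6 yj22 zj21) (kj xj6 yj22 zj22) (kj xj4 yj13 zj12) (kj xj4 yj13 zj13) (kj xj6 yj23 zj29) (kj xj6 yj23 zj30) (kj xj6 yj22 zj27) (kj xj6 yj22 zj28) (kj xj6 yj23 zj35) (kj xj6 yj22 zj30) (kj xj4 yj13 zj19) (kj xj6 yj23 zj37) (kj xj6 yj23 zj38) (kj xj4 yj13 zj21) (kj xj4 yj13 zj22) (kj xj6 yj23 zj42) (kj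 xj6 yj23 zj43) (kj xj6 yj22 zj37) (kj xj6 yj22 zj38) (kj xj6 yj22 zj39) (kj xj5 yj16 zj33) (kj xj4 yj13 zj28) (kj xj4 yj13 zj29) (kj xj6 yj24 zj0) (kj xj6 yj22 zj8) (kj xj6 yj24 zj1) (kj xj4 yj13 zj32) (kj xj4 yj13 zj33) (kj xj6 yj24 zj7) (kj xj6 yj24 zj8) (kj xj6 yj24 zj9) (kj xj6 yj22 zj50) (kj xj6 yj23 zj0) (kj xj6 yj23 zj1) (kj xj5 yj22 zj35) (kj xj4 yj13 zj39) (kj xj6 yj24 zj18) (kj xj6 yj24 zj19)) (@D3.rec (fun _ => Pt) (kj xj5 yj17 zj0) (kj xj5 yj17 zj1) (kj xj4 yj13 zj43) (kj xj4 yj13 zj45) (kj xj6 yj24 zj25) (kj xj6 yj24 zj26) (kj xj4 yj13 zj47) (kj xj4 yj13 zj48) (kj xj6 yj24 zj30) (kj xj6 yj24 zj31) (kj xj5 yj17 zj10) (kj xj5 yj17 zj11) (kj xj5 yj17 zj12) (kj xj4 yj14 zj2) (kj xj6 yj24 zj38) (kj xj6 yj24 zj39) (kj xj4 yj14 zj4) (kj xj4 yj14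 zj5) (kj xj6 yj24 zj43) (kj xj6 yj24 zj44) (kj xj6 yj24 zj45) (kj xj5 yj17 zj21) (kj xj5 yj17 zj22) (kj xj5 yj17 zj23) (kj xj5 yj17 zj24) (kj xj5 yj17 zj25) (kj xj5 yj17 zj26) (kj xj4 yj14 zj11) (kj xj4 yj14 zj12) (kj xj6 yj25 zj10) (kj xj6 yj25 zj11) (kj xj6 yj25 zj14) (kj xj5 yj17 zj32) (kj xj4 yj14 zj15) (kj xj6 yj25 zj16) (kj xj5 yj17 zj35) (kj xj4 yj14 zj19) (kj xj4 yj14 zj20) (kj xj6 yj25 zj18) (kj xj6 yj22 zj7) (kj xj6 yj25 zj19) (kj xj4 yj14 zj23) (kj xj4 yj14 zj24) (kj xj6 yj25 zj25) (kj xj6 yj25 zj26) (kj xj6 yj25 zj27) (kj xj5 yj17 zj46) (kj xj5 yj17 zj47) (kj xj5 yj17 zj48) (kj xj5 yj17 zj49) (kj xj4 yj14 zj33)) (@D3.rec (fun _ => Pt) (kj xj4 yj15 zj10) (kj xj4 yj14 zj38) (kj xj6 yj20 zj18) (kj xj4 yj14 zj37) (kj xj4 yj14 zj36) (kj xj6 yj25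 zj35) (kj xj6 yj25 zj24) (kj xj5 yj18 zj7) (kj xj5 yj18 zj8) (kj xj4 yj14 zj44) (kj xj6 yj25 zj38) (kj xj6 yj22 zj6) (kj xj4 yj15 zj14) (kj xj4 yj14 zj48) (kj xj4 yj14 zj49) (kj xj6 yj25 zj42) (kj xj6 yj25 zj43) (kj xj6 yj25 zj34) (kj xj5 yj18 zj18) (kj xj5 yj18 zj19) (kj xj5 yj18 zj20) (kj xj4 yj15 zj3) (kj xj4 yj15 zj9) (kj xj6 yj21 zj50) (kj xj4 yj15 zj8) (kj xj6 yj25 zj41) (kj xj6 yj25 zj20) (kj xj5 yj18 zj27) (kj xj5 yj18 zj28) (kj xj5 yj18 zj29) (kj xj5 yj18 zj30) (kj xj5 yj18 zj31) (kj xj4 yj19 zj4) (kj xj4 yj16 zj6) (kj xj4 yj16 zj11) (kj xj4 yj16 zj10) (kj xj4 yj16 zj13) (kj xj4 yj16 zj16) (kj xj4 yj16 zj21) (kj xj4 yj16 zj22) (kj xj6 yj9 zj41) (kj xj4 yj16 zj12) (kj xj4 yj16 zj7) (kj xj4 yj17 zj8) (kj xj4 yj17 zj20) (kj xj6 yj9 zj28) (kj xj4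 yj17 zj11) (kj xj4 yj17 zj25) (kj xj4 yj17 zj30) (kj xj6 yj14 zj45) (kj xj4 yj17 zj27)) (@D3.rec (fun _ => Pt) (kj xj6 yj14 zj37) (kj xj6 yj26 zj5) (kj xj6 yj26 zj12) (kj xj5 yj19 zj3) (kj xj4 yj16 zj33) (kj xj4 yj16 zj26) (kj xj5 yj19 zj6) (kj xj4 yj17 zj40) (kj xj4 yj16 zj31) (kj xj6 yj26 zj11) (kj xj5 yj19 zj10) (kj xj4 yj17 zj49) (kj xj5 yj19 zj12) (kj xj4 yj16 zj36) (kj xj5 yj19 zj14) (kj xj4 yj18 zj5) (kj xj4 yj16 zj40) (kj xj6 yj26 zj24) (kj xj5 yj19 zj18) (kj xj5 yj19 zj19) (kj xj4 yj18 zj0) (kj xj5 yj19 zj21) (kj xj5 yj19 zj22) (kj xj4 yj16 zj47) (kj xj6 yj26 zj31) (kj xj5 yj19 zj25) (kj xj6 yj26 zj34) (kj xj5 yj19 zj27) (kj xj4 yj17 zj15) (kj xj4 yj17 zj21) (kj xj4 yj17 zj19) (kj xj4 yj17 zj24) (kj xj4 yj17 zj28) (kj xj4 yj17 zj31) (kj xj4 yj17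 zj32) (kj xj6 yj14 zj23) (kj xj4 yj17 zj23) (kj xj4 yj17 zj16) (kj xj6 yj10 zj42) (kj xj6 yj26 zj35) (kj xj6 yj13 zj47) (kj xj6 yj15 zj20) (kj xj6 yj26 zj36) (kj xj6 yj11 zj17) (kj xj6 yj10 zj2) (kj xj6 yj26 zj37) (kj xj6 yj10 zj0) (kj xj6 yj11 zj9) (kj xj6 yj26 zj38) (kj xj7 yj0 zj1) (kj xj7 yj0 zj3)) (@D3.rec (fun _ => Pt) (kj xj5 yj20 zj0) (kj xj4 yj17 zj42) (kj xj4 yj17 zj34) (kj xj6 yj26 zj16) (kj xj4 yj17 zj38) (kj xj7 yj0 zj8) (kj xj5 yj20 zj6) (kj xj5 yj20 zj7) (kj xj7 yj0 zj2) (kj xj5 yj20 zj9) (kj xj4 yj18 zj13) (kj xj6 yj26 zj21) (kj xj4 yj17 zj47) (kj xj7 yj0 zj16) (kj xj5 yj20 zj14) (kj xj6 yj26 zj30) (kj xj6 yj26 zj25) (kj xj4 yj18 zj2) (kj xj6 yj26 zj23) (kj xj7 yj0 zj20) (kj xj5 yj20 zj20) (kj xj5 yj20 zj21) (kj xj6 yj26 zj22) (kj xj5 yj20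 zj23) (kj xj4 yj18 zj8) (kj xj7 yj0 zj27) (kj xj7 yj0 zj29) (kj xj4 yj18 zj10) (kj xj7 yj0 zj13) (kj xj4 yj18 zj11) (kj xj7 yj0 zj32) (kj xj5 yj20 zj31) (kj xj4 yj18 zj25) (kj xj7 yj0 zj34) (kj xj4 yj18 zj19) (kj xj7 yj0 zj36) (kj xj4 yj18 zj21) (kj xj7 yj0 zj39) (kj xj7 yj0 zj40) (kj xj5 yj20 zj39) (kj xj5 yj20 zj40) (kj xj6 yj4 zj4) (kj xj4 yj18 zj27) (kj xj6 yj4 zj12) (kj xj5 yj20 zj44) (kj xj6 yj6 zj50) (kj xj5 yj20 zj46) (kj xj6 yj7 zj1) (kj xj4 yj18 zj35) (kj xj7 yj0 zj48) (kj xj5 yj20 zj50)) (@D3.rec (fun _ => Pt) (kj xj4 yj18 zj37) (kj xj6 yj7 zj23) (kj xj4 yj18 zj39) (kj xj7 yj1 zj0) (kj xj4 yj18 zj41) (kj xj7 yj1 zj2) (kj xj4 yj18 zj44) (kj xj7 yj1 zj3) (kj xj4 yj18 zj46) (kj xj7 yj1 zj6) (kj xj4 yj18 zj48) (kj xj4 yj19 zj12) (kj xj4 yj19 zj13)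 (kj xj4 yj19 zj16) (kj xj6 yj9 zj10) (kj xj4 yj19 zj19) (kj xj6 yj23 zj17) (kj xj5 yj23 zj9) (kj xj5 yj23 zj33) (kj xj4 yj19 zj43) (kj xj6 yj8 zj47) (kj xj7 yj1 zj7) (kj xj7 yj1 zj8) (kj xj6 yj9 zj11) (kj xj6 yj8 zj45) (kj xj7 yj1 zj9) (kj xj4 yj19 zj18) (kj xj7 yj1 zj19) (kj xj7 yj1 zj21) (kj xj4 yj19 zj20) (kj xj4 yj19 zj22) (kj xj7 yj1 zj23) (kj xj4 yj19 zj23) (kj xj4 yj19 zj38) (kj xj5 yj21 zj34) (kj xj5 yj21 zj35) (kj xj4 yj19 zj39) (kj xj4 yj19 zj40) (kj xj4 yj19 zj41) (kj xj5 yj21 zj39) (kj xj4 yj19 zj42) (kj xj7 yj1 zj26) (kj xj7 yj1 zj13) (kj xj5 yj21 zj43) (kj xj5 yj21 zj44) (kj xj5 yj21 zj45) (kj xj5 yj21 zj46) (kj xj5 yj21 zj47) (kj xj5 yj21 zj48) (kj xj4 yj20 zj3) (kj xj5 yj21 zj50)) (@D3.rec (fun _ => Pt) (kj xj5 yj22 zj0) (kj xj4 yj21 zj5)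 (kj xj4 yj21 zj8) (kj xj4 yj21 zj11) (kj xj4 yj21 zj12) (kj xj4 yj21 zj15) (kj xj5 yj6 zj6) (kj xj4 yj21 zj18) (kj xj5 yj15 zj28) (kj xj5 yj15 zj18) (kj xj7 yj1 zj28) (kj xj5 yj15 zj13) (kj xj7 yj1 zj29) (kj xj7 yj1 zj30) (kj xj5 yj15 zj11) (kj xj5 yj15 zj45) (kj xj7 yj1 zj31) (kj xj5 yj6 zj7) (kj xj5 yj5 zj30) (kj xj7 yj1 zj32) (kj xj4 yj21 zj17) (kj xj7 yj1 zj46) (kj xj5 yj22 zj22) (kj xj5 yj22 zj23) (kj xj5 yj22 zj24) (kj xj5 yj22 zj25) (kj xj5 yj22 zj26) (kj xj5 yj16 zj8) (kj xj5 yj22 zj28) (kj xj5 yj22 zj29) (kj xj5 yj15 zj50) (kj xj5 yj22 zj31) (kj xj5 yj22 zj32) (kj xj5 yj22 zj33) (kj xj5 yj22 zj34) (kj xj5 yj16 zj47) (kj xj5 yj22 zj36) (kj xj5 yj22 zj37) (kj xj4 yj21 zj35) (kj xj7 yj2 zj17) (kj xj5 yj7 zj10) (kj xj4 yj21 zj39) (kj xj7 yj2 zj20)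 (kj xj7 yj2 zj21) (kj xj5 yj22 zj44) (kj xj5 yj22 zj45) (kj xj4 yj21 zj43) (kj xj5 yj22 zj47) (kj xj5 yj22 zj48) (kj xj5 yj22 zj49) (kj xj5 yj22 zj50)) (@D3.rec (fun _ => Pt) (kj xj5 yj4 zj41) (kj xj4 yj21 zj47) (kj xj5 yj23 zj2) (kj xj5 yj23 zj3) (kj xj5 yj23 zj4) (kj xj5 yj23 zj5) (kj xj4 yj22 zj21) (kj xj4 yj22 zj22) (kj xj4 yj22 zj23) (kj xj5 yj21 zj17) (kj xj4 yj22 zj25) (kj xj5 yj5 zj0) (kj xj4 yj22 zj27) (kj xj4 yj22 zj28) (kj xj4 yj22 zj8) (kj xj4 yj22 zj30) (kj xj4 yj22 zj32) (kj xj4 yj22 zj33) (kj xj5 yj4 zj46) (kj xj4 yj22 zj35) (kj xj5 yj4 zj50) (kj xj4 yj22 zj38) (kj xj7 yj2 zj31) (kj xj7 yj2 zj32) (kj xj7 yj2 zj46) (kj xj7 yj2 zj34) (kj xj4 yj22 zj24) (kj xj7 yj2 zj49) (kj xj7 yj2 zj36) (kj xj4 yj22 zj26) (kj xj5 yj5 zj17) (kj xj5 yj4 zj39)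 (kj xj7 yj2 zj37) (kj xj5 yj21 zj18) (kj xj7 yj2 zj38) (kj xj7 yj3 zj5) (kj xj7 yj3 zj7) (kj xj7 yj2 zj41) (kj xj4 yj22 zj34) (kj xj5 yj4 zj45) (kj xj7 yj3 zj10) (kj xj4 yj22 zj37) (kj xj5 yj4 zj49) (kj xj5 yj5 zj27) (kj xj5 yj4 zj37) (kj xj4 yj23 zj16) (kj xj4 yj23 zj17) (kj xj4 yj23 zj18) (kj xj7 yj3 zj19) (kj xj4 yj23 zj20) (kj xj4 yj23 zj21)) (@D3.rec (fun _ => Pt) (kj xj4 yj22 zj45) (kj xj7 yj3 zj23) (kj xj4 yj23 zj24) (kj xj4 yj22 zj47) (kj xj7 yj3 zj27) (kj xj4 yj23 zj27) (kj xj4 yj23 zj28) (kj xj4 yj23 zj29) (kj xj4 yj23 zj30) (kj xj4 yj23 zj31) (kj xj5 yj16 zj6) (kj xj4 yj23 zj33) (kj xj4 yj23 zj34) (kj xj4 yj23 zj36) (kj xj7 yj3 zj42) (kj xj4 yj23 zj38) (kj xj4 yj23 zj39) (kj xj4 yj23 zj40) (kj xj7 yj3 zj49) (kj xj4 yj23 zj42) (kj xj4 yj23 zj7)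 (kj xj5 yj15 zj46) (kj xj4 yj23 zj45) (kj xj7 yj3 zj0) (kj xj4 yj23 zj11) (kj xj5 yj6 zj21) (kj xj4 yj23 zj49) (kj xj4 yj23 zj50) (kj xj4 yj23 zj14) (kj xj7 yj4 zj5) (kj xj7 yj3 zj12) (kj xj7 yj4 zj9) (kj xj7 yj3 zj14) (kj xj7 yj3 zj15) (kj xj7 yj3 zj16) (kj xj7 yj4 zj15) (kj xj7 yj3 zj18) (kj xj4 yj23 zj19) (kj xj7 yj4 zj19) (kj xj7 yj3 zj21) (kj xj7 yj4 zj21) (kj xj4 yj23 zj23) (kj xj7 yj4 zj23) (kj xj7 yj3 zj25) (kj xj7 yj3 zj26) (kj xj4 yj23 zj26) (kj xj7 yj4 zj28) (kj xj7 yj3 zj29) (kj xj7 yj3 zj30) (kj xj7 yj3 zj31) (kj xj7 yj4 zj37)) (@D3.rec (fun _ => Pt) (kj xj7 yj3 zj33) (kj xj7 yj3 zj34) (kj xj7 yj3 zj35) (kj xj7 yj4 zj44) (kj xj7 yj3 zj37) (kj xj4 yj23 zj32) (kj xj5 yj16 zj10) (kj xj7 yj3 zj38) (kj xj7 yj3 zj39) (kj xj7 yj5 zj1) (kj xj7 yj3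 zj41) (kj xj4 yj23 zj37) (kj xj7 yj5 zj5) (kj xj7 yj3 zj44) (kj xj7 yj3 zj45) (kj xj7 yj3 zj46) (kj xj7 yj3 zj47) (kj xj7 yj5 zj13) (kj xj4 yj23 zj41) (kj xj7 yj5 zj15) (kj xj7 yj4 zj0) (kj xj7 yj4 zj1) (kj xj4 yj23 zj44) (kj xj7 yj5 zj20) (kj xj4 yj23 zj46) (kj xj7 yj5 zj22) (kj xj4 yj23 zj48) (kj xj5 yj6 zj20) (kj xj7 yj5 zj25) (kj xj5 yj9 zj6) (kj xj7 yj4 zj4) (kj xj4 yj24 zj1) (kj xj5 yj25 zj32) (kj xj7 yj5 zj33) (kj xj5 yj25 zj34) (kj xj4 yj24 zj3) (kj xj7 yj5 zj37) (kj xj5 yj25 zj37) (kj xj5 yj25 zj38) (kj xj5 yj25 zj39) (kj xj7 yj5 zj43) (kj xj4 yj24 zj7) (kj xj7 yj5 zj45) (kj xj5 yj25 zj43) (kj xj5 yj25 zj44) (kj xj4 yj24 zj10) (kj xj7 yj5 zj50) (kj xj4 yj24 zj12) (kj xj7 yj6 zj1) (kj xj4 yj24 zj14) (kj xj7 yj6 zj4)) (@D3.rec (fun _ => Pt) (kj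 xj7 yj6 zj5) (kj xj5 yj26 zj1) (kj xj5 yj26 zj2) (kj xj4 yj24 zj18) (kj xj5 yj26 zj4) (kj xj7 yj6 zj14) (kj xj5 yj26 zj6) (kj xj5 yj26 zj7) (kj xj5 yj26 zj8) (kj xj5 yj26 zj9) (kj xj7 yj6 zj23) (kj xj5 yj26 zj11) (kj xj4 yj24 zj22) (kj xj7 yj6 zj27) (kj xj5 yj26 zj14) (kj xj5 yj26 zj15) (kj xj5 yj26 zj16) (kj xj5 yj26 zj17) (kj xj7 yj6 zj35) (kj xj4 yj24 zj26) (kj xj7 yj6 zj37) (kj xj5 yj26 zj21) (kj xj5 yj26 zj22) (kj xj4 yj24 zj29) (kj xj7 yj6 zj42) (kj xj7 yj6 zj44) (kj xj5 yj26 zj26) (kj xj7 yj6 zj48) (kj xj4 yj24 zj32) (kj xj7 yj6 zj50) (kj xj5 yj26 zj30) (kj xj5 yj26 zj31) (kj xj4 yj24 zj35) (kj xj7 yj7 zj5) (kj xj7 yj7 zj6) (kj xj5 yj26 zj35) (kj xj5 yj26 zj36) (kj xj5 yj26 zj37) (kj xj5 yj26 zj38) (kj xj5 yj26 zj39) (kj xj4 yj24 zj40) (kj xj7 yj7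 zj16) (kj xj4 yj24 zj42) (kj xj7 yj7 zj19) (kj xj7 yj7 zj20) (kj xj5 yj26 zj45) (kj xj5 yj26 zj46) (kj xj4 yj24 zj46) (kj xj5 yj8 zj26) (kj xj4 yj24 zj48) (kj xj7 yj7 zj27))
def f_j_6 : D2 → D3 → Pt := @D2.rec (fun _ => D3 → Pt) (@D3.rec (fun _ => Pt) (kj xj7 yj7 zj28) (kj xj4 yj24 zj50) (kj xj4 yj25 zj0) (kj xj7 yj7 zj32) (kj xj7 yj7 zj33) (kj xj6 yj0 zj5) (kj xj6 yj0 zj6) (kj xj6 yj0 zj7) (kj xj4 yj26 zj5) (kj xj4 yj26 zj6) (kj xj4 yj26 zj7) (kj xj7 yj7 zj47) (kj xj4 yj26 zj9) (kj xj4 yj26 zj10) (kj xj4 yj26 zj11) (kj xj7 yj8 zj1) (kj xj4 yj26 zj13) (kj xj4 yj26 zj14) (kj xj4 yj25 zj9) (kj xj7 yj8 zj4) (kj xj4 yj26 zj17) (kj xj4 yj25 zj11) (kj xj7 yj8 zj8) (kj xj4 yj26 zj20) (kj xj4 yj26 zj21) (kj xj4 yj26 zj22) (kj xj4 yj26 zj23) (kj xj4 yj26 zj24)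 (kj xj7 yj8 zj19) (kj xj4 yj26 zj26) (kj xj4 yj26 zj27) (kj xj4 yj25 zj18) (kj xj4 yj26 zj29) (kj xj7 yj8 zj25) (kj xj4 yj26 zj31) (kj xj4 yj26 zj32) (kj xj4 yj26 zj33) (kj xj7 yj8 zj32) (kj xj4 yj26 zj35) (kj xj4 yj25 zj22) (kj xj7 yj8 zj36) (kj xj4 yj26 zj38) (kj xj7 yj8 zj38) (kj xj4 yj25 zj26) (kj xj7 yj8 zj40) (kj xj4 yj26 zj42) (kj xj4 yj26 zj43) (kj xj4 yj25 zj29) (kj xj7 yj8 zj45) (kj xj4 yj26 zj46) (kj xj4 yj26 zj47)) (@D3.rec (fun _ => Pt) (kj xj4 yj26 zj48) (kj xj7 yj9 zj2) (kj xj4 yj26 zj50) (kj xj5 yj0 zj0) (kj xj5 yj0 zj1) (kj xj7 yj9 zj8) (kj xj5 yj0 zj3) (kj xj4 yj25 zj35) (kj xj7 yj9 zj12) (kj xj5 yj0 zj6) (kj xj5 yj0 zj7) (kj xj7 yj9 zj17) (kj xj5 yj0 zj9) (kj xj4 yj25 zj40) (kj xj7 yj9 zj21) (kj xj5 yj0 zj12) (kj xj5 yj0 zj13) (kj xj5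 yj0 zj14) (kj xj5 yj0 zj15) (kj xj7 yj9 zj29) (kj xj4 yj25 zj44) (kj xj7 yj9 zj31) (kj xj5 yj0 zj19) (kj xj5 yj0 zj20) (kj xj4 yj25 zj47) (kj xj7 yj9 zj36) (kj xj4 yj25 zj49) (kj xj7 yj4 zj26) (kj xj4 yj26 zj0) (kj xj5 yj10 zj24) (kj xj7 yj9 zj39) (kj xj5 yj0 zj28) (kj xj5 yj0 zj29) (kj xj4 yj26 zj4) (kj xj7 yj7 zj40) (kj xj7 yj7 zj41) (kj xj7 yj7 zj42) (kj xj7 yj7 zj43) (kj xj7 yj10 zj0) (kj xj7 yj7 zj45) (kj xj7 yj7 zj46) (kj xj4 yj26 zj8) (kj xj7 yj7 zj44) (kj xj7 yj9 zj49) (kj xj7 yj7 zj48) (kj xj7 yj7 zj49) (kj xj7 yj7 zj50) (kj xj7 yj9 zj45) (kj xj7 yj8 zj0) (kj xj4 yj26 zj12) (kj xj7 yj10 zj13)) (@D3.rec (fun _ => Pt) (kj xj7 yj8 zj3) (kj xj7 yj10 zj15) (kj xj4 yj26 zj16) (kj xj7 yj10 zj17) (kj xj7 yj8 zj6) (kj xj7 yj8 zj7) (kj xj4 yj26 zj19) (kj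 xj7 yj10 zj22) (kj xj7 yj8 zj10) (kj xj7 yj8 zj11) (kj xj7 yj8 zj12) (kj xj7 yj10 zj30) (kj xj7 yj8 zj14) (kj xj7 yj8 zj15) (kj xj7 yj8 zj16) (kj xj7 yj10 zj36) (kj xj7 yj8 zj18) (kj xj4 yj26 zj25) (kj xj7 yj10 zj40) (kj xj7 yj8 zj21) (kj xj7 yj8 zj22) (kj xj7 yj10 zj45) (kj xj7 yj8 zj24) (kj xj4 yj26 zj30) (kj xj7 yj10 zj49) (kj xj7 yj8 zj27) (kj xj7 yj8 zj28) (kj xj7 yj8 zj29) (kj xj7 yj8 zj30) (kj xj7 yj11 zj6) (kj xj4 yj26 zj34) (kj xj7 yj11 zj8) (kj xj7 yj8 zj34) (kj xj7 yj8 zj35) (kj xj4 yj26 zj37) (kj xj7 yj11 zj13) (kj xj4 yj26 zj39) (kj xj7 yj11 zj15) (kj xj4 yj26 zj41) (kj xj7 yj11 zj18) (kj xj7 yj11 zj19) (kj xj7 yj8 zj43) (kj xj7 yj8 zj44) (kj xj4 yj26 zj45) (kj xj7 yj8 zj46) (kj xj7 yj11 zj28) (kj xj7 yj8 zj48) (kj xj7 yj8 zj49) (kj xj7 yj8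 zj50) (kj xj7 yj11 zj34) (kj xj7 yj9 zj1)) (@D3.rec (fun _ => Pt) (kj xj4 yj26 zj49) (kj xj7 yj11 zj38) (kj xj7 yj9 zj4) (kj xj7 yj9 zj5) (kj xj7 yj9 zj6) (kj xj7 yj11 zj44) (kj xj5 yj0 zj2) (kj xj7 yj11 zj46) (kj xj7 yj9 zj10) (kj xj7 yj9 zj11) (kj xj5 yj0 zj5) (kj xj7 yj12 zj0) (kj xj7 yj12 zj2) (kj xj7 yj9 zj15) (kj xj7 yj12 zj6) (kj xj5 yj0 zj8) (kj xj7 yj12 zj8) (kj xj7 yj9 zj19) (kj xj7 yj9 zj20) (kj xj5 yj0 zj11) (kj xj7 yj12 zj14) (kj xj7 yj12 zj15) (kj xj7 yj9 zj24) (kj xj7 yj9 zj25) (kj xj7 yj9 zj26) (kj xj7 yj9 zj27) (kj xj7 yj9 zj28) (kj xj5 yj0 zj16) (kj xj7 yj12 zj25) (kj xj5 yj0 zj18) (kj xj7 yj12 zj28) (kj xj7 yj12 zj29) (kj xj7 yj9 zj34) (kj xj7 yj9 zj35) (kj xj5 yj0 zj22) (kj xj5 yj11 zj13) (kj xj5 yj0 zj24) (kj xj7 yj12 zj36) (kj xj7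 yj12 zj37) (kj xj5 yj0 zj26) (kj xj5 yj0 zj27) (kj xj5 yj10 zj22) (kj xj7 yj12 zj41) (kj xj7 yj9 zj41) (kj xj7 yj9 zj42) (kj xj7 yj9 zj43) (kj xj6 yj3 zj46) (kj xj6 yj3 zj47) (kj xj7 yj10 zj9) (kj xj6 yj3 zj49) (kj xj6 yj3 zj50)) (@D3.rec (fun _ => Pt) (kj xj6 yj4 zj0) (kj xj5 yj0 zj34) (kj xj7 yj13 zj4) (kj xj6 yj4 zj3) (kj xj5 yj20 zj41) (kj xj6 yj4 zj5) (kj xj5 yj0 zj39) (kj xj7 yj13 zj9) (kj xj6 yj4 zj8) (kj xj6 yj4 zj9) (kj xj6 yj4 zj10) (kj xj6 yj4 zj11) (kj xj5 yj20 zj43) (kj xj5 yj0 zj43) (kj xj7 yj13 zj18) (kj xj6 yj4 zj15) (kj xj5 yj0 zj46) (kj xj7 yj13 zj20) (kj xj5 yj0 zj48) (kj xj7 yj13 zj21) (kj xj5 yj0 zj50) (kj xj7 yj13 zj24) (kj xj7 yj13 zj25) (kj xj6 yj4 zj23) (kj xj6 yj4 zj24) (kj xj5 yj1 zj3) (kj xj6 yj4 zj26) (kj xj7 yj13 zj32) (kj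 xj6 yj4 zj28) (kj xj6 yj4 zj29) (kj xj7 yj13 zj36) (kj xj6 yj4 zj31) (kj xj5 yj1 zj7) (kj xj7 yj13 zj40) (kj xj6 yj4 zj34) (kj xj6 yj4 zj35) (kj xj6 yj4 zj36) (kj xj7 yj13 zj46) (kj xj5 yj1 zj11) (kj xj7 yj13 zj48) (kj xj6 yj4 zj40) (kj xj5 yj1 zj14) (kj xj7 yj13 zj50) (kj xj7 yj14 zj1) (kj xj6 yj4 zj44) (kj xj7 yj14 zj5) (kj xj5 yj1 zj17) (kj xj7 yj14 zj7) (kj xj6 yj4 zj48) (kj xj6 yj4 zj49) (kj xj5 yj1 zj20)) (@D3.rec (fun _ => Pt) (kj xj7 yj14 zj13) (kj xj7 yj14 zj14) (kj xj6 yj5 zj2) (kj xj6 yj5 zj3) (kj xj6 yj5 zj4) (kj xj6 yj5 zj5) (kj xj6 yj5 zj6) (kj xj5 yj1 zj25) (kj xj7 yj14 zj24) (kj xj5 yj1 zj27) (kj xj7 yj14 zj27) (kj xj7 yj14 zj28) (kj xj6 yj5 zj12) (kj xj6 yj5 zj13) (kj xj5 yj1 zj31) (kj xj5 yj12 zj6) (kj xj5 yj1 zj33) (kj xj7 yj14 zj34)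 (kj xj7 yj14 zj35) (kj xj5 yj1 zj35) (kj xj5 yj1 zj36) (kj xj7 yj14 zj39) (kj xj7 yj14 zj40) (kj xj6 yj5 zj23) (kj xj6 yj5 zj24) (kj xj6 yj5 zj25) (kj xj6 yj5 zj26) (kj xj7 yj14 zj50) (kj xj6 yj5 zj28) (kj xj5 yj1 zj41) (kj xj7 yj15 zj3) (kj xj6 yj5 zj31) (kj xj7 yj15 zj6) (kj xj6 yj5 zj33) (kj xj7 yj15 zj10) (kj xj5 yj1 zj45) (kj xj7 yj15 zj12) (kj xj6 yj5 zj37) (kj xj6 yj5 zj38) (kj xj5 yj1 zj48) (kj xj7 yj15 zj18) (kj xj7 yj15 zj19) (kj xj6 yj5 zj42) (kj xj6 yj5 zj43) (kj xj6 yj5 zj44) (kj xj5 yj2 zj1) (kj xj7 yj15 zj25) (kj xj5 yj2 zj3) (kj xj7 yj15 zj28) (kj xj7 yj15 zj29) (kj xj6 yj5 zj50)) (@D3.rec (fun _ => Pt) (kj xj6 yj6 zj0) (kj xj5 yj2 zj7) (kj xj7 yj15 zj35) (kj xj5 yj2 zj8) (kj xj7 yj15 zj37) (kj xj6 yj6 zj5) (kj xj6 yj6 zj6) (kj xj5 yj2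 zj10) (kj xj7 yj15 zj44) (kj xj5 yj2 zj12) (kj xj7 yj15 zj47) (kj xj7 yj15 zj48) (kj xj6 yj6 zj12) (kj xj6 yj6 zj13) (kj xj6 yj6 zj14) (kj xj5 yj2 zj16) (kj xj5 yj2 zj17) (kj xj7 yj16 zj7) (kj xj7 yj16 zj8) (kj xj6 yj6 zj19) (kj xj6 yj6 zj20) (kj xj6 yj6 zj21) (kj xj7 yj16 zj15) (kj xj6 yj6 zj23) (kj xj6 yj6 zj24) (kj xj5 yj13 zj7) (kj xj5 yj2 zj24) (kj xj7 yj16 zj19) (kj xj7 yj16 zj20) (kj xj5 yj2 zj26) (kj xj5 yj2 zj27) (kj xj7 yj16 zj24) (kj xj7 yj16 zj25) (kj xj6 yj6 zj33) (kj xj6 yj6 zj34) (kj xj6 yj6 zj35) (kj xj5 yj13 zj18) (kj xj5 yj2 zj33) (kj xj5 yj2 zj34) (kj xj7 yj16 zj34) (kj xj7 yj16 zj35) (kj xj7 yj16 zj36) (kj xj5 yj2 zj37) (kj xj5 yj2 zj38) (kj xj7 yj16 zj42) (kj xj7 yj16 zj43) (kj xj7 yj16 zj44) (kj xj6 yj6 zj47) (kj xj6 yj6 zj48) (kj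 xj6 yj6 zj49) (kj xj5 yj20 zj45)) (@D3.rec (fun _ => Pt) (kj xj5 yj2 zj49) (kj xj5 yj20 zj47) (kj xj6 yj7 zj2) (kj xj5 yj3 zj0) (kj xj7 yj17 zj3) (kj xj5 yj3 zj2) (kj xj7 yj17 zj5) (kj xj6 yj7 zj7) (kj xj5 yj3 zj4) (kj xj5 yj13 zj38) (kj xj5 yj3 zj7) (kj xj7 yj17 zj9) (kj xj5 yj3 zj9) (kj xj7 yj17 zj12) (kj xj6 yj7 zj14) (kj xj5 yj13 zj44) (kj xj5 yj3 zj13) (kj xj5 yj3 zj14) (kj xj7 yj17 zj16) (kj xj7 yj17 zj17) (kj xj7 yj17 zj18) (kj xj5 yj3 zj17) (kj xj5 yj3 zj18) (kj xj5 yj21 zj1) (kj xj7 yj17 zj0) (kj xj7 yj17 zj21) (kj xj6 yj7 zj26) (kj xj6 yj7 zj27) (kj xj6 yj7 zj28) (kj xj7 yj17 zj28) (kj xj5 yj3 zj22) (kj xj7 yj17 zj30) (kj xj6 yj7 zj32) (kj xj5 yj3 zj24) (kj xj5 yj14 zj12) (kj xj5 yj3 zj27) (kj xj7 yj17 zj34) (kj xj5 yj3 zj29) (kj xj7 yj17 zj37)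 (kj xj6 yj7 zj39) (kj xj7 yj17 zj40) (kj xj5 yj3 zj31) (kj xj7 yj17 zj43) (kj xj5 yj3 zj33) (kj xj7 yj17 zj46) (kj xj7 yj17 zj47) (kj xj6 yj7 zj46) (kj xj6 yj7 zj47) (kj xj5 yj14 zj26) (kj xj5 yj3 zj37) (kj xj7 yj18 zj2)) (@D3.rec (fun _ => Pt) (kj xj5 yj3 zj39) (kj xj7 yj18 zj5) (kj xj6 yj8 zj2) (kj xj5 yj14 zj32) (kj xj5 yj3 zj43) (kj xj5 yj3 zj44) (kj xj7 yj18 zj10) (kj xj7 yj18 zj11) (kj xj7 yj18 zj12) (kj xj5 yj3 zj47) (kj xj5 yj3 zj48) (kj xj7 yj18 zj18) (kj xj7 yj18 zj19) (kj xj7 yj18 zj20) (kj xj6 yj8 zj14) (kj xj6 yj8 zj15) (kj xj6 yj8 zj16) (kj xj5 yj14 zj46) (kj xj5 yj14 zj47) (kj xj5 yj4 zj4) (kj xj5 yj4 zj5) (kj xj5 yj4 zj6) (kj xj7 yj18 zj30) (kj xj7 yj18 zj29) (kj xj7 yj18 zj28) (kj xj7 yj18 zj27) (kj xj7 yj18 zj31) (kj xj5 yj4 zj9) (kj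 xj5 yj4 zj10) (kj xj5 yj4 zj11) (kj xj7 yj18 zj37) (kj xj7 yj18 zj38) (kj xj7 yj18 zj39) (kj xj6 yj8 zj33) (kj xj6 yj8 zj34) (kj xj6 yj8 zj35) (kj xj6 yj8 zj36) (kj xj6 yj8 zj37) (kj xj6 yj8 zj38) (kj xj5 yj4 zj42) (kj xj5 yj4 zj43) (kj xj5 yj4 zj44) (kj xj5 yj4 zj47) (kj xj5 yj5 zj1) (kj xj5 yj5 zj4) (kj xj5 yj21 zj24) (kj xj5 yj5 zj7) (kj xj5 yj21 zj20) (kj xj5 yj5 zj10) (kj xj5 yj5 zj15) (kj xj7 yj3 zj1)) (@D3.rec (fun _ => Pt) (kj xj5 yj5 zj14) (kj xj7 yj18 zj46) (kj xj5 yj5 zj2) (kj xj7 yj2 zj39) (kj xj7 yj3 zj8) (kj xj7 yj2 zj40) (kj xj7 yj2 zj33) (kj xj7 yj3 zj11) (kj xj7 yj2 zj35) (kj xj7 yj19 zj0) (kj xj5 yj21 zj14) (kj xj5 yj21 zj23) (kj xj7 yj19 zj6) (kj xj5 yj5 zj6) (kj xj7 yj19 zj8) (kj xj7 yj18 zj49) (kj xj7 yj18 zj47) (kj xj5 yj5 zj9) (kj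 xj7 yj2 zj47) (kj xj5 yj5 zj11) (kj xj7 yj19 zj13) (kj xj5 yj5 zj13) (kj xj7 yj19 zj15) (kj xj7 yj2 zj50) (kj xj5 yj9 zj4) (kj xj5 yj5 zj50) (kj xj5 yj6 zj8) (kj xj5 yj6 zj9) (kj xj5 yj18 zj45) (kj xj5 yj6 zj11) (kj xj5 yj6 zj12) (kj xj7 yj3 zj9) (kj xj5 yj6 zj14) (kj xj5 yj5 zj23) (kj xj7 yj1 zj41) (kj xj5 yj6 zj17) (kj xj5 yj6 zj22) (kj xj7 yj1 zj45) (kj xj5 yj6 zj25) (kj xj5 yj6 zj26) (kj xj5 yj6 zj27) (kj xj5 yj18 zj40) (kj xj5 yj6 zj29) (kj xj5 yj6 zj30) (kj xj5 yj6 zj31) (kj xj7 yj18 zj50) (kj xj5 yj6 zj33) (kj xj5 yj5 zj36) (kj xj7 yj19 zj39) (kj xj5 yj6 zj36) (kj xj5 yj6 zj37)) (@D3.rec (fun _ => Pt) (kj xj5 yj19 zj46) (kj xj5 yj6 zj39) (kj xj5 yj19 zj44) (kj xj5 yj6 zj42) (kj xj5 yj6 zj43) (kj xj5 yj6 zj44) (kj xj5 yj6 zj45) (kj xj7 yj19 zj11)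 (kj xj5 yj5 zj45) (kj xj7 yj20 zj1) (kj xj5 yj6 zj49) (kj xj5 yj6 zj50) (kj xj5 yj5 zj48) (kj xj7 yj20 zj6) (kj xj7 yj19 zj19) (kj xj5 yj6 zj1) (kj xj7 yj20 zj8) (kj xj7 yj5 zj29) (kj xj5 yj7 zj7) (kj xj5 yj7 zj8) (kj xj5 yj6 zj5) (kj xj7 yj1 zj33) (kj xj7 yj1 zj44) (kj xj7 yj19 zj20) (kj xj7 yj20 zj15) (kj xj7 yj19 zj22) (kj xj5 yj6 zj10) (kj xj7 yj20 zj19) (kj xj7 yj19 zj24) (kj xj7 yj20 zj21) (kj xj5 yj6 zj13) (kj xj7 yj5 zj16) (kj xj7 yj3 zj50) (kj xj7 yj19 zj25) (kj xj5 yj6 zj16) (kj xj7 yj20 zj26) (kj xj5 yj6 zj18) (kj xj7 yj5 zj23) (kj xj7 yj5 zj26) (kj xj7 yj4 zj3) (kj xj5 yj6 zj24) (kj xj7 yj19 zj27) (kj xj5 yj19 zj38) (kj xj7 yj19 zj28) (kj xj7 yj19 zj29) (kj xj7 yj19 zj21) (kj xj7 yj20 zj12) (kj xj7 yj19 zj30) (kj xj5 yj6 zj28) (kj xj7 yj20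 zj38) (kj xj7 yj19 zj32)) (@D3.rec (fun _ => Pt) (kj xj7 yj19 zj33) (kj xj7 yj19 zj34) (kj xj7 yj20 zj43) (kj xj5 yj6 zj32) (kj xj7 yj20 zj45) (kj xj7 yj19 zj37) (kj xj7 yj19 zj38) (kj xj5 yj6 zj35) (kj xj7 yj20 zj49) (kj xj5 yj19 zj47) (kj xj7 yj19 zj41) (kj xj7 yj21 zj3) (kj xj5 yj6 zj38) (kj xj7 yj21 zj5) (kj xj7 yj19 zj44) (kj xj7 yj19 zj45) (kj xj5 yj6 zj41) (kj xj5 yj19 zj43) (kj xj7 yj21 zj11) (kj xj7 yj19 zj47) (kj xj7 yj19 zj48) (kj xj7 yj19 zj49) (kj xj7 yj19 zj50) (kj xj5 yj6 zj46) (kj xj7 yj21 zj19) (kj xj5 yj6 zj48) (kj xj7 yj21 zj22) (kj xj7 yj21 zj23) (kj xj7 yj20 zj4) (kj xj7 yj20 zj5) (kj xj5 yj7 zj1) (kj xj7 yj5 zj21) (kj xj5 yj7 zj3) (kj xj7 yj21 zj30) (kj xj7 yj21 zj31) (kj xj5 yj7 zj5) (kj xj5 yj7 zj6) (kj xj7 yj21 zj35) (kj xj7 yj21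 zj36) (kj xj7 yj20 zj10) (kj xj7 yj20 zj11) (kj xj7 yj20 zj7) (kj xj7 yj2 zj18) (kj xj7 yj2 zj19) (kj xj6 yj11 zj44) (kj xj6 yj11 zj45) (kj xj5 yj7 zj14) (kj xj7 yj21 zj49) (kj xj6 yj11 zj48) (kj xj7 yj22 zj2) (kj xj5 yj7 zj16)) (@D3.rec (fun _ => Pt) (kj xj7 yj22 zj4) (kj xj6 yj12 zj1) (kj xj6 yj12 zj2) (kj xj5 yj7 zj19) (kj xj7 yj22 zj9) (kj xj5 yj7 zj21) (kj xj7 yj22 zj11) (kj xj5 yj7 zj23) (kj xj7 yj22 zj14) (kj xj7 yj22 zj15) (kj xj6 yj12 zj10) (kj xj6 yj12 zj11) (kj xj5 yj7 zj27) (kj xj7 yj6 zj0) (kj xj5 yj7 zj29) (kj xj7 yj7 zj30) (kj xj7 yj22 zj21) (kj xj5 yj7 zj31) (kj xj5 yj7 zj32) (kj xj7 yj22 zj24) (kj xj7 yj22 zj25) (kj xj6 yj12 zj21) (kj xj6 yj12 zj22) (kj xj6 yj12 zj23) (kj xj6 yj12 zj24) (kj xj7 yj22 zj35) (kj xj6 yj12 zj26) (kj xj5 yj7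 zj37) (kj xj7 yj22 zj39) (kj xj6 yj12 zj29) (kj xj7 yj22 zj42) (kj xj6 yj12 zj31) (kj xj7 yj22 zj46) (kj xj5 yj7 zj41) (kj xj7 yj22 zj48) (kj xj6 yj12 zj35) (kj xj6 yj12 zj36) (kj xj5 yj7 zj44) (kj xj7 yj23 zj3) (kj xj7 yj23 zj4) (kj xj6 yj12 zj40) (kj xj6 yj12 zj41) (kj xj5 yj7 zj48) (kj xj7 yj23 zj9) (kj xj5 yj7 zj50) (kj xj7 yj23 zj12) (kj xj7 yj23 zj13) (kj xj6 yj12 zj47) (kj xj6 yj12 zj48) (kj xj5 yj8 zj3) (kj xj7 yj23 zj20)) (@D3.rec (fun _ => Pt) (kj xj5 yj8 zj4) (kj xj7 yj23 zj22) (kj xj6 yj13 zj2) (kj xj6 yj13 zj3) (kj xj5 yj8 zj6) (kj xj7 yj23 zj29) (kj xj5 yj8 zj8) (kj xj7 yj23 zj32) (kj xj7 yj23 zj33) (kj xj6 yj13 zj9) (kj xj6 yj13 zj10) (kj xj6 yj13 zj11) (kj xj5 yj8 zj12) (kj xj5 yj8 zj13) (kj xj7 yj23 zj43) (kj xj7 yj23 zj44) (kj xj6 yj13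 zj16) (kj xj6 yj13 zj17) (kj xj7 yj23 zj49) (kj xj6 yj13 zj19) (kj xj7 yj7 zj15) (kj xj5 yj8 zj19) (kj xj7 yj24 zj1) (kj xj7 yj24 zj2) (kj xj5 yj8 zj21) (kj xj5 yj8 zj22) (kj xj7 yj24 zj6) (kj xj7 yj24 zj7) (kj xj6 yj13 zj28) (kj xj6 yj13 zj29) (kj xj6 yj13 zj30) (kj xj7 yj7 zj26) (kj xj5 yj8 zj28) (kj xj5 yj8 zj29) (kj xj7 yj24 zj16) (kj xj7 yj24 zj17) (kj xj7 yj24 zj18) (kj xj5 yj8 zj32) (kj xj5 yj8 zj33) (kj xj7 yj24 zj24) (kj xj7 yj24 zj25) (kj xj7 yj24 zj26) (kj xj6 yj13 zj42) (kj xj6 yj13 zj43) (kj xj6 yj13 zj44) (kj xj5 yj9 zj45) (kj xj5 yj9 zj46) (kj xj5 yj19 zj40) (kj xj5 yj9 zj48) (kj xj5 yj9 zj49) (kj xj7 yj24 zj40)) (@D3.rec (fun _ => Pt) (kj xj5 yj10 zj0) (kj xj5 yj8 zj41) (kj xj7 yj24 zj44) (kj xj5 yj10 zj3) (kj xj5 yj10 zj4) (kj xj7 yj20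 zj29) (kj xj5 yj10 zj6) (kj xj5 yj8 zj46) (kj xj7 yj25 zj0) (kj xj5 yj10 zj9) (kj xj5 yj10 zj10) (kj xj5 yj10 zj11) (kj xj7 yj19 zj18) (kj xj5 yj8 zj50) (kj xj7 yj5 zj27) (kj xj5 yj10 zj15) (kj xj5 yj10 zj16) (kj xj5 yj9 zj2) (kj xj7 yj25 zj8) (kj xj7 yj5 zj28) (kj xj5 yj10 zj25) (kj xj5 yj9 zj10) (kj xj5 yj10 zj27) (kj xj5 yj19 zj35) (kj xj5 yj10 zj29) (kj xj7 yj25 zj12) (kj xj5 yj10 zj31) (kj xj5 yj9 zj13) (kj xj7 yj25 zj16) (kj xj5 yj10 zj34) (kj xj7 yj25 zj18) (kj xj5 yj9 zj16) (kj xj7 yj25 zj20) (kj xj5 yj10 zj38) (kj xj5 yj10 zj39) (kj xj5 yj9 zj19) (kj xj7 yj25 zj25) (kj xj5 yj19 zj0) (kj xj5 yj10 zj43) (kj xj7 yj25 zj29) (kj xj5 yj9 zj22) (kj xj7 yj25 zj31) (kj xj5 yj10 zj47) (kj xj5 yj10 zj48) (kj xj5 yj9 zj25) (kj xj5 yj18 zj49) (kj xj7 yj25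 zj37) (kj xj5 yj11 zj1) (kj xj5 yj11 zj2) (kj xj5 yj11 zj3) (kj xj5 yj11 zj4)) (@D3.rec (fun _ => Pt) (kj xj5 yj9 zj30) (kj xj7 yj25 zj44) (kj xj5 yj9 zj32) (kj xj7 yj25 zj47) (kj xj7 yj25 zj48) (kj xj5 yj11 zj10) (kj xj5 yj11 zj11) (kj xj5 yj9 zj36) (kj xj7 yj9 zj37) (kj xj5 yj9 zj38) (kj xj7 yj26 zj4) (kj xj7 yj21 zj42) (kj xj5 yj9 zj40) (kj xj5 yj9 zj41) (kj xj7 yj26 zj7) (kj xj7 yj26 zj8) (kj xj5 yj11 zj21) (kj xj5 yj11 zj22) (kj xj5 yj11 zj23) (kj xj7 yj24 zj33) (kj xj5 yj19 zj41) (kj xj7 yj24 zj34) (kj xj7 yj26 zj19) (kj xj7 yj24 zj36) (kj xj5 yj9 zj47) (kj xj7 yj26 zj23) (kj xj7 yj24 zj38) (kj xj7 yj26 zj25) (kj xj5 yj9 zj50) (kj xj7 yj26 zj27) (kj xj7 yj24 zj42) (kj xj7 yj24 zj43) (kj xj5 yj10 zj2) (kj xj7 yj26 zj32) (kj xj7 yj20 zj30) (kj xj7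 yj24 zj46) (kj xj7 yj26 zj37) (kj xj5 yj10 zj5) (kj xj7 yj26 zj39) (kj xj7 yj24 zj49) (kj xj7 yj24 zj50) (kj xj5 yj10 zj8) (kj xj7 yj26 zj45) (kj xj7 yj26 zj46) (kj xj7 yj25 zj3) (kj xj7 yj25 zj4) (kj xj5 yj10 zj12) (kj xj8 yj0 zj0) (kj xj5 yj10 zj14) (kj xj7 yj12 zj42) (kj xj8 yj0 zj3)) (@D3.rec (fun _ => Pt) (kj xj7 yj25 zj6) (kj xj7 yj25 zj7) (kj xj5 yj10 zj18) (kj xj7 yj11 zj14) (kj xj5 yj10 zj20) (kj xj7 yj12 zj38) (kj xj8 yj0 zj9) (kj xj5 yj10 zj23) (kj xj7 yj12 zj43) (kj xj7 yj9 zj32) (kj xj7 yj9 zj40) (kj xj7 yj25 zj9) (kj xj7 yj24 zj35) (kj xj7 yj26 zj16) (kj xj5 yj10 zj28) (kj xj7 yj26 zj15) (kj xj7 yj25 zj10) (kj xj8 yj0 zj22) (kj xj5 yj10 zj30) (kj xj8 yj0 zj24) (kj xj7 yj25 zj14) (kj xj7 yj25 zj15) (kj xj5 yj10 zj33) (kj xj8 yj0 zj29) (kj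 xj5 yj10 zj35) (kj xj8 yj0 zj31) (kj xj5 yj10 zj37) (kj xj8 yj0 zj34) (kj xj8 yj0 zj35) (kj xj7 yj25 zj23) (kj xj7 yj25 zj24) (kj xj5 yj10 zj41) (kj xj8 yj0 zj42) (kj xj5 yj10 zj42) (kj xj7 yj21 zj12) (kj xj7 yj25 zj27) (kj xj7 yj25 zj28) (kj xj5 yj10 zj44) (kj xj8 yj0 zj50) (kj xj5 yj10 zj46) (kj xj8 yj1 zj2) (kj xj8 yj1 zj3) (kj xj7 yj25 zj34) (kj xj7 yj25 zj35) (kj xj7 yj25 zj36) (kj xj5 yj10 zj50) (kj xj5 yj11 zj0) (kj xj7 yj21 zj0) (kj xj8 yj1 zj13) (kj xj7 yj25 zj39) (kj xj7 yj25 zj40)) (@D3.rec (fun _ => Pt) (kj xj8 yj1 zj18) (kj xj7 yj25 zj42) (kj xj7 yj12 zj24) (kj xj5 yj11 zj6) (kj xj8 yj1 zj21) (kj xj8 yj1 zj22) (kj xj5 yj11 zj8) (kj xj5 yj11 zj9) (kj xj8 yj1 zj26) (kj xj8 yj1 zj27) (kj xj7 yj26 zj0) (kj xj7 yj26 zj1) (kj xj7 yj26 zj2) (kj xj7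 yj12 zj35) (kj xj5 yj11 zj15) (kj xj5 yj11 zj16) (kj xj8 yj1 zj36) (kj xj8 yj1 zj37) (kj xj8 yj1 zj38) (kj xj5 yj11 zj19) (kj xj5 yj11 zj20) (kj xj8 yj1 zj44) (kj xj8 yj1 zj45) (kj xj8 yj1 zj46) (kj xj7 yj26 zj12) (kj xj7 yj26 zj13) (kj xj7 yj26 zj14) (kj xj8 yj2 zj3) (kj xj5 yj11 zj25) (kj xj8 yj2 zj4) (kj xj5 yj11 zj26) (kj xj8 yj2 zj6) (kj xj6 yj17 zj32) (kj xj6 yj17 zj33) (kj xj5 yj11 zj29) (kj xj8 yj2 zj10) (kj xj5 yj11 zj31) (kj xj8 yj2 zj12) (kj xj5 yj11 zj33) (kj xj8 yj2 zj14) (kj xj5 yj11 zj36) (kj xj8 yj2 zj16) (kj xj5 yj11 zj37) (kj xj8 yj2 zj18) (kj xj6 yj17 zj44) (kj xj6 yj17 zj45) (kj xj5 yj11 zj39) (kj xj8 yj2 zj24) (kj xj5 yj11 zj41) (kj xj8 yj2 zj27) (kj xj8 yj2 zj28)) (@D3.rec (fun _ => Pt) (kj xj6 yj18 zj0) (kj xj6 yj18 zj1) (kj xj6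 yj18 zj2) (kj xj5 yj11 zj45) (kj xj5 yj11 zj46) (kj xj8 yj2 zj37) (kj xj8 yj2 zj38) (kj xj6 yj18 zj7) (kj xj7 yj14 zj23) (kj xj5 yj11 zj50) (kj xj8 yj2 zj42) (kj xj8 yj2 zj43) (kj xj5 yj12 zj1) (kj xj5 yj12 zj2) (kj xj8 yj2 zj47) (kj xj8 yj2 zj48) (kj xj6 yj18 zj16) (kj xj6 yj18 zj17) (kj xj7 yj14 zj33) (kj xj5 yj12 zj8) (kj xj5 yj12 zj9) (kj xj8 yj3 zj4) (kj xj8 yj3 zj5) (kj xj8 yj3 zj6) (kj xj5 yj12 zj12) (kj xj5 yj12 zj13) (kj xj8 yj3 zj12) (kj xj8 yj3 zj13) (kj xj8 yj3 zj14) (kj xj6 yj18 zj29) (kj xj6 yj18 zj30) (kj xj6 yj18 zj31) (kj xj8 yj3 zj22) (kj xj6 yj18 zj33) (kj xj8 yj3 zj25) (kj xj5 yj12 zj18) (kj xj8 yj3 zj27) (kj xj5 yj12 zj20) (kj xj8 yj3 zj29) (kj xj6 yj18 zj39) (kj xj6 yj18 zj40) (kj xj5 yj12 zj22) (kj xj8 yj3 zj34) (kj xj5 yj12 zj24)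 (kj xj8 yj3 zj37) (kj xj8 yj3 zj38) (kj xj6 yj18 zj46) (kj xj6 yj18 zj47) (kj xj5 yj12 zj28) (kj xj7 yj15 zj24) (kj xj5 yj12 zj30)) (@D3.rec (fun _ => Pt) (kj xj8 yj3 zj45) (kj xj8 yj3 zj46) (kj xj5 yj12 zj32) (kj xj5 yj12 zj33) (kj xj8 yj3 zj50) (kj xj8 yj4 zj0) (kj xj6 yj19 zj6) (kj xj6 yj19 zj7) (kj xj8 yj4 zj5) (kj xj5 yj12 zj37) (kj xj8 yj4 zj8) (kj xj5 yj12 zj39) (kj xj8 yj4 zj11) (kj xj8 yj4 zj12) (kj xj6 yj19 zj14) (kj xj6 yj19 zj15) (kj xj6 yj19 zj16) (kj xj7 yj15 zj43) (kj xj5 yj12 zj43) (kj xj8 yj4 zj23) (kj xj8 yj4 zj24) (kj xj5 yj12 zj45) (kj xj5 yj12 zj46) (kj xj8 yj4 zj28) (kj xj8 yj4 zj29) (kj xj8 yj4 zj30) (kj xj6 yj19 zj26) (kj xj6 yj19 zj27) (kj xj6 yj19 zj28) (kj xj6 yj19 zj29) (kj xj6 yj19 zj30) (kj xj6 yj19 zj31) (kj xj5 yj13 zj1)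 (kj xj5 yj13 zj2) (kj xj8 yj4 zj46) (kj xj8 yj4 zj47) (kj xj8 yj4 zj50) (kj xj6 yj19 zj37) (kj xj5 yj13 zj5) (kj xj8 yj5 zj1) (kj xj7 yj16 zj18) (kj xj5 yj13 zj9) (kj xj5 yj13 zj10) (kj xj8 yj5 zj4) (kj xj8 yj5 zj5) (kj xj8 yj5 zj6) (kj xj5 yj13 zj13) (kj xj5 yj13 zj14) (kj xj8 yj5 zj12) (kj xj8 yj5 zj13) (kj xj8 yj5 zj14)) (@D3.rec (fun _ => Pt) (kj xj6 yj20 zj0) (kj xj6 yj20 zj1) (kj xj6 yj20 zj2) (kj xj7 yj16 zj32) (kj xj7 yj16 zj33) (kj xj5 yj13 zj21) (kj xj5 yj13 zj22) (kj xj5 yj13 zj23) (kj xj8 yj5 zj22) (kj xj5 yj15 zj1) (kj xj8 yj5 zj23) (kj xj8 yj5 zj24) (kj xj8 yj5 zj25) (kj xj5 yj13 zj26) (kj xj5 yj13 zj27) (kj xj5 yj13 zj28) (kj xj8 yj5 zj30) (kj xj8 yj5 zj31) (kj xj5 yj18 zj2) (kj xj6 yj20 zj19) (kj xj6 yj20 zj20) (kj xj6 yj20 zj21) (kj xj7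 yj17 zj1) (kj xj8 yj5 zj38) (kj xj5 yj13 zj33) (kj xj8 yj5 zj41) (kj xj5 yj13 zj35) (kj xj8 yj5 zj43) (kj xj7 yj17 zj7) (kj xj7 yj17 zj8) (kj xj5 yj13 zj40) (kj xj8 yj5 zj45) (kj xj8 yj5 zj46) (kj xj5 yj13 zj42) (kj xj8 yj5 zj49) (kj xj6 yj20 zj35) (kj xj7 yj17 zj14) (kj xj7 yj17 zj15) (kj xj5 yj13 zj47) (kj xj5 yj13 zj48) (kj xj5 yj13 zj49) (kj xj8 yj6 zj3) (kj xj8 yj6 zj2) (kj xj8 yj6 zj1) (kj xj8 yj6 zj0) (kj xj8 yj5 zj29) (kj xj5 yj14 zj1) (kj xj5 yj14 zj2) (kj xj5 yj14 zj3) (kj xj8 yj6 zj9) (kj xj8 yj6 zj10)) (@D3.rec (fun _ => Pt) (kj xj8 yj6 zj11) (kj xj6 yj21 zj1) (kj xj6 yj21 zj2) (kj xj6 yj21 zj3) (kj xj7 yj17 zj19) (kj xj5 yj14 zj7) (kj xj8 yj6 zj19) (kj xj5 yj14 zj9) (kj xj8 yj6 zj21) (kj xj7 yj17 zj32) (kj xj7 yj17 zj33) (kj xj5 yj14 zj14)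 (kj xj8 yj6 zj23) (kj xj8 yj6 zj24) (kj xj5 yj14 zj16) (kj xj8 yj6 zj27) (kj xj6 yj21 zj16) (kj xj5 yj14 zj18) (kj xj8 yj6 zj29) (kj xj7 yj17 zj42) (kj xj5 yj14 zj20) (kj xj8 yj6 zj33) (kj xj8 yj6 zj34) (kj xj5 yj14 zj22) (kj xj5 yj14 zj23) (kj xj8 yj6 zj38) (kj xj8 yj6 zj39) (kj xj6 yj21 zj27) (kj xj6 yj21 zj28) (kj xj7 yj18 zj1) (kj xj5 yj14 zj28) (kj xj8 yj6 zj45) (kj xj8 yj6 zj46) (kj xj5 yj14 zj30) (kj xj8 yj6 zj49) (kj xj6 yj21 zj35) (kj xj7 yj18 zj8) (kj xj7 yj18 zj9) (kj xj5 yj14 zj35) (kj xj5 yj14 zj36) (kj xj5 yj14 zj37) (kj xj8 yj7 zj1) (kj xj8 yj7 zj2) (kj xj8 yj7 zj3) (kj xj5 yj15 zj0) (kj xj8 yj5 zj27) (kj xj5 yj14 zj40) (kj xj5 yj14 zj41) (kj xj5 yj14 zj42) (kj xj8 yj7 zj7) (kj xj5 yj18 zj23)) (@D3.rec (fun _ => Pt) (kj xj8 yj7 zj8) (kj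 xj6 yj22 zj1) (kj xj6 yj22 zj2) (kj xj6 yj22 zj3) (kj xj7 yj18 zj4) (kj xj5 yj15 zj4) (kj xj5 yj18 zj11) (kj xj5 yj17 zj39) (kj xj5 yj16 zj37) (kj xj6 yj22 zj9) (kj xj6 yj22 zj10) (kj xj6 yj22 zj11) (kj xj5 yj15 zj47) (kj xj7 yj1 zj42) (kj xj7 yj1 zj37) (kj xj7 yj1 zj38) (kj xj5 yj16 zj3) (kj xj5 yj16 zj4) (kj xj5 yj15 zj17) (kj xj7 yj1 zj36) (kj xj5 yj16 zj12) (kj xj5 yj16 zj13) (kj xj5 yj16 zj14) (kj xj5 yj15 zj22) (kj xj5 yj15 zj23) (kj xj7 yj4 zj46) (kj xj8 yj7 zj26) (kj xj5 yj16 zj19) (kj xj5 yj16 zj20) (kj xj8 yj7 zj30) (kj xj5 yj16 zj22) (kj xj7 yj1 zj34) (kj xj7 yj1 zj35) (kj xj5 yj15 zj30) (kj xj5 yj15 zj31) (kj xj7 yj4 zj39) (kj xj8 yj7 zj33) (kj xj5 yj16 zj30) (kj xj5 yj16 zj31) (kj xj5 yj16 zj32) (kj xj5 yj15 zj36) (kj xj5 yj15 zj37) (kj xj8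 yj7 zj40) (kj xj8 yj7 zj41) (kj xj8 yj7 zj42) (kj xj5 yj15 zj40) (kj xj5 yj15 zj41) (kj xj8 yj7 zj48) (kj xj8 yj7 zj49) (kj xj8 yj7 zj50) (kj xj5 yj16 zj44)) (@D3.rec (fun _ => Pt) (kj xj5 yj16 zj45) (kj xj5 yj16 zj46) (kj xj7 yj1 zj43) (kj xj7 yj3 zj43) (kj xj7 yj4 zj2) (kj xj5 yj15 zj49) (kj xj7 yj2 zj6) (kj xj7 yj2 zj7) (kj xj5 yj16 zj1) (kj xj5 yj16 zj2) (kj xj7 yj5 zj6) (kj xj8 yj8 zj10) (kj xj7 yj9 zj22) (kj xj8 yj7 zj18) (kj xj8 yj7 zj19) (kj xj7 yj3 zj32) (kj xj7 yj3 zj36) (kj xj5 yj21 zj16) (kj xj7 yj2 zj4) (kj xj5 yj16 zj11) (kj xj7 yj4 zj38) (kj xj7 yj4 zj45) (kj xj7 yj4 zj48) (kj xj8 yj7 zj20) (kj xj8 yj7 zj21) (kj xj8 yj7 zj22) (kj xj8 yj7 zj23) (kj xj8 yj7 zj24) (kj xj8 yj7 zj25) (kj xj5 yj16 zj17) (kj xj5 yj16 zj18) (kj xj8 yj8 zj36) (kj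 xj8 yj8 zj37) (kj xj8 yj8 zj40) (kj xj8 yj7 zj29) (kj xj5 yj16 zj21) (kj xj8 yj8 zj26) (kj xj5 yj16 zj24) (kj xj5 yj16 zj25) (kj xj7 yj6 zj28) (kj xj8 yj7 zj16) (kj xj8 yj8 zj42) (kj xj5 yj16 zj28) (kj xj5 yj16 zj29) (kj xj8 yj8 zj48) (kj xj8 yj8 zj49) (kj xj8 yj8 zj50) (kj xj8 yj7 zj37) (kj xj8 yj7 zj38) (kj xj8 yj7 zj39) (kj xj6 yj23 zj50)) (@D3.rec (fun _ => Pt) (kj xj5 yj16 zj36) (kj xj5 yj16 zj38) (kj xj8 yj9 zj6) (kj xj8 yj6 zj14) (kj xj8 yj9 zj7) (kj xj8 yj5 zj34) (kj xj8 yj9 zj8) (kj xj5 yj16 zj41) (kj xj5 yj16 zj42) (kj xj5 yj16 zj43) (kj xj8 yj9 zj15) (kj xj8 yj9 zj16) (kj xj8 yj9 zj17) (kj xj8 yj8 zj3) (kj xj8 yj8 zj4) (kj xj8 yj8 zj5) (kj xj7 yj2 zj13) (kj xj7 yj2 zj14) (kj xj5 yj16 zj49) (kj xj5 yj16 zj50) (kj xj8 yj9 zj26) (kj xj8 yj9 zj27)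 (kj xj6 yj24 zj22) (kj xj6 yj24 zj23) (kj xj6 yj24 zj24) (kj xj5 yj17 zj4) (kj xj5 yj17 zj5) (kj xj8 yj9 zj34) (kj xj8 yj7 zj15) (kj xj8 yj9 zj35) (kj xj5 yj17 zj8) (kj xj5 yj17 zj9) (kj xj8 yj9 zj41) (kj xj8 yj9 zj42) (kj xj8 yj9 zj43) (kj xj6 yj24 zj35) (kj xj6 yj24 zj36) (kj xj6 yj24 zj37) (kj xj5 yj17 zj14) (kj xj5 yj17 zj15) (kj xj8 yj9 zj50) (kj xj7 yj6 zj38) (kj xj8 yj10 zj0) (kj xj5 yj17 zj18) (kj xj5 yj17 zj19) (kj xj5 yj17 zj20) (kj xj8 yj10 zj7) (kj xj8 yj10 zj8) (kj xj8 yj10 zj9) (kj xj8 yj10 zj10) (kj xj8 yj10 zj11)) (@D3.rec (fun _ => Pt) (kj xj8 yj10 zj12) (kj xj6 yj25 zj1) (kj xj6 yj25 zj2) (kj xj6 yj25 zj3) (kj xj6 yj25 zj4) (kj xj6 yj25 zj5) (kj xj6 yj25 zj6) (kj xj8 yj10 zj31) (kj xj6 yj25 zj8) (kj xj6 yj25 zj9) (kj xj5 yj17 zj29) (kj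 xj5 yj17 zj30) (kj xj8 yj10 zj36) (kj xj8 yj10 zj35) (kj xj5 yj17 zj31) (kj xj8 yj10 zj38) (kj xj5 yj17 zj34) (kj xj6 yj25 zj17) (kj xj5 yj17 zj38) (kj xj5 yj17 zj40) (kj xj5 yj18 zj26) (kj xj8 yj7 zj10) (kj xj8 yj10 zj39) (kj xj8 yj5 zj33) (kj xj5 yj18 zj6) (kj xj5 yj17 zj43) (kj xj5 yj17 zj44) (kj xj5 yj17 zj45) (kj xj8 yj10 zj45) (kj xj8 yj10 zj44) (kj xj8 yj10 zj41) (kj xj6 yj25 zj31) (kj xj6 yj25 zj32) (kj xj6 yj25 zj33) (kj xj5 yj18 zj17) (kj xj5 yj18 zj5) (kj xj8 yj9 zj40) (kj xj6 yj25 zj37) (kj xj5 yj18 zj10) (kj xj8 yj11 zj0) (kj xj8 yj7 zj9) (kj xj5 yj18 zj25) (kj xj5 yj18 zj15) (kj xj5 yj18 zj16) (kj xj8 yj11 zj3) (kj xj8 yj11 zj1) (kj xj8 yj10 zj40) (kj xj6 yj25 zj47) (kj xj6 yj25 zj48) (kj xj6 yj25 zj49) (kj xj7 yj17 zj38)) (@D3.rec (fun _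 => Pt) (kj xj8 yj10 zj1) (kj xj6 yj26 zj1) (kj xj6 yj26 zj2) (kj xj6 yj26 zj3) (kj xj6 yj26 zj4) (kj xj5 yj19 zj1) (kj xj7 yj19 zj31) (kj xj7 yj19 zj23) (kj xj7 yj25 zj38) (kj xj7 yj25 zj26) (kj xj8 yj11 zj17) (kj xj5 yj19 zj9) (kj xj5 yj19 zj2) (kj xj8 yj11 zj19) (kj xj6 yj26 zj14) (kj xj6 yj26 zj15) (kj xj5 yj20 zj3) (kj xj6 yj26 zj17) (kj xj8 yj11 zj18) (kj xj6 yj26 zj19) (kj xj6 yj26 zj20) (kj xj5 yj20 zj11) (kj xj5 yj20 zj22) (kj xj5 yj20 zj18) (kj xj5 yj19 zj17) (kj xj5 yj20 zj16) (kj xj8 yj11 zj28) (kj xj6 yj26 zj27) (kj xj6 yj26 zj28) (kj xj6 yj26 zj29) (kj xj5 yj20 zj15) (kj xj5 yj19 zj24) (kj xj8 yj0 zj41) (kj xj8 yj11 zj34) (kj xj5 yj19 zj26) (kj xj5 yj19 zj39) (kj xj5 yj19 zj42) (kj xj5 yj19 zj45) (kj xj5 yj19 zj48) (kj xj8 yj8 zj18) (kj xj7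 yj25 zj1) (kj xj7 yj20 zj32) (kj xj7 yj24 zj37) (kj xj8 yj11 zj35) (kj xj7 yj20 zj39) (kj xj8 yj11 zj36) (kj xj7 yj21 zj13) (kj xj7 yj19 zj43) (kj xj7 yj19 zj46) (kj xj7 yj19 zj42) (kj xj7 yj20 zj50))
def f_j_7 : D2 → D3 → Pt := @D2.rec (fun _ => D3 → Pt) (@D3.rec (fun _ => Pt) (kj xj8 yj11 zj46) (kj xj5 yj19 zj49) (kj xj5 yj20 zj8) (kj xj5 yj19 zj50) (kj xj8 yj11 zj48) (kj xj7 yj0 zj5) (kj xj7 yj22 zj32) (kj xj8 yj11 zj21) (kj xj5 yj20 zj5) (kj xj8 yj11 zj47) (kj xj8 yj12 zj1) (kj xj7 yj0 zj11) (kj xj7 yj0 zj12) (kj xj5 yj20 zj28) (kj xj7 yj17 zj13) (kj xj8 yj11 zj23) (kj xj5 yj20 zj13) (kj xj8 yj12 zj7) (kj xj8 yj11 zj29) (kj xj8 yj11 zj30) (kj xj5 yj20 zj19) (kj xj8 yj11 zj26) (kj xj8 yj11 zj27) (kj xj7 yj0 zj23) (kj xj7 yj0 zj24) (kj xj7 yj23 zj19)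 (kj xj8 yj12 zj15) (kj xj5 yj20 zj25) (kj xj8 yj12 zj17) (kj xj5 yj20 zj26) (kj xj7 yj17 zj22) (kj xj8 yj12 zj2) (kj xj5 yj20 zj30) (kj xj8 yj12 zj20) (kj xj5 yj20 zj33) (kj xj8 yj12 zj21) (kj xj5 yj20 zj35) (kj xj7 yj13 zj6) (kj xj8 yj12 zj24) (kj xj5 yj20 zj37) (kj xj5 yj20 zj38) (kj xj7 yj13 zj17) (kj xj8 yj12 zj26) (kj xj7 yj0 zj43) (kj xj7 yj0 zj44) (kj xj7 yj13 zj22) (kj xj7 yj0 zj46) (kj xj7 yj13 zj26) (kj xj5 yj20 zj49) (kj xj8 yj12 zj31) (kj xj7 yj14 zj41)) (@D3.rec (fun _ => Pt) (kj xj5 yj21 zj3) (kj xj8 yj12 zj34) (kj xj5 yj21 zj5) (kj xj5 yj21 zj7) (kj xj8 yj12 zj35) (kj xj8 yj12 zj36) (kj xj5 yj21 zj9) (kj xj5 yj21 zj21) (kj xj5 yj21 zj22) (kj xj5 yj21 zj25) (kj xj7 yj3 zj3) (kj xj8 yj8 zj20) (kj xj7 yj3 zj2) (kj xj5 yj21 zj42) (kj xj7 yj18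 zj48) (kj xj8 yj12 zj39) (kj xj8 yj12 zj40) (kj xj7 yj19 zj5) (kj xj8 yj12 zj43) (kj xj5 yj21 zj27) (kj xj8 yj12 zj48) (kj xj5 yj21 zj28) (kj xj8 yj12 zj49) (kj xj5 yj21 zj31) (kj xj7 yj1 zj24) (kj xj7 yj1 zj25) (kj xj5 yj21 zj41) (kj xj7 yj2 zj43) (kj xj5 yj22 zj10) (kj xj5 yj22 zj12) (kj xj5 yj22 zj13) (kj xj5 yj22 zj16) (kj xj5 yj22 zj19) (kj xj6 yj10 zj21) (kj xj6 yj22 zj31) (kj xj6 yj22 zj32) (kj xj6 yj22 zj19) (kj xj6 yj22 zj14) (kj xj6 yj22 zj15) (kj xj8 yj12 zj50) (kj xj8 yj13 zj0) (kj xj6 yj9 zj34) (kj xj6 yj22 zj13) (kj xj6 yj23 zj2) (kj xj6 yj10 zj22) (kj xj6 yj9 zj37) (kj xj5 yj22 zj21) (kj xj7 yj1 zj47) (kj xj7 yj1 zj48) (kj xj7 yj1 zj49) (kj xj7 yj1 zj50)) (@D3.rec (fun _ => Pt) (kj xj7 yj2 zj0) (kj xj7 yj2 zj1) (kj xj7 yj2 zj2) (kj xj7 yj2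 zj3) (kj xj6 yj23 zj18) (kj xj7 yj2 zj5) (kj xj6 yj23 zj6) (kj xj6 yj23 zj7) (kj xj7 yj2 zj8) (kj xj7 yj2 zj9) (kj xj7 yj2 zj10) (kj xj7 yj2 zj11) (kj xj7 yj2 zj12) (kj xj6 yj24 zj16) (kj xj6 yj24 zj17) (kj xj7 yj2 zj15) (kj xj7 yj2 zj16) (kj xj5 yj22 zj39) (kj xj6 yj11 zj42) (kj xj6 yj11 zj43) (kj xj5 yj22 zj42) (kj xj5 yj22 zj43) (kj xj8 yj13 zj32) (kj xj8 yj13 zj33) (kj xj7 yj2 zj24) (kj xj7 yj2 zj25) (kj xj7 yj2 zj26) (kj xj7 yj2 zj27) (kj xj7 yj2 zj28) (kj xj7 yj2 zj29) (kj xj7 yj2 zj30) (kj xj5 yj23 zj22) (kj xj5 yj23 zj23) (kj xj6 yj9 zj6) (kj xj5 yj23 zj25) (kj xj6 yj9 zj8) (kj xj5 yj23 zj28) (kj xj5 yj23 zj32) (kj xj5 yj23 zj34) (kj xj6 yj9 zj3) (kj xj6 yj9 zj5) (kj xj5 yj23 zj37) (kj xj8 yj13 zj40) (kj xj7 yj1 zj27) (kj xj8 yj13 zj47) (kj xj8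 yj13 zj42) (kj xj5 yj23 zj24) (kj xj6 yj9 zj18) (kj xj8 yj13 zj50) (kj xj5 yj23 zj27) (kj xj6 yj9 zj23)) (@D3.rec (fun _ => Pt) (kj xj5 yj24 zj23) (kj xj6 yj8 zj50) (kj xj7 yj1 zj12) (kj xj7 yj1 zj10) (kj xj8 yj14 zj6) (kj xj5 yj23 zj35) (kj xj8 yj14 zj7) (kj xj5 yj23 zj36) (kj xj6 yj9 zj4) (kj xj6 yj9 zj31) (kj xj5 yj23 zj40) (kj xj6 yj9 zj7) (kj xj5 yj24 zj30) (kj xj8 yj14 zj12) (kj xj5 yj24 zj32) (kj xj5 yj24 zj33) (kj xj5 yj24 zj34) (kj xj8 yj14 zj18) (kj xj5 yj24 zj36) (kj xj5 yj23 zj48) (kj xj8 yj14 zj22) (kj xj5 yj24 zj39) (kj xj8 yj14 zj2) (kj xj5 yj24 zj1) (kj xj8 yj14 zj24) (kj xj5 yj24 zj43) (kj xj5 yj24 zj44) (kj xj5 yj24 zj4) (kj xj8 yj14 zj27) (kj xj5 yj24 zj47) (kj xj5 yj24 zj48) (kj xj5 yj24 zj49) (kj xj6 yj23 zj15) (kj xj5 yj25 zj0) (kj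 xj5 yj25 zj1) (kj xj5 yj25 zj2) (kj xj6 yj23 zj16) (kj xj5 yj25 zj4) (kj xj5 yj25 zj7) (kj xj5 yj25 zj8) (kj xj8 yj14 zj44) (kj xj5 yj25 zj10) (kj xj5 yj24 zj14) (kj xj6 yj23 zj3) (kj xj5 yj25 zj13) (kj xj5 yj25 zj14) (kj xj5 yj25 zj15) (kj xj5 yj25 zj16) (kj xj8 yj13 zj49) (kj xj5 yj24 zj18) (kj xj6 yj10 zj32)) (@D3.rec (fun _ => Pt) (kj xj5 yj25 zj20) (kj xj5 yj25 zj21) (kj xj6 yj23 zj4) (kj xj6 yj10 zj39) (kj xj5 yj25 zj30) (kj xj5 yj24 zj29) (kj xj8 yj14 zj9) (kj xj8 yj15 zj9) (kj xj8 yj14 zj11) (kj xj5 yj24 zj31) (kj xj8 yj15 zj13) (kj xj8 yj14 zj14) (kj xj8 yj14 zj15) (kj xj8 yj14 zj16) (kj xj8 yj15 zj19) (kj xj5 yj24 zj35) (kj xj8 yj15 zj21) (kj xj8 yj14 zj20) (kj xj8 yj14 zj21) (kj xj5 yj24 zj38) (kj xj8 yj15 zj26) (kj xj5 yj24 zj40) (kj xj8 yj15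 zj28) (kj xj5 yj24 zj42) (kj xj8 yj15 zj31) (kj xj8 yj15 zj32) (kj xj6 yj1 zj27) (kj xj8 yj14 zj26) (kj xj5 yj24 zj46) (kj xj8 yj14 zj28) (kj xj8 yj15 zj41) (kj xj8 yj14 zj30) (kj xj8 yj14 zj31) (kj xj8 yj14 zj32) (kj xj8 yj14 zj33) (kj xj8 yj15 zj49) (kj xj8 yj14 zj35) (kj xj5 yj24 zj50) (kj xj6 yj23 zj20) (kj xj6 yj22 zj35) (kj xj8 yj14 zj36) (kj xj8 yj14 zj37) (kj xj8 yj14 zj38) (kj xj8 yj16 zj8) (kj xj5 yj25 zj3) (kj xj6 yj23 zj21) (kj xj6 yj22 zj25) (kj xj8 yj14 zj40) (kj xj6 yj23 zj22) (kj xj8 yj16 zj13) (kj xj8 yj14 zj42)) (@D3.rec (fun _ => Pt) (kj xj8 yj16 zj17) (kj xj5 yj25 zj9) (kj xj8 yj16 zj19) (kj xj8 yj14 zj46) (kj xj8 yj14 zj47) (kj xj5 yj25 zj12) (kj xj6 yj23 zj10) (kj xj8 yj16 zj25) (kj xj8 yj14 zj49) (kj xj8 yj14 zj50) (kj xj8 yj15 zj0)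 (kj xj8 yj15 zj1) (kj xj8 yj15 zj2) (kj xj5 yj25 zj17) (kj xj8 yj16 zj35) (kj xj5 yj25 zj19) (kj xj6 yj10 zj31) (kj xj8 yj16 zj38) (kj xj8 yj15 zj4) (kj xj8 yj15 zj5) (kj xj5 yj25 zj23) (kj xj6 yj11 zj31) (kj xj5 yj25 zj25) (kj xj6 yj10 zj37) (kj xj8 yj16 zj44) (kj xj5 yj25 zj28) (kj xj6 yj10 zj38) (kj xj6 yj14 zj14) (kj xj6 yj14 zj19) (kj xj6 yj10 zj17) (kj xj8 yj16 zj49) (kj xj7 yj5 zj31) (kj xj8 yj17 zj2) (kj xj5 yj25 zj33) (kj xj8 yj17 zj4) (kj xj7 yj5 zj35) (kj xj7 yj5 zj36) (kj xj5 yj25 zj36) (kj xj8 yj17 zj10) (kj xj8 yj17 zj11) (kj xj7 yj5 zj40) (kj xj7 yj5 zj41) (kj xj7 yj5 zj42) (kj xj5 yj25 zj40) (kj xj8 yj17 zj17) (kj xj5 yj25 zj42) (kj xj8 yj17 zj20) (kj xj8 yj17 zj21) (kj xj7 yj5 zj48) (kj xj7 yj5 zj49) (kj xj5 yj25 zj46)) (@D3.rec (fun _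 => Pt) (kj xj6 yj12 zj13) (kj xj5 yj25 zj48) (kj xj8 yj17 zj28) (kj xj8 yj17 zj29) (kj xj5 yj25 zj50) (kj xj5 yj26 zj0) (kj xj8 yj17 zj33) (kj xj8 yj17 zj34) (kj xj7 yj6 zj8) (kj xj7 yj6 zj9) (kj xj7 yj6 zj10) (kj xj7 yj6 zj11) (kj xj8 yj17 zj44) (kj xj7 yj6 zj13) (kj xj5 yj26 zj5) (kj xj8 yj17 zj48) (kj xj7 yj6 zj16) (kj xj7 yj6 zj17) (kj xj7 yj6 zj18) (kj xj7 yj6 zj19) (kj xj8 yj18 zj6) (kj xj7 yj6 zj21) (kj xj8 yj18 zj10) (kj xj5 yj26 zj10) (kj xj8 yj18 zj12) (kj xj7 yj6 zj25) (kj xj7 yj6 zj26) (kj xj5 yj26 zj13) (kj xj6 yj23 zj39) (kj xj8 yj18 zj18) (kj xj7 yj6 zj30) (kj xj7 yj6 zj31) (kj xj7 yj6 zj32) (kj xj7 yj6 zj33) (kj xj7 yj6 zj34) (kj xj5 yj26 zj18) (kj xj8 yj18 zj28) (kj xj5 yj26 zj20) (kj xj6 yj24 zj41) (kj xj8 yj18 zj31) (kj xj7 yj6 zj40)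 (kj xj7 yj6 zj41) (kj xj5 yj26 zj24) (kj xj8 yj18 zj37) (kj xj5 yj26 zj25) (kj xj8 yj18 zj39) (kj xj7 yj6 zj46) (kj xj7 yj6 zj47) (kj xj5 yj26 zj27) (kj xj8 yj18 zj46) (kj xj5 yj26 zj29)) (@D3.rec (fun _ => Pt) (kj xj8 yj18 zj49) (kj xj8 yj18 zj50) (kj xj7 yj7 zj2) (kj xj7 yj7 zj3) (kj xj7 yj7 zj4) (kj xj5 yj26 zj33) (kj xj5 yj26 zj34) (kj xj8 yj19 zj9) (kj xj8 yj19 zj10) (kj xj7 yj7 zj9) (kj xj7 yj7 zj10) (kj xj7 yj7 zj11) (kj xj8 yj19 zj17) (kj xj7 yj7 zj13) (kj xj7 yj7 zj14) (kj xj6 yj13 zj20) (kj xj5 yj26 zj41) (kj xj8 yj19 zj21) (kj xj8 yj19 zj22) (kj xj5 yj26 zj43) (kj xj5 yj26 zj44) (kj xj8 yj19 zj26) (kj xj8 yj19 zj27) (kj xj7 yj7 zj23) (kj xj7 yj7 zj24) (kj xj7 yj7 zj25) (kj xj6 yj13 zj31) (kj xj5 yj26 zj50) (kj xj6 yj0 zj0) (kj xj8 yj19 zj35)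 (kj xj6 yj12 zj15) (kj xj8 yj19 zj36) (kj xj6 yj0 zj3) (kj xj6 yj0 zj4) (kj xj8 yj19 zj42) (kj xj8 yj19 zj43) (kj xj8 yj19 zj44) (kj xj7 yj7 zj37) (kj xj7 yj7 zj38) (kj xj7 yj7 zj39) (kj xj6 yj1 zj34) (kj xj6 yj1 zj35) (kj xj6 yj1 zj36) (kj xj6 yj1 zj37) (kj xj6 yj1 zj42) (kj xj6 yj1 zj39) (kj xj6 yj1 zj40) (kj xj6 yj0 zj11) (kj xj6 yj1 zj44) (kj xj6 yj1 zj45) (kj xj6 yj1 zj46)) (@D3.rec (fun _ => Pt) (kj xj6 yj1 zj48) (kj xj6 yj0 zj15) (kj xj8 yj20 zj13) (kj xj6 yj2 zj0) (kj xj6 yj0 zj19) (kj xj8 yj20 zj15) (kj xj6 yj2 zj4) (kj xj6 yj2 zj5) (kj xj6 yj0 zj22) (kj xj8 yj20 zj20) (kj xj6 yj2 zj8) (kj xj6 yj2 zj9) (kj xj6 yj2 zj10) (kj xj8 yj20 zj28) (kj xj6 yj2 zj12) (kj xj6 yj2 zj13) (kj xj6 yj2 zj14) (kj xj8 yj20 zj34) (kj xj6 yj2 zj16) (kj xj6 yj0 zj28)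 (kj xj8 yj20 zj38) (kj xj6 yj2 zj19) (kj xj6 yj2 zj20) (kj xj8 yj20 zj43) (kj xj6 yj2 zj22) (kj xj6 yj0 zj33) (kj xj8 yj20 zj47) (kj xj6 yj2 zj25) (kj xj6 yj2 zj26) (kj xj6 yj2 zj27) (kj xj6 yj2 zj28) (kj xj8 yj21 zj4) (kj xj6 yj0 zj37) (kj xj8 yj21 zj6) (kj xj6 yj2 zj32) (kj xj6 yj2 zj33) (kj xj6 yj0 zj40) (kj xj8 yj21 zj11) (kj xj6 yj0 zj42) (kj xj8 yj21 zj13) (kj xj6 yj0 zj44) (kj xj8 yj21 zj15) (kj xj8 yj21 zj16) (kj xj6 yj2 zj41) (kj xj6 yj2 zj42) (kj xj6 yj0 zj48) (kj xj6 yj2 zj44) (kj xj8 yj21 zj24) (kj xj6 yj2 zj46) (kj xj6 yj2 zj47) (kj xj6 yj2 zj48)) (@D3.rec (fun _ => Pt) (kj xj8 yj21 zj30) (kj xj6 yj2 zj50) (kj xj6 yj1 zj1) (kj xj8 yj21 zj34) (kj xj6 yj3 zj2) (kj xj6 yj3 zj3) (kj xj6 yj3 zj4) (kj xj8 yj21 zj40) (kj xj6 yj1 zj5) (kj xj8 yj21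 zj42) (kj xj6 yj3 zj8) (kj xj6 yj3 zj9) (kj xj6 yj1 zj8) (kj xj8 yj21 zj47) (kj xj8 yj21 zj49) (kj xj6 yj3 zj13) (kj xj8 yj22 zj2) (kj xj6 yj1 zj11) (kj xj8 yj22 zj4) (kj xj6 yj3 zj17) (kj xj6 yj3 zj18) (kj xj6 yj1 zj14) (kj xj6 yj23 zj12) (kj xj8 yj22 zj10) (kj xj6 yj3 zj22) (kj xj6 yj3 zj23) (kj xj6 yj3 zj24) (kj xj6 yj3 zj25) (kj xj6 yj3 zj26) (kj xj6 yj1 zj19) (kj xj8 yj15 zj35) (kj xj6 yj1 zj21) (kj xj6 yj16 zj9) (kj xj8 yj22 zj21) (kj xj6 yj3 zj32) (kj xj6 yj3 zj33) (kj xj6 yj1 zj25) (kj xj6 yj15 zj8) (kj xj8 yj15 zj36) (kj xj6 yj1 zj30) (kj xj6 yj16 zj10) (kj xj6 yj3 zj43) (kj xj6 yj3 zj44) (kj xj6 yj3 zj45) (kj xj8 yj20 zj0) (kj xj6 yj1 zj47) (kj xj8 yj20 zj1) (kj xj8 yj20 zj2) (kj xj8 yj20 zj3) (kj xj6 yj1 zj43) (kj xj8 yj20 zj4)) (@D3.rec (fun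 _ => Pt) (kj xj6 yj1 zj38) (kj xj8 yj22 zj40) (kj xj8 yj20 zj6) (kj xj8 yj20 zj5) (kj xj8 yj22 zj37) (kj xj8 yj20 zj7) (kj xj8 yj20 zj8) (kj xj8 yj20 zj9) (kj xj8 yj20 zj10) (kj xj6 yj3 zj48) (kj xj8 yj22 zj33) (kj xj8 yj20 zj11) (kj xj8 yj20 zj12) (kj xj6 yj1 zj50) (kj xj8 yj23 zj4) (kj xj6 yj2 zj1) (kj xj8 yj23 zj5) (kj xj6 yj2 zj3) (kj xj8 yj23 zj8) (kj xj8 yj23 zj9) (kj xj8 yj20 zj18) (kj xj8 yj20 zj19) (kj xj6 yj2 zj7) (kj xj8 yj20 zj21) (kj xj8 yj23 zj18) (kj xj8 yj20 zj23) (kj xj8 yj20 zj24) (kj xj8 yj20 zj25) (kj xj8 yj23 zj24) (kj xj8 yj20 zj27) (kj xj6 yj2 zj11) (kj xj8 yj23 zj28) (kj xj8 yj20 zj30) (kj xj8 yj20 zj31) (kj xj8 yj20 zj32) (kj xj8 yj23 zj34) (kj xj6 yj2 zj15) (kj xj8 yj23 zj36) (kj xj8 yj20 zj36) (kj xj8 yj20 zj37) (kj xj6 yj2 zj18)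 (kj xj8 yj23 zj41) (kj xj8 yj23 zj43) (kj xj8 yj20 zj41) (kj xj8 yj23 zj47) (kj xj6 yj2 zj21) (kj xj8 yj23 zj49) (kj xj8 yj20 zj45) (kj xj8 yj20 zj46) (kj xj6 yj2 zj24) (kj xj8 yj24 zj4)) (@D3.rec (fun _ => Pt) (kj xj8 yj24 zj5) (kj xj8 yj20 zj50) (kj xj8 yj21 zj0) (kj xj8 yj21 zj1) (kj xj8 yj21 zj2) (kj xj8 yj21 zj3) (kj xj6 yj2 zj29) (kj xj8 yj24 zj15) (kj xj6 yj2 zj31) (kj xj8 yj24 zj18) (kj xj8 yj24 zj19) (kj xj8 yj21 zj9) (kj xj8 yj21 zj10) (kj xj6 yj2 zj35) (kj xj6 yj16 zj3) (kj xj6 yj2 zj37) (kj xj8 yj24 zj26) (kj xj8 yj24 zj27) (kj xj6 yj2 zj39) (kj xj6 yj2 zj40) (kj xj8 yj24 zj31) (kj xj8 yj24 zj32) (kj xj8 yj21 zj18) (kj xj8 yj21 zj19) (kj xj8 yj21 zj20) (kj xj8 yj21 zj21) (kj xj8 yj24 zj43) (kj xj8 yj21 zj23) (kj xj6 yj2 zj45) (kj xj8 yj24 zj47)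 (kj xj8 yj21 zj26) (kj xj8 yj24 zj50) (kj xj8 yj21 zj28) (kj xj8 yj25 zj3) (kj xj6 yj2 zj49) (kj xj8 yj25 zj5) (kj xj8 yj21 zj32) (kj xj8 yj21 zj33) (kj xj6 yj3 zj1) (kj xj8 yj25 zj11) (kj xj8 yj25 zj12) (kj xj8 yj21 zj37) (kj xj8 yj21 zj38) (kj xj8 yj21 zj39) (kj xj6 yj3 zj5) (kj xj8 yj25 zj18) (kj xj6 yj3 zj7) (kj xj8 yj25 zj21) (kj xj8 yj25 zj22) (kj xj8 yj21 zj45) (kj xj8 yj21 zj46)) (@D3.rec (fun _ => Pt) (kj xj6 yj3 zj11) (kj xj8 yj25 zj29) (kj xj6 yj3 zj12) (kj xj8 yj25 zj31) (kj xj8 yj22 zj0) (kj xj8 yj22 zj1) (kj xj6 yj3 zj14) (kj xj8 yj25 zj38) (kj xj6 yj3 zj16) (kj xj8 yj25 zj41) (kj xj8 yj25 zj42) (kj xj8 yj22 zj7) (kj xj8 yj22 zj8) (kj xj8 yj22 zj9) (kj xj6 yj3 zj20) (kj xj6 yj3 zj21) (kj xj8 yj26 zj1) (kj xj8 yj26 zj2) (kj xj8 yj22 zj13)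 (kj xj8 yj22 zj14) (kj xj8 yj22 zj15) (kj xj8 yj26 zj9) (kj xj8 yj22 zj17) (kj xj8 yj22 zj18) (kj xj6 yj17 zj2) (kj xj6 yj3 zj28) (kj xj8 yj26 zj13) (kj xj8 yj26 zj14) (kj xj6 yj3 zj30) (kj xj6 yj3 zj31) (kj xj8 yj26 zj18) (kj xj8 yj26 zj19) (kj xj8 yj22 zj24) (kj xj8 yj22 zj25) (kj xj8 yj22 zj26) (kj xj6 yj17 zj13) (kj xj6 yj3 zj37) (kj xj6 yj3 zj38) (kj xj6 yj16 zj5) (kj xj8 yj26 zj27) (kj xj8 yj26 zj28) (kj xj6 yj3 zj42) (kj xj6 yj15 zj49) (kj xj6 yj16 zj8) (kj xj8 yj26 zj34) (kj xj8 yj22 zj28) (kj xj8 yj22 zj29) (kj xj8 yj22 zj30) (kj xj7 yj12 zj48) (kj xj7 yj12 zj49) (kj xj7 yj12 zj50)) (@D3.rec (fun _ => Pt) (kj xj8 yj22 zj50) (kj xj7 yj13 zj1) (kj xj7 yj13 zj2) (kj xj7 yj13 zj3) (kj xj6 yj4 zj2) (kj xj8 yj26 zj49) (kj xj7 yj0 zj37) (kj xj7 yj13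 zj7) (kj xj7 yj13 zj8) (kj xj6 yj4 zj7) (kj xj9 yj0 zj2) (kj xj9 yj0 zj3) (kj xj7 yj13 zj12) (kj xj7 yj13 zj13) (kj xj7 yj13 zj14) (kj xj7 yj13 zj15) (kj xj7 yj13 zj16) (kj xj7 yj0 zj41) (kj xj6 yj4 zj14) (kj xj9 yj0 zj13) (kj xj6 yj4 zj17) (kj xj6 yj4 zj19) (kj xj7 yj0 zj45) (kj xj9 yj0 zj14) (kj xj6 yj4 zj21) (kj xj6 yj4 zj22) (kj xj7 yj0 zj47) (kj xj9 yj0 zj17) (kj xj7 yj13 zj28) (kj xj7 yj13 zj29) (kj xj9 yj0 zj21) (kj xj7 yj13 zj31) (kj xj6 yj4 zj27) (kj xj9 yj0 zj25) (kj xj7 yj13 zj34) (kj xj9 yj0 zj27) (kj xj6 yj4 zj30) (kj xj9 yj0 zj29) (kj xj7 yj13 zj38) (kj xj7 yj13 zj39) (kj xj6 yj4 zj33) (kj xj9 yj0 zj34) (kj xj9 yj0 zj35) (kj xj7 yj13 zj43) (kj xj7 yj13 zj44) (kj xj7 yj13 zj45) (kj xj6 yj4 zj37) (kj xj9 yj0 zj41) (kj xj6 yj4 zj39) (kj xj9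 yj0 zj43) (kj xj6 yj4 zj42)) (@D3.rec (fun _ => Pt) (kj xj9 yj0 zj45) (kj xj6 yj4 zj43) (kj xj9 yj0 zj47) (kj xj7 yj14 zj3) (kj xj7 yj14 zj4) (kj xj6 yj4 zj45) (kj xj9 yj1 zj2) (kj xj6 yj4 zj47) (kj xj9 yj1 zj5) (kj xj9 yj1 zj6) (kj xj7 yj14 zj10) (kj xj7 yj14 zj11) (kj xj7 yj14 zj12) (kj xj6 yj5 zj0) (kj xj6 yj5 zj1) (kj xj9 yj1 zj16) (kj xj9 yj1 zj17) (kj xj7 yj14 zj17) (kj xj7 yj14 zj18) (kj xj7 yj14 zj19) (kj xj9 yj1 zj24) (kj xj7 yj14 zj21) (kj xj7 yj14 zj22) (kj xj6 yj18 zj8) (kj xj6 yj5 zj8) (kj xj9 yj1 zj28) (kj xj9 yj1 zj29) (kj xj6 yj5 zj10) (kj xj6 yj5 zj11) (kj xj9 yj1 zj33) (kj xj9 yj1 zj34) (kj xj7 yj14 zj31) (kj xj7 yj14 zj32) (kj xj6 yj18 zj18) (kj xj6 yj5 zj17) (kj xj6 yj5 zj18) (kj xj9 yj1 zj40) (kj xj9 yj1 zj41) (kj xj9 yj1 zj42) (kj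 xj6 yj5 zj21) (kj xj6 yj5 zj22) (kj xj7 yj0 zj50) (kj xj9 yj1 zj48) (kj xj9 yj1 zj49) (kj xj7 yj14 zj44) (kj xj7 yj14 zj45) (kj xj7 yj14 zj46) (kj xj9 yj2 zj5) (kj xj7 yj14 zj48) (kj xj9 yj2 zj9) (kj xj6 yj5 zj27)) (@D3.rec (fun _ => Pt) (kj xj9 yj2 zj11) (kj xj7 yj15 zj1) (kj xj7 yj15 zj2) (kj xj6 yj5 zj30) (kj xj9 yj2 zj16) (kj xj9 yj2 zj18) (kj xj6 yj5 zj32) (kj xj9 yj2 zj20) (kj xj7 yj15 zj8) (kj xj7 yj15 zj9) (kj xj6 yj5 zj34) (kj xj9 yj2 zj26) (kj xj6 yj5 zj36) (kj xj9 yj2 zj29) (kj xj9 yj2 zj30) (kj xj7 yj15 zj15) (kj xj7 yj15 zj16) (kj xj7 yj15 zj17) (kj xj6 yj5 zj40) (kj xj6 yj5 zj41) (kj xj9 yj2 zj39) (kj xj9 yj2 zj40) (kj xj7 yj15 zj22) (kj xj7 yj15 zj23) (kj xj6 yj18 zj49) (kj xj6 yj5 zj46) (kj xj9 yj2 zj46) (kj xj9 yj2 zj47) (kj xj6 yj5 zj48)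 (kj xj6 yj5 zj49) (kj xj9 yj3 zj0) (kj xj9 yj3 zj1) (kj xj7 yj15 zj32) (kj xj7 yj15 zj33) (kj xj9 yj3 zj6) (kj xj6 yj6 zj2) (kj xj9 yj3 zj9) (kj xj6 yj6 zj4) (kj xj9 yj3 zj12) (kj xj9 yj3 zj13) (kj xj7 yj15 zj40) (kj xj7 yj15 zj41) (kj xj7 yj15 zj42) (kj xj6 yj19 zj17) (kj xj6 yj6 zj8) (kj xj9 yj3 zj24) (kj xj9 yj3 zj25) (kj xj6 yj6 zj10) (kj xj6 yj6 zj11) (kj xj9 yj3 zj29) (kj xj9 yj3 zj30)) (@D3.rec (fun _ => Pt) (kj xj9 yj3 zj31) (kj xj7 yj16 zj1) (kj xj7 yj16 zj2) (kj xj7 yj16 zj3) (kj xj7 yj16 zj4) (kj xj7 yj16 zj5) (kj xj7 yj16 zj6) (kj xj6 yj6 zj17) (kj xj6 yj6 zj18) (kj xj9 yj3 zj47) (kj xj9 yj3 zj48) (kj xj9 yj3 zj49) (kj xj9 yj4 zj2) (kj xj7 yj16 zj13) (kj xj7 yj16 zj14) (kj xj6 yj6 zj22) (kj xj9 yj4 zj6) (kj xj7 yj16 zj17) (kj xj6 yj19 zj40)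 (kj xj6 yj6 zj27) (kj xj6 yj6 zj28) (kj xj9 yj4 zj10) (kj xj9 yj4 zj11) (kj xj9 yj4 zj12) (kj xj6 yj6 zj31) (kj xj6 yj6 zj32) (kj xj9 yj4 zj18) (kj xj9 yj4 zj19) (kj xj9 yj4 zj20) (kj xj7 yj16 zj29) (kj xj7 yj16 zj30) (kj xj7 yj16 zj31) (kj xj6 yj20 zj3) (kj xj6 yj20 zj4) (kj xj6 yj6 zj39) (kj xj6 yj6 zj40) (kj xj6 yj6 zj41) (kj xj9 yj4 zj30) (kj xj9 yj4 zj31) (kj xj9 yj4 zj32) (kj xj9 yj4 zj33) (kj xj9 yj4 zj34) (kj xj6 yj6 zj44) (kj xj6 yj6 zj45) (kj xj6 yj6 zj46) (kj xj9 yj4 zj42) (kj xj9 yj4 zj43) (kj xj9 yj4 zj44) (kj xj7 yj16 zj48) (kj xj7 yj16 zj49) (kj xj7 yj16 zj50)) (@D3.rec (fun _ => Pt) (kj xj6 yj7 zj24) (kj xj6 yj20 zj22) (kj xj9 yj5 zj0) (kj xj6 yj7 zj4) (kj xj9 yj5 zj3) (kj xj6 yj7 zj6) (kj xj9 yj5 zj5) (kj xj6 yj20 zj28) (kj xj6 yj20 zj29)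 (kj xj6 yj7 zj11) (kj xj9 yj5 zj7) (kj xj9 yj5 zj8) (kj xj6 yj7 zj13) (kj xj7 yj0 zj14) (kj xj6 yj20 zj36) (kj xj6 yj20 zj37) (kj xj6 yj7 zj18) (kj xj6 yj7 zj19) (kj xj6 yj7 zj20) (kj xj6 yj21 zj4) (kj xj9 yj1 zj44) (kj xj6 yj7 zj25) (kj xj7 yj0 zj30) (kj xj9 yj0 zj15) (kj xj7 yj17 zj24) (kj xj7 yj17 zj25) (kj xj7 yj17 zj26) (kj xj9 yj5 zj13) (kj xj6 yj7 zj29) (kj xj9 yj5 zj16) (kj xj6 yj7 zj31) (kj xj9 yj5 zj18) (kj xj6 yj21 zj9) (kj xj6 yj21 zj10) (kj xj6 yj7 zj36) (kj xj9 yj5 zj20) (kj xj9 yj5 zj21) (kj xj6 yj7 zj38) (kj xj6 yj25 zj50) (kj xj7 yj17 zj39) (kj xj6 yj7 zj40) (kj xj9 yj5 zj26) (kj xj6 yj21 zj19) (kj xj6 yj7 zj42) (kj xj9 yj5 zj30) (kj xj9 yj5 zj31) (kj xj6 yj7 zj44) (kj xj6 yj7 zj45) (kj xj9 yj5 zj35) (kj xj9 yj5 zj36) (kj xj7 yj17 zj50))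 (@D3.rec (fun _ => Pt) (kj xj7 yj18 zj0) (kj xj6 yj21 zj29) (kj xj6 yj7 zj50) (kj xj9 yj5 zj42) (kj xj6 yj22 zj4) (kj xj6 yj8 zj1) (kj xj9 yj5 zj45) (kj xj7 yj18 zj7) (kj xj6 yj21 zj36) (kj xj6 yj21 zj37) (kj xj6 yj8 zj6) (kj xj6 yj8 zj7) (kj xj6 yj8 zj8) (kj xj9 yj5 zj50) (kj xj9 yj6 zj0) (kj xj9 yj6 zj1) (kj xj9 yj6 zj2) (kj xj9 yj6 zj3) (kj xj6 yj8 zj11) (kj xj6 yj8 zj12) (kj xj6 yj8 zj13) (kj xj9 yj6 zj11) (kj xj9 yj6 zj12) (kj xj9 yj6 zj13) (kj xj7 yj18 zj24) (kj xj7 yj18 zj25) (kj xj7 yj18 zj26) (kj xj6 yj8 zj25) (kj xj6 yj8 zj24) (kj xj6 yj8 zj23) (kj xj6 yj8 zj22) (kj xj6 yj8 zj26) (kj xj9 yj6 zj20) (kj xj9 yj5 zj49) (kj xj9 yj5 zj48) (kj xj9 yj4 zj28) (kj xj9 yj4 zj27) (kj xj6 yj8 zj30) (kj xj6 yj8 zj31) (kj xj6 yj8 zj32) (kj xj9 yj6 zj25) (kj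 xj9 yj6 zj26) (kj xj9 yj6 zj27) (kj xj7 yj18 zj43) (kj xj7 yj18 zj44) (kj xj7 yj18 zj45) (kj xj6 yj9 zj1) (kj xj6 yj9 zj16) (kj xj7 yj1 zj14) (kj xj6 yj9 zj15) (kj xj6 yj9 zj45)) (@D3.rec (fun _ => Pt) (kj xj6 yj9 zj9) (kj xj8 yj13 zj43) (kj xj8 yj14 zj8) (kj xj8 yj13 zj41) (kj xj9 yj6 zj32) (kj xj7 yj1 zj17) (kj xj6 yj9 zj12) (kj xj9 yj6 zj35) (kj xj6 yj9 zj14) (kj xj9 yj6 zj37) (kj xj8 yj13 zj48) (kj xj6 yj10 zj7) (kj xj8 yj14 zj0) (kj xj6 yj9 zj20) (kj xj8 yj15 zj27) (kj xj6 yj9 zj22) (kj xj8 yj21 zj12) (kj xj8 yj14 zj1) (kj xj6 yj14 zj12) (kj xj6 yj10 zj14) (kj xj6 yj10 zj23) (kj xj6 yj10 zj45) (kj xj6 yj10 zj25) (kj xj6 yj26 zj7) (kj xj6 yj10 zj28) (kj xj6 yj10 zj33) (kj xj8 yj13 zj8) (kj xj6 yj10 zj41) (kj xj6 yj10 zj43) (kj xj6 yj10 zj44) (kj xj6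 yj10 zj47) (kj xj6 yj26 zj6) (kj xj6 yj10 zj50) (kj xj6 yj11 zj0) (kj xj6 yj11 zj1) (kj xj8 yj13 zj44) (kj xj9 yj6 zj31) (kj xj6 yj11 zj5) (kj xj6 yj11 zj6) (kj xj6 yj9 zj48) (kj xj9 yj7 zj5) (kj xj6 yj11 zj10) (kj xj6 yj26 zj49) (kj xj6 yj26 zj47) (kj xj6 yj11 zj14) (kj xj6 yj11 zj15) (kj xj6 yj26 zj48) (kj xj6 yj11 zj19) (kj xj6 yj11 zj20) (kj xj6 yj11 zj21) (kj xj6 yj11 zj22)) (@D3.rec (fun _ => Pt) (kj xj9 yj6 zj39) (kj xj6 yj10 zj9) (kj xj9 yj7 zj19) (kj xj8 yj16 zj43) (kj xj6 yj11 zj28) (kj xj6 yj11 zj29) (kj xj6 yj10 zj13) (kj xj6 yj11 zj41) (kj xj6 yj10 zj16) (kj xj8 yj15 zj37) (kj xj6 yj11 zj39) (kj xj6 yj11 zj40) (kj xj6 yj10 zj46) (kj xj9 yj6 zj41) (kj xj9 yj7 zj30) (kj xj6 yj10 zj24) (kj xj8 yj16 zj39) (kj xj9 yj6 zj42) (kj xj9 yj6 zj43) (kj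 xj6 yj10 zj27) (kj xj9 yj7 zj36) (kj xj6 yj10 zj29) (kj xj8 yj16 zj36) (kj xj8 yj16 zj40) (kj xj8 yj14 zj45) (kj xj8 yj15 zj3) (kj xj6 yj10 zj35) (kj xj8 yj16 zj45) (kj xj8 yj14 zj25) (kj xj6 yj14 zj5) (kj xj6 yj15 zj34) (kj xj9 yj6 zj45) (kj xj6 yj26 zj41) (kj xj9 yj6 zj46) (kj xj9 yj7 zj26) (kj xj9 yj7 zj27) (kj xj9 yj6 zj47) (kj xj9 yj6 zj48) (kj xj6 yj10 zj49) (kj xj6 yj26 zj44) (kj xj9 yj7 zj50) (kj xj9 yj6 zj50) (kj xj9 yj7 zj0) (kj xj6 yj11 zj2) (kj xj9 yj8 zj4) (kj xj6 yj11 zj4) (kj xj9 yj8 zj7) (kj xj9 yj8 zj8) (kj xj9 yj7 zj4) (kj xj6 yj11 zj8) (kj xj6 yj26 zj50)) (@D3.rec (fun _ => Pt) (kj xj6 yj16 zj47) (kj xj9 yj7 zj6) (kj xj9 yj7 zj7) (kj xj6 yj11 zj11) (kj xj9 yj8 zj17) (kj xj6 yj11 zj13) (kj xj9 yj8 zj20) (kj xj9 yj8 zj21) (kj xj9 yj7 zj11)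 (kj xj9 yj7 zj12) (kj xj9 yj7 zj13) (kj xj6 yj11 zj18) (kj xj6 yj16 zj34) (kj xj6 yj26 zj46) (kj xj9 yj7 zj14) (kj xj9 yj7 zj15) (kj xj9 yj8 zj35) (kj xj9 yj7 zj17) (kj xj8 yj16 zj34) (kj xj6 yj11 zj24) (kj xj9 yj8 zj38) (kj xj9 yj8 zj39) (kj xj6 yj11 zj26) (kj xj6 yj11 zj27) (kj xj9 yj8 zj43) (kj xj9 yj8 zj44) (kj xj9 yj7 zj22) (kj xj9 yj7 zj23) (kj xj9 yj7 zj18) (kj xj8 yj15 zj29) (kj xj6 yj11 zj33) (kj xj6 yj11 zj34) (kj xj8 yj24 zj25) (kj xj8 yj17 zj27) (kj xj9 yj9 zj0) (kj xj6 yj11 zj37) (kj xj6 yj11 zj38) (kj xj9 yj9 zj4) (kj xj9 yj9 zj5) (kj xj8 yj15 zj34) (kj xj9 yj7 zj24) (kj xj9 yj7 zj25) (kj xj6 yj15 zj11) (kj xj8 yj13 zj30) (kj xj8 yj13 zj31) (kj xj7 yj21 zj45) (kj xj7 yj21 zj46) (kj xj7 yj21 zj47) (kj xj9 yj9 zj19) (kj xj6 yj11 zj47) (kj xj9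 yj9 zj21)) (@D3.rec (fun _ => Pt) (kj xj7 yj22 zj0) (kj xj7 yj22 zj1) (kj xj6 yj11 zj49) (kj xj9 yj9 zj26) (kj xj6 yj12 zj0) (kj xj9 yj9 zj29) (kj xj9 yj9 zj30) (kj xj7 yj22 zj7) (kj xj7 yj22 zj8) (kj xj6 yj12 zj4) (kj xj8 yj17 zj16) (kj xj6 yj12 zj6) (kj xj8 yj19 zj24) (kj xj9 yj9 zj36) (kj xj6 yj12 zj8) (kj xj6 yj12 zj9) (kj xj9 yj9 zj39) (kj xj9 yj9 zj40) (kj xj7 yj22 zj18) (kj xj7 yj22 zj19) (kj xj7 yj22 zj20) (kj xj6 yj12 zj16) (kj xj8 yj19 zj38) (kj xj8 yj19 zj40) (kj xj6 yj12 zj19) (kj xj6 yj12 zj20) (kj xj9 yj9 zj50) (kj xj9 yj10 zj0) (kj xj9 yj10 zj1) (kj xj7 yj22 zj29) (kj xj7 yj22 zj30) (kj xj7 yj22 zj31) (kj xj7 yj0 zj6) (kj xj7 yj22 zj33) (kj xj9 yj10 zj11) (kj xj6 yj12 zj25) (kj xj9 yj10 zj13) (kj xj7 yj22 zj37) (kj xj7 yj22 zj38) (kj xj6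 yj12 zj28) (kj xj9 yj10 zj17) (kj xj9 yj9 zj18) (kj xj6 yj12 zj30) (kj xj9 yj10 zj19) (kj xj7 yj22 zj44) (kj xj7 yj22 zj45) (kj xj6 yj12 zj32) (kj xj9 yj10 zj25) (kj xj6 yj12 zj34) (kj xj9 yj10 zj28) (kj xj9 yj10 zj29)) (@D3.rec (fun _ => Pt) (kj xj7 yj23 zj0) (kj xj7 yj23 zj1) (kj xj7 yj23 zj2) (kj xj6 yj12 zj38) (kj xj6 yj12 zj39) (kj xj9 yj10 zj38) (kj xj9 yj10 zj39) (kj xj7 yj23 zj7) (kj xj8 yj18 zj27) (kj xj6 yj12 zj43) (kj xj9 yj10 zj43) (kj xj9 yj10 zj44) (kj xj6 yj12 zj45) (kj xj6 yj12 zj46) (kj xj9 yj10 zj48) (kj xj9 yj10 zj49) (kj xj7 yj23 zj16) (kj xj7 yj23 zj17) (kj xj7 yj23 zj18) (kj xj7 yj0 zj25) (kj xj6 yj12 zj50) (kj xj9 yj11 zj7) (kj xj6 yj13 zj1) (kj xj9 yj11 zj10) (kj xj9 yj11 zj11) (kj xj7 yj23 zj25) (kj xj7 yj23 zj26) (kj xj7 yj23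 zj27) (kj xj8 yj18 zj45) (kj xj6 yj13 zj5) (kj xj9 yj11 zj22) (kj xj9 yj11 zj23) (kj xj6 yj13 zj7) (kj xj6 yj13 zj8) (kj xj9 yj11 zj27) (kj xj9 yj11 zj28) (kj xj9 yj11 zj29) (kj xj7 yj23 zj37) (kj xj7 yj23 zj38) (kj xj7 yj23 zj39) (kj xj7 yj23 zj40) (kj xj7 yj23 zj41) (kj xj7 yj23 zj42) (kj xj6 yj13 zj14) (kj xj6 yj13 zj15) (kj xj9 yj11 zj45) (kj xj9 yj11 zj46) (kj xj9 yj11 zj49) (kj xj7 yj23 zj48) (kj xj6 yj13 zj18) (kj xj9 yj12 zj0)) (@D3.rec (fun _ => Pt) (kj xj8 yj19 zj20) (kj xj6 yj13 zj22) (kj xj6 yj13 zj23) (kj xj9 yj12 zj3) (kj xj9 yj12 zj4) (kj xj9 yj12 zj5) (kj xj6 yj13 zj26) (kj xj6 yj13 zj27) (kj xj9 yj12 zj11) (kj xj9 yj12 zj12) (kj xj9 yj12 zj13) (kj xj7 yj24 zj11) (kj xj7 yj24 zj12) (kj xj7 yj24 zj13) (kj xj8 yj17 zj31) (kj xj8 yj19 zj34)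 (kj xj6 yj13 zj34) (kj xj6 yj13 zj35) (kj xj6 yj13 zj36) (kj xj9 yj12 zj21) (kj xj9 yj12 zj22) (kj xj9 yj12 zj23) (kj xj9 yj12 zj24) (kj xj9 yj12 zj25) (kj xj6 yj13 zj39) (kj xj6 yj13 zj40) (kj xj6 yj13 zj41) (kj xj9 yj12 zj33) (kj xj9 yj12 zj34) (kj xj9 yj12 zj35) (kj xj7 yj24 zj30) (kj xj7 yj24 zj31) (kj xj7 yj24 zj32) (kj xj6 yj15 zj19) (kj xj6 yj15 zj21) (kj xj6 yj16 zj12) (kj xj6 yj15 zj23) (kj xj6 yj26 zj42) (kj xj6 yj15 zj26) (kj xj8 yj24 zj39) (kj xj6 yj13 zj50) (kj xj8 yj16 zj46) (kj xj6 yj15 zj30) (kj xj6 yj15 zj31) (kj xj6 yj14 zj2) (kj xj9 yj12 zj50) (kj xj6 yj15 zj35) (kj xj8 yj15 zj38) (kj xj8 yj16 zj41) (kj xj6 yj15 zj39) (kj xj6 yj15 zj40)) (@D3.rec (fun _ => Pt) (kj xj6 yj14 zj8) (kj xj6 yj26 zj40) (kj xj9 yj13 zj7) (kj xj6 yj15 zj44)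 (kj xj6 yj15 zj45) (kj xj8 yj16 zj47) (kj xj6 yj16 zj0) (kj xj6 yj16 zj1) (kj xj6 yj14 zj18) (kj xj6 yj16 zj11) (kj xj6 yj16 zj16) (kj xj8 yj23 zj15) (kj xj6 yj14 zj25) (kj xj9 yj13 zj15) (kj xj6 yj16 zj20) (kj xj6 yj16 zj21) (kj xj6 yj14 zj28) (kj xj9 yj13 zj20) (kj xj6 yj14 zj30) (kj xj9 yj13 zj22) (kj xj6 yj14 zj32) (kj xj8 yj13 zj3) (kj xj9 yj13 zj25) (kj xj6 yj16 zj29) (kj xj6 yj16 zj30) (kj xj6 yj14 zj36) (kj xj6 yj26 zj9) (kj xj6 yj16 zj35) (kj xj6 yj16 zj36) (kj xj6 yj14 zj39) (kj xj9 yj13 zj32) (kj xj6 yj14 zj41) (kj xj9 yj8 zj14) (kj xj9 yj13 zj35) (kj xj6 yj16 zj42) (kj xj6 yj16 zj43) (kj xj6 yj16 zj44) (kj xj6 yj14 zj46) (kj xj6 yj26 zj8) (kj xj6 yj16 zj49) (kj xj6 yj16 zj50) (kj xj9 yj13 zj46) (kj xj6 yj17 zj1) (kj xj8 yj22 zj19) (kj xj6 yj15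 zj1) (kj xj9 yj13 zj49) (kj xj9 yj9 zj10) (kj xj6 yj15 zj3) (kj xj6 yj15 zj4) (kj xj8 yj16 zj3) (kj xj9 yj14 zj2)) (@D3.rec (fun _ => Pt) (kj xj6 yj17 zj10) (kj xj6 yj17 zj11) (kj xj6 yj17 zj12) (kj xj8 yj15 zj33) (kj xj6 yj15 zj10) (kj xj9 yj14 zj9) (kj xj9 yj9 zj11) (kj xj6 yj15 zj14) (kj xj6 yj15 zj15) (kj xj9 yj14 zj12) (kj xj9 yj14 zj13) (kj xj8 yj26 zj40) (kj xj6 yj17 zj24) (kj xj6 yj17 zj25) (kj xj6 yj17 zj26) (kj xj6 yj16 zj15) (kj xj6 yj16 zj13) (kj xj9 yj12 zj42) (kj xj9 yj14 zj24) (kj xj6 yj15 zj22) (kj xj9 yj14 zj26) (kj xj9 yj12 zj44) (kj xj9 yj12 zj45) (kj xj6 yj15 zj25) (kj xj9 yj14 zj31) (kj xj6 yj15 zj27) (kj xj9 yj14 zj33) (kj xj6 yj15 zj29) (kj xj8 yj26 zj35) (kj xj9 yj14 zj36) (kj xj9 yj12 zj48) (kj xj9 yj12 zj49) (kj xj6 yj15 zj33)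 (kj xj9 yj7 zj40) (kj xj9 yj7 zj41) (kj xj9 yj13 zj0) (kj xj9 yj13 zj1) (kj xj6 yj15 zj36) (kj xj9 yj14 zj49) (kj xj6 yj15 zj38) (kj xj9 yj15 zj1) (kj xj9 yj15 zj2) (kj xj9 yj13 zj4) (kj xj9 yj13 zj5) (kj xj9 yj13 zj6) (kj xj6 yj15 zj42) (kj xj6 yj15 zj43) (kj xj9 yj14 zj21) (kj xj9 yj15 zj11) (kj xj9 yj13 zj9) (kj xj8 yj24 zj14))
def f_j_8 : D2 → D3 → Pt := @D2.rec (fun _ => D3 → Pt) (@D3.rec (fun _ => Pt) (kj xj6 yj15 zj47) (kj xj8 yj26 zj29) (kj xj9 yj15 zj14) (kj xj6 yj15 zj50) (kj xj8 yj26 zj20) (kj xj8 yj26 zj36) (kj xj8 yj22 zj22) (kj xj9 yj13 zj10) (kj xj9 yj13 zj11) (kj xj6 yj16 zj6) (kj xj8 yj26 zj30) (kj xj8 yj26 zj31) (kj xj8 yj26 zj37) (kj xj8 yj21 zj43) (kj xj8 yj22 zj23) (kj xj8 yj22 zj27) (kj xj9 yj12 zj43) (kj xj9 yj14 zj20) (kj xj9 yj14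 zj19) (kj xj9 yj8 zj0) (kj xj9 yj13 zj12) (kj xj9 yj13 zj13) (kj xj6 yj16 zj17) (kj xj9 yj15 zj36) (kj xj6 yj16 zj19) (kj xj9 yj15 zj39) (kj xj9 yj15 zj40) (kj xj9 yj13 zj18) (kj xj9 yj13 zj19) (kj xj6 yj16 zj23) (kj xj8 yj25 zj17) (kj xj6 yj16 zj25) (kj xj9 yj15 zj47) (kj xj9 yj15 zj48) (kj xj6 yj16 zj27) (kj xj6 yj16 zj28) (kj xj8 yj16 zj26) (kj xj9 yj16 zj1) (kj xj8 yj22 zj11) (kj xj9 yj13 zj27) (kj xj9 yj13 zj28) (kj xj6 yj26 zj32) (kj xj6 yj16 zj32) (kj xj9 yj8 zj31) (kj xj9 yj8 zj23) (kj xj9 yj8 zj32) (kj xj9 yj13 zj29) (kj xj9 yj7 zj9) (kj xj9 yj13 zj30) (kj xj8 yj25 zj37) (kj xj6 yj16 zj38)) (@D3.rec (fun _ => Pt) (kj xj9 yj16 zj19) (kj xj9 yj16 zj20) (kj xj6 yj16 zj40) (kj xj6 yj16 zj41) (kj xj9 yj16 zj24) (kj xj9 yj8 zj12) (kj xj9 yj16 zj25)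 (kj xj9 yj13 zj38) (kj xj9 yj13 zj39) (kj xj9 yj13 zj40) (kj xj9 yj13 zj41) (kj xj9 yj13 zj42) (kj xj9 yj13 zj43) (kj xj6 yj16 zj48) (kj xj9 yj8 zj11) (kj xj9 yj8 zj13) (kj xj9 yj16 zj43) (kj xj9 yj13 zj45) (kj xj6 yj17 zj0) (kj xj9 yj16 zj45) (kj xj8 yj26 zj12) (kj xj6 yj17 zj4) (kj xj6 yj17 zj5) (kj xj9 yj16 zj48) (kj xj9 yj16 zj49) (kj xj9 yj16 zj50) (kj xj6 yj17 zj8) (kj xj6 yj17 zj9) (kj xj9 yj17 zj5) (kj xj9 yj17 zj6) (kj xj9 yj17 zj7) (kj xj9 yj14 zj6) (kj xj9 yj14 zj7) (kj xj9 yj14 zj8) (kj xj8 yj24 zj28) (kj xj8 yj26 zj26) (kj xj6 yj17 zj16) (kj xj6 yj17 zj17) (kj xj6 yj17 zj18) (kj xj9 yj17 zj15) (kj xj9 yj17 zj16) (kj xj9 yj17 zj17) (kj xj9 yj17 zj18) (kj xj9 yj17 zj19) (kj xj6 yj17 zj21) (kj xj6 yj17 zj22) (kj xj6 yj17 zj23) (kj xj9 yj17 zj27)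 (kj xj9 yj17 zj28) (kj xj9 yj17 zj29) (kj xj9 yj14 zj17)) (@D3.rec (fun _ => Pt) (kj xj9 yj14 zj18) (kj xj9 yj14 zj11) (kj xj9 yj15 zj29) (kj xj6 yj17 zj27) (kj xj6 yj17 zj29) (kj xj9 yj17 zj37) (kj xj6 yj17 zj31) (kj xj9 yj17 zj40) (kj xj9 yj17 zj41) (kj xj8 yj2 zj9) (kj xj6 yj17 zj35) (kj xj9 yj0 zj40) (kj xj6 yj17 zj37) (kj xj9 yj17 zj45) (kj xj6 yj17 zj39) (kj xj9 yj10 zj8) (kj xj6 yj17 zj41) (kj xj9 yj17 zj48) (kj xj6 yj17 zj43) (kj xj9 yj18 zj0) (kj xj9 yj18 zj1) (kj xj8 yj2 zj21) (kj xj8 yj2 zj22) (kj xj9 yj1 zj1) (kj xj6 yj17 zj47) (kj xj9 yj18 zj7) (kj xj9 yj18 zj8) (kj xj6 yj17 zj49) (kj xj6 yj17 zj50) (kj xj9 yj18 zj12) (kj xj9 yj18 zj13) (kj xj9 yj18 zj14) (kj xj8 yj2 zj32) (kj xj8 yj2 zj33) (kj xj8 yj2 zj34) (kj xj8 yj2 zj35) (kj xj8 yj2 zj36)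 (kj xj6 yj18 zj5) (kj xj6 yj18 zj6) (kj xj9 yj18 zj26) (kj xj9 yj18 zj27) (kj xj9 yj1 zj27) (kj xj6 yj18 zj10) (kj xj6 yj18 zj11) (kj xj9 yj18 zj31) (kj xj9 yj18 zj32) (kj xj9 yj18 zj33) (kj xj6 yj18 zj14) (kj xj6 yj18 zj15) (kj xj9 yj18 zj38) (kj xj9 yj18 zj39)) (@D3.rec (fun _ => Pt) (kj xj8 yj3 zj0) (kj xj8 yj3 zj1) (kj xj9 yj1 zj38) (kj xj9 yj1 zj39) (kj xj6 yj18 zj21) (kj xj6 yj18 zj22) (kj xj6 yj18 zj23) (kj xj9 yj18 zj44) (kj xj9 yj4 zj38) (kj xj9 yj18 zj45) (kj xj9 yj18 zj46) (kj xj9 yj18 zj47) (kj xj6 yj18 zj26) (kj xj6 yj18 zj27) (kj xj6 yj18 zj28) (kj xj9 yj19 zj3) (kj xj9 yj19 zj4) (kj xj9 yj19 zj5) (kj xj8 yj3 zj18) (kj xj8 yj3 zj19) (kj xj8 yj3 zj20) (kj xj9 yj5 zj10) (kj xj6 yj18 zj32) (kj xj9 yj19 zj13) (kj xj8 yj3 zj24) (kj xj6 yj18 zj34)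 (kj xj9 yj5 zj9) (kj xj6 yj18 zj36) (kj xj9 yj19 zj18) (kj xj6 yj18 zj38) (kj xj9 yj19 zj21) (kj xj9 yj19 zj22) (kj xj8 yj3 zj32) (kj xj9 yj2 zj25) (kj xj6 yj18 zj42) (kj xj9 yj19 zj26) (kj xj9 yj19 zj27) (kj xj6 yj18 zj44) (kj xj6 yj18 zj45) (kj xj9 yj19 zj31) (kj xj9 yj19 zj32) (kj xj8 yj3 zj41) (kj xj8 yj3 zj42) (kj xj8 yj3 zj43) (kj xj9 yj2 zj45) (kj xj6 yj19 zj0) (kj xj6 yj19 zj1) (kj xj9 yj19 zj41) (kj xj9 yj19 zj42) (kj xj9 yj19 zj43) (kj xj6 yj19 zj4)) (@D3.rec (fun _ => Pt) (kj xj6 yj19 zj5) (kj xj9 yj19 zj48) (kj xj9 yj19 zj49) (kj xj8 yj4 zj3) (kj xj8 yj4 zj4) (kj xj6 yj19 zj8) (kj xj9 yj20 zj3) (kj xj9 yj3 zj8) (kj xj6 yj19 zj10) (kj xj9 yj20 zj7) (kj xj9 yj20 zj8) (kj xj6 yj19 zj12) (kj xj6 yj19 zj13) (kj xj9 yj20 zj12) (kj xj9 yj20 zj13)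 (kj xj9 yj20 zj14) (kj xj8 yj4 zj16) (kj xj8 yj4 zj17) (kj xj8 yj4 zj18) (kj xj8 yj4 zj19) (kj xj8 yj4 zj20) (kj xj8 yj4 zj21) (kj xj9 yj3 zj23) (kj xj6 yj19 zj19) (kj xj6 yj19 zj20) (kj xj9 yj20 zj32) (kj xj9 yj20 zj33) (kj xj9 yj20 zj34) (kj xj6 yj19 zj23) (kj xj6 yj19 zj24) (kj xj6 yj19 zj25) (kj xj9 yj20 zj41) (kj xj9 yj20 zj42) (kj xj9 yj20 zj43) (kj xj9 yj20 zj44) (kj xj9 yj20 zj45) (kj xj9 yj20 zj46) (kj xj8 yj4 zj37) (kj xj8 yj4 zj38) (kj xj8 yj4 zj39) (kj xj8 yj4 zj40) (kj xj8 yj4 zj41) (kj xj8 yj4 zj42) (kj xj9 yj21 zj14) (kj xj8 yj4 zj44) (kj xj8 yj4 zj45) (kj xj6 yj19 zj34) (kj xj6 yj19 zj35) (kj xj9 yj21 zj19) (kj xj9 yj21 zj18) (kj xj6 yj19 zj36)) (@D3.rec (fun _ => Pt) (kj xj9 yj21 zj21) (kj xj6 yj19 zj39) (kj xj9 yj4 zj8) (kj xj9 yj4 zj9)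 (kj xj6 yj19 zj43) (kj xj6 yj19 zj44) (kj xj6 yj19 zj45) (kj xj9 yj21 zj24) (kj xj9 yj21 zj25) (kj xj9 yj21 zj26) (kj xj9 yj21 zj27) (kj xj9 yj21 zj28) (kj xj6 yj19 zj48) (kj xj6 yj19 zj49) (kj xj6 yj19 zj50) (kj xj9 yj21 zj36) (kj xj9 yj21 zj37) (kj xj9 yj21 zj38) (kj xj8 yj5 zj18) (kj xj8 yj5 zj19) (kj xj8 yj5 zj20) (kj xj9 yj4 zj29) (kj xj6 yj20 zj8) (kj xj6 yj20 zj10) (kj xj6 yj20 zj11) (kj xj6 yj20 zj12) (kj xj9 yj5 zj33) (kj xj6 yj21 zj45) (kj xj9 yj21 zj35) (kj xj6 yj20 zj45) (kj xj6 yj20 zj16) (kj xj6 yj20 zj17) (kj xj9 yj21 zj46) (kj xj6 yj25 zj23) (kj xj6 yj24 zj5) (kj xj8 yj5 zj35) (kj xj8 yj5 zj36) (kj xj8 yj5 zj37) (kj xj6 yj20 zj23) (kj xj9 yj21 zj50) (kj xj9 yj5 zj2) (kj xj6 yj20 zj25) (kj xj9 yj22 zj3) (kj xj6 yj20 zj27) (kj xj9 yj5 zj6)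 (kj xj6 yj20 zj31) (kj xj6 yj20 zj32) (kj xj9 yj22 zj6) (kj xj9 yj22 zj7) (kj xj6 yj20 zj34) (kj xj9 yj22 zj8)) (@D3.rec (fun _ => Pt) (kj xj6 yj20 zj44) (kj xj6 yj20 zj43) (kj xj6 yj20 zj42) (kj xj6 yj20 zj41) (kj xj9 yj5 zj25) (kj xj9 yj5 zj15) (kj xj9 yj22 zj5) (kj xj9 yj17 zj23) (kj xj9 yj12 zj29) (kj xj6 yj20 zj49) (kj xj6 yj20 zj50) (kj xj6 yj21 zj0) (kj xj9 yj22 zj10) (kj xj9 yj22 zj11) (kj xj6 yj24 zj3) (kj xj8 yj6 zj15) (kj xj8 yj6 zj16) (kj xj8 yj6 zj17) (kj xj9 yj1 zj43) (kj xj6 yj21 zj6) (kj xj9 yj22 zj16) (kj xj6 yj21 zj8) (kj xj9 yj5 zj19) (kj xj6 yj21 zj12) (kj xj6 yj21 zj13) (kj xj9 yj22 zj18) (kj xj9 yj22 zj19) (kj xj6 yj21 zj15) (kj xj9 yj22 zj23) (kj xj6 yj21 zj18) (kj xj9 yj22 zj24) (kj xj9 yj22 zj25) (kj xj9 yj5 zj29) (kj xj6 yj21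 zj21) (kj xj6 yj21 zj22) (kj xj9 yj22 zj31) (kj xj9 yj22 zj32) (kj xj9 yj22 zj33) (kj xj6 yj21 zj25) (kj xj6 yj21 zj26) (kj xj9 yj22 zj38) (kj xj9 yj22 zj39) (kj xj8 yj6 zj42) (kj xj8 yj6 zj43) (kj xj9 yj5 zj41) (kj xj6 yj21 zj31) (kj xj6 yj21 zj32) (kj xj9 yj22 zj44) (kj xj9 yj22 zj45) (kj xj6 yj21 zj34) (kj xj9 yj22 zj49)) (@D3.rec (fun _ => Pt) (kj xj9 yj5 zj47) (kj xj6 yj21 zj41) (kj xj6 yj21 zj42) (kj xj6 yj21 zj43) (kj xj9 yj5 zj44) (kj xj9 yj5 zj22) (kj xj9 yj21 zj30) (kj xj6 yj21 zj49) (kj xj6 yj22 zj0) (kj xj6 yj25 zj40) (kj xj6 yj25 zj21) (kj xj9 yj23 zj1) (kj xj8 yj7 zj12) (kj xj8 yj7 zj13) (kj xj8 yj7 zj14) (kj xj6 yj24 zj28) (kj xj6 yj23 zj40) (kj xj8 yj13 zj4) (kj xj6 yj23 zj13) (kj xj6 yj23 zj14) (kj xj6 yj23 zj23) (kj xj6 yj23 zj24) (kj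 xj6 yj23 zj25) (kj xj6 yj23 zj26) (kj xj6 yj23 zj27) (kj xj6 yj23 zj28) (kj xj6 yj22 zj26) (kj xj8 yj16 zj11) (kj xj9 yj23 zj13) (kj xj6 yj23 zj34) (kj xj6 yj22 zj29) (kj xj8 yj13 zj1) (kj xj8 yj13 zj2) (kj xj6 yj22 zj36) (kj xj8 yj15 zj43) (kj xj8 yj16 zj4) (kj xj9 yj23 zj16) (kj xj6 yj23 zj47) (kj xj6 yj23 zj48) (kj xj6 yj23 zj49) (kj xj6 yj22 zj42) (kj xj6 yj22 zj43) (kj xj6 yj22 zj44) (kj xj8 yj15 zj45) (kj xj8 yj22 zj31) (kj xj9 yj23 zj22) (kj xj9 yj23 zj23) (kj xj9 yj23 zj24) (kj xj6 yj22 zj47) (kj xj6 yj22 zj48) (kj xj6 yj22 zj49)) (@D3.rec (fun _ => Pt) (kj xj8 yj22 zj47) (kj xj9 yj23 zj29) (kj xj9 yj23 zj30) (kj xj6 yj24 zj13) (kj xj6 yj24 zj14) (kj xj6 yj24 zj15) (kj xj8 yj14 zj48) (kj xj8 yj14 zj23) (kj xj8 yj13 zj17) (kj xj8 yj13 zj18) (kj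 xj6 yj23 zj11) (kj xj8 yj16 zj27) (kj xj9 yj23 zj40) (kj xj8 yj21 zj35) (kj xj8 yj22 zj12) (kj xj9 yj23 zj6) (kj xj8 yj14 zj29) (kj xj8 yj14 zj34) (kj xj6 yj26 zj39) (kj xj8 yj14 zj39) (kj xj7 yj1 zj11) (kj xj8 yj15 zj42) (kj xj8 yj15 zj50) (kj xj8 yj16 zj2) (kj xj8 yj16 zj9) (kj xj8 yj16 zj10) (kj xj6 yj23 zj36) (kj xj8 yj21 zj25) (kj xj9 yj23 zj7) (kj xj9 yj23 zj8) (kj xj9 yj23 zj9) (kj xj9 yj23 zj10) (kj xj9 yj13 zj47) (kj xj9 yj24 zj16) (kj xj9 yj23 zj11) (kj xj9 yj23 zj12) (kj xj6 yj23 zj31) (kj xj6 yj23 zj32) (kj xj9 yj24 zj20) (kj xj9 yj24 zj19) (kj xj6 yj23 zj33) (kj xj9 yj24 zj6) (kj xj6 yj23 zj41) (kj xj8 yj17 zj49) (kj xj8 yj18 zj19) (kj xj8 yj18 zj20) (kj xj9 yj21 zj48) (kj xj9 yj24 zj22) (kj xj6 yj23 zj44) (kj xj6 yj23 zj45) (kj xj6 yj23 zj46))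 (@D3.rec (fun _ => Pt) (kj xj8 yj24 zj11) (kj xj9 yj24 zj29) (kj xj9 yj24 zj30) (kj xj9 yj23 zj19) (kj xj9 yj23 zj20) (kj xj9 yj23 zj21) (kj xj6 yj24 zj2) (kj xj6 yj24 zj4) (kj xj6 yj24 zj6) (kj xj9 yj0 zj9) (kj xj9 yj22 zj13) (kj xj9 yj24 zj37) (kj xj9 yj19 zj8) (kj xj9 yj24 zj38) (kj xj9 yj12 zj38) (kj xj6 yj24 zj10) (kj xj6 yj24 zj11) (kj xj6 yj24 zj12) (kj xj9 yj24 zj45) (kj xj9 yj24 zj46) (kj xj9 yj24 zj47) (kj xj9 yj23 zj34) (kj xj9 yj23 zj35) (kj xj9 yj23 zj36) (kj xj8 yj13 zj25) (kj xj8 yj13 zj26) (kj xj6 yj24 zj20) (kj xj6 yj24 zj21) (kj xj9 yj25 zj7) (kj xj9 yj25 zj8) (kj xj9 yj25 zj9) (kj xj8 yj9 zj31) (kj xj8 yj9 zj32) (kj xj8 yj9 zj33) (kj xj6 yj24 zj27) (kj xj6 yj24 zj29) (kj xj9 yj25 zj16) (kj xj9 yj23 zj2) (kj xj9 yj25 zj17) (kj xj9 yj21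 zj47) (kj xj6 yj25 zj36) (kj xj6 yj24 zj32) (kj xj6 yj24 zj33) (kj xj6 yj24 zj34) (kj xj9 yj25 zj24) (kj xj9 yj25 zj25) (kj xj9 yj25 zj26) (kj xj8 yj9 zj47) (kj xj8 yj9 zj48) (kj xj8 yj9 zj49) (kj xj6 yj24 zj40)) (@D3.rec (fun _ => Pt) (kj xj6 yj24 zj42) (kj xj6 yj26 zj0) (kj xj8 yj18 zj32) (kj xj9 yj25 zj33) (kj xj8 yj18 zj29) (kj xj8 yj18 zj33) (kj xj9 yj25 zj34) (kj xj6 yj24 zj46) (kj xj6 yj24 zj47) (kj xj6 yj24 zj48) (kj xj6 yj24 zj49) (kj xj6 yj24 zj50) (kj xj6 yj25 zj0) (kj xj9 yj25 zj45) (kj xj9 yj25 zj46) (kj xj9 yj25 zj47) (kj xj9 yj25 zj48) (kj xj9 yj25 zj49) (kj xj9 yj25 zj50) (kj xj9 yj26 zj11) (kj xj9 yj26 zj0) (kj xj9 yj26 zj1) (kj xj8 yj10 zj22) (kj xj8 yj10 zj23) (kj xj8 yj10 zj24) (kj xj8 yj10 zj25) (kj xj8 yj10 zj26) (kj xj9 yj26 zj21)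 (kj xj8 yj10 zj28) (kj xj8 yj10 zj29) (kj xj8 yj10 zj30) (kj xj6 yj25 zj7) (kj xj9 yj26 zj26) (kj xj8 yj10 zj33) (kj xj9 yj26 zj28) (kj xj6 yj25 zj13) (kj xj6 yj25 zj12) (kj xj9 yj26 zj30) (kj xj6 yj25 zj15) (kj xj6 yj25 zj22) (kj xj6 yj25 zj46) (kj xj6 yj25 zj30) (kj xj9 yj23 zj3) (kj xj9 yj21 zj40) (kj xj6 yj25 zj29) (kj xj6 yj25 zj28) (kj xj9 yj25 zj23) (kj xj9 yj25 zj37) (kj xj8 yj10 zj48) (kj xj8 yj10 zj49) (kj xj8 yj10 zj50)) (@D3.rec (fun _ => Pt) (kj xj6 yj25 zj39) (kj xj6 yj25 zj45) (kj xj9 yj5 zj46) (kj xj6 yj25 zj44) (kj xj9 yj5 zj24) (kj xj9 yj25 zj18) (kj xj9 yj25 zj35) (kj xj8 yj11 zj7) (kj xj8 yj11 zj8) (kj xj8 yj11 zj9) (kj xj9 yj3 zj2) (kj xj9 yj25 zj36) (kj xj8 yj11 zj12) (kj xj9 yj23 zj46) (kj xj9 yj6 zj49) (kj xj9 yj6 zj44) (kj xj9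 yj26 zj39) (kj xj6 yj26 zj10) (kj xj6 yj26 zj18) (kj xj6 yj26 zj13) (kj xj9 yj26 zj41) (kj xj7 yj0 zj7) (kj xj8 yj11 zj22) (kj xj7 yj0 zj15) (kj xj9 yj26 zj40) (kj xj8 yj11 zj25) (kj xj7 yj0 zj21) (kj xj7 yj0 zj22) (kj xj6 yj26 zj26) (kj xj7 yj0 zj18) (kj xj7 yj0 zj19) (kj xj8 yj11 zj31) (kj xj8 yj11 zj32) (kj xj9 yj26 zj46) (kj xj6 yj26 zj33) (kj xj6 yj26 zj43) (kj xj6 yj26 zj45) (kj xj9 yj23 zj49) (kj xj9 yj13 zj8) (kj xj9 yj7 zj44) (kj xj9 yj12 zj46) (kj xj9 yj8 zj1) (kj xj9 yj7 zj8) (kj xj9 yj7 zj10) (kj xj9 yj26 zj48) (kj xj9 yj26 zj49) (kj xj7 yj0 zj0) (kj xj7 yj0 zj9) (kj xj7 yj0 zj4) (kj xj10 yj0 zj0) (kj xj9 yj10 zj9)) (@D3.rec (fun _ => Pt) (kj xj9 yj26 zj42) (kj xj7 yj0 zj10) (kj xj7 yj0 zj31) (kj xj9 yj26 zj50) (kj xj8 yj12 zj4) (kj xj9 yj1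 zj35) (kj xj9 yj26 zj43) (kj xj7 yj0 zj17) (kj xj9 yj11 zj13) (kj xj9 yj26 zj45) (kj xj9 yj11 zj5) (kj xj9 yj26 zj44) (kj xj10 yj0 zj10) (kj xj8 yj12 zj13) (kj xj10 yj0 zj12) (kj xj7 yj0 zj26) (kj xj10 yj0 zj13) (kj xj7 yj0 zj28) (kj xj9 yj5 zj11) (kj xj10 yj0 zj3) (kj xj7 yj0 zj33) (kj xj7 yj0 zj35) (kj xj9 yj0 zj4) (kj xj10 yj0 zj16) (kj xj7 yj0 zj38) (kj xj8 yj26 zj50) (kj xj7 yj0 zj42) (kj xj9 yj0 zj12) (kj xj8 yj12 zj28) (kj xj9 yj0 zj16) (kj xj9 yj0 zj18) (kj xj7 yj0 zj49) (kj xj8 yj17 zj35) (kj xj9 yj1 zj50) (kj xj7 yj1 zj1) (kj xj7 yj1 zj4) (kj xj7 yj1 zj5) (kj xj10 yj0 zj20) (kj xj10 yj0 zj21) (kj xj7 yj1 zj15) (kj xj7 yj1 zj16) (kj xj9 yj6 zj33) (kj xj8 yj14 zj3) (kj xj7 yj1 zj18) (kj xj8 yj14 zj17) (kj xj8 yj13 zj45) (kj xj10 yj0 zj26) (kj xj10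 yj0 zj27) (kj xj7 yj1 zj20) (kj xj7 yj1 zj22) (kj xj7 yj1 zj39)) (@D3.rec (fun _ => Pt) (kj xj7 yj1 zj40) (kj xj8 yj7 zj31) (kj xj8 yj7 zj32) (kj xj7 yj25 zj21) (kj xj8 yj7 zj17) (kj xj10 yj0 zj28) (kj xj10 yj0 zj29) (kj xj10 yj0 zj30) (kj xj7 yj19 zj26) (kj xj8 yj13 zj9) (kj xj8 yj13 zj10) (kj xj8 yj13 zj11) (kj xj8 yj13 zj12) (kj xj8 yj13 zj13) (kj xj8 yj13 zj14) (kj xj8 yj13 zj15) (kj xj8 yj13 zj16) (kj xj8 yj8 zj8) (kj xj8 yj8 zj9) (kj xj8 yj13 zj19) (kj xj8 yj13 zj20) (kj xj8 yj13 zj21) (kj xj10 yj1 zj3) (kj xj8 yj13 zj23) (kj xj8 yj13 zj24) (kj xj8 yj9 zj24) (kj xj8 yj9 zj25) (kj xj8 yj13 zj27) (kj xj8 yj13 zj28) (kj xj8 yj13 zj29) (kj xj7 yj21 zj43) (kj xj7 yj21 zj44) (kj xj7 yj2 zj22) (kj xj7 yj2 zj23) (kj xj10 yj1 zj15) (kj xj10 yj1 zj16) (kj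 xj10 yj1 zj17) (kj xj8 yj13 zj37) (kj xj8 yj13 zj38) (kj xj8 yj13 zj39) (kj xj7 yj2 zj42) (kj xj7 yj19 zj3) (kj xj7 yj2 zj45) (kj xj7 yj19 zj1) (kj xj7 yj19 zj35) (kj xj8 yj12 zj45) (kj xj10 yj1 zj27) (kj xj7 yj2 zj44) (kj xj7 yj19 zj10) (kj xj7 yj3 zj48) (kj xj7 yj2 zj48)) (@D3.rec (fun _ => Pt) (kj xj7 yj19 zj12) (kj xj7 yj19 zj17) (kj xj7 yj3 zj22) (kj xj8 yj12 zj42) (kj xj10 yj1 zj31) (kj xj10 yj1 zj32) (kj xj7 yj3 zj4) (kj xj7 yj3 zj6) (kj xj7 yj19 zj2) (kj xj7 yj4 zj6) (kj xj10 yj1 zj36) (kj xj7 yj4 zj8) (kj xj7 yj3 zj13) (kj xj10 yj1 zj40) (kj xj7 yj4 zj11) (kj xj7 yj4 zj12) (kj xj7 yj4 zj13) (kj xj8 yj12 zj44) (kj xj7 yj3 zj17) (kj xj10 yj1 zj46) (kj xj7 yj4 zj17) (kj xj7 yj4 zj18) (kj xj7 yj3 zj20) (kj xj8 yj8 zj7) (kj xj7 yj3 zj24) (kj xj7 yj20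 zj28) (kj xj7 yj4 zj27) (kj xj7 yj3 zj28) (kj xj7 yj4 zj29) (kj xj8 yj8 zj16) (kj xj7 yj4 zj31) (kj xj7 yj4 zj32) (kj xj7 yj4 zj33) (kj xj7 yj4 zj34) (kj xj8 yj8 zj17) (kj xj7 yj4 zj36) (kj xj7 yj4 zj40) (kj xj7 yj4 zj41) (kj xj7 yj4 zj42) (kj xj8 yj8 zj19) (kj xj7 yj4 zj47) (kj xj10 yj2 zj8) (kj xj7 yj4 zj50) (kj xj10 yj1 zj30) (kj xj7 yj3 zj40) (kj xj7 yj20 zj24) (kj xj7 yj5 zj3) (kj xj7 yj5 zj4) (kj xj8 yj8 zj6) (kj xj7 yj5 zj8) (kj xj7 yj5 zj9)) (@D3.rec (fun _ => Pt) (kj xj7 yj5 zj10) (kj xj7 yj5 zj11) (kj xj7 yj5 zj12) (kj xj7 yj20 zj25) (kj xj7 yj5 zj18) (kj xj7 yj5 zj19) (kj xj10 yj2 zj25) (kj xj10 yj1 zj34) (kj xj10 yj2 zj29) (kj xj7 yj4 zj7) (kj xj10 yj2 zj31) (kj xj10 yj1 zj38) (kj xj10 yj1 zj39) (kj xj7 yj4 zj10) (kj xj10 yj2 zj37) (kj xj10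 yj2 zj38) (kj xj10 yj1 zj43) (kj xj10 yj1 zj44) (kj xj10 yj1 zj45) (kj xj7 yj4 zj14) (kj xj10 yj2 zj44) (kj xj7 yj4 zj16) (kj xj10 yj2 zj47) (kj xj10 yj2 zj48) (kj xj10 yj1 zj48) (kj xj10 yj1 zj49) (kj xj7 yj4 zj20) (kj xj7 yj19 zj14) (kj xj7 yj4 zj22) (kj xj7 yj21 zj29) (kj xj10 yj3 zj3) (kj xj7 yj4 zj24) (kj xj7 yj4 zj25) (kj xj7 yj26 zj3) (kj xj7 yj21 zj39) (kj xj7 yj9 zj30) (kj xj7 yj9 zj38) (kj xj7 yj20 zj9) (kj xj7 yj24 zj47) (kj xj10 yj3 zj12) (kj xj10 yj2 zj0) (kj xj7 yj4 zj30) (kj xj8 yj8 zj21) (kj xj8 yj7 zj34) (kj xj10 yj2 zj1) (kj xj8 yj7 zj43) (kj xj10 yj2 zj2) (kj xj10 yj3 zj22) (kj xj10 yj3 zj23) (kj xj7 yj4 zj35) (kj xj8 yj8 zj22)) (@D3.rec (fun _ => Pt) (kj xj10 yj2 zj3) (kj xj10 yj2 zj4) (kj xj8 yj8 zj23) (kj xj7 yj25 zj49) (kj xj8 yj7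 zj35) (kj xj10 yj2 zj5) (kj xj10 yj2 zj6) (kj xj10 yj2 zj7) (kj xj7 yj4 zj43) (kj xj8 yj8 zj24) (kj xj8 yj8 zj25) (kj xj8 yj7 zj27) (kj xj10 yj3 zj38) (kj xj7 yj4 zj49) (kj xj10 yj3 zj40) (kj xj10 yj2 zj10) (kj xj10 yj2 zj11) (kj xj7 yj5 zj0) (kj xj10 yj3 zj46) (kj xj7 yj5 zj2) (kj xj10 yj3 zj49) (kj xj10 yj3 zj50) (kj xj10 yj2 zj14) (kj xj10 yj2 zj15) (kj xj10 yj2 zj16) (kj xj7 yj5 zj7) (kj xj8 yj0 zj36) (kj xj8 yj8 zj11) (kj xj10 yj2 zj17) (kj xj10 yj2 zj18) (kj xj10 yj2 zj19) (kj xj10 yj4 zj15) (kj xj10 yj2 zj21) (kj xj10 yj2 zj22) (kj xj7 yj21 zj18) (kj xj7 yj5 zj14) (kj xj7 yj20 zj22) (kj xj10 yj4 zj18) (kj xj7 yj5 zj17) (kj xj7 yj20 zj16) (kj xj7 yj20 zj23) (kj xj7 yj24 zj48) (kj xj10 yj2 zj23) (kj xj7 yj20 zj3) (kj xj7 yj5 zj24) (kj xj7 yj20 zj27)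 (kj xj7 yj24 zj41) (kj xj7 yj25 zj5) (kj xj10 yj4 zj25) (kj xj7 yj5 zj30) (kj xj10 yj4 zj27)) (@D3.rec (fun _ => Pt) (kj xj8 yj17 zj0) (kj xj8 yj17 zj1) (kj xj7 yj5 zj32) (kj xj10 yj4 zj34) (kj xj7 yj5 zj34) (kj xj10 yj4 zj37) (kj xj10 yj4 zj38) (kj xj8 yj17 zj7) (kj xj8 yj17 zj8) (kj xj8 yj17 zj9) (kj xj7 yj5 zj38) (kj xj7 yj5 zj39) (kj xj10 yj4 zj47) (kj xj10 yj4 zj48) (kj xj8 yj17 zj14) (kj xj8 yj17 zj15) (kj xj7 yj22 zj10) (kj xj7 yj5 zj44) (kj xj10 yj5 zj3) (kj xj10 yj5 zj4) (kj xj7 yj5 zj46) (kj xj7 yj5 zj47) (kj xj10 yj5 zj8) (kj xj10 yj5 zj9) (kj xj8 yj17 zj24) (kj xj8 yj17 zj25) (kj xj8 yj17 zj26) (kj xj7 yj21 zj33) (kj xj7 yj6 zj2) (kj xj7 yj6 zj3) (kj xj10 yj5 zj17) (kj xj7 yj24 zj14) (kj xj10 yj5 zj18) (kj xj7 yj6 zj6) (kj xj7 yj6 zj7) (kj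 xj8 yj12 zj32) (kj xj10 yj5 zj24) (kj xj10 yj5 zj25) (kj xj8 yj17 zj38) (kj xj8 yj17 zj39) (kj xj8 yj17 zj40) (kj xj10 yj5 zj32) (kj xj8 yj17 zj42) (kj xj10 yj5 zj36) (kj xj7 yj6 zj12) (kj xj10 yj5 zj38) (kj xj8 yj17 zj46) (kj xj8 yj17 zj47) (kj xj7 yj6 zj15) (kj xj8 yj8 zj43) (kj xj10 yj5 zj44)) (@D3.rec (fun _ => Pt) (kj xj8 yj18 zj0) (kj xj8 yj18 zj1) (kj xj8 yj18 zj2) (kj xj8 yj18 zj3) (kj xj8 yj18 zj4) (kj xj10 yj6 zj1) (kj xj7 yj6 zj20) (kj xj10 yj6 zj3) (kj xj8 yj18 zj8) (kj xj8 yj18 zj9) (kj xj7 yj6 zj22) (kj xj10 yj6 zj10) (kj xj7 yj6 zj24) (kj xj10 yj6 zj13) (kj xj10 yj6 zj14) (kj xj8 yj18 zj15) (kj xj8 yj18 zj16) (kj xj8 yj18 zj17) (kj xj7 yj6 zj29) (kj xj8 yj8 zj44) (kj xj8 yj8 zj45) (kj xj8 yj18 zj21) (kj xj8 yj18 zj22) (kj xj8 yj18 zj23)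 (kj xj10 yj6 zj28) (kj xj8 yj18 zj25) (kj xj8 yj18 zj26) (kj xj7 yj23 zj8) (kj xj7 yj6 zj36) (kj xj8 yj10 zj4) (kj xj10 yj6 zj32) (kj xj7 yj6 zj39) (kj xj8 yj10 zj2) (kj xj8 yj10 zj5) (kj xj8 yj18 zj34) (kj xj8 yj18 zj35) (kj xj10 yj6 zj38) (kj xj7 yj6 zj43) (kj xj10 yj6 zj41) (kj xj7 yj6 zj45) (kj xj10 yj6 zj44) (kj xj10 yj6 zj45) (kj xj8 yj18 zj42) (kj xj8 yj18 zj43) (kj xj8 yj18 zj44) (kj xj7 yj23 zj28) (kj xj7 yj6 zj49) (kj xj10 yj7 zj5) (kj xj10 yj7 zj6) (kj xj7 yj7 zj0) (kj xj7 yj7 zj1)) (@D3.rec (fun _ => Pt) (kj xj10 yj7 zj10) (kj xj10 yj7 zj11) (kj xj10 yj7 zj12) (kj xj8 yj19 zj3) (kj xj8 yj19 zj4) (kj xj8 yj19 zj5) (kj xj8 yj19 zj6) (kj xj8 yj19 zj7) (kj xj8 yj19 zj8) (kj xj7 yj7 zj7) (kj xj7 yj7 zj8) (kj xj10 yj7 zj28) (kj xj10 yj7 zj29) (kj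 xj10 yj7 zj30) (kj xj10 yj7 zj34) (kj xj8 yj19 zj15) (kj xj8 yj19 zj16) (kj xj7 yj7 zj12) (kj xj10 yj7 zj38) (kj xj8 yj19 zj19) (kj xj7 yj24 zj0) (kj xj7 yj7 zj17) (kj xj7 yj7 zj18) (kj xj10 yj7 zj41) (kj xj7 yj22 zj12) (kj xj10 yj7 zj42) (kj xj7 yj7 zj21) (kj xj7 yj7 zj22) (kj xj10 yj7 zj48) (kj xj10 yj7 zj49) (kj xj10 yj7 zj50) (kj xj8 yj19 zj31) (kj xj8 yj19 zj32) (kj xj8 yj19 zj33) (kj xj7 yj24 zj15) (kj xj7 yj7 zj29) (kj xj7 yj7 zj31) (kj xj10 yj8 zj6) (kj xj7 yj22 zj22) (kj xj10 yj8 zj7) (kj xj7 yj22 zj23) (kj xj10 yj8 zj8) (kj xj7 yj7 zj34) (kj xj7 yj7 zj35) (kj xj7 yj7 zj36) (kj xj10 yj8 zj15) (kj xj10 yj8 zj16) (kj xj10 yj8 zj17) (kj xj8 yj19 zj48) (kj xj8 yj19 zj49) (kj xj8 yj19 zj50)) (@D3.rec (fun _ => Pt) (kj xj7 yj9 zj44) (kj xj7 yj9 zj46)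 (kj xj7 yj9 zj47) (kj xj7 yj9 zj48) (kj xj7 yj9 zj50) (kj xj7 yj10 zj3) (kj xj7 yj10 zj2) (kj xj7 yj10 zj5) (kj xj7 yj10 zj6) (kj xj7 yj10 zj7) (kj xj7 yj10 zj8) (kj xj7 yj10 zj11) (kj xj7 yj10 zj12) (kj xj7 yj8 zj2) (kj xj10 yj8 zj37) (kj xj7 yj8 zj5) (kj xj10 yj8 zj38) (kj xj10 yj8 zj39) (kj xj7 yj10 zj20) (kj xj7 yj10 zj21) (kj xj7 yj8 zj9) (kj xj7 yj10 zj23) (kj xj10 yj8 zj46) (kj xj7 yj10 zj25) (kj xj7 yj10 zj26) (kj xj7 yj10 zj27) (kj xj10 yj9 zj1) (kj xj7 yj10 zj29) (kj xj7 yj8 zj13) (kj xj10 yj9 zj5) (kj xj7 yj10 zj32) (kj xj7 yj10 zj33) (kj xj7 yj10 zj34) (kj xj10 yj9 zj10) (kj xj7 yj8 zj17) (kj xj10 yj9 zj12) (kj xj7 yj10 zj38) (kj xj7 yj10 zj39) (kj xj7 yj8 zj20) (kj xj10 yj9 zj16) (kj xj10 yj9 zj17) (kj xj7 yj10 zj43) (kj xj10 yj9 zj21) (kj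 xj7 yj8 zj23) (kj xj10 yj9 zj23) (kj xj7 yj10 zj47) (kj xj7 yj10 zj48) (kj xj7 yj8 zj26) (kj xj10 yj9 zj29) (kj xj10 yj9 zj30) (kj xj7 yj11 zj1)) (@D3.rec (fun _ => Pt) (kj xj7 yj11 zj2) (kj xj7 yj11 zj3) (kj xj7 yj11 zj4) (kj xj7 yj11 zj5) (kj xj7 yj8 zj31) (kj xj10 yj9 zj38) (kj xj7 yj8 zj33) (kj xj10 yj9 zj40) (kj xj10 yj9 zj41) (kj xj7 yj11 zj11) (kj xj7 yj11 zj12) (kj xj7 yj8 zj37) (kj xj7 yj19 zj16) (kj xj7 yj8 zj39) (kj xj10 yj3 zj9) (kj xj7 yj8 zj41) (kj xj7 yj8 zj42) (kj xj10 yj9 zj46) (kj xj7 yj11 zj22) (kj xj7 yj11 zj23) (kj xj7 yj11 zj24) (kj xj7 yj11 zj25) (kj xj10 yj10 zj1) (kj xj7 yj11 zj27) (kj xj7 yj8 zj47) (kj xj8 yj8 zj27) (kj xj7 yj11 zj30) (kj xj10 yj10 zj6) (kj xj7 yj11 zj32) (kj xj10 yj10 zj10) (kj xj7 yj9 zj0) (kj xj10 yj10 zj12)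 (kj xj7 yj11 zj36) (kj xj7 yj11 zj37) (kj xj7 yj9 zj3) (kj xj8 yj8 zj13) (kj xj10 yj10 zj18) (kj xj7 yj11 zj41) (kj xj7 yj11 zj42) (kj xj7 yj11 zj43) (kj xj7 yj9 zj7) (kj xj10 yj3 zj7) (kj xj7 yj9 zj9) (kj xj8 yj0 zj13) (kj xj10 yj10 zj25) (kj xj7 yj11 zj49) (kj xj7 yj11 zj50) (kj xj7 yj9 zj13) (kj xj10 yj10 zj31) (kj xj7 yj9 zj14) (kj xj10 yj10 zj33)) (@D3.rec (fun _ => Pt) (kj xj7 yj12 zj4) (kj xj7 yj12 zj5) (kj xj7 yj9 zj16) (kj xj10 yj3 zj0) (kj xj7 yj9 zj18) (kj xj10 yj10 zj42) (kj xj10 yj10 zj43) (kj xj7 yj12 zj11) (kj xj7 yj12 zj12) (kj xj7 yj12 zj13) (kj xj7 yj9 zj23) (kj xj8 yj0 zj38) (kj xj8 yj8 zj14) (kj xj7 yj12 zj18) (kj xj7 yj12 zj19) (kj xj7 yj12 zj20) (kj xj10 yj11 zj7) (kj xj7 yj12 zj22) (kj xj7 yj12 zj23) (kj xj7 yj25 zj43) (kj xj10 yj3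 zj8) (kj xj7 yj9 zj33) (kj xj8 yj0 zj6) (kj xj8 yj0 zj14) (kj xj7 yj12 zj32) (kj xj7 yj12 zj33) (kj xj7 yj12 zj34) (kj xj8 yj0 zj15) (kj xj7 yj12 zj45) (kj xj7 yj12 zj46) (kj xj7 yj12 zj47) (kj xj8 yj7 zj44) (kj xj10 yj8 zj24) (kj xj7 yj10 zj10) (kj xj10 yj8 zj25) (kj xj10 yj8 zj26) (kj xj10 yj8 zj27) (kj xj7 yj10 zj4) (kj xj10 yj8 zj28) (kj xj10 yj8 zj29) (kj xj7 yj10 zj1) (kj xj10 yj11 zj25) (kj xj10 yj8 zj30) (kj xj10 yj11 zj22) (kj xj10 yj11 zj23) (kj xj10 yj8 zj31) (kj xj10 yj8 zj32) (kj xj8 yj8 zj0) (kj xj10 yj8 zj33) (kj xj10 yj8 zj34) (kj xj7 yj13 zj0)) (@D3.rec (fun _ => Pt) (kj xj10 yj11 zj18) (kj xj10 yj11 zj19) (kj xj10 yj8 zj35) (kj xj10 yj8 zj36) (kj xj7 yj10 zj14) (kj xj7 yj10 zj16) (kj xj10 yj11 zj40) (kj xj10 yj11 zj41) (kj xj7 yj10 zj18)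 (kj xj7 yj10 zj19) (kj xj10 yj11 zj45) (kj xj10 yj11 zj46) (kj xj10 yj8 zj41) (kj xj10 yj8 zj42) (kj xj10 yj8 zj43) (kj xj7 yj25 zj11) (kj xj10 yj12 zj5) (kj xj10 yj8 zj45) (kj xj7 yj10 zj24) (kj xj10 yj12 zj9) (kj xj10 yj8 zj48) (kj xj10 yj12 zj12) (kj xj10 yj8 zj50) (kj xj10 yj12 zj16) (kj xj7 yj10 zj28) (kj xj10 yj12 zj18) (kj xj10 yj9 zj3) (kj xj10 yj9 zj4) (kj xj7 yj10 zj31) (kj xj10 yj11 zj35) (kj xj10 yj12 zj24) (kj xj10 yj9 zj7) (kj xj10 yj9 zj8) (kj xj10 yj9 zj9) (kj xj7 yj10 zj35) (kj xj10 yj12 zj30) (kj xj7 yj10 zj37) (kj xj10 yj11 zj26) (kj xj10 yj12 zj33) (kj xj10 yj9 zj14) (kj xj10 yj9 zj15) (kj xj7 yj10 zj41) (kj xj10 yj12 zj40) (kj xj7 yj10 zj42) (kj xj10 yj12 zj42) (kj xj10 yj9 zj19) (kj xj10 yj9 zj20) (kj xj7 yj10 zj44) (kj xj10 yj12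 zj49) (kj xj7 yj10 zj46) (kj xj10 yj13 zj1)) (@D3.rec (fun _ => Pt) (kj xj10 yj13 zj2) (kj xj10 yj9 zj26) (kj xj10 yj9 zj27) (kj xj10 yj9 zj28) (kj xj7 yj10 zj50) (kj xj7 yj11 zj0) (kj xj10 yj12 zj34) (kj xj10 yj13 zj12) (kj xj10 yj9 zj32) (kj xj10 yj9 zj33) (kj xj10 yj9 zj34) (kj xj8 yj9 zj0) (kj xj10 yj9 zj35) (kj xj10 yj9 zj36) (kj xj7 yj26 zj50) (kj xj7 yj11 zj7) (kj xj10 yj13 zj22) (kj xj10 yj13 zj23) (kj xj7 yj11 zj9) (kj xj7 yj11 zj10) (kj xj10 yj12 zj25) (kj xj10 yj13 zj27) (kj xj10 yj9 zj43) (kj xj10 yj9 zj44) (kj xj10 yj9 zj45) (kj xj7 yj21 zj32) (kj xj7 yj11 zj16) (kj xj7 yj11 zj17) (kj xj8 yj1 zj34) (kj xj10 yj13 zj35) (kj xj10 yj13 zj36) (kj xj7 yj11 zj20) (kj xj7 yj11 zj21) (kj xj10 yj13 zj42) (kj xj10 yj13 zj43) (kj xj10 yj13 zj44) (kj xj10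 yj9 zj48) (kj xj10 yj9 zj49) (kj xj10 yj9 zj50) (kj xj7 yj24 zj39) (kj xj10 yj14 zj2) (kj xj10 yj10 zj0) (kj xj10 yj14 zj6) (kj xj7 yj11 zj26) (kj xj10 yj14 zj8) (kj xj10 yj10 zj3) (kj xj10 yj10 zj4) (kj xj7 yj11 zj29) (kj xj10 yj14 zj13) (kj xj10 yj14 zj15) (kj xj7 yj11 zj31)) (@D3.rec (fun _ => Pt) (kj xj10 yj14 zj17) (kj xj10 yj10 zj8) (kj xj10 yj10 zj9) (kj xj7 yj11 zj33) (kj xj10 yj14 zj24) (kj xj7 yj11 zj35) (kj xj10 yj14 zj27) (kj xj10 yj14 zj28) (kj xj10 yj10 zj15) (kj xj10 yj10 zj16) (kj xj10 yj10 zj17) (kj xj7 yj11 zj39) (kj xj7 yj11 zj40) (kj xj10 yj14 zj37) (kj xj10 yj14 zj38) (kj xj10 yj10 zj21) (kj xj10 yj10 zj22) (kj xj8 yj0 zj30) (kj xj7 yj11 zj45) (kj xj10 yj14 zj44) (kj xj10 yj14 zj45) (kj xj7 yj11 zj47) (kj xj7 yj11 zj48) (kj xj10 yj14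 zj49) (kj xj10 yj14 zj50) (kj xj10 yj10 zj28) (kj xj10 yj10 zj29) (kj xj10 yj10 zj30) (kj xj10 yj15 zj6) (kj xj7 yj12 zj1) (kj xj10 yj15 zj9) (kj xj7 yj12 zj3) (kj xj10 yj15 zj12) (kj xj10 yj15 zj13) (kj xj10 yj10 zj36) (kj xj10 yj10 zj37) (kj xj10 yj10 zj38) (kj xj8 yj0 zj49) (kj xj7 yj12 zj7) (kj xj10 yj15 zj24) (kj xj10 yj15 zj25) (kj xj7 yj12 zj9) (kj xj7 yj12 zj10) (kj xj10 yj15 zj29) (kj xj10 yj15 zj30) (kj xj10 yj15 zj31) (kj xj10 yj10 zj47) (kj xj10 yj10 zj48) (kj xj10 yj10 zj49) (kj xj10 yj10 zj50) (kj xj10 yj11 zj0)) (@D3.rec (fun _ => Pt) (kj xj10 yj11 zj1) (kj xj7 yj12 zj16) (kj xj7 yj12 zj17) (kj xj10 yj15 zj47) (kj xj10 yj15 zj48) (kj xj10 yj15 zj49) (kj xj10 yj16 zj2) (kj xj10 yj11 zj5) (kj xj10 yj11 zj6) (kj xj7 yj12 zj21) (kj xj10 yj16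 zj6) (kj xj10 yj11 zj9) (kj xj8 yj1 zj20) (kj xj7 yj12 zj26) (kj xj7 yj12 zj27) (kj xj10 yj16 zj9) (kj xj10 yj16 zj10) (kj xj10 yj16 zj11) (kj xj7 yj12 zj30) (kj xj7 yj12 zj31) (kj xj8 yj0 zj4) (kj xj10 yj16 zj17) (kj xj10 yj16 zj18) (kj xj10 yj11 zj12) (kj xj10 yj11 zj13) (kj xj10 yj11 zj14) (kj xj8 yj1 zj35) (kj xj7 yj12 zj39) (kj xj7 yj12 zj40) (kj xj8 yj0 zj1) (kj xj8 yj0 zj10) (kj xj8 yj0 zj11) (kj xj10 yj16 zj25) (kj xj10 yj16 zj26) (kj xj7 yj12 zj44) (kj xj7 yj26 zj28) (kj xj8 yj0 zj5) (kj xj8 yj0 zj12) (kj xj10 yj11 zj15) (kj xj10 yj11 zj16) (kj xj7 yj26 zj11) (kj xj8 yj26 zj41) (kj xj8 yj26 zj42) (kj xj8 yj26 zj43) (kj xj10 yj11 zj33) (kj xj10 yj11 zj34) (kj xj8 yj26 zj46) (kj xj8 yj26 zj47) (kj xj8 yj26 zj48) (kj xj7 yj13 zj5) (kj xj8 yj12 zj25))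
def f_j_9 : D2 → D3 → Pt := @D2.rec (fun _ => D3 → Pt) (@D3.rec (fun _ => Pt) (kj xj9 yj0 zj0) (kj xj9 yj0 zj1) (kj xj7 yj13 zj10) (kj xj7 yj13 zj11) (kj xj8 yj12 zj22) (kj xj10 yj16 zj44) (kj xj9 yj0 zj6) (kj xj9 yj0 zj7) (kj xj9 yj0 zj8) (kj xj8 yj9 zj9) (kj xj9 yj0 zj10) (kj xj9 yj0 zj11) (kj xj8 yj12 zj27) (kj xj7 yj13 zj19) (kj xj7 yj13 zj23) (kj xj7 yj17 zj23) (kj xj8 yj12 zj29) (kj xj7 yj13 zj27) (kj xj8 yj12 zj30) (kj xj9 yj0 zj19) (kj xj10 yj17 zj4) (kj xj7 yj13 zj30) (kj xj10 yj17 zj6) (kj xj9 yj0 zj23) (kj xj9 yj0 zj24) (kj xj7 yj13 zj33) (kj xj10 yj17 zj11) (kj xj7 yj13 zj35) (kj xj10 yj17 zj13) (kj xj7 yj13 zj37) (kj xj10 yj17 zj16) (kj xj10 yj17 zj17) (kj xj9 yj0 zj32) (kj xj9 yj0 zj33) (kj xj7 yj13 zj41) (kj xj7 yj13 zj42) (kj xj10 yj17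 zj22) (kj xj10 yj17 zj23) (kj xj9 yj0 zj38) (kj xj9 yj0 zj39) (kj xj8 yj2 zj11) (kj xj7 yj13 zj47) (kj xj10 yj17 zj29) (kj xj7 yj13 zj49) (kj xj10 yj17 zj30) (kj xj7 yj14 zj0) (kj xj10 yj17 zj33) (kj xj7 yj14 zj2) (kj xj10 yj17 zj36) (kj xj10 yj17 zj37) (kj xj9 yj0 zj50)) (@D3.rec (fun _ => Pt) (kj xj9 yj1 zj0) (kj xj8 yj2 zj23) (kj xj7 yj14 zj6) (kj xj10 yj17 zj43) (kj xj10 yj17 zj44) (kj xj7 yj14 zj8) (kj xj7 yj14 zj9) (kj xj10 yj17 zj48) (kj xj10 yj17 zj49) (kj xj10 yj17 zj50) (kj xj9 yj1 zj10) (kj xj9 yj1 zj11) (kj xj9 yj1 zj12) (kj xj9 yj1 zj13) (kj xj9 yj1 zj14) (kj xj9 yj1 zj15) (kj xj7 yj14 zj15) (kj xj7 yj14 zj16) (kj xj10 yj18 zj12) (kj xj10 yj18 zj13) (kj xj10 yj18 zj14) (kj xj10 yj18 zj18) (kj xj9 yj1 zj22) (kj xj9 yj1 zj23) (kj xj7 yj14 zj20)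 (kj xj10 yj18 zj22) (kj xj9 yj1 zj26) (kj xj8 yj2 zj41) (kj xj7 yj14 zj25) (kj xj7 yj14 zj26) (kj xj10 yj18 zj26) (kj xj10 yj18 zj27) (kj xj10 yj18 zj28) (kj xj7 yj14 zj29) (kj xj7 yj14 zj30) (kj xj8 yj12 zj5) (kj xj10 yj18 zj33) (kj xj9 yj1 zj37) (kj xj8 yj3 zj2) (kj xj8 yj3 zj3) (kj xj7 yj14 zj36) (kj xj7 yj14 zj37) (kj xj7 yj14 zj38) (kj xj8 yj6 zj18) (kj xj7 yj17 zj20) (kj xj10 yj18 zj36) (kj xj10 yj18 zj37) (kj xj10 yj18 zj38) (kj xj7 yj14 zj42) (kj xj7 yj14 zj43) (kj xj8 yj12 zj33)) (@D3.rec (fun _ => Pt) (kj xj10 yj17 zj3) (kj xj9 yj2 zj1) (kj xj9 yj2 zj2) (kj xj9 yj2 zj3) (kj xj10 yj18 zj43) (kj xj7 yj14 zj47) (kj xj10 yj18 zj45) (kj xj9 yj2 zj7) (kj xj9 yj2 zj8) (kj xj7 yj14 zj49) (kj xj10 yj18 zj50) (kj xj7 yj15 zj0) (kj xj10 yj19 zj2) (kj xj10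 yj19 zj3) (kj xj9 yj2 zj14) (kj xj9 yj2 zj15) (kj xj7 yj15 zj4) (kj xj10 yj19 zj8) (kj xj7 yj15 zj5) (kj xj10 yj19 zj11) (kj xj7 yj15 zj7) (kj xj10 yj19 zj14) (kj xj10 yj19 zj15) (kj xj9 yj2 zj23) (kj xj9 yj2 zj24) (kj xj8 yj3 zj33) (kj xj7 yj15 zj11) (kj xj10 yj19 zj21) (kj xj10 yj19 zj22) (kj xj7 yj15 zj13) (kj xj7 yj15 zj14) (kj xj10 yj19 zj26) (kj xj10 yj19 zj27) (kj xj10 yj19 zj28) (kj xj9 yj2 zj34) (kj xj9 yj2 zj35) (kj xj9 yj2 zj36) (kj xj9 yj2 zj37) (kj xj9 yj2 zj38) (kj xj7 yj15 zj20) (kj xj7 yj15 zj21) (kj xj10 yj19 zj39) (kj xj10 yj19 zj40) (kj xj10 yj19 zj41) (kj xj9 yj2 zj44) (kj xj8 yj3 zj44) (kj xj7 yj15 zj26) (kj xj7 yj15 zj27) (kj xj10 yj19 zj47) (kj xj10 yj19 zj48) (kj xj10 yj19 zj49)) (@D3.rec (fun _ => Pt) (kj xj7 yj15 zj30) (kj xj7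 yj15 zj31) (kj xj8 yj11 zj10) (kj xj10 yj20 zj3) (kj xj9 yj3 zj4) (kj xj9 yj3 zj5) (kj xj7 yj15 zj34) (kj xj10 yj20 zj8) (kj xj8 yj4 zj7) (kj xj7 yj15 zj36) (kj xj10 yj20 zj12) (kj xj10 yj20 zj13) (kj xj7 yj15 zj38) (kj xj7 yj15 zj39) (kj xj10 yj20 zj17) (kj xj10 yj20 zj18) (kj xj10 yj20 zj19) (kj xj9 yj3 zj17) (kj xj9 yj3 zj18) (kj xj9 yj3 zj19) (kj xj9 yj3 zj20) (kj xj9 yj3 zj21) (kj xj9 yj3 zj22) (kj xj8 yj4 zj22) (kj xj7 yj15 zj45) (kj xj7 yj15 zj46) (kj xj10 yj20 zj35) (kj xj10 yj20 zj36) (kj xj10 yj20 zj37) (kj xj7 yj15 zj49) (kj xj7 yj15 zj50) (kj xj7 yj16 zj0) (kj xj10 yj20 zj44) (kj xj10 yj20 zj45) (kj xj10 yj20 zj46) (kj xj10 yj20 zj47) (kj xj10 yj20 zj48) (kj xj10 yj20 zj49) (kj xj9 yj3 zj38) (kj xj9 yj3 zj39) (kj xj9 yj3 zj40) (kj xj9 yj3 zj41)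 (kj xj9 yj3 zj42) (kj xj9 yj3 zj43) (kj xj10 yj21 zj16) (kj xj9 yj3 zj45) (kj xj9 yj3 zj46) (kj xj7 yj16 zj9) (kj xj7 yj16 zj10) (kj xj7 yj16 zj11) (kj xj10 yj21 zj23)) (@D3.rec (fun _ => Pt) (kj xj10 yj21 zj21) (kj xj10 yj21 zj22) (kj xj7 yj16 zj12) (kj xj10 yj21 zj27) (kj xj9 yj4 zj4) (kj xj9 yj4 zj5) (kj xj7 yj16 zj16) (kj xj10 yj21 zj31) (kj xj8 yj5 zj2) (kj xj8 yj5 zj3) (kj xj7 yj16 zj21) (kj xj7 yj16 zj22) (kj xj7 yj16 zj23) (kj xj10 yj21 zj35) (kj xj10 yj21 zj36) (kj xj10 yj21 zj37) (kj xj10 yj21 zj38) (kj xj10 yj21 zj39) (kj xj7 yj16 zj26) (kj xj7 yj16 zj27) (kj xj7 yj16 zj28) (kj xj10 yj21 zj47) (kj xj10 yj21 zj48) (kj xj10 yj21 zj49) (kj xj9 yj4 zj24) (kj xj9 yj4 zj25) (kj xj9 yj4 zj26) (kj xj7 yj18 zj36) (kj xj7 yj18 zj35) (kj xj8 yj5 zj21)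 (kj xj7 yj16 zj37) (kj xj7 yj16 zj38) (kj xj7 yj16 zj39) (kj xj7 yj16 zj40) (kj xj7 yj16 zj41) (kj xj10 yj22 zj9) (kj xj10 yj22 zj10) (kj xj10 yj22 zj11) (kj xj8 yj3 zj8) (kj xj10 yj22 zj8) (kj xj10 yj22 zj7) (kj xj10 yj22 zj6) (kj xj7 yj16 zj45) (kj xj7 yj16 zj46) (kj xj7 yj16 zj47) (kj xj10 yj22 zj20) (kj xj10 yj22 zj21) (kj xj10 yj22 zj22) (kj xj9 yj4 zj48) (kj xj9 yj4 zj49) (kj xj9 yj4 zj50)) (@D3.rec (fun _ => Pt) (kj xj7 yj17 zj2) (kj xj10 yj22 zj27) (kj xj8 yj5 zj40) (kj xj7 yj17 zj4) (kj xj10 yj22 zj31) (kj xj7 yj17 zj6) (kj xj8 yj5 zj44) (kj xj7 yj17 zj10) (kj xj7 yj17 zj11) (kj xj8 yj3 zj26) (kj xj8 yj3 zj21) (kj xj8 yj12 zj18) (kj xj10 yj11 zj43) (kj xj7 yj17 zj27) (kj xj10 yj22 zj32) (kj xj8 yj6 zj5) (kj xj7 yj17 zj29) (kj xj10 yj22 zj35) (kj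 xj7 yj17 zj31) (kj xj8 yj6 zj22) (kj xj7 yj17 zj35) (kj xj7 yj17 zj36) (kj xj8 yj7 zj5) (kj xj10 yj22 zj38) (kj xj8 yj11 zj4) (kj xj8 yj6 zj4) (kj xj7 yj17 zj41) (kj xj10 yj22 zj43) (kj xj10 yj22 zj44) (kj xj8 yj6 zj32) (kj xj7 yj17 zj44) (kj xj7 yj17 zj45) (kj xj10 yj22 zj49) (kj xj8 yj5 zj26) (kj xj10 yj22 zj50) (kj xj7 yj17 zj48) (kj xj7 yj17 zj49) (kj xj10 yj23 zj4) (kj xj10 yj23 zj5) (kj xj9 yj5 zj39) (kj xj9 yj5 zj40) (kj xj8 yj6 zj44) (kj xj7 yj18 zj3) (kj xj10 yj23 zj10) (kj xj8 yj7 zj4) (kj xj7 yj18 zj6) (kj xj8 yj11 zj2) (kj xj8 yj7 zj0) (kj xj7 yj18 zj34) (kj xj7 yj18 zj33) (kj xj7 yj18 zj13)) (@D3.rec (fun _ => Pt) (kj xj7 yj18 zj14) (kj xj7 yj18 zj15) (kj xj7 yj18 zj16) (kj xj7 yj18 zj17) (kj xj10 yj23 zj17) (kj xj10 yj23 zj16) (kj xj10 yj23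 zj15) (kj xj10 yj23 zj18) (kj xj10 yj23 zj14) (kj xj10 yj23 zj19) (kj xj10 yj22 zj5) (kj xj7 yj18 zj21) (kj xj7 yj18 zj22) (kj xj7 yj18 zj23) (kj xj10 yj23 zj27) (kj xj10 yj23 zj28) (kj xj10 yj23 zj29) (kj xj9 yj6 zj17) (kj xj9 yj6 zj18) (kj xj9 yj6 zj19) (kj xj7 yj18 zj32) (kj xj10 yj22 zj37) (kj xj10 yj21 zj33) (kj xj10 yj13 zj38) (kj xj10 yj5 zj20) (kj xj7 yj18 zj40) (kj xj7 yj18 zj41) (kj xj7 yj18 zj42) (kj xj10 yj23 zj35) (kj xj10 yj23 zj36) (kj xj10 yj11 zj42) (kj xj7 yj19 zj36) (kj xj7 yj19 zj4) (kj xj8 yj12 zj41) (kj xj10 yj1 zj28) (kj xj7 yj19 zj7) (kj xj10 yj2 zj43) (kj xj7 yj19 zj9) (kj xj10 yj1 zj29) (kj xj7 yj20 zj0) (kj xj10 yj9 zj37) (kj xj7 yj20 zj13) (kj xj7 yj20 zj17) (kj xj7 yj20 zj18) (kj xj8 yj11 zj15) (kj xj7 yj20 zj31) (kj xj7 yj20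 zj33) (kj xj7 yj20 zj36) (kj xj7 yj20 zj37) (kj xj8 yj11 zj14) (kj xj7 yj20 zj41)) (@D3.rec (fun _ => Pt) (kj xj7 yj20 zj42) (kj xj10 yj1 zj25) (kj xj10 yj23 zj37) (kj xj10 yj3 zj37) (kj xj7 yj20 zj48) (kj xj7 yj19 zj40) (kj xj7 yj21 zj1) (kj xj7 yj21 zj2) (kj xj8 yj11 zj42) (kj xj8 yj0 zj47) (kj xj8 yj11 zj43) (kj xj7 yj21 zj8) (kj xj7 yj21 zj9) (kj xj7 yj21 zj10) (kj xj7 yj21 zj14) (kj xj7 yj21 zj15) (kj xj10 yj24 zj9) (kj xj7 yj21 zj17) (kj xj7 yj21 zj28) (kj xj7 yj20 zj2) (kj xj10 yj24 zj11) (kj xj10 yj3 zj2) (kj xj7 yj21 zj26) (kj xj7 yj21 zj27) (kj xj7 yj21 zj40) (kj xj7 yj21 zj41) (kj xj7 yj20 zj34) (kj xj7 yj20 zj35) (kj xj10 yj23 zj38) (kj xj10 yj23 zj39) (kj xj7 yj20 zj14) (kj xj10 yj4 zj19) (kj xj10 yj4 zj0) (kj xj10 yj4 zj21) (kj xj10 yj2 zj12)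 (kj xj10 yj23 zj40) (kj xj7 yj20 zj20) (kj xj10 yj4 zj20) (kj xj10 yj2 zj13) (kj xj10 yj1 zj47) (kj xj7 yj26 zj33) (kj xj7 yj26 zj34) (kj xj10 yj23 zj41) (kj xj10 yj23 zj42) (kj xj8 yj11 zj39) (kj xj10 yj24 zj15) (kj xj10 yj24 zj16) (kj xj10 yj24 zj17) (kj xj10 yj23 zj43) (kj xj10 yj23 zj44) (kj xj7 yj20 zj40)) (@D3.rec (fun _ => Pt) (kj xj8 yj0 zj19) (kj xj8 yj11 zj41) (kj xj10 yj23 zj45) (kj xj10 yj3 zj35) (kj xj7 yj20 zj44) (kj xj10 yj24 zj39) (kj xj10 yj24 zj40) (kj xj7 yj20 zj46) (kj xj7 yj20 zj47) (kj xj10 yj24 zj42) (kj xj10 yj23 zj46) (kj xj8 yj1 zj14) (kj xj8 yj1 zj5) (kj xj8 yj1 zj15) (kj xj7 yj25 zj32) (kj xj10 yj23 zj48) (kj xj10 yj3 zj45) (kj xj7 yj21 zj4) (kj xj10 yj25 zj0) (kj xj10 yj25 zj1) (kj xj7 yj21 zj6) (kj xj7 yj21 zj7) (kj xj10 yj25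 zj5) (kj xj8 yj0 zj44) (kj xj10 yj25 zj6) (kj xj10 yj24 zj2) (kj xj10 yj24 zj3) (kj xj10 yj24 zj4) (kj xj10 yj24 zj5) (kj xj10 yj24 zj6) (kj xj10 yj24 zj7) (kj xj8 yj0 zj43) (kj xj8 yj0 zj45) (kj xj10 yj25 zj23) (kj xj10 yj24 zj8) (kj xj7 yj21 zj16) (kj xj10 yj25 zj25) (kj xj10 yj2 zj45) (kj xj7 yj21 zj20) (kj xj7 yj21 zj21) (kj xj10 yj25 zj27) (kj xj10 yj5 zj2) (kj xj10 yj25 zj28) (kj xj7 yj21 zj24) (kj xj7 yj21 zj25) (kj xj10 yj25 zj33) (kj xj10 yj25 zj34) (kj xj10 yj2 zj50) (kj xj10 yj24 zj13) (kj xj10 yj23 zj50) (kj xj10 yj3 zj4)) (@D3.rec (fun _ => Pt) (kj xj7 yj21 zj34) (kj xj10 yj13 zj21) (kj xj10 yj13 zj34) (kj xj10 yj5 zj16) (kj xj7 yj21 zj37) (kj xj7 yj21 zj38) (kj xj10 yj25 zj41) (kj xj10 yj25 zj42) (kj xj10 yj3 zj6) (kj xj10 yj24 zj14) (kj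 xj7 yj25 zj46) (kj xj7 yj26 zj6) (kj xj10 yj1 zj12) (kj xj10 yj1 zj13) (kj xj10 yj1 zj14) (kj xj9 yj9 zj15) (kj xj9 yj9 zj16) (kj xj9 yj9 zj17) (kj xj7 yj22 zj41) (kj xj7 yj21 zj48) (kj xj10 yj26 zj4) (kj xj7 yj21 zj50) (kj xj10 yj26 zj7) (kj xj10 yj26 zj8) (kj xj9 yj9 zj24) (kj xj10 yj4 zj33) (kj xj7 yj22 zj3) (kj xj10 yj26 zj11) (kj xj10 yj26 zj12) (kj xj7 yj22 zj5) (kj xj7 yj22 zj6) (kj xj10 yj26 zj16) (kj xj10 yj26 zj17) (kj xj9 yj9 zj33) (kj xj9 yj9 zj34) (kj xj9 yj9 zj35) (kj xj7 yj22 zj13) (kj xj10 yj7 zj44) (kj xj10 yj7 zj46) (kj xj7 yj22 zj16) (kj xj7 yj22 zj17) (kj xj10 yj26 zj27) (kj xj10 yj26 zj28) (kj xj10 yj26 zj29) (kj xj9 yj9 zj44) (kj xj9 yj9 zj45) (kj xj9 yj9 zj46) (kj xj10 yj8 zj10) (kj xj10 yj8 zj12) (kj xj10 yj8 zj14) (kj xj7 yj22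 zj26)) (@D3.rec (fun _ => Pt) (kj xj7 yj22 zj27) (kj xj7 yj22 zj28) (kj xj10 yj26 zj39) (kj xj10 yj26 zj40) (kj xj10 yj26 zj41) (kj xj9 yj10 zj5) (kj xj9 yj10 zj6) (kj xj9 yj10 zj7) (kj xj8 yj2 zj15) (kj xj8 yj11 zj50) (kj xj9 yj10 zj10) (kj xj7 yj22 zj34) (kj xj10 yj26 zj50) (kj xj7 yj22 zj36) (kj xj11 yj0 zj2) (kj xj11 yj0 zj3) (kj xj9 yj10 zj16) (kj xj7 yj22 zj40) (kj xj10 yj26 zj3) (kj xj7 yj22 zj43) (kj xj11 yj0 zj8) (kj xj11 yj0 zj9) (kj xj9 yj10 zj22) (kj xj9 yj10 zj23) (kj xj10 yj6 zj9) (kj xj7 yj22 zj47) (kj xj11 yj0 zj15) (kj xj11 yj0 zj16) (kj xj7 yj22 zj49) (kj xj7 yj22 zj50) (kj xj11 yj0 zj20) (kj xj11 yj0 zj21) (kj xj11 yj0 zj22) (kj xj9 yj10 zj33) (kj xj9 yj10 zj34) (kj xj9 yj10 zj35) (kj xj9 yj10 zj36) (kj xj9 yj10 zj37) (kj xj7 yj23 zj5)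 (kj xj7 yj23 zj6) (kj xj11 yj0 zj33) (kj xj11 yj0 zj34) (kj xj10 yj6 zj31) (kj xj7 yj23 zj10) (kj xj7 yj23 zj11) (kj xj11 yj0 zj38) (kj xj11 yj0 zj39) (kj xj11 yj0 zj40) (kj xj7 yj23 zj14) (kj xj7 yj23 zj15) (kj xj11 yj0 zj46)) (@D3.rec (fun _ => Pt) (kj xj11 yj0 zj47) (kj xj11 yj0 zj48) (kj xj9 yj11 zj2) (kj xj9 yj11 zj3) (kj xj9 yj11 zj4) (kj xj8 yj12 zj10) (kj xj10 yj6 zj40) (kj xj7 yj23 zj21) (kj xj11 yj1 zj7) (kj xj11 yj1 zj8) (kj xj7 yj23 zj23) (kj xj7 yj23 zj24) (kj xj11 yj1 zj12) (kj xj8 yj12 zj8) (kj xj11 yj1 zj13) (kj xj9 yj11 zj15) (kj xj9 yj11 zj16) (kj xj9 yj11 zj17) (kj xj9 yj11 zj18) (kj xj9 yj11 zj19) (kj xj9 yj11 zj20) (kj xj10 yj7 zj4) (kj xj7 yj23 zj30) (kj xj7 yj23 zj31) (kj xj11 yj1 zj29) (kj xj11 yj1 zj30) (kj xj11 yj1 zj31) (kj xj7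 yj23 zj34) (kj xj7 yj23 zj35) (kj xj7 yj23 zj36) (kj xj11 yj1 zj38) (kj xj11 yj1 zj39) (kj xj11 yj1 zj40) (kj xj11 yj1 zj41) (kj xj11 yj1 zj42) (kj xj11 yj1 zj43) (kj xj9 yj11 zj36) (kj xj9 yj11 zj37) (kj xj9 yj11 zj38) (kj xj9 yj11 zj39) (kj xj9 yj11 zj40) (kj xj9 yj11 zj41) (kj xj11 yj2 zj11) (kj xj9 yj11 zj43) (kj xj9 yj11 zj44) (kj xj7 yj23 zj45) (kj xj7 yj23 zj46) (kj xj11 yj2 zj15) (kj xj11 yj2 zj14) (kj xj7 yj23 zj47) (kj xj11 yj2 zj17)) (@D3.rec (fun _ => Pt) (kj xj7 yj23 zj50) (kj xj10 yj5 zj6) (kj xj10 yj7 zj40) (kj xj7 yj24 zj3) (kj xj7 yj24 zj4) (kj xj7 yj24 zj5) (kj xj11 yj2 zj20) (kj xj11 yj2 zj21) (kj xj11 yj2 zj22) (kj xj11 yj2 zj23) (kj xj11 yj2 zj24) (kj xj7 yj24 zj8) (kj xj7 yj24 zj9) (kj xj7 yj24 zj10) (kj xj11 yj2 zj32) (kj xj11 yj2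 zj33) (kj xj11 yj2 zj34) (kj xj9 yj12 zj17) (kj xj9 yj12 zj18) (kj xj9 yj12 zj19) (kj xj10 yj5 zj22) (kj xj7 yj24 zj19) (kj xj7 yj24 zj20) (kj xj7 yj24 zj21) (kj xj7 yj24 zj22) (kj xj7 yj24 zj23) (kj xj10 yj22 zj46) (kj xj10 yj22 zj33) (kj xj11 yj2 zj42) (kj xj8 yj6 zj8) (kj xj11 yj2 zj43) (kj xj11 yj2 zj44) (kj xj11 yj2 zj45) (kj xj7 yj24 zj27) (kj xj7 yj24 zj28) (kj xj7 yj24 zj29) (kj xj11 yj3 zj1) (kj xj11 yj3 zj2) (kj xj8 yj9 zj14) (kj xj9 yj12 zj39) (kj xj9 yj12 zj40) (kj xj9 yj12 zj41) (kj xj7 yj26 zj17) (kj xj8 yj0 zj16) (kj xj7 yj26 zj21) (kj xj7 yj26 zj22) (kj xj8 yj11 zj40) (kj xj10 yj4 zj23) (kj xj7 yj26 zj30) (kj xj7 yj26 zj31) (kj xj7 yj24 zj45)) (@D3.rec (fun _ => Pt) (kj xj7 yj26 zj35) (kj xj7 yj26 zj36) (kj xj10 yj4 zj3) (kj xj10 yj4 zj22)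 (kj xj7 yj26 zj42) (kj xj7 yj26 zj43) (kj xj7 yj26 zj44) (kj xj7 yj25 zj2) (kj xj8 yj11 zj38) (kj xj7 yj26 zj49) (kj xj8 yj0 zj7) (kj xj8 yj0 zj8) (kj xj8 yj0 zj20) (kj xj8 yj0 zj21) (kj xj10 yj12 zj3) (kj xj7 yj25 zj13) (kj xj10 yj4 zj4) (kj xj11 yj3 zj26) (kj xj8 yj0 zj27) (kj xj8 yj0 zj28) (kj xj7 yj25 zj17) (kj xj10 yj10 zj23) (kj xj7 yj25 zj19) (kj xj10 yj0 zj34) (kj xj10 yj25 zj45) (kj xj7 yj25 zj22) (kj xj10 yj0 zj35) (kj xj8 yj0 zj39) (kj xj8 yj0 zj40) (kj xj8 yj0 zj46) (kj xj8 yj0 zj48) (kj xj10 yj10 zj39) (kj xj7 yj25 zj30) (kj xj10 yj24 zj47) (kj xj10 yj25 zj37) (kj xj7 yj25 zj33) (kj xj10 yj3 zj27) (kj xj10 yj24 zj48) (kj xj8 yj1 zj7) (kj xj8 yj1 zj8) (kj xj8 yj1 zj9) (kj xj8 yj1 zj10) (kj xj8 yj1 zj11) (kj xj8 yj1 zj12) (kj xj11 yj4 zj2) (kj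 xj8 yj1 zj17) (kj xj7 yj25 zj41) (kj xj8 yj8 zj32) (kj xj10 yj3 zj5) (kj xj7 yj25 zj45) (kj xj10 yj3 zj29)) (@D3.rec (fun _ => Pt) (kj xj10 yj0 zj31) (kj xj10 yj25 zj46) (kj xj7 yj25 zj50) (kj xj10 yj3 zj17) (kj xj10 yj3 zj30) (kj xj10 yj16 zj36) (kj xj8 yj1 zj31) (kj xj8 yj1 zj32) (kj xj8 yj1 zj33) (kj xj7 yj26 zj5) (kj xj10 yj25 zj47) (kj xj8 yj2 zj1) (kj xj7 yj26 zj9) (kj xj7 yj26 zj10) (kj xj10 yj11 zj28) (kj xj11 yj4 zj13) (kj xj10 yj13 zj50) (kj xj8 yj1 zj50) (kj xj8 yj2 zj0) (kj xj8 yj0 zj18) (kj xj8 yj0 zj17) (kj xj7 yj26 zj47) (kj xj11 yj3 zj5) (kj xj11 yj3 zj6) (kj xj7 yj26 zj18) (kj xj11 yj4 zj21) (kj xj7 yj26 zj20) (kj xj11 yj4 zj24) (kj xj11 yj4 zj25) (kj xj11 yj3 zj9) (kj xj11 yj3 zj10) (kj xj7 yj26 zj24) (kj xj10 yj12 zj29) (kj xj7 yj26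 zj26) (kj xj10 yj16 zj27) (kj xj11 yj4 zj30) (kj xj7 yj26 zj29) (kj xj10 yj16 zj19) (kj xj10 yj16 zj33) (kj xj11 yj3 zj11) (kj xj11 yj3 zj12) (kj xj11 yj3 zj13) (kj xj10 yj24 zj26) (kj xj10 yj24 zj27) (kj xj10 yj24 zj28) (kj xj11 yj3 zj14) (kj xj11 yj3 zj7) (kj xj11 yj3 zj15) (kj xj10 yj12 zj48) (kj xj7 yj26 zj38) (kj xj11 yj4 zj47)) (@D3.rec (fun _ => Pt) (kj xj11 yj4 zj48) (kj xj7 yj26 zj40) (kj xj7 yj26 zj41) (kj xj10 yj15 zj32) (kj xj11 yj4 zj18) (kj xj11 yj5 zj1) (kj xj10 yj10 zj44) (kj xj11 yj3 zj17) (kj xj11 yj3 zj18) (kj xj11 yj3 zj19) (kj xj11 yj3 zj20) (kj xj7 yj26 zj48) (kj xj11 yj4 zj17) (kj xj11 yj4 zj19) (kj xj8 yj0 zj2) (kj xj10 yj16 zj12) (kj xj10 yj16 zj28) (kj xj10 yj16 zj29) (kj xj10 yj16 zj20) (kj xj10 yj16 zj34) (kj xj10 yj10 zj26)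 (kj xj10 yj11 zj10) (kj xj11 yj3 zj21) (kj xj10 yj16 zj30) (kj xj10 yj16 zj31) (kj xj10 yj10 zj27) (kj xj10 yj11 zj11) (kj xj10 yj9 zj47) (kj xj11 yj3 zj8) (kj xj8 yj2 zj2) (kj xj10 yj24 zj36) (kj xj10 yj24 zj32) (kj xj10 yj24 zj37) (kj xj11 yj3 zj22) (kj xj11 yj3 zj23) (kj xj10 yj14 zj23) (kj xj8 yj0 zj23) (kj xj11 yj5 zj34) (kj xj11 yj5 zj35) (kj xj8 yj0 zj25) (kj xj8 yj0 zj26) (kj xj10 yj4 zj1) (kj xj11 yj5 zj39) (kj xj10 yj10 zj45) (kj xj11 yj3 zj28) (kj xj11 yj3 zj29) (kj xj10 yj14 zj43) (kj xj8 yj0 zj32) (kj xj8 yj0 zj33) (kj xj10 yj4 zj9) (kj xj10 yj0 zj48)) (@D3.rec (fun _ => Pt) (kj xj11 yj5 zj47) (kj xj8 yj0 zj37) (kj xj10 yj4 zj10) (kj xj11 yj6 zj0) (kj xj10 yj10 zj19) (kj xj10 yj11 zj2) (kj xj11 yj3 zj33) (kj xj10 yj15 zj8) (kj xj10 yj25 zj10)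 (kj xj10 yj25 zj22) (kj xj10 yj25 zj8) (kj xj10 yj25 zj11) (kj xj11 yj3 zj34) (kj xj10 yj24 zj0) (kj xj11 yj3 zj35) (kj xj10 yj23 zj49) (kj xj10 yj24 zj1) (kj xj11 yj3 zj36) (kj xj10 yj15 zj23) (kj xj8 yj1 zj0) (kj xj8 yj1 zj1) (kj xj11 yj6 zj20) (kj xj11 yj6 zj21) (kj xj11 yj6 zj22) (kj xj8 yj1 zj4) (kj xj8 yj1 zj6) (kj xj11 yj6 zj29) (kj xj10 yj3 zj25) (kj xj11 yj6 zj30) (kj xj10 yj24 zj44) (kj xj10 yj24 zj46) (kj xj11 yj6 zj31) (kj xj11 yj3 zj44) (kj xj11 yj3 zj45) (kj xj11 yj3 zj46) (kj xj11 yj3 zj47) (kj xj11 yj3 zj48) (kj xj11 yj3 zj49) (kj xj11 yj6 zj50) (kj xj11 yj4 zj0) (kj xj11 yj4 zj1) (kj xj11 yj7 zj2) (kj xj10 yj24 zj45) (kj xj8 yj1 zj16) (kj xj11 yj7 zj4) (kj xj8 yj1 zj19) (kj xj10 yj13 zj37) (kj xj10 yj16 zj8) (kj xj8 yj1 zj23) (kj xj8 yj1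 zj24) (kj xj8 yj1 zj25)) (@D3.rec (fun _ => Pt) (kj xj11 yj7 zj7) (kj xj10 yj6 zj22) (kj xj11 yj7 zj8) (kj xj11 yj7 zj9) (kj xj11 yj7 zj10) (kj xj8 yj1 zj28) (kj xj8 yj1 zj29) (kj xj8 yj1 zj30) (kj xj10 yj13 zj16) (kj xj11 yj7 zj18) (kj xj11 yj7 zj19) (kj xj11 yj4 zj9) (kj xj11 yj4 zj10) (kj xj11 yj4 zj11) (kj xj10 yj13 zj39) (kj xj8 yj1 zj39) (kj xj8 yj1 zj40) (kj xj8 yj1 zj41) (kj xj8 yj1 zj42) (kj xj8 yj1 zj43) (kj xj11 yj7 zj27) (kj xj11 yj7 zj28) (kj xj11 yj7 zj29) (kj xj8 yj6 zj7) (kj xj11 yj7 zj30) (kj xj11 yj7 zj31) (kj xj11 yj3 zj0) (kj xj8 yj1 zj47) (kj xj8 yj1 zj48) (kj xj8 yj1 zj49) (kj xj11 yj7 zj39) (kj xj11 yj7 zj40) (kj xj10 yj13 zj47) (kj xj11 yj4 zj16) (kj xj11 yj4 zj6) (kj xj11 yj4 zj12) (kj xj10 yj17 zj12) (kj xj8 yj2 zj5) (kj xj11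 yj7 zj49) (kj xj11 yj7 zj50) (kj xj8 yj2 zj7) (kj xj8 yj2 zj8) (kj xj11 yj8 zj2) (kj xj9 yj17 zj43) (kj xj10 yj17 zj28) (kj xj8 yj2 zj13) (kj xj10 yj26 zj48) (kj xj10 yj17 zj32) (kj xj8 yj2 zj17) (kj xj11 yj8 zj8) (kj xj11 yj8 zj9)) (@D3.rec (fun _ => Pt) (kj xj8 yj2 zj19) (kj xj8 yj2 zj20) (kj xj11 yj8 zj12) (kj xj11 yj8 zj13) (kj xj9 yj18 zj4) (kj xj9 yj18 zj5) (kj xj10 yj17 zj42) (kj xj8 yj2 zj25) (kj xj8 yj2 zj26) (kj xj11 yj8 zj20) (kj xj11 yj8 zj21) (kj xj11 yj8 zj22) (kj xj8 yj2 zj29) (kj xj8 yj2 zj30) (kj xj8 yj2 zj31) (kj xj11 yj8 zj29) (kj xj11 yj8 zj30) (kj xj11 yj8 zj31) (kj xj11 yj8 zj32) (kj xj11 yj8 zj33) (kj xj11 yj8 zj34) (kj xj9 yj18 zj21) (kj xj9 yj18 zj22) (kj xj9 yj18 zj23) (kj xj9 yj18 zj24) (kj xj9 yj18 zj25) (kj xj8 yj2 zj39) (kj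 xj8 yj2 zj40) (kj xj11 yj8 zj46) (kj xj10 yj18 zj24) (kj xj10 yj18 zj25) (kj xj8 yj2 zj44) (kj xj8 yj2 zj45) (kj xj8 yj2 zj46) (kj xj11 yj8 zj49) (kj xj11 yj8 zj50) (kj xj11 yj9 zj0) (kj xj11 yj9 zj1) (kj xj8 yj2 zj49) (kj xj8 yj2 zj50) (kj xj11 yj9 zj7) (kj xj11 yj9 zj8) (kj xj9 yj18 zj42) (kj xj10 yj18 zj35) (kj xj8 yj3 zj7) (kj xj8 yj3 zj9) (kj xj8 yj3 zj10) (kj xj8 yj3 zj11) (kj xj10 yj22 zj42) (kj xj10 yj22 zj14) (kj xj11 yj9 zj10)) (@D3.rec (fun _ => Pt) (kj xj10 yj22 zj17) (kj xj11 yj7 zj37) (kj xj11 yj2 zj49) (kj xj8 yj3 zj15) (kj xj8 yj3 zj16) (kj xj8 yj3 zj17) (kj xj11 yj9 zj14) (kj xj11 yj9 zj15) (kj xj8 yj9 zj12) (kj xj9 yj19 zj9) (kj xj9 yj19 zj10) (kj xj9 yj19 zj11) (kj xj10 yj18 zj30) (kj xj8 yj3 zj23) (kj xj11 yj9 zj19) (kj xj10 yj18 zj49)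 (kj xj10 yj18 zj29) (kj xj10 yj19 zj10) (kj xj8 yj3 zj28) (kj xj11 yj9 zj22) (kj xj11 yj9 zj23) (kj xj8 yj3 zj30) (kj xj8 yj3 zj31) (kj xj11 yj9 zj26) (kj xj9 yj19 zj24) (kj xj10 yj19 zj20) (kj xj8 yj3 zj35) (kj xj8 yj3 zj36) (kj xj11 yj9 zj30) (kj xj11 yj9 zj31) (kj xj11 yj9 zj32) (kj xj8 yj3 zj39) (kj xj8 yj3 zj40) (kj xj11 yj9 zj38) (kj xj11 yj9 zj39) (kj xj11 yj9 zj40) (kj xj9 yj19 zj36) (kj xj9 yj19 zj37) (kj xj9 yj19 zj38) (kj xj10 yj19 zj45) (kj xj10 yj19 zj46) (kj xj8 yj3 zj47) (kj xj8 yj3 zj48) (kj xj8 yj3 zj49) (kj xj11 yj9 zj48) (kj xj11 yj9 zj49) (kj xj11 yj9 zj50) (kj xj11 yj10 zj0) (kj xj8 yj4 zj1) (kj xj8 yj4 zj2) (kj xj11 yj10 zj6)) (@D3.rec (fun _ => Pt) (kj xj11 yj10 zj7) (kj xj9 yj20 zj1) (kj xj10 yj20 zj7) (kj xj8 yj4 zj6) (kj xj11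 yj1 zj17) (kj xj11 yj10 zj9) (kj xj10 yj20 zj11) (kj xj8 yj4 zj9) (kj xj8 yj4 zj10) (kj xj11 yj10 zj15) (kj xj11 yj10 zj16) (kj xj11 yj10 zj17) (kj xj8 yj4 zj13) (kj xj8 yj4 zj14) (kj xj8 yj4 zj15) (kj xj11 yj10 zj24) (kj xj11 yj10 zj25) (kj xj11 yj10 zj26) (kj xj11 yj1 zj4) (kj xj11 yj10 zj27) (kj xj11 yj10 zj28) (kj xj9 yj20 zj21) (kj xj9 yj20 zj22) (kj xj9 yj20 zj23) (kj xj9 yj20 zj24) (kj xj9 yj20 zj25) (kj xj9 yj20 zj26) (kj xj11 yj10 zj44) (kj xj9 yj20 zj28) (kj xj9 yj20 zj29) (kj xj10 yj20 zj33) (kj xj10 yj20 zj34) (kj xj8 yj4 zj25) (kj xj8 yj4 zj26) (kj xj8 yj4 zj27) (kj xj11 yj10 zj50) (kj xj11 yj11 zj0) (kj xj11 yj11 zj1) (kj xj11 yj11 zj2) (kj xj11 yj11 zj3) (kj xj11 yj11 zj4) (kj xj8 yj4 zj31) (kj xj8 yj4 zj32) (kj xj8 yj4 zj33) (kj xj8 yj4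 zj34) (kj xj8 yj4 zj35) (kj xj8 yj4 zj36) (kj xj11 yj11 zj15) (kj xj11 yj11 zj16) (kj xj11 yj11 zj17) (kj xj11 yj11 zj18)) (@D3.rec (fun _ => Pt) (kj xj11 yj11 zj19) (kj xj11 yj11 zj20) (kj xj11 yj11 zj33) (kj xj11 yj11 zj22) (kj xj11 yj11 zj23) (kj xj9 yj21 zj5) (kj xj9 yj21 zj6) (kj xj9 yj21 zj7) (kj xj9 yj21 zj8) (kj xj9 yj21 zj9) (kj xj11 yj11 zj42) (kj xj9 yj21 zj11) (kj xj9 yj21 zj12) (kj xj9 yj21 zj13) (kj xj8 yj4 zj43) (kj xj11 yj11 zj47) (kj xj9 yj21 zj16) (kj xj11 yj11 zj49) (kj xj8 yj4 zj49) (kj xj8 yj4 zj48) (kj xj11 yj12 zj0) (kj xj8 yj5 zj0) (kj xj10 yj21 zj32) (kj xj10 yj21 zj34) (kj xj8 yj5 zj7) (kj xj8 yj5 zj8) (kj xj8 yj5 zj9) (kj xj8 yj5 zj10) (kj xj8 yj5 zj11) (kj xj10 yj23 zj1) (kj xj8 yj7 zj6) (kj xj11 yj12 zj2) (kj xj11 yj12 zj3)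 (kj xj11 yj12 zj4) (kj xj11 yj12 zj5) (kj xj8 yj5 zj28) (kj xj8 yj5 zj15) (kj xj8 yj5 zj16) (kj xj8 yj5 zj17) (kj xj11 yj12 zj11) (kj xj8 yj10 zj43) (kj xj11 yj12 zj12) (kj xj9 yj21 zj42) (kj xj9 yj21 zj43) (kj xj9 yj21 zj44) (kj xj10 yj23 zj3) (kj xj8 yj5 zj32) (kj xj8 yj9 zj39) (kj xj8 yj8 zj46) (kj xj10 yj22 zj26) (kj xj8 yj5 zj39)) (@D3.rec (fun _ => Pt) (kj xj10 yj16 zj45) (kj xj11 yj12 zj17) (kj xj10 yj22 zj30) (kj xj8 yj5 zj42) (kj xj10 yj18 zj42) (kj xj8 yj6 zj6) (kj xj8 yj5 zj47) (kj xj8 yj5 zj48) (kj xj8 yj5 zj50) (kj xj11 yj7 zj34) (kj xj8 yj6 zj12) (kj xj8 yj6 zj13) (kj xj11 yj12 zj20) (kj xj8 yj9 zj10) (kj xj10 yj5 zj19) (kj xj10 yj18 zj39) (kj xj8 yj6 zj20) (kj xj10 yj22 zj36) (kj xj8 yj6 zj25) (kj xj8 yj6 zj26) (kj xj10 yj23 zj12) (kj xj10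 yj23 zj11) (kj xj10 yj22 zj39) (kj xj8 yj6 zj28) (kj xj8 yj6 zj30) (kj xj8 yj6 zj31) (kj xj11 yj12 zj24) (kj xj11 yj12 zj25) (kj xj11 yj12 zj26) (kj xj10 yj22 zj12) (kj xj10 yj22 zj48) (kj xj8 yj6 zj35) (kj xj8 yj6 zj36) (kj xj8 yj6 zj37) (kj xj11 yj12 zj34) (kj xj11 yj12 zj35) (kj xj11 yj12 zj36) (kj xj11 yj12 zj37) (kj xj8 yj6 zj40) (kj xj8 yj6 zj41) (kj xj11 yj12 zj43) (kj xj11 yj12 zj44) (kj xj9 yj22 zj42) (kj xj10 yj23 zj9) (kj xj8 yj6 zj47) (kj xj8 yj6 zj48) (kj xj10 yj23 zj13) (kj xj10 yj22 zj41) (kj xj10 yj22 zj40) (kj xj8 yj6 zj50) (kj xj10 yj19 zj50)) (@D3.rec (fun _ => Pt) (kj xj11 yj12 zj7) (kj xj8 yj7 zj11) (kj xj8 yj9 zj37) (kj xj8 yj10 zj42) (kj xj11 yj12 zj49) (kj xj10 yj0 zj36) (kj xj8 yj8 zj15) (kj xj8 yj8 zj28) (kj xj8 yj8 zj29) (kj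 xj8 yj8 zj30) (kj xj8 yj8 zj31) (kj xj8 yj8 zj34) (kj xj8 yj8 zj35) (kj xj8 yj7 zj28) (kj xj10 yj0 zj32) (kj xj10 yj0 zj33) (kj xj8 yj7 zj36) (kj xj10 yj3 zj18) (kj xj10 yj3 zj31) (kj xj8 yj9 zj3) (kj xj8 yj9 zj4) (kj xj8 yj9 zj5) (kj xj8 yj7 zj45) (kj xj8 yj7 zj46) (kj xj8 yj7 zj47) (kj xj10 yj3 zj19) (kj xj10 yj11 zj17) (kj xj11 yj13 zj8) (kj xj11 yj7 zj47) (kj xj8 yj8 zj1) (kj xj8 yj8 zj2) (kj xj10 yj11 zj31) (kj xj11 yj13 zj13) (kj xj11 yj13 zj14) (kj xj8 yj9 zj21) (kj xj8 yj9 zj22) (kj xj8 yj9 zj23) (kj xj10 yj1 zj42) (kj xj10 yj0 zj49) (kj xj10 yj0 zj50) (kj xj8 yj8 zj12) (kj xj10 yj4 zj11) (kj xj10 yj10 zj20) (kj xj10 yj11 zj3) (kj xj11 yj13 zj0) (kj xj10 yj1 zj50) (kj xj8 yj11 zj13) (kj xj10 yj1 zj35) (kj xj10 yj1 zj33) (kj xj8 yj11 zj37) (kj xj10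 yj1 zj24)) (@D3.rec (fun _ => Pt) (kj xj10 yj3 zj13) (kj xj10 yj3 zj16) (kj xj10 yj3 zj24) (kj xj10 yj3 zj26) (kj xj10 yj24 zj38) (kj xj10 yj3 zj36) (kj xj8 yj8 zj41) (kj xj10 yj10 zj2) (kj xj10 yj10 zj5) (kj xj10 yj9 zj18) (kj xj11 yj13 zj1) (kj xj10 yj24 zj10) (kj xj10 yj2 zj26) (kj xj11 yj13 zj2) (kj xj11 yj4 zj3) (kj xj10 yj11 zj8) (kj xj8 yj8 zj33) (kj xj10 yj24 zj43) (kj xj10 yj23 zj47) (kj xj8 yj8 zj39) (kj xj8 yj8 zj38) (kj xj11 yj13 zj32) (kj xj8 yj8 zj47) (kj xj10 yj5 zj45) (kj xj10 yj5 zj46) (kj xj10 yj6 zj16) (kj xj10 yj6 zj23) (kj xj10 yj6 zj24) (kj xj11 yj3 zj4) (kj xj8 yj9 zj1) (kj xj8 yj9 zj2) (kj xj10 yj13 zj19) (kj xj11 yj13 zj49) (kj xj10 yj16 zj7) (kj xj11 yj13 zj5) (kj xj11 yj13 zj6) (kj xj11 yj13 zj7) (kj xj8 yj9 zj11) (kj xj8 yj9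 zj13) (kj xj10 yj16 zj48) (kj xj10 yj17 zj0) (kj xj11 yj9 zj17) (kj xj11 yj14 zj6) (kj xj10 yj26 zj44) (kj xj11 yj14 zj7) (kj xj8 yj9 zj18) (kj xj8 yj9 zj19) (kj xj8 yj9 zj20) (kj xj11 yj14 zj13) (kj xj11 yj14 zj14) (kj xj11 yj14 zj15)) (@D3.rec (fun _ => Pt) (kj xj11 yj13 zj18) (kj xj11 yj13 zj19) (kj xj11 yj13 zj20) (kj xj11 yj13 zj12) (kj xj10 yj1 zj7) (kj xj10 yj1 zj8) (kj xj10 yj1 zj9) (kj xj8 yj9 zj28) (kj xj8 yj9 zj29) (kj xj8 yj9 zj30) (kj xj11 yj14 zj28) (kj xj11 yj14 zj29) (kj xj11 yj14 zj30) (kj xj9 yj25 zj13) (kj xj9 yj25 zj14) (kj xj9 yj25 zj15) (kj xj8 yj9 zj36) (kj xj8 yj9 zj38) (kj xj8 yj11 zj5) (kj xj10 yj23 zj6) (kj xj11 yj14 zj37) (kj xj10 yj7 zj14) (kj xj11 yj12 zj13) (kj xj8 yj10 zj46) (kj xj8 yj9 zj44) (kj xj8 yj9 zj45) (kj xj8 yj9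 zj46) (kj xj11 yj14 zj41) (kj xj11 yj14 zj38) (kj xj11 yj14 zj45) (kj xj9 yj25 zj30) (kj xj9 yj25 zj31) (kj xj9 yj25 zj32) (kj xj8 yj10 zj3) (kj xj8 yj10 zj6) (kj xj8 yj11 zj6) (kj xj8 yj11 zj11) (kj xj8 yj10 zj47) (kj xj10 yj6 zj15) (kj xj10 yj6 zj33) (kj xj10 yj6 zj35) (kj xj11 yj14 zj48) (kj xj11 yj0 zj36) (kj xj10 yj6 zj34) (kj xj10 yj6 zj36) (kj xj8 yj10 zj13) (kj xj8 yj10 zj14) (kj xj8 yj10 zj15) (kj xj8 yj10 zj16) (kj xj8 yj10 zj17) (kj xj8 yj10 zj18)) (@D3.rec (fun _ => Pt) (kj xj8 yj10 zj20) (kj xj8 yj10 zj21) (kj xj11 yj15 zj12) (kj xj11 yj14 zj44) (kj xj11 yj15 zj13) (kj xj11 yj15 zj14) (kj xj11 yj15 zj8) (kj xj11 yj15 zj24) (kj xj11 yj15 zj15) (kj xj11 yj15 zj16) (kj xj11 yj15 zj1) (kj xj8 yj10 zj19) (kj xj11 yj15 zj29) (kj xj11 yj15 zj17)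 (kj xj9 yj26 zj14) (kj xj9 yj26 zj15) (kj xj9 yj26 zj16) (kj xj11 yj15 zj34) (kj xj9 yj26 zj18) (kj xj9 yj26 zj19) (kj xj9 yj26 zj20) (kj xj8 yj10 zj27) (kj xj11 yj15 zj38) (kj xj9 yj26 zj23) (kj xj9 yj26 zj24) (kj xj9 yj26 zj25) (kj xj8 yj10 zj32) (kj xj11 yj15 zj11) (kj xj8 yj10 zj34) (kj xj11 yj15 zj42) (kj xj8 yj10 zj37) (kj xj10 yj19 zj29) (kj xj11 yj12 zj14) (kj xj11 yj15 zj0) (kj xj10 yj20 zj4) (kj xj11 yj14 zj25) (kj xj11 yj14 zj49) (kj xj10 yj20 zj5) (kj xj11 yj14 zj50) (kj xj8 yj11 zj16) (kj xj8 yj11 zj24) (kj xj8 yj11 zj20) (kj xj8 yj12 zj0) (kj xj8 yj12 zj6) (kj xj8 yj12 zj11) (kj xj8 yj12 zj9) (kj xj8 yj11 zj33) (kj xj10 yj2 zj49) (kj xj8 yj11 zj44) (kj xj8 yj11 zj45) (kj xj8 yj12 zj3))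
def f_j_10 : D2 → D3 → Pt := @D2.rec (fun _ => D3 → Pt) (@D3.rec (fun _ => Pt) (kj xj8 yj11 zj49) (kj xj10 yj18 zj1) (kj xj10 yj26 zj49) (kj xj8 yj12 zj19) (kj xj10 yj18 zj0) (kj xj10 yj18 zj34) (kj xj11 yj1 zj15) (kj xj11 yj1 zj18) (kj xj11 yj16 zj3) (kj xj11 yj1 zj5) (kj xj8 yj12 zj12) (kj xj11 yj16 zj5) (kj xj8 yj12 zj14) (kj xj8 yj12 zj16) (kj xj10 yj16 zj39) (kj xj10 yj18 zj40) (kj xj8 yj12 zj23) (kj xj10 yj16 zj46) (kj xj10 yj5 zj10) (kj xj10 yj5 zj26) (kj xj8 yj12 zj37) (kj xj8 yj12 zj38) (kj xj11 yj15 zj31) (kj xj11 yj16 zj10) (kj xj11 yj16 zj11) (kj xj10 yj1 zj26) (kj xj8 yj12 zj46) (kj xj8 yj12 zj47) (kj xj8 yj13 zj5) (kj xj8 yj13 zj6) (kj xj8 yj13 zj7) (kj xj9 yj14 zj0) (kj xj9 yj23 zj14) (kj xj9 yj23 zj15) (kj xj9 yj13 zj23) (kj xj9 yj13 zj26)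 (kj xj9 yj23 zj5) (kj xj11 yj16 zj23) (kj xj11 yj16 zj15) (kj xj11 yj16 zj16) (kj xj10 yj0 zj40) (kj xj10 yj0 zj41) (kj xj10 yj0 zj42) (kj xj10 yj0 zj43) (kj xj11 yj16 zj29) (kj xj10 yj0 zj45) (kj xj10 yj0 zj46) (kj xj10 yj0 zj47) (kj xj9 yj15 zj50) (kj xj9 yj23 zj38) (kj xj9 yj23 zj39)) (@D3.rec (fun _ => Pt) (kj xj11 yj16 zj36) (kj xj10 yj1 zj1) (kj xj10 yj1 zj2) (kj xj8 yj13 zj22) (kj xj11 yj16 zj39) (kj xj10 yj1 zj5) (kj xj10 yj1 zj6) (kj xj9 yj25 zj4) (kj xj9 yj25 zj5) (kj xj9 yj25 zj6) (kj xj10 yj1 zj10) (kj xj10 yj1 zj11) (kj xj9 yj9 zj12) (kj xj9 yj9 zj13) (kj xj9 yj9 zj14) (kj xj8 yj13 zj34) (kj xj8 yj13 zj35) (kj xj8 yj13 zj36) (kj xj11 yj16 zj49) (kj xj11 yj16 zj50) (kj xj11 yj17 zj0) (kj xj10 yj1 zj21) (kj xj10 yj1 zj22) (kj xj10 yj1 zj23)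 (kj xj9 yj23 zj50) (kj xj9 yj7 zj1) (kj xj10 yj0 zj25) (kj xj8 yj13 zj46) (kj xj9 yj6 zj34) (kj xj9 yj6 zj38) (kj xj8 yj14 zj43) (kj xj8 yj14 zj4) (kj xj8 yj14 zj5) (kj xj9 yj23 zj48) (kj xj8 yj15 zj7) (kj xj9 yj23 zj47) (kj xj8 yj14 zj10) (kj xj11 yj17 zj9) (kj xj8 yj15 zj11) (kj xj8 yj15 zj12) (kj xj8 yj14 zj13) (kj xj11 yj17 zj15) (kj xj9 yj23 zj37) (kj xj8 yj15 zj16) (kj xj8 yj15 zj17) (kj xj8 yj15 zj18) (kj xj8 yj14 zj19) (kj xj9 yj7 zj39) (kj xj8 yj15 zj24) (kj xj8 yj15 zj25) (kj xj9 yj23 zj45)) (@D3.rec (fun _ => Pt) (kj xj8 yj15 zj40) (kj xj8 yj15 zj44) (kj xj8 yj15 zj46) (kj xj8 yj16 zj0) (kj xj8 yj16 zj1) (kj xj8 yj16 zj5) (kj xj8 yj16 zj6) (kj xj8 yj16 zj7) (kj xj8 yj14 zj41) (kj xj11 yj17 zj28) (kj xj8 yj16 zj15) (kj xj8 yj16 zj16) (kj xj9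 yj7 zj34) (kj xj9 yj7 zj38) (kj xj8 yj16 zj22) (kj xj8 yj16 zj23) (kj xj8 yj16 zj24) (kj xj8 yj16 zj28) (kj xj8 yj16 zj29) (kj xj8 yj16 zj30) (kj xj11 yj17 zj41) (kj xj8 yj16 zj32) (kj xj8 yj16 zj33) (kj xj8 yj16 zj42) (kj xj11 yj17 zj44) (kj xj8 yj15 zj6) (kj xj9 yj24 zj12) (kj xj11 yj17 zj7) (kj xj11 yj17 zj8) (kj xj8 yj15 zj8) (kj xj11 yj18 zj1) (kj xj8 yj15 zj10) (kj xj11 yj18 zj4) (kj xj11 yj18 zj5) (kj xj11 yj17 zj12) (kj xj11 yj17 zj13) (kj xj11 yj17 zj14) (kj xj8 yj15 zj14) (kj xj8 yj15 zj15) (kj xj11 yj18 zj14) (kj xj11 yj18 zj15) (kj xj11 yj17 zj18) (kj xj11 yj17 zj19) (kj xj9 yj6 zj36) (kj xj8 yj15 zj20) (kj xj9 yj8 zj37) (kj xj11 yj18 zj20) (kj xj8 yj15 zj22) (kj xj8 yj15 zj23) (kj xj9 yj26 zj47) (kj xj9 yj8 zj47)) (@D3.rec (fun _ => Pt) (kj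 xj8 yj22 zj3) (kj xj11 yj17 zj20) (kj xj9 yj7 zj21) (kj xj8 yj15 zj30) (kj xj9 yj8 zj50) (kj xj9 yj13 zj48) (kj xj9 yj9 zj8) (kj xj8 yj21 zj41) (kj xj8 yj22 zj20) (kj xj8 yj21 zj14) (kj xj11 yj18 zj32) (kj xj11 yj18 zj33) (kj xj8 yj15 zj39) (kj xj9 yj24 zj0) (kj xj11 yj17 zj21) (kj xj11 yj17 zj22) (kj xj9 yj24 zj1) (kj xj9 yj14 zj3) (kj xj9 yj23 zj17) (kj xj9 yj23 zj25) (kj xj11 yj17 zj23) (kj xj11 yj18 zj0) (kj xj8 yj15 zj47) (kj xj8 yj15 zj48) (kj xj9 yj24 zj2) (kj xj9 yj16 zj27) (kj xj9 yj24 zj3) (kj xj9 yj13 zj36) (kj xj11 yj17 zj24) (kj xj9 yj13 zj50) (kj xj9 yj14 zj4) (kj xj9 yj23 zj18) (kj xj11 yj19 zj0) (kj xj11 yj17 zj26) (kj xj11 yj17 zj27) (kj xj9 yj8 zj3) (kj xj9 yj24 zj5) (kj xj9 yj7 zj3) (kj xj8 yj16 zj12) (kj xj11 yj19 zj3) (kj xj8 yj16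 zj14) (kj xj11 yj19 zj6) (kj xj11 yj19 zj7) (kj xj11 yj17 zj31) (kj xj11 yj17 zj32) (kj xj9 yj8 zj16) (kj xj8 yj16 zj18) (kj xj11 yj19 zj13) (kj xj11 yj19 zj14) (kj xj8 yj16 zj20) (kj xj8 yj16 zj21)) (@D3.rec (fun _ => Pt) (kj xj9 yj7 zj32) (kj xj9 yj15 zj41) (kj xj11 yj19 zj18) (kj xj9 yj13 zj2) (kj xj9 yj13 zj16) (kj xj11 yj17 zj34) (kj xj11 yj17 zj35) (kj xj11 yj17 zj36) (kj xj11 yj17 zj37) (kj xj9 yj15 zj49) (kj xj9 yj16 zj2) (kj xj9 yj23 zj41) (kj xj11 yj19 zj33) (kj xj11 yj17 zj39) (kj xj11 yj17 zj40) (kj xj8 yj16 zj31) (kj xj11 yj19 zj37) (kj xj11 yj17 zj43) (kj xj8 yj16 zj37) (kj xj9 yj7 zj31) (kj xj9 yj7 zj37) (kj xj9 yj7 zj33) (kj xj9 yj13 zj3) (kj xj9 yj12 zj47) (kj xj11 yj19 zj40) (kj xj8 yj16 zj48) (kj xj11 yj19 zj43) (kj xj8 yj16 zj50) (kj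 xj11 yj19 zj46) (kj xj11 yj19 zj47) (kj xj10 yj4 zj30) (kj xj10 yj4 zj31) (kj xj10 yj4 zj32) (kj xj9 yj9 zj25) (kj xj8 yj17 zj3) (kj xj11 yj20 zj4) (kj xj11 yj20 zj5) (kj xj8 yj17 zj5) (kj xj8 yj17 zj6) (kj xj11 yj20 zj9) (kj xj11 yj20 zj10) (kj xj11 yj20 zj11) (kj xj10 yj4 zj42) (kj xj10 yj4 zj43) (kj xj10 yj4 zj44) (kj xj10 yj4 zj45) (kj xj10 yj4 zj46) (kj xj8 yj17 zj12) (kj xj8 yj17 zj13) (kj xj11 yj20 zj22) (kj xj11 yj20 zj23)) (@D3.rec (fun _ => Pt) (kj xj11 yj20 zj24) (kj xj10 yj5 zj1) (kj xj9 yj8 zj41) (kj xj8 yj17 zj18) (kj xj8 yj17 zj19) (kj xj11 yj20 zj29) (kj xj9 yj12 zj1) (kj xj11 yj20 zj30) (kj xj8 yj17 zj22) (kj xj8 yj17 zj23) (kj xj10 yj0 zj18) (kj xj11 yj20 zj36) (kj xj11 yj20 zj37) (kj xj10 yj5 zj13) (kj xj10 yj5 zj14) (kj xj10 yj5 zj15)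 (kj xj9 yj9 zj3) (kj xj8 yj17 zj30) (kj xj8 yj17 zj32) (kj xj9 yj22 zj14) (kj xj9 yj6 zj24) (kj xj11 yj20 zj43) (kj xj9 yj12 zj20) (kj xj11 yj20 zj44) (kj xj8 yj17 zj36) (kj xj8 yj17 zj37) (kj xj10 yj0 zj19) (kj xj11 yj20 zj50) (kj xj10 yj5 zj28) (kj xj10 yj5 zj29) (kj xj10 yj5 zj30) (kj xj11 yj21 zj5) (kj xj8 yj17 zj41) (kj xj11 yj21 zj7) (kj xj10 yj5 zj34) (kj xj10 yj5 zj35) (kj xj8 yj17 zj43) (kj xj11 yj21 zj12) (kj xj8 yj17 zj45) (kj xj11 yj21 zj15) (kj xj11 yj21 zj16) (kj xj10 yj5 zj41) (kj xj10 yj5 zj42) (kj xj10 yj5 zj43) (kj xj8 yj17 zj50) (kj xj9 yj24 zj23) (kj xj9 yj24 zj24) (kj xj10 yj5 zj47) (kj xj10 yj5 zj48) (kj xj10 yj5 zj49) (kj xj10 yj5 zj50)) (@D3.rec (fun _ => Pt) (kj xj11 yj19 zj42) (kj xj8 yj18 zj5) (kj xj11 yj21 zj29) (kj xj8 yj18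 zj7) (kj xj11 yj21 zj32) (kj xj11 yj21 zj33) (kj xj10 yj6 zj6) (kj xj10 yj6 zj7) (kj xj10 yj6 zj8) (kj xj9 yj10 zj24) (kj xj8 yj18 zj11) (kj xj11 yj21 zj41) (kj xj11 yj21 zj42) (kj xj8 yj18 zj13) (kj xj8 yj18 zj14) (kj xj9 yj25 zj38) (kj xj9 yj24 zj25) (kj xj11 yj21 zj46) (kj xj10 yj6 zj18) (kj xj10 yj6 zj19) (kj xj10 yj6 zj20) (kj xj10 yj6 zj21) (kj xj9 yj17 zj1) (kj xj9 yj24 zj26) (kj xj9 yj24 zj27) (kj xj11 yj22 zj7) (kj xj10 yj6 zj26) (kj xj10 yj6 zj27) (kj xj8 yj18 zj24) (kj xj11 yj22 zj11) (kj xj10 yj6 zj30) (kj xj9 yj10 zj42) (kj xj8 yj18 zj30) (kj xj9 yj25 zj39) (kj xj9 yj25 zj43) (kj xj9 yj25 zj40) (kj xj9 yj25 zj44) (kj xj10 yj6 zj37) (kj xj8 yj18 zj36) (kj xj11 yj22 zj18) (kj xj9 yj11 zj6) (kj xj8 yj18 zj38) (kj xj11 yj22 zj22) (kj xj11 yj22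 zj23) (kj xj8 yj18 zj40) (kj xj8 yj18 zj41) (kj xj11 yj22 zj27) (kj xj11 yj22 zj28) (kj xj11 yj22 zj29) (kj xj10 yj6 zj49) (kj xj10 yj6 zj50)) (@D3.rec (fun _ => Pt) (kj xj10 yj7 zj0) (kj xj10 yj7 zj1) (kj xj10 yj7 zj2) (kj xj10 yj7 zj3) (kj xj9 yj11 zj21) (kj xj8 yj18 zj47) (kj xj8 yj18 zj48) (kj xj11 yj22 zj44) (kj xj11 yj22 zj45) (kj xj11 yj22 zj46) (kj xj8 yj19 zj0) (kj xj8 yj19 zj1) (kj xj8 yj19 zj2) (kj xj11 yj23 zj2) (kj xj9 yj25 zj21) (kj xj11 yj23 zj3) (kj xj11 yj23 zj4) (kj xj11 yj23 zj5) (kj xj11 yj23 zj6) (kj xj10 yj7 zj19) (kj xj10 yj7 zj20) (kj xj10 yj7 zj21) (kj xj10 yj7 zj22) (kj xj10 yj7 zj23) (kj xj10 yj7 zj24) (kj xj11 yj23 zj23) (kj xj10 yj7 zj26) (kj xj10 yj7 zj27) (kj xj8 yj19 zj11) (kj xj8 yj19 zj12) (kj xj8 yj19 zj13) (kj xj11 yj23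 zj30) (kj xj11 yj23 zj28) (kj xj11 yj23 zj29) (kj xj8 yj19 zj14) (kj xj11 yj23 zj34) (kj xj10 yj7 zj36) (kj xj10 yj7 zj37) (kj xj8 yj19 zj18) (kj xj11 yj23 zj38) (kj xj9 yj12 zj2) (kj xj8 yj19 zj23) (kj xj8 yj19 zj25) (kj xj11 yj23 zj39) (kj xj9 yj9 zj37) (kj xj11 yj23 zj40) (kj xj9 yj9 zj38) (kj xj11 yj23 zj41) (kj xj8 yj19 zj28) (kj xj8 yj19 zj29) (kj xj8 yj19 zj30)) (@D3.rec (fun _ => Pt) (kj xj11 yj23 zj49) (kj xj11 yj23 zj50) (kj xj11 yj24 zj0) (kj xj10 yj8 zj3) (kj xj10 yj8 zj4) (kj xj10 yj8 zj5) (kj xj8 yj19 zj37) (kj xj8 yj19 zj39) (kj xj8 yj19 zj41) (kj xj11 yj24 zj7) (kj xj9 yj9 zj47) (kj xj11 yj24 zj8) (kj xj9 yj9 zj48) (kj xj11 yj24 zj9) (kj xj9 yj9 zj49) (kj xj8 yj19 zj45) (kj xj8 yj19 zj46) (kj xj8 yj19 zj47) (kj xj11 yj24 zj16) (kj xj11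 yj24 zj17) (kj xj11 yj24 zj18) (kj xj10 yj8 zj21) (kj xj10 yj8 zj22) (kj xj10 yj8 zj23) (kj xj8 yj22 zj32) (kj xj8 yj22 zj34) (kj xj8 yj22 zj35) (kj xj8 yj22 zj36) (kj xj8 yj22 zj38) (kj xj8 yj22 zj39) (kj xj8 yj22 zj42) (kj xj8 yj22 zj45) (kj xj8 yj22 zj46) (kj xj8 yj22 zj48) (kj xj8 yj22 zj49) (kj xj8 yj23 zj2) (kj xj8 yj23 zj3) (kj xj8 yj20 zj14) (kj xj8 yj20 zj16) (kj xj8 yj20 zj17) (kj xj11 yj24 zj30) (kj xj8 yj23 zj12) (kj xj8 yj23 zj13) (kj xj8 yj23 zj14) (kj xj11 yj24 zj34) (kj xj8 yj23 zj17) (kj xj8 yj20 zj22) (kj xj11 yj24 zj38) (kj xj8 yj23 zj20) (kj xj11 yj24 zj40) (kj xj8 yj23 zj22)) (@D3.rec (fun _ => Pt) (kj xj11 yj24 zj44) (kj xj8 yj20 zj26) (kj xj11 yj24 zj46) (kj xj8 yj23 zj26) (kj xj8 yj23 zj27) (kj xj8 yj20 zj29) (kj xj11 yj25 zj1)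 (kj xj8 yj23 zj31) (kj xj8 yj23 zj32) (kj xj8 yj23 zj33) (kj xj8 yj20 zj33) (kj xj11 yj25 zj5) (kj xj8 yj20 zj35) (kj xj11 yj25 zj7) (kj xj8 yj23 zj39) (kj xj8 yj23 zj40) (kj xj8 yj20 zj39) (kj xj8 yj20 zj40) (kj xj9 yj24 zj9) (kj xj8 yj23 zj45) (kj xj8 yj23 zj46) (kj xj8 yj20 zj42) (kj xj11 yj25 zj15) (kj xj8 yj20 zj44) (kj xj11 yj25 zj18) (kj xj11 yj25 zj19) (kj xj8 yj24 zj1) (kj xj8 yj24 zj2) (kj xj8 yj24 zj3) (kj xj8 yj20 zj48) (kj xj8 yj20 zj49) (kj xj11 yj25 zj26) (kj xj8 yj24 zj8) (kj xj8 yj24 zj9) (kj xj8 yj24 zj10) (kj xj8 yj24 zj12) (kj xj8 yj24 zj13) (kj xj9 yj6 zj40) (kj xj8 yj21 zj5) (kj xj11 yj18 zj31) (kj xj8 yj21 zj7) (kj xj8 yj21 zj8) (kj xj11 yj25 zj31) (kj xj8 yj24 zj22) (kj xj8 yj24 zj23) (kj xj8 yj24 zj24) (kj xj8 yj21 zj17) (kj xj9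 yj15 zj27) (kj xj8 yj24 zj36) (kj xj8 yj24 zj37) (kj xj8 yj24 zj38)) (@D3.rec (fun _ => Pt) (kj xj8 yj24 zj41) (kj xj8 yj21 zj22) (kj xj9 yj24 zj7) (kj xj8 yj24 zj45) (kj xj8 yj24 zj46) (kj xj9 yj24 zj8) (kj xj8 yj21 zj27) (kj xj11 yj25 zj43) (kj xj8 yj25 zj1) (kj xj8 yj25 zj2) (kj xj8 yj21 zj29) (kj xj11 yj18 zj25) (kj xj8 yj21 zj31) (kj xj11 yj26 zj1) (kj xj11 yj26 zj2) (kj xj8 yj25 zj8) (kj xj8 yj25 zj9) (kj xj8 yj25 zj10) (kj xj8 yj21 zj36) (kj xj9 yj16 zj4) (kj xj9 yj23 zj42) (kj xj8 yj25 zj15) (kj xj8 yj25 zj16) (kj xj9 yj13 zj21) (kj xj11 yj18 zj30) (kj xj8 yj21 zj44) (kj xj9 yj15 zj20) (kj xj9 yj15 zj25) (kj xj8 yj25 zj25) (kj xj8 yj25 zj26) (kj xj8 yj25 zj27) (kj xj8 yj21 zj48) (kj xj11 yj26 zj20) (kj xj8 yj21 zj50) (kj xj11 yj26 zj23) (kj xj11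 yj26 zj24) (kj xj8 yj25 zj34) (kj xj8 yj25 zj35) (kj xj8 yj25 zj36) (kj xj9 yj13 zj31) (kj xj11 yj18 zj9) (kj xj11 yj18 zj26) (kj xj8 yj22 zj5) (kj xj8 yj22 zj6) (kj xj9 yj15 zj6) (kj xj9 yj15 zj43) (kj xj11 yj26 zj36) (kj xj8 yj25 zj46) (kj xj8 yj25 zj47) (kj xj8 yj25 zj48) (kj xj8 yj25 zj49)) (@D3.rec (fun _ => Pt) (kj xj8 yj25 zj50) (kj xj8 yj26 zj0) (kj xj9 yj16 zj5) (kj xj9 yj23 zj43) (kj xj12 yj0 zj0) (kj xj8 yj26 zj7) (kj xj8 yj26 zj8) (kj xj8 yj22 zj16) (kj xj9 yj24 zj15) (kj xj8 yj26 zj11) (kj xj9 yj15 zj21) (kj xj9 yj15 zj26) (kj xj8 yj26 zj23) (kj xj8 yj26 zj24) (kj xj8 yj26 zj25) (kj xj8 yj26 zj38) (kj xj8 yj26 zj39) (kj xj9 yj23 zj26) (kj xj8 yj23 zj0) (kj xj8 yj23 zj1) (kj xj11 yj24 zj22) (kj xj11 yj24 zj23) (kj xj8 yj22 zj43) (kj xj8 yj22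 zj44) (kj xj11 yj24 zj24) (kj xj8 yj22 zj41) (kj xj8 yj23 zj37) (kj xj12 yj0 zj12) (kj xj9 yj14 zj14) (kj xj11 yj24 zj25) (kj xj11 yj24 zj26) (kj xj9 yj23 zj31) (kj xj11 yj24 zj27) (kj xj8 yj26 zj44) (kj xj8 yj26 zj45) (kj xj8 yj23 zj29) (kj xj12 yj0 zj10) (kj xj11 yj17 zj25) (kj xj11 yj24 zj28) (kj xj11 yj24 zj29) (kj xj8 yj23 zj6) (kj xj8 yj23 zj7) (kj xj9 yj6 zj30) (kj xj9 yj5 zj12) (kj xj12 yj0 zj26) (kj xj8 yj23 zj10) (kj xj8 yj23 zj11) (kj xj11 yj16 zj17) (kj xj12 yj0 zj30) (kj xj12 yj0 zj31) (kj xj11 yj16 zj14)) (@D3.rec (fun _ => Pt) (kj xj11 yj24 zj32) (kj xj11 yj24 zj33) (kj xj11 yj25 zj49) (kj xj9 yj13 zj14) (kj xj12 yj0 zj39) (kj xj8 yj23 zj16) (kj xj12 yj0 zj41) (kj xj11 yj24 zj36) (kj xj11 yj24 zj37) (kj xj8 yj23 zj19) (kj xj12 yj0 zj45)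 (kj xj12 yj0 zj46) (kj xj8 yj23 zj21) (kj xj12 yj0 zj48) (kj xj11 yj24 zj42) (kj xj11 yj24 zj43) (kj xj8 yj23 zj23) (kj xj12 yj1 zj4) (kj xj8 yj23 zj25) (kj xj12 yj1 zj7) (kj xj12 yj1 zj8) (kj xj11 yj24 zj49) (kj xj11 yj24 zj50) (kj xj11 yj25 zj0) (kj xj8 yj23 zj30) (kj xj8 yj24 zj20) (kj xj12 yj0 zj22) (kj xj11 yj25 zj2) (kj xj11 yj25 zj3) (kj xj9 yj14 zj32) (kj xj8 yj23 zj35) (kj xj12 yj0 zj14) (kj xj12 yj1 zj21) (kj xj8 yj23 zj38) (kj xj8 yj24 zj6) (kj xj12 yj0 zj15) (kj xj11 yj17 zj16) (kj xj11 yj25 zj8) (kj xj11 yj25 zj9) (kj xj11 yj21 zj11) (kj xj8 yj23 zj42) (kj xj12 yj1 zj29) (kj xj8 yj23 zj44) (kj xj12 yj1 zj32) (kj xj12 yj1 zj33) (kj xj11 yj25 zj12) (kj xj11 yj25 zj13) (kj xj11 yj25 zj14) (kj xj9 yj14 zj48) (kj xj8 yj23 zj48) (kj xj12 yj1 zj44))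 (@D3.rec (fun _ => Pt) (kj xj12 yj1 zj45) (kj xj8 yj23 zj50) (kj xj8 yj24 zj0) (kj xj12 yj1 zj10) (kj xj12 yj1 zj9) (kj xj12 yj1 zj49) (kj xj11 yj25 zj21) (kj xj11 yj24 zj47) (kj xj11 yj25 zj22) (kj xj11 yj25 zj23) (kj xj11 yj25 zj24) (kj xj11 yj25 zj25) (kj xj8 yj24 zj7) (kj xj12 yj1 zj22) (kj xj12 yj1 zj24) (kj xj12 yj2 zj13) (kj xj9 yj17 zj8) (kj xj11 yj25 zj28) (kj xj11 yj25 zj29) (kj xj9 yj24 zj31) (kj xj11 yj25 zj30) (kj xj9 yj9 zj1) (kj xj8 yj24 zj16) (kj xj8 yj24 zj17) (kj xj12 yj1 zj16) (kj xj12 yj2 zj22) (kj xj12 yj2 zj23) (kj xj8 yj24 zj21) (kj xj11 yj18 zj48) (kj xj12 yj1 zj17) (kj xj12 yj2 zj29) (kj xj11 yj17 zj38) (kj xj11 yj25 zj33) (kj xj11 yj25 zj34) (kj xj9 yj9 zj2) (kj xj8 yj24 zj29) (kj xj8 yj24 zj30) (kj xj9 yj16 zj46) (kj xj9 yj6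 zj23) (kj xj9 yj17 zj14) (kj xj12 yj2 zj35) (kj xj12 yj2 zj36) (kj xj8 yj24 zj33) (kj xj8 yj24 zj34) (kj xj8 yj24 zj35) (kj xj11 yj16 zj20) (kj xj12 yj2 zj43) (kj xj9 yj17 zj32) (kj xj11 yj25 zj35) (kj xj11 yj25 zj36) (kj xj9 yj14 zj16)) (@D3.rec (fun _ => Pt) (kj xj11 yj25 zj4) (kj xj12 yj1 zj3) (kj xj8 yj24 zj40) (kj xj12 yj2 zj49) (kj xj11 yj25 zj37) (kj xj11 yj25 zj38) (kj xj8 yj24 zj42) (kj xj12 yj3 zj2) (kj xj8 yj24 zj44) (kj xj12 yj3 zj5) (kj xj12 yj3 zj6) (kj xj11 yj25 zj41) (kj xj11 yj25 zj42) (kj xj8 yj24 zj48) (kj xj12 yj3 zj12) (kj xj8 yj24 zj49) (kj xj12 yj3 zj14) (kj xj8 yj25 zj0) (kj xj12 yj3 zj17) (kj xj12 yj3 zj18) (kj xj11 yj25 zj46) (kj xj11 yj25 zj47) (kj xj11 yj25 zj48) (kj xj9 yj15 zj35) (kj xj8 yj25 zj4) (kj xj12 yj3 zj28) (kj xj12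 yj3 zj29) (kj xj8 yj25 zj6) (kj xj8 yj25 zj7) (kj xj12 yj3 zj33) (kj xj12 yj3 zj34) (kj xj12 yj3 zj35) (kj xj11 yj26 zj6) (kj xj11 yj26 zj7) (kj xj11 yj26 zj8) (kj xj11 yj26 zj9) (kj xj11 yj26 zj10) (kj xj8 yj25 zj13) (kj xj8 yj25 zj14) (kj xj12 yj3 zj48) (kj xj12 yj3 zj49) (kj xj12 yj3 zj50) (kj xj11 yj26 zj14) (kj xj9 yj15 zj46) (kj xj8 yj25 zj19) (kj xj8 yj25 zj20) (kj xj12 yj4 zj4) (kj xj12 yj4 zj5) (kj xj12 yj4 zj6) (kj xj8 yj25 zj23) (kj xj8 yj25 zj24)) (@D3.rec (fun _ => Pt) (kj xj12 yj4 zj11) (kj xj12 yj4 zj12) (kj xj12 yj4 zj13) (kj xj11 yj26 zj11) (kj xj11 yj26 zj18) (kj xj11 yj26 zj19) (kj xj8 yj25 zj28) (kj xj12 yj4 zj20) (kj xj9 yj16 zj7) (kj xj8 yj25 zj30) (kj xj12 yj4 zj24) (kj xj12 yj4 zj25) (kj xj8 yj25 zj32) (kj xj8 yj25 zj33) (kj xj12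 yj4 zj29) (kj xj12 yj4 zj30) (kj xj12 yj4 zj31) (kj xj11 yj26 zj28) (kj xj11 yj26 zj29) (kj xj11 yj26 zj30) (kj xj11 yj26 zj31) (kj xj11 yj26 zj32) (kj xj11 yj26 zj33) (kj xj9 yj16 zj18) (kj xj8 yj25 zj39) (kj xj8 yj25 zj40) (kj xj12 yj4 zj46) (kj xj12 yj4 zj47) (kj xj12 yj4 zj48) (kj xj8 yj25 zj43) (kj xj8 yj25 zj44) (kj xj8 yj25 zj45) (kj xj9 yj15 zj3) (kj xj12 yj5 zj4) (kj xj12 yj5 zj5) (kj xj12 yj5 zj6) (kj xj12 yj5 zj7) (kj xj12 yj5 zj8) (kj xj11 yj26 zj41) (kj xj11 yj26 zj42) (kj xj11 yj26 zj43) (kj xj11 yj26 zj44) (kj xj11 yj26 zj45) (kj xj11 yj26 zj46) (kj xj12 yj5 zj25) (kj xj11 yj26 zj48) (kj xj11 yj26 zj49) (kj xj8 yj26 zj3) (kj xj8 yj26 zj4) (kj xj8 yj26 zj5) (kj xj12 yj5 zj31)) (@D3.rec (fun _ => Pt) (kj xj12 yj5 zj29) (kj xj12 yj5 zj30) (kj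 xj8 yj26 zj6) (kj xj12 yj5 zj35) (kj xj12 yj0 zj2) (kj xj12 yj0 zj3) (kj xj8 yj26 zj10) (kj xj9 yj24 zj33) (kj xj9 yj16 zj47) (kj xj8 yj26 zj15) (kj xj8 yj26 zj16) (kj xj8 yj26 zj17) (kj xj9 yj15 zj15) (kj xj12 yj5 zj39) (kj xj12 yj5 zj40) (kj xj12 yj5 zj41) (kj xj12 yj5 zj42) (kj xj8 yj26 zj21) (kj xj8 yj26 zj22) (kj xj9 yj14 zj37) (kj xj9 yj15 zj18) (kj xj12 yj5 zj50) (kj xj12 yj0 zj5) (kj xj12 yj0 zj6) (kj xj12 yj0 zj7) (kj xj8 yj26 zj32) (kj xj8 yj26 zj33) (kj xj9 yj14 zj34) (kj xj9 yj15 zj16) (kj xj9 yj15 zj17) (kj xj9 yj15 zj23) (kj xj9 yj15 zj24) (kj xj12 yj6 zj6) (kj xj9 yj14 zj38) (kj xj9 yj15 zj19) (kj xj12 yj0 zj8) (kj xj9 yj14 zj5) (kj xj10 yj16 zj37) (kj xj10 yj16 zj38) (kj xj10 yj0 zj14) (kj xj12 yj0 zj21) (kj xj10 yj16 zj41) (kj xj10 yj16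 zj42) (kj xj10 yj16 zj43) (kj xj9 yj0 zj5) (kj xj9 yj22 zj0) (kj xj10 yj0 zj17) (kj xj12 yj6 zj16) (kj xj9 yj24 zj39) (kj xj10 yj16 zj49) (kj xj10 yj16 zj50)) (@D3.rec (fun _ => Pt) (kj xj9 yj24 zj40) (kj xj10 yj17 zj1) (kj xj10 yj17 zj2) (kj xj9 yj2 zj0) (kj xj9 yj0 zj20) (kj xj12 yj6 zj24) (kj xj9 yj0 zj22) (kj xj12 yj6 zj27) (kj xj12 yj6 zj28) (kj xj10 yj17 zj9) (kj xj10 yj17 zj10) (kj xj9 yj0 zj26) (kj xj9 yj17 zj36) (kj xj9 yj0 zj28) (kj xj12 yj6 zj34) (kj xj12 yj6 zj35) (kj xj9 yj0 zj30) (kj xj9 yj0 zj31) (kj xj12 yj6 zj38) (kj xj12 yj6 zj39) (kj xj10 yj17 zj20) (kj xj10 yj17 zj21) (kj xj9 yj0 zj36) (kj xj9 yj0 zj37) (kj xj12 yj2 zj25) (kj xj12 yj6 zj44) (kj xj12 yj6 zj45) (kj xj10 yj17 zj27) (kj xj9 yj17 zj44) (kj xj9 yj0 zj42) (kj xj9 yj0 zj44)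 (kj xj12 yj6 zj50) (kj xj9 yj17 zj47) (kj xj9 yj0 zj46) (kj xj12 yj7 zj3) (kj xj12 yj7 zj4) (kj xj9 yj0 zj48) (kj xj9 yj0 zj49) (kj xj12 yj7 zj7) (kj xj12 yj7 zj8) (kj xj10 yj17 zj40) (kj xj10 yj17 zj41) (kj xj9 yj18 zj6) (kj xj9 yj1 zj3) (kj xj9 yj1 zj4) (kj xj12 yj7 zj15) (kj xj12 yj7 zj16) (kj xj12 yj7 zj17) (kj xj9 yj1 zj7) (kj xj9 yj1 zj8) (kj xj9 yj1 zj9)) (@D3.rec (fun _ => Pt) (kj xj10 yj0 zj4) (kj xj10 yj0 zj1) (kj xj12 yj7 zj24) (kj xj12 yj7 zj25) (kj xj12 yj7 zj26) (kj xj12 yj7 zj27) (kj xj10 yj18 zj6) (kj xj10 yj18 zj7) (kj xj10 yj18 zj8) (kj xj12 yj7 zj37) (kj xj10 yj18 zj10) (kj xj10 yj18 zj11) (kj xj9 yj1 zj18) (kj xj9 yj1 zj19) (kj xj9 yj1 zj20) (kj xj12 yj7 zj44) (kj xj12 yj7 zj42) (kj xj12 yj7 zj43) (kj xj9 yj1 zj21) (kj xj12 yj7 zj48)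 (kj xj10 yj18 zj20) (kj xj10 yj18 zj21) (kj xj9 yj1 zj25) (kj xj12 yj8 zj1) (kj xj9 yj18 zj29) (kj xj9 yj18 zj30) (kj xj9 yj1 zj30) (kj xj9 yj1 zj31) (kj xj9 yj1 zj32) (kj xj9 yj19 zj16) (kj xj9 yj19 zj12) (kj xj12 yj8 zj4) (kj xj12 yj8 zj5) (kj xj9 yj1 zj36) (kj xj10 yj0 zj5) (kj xj9 yj18 zj43) (kj xj9 yj1 zj45) (kj xj9 yj1 zj46) (kj xj9 yj1 zj47) (kj xj9 yj22 zj15) (kj xj10 yj0 zj15) (kj xj12 yj0 zj28) (kj xj9 yj22 zj4) (kj xj9 yj2 zj4) (kj xj12 yj8 zj9) (kj xj9 yj2 zj6) (kj xj12 yj8 zj12) (kj xj12 yj8 zj13) (kj xj10 yj18 zj48) (kj xj9 yj19 zj15) (kj xj9 yj2 zj10)) (@D3.rec (fun _ => Pt) (kj xj12 yj8 zj17) (kj xj12 yj8 zj18) (kj xj9 yj2 zj12) (kj xj9 yj2 zj13) (kj xj12 yj8 zj22) (kj xj12 yj8 zj23) (kj xj10 yj19 zj6) (kj xj10 yj19 zj7) (kj xj9 yj2 zj17)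 (kj xj12 yj8 zj27) (kj xj9 yj19 zj17) (kj xj9 yj2 zj19) (kj xj12 yj8 zj31) (kj xj12 yj8 zj32) (kj xj9 yj2 zj21) (kj xj9 yj2 zj22) (kj xj12 yj8 zj35) (kj xj12 yj8 zj36) (kj xj10 yj19 zj18) (kj xj10 yj19 zj19) (kj xj9 yj19 zj25) (kj xj9 yj2 zj27) (kj xj9 yj2 zj28) (kj xj12 yj8 zj43) (kj xj12 yj8 zj44) (kj xj12 yj8 zj45) (kj xj9 yj2 zj31) (kj xj9 yj2 zj32) (kj xj9 yj2 zj33) (kj xj9 yj26 zj31) (kj xj12 yj9 zj1) (kj xj12 yj9 zj2) (kj xj12 yj9 zj3) (kj xj12 yj9 zj4) (kj xj12 yj9 zj5) (kj xj10 yj19 zj35) (kj xj10 yj19 zj36) (kj xj10 yj19 zj37) (kj xj10 yj19 zj38) (kj xj9 yj2 zj41) (kj xj9 yj2 zj42) (kj xj9 yj2 zj43) (kj xj12 yj9 zj16) (kj xj12 yj9 zj17) (kj xj10 yj19 zj44) (kj xj9 yj19 zj39) (kj xj9 yj19 zj40) (kj xj9 yj2 zj48) (kj xj9 yj2 zj49) (kj xj9 yj2 zj50)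 (kj xj9 yj22 zj50)) (@D3.rec (fun _ => Pt) (kj xj12 yj9 zj24) (kj xj12 yj9 zj25) (kj xj12 yj9 zj26) (kj xj9 yj3 zj3) (kj xj9 yj26 zj34) (kj xj9 yj26 zj37) (kj xj10 yj20 zj6) (kj xj9 yj20 zj2) (kj xj9 yj3 zj7) (kj xj12 yj9 zj34) (kj xj12 yj9 zj35) (kj xj9 yj20 zj6) (kj xj9 yj3 zj10) (kj xj9 yj3 zj11) (kj xj12 yj9 zj41) (kj xj12 yj9 zj42) (kj xj12 yj9 zj43) (kj xj9 yj3 zj14) (kj xj9 yj3 zj15) (kj xj9 yj3 zj16) (kj xj12 yj9 zj50) (kj xj12 yj10 zj0) (kj xj12 yj10 zj1) (kj xj12 yj10 zj2) (kj xj12 yj10 zj3) (kj xj12 yj10 zj4) (kj xj10 yj20 zj26) (kj xj10 yj20 zj27) (kj xj10 yj20 zj28) (kj xj10 yj20 zj29) (kj xj12 yj10 zj16) (kj xj10 yj20 zj31) (kj xj10 yj20 zj32) (kj xj9 yj20 zj30) (kj xj9 yj20 zj31) (kj xj9 yj3 zj26) (kj xj9 yj3 zj27) (kj xj9 yj3 zj28) (kj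 xj12 yj10 zj23) (kj xj12 yj10 zj24) (kj xj12 yj10 zj25) (kj xj12 yj10 zj26) (kj xj12 yj10 zj27) (kj xj12 yj10 zj28) (kj xj9 yj3 zj32) (kj xj9 yj3 zj33) (kj xj9 yj3 zj34) (kj xj9 yj3 zj35) (kj xj9 yj3 zj36) (kj xj9 yj3 zj37) (kj xj12 yj10 zj39)) (@D3.rec (fun _ => Pt) (kj xj12 yj10 zj40) (kj xj12 yj10 zj41) (kj xj12 yj10 zj42) (kj xj12 yj10 zj43) (kj xj12 yj10 zj44) (kj xj12 yj11 zj5) (kj xj12 yj10 zj46) (kj xj12 yj10 zj47) (kj xj10 yj21 zj8) (kj xj10 yj21 zj9) (kj xj10 yj21 zj10) (kj xj10 yj21 zj11) (kj xj12 yj11 zj14) (kj xj10 yj21 zj13) (kj xj10 yj21 zj14) (kj xj10 yj21 zj15) (kj xj9 yj3 zj44) (kj xj12 yj11 zj19) (kj xj10 yj21 zj18) (kj xj10 yj21 zj19) (kj xj12 yj11 zj23) (kj xj9 yj4 zj0) (kj xj9 yj4 zj1) (kj xj9 yj3 zj50) (kj xj12 yj11 zj27) (kj xj12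 yj11 zj25) (kj xj12 yj11 zj26) (kj xj9 yj4 zj3) (kj xj12 yj11 zj31) (kj xj10 yj21 zj29) (kj xj10 yj21 zj30) (kj xj9 yj4 zj7) (kj xj9 yj21 zj22) (kj xj9 yj6 zj22) (kj xj9 yj21 zj23) (kj xj9 yj4 zj13) (kj xj9 yj4 zj14) (kj xj9 yj4 zj15) (kj xj9 yj4 zj16) (kj xj9 yj4 zj17) (kj xj12 yj11 zj40) (kj xj12 yj11 zj41) (kj xj12 yj11 zj42) (kj xj12 yj11 zj43) (kj xj12 yj11 zj44) (kj xj12 yj11 zj45) (kj xj12 yj11 zj46) (kj xj9 yj4 zj21) (kj xj9 yj4 zj22) (kj xj9 yj4 zj23) (kj xj12 yj12 zj6)) (@D3.rec (fun _ => Pt) (kj xj12 yj12 zj7) (kj xj12 yj12 zj8) (kj xj10 yj22 zj2) (kj xj10 yj22 zj3) (kj xj10 yj22 zj4) (kj xj9 yj6 zj10) (kj xj9 yj4 zj41) (kj xj9 yj4 zj40) (kj xj9 yj4 zj39) (kj xj9 yj4 zj35) (kj xj9 yj4 zj36) (kj xj9 yj4 zj37) (kj xj9 yj22 zj29) (kj xj12 yj12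 zj12) (kj xj9 yj18 zj49) (kj xj12 yj11 zj39) (kj xj12 yj11 zj38) (kj xj9 yj19 zj0) (kj xj12 yj2 zj40) (kj xj11 yj20 zj47) (kj xj9 yj4 zj45) (kj xj9 yj4 zj46) (kj xj9 yj4 zj47) (kj xj12 yj12 zj17) (kj xj12 yj12 zj18) (kj xj12 yj0 zj27) (kj xj9 yj21 zj49) (kj xj9 yj5 zj1) (kj xj12 yj6 zj7) (kj xj12 yj12 zj20) (kj xj9 yj22 zj2) (kj xj9 yj5 zj4) (kj xj9 yj5 zj14) (kj xj9 yj12 zj27) (kj xj12 yj12 zj23) (kj xj9 yj5 zj17) (kj xj9 yj22 zj17) (kj xj9 yj6 zj21) (kj xj9 yj5 zj23) (kj xj9 yj22 zj22) (kj xj9 yj22 zj48) (kj xj9 yj22 zj47) (kj xj9 yj18 zj48) (kj xj9 yj5 zj27) (kj xj9 yj5 zj28) (kj xj12 yj12 zj30) (kj xj9 yj12 zj26) (kj xj12 yj12 zj31) (kj xj9 yj22 zj30) (kj xj9 yj5 zj32) (kj xj9 yj5 zj34)) (@D3.rec (fun _ => Pt) (kj xj12 yj12 zj37) (kj xj9 yj21 zj29)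 (kj xj12 yj12 zj38) (kj xj9 yj21 zj45) (kj xj9 yj5 zj37) (kj xj9 yj5 zj38) (kj xj9 yj25 zj19) (kj xj12 yj12 zj44) (kj xj10 yj23 zj8) (kj xj9 yj22 zj43) (kj xj9 yj5 zj43) (kj xj9 yj22 zj21) (kj xj9 yj22 zj20) (kj xj9 yj22 zj46) (kj xj9 yj6 zj8) (kj xj9 yj6 zj6) (kj xj9 yj6 zj5) (kj xj9 yj6 zj4) (kj xj9 yj6 zj7) (kj xj9 yj6 zj9) (kj xj12 yj12 zj26) (kj xj12 yj11 zj36) (kj xj12 yj12 zj47) (kj xj12 yj12 zj27) (kj xj12 yj11 zj35) (kj xj12 yj12 zj48) (kj xj11 yj20 zj45) (kj xj9 yj6 zj14) (kj xj9 yj6 zj15) (kj xj9 yj6 zj16) (kj xj12 yj13 zj5) (kj xj12 yj13 zj6) (kj xj12 yj13 zj7) (kj xj12 yj9 zj22) (kj xj12 yj2 zj38) (kj xj9 yj6 zj28) (kj xj9 yj6 zj29) (kj xj9 yj7 zj2) (kj xj9 yj7 zj28) (kj xj9 yj7 zj29) (kj xj9 yj7 zj35) (kj xj9 yj7 zj42) (kj xj9 yj7 zj43) (kj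 xj9 yj7 zj48) (kj xj9 yj7 zj49) (kj xj9 yj8 zj2) (kj xj9 yj8 zj10) (kj xj9 yj24 zj18) (kj xj9 yj8 zj15) (kj xj9 yj16 zj15) (kj xj9 yj8 zj49)) (@D3.rec (fun _ => Pt) (kj xj9 yj16 zj13) (kj xj9 yj16 zj16) (kj xj9 yj8 zj25) (kj xj9 yj8 zj26) (kj xj9 yj8 zj27) (kj xj9 yj8 zj28) (kj xj9 yj8 zj29) (kj xj9 yj8 zj30) (kj xj9 yj8 zj34) (kj xj9 yj7 zj16) (kj xj9 yj24 zj11) (kj xj9 yj7 zj20) (kj xj11 yj18 zj27) (kj xj9 yj8 zj48) (kj xj9 yj9 zj9) (kj xj9 yj7 zj45) (kj xj9 yj7 zj46) (kj xj9 yj7 zj47) (kj xj11 yj17 zj29) (kj xj12 yj13 zj9) (kj xj11 yj19 zj15) (kj xj11 yj19 zj39) (kj xj11 yj19 zj19) (kj xj11 yj17 zj33) (kj xj12 yj13 zj10) (kj xj11 yj17 zj11) (kj xj9 yj14 zj42) (kj xj9 yj14 zj43) (kj xj9 yj14 zj44) (kj xj12 yj13 zj11) (kj xj12 yj13 zj25) (kj xj12 yj13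 zj26) (kj xj9 yj15 zj31) (kj xj12 yj13 zj27) (kj xj12 yj13 zj12) (kj xj12 yj13 zj13) (kj xj9 yj15 zj30) (kj xj9 yj15 zj32) (kj xj9 yj24 zj4) (kj xj9 yj8 zj5) (kj xj9 yj8 zj6) (kj xj12 yj13 zj47) (kj xj9 yj8 zj9) (kj xj9 yj24 zj17) (kj xj9 yj16 zj29) (kj xj9 yj16 zj42) (kj xj9 yj16 zj30) (kj xj9 yj13 zj33) (kj xj9 yj13 zj37) (kj xj12 yj13 zj14) (kj xj11 yj18 zj21)) (@D3.rec (fun _ => Pt) (kj xj9 yj8 zj18) (kj xj9 yj8 zj19) (kj xj12 yj14 zj5) (kj xj12 yj14 zj6) (kj xj12 yj14 zj7) (kj xj9 yj8 zj22) (kj xj9 yj8 zj24) (kj xj12 yj14 zj14) (kj xj9 yj16 zj10) (kj xj12 yj14 zj15) (kj xj9 yj16 zj8) (kj xj9 yj16 zj11) (kj xj12 yj14 zj16) (kj xj12 yj13 zj18) (kj xj12 yj13 zj19) (kj xj12 yj13 zj20) (kj xj12 yj13 zj21) (kj xj12 yj13 zj22) (kj xj12 yj14 zj31) (kj xj12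 yj13 zj23) (kj xj12 yj13 zj24) (kj xj12 yj4 zj23) (kj xj9 yj16 zj9) (kj xj9 yj8 zj33) (kj xj12 yj14 zj35) (kj xj9 yj8 zj36) (kj xj11 yj18 zj22) (kj xj9 yj8 zj40) (kj xj9 yj8 zj42) (kj xj12 yj1 zj43) (kj xj11 yj20 zj3) (kj xj12 yj14 zj36) (kj xj11 yj20 zj28) (kj xj9 yj8 zj45) (kj xj9 yj8 zj46) (kj xj12 yj14 zj40) (kj xj11 yj18 zj24) (kj xj9 yj13 zj34) (kj xj12 yj13 zj15) (kj xj12 yj1 zj20) (kj xj12 yj2 zj21) (kj xj9 yj9 zj6) (kj xj9 yj9 zj7) (kj xj12 yj14 zj44) (kj xj11 yj18 zj29) (kj xj9 yj13 zj24) (kj xj9 yj14 zj1) (kj xj9 yj14 zj10) (kj xj11 yj16 zj46) (kj xj11 yj16 zj47) (kj xj11 yj16 zj48)) (@D3.rec (fun _ => Pt) (kj xj10 yj26 zj0) (kj xj10 yj26 zj1) (kj xj10 yj26 zj2) (kj xj9 yj10 zj18) (kj xj9 yj9 zj20) (kj xj12 yj15 zj3) (kj xj12 yj15 zj4) (kj xj9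 yj9 zj22) (kj xj9 yj9 zj23) (kj xj12 yj15 zj7) (kj xj10 yj26 zj10) (kj xj9 yj9 zj27) (kj xj9 yj9 zj28) (kj xj11 yj23 zj45) (kj xj12 yj15 zj9) (kj xj12 yj15 zj10) (kj xj9 yj9 zj31) (kj xj9 yj9 zj32) (kj xj12 yj15 zj16) (kj xj12 yj15 zj17) (kj xj12 yj15 zj18) (kj xj10 yj26 zj21) (kj xj10 yj26 zj22) (kj xj10 yj26 zj23) (kj xj11 yj23 zj43) (kj xj11 yj23 zj46) (kj xj11 yj23 zj48) (kj xj9 yj9 zj41) (kj xj9 yj9 zj42) (kj xj9 yj9 zj43) (kj xj12 yj15 zj28) (kj xj12 yj15 zj29) (kj xj12 yj15 zj30) (kj xj10 yj26 zj33) (kj xj10 yj26 zj34) (kj xj10 yj26 zj35) (kj xj11 yj24 zj10) (kj xj11 yj24 zj12) (kj xj11 yj24 zj14) (kj xj9 yj10 zj2) (kj xj9 yj10 zj3) (kj xj9 yj10 zj4) (kj xj12 yj15 zj40) (kj xj12 yj15 zj41) (kj xj9 yj24 zj43) (kj xj10 yj26 zj45) (kj xj10 yj26 zj46)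 (kj xj10 yj26 zj47) (kj xj9 yj17 zj46) (kj xj10 yj0 zj2) (kj xj9 yj10 zj12))
def f_j_11 : D2 → D3 → Pt := @D2.rec (fun _ => D3 → Pt) (@D3.rec (fun _ => Pt) (kj xj12 yj15 zj45) (kj xj12 yj15 zj46) (kj xj9 yj10 zj14) (kj xj9 yj10 zj15) (kj xj12 yj15 zj49) (kj xj11 yj0 zj5) (kj xj12 yj15 zj1) (kj xj12 yj15 zj2) (kj xj9 yj10 zj20) (kj xj9 yj10 zj21) (kj xj12 yj16 zj3) (kj xj12 yj16 zj4) (kj xj11 yj0 zj12) (kj xj11 yj0 zj13) (kj xj11 yj21 zj40) (kj xj9 yj10 zj26) (kj xj9 yj10 zj27) (kj xj12 yj16 zj10) (kj xj12 yj16 zj11) (kj xj12 yj16 zj12) (kj xj9 yj10 zj30) (kj xj9 yj10 zj31) (kj xj9 yj10 zj32) (kj xj12 yj16 zj19) (kj xj12 yj16 zj20) (kj xj12 yj16 zj21) (kj xj12 yj16 zj22) (kj xj12 yj16 zj23) (kj xj12 yj16 zj24) (kj xj11 yj0 zj29) (kj xj11 yj0 zj30) (kj xj11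 yj0 zj31) (kj xj11 yj0 zj32) (kj xj9 yj10 zj40) (kj xj9 yj10 zj41) (kj xj12 yj16 zj34) (kj xj9 yj25 zj42) (kj xj11 yj22 zj13) (kj xj9 yj10 zj45) (kj xj9 yj10 zj46) (kj xj9 yj10 zj47) (kj xj12 yj16 zj37) (kj xj12 yj16 zj38) (kj xj12 yj16 zj39) (kj xj12 yj16 zj40) (kj xj12 yj16 zj41) (kj xj9 yj10 zj50) (kj xj9 yj11 zj0) (kj xj9 yj11 zj1) (kj xj12 yj16 zj49) (kj xj12 yj16 zj50)) (@D3.rec (fun _ => Pt) (kj xj12 yj17 zj0) (kj xj11 yj1 zj1) (kj xj11 yj1 zj2) (kj xj11 yj1 zj3) (kj xj9 yj20 zj18) (kj xj10 yj0 zj9) (kj xj11 yj22 zj21) (kj xj9 yj11 zj8) (kj xj9 yj11 zj9) (kj xj12 yj17 zj12) (kj xj12 yj17 zj13) (kj xj12 yj17 zj14) (kj xj9 yj11 zj12) (kj xj9 yj11 zj14) (kj xj12 yj17 zj21) (kj xj10 yj0 zj6) (kj xj12 yj17 zj22) (kj xj9 yj20 zj4) (kj xj10 yj0 zj7) (kj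 xj12 yj17 zj23) (kj xj11 yj1 zj20) (kj xj11 yj1 zj21) (kj xj11 yj1 zj22) (kj xj11 yj1 zj23) (kj xj12 yj17 zj36) (kj xj11 yj1 zj25) (kj xj11 yj1 zj26) (kj xj11 yj22 zj42) (kj xj11 yj22 zj43) (kj xj9 yj11 zj24) (kj xj9 yj11 zj25) (kj xj9 yj11 zj26) (kj xj12 yj17 zj42) (kj xj12 yj17 zj43) (kj xj12 yj17 zj44) (kj xj12 yj17 zj45) (kj xj12 yj17 zj46) (kj xj12 yj17 zj47) (kj xj9 yj11 zj30) (kj xj9 yj11 zj31) (kj xj9 yj11 zj32) (kj xj9 yj11 zj33) (kj xj9 yj11 zj34) (kj xj9 yj11 zj35) (kj xj12 yj18 zj7) (kj xj12 yj18 zj8) (kj xj12 yj18 zj9) (kj xj12 yj18 zj10) (kj xj12 yj18 zj11) (kj xj12 yj18 zj12) (kj xj12 yj18 zj24)) (@D3.rec (fun _ => Pt) (kj xj12 yj18 zj13) (kj xj12 yj18 zj14) (kj xj11 yj2 zj2) (kj xj11 yj2 zj3) (kj xj11 yj2 zj4) (kj xj11 yj2 zj5) (kj xj11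 yj2 zj6) (kj xj12 yj18 zj33) (kj xj11 yj2 zj8) (kj xj11 yj2 zj9) (kj xj11 yj2 zj10) (kj xj9 yj11 zj42) (kj xj12 yj18 zj38) (kj xj11 yj2 zj13) (kj xj9 yj11 zj48) (kj xj9 yj11 zj47) (kj xj12 yj18 zj40) (kj xj9 yj11 zj50) (kj xj11 yj20 zj32) (kj xj11 yj20 zj34) (kj xj9 yj12 zj6) (kj xj9 yj12 zj7) (kj xj9 yj12 zj8) (kj xj9 yj12 zj9) (kj xj9 yj12 zj10) (kj xj12 yj12 zj33) (kj xj12 yj12 zj24) (kj xj12 yj18 zj43) (kj xj12 yj18 zj44) (kj xj12 yj18 zj45) (kj xj12 yj18 zj46) (kj xj12 yj18 zj47) (kj xj9 yj12 zj14) (kj xj9 yj12 zj15) (kj xj9 yj12 zj16) (kj xj12 yj19 zj5) (kj xj12 yj19 zj6) (kj xj12 yj19 zj7) (kj xj11 yj2 zj38) (kj xj11 yj2 zj39) (kj xj11 yj2 zj40) (kj xj11 yj20 zj49) (kj xj9 yj12 zj28) (kj xj9 yj12 zj30) (kj xj9 yj12 zj31) (kj xj9 yj12 zj32) (kj xj12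 yj12 zj35) (kj xj12 yj12 zj25) (kj xj12 yj19 zj11) (kj xj9 yj19 zj2) (kj xj12 yj19 zj12)) (@D3.rec (fun _ => Pt) (kj xj9 yj17 zj26) (kj xj9 yj12 zj36) (kj xj9 yj12 zj37) (kj xj12 yj19 zj16) (kj xj9 yj24 zj28) (kj xj9 yj14 zj22) (kj xj9 yj14 zj23) (kj xj9 yj14 zj46) (kj xj9 yj15 zj28) (kj xj9 yj14 zj29) (kj xj9 yj14 zj30) (kj xj9 yj14 zj39) (kj xj9 yj14 zj40) (kj xj9 yj14 zj41) (kj xj9 yj14 zj45) (kj xj9 yj14 zj47) (kj xj11 yj19 zj23) (kj xj9 yj15 zj7) (kj xj9 yj15 zj8) (kj xj9 yj15 zj9) (kj xj9 yj15 zj10) (kj xj9 yj15 zj22) (kj xj9 yj15 zj33) (kj xj9 yj15 zj34) (kj xj11 yj19 zj24) (kj xj12 yj0 zj38) (kj xj9 yj13 zj17) (kj xj11 yj19 zj25) (kj xj9 yj15 zj44) (kj xj9 yj15 zj45) (kj xj11 yj18 zj28) (kj xj11 yj16 zj21) (kj xj11 yj16 zj22) (kj xj9 yj16 zj6)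 (kj xj9 yj16 zj12) (kj xj9 yj16 zj14) (kj xj9 yj16 zj17) (kj xj11 yj18 zj23) (kj xj11 yj18 zj45) (kj xj11 yj19 zj10) (kj xj12 yj14 zj1) (kj xj11 yj18 zj37) (kj xj11 yj18 zj46) (kj xj12 yj14 zj2) (kj xj9 yj16 zj32) (kj xj9 yj16 zj33) (kj xj9 yj16 zj34) (kj xj9 yj16 zj35) (kj xj9 yj16 zj36) (kj xj9 yj16 zj37) (kj xj11 yj17 zj48)) (@D3.rec (fun _ => Pt) (kj xj9 yj16 zj39) (kj xj9 yj16 zj40) (kj xj9 yj13 zj44) (kj xj9 yj24 zj14) (kj xj11 yj18 zj49) (kj xj11 yj16 zj18) (kj xj9 yj17 zj34) (kj xj11 yj18 zj39) (kj xj11 yj18 zj50) (kj xj9 yj17 zj11) (kj xj9 yj17 zj12) (kj xj9 yj17 zj13) (kj xj9 yj17 zj35) (kj xj9 yj14 zj15) (kj xj12 yj0 zj17) (kj xj12 yj2 zj47) (kj xj9 yj17 zj33) (kj xj9 yj15 zj12) (kj xj9 yj15 zj4) (kj xj9 yj15 zj13) (kj xj12 yj19 zj17) (kj xj9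 yj14 zj25) (kj xj12 yj20 zj13) (kj xj12 yj20 zj14) (kj xj9 yj14 zj27) (kj xj9 yj14 zj28) (kj xj12 yj5 zj9) (kj xj12 yj20 zj18) (kj xj12 yj19 zj19) (kj xj12 yj19 zj20) (kj xj9 yj14 zj35) (kj xj12 yj5 zj43) (kj xj12 yj6 zj8) (kj xj12 yj4 zj14) (kj xj12 yj6 zj0) (kj xj12 yj6 zj13) (kj xj11 yj26 zj15) (kj xj12 yj19 zj21) (kj xj12 yj19 zj22) (kj xj12 yj13 zj35) (kj xj12 yj13 zj36) (kj xj12 yj4 zj32) (kj xj12 yj13 zj37) (kj xj11 yj26 zj25) (kj xj12 yj19 zj23) (kj xj12 yj19 zj18) (kj xj12 yj19 zj24) (kj xj9 yj14 zj50) (kj xj9 yj15 zj0) (kj xj12 yj4 zj49) (kj xj12 yj20 zj38)) (@D3.rec (fun _ => Pt) (kj xj12 yj20 zj39) (kj xj9 yj15 zj5) (kj xj12 yj5 zj10) (kj xj12 yj5 zj11) (kj xj12 yj20 zj9) (kj xj12 yj20 zj11) (kj xj12 yj20 zj45) (kj xj11 yj26 zj3) (kj xj11 yj26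 zj37) (kj xj11 yj26 zj38) (kj xj12 yj19 zj26) (kj xj12 yj19 zj27) (kj xj12 yj19 zj28) (kj xj12 yj20 zj10) (kj xj12 yj5 zj44) (kj xj12 yj5 zj45) (kj xj12 yj6 zj9) (kj xj12 yj6 zj10) (kj xj12 yj6 zj1) (kj xj11 yj26 zj16) (kj xj12 yj0 zj4) (kj xj12 yj19 zj29) (kj xj12 yj6 zj11) (kj xj11 yj26 zj17) (kj xj11 yj25 zj32) (kj xj11 yj24 zj31) (kj xj12 yj13 zj41) (kj xj12 yj13 zj45) (kj xj11 yj19 zj8) (kj xj12 yj13 zj42) (kj xj11 yj26 zj26) (kj xj12 yj19 zj30) (kj xj12 yj19 zj31) (kj xj12 yj3 zj27) (kj xj9 yj15 zj37) (kj xj9 yj15 zj38) (kj xj11 yj19 zj20) (kj xj12 yj21 zj22) (kj xj12 yj21 zj23) (kj xj9 yj15 zj42) (kj xj11 yj19 zj21) (kj xj12 yj21 zj28) (kj xj11 yj26 zj4) (kj xj11 yj26 zj39) (kj xj12 yj19 zj34) (kj xj12 yj2 zj37) (kj xj12 yj4 zj3) (kj xj9 yj16 zj0)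 (kj xj11 yj19 zj31) (kj xj11 yj16 zj34) (kj xj12 yj21 zj34)) (@D3.rec (fun _ => Pt) (kj xj9 yj16 zj3) (kj xj11 yj19 zj32) (kj xj11 yj26 zj12) (kj xj11 yj26 zj50) (kj xj12 yj19 zj36) (kj xj12 yj14 zj19) (kj xj12 yj14 zj11) (kj xj12 yj14 zj23) (kj xj12 yj14 zj17) (kj xj12 yj14 zj20) (kj xj12 yj14 zj24) (kj xj11 yj25 zj16) (kj xj12 yj19 zj37) (kj xj11 yj17 zj10) (kj xj12 yj13 zj16) (kj xj12 yj19 zj38) (kj xj11 yj18 zj6) (kj xj12 yj13 zj17) (kj xj12 yj4 zj44) (kj xj12 yj4 zj45) (kj xj9 yj16 zj21) (kj xj9 yj16 zj22) (kj xj9 yj16 zj23) (kj xj12 yj22 zj4) (kj xj12 yj22 zj5) (kj xj12 yj22 zj6) (kj xj12 yj13 zj48) (kj xj12 yj22 zj7) (kj xj12 yj22 zj8) (kj xj9 yj16 zj26) (kj xj9 yj16 zj28) (kj xj9 yj16 zj31) (kj xj12 yj2 zj10) (kj xj11 yj18 zj35) (kj xj12 yj22 zj19)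 (kj xj11 yj18 zj42) (kj xj11 yj18 zj44) (kj xj12 yj22 zj20) (kj xj12 yj22 zj29) (kj xj12 yj13 zj49) (kj xj12 yj13 zj50) (kj xj11 yj25 zj39) (kj xj12 yj19 zj44) (kj xj11 yj25 zj10) (kj xj12 yj19 zj45) (kj xj12 yj19 zj46) (kj xj11 yj17 zj46) (kj xj12 yj19 zj47) (kj xj12 yj19 zj48) (kj xj12 yj19 zj49) (kj xj9 yj16 zj38)) (@D3.rec (fun _ => Pt) (kj xj12 yj22 zj41) (kj xj12 yj20 zj0) (kj xj9 yj16 zj41) (kj xj12 yj22 zj43) (kj xj9 yj16 zj44) (kj xj12 yj2 zj24) (kj xj12 yj2 zj39) (kj xj9 yj17 zj0) (kj xj9 yj17 zj2) (kj xj9 yj17 zj3) (kj xj9 yj17 zj4) (kj xj12 yj2 zj14) (kj xj11 yj21 zj23) (kj xj12 yj22 zj46) (kj xj11 yj21 zj48) (kj xj11 yj22 zj5) (kj xj12 yj22 zj47) (kj xj12 yj19 zj15) (kj xj9 yj17 zj9) (kj xj9 yj17 zj10) (kj xj12 yj2 zj17) (kj xj12 yj23 zj5)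 (kj xj12 yj23 zj6) (kj xj12 yj20 zj5) (kj xj12 yj20 zj6) (kj xj12 yj20 zj7) (kj xj12 yj2 zj41) (kj xj9 yj17 zj20) (kj xj9 yj17 zj21) (kj xj9 yj17 zj22) (kj xj9 yj17 zj24) (kj xj9 yj17 zj25) (kj xj12 yj6 zj17) (kj xj12 yj23 zj14) (kj xj9 yj22 zj9) (kj xj12 yj23 zj15) (kj xj12 yj23 zj16) (kj xj9 yj19 zj1) (kj xj12 yj15 zj39) (kj xj9 yj17 zj30) (kj xj9 yj17 zj31) (kj xj12 yj23 zj21) (kj xj12 yj2 zj45) (kj xj12 yj0 zj33) (kj xj12 yj19 zj35) (kj xj12 yj20 zj1) (kj xj12 yj20 zj2) (kj xj9 yj23 zj28) (kj xj12 yj6 zj33) (kj xj9 yj17 zj38) (kj xj9 yj17 zj39)) (@D3.rec (fun _ => Pt) (kj xj12 yj23 zj27) (kj xj12 yj23 zj28) (kj xj9 yj17 zj42) (kj xj12 yj23 zj31) (kj xj12 yj6 zj49) (kj xj12 yj7 zj29) (kj xj12 yj15 zj44) (kj xj12 yj7 zj2) (kj xj9 yj17 zj49) (kj xj9 yj17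 zj50) (kj xj12 yj23 zj36) (kj xj12 yj23 zj37) (kj xj9 yj18 zj2) (kj xj9 yj18 zj3) (kj xj12 yj8 zj7) (kj xj12 yj23 zj41) (kj xj12 yj23 zj42) (kj xj11 yj8 zj17) (kj xj12 yj7 zj13) (kj xj12 yj7 zj14) (kj xj9 yj18 zj9) (kj xj9 yj18 zj10) (kj xj9 yj18 zj11) (kj xj12 yj23 zj48) (kj xj12 yj23 zj49) (kj xj12 yj23 zj50) (kj xj12 yj24 zj0) (kj xj12 yj24 zj1) (kj xj12 yj24 zj2) (kj xj9 yj18 zj15) (kj xj9 yj18 zj16) (kj xj9 yj18 zj17) (kj xj9 yj18 zj18) (kj xj9 yj18 zj19) (kj xj9 yj18 zj20) (kj xj12 yj24 zj11) (kj xj12 yj24 zj12) (kj xj12 yj24 zj13) (kj xj12 yj24 zj14) (kj xj12 yj24 zj15) (kj xj12 yj24 zj17) (kj xj12 yj24 zj18) (kj xj11 yj8 zj42) (kj xj11 yj8 zj43) (kj xj11 yj8 zj44) (kj xj12 yj8 zj16) (kj xj9 yj18 zj28) (kj xj12 yj8 zj2) (kj xj12 yj8 zj3) (kj xj9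 yj18 zj34) (kj xj9 yj18 zj35)) (@D3.rec (fun _ => Pt) (kj xj9 yj18 zj36) (kj xj9 yj18 zj37) (kj xj12 yj9 zj33) (kj xj12 yj8 zj30) (kj xj12 yj24 zj29) (kj xj12 yj24 zj30) (kj xj12 yj24 zj31) (kj xj9 yj18 zj40) (kj xj9 yj18 zj41) (kj xj12 yj24 zj36) (kj xj9 yj18 zj50) (kj xj12 yj12 zj29) (kj xj12 yj12 zj15) (kj xj12 yj23 zj19) (kj xj9 yj19 zj6) (kj xj9 yj19 zj7) (kj xj12 yj24 zj38) (kj xj9 yj24 zj41) (kj xj12 yj8 zj8) (kj xj9 yj19 zj14) (kj xj12 yj7 zj18) (kj xj12 yj8 zj6) (kj xj9 yj19 zj19) (kj xj9 yj19 zj20) (kj xj12 yj24 zj42) (kj xj12 yj24 zj43) (kj xj9 yj19 zj23) (kj xj12 yj24 zj46) (kj xj12 yj8 zj41) (kj xj12 yj8 zj42) (kj xj9 yj19 zj28) (kj xj9 yj19 zj29) (kj xj9 yj19 zj30) (kj xj12 yj24 zj50) (kj xj12 yj25 zj0) (kj xj12 yj25 zj1) (kj xj12 yj25 zj2)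 (kj xj12 yj25 zj3) (kj xj9 yj19 zj33) (kj xj9 yj19 zj34) (kj xj9 yj19 zj35) (kj xj12 yj25 zj11) (kj xj12 yj25 zj12) (kj xj12 yj25 zj13) (kj xj11 yj9 zj44) (kj xj11 yj9 zj45) (kj xj12 yj9 zj21) (kj xj12 yj9 zj23) (kj xj9 yj19 zj44) (kj xj9 yj19 zj45) (kj xj9 yj19 zj46)) (@D3.rec (fun _ => Pt) (kj xj9 yj19 zj47) (kj xj12 yj12 zj40) (kj xj12 yj12 zj39) (kj xj12 yj25 zj18) (kj xj11 yj23 zj10) (kj xj12 yj25 zj19) (kj xj9 yj19 zj50) (kj xj9 yj20 zj0) (kj xj12 yj25 zj25) (kj xj9 yj20 zj5) (kj xj12 yj17 zj26) (kj xj12 yj17 zj18) (kj xj12 yj17 zj30) (kj xj12 yj9 zj39) (kj xj12 yj9 zj40) (kj xj9 yj20 zj9) (kj xj9 yj20 zj10) (kj xj9 yj20 zj11) (kj xj12 yj25 zj34) (kj xj12 yj25 zj35) (kj xj12 yj25 zj36) (kj xj12 yj17 zj8) (kj xj12 yj25 zj37) (kj xj12 yj25 zj38) (kj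 xj9 yj20 zj15) (kj xj9 yj20 zj16) (kj xj9 yj20 zj17) (kj xj9 yj20 zj19) (kj xj9 yj20 zj20) (kj xj12 yj25 zj49) (kj xj12 yj25 zj50) (kj xj12 yj26 zj0) (kj xj12 yj17 zj7) (kj xj12 yj26 zj1) (kj xj12 yj26 zj2) (kj xj12 yj26 zj11) (kj xj12 yj17 zj9) (kj xj12 yj26 zj3) (kj xj11 yj10 zj38) (kj xj11 yj10 zj39) (kj xj11 yj10 zj40) (kj xj12 yj26 zj16) (kj xj11 yj10 zj42) (kj xj11 yj10 zj43) (kj xj9 yj20 zj27) (kj xj12 yj26 zj20) (kj xj11 yj10 zj46) (kj xj12 yj10 zj20) (kj xj12 yj10 zj21) (kj xj12 yj10 zj22) (kj xj9 yj20 zj35)) (@D3.rec (fun _ => Pt) (kj xj9 yj20 zj36) (kj xj9 yj20 zj37) (kj xj9 yj20 zj38) (kj xj9 yj20 zj39) (kj xj9 yj20 zj40) (kj xj12 yj12 zj42) (kj xj12 yj26 zj27) (kj xj12 yj26 zj28) (kj xj12 yj26 zj29) (kj xj12 yj26 zj30) (kj xj12 yj26 zj31)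 (kj xj12 yj26 zj32) (kj xj12 yj26 zj49) (kj xj12 yj26 zj34) (kj xj12 yj26 zj35) (kj xj9 yj20 zj47) (kj xj9 yj20 zj48) (kj xj9 yj20 zj49) (kj xj9 yj20 zj50) (kj xj9 yj21 zj0) (kj xj9 yj21 zj1) (kj xj13 yj0 zj10) (kj xj9 yj21 zj3) (kj xj9 yj21 zj4) (kj xj13 yj0 zj2) (kj xj13 yj0 zj3) (kj xj13 yj0 zj4) (kj xj13 yj0 zj5) (kj xj13 yj0 zj6) (kj xj13 yj0 zj20) (kj xj13 yj0 zj7) (kj xj13 yj0 zj8) (kj xj13 yj0 zj9) (kj xj9 yj21 zj2) (kj xj13 yj0 zj25) (kj xj13 yj0 zj12) (kj xj11 yj11 zj36) (kj xj11 yj11 zj37) (kj xj13 yj0 zj28) (kj xj11 yj11 zj39) (kj xj11 yj11 zj40) (kj xj11 yj11 zj41) (kj xj9 yj21 zj10) (kj xj13 yj0 zj32) (kj xj11 yj11 zj44) (kj xj11 yj11 zj45) (kj xj11 yj11 zj46) (kj xj9 yj21 zj15) (kj xj13 yj0 zj36) (kj xj9 yj21 zj17) (kj xj13 yj0 zj37)) (@D3.rec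 (fun _ => Pt) (kj xj9 yj21 zj20) (kj xj12 yj11 zj37) (kj xj9 yj21 zj31) (kj xj9 yj21 zj32) (kj xj9 yj21 zj33) (kj xj9 yj21 zj34) (kj xj12 yj12 zj43) (kj xj9 yj23 zj0) (kj xj12 yj8 zj46) (kj xj13 yj0 zj38) (kj xj13 yj0 zj39) (kj xj9 yj21 zj39) (kj xj9 yj21 zj41) (kj xj9 yj25 zj22) (kj xj9 yj26 zj32) (kj xj13 yj0 zj43) (kj xj12 yj12 zj19) (kj xj9 yj22 zj1) (kj xj12 yj6 zj18) (kj xj12 yj12 zj22) (kj xj9 yj22 zj12) (kj xj11 yj20 zj31) (kj xj11 yj20 zj46) (kj xj12 yj9 zj27) (kj xj9 yj22 zj26) (kj xj9 yj22 zj27) (kj xj9 yj22 zj28) (kj xj13 yj0 zj49) (kj xj13 yj0 zj50) (kj xj13 yj1 zj0) (kj xj13 yj1 zj1) (kj xj13 yj1 zj2) (kj xj12 yj11 zj47) (kj xj12 yj12 zj13) (kj xj9 yj22 zj34) (kj xj9 yj22 zj35) (kj xj9 yj22 zj36) (kj xj9 yj22 zj37) (kj xj12 yj12 zj46) (kj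 xj12 yj12 zj28) (kj xj13 yj1 zj11) (kj xj13 yj1 zj12) (kj xj13 yj1 zj13) (kj xj9 yj22 zj40) (kj xj9 yj22 zj41) (kj xj13 yj1 zj19) (kj xj12 yj9 zj28) (kj xj12 yj9 zj29) (kj xj12 yj26 zj38) (kj xj9 yj23 zj4) (kj xj13 yj1 zj22)) (@D3.rec (fun _ => Pt) (kj xj9 yj23 zj44) (kj xj9 yj24 zj10) (kj xj9 yj24 zj13) (kj xj11 yj16 zj19) (kj xj11 yj18 zj40) (kj xj9 yj24 zj34) (kj xj9 yj24 zj35) (kj xj9 yj24 zj36) (kj xj9 yj23 zj27) (kj xj11 yj18 zj41) (kj xj12 yj0 zj9) (kj xj13 yj1 zj29) (kj xj9 yj25 zj3) (kj xj9 yj23 zj32) (kj xj9 yj23 zj33) (kj xj12 yj0 zj19) (kj xj13 yj1 zj31) (kj xj12 yj0 zj36) (kj xj9 yj25 zj0) (kj xj9 yj25 zj1) (kj xj9 yj25 zj2) (kj xj11 yj17 zj17) (kj xj11 yj16 zj35) (kj xj11 yj18 zj18) (kj xj11 yj26 zj13) (kj xj11 yj25 zj27) (kj xj13 yj1 zj23)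 (kj xj11 yj18 zj34) (kj xj11 yj18 zj36) (kj xj11 yj17 zj45) (kj xj11 yj18 zj43) (kj xj12 yj13 zj46) (kj xj9 yj24 zj21) (kj xj11 yj24 zj41) (kj xj11 yj25 zj40) (kj xj11 yj24 zj39) (kj xj11 yj25 zj11) (kj xj11 yj26 zj22) (kj xj11 yj17 zj42) (kj xj11 yj17 zj47) (kj xj11 yj17 zj30) (kj xj12 yj19 zj50) (kj xj12 yj0 zj1) (kj xj11 yj21 zj18) (kj xj11 yj21 zj24) (kj xj11 yj21 zj25) (kj xj11 yj21 zj35) (kj xj11 yj21 zj49) (kj xj11 yj22 zj6) (kj xj9 yj24 zj32) (kj xj12 yj2 zj20)) (@D3.rec (fun _ => Pt) (kj xj11 yj19 zj38) (kj xj12 yj5 zj36) (kj xj13 yj1 zj25) (kj xj13 yj1 zj26) (kj xj13 yj1 zj27) (kj xj13 yj1 zj28) (kj xj9 yj24 zj42) (kj xj9 yj24 zj44) (kj xj12 yj6 zj20) (kj xj12 yj6 zj22) (kj xj12 yj15 zj43) (kj xj13 yj2 zj1) (kj xj12 yj14 zj48) (kj xj9 yj24 zj48)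 (kj xj9 yj24 zj49) (kj xj9 yj24 zj50) (kj xj13 yj2 zj6) (kj xj13 yj2 zj7) (kj xj13 yj2 zj8) (kj xj13 yj2 zj9) (kj xj13 yj1 zj34) (kj xj13 yj1 zj33) (kj xj13 yj1 zj32) (kj xj13 yj1 zj24) (kj xj11 yj14 zj24) (kj xj9 yj26 zj35) (kj xj11 yj16 zj43) (kj xj11 yj16 zj44) (kj xj9 yj25 zj10) (kj xj9 yj25 zj11) (kj xj9 yj25 zj12) (kj xj13 yj2 zj14) (kj xj13 yj2 zj15) (kj xj13 yj2 zj16) (kj xj11 yj14 zj34) (kj xj11 yj14 zj35) (kj xj11 yj14 zj36) (kj xj9 yj25 zj20) (kj xj9 yj25 zj28) (kj xj11 yj23 zj8) (kj xj12 yj12 zj45) (kj xj9 yj25 zj27) (kj xj11 yj22 zj31) (kj xj11 yj23 zj11) (kj xj9 yj26 zj3) (kj xj9 yj25 zj29) (kj xj13 yj2 zj11) (kj xj13 yj2 zj24) (kj xj9 yj25 zj41) (kj xj9 yj26 zj36) (kj xj9 yj26 zj38)) (@D3.rec (fun _ => Pt) (kj xj9 yj26 zj33) (kj xj9 yj26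 zj10) (kj xj11 yj21 zj43) (kj xj11 yj21 zj34) (kj xj11 yj21 zj47) (kj xj12 yj16 zj35) (kj xj11 yj22 zj14) (kj xj11 yj22 zj16) (kj xj9 yj26 zj6) (kj xj12 yj16 zj36) (kj xj11 yj22 zj15) (kj xj9 yj26 zj27) (kj xj9 yj26 zj2) (kj xj9 yj26 zj4) (kj xj9 yj26 zj5) (kj xj9 yj26 zj8) (kj xj9 yj26 zj9) (kj xj9 yj26 zj13) (kj xj13 yj2 zj42) (kj xj13 yj2 zj23) (kj xj13 yj2 zj13) (kj xj13 yj1 zj3) (kj xj13 yj2 zj43) (kj xj13 yj2 zj38) (kj xj9 yj26 zj7) (kj xj13 yj3 zj0) (kj xj13 yj2 zj44) (kj xj13 yj2 zj45) (kj xj13 yj2 zj29) (kj xj9 yj26 zj12) (kj xj13 yj2 zj40) (kj xj10 yj0 zj22) (kj xj11 yj15 zj32) (kj xj11 yj15 zj33) (kj xj9 yj26 zj17) (kj xj13 yj3 zj7) (kj xj11 yj15 zj36) (kj xj11 yj15 zj37) (kj xj9 yj26 zj22) (kj xj13 yj2 zj41) (kj xj11 yj15 zj40) (kj xj11 yj15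 zj41) (kj xj9 yj26 zj29) (kj xj12 yj9 zj6) (kj xj13 yj0 zj19) (kj xj13 yj2 zj28) (kj xj12 yj9 zj32) (kj xj13 yj2 zj26) (kj xj12 yj7 zj30) (kj xj11 yj20 zj12) (kj xj12 yj7 zj28)) (@D3.rec (fun _ => Pt) (kj xj12 yj17 zj24) (kj xj12 yj17 zj27) (kj xj12 yj17 zj31) (kj xj10 yj0 zj8) (kj xj13 yj3 zj18) (kj xj10 yj0 zj11) (kj xj12 yj6 zj14) (kj xj12 yj6 zj19) (kj xj11 yj20 zj38) (kj xj11 yj21 zj0) (kj xj10 yj0 zj23) (kj xj10 yj0 zj24) (kj xj13 yj3 zj5) (kj xj13 yj3 zj21) (kj xj10 yj11 zj50) (kj xj10 yj0 zj38) (kj xj10 yj0 zj39) (kj xj10 yj11 zj47) (kj xj11 yj4 zj5) (kj xj11 yj13 zj3) (kj xj10 yj13 zj45) (kj xj11 yj3 zj31) (kj xj11 yj3 zj32) (kj xj10 yj0 zj37) (kj xj13 yj3 zj29) (kj xj13 yj3 zj25) (kj xj13 yj3 zj26) (kj xj11 yj16 zj27) (kj xj11 yj16 zj28) (kj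 xj10 yj0 zj44) (kj xj13 yj3 zj33) (kj xj11 yj16 zj31) (kj xj11 yj16 zj32) (kj xj13 yj3 zj36) (kj xj11 yj5 zj49) (kj xj11 yj13 zj22) (kj xj10 yj1 zj0) (kj xj13 yj3 zj39) (kj xj11 yj16 zj38) (kj xj10 yj1 zj4) (kj xj13 yj3 zj41) (kj xj11 yj16 zj41) (kj xj11 yj16 zj42) (kj xj11 yj14 zj26) (kj xj11 yj14 zj27) (kj xj11 yj16 zj45) (kj xj10 yj25 zj48) (kj xj10 yj25 zj49) (kj xj10 yj25 zj50) (kj xj10 yj1 zj18) (kj xj10 yj1 zj19)) (@D3.rec (fun _ => Pt) (kj xj10 yj1 zj20) (kj xj13 yj3 zj48) (kj xj13 yj3 zj49) (kj xj13 yj3 zj50) (kj xj11 yj17 zj4) (kj xj11 yj17 zj5) (kj xj11 yj17 zj6) (kj xj10 yj2 zj27) (kj xj10 yj2 zj28) (kj xj10 yj1 zj37) (kj xj11 yj6 zj13) (kj xj10 yj24 zj25) (kj xj10 yj2 zj34) (kj xj10 yj2 zj35) (kj xj10 yj2 zj36) (kj xj10 yj1 zj41) (kj xj10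 yj12 zj36) (kj xj11 yj13 zj21) (kj xj10 yj2 zj41) (kj xj10 yj2 zj42) (kj xj10 yj3 zj1) (kj xj10 yj3 zj14) (kj xj10 yj3 zj15) (kj xj10 yj3 zj20) (kj xj10 yj3 zj28) (kj xj10 yj11 zj37) (kj xj10 yj3 zj33) (kj xj10 yj3 zj34) (kj xj10 yj2 zj9) (kj xj10 yj24 zj18) (kj xj11 yj13 zj40) (kj xj10 yj3 zj43) (kj xj10 yj3 zj44) (kj xj10 yj24 zj23) (kj xj10 yj4 zj5) (kj xj10 yj4 zj6) (kj xj10 yj4 zj7) (kj xj10 yj4 zj8) (kj xj10 yj13 zj31) (kj xj10 yj4 zj13) (kj xj10 yj4 zj14) (kj xj10 yj2 zj20) (kj xj11 yj13 zj38) (kj xj10 yj4 zj17) (kj xj10 yj2 zj24) (kj xj11 yj13 zj29) (kj xj11 yj6 zj46) (kj xj11 yj13 zj39) (kj xj11 yj3 zj50) (kj xj13 yj4 zj3) (kj xj13 yj4 zj4)) (@D3.rec (fun _ => Pt) (kj xj10 yj3 zj21) (kj xj10 yj2 zj30) (kj xj13 yj4 zj36) (kj xj13 yj4 zj37) (kj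 xj10 yj2 zj32) (kj xj10 yj2 zj33) (kj xj11 yj6 zj16) (kj xj13 yj4 zj41) (kj xj13 yj4 zj42) (kj xj10 yj10 zj40) (kj xj13 yj4 zj7) (kj xj13 yj4 zj8) (kj xj13 yj4 zj9) (kj xj13 yj4 zj10) (kj xj10 yj2 zj39) (kj xj10 yj2 zj40) (kj xj13 yj5 zj4) (kj xj13 yj5 zj5) (kj xj11 yj13 zj23) (kj xj13 yj4 zj12) (kj xj10 yj2 zj46) (kj xj10 yj24 zj50) (kj xj10 yj25 zj26) (kj xj11 yj3 zj37) (kj xj10 yj25 zj36) (kj xj10 yj10 zj11) (kj xj10 yj10 zj41) (kj xj10 yj24 zj12) (kj xj11 yj3 zj30) (kj xj10 yj25 zj44) (kj xj10 yj10 zj24) (kj xj10 yj9 zj39) (kj xj10 yj3 zj10) (kj xj10 yj3 zj11) (kj xj11 yj13 zj27) (kj xj11 yj6 zj33) (kj xj11 yj13 zj28) (kj xj11 yj3 zj41) (kj xj13 yj4 zj13) (kj xj11 yj4 zj7) (kj xj11 yj13 zj4) (kj xj11 yj13 zj9) (kj xj11 yj6 zj35) (kj xj11 yj13 zj30)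 (kj xj11 yj6 zj36) (kj xj11 yj3 zj38) (kj xj11 yj3 zj42) (kj xj13 yj4 zj14) (kj xj10 yj13 zj28) (kj xj11 yj4 zj4) (kj xj11 yj4 zj8)) (@D3.rec (fun _ => Pt) (kj xj10 yj3 zj32) (kj xj13 yj5 zj30) (kj xj13 yj4 zj16) (kj xj10 yj3 zj39) (kj xj13 yj5 zj32) (kj xj13 yj5 zj33) (kj xj10 yj3 zj41) (kj xj10 yj3 zj42) (kj xj11 yj5 zj28) (kj xj13 yj5 zj36) (kj xj11 yj3 zj39) (kj xj13 yj4 zj18) (kj xj13 yj4 zj19) (kj xj10 yj3 zj47) (kj xj10 yj3 zj48) (kj xj10 yj24 zj20) (kj xj13 yj5 zj43) (kj xj13 yj5 zj44) (kj xj10 yj4 zj2) (kj xj10 yj24 zj22) (kj xj11 yj5 zj36) (kj xj11 yj5 zj40) (kj xj13 yj5 zj50) (kj xj11 yj3 zj16) (kj xj11 yj3 zj24) (kj xj11 yj3 zj27) (kj xj13 yj4 zj21) (kj xj13 yj6 zj8) (kj xj13 yj4 zj23) (kj xj13 yj4 zj24) (kj xj13 yj6 zj12) (kj xj11 yj5 zj48)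 (kj xj11 yj6 zj1) (kj xj10 yj4 zj12) (kj xj13 yj6 zj16) (kj xj13 yj4 zj26) (kj xj13 yj4 zj27) (kj xj10 yj4 zj16) (kj xj11 yj14 zj0) (kj xj10 yj24 zj21) (kj xj10 yj4 zj24) (kj xj13 yj6 zj20) (kj xj10 yj6 zj0) (kj xj10 yj4 zj26) (kj xj13 yj6 zj24) (kj xj13 yj6 zj25) (kj xj10 yj4 zj28) (kj xj10 yj4 zj29) (kj xj13 yj6 zj29) (kj xj13 yj6 zj30) (kj xj13 yj6 zj31)) (@D3.rec (fun _ => Pt) (kj xj11 yj20 zj0) (kj xj11 yj20 zj1) (kj xj11 yj20 zj2) (kj xj10 yj25 zj30) (kj xj10 yj4 zj35) (kj xj10 yj4 zj36) (kj xj13 yj6 zj40) (kj xj13 yj6 zj41) (kj xj13 yj6 zj42) (kj xj10 yj4 zj39) (kj xj10 yj4 zj40) (kj xj10 yj4 zj41) (kj xj11 yj15 zj49) (kj xj13 yj6 zj49) (kj xj13 yj6 zj50) (kj xj13 yj7 zj0) (kj xj13 yj7 zj1) (kj xj13 yj7 zj2) (kj xj11 yj20 zj18) (kj xj11 yj20 zj19)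 (kj xj11 yj20 zj20) (kj xj11 yj20 zj21) (kj xj10 yj4 zj49) (kj xj10 yj4 zj50) (kj xj10 yj5 zj0) (kj xj13 yj7 zj14) (kj xj13 yj7 zj15) (kj xj11 yj20 zj27) (kj xj10 yj25 zj32) (kj xj10 yj5 zj5) (kj xj10 yj5 zj7) (kj xj11 yj12 zj21) (kj xj11 yj2 zj18) (kj xj13 yj7 zj19) (kj xj11 yj2 zj19) (kj xj13 yj7 zj20) (kj xj10 yj5 zj11) (kj xj10 yj5 zj12) (kj xj11 yj16 zj8) (kj xj13 yj7 zj27) (kj xj11 yj20 zj40) (kj xj11 yj20 zj41) (kj xj11 yj20 zj42) (kj xj10 yj5 zj21) (kj xj10 yj5 zj23) (kj xj10 yj23 zj26) (kj xj11 yj12 zj22) (kj xj10 yj22 zj19) (kj xj13 yj7 zj33) (kj xj11 yj2 zj41) (kj xj10 yj5 zj27)) (@D3.rec (fun _ => Pt) (kj xj11 yj16 zj9) (kj xj13 yj7 zj38) (kj xj11 yj21 zj2) (kj xj11 yj21 zj3) (kj xj11 yj21 zj4) (kj xj10 yj5 zj31) (kj xj13 yj7 zj41) (kj xj10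 yj5 zj33) (kj xj13 yj7 zj44) (kj xj13 yj7 zj45) (kj xj11 yj21 zj10) (kj xj10 yj12 zj39) (kj xj10 yj5 zj37) (kj xj13 yj7 zj49) (kj xj13 yj7 zj50) (kj xj10 yj5 zj39) (kj xj10 yj5 zj40) (kj xj13 yj8 zj3) (kj xj11 yj13 zj43) (kj xj13 yj8 zj4) (kj xj11 yj21 zj20) (kj xj11 yj21 zj21) (kj xj11 yj21 zj22) (kj xj11 yj7 zj12) (kj xj11 yj13 zj44) (kj xj11 yj13 zj45) (kj xj11 yj21 zj26) (kj xj11 yj21 zj27) (kj xj13 yj6 zj23) (kj xj10 yj6 zj2) (kj xj13 yj8 zj16) (kj xj13 yj8 zj17) (kj xj10 yj6 zj4) (kj xj10 yj6 zj5) (kj xj11 yj15 zj3) (kj xj11 yj13 zj46) (kj xj13 yj8 zj21) (kj xj11 yj21 zj37) (kj xj11 yj21 zj38) (kj xj11 yj21 zj39) (kj xj11 yj0 zj14) (kj xj10 yj6 zj11) (kj xj10 yj6 zj12) (kj xj11 yj15 zj2) (kj xj13 yj8 zj30) (kj xj13 yj8 zj31) (kj xj10 yj6 zj17) (kj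 xj11 yj15 zj4) (kj xj11 yj7 zj14) (kj xj11 yj13 zj47) (kj xj13 yj8 zj37)) (@D3.rec (fun _ => Pt) (kj xj11 yj22 zj0) (kj xj13 yj8 zj43) (kj xj11 yj22 zj2) (kj xj11 yj22 zj3) (kj xj13 yj8 zj47) (kj xj11 yj7 zj15) (kj xj11 yj13 zj48) (kj xj10 yj6 zj25) (kj xj13 yj9 zj0) (kj xj11 yj22 zj9) (kj xj11 yj22 zj10) (kj xj10 yj6 zj29) (kj xj13 yj9 zj3) (kj xj11 yj0 zj37) (kj xj11 yj15 zj6) (kj xj11 yj15 zj10) (kj xj11 yj15 zj7) (kj xj11 yj22 zj17) (kj xj10 yj6 zj39) (kj xj13 yj9 zj6) (kj xj13 yj9 zj7) (kj xj11 yj1 zj6) (kj xj10 yj6 zj42) (kj xj10 yj6 zj43) (kj xj13 yj9 zj13) (kj xj13 yj9 zj14) (kj xj13 yj9 zj15) (kj xj10 yj6 zj46) (kj xj10 yj6 zj47) (kj xj10 yj6 zj48) (kj xj13 yj9 zj22) (kj xj11 yj14 zj42) (kj xj13 yj9 zj23) (kj xj13 yj9 zj24) (kj xj13 yj9 zj25)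 (kj xj13 yj9 zj26) (kj xj11 yj22 zj36) (kj xj11 yj22 zj37) (kj xj11 yj22 zj38) (kj xj13 yj9 zj37) (kj xj11 yj22 zj40) (kj xj11 yj22 zj41) (kj xj11 yj1 zj27) (kj xj11 yj1 zj28) (kj xj10 yj7 zj7) (kj xj10 yj7 zj8) (kj xj10 yj7 zj9) (kj xj13 yj9 zj43) (kj xj13 yj9 zj44) (kj xj13 yj9 zj45) (kj xj13 yj9 zj46)) (@D3.rec (fun _ => Pt) (kj xj13 yj9 zj47) (kj xj13 yj9 zj48) (kj xj10 yj7 zj13) (kj xj10 yj7 zj15) (kj xj10 yj7 zj16) (kj xj10 yj7 zj17) (kj xj10 yj7 zj18) (kj xj13 yj10 zj8) (kj xj11 yj14 zj39) (kj xj13 yj10 zj9) (kj xj11 yj10 zj4) (kj xj11 yj14 zj43) (kj xj13 yj10 zj10) (kj xj13 yj10 zj22) (kj xj13 yj10 zj12) (kj xj13 yj10 zj13) (kj xj11 yj23 zj16) (kj xj11 yj23 zj17) (kj xj11 yj23 zj18) (kj xj13 yj10 zj29) (kj xj11 yj23 zj20) (kj xj11 yj23 zj21) (kj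 xj11 yj23 zj22) (kj xj10 yj7 zj25) (kj xj13 yj10 zj33) (kj xj11 yj23 zj25) (kj xj11 yj23 zj26) (kj xj13 yj10 zj37) (kj xj10 yj7 zj32) (kj xj10 yj7 zj33) (kj xj10 yj7 zj31) (kj xj13 yj10 zj41) (kj xj13 yj10 zj39) (kj xj13 yj10 zj40) (kj xj10 yj7 zj35) (kj xj13 yj10 zj45) (kj xj11 yj23 zj36) (kj xj11 yj23 zj37) (kj xj10 yj7 zj39) (kj xj10 yj7 zj43) (kj xj10 yj7 zj45) (kj xj10 yj7 zj47) (kj xj13 yj10 zj49) (kj xj10 yj26 zj24) (kj xj13 yj10 zj50) (kj xj10 yj26 zj13) (kj xj10 yj26 zj25) (kj xj13 yj11 zj0) (kj xj10 yj26 zj26) (kj xj10 yj8 zj0) (kj xj10 yj8 zj1)) (@D3.rec (fun _ => Pt) (kj xj10 yj8 zj2) (kj xj13 yj11 zj10) (kj xj13 yj11 zj11) (kj xj13 yj11 zj12) (kj xj11 yj24 zj4) (kj xj11 yj24 zj5) (kj xj11 yj24 zj6) (kj xj10 yj8 zj9) (kj xj10 yj8 zj11) (kj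 xj10 yj8 zj13) (kj xj10 yj26 zj36) (kj xj13 yj11 zj18) (kj xj10 yj26 zj37) (kj xj13 yj11 zj19) (kj xj10 yj26 zj38) (kj xj13 yj11 zj20) (kj xj10 yj8 zj18) (kj xj10 yj8 zj19) (kj xj10 yj8 zj20) (kj xj13 yj11 zj25) (kj xj13 yj11 zj26) (kj xj13 yj11 zj27) (kj xj10 yj11 zj20) (kj xj10 yj11 zj21) (kj xj10 yj11 zj24) (kj xj10 yj11 zj29) (kj xj10 yj11 zj30) (kj xj10 yj11 zj32) (kj xj10 yj11 zj38) (kj xj10 yj11 zj39) (kj xj10 yj8 zj40) (kj xj11 yj5 zj25) (kj xj10 yj12 zj0) (kj xj10 yj12 zj1) (kj xj10 yj8 zj44) (kj xj13 yj11 zj34) (kj xj10 yj12 zj7) (kj xj10 yj12 zj8) (kj xj10 yj8 zj47) (kj xj11 yj13 zj35) (kj xj10 yj8 zj49) (kj xj11 yj13 zj33) (kj xj10 yj12 zj14) (kj xj10 yj12 zj15) (kj xj10 yj9 zj0) (kj xj13 yj11 zj43) (kj xj10 yj9 zj2) (kj xj10 yj13 zj7) (kj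 xj13 yj11 zj46) (kj xj10 yj12 zj21) (kj xj10 yj12 zj22)) (@D3.rec (fun _ => Pt) (kj xj10 yj12 zj23) (kj xj10 yj9 zj6) (kj xj10 yj12 zj27) (kj xj10 yj12 zj28) (kj xj10 yj14 zj0) (kj xj10 yj9 zj11) (kj xj13 yj5 zj15) (kj xj10 yj9 zj13) (kj xj10 yj12 zj37) (kj xj10 yj12 zj38) (kj xj11 yj6 zj43) (kj xj11 yj13 zj36) (kj xj10 yj12 zj45) (kj xj10 yj12 zj46) (kj xj10 yj12 zj47) (kj xj10 yj9 zj22) (kj xj11 yj6 zj11) (kj xj13 yj5 zj13) (kj xj10 yj9 zj24) (kj xj10 yj9 zj25) (kj xj13 yj12 zj9) (kj xj10 yj13 zj6) (kj xj10 yj13 zj8) (kj xj10 yj13 zj9) (kj xj10 yj13 zj10) (kj xj10 yj13 zj11) (kj xj10 yj9 zj31) (kj xj11 yj13 zj25) (kj xj10 yj13 zj17) (kj xj10 yj13 zj18) (kj xj10 yj13 zj20) (kj xj10 yj9 zj42) (kj xj11 yj5 zj24) (kj xj10 yj13 zj32) (kj xj10 yj13 zj33) (kj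 xj10 yj13 zj48) (kj xj10 yj13 zj49) (kj xj10 yj14 zj4) (kj xj10 yj14 zj5) (kj xj11 yj6 zj41) (kj xj11 yj13 zj34) (kj xj10 yj14 zj11) (kj xj10 yj14 zj12) (kj xj10 yj10 zj7) (kj xj13 yj12 zj25) (kj xj13 yj12 zj26) (kj xj10 yj14 zj20) (kj xj10 yj14 zj21) (kj xj10 yj14 zj22) (kj xj10 yj12 zj2) (kj xj13 yj4 zj49)) (@D3.rec (fun _ => Pt) (kj xj13 yj5 zj12) (kj xj10 yj10 zj13) (kj xj10 yj10 zj14) (kj xj11 yj5 zj7) (kj xj11 yj5 zj42) (kj xj13 yj12 zj35) (kj xj10 yj14 zj32) (kj xj10 yj14 zj33) (kj xj10 yj14 zj34) (kj xj10 yj14 zj35) (kj xj10 yj14 zj36) (kj xj10 yj15 zj3) (kj xj11 yj6 zj2) (kj xj11 yj13 zj24) (kj xj10 yj14 zj42) (kj xj11 yj4 zj36) (kj xj11 yj5 zj19) (kj xj11 yj5 zj23) (kj xj10 yj15 zj4) (kj xj10 yj15 zj5) (kj xj10 yj10 zj32) (kj xj13 yj4 zj32) (kj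 xj11 yj13 zj37) (kj xj10 yj10 zj34) (kj xj10 yj10 zj35) (kj xj11 yj4 zj43) (kj xj11 yj5 zj30) (kj xj13 yj13 zj1) (kj xj10 yj15 zj17) (kj xj10 yj15 zj18) (kj xj10 yj15 zj19) (kj xj10 yj15 zj20) (kj xj10 yj15 zj21) (kj xj10 yj15 zj22) (kj xj13 yj4 zj50) (kj xj13 yj5 zj0) (kj xj10 yj10 zj46) (kj xj11 yj5 zj8) (kj xj11 yj5 zj9) (kj xj11 yj5 zj43) (kj xj13 yj13 zj12) (kj xj10 yj15 zj38) (kj xj10 yj15 zj39) (kj xj10 yj15 zj40) (kj xj10 yj15 zj41) (kj xj10 yj15 zj42) (kj xj10 yj15 zj43) (kj xj13 yj4 zj33) (kj xj10 yj15 zj45) (kj xj10 yj15 zj46) (kj xj11 yj6 zj3))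
def f_j_12 : D2 → D3 → Pt := @D2.rec (fun _ => D3 → Pt) (@D3.rec (fun _ => Pt) (kj xj10 yj11 zj4) (kj xj11 yj13 zj42) (kj xj10 yj16 zj4) (kj xj10 yj16 zj5) (kj xj11 yj5 zj20) (kj xj10 yj16 zj22) (kj xj10 yj16 zj23) (kj xj10 yj16 zj24) (kj xj10 yj16 zj35) (kj xj11 yj13 zj10) (kj xj10 yj11 zj36) (kj xj13 yj11 zj28) (kj xj10 yj11 zj27) (kj xj13 yj11 zj29) (kj xj10 yj12 zj31) (kj xj10 yj12 zj35) (kj xj13 yj13 zj33) (kj xj11 yj4 zj14) (kj xj13 yj11 zj30) (kj xj11 yj13 zj15) (kj xj13 yj11 zj31) (kj xj10 yj16 zj40) (kj xj10 yj12 zj26) (kj xj13 yj13 zj32) (kj xj13 yj4 zj15) (kj xj13 yj11 zj32) (kj xj10 yj11 zj44) (kj xj10 yj22 zj25) (kj xj10 yj18 zj41) (kj xj13 yj7 zj40) (kj xj10 yj11 zj48) (kj xj10 yj11 zj49) (kj xj13 yj3 zj27) (kj xj11 yj7 zj43) (kj xj13 yj3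 zj24) (kj xj13 yj11 zj33) (kj xj11 yj13 zj17) (kj xj13 yj5 zj10) (kj xj11 yj3 zj25) (kj xj10 yj12 zj4) (kj xj13 yj13 zj41) (kj xj10 yj12 zj6) (kj xj13 yj13 zj44) (kj xj13 yj13 zj45) (kj xj13 yj11 zj37) (kj xj10 yj12 zj10) (kj xj10 yj12 zj11) (kj xj13 yj13 zj48) (kj xj10 yj12 zj13) (kj xj13 yj14 zj0) (kj xj13 yj14 zj1)) (@D3.rec (fun _ => Pt) (kj xj13 yj11 zj40) (kj xj13 yj11 zj41) (kj xj13 yj11 zj42) (kj xj10 yj14 zj1) (kj xj10 yj12 zj17) (kj xj13 yj14 zj9) (kj xj13 yj14 zj10) (kj xj10 yj12 zj19) (kj xj10 yj12 zj20) (kj xj10 yj13 zj4) (kj xj10 yj13 zj3) (kj xj13 yj14 zj14) (kj xj13 yj4 zj5) (kj xj13 yj11 zj48) (kj xj13 yj11 zj49) (kj xj13 yj11 zj50) (kj xj10 yj13 zj24) (kj xj10 yj13 zj29) (kj xj13 yj13 zj38) (kj xj13 yj12 zj0) (kj xj10 yj25 zj39) (kj xj10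 yj12 zj32) (kj xj10 yj13 zj13) (kj xj13 yj13 zj34) (kj xj10 yj13 zj14) (kj xj13 yj13 zj35) (kj xj13 yj4 zj11) (kj xj13 yj12 zj1) (kj xj13 yj7 zj48) (kj xj10 yj12 zj41) (kj xj13 yj14 zj32) (kj xj13 yj14 zj33) (kj xj10 yj12 zj43) (kj xj10 yj12 zj44) (kj xj13 yj14 zj3) (kj xj13 yj14 zj2) (kj xj13 yj14 zj37) (kj xj13 yj12 zj3) (kj xj13 yj11 zj38) (kj xj13 yj12 zj4) (kj xj13 yj12 zj5) (kj xj13 yj12 zj6) (kj xj13 yj12 zj7) (kj xj10 yj25 zj29) (kj xj10 yj12 zj50) (kj xj10 yj13 zj0) (kj xj13 yj14 zj16) (kj xj13 yj15 zj0) (kj xj13 yj15 zj1) (kj xj10 yj13 zj5) (kj xj13 yj5 zj25)) (@D3.rec (fun _ => Pt) (kj xj13 yj14 zj17) (kj xj13 yj14 zj11) (kj xj13 yj14 zj15) (kj xj13 yj15 zj8) (kj xj13 yj4 zj22) (kj xj13 yj11 zj35) (kj xj13 yj12 zj11) (kj xj13 yj11 zj44) (kj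 xj13 yj11 zj47) (kj xj13 yj12 zj12) (kj xj11 yj6 zj32) (kj xj13 yj12 zj13) (kj xj13 yj12 zj14) (kj xj10 yj13 zj15) (kj xj11 yj7 zj11) (kj xj13 yj14 zj26) (kj xj13 yj14 zj28) (kj xj11 yj7 zj20) (kj xj13 yj12 zj15) (kj xj13 yj12 zj16) (kj xj11 yj13 zj50) (kj xj10 yj25 zj40) (kj xj10 yj13 zj25) (kj xj10 yj13 zj26) (kj xj11 yj7 zj5) (kj xj10 yj17 zj24) (kj xj13 yj14 zj22) (kj xj13 yj15 zj30) (kj xj13 yj15 zj31) (kj xj10 yj13 zj30) (kj xj13 yj5 zj28) (kj xj13 yj14 zj23) (kj xj13 yj4 zj25) (kj xj13 yj12 zj17) (kj xj13 yj12 zj18) (kj xj10 yj13 zj40) (kj xj10 yj13 zj41) (kj xj11 yj5 zj45) (kj xj10 yj23 zj34) (kj xj11 yj7 zj6) (kj xj10 yj22 zj18) (kj xj11 yj7 zj26) (kj xj13 yj7 zj37) (kj xj10 yj13 zj46) (kj xj13 yj3 zj28) (kj xj11 yj7 zj42) (kj xj13 yj12 zj19)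 (kj xj11 yj4 zj15) (kj xj13 yj14 zj8) (kj xj10 yj14 zj3) (kj xj13 yj15 zj17)) (@D3.rec (fun _ => Pt) (kj xj13 yj15 zj47) (kj xj13 yj12 zj20) (kj xj10 yj14 zj7) (kj xj13 yj15 zj50) (kj xj13 yj16 zj0) (kj xj10 yj14 zj9) (kj xj10 yj14 zj10) (kj xj13 yj14 zj46) (kj xj13 yj16 zj4) (kj xj13 yj12 zj22) (kj xj13 yj12 zj23) (kj xj13 yj12 zj24) (kj xj10 yj14 zj14) (kj xj13 yj16 zj10) (kj xj10 yj14 zj16) (kj xj13 yj16 zj13) (kj xj13 yj16 zj14) (kj xj10 yj14 zj18) (kj xj10 yj14 zj19) (kj xj13 yj16 zj18) (kj xj13 yj16 zj5) (kj xj13 yj16 zj19) (kj xj13 yj12 zj29) (kj xj13 yj12 zj30) (kj xj13 yj12 zj31) (kj xj13 yj12 zj32) (kj xj13 yj12 zj33) (kj xj11 yj5 zj33) (kj xj10 yj14 zj25) (kj xj10 yj14 zj26) (kj xj13 yj16 zj32) (kj xj13 yj16 zj33) (kj xj13 yj16 zj34) (kj xj10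 yj14 zj29) (kj xj10 yj14 zj30) (kj xj10 yj14 zj31) (kj xj13 yj16 zj21) (kj xj13 yj16 zj20) (kj xj13 yj16 zj41) (kj xj13 yj16 zj42) (kj xj13 yj16 zj43) (kj xj13 yj16 zj44) (kj xj13 yj12 zj37) (kj xj13 yj12 zj27) (kj xj13 yj12 zj40) (kj xj13 yj12 zj41) (kj xj13 yj12 zj42) (kj xj13 yj12 zj43) (kj xj10 yj14 zj39) (kj xj10 yj14 zj40) (kj xj10 yj14 zj41)) (@D3.rec (fun _ => Pt) (kj xj13 yj17 zj8) (kj xj13 yj17 zj9) (kj xj13 yj12 zj46) (kj xj11 yj5 zj46) (kj xj10 yj14 zj46) (kj xj10 yj14 zj47) (kj xj10 yj14 zj48) (kj xj13 yj17 zj13) (kj xj13 yj17 zj14) (kj xj13 yj17 zj15) (kj xj13 yj17 zj16) (kj xj10 yj15 zj0) (kj xj10 yj15 zj1) (kj xj10 yj15 zj2) (kj xj11 yj4 zj33) (kj xj13 yj17 zj20) (kj xj13 yj17 zj21) (kj xj13 yj12 zj44) (kj xj13 yj12 zj49) (kj xj13 yj12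 zj50) (kj xj10 yj15 zj7) (kj xj13 yj17 zj28) (kj xj13 yj17 zj29) (kj xj10 yj25 zj21) (kj xj10 yj15 zj10) (kj xj10 yj15 zj11) (kj xj13 yj17 zj35) (kj xj13 yj17 zj36) (kj xj13 yj17 zj37) (kj xj10 yj15 zj14) (kj xj10 yj15 zj15) (kj xj10 yj15 zj16) (kj xj11 yj4 zj41) (kj xj13 yj16 zj45) (kj xj13 yj17 zj44) (kj xj13 yj17 zj45) (kj xj13 yj17 zj46) (kj xj13 yj17 zj47) (kj xj13 yj13 zj5) (kj xj13 yj13 zj6) (kj xj13 yj13 zj7) (kj xj13 yj4 zj44) (kj xj13 yj13 zj8) (kj xj13 yj13 zj9) (kj xj11 yj6 zj18) (kj xj11 yj6 zj19) (kj xj10 yj15 zj26) (kj xj10 yj15 zj27) (kj xj10 yj15 zj28) (kj xj11 yj4 zj49) (kj xj13 yj18 zj12)) (@D3.rec (fun _ => Pt) (kj xj13 yj18 zj13) (kj xj13 yj18 zj14) (kj xj13 yj18 zj15) (kj xj13 yj18 zj16) (kj xj10 yj15 zj33) (kj xj10 yj15 zj34) (kj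 xj10 yj15 zj35) (kj xj10 yj15 zj36) (kj xj10 yj15 zj37) (kj xj11 yj4 zj26) (kj xj11 yj5 zj2) (kj xj11 yj5 zj3) (kj xj13 yj18 zj27) (kj xj13 yj18 zj28) (kj xj13 yj18 zj29) (kj xj13 yj18 zj40) (kj xj13 yj18 zj30) (kj xj13 yj18 zj31) (kj xj13 yj13 zj16) (kj xj13 yj13 zj17) (kj xj13 yj13 zj18) (kj xj13 yj4 zj30) (kj xj13 yj13 zj19) (kj xj13 yj13 zj20) (kj xj13 yj13 zj21) (kj xj10 yj15 zj44) (kj xj13 yj19 zj0) (kj xj13 yj13 zj23) (kj xj13 yj13 zj24) (kj xj10 yj16 zj0) (kj xj10 yj16 zj1) (kj xj10 yj15 zj50) (kj xj13 yj19 zj6) (kj xj13 yj19 zj4) (kj xj13 yj19 zj5) (kj xj10 yj16 zj3) (kj xj11 yj14 zj1) (kj xj13 yj13 zj26) (kj xj13 yj13 zj27) (kj xj10 yj16 zj13) (kj xj10 yj16 zj14) (kj xj10 yj16 zj15) (kj xj10 yj16 zj16) (kj xj11 yj4 zj31) (kj xj11 yj5 zj14) (kj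 xj11 yj5 zj15) (kj xj13 yj19 zj13) (kj xj13 yj19 zj14) (kj xj13 yj19 zj15) (kj xj13 yj19 zj16) (kj xj10 yj16 zj21)) (@D3.rec (fun _ => Pt) (kj xj11 yj4 zj34) (kj xj11 yj5 zj18) (kj xj13 yj19 zj27) (kj xj13 yj13 zj29) (kj xj13 yj13 zj30) (kj xj13 yj13 zj31) (kj xj10 yj16 zj32) (kj xj10 yj22 zj28) (kj xj11 yj4 zj32) (kj xj11 yj5 zj16) (kj xj11 yj5 zj17) (kj xj11 yj5 zj22) (kj xj13 yj7 zj36) (kj xj11 yj4 zj35) (kj xj11 yj16 zj6) (kj xj13 yj13 zj37) (kj xj10 yj16 zj47) (kj xj11 yj7 zj32) (kj xj11 yj12 zj18) (kj xj11 yj16 zj7) (kj xj11 yj14 zj8) (kj xj12 yj6 zj21) (kj xj11 yj14 zj9) (kj xj12 yj6 zj23) (kj xj10 yj17 zj5) (kj xj13 yj19 zj38) (kj xj13 yj19 zj39) (kj xj10 yj17 zj7) (kj xj10 yj17 zj8) (kj xj13 yj19 zj43) (kj xj13 yj19 zj44) (kj xj12 yj6 zj31) (kj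 xj12 yj6 zj32) (kj xj11 yj7 zj48) (kj xj10 yj17 zj14) (kj xj10 yj17 zj15) (kj xj13 yj19 zj50) (kj xj13 yj20 zj0) (kj xj10 yj17 zj18) (kj xj10 yj17 zj19) (kj xj13 yj15 zj33) (kj xj13 yj20 zj4) (kj xj13 yj20 zj5) (kj xj12 yj6 zj43) (kj xj10 yj17 zj25) (kj xj10 yj17 zj26) (kj xj13 yj15 zj34) (kj xj13 yj20 zj9) (kj xj12 yj6 zj48) (kj xj11 yj8 zj4) (kj xj10 yj17 zj31)) (@D3.rec (fun _ => Pt) (kj xj13 yj20 zj12) (kj xj13 yj20 zj13) (kj xj11 yj8 zj7) (kj xj10 yj17 zj34) (kj xj10 yj17 zj35) (kj xj13 yj20 zj19) (kj xj13 yj20 zj20) (kj xj10 yj17 zj38) (kj xj10 yj17 zj39) (kj xj13 yj20 zj24) (kj xj13 yj20 zj25) (kj xj13 yj20 zj26) (kj xj12 yj7 zj12) (kj xj11 yj8 zj18) (kj xj11 yj8 zj19) (kj xj10 yj17 zj45) (kj xj10 yj17 zj46) (kj xj10 yj17 zj47) (kj xj11 yj9 zj20)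 (kj xj13 yj20 zj33) (kj xj13 yj20 zj34) (kj xj13 yj20 zj35) (kj xj13 yj20 zj36) (kj xj13 yj20 zj37) (kj xj10 yj18 zj2) (kj xj10 yj18 zj3) (kj xj10 yj18 zj4) (kj xj10 yj18 zj5) (kj xj11 yj15 zj50) (kj xj11 yj8 zj5) (kj xj11 yj15 zj48) (kj xj13 yj20 zj47) (kj xj13 yj21 zj2) (kj xj13 yj20 zj48) (kj xj13 yj20 zj49) (kj xj12 yj7 zj35) (kj xj12 yj7 zj36) (kj xj10 yj18 zj9) (kj xj13 yj21 zj6) (kj xj12 yj7 zj39) (kj xj12 yj7 zj40) (kj xj13 yj19 zj17) (kj xj10 yj18 zj16) (kj xj10 yj18 zj17) (kj xj10 yj18 zj15) (kj xj13 yj21 zj13) (kj xj13 yj21 zj11) (kj xj13 yj21 zj12) (kj xj10 yj18 zj19) (kj xj13 yj21 zj17) (kj xj12 yj7 zj50)) (@D3.rec (fun _ => Pt) (kj xj12 yj8 zj0) (kj xj10 yj18 zj23) (kj xj11 yj8 zj47) (kj xj11 yj8 zj48) (kj xj10 yj18 zj31) (kj xj10 yj18 zj32)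 (kj xj11 yj9 zj21) (kj xj11 yj8 zj14) (kj xj11 yj9 zj18) (kj xj10 yj18 zj44) (kj xj13 yj21 zj21) (kj xj13 yj21 zj22) (kj xj10 yj18 zj46) (kj xj10 yj18 zj47) (kj xj13 yj21 zj25) (kj xj12 yj8 zj15) (kj xj11 yj8 zj45) (kj xj10 yj19 zj0) (kj xj10 yj19 zj1) (kj xj13 yj21 zj29) (kj xj13 yj21 zj30) (kj xj13 yj21 zj31) (kj xj10 yj19 zj4) (kj xj10 yj19 zj5) (kj xj13 yj21 zj36) (kj xj13 yj21 zj37) (kj xj12 yj8 zj26) (kj xj10 yj19 zj9) (kj xj13 yj21 zj40) (kj xj13 yj21 zj41) (kj xj11 yj9 zj3) (kj xj10 yj19 zj12) (kj xj10 yj19 zj13) (kj xj13 yj21 zj47) (kj xj13 yj21 zj48) (kj xj10 yj19 zj16) (kj xj10 yj19 zj17) (kj xj13 yj22 zj1) (kj xj13 yj22 zj2) (kj xj13 yj22 zj3) (kj xj12 yj8 zj40) (kj xj11 yj9 zj28) (kj xj11 yj9 zj29) (kj xj10 yj19 zj23) (kj xj10 yj19 zj24) (kj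 xj10 yj19 zj25) (kj xj11 yj12 zj8) (kj xj13 yj22 zj10) (kj xj13 yj22 zj11) (kj xj13 yj22 zj12) (kj xj13 yj22 zj13)) (@D3.rec (fun _ => Pt) (kj xj13 yj22 zj14) (kj xj10 yj19 zj30) (kj xj10 yj19 zj31) (kj xj10 yj19 zj32) (kj xj10 yj19 zj33) (kj xj10 yj19 zj34) (kj xj11 yj15 zj43) (kj xj13 yj22 zj23) (kj xj13 yj22 zj24) (kj xj13 yj22 zj25) (kj xj13 yj22 zj27) (kj xj13 yj22 zj28) (kj xj12 yj9 zj12) (kj xj12 yj9 zj13) (kj xj12 yj9 zj14) (kj xj13 yj7 zj13) (kj xj10 yj19 zj42) (kj xj10 yj19 zj43) (kj xj13 yj22 zj37) (kj xj13 yj22 zj38) (kj xj12 yj9 zj20) (kj xj11 yj9 zj46) (kj xj10 yj23 zj33) (kj xj11 yj9 zj47) (kj xj10 yj20 zj0) (kj xj10 yj20 zj1) (kj xj10 yj20 zj2) (kj xj11 yj12 zj23) (kj xj11 yj12 zj46) (kj xj11 yj12 zj47) (kj xj13 yj22 zj44) (kj xj13 yj22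 zj45) (kj xj11 yj15 zj46) (kj xj11 yj9 zj2) (kj xj10 yj20 zj9) (kj xj10 yj20 zj10) (kj xj13 yj23 zj3) (kj xj13 yj23 zj4) (kj xj13 yj23 zj5) (kj xj11 yj10 zj13) (kj xj11 yj10 zj14) (kj xj10 yj20 zj14) (kj xj10 yj20 zj15) (kj xj10 yj20 zj16) (kj xj13 yj23 zj15) (kj xj13 yj23 zj16) (kj xj13 yj23 zj17) (kj xj13 yj23 zj18) (kj xj13 yj23 zj19) (kj xj13 yj23 zj20) (kj xj10 yj20 zj20)) (@D3.rec (fun _ => Pt) (kj xj10 yj20 zj21) (kj xj10 yj20 zj22) (kj xj10 yj20 zj23) (kj xj10 yj20 zj24) (kj xj10 yj20 zj25) (kj xj13 yj23 zj30) (kj xj13 yj23 zj31) (kj xj13 yj23 zj32) (kj xj13 yj23 zj33) (kj xj13 yj23 zj41) (kj xj13 yj23 zj35) (kj xj13 yj23 zj36) (kj xj12 yj10 zj12) (kj xj13 yj23 zj45) (kj xj12 yj10 zj14) (kj xj12 yj10 zj15) (kj xj10 yj20 zj30) (kj xj13 yj23 zj49)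 (kj xj12 yj10 zj18) (kj xj12 yj10 zj19) (kj xj11 yj10 zj47) (kj xj11 yj10 zj48) (kj xj11 yj10 zj49) (kj xj10 yj20 zj38) (kj xj10 yj20 zj39) (kj xj10 yj20 zj40) (kj xj10 yj20 zj41) (kj xj10 yj20 zj42) (kj xj10 yj20 zj43) (kj xj13 yj24 zj8) (kj xj13 yj24 zj9) (kj xj13 yj24 zj10) (kj xj13 yj24 zj11) (kj xj13 yj24 zj12) (kj xj13 yj24 zj13) (kj xj13 yj24 zj14) (kj xj13 yj24 zj31) (kj xj13 yj24 zj16) (kj xj13 yj24 zj17) (kj xj10 yj20 zj50) (kj xj10 yj21 zj0) (kj xj10 yj21 zj1) (kj xj10 yj21 zj2) (kj xj10 yj21 zj3) (kj xj10 yj21 zj4) (kj xj13 yj24 zj43) (kj xj10 yj21 zj6) (kj xj10 yj21 zj7) (kj xj13 yj24 zj35) (kj xj13 yj24 zj36) (kj xj13 yj24 zj37)) (@D3.rec (fun _ => Pt) (kj xj13 yj24 zj38) (kj xj13 yj25 zj1) (kj xj13 yj24 zj40) (kj xj13 yj24 zj41) (kj xj13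 yj24 zj42) (kj xj10 yj21 zj5) (kj xj13 yj25 zj6) (kj xj13 yj24 zj45) (kj xj13 yj24 zj46) (kj xj12 yj11 zj9) (kj xj13 yj25 zj10) (kj xj12 yj11 zj11) (kj xj12 yj11 zj12) (kj xj12 yj11 zj13) (kj xj10 yj21 zj12) (kj xj13 yj25 zj14) (kj xj12 yj11 zj16) (kj xj12 yj11 zj17) (kj xj12 yj11 zj18) (kj xj10 yj21 zj17) (kj xj13 yj25 zj19) (kj xj12 yj11 zj21) (kj xj12 yj11 zj22) (kj xj10 yj21 zj20) (kj xj13 yj25 zj23) (kj xj10 yj21 zj25) (kj xj10 yj21 zj26) (kj xj10 yj21 zj24) (kj xj13 yj25 zj27) (kj xj13 yj25 zj25) (kj xj13 yj25 zj26) (kj xj10 yj21 zj28) (kj xj13 yj25 zj32) (kj xj12 yj11 zj33) (kj xj12 yj11 zj34) (kj xj10 yj23 zj24) (kj xj10 yj23 zj21) (kj xj11 yj12 zj1) (kj xj10 yj22 zj16) (kj xj10 yj22 zj15) (kj xj10 yj21 zj40) (kj xj10 yj21 zj41) (kj xj10 yj21 zj42)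 (kj xj10 yj21 zj43) (kj xj10 yj21 zj44) (kj xj10 yj21 zj45) (kj xj10 yj21 zj46) (kj xj11 yj12 zj32) (kj xj13 yj25 zj39) (kj xj13 yj25 zj40) (kj xj13 yj25 zj38)) (@D3.rec (fun _ => Pt) (kj xj13 yj25 zj37) (kj xj13 yj25 zj41) (kj xj13 yj25 zj42) (kj xj13 yj25 zj35) (kj xj13 yj25 zj43) (kj xj13 yj7 zj34) (kj xj10 yj21 zj50) (kj xj10 yj22 zj0) (kj xj10 yj22 zj1) (kj xj13 yj26 zj2) (kj xj13 yj26 zj3) (kj xj13 yj26 zj4) (kj xj10 yj22 zj13) (kj xj11 yj12 zj33) (kj xj13 yj22 zj43) (kj xj11 yj9 zj12) (kj xj13 yj15 zj42) (kj xj10 yj22 zj23) (kj xj10 yj22 zj24) (kj xj11 yj12 zj16) (kj xj10 yj22 zj29) (kj xj13 yj19 zj31) (kj xj11 yj12 zj19) (kj xj10 yj22 zj34) (kj xj11 yj2 zj26) (kj xj11 yj2 zj47) (kj xj10 yj23 zj20) (kj xj10 yj23 zj23) (kj xj11 yj12 zj39) (kj xj11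 yj9 zj11) (kj xj10 yj22 zj45) (kj xj10 yj22 zj47) (kj xj13 yj26 zj11) (kj xj11 yj2 zj25) (kj xj13 yj26 zj12) (kj xj11 yj2 zj46) (kj xj13 yj26 zj13) (kj xj10 yj23 zj0) (kj xj10 yj23 zj2) (kj xj11 yj10 zj2) (kj xj11 yj10 zj1) (kj xj13 yj26 zj21) (kj xj11 yj11 zj5) (kj xj11 yj12 zj6) (kj xj10 yj23 zj7) (kj xj11 yj14 zj40) (kj xj11 yj12 zj38) (kj xj10 yj23 zj22) (kj xj10 yj23 zj25) (kj xj13 yj22 zj41) (kj xj13 yj25 zj36)) (@D3.rec (fun _ => Pt) (kj xj13 yj26 zj28) (kj xj13 yj22 zj46) (kj xj13 yj24 zj2) (kj xj13 yj26 zj29) (kj xj13 yj7 zj21) (kj xj10 yj23 zj30) (kj xj10 yj23 zj31) (kj xj10 yj23 zj32) (kj xj13 yj11 zj6) (kj xj10 yj24 zj19) (kj xj10 yj24 zj24) (kj xj10 yj24 zj29) (kj xj10 yj24 zj34) (kj xj10 yj24 zj35) (kj xj10 yj24 zj49) (kj xj10 yj25 zj38)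 (kj xj11 yj6 zj14) (kj xj11 yj6 zj17) (kj xj10 yj25 zj13) (kj xj10 yj25 zj14) (kj xj10 yj25 zj15) (kj xj10 yj25 zj16) (kj xj10 yj25 zj17) (kj xj10 yj25 zj19) (kj xj10 yj25 zj20) (kj xj10 yj24 zj30) (kj xj10 yj24 zj31) (kj xj10 yj24 zj33) (kj xj13 yj4 zj17) (kj xj13 yj26 zj36) (kj xj13 yj5 zj45) (kj xj13 yj5 zj46) (kj xj13 yj6 zj0) (kj xj13 yj4 zj20) (kj xj13 yj4 zj6) (kj xj11 yj4 zj39) (kj xj11 yj4 zj40) (kj xj11 yj4 zj42) (kj xj13 yj26 zj37) (kj xj13 yj26 zj46) (kj xj13 yj26 zj47) (kj xj11 yj5 zj26) (kj xj11 yj5 zj29) (kj xj13 yj26 zj48) (kj xj13 yj26 zj38) (kj xj11 yj5 zj27) (kj xj11 yj13 zj31) (kj xj10 yj24 zj41) (kj xj11 yj6 zj26) (kj xj11 yj6 zj39) (kj xj11 yj6 zj40)) (@D3.rec (fun _ => Pt) (kj xj13 yj4 zj43) (kj xj11 yj3 zj40) (kj xj11 yj3 zj43)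 (kj xj13 yj4 zj38) (kj xj13 yj5 zj9) (kj xj10 yj25 zj2) (kj xj10 yj25 zj3) (kj xj10 yj25 zj4) (kj xj13 yj14 zj49) (kj xj14 yj0 zj16) (kj xj14 yj0 zj17) (kj xj11 yj6 zj6) (kj xj14 yj0 zj18) (kj xj14 yj0 zj19) (kj xj10 yj25 zj7) (kj xj10 yj25 zj9) (kj xj10 yj25 zj12) (kj xj11 yj6 zj8) (kj xj14 yj0 zj29) (kj xj11 yj6 zj5) (kj xj11 yj6 zj9) (kj xj14 yj0 zj30) (kj xj13 yj17 zj33) (kj xj11 yj6 zj7) (kj xj11 yj6 zj10) (kj xj13 yj26 zj41) (kj xj13 yj26 zj42) (kj xj13 yj14 zj38) (kj xj13 yj26 zj43) (kj xj13 yj26 zj44) (kj xj13 yj26 zj39) (kj xj10 yj25 zj18) (kj xj14 yj0 zj44) (kj xj13 yj26 zj45) (kj xj13 yj17 zj34) (kj xj10 yj25 zj24) (kj xj10 yj25 zj31) (kj xj13 yj14 zj50) (kj xj13 yj6 zj38) (kj xj13 yj6 zj39) (kj xj10 yj25 zj35) (kj xj13 yj5 zj11) (kj xj13 yj4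 zj45) (kj xj13 yj14 zj25) (kj xj10 yj25 zj43) (kj xj13 yj5 zj14) (kj xj13 yj3 zj46) (kj xj13 yj3 zj47) (kj xj11 yj14 zj12) (kj xj12 yj14 zj49) (kj xj12 yj14 zj50)) (@D3.rec (fun _ => Pt) (kj xj12 yj15 zj0) (kj xj11 yj0 zj6) (kj xj11 yj0 zj7) (kj xj10 yj26 zj5) (kj xj10 yj26 zj6) (kj xj14 yj1 zj1) (kj xj14 yj1 zj2) (kj xj10 yj26 zj9) (kj xj14 yj1 zj5) (kj xj10 yj26 zj14) (kj xj10 yj26 zj15) (kj xj13 yj11 zj3) (kj xj13 yj10 zj1) (kj xj13 yj11 zj7) (kj xj14 yj1 zj6) (kj xj14 yj1 zj7) (kj xj10 yj26 zj18) (kj xj10 yj26 zj19) (kj xj10 yj26 zj20) (kj xj14 yj1 zj14) (kj xj14 yj1 zj15) (kj xj14 yj1 zj16) (kj xj12 yj15 zj22) (kj xj12 yj15 zj23) (kj xj12 yj15 zj24) (kj xj13 yj11 zj1) (kj xj13 yj11 zj4) (kj xj13 yj11 zj8) (kj xj10 yj26 zj30) (kj xj10 yj26 zj31) (kj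 xj10 yj26 zj32) (kj xj14 yj1 zj25) (kj xj14 yj1 zj26) (kj xj14 yj1 zj27) (kj xj12 yj15 zj34) (kj xj12 yj15 zj35) (kj xj12 yj15 zj36) (kj xj13 yj11 zj21) (kj xj13 yj11 zj23) (kj xj11 yj7 zj38) (kj xj10 yj26 zj42) (kj xj10 yj26 zj43) (kj xj14 yj1 zj33) (kj xj11 yj14 zj10) (kj xj11 yj8 zj6) (kj xj11 yj0 zj0) (kj xj11 yj0 zj1) (kj xj14 yj1 zj34) (kj xj14 yj1 zj35) (kj xj11 yj0 zj4) (kj xj14 yj1 zj38)) (@D3.rec (fun _ => Pt) (kj xj14 yj0 zj49) (kj xj14 yj0 zj50) (kj xj14 yj1 zj0) (kj xj11 yj0 zj10) (kj xj11 yj0 zj11) (kj xj14 yj1 zj43) (kj xj14 yj1 zj44) (kj xj12 yj16 zj7) (kj xj13 yj8 zj28) (kj xj13 yj8 zj29) (kj xj11 yj0 zj17) (kj xj11 yj0 zj18) (kj xj11 yj0 zj19) (kj xj14 yj1 zj50) (kj xj14 yj2 zj0) (kj xj14 yj2 zj1) (kj xj14 yj2 zj2) (kj xj14 yj2 zj3) (kj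 xj14 yj2 zj4) (kj xj11 yj0 zj23) (kj xj11 yj0 zj24) (kj xj11 yj0 zj25) (kj xj11 yj0 zj26) (kj xj11 yj0 zj27) (kj xj11 yj0 zj28) (kj xj14 yj2 zj13) (kj xj14 yj2 zj14) (kj xj14 yj2 zj15) (kj xj14 yj2 zj16) (kj xj14 yj2 zj17) (kj xj14 yj2 zj18) (kj xj12 yj16 zj31) (kj xj12 yj16 zj32) (kj xj12 yj16 zj33) (kj xj11 yj0 zj35) (kj xj11 yj15 zj5) (kj xj11 yj15 zj9) (kj xj11 yj0 zj41) (kj xj11 yj0 zj42) (kj xj11 yj0 zj43) (kj xj11 yj0 zj44) (kj xj11 yj0 zj45) (kj xj13 yj26 zj15) (kj xj13 yj26 zj14) (kj xj14 yj2 zj30) (kj xj14 yj2 zj31) (kj xj14 yj2 zj32) (kj xj14 yj2 zj33) (kj xj14 yj2 zj34) (kj xj11 yj0 zj49) (kj xj11 yj0 zj50)) (@D3.rec (fun _ => Pt) (kj xj11 yj1 zj0) (kj xj14 yj2 zj42) (kj xj14 yj2 zj43) (kj xj14 yj2 zj44) (kj xj12 yj17 zj4) (kj xj12 yj17 zj5)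 (kj xj12 yj17 zj6) (kj xj11 yj10 zj32) (kj xj11 yj10 zj21) (kj xj11 yj10 zj36) (kj xj13 yj9 zj11) (kj xj13 yj9 zj12) (kj xj11 yj1 zj9) (kj xj11 yj1 zj10) (kj xj11 yj1 zj11) (kj xj14 yj3 zj6) (kj xj14 yj3 zj7) (kj xj14 yj3 zj8) (kj xj11 yj10 zj11) (kj xj14 yj3 zj9) (kj xj14 yj3 zj10) (kj xj11 yj1 zj14) (kj xj11 yj1 zj16) (kj xj11 yj1 zj19) (kj xj11 yj16 zj0) (kj xj14 yj3 zj20) (kj xj11 yj10 zj10) (kj xj11 yj16 zj1) (kj xj14 yj3 zj21) (kj xj13 yj23 zj1) (kj xj11 yj10 zj12) (kj xj11 yj16 zj2) (kj xj12 yj17 zj32) (kj xj12 yj17 zj33) (kj xj12 yj17 zj34) (kj xj12 yj17 zj35) (kj xj11 yj1 zj24) (kj xj14 yj3 zj32) (kj xj12 yj17 zj38) (kj xj13 yj7 zj23) (kj xj13 yj9 zj41) (kj xj13 yj9 zj42) (kj xj11 yj1 zj32) (kj xj11 yj1 zj33) (kj xj11 yj1 zj34) (kj xj11 yj1 zj35)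 (kj xj11 yj1 zj36) (kj xj11 yj1 zj37) (kj xj13 yj26 zj17) (kj xj14 yj3 zj39) (kj xj14 yj3 zj40)) (@D3.rec (fun _ => Pt) (kj xj14 yj3 zj41) (kj xj14 yj3 zj42) (kj xj14 yj3 zj43) (kj xj14 yj3 zj44) (kj xj14 yj4 zj9) (kj xj14 yj3 zj45) (kj xj14 yj3 zj46) (kj xj11 yj1 zj44) (kj xj11 yj1 zj45) (kj xj11 yj1 zj46) (kj xj11 yj1 zj47) (kj xj11 yj1 zj48) (kj xj11 yj1 zj49) (kj xj11 yj2 zj0) (kj xj11 yj2 zj1) (kj xj14 yj4 zj13) (kj xj14 yj4 zj14) (kj xj14 yj4 zj15) (kj xj14 yj4 zj16) (kj xj14 yj4 zj17) (kj xj14 yj4 zj29) (kj xj14 yj4 zj18) (kj xj14 yj4 zj19) (kj xj14 yj4 zj20) (kj xj11 yj1 zj50) (kj xj14 yj4 zj34) (kj xj14 yj4 zj21) (kj xj12 yj18 zj27) (kj xj12 yj18 zj28) (kj xj14 yj4 zj37) (kj xj12 yj18 zj30) (kj xj12 yj18 zj31) (kj xj12 yj18 zj32) (kj xj11 yj2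 zj7) (kj xj14 yj4 zj41) (kj xj12 yj18 zj35) (kj xj12 yj18 zj36) (kj xj12 yj18 zj37) (kj xj11 yj2 zj12) (kj xj14 yj4 zj44) (kj xj11 yj2 zj16) (kj xj13 yj7 zj24) (kj xj13 yj7 zj26) (kj xj11 yj2 zj27) (kj xj11 yj2 zj28) (kj xj11 yj2 zj29) (kj xj11 yj2 zj30) (kj xj11 yj2 zj31) (kj xj13 yj26 zj18) (kj xj13 yj21 zj42) (kj xj13 yj26 zj8)) (@D3.rec (fun _ => Pt) (kj xj14 yj4 zj46) (kj xj14 yj4 zj47) (kj xj14 yj4 zj48) (kj xj14 yj4 zj49) (kj xj14 yj4 zj50) (kj xj11 yj2 zj35) (kj xj11 yj2 zj36) (kj xj11 yj2 zj37) (kj xj14 yj5 zj9) (kj xj14 yj5 zj10) (kj xj14 yj5 zj11) (kj xj11 yj2 zj48) (kj xj11 yj2 zj50) (kj xj13 yj26 zj20) (kj xj13 yj26 zj9) (kj xj11 yj7 zj17) (kj xj11 yj3 zj3) (kj xj11 yj4 zj20) (kj xj11 yj4 zj45) (kj xj11 yj4 zj28) (kj xj11 yj4 zj29) (kj xj11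 yj4 zj37) (kj xj11 yj4 zj38) (kj xj11 yj4 zj44) (kj xj11 yj4 zj46) (kj xj13 yj6 zj4) (kj xj11 yj5 zj10) (kj xj11 yj5 zj11) (kj xj11 yj5 zj12) (kj xj11 yj5 zj21) (kj xj11 yj5 zj31) (kj xj11 yj5 zj32) (kj xj13 yj6 zj6) (kj xj13 yj6 zj7) (kj xj11 yj5 zj44) (kj xj11 yj7 zj44) (kj xj11 yj6 zj4) (kj xj11 yj6 zj12) (kj xj11 yj6 zj15) (kj xj13 yj5 zj26) (kj xj13 yj5 zj41) (kj xj14 yj0 zj13) (kj xj13 yj5 zj19) (kj xj13 yj5 zj27) (kj xj11 yj6 zj42) (kj xj11 yj6 zj44) (kj xj11 yj6 zj45) (kj xj11 yj6 zj47) (kj xj11 yj6 zj48) (kj xj11 yj6 zj49) (kj xj11 yj13 zj41)) (@D3.rec (fun _ => Pt) (kj xj11 yj7 zj1) (kj xj11 yj7 zj45) (kj xj11 yj7 zj46) (kj xj13 yj5 zj21) (kj xj13 yj5 zj29) (kj xj11 yj7 zj23) (kj xj11 yj7 zj24) (kj xj11 yj7 zj25) (kj xj13 yj13 zj36) (kj xj11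 yj5 zj4) (kj xj11 yj5 zj13) (kj xj11 yj5 zj5) (kj xj14 yj5 zj13) (kj xj11 yj4 zj22) (kj xj11 yj4 zj23) (kj xj13 yj18 zj17) (kj xj14 yj5 zj46) (kj xj14 yj5 zj47) (kj xj11 yj4 zj27) (kj xj13 yj18 zj32) (kj xj14 yj6 zj1) (kj xj14 yj5 zj15) (kj xj13 yj17 zj7) (kj xj13 yj19 zj18) (kj xj13 yj19 zj32) (kj xj13 yj17 zj22) (kj xj13 yj19 zj28) (kj xj13 yj12 zj47) (kj xj14 yj5 zj16) (kj xj14 yj5 zj17) (kj xj13 yj17 zj38) (kj xj14 yj0 zj2) (kj xj14 yj0 zj3) (kj xj13 yj17 zj48) (kj xj14 yj0 zj4) (kj xj13 yj13 zj2) (kj xj14 yj5 zj18) (kj xj14 yj5 zj14) (kj xj11 yj4 zj50) (kj xj11 yj5 zj0) (kj xj13 yj18 zj18) (kj xj13 yj18 zj19) (kj xj14 yj5 zj43) (kj xj14 yj6 zj17) (kj xj14 yj6 zj18) (kj xj11 yj5 zj6) (kj xj13 yj18 zj33) (kj xj13 yj18 zj34) (kj xj13 yj18 zj35) (kj xj14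 yj5 zj44) (kj xj14 yj5 zj45)) (@D3.rec (fun _ => Pt) (kj xj13 yj12 zj36) (kj xj13 yj13 zj13) (kj xj13 yj13 zj14) (kj xj14 yj5 zj19) (kj xj14 yj5 zj20) (kj xj13 yj19 zj19) (kj xj13 yj19 zj20) (kj xj13 yj19 zj21) (kj xj13 yj19 zj33) (kj xj13 yj19 zj29) (kj xj13 yj12 zj48) (kj xj13 yj13 zj28) (kj xj14 yj5 zj21) (kj xj13 yj5 zj37) (kj xj14 yj0 zj5) (kj xj14 yj0 zj8) (kj xj13 yj5 zj38) (kj xj14 yj0 zj9) (kj xj13 yj13 zj3) (kj xj14 yj5 zj22) (kj xj13 yj16 zj30) (kj xj13 yj16 zj31) (kj xj11 yj5 zj37) (kj xj11 yj5 zj38) (kj xj13 yj5 zj47) (kj xj13 yj6 zj2) (kj xj14 yj6 zj49) (kj xj14 yj6 zj50) (kj xj11 yj5 zj41) (kj xj13 yj6 zj3) (kj xj13 yj12 zj38) (kj xj13 yj13 zj15) (kj xj14 yj5 zj24) (kj xj13 yj15 zj41) (kj xj11 yj5 zj50) (kj xj13 yj6 zj14) (kj xj13 yj3 zj38)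 (kj xj13 yj6 zj15) (kj xj13 yj12 zj45) (kj xj13 yj13 zj25) (kj xj14 yj5 zj25) (kj xj14 yj0 zj31) (kj xj14 yj0 zj23) (kj xj14 yj0 zj35) (kj xj14 yj0 zj27) (kj xj14 yj0 zj39) (kj xj14 yj0 zj32) (kj xj14 yj0 zj36) (kj xj13 yj12 zj8) (kj xj14 yj5 zj26) (kj xj13 yj26 zj40)) (@D3.rec (fun _ => Pt) (kj xj14 yj5 zj27) (kj xj13 yj15 zj2) (kj xj13 yj18 zj10) (kj xj13 yj18 zj11) (kj xj11 yj6 zj23) (kj xj11 yj6 zj24) (kj xj11 yj6 zj25) (kj xj11 yj6 zj27) (kj xj11 yj6 zj28) (kj xj13 yj15 zj11) (kj xj14 yj7 zj26) (kj xj14 yj7 zj27) (kj xj13 yj8 zj34) (kj xj13 yj5 zj22) (kj xj14 yj7 zj28) (kj xj14 yj7 zj29) (kj xj14 yj7 zj43) (kj xj14 yj0 zj10) (kj xj14 yj7 zj30) (kj xj11 yj6 zj34) (kj xj11 yj6 zj37) (kj xj13 yj15 zj21) (kj xj13 yj5 zj16) (kj xj13 yj5 zj18) (kj xj14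 yj7 zj47) (kj xj13 yj4 zj28) (kj xj13 yj5 zj23) (kj xj13 yj5 zj24) (kj xj14 yj7 zj48) (kj xj11 yj6 zj38) (kj xj14 yj8 zj6) (kj xj14 yj0 zj11) (kj xj13 yj12 zj21) (kj xj14 yj5 zj32) (kj xj13 yj12 zj2) (kj xj14 yj5 zj33) (kj xj14 yj5 zj34) (kj xj13 yj4 zj31) (kj xj14 yj5 zj35) (kj xj14 yj5 zj36) (kj xj14 yj5 zj37) (kj xj11 yj7 zj0) (kj xj14 yj8 zj4) (kj xj11 yj7 zj3) (kj xj13 yj15 zj32) (kj xj13 yj15 zj43) (kj xj11 yj7 zj13) (kj xj11 yj7 zj16) (kj xj13 yj15 zj24) (kj xj13 yj8 zj6) (kj xj13 yj8 zj11)) (@D3.rec (fun _ => Pt) (kj xj14 yj8 zj18) (kj xj13 yj8 zj23) (kj xj13 yj8 zj40) (kj xj13 yj8 zj49) (kj xj14 yj8 zj19) (kj xj11 yj7 zj21) (kj xj11 yj7 zj22) (kj xj13 yj15 zj27) (kj xj14 yj8 zj28) (kj xj13 yj19 zj10) (kj xj14 yj5 zj40) (kj xj14 yj5 zj38) (kj xj14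 yj5 zj41) (kj xj14 yj5 zj42) (kj xj11 yj7 zj33) (kj xj11 yj7 zj35) (kj xj11 yj7 zj36) (kj xj13 yj19 zj34) (kj xj14 yj8 zj34) (kj xj11 yj9 zj13) (kj xj14 yj1 zj32) (kj xj11 yj7 zj41) (kj xj13 yj15 zj44) (kj xj13 yj15 zj37) (kj xj13 yj13 zj39) (kj xj13 yj19 zj48) (kj xj13 yj19 zj49) (kj xj11 yj8 zj0) (kj xj11 yj8 zj1) (kj xj14 yj8 zj38) (kj xj14 yj8 zj39) (kj xj11 yj8 zj3) (kj xj13 yj20 zj41) (kj xj13 yj21 zj0) (kj xj13 yj20 zj17) (kj xj13 yj20 zj18) (kj xj11 yj8 zj10) (kj xj11 yj8 zj11) (kj xj13 yj20 zj40) (kj xj14 yj8 zj45) (kj xj14 yj8 zj46) (kj xj11 yj8 zj15) (kj xj11 yj8 zj16) (kj xj13 yj21 zj20) (kj xj14 yj8 zj49) (kj xj13 yj20 zj30) (kj xj13 yj20 zj31) (kj xj13 yj20 zj32) (kj xj11 yj8 zj23) (kj xj11 yj8 zj24) (kj xj11 yj8 zj25)) (@D3.rec (fun _ =>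 Pt) (kj xj11 yj8 zj26) (kj xj11 yj8 zj27) (kj xj11 yj8 zj28) (kj xj14 yj9 zj5) (kj xj14 yj9 zj6) (kj xj14 yj9 zj7) (kj xj14 yj9 zj8) (kj xj14 yj9 zj9) (kj xj14 yj9 zj10) (kj xj14 yj9 zj12) (kj xj14 yj9 zj13) (kj xj11 yj8 zj35) (kj xj11 yj8 zj36) (kj xj11 yj8 zj37) (kj xj11 yj8 zj38) (kj xj11 yj8 zj39) (kj xj13 yj21 zj27) (kj xj11 yj8 zj40) (kj xj11 yj8 zj41) (kj xj14 yj9 zj24) (kj xj14 yj9 zj25) (kj xj14 yj9 zj26) (kj xj14 yj9 zj27) (kj xj14 yj9 zj28) (kj xj14 yj9 zj30) (kj xj12 yj24 zj25) (kj xj12 yj24 zj26) (kj xj13 yj21 zj28) (kj xj13 yj21 zj19) (kj xj11 yj9 zj4) (kj xj11 yj9 zj5) (kj xj11 yj9 zj6) (kj xj13 yj23 zj2) (kj xj13 yj21 zj45) (kj xj13 yj21 zj46) (kj xj14 yj9 zj36) (kj xj11 yj9 zj9) (kj xj13 yj26 zj6) (kj xj11 yj9 zj16) (kj xj13 yj6 zj43)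 (kj xj13 yj20 zj38) (kj xj13 yj20 zj39) (kj xj11 yj9 zj24) (kj xj11 yj9 zj25) (kj xj14 yj9 zj43) (kj xj14 yj9 zj44) (kj xj11 yj9 zj27) (kj xj13 yj22 zj7) (kj xj13 yj22 zj8) (kj xj13 yj22 zj9) (kj xj11 yj9 zj33)) (@D3.rec (fun _ => Pt) (kj xj11 yj9 zj34) (kj xj11 yj9 zj35) (kj xj11 yj9 zj36) (kj xj11 yj9 zj37) (kj xj13 yj26 zj23) (kj xj14 yj10 zj0) (kj xj14 yj10 zj1) (kj xj13 yj10 zj2) (kj xj14 yj10 zj2) (kj xj14 yj10 zj3) (kj xj14 yj10 zj4) (kj xj11 yj9 zj41) (kj xj11 yj9 zj42) (kj xj11 yj9 zj43) (kj xj14 yj10 zj14) (kj xj14 yj10 zj15) (kj xj12 yj25 zj16) (kj xj13 yj22 zj42) (kj xj11 yj10 zj3) (kj xj11 yj10 zj5) (kj xj13 yj26 zj24) (kj xj13 yj10 zj15) (kj xj13 yj26 zj22) (kj xj13 yj9 zj28) (kj xj13 yj10 zj19) (kj xj11 yj10 zj8) (kj xj14 yj3 zj22) (kj xj14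 yj3 zj14) (kj xj14 yj3 zj25) (kj xj14 yj3 zj18) (kj xj14 yj3 zj29) (kj xj13 yj23 zj12) (kj xj13 yj23 zj13) (kj xj13 yj23 zj14) (kj xj11 yj10 zj18) (kj xj11 yj10 zj19) (kj xj11 yj10 zj20) (kj xj11 yj10 zj22) (kj xj11 yj10 zj23) (kj xj13 yj26 zj25) (kj xj14 yj10 zj32) (kj xj14 yj10 zj33) (kj xj14 yj10 zj34) (kj xj14 yj2 zj50) (kj xj14 yj10 zj35) (kj xj14 yj10 zj36) (kj xj14 yj10 zj50) (kj xj14 yj3 zj1) (kj xj14 yj10 zj37) (kj xj11 yj10 zj29) (kj xj11 yj10 zj30)) (@D3.rec (fun _ => Pt) (kj xj11 yj10 zj31) (kj xj11 yj10 zj33) (kj xj11 yj10 zj34) (kj xj11 yj10 zj37) (kj xj14 yj11 zj3) (kj xj14 yj2 zj49) (kj xj14 yj11 zj4) (kj xj14 yj11 zj5) (kj xj14 yj11 zj10) (kj xj14 yj3 zj0) (kj xj14 yj11 zj6) (kj xj11 yj10 zj35) (kj xj14 yj11 zj14) (kj xj14 yj3 zj2) (kj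 xj12 yj26 zj14) (kj xj12 yj26 zj15) (kj xj11 yj10 zj41) (kj xj14 yj11 zj17) (kj xj12 yj26 zj18) (kj xj12 yj26 zj19) (kj xj11 yj10 zj45) (kj xj14 yj11 zj20) (kj xj13 yj24 zj3) (kj xj13 yj24 zj4) (kj xj13 yj24 zj5) (kj xj13 yj24 zj6) (kj xj13 yj24 zj7) (kj xj11 yj11 zj6) (kj xj11 yj11 zj7) (kj xj11 yj11 zj8) (kj xj11 yj11 zj9) (kj xj11 yj11 zj10) (kj xj11 yj11 zj11) (kj xj14 yj11 zj34) (kj xj11 yj11 zj13) (kj xj11 yj11 zj14) (kj xj13 yj23 zj23) (kj xj13 yj26 zj26) (kj xj11 yj12 zj48) (kj xj14 yj11 zj27) (kj xj14 yj11 zj28) (kj xj14 yj11 zj29) (kj xj13 yj8 zj32) (kj xj13 yj22 zj15) (kj xj14 yj11 zj30) (kj xj14 yj12 zj1) (kj xj14 yj11 zj31) (kj xj14 yj11 zj32) (kj xj14 yj11 zj33) (kj xj11 yj11 zj12) (kj xj14 yj12 zj6))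
def f_j_13 : D2 → D3 → Pt := @D2.rec (fun _ => D3 → Pt) (@D3.rec (fun _ => Pt) (kj xj14 yj11 zj36) (kj xj14 yj11 zj37) (kj xj11 yj11 zj24) (kj xj11 yj11 zj25) (kj xj11 yj11 zj26) (kj xj11 yj11 zj27) (kj xj11 yj11 zj28) (kj xj11 yj11 zj30) (kj xj11 yj11 zj31) (kj xj11 yj11 zj32) (kj xj11 yj11 zj21) (kj xj14 yj12 zj18) (kj xj11 yj11 zj35) (kj xj14 yj12 zj10) (kj xj14 yj12 zj11) (kj xj14 yj12 zj12) (kj xj14 yj10 zj20) (kj xj14 yj12 zj13) (kj xj14 yj12 zj14) (kj xj11 yj15 zj44) (kj xj11 yj11 zj29) (kj xj14 yj12 zj25) (kj xj14 yj12 zj15) (kj xj14 yj12 zj16) (kj xj14 yj12 zj17) (kj xj11 yj11 zj34) (kj xj14 yj12 zj30) (kj xj13 yj0 zj27) (kj xj11 yj11 zj38) (kj xj14 yj12 zj31) (kj xj13 yj0 zj30) (kj xj13 yj0 zj31) (kj xj11 yj11 zj43) (kj xj14 yj12 zj35) (kj xj13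 yj0 zj34) (kj xj13 yj0 zj35) (kj xj11 yj11 zj48) (kj xj11 yj11 zj50) (kj xj11 yj12 zj9) (kj xj11 yj12 zj10) (kj xj13 yj22 zj16) (kj xj14 yj11 zj46) (kj xj14 yj11 zj42) (kj xj11 yj12 zj15) (kj xj14 yj12 zj39) (kj xj13 yj19 zj35) (kj xj13 yj7 zj22) (kj xj13 yj7 zj35) (kj xj13 yj22 zj47) (kj xj11 yj12 zj27) (kj xj11 yj12 zj28)) (@D3.rec (fun _ => Pt) (kj xj11 yj12 zj29) (kj xj11 yj12 zj30) (kj xj11 yj12 zj31) (kj xj11 yj15 zj21) (kj xj14 yj12 zj41) (kj xj14 yj12 zj42) (kj xj14 yj12 zj43) (kj xj14 yj12 zj44) (kj xj14 yj12 zj45) (kj xj14 yj12 zj46) (kj xj13 yj25 zj44) (kj xj11 yj12 zj40) (kj xj11 yj12 zj41) (kj xj11 yj12 zj42) (kj xj13 yj26 zj27) (kj xj13 yj22 zj50) (kj xj13 yj26 zj10) (kj xj13 yj22 zj48) (kj xj14 yj13 zj4) (kj xj11 yj12 zj45) (kj xj13 yj22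 zj49) (kj xj14 yj11 zj41) (kj xj11 yj12 zj50) (kj xj11 yj13 zj26) (kj xj11 yj14 zj23) (kj xj11 yj14 zj2) (kj xj11 yj14 zj3) (kj xj11 yj14 zj4) (kj xj11 yj14 zj5) (kj xj11 yj13 zj11) (kj xj13 yj3 zj31) (kj xj11 yj13 zj16) (kj xj11 yj14 zj22) (kj xj11 yj14 zj21) (kj xj11 yj14 zj20) (kj xj13 yj5 zj7) (kj xj13 yj5 zj17) (kj xj13 yj4 zj29) (kj xj13 yj11 zj39) (kj xj13 yj11 zj36) (kj xj13 yj13 zj0) (kj xj13 yj13 zj22) (kj xj13 yj8 zj7) (kj xj13 yj8 zj12) (kj xj13 yj8 zj24) (kj xj13 yj8 zj41) (kj xj13 yj8 zj50) (kj xj13 yj5 zj31) (kj xj13 yj3 zj30) (kj xj13 yj6 zj17) (kj xj13 yj19 zj7)) (@D3.rec (fun _ => Pt) (kj xj13 yj17 zj23) (kj xj11 yj14 zj11) (kj xj13 yj19 zj36) (kj xj13 yj19 zj37) (kj xj13 yj3 zj42) (kj xj14 yj0 zj48) (kj xj11 yj14 zj16) (kj xj11 yj14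 zj17) (kj xj11 yj14 zj18) (kj xj11 yj14 zj19) (kj xj14 yj13 zj17) (kj xj11 yj14 zj46) (kj xj13 yj3 zj45) (kj xj11 yj15 zj20) (kj xj11 yj14 zj31) (kj xj11 yj14 zj32) (kj xj11 yj14 zj33) (kj xj14 yj13 zj21) (kj xj14 yj13 zj20) (kj xj14 yj13 zj23) (kj xj13 yj10 zj16) (kj xj13 yj9 zj29) (kj xj13 yj10 zj20) (kj xj11 yj15 zj19) (kj xj11 yj14 zj47) (kj xj14 yj13 zj28) (kj xj11 yj15 zj47) (kj xj14 yj2 zj27) (kj xj11 yj15 zj45) (kj xj11 yj15 zj28) (kj xj14 yj1 zj47) (kj xj13 yj8 zj18) (kj xj13 yj8 zj33) (kj xj13 yj8 zj22) (kj xj13 yj8 zj38) (kj xj14 yj2 zj28) (kj xj13 yj9 zj4) (kj xj13 yj9 zj5) (kj xj11 yj15 zj23) (kj xj14 yj2 zj29) (kj xj11 yj15 zj30) (kj xj11 yj15 zj39) (kj xj11 yj15 zj18) (kj xj11 yj15 zj22) (kj xj11 yj15 zj26) (kj xj11 yj15 zj27) (kj xj14 yj13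 zj27) (kj xj14 yj13 zj22) (kj xj14 yj12 zj47) (kj xj14 yj13 zj42) (kj xj14 yj13 zj41)) (@D3.rec (fun _ => Pt) (kj xj11 yj15 zj25) (kj xj14 yj13 zj43) (kj xj14 yj13 zj45) (kj xj14 yj13 zj31) (kj xj14 yj13 zj30) (kj xj11 yj16 zj12) (kj xj13 yj3 zj6) (kj xj11 yj15 zj35) (kj xj14 yj13 zj44) (kj xj13 yj3 zj9) (kj xj13 yj3 zj10) (kj xj14 yj13 zj40) (kj xj13 yj22 zj29) (kj xj13 yj21 zj1) (kj xj13 yj7 zj3) (kj xj13 yj20 zj50) (kj xj14 yj3 zj23) (kj xj14 yj3 zj26) (kj xj11 yj16 zj4) (kj xj13 yj7 zj39) (kj xj13 yj7 zj28) (kj xj11 yj16 zj13) (kj xj14 yj14 zj2) (kj xj13 yj21 zj16) (kj xj12 yj0 zj34) (kj xj11 yj16 zj25) (kj xj11 yj16 zj26) (kj xj12 yj0 zj32) (kj xj12 yj2 zj44) (kj xj11 yj16 zj24) (kj xj13 yj1 zj48) (kj xj13 yj1 zj30) (kj xj13 yj3 zj32) (kj xj11 yj16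 zj30) (kj xj14 yj14 zj9) (kj xj13 yj3 zj35) (kj xj11 yj16 zj33) (kj xj14 yj14 zj10) (kj xj12 yj21 zj36) (kj xj11 yj16 zj37) (kj xj14 yj14 zj12) (kj xj11 yj16 zj40) (kj xj13 yj2 zj4) (kj xj13 yj3 zj43) (kj xj13 yj3 zj44) (kj xj13 yj2 zj12) (kj xj12 yj14 zj46) (kj xj12 yj14 zj47) (kj xj11 yj17 zj1) (kj xj11 yj17 zj2) (kj xj11 yj17 zj3)) (@D3.rec (fun _ => Pt) (kj xj14 yj14 zj15) (kj xj14 yj14 zj16) (kj xj13 yj4 zj2) (kj xj11 yj17 zj49) (kj xj11 yj17 zj50) (kj xj12 yj1 zj12) (kj xj12 yj13 zj34) (kj xj11 yj18 zj10) (kj xj11 yj18 zj11) (kj xj11 yj18 zj12) (kj xj11 yj18 zj13) (kj xj12 yj1 zj26) (kj xj11 yj18 zj19) (kj xj11 yj18 zj38) (kj xj11 yj18 zj47) (kj xj12 yj0 zj24) (kj xj11 yj19 zj2) (kj xj12 yj13 zj28) (kj xj11 yj19 zj11) (kj xj11 yj19 zj12) (kj xj12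 yj13 zj33) (kj xj11 yj19 zj26) (kj xj12 yj2 zj4) (kj xj11 yj19 zj28) (kj xj11 yj19 zj29) (kj xj12 yj2 zj32) (kj xj11 yj19 zj35) (kj xj11 yj19 zj36) (kj xj12 yj22 zj25) (kj xj13 yj1 zj37) (kj xj12 yj5 zj21) (kj xj12 yj22 zj37) (kj xj11 yj26 zj21) (kj xj11 yj26 zj47) (kj xj14 yj14 zj18) (kj xj14 yj14 zj19) (kj xj11 yj18 zj2) (kj xj11 yj18 zj3) (kj xj12 yj14 zj3) (kj xj14 yj14 zj40) (kj xj14 yj14 zj41) (kj xj11 yj18 zj7) (kj xj11 yj18 zj8) (kj xj12 yj14 zj0) (kj xj12 yj4 zj41) (kj xj12 yj14 zj42) (kj xj14 yj14 zj47) (kj xj14 yj14 zj48) (kj xj14 yj14 zj49) (kj xj11 yj25 zj50) (kj xj11 yj26 zj34)) (@D3.rec (fun _ => Pt) (kj xj11 yj26 zj35) (kj xj14 yj14 zj22) (kj xj14 yj14 zj23) (kj xj14 yj14 zj24) (kj xj11 yj18 zj16) (kj xj11 yj18 zj17) (kj xj14 yj15 zj12)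 (kj xj13 yj1 zj35) (kj xj14 yj14 zj25) (kj xj12 yj14 zj4) (kj xj12 yj0 zj37) (kj xj12 yj14 zj41) (kj xj11 yj26 zj0) (kj xj11 yj25 zj17) (kj xj12 yj14 zj45) (kj xj11 yj25 zj6) (kj xj12 yj22 zj22) (kj xj13 yj1 zj36) (kj xj12 yj22 zj23) (kj xj12 yj19 zj42) (kj xj14 yj14 zj26) (kj xj12 yj20 zj3) (kj xj12 yj22 zj13) (kj xj12 yj22 zj26) (kj xj12 yj22 zj27) (kj xj12 yj1 zj50) (kj xj12 yj19 zj39) (kj xj12 yj19 zj43) (kj xj12 yj2 zj30) (kj xj12 yj20 zj4) (kj xj11 yj19 zj1) (kj xj13 yj1 zj47) (kj xj11 yj19 zj4) (kj xj11 yj19 zj5) (kj xj14 yj15 zj28) (kj xj14 yj15 zj29) (kj xj11 yj19 zj9) (kj xj12 yj21 zj13) (kj xj12 yj21 zj16) (kj xj14 yj15 zj33) (kj xj14 yj15 zj0) (kj xj12 yj19 zj40) (kj xj14 yj14 zj28) (kj xj11 yj19 zj16) (kj xj11 yj19 zj17) (kj xj12 yj13 zj30)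 (kj xj12 yj13 zj31) (kj xj12 yj21 zj24) (kj xj14 yj15 zj40) (kj xj14 yj15 zj41) (kj xj11 yj19 zj22)) (@D3.rec (fun _ => Pt) (kj xj12 yj13 zj32) (kj xj14 yj15 zj47) (kj xj12 yj21 zj25) (kj xj12 yj21 zj29) (kj xj12 yj19 zj25) (kj xj14 yj14 zj50) (kj xj12 yj19 zj32) (kj xj12 yj19 zj33) (kj xj11 yj19 zj27) (kj xj14 yj16 zj2) (kj xj14 yj14 zj30) (kj xj14 yj14 zj31) (kj xj11 yj19 zj30) (kj xj14 yj16 zj6) (kj xj12 yj21 zj35) (kj xj12 yj21 zj37) (kj xj11 yj19 zj34) (kj xj13 yj1 zj49) (kj xj14 yj14 zj32) (kj xj14 yj14 zj33) (kj xj11 yj19 zj41) (kj xj14 yj16 zj12) (kj xj14 yj16 zj13) (kj xj11 yj21 zj28) (kj xj11 yj19 zj44) (kj xj11 yj19 zj45) (kj xj14 yj16 zj19) (kj xj14 yj16 zj20) (kj xj14 yj16 zj21) (kj xj11 yj19 zj48) (kj xj11 yj19 zj49) (kj xj11 yj19 zj50) (kj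 xj14 yj16 zj27) (kj xj14 yj16 zj28) (kj xj14 yj16 zj29) (kj xj14 yj16 zj30) (kj xj13 yj6 zj36) (kj xj13 yj6 zj37) (kj xj12 yj14 zj38) (kj xj12 yj14 zj39) (kj xj11 yj20 zj6) (kj xj11 yj20 zj7) (kj xj11 yj20 zj8) (kj xj12 yj24 zj39) (kj xj14 yj16 zj38) (kj xj14 yj16 zj39) (kj xj14 yj16 zj40) (kj xj14 yj16 zj41) (kj xj14 yj16 zj42) (kj xj11 yj20 zj13) (kj xj11 yj20 zj14)) (@D3.rec (fun _ => Pt) (kj xj11 yj20 zj15) (kj xj11 yj20 zj16) (kj xj11 yj20 zj17) (kj xj13 yj3 zj14) (kj xj14 yj17 zj0) (kj xj14 yj17 zj1) (kj xj14 yj17 zj2) (kj xj14 yj17 zj4) (kj xj14 yj17 zj5) (kj xj13 yj7 zj9) (kj xj13 yj7 zj10) (kj xj13 yj7 zj11) (kj xj13 yj7 zj12) (kj xj12 yj9 zj15) (kj xj11 yj20 zj25) (kj xj11 yj20 zj26) (kj xj14 yj17 zj17) (kj xj14 yj17 zj18) (kj xj13 yj7 zj18)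 (kj xj11 yj20 zj33) (kj xj11 yj20 zj35) (kj xj12 yj13 zj4) (kj xj13 yj0 zj46) (kj xj12 yj17 zj39) (kj xj12 yj18 zj41) (kj xj14 yj17 zj22) (kj xj12 yj18 zj42) (kj xj11 yj20 zj39) (kj xj13 yj3 zj20) (kj xj14 yj17 zj30) (kj xj13 yj7 zj30) (kj xj13 yj7 zj31) (kj xj13 yj7 zj32) (kj xj11 yj20 zj48) (kj xj12 yj12 zj5) (kj xj13 yj0 zj47) (kj xj12 yj6 zj12) (kj xj12 yj2 zj42) (kj xj11 yj21 zj1) (kj xj13 yj3 zj19) (kj xj12 yj0 zj29) (kj xj11 yj21 zj6) (kj xj14 yj17 zj35) (kj xj14 yj17 zj36) (kj xj11 yj21 zj8) (kj xj11 yj21 zj9) (kj xj14 yj17 zj39) (kj xj13 yj7 zj47) (kj xj12 yj1 zj28) (kj xj11 yj21 zj13) (kj xj11 yj21 zj14)) (@D3.rec (fun _ => Pt) (kj xj14 yj17 zj43) (kj xj14 yj17 zj44) (kj xj14 yj17 zj45) (kj xj11 yj21 zj17) (kj xj11 yj21 zj19) (kj xj14 yj18 zj0)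 (kj xj12 yj22 zj49) (kj xj13 yj1 zj42) (kj xj14 yj18 zj1) (kj xj13 yj8 zj9) (kj xj13 yj8 zj10) (kj xj12 yj22 zj50) (kj xj13 yj1 zj43) (kj xj13 yj8 zj13) (kj xj14 yj16 zj17) (kj xj14 yj16 zj18) (kj xj11 yj21 zj30) (kj xj11 yj21 zj31) (kj xj13 yj2 zj31) (kj xj14 yj18 zj11) (kj xj14 yj18 zj12) (kj xj11 yj21 zj36) (kj xj13 yj2 zj33) (kj xj12 yj23 zj1) (kj xj13 yj1 zj44) (kj xj14 yj18 zj18) (kj xj13 yj8 zj26) (kj xj13 yj8 zj27) (kj xj12 yj16 zj8) (kj xj12 yj16 zj9) (kj xj11 yj21 zj44) (kj xj11 yj21 zj45) (kj xj12 yj26 zj42) (kj xj13 yj2 zj32) (kj xj12 yj22 zj12) (kj xj14 yj18 zj26) (kj xj14 yj18 zj27) (kj xj11 yj21 zj50) (kj xj13 yj2 zj34) (kj xj14 yj18 zj34) (kj xj12 yj23 zj2) (kj xj13 yj1 zj45) (kj xj13 yj8 zj42) (kj xj11 yj22 zj1) (kj xj14 yj18 zj38) (kj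 xj13 yj8 zj45) (kj xj13 yj8 zj46) (kj xj11 yj22 zj4) (kj xj14 yj18 zj41) (kj xj12 yj23 zj3) (kj xj13 yj1 zj46)) (@D3.rec (fun _ => Pt) (kj xj11 yj22 zj8) (kj xj14 yj18 zj44) (kj xj13 yj9 zj2) (kj xj11 yj22 zj12) (kj xj13 yj2 zj36) (kj xj13 yj2 zj37) (kj xj11 yj22 zj19) (kj xj11 yj22 zj20) (kj xj14 yj18 zj47) (kj xj14 yj18 zj48) (kj xj14 yj18 zj49) (kj xj12 yj17 zj10) (kj xj12 yj17 zj11) (kj xj11 yj22 zj24) (kj xj11 yj22 zj25) (kj xj11 yj22 zj26) (kj xj14 yj19 zj7) (kj xj14 yj19 zj8) (kj xj14 yj19 zj9) (kj xj14 yj19 zj10) (kj xj14 yj19 zj11) (kj xj14 yj19 zj12) (kj xj11 yj22 zj30) (kj xj11 yj22 zj32) (kj xj11 yj22 zj33) (kj xj11 yj22 zj34) (kj xj11 yj22 zj35) (kj xj14 yj19 zj22) (kj xj12 yj25 zj23) (kj xj13 yj2 zj21) (kj xj14 yj19 zj23) (kj xj14 yj19 zj31)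 (kj xj14 yj19 zj25) (kj xj14 yj19 zj26) (kj xj13 yj9 zj34) (kj xj13 yj9 zj35) (kj xj13 yj9 zj36) (kj xj11 yj22 zj39) (kj xj14 yj19 zj37) (kj xj13 yj9 zj39) (kj xj13 yj9 zj40) (kj xj12 yj17 zj40) (kj xj12 yj17 zj41) (kj xj11 yj22 zj47) (kj xj11 yj22 zj48) (kj xj11 yj22 zj49) (kj xj11 yj22 zj50) (kj xj11 yj23 zj0) (kj xj11 yj23 zj1) (kj xj14 yj19 zj44) (kj xj14 yj19 zj45)) (@D3.rec (fun _ => Pt) (kj xj14 yj19 zj46) (kj xj12 yj15 zj12) (kj xj12 yj25 zj7) (kj xj14 yj19 zj47) (kj xj14 yj19 zj48) (kj xj14 yj20 zj13) (kj xj14 yj19 zj50) (kj xj14 yj20 zj0) (kj xj11 yj23 zj7) (kj xj11 yj23 zj9) (kj xj11 yj23 zj12) (kj xj14 yj20 zj20) (kj xj11 yj23 zj14) (kj xj11 yj23 zj15) (kj xj14 yj20 zj17) (kj xj12 yj25 zj21) (kj xj13 yj2 zj20) (kj xj14 yj20 zj18) (kj xj14 yj20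 zj28) (kj xj12 yj25 zj24) (kj xj13 yj2 zj22) (kj xj14 yj20 zj19) (kj xj11 yj23 zj13) (kj xj14 yj20 zj32) (kj xj14 yj20 zj22) (kj xj14 yj20 zj23) (kj xj13 yj10 zj26) (kj xj13 yj10 zj27) (kj xj13 yj10 zj28) (kj xj11 yj23 zj19) (kj xj14 yj20 zj38) (kj xj13 yj10 zj31) (kj xj13 yj10 zj32) (kj xj11 yj23 zj24) (kj xj14 yj20 zj41) (kj xj13 yj10 zj35) (kj xj13 yj10 zj36) (kj xj11 yj23 zj27) (kj xj14 yj20 zj44) (kj xj11 yj23 zj32) (kj xj11 yj23 zj33) (kj xj11 yj23 zj31) (kj xj14 yj20 zj48) (kj xj14 yj20 zj46) (kj xj14 yj20 zj47) (kj xj11 yj23 zj35) (kj xj14 yj21 zj2) (kj xj13 yj10 zj47) (kj xj13 yj10 zj48) (kj xj11 yj23 zj42) (kj xj11 yj23 zj44)) (@D3.rec (fun _ => Pt) (kj xj11 yj23 zj47) (kj xj12 yj15 zj25) (kj xj14 yj21 zj4) (kj xj12 yj15 zj11) (kj xj12 yj15 zj26)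 (kj xj14 yj21 zj5) (kj xj12 yj13 zj8) (kj xj12 yj15 zj13) (kj xj12 yj15 zj27) (kj xj14 yj21 zj6) (kj xj11 yj24 zj1) (kj xj11 yj24 zj2) (kj xj11 yj24 zj3) (kj xj14 yj21 zj18) (kj xj14 yj21 zj19) (kj xj14 yj21 zj20) (kj xj13 yj11 zj16) (kj xj13 yj11 zj17) (kj xj11 yj24 zj11) (kj xj11 yj24 zj13) (kj xj11 yj24 zj15) (kj xj12 yj15 zj37) (kj xj14 yj21 zj24) (kj xj12 yj15 zj38) (kj xj14 yj21 zj25) (kj xj11 yj24 zj19) (kj xj11 yj24 zj20) (kj xj11 yj24 zj21) (kj xj12 yj0 zj11) (kj xj12 yj0 zj13) (kj xj12 yj0 zj18) (kj xj12 yj0 zj20) (kj xj12 yj0 zj25) (kj xj12 yj0 zj35) (kj xj11 yj24 zj35) (kj xj12 yj2 zj5) (kj xj13 yj1 zj39) (kj xj12 yj0 zj44) (kj xj12 yj1 zj38) (kj xj13 yj1 zj38) (kj xj12 yj1 zj0) (kj xj12 yj1 zj1) (kj xj12 yj1 zj2) (kj xj11 yj24 zj45) (kj xj12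 yj2 zj7) (kj xj14 yj15 zj17) (kj xj11 yj24 zj48) (kj xj12 yj2 zj8) (kj xj12 yj1 zj13) (kj xj12 yj1 zj14) (kj xj12 yj1 zj15)) (@D3.rec (fun _ => Pt) (kj xj12 yj1 zj19) (kj xj12 yj1 zj27) (kj xj12 yj22 zj34) (kj xj12 yj1 zj37) (kj xj12 yj1 zj39) (kj xj12 yj1 zj40) (kj xj12 yj1 zj41) (kj xj12 yj1 zj42) (kj xj12 yj21 zj48) (kj xj11 yj25 zj20) (kj xj14 yj21 zj45) (kj xj12 yj2 zj6) (kj xj12 yj2 zj9) (kj xj12 yj2 zj11) (kj xj12 yj2 zj12) (kj xj12 yj2 zj18) (kj xj12 yj2 zj19) (kj xj12 yj2 zj33) (kj xj12 yj2 zj34) (kj xj12 yj2 zj46) (kj xj12 yj3 zj1) (kj xj12 yj22 zj32) (kj xj12 yj3 zj9) (kj xj12 yj3 zj10) (kj xj12 yj3 zj11) (kj xj11 yj25 zj44) (kj xj11 yj25 zj45) (kj xj12 yj3 zj43) (kj xj14 yj22 zj7) (kj xj12 yj3 zj22) (kj xj12 yj3 zj23) (kj xj12 yj3 zj24) (kj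 xj12 yj3 zj25) (kj xj12 yj3 zj26) (kj xj14 yj15 zj7) (kj xj11 yj26 zj5) (kj xj12 yj21 zj0) (kj xj12 yj3 zj42) (kj xj12 yj21 zj30) (kj xj14 yj22 zj15) (kj xj12 yj3 zj44) (kj xj12 yj3 zj45) (kj xj12 yj3 zj46) (kj xj12 yj3 zj47) (kj xj12 yj4 zj17) (kj xj12 yj21 zj38) (kj xj12 yj4 zj2) (kj xj12 yj20 zj27) (kj xj12 yj21 zj10) (kj xj12 yj4 zj18) (kj xj12 yj4 zj19)) (@D3.rec (fun _ => Pt) (kj xj13 yj1 zj40) (kj xj11 yj26 zj27) (kj xj12 yj20 zj35) (kj xj12 yj21 zj18) (kj xj14 yj22 zj28) (kj xj12 yj4 zj38) (kj xj12 yj4 zj39) (kj xj12 yj4 zj40) (kj xj12 yj4 zj42) (kj xj12 yj4 zj43) (kj xj14 yj15 zj8) (kj xj14 yj15 zj9) (kj xj11 yj26 zj40) (kj xj12 yj21 zj1) (kj xj12 yj21 zj2) (kj xj12 yj21 zj31) (kj xj12 yj5 zj18) (kj xj12 yj5 zj19) (kj xj12 yj5 zj20) (kj xj12 yj5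 zj22) (kj xj12 yj5 zj23) (kj xj12 yj5 zj24) (kj xj13 yj1 zj41) (kj xj12 yj5 zj27) (kj xj12 yj5 zj28) (kj xj12 yj21 zj39) (kj xj12 yj5 zj37) (kj xj12 yj5 zj38) (kj xj12 yj21 zj11) (kj xj12 yj6 zj3) (kj xj12 yj6 zj4) (kj xj12 yj6 zj5) (kj xj12 yj0 zj23) (kj xj12 yj0 zj16) (kj xj12 yj1 zj23) (kj xj12 yj1 zj25) (kj xj12 yj20 zj8) (kj xj12 yj6 zj15) (kj xj12 yj1 zj18) (kj xj12 yj23 zj24) (kj xj14 yj15 zj16) (kj xj12 yj0 zj40) (kj xj14 yj23 zj1) (kj xj14 yj23 zj2) (kj xj12 yj0 zj42) (kj xj12 yj0 zj43) (kj xj14 yj23 zj5) (kj xj14 yj21 zj28) (kj xj12 yj0 zj47) (kj xj14 yj23 zj7) (kj xj14 yj23 zj8)) (@D3.rec (fun _ => Pt) (kj xj12 yj0 zj49) (kj xj12 yj0 zj50) (kj xj12 yj1 zj35) (kj xj12 yj1 zj34) (kj xj14 yj23 zj12) (kj xj14 yj21 zj30) (kj xj14 yj21 zj31) (kj xj14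 yj21 zj32) (kj xj12 yj2 zj48) (kj xj12 yj1 zj5) (kj xj12 yj1 zj6) (kj xj12 yj2 zj1) (kj xj14 yj23 zj21) (kj xj14 yj23 zj22) (kj xj12 yj1 zj11) (kj xj12 yj2 zj2) (kj xj12 yj1 zj46) (kj xj12 yj2 zj0) (kj xj14 yj23 zj28) (kj xj14 yj14 zj20) (kj xj14 yj21 zj35) (kj xj14 yj21 zj36) (kj xj12 yj2 zj26) (kj xj12 yj2 zj31) (kj xj14 yj21 zj37) (kj xj12 yj14 zj43) (kj xj12 yj2 zj15) (kj xj14 yj23 zj0) (kj xj12 yj2 zj16) (kj xj14 yj21 zj38) (kj xj14 yj17 zj41) (kj xj14 yj17 zj42) (kj xj12 yj1 zj30) (kj xj12 yj1 zj31) (kj xj14 yj23 zj14) (kj xj14 yj23 zj42) (kj xj14 yj23 zj43) (kj xj12 yj1 zj36) (kj xj12 yj14 zj27) (kj xj14 yj23 zj15) (kj xj14 yj23 zj9) (kj xj14 yj23 zj13) (kj xj14 yj23 zj50) (kj xj14 yj21 zj40) (kj xj14 yj21 zj29) (kj xj14 yj21 zj41) (kj xj12 yj3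 zj7) (kj xj14 yj21 zj42) (kj xj14 yj21 zj43) (kj xj12 yj14 zj8) (kj xj12 yj14 zj37)) (@D3.rec (fun _ => Pt) (kj xj12 yj1 zj47) (kj xj12 yj1 zj48) (kj xj12 yj22 zj1) (kj xj14 yj23 zj25) (kj xj14 yj23 zj30) (kj xj14 yj23 zj23) (kj xj14 yj24 zj13) (kj xj14 yj24 zj14) (kj xj12 yj2 zj3) (kj xj14 yj15 zj25) (kj xj14 yj23 zj31) (kj xj12 yj22 zj9) (kj xj14 yj23 zj24) (kj xj14 yj23 zj29) (kj xj14 yj14 zj29) (kj xj14 yj21 zj27) (kj xj14 yj21 zj46) (kj xj12 yj2 zj50) (kj xj14 yj21 zj33) (kj xj14 yj21 zj34) (kj xj14 yj21 zj47) (kj xj12 yj22 zj21) (kj xj14 yj21 zj48) (kj xj14 yj21 zj49) (kj xj12 yj22 zj48) (kj xj14 yj23 zj37) (kj xj14 yj23 zj38) (kj xj12 yj23 zj7) (kj xj14 yj21 zj50) (kj xj14 yj22 zj0) (kj xj12 yj2 zj27) (kj xj12 yj2 zj28) (kj xj12 yj22 zj44) (kj xj12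 yj6 zj40) (kj xj12 yj6 zj46) (kj xj14 yj23 zj35) (kj xj14 yj17 zj34) (kj xj12 yj23 zj23) (kj xj14 yj23 zj36) (kj xj14 yj22 zj1) (kj xj14 yj22 zj2) (kj xj12 yj21 zj33) (kj xj12 yj12 zj16) (kj xj12 yj22 zj45) (kj xj12 yj23 zj22) (kj xj14 yj23 zj19) (kj xj14 yj23 zj20) (kj xj12 yj3 zj0) (kj xj14 yj24 zj31) (kj xj14 yj22 zj3) (kj xj12 yj3 zj3)) (@D3.rec (fun _ => Pt) (kj xj12 yj3 zj4) (kj xj14 yj24 zj2) (kj xj14 yj25 zj0) (kj xj14 yj25 zj1) (kj xj12 yj3 zj8) (kj xj12 yj3 zj20) (kj xj14 yj24 zj8) (kj xj14 yj25 zj7) (kj xj14 yj22 zj5) (kj xj14 yj22 zj6) (kj xj12 yj3 zj13) (kj xj14 yj25 zj12) (kj xj14 yj25 zj13) (kj xj12 yj3 zj15) (kj xj12 yj3 zj16) (kj xj14 yj25 zj17) (kj xj14 yj25 zj18) (kj xj14 yj25 zj19) (kj xj12 yj3 zj19) (kj xj12 yj3 zj21) (kj xj12 yj3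 zj37) (kj xj12 yj3 zj36) (kj xj14 yj25 zj26) (kj xj14 yj25 zj2) (kj xj14 yj25 zj8) (kj xj14 yj25 zj27) (kj xj14 yj22 zj10) (kj xj14 yj22 zj11) (kj xj14 yj22 zj12) (kj xj14 yj22 zj13) (kj xj12 yj21 zj20) (kj xj12 yj21 zj21) (kj xj12 yj3 zj30) (kj xj12 yj3 zj31) (kj xj12 yj3 zj32) (kj xj14 yj25 zj29) (kj xj14 yj25 zj40) (kj xj14 yj25 zj41) (kj xj14 yj25 zj42) (kj xj14 yj25 zj43) (kj xj14 yj25 zj44) (kj xj12 yj3 zj38) (kj xj12 yj3 zj39) (kj xj12 yj3 zj40) (kj xj12 yj3 zj41) (kj xj12 yj4 zj33) (kj xj14 yj25 zj30) (kj xj14 yj25 zj20) (kj xj14 yj25 zj28) (kj xj14 yj26 zj2) (kj xj14 yj26 zj3)) (@D3.rec (fun _ => Pt) (kj xj14 yj26 zj4) (kj xj14 yj22 zj17) (kj xj14 yj22 zj8) (kj xj14 yj22 zj19) (kj xj14 yj22 zj20) (kj xj14 yj22 zj21) (kj xj14 yj22 zj22) (kj xj12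 yj20 zj22) (kj xj12 yj4 zj0) (kj xj12 yj4 zj1) (kj xj14 yj26 zj19) (kj xj14 yj24 zj46) (kj xj14 yj22 zj24) (kj xj12 yj4 zj7) (kj xj12 yj4 zj8) (kj xj12 yj4 zj9) (kj xj12 yj4 zj10) (kj xj14 yj26 zj22) (kj xj14 yj26 zj23) (kj xj14 yj26 zj24) (kj xj12 yj4 zj15) (kj xj12 yj4 zj16) (kj xj12 yj20 zj25) (kj xj13 yj2 zj0) (kj xj14 yj24 zj39) (kj xj14 yj22 zj23) (kj xj14 yj22 zj25) (kj xj14 yj22 zj26) (kj xj12 yj4 zj21) (kj xj12 yj4 zj22) (kj xj14 yj26 zj32) (kj xj14 yj26 zj33) (kj xj14 yj26 zj34) (kj xj12 yj14 zj22) (kj xj12 yj14 zj34) (kj xj12 yj4 zj26) (kj xj12 yj4 zj27) (kj xj12 yj4 zj28) (kj xj12 yj20 zj30) (kj xj14 yj26 zj43) (kj xj14 yj26 zj44) (kj xj14 yj26 zj45) (kj xj14 yj26 zj46) (kj xj14 yj26 zj47) (kj xj12 yj4 zj34) (kj xj12 yj4 zj35) (kj xj12 yj4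 zj36) (kj xj12 yj4 zj37) (kj xj12 yj20 zj33) (kj xj14 yj25 zj45) (kj xj14 yj26 zj5)) (@D3.rec (fun _ => Pt) (kj xj15 yj0 zj6) (kj xj14 yj15 zj2) (kj xj15 yj0 zj7) (kj xj15 yj0 zj8) (kj xj14 yj22 zj31) (kj xj14 yj22 zj32) (kj xj14 yj22 zj33) (kj xj14 yj15 zj3) (kj xj14 yj22 zj34) (kj xj14 yj22 zj35) (kj xj12 yj22 zj2) (kj xj12 yj22 zj3) (kj xj12 yj4 zj50) (kj xj12 yj5 zj0) (kj xj12 yj5 zj1) (kj xj12 yj5 zj2) (kj xj12 yj5 zj3) (kj xj12 yj20 zj15) (kj xj12 yj20 zj40) (kj xj12 yj20 zj41) (kj xj15 yj0 zj25) (kj xj15 yj0 zj26) (kj xj15 yj0 zj27) (kj xj15 yj0 zj28) (kj xj15 yj0 zj44) (kj xj15 yj0 zj29) (kj xj15 yj0 zj30) (kj xj12 yj5 zj12) (kj xj12 yj5 zj13) (kj xj12 yj5 zj14) (kj xj12 yj5 zj16) (kj xj12 yj5 zj17) (kj xj12 yj20 zj19) (kj xj12 yj20 zj46) (kj xj12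 yj20 zj47) (kj xj12 yj20 zj48) (kj xj14 yj14 zj36) (kj xj15 yj0 zj48) (kj xj15 yj0 zj49) (kj xj15 yj0 zj50) (kj xj12 yj5 zj15) (kj xj15 yj1 zj10) (kj xj15 yj1 zj0) (kj xj15 yj1 zj1) (kj xj14 yj22 zj40) (kj xj14 yj22 zj41) (kj xj14 yj22 zj42) (kj xj14 yj14 zj37) (kj xj14 yj22 zj43) (kj xj14 yj22 zj44) (kj xj14 yj22 zj45)) (@D3.rec (fun _ => Pt) (kj xj12 yj5 zj26) (kj xj15 yj1 zj21) (kj xj14 yj22 zj47) (kj xj14 yj22 zj48) (kj xj12 yj5 zj33) (kj xj12 yj5 zj34) (kj xj12 yj5 zj32) (kj xj13 yj1 zj50) (kj xj15 yj1 zj23) (kj xj14 yj26 zj29) (kj xj12 yj23 zj9) (kj xj14 yj22 zj49) (kj xj14 yj22 zj50) (kj xj12 yj5 zj46) (kj xj12 yj5 zj47) (kj xj12 yj5 zj48) (kj xj12 yj5 zj49) (kj xj12 yj7 zj41) (kj xj12 yj20 zj23) (kj xj12 yj21 zj5) (kj xj12 yj21 zj6) (kj xj12 yj21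 zj7) (kj xj15 yj1 zj29) (kj xj15 yj1 zj30) (kj xj15 yj1 zj31) (kj xj15 yj1 zj32) (kj xj14 yj17 zj33) (kj xj12 yj6 zj2) (kj xj12 yj20 zj26) (kj xj12 yj21 zj9) (kj xj14 yj26 zj21) (kj xj12 yj12 zj21) (kj xj12 yj20 zj24) (kj xj12 yj21 zj8) (kj xj12 yj23 zj17) (kj xj13 yj0 zj45) (kj xj13 yj2 zj2) (kj xj13 yj2 zj3) (kj xj12 yj6 zj25) (kj xj12 yj6 zj26) (kj xj14 yj21 zj10) (kj xj15 yj1 zj48) (kj xj15 yj1 zj49) (kj xj12 yj6 zj29) (kj xj12 yj6 zj30) (kj xj15 yj2 zj3) (kj xj15 yj2 zj4) (kj xj13 yj19 zj47) (kj xj12 yj23 zj25) (kj xj12 yj23 zj26) (kj xj12 yj6 zj36)) (@D3.rec (fun _ => Pt) (kj xj12 yj6 zj37) (kj xj14 yj24 zj17) (kj xj15 yj2 zj9) (kj xj15 yj2 zj10) (kj xj12 yj6 zj41) (kj xj12 yj6 zj42) (kj xj14 yj24 zj42) (kj xj15 yj2 zj13) (kj xj13 yj20 zj8) (kj xj12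 yj6 zj47) (kj xj14 yj24 zj43) (kj xj15 yj2 zj16) (kj xj12 yj7 zj0) (kj xj12 yj7 zj1) (kj xj15 yj1 zj33) (kj xj15 yj2 zj18) (kj xj15 yj2 zj19) (kj xj12 yj23 zj34) (kj xj12 yj23 zj35) (kj xj12 yj7 zj5) (kj xj12 yj7 zj6) (kj xj15 yj2 zj27) (kj xj15 yj2 zj28) (kj xj15 yj2 zj29) (kj xj12 yj7 zj9) (kj xj12 yj7 zj10) (kj xj12 yj7 zj11) (kj xj15 yj2 zj32) (kj xj15 yj2 zj33) (kj xj13 yj20 zj29) (kj xj12 yj23 zj45) (kj xj12 yj23 zj46) (kj xj12 yj23 zj47) (kj xj12 yj7 zj19) (kj xj12 yj7 zj20) (kj xj12 yj7 zj21) (kj xj12 yj7 zj22) (kj xj12 yj7 zj23) (kj xj12 yj24 zj40) (kj xj12 yj24 zj41) (kj xj12 yj23 zj38) (kj xj12 yj23 zj32) (kj xj15 yj2 zj41) (kj xj15 yj2 zj42) (kj xj15 yj2 zj50) (kj xj15 yj2 zj43) (kj xj15 yj2 zj44) (kj xj12 yj7 zj31) (kj xj12 yj7 zj33) (kj xj12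 yj7 zj34) (kj xj13 yj3 zj15)) (@D3.rec (fun _ => Pt) (kj xj12 yj23 zj33) (kj xj13 yj3 zj13) (kj xj12 yj7 zj32) (kj xj15 yj3 zj6) (kj xj15 yj3 zj3) (kj xj15 yj3 zj4) (kj xj12 yj7 zj38) (kj xj15 yj3 zj10) (kj xj13 yj21 zj8) (kj xj13 yj21 zj9) (kj xj15 yj1 zj34) (kj xj12 yj7 zj46) (kj xj12 yj7 zj47) (kj xj12 yj7 zj45) (kj xj15 yj3 zj14) (kj xj15 yj3 zj13) (kj xj13 yj3 zj23) (kj xj12 yj7 zj49) (kj xj15 yj3 zj18) (kj xj12 yj24 zj28) (kj xj12 yj23 zj43) (kj xj12 yj8 zj10) (kj xj12 yj8 zj11) (kj xj15 yj3 zj20) (kj xj15 yj3 zj21) (kj xj12 yj8 zj14) (kj xj15 yj3 zj24) (kj xj12 yj24 zj16) (kj xj12 yj24 zj27) (kj xj12 yj8 zj19) (kj xj12 yj8 zj20) (kj xj12 yj8 zj21) (kj xj15 yj3 zj27) (kj xj15 yj3 zj28) (kj xj15 yj3 zj29) (kj xj15 yj3 zj30) (kj xj12 yj8 zj24) (kj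 xj12 yj8 zj25) (kj xj15 yj3 zj35) (kj xj13 yj21 zj39) (kj xj12 yj8 zj28) (kj xj12 yj8 zj29) (kj xj12 yj18 zj49) (kj xj15 yj3 zj37) (kj xj15 yj3 zj38) (kj xj12 yj24 zj33) (kj xj12 yj24 zj34) (kj xj12 yj8 zj33) (kj xj12 yj8 zj34) (kj xj15 yj3 zj46) (kj xj15 yj3 zj47)) (@D3.rec (fun _ => Pt) (kj xj15 yj3 zj48) (kj xj12 yj8 zj37) (kj xj12 yj8 zj38) (kj xj12 yj8 zj39) (kj xj15 yj4 zj1) (kj xj15 yj4 zj2) (kj xj13 yj22 zj6) (kj xj12 yj24 zj47) (kj xj12 yj24 zj48) (kj xj12 yj24 zj49) (kj xj12 yj8 zj47) (kj xj12 yj8 zj48) (kj xj12 yj8 zj49) (kj xj12 yj8 zj50) (kj xj12 yj9 zj0) (kj xj12 yj26 zj43) (kj xj13 yj0 zj40) (kj xj15 yj4 zj11) (kj xj15 yj4 zj12) (kj xj15 yj4 zj13) (kj xj15 yj4 zj14) (kj xj15 yj4 zj16) (kj xj15 yj4 zj17) (kj xj12 yj9 zj7) (kj xj12 yj9 zj8)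 (kj xj12 yj9 zj9) (kj xj14 yj17 zj3) (kj xj12 yj9 zj10) (kj xj12 yj9 zj11) (kj xj13 yj3 zj12) (kj xj15 yj4 zj29) (kj xj15 yj4 zj30) (kj xj15 yj4 zj32) (kj xj15 yj4 zj33) (kj xj13 yj22 zj34) (kj xj13 yj22 zj35) (kj xj14 yj17 zj16) (kj xj12 yj9 zj18) (kj xj12 yj9 zj19) (kj xj15 yj4 zj40) (kj xj15 yj4 zj41) (kj xj12 yj12 zj49) (kj xj12 yj25 zj17) (kj xj12 yj12 zj14) (kj xj12 yj9 zj30) (kj xj12 yj9 zj31) (kj xj12 yj13 zj1) (kj xj13 yj0 zj48) (kj xj13 yj1 zj17) (kj xj13 yj1 zj20) (kj xj13 yj1 zj15)) (@D3.rec (fun _ => Pt) (kj xj15 yj4 zj45) (kj xj12 yj17 zj29) (kj xj12 yj24 zj32) (kj xj12 yj9 zj36) (kj xj12 yj9 zj37) (kj xj12 yj9 zj38) (kj xj15 yj5 zj3) (kj xj15 yj5 zj4) (kj xj15 yj5 zj5) (kj xj15 yj5 zj6) (kj xj15 yj5 zj7) (kj xj15 yj5 zj8) (kj xj12 yj25 zj31)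 (kj xj12 yj25 zj32) (kj xj12 yj25 zj33) (kj xj12 yj9 zj44) (kj xj12 yj9 zj45) (kj xj12 yj9 zj46) (kj xj12 yj9 zj47) (kj xj12 yj9 zj48) (kj xj12 yj9 zj49) (kj xj15 yj5 zj24) (kj xj15 yj5 zj25) (kj xj12 yj26 zj36) (kj xj15 yj5 zj26) (kj xj15 yj5 zj27) (kj xj15 yj5 zj28) (kj xj15 yj5 zj41) (kj xj15 yj5 zj30) (kj xj15 yj5 zj31) (kj xj12 yj10 zj5) (kj xj12 yj10 zj6) (kj xj12 yj10 zj7) (kj xj12 yj10 zj8) (kj xj15 yj5 zj49) (kj xj12 yj10 zj10) (kj xj12 yj10 zj11) (kj xj15 yj5 zj45) (kj xj15 yj6 zj2) (kj xj15 yj5 zj47) (kj xj15 yj5 zj48) (kj xj12 yj10 zj9) (kj xj15 yj6 zj6) (kj xj15 yj6 zj0) (kj xj15 yj6 zj1) (kj xj12 yj10 zj13) (kj xj15 yj6 zj10) (kj xj13 yj23 zj47) (kj xj13 yj23 zj48) (kj xj12 yj10 zj17) (kj xj15 yj6 zj12)) (@D3.rec (fun _ => Pt) (kj xj13 yj24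 zj0) (kj xj13 yj24 zj1) (kj xj12 yj13 zj2) (kj xj12 yj26 zj22) (kj xj12 yj26 zj23) (kj xj12 yj26 zj24) (kj xj12 yj26 zj25) (kj xj12 yj26 zj26) (kj xj12 yj10 zj29) (kj xj12 yj10 zj30) (kj xj12 yj10 zj31) (kj xj12 yj10 zj32) (kj xj12 yj10 zj33) (kj xj12 yj10 zj34) (kj xj12 yj10 zj35) (kj xj15 yj6 zj38) (kj xj12 yj10 zj37) (kj xj12 yj10 zj38) (kj xj15 yj6 zj25) (kj xj15 yj6 zj26) (kj xj15 yj6 zj27) (kj xj15 yj6 zj28) (kj xj15 yj6 zj29) (kj xj15 yj6 zj30) (kj xj15 yj6 zj31) (kj xj15 yj6 zj32) (kj xj15 yj6 zj33) (kj xj15 yj7 zj4) (kj xj15 yj6 zj35) (kj xj15 yj6 zj36) (kj xj15 yj6 zj37) (kj xj12 yj10 zj36) (kj xj15 yj7 zj9) (kj xj15 yj6 zj40) (kj xj15 yj6 zj41) (kj xj12 yj10 zj48) (kj xj12 yj10 zj49) (kj xj12 yj10 zj50) (kj xj12 yj11 zj0) (kj xj15 yj7 zj17)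 (kj xj12 yj11 zj2) (kj xj12 yj11 zj3) (kj xj12 yj11 zj4) (kj xj12 yj10 zj45) (kj xj15 yj7 zj22) (kj xj12 yj11 zj7) (kj xj12 yj11 zj8) (kj xj15 yj7 zj13) (kj xj15 yj7 zj26) (kj xj15 yj7 zj14) (kj xj15 yj7 zj15)) (@D3.rec (fun _ => Pt) (kj xj15 yj7 zj16) (kj xj12 yj11 zj1) (kj xj15 yj7 zj30) (kj xj15 yj7 zj19) (kj xj15 yj7 zj20) (kj xj15 yj7 zj21) (kj xj12 yj11 zj6) (kj xj15 yj7 zj36) (kj xj15 yj7 zj24) (kj xj15 yj7 zj25) (kj xj12 yj11 zj10) (kj xj15 yj7 zj41) (kj xj13 yj25 zj12) (kj xj13 yj25 zj13) (kj xj12 yj11 zj15) (kj xj15 yj7 zj43) (kj xj13 yj25 zj16) (kj xj13 yj25 zj17) (kj xj13 yj25 zj18) (kj xj12 yj11 zj20) (kj xj15 yj7 zj46) (kj xj13 yj25 zj21) (kj xj13 yj25 zj22) (kj xj12 yj11 zj24) (kj xj15 yj7 zj49) (kj xj12 yj11 zj29) (kj xj12 yj11 zj30) (kj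 xj12 yj11 zj28) (kj xj15 yj8 zj3) (kj xj15 yj8 zj0) (kj xj15 yj8 zj1) (kj xj15 yj8 zj2) (kj xj12 yj11 zj32) (kj xj15 yj8 zj9) (kj xj13 yj25 zj34) (kj xj12 yj12 zj3) (kj xj12 yj12 zj50) (kj xj12 yj12 zj0) (kj xj12 yj11 zj50) (kj xj12 yj11 zj48) (kj xj12 yj11 zj49) (kj xj12 yj12 zj1) (kj xj12 yj12 zj2) (kj xj12 yj12 zj4) (kj xj13 yj1 zj10) (kj xj15 yj4 zj44) (kj xj15 yj8 zj11) (kj xj15 yj8 zj10) (kj xj15 yj8 zj12) (kj xj15 yj8 zj13) (kj xj15 yj6 zj17)) (@D3.rec (fun _ => Pt) (kj xj15 yj8 zj14) (kj xj14 yj17 zj24) (kj xj12 yj12 zj9) (kj xj12 yj12 zj10) (kj xj12 yj12 zj11) (kj xj14 yj21 zj14) (kj xj12 yj24 zj37) (kj xj15 yj1 zj46) (kj xj12 yj18 zj50) (kj xj12 yj19 zj14) (kj xj13 yj1 zj16) (kj xj12 yj12 zj32) (kj xj12 yj12 zj34) (kj xj12 yj12 zj36) (kj xj12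 yj16 zj43) (kj xj12 yj16 zj42) (kj xj15 yj8 zj23) (kj xj12 yj17 zj48) (kj xj12 yj18 zj48) (kj xj15 yj8 zj24) (kj xj12 yj19 zj13) (kj xj12 yj12 zj41) (kj xj12 yj25 zj22) (kj xj12 yj25 zj4) (kj xj12 yj25 zj20) (kj xj12 yj25 zj39) (kj xj12 yj26 zj37) (kj xj13 yj1 zj14) (kj xj12 yj13 zj0) (kj xj12 yj13 zj3) (kj xj15 yj6 zj18) (kj xj15 yj4 zj47) (kj xj15 yj4 zj46) (kj xj14 yj17 zj23) (kj xj15 yj6 zj16) (kj xj14 yj20 zj7) (kj xj12 yj13 zj29) (kj xj12 yj13 zj38) (kj xj12 yj13 zj44) (kj xj12 yj14 zj30) (kj xj12 yj21 zj50) (kj xj12 yj14 zj25) (kj xj12 yj14 zj26) (kj xj12 yj14 zj28) (kj xj12 yj14 zj29) (kj xj12 yj14 zj33) (kj xj12 yj13 zj39) (kj xj12 yj13 zj40) (kj xj12 yj13 zj43) (kj xj14 yj14 zj27) (kj xj14 yj15 zj42))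
def f_j_14 : D2 → D3 → Pt := @D2.rec (fun _ => D3 → Pt) (@D3.rec (fun _ => Pt) (kj xj14 yj15 zj43) (kj xj14 yj14 zj21) (kj xj12 yj20 zj31) (kj xj12 yj20 zj32) (kj xj12 yj20 zj34) (kj xj12 yj21 zj14) (kj xj15 yj8 zj42) (kj xj15 yj8 zj43) (kj xj12 yj21 zj15) (kj xj12 yj21 zj17) (kj xj12 yj22 zj17) (kj xj12 yj22 zj31) (kj xj14 yj15 zj1) (kj xj12 yj19 zj41) (kj xj14 yj14 zj42) (kj xj14 yj14 zj43) (kj xj12 yj14 zj9) (kj xj12 yj14 zj10) (kj xj12 yj14 zj12) (kj xj12 yj14 zj13) (kj xj14 yj24 zj11) (kj xj14 yj24 zj12) (kj xj14 yj16 zj36) (kj xj12 yj21 zj42) (kj xj15 yj9 zj3) (kj xj15 yj9 zj4) (kj xj14 yj26 zj41) (kj xj12 yj21 zj44) (kj xj15 yj9 zj5) (kj xj12 yj14 zj18) (kj xj12 yj14 zj21) (kj xj12 yj21 zj41) (kj xj12 yj21 zj46) (kj xj15 yj9 zj17) (kj xj14 yj23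 zj44) (kj xj12 yj21 zj43) (kj xj12 yj21 zj47) (kj xj14 yj15 zj4) (kj xj14 yj26 zj42) (kj xj12 yj21 zj45) (kj xj15 yj8 zj39) (kj xj14 yj24 zj0) (kj xj15 yj8 zj40) (kj xj15 yj8 zj41) (kj xj12 yj14 zj32) (kj xj15 yj9 zj27) (kj xj14 yj16 zj37) (kj xj14 yj14 zj14) (kj xj13 yj2 zj5) (kj xj12 yj16 zj0) (kj xj12 yj16 zj1)) (@D3.rec (fun _ => Pt) (kj xj12 yj16 zj2) (kj xj12 yj15 zj5) (kj xj12 yj15 zj6) (kj xj15 yj9 zj33) (kj xj15 yj9 zj34) (kj xj12 yj15 zj8) (kj xj12 yj15 zj14) (kj xj12 yj15 zj15) (kj xj14 yj21 zj7) (kj xj14 yj20 zj3) (kj xj14 yj21 zj11) (kj xj14 yj20 zj8) (kj xj14 yj21 zj15) (kj xj15 yj9 zj36) (kj xj12 yj15 zj19) (kj xj12 yj15 zj20) (kj xj12 yj15 zj21) (kj xj15 yj9 zj44) (kj xj15 yj9 zj45) (kj xj15 yj9 zj46) (kj xj14 yj1 zj20) (kj xj14 yj1 zj21)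 (kj xj14 yj21 zj8) (kj xj14 yj21 zj12) (kj xj14 yj21 zj16) (kj xj12 yj15 zj31) (kj xj12 yj15 zj32) (kj xj12 yj15 zj33) (kj xj15 yj10 zj1) (kj xj15 yj10 zj2) (kj xj15 yj10 zj3) (kj xj14 yj21 zj26) (kj xj12 yj23 zj20) (kj xj12 yj15 zj42) (kj xj12 yj15 zj47) (kj xj12 yj15 zj48) (kj xj15 yj10 zj5) (kj xj15 yj10 zj6) (kj xj12 yj15 zj50) (kj xj15 yj9 zj29) (kj xj15 yj9 zj30) (kj xj15 yj9 zj31) (kj xj15 yj9 zj32) (kj xj12 yj16 zj5) (kj xj12 yj16 zj6) (kj xj15 yj10 zj12) (kj xj14 yj1 zj46) (kj xj13 yj2 zj30) (kj xj14 yj18 zj24) (kj xj14 yj18 zj25) (kj xj12 yj16 zj13)) (@D3.rec (fun _ => Pt) (kj xj12 yj16 zj14) (kj xj12 yj16 zj15) (kj xj12 yj16 zj16) (kj xj12 yj16 zj17) (kj xj12 yj16 zj18) (kj xj15 yj10 zj20) (kj xj15 yj10 zj21) (kj xj15 yj10 zj22) (kj xj15 yj10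 zj23) (kj xj15 yj10 zj24) (kj xj15 yj10 zj25) (kj xj15 yj10 zj26) (kj xj15 yj10 zj27) (kj xj12 yj16 zj25) (kj xj12 yj16 zj26) (kj xj12 yj16 zj27) (kj xj12 yj16 zj28) (kj xj12 yj16 zj29) (kj xj12 yj16 zj30) (kj xj15 yj10 zj38) (kj xj15 yj10 zj39) (kj xj15 yj10 zj40) (kj xj15 yj10 zj41) (kj xj15 yj10 zj42) (kj xj14 yj2 zj24) (kj xj14 yj2 zj25) (kj xj14 yj2 zj26) (kj xj13 yj2 zj27) (kj xj13 yj2 zj35) (kj xj13 yj2 zj39) (kj xj12 yj16 zj44) (kj xj12 yj16 zj45) (kj xj12 yj16 zj46) (kj xj12 yj16 zj47) (kj xj12 yj16 zj48) (kj xj15 yj8 zj26) (kj xj15 yj5 zj9) (kj xj15 yj8 zj25) (kj xj15 yj10 zj50) (kj xj15 yj11 zj0) (kj xj15 yj11 zj1) (kj xj15 yj11 zj2) (kj xj12 yj17 zj1) (kj xj12 yj17 zj2) (kj xj12 yj17 zj3) (kj xj15 yj11 zj10) (kj xj15 yj11 zj11) (kj xj15 yj11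 zj12) (kj xj14 yj2 zj48) (kj xj12 yj26 zj5) (kj xj12 yj25 zj43)) (@D3.rec (fun _ => Pt) (kj xj12 yj26 zj9) (kj xj12 yj25 zj47) (kj xj12 yj26 zj13) (kj xj14 yj17 zj26) (kj xj14 yj19 zj5) (kj xj14 yj19 zj6) (kj xj12 yj17 zj15) (kj xj12 yj17 zj16) (kj xj12 yj17 zj17) (kj xj12 yj17 zj19) (kj xj12 yj17 zj20) (kj xj15 yj11 zj26) (kj xj15 yj11 zj27) (kj xj15 yj11 zj28) (kj xj12 yj25 zj27) (kj xj15 yj11 zj29) (kj xj15 yj11 zj30) (kj xj15 yj5 zj1) (kj xj12 yj25 zj29) (kj xj15 yj11 zj31) (kj xj12 yj17 zj25) (kj xj12 yj17 zj28) (kj xj12 yj25 zj26) (kj xj13 yj3 zj16) (kj xj15 yj11 zj45) (kj xj12 yj25 zj28) (kj xj13 yj3 zj17) (kj xj15 yj11 zj46) (kj xj15 yj5 zj2) (kj xj12 yj25 zj30) (kj xj14 yj3 zj30) (kj xj14 yj3 zj31) (kj xj12 yj17 zj37) (kj xj15 yj12 zj1) (kj xj14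 yj16 zj45) (kj xj14 yj17 zj27) (kj xj14 yj19 zj41) (kj xj14 yj19 zj42) (kj xj14 yj19 zj43) (kj xj12 yj17 zj49) (kj xj12 yj17 zj50) (kj xj12 yj18 zj0) (kj xj12 yj18 zj1) (kj xj12 yj18 zj2) (kj xj12 yj18 zj3) (kj xj12 yj18 zj5) (kj xj12 yj18 zj6) (kj xj15 yj5 zj12) (kj xj15 yj8 zj28) (kj xj15 yj3 zj39) (kj xj15 yj12 zj7)) (@D3.rec (fun _ => Pt) (kj xj15 yj12 zj8) (kj xj15 yj12 zj9) (kj xj15 yj12 zj10) (kj xj15 yj12 zj11) (kj xj15 yj12 zj12) (kj xj15 yj12 zj33) (kj xj15 yj12 zj13) (kj xj15 yj12 zj14) (kj xj15 yj12 zj15) (kj xj12 yj18 zj4) (kj xj15 yj12 zj38) (kj xj15 yj12 zj16) (kj xj15 yj12 zj17) (kj xj12 yj18 zj15) (kj xj12 yj18 zj16) (kj xj12 yj18 zj17) (kj xj12 yj18 zj18) (kj xj12 yj18 zj19) (kj xj12 yj18 zj21) (kj xj12 yj18 zj22) (kj xj12 yj18 zj23)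 (kj xj12 yj18 zj26) (kj xj15 yj12 zj42) (kj xj15 yj12 zj43) (kj xj15 yj12 zj44) (kj xj15 yj11 zj15) (kj xj15 yj12 zj45) (kj xj15 yj12 zj46) (kj xj15 yj12 zj47) (kj xj12 yj18 zj20) (kj xj15 yj13 zj5) (kj xj15 yj12 zj48) (kj xj15 yj12 zj49) (kj xj15 yj12 zj50) (kj xj12 yj18 zj25) (kj xj15 yj13 zj9) (kj xj14 yj4 zj36) (kj xj12 yj18 zj29) (kj xj15 yj13 zj11) (kj xj14 yj4 zj39) (kj xj14 yj4 zj40) (kj xj12 yj18 zj34) (kj xj15 yj13 zj13) (kj xj14 yj4 zj43) (kj xj12 yj18 zj39) (kj xj14 yj17 zj28) (kj xj12 yj19 zj0) (kj xj12 yj19 zj1) (kj xj12 yj19 zj2) (kj xj12 yj19 zj3) (kj xj12 yj19 zj4)) (@D3.rec (fun _ => Pt) (kj xj15 yj8 zj29) (kj xj14 yj25 zj14) (kj xj15 yj3 zj40) (kj xj15 yj8 zj22) (kj xj15 yj13 zj16) (kj xj15 yj13 zj17) (kj xj15 yj13 zj18) (kj xj15 yj13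 zj19) (kj xj15 yj13 zj20) (kj xj12 yj19 zj8) (kj xj12 yj19 zj9) (kj xj12 yj19 zj10) (kj xj15 yj13 zj29) (kj xj12 yj20 zj12) (kj xj12 yj20 zj37) (kj xj12 yj20 zj21) (kj xj12 yj20 zj28) (kj xj12 yj20 zj29) (kj xj12 yj20 zj36) (kj xj12 yj21 zj3) (kj xj12 yj21 zj4) (kj xj12 yj21 zj12) (kj xj12 yj21 zj19) (kj xj14 yj16 zj1) (kj xj12 yj21 zj32) (kj xj12 yj21 zj40) (kj xj12 yj21 zj49) (kj xj12 yj22 zj0) (kj xj14 yj15 zj26) (kj xj14 yj15 zj38) (kj xj14 yj15 zj21) (kj xj14 yj15 zj27) (kj xj12 yj22 zj33) (kj xj12 yj22 zj35) (kj xj12 yj22 zj36) (kj xj12 yj22 zj38) (kj xj12 yj22 zj39) (kj xj12 yj22 zj40) (kj xj12 yj23 zj11) (kj xj14 yj15 zj22) (kj xj12 yj23 zj10) (kj xj12 yj23 zj12) (kj xj12 yj23 zj13) (kj xj12 yj20 zj42) (kj xj12 yj20 zj49) (kj xj12 yj20 zj50) (kj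 xj12 yj20 zj16) (kj xj12 yj20 zj17) (kj xj15 yj0 zj31) (kj xj15 yj0 zj32) (kj xj15 yj13 zj49)) (@D3.rec (fun _ => Pt) (kj xj15 yj13 zj50) (kj xj12 yj20 zj20) (kj xj15 yj1 zj2) (kj xj15 yj13 zj30) (kj xj14 yj26 zj18) (kj xj15 yj1 zj35) (kj xj14 yj26 zj27) (kj xj14 yj16 zj9) (kj xj15 yj13 zj31) (kj xj15 yj13 zj32) (kj xj14 yj26 zj48) (kj xj14 yj26 zj49) (kj xj15 yj8 zj45) (kj xj15 yj8 zj46) (kj xj15 yj0 zj9) (kj xj14 yj22 zj29) (kj xj15 yj13 zj33) (kj xj12 yj20 zj43) (kj xj12 yj20 zj44) (kj xj15 yj0 zj33) (kj xj15 yj0 zj34) (kj xj15 yj0 zj35) (kj xj15 yj0 zj36) (kj xj15 yj13 zj47) (kj xj15 yj14 zj16) (kj xj15 yj1 zj3) (kj xj15 yj1 zj4) (kj xj15 yj1 zj5) (kj xj15 yj13 zj48) (kj xj14 yj22 zj16) (kj xj14 yj22 zj37) (kj xj14 yj22 zj38) (kj xj15 yj13 zj34) (kj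 xj15 yj13 zj35) (kj xj15 yj1 zj36) (kj xj15 yj1 zj37) (kj xj15 yj1 zj38) (kj xj15 yj1 zj39) (kj xj15 yj1 zj28) (kj xj15 yj13 zj36) (kj xj14 yj15 zj30) (kj xj14 yj15 zj35) (kj xj15 yj8 zj47) (kj xj15 yj8 zj49) (kj xj14 yj15 zj36) (kj xj14 yj22 zj30) (kj xj15 yj13 zj37) (kj xj14 yj25 zj38) (kj xj14 yj25 zj39) (kj xj12 yj21 zj26) (kj xj12 yj21 zj27)) (@D3.rec (fun _ => Pt) (kj xj14 yj15 zj45) (kj xj14 yj15 zj49) (kj xj15 yj14 zj45) (kj xj14 yj15 zj50) (kj xj14 yj22 zj18) (kj xj14 yj22 zj39) (kj xj15 yj13 zj38) (kj xj14 yj24 zj47) (kj xj14 yj16 zj8) (kj xj14 yj15 zj14) (kj xj15 yj9 zj6) (kj xj15 yj9 zj18) (kj xj15 yj9 zj9) (kj xj15 yj9 zj12) (kj xj15 yj9 zj21) (kj xj15 yj9 zj15) (kj xj15 yj9 zj19) (kj xj15 yj9 zj22) (kj xj14 yj21 zj44) (kj xj15 yj13 zj39)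 (kj xj15 yj13 zj40) (kj xj14 yj24 zj15) (kj xj14 yj24 zj16) (kj xj15 yj0 zj22) (kj xj15 yj0 zj23) (kj xj15 yj0 zj24) (kj xj12 yj22 zj10) (kj xj12 yj22 zj11) (kj xj12 yj22 zj14) (kj xj12 yj22 zj15) (kj xj12 yj22 zj18) (kj xj14 yj24 zj20) (kj xj14 yj24 zj25) (kj xj14 yj17 zj48) (kj xj14 yj15 zj18) (kj xj15 yj15 zj15) (kj xj15 yj15 zj16) (kj xj14 yj18 zj15) (kj xj14 yj18 zj31) (kj xj14 yj14 zj34) (kj xj14 yj15 zj23) (kj xj15 yj15 zj17) (kj xj15 yj15 zj18) (kj xj12 yj22 zj16) (kj xj15 yj15 zj32) (kj xj15 yj8 zj50) (kj xj15 yj15 zj19) (kj xj12 yj22 zj24) (kj xj12 yj22 zj28) (kj xj14 yj24 zj34) (kj xj14 yj15 zj19)) (@D3.rec (fun _ => Pt) (kj xj14 yj15 zj20) (kj xj15 yj15 zj36) (kj xj14 yj14 zj35) (kj xj14 yj15 zj24) (kj xj12 yj22 zj42) (kj xj15 yj1 zj22) (kj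 xj12 yj22 zj30) (kj xj15 yj15 zj42) (kj xj14 yj22 zj4) (kj xj15 yj13 zj44) (kj xj14 yj21 zj39) (kj xj14 yj22 zj27) (kj xj15 yj13 zj41) (kj xj15 yj13 zj45) (kj xj14 yj14 zj38) (kj xj14 yj22 zj46) (kj xj15 yj13 zj46) (kj xj14 yj24 zj41) (kj xj12 yj23 zj0) (kj xj12 yj23 zj4) (kj xj14 yj24 zj37) (kj xj14 yj18 zj3) (kj xj14 yj18 zj7) (kj xj15 yj15 zj46) (kj xj14 yj18 zj20) (kj xj14 yj18 zj36) (kj xj14 yj18 zj43) (kj xj15 yj15 zj47) (kj xj12 yj23 zj8) (kj xj14 yj24 zj40) (kj xj14 yj24 zj45) (kj xj14 yj16 zj10) (kj xj15 yj1 zj24) (kj xj14 yj26 zj28) (kj xj12 yj23 zj18) (kj xj15 yj1 zj47) (kj xj15 yj2 zj7) (kj xj15 yj2 zj8) (kj xj12 yj23 zj29) (kj xj12 yj23 zj30) (kj xj15 yj16 zj10) (kj xj15 yj2 zj48) (kj xj15 yj3 zj5) (kj xj15 yj2 zj25) (kj xj15 yj2 zj26) (kj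 xj12 yj23 zj39) (kj xj12 yj23 zj40) (kj xj15 yj2 zj47) (kj xj15 yj16 zj15) (kj xj12 yj23 zj44) (kj xj15 yj3 zj19)) (@D3.rec (fun _ => Pt) (kj xj15 yj2 zj36) (kj xj15 yj2 zj37) (kj xj15 yj2 zj38) (kj xj15 yj2 zj39) (kj xj15 yj2 zj40) (kj xj12 yj24 zj3) (kj xj12 yj24 zj4) (kj xj12 yj24 zj5) (kj xj12 yj24 zj6) (kj xj12 yj24 zj7) (kj xj12 yj24 zj8) (kj xj15 yj3 zj25) (kj xj12 yj24 zj9) (kj xj12 yj24 zj10) (kj xj15 yj3 zj44) (kj xj15 yj16 zj24) (kj xj15 yj16 zj25) (kj xj15 yj16 zj26) (kj xj15 yj16 zj27) (kj xj15 yj16 zj28) (kj xj15 yj16 zj29) (kj xj15 yj16 zj30) (kj xj15 yj16 zj32) (kj xj15 yj16 zj33) (kj xj12 yj24 zj19) (kj xj12 yj24 zj20) (kj xj12 yj24 zj21) (kj xj12 yj24 zj22) (kj xj12 yj24 zj23) (kj xj15 yj3 zj26) (kj xj12 yj24 zj24) (kj xj15 yj16 zj44)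 (kj xj15 yj16 zj45) (kj xj15 yj16 zj46) (kj xj15 yj16 zj47) (kj xj14 yj9 zj35) (kj xj12 yj24 zj35) (kj xj15 yj3 zj45) (kj xj15 yj17 zj1) (kj xj14 yj16 zj43) (kj xj14 yj16 zj44) (kj xj15 yj2 zj45) (kj xj15 yj2 zj46) (kj xj12 yj24 zj44) (kj xj12 yj24 zj45) (kj xj15 yj17 zj6) (kj xj15 yj4 zj6) (kj xj15 yj4 zj7) (kj xj15 yj4 zj8) (kj xj15 yj4 zj9) (kj xj15 yj4 zj10)) (@D3.rec (fun _ => Pt) (kj xj12 yj25 zj5) (kj xj12 yj25 zj6) (kj xj12 yj25 zj8) (kj xj12 yj25 zj9) (kj xj12 yj25 zj10) (kj xj15 yj5 zj32) (kj xj15 yj8 zj31) (kj xj14 yj20 zj4) (kj xj15 yj17 zj12) (kj xj15 yj17 zj13) (kj xj14 yj19 zj16) (kj xj14 yj20 zj10) (kj xj15 yj17 zj14) (kj xj15 yj17 zj15) (kj xj12 yj25 zj14) (kj xj12 yj25 zj15) (kj xj15 yj17 zj24) (kj xj14 yj20 zj25) (kj xj14 yj19 zj28)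 (kj xj14 yj20 zj30) (kj xj13 yj0 zj16) (kj xj15 yj11 zj33) (kj xj15 yj11 zj47) (kj xj15 yj11 zj36) (kj xj15 yj11 zj39) (kj xj15 yj11 zj50) (kj xj15 yj11 zj43) (kj xj15 yj5 zj19) (kj xj15 yj5 zj20) (kj xj15 yj5 zj21) (kj xj15 yj5 zj22) (kj xj15 yj5 zj23) (kj xj12 yj25 zj40) (kj xj12 yj25 zj41) (kj xj12 yj25 zj42) (kj xj12 yj25 zj44) (kj xj12 yj25 zj45) (kj xj12 yj25 zj48) (kj xj15 yj5 zj36) (kj xj15 yj8 zj32) (kj xj15 yj4 zj22) (kj xj15 yj11 zj16) (kj xj15 yj17 zj42) (kj xj15 yj17 zj43) (kj xj15 yj11 zj18) (kj xj15 yj4 zj18) (kj xj15 yj17 zj44) (kj xj15 yj18 zj8) (kj xj15 yj11 zj19) (kj xj15 yj17 zj45) (kj xj12 yj25 zj46)) (@D3.rec (fun _ => Pt) (kj xj15 yj18 zj12) (kj xj15 yj11 zj21) (kj xj15 yj17 zj46) (kj xj12 yj26 zj4) (kj xj12 yj26 zj6) (kj xj12 yj26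 zj7) (kj xj12 yj26 zj10) (kj xj15 yj18 zj16) (kj xj15 yj11 zj17) (kj xj15 yj18 zj17) (kj xj12 yj26 zj8) (kj xj15 yj18 zj21) (kj xj15 yj11 zj20) (kj xj15 yj18 zj18) (kj xj12 yj26 zj12) (kj xj15 yj18 zj24) (kj xj14 yj11 zj16) (kj xj12 yj26 zj17) (kj xj15 yj18 zj26) (kj xj14 yj11 zj19) (kj xj12 yj26 zj21) (kj xj15 yj6 zj19) (kj xj15 yj6 zj20) (kj xj15 yj6 zj21) (kj xj15 yj14 zj37) (kj xj15 yj6 zj23) (kj xj15 yj6 zj24) (kj xj12 yj26 zj39) (kj xj12 yj26 zj40) (kj xj12 yj26 zj41) (kj xj12 yj26 zj44) (kj xj12 yj26 zj46) (kj xj12 yj26 zj47) (kj xj12 yj26 zj48) (kj xj12 yj26 zj33) (kj xj15 yj18 zj39) (kj xj13 yj0 zj0) (kj xj13 yj0 zj1) (kj xj15 yj5 zj35) (kj xj15 yj5 zj37) (kj xj15 yj8 zj33) (kj xj13 yj1 zj21) (kj xj13 yj0 zj42) (kj xj15 yj17 zj27) (kj xj15 yj18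 zj33) (kj xj15 yj18 zj34) (kj xj13 yj0 zj41) (kj xj15 yj10 zj15) (kj xj14 yj18 zj13) (kj xj14 yj18 zj28) (kj xj15 yj4 zj19)) (@D3.rec (fun _ => Pt) (kj xj15 yj18 zj35) (kj xj12 yj26 zj45) (kj xj15 yj19 zj5) (kj xj15 yj18 zj36) (kj xj15 yj18 zj37) (kj xj15 yj18 zj38) (kj xj12 yj26 zj50) (kj xj15 yj19 zj11) (kj xj15 yj18 zj41) (kj xj15 yj18 zj42) (kj xj13 yj0 zj13) (kj xj13 yj0 zj14) (kj xj13 yj0 zj15) (kj xj13 yj0 zj17) (kj xj13 yj0 zj18) (kj xj13 yj0 zj22) (kj xj13 yj0 zj23) (kj xj13 yj0 zj24) (kj xj13 yj0 zj11) (kj xj15 yj19 zj22) (kj xj15 yj19 zj15) (kj xj15 yj19 zj16) (kj xj15 yj17 zj28) (kj xj15 yj19 zj17) (kj xj15 yj19 zj18) (kj xj13 yj0 zj21) (kj xj15 yj19 zj27) (kj xj15 yj19 zj19) (kj xj15 yj19 zj20) (kj xj15 yj19 zj21) (kj xj13 yj0 zj26) (kj xj13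 yj0 zj29) (kj xj15 yj19 zj31) (kj xj14 yj12 zj33) (kj xj14 yj12 zj34) (kj xj13 yj0 zj33) (kj xj15 yj19 zj33) (kj xj15 yj4 zj20) (kj xj15 yj18 zj46) (kj xj13 yj0 zj44) (kj xj14 yj17 zj25) (kj xj13 yj1 zj4) (kj xj13 yj1 zj5) (kj xj13 yj1 zj6) (kj xj13 yj1 zj7) (kj xj13 yj1 zj8) (kj xj13 yj1 zj9) (kj xj13 yj2 zj48) (kj xj15 yj5 zj46) (kj xj15 yj19 zj36) (kj xj15 yj19 zj37)) (@D3.rec (fun _ => Pt) (kj xj15 yj4 zj48) (kj xj15 yj19 zj38) (kj xj15 yj19 zj39) (kj xj15 yj3 zj16) (kj xj13 yj1 zj18) (kj xj14 yj19 zj24) (kj xj15 yj4 zj50) (kj xj15 yj4 zj49) (kj xj15 yj19 zj48) (kj xj15 yj10 zj14) (kj xj14 yj15 zj13) (kj xj14 yj18 zj4) (kj xj14 yj18 zj8) (kj xj14 yj18 zj21) (kj xj14 yj18 zj37) (kj xj14 yj16 zj7) (kj xj14 yj26 zj25) (kj xj13 yj2 zj10) (kj xj14 yj14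 zj17) (kj xj14 yj14 zj13) (kj xj13 yj2 zj18) (kj xj13 yj2 zj17) (kj xj13 yj2 zj47) (kj xj13 yj2 zj19) (kj xj15 yj20 zj4) (kj xj14 yj20 zj26) (kj xj14 yj19 zj29) (kj xj13 yj2 zj46) (kj xj13 yj2 zj25) (kj xj15 yj10 zj48) (kj xj13 yj3 zj4) (kj xj13 yj3 zj3) (kj xj14 yj16 zj14) (kj xj15 yj10 zj16) (kj xj14 yj18 zj14) (kj xj14 yj18 zj29) (kj xj14 yj18 zj19) (kj xj14 yj18 zj33) (kj xj15 yj10 zj49) (kj xj14 yj18 zj46) (kj xj13 yj3 zj11) (kj xj13 yj2 zj50) (kj xj13 yj2 zj49) (kj xj13 yj3 zj1) (kj xj13 yj3 zj8) (kj xj13 yj3 zj2) (kj xj15 yj20 zj3) (kj xj15 yj19 zj40) (kj xj15 yj20 zj17) (kj xj15 yj20 zj16) (kj xj15 yj20 zj13)) (@D3.rec (fun _ => Pt) (kj xj15 yj20 zj18) (kj xj15 yj20 zj6) (kj xj13 yj3 zj22) (kj xj15 yj20 zj15) (kj xj14 yj17 zj6) (kj xj15 yj11 zj48)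 (kj xj15 yj3 zj9) (kj xj14 yj17 zj31) (kj xj14 yj21 zj23) (kj xj13 yj3 zj34) (kj xj13 yj3 zj37) (kj xj15 yj20 zj27) (kj xj13 yj3 zj40) (kj xj14 yj13 zj19) (kj xj14 yj0 zj47) (kj xj13 yj4 zj0) (kj xj13 yj4 zj1) (kj xj14 yj13 zj18) (kj xj13 yj4 zj34) (kj xj13 yj4 zj35) (kj xj13 yj14 zj19) (kj xj14 yj0 zj1) (kj xj13 yj5 zj1) (kj xj13 yj5 zj2) (kj xj13 yj5 zj3) (kj xj13 yj5 zj8) (kj xj13 yj5 zj20) (kj xj13 yj26 zj49) (kj xj13 yj5 zj42) (kj xj13 yj15 zj14) (kj xj13 yj6 zj10) (kj xj13 yj6 zj11) (kj xj13 yj6 zj18) (kj xj13 yj6 zj19) (kj xj14 yj7 zj39) (kj xj14 yj8 zj2) (kj xj13 yj18 zj36) (kj xj13 yj18 zj47) (kj xj14 yj8 zj14) (kj xj15 yj20 zj28) (kj xj13 yj4 zj39) (kj xj13 yj4 zj40) (kj xj14 yj0 zj14) (kj xj14 yj0 zj15) (kj xj15 yj20 zj44) (kj xj15 yj20 zj45)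 (kj xj15 yj20 zj46) (kj xj13 yj4 zj46) (kj xj13 yj4 zj47) (kj xj13 yj4 zj48) (kj xj13 yj6 zj5)) (@D3.rec (fun _ => Pt) (kj xj13 yj5 zj40) (kj xj14 yj0 zj12) (kj xj13 yj18 zj1) (kj xj13 yj18 zj7) (kj xj14 yj0 zj37) (kj xj15 yj21 zj1) (kj xj15 yj21 zj2) (kj xj13 yj12 zj34) (kj xj13 yj13 zj10) (kj xj13 yj13 zj11) (kj xj15 yj20 zj30) (kj xj15 yj20 zj31) (kj xj13 yj5 zj6) (kj xj14 yj13 zj10) (kj xj14 yj7 zj9) (kj xj15 yj20 zj32) (kj xj13 yj13 zj40) (kj xj13 yj11 zj45) (kj xj14 yj7 zj34) (kj xj14 yj7 zj50) (kj xj14 yj8 zj0) (kj xj14 yj5 zj30) (kj xj14 yj5 zj39) (kj xj14 yj7 zj40) (kj xj14 yj8 zj3) (kj xj13 yj15 zj9) (kj xj14 yj5 zj28) (kj xj14 yj5 zj31) (kj xj13 yj5 zj34) (kj xj13 yj5 zj35) (kj xj14 yj6 zj40) (kj xj15 yj21 zj21) (kj xj15 yj21 zj22) (kj xj13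 yj5 zj39) (kj xj15 yj21 zj4) (kj xj14 yj6 zj41) (kj xj14 yj6 zj44) (kj xj15 yj21 zj5) (kj xj14 yj5 zj29) (kj xj15 yj20 zj33) (kj xj13 yj5 zj48) (kj xj13 yj5 zj49) (kj xj13 yj26 zj50) (kj xj14 yj0 zj0) (kj xj15 yj21 zj32) (kj xj14 yj7 zj0) (kj xj15 yj21 zj30) (kj xj13 yj6 zj1) (kj xj15 yj21 zj36) (kj xj14 yj7 zj1) (kj xj14 yj7 zj3)) (@D3.rec (fun _ => Pt) (kj xj15 yj21 zj3) (kj xj14 yj5 zj23) (kj xj13 yj6 zj9) (kj xj15 yj21 zj41) (kj xj15 yj20 zj35) (kj xj15 yj20 zj36) (kj xj13 yj6 zj13) (kj xj14 yj13 zj15) (kj xj14 yj7 zj8) (kj xj14 yj6 zj7) (kj xj14 yj8 zj31) (kj xj15 yj20 zj37) (kj xj13 yj6 zj21) (kj xj13 yj6 zj22) (kj xj14 yj13 zj32) (kj xj15 yj21 zj48) (kj xj15 yj21 zj49) (kj xj13 yj8 zj14) (kj xj13 yj8 zj15) (kj xj13 yj6 zj26) (kj xj13 yj6 zj27) (kj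 xj13 yj6 zj28) (kj xj15 yj22 zj7) (kj xj15 yj22 zj8) (kj xj15 yj22 zj9) (kj xj15 yj22 zj10) (kj xj15 yj22 zj11) (kj xj13 yj6 zj32) (kj xj13 yj6 zj33) (kj xj13 yj6 zj34) (kj xj13 yj6 zj35) (kj xj15 yj22 zj17) (kj xj15 yj22 zj19) (kj xj15 yj22 zj20) (kj xj14 yj16 zj34) (kj xj14 yj16 zj35) (kj xj14 yj0 zj22) (kj xj14 yj0 zj46) (kj xj13 yj6 zj44) (kj xj13 yj6 zj45) (kj xj13 yj6 zj46) (kj xj13 yj6 zj47) (kj xj13 yj6 zj48) (kj xj14 yj9 zj39) (kj xj14 yj9 zj40) (kj xj14 yj3 zj34) (kj xj15 yj22 zj28) (kj xj15 yj22 zj29) (kj xj15 yj22 zj30) (kj xj15 yj22 zj32) (kj xj15 yj22 zj33)) (@D3.rec (fun _ => Pt) (kj xj13 yj7 zj4) (kj xj13 yj7 zj5) (kj xj13 yj7 zj6) (kj xj13 yj22 zj26) (kj xj13 yj7 zj7) (kj xj13 yj7 zj8) (kj xj14 yj14 zj4) (kj xj15 yj22 zj45) (kj xj15 yj22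 zj46) (kj xj15 yj22 zj47) (kj xj15 yj22 zj49) (kj xj15 yj22 zj50) (kj xj14 yj17 zj12) (kj xj14 yj17 zj13) (kj xj14 yj17 zj14) (kj xj14 yj17 zj15) (kj xj13 yj22 zj36) (kj xj13 yj7 zj16) (kj xj13 yj7 zj17) (kj xj15 yj23 zj10) (kj xj15 yj23 zj11) (kj xj14 yj17 zj21) (kj xj13 yj7 zj25) (kj xj13 yj26 zj33) (kj xj13 yj26 zj1) (kj xj14 yj12 zj40) (kj xj14 yj3 zj3) (kj xj14 yj3 zj35) (kj xj14 yj4 zj45) (kj xj15 yj23 zj15) (kj xj13 yj7 zj29) (kj xj14 yj14 zj7) (kj xj15 yj23 zj24) (kj xj13 yj19 zj26) (kj xj13 yj15 zj36) (kj xj13 yj7 zj42) (kj xj13 yj7 zj43) (kj xj15 yj23 zj26) (kj xj15 yj23 zj27) (kj xj13 yj7 zj46) (kj xj15 yj23 zj30) (kj xj13 yj14 zj30) (kj xj13 yj14 zj31) (kj xj13 yj8 zj0) (kj xj13 yj8 zj1) (kj xj13 yj8 zj2) (kj xj15 yj23 zj34) (kj xj15 yj23 zj35)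 (kj xj14 yj7 zj33) (kj xj15 yj23 zj36) (kj xj15 yj23 zj37)) (@D3.rec (fun _ => Pt) (kj xj13 yj8 zj5) (kj xj13 yj8 zj8) (kj xj15 yj23 zj43) (kj xj14 yj8 zj21) (kj xj14 yj13 zj11) (kj xj14 yj18 zj5) (kj xj14 yj18 zj6) (kj xj14 yj8 zj22) (kj xj14 yj13 zj12) (kj xj15 yj22 zj5) (kj xj15 yj22 zj6) (kj xj13 yj8 zj19) (kj xj13 yj8 zj20) (kj xj14 yj11 zj48) (kj xj14 yj13 zj34) (kj xj14 yj7 zj37) (kj xj15 yj24 zj0) (kj xj15 yj24 zj1) (kj xj13 yj8 zj25) (kj xj14 yj13 zj36) (kj xj14 yj8 zj24) (kj xj14 yj13 zj13) (kj xj14 yj18 zj22) (kj xj14 yj18 zj23) (kj xj14 yj1 zj48) (kj xj14 yj1 zj49) (kj xj13 yj8 zj35) (kj xj13 yj8 zj36) (kj xj14 yj11 zj49) (kj xj14 yj13 zj35) (kj xj15 yj24 zj16) (kj xj14 yj7 zj38) (kj xj15 yj24 zj13) (kj xj14 yj13 zj37) (kj xj13 yj8 zj39) (kj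 xj15 yj24 zj20) (kj xj14 yj8 zj25) (kj xj14 yj13 zj14) (kj xj13 yj8 zj44) (kj xj15 yj24 zj23) (kj xj14 yj18 zj40) (kj xj13 yj8 zj48) (kj xj15 yj24 zj25) (kj xj14 yj8 zj26) (kj xj13 yj9 zj1) (kj xj15 yj24 zj28) (kj xj14 yj13 zj39) (kj xj13 yj9 zj8) (kj xj13 yj9 zj9) (kj xj13 yj9 zj10) (kj xj15 yj24 zj30)) (@D3.rec (fun _ => Pt) (kj xj15 yj24 zj31) (kj xj15 yj24 zj32) (kj xj15 yj24 zj33) (kj xj15 yj24 zj34) (kj xj15 yj24 zj35) (kj xj14 yj3 zj4) (kj xj14 yj3 zj5) (kj xj13 yj9 zj16) (kj xj13 yj9 zj17) (kj xj13 yj9 zj18) (kj xj13 yj9 zj19) (kj xj13 yj9 zj20) (kj xj13 yj9 zj21) (kj xj15 yj24 zj48) (kj xj15 yj24 zj49) (kj xj15 yj24 zj50) (kj xj14 yj10 zj10) (kj xj15 yj25 zj0) (kj xj15 yj25 zj1) (kj xj15 yj25 zj14) (kj xj15 yj25 zj3) (kj xj15 yj25 zj4) (kj xj13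 yj9 zj27) (kj xj13 yj9 zj30) (kj xj14 yj13 zj5) (kj xj13 yj9 zj32) (kj xj13 yj9 zj33) (kj xj15 yj25 zj18) (kj xj14 yj10 zj18) (kj xj14 yj13 zj26) (kj xj15 yj25 zj19) (kj xj13 yj9 zj31) (kj xj15 yj25 zj26) (kj xj15 yj25 zj21) (kj xj15 yj25 zj22) (kj xj14 yj19 zj35) (kj xj14 yj19 zj36) (kj xj13 yj9 zj38) (kj xj15 yj25 zj30) (kj xj14 yj19 zj39) (kj xj14 yj19 zj40) (kj xj14 yj3 zj36) (kj xj14 yj3 zj37) (kj xj14 yj3 zj38) (kj xj13 yj9 zj49) (kj xj13 yj9 zj50) (kj xj13 yj10 zj0) (kj xj13 yj10 zj3) (kj xj13 yj10 zj4) (kj xj15 yj25 zj41) (kj xj13 yj10 zj6)) (@D3.rec (fun _ => Pt) (kj xj13 yj10 zj7) (kj xj15 yj25 zj35) (kj xj15 yj25 zj36) (kj xj14 yj1 zj9) (kj xj14 yj10 zj7) (kj xj15 yj25 zj37) (kj xj15 yj25 zj38) (kj xj13 yj26 zj35) (kj xj14 yj1 zj11) (kj xj15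 yj26 zj4) (kj xj14 yj10 zj11) (kj xj15 yj25 zj39) (kj xj15 yj25 zj40) (kj xj13 yj10 zj5) (kj xj15 yj26 zj9) (kj xj15 yj25 zj43) (kj xj15 yj25 zj44) (kj xj13 yj10 zj14) (kj xj13 yj10 zj17) (kj xj13 yj10 zj21) (kj xj13 yj10 zj11) (kj xj15 yj26 zj16) (kj xj13 yj10 zj24) (kj xj13 yj10 zj25) (kj xj15 yj26 zj13) (kj xj14 yj10 zj17) (kj xj14 yj13 zj25) (kj xj15 yj26 zj14) (kj xj13 yj10 zj18) (kj xj15 yj26 zj23) (kj xj14 yj10 zj19) (kj xj15 yj26 zj15) (kj xj13 yj10 zj23) (kj xj15 yj26 zj26) (kj xj15 yj26 zj18) (kj xj15 yj26 zj19) (kj xj14 yj20 zj36) (kj xj14 yj20 zj37) (kj xj13 yj10 zj30) (kj xj15 yj26 zj31) (kj xj14 yj20 zj40) (kj xj13 yj10 zj34) (kj xj15 yj26 zj33) (kj xj14 yj20 zj43) (kj xj13 yj10 zj38) (kj xj15 yj26 zj34) (kj xj13 yj10 zj43) (kj xj13 yj10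 zj44) (kj xj13 yj10 zj42) (kj xj15 yj26 zj39) (kj xj15 yj26 zj36)) (@D3.rec (fun _ => Pt) (kj xj15 yj26 zj37) (kj xj15 yj26 zj38) (kj xj13 yj10 zj46) (kj xj15 yj26 zj44) (kj xj13 yj11 zj2) (kj xj13 yj11 zj5) (kj xj13 yj11 zj9) (kj xj14 yj1 zj8) (kj xj14 yj1 zj22) (kj xj15 yj26 zj45) (kj xj13 yj19 zj40) (kj xj14 yj1 zj10) (kj xj14 yj1 zj23) (kj xj15 yj26 zj46) (kj xj13 yj26 zj5) (kj xj14 yj1 zj12) (kj xj14 yj1 zj24) (kj xj15 yj26 zj47) (kj xj13 yj11 zj13) (kj xj13 yj11 zj14) (kj xj13 yj11 zj15) (kj xj16 yj0 zj7) (kj xj16 yj0 zj8) (kj xj14 yj14 zj8) (kj xj13 yj11 zj22) (kj xj13 yj11 zj24) (kj xj14 yj1 zj31) (kj xj13 yj15 zj15) (kj xj13 yj13 zj47) (kj xj13 yj14 zj44) (kj xj13 yj14 zj5) (kj xj13 yj14 zj6) (kj xj13 yj14 zj7) (kj xj13 yj15 zj18) (kj xj13 yj15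 zj19) (kj xj13 yj14 zj20) (kj xj13 yj14 zj21) (kj xj13 yj14 zj24) (kj xj13 yj14 zj29) (kj xj14 yj8 zj10) (kj xj13 yj14 zj43) (kj xj13 yj14 zj45) (kj xj13 yj14 zj47) (kj xj13 yj14 zj48) (kj xj14 yj7 zj18) (kj xj13 yj12 zj10) (kj xj13 yj15 zj16) (kj xj13 yj15 zj20) (kj xj13 yj15 zj22) (kj xj13 yj15 zj23) (kj xj13 yj15 zj28)) (@D3.rec (fun _ => Pt) (kj xj13 yj15 zj29) (kj xj13 yj15 zj39) (kj xj13 yj15 zj40) (kj xj13 yj15 zj49) (kj xj14 yj8 zj8) (kj xj13 yj16 zj8) (kj xj13 yj16 zj9) (kj xj13 yj12 zj28) (kj xj13 yj17 zj2) (kj xj16 yj0 zj28) (kj xj13 yj16 zj26) (kj xj13 yj16 zj27) (kj xj13 yj16 zj28) (kj xj13 yj16 zj29) (kj xj15 yj21 zj11) (kj xj13 yj12 zj39) (kj xj14 yj6 zj29) (kj xj13 yj17 zj1) (kj xj14 yj7 zj4) (kj xj13 yj17 zj3) (kj xj13 yj17 zj4) (kj xj13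 yj17 zj5) (kj xj13 yj17 zj6) (kj xj13 yj17 zj25) (kj xj13 yj17 zj12) (kj xj13 yj17 zj26) (kj xj13 yj17 zj27) (kj xj14 yj8 zj11) (kj xj13 yj13 zj4) (kj xj14 yj6 zj15) (kj xj14 yj6 zj45) (kj xj13 yj18 zj4) (kj xj13 yj18 zj5) (kj xj13 yj18 zj6) (kj xj13 yj18 zj8) (kj xj13 yj18 zj9) (kj xj15 yj21 zj12) (kj xj14 yj6 zj30) (kj xj14 yj6 zj31) (kj xj14 yj7 zj5) (kj xj13 yj18 zj44) (kj xj13 yj18 zj45) (kj xj13 yj18 zj46) (kj xj13 yj18 zj48) (kj xj13 yj18 zj49) (kj xj13 yj18 zj50) (kj xj14 yj8 zj15) (kj xj13 yj19 zj2) (kj xj13 yj19 zj3) (kj xj13 yj19 zj11) (kj xj13 yj19 zj12)) (@D3.rec (fun _ => Pt) (kj xj13 yj14 zj27) (kj xj13 yj13 zj42) (kj xj13 yj13 zj43) (kj xj16 yj1 zj5) (kj xj16 yj1 zj6) (kj xj13 yj13 zj46) (kj xj16 yj1 zj9) (kj xj13 yj13 zj49) (kj xj13 yj13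 zj50) (kj xj13 yj14 zj40) (kj xj16 yj1 zj10) (kj xj16 yj1 zj11) (kj xj13 yj14 zj4) (kj xj13 yj14 zj41) (kj xj13 yj14 zj34) (kj xj13 yj14 zj39) (kj xj16 yj1 zj17) (kj xj16 yj0 zj13) (kj xj16 yj0 zj14) (kj xj13 yj15 zj45) (kj xj13 yj15 zj46) (kj xj13 yj14 zj12) (kj xj13 yj14 zj13) (kj xj13 yj15 zj5) (kj xj13 yj15 zj12) (kj xj13 yj15 zj3) (kj xj16 yj1 zj25) (kj xj16 yj1 zj26) (kj xj13 yj14 zj18) (kj xj13 yj15 zj13) (kj xj13 yj15 zj4) (kj xj13 yj15 zj10) (kj xj15 yj20 zj29) (kj xj16 yj0 zj16) (kj xj16 yj0 zj17) (kj xj13 yj15 zj35) (kj xj13 yj15 zj38) (kj xj13 yj15 zj25) (kj xj13 yj15 zj26) (kj xj15 yj23 zj31) (kj xj15 yj23 zj32) (kj xj15 yj23 zj33) (kj xj13 yj14 zj35) (kj xj13 yj14 zj36) (kj xj14 yj0 zj34) (kj xj16 yj1 zj14) (kj xj16 yj1 zj19) (kj xj16 yj1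 zj12) (kj xj16 yj1 zj41) (kj xj16 yj1 zj42) (kj xj13 yj14 zj42)) (@D3.rec (fun _ => Pt) (kj xj14 yj0 zj41) (kj xj16 yj1 zj20) (kj xj13 yj16 zj1) (kj xj16 yj1 zj13) (kj xj16 yj1 zj18) (kj xj16 yj0 zj18) (kj xj16 yj0 zj12) (kj xj16 yj0 zj19) (kj xj13 yj16 zj6) (kj xj16 yj0 zj20) (kj xj16 yj0 zj21) (kj xj14 yj0 zj20) (kj xj14 yj0 zj21) (kj xj13 yj15 zj6) (kj xj13 yj15 zj7) (kj xj14 yj7 zj21) (kj xj14 yj7 zj22) (kj xj13 yj20 zj1) (kj xj16 yj1 zj29) (kj xj16 yj1 zj32) (kj xj14 yj7 zj31) (kj xj16 yj1 zj27) (kj xj16 yj2 zj12) (kj xj15 yj21 zj20) (kj xj16 yj1 zj33) (kj xj14 yj7 zj32) (kj xj16 yj1 zj28) (kj xj16 yj1 zj31) (kj xj15 yj20 zj34) (kj xj16 yj0 zj11) (kj xj16 yj0 zj22) (kj xj13 yj15 zj48) (kj xj16 yj0 zj15) (kj xj16 yj0 zj23) (kj xj14 yj7 zj49) (kj xj16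 yj0 zj24) (kj xj16 yj0 zj25) (kj xj14 yj8 zj20) (kj xj16 yj1 zj35) (kj xj13 yj17 zj24) (kj xj14 yj8 zj29) (kj xj14 yj8 zj17) (kj xj13 yj20 zj6) (kj xj13 yj20 zj10) (kj xj16 yj1 zj34) (kj xj14 yj8 zj30) (kj xj13 yj17 zj11) (kj xj14 yj7 zj7) (kj xj16 yj1 zj23) (kj xj16 yj1 zj24) (kj xj16 yj2 zj26)) (@D3.rec (fun _ => Pt) (kj xj13 yj16 zj2) (kj xj13 yj16 zj3) (kj xj13 yj16 zj23) (kj xj16 yj1 zj48) (kj xj16 yj2 zj2) (kj xj16 yj2 zj38) (kj xj16 yj2 zj39) (kj xj13 yj16 zj7) (kj xj13 yj16 zj24) (kj xj16 yj2 zj7) (kj xj16 yj0 zj26) (kj xj16 yj0 zj27) (kj xj13 yj16 zj11) (kj xj13 yj16 zj12) (kj xj14 yj5 zj1) (kj xj16 yj2 zj48) (kj xj16 yj2 zj49) (kj xj13 yj16 zj15) (kj xj13 yj16 zj16) (kj xj13 yj16 zj17) (kj xj13 yj16 zj47) (kj xj16 yj3 zj4) (kj xj16 yj3 zj5) (kj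 xj16 yj2 zj40) (kj xj16 yj3 zj6) (kj xj16 yj3 zj7) (kj xj13 yj16 zj22) (kj xj13 yj16 zj25) (kj xj13 yj16 zj48) (kj xj13 yj16 zj35) (kj xj13 yj16 zj46) (kj xj16 yj3 zj16) (kj xj16 yj2 zj41) (kj xj16 yj2 zj46) (kj xj16 yj0 zj30) (kj xj16 yj0 zj31) (kj xj16 yj0 zj32) (kj xj16 yj0 zj33) (kj xj14 yj6 zj47) (kj xj14 yj6 zj48) (kj xj13 yj16 zj36) (kj xj13 yj16 zj37) (kj xj13 yj16 zj38) (kj xj13 yj16 zj39) (kj xj13 yj16 zj40) (kj xj13 yj17 zj49) (kj xj16 yj3 zj11) (kj xj16 yj3 zj18) (kj xj16 yj3 zj8) (kj xj16 yj3 zj28) (kj xj16 yj3 zj29)) (@D3.rec (fun _ => Pt) (kj xj16 yj3 zj31) (kj xj16 yj3 zj32) (kj xj13 yj16 zj49) (kj xj13 yj16 zj50) (kj xj13 yj17 zj0) (kj xj13 yj17 zj50) (kj xj16 yj3 zj19) (kj xj16 yj3 zj9) (kj xj16 yj3 zj17) (kj xj16 yj2 zj25) (kj xj16 yj3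 zj41) (kj xj16 yj2 zj22) (kj xj16 yj0 zj34) (kj xj16 yj0 zj29) (kj xj16 yj0 zj35) (kj xj16 yj0 zj36) (kj xj16 yj0 zj37) (kj xj16 yj0 zj38) (kj xj14 yj6 zj4) (kj xj13 yj17 zj10) (kj xj16 yj2 zj35) (kj xj13 yj19 zj30) (kj xj13 yj17 zj17) (kj xj13 yj17 zj18) (kj xj13 yj17 zj19) (kj xj14 yj13 zj16) (kj xj16 yj2 zj29) (kj xj14 yj6 zj6) (kj xj14 yj8 zj33) (kj xj13 yj19 zj9) (kj xj16 yj0 zj39) (kj xj16 yj0 zj40) (kj xj13 yj17 zj30) (kj xj13 yj17 zj31) (kj xj13 yj17 zj32) (kj xj15 yj24 zj36) (kj xj16 yj4 zj10) (kj xj16 yj4 zj11) (kj xj16 yj4 zj12) (kj xj16 yj4 zj13) (kj xj16 yj4 zj14) (kj xj14 yj0 zj26) (kj xj14 yj0 zj38) (kj xj13 yj17 zj39) (kj xj13 yj17 zj40) (kj xj13 yj17 zj41) (kj xj13 yj17 zj42) (kj xj13 yj17 zj43) (kj xj14 yj6 zj10) (kj xj14 yj6 zj11) (kj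 xj16 yj4 zj25))
def f_j_15 : D2 → D3 → Pt := @D2.rec (fun _ => D3 → Pt) (@D3.rec (fun _ => Pt) (kj xj16 yj3 zj30) (kj xj16 yj4 zj26) (kj xj16 yj4 zj27) (kj xj15 yj20 zj47) (kj xj16 yj4 zj28) (kj xj16 yj4 zj29) (kj xj13 yj18 zj0) (kj xj13 yj18 zj2) (kj xj13 yj18 zj3) (kj xj14 yj6 zj14) (kj xj16 yj3 zj33) (kj xj16 yj3 zj42) (kj xj16 yj4 zj41) (kj xj15 yj21 zj7) (kj xj16 yj4 zj42) (kj xj16 yj4 zj43) (kj xj16 yj0 zj43) (kj xj16 yj0 zj44) (kj xj16 yj0 zj45) (kj xj15 yj21 zj8) (kj xj16 yj0 zj46) (kj xj16 yj0 zj47) (kj xj14 yj7 zj23) (kj xj14 yj7 zj24) (kj xj14 yj7 zj25) (kj xj13 yj18 zj20) (kj xj13 yj18 zj21) (kj xj13 yj18 zj22) (kj xj13 yj18 zj23) (kj xj13 yj18 zj25) (kj xj13 yj18 zj26) (kj xj14 yj5 zj48) (kj xj14 yj5 zj49) (kj xj14 yj6 zj19) (kj xj14 yj6 zj20)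 (kj xj14 yj6 zj21) (kj xj14 yj6 zj22) (kj xj16 yj5 zj4) (kj xj16 yj5 zj5) (kj xj16 yj5 zj6) (kj xj15 yj20 zj38) (kj xj16 yj5 zj7) (kj xj16 yj5 zj8) (kj xj16 yj5 zj9) (kj xj13 yj18 zj24) (kj xj16 yj5 zj29) (kj xj16 yj5 zj10) (kj xj16 yj5 zj11) (kj xj13 yj18 zj37) (kj xj13 yj18 zj38) (kj xj13 yj18 zj39)) (@D3.rec (fun _ => Pt) (kj xj13 yj18 zj42) (kj xj13 yj18 zj43) (kj xj14 yj6 zj2) (kj xj14 yj6 zj25) (kj xj14 yj6 zj26) (kj xj14 yj6 zj27) (kj xj15 yj20 zj41) (kj xj16 yj5 zj33) (kj xj16 yj5 zj34) (kj xj16 yj3 zj48) (kj xj13 yj18 zj41) (kj xj16 yj5 zj44) (kj xj16 yj5 zj35) (kj xj16 yj3 zj46) (kj xj16 yj0 zj50) (kj xj16 yj1 zj0) (kj xj15 yj20 zj42) (kj xj16 yj1 zj1) (kj xj16 yj1 zj2) (kj xj16 yj1 zj3) (kj xj16 yj1 zj4) (kj xj13 yj19 zj1) (kj xj14 yj8 zj5)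 (kj xj13 yj19 zj8) (kj xj14 yj8 zj32) (kj xj16 yj4 zj9) (kj xj16 yj6 zj0) (kj xj16 yj4 zj8) (kj xj14 yj6 zj38) (kj xj13 yj19 zj22) (kj xj13 yj19 zj23) (kj xj13 yj19 zj24) (kj xj13 yj19 zj25) (kj xj13 yj20 zj14) (kj xj13 yj21 zj10) (kj xj14 yj6 zj5) (kj xj14 yj6 zj34) (kj xj14 yj6 zj35) (kj xj14 yj6 zj36) (kj xj14 yj6 zj37) (kj xj16 yj6 zj5) (kj xj16 yj6 zj6) (kj xj16 yj6 zj7) (kj xj16 yj6 zj8) (kj xj15 yj23 zj18) (kj xj16 yj4 zj3) (kj xj13 yj26 zj7) (kj xj14 yj8 zj35) (kj xj13 yj19 zj41) (kj xj13 yj19 zj42) (kj xj15 yj25 zj48)) (@D3.rec (fun _ => Pt) (kj xj15 yj26 zj50) (kj xj16 yj6 zj20) (kj xj16 yj6 zj21) (kj xj13 yj19 zj45) (kj xj13 yj19 zj46) (kj xj16 yj6 zj25) (kj xj15 yj2 zj6) (kj xj14 yj8 zj36) (kj xj14 yj8 zj37) (kj xj13 yj20 zj2) (kj xj13 yj20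 zj3) (kj xj16 yj2 zj15) (kj xj16 yj6 zj29) (kj xj13 yj20 zj7) (kj xj16 yj2 zj32) (kj xj16 yj6 zj32) (kj xj13 yj20 zj11) (kj xj16 yj2 zj33) (kj xj13 yj20 zj15) (kj xj13 yj20 zj16) (kj xj16 yj5 zj12) (kj xj16 yj6 zj9) (kj xj16 yj6 zj35) (kj xj16 yj6 zj36) (kj xj16 yj6 zj37) (kj xj14 yj8 zj43) (kj xj14 yj8 zj44) (kj xj13 yj20 zj21) (kj xj13 yj20 zj22) (kj xj13 yj20 zj23) (kj xj16 yj6 zj45) (kj xj16 yj6 zj46) (kj xj13 yj20 zj27) (kj xj13 yj20 zj28) (kj xj16 yj6 zj49) (kj xj16 yj6 zj50) (kj xj14 yj9 zj0) (kj xj14 yj9 zj1) (kj xj14 yj9 zj2) (kj xj14 yj9 zj3) (kj xj14 yj9 zj4) (kj xj13 yj20 zj42) (kj xj13 yj20 zj43) (kj xj13 yj20 zj45) (kj xj13 yj20 zj46) (kj xj14 yj9 zj41) (kj xj14 yj9 zj42) (kj xj14 yj8 zj47) (kj xj14 yj8 zj41) (kj xj16 yj7 zj5) (kj xj13 yj20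 zj44)) (@D3.rec (fun _ => Pt) (kj xj16 yj7 zj12) (kj xj16 yj7 zj6) (kj xj16 yj7 zj7) (kj xj13 yj21 zj4) (kj xj13 yj21 zj5) (kj xj14 yj8 zj42) (kj xj13 yj21 zj3) (kj xj16 yj7 zj17) (kj xj16 yj7 zj16) (kj xj14 yj14 zj6) (kj xj13 yj21 zj7) (kj xj16 yj7 zj21) (kj xj16 yj6 zj10) (kj xj13 yj21 zj15) (kj xj13 yj21 zj14) (kj xj16 yj7 zj24) (kj xj14 yj13 zj3) (kj xj16 yj7 zj23) (kj xj13 yj21 zj18) (kj xj14 yj8 zj50) (kj xj13 yj21 zj23) (kj xj13 yj21 zj24) (kj xj16 yj7 zj27) (kj xj16 yj7 zj28) (kj xj13 yj21 zj26) (kj xj14 yj9 zj11) (kj xj14 yj9 zj29) (kj xj13 yj21 zj32) (kj xj13 yj21 zj33) (kj xj13 yj21 zj34) (kj xj13 yj21 zj35) (kj xj16 yj6 zj42) (kj xj16 yj7 zj32) (kj xj16 yj7 zj33) (kj xj16 yj7 zj34) (kj xj13 yj21 zj38) (kj xj16 yj7 zj39) (kj xj13 yj21 zj43)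 (kj xj13 yj21 zj44) (kj xj14 yj3 zj49) (kj xj14 yj5 zj2) (kj xj16 yj7 zj40) (kj xj16 yj7 zj41) (kj xj16 yj7 zj42) (kj xj14 yj9 zj14) (kj xj14 yj9 zj37) (kj xj13 yj21 zj49) (kj xj13 yj21 zj50) (kj xj13 yj22 zj0) (kj xj16 yj8 zj1) (kj xj16 yj8 zj2)) (@D3.rec (fun _ => Pt) (kj xj15 yj22 zj18) (kj xj13 yj22 zj4) (kj xj13 yj22 zj5) (kj xj16 yj8 zj6) (kj xj16 yj8 zj7) (kj xj15 yj4 zj5) (kj xj14 yj9 zj46) (kj xj14 yj9 zj47) (kj xj14 yj9 zj48) (kj xj14 yj9 zj49) (kj xj14 yj9 zj50) (kj xj13 yj22 zj17) (kj xj13 yj22 zj18) (kj xj13 yj22 zj19) (kj xj13 yj22 zj20) (kj xj15 yj22 zj31) (kj xj13 yj22 zj21) (kj xj13 yj22 zj22) (kj xj14 yj10 zj45) (kj xj14 yj11 zj50) (kj xj14 yj12 zj37) (kj xj16 yj8 zj15) (kj xj14 yj10 zj40) (kj xj16 yj8 zj16) (kj xj16 yj8 zj18) (kj xj16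 yj8 zj19) (kj xj16 yj8 zj21) (kj xj16 yj8 zj22) (kj xj15 yj21 zj50) (kj xj13 yj22 zj30) (kj xj13 yj22 zj31) (kj xj15 yj22 zj48) (kj xj13 yj22 zj32) (kj xj13 yj22 zj33) (kj xj16 yj8 zj35) (kj xj16 yj8 zj36) (kj xj16 yj8 zj38) (kj xj16 yj8 zj39) (kj xj15 yj4 zj38) (kj xj15 yj23 zj9) (kj xj13 yj22 zj39) (kj xj13 yj22 zj40) (kj xj16 yj8 zj45) (kj xj16 yj8 zj46) (kj xj13 yj25 zj45) (kj xj13 yj23 zj0) (kj xj13 yj26 zj32) (kj xj13 yj26 zj31) (kj xj14 yj13 zj0) (kj xj14 yj13 zj7) (kj xj14 yj13 zj6)) (@D3.rec (fun _ => Pt) (kj xj16 yj8 zj48) (kj xj14 yj3 zj17) (kj xj14 yj3 zj28) (kj xj13 yj23 zj6) (kj xj13 yj23 zj7) (kj xj13 yj23 zj8) (kj xj13 yj23 zj9) (kj xj13 yj23 zj10) (kj xj13 yj23 zj11) (kj xj14 yj2 zj36) (kj xj16 yj9 zj4) (kj xj16 yj9 zj5) (kj xj14 yj3 zj47)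 (kj xj16 yj9 zj6) (kj xj16 yj9 zj7) (kj xj16 yj9 zj8) (kj xj15 yj24 zj45) (kj xj16 yj9 zj10) (kj xj16 yj9 zj11) (kj xj14 yj10 zj27) (kj xj14 yj10 zj28) (kj xj14 yj10 zj29) (kj xj14 yj10 zj30) (kj xj14 yj10 zj31) (kj xj13 yj23 zj21) (kj xj13 yj23 zj22) (kj xj13 yj23 zj24) (kj xj13 yj23 zj25) (kj xj13 yj23 zj26) (kj xj16 yj9 zj38) (kj xj13 yj23 zj28) (kj xj13 yj23 zj29) (kj xj14 yj10 zj5) (kj xj16 yj9 zj33) (kj xj16 yj9 zj34) (kj xj14 yj11 zj38) (kj xj14 yj10 zj38) (kj xj14 yj11 zj39) (kj xj16 yj9 zj14) (kj xj16 yj9 zj36) (kj xj16 yj9 zj37) (kj xj13 yj23 zj27) (kj xj16 yj10 zj0) (kj xj16 yj9 zj40) (kj xj16 yj9 zj41) (kj xj13 yj23 zj37) (kj xj14 yj12 zj48) (kj xj13 yj23 zj39) (kj xj13 yj23 zj40) (kj xj13 yj23 zj34) (kj xj16 yj10 zj7)) (@D3.rec (fun _ => Pt)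 (kj xj13 yj23 zj43) (kj xj13 yj23 zj44) (kj xj13 yj23 zj38) (kj xj16 yj10 zj11) (kj xj16 yj10 zj5) (kj xj16 yj10 zj6) (kj xj13 yj23 zj42) (kj xj16 yj10 zj14) (kj xj16 yj10 zj9) (kj xj16 yj10 zj10) (kj xj13 yj23 zj46) (kj xj16 yj10 zj19) (kj xj13 yj23 zj50) (kj xj16 yj10 zj20) (kj xj15 yj6 zj14) (kj xj15 yj6 zj15) (kj xj13 yj26 zj34) (kj xj13 yj25 zj50) (kj xj13 yj26 zj30) (kj xj14 yj11 zj21) (kj xj14 yj11 zj22) (kj xj14 yj11 zj23) (kj xj16 yj3 zj10) (kj xj14 yj11 zj25) (kj xj14 yj11 zj26) (kj xj13 yj24 zj18) (kj xj13 yj24 zj19) (kj xj13 yj24 zj20) (kj xj13 yj24 zj21) (kj xj13 yj24 zj22) (kj xj13 yj24 zj23) (kj xj13 yj24 zj24) (kj xj13 yj24 zj25) (kj xj13 yj24 zj26) (kj xj16 yj10 zj44) (kj xj13 yj24 zj28) (kj xj13 yj24 zj29) (kj xj13 yj24 zj30) (kj xj13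 yj24 zj15) (kj xj16 yj10 zj49) (kj xj13 yj24 zj33) (kj xj13 yj24 zj34) (kj xj16 yj10 zj32) (kj xj16 yj10 zj33) (kj xj16 yj10 zj34) (kj xj16 yj10 zj35) (kj xj16 yj9 zj19) (kj xj16 yj10 zj36) (kj xj16 yj10 zj37) (kj xj16 yj10 zj38) (kj xj16 yj11 zj10)) (@D3.rec (fun _ => Pt) (kj xj16 yj10 zj40) (kj xj16 yj10 zj41) (kj xj16 yj10 zj42) (kj xj16 yj10 zj43) (kj xj13 yj24 zj27) (kj xj16 yj11 zj17) (kj xj16 yj10 zj46) (kj xj16 yj10 zj47) (kj xj16 yj10 zj48) (kj xj13 yj24 zj32) (kj xj16 yj11 zj23) (kj xj16 yj11 zj0) (kj xj16 yj11 zj1) (kj xj13 yj24 zj47) (kj xj13 yj24 zj49) (kj xj13 yj24 zj50) (kj xj13 yj25 zj0) (kj xj13 yj24 zj39) (kj xj16 yj11 zj30) (kj xj13 yj25 zj3) (kj xj13 yj25 zj4) (kj xj13 yj25 zj5) (kj xj13 yj24 zj44) (kj xj16 yj11 zj35) (kj xj13 yj25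 zj8) (kj xj13 yj25 zj9) (kj xj13 yj24 zj48) (kj xj16 yj11 zj40) (kj xj16 yj11 zj28) (kj xj16 yj11 zj29) (kj xj13 yj25 zj2) (kj xj16 yj11 zj43) (kj xj16 yj11 zj32) (kj xj16 yj11 zj33) (kj xj16 yj11 zj34) (kj xj16 yj0 zj3) (kj xj13 yj25 zj7) (kj xj16 yj11 zj48) (kj xj16 yj11 zj37) (kj xj16 yj11 zj38) (kj xj16 yj11 zj39) (kj xj13 yj25 zj11) (kj xj16 yj12 zj3) (kj xj13 yj25 zj15) (kj xj16 yj12 zj4) (kj xj15 yj7 zj45) (kj xj13 yj25 zj20) (kj xj16 yj12 zj6) (kj xj15 yj7 zj48) (kj xj13 yj25 zj24) (kj xj16 yj12 zj7)) (@D3.rec (fun _ => Pt) (kj xj13 yj25 zj29) (kj xj13 yj25 zj30) (kj xj13 yj25 zj31) (kj xj13 yj25 zj28) (kj xj16 yj12 zj13) (kj xj16 yj12 zj14) (kj xj16 yj12 zj10) (kj xj16 yj12 zj11) (kj xj16 yj12 zj12) (kj xj13 yj25 zj33) (kj xj13 yj25 zj47) (kj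 xj13 yj25 zj46) (kj xj13 yj25 zj48) (kj xj13 yj25 zj49) (kj xj13 yj26 zj0) (kj xj16 yj10 zj28) (kj xj16 yj10 zj24) (kj xj16 yj12 zj19) (kj xj16 yj10 zj23) (kj xj15 yj23 zj17) (kj xj16 yj10 zj22) (kj xj15 yj26 zj2) (kj xj14 yj5 zj3) (kj xj13 yj26 zj16) (kj xj13 yj26 zj19) (kj xj14 yj2 zj37) (kj xj14 yj2 zj35) (kj xj16 yj12 zj26) (kj xj14 yj3 zj48) (kj xj14 yj5 zj0) (kj xj16 yj12 zj27) (kj xj14 yj10 zj6) (kj xj14 yj10 zj39) (kj xj14 yj11 zj40) (kj xj16 yj8 zj49) (kj xj15 yj23 zj16) (kj xj15 yj25 zj8) (kj xj15 yj22 zj34) (kj xj15 yj25 zj9) (kj xj14 yj0 zj40) (kj xj14 yj0 zj42) (kj xj14 yj0 zj43) (kj xj14 yj0 zj6) (kj xj14 yj0 zj7) (kj xj15 yj21 zj31) (kj xj14 yj6 zj12) (kj xj14 yj6 zj13) (kj xj14 yj6 zj42) (kj xj16 yj12 zj41) (kj xj14 yj6 zj43) (kj xj14 yj7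 zj45)) (@D3.rec (fun _ => Pt) (kj xj15 yj21 zj6) (kj xj15 yj20 zj48) (kj xj15 yj20 zj49) (kj xj14 yj0 zj24) (kj xj14 yj0 zj25) (kj xj14 yj0 zj28) (kj xj14 yj7 zj10) (kj xj16 yj2 zj10) (kj xj16 yj2 zj11) (kj xj14 yj7 zj12) (kj xj15 yj22 zj26) (kj xj16 yj1 zj43) (kj xj14 yj7 zj13) (kj xj16 yj12 zj48) (kj xj16 yj4 zj23) (kj xj14 yj7 zj15) (kj xj16 yj12 zj49) (kj xj14 yj0 zj33) (kj xj14 yj7 zj11) (kj xj14 yj7 zj16) (kj xj16 yj1 zj44) (kj xj14 yj7 zj14) (kj xj14 yj7 zj17) (kj xj16 yj4 zj24) (kj xj16 yj12 zj39) (kj xj16 yj2 zj0) (kj xj16 yj12 zj40) (kj xj14 yj0 zj45) (kj xj15 yj22 zj27) (kj xj14 yj1 zj39) (kj xj14 yj1 zj40) (kj xj14 yj1 zj41) (kj xj14 yj1 zj42) (kj xj14 yj1 zj3) (kj xj14 yj1 zj4) (kj xj16 yj13 zj17) (kj xj14 yj1 zj13) (kj xj15 yj25 zj45) (kj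 xj15 yj26 zj48) (kj xj15 yj25 zj49) (kj xj16 yj0 zj0) (kj xj15 yj26 zj3) (kj xj16 yj0 zj4) (kj xj16 yj13 zj19) (kj xj14 yj1 zj17) (kj xj14 yj1 zj18) (kj xj14 yj1 zj19) (kj xj16 yj13 zj27) (kj xj16 yj13 zj28) (kj xj15 yj26 zj49) (kj xj16 yj0 zj1)) (@D3.rec (fun _ => Pt) (kj xj16 yj0 zj5) (kj xj14 yj1 zj28) (kj xj14 yj1 zj29) (kj xj14 yj1 zj30) (kj xj16 yj13 zj31) (kj xj14 yj1 zj36) (kj xj14 yj1 zj37) (kj xj16 yj13 zj32) (kj xj16 yj12 zj38) (kj xj16 yj13 zj14) (kj xj16 yj13 zj15) (kj xj16 yj13 zj16) (kj xj14 yj1 zj45) (kj xj16 yj13 zj38) (kj xj14 yj13 zj9) (kj xj14 yj11 zj47) (kj xj14 yj13 zj33) (kj xj15 yj24 zj10) (kj xj15 yj24 zj11) (kj xj15 yj24 zj12) (kj xj14 yj2 zj5) (kj xj14 yj2 zj6) (kj xj14 yj2 zj7) (kj xj14 yj2 zj8) (kj xj14 yj2 zj9) (kj xj14 yj2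 zj10) (kj xj14 yj2 zj11) (kj xj14 yj2 zj12) (kj xj16 yj9 zj12) (kj xj16 yj13 zj45) (kj xj16 yj13 zj46) (kj xj16 yj13 zj47) (kj xj16 yj13 zj48) (kj xj16 yj13 zj49) (kj xj16 yj13 zj50) (kj xj16 yj14 zj0) (kj xj16 yj14 zj1) (kj xj16 yj14 zj2) (kj xj14 yj2 zj19) (kj xj14 yj2 zj20) (kj xj14 yj2 zj21) (kj xj14 yj2 zj22) (kj xj14 yj2 zj23) (kj xj16 yj14 zj13) (kj xj16 yj14 zj14) (kj xj16 yj14 zj15) (kj xj16 yj14 zj16) (kj xj15 yj10 zj47) (kj xj14 yj13 zj29) (kj xj14 yj13 zj38) (kj xj14 yj2 zj38)) (@D3.rec (fun _ => Pt) (kj xj14 yj2 zj39) (kj xj14 yj2 zj40) (kj xj14 yj2 zj41) (kj xj16 yj12 zj29) (kj xj16 yj9 zj13) (kj xj16 yj12 zj28) (kj xj16 yj14 zj22) (kj xj16 yj14 zj23) (kj xj16 yj14 zj24) (kj xj16 yj14 zj25) (kj xj14 yj2 zj45) (kj xj14 yj2 zj46) (kj xj14 yj2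 zj47) (kj xj16 yj14 zj32) (kj xj16 yj14 zj33) (kj xj14 yj4 zj25) (kj xj14 yj10 zj41) (kj xj14 yj11 zj8) (kj xj14 yj10 zj44) (kj xj14 yj10 zj48) (kj xj14 yj11 zj12) (kj xj14 yj11 zj1) (kj xj15 yj22 zj38) (kj xj15 yj23 zj20) (kj xj15 yj24 zj46) (kj xj15 yj24 zj47) (kj xj14 yj3 zj11) (kj xj14 yj3 zj12) (kj xj14 yj3 zj13) (kj xj14 yj3 zj15) (kj xj14 yj3 zj16) (kj xj14 yj3 zj19) (kj xj16 yj14 zj46) (kj xj14 yj10 zj21) (kj xj16 yj14 zj47) (kj xj16 yj14 zj48) (kj xj14 yj10 zj23) (kj xj16 yj14 zj49) (kj xj16 yj14 zj50) (kj xj14 yj10 zj24) (kj xj16 yj15 zj0) (kj xj16 yj15 zj1) (kj xj16 yj9 zj2) (kj xj14 yj10 zj26) (kj xj16 yj15 zj2) (kj xj14 yj3 zj24) (kj xj14 yj3 zj27) (kj xj14 yj10 zj22) (kj xj14 yj14 zj5) (kj xj16 yj15 zj16) (kj xj14 yj10 zj25)) (@D3.rec (fun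 _ => Pt) (kj xj16 yj9 zj3) (kj xj14 yj3 zj33) (kj xj15 yj22 zj37) (kj xj15 yj22 zj39) (kj xj15 yj23 zj21) (kj xj15 yj25 zj33) (kj xj15 yj25 zj34) (kj xj14 yj3 zj50) (kj xj14 yj4 zj0) (kj xj14 yj4 zj1) (kj xj14 yj4 zj2) (kj xj14 yj4 zj3) (kj xj14 yj4 zj4) (kj xj14 yj4 zj6) (kj xj14 yj4 zj7) (kj xj14 yj4 zj8) (kj xj14 yj4 zj11) (kj xj14 yj4 zj12) (kj xj16 yj9 zj18) (kj xj16 yj9 zj20) (kj xj16 yj12 zj31) (kj xj16 yj7 zj43) (kj xj16 yj2 zj50) (kj xj16 yj7 zj44) (kj xj16 yj9 zj44) (kj xj16 yj15 zj23) (kj xj16 yj15 zj24) (kj xj16 yj15 zj25) (kj xj16 yj8 zj10) (kj xj16 yj15 zj26) (kj xj16 yj15 zj27) (kj xj16 yj15 zj28) (kj xj16 yj15 zj29) (kj xj14 yj4 zj5) (kj xj16 yj15 zj49) (kj xj16 yj15 zj30) (kj xj16 yj15 zj31) (kj xj16 yj15 zj32) (kj xj14 yj4 zj10) (kj xj16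 yj16 zj4) (kj xj16 yj15 zj33) (kj xj16 yj15 zj34) (kj xj14 yj4 zj22) (kj xj14 yj4 zj23) (kj xj14 yj4 zj24) (kj xj14 yj4 zj26) (kj xj14 yj4 zj27) (kj xj14 yj4 zj28) (kj xj14 yj4 zj31) (kj xj14 yj4 zj32) (kj xj14 yj4 zj33)) (@D3.rec (fun _ => Pt) (kj xj16 yj16 zj8) (kj xj16 yj16 zj9) (kj xj16 yj14 zj35) (kj xj16 yj16 zj10) (kj xj16 yj16 zj11) (kj xj14 yj4 zj30) (kj xj16 yj16 zj18) (kj xj16 yj16 zj12) (kj xj16 yj16 zj13) (kj xj14 yj4 zj35) (kj xj15 yj13 zj10) (kj xj14 yj4 zj38) (kj xj16 yj16 zj21) (kj xj14 yj4 zj42) (kj xj16 yj16 zj22) (kj xj15 yj23 zj22) (kj xj14 yj5 zj4) (kj xj14 yj5 zj5) (kj xj14 yj5 zj6) (kj xj14 yj5 zj7) (kj xj14 yj5 zj8) (kj xj16 yj3 zj0) (kj xj16 yj7 zj45) (kj xj16 yj12 zj25) (kj xj16 yj16 zj24) (kj xj16 yj16 zj25) (kj xj16 yj16 zj26)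 (kj xj16 yj16 zj27) (kj xj16 yj16 zj28) (kj xj14 yj5 zj12) (kj xj14 yj6 zj3) (kj xj14 yj6 zj8) (kj xj14 yj6 zj9) (kj xj14 yj6 zj16) (kj xj14 yj6 zj32) (kj xj14 yj6 zj33) (kj xj14 yj6 zj39) (kj xj14 yj6 zj46) (kj xj14 yj7 zj6) (kj xj14 yj7 zj19) (kj xj14 yj7 zj20) (kj xj14 yj8 zj12) (kj xj15 yj21 zj29) (kj xj15 yj21 zj18) (kj xj14 yj8 zj9) (kj xj14 yj8 zj13) (kj xj14 yj8 zj16) (kj xj14 yj6 zj23) (kj xj14 yj6 zj28) (kj xj14 yj5 zj50) (kj xj14 yj6 zj0)) (@D3.rec (fun _ => Pt) (kj xj16 yj5 zj13) (kj xj16 yj5 zj14) (kj xj16 yj16 zj41) (kj xj15 yj21 zj39) (kj xj16 yj16 zj36) (kj xj16 yj4 zj2) (kj xj15 yj21 zj45) (kj xj15 yj21 zj47) (kj xj15 yj21 zj15) (kj xj16 yj4 zj30) (kj xj16 yj4 zj31) (kj xj16 yj4 zj32) (kj xj16 yj12 zj43) (kj xj16 yj4 zj44) (kj xj16 yj0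 zj41) (kj xj16 yj16 zj37) (kj xj14 yj6 zj24) (kj xj16 yj5 zj15) (kj xj16 yj5 zj16) (kj xj16 yj5 zj17) (kj xj16 yj5 zj18) (kj xj16 yj5 zj19) (kj xj16 yj5 zj20) (kj xj16 yj16 zj40) (kj xj16 yj17 zj4) (kj xj16 yj5 zj36) (kj xj16 yj5 zj37) (kj xj16 yj5 zj38) (kj xj16 yj0 zj49) (kj xj16 yj16 zj38) (kj xj16 yj16 zj39) (kj xj16 yj6 zj11) (kj xj16 yj6 zj12) (kj xj16 yj6 zj13) (kj xj16 yj6 zj14) (kj xj16 yj6 zj1) (kj xj16 yj4 zj7) (kj xj14 yj11 zj24) (kj xj15 yj21 zj23) (kj xj15 yj21 zj26) (kj xj16 yj12 zj44) (kj xj15 yj21 zj27) (kj xj16 yj0 zj42) (kj xj16 yj3 zj26) (kj xj16 yj3 zj27) (kj xj14 yj7 zj2) (kj xj15 yj21 zj34) (kj xj15 yj21 zj38) (kj xj16 yj17 zj28) (kj xj15 yj21 zj10) (kj xj15 yj21 zj46)) (@D3.rec (fun _ => Pt) (kj xj15 yj21 zj14) (kj xj16 yj12 zj50)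 (kj xj16 yj13 zj9) (kj xj15 yj23 zj48) (kj xj16 yj13 zj1) (kj xj16 yj13 zj4) (kj xj16 yj13 zj12) (kj xj16 yj13 zj7) (kj xj16 yj13 zj10) (kj xj16 yj5 zj1) (kj xj16 yj0 zj48) (kj xj16 yj2 zj13) (kj xj16 yj2 zj14) (kj xj16 yj5 zj2) (kj xj16 yj5 zj3) (kj xj14 yj7 zj35) (kj xj14 yj7 zj36) (kj xj14 yj7 zj41) (kj xj14 yj7 zj42) (kj xj14 yj7 zj46) (kj xj16 yj2 zj18) (kj xj16 yj2 zj23) (kj xj15 yj23 zj41) (kj xj15 yj21 zj16) (kj xj16 yj17 zj47) (kj xj16 yj17 zj48) (kj xj15 yj24 zj5) (kj xj15 yj24 zj18) (kj xj15 yj20 zj39) (kj xj15 yj21 zj19) (kj xj16 yj17 zj49) (kj xj16 yj17 zj50) (kj xj14 yj7 zj44) (kj xj16 yj18 zj14) (kj xj16 yj12 zj46) (kj xj16 yj18 zj0) (kj xj14 yj8 zj1) (kj xj16 yj2 zj27) (kj xj15 yj21 zj17) (kj xj16 yj2 zj21) (kj xj15 yj21 zj42) (kj xj15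 yj20 zj40) (kj xj14 yj8 zj7) (kj xj16 yj5 zj45) (kj xj16 yj3 zj43) (kj xj16 yj2 zj31) (kj xj14 yj8 zj23) (kj xj14 yj8 zj27) (kj xj16 yj2 zj28) (kj xj15 yj23 zj45) (kj xj15 yj23 zj47)) (@D3.rec (fun _ => Pt) (kj xj16 yj18 zj21) (kj xj15 yj24 zj8) (kj xj15 yj24 zj22) (kj xj15 yj24 zj27) (kj xj16 yj6 zj2) (kj xj15 yj21 zj44) (kj xj16 yj4 zj5) (kj xj16 yj2 zj42) (kj xj16 yj6 zj27) (kj xj16 yj6 zj28) (kj xj14 yj8 zj40) (kj xj16 yj18 zj31) (kj xj16 yj7 zj10) (kj xj16 yj6 zj43) (kj xj16 yj6 zj44) (kj xj14 yj8 zj48) (kj xj16 yj7 zj9) (kj xj16 yj18 zj35) (kj xj15 yj23 zj38) (kj xj16 yj7 zj1) (kj xj16 yj7 zj2) (kj xj16 yj1 zj45) (kj xj16 yj7 zj3) (kj xj16 yj7 zj4) (kj xj14 yj9 zj15) (kj xj14 yj9 zj16) (kj xj14 yj9 zj17) (kj xj14 yj9 zj18) (kj xj14 yj9 zj19) (kj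 xj14 yj9 zj20) (kj xj14 yj9 zj21) (kj xj16 yj7 zj30) (kj xj14 yj9 zj22) (kj xj14 yj9 zj23) (kj xj16 yj7 zj48) (kj xj16 yj7 zj49) (kj xj16 yj18 zj43) (kj xj16 yj18 zj44) (kj xj16 yj18 zj45) (kj xj16 yj18 zj46) (kj xj16 yj18 zj47) (kj xj16 yj18 zj48) (kj xj16 yj18 zj50) (kj xj16 yj19 zj0) (kj xj14 yj9 zj31) (kj xj14 yj9 zj32) (kj xj14 yj9 zj33) (kj xj14 yj9 zj34) (kj xj16 yj7 zj31) (kj xj16 yj19 zj11) (kj xj16 yj19 zj12)) (@D3.rec (fun _ => Pt) (kj xj16 yj19 zj13) (kj xj14 yj9 zj38) (kj xj16 yj7 zj50) (kj xj15 yj22 zj35) (kj xj15 yj22 zj36) (kj xj16 yj7 zj8) (kj xj14 yj9 zj45) (kj xj16 yj19 zj19) (kj xj16 yj8 zj11) (kj xj16 yj8 zj12) (kj xj16 yj8 zj13) (kj xj16 yj8 zj14) (kj xj14 yj10 zj8) (kj xj14 yj10 zj9) (kj xj14 yj10 zj12) (kj xj14 yj10 zj13) (kj xj16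 yj9 zj42) (kj xj16 yj12 zj33) (kj xj15 yj25 zj50) (kj xj16 yj19 zj24) (kj xj15 yj25 zj11) (kj xj15 yj26 zj6) (kj xj16 yj19 zj25) (kj xj16 yj19 zj26) (kj xj14 yj10 zj16) (kj xj15 yj26 zj21) (kj xj15 yj25 zj24) (kj xj14 yj11 zj43) (kj xj14 yj12 zj22) (kj xj16 yj9 zj35) (kj xj16 yj15 zj4) (kj xj16 yj15 zj17) (kj xj16 yj8 zj23) (kj xj16 yj15 zj7) (kj xj16 yj15 zj10) (kj xj16 yj7 zj19) (kj xj16 yj15 zj14) (kj xj15 yj25 zj5) (kj xj16 yj9 zj28) (kj xj16 yj9 zj29) (kj xj16 yj9 zj31) (kj xj16 yj9 zj32) (kj xj14 yj10 zj42) (kj xj14 yj10 zj43) (kj xj14 yj10 zj46) (kj xj14 yj10 zj49) (kj xj14 yj11 zj2) (kj xj16 yj9 zj46) (kj xj16 yj12 zj34) (kj xj15 yj25 zj2) (kj xj16 yj8 zj26)) (@D3.rec (fun _ => Pt) (kj xj16 yj8 zj28) (kj xj16 yj14 zj36) (kj xj16 yj19 zj48) (kj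 xj16 yj9 zj15) (kj xj15 yj24 zj2) (kj xj16 yj14 zj38) (kj xj16 yj8 zj24) (kj xj16 yj19 zj49) (kj xj14 yj10 zj47) (kj xj16 yj20 zj13) (kj xj16 yj14 zj39) (kj xj16 yj19 zj50) (kj xj14 yj11 zj0) (kj xj16 yj20 zj17) (kj xj16 yj14 zj41) (kj xj16 yj20 zj0) (kj xj14 yj11 zj7) (kj xj14 yj11 zj9) (kj xj14 yj11 zj13) (kj xj16 yj14 zj37) (kj xj16 yj20 zj21) (kj xj14 yj11 zj11) (kj xj16 yj20 zj24) (kj xj16 yj14 zj40) (kj xj14 yj11 zj15) (kj xj15 yj18 zj25) (kj xj14 yj11 zj18) (kj xj16 yj20 zj27) (kj xj16 yj10 zj26) (kj xj16 yj10 zj27) (kj xj16 yj17 zj23) (kj xj16 yj10 zj30) (kj xj16 yj10 zj31) (kj xj14 yj11 zj44) (kj xj14 yj11 zj45) (kj xj14 yj12 zj0) (kj xj14 yj12 zj3) (kj xj14 yj12 zj4) (kj xj14 yj12 zj5) (kj xj14 yj11 zj35) (kj xj16 yj20 zj40) (kj xj14 yj12 zj8)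 (kj xj14 yj12 zj9) (kj xj16 yj9 zj45) (kj xj16 yj9 zj47) (kj xj16 yj13 zj39) (kj xj14 yj12 zj38) (kj xj16 yj19 zj34) (kj xj16 yj20 zj33) (kj xj16 yj20 zj34) (kj xj15 yj22 zj0)) (@D3.rec (fun _ => Pt) (kj xj16 yj13 zj41) (kj xj15 yj24 zj3) (kj xj15 yj24 zj14) (kj xj16 yj8 zj25) (kj xj16 yj20 zj35) (kj xj14 yj12 zj2) (kj xj16 yj21 zj5) (kj xj16 yj20 zj36) (kj xj16 yj20 zj37) (kj xj16 yj20 zj38) (kj xj16 yj20 zj39) (kj xj14 yj12 zj7) (kj xj16 yj21 zj12) (kj xj16 yj20 zj42) (kj xj16 yj20 zj43) (kj xj14 yj12 zj20) (kj xj14 yj12 zj21) (kj xj14 yj12 zj23) (kj xj14 yj12 zj24) (kj xj14 yj12 zj27) (kj xj14 yj12 zj28) (kj xj14 yj12 zj29) (kj xj14 yj12 zj19) (kj xj16 yj21 zj16) (kj xj16 yj19 zj35) (kj xj16 yj21 zj17) (kj xj16 yj21 zj18) (kj xj14 yj12 zj26) (kj xj16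 yj21 zj25) (kj xj16 yj21 zj19) (kj xj16 yj21 zj20) (kj xj14 yj12 zj32) (kj xj16 yj21 zj28) (kj xj14 yj12 zj36) (kj xj16 yj13 zj40) (kj xj15 yj23 zj19) (kj xj14 yj12 zj49) (kj xj14 yj12 zj50) (kj xj14 yj13 zj1) (kj xj14 yj13 zj2) (kj xj14 yj13 zj47) (kj xj16 yj10 zj4) (kj xj16 yj21 zj30) (kj xj16 yj0 zj10) (kj xj16 yj8 zj50) (kj xj16 yj21 zj31) (kj xj16 yj21 zj32) (kj xj16 yj7 zj26) (kj xj14 yj13 zj8) (kj xj15 yj25 zj20) (kj xj16 yj9 zj1)) (@D3.rec (fun _ => Pt) (kj xj16 yj9 zj0) (kj xj15 yj23 zj46) (kj xj15 yj24 zj9) (kj xj14 yj13 zj46) (kj xj14 yj13 zj24) (kj xj16 yj14 zj20) (kj xj14 yj14 zj1) (kj xj15 yj22 zj1) (kj xj16 yj13 zj42) (kj xj15 yj24 zj4) (kj xj15 yj24 zj15) (kj xj15 yj24 zj7) (kj xj16 yj14 zj21) (kj xj14 yj13 zj50) (kj xj15 yj24 zj29) (kj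 xj14 yj14 zj3) (kj xj14 yj13 zj49) (kj xj14 yj13 zj48) (kj xj14 yj14 zj0) (kj xj16 yj21 zj33) (kj xj16 yj22 zj0) (kj xj16 yj21 zj50) (kj xj16 yj21 zj49) (kj xj16 yj21 zj43) (kj xj15 yj23 zj0) (kj xj15 yj26 zj32) (kj xj15 yj23 zj14) (kj xj14 yj14 zj11) (kj xj14 yj14 zj39) (kj xj14 yj23 zj32) (kj xj14 yj15 zj10) (kj xj14 yj15 zj11) (kj xj14 yj15 zj15) (kj xj14 yj15 zj39) (kj xj14 yj24 zj28) (kj xj14 yj16 zj4) (kj xj14 yj16 zj5) (kj xj14 yj16 zj11) (kj xj15 yj0 zj40) (kj xj15 yj15 zj28) (kj xj15 yj15 zj41) (kj xj15 yj1 zj6) (kj xj15 yj1 zj16) (kj xj16 yj22 zj4) (kj xj14 yj14 zj44) (kj xj14 yj14 zj45) (kj xj14 yj14 zj46) (kj xj15 yj0 zj3) (kj xj15 yj9 zj1) (kj xj15 yj9 zj2) (kj xj16 yj22 zj11)) (@D3.rec (fun _ => Pt) (kj xj16 yj22 zj12) (kj xj14 yj15 zj5)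 (kj xj14 yj15 zj6) (kj xj14 yj16 zj0) (kj xj14 yj15 zj34) (kj xj14 yj15 zj37) (kj xj15 yj9 zj0) (kj xj15 yj0 zj13) (kj xj15 yj0 zj19) (kj xj16 yj22 zj17) (kj xj15 yj14 zj49) (kj xj14 yj22 zj14) (kj xj14 yj22 zj36) (kj xj16 yj22 zj5) (kj xj15 yj15 zj0) (kj xj15 yj14 zj8) (kj xj15 yj15 zj23) (kj xj15 yj15 zj38) (kj xj15 yj13 zj43) (kj xj15 yj15 zj29) (kj xj14 yj24 zj23) (kj xj14 yj15 zj31) (kj xj14 yj15 zj32) (kj xj15 yj14 zj38) (kj xj16 yj22 zj28) (kj xj16 yj22 zj19) (kj xj15 yj14 zj39) (kj xj15 yj14 zj41) (kj xj16 yj22 zj20) (kj xj15 yj13 zj42) (kj xj14 yj15 zj46) (kj xj15 yj8 zj44) (kj xj14 yj15 zj44) (kj xj16 yj22 zj36) (kj xj15 yj14 zj46) (kj xj16 yj22 zj34) (kj xj14 yj15 zj48) (kj xj16 yj22 zj40) (kj xj15 yj14 zj47) (kj xj15 yj14 zj3) (kj xj16 yj22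 zj18) (kj xj14 yj16 zj3) (kj xj15 yj15 zj40) (kj xj16 yj22 zj6) (kj xj15 yj16 zj5) (kj xj15 yj14 zj6) (kj xj15 yj14 zj50) (kj xj15 yj14 zj7) (kj xj14 yj16 zj15) (kj xj14 yj16 zj16) (kj xj15 yj4 zj28)) (@D3.rec (fun _ => Pt) (kj xj15 yj18 zj50) (kj xj15 yj20 zj7) (kj xj16 yj22 zj48) (kj xj16 yj22 zj49) (kj xj16 yj22 zj50) (kj xj14 yj18 zj9) (kj xj14 yj18 zj10) (kj xj14 yj16 zj22) (kj xj14 yj16 zj23) (kj xj14 yj16 zj24) (kj xj14 yj16 zj25) (kj xj14 yj16 zj26) (kj xj16 yj23 zj10) (kj xj16 yj23 zj11) (kj xj16 yj23 zj12) (kj xj16 yj23 zj14) (kj xj16 yj23 zj15) (kj xj14 yj16 zj31) (kj xj15 yj4 zj0) (kj xj14 yj16 zj32) (kj xj14 yj16 zj33) (kj xj16 yj23 zj22) (kj xj16 yj23 zj24) (kj xj16 yj23 zj25) (kj xj15 yj22 zj24) (kj xj15 yj22 zj25) (kj xj15 yj9 zj10) (kj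 xj15 yj9 zj28) (kj xj14 yj16 zj46) (kj xj14 yj16 zj47) (kj xj14 yj16 zj48) (kj xj15 yj4 zj15) (kj xj14 yj16 zj49) (kj xj14 yj16 zj50) (kj xj15 yj8 zj37) (kj xj15 yj17 zj3) (kj xj15 yj17 zj4) (kj xj15 yj12 zj2) (kj xj15 yj11 zj22) (kj xj15 yj12 zj3) (kj xj16 yj23 zj30) (kj xj16 yj23 zj31) (kj xj16 yj23 zj32) (kj xj16 yj23 zj34) (kj xj16 yj23 zj35) (kj xj14 yj17 zj7) (kj xj14 yj17 zj8) (kj xj14 yj17 zj9) (kj xj15 yj4 zj31) (kj xj14 yj17 zj10) (kj xj14 yj17 zj11)) (@D3.rec (fun _ => Pt) (kj xj15 yj20 zj24) (kj xj16 yj23 zj49) (kj xj16 yj23 zj50) (kj xj16 yj24 zj0) (kj xj16 yj24 zj2) (kj xj16 yj24 zj3) (kj xj15 yj23 zj6) (kj xj15 yj23 zj7) (kj xj15 yj23 zj8) (kj xj15 yj4 zj39) (kj xj14 yj17 zj19) (kj xj14 yj17 zj20) (kj xj16 yj24 zj12) (kj xj16 yj24 zj13)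 (kj xj15 yj20 zj26) (kj xj14 yj17 zj29) (kj xj15 yj8 zj35) (kj xj15 yj8 zj19) (kj xj15 yj1 zj44) (kj xj15 yj19 zj35) (kj xj15 yj11 zj23) (kj xj15 yj12 zj4) (kj xj15 yj13 zj15) (kj xj16 yj24 zj16) (kj xj14 yj17 zj32) (kj xj16 yj24 zj25) (kj xj14 yj17 zj37) (kj xj14 yj17 zj38) (kj xj16 yj24 zj26) (kj xj16 yj24 zj27) (kj xj14 yj17 zj40) (kj xj14 yj23 zj39) (kj xj14 yj23 zj40) (kj xj14 yj23 zj41) (kj xj14 yj17 zj46) (kj xj14 yj17 zj47) (kj xj14 yj17 zj49) (kj xj14 yj17 zj50) (kj xj15 yj16 zj18) (kj xj16 yj24 zj34) (kj xj16 yj24 zj35) (kj xj15 yj15 zj22) (kj xj16 yj24 zj36) (kj xj14 yj18 zj2) (kj xj16 yj24 zj42) (kj xj15 yj15 zj49) (kj xj15 yj20 zj1) (kj xj15 yj15 zj50) (kj xj15 yj15 zj3) (kj xj16 yj23 zj8) (kj xj16 yj23 zj9)) (@D3.rec (fun _ => Pt) (kj xj14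 yj18 zj16) (kj xj14 yj18 zj17) (kj xj15 yj18 zj4) (kj xj15 yj19 zj1) (kj xj15 yj20 zj9) (kj xj15 yj15 zj26) (kj xj16 yj24 zj47) (kj xj15 yj20 zj11) (kj xj15 yj16 zj1) (kj xj15 yj20 zj2) (kj xj15 yj10 zj17) (kj xj15 yj10 zj18) (kj xj15 yj10 zj19) (kj xj14 yj18 zj32) (kj xj15 yj19 zj2) (kj xj15 yj20 zj10) (kj xj14 yj18 zj30) (kj xj16 yj25 zj8) (kj xj15 yj15 zj27) (kj xj16 yj25 zj5) (kj xj14 yj18 zj35) (kj xj16 yj25 zj12) (kj xj15 yj16 zj2) (kj xj14 yj18 zj39) (kj xj16 yj25 zj15) (kj xj14 yj18 zj42) (kj xj16 yj25 zj16) (kj xj15 yj16 zj3) (kj xj14 yj18 zj45) (kj xj15 yj20 zj14) (kj xj14 yj18 zj50) (kj xj14 yj19 zj0) (kj xj14 yj19 zj1) (kj xj14 yj19 zj2) (kj xj14 yj19 zj3) (kj xj14 yj19 zj4) (kj xj14 yj26 zj35) (kj xj16 yj25 zj18) (kj xj16 yj25 zj19) (kj xj16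 yj25 zj20) (kj xj16 yj25 zj21) (kj xj16 yj25 zj22) (kj xj16 yj25 zj23) (kj xj16 yj25 zj25) (kj xj16 yj25 zj26) (kj xj15 yj5 zj16) (kj xj15 yj11 zj24) (kj xj15 yj11 zj25) (kj xj14 yj19 zj13) (kj xj14 yj19 zj14) (kj xj14 yj19 zj15)) (@D3.rec (fun _ => Pt) (kj xj14 yj19 zj17) (kj xj14 yj19 zj18) (kj xj15 yj17 zj49) (kj xj14 yj19 zj20) (kj xj14 yj19 zj21) (kj xj15 yj17 zj37) (kj xj16 yj25 zj40) (kj xj16 yj25 zj41) (kj xj15 yj8 zj36) (kj xj15 yj8 zj38) (kj xj16 yj25 zj42) (kj xj15 yj17 zj20) (kj xj16 yj25 zj43) (kj xj16 yj25 zj44) (kj xj14 yj19 zj19) (kj xj16 yj26 zj6) (kj xj16 yj25 zj46) (kj xj16 yj25 zj47) (kj xj14 yj19 zj27) (kj xj14 yj19 zj30) (kj xj15 yj19 zj49) (kj xj14 yj19 zj33) (kj xj14 yj19 zj34) (kj xj16 yj26 zj10) (kj xj15 yj17 zj26) (kj xj16 yj26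 zj11) (kj xj14 yj19 zj32) (kj xj16 yj26 zj16) (kj xj16 yj26 zj13) (kj xj16 yj26 zj14) (kj xj14 yj19 zj38) (kj xj16 yj26 zj20) (kj xj16 yj26 zj21) (kj xj15 yj12 zj5) (kj xj15 yj12 zj6) (kj xj14 yj20 zj1) (kj xj14 yj20 zj2) (kj xj14 yj20 zj5) (kj xj14 yj20 zj6) (kj xj14 yj20 zj11) (kj xj14 yj20 zj12) (kj xj14 yj19 zj49) (kj xj16 yj26 zj31) (kj xj14 yj20 zj15) (kj xj14 yj20 zj16) (kj xj15 yj9 zj37) (kj xj16 yj26 zj25) (kj xj16 yj26 zj26) (kj xj15 yj1 zj50) (kj xj15 yj9 zj39) (kj xj15 yj17 zj18)) (@D3.rec (fun _ => Pt) (kj xj16 yj26 zj27) (kj xj16 yj26 zj28) (kj xj15 yj8 zj21) (kj xj15 yj9 zj41) (kj xj14 yj20 zj9) (kj xj16 yj26 zj45) (kj xj15 yj17 zj21) (kj xj16 yj26 zj29) (kj xj16 yj26 zj30) (kj xj14 yj20 zj14) (kj xj17 yj0 zj0) (kj xj16 yj26 zj33) (kj xj16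 yj26 zj34) (kj xj14 yj20 zj24) (kj xj14 yj20 zj27) (kj xj14 yj20 zj31) (kj xj14 yj20 zj21) (kj xj17 yj0 zj8) (kj xj14 yj20 zj34) (kj xj14 yj20 zj35) (kj xj17 yj0 zj5) (kj xj15 yj17 zj25) (kj xj17 yj0 zj6) (kj xj14 yj20 zj29) (kj xj17 yj0 zj14) (kj xj17 yj0 zj7) (kj xj14 yj20 zj33) (kj xj17 yj0 zj16) (kj xj17 yj0 zj10) (kj xj17 yj0 zj11) (kj xj17 yj0 zj12) (kj xj14 yj20 zj39) (kj xj15 yj20 zj25) (kj xj14 yj20 zj42) (kj xj14 yj20 zj45) (kj xj17 yj0 zj20) (kj xj14 yj20 zj50) (kj xj14 yj21 zj0) (kj xj14 yj21 zj1) (kj xj14 yj20 zj49) (kj xj17 yj0 zj24) (kj xj17 yj0 zj25) (kj xj17 yj0 zj22) (kj xj17 yj0 zj23) (kj xj14 yj21 zj3) (kj xj14 yj21 zj9) (kj xj14 yj21 zj13) (kj xj14 yj21 zj17) (kj xj15 yj9 zj38) (kj xj15 yj9 zj49) (kj xj15 yj2 zj0))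
def f_j_16 : D2 → D3 → Pt := @D2.rec (fun _ => D3 → Pt) (@D3.rec (fun _ => Pt) (kj xj15 yj9 zj40) (kj xj15 yj9 zj50) (kj xj17 yj0 zj29) (kj xj15 yj7 zj35) (kj xj15 yj9 zj42) (kj xj15 yj10 zj0) (kj xj17 yj0 zj30) (kj xj14 yj21 zj21) (kj xj14 yj21 zj22) (kj xj17 yj0 zj32) (kj xj15 yj19 zj43) (kj xj14 yj24 zj29) (kj xj14 yj24 zj6) (kj xj14 yj23 zj17) (kj xj14 yj23 zj18) (kj xj14 yj24 zj32) (kj xj14 yj23 zj33) (kj xj14 yj23 zj34) (kj xj14 yj24 zj5) (kj xj14 yj24 zj7) (kj xj14 yj24 zj9) (kj xj14 yj24 zj10) (kj xj14 yj24 zj30) (kj xj14 yj24 zj33) (kj xj14 yj24 zj35) (kj xj14 yj24 zj36) (kj xj14 yj25 zj10) (kj xj14 yj25 zj11) (kj xj14 yj22 zj9) (kj xj14 yj26 zj13) (kj xj14 yj25 zj34) (kj xj14 yj25 zj35) (kj xj14 yj25 zj36) (kj xj14 yj25 zj37) (kj xj14 yj26 zj12)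 (kj xj14 yj26 zj14) (kj xj14 yj26 zj15) (kj xj14 yj26 zj16) (kj xj14 yj26 zj17) (kj xj14 yj26 zj30) (kj xj14 yj26 zj31) (kj xj15 yj14 zj14) (kj xj15 yj14 zj42) (kj xj15 yj0 zj16) (kj xj15 yj0 zj17) (kj xj15 yj0 zj18) (kj xj15 yj0 zj20) (kj xj15 yj0 zj21) (kj xj15 yj15 zj10) (kj xj15 yj14 zj28) (kj xj15 yj1 zj14)) (@D3.rec (fun _ => Pt) (kj xj15 yj1 zj15) (kj xj15 yj1 zj17) (kj xj15 yj1 zj18) (kj xj15 yj1 zj19) (kj xj15 yj1 zj20) (kj xj14 yj23 zj3) (kj xj14 yj23 zj4) (kj xj17 yj1 zj6) (kj xj17 yj1 zj7) (kj xj14 yj23 zj6) (kj xj14 yj23 zj10) (kj xj14 yj23 zj11) (kj xj14 yj23 zj47) (kj xj14 yj24 zj3) (kj xj14 yj23 zj45) (kj xj17 yj1 zj9) (kj xj17 yj1 zj10) (kj xj14 yj23 zj16) (kj xj14 yj24 zj4) (kj xj14 yj23 zj46) (kj xj14 yj24 zj1) (kj xj17 yj0 zj42) (kj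 xj17 yj0 zj43) (kj xj14 yj24 zj48) (kj xj14 yj24 zj49) (kj xj14 yj23 zj26) (kj xj14 yj23 zj27) (kj xj14 yj24 zj21) (kj xj14 yj24 zj26) (kj xj14 yj24 zj18) (kj xj17 yj1 zj20) (kj xj14 yj24 zj27) (kj xj14 yj24 zj19) (kj xj14 yj24 zj24) (kj xj14 yj24 zj44) (kj xj14 yj24 zj38) (kj xj16 yj24 zj29) (kj xj16 yj24 zj30) (kj xj16 yj24 zj31) (kj xj16 yj24 zj32) (kj xj16 yj24 zj33) (kj xj14 yj23 zj48) (kj xj14 yj23 zj49) (kj xj15 yj9 zj11) (kj xj15 yj9 zj20) (kj xj15 yj16 zj21) (kj xj17 yj1 zj13) (kj xj17 yj1 zj16) (kj xj14 yj25 zj3) (kj xj17 yj1 zj11) (kj xj17 yj1 zj34)) (@D3.rec (fun _ => Pt) (kj xj15 yj9 zj25) (kj xj17 yj1 zj17) (kj xj14 yj25 zj4) (kj xj17 yj1 zj12) (kj xj17 yj1 zj15) (kj xj17 yj0 zj44) (kj xj17 yj0 zj45) (kj xj14 yj25 zj9) (kj xj17 yj0 zj46)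 (kj xj17 yj0 zj47) (kj xj15 yj9 zj7) (kj xj15 yj9 zj8) (kj xj14 yj24 zj22) (kj xj15 yj15 zj11) (kj xj15 yj15 zj12) (kj xj15 yj2 zj11) (kj xj17 yj1 zj23) (kj xj17 yj1 zj25) (kj xj15 yj15 zj20) (kj xj17 yj1 zj21) (kj xj17 yj1 zj50) (kj xj15 yj15 zj39) (kj xj14 yj26 zj11) (kj xj15 yj15 zj21) (kj xj17 yj1 zj22) (kj xj14 yj26 zj9) (kj xj14 yj24 zj50) (kj xj15 yj15 zj37) (kj xj15 yj15 zj48) (kj xj14 yj26 zj26) (kj xj17 yj1 zj27) (kj xj15 yj15 zj45) (kj xj15 yj2 zj14) (kj xj15 yj2 zj17) (kj xj17 yj1 zj26) (kj xj14 yj26 zj20) (kj xj17 yj1 zj18) (kj xj17 yj1 zj19) (kj xj14 yj25 zj5) (kj xj14 yj25 zj6) (kj xj14 yj25 zj23) (kj xj14 yj25 zj32) (kj xj15 yj16 zj7) (kj xj17 yj1 zj40) (kj xj17 yj1 zj45) (kj xj17 yj2 zj19) (kj xj14 yj25 zj33) (kj xj17 yj1 zj48) (kj xj14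 yj25 zj15) (kj xj14 yj25 zj16) (kj xj15 yj12 zj22)) (@D3.rec (fun _ => Pt) (kj xj15 yj13 zj21) (kj xj17 yj2 zj20) (kj xj17 yj2 zj27) (kj xj17 yj2 zj28) (kj xj14 yj25 zj21) (kj xj14 yj25 zj22) (kj xj14 yj25 zj24) (kj xj14 yj25 zj25) (kj xj14 yj25 zj48) (kj xj14 yj26 zj7) (kj xj15 yj6 zj22) (kj xj14 yj25 zj46) (kj xj17 yj2 zj35) (kj xj17 yj2 zj36) (kj xj17 yj2 zj21) (kj xj17 yj2 zj37) (kj xj14 yj25 zj31) (kj xj14 yj26 zj8) (kj xj14 yj25 zj47) (kj xj14 yj26 zj6) (kj xj17 yj1 zj47) (kj xj17 yj2 zj22) (kj xj17 yj1 zj44) (kj xj17 yj0 zj48) (kj xj17 yj0 zj49) (kj xj17 yj0 zj50) (kj xj15 yj14 zj43) (kj xj15 yj14 zj44) (kj xj14 yj25 zj49) (kj xj14 yj25 zj50) (kj xj15 yj0 zj0) (kj xj14 yj26 zj0) (kj xj14 yj26 zj1) (kj xj15 yj0 zj10) (kj xj17 yj2 zj41) (kj xj17 yj2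 zj47) (kj xj17 yj2 zj38) (kj xj17 yj3 zj1) (kj xj17 yj2 zj10) (kj xj17 yj3 zj3) (kj xj17 yj3 zj4) (kj xj14 yj26 zj10) (kj xj15 yj0 zj11) (kj xj15 yj15 zj44) (kj xj17 yj2 zj39) (kj xj17 yj2 zj46) (kj xj15 yj1 zj13) (kj xj17 yj2 zj8) (kj xj15 yj1 zj9) (kj xj17 yj1 zj0) (kj xj17 yj1 zj1)) (@D3.rec (fun _ => Pt) (kj xj17 yj1 zj2) (kj xj17 yj1 zj3) (kj xj15 yj14 zj5) (kj xj15 yj1 zj45) (kj xj17 yj2 zj17) (kj xj15 yj16 zj6) (kj xj17 yj2 zj13) (kj xj15 yj14 zj36) (kj xj15 yj1 zj27) (kj xj15 yj1 zj25) (kj xj14 yj26 zj36) (kj xj14 yj26 zj37) (kj xj14 yj26 zj38) (kj xj14 yj26 zj39) (kj xj14 yj26 zj40) (kj xj16 yj25 zj27) (kj xj16 yj25 zj28) (kj xj17 yj3 zj26) (kj xj17 yj3 zj27) (kj xj17 yj3 zj28) (kj xj17 yj3 zj29) (kj xj17 yj3 zj30) (kj xj17 yj3 zj31) (kj xj15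 yj9 zj14) (kj xj15 yj9 zj23) (kj xj14 yj26 zj50) (kj xj15 yj0 zj1) (kj xj15 yj0 zj2) (kj xj15 yj0 zj4) (kj xj15 yj0 zj5) (kj xj15 yj14 zj9) (kj xj15 yj14 zj10) (kj xj15 yj14 zj11) (kj xj17 yj3 zj42) (kj xj17 yj3 zj43) (kj xj17 yj3 zj2) (kj xj17 yj3 zj44) (kj xj17 yj3 zj45) (kj xj16 yj22 zj13) (kj xj17 yj3 zj46) (kj xj17 yj3 zj47) (kj xj15 yj0 zj12) (kj xj15 yj0 zj14) (kj xj15 yj0 zj15) (kj xj15 yj14 zj13) (kj xj17 yj3 zj5) (kj xj16 yj22 zj44) (kj xj17 yj2 zj50) (kj xj16 yj22 zj21) (kj xj17 yj4 zj8) (kj xj17 yj2 zj48)) (@D3.rec (fun _ => Pt) (kj xj17 yj1 zj4) (kj xj15 yj15 zj9) (kj xj15 yj15 zj13) (kj xj15 yj15 zj14) (kj xj15 yj0 zj37) (kj xj15 yj0 zj38) (kj xj15 yj0 zj39) (kj xj15 yj0 zj41) (kj xj15 yj0 zj42) (kj xj15 yj0 zj43) (kj xj15 yj0 zj46) (kj xj15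 yj0 zj47) (kj xj15 yj2 zj20) (kj xj15 yj14 zj0) (kj xj15 yj14 zj1) (kj xj15 yj14 zj17) (kj xj15 yj14 zj18) (kj xj15 yj14 zj19) (kj xj15 yj14 zj20) (kj xj15 yj14 zj21) (kj xj15 yj14 zj22) (kj xj17 yj4 zj17) (kj xj17 yj4 zj18) (kj xj17 yj4 zj19) (kj xj17 yj4 zj20) (kj xj16 yj22 zj7) (kj xj17 yj4 zj21) (kj xj17 yj4 zj22) (kj xj17 yj4 zj23) (kj xj15 yj0 zj45) (kj xj17 yj4 zj43) (kj xj17 yj4 zj24) (kj xj17 yj4 zj25) (kj xj15 yj1 zj7) (kj xj15 yj1 zj8) (kj xj15 yj1 zj12) (kj xj15 yj14 zj25) (kj xj15 yj14 zj26) (kj xj15 yj14 zj27) (kj xj16 yj22 zj9) (kj xj17 yj4 zj48) (kj xj17 yj3 zj17) (kj xj17 yj3 zj16) (kj xj17 yj3 zj19) (kj xj15 yj1 zj11) (kj xj15 yj15 zj43) (kj xj17 yj3 zj18) (kj xj17 yj4 zj49) (kj xj17 yj3 zj14) (kj xj17 yj1 zj5) (kj xj16 yj22 zj10)) (@D3.rec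 (fun _ => Pt) (kj xj15 yj1 zj26) (kj xj15 yj14 zj35) (kj xj15 yj16 zj4) (kj xj17 yj3 zj25) (kj xj17 yj3 zj24) (kj xj15 yj1 zj40) (kj xj15 yj1 zj41) (kj xj15 yj1 zj42) (kj xj15 yj1 zj43) (kj xj15 yj2 zj21) (kj xj15 yj3 zj12) (kj xj15 yj14 zj31) (kj xj15 yj14 zj32) (kj xj15 yj14 zj33) (kj xj15 yj14 zj34) (kj xj17 yj5 zj12) (kj xj17 yj5 zj13) (kj xj16 yj24 zj19) (kj xj17 yj5 zj14) (kj xj17 yj3 zj21) (kj xj15 yj2 zj1) (kj xj15 yj2 zj2) (kj xj16 yj26 zj38) (kj xj17 yj0 zj33) (kj xj17 yj5 zj25) (kj xj15 yj2 zj5) (kj xj17 yj5 zj29) (kj xj15 yj16 zj8) (kj xj15 yj16 zj9) (kj xj15 yj2 zj12) (kj xj17 yj2 zj2) (kj xj17 yj5 zj31) (kj xj15 yj2 zj15) (kj xj17 yj2 zj15) (kj xj17 yj2 zj16) (kj xj15 yj2 zj22) (kj xj15 yj2 zj23) (kj xj15 yj2 zj24) (kj xj17 yj4 zj26) (kj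 xj17 yj5 zj15) (kj xj17 yj5 zj35) (kj xj17 yj5 zj36) (kj xj15 yj3 zj31) (kj xj15 yj16 zj13) (kj xj15 yj16 zj14) (kj xj15 yj2 zj30) (kj xj15 yj2 zj31) (kj xj17 yj5 zj43) (kj xj17 yj5 zj44) (kj xj15 yj2 zj34) (kj xj15 yj2 zj35)) (@D3.rec (fun _ => Pt) (kj xj17 yj5 zj47) (kj xj15 yj16 zj19) (kj xj15 yj16 zj20) (kj xj15 yj16 zj22) (kj xj15 yj16 zj23) (kj xj15 yj2 zj49) (kj xj15 yj3 zj1) (kj xj15 yj3 zj2) (kj xj15 yj17 zj5) (kj xj15 yj16 zj16) (kj xj15 yj16 zj12) (kj xj17 yj6 zj1) (kj xj15 yj3 zj0) (kj xj17 yj6 zj8) (kj xj17 yj6 zj2) (kj xj17 yj6 zj3) (kj xj15 yj3 zj8) (kj xj15 yj3 zj7) (kj xj17 yj6 zj14) (kj xj15 yj17 zj35) (kj xj17 yj6 zj13) (kj xj15 yj3 zj11) (kj xj17 yj5 zj16) (kj xj15 yj3 zj17) (kj xj15 yj3 zj15) (kj xj17 yj6 zj18) (kj xj15 yj19 zj47)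 (kj xj15 yj3 zj22) (kj xj15 yj3 zj23) (kj xj17 yj6 zj20) (kj xj15 yj16 zj31) (kj xj15 yj16 zj48) (kj xj15 yj3 zj32) (kj xj15 yj3 zj33) (kj xj15 yj3 zj34) (kj xj17 yj5 zj41) (kj xj17 yj6 zj23) (kj xj17 yj6 zj24) (kj xj17 yj6 zj25) (kj xj15 yj3 zj36) (kj xj15 yj3 zj41) (kj xj15 yj3 zj42) (kj xj15 yj3 zj43) (kj xj15 yj12 zj21) (kj xj15 yj12 zj23) (kj xj15 yj13 zj22) (kj xj17 yj6 zj30) (kj xj17 yj6 zj31) (kj xj15 yj16 zj34) (kj xj15 yj16 zj35) (kj xj15 yj17 zj2)) (@D3.rec (fun _ => Pt) (kj xj16 yj23 zj13) (kj xj15 yj3 zj49) (kj xj15 yj3 zj50) (kj xj17 yj6 zj40) (kj xj17 yj6 zj41) (kj xj16 yj23 zj23) (kj xj15 yj4 zj3) (kj xj15 yj4 zj4) (kj xj17 yj6 zj45) (kj xj17 yj6 zj46) (kj xj15 yj12 zj28) (kj xj15 yj17 zj8) (kj xj15 yj17 zj9) (kj xj15 yj17 zj10) (kj xj15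 yj17 zj11) (kj xj15 yj4 zj21) (kj xj15 yj4 zj23) (kj xj16 yj23 zj0) (kj xj15 yj4 zj24) (kj xj15 yj4 zj25) (kj xj16 yj23 zj33) (kj xj15 yj4 zj26) (kj xj15 yj4 zj27) (kj xj15 yj17 zj32) (kj xj15 yj18 zj6) (kj xj15 yj19 zj3) (kj xj15 yj17 zj50) (kj xj17 yj7 zj2) (kj xj15 yj18 zj0) (kj xj17 yj7 zj3) (kj xj17 yj7 zj5) (kj xj17 yj7 zj6) (kj xj17 yj7 zj8) (kj xj17 yj7 zj9) (kj xj16 yj23 zj1) (kj xj15 yj4 zj34) (kj xj15 yj4 zj35) (kj xj16 yj24 zj1) (kj xj15 yj4 zj36) (kj xj15 yj4 zj37) (kj xj17 yj7 zj23) (kj xj17 yj7 zj24) (kj xj17 yj7 zj26) (kj xj17 yj7 zj27) (kj xj16 yj24 zj11) (kj xj15 yj4 zj42) (kj xj15 yj4 zj43) (kj xj17 yj7 zj33) (kj xj15 yj5 zj0) (kj xj15 yj8 zj34) (kj xj15 yj19 zj44)) (@D3.rec (fun _ => Pt) (kj xj15 yj20 zj0) (kj xj15 yj19 zj50) (kj xj15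 yj11 zj42) (kj xj15 yj12 zj0) (kj xj15 yj5 zj10) (kj xj15 yj5 zj11) (kj xj15 yj5 zj13) (kj xj15 yj5 zj14) (kj xj15 yj5 zj15) (kj xj16 yj25 zj37) (kj xj15 yj5 zj17) (kj xj15 yj5 zj18) (kj xj15 yj10 zj28) (kj xj15 yj11 zj4) (kj xj15 yj5 zj38) (kj xj15 yj18 zj3) (kj xj17 yj7 zj38) (kj xj17 yj7 zj39) (kj xj15 yj12 zj18) (kj xj15 yj6 zj46) (kj xj15 yj12 zj19) (kj xj16 yj23 zj40) (kj xj17 yj7 zj40) (kj xj17 yj7 zj41) (kj xj17 yj7 zj42) (kj xj16 yj25 zj38) (kj xj17 yj7 zj44) (kj xj17 yj7 zj45) (kj xj15 yj17 zj38) (kj xj15 yj17 zj39) (kj xj16 yj25 zj24) (kj xj15 yj17 zj40) (kj xj15 yj17 zj41) (kj xj15 yj5 zj33) (kj xj15 yj5 zj34) (kj xj15 yj17 zj29) (kj xj15 yj5 zj39) (kj xj15 yj5 zj40) (kj xj15 yj5 zj29) (kj xj17 yj8 zj19) (kj xj15 yj5 zj43) (kj xj15 yj5 zj44)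 (kj xj15 yj17 zj16) (kj xj17 yj8 zj15) (kj xj15 yj12 zj24) (kj xj15 yj18 zj43) (kj xj15 yj17 zj47) (kj xj15 yj18 zj44) (kj xj17 yj7 zj48) (kj xj17 yj8 zj17) (kj xj17 yj8 zj18)) (@D3.rec (fun _ => Pt) (kj xj15 yj5 zj42) (kj xj17 yj8 zj32) (kj xj17 yj8 zj21) (kj xj17 yj8 zj22) (kj xj15 yj19 zj41) (kj xj15 yj6 zj4) (kj xj15 yj6 zj5) (kj xj15 yj5 zj50) (kj xj17 yj8 zj39) (kj xj15 yj6 zj8) (kj xj15 yj6 zj9) (kj xj15 yj6 zj3) (kj xj17 yj8 zj44) (kj xj17 yj8 zj38) (kj xj15 yj6 zj7) (kj xj17 yj8 zj46) (kj xj17 yj8 zj41) (kj xj17 yj8 zj42) (kj xj17 yj8 zj43) (kj xj15 yj6 zj11) (kj xj15 yj6 zj13) (kj xj17 yj9 zj0) (kj xj15 yj8 zj20) (kj xj15 yj8 zj18) (kj xj15 yj8 zj16) (kj xj17 yj2 zj29) (kj xj15 yj18 zj28) (kj xj15 yj18 zj29) (kj xj15 yj8 zj15) (kj xj17 yj2 zj40)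 (kj xj15 yj18 zj31) (kj xj15 yj18 zj32) (kj xj15 yj6 zj42) (kj xj15 yj6 zj43) (kj xj15 yj6 zj44) (kj xj15 yj6 zj45) (kj xj15 yj6 zj47) (kj xj15 yj6 zj48) (kj xj15 yj6 zj49) (kj xj17 yj2 zj30) (kj xj15 yj7 zj0) (kj xj15 yj7 zj1) (kj xj15 yj7 zj2) (kj xj15 yj7 zj3) (kj xj15 yj6 zj34) (kj xj17 yj9 zj19) (kj xj15 yj7 zj6) (kj xj15 yj7 zj7) (kj xj15 yj7 zj8) (kj xj15 yj6 zj39) (kj xj17 yj9 zj24)) (@D3.rec (fun _ => Pt) (kj xj15 yj7 zj11) (kj xj15 yj7 zj12) (kj xj17 yj9 zj10) (kj xj17 yj3 zj34) (kj xj17 yj9 zj11) (kj xj17 yj9 zj6) (kj xj17 yj8 zj2) (kj xj17 yj9 zj12) (kj xj17 yj9 zj13) (kj xj17 yj9 zj2) (kj xj15 yj6 zj50) (kj xj16 yj23 zj3) (kj xj17 yj9 zj37) (kj xj17 yj9 zj15) (kj xj17 yj9 zj16) (kj xj17 yj9 zj17) (kj xj17 yj9 zj18) (kj xj15 yj7 zj5) (kj xj17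 yj9 zj45) (kj xj17 yj9 zj21) (kj xj17 yj9 zj22) (kj xj17 yj9 zj23) (kj xj16 yj26 zj43) (kj xj15 yj7 zj10) (kj xj17 yj10 zj1) (kj xj17 yj9 zj26) (kj xj17 yj9 zj27) (kj xj17 yj9 zj28) (kj xj15 yj7 zj28) (kj xj15 yj7 zj29) (kj xj15 yj7 zj18) (kj xj17 yj10 zj8) (kj xj15 yj7 zj32) (kj xj15 yj7 zj33) (kj xj15 yj7 zj34) (kj xj15 yj7 zj23) (kj xj17 yj10 zj12) (kj xj15 yj7 zj38) (kj xj15 yj7 zj39) (kj xj15 yj7 zj40) (kj xj15 yj7 zj27) (kj xj17 yj10 zj18) (kj xj17 yj10 zj7) (kj xj15 yj7 zj31) (kj xj17 yj10 zj20) (kj xj17 yj10 zj10) (kj xj17 yj10 zj11) (kj xj17 yj0 zj37) (kj xj15 yj7 zj37) (kj xj17 yj10 zj24) (kj xj17 yj10 zj25)) (@D3.rec (fun _ => Pt) (kj xj17 yj10 zj15) (kj xj17 yj10 zj16) (kj xj17 yj10 zj17) (kj xj15 yj7 zj42) (kj xj15 yj7 zj44) (kj xj17 yj10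 zj30) (kj xj15 yj7 zj47) (kj xj15 yj7 zj50) (kj xj17 yj10 zj32) (kj xj17 yj10 zj33) (kj xj15 yj8 zj6) (kj xj15 yj8 zj7) (kj xj15 yj8 zj8) (kj xj15 yj8 zj4) (kj xj15 yj8 zj5) (kj xj17 yj10 zj40) (kj xj17 yj10 zj37) (kj xj17 yj10 zj38) (kj xj17 yj10 zj39) (kj xj15 yj8 zj17) (kj xj17 yj7 zj35) (kj xj16 yj24 zj18) (kj xj17 yj9 zj1) (kj xj16 yj23 zj37) (kj xj16 yj26 zj1) (kj xj15 yj13 zj23) (kj xj15 yj8 zj27) (kj xj15 yj8 zj30) (kj xj15 yj11 zj5) (kj xj15 yj11 zj3) (kj xj17 yj0 zj41) (kj xj15 yj12 zj20) (kj xj17 yj0 zj28) (kj xj15 yj17 zj17) (kj xj15 yj17 zj48) (kj xj16 yj24 zj17) (kj xj16 yj26 zj0) (kj xj16 yj23 zj36) (kj xj15 yj10 zj8) (kj xj15 yj9 zj24) (kj xj15 yj9 zj26) (kj xj15 yj8 zj48) (kj xj16 yj22 zj35) (kj xj15 yj14 zj12) (kj xj15 yj14 zj40) (kj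 xj17 yj11 zj5) (kj xj15 yj15 zj34) (kj xj16 yj22 zj14) (kj xj15 yj9 zj13) (kj xj15 yj9 zj16) (kj xj15 yj15 zj1)) (@D3.rec (fun _ => Pt) (kj xj17 yj1 zj49) (kj xj15 yj15 zj4) (kj xj16 yj23 zj29) (kj xj17 yj1 zj35) (kj xj15 yj15 zj5) (kj xj17 yj11 zj12) (kj xj17 yj3 zj41) (kj xj15 yj15 zj7) (kj xj17 yj11 zj13) (kj xj15 yj15 zj2) (kj xj15 yj15 zj8) (kj xj17 yj1 zj36) (kj xj15 yj15 zj6) (kj xj17 yj1 zj43) (kj xj15 yj10 zj9) (kj xj15 yj10 zj10) (kj xj15 yj10 zj11) (kj xj15 yj9 zj35) (kj xj17 yj11 zj30) (kj xj15 yj9 zj43) (kj xj16 yj26 zj35) (kj xj17 yj0 zj31) (kj xj16 yj26 zj39) (kj xj17 yj0 zj34) (kj xj16 yj26 zj44) (kj xj17 yj0 zj38) (kj xj17 yj11 zj32) (kj xj15 yj9 zj47) (kj xj15 yj9 zj48) (kj xj17 yj0 zj35) (kj xj17 yj0 zj39) (kj xj15 yj10 zj4) (kj xj15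 yj10 zj7) (kj xj17 yj11 zj40) (kj xj17 yj10 zj49) (kj xj17 yj11 zj27) (kj xj17 yj11 zj28) (kj xj17 yj11 zj29) (kj xj15 yj10 zj13) (kj xj15 yj18 zj45) (kj xj15 yj19 zj34) (kj xj15 yj19 zj0) (kj xj15 yj20 zj8) (kj xj16 yj25 zj3) (kj xj16 yj25 zj4) (kj xj15 yj10 zj29) (kj xj15 yj10 zj30) (kj xj15 yj10 zj31) (kj xj15 yj10 zj32) (kj xj15 yj10 zj33) (kj xj15 yj10 zj34)) (@D3.rec (fun _ => Pt) (kj xj15 yj10 zj35) (kj xj15 yj10 zj36) (kj xj15 yj10 zj37) (kj xj17 yj7 zj46) (kj xj17 yj12 zj1) (kj xj17 yj12 zj2) (kj xj17 yj12 zj3) (kj xj17 yj12 zj4) (kj xj17 yj12 zj5) (kj xj17 yj12 zj6) (kj xj17 yj12 zj7) (kj xj17 yj12 zj8) (kj xj17 yj12 zj9) (kj xj15 yj10 zj43) (kj xj15 yj10 zj44) (kj xj15 yj10 zj45) (kj xj15 yj10 zj46) (kj xj17 yj12 zj21) (kj xj17 yj12 zj22) (kj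 xj17 yj12 zj23) (kj xj15 yj20 zj5) (kj xj15 yj20 zj12) (kj xj15 yj11 zj6) (kj xj15 yj11 zj7) (kj xj15 yj11 zj8) (kj xj15 yj11 zj9) (kj xj17 yj7 zj47) (kj xj17 yj11 zj0) (kj xj17 yj12 zj28) (kj xj17 yj12 zj29) (kj xj17 yj12 zj30) (kj xj17 yj12 zj31) (kj xj15 yj11 zj13) (kj xj15 yj11 zj14) (kj xj17 yj12 zj38) (kj xj15 yj13 zj2) (kj xj15 yj18 zj1) (kj xj15 yj18 zj19) (kj xj15 yj18 zj5) (kj xj15 yj18 zj10) (kj xj15 yj18 zj23) (kj xj15 yj18 zj14) (kj xj16 yj23 zj16) (kj xj16 yj23 zj42) (kj xj16 yj24 zj21) (kj xj16 yj25 zj39) (kj xj15 yj11 zj32) (kj xj15 yj11 zj34) (kj xj15 yj11 zj35) (kj xj15 yj11 zj37) (kj xj15 yj11 zj38)) (@D3.rec (fun _ => Pt) (kj xj15 yj11 zj40) (kj xj15 yj11 zj41) (kj xj15 yj11 zj44) (kj xj17 yj13 zj0) (kj xj15 yj17 zj30) (kj xj17 yj13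 zj1) (kj xj17 yj13 zj2) (kj xj15 yj17 zj33) (kj xj17 yj13 zj3) (kj xj17 yj13 zj4) (kj xj15 yj17 zj34) (kj xj17 yj13 zj5) (kj xj17 yj13 zj6) (kj xj17 yj7 zj37) (kj xj15 yj17 zj36) (kj xj17 yj13 zj7) (kj xj15 yj11 zj49) (kj xj15 yj17 zj31) (kj xj16 yj23 zj41) (kj xj16 yj23 zj43) (kj xj16 yj24 zj22) (kj xj16 yj26 zj23) (kj xj16 yj26 zj24) (kj xj15 yj12 zj25) (kj xj15 yj12 zj26) (kj xj15 yj12 zj27) (kj xj15 yj12 zj29) (kj xj15 yj12 zj30) (kj xj15 yj12 zj31) (kj xj15 yj12 zj32) (kj xj15 yj12 zj35) (kj xj15 yj12 zj36) (kj xj15 yj12 zj37) (kj xj15 yj12 zj40) (kj xj15 yj12 zj41) (kj xj17 yj8 zj1) (kj xj17 yj8 zj3) (kj xj17 yj6 zj32) (kj xj17 yj2 zj31) (kj xj17 yj6 zj33) (kj xj17 yj8 zj25) (kj xj17 yj13 zj26) (kj xj17 yj13 zj27) (kj xj17 yj13 zj28) (kj xj17 yj6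 zj49) (kj xj17 yj13 zj29) (kj xj17 yj13 zj30) (kj xj17 yj13 zj31) (kj xj17 yj13 zj32) (kj xj15 yj12 zj34) (kj xj17 yj14 zj3)) (@D3.rec (fun _ => Pt) (kj xj17 yj13 zj33) (kj xj17 yj13 zj34) (kj xj17 yj13 zj35) (kj xj17 yj13 zj36) (kj xj15 yj12 zj39) (kj xj17 yj14 zj10) (kj xj17 yj13 zj37) (kj xj17 yj13 zj38) (kj xj15 yj13 zj0) (kj xj15 yj13 zj1) (kj xj15 yj13 zj3) (kj xj15 yj13 zj4) (kj xj15 yj13 zj7) (kj xj15 yj13 zj8) (kj xj17 yj14 zj14) (kj xj17 yj14 zj15) (kj xj17 yj12 zj40) (kj xj17 yj14 zj16) (kj xj15 yj13 zj6) (kj xj17 yj14 zj21) (kj xj17 yj14 zj17) (kj xj15 yj13 zj12) (kj xj15 yj13 zj14) (kj xj16 yj24 zj23) (kj xj15 yj13 zj24) (kj xj15 yj13 zj25) (kj xj15 yj13 zj26) (kj xj15 yj13 zj27) (kj xj15 yj13 zj28) (kj xj17 yj2 zj32) (kj xj17 yj6 zj34) (kj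 xj17 yj10 zj50) (kj xj17 yj14 zj24) (kj xj17 yj14 zj25) (kj xj17 yj14 zj26) (kj xj17 yj10 zj34) (kj xj15 yj14 zj4) (kj xj15 yj14 zj15) (kj xj15 yj14 zj29) (kj xj15 yj14 zj30) (kj xj15 yj14 zj23) (kj xj15 yj14 zj2) (kj xj17 yj4 zj27) (kj xj16 yj22 zj42) (kj xj17 yj14 zj33) (kj xj16 yj22 zj23) (kj xj16 yj22 zj46) (kj xj16 yj22 zj47) (kj xj16 yj22 zj24) (kj xj17 yj1 zj29) (kj xj17 yj3 zj48)) (@D3.rec (fun _ => Pt) (kj xj17 yj3 zj49) (kj xj17 yj3 zj50) (kj xj17 yj11 zj7) (kj xj17 yj4 zj9) (kj xj15 yj14 zj24) (kj xj17 yj1 zj28) (kj xj17 yj4 zj28) (kj xj17 yj4 zj29) (kj xj17 yj4 zj30) (kj xj17 yj4 zj31) (kj xj17 yj4 zj32) (kj xj17 yj4 zj33) (kj xj17 yj14 zj32) (kj xj17 yj14 zj46) (kj xj17 yj4 zj50) (kj xj17 yj5 zj0) (kj xj17 yj5 zj1) (kj xj17 yj3 zj13) (kj xj17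 yj5 zj17) (kj xj17 yj5 zj18) (kj xj17 yj5 zj19) (kj xj17 yj5 zj9) (kj xj17 yj3 zj22) (kj xj15 yj18 zj30) (kj xj16 yj22 zj29) (kj xj16 yj22 zj32) (kj xj17 yj11 zj8) (kj xj17 yj3 zj0) (kj xj15 yj14 zj48) (kj xj16 yj22 zj38) (kj xj16 yj22 zj43) (kj xj17 yj15 zj18) (kj xj16 yj22 zj22) (kj xj16 yj22 zj25) (kj xj17 yj11 zj14) (kj xj17 yj11 zj24) (kj xj16 yj24 zj45) (kj xj17 yj11 zj16) (kj xj17 yj11 zj19) (kj xj17 yj11 zj26) (kj xj17 yj11 zj22) (kj xj16 yj22 zj33) (kj xj17 yj4 zj12) (kj xj17 yj2 zj0) (kj xj17 yj2 zj1) (kj xj17 yj4 zj15) (kj xj17 yj4 zj16) (kj xj15 yj15 zj24) (kj xj15 yj15 zj25) (kj xj15 yj15 zj30) (kj xj15 yj15 zj31)) (@D3.rec (fun _ => Pt) (kj xj15 yj15 zj35) (kj xj17 yj2 zj5) (kj xj17 yj2 zj9) (kj xj16 yj24 zj40) (kj xj16 yj22 zj26) (kj xj17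 yj15 zj36) (kj xj17 yj15 zj37) (kj xj16 yj25 zj0) (kj xj16 yj25 zj10) (kj xj16 yj22 zj8) (kj xj16 yj22 zj27) (kj xj17 yj15 zj38) (kj xj17 yj15 zj39) (kj xj17 yj5 zj7) (kj xj15 yj15 zj33) (kj xj17 yj16 zj2) (kj xj17 yj11 zj10) (kj xj17 yj15 zj40) (kj xj16 yj22 zj41) (kj xj17 yj3 zj7) (kj xj17 yj2 zj14) (kj xj15 yj16 zj0) (kj xj17 yj2 zj12) (kj xj16 yj24 zj43) (kj xj16 yj24 zj44) (kj xj16 yj22 zj45) (kj xj16 yj25 zj2) (kj xj16 yj25 zj14) (kj xj17 yj3 zj23) (kj xj17 yj2 zj23) (kj xj17 yj5 zj30) (kj xj15 yj16 zj11) (kj xj17 yj16 zj14) (kj xj17 yj6 zj6) (kj xj17 yj5 zj42) (kj xj15 yj16 zj17) (kj xj17 yj6 zj5) (kj xj17 yj16 zj18) (kj xj16 yj24 zj37) (kj xj17 yj5 zj49) (kj xj17 yj1 zj37) (kj xj17 yj5 zj50) (kj xj17 yj6 zj0) (kj xj15 yj16 zj36) (kj xj15 yj16 zj37)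 (kj xj15 yj16 zj38) (kj xj15 yj16 zj39) (kj xj15 yj16 zj40) (kj xj15 yj16 zj41) (kj xj17 yj6 zj22) (kj xj15 yj16 zj42)) (@D3.rec (fun _ => Pt) (kj xj15 yj16 zj43) (kj xj17 yj6 zj37) (kj xj17 yj6 zj38) (kj xj17 yj16 zj26) (kj xj17 yj16 zj27) (kj xj17 yj16 zj28) (kj xj17 yj16 zj29) (kj xj17 yj16 zj30) (kj xj17 yj16 zj31) (kj xj17 yj16 zj33) (kj xj17 yj16 zj34) (kj xj15 yj16 zj49) (kj xj15 yj16 zj50) (kj xj15 yj17 zj0) (kj xj17 yj16 zj46) (kj xj17 yj16 zj47) (kj xj16 yj23 zj38) (kj xj16 yj23 zj39) (kj xj17 yj6 zj4) (kj xj15 yj17 zj7) (kj xj17 yj17 zj1) (kj xj17 yj6 zj50) (kj xj17 yj7 zj0) (kj xj17 yj7 zj1) (kj xj15 yj17 zj19) (kj xj15 yj17 zj22) (kj xj15 yj17 zj23) (kj xj17 yj8 zj23) (kj xj16 yj26 zj40) (kj xj17 yj17 zj6) (kj xj16 yj26 zj3) (kj xj16 yj26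 zj47) (kj xj17 yj17 zj7) (kj xj17 yj17 zj8) (kj xj15 yj18 zj47) (kj xj15 yj19 zj24) (kj xj17 yj8 zj16) (kj xj17 yj13 zj9) (kj xj17 yj0 zj15) (kj xj17 yj7 zj10) (kj xj17 yj13 zj12) (kj xj17 yj13 zj15) (kj xj17 yj6 zj16) (kj xj17 yj13 zj19) (kj xj16 yj25 zj48) (kj xj17 yj8 zj11) (kj xj17 yj8 zj13) (kj xj17 yj8 zj14) (kj xj15 yj18 zj2) (kj xj15 yj18 zj7) (kj xj15 yj18 zj11)) (@D3.rec (fun _ => Pt) (kj xj15 yj18 zj15) (kj xj17 yj8 zj27) (kj xj16 yj25 zj45) (kj xj17 yj7 zj13) (kj xj17 yj7 zj15) (kj xj17 yj12 zj41) (kj xj17 yj17 zj31) (kj xj16 yj23 zj2) (kj xj17 yj7 zj49) (kj xj16 yj24 zj48) (kj xj17 yj12 zj43) (kj xj17 yj7 zj11) (kj xj17 yj17 zj32) (kj xj15 yj18 zj9) (kj xj17 yj17 zj47) (kj xj17 yj12 zj44) (kj xj17 yj17 zj33) (kj xj15 yj18 zj13) (kj xj17 yj18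 zj1) (kj xj17 yj12 zj46) (kj xj17 yj17 zj34) (kj xj15 yj18 zj20) (kj xj17 yj12 zj42) (kj xj17 yj18 zj5) (kj xj15 yj18 zj22) (kj xj17 yj18 zj8) (kj xj17 yj12 zj45) (kj xj15 yj18 zj27) (kj xj17 yj9 zj4) (kj xj17 yj9 zj5) (kj xj17 yj15 zj13) (kj xj17 yj9 zj8) (kj xj17 yj9 zj9) (kj xj15 yj18 zj48) (kj xj15 yj18 zj49) (kj xj15 yj19 zj4) (kj xj15 yj19 zj7) (kj xj15 yj19 zj8) (kj xj15 yj19 zj9) (kj xj15 yj19 zj10) (kj xj15 yj18 zj40) (kj xj17 yj18 zj25) (kj xj15 yj19 zj13) (kj xj15 yj19 zj14) (kj xj17 yj8 zj26) (kj xj17 yj8 zj28) (kj xj17 yj11 zj46) (kj xj17 yj17 zj16) (kj xj17 yj18 zj16) (kj xj17 yj18 zj17) (kj xj16 yj23 zj4)) (@D3.rec (fun _ => Pt) (kj xj17 yj11 zj48) (kj xj16 yj24 zj49) (kj xj16 yj25 zj6) (kj xj17 yj7 zj12) (kj xj17 yj18 zj18) (kj xj15 yj19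 zj6) (kj xj17 yj18 zj42) (kj xj17 yj18 zj19) (kj xj17 yj18 zj20) (kj xj17 yj18 zj21) (kj xj17 yj18 zj22) (kj xj17 yj18 zj23) (kj xj15 yj19 zj12) (kj xj17 yj19 zj0) (kj xj17 yj18 zj27) (kj xj17 yj18 zj28) (kj xj15 yj19 zj23) (kj xj15 yj19 zj25) (kj xj15 yj19 zj26) (kj xj15 yj19 zj29) (kj xj15 yj19 zj30) (kj xj17 yj11 zj47) (kj xj17 yj17 zj17) (kj xj17 yj19 zj3) (kj xj17 yj19 zj4) (kj xj15 yj19 zj28) (kj xj17 yj19 zj9) (kj xj17 yj19 zj5) (kj xj15 yj19 zj32) (kj xj16 yj24 zj20) (kj xj15 yj19 zj42) (kj xj15 yj19 zj45) (kj xj15 yj19 zj46) (kj xj15 yj20 zj19) (kj xj17 yj8 zj37) (kj xj17 yj11 zj39) (kj xj16 yj24 zj14) (kj xj17 yj0 zj40) (kj xj17 yj7 zj36) (kj xj17 yj19 zj10) (kj xj17 yj6 zj19) (kj xj16 yj26 zj12) (kj xj17 yj12 zj26) (kj xj15 yj20 zj23) (kj xj16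 yj23 zj5) (kj xj17 yj11 zj49) (kj xj16 yj24 zj50) (kj xj16 yj25 zj7) (kj xj17 yj12 zj27) (kj xj15 yj20 zj22) (kj xj15 yj20 zj21)) (@D3.rec (fun _ => Pt) (kj xj15 yj20 zj20) (kj xj17 yj19 zj11) (kj xj17 yj19 zj23) (kj xj16 yj24 zj10) (kj xj15 yj20 zj43) (kj xj15 yj21 zj13) (kj xj15 yj21 zj43) (kj xj16 yj5 zj25) (kj xj16 yj18 zj9) (kj xj16 yj5 zj39) (kj xj16 yj5 zj50) (kj xj15 yj20 zj50) (kj xj15 yj21 zj0) (kj xj16 yj4 zj38) (kj xj16 yj12 zj47) (kj xj17 yj19 zj27) (kj xj17 yj19 zj28) (kj xj15 yj21 zj9) (kj xj15 yj21 zj40) (kj xj15 yj21 zj25) (kj xj15 yj21 zj28) (kj xj16 yj4 zj48) (kj xj16 yj17 zj32) (kj xj16 yj16 zj45) (kj xj16 yj16 zj48) (kj xj16 yj17 zj33) (kj xj16 yj18 zj4) (kj xj16 yj18 zj10) (kj xj15 yj21 zj24) (kj xj16 yj17 zj24) (kj xj17 yj19 zj39)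 (kj xj17 yj19 zj33) (kj xj16 yj17 zj25) (kj xj16 yj17 zj41) (kj xj15 yj21 zj35) (kj xj16 yj12 zj42) (kj xj15 yj21 zj33) (kj xj17 yj19 zj46) (kj xj16 yj17 zj29) (kj xj17 yj19 zj44) (kj xj15 yj21 zj37) (kj xj16 yj18 zj18) (kj xj16 yj16 zj43) (kj xj16 yj17 zj30) (kj xj16 yj4 zj46) (kj xj16 yj18 zj25) (kj xj16 yj16 zj46) (kj xj16 yj16 zj47) (kj xj15 yj22 zj2) (kj xj15 yj22 zj3) (kj xj15 yj22 zj4)) (@D3.rec (fun _ => Pt) (kj xj16 yj8 zj17) (kj xj16 yj8 zj34) (kj xj16 yj20 zj7) (kj xj16 yj11 zj11) (kj xj16 yj20 zj50) (kj xj16 yj21 zj44) (kj xj17 yj20 zj5) (kj xj17 yj20 zj6) (kj xj15 yj23 zj49) (kj xj15 yj23 zj50) (kj xj15 yj22 zj12) (kj xj15 yj22 zj13) (kj xj15 yj22 zj14) (kj xj16 yj8 zj0) (kj xj15 yj22 zj15) (kj xj15 yj22 zj16) (kj xj16 yj14 zj42) (kj xj17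 yj20 zj16) (kj xj17 yj20 zj17) (kj xj17 yj20 zj18) (kj xj17 yj20 zj20) (kj xj17 yj20 zj21) (kj xj15 yj22 zj21) (kj xj16 yj8 zj5) (kj xj15 yj22 zj22) (kj xj15 yj22 zj23) (kj xj17 yj20 zj28) (kj xj17 yj20 zj30) (kj xj17 yj20 zj31) (kj xj16 yj13 zj2) (kj xj15 yj22 zj40) (kj xj15 yj22 zj41) (kj xj15 yj22 zj42) (kj xj16 yj8 zj20) (kj xj15 yj22 zj43) (kj xj15 yj22 zj44) (kj xj16 yj12 zj37) (kj xj16 yj12 zj23) (kj xj16 yj19 zj16) (kj xj16 yj19 zj17) (kj xj16 yj9 zj21) (kj xj16 yj15 zj18) (kj xj16 yj14 zj43) (kj xj16 yj15 zj19) (kj xj17 yj20 zj36) (kj xj17 yj20 zj37) (kj xj17 yj20 zj38) (kj xj17 yj20 zj40) (kj xj17 yj20 zj41) (kj xj15 yj23 zj1) (kj xj15 yj23 zj2)) (@D3.rec (fun _ => Pt) (kj xj15 yj23 zj3) (kj xj16 yj8 zj37) (kj xj15 yj23 zj4) (kj xj15 yj23 zj5)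 (kj xj17 yj21 zj6) (kj xj17 yj21 zj7) (kj xj17 yj21 zj8) (kj xj17 yj21 zj9) (kj xj17 yj21 zj11) (kj xj17 yj21 zj12) (kj xj16 yj22 zj3) (kj xj16 yj8 zj44) (kj xj15 yj23 zj12) (kj xj15 yj23 zj13) (kj xj16 yj21 zj36) (kj xj17 yj21 zj20) (kj xj15 yj23 zj23) (kj xj16 yj12 zj35) (kj xj16 yj12 zj21) (kj xj16 yj6 zj17) (kj xj16 yj21 zj29) (kj xj16 yj14 zj44) (kj xj16 yj15 zj20) (kj xj16 yj16 zj23) (kj xj17 yj21 zj23) (kj xj15 yj23 zj25) (kj xj15 yj23 zj28) (kj xj15 yj23 zj29) (kj xj17 yj21 zj31) (kj xj16 yj1 zj36) (kj xj16 yj1 zj37) (kj xj16 yj1 zj38) (kj xj16 yj1 zj39) (kj xj16 yj1 zj40) (kj xj15 yj23 zj39) (kj xj15 yj23 zj40) (kj xj15 yj23 zj42) (kj xj16 yj18 zj38) (kj xj17 yj21 zj37) (kj xj17 yj21 zj38) (kj xj16 yj18 zj3) (kj xj17 yj21 zj39) (kj xj15 yj23 zj44)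 (kj xj16 yj18 zj23) (kj xj16 yj18 zj24) (kj xj16 yj17 zj36) (kj xj17 yj20 zj15) (kj xj15 yj24 zj6) (kj xj16 yj20 zj9) (kj xj16 yj21 zj1) (kj xj16 yj21 zj46)) (@D3.rec (fun _ => Pt) (kj xj16 yj18 zj7) (kj xj17 yj21 zj48) (kj xj16 yj18 zj26) (kj xj16 yj13 zj43) (kj xj16 yj13 zj44) (kj xj15 yj24 zj19) (kj xj16 yj21 zj2) (kj xj16 yj21 zj47) (kj xj15 yj24 zj17) (kj xj17 yj22 zj9) (kj xj16 yj18 zj8) (kj xj17 yj22 zj6) (kj xj15 yj24 zj21) (kj xj17 yj22 zj14) (kj xj16 yj18 zj27) (kj xj15 yj24 zj24) (kj xj15 yj24 zj26) (kj xj17 yj22 zj16) (kj xj15 yj24 zj37) (kj xj15 yj24 zj38) (kj xj15 yj24 zj39) (kj xj15 yj24 zj40) (kj xj15 yj24 zj41) (kj xj15 yj24 zj42) (kj xj16 yj9 zj30) (kj xj15 yj24 zj43) (kj xj15 yj24 zj44) (kj xj16 yj4 zj15) (kj xj16 yj4 zj16) (kj xj17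 yj22 zj17) (kj xj17 yj22 zj18) (kj xj17 yj22 zj19) (kj xj17 yj22 zj20) (kj xj17 yj22 zj21) (kj xj17 yj22 zj22) (kj xj17 yj22 zj24) (kj xj17 yj22 zj25) (kj xj16 yj9 zj9) (kj xj16 yj9 zj25) (kj xj16 yj14 zj45) (kj xj15 yj25 zj6) (kj xj15 yj25 zj7) (kj xj15 yj25 zj10) (kj xj15 yj25 zj12) (kj xj15 yj25 zj13) (kj xj16 yj20 zj2) (kj xj15 yj25 zj16) (kj xj15 yj25 zj17) (kj xj16 yj19 zj44) (kj xj17 yj22 zj39) (kj xj17 yj22 zj40)) (@D3.rec (fun _ => Pt) (kj xj16 yj12 zj36) (kj xj16 yj12 zj24) (kj xj17 yj22 zj41) (kj xj16 yj19 zj30) (kj xj17 yj22 zj42) (kj xj17 yj22 zj43) (kj xj15 yj25 zj15) (kj xj17 yj23 zj6) (kj xj17 yj22 zj45) (kj xj17 yj22 zj46) (kj xj15 yj25 zj23) (kj xj15 yj25 zj25) (kj xj16 yj21 zj41) (kj xj15 yj25 zj28) (kj xj15 yj25 zj29) (kj xj17 yj23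 zj11) (kj xj15 yj25 zj27) (kj xj17 yj23 zj15) (kj xj17 yj23 zj13) (kj xj17 yj23 zj14) (kj xj15 yj25 zj31) (kj xj15 yj25 zj32) (kj xj17 yj23 zj18) (kj xj16 yj15 zj21) (kj xj16 yj15 zj22) (kj xj15 yj25 zj46) (kj xj15 yj25 zj47) (kj xj15 yj26 zj0) (kj xj15 yj26 zj1) (kj xj15 yj26 zj7) (kj xj15 yj26 zj8) (kj xj15 yj25 zj42) (kj xj17 yj23 zj29) (kj xj15 yj26 zj11) (kj xj15 yj26 zj12) (kj xj16 yj13 zj20) (kj xj17 yj23 zj22) (kj xj17 yj23 zj23) (kj xj16 yj6 zj22) (kj xj16 yj13 zj22) (kj xj16 yj19 zj28) (kj xj17 yj23 zj24) (kj xj17 yj23 zj25) (kj xj16 yj11 zj22) (kj xj16 yj13 zj24) (kj xj15 yj26 zj5) (kj xj17 yj23 zj46) (kj xj16 yj19 zj31) (kj xj17 yj23 zj26) (kj xj17 yj23 zj27) (kj xj17 yj23 zj28))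
def f_j_17 : D2 → D3 → Pt := @D2.rec (fun _ => D3 → Pt) (@D3.rec (fun _ => Pt) (kj xj15 yj26 zj10) (kj xj17 yj24 zj2) (kj xj17 yj23 zj31) (kj xj17 yj23 zj32) (kj xj17 yj23 zj33) (kj xj15 yj26 zj20) (kj xj15 yj26 zj22) (kj xj15 yj26 zj25) (kj xj15 yj26 zj17) (kj xj17 yj24 zj10) (kj xj15 yj26 zj28) (kj xj15 yj26 zj29) (kj xj15 yj26 zj30) (kj xj17 yj24 zj8) (kj xj15 yj26 zj24) (kj xj16 yj19 zj38) (kj xj15 yj26 zj27) (kj xj17 yj24 zj14) (kj xj17 yj24 zj12) (kj xj17 yj24 zj13) (kj xj15 yj26 zj35) (kj xj17 yj24 zj17) (kj xj15 yj26 zj42) (kj xj15 yj26 zj43) (kj xj15 yj26 zj40) (kj xj15 yj26 zj41) (kj xj17 yj24 zj20) (kj xj17 yj24 zj19) (kj xj16 yj12 zj32) (kj xj16 yj0 zj2) (kj xj16 yj0 zj6) (kj xj16 yj13 zj21) (kj xj16 yj0 zj9) (kj xj16 yj6 zj23) (kj xj16 yj13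 zj23) (kj xj16 yj13 zj29) (kj xj17 yj24 zj21) (kj xj16 yj11 zj47) (kj xj16 yj13 zj25) (kj xj16 yj13 zj30) (kj xj16 yj21 zj37) (kj xj16 yj12 zj30) (kj xj16 yj1 zj21) (kj xj16 yj1 zj22) (kj xj16 yj2 zj5) (kj xj16 yj2 zj6) (kj xj16 yj2 zj8) (kj xj16 yj2 zj9) (kj xj16 yj3 zj23) (kj xj16 yj3 zj24) (kj xj16 yj3 zj25)) (@D3.rec (fun _ => Pt) (kj xj16 yj3 zj49) (kj xj16 yj3 zj50) (kj xj16 yj4 zj0) (kj xj16 yj4 zj1) (kj xj16 yj5 zj0) (kj xj16 yj5 zj49) (kj xj16 yj1 zj7) (kj xj16 yj1 zj8) (kj xj17 yj24 zj29) (kj xj16 yj1 zj15) (kj xj16 yj1 zj16) (kj xj16 yj1 zj49) (kj xj16 yj2 zj3) (kj xj16 yj1 zj46) (kj xj17 yj24 zj31) (kj xj16 yj2 zj4) (kj xj16 yj1 zj47) (kj xj16 yj2 zj1) (kj xj16 yj2 zj36) (kj xj16 yj2 zj37) (kj xj16 yj1 zj30) (kj xj16 yj2 zj19) (kj xj16 yj2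 zj24) (kj xj16 yj2 zj16) (kj xj17 yj24 zj38) (kj xj16 yj2 zj17) (kj xj16 yj2 zj34) (kj xj16 yj2 zj30) (kj xj16 yj17 zj5) (kj xj16 yj16 zj49) (kj xj17 yj21 zj33) (kj xj17 yj21 zj34) (kj xj17 yj21 zj35) (kj xj17 yj21 zj36) (kj xj16 yj1 zj50) (kj xj16 yj13 zj3) (kj xj16 yj13 zj11) (kj xj16 yj18 zj40) (kj xj17 yj24 zj34) (kj xj17 yj24 zj36) (kj xj16 yj2 zj43) (kj xj17 yj24 zj32) (kj xj17 yj24 zj50) (kj xj16 yj13 zj13) (kj xj16 yj3 zj22) (kj xj16 yj2 zj44) (kj xj17 yj24 zj33) (kj xj16 yj3 zj20) (kj xj16 yj2 zj47) (kj xj16 yj13 zj0) (kj xj16 yj2 zj20)) (@D3.rec (fun _ => Pt) (kj xj16 yj17 zj43) (kj xj16 yj17 zj44) (kj xj16 yj6 zj30) (kj xj17 yj24 zj41) (kj xj17 yj24 zj43) (kj xj16 yj18 zj1) (kj xj17 yj24 zj39) (kj xj17 yj25 zj13) (kj xj16 yj3 zj47) (kj xj16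 yj18 zj2) (kj xj16 yj3 zj38) (kj xj17 yj24 zj40) (kj xj16 yj18 zj22) (kj xj16 yj4 zj6) (kj xj16 yj18 zj20) (kj xj16 yj6 zj33) (kj xj16 yj6 zj34) (kj xj16 yj4 zj4) (kj xj17 yj24 zj37) (kj xj16 yj2 zj45) (kj xj16 yj3 zj1) (kj xj16 yj3 zj14) (kj xj16 yj3 zj21) (kj xj16 yj18 zj29) (kj xj17 yj25 zj5) (kj xj17 yj25 zj9) (kj xj17 yj25 zj28) (kj xj16 yj3 zj2) (kj xj16 yj3 zj3) (kj xj16 yj10 zj25) (kj xj16 yj10 zj39) (kj xj16 yj15 zj38) (kj xj16 yj16 zj29) (kj xj17 yj25 zj29) (kj xj17 yj25 zj35) (kj xj16 yj3 zj12) (kj xj16 yj3 zj13) (kj xj16 yj3 zj15) (kj xj16 yj3 zj36) (kj xj16 yj3 zj44) (kj xj16 yj10 zj29) (kj xj16 yj3 zj34) (kj xj17 yj25 zj42) (kj xj17 yj25 zj10) (kj xj17 yj25 zj30) (kj xj17 yj25 zj43) (kj xj16 yj3 zj45) (kj xj16 yj3 zj35) (kj xj16 yj4 zj50)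 (kj xj17 yj25 zj8) (kj xj16 yj4 zj47)) (@D3.rec (fun _ => Pt) (kj xj16 yj17 zj27) (kj xj16 yj3 zj37) (kj xj16 yj4 zj35) (kj xj16 yj3 zj39) (kj xj16 yj3 zj40) (kj xj16 yj4 zj45) (kj xj17 yj25 zj47) (kj xj16 yj18 zj19) (kj xj17 yj25 zj44) (kj xj17 yj26 zj5) (kj xj17 yj25 zj25) (kj xj17 yj26 zj7) (kj xj17 yj26 zj8) (kj xj16 yj17 zj17) (kj xj16 yj5 zj48) (kj xj17 yj25 zj45) (kj xj16 yj5 zj42) (kj xj16 yj5 zj41) (kj xj16 yj5 zj46) (kj xj16 yj5 zj43) (kj xj17 yj25 zj19) (kj xj16 yj6 zj19) (kj xj16 yj17 zj22) (kj xj16 yj18 zj28) (kj xj16 yj6 zj4) (kj xj16 yj6 zj3) (kj xj16 yj4 zj17) (kj xj16 yj4 zj18) (kj xj16 yj4 zj19) (kj xj16 yj4 zj20) (kj xj16 yj4 zj21) (kj xj16 yj4 zj22) (kj xj17 yj22 zj26) (kj xj17 yj22 zj27) (kj xj16 yj11 zj3) (kj xj17 yj26 zj27) (kj xj17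 yj26 zj28) (kj xj17 yj26 zj29) (kj xj17 yj26 zj30) (kj xj17 yj26 zj31) (kj xj17 yj26 zj32) (kj xj16 yj13 zj6) (kj xj16 yj4 zj33) (kj xj16 yj4 zj34) (kj xj16 yj4 zj36) (kj xj16 yj4 zj37) (kj xj16 yj4 zj39) (kj xj16 yj4 zj40) (kj xj16 yj16 zj50) (kj xj16 yj17 zj0) (kj xj16 yj17 zj1)) (@D3.rec (fun _ => Pt) (kj xj17 yj26 zj43) (kj xj17 yj26 zj44) (kj xj17 yj26 zj6) (kj xj17 yj26 zj45) (kj xj17 yj26 zj46) (kj xj17 yj19 zj29) (kj xj17 yj26 zj47) (kj xj17 yj26 zj48) (kj xj16 yj4 zj49) (kj xj16 yj17 zj3) (kj xj17 yj20 zj1) (kj xj17 yj26 zj2) (kj xj16 yj17 zj42) (kj xj17 yj26 zj1) (kj xj18 yj0 zj11) (kj xj16 yj17 zj45) (kj xj16 yj17 zj46) (kj xj16 yj5 zj21) (kj xj16 yj5 zj22) (kj xj16 yj5 zj23) (kj xj16 yj5 zj24) (kj xj16 yj5 zj26) (kj xj16 yj5 zj27) (kj xj16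 yj5 zj28) (kj xj16 yj5 zj31) (kj xj16 yj5 zj32) (kj xj16 yj6 zj38) (kj xj16 yj16 zj42) (kj xj16 yj17 zj6) (kj xj16 yj17 zj7) (kj xj16 yj17 zj8) (kj xj16 yj17 zj9) (kj xj16 yj17 zj10) (kj xj16 yj17 zj11) (kj xj18 yj0 zj18) (kj xj18 yj0 zj19) (kj xj18 yj0 zj20) (kj xj18 yj0 zj21) (kj xj17 yj19 zj24) (kj xj18 yj0 zj22) (kj xj18 yj0 zj23) (kj xj18 yj0 zj24) (kj xj17 yj26 zj23) (kj xj16 yj5 zj30) (kj xj18 yj0 zj49) (kj xj18 yj0 zj25) (kj xj18 yj0 zj26) (kj xj18 yj0 zj27) (kj xj16 yj5 zj40) (kj xj16 yj5 zj47) (kj xj16 yj17 zj14)) (@D3.rec (fun _ => Pt) (kj xj16 yj17 zj15) (kj xj16 yj17 zj16) (kj xj17 yj19 zj26) (kj xj17 yj26 zj22) (kj xj18 yj1 zj4) (kj xj17 yj26 zj20) (kj xj17 yj26 zj19) (kj xj16 yj18 zj13) (kj xj17 yj26 zj15) (kj xj16 yj17 zj21) (kj xj17 yj26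 zj26) (kj xj17 yj24 zj18) (kj xj16 yj6 zj15) (kj xj16 yj6 zj16) (kj xj16 yj6 zj18) (kj xj16 yj6 zj39) (kj xj16 yj7 zj22) (kj xj16 yj17 zj18) (kj xj16 yj17 zj19) (kj xj16 yj17 zj20) (kj xj18 yj1 zj14) (kj xj17 yj21 zj25) (kj xj18 yj1 zj15) (kj xj17 yj21 zj26) (kj xj17 yj26 zj24) (kj xj16 yj6 zj24) (kj xj17 yj23 zj37) (kj xj17 yj24 zj24) (kj xj18 yj1 zj24) (kj xj16 yj6 zj26) (kj xj16 yj18 zj30) (kj xj16 yj6 zj31) (kj xj17 yj25 zj16) (kj xj18 yj1 zj29) (kj xj17 yj25 zj26) (kj xj16 yj6 zj40) (kj xj16 yj6 zj41) (kj xj18 yj0 zj28) (kj xj18 yj1 zj16) (kj xj18 yj1 zj33) (kj xj18 yj1 zj34) (kj xj16 yj7 zj35) (kj xj16 yj18 zj34) (kj xj16 yj6 zj47) (kj xj16 yj6 zj48) (kj xj18 yj1 zj41) (kj xj18 yj1 zj42) (kj xj16 yj7 zj0) (kj xj18 yj1 zj46) (kj xj16 yj18 zj39) (kj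 xj16 yj18 zj41)) (@D3.rec (fun _ => Pt) (kj xj16 yj18 zj42) (kj xj16 yj7 zj11) (kj xj16 yj7 zj14) (kj xj16 yj7 zj15) (kj xj16 yj19 zj18) (kj xj16 yj18 zj36) (kj xj16 yj18 zj33) (kj xj18 yj1 zj50) (kj xj16 yj7 zj13) (kj xj18 yj2 zj7) (kj xj18 yj2 zj0) (kj xj18 yj2 zj1) (kj xj18 yj2 zj2) (kj xj16 yj7 zj20) (kj xj16 yj7 zj18) (kj xj18 yj2 zj13) (kj xj16 yj19 zj42) (kj xj17 yj20 zj4) (kj xj16 yj7 zj25) (kj xj16 yj21 zj40) (kj xj16 yj7 zj29) (kj xj18 yj2 zj17) (kj xj16 yj18 zj49) (kj xj16 yj7 zj36) (kj xj16 yj7 zj37) (kj xj16 yj7 zj38) (kj xj18 yj1 zj39) (kj xj18 yj2 zj20) (kj xj18 yj2 zj21) (kj xj18 yj2 zj22) (kj xj16 yj7 zj46) (kj xj16 yj7 zj47) (kj xj16 yj15 zj37) (kj xj16 yj15 zj39) (kj xj16 yj16 zj30) (kj xj18 yj2 zj27) (kj xj18 yj2 zj28) (kj xj16 yj19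 zj1) (kj xj16 yj19 zj2) (kj xj17 yj20 zj19) (kj xj16 yj8 zj3) (kj xj16 yj8 zj4) (kj xj18 yj2 zj37) (kj xj18 yj2 zj38) (kj xj17 yj20 zj29) (kj xj16 yj8 zj8) (kj xj16 yj8 zj9) (kj xj18 yj2 zj43) (kj xj18 yj2 zj44) (kj xj16 yj15 zj44) (kj xj16 yj19 zj21)) (@D3.rec (fun _ => Pt) (kj xj16 yj19 zj22) (kj xj16 yj19 zj23) (kj xj16 yj8 zj27) (kj xj16 yj8 zj29) (kj xj17 yj20 zj7) (kj xj16 yj8 zj30) (kj xj16 yj8 zj31) (kj xj17 yj20 zj39) (kj xj16 yj8 zj32) (kj xj16 yj8 zj33) (kj xj16 yj19 zj39) (kj xj16 yj20 zj11) (kj xj16 yj21 zj3) (kj xj16 yj20 zj3) (kj xj18 yj2 zj50) (kj xj16 yj20 zj4) (kj xj18 yj3 zj0) (kj xj18 yj3 zj2) (kj xj18 yj3 zj3) (kj xj18 yj3 zj5) (kj xj18 yj3 zj6) (kj xj18 yj3 zj7) (kj xj17 yj20 zj8) (kj xj16 yj8 zj40) (kj xj16 yj8 zj41) (kj xj17 yj21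 zj10) (kj xj16 yj8 zj42) (kj xj16 yj8 zj43) (kj xj18 yj3 zj22) (kj xj18 yj3 zj23) (kj xj18 yj3 zj26) (kj xj17 yj21 zj18) (kj xj17 yj21 zj19) (kj xj16 yj8 zj47) (kj xj18 yj1 zj23) (kj xj16 yj12 zj20) (kj xj16 yj21 zj38) (kj xj16 yj15 zj13) (kj xj16 yj9 zj16) (kj xj16 yj9 zj17) (kj xj16 yj9 zj22) (kj xj16 yj9 zj23) (kj xj16 yj9 zj24) (kj xj17 yj22 zj36) (kj xj16 yj9 zj26) (kj xj16 yj9 zj27) (kj xj16 yj14 zj3) (kj xj16 yj14 zj26) (kj xj16 yj9 zj48) (kj xj16 yj20 zj8) (kj xj18 yj3 zj34)) (@D3.rec (fun _ => Pt) (kj xj17 yj24 zj9) (kj xj16 yj15 zj35) (kj xj16 yj11 zj6) (kj xj16 yj15 zj36) (kj xj17 yj20 zj46) (kj xj18 yj3 zj35) (kj xj18 yj3 zj36) (kj xj17 yj24 zj23) (kj xj17 yj22 zj37) (kj xj18 yj3 zj38) (kj xj18 yj3 zj39) (kj xj16 yj19 zj45) (kj xj17 yj22 zj23)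 (kj xj16 yj19 zj46) (kj xj16 yj19 zj47) (kj xj16 yj9 zj43) (kj xj16 yj19 zj36) (kj xj16 yj9 zj49) (kj xj16 yj9 zj50) (kj xj16 yj9 zj39) (kj xj18 yj4 zj16) (kj xj16 yj10 zj2) (kj xj16 yj10 zj3) (kj xj16 yj19 zj27) (kj xj18 yj4 zj12) (kj xj16 yj15 zj40) (kj xj16 yj20 zj44) (kj xj16 yj20 zj1) (kj xj16 yj20 zj45) (kj xj18 yj3 zj42) (kj xj18 yj4 zj14) (kj xj18 yj4 zj15) (kj xj16 yj10 zj1) (kj xj18 yj4 zj31) (kj xj18 yj4 zj18) (kj xj18 yj4 zj19) (kj xj18 yj4 zj20) (kj xj16 yj21 zj34) (kj xj16 yj10 zj13) (kj xj16 yj10 zj8) (kj xj18 yj4 zj38) (kj xj16 yj10 zj16) (kj xj16 yj10 zj17) (kj xj16 yj10 zj18) (kj xj16 yj10 zj12) (kj xj17 yj24 zj27) (kj xj16 yj10 zj15) (kj xj18 yj4 zj43) (kj xj18 yj4 zj44) (kj xj18 yj4 zj41) (kj xj18 yj4 zj42)) (@D3.rec (fun _ => Pt) (kj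 xj16 yj10 zj21) (kj xj16 yj12 zj22) (kj xj16 yj11 zj9) (kj xj17 yj25 zj36) (kj xj16 yj20 zj28) (kj xj16 yj20 zj29) (kj xj16 yj11 zj5) (kj xj17 yj25 zj46) (kj xj16 yj20 zj31) (kj xj16 yj20 zj32) (kj xj16 yj11 zj2) (kj xj16 yj11 zj4) (kj xj16 yj11 zj7) (kj xj16 yj11 zj8) (kj xj17 yj25 zj37) (kj xj16 yj11 zj13) (kj xj16 yj11 zj14) (kj xj16 yj11 zj15) (kj xj16 yj11 zj16) (kj xj16 yj10 zj45) (kj xj18 yj5 zj16) (kj xj16 yj11 zj19) (kj xj16 yj11 zj20) (kj xj16 yj11 zj21) (kj xj16 yj10 zj50) (kj xj18 yj5 zj22) (kj xj16 yj11 zj25) (kj xj16 yj11 zj26) (kj xj16 yj11 zj27) (kj xj18 yj5 zj8) (kj xj17 yj26 zj35) (kj xj18 yj5 zj3) (kj xj18 yj5 zj2) (kj xj18 yj3 zj48) (kj xj18 yj5 zj9) (kj xj18 yj5 zj10) (kj xj18 yj4 zj49) (kj xj16 yj11 zj12) (kj xj17 yj20 zj10) (kj xj18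 yj5 zj37) (kj xj18 yj5 zj12) (kj xj18 yj5 zj13) (kj xj18 yj5 zj14) (kj xj18 yj5 zj15) (kj xj18 yj4 zj48) (kj xj16 yj11 zj18) (kj xj18 yj5 zj48) (kj xj18 yj5 zj18) (kj xj18 yj5 zj19) (kj xj18 yj5 zj20) (kj xj18 yj5 zj21)) (@D3.rec (fun _ => Pt) (kj xj17 yj23 zj43) (kj xj16 yj11 zj24) (kj xj18 yj6 zj6) (kj xj18 yj6 zj7) (kj xj18 yj5 zj25) (kj xj18 yj5 zj26) (kj xj18 yj5 zj27) (kj xj16 yj11 zj42) (kj xj16 yj11 zj31) (kj xj18 yj6 zj14) (kj xj16 yj11 zj45) (kj xj16 yj11 zj46) (kj xj16 yj11 zj36) (kj xj18 yj6 zj18) (kj xj18 yj6 zj19) (kj xj16 yj12 zj0) (kj xj16 yj12 zj1) (kj xj16 yj12 zj2) (kj xj16 yj11 zj41) (kj xj18 yj6 zj13) (kj xj16 yj11 zj44) (kj xj18 yj6 zj26) (kj xj18 yj6 zj17) (kj xj17 yj24 zj26) (kj xj16 yj11 zj49) (kj xj16 yj11 zj50) (kj xj18 yj6 zj29)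 (kj xj18 yj6 zj23) (kj xj18 yj6 zj24) (kj xj18 yj6 zj25) (kj xj16 yj12 zj5) (kj xj18 yj6 zj34) (kj xj16 yj12 zj8) (kj xj16 yj12 zj9) (kj xj16 yj16 zj35) (kj xj18 yj6 zj35) (kj xj18 yj1 zj12) (kj xj16 yj12 zj16) (kj xj16 yj12 zj17) (kj xj16 yj12 zj18) (kj xj16 yj12 zj15) (kj xj18 yj6 zj43) (kj xj18 yj6 zj40) (kj xj18 yj6 zj41) (kj xj18 yj6 zj42) (kj xj17 yj21 zj24) (kj xj17 yj22 zj50) (kj xj17 yj20 zj43) (kj xj17 yj23 zj0) (kj xj16 yj13 zj34) (kj xj16 yj16 zj31)) (@D3.rec (fun _ => Pt) (kj xj16 yj14 zj27) (kj xj17 yj21 zj30) (kj xj17 yj24 zj22) (kj xj17 yj21 zj22) (kj xj17 yj20 zj42) (kj xj16 yj12 zj45) (kj xj17 yj19 zj45) (kj xj16 yj17 zj2) (kj xj16 yj17 zj26) (kj xj18 yj7 zj5) (kj xj16 yj18 zj16) (kj xj17 yj19 zj30) (kj xj16 yj13 zj5) (kj xj16 yj13 zj8)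 (kj xj16 yj17 zj34) (kj xj17 yj25 zj12) (kj xj16 yj17 zj37) (kj xj17 yj20 zj35) (kj xj17 yj25 zj0) (kj xj16 yj17 zj38) (kj xj18 yj7 zj12) (kj xj17 yj26 zj42) (kj xj16 yj17 zj40) (kj xj18 yj7 zj13) (kj xj16 yj17 zj35) (kj xj17 yj25 zj1) (kj xj16 yj17 zj39) (kj xj16 yj13 zj35) (kj xj16 yj13 zj36) (kj xj16 yj13 zj37) (kj xj16 yj13 zj18) (kj xj18 yj7 zj30) (kj xj16 yj13 zj26) (kj xj17 yj23 zj34) (kj xj17 yj23 zj38) (kj xj17 yj24 zj25) (kj xj17 yj23 zj44) (kj xj17 yj23 zj45) (kj xj18 yj7 zj32) (kj xj16 yj21 zj35) (kj xj16 yj13 zj33) (kj xj18 yj7 zj39) (kj xj18 yj7 zj0) (kj xj18 yj7 zj27) (kj xj18 yj7 zj28) (kj xj18 yj7 zj29) (kj xj16 yj20 zj46) (kj xj16 yj21 zj21) (kj xj16 yj21 zj0) (kj xj16 yj21 zj45) (kj xj17 yj22 zj4)) (@D3.rec (fun _ => Pt) (kj xj17 yj22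 zj5) (kj xj16 yj14 zj4) (kj xj16 yj14 zj5) (kj xj16 yj14 zj6) (kj xj16 yj14 zj7) (kj xj16 yj14 zj8) (kj xj16 yj14 zj9) (kj xj16 yj14 zj10) (kj xj16 yj14 zj11) (kj xj16 yj14 zj12) (kj xj18 yj3 zj40) (kj xj18 yj8 zj0) (kj xj18 yj8 zj1) (kj xj18 yj8 zj2) (kj xj18 yj8 zj3) (kj xj18 yj8 zj4) (kj xj18 yj8 zj5) (kj xj18 yj8 zj6) (kj xj18 yj8 zj7) (kj xj18 yj8 zj8) (kj xj18 yj8 zj9) (kj xj16 yj14 zj17) (kj xj16 yj14 zj18) (kj xj16 yj14 zj19) (kj xj18 yj8 zj24) (kj xj18 yj8 zj25) (kj xj16 yj21 zj42) (kj xj16 yj21 zj48) (kj xj16 yj14 zj28) (kj xj16 yj14 zj29) (kj xj16 yj14 zj30) (kj xj16 yj14 zj31) (kj xj18 yj3 zj41) (kj xj18 yj7 zj1) (kj xj18 yj7 zj2) (kj xj18 yj8 zj29) (kj xj18 yj8 zj30) (kj xj18 yj8 zj31) (kj xj16 yj14 zj34) (kj xj18 yj6 zj36) (kj xj16 yj16 zj16)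 (kj xj16 yj20 zj5) (kj xj16 yj20 zj22) (kj xj16 yj20 zj10) (kj xj16 yj20 zj15) (kj xj16 yj20 zj26) (kj xj16 yj20 zj19) (kj xj17 yj20 zj22) (kj xj17 yj20 zj48) (kj xj17 yj21 zj27) (kj xj17 yj22 zj38)) (@D3.rec (fun _ => Pt) (kj xj16 yj15 zj3) (kj xj16 yj15 zj5) (kj xj16 yj15 zj6) (kj xj16 yj15 zj8) (kj xj16 yj15 zj9) (kj xj16 yj15 zj11) (kj xj16 yj15 zj12) (kj xj16 yj15 zj15) (kj xj18 yj8 zj49) (kj xj16 yj19 zj37) (kj xj18 yj8 zj50) (kj xj18 yj9 zj0) (kj xj16 yj19 zj40) (kj xj18 yj9 zj1) (kj xj18 yj9 zj2) (kj xj16 yj19 zj41) (kj xj18 yj9 zj3) (kj xj18 yj9 zj4) (kj xj18 yj3 zj33) (kj xj16 yj19 zj43) (kj xj18 yj9 zj5) (kj xj17 yj20 zj47) (kj xj17 yj20 zj49) (kj xj17 yj21 zj28) (kj xj17 yj23 zj20) (kj xj17 yj23 zj21) (kj xj16 yj15 zj41) (kj xj16 yj15 zj42)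 (kj xj16 yj15 zj43) (kj xj16 yj15 zj45) (kj xj16 yj15 zj46) (kj xj16 yj15 zj47) (kj xj16 yj15 zj48) (kj xj16 yj16 zj0) (kj xj16 yj16 zj1) (kj xj16 yj16 zj2) (kj xj16 yj16 zj3) (kj xj16 yj16 zj6) (kj xj16 yj16 zj7) (kj xj18 yj3 zj47) (kj xj18 yj3 zj49) (kj xj18 yj2 zj29) (kj xj17 yj25 zj38) (kj xj18 yj2 zj30) (kj xj18 yj4 zj23) (kj xj18 yj9 zj27) (kj xj18 yj9 zj28) (kj xj18 yj9 zj29) (kj xj18 yj2 zj46) (kj xj18 yj9 zj30) (kj xj18 yj9 zj31)) (@D3.rec (fun _ => Pt) (kj xj18 yj9 zj32) (kj xj18 yj9 zj33) (kj xj18 yj9 zj34) (kj xj16 yj15 zj50) (kj xj18 yj10 zj12) (kj xj18 yj9 zj35) (kj xj18 yj9 zj36) (kj xj18 yj9 zj37) (kj xj18 yj9 zj38) (kj xj18 yj9 zj39) (kj xj16 yj16 zj5) (kj xj18 yj10 zj20) (kj xj18 yj9 zj41) (kj xj18 yj9 zj42) (kj xj16 yj16 zj14) (kj xj16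 yj16 zj15) (kj xj16 yj16 zj17) (kj xj16 yj16 zj20) (kj xj18 yj6 zj20) (kj xj18 yj10 zj23) (kj xj18 yj10 zj24) (kj xj16 yj16 zj19) (kj xj18 yj10 zj26) (kj xj17 yj21 zj29) (kj xj16 yj16 zj32) (kj xj16 yj16 zj33) (kj xj16 yj16 zj34) (kj xj18 yj6 zj37) (kj xj17 yj25 zj39) (kj xj18 yj2 zj31) (kj xj18 yj10 zj27) (kj xj18 yj10 zj28) (kj xj16 yj17 zj12) (kj xj16 yj16 zj44) (kj xj18 yj0 zj29) (kj xj17 yj20 zj2) (kj xj18 yj10 zj33) (kj xj17 yj19 zj34) (kj xj17 yj20 zj3) (kj xj17 yj19 zj36) (kj xj17 yj24 zj45) (kj xj17 yj26 zj49) (kj xj17 yj26 zj50) (kj xj18 yj0 zj0) (kj xj18 yj7 zj7) (kj xj18 yj0 zj12) (kj xj16 yj17 zj13) (kj xj17 yj24 zj44) (kj xj18 yj0 zj30) (kj xj18 yj0 zj31) (kj xj18 yj0 zj32)) (@D3.rec (fun _ => Pt) (kj xj18 yj0 zj33) (kj xj18 yj0 zj34) (kj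 xj18 yj0 zj35) (kj xj18 yj0 zj36) (kj xj18 yj10 zj32) (kj xj18 yj10 zj44) (kj xj18 yj1 zj5) (kj xj18 yj1 zj6) (kj xj17 yj26 zj10) (kj xj18 yj1 zj17) (kj xj18 yj1 zj18) (kj xj18 yj1 zj11) (kj xj17 yj26 zj25) (kj xj16 yj20 zj30) (kj xj17 yj19 zj40) (kj xj17 yj19 zj43) (kj xj18 yj7 zj8) (kj xj17 yj26 zj4) (kj xj16 yj17 zj31) (kj xj17 yj19 zj48) (kj xj17 yj19 zj49) (kj xj17 yj19 zj35) (kj xj18 yj11 zj15) (kj xj18 yj7 zj14) (kj xj18 yj7 zj25) (kj xj17 yj21 zj46) (kj xj18 yj7 zj16) (kj xj18 yj7 zj19) (kj xj18 yj7 zj20) (kj xj18 yj0 zj14) (kj xj18 yj7 zj23) (kj xj17 yj19 zj42) (kj xj17 yj25 zj14) (kj xj17 yj25 zj15) (kj xj18 yj0 zj16) (kj xj18 yj0 zj17) (kj xj16 yj18 zj5) (kj xj16 yj18 zj6) (kj xj16 yj18 zj11) (kj xj16 yj18 zj12) (kj xj16 yj18 zj17) (kj xj17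 yj25 zj20) (kj xj17 yj25 zj24) (kj xj17 yj21 zj43) (kj xj17 yj19 zj37) (kj xj18 yj11 zj35) (kj xj18 yj11 zj36) (kj xj17 yj20 zj0) (kj xj17 yj22 zj1) (kj xj17 yj22 zj11) (kj xj17 yj22 zj12)) (@D3.rec (fun _ => Pt) (kj xj17 yj19 zj25) (kj xj17 yj19 zj38) (kj xj16 yj18 zj15) (kj xj18 yj11 zj37) (kj xj18 yj11 zj38) (kj xj18 yj1 zj0) (kj xj17 yj26 zj11) (kj xj18 yj12 zj3) (kj xj18 yj7 zj10) (kj xj18 yj11 zj39) (kj xj17 yj21 zj45) (kj xj17 yj22 zj3) (kj xj17 yj25 zj31) (kj xj18 yj1 zj28) (kj xj16 yj18 zj32) (kj xj18 yj12 zj12) (kj xj18 yj2 zj5) (kj xj18 yj1 zj40) (kj xj16 yj18 zj37) (kj xj18 yj2 zj4) (kj xj18 yj12 zj16) (kj xj17 yj21 zj40) (kj xj18 yj1 zj47) (kj xj17 yj25 zj2) (kj xj18 yj1 zj48) (kj xj18 yj1 zj49) (kj xj16 yj19 zj3) (kj xj16 yj19 zj4) (kj xj16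 yj19 zj5) (kj xj16 yj19 zj6) (kj xj16 yj19 zj7) (kj xj16 yj19 zj8) (kj xj18 yj2 zj19) (kj xj16 yj19 zj9) (kj xj16 yj19 zj10) (kj xj18 yj2 zj34) (kj xj18 yj2 zj35) (kj xj18 yj12 zj25) (kj xj18 yj12 zj26) (kj xj18 yj12 zj27) (kj xj18 yj12 zj28) (kj xj18 yj12 zj29) (kj xj18 yj12 zj30) (kj xj18 yj12 zj31) (kj xj18 yj12 zj33) (kj xj18 yj12 zj34) (kj xj16 yj19 zj14) (kj xj16 yj19 zj15) (kj xj18 yj12 zj47) (kj xj17 yj20 zj44) (kj xj17 yj20 zj45)) (@D3.rec (fun _ => Pt) (kj xj18 yj2 zj3) (kj xj16 yj19 zj20) (kj xj18 yj13 zj0) (kj xj18 yj2 zj47) (kj xj18 yj2 zj48) (kj xj18 yj2 zj49) (kj xj16 yj19 zj29) (kj xj16 yj19 zj32) (kj xj16 yj19 zj33) (kj xj18 yj4 zj21) (kj xj17 yj23 zj39) (kj xj18 yj13 zj6) (kj xj17 yj23 zj2) (kj xj17 yj23 zj48) (kj xj18 yj13 zj7) (kj xj18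 yj13 zj8) (kj xj16 yj20 zj47) (kj xj16 yj21 zj22) (kj xj18 yj4 zj13) (kj xj18 yj9 zj7) (kj xj17 yj21 zj16) (kj xj17 yj24 zj1) (kj xj18 yj3 zj8) (kj xj18 yj9 zj10) (kj xj18 yj9 zj14) (kj xj18 yj2 zj14) (kj xj18 yj9 zj18) (kj xj17 yj22 zj47) (kj xj18 yj4 zj8) (kj xj18 yj4 zj10) (kj xj18 yj4 zj11) (kj xj16 yj20 zj6) (kj xj16 yj20 zj12) (kj xj16 yj20 zj16) (kj xj16 yj20 zj20) (kj xj18 yj4 zj25) (kj xj17 yj22 zj44) (kj xj18 yj3 zj11) (kj xj18 yj3 zj13) (kj xj18 yj8 zj38) (kj xj18 yj13 zj32) (kj xj17 yj20 zj9) (kj xj18 yj3 zj43) (kj xj17 yj21 zj49) (kj xj18 yj8 zj41) (kj xj18 yj3 zj9) (kj xj18 yj13 zj33) (kj xj16 yj20 zj14) (kj xj18 yj13 zj50) (kj xj18 yj8 zj42) (kj xj18 yj8 zj43)) (@D3.rec (fun _ => Pt) (kj xj18 yj13 zj34) (kj xj16 yj20 zj18) (kj xj18 yj14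 zj5) (kj xj18 yj8 zj44) (kj xj18 yj13 zj35) (kj xj16 yj20 zj23) (kj xj18 yj8 zj39) (kj xj18 yj8 zj40) (kj xj16 yj20 zj25) (kj xj18 yj14 zj9) (kj xj18 yj5 zj0) (kj xj18 yj5 zj1) (kj xj18 yj11 zj10) (kj xj18 yj5 zj5) (kj xj18 yj5 zj6) (kj xj18 yj5 zj7) (kj xj16 yj20 zj48) (kj xj16 yj20 zj49) (kj xj16 yj21 zj4) (kj xj16 yj21 zj7) (kj xj16 yj21 zj8) (kj xj16 yj21 zj9) (kj xj16 yj21 zj10) (kj xj16 yj21 zj11) (kj xj18 yj7 zj45) (kj xj16 yj20 zj41) (kj xj18 yj14 zj29) (kj xj16 yj21 zj14) (kj xj16 yj21 zj15) (kj xj18 yj4 zj24) (kj xj18 yj4 zj26) (kj xj18 yj13 zj15) (kj xj18 yj14 zj18) (kj xj18 yj14 zj19) (kj xj18 yj14 zj20) (kj xj17 yj20 zj11) (kj xj18 yj7 zj47) (kj xj17 yj21 zj50) (kj xj17 yj22 zj7) (kj xj17 yj22 zj8) (kj xj18 yj3 zj10) (kj xj18 yj14 zj21) (kj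 xj16 yj21 zj6) (kj xj18 yj14 zj48) (kj xj18 yj14 zj49) (kj xj18 yj14 zj22) (kj xj18 yj14 zj23) (kj xj18 yj14 zj24) (kj xj18 yj14 zj25) (kj xj18 yj14 zj26) (kj xj18 yj14 zj27)) (@D3.rec (fun _ => Pt) (kj xj16 yj21 zj13) (kj xj18 yj15 zj7) (kj xj18 yj14 zj31) (kj xj16 yj21 zj23) (kj xj16 yj21 zj24) (kj xj16 yj21 zj27) (kj xj18 yj7 zj46) (kj xj18 yj13 zj16) (kj xj18 yj15 zj9) (kj xj16 yj21 zj26) (kj xj16 yj21 zj39) (kj xj16 yj22 zj1) (kj xj18 yj4 zj37) (kj xj17 yj24 zj28) (kj xj17 yj21 zj21) (kj xj18 yj3 zj32) (kj xj18 yj2 zj16) (kj xj17 yj23 zj12) (kj xj18 yj8 zj27) (kj xj17 yj20 zj12) (kj xj18 yj7 zj48) (kj xj17 yj22 zj0) (kj xj18 yj8 zj28) (kj xj16 yj22 zj2) (kj xj17 yj4 zj38) (kj xj17 yj16 zj0) (kj xj17 yj5 zj2) (kj xj16 yj22 zj15) (kj xj16 yj22 zj16)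 (kj xj17 yj4 zj5) (kj xj17 yj11 zj11) (kj xj18 yj15 zj19) (kj xj18 yj15 zj20) (kj xj16 yj22 zj31) (kj xj17 yj14 zj37) (kj xj17 yj15 zj21) (kj xj17 yj14 zj39) (kj xj17 yj15 zj44) (kj xj17 yj16 zj1) (kj xj16 yj22 zj30) (kj xj17 yj15 zj14) (kj xj18 yj15 zj30) (kj xj17 yj15 zj31) (kj xj17 yj15 zj15) (kj xj16 yj22 zj39) (kj xj17 yj11 zj6) (kj xj16 yj22 zj37) (kj xj18 yj15 zj37) (kj xj17 yj15 zj19) (kj xj17 yj15 zj20) (kj xj18 yj15 zj35)) (@D3.rec (fun _ => Pt) (kj xj17 yj15 zj47) (kj xj17 yj4 zj10) (kj xj17 yj14 zj35) (kj xj17 yj14 zj38) (kj xj17 yj6 zj17) (kj xj16 yj23 zj6) (kj xj16 yj23 zj7) (kj xj17 yj7 zj4) (kj xj17 yj7 zj22) (kj xj17 yj17 zj41) (kj xj17 yj9 zj38) (kj xj17 yj18 zj35) (kj xj17 yj19 zj19) (kj xj18 yj15 zj46) (kj xj18 yj15 zj47) (kj xj16 yj24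 zj46) (kj xj16 yj23 zj17) (kj xj16 yj23 zj18) (kj xj16 yj23 zj19) (kj xj17 yj6 zj39) (kj xj16 yj23 zj20) (kj xj16 yj23 zj21) (kj xj17 yj12 zj47) (kj xj18 yj16 zj6) (kj xj18 yj16 zj7) (kj xj18 yj16 zj8) (kj xj18 yj16 zj10) (kj xj18 yj16 zj11) (kj xj16 yj23 zj26) (kj xj17 yj6 zj44) (kj xj16 yj23 zj27) (kj xj16 yj23 zj28) (kj xj18 yj16 zj20) (kj xj18 yj16 zj22) (kj xj18 yj16 zj23) (kj xj17 yj11 zj17) (kj xj16 yj23 zj44) (kj xj16 yj23 zj45) (kj xj16 yj23 zj46) (kj xj17 yj7 zj7) (kj xj16 yj23 zj47) (kj xj16 yj23 zj48) (kj xj17 yj11 zj4) (kj xj17 yj10 zj47) (kj xj17 yj16 zj49) (kj xj17 yj16 zj50) (kj xj17 yj8 zj4) (kj xj17 yj13 zj21) (kj xj17 yj12 zj48) (kj xj17 yj13 zj22) (kj xj18 yj16 zj26)) (@D3.rec (fun _ => Pt) (kj xj18 yj16 zj27) (kj xj18 yj16 zj28) (kj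 xj18 yj16 zj29) (kj xj18 yj16 zj31) (kj xj18 yj16 zj32) (kj xj18 yj16 zj33) (kj xj16 yj24 zj4) (kj xj16 yj24 zj5) (kj xj16 yj24 zj6) (kj xj16 yj24 zj7) (kj xj17 yj7 zj25) (kj xj16 yj24 zj8) (kj xj16 yj24 zj9) (kj xj18 yj17 zj1) (kj xj18 yj17 zj2) (kj xj18 yj17 zj3) (kj xj17 yj17 zj20) (kj xj18 yj17 zj7) (kj xj17 yj7 zj31) (kj xj17 yj7 zj32) (kj xj16 yj24 zj15) (kj xj17 yj19 zj14) (kj xj17 yj11 zj3) (kj xj16 yj24 zj24) (kj xj17 yj10 zj45) (kj xj17 yj5 zj21) (kj xj17 yj5 zj23) (kj xj17 yj12 zj49) (kj xj17 yj13 zj23) (kj xj17 yj14 zj23) (kj xj17 yj11 zj1) (kj xj16 yj24 zj28) (kj xj18 yj17 zj20) (kj xj17 yj1 zj30) (kj xj17 yj1 zj31) (kj xj17 yj1 zj32) (kj xj17 yj1 zj33) (kj xj16 yj24 zj38) (kj xj16 yj24 zj39) (kj xj16 yj24 zj41) (kj xj17 yj16 zj21) (kj xj18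 yj17 zj26) (kj xj18 yj17 zj27) (kj xj17 yj15 zj43) (kj xj18 yj17 zj28) (kj xj17 yj16 zj10) (kj xj17 yj15 zj25) (kj xj18 yj16 zj5) (kj xj16 yj25 zj1) (kj xj17 yj17 zj43) (kj xj17 yj18 zj37)) (@D3.rec (fun _ => Pt) (kj xj17 yj19 zj21) (kj xj17 yj15 zj48) (kj xj18 yj17 zj37) (kj xj17 yj16 zj11) (kj xj17 yj11 zj50) (kj xj17 yj12 zj0) (kj xj16 yj25 zj11) (kj xj17 yj18 zj38) (kj xj17 yj18 zj39) (kj xj16 yj25 zj9) (kj xj18 yj17 zj49) (kj xj17 yj15 zj49) (kj xj17 yj15 zj50) (kj xj18 yj17 zj46) (kj xj16 yj25 zj13) (kj xj18 yj18 zj4) (kj xj16 yj25 zj17) (kj xj16 yj25 zj29) (kj xj16 yj25 zj30) (kj xj16 yj25 zj31) (kj xj16 yj25 zj32) (kj xj16 yj25 zj33) (kj xj16 yj25 zj34) (kj xj17 yj8 zj12) (kj xj16 yj25 zj35) (kj xj16 yj25 zj36) (kj xj17 yj3 zj32) (kj xj17 yj3 zj33)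 (kj xj18 yj18 zj5) (kj xj18 yj18 zj6) (kj xj18 yj18 zj7) (kj xj18 yj18 zj8) (kj xj18 yj18 zj9) (kj xj18 yj18 zj10) (kj xj18 yj18 zj12) (kj xj18 yj18 zj13) (kj xj17 yj7 zj43) (kj xj17 yj8 zj8) (kj xj17 yj12 zj50) (kj xj16 yj25 zj49) (kj xj16 yj25 zj50) (kj xj16 yj26 zj2) (kj xj16 yj26 zj4) (kj xj16 yj26 zj5) (kj xj17 yj17 zj36) (kj xj16 yj26 zj8) (kj xj16 yj26 zj9) (kj xj17 yj17 zj27) (kj xj18 yj18 zj30) (kj xj18 yj18 zj31) (kj xj17 yj10 zj46)) (@D3.rec (fun _ => Pt) (kj xj17 yj10 zj48) (kj xj18 yj18 zj32) (kj xj17 yj17 zj12) (kj xj18 yj18 zj33) (kj xj18 yj18 zj34) (kj xj18 yj18 zj35) (kj xj16 yj26 zj7) (kj xj18 yj19 zj0) (kj xj18 yj18 zj37) (kj xj18 yj18 zj38) (kj xj18 yj18 zj39) (kj xj16 yj26 zj15) (kj xj17 yj19 zj17) (kj xj16 yj26 zj18) (kj xj16 yj26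 zj19) (kj xj16 yj26 zj17) (kj xj18 yj19 zj8) (kj xj18 yj19 zj7) (kj xj16 yj26 zj22) (kj xj18 yj19 zj10) (kj xj17 yj13 zj24) (kj xj17 yj13 zj25) (kj xj16 yj26 zj36) (kj xj16 yj26 zj37) (kj xj16 yj26 zj41) (kj xj16 yj26 zj42) (kj xj16 yj26 zj48) (kj xj16 yj26 zj49) (kj xj16 yj26 zj50) (kj xj16 yj26 zj32) (kj xj18 yj19 zj24) (kj xj17 yj0 zj2) (kj xj17 yj0 zj3) (kj xj17 yj0 zj4) (kj xj17 yj11 zj33) (kj xj18 yj19 zj15) (kj xj18 yj19 zj16) (kj xj17 yj5 zj26) (kj xj17 yj11 zj34) (kj xj17 yj17 zj10) (kj xj18 yj19 zj17) (kj xj18 yj19 zj18) (kj xj18 yj19 zj19) (kj xj17 yj10 zj0) (kj xj17 yj11 zj36) (kj xj17 yj11 zj37) (kj xj16 yj26 zj46) (kj xj18 yj19 zj45) (kj xj17 yj17 zj13) (kj xj18 yj19 zj20) (kj xj18 yj19 zj21)) (@D3.rec (fun _ => Pt) (kj xj18 yj19 zj22) (kj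 xj17 yj17 zj21) (kj xj17 yj0 zj1) (kj xj18 yj20 zj1) (kj xj18 yj20 zj2) (kj xj18 yj19 zj27) (kj xj18 yj19 zj28) (kj xj18 yj19 zj29) (kj xj17 yj0 zj13) (kj xj17 yj8 zj0) (kj xj17 yj0 zj9) (kj xj18 yj20 zj8) (kj xj17 yj0 zj18) (kj xj17 yj0 zj19) (kj xj17 yj0 zj17) (kj xj18 yj20 zj10) (kj xj18 yj20 zj11) (kj xj17 yj0 zj21) (kj xj17 yj5 zj11) (kj xj17 yj0 zj27) (kj xj17 yj0 zj26) (kj xj17 yj0 zj36) (kj xj17 yj11 zj2) (kj xj17 yj8 zj7) (kj xj17 yj5 zj27) (kj xj17 yj11 zj35) (kj xj17 yj10 zj23) (kj xj17 yj8 zj45) (kj xj17 yj19 zj13) (kj xj17 yj1 zj8) (kj xj18 yj20 zj17) (kj xj17 yj1 zj14) (kj xj17 yj1 zj41) (kj xj17 yj1 zj46) (kj xj17 yj1 zj38) (kj xj18 yj20 zj19) (kj xj17 yj1 zj39) (kj xj17 yj2 zj18) (kj xj17 yj1 zj24) (kj xj17 yj2 zj6) (kj xj17 yj2 zj11) (kj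 xj17 yj2 zj3) (kj xj18 yj20 zj26) (kj xj17 yj2 zj4) (kj xj17 yj14 zj47) (kj xj17 yj14 zj40) (kj xj18 yj17 zj22) (kj xj18 yj17 zj23) (kj xj18 yj17 zj24) (kj xj18 yj17 zj25) (kj xj17 yj1 zj42)) (@D3.rec (fun _ => Pt) (kj xj17 yj11 zj18) (kj xj17 yj11 zj25) (kj xj17 yj16 zj23) (kj xj18 yj20 zj22) (kj xj18 yj20 zj24) (kj xj17 yj2 zj24) (kj xj18 yj20 zj20) (kj xj18 yj20 zj38) (kj xj17 yj2 zj49) (kj xj17 yj2 zj25) (kj xj17 yj2 zj43) (kj xj18 yj20 zj21) (kj xj17 yj11 zj15) (kj xj17 yj2 zj7) (kj xj17 yj15 zj32) (kj xj17 yj15 zj33) (kj xj17 yj5 zj32) (kj xj18 yj20 zj29) (kj xj18 yj20 zj30) (kj xj17 yj3 zj20) (kj xj17 yj15 zj41) (kj xj18 yj20 zj27) (kj xj18 yj20 zj28) (kj xj18 yj21 zj1) (kj xj17 yj15 zj42) (kj xj17 yj3 zj10) (kj xj17 yj5 zj34) (kj xj18 yj20 zj25)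 (kj xj17 yj2 zj26) (kj xj17 yj2 zj33) (kj xj17 yj2 zj44) (kj xj17 yj16 zj12) (kj xj18 yj20 zj45) (kj xj18 yj20 zj49) (kj xj18 yj21 zj16) (kj xj17 yj2 zj34) (kj xj17 yj9 zj3) (kj xj17 yj9 zj14) (kj xj17 yj13 zj42) (kj xj17 yj14 zj28) (kj xj18 yj21 zj17) (kj xj18 yj21 zj23) (kj xj17 yj2 zj42) (kj xj17 yj2 zj45) (kj xj17 yj3 zj8) (kj xj17 yj3 zj15) (kj xj17 yj9 zj7) (kj xj17 yj3 zj6) (kj xj18 yj21 zj30) (kj xj18 yj20 zj50) (kj xj18 yj21 zj18)) (@D3.rec (fun _ => Pt) (kj xj18 yj21 zj31) (kj xj17 yj4 zj13) (kj xj17 yj4 zj11) (kj xj18 yj20 zj44) (kj xj17 yj15 zj17) (kj xj17 yj3 zj9) (kj xj17 yj4 zj2) (kj xj17 yj3 zj11) (kj xj17 yj3 zj12) (kj xj18 yj21 zj35) (kj xj17 yj15 zj8) (kj xj17 yj16 zj6) (kj xj18 yj21 zj32) (kj xj18 yj21 zj44) (kj xj18 yj21 zj14) (kj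 xj17 yj5 zj8) (kj xj18 yj21 zj46) (kj xj18 yj21 zj8) (kj xj18 yj21 zj47) (kj xj17 yj5 zj6) (kj xj17 yj5 zj5) (kj xj18 yj21 zj33) (kj xj17 yj5 zj3) (kj xj17 yj4 zj42) (kj xj17 yj5 zj24) (kj xj17 yj15 zj12) (kj xj17 yj5 zj10) (kj xj17 yj3 zj35) (kj xj17 yj3 zj36) (kj xj17 yj3 zj37) (kj xj17 yj3 zj38) (kj xj17 yj3 zj39) (kj xj17 yj3 zj40) (kj xj18 yj18 zj14) (kj xj18 yj18 zj15) (kj xj17 yj9 zj30) (kj xj18 yj22 zj13) (kj xj18 yj22 zj14) (kj xj18 yj22 zj15) (kj xj18 yj20 zj14) (kj xj18 yj22 zj16) (kj xj18 yj22 zj17) (kj xj17 yj11 zj21) (kj xj17 yj4 zj0) (kj xj17 yj4 zj1) (kj xj17 yj4 zj3) (kj xj17 yj4 zj4) (kj xj17 yj4 zj6) (kj xj17 yj4 zj7) (kj xj17 yj14 zj41) (kj xj17 yj14 zj42))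
def f_j_18 : D2 → D3 → Pt := @D2.rec (fun _ => D3 → Pt) (@D3.rec (fun _ => Pt) (kj xj17 yj14 zj43) (kj xj18 yj22 zj31) (kj xj18 yj22 zj32) (kj xj18 yj21 zj45) (kj xj18 yj22 zj33) (kj xj18 yj22 zj34) (kj xj18 yj21 zj42) (kj xj18 yj15 zj21) (kj xj18 yj22 zj35) (kj xj18 yj22 zj36) (kj xj18 yj22 zj37) (kj xj17 yj4 zj14) (kj xj17 yj14 zj45) (kj xj18 yj15 zj43) (kj xj17 yj15 zj29) (kj xj18 yj21 zj38) (kj xj17 yj15 zj34) (kj xj17 yj15 zj35) (kj xj17 yj4 zj34) (kj xj17 yj4 zj35) (kj xj17 yj4 zj36) (kj xj17 yj4 zj37) (kj xj17 yj4 zj39) (kj xj17 yj4 zj40) (kj xj17 yj4 zj41) (kj xj17 yj4 zj45) (kj xj17 yj4 zj46) (kj xj17 yj4 zj47) (kj xj17 yj5 zj37) (kj xj17 yj14 zj34) (kj xj17 yj14 zj48) (kj xj17 yj14 zj49) (kj xj17 yj14 zj50) (kj xj17 yj15 zj0) (kj xj17 yj15 zj1)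 (kj xj17 yj15 zj2) (kj xj17 yj15 zj3) (kj xj18 yj23 zj8) (kj xj18 yj23 zj9) (kj xj18 yj23 zj10) (kj xj18 yj23 zj11) (kj xj18 yj23 zj12) (kj xj18 yj15 zj16) (kj xj18 yj23 zj13) (kj xj18 yj23 zj14) (kj xj18 yj23 zj15) (kj xj18 yj23 zj16) (kj xj18 yj22 zj11) (kj xj18 yj22 zj0) (kj xj17 yj4 zj44) (kj xj18 yj23 zj48)) (@D3.rec (fun _ => Pt) (kj xj17 yj16 zj5) (kj xj18 yj23 zj17) (kj xj18 yj23 zj18) (kj xj18 yj23 zj19) (kj xj17 yj5 zj4) (kj xj17 yj15 zj6) (kj xj17 yj15 zj7) (kj xj18 yj15 zj18) (kj xj18 yj22 zj10) (kj xj18 yj22 zj9) (kj xj18 yj22 zj5) (kj xj17 yj15 zj11) (kj xj17 yj10 zj36) (kj xj18 yj20 zj9) (kj xj17 yj5 zj20) (kj xj17 yj5 zj22) (kj xj17 yj5 zj38) (kj xj17 yj15 zj9) (kj xj17 yj15 zj10) (kj xj18 yj17 zj16) (kj xj18 yj24 zj10) (kj xj18 yj17 zj17)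 (kj xj18 yj22 zj12) (kj xj17 yj7 zj34) (kj xj17 yj5 zj28) (kj xj18 yj19 zj33) (kj xj18 yj20 zj15) (kj xj18 yj24 zj16) (kj xj17 yj16 zj13) (kj xj17 yj5 zj33) (kj xj18 yj21 zj4) (kj xj18 yj21 zj5) (kj xj18 yj24 zj21) (kj xj17 yj5 zj39) (kj xj17 yj5 zj40) (kj xj18 yj23 zj20) (kj xj18 yj15 zj45) (kj xj18 yj24 zj25) (kj xj18 yj24 zj26) (kj xj17 yj6 zj26) (kj xj17 yj16 zj17) (kj xj17 yj5 zj45) (kj xj17 yj5 zj46) (kj xj18 yj24 zj35) (kj xj18 yj24 zj36) (kj xj18 yj24 zj37) (kj xj17 yj5 zj48) (kj xj17 yj16 zj22) (kj xj17 yj16 zj24) (kj xj17 yj16 zj25) (kj xj17 yj6 zj7)) (@D3.rec (fun _ => Pt) (kj xj17 yj6 zj10) (kj xj17 yj6 zj11) (kj xj17 yj6 zj12) (kj xj17 yj17 zj0) (kj xj17 yj16 zj19) (kj xj17 yj16 zj16) (kj xj18 yj24 zj45) (kj xj17 yj6 zj9) (kj xj18 yj25 zj2)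 (kj xj18 yj25 zj3) (kj xj18 yj24 zj46) (kj xj18 yj24 zj47) (kj xj18 yj24 zj48) (kj xj17 yj6 zj15) (kj xj17 yj17 zj25) (kj xj18 yj15 zj27) (kj xj17 yj19 zj16) (kj xj17 yj6 zj21) (kj xj18 yj25 zj11) (kj xj17 yj16 zj32) (kj xj17 yj6 zj27) (kj xj17 yj6 zj28) (kj xj17 yj6 zj29) (kj xj18 yj24 zj33) (kj xj18 yj25 zj14) (kj xj18 yj25 zj15) (kj xj18 yj25 zj16) (kj xj17 yj6 zj35) (kj xj17 yj6 zj36) (kj xj17 yj13 zj41) (kj xj17 yj13 zj43) (kj xj17 yj14 zj29) (kj xj18 yj25 zj22) (kj xj18 yj25 zj23) (kj xj17 yj16 zj35) (kj xj17 yj16 zj36) (kj xj18 yj16 zj9) (kj xj17 yj6 zj42) (kj xj17 yj6 zj43) (kj xj18 yj25 zj34) (kj xj18 yj25 zj35) (kj xj18 yj25 zj36) (kj xj18 yj16 zj21) (kj xj17 yj6 zj47) (kj xj17 yj6 zj48) (kj xj18 yj25 zj42) (kj xj17 yj13 zj48) (kj xj17 yj17 zj3)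 (kj xj17 yj17 zj4) (kj xj17 yj17 zj5) (kj xj17 yj7 zj14)) (@D3.rec (fun _ => Pt) (kj xj17 yj7 zj16) (kj xj18 yj15 zj48) (kj xj17 yj7 zj17) (kj xj17 yj7 zj18) (kj xj18 yj16 zj30) (kj xj17 yj7 zj19) (kj xj17 yj7 zj20) (kj xj17 yj7 zj21) (kj xj17 yj17 zj22) (kj xj17 yj17 zj45) (kj xj17 yj18 zj40) (kj xj17 yj17 zj37) (kj xj18 yj25 zj49) (kj xj17 yj17 zj38) (kj xj18 yj25 zj50) (kj xj18 yj26 zj1) (kj xj18 yj26 zj2) (kj xj18 yj26 zj3) (kj xj18 yj26 zj6) (kj xj18 yj26 zj7) (kj xj18 yj26 zj8) (kj xj18 yj15 zj49) (kj xj17 yj7 zj28) (kj xj17 yj7 zj29) (kj xj18 yj17 zj5) (kj xj18 yj17 zj6) (kj xj17 yj7 zj30) (kj xj18 yj26 zj25) (kj xj18 yj26 zj28) (kj xj18 yj17 zj11) (kj xj18 yj17 zj12) (kj xj18 yj24 zj15) (kj xj17 yj19 zj15) (kj xj17 yj13 zj18) (kj xj17 yj7 zj50)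 (kj xj17 yj8 zj5) (kj xj17 yj8 zj6) (kj xj18 yj18 zj27) (kj xj17 yj8 zj9) (kj xj17 yj8 zj10) (kj xj17 yj12 zj10) (kj xj17 yj12 zj32) (kj xj17 yj8 zj29) (kj xj17 yj17 zj42) (kj xj18 yj26 zj34) (kj xj18 yj17 zj4) (kj xj18 yj19 zj23) (kj xj17 yj13 zj39) (kj xj17 yj9 zj33) (kj xj17 yj13 zj40) (kj xj18 yj16 zj38)) (@D3.rec (fun _ => Pt) (kj xj18 yj26 zj35) (kj xj18 yj26 zj36) (kj xj18 yj20 zj13) (kj xj18 yj17 zj14) (kj xj18 yj18 zj28) (kj xj18 yj26 zj38) (kj xj18 yj26 zj39) (kj xj18 yj26 zj40) (kj xj17 yj17 zj28) (kj xj18 yj18 zj11) (kj xj17 yj17 zj29) (kj xj17 yj17 zj30) (kj xj17 yj8 zj24) (kj xj17 yj17 zj18) (kj xj17 yj8 zj30) (kj xj17 yj8 zj31) (kj xj17 yj8 zj20) (kj xj19 yj0 zj23) (kj xj17 yj8 zj34) (kj xj17 yj8 zj35) (kj xj17 yj8 zj36) (kj xj17 yj17 zj9)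 (kj xj19 yj0 zj19) (kj xj17 yj13 zj44) (kj xj17 yj18 zj29) (kj xj17 yj17 zj35) (kj xj17 yj18 zj30) (kj xj18 yj26 zj44) (kj xj19 yj0 zj21) (kj xj18 yj19 zj44) (kj xj19 yj0 zj22) (kj xj17 yj8 zj33) (kj xj19 yj0 zj39) (kj xj19 yj0 zj40) (kj xj19 yj0 zj26) (kj xj19 yj0 zj27) (kj xj19 yj0 zj28) (kj xj17 yj19 zj12) (kj xj17 yj8 zj40) (kj xj19 yj0 zj46) (kj xj19 yj0 zj47) (kj xj17 yj8 zj49) (kj xj17 yj8 zj50) (kj xj17 yj8 zj47) (kj xj17 yj8 zj48) (kj xj19 yj1 zj2) (kj xj19 yj1 zj0) (kj xj19 yj1 zj1) (kj xj17 yj9 zj44) (kj xj17 yj9 zj36) (kj xj18 yj21 zj24)) (@D3.rec (fun _ => Pt) (kj xj17 yj18 zj10) (kj xj17 yj18 zj11) (kj xj17 yj9 zj32) (kj xj17 yj9 zj31) (kj xj18 yj21 zj34) (kj xj17 yj18 zj13) (kj xj17 yj18 zj14) (kj xj17 yj18 zj15) (kj xj17 yj9 zj29) (kj xj17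 yj9 zj34) (kj xj17 yj9 zj35) (kj xj18 yj21 zj25) (kj xj17 yj9 zj40) (kj xj17 yj9 zj41) (kj xj17 yj9 zj42) (kj xj17 yj9 zj43) (kj xj17 yj9 zj20) (kj xj19 yj1 zj29) (kj xj17 yj9 zj47) (kj xj17 yj9 zj48) (kj xj17 yj9 zj49) (kj xj17 yj9 zj50) (kj xj17 yj9 zj25) (kj xj19 yj1 zj36) (kj xj19 yj1 zj37) (kj xj17 yj10 zj4) (kj xj17 yj10 zj5) (kj xj17 yj10 zj6) (kj xj19 yj1 zj19) (kj xj18 yj22 zj21) (kj xj19 yj1 zj13) (kj xj19 yj1 zj12) (kj xj19 yj0 zj0) (kj xj19 yj1 zj20) (kj xj19 yj1 zj21) (kj xj19 yj1 zj22) (kj xj19 yj1 zj7) (kj xj17 yj9 zj39) (kj xj18 yj16 zj0) (kj xj19 yj2 zj3) (kj xj19 yj1 zj24) (kj xj19 yj1 zj25) (kj xj19 yj1 zj26) (kj xj19 yj1 zj27) (kj xj18 yj18 zj43) (kj xj19 yj1 zj28) (kj xj19 yj1 zj6) (kj xj18 yj18 zj44) (kj xj17 yj9 zj46) (kj xj19 yj2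 zj18) (kj xj19 yj2 zj19)) (@D3.rec (fun _ => Pt) (kj xj19 yj1 zj32) (kj xj19 yj1 zj33) (kj xj18 yj19 zj41) (kj xj19 yj1 zj34) (kj xj19 yj1 zj35) (kj xj18 yj19 zj40) (kj xj17 yj10 zj2) (kj xj17 yj10 zj3) (kj xj19 yj2 zj29) (kj xj19 yj2 zj30) (kj xj19 yj1 zj41) (kj xj19 yj1 zj42) (kj xj19 yj1 zj43) (kj xj17 yj10 zj19) (kj xj17 yj10 zj9) (kj xj19 yj0 zj48) (kj xj19 yj2 zj37) (kj xj17 yj10 zj22) (kj xj17 yj10 zj13) (kj xj17 yj10 zj14) (kj xj17 yj14 zj18) (kj xj19 yj2 zj41) (kj xj18 yj24 zj8) (kj xj17 yj10 zj27) (kj xj17 yj10 zj28) (kj xj17 yj10 zj29) (kj xj17 yj10 zj21) (kj xj19 yj2 zj48) (kj xj19 yj2 zj40) (kj xj17 yj10 zj26) (kj xj19 yj2 zj50) (kj xj19 yj2 zj45) (kj xj19 yj2 zj46) (kj xj19 yj2 zj47) (kj xj17 yj10 zj31) (kj xj17 yj10 zj35) (kj xj17 yj12 zj39)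 (kj xj17 yj14 zj27) (kj xj18 yj26 zj31) (kj xj18 yj24 zj7) (kj xj17 yj10 zj42) (kj xj17 yj10 zj43) (kj xj17 yj10 zj44) (kj xj17 yj10 zj41) (kj xj18 yj25 zj27) (kj xj19 yj3 zj9) (kj xj19 yj3 zj7) (kj xj19 yj3 zj10) (kj xj19 yj3 zj11) (kj xj18 yj16 zj34) (kj xj18 yj16 zj35)) (@D3.rec (fun _ => Pt) (kj xj17 yj11 zj42) (kj xj17 yj12 zj33) (kj xj17 yj12 zj34) (kj xj18 yj17 zj15) (kj xj18 yj17 zj13) (kj xj17 yj11 zj9) (kj xj18 yj15 zj36) (kj xj17 yj14 zj44) (kj xj17 yj15 zj16) (kj xj19 yj3 zj20) (kj xj17 yj16 zj8) (kj xj18 yj15 zj22) (kj xj17 yj11 zj20) (kj xj17 yj11 zj23) (kj xj17 yj15 zj23) (kj xj18 yj21 zj0) (kj xj17 yj15 zj26) (kj xj18 yj16 zj25) (kj xj18 yj20 zj39) (kj xj17 yj15 zj27) (kj xj17 yj15 zj28) (kj xj19 yj3 zj27) (kj xj18 yj22 zj30) (kj xj17 yj15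 zj30) (kj xj19 yj3 zj28) (kj xj17 yj15 zj24) (kj xj18 yj20 zj40) (kj xj17 yj11 zj43) (kj xj17 yj11 zj44) (kj xj17 yj11 zj45) (kj xj17 yj11 zj31) (kj xj19 yj3 zj45) (kj xj17 yj11 zj38) (kj xj18 yj19 zj30) (kj xj18 yj19 zj34) (kj xj18 yj19 zj35) (kj xj18 yj19 zj42) (kj xj18 yj19 zj43) (kj xj19 yj3 zj47) (kj xj17 yj11 zj41) (kj xj19 yj4 zj2) (kj xj19 yj3 zj17) (kj xj19 yj3 zj42) (kj xj19 yj3 zj43) (kj xj19 yj3 zj44) (kj xj17 yj18 zj24) (kj xj17 yj19 zj6) (kj xj17 yj18 zj36) (kj xj17 yj19 zj20) (kj xj18 yj17 zj44) (kj xj18 yj17 zj45)) (@D3.rec (fun _ => Pt) (kj xj17 yj12 zj11) (kj xj17 yj12 zj12) (kj xj17 yj12 zj13) (kj xj17 yj12 zj14) (kj xj17 yj12 zj15) (kj xj17 yj12 zj16) (kj xj17 yj12 zj17) (kj xj17 yj12 zj18) (kj xj17 yj12 zj19) (kj xj17 yj12 zj20) (kj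 xj18 yj26 zj41) (kj xj19 yj4 zj17) (kj xj19 yj4 zj18) (kj xj19 yj4 zj19) (kj xj19 yj4 zj20) (kj xj19 yj4 zj21) (kj xj19 yj4 zj22) (kj xj19 yj4 zj23) (kj xj19 yj4 zj24) (kj xj19 yj4 zj25) (kj xj19 yj4 zj26) (kj xj19 yj4 zj27) (kj xj19 yj4 zj29) (kj xj19 yj4 zj30) (kj xj17 yj12 zj24) (kj xj17 yj12 zj25) (kj xj19 yj2 zj42) (kj xj17 yj19 zj18) (kj xj17 yj19 zj22) (kj xj17 yj12 zj35) (kj xj17 yj12 zj36) (kj xj17 yj12 zj37) (kj xj19 yj3 zj5) (kj xj18 yj26 zj42) (kj xj18 yj26 zj43) (kj xj19 yj3 zj18) (kj xj19 yj3 zj19) (kj xj19 yj4 zj47) (kj xj17 yj17 zj39) (kj xj17 yj18 zj6) (kj xj17 yj18 zj7) (kj xj17 yj17 zj44) (kj xj17 yj17 zj49) (kj xj17 yj17 zj50) (kj xj17 yj18 zj3) (kj xj18 yj16 zj12) (kj xj18 yj16 zj40) (kj xj18 yj17 zj18) (kj xj18 yj18 zj29) (kj xj17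 yj13 zj8) (kj xj17 yj13 zj10)) (@D3.rec (fun _ => Pt) (kj xj17 yj13 zj11) (kj xj17 yj13 zj13) (kj xj17 yj13 zj14) (kj xj17 yj13 zj16) (kj xj17 yj13 zj17) (kj xj17 yj13 zj20) (kj xj19 yj5 zj13) (kj xj17 yj17 zj19) (kj xj19 yj5 zj14) (kj xj19 yj5 zj15) (kj xj17 yj17 zj23) (kj xj19 yj5 zj16) (kj xj19 yj5 zj17) (kj xj19 yj5 zj18) (kj xj17 yj17 zj24) (kj xj19 yj5 zj19) (kj xj19 yj5 zj20) (kj xj18 yj26 zj33) (kj xj17 yj17 zj26) (kj xj19 yj5 zj21) (kj xj18 yj16 zj39) (kj xj18 yj16 zj41) (kj xj18 yj16 zj42) (kj xj18 yj17 zj19) (kj xj18 yj19 zj12) (kj xj18 yj19 zj13) (kj xj18 yj19 zj14) (kj xj17 yj13 zj45) (kj xj17 yj13 zj46) (kj xj17 yj13 zj47) (kj xj17 yj13 zj49) (kj xj17 yj13 zj50) (kj xj17 yj14 zj0) (kj xj17 yj14 zj1) (kj xj17 yj14 zj2) (kj xj17 yj14 zj5) (kj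 xj17 yj14 zj6) (kj xj17 yj14 zj7) (kj xj17 yj14 zj8) (kj xj17 yj14 zj9) (kj xj19 yj2 zj43) (kj xj17 yj14 zj12) (kj xj17 yj14 zj13) (kj xj18 yj26 zj50) (kj xj19 yj0 zj1) (kj xj18 yj25 zj24) (kj xj18 yj21 zj26) (kj xj18 yj25 zj25) (kj xj18 yj25 zj26) (kj xj19 yj0 zj31) (kj xj19 yj5 zj45)) (@D3.rec (fun _ => Pt) (kj xj19 yj5 zj46) (kj xj19 yj5 zj47) (kj xj19 yj5 zj48) (kj xj18 yj25 zj44) (kj xj19 yj5 zj49) (kj xj19 yj5 zj50) (kj xj19 yj6 zj0) (kj xj19 yj6 zj1) (kj xj19 yj6 zj2) (kj xj19 yj6 zj3) (kj xj19 yj6 zj4) (kj xj19 yj6 zj5) (kj xj17 yj14 zj4) (kj xj19 yj6 zj39) (kj xj19 yj6 zj40) (kj xj19 yj6 zj6) (kj xj19 yj6 zj7) (kj xj19 yj6 zj8) (kj xj19 yj6 zj9) (kj xj19 yj6 zj10) (kj xj17 yj14 zj11) (kj xj19 yj6 zj47) (kj xj19 yj6 zj12) (kj xj17 yj14 zj19) (kj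 xj17 yj14 zj20) (kj xj19 yj6 zj49) (kj xj17 yj14 zj22) (kj xj17 yj14 zj30) (kj xj17 yj14 zj31) (kj xj19 yj3 zj6) (kj xj18 yj21 zj27) (kj xj19 yj6 zj50) (kj xj17 yj15 zj4) (kj xj17 yj14 zj36) (kj xj18 yj23 zj21) (kj xj18 yj15 zj44) (kj xj18 yj15 zj26) (kj xj19 yj7 zj2) (kj xj18 yj20 zj33) (kj xj18 yj22 zj38) (kj xj18 yj22 zj39) (kj xj18 yj22 zj40) (kj xj18 yj22 zj41) (kj xj19 yj3 zj22) (kj xj17 yj15 zj5) (kj xj18 yj20 zj32) (kj xj18 yj23 zj22) (kj xj18 yj23 zj23) (kj xj18 yj23 zj24) (kj xj18 yj23 zj25) (kj xj18 yj23 zj26)) (@D3.rec (fun _ => Pt) (kj xj18 yj23 zj27) (kj xj18 yj23 zj28) (kj xj18 yj23 zj29) (kj xj18 yj23 zj30) (kj xj18 yj21 zj50) (kj xj19 yj7 zj1) (kj xj19 yj7 zj14) (kj xj18 yj24 zj3) (kj xj18 yj24 zj11) (kj xj18 yj24 zj6) (kj xj17 yj18 zj12)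 (kj xj18 yj15 zj31) (kj xj18 yj15 zj32) (kj xj19 yj3 zj23) (kj xj18 yj21 zj43) (kj xj17 yj15 zj22) (kj xj18 yj15 zj40) (kj xj18 yj15 zj41) (kj xj18 yj15 zj24) (kj xj19 yj7 zj38) (kj xj19 yj3 zj29) (kj xj19 yj3 zj30) (kj xj18 yj15 zj34) (kj xj18 yj17 zj35) (kj xj19 yj3 zj32) (kj xj19 yj3 zj33) (kj xj19 yj3 zj37) (kj xj19 yj3 zj38) (kj xj18 yj23 zj0) (kj xj19 yj3 zj41) (kj xj18 yj21 zj2) (kj xj18 yj21 zj3) (kj xj18 yj23 zj5) (kj xj18 yj23 zj6) (kj xj18 yj23 zj7) (kj xj17 yj15 zj45) (kj xj17 yj15 zj46) (kj xj17 yj16 zj3) (kj xj17 yj16 zj4) (kj xj17 yj16 zj9) (kj xj18 yj21 zj9) (kj xj18 yj21 zj10) (kj xj18 yj17 zj32) (kj xj18 yj17 zj33) (kj xj18 yj15 zj28) (kj xj19 yj8 zj5) (kj xj19 yj8 zj6) (kj xj18 yj15 zj39) (kj xj18 yj17 zj41) (kj xj18 yj17 zj42) (kj xj18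 yj18 zj1)) (@D3.rec (fun _ => Pt) (kj xj18 yj18 zj2) (kj xj18 yj15 zj17) (kj xj18 yj15 zj29) (kj xj17 yj16 zj7) (kj xj19 yj8 zj7) (kj xj19 yj8 zj8) (kj xj18 yj23 zj50) (kj xj18 yj21 zj49) (kj xj19 yj8 zj23) (kj xj19 yj3 zj25) (kj xj18 yj21 zj19) (kj xj18 yj24 zj20) (kj xj17 yj16 zj15) (kj xj19 yj8 zj31) (kj xj18 yj25 zj0) (kj xj18 yj24 zj34) (kj xj17 yj16 zj20) (kj xj18 yj24 zj50) (kj xj19 yj8 zj34) (kj xj18 yj17 zj29) (kj xj18 yj24 zj41) (kj xj18 yj20 zj41) (kj xj18 yj24 zj42) (kj xj18 yj24 zj43) (kj xj18 yj24 zj44) (kj xj17 yj16 zj37) (kj xj17 yj16 zj38) (kj xj17 yj16 zj39) (kj xj17 yj16 zj40) (kj xj17 yj16 zj41) (kj xj17 yj16 zj42) (kj xj17 yj16 zj43) (kj xj18 yj25 zj13) (kj xj17 yj16 zj44) (kj xj17 yj16 zj45) (kj xj18 yj25 zj31) (kj xj18 yj25 zj32)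 (kj xj19 yj8 zj44) (kj xj19 yj8 zj45) (kj xj19 yj8 zj46) (kj xj19 yj8 zj47) (kj xj19 yj8 zj48) (kj xj19 yj8 zj49) (kj xj19 yj8 zj50) (kj xj19 yj9 zj0) (kj xj19 yj9 zj1) (kj xj19 yj9 zj3) (kj xj17 yj16 zj48) (kj xj18 yj16 zj36) (kj xj18 yj16 zj37) (kj xj18 yj24 zj49)) (@D3.rec (fun _ => Pt) (kj xj17 yj17 zj2) (kj xj19 yj9 zj18) (kj xj18 yj25 zj45) (kj xj18 yj25 zj46) (kj xj18 yj25 zj47) (kj xj18 yj25 zj48) (kj xj17 yj17 zj11) (kj xj17 yj17 zj14) (kj xj17 yj17 zj15) (kj xj19 yj0 zj29) (kj xj18 yj19 zj36) (kj xj19 yj9 zj23) (kj xj18 yj18 zj47) (kj xj18 yj19 zj47) (kj xj19 yj9 zj24) (kj xj17 yj18 zj31) (kj xj17 yj19 zj7) (kj xj19 yj0 zj20) (kj xj19 yj5 zj24) (kj xj18 yj20 zj0) (kj xj18 yj16 zj48) (kj xj18 yj26 zj9) (kj xj19 yj5 zj27) (kj xj18 yj25 zj9) (kj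 xj19 yj5 zj32) (kj xj18 yj25 zj8) (kj xj19 yj5 zj36) (kj xj18 yj18 zj40) (kj xj19 yj0 zj14) (kj xj19 yj0 zj16) (kj xj19 yj0 zj17) (kj xj19 yj0 zj18) (kj xj17 yj17 zj40) (kj xj17 yj17 zj46) (kj xj17 yj18 zj0) (kj xj17 yj18 zj4) (kj xj19 yj0 zj33) (kj xj18 yj18 zj36) (kj xj18 yj26 zj12) (kj xj18 yj26 zj15) (kj xj19 yj5 zj0) (kj xj19 yj5 zj1) (kj xj19 yj9 zj49) (kj xj18 yj15 zj50) (kj xj18 yj26 zj45) (kj xj18 yj17 zj38) (kj xj19 yj5 zj3) (kj xj19 yj5 zj4) (kj xj18 yj26 zj10) (kj xj19 yj9 zj50) (kj xj17 yj17 zj48)) (@D3.rec (fun _ => Pt) (kj xj19 yj10 zj19) (kj xj19 yj10 zj20) (kj xj19 yj5 zj5) (kj xj19 yj5 zj6) (kj xj19 yj10 zj0) (kj xj17 yj18 zj2) (kj xj19 yj10 zj26) (kj xj19 yj5 zj7) (kj xj19 yj5 zj2) (kj xj17 yj18 zj9) (kj xj19 yj1 zj9) (kj xj19 yj1 zj10)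 (kj xj19 yj1 zj11) (kj xj19 yj7 zj32) (kj xj19 yj7 zj33) (kj xj19 yj1 zj16) (kj xj19 yj1 zj17) (kj xj19 yj1 zj18) (kj xj17 yj18 zj32) (kj xj17 yj18 zj33) (kj xj17 yj18 zj34) (kj xj17 yj18 zj41) (kj xj17 yj18 zj45) (kj xj17 yj18 zj46) (kj xj17 yj18 zj47) (kj xj17 yj18 zj48) (kj xj17 yj18 zj49) (kj xj17 yj18 zj50) (kj xj19 yj4 zj9) (kj xj17 yj18 zj26) (kj xj19 yj10 zj47) (kj xj17 yj19 zj2) (kj xj19 yj0 zj32) (kj xj19 yj0 zj34) (kj xj19 yj9 zj30) (kj xj19 yj9 zj31) (kj xj19 yj10 zj36) (kj xj19 yj10 zj37) (kj xj19 yj10 zj38) (kj xj18 yj16 zj1) (kj xj19 yj4 zj11) (kj xj19 yj4 zj12) (kj xj18 yj17 zj39) (kj xj18 yj17 zj40) (kj xj18 yj17 zj47) (kj xj18 yj17 zj48) (kj xj18 yj26 zj11) (kj xj19 yj10 zj39) (kj xj17 yj18 zj43) (kj xj17 yj18 zj44) (kj xj19 yj11 zj16))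 (@D3.rec (fun _ => Pt) (kj xj19 yj11 zj14) (kj xj19 yj11 zj17) (kj xj19 yj10 zj40) (kj xj19 yj10 zj41) (kj xj19 yj10 zj42) (kj xj19 yj10 zj44) (kj xj19 yj10 zj45) (kj xj17 yj19 zj1) (kj xj19 yj11 zj23) (kj xj17 yj19 zj8) (kj xj19 yj4 zj10) (kj xj18 yj20 zj16) (kj xj18 yj25 zj10) (kj xj18 yj19 zj6) (kj xj18 yj16 zj2) (kj xj19 yj4 zj13) (kj xj18 yj0 zj42) (kj xj18 yj12 zj1) (kj xj18 yj1 zj7) (kj xj17 yj19 zj31) (kj xj17 yj19 zj32) (kj xj18 yj0 zj7) (kj xj18 yj7 zj11) (kj xj19 yj11 zj28) (kj xj18 yj11 zj18) (kj xj19 yj11 zj29) (kj xj18 yj10 zj36) (kj xj18 yj2 zj15) (kj xj18 yj11 zj44) (kj xj18 yj12 zj2) (kj xj17 yj19 zj41) (kj xj18 yj11 zj11) (kj xj18 yj11 zj12) (kj xj19 yj11 zj39) (kj xj18 yj11 zj22) (kj xj17 yj19 zj50) (kj xj18 yj7 zj6) (kj xj17 yj19 zj47)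 (kj xj19 yj11 zj45) (kj xj18 yj11 zj47) (kj xj18 yj11 zj16) (kj xj18 yj11 zj17) (kj xj19 yj11 zj43) (kj xj18 yj0 zj13) (kj xj18 yj10 zj35) (kj xj18 yj1 zj36) (kj xj17 yj20 zj13) (kj xj17 yj20 zj14) (kj xj18 yj3 zj1) (kj xj18 yj3 zj21) (kj xj18 yj13 zj43)) (@D3.rec (fun _ => Pt) (kj xj18 yj5 zj38) (kj xj18 yj14 zj39) (kj xj18 yj15 zj14) (kj xj19 yj12 zj3) (kj xj19 yj12 zj4) (kj xj17 yj21 zj47) (kj xj17 yj20 zj23) (kj xj17 yj20 zj24) (kj xj17 yj20 zj25) (kj xj18 yj2 zj36) (kj xj17 yj20 zj26) (kj xj17 yj20 zj27) (kj xj18 yj8 zj45) (kj xj19 yj12 zj17) (kj xj19 yj12 zj18) (kj xj19 yj12 zj19) (kj xj19 yj12 zj20) (kj xj19 yj12 zj22) (kj xj19 yj12 zj23) (kj xj19 yj12 zj24) (kj xj17 yj20 zj32) (kj xj18 yj2 zj42) (kj xj17 yj20 zj33) (kj xj17 yj20 zj34) (kj xj19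 yj12 zj37) (kj xj18 yj7 zj17) (kj xj17 yj20 zj50) (kj xj17 yj21 zj0) (kj xj17 yj21 zj1) (kj xj17 yj21 zj2) (kj xj18 yj3 zj4) (kj xj17 yj21 zj3) (kj xj17 yj21 zj4) (kj xj17 yj21 zj5) (kj xj18 yj6 zj49) (kj xj18 yj6 zj50) (kj xj18 yj12 zj48) (kj xj18 yj12 zj49) (kj xj18 yj3 zj50) (kj xj18 yj9 zj20) (kj xj18 yj8 zj46) (kj xj18 yj9 zj21) (kj xj18 yj9 zj22) (kj xj19 yj12 zj40) (kj xj19 yj12 zj41) (kj xj19 yj12 zj42) (kj xj19 yj12 zj43) (kj xj19 yj12 zj44) (kj xj18 yj13 zj20) (kj xj19 yj12 zj48) (kj xj19 yj12 zj49)) (@D3.rec (fun _ => Pt) (kj xj19 yj12 zj50) (kj xj17 yj21 zj13) (kj xj17 yj21 zj14) (kj xj17 yj21 zj15) (kj xj18 yj3 zj45) (kj xj18 yj3 zj24) (kj xj18 yj3 zj25) (kj xj17 yj21 zj17) (kj xj19 yj13 zj23) (kj xj19 yj13 zj24) (kj xj19 yj13 zj28) (kj xj18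 yj3 zj29) (kj xj18 yj3 zj30) (kj xj18 yj7 zj4) (kj xj18 yj4 zj3) (kj xj18 yj7 zj3) (kj xj18 yj1 zj19) (kj xj18 yj1 zj21) (kj xj18 yj8 zj47) (kj xj18 yj9 zj23) (kj xj17 yj21 zj32) (kj xj19 yj13 zj35) (kj xj17 yj24 zj46) (kj xj17 yj24 zj47) (kj xj17 yj24 zj48) (kj xj17 yj24 zj49) (kj xj17 yj21 zj41) (kj xj17 yj21 zj42) (kj xj17 yj21 zj44) (kj xj18 yj12 zj19) (kj xj19 yj13 zj40) (kj xj19 yj13 zj41) (kj xj18 yj11 zj42) (kj xj18 yj11 zj43) (kj xj19 yj13 zj42) (kj xj18 yj11 zj23) (kj xj19 yj12 zj16) (kj xj17 yj22 zj2) (kj xj18 yj13 zj45) (kj xj18 yj14 zj42) (kj xj18 yj14 zj43) (kj xj18 yj11 zj48) (kj xj18 yj11 zj49) (kj xj19 yj14 zj2) (kj xj18 yj7 zj49) (kj xj18 yj7 zj50) (kj xj17 yj22 zj13) (kj xj18 yj14 zj44) (kj xj18 yj14 zj45) (kj xj17 yj22 zj10) (kj xj19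 yj14 zj16)) (@D3.rec (fun _ => Pt) (kj xj19 yj14 zj17) (kj xj18 yj11 zj50) (kj xj18 yj12 zj0) (kj xj19 yj14 zj13) (kj xj17 yj22 zj15) (kj xj17 yj22 zj28) (kj xj17 yj22 zj29) (kj xj17 yj22 zj30) (kj xj17 yj22 zj31) (kj xj17 yj22 zj32) (kj xj17 yj22 zj33) (kj xj18 yj4 zj9) (kj xj17 yj22 zj34) (kj xj17 yj22 zj35) (kj xj17 yj26 zj33) (kj xj17 yj26 zj34) (kj xj19 yj14 zj22) (kj xj19 yj13 zj25) (kj xj19 yj14 zj23) (kj xj19 yj14 zj24) (kj xj19 yj14 zj25) (kj xj19 yj14 zj26) (kj xj19 yj14 zj27) (kj xj19 yj14 zj28) (kj xj19 yj14 zj30) (kj xj19 yj14 zj31) (kj xj19 yj14 zj32) (kj xj18 yj3 zj37) (kj xj18 yj4 zj4) (kj xj18 yj8 zj48) (kj xj17 yj22 zj48) (kj xj17 yj22 zj49) (kj xj17 yj23 zj1) (kj xj17 yj23 zj3) (kj xj17 yj23 zj4) (kj xj17 yj23 zj5) (kj xj18 yj13 zj37)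 (kj xj17 yj23 zj8) (kj xj17 yj23 zj9) (kj xj17 yj23 zj10) (kj xj18 yj13 zj27) (kj xj19 yj15 zj3) (kj xj19 yj15 zj4) (kj xj18 yj5 zj44) (kj xj18 yj5 zj47) (kj xj19 yj15 zj5) (kj xj19 yj15 zj6) (kj xj18 yj13 zj12) (kj xj19 yj15 zj7) (kj xj19 yj15 zj8) (kj xj19 yj15 zj9)) (@D3.rec (fun _ => Pt) (kj xj17 yj23 zj7) (kj xj19 yj15 zj29) (kj xj19 yj15 zj30) (kj xj19 yj15 zj12) (kj xj19 yj15 zj13) (kj xj19 yj15 zj14) (kj xj18 yj15 zj13) (kj xj17 yj23 zj17) (kj xj17 yj23 zj16) (kj xj19 yj15 zj37) (kj xj17 yj23 zj19) (kj xj19 yj15 zj39) (kj xj18 yj9 zj24) (kj xj18 yj9 zj25) (kj xj18 yj9 zj26) (kj xj17 yj23 zj35) (kj xj17 yj23 zj36) (kj xj17 yj23 zj40) (kj xj17 yj23 zj41) (kj xj17 yj23 zj42) (kj xj17 yj23 zj49) (kj xj17 yj23 zj50) (kj xj17 yj24 zj0) (kj xj18 yj3 zj46)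 (kj xj17 yj23 zj30) (kj xj19 yj16 zj3) (kj xj19 yj16 zj4) (kj xj17 yj24 zj5) (kj xj17 yj24 zj6) (kj xj17 yj24 zj7) (kj xj18 yj7 zj33) (kj xj19 yj15 zj45) (kj xj19 yj15 zj46) (kj xj18 yj1 zj25) (kj xj18 yj7 zj34) (kj xj18 yj7 zj35) (kj xj18 yj13 zj10) (kj xj19 yj15 zj47) (kj xj19 yj15 zj48) (kj xj19 yj15 zj49) (kj xj18 yj6 zj5) (kj xj18 yj6 zj2) (kj xj18 yj7 zj36) (kj xj18 yj7 zj37) (kj xj18 yj4 zj29) (kj xj17 yj23 zj47) (kj xj19 yj16 zj28) (kj xj18 yj13 zj13) (kj xj19 yj15 zj50) (kj xj19 yj16 zj0) (kj xj19 yj16 zj1)) (@D3.rec (fun _ => Pt) (kj xj18 yj13 zj19) (kj xj17 yj24 zj3) (kj xj17 yj24 zj4) (kj xj19 yj16 zj34) (kj xj19 yj16 zj35) (kj xj19 yj16 zj8) (kj xj19 yj16 zj9) (kj xj19 yj16 zj10) (kj xj17 yj24 zj11) (kj xj18 yj1 zj13) (kj xj17 yj24 zj15) (kj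 xj17 yj24 zj16) (kj xj19 yj16 zj41) (kj xj18 yj4 zj2) (kj xj17 yj26 zj39) (kj xj18 yj1 zj26) (kj xj18 yj15 zj11) (kj xj17 yj24 zj30) (kj xj19 yj16 zj44) (kj xj17 yj24 zj35) (kj xj17 yj25 zj6) (kj xj17 yj25 zj11) (kj xj17 yj25 zj3) (kj xj19 yj16 zj46) (kj xj17 yj25 zj4) (kj xj17 yj25 zj27) (kj xj17 yj24 zj42) (kj xj17 yj25 zj21) (kj xj17 yj25 zj22) (kj xj17 yj25 zj17) (kj xj17 yj25 zj18) (kj xj19 yj17 zj2) (kj xj18 yj10 zj45) (kj xj18 yj10 zj38) (kj xj19 yj13 zj37) (kj xj19 yj12 zj2) (kj xj19 yj13 zj38) (kj xj19 yj13 zj39) (kj xj17 yj25 zj7) (kj xj18 yj7 zj18) (kj xj18 yj7 zj26) (kj xj18 yj12 zj21) (kj xj19 yj16 zj49) (kj xj19 yj16 zj50) (kj xj17 yj26 zj3) (kj xj17 yj25 zj32) (kj xj19 yj16 zj47) (kj xj19 yj16 zj48) (kj xj19 yj17 zj16) (kj xj17 yj25 zj33)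 (kj xj17 yj25 zj49)) (@D3.rec (fun _ => Pt) (kj xj18 yj7 zj15) (kj xj17 yj25 zj23) (kj xj18 yj11 zj30) (kj xj18 yj11 zj31) (kj xj18 yj1 zj30) (kj xj18 yj1 zj31) (kj xj19 yj17 zj5) (kj xj19 yj17 zj6) (kj xj17 yj26 zj17) (kj xj18 yj11 zj40) (kj xj18 yj11 zj41) (kj xj19 yj17 zj3) (kj xj19 yj17 zj4) (kj xj19 yj17 zj31) (kj xj17 yj26 zj14) (kj xj19 yj17 zj1) (kj xj17 yj25 zj34) (kj xj17 yj25 zj40) (kj xj17 yj25 zj50) (kj xj18 yj12 zj10) (kj xj19 yj17 zj24) (kj xj19 yj17 zj25) (kj xj19 yj17 zj45) (kj xj17 yj25 zj41) (kj xj18 yj4 zj50) (kj xj18 yj5 zj11) (kj xj18 yj9 zj46) (kj xj18 yj10 zj30) (kj xj19 yj17 zj46) (kj xj19 yj18 zj2) (kj xj17 yj25 zj48) (kj xj17 yj26 zj0) (kj xj17 yj26 zj12) (kj xj17 yj26 zj21) (kj xj18 yj5 zj4) (kj xj17 yj26 zj9) (kj xj19 yj18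 zj11) (kj xj19 yj17 zj29) (kj xj18 yj0 zj15) (kj xj19 yj17 zj47) (kj xj19 yj17 zj23) (kj xj19 yj18 zj12) (kj xj18 yj0 zj6) (kj xj18 yj11 zj14) (kj xj17 yj26 zj13) (kj xj18 yj0 zj3) (kj xj17 yj26 zj16) (kj xj17 yj26 zj18) (kj xj19 yj18 zj17) (kj xj18 yj12 zj7) (kj xj18 yj11 zj4)) (@D3.rec (fun _ => Pt) (kj xj18 yj0 zj48) (kj xj19 yj18 zj13) (kj xj19 yj18 zj14) (kj xj19 yj18 zj26) (kj xj19 yj17 zj43) (kj xj18 yj1 zj10) (kj xj19 yj18 zj28) (kj xj19 yj17 zj38) (kj xj19 yj18 zj29) (kj xj18 yj1 zj9) (kj xj18 yj1 zj8) (kj xj18 yj0 zj47) (kj xj18 yj1 zj22) (kj xj17 yj26 zj36) (kj xj17 yj26 zj37) (kj xj17 yj26 zj38) (kj xj17 yj26 zj40) (kj xj17 yj26 zj41) (kj xj19 yj14 zj33) (kj xj19 yj12 zj34) (kj xj19 yj14 zj34) (kj xj18 yj5 zj29) (kj xj19 yj18 zj46) (kj xj19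 yj18 zj47) (kj xj19 yj18 zj48) (kj xj19 yj16 zj43) (kj xj19 yj13 zj32) (kj xj19 yj18 zj49) (kj xj19 yj18 zj50) (kj xj19 yj19 zj0) (kj xj18 yj7 zj22) (kj xj18 yj0 zj1) (kj xj18 yj0 zj2) (kj xj18 yj0 zj4) (kj xj18 yj0 zj5) (kj xj18 yj0 zj8) (kj xj18 yj0 zj9) (kj xj18 yj0 zj10) (kj xj18 yj10 zj39) (kj xj18 yj10 zj40) (kj xj18 yj10 zj41) (kj xj18 yj10 zj42) (kj xj19 yj19 zj18) (kj xj19 yj19 zj19) (kj xj19 yj19 zj20) (kj xj19 yj18 zj27) (kj xj19 yj12 zj0) (kj xj19 yj19 zj21) (kj xj19 yj19 zj22) (kj xj19 yj18 zj24) (kj xj19 yj11 zj30)) (@D3.rec (fun _ => Pt) (kj xj18 yj11 zj28) (kj xj19 yj19 zj23) (kj xj19 yj19 zj24) (kj xj19 yj19 zj25) (kj xj19 yj18 zj20) (kj xj18 yj11 zj32) (kj xj18 yj11 zj33) (kj xj18 yj11 zj34) (kj xj18 yj0 zj37) (kj xj18 yj0 zj38) (kj xj18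 yj0 zj39) (kj xj18 yj0 zj40) (kj xj18 yj0 zj41) (kj xj18 yj0 zj43) (kj xj18 yj0 zj44) (kj xj18 yj0 zj45) (kj xj18 yj0 zj46) (kj xj18 yj1 zj1) (kj xj18 yj1 zj2) (kj xj18 yj1 zj3) (kj xj18 yj1 zj35) (kj xj18 yj10 zj34) (kj xj18 yj10 zj46) (kj xj18 yj10 zj47) (kj xj18 yj10 zj48) (kj xj18 yj10 zj49) (kj xj18 yj10 zj50) (kj xj18 yj11 zj0) (kj xj18 yj11 zj1) (kj xj18 yj11 zj2) (kj xj18 yj11 zj3) (kj xj19 yj19 zj50) (kj xj19 yj20 zj0) (kj xj19 yj20 zj1) (kj xj19 yj20 zj2) (kj xj19 yj20 zj3) (kj xj19 yj20 zj4) (kj xj19 yj20 zj5) (kj xj19 yj18 zj44) (kj xj19 yj11 zj25) (kj xj19 yj11 zj26) (kj xj19 yj20 zj6) (kj xj19 yj20 zj7) (kj xj19 yj18 zj43) (kj xj19 yj20 zj8) (kj xj19 yj20 zj9) (kj xj19 yj18 zj42) (kj xj19 yj18 zj32) (kj xj18 yj0 zj50) (kj xj19 yj20 zj49)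 (kj xj18 yj12 zj6)) (@D3.rec (fun _ => Pt) (kj xj19 yj20 zj10) (kj xj19 yj20 zj11) (kj xj19 yj18 zj39) (kj xj18 yj11 zj7) (kj xj19 yj18 zj36) (kj xj19 yj16 zj7) (kj xj18 yj11 zj9) (kj xj18 yj6 zj39) (kj xj18 yj6 zj22) (kj xj19 yj15 zj36) (kj xj18 yj1 zj20) (kj xj18 yj11 zj8) (kj xj19 yj13 zj33) (kj xj19 yj18 zj45) (kj xj19 yj13 zj2) (kj xj18 yj3 zj31) (kj xj18 yj1 zj27) (kj xj19 yj16 zj14) (kj xj19 yj16 zj15) (kj xj19 yj21 zj12) (kj xj18 yj12 zj11) (kj xj18 yj1 zj32) (kj xj19 yj17 zj34) (kj xj19 yj17 zj35) (kj xj19 yj21 zj17) (kj xj18 yj1 zj37) (kj xj18 yj1 zj38) (kj xj19 yj20 zj12) (kj xj19 yj12 zj1) (kj xj19 yj11 zj36) (kj xj19 yj21 zj20) (kj xj19 yj21 zj21) (kj xj19 yj21 zj22) (kj xj18 yj2 zj23) (kj xj18 yj12 zj15) (kj xj18 yj1 zj43) (kj xj18 yj1 zj44)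 (kj xj18 yj1 zj45) (kj xj19 yj21 zj32) (kj xj19 yj21 zj33) (kj xj19 yj21 zj34) (kj xj18 yj12 zj20) (kj xj18 yj12 zj22) (kj xj18 yj12 zj23) (kj xj18 yj12 zj24) (kj xj18 yj2 zj6) (kj xj18 yj2 zj10) (kj xj18 yj2 zj11) (kj xj18 yj2 zj12) (kj xj18 yj12 zj50) (kj xj18 yj12 zj17)) (@D3.rec (fun _ => Pt) (kj xj18 yj12 zj14) (kj xj19 yj21 zj41) (kj xj18 yj2 zj8) (kj xj18 yj2 zj9) (kj xj19 yj21 zj47) (kj xj19 yj21 zj48) (kj xj19 yj21 zj42) (kj xj19 yj21 zj43) (kj xj18 yj13 zj25) (kj xj18 yj13 zj23) (kj xj18 yj15 zj12) (kj xj18 yj2 zj18) (kj xj19 yj22 zj4) (kj xj18 yj12 zj32) (kj xj18 yj2 zj24) (kj xj18 yj2 zj25) (kj xj18 yj2 zj26) (kj xj19 yj21 zj29) (kj xj19 yj21 zj30) (kj xj19 yj22 zj7) (kj xj19 yj22 zj8) (kj xj19 yj22 zj9) (kj xj18 yj2 zj32) (kj xj18 yj2 zj33)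 (kj xj18 yj9 zj45) (kj xj18 yj9 zj47) (kj xj18 yj9 zj48) (kj xj18 yj6 zj44) (kj xj19 yj22 zj14) (kj xj19 yj22 zj15) (kj xj19 yj22 zj16) (kj xj18 yj12 zj35) (kj xj18 yj12 zj36) (kj xj19 yj12 zj21) (kj xj18 yj2 zj39) (kj xj18 yj2 zj40) (kj xj18 yj2 zj41) (kj xj19 yj22 zj31) (kj xj19 yj22 zj32) (kj xj19 yj22 zj33) (kj xj19 yj12 zj35) (kj xj19 yj12 zj36) (kj xj18 yj2 zj45) (kj xj19 yj22 zj39) (kj xj18 yj10 zj3) (kj xj18 yj13 zj2) (kj xj18 yj13 zj3) (kj xj18 yj13 zj4) (kj xj18 yj13 zj5) (kj xj18 yj3 zj12) (kj xj18 yj3 zj14)) (@D3.rec (fun _ => Pt) (kj xj19 yj12 zj5) (kj xj18 yj3 zj15) (kj xj18 yj3 zj16) (kj xj18 yj3 zj17) (kj xj19 yj12 zj46) (kj xj19 yj12 zj47) (kj xj18 yj3 zj18) (kj xj18 yj3 zj19) (kj xj18 yj3 zj20) (kj xj18 yj13 zj21) (kj xj18 yj13 zj48)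 (kj xj18 yj14 zj46) (kj xj18 yj13 zj38) (kj xj19 yj22 zj47) (kj xj19 yj22 zj48) (kj xj18 yj13 zj39) (kj xj19 yj22 zj49) (kj xj19 yj23 zj1) (kj xj19 yj23 zj2) (kj xj19 yj23 zj3) (kj xj19 yj23 zj7) (kj xj19 yj23 zj8) (kj xj19 yj23 zj9) (kj xj19 yj12 zj6) (kj xj19 yj12 zj7) (kj xj18 yj3 zj27) (kj xj19 yj13 zj26) (kj xj19 yj13 zj27) (kj xj18 yj3 zj28) (kj xj19 yj23 zj26) (kj xj19 yj21 zj11) (kj xj18 yj6 zj38) (kj xj19 yj21 zj10) (kj xj18 yj9 zj17) (kj xj18 yj3 zj44) (kj xj18 yj4 zj0) (kj xj18 yj4 zj1) (kj xj19 yj14 zj50) (kj xj18 yj4 zj5) (kj xj18 yj4 zj6) (kj xj18 yj4 zj7) (kj xj18 yj8 zj10) (kj xj18 yj8 zj33) (kj xj18 yj8 zj34) (kj xj18 yj4 zj27) (kj xj18 yj13 zj44) (kj xj19 yj23 zj31) (kj xj19 yj16 zj2) (kj xj19 yj12 zj45) (kj xj19 yj13 zj31) (kj xj18 yj9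 zj43))
def f_j_19 : D2 → D3 → Pt := @D2.rec (fun _ => D3 → Pt) (@D3.rec (fun _ => Pt) (kj xj18 yj5 zj32) (kj xj18 yj9 zj44) (kj xj19 yj13 zj5) (kj xj19 yj23 zj32) (kj xj19 yj23 zj33) (kj xj19 yj23 zj34) (kj xj19 yj16 zj40) (kj xj19 yj13 zj30) (kj xj19 yj21 zj7) (kj xj19 yj15 zj0) (kj xj19 yj15 zj1) (kj xj19 yj23 zj37) (kj xj19 yj23 zj38) (kj xj19 yj23 zj39) (kj xj18 yj13 zj28) (kj xj19 yj14 zj29) (kj xj18 yj13 zj29) (kj xj18 yj13 zj30) (kj xj18 yj13 zj31) (kj xj18 yj4 zj22) (kj xj18 yj13 zj17) (kj xj18 yj4 zj28) (kj xj18 yj4 zj30) (kj xj18 yj4 zj17) (kj xj19 yj24 zj30) (kj xj19 yj24 zj31) (kj xj18 yj4 zj34) (kj xj18 yj4 zj35) (kj xj18 yj4 zj36) (kj xj18 yj13 zj9) (kj xj19 yj24 zj26) (kj xj18 yj9 zj49) (kj xj18 yj14 zj32) (kj xj18 yj13 zj36) (kj xj18 yj14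 zj33) (kj xj19 yj23 zj44) (kj xj19 yj24 zj28) (kj xj19 yj16 zj26) (kj xj19 yj24 zj29) (kj xj18 yj4 zj32) (kj xj18 yj4 zj33) (kj xj19 yj24 zj47) (kj xj19 yj24 zj48) (kj xj19 yj24 zj35) (kj xj19 yj24 zj36) (kj xj19 yj24 zj37) (kj xj18 yj4 zj39) (kj xj18 yj4 zj40) (kj xj18 yj6 zj15) (kj xj19 yj25 zj4) (kj xj19 yj21 zj8)) (@D3.rec (fun _ => Pt) (kj xj18 yj4 zj46) (kj xj18 yj4 zj47) (kj xj18 yj4 zj45) (kj xj19 yj25 zj9) (kj xj19 yj25 zj7) (kj xj19 yj25 zj8) (kj xj18 yj5 zj46) (kj xj18 yj5 zj36) (kj xj19 yj18 zj3) (kj xj18 yj14 zj10) (kj xj18 yj14 zj11) (kj xj18 yj14 zj12) (kj xj18 yj5 zj31) (kj xj18 yj5 zj30) (kj xj19 yj18 zj15) (kj xj19 yj18 zj16) (kj xj18 yj14 zj15) (kj xj18 yj14 zj16) (kj xj18 yj14 zj17) (kj xj18 yj5 zj28) (kj xj18 yj5 zj33) (kj xj18 yj5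 zj34) (kj xj18 yj5 zj35) (kj xj19 yj18 zj4) (kj xj18 yj5 zj40) (kj xj18 yj5 zj41) (kj xj18 yj5 zj42) (kj xj18 yj5 zj43) (kj xj18 yj5 zj45) (kj xj18 yj5 zj17) (kj xj19 yj25 zj40) (kj xj19 yj25 zj41) (kj xj18 yj6 zj0) (kj xj18 yj6 zj1) (kj xj18 yj6 zj3) (kj xj18 yj6 zj4) (kj xj18 yj5 zj23) (kj xj18 yj5 zj24) (kj xj19 yj25 zj49) (kj xj19 yj25 zj50) (kj xj19 yj20 zj39) (kj xj18 yj6 zj10) (kj xj18 yj6 zj11) (kj xj18 yj6 zj12) (kj xj19 yj25 zj29) (kj xj19 yj19 zj5) (kj xj19 yj25 zj23) (kj xj19 yj25 zj20) (kj xj19 yj25 zj22) (kj xj19 yj24 zj4) (kj xj19 yj25 zj30)) (@D3.rec (fun _ => Pt) (kj xj19 yj25 zj31) (kj xj19 yj25 zj32) (kj xj19 yj25 zj15) (kj xj18 yj5 zj39) (kj xj19 yj12 zj9) (kj xj19 yj26 zj16) (kj xj19 yj26 zj17) (kj xj19 yj25 zj35) (kj xj19 yj15 zj24)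 (kj xj19 yj25 zj36) (kj xj19 yj25 zj37) (kj xj19 yj15 zj21) (kj xj19 yj25 zj38) (kj xj19 yj15 zj19) (kj xj19 yj25 zj39) (kj xj19 yj25 zj14) (kj xj19 yj13 zj1) (kj xj19 yj15 zj20) (kj xj18 yj5 zj49) (kj xj18 yj5 zj50) (kj xj19 yj26 zj36) (kj xj19 yj26 zj37) (kj xj19 yj26 zj38) (kj xj19 yj25 zj45) (kj xj19 yj25 zj46) (kj xj19 yj25 zj47) (kj xj19 yj16 zj23) (kj xj19 yj25 zj48) (kj xj19 yj16 zj22) (kj xj18 yj6 zj8) (kj xj18 yj6 zj9) (kj xj19 yj26 zj47) (kj xj19 yj26 zj48) (kj xj19 yj26 zj49) (kj xj19 yj26 zj4) (kj xj19 yj26 zj5) (kj xj19 yj26 zj6) (kj xj18 yj6 zj16) (kj xj19 yj25 zj5) (kj xj20 yj0 zj6) (kj xj18 yj6 zj28) (kj xj18 yj6 zj21) (kj xj18 yj8 zj26) (kj xj18 yj9 zj40) (kj xj20 yj0 zj10) (kj xj18 yj6 zj31) (kj xj18 yj6 zj32) (kj xj18 yj6 zj33) (kj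 xj18 yj6 zj27) (kj xj20 yj0 zj9) (kj xj18 yj6 zj30)) (@D3.rec (fun _ => Pt) (kj xj19 yj22 zj21) (kj xj20 yj0 zj14) (kj xj20 yj0 zj15) (kj xj20 yj0 zj16) (kj xj20 yj0 zj17) (kj xj18 yj8 zj32) (kj xj18 yj10 zj29) (kj xj18 yj6 zj46) (kj xj19 yj22 zj22) (kj xj18 yj6 zj45) (kj xj18 yj6 zj47) (kj xj18 yj6 zj48) (kj xj19 yj18 zj7) (kj xj20 yj0 zj24) (kj xj20 yj0 zj26) (kj xj19 yj24 zj1) (kj xj19 yj13 zj0) (kj xj18 yj7 zj41) (kj xj18 yj8 zj35) (kj xj18 yj8 zj36) (kj xj18 yj7 zj9) (kj xj19 yj11 zj44) (kj xj18 yj10 zj43) (kj xj18 yj11 zj13) (kj xj20 yj0 zj30) (kj xj18 yj12 zj9) (kj xj19 yj11 zj31) (kj xj18 yj7 zj21) (kj xj18 yj7 zj24) (kj xj18 yj11 zj20) (kj xj18 yj11 zj21) (kj xj19 yj17 zj30) (kj xj18 yj11 zj24) (kj xj18 yj11 zj25) (kj xj19 yj12 zj39) (kj xj19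 yj17 zj17) (kj xj19 yj17 zj18) (kj xj18 yj11 zj26) (kj xj18 yj11 zj27) (kj xj20 yj0 zj34) (kj xj19 yj19 zj17) (kj xj18 yj11 zj29) (kj xj18 yj7 zj42) (kj xj18 yj7 zj43) (kj xj18 yj7 zj44) (kj xj18 yj7 zj31) (kj xj20 yj0 zj49) (kj xj18 yj7 zj38) (kj xj19 yj16 zj11) (kj xj19 yj16 zj16) (kj xj19 yj16 zj17)) (@D3.rec (fun _ => Pt) (kj xj19 yj16 zj24) (kj xj19 yj16 zj25) (kj xj18 yj7 zj40) (kj xj20 yj1 zj3) (kj xj19 yj26 zj35) (kj xj20 yj0 zj29) (kj xj20 yj0 zj46) (kj xj20 yj0 zj47) (kj xj20 yj0 zj48) (kj xj18 yj14 zj28) (kj xj18 yj15 zj10) (kj xj18 yj14 zj40) (kj xj18 yj14 zj41) (kj xj18 yj15 zj15) (kj xj19 yj14 zj10) (kj xj19 yj14 zj11) (kj xj19 yj14 zj12) (kj xj18 yj8 zj11) (kj xj18 yj8 zj12) (kj xj18 yj8 zj13) (kj xj18 yj8 zj14) (kj xj18 yj8 zj15) (kj xj18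 yj8 zj16) (kj xj18 yj8 zj17) (kj xj18 yj8 zj18) (kj xj18 yj8 zj19) (kj xj18 yj8 zj20) (kj xj18 yj8 zj21) (kj xj20 yj0 zj11) (kj xj18 yj8 zj22) (kj xj18 yj8 zj23) (kj xj19 yj23 zj40) (kj xj19 yj23 zj41) (kj xj20 yj1 zj16) (kj xj20 yj1 zj17) (kj xj20 yj1 zj18) (kj xj20 yj1 zj19) (kj xj20 yj1 zj20) (kj xj20 yj1 zj21) (kj xj20 yj1 zj22) (kj xj20 yj1 zj23) (kj xj20 yj1 zj24) (kj xj20 yj1 zj25) (kj xj20 yj1 zj26) (kj xj20 yj1 zj27) (kj xj20 yj1 zj28) (kj xj20 yj1 zj30) (kj xj18 yj8 zj37) (kj xj20 yj0 zj23) (kj xj19 yj23 zj42) (kj xj19 yj23 zj43)) (@D3.rec (fun _ => Pt) (kj xj18 yj13 zj40) (kj xj18 yj13 zj41) (kj xj18 yj14 zj8) (kj xj18 yj13 zj46) (kj xj18 yj13 zj47) (kj xj18 yj14 zj2) (kj xj18 yj14 zj3) (kj xj18 yj14 zj7) (kj xj19 yj12 zj25) (kj xj19 yj13 zj8)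 (kj xj19 yj13 zj9) (kj xj19 yj13 zj34) (kj xj19 yj15 zj2) (kj xj18 yj9 zj6) (kj xj18 yj9 zj8) (kj xj18 yj9 zj9) (kj xj18 yj9 zj11) (kj xj18 yj9 zj12) (kj xj18 yj9 zj13) (kj xj18 yj9 zj15) (kj xj18 yj9 zj16) (kj xj18 yj9 zj19) (kj xj20 yj2 zj10) (kj xj20 yj2 zj11) (kj xj18 yj13 zj18) (kj xj20 yj2 zj12) (kj xj20 yj2 zj13) (kj xj18 yj13 zj22) (kj xj20 yj2 zj14) (kj xj20 yj2 zj15) (kj xj20 yj2 zj16) (kj xj20 yj2 zj17) (kj xj18 yj13 zj24) (kj xj20 yj2 zj18) (kj xj20 yj2 zj19) (kj xj19 yj23 zj30) (kj xj18 yj13 zj26) (kj xj19 yj13 zj6) (kj xj19 yj13 zj7) (kj xj19 yj13 zj10) (kj xj19 yj13 zj11) (kj xj19 yj13 zj12) (kj xj19 yj15 zj42) (kj xj19 yj15 zj43) (kj xj19 yj15 zj44) (kj xj18 yj9 zj50) (kj xj18 yj10 zj0) (kj xj18 yj10 zj1) (kj xj18 yj10 zj2) (kj xj18 yj10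 zj4) (kj xj18 yj10 zj5)) (@D3.rec (fun _ => Pt) (kj xj18 yj10 zj6) (kj xj18 yj10 zj7) (kj xj18 yj10 zj8) (kj xj18 yj10 zj9) (kj xj18 yj10 zj10) (kj xj18 yj10 zj11) (kj xj18 yj10 zj15) (kj xj18 yj10 zj16) (kj xj18 yj10 zj17) (kj xj18 yj10 zj18) (kj xj18 yj10 zj19) (kj xj20 yj0 zj12) (kj xj18 yj10 zj22) (kj xj19 yj24 zj2) (kj xj19 yj24 zj3) (kj xj19 yj24 zj5) (kj xj19 yj22 zj17) (kj xj19 yj22 zj18) (kj xj19 yj18 zj5) (kj xj19 yj18 zj6) (kj xj19 yj22 zj19) (kj xj19 yj22 zj20) (kj xj19 yj24 zj40) (kj xj20 yj2 zj43) (kj xj20 yj2 zj44) (kj xj20 yj2 zj45) (kj xj20 yj2 zj46) (kj xj19 yj22 zj41) (kj xj19 yj22 zj42) (kj xj20 yj2 zj47) (kj xj20 yj2 zj48) (kj xj20 yj2 zj49) (kj xj20 yj2 zj50) (kj xj20 yj3 zj0) (kj xj20 yj3 zj1) (kj xj20 yj3 zj2) (kj xj20 yj3 zj3)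 (kj xj20 yj3 zj4) (kj xj20 yj3 zj5) (kj xj18 yj10 zj13) (kj xj18 yj10 zj14) (kj xj20 yj3 zj37) (kj xj20 yj3 zj38) (kj xj20 yj3 zj7) (kj xj20 yj3 zj8) (kj xj20 yj3 zj9) (kj xj20 yj3 zj10) (kj xj18 yj10 zj21) (kj xj20 yj3 zj43) (kj xj18 yj10 zj25) (kj xj18 yj10 zj31)) (@D3.rec (fun _ => Pt) (kj xj19 yj24 zj0) (kj xj18 yj11 zj5) (kj xj18 yj10 zj37) (kj xj19 yj20 zj13) (kj xj19 yj11 zj50) (kj xj19 yj11 zj35) (kj xj20 yj3 zj46) (kj xj19 yj17 zj9) (kj xj19 yj19 zj26) (kj xj19 yj19 zj27) (kj xj19 yj19 zj28) (kj xj19 yj19 zj29) (kj xj19 yj19 zj30) (kj xj20 yj0 zj31) (kj xj18 yj11 zj6) (kj xj19 yj17 zj8) (kj xj19 yj20 zj14) (kj xj19 yj20 zj15) (kj xj19 yj20 zj16) (kj xj19 yj20 zj17) (kj xj19 yj20 zj18) (kj xj19 yj20 zj19) (kj xj19 yj20 zj20) (kj xj19 yj20 zj21)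 (kj xj19 yj20 zj22) (kj xj19 yj20 zj23) (kj xj19 yj20 zj24) (kj xj19 yj20 zj25) (kj xj19 yj20 zj26) (kj xj19 yj18 zj33) (kj xj20 yj3 zj45) (kj xj19 yj21 zj6) (kj xj18 yj14 zj13) (kj xj18 yj14 zj14) (kj xj19 yj11 zj40) (kj xj19 yj11 zj41) (kj xj20 yj0 zj32) (kj xj19 yj18 zj25) (kj xj18 yj11 zj19) (kj xj19 yj11 zj48) (kj xj19 yj11 zj49) (kj xj19 yj11 zj33) (kj xj20 yj0 zj35) (kj xj20 yj0 zj36) (kj xj19 yj13 zj50) (kj xj19 yj14 zj0) (kj xj20 yj0 zj38) (kj xj20 yj0 zj39) (kj xj20 yj0 zj43) (kj xj20 yj0 zj44) (kj xj19 yj19 zj42)) (@D3.rec (fun _ => Pt) (kj xj19 yj17 zj32) (kj xj19 yj17 zj33) (kj xj19 yj19 zj47) (kj xj19 yj19 zj48) (kj xj19 yj19 zj49) (kj xj18 yj11 zj45) (kj xj18 yj11 zj46) (kj xj18 yj12 zj4) (kj xj18 yj12 zj5) (kj xj19 yj17 zj39) (kj xj19 yj17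 zj40) (kj xj19 yj13 zj47) (kj xj19 yj13 zj48) (kj xj19 yj11 zj37) (kj xj20 yj4 zj44) (kj xj20 yj4 zj45) (kj xj19 yj11 zj47) (kj xj19 yj14 zj7) (kj xj19 yj14 zj8) (kj xj19 yj14 zj20) (kj xj19 yj14 zj21) (kj xj19 yj11 zj27) (kj xj19 yj11 zj38) (kj xj18 yj12 zj8) (kj xj20 yj4 zj46) (kj xj19 yj21 zj0) (kj xj19 yj18 zj31) (kj xj20 yj5 zj7) (kj xj19 yj17 zj48) (kj xj19 yj17 zj49) (kj xj19 yj21 zj16) (kj xj18 yj12 zj13) (kj xj19 yj21 zj46) (kj xj19 yj21 zj31) (kj xj18 yj12 zj18) (kj xj19 yj21 zj45) (kj xj19 yj13 zj43) (kj xj19 yj13 zj44) (kj xj19 yj21 zj37) (kj xj19 yj17 zj19) (kj xj19 yj17 zj20) (kj xj19 yj21 zj38) (kj xj19 yj21 zj39) (kj xj19 yj21 zj40) (kj xj18 yj12 zj37) (kj xj18 yj12 zj38) (kj xj18 yj12 zj39) (kj xj18 yj12 zj40) (kj xj18 yj12 zj41) (kj xj18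 yj12 zj42) (kj xj18 yj12 zj43)) (@D3.rec (fun _ => Pt) (kj xj18 yj12 zj44) (kj xj18 yj12 zj45) (kj xj19 yj22 zj6) (kj xj18 yj12 zj46) (kj xj19 yj22 zj26) (kj xj19 yj22 zj27) (kj xj19 yj22 zj28) (kj xj20 yj5 zj22) (kj xj20 yj5 zj23) (kj xj20 yj5 zj24) (kj xj20 yj5 zj25) (kj xj20 yj5 zj26) (kj xj20 yj5 zj27) (kj xj20 yj5 zj28) (kj xj20 yj5 zj29) (kj xj19 yj13 zj3) (kj xj19 yj13 zj4) (kj xj19 yj21 zj44) (kj xj18 yj13 zj1) (kj xj19 yj22 zj43) (kj xj19 yj22 zj44) (kj xj19 yj22 zj45) (kj xj19 yj22 zj46) (kj xj18 yj13 zj11) (kj xj18 yj13 zj14) (kj xj19 yj24 zj38) (kj xj19 yj16 zj18) (kj xj20 yj5 zj46) (kj xj19 yj15 zj25) (kj xj19 yj16 zj30) (kj xj18 yj14 zj34) (kj xj18 yj14 zj35) (kj xj19 yj24 zj27) (kj xj19 yj16 zj27) (kj xj20 yj2 zj22) (kj xj19 yj16 zj33) (kj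 xj19 yj13 zj19) (kj xj19 yj23 zj10) (kj xj19 yj22 zj3) (kj xj20 yj2 zj25) (kj xj19 yj22 zj2) (kj xj20 yj2 zj31) (kj xj19 yj22 zj1) (kj xj19 yj15 zj15) (kj xj19 yj15 zj16) (kj xj19 yj24 zj20) (kj xj19 yj24 zj23) (kj xj19 yj24 zj24) (kj xj19 yj24 zj25) (kj xj18 yj13 zj42) (kj xj18 yj13 zj49)) (@D3.rec (fun _ => Pt) (kj xj18 yj14 zj4) (kj xj19 yj24 zj42) (kj xj19 yj15 zj10) (kj xj19 yj15 zj11) (kj xj19 yj23 zj13) (kj xj19 yj23 zj14) (kj xj19 yj23 zj17) (kj xj20 yj1 zj48) (kj xj20 yj1 zj49) (kj xj20 yj6 zj17) (kj xj19 yj12 zj8) (kj xj19 yj23 zj45) (kj xj19 yj23 zj46) (kj xj19 yj14 zj3) (kj xj19 yj14 zj4) (kj xj20 yj2 zj0) (kj xj20 yj2 zj1) (kj xj19 yj23 zj11) (kj xj20 yj6 zj18) (kj xj18 yj14 zj0) (kj xj18 yj14 zj1) (kj xj20 yj6 zj39) (kj xj20 yj6 zj40) (kj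 xj20 yj1 zj50) (kj xj20 yj2 zj2) (kj xj20 yj2 zj3) (kj xj18 yj14 zj6) (kj xj20 yj6 zj44) (kj xj19 yj25 zj18) (kj xj19 yj25 zj19) (kj xj19 yj25 zj21) (kj xj20 yj4 zj24) (kj xj20 yj4 zj25) (kj xj19 yj25 zj26) (kj xj19 yj25 zj27) (kj xj19 yj25 zj28) (kj xj18 yj14 zj36) (kj xj18 yj14 zj37) (kj xj18 yj14 zj38) (kj xj18 yj14 zj47) (kj xj18 yj15 zj2) (kj xj18 yj15 zj3) (kj xj18 yj15 zj4) (kj xj20 yj1 zj9) (kj xj18 yj15 zj5) (kj xj18 yj15 zj6) (kj xj20 yj1 zj8) (kj xj18 yj14 zj30) (kj xj20 yj7 zj11) (kj xj19 yj24 zj41) (kj xj19 yj24 zj43)) (@D3.rec (fun _ => Pt) (kj xj20 yj5 zj50) (kj xj20 yj6 zj0) (kj xj20 yj7 zj3) (kj xj20 yj7 zj4) (kj xj20 yj7 zj5) (kj xj19 yj12 zj10) (kj xj19 yj12 zj11) (kj xj20 yj1 zj10) (kj xj20 yj1 zj11) (kj xj20 yj1 zj12) (kj xj19 yj14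 zj5) (kj xj19 yj14 zj6) (kj xj19 yj14 zj14) (kj xj19 yj14 zj15) (kj xj18 yj15 zj0) (kj xj19 yj23 zj12) (kj xj18 yj14 zj50) (kj xj18 yj15 zj1) (kj xj20 yj7 zj27) (kj xj20 yj7 zj26) (kj xj20 yj7 zj6) (kj xj20 yj7 zj7) (kj xj20 yj7 zj9) (kj xj18 yj15 zj8) (kj xj19 yj12 zj12) (kj xj18 yj23 zj39) (kj xj18 yj23 zj40) (kj xj19 yj8 zj21) (kj xj18 yj15 zj23) (kj xj18 yj15 zj25) (kj xj18 yj22 zj50) (kj xj19 yj3 zj26) (kj xj20 yj7 zj33) (kj xj19 yj7 zj41) (kj xj20 yj7 zj34) (kj xj19 yj7 zj5) (kj xj18 yj24 zj29) (kj xj19 yj8 zj13) (kj xj19 yj8 zj22) (kj xj18 yj15 zj33) (kj xj19 yj7 zj34) (kj xj19 yj7 zj35) (kj xj20 yj7 zj43) (kj xj18 yj15 zj42) (kj xj19 yj3 zj21) (kj xj18 yj15 zj38) (kj xj20 yj7 zj46) (kj xj19 yj8 zj16) (kj xj19 yj7 zj39) (kj xj19 yj7 zj40) (kj xj19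 yj7 zj4)) (@D3.rec (fun _ => Pt) (kj xj18 yj22 zj46) (kj xj18 yj24 zj28) (kj xj18 yj20 zj35) (kj xj18 yj16 zj3) (kj xj18 yj16 zj4) (kj xj18 yj26 zj0) (kj xj18 yj26 zj23) (kj xj18 yj26 zj24) (kj xj19 yj10 zj10) (kj xj19 yj2 zj4) (kj xj19 yj11 zj5) (kj xj19 yj11 zj6) (kj xj19 yj11 zj24) (kj xj20 yj8 zj3) (kj xj20 yj8 zj4) (kj xj20 yj8 zj5) (kj xj18 yj17 zj36) (kj xj18 yj16 zj13) (kj xj18 yj16 zj14) (kj xj18 yj16 zj15) (kj xj18 yj16 zj16) (kj xj18 yj25 zj33) (kj xj18 yj16 zj17) (kj xj18 yj16 zj18) (kj xj18 yj16 zj19) (kj xj19 yj5 zj8) (kj xj20 yj8 zj22) (kj xj20 yj8 zj23) (kj xj20 yj8 zj24) (kj xj20 yj8 zj25) (kj xj20 yj8 zj26) (kj xj20 yj8 zj30) (kj xj20 yj8 zj31) (kj xj20 yj8 zj32) (kj xj18 yj22 zj19) (kj xj18 yj25 zj40) (kj xj18 yj25 zj41) (kj xj18 yj16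 zj24) (kj xj20 yj8 zj46) (kj xj19 yj3 zj34) (kj xj18 yj16 zj43) (kj xj18 yj16 zj44) (kj xj18 yj16 zj45) (kj xj18 yj16 zj46) (kj xj18 yj16 zj47) (kj xj18 yj26 zj48) (kj xj18 yj26 zj4) (kj xj18 yj26 zj5) (kj xj18 yj16 zj49) (kj xj18 yj16 zj50) (kj xj18 yj17 zj0)) (@D3.rec (fun _ => Pt) (kj xj19 yj3 zj16) (kj xj19 yj2 zj16) (kj xj18 yj24 zj14) (kj xj19 yj9 zj15) (kj xj19 yj9 zj16) (kj xj19 yj0 zj2) (kj xj19 yj5 zj37) (kj xj19 yj5 zj38) (kj xj19 yj5 zj9) (kj xj19 yj5 zj10) (kj xj19 yj5 zj39) (kj xj19 yj5 zj40) (kj xj19 yj5 zj41) (kj xj20 yj8 zj49) (kj xj20 yj8 zj50) (kj xj20 yj9 zj0) (kj xj20 yj9 zj1) (kj xj20 yj9 zj2) (kj xj20 yj9 zj3) (kj xj19 yj9 zj36) (kj xj20 yj9 zj8) (kj xj20 yj9 zj9) (kj xj20 yj9 zj10) (kj xj18 yj17 zj8) (kj xj18 yj17 zj9) (kj xj18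 yj18 zj17) (kj xj18 yj26 zj26) (kj xj18 yj26 zj27) (kj xj18 yj17 zj10) (kj xj20 yj9 zj39) (kj xj19 yj0 zj7) (kj xj18 yj26 zj49) (kj xj18 yj22 zj26) (kj xj18 yj24 zj12) (kj xj19 yj5 zj11) (kj xj18 yj17 zj21) (kj xj20 yj9 zj45) (kj xj18 yj20 zj34) (kj xj18 yj20 zj36) (kj xj18 yj20 zj37) (kj xj18 yj17 zj30) (kj xj18 yj17 zj31) (kj xj18 yj17 zj34) (kj xj19 yj8 zj36) (kj xj19 yj8 zj37) (kj xj20 yj10 zj0) (kj xj20 yj10 zj1) (kj xj19 yj8 zj11) (kj xj19 yj8 zj12) (kj xj20 yj10 zj2) (kj xj19 yj7 zj44)) (@D3.rec (fun _ => Pt) (kj xj19 yj7 zj45) (kj xj20 yj8 zj21) (kj xj18 yj17 zj43) (kj xj19 yj10 zj13) (kj xj19 yj10 zj14) (kj xj19 yj11 zj10) (kj xj19 yj11 zj11) (kj xj19 yj8 zj17) (kj xj19 yj8 zj18) (kj xj20 yj10 zj12) (kj xj19 yj4 zj14) (kj xj19 yj4 zj15) (kj xj19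 yj4 zj16) (kj xj18 yj18 zj3) (kj xj19 yj11 zj12) (kj xj19 yj11 zj13) (kj xj18 yj17 zj50) (kj xj18 yj18 zj0) (kj xj20 yj10 zj23) (kj xj20 yj10 zj24) (kj xj19 yj8 zj19) (kj xj19 yj8 zj20) (kj xj18 yj18 zj16) (kj xj18 yj18 zj18) (kj xj18 yj18 zj19) (kj xj18 yj18 zj20) (kj xj18 yj18 zj21) (kj xj18 yj18 zj22) (kj xj18 yj18 zj23) (kj xj19 yj0 zj15) (kj xj18 yj18 zj24) (kj xj18 yj18 zj25) (kj xj18 yj18 zj26) (kj xj18 yj22 zj18) (kj xj18 yj22 zj20) (kj xj20 yj10 zj28) (kj xj20 yj10 zj29) (kj xj20 yj9 zj40) (kj xj20 yj10 zj30) (kj xj20 yj10 zj31) (kj xj20 yj10 zj32) (kj xj20 yj10 zj33) (kj xj20 yj10 zj34) (kj xj20 yj10 zj35) (kj xj20 yj10 zj36) (kj xj20 yj10 zj37) (kj xj20 yj8 zj9) (kj xj20 yj10 zj41) (kj xj20 yj10 zj42) (kj xj20 yj10 zj43) (kj xj18 yj26 zj37))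 (@D3.rec (fun _ => Pt) (kj xj19 yj0 zj9) (kj xj19 yj0 zj10) (kj xj19 yj5 zj12) (kj xj18 yj18 zj41) (kj xj18 yj18 zj42) (kj xj18 yj18 zj45) (kj xj18 yj18 zj46) (kj xj18 yj18 zj48) (kj xj18 yj18 zj49) (kj xj18 yj18 zj50) (kj xj19 yj10 zj2) (kj xj19 yj10 zj3) (kj xj18 yj19 zj3) (kj xj18 yj19 zj4) (kj xj18 yj19 zj5) (kj xj19 yj9 zj43) (kj xj19 yj9 zj44) (kj xj20 yj11 zj17) (kj xj20 yj11 zj18) (kj xj19 yj2 zj13) (kj xj19 yj2 zj17) (kj xj19 yj2 zj11) (kj xj20 yj11 zj19) (kj xj20 yj11 zj20) (kj xj19 yj2 zj8) (kj xj19 yj9 zj28) (kj xj20 yj11 zj21) (kj xj20 yj11 zj22) (kj xj20 yj11 zj23) (kj xj18 yj19 zj1) (kj xj18 yj19 zj2) (kj xj20 yj11 zj44) (kj xj20 yj11 zj45) (kj xj20 yj11 zj27) (kj xj20 yj11 zj28) (kj xj20 yj11 zj29) (kj xj18 yj24 zj9) (kj xj18 yj19 zj9)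 (kj xj20 yj12 zj0) (kj xj18 yj19 zj11) (kj xj20 yj12 zj2) (kj xj20 yj12 zj3) (kj xj19 yj5 zj42) (kj xj19 yj5 zj43) (kj xj19 yj5 zj44) (kj xj18 yj19 zj31) (kj xj18 yj19 zj32) (kj xj18 yj19 zj37) (kj xj18 yj19 zj38) (kj xj18 yj19 zj39) (kj xj18 yj19 zj48)) (@D3.rec (fun _ => Pt) (kj xj18 yj19 zj49) (kj xj18 yj19 zj50) (kj xj18 yj26 zj47) (kj xj18 yj19 zj25) (kj xj18 yj19 zj26) (kj xj20 yj12 zj18) (kj xj20 yj12 zj19) (kj xj18 yj24 zj5) (kj xj18 yj20 zj5) (kj xj18 yj20 zj6) (kj xj18 yj20 zj7) (kj xj19 yj3 zj48) (kj xj20 yj12 zj10) (kj xj20 yj12 zj11) (kj xj18 yj24 zj17) (kj xj18 yj24 zj18) (kj xj19 yj3 zj49) (kj xj19 yj3 zj50) (kj xj19 yj9 zj26) (kj xj20 yj12 zj12) (kj xj20 yj12 zj13) (kj xj20 yj12 zj14) (kj xj19 yj2 zj28) (kj xj19 yj2 zj26) (kj xj19 yj4 zj0)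 (kj xj19 yj4 zj1) (kj xj19 yj0 zj37) (kj xj19 yj9 zj33) (kj xj18 yj19 zj46) (kj xj20 yj12 zj40) (kj xj19 yj9 zj29) (kj xj20 yj12 zj15) (kj xj20 yj12 zj16) (kj xj19 yj9 zj35) (kj xj18 yj20 zj3) (kj xj18 yj20 zj4) (kj xj20 yj12 zj44) (kj xj20 yj12 zj45) (kj xj20 yj12 zj23) (kj xj20 yj12 zj24) (kj xj19 yj0 zj6) (kj xj18 yj20 zj12) (kj xj20 yj13 zj0) (kj xj18 yj22 zj25) (kj xj18 yj20 zj18) (kj xj20 yj13 zj1) (kj xj18 yj20 zj23) (kj xj18 yj20 zj46) (kj xj18 yj20 zj47) (kj xj18 yj20 zj42) (kj xj18 yj20 zj43)) (@D3.rec (fun _ => Pt) (kj xj20 yj13 zj3) (kj xj18 yj21 zj15) (kj xj18 yj20 zj31) (kj xj18 yj21 zj11) (kj xj18 yj21 zj12) (kj xj18 yj21 zj6) (kj xj18 yj21 zj7) (kj xj20 yj13 zj10) (kj xj19 yj7 zj15) (kj xj19 yj7 zj7) (kj xj20 yj9 zj47) (kj xj20 yj8 zj2)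 (kj xj20 yj7 zj41) (kj xj20 yj9 zj48) (kj xj20 yj9 zj49) (kj xj20 yj9 zj50) (kj xj18 yj20 zj48) (kj xj19 yj3 zj35) (kj xj19 yj3 zj36) (kj xj19 yj8 zj39) (kj xj19 yj8 zj40) (kj xj20 yj13 zj6) (kj xj20 yj13 zj7) (kj xj18 yj21 zj40) (kj xj18 yj21 zj20) (kj xj18 yj21 zj21) (kj xj20 yj13 zj4) (kj xj20 yj13 zj5) (kj xj20 yj13 zj25) (kj xj18 yj21 zj37) (kj xj19 yj3 zj31) (kj xj18 yj21 zj13) (kj xj19 yj8 zj0) (kj xj19 yj8 zj1) (kj xj18 yj24 zj22) (kj xj18 yj24 zj23) (kj xj20 yj13 zj13) (kj xj20 yj13 zj14) (kj xj18 yj22 zj7) (kj xj19 yj8 zj9) (kj xj19 yj8 zj10) (kj xj20 yj13 zj11) (kj xj20 yj13 zj12) (kj xj18 yj22 zj4) (kj xj20 yj13 zj9) (kj xj18 yj21 zj22) (kj xj18 yj21 zj28) (kj xj18 yj21 zj39) (kj xj19 yj8 zj28) (kj xj19 yj8 zj29) (kj xj20 yj13 zj34)) (@D3.rec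 (fun _ => Pt) (kj xj20 yj13 zj35) (kj xj20 yj14 zj0) (kj xj18 yj21 zj29) (kj xj19 yj1 zj8) (kj xj19 yj1 zj23) (kj xj19 yj6 zj18) (kj xj19 yj6 zj19) (kj xj19 yj3 zj12) (kj xj20 yj14 zj1) (kj xj20 yj13 zj30) (kj xj20 yj14 zj7) (kj xj18 yj21 zj36) (kj xj18 yj21 zj41) (kj xj18 yj22 zj1) (kj xj18 yj22 zj2) (kj xj19 yj1 zj14) (kj xj19 yj1 zj15) (kj xj18 yj21 zj48) (kj xj20 yj14 zj19) (kj xj20 yj13 zj38) (kj xj18 yj23 zj4) (kj xj20 yj14 zj2) (kj xj20 yj13 zj33) (kj xj20 yj14 zj20) (kj xj18 yj22 zj49) (kj xj19 yj7 zj37) (kj xj18 yj22 zj3) (kj xj18 yj22 zj45) (kj xj18 yj22 zj6) (kj xj18 yj22 zj8) (kj xj20 yj14 zj26) (kj xj19 yj8 zj26) (kj xj18 yj23 zj47) (kj xj19 yj7 zj29) (kj xj20 yj14 zj21) (kj xj20 yj14 zj22) (kj xj18 yj24 zj4) (kj xj20 yj14 zj35) (kj xj20 yj13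 zj49) (kj xj18 yj24 zj2) (kj xj20 yj14 zj37) (kj xj20 yj13 zj45) (kj xj18 yj23 zj46) (kj xj18 yj23 zj43) (kj xj18 yj23 zj38) (kj xj18 yj24 zj13) (kj xj18 yj22 zj22) (kj xj18 yj22 zj23) (kj xj18 yj22 zj24) (kj xj18 yj22 zj27) (kj xj18 yj22 zj28)) (@D3.rec (fun _ => Pt) (kj xj18 yj22 zj29) (kj xj20 yj10 zj44) (kj xj20 yj10 zj45) (kj xj20 yj8 zj27) (kj xj20 yj9 zj44) (kj xj19 yj1 zj45) (kj xj20 yj15 zj2) (kj xj20 yj12 zj1) (kj xj20 yj15 zj3) (kj xj20 yj15 zj4) (kj xj20 yj15 zj5) (kj xj20 yj12 zj50) (kj xj20 yj9 zj43) (kj xj20 yj15 zj26) (kj xj20 yj15 zj6) (kj xj20 yj15 zj7) (kj xj20 yj15 zj8) (kj xj19 yj3 zj40) (kj xj18 yj22 zj42) (kj xj18 yj22 zj43) (kj xj18 yj22 zj44) (kj xj18 yj22 zj47) (kj xj18 yj22 zj48) (kj xj18 yj23 zj1) (kj xj18 yj23 zj2) (kj xj18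 yj23 zj3) (kj xj19 yj7 zj8) (kj xj19 yj7 zj9) (kj xj19 yj7 zj10) (kj xj19 yj7 zj11) (kj xj19 yj7 zj12) (kj xj20 yj15 zj31) (kj xj20 yj15 zj32) (kj xj20 yj15 zj33) (kj xj20 yj15 zj34) (kj xj20 yj14 zj33) (kj xj20 yj14 zj36) (kj xj20 yj8 zj1) (kj xj20 yj15 zj35) (kj xj20 yj15 zj36) (kj xj20 yj14 zj32) (kj xj20 yj7 zj35) (kj xj19 yj7 zj50) (kj xj20 yj15 zj37) (kj xj20 yj15 zj38) (kj xj20 yj14 zj29) (kj xj20 yj14 zj25) (kj xj19 yj8 zj2) (kj xj19 yj8 zj3) (kj xj19 yj8 zj4) (kj xj18 yj23 zj31)) (@D3.rec (fun _ => Pt) (kj xj18 yj23 zj32) (kj xj18 yj23 zj33) (kj xj18 yj23 zj34) (kj xj18 yj23 zj35) (kj xj18 yj23 zj36) (kj xj18 yj23 zj37) (kj xj18 yj23 zj41) (kj xj18 yj23 zj42) (kj xj18 yj23 zj44) (kj xj18 yj23 zj45) (kj xj18 yj24 zj0) (kj xj18 yj24 zj1) (kj xj18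 yj24 zj27) (kj xj19 yj7 zj3) (kj xj19 yj7 zj16) (kj xj19 yj7 zj17) (kj xj19 yj7 zj18) (kj xj19 yj7 zj19) (kj xj19 yj7 zj20) (kj xj19 yj7 zj21) (kj xj19 yj7 zj22) (kj xj19 yj7 zj23) (kj xj19 yj7 zj24) (kj xj19 yj7 zj25) (kj xj19 yj7 zj26) (kj xj19 yj7 zj27) (kj xj19 yj7 zj28) (kj xj20 yj16 zj13) (kj xj20 yj16 zj14) (kj xj20 yj16 zj15) (kj xj20 yj16 zj16) (kj xj20 yj15 zj0) (kj xj20 yj16 zj17) (kj xj20 yj16 zj18) (kj xj20 yj15 zj1) (kj xj20 yj16 zj19) (kj xj20 yj16 zj20) (kj xj20 yj9 zj14) (kj xj20 yj14 zj50) (kj xj19 yj1 zj40) (kj xj20 yj7 zj30) (kj xj20 yj7 zj31) (kj xj20 yj16 zj21) (kj xj20 yj16 zj22) (kj xj20 yj14 zj45) (kj xj20 yj14 zj44) (kj xj20 yj16 zj23) (kj xj20 yj14 zj49) (kj xj20 yj14 zj41) (kj xj18 yj23 zj49) (kj xj20 yj17 zj15)) (@D3.rec (fun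 _ => Pt) (kj xj19 yj8 zj25) (kj xj20 yj16 zj24) (kj xj20 yj14 zj47) (kj xj20 yj12 zj22) (kj xj20 yj12 zj6) (kj xj20 yj11 zj26) (kj xj19 yj7 zj31) (kj xj19 yj0 zj8) (kj xj19 yj0 zj50) (kj xj20 yj9 zj12) (kj xj18 yj26 zj32) (kj xj18 yj26 zj30) (kj xj18 yj24 zj19) (kj xj20 yj12 zj28) (kj xj20 yj12 zj29) (kj xj20 yj17 zj24) (kj xj19 yj8 zj30) (kj xj18 yj24 zj24) (kj xj20 yj13 zj42) (kj xj20 yj13 zj43) (kj xj18 yj24 zj30) (kj xj18 yj24 zj31) (kj xj18 yj24 zj32) (kj xj20 yj16 zj25) (kj xj20 yj8 zj0) (kj xj20 yj7 zj40) (kj xj20 yj17 zj29) (kj xj20 yj17 zj30) (kj xj20 yj17 zj31) (kj xj18 yj25 zj17) (kj xj18 yj25 zj18) (kj xj19 yj8 zj33) (kj xj18 yj24 zj38) (kj xj18 yj24 zj39) (kj xj18 yj24 zj40) (kj xj20 yj17 zj41) (kj xj20 yj17 zj42) (kj xj19 yj8 zj38) (kj xj19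 yj8 zj41) (kj xj19 yj8 zj42) (kj xj19 yj8 zj43) (kj xj18 yj25 zj1) (kj xj18 yj25 zj6) (kj xj18 yj25 zj7) (kj xj19 yj9 zj17) (kj xj19 yj8 zj35) (kj xj19 yj8 zj32) (kj xj18 yj25 zj4) (kj xj18 yj25 zj5) (kj xj20 yj17 zj49) (kj xj20 yj17 zj50)) (@D3.rec (fun _ => Pt) (kj xj20 yj17 zj48) (kj xj19 yj9 zj42) (kj xj19 yj9 zj40) (kj xj19 yj9 zj38) (kj xj18 yj25 zj12) (kj xj20 yj18 zj4) (kj xj19 yj9 zj2) (kj xj18 yj25 zj19) (kj xj18 yj25 zj20) (kj xj18 yj25 zj21) (kj xj20 yj17 zj38) (kj xj20 yj17 zj39) (kj xj20 yj18 zj6) (kj xj20 yj18 zj7) (kj xj18 yj25 zj28) (kj xj18 yj25 zj29) (kj xj18 yj25 zj30) (kj xj19 yj6 zj16) (kj xj19 yj6 zj17) (kj xj19 yj6 zj20) (kj xj19 yj6 zj21) (kj xj19 yj3 zj0) (kj xj19 yj3 zj8) (kj xj20 yj18 zj12) (kj xj20 yj18 zj13) (kj xj20 yj18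 zj14) (kj xj19 yj9 zj4) (kj xj19 yj9 zj5) (kj xj19 yj9 zj6) (kj xj20 yj8 zj28) (kj xj20 yj8 zj29) (kj xj18 yj25 zj37) (kj xj18 yj25 zj38) (kj xj18 yj25 zj39) (kj xj20 yj18 zj31) (kj xj20 yj18 zj32) (kj xj20 yj18 zj33) (kj xj20 yj8 zj44) (kj xj20 yj8 zj45) (kj xj18 yj25 zj43) (kj xj20 yj18 zj38) (kj xj19 yj6 zj27) (kj xj19 yj6 zj28) (kj xj19 yj9 zj19) (kj xj19 yj9 zj20) (kj xj19 yj9 zj21) (kj xj19 yj9 zj22) (kj xj18 yj26 zj13) (kj xj18 yj26 zj14) (kj xj18 yj26 zj16) (kj xj20 yj8 zj6)) (@D3.rec (fun _ => Pt) (kj xj20 yj8 zj7) (kj xj18 yj26 zj17) (kj xj18 yj26 zj18) (kj xj18 yj26 zj19) (kj xj20 yj9 zj5) (kj xj20 yj9 zj6) (kj xj20 yj9 zj7) (kj xj18 yj26 zj20) (kj xj18 yj26 zj21) (kj xj18 yj26 zj22) (kj xj19 yj9 zj37) (kj xj19 yj10 zj17) (kj xj19 yj11 zj15)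 (kj xj19 yj10 zj4) (kj xj19 yj10 zj5) (kj xj20 yj18 zj45) (kj xj20 yj18 zj46) (kj xj19 yj10 zj6) (kj xj20 yj18 zj47) (kj xj20 yj18 zj50) (kj xj20 yj19 zj0) (kj xj20 yj19 zj1) (kj xj20 yj19 zj6) (kj xj20 yj19 zj7) (kj xj20 yj17 zj5) (kj xj20 yj8 zj8) (kj xj18 yj26 zj29) (kj xj20 yj9 zj41) (kj xj20 yj17 zj23) (kj xj20 yj17 zj22) (kj xj19 yj5 zj35) (kj xj18 yj26 zj46) (kj xj19 yj0 zj3) (kj xj19 yj0 zj4) (kj xj19 yj0 zj5) (kj xj20 yj11 zj12) (kj xj20 yj11 zj13) (kj xj19 yj0 zj11) (kj xj19 yj0 zj12) (kj xj19 yj0 zj13) (kj xj19 yj4 zj31) (kj xj19 yj4 zj32) (kj xj19 yj4 zj49) (kj xj19 yj4 zj50) (kj xj19 yj0 zj35) (kj xj19 yj10 zj11) (kj xj19 yj10 zj12) (kj xj20 yj19 zj24) (kj xj20 yj12 zj17) (kj xj20 yj9 zj28) (kj xj20 yj9 zj4)) (@D3.rec (fun _ => Pt) (kj xj19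 yj7 zj0) (kj xj19 yj3 zj15) (kj xj19 yj6 zj13) (kj xj19 yj6 zj14) (kj xj19 yj1 zj49) (kj xj19 yj6 zj15) (kj xj20 yj9 zj17) (kj xj20 yj9 zj18) (kj xj20 yj19 zj25) (kj xj20 yj19 zj26) (kj xj20 yj9 zj42) (kj xj20 yj19 zj27) (kj xj20 yj12 zj49) (kj xj20 yj9 zj38) (kj xj20 yj17 zj21) (kj xj20 yj11 zj14) (kj xj20 yj11 zj15) (kj xj20 yj19 zj30) (kj xj20 yj19 zj31) (kj xj20 yj19 zj32) (kj xj19 yj9 zj45) (kj xj20 yj10 zj39) (kj xj20 yj10 zj40) (kj xj19 yj9 zj46) (kj xj19 yj9 zj47) (kj xj19 yj9 zj48) (kj xj19 yj0 zj30) (kj xj19 yj9 zj32) (kj xj19 yj0 zj36) (kj xj19 yj0 zj38) (kj xj19 yj0 zj24) (kj xj19 yj0 zj25) (kj xj20 yj20 zj28) (kj xj20 yj20 zj29) (kj xj20 yj17 zj1) (kj xj19 yj0 zj43) (kj xj19 yj0 zj44) (kj xj19 yj0 zj45) (kj xj19 yj9 zj25) (kj xj20 yj20 zj25)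 (kj xj19 yj6 zj22) (kj xj19 yj10 zj49) (kj xj19 yj10 zj1) (kj xj19 yj10 zj50) (kj xj20 yj19 zj39) (kj xj20 yj20 zj27) (kj xj20 yj12 zj38) (kj xj19 yj0 zj41) (kj xj19 yj0 zj42) (kj xj20 yj20 zj43) (kj xj20 yj20 zj44)) (@D3.rec (fun _ => Pt) (kj xj20 yj20 zj45) (kj xj20 yj20 zj34) (kj xj20 yj20 zj35) (kj xj20 yj20 zj36) (kj xj19 yj0 zj49) (kj xj19 yj2 zj38) (kj xj20 yj21 zj2) (kj xj19 yj1 zj4) (kj xj19 yj1 zj5) (kj xj19 yj1 zj3) (kj xj20 yj21 zj7) (kj xj20 yj21 zj5) (kj xj20 yj18 zj17) (kj xj20 yj21 zj6) (kj xj19 yj2 zj15) (kj xj19 yj2 zj2) (kj xj20 yj14 zj8) (kj xj20 yj14 zj9) (kj xj19 yj10 zj28) (kj xj19 yj10 zj29) (kj xj19 yj1 zj47) (kj xj19 yj10 zj30) (kj xj19 yj1 zj48) (kj xj19 yj1 zj46) (kj xj20 yj14 zj23) (kj xj20 yj14 zj24) (kj xj19 yj10 zj33) (kj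 xj19 yj10 zj34) (kj xj19 yj10 zj35) (kj xj19 yj1 zj44) (kj xj19 yj1 zj50) (kj xj19 yj2 zj0) (kj xj19 yj2 zj1) (kj xj20 yj14 zj10) (kj xj20 yj14 zj11) (kj xj19 yj2 zj7) (kj xj19 yj2 zj9) (kj xj19 yj2 zj10) (kj xj19 yj2 zj12) (kj xj19 yj2 zj14) (kj xj19 yj1 zj30) (kj xj19 yj1 zj31) (kj xj20 yj21 zj37) (kj xj20 yj21 zj38) (kj xj20 yj21 zj39) (kj xj19 yj2 zj23) (kj xj19 yj2 zj24) (kj xj19 yj2 zj25) (kj xj19 yj2 zj27) (kj xj19 yj1 zj38) (kj xj19 yj1 zj39)) (@D3.rec (fun _ => Pt) (kj xj20 yj21 zj47) (kj xj20 yj21 zj48) (kj xj20 yj21 zj49) (kj xj20 yj17 zj6) (kj xj19 yj2 zj34) (kj xj19 yj2 zj35) (kj xj19 yj2 zj36) (kj xj20 yj21 zj27) (kj xj20 yj15 zj15) (kj xj20 yj21 zj20) (kj xj20 yj21 zj18) (kj xj20 yj21 zj19) (kj xj20 yj20 zj0) (kj xj20 yj21 zj28) (kj xj20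 yj21 zj29) (kj xj20 yj21 zj12) (kj xj19 yj2 zj5) (kj xj19 yj2 zj6) (kj xj20 yj8 zj12) (kj xj20 yj8 zj13) (kj xj20 yj22 zj13) (kj xj20 yj22 zj14) (kj xj20 yj22 zj15) (kj xj20 yj21 zj32) (kj xj20 yj11 zj40) (kj xj20 yj21 zj33) (kj xj20 yj21 zj34) (kj xj20 yj21 zj35) (kj xj20 yj11 zj36) (kj xj20 yj21 zj36) (kj xj20 yj11 zj34) (kj xj20 yj9 zj11) (kj xj20 yj21 zj11) (kj xj20 yj9 zj13) (kj xj20 yj11 zj35) (kj xj19 yj4 zj4) (kj xj19 yj2 zj20) (kj xj19 yj2 zj21) (kj xj19 yj2 zj22) (kj xj20 yj22 zj37) (kj xj20 yj22 zj38) (kj xj20 yj22 zj39) (kj xj20 yj21 zj44) (kj xj20 yj21 zj45) (kj xj20 yj12 zj36) (kj xj20 yj21 zj46) (kj xj20 yj12 zj35) (kj xj19 yj2 zj31) (kj xj19 yj2 zj32) (kj xj19 yj2 zj33) (kj xj20 yj22 zj46))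
def f_j_20 : D2 → D3 → Pt := @D2.rec (fun _ => D3 → Pt) (@D3.rec (fun _ => Pt) (kj xj20 yj22 zj47) (kj xj20 yj18 zj20) (kj xj20 yj22 zj3) (kj xj20 yj22 zj4) (kj xj20 yj22 zj5) (kj xj20 yj22 zj6) (kj xj19 yj2 zj39) (kj xj20 yj21 zj3) (kj xj20 yj15 zj14) (kj xj19 yj2 zj49) (kj xj19 yj2 zj44) (kj xj19 yj4 zj28) (kj xj19 yj6 zj11) (kj xj20 yj18 zj21) (kj xj19 yj3 zj1) (kj xj19 yj3 zj2) (kj xj19 yj3 zj3) (kj xj19 yj3 zj4) (kj xj20 yj23 zj6) (kj xj20 yj14 zj14) (kj xj20 yj23 zj10) (kj xj20 yj23 zj11) (kj xj20 yj23 zj12) (kj xj19 yj4 zj48) (kj xj19 yj3 zj13) (kj xj20 yj14 zj15) (kj xj19 yj3 zj14) (kj xj20 yj19 zj38) (kj xj20 yj19 zj47) (kj xj19 yj4 zj5) (kj xj19 yj3 zj24) (kj xj19 yj7 zj13) (kj xj19 yj7 zj36) (kj xj20 yj7 zj36) (kj xj19 yj3 zj39) (kj xj19 yj7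 zj42) (kj xj19 yj7 zj43) (kj xj20 yj13 zj39) (kj xj19 yj7 zj46) (kj xj19 yj7 zj47) (kj xj20 yj8 zj48) (kj xj20 yj13 zj26) (kj xj20 yj13 zj27) (kj xj19 yj7 zj48) (kj xj19 yj7 zj49) (kj xj20 yj15 zj30) (kj xj19 yj4 zj6) (kj xj19 yj4 zj7) (kj xj19 yj4 zj8) (kj xj19 yj3 zj46) (kj xj20 yj12 zj25)) (@D3.rec (fun _ => Pt) (kj xj20 yj12 zj30) (kj xj20 yj12 zj31) (kj xj20 yj12 zj37) (kj xj19 yj4 zj3) (kj xj20 yj22 zj35) (kj xj20 yj22 zj36) (kj xj20 yj23 zj26) (kj xj20 yj23 zj27) (kj xj19 yj10 zj46) (kj xj19 yj10 zj43) (kj xj19 yj11 zj7) (kj xj19 yj11 zj8) (kj xj19 yj11 zj9) (kj xj20 yj10 zj19) (kj xj20 yj10 zj20) (kj xj20 yj10 zj21) (kj xj19 yj4 zj33) (kj xj19 yj4 zj34) (kj xj19 yj4 zj35) (kj xj19 yj4 zj36) (kj xj19 yj4 zj37) (kj xj19 yj4 zj38) (kj xj19 yj4 zj39)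 (kj xj19 yj4 zj40) (kj xj19 yj4 zj41) (kj xj19 yj4 zj42) (kj xj19 yj4 zj43) (kj xj19 yj4 zj44) (kj xj19 yj4 zj45) (kj xj20 yj23 zj7) (kj xj19 yj4 zj46) (kj xj20 yj19 zj33) (kj xj20 yj19 zj34) (kj xj20 yj19 zj35) (kj xj20 yj23 zj42) (kj xj20 yj23 zj43) (kj xj20 yj23 zj44) (kj xj20 yj23 zj45) (kj xj20 yj23 zj46) (kj xj20 yj23 zj47) (kj xj20 yj23 zj48) (kj xj20 yj23 zj49) (kj xj20 yj24 zj0) (kj xj20 yj24 zj1) (kj xj20 yj24 zj2) (kj xj20 yj24 zj3) (kj xj20 yj19 zj37) (kj xj20 yj19 zj36) (kj xj19 yj10 zj7) (kj xj19 yj10 zj8) (kj xj19 yj10 zj23)) (@D3.rec (fun _ => Pt) (kj xj19 yj10 zj15) (kj xj19 yj10 zj16) (kj xj19 yj10 zj24) (kj xj19 yj10 zj25) (kj xj20 yj8 zj33) (kj xj20 yj8 zj34) (kj xj20 yj9 zj22) (kj xj20 yj9 zj23) (kj xj20 yj9 zj24) (kj xj20 yj11 zj16)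 (kj xj19 yj5 zj22) (kj xj19 yj5 zj23) (kj xj19 yj5 zj25) (kj xj19 yj5 zj26) (kj xj19 yj5 zj28) (kj xj19 yj5 zj29) (kj xj19 yj5 zj30) (kj xj19 yj5 zj31) (kj xj19 yj5 zj33) (kj xj19 yj5 zj34) (kj xj20 yj24 zj31) (kj xj20 yj24 zj32) (kj xj19 yj9 zj34) (kj xj20 yj24 zj33) (kj xj20 yj24 zj34) (kj xj19 yj9 zj39) (kj xj20 yj24 zj35) (kj xj20 yj24 zj36) (kj xj20 yj24 zj37) (kj xj20 yj24 zj38) (kj xj20 yj24 zj39) (kj xj19 yj9 zj41) (kj xj20 yj24 zj40) (kj xj20 yj19 zj23) (kj xj20 yj9 zj19) (kj xj20 yj9 zj20) (kj xj20 yj9 zj21) (kj xj20 yj9 zj25) (kj xj20 yj9 zj26) (kj xj20 yj9 zj27) (kj xj20 yj12 zj7) (kj xj20 yj12 zj8) (kj xj20 yj12 zj9) (kj xj19 yj6 zj23) (kj xj19 yj6 zj24) (kj xj19 yj6 zj25) (kj xj19 yj6 zj26) (kj xj19 yj6 zj29) (kj xj19 yj6 zj30) (kj xj19 yj6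 zj31) (kj xj19 yj6 zj32)) (@D3.rec (fun _ => Pt) (kj xj19 yj6 zj33) (kj xj19 yj6 zj34) (kj xj19 yj6 zj35) (kj xj19 yj6 zj36) (kj xj19 yj6 zj37) (kj xj19 yj6 zj38) (kj xj20 yj19 zj48) (kj xj19 yj6 zj43) (kj xj19 yj6 zj44) (kj xj19 yj6 zj45) (kj xj19 yj6 zj46) (kj xj20 yj23 zj8) (kj xj20 yj19 zj49) (kj xj20 yj19 zj50) (kj xj20 yj20 zj1) (kj xj20 yj18 zj15) (kj xj20 yj18 zj16) (kj xj20 yj14 zj12) (kj xj20 yj14 zj13) (kj xj20 yj18 zj18) (kj xj20 yj18 zj19) (kj xj20 yj20 zj38) (kj xj20 yj25 zj10) (kj xj20 yj25 zj11) (kj xj20 yj25 zj12) (kj xj20 yj18 zj39) (kj xj20 yj18 zj40) (kj xj20 yj25 zj13) (kj xj20 yj25 zj14) (kj xj20 yj25 zj15) (kj xj20 yj25 zj16) (kj xj20 yj25 zj17) (kj xj20 yj25 zj18) (kj xj20 yj25 zj19) (kj xj20 yj25 zj20) (kj xj20 yj25 zj22) (kj xj20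 yj25 zj23) (kj xj19 yj6 zj41) (kj xj19 yj6 zj42) (kj xj20 yj25 zj49) (kj xj20 yj25 zj50) (kj xj20 yj25 zj25) (kj xj20 yj25 zj26) (kj xj19 yj6 zj48) (kj xj20 yj15 zj13) (kj xj19 yj7 zj30) (kj xj19 yj7 zj6) (kj xj20 yj16 zj26) (kj xj20 yj7 zj50) (kj xj20 yj7 zj39) (kj xj20 yj13 zj17)) (@D3.rec (fun _ => Pt) (kj xj20 yj13 zj18) (kj xj20 yj15 zj39) (kj xj20 yj15 zj40) (kj xj20 yj15 zj41) (kj xj20 yj15 zj42) (kj xj20 yj15 zj43) (kj xj20 yj15 zj44) (kj xj20 yj13 zj15) (kj xj20 yj13 zj16) (kj xj20 yj16 zj27) (kj xj20 yj16 zj28) (kj xj20 yj16 zj29) (kj xj20 yj16 zj30) (kj xj20 yj16 zj31) (kj xj20 yj16 zj32) (kj xj20 yj16 zj33) (kj xj20 yj16 zj34) (kj xj20 yj16 zj35) (kj xj20 yj16 zj36) (kj xj20 yj16 zj37) (kj xj20 yj16 zj38) (kj xj20 yj16 zj39) (kj xj20 yj16 zj40)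 (kj xj20 yj14 zj40) (kj xj19 yj10 zj31) (kj xj19 yj10 zj32) (kj xj20 yj7 zj44) (kj xj20 yj7 zj45) (kj xj20 yj14 zj34) (kj xj20 yj7 zj49) (kj xj20 yj7 zj38) (kj xj20 yj23 zj18) (kj xj20 yj23 zj19) (kj xj20 yj10 zj9) (kj xj20 yj10 zj10) (kj xj20 yj23 zj20) (kj xj20 yj23 zj21) (kj xj20 yj23 zj22) (kj xj20 yj23 zj25) (kj xj20 yj16 zj6) (kj xj20 yj13 zj40) (kj xj20 yj13 zj41) (kj xj20 yj16 zj11) (kj xj20 yj16 zj12) (kj xj19 yj8 zj14) (kj xj19 yj8 zj15) (kj xj19 yj8 zj24) (kj xj20 yj13 zj46) (kj xj20 yj13 zj47) (kj xj20 yj10 zj7) (kj xj20 yj10 zj8)) (@D3.rec (fun _ => Pt) (kj xj20 yj7 zj42) (kj xj20 yj26 zj42) (kj xj20 yj7 zj48) (kj xj20 yj10 zj17) (kj xj20 yj10 zj18) (kj xj20 yj10 zj27) (kj xj20 yj7 zj32) (kj xj19 yj8 zj27) (kj xj20 yj17 zj16) (kj xj20 yj14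 zj39) (kj xj20 yj14 zj3) (kj xj20 yj14 zj4) (kj xj20 yj17 zj27) (kj xj20 yj17 zj40) (kj xj20 yj10 zj3) (kj xj20 yj10 zj4) (kj xj20 yj17 zj44) (kj xj20 yj13 zj28) (kj xj20 yj13 zj29) (kj xj20 yj17 zj45) (kj xj20 yj17 zj46) (kj xj20 yj17 zj47) (kj xj19 yj9 zj7) (kj xj19 yj9 zj8) (kj xj19 yj9 zj9) (kj xj19 yj9 zj10) (kj xj19 yj9 zj11) (kj xj19 yj9 zj12) (kj xj19 yj9 zj13) (kj xj19 yj9 zj14) (kj xj20 yj18 zj5) (kj xj20 yj18 zj25) (kj xj20 yj18 zj26) (kj xj20 yj18 zj27) (kj xj21 yj0 zj7) (kj xj21 yj0 zj8) (kj xj21 yj0 zj9) (kj xj21 yj0 zj10) (kj xj21 yj0 zj11) (kj xj21 yj0 zj12) (kj xj20 yj9 zj15) (kj xj20 yj9 zj16) (kj xj20 yj18 zj41) (kj xj20 yj18 zj42) (kj xj20 yj18 zj43) (kj xj20 yj18 zj44) (kj xj19 yj9 zj27) (kj xj20 yj20 zj37) (kj xj20 yj12 zj32) (kj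 xj20 yj11 zj41) (kj xj19 yj11 zj0)) (@D3.rec (fun _ => Pt) (kj xj19 yj11 zj1) (kj xj20 yj20 zj26) (kj xj20 yj12 zj39) (kj xj20 yj24 zj44) (kj xj20 yj12 zj43) (kj xj20 yj9 zj35) (kj xj20 yj19 zj8) (kj xj20 yj18 zj3) (kj xj20 yj24 zj46) (kj xj20 yj18 zj2) (kj xj20 yj18 zj1) (kj xj20 yj11 zj30) (kj xj20 yj11 zj31) (kj xj20 yj20 zj19) (kj xj20 yj20 zj22) (kj xj20 yj20 zj23) (kj xj20 yj20 zj24) (kj xj19 yj10 zj9) (kj xj19 yj10 zj18) (kj xj20 yj20 zj40) (kj xj20 yj11 zj24) (kj xj20 yj11 zj25) (kj xj20 yj19 zj10) (kj xj20 yj19 zj11) (kj xj20 yj19 zj15) (kj xj20 yj24 zj18) (kj xj20 yj24 zj19) (kj xj20 yj24 zj20) (kj xj20 yj8 zj10) (kj xj20 yj8 zj11) (kj xj20 yj19 zj40) (kj xj20 yj19 zj41) (kj xj20 yj19 zj42) (kj xj20 yj10 zj13) (kj xj20 yj10 zj14) (kj xj20 yj24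 zj21) (kj xj20 yj24 zj22) (kj xj20 yj24 zj23) (kj xj20 yj19 zj9) (kj xj19 yj10 zj21) (kj xj19 yj10 zj22) (kj xj21 yj1 zj4) (kj xj21 yj1 zj5) (kj xj20 yj24 zj24) (kj xj19 yj10 zj27) (kj xj20 yj21 zj15) (kj xj20 yj21 zj16) (kj xj20 yj21 zj17) (kj xj20 yj26 zj28) (kj xj20 yj26 zj29) (kj xj20 yj26 zj30)) (@D3.rec (fun _ => Pt) (kj xj20 yj21 zj24) (kj xj20 yj21 zj25) (kj xj20 yj21 zj26) (kj xj19 yj11 zj2) (kj xj19 yj11 zj3) (kj xj19 yj11 zj4) (kj xj19 yj11 zj20) (kj xj19 yj11 zj21) (kj xj20 yj23 zj35) (kj xj19 yj11 zj22) (kj xj20 yj23 zj34) (kj xj19 yj10 zj48) (kj xj20 yj20 zj39) (kj xj21 yj0 zj22) (kj xj21 yj0 zj23) (kj xj21 yj1 zj14) (kj xj21 yj1 zj15) (kj xj20 yj23 zj38) (kj xj20 yj8 zj14) (kj xj20 yj8 zj15) (kj xj20 yj8 zj16) (kj xj20 yj23 zj36) (kj xj20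 yj23 zj37) (kj xj20 yj10 zj15) (kj xj20 yj10 zj16) (kj xj20 yj10 zj22) (kj xj19 yj11 zj19) (kj xj19 yj11 zj18) (kj xj21 yj1 zj27) (kj xj21 yj1 zj16) (kj xj19 yj20 zj40) (kj xj19 yj20 zj41) (kj xj20 yj5 zj6) (kj xj19 yj11 zj32) (kj xj19 yj11 zj34) (kj xj19 yj19 zj41) (kj xj20 yj0 zj33) (kj xj21 yj1 zj30) (kj xj20 yj4 zj30) (kj xj20 yj3 zj49) (kj xj19 yj21 zj25) (kj xj19 yj17 zj12) (kj xj20 yj5 zj0) (kj xj19 yj11 zj42) (kj xj20 yj4 zj26) (kj xj20 yj4 zj27) (kj xj19 yj11 zj46) (kj xj21 yj1 zj37) (kj xj20 yj5 zj2) (kj xj20 yj4 zj29) (kj xj20 yj3 zj48)) (@D3.rec (fun _ => Pt) (kj xj19 yj21 zj24) (kj xj19 yj19 zj37) (kj xj19 yj17 zj11) (kj xj19 yj12 zj13) (kj xj19 yj12 zj14) (kj xj19 yj12 zj15) (kj xj19 yj22 zj50) (kj xj19 yj23 zj0) (kj xj19 yj23 zj25) (kj xj19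 yj14 zj46) (kj xj20 yj6 zj28) (kj xj20 yj6 zj29) (kj xj19 yj26 zj18) (kj xj19 yj26 zj19) (kj xj20 yj7 zj18) (kj xj20 yj7 zj19) (kj xj20 yj7 zj20) (kj xj21 yj1 zj50) (kj xj21 yj1 zj43) (kj xj21 yj1 zj44) (kj xj21 yj1 zj45) (kj xj19 yj14 zj1) (kj xj19 yj12 zj26) (kj xj19 yj12 zj27) (kj xj19 yj12 zj28) (kj xj19 yj12 zj29) (kj xj19 yj12 zj30) (kj xj19 yj19 zj3) (kj xj19 yj22 zj29) (kj xj19 yj22 zj30) (kj xj19 yj12 zj31) (kj xj19 yj12 zj32) (kj xj19 yj12 zj33) (kj xj20 yj2 zj4) (kj xj20 yj2 zj5) (kj xj21 yj2 zj15) (kj xj21 yj2 zj16) (kj xj21 yj2 zj17) (kj xj21 yj2 zj18) (kj xj21 yj2 zj19) (kj xj21 yj2 zj20) (kj xj21 yj2 zj25) (kj xj21 yj2 zj26) (kj xj21 yj2 zj27) (kj xj19 yj22 zj37) (kj xj19 yj22 zj38) (kj xj19 yj12 zj38) (kj xj21 yj2 zj41) (kj xj20 yj0 zj40)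 (kj xj19 yj13 zj13) (kj xj19 yj13 zj14)) (@D3.rec (fun _ => Pt) (kj xj19 yj13 zj15) (kj xj19 yj13 zj16) (kj xj19 yj13 zj17) (kj xj19 yj13 zj18) (kj xj19 yj23 zj50) (kj xj19 yj23 zj4) (kj xj19 yj23 zj5) (kj xj19 yj23 zj6) (kj xj19 yj13 zj20) (kj xj19 yj13 zj21) (kj xj19 yj13 zj22) (kj xj19 yj26 zj31) (kj xj19 yj21 zj9) (kj xj19 yj26 zj33) (kj xj19 yj20 zj37) (kj xj20 yj5 zj40) (kj xj20 yj5 zj41) (kj xj19 yj24 zj6) (kj xj19 yj24 zj7) (kj xj20 yj2 zj34) (kj xj20 yj2 zj35) (kj xj20 yj2 zj36) (kj xj20 yj2 zj6) (kj xj20 yj2 zj7) (kj xj20 yj2 zj8) (kj xj20 yj2 zj37) (kj xj20 yj2 zj38) (kj xj20 yj2 zj39) (kj xj19 yj23 zj49) (kj xj21 yj2 zj43) (kj xj21 yj2 zj44) (kj xj21 yj2 zj45) (kj xj21 yj2 zj46) (kj xj21 yj2 zj48) (kj xj21 yj2 zj49) (kj xj20 yj6 zj5) (kj xj21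 yj3 zj4) (kj xj21 yj3 zj5) (kj xj19 yj24 zj13) (kj xj19 yj13 zj29) (kj xj19 yj14 zj37) (kj xj19 yj23 zj27) (kj xj19 yj24 zj10) (kj xj19 yj19 zj12) (kj xj19 yj19 zj4) (kj xj19 yj13 zj36) (kj xj21 yj3 zj35) (kj xj19 yj17 zj10) (kj xj19 yj17 zj13) (kj xj19 yj17 zj14) (kj xj19 yj17 zj15)) (@D3.rec (fun _ => Pt) (kj xj19 yj13 zj45) (kj xj19 yj13 zj46) (kj xj19 yj13 zj49) (kj xj20 yj5 zj14) (kj xj20 yj5 zj15) (kj xj21 yj3 zj40) (kj xj21 yj3 zj41) (kj xj20 yj4 zj49) (kj xj20 yj4 zj50) (kj xj20 yj4 zj33) (kj xj20 yj4 zj34) (kj xj21 yj2 zj14) (kj xj19 yj14 zj9) (kj xj20 yj6 zj33) (kj xj20 yj6 zj34) (kj xj20 yj7 zj23) (kj xj20 yj7 zj24) (kj xj20 yj5 zj3) (kj xj20 yj5 zj4) (kj xj20 yj1 zj13) (kj xj20 yj1 zj14) (kj xj20 yj1 zj15) (kj xj20 yj7 zj25) (kj xj19 yj14 zj18)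 (kj xj19 yj14 zj19) (kj xj21 yj4 zj7) (kj xj21 yj4 zj8) (kj xj20 yj5 zj5) (kj xj19 yj14 zj35) (kj xj19 yj14 zj36) (kj xj19 yj14 zj38) (kj xj19 yj14 zj39) (kj xj19 yj14 zj40) (kj xj19 yj14 zj41) (kj xj19 yj14 zj42) (kj xj19 yj14 zj43) (kj xj19 yj14 zj44) (kj xj19 yj14 zj45) (kj xj21 yj2 zj0) (kj xj19 yj24 zj21) (kj xj19 yj24 zj22) (kj xj19 yj14 zj47) (kj xj19 yj14 zj48) (kj xj19 yj14 zj49) (kj xj19 yj19 zj1) (kj xj19 yj19 zj2) (kj xj21 yj4 zj10) (kj xj21 yj4 zj11) (kj xj21 yj4 zj12) (kj xj21 yj2 zj47) (kj xj21 yj4 zj13)) (@D3.rec (fun _ => Pt) (kj xj21 yj4 zj14) (kj xj21 yj4 zj15) (kj xj21 yj4 zj16) (kj xj21 yj4 zj17) (kj xj21 yj4 zj18) (kj xj21 yj4 zj19) (kj xj21 yj4 zj20) (kj xj21 yj4 zj21) (kj xj21 yj1 zj48) (kj xj21 yj4 zj26) (kj xj21 yj4 zj27) (kj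 xj21 yj4 zj28) (kj xj19 yj23 zj35) (kj xj19 yj23 zj36) (kj xj19 yj24 zj15) (kj xj19 yj24 zj16) (kj xj20 yj2 zj9) (kj xj19 yj15 zj17) (kj xj19 yj15 zj18) (kj xj19 yj15 zj22) (kj xj19 yj15 zj23) (kj xj19 yj15 zj26) (kj xj19 yj15 zj27) (kj xj19 yj15 zj28) (kj xj20 yj6 zj20) (kj xj20 yj6 zj21) (kj xj19 yj21 zj5) (kj xj19 yj15 zj33) (kj xj19 yj15 zj34) (kj xj19 yj15 zj35) (kj xj20 yj6 zj11) (kj xj20 yj6 zj12) (kj xj21 yj5 zj5) (kj xj21 yj5 zj6) (kj xj19 yj26 zj30) (kj xj19 yj26 zj34) (kj xj19 yj26 zj28) (kj xj21 yj5 zj7) (kj xj21 yj5 zj8) (kj xj21 yj5 zj9) (kj xj19 yj26 zj24) (kj xj20 yj5 zj49) (kj xj21 yj5 zj10) (kj xj21 yj5 zj11) (kj xj19 yj15 zj31) (kj xj19 yj15 zj32) (kj xj21 yj5 zj31) (kj xj21 yj5 zj32) (kj xj21 yj5 zj15) (kj xj21 yj5 zj16) (kj xj21 yj5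 zj17)) (@D3.rec (fun _ => Pt) (kj xj19 yj15 zj38) (kj xj19 yj19 zj7) (kj xj19 yj15 zj40) (kj xj19 yj15 zj41) (kj xj21 yj5 zj37) (kj xj21 yj5 zj38) (kj xj19 yj21 zj4) (kj xj20 yj2 zj40) (kj xj20 yj2 zj41) (kj xj20 yj2 zj42) (kj xj19 yj16 zj12) (kj xj19 yj16 zj13) (kj xj19 yj16 zj19) (kj xj19 yj16 zj20) (kj xj19 yj16 zj21) (kj xj19 yj16 zj31) (kj xj19 yj16 zj32) (kj xj19 yj23 zj48) (kj xj19 yj16 zj5) (kj xj19 yj16 zj6) (kj xj21 yj6 zj1) (kj xj21 yj6 zj2) (kj xj19 yj21 zj3) (kj xj19 yj16 zj38) (kj xj19 yj16 zj39) (kj xj20 yj0 zj50) (kj xj21 yj5 zj46) (kj xj21 yj5 zj47) (kj xj19 yj21 zj13) (kj xj19 yj21 zj14) (kj xj20 yj1 zj0) (kj xj20 yj1 zj1) (kj xj20 yj5 zj48) (kj xj21 yj5 zj48) (kj xj21 yj5 zj49) (kj xj19 yj26 zj46) (kj xj19 yj26 zj44) (kj xj20 yj1 zj2)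 (kj xj19 yj24 zj46) (kj xj20 yj6 zj2) (kj xj19 yj16 zj29) (kj xj21 yj6 zj16) (kj xj21 yj5 zj50) (kj xj20 yj6 zj4) (kj xj19 yj16 zj36) (kj xj19 yj16 zj37) (kj xj21 yj6 zj18) (kj xj21 yj6 zj5) (kj xj21 yj6 zj6) (kj xj19 yj24 zj12) (kj xj19 yj19 zj11)) (@D3.rec (fun _ => Pt) (kj xj19 yj16 zj42) (kj xj19 yj16 zj45) (kj xj21 yj6 zj22) (kj xj19 yj17 zj0) (kj xj19 yj17 zj26) (kj xj19 yj17 zj27) (kj xj19 yj17 zj21) (kj xj19 yj17 zj22) (kj xj21 yj6 zj23) (kj xj19 yj17 zj44) (kj xj19 yj17 zj7) (kj xj19 yj17 zj41) (kj xj19 yj17 zj42) (kj xj19 yj17 zj36) (kj xj19 yj17 zj37) (kj xj20 yj4 zj7) (kj xj20 yj4 zj8) (kj xj20 yj3 zj50) (kj xj20 yj4 zj0) (kj xj21 yj3 zj36) (kj xj21 yj1 zj42) (kj xj21 yj1 zj35) (kj xj21 yj3 zj37) (kj xj21 yj3 zj38) (kj xj21 yj3 zj39) (kj xj19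 yj17 zj28) (kj xj20 yj0 zj41) (kj xj20 yj0 zj42) (kj xj20 yj5 zj17) (kj xj20 yj5 zj18) (kj xj19 yj18 zj9) (kj xj21 yj6 zj26) (kj xj21 yj6 zj27) (kj xj19 yj18 zj22) (kj xj19 yj17 zj50) (kj xj19 yj18 zj0) (kj xj21 yj6 zj24) (kj xj21 yj6 zj25) (kj xj19 yj18 zj19) (kj xj20 yj0 zj37) (kj xj20 yj4 zj40) (kj xj20 yj4 zj41) (kj xj19 yj21 zj18) (kj xj19 yj21 zj19) (kj xj21 yj6 zj30) (kj xj19 yj18 zj41) (kj xj20 yj4 zj47) (kj xj20 yj4 zj48) (kj xj21 yj6 zj29) (kj xj19 yj18 zj38) (kj xj21 yj6 zj28)) (@D3.rec (fun _ => Pt) (kj xj19 yj18 zj1) (kj xj19 yj18 zj8) (kj xj19 yj18 zj21) (kj xj20 yj5 zj10) (kj xj20 yj5 zj11) (kj xj21 yj7 zj0) (kj xj21 yj7 zj1) (kj xj19 yj18 zj10) (kj xj19 yj25 zj16) (kj xj19 yj25 zj17) (kj xj19 yj25 zj33) (kj xj19 yj25 zj34) (kj xj20 yj3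 zj17) (kj xj20 yj3 zj18) (kj xj20 yj0 zj19) (kj xj20 yj0 zj25) (kj xj21 yj7 zj9) (kj xj21 yj6 zj48) (kj xj21 yj7 zj14) (kj xj19 yj18 zj18) (kj xj19 yj18 zj23) (kj xj19 yj18 zj34) (kj xj19 yj18 zj35) (kj xj19 yj25 zj24) (kj xj19 yj25 zj25) (kj xj19 yj19 zj46) (kj xj19 yj18 zj30) (kj xj21 yj7 zj28) (kj xj21 yj7 zj3) (kj xj19 yj19 zj45) (kj xj21 yj7 zj10) (kj xj21 yj6 zj50) (kj xj19 yj19 zj40) (kj xj19 yj19 zj35) (kj xj20 yj4 zj28) (kj xj19 yj18 zj37) (kj xj19 yj19 zj36) (kj xj19 yj18 zj40) (kj xj21 yj7 zj35) (kj xj20 yj5 zj9) (kj xj20 yj4 zj23) (kj xj19 yj20 zj48) (kj xj21 yj7 zj29) (kj xj21 yj7 zj30) (kj xj19 yj20 zj45) (kj xj19 yj20 zj44) (kj xj21 yj7 zj8) (kj xj19 yj21 zj2) (kj xj21 yj7 zj6) (kj xj19 yj20 zj47) (kj xj19 yj20 zj38)) (@D3.rec (fun _ =>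 Pt) (kj xj19 yj20 zj31) (kj xj19 yj20 zj34) (kj xj19 yj19 zj6) (kj xj19 yj19 zj8) (kj xj19 yj19 zj9) (kj xj19 yj19 zj10) (kj xj19 yj19 zj14) (kj xj19 yj19 zj15) (kj xj19 yj19 zj16) (kj xj21 yj4 zj29) (kj xj21 yj4 zj30) (kj xj21 yj3 zj21) (kj xj21 yj2 zj21) (kj xj20 yj3 zj44) (kj xj20 yj0 zj8) (kj xj19 yj26 zj8) (kj xj21 yj8 zj4) (kj xj21 yj5 zj36) (kj xj21 yj2 zj42) (kj xj21 yj8 zj5) (kj xj21 yj8 zj6) (kj xj21 yj3 zj34) (kj xj21 yj8 zj7) (kj xj21 yj6 zj21) (kj xj21 yj3 zj33) (kj xj21 yj8 zj32) (kj xj19 yj19 zj13) (kj xj21 yj8 zj8) (kj xj21 yj8 zj9) (kj xj21 yj8 zj10) (kj xj20 yj0 zj45) (kj xj19 yj19 zj31) (kj xj19 yj19 zj32) (kj xj19 yj19 zj33) (kj xj19 yj19 zj34) (kj xj19 yj19 zj38) (kj xj19 yj19 zj39) (kj xj19 yj19 zj43) (kj xj19 yj19 zj44) (kj xj20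 yj4 zj1) (kj xj20 yj4 zj2) (kj xj20 yj4 zj3) (kj xj20 yj4 zj4) (kj xj20 yj4 zj5) (kj xj20 yj4 zj6) (kj xj21 yj8 zj36) (kj xj21 yj8 zj37) (kj xj21 yj7 zj41) (kj xj21 yj8 zj38) (kj xj21 yj8 zj39) (kj xj21 yj8 zj40)) (@D3.rec (fun _ => Pt) (kj xj21 yj7 zj40) (kj xj21 yj7 zj42) (kj xj21 yj1 zj40) (kj xj21 yj8 zj41) (kj xj21 yj7 zj39) (kj xj21 yj1 zj31) (kj xj20 yj4 zj39) (kj xj21 yj8 zj42) (kj xj21 yj7 zj37) (kj xj21 yj7 zj34) (kj xj21 yj4 zj25) (kj xj20 yj4 zj42) (kj xj20 yj4 zj43) (kj xj19 yj20 zj27) (kj xj19 yj20 zj28) (kj xj19 yj20 zj29) (kj xj19 yj20 zj30) (kj xj19 yj20 zj32) (kj xj19 yj20 zj33) (kj xj19 yj20 zj35) (kj xj19 yj20 zj36) (kj xj19 yj20 zj42) (kj xj19 yj20 zj43) (kj xj19 yj20 zj46) (kj xj19 yj21 zj1) (kj xj19 yj21 zj23) (kj xj20 yj3 zj47)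 (kj xj20 yj4 zj9) (kj xj20 yj4 zj10) (kj xj20 yj4 zj11) (kj xj20 yj4 zj12) (kj xj20 yj4 zj13) (kj xj20 yj4 zj14) (kj xj20 yj4 zj15) (kj xj20 yj4 zj16) (kj xj20 yj4 zj17) (kj xj20 yj4 zj18) (kj xj20 yj4 zj19) (kj xj20 yj4 zj20) (kj xj20 yj4 zj21) (kj xj20 yj4 zj22) (kj xj21 yj9 zj13) (kj xj21 yj9 zj14) (kj xj21 yj8 zj3) (kj xj21 yj9 zj15) (kj xj21 yj9 zj16) (kj xj21 yj9 zj17) (kj xj21 yj7 zj49) (kj xj21 yj9 zj18) (kj xj21 yj9 zj19) (kj xj21 yj3 zj7)) (@D3.rec (fun _ => Pt) (kj xj21 yj8 zj2) (kj xj19 yj24 zj34) (kj xj21 yj9 zj20) (kj xj21 yj3 zj9) (kj xj21 yj8 zj1) (kj xj19 yj23 zj24) (kj xj19 yj26 zj3) (kj xj21 yj1 zj28) (kj xj21 yj1 zj29) (kj xj21 yj9 zj21) (kj xj21 yj7 zj48) (kj xj21 yj7 zj47) (kj xj21 yj5 zj42) (kj xj21 yj8 zj0) (kj xj21 yj7 zj45) (kj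 xj19 yj20 zj50) (kj xj20 yj5 zj8) (kj xj21 yj7 zj50) (kj xj21 yj6 zj4) (kj xj21 yj5 zj14) (kj xj21 yj5 zj1) (kj xj19 yj24 zj14) (kj xj19 yj23 zj29) (kj xj19 yj23 zj28) (kj xj19 yj21 zj15) (kj xj21 yj6 zj9) (kj xj21 yj6 zj10) (kj xj20 yj5 zj12) (kj xj21 yj7 zj5) (kj xj19 yj21 zj26) (kj xj19 yj21 zj27) (kj xj19 yj21 zj28) (kj xj21 yj9 zj22) (kj xj21 yj1 zj41) (kj xj21 yj1 zj34) (kj xj21 yj10 zj14) (kj xj21 yj10 zj15) (kj xj21 yj10 zj16) (kj xj19 yj22 zj10) (kj xj19 yj22 zj11) (kj xj20 yj5 zj13) (kj xj19 yj21 zj35) (kj xj19 yj21 zj36) (kj xj21 yj10 zj24) (kj xj20 yj5 zj16) (kj xj20 yj5 zj19) (kj xj20 yj5 zj20) (kj xj20 yj5 zj21) (kj xj19 yj22 zj0) (kj xj19 yj21 zj49) (kj xj19 yj21 zj50)) (@D3.rec (fun _ => Pt) (kj xj21 yj10 zj27) (kj xj20 yj6 zj10) (kj xj20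 yj6 zj9) (kj xj20 yj6 zj7) (kj xj19 yj22 zj5) (kj xj20 yj5 zj30) (kj xj19 yj22 zj12) (kj xj19 yj22 zj13) (kj xj21 yj10 zj21) (kj xj21 yj10 zj22) (kj xj21 yj10 zj23) (kj xj21 yj10 zj30) (kj xj19 yj22 zj23) (kj xj19 yj22 zj24) (kj xj19 yj22 zj25) (kj xj20 yj3 zj15) (kj xj20 yj3 zj16) (kj xj19 yj25 zj12) (kj xj20 yj3 zj19) (kj xj20 yj3 zj20) (kj xj20 yj0 zj1) (kj xj20 yj0 zj13) (kj xj21 yj10 zj33) (kj xj21 yj10 zj34) (kj xj21 yj10 zj35) (kj xj20 yj5 zj31) (kj xj20 yj5 zj32) (kj xj20 yj5 zj33) (kj xj21 yj2 zj22) (kj xj21 yj2 zj23) (kj xj21 yj2 zj24) (kj xj19 yj22 zj34) (kj xj19 yj22 zj35) (kj xj19 yj22 zj36) (kj xj21 yj11 zj3) (kj xj21 yj11 zj4) (kj xj21 yj11 zj5) (kj xj21 yj2 zj40) (kj xj19 yj22 zj40) (kj xj20 yj3 zj25) (kj xj20 yj3 zj26) (kj xj20 yj5 zj42)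 (kj xj20 yj5 zj43) (kj xj20 yj5 zj44) (kj xj20 yj5 zj45) (kj xj19 yj23 zj15) (kj xj19 yj23 zj16) (kj xj19 yj23 zj18) (kj xj21 yj1 zj46) (kj xj21 yj1 zj47) (kj xj19 yj23 zj19)) (@D3.rec (fun _ => Pt) (kj xj19 yj23 zj20) (kj xj19 yj23 zj21) (kj xj21 yj3 zj0) (kj xj21 yj3 zj1) (kj xj21 yj3 zj2) (kj xj21 yj3 zj3) (kj xj19 yj23 zj22) (kj xj19 yj23 zj23) (kj xj20 yj6 zj6) (kj xj20 yj6 zj38) (kj xj20 yj6 zj22) (kj xj20 yj6 zj23) (kj xj21 yj11 zj14) (kj xj21 yj11 zj15) (kj xj21 yj11 zj16) (kj xj20 yj6 zj24) (kj xj21 yj11 zj20) (kj xj21 yj11 zj21) (kj xj21 yj10 zj2) (kj xj21 yj11 zj25) (kj xj21 yj10 zj0) (kj xj21 yj9 zj47) (kj xj21 yj1 zj49) (kj xj20 yj2 zj33) (kj xj19 yj23 zj47) (kj xj19 yj24 zj8) (kj xj19 yj24 zj9) (kj xj19 yj24 zj11) (kj xj21 yj4 zj50) (kj xj21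 yj5 zj0) (kj xj19 yj24 zj17) (kj xj19 yj24 zj18) (kj xj19 yj24 zj19) (kj xj20 yj1 zj31) (kj xj20 yj1 zj32) (kj xj20 yj1 zj33) (kj xj20 yj1 zj47) (kj xj20 yj1 zj46) (kj xj20 yj0 zj27) (kj xj19 yj24 zj44) (kj xj20 yj6 zj30) (kj xj20 yj6 zj31) (kj xj20 yj6 zj32) (kj xj21 yj11 zj37) (kj xj21 yj6 zj0) (kj xj21 yj2 zj50) (kj xj21 yj3 zj24) (kj xj20 yj0 zj28) (kj xj20 yj3 zj6) (kj xj20 yj3 zj12) (kj xj20 yj3 zj13)) (@D3.rec (fun _ => Pt) (kj xj19 yj26 zj12) (kj xj20 yj3 zj14) (kj xj21 yj3 zj11) (kj xj21 yj3 zj12) (kj xj21 yj3 zj13) (kj xj21 yj11 zj38) (kj xj21 yj11 zj39) (kj xj21 yj11 zj40) (kj xj21 yj3 zj28) (kj xj21 yj10 zj12) (kj xj21 yj6 zj20) (kj xj21 yj3 zj32) (kj xj21 yj10 zj3) (kj xj21 yj5 zj2) (kj xj21 yj5 zj3) (kj xj21 yj5 zj4) (kj xj21 yj11 zj44) (kj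 xj21 yj11 zj45) (kj xj21 yj11 zj46) (kj xj20 yj6 zj13) (kj xj21 yj4 zj23) (kj xj21 yj4 zj24) (kj xj20 yj6 zj14) (kj xj20 yj6 zj15) (kj xj20 yj6 zj16) (kj xj19 yj24 zj39) (kj xj20 yj6 zj1) (kj xj19 yj24 zj45) (kj xj19 yj24 zj32) (kj xj19 yj24 zj33) (kj xj21 yj12 zj43) (kj xj21 yj12 zj44) (kj xj21 yj12 zj45) (kj xj21 yj9 zj48) (kj xj19 yj25 zj1) (kj xj19 yj25 zj2) (kj xj19 yj25 zj3) (kj xj20 yj5 zj47) (kj xj20 yj3 zj21) (kj xj20 yj7 zj12) (kj xj20 yj6 zj19) (kj xj21 yj12 zj2) (kj xj21 yj6 zj14) (kj xj19 yj24 zj49) (kj xj19 yj24 zj50) (kj xj19 yj25 zj0) (kj xj21 yj13 zj4) (kj xj21 yj13 zj5) (kj xj21 yj13 zj6) (kj xj21 yj12 zj50) (kj xj21 yj13 zj0)) (@D3.rec (fun _ => Pt) (kj xj21 yj13 zj1) (kj xj21 yj13 zj2) (kj xj19 yj25 zj6) (kj xj20 yj0 zj7) (kj xj21 yj12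 zj12) (kj xj19 yj25 zj11) (kj xj19 yj25 zj13) (kj xj19 yj25 zj10) (kj xj21 yj7 zj17) (kj xj21 yj10 zj39) (kj xj21 yj7 zj20) (kj xj19 yj26 zj32) (kj xj19 yj26 zj15) (kj xj21 yj7 zj15) (kj xj21 yj7 zj16) (kj xj20 yj6 zj45) (kj xj20 yj6 zj46) (kj xj20 yj6 zj47) (kj xj19 yj26 zj10) (kj xj19 yj26 zj11) (kj xj19 yj26 zj9) (kj xj21 yj7 zj31) (kj xj21 yj7 zj32) (kj xj21 yj7 zj33) (kj xj20 yj7 zj0) (kj xj20 yj7 zj1) (kj xj20 yj7 zj2) (kj xj19 yj26 zj7) (kj xj19 yj26 zj13) (kj xj19 yj26 zj14) (kj xj21 yj7 zj18) (kj xj21 yj7 zj19) (kj xj19 yj26 zj23) (kj xj19 yj26 zj25) (kj xj19 yj26 zj26) (kj xj19 yj26 zj27) (kj xj19 yj26 zj29) (kj xj19 yj25 zj42) (kj xj19 yj25 zj43) (kj xj19 yj25 zj44) (kj xj21 yj13 zj38) (kj xj21 yj13 zj39) (kj xj21 yj13 zj14) (kj xj21 yj13 zj40)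 (kj xj19 yj26 zj42) (kj xj19 yj26 zj43) (kj xj19 yj26 zj45) (kj xj19 yj26 zj0) (kj xj19 yj26 zj1) (kj xj19 yj26 zj2) (kj xj21 yj13 zj49)) (@D3.rec (fun _ => Pt) (kj xj21 yj13 zj50) (kj xj21 yj10 zj1) (kj xj21 yj10 zj43) (kj xj20 yj0 zj2) (kj xj20 yj0 zj3) (kj xj20 yj0 zj4) (kj xj20 yj0 zj5) (kj xj21 yj8 zj18) (kj xj21 yj13 zj24) (kj xj21 yj13 zj23) (kj xj21 yj12 zj41) (kj xj21 yj12 zj15) (kj xj21 yj13 zj30) (kj xj19 yj26 zj20) (kj xj19 yj26 zj21) (kj xj19 yj26 zj22) (kj xj21 yj2 zj4) (kj xj21 yj2 zj5) (kj xj21 yj2 zj6) (kj xj21 yj14 zj12) (kj xj21 yj14 zj13) (kj xj21 yj14 zj14) (kj xj21 yj14 zj15) (kj xj21 yj13 zj34) (kj xj21 yj5 zj28) (kj xj21 yj5 zj29) (kj xj21 yj13 zj35) (kj xj21 yj13 zj36) (kj xj21 yj5 zj24) (kj xj21 yj5 zj25) (kj xj21 yj13 zj37) (kj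 xj21 yj5 zj22) (kj xj21 yj3 zj6) (kj xj21 yj3 zj8) (kj xj21 yj5 zj23) (kj xj20 yj1 zj4) (kj xj20 yj1 zj5) (kj xj19 yj26 zj39) (kj xj19 yj26 zj40) (kj xj19 yj26 zj41) (kj xj21 yj14 zj37) (kj xj21 yj14 zj38) (kj xj21 yj13 zj46) (kj xj21 yj6 zj13) (kj xj21 yj13 zj47) (kj xj21 yj13 zj48) (kj xj19 yj26 zj50) (kj xj20 yj0 zj0) (kj xj21 yj14 zj42) (kj xj21 yj10 zj42) (kj xj21 yj7 zj23)) (@D3.rec (fun _ => Pt) (kj xj21 yj14 zj5) (kj xj21 yj14 zj6) (kj xj21 yj14 zj7) (kj xj21 yj14 zj8) (kj xj21 yj8 zj15) (kj xj21 yj10 zj40) (kj xj20 yj0 zj18) (kj xj20 yj1 zj29) (kj xj20 yj3 zj11) (kj xj21 yj7 zj24) (kj xj20 yj0 zj20) (kj xj20 yj0 zj21) (kj xj20 yj0 zj22) (kj xj21 yj15 zj1) (kj xj21 yj15 zj2) (kj xj21 yj12 zj11) (kj xj21 yj12 zj0) (kj xj21 yj4 zj35) (kj xj20 yj4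 zj31) (kj xj20 yj4 zj32) (kj xj20 yj4 zj35) (kj xj20 yj4 zj36) (kj xj20 yj4 zj37) (kj xj21 yj6 zj43) (kj xj21 yj6 zj44) (kj xj20 yj4 zj38) (kj xj20 yj1 zj6) (kj xj20 yj1 zj7) (kj xj21 yj6 zj7) (kj xj21 yj6 zj11) (kj xj21 yj14 zj35) (kj xj21 yj14 zj36) (kj xj21 yj14 zj32) (kj xj21 yj15 zj10) (kj xj20 yj7 zj10) (kj xj20 yj7 zj8) (kj xj20 yj7 zj21) (kj xj20 yj7 zj22) (kj xj20 yj7 zj17) (kj xj21 yj4 zj4) (kj xj21 yj4 zj5) (kj xj21 yj4 zj6) (kj xj20 yj1 zj34) (kj xj20 yj1 zj35) (kj xj20 yj1 zj36) (kj xj20 yj1 zj37) (kj xj20 yj1 zj38) (kj xj20 yj1 zj39) (kj xj20 yj1 zj40) (kj xj20 yj1 zj41) (kj xj21 yj12 zj1)) (@D3.rec (fun _ => Pt) (kj xj20 yj1 zj42) (kj xj20 yj1 zj43) (kj xj20 yj1 zj44) (kj xj20 yj1 zj45) (kj xj21 yj15 zj0) (kj xj21 yj11 zj47) (kj xj21 yj11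 zj48) (kj xj21 yj11 zj49) (kj xj21 yj11 zj50) (kj xj21 yj15 zj20) (kj xj21 yj15 zj21) (kj xj21 yj15 zj22) (kj xj21 yj15 zj23) (kj xj21 yj15 zj24) (kj xj21 yj15 zj25) (kj xj21 yj15 zj26) (kj xj21 yj15 zj28) (kj xj21 yj15 zj29) (kj xj20 yj6 zj25) (kj xj20 yj6 zj26) (kj xj20 yj6 zj27) (kj xj20 yj6 zj35) (kj xj20 yj6 zj36) (kj xj20 yj6 zj37) (kj xj20 yj6 zj43) (kj xj21 yj2 zj28) (kj xj21 yj2 zj29) (kj xj21 yj2 zj30) (kj xj21 yj3 zj18) (kj xj21 yj3 zj19) (kj xj21 yj3 zj20) (kj xj20 yj2 zj20) (kj xj20 yj2 zj21) (kj xj20 yj2 zj23) (kj xj20 yj2 zj24) (kj xj20 yj2 zj26) (kj xj20 yj2 zj27) (kj xj20 yj2 zj28) (kj xj20 yj2 zj29) (kj xj20 yj2 zj30) (kj xj20 yj2 zj32) (kj xj21 yj15 zj48) (kj xj21 yj15 zj49) (kj xj21 yj15 zj50) (kj xj20 yj6 zj3) (kj xj21 yj16 zj0) (kj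 xj20 yj6 zj8) (kj xj21 yj16 zj1) (kj xj21 yj16 zj2) (kj xj21 yj16 zj3) (kj xj21 yj16 zj4)) (@D3.rec (fun _ => Pt) (kj xj21 yj16 zj5) (kj xj21 yj3 zj14) (kj xj21 yj3 zj15) (kj xj21 yj3 zj16) (kj xj21 yj3 zj17) (kj xj21 yj3 zj22) (kj xj21 yj3 zj23) (kj xj21 yj5 zj43) (kj xj21 yj5 zj44) (kj xj21 yj5 zj45) (kj xj20 yj3 zj22) (kj xj20 yj3 zj23) (kj xj20 yj3 zj24) (kj xj20 yj3 zj27) (kj xj20 yj3 zj28) (kj xj20 yj3 zj29) (kj xj20 yj3 zj30) (kj xj20 yj3 zj31) (kj xj20 yj3 zj32) (kj xj20 yj3 zj33) (kj xj20 yj3 zj34) (kj xj21 yj8 zj16) (kj xj20 yj3 zj35) (kj xj20 yj3 zj36) (kj xj21 yj12 zj10) (kj xj20 yj3 zj41) (kj xj20 yj3 zj42) (kj xj21 yj14 zj2) (kj xj21 yj12 zj13) (kj xj21 yj12 zj14) (kj xj21 yj10 zj36) (kj xj21 yj10 zj37) (kj xj21 yj10 zj38) (kj xj21 yj7 zj21)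 (kj xj21 yj7 zj22) (kj xj21 yj10 zj41) (kj xj21 yj13 zj3) (kj xj21 yj16 zj20) (kj xj21 yj11 zj9) (kj xj21 yj11 zj10) (kj xj21 yj11 zj11) (kj xj21 yj16 zj21) (kj xj21 yj16 zj22) (kj xj21 yj16 zj23) (kj xj21 yj16 zj24) (kj xj21 yj16 zj25) (kj xj21 yj16 zj26) (kj xj21 yj16 zj27) (kj xj21 yj16 zj29) (kj xj20 yj3 zj39) (kj xj20 yj3 zj40)) (@D3.rec (fun _ => Pt) (kj xj21 yj16 zj43) (kj xj21 yj1 zj39) (kj xj21 yj1 zj33) (kj xj21 yj6 zj34) (kj xj21 yj6 zj35) (kj xj21 yj6 zj36) (kj xj21 yj8 zj43) (kj xj21 yj8 zj44) (kj xj21 yj8 zj45) (kj xj21 yj8 zj46) (kj xj21 yj8 zj47) (kj xj21 yj8 zj48) (kj xj21 yj6 zj31) (kj xj21 yj6 zj32) (kj xj21 yj6 zj33) (kj xj21 yj9 zj23) (kj xj21 yj9 zj24) (kj xj21 yj9 zj25) (kj xj21 yj9 zj26) (kj xj21 yj9 zj27) (kj xj21 yj9 zj28) (kj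 xj21 yj9 zj29) (kj xj21 yj9 zj30) (kj xj21 yj9 zj31) (kj xj21 yj9 zj32) (kj xj21 yj9 zj33) (kj xj21 yj9 zj34) (kj xj21 yj7 zj44) (kj xj20 yj6 zj48) (kj xj20 yj6 zj49) (kj xj20 yj6 zj50) (kj xj21 yj1 zj36) (kj xj21 yj1 zj32) (kj xj21 yj15 zj6) (kj xj21 yj3 zj47) (kj xj21 yj3 zj48) (kj xj21 yj3 zj49) (kj xj21 yj15 zj7) (kj xj21 yj15 zj8) (kj xj21 yj9 zj8) (kj xj21 yj7 zj4) (kj xj21 yj9 zj12) (kj xj20 yj5 zj1) (kj xj21 yj7 zj7) (kj xj21 yj3 zj46) (kj xj21 yj1 zj38) (kj xj21 yj4 zj3) (kj xj21 yj7 zj43) (kj xj21 yj7 zj11) (kj xj21 yj7 zj12) (kj xj21 yj3 zj42))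
def f_j_21 : D2 → D3 → Pt := @D2.rec (fun _ => D3 → Pt) (@D3.rec (fun _ => Pt) (kj xj21 yj3 zj43) (kj xj21 yj3 zj44) (kj xj21 yj6 zj45) (kj xj21 yj6 zj46) (kj xj21 yj6 zj47) (kj xj21 yj10 zj25) (kj xj21 yj10 zj26) (kj xj20 yj5 zj34) (kj xj20 yj5 zj35) (kj xj20 yj5 zj36) (kj xj20 yj5 zj37) (kj xj20 yj5 zj38) (kj xj20 yj5 zj39) (kj xj21 yj10 zj47) (kj xj21 yj10 zj48) (kj xj21 yj10 zj49) (kj xj21 yj17 zj27) (kj xj21 yj17 zj28) (kj xj21 yj17 zj29) (kj xj21 yj3 zj10) (kj xj21 yj11 zj12) (kj xj21 yj11 zj13) (kj xj20 yj7 zj13) (kj xj20 yj7 zj14) (kj xj21 yj12 zj42) (kj xj21 yj6 zj15) (kj xj21 yj6 zj17) (kj xj21 yj3 zj30) (kj xj21 yj11 zj26) (kj xj21 yj10 zj29) (kj xj21 yj10 zj28) (kj xj21 yj5 zj18) (kj xj21 yj5 zj19) (kj xj21 yj5 zj20) (kj xj21 yj12 zj39) (kj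 xj21 yj12 zj40) (kj xj21 yj5 zj12) (kj xj21 yj5 zj13) (kj xj21 yj11 zj27) (kj xj21 yj11 zj28) (kj xj21 yj11 zj29) (kj xj21 yj15 zj38) (kj xj21 yj15 zj39) (kj xj21 yj12 zj6) (kj xj21 yj2 zj1) (kj xj21 yj2 zj2) (kj xj21 yj2 zj3) (kj xj21 yj12 zj3) (kj xj21 yj12 zj4) (kj xj21 yj12 zj5) (kj xj21 yj3 zj50)) (@D3.rec (fun _ => Pt) (kj xj21 yj4 zj0) (kj xj21 yj4 zj1) (kj xj21 yj15 zj40) (kj xj21 yj15 zj41) (kj xj20 yj6 zj41) (kj xj20 yj6 zj42) (kj xj21 yj18 zj9) (kj xj21 yj13 zj21) (kj xj21 yj13 zj22) (kj xj21 yj17 zj14) (kj xj21 yj17 zj15) (kj xj21 yj13 zj27) (kj xj21 yj13 zj28) (kj xj21 yj13 zj29) (kj xj20 yj7 zj15) (kj xj20 yj7 zj16) (kj xj20 yj7 zj29) (kj xj21 yj15 zj14) (kj xj21 yj15 zj13) (kj xj21 yj17 zj36) (kj xj21 yj18 zj17) (kj xj21 yj15 zj16) (kj xj21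 yj2 zj9) (kj xj21 yj2 zj7) (kj xj21 yj2 zj8) (kj xj21 yj15 zj15) (kj xj21 yj4 zj2) (kj xj20 yj7 zj28) (kj xj20 yj17 zj7) (kj xj20 yj17 zj8) (kj xj20 yj7 zj37) (kj xj20 yj16 zj5) (kj xj20 yj26 zj32) (kj xj20 yj26 zj2) (kj xj20 yj17 zj34) (kj xj20 yj13 zj21) (kj xj20 yj26 zj31) (kj xj20 yj7 zj47) (kj xj20 yj26 zj45) (kj xj20 yj26 zj1) (kj xj20 yj16 zj2) (kj xj20 yj17 zj33) (kj xj20 yj13 zj20) (kj xj20 yj8 zj18) (kj xj20 yj8 zj19) (kj xj20 yj8 zj20) (kj xj20 yj18 zj48) (kj xj20 yj18 zj49) (kj xj20 yj11 zj8) (kj xj20 yj19 zj22) (kj xj20 yj8 zj17)) (@D3.rec (fun _ => Pt) (kj xj20 yj10 zj38) (kj xj21 yj0 zj44) (kj xj21 yj0 zj45) (kj xj21 yj0 zj46) (kj xj20 yj22 zj16) (kj xj20 yj22 zj17) (kj xj20 yj22 zj18) (kj xj21 yj1 zj23) (kj xj21 yj1 zj24) (kj xj21 yj1 zj22)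 (kj xj21 yj18 zj37) (kj xj21 yj18 zj29) (kj xj21 yj18 zj30) (kj xj21 yj18 zj31) (kj xj20 yj10 zj11) (kj xj20 yj8 zj35) (kj xj20 yj8 zj36) (kj xj20 yj8 zj37) (kj xj20 yj8 zj38) (kj xj20 yj8 zj39) (kj xj20 yj8 zj40) (kj xj20 yj15 zj12) (kj xj20 yj18 zj28) (kj xj20 yj18 zj29) (kj xj20 yj18 zj30) (kj xj20 yj8 zj41) (kj xj20 yj8 zj42) (kj xj20 yj8 zj43) (kj xj20 yj24 zj25) (kj xj20 yj24 zj26) (kj xj20 yj24 zj27) (kj xj21 yj19 zj3) (kj xj21 yj19 zj4) (kj xj21 yj19 zj5) (kj xj21 yj19 zj6) (kj xj21 yj19 zj8) (kj xj21 yj19 zj9) (kj xj21 yj19 zj15) (kj xj21 yj19 zj16) (kj xj21 yj19 zj17) (kj xj20 yj18 zj37) (kj xj20 yj8 zj47) (kj xj20 yj15 zj18) (kj xj20 yj9 zj29) (kj xj20 yj9 zj30) (kj xj20 yj9 zj31) (kj xj20 yj9 zj32) (kj xj20 yj10 zj49) (kj xj20 yj9 zj33) (kj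 xj20 yj9 zj34) (kj xj20 yj19 zj45)) (@D3.rec (fun _ => Pt) (kj xj20 yj19 zj2) (kj xj20 yj19 zj3) (kj xj20 yj19 zj4) (kj xj20 yj19 zj5) (kj xj20 yj9 zj36) (kj xj20 yj9 zj37) (kj xj20 yj22 zj32) (kj xj20 yj16 zj50) (kj xj20 yj22 zj33) (kj xj20 yj17 zj3) (kj xj21 yj0 zj19) (kj xj20 yj20 zj2) (kj xj20 yj20 zj3) (kj xj20 yj20 zj4) (kj xj20 yj25 zj1) (kj xj20 yj25 zj2) (kj xj20 yj25 zj3) (kj xj20 yj25 zj4) (kj xj20 yj24 zj28) (kj xj20 yj24 zj29) (kj xj20 yj24 zj30) (kj xj20 yj15 zj11) (kj xj20 yj25 zj5) (kj xj20 yj25 zj6) (kj xj20 yj19 zj46) (kj xj21 yj19 zj31) (kj xj21 yj19 zj32) (kj xj21 yj19 zj33) (kj xj20 yj20 zj8) (kj xj21 yj19 zj35) (kj xj21 yj0 zj27) (kj xj21 yj19 zj40) (kj xj20 yj20 zj11) (kj xj20 yj15 zj24) (kj xj20 yj15 zj21) (kj xj20 yj9 zj46) (kj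 xj20 yj13 zj19) (kj xj20 yj13 zj22) (kj xj20 yj13 zj23) (kj xj20 yj13 zj24) (kj xj20 yj10 zj5) (kj xj20 yj10 zj6) (kj xj20 yj26 zj50) (kj xj21 yj0 zj0) (kj xj21 yj0 zj1) (kj xj21 yj20 zj18) (kj xj20 yj26 zj44) (kj xj20 yj26 zj34) (kj xj20 yj26 zj35) (kj xj20 yj26 zj36) (kj xj21 yj0 zj50)) (@D3.rec (fun _ => Pt) (kj xj21 yj1 zj0) (kj xj21 yj1 zj1) (kj xj21 yj1 zj26) (kj xj20 yj26 zj46) (kj xj20 yj23 zj39) (kj xj20 yj23 zj40) (kj xj20 yj23 zj41) (kj xj20 yj10 zj25) (kj xj20 yj10 zj26) (kj xj21 yj20 zj28) (kj xj20 yj10 zj46) (kj xj20 yj10 zj47) (kj xj20 yj10 zj48) (kj xj20 yj10 zj50) (kj xj20 yj11 zj0) (kj xj20 yj11 zj1) (kj xj20 yj11 zj2) (kj xj20 yj11 zj3) (kj xj20 yj11 zj4) (kj xj20 yj11 zj5) (kj xj20 yj11 zj6) (kj xj20 yj11 zj7) (kj xj21 yj18 zj36) (kj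 xj20 yj20 zj20) (kj xj20 yj20 zj21) (kj xj20 yj16 zj10) (kj xj20 yj11 zj9) (kj xj20 yj11 zj10) (kj xj20 yj11 zj11) (kj xj20 yj15 zj9) (kj xj20 yj15 zj10) (kj xj21 yj20 zj29) (kj xj21 yj20 zj30) (kj xj21 yj19 zj34) (kj xj21 yj20 zj31) (kj xj20 yj23 zj17) (kj xj21 yj20 zj32) (kj xj21 yj20 zj33) (kj xj21 yj20 zj34) (kj xj21 yj20 zj35) (kj xj21 yj20 zj37) (kj xj21 yj20 zj38) (kj xj21 yj20 zj39) (kj xj21 yj20 zj40) (kj xj21 yj20 zj42) (kj xj21 yj20 zj43) (kj xj21 yj18 zj35) (kj xj21 yj20 zj49) (kj xj21 yj20 zj50) (kj xj21 yj21 zj0) (kj xj20 yj19 zj28)) (@D3.rec (fun _ => Pt) (kj xj20 yj19 zj29) (kj xj20 yj17 zj20) (kj xj20 yj20 zj13) (kj xj20 yj20 zj14) (kj xj20 yj20 zj15) (kj xj20 yj11 zj32) (kj xj20 yj11 zj33) (kj xj20 yj11 zj37) (kj xj20 yj11 zj38) (kj xj20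 yj11 zj39) (kj xj20 yj11 zj42) (kj xj20 yj11 zj43) (kj xj21 yj0 zj36) (kj xj21 yj0 zj37) (kj xj20 yj17 zj19) (kj xj20 yj11 zj48) (kj xj20 yj11 zj49) (kj xj20 yj11 zj50) (kj xj21 yj0 zj31) (kj xj21 yj0 zj32) (kj xj21 yj0 zj33) (kj xj21 yj21 zj29) (kj xj20 yj22 zj31) (kj xj20 yj22 zj34) (kj xj20 yj22 zj28) (kj xj20 yj22 zj29) (kj xj21 yj21 zj30) (kj xj21 yj21 zj31) (kj xj20 yj22 zj24) (kj xj20 yj22 zj25) (kj xj21 yj21 zj32) (kj xj20 yj11 zj46) (kj xj20 yj11 zj47) (kj xj21 yj21 zj46) (kj xj21 yj21 zj35) (kj xj21 yj21 zj36) (kj xj20 yj15 zj17) (kj xj20 yj12 zj4) (kj xj20 yj12 zj5) (kj xj21 yj21 zj49) (kj xj21 yj21 zj50) (kj xj21 yj22 zj0) (kj xj20 yj17 zj12) (kj xj20 yj25 zj7) (kj xj20 yj25 zj8) (kj xj20 yj25 zj9) (kj xj20 yj12 zj26) (kj xj20 yj12 zj27) (kj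 xj20 yj12 zj33) (kj xj20 yj12 zj34) (kj xj20 yj12 zj42)) (@D3.rec (fun _ => Pt) (kj xj20 yj19 zj44) (kj xj20 yj12 zj20) (kj xj20 yj12 zj21) (kj xj21 yj22 zj13) (kj xj20 yj17 zj18) (kj xj20 yj12 zj47) (kj xj20 yj12 zj48) (kj xj20 yj23 zj28) (kj xj21 yj22 zj10) (kj xj20 yj17 zj25) (kj xj20 yj17 zj26) (kj xj20 yj23 zj29) (kj xj21 yj22 zj11) (kj xj20 yj22 zj43) (kj xj20 yj20 zj42) (kj xj21 yj0 zj25) (kj xj20 yj12 zj41) (kj xj21 yj0 zj26) (kj xj20 yj12 zj46) (kj xj21 yj22 zj15) (kj xj20 yj20 zj10) (kj xj20 yj15 zj23) (kj xj20 yj13 zj2) (kj xj20 yj13 zj8) (kj xj20 yj13 zj36) (kj xj20 yj13 zj37) (kj xj20 yj13 zj31) (kj xj20 yj13 zj32) (kj xj20 yj13 zj50) (kj xj20 yj13 zj48) (kj xj20 yj13 zj44) (kj xj20 yj26 zj12) (kj xj20 yj26 zj13) (kj xj20 yj26 zj14) (kj xj20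 yj26 zj3) (kj xj20 yj26 zj4) (kj xj20 yj26 zj5) (kj xj21 yj20 zj14) (kj xj21 yj18 zj28) (kj xj21 yj18 zj25) (kj xj21 yj20 zj15) (kj xj21 yj20 zj16) (kj xj21 yj20 zj17) (kj xj20 yj23 zj23) (kj xj20 yj23 zj24) (kj xj21 yj0 zj2) (kj xj21 yj0 zj3) (kj xj21 yj0 zj4) (kj xj20 yj14 zj17) (kj xj21 yj22 zj20) (kj xj20 yj14 zj31)) (@D3.rec (fun _ => Pt) (kj xj20 yj14 zj5) (kj xj20 yj14 zj6) (kj xj21 yj22 zj19) (kj xj20 yj14 zj28) (kj xj20 yj26 zj40) (kj xj20 yj17 zj28) (kj xj20 yj14 zj48) (kj xj20 yj26 zj43) (kj xj20 yj14 zj46) (kj xj20 yj14 zj16) (kj xj20 yj14 zj30) (kj xj20 yj26 zj48) (kj xj20 yj26 zj49) (kj xj21 yj22 zj39) (kj xj20 yj14 zj18) (kj xj20 yj21 zj13) (kj xj20 yj21 zj14) (kj xj20 yj21 zj8) (kj xj20 yj21 zj30) (kj xj20 yj21 zj31) (kj xj20 yj21 zj10)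 (kj xj20 yj25 zj33) (kj xj20 yj25 zj34) (kj xj20 yj22 zj50) (kj xj20 yj23 zj9) (kj xj21 yj22 zj41) (kj xj21 yj22 zj36) (kj xj21 yj22 zj37) (kj xj20 yj14 zj27) (kj xj20 yj14 zj42) (kj xj20 yj14 zj43) (kj xj20 yj21 zj21) (kj xj20 yj21 zj22) (kj xj20 yj21 zj23) (kj xj20 yj16 zj9) (kj xj20 yj14 zj38) (kj xj21 yj22 zj40) (kj xj20 yj16 zj8) (kj xj21 yj22 zj38) (kj xj20 yj16 zj4) (kj xj20 yj16 zj0) (kj xj20 yj15 zj47) (kj xj20 yj16 zj1) (kj xj20 yj26 zj47) (kj xj20 yj26 zj27) (kj xj20 yj17 zj14) (kj xj21 yj23 zj8) (kj xj20 yj17 zj11) (kj xj20 yj17 zj10) (kj xj20 yj16 zj47) (kj xj20 yj17 zj17)) (@D3.rec (fun _ => Pt) (kj xj20 yj17 zj13) (kj xj20 yj17 zj4) (kj xj20 yj17 zj0) (kj xj20 yj16 zj43) (kj xj20 yj15 zj16) (kj xj20 yj15 zj19) (kj xj20 yj15 zj20) (kj xj20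 yj15 zj22) (kj xj20 yj15 zj27) (kj xj20 yj15 zj28) (kj xj20 yj15 zj29) (kj xj21 yj21 zj1) (kj xj21 yj21 zj2) (kj xj21 yj19 zj10) (kj xj21 yj20 zj4) (kj xj20 yj23 zj4) (kj xj20 yj25 zj21) (kj xj21 yj19 zj7) (kj xj20 yj22 zj7) (kj xj21 yj23 zj25) (kj xj21 yj21 zj48) (kj xj21 yj21 zj21) (kj xj21 yj19 zj29) (kj xj21 yj20 zj41) (kj xj21 yj23 zj26) (kj xj21 yj23 zj27) (kj xj21 yj23 zj28) (kj xj21 yj20 zj10) (kj xj21 yj20 zj36) (kj xj21 yj22 zj18) (kj xj21 yj20 zj13) (kj xj21 yj24 zj0) (kj xj20 yj15 zj25) (kj xj21 yj23 zj29) (kj xj21 yj23 zj30) (kj xj21 yj23 zj12) (kj xj20 yj15 zj45) (kj xj20 yj15 zj46) (kj xj20 yj15 zj48) (kj xj20 yj15 zj49) (kj xj20 yj15 zj50) (kj xj20 yj16 zj3) (kj xj20 yj16 zj7) (kj xj20 yj26 zj6) (kj xj20 yj26 zj7) (kj xj20 yj26 zj8) (kj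 xj20 yj26 zj9) (kj xj20 yj26 zj10) (kj xj20 yj26 zj11) (kj xj21 yj24 zj5) (kj xj21 yj24 zj6)) (@D3.rec (fun _ => Pt) (kj xj21 yj21 zj15) (kj xj21 yj23 zj16) (kj xj21 yj24 zj7) (kj xj21 yj24 zj8) (kj xj21 yj23 zj15) (kj xj21 yj23 zj7) (kj xj21 yj18 zj26) (kj xj21 yj23 zj14) (kj xj20 yj26 zj39) (kj xj21 yj23 zj13) (kj xj21 yj23 zj11) (kj xj21 yj20 zj48) (kj xj20 yj26 zj41) (kj xj20 yj16 zj41) (kj xj20 yj16 zj42) (kj xj20 yj16 zj44) (kj xj20 yj16 zj45) (kj xj20 yj16 zj46) (kj xj20 yj16 zj48) (kj xj20 yj16 zj49) (kj xj20 yj17 zj2) (kj xj20 yj17 zj9) (kj xj20 yj17 zj32) (kj xj20 yj26 zj15) (kj xj20 yj26 zj16) (kj xj20 yj26 zj17) (kj xj20 yj26 zj18) (kj xj20 yj26 zj19) (kj xj20 yj26 zj20) (kj xj20 yj26 zj21) (kj xj20 yj26 zj22) (kj xj20 yj26 zj23) (kj xj20 yj26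 zj24) (kj xj20 yj26 zj25) (kj xj20 yj26 zj26) (kj xj21 yj24 zj24) (kj xj21 yj24 zj25) (kj xj21 yj21 zj45) (kj xj21 yj23 zj22) (kj xj21 yj24 zj26) (kj xj21 yj24 zj27) (kj xj21 yj23 zj21) (kj xj21 yj22 zj5) (kj xj21 yj22 zj4) (kj xj21 yj24 zj28) (kj xj21 yj19 zj42) (kj xj21 yj23 zj24) (kj xj20 yj19 zj21) (kj xj20 yj20 zj33) (kj xj21 yj19 zj43) (kj xj21 yj23 zj23)) (@D3.rec (fun _ => Pt) (kj xj20 yj19 zj20) (kj xj20 yj22 zj1) (kj xj20 yj19 zj18) (kj xj20 yj20 zj12) (kj xj21 yj18 zj22) (kj xj21 yj23 zj20) (kj xj21 yj23 zj19) (kj xj21 yj22 zj3) (kj xj21 yj21 zj25) (kj xj21 yj23 zj18) (kj xj21 yj22 zj14) (kj xj21 yj21 zj34) (kj xj20 yj20 zj9) (kj xj21 yj22 zj16) (kj xj20 yj17 zj35) (kj xj20 yj17 zj36) (kj xj20 yj17 zj37) (kj xj21 yj18 zj27) (kj xj21 yj18 zj24)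 (kj xj21 yj25 zj9) (kj xj21 yj25 zj10) (kj xj20 yj18 zj8) (kj xj20 yj18 zj9) (kj xj20 yj18 zj10) (kj xj20 yj17 zj43) (kj xj21 yj0 zj5) (kj xj21 yj0 zj6) (kj xj20 yj18 zj0) (kj xj21 yj0 zj30) (kj xj21 yj0 zj29) (kj xj20 yj18 zj11) (kj xj21 yj25 zj14) (kj xj21 yj25 zj15) (kj xj20 yj18 zj22) (kj xj20 yj18 zj23) (kj xj20 yj18 zj24) (kj xj20 yj25 zj30) (kj xj20 yj25 zj31) (kj xj20 yj25 zj32) (kj xj20 yj21 zj9) (kj xj20 yj23 zj5) (kj xj20 yj25 zj35) (kj xj20 yj22 zj49) (kj xj20 yj22 zj2) (kj xj21 yj25 zj21) (kj xj21 yj25 zj22) (kj xj21 yj25 zj23) (kj xj21 yj0 zj13) (kj xj21 yj0 zj14) (kj xj21 yj0 zj15) (kj xj21 yj19 zj11)) (@D3.rec (fun _ => Pt) (kj xj21 yj19 zj12) (kj xj21 yj19 zj13) (kj xj21 yj19 zj14) (kj xj20 yj18 zj34) (kj xj20 yj18 zj35) (kj xj20 yj18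 zj36) (kj xj21 yj25 zj41) (kj xj21 yj25 zj42) (kj xj21 yj19 zj30) (kj xj20 yj25 zj38) (kj xj20 yj25 zj39) (kj xj20 yj25 zj40) (kj xj21 yj0 zj20) (kj xj21 yj0 zj21) (kj xj20 yj19 zj12) (kj xj20 yj19 zj13) (kj xj20 yj19 zj14) (kj xj21 yj18 zj32) (kj xj21 yj18 zj33) (kj xj21 yj18 zj34) (kj xj20 yj19 zj16) (kj xj20 yj19 zj17) (kj xj21 yj19 zj37) (kj xj21 yj19 zj38) (kj xj21 yj19 zj39) (kj xj20 yj19 zj19) (kj xj21 yj0 zj28) (kj xj21 yj0 zj38) (kj xj21 yj0 zj39) (kj xj21 yj0 zj40) (kj xj21 yj25 zj48) (kj xj21 yj25 zj49) (kj xj21 yj24 zj46) (kj xj21 yj26 zj1) (kj xj21 yj25 zj3) (kj xj21 yj25 zj1) (kj xj21 yj24 zj50) (kj xj20 yj19 zj43) (kj xj20 yj20 zj5) (kj xj20 yj20 zj6) (kj xj20 yj20 zj7) (kj xj21 yj21 zj22) (kj xj21 yj21 zj23) (kj xj21 yj21 zj24) (kj xj20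 yj20 zj16) (kj xj20 yj20 zj17) (kj xj20 yj20 zj18) (kj xj20 yj24 zj5) (kj xj20 yj24 zj6) (kj xj20 yj24 zj7) (kj xj20 yj24 zj8)) (@D3.rec (fun _ => Pt) (kj xj20 yj23 zj16) (kj xj20 yj23 zj50) (kj xj20 yj20 zj41) (kj xj21 yj0 zj47) (kj xj21 yj0 zj48) (kj xj21 yj0 zj49) (kj xj21 yj0 zj43) (kj xj21 yj22 zj12) (kj xj21 yj19 zj36) (kj xj21 yj20 zj6) (kj xj20 yj25 zj24) (kj xj20 yj23 zj15) (kj xj20 yj21 zj4) (kj xj20 yj25 zj28) (kj xj20 yj25 zj29) (kj xj20 yj22 zj11) (kj xj21 yj19 zj44) (kj xj21 yj19 zj45) (kj xj21 yj19 zj46) (kj xj21 yj19 zj47) (kj xj21 yj18 zj42) (kj xj21 yj26 zj12) (kj xj21 yj26 zj13) (kj xj21 yj20 zj9) (kj xj21 yj20 zj1) (kj xj21 yj20 zj0) (kj xj21 yj25 zj5) (kj xj21 yj20 zj12) (kj xj21 yj25 zj4) (kj xj21 yj21 zj26) (kj xj21 yj21 zj27) (kj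 xj21 yj21 zj28) (kj xj21 yj26 zj17) (kj xj21 yj26 zj18) (kj xj21 yj26 zj19) (kj xj21 yj26 zj20) (kj xj21 yj20 zj45) (kj xj21 yj20 zj46) (kj xj21 yj20 zj47) (kj xj21 yj0 zj34) (kj xj21 yj0 zj35) (kj xj20 yj22 zj10) (kj xj21 yj0 zj24) (kj xj20 yj20 zj30) (kj xj20 yj20 zj31) (kj xj20 yj20 zj32) (kj xj22 yj0 zj10) (kj xj22 yj0 zj11) (kj xj21 yj25 zj0) (kj xj21 yj26 zj33) (kj xj20 yj20 zj49)) (@D3.rec (fun _ => Pt) (kj xj20 yj20 zj50) (kj xj20 yj21 zj0) (kj xj20 yj21 zj1) (kj xj20 yj25 zj36) (kj xj20 yj20 zj46) (kj xj20 yj20 zj47) (kj xj20 yj20 zj48) (kj xj22 yj0 zj20) (kj xj22 yj0 zj21) (kj xj21 yj22 zj46) (kj xj22 yj0 zj17) (kj xj22 yj0 zj18) (kj xj21 yj25 zj26) (kj xj22 yj0 zj19) (kj xj20 yj21 zj42) (kj xj21 yj22 zj47) (kj xj21 yj25 zj27) (kj xj21 yj23 zj0)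 (kj xj21 yj22 zj43) (kj xj21 yj22 zj44) (kj xj21 yj22 zj45) (kj xj21 yj1 zj7) (kj xj21 yj1 zj8) (kj xj20 yj22 zj9) (kj xj20 yj22 zj8) (kj xj21 yj23 zj9) (kj xj21 yj23 zj10) (kj xj21 yj1 zj11) (kj xj21 yj1 zj12) (kj xj21 yj1 zj13) (kj xj20 yj22 zj12) (kj xj21 yj22 zj48) (kj xj21 yj22 zj49) (kj xj21 yj22 zj50) (kj xj20 yj22 zj23) (kj xj20 yj22 zj26) (kj xj20 yj22 zj27) (kj xj20 yj22 zj30) (kj xj20 yj21 zj40) (kj xj20 yj21 zj41) (kj xj20 yj21 zj43) (kj xj22 yj0 zj45) (kj xj22 yj0 zj14) (kj xj22 yj0 zj46) (kj xj21 yj23 zj36) (kj xj21 yj25 zj29) (kj xj20 yj22 zj42) (kj xj20 yj22 zj44) (kj xj20 yj22 zj45) (kj xj20 yj21 zj50) (kj xj20 yj22 zj0)) (@D3.rec (fun _ => Pt) (kj xj22 yj1 zj4) (kj xj21 yj25 zj2) (kj xj20 yj25 zj27) (kj xj21 yj25 zj31) (kj xj21 yj23 zj4)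 (kj xj20 yj23 zj0) (kj xj20 yj23 zj1) (kj xj20 yj23 zj2) (kj xj20 yj23 zj3) (kj xj21 yj23 zj37) (kj xj22 yj0 zj32) (kj xj22 yj0 zj9) (kj xj20 yj22 zj19) (kj xj20 yj22 zj20) (kj xj20 yj22 zj21) (kj xj20 yj22 zj22) (kj xj21 yj18 zj43) (kj xj21 yj18 zj44) (kj xj21 yj18 zj45) (kj xj21 yj18 zj46) (kj xj22 yj1 zj13) (kj xj22 yj1 zj14) (kj xj22 yj1 zj15) (kj xj21 yj25 zj28) (kj xj21 yj21 zj42) (kj xj21 yj21 zj44) (kj xj21 yj19 zj25) (kj xj22 yj0 zj41) (kj xj21 yj21 zj39) (kj xj22 yj0 zj42) (kj xj21 yj21 zj40) (kj xj22 yj0 zj43) (kj xj20 yj23 zj32) (kj xj22 yj0 zj44) (kj xj21 yj19 zj41) (kj xj20 yj23 zj30) (kj xj20 yj23 zj31) (kj xj20 yj22 zj40) (kj xj20 yj22 zj41) (kj xj22 yj1 zj37) (kj xj22 yj1 zj2) (kj xj22 yj1 zj3) (kj xj20 yj22 zj48) (kj xj21 yj25 zj30) (kj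 xj21 yj23 zj3) (kj xj22 yj1 zj8) (kj xj22 yj1 zj9) (kj xj22 yj1 zj10) (kj xj21 yj26 zj32) (kj xj21 yj18 zj47) (kj xj21 yj23 zj1)) (@D3.rec (fun _ => Pt) (kj xj20 yj24 zj4) (kj xj20 yj23 zj13) (kj xj20 yj23 zj14) (kj xj22 yj1 zj44) (kj xj21 yj26 zj25) (kj xj21 yj21 zj6) (kj xj20 yj26 zj33) (kj xj20 yj26 zj37) (kj xj20 yj26 zj38) (kj xj21 yj22 zj33) (kj xj20 yj23 zj33) (kj xj22 yj1 zj36) (kj xj22 yj1 zj34) (kj xj21 yj1 zj18) (kj xj21 yj1 zj17) (kj xj21 yj1 zj25) (kj xj21 yj1 zj21) (kj xj21 yj20 zj25) (kj xj21 yj20 zj26) (kj xj21 yj20 zj27) (kj xj20 yj24 zj9) (kj xj20 yj24 zj10) (kj xj20 yj24 zj11) (kj xj20 yj24 zj12) (kj xj20 yj24 zj13) (kj xj20 yj24 zj14) (kj xj20 yj24 zj15) (kj xj21 yj26 zj24) (kj xj20 yj24 zj16) (kj xj20 yj24 zj17) (kj xj22 yj1 zj43)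 (kj xj21 yj26 zj21) (kj xj21 yj26 zj22) (kj xj21 yj26 zj23) (kj xj22 yj2 zj5) (kj xj22 yj2 zj6) (kj xj22 yj2 zj7) (kj xj22 yj2 zj8) (kj xj21 yj0 zj41) (kj xj21 yj0 zj42) (kj xj21 yj1 zj2) (kj xj21 yj1 zj3) (kj xj21 yj19 zj18) (kj xj21 yj19 zj19) (kj xj21 yj19 zj20) (kj xj21 yj19 zj21) (kj xj21 yj20 zj2) (kj xj21 yj20 zj3) (kj xj20 yj24 zj41) (kj xj20 yj24 zj42) (kj xj20 yj24 zj43)) (@D3.rec (fun _ => Pt) (kj xj20 yj24 zj45) (kj xj20 yj24 zj47) (kj xj20 yj24 zj48) (kj xj20 yj24 zj49) (kj xj20 yj24 zj50) (kj xj20 yj25 zj0) (kj xj22 yj2 zj22) (kj xj22 yj2 zj23) (kj xj22 yj2 zj24) (kj xj22 yj2 zj25) (kj xj22 yj2 zj26) (kj xj22 yj2 zj27) (kj xj21 yj19 zj48) (kj xj21 yj19 zj49) (kj xj21 yj19 zj50) (kj xj21 yj20 zj5) (kj xj21 yj22 zj6) (kj xj21 yj22 zj7) (kj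 xj21 yj22 zj8) (kj xj21 yj22 zj9) (kj xj20 yj25 zj37) (kj xj20 yj25 zj41) (kj xj20 yj25 zj42) (kj xj20 yj25 zj43) (kj xj20 yj25 zj44) (kj xj20 yj25 zj45) (kj xj20 yj25 zj46) (kj xj20 yj25 zj47) (kj xj21 yj23 zj34) (kj xj20 yj25 zj48) (kj xj21 yj26 zj31) (kj xj22 yj1 zj5) (kj xj21 yj26 zj34) (kj xj21 yj25 zj24) (kj xj21 yj25 zj25) (kj xj21 yj23 zj2) (kj xj21 yj25 zj44) (kj xj21 yj25 zj45) (kj xj22 yj2 zj40) (kj xj22 yj2 zj41) (kj xj22 yj2 zj42) (kj xj22 yj2 zj43) (kj xj22 yj2 zj44) (kj xj20 yj26 zj0) (kj xj21 yj18 zj23) (kj xj21 yj22 zj25) (kj xj21 yj22 zj26) (kj xj21 yj22 zj27) (kj xj21 yj22 zj28) (kj xj21 yj24 zj9) (kj xj21 yj24 zj10)) (@D3.rec (fun _ => Pt) (kj xj21 yj24 zj11) (kj xj21 yj24 zj12) (kj xj21 yj22 zj21) (kj xj21 yj22 zj22) (kj xj21 yj22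 zj23) (kj xj21 yj22 zj24) (kj xj21 yj24 zj29) (kj xj21 yj24 zj30) (kj xj21 yj24 zj31) (kj xj21 yj24 zj32) (kj xj21 yj24 zj33) (kj xj21 yj24 zj34) (kj xj21 yj24 zj35) (kj xj21 yj23 zj17) (kj xj21 yj1 zj9) (kj xj21 yj1 zj10) (kj xj21 yj20 zj21) (kj xj21 yj20 zj22) (kj xj22 yj1 zj46) (kj xj22 yj1 zj47) (kj xj21 yj22 zj42) (kj xj21 yj20 zj19) (kj xj21 yj20 zj20) (kj xj21 yj22 zj34) (kj xj21 yj22 zj35) (kj xj21 yj25 zj16) (kj xj21 yj25 zj17) (kj xj21 yj0 zj16) (kj xj21 yj0 zj17) (kj xj21 yj0 zj18) (kj xj21 yj25 zj35) (kj xj21 yj25 zj36) (kj xj22 yj3 zj26) (kj xj22 yj3 zj27) (kj xj21 yj25 zj46) (kj xj21 yj25 zj47) (kj xj21 yj1 zj19) (kj xj21 yj22 zj17) (kj xj21 yj20 zj11) (kj xj21 yj25 zj18) (kj xj21 yj21 zj37) (kj xj21 yj21 zj38) (kj xj22 yj0 zj7) (kj xj22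 yj0 zj8) (kj xj21 yj21 zj33) (kj xj21 yj26 zj4) (kj xj21 yj26 zj5) (kj xj21 yj26 zj6) (kj xj22 yj2 zj15) (kj xj21 yj26 zj28) (kj xj21 yj18 zj41)) (@D3.rec (fun _ => Pt) (kj xj21 yj18 zj38) (kj xj21 yj18 zj39) (kj xj21 yj18 zj40) (kj xj21 yj26 zj26) (kj xj21 yj26 zj27) (kj xj21 yj20 zj23) (kj xj21 yj20 zj24) (kj xj22 yj2 zj16) (kj xj22 yj2 zj17) (kj xj21 yj1 zj6) (kj xj22 yj0 zj31) (kj xj22 yj0 zj33) (kj xj22 yj3 zj16) (kj xj22 yj3 zj17) (kj xj22 yj0 zj36) (kj xj22 yj0 zj37) (kj xj22 yj0 zj38) (kj xj21 yj1 zj20) (kj xj22 yj1 zj50) (kj xj22 yj2 zj0) (kj xj21 yj18 zj49) (kj xj21 yj18 zj48) (kj xj21 yj10 zj4) (kj xj21 yj16 zj44) (kj xj21 yj10 zj18) (kj xj21 yj6 zj39) (kj xj21 yj9 zj6) (kj xj21 yj10 zj17) (kj xj21 yj6 zj38) (kj xj21 yj2 zj11) (kj xj21 yj2 zj12)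 (kj xj21 yj2 zj13) (kj xj21 yj11 zj17) (kj xj21 yj11 zj18) (kj xj21 yj11 zj19) (kj xj21 yj4 zj46) (kj xj21 yj4 zj22) (kj xj21 yj2 zj10) (kj xj21 yj18 zj0) (kj xj21 yj18 zj1) (kj xj21 yj18 zj2) (kj xj21 yj17 zj50) (kj xj21 yj12 zj20) (kj xj21 yj14 zj16) (kj xj21 yj14 zj17) (kj xj21 yj14 zj18) (kj xj21 yj14 zj19) (kj xj21 yj14 zj49) (kj xj21 yj18 zj21) (kj xj21 yj18 zj20) (kj xj22 yj4 zj12)) (@D3.rec (fun _ => Pt) (kj xj22 yj4 zj6) (kj xj22 yj4 zj7) (kj xj22 yj4 zj8) (kj xj21 yj2 zj31) (kj xj21 yj2 zj32) (kj xj21 yj2 zj33) (kj xj21 yj2 zj34) (kj xj21 yj8 zj17) (kj xj21 yj2 zj35) (kj xj21 yj2 zj36) (kj xj21 yj8 zj13) (kj xj21 yj10 zj50) (kj xj21 yj11 zj0) (kj xj21 yj11 zj1) (kj xj21 yj11 zj2) (kj xj21 yj2 zj37) (kj xj21 yj2 zj38) (kj xj21 yj2 zj39) (kj xj21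 yj15 zj42) (kj xj21 yj15 zj43) (kj xj21 yj15 zj44) (kj xj21 yj15 zj45) (kj xj22 yj4 zj31) (kj xj22 yj4 zj32) (kj xj22 yj4 zj33) (kj xj21 yj14 zj26) (kj xj22 yj4 zj35) (kj xj22 yj4 zj41) (kj xj22 yj4 zj42) (kj xj21 yj8 zj22) (kj xj21 yj11 zj8) (kj xj21 yj3 zj25) (kj xj21 yj3 zj26) (kj xj21 yj3 zj27) (kj xj21 yj4 zj33) (kj xj21 yj3 zj29) (kj xj21 yj12 zj8) (kj xj21 yj11 zj22) (kj xj21 yj11 zj23) (kj xj21 yj11 zj24) (kj xj21 yj3 zj31) (kj xj21 yj14 zj34) (kj xj21 yj9 zj45) (kj xj21 yj9 zj49) (kj xj21 yj12 zj16) (kj xj21 yj12 zj17) (kj xj21 yj12 zj18) (kj xj21 yj12 zj19) (kj xj21 yj16 zj12) (kj xj21 yj16 zj13) (kj xj21 yj16 zj14)) (@D3.rec (fun _ => Pt) (kj xj21 yj12 zj25) (kj xj21 yj12 zj24) (kj xj21 yj15 zj46) (kj xj21 yj15 zj47) (kj xj21 yj8 zj14) (kj xj21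 yj16 zj15) (kj xj21 yj12 zj9) (kj xj22 yj5 zj3) (kj xj22 yj5 zj4) (kj xj21 yj12 zj23) (kj xj21 yj8 zj27) (kj xj21 yj17 zj38) (kj xj21 yj12 zj27) (kj xj21 yj8 zj30) (kj xj21 yj6 zj37) (kj xj21 yj6 zj40) (kj xj21 yj6 zj41) (kj xj21 yj6 zj42) (kj xj21 yj3 zj45) (kj xj21 yj17 zj21) (kj xj21 yj17 zj22) (kj xj21 yj17 zj16) (kj xj21 yj17 zj17) (kj xj21 yj18 zj5) (kj xj21 yj18 zj6) (kj xj21 yj15 zj17) (kj xj21 yj15 zj18) (kj xj21 yj15 zj19) (kj xj21 yj4 zj9) (kj xj21 yj4 zj31) (kj xj21 yj4 zj32) (kj xj21 yj4 zj34) (kj xj21 yj4 zj36) (kj xj21 yj4 zj37) (kj xj21 yj4 zj38) (kj xj21 yj4 zj39) (kj xj21 yj8 zj28) (kj xj21 yj4 zj40) (kj xj21 yj4 zj41) (kj xj21 yj4 zj42) (kj xj21 yj4 zj43) (kj xj21 yj8 zj23) (kj xj21 yj4 zj44) (kj xj21 yj4 zj45) (kj xj22 yj4 zj13) (kj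 xj21 yj12 zj36) (kj xj21 yj12 zj37) (kj xj21 yj12 zj38) (kj xj21 yj9 zj11) (kj xj21 yj4 zj47) (kj xj21 yj4 zj48)) (@D3.rec (fun _ => Pt) (kj xj21 yj4 zj49) (kj xj21 yj8 zj11) (kj xj21 yj8 zj12) (kj xj22 yj5 zj39) (kj xj22 yj5 zj5) (kj xj22 yj5 zj40) (kj xj21 yj15 zj5) (kj xj22 yj5 zj41) (kj xj22 yj5 zj42) (kj xj22 yj5 zj43) (kj xj22 yj5 zj44) (kj xj22 yj5 zj46) (kj xj22 yj5 zj47) (kj xj22 yj5 zj48) (kj xj22 yj5 zj49) (kj xj21 yj9 zj0) (kj xj22 yj6 zj0) (kj xj22 yj4 zj11) (kj xj22 yj6 zj6) (kj xj22 yj6 zj7) (kj xj22 yj6 zj8) (kj xj21 yj8 zj21) (kj xj21 yj11 zj41) (kj xj21 yj11 zj42) (kj xj21 yj11 zj43) (kj xj21 yj10 zj8) (kj xj21 yj12 zj29) (kj xj21 yj12 zj30) (kj xj21 yj12 zj31) (kj xj21 yj5 zj21) (kj xj21 yj5 zj26) (kj xj21 yj5 zj27) (kj xj21 yj5 zj30)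 (kj xj21 yj17 zj44) (kj xj21 yj10 zj11) (kj xj21 yj5 zj34) (kj xj21 yj5 zj35) (kj xj21 yj17 zj40) (kj xj21 yj17 zj41) (kj xj21 yj14 zj28) (kj xj21 yj14 zj30) (kj xj22 yj6 zj38) (kj xj21 yj14 zj24) (kj xj22 yj6 zj39) (kj xj21 yj14 zj25) (kj xj21 yj9 zj37) (kj xj21 yj5 zj33) (kj xj22 yj6 zj41) (kj xj21 yj8 zj20) (kj xj21 yj5 zj39) (kj xj21 yj5 zj40)) (@D3.rec (fun _ => Pt) (kj xj21 yj5 zj41) (kj xj22 yj7 zj0) (kj xj22 yj7 zj1) (kj xj21 yj10 zj7) (kj xj21 yj9 zj43) (kj xj21 yj9 zj42) (kj xj21 yj16 zj16) (kj xj21 yj16 zj17) (kj xj21 yj16 zj18) (kj xj21 yj16 zj19) (kj xj21 yj6 zj8) (kj xj21 yj6 zj12) (kj xj21 yj12 zj7) (kj xj21 yj6 zj3) (kj xj21 yj10 zj10) (kj xj21 yj6 zj19) (kj xj21 yj10 zj13) (kj xj21 yj17 zj37) (kj xj21 yj8 zj29) (kj xj21 yj7 zj2) (kj xj21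 yj6 zj49) (kj xj21 yj17 zj2) (kj xj21 yj17 zj3) (kj xj21 yj17 zj4) (kj xj21 yj17 zj5) (kj xj21 yj16 zj45) (kj xj21 yj16 zj46) (kj xj21 yj16 zj47) (kj xj21 yj16 zj48) (kj xj22 yj4 zj5) (kj xj22 yj4 zj4) (kj xj22 yj5 zj27) (kj xj22 yj5 zj28) (kj xj21 yj15 zj9) (kj xj21 yj17 zj23) (kj xj21 yj17 zj24) (kj xj21 yj7 zj26) (kj xj21 yj7 zj27) (kj xj21 yj7 zj38) (kj xj21 yj7 zj13) (kj xj21 yj7 zj36) (kj xj21 yj7 zj25) (kj xj21 yj17 zj20) (kj xj21 yj13 zj18) (kj xj21 yj13 zj19) (kj xj21 yj13 zj20) (kj xj21 yj13 zj9) (kj xj21 yj13 zj15) (kj xj21 yj13 zj31) (kj xj21 yj13 zj32) (kj xj21 yj13 zj33)) (@D3.rec (fun _ => Pt) (kj xj21 yj13 zj17) (kj xj21 yj14 zj50) (kj xj21 yj16 zj35) (kj xj21 yj14 zj44) (kj xj21 yj14 zj4) (kj xj22 yj7 zj21) (kj xj22 yj7 zj23) (kj xj21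 yj9 zj5) (kj xj21 yj7 zj46) (kj xj21 yj13 zj25) (kj xj21 yj13 zj26) (kj xj21 yj9 zj10) (kj xj21 yj8 zj35) (kj xj21 yj9 zj9) (kj xj21 yj9 zj7) (kj xj21 yj9 zj4) (kj xj21 yj9 zj1) (kj xj21 yj17 zj13) (kj xj21 yj10 zj9) (kj xj21 yj10 zj6) (kj xj21 yj10 zj5) (kj xj21 yj9 zj41) (kj xj21 yj9 zj38) (kj xj21 yj9 zj50) (kj xj21 yj9 zj46) (kj xj21 yj8 zj19) (kj xj21 yj8 zj24) (kj xj21 yj8 zj25) (kj xj21 yj8 zj26) (kj xj21 yj8 zj33) (kj xj21 yj8 zj34) (kj xj22 yj6 zj9) (kj xj22 yj4 zj36) (kj xj22 yj5 zj22) (kj xj21 yj16 zj28) (kj xj22 yj4 zj34) (kj xj21 yj13 zj44) (kj xj21 yj14 zj9) (kj xj22 yj6 zj50) (kj xj22 yj6 zj28) (kj xj22 yj5 zj2) (kj xj22 yj4 zj30) (kj xj22 yj5 zj50) (kj xj22 yj7 zj49) (kj xj22 yj7 zj50) (kj xj22 yj5 zj25) (kj xj22 yj5 zj20) (kj xj22 yj7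 zj43) (kj xj22 yj5 zj45) (kj xj22 yj5 zj26) (kj xj22 yj8 zj23)) (@D3.rec (fun _ => Pt) (kj xj21 yj8 zj31) (kj xj22 yj8 zj0) (kj xj22 yj8 zj1) (kj xj22 yj7 zj42) (kj xj22 yj6 zj5) (kj xj21 yj8 zj49) (kj xj21 yj8 zj50) (kj xj21 yj9 zj2) (kj xj21 yj9 zj3) (kj xj21 yj16 zj49) (kj xj21 yj16 zj50) (kj xj21 yj17 zj0) (kj xj21 yj17 zj1) (kj xj22 yj8 zj28) (kj xj22 yj6 zj22) (kj xj22 yj7 zj45) (kj xj22 yj6 zj23) (kj xj22 yj8 zj29) (kj xj22 yj7 zj44) (kj xj22 yj8 zj30) (kj xj22 yj7 zj38) (kj xj22 yj7 zj32) (kj xj22 yj7 zj40) (kj xj22 yj6 zj4) (kj xj21 yj9 zj35) (kj xj21 yj9 zj36) (kj xj21 yj9 zj39) (kj xj21 yj9 zj40) (kj xj21 yj9 zj44) (kj xj21 yj17 zj6) (kj xj21 yj17 zj7) (kj xj21 yj17 zj8) (kj xj21 yj17 zj9) (kj xj21 yj17 zj10) (kj xj21 yj17 zj11) (kj xj21 yj17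 zj12) (kj xj22 yj8 zj44) (kj xj22 yj6 zj49) (kj xj22 yj7 zj47) (kj xj22 yj6 zj17) (kj xj22 yj5 zj0) (kj xj22 yj8 zj45) (kj xj22 yj7 zj46) (kj xj22 yj8 zj46) (kj xj22 yj7 zj6) (kj xj22 yj7 zj5) (kj xj21 yj11 zj32) (kj xj22 yj6 zj32) (kj xj22 yj5 zj9) (kj xj22 yj7 zj48) (kj xj21 yj11 zj36)) (@D3.rec (fun _ => Pt) (kj xj21 yj12 zj48) (kj xj21 yj11 zj35) (kj xj21 yj14 zj1) (kj xj21 yj11 zj34) (kj xj21 yj12 zj28) (kj xj21 yj12 zj26) (kj xj22 yj7 zj3) (kj xj22 yj6 zj31) (kj xj22 yj6 zj40) (kj xj21 yj10 zj19) (kj xj21 yj10 zj20) (kj xj22 yj4 zj3) (kj xj22 yj9 zj19) (kj xj22 yj9 zj20) (kj xj21 yj10 zj31) (kj xj21 yj10 zj32) (kj xj21 yj17 zj25) (kj xj21 yj17 zj26) (kj xj21 yj17 zj39) (kj xj22 yj9 zj22) (kj xj22 yj9 zj23) (kj xj21 yj10 zj44) (kj xj21 yj10 zj45)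 (kj xj21 yj10 zj46) (kj xj21 yj16 zj33) (kj xj21 yj16 zj34) (kj xj21 yj13 zj12) (kj xj21 yj13 zj16) (kj xj21 yj14 zj23) (kj xj21 yj13 zj45) (kj xj21 yj14 zj43) (kj xj21 yj14 zj3) (kj xj22 yj9 zj26) (kj xj22 yj9 zj27) (kj xj22 yj9 zj28) (kj xj21 yj17 zj30) (kj xj21 yj17 zj31) (kj xj22 yj4 zj37) (kj xj22 yj4 zj38) (kj xj22 yj4 zj39) (kj xj22 yj4 zj40) (kj xj21 yj11 zj6) (kj xj21 yj11 zj7) (kj xj22 yj9 zj44) (kj xj21 yj16 zj36) (kj xj21 yj16 zj37) (kj xj21 yj17 zj34) (kj xj21 yj17 zj35) (kj xj21 yj11 zj30) (kj xj21 yj11 zj31) (kj xj22 yj4 zj9)) (@D3.rec (fun _ => Pt) (kj xj22 yj4 zj10) (kj xj21 yj11 zj33) (kj xj22 yj5 zj7) (kj xj22 yj5 zj8) (kj xj21 yj17 zj45) (kj xj21 yj17 zj46) (kj xj21 yj17 zj47) (kj xj22 yj9 zj48) (kj xj22 yj9 zj49) (kj xj22 yj9 zj11)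 (kj xj22 yj9 zj15) (kj xj22 yj9 zj13) (kj xj21 yj12 zj21) (kj xj21 yj12 zj22) (kj xj22 yj6 zj29) (kj xj22 yj6 zj30) (kj xj22 yj6 zj33) (kj xj21 yj12 zj32) (kj xj21 yj12 zj33) (kj xj21 yj12 zj34) (kj xj21 yj12 zj35) (kj xj21 yj15 zj31) (kj xj21 yj15 zj32) (kj xj21 yj15 zj33) (kj xj21 yj15 zj27) (kj xj21 yj15 zj4) (kj xj21 yj18 zj3) (kj xj21 yj18 zj4) (kj xj21 yj17 zj49) (kj xj22 yj5 zj6) (kj xj22 yj5 zj23) (kj xj21 yj16 zj30) (kj xj21 yj14 zj48) (kj xj21 yj12 zj49) (kj xj21 yj16 zj32) (kj xj22 yj5 zj10) (kj xj22 yj5 zj11) (kj xj22 yj5 zj12) (kj xj22 yj5 zj13) (kj xj22 yj5 zj14) (kj xj22 yj4 zj18) (kj xj22 yj10 zj6) (kj xj22 yj5 zj24) (kj xj22 yj10 zj7) (kj xj22 yj5 zj19) (kj xj22 yj5 zj18) (kj xj22 yj9 zj17) (kj xj22 yj9 zj16) (kj xj22 yj6 zj34) (kj xj22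 yj6 zj35) (kj xj22 yj6 zj36))
def f_j_22 : D2 → D3 → Pt := @D2.rec (fun _ => D3 → Pt) (@D3.rec (fun _ => Pt) (kj xj22 yj6 zj37) (kj xj22 yj10 zj11) (kj xj22 yj10 zj12) (kj xj22 yj10 zj13) (kj xj22 yj10 zj14) (kj xj22 yj6 zj2) (kj xj22 yj6 zj3) (kj xj21 yj17 zj42) (kj xj21 yj17 zj43) (kj xj21 yj14 zj11) (kj xj21 yj12 zj46) (kj xj21 yj12 zj47) (kj xj22 yj11 zj0) (kj xj22 yj9 zj14) (kj xj21 yj13 zj42) (kj xj22 yj10 zj24) (kj xj22 yj7 zj27) (kj xj21 yj13 zj10) (kj xj21 yj13 zj11) (kj xj21 yj13 zj13) (kj xj21 yj13 zj7) (kj xj21 yj13 zj8) (kj xj22 yj11 zj5) (kj xj22 yj7 zj26) (kj xj22 yj9 zj30) (kj xj22 yj11 zj4) (kj xj22 yj9 zj32) (kj xj22 yj7 zj30) (kj xj22 yj7 zj31) (kj xj22 yj7 zj24) (kj xj22 yj7 zj25) (kj xj21 yj18 zj10) (kj xj21 yj14 zj10) (kj xj21 yj18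 zj11) (kj xj22 yj7 zj39) (kj xj22 yj7 zj41) (kj xj21 yj18 zj14) (kj xj21 yj18 zj15) (kj xj21 yj18 zj16) (kj xj22 yj7 zj28) (kj xj22 yj7 zj29) (kj xj21 yj14 zj27) (kj xj21 yj14 zj29) (kj xj21 yj14 zj31) (kj xj21 yj14 zj33) (kj xj21 yj13 zj41) (kj xj21 yj13 zj43) (kj xj22 yj11 zj1) (kj xj22 yj11 zj22) (kj xj22 yj8 zj6) (kj xj22 yj9 zj34)) (@D3.rec (fun _ => Pt) (kj xj22 yj4 zj24) (kj xj22 yj7 zj33) (kj xj21 yj14 zj40) (kj xj21 yj14 zj41) (kj xj21 yj14 zj0) (kj xj21 yj16 zj31) (kj xj22 yj9 zj35) (kj xj22 yj7 zj35) (kj xj21 yj14 zj45) (kj xj21 yj14 zj46) (kj xj21 yj14 zj47) (kj xj22 yj10 zj49) (kj xj22 yj10 zj50) (kj xj21 yj14 zj20) (kj xj21 yj14 zj21) (kj xj21 yj14 zj22) (kj xj22 yj4 zj19) (kj xj22 yj4 zj20) (kj xj22 yj4 zj21) (kj xj22 yj4 zj22) (kj xj22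 yj4 zj23) (kj xj22 yj11 zj32) (kj xj22 yj11 zj33) (kj xj22 yj11 zj34) (kj xj22 yj9 zj33) (kj xj22 yj6 zj47) (kj xj22 yj6 zj48) (kj xj22 yj4 zj50) (kj xj22 yj4 zj46) (kj xj22 yj11 zj18) (kj xj22 yj6 zj44) (kj xj22 yj11 zj19) (kj xj22 yj6 zj45) (kj xj22 yj11 zj20) (kj xj21 yj15 zj12) (kj xj22 yj11 zj21) (kj xj21 yj15 zj11) (kj xj21 yj14 zj39) (kj xj22 yj11 zj27) (kj xj22 yj7 zj34) (kj xj22 yj11 zj30) (kj xj22 yj10 zj23) (kj xj22 yj6 zj12) (kj xj21 yj15 zj30) (kj xj21 yj15 zj3) (kj xj22 yj10 zj18) (kj xj21 yj17 zj18) (kj xj21 yj17 zj19) (kj xj22 yj11 zj50) (kj xj22 yj12 zj1) (kj xj21 yj18 zj18)) (@D3.rec (fun _ => Pt) (kj xj21 yj18 zj19) (kj xj22 yj5 zj35) (kj xj22 yj5 zj36) (kj xj22 yj5 zj37) (kj xj22 yj5 zj38) (kj xj21 yj15 zj34) (kj xj21 yj15 zj35) (kj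 xj21 yj15 zj36) (kj xj21 yj15 zj37) (kj xj22 yj10 zj17) (kj xj22 yj11 zj28) (kj xj22 yj10 zj15) (kj xj22 yj10 zj16) (kj xj22 yj12 zj11) (kj xj22 yj12 zj12) (kj xj21 yj17 zj48) (kj xj21 yj18 zj7) (kj xj21 yj18 zj8) (kj xj22 yj4 zj43) (kj xj22 yj4 zj44) (kj xj22 yj4 zj45) (kj xj22 yj5 zj21) (kj xj21 yj16 zj6) (kj xj21 yj16 zj7) (kj xj21 yj16 zj8) (kj xj21 yj16 zj9) (kj xj21 yj16 zj10) (kj xj21 yj16 zj11) (kj xj22 yj12 zj19) (kj xj22 yj12 zj20) (kj xj22 yj12 zj21) (kj xj22 yj12 zj22) (kj xj22 yj12 zj23) (kj xj22 yj5 zj15) (kj xj22 yj5 zj16) (kj xj22 yj5 zj17) (kj xj22 yj7 zj7) (kj xj22 yj7 zj8) (kj xj22 yj7 zj9) (kj xj22 yj7 zj10) (kj xj21 yj16 zj38) (kj xj21 yj16 zj39) (kj xj21 yj16 zj40) (kj xj21 yj16 zj41) (kj xj21 yj16 zj42) (kj xj22 yj8 zj4) (kj xj22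 yj10 zj22) (kj xj22 yj9 zj29) (kj xj22 yj9 zj31) (kj xj22 yj9 zj45) (kj xj22 yj9 zj46)) (@D3.rec (fun _ => Pt) (kj xj22 yj12 zj32) (kj xj22 yj12 zj33) (kj xj22 yj12 zj34) (kj xj22 yj7 zj14) (kj xj22 yj7 zj15) (kj xj22 yj7 zj16) (kj xj22 yj8 zj31) (kj xj22 yj8 zj32) (kj xj22 yj8 zj33) (kj xj22 yj7 zj11) (kj xj22 yj7 zj12) (kj xj22 yj7 zj13) (kj xj22 yj8 zj47) (kj xj22 yj8 zj48) (kj xj22 yj8 zj49) (kj xj22 yj8 zj50) (kj xj21 yj18 zj12) (kj xj21 yj18 zj13) (kj xj22 yj5 zj31) (kj xj22 yj5 zj32) (kj xj22 yj12 zj5) (kj xj22 yj5 zj29) (kj xj22 yj5 zj30) (kj xj22 yj7 zj20) (kj xj22 yj7 zj22) (kj xj22 yj9 zj24) (kj xj21 yj17 zj32) (kj xj21 yj17 zj33) (kj xj22 yj9 zj39) (kj xj22 yj9 zj40) (kj xj22 yj13 zj3) (kj xj22 yj9 zj47) (kj xj22 yj6 zj42) (kj xj22 yj6 zj43)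 (kj xj22 yj10 zj48) (kj xj22 yj10 zj0) (kj xj22 yj10 zj1) (kj xj22 yj10 zj2) (kj xj22 yj4 zj17) (kj xj22 yj10 zj20) (kj xj22 yj4 zj16) (kj xj22 yj4 zj14) (kj xj22 yj4 zj15) (kj xj22 yj10 zj19) (kj xj22 yj10 zj21) (kj xj22 yj5 zj33) (kj xj22 yj5 zj34) (kj xj22 yj12 zj15) (kj xj22 yj11 zj12) (kj xj22 yj12 zj48) (kj xj22 yj11 zj14)) (@D3.rec (fun _ => Pt) (kj xj22 yj11 zj15) (kj xj22 yj7 zj37) (kj xj22 yj4 zj25) (kj xj21 yj25 zj11) (kj xj21 yj22 zj30) (kj xj21 yj22 zj29) (kj xj21 yj19 zj0) (kj xj21 yj19 zj1) (kj xj21 yj19 zj2) (kj xj21 yj25 zj50) (kj xj21 yj26 zj0) (kj xj21 yj21 zj17) (kj xj21 yj18 zj50) (kj xj21 yj20 zj44) (kj xj22 yj3 zj41) (kj xj22 yj3 zj42) (kj xj22 yj3 zj40) (kj xj22 yj3 zj38) (kj xj21 yj26 zj40) (kj xj22 yj1 zj16) (kj xj22 yj1 zj17)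 (kj xj22 yj1 zj18) (kj xj22 yj1 zj19) (kj xj22 yj1 zj20) (kj xj22 yj1 zj0) (kj xj22 yj4 zj2) (kj xj22 yj13 zj29) (kj xj22 yj13 zj24) (kj xj22 yj13 zj25) (kj xj22 yj13 zj26) (kj xj21 yj23 zj41) (kj xj21 yj19 zj22) (kj xj21 yj19 zj23) (kj xj21 yj19 zj24) (kj xj21 yj23 zj35) (kj xj21 yj19 zj26) (kj xj21 yj23 zj32) (kj xj21 yj25 zj37) (kj xj21 yj25 zj38) (kj xj21 yj25 zj39) (kj xj21 yj25 zj40) (kj xj21 yj19 zj27) (kj xj21 yj19 zj28) (kj xj22 yj2 zj18) (kj xj22 yj2 zj19) (kj xj22 yj2 zj20) (kj xj22 yj1 zj28) (kj xj22 yj14 zj0) (kj xj22 yj14 zj1) (kj xj22 yj14 zj2) (kj xj22 yj1 zj27)) (@D3.rec (fun _ => Pt) (kj xj21 yj24 zj40) (kj xj22 yj14 zj8) (kj xj21 yj23 zj40) (kj xj21 yj20 zj7) (kj xj21 yj20 zj8) (kj xj21 yj21 zj4) (kj xj21 yj26 zj29) (kj xj21 yj26 zj2)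 (kj xj21 yj26 zj3) (kj xj21 yj24 zj48) (kj xj21 yj26 zj35) (kj xj21 yj26 zj36) (kj xj21 yj26 zj37) (kj xj21 yj26 zj38) (kj xj21 yj26 zj39) (kj xj22 yj2 zj33) (kj xj22 yj2 zj34) (kj xj22 yj2 zj35) (kj xj21 yj26 zj45) (kj xj21 yj26 zj44) (kj xj21 yj23 zj46) (kj xj22 yj2 zj21) (kj xj21 yj23 zj33) (kj xj21 yj26 zj30) (kj xj21 yj26 zj42) (kj xj21 yj23 zj45) (kj xj21 yj23 zj49) (kj xj21 yj22 zj31) (kj xj21 yj22 zj32) (kj xj22 yj3 zj21) (kj xj22 yj3 zj22) (kj xj22 yj3 zj18) (kj xj22 yj3 zj19) (kj xj22 yj3 zj45) (kj xj22 yj3 zj46) (kj xj22 yj2 zj1) (kj xj22 yj2 zj2) (kj xj22 yj2 zj3) (kj xj22 yj2 zj4) (kj xj21 yj21 zj3) (kj xj21 yj21 zj5) (kj xj21 yj21 zj7) (kj xj21 yj21 zj8) (kj xj21 yj21 zj9) (kj xj21 yj21 zj10) (kj xj21 yj23 zj48) (kj xj21 yj21 zj11) (kj xj21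 yj21 zj12) (kj xj21 yj21 zj13) (kj xj21 yj21 zj14) (kj xj21 yj23 zj42)) (@D3.rec (fun _ => Pt) (kj xj21 yj21 zj16) (kj xj22 yj13 zj30) (kj xj22 yj0 zj5) (kj xj22 yj0 zj6) (kj xj21 yj24 zj23) (kj xj21 yj24 zj4) (kj xj21 yj21 zj18) (kj xj21 yj21 zj19) (kj xj21 yj21 zj20) (kj xj21 yj23 zj31) (kj xj22 yj14 zj19) (kj xj22 yj14 zj43) (kj xj22 yj1 zj42) (kj xj22 yj14 zj44) (kj xj22 yj14 zj45) (kj xj22 yj14 zj46) (kj xj22 yj14 zj47) (kj xj21 yj24 zj39) (kj xj22 yj14 zj49) (kj xj22 yj14 zj50) (kj xj22 yj15 zj0) (kj xj22 yj15 zj1) (kj xj21 yj24 zj14) (kj xj21 yj24 zj16) (kj xj22 yj13 zj28) (kj xj22 yj15 zj8) (kj xj22 yj15 zj9) (kj xj22 yj15 zj10) (kj xj21 yj23 zj39) (kj xj21 yj26 zj14) (kj xj21 yj26 zj15) (kj xj21 yj25 zj7) (kj xj21 yj24 zj47) (kj xj21 yj26 zj16)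 (kj xj21 yj26 zj48) (kj xj21 yj26 zj49) (kj xj21 yj26 zj50) (kj xj22 yj0 zj0) (kj xj21 yj21 zj41) (kj xj21 yj21 zj43) (kj xj21 yj25 zj8) (kj xj21 yj21 zj47) (kj xj22 yj3 zj32) (kj xj22 yj3 zj33) (kj xj22 yj1 zj30) (kj xj22 yj1 zj32) (kj xj22 yj15 zj35) (kj xj22 yj1 zj25) (kj xj22 yj1 zj26) (kj xj21 yj24 zj37) (kj xj21 yj23 zj38)) (@D3.rec (fun _ => Pt) (kj xj21 yj22 zj1) (kj xj21 yj22 zj2) (kj xj22 yj15 zj42) (kj xj21 yj25 zj6) (kj xj22 yj15 zj43) (kj xj21 yj24 zj45) (kj xj21 yj24 zj44) (kj xj22 yj2 zj36) (kj xj22 yj2 zj37) (kj xj22 yj2 zj38) (kj xj22 yj2 zj39) (kj xj22 yj3 zj9) (kj xj22 yj3 zj10) (kj xj22 yj3 zj11) (kj xj22 yj3 zj3) (kj xj22 yj3 zj4) (kj xj22 yj3 zj5) (kj xj22 yj13 zj23) (kj xj22 yj14 zj34) (kj xj22 yj14 zj35) (kj xj22 yj3 zj23) (kj xj21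 yj23 zj5) (kj xj22 yj3 zj24) (kj xj21 yj23 zj6) (kj xj22 yj0 zj29) (kj xj22 yj0 zj30) (kj xj22 yj0 zj23) (kj xj22 yj0 zj16) (kj xj22 yj0 zj39) (kj xj22 yj0 zj40) (kj xj22 yj0 zj27) (kj xj22 yj0 zj28) (kj xj21 yj24 zj21) (kj xj22 yj1 zj1) (kj xj22 yj1 zj39) (kj xj22 yj1 zj7) (kj xj22 yj16 zj11) (kj xj22 yj4 zj1) (kj xj21 yj24 zj20) (kj xj22 yj0 zj34) (kj xj21 yj24 zj22) (kj xj22 yj0 zj35) (kj xj21 yj24 zj3) (kj xj21 yj23 zj47) (kj xj21 yj24 zj18) (kj xj21 yj24 zj15) (kj xj21 yj24 zj42) (kj xj21 yj24 zj38) (kj xj21 yj24 zj49) (kj xj21 yj23 zj43) (kj xj21 yj23 zj44)) (@D3.rec (fun _ => Pt) (kj xj21 yj24 zj1) (kj xj21 yj24 zj2) (kj xj22 yj14 zj4) (kj xj22 yj14 zj32) (kj xj22 yj2 zj45) (kj xj22 yj14 zj3) (kj xj22 yj0 zj49) (kj xj22 yj15 zj24) (kj xj22 yj14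 zj18) (kj xj22 yj15 zj25) (kj xj22 yj13 zj50) (kj xj22 yj15 zj2) (kj xj22 yj13 zj44) (kj xj22 yj14 zj13) (kj xj22 yj16 zj31) (kj xj22 yj14 zj33) (kj xj22 yj16 zj32) (kj xj22 yj14 zj31) (kj xj22 yj16 zj28) (kj xj22 yj14 zj48) (kj xj22 yj14 zj25) (kj xj22 yj13 zj37) (kj xj22 yj17 zj0) (kj xj21 yj23 zj50) (kj xj22 yj16 zj33) (kj xj22 yj16 zj26) (kj xj22 yj16 zj27) (kj xj22 yj15 zj7) (kj xj21 yj24 zj13) (kj xj21 yj24 zj17) (kj xj21 yj24 zj19) (kj xj22 yj3 zj6) (kj xj22 yj3 zj7) (kj xj22 yj3 zj8) (kj xj22 yj15 zj18) (kj xj22 yj16 zj29) (kj xj22 yj15 zj20) (kj xj22 yj15 zj21) (kj xj22 yj13 zj45) (kj xj22 yj17 zj5) (kj xj22 yj16 zj24) (kj xj22 yj16 zj1) (kj xj22 yj16 zj20) (kj xj22 yj15 zj5) (kj xj21 yj24 zj36) (kj xj21 yj24 zj41) (kj xj21 yj24 zj43) (kj xj22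 yj3 zj12) (kj xj22 yj3 zj13) (kj xj22 yj3 zj14) (kj xj22 yj3 zj15)) (@D3.rec (fun _ => Pt) (kj xj22 yj15 zj40) (kj xj22 yj16 zj30) (kj xj22 yj15 zj41) (kj xj22 yj15 zj15) (kj xj22 yj14 zj17) (kj xj22 yj13 zj36) (kj xj22 yj17 zj15) (kj xj22 yj15 zj46) (kj xj22 yj15 zj45) (kj xj22 yj15 zj48) (kj xj22 yj15 zj47) (kj xj21 yj26 zj9) (kj xj22 yj15 zj29) (kj xj21 yj26 zj11) (kj xj22 yj0 zj13) (kj xj21 yj26 zj10) (kj xj21 yj26 zj47) (kj xj21 yj26 zj46) (kj xj22 yj15 zj27) (kj xj21 yj25 zj12) (kj xj21 yj25 zj13) (kj xj22 yj17 zj31) (kj xj21 yj25 zj19) (kj xj21 yj25 zj20) (kj xj22 yj3 zj25) (kj xj22 yj17 zj33) (kj xj21 yj25 zj32) (kj xj21 yj25 zj33) (kj xj21 yj25 zj34) (kj xj22 yj2 zj47) (kj xj22 yj0 zj24) (kj xj22 yj2 zj48) (kj xj22 yj0 zj26) (kj xj22 yj1 zj24)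 (kj xj22 yj0 zj50) (kj xj22 yj1 zj6) (kj xj22 yj17 zj36) (kj xj22 yj17 zj37) (kj xj22 yj17 zj38) (kj xj22 yj3 zj28) (kj xj22 yj3 zj29) (kj xj22 yj14 zj5) (kj xj22 yj14 zj6) (kj xj22 yj14 zj7) (kj xj21 yj25 zj43) (kj xj22 yj2 zj49) (kj xj22 yj2 zj50) (kj xj22 yj3 zj31) (kj xj21 yj26 zj7) (kj xj21 yj26 zj8) (kj xj22 yj13 zj27)) (@D3.rec (fun _ => Pt) (kj xj22 yj3 zj35) (kj xj22 yj3 zj36) (kj xj22 yj3 zj37) (kj xj22 yj18 zj0) (kj xj22 yj17 zj26) (kj xj22 yj17 zj28) (kj xj21 yj26 zj41) (kj xj21 yj26 zj43) (kj xj22 yj15 zj26) (kj xj22 yj15 zj28) (kj xj22 yj15 zj30) (kj xj22 yj0 zj1) (kj xj22 yj0 zj2) (kj xj22 yj0 zj3) (kj xj22 yj0 zj4) (kj xj22 yj2 zj11) (kj xj22 yj2 zj12) (kj xj22 yj2 zj9) (kj xj22 yj1 zj45) (kj xj22 yj3 zj43) (kj xj22 yj3 zj39) (kj xj22 yj3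 zj44) (kj xj22 yj2 zj46) (kj xj22 yj1 zj41) (kj xj22 yj0 zj15) (kj xj22 yj14 zj20) (kj xj22 yj14 zj21) (kj xj22 yj14 zj22) (kj xj22 yj14 zj23) (kj xj22 yj14 zj24) (kj xj22 yj13 zj35) (kj xj22 yj18 zj6) (kj xj22 yj14 zj28) (kj xj22 yj14 zj27) (kj xj22 yj17 zj30) (kj xj22 yj14 zj30) (kj xj22 yj14 zj29) (kj xj22 yj15 zj31) (kj xj22 yj15 zj32) (kj xj22 yj15 zj33) (kj xj22 yj15 zj34) (kj xj22 yj18 zj10) (kj xj22 yj18 zj11) (kj xj22 yj18 zj12) (kj xj22 yj17 zj43) (kj xj22 yj18 zj13) (kj xj22 yj15 zj4) (kj xj22 yj15 zj6) (kj xj22 yj3 zj34) (kj xj22 yj1 zj11) (kj xj22 yj1 zj12)) (@D3.rec (fun _ => Pt) (kj xj22 yj0 zj12) (kj xj22 yj0 zj47) (kj xj22 yj18 zj17) (kj xj22 yj16 zj15) (kj xj22 yj0 zj25) (kj xj22 yj0 zj22) (kj xj22 yj16 zj13) (kj xj22 yj17 zj40) (kj xj22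 yj16 zj17) (kj xj22 yj16 zj19) (kj xj22 yj16 zj12) (kj xj22 yj16 zj14) (kj xj22 yj3 zj48) (kj xj22 yj16 zj25) (kj xj22 yj3 zj50) (kj xj22 yj4 zj0) (kj xj22 yj16 zj16) (kj xj22 yj16 zj18) (kj xj22 yj1 zj29) (kj xj22 yj1 zj31) (kj xj22 yj1 zj33) (kj xj22 yj1 zj35) (kj xj22 yj0 zj48) (kj xj22 yj16 zj36) (kj xj22 yj17 zj42) (kj xj22 yj13 zj43) (kj xj22 yj16 zj21) (kj xj22 yj1 zj38) (kj xj22 yj2 zj10) (kj xj22 yj16 zj22) (kj xj22 yj1 zj40) (kj xj22 yj18 zj37) (kj xj22 yj1 zj21) (kj xj22 yj1 zj22) (kj xj22 yj1 zj23) (kj xj22 yj13 zj38) (kj xj22 yj13 zj39) (kj xj22 yj13 zj40) (kj xj22 yj13 zj41) (kj xj22 yj13 zj42) (kj xj22 yj19 zj1) (kj xj22 yj17 zj41) (kj xj22 yj17 zj44) (kj xj22 yj15 zj39) (kj xj22 yj14 zj15) (kj xj22 yj14 zj16) (kj xj22 yj14 zj12) (kj xj22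 yj18 zj45) (kj xj22 yj15 zj37) (kj xj22 yj18 zj46) (kj xj22 yj1 zj48)) (@D3.rec (fun _ => Pt) (kj xj22 yj18 zj47) (kj xj22 yj1 zj49) (kj xj22 yj18 zj48) (kj xj22 yj18 zj15) (kj xj22 yj15 zj11) (kj xj22 yj3 zj20) (kj xj22 yj19 zj15) (kj xj22 yj14 zj39) (kj xj22 yj14 zj40) (kj xj22 yj14 zj41) (kj xj22 yj14 zj42) (kj xj22 yj2 zj13) (kj xj22 yj2 zj14) (kj xj22 yj18 zj14) (kj xj22 yj19 zj23) (kj xj22 yj3 zj47) (kj xj22 yj14 zj9) (kj xj22 yj14 zj10) (kj xj22 yj14 zj11) (kj xj22 yj2 zj28) (kj xj22 yj2 zj29) (kj xj22 yj2 zj30) (kj xj22 yj2 zj31) (kj xj22 yj2 zj32) (kj xj22 yj19 zj27) (kj xj22 yj19 zj28) (kj xj22 yj19 zj29) (kj xj22 yj14 zj26) (kj xj22 yj15 zj49) (kj xj22 yj15 zj50) (kj xj22 yj16 zj0) (kj xj22 yj16 zj2) (kj xj22 yj3 zj0) (kj xj22 yj3 zj1) (kj xj22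 yj3 zj2) (kj xj22 yj16 zj34) (kj xj22 yj17 zj39) (kj xj22 yj17 zj49) (kj xj22 yj19 zj35) (kj xj22 yj19 zj36) (kj xj22 yj16 zj6) (kj xj22 yj16 zj7) (kj xj22 yj16 zj8) (kj xj22 yj17 zj6) (kj xj22 yj16 zj3) (kj xj22 yj16 zj4) (kj xj22 yj16 zj5) (kj xj22 yj17 zj16) (kj xj22 yj3 zj49) (kj xj22 yj14 zj37) (kj xj22 yj19 zj17)) (@D3.rec (fun _ => Pt) (kj xj22 yj14 zj36) (kj xj22 yj16 zj10) (kj xj22 yj17 zj34) (kj xj22 yj3 zj30) (kj xj22 yj17 zj47) (kj xj22 yj19 zj48) (kj xj22 yj17 zj50) (kj xj22 yj15 zj36) (kj xj22 yj18 zj36) (kj xj22 yj18 zj1) (kj xj22 yj18 zj2) (kj xj22 yj18 zj3) (kj xj22 yj13 zj34) (kj xj22 yj13 zj32) (kj xj22 yj13 zj31) (kj xj22 yj13 zj33) (kj xj22 yj18 zj16) (kj xj22 yj14 zj38) (kj xj22 yj19 zj25) (kj xj22 yj18 zj41) (kj xj22 yj19 zj44) (kj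 xj22 yj18 zj43) (kj xj22 yj16 zj23) (kj xj22 yj7 zj17) (kj xj22 yj4 zj27) (kj xj22 yj4 zj28) (kj xj22 yj4 zj29) (kj xj22 yj9 zj50) (kj xj22 yj6 zj24) (kj xj22 yj4 zj26) (kj xj22 yj6 zj1) (kj xj22 yj13 zj14) (kj xj22 yj13 zj13) (kj xj22 yj13 zj15) (kj xj22 yj13 zj12) (kj xj22 yj10 zj30) (kj xj22 yj9 zj5) (kj xj22 yj8 zj21) (kj xj22 yj11 zj35) (kj xj22 yj11 zj36) (kj xj22 yj11 zj37) (kj xj22 yj11 zj38) (kj xj22 yj11 zj39) (kj xj22 yj11 zj25) (kj xj22 yj8 zj12) (kj xj22 yj8 zj38) (kj xj22 yj20 zj11) (kj xj22 yj20 zj8) (kj xj22 yj20 zj9) (kj xj22 yj20 zj10) (kj xj22 yj8 zj10)) (@D3.rec (fun _ => Pt) (kj xj22 yj4 zj47) (kj xj22 yj4 zj48) (kj xj22 yj4 zj49) (kj xj22 yj8 zj5) (kj xj22 yj8 zj2) (kj xj22 yj9 zj41) (kj xj22 yj9 zj42) (kj xj22 yj9 zj43) (kj xj22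 yj5 zj1) (kj xj22 yj12 zj16) (kj xj22 yj12 zj17) (kj xj22 yj12 zj18) (kj xj22 yj11 zj46) (kj xj22 yj8 zj13) (kj xj22 yj20 zj31) (kj xj22 yj11 zj44) (kj xj22 yj11 zj45) (kj xj22 yj9 zj4) (kj xj22 yj8 zj8) (kj xj22 yj6 zj10) (kj xj22 yj10 zj25) (kj xj22 yj10 zj26) (kj xj22 yj10 zj27) (kj xj22 yj10 zj28) (kj xj22 yj10 zj29) (kj xj22 yj8 zj20) (kj xj22 yj12 zj27) (kj xj22 yj10 zj33) (kj xj22 yj10 zj32) (kj xj22 yj10 zj36) (kj xj22 yj10 zj35) (kj xj22 yj8 zj17) (kj xj22 yj8 zj3) (kj xj22 yj8 zj15) (kj xj22 yj7 zj18) (kj xj22 yj7 zj19) (kj xj22 yj13 zj0) (kj xj22 yj12 zj49) (kj xj22 yj13 zj17) (kj xj22 yj12 zj7) (kj xj22 yj12 zj8) (kj xj22 yj12 zj9) (kj xj22 yj12 zj10) (kj xj22 yj6 zj11) (kj xj22 yj6 zj13) (kj xj22 yj6 zj14) (kj xj22 yj6 zj15) (kj xj22 yj6 zj16)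 (kj xj22 yj8 zj19) (kj xj22 yj6 zj18) (kj xj22 yj6 zj19)) (@D3.rec (fun _ => Pt) (kj xj22 yj6 zj20) (kj xj22 yj6 zj21) (kj xj22 yj8 zj11) (kj xj22 yj20 zj12) (kj xj22 yj10 zj46) (kj xj22 yj8 zj43) (kj xj22 yj10 zj47) (kj xj22 yj8 zj27) (kj xj22 yj6 zj25) (kj xj22 yj6 zj26) (kj xj22 yj6 zj27) (kj xj22 yj12 zj4) (kj xj22 yj21 zj10) (kj xj22 yj21 zj11) (kj xj22 yj21 zj13) (kj xj22 yj9 zj3) (kj xj22 yj21 zj14) (kj xj22 yj21 zj15) (kj xj22 yj8 zj34) (kj xj22 yj21 zj17) (kj xj22 yj8 zj36) (kj xj22 yj8 zj37) (kj xj22 yj21 zj21) (kj xj22 yj21 zj22) (kj xj22 yj8 zj7) (kj xj22 yj8 zj9) (kj xj22 yj10 zj8) (kj xj22 yj9 zj18) (kj xj22 yj10 zj9) (kj xj22 yj9 zj12) (kj xj22 yj10 zj10) (kj xj22 yj10 zj37) (kj xj22 yj10 zj38) (kj xj22 yj10 zj39) (kj xj22 yj10 zj40) (kj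 xj22 yj6 zj46) (kj xj22 yj13 zj7) (kj xj22 yj11 zj48) (kj xj22 yj21 zj43) (kj xj22 yj11 zj43) (kj xj22 yj9 zj0) (kj xj22 yj9 zj2) (kj xj22 yj7 zj2) (kj xj22 yj7 zj4) (kj xj22 yj21 zj48) (kj xj22 yj9 zj8) (kj xj22 yj9 zj7) (kj xj22 yj9 zj10) (kj xj22 yj9 zj9) (kj xj22 yj12 zj28) (kj xj22 yj12 zj29)) (@D3.rec (fun _ => Pt) (kj xj22 yj12 zj30) (kj xj22 yj8 zj41) (kj xj22 yj12 zj31) (kj xj22 yj12 zj44) (kj xj22 yj12 zj45) (kj xj22 yj12 zj46) (kj xj22 yj12 zj40) (kj xj22 yj12 zj41) (kj xj22 yj12 zj42) (kj xj22 yj21 zj2) (kj xj22 yj13 zj1) (kj xj22 yj7 zj36) (kj xj22 yj11 zj10) (kj xj22 yj11 zj6) (kj xj22 yj11 zj11) (kj xj22 yj11 zj3) (kj xj22 yj11 zj16) (kj xj22 yj11 zj8) (kj xj22 yj11 zj17) (kj xj22 yj11 zj9) (kj xj22 yj8 zj42) (kj xj22 yj11 zj26) (kj xj22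 yj11 zj29) (kj xj22 yj13 zj22) (kj xj22 yj8 zj40) (kj xj22 yj11 zj13) (kj xj22 yj8 zj25) (kj xj22 yj8 zj26) (kj xj22 yj8 zj18) (kj xj22 yj8 zj35) (kj xj22 yj9 zj1) (kj xj22 yj8 zj14) (kj xj22 yj8 zj16) (kj xj22 yj8 zj24) (kj xj22 yj12 zj35) (kj xj22 yj20 zj32) (kj xj22 yj11 zj23) (kj xj22 yj21 zj33) (kj xj22 yj20 zj29) (kj xj22 yj21 zj16) (kj xj22 yj20 zj30) (kj xj22 yj20 zj25) (kj xj22 yj20 zj37) (kj xj22 yj22 zj21) (kj xj22 yj21 zj0) (kj xj22 yj22 zj19) (kj xj22 yj21 zj12) (kj xj22 yj21 zj1) (kj xj22 yj22 zj20) (kj xj22 yj20 zj47) (kj xj22 yj20 zj18)) (@D3.rec (fun _ => Pt) (kj xj22 yj8 zj22) (kj xj22 yj22 zj22) (kj xj22 yj22 zj18) (kj xj22 yj21 zj19) (kj xj22 yj21 zj20) (kj xj22 yj8 zj39) (kj xj22 yj12 zj43) (kj xj22 yj21 zj29) (kj xj22 yj21 zj30) (kj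 xj22 yj21 zj31) (kj xj22 yj20 zj26) (kj xj22 yj22 zj38) (kj xj22 yj22 zj2) (kj xj22 yj22 zj13) (kj xj22 yj22 zj4) (kj xj22 yj9 zj6) (kj xj22 yj12 zj47) (kj xj22 yj21 zj47) (kj xj22 yj21 zj25) (kj xj22 yj20 zj40) (kj xj22 yj21 zj26) (kj xj22 yj20 zj41) (kj xj22 yj20 zj17) (kj xj22 yj22 zj46) (kj xj22 yj22 zj0) (kj xj22 yj21 zj50) (kj xj22 yj10 zj4) (kj xj22 yj21 zj35) (kj xj22 yj10 zj5) (kj xj22 yj21 zj37) (kj xj22 yj10 zj34) (kj xj22 yj9 zj21) (kj xj22 yj23 zj6) (kj xj22 yj9 zj25) (kj xj22 yj13 zj2) (kj xj22 yj23 zj7) (kj xj22 yj9 zj36) (kj xj22 yj9 zj37) (kj xj22 yj9 zj38) (kj xj22 yj12 zj36) (kj xj22 yj11 zj7) (kj xj22 yj11 zj41) (kj xj22 yj11 zj24) (kj xj22 yj10 zj44) (kj xj22 yj11 zj42) (kj xj22 yj23 zj8) (kj xj22 yj23 zj9) (kj xj22 yj13 zj4) (kj xj22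 yj20 zj33) (kj xj22 yj12 zj37) (kj xj22 yj13 zj6)) (@D3.rec (fun _ => Pt) (kj xj22 yj10 zj3) (kj xj22 yj13 zj9) (kj xj22 yj13 zj10) (kj xj22 yj13 zj11) (kj xj22 yj23 zj16) (kj xj22 yj23 zj4) (kj xj22 yj10 zj31) (kj xj22 yj21 zj34) (kj xj22 yj21 zj36) (kj xj22 yj21 zj38) (kj xj22 yj10 zj41) (kj xj22 yj10 zj42) (kj xj22 yj10 zj43) (kj xj22 yj10 zj45) (kj xj22 yj12 zj13) (kj xj22 yj12 zj3) (kj xj22 yj13 zj16) (kj xj22 yj11 zj2) (kj xj22 yj20 zj42) (kj xj22 yj20 zj43) (kj xj22 yj20 zj44) (kj xj22 yj20 zj15) (kj xj22 yj20 zj45) (kj xj22 yj20 zj46) (kj xj22 yj23 zj20) (kj xj22 yj20 zj50) (kj xj22 yj20 zj49) (kj xj22 yj21 zj39) (kj xj22 yj21 zj40) (kj xj22 yj21 zj41) (kj xj22 yj21 zj42) (kj xj22 yj23 zj23) (kj xj22 yj23 zj11) (kj xj22 yj23 zj24) (kj xj22 yj22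 zj15) (kj xj22 yj21 zj18) (kj xj22 yj13 zj8) (kj xj22 yj11 zj31) (kj xj22 yj22 zj10) (kj xj22 yj22 zj12) (kj xj22 yj22 zj9) (kj xj22 yj13 zj19) (kj xj22 yj22 zj17) (kj xj22 yj13 zj21) (kj xj22 yj22 zj11) (kj xj22 yj11 zj47) (kj xj22 yj11 zj49) (kj xj22 yj12 zj0) (kj xj22 yj12 zj2) (kj xj22 yj20 zj22) (kj xj22 yj22 zj14)) (@D3.rec (fun _ => Pt) (kj xj22 yj23 zj37) (kj xj22 yj11 zj40) (kj xj22 yj20 zj19) (kj xj22 yj20 zj20) (kj xj22 yj20 zj21) (kj xj22 yj20 zj23) (kj xj22 yj20 zj24) (kj xj22 yj23 zj42) (kj xj22 yj23 zj12) (kj xj22 yj21 zj46) (kj xj22 yj20 zj39) (kj xj22 yj20 zj35) (kj xj22 yj20 zj36) (kj xj22 yj21 zj45) (kj xj22 yj23 zj40) (kj xj22 yj12 zj6) (kj xj22 yj23 zj41) (kj xj22 yj12 zj50) (kj xj22 yj23 zj49) (kj xj22 yj21 zj6) (kj xj22 yj21 zj7)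 (kj xj22 yj21 zj8) (kj xj22 yj21 zj9) (kj xj22 yj12 zj14) (kj xj22 yj24 zj2) (kj xj22 yj13 zj18) (kj xj22 yj20 zj34) (kj xj22 yj12 zj24) (kj xj22 yj12 zj25) (kj xj22 yj12 zj26) (kj xj22 yj24 zj4) (kj xj22 yj24 zj5) (kj xj22 yj20 zj48) (kj xj22 yj22 zj1) (kj xj22 yj22 zj3) (kj xj22 yj12 zj38) (kj xj22 yj12 zj39) (kj xj22 yj23 zj10) (kj xj22 yj23 zj15) (kj xj22 yj24 zj7) (kj xj22 yj22 zj6) (kj xj22 yj22 zj39) (kj xj22 yj22 zj5) (kj xj22 yj22 zj47) (kj xj22 yj13 zj20) (kj xj22 yj21 zj4) (kj xj22 yj21 zj3) (kj xj22 yj22 zj8) (kj xj22 yj13 zj5) (kj xj22 yj23 zj14) (kj xj22 yj21 zj44)) (@D3.rec (fun _ => Pt) (kj xj22 yj23 zj17) (kj xj22 yj23 zj18) (kj xj22 yj20 zj14) (kj xj22 yj20 zj16) (kj xj22 yj20 zj13) (kj xj22 yj23 zj25) (kj xj22 yj21 zj5) (kj xj22 yj22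 zj16) (kj xj22 yj13 zj47) (kj xj22 yj13 zj48) (kj xj22 yj13 zj49) (kj xj22 yj13 zj46) (kj xj22 yj15 zj3) (kj xj22 yj20 zj4) (kj xj22 yj20 zj2) (kj xj22 yj18 zj21) (kj xj22 yj20 zj3) (kj xj22 yj17 zj22) (kj xj22 yj16 zj50) (kj xj22 yj19 zj2) (kj xj22 yj19 zj3) (kj xj22 yj19 zj4) (kj xj22 yj18 zj49) (kj xj22 yj19 zj5) (kj xj22 yj19 zj6) (kj xj22 yj16 zj41) (kj xj22 yj17 zj10) (kj xj22 yj24 zj13) (kj xj22 yj24 zj14) (kj xj22 yj16 zj38) (kj xj22 yj16 zj40) (kj xj22 yj14 zj14) (kj xj22 yj16 zj35) (kj xj22 yj17 zj48) (kj xj22 yj19 zj26) (kj xj22 yj19 zj11) (kj xj22 yj19 zj12) (kj xj22 yj16 zj42) (kj xj22 yj24 zj30) (kj xj22 yj19 zj10) (kj xj22 yj17 zj19) (kj xj22 yj17 zj21) (kj xj22 yj18 zj18) (kj xj22 yj18 zj19) (kj xj22 yj18 zj20) (kj xj22 yj18 zj22) (kj xj22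 yj18 zj23) (kj xj22 yj16 zj49) (kj xj22 yj19 zj32) (kj xj22 yj18 zj26) (kj xj22 yj18 zj25)) (@D3.rec (fun _ => Pt) (kj xj22 yj16 zj44) (kj xj22 yj16 zj47) (kj xj22 yj16 zj9) (kj xj22 yj19 zj46) (kj xj22 yj19 zj45) (kj xj22 yj20 zj6) (kj xj22 yj19 zj19) (kj xj22 yj19 zj20) (kj xj22 yj19 zj21) (kj xj22 yj19 zj22) (kj xj22 yj15 zj12) (kj xj22 yj15 zj13) (kj xj22 yj16 zj46) (kj xj22 yj15 zj14) (kj xj22 yj15 zj16) (kj xj22 yj15 zj17) (kj xj22 yj16 zj39) (kj xj22 yj15 zj19) (kj xj22 yj18 zj35) (kj xj22 yj17 zj3) (kj xj22 yj17 zj4) (kj xj22 yj15 zj22) (kj xj22 yj15 zj23) (kj xj22 yj24 zj48) (kj xj22 yj24 zj49) (kj xj22 yj17 zj18) (kj xj22 yj17 zj20) (kj xj22 yj24 zj50) (kj xj22 yj25 zj0) (kj xj22 yj17 zj7) (kj xj22 yj17 zj8) (kj xj22 yj17 zj9) (kj xj22 yj25 zj3)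 (kj xj22 yj16 zj37) (kj xj22 yj18 zj7) (kj xj22 yj17 zj27) (kj xj22 yj18 zj8) (kj xj22 yj17 zj29) (kj xj22 yj18 zj9) (kj xj22 yj18 zj27) (kj xj22 yj18 zj28) (kj xj22 yj18 zj29) (kj xj22 yj18 zj30) (kj xj22 yj15 zj38) (kj xj22 yj19 zj50) (kj xj22 yj19 zj13) (kj xj22 yj19 zj9) (kj xj22 yj17 zj17) (kj xj22 yj15 zj44) (kj xj22 yj25 zj16) (kj xj22 yj17 zj25)) (@D3.rec (fun _ => Pt) (kj xj22 yj17 zj24) (kj xj22 yj19 zj33) (kj xj22 yj17 zj12) (kj xj22 yj19 zj34) (kj xj22 yj17 zj14) (kj xj22 yj19 zj42) (kj xj22 yj19 zj40) (kj xj22 yj24 zj45) (kj xj22 yj19 zj47) (kj xj22 yj18 zj40) (kj xj22 yj18 zj38) (kj xj22 yj18 zj44) (kj xj22 yj18 zj39) (kj xj22 yj17 zj13) (kj xj22 yj18 zj50) (kj xj22 yj18 zj34) (kj xj22 yj20 zj7) (kj xj22 yj18 zj42) (kj xj22 yj17 zj2) (kj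 xj22 yj16 zj45) (kj xj22 yj16 zj48) (kj xj22 yj16 zj43) (kj xj22 yj17 zj1) (kj xj22 yj25 zj9) (kj xj22 yj24 zj29) (kj xj22 yj24 zj24) (kj xj22 yj24 zj33) (kj xj22 yj24 zj26) (kj xj22 yj24 zj34) (kj xj22 yj25 zj29) (kj xj22 yj24 zj44) (kj xj22 yj25 zj28) (kj xj22 yj24 zj40) (kj xj22 yj24 zj18) (kj xj22 yj24 zj41) (kj xj22 yj24 zj20) (kj xj22 yj25 zj27) (kj xj22 yj25 zj2) (kj xj22 yj17 zj11) (kj xj22 yj19 zj41) (kj xj22 yj25 zj7) (kj xj22 yj25 zj8) (kj xj22 yj24 zj25) (kj xj22 yj24 zj27) (kj xj22 yj25 zj19) (kj xj22 yj25 zj21) (kj xj22 yj17 zj23) (kj xj22 yj19 zj43) (kj xj22 yj25 zj15) (kj xj22 yj25 zj5) (kj xj22 yj24 zj36)) (@D3.rec (fun _ => Pt) (kj xj22 yj24 zj17) (kj xj22 yj24 zj19) (kj xj22 yj25 zj18) (kj xj22 yj25 zj17) (kj xj22 yj18 zj5) (kj xj22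 yj25 zj11) (kj xj22 yj17 zj32) (kj xj22 yj17 zj35) (kj xj22 yj17 zj45) (kj xj22 yj17 zj46) (kj xj22 yj19 zj37) (kj xj22 yj18 zj32) (kj xj22 yj19 zj8) (kj xj22 yj25 zj46) (kj xj22 yj19 zj49) (kj xj22 yj19 zj38) (kj xj22 yj18 zj4) (kj xj22 yj20 zj0) (kj xj22 yj20 zj1) (kj xj22 yj25 zj44) (kj xj22 yj18 zj24) (kj xj22 yj25 zj10) (kj xj22 yj25 zj12) (kj xj22 yj18 zj31) (kj xj22 yj18 zj33) (kj xj22 yj20 zj5) (kj xj22 yj24 zj37) (kj xj22 yj24 zj38) (kj xj22 yj24 zj39) (kj xj22 yj24 zj43) (kj xj22 yj24 zj42) (kj xj22 yj25 zj13) (kj xj22 yj25 zj14) (kj xj22 yj25 zj47) (kj xj22 yj26 zj0) (kj xj22 yj25 zj26) (kj xj22 yj25 zj1) (kj xj22 yj19 zj0) (kj xj22 yj25 zj24) (kj xj22 yj25 zj25) (kj xj22 yj19 zj14) (kj xj22 yj19 zj16) (kj xj22 yj19 zj7) (kj xj22 yj24 zj21)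 (kj xj22 yj24 zj22) (kj xj22 yj24 zj23) (kj xj22 yj25 zj48) (kj xj22 yj24 zj35) (kj xj22 yj24 zj32) (kj xj22 yj19 zj18) (kj xj22 yj26 zj5)) (@D3.rec (fun _ => Pt) (kj xj22 yj24 zj46) (kj xj22 yj24 zj47) (kj xj22 yj19 zj24) (kj xj22 yj24 zj31) (kj xj22 yj19 zj30) (kj xj22 yj19 zj31) (kj xj22 yj25 zj20) (kj xj22 yj19 zj39) (kj xj22 yj25 zj23) (kj xj22 yj25 zj22) (kj xj22 yj25 zj49) (kj xj22 yj24 zj16) (kj xj22 yj24 zj15) (kj xj22 yj20 zj27) (kj xj22 yj20 zj28) (kj xj22 yj24 zj12) (kj xj22 yj24 zj11) (kj xj22 yj23 zj0) (kj xj22 yj22 zj33) (kj xj22 yj23 zj1) (kj xj22 yj22 zj35) (kj xj22 yj23 zj43) (kj xj22 yj23 zj44) (kj xj22 yj23 zj45) (kj xj22 yj22 zj25) (kj xj22 yj22 zj42) (kj xj22 yj22 zj27) (kj xj22 yj22 zj43) (kj xj22 yj26 zj11) (kj xj22 yj22 zj24) (kj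 xj22 yj20 zj38) (kj xj22 yj24 zj3) (kj xj22 yj23 zj48) (kj xj22 yj22 zj26) (kj xj22 yj22 zj28) (kj xj22 yj23 zj47) (kj xj22 yj22 zj50) (kj xj22 yj23 zj26) (kj xj22 yj23 zj27) (kj xj22 yj23 zj28) (kj xj22 yj22 zj32) (kj xj22 yj22 zj34) (kj xj22 yj23 zj30) (kj xj22 yj23 zj29) (kj xj22 yj22 zj30) (kj xj22 yj22 zj7) (kj xj22 yj24 zj0) (kj xj22 yj24 zj1) (kj xj22 yj21 zj23) (kj xj22 yj21 zj24) (kj xj22 yj21 zj27)) (@D3.rec (fun _ => Pt) (kj xj22 yj21 zj28) (kj xj22 yj23 zj36) (kj xj22 yj22 zj37) (kj xj22 yj21 zj32) (kj xj22 yj26 zj28) (kj xj22 yj22 zj49) (kj xj22 yj26 zj29) (kj xj22 yj22 zj40) (kj xj22 yj22 zj41) (kj xj22 yj22 zj23) (kj xj22 yj23 zj21) (kj xj22 yj23 zj5) (kj xj22 yj23 zj22) (kj xj22 yj23 zj31) (kj xj22 yj23 zj32) (kj xj22 yj22 zj48) (kj xj22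 yj21 zj49) (kj xj22 yj23 zj3) (kj xj22 yj23 zj2) (kj xj22 yj22 zj44) (kj xj22 yj24 zj6) (kj xj22 yj22 zj45) (kj xj22 yj24 zj9) (kj xj22 yj24 zj8) (kj xj22 yj23 zj38) (kj xj22 yj23 zj39) (kj xj22 yj23 zj35) (kj xj22 yj22 zj36) (kj xj22 yj22 zj31) (kj xj22 yj22 zj29) (kj xj22 yj26 zj19) (kj xj22 yj26 zj17) (kj xj22 yj26 zj21) (kj xj22 yj26 zj26) (kj xj22 yj26 zj38) (kj xj22 yj26 zj25) (kj xj22 yj26 zj14) (kj xj22 yj26 zj30) (kj xj22 yj26 zj32) (kj xj22 yj26 zj18) (kj xj22 yj26 zj36) (kj xj22 yj26 zj31) (kj xj22 yj26 zj22) (kj xj22 yj26 zj13) (kj xj22 yj23 zj19) (kj xj22 yj26 zj33) (kj xj22 yj23 zj13) (kj xj22 yj23 zj33) (kj xj22 yj23 zj46) (kj xj22 yj24 zj10) (kj xj22 yj26 zj34)) (@D3.rec (fun _ => Pt) (kj xj22 yj23 zj34) (kj xj22 yj26 zj23) (kj xj22 yj26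 zj24) (kj xj22 yj26 zj35) (kj xj22 yj26 zj37) (kj xj22 yj23 zj50) (kj xj22 yj26 zj15) (kj xj22 yj26 zj16) (kj xj22 yj26 zj20) (kj xj22 yj26 zj27) (kj xj22 yj26 zj12) (kj xj22 yj24 zj28) (kj xj22 yj26 zj10) (kj xj22 yj25 zj43) (kj xj22 yj25 zj36) (kj xj22 yj26 zj6) (kj xj22 yj26 zj7) (kj xj22 yj25 zj31) (kj xj22 yj25 zj39) (kj xj22 yj25 zj30) (kj xj22 yj26 zj8) (kj xj22 yj25 zj32) (kj xj22 yj25 zj42) (kj xj22 yj26 zj1) (kj xj22 yj26 zj2) (kj xj22 yj25 zj35) (kj xj22 yj25 zj33) (kj xj22 yj26 zj9) (kj xj22 yj25 zj4) (kj xj22 yj25 zj6) (kj xj22 yj25 zj37) (kj xj22 yj25 zj41) (kj xj22 yj25 zj38) (kj xj22 yj25 zj45) (kj xj22 yj25 zj50) (kj xj22 yj26 zj3) (kj xj22 yj25 zj40) (kj xj22 yj26 zj4) (kj xj22 yj25 zj34) (kj xj22 yj26 zj47) (kj xj22 yj26 zj49) (kj xj22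 yj26 zj50) (kj xj22 yj26 zj46) (kj xj22 yj26 zj48) (kj xj22 yj26 zj45) (kj xj22 yj26 zj44) (kj xj22 yj26 zj42) (kj xj22 yj26 zj39) (kj xj22 yj26 zj43) (kj xj22 yj26 zj40) (kj xj22 yj26 zj41))
def f_j : Pt → Pt := @Pt.rec (fun _ => Pt) (@D1.rec (fun _ => D2 → D3 → Pt) f_j_0 f_j_1 f_j_2 f_j_3 f_j_4 f_j_5 f_j_6 f_j_7 f_j_8 f_j_9 f_j_10 f_j_11 f_j_12 f_j_13 f_j_14 f_j_15 f_j_16 f_j_17 f_j_18 f_j_19 f_j_20 f_j_21 f_j_22)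
def fi_j : Pt → Pt := f_j

theorem inv_chk_j : chkInv allPts beqPt f_j fi_j = true := by decide +kernel

end

end Cfsg.Agent.Helper28.S1689
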