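import Cfsg.Agent.Lib.Helper28.S1689.Model

set_option autoImplicit false
set_option maxRecDepth 100000
set_option linter.all false

namespace Cfsg.Agent.Helper28.S1689

open Cfsg.Agent.Helper28
open Cfsg.Spor.Fi23 (Gen)

theorem relchk_12 : chkWordF allPts beqPt relF_12 = true := by decide +kernel
theorem relchk_19 : chkWordF allPts beqPt relF_19 = true := by decide +kernel
theorem relchk_24 : chkWordF allPts beqPt relF_24 = true := by decide +kernel
theorem relchk_39 : chkWordF allPts beqPt relF_39 = true := by decide +kernel
theorem relchk_41 : chkWordF allPts beqPt relF_41 = true := by decide +kernel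
theorem relchk_48 : chkWordF allPts beqPt relF_48 = true := by decide +kernel

end Cfsg.Agent.Helper28.S1689
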