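import Cfsg.Agent.Lib.Helper28.S1689.Model

set_option autoImplicit false
set_option maxRecDepth 100000
set_option linter.all false

namespace Cfsg.Agent.Helper28.S1689

open Cfsg.Agent.Helper28
open Cfsg.Spor.Fi23 (Gen)

theorem relchk_13 : chkWordF allPts beqPt relF_13 = true := by decide +kernel
theorem relchk_25 : chkWordF allPts beqPt relF_25 = true := by decide +kernel
theorem relchk_27 : chkWordF allPts beqPt relF_27 = true := by decide +kernel
theorem relchk_42 : chkWordF allPts beqPt relF_42 = true := by decide +kernel
theorem relchk_44 : chkWordF allPts beqPt relF_44 = true := by decide +kernel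
theorem relchk_52 : chkWordF allPts beqPt relF_52 = true := by decide +kernel

end Cfsg.Agent.Helper28.S1689
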