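import Cfsg.Agent.Lib.Helper28.S1689.Seeds10

set_option autoImplicit false
set_option maxRecDepth 100000
set_option linter.all false

namespace Cfsg.Agent.Helper28.S1689

open Cfsg.Agent.Helper28
open Cfsg.Spor.Fi23 (Gen)

noncomputable section

theorem seed_0 (IH : ∀ y q, lvl y q < 47 → EntryOK rels S fwd inv o plet idx y q) :
    EntryOK rels S fwd inv o plet idx Gen.i (Pt.mk D1.c14 D2.c4 D3.c43) :=
  entryOK_of_edge rels S fwd inv o plet idx Gen.i (Pt.mk D1.c14 D2.c4 D3.c43) (s0_f59177 IH)
theorem hseed : ∀ x p, isSeed x p = true →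
    (∀ y q, lvl y q < lvl x p → EntryOK rels S fwd inv o plet idx y q) →
    EntryOK rels S fwd inv o plet idx x p := by
  intro x p hs IH
  cases x
  · exact absurd hs (by simp [isSeed, isSeed_a])
  · exact absurd hs (by simp [isSeed, isSeed_b])
  · exact absurd hs (by simp [isSeed, isSeed_c])
  · exact absurd hs (by simp [isSeed, isSeed_d])
  · exact absurd hs (by simp [isSeed, isSeed_e])
  · exact absurd hs (by simp [isSeed, isSeed_f])
  · exact absurd hs (by simp [isSeed, isSeed_g])
  · exact absurd hs (by simp [isSeed, isSeed_j])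
  · exact absurd hs (by simp [isSeed, isSeed_h])
  · have hs' : isSeed_i p = true := hs
    unfold isSeed_i at hs'
    rcases orB_true hs' with h1 | hs'
    · have hp := beqPt_sound _ _ h1
      subst hp
      exact seed_0 (fun y q h => IH y q (Nat.lt_of_lt_of_le h (by decide)))
    exact absurd hs' (by decide)

end

end Cfsg.Agent.Helper28.S1689
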