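import Cfsg.Agent.Lib.Helper28.S1689.Tree

set_option autoImplicit false
set_option maxRecDepth 100000
set_option linter.all false

namespace Cfsg.Agent.Helper28.S1689

open Cfsg.Agent.Helper28
open Cfsg.Spor.Fi23 (Gen)

noncomputable section

def lv_b_0 : D2 → D3 → Nat := @D2.rec (fun _ => D3 → Nat) (@D3.rec (fun _ => Nat) 1 2 3 4 5 6 0 7 1 2 8 8 2 3 3 9 3 3 4 4 10 10 8 4 4 5 5 5 0 11 11 9 9 5 5 5 6 6 6 1 2 2 12 12 12 10 10 10 10 6 6) (@D3.rec (fun _ => Nat) 6 7 7 7 7 2 2 3 3 3 3 13 13 13 11 11 11 11 11 11 11 7 7 7 7 8 8 8 0 3 3 3 3 4 4 4 4 4 4 4 14 14 14 14 12 12 12 12 12 12 12) (@D3.rec (fun _ => Nat) 12 12 12 12 8 8 8 0 9 9 0 9 1 12 4 4 4 4 4 4 4 5 5 5 5 5 5 5 5 5 5 5 15 15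 15 0 13 13 13 13 13 13 13 13 13 13 13 13 13 0 13) (@D3.rec (fun _ => Nat) 13 9 9 0 9 1 10 0 10 1 2 15 13 13 13 5 5 5 5 5 5 5 5 5 5 13 5 6 6 6 6 6 6 6 6 6 6 6 6 6 0 6 6 16 16 0 16 1 14 14 14) (@D3.rec (fun _ => Nat) 14 14 14 14 14 14 14 14 14 14 14 0 14 14 14 0 14 1 2 14 14 10 0 10 1 2 9 0 11 1 2 11 16 2 3 14 14 14 14 14 14 14 6 6 6 6 6 6 6 6 6) (@D3.rec (fun _ => Nat) 6 6 6 6 0 6 14 6 7 7 7 7 7 7 7 7 7 7 7 7 7 7 0 7 7 7 0 7 1 2 7 7 17 0 17 1 2 9 15 15 15 15 15 15 15 15 0 15 15 15 15) (@D3.rec (fun _ => Nat) 15 15 15 15 0 15 0 15 1 2 15 15 0 15 1 2 15 10 2 3 15 15 0 11 1 2 11 10 2 3 1 2 12 17 2 3 3 17 3 64 15 15 15 15 15 15 15 15 15 15 15) (@D3.rec (fun _ => Nat) 15 15 15 7 7 7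 7 7 7 7 7 7 7 7 7 7 7 0 7 7 7 0 7 1 2 7 15 15 7 8 8 8 8 8 8 8 8 15 8 8 8 8 8 8 8 8 0 8 0 8 1) (@D3.rec (fun _ => Nat) 2 8 8 0 8 1 2 8 10 2 3 8 8 0 18 1 2 18 10 2 3 16 16 16 16 16 16 16 16 16 0 16 16 16 1 70 16 16 0 16 16 16 16 0 16 0 16 1 2 16 1) (@D3.rec (fun _ => Nat) 2 16 11 2 3 3 16 0 16 1 2 16 11 2 3 3 16 11 3 4 16 1 2 12 11 2 3 3 11 3 71 18 2 3 3 13 18 3 3 4 71 18 16 16 16 16 16 16 16 16 16) (@D3.rec (fun _ => Nat) 16 16 16 16 16 16 16 16 16 16 0 16 8 8 8 8 8 8 8 8 8 8 8 8 8 8 8 8 0 8 0 8 1 2 8 8 0 8 1 2 8 15 2 3 3 8 16 16 16 8 9) (@D3.rec (fun _ => Nat) 9 9 9 9 9 9 9 9 16 9 9 9 16 9 9 0 9 9 9 9 0 9 0 9 1 2 9 1 2 9 11 2 3 3 9 0 9 1 2 9 11 2 3 3 9 11 3 4 9 1 2) (@D3.rec (fun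 _ => Nat) 19 11 2 3 3 11 3 4 17 17 17 17 17 0 17 17 17 17 0 17 17 17 1 65 17 17 0 17 17 69 17 1 2 17 17 0 17 0 17 1 2 17 1 2 17 12 2 3 3 17 12) (@D3.rec (fun _ => Nat) 2 3 3 17 12 3 3 4 4 17 1 2 17 12 2 3 3 17 12 3 3 4 69 4 17 12 4 5 12 2 3 3 13 12 3 3 4 70 12 19 3 3 4 66 4 19 19 4 5 76 17) (@D3.rec (fun _ => Nat) 17 17 17 17 17 17 17 17 17 17 17 17 17 17 17 17 17 17 17 17 0 17 17 17 0 17 1 2 17 9 9 9 9 9 9 9 9 9 9 9 9 9 9 0 9 9 9 9 0 9 0) (@D3.rec (fun _ => Nat) 9 1 2 9 1 2 9 16 2 3 3 9 0 9 1 2 9 16 2 3 3 9 16 3 3 4 4 4 9 17 17 17 17 17 10 10 10 10 10 17 10 10 10 10 17 10 10 10 17 10 10) (@D3.rec (fun _ => Nat) 0 10 10 0 10 1 2 10 10 0 10 0 10 1 2 10 1 2 10 12 2 3 3 10 12 2 3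 3 10 12 3 3 4 4 10 1 2 10 12 2 3 3 10 12 3 3 4 4 4 10 12) (@D3.rec (fun _ => Nat) 4 5 12 2 3 3 20 12 3 3 4 4 12 16 4 70 18 18 18 0 18 18 18 18 1 2 75 18 18 18 0 18 1 72 18 18 0 18 18 69 18 1 2 18 18 70 18 2 3 3 18) (@D3.rec (fun _ => Nat) 0 18 1 2 18 1 2 18 13 2 3 3 18 13 2 3 3 18 13 3 3 4 70 4 18 13 3 3 4 4 4 18 13 13 15 4 4 5 5 5 13 2 3 3 18 13 3 3 4 68 4) (@D3.rec (fun _ => Nat) 18 13 13 4 4 5 69 5 13 5 13 3 3 4 70 4 13 13 4 5 70 20 20 4 4 5 5 78 20 5 74 18 18 18 18 18 18 18 18 18 18 18 18 18 18 18 18 0 18 18 18) (@D3.rec (fun _ => Nat) 18 18 18 0 18 18 0 18 1 2 18 18 0 18 1 2 18 17 2 3 3 18 10 10 10 10 10 10 10 10 10 10 10 10 10 10 0 10 10 0 10 1 2 10 10 0 10 0 10 1 2) (@D3.rec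 (fun _ => Nat) 10 1 2 10 17 2 3 3 10 17 2 3 3 10 17 3 3 4 4 4 10 1 2 10 17 2 3 3 10 17 3 3 4 4 4 10 17 17 4 4 4 5 5 5 5 5 18 18 18 18 18) (@D3.rec (fun _ => Nat) 11 11 11 18 11 11 11 11 19 18 11 11 11 0 11 18 11 11 0 11 11 0 11 1 2 11 11 1 2 11 71 2 3 3 11 0 11 1 2 11 1 2 11 13 2 3 3 11 13 2 3) (@D3.rec (fun _ => Nat) 3 11 13 3 3 4 4 4 11 13 3 3 4 4 4 11 13 13 16 4 4 5 5 5 13 2 3 3 11 13 3 3 4 4 4 11 13 13 17 4 4 4 5 5 70 5 13 5 13 3 3) (@D3.rec (fun _ => Nat) 4 4 4 13 13 17 4 4 5 5 72 71 21 0 19 19 19 19 1 2 77 19 19 19 0 19 2 3 75 19 19 71 19 1 2 19 19 71 19 1 2 19 19 70 19 2 3 3 19 19 67) (@D3.rec (fun _ => Nat) 68 19 3 3 4 4 4 19 1 2 19 14 2 3 3 19 14 2 3 3 19 14 3 3 4 68 4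 19 14 3 3 4 67 4 19 14 14 4 4 5 5 66 5 14 14 16 4 4 4 5 5) (@D3.rec (fun _ => Nat) 5 5 0 14 14 16 5 5 5 6 6 14 3 3 4 71 4 19 14 14 4 4 5 5 70 5 14 14 5 5 6 69 14 14 14 4 4 5 5 72 14 5 72 21 21 5 5 6 78 78 21)
def lv_b_1 : D2 → D3 → Nat := @D2.rec (fun _ => D3 → Nat) (@D3.rec (fun _ => Nat) 76 19 19 19 19 19 19 19 0 19 19 19 19 19 19 19 19 19 19 0 19 0 19 1 2 19 19 19 0 19 19 0 19 1 2 19 0 19 1 2 19 18 2 3 3 19 0 19 1 2 19) (@D3.rec (fun _ => Nat) 18 2 3 3 19 18 3 3 4 4 4 19 11 11 11 11 11 11 11 11 11 11 0 11 11 11 0 11 11 0 11 1 2 11 68 11 1 2 11 18 2 3 3 11 0 11 1 2 11 1 2) (@D3.rec (fun _ => Nat) 11 18 2 3 3 11 18 2 3 3 11 18 3 3 4 4 4 11 18 3 3 4 4 4 11 18 18 17 4 4 4 5 5 5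 5 5 18 2 3 3 11 18 3 3 4 4 4 11 18 18 18) (@D3.rec (fun _ => Nat) 4 4 4 5 5 5 5 5 18 18 18 5 5 5 5 5 6 6 6 6 6 19 19 19 19 19 19 19 19 12 12 12 12 20 19 12 12 12 0 12 20 23 12 12 0 12 1 2 12 12 0) (@D3.rec (fun _ => Nat) 12 1 2 12 12 1 2 12 71 2 3 3 12 12 2 3 3 12 69 3 3 4 4 4 12 1 2 12 14 2 3 3 12 14 2 3 3 12 14 3 3 4 4 4 12 14 3 3 4 4 4) (@D3.rec (fun _ => Nat) 12 14 14 6 4 4 4 5 5 5 68 5 14 14 17 4 4 4 5 5 5 5 0 14 14 17 5 5 5 6 6 14 3 3 4 4 4 12 14 14 18 4 4 4 5 5 5 70 5 67 14) (@D3.rec (fun _ => Nat) 14 18 20 5 5 5 6 6 68 14 14 14 18 4 4 4 5 5 5 72 69 14 18 22 5 5 6 72 22 1 2 79 20 20 20 20 0 20 2 3 79 20 20 71 20 1 2 20 3 4 75) (@D3.rec (fun _ => Nat) 20 20 71 20 2 3 3 20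 20 69 20 2 3 3 20 20 67 69 20 3 3 4 4 4 20 20 68 67 20 74 4 4 4 5 5 5 5 15 2 3 3 20 15 3 3 4 68 4 20 15 3) (@D3.rec (fun _ => Nat) 3 4 69 4 20 15 15 4 4 5 5 68 5 15 15 4 4 5 5 67 5 15 15 5 5 5 6 72 6 66 0 15 15 15 17 17 5 5 5 5 6 6 6 6 1 2 15 15 15 17 17) (@D3.rec (fun _ => Nat) 6 6 7 7 15 15 4 4 5 5 70 5 15 15 5 5 5 6 70 6 68 15 15 6 68 15 15 5 5 6 72 72 15 72 22 22 6 7 80 76 78 20 20 20 20 20 20 20 0 20 1) (@D3.rec (fun _ => Nat) 2 20 20 20 20 20 20 0 20 20 0 20 0 20 1 2 20 1 2 20 19 2 3 3 20 20 0 20 1 2 20 0 20 1 2 20 19 2 3 3 20 1 2 20 19 2 3 3 20 19 3) (@D3.rec (fun _ => Nat) 3 4 4 4 20 1 2 20 19 2 3 3 20 19 3 3 4 4 4 20 19 19 18 4 4 4 5 5 5 5 5 12 12 12 12 12 12 12 0 12 12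 12 0 12 1 2 12 12 0 12 1) (@D3.rec (fun _ => Nat) 2 12 72 12 1 2 12 19 2 3 3 12 70 12 2 3 3 12 19 3 3 4 4 4 12 1 2 12 19 2 3 3 12 19 2 3 3 12 19 3 3 4 4 4 12 19 3 3 4 4 4) (@D3.rec (fun _ => Nat) 12 19 19 6 4 4 4 5 5 5 5 5 19 19 18 4 4 4 5 5 5 56 5 55 19 19 19 18 18 5 5 5 5 5 6 6 6 6 6 19 3 3 4 4 4 12 19 19 19 4 4) (@D3.rec (fun _ => Nat) 4 5 5 5 5 5 69 19 19 19 19 21 5 5 5 5 5 6 6 6 6 6 19 19 19 19 19 6 6 6 6 6 7 7 7 7 7 7 7 20 20 20 20 20 0 20 20 24 20 13 13) (@D3.rec (fun _ => Nat) 13 13 0 13 21 24 13 13 0 13 1 2 13 21 24 13 13 1 2 13 73 2 3 3 13 13 1 2 13 73 2 3 3 13 13 2 3 3 13 71 3 3 4 4 4 13 13 3 3 4 4) (@D3.rec (fun _ => Nat) 13 69 69 6 4 4 4 5 5 5 5 5 15 2 3 3 13 15 3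 3 4 4 4 13 15 3 3 4 4 4 13 15 15 7 4 4 4 5 5 5 70 5 15 15 7 4 4 4 5 5 5) (@D3.rec (fun _ => Nat) 70 5 64 15 15 7 7 5 5 5 5 6 6 6 6 68 63 15 15 15 18 18 5 5 5 5 6 6 6 6 1 2 15 15 15 18 18 6 6 7 7 15 15 19 4 4 4 5 5 5 72) (@D3.rec (fun _ => Nat) 5 71 15 15 21 21 5 5 5 5 6 6 6 6 72 71 15 15 19 21 21 6 6 7 70 73 15 15 19 23 5 5 5 6 6 6 74 74 15 19 19 23 6 7 74 23 2 3 3 79 21) (@D3.rec (fun _ => Nat) 21 21 73 21 1 2 21 3 4 77 21 21 73 21 2 3 3 21 18 4 21 21 73 71 21 3 3 4 4 4 21 21 69 71 21 3 3 4 4 4 21 21 69 69 21 68 4 4 4 5 5) (@D3.rec (fun _ => Nat) 5 5 21 73 67 70 68 5 5 5 5 6 6 6 6 16 3 3 4 69 4 21 16 16 4 4 5 5 70 5 16 16 4 4 5 5 69 5 16 16 5 5 5 6 70 6 68 16 16 5 5) (@D3.rec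 (fun _ => Nat) 5 6 67 6 67 16 16 16 6 6 7 7 68 68 1 2 65 16 16 16 16 18 18 18 18 6 6 6 6 7 7 7 7 7 2 3 3 16 16 18 18 18 7 7 8 16 16 5 5 5 6) (@D3.rec (fun _ => Nat) 72 6 72 16 16 16 6 6 7 70 72 70 16 16 16 6 7 74 74 74 23 7 80 80 79 21 21 21 21 21 21 0 21 0 21 1 2 21 20 2 3 3 21 21 21 21 0 21 0 21 1) (@D3.rec (fun _ => Nat) 2 21 0 21 1 2 21 1 2 21 20 2 3 3 21 2 3 3 21 20 3 3 4 4 4 21 0 21 1 2 21 20 2 3 3 21 1 2 21 20 2 3 3 21 20 3 3 4 4 4 21) (@D3.rec (fun _ => Nat) 20 2 3 3 21 20 3 3 4 4 4 21 20 20 6 4 4 4 5 5 5 5 5 20 2 64 3 21 20 3 3 4 64 4 21 20 20 19 4 4 4 5 5 5 56 5 57 20 20 20 19) (@D3.rec (fun _ => Nat) 19 5 5 5 5 5 6 6 6 6 6 13 13 13 13 0 13 13 13 0 13 1 2 13 13 73 13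 1 2 13 20 2 3 3 13 70 13 1 2 13 20 2 3 3 13 68 13 2 3 3 13) (@D3.rec (fun _ => Nat) 20 3 3 4 4 4 13 68 61 13 3 3 4 4 4 13 20 20 6 4 4 4 5 5 5 5 5 20 2 3 3 13 20 3 3 4 4 4 13 20 3 3 4 4 4 13 20 20 7 4 4)
def lv_b_2 : D2 → D3 → Nat := @D2.rec (fun _ => D3 → Nat) (@D3.rec (fun _ => Nat) 4 5 5 5 5 5 20 20 7 4 4 4 5 5 5 5 5 0 20 20 20 7 7 5 5 5 5 5 6 6 6 6 6 20 20 19 5 5 5 5 6 6 6 6 62 63 20 20 20 20 19) (@D3.rec (fun _ => Nat) 19 19 6 6 6 6 6 7 7 7 7 7 7 7 20 20 20 4 4 4 5 5 5 5 5 69 20 20 20 22 22 5 5 5 5 5 6 6 6 6 6 68 69 20 20 20 20 20 20 20 22) (@D3.rec (fun _ => Nat) 22 22 6 6 6 6 6 7 7 7 7 7 7 7 20 20 20 20 20 7 7 7 7 7 7 7 8 8 8 8 8 0 8 8 21 21 21 21 0 1 2 25 25 25 14 14 14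 0 14 1 2) (@D3.rec (fun _ => Nat) 14 22 25 14 14 1 2 14 73 2 3 3 14 14 14 2 3 3 14 73 3 3 4 4 4 14 14 2 3 3 14 71 3 3 4 4 4 14 14 3 3 4 4 14 69 71 7 4 4 4 5) (@D3.rec (fun _ => Nat) 5 5 5 5 14 7 4 4 5 5 5 0 67 69 69 7 7 5 5 5 5 5 6 6 6 6 6 16 3 3 4 4 4 14 16 16 8 4 4 4 5 5 5 70 5 16 16 9 4 4 4) (@D3.rec (fun _ => Nat) 5 5 5 70 5 66 16 16 8 8 5 5 5 5 6 6 6 6 70 65 16 16 8 65 5 5 5 5 6 6 6 6 68 64 16 16 16 8 8 8 8 6 6 6 6 7 7 7 68 7 68) (@D3.rec (fun _ => Nat) 63 16 16 16 16 19 19 19 6 6 6 6 7 7 7 7 7 2 3 3 16 16 19 19 19 7 7 8 69 16 16 22 22 5 5 5 5 6 6 6 6 72 70 16 16 16 22 22 22 22 6) (@D3.rec (fun _ => Nat) 6 6 6 7 7 7 72 7 70 62 16 20 22 22 22 7 70 74 16 16 20 20 20 24 6 6 6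 7 7 7 74 74 74 20 20 20 24 7 0 74 24 3 3 4 4 81 81 22 22 22 73) (@D3.rec (fun _ => Nat) 22 2 86 87 22 19 4 22 22 73 71 22 3 3 92 4 92 22 19 22 22 71 69 22 19 4 4 4 5 92 5 94 22 69 71 22 70 4 4 4 92 93 5 98 22 69 67 69 70 5 5) (@D3.rec (fun _ => Nat) 5 5 100 6 101 6 67 67 69 68 6 6 6 6 105 99 7 7 7 17 17 4 4 5 5 71 5 17 17 5 5 5 17 17 5 5 5 6 71 6 69 17 17 17 6 6 17 17 17 6 6) (@D3.rec (fun _ => Nat) 7 7 69 70 69 17 17 7 7 2 3 3 70 17 17 17 17 19 19 19 19 19 19 7 7 7 7 7 108 8 8 8 64 3 3 4 4 4 17 17 19 19 19 8 17 17 17 6 6 17 17) (@D3.rec (fun _ => Nat) 7 17 7 24 82 80 22 22 22 0 22 22 0 22 1 2 22 1 2 22 21 2 3 3 22 21 3 3 4 4 4 22 22 0 22 0 22 1 2 22 1 2 22 21 2 3 3 22 1 2 22)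 (@D3.rec (fun _ => Nat) 21 2 3 3 22 2 3 3 22 21 3 3 4 4 4 22 3 3 4 4 4 22 21 21 6 4 4 4 5 5 5 5 5 1 2 22 21 2 3 3 22 21 3 3 4 4 4 22 21 2 3) (@D3.rec (fun _ => Nat) 3 22 21 3 3 4 4 4 22 21 21 7 4 4 4 5 5 5 5 5 21 3 3 4 4 4 22 21 21 7 4 4 4 5 5 5 5 5 0 21 21 21 7 7 5 5 5 5 5 6 6) (@D3.rec (fun _ => Nat) 6 6 6 3 69 4 22 21 4 4 5 5 62 5 21 21 20 5 5 5 5 6 6 6 6 62 61 21 21 21 21 20 20 20 6 6 6 6 6 7 7 7 7 7 7 7 14 14 14 0 14) (@D3.rec (fun _ => Nat) 1 2 14 14 75 14 1 2 14 21 2 3 3 14 77 14 75 14 2 3 3 14 21 3 3 4 4 4 14 72 14 2 3 3 14 21 3 3 4 4 4 14 70 71 14 3 3 4 4 4 14) (@D3.rec (fun _ => Nat) 21 21 7 4 4 4 5 5 5 5 5 70 70 72 14 7 4 4 4 5 5 5 5 5 0 21 21 21 7 7 5 5 5 5 5 6 6 6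 6 6 21 3 3 4 4 4 14 21 21 8 4) (@D3.rec (fun _ => Nat) 4 4 5 5 5 5 5 21 21 9 4 4 4 5 5 5 5 5 0 21 21 21 8 8 5 5 5 5 5 6 6 6 6 6 0 21 21 21 8 8 5 5 5 5 5 6 6 6 6 6 1) (@D3.rec (fun _ => Nat) 2 66 21 21 21 21 21 8 8 8 8 8 6 6 6 6 6 7 7 7 7 7 7 7 21 21 21 20 20 6 6 6 6 7 7 7 7 60 7 62 61 61 21 21 21 21 20 20 20 20 20) (@D3.rec (fun _ => Nat) 7 7 7 7 7 7 7 8 8 8 8 8 0 8 8 71 21 21 21 23 23 5 5 5 5 5 6 6 6 6 6 72 71 21 21 21 21 21 23 23 23 23 23 6 6 6 6 6 7 7 7) (@D3.rec (fun _ => Nat) 7 7 7 7 68 71 71 63 21 21 21 21 21 21 23 21 23 23 23 23 23 7 7 7 7 7 7 7 8 8 8 8 8 0 8 8 21 21 21 21 21 21 21 8 8 8 8 8 0 8 8) (@D3.rec (fun _ => Nat) 9 9 9 9 9 9 0 9 1 2 9 1 21 2 26 26 26 26 15 15 15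 1 2 15 75 2 3 3 15 15 15 2 3 3 15 75 3 3 4 4 4 15 15 15 3 3 4 4 15 75 73) (@D3.rec (fun _ => Nat) 20 4 4 4 5 5 5 5 15 3 3 4 4 15 71 73 8 4 4 4 5 5 5 5 5 15 9 4 4 5 5 5 0 71 71 71 8 8 5 5 5 5 5 6 6 6 6 6 8 5 5) (@D3.rec (fun _ => Nat) 5 6 6 1 2 66 69 69 69 71 8 8 8 8 6 6 6 6 6 7 7 7 7 7 7 7 17 17 10 4 4 4 5 5 5 72 5 66 17 17 9 9 5 5 5 5 72 67 17 17 10) (@D3.rec (fun _ => Nat) 65 5 5 5 5 6 6 6 6 72 66 17 17 17 9 9 9 9 6 6 6 6 72 72 65 17 17 17 9 9 63 6 6 6 6 7 7 7 7 70 7 70 64 64 17 17 9 9 9 9 9) (@D3.rec (fun _ => Nat) 9 9 7 7 7 7 70 70 61 63 17 17 17 17 20 20 20 20 20 7 7 7 7 7 8 8 8 8 0 3 3 4 4 4 17 17 20 20 20 20 8 72 17 17 17 23 23 23 23 6 6) (@D3.rec (fun _ => Nat) 6 6 74 74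 72 70 17 17 23 23 23 23 23 23 23 7 7 7 7 72 74 72 73 23 23 23 23 76 76 17 21 21 21 21 21 25 7 7 7 76 76 76 21 21 21 25 0 1 2 76 25)
def lv_b_3 : D2 → D3 → Nat := @D2.rec (fun _ => D3 → Nat) (@D3.rec (fun _ => Nat) 20 4 4 5 5 81 23 23 23 88 87 23 20 23 23 93 91 23 4 20 23 23 92 93 91 20 5 5 23 94 91 70 5 102 101 70 68 6 6 98 108 68 68 68 7 7 7 18 18 5 5) (@D3.rec (fun _ => Nat) 5 18 18 18 18 18 18 6 6 18 18 18 18 7 7 107 18 18 3 3 4 4 63 4 65 18 18 18 18 18 20 20 20 20 20 20 8 8 8 65 4 4 4 5 5 5 18 18 18 18 18) (@D3.rec (fun _ => Nat) 83 82 23 23 0 23 1 2 23 0 23 1 2 23 22 2 3 3 23 22 2 3 3 23 22 3 3 4 4 4 23 22 22 20 4 4 4 5 5 5 5 5 0 23 1 2 23 1 2 23 22) (@D3.rec (fun _ => Nat)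 2 3 3 23 2 3 3 23 22 3 3 4 4 4 23 2 3 3 23 22 3 3 4 4 4 23 3 3 4 4 4 23 22 22 7 4 4 4 5 5 5 5 5 7 4 4 4 5 5 5 5) (@D3.rec (fun _ => Nat) 5 0 22 22 22 7 7 5 5 5 5 5 6 6 6 6 6 22 2 3 3 23 22 3 3 4 4 4 23 22 22 8 4 4 4 5 5 5 5 5 22 3 3 4 4 4 23 22 22 9 4) (@D3.rec (fun _ => Nat) 4 4 5 5 5 5 5 0 22 22 22 8 8 5 5 5 5 5 6 6 6 6 6 22 22 20 4 4 4 5 5 5 5 5 0 22 22 22 8 8 5 5 5 5 5 6 6 6 6 6 1) (@D3.rec (fun _ => Nat) 2 2 22 22 22 22 22 8 8 8 8 8 6 6 6 6 6 7 7 7 7 7 7 7 4 62 64 5 22 5 5 5 6 62 6 64 22 22 22 21 21 6 6 6 6 7 7 7 7 62 7) (@D3.rec (fun _ => Nat) 60 61 61 22 22 22 22 21 21 21 21 21 7 7 7 7 7 7 7 8 8 8 8 8 0 8 8 15 15 75 15 1 2 15 22 2 3 3 15 78 15 75 15 2 3 3 15 22 3 3 4) (@D3.rec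 (fun _ => Nat) 4 4 15 78 15 75 71 15 3 3 4 4 4 15 22 22 21 4 4 4 5 5 5 5 5 70 71 15 3 3 4 4 4 15 22 22 8 4 4 4 5 5 5 5 5 71 70 69 15 9 4) (@D3.rec (fun _ => Nat) 4 4 5 5 5 5 5 0 22 22 22 8 8 5 5 5 5 5 6 6 6 6 6 67 69 67 62 63 8 8 5 5 5 5 5 6 6 6 6 6 1 2 2 22 22 22 22 22 8 8 8) (@D3.rec (fun _ => Nat) 8 8 6 6 6 6 6 7 7 7 7 7 7 7 22 22 10 4 4 4 5 5 5 5 5 0 22 22 22 9 9 5 5 5 5 5 6 6 6 6 6 0 22 22 22 10 10 5 5 5 5) (@D3.rec (fun _ => Nat) 5 6 6 6 6 6 1 2 66 22 22 22 22 22 9 9 9 9 9 6 6 6 6 6 7 7 7 7 7 7 7 1 2 71 22 22 22 22 22 9 9 9 65 9 6 6 6 6 6 7 7) (@D3.rec (fun _ => Nat) 7 7 7 7 7 2 3 3 64 66 22 22 22 22 22 9 9 9 9 9 9 9 9 9 7 7 7 7 7 7 7 8 8 8 8 8 0 8 8 22 22 21 21 21 7 7 7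 7 7 8 8) (@D3.rec (fun _ => Nat) 8 8 60 0 58 62 57 59 61 22 22 22 22 22 21 21 21 21 21 21 21 8 8 8 8 8 0 8 8 9 9 9 9 9 9 0 9 1 2 9 72 71 22 22 22 22 22 24 24 24 24) (@D3.rec (fun _ => Nat) 24 6 6 6 6 6 7 7 7 7 7 7 7 72 70 68 63 22 22 22 22 22 24 24 24 24 24 24 24 24 24 7 7 7 7 7 7 7 8 8 8 8 8 0 8 8 68 66 70 68 60) (@D3.rec (fun _ => Nat) 22 22 22 22 22 22 22 22 22 24 24 24 24 24 24 24 24 24 24 8 8 8 8 8 0 8 8 9 9 9 9 9 9 0 9 1 2 9 22 22 22 22 22 0 22 22 9 9 9 9 9) (@D3.rec (fun _ => Nat) 9 0 9 1 2 9 10 101 10 10 1 10 22 2 3 22 22 27 27 27 16 16 16 2 3 3 16 75 3 3 16 16 3 3 4 4 16 75 73 21 4 4 4 16 16 21 4 4 5 5 5) (@D3.rec (fun _ => Nat) 74 73 75 71 21 21 5 5 5 5 16 10 4 4 5 5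 98 0 71 71 73 9 9 5 5 5 5 5 6 10 5 5 5 6 6 1 2 66 71 69 71 71 9 9 9 9 6 6 6 6 6) (@D3.rec (fun _ => Nat) 7 7 9 9 6 6 7 7 2 3 3 64 69 69 69 69 9 9 9 9 9 9 9 7 7 7 7 7 7 7 8 8 8 67 18 18 11 67 5 5 5 5 90 93 72 68 18 18 18 10 10) (@D3.rec (fun _ => Nat) 10 10 67 18 18 18 11 11 67 6 6 6 6 100 98 72 101 70 68 66 18 18 10 10 10 10 10 10 10 65 65 18 18 10 10 65 10 65 7 7 7 7 7 98 100 8 70 70 70 69 66) (@D3.rec (fun _ => Nat) 66 18 18 10 10 10 10 10 10 10 10 10 10 61 63 65 18 18 18 18 18 21 21 21 21 21 21 21 8 8 8 8 0 103 107 107 0 1 4 4 4 5 5 5 5 18 21 21 21 21 21) (@D3.rec (fun _ => Nat) 72 72 18 18 24 24 24 24 24 24 24 72 70 70 18 24 24 24 24 24 24 24 24 24 94 74 24 24 24 24 76 76 18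 22 22 22 22 22 22 22 26 92 76 74 22 22 76 22 26 26 1) (@D3.rec (fun _ => Nat) 2 78 26 21 21 5 5 6 83 24 24 24 21 24 24 21 24 21 4 4 4 5 5 5 63 65 21 21 21 72 5 5 5 84 24 0 24 1 2 24 23 2 77 3 24 1 2 24 23 2 3) (@D3.rec (fun _ => Nat) 3 24 23 3 3 4 75 4 24 23 3 3 4 4 4 24 23 23 21 4 4 4 5 5 5 5 5 0 23 23 23 21 21 5 5 5 5 5 6 6 6 6 6 1 2 24 23 2 3 3 24) (@D3.rec (fun _ => Nat) 2 3 3 24 23 3 3 4 4 4 24 3 3 4 4 4 24 23 23 22 4 4 4 5 5 5 77 5 3 3 4 4 4 24 23 23 8 4 4 4 5 5 5 5 5 9 4 4 4 5 5) (@D3.rec (fun _ => Nat) 5 5 5 0 23 23 23 8 8 5 5 5 5 5 6 6 6 6 6 8 8 5 5 5 5 5 6 6 6 6 6 1 2 2 23 23 23 23 23 8 8 8 8 8 6 6 6 6 6 7 7) (@D3.rec (fun _ => Nat) 7 7 7 7 7 23 3 3 4 4 4 24 23 23 10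 4 4 4 5 5 5 5 5 0 23 23 23 9 9 5 5 5 5 5 6 6 6 6 6 23 23 21 4 4 4 5 5 5 5 5 0)
def lv_b_4 : D2 → D3 → Nat := @D2.rec (fun _ => D3 → Nat) (@D3.rec (fun _ => Nat) 23 23 23 10 10 5 5 5 5 5 6 6 6 6 6 1 2 2 23 23 23 23 23 9 9 9 9 9 6 6 6 6 6 7 7 7 7 7 7 7 0 23 23 23 20 20 5 5 5 5 5) (@D3.rec (fun _ => Nat) 6 6 6 6 6 1 2 2 23 23 23 23 23 9 9 9 9 9 6 6 6 6 6 7 7 7 7 7 7 7 2 2 3 3 4 70 3 23 23 23 23 23 9 9 9 9 9 9 9 9 9) (@D3.rec (fun _ => Nat) 7 7 7 7 7 7 7 8 8 8 8 8 0 8 8 5 64 66 23 6 6 7 7 62 60 64 23 23 22 22 22 7 7 7 7 7 8 8 8 8 60 0 58 62 59 61 63 23 23 23 23) (@D3.rec (fun _ => Nat) 23 22 22 22 22 22 22 22 8 8 8 8 8 0 8 8 9 9 9 9 9 9 0 9 1 2 9 16 79 16 77 16 2 3 3 16 23 3 3 4 4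 93 79 16 77 73 16 3 3 4 4) (@D3.rec (fun _ => Nat) 4 16 23 23 22 4 4 4 5 5 5 5 95 77 77 16 73 75 71 16 22 4 4 4 5 5 5 5 5 23 23 22 5 5 5 5 5 6 6 6 6 6 73 72 73 16 10 4 4 4 5) (@D3.rec (fun _ => Nat) 5 5 5 5 0 23 23 23 9 9 5 5 5 5 5 6 6 6 6 6 73 71 69 64 71 10 10 5 5 5 5 5 6 6 6 6 6 1 2 2 23 23 23 23 23 9 9 9 9 9 6) (@D3.rec (fun _ => Nat) 6 6 6 6 7 7 7 7 7 7 7 69 67 72 72 61 9 9 9 9 6 6 6 6 6 7 7 7 7 7 7 7 2 2 3 3 4 70 3 23 23 23 23 23 9 9 9 9 9 9 9) (@D3.rec (fun _ => Nat) 9 9 7 7 7 7 7 7 7 8 8 8 8 8 0 8 8 0 23 23 23 11 11 5 5 5 5 5 6 6 6 6 6 1 2 68 23 23 23 23 23 10 10 10 10 10 6 6 6 6 6) (@D3.rec (fun _ => Nat) 7 7 7 7 7 7 7 1 2 71 23 23 23 23 23 11 11 11 67 11 6 6 6 6 6 7 7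 7 7 7 7 7 2 3 3 73 68 23 23 23 23 23 10 10 10 10 10 10 10 10 10) (@D3.rec (fun _ => Nat) 7 7 7 7 7 7 7 8 8 8 8 8 0 8 8 2 3 3 69 68 23 23 23 23 23 10 10 10 10 10 65 10 67 7 7 7 7 7 7 7 8 8 8 8 8 0 8 8 3 3 4) (@D3.rec (fun _ => Nat) 4 66 4 66 66 23 23 23 23 23 23 23 10 10 10 10 10 10 10 10 10 10 10 10 10 10 8 8 8 8 8 0 8 8 9 9 9 9 9 9 0 9 1 2 9 23 23 22 22 22 22) (@D3.rec (fun _ => Nat) 8 8 8 8 0 9 9 9 62 9 62 0 60 1 2 58 59 57 61 61 23 23 23 23 0 22 22 22 22 22 22 22 22 22 0 9 9 9 9 9 9 0 9 1 2 9 10 10 10 0 10) (@D3.rec (fun _ => Nat) 10 0 10 1 2 10 23 2 3 99 93 70 65 23 23 23 23 23 25 25 25 25 25 25 25 25 25 7 7 7 7 7 7 7 100 8 8 8 8 0 8 8 99 103 70 99 68 70 23 23 23) (@D3.rec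 (fun _ => Nat) 23 23 23 23 25 25 23 25 25 25 25 25 25 25 25 25 25 25 8 8 8 8 8 0 8 8 101 9 9 9 9 9 0 9 1 2 9 95 103 68 66 60 73 62 23 23 23 23 23 0 23) (@D3.rec (fun _ => Nat) 23 23 23 25 25 25 0 25 25 25 25 25 25 25 25 25 25 9 9 9 9 9 9 0 9 1 2 9 10 10 10 0 10 10 0 10 1 2 10 23 2 3 23 23 23 23 23 23 0 23 1) (@D3.rec (fun _ => Nat) 2 23 10 0 10 10 100 100 1 100 10 9 2 3 23 23 3 28 28 94 91 95 3 3 22 93 97 22 4 4 76 77 22 22 99 22 5 5 5 70 104 75 22 22 22 11 5 5 1 2 68) (@D3.rec (fun _ => Nat) 73 10 10 10 10 6 11 11 6 6 2 3 3 68 73 73 10 10 10 10 10 10 10 7 7 10 10 10 7 7 3 3 4 4 66 4 66 71 71 71 10 10 10 10 10 10 10 10 10 10 8) (@D3.rec (fun _ => Nat) 20 8 8 69 94 91 100 12 12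 67 92 93 11 11 11 69 67 102 99 12 12 67 12 65 68 100 101 11 11 100 11 11 11 69 67 67 99 99 11 11 11 11 65 68 65 8 71 66 64 100 104) (@D3.rec (fun _ => Nat) 11 11 11 11 11 11 11 11 11 11 11 61 59 63 63 106 108 102 69 22 22 22 22 22 22 22 22 22 0 107 1 109 109 1 69 5 5 5 5 6 6 6 6 6 22 22 22 22 22 93 95) (@D3.rec (fun _ => Nat) 99 25 25 25 25 25 25 93 99 97 25 25 25 25 25 78 25 25 25 25 25 25 25 25 25 89 91 92 23 23 23 23 23 78 23 23 27 27 76 78 23 23 27 27 27 22 22 22 6 7 25) (@D3.rec (fun _ => Nat) 25 22 25 22 71 5 5 5 72 85 95 25 1 90 25 24 2 94 94 25 3 96 100 25 24 2 93 88 25 24 3 3 96 77 92 25 24 4 4 98 96 71 94 24 24 22 4 4 4 94 98) (@D3.rec (fun _ => Nat) 5 5 100 99 24 24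 24 22 22 5 5 5 5 5 98 6 102 6 6 1 102 2 24 24 24 24 24 22 22 22 22 22 6 6 6 6 6 104 96 7 7 7 7 7 2 3 3 25 24 3 3) (@D3.rec (fun _ => Nat) 4 4 90 25 3 3 4 4 4 25 24 24 23 4 4 4 5 5 5 77 100 23 4 4 4 5 5 5 77 5 24 24 23 5 5 5 5 6 6 6 6 77 10 4 4 4 5 5 5 5 5) (@D3.rec (fun _ => Nat) 0 24 24 24 9 9 5 5 5 5 5 6 6 6 6 6 10 10 5 5 5 5 5 6 6 6 6 6 1 2 2 24 24 24 24 24 9 9 9 9 9 6 6 6 6 6 7 7 7 7 7) (@D3.rec (fun _ => Nat) 7 7 9 9 9 9 9 6 6 6 6 6 7 7 7 7 7 7 7 2 2 3 3 4 3 3 24 24 24 24 24 9 9 9 9 9 9 9 9 9 7 7 7 7 7 7 7 8 8 8 8) (@D3.rec (fun _ => Nat) 8 0 8 8 24 24 22 4 4 4 5 5 5 5 5 0 24 24 24 11 11 5 5 5 5 5 6 6 6 6 6 1 2 2 24 24 24 24 24 10 10 10 10 10 6 6 6 6 6 7 7) (@D3.rec (fun _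 => Nat) 7 7 7 7 7 0 24 24 24 21 21 5 5 5 5 5 6 6 6 6 6 1 2 2 24 24 24 24 24 11 11 11 11 11 6 6 6 6 6 7 7 7 7 7 7 7 2 2 3 3 4)
def lv_b_5 : D2 → D3 → Nat := @D2.rec (fun _ => D3 → Nat) (@D3.rec (fun _ => Nat) 70 3 24 24 24 24 24 10 10 10 10 10 10 10 10 10 7 7 7 7 7 7 7 8 8 8 8 8 0 8 8 1 2 2 24 24 24 24 21 21 21 21 21 6 6 6 6 6 7 7 7) (@D3.rec (fun _ => Nat) 60 7 7 7 2 2 3 3 4 70 3 24 24 24 24 24 10 10 10 10 10 10 10 69 10 7 7 7 7 7 7 7 8 8 8 8 8 0 8 8 3 3 4 3 4 4 5 4 5 68 5) (@D3.rec (fun _ => Nat) 70 24 24 24 24 24 24 24 10 10 10 10 10 10 10 10 10 10 10 10 10 10 10 8 8 8 8 8 0 8 8 9 9 9 9 9 9 0 9 1 2 9 113 108 7 7 108 64 64 62 0) (@D3.rec (fun _ => Nat) 24 24 23 23 23 23 8 8 8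 8 0 9 9 9 60 9 60 0 58 1 2 56 59 57 61 61 24 24 24 24 0 23 23 23 23 23 23 23 23 23 0 9 9 9 9 9 9 0 9 1 2) (@D3.rec (fun _ => Nat) 9 10 10 10 0 10 10 0 10 1 2 10 24 2 3 3 3 24 24 23 4 4 5 5 23 4 4 4 5 5 24 24 23 5 5 5 5 6 6 6 6 75 23 23 5 5 5 5 5 6 6) (@D3.rec (fun _ => Nat) 6 24 24 24 23 23 6 6 6 6 6 7 7 7 7 7 7 7 69 64 11 11 5 5 5 5 5 6 6 6 6 6 1 2 2 24 24 24 24 24 10 10 10 10 10 6 6 6 6 6 7) (@D3.rec (fun _ => Nat) 7 7 7 7 7 7 69 67 69 11 11 11 11 6 6 6 6 6 7 7 7 7 7 7 7 2 2 3 3 4 72 3 24 24 24 24 24 10 10 10 10 10 10 10 10 10 7 7 7 7 7) (@D3.rec (fun _ => Nat) 7 7 8 8 8 8 8 0 8 8 67 65 59 69 61 10 10 10 10 10 10 7 7 7 7 7 7 7 8 8 8 8 8 0 8 8 3 3 4 3 4 4 5 4 5 70 5 67 24 24 24)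 (@D3.rec (fun _ => Nat) 24 24 24 24 10 10 10 10 10 10 10 10 10 10 10 10 10 10 8 8 8 8 8 0 8 8 9 9 9 9 9 9 0 9 1 2 9 1 2 73 24 24 24 24 24 12 12 12 67 12 6) (@D3.rec (fun _ => Nat) 6 6 6 6 7 7 7 7 7 7 7 2 3 3 68 68 24 24 24 24 24 11 11 11 99 11 11 11 11 11 7 7 7 7 7 7 7 8 8 8 8 8 0 8 8 2 3 3 70 68 24) (@D3.rec (fun _ => Nat) 24 24 24 24 12 12 12 12 12 67 12 67 7 7 7 7 7 7 7 8 8 8 8 8 0 8 8 3 3 4 4 68 4 66 68 24 24 24 24 24 24 24 11 11 11 11 11 11 11 11 11) (@D3.rec (fun _ => Nat) 11 11 11 11 11 8 8 8 8 8 0 8 8 9 9 9 9 9 9 0 9 1 2 9 3 3 4 69 4 71 66 24 24 24 24 24 24 11 11 11 11 11 11 11 11 65 11 65 65 8 8) (@D3.rec (fun _ => Nat) 8 8 8 0 8 8 9 9 9 9 9 9 0 9 1 2 56 4 4 4 5 5 5 5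 66 65 63 66 66 24 24 24 24 24 0 24 24 11 11 11 11 11 11 11 11 11 11 0 11 11 11) (@D3.rec (fun _ => Nat) 11 11 11 11 11 11 11 9 9 9 9 9 9 0 9 1 2 9 10 10 10 0 10 10 0 10 1 2 10 24 2 3 24 23 23 23 23 23 9 9 9 9 0 1 10 10 62 0 10 60 0) (@D3.rec (fun _ => Nat) 60 1 2 58 24 2 3 59 59 57 55 61 24 24 24 24 0 1 23 23 23 23 23 23 0 23 23 23 23 23 0 1 10 10 10 0 10 10 0 10 1 2 10 9 2 3 11 11 102 11 11) (@D3.rec (fun _ => Nat) 1 11 1 11 24 2 3 24 3 4 99 95 70 24 24 24 24 24 26 26 26 26 26 26 26 26 26 26 8 8 8 8 0 8 8 100 9 9 9 9 0 9 1 2 9 101 99 70 99 68 24) (@D3.rec (fun _ => Nat) 24 24 24 0 24 24 26 26 24 26 26 26 0 26 26 26 26 26 26 26 26 26 26 9 9 9 9 9 0 9 1 2 9 103 10 10 0 10 10 0 10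 1 2 10 24 2 3 95 105 66 60) (@D3.rec (fun _ => Nat) 0 60 62 24 24 24 24 24 0 24 1 2 24 24 24 26 26 26 0 26 26 1 2 2 26 26 26 26 26 26 26 26 26 26 26 10 10 10 0 10 10 0 10 1 2 10 9 2 3 11 11) (@D3.rec (fun _ => Nat) 1 107 11 11 1 24 2 24 3 24 0 24 24 0 24 1 2 24 9 2 3 101 1 97 101 10 100 10 3 4 24 29 23 12 12 2 68 11 11 11 12 12 12 3 3 98 68 66 11 11 11) (@D3.rec (fun _ => Nat) 11 11 11 11 11 11 4 4 4 5 5 66 70 66 66 11 11 11 11 11 11 21 11 11 11 11 11 21 92 91 96 92 94 101 12 98 102 99 104 13 69 98 70 100 102 12 101 102 12 12 71) (@D3.rec (fun _ => Nat) 71 109 99 12 12 12 63 12 67 71 73 106 107 66 74 12 12 12 12 12 12 12 12 70 12 12 12 12 63 63 61 59 64 23 23 23 23 23 23 0 23 23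 23 101 1 69 74 6 6 6 6) (@D3.rec (fun _ => Nat) 6 104 110 7 7 7 23 23 23 23 23 26 26 26 26 26 26 95 26 26 78 26 26 26 78 26 26 26 26 26 28 26 26 91 24 24 78 24 24 24 24 28 28 23 23 23 23 7 30 23 23) (@D3.rec (fun _ => Nat) 86 25 23 5 5 94 100 6 99 25 25 23 23 23 6 6 6 100 7 7 102 7 2 102 3 3 25 25 25 23 23 23 23 23 23 7 7 7 7 7 104 94 8 8 0 8 8 3 3 4 4) (@D3.rec (fun _ => Nat) 92 26 25 24 4 4 24 4 4 4 5 5 5 79 94 25 24 5 5 5 6 6 24 5 5 5 5 6 6 6 6 79 25 25 24 24 6 6 6 6 7 7 7 7 76 11 11 5 5 5 5) (@D3.rec (fun _ => Nat) 5 6 6 6 6 6 1 2 2 25 25 25 25 10 10 10 10 10 6 6 6 6 6 7 7 7 7 7 98 7 11 11 11 11 11 6 6 6 6 6 7 7 7 7 7 7 7 2 2 3 3) (@D3.rec (fun _ => Nat) 4 3 3 25 25 25 25 25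 10 10 10 10 10 10 10 10 10 7 7 7 7 7 7 7 8 8 8 8 8 0 8 8 10 10 10 10 10 10 10 10 7 7 7 7 7 7 7 8 8 8 8) (@D3.rec (fun _ => Nat) 8 0 8 8 3 3 4 3 3 4 4 5 4 5 5 5 71 4 25 25 25 25 25 25 25 10 10 10 10 10 10 10 10 10 10 10 10 10 10 10 8 8 8 8 8 0 8 8 9 9 9)
def lv_b_6 : D2 → D3 → Nat := @D2.rec (fun _ => D3 → Nat) (@D3.rec (fun _ => Nat) 9 9 9 0 9 1 2 9 0 25 25 25 22 22 5 5 5 5 5 98 6 6 6 6 1 2 2 25 25 25 25 25 12 12 12 12 12 6 6 6 6 6 7 7 7 7 7 7 7 2 2) (@D3.rec (fun _ => Nat) 3 3 4 72 3 25 25 25 25 25 11 11 11 11 11 11 11 11 11 7 7 7 7 7 7 7 8 8 8 8 8 0 8 8 1 97 2 25 25 25 25 25 22 22 22 22 22 6 6 6 6) (@D3.rec (fun _ => Nat) 6 7 98 7 7 7 7 7 2 2 3 3 4 72 3 25 25 25 25 25 12 12 12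 12 12 12 12 71 12 7 7 7 7 7 7 7 8 8 8 8 8 0 8 8 3 3 4 3 4 4 5) (@D3.rec (fun _ => Nat) 4 5 70 5 72 25 25 25 25 25 25 25 11 11 11 11 11 11 11 11 11 11 11 11 11 11 11 8 8 8 8 8 0 8 8 9 9 9 9 9 9 0 9 1 2 9 2 2 99 4 3) (@D3.rec (fun _ => Nat) 3 25 25 25 22 22 22 22 22 22 22 22 7 7 7 7 7 7 100 8 8 60 8 0 58 8 3 3 4 3 4 5 4 5 73 5 70 25 25 25 25 25 25 11 11 11 11 11 11 11 11) (@D3.rec (fun _ => Nat) 11 11 11 11 69 71 11 8 8 8 8 8 0 8 8 9 9 9 9 9 9 0 9 1 2 56 4 4 5 4 5 5 5 5 5 5 6 6 6 6 70 6 68 70 66 25 25 25 25 25 0) (@D3.rec (fun _ => Nat) 25 25 11 11 11 11 11 11 11 11 11 11 0 11 11 11 11 11 11 11 11 11 11 11 11 9 9 9 9 9 9 0 9 1 2 9 10 10 10 0 10 10 0 10 1 2 10 25 2 3 62) (@D3.rec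 (fun _ => Nat) 62 109 1 25 24 24 24 24 24 9 9 9 9 0 1 10 10 62 0 10 60 103 60 1 2 58 25 2 3 61 61 59 57 63 25 25 25 25 0 1 24 24 24 24 24 24 0 24 24 24 24) (@D3.rec (fun _ => Nat) 24 0 1 10 10 10 0 10 10 0 10 1 2 10 9 2 3 11 11 0 11 11 1 2 2 11 11 1 2 11 25 2 3 25 3 4 24 5 5 24 24 5 5 25 24 6 6 6 6 7 7) (@D3.rec (fun _ => Nat) 7 24 24 24 6 6 6 7 7 25 24 24 7 7 7 7 7 7 7 8 8 8 8 8 0 8 71 12 12 12 12 6 6 6 6 6 7 7 2 2 3 97 4 72 3 25 25 25 25 25 11) (@D3.rec (fun _ => Nat) 11 11 11 11 11 11 11 7 7 7 7 7 7 7 8 8 8 8 0 8 8 71 69 12 12 12 12 12 12 7 7 7 7 7 7 7 8 8 8 8 8 3 3 4 3 4 4 5 103 5 68) (@D3.rec (fun _ => Nat) 5 69 25 25 25 25 25 25 25 11 11 11 11 11 11 11 11 11 11 11 11 11 11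 8 8 8 8 8 0 8 8 9 9 9 9 9 9 0 9 1 2 9 67 61 0 61 63 11 11 11 11) (@D3.rec (fun _ => Nat) 11 11 11 11 11 8 8 8 8 8 0 8 8 9 9 9 9 9 9 0 9 1 2 9 4 4 5 4 5 5 5 5 5 5 6 6 6 6 70 6 68 67 25 25 25 25 25 0 25 25 11) (@D3.rec (fun _ => Nat) 11 11 11 11 11 11 11 11 11 0 11 11 11 11 11 11 11 11 11 11 9 9 9 9 9 9 0 9 1 2 9 10 10 10 0 10 10 0 10 1 2 10 25 2 3 2 3 93 69 70 25) (@D3.rec (fun _ => Nat) 25 25 25 25 13 13 13 99 13 74 13 69 7 7 7 7 7 7 7 8 8 8 3 3 94 95 75 99 70 73 25 25 25 25 25 25 25 100 12 12 102 12 12 12 101 99 12 12 12 12 12) (@D3.rec (fun _ => Nat) 8 8 8 8 8 0 8 8 9 9 9 9 9 9 0 9 1 2 9 3 3 100 4 69 99 67 71 25 25 25 25 25 25 25 13 13 13 13 13 13 13 13 72 13 74 72 8 8 8 8 8)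 (@D3.rec (fun _ => Nat) 0 8 8 9 9 9 9 9 9 1 2 9 4 4 4 100 5 5 101 73 75 73 68 71 25 25 25 25 25 0 25 25 12 103 12 12 12 12 12 12 12 12 0 12 12 101 12 12 12 12 12) (@D3.rec (fun _ => Nat) 12 12 9 9 9 9 9 9 0 9 1 2 9 10 10 10 0 10 10 0 10 1 2 10 25 2 3 4 4 5 5 69 68 63 71 68 25 25 25 25 25 12 12 12 12 12 12 12 12 12 12) (@D3.rec (fun _ => Nat) 0 66 12 67 12 67 67 62 9 9 9 9 9 9 0 9 1 2 10 10 10 0 10 10 0 10 1 2 58 25 2 3 5 5 5 5 6 6 6 65 6 6 62 68 61 63 0 63 68 25 25) (@D3.rec (fun _ => Nat) 25 25 25 25 0 25 1 2 12 12 12 12 12 12 0 12 12 12 12 12 12 12 12 0 12 12 1 2 2 12 12 12 12 12 12 12 12 12 12 12 10 10 10 0 10 10 0 10 1 2 10) (@D3.rec (fun _ => Nat) 9 2 3 11 11 0 11 11 1 2 2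 11 11 1 2 11 25 2 3 25 3 4 25 24 24 24 24 24 24 10 10 0 10 0 1 69 11 64 0 11 62 1 2 2 64 60 1 2 60 25 2) (@D3.rec (fun _ => Nat) 3 25 3 4 110 61 59 59 57 63 25 25 0 25 0 1 9 24 24 24 24 24 24 24 24 0 24 1 2 24 24 0 24 0 1 53 11 11 0 11 11 1 99 100 103 11 1 98 11 10 2) (@D3.rec (fun _ => Nat) 3 54 3 4 25 25 25 3 4 25 4 56 101 95 25 25 97 25 25 27 0 27 27 27 27 27 27 27 27 27 27 9 9 9 9 0 9 1 2 9 102 103 0 10 10 0 10 1 2 10 25) (@D3.rec (fun _ => Nat) 2 3 103 97 99 101 25 25 25 25 101 25 1 2 25 0 27 27 27 27 0 27 27 1 2 2 27 27 27 27 27 27 27 27 27 27 27 10 10 0 10 10 0 10 1 2 10 9 2 3 103) (@D3.rec (fun _ => Nat) 0 11 1 2 2 11 11 1 2 11 25 2 3 25 3 4 95 95 95 105 0 62 1 2 62 25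 25 0 25 25 0 25 1 2 25 9 2 3 25 27 0 25 27 0 27 27 1 2 2 27 27) (@D3.rec (fun _ => Nat) 27 10 2 2 3 3 3 27 27 27 27 27 27 27 27 27 27 11 99 11 1 97 2 11 11 1 103 108 10 2 100 10 3 4 25 25 25 25 0 1 2 2 1 100 10 2 3 10 3 4 97) (@D3.rec (fun _ => Nat) 100 11 4 56 0 12 13 100 12 12 12 12 12 12 12 22 5 5 6 70 6 70 12 12 12 12 12 22 12 12 12 12 12 12 12 98 94 96 100 13 102 102 71 14 100 72 102 104 104 102 104)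
def lv_b_7 : D2 → D3 → Nat := @D2.rec (fun _ => D3 → Nat) (@D3.rec (fun _ => Nat) 13 13 108 105 71 71 107 13 13 67 13 71 67 68 108 106 110 68 13 13 13 13 13 70 13 110 70 104 13 13 63 61 61 59 24 24 24 24 24 24 24 105 24 1 2 67 68 7 7 7 111) (@D3.rec (fun _ => Nat) 104 8 8 24 24 24 24 27 27 27 27 27 27 27 77 27 27 27 27 29 27 27 29 27 25 25 25 29 26 24 24 6 96 100 103 102 26 24 24 24 24 7 7 7 100 8 102 3 3 57 104) (@D3.rec (fun _ => Nat) 4 4 26 26 26 24 24 24 24 24 24 24 24 8 8 0 8 8 96 106 96 96 0 9 1 2 9 25 4 4 27 25 5 5 5 6 6 26 25 25 6 6 25 25 6 6 6 6 7 7 7) (@D3.rec (fun _ => Nat) 7 79 26 25 25 25 7 7 7 7 8 8 12 12 12 12 12 6 6 6 6 6 7 7 7 7 7 7 7 2 2 3 3 4 3 3 26 26 26 11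 11 11 11 11 11 11 11 11 7 7 7) (@D3.rec (fun _ => Nat) 7 7 7 8 8 100 12 12 12 12 12 12 12 12 7 7 7 7 7 7 7 8 8 8 8 8 0 8 8 3 3 4 3 3 4 4 5 4 5 5 5 73 4 26 26 26 26 26 26 11 11) (@D3.rec (fun _ => Nat) 11 11 11 11 11 11 11 11 11 11 11 11 11 8 8 8 8 8 0 8 8 9 9 9 9 9 9 1 2 9 11 11 11 11 11 11 11 11 11 11 11 11 11 8 8 8 8 8 0 8 8) (@D3.rec (fun _ => Nat) 9 9 9 9 9 9 0 9 1 2 9 4 4 5 4 5 5 5 10 4 5 5 5 5 6 6 6 6 6 6 6 6 74 71 5 26 26 26 26 26 57 26 26 11 11 11 11 11 11 11 11) (@D3.rec (fun _ => Nat) 11 11 0 11 11 11 11 11 11 11 11 11 11 11 11 9 9 9 9 9 9 0 9 1 2 9 10 10 10 0 10 10 0 10 1 2 10 26 2 3 1 99 2 26 26 26 26 26 23 23 23) (@D3.rec (fun _ => Nat) 6 6 6 6 98 100 7 7 7 7 2 2 3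 3 4 74 3 26 26 26 26 26 13 13 13 13 13 13 13 71 13 7 7 7 7 7 7 7 8 8 8 8 8 0 8 8 3 3 4 3 4) (@D3.rec (fun _ => Nat) 4 5 4 5 72 5 72 26 26 26 26 26 26 26 12 12 12 12 12 12 12 98 96 12 12 12 12 12 12 8 8 8 8 8 0 8 8 9 9 9 9 1 2 9 2 99 99 3 3 26 26) (@D3.rec (fun _ => Nat) 26 26 26 23 23 23 23 23 23 7 7 7 7 7 7 100 8 100 8 8 0 8 8 3 3 4 3 4 4 5 4 5 75 5 72 26 26 26 26 26 26 26 13 13 13 13 13 13 13 13 13) (@D3.rec (fun _ => Nat) 13 13 13 71 71 13 8 8 8 8 8 0 8 8 9 9 9 9 9 9 0 9 1 2 9 4 4 5 4 5 5 5 5 5 5 6 6 6 6 72 6 72 72 70 26 26 26 26 26 0 26) (@D3.rec (fun _ => Nat) 26 12 12 12 12 12 12 12 12 12 12 0 12 12 100 12 12 12 12 12 12 12 12 12 9 9 9 9 9 9 0 9 1 2 9 10 10 10 0 10 10 10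 1 2 10 26 2 3 4 3 3) (@D3.rec (fun _ => Nat) 101 5 5 4 26 26 23 23 23 23 23 23 23 23 23 23 23 8 8 8 8 106 62 9 62 9 103 60 1 2 4 5 4 5 5 5 5 6 6 6 6 74 6 69 71 68 26 26 26 26 26) (@D3.rec (fun _ => Nat) 12 12 12 12 12 12 12 12 12 12 0 12 12 12 12 12 12 67 12 12 69 69 69 9 9 9 9 9 9 0 9 1 2 10 10 10 0 10 10 112 10 1 2 56 26 2 3 5 5 5 5) (@D3.rec (fun _ => Nat) 6 6 6 6 6 6 6 6 7 6 6 7 7 7 7 0 68 7 70 7 68 70 68 66 26 26 26 26 26 26 0 26 1 2 12 12 12 12 12 12 0 12 12 12 12 12 12 12 12 0 12) (@D3.rec (fun _ => Nat) 12 1 2 2 12 12 12 12 12 12 12 12 12 12 12 12 12 12 10 10 10 0 10 10 0 10 1 2 10 9 2 3 11 11 0 11 11 1 2 2 11 11 1 2 11 26 2 3 26 3 4) (@D3.rec (fun _ => Nat) 64 26 25 25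 25 25 25 25 10 10 0 10 109 1 11 62 106 11 60 1 58 58 2 3 26 3 70 65 61 59 59 57 63 26 26 0 26 96 1 9 25 25 25 25 25 25 25 25 0 25 1) (@D3.rec (fun _ => Nat) 2 25 25 0 25 0 1 55 11 11 0 11 11 1 2 2 11 11 1 2 11 10 2 3 54 3 4 112 12 12 1 12 26 2 2 3 12 26 2 3 26 3 4 26 4 56 25 7 7 7 25) (@D3.rec (fun _ => Nat) 25 25 7 7 26 25 8 8 8 8 8 8 9 9 9 9 0 9 1 9 13 13 13 13 13 7 7 3 4 3 5 97 71 5 69 26 26 26 26 26 26 12 12 12 12 12 12 12 12 12 12) (@D3.rec (fun _ => Nat) 8 8 8 8 0 8 8 9 9 9 1 2 13 13 13 13 13 13 13 13 13 8 8 8 99 8 8 9 9 4 4 5 5 5 5 6 6 6 103 69 6 71 69 26 26 26 26 26 26 26 12) (@D3.rec (fun _ => Nat) 12 12 12 12 12 12 12 12 0 12 12 12 12 12 12 12 12 12 9 9 9 9 9 9 0 9 1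 2 9 10 10 10 0 10 10 0 10 1 2 10 26 2 3 0 61 1 2 61 12 12 12) (@D3.rec (fun _ => Nat) 12 12 12 12 12 12 12 0 12 12 9 9 9 9 9 9 0 9 1 2 9 10 0 10 0 10 1 2 10 26 2 3 5 5 5 5 6 6 6 6 6 6 108 6 63 6 6 7 7 7 7) (@D3.rec (fun _ => Nat) 0 67 7 72 7 70 67 64 26 26 26 26 26 26 0 26 1 2 26 12 12 12 12 12 12 0 12 12 12 12 12 12 12 12 0 12 12 1 2 2 12 12 12 12 12 12 12 12 12 12 12) (@D3.rec (fun _ => Nat) 10 10 10 0 10 10 0 10 1 2 10 9 2 3 11 11 0 11 11 1 2 2 11 11 1 2 11 26 2 3 26 3 4 3 94 93 72 93 70 26 26 26 26 26 26 26 14 99 95 14 14) (@D3.rec (fun _ => Nat) 99 69 14 69 69 8 105 8 8 9 94 100 99 99 70 70 103 70 26 26 26 26 26 97 26 26 102 13 13 99 13 103 13 13 0 13 13 103 95 13 13 13 13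 9 9 9 9 9 9 0 9) (@D3.rec (fun _ => Nat) 1 2 9 10 10 10 10 0 10 1 2 10 26 2 3 4 100 104 5 99 70 72 70 99 68 26 26 26 26 26 0 26 26 14 14 14 14 14 14 103 14 14 0 69 14 67 14 67 67 69 9)
def lv_b_8 : D2 → D3 → Nat := @D2.rec (fun _ => D3 → Nat) (@D3.rec (fun _ => Nat) 9 9 9 9 103 9 1 2 9 10 10 10 10 26 2 3 5 5 100 100 72 6 101 68 101 68 68 0 70 68 26 26 26 26 26 26 101 26 1 2 26 103 103 13 13 13 0 13 13 13 13) (@D3.rec (fun _ => Nat) 13 13 13 13 0 13 13 1 2 2 13 13 13 101 13 13 13 13 13 13 10 10 10 0 10 10 0 10 1 2 10 9 2 3 11 11 0 11 11 1 2 2 11 11 1 2 11 26 2 3 26) (@D3.rec (fun _ => Nat) 3 4 5 5 104 70 71 61 68 66 68 26 26 26 26 13 13 13 13 13 13 64 13 13 13 13 13 13 13 0 66 13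 1 2 2 64 13 67 67 67 67 10 10 10 0 10 10 0 10 1 2) (@D3.rec (fun _ => Nat) 71 2 11 11 0 11 11 1 2 2 11 62 1 2 62 26 2 3 26 3 4 6 6 6 6 6 105 111 7 7 65 7 67 7 68 61 68 67 68 0 59 1 2 57 26 26 26 0 26 26 0) (@D3.rec (fun _ => Nat) 26 1 2 9 2 111 13 13 13 13 13 13 13 0 13 13 1 2 2 13 13 13 13 13 13 0 13 13 0 13 13 1 2 2 13 13 13 10 2 2 3 3 3 13 13 13 13 13 13 13 13) (@D3.rec (fun _ => Nat) 13 13 11 11 0 11 11 1 2 2 11 11 1 2 11 10 2 3 10 3 4 12 1 108 12 12 26 2 2 110 26 2 26 3 4 26 4 56 25 25 25 25 25 25 11 0 11 1 108 1 71) (@D3.rec (fun _ => Nat) 109 12 66 1 26 2 2 3 64 26 2 3 26 3 4 26 4 58 109 106 57 57 26 0 26 1 2 1 10 25 25 25 25 25 25 0 25 25 0 25 1 2 53 2 25 0 25 1 2 1 55)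 (@D3.rec (fun _ => Nat) 100 1 101 98 11 97 102 11 96 56 3 4 54 4 56 26 4 26 97 26 1 2 2 28 28 28 28 28 28 28 28 10 10 10 1 2 10 95 2 3 104 104 103 1 96 2 11 11 1 2 11) (@D3.rec (fun _ => Nat) 26 2 3 26 3 4 99 101 26 26 26 101 26 9 2 3 1 2 2 28 28 1 2 2 28 28 28 97 2 2 3 3 3 28 28 28 28 28 28 28 28 28 11 1 2 2 11 11 1 2 11) (@D3.rec (fun _ => Nat) 99 2 3 10 3 4 1 2 12 26 2 2 3 3 12 26 2 3 26 3 4 26 4 5 0 97 0 97 1 2 62 10 2 3 0 26 1 2 2 26 26 1 2 26 10 2 3 10 3 4 101) (@D3.rec (fun _ => Nat) 28 1 2 2 28 28 28 1 2 2 28 28 28 11 2 2 3 3 3 28 28 28 71 11 3 3 3 4 4 4 4 28 28 28 28 28 28 28 28 101 11 2 95 97 104 11 11 102 11 4 56) (@D3.rec (fun _ => Nat) 1 101 2 2 97 3 4 11 4 58 95 58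 1 13 14 100 13 13 13 13 13 6 6 72 7 72 13 13 13 13 13 23 13 13 13 98 94 105 104 104 71 100 102 103 100 104 14 103 107 73 109) (@D3.rec (fun _ => Nat) 14 14 68 67 75 101 108 105 106 14 110 14 72 72 102 72 104 14 63 61 61 25 25 25 25 25 25 105 2 69 8 8 113 108 104 25 25 0 25 28 28 28 28 28 80 28 28 30 28 28 25) (@D3.rec (fun _ => Nat) 25 103 104 25 25 25 25 25 8 10 4 4 55 55 5 5 27 25 25 25 25 25 25 25 25 0 9 1 2 9 0 96 0 96 1 2 10 27 2 3 26 6 6 26 26 26 7 7 7 7 8) (@D3.rec (fun _ => Nat) 8 8 78 27 26 26 26 8 8 13 13 13 13 13 13 13 13 7 7 7 7 7 7 7 8 8 8 106 3 3 4 3 3 100 4 5 5 73 4 27 27 12 12 12 12 12 12 12 12 12 12) (@D3.rec (fun _ => Nat) 12 12 12 8 99 8 13 13 13 13 13 13 13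 13 13 13 13 13 13 8 8 8 8 8 0 8 8 9 9 9 9 9 9 0 9 1 2 9 4 4 5 4 5 5 5 103 4 5 5 5 6) (@D3.rec (fun _ => Nat) 6 6 6 6 6 76 71 5 27 27 27 27 12 12 12 12 12 12 12 12 12 12 0 12 12 12 12 12 12 12 12 12 12 12 9 9 9 9 9 102 9 1 2 9 10 10 27 2 12 12 12) (@D3.rec (fun _ => Nat) 12 12 12 12 12 12 12 0 12 12 12 12 12 12 12 12 9 9 9 9 9 9 0 9 1 2 9 10 10 10 0 10 10 112 10 1 2 10 27 2 3 5 5 5 5 6 6 6 6 6 6) (@D3.rec (fun _ => Nat) 57 6 6 11 5 6 6 6 7 6 6 7 7 7 7 55 7 7 7 7 7 68 7 7 73 70 65 27 27 27 27 27 57 27 55 27 12 12 12 12 12 12 0 12 12 12 12 12 12 12 12) (@D3.rec (fun _ => Nat) 0 12 12 1 2 2 12 12 12 12 12 12 12 12 12 12 12 12 12 12 10 10 10 0 10 10 0 10 1 2 10 59 2 3 11 0 11 1 2 2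 11 11 1 2 11 27 2 3 27 3 4) (@D3.rec (fun _ => Nat) 2 99 98 3 27 27 27 24 24 24 24 7 7 7 7 98 98 100 0 8 8 3 3 4 3 99 4 5 4 5 77 5 72 27 27 27 27 27 27 27 14 14 14 14 14 14 14 14 14 14 14) (@D3.rec (fun _ => Nat) 14 71 73 14 8 8 8 8 8 0 8 8 9 9 9 9 9 9 1 2 9 4 4 5 4 5 5 100 5 104 5 6 6 6 96 96 6 72 72 70 27 27 27 27 27 0 27 27 105 13 13) (@D3.rec (fun _ => Nat) 13 13 98 106 98 13 13 0 13 13 98 98 98 13 13 13 13 13 13 9 9 9 104 9 1 2 9 10 27 2 3 3 3 99 97 99 4 27 27 27 27 27 24 24 24 24 24 24 24 24 8) (@D3.rec (fun _ => Nat) 8 8 0 8 8 100 9 9 98 100 0 9 1 2 9 4 4 5 4 5 5 5 5 5 5 6 6 6 6 77 6 77 75 70 27 27 27 27 27 0 27 27 14 14 14 14 14 14 14 14 14) (@D3.rec (fun _ => Nat) 14 0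 14 14 14 14 14 14 71 14 14 71 71 69 9 9 9 9 9 9 0 9 1 2 9 10 10 10 0 10 10 0 10 1 2 10 27 2 3 26 5 5 5 5 6 6 6 6 6 6 6) (@D3.rec (fun _ => Nat) 6 7 6 6 7 7 7 7 0 72 7 100 7 72 72 72 72 27 27 27 27 27 27 0 27 1 2 27 106 13 13 13 13 13 0 13 13 13 13 13 13 13 13 0 13 13 1 2 2 13 13) (@D3.rec (fun _ => Nat) 13 102 102 13 13 13 13 13 13 13 13 13 10 10 10 0 10 10 104 10 1 2 10 9 2 3 11 11 11 1 2 2 11 11 11 27 2 3 27 3 4 5 5 4 99 101 71 6 5 27 24)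
def lv_b_9 : D2 → D3 → Nat := @D2.rec (fun _ => D3 → Nat) (@D3.rec (fun _ => Nat) 24 24 24 24 24 24 24 24 24 24 24 24 9 9 106 62 60 60 105 2 5 5 6 6 6 6 6 6 7 7 7 7 69 7 74 7 69 72 69 74 27 27 27 27 13 13 13 13 13 13 13) (@D3.rec (fun _ => Nat) 13 13 13 13 13 13 13 0 13 13 1 64 2 69 13 13 13 13 13 13 13 69 69 13 71 71 70 10 10 10 0 10 10 107 10 1 2 2 11 11 103 11 11 1 109 2 11 58 113 58 2) (@D3.rec (fun _ => Nat) 3 27 3 72 6 6 6 7 6 6 7 7 7 7 32 7 7 7 7 7 7 8 7 33 8 7 8 8 8 8 8 0 70 8 1 32 2 61 8 70 72 65 70 72 65 27 27 27 0 27 27) (@D3.rec (fun _ => Nat) 96 27 1 2 9 2 13 13 13 13 13 13 13 13 0 13 13 1 27 2 13 13 13 13 13 13 0 13 13 0 13 13 1 2 2 13 13 13 28 2 2 3 3 3 13 13 13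 13 13 13 13) (@D3.rec (fun _ => Nat) 13 13 13 13 13 13 13 13 11 11 0 11 11 1 2 2 11 11 1 2 11 10 2 3 10 3 4 0 12 12 1 2 2 12 12 27 2 2 3 3 3 12 27 2 3 27 3 4 27 4 54) (@D3.rec (fun _ => Nat) 26 26 26 26 26 26 11 109 11 1 110 3 72 108 63 65 111 61 61 27 98 27 1 2 10 26 26 26 26 26 26 26 0 26 26 0 26 1 2 53 2 26 0 1 2 1 55 0 12 12 1) (@D3.rec (fun _ => Nat) 101 102 111 12 11 2 2 99 101 3 12 98 2 3 54 3 4 52 4 61 27 27 3 4 13 27 3 4 27 4 56 26 26 26 9 9 9 9 9 9 1 14 14 14 14 5 5 6 6 99 70) (@D3.rec (fun _ => Nat) 72 27 27 27 27 27 13 13 13 13 13 0 13 13 13 13 13 13 9 9 99 9 1 2 27 2 14 14 14 14 14 14 14 14 104 14 14 9 99 9 5 6 6 6 6 7 7 7 70 7 103) (@D3.rec (fun _ => Nat) 68 70 72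 27 27 27 27 27 27 27 27 13 13 13 13 13 13 13 13 13 13 13 0 13 13 1 2 2 13 13 13 13 13 13 13 13 13 10 10 10 0 10 10 0 10 1 2 10 2 3 11) (@D3.rec (fun _ => Nat) 11 1 2 11 1 2 27 2 3 27 3 4 1 2 63 27 2 3 13 13 13 13 13 13 13 13 13 13 13 13 13 0 13 1 2 13 10 0 10 0 10 1 2 10 62 2 3 1 2 11 1) (@D3.rec (fun _ => Nat) 2 11 27 2 3 27 3 4 6 6 6 6 7 7 7 7 7 7 7 108 63 7 63 65 110 8 8 8 8 8 0 62 8 1 63 2 67 8 70 69 61 64 27 27 27 0 27 27 0 27 1) (@D3.rec (fun _ => Nat) 2 27 9 2 3 13 13 13 13 13 13 13 0 13 13 1 2 2 13 13 13 13 13 13 0 13 13 0 13 13 1 2 2 13 13 13 26 2 2 3 3 3 13 13 13 13 13 13 13 13 13) (@D3.rec (fun _ => Nat) 13 11 11 0 11 11 1 2 2 11 11 1 2 11 10 2 3 10 3 4 12 1 101 2 12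 12 27 2 2 101 3 3 12 27 2 3 27 3 4 27 4 56 100 95 71 73 95 27 0 27 27) (@D3.rec (fun _ => Nat) 15 15 96 97 103 76 15 101 71 74 101 9 97 96 99 103 99 103 99 75 105 27 27 27 27 27 27 99 27 0 14 103 103 14 14 103 0 14 1 2 2 14 14 14 106 14 14 14 10 10 97) (@D3.rec (fun _ => Nat) 10 10 10 1 2 10 97 2 3 103 11 11 1 2 27 2 3 27 3 5 102 102 76 104 101 62 101 69 71 77 73 101 27 27 27 27 27 0 27 1 2 27 15 15 15 0 71 15 103 103 15) (@D3.rec (fun _ => Nat) 15 100 103 105 74 15 1 2 2 74 15 69 63 72 10 106 10 10 105 10 9 2 3 11 11 27 3 4 6 105 102 98 102 0 72 103 103 64 62 100 103 103 73 1 2 70 27 27 27 103 27) (@D3.rec (fun _ => Nat) 27 27 103 27 9 2 3 105 14 14 0 14 1 2 2 14 14 14 14 14 14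 0 14 14 0 14 1 2 2 14 14 14 10 2 2 3 3 3 14 14 14 14 14 14 14 14 11 11 0 11 11) (@D3.rec (fun _ => Nat) 1 2 2 11 11 1 2 11 101 2 3 10 3 4 12 1 2 2 12 12 27 2 2 3 3 3 12 27 2 3 27 3 4 27 4 5 108 62 63 60 63 70 61 59 27 27 14 99 14 14 14) (@D3.rec (fun _ => Nat) 14 14 62 14 60 14 99 14 14 0 14 14 0 62 14 1 2 2 62 60 14 2 2 3 3 58 63 69 61 11 11 0 11 11 1 2 2 11 1 2 71 2 71 12 1 2 12 62 27 2 2) (@D3.rec (fun _ => Nat) 3 3 62 27 2 3 27 3 4 27 4 56 7 7 7 7 106 107 108 63 8 63 8 61 59 70 63 62 0 63 61 0 61 1 2 59 10 2 3 27 27 0 27 27 1 2 2 27 1 2 10) (@D3.rec (fun _ => Nat) 2 10 101 109 14 14 14 14 14 0 14 14 0 113 14 1 2 2 14 14 14 28 2 2 27 3 3 14 14 14 14 14 0 14 14 1 2 2 14 14 14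 1 2 2 14 14 14 11 2 2 3) (@D3.rec (fun _ => Nat) 3 3 14 14 14 61 11 3 3 3 4 4 4 4 14 14 14 101 14 14 14 14 102 12 1 101 2 12 12 11 2 2 3 101 102 109 11 2 98 11 3 4 52 4 54 27 27 27 4 26 26) (@D3.rec (fun _ => Nat) 26 26 26 26 111 12 1 108 71 3 27 3 27 4 107 103 61 100 1 101 11 2 99 11 26 26 0 26 26 26 26 0 26 26 1 2 2 26 1 2 53 2 51 100 1 100 55 2 99 55 97) (@D3.rec (fun _ => Nat) 98 96 54 4 56 27 99 2 2 107 3 29 29 29 11 11 11 2 3 97 3 4 99 101 101 2 99 3 12 2 3 27 3 4 27 4 5 105 27 27 27 103 10 3 4 2 2 99 97 99 29) (@D3.rec (fun _ => Nat) 2 2 3 3 29 29 29 97 97 3 3 3 99 4 4 4 29 29 29 29 29 29 12 2 2 3 3 3 12 2 3 101 3 4 11 4 5 2 3 27 27 3 3 4 4 27 3 4 27 4 5) (@D3.rec (fun _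 => Nat) 27 25 5 6 1 2 110 1 2 103 11 2 3 11 3 4 1 2 11 2 2 3 3 3 11 2 100 11 3 4 11 4 58 101 29 12 2 2 97 3 3 3 29 29 29 12 2 2 3 3 103) (@D3.rec (fun _ => Nat) 29 29 63 12 3 3 3 4 4 4 102 29 29 29 69 72 12 4 4 4 4 5 5 5 5 55 29 29 29 29 29 95 97 56 97 4 60 97 58 14 14 14 7 72 14 14 14 104 103 106 104)
def lv_b_10 : D2 → D3 → Nat := @D2.rec (fun _ => D3 → Nat) (@D3.rec (fun _ => Nat) 107 109 107 68 112 112 0 108 65 109 72 72 102 108 63 61 26 26 112 114 106 26 1 2 26 29 29 29 26 26 26 104 100 102 26 26 26 26 26 26 11 5 5 57 57 55 6 28 26 26 26) (@D3.rec (fun _ => Nat) 26 26 26 26 26 26 26 1 2 10 2 3 1 2 102 1 2 109 28 2 3 28 3 4 27 27 27 8 8 8 99 27 27 14 14 14 14 14 14 14 14 14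 14 14 14 14 8 8 105 8 4) (@D3.rec (fun _ => Nat) 5 5 4 6 6 76 73 5 13 13 13 13 13 13 97 13 13 13 13 13 13 13 13 96 14 14 14 14 14 14 14 14 14 14 0 14 14 14 14 14 14 14 14 9 9 9 9 9 9 0 9) (@D3.rec (fun _ => Nat) 1 2 9 10 10 1 2 28 2 3 5 5 5 6 6 6 6 6 6 100 5 102 6 6 7 7 7 7 7 76 7 7 76 74 71 28 28 28 13 13 13 13 13 13 13 13 13 13 13 13 13) (@D3.rec (fun _ => Nat) 99 13 13 1 78 2 13 13 13 13 13 13 13 13 13 13 13 13 10 104 10 104 2 28 13 13 13 13 13 13 64 13 13 13 13 13 13 13 13 0 13 13 1 64 2 13 13 13 13 13 13) (@D3.rec (fun _ => Nat) 13 13 10 10 10 0 10 10 111 10 1 2 10 70 2 3 11 108 11 1 2 2 11 11 109 11 2 3 28 3 4 6 6 6 7 6 6 7 7 7 7 34 7 7 7 7 7 57 7 7 12) (@D3.rec (fun _ =>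 Nat) 100 7 7 7 8 7 31 33 8 7 8 8 8 8 8 57 8 8 55 70 8 8 8 8 8 70 70 8 75 73 75 28 28 59 28 57 28 56 13 13 13 13 13 13 13 13 0 13 13 1 27) (@D3.rec (fun _ => Nat) 2 13 13 13 13 13 13 0 13 13 0 13 13 1 2 2 13 13 13 26 2 2 29 3 3 13 13 13 13 13 13 13 13 13 13 13 13 13 13 13 11 0 11 1 2 2 11 11 1 2 11) (@D3.rec (fun _ => Nat) 59 2 3 57 3 4 1 2 12 28 2 2 3 3 12 28 2 3 28 3 4 28 4 56 3 99 101 100 28 28 28 25 25 25 25 99 8 8 98 100 100 1 2 9 4 5 4 5 5 102 100) (@D3.rec (fun _ => Nat) 101 5 6 6 6 6 6 96 75 72 28 28 28 28 97 28 28 98 106 15 15 100 100 15 15 15 0 15 15 15 100 15 73 15 15 73 71 9 9 9 9 9 9 1 2 9 10 10 28 2 3) (@D3.rec (fun _ => Nat) 5 5 6 6 6 6 98 101 7 6 102 105 98 7 7 0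 74 7 98 96 96 74 74 28 28 28 0 28 1 2 28 100 106 14 14 14 0 14 14 102 104 102 100 100 104 98 14 1 2 2 14) (@D3.rec (fun _ => Nat) 14 14 98 98 14 14 14 14 14 14 102 10 97 2 3 28 3 4 99 101 99 5 28 28 28 28 25 25 25 25 25 25 25 9 9 99 9 1 2 9 100 102 101 64 10 100 100 1 2 10 28) (@D3.rec (fun _ => Nat) 2 3 5 5 5 5 6 6 6 6 6 102 103 6 76 6 6 7 7 7 7 0 77 7 7 77 75 75 75 28 28 28 28 28 97 28 1 2 28 105 15 15 100 15 15 0 15 15 15 15 15) (@D3.rec (fun _ => Nat) 15 15 15 0 15 15 1 2 2 73 15 15 15 15 15 15 73 73 15 73 73 10 10 10 0 10 10 10 1 2 10 99 2 3 11 11 11 1 2 2 11 11 1 2 11 28 2 3 28 3 4) (@D3.rec (fun _ => Nat) 27 6 6 6 7 6 6 7 7 7 7 0 7 7 105 102 7 7 8 7 0 72 8 100 8 8 8 8 8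 0 74 8 1 2 2 74 8 100 100 65 74 74 74 28 28 28 0 28 28 0 28) (@D3.rec (fun _ => Nat) 1 2 28 9 2 3 105 105 105 14 14 14 14 14 0 14 14 1 78 2 14 14 14 102 14 14 0 14 14 104 102 14 1 2 2 14 14 14 10 2 2 77 3 3 14 14 14 102 102 102 14) (@D3.rec (fun _ => Nat) 14 14 14 14 14 14 14 14 11 105 11 11 1 2 2 11 11 104 11 10 2 3 10 3 4 12 12 28 2 2 3 3 12 28 3 28 4 6 5 71 101 71 68 25 25 25 25 25 25 25 25) (@D3.rec (fun _ => Nat) 25 25 25 62 6 7 7 7 7 62 7 7 106 8 8 8 8 8 71 8 58 8 71 74 62 71 66 67 28 28 14 14 14 14 14 14 14 14 14 14 14 14 14 14 14 0 14 14 111 14 14) (@D3.rec (fun _ => Nat) 1 64 2 14 14 14 2 64 3 69 60 14 14 14 14 64 14 14 69 69 72 14 71 71 11 11 103 11 11 1 105 2 11 107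 2 12 102 12 62 2 3 72 7 7 7 7 8 7 8 7 8) (@D3.rec (fun _ => Nat) 8 8 8 8 34 8 34 8 104 106 109 8 9 8 9 8 35 9 35 9 9 9 9 0 9 9 94 70 9 1 32 2 63 61 9 2 32 3 59 65 70 72 63 70 72 28 28 96 28 28 1) (@D3.rec (fun _ => Nat) 2 2 28 96 10 2 10 103 14 14 14 14 14 14 0 14 14 0 14 14 1 27 2 14 14 14 2 25 27 3 14 14 14 14 14 0 14 14 1 2 2 14 14 14 1 2 2 14 14 14 28) (@D3.rec (fun _ => Nat) 2 2 3 3 3 14 14 14 28 3 3 3 4 4 4 4 14 14 14 14 14 14 14 14 14 14 14 14 14 14 0 14 0 12 12 1 2 2 12 12 11 2 2 3 3 3 12 96 2 3 11) (@D3.rec (fun _ => Nat) 3 4 52 4 61 1 106 13 13 28 2 2 28 28 3 3 3 4 4 13 28 3 4 28 4 56 27 27 27 27 27 27 100 102 63 63 98 28 98 11 2 101 27 27 27 0 27 27 27 0 27) (@D3.rec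 (fun _ => Nat) 1 2 2 27 1 2 55 2 53 102 1 102 2 99 1 101 100 98 99 102 56 3 97 99 101 4 13 56 3 4 54 4 63 28 4 28 4 27 15 15 15 6 6 73 7 71 28 28 14 14 14) (@D3.rec (fun _ => Nat) 101 14 1 2 2 14 14 14 14 14 14 102 107 2 28 15 15 15 101 15 15 15 15 104 15 101 7 7 7 7 8 8 71 8 71 8 71 69 28 28 28 28 28 28 14 14 14 14 14 14 14) (@D3.rec (fun _ => Nat) 14 14 0 14 14 0 14 1 2 2 14 14 14 2 2 72 3 3 14 14 14 14 14 14 14 14 11 102 11 1 100 2 11 1 2 2 3 3 80 28 2 28 2 28 3 28 4 83 28 2 3) (@D3.rec (fun _ => Nat) 28 3 4 14 14 14 14 14 14 14 14 14 14 0 14 14 0 14 1 2 14 67 2 3 1 2 11 1 2 11 62 2 3 69 3 4 28 2 3 28 2 3 28 3 4 28 4 58 7 7 8)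
def lv_b_11 : D2 → D3 → Nat := @D2.rec (fun _ => D3 → Nat) (@D3.rec (fun _ => Nat) 8 8 8 8 8 8 63 8 110 103 65 65 63 58 107 9 9 0 9 9 0 62 9 1 65 2 62 60 9 2 63 3 58 71 69 69 28 28 0 28 28 1 2 2 28 28 1 2 28 10 2) (@D3.rec (fun _ => Nat) 3 10 3 4 14 14 14 14 14 0 14 14 0 14 1 2 2 14 14 14 2 2 3 3 14 14 14 14 14 0 14 14 1 2 2 14 14 14 1 2 2 14 14 14 26 2 2 3 3 3 14) (@D3.rec (fun _ => Nat) 14 14 26 26 3 3 3 4 4 4 4 14 14 14 14 14 14 14 110 12 1 103 2 12 12 11 2 2 3 3 3 12 11 2 3 11 3 4 11 4 60 13 2 101 3 13 28 3 3 103 4) (@D3.rec (fun _ => Nat) 4 28 3 28 4 98 102 98 95 77 72 1 2 28 100 16 97 105 103 71 16 108 101 96 99 108 104 101 101 72 28 28 28 99 1 2 15 103 103 99 15 1 2 15 97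 2 2 105 3 3 105) (@D3.rec (fun _ => Nat) 15 15 102 106 97 11 11 2 3 97 3 4 12 2 28 3 28 102 99 102 79 101 72 70 102 101 79 70 79 74 28 0 28 1 2 28 9 2 3 16 16 110 16 1 2 73 16 100 105 106 16) (@D3.rec (fun _ => Nat) 16 103 107 105 69 69 16 82 2 2 3 3 71 69 105 106 11 11 107 10 3 4 12 28 4 82 103 102 101 100 1 2 72 103 104 103 103 63 70 98 103 70 10 2 3 28 28 28 103 28 28) (@D3.rec (fun _ => Nat) 28 103 10 3 4 0 15 15 1 2 15 2 2 105 3 3 15 15 15 15 0 15 15 1 2 2 15 15 15 1 2 15 101 2 2 3 3 3 15 15 15 101 11 3 3 3 99 4 4 4 15) (@D3.rec (fun _ => Nat) 15 15 104 15 15 105 12 1 2 12 12 103 2 2 3 3 3 12 2 3 101 3 4 11 4 5 13 28 2 2 3 3 28 28 3 3 3 4 4 28 3 28 4 5 28 82 5 84 103 63 70)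 (@D3.rec (fun _ => Nat) 63 61 61 59 28 15 15 105 15 15 15 15 66 15 62 60 15 66 101 99 0 15 15 1 2 2 62 15 15 1 2 2 62 60 15 2 2 3 3 3 60 58 3 3 4 69 69 106 12 1 105) (@D3.rec (fun _ => Nat) 2 12 66 2 2 3 3 73 2 73 2 28 3 3 28 3 28 4 8 8 102 103 105 104 63 61 61 59 63 70 0 63 61 1 2 2 61 59 1 2 59 11 2 3 11 3 98 28 1 101 2) (@D3.rec (fun _ => Nat) 28 11 2 2 3 3 11 2 11 109 0 15 15 15 15 0 15 15 1 2 2 15 15 15 1 2 2 107 15 30 2 2 3 3 3 15 15 15 30 3 3 27 27 4 15 15 15 102 15 15 1) (@D3.rec (fun _ => Nat) 2 2 15 15 15 12 2 2 3 3 3 3 15 15 15 12 2 2 3 3 3 106 15 15 61 12 3 3 3 4 4 4 4 15 15 15 65 12 4 4 4 4 5 5 5 5 54 15 15 106 107) (@D3.rec (fun _ => Nat) 15 102 2 99 103 102 12 3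 95 101 104 12 96 54 4 56 27 27 27 27 28 109 110 97 0 27 27 1 2 2 27 27 100 27 1 102 2 27 55 2 2 3 3 55 2 53 97 97 100 96 58) (@D3.rec (fun _ => Nat) 103 3 102 12 3 97 4 5 103 3 101 4 13 3 4 28 4 5 28 26 5 99 28 103 11 4 84 3 3 101 4 30 30 81 99 101 4 4 4 104 101 5 83 3 3 3 95 4 4 3 101) (@D3.rec (fun _ => Nat) 4 5 83 26 5 92 3 4 28 28 4 4 5 28 4 5 28 26 5 6 85 28 26 6 86 12 2 3 12 2 3 12 3 4 12 4 58 2 101 3 3 3 95 4 105 102 4 58 103 99 3) (@D3.rec (fun _ => Nat) 3 3 97 95 97 4 4 4 104 30 30 30 63 3 3 4 105 30 63 61 13 4 4 4 110 5 5 5 57 30 30 107 61 72 5 5 5 5 6 6 6 55 30 95 97 58 97 60 111 110 108) (@D3.rec (fun _ => Nat) 1 2 108 111 65 74 63 27 110 108 111 27 2 3 27 27 27 99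 84 85 27 27 27 27 27 27 27 12 6 102 55 55 85 27 27 27 27 27 27 27 27 27 75 2 3 3 29 2 3 29 2) (@D3.rec (fun _ => Nat) 3 29 3 4 29 4 56 15 15 15 15 15 103 15 15 15 98 15 15 15 103 6 6 5 7 98 76 71 14 14 14 14 14 14 98 14 14 14 14 14 14 14 14 14 15 15 15 15 0 15 15) (@D3.rec (fun _ => Nat) 15 15 15 15 15 15 0 15 15 1 2 2 15 15 98 15 15 15 15 15 10 103 10 1 2 82 2 3 29 2 29 3 6 6 7 7 7 7 7 7 7 102 8 8 8 78 8 8 78 76 8) (@D3.rec (fun _ => Nat) 98 76 76 14 14 14 14 14 14 14 14 14 14 14 14 101 14 14 14 102 14 14 14 2 75 77 3 14 14 14 14 14 14 14 14 14 14 14 14 104 14 14 14 14 14 14 14 14 64 14 14) (@D3.rec (fun _ => Nat) 62 14 14 14 14 14 0 14 14 111 14 14 1 64 2 14 14 14 2 62 3 14 14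 14 14 14 14 14 11 110 11 1 2 2 11 11 109 11 2 3 62 3 4 115 12 2 2 3 3 12 107) (@D3.rec (fun _ => Nat) 3 4 29 4 67 7 7 7 8 7 8 7 8 8 8 8 8 34 8 8 34 8 8 8 8 8 57 8 106 8 9 8 9 8 33 33 9 33 33 9 9 9 9 57 9 9 9 55 9 9 9) (@D3.rec (fun _ => Nat) 53 70 59 9 63 9 9 70 70 71 9 73 67 29 57 29 56 54 14 14 14 14 14 14 0 14 14 0 14 14 1 29 2 14 14 14 2 29 3 14 14 14 14 14 0 14 14 1 2 2 14) (@D3.rec (fun _ => Nat) 14 14 1 2 14 14 14 28 2 2 3 3 3 14 14 14 28 3 3 29 29 4 4 14 14 14 14 14 14 14 14 14 14 14 14 14 14 0 14 1 2 12 61 2 2 3 3 3 12 100 2) (@D3.rec (fun _ => Nat) 3 59 3 4 59 4 5 29 2 3 29 29 3 3 4 4 29 3 4 29 4 56 99 100 29 26 26 26 99 9 98 100 2 3 5 6 6 6 6 6 103 106 98 107 100 100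 7 7 7 101 104) (@D3.rec (fun _ => Nat) 7 104 98 77 29 29 29 29 99 29 100 103 0 16 16 103 100 106 104 98 16 1 2 73 16 16 98 104 73 16 73 10 10 2 3 29 3 7 6 7 7 0 7 104 101 98 0 74 8 104 102) (@D3.rec (fun _ => Nat) 104 105 98 102 98 8 1 103 2 74 8 98 98 98 74 1 2 29 2 3 103 102 101 102 102 99 102 15 1 78 2 100 15 15 108 104 103 104 104 102 15 99 2 2 77 3 3 15 15 15 100)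
def lv_b_12 : D2 → D3 → Nat := @D2.rec (fun _ => D3 → Nat) (@D3.rec (fun _ => Nat) 98 15 15 15 105 99 3 4 29 5 99 83 29 29 26 26 26 26 26 26 26 10 99 10 2 82 100 103 62 11 100 100 2 3 29 3 84 6 6 6 7 7 7 7 7 7 100 102 98 76 7) (@D3.rec (fun _ => Nat) 76 73 76 103 8 8 8 8 8 99 79 8 1 2 77 8 104 77 77 81 29 29 99 29 99 29 2 85 108 100 16 16 98 105 0 16 16 1 79 2 73 16 16 103 16 16 0 16 16 16 1) (@D3.rec (fun _ => Nat) 2 16 16 16 78 2 2 103 3 3 73 73 16 104 66 16 16 73 73 16 73 11 11 11 1 111 2 11 11 11 2 3 82 3 4 12 12 29 2 2 3 3 12 2 29 3 29 4 7 7 8) (@D3.rec (fun _ => Nat) 7 8 8 8 8 8 8 0 8 1 2 8 109 102 104 9 8 102 8 0 74 9 1 83 2 74 9 101 9 9 0 9 9 104 102 9 1 108 2 67 74 9 10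 2 2 3 3 74 102 102 102) (@D3.rec (fun _ => Nat) 65 74 74 29 0 29 29 1 2 29 29 1 2 29 10 2 3 10 3 4 105 102 106 105 15 15 0 15 15 109 100 15 1 78 2 15 15 15 2 78 3 15 15 15 102 102 107 15 15 1 2) (@D3.rec (fun _ => Nat) 2 15 15 15 106 106 104 104 15 11 2 2 3 3 3 15 15 15 11 3 3 77 77 4 4 15 15 15 15 104 104 15 15 15 15 15 15 15 0 104 107 12 12 103 2 2 3 3 3 12 106) (@D3.rec (fun _ => Nat) 11 3 4 11 4 89 13 29 29 3 3 4 13 29 73 68 26 26 26 26 26 26 26 26 8 8 8 8 8 62 8 60 8 105 9 9 9 9 71 9 62 60 9 58 71 74 62 66 70 29 15) (@D3.rec (fun _ => Nat) 15 15 15 15 15 15 15 15 15 15 15 15 15 15 15 106 15 15 1 2 2 15 15 15 113 15 15 15 2 64 62 3 64 15 15 3 59 71 62 60 15 15 15 15 66 64 15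 15 71 71 71) (@D3.rec (fun _ => Nat) 67 73 105 12 104 12 2 104 105 8 9 8 9 8 9 9 9 9 9 34 9 9 96 9 34 9 34 106 106 111 106 10 9 10 10 42 10 35 35 10 35 10 10 96 10 10 1 2 2 65 10) (@D3.rec (fun _ => Nat) 10 96 96 65 63 10 2 34 34 3 63 61 3 34 74 102 65 72 65 66 60 98 29 29 98 98 29 11 2 2 3 3 11 110 15 15 0 15 15 15 15 0 15 15 1 2 2 15 15 15 1) (@D3.rec (fun _ => Nat) 29 2 15 15 15 2 29 29 3 15 15 15 3 27 27 29 15 15 15 15 0 15 15 1 2 2 15 15 15 32 2 2 3 3 3 3 15 15 15 96 2 2 3 3 3 15 15 15 30 3 3) (@D3.rec (fun _ => Nat) 3 4 4 4 4 15 15 15 15 30 4 4 4 4 5 5 5 5 59 15 15 15 0 15 15 15 15 15 15 15 0 15 15 59 1 1 101 2 13 13 98 2 2 3 105 106 105 12 12 3 3) (@D3.rec (fun _ => Nat)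 3 97 4 103 4 13 98 3 4 52 4 61 29 29 29 4 4 29 4 28 28 28 28 104 102 100 100 101 101 28 0 28 1 2 2 28 28 1 2 102 2 2 3 3 2 53 99 99 100 54 4) (@D3.rec (fun _ => Nat) 99 101 103 5 111 54 4 63 63 16 16 7 74 8 15 15 104 15 2 2 73 3 3 15 15 16 16 16 104 16 16 16 16 101 99 8 8 8 8 9 9 63 72 9 75 61 29 29 15 15 15) (@D3.rec (fun _ => Nat) 15 80 15 15 15 105 15 15 1 2 2 15 15 15 1 2 15 2 2 3 3 3 15 15 15 3 3 74 74 4 77 15 15 15 15 15 106 2 100 100 2 3 81 29 29 29 29 3 4 29 4) (@D3.rec (fun _ => Nat) 67 15 15 15 15 15 15 15 15 15 15 1 2 2 15 15 1 2 15 62 2 3 71 3 4 64 2 3 64 2 3 62 3 4 60 4 60 29 3 4 29 3 29 4 8 9 9 9 9 9 9) (@D3.rec (fun _ => Nat) 65 65 63 65 114 63 60 61 107 107 0 10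 10 1 2 2 64 10 10 1 65 2 64 62 10 2 65 63 3 62 60 3 61 4 61 0 29 1 109 2 29 29 11 2 2 3 3 3 29 11 2) (@D3.rec (fun _ => Nat) 3 11 3 4 11 4 5 0 15 15 15 15 0 15 15 1 2 2 15 15 15 1 2 15 2 2 3 3 3 15 15 15 3 3 4 4 15 15 15 113 15 15 1 2 2 15 15 15 28 2 2) (@D3.rec (fun _ => Nat) 3 3 3 3 15 15 15 28 2 2 3 3 3 15 15 28 28 3 3 3 4 4 4 4 15 15 15 28 28 4 4 4 4 5 5 5 5 58 15 15 15 111 13 2 103 101 3 13 12 3 3) (@D3.rec (fun _ => Nat) 3 4 4 4 4 12 3 4 12 4 60 3 99 29 4 4 29 107 97 79 76 2 3 105 17 99 103 105 71 110 103 98 106 108 103 29 107 2 3 99 101 16 2 3 101 3 3 99 4 4 103) (@D3.rec (fun _ => Nat) 16 99 12 3 4 99 4 5 29 105 104 102 78 99 103 80 65 62 99 79 70 79 1 2 29 2 3 10 3 4 106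 17 17 110 17 2 3 71 113 105 103 108 64 17 17 107 105 107 105 63 69) (@D3.rec (fun _ => Nat) 84 3 3 4 4 105 105 107 12 107 93 4 92 101 114 104 103 108 2 3 104 101 105 106 103 105 63 64 107 105 11 3 4 29 29 105 29 105 11 4 84 1 2 2 16 16 2 3 3 3 4) (@D3.rec (fun _ => Nat) 4 103 16 16 1 2 2 16 16 103 2 2 3 3 3 3 16 16 16 2 3 103 3 3 3 105 4 4 4 104 16 16 104 12 4 4 4 101 5 5 5 16 16 106 105 13 2 3 103 3 3) (@D3.rec (fun _ => Nat) 3 97 4 4 4 3 4 103 4 5 82 82 5 94 29 3 3 29 29 4 4 29 29 82 5 107 108 65 63 63 61 61 16 16 107 110 16 16 64 16 16 62 16 62 60 107 101 101 1 2 2) (@D3.rec (fun _ => Nat) 64 16 16 2 2 3 3 3 3 62 16 2 2 3 3 3 64 62 60 3 3 3 4 4 60 4 5 71 111 2 110 107 64 3 3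 4 73 29 29 107 112 107 102 103 63 61 61 98 65 63 1) (@D3.rec (fun _ => Nat) 2 2 63 61 12 2 2 3 3 3 61 12 2 3 12 3 12 100 2 103 12 3 3 97 4 12 1 2 2 16 16 102 16 16 1 2 2 16 16 30 2 2 3 3 3 3 16 16 16 30 2) (@D3.rec (fun _ => Nat) 2 3 3 109 30 3 3 3 31 4 4 111 16 16 30 4 29 29 29 5 16 16 105 104 16 16 16 2 2 99 3 3 3 103 16 16 13 13 3 3 3 3 4 97 4 4 4 4 4 16 16)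
def lv_b_13 : D2 → D3 → Nat := @D2.rec (fun _ => D3 → Nat) (@D3.rec (fun _ => Nat) 16 16 63 13 3 3 3 4 4 98 103 108 16 63 61 13 4 4 4 4 112 5 5 5 54 16 16 66 5 5 5 5 6 6 6 53 16 111 105 100 97 101 102 98 56 28 112 108 99 1 2) (@D3.rec (fun _ => Nat) 2 28 28 111 2 2 3 3 3 28 100 2 102 100 53 3 3 99 4 53 99 58 98 86 13 83 27 5 106 103 4 4 29 27 5 86 4 105 83 97 5 81 4 4 97 5 5 83 27 5 6) (@D3.rec (fun _ => Nat) 105 4 29 29 27 5 29 27 5 112 6 101 3 4 104 3 105 13 4 60 4 97 5 106 60 60 101 4 4 4 99 97 99 97 99 5 5 5 104 31 31 0 103 4 105 102 63 61 5 5 5) (@D3.rec (fun _ => Nat) 113 6 6 55 57 110 72 6 6 6 57 7 97 115 111 114 2 3 106 108 108 109 3 4 28 28 28 101 28 28 28 104 74 102 57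 57 28 28 28 28 28 28 28 63 28 3 30 3 30 3 4) (@D3.rec (fun _ => Nat) 30 4 27 16 16 96 16 105 103 16 16 98 16 7 8 100 76 15 15 15 15 98 15 15 15 15 15 15 16 16 16 16 1 77 16 16 16 16 103 16 16 98 16 1 2 2 16 16 16 78 2) (@D3.rec (fun _ => Nat) 2 3 3 16 98 98 16 16 16 103 99 2 82 3 30 30 8 8 8 8 8 8 9 9 9 78 76 9 76 9 100 76 15 15 15 15 15 15 15 15 15 15 15 15 15 112 105 15 15 15 15) (@D3.rec (fun _ => Nat) 106 15 15 15 3 77 77 80 15 15 15 15 15 15 15 15 15 15 15 0 15 15 15 15 15 15 64 15 15 66 15 15 64 15 15 15 62 15 15 15 103 15 15 1 2 2 15 15 15 66 112) (@D3.rec (fun _ => Nat) 15 15 15 2 64 64 3 15 15 3 62 4 15 15 15 15 15 15 0 113 12 2 2 3 3 3 12 109 3 4 60 4 61 109 3 3 4 4 109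 4 69 8 9 8 9 8 9 9 9 9 9) (@D3.rec (fun _ => Nat) 36 9 9 41 9 36 9 9 9 36 9 9 9 9 106 111 10 9 33 10 10 10 33 35 35 10 33 35 10 10 10 10 59 57 10 10 10 10 55 61 10 10 54 72 59 57 10 112 61 10 10) (@D3.rec (fun _ => Nat) 72 65 69 75 58 56 15 15 0 15 15 15 15 0 15 15 1 2 2 15 15 15 1 2 15 15 15 2 31 29 3 15 15 15 3 29 4 15 15 15 15 15 15 1 2 2 15 15 15 28 2) (@D3.rec (fun _ => Nat) 2 3 3 3 3 15 15 15 28 2 3 15 15 15 28 3 3 3 31 4 4 4 15 15 15 15 28 4 4 31 31 31 5 15 15 15 0 15 15 15 15 15 15 15 0 15 15 61 1 100 2) (@D3.rec (fun _ => Nat) 3 102 59 3 3 3 4 4 4 4 59 3 4 59 4 5 5 71 30 3 4 30 30 4 4 30 4 58 101 30 27 27 84 3 7 7 7 7 104 103 78 74 103 103 102 99 102 8 99 98 8) (@D3.rec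 (fun _ => Nat) 98 85 100 1 2 73 17 17 103 102 17 2 3 75 17 75 17 3 4 30 8 8 1 2 8 102 102 104 100 1 103 2 74 9 102 105 102 98 100 9 2 105 3 74 98 98 76 2 107 3 4) (@D3.rec (fun _ => Nat) 103 103 106 102 16 2 78 3 100 16 106 104 100 102 104 102 101 3 3 79 4 4 16 16 16 105 16 0 109 99 4 83 101 30 27 27 27 11 84 3 7 8 8 8 8 8 8 8 101 105 102) (@D3.rec (fun _ => Nat) 102 100 78 73 78 78 73 78 105 9 9 101 9 9 9 99 104 77 9 2 3 77 106 83 83 30 99 30 85 83 106 108 104 104 0 17 17 100 1 2 17 17 17 2 79 3 73 73 17 104 107) (@D3.rec (fun _ => Nat) 17 17 1 2 2 17 17 17 17 2 3 66 17 17 82 3 3 101 104 4 4 75 73 17 64 17 17 75 75 93 12 12 2 106 101 3 12 3 4 4 81 30 3 3 30 9 8 8 9 9 9) (@D3.rec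 (fun _ => Nat) 9 0 9 9 9 1 2 9 2 3 108 106 107 102 106 0 10 10 109 105 1 103 2 67 74 10 2 83 3 74 104 102 105 10 10 1 2 2 65 10 10 104 102 102 10 11 2 106 110 3 65) (@D3.rec (fun _ => Nat) 74 11 3 3 4 4 76 104 104 102 65 76 91 1 2 30 30 2 3 30 2 106 11 3 4 11 4 5 107 112 0 107 109 104 105 107 16 16 1 2 2 16 16 16 111 102 102 16 2 81 80) (@D3.rec (fun _ => Nat) 3 16 16 16 3 80 4 16 16 16 102 104 104 107 102 16 16 12 2 2 3 3 3 3 16 16 16 106 108 106 104 104 12 3 3 3 79 4 4 4 16 16 16 16 12 4 4 79 79 5 5) (@D3.rec (fun _ => Nat) 16 16 16 93 104 104 16 16 16 0 16 88 1 105 106 108 13 103 105 3 3 3 4 4 4 4 13 108 12 4 83 30 30 4 27 27 27 27 9 9 64 9 9 64 9 62 9 60 107 113 10) (@D3.rec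 (fun _ => Nat) 10 62 10 10 60 10 60 58 69 73 66 64 16 16 108 16 16 16 16 16 16 16 16 16 16 16 16 16 16 16 105 16 16 113 110 16 16 16 2 2 101 64 3 3 64 16 16 109 16 16 3) (@D3.rec (fun _ => Nat) 62 59 64 62 16 16 62 60 73 69 16 16 16 64 64 16 62 71 65 112 104 10 9 10 10 10 10 10 10 96 10 10 36 36 10 10 96 10 36 36 107 112 104 108 111 106 106 11 11 37 11) (@D3.rec (fun _ => Nat) 11 42 42 11 37 37 37 96 11 11 96 96 65 11 11 2 2 3 34 3 3 63 11 96 96 96 102 63 61 3 34 34 61 61 34 60 104 65 63 63 62 98 98 30 98 98 12 12 3 3 103) (@D3.rec (fun _ => Nat) 4 112 107 0 16 16 1 2 2 16 16 16 102 16 16 1 2 2 16 16 16 2 2 3 29 3 3 16 16 16 2 29 29 3 16 16 16 3 27 29 29 16 16 16 16 27 27 27 29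 16 16) (@D3.rec (fun _ => Nat) 16 0 1 2 2 16 16 16 96 2 2 3 3 3 3 16 16 16 32 30 3 3 3 3 4 97 4 4 4 4 4 16 16 16 16 96 3 3 3 98 4 4 4 16 16 16 16 30 4 4 4) (@D3.rec (fun _ => Nat) 4 5 5 5 5 61 16 16 16 0 5 5 5 5 6 6 53 53 59 16 16 59 1 16 16 16 0 16 16 0 16 1 16 61 58 2 101 107 104 98 3 97 103 104 13 54 4 4 97 5 103) (@D3.rec (fun _ => Nat) 5 112 54 4 63 63 29 29 102 100 99 1 2 29 110 2 2 112 3 3 29 2 102 3 3 105 4 99 99 102 5 99 101 114 106 65 17 8 75 16 104 3 3 75 4 16 17 17 17 105 17)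
def lv_b_14 : D2 → D3 → Nat := @D2.rec (fun _ => D3 → Nat) (@D3.rec (fun _ => Nat) 17 101 9 9 9 64 10 10 71 73 16 16 81 78 16 16 105 104 16 16 2 2 102 3 3 3 16 16 16 2 3 3 3 3 74 4 4 79 16 16 4 74 74 5 16 16 100 30 4 106 16) (@D3.rec (fun _ => Nat) 16 16 16 16 16 16 16 16 62 2 2 3 3 16 62 2 3 60 3 4 58 4 62 3 4 106 3 4 60 4 62 30 4 30 10 10 10 10 10 65 63 63 60 65 112 63 60 0 107 111 1) (@D3.rec (fun _ => Nat) 2 2 64 11 11 2 2 3 65 3 3 62 11 2 65 65 3 62 60 3 63 63 4 60 4 65 5 1 2 30 2 108 111 3 30 12 3 3 3 4 4 4 12 3 4 12 4 5 5 1 2) (@D3.rec (fun _ => Nat) 2 16 16 115 16 16 1 2 2 16 16 2 2 3 3 3 3 16 16 16 2 3 3 3 3 4 4 4 16 16 4 4 16 16 113 110 16 16 16 2 2 109 3 3 3 16 16 28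 28 3 3) (@D3.rec (fun _ => Nat) 3 3 4 4 4 4 4 4 4 16 16 16 16 28 28 3 3 3 4 4 4 16 30 28 28 4 4 4 4 115 5 5 5 60 16 16 28 5 5 5 5 6 6 49 16 111 3 107 103 101 4) (@D3.rec (fun _ => Nat) 13 4 4 4 4 5 5 5 5 13 4 62 62 97 97 79 3 4 105 103 107 92 103 101 111 84 3 4 99 109 3 4 101 4 4 101 105 5 107 4 82 5 94 108 105 108 113 105 82 81 63) (@D3.rec (fun _ => Nat) 72 109 81 81 2 3 3 4 4 84 111 108 18 18 105 3 4 106 99 105 108 104 107 62 18 107 105 107 71 84 4 4 5 90 109 107 109 109 92 92 105 103 105 110 103 3 4 107 106 107 109) (@D3.rec (fun _ => Nat) 103 105 63 105 12 4 82 30 105 84 2 2 114 3 3 17 3 4 4 4 5 105 105 109 17 17 2 2 3 3 17 103 103 3 3 3 3 97 4 103 4 4 4 105 17 17 17 3 4 103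 4) (@D3.rec (fun _ => Nat) 4 4 105 5 105 5 105 17 101 80 5 5 82 5 101 85 92 107 3 4 105 4 4 4 97 5 5 5 4 82 84 5 6 94 30 30 109 106 63 61 61 17 17 109 110 17 17 62 17 60 60) (@D3.rec (fun _ => Nat) 108 111 107 101 101 2 2 107 3 3 3 64 62 17 3 3 3 3 4 4 4 4 60 17 3 3 3 4 4 62 60 4 4 5 5 5 107 4 5 112 111 109 111 103 105 61 98 98 65 63 61) (@D3.rec (fun _ => Nat) 2 2 3 3 61 13 13 3 3 3 97 4 4 61 13 3 13 4 97 5 111 2 2 3 3 3 17 104 100 106 17 17 2 2 103 3 3 17 32 32 3 3 3 3 4 97 4 31 4 4 107) (@D3.rec (fun _ => Nat) 17 17 17 32 3 3 4 32 4 4 29 29 5 5 109 17 5 29 29 29 17 113 108 104 105 17 17 3 3 3 103 4 4 102 108 112 17 17 63 14 14 4 4 4 4 4 4 5 97 5 97) (@D3.rec (fun _ => Nat) 103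 113 5 5 5 106 17 17 17 0 103 61 14 4 4 5 5 98 113 108 61 59 5 5 5 112 6 6 55 56 17 6 6 6 57 7 7 97 58 98 112 2 2 112 3 3 29 114 3 3 3) (@D3.rec (fun _ => Nat) 115 4 4 4 100 113 4 99 5 98 86 5 5 97 6 6 106 111 30 28 104 4 107 60 60 5 97 60 60 5 5 5 97 99 97 99 97 99 6 6 0 101 106 115 1 107 61 6 6 59 7) (@D3.rec (fun _ => Nat) 7 57 110 7 113 3 4 110 4 57 29 29 29 29 31 31 4 28 17 17 100 17 113 103 17 17 8 16 16 16 16 16 16 0 17 17 17 17 17 17 17 17 103 103 17 17 17 100 100 17 101) (@D3.rec (fun _ => Nat) 2 2 3 3 3 17 17 80 3 3 4 17 100 17 17 93 99 103 9 9 9 9 9 10 10 78 76 10 16 16 16 16 16 16 16 16 16 16 16 16 16 16 105 100 16 16 16 16 16 16 16) (@D3.rec (fun _ => Nat) 77 77 16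 16 16 0 16 16 16 0 16 1 16 16 0 16 16 16 16 66 16 16 66 64 16 16 16 64 16 16 16 62 16 16 70 16 16 16 111 110 16 16 16 2 2 3 66 3 3 16 16) (@D3.rec (fun _ => Nat) 105 64 112 109 16 16 3 64 62 4 16 16 4 59 59 68 16 16 16 16 0 1 111 3 3 3 4 4 4 4 109 4 61 4 4 10 9 10 10 10 10 10 10 43 10 10 36 36 10 10 10) (@D3.rec (fun _ => Nat) 43 10 36 10 10 36 10 10 10 108 109 11 11 35 35 35 11 11 11 35 35 35 35 35 11 11 11 11 57 55 63 11 11 54 105 61 11 11 61 59 69 102 67 11 72 65 56 0 16 16 1) (@D3.rec (fun _ => Nat) 2 2 16 16 16 16 16 1 2 2 16 16 16 2 2 3 33 3 3 16 16 16 2 3 16 16 16 3 31 31 4 16 16 16 16 4 48 16 16 16 52 16 16 16 30 2 2 3 3 16 16) (@D3.rec (fun _ => Nat) 16 30 30 3 3 3 3 4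 4 31 4 4 4 16 16 16 16 30 3 4 16 16 16 16 30 4 4 4 104 31 5 5 16 16 16 0 30 5 31 31 67 16 16 1 16 16 16 0 16 16 0) (@D3.rec (fun _ => Nat) 16 1 16 61 61 3 4 104 61 61 4 4 4 4 5 5 5 5 61 4 5 5 6 61 31 4 31 8 8 102 78 74 107 99 9 101 100 106 85 100 2 3 75 18 105 100 3 4 75 18 75) (@D3.rec (fun _ => Nat) 95 4 83 9 9 2 3 105 104 108 2 101 3 76 108 102 105 102 102 3 106 4 76 100 93 4 5 104 104 106 104 3 80 4 102 17 103 104 106 104 103 4 4 79 5 5 17 17 95 84 1) (@D3.rec (fun _ => Nat) 28 9 9 9 9 9 9 103 102 78 106 105 100 78 75 75 78 78 75 103 105 10 10 106 101 106 10 10 10 101 104 77 3 83 83 106 83 87 85 108 108 110 104 106 1 2 2 18 18 18 100) (@D3.rec (fun _ => Nat) 2 3 68 18 18 3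 77 4 75 75 18 106 104 18 18 2 2 103 3 3 66 18 18 3 4 66 18 18 86 4 4 106 103 81 75 75 93 66 18 95 75 3 108 105 4 4 83 31 10 10 10) (@D3.rec (fun _ => Nat) 10 10 1 2 2 10 10 10 2 3 3 82 108 112 108 108 107 107 104 104 1 2 2 67 11 11 109 104 2 106 105 3 76 76 3 85 4 74 105 104 104 107 102 11 11 12 2 2 109 3 3) (@D3.rec (fun _ => Nat) 65 11 104 104 104 12 3 108 105 4 67 76 12 4 4 90 5 84 104 104 67 93 2 107 31 3 4 12 4 5 85 5 102 104 112 1 2 2 109 111 109 105 105 110 107 104 17 17 2 2 3)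
def lv_b_15 : D2 → D3 → Nat := @D2.rec (fun _ => D3 → Nat) (@D3.rec (fun _ => Nat) 81 3 3 109 17 17 104 104 104 3 80 80 4 17 17 17 4 80 5 17 17 84 106 104 108 104 107 103 106 104 17 103 13 3 3 3 3 4 4 4 79 4 4 4 17 17 17 17 106 106 106) (@D3.rec (fun _ => Nat) 106 106 13 4 4 4 79 5 5 5 17 17 17 0 5 5 79 79 84 6 94 17 17 106 17 0 17 1 84 108 106 108 108 101 103 105 4 4 4 4 5 5 5 5 110 89 31 28 10 10 64) (@D3.rec (fun _ => Nat) 62 10 10 62 10 60 58 109 113 11 11 62 11 60 60 64 62 66 17 17 110 109 17 17 17 17 17 17 17 17 17 17 17 17 17 17 107 110 115 17 17 106 108 17 17 3 3 102 64 4 66) (@D3.rec (fun _ => Nat) 64 17 17 17 17 61 64 62 17 60 62 62 17 17 66 64 62 17 64 104 11 11 11 11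 11 11 11 98 98 11 11 36 36 36 11 98 36 108 110 108 102 37 107 110 108 108 40 12 12 37 12) (@D3.rec (fun _ => Nat) 44 44 39 37 37 60 98 98 102 12 12 98 98 98 98 102 65 12 3 3 3 36 104 4 36 4 63 12 98 98 98 102 63 63 36 36 63 60 58 104 65 62 62 65 100 100 101 13 99 4 101) (@D3.rec (fun _ => Nat) 5 106 108 1 2 2 17 17 17 109 2 2 3 3 3 3 107 17 17 102 102 17 17 17 2 2 31 3 3 17 17 17 3 3 3 31 108 4 29 31 4 17 17 17 17 3 111 31 31 114 17) (@D3.rec (fun _ => Nat) 17 17 113 29 31 31 17 17 17 0 29 29 17 17 54 1 2 2 101 102 3 3 17 17 17 98 98 3 3 3 3 4 99 4 100 4 4 4 17 17 17 17 32 32 4 4 4 4 4 4 5) (@D3.rec (fun _ => Nat) 99 5 99 5 107 5 5 5 5 17 17 17 0 98 4 4 4 113 100 5 5 61 17 17 17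 0 5 5 5 5 6 6 6 55 59 61 17 17 0 17 1 6 6 7 53 53 17 59 58 17 17) (@D3.rec (fun _ => Nat) 0 17 1 17 61 17 1 2 58 61 105 102 99 103 102 5 5 99 105 109 107 63 100 2 3 110 3 3 112 4 4 4 109 5 101 114 103 112 112 4 75 5 18 18 18 10 10 64 11 63 17) (@D3.rec (fun _ => Nat) 78 17 17 104 110 17 3 3 3 108 102 76 4 4 17 17 17 3 4 4 76 5 5 17 5 76 76 106 102 106 107 17 17 17 17 17 17 64 62 3 3 4 4 17 62 3 4 60 4 62 4) (@D3.rec (fun _ => Nat) 5 108 4 62 62 11 11 11 67 65 63 62 63 60 1 2 2 110 109 111 2 2 108 67 3 3 64 12 3 3 3 67 4 65 4 4 62 12 3 65 63 4 62 4 63 61 5 5 2 3 3) (@D3.rec (fun _ => Nat) 110 110 4 13 4 4 4 5 5 5 13 4 5 5 6 114 2 2 76 3 3 17 113 115 17 17 2 2 3 3 3 17 3 3 3 3 101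 101 4 4 4 4 17 17 17 3 4 4 4 4 5) (@D3.rec (fun _ => Nat) 17 17 111 108 110 17 17 3 3 3 107 107 109 4 4 4 17 17 32 30 30 4 4 4 4 4 4 4 107 101 5 5 5 113 5 5 5 5 17 17 17 0 30 30 30 4 4 4 5 5 60) (@D3.rec (fun _ => Nat) 30 30 5 5 5 109 6 6 60 17 30 6 6 7 49 111 4 115 103 101 5 5 5 5 5 6 6 6 62 62 81 4 86 111 110 92 94 104 84 4 102 108 111 4 82 5 94 106 108 104 109) (@D3.rec (fun _ => Nat) 81 81 65 81 84 3 4 4 86 111 105 105 19 105 4 82 101 110 106 111 105 107 107 64 19 107 107 92 5 91 92 112 110 109 112 90 94 105 105 105 110 105 4 109 108 109 107 107 63 84 107) (@D3.rec (fun _ => Nat) 86 3 3 114 112 4 4 18 4 5 5 107 110 105 18 3 3 4 4 18 103 105 4 4 4 4 99 5 107 5 5 5 106 18 18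 0 4 82 5 84 5 105 109 6 94 107 4 5 86 5 5) (@D3.rec (fun _ => Nat) 5 99 6 6 6 6 96 111 108 108 63 63 18 108 109 18 62 18 107 109 113 66 103 103 3 3 3 109 108 4 4 64 62 18 4 4 4 4 5 5 5 5 62 0 4 4 5 5 62 5 5) (@D3.rec (fun _ => Nat) 6 109 5 109 111 107 103 63 100 100 65 63 3 3 4 63 14 14 4 4 99 5 5 0 14 5 99 112 113 3 3 3 108 4 4 4 18 111 104 100 107 18 3 3 107 4 18 32 32 109 4) (@D3.rec (fun _ => Nat) 4 4 4 107 99 5 99 5 109 31 5 5 107 18 18 0 32 4 5 5 5 31 31 6 109 60 31 31 108 106 110 18 18 4 4 107 5 5 102 113 112 18 0 63 15 5 5 5 5 5 99) (@D3.rec (fun _ => Nat) 6 99 101 99 103 108 6 6 0 108 56 18 18 0 1 105 61 5 5 6 100 100 113 61 6 6 59 112 7 7 55 7 7 8 100 110 3 3 112 4 116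 4 4 4 116 5 5 5 102 113 5) (@D3.rec (fun _ => Nat) 101 6 99 62 62 6 6 99 101 99 101 99 7 115 7 1 103 106 107 7 59 7 8 57 110 4 111 30 18 100 104 18 93 17 17 17 0 1 18 18 18 18 18 18 107 18 18 107 103 107 18) (@D3.rec (fun _ => Nat) 18 100 100 99 3 3 3 4 4 18 18 78 4 91 18 93 10 10 10 11 78 17 17 17 17 17 17 17 17 17 17 100 17 17 17 17 17 17 17 0 79 17 17 1 17 0 17 1 17 17 1) (@D3.rec (fun _ => Nat) 2 2 17 17 17 17 17 66 64 17 17 17 66 64 62 17 17 64 107 17 17 60 17 17 61 54 17 17 107 110 112 106 17 17 3 3 3 66 4 4 64 4 4 17 17 108 64 111 114 17 17) (@D3.rec (fun _ => Nat) 4 62 61 61 17 0 61 59 70 17 17 110 0 17 1 111 4 4 4 4 5 5 5 5 63 63 11 11 11 11 11 43 11 11 41 43 11 11 38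 38 38 11 11 40 38 11 11 11 37 109 110) (@D3.rec (fun _ => Nat) 12 12 35 35 35 37 12 35 37 37 12 12 12 12 57 56 103 61 12 12 107 59 12 59 63 106 65 12 61 58 1 2 2 17 17 17 103 2 2 78 85 3 3 17 17 17 17 17 2 2 112) (@D3.rec (fun _ => Nat) 3 3 17 17 17 3 3 3 103 103 4 31 4 4 17 17 17 17 3 4 17 17 17 4 31 50 17 17 17 54 17 17 17 17 17 30 30 3 3 4 4 17 17 17 17 30 30 30 4 4 4) (@D3.rec (fun _ => Nat) 4 4 5 5 107 33 5 5 5 17 17 17 0 30 4 5 17 17 17 0 30 5 5 108 33 6 17 17 0 17 1 33 61 17 17 17 0 17 1 17 63 17 1 2 63 61 4 5 106 61 5)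
def lv_b_16 : D2 → D3 → Nat := @D2.rec (fun _ => D3 → Nat) (@D3.rec (fun _ => Nat) 5 5 5 6 6 6 6 5 109 6 63 9 111 80 76 109 83 109 3 4 75 19 4 81 77 93 3 82 104 108 3 105 4 74 102 4 94 5 91 85 5 109 103 4 80 5 110 93 110 109 5) (@D3.rec (fun _ => Nat) 5 81 83 6 94 10 10 10 10 10 104 105 80 80 75 108 109 102 80 75 75 80 75 103 103 11 11 101 101 106 11 83 111 83 108 85 105 110 109 110 112 106 104 2 2 101 3 3 66 19 19) (@D3.rec (fun _ => Nat) 3 4 75 19 19 4 81 75 73 91 105 111 19 3 3 108 4 4 64 19 19 4 81 66 19 93 105 77 66 95 19 4 113 115 5 86 11 11 11 11 2 2 3 3 3 11 3 82 108 114 106) (@D3.rec (fun _ => Nat) 114 110 107 107 110 107 106 104 2 2 110 103 3 3 76 12 106 3 106 105 4 76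 74 4 83 91 106 106 105 106 104 104 12 13 3 3 108 4 4 65 12 104 13 4 108 94 5 67 91 83 5) (@D3.rec (fun _ => Nat) 92 92 106 89 65 4 5 85 5 6 108 112 106 114 114 2 2 87 87 3 3 111 113 106 108 112 106 106 104 18 3 3 3 82 4 82 4 4 104 18 18 106 104 104 4 82 82 5 18 18 93) (@D3.rec (fun _ => Nat) 5 18 108 108 105 105 104 104 108 108 106 18 103 105 14 4 4 4 4 4 4 83 5 5 5 81 5 5 5 18 18 18 0 106 106 106 5 5 5 81 6 83 6 6 18 18 88 18 1 6 81) (@D3.rec (fun _ => Nat) 106 88 18 1 2 111 111 110 113 103 105 5 5 5 5 6 6 112 6 88 11 11 64 62 11 62 60 107 115 12 60 12 60 64 66 18 18 18 115 113 18 18 113 18 18 18 18 18 18 18 18) (@D3.rec (fun _ => Nat) 18 108 111 111 18 110 18 18 4 104 61 5 64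 62 18 0 18 62 62 63 18 62 18 18 64 64 64 12 12 12 12 12 98 98 12 38 38 38 12 98 106 110 112 108 110 104 39 112 108 108 108) (@D3.rec (fun _ => Nat) 42 42 13 39 13 44 41 39 39 62 98 98 98 102 13 98 98 98 98 98 104 63 13 99 4 4 77 36 108 5 36 5 63 0 98 98 98 104 63 62 36 60 62 63 106 64 65 64 100 103 99) (@D3.rec (fun _ => Nat) 5 101 108 110 2 2 108 3 3 18 18 18 107 109 3 3 3 3 112 106 4 111 4 4 4 108 18 18 104 104 18 18 18 3 3 100 31 4 112 18 18 18 4 4 114 31 105 5 29 31 5) (@D3.rec (fun _ => Nat) 18 18 18 0 113 31 31 112 18 18 0 113 29 31 18 18 0 18 1 29 18 54 3 3 103 100 104 4 104 18 18 18 98 98 4 4 4 4 4 100 108 5 99 105 107 100 5 5 108 18 18) (@D3.rec (fun _ => Nat) 18 0 32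 5 5 5 5 5 5 5 107 107 6 99 6 99 6 108 6 6 0 6 63 18 18 0 18 1 5 5 117 100 6 55 61 18 18 0 18 1 6 6 6 7 55 55 7 61 18 61 18) (@D3.rec (fun _ => Nat) 1 2 60 7 55 55 61 18 0 18 1 2 102 63 18 63 60 2 3 99 99 111 105 109 109 102 3 112 102 4 4 114 5 5 99 116 105 114 112 5 77 19 19 11 64 12 18 18 112 18 4) (@D3.rec (fun _ => Nat) 4 102 102 76 5 5 18 18 0 5 5 76 6 76 109 111 18 18 18 18 62 60 4 4 5 5 0 60 4 5 64 64 12 12 65 63 62 62 62 2 2 3 3 108 111 3 3 67 110 65 4) (@D3.rec (fun _ => Nat) 4 62 13 4 4 4 65 5 63 5 5 62 0 4 63 61 5 5 61 6 3 4 4 110 103 5 5 5 5 6 6 6 5 6 6 103 3 3 78 4 4 18 106 113 112 18 3 3 3 112 4) (@D3.rec (fun _ => Nat) 4 4 18 4 4 4 4 103 101 5 5 5 5 18 18 0 4 5 110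 110 113 18 18 4 4 4 102 109 113 111 5 5 5 18 0 30 30 5 5 5 5 5 5 5 109 101 6 6 6 106 6) (@D3.rec (fun _ => Nat) 6 0 6 62 18 18 0 1 30 30 5 5 6 62 30 30 6 6 104 51 7 7 51 113 5 107 103 103 64 6 6 6 7 7 64 64 84 92 92 92 110 111 83 83 63 84 4 5 86 106 107) (@D3.rec (fun _ => Nat) 107 107 20 92 103 106 105 110 112 107 111 109 62 0 107 92 88 92 112 112 112 90 89 112 105 105 105 110 105 105 107 0 84 86 4 4 110 104 5 5 0 5 6 112 112 105 19 4 4 5 5) (@D3.rec (fun _ => Nat) 0 105 85 5 5 5 5 99 6 105 6 0 6 6 109 19 0 1 6 94 109 5 87 6 6 6 99 7 91 108 108 63 0 19 111 19 62 0 111 111 64 103 103 4 4 109 109 5 5 62 62) (@D3.rec (fun _ => Nat) 0 5 5 5 5 6 6 6 0 0 1 5 5 6 6 7 111 112 105 103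 0 100 63 63 4 5 0 15 5 5 99 6 0 1 109 113 4 4 4 109 5 5 5 0 106 100 109 19 4 109 5) (@D3.rec (fun _ => Nat) 0 34 111 5 5 5 5 108 109 99 6 99 6 111 31 6 0 109 19 0 1 5 6 62 31 31 7 31 106 106 112 19 0 5 5 107 6 0 104 102 115 107 0 1 61 16 6 6 6 0 99) (@D3.rec (fun _ => Nat) 103 99 103 99 0 110 7 0 7 1 2 58 19 0 1 16 104 6 61 7 100 100 7 61 7 113 8 57 8 108 4 114 110 114 5 5 112 5 113 6 6 113 7 7 99 101 99 101 8 113 108) (@D3.rec (fun _ => Nat) 112 8 61 109 19 93 1 19 19 19 19 102 19 107 109 19 19 102 101 4 4 5 19 93 90 19 11 12 18 18 18 18 18 18 18 102 18 18 18 0 18 18 0 18 1 18 1 2 18 18 18) (@D3.rec (fun _ => Nat) 2 2 86 86 3 3 18 18 18 18 68 66 64 109 18 18 84 66 64 62 18 18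 62 111 18 18 61 18 54 18 108 110 111 110 18 18 4 4 4 4 77 66 5 5 64 5 5 18 0 108 61) (@D3.rec (fun _ => Nat) 61 110 18 113 61 61 59 61 63 18 1 18 113 18 1 2 109 5 5 5 5 6 6 6 63 63 12 12 12 41 45 12 12 12 41 40 12 38 38 38 12 12 38 12 12 37 110 13 37 37 37) (@D3.rec (fun _ => Nat) 37 13 37 13 13 13 57 56 109 61 13 0 110 61 13 61 110 67 2 2 110 105 3 3 18 18 18 107 113 3 3 78 82 4 4 18 18 18 18 18 3 3 107 4 4 18 18 18 4 4 4) (@D3.rec (fun _ => Nat) 103 103 5 33 5 5 18 18 18 0 4 50 18 18 54 50 18 18 54 18 18 111 18 18 18 32 32 4 4 5 5 18 18 18 0 32 32 32 5 5 5 5 5 6 6 104 33 6 0 6 6)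
def lv_b_17 : D2 → D3 → Nat := @D2.rec (fun _ => D3 → Nat) (@D3.rec (fun _ => Nat) 18 18 0 18 1 32 5 6 18 18 0 18 1 6 100 62 18 18 1 2 18 18 1 2 63 18 63 2 3 5 108 105 108 6 6 6 6 7 7 108 63 115 80 76 4 83 75 95 4 90 93) (@D3.rec (fun _ => Nat) 85 5 93 94 5 6 11 11 11 105 105 80 80 77 109 80 77 77 105 105 12 103 85 111 12 111 108 87 82 83 113 111 107 110 106 3 3 103 4 4 75 20 20 4 83 77 20 95 75 111 20) (@D3.rec (fun _ => Nat) 4 4 111 5 5 66 20 0 85 68 95 20 66 92 5 112 112 87 12 12 3 3 3 4 4 84 12 106 114 111 101 114 106 109 109 109 109 106 3 3 109 104 4 4 76 13 4 105 90 74 93) (@D3.rec (fun _ => Nat) 106 106 104 106 13 14 4 4 110 5 5 65 0 85 5 96 93 94 6 89 67 91 87 5 6 6 106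 107 110 118 111 114 3 3 108 87 87 4 4 111 108 110 107 106 106 106 106 19 4 4 4) (@D3.rec (fun _ => Nat) 84 5 82 5 5 106 19 0 106 5 82 6 19 95 19 108 108 111 106 111 106 108 108 108 106 0 103 107 5 5 5 5 5 5 85 6 6 6 81 6 0 6 6 19 19 0 19 1 108 108 6) (@D3.rec (fun _ => Nat) 6 6 81 91 7 7 87 19 87 88 2 3 113 111 111 103 105 6 6 6 7 112 7 112 89 12 62 60 12 60 107 13 62 0 62 19 19 111 112 19 19 109 19 19 19 19 0 19 19 111 105) (@D3.rec (fun _ => Nat) 19 110 19 0 5 104 63 0 64 64 0 19 1 19 64 64 63 19 66 64 13 13 13 100 100 13 38 38 38 0 110 112 108 110 102 39 109 110 109 42 41 14 39 0 41 39 62 62 39 100 100) (@D3.rec (fun _ => Nat) 102 14 100 100 100 100 100 104 65 0 101 5 5 77 38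 108 6 38 0 0 65 1 100 100 60 104 62 65 60 38 62 64 106 64 64 103 101 108 3 3 108 4 112 19 19 19 109 115 4 4 4) (@D3.rec (fun _ => Nat) 4 110 107 5 110 5 5 5 108 19 0 104 19 19 19 4 102 33 5 114 19 19 0 5 5 108 33 101 6 31 33 0 19 19 0 19 1 113 33 114 19 0 19 1 113 33 19 56 19 1 2) (@D3.rec (fun _ => Nat) 56 4 109 102 104 5 104 19 19 0 100 5 5 5 102 108 103 101 105 108 102 6 0 110 19 19 0 19 1 34 6 6 6 6 6 0 6 106 111 7 101 7 101 0 107 108 7 0 7 1 2) (@D3.rec (fun _ => Nat) 63 19 0 19 1 2 16 6 113 102 57 7 19 0 19 1 2 60 7 7 55 55 57 61 61 19 61 60 2 3 55 55 63 19 1 2 19 113 2 3 63 63 60 3 4 111 101 109 107 109 104) (@D3.rec (fun _ => Nat) 102 110 5 6 114 20 0 12 64 0 0 19 104 0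 5 5 104 102 78 6 0 19 0 1 6 78 7 109 113 19 19 0 0 62 5 5 0 6 1 111 13 0 67 65 62 0 3 3 4 4 108) (@D3.rec (fun _ => Nat) 105 4 4 67 110 65 5 5 64 0 5 5 5 67 6 65 0 6 6 0 1 5 63 6 6 63 4 5 5 103 105 6 6 108 6 6 7 7 6 109 110 4 4 78 5 5 0 104 110 110 19) (@D3.rec (fun _ => Nat) 4 4 4 113 5 5 5 0 5 5 5 5 103 103 6 6 0 6 19 0 1 110 107 113 19 0 5 5 5 112 109 107 105 6 0 6 62 0 1 32 32 6 6 6 6 6 0 6 109 103 7) (@D3.rec (fun _ => Nat) 7 0 7 109 7 0 7 1 2 62 19 0 1 16 32 32 6 7 62 32 7 51 51 113 105 105 64 64 7 7 8 64 104 104 83 83 0 86 5 88 112 107 109 107 0 88 0 112 107 107 107) (@D3.rec (fun _ => Nat) 111 0 109 90 0 1 109 90 89 112 112 92 91 113 107 107 0 103 0 0 107 86 1 5 5 106 108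 0 6 6 1 6 107 112 105 0 5 5 0 6 1 105 86 6 6 0 6 6 101 0 7) (@D3.rec (fun _ => Nat) 109 0 109 1 2 7 90 0 1 16 7 101 110 109 0 1 0 103 0 0 1 107 108 64 110 0 5 5 111 106 6 0 64 0 1 6 6 6 0 7 0 0 7 1 1 16 6 7 7 108 107) (@D3.rec (fun _ => Nat) 0 0 1 102 65 0 5 0 1 16 6 0 101 0 1 16 109 110 5 5 113 5 109 6 0 6 1 108 102 107 0 5 105 0 1 34 113 6 6 6 0 109 109 101 7 101 0 111 33 0 7) (@D3.rec (fun _ => Nat) 1 106 0 1 17 62 62 7 33 33 111 0 109 0 20 1 6 0 0 0 7 1 2 102 102 105 0 1 17 63 0 7 0 7 1 101 103 101 0 103 0 1 111 0 8 1 2 57 17 2 3) (@D3.rec (fun _ => Nat) 0 1 61 61 7 102 102 8 61 108 112 115 6 6 112 108 7 117 8 101 103 101 63 114 20 20 20 102 20 109 109 20 0 5 88 20 90 12 0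 19 19 0 19 19 0 0 19 19 0 19 1) (@D3.rec (fun _ => Nat) 19 1 2 2 107 19 19 3 3 86 88 4 4 19 19 19 66 64 62 112 19 19 81 66 64 62 19 0 63 114 19 56 63 56 19 19 112 107 108 114 19 0 5 5 5 5 79 66 6 6 64) (@D3.rec (fun _ => Nat) 0 6 63 0 19 1 112 63 61 63 113 115 19 63 63 61 64 65 111 19 112 2 3 65 6 6 6 7 7 65 65 13 13 43 42 13 13 42 40 13 40 40 40 13 0 13 39 104 14 37 37) (@D3.rec (fun _ => Nat) 37 39 0 39 14 14 0 0 58 114 61 0 14 1 114 65 116 3 3 111 103 4 4 19 19 19 111 113 4 4 80 85 5 5 19 0 19 19 19 4 4 107 5 5 19 19 0 5 5 5 105) (@D3.rec (fun _ => Nat) 103 6 33 0 6 52 19 19 0 19 1 52 19 56 19 19 19 56 110 19 19 0 32 32 5 5 0 6 6 19 19 0 19 1 32 32 32 6 6 6 0 6 6 7 0 7 100 35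 0 1 2) (@D3.rec (fun _ => Nat) 7 64 19 0 19 1 2 16 6 115 19 19 1 2 19 2 3 19 19 2 107 107 3 107 7 7 8 108 65 12 12 107 82 82 77 104 77 107 13 108 85 108 0 113 84 83 115 114 109 106 110) (@D3.rec (fun _ => Nat) 4 4 101 5 5 77 21 0 84 75 95 21 105 0 5 5 110 0 6 86 64 0 21 1 66 91 115 13 13 4 4 5 5 85 0 108 114 111 108 106 109 108 109 106 4 4 109 107 5 5 66) (@D3.rec (fun _ => Nat) 0 84 87 67 105 110 108 106 0 5 85 5 113 0 6 6 0 65 1 6 89 91 94 89 91 87 6 110 110 112 106 114 106 4 4 107 89 87 5 5 108 0 108 111 108 112 108 108 0 5 5)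
def lv_b_18 : D2 → D3 → Nat := @D2.rec (fun _ => D3 → Nat) (@D3.rec (fun _ => Nat) 5 84 6 84 0 6 6 106 0 20 1 106 6 84 20 89 108 0 111 108 111 110 110 0 110 0 106 1 105 107 6 6 6 6 0 6 6 85 7 7 0 7 83 0 7 1 2 7 87 20 0) (@D3.rec (fun _ => Nat) 20 1 2 16 108 7 7 83 91 8 88 89 3 4 113 113 105 7 7 109 8 114 89 114 13 64 62 0 109 0 0 66 1 20 20 110 115 20 0 110 20 20 0 0 20 1 20 110 108 0 0) (@D3.rec (fun _ => Nat) 0 20 1 0 0 0 1 64 0 64 1 2 16 64 65 20 66 14 0 14 100 100 0 40 0 40 1 111 109 110 106 104 41 0 110 107 43 43 0 0 41 1 43 64 41 64 100 100 102 0 100) (@D3.rec (fun _ => Nat) 100 100 100 0 106 0 65 1 101 6 0 79 38 106 0 0 38 1 1 2 16 100 62 100 64 106 64 62 64 66 107 66 101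 107 4 110 5 20 20 0 111 104 5 5 5 114 5 112 109 6 110) (@D3.rec (fun _ => Nat) 6 0 6 6 106 0 20 1 106 20 20 0 5 102 33 0 112 20 0 20 1 6 0 101 33 101 0 31 0 33 1 20 0 20 1 2 17 111 116 0 20 1 2 56 20 56 2 3 5 111 102) (@D3.rec (fun _ => Nat) 104 0 106 102 20 0 20 1 100 6 0 102 110 108 101 0 110 102 0 7 1 2 20 0 20 1 2 17 0 7 7 0 7 0 7 1 2 108 109 8 101 0 8 0 101 1 2 112 109 0 57) (@D3.rec (fun _ => Nat) 1 2 63 17 2 3 0 20 1 2 17 2 3 7 109 57 102 57 63 20 1 2 20 62 2 3 57 57 57 63 63 62 3 4 57 65 109 2 3 3 113 3 4 65 65 64 18 4 103 111 106) (@D3.rec (fun _ => Nat) 111 110 114 117 6 0 1 0 0 1 1 0 0 1 6 0 109 0 78 0 7 1 0 1 16 7 78 113 113 0 0 1 1 62 0 6 1 2 62 0 1 65 0 64 1 4 4 5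 5 107 0) (@D3.rec (fun _ => Nat) 5 5 67 111 65 0 6 6 0 1 6 0 6 6 65 0 7 0 63 1 2 7 1 16 6 63 115 5 106 6 105 112 118 113 7 110 7 8 5 106 5 80 0 6 1 104 110 108 0 5 5) (@D3.rec (fun _ => Nat) 5 111 6 0 6 1 6 6 0 6 103 103 0 7 0 1 2 0 1 17 114 0 105 115 0 20 1 6 0 6 109 107 107 0 105 0 7 1 2 64 64 1 17 32 0 7 7 0 7 7 0) (@D3.rec (fun _ => Nat) 7 1 2 107 103 0 8 0 8 1 2 64 104 0 53 1 2 17 2 3 0 1 17 32 7 32 53 107 105 112 8 66 0 0 0 85 86 1 112 109 0 110 88 1 1 112 109 111 0 110 0) (@D3.rec (fun _ => Nat) 109 1 2 90 89 1 16 90 110 92 107 0 111 1 0 1 1 2 91 16 0 6 6 108 0 111 1 2 111 17 0 109 0 112 1 0 6 1 2 17 0 87 0 7 0 1 2 7 0 101 1) (@D3.rec (fun _ => Nat) 2 0 1 2 17 2 3 92 1 61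 110 0 1 16 1 0 1 1 61 109 0 64 0 112 1 6 0 108 0 0 7 1 0 1 17 7 0 0 7 1 0 8 1 1 2 62 63 7 0 108 1) (@D3.rec (fun _ => Nat) 1 17 0 0 65 1 0 1 17 0 0 1 0 1 17 110 109 6 0 6 113 110 0 7 1 2 18 108 0 0 114 1 0 0 1 18 0 111 7 0 0 7 1 111 114 101 0 8 0 1 109) (@D3.rec (fun _ => Nat) 0 33 1 2 57 0 1 63 64 33 0 110 1 0 112 1 2 18 0 7 1 1 1 2 104 18 2 3 104 0 1 63 0 1 0 8 1 2 7 101 0 105 0 101 1 2 1 18 0 109 1) (@D3.rec (fun _ => Nat) 2 63 63 2 3 58 3 1 63 63 102 7 108 103 101 65 21 0 21 109 0 109 0 0 21 1 90 108 0 1 0 0 20 1 20 1 1 20 0 20 1 2 16 2 3 105 20 20 4 4 88) (@D3.rec (fun _ => Nat) 88 5 5 20 0 20 68 66 64 112 20 0 86 66 0 64 63 0 20 1 63 113 56 20 56 0 112 0 109 63 112 0 20 1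 6 6 0 6 79 66 7 0 7 0 63 1 2 63 64 1 2) (@D3.rec (fun _ => Nat) 62 117 114 61 63 116 113 114 63 61 65 118 20 3 4 65 7 7 8 65 14 0 42 42 14 14 42 40 0 40 0 40 0 14 1 39 0 0 39 0 39 0 39 1 15 0 1 1 2 108 0) (@D3.rec (fun _ => Nat) 63 1 2 16 113 4 4 109 103 5 5 20 20 0 111 117 5 18 5 80 87 0 6 6 0 20 1 20 20 0 5 5 109 0 6 52 20 0 20 1 6 0 6 105 105 0 7 0 1 2 52) (@D3.rec (fun _ => Nat) 20 0 20 1 2 17 20 56 20 56 108 20 0 20 1 34 109 0 6 6 1 2 7 108 20 0 20 1 2 17 34 0 34 7 0 7 0 1 2 7 0 8 1 2 108 102 0 1 17 2 3) (@D3.rec (fun _ => Nat) 64 0 20 1 2 17 2 3 20 20 2 3 3 107 86 8 65 13 0 104 82 82 79 0 79 105 0 0 91 0 108 1 84 85 111 114 106 0 0 5 5 103 0 6 85 65 0 22 1 71 92) (@D3.rec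 (fun _ => Nat) 0 1 0 6 0 107 1 2 87 0 66 1 2 16 91 0 0 5 5 6 0 86 1 110 110 110 108 106 118 0 113 0 5 5 109 113 0 6 92 0 67 1 89 0 0 106 0 1 0 6 87) (@D3.rec (fun _ => Nat) 6 0 93 1 2 7 1 2 16 91 90 91 93 108 110 108 106 0 5 114 5 107 89 93 0 6 6 0 111 1 0 113 108 0 111 0 110 1 6 0 6 6 86 0 7 0 84 1 2 7 0) (@D3.rec (fun _ => Nat) 111 1 2 17 91 0 110 1 108 108 108 0 108 0 110 1 2 1 2 17 105 0 7 7 0 7 0 7 1 2 7 89 0 8 0 8 1 2 8 0 83 1 2 8 17 2 3 88 0 1 2) (@D3.rec (fun _ => Nat) 17 2 3 8 93 90 89 18 4 5 109 8 109 90 106 114 0 0 62 1 0 1 1 2 16 21 0 0 109 114 0 21 1 107 0 0 21 1 1 2 61 0 0 110 1 1 1 2 17 1 1) (@D3.rec (fun _ => Nat) 1 60 0 66 1 2 17 2 3 65 103 0 1 0 0 102 1 0 40 1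 2 19 108 0 106 0 104 106 0 41 1 107 0 43 0 41 1 1 2 17 64 106 64 64 102 0 0 104 1 102 0) (@D3.rec (fun _ => Nat) 102 0 102 1 0 106 1 2 17 103 0 1 79 0 40 0 1 1 2 17 17 2 3 62 102 62 64 109 64 62 64 111 68 0 5 108 0 21 0 21 1 110 115 115 6 6 0 6 114 6 108)
def lv_b_19 : D2 → D3 → Nat := @D2.rec (fun _ => D3 → Nat) (@D3.rec (fun _ => Nat) 110 0 110 0 7 1 2 7 7 0 113 1 2 18 0 21 0 21 1 0 104 0 1 112 0 21 1 2 18 0 1 105 0 0 1 0 1 2 59 0 21 1 2 18 2 3 58 104 1 2 21) (@D3.rec (fun _ => Nat) 2 3 58 58 3 4 0 0 104 0 106 1 2 108 0 21 1 2 18 0 0 7 1 104 106 0 111 0 1 109 0 104 1 2 18 2 0 21 1 2 21 18 2 3 1 8 0 8 1 0 1) (@D3.rec (fun _ => Nat) 2 7 2 111 109 0 57 0 103 1 2 109 1 2 18 2 3 3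 0 57 1 2 57 18 2 3 3 58 3 1 2 63 2 3 18 3 4 107 59 104 59 63 115 2 3 62 3 4 57 59 63) (@D3.rec (fun _ => Nat) 63 62 9 4 105 109 3 3 117 107 4 105 67 113 64 21 108 113 119 106 1 75 1 1 16 82 1 1 116 0 7 1 0 111 1 0 80 1 2 83 1 17 0 111 1 1 62 62 0 1 2) (@D3.rec (fun _ => Nat) 64 2 1 62 0 64 1 2 17 5 5 0 6 106 0 112 1 0 6 6 67 0 111 0 65 1 2 7 116 1 17 0 7 1 2 7 0 65 1 2 8 1 2 17 2 3 17 107 110 110 8) (@D3.rec (fun _ => Nat) 0 6 115 0 80 1 2 109 106 0 107 110 1 6 0 6 107 0 7 1 2 108 0 7 0 1 2 0 0 105 1 2 1 18 2 1 64 0 112 1 2 112 1 2 18 0 7 1 2 110 0) (@D3.rec (fun _ => Nat) 112 0 107 1 2 105 1 2 18 2 3 64 18 0 34 1 0 8 0 8 1 2 0 1 2 7 2 0 53 0 105 1 2 1 2 64 18 2 3 0 53 1 2 18 2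 18 3 1 61 34 107) (@D3.rec (fun _ => Nat) 107 1 1 1 2 88 16 114 0 112 1 2 90 17 17 109 0 109 0 109 1 2 92 1 2 92 17 2 3 91 76 94 0 107 1 2 17 1 17 17 2 3 1 2 0 111 1 2 18 2 3) (@D3.rec (fun _ => Nat) 1 2 1 2 18 1 2 116 2 1 2 1 2 1 7 2 3 1 2 121 2 1 117 2 18 3 4 76 0 112 1 17 64 1 61 61 0 112 1 0 66 1 2 18 0 7 1 0 113 1 1) (@D3.rec (fun _ => Nat) 2 62 1 63 0 8 1 1 2 63 1 2 63 62 2 1 2 18 18 1 1 2 18 1 18 1 1 7 1 18 0 110 0 7 1 2 106 0 108 1 2 19 2 0 110 1 1 2 110 1 1) (@D3.rec (fun _ => Nat) 61 1 0 105 0 8 1 1 2 7 110 0 114 0 103 1 2 1 59 0 106 1 2 57 59 2 1 63 1 2 19 1 2 19 2 3 1 2 116 117 116 2 3 104 62 3 4 1 124 1 7) (@D3.rec (fun _ => Nat) 1 2 8 2 3 0 103 1 2 65 1 2 109 2 3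 19 1 63 65 2 65 3 60 63 90 0 22 1 0 1 0 1 1 2 62 90 108 1 16 1 1 2 82 115 83 0 1 2 115 2 3) (@D3.rec (fun _ => Nat) 3 107 105 21 0 5 18 5 92 90 0 6 6 0 21 1 0 66 0 64 65 110 0 21 1 86 0 64 1 2 65 1 2 64 65 115 116 58 58 1 0 112 1 2 65 65 0 108 1 2 64) (@D3.rec (fun _ => Nat) 7 0 7 1 2 81 0 65 0 8 1 2 65 1 2 63 64 2 3 66 64 2 3 114 63 63 116 111 107 56 65 4 5 8 67 0 1 44 15 0 0 42 1 0 42 1 2 1 2 19 0) (@D3.rec (fun _ => Nat) 41 1 1 0 39 1 2 1 2 17 0 16 1 17 17 2 0 108 1 2 17 2 5 5 111 105 0 6 6 21 0 21 1 109 87 0 6 19 6 0 82 0 87 1 2 7 91 1 2 18 21) (@D3.rec (fun _ => Nat) 0 21 1 0 6 0 109 1 2 54 0 21 1 2 18 0 7 1 2 0 0 105 1 2 54 1 18 2 3 0 21 1 2 18 2 3 21 58 56 110 0 21 1 2 18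 0 109 1 2 7 117) (@D3.rec (fun _ => Nat) 2 3 108 0 21 1 2 21 122 2 3 0 1 2 0 8 1 2 1 7 2 3 1 2 115 2 3 66 0 1 118 18 3 4 1 2 18 2 18 3 4 3 9 83 0 1 0 0 84 0 79) (@D3.rec (fun _ => Nat) 1 0 1 1 2 1 2 16 89 85 0 109 107 0 111 1 1 0 6 0 103 1 2 86 0 66 1 2 17 92 1 17 1 2 1 2 17 2 3 1 2 17 2 3 1 1 6 0 0 87 1) (@D3.rec (fun _ => Nat) 2 20 0 108 109 0 106 108 0 113 1 0 1 0 6 0 111 0 1 2 92 1 2 17 89 1 1 0 1 17 1 2 7 88 1 2 90 17 2 3 17 2 3 91 91 93 110 113 0 0 108) (@D3.rec (fun _ => Nat) 1 0 6 112 6 110 0 91 0 91 1 2 7 7 1 2 18 1 113 0 113 1 2 1 2 18 0 7 1 2 7 0 88 1 2 8 1 2 18 2 3 1 2 18 2 3 109 1 2 18 110) (@D3.rec (fun _ => Nat) 0 110 0 108 1 2 1 2 18 2 18 2 0 1 0 8 0 8 1 2 8 1 2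 8 7 2 3 0 89 1 2 9 1 2 9 121 2 3 3 90 1 2 18 2 3 3 18 3 4 1 65) (@D3.rec (fun _ => Nat) 2 18 3 4 93 91 90 21 5 109 109 111 1 1 2 62 1 17 17 2 0 22 1 1 2 109 1 2 62 0 112 1 1 2 63 63 2 1 1 2 18 62 114 2 65 63 62 1 2 66 2) (@D3.rec (fun _ => Nat) 18 3 4 103 1 20 1 1 2 20 1 2 20 2 0 113 1 0 113 1 2 106 106 1 2 18 0 112 1 0 106 1 2 18 18 2 3 66 106 66 64 0 102 1 1 2 18 0 102 1 0) (@D3.rec (fun _ => Nat) 102 1 2 18 1 2 110 18 2 3 0 1 38 0 81 1 2 1 18 18 2 3 18 3 4 64 64 66 64 66 1 0 0 113 1 0 22 1 2 19 0 106 110 106 0 0 7 1 2 7 108) (@D3.rec (fun _ => Nat) 118 7 0 107 0 1 0 109 1 2 8 19 2 3 8 1 2 19 2 3 1 0 22 1 2 19 1 0 1 61 0 106 1 2 22 19 2 3 1 38 0 1 1 117 1 61 2 1 2 65 2) (@D3.rec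 (fun _ => Nat) 3 19 3 4 58 2 3 3 114 58 60 9 4 5 1 1 0 104 1 2 110 19 2 3 1 2 19 2 3 1 1 2 7 0 104 0 1 2 1 19 0 107 1 2 104 19 2 3 60 1 2) (@D3.rec (fun _ => Nat) 19 2 3 3 19 3 4 7 0 1 2 115 1 38 2 56 0 59 0 57 1 2 59 1 2 19 2 3 3 19 2 3 60 3 3 4 1 2 59 65 2 3 19 3 3 4 58 65 2 3 65)
def lv_b_20 : D2 → D3 → Nat := @D2.rec (fun _ => D3 → Nat) (@D3.rec (fun _ => Nat) 3 4 19 10 4 5 104 59 114 61 65 111 3 119 64 11 4 105 61 65 0 64 11 114 111 119 105 111 22 113 115 77 17 120 83 1 2 81 1 2 123 1 2 83 2 78 1 2 109 110 1) (@D3.rec (fun _ => Nat) 7 2 62 64 1 2 18 2 0 6 1 2 108 1 2 18 1 2 7 0 65 1 2 107 1 2 18 2 3 109 18 1 2 8 32 2 3 1 2 18 2 3 18 2 18 3 107 112 1 2 118) (@D3.rec (fun _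 => Nat) 1 2 87 2 0 106 1 2 110 110 0 7 1 2 0 108 1 2 110 2 1 2 1 36 2 1 1 2 19 2 3 65 19 64 1 2 112 19 2 3 19 2 3 1 2 113 2 0 112 1 2) (@D3.rec (fun _ => Nat) 1 2 107 19 2 3 107 19 2 19 3 4 1 2 7 1 2 1 2 112 2 1 8 2 61 1 2 1 2 19 2 3 86 2 3 19 3 1 2 63 2 19 19 63 107 17 17 17 2 3 0) (@D3.rec (fun _ => Nat) 114 1 2 90 87 2 3 0 111 1 2 92 1 2 92 63 2 3 85 2 3 18 3 4 1 2 18 2 18 18 3 84 2 1 2 19 2 3 19 3 116 2 114 2 114 2 116 7 2 121 2) (@D3.rec (fun _ => Nat) 114 8 3 113 2 123 63 117 19 4 1 2 18 63 1 2 64 1 2 19 2 3 1 2 115 1 2 63 64 2 112 1 2 111 65 2 64 2 3 65 19 2 19 19 2 3 112 7 118 19 1) (@D3.rec (fun _ => Nat) 2 1 2 7 2 3 1 2 61 2 20 1 2 61 118 2 3 117 117 7 1 2 1 2 113 38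 2 3 0 112 1 2 57 1 2 59 2 3 61 1 2 65 2 59 65 119 2 3 114 2 3) (@D3.rec (fun _ => Nat) 20 3 4 114 2 3 116 3 4 62 4 65 8 38 2 57 3 4 1 2 85 65 2 116 2 117 3 65 63 61 1 2 119 1 118 1 77 64 2 3 111 107 20 84 84 2 1 117 2 117 3) (@D3.rec (fun _ => Nat) 4 9 107 0 22 1 0 6 19 6 0 90 0 90 1 2 7 7 1 2 109 1 0 66 1 2 65 65 0 110 1 2 64 0 88 1 2 63 66 2 3 64 2 3 113 115 58 58 64 1 2) (@D3.rec (fun _ => Nat) 63 66 2 3 65 1 2 110 64 2 3 0 8 1 2 66 2 0 81 1 2 63 1 2 67 66 2 3 66 66 2 3 3 66 3 4 64 3 4 119 63 107 58 67 5 1 20 0 0 16 1) (@D3.rec (fun _ => Nat) 1 2 20 1 2 20 2 67 2 1 2 18 18 1 2 18 2 18 2 1 2 18 18 1 2 18 2 18 0 6 6 0 117 0 107 1 2 7 112 0 22 1 2 113 0 84 1 2 7 20 1) (@D3.rec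 (fun _ => Nat) 2 84 1 2 89 85 2 3 86 19 2 3 0 22 1 2 110 1 2 1 2 117 2 3 1 2 22 117 2 3 1 2 39 2 1 1 2 19 2 3 3 37 19 3 1 2 64 2 19 3 4) (@D3.rec (fun _ => Nat) 58 58 0 110 1 2 110 19 2 3 1 2 7 2 3 108 3 4 1 2 120 2 3 122 3 1 7 2 1 2 8 2 39 8 3 86 2 117 3 4 1 57 58 4 19 2 19 60 10 4 5) (@D3.rec (fun _ => Nat) 11 1 77 1 1 2 1 2 17 1 17 17 2 17 2 0 89 0 87 1 2 111 1 2 113 18 1 2 1 2 87 18 2 3 1 2 18 2 3 18 113 2 113 2 18 3 115 2 18 3 82) (@D3.rec (fun _ => Nat) 116 0 1 1 2 83 2 1 0 107 0 111 1 2 108 108 1 2 18 1 18 1 2 1 2 94 1 18 2 3 18 2 3 91 18 18 1 18 117 2 3 3 18 2 3 3 18 3 18 3 4) (@D3.rec (fun _ => Nat) 93 93 0 0 113 1 1 2 19 1 2 7 108 118 7 0 1 2 93 1 2 89 19 2 3 8 113 19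 2 3 117 0 113 1 2 19 2 117 2 1 2 8 86 2 3 1 2 88 19 2 3) (@D3.rec (fun _ => Nat) 3 19 2 19 3 65 2 19 3 4 112 120 2 0 110 1 2 1 2 117 2 116 2 117 113 1 7 1 2 9 1 2 9 8 2 3 87 2 3 89 3 1 2 90 117 2 3 3 119 2 3) (@D3.rec (fun _ => Nat) 3 91 119 3 3 4 4 65 2 19 3 3 4 19 4 65 65 19 4 5 111 22 111 113 62 66 2 18 18 1 2 64 64 2 3 63 2 3 1 2 63 63 2 64 62 116 2 3 112 120 2) (@D3.rec (fun _ => Nat) 68 68 4 5 21 21 21 2 21 2 3 21 1 2 19 1 2 113 19 2 3 106 19 2 3 1 2 19 1 2 108 19 2 3 19 3 4 66 66 1 2 19 19 2 3 1 2 19 1 2 19) (@D3.rec (fun _ => Nat) 2 3 19 2 3 3 19 3 1 38 1 2 19 2 3 19 19 3 4 19 4 5 64 118 1 1 2 119 1 2 20 2 3 1 2 106 108 110 117 1 1 2 8 7 2 3 3 8 118 1 2) (@D3.rec (fun _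 => Nat) 1 114 1 2 108 20 2 3 3 93 20 3 4 65 2 3 20 3 4 120 1 2 20 2 3 113 1 63 1 2 20 2 3 3 20 3 4 113 1 115 115 33 60 65 2 3 65 3 4 20 10) (@D3.rec (fun _ => Nat) 4 5 60 3 114 11 112 60 62 11 5 120 117 1 2 20 2 3 3 62 3 122 2 3 20 3 4 7 40 2 1 2 1 20 2 3 111 1 2 106 20 2 3 3 20 3 4 65 2 3 20) (@D3.rec (fun _ => Nat) 3 3 4 20 11 4 5 1 40 2 3 37 40 1 2 59 1 2 59 67 2 3 3 20 2 3 20 3 3 4 4 60 3 60 60 4 5 67 2 3 66 3 20 58 4 5 65 3 68 4 5) (@D3.rec (fun _ => Nat) 0 20 10 5 119 119 107 114 12 119 0 107 12 1 2 11 97 23 85 2 114 2 3 119 2 85 109 2 7 66 19 2 3 19 1 2 19 2 3 19 2 3 113 2 3 1 2 19 2 3 107) (@D3.rec (fun _ => Nat) 19 2 19 3 4 118 2 3 3 61 3 19 2 3 19 3 19 19 84 2 3 85 2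 3 87 1 2 108 110 2 3 1 2 120 2 1 2 110 2 3 110 38 2 3 39 59 67 84 2 3 20) (@D3.rec (fun _ => Nat) 3 116 2 3 3 20 3 20 3 4 119 2 61 1 2 20 2 3 86 2 3 107 20 3 4 20 20 4 8 2 107 2 3 113 2 61 39 9 118 2 3 86 2 3 20 3 86 3 20 115 2) (@D3.rec (fun _ => Nat) 65 18 3 1 2 92 88 2 3 3 88 3 1 2 94 87 2 3 3 65 2 3 63 3 87 3 19 4 19 2 3 19 19 84 114 2 3 20 3 90 118 119 116 8 121 91 118 91 19 2 64)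
def lv_b_21 : D2 → D3 → Nat := @D2.rec (fun _ => D3 → Nat) (@D3.rec (fun _ => Nat) 2 3 121 2 3 20 3 65 2 64 2 3 65 119 2 3 67 65 3 20 20 3 7 2 117 2 8 3 61 2 61 63 2 3 120 3 112 2 110 2 3 57 3 4 1 2 59 67 2 3 113) (@D3.rec (fun _ => Nat) 2 3 59 3 67 2 65 117 3 115 3 21 35 4 59 3 113 4 64 59 59 4 5 67 2 67 118 109 66 2 66 66 66 3 4 107 84 114 117 89 10 4 5 1 2 111 1 2 7 20 113) (@D3.rec (fun _ => Nat) 7 1 2 90 1 2 92 111 2 3 8 66 2 3 112 1 2 67 66 2 3 67 1 2 112 66 2 3 1 2 90 66 2 3 3 64 3 66 3 4 109 60 60 66 2 3 3 65 118 3 4) (@D3.rec (fun _ => Nat) 66 2 3 3 66 3 1 2 66 2 66 1 2 83 66 2 3 3 66 2 3 66 64 3 4 67 3 3 4 58 4 69 4 5 58 21 1 1 2 21 21 2 21 2 3 21 67 19 2 3 19) (@D3.rec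 (fun _ => Nat) 2 3 19 19 19 2 3 19 2 19 1 2 7 1 2 109 1 2 109 87 2 3 114 1 2 110 115 2 3 1 2 7 2 3 3 94 85 2 3 3 87 2 3 3 87 3 4 20 3 4 1) (@D3.rec (fun _ => Nat) 2 111 117 2 3 39 2 117 2 3 115 3 121 2 3 114 3 4 39 2 3 39 39 86 2 3 20 3 3 4 56 66 2 66 60 4 5 1 2 122 2 3 3 20 3 4 7 2 8 3 58) (@D3.rec (fun _ => Nat) 4 116 2 120 3 62 11 8 8 116 2 111 63 88 118 4 118 58 20 62 62 5 118 18 18 2 18 2 18 18 18 1 2 90 1 2 89 66 2 3 117 2 3 117 2 117 2 3 3 19 3) (@D3.rec (fun _ => Nat) 86 2 19 3 91 115 118 115 112 1 118 115 2 85 19 1 2 108 1 2 113 19 2 3 108 19 2 3 19 118 2 19 2 3 3 19 19 3 19 3 4 91 116 90 3 3 19 3 3 4 19) (@D3.rec (fun _ => Nat) 19 4 5 93 1 1 2 112 119 2 3 112 2 3 3 8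 117 110 1 20 2 3 3 93 20 2 3 3 91 20 3 4 118 20 3 4 1 2 120 2 3 113 117 86 2 3 3 86 3 122 2) (@D3.rec (fun _ => Nat) 3 3 20 3 3 4 90 20 69 20 4 5 116 1 2 117 2 3 118 2 117 116 8 88 2 3 3 114 2 3 90 3 88 3 89 116 2 3 3 120 3 3 4 4 119 3 3 4 4 62 111) (@D3.rec (fun _ => Nat) 4 4 5 5 90 20 20 4 5 95 20 5 23 66 65 2 3 64 3 66 3 65 2 3 66 116 3 122 67 5 22 22 3 20 2 3 20 2 3 3 115 20 3 4 20 3 4 20 2 3 20) (@D3.rec (fun _ => Nat) 2 3 3 20 3 4 20 4 68 20 2 3 20 3 20 2 3 20 2 3 20 3 20 3 3 20 86 20 2 3 20 3 4 20 4 20 5 111 118 2 3 117 2 3 21 3 4 7 2 3 3) (@D3.rec (fun _ => Nat) 108 96 112 110 2 3 3 8 3 3 4 4 120 116 2 116 67 2 3 3 117 21 3 3 4 4 4 21 4 67 3 4 21 31 4 5 123 2 3 21 3 4 63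 67 2 3 21 3 3 4 21) (@D3.rec (fun _ => Nat) 11 4 5 83 67 3 4 66 4 5 68 21 10 5 12 114 11 11 119 2 3 21 3 3 62 122 3 21 36 4 40 117 2 3 111 21 3 4 114 2 3 21 3 3 4 4 21 4 5 67 3) (@D3.rec (fun _ => Nat) 21 21 12 4 5 0 117 12 5 37 40 3 117 2 3 3 69 2 3 3 68 3 3 4 21 3 4 21 60 32 4 4 5 5 62 111 5 67 3 65 21 5 67 70 5 1 2 21 12 110 118) (@D3.rec (fun _ => Nat) 0 1 2 2 3 13 87 116 3 125 111 20 3 113 2 20 3 20 3 4 63 3 20 2 3 20 3 4 20 20 4 120 3 3 64 20 3 20 116 3 87 3 112 2 3 3 112 3 118 2 3) (@D3.rec (fun _ => Nat) 59 86 2 3 112 3 59 3 86 3 21 31 116 3 3 21 21 36 4 5 117 88 2 3 21 3 88 3 4 21 4 21 9 111 3 63 116 3 88 3 21 32 87 115 19 67 2 3 3 89 3) (@D3.rec (fun _ => Nat) 3 89 67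 2 3 3 87 3 3 65 3 65 87 93 20 3 116 3 21 33 20 66 3 113 3 121 36 67 67 3 119 3 67 32 21 36 8 117 117 63 63 3 118 36 116 57 3 4 57 4 5) (@D3.rec (fun _ => Nat) 67 2 3 65 3 118 3 61 31 65 115 36 119 36 0 117 36 59 113 59 5 65 68 89 4 5 90 90 5 116 2 3 118 2 3 3 8 118 111 2 3 3 90 66 2 3 3 94 111 3 4) (@D3.rec (fun _ => Nat) 66 3 4 115 2 3 3 67 66 3 4 66 2 3 3 66 3 4 68 2 3 3 66 3 3 4 58 67 4 5 109 68 3 3 4 60 4 66 3 3 66 85 2 69 68 2 3 3 67 3 3) (@D3.rec (fun _ => Nat) 4 4 68 3 4 60 4 67 66 4 5 65 69 5 119 118 2 3 22 22 3 20 3 20 3 20 3 4 20 119 2 3 85 2 3 3 118 87 2 3 3 111 87 3 4 120 2 3 3 115 3) (@D3.rec (fun _ => Nat) 4 7 2 8 3 3 4 85 3 3 4 87 3 3 4 4 86 4 21 32 4 5 117 2 3 3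 117 3 4 41 114 3 115 115 3 60 4 41 3 86 3 21 58 32 4 5 68 58 5 118 2) (@D3.rec (fun _ => Nat) 3 118 3 3 4 4 21 37 4 5 8 119 119 115 110 62 114 112 62 19 19 66 2 3 3 66 2 3 3 64 3 122 3 119 119 3 3 4 117 86 118 118 126 20 2 3 3 120 20 2 3) (@D3.rec (fun _ => Nat) 3 113 20 3 4 20 3 4 115 20 3 3 4 20 20 4 5 96 94 20 20 4 5 20 5 118 117 2 3 118 3 110 3 3 4 4 4 119 21 3 3 4 4 21 3 3 4 4 4 21 4) (@D3.rec (fun _ => Nat) 5 21 32 4 5 121 2 116 3 88 3 3 88 116 3 3 4 21 21 34 4 5 21 5 116 2 119 3 113 89 3 3 91 3 90 89 118 3 3 4 4 122 111 33 4 4 5 5 62 120 4) (@D3.rec (fun _ => Nat) 4 113 113 5 5 6 21 5 21 66 3 64 66 32 65 3 116 37 68 23 33 21 3 4 21 3 3 4 4 4 21 4 21 32 4 21 3 21 3 3 4 21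 4 21 21 3 21 37 21 3 21) (@D3.rec (fun _ => Nat) 3 21 21 21 21 3 4 21 33 4 21 21 110 3 114 3 4 22 32 4 5 8 3 3 4 4 114 3 3 9 9 4 4 5 120 67 3 3 4 4 4 22 22 32 4 4 4 22 67 32 4)
def lv_b_22 : D2 → D3 → Nat := @D2.rec (fun _ => D3 → Nat) (@D3.rec (fun _ => Nat) 5 0 22 32 5 117 3 22 37 4 67 3 22 22 12 4 5 67 22 5 68 4 66 5 68 92 12 12 13 115 3 22 64 37 118 37 0 117 37 116 3 22 33 4 5 115 3 22 116 4 4) (@D3.rec (fun _ => Nat) 5 5 112 5 67 0 114 5 1 2 116 42 33 111 3 3 70 3 3 4 4 68 67 33 4 22 33 4 5 0 60 22 33 33 5 5 111 67 85 67 2 3 12 1 2 3 115 33 21 32 118) (@D3.rec (fun _ => Nat) 21 21 37 4 5 116 21 3 21 4 21 115 67 21 33 116 87 32 112 3 3 112 61 3 86 3 112 32 59 32 86 32 0 122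 116 37 0 22 37 5 88 3 22 33 88 4 22 111 33 116 33) (@D3.rec (fun _ => Nat) 88 33 0 65 3 3 90 90 34 67 3 3 89 89 33 65 21 34 117 34 0 66 37 116 37 0 67 33 111 33 0 0 117 37 0 59 32 4 5 59 5 67 3 67 32 120 32 0 0 0 1) (@D3.rec (fun _ => Nat) 2 37 61 90 5 91 118 3 4 116 3 3 4 4 113 3 3 4 4 68 3 3 4 4 4 113 4 68 33 4 5 113 3 3 4 115 4 68 3 3 4 67 4 66 3 3 4 66 58 33 4) (@D3.rec (fun _ => Nat) 5 67 5 68 66 4 121 68 112 69 69 3 3 4 4 69 66 31 4 4 5 60 4 68 69 5 68 118 3 23 34 21 33 21 33 21 38 4 5 113 3 87 3 3 4 4 89 3 3 4 4) (@D3.rec (fun _ => Nat) 89 4 120 3 3 4 114 33 4 8 116 86 4 87 86 33 4 5 89 91 33 4 4 5 117 0 60 33 5 119 3 3 4 4 122 38 4 5 115 33 120 60 41 33 88 33 0 58 33 5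 119) (@D3.rec (fun _ => Nat) 121 3 121 119 38 4 4 0 22 38 5 66 3 3 68 3 3 66 114 33 122 118 35 4 21 3 3 4 21 3 3 4 4 4 21 4 21 33 4 21 21 35 4 5 21 5 21 5 21 122 3) (@D3.rec (fun _ => Nat) 112 33 112 117 4 4 4 22 22 35 4 4 5 5 22 22 33 4 4 4 5 5 22 5 0 22 33 5 122 115 35 88 88 35 118 121 35 4 5 0 22 35 5 22 116 122 34 90 90 34 91) (@D3.rec (fun _ => Nat) 122 120 34 4 4 5 0 120 118 34 34 5 5 115 112 113 115 6 22 68 33 0 67 38 0 0 22 33 4 22 22 33 4 4 4 22 0 22 33 22 38 22 22 4 22 22 38 0 22 34 22) (@D3.rec (fun _ => Nat) 22 34 4 0 22 34 112 33 114 33 4 0 23 33 5 9 9 4 4 114 115 33 10 10 5 69 69 33 4 4 4 0 23 23 23 33 33 0 68 33 5 1 2 92 33 33 117 38 0 113 38) (@D3.rec (fun _ =>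 Nat) 68 115 23 5 90 68 68 70 70 12 119 38 0 0 1 2 123 34 0 114 34 5 117 118 114 5 5 88 1 111 2 0 122 115 34 70 67 34 4 4 0 67 34 0 23 34 5 1 2 2 113) (@D3.rec (fun _ => Nat) 87 34 34 3 90 0 0 0 22 38 5 22 34 22 0 0 114 114 33 61 33 88 33 0 0 0 1 0 1 2 23 38 90 34 0 90 0 0 0 1 67 67 35 0 69 67 34 0 0 0 1) (@D3.rec (fun _ => Nat) 0 0 1 0 0 1 1 0 1 0 59 33 5 59 67 33 0 0 1 1 1 2 3 91 121 34 4 114 121 4 4 113 113 34 4 4 5 5 68 68 34 4 4 4 5 5 116 0 67 34 5) (@D3.rec (fun _ => Nat) 115 116 34 4 115 69 111 4 67 68 60 34 4 5 0 60 34 5 67 109 71 68 32 4 4 5 0 68 69 32 32 5 85 69 119 39 0 0 0 0 22 39 5 109 87 87 34 4 4 89 89) (@D3.rec (fun _ => Nat) 34 4 4 89 116 114 34 4 0 62 34 116 0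 86 34 5 0 93 114 34 34 5 1 2 116 34 121 119 39 4 4 0 124 39 5 0 0 0 1 2 115 34 110 39 0 121 112 39 39 1 2) (@D3.rec (fun _ => Nat) 23 39 39 66 66 36 68 66 34 0 0 118 22 22 36 4 22 22 34 4 4 4 22 0 22 0 22 36 5 22 22 117 34 0 95 91 119 0 120 23 36 5 5 0 23 23 23 34 34 5 5) (@D3.rec (fun _ => Nat) 110 1 2 92 34 0 0 0 115 36 5 1 2 23 36 0 0 0 120 119 35 35 5 1 2 2 113 87 35 35 113 0 1 0 1 1 0 23 34 0 23 23 23 34 34 1 2 0 23 0 1) (@D3.rec (fun _ => Nat) 0 0 23 35 1 2 0 0 116 34 1 2 90 34 10 10 0 110 0 69 68 69 34 34 1 2 2 1 2 68 34 2 3 3 34 0 1 2 90 70 0 1 1 2 0 1 2 88 35 117 88) (@D3.rec (fun _ => Nat) 1 0 0 69 72 35 35 1 2 1 2 87 35 2 2 3 3 1 1 1 2 23 39 0 1 1 0 0 0 1 1 1 1 2 3 0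 1 1 1 1 0 1 0 1 1 1 1 1 1 1 1) (@D3.rec (fun _ => Nat) 1 2 61 34 0 1 1 3 0 122 35 102 94 0 88 115 35 5 5 0 70 69 68 35 35 5 5 1 2 69 35 0 117 109 0 60 35 5 1 2 115 35 0 68 71 33 33 5 1 2 2) (@D3.rec (fun _ => Nat) 71 33 0 1 1 1 1 2 23 40 0 89 89 35 0 91 91 35 0 119 35 1 2 1 2 86 35 1 2 2 93 35 2 3 0 121 127 40 40 1 2 110 40 1 1 1 2 3 0 1 2) (@D3.rec (fun _ => Nat) 2 2 3 3 40 0 0 1 1 0 23 0 23 23 23 35 1 1 2 23 37 0 1 1 2 100 101 37 37 1 2 2 94 96 35 35 2 3 1 1 1 2 100 37 2 3 1 1 1 2 2) (@D3.rec (fun _ => Nat) 115 36 2 2 3 3 1 1 1 2 1 2 2 2 1 1 1 1 2 2 1 1 2 2 3 1 1 2 2 2 2 2 3 3 3 4 1 2 1 1 2 3 1 1 2 2 2 2 3 3 3) (@D3.rec (fun _ => Nat) 2 3 1 1 1 1 3 1 1 1 2 3 1 1 2 1 2 102 99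 36 36 1 2 2 97 95 36 36 2 3 1 1 2 114 36 2 3 1 2 2 101 34 2 2 3 1 2 3 1 2 1) (@D3.rec (fun _ => Nat) 2 1 2 2 2 3 2 2 4 3 1 2 2 2 3 3 1 2 2 3 3 4 1 1 1 1 2 2 3 1 2 3 3 2 2 3 4 3 2 3 3 2 2 4 3 3 2 2 2 2 2) (@D3.rec (fun _ => Nat) 3 2 2 3 4 3 2 2 3 3 3 2 2 3 3 2 2 3 4 3 2 3 3 2 2 4 3 3 2 2 2 3 4 2 2 3 4 2 3 3 3 3 4 3 4 3 3 3 4 3 4)
def lv_b : Pt → Nat := @Pt.rec (fun _ => Nat) (@D1.rec (fun _ => D2 → D3 → Nat) lv_b_0 lv_b_1 lv_b_2 lv_b_3 lv_b_4 lv_b_5 lv_b_6 lv_b_7 lv_b_8 lv_b_9 lv_b_10 lv_b_11 lv_b_12 lv_b_13 lv_b_14 lv_b_15 lv_b_16 lv_b_17 lv_b_18 lv_b_19 lv_b_20 lv_b_21 lv_b_22)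
abbrev lc_b_Cert_tree : Cert rels S Gen.b := Cert.tree
abbrev lc_b_rc_10_0 : Cert rels S Gen.b := rc_10_0
abbrev lc_b_rc_10_1 : Cert rels S Gen.b := rc_10_1
abbrev lc_b_rc_11_0 : Cert rels S Gen.b := rc_11_0
abbrev lc_b_rc_11_2 : Cert rels S Gen.b := rc_11_2
abbrev lc_b_rc_11_4 : Cert rels S Gen.b := rc_11_4
abbrev lc_b_rc_12_0 : Cert rels S Gen.b := rc_12_0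
abbrev lc_b_rc_12_2 : Cert rels S Gen.b := rc_12_2
abbrev lc_b_rc_13_0 : Cert rels S Gen.b := rc_13_0
abbrev lc_b_rc_13_2 : Cert rels S Gen.b := rc_13_2
abbrev lc_b_rc_14_0 : Cert rels S Gen.b := rc_14_0
abbrev lc_b_rc_14_2 : Cert rels S Gen.b := rc_14_2
abbrev lc_b_rc_15_0 : Cert rels S Gen.b := rc_15_0
abbrev lc_b_rc_15_2 : Cert rels S Gen.b := rc_15_2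
abbrev lc_b_rc_16_0 : Cert rels S Gen.b := rc_16_0
abbrev lc_b_rc_16_2 : Cert rels S Gen.b := rc_16_2
abbrev lc_b_rc_17_0 : Cert rels S Gen.b := rc_17_0
abbrev lc_b_rc_17_2 : Cert rels S Gen.b := rc_17_2
abbrev lc_b_rc_18_0 : Cert rels S Gen.b := rc_18_0
abbrev lc_b_rc_18_2 : Cert rels S Gen.b := rc_18_2
abbrev lc_b_rc_1_1 : Cert rels S Gen.b := rc_1_1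
abbrev lc_b_rc_1_3 : Cert rels S Gen.b := rc_1_3
abbrev lc_b_rc_1_5 : Cert rels S Gen.b := rc_1_5
abbrev lc_b_rc_55_11 : Cert rels S Gen.b := rc_55_11
abbrev lc_b_rc_55_2 : Cert rels S Gen.b := rc_55_2
abbrev lc_b_rc_55_20 : Cert rels S Gen.b := rc_55_20
abbrev lc_b_rc_55_29 : Cert rels S Gen.b := rc_55_29
abbrev lc_b_rc_55_38 : Cert rels S Gen.b := rc_55_38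
abbrev lc_b_rc_55_47 : Cert rels S Gen.b := rc_55_47
abbrev lc_b_rc_55_56 : Cert rels S Gen.b := rc_55_56
abbrev lc_b_rc_55_65 : Cert rels S Gen.b := rc_55_65
abbrev lc_b_rc_55_74 : Cert rels S Gen.b := rc_55_74
abbrev lc_b_rc_55_83 : Cert rels S Gen.b := rc_55_83
abbrev lc_b_rc_56_15 : Cert rels S Gen.b := rc_56_15
abbrev lc_b_rc_56_22 : Cert rels S Gen.b := rc_56_22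
abbrev lc_b_rc_56_29 : Cert rels S Gen.b := rc_56_29
abbrev lc_b_rc_56_36 : Cert rels S Gen.b := rc_56_36
abbrev lc_b_rc_56_43 : Cert rels S Gen.b := rc_56_43
abbrev lc_b_rc_56_50 : Cert rels S Gen.b := rc_56_50
abbrev lc_b_rc_56_57 : Cert rels S Gen.b := rc_56_57
abbrev lc_b_rc_56_8 : Cert rels S Gen.b := rc_56_8
abbrev lc_b_sc_1_0 : Cert rels S Gen.b := sc_1_0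
def ce_b_0 : D2 → D3 → (Cert rels S Gen.b) := @D2.rec (fun _ => D3 → (Cert rels S Gen.b)) (@D3.rec (fun _ => (Cert rels S Gen.b)) lc_b_sc_1_0 lc_b_rc_17_2 lc_b_rc_16_2 lc_b_rc_15_2 lc_b_rc_13_2 lc_b_rc_12_2 lc_b_Cert_tree lc_b_rc_14_2 lc_b_rc_10_0 lc_b_rc_14_2 lc_b_rc_18_2 lc_b_rc_1_3 lc_b_rc_14_2 lc_b_rc_12_2 lc_b_rc_18_2 lc_b_rc_1_3 lc_b_rc_12_2 lc_b_rc_18_2 lc_b_rc_13_2 lc_b_rc_12_2 lc_b_rc_1_3 lc_b_rc_1_3 lc_b_rc_11_2 lc_b_rc_13_2 lc_b_rc_12_2 lc_b_rc_15_2 lc_b_rc_13_2 lc_b_rc_14_2 lc_b_Cert_tree lc_b_rc_1_3 lc_b_rc_1_3 lc_b_rc_11_2 lc_b_rc_11_2 lc_b_rc_15_2 lc_b_rc_13_2 lc_b_rc_14_2 lc_b_rc_16_2 lc_b_rc_15_2 lc_b_rc_14_2 lc_b_rc_10_0 lc_b_rc_13_2 lc_b_rc_18_2 lc_b_rc_1_3 lc_b_rc_1_3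 lc_b_rc_1_3 lc_b_rc_12_2 lc_b_rc_11_2 lc_b_rc_11_2 lc_b_rc_11_2 lc_b_rc_16_2 lc_b_rc_15_2) (@D3.rec (fun _ => (Cert rels S Gen.b)) lc_b_rc_14_2 lc_b_rc_17_2 lc_b_rc_16_2 lc_b_rc_14_2 lc_b_rc_12_2 lc_b_rc_13_2 lc_b_rc_18_2 lc_b_rc_12_2 lc_b_rc_15_2 lc_b_rc_18_2 lc_b_rc_14_2 lc_b_rc_1_3 lc_b_rc_1_3 lc_b_rc_1_3 lc_b_rc_12_2 lc_b_rc_14_2 lc_b_rc_12_2 lc_b_rc_11_2 lc_b_rc_11_2 lc_b_rc_11_2 lc_b_rc_12_2 lc_b_rc_17_2 lc_b_rc_16_2 lc_b_rc_14_2 lc_b_rc_12_2 lc_b_rc_17_2 lc_b_rc_14_2 lc_b_rc_12_2 lc_b_Cert_tree lc_b_rc_12_2 lc_b_rc_15_2 lc_b_rc_18_2 lc_b_rc_14_2 lc_b_rc_12_2 lc_b_rc_14_2 lc_b_rc_12_2 lc_b_rc_16_2 lc_b_rc_18_2 lc_b_rc_14_2 lc_b_rc_12_2 lc_b_rc_1_3 lc_b_rc_1_3 lc_b_rc_1_3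 lc_b_rc_12_2 lc_b_rc_13_2 lc_b_rc_12_2 lc_b_rc_14_2 lc_b_rc_12_2 lc_b_rc_18_2 lc_b_rc_14_2 lc_b_rc_11_2) (@D3.rec (fun _ => (Cert rels S Gen.b)) lc_b_rc_11_2 lc_b_rc_11_2 lc_b_rc_12_2 lc_b_rc_13_2 lc_b_rc_17_2 lc_b_rc_14_2 lc_b_rc_12_2 lc_b_Cert_tree lc_b_rc_14_2 lc_b_rc_12_2 lc_b_Cert_tree lc_b_rc_13_2 lc_b_rc_10_0 lc_b_rc_11_2 lc_b_rc_12_2 lc_b_rc_14_2 lc_b_rc_12_2 lc_b_rc_16_2 lc_b_rc_18_2 lc_b_rc_14_2 lc_b_rc_12_2 lc_b_rc_13_2 lc_b_rc_12_2 lc_b_rc_14_2 lc_b_rc_12_2 lc_b_rc_18_2 lc_b_rc_14_2 lc_b_rc_17_2 lc_b_rc_18_2 lc_b_rc_14_2 lc_b_rc_12_2 lc_b_rc_13_2 lc_b_rc_1_3 lc_b_rc_1_3 lc_b_rc_12_2 lc_b_Cert_tree lc_b_rc_13_2 lc_b_rc_14_2 lc_b_rc_13_2 lc_b_rc_12_2 lc_b_rc_14_2 lc_b_rc_12_2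 lc_b_rc_18_2 lc_b_rc_14_2 lc_b_rc_18_2 lc_b_rc_14_2 lc_b_rc_11_2 lc_b_rc_11_2 lc_b_rc_12_2 lc_b_Cert_tree lc_b_rc_13_2) (@D3.rec (fun _ => (Cert rels S Gen.b)) lc_b_rc_15_2 lc_b_rc_14_2 lc_b_rc_12_2 lc_b_Cert_tree lc_b_rc_13_2 lc_b_rc_10_0 lc_b_rc_12_2 lc_b_Cert_tree lc_b_rc_13_2 lc_b_rc_10_0 lc_b_rc_13_2 lc_b_rc_1_3 lc_b_rc_11_2 lc_b_rc_11_2 lc_b_rc_11_2 lc_b_rc_13_2 lc_b_rc_12_2 lc_b_rc_14_2 lc_b_rc_12_2 lc_b_rc_18_2 lc_b_rc_14_2 lc_b_rc_17_2 lc_b_rc_18_2 lc_b_rc_14_2 lc_b_rc_12_2 lc_b_rc_11_2 lc_b_rc_13_2 lc_b_rc_13_2 lc_b_rc_14_2 lc_b_rc_13_2 lc_b_rc_12_2 lc_b_rc_14_2 lc_b_rc_12_2 lc_b_rc_18_2 lc_b_rc_14_2 lc_b_rc_18_2 lc_b_rc_12_2 lc_b_rc_18_2 lc_b_rc_14_2 lc_b_rc_12_2 lc_b_Cert_tree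 lc_b_rc_13_2 lc_b_rc_15_2 lc_b_rc_1_3 lc_b_rc_12_2 lc_b_Cert_tree lc_b_rc_13_2 lc_b_rc_10_0 lc_b_rc_15_2 lc_b_rc_13_2 lc_b_rc_14_2) (@D3.rec (fun _ => (Cert rels S Gen.b)) lc_b_rc_13_2 lc_b_rc_12_2 lc_b_rc_18_2 lc_b_rc_14_2 lc_b_rc_14_2 lc_b_rc_12_2 lc_b_rc_18_2 lc_b_rc_14_2 lc_b_rc_18_2 lc_b_rc_14_2 lc_b_rc_18_2 lc_b_Cert_tree lc_b_rc_14_2 lc_b_rc_11_2 lc_b_rc_12_2 lc_b_Cert_tree lc_b_rc_13_2 lc_b_rc_10_0 lc_b_rc_13_2 lc_b_rc_15_2 lc_b_rc_16_2 lc_b_rc_12_2 lc_b_Cert_tree lc_b_rc_13_2 lc_b_rc_10_0 lc_b_rc_13_2 lc_b_rc_1_3 lc_b_Cert_tree lc_b_rc_13_2 lc_b_rc_10_0 lc_b_rc_13_2 lc_b_rc_15_2 lc_b_rc_1_3 lc_b_rc_13_2 lc_b_rc_12_2 lc_b_rc_11_2 lc_b_rc_11_2 lc_b_rc_11_2 lc_b_rc_11_2 lc_b_rc_12_2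 lc_b_rc_11_2 lc_b_rc_11_2 lc_b_rc_13_2 lc_b_rc_14_2 lc_b_rc_13_2 lc_b_rc_12_2 lc_b_rc_14_2 lc_b_rc_12_2 lc_b_rc_18_2 lc_b_rc_14_2 lc_b_rc_18_2) (@D3.rec (fun _ => (Cert rels S Gen.b)) lc_b_rc_12_2 lc_b_rc_18_2 lc_b_rc_14_2 lc_b_rc_12_2 lc_b_Cert_tree lc_b_rc_13_2 lc_b_rc_11_2 lc_b_rc_15_2 lc_b_rc_15_2 lc_b_rc_13_2 lc_b_rc_14_2 lc_b_rc_13_2 lc_b_rc_12_2 lc_b_rc_18_2 lc_b_rc_14_2 lc_b_rc_14_2 lc_b_rc_12_2 lc_b_rc_18_2 lc_b_rc_14_2 lc_b_rc_18_2 lc_b_rc_12_2 lc_b_rc_12_2 lc_b_Cert_tree lc_b_rc_13_2 lc_b_rc_14_2 lc_b_rc_12_2 lc_b_Cert_tree lc_b_rc_13_2 lc_b_rc_10_0 lc_b_rc_13_2 lc_b_rc_15_2 lc_b_rc_16_2 lc_b_rc_12_2 lc_b_Cert_tree lc_b_rc_13_2 lc_b_rc_10_0 lc_b_rc_13_2 lc_b_rc_1_3 lc_b_rc_15_2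 lc_b_rc_15_2 lc_b_rc_15_2 lc_b_rc_14_2 lc_b_rc_13_2 lc_b_rc_12_2 lc_b_rc_18_2 lc_b_rc_14_2 lc_b_Cert_tree lc_b_rc_12_2 lc_b_rc_18_2 lc_b_rc_12_2 lc_b_rc_18_2) (@D3.rec (fun _ => (Cert rels S Gen.b)) lc_b_rc_14_2 lc_b_rc_18_2 lc_b_rc_14_2 lc_b_rc_18_2 lc_b_Cert_tree lc_b_rc_14_2 lc_b_Cert_tree lc_b_rc_18_2 lc_b_rc_10_0 lc_b_rc_13_2 lc_b_rc_15_2 lc_b_rc_12_2 lc_b_Cert_tree lc_b_rc_13_2 lc_b_rc_10_0 lc_b_rc_13_2 lc_b_rc_15_2 lc_b_rc_1_3 lc_b_rc_13_2 lc_b_rc_15_2 lc_b_rc_16_2 lc_b_rc_17_2 lc_b_Cert_tree lc_b_rc_13_2 lc_b_rc_10_0 lc_b_rc_13_2 lc_b_rc_15_2 lc_b_rc_1_3 lc_b_rc_13_2 lc_b_rc_12_2 lc_b_rc_10_0 lc_b_rc_13_2 lc_b_rc_15_2 lc_b_rc_1_3 lc_b_rc_13_2 lc_b_rc_12_2 lc_b_rc_15_2 lc_b_rc_1_3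 lc_b_rc_12_2 lc_b_rc_55_74 lc_b_rc_12_2 lc_b_rc_11_2 lc_b_rc_11_2 lc_b_rc_11_2 lc_b_rc_11_2 lc_b_rc_11_2 lc_b_rc_11_2 lc_b_rc_12_2 lc_b_rc_11_2 lc_b_rc_11_2 lc_b_rc_13_2) (@D3.rec (fun _ => (Cert rels S Gen.b)) lc_b_rc_12_2 lc_b_rc_11_2 lc_b_rc_12_2 lc_b_rc_15_2 lc_b_rc_13_2 lc_b_rc_14_2 lc_b_rc_13_2 lc_b_rc_12_2 lc_b_rc_18_2 lc_b_rc_14_2 lc_b_rc_14_2 lc_b_rc_12_2 lc_b_rc_18_2 lc_b_rc_14_2 lc_b_rc_18_2 lc_b_rc_12_2 lc_b_rc_12_2 lc_b_Cert_tree lc_b_rc_13_2 lc_b_rc_14_2 lc_b_rc_12_2 lc_b_Cert_tree lc_b_rc_13_2 lc_b_rc_10_0 lc_b_rc_13_2 lc_b_rc_15_2 lc_b_rc_12_2 lc_b_rc_11_2 lc_b_rc_16_2 lc_b_rc_15_2 lc_b_rc_15_2 lc_b_rc_15_2 lc_b_rc_14_2 lc_b_rc_13_2 lc_b_rc_12_2 lc_b_rc_18_2 lc_b_rc_14_2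 lc_b_rc_56_29 lc_b_rc_12_2 lc_b_rc_18_2 lc_b_rc_12_2 lc_b_rc_18_2 lc_b_rc_14_2 lc_b_rc_18_2 lc_b_rc_12_2 lc_b_rc_12_2 lc_b_Cert_tree lc_b_rc_13_2 lc_b_Cert_tree lc_b_rc_13_2 lc_b_rc_10_0) (@D3.rec (fun _ => (Cert rels S Gen.b)) lc_b_rc_13_2 lc_b_rc_15_2 lc_b_rc_12_2 lc_b_Cert_tree lc_b_rc_13_2 lc_b_rc_10_0 lc_b_rc_13_2 lc_b_rc_15_2 lc_b_rc_1_3 lc_b_rc_13_2 lc_b_rc_15_2 lc_b_rc_16_2 lc_b_rc_17_2 lc_b_Cert_tree lc_b_rc_13_2 lc_b_rc_10_0 lc_b_rc_13_2 lc_b_rc_15_2 lc_b_rc_1_3 lc_b_rc_13_2 lc_b_rc_12_2 lc_b_rc_16_2 lc_b_rc_15_2 lc_b_rc_15_2 lc_b_rc_12_2 lc_b_rc_18_2 lc_b_rc_15_2 lc_b_rc_12_2 lc_b_rc_18_2 lc_b_rc_14_2 lc_b_Cert_tree lc_b_rc_12_2 lc_b_rc_18_2 lc_b_rc_12_2 lc_b_rc_10_0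 lc_b_rc_56_22 lc_b_rc_14_2 lc_b_rc_12_2 lc_b_Cert_tree lc_b_rc_12_2 lc_b_rc_18_2 lc_b_rc_14_2 lc_b_rc_18_2 lc_b_Cert_tree lc_b_rc_14_2 lc_b_Cert_tree lc_b_rc_18_2 lc_b_rc_10_0 lc_b_rc_13_2 lc_b_rc_15_2 lc_b_rc_10_0) (@D3.rec (fun _ => (Cert rels S Gen.b)) lc_b_rc_13_2 lc_b_rc_18_2 lc_b_rc_1_3 lc_b_rc_13_2 lc_b_rc_12_2 lc_b_rc_15_2 lc_b_rc_16_2 lc_b_Cert_tree lc_b_rc_13_2 lc_b_rc_10_0 lc_b_rc_13_2 lc_b_rc_15_2 lc_b_rc_1_3 lc_b_rc_13_2 lc_b_rc_12_2 lc_b_rc_15_2 lc_b_rc_16_2 lc_b_rc_1_3 lc_b_rc_15_2 lc_b_rc_16_2 lc_b_rc_17_2 lc_b_rc_10_0 lc_b_rc_13_2 lc_b_rc_15_2 lc_b_rc_1_3 lc_b_rc_13_2 lc_b_rc_12_2 lc_b_rc_15_2 lc_b_rc_1_3 lc_b_rc_12_2 lc_b_rc_56_8 lc_b_rc_1_3 lc_b_rc_13_2 lc_b_rc_12_2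 lc_b_rc_15_2 lc_b_rc_16_2 lc_b_rc_1_3 lc_b_rc_12_2 lc_b_rc_15_2 lc_b_rc_12_2 lc_b_rc_16_2 lc_b_rc_1_3 lc_b_rc_12_2 lc_b_rc_12_2 lc_b_rc_11_2 lc_b_rc_11_2 lc_b_rc_11_2 lc_b_rc_11_2 lc_b_rc_11_2 lc_b_rc_11_2 lc_b_rc_11_2) (@D3.rec (fun _ => (Cert rels S Gen.b)) lc_b_rc_11_2 lc_b_rc_12_2 lc_b_rc_11_2 lc_b_rc_11_2 lc_b_rc_12_2 lc_b_rc_11_2 lc_b_rc_12_2 lc_b_rc_13_2 lc_b_rc_14_2 lc_b_rc_12_2 lc_b_Cert_tree lc_b_rc_13_2 lc_b_rc_15_2 lc_b_rc_15_2 lc_b_rc_15_2 lc_b_rc_14_2 lc_b_rc_13_2 lc_b_rc_12_2 lc_b_rc_18_2 lc_b_rc_14_2 lc_b_rc_12_2 lc_b_rc_18_2 lc_b_rc_12_2 lc_b_rc_18_2 lc_b_rc_14_2 lc_b_rc_18_2 lc_b_rc_12_2 lc_b_rc_12_2 lc_b_Cert_tree lc_b_rc_13_2 lc_b_Cert_tree lc_b_rc_13_2 lc_b_rc_10_0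 lc_b_rc_13_2 lc_b_rc_15_2 lc_b_rc_12_2 lc_b_Cert_tree lc_b_rc_13_2 lc_b_rc_10_0 lc_b_rc_13_2 lc_b_rc_15_2 lc_b_rc_1_3 lc_b_rc_13_2 lc_b_rc_12_2 lc_b_rc_15_2 lc_b_rc_16_2 lc_b_rc_12_2 lc_b_rc_14_2 lc_b_rc_11_2 lc_b_rc_17_2 lc_b_rc_16_2) (@D3.rec (fun _ => (Cert rels S Gen.b)) lc_b_rc_15_2 lc_b_rc_15_2 lc_b_rc_12_2 lc_b_rc_18_2 lc_b_rc_14_2 lc_b_rc_12_2 lc_b_rc_18_2 lc_b_rc_14_2 lc_b_rc_16_2 lc_b_rc_12_2 lc_b_rc_18_2 lc_b_rc_12_2 lc_b_rc_18_2 lc_b_rc_14_2 lc_b_rc_12_2 lc_b_Cert_tree lc_b_rc_13_2 lc_b_rc_18_2 lc_b_rc_12_2 lc_b_rc_12_2 lc_b_Cert_tree lc_b_rc_13_2 lc_b_Cert_tree lc_b_rc_13_2 lc_b_rc_10_0 lc_b_rc_13_2 lc_b_rc_15_2 lc_b_rc_10_0 lc_b_rc_13_2 lc_b_rc_15_2 lc_b_rc_1_3 lc_b_rc_13_2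 lc_b_rc_12_2 lc_b_rc_15_2 lc_b_rc_16_2 lc_b_Cert_tree lc_b_rc_13_2 lc_b_rc_10_0 lc_b_rc_13_2 lc_b_rc_15_2 lc_b_rc_1_3 lc_b_rc_13_2 lc_b_rc_12_2 lc_b_rc_15_2 lc_b_rc_16_2 lc_b_rc_1_3 lc_b_rc_15_2 lc_b_rc_16_2 lc_b_rc_17_2 lc_b_rc_10_0 lc_b_rc_13_2) (@D3.rec (fun _ => (Cert rels S Gen.b)) lc_b_rc_15_2 lc_b_rc_1_3 lc_b_rc_13_2 lc_b_rc_12_2 lc_b_rc_15_2 lc_b_rc_1_3 lc_b_rc_12_2 lc_b_rc_14_2 lc_b_rc_16_2 lc_b_rc_16_2 lc_b_rc_12_2 lc_b_rc_18_2 lc_b_rc_15_2 lc_b_Cert_tree lc_b_rc_13_2 lc_b_rc_12_2 lc_b_rc_18_2 lc_b_rc_12_2 lc_b_Cert_tree lc_b_rc_12_2 lc_b_rc_18_2 lc_b_rc_12_2 lc_b_rc_10_0 lc_b_rc_16_2 lc_b_rc_14_2 lc_b_rc_12_2 lc_b_Cert_tree lc_b_rc_12_2 lc_b_rc_14_2 lc_b_rc_1_1 lc_b_rc_12_2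 lc_b_rc_10_0 lc_b_rc_13_2 lc_b_rc_12_2 lc_b_rc_18_2 lc_b_Cert_tree lc_b_rc_14_2 lc_b_Cert_tree lc_b_rc_18_2 lc_b_rc_10_0 lc_b_rc_13_2 lc_b_rc_15_2 lc_b_rc_10_0 lc_b_rc_13_2 lc_b_rc_18_2 lc_b_rc_1_3 lc_b_rc_13_2 lc_b_rc_12_2 lc_b_rc_15_2 lc_b_rc_16_2 lc_b_rc_1_3) (@D3.rec (fun _ => (Cert rels S Gen.b)) lc_b_rc_13_2 lc_b_rc_12_2 lc_b_rc_15_2 lc_b_rc_18_2 lc_b_rc_1_3 lc_b_rc_12_2 lc_b_rc_15_2 lc_b_rc_12_2 lc_b_rc_16_2 lc_b_rc_17_2 lc_b_rc_10_0 lc_b_rc_13_2 lc_b_rc_15_2 lc_b_rc_1_3 lc_b_rc_13_2 lc_b_rc_12_2 lc_b_rc_15_2 lc_b_rc_16_2 lc_b_rc_1_3 lc_b_rc_12_2 lc_b_rc_15_2 lc_b_rc_12_2 lc_b_rc_15_0 lc_b_rc_16_2 lc_b_rc_17_2 lc_b_rc_1_3 lc_b_rc_16_2 lc_b_rc_17_2 lc_b_rc_1_3 lc_b_rc_13_2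 lc_b_rc_12_2 lc_b_rc_15_2 lc_b_rc_16_2 lc_b_rc_1_3 lc_b_rc_12_2 lc_b_rc_15_2 lc_b_rc_12_2 lc_b_rc_1_5 lc_b_rc_1_3 lc_b_rc_1_3 lc_b_rc_12_2 lc_b_rc_15_2 lc_b_rc_12_2 lc_b_rc_17_2 lc_b_rc_16_2 lc_b_rc_1_3 lc_b_rc_1_3 lc_b_rc_12_2 lc_b_rc_13_2 lc_b_rc_13_0 lc_b_rc_12_2) (@D3.rec (fun _ => (Cert rels S Gen.b)) lc_b_rc_12_2 lc_b_rc_12_2 lc_b_rc_14_2 lc_b_rc_11_2 lc_b_rc_11_2 lc_b_rc_11_2 lc_b_rc_11_2 lc_b_rc_11_2 lc_b_rc_11_2 lc_b_rc_11_2 lc_b_rc_11_2 lc_b_rc_12_2 lc_b_rc_12_2 lc_b_rc_11_2 lc_b_rc_11_2 lc_b_rc_12_2 lc_b_rc_11_2 lc_b_rc_12_2 lc_b_rc_14_2 lc_b_rc_12_2 lc_b_Cert_tree lc_b_rc_13_2 lc_b_rc_14_2 lc_b_rc_14_2 lc_b_Cert_tree lc_b_rc_13_2 lc_b_rc_10_0 lc_b_rc_13_2 lc_b_rc_15_2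 lc_b_rc_16_2 lc_b_rc_15_2 lc_b_rc_15_2 lc_b_rc_12_2 lc_b_rc_18_2 lc_b_rc_14_2 lc_b_rc_12_2 lc_b_rc_18_2 lc_b_rc_14_2 lc_b_rc_12_2 lc_b_rc_18_2 lc_b_rc_12_2 lc_b_rc_14_2 lc_b_rc_12_2 lc_b_Cert_tree lc_b_rc_13_2 lc_b_rc_18_2 lc_b_rc_12_2 lc_b_rc_12_2 lc_b_Cert_tree lc_b_rc_13_2 lc_b_Cert_tree) (@D3.rec (fun _ => (Cert rels S Gen.b)) lc_b_rc_13_2 lc_b_rc_10_0 lc_b_rc_13_2 lc_b_rc_15_2 lc_b_rc_10_0 lc_b_rc_13_2 lc_b_rc_15_2 lc_b_rc_1_3 lc_b_rc_13_2 lc_b_rc_12_2 lc_b_rc_15_2 lc_b_rc_16_2 lc_b_Cert_tree lc_b_rc_13_2 lc_b_rc_10_0 lc_b_rc_13_2 lc_b_rc_15_2 lc_b_rc_1_3 lc_b_rc_13_2 lc_b_rc_12_2 lc_b_rc_15_2 lc_b_rc_16_2 lc_b_rc_1_3 lc_b_rc_12_2 lc_b_rc_15_2 lc_b_rc_12_2 lc_b_rc_14_2 lc_b_rc_16_2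 lc_b_rc_17_2 lc_b_rc_13_2 lc_b_rc_12_2 lc_b_rc_14_2 lc_b_rc_18_2 lc_b_rc_11_2 lc_b_rc_16_2 lc_b_rc_16_2 lc_b_rc_12_2 lc_b_rc_18_2 lc_b_rc_14_2 lc_b_rc_15_2 lc_b_rc_13_2 lc_b_rc_12_2 lc_b_rc_14_2 lc_b_rc_12_2 lc_b_rc_17_2 lc_b_rc_12_2 lc_b_rc_18_2 lc_b_rc_12_2 lc_b_rc_18_2 lc_b_rc_14_2 lc_b_rc_12_2) (@D3.rec (fun _ => (Cert rels S Gen.b)) lc_b_Cert_tree lc_b_rc_13_2 lc_b_rc_14_2 lc_b_Cert_tree lc_b_rc_13_2 lc_b_rc_10_0 lc_b_rc_13_2 lc_b_rc_15_2 lc_b_rc_12_2 lc_b_Cert_tree lc_b_rc_13_2 lc_b_Cert_tree lc_b_rc_13_2 lc_b_rc_10_0 lc_b_rc_13_2 lc_b_rc_15_2 lc_b_rc_10_0 lc_b_rc_13_2 lc_b_rc_15_2 lc_b_rc_1_3 lc_b_rc_13_2 lc_b_rc_12_2 lc_b_rc_15_2 lc_b_rc_16_2 lc_b_rc_1_3 lc_b_rc_13_2 lc_b_rc_12_2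 lc_b_rc_15_2 lc_b_rc_16_2 lc_b_rc_1_3 lc_b_rc_12_2 lc_b_rc_15_2 lc_b_rc_12_2 lc_b_rc_16_2 lc_b_rc_17_2 lc_b_rc_10_0 lc_b_rc_13_2 lc_b_rc_15_2 lc_b_rc_1_3 lc_b_rc_13_2 lc_b_rc_12_2 lc_b_rc_15_2 lc_b_rc_16_2 lc_b_rc_1_3 lc_b_rc_12_2 lc_b_rc_15_2 lc_b_rc_12_2 lc_b_rc_14_2 lc_b_rc_16_2 lc_b_rc_17_2 lc_b_rc_1_3) (@D3.rec (fun _ => (Cert rels S Gen.b)) lc_b_rc_16_2 lc_b_rc_17_2 lc_b_rc_1_3 lc_b_rc_13_2 lc_b_rc_12_2 lc_b_rc_15_2 lc_b_rc_16_2 lc_b_rc_1_3 lc_b_rc_12_2 lc_b_rc_15_2 lc_b_rc_12_2 lc_b_rc_14_2 lc_b_rc_1_3 lc_b_rc_11_2 lc_b_rc_14_2 lc_b_rc_13_0 lc_b_rc_12_2 lc_b_rc_18_2 lc_b_rc_16_2 lc_b_Cert_tree lc_b_rc_13_2 lc_b_rc_12_2 lc_b_rc_18_2 lc_b_rc_12_2 lc_b_rc_10_0 lc_b_rc_13_2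 lc_b_rc_13_0 lc_b_rc_13_2 lc_b_rc_14_2 lc_b_rc_12_2 lc_b_Cert_tree lc_b_rc_13_2 lc_b_rc_10_0 lc_b_rc_17_2 lc_b_rc_14_2 lc_b_rc_12_2 lc_b_Cert_tree lc_b_rc_12_2 lc_b_rc_14_2 lc_b_rc_1_1 lc_b_rc_12_2 lc_b_rc_10_0 lc_b_rc_13_2 lc_b_rc_12_2 lc_b_rc_14_2 lc_b_rc_17_0 lc_b_rc_12_2 lc_b_rc_13_2 lc_b_rc_12_2 lc_b_rc_15_2 lc_b_rc_12_2) (@D3.rec (fun _ => (Cert rels S Gen.b)) lc_b_Cert_tree lc_b_rc_18_2 lc_b_rc_10_0 lc_b_rc_13_2 lc_b_rc_15_2 lc_b_rc_10_0 lc_b_rc_13_2 lc_b_rc_18_2 lc_b_rc_1_3 lc_b_rc_13_2 lc_b_rc_12_2 lc_b_rc_15_2 lc_b_rc_16_2 lc_b_rc_1_3 lc_b_rc_13_2 lc_b_rc_12_2 lc_b_rc_15_2 lc_b_rc_18_2 lc_b_rc_1_3 lc_b_rc_12_2 lc_b_rc_15_2 lc_b_rc_12_2 lc_b_rc_56_22 lc_b_rc_16_2 lc_b_rc_17_2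 lc_b_rc_1_3 lc_b_rc_12_2 lc_b_rc_15_2 lc_b_rc_12_2 lc_b_rc_14_2 lc_b_rc_16_2 lc_b_rc_18_2 lc_b_rc_1_3 lc_b_rc_1_3 lc_b_rc_11_2 lc_b_rc_12_2 lc_b_rc_16_2 lc_b_rc_13_2 lc_b_rc_12_2 lc_b_rc_17_2 lc_b_rc_1_3 lc_b_rc_13_2 lc_b_rc_12_2 lc_b_rc_15_2 lc_b_rc_16_2 lc_b_rc_1_3 lc_b_rc_12_2 lc_b_rc_15_2 lc_b_rc_12_2 lc_b_rc_1_5 lc_b_rc_16_2) (@D3.rec (fun _ => (Cert rels S Gen.b)) lc_b_rc_17_2 lc_b_rc_1_3 lc_b_rc_1_3 lc_b_rc_12_2 lc_b_rc_16_2 lc_b_rc_12_2 lc_b_rc_17_2 lc_b_rc_17_2 lc_b_rc_1_3 lc_b_rc_17_2 lc_b_rc_1_3 lc_b_rc_12_2 lc_b_rc_15_2 lc_b_rc_12_2 lc_b_rc_1_5 lc_b_rc_16_2 lc_b_rc_1_3 lc_b_rc_1_3 lc_b_rc_12_2 lc_b_rc_13_2 lc_b_rc_1_5 lc_b_rc_1_3 lc_b_rc_1_3 lc_b_rc_12_2 lc_b_rc_16_2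 lc_b_rc_13_2 lc_b_rc_12_2 lc_b_rc_14_2 lc_b_rc_1_3 lc_b_rc_13_2 lc_b_rc_55_74 lc_b_rc_13_2 lc_b_rc_12_2 lc_b_rc_12_2 lc_b_rc_12_2 lc_b_rc_14_2 lc_b_rc_14_2 lc_b_rc_11_2 lc_b_rc_11_2 lc_b_rc_11_2 lc_b_rc_11_2 lc_b_rc_11_2 lc_b_rc_11_2 lc_b_rc_11_2 lc_b_rc_11_2 lc_b_rc_12_2 lc_b_rc_12_2 lc_b_Cert_tree lc_b_rc_13_2 lc_b_rc_12_2 lc_b_rc_11_2) (@D3.rec (fun _ => (Cert rels S Gen.b)) lc_b_rc_12_2 lc_b_rc_14_2 lc_b_rc_12_2 lc_b_Cert_tree lc_b_rc_13_2 lc_b_rc_14_2 lc_b_Cert_tree lc_b_rc_13_2 lc_b_rc_10_0 lc_b_rc_13_2 lc_b_rc_15_2 lc_b_rc_12_2 lc_b_Cert_tree lc_b_rc_14_2 lc_b_rc_10_0 lc_b_rc_13_2 lc_b_rc_15_2 lc_b_rc_1_3 lc_b_rc_13_2 lc_b_rc_12_2 lc_b_rc_15_2 lc_b_rc_16_2 lc_b_rc_16_2 lc_b_rc_16_2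 lc_b_rc_12_2 lc_b_rc_18_2 lc_b_rc_14_2 lc_b_rc_13_2 lc_b_rc_12_2 lc_b_rc_14_2 lc_b_rc_12_2 lc_b_rc_12_2 lc_b_rc_18_2 lc_b_rc_12_2 lc_b_rc_14_2 lc_b_rc_12_2 lc_b_Cert_tree lc_b_rc_13_2 lc_b_rc_14_2 lc_b_Cert_tree lc_b_rc_13_2 lc_b_rc_10_0 lc_b_rc_13_2 lc_b_rc_15_2 lc_b_rc_12_2 lc_b_Cert_tree lc_b_rc_13_2 lc_b_Cert_tree lc_b_rc_13_2 lc_b_rc_10_0 lc_b_rc_13_2) (@D3.rec (fun _ => (Cert rels S Gen.b)) lc_b_rc_15_2 lc_b_rc_10_0 lc_b_rc_13_2 lc_b_rc_15_2 lc_b_rc_1_3 lc_b_rc_13_2 lc_b_rc_12_2 lc_b_rc_15_2 lc_b_rc_16_2 lc_b_rc_1_3 lc_b_rc_13_2 lc_b_rc_12_2 lc_b_rc_15_2 lc_b_rc_16_2 lc_b_rc_1_3 lc_b_rc_12_2 lc_b_rc_15_2 lc_b_rc_12_2 lc_b_rc_14_2 lc_b_rc_16_2 lc_b_rc_17_2 lc_b_rc_10_0 lc_b_rc_13_2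 lc_b_rc_15_2 lc_b_rc_1_3 lc_b_rc_13_2 lc_b_rc_12_2 lc_b_rc_15_2 lc_b_rc_16_2 lc_b_rc_1_3 lc_b_rc_12_2 lc_b_rc_15_2 lc_b_rc_12_2 lc_b_rc_14_2 lc_b_rc_16_2 lc_b_rc_17_2 lc_b_rc_1_3 lc_b_rc_1_3 lc_b_rc_12_2 lc_b_rc_14_2 lc_b_rc_16_2 lc_b_rc_13_2 lc_b_rc_12_2 lc_b_rc_14_2 lc_b_rc_18_2 lc_b_rc_17_2 lc_b_rc_13_2 lc_b_rc_14_2 lc_b_rc_12_2 lc_b_rc_14_2 lc_b_rc_18_2) (@D3.rec (fun _ => (Cert rels S Gen.b)) lc_b_rc_12_2 lc_b_rc_18_2 lc_b_rc_14_2 lc_b_rc_15_2 lc_b_rc_13_2 lc_b_rc_12_2 lc_b_rc_14_2 lc_b_rc_12_2 lc_b_rc_56_36 lc_b_rc_15_2 lc_b_rc_13_2 lc_b_rc_14_2 lc_b_rc_12_2 lc_b_Cert_tree lc_b_rc_13_2 lc_b_rc_18_2 lc_b_rc_14_2 lc_b_rc_12_2 lc_b_Cert_tree lc_b_rc_13_2 lc_b_rc_14_2 lc_b_Cert_tree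 lc_b_rc_13_2 lc_b_rc_10_0 lc_b_rc_13_2 lc_b_rc_15_2 lc_b_rc_14_2 lc_b_rc_10_0 lc_b_rc_13_2 lc_b_rc_15_2 lc_b_rc_13_0 lc_b_rc_13_2 lc_b_rc_12_2 lc_b_rc_15_2 lc_b_rc_16_2 lc_b_Cert_tree lc_b_rc_13_2 lc_b_rc_10_0 lc_b_rc_13_2 lc_b_rc_15_2 lc_b_rc_10_0 lc_b_rc_13_2 lc_b_rc_15_2 lc_b_rc_1_3 lc_b_rc_13_2 lc_b_rc_12_2 lc_b_rc_15_2 lc_b_rc_16_2 lc_b_rc_1_3 lc_b_rc_13_2 lc_b_rc_12_2) (@D3.rec (fun _ => (Cert rels S Gen.b)) lc_b_rc_15_2 lc_b_rc_16_2 lc_b_rc_1_3 lc_b_rc_12_2 lc_b_rc_15_2 lc_b_rc_12_2 lc_b_rc_14_2 lc_b_rc_16_2 lc_b_rc_17_2 lc_b_rc_1_3 lc_b_rc_12_2 lc_b_rc_15_2 lc_b_rc_12_2 lc_b_rc_14_2 lc_b_rc_16_2 lc_b_rc_17_2 lc_b_rc_1_3 lc_b_rc_1_3 lc_b_rc_11_2 lc_b_rc_12_2 lc_b_rc_16_2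 lc_b_rc_13_2 lc_b_rc_12_2 lc_b_rc_17_2 lc_b_rc_1_3 lc_b_rc_13_2 lc_b_rc_12_2 lc_b_rc_15_2 lc_b_rc_16_2 lc_b_rc_1_3 lc_b_rc_12_2 lc_b_rc_15_2 lc_b_rc_12_2 lc_b_rc_14_2 lc_b_rc_16_2 lc_b_rc_17_2 lc_b_rc_1_3 lc_b_rc_1_3 lc_b_rc_11_2 lc_b_rc_12_2 lc_b_rc_14_2 lc_b_rc_16_2 lc_b_rc_12_2 lc_b_rc_14_2 lc_b_rc_12_0 lc_b_rc_17_2 lc_b_rc_1_3 lc_b_rc_17_2 lc_b_rc_1_3 lc_b_rc_12_2 lc_b_rc_15_2) (@D3.rec (fun _ => (Cert rels S Gen.b)) lc_b_rc_12_2 lc_b_rc_14_2 lc_b_rc_16_2 lc_b_rc_1_3 lc_b_rc_1_3 lc_b_rc_11_2 lc_b_rc_12_2 lc_b_rc_14_2 lc_b_rc_13_2 lc_b_rc_14_2 lc_b_rc_14_2 lc_b_rc_13_0 lc_b_rc_11_2 lc_b_Cert_tree lc_b_rc_13_2 lc_b_rc_12_2 lc_b_rc_18_2 lc_b_rc_12_2 lc_b_rc_10_0 lc_b_rc_13_2 lc_b_rc_14_2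 lc_b_rc_13_2 lc_b_rc_14_2 lc_b_rc_12_2 lc_b_Cert_tree lc_b_rc_13_2 lc_b_rc_13_2 lc_b_rc_12_2 lc_b_rc_1_1 lc_b_rc_14_2 lc_b_rc_14_2 lc_b_rc_1_1 lc_b_rc_13_2 lc_b_rc_10_0 lc_b_rc_13_2 lc_b_rc_13_2 lc_b_rc_14_2 lc_b_rc_1_1 lc_b_rc_12_2 lc_b_rc_10_0 lc_b_rc_13_2 lc_b_rc_12_2 lc_b_rc_14_2 lc_b_rc_16_2 lc_b_rc_12_2 lc_b_rc_13_2 lc_b_rc_12_2 lc_b_rc_15_2 lc_b_rc_12_2 lc_b_rc_14_2 lc_b_rc_1_1) (@D3.rec (fun _ => (Cert rels S Gen.b)) lc_b_rc_14_2 lc_b_rc_12_2 lc_b_rc_12_2 lc_b_rc_15_2 lc_b_rc_12_2 lc_b_rc_14_2 lc_b_rc_16_2 lc_b_rc_12_2 lc_b_rc_10_0 lc_b_rc_13_2 lc_b_rc_18_2 lc_b_rc_1_3 lc_b_rc_13_2 lc_b_rc_12_2 lc_b_rc_15_2 lc_b_rc_16_2 lc_b_rc_1_3 lc_b_rc_13_2 lc_b_rc_12_2 lc_b_rc_15_2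 lc_b_rc_18_2 lc_b_rc_1_3 lc_b_rc_12_2 lc_b_rc_15_2 lc_b_rc_12_2 lc_b_rc_1_5 lc_b_rc_16_2 lc_b_rc_17_2 lc_b_rc_1_3 lc_b_rc_12_2 lc_b_rc_15_2 lc_b_rc_12_2 lc_b_rc_11_2 lc_b_rc_16_2 lc_b_rc_18_2 lc_b_rc_1_3 lc_b_rc_1_3 lc_b_rc_12_2 lc_b_rc_16_2 lc_b_rc_13_2 lc_b_rc_12_2 lc_b_rc_1_5 lc_b_rc_17_2 lc_b_rc_1_3 lc_b_rc_1_3 lc_b_rc_11_2 lc_b_rc_12_2 lc_b_rc_14_2 lc_b_rc_16_2 lc_b_rc_13_2 lc_b_rc_12_2) (@D3.rec (fun _ => (Cert rels S Gen.b)) lc_b_rc_14_2 lc_b_rc_17_2 lc_b_Cert_tree lc_b_rc_1_3 lc_b_rc_1_3 lc_b_rc_11_2 lc_b_rc_13_2 lc_b_rc_12_2 lc_b_rc_17_2 lc_b_rc_13_2 lc_b_rc_12_2 lc_b_rc_1_3 lc_b_rc_12_2 lc_b_rc_15_2 lc_b_rc_12_2 lc_b_rc_17_2 lc_b_rc_16_2 lc_b_rc_17_2 lc_b_rc_1_3 lc_b_rc_1_3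 lc_b_rc_12_2 lc_b_rc_16_2 lc_b_rc_13_2 lc_b_rc_12_2 lc_b_rc_1_5 lc_b_rc_17_2 lc_b_rc_1_3 lc_b_rc_1_3 lc_b_rc_12_2 lc_b_rc_17_2 lc_b_rc_12_2 lc_b_rc_16_2 lc_b_rc_1_3 lc_b_rc_1_3 lc_b_rc_1_3 lc_b_rc_12_2 lc_b_rc_16_2 lc_b_rc_13_2 lc_b_rc_12_2 lc_b_rc_1_5 lc_b_rc_1_3 lc_b_rc_13_2 lc_b_rc_13_2 lc_b_rc_1_3 lc_b_rc_1_3 lc_b_rc_13_2 lc_b_rc_12_2 lc_b_rc_13_2 lc_b_rc_14_2 lc_b_rc_14_2 lc_b_rc_1_3)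
def ce_b_1 : D2 → D3 → (Cert rels S Gen.b) := @D2.rec (fun _ => D3 → (Cert rels S Gen.b)) (@D3.rec (fun _ => (Cert rels S Gen.b)) lc_b_rc_12_2 lc_b_rc_13_2 lc_b_rc_13_2 lc_b_rc_12_2 lc_b_rc_12_2 lc_b_rc_14_2 lc_b_rc_14_2 lc_b_rc_14_2 lc_b_Cert_tree lc_b_rc_14_2 lc_b_rc_11_2 lc_b_rc_11_2 lc_b_rc_11_2 lc_b_rc_11_2 lc_b_rc_11_2 lc_b_rc_12_2 lc_b_rc_11_2 lc_b_rc_12_2 lc_b_rc_12_2 lc_b_Cert_tree lc_b_rc_13_2 lc_b_Cert_tree lc_b_rc_13_2 lc_b_rc_10_0 lc_b_rc_13_2 lc_b_rc_15_2 lc_b_rc_14_2 lc_b_rc_12_2 lc_b_Cert_tree lc_b_rc_13_2 lc_b_rc_14_2 lc_b_Cert_tree lc_b_rc_13_2 lc_b_rc_10_0 lc_b_rc_13_2 lc_b_rc_15_2 lc_b_Cert_tree lc_b_rc_14_2 lc_b_rc_10_0 lc_b_rc_13_2 lc_b_rc_15_2 lc_b_rc_1_3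 lc_b_rc_13_2 lc_b_rc_12_2 lc_b_rc_15_2 lc_b_rc_16_2 lc_b_Cert_tree lc_b_rc_12_2 lc_b_rc_10_0 lc_b_rc_13_2 lc_b_rc_15_2) (@D3.rec (fun _ => (Cert rels S Gen.b)) lc_b_rc_1_3 lc_b_rc_13_2 lc_b_rc_12_2 lc_b_rc_15_2 lc_b_rc_16_2 lc_b_rc_1_3 lc_b_rc_12_2 lc_b_rc_15_2 lc_b_rc_12_2 lc_b_rc_14_2 lc_b_rc_16_2 lc_b_rc_17_2 lc_b_rc_12_2 lc_b_rc_18_2 lc_b_rc_14_2 lc_b_rc_13_2 lc_b_rc_12_2 lc_b_rc_14_2 lc_b_rc_12_2 lc_b_rc_13_2 lc_b_rc_14_2 lc_b_rc_12_2 lc_b_Cert_tree lc_b_rc_13_2 lc_b_rc_14_2 lc_b_rc_12_2 lc_b_Cert_tree lc_b_rc_13_2 lc_b_rc_14_2 lc_b_Cert_tree lc_b_rc_13_2 lc_b_rc_10_0 lc_b_rc_13_2 lc_b_rc_15_2 lc_b_rc_13_0 lc_b_rc_14_2 lc_b_rc_10_0 lc_b_rc_13_2 lc_b_rc_15_2 lc_b_rc_1_3 lc_b_rc_13_2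 lc_b_rc_12_2 lc_b_rc_15_2 lc_b_rc_16_2 lc_b_Cert_tree lc_b_rc_13_2 lc_b_rc_10_0 lc_b_rc_13_2 lc_b_rc_15_2 lc_b_rc_10_0 lc_b_rc_13_2) (@D3.rec (fun _ => (Cert rels S Gen.b)) lc_b_rc_15_2 lc_b_rc_1_3 lc_b_rc_13_2 lc_b_rc_12_2 lc_b_rc_15_2 lc_b_rc_16_2 lc_b_rc_1_3 lc_b_rc_13_2 lc_b_rc_12_2 lc_b_rc_15_2 lc_b_rc_16_2 lc_b_rc_1_3 lc_b_rc_12_2 lc_b_rc_15_2 lc_b_rc_12_2 lc_b_rc_14_2 lc_b_rc_16_2 lc_b_rc_17_2 lc_b_rc_1_3 lc_b_rc_12_2 lc_b_rc_15_2 lc_b_rc_12_2 lc_b_rc_14_2 lc_b_rc_16_2 lc_b_rc_17_2 lc_b_rc_1_3 lc_b_rc_1_3 lc_b_rc_11_2 lc_b_rc_12_2 lc_b_rc_14_2 lc_b_rc_16_2 lc_b_rc_13_2 lc_b_rc_12_2 lc_b_rc_14_2 lc_b_rc_18_2 lc_b_rc_17_2 lc_b_rc_1_3 lc_b_rc_13_2 lc_b_rc_12_2 lc_b_rc_15_2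 lc_b_rc_16_2 lc_b_rc_1_3 lc_b_rc_12_2 lc_b_rc_15_2 lc_b_rc_12_2 lc_b_rc_14_2 lc_b_rc_16_2 lc_b_rc_17_2 lc_b_rc_1_3 lc_b_rc_1_3 lc_b_rc_11_2) (@D3.rec (fun _ => (Cert rels S Gen.b)) lc_b_rc_12_2 lc_b_rc_14_2 lc_b_rc_16_2 lc_b_rc_13_2 lc_b_rc_12_2 lc_b_rc_14_2 lc_b_rc_18_2 lc_b_rc_17_2 lc_b_rc_1_3 lc_b_rc_1_3 lc_b_rc_1_3 lc_b_rc_13_2 lc_b_rc_12_2 lc_b_rc_14_2 lc_b_rc_18_2 lc_b_rc_17_2 lc_b_rc_13_2 lc_b_rc_14_2 lc_b_rc_12_2 lc_b_rc_14_2 lc_b_rc_18_2 lc_b_rc_15_2 lc_b_rc_13_2 lc_b_rc_14_2 lc_b_rc_12_2 lc_b_rc_18_2 lc_b_rc_14_2 lc_b_rc_18_2 lc_b_rc_16_2 lc_b_rc_13_2 lc_b_rc_12_2 lc_b_rc_14_2 lc_b_rc_12_2 lc_b_rc_56_36 lc_b_rc_15_2 lc_b_rc_13_2 lc_b_rc_14_2 lc_b_rc_12_2 lc_b_Cert_tree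 lc_b_rc_13_2 lc_b_rc_12_2 lc_b_rc_11_4 lc_b_rc_14_2 lc_b_rc_12_2 lc_b_Cert_tree lc_b_rc_13_2 lc_b_rc_10_0 lc_b_rc_13_2 lc_b_rc_13_2 lc_b_rc_14_2 lc_b_Cert_tree) (@D3.rec (fun _ => (Cert rels S Gen.b)) lc_b_rc_13_2 lc_b_rc_10_0 lc_b_rc_13_2 lc_b_rc_15_2 lc_b_rc_14_2 lc_b_rc_10_0 lc_b_rc_13_2 lc_b_rc_15_2 lc_b_rc_13_0 lc_b_rc_13_2 lc_b_rc_12_2 lc_b_rc_15_2 lc_b_rc_16_2 lc_b_rc_15_2 lc_b_rc_13_2 lc_b_rc_12_2 lc_b_rc_15_2 lc_b_rc_16_2 lc_b_rc_12_0 lc_b_rc_12_2 lc_b_rc_15_2 lc_b_rc_12_2 lc_b_rc_14_2 lc_b_rc_16_2 lc_b_rc_17_2 lc_b_rc_10_0 lc_b_rc_13_2 lc_b_rc_15_2 lc_b_rc_1_3 lc_b_rc_13_2 lc_b_rc_12_2 lc_b_rc_15_2 lc_b_rc_16_2 lc_b_rc_1_3 lc_b_rc_13_2 lc_b_rc_12_2 lc_b_rc_15_2 lc_b_rc_16_2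 lc_b_rc_1_3 lc_b_rc_12_2 lc_b_rc_15_2 lc_b_rc_12_2 lc_b_rc_14_2 lc_b_rc_16_2 lc_b_rc_17_2 lc_b_rc_1_3 lc_b_rc_12_2 lc_b_rc_15_2 lc_b_rc_12_2 lc_b_rc_14_2 lc_b_rc_16_2) (@D3.rec (fun _ => (Cert rels S Gen.b)) lc_b_rc_17_2 lc_b_rc_1_3 lc_b_rc_1_3 lc_b_rc_11_2 lc_b_rc_12_2 lc_b_rc_14_2 lc_b_rc_16_2 lc_b_rc_13_2 lc_b_rc_12_2 lc_b_rc_14_2 lc_b_rc_11_0 lc_b_rc_17_2 lc_b_rc_1_3 lc_b_rc_1_3 lc_b_rc_11_2 lc_b_rc_12_2 lc_b_rc_14_2 lc_b_rc_16_2 lc_b_rc_13_2 lc_b_rc_12_2 lc_b_rc_14_2 lc_b_rc_17_2 lc_b_Cert_tree lc_b_rc_1_3 lc_b_rc_1_3 lc_b_rc_11_2 lc_b_rc_13_2 lc_b_rc_12_2 lc_b_rc_17_2 lc_b_rc_13_2 lc_b_rc_12_2 lc_b_rc_1_3 lc_b_rc_12_2 lc_b_rc_15_2 lc_b_rc_12_2 lc_b_rc_14_2 lc_b_rc_16_2 lc_b_rc_17_2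 lc_b_rc_1_3 lc_b_rc_1_3 lc_b_rc_11_2 lc_b_rc_12_2 lc_b_rc_14_2 lc_b_rc_16_2 lc_b_rc_13_2 lc_b_rc_12_2 lc_b_rc_14_2 lc_b_rc_12_0 lc_b_rc_17_2 lc_b_rc_11_2 lc_b_rc_1_3) (@D3.rec (fun _ => (Cert rels S Gen.b)) lc_b_rc_1_3 lc_b_rc_11_2 lc_b_rc_11_2 lc_b_rc_12_2 lc_b_rc_14_2 lc_b_rc_17_2 lc_b_rc_12_2 lc_b_rc_14_2 lc_b_rc_12_0 lc_b_rc_1_3 lc_b_rc_1_3 lc_b_rc_1_3 lc_b_rc_11_2 lc_b_rc_12_2 lc_b_rc_14_2 lc_b_rc_16_2 lc_b_rc_13_2 lc_b_rc_12_2 lc_b_rc_14_2 lc_b_rc_13_0 lc_b_rc_16_2 lc_b_rc_1_3 lc_b_rc_11_2 lc_b_rc_11_2 lc_b_rc_13_2 lc_b_rc_14_2 lc_b_rc_14_2 lc_b_rc_15_2 lc_b_rc_12_2 lc_b_rc_10_0 lc_b_rc_13_2 lc_b_rc_14_2 lc_b_rc_15_2 lc_b_rc_13_2 lc_b_rc_14_2 lc_b_rc_12_2 lc_b_Cert_tree lc_b_rc_13_2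 lc_b_rc_13_2 lc_b_rc_12_2 lc_b_rc_14_2 lc_b_rc_14_2 lc_b_rc_14_2 lc_b_rc_1_1 lc_b_rc_13_2 lc_b_rc_10_0 lc_b_rc_13_2 lc_b_rc_13_2 lc_b_rc_12_2 lc_b_rc_14_2 lc_b_rc_12_2) (@D3.rec (fun _ => (Cert rels S Gen.b)) lc_b_rc_12_2 lc_b_rc_14_2 lc_b_rc_13_2 lc_b_rc_13_2 lc_b_rc_13_2 lc_b_rc_12_2 lc_b_rc_15_2 lc_b_rc_13_2 lc_b_rc_14_2 lc_b_rc_1_1 lc_b_rc_12_2 lc_b_rc_13_2 lc_b_rc_12_2 lc_b_rc_15_2 lc_b_rc_12_2 lc_b_rc_14_2 lc_b_rc_1_1 lc_b_rc_1_1 lc_b_rc_12_2 lc_b_rc_12_2 lc_b_rc_15_2 lc_b_rc_12_2 lc_b_rc_14_2 lc_b_rc_16_2 lc_b_rc_12_2 lc_b_rc_14_2 lc_b_rc_56_22 lc_b_rc_1_1 lc_b_rc_12_2 lc_b_rc_11_2 lc_b_rc_12_2 lc_b_rc_14_2 lc_b_rc_16_2 lc_b_rc_13_2 lc_b_rc_12_2 lc_b_rc_14_2 lc_b_rc_17_2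 lc_b_rc_1_3 lc_b_rc_13_2 lc_b_rc_12_2 lc_b_rc_15_2 lc_b_rc_18_2 lc_b_rc_1_3 lc_b_rc_12_2 lc_b_rc_15_2 lc_b_rc_12_2 lc_b_rc_1_5 lc_b_rc_16_2 lc_b_rc_17_2 lc_b_rc_1_3 lc_b_rc_12_2) (@D3.rec (fun _ => (Cert rels S Gen.b)) lc_b_rc_15_2 lc_b_rc_12_2 lc_b_rc_11_2 lc_b_rc_16_2 lc_b_rc_18_2 lc_b_rc_1_3 lc_b_rc_1_3 lc_b_rc_12_2 lc_b_rc_16_2 lc_b_rc_13_2 lc_b_rc_12_2 lc_b_rc_1_5 lc_b_rc_17_2 lc_b_rc_1_3 lc_b_rc_1_3 lc_b_rc_12_2 lc_b_rc_16_2 lc_b_rc_13_2 lc_b_rc_12_2 lc_b_rc_11_2 lc_b_rc_17_2 lc_b_rc_1_3 lc_b_rc_1_3 lc_b_rc_13_2 lc_b_rc_12_2 lc_b_rc_17_2 lc_b_rc_13_2 lc_b_rc_56_22 lc_b_rc_12_2 lc_b_rc_1_5 lc_b_Cert_tree lc_b_rc_1_3 lc_b_rc_1_3 lc_b_rc_1_3 lc_b_rc_11_2 lc_b_rc_11_2 lc_b_rc_13_2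 lc_b_rc_12_2 lc_b_rc_14_2 lc_b_rc_17_2 lc_b_rc_13_2 lc_b_rc_14_2 lc_b_rc_12_2 lc_b_rc_14_2 lc_b_rc_10_0 lc_b_rc_15_2 lc_b_rc_1_3 lc_b_rc_1_3 lc_b_rc_1_3 lc_b_rc_11_2 lc_b_rc_11_2) (@D3.rec (fun _ => (Cert rels S Gen.b)) lc_b_rc_13_2 lc_b_rc_12_2 lc_b_rc_15_2 lc_b_rc_13_2 lc_b_rc_1_3 lc_b_rc_1_3 lc_b_rc_12_2 lc_b_rc_16_2 lc_b_rc_13_2 lc_b_rc_12_2 lc_b_rc_1_5 lc_b_rc_17_2 lc_b_rc_1_3 lc_b_rc_1_3 lc_b_rc_13_2 lc_b_rc_12_2 lc_b_rc_17_2 lc_b_rc_13_2 lc_b_rc_13_2 lc_b_rc_12_2 lc_b_rc_1_5 lc_b_rc_1_3 lc_b_rc_1_3 lc_b_rc_12_2 lc_b_rc_1_5 lc_b_rc_1_3 lc_b_rc_1_3 lc_b_rc_13_2 lc_b_rc_12_2 lc_b_rc_13_2 lc_b_rc_13_2 lc_b_rc_1_5 lc_b_rc_1_3 lc_b_rc_12_2 lc_b_rc_1_3 lc_b_rc_1_3 lc_b_rc_13_2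 lc_b_rc_15_2 lc_b_rc_14_2 lc_b_rc_17_2 lc_b_rc_56_57 lc_b_rc_13_2 lc_b_rc_13_2 lc_b_rc_14_2 lc_b_rc_12_2 lc_b_rc_14_2 lc_b_rc_14_2 lc_b_rc_14_2 lc_b_Cert_tree lc_b_rc_14_2 lc_b_rc_10_0) (@D3.rec (fun _ => (Cert rels S Gen.b)) lc_b_rc_13_2 lc_b_rc_15_2 lc_b_rc_11_2 lc_b_rc_11_2 lc_b_rc_11_2 lc_b_rc_12_2 lc_b_rc_12_2 lc_b_Cert_tree lc_b_rc_13_2 lc_b_rc_12_2 lc_b_Cert_tree lc_b_rc_13_2 lc_b_Cert_tree lc_b_rc_13_2 lc_b_rc_10_0 lc_b_rc_13_2 lc_b_rc_15_2 lc_b_rc_10_0 lc_b_rc_13_2 lc_b_rc_15_2 lc_b_rc_1_3 lc_b_rc_13_2 lc_b_rc_12_2 lc_b_rc_15_2 lc_b_rc_16_2 lc_b_rc_14_2 lc_b_Cert_tree lc_b_rc_13_2 lc_b_rc_10_0 lc_b_rc_13_2 lc_b_rc_15_2 lc_b_Cert_tree lc_b_rc_14_2 lc_b_rc_10_0 lc_b_rc_13_2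 lc_b_rc_15_2 lc_b_rc_1_3 lc_b_rc_13_2 lc_b_rc_12_2 lc_b_rc_15_2 lc_b_rc_16_2 lc_b_rc_10_0 lc_b_rc_13_2 lc_b_rc_15_2 lc_b_rc_1_3 lc_b_rc_13_2 lc_b_rc_12_2 lc_b_rc_15_2 lc_b_rc_16_2 lc_b_rc_1_3 lc_b_rc_12_2) (@D3.rec (fun _ => (Cert rels S Gen.b)) lc_b_rc_15_2 lc_b_rc_12_2 lc_b_rc_14_2 lc_b_rc_16_2 lc_b_rc_17_2 lc_b_rc_10_0 lc_b_rc_13_2 lc_b_rc_12_2 lc_b_rc_1_3 lc_b_rc_13_2 lc_b_rc_12_2 lc_b_rc_15_2 lc_b_rc_16_2 lc_b_rc_1_3 lc_b_rc_12_2 lc_b_rc_15_2 lc_b_rc_12_2 lc_b_rc_14_2 lc_b_rc_16_2 lc_b_rc_17_2 lc_b_rc_1_3 lc_b_rc_1_3 lc_b_rc_11_2 lc_b_rc_12_2 lc_b_rc_14_2 lc_b_rc_16_2 lc_b_rc_13_2 lc_b_rc_12_2 lc_b_rc_14_2 lc_b_rc_18_2 lc_b_rc_17_2 lc_b_rc_13_2 lc_b_rc_12_2 lc_b_rc_14_2 lc_b_rc_12_2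 lc_b_rc_13_2 lc_b_rc_14_2 lc_b_rc_12_2 lc_b_Cert_tree lc_b_rc_13_2 lc_b_rc_14_2 lc_b_rc_12_2 lc_b_Cert_tree lc_b_rc_13_2 lc_b_rc_10_0 lc_b_rc_13_2 lc_b_rc_13_2 lc_b_rc_14_2 lc_b_Cert_tree lc_b_rc_13_2 lc_b_rc_10_0) (@D3.rec (fun _ => (Cert rels S Gen.b)) lc_b_rc_13_2 lc_b_rc_15_2 lc_b_rc_16_2 lc_b_rc_14_2 lc_b_rc_10_0 lc_b_rc_13_2 lc_b_rc_15_2 lc_b_rc_1_3 lc_b_rc_13_2 lc_b_rc_12_2 lc_b_rc_15_2 lc_b_rc_16_2 lc_b_rc_12_0 lc_b_rc_15_2 lc_b_rc_13_2 lc_b_rc_12_2 lc_b_rc_15_2 lc_b_rc_16_2 lc_b_rc_1_3 lc_b_rc_12_2 lc_b_rc_15_2 lc_b_rc_12_2 lc_b_rc_14_2 lc_b_rc_16_2 lc_b_rc_17_2 lc_b_rc_10_0 lc_b_rc_13_2 lc_b_rc_15_2 lc_b_rc_1_3 lc_b_rc_13_2 lc_b_rc_12_2 lc_b_rc_15_2 lc_b_rc_16_2 lc_b_rc_1_3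 lc_b_rc_13_2 lc_b_rc_12_2 lc_b_rc_15_2 lc_b_rc_16_2 lc_b_rc_1_3 lc_b_rc_12_2 lc_b_rc_15_2 lc_b_rc_12_2 lc_b_rc_14_2 lc_b_rc_16_2 lc_b_rc_17_2 lc_b_rc_1_3 lc_b_rc_12_2 lc_b_rc_15_2 lc_b_rc_12_2 lc_b_rc_14_2 lc_b_rc_16_2) (@D3.rec (fun _ => (Cert rels S Gen.b)) lc_b_rc_17_2 lc_b_rc_1_3 lc_b_rc_1_3 lc_b_rc_11_2 lc_b_rc_12_2 lc_b_rc_14_2 lc_b_rc_16_2 lc_b_rc_13_2 lc_b_rc_12_2 lc_b_rc_14_2 lc_b_rc_18_2 lc_b_rc_17_2 lc_b_rc_1_3 lc_b_rc_1_3 lc_b_rc_11_2 lc_b_rc_12_2 lc_b_rc_14_2 lc_b_rc_16_2 lc_b_rc_13_2 lc_b_rc_12_2 lc_b_rc_14_2 lc_b_rc_13_2 lc_b_rc_17_2 lc_b_rc_56_36 lc_b_rc_1_3 lc_b_rc_1_3 lc_b_rc_1_3 lc_b_rc_11_2 lc_b_rc_11_2 lc_b_rc_13_2 lc_b_rc_12_2 lc_b_rc_14_2 lc_b_rc_18_2 lc_b_rc_17_2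 lc_b_rc_13_2 lc_b_rc_14_2 lc_b_rc_12_2 lc_b_rc_14_2 lc_b_rc_18_2 lc_b_rc_1_3 lc_b_rc_12_2 lc_b_rc_15_2 lc_b_rc_12_2 lc_b_rc_14_2 lc_b_rc_16_2 lc_b_rc_17_2 lc_b_rc_1_3 lc_b_rc_1_3 lc_b_rc_11_2 lc_b_rc_12_2 lc_b_rc_14_2) (@D3.rec (fun _ => (Cert rels S Gen.b)) lc_b_rc_16_2 lc_b_rc_13_2 lc_b_rc_12_2 lc_b_rc_14_2 lc_b_rc_18_2 lc_b_rc_17_2 lc_b_rc_1_3 lc_b_rc_1_3 lc_b_rc_1_3 lc_b_rc_1_3 lc_b_rc_11_2 lc_b_rc_11_2 lc_b_rc_13_2 lc_b_rc_12_2 lc_b_rc_14_2 lc_b_rc_18_2 lc_b_rc_17_2 lc_b_rc_13_2 lc_b_rc_14_2 lc_b_rc_12_2 lc_b_rc_14_2 lc_b_rc_18_2 lc_b_rc_1_3 lc_b_rc_1_3 lc_b_rc_1_3 lc_b_rc_1_3 lc_b_rc_1_3 lc_b_rc_13_2 lc_b_rc_14_2 lc_b_rc_12_2 lc_b_rc_14_2 lc_b_rc_18_2 lc_b_rc_15_2 lc_b_rc_13_2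 lc_b_rc_14_2 lc_b_rc_12_2 lc_b_rc_18_2 lc_b_rc_14_2 lc_b_rc_18_2 lc_b_rc_15_2 lc_b_rc_15_2 lc_b_rc_14_2 lc_b_rc_12_2 lc_b_rc_18_2 lc_b_Cert_tree lc_b_rc_12_2 lc_b_rc_18_2 lc_b_rc_11_4 lc_b_rc_16_2 lc_b_rc_15_2 lc_b_rc_13_2) (@D3.rec (fun _ => (Cert rels S Gen.b)) lc_b_rc_14_2 lc_b_rc_12_2 lc_b_Cert_tree lc_b_rc_13_2 lc_b_rc_12_2 lc_b_rc_11_4 lc_b_rc_14_2 lc_b_rc_12_2 lc_b_Cert_tree lc_b_rc_13_2 lc_b_rc_10_0 lc_b_rc_13_2 lc_b_rc_13_2 lc_b_rc_14_2 lc_b_rc_12_2 lc_b_rc_12_2 lc_b_rc_13_2 lc_b_rc_10_0 lc_b_rc_13_2 lc_b_rc_13_2 lc_b_rc_15_2 lc_b_rc_13_2 lc_b_rc_12_2 lc_b_rc_15_2 lc_b_rc_13_2 lc_b_rc_14_2 lc_b_rc_10_0 lc_b_rc_13_2 lc_b_rc_15_2 lc_b_rc_14_0 lc_b_rc_13_2 lc_b_rc_12_2 lc_b_rc_15_2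 lc_b_rc_16_2 lc_b_rc_15_2 lc_b_rc_13_2 lc_b_rc_12_2 lc_b_rc_15_2 lc_b_rc_16_2 lc_b_rc_14_0 lc_b_rc_12_2 lc_b_rc_15_2 lc_b_rc_12_2 lc_b_rc_14_2 lc_b_rc_16_2 lc_b_rc_17_2 lc_b_rc_16_2 lc_b_rc_12_2 lc_b_rc_15_2 lc_b_rc_12_2 lc_b_rc_16_2) (@D3.rec (fun _ => (Cert rels S Gen.b)) lc_b_rc_17_2 lc_b_rc_11_0 lc_b_rc_12_0 lc_b_rc_11_2 lc_b_rc_12_2 lc_b_rc_14_2 lc_b_rc_16_2 lc_b_rc_13_2 lc_b_rc_12_2 lc_b_rc_14_2 lc_b_rc_18_2 lc_b_rc_17_2 lc_b_rc_1_3 lc_b_rc_13_2 lc_b_rc_12_2 lc_b_rc_15_2 lc_b_rc_16_2 lc_b_rc_1_3 lc_b_rc_12_2 lc_b_rc_15_2 lc_b_rc_12_2 lc_b_rc_14_2 lc_b_rc_16_2 lc_b_rc_17_2 lc_b_rc_1_3 lc_b_rc_12_2 lc_b_rc_15_2 lc_b_rc_12_2 lc_b_rc_14_2 lc_b_rc_16_2 lc_b_rc_17_2 lc_b_rc_1_3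 lc_b_rc_1_3 lc_b_rc_11_2 lc_b_rc_12_2 lc_b_rc_14_2 lc_b_rc_16_2 lc_b_rc_13_2 lc_b_rc_12_2 lc_b_rc_14_2 lc_b_rc_13_2 lc_b_rc_17_2 lc_b_rc_1_3 lc_b_rc_1_3 lc_b_rc_11_2 lc_b_rc_12_2 lc_b_rc_14_2 lc_b_rc_16_2 lc_b_rc_13_2 lc_b_rc_12_2 lc_b_rc_14_2) (@D3.rec (fun _ => (Cert rels S Gen.b)) lc_b_rc_14_2 lc_b_rc_17_2 lc_b_rc_15_0 lc_b_rc_1_3 lc_b_rc_1_3 lc_b_rc_11_2 lc_b_rc_11_2 lc_b_rc_13_2 lc_b_rc_12_2 lc_b_rc_14_2 lc_b_rc_17_2 lc_b_rc_13_2 lc_b_rc_14_2 lc_b_rc_12_2 lc_b_rc_14_2 lc_b_rc_11_0 lc_b_rc_12_0 lc_b_rc_1_3 lc_b_rc_1_3 lc_b_rc_1_3 lc_b_rc_11_2 lc_b_rc_11_2 lc_b_rc_13_2 lc_b_rc_12_2 lc_b_rc_14_2 lc_b_rc_17_2 lc_b_rc_13_2 lc_b_rc_14_2 lc_b_rc_12_2 lc_b_rc_14_2 lc_b_rc_10_0 lc_b_rc_15_2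 lc_b_rc_1_3 lc_b_rc_1_3 lc_b_rc_1_3 lc_b_rc_11_2 lc_b_rc_11_2 lc_b_rc_13_2 lc_b_rc_12_2 lc_b_rc_15_2 lc_b_rc_13_2 lc_b_rc_1_3 lc_b_rc_1_3 lc_b_rc_11_2 lc_b_rc_12_2 lc_b_rc_14_2 lc_b_rc_16_2 lc_b_rc_13_2 lc_b_rc_12_2 lc_b_rc_14_2 lc_b_rc_14_2) (@D3.rec (fun _ => (Cert rels S Gen.b)) lc_b_rc_17_2 lc_b_rc_16_2 lc_b_rc_1_3 lc_b_rc_1_3 lc_b_rc_11_2 lc_b_rc_11_2 lc_b_rc_13_2 lc_b_rc_12_2 lc_b_rc_14_2 lc_b_rc_17_2 lc_b_rc_13_2 lc_b_rc_14_2 lc_b_rc_12_2 lc_b_rc_14_2 lc_b_rc_15_2 lc_b_rc_15_2 lc_b_rc_1_3 lc_b_rc_1_3 lc_b_rc_11_2 lc_b_rc_11_2 lc_b_rc_11_0 lc_b_rc_12_2 lc_b_rc_14_2 lc_b_rc_14_2 lc_b_rc_13_2 lc_b_rc_17_2 lc_b_rc_1_3 lc_b_rc_1_3 lc_b_rc_11_2 lc_b_rc_11_2 lc_b_rc_13_2 lc_b_rc_12_2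 lc_b_rc_14_2 lc_b_rc_13_2 lc_b_rc_14_2 lc_b_rc_14_2 lc_b_rc_15_2 lc_b_rc_11_2 lc_b_rc_1_3 lc_b_rc_11_2 lc_b_rc_11_2 lc_b_rc_12_2 lc_b_rc_14_2 lc_b_rc_12_2 lc_b_rc_13_2 lc_b_rc_12_0 lc_b_rc_13_2 lc_b_rc_12_2 lc_b_rc_15_2 lc_b_rc_14_2 lc_b_rc_15_2) (@D3.rec (fun _ => (Cert rels S Gen.b)) lc_b_rc_14_2 lc_b_rc_14_2 lc_b_rc_1_1 lc_b_rc_13_2 lc_b_rc_10_0 lc_b_rc_13_2 lc_b_rc_15_2 lc_b_rc_12_2 lc_b_rc_14_2 lc_b_rc_17_2 lc_b_rc_12_2 lc_b_rc_14_2 lc_b_rc_13_2 lc_b_rc_13_2 lc_b_rc_13_2 lc_b_rc_12_2 lc_b_rc_15_2 lc_b_rc_13_2 lc_b_rc_11_2 lc_b_rc_14_2 lc_b_rc_12_2 lc_b_rc_14_2 lc_b_rc_12_2 lc_b_rc_13_2 lc_b_rc_13_2 lc_b_rc_12_2 lc_b_rc_15_2 lc_b_rc_12_2 lc_b_rc_14_2 lc_b_rc_16_2 lc_b_rc_13_2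 lc_b_rc_14_2 lc_b_rc_1_1 lc_b_rc_1_1 lc_b_rc_12_2 lc_b_rc_12_2 lc_b_rc_15_2 lc_b_rc_12_2 lc_b_rc_14_2 lc_b_rc_16_2 lc_b_rc_12_2 lc_b_rc_14_2 lc_b_rc_1_1 lc_b_rc_1_1 lc_b_rc_12_2 lc_b_rc_11_2 lc_b_rc_12_2 lc_b_rc_14_2 lc_b_rc_16_2 lc_b_rc_13_2 lc_b_rc_12_2) (@D3.rec (fun _ => (Cert rels S Gen.b)) lc_b_rc_14_2 lc_b_rc_17_2 lc_b_rc_14_2 lc_b_rc_56_22 lc_b_rc_1_1 lc_b_rc_17_2 lc_b_rc_11_2 lc_b_rc_13_2 lc_b_rc_12_2 lc_b_rc_14_2 lc_b_rc_17_2 lc_b_rc_13_2 lc_b_rc_14_2 lc_b_rc_12_2 lc_b_rc_14_2 lc_b_rc_1_3 lc_b_rc_12_2 lc_b_rc_15_2 lc_b_rc_12_2 lc_b_rc_11_2 lc_b_rc_16_2 lc_b_rc_18_2 lc_b_rc_1_3 lc_b_rc_1_3 lc_b_rc_12_2 lc_b_rc_16_2 lc_b_rc_13_2 lc_b_rc_12_2 lc_b_rc_1_5 lc_b_rc_17_2 lc_b_rc_1_3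 lc_b_rc_1_3 lc_b_rc_12_2 lc_b_rc_16_2 lc_b_rc_13_2 lc_b_rc_12_2 lc_b_rc_11_2 lc_b_rc_17_2 lc_b_rc_1_3 lc_b_rc_1_3 lc_b_rc_13_2 lc_b_rc_12_2 lc_b_rc_17_2 lc_b_rc_13_2 lc_b_rc_13_2 lc_b_rc_12_2 lc_b_rc_1_5 lc_b_rc_1_3 lc_b_rc_1_3 lc_b_rc_13_2 lc_b_rc_12_2) (@D3.rec (fun _ => (Cert rels S Gen.b)) lc_b_rc_17_2 lc_b_rc_13_2 lc_b_rc_11_2 lc_b_rc_12_2 lc_b_rc_11_2 lc_b_rc_1_3 lc_b_rc_1_3 lc_b_rc_1_3 lc_b_rc_13_2 lc_b_rc_12_2 lc_b_rc_15_2 lc_b_rc_13_2 lc_b_rc_1_5 lc_b_rc_1_5 lc_b_rc_10_0 lc_b_rc_15_2 lc_b_rc_11_4 lc_b_rc_1_3 lc_b_rc_1_3 lc_b_rc_1_3 lc_b_rc_1_3 lc_b_rc_11_2 lc_b_rc_11_2 lc_b_rc_11_2 lc_b_rc_12_2 lc_b_rc_13_2 lc_b_rc_14_2 lc_b_rc_12_2 lc_b_rc_14_2 lc_b_rc_15_2 lc_b_rc_13_2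 lc_b_rc_14_2 lc_b_rc_12_2 lc_b_rc_14_2 lc_b_rc_15_2 lc_b_rc_13_2 lc_b_rc_16_2 lc_b_rc_1_3 lc_b_rc_1_3 lc_b_rc_12_2 lc_b_rc_11_2 lc_b_rc_11_2 lc_b_rc_15_2 lc_b_rc_13_2 lc_b_rc_15_2 lc_b_rc_1_3 lc_b_rc_1_3 lc_b_rc_13_2 lc_b_rc_12_2 lc_b_rc_17_2 lc_b_rc_13_2) (@D3.rec (fun _ => (Cert rels S Gen.b)) lc_b_rc_13_2 lc_b_rc_12_2 lc_b_rc_1_5 lc_b_rc_1_3 lc_b_rc_1_3 lc_b_rc_1_3 lc_b_rc_13_2 lc_b_rc_12_2 lc_b_rc_13_2 lc_b_rc_13_2 lc_b_rc_12_2 lc_b_rc_1_5 lc_b_rc_1_3 lc_b_rc_1_3 lc_b_rc_1_3 lc_b_rc_13_2 lc_b_rc_15_2 lc_b_rc_13_2 lc_b_rc_12_2 lc_b_rc_11_4 lc_b_rc_1_3 lc_b_rc_15_2 lc_b_rc_14_2 lc_b_rc_12_2 lc_b_rc_56_57 lc_b_rc_15_2 lc_b_rc_13_2 lc_b_rc_14_2 lc_b_rc_12_2 lc_b_rc_14_2 lc_b_rc_14_2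 lc_b_Cert_tree lc_b_rc_14_2 lc_b_Cert_tree lc_b_rc_14_2 lc_b_rc_10_0 lc_b_rc_13_2 lc_b_rc_15_2 lc_b_rc_1_3 lc_b_rc_13_2 lc_b_rc_12_2 lc_b_rc_15_2 lc_b_rc_16_2 lc_b_rc_11_2 lc_b_rc_12_2 lc_b_rc_12_2 lc_b_Cert_tree lc_b_rc_13_2 lc_b_Cert_tree lc_b_rc_13_2 lc_b_rc_10_0) (@D3.rec (fun _ => (Cert rels S Gen.b)) lc_b_rc_13_2 lc_b_rc_15_2 lc_b_Cert_tree lc_b_rc_13_2 lc_b_rc_10_0 lc_b_rc_13_2 lc_b_rc_15_2 lc_b_rc_10_0 lc_b_rc_13_2 lc_b_rc_15_2 lc_b_rc_1_3 lc_b_rc_13_2 lc_b_rc_12_2 lc_b_rc_15_2 lc_b_rc_16_2 lc_b_rc_13_2 lc_b_rc_12_2 lc_b_rc_15_2 lc_b_rc_16_2 lc_b_rc_1_3 lc_b_rc_12_2 lc_b_rc_15_2 lc_b_rc_12_2 lc_b_rc_14_2 lc_b_rc_16_2 lc_b_rc_17_2 lc_b_Cert_tree lc_b_rc_14_2 lc_b_rc_10_0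 lc_b_rc_13_2 lc_b_rc_15_2 lc_b_rc_1_3 lc_b_rc_13_2 lc_b_rc_12_2 lc_b_rc_15_2 lc_b_rc_16_2 lc_b_rc_10_0 lc_b_rc_13_2 lc_b_rc_15_2 lc_b_rc_1_3 lc_b_rc_13_2 lc_b_rc_12_2 lc_b_rc_15_2 lc_b_rc_16_2 lc_b_rc_1_3 lc_b_rc_12_2 lc_b_rc_15_2 lc_b_rc_12_2 lc_b_rc_14_2 lc_b_rc_16_2 lc_b_rc_17_2) (@D3.rec (fun _ => (Cert rels S Gen.b)) lc_b_rc_1_3 lc_b_rc_13_2 lc_b_rc_12_2 lc_b_rc_15_2 lc_b_rc_16_2 lc_b_rc_1_3 lc_b_rc_12_2 lc_b_rc_15_2 lc_b_rc_12_2 lc_b_rc_14_2 lc_b_rc_16_2 lc_b_rc_17_2 lc_b_rc_1_3 lc_b_rc_1_3 lc_b_rc_11_2 lc_b_rc_12_2 lc_b_rc_14_2 lc_b_rc_16_2 lc_b_rc_13_2 lc_b_rc_12_2 lc_b_rc_14_2 lc_b_rc_18_2 lc_b_rc_17_2 lc_b_rc_1_3 lc_b_rc_13_2 lc_b_rc_11_4 lc_b_rc_15_2 lc_b_rc_12_2 lc_b_rc_1_3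 lc_b_rc_12_2 lc_b_rc_15_2 lc_b_rc_12_2 lc_b_rc_12_2 lc_b_rc_16_2 lc_b_rc_17_2 lc_b_rc_1_3 lc_b_rc_1_3 lc_b_rc_11_2 lc_b_rc_12_2 lc_b_rc_14_2 lc_b_rc_16_2 lc_b_rc_13_2 lc_b_rc_12_2 lc_b_rc_14_2 lc_b_rc_1_1 lc_b_rc_17_2 lc_b_rc_13_0 lc_b_rc_1_3 lc_b_rc_1_3 lc_b_rc_1_3 lc_b_rc_11_2) (@D3.rec (fun _ => (Cert rels S Gen.b)) lc_b_rc_11_2 lc_b_rc_13_2 lc_b_rc_12_2 lc_b_rc_14_2 lc_b_rc_18_2 lc_b_rc_17_2 lc_b_rc_13_2 lc_b_rc_14_2 lc_b_rc_12_2 lc_b_rc_14_2 lc_b_rc_18_2 lc_b_rc_15_2 lc_b_rc_13_2 lc_b_rc_14_2 lc_b_rc_12_2 lc_b_Cert_tree lc_b_rc_13_2 lc_b_rc_14_2 lc_b_rc_12_2 lc_b_Cert_tree lc_b_rc_13_2 lc_b_rc_10_0 lc_b_rc_13_2 lc_b_rc_13_2 lc_b_rc_12_2 lc_b_rc_11_2 lc_b_rc_13_2 lc_b_rc_10_0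 lc_b_rc_13_2 lc_b_rc_13_2 lc_b_rc_1_3 lc_b_rc_13_2 lc_b_rc_12_2 lc_b_rc_15_2 lc_b_rc_13_2 lc_b_rc_17_2 lc_b_rc_14_2 lc_b_rc_10_0 lc_b_rc_13_2 lc_b_rc_15_2 lc_b_rc_1_3 lc_b_rc_13_2 lc_b_rc_12_2 lc_b_rc_15_2 lc_b_rc_16_2 lc_b_rc_16_2 lc_b_rc_15_2 lc_b_rc_13_2 lc_b_rc_12_2 lc_b_rc_15_2 lc_b_rc_16_2) (@D3.rec (fun _ => (Cert rels S Gen.b)) lc_b_rc_1_3 lc_b_rc_12_2 lc_b_rc_15_2 lc_b_rc_12_2 lc_b_rc_14_2 lc_b_rc_16_2 lc_b_rc_17_2 lc_b_rc_55_65 lc_b_rc_14_2 lc_b_rc_16_2 lc_b_rc_12_2 lc_b_rc_15_2 lc_b_rc_12_2 lc_b_rc_14_2 lc_b_rc_16_2 lc_b_rc_17_2 lc_b_rc_1_3 lc_b_rc_1_3 lc_b_rc_11_2 lc_b_rc_12_2 lc_b_rc_14_2 lc_b_rc_16_2 lc_b_rc_13_2 lc_b_rc_12_2 lc_b_rc_14_2 lc_b_rc_18_2 lc_b_rc_17_2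 lc_b_rc_1_3 lc_b_rc_13_2 lc_b_rc_12_2 lc_b_rc_15_2 lc_b_rc_16_2 lc_b_rc_1_3 lc_b_rc_12_2 lc_b_rc_15_2 lc_b_rc_12_2 lc_b_rc_14_2 lc_b_rc_16_2 lc_b_rc_17_2 lc_b_rc_1_3 lc_b_rc_12_2 lc_b_rc_15_2 lc_b_rc_12_2 lc_b_rc_14_2 lc_b_rc_16_2 lc_b_rc_17_2 lc_b_rc_1_3 lc_b_rc_1_3 lc_b_rc_11_2 lc_b_rc_12_2 lc_b_rc_14_2)
def ce_b_2 : D2 → D3 → (Cert rels S Gen.b) := @D2.rec (fun _ => D3 → (Cert rels S Gen.b)) (@D3.rec (fun _ => (Cert rels S Gen.b)) lc_b_rc_16_2 lc_b_rc_13_2 lc_b_rc_12_2 lc_b_rc_14_2 lc_b_rc_18_2 lc_b_rc_17_2 lc_b_rc_1_3 lc_b_rc_1_3 lc_b_rc_11_2 lc_b_rc_12_2 lc_b_rc_14_2 lc_b_rc_16_2 lc_b_rc_13_2 lc_b_rc_12_2 lc_b_rc_14_2 lc_b_rc_18_2 lc_b_rc_17_2 lc_b_Cert_tree lc_b_rc_1_3 lc_b_rc_1_3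 lc_b_rc_1_3 lc_b_rc_11_2 lc_b_rc_11_2 lc_b_rc_13_2 lc_b_rc_12_2 lc_b_rc_14_2 lc_b_rc_18_2 lc_b_rc_17_2 lc_b_rc_13_2 lc_b_rc_14_2 lc_b_rc_12_2 lc_b_rc_14_2 lc_b_rc_18_2 lc_b_rc_1_3 lc_b_rc_1_3 lc_b_rc_11_2 lc_b_rc_13_2 lc_b_rc_12_2 lc_b_rc_14_2 lc_b_rc_17_2 lc_b_rc_13_2 lc_b_rc_14_2 lc_b_rc_12_2 lc_b_rc_14_2 lc_b_rc_14_2 lc_b_rc_14_0 lc_b_rc_1_3 lc_b_rc_1_3 lc_b_rc_1_3 lc_b_rc_1_3 lc_b_rc_11_2) (@D3.rec (fun _ => (Cert rels S Gen.b)) lc_b_rc_11_2 lc_b_rc_11_2 lc_b_rc_13_2 lc_b_rc_14_2 lc_b_rc_12_2 lc_b_rc_14_2 lc_b_rc_18_2 lc_b_rc_15_2 lc_b_rc_13_2 lc_b_rc_14_2 lc_b_rc_12_2 lc_b_rc_18_2 lc_b_rc_14_2 lc_b_rc_18_2 lc_b_rc_1_3 lc_b_rc_1_3 lc_b_rc_11_2 lc_b_rc_12_2 lc_b_rc_14_2 lc_b_rc_16_2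 lc_b_rc_13_2 lc_b_rc_12_2 lc_b_rc_14_2 lc_b_rc_18_2 lc_b_rc_17_2 lc_b_rc_16_2 lc_b_rc_1_3 lc_b_rc_1_3 lc_b_rc_1_3 lc_b_rc_11_2 lc_b_rc_11_2 lc_b_rc_13_2 lc_b_rc_12_2 lc_b_rc_14_2 lc_b_rc_18_2 lc_b_rc_17_2 lc_b_rc_13_2 lc_b_rc_14_2 lc_b_rc_12_2 lc_b_rc_14_2 lc_b_rc_18_2 lc_b_rc_14_0 lc_b_rc_14_2 lc_b_rc_1_3 lc_b_rc_1_3 lc_b_rc_1_3 lc_b_rc_1_3 lc_b_rc_1_3 lc_b_rc_11_2 lc_b_rc_11_2 lc_b_rc_11_2) (@D3.rec (fun _ => (Cert rels S Gen.b)) lc_b_rc_11_0 lc_b_rc_11_2 lc_b_rc_13_2 lc_b_rc_14_2 lc_b_rc_12_2 lc_b_rc_14_2 lc_b_rc_18_2 lc_b_rc_15_2 lc_b_rc_13_2 lc_b_rc_14_2 lc_b_rc_12_2 lc_b_rc_18_2 lc_b_rc_14_2 lc_b_rc_18_2 lc_b_rc_1_3 lc_b_rc_1_3 lc_b_rc_1_3 lc_b_rc_1_3 lc_b_rc_1_3 lc_b_rc_15_2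 lc_b_rc_13_2 lc_b_rc_14_2 lc_b_rc_12_2 lc_b_rc_18_2 lc_b_rc_14_2 lc_b_rc_18_2 lc_b_rc_15_2 lc_b_rc_15_2 lc_b_rc_14_2 lc_b_rc_12_2 lc_b_rc_18_2 lc_b_Cert_tree lc_b_rc_12_2 lc_b_rc_18_2 lc_b_rc_16_2 lc_b_rc_15_2 lc_b_rc_12_2 lc_b_rc_18_2 lc_b_Cert_tree lc_b_rc_10_0 lc_b_rc_18_2 lc_b_rc_12_2 lc_b_rc_15_2 lc_b_rc_11_4 lc_b_rc_15_2 lc_b_rc_14_2 lc_b_rc_12_2 lc_b_Cert_tree lc_b_rc_13_2 lc_b_rc_10_0 lc_b_rc_13_2) (@D3.rec (fun _ => (Cert rels S Gen.b)) lc_b_rc_15_2 lc_b_rc_14_2 lc_b_rc_12_2 lc_b_rc_12_2 lc_b_rc_13_2 lc_b_rc_10_0 lc_b_rc_13_2 lc_b_rc_13_2 lc_b_rc_15_2 lc_b_rc_13_2 lc_b_rc_12_2 lc_b_rc_15_2 lc_b_rc_13_2 lc_b_rc_13_2 lc_b_rc_13_2 lc_b_rc_13_2 lc_b_rc_12_2 lc_b_rc_15_2 lc_b_rc_13_2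 lc_b_rc_13_2 lc_b_rc_12_2 lc_b_rc_15_2 lc_b_rc_12_2 lc_b_rc_14_2 lc_b_rc_16_2 lc_b_rc_13_2 lc_b_rc_15_2 lc_b_rc_13_2 lc_b_rc_12_2 lc_b_rc_15_2 lc_b_rc_16_2 lc_b_rc_12_0 lc_b_rc_12_2 lc_b_rc_15_2 lc_b_rc_12_2 lc_b_rc_14_2 lc_b_rc_16_2 lc_b_rc_17_2 lc_b_rc_16_2 lc_b_rc_12_2 lc_b_rc_15_2 lc_b_rc_12_2 lc_b_rc_16_2 lc_b_rc_17_2 lc_b_rc_11_0 lc_b_rc_15_2 lc_b_rc_11_2 lc_b_rc_12_2 lc_b_rc_14_2 lc_b_rc_16_2 lc_b_rc_13_2) (@D3.rec (fun _ => (Cert rels S Gen.b)) lc_b_rc_12_2 lc_b_rc_14_2 lc_b_rc_18_2 lc_b_rc_17_2 lc_b_rc_17_2 lc_b_rc_11_2 lc_b_rc_12_2 lc_b_rc_16_2 lc_b_rc_13_2 lc_b_rc_12_2 lc_b_rc_17_2 lc_b_Cert_tree lc_b_rc_11_0 lc_b_rc_14_2 lc_b_rc_12_0 lc_b_rc_11_2 lc_b_rc_11_2 lc_b_rc_13_2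 lc_b_rc_12_2 lc_b_rc_14_2 lc_b_rc_18_2 lc_b_rc_17_2 lc_b_rc_13_2 lc_b_rc_14_2 lc_b_rc_12_2 lc_b_rc_14_2 lc_b_rc_18_2 lc_b_rc_1_3 lc_b_rc_12_2 lc_b_rc_15_2 lc_b_rc_12_2 lc_b_rc_14_2 lc_b_rc_16_2 lc_b_rc_17_2 lc_b_rc_1_3 lc_b_rc_1_3 lc_b_rc_11_2 lc_b_rc_12_2 lc_b_rc_14_2 lc_b_rc_16_2 lc_b_rc_13_2 lc_b_rc_12_2 lc_b_rc_14_2 lc_b_rc_11_0 lc_b_rc_17_2 lc_b_rc_1_3 lc_b_rc_1_3 lc_b_rc_11_2 lc_b_rc_12_2 lc_b_rc_14_2 lc_b_rc_16_2) (@D3.rec (fun _ => (Cert rels S Gen.b)) lc_b_rc_13_2 lc_b_rc_12_2 lc_b_rc_14_2 lc_b_rc_14_2 lc_b_rc_17_2 lc_b_rc_10_1 lc_b_rc_1_3 lc_b_rc_1_3 lc_b_rc_11_2 lc_b_rc_11_2 lc_b_rc_13_2 lc_b_rc_12_2 lc_b_rc_14_2 lc_b_rc_17_2 lc_b_rc_13_2 lc_b_rc_14_2 lc_b_rc_12_2 lc_b_rc_14_2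 lc_b_rc_15_2 lc_b_rc_1_3 lc_b_rc_1_3 lc_b_rc_1_3 lc_b_rc_11_2 lc_b_rc_17_0 lc_b_rc_13_2 lc_b_rc_12_2 lc_b_rc_14_2 lc_b_rc_17_2 lc_b_rc_13_2 lc_b_rc_14_2 lc_b_rc_12_2 lc_b_rc_14_2 lc_b_rc_14_2 lc_b_rc_17_2 lc_b_rc_1_3 lc_b_rc_1_3 lc_b_rc_1_3 lc_b_rc_11_2 lc_b_rc_11_2 lc_b_rc_11_2 lc_b_rc_12_2 lc_b_rc_13_2 lc_b_rc_14_2 lc_b_rc_12_2 lc_b_rc_14_2 lc_b_rc_15_2 lc_b_rc_13_2 lc_b_rc_14_2 lc_b_rc_13_2 lc_b_rc_14_2 lc_b_rc_11_0) (@D3.rec (fun _ => (Cert rels S Gen.b)) lc_b_rc_12_0 lc_b_rc_1_3 lc_b_rc_1_3 lc_b_rc_1_3 lc_b_rc_1_3 lc_b_rc_11_2 lc_b_rc_11_2 lc_b_rc_11_2 lc_b_rc_13_2 lc_b_rc_14_2 lc_b_rc_12_2 lc_b_rc_14_2 lc_b_rc_15_2 lc_b_rc_13_2 lc_b_rc_14_2 lc_b_rc_12_2 lc_b_rc_14_2 lc_b_rc_15_2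 lc_b_rc_13_2 lc_b_rc_16_2 lc_b_rc_1_3 lc_b_rc_1_3 lc_b_rc_12_2 lc_b_rc_11_2 lc_b_rc_11_2 lc_b_rc_15_2 lc_b_rc_13_2 lc_b_rc_15_2 lc_b_rc_17_2 lc_b_rc_1_3 lc_b_rc_1_3 lc_b_rc_11_2 lc_b_rc_11_2 lc_b_rc_13_2 lc_b_rc_12_2 lc_b_rc_14_2 lc_b_rc_17_2 lc_b_rc_13_2 lc_b_rc_14_2 lc_b_rc_12_2 lc_b_rc_14_2 lc_b_rc_15_2 lc_b_rc_11_2 lc_b_rc_1_3 lc_b_rc_1_3 lc_b_rc_1_3 lc_b_rc_11_2 lc_b_rc_11_2 lc_b_rc_11_2 lc_b_rc_11_0 lc_b_rc_13_2) (@D3.rec (fun _ => (Cert rels S Gen.b)) lc_b_rc_14_2 lc_b_rc_12_2 lc_b_rc_14_2 lc_b_rc_13_2 lc_b_rc_14_2 lc_b_rc_12_2 lc_b_rc_13_2 lc_b_rc_14_2 lc_b_rc_15_2 lc_b_rc_16_2 lc_b_rc_1_3 lc_b_rc_11_2 lc_b_rc_11_2 lc_b_rc_11_0 lc_b_rc_11_0 lc_b_rc_14_2 lc_b_rc_12_0 lc_b_rc_11_2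 lc_b_rc_1_3 lc_b_rc_1_3 lc_b_rc_11_2 lc_b_rc_11_2 lc_b_rc_11_2 lc_b_rc_12_2 lc_b_rc_13_2 lc_b_rc_14_2 lc_b_rc_14_2 lc_b_rc_15_2 lc_b_rc_14_2 lc_b_rc_12_2 lc_b_rc_13_2 lc_b_rc_16_2 lc_b_rc_13_2 lc_b_rc_12_2 lc_b_rc_11_2 lc_b_rc_12_2 lc_b_rc_12_0 lc_b_rc_12_2 lc_b_Cert_tree lc_b_rc_12_2 lc_b_rc_12_0 lc_b_rc_12_2 lc_b_rc_15_2 lc_b_rc_12_2 lc_b_rc_14_2 lc_b_rc_12_2 lc_b_rc_14_2 lc_b_rc_15_2 lc_b_rc_12_2 lc_b_rc_14_2 lc_b_rc_13_2) (@D3.rec (fun _ => (Cert rels S Gen.b)) lc_b_rc_15_2 lc_b_rc_13_2 lc_b_rc_55_11 lc_b_rc_18_0 lc_b_rc_15_2 lc_b_rc_11_2 lc_b_rc_14_2 lc_b_rc_12_2 lc_b_rc_14_2 lc_b_rc_12_2 lc_b_rc_13_2 lc_b_rc_13_2 lc_b_rc_12_2 lc_b_rc_15_2 lc_b_rc_12_2 lc_b_rc_14_2 lc_b_rc_55_74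 lc_b_rc_13_2 lc_b_rc_11_2 lc_b_rc_12_2 lc_b_rc_14_2 lc_b_rc_12_2 lc_b_rc_13_2 lc_b_rc_13_2 lc_b_rc_11_2 lc_b_rc_12_2 lc_b_rc_14_2 lc_b_rc_16_2 lc_b_rc_13_2 lc_b_rc_14_2 lc_b_rc_14_2 lc_b_rc_16_2 lc_b_rc_14_2 lc_b_rc_1_1 lc_b_rc_1_1 lc_b_rc_12_2 lc_b_rc_11_2 lc_b_rc_12_2 lc_b_rc_14_2 lc_b_rc_16_2 lc_b_rc_11_4 lc_b_rc_12_2 lc_b_rc_14_2 lc_b_rc_55_74 lc_b_rc_14_2 lc_b_rc_13_2 lc_b_rc_1_1 lc_b_rc_1_1 lc_b_rc_11_2 lc_b_rc_13_2 lc_b_rc_12_2) (@D3.rec (fun _ => (Cert rels S Gen.b)) lc_b_rc_14_2 lc_b_rc_17_2 lc_b_rc_13_2 lc_b_rc_14_2 lc_b_rc_13_2 lc_b_rc_14_2 lc_b_rc_1_1 lc_b_rc_1_1 lc_b_rc_11_2 lc_b_rc_11_2 lc_b_rc_13_2 lc_b_rc_14_2 lc_b_rc_12_2 lc_b_rc_14_2 lc_b_rc_56_57 lc_b_rc_1_5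 lc_b_rc_14_2 lc_b_rc_12_2 lc_b_rc_14_2 lc_b_rc_1_3 lc_b_rc_1_3 lc_b_rc_12_2 lc_b_rc_16_2 lc_b_rc_13_2 lc_b_rc_12_2 lc_b_rc_11_2 lc_b_rc_17_2 lc_b_rc_1_3 lc_b_rc_1_3 lc_b_rc_13_2 lc_b_rc_12_2 lc_b_rc_17_2 lc_b_rc_1_3 lc_b_rc_1_3 lc_b_rc_13_2 lc_b_rc_12_2 lc_b_rc_17_2 lc_b_rc_13_2 lc_b_rc_13_2 lc_b_rc_12_2 lc_b_rc_11_2 lc_b_rc_1_3 lc_b_rc_1_3 lc_b_rc_1_3 lc_b_rc_13_2 lc_b_rc_12_2 lc_b_rc_1_3 lc_b_rc_1_3 lc_b_rc_1_3 lc_b_rc_13_2 lc_b_rc_12_2) (@D3.rec (fun _ => (Cert rels S Gen.b)) lc_b_rc_15_2 lc_b_rc_13_2 lc_b_rc_11_2 lc_b_rc_12_2 lc_b_rc_11_2 lc_b_rc_1_3 lc_b_rc_1_3 lc_b_rc_15_2 lc_b_rc_13_2 lc_b_rc_15_2 lc_b_rc_13_2 lc_b_rc_16_2 lc_b_rc_1_3 lc_b_rc_1_3 lc_b_rc_1_3 lc_b_rc_1_3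 lc_b_rc_1_3 lc_b_rc_12_2 lc_b_rc_11_2 lc_b_rc_11_2 lc_b_rc_11_2 lc_b_rc_11_2 lc_b_rc_12_2 lc_b_rc_15_2 lc_b_rc_13_2 lc_b_rc_14_2 lc_b_rc_12_2 lc_b_rc_14_2 lc_b_rc_1_5 lc_b_rc_15_2 lc_b_rc_14_2 lc_b_rc_12_2 lc_b_rc_11_4 lc_b_rc_13_2 lc_b_rc_16_2 lc_b_rc_12_2 lc_b_rc_13_2 lc_b_rc_17_2 lc_b_rc_1_3 lc_b_rc_1_3 lc_b_rc_12_2 lc_b_rc_11_2 lc_b_rc_11_2 lc_b_rc_15_2 lc_b_rc_1_3 lc_b_rc_1_3 lc_b_rc_1_3 lc_b_rc_13_2 lc_b_rc_12_2 lc_b_rc_1_3 lc_b_rc_1_3) (@D3.rec (fun _ => (Cert rels S Gen.b)) lc_b_rc_13_2 lc_b_rc_1_3 lc_b_rc_15_2 lc_b_rc_1_3 lc_b_rc_12_2 lc_b_rc_16_2 lc_b_rc_15_2 lc_b_rc_14_2 lc_b_rc_12_2 lc_b_Cert_tree lc_b_rc_12_2 lc_b_rc_14_2 lc_b_Cert_tree lc_b_rc_14_2 lc_b_rc_10_0 lc_b_rc_13_2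 lc_b_rc_15_2 lc_b_rc_10_0 lc_b_rc_13_2 lc_b_rc_15_2 lc_b_rc_1_3 lc_b_rc_13_2 lc_b_rc_12_2 lc_b_rc_15_2 lc_b_rc_16_2 lc_b_rc_1_3 lc_b_rc_12_2 lc_b_rc_15_2 lc_b_rc_12_2 lc_b_rc_14_2 lc_b_rc_16_2 lc_b_rc_17_2 lc_b_rc_12_2 lc_b_Cert_tree lc_b_rc_13_2 lc_b_Cert_tree lc_b_rc_13_2 lc_b_rc_10_0 lc_b_rc_13_2 lc_b_rc_15_2 lc_b_rc_10_0 lc_b_rc_13_2 lc_b_rc_15_2 lc_b_rc_1_3 lc_b_rc_13_2 lc_b_rc_12_2 lc_b_rc_15_2 lc_b_rc_16_2 lc_b_rc_10_0 lc_b_rc_13_2 lc_b_rc_15_2) (@D3.rec (fun _ => (Cert rels S Gen.b)) lc_b_rc_1_3 lc_b_rc_13_2 lc_b_rc_12_2 lc_b_rc_15_2 lc_b_rc_16_2 lc_b_rc_13_2 lc_b_rc_12_2 lc_b_rc_15_2 lc_b_rc_16_2 lc_b_rc_1_3 lc_b_rc_12_2 lc_b_rc_15_2 lc_b_rc_12_2 lc_b_rc_14_2 lc_b_rc_16_2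 lc_b_rc_17_2 lc_b_rc_12_2 lc_b_rc_15_2 lc_b_rc_12_2 lc_b_rc_14_2 lc_b_rc_16_2 lc_b_rc_17_2 lc_b_rc_1_3 lc_b_rc_1_3 lc_b_rc_11_2 lc_b_rc_12_2 lc_b_rc_14_2 lc_b_rc_16_2 lc_b_rc_13_2 lc_b_rc_12_2 lc_b_rc_14_2 lc_b_rc_18_2 lc_b_rc_17_2 lc_b_rc_10_0 lc_b_rc_13_2 lc_b_rc_15_2 lc_b_rc_1_3 lc_b_rc_13_2 lc_b_rc_12_2 lc_b_rc_15_2 lc_b_rc_16_2 lc_b_rc_1_3 lc_b_rc_12_2 lc_b_rc_15_2 lc_b_rc_12_2 lc_b_rc_14_2 lc_b_rc_16_2 lc_b_rc_17_2 lc_b_rc_1_3 lc_b_rc_13_2 lc_b_rc_12_2) (@D3.rec (fun _ => (Cert rels S Gen.b)) lc_b_rc_15_2 lc_b_rc_16_2 lc_b_rc_1_3 lc_b_rc_12_2 lc_b_rc_15_2 lc_b_rc_12_2 lc_b_rc_14_2 lc_b_rc_16_2 lc_b_rc_17_2 lc_b_rc_1_3 lc_b_rc_1_3 lc_b_rc_11_2 lc_b_rc_12_2 lc_b_rc_14_2 lc_b_rc_16_2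 lc_b_rc_13_2 lc_b_rc_12_2 lc_b_rc_14_2 lc_b_rc_18_2 lc_b_rc_17_2 lc_b_rc_1_3 lc_b_rc_12_2 lc_b_rc_15_2 lc_b_rc_12_2 lc_b_rc_14_2 lc_b_rc_16_2 lc_b_rc_17_2 lc_b_rc_1_3 lc_b_rc_1_3 lc_b_rc_11_2 lc_b_rc_12_2 lc_b_rc_14_2 lc_b_rc_16_2 lc_b_rc_13_2 lc_b_rc_12_2 lc_b_rc_14_2 lc_b_rc_18_2 lc_b_rc_17_2 lc_b_Cert_tree lc_b_rc_1_3 lc_b_rc_1_3 lc_b_rc_1_3 lc_b_rc_11_2 lc_b_rc_11_2 lc_b_rc_13_2 lc_b_rc_12_2 lc_b_rc_14_2 lc_b_rc_18_2 lc_b_rc_17_2 lc_b_rc_13_2 lc_b_rc_14_2) (@D3.rec (fun _ => (Cert rels S Gen.b)) lc_b_rc_12_2 lc_b_rc_14_2 lc_b_rc_18_2 lc_b_rc_15_2 lc_b_rc_55_11 lc_b_rc_16_2 lc_b_rc_12_2 lc_b_rc_1_3 lc_b_rc_12_2 lc_b_rc_16_2 lc_b_rc_13_2 lc_b_rc_12_2 lc_b_rc_12_2 lc_b_rc_17_2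 lc_b_rc_1_3 lc_b_rc_1_3 lc_b_rc_11_2 lc_b_rc_13_2 lc_b_rc_12_2 lc_b_rc_14_2 lc_b_rc_17_2 lc_b_rc_13_2 lc_b_rc_14_2 lc_b_rc_12_2 lc_b_rc_14_2 lc_b_rc_14_2 lc_b_rc_14_0 lc_b_rc_1_3 lc_b_rc_1_3 lc_b_rc_1_3 lc_b_rc_1_3 lc_b_rc_11_2 lc_b_rc_11_2 lc_b_rc_11_2 lc_b_rc_13_2 lc_b_rc_14_2 lc_b_rc_12_2 lc_b_rc_14_2 lc_b_rc_18_2 lc_b_rc_15_2 lc_b_rc_13_2 lc_b_rc_14_2 lc_b_rc_12_2 lc_b_rc_18_2 lc_b_rc_14_2 lc_b_rc_18_2 lc_b_rc_15_2 lc_b_rc_14_2 lc_b_rc_12_2 lc_b_Cert_tree lc_b_rc_13_2) (@D3.rec (fun _ => (Cert rels S Gen.b)) lc_b_rc_10_0 lc_b_rc_13_2 lc_b_rc_15_2 lc_b_rc_12_2 lc_b_rc_11_2 lc_b_rc_13_2 lc_b_rc_10_0 lc_b_rc_13_2 lc_b_rc_13_2 lc_b_rc_1_3 lc_b_rc_13_2 lc_b_rc_12_2 lc_b_rc_15_2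 lc_b_rc_13_2 lc_b_rc_11_2 lc_b_rc_13_2 lc_b_rc_13_2 lc_b_rc_13_2 lc_b_rc_13_2 lc_b_rc_12_2 lc_b_rc_15_2 lc_b_rc_13_2 lc_b_rc_1_3 lc_b_rc_12_2 lc_b_rc_15_2 lc_b_rc_12_2 lc_b_rc_14_2 lc_b_rc_16_2 lc_b_rc_13_2 lc_b_rc_17_2 lc_b_rc_15_2 lc_b_rc_13_2 lc_b_rc_12_2 lc_b_rc_15_2 lc_b_rc_16_2 lc_b_rc_1_3 lc_b_rc_12_2 lc_b_rc_15_2 lc_b_rc_12_2 lc_b_rc_14_2 lc_b_rc_16_2 lc_b_rc_17_2 lc_b_rc_16_2 lc_b_rc_11_2 lc_b_rc_16_2 lc_b_rc_12_2 lc_b_rc_15_2 lc_b_rc_12_2 lc_b_rc_14_2 lc_b_rc_16_2 lc_b_rc_17_2) (@D3.rec (fun _ => (Cert rels S Gen.b)) lc_b_rc_1_3 lc_b_rc_1_3 lc_b_rc_11_2 lc_b_rc_12_2 lc_b_rc_14_2 lc_b_rc_16_2 lc_b_rc_13_2 lc_b_rc_12_2 lc_b_rc_14_2 lc_b_rc_18_2 lc_b_rc_17_2 lc_b_rc_15_2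 lc_b_rc_14_2 lc_b_rc_16_2 lc_b_rc_17_2 lc_b_rc_11_2 lc_b_rc_12_2 lc_b_rc_14_2 lc_b_rc_16_2 lc_b_rc_13_2 lc_b_rc_12_2 lc_b_rc_14_2 lc_b_rc_18_2 lc_b_rc_17_2 lc_b_Cert_tree lc_b_rc_1_3 lc_b_rc_1_3 lc_b_rc_1_3 lc_b_rc_11_2 lc_b_rc_11_2 lc_b_rc_13_2 lc_b_rc_12_2 lc_b_rc_14_2 lc_b_rc_18_2 lc_b_rc_17_2 lc_b_rc_13_2 lc_b_rc_14_2 lc_b_rc_12_2 lc_b_rc_14_2 lc_b_rc_18_2 lc_b_rc_1_3 lc_b_rc_12_2 lc_b_rc_15_2 lc_b_rc_12_2 lc_b_rc_14_2 lc_b_rc_16_2 lc_b_rc_17_2 lc_b_rc_1_3 lc_b_rc_1_3 lc_b_rc_11_2 lc_b_rc_12_2) (@D3.rec (fun _ => (Cert rels S Gen.b)) lc_b_rc_14_2 lc_b_rc_16_2 lc_b_rc_13_2 lc_b_rc_12_2 lc_b_rc_14_2 lc_b_rc_18_2 lc_b_rc_17_2 lc_b_rc_1_3 lc_b_rc_1_3 lc_b_rc_11_2 lc_b_rc_12_2 lc_b_rc_14_2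 lc_b_rc_16_2 lc_b_rc_13_2 lc_b_rc_12_2 lc_b_rc_14_2 lc_b_rc_18_2 lc_b_rc_17_2 lc_b_Cert_tree lc_b_rc_1_3 lc_b_rc_1_3 lc_b_rc_1_3 lc_b_rc_11_2 lc_b_rc_11_2 lc_b_rc_13_2 lc_b_rc_12_2 lc_b_rc_14_2 lc_b_rc_18_2 lc_b_rc_17_2 lc_b_rc_13_2 lc_b_rc_14_2 lc_b_rc_12_2 lc_b_rc_14_2 lc_b_rc_18_2 lc_b_Cert_tree lc_b_rc_1_3 lc_b_rc_1_3 lc_b_rc_1_3 lc_b_rc_11_2 lc_b_rc_11_2 lc_b_rc_13_2 lc_b_rc_12_2 lc_b_rc_14_2 lc_b_rc_18_2 lc_b_rc_17_2 lc_b_rc_13_2 lc_b_rc_14_2 lc_b_rc_12_2 lc_b_rc_14_2 lc_b_rc_18_2 lc_b_rc_10_0) (@D3.rec (fun _ => (Cert rels S Gen.b)) lc_b_rc_15_2 lc_b_rc_12_2 lc_b_rc_1_3 lc_b_rc_1_3 lc_b_rc_1_3 lc_b_rc_1_3 lc_b_rc_1_3 lc_b_rc_11_2 lc_b_rc_11_2 lc_b_rc_11_2 lc_b_rc_12_2 lc_b_rc_11_2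 lc_b_rc_13_2 lc_b_rc_14_2 lc_b_rc_12_2 lc_b_rc_14_2 lc_b_rc_18_2 lc_b_rc_15_2 lc_b_rc_13_2 lc_b_rc_14_2 lc_b_rc_12_2 lc_b_rc_18_2 lc_b_rc_14_2 lc_b_rc_18_2 lc_b_rc_1_3 lc_b_rc_1_3 lc_b_rc_1_3 lc_b_rc_11_2 lc_b_rc_11_2 lc_b_rc_13_2 lc_b_rc_14_2 lc_b_rc_12_2 lc_b_rc_14_2 lc_b_rc_15_2 lc_b_rc_13_2 lc_b_rc_14_2 lc_b_rc_12_2 lc_b_rc_14_2 lc_b_rc_14_2 lc_b_rc_14_2 lc_b_rc_14_0 lc_b_rc_14_0 lc_b_rc_1_3 lc_b_rc_1_3 lc_b_rc_1_3 lc_b_rc_1_3 lc_b_rc_12_2 lc_b_rc_11_2 lc_b_rc_11_2 lc_b_rc_11_2 lc_b_rc_11_2) (@D3.rec (fun _ => (Cert rels S Gen.b)) lc_b_rc_15_2 lc_b_rc_13_2 lc_b_rc_14_2 lc_b_rc_12_2 lc_b_rc_18_2 lc_b_rc_14_2 lc_b_rc_18_2 lc_b_rc_15_2 lc_b_rc_15_2 lc_b_rc_14_2 lc_b_rc_12_2 lc_b_rc_18_2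 lc_b_Cert_tree lc_b_rc_12_2 lc_b_rc_18_2 lc_b_rc_17_2 lc_b_rc_1_3 lc_b_rc_1_3 lc_b_rc_1_3 lc_b_rc_11_2 lc_b_rc_11_2 lc_b_rc_13_2 lc_b_rc_12_2 lc_b_rc_14_2 lc_b_rc_18_2 lc_b_rc_17_2 lc_b_rc_13_2 lc_b_rc_14_2 lc_b_rc_12_2 lc_b_rc_14_2 lc_b_rc_18_2 lc_b_rc_12_2 lc_b_rc_16_2 lc_b_rc_1_3 lc_b_rc_1_3 lc_b_rc_1_3 lc_b_rc_1_3 lc_b_rc_1_3 lc_b_rc_11_2 lc_b_rc_11_2 lc_b_rc_11_2 lc_b_rc_11_0 lc_b_rc_11_2 lc_b_rc_13_2 lc_b_rc_14_2 lc_b_rc_12_2 lc_b_rc_14_2 lc_b_rc_18_2 lc_b_rc_15_2 lc_b_rc_13_2 lc_b_rc_14_2) (@D3.rec (fun _ => (Cert rels S Gen.b)) lc_b_rc_12_2 lc_b_rc_18_2 lc_b_rc_14_2 lc_b_rc_18_2 lc_b_rc_15_2 lc_b_rc_16_2 lc_b_rc_15_2 lc_b_rc_1_3 lc_b_rc_1_3 lc_b_rc_1_3 lc_b_rc_1_3 lc_b_rc_1_3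 lc_b_rc_1_3 lc_b_rc_11_2 lc_b_rc_11_2 lc_b_rc_11_2 lc_b_rc_11_2 lc_b_rc_11_0 lc_b_rc_11_2 lc_b_rc_11_0 lc_b_rc_11_0 lc_b_rc_15_2 lc_b_rc_13_2 lc_b_rc_14_2 lc_b_rc_12_2 lc_b_rc_18_2 lc_b_rc_14_2 lc_b_rc_18_2 lc_b_rc_15_2 lc_b_rc_15_2 lc_b_rc_14_2 lc_b_rc_12_2 lc_b_rc_18_2 lc_b_Cert_tree lc_b_rc_12_2 lc_b_rc_18_2 lc_b_rc_1_3 lc_b_rc_1_3 lc_b_rc_1_3 lc_b_rc_12_2 lc_b_rc_1_3 lc_b_rc_1_3 lc_b_rc_1_3 lc_b_rc_15_2 lc_b_rc_15_2 lc_b_rc_14_2 lc_b_rc_12_2 lc_b_rc_18_2 lc_b_Cert_tree lc_b_rc_12_2 lc_b_rc_18_2) (@D3.rec (fun _ => (Cert rels S Gen.b)) lc_b_rc_16_2 lc_b_rc_15_2 lc_b_rc_12_2 lc_b_rc_18_2 lc_b_rc_12_2 lc_b_rc_18_2 lc_b_Cert_tree lc_b_rc_12_2 lc_b_rc_10_0 lc_b_rc_18_2 lc_b_rc_14_2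 lc_b_rc_10_0 lc_b_rc_1_3 lc_b_rc_18_2 lc_b_rc_15_2 lc_b_rc_14_2 lc_b_rc_12_2 lc_b_rc_15_2 lc_b_rc_15_2 lc_b_rc_12_2 lc_b_rc_13_2 lc_b_rc_10_0 lc_b_rc_13_2 lc_b_rc_15_2 lc_b_rc_16_2 lc_b_rc_13_2 lc_b_rc_12_2 lc_b_rc_15_2 lc_b_rc_15_2 lc_b_rc_13_2 lc_b_rc_13_2 lc_b_rc_13_2 lc_b_rc_12_2 lc_b_rc_15_2 lc_b_rc_13_2 lc_b_rc_13_2 lc_b_rc_12_2 lc_b_rc_15_2 lc_b_rc_12_2 lc_b_rc_14_2 lc_b_rc_16_2 lc_b_rc_13_2 lc_b_rc_15_2 lc_b_rc_13_2 lc_b_rc_12_2 lc_b_rc_15_2 lc_b_rc_12_2 lc_b_rc_16_2 lc_b_rc_13_2 lc_b_rc_12_2 lc_b_rc_13_2) (@D3.rec (fun _ => (Cert rels S Gen.b)) lc_b_rc_11_2 lc_b_rc_12_2 lc_b_rc_14_2 lc_b_rc_16_2 lc_b_rc_13_2 lc_b_rc_12_2 lc_b_rc_14_2 lc_b_rc_17_2 lc_b_rc_16_2 lc_b_rc_12_2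 lc_b_rc_15_2 lc_b_rc_12_2 lc_b_rc_16_2 lc_b_rc_17_2 lc_b_rc_13_0 lc_b_rc_15_2 lc_b_rc_11_2 lc_b_rc_12_2 lc_b_rc_14_2 lc_b_rc_16_2 lc_b_rc_13_2 lc_b_rc_12_2 lc_b_rc_14_2 lc_b_rc_18_2 lc_b_rc_17_2 lc_b_rc_17_2 lc_b_rc_11_2 lc_b_rc_12_2 lc_b_rc_16_2 lc_b_rc_13_2 lc_b_rc_12_2 lc_b_rc_17_2 lc_b_Cert_tree lc_b_rc_15_2 lc_b_rc_14_2 lc_b_rc_15_2 lc_b_rc_11_2 lc_b_rc_11_2 lc_b_rc_13_2 lc_b_rc_12_2 lc_b_rc_14_2 lc_b_rc_18_2 lc_b_rc_17_2 lc_b_rc_13_2 lc_b_rc_14_2 lc_b_rc_12_2 lc_b_rc_14_2 lc_b_rc_18_2 lc_b_rc_11_2 lc_b_rc_13_2 lc_b_rc_12_2) (@D3.rec (fun _ => (Cert rels S Gen.b)) lc_b_rc_17_2 lc_b_rc_13_2 lc_b_rc_12_2 lc_b_rc_10_0 lc_b_rc_15_2 lc_b_rc_1_1 lc_b_rc_13_2 lc_b_rc_16_2 lc_b_rc_14_2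 lc_b_rc_13_0 lc_b_rc_11_2 lc_b_rc_11_2 lc_b_rc_11_2 lc_b_rc_12_2 lc_b_rc_13_2 lc_b_rc_14_2 lc_b_rc_12_2 lc_b_rc_14_2 lc_b_rc_18_2 lc_b_rc_15_2 lc_b_rc_13_2 lc_b_rc_14_2 lc_b_rc_12_2 lc_b_rc_18_2 lc_b_rc_14_2 lc_b_rc_18_2 lc_b_rc_1_3 lc_b_rc_1_3 lc_b_rc_11_2 lc_b_rc_12_2 lc_b_rc_14_2 lc_b_rc_16_2 lc_b_rc_13_2 lc_b_rc_12_2 lc_b_rc_14_2 lc_b_rc_14_2 lc_b_rc_17_2 lc_b_rc_17_2 lc_b_rc_1_3 lc_b_rc_1_3 lc_b_rc_11_2 lc_b_rc_11_2 lc_b_rc_13_2 lc_b_rc_12_2 lc_b_rc_14_2 lc_b_rc_17_2 lc_b_rc_15_2 lc_b_rc_1_3 lc_b_rc_1_3 lc_b_rc_1_3 lc_b_rc_11_2) (@D3.rec (fun _ => (Cert rels S Gen.b)) lc_b_rc_16_0 lc_b_rc_13_2 lc_b_rc_12_2 lc_b_rc_14_2 lc_b_rc_17_2 lc_b_rc_13_2 lc_b_rc_14_2 lc_b_rc_12_2 lc_b_rc_14_2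 lc_b_rc_15_2 lc_b_rc_15_2 lc_b_rc_1_3 lc_b_rc_1_3 lc_b_rc_1_3 lc_b_rc_11_2 lc_b_rc_11_2 lc_b_rc_11_2 lc_b_rc_12_2 lc_b_rc_13_2 lc_b_rc_14_2 lc_b_rc_12_2 lc_b_rc_14_2 lc_b_rc_13_2 lc_b_rc_16_2 lc_b_rc_1_3 lc_b_rc_1_3 lc_b_rc_1_3 lc_b_rc_1_3 lc_b_rc_11_2 lc_b_rc_11_2 lc_b_rc_14_2 lc_b_rc_13_2 lc_b_rc_14_2 lc_b_rc_12_2 lc_b_rc_14_2 lc_b_rc_15_2 lc_b_rc_13_2 lc_b_rc_14_2 lc_b_rc_12_2 lc_b_rc_14_2 lc_b_rc_14_2 lc_b_rc_16_2 lc_b_rc_13_2 lc_b_rc_16_2 lc_b_rc_1_3 lc_b_rc_1_3 lc_b_rc_12_2 lc_b_rc_11_2 lc_b_rc_11_2 lc_b_rc_11_2 lc_b_rc_11_2) (@D3.rec (fun _ => (Cert rels S Gen.b)) lc_b_rc_12_2 lc_b_rc_13_2 lc_b_rc_15_2 lc_b_rc_13_2 lc_b_rc_14_2 lc_b_rc_14_2 lc_b_rc_16_2 lc_b_rc_16_2 lc_b_rc_12_0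 lc_b_rc_12_0 lc_b_rc_1_3 lc_b_rc_1_3 lc_b_rc_1_3 lc_b_rc_1_3 lc_b_rc_12_2 lc_b_rc_11_2 lc_b_rc_11_2 lc_b_rc_11_2 lc_b_rc_11_2 lc_b_rc_15_2 lc_b_rc_13_2 lc_b_rc_14_2 lc_b_rc_12_2 lc_b_rc_14_2 lc_b_rc_15_2 lc_b_rc_15_2 lc_b_rc_14_2 lc_b_rc_12_2 lc_b_Cert_tree lc_b_rc_13_2 lc_b_rc_16_2 lc_b_rc_12_2 lc_b_rc_13_2 lc_b_rc_17_2 lc_b_rc_1_3 lc_b_rc_1_3 lc_b_rc_12_2 lc_b_rc_14_2 lc_b_rc_11_2 lc_b_rc_11_2 lc_b_rc_15_2 lc_b_rc_11_2 lc_b_rc_1_3 lc_b_rc_1_3 lc_b_rc_1_3 lc_b_rc_11_2 lc_b_rc_11_2 lc_b_rc_11_2 lc_b_rc_11_0 lc_b_rc_13_2 lc_b_rc_14_2) (@D3.rec (fun _ => (Cert rels S Gen.b)) lc_b_rc_12_2 lc_b_rc_14_2 lc_b_rc_13_2 lc_b_rc_16_2 lc_b_rc_13_2 lc_b_rc_11_2 lc_b_rc_1_3 lc_b_rc_1_3 lc_b_rc_12_2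 lc_b_rc_11_2 lc_b_rc_11_2 lc_b_rc_11_2 lc_b_rc_11_2 lc_b_rc_11_0 lc_b_rc_11_0 lc_b_rc_13_2 lc_b_rc_14_2 lc_b_rc_12_2 lc_b_rc_14_2 lc_b_rc_13_2 lc_b_rc_12_2 lc_b_rc_15_2 lc_b_rc_17_2 lc_b_rc_11_2 lc_b_rc_11_0 lc_b_rc_11_0 lc_b_rc_11_0 lc_b_rc_13_2 lc_b_rc_11_2 lc_b_rc_1_3 lc_b_rc_12_2 lc_b_rc_11_2 lc_b_rc_11_2 lc_b_rc_11_2 lc_b_rc_12_2 lc_b_rc_12_0 lc_b_rc_15_2 lc_b_rc_14_2 lc_b_rc_12_2 lc_b_rc_13_2 lc_b_rc_12_2 lc_b_rc_12_2 lc_b_rc_14_2 lc_b_rc_12_2 lc_b_rc_13_2 lc_b_rc_12_0 lc_b_Cert_tree lc_b_rc_10_0 lc_b_rc_18_2 lc_b_rc_14_2 lc_b_rc_12_0)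
def ce_b_3 : D2 → D3 → (Cert rels S Gen.b) := @D2.rec (fun _ => D3 → (Cert rels S Gen.b)) (@D3.rec (fun _ => (Cert rels S Gen.b)) lc_b_rc_11_2 lc_b_rc_12_2 lc_b_rc_14_2 lc_b_rc_13_2 lc_b_rc_14_2 lc_b_rc_12_2 lc_b_rc_12_2 lc_b_rc_12_2 lc_b_rc_15_2 lc_b_rc_18_2 lc_b_rc_10_0 lc_b_rc_15_2 lc_b_rc_11_2 lc_b_rc_12_2 lc_b_rc_14_2 lc_b_rc_10_0 lc_b_rc_14_0 lc_b_rc_13_2 lc_b_rc_14_2 lc_b_rc_12_2 lc_b_rc_12_2 lc_b_rc_14_2 lc_b_rc_55_56 lc_b_rc_16_2 lc_b_rc_14_0 lc_b_rc_11_2 lc_b_rc_13_2 lc_b_rc_14_2 lc_b_rc_14_2 lc_b_rc_15_0 lc_b_rc_11_0 lc_b_rc_11_2 lc_b_rc_14_2 lc_b_rc_13_2 lc_b_rc_13_2 lc_b_rc_13_2 lc_b_rc_11_2 lc_b_rc_14_2 lc_b_rc_14_2 lc_b_rc_1_1 lc_b_rc_56_57 lc_b_rc_12_2 lc_b_rc_11_2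 lc_b_rc_11_2 lc_b_rc_14_2 lc_b_rc_12_2 lc_b_rc_14_2 lc_b_rc_1_3 lc_b_rc_1_3 lc_b_rc_13_2 lc_b_rc_12_2) (@D3.rec (fun _ => (Cert rels S Gen.b)) lc_b_rc_17_2 lc_b_rc_1_3 lc_b_rc_1_3 lc_b_rc_1_3 lc_b_rc_1_3 lc_b_rc_1_3 lc_b_rc_1_3 lc_b_rc_13_2 lc_b_rc_12_2 lc_b_rc_1_3 lc_b_rc_1_3 lc_b_rc_1_3 lc_b_rc_1_3 lc_b_rc_15_2 lc_b_rc_13_2 lc_b_rc_1_1 lc_b_rc_1_3 lc_b_rc_1_3 lc_b_rc_13_2 lc_b_rc_16_2 lc_b_rc_12_2 lc_b_rc_13_2 lc_b_rc_11_4 lc_b_rc_17_2 lc_b_rc_11_4 lc_b_rc_1_3 lc_b_rc_1_3 lc_b_rc_1_3 lc_b_rc_12_2 lc_b_rc_1_3 lc_b_rc_12_2 lc_b_rc_11_2 lc_b_rc_11_2 lc_b_rc_11_2 lc_b_rc_11_2 lc_b_rc_12_2 lc_b_rc_15_2 lc_b_rc_14_2 lc_b_rc_12_2 lc_b_rc_11_4 lc_b_rc_12_2 lc_b_rc_13_2 lc_b_rc_17_2 lc_b_rc_12_2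 lc_b_rc_15_2 lc_b_rc_13_2 lc_b_rc_1_3 lc_b_rc_1_3 lc_b_rc_1_3 lc_b_rc_1_3 lc_b_rc_1_3) (@D3.rec (fun _ => (Cert rels S Gen.b)) lc_b_rc_11_4 lc_b_rc_13_2 lc_b_rc_15_2 lc_b_rc_12_2 lc_b_Cert_tree lc_b_rc_12_2 lc_b_rc_10_0 lc_b_rc_13_2 lc_b_rc_12_2 lc_b_Cert_tree lc_b_rc_14_2 lc_b_rc_10_0 lc_b_rc_13_2 lc_b_rc_15_2 lc_b_rc_1_3 lc_b_rc_13_2 lc_b_rc_12_2 lc_b_rc_15_2 lc_b_rc_16_2 lc_b_rc_1_3 lc_b_rc_13_2 lc_b_rc_12_2 lc_b_rc_15_2 lc_b_rc_16_2 lc_b_rc_1_3 lc_b_rc_12_2 lc_b_rc_15_2 lc_b_rc_12_2 lc_b_rc_14_2 lc_b_rc_16_2 lc_b_rc_17_2 lc_b_rc_1_3 lc_b_rc_1_3 lc_b_rc_11_2 lc_b_rc_12_2 lc_b_rc_14_2 lc_b_rc_16_2 lc_b_rc_13_2 lc_b_rc_12_2 lc_b_rc_14_2 lc_b_rc_18_2 lc_b_rc_17_2 lc_b_Cert_tree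 lc_b_rc_13_2 lc_b_rc_10_0 lc_b_rc_13_2 lc_b_rc_15_2 lc_b_rc_10_0 lc_b_rc_13_2 lc_b_rc_15_2 lc_b_rc_1_3) (@D3.rec (fun _ => (Cert rels S Gen.b)) lc_b_rc_13_2 lc_b_rc_12_2 lc_b_rc_15_2 lc_b_rc_16_2 lc_b_rc_13_2 lc_b_rc_12_2 lc_b_rc_15_2 lc_b_rc_16_2 lc_b_rc_1_3 lc_b_rc_12_2 lc_b_rc_15_2 lc_b_rc_12_2 lc_b_rc_14_2 lc_b_rc_16_2 lc_b_rc_17_2 lc_b_rc_13_2 lc_b_rc_12_2 lc_b_rc_15_2 lc_b_rc_16_2 lc_b_rc_1_3 lc_b_rc_12_2 lc_b_rc_15_2 lc_b_rc_12_2 lc_b_rc_14_2 lc_b_rc_16_2 lc_b_rc_17_2 lc_b_rc_12_2 lc_b_rc_15_2 lc_b_rc_12_2 lc_b_rc_14_2 lc_b_rc_16_2 lc_b_rc_17_2 lc_b_rc_1_3 lc_b_rc_1_3 lc_b_rc_11_2 lc_b_rc_12_2 lc_b_rc_14_2 lc_b_rc_16_2 lc_b_rc_13_2 lc_b_rc_12_2 lc_b_rc_14_2 lc_b_rc_18_2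 lc_b_rc_17_2 lc_b_rc_11_2 lc_b_rc_12_2 lc_b_rc_14_2 lc_b_rc_16_2 lc_b_rc_13_2 lc_b_rc_12_2 lc_b_rc_14_2 lc_b_rc_18_2) (@D3.rec (fun _ => (Cert rels S Gen.b)) lc_b_rc_17_2 lc_b_Cert_tree lc_b_rc_1_3 lc_b_rc_1_3 lc_b_rc_1_3 lc_b_rc_11_2 lc_b_rc_11_2 lc_b_rc_13_2 lc_b_rc_12_2 lc_b_rc_14_2 lc_b_rc_18_2 lc_b_rc_17_2 lc_b_rc_13_2 lc_b_rc_14_2 lc_b_rc_12_2 lc_b_rc_14_2 lc_b_rc_18_2 lc_b_rc_1_3 lc_b_rc_13_2 lc_b_rc_12_2 lc_b_rc_15_2 lc_b_rc_16_2 lc_b_rc_1_3 lc_b_rc_12_2 lc_b_rc_15_2 lc_b_rc_12_2 lc_b_rc_14_2 lc_b_rc_16_2 lc_b_rc_17_2 lc_b_rc_1_3 lc_b_rc_1_3 lc_b_rc_11_2 lc_b_rc_12_2 lc_b_rc_14_2 lc_b_rc_16_2 lc_b_rc_13_2 lc_b_rc_12_2 lc_b_rc_14_2 lc_b_rc_18_2 lc_b_rc_17_2 lc_b_rc_1_3 lc_b_rc_12_2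 lc_b_rc_15_2 lc_b_rc_12_2 lc_b_rc_14_2 lc_b_rc_16_2 lc_b_rc_17_2 lc_b_rc_1_3 lc_b_rc_1_3 lc_b_rc_11_2 lc_b_rc_12_2) (@D3.rec (fun _ => (Cert rels S Gen.b)) lc_b_rc_14_2 lc_b_rc_16_2 lc_b_rc_13_2 lc_b_rc_12_2 lc_b_rc_14_2 lc_b_rc_18_2 lc_b_rc_17_2 lc_b_Cert_tree lc_b_rc_1_3 lc_b_rc_1_3 lc_b_rc_1_3 lc_b_rc_11_2 lc_b_rc_11_2 lc_b_rc_13_2 lc_b_rc_12_2 lc_b_rc_14_2 lc_b_rc_18_2 lc_b_rc_17_2 lc_b_rc_13_2 lc_b_rc_14_2 lc_b_rc_12_2 lc_b_rc_14_2 lc_b_rc_18_2 lc_b_rc_12_2 lc_b_rc_1_3 lc_b_rc_11_2 lc_b_rc_12_2 lc_b_rc_14_2 lc_b_rc_16_2 lc_b_rc_13_2 lc_b_rc_12_2 lc_b_rc_14_2 lc_b_rc_18_2 lc_b_rc_17_2 lc_b_Cert_tree lc_b_rc_1_3 lc_b_rc_1_3 lc_b_rc_1_3 lc_b_rc_11_2 lc_b_rc_11_2 lc_b_rc_13_2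 lc_b_rc_12_2 lc_b_rc_14_2 lc_b_rc_18_2 lc_b_rc_17_2 lc_b_rc_13_2 lc_b_rc_14_2 lc_b_rc_12_2 lc_b_rc_14_2 lc_b_rc_18_2 lc_b_rc_10_0) (@D3.rec (fun _ => (Cert rels S Gen.b)) lc_b_rc_15_2 lc_b_rc_14_2 lc_b_rc_1_3 lc_b_rc_1_3 lc_b_rc_1_3 lc_b_rc_1_3 lc_b_rc_1_3 lc_b_rc_11_2 lc_b_rc_11_2 lc_b_rc_11_2 lc_b_rc_12_2 lc_b_rc_11_2 lc_b_rc_13_2 lc_b_rc_14_2 lc_b_rc_12_2 lc_b_rc_14_2 lc_b_rc_18_2 lc_b_rc_15_2 lc_b_rc_13_2 lc_b_rc_14_2 lc_b_rc_12_2 lc_b_rc_18_2 lc_b_rc_14_2 lc_b_rc_18_2 lc_b_rc_16_2 lc_b_rc_11_4 lc_b_rc_11_4 lc_b_rc_17_2 lc_b_rc_1_3 lc_b_rc_13_2 lc_b_rc_12_2 lc_b_rc_17_2 lc_b_rc_13_2 lc_b_rc_12_0 lc_b_rc_12_2 lc_b_rc_12_2 lc_b_rc_1_3 lc_b_rc_1_3 lc_b_rc_1_3 lc_b_rc_11_2 lc_b_rc_11_2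 lc_b_rc_13_2 lc_b_rc_14_2 lc_b_rc_12_2 lc_b_rc_14_2 lc_b_rc_15_2 lc_b_rc_13_2 lc_b_rc_14_2 lc_b_rc_12_2 lc_b_rc_14_2 lc_b_rc_14_2) (@D3.rec (fun _ => (Cert rels S Gen.b)) lc_b_rc_14_2 lc_b_rc_14_0 lc_b_rc_14_0 lc_b_rc_1_3 lc_b_rc_1_3 lc_b_rc_1_3 lc_b_rc_1_3 lc_b_rc_12_2 lc_b_rc_11_2 lc_b_rc_11_2 lc_b_rc_11_2 lc_b_rc_11_2 lc_b_rc_15_2 lc_b_rc_13_2 lc_b_rc_14_2 lc_b_rc_12_2 lc_b_rc_18_2 lc_b_rc_14_2 lc_b_rc_18_2 lc_b_rc_15_2 lc_b_rc_15_2 lc_b_rc_14_2 lc_b_rc_12_2 lc_b_rc_18_2 lc_b_Cert_tree lc_b_rc_12_2 lc_b_rc_18_2 lc_b_rc_15_2 lc_b_rc_12_2 lc_b_rc_11_2 lc_b_rc_13_2 lc_b_rc_10_0 lc_b_rc_13_2 lc_b_rc_15_2 lc_b_rc_1_3 lc_b_rc_13_2 lc_b_rc_12_2 lc_b_rc_15_2 lc_b_rc_15_2 lc_b_rc_11_2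 lc_b_rc_13_2 lc_b_rc_13_2 lc_b_rc_13_2 lc_b_rc_13_2 lc_b_rc_12_2 lc_b_rc_15_2 lc_b_rc_13_2 lc_b_rc_1_3 lc_b_rc_12_2 lc_b_rc_15_2 lc_b_rc_12_2) (@D3.rec (fun _ => (Cert rels S Gen.b)) lc_b_rc_14_2 lc_b_rc_16_2 lc_b_rc_13_2 lc_b_rc_15_0 lc_b_rc_15_2 lc_b_rc_12_2 lc_b_rc_13_2 lc_b_rc_13_2 lc_b_rc_12_2 lc_b_rc_15_2 lc_b_rc_12_2 lc_b_rc_14_2 lc_b_rc_16_2 lc_b_rc_13_2 lc_b_rc_1_3 lc_b_rc_1_3 lc_b_rc_11_2 lc_b_rc_12_2 lc_b_rc_14_2 lc_b_rc_16_2 lc_b_rc_13_2 lc_b_rc_12_2 lc_b_rc_14_2 lc_b_rc_18_2 lc_b_rc_17_2 lc_b_rc_17_2 lc_b_rc_11_2 lc_b_rc_16_2 lc_b_rc_12_2 lc_b_rc_15_2 lc_b_rc_12_2 lc_b_rc_14_2 lc_b_rc_16_2 lc_b_rc_17_2 lc_b_rc_1_3 lc_b_rc_1_3 lc_b_rc_11_2 lc_b_rc_12_2 lc_b_rc_14_2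 lc_b_rc_16_2 lc_b_rc_13_2 lc_b_rc_12_2 lc_b_rc_14_2 lc_b_rc_18_2 lc_b_rc_17_2 lc_b_rc_12_2 lc_b_rc_16_2 lc_b_rc_11_2 lc_b_rc_17_2 lc_b_rc_11_2 lc_b_rc_12_2) (@D3.rec (fun _ => (Cert rels S Gen.b)) lc_b_rc_14_2 lc_b_rc_16_2 lc_b_rc_13_2 lc_b_rc_12_2 lc_b_rc_14_2 lc_b_rc_18_2 lc_b_rc_17_2 lc_b_Cert_tree lc_b_rc_1_3 lc_b_rc_1_3 lc_b_rc_1_3 lc_b_rc_11_2 lc_b_rc_11_2 lc_b_rc_13_2 lc_b_rc_12_2 lc_b_rc_14_2 lc_b_rc_18_2 lc_b_rc_17_2 lc_b_rc_13_2 lc_b_rc_14_2 lc_b_rc_12_2 lc_b_rc_14_2 lc_b_rc_18_2 lc_b_rc_14_0 lc_b_rc_16_2 lc_b_rc_13_0 lc_b_rc_55_38 lc_b_rc_17_2 lc_b_rc_11_2 lc_b_rc_11_2 lc_b_rc_13_2 lc_b_rc_12_2 lc_b_rc_14_2 lc_b_rc_18_2 lc_b_rc_17_2 lc_b_rc_13_2 lc_b_rc_14_2 lc_b_rc_12_2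 lc_b_rc_14_2 lc_b_rc_18_2 lc_b_rc_10_0 lc_b_rc_15_2 lc_b_rc_14_2 lc_b_rc_1_3 lc_b_rc_1_3 lc_b_rc_1_3 lc_b_rc_1_3 lc_b_rc_1_3 lc_b_rc_11_2 lc_b_rc_11_2 lc_b_rc_11_2) (@D3.rec (fun _ => (Cert rels S Gen.b)) lc_b_rc_12_2 lc_b_rc_11_2 lc_b_rc_13_2 lc_b_rc_14_2 lc_b_rc_12_2 lc_b_rc_14_2 lc_b_rc_18_2 lc_b_rc_15_2 lc_b_rc_13_2 lc_b_rc_14_2 lc_b_rc_12_2 lc_b_rc_18_2 lc_b_rc_14_2 lc_b_rc_18_2 lc_b_rc_1_3 lc_b_rc_1_3 lc_b_rc_11_2 lc_b_rc_12_2 lc_b_rc_14_2 lc_b_rc_16_2 lc_b_rc_13_2 lc_b_rc_12_2 lc_b_rc_14_2 lc_b_rc_18_2 lc_b_rc_17_2 lc_b_Cert_tree lc_b_rc_1_3 lc_b_rc_1_3 lc_b_rc_1_3 lc_b_rc_11_2 lc_b_rc_11_2 lc_b_rc_13_2 lc_b_rc_12_2 lc_b_rc_14_2 lc_b_rc_18_2 lc_b_rc_17_2 lc_b_rc_13_2 lc_b_rc_14_2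 lc_b_rc_12_2 lc_b_rc_14_2 lc_b_rc_18_2 lc_b_Cert_tree lc_b_rc_1_3 lc_b_rc_1_3 lc_b_rc_1_3 lc_b_rc_11_2 lc_b_rc_11_2 lc_b_rc_13_2 lc_b_rc_12_2 lc_b_rc_14_2 lc_b_rc_18_2) (@D3.rec (fun _ => (Cert rels S Gen.b)) lc_b_rc_17_2 lc_b_rc_13_2 lc_b_rc_14_2 lc_b_rc_12_2 lc_b_rc_14_2 lc_b_rc_18_2 lc_b_rc_10_0 lc_b_rc_15_2 lc_b_rc_12_2 lc_b_rc_1_3 lc_b_rc_1_3 lc_b_rc_1_3 lc_b_rc_1_3 lc_b_rc_1_3 lc_b_rc_11_2 lc_b_rc_11_2 lc_b_rc_11_2 lc_b_rc_12_2 lc_b_rc_11_2 lc_b_rc_13_2 lc_b_rc_14_2 lc_b_rc_12_2 lc_b_rc_14_2 lc_b_rc_18_2 lc_b_rc_15_2 lc_b_rc_13_2 lc_b_rc_14_2 lc_b_rc_12_2 lc_b_rc_18_2 lc_b_rc_14_2 lc_b_rc_18_2 lc_b_rc_10_0 lc_b_rc_15_2 lc_b_rc_15_0 lc_b_rc_1_3 lc_b_rc_1_3 lc_b_rc_1_3 lc_b_rc_1_3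 lc_b_rc_1_3 lc_b_rc_11_2 lc_b_rc_11_2 lc_b_rc_11_2 lc_b_rc_12_2 lc_b_rc_11_2 lc_b_rc_13_2 lc_b_rc_14_2 lc_b_rc_12_2 lc_b_rc_14_2 lc_b_rc_18_2 lc_b_rc_15_2 lc_b_rc_13_2) (@D3.rec (fun _ => (Cert rels S Gen.b)) lc_b_rc_14_2 lc_b_rc_12_2 lc_b_rc_18_2 lc_b_rc_14_2 lc_b_rc_18_2 lc_b_rc_15_2 lc_b_rc_13_2 lc_b_rc_16_2 lc_b_rc_12_2 lc_b_rc_12_2 lc_b_rc_1_3 lc_b_rc_1_3 lc_b_rc_1_3 lc_b_rc_1_3 lc_b_rc_1_3 lc_b_rc_12_2 lc_b_rc_11_2 lc_b_rc_11_2 lc_b_rc_11_2 lc_b_rc_11_2 lc_b_rc_12_2 lc_b_rc_11_2 lc_b_rc_13_2 lc_b_rc_12_2 lc_b_rc_15_2 lc_b_rc_13_2 lc_b_rc_14_2 lc_b_rc_12_2 lc_b_rc_18_2 lc_b_rc_14_2 lc_b_rc_18_2 lc_b_rc_15_2 lc_b_rc_15_2 lc_b_rc_14_2 lc_b_rc_12_2 lc_b_rc_18_2 lc_b_Cert_tree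 lc_b_rc_12_2 lc_b_rc_18_2 lc_b_rc_1_3 lc_b_rc_1_3 lc_b_rc_12_2 lc_b_rc_11_2 lc_b_rc_11_2 lc_b_rc_15_2 lc_b_rc_13_2 lc_b_rc_14_2 lc_b_rc_12_2 lc_b_rc_14_2 lc_b_rc_15_2 lc_b_rc_15_2) (@D3.rec (fun _ => (Cert rels S Gen.b)) lc_b_rc_14_2 lc_b_rc_12_2 lc_b_rc_14_2 lc_b_Cert_tree lc_b_rc_14_0 lc_b_rc_17_2 lc_b_rc_14_0 lc_b_rc_14_0 lc_b_rc_14_0 lc_b_rc_1_3 lc_b_rc_1_3 lc_b_rc_1_3 lc_b_rc_12_2 lc_b_rc_1_3 lc_b_rc_12_2 lc_b_rc_14_2 lc_b_rc_11_2 lc_b_rc_11_2 lc_b_rc_11_2 lc_b_rc_12_2 lc_b_rc_11_2 lc_b_rc_15_2 lc_b_rc_15_2 lc_b_rc_14_2 lc_b_rc_12_2 lc_b_rc_18_2 lc_b_Cert_tree lc_b_rc_12_2 lc_b_rc_18_2 lc_b_rc_16_2 lc_b_rc_15_2 lc_b_rc_12_2 lc_b_rc_18_2 lc_b_rc_12_2 lc_b_rc_18_2 lc_b_Cert_tree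 lc_b_rc_12_2 lc_b_rc_10_0 lc_b_rc_18_2 lc_b_rc_14_2 lc_b_rc_12_2 lc_b_rc_17_2 lc_b_rc_1_3 lc_b_rc_1_3 lc_b_rc_1_3 lc_b_rc_1_3 lc_b_rc_1_3 lc_b_rc_11_2 lc_b_rc_11_2 lc_b_rc_11_2 lc_b_rc_11_0) (@D3.rec (fun _ => (Cert rels S Gen.b)) lc_b_rc_11_2 lc_b_rc_13_2 lc_b_rc_14_2 lc_b_rc_12_2 lc_b_rc_14_2 lc_b_rc_18_2 lc_b_rc_15_2 lc_b_rc_13_2 lc_b_rc_14_2 lc_b_rc_12_2 lc_b_rc_18_2 lc_b_rc_14_2 lc_b_rc_18_2 lc_b_rc_13_2 lc_b_rc_12_2 lc_b_rc_12_0 lc_b_rc_16_2 lc_b_rc_1_3 lc_b_rc_1_3 lc_b_rc_1_3 lc_b_rc_1_3 lc_b_rc_1_3 lc_b_rc_12_2 lc_b_rc_11_2 lc_b_rc_11_2 lc_b_rc_11_2 lc_b_rc_11_2 lc_b_rc_11_0 lc_b_rc_11_2 lc_b_rc_11_0 lc_b_rc_11_0 lc_b_rc_15_2 lc_b_rc_13_2 lc_b_rc_14_2 lc_b_rc_12_2 lc_b_rc_18_2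 lc_b_rc_14_2 lc_b_rc_18_2 lc_b_rc_15_2 lc_b_rc_15_2 lc_b_rc_14_2 lc_b_rc_12_2 lc_b_rc_18_2 lc_b_Cert_tree lc_b_rc_12_2 lc_b_rc_18_2 lc_b_rc_16_2 lc_b_rc_12_0 lc_b_rc_17_2 lc_b_rc_16_2 lc_b_rc_13_0) (@D3.rec (fun _ => (Cert rels S Gen.b)) lc_b_rc_1_3 lc_b_rc_1_3 lc_b_rc_1_3 lc_b_rc_12_2 lc_b_rc_1_3 lc_b_rc_1_3 lc_b_rc_1_3 lc_b_rc_11_2 lc_b_rc_11_2 lc_b_rc_11_2 lc_b_rc_12_2 lc_b_rc_11_2 lc_b_rc_11_2 lc_b_rc_11_0 lc_b_rc_11_2 lc_b_rc_11_0 lc_b_rc_11_0 lc_b_rc_11_0 lc_b_rc_11_0 lc_b_rc_15_2 lc_b_rc_15_2 lc_b_rc_14_2 lc_b_rc_12_2 lc_b_rc_18_2 lc_b_Cert_tree lc_b_rc_12_2 lc_b_rc_18_2 lc_b_rc_16_2 lc_b_rc_15_2 lc_b_rc_12_2 lc_b_rc_18_2 lc_b_rc_12_2 lc_b_rc_18_2 lc_b_Cert_tree lc_b_rc_12_2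 lc_b_rc_10_0 lc_b_rc_18_2 lc_b_rc_14_2 lc_b_rc_1_3 lc_b_rc_1_3 lc_b_rc_1_3 lc_b_rc_12_2 lc_b_rc_1_3 lc_b_Cert_tree lc_b_rc_12_2 lc_b_rc_1_3 lc_b_rc_16_2 lc_b_rc_15_2 lc_b_rc_12_2 lc_b_rc_18_2 lc_b_rc_12_2) (@D3.rec (fun _ => (Cert rels S Gen.b)) lc_b_rc_18_2 lc_b_Cert_tree lc_b_rc_12_2 lc_b_rc_10_0 lc_b_rc_18_2 lc_b_rc_14_2 lc_b_rc_12_2 lc_b_rc_11_4 lc_b_rc_13_2 lc_b_rc_12_2 lc_b_rc_10_0 lc_b_rc_14_2 lc_b_rc_1_3 lc_b_rc_18_2 lc_b_rc_14_2 lc_b_rc_1_3 lc_b_rc_1_3 lc_b_rc_13_2 lc_b_rc_15_2 lc_b_rc_15_2 lc_b_rc_12_2 lc_b_rc_13_2 lc_b_rc_15_2 lc_b_rc_13_2 lc_b_rc_12_2 lc_b_rc_15_2 lc_b_rc_15_2 lc_b_rc_13_2 lc_b_rc_12_2 lc_b_rc_15_2 lc_b_rc_15_2 lc_b_rc_13_2 lc_b_rc_12_2 lc_b_rc_15_2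 lc_b_rc_12_2 lc_b_rc_16_2 lc_b_rc_13_2 lc_b_rc_12_2 lc_b_rc_13_2 lc_b_rc_11_2 lc_b_rc_12_2 lc_b_rc_14_2 lc_b_rc_16_2 lc_b_rc_16_2 lc_b_rc_13_2 lc_b_rc_11_2 lc_b_rc_12_2 lc_b_rc_16_2 lc_b_rc_13_2 lc_b_rc_12_2 lc_b_rc_17_2) (@D3.rec (fun _ => (Cert rels S Gen.b)) lc_b_rc_12_0 lc_b_rc_12_2 lc_b_rc_14_2 lc_b_rc_13_2 lc_b_rc_11_2 lc_b_rc_11_2 lc_b_rc_13_2 lc_b_rc_12_2 lc_b_rc_14_2 lc_b_rc_17_2 lc_b_rc_17_2 lc_b_rc_11_2 lc_b_rc_12_2 lc_b_rc_16_2 lc_b_rc_13_2 lc_b_rc_12_2 lc_b_rc_56_50 lc_b_Cert_tree lc_b_rc_15_2 lc_b_rc_14_2 lc_b_rc_16_2 lc_b_rc_11_2 lc_b_rc_11_2 lc_b_rc_13_2 lc_b_rc_12_2 lc_b_rc_14_2 lc_b_rc_18_2 lc_b_rc_17_2 lc_b_rc_18_2 lc_b_rc_11_2 lc_b_rc_13_2 lc_b_rc_12_2 lc_b_rc_17_2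 lc_b_rc_13_2 lc_b_rc_12_2 lc_b_rc_10_0 lc_b_rc_15_2 lc_b_rc_1_1 lc_b_rc_13_2 lc_b_rc_15_2 lc_b_rc_15_2 lc_b_rc_15_2 lc_b_rc_11_2 lc_b_rc_11_2 lc_b_rc_11_2 lc_b_rc_12_2 lc_b_rc_13_2 lc_b_rc_14_2 lc_b_rc_12_2 lc_b_rc_14_2 lc_b_rc_18_2) (@D3.rec (fun _ => (Cert rels S Gen.b)) lc_b_rc_18_2 lc_b_rc_18_2 lc_b_rc_11_2 lc_b_rc_11_2 lc_b_rc_13_2 lc_b_rc_12_2 lc_b_rc_15_2 lc_b_rc_13_2 lc_b_rc_15_2 lc_b_rc_13_2 lc_b_rc_16_2 lc_b_rc_1_1 lc_b_rc_13_2 lc_b_rc_14_2 lc_b_rc_11_0 lc_b_rc_14_2 lc_b_rc_12_2 lc_b_rc_11_2 lc_b_rc_11_2 lc_b_rc_11_2 lc_b_rc_11_2 lc_b_rc_12_2 lc_b_rc_13_2 lc_b_rc_15_2 lc_b_rc_13_2 lc_b_rc_14_2 lc_b_rc_12_2 lc_b_rc_18_2 lc_b_rc_14_2 lc_b_rc_18_2 lc_b_rc_18_2 lc_b_rc_12_2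 lc_b_rc_18_2 lc_b_rc_1_3 lc_b_rc_1_3 lc_b_rc_1_3 lc_b_rc_11_2 lc_b_rc_10_0 lc_b_rc_13_2 lc_b_rc_12_2 lc_b_rc_14_2 lc_b_rc_17_2 lc_b_rc_1_3 lc_b_rc_11_4 lc_b_rc_15_2 lc_b_rc_15_2 lc_b_rc_1_3 lc_b_rc_1_3 lc_b_rc_1_3 lc_b_rc_11_2 lc_b_rc_11_2) (@D3.rec (fun _ => (Cert rels S Gen.b)) lc_b_rc_11_2 lc_b_rc_12_2 lc_b_rc_15_2 lc_b_rc_1_3 lc_b_rc_1_3 lc_b_rc_1_3 lc_b_rc_11_2 lc_b_rc_11_2 lc_b_rc_15_2 lc_b_rc_13_2 lc_b_rc_14_2 lc_b_rc_12_2 lc_b_rc_14_2 lc_b_rc_13_2 lc_b_rc_55_74 lc_b_rc_13_2 lc_b_rc_14_2 lc_b_rc_15_2 lc_b_rc_13_2 lc_b_rc_15_2 lc_b_rc_1_3 lc_b_rc_1_3 lc_b_rc_12_2 lc_b_rc_11_2 lc_b_rc_11_2 lc_b_rc_11_2 lc_b_rc_11_2 lc_b_rc_12_2 lc_b_rc_13_2 lc_b_rc_13_2 lc_b_rc_1_3 lc_b_rc_1_3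 lc_b_rc_1_3 lc_b_rc_12_2 lc_b_rc_11_2 lc_b_rc_13_2 lc_b_rc_11_2 lc_b_rc_10_0 lc_b_rc_15_2 lc_b_rc_13_2 lc_b_rc_14_2 lc_b_rc_12_2 lc_b_rc_14_2 lc_b_rc_15_2 lc_b_rc_17_2 lc_b_rc_12_2 lc_b_rc_14_2 lc_b_rc_56_50 lc_b_rc_14_2 lc_b_rc_10_1 lc_b_rc_13_2) (@D3.rec (fun _ => (Cert rels S Gen.b)) lc_b_rc_10_1 lc_b_rc_1_3 lc_b_rc_1_3 lc_b_rc_12_2 lc_b_rc_14_2 lc_b_rc_11_2 lc_b_rc_11_2 lc_b_rc_11_2 lc_b_rc_12_2 lc_b_rc_11_2 lc_b_rc_12_2 lc_b_rc_13_2 lc_b_rc_15_2 lc_b_rc_14_0 lc_b_rc_12_0 lc_b_rc_12_0 lc_b_rc_1_3 lc_b_rc_1_3 lc_b_rc_1_3 lc_b_rc_12_2 lc_b_rc_1_3 lc_b_rc_12_2 lc_b_rc_14_2 lc_b_rc_11_2 lc_b_rc_11_2 lc_b_rc_11_2 lc_b_rc_12_2 lc_b_rc_11_2 lc_b_rc_15_2 lc_b_rc_15_2 lc_b_rc_14_2 lc_b_rc_12_2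 lc_b_Cert_tree lc_b_rc_14_2 lc_b_rc_55_74 lc_b_rc_13_2 lc_b_Cert_tree lc_b_rc_10_0 lc_b_rc_12_2 lc_b_rc_13_2 lc_b_rc_17_2 lc_b_rc_12_2 lc_b_rc_14_2 lc_b_rc_15_2 lc_b_rc_13_2 lc_b_rc_1_3 lc_b_rc_12_2 lc_b_rc_12_2 lc_b_rc_14_2 lc_b_rc_18_2 lc_b_rc_11_2) (@D3.rec (fun _ => (Cert rels S Gen.b)) lc_b_rc_13_2 lc_b_rc_11_2 lc_b_rc_1_3 lc_b_rc_1_3 lc_b_rc_12_2 lc_b_rc_11_2 lc_b_rc_11_2 lc_b_rc_11_2 lc_b_rc_11_2 lc_b_rc_11_0 lc_b_rc_11_0 lc_b_rc_12_2 lc_b_rc_13_2 lc_b_rc_11_2 lc_b_rc_1_3 lc_b_rc_12_2 lc_b_rc_14_2 lc_b_rc_11_2 lc_b_rc_11_2 lc_b_rc_12_2 lc_b_rc_11_2 lc_b_rc_11_0 lc_b_rc_11_0 lc_b_rc_11_0 lc_b_rc_16_0 lc_b_rc_14_2 lc_b_rc_11_0 lc_b_rc_11_0 lc_b_rc_11_0 lc_b_rc_11_0 lc_b_rc_12_2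 lc_b_rc_13_2 lc_b_rc_1_3 lc_b_rc_12_2 lc_b_rc_14_2 lc_b_rc_11_2 lc_b_rc_11_2 lc_b_rc_12_2 lc_b_rc_12_2 lc_b_rc_13_2 lc_b_rc_12_0 lc_b_rc_11_2 lc_b_rc_14_2 lc_b_rc_12_0 lc_b_rc_14_2 lc_b_rc_18_2 lc_b_rc_13_0 lc_b_rc_13_2 lc_b_rc_13_2 lc_b_rc_12_0 lc_b_rc_10_0) (@D3.rec (fun _ => (Cert rels S Gen.b)) lc_b_rc_18_2 lc_b_rc_11_4 lc_b_rc_12_0 lc_b_rc_11_2 lc_b_rc_11_2 lc_b_rc_13_2 lc_b_rc_14_2 lc_b_rc_14_2 lc_b_rc_13_2 lc_b_rc_13_2 lc_b_rc_12_2 lc_b_rc_15_2 lc_b_rc_12_2 lc_b_rc_12_2 lc_b_rc_14_2 lc_b_rc_13_2 lc_b_rc_12_2 lc_b_rc_12_2 lc_b_rc_12_2 lc_b_rc_13_2 lc_b_rc_17_2 lc_b_rc_12_2 lc_b_rc_15_2 lc_b_rc_13_2 lc_b_rc_11_4 lc_b_rc_11_4 lc_b_rc_11_2 lc_b_rc_11_2 lc_b_rc_12_2 lc_b_rc_12_0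 lc_b_rc_12_2 lc_b_rc_15_2 lc_b_rc_13_2 lc_b_rc_11_4 lc_b_rc_12_2 lc_b_Cert_tree lc_b_rc_12_2 lc_b_rc_10_0 lc_b_rc_13_2 lc_b_rc_12_2 lc_b_rc_1_3 lc_b_rc_13_2 lc_b_rc_11_4 lc_b_rc_15_2 lc_b_rc_12_2 lc_b_rc_10_0 lc_b_rc_13_2 lc_b_rc_15_2 lc_b_rc_1_3 lc_b_rc_13_2 lc_b_rc_12_2) (@D3.rec (fun _ => (Cert rels S Gen.b)) lc_b_rc_15_2 lc_b_rc_16_2 lc_b_rc_1_3 lc_b_rc_12_2 lc_b_rc_15_2 lc_b_rc_12_2 lc_b_rc_12_2 lc_b_rc_16_2 lc_b_rc_17_2 lc_b_rc_1_3 lc_b_rc_12_2 lc_b_rc_15_2 lc_b_rc_12_2 lc_b_rc_14_2 lc_b_rc_16_2 lc_b_rc_17_2 lc_b_rc_1_3 lc_b_rc_1_3 lc_b_rc_11_2 lc_b_rc_12_2 lc_b_rc_14_2 lc_b_rc_16_2 lc_b_rc_13_2 lc_b_rc_12_2 lc_b_rc_14_2 lc_b_rc_18_2 lc_b_rc_17_2 lc_b_Cert_tree lc_b_rc_1_3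 lc_b_rc_1_3 lc_b_rc_1_3 lc_b_rc_11_2 lc_b_rc_11_2 lc_b_rc_13_2 lc_b_rc_12_2 lc_b_rc_14_2 lc_b_rc_18_2 lc_b_rc_17_2 lc_b_rc_13_2 lc_b_rc_14_2 lc_b_rc_12_2 lc_b_rc_14_2 lc_b_rc_18_2 lc_b_rc_10_0 lc_b_rc_13_2 lc_b_rc_15_2 lc_b_rc_1_3 lc_b_rc_13_2 lc_b_rc_12_2 lc_b_rc_15_2 lc_b_rc_16_2) (@D3.rec (fun _ => (Cert rels S Gen.b)) lc_b_rc_13_2 lc_b_rc_12_2 lc_b_rc_15_2 lc_b_rc_16_2 lc_b_rc_1_3 lc_b_rc_12_2 lc_b_rc_15_2 lc_b_rc_12_2 lc_b_rc_14_2 lc_b_rc_16_2 lc_b_rc_17_2 lc_b_rc_12_2 lc_b_rc_15_2 lc_b_rc_12_2 lc_b_rc_14_2 lc_b_rc_16_2 lc_b_rc_17_2 lc_b_rc_1_3 lc_b_rc_1_3 lc_b_rc_11_2 lc_b_rc_12_2 lc_b_rc_14_2 lc_b_rc_16_2 lc_b_rc_13_2 lc_b_rc_12_2 lc_b_rc_14_2 lc_b_rc_13_2 lc_b_rc_17_2 lc_b_rc_12_2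 lc_b_rc_15_2 lc_b_rc_12_2 lc_b_rc_14_2 lc_b_rc_16_2 lc_b_rc_17_2 lc_b_rc_1_3 lc_b_rc_1_3 lc_b_rc_11_2 lc_b_rc_12_2 lc_b_rc_14_2 lc_b_rc_16_2 lc_b_rc_13_2 lc_b_rc_12_2 lc_b_rc_14_2 lc_b_rc_18_2 lc_b_rc_17_2 lc_b_rc_11_2 lc_b_rc_12_2 lc_b_rc_14_2 lc_b_rc_16_2 lc_b_rc_13_2 lc_b_rc_12_2) (@D3.rec (fun _ => (Cert rels S Gen.b)) lc_b_rc_14_2 lc_b_rc_18_2 lc_b_rc_17_2 lc_b_Cert_tree lc_b_rc_1_3 lc_b_rc_1_3 lc_b_rc_1_3 lc_b_rc_11_2 lc_b_rc_11_2 lc_b_rc_13_2 lc_b_rc_12_2 lc_b_rc_14_2 lc_b_rc_18_2 lc_b_rc_17_2 lc_b_rc_13_2 lc_b_rc_14_2 lc_b_rc_12_2 lc_b_rc_14_2 lc_b_rc_18_2 lc_b_rc_11_2 lc_b_rc_11_2 lc_b_rc_13_2 lc_b_rc_12_2 lc_b_rc_14_2 lc_b_rc_18_2 lc_b_rc_17_2 lc_b_rc_13_2 lc_b_rc_14_2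 lc_b_rc_12_2 lc_b_rc_14_2 lc_b_rc_18_2 lc_b_rc_10_0 lc_b_rc_15_2 lc_b_rc_14_2 lc_b_rc_1_3 lc_b_rc_1_3 lc_b_rc_1_3 lc_b_rc_1_3 lc_b_rc_1_3 lc_b_rc_11_2 lc_b_rc_11_2 lc_b_rc_11_2 lc_b_rc_12_2 lc_b_rc_11_2 lc_b_rc_13_2 lc_b_rc_14_2 lc_b_rc_12_2 lc_b_rc_14_2 lc_b_rc_18_2 lc_b_rc_15_2 lc_b_rc_13_2) (@D3.rec (fun _ => (Cert rels S Gen.b)) lc_b_rc_14_2 lc_b_rc_12_2 lc_b_rc_18_2 lc_b_rc_14_2 lc_b_rc_18_2 lc_b_rc_1_3 lc_b_rc_12_2 lc_b_rc_15_2 lc_b_rc_12_2 lc_b_rc_14_2 lc_b_rc_16_2 lc_b_rc_17_2 lc_b_rc_1_3 lc_b_rc_1_3 lc_b_rc_11_2 lc_b_rc_12_2 lc_b_rc_14_2 lc_b_rc_16_2 lc_b_rc_13_2 lc_b_rc_12_2 lc_b_rc_14_2 lc_b_rc_18_2 lc_b_rc_17_2 lc_b_Cert_tree lc_b_rc_1_3 lc_b_rc_1_3 lc_b_rc_1_3 lc_b_rc_11_2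 lc_b_rc_11_2 lc_b_rc_13_2 lc_b_rc_12_2 lc_b_rc_14_2 lc_b_rc_18_2 lc_b_rc_17_2 lc_b_rc_13_2 lc_b_rc_14_2 lc_b_rc_12_2 lc_b_rc_14_2 lc_b_rc_18_2 lc_b_rc_12_2 lc_b_rc_1_3 lc_b_rc_11_2 lc_b_rc_12_2 lc_b_rc_14_2 lc_b_rc_16_2 lc_b_rc_13_2 lc_b_rc_12_2 lc_b_rc_14_2 lc_b_rc_18_2 lc_b_rc_17_2 lc_b_Cert_tree)
def ce_b_4 : D2 → D3 → (Cert rels S Gen.b) := @D2.rec (fun _ => D3 → (Cert rels S Gen.b)) (@D3.rec (fun _ => (Cert rels S Gen.b)) lc_b_rc_1_3 lc_b_rc_1_3 lc_b_rc_1_3 lc_b_rc_11_2 lc_b_rc_11_2 lc_b_rc_13_2 lc_b_rc_12_2 lc_b_rc_14_2 lc_b_rc_18_2 lc_b_rc_17_2 lc_b_rc_13_2 lc_b_rc_14_2 lc_b_rc_12_2 lc_b_rc_14_2 lc_b_rc_18_2 lc_b_rc_10_0 lc_b_rc_15_2 lc_b_rc_14_2 lc_b_rc_1_3 lc_b_rc_1_3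 lc_b_rc_1_3 lc_b_rc_1_3 lc_b_rc_1_3 lc_b_rc_11_2 lc_b_rc_11_2 lc_b_rc_11_2 lc_b_rc_12_2 lc_b_rc_11_2 lc_b_rc_13_2 lc_b_rc_14_2 lc_b_rc_12_2 lc_b_rc_14_2 lc_b_rc_18_2 lc_b_rc_15_2 lc_b_rc_13_2 lc_b_rc_14_2 lc_b_rc_12_2 lc_b_rc_18_2 lc_b_rc_14_2 lc_b_rc_18_2 lc_b_Cert_tree lc_b_rc_12_2 lc_b_rc_12_2 lc_b_rc_1_3 lc_b_rc_11_2 lc_b_rc_11_2 lc_b_rc_13_2 lc_b_rc_12_2 lc_b_rc_14_2 lc_b_rc_18_2 lc_b_rc_17_2) (@D3.rec (fun _ => (Cert rels S Gen.b)) lc_b_rc_13_2 lc_b_rc_14_2 lc_b_rc_12_2 lc_b_rc_14_2 lc_b_rc_18_2 lc_b_rc_10_0 lc_b_rc_15_2 lc_b_rc_14_2 lc_b_rc_1_3 lc_b_rc_1_3 lc_b_rc_1_3 lc_b_rc_1_3 lc_b_rc_1_3 lc_b_rc_11_2 lc_b_rc_11_2 lc_b_rc_11_2 lc_b_rc_12_2 lc_b_rc_11_2 lc_b_rc_13_2 lc_b_rc_14_2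 lc_b_rc_12_2 lc_b_rc_14_2 lc_b_rc_18_2 lc_b_rc_15_2 lc_b_rc_13_2 lc_b_rc_14_2 lc_b_rc_12_2 lc_b_rc_18_2 lc_b_rc_14_2 lc_b_rc_18_2 lc_b_rc_15_2 lc_b_rc_14_2 lc_b_rc_13_2 lc_b_rc_16_2 lc_b_rc_15_2 lc_b_rc_15_0 lc_b_rc_18_2 lc_b_rc_1_3 lc_b_rc_1_3 lc_b_rc_1_3 lc_b_rc_1_3 lc_b_rc_1_3 lc_b_rc_12_2 lc_b_rc_11_2 lc_b_rc_11_2 lc_b_rc_11_2 lc_b_rc_11_2 lc_b_rc_12_2 lc_b_rc_11_2 lc_b_rc_13_2 lc_b_rc_12_2) (@D3.rec (fun _ => (Cert rels S Gen.b)) lc_b_rc_15_2 lc_b_rc_13_2 lc_b_rc_14_2 lc_b_rc_12_2 lc_b_rc_18_2 lc_b_rc_14_2 lc_b_rc_18_2 lc_b_rc_15_2 lc_b_rc_15_2 lc_b_rc_14_2 lc_b_rc_12_2 lc_b_rc_18_2 lc_b_Cert_tree lc_b_rc_12_2 lc_b_rc_18_2 lc_b_rc_17_2 lc_b_rc_11_4 lc_b_rc_11_4 lc_b_rc_1_3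 lc_b_rc_13_2 lc_b_rc_12_2 lc_b_rc_15_2 lc_b_rc_13_2 lc_b_rc_12_0 lc_b_rc_14_0 lc_b_rc_12_2 lc_b_rc_1_3 lc_b_rc_1_3 lc_b_rc_12_2 lc_b_rc_11_2 lc_b_rc_11_2 lc_b_rc_15_2 lc_b_rc_13_2 lc_b_rc_14_2 lc_b_rc_12_2 lc_b_rc_14_2 lc_b_rc_15_2 lc_b_rc_15_2 lc_b_rc_14_2 lc_b_rc_12_2 lc_b_rc_14_2 lc_b_Cert_tree lc_b_rc_14_0 lc_b_rc_14_2 lc_b_rc_14_0 lc_b_rc_14_0 lc_b_rc_17_2 lc_b_rc_1_3 lc_b_rc_1_3 lc_b_rc_1_3 lc_b_rc_12_2) (@D3.rec (fun _ => (Cert rels S Gen.b)) lc_b_rc_1_3 lc_b_rc_12_2 lc_b_rc_14_2 lc_b_rc_11_2 lc_b_rc_11_2 lc_b_rc_11_2 lc_b_rc_12_2 lc_b_rc_11_2 lc_b_rc_15_2 lc_b_rc_15_2 lc_b_rc_14_2 lc_b_rc_12_2 lc_b_rc_18_2 lc_b_Cert_tree lc_b_rc_12_2 lc_b_rc_18_2 lc_b_rc_16_2 lc_b_rc_15_2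 lc_b_rc_12_2 lc_b_rc_18_2 lc_b_rc_12_2 lc_b_rc_18_2 lc_b_Cert_tree lc_b_rc_12_2 lc_b_rc_10_0 lc_b_rc_18_2 lc_b_rc_14_2 lc_b_rc_12_2 lc_b_rc_11_2 lc_b_rc_13_2 lc_b_rc_13_2 lc_b_rc_15_2 lc_b_rc_13_2 lc_b_rc_12_2 lc_b_rc_15_2 lc_b_rc_15_2 lc_b_rc_1_3 lc_b_rc_12_2 lc_b_rc_15_2 lc_b_rc_12_2 lc_b_rc_14_2 lc_b_rc_11_2 lc_b_rc_17_2 lc_b_rc_15_2 lc_b_rc_12_2 lc_b_rc_13_2 lc_b_rc_13_2 lc_b_rc_12_2 lc_b_rc_15_2 lc_b_rc_12_2 lc_b_rc_14_2) (@D3.rec (fun _ => (Cert rels S Gen.b)) lc_b_rc_16_2 lc_b_rc_13_2 lc_b_rc_1_3 lc_b_rc_1_3 lc_b_rc_11_2 lc_b_rc_12_2 lc_b_rc_14_2 lc_b_rc_16_2 lc_b_rc_13_2 lc_b_rc_12_2 lc_b_rc_14_2 lc_b_rc_18_2 lc_b_rc_16_2 lc_b_rc_11_2 lc_b_rc_11_2 lc_b_rc_16_2 lc_b_rc_12_2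 lc_b_rc_12_2 lc_b_rc_13_2 lc_b_rc_13_2 lc_b_rc_11_2 lc_b_rc_12_2 lc_b_rc_14_2 lc_b_rc_16_2 lc_b_rc_13_2 lc_b_rc_12_2 lc_b_rc_14_2 lc_b_rc_18_2 lc_b_rc_17_2 lc_b_rc_1_3 lc_b_rc_1_3 lc_b_rc_11_2 lc_b_rc_13_2 lc_b_rc_12_2 lc_b_rc_14_2 lc_b_rc_18_2 lc_b_rc_17_2 lc_b_rc_13_2 lc_b_rc_14_2 lc_b_rc_12_2 lc_b_rc_14_2 lc_b_rc_18_2 lc_b_rc_12_2 lc_b_rc_17_2 lc_b_rc_11_2 lc_b_rc_17_2 lc_b_rc_11_2 lc_b_rc_12_2 lc_b_rc_14_2 lc_b_rc_16_2 lc_b_rc_13_2) (@D3.rec (fun _ => (Cert rels S Gen.b)) lc_b_rc_12_2 lc_b_rc_14_2 lc_b_rc_18_2 lc_b_rc_17_2 lc_b_Cert_tree lc_b_rc_1_3 lc_b_rc_1_3 lc_b_rc_1_3 lc_b_rc_11_2 lc_b_rc_11_2 lc_b_rc_13_2 lc_b_rc_12_2 lc_b_rc_14_2 lc_b_rc_18_2 lc_b_rc_17_2 lc_b_rc_13_2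 lc_b_rc_14_2 lc_b_rc_12_2 lc_b_rc_14_2 lc_b_rc_18_2 lc_b_rc_13_2 lc_b_rc_12_2 lc_b_rc_12_2 lc_b_rc_16_2 lc_b_rc_11_2 lc_b_rc_11_2 lc_b_rc_11_2 lc_b_rc_13_2 lc_b_rc_12_2 lc_b_rc_14_2 lc_b_rc_18_2 lc_b_rc_17_2 lc_b_rc_13_2 lc_b_rc_14_2 lc_b_rc_12_2 lc_b_rc_14_2 lc_b_rc_18_2 lc_b_rc_10_0 lc_b_rc_15_2 lc_b_rc_14_2 lc_b_rc_1_3 lc_b_rc_1_3 lc_b_rc_1_3 lc_b_rc_1_3 lc_b_rc_1_3 lc_b_rc_11_2 lc_b_rc_11_2 lc_b_rc_11_2 lc_b_rc_12_2 lc_b_rc_11_2 lc_b_rc_13_2) (@D3.rec (fun _ => (Cert rels S Gen.b)) lc_b_rc_14_2 lc_b_rc_12_2 lc_b_rc_14_2 lc_b_rc_18_2 lc_b_rc_15_2 lc_b_rc_13_2 lc_b_rc_14_2 lc_b_rc_12_2 lc_b_rc_18_2 lc_b_rc_14_2 lc_b_rc_18_2 lc_b_rc_16_2 lc_b_rc_15_0 lc_b_rc_17_2 lc_b_rc_16_2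 lc_b_rc_13_0 lc_b_rc_11_2 lc_b_rc_11_2 lc_b_rc_11_2 lc_b_rc_11_2 lc_b_rc_13_2 lc_b_rc_14_2 lc_b_rc_12_2 lc_b_rc_14_2 lc_b_rc_18_2 lc_b_rc_15_2 lc_b_rc_13_2 lc_b_rc_14_2 lc_b_rc_12_2 lc_b_rc_18_2 lc_b_rc_14_2 lc_b_rc_18_2 lc_b_rc_15_2 lc_b_rc_14_2 lc_b_rc_13_2 lc_b_rc_16_2 lc_b_rc_15_2 lc_b_rc_15_0 lc_b_rc_18_2 lc_b_rc_1_3 lc_b_rc_1_3 lc_b_rc_1_3 lc_b_rc_1_3 lc_b_rc_1_3 lc_b_rc_12_2 lc_b_rc_11_2 lc_b_rc_11_2 lc_b_rc_11_2 lc_b_rc_11_2 lc_b_rc_12_2 lc_b_rc_11_2) (@D3.rec (fun _ => (Cert rels S Gen.b)) lc_b_rc_13_2 lc_b_rc_12_2 lc_b_rc_15_2 lc_b_rc_13_2 lc_b_rc_14_2 lc_b_rc_12_2 lc_b_rc_18_2 lc_b_rc_14_2 lc_b_rc_18_2 lc_b_rc_15_2 lc_b_rc_15_2 lc_b_rc_14_2 lc_b_rc_12_2 lc_b_rc_18_2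 lc_b_Cert_tree lc_b_rc_12_2 lc_b_rc_18_2 lc_b_Cert_tree lc_b_rc_1_3 lc_b_rc_1_3 lc_b_rc_1_3 lc_b_rc_11_2 lc_b_rc_11_2 lc_b_rc_13_2 lc_b_rc_12_2 lc_b_rc_14_2 lc_b_rc_18_2 lc_b_rc_17_2 lc_b_rc_13_2 lc_b_rc_14_2 lc_b_rc_12_2 lc_b_rc_14_2 lc_b_rc_18_2 lc_b_rc_10_0 lc_b_rc_15_2 lc_b_rc_16_2 lc_b_rc_1_3 lc_b_rc_1_3 lc_b_rc_1_3 lc_b_rc_1_3 lc_b_rc_1_3 lc_b_rc_11_2 lc_b_rc_11_2 lc_b_rc_11_2 lc_b_rc_12_2 lc_b_rc_11_2 lc_b_rc_13_2 lc_b_rc_14_2 lc_b_rc_12_2 lc_b_rc_14_2 lc_b_rc_18_2) (@D3.rec (fun _ => (Cert rels S Gen.b)) lc_b_rc_15_2 lc_b_rc_13_2 lc_b_rc_14_2 lc_b_rc_12_2 lc_b_rc_18_2 lc_b_rc_14_2 lc_b_rc_18_2 lc_b_rc_10_0 lc_b_rc_15_2 lc_b_rc_16_2 lc_b_rc_1_3 lc_b_rc_1_3 lc_b_rc_1_3 lc_b_rc_1_3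 lc_b_rc_1_3 lc_b_rc_11_2 lc_b_rc_11_2 lc_b_rc_11_2 lc_b_rc_16_0 lc_b_rc_11_2 lc_b_rc_13_2 lc_b_rc_14_2 lc_b_rc_12_2 lc_b_rc_14_2 lc_b_rc_18_2 lc_b_rc_15_2 lc_b_rc_13_2 lc_b_rc_14_2 lc_b_rc_12_2 lc_b_rc_18_2 lc_b_rc_14_2 lc_b_rc_18_2 lc_b_rc_15_2 lc_b_rc_13_2 lc_b_rc_16_2 lc_b_rc_1_3 lc_b_rc_16_2 lc_b_rc_1_3 lc_b_rc_1_3 lc_b_rc_1_3 lc_b_rc_1_3 lc_b_rc_1_3 lc_b_rc_12_2 lc_b_rc_11_2 lc_b_rc_11_2 lc_b_rc_11_2 lc_b_rc_11_2 lc_b_rc_12_2 lc_b_rc_11_2 lc_b_rc_13_2 lc_b_rc_12_2) (@D3.rec (fun _ => (Cert rels S Gen.b)) lc_b_rc_15_2 lc_b_rc_13_2 lc_b_rc_14_2 lc_b_rc_12_2 lc_b_rc_18_2 lc_b_rc_14_2 lc_b_rc_18_2 lc_b_rc_15_2 lc_b_rc_15_2 lc_b_rc_14_2 lc_b_rc_12_2 lc_b_rc_18_2 lc_b_Cert_tree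 lc_b_rc_12_2 lc_b_rc_18_2 lc_b_rc_15_2 lc_b_rc_13_2 lc_b_rc_16_2 lc_b_rc_14_2 lc_b_rc_14_2 lc_b_rc_1_3 lc_b_rc_1_3 lc_b_rc_1_3 lc_b_rc_1_3 lc_b_rc_1_3 lc_b_rc_12_2 lc_b_rc_11_2 lc_b_rc_11_2 lc_b_rc_11_2 lc_b_rc_11_2 lc_b_rc_12_2 lc_b_rc_11_2 lc_b_rc_12_2 lc_b_rc_15_2 lc_b_rc_13_2 lc_b_rc_14_2 lc_b_rc_12_2 lc_b_rc_18_2 lc_b_rc_14_2 lc_b_rc_18_2 lc_b_rc_15_2 lc_b_rc_15_2 lc_b_rc_14_2 lc_b_rc_12_2 lc_b_rc_18_2 lc_b_Cert_tree lc_b_rc_12_2 lc_b_rc_18_2 lc_b_rc_13_2 lc_b_rc_16_2 lc_b_rc_12_2) (@D3.rec (fun _ => (Cert rels S Gen.b)) lc_b_rc_13_2 lc_b_rc_13_2 lc_b_rc_17_2 lc_b_rc_16_2 lc_b_rc_12_2 lc_b_rc_1_3 lc_b_rc_1_3 lc_b_rc_1_3 lc_b_rc_12_2 lc_b_rc_1_3 lc_b_rc_1_3 lc_b_rc_1_3 lc_b_rc_12_2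 lc_b_rc_14_2 lc_b_rc_11_2 lc_b_rc_11_2 lc_b_rc_11_2 lc_b_rc_12_2 lc_b_rc_11_2 lc_b_rc_11_2 lc_b_rc_12_2 lc_b_rc_11_2 lc_b_rc_13_2 lc_b_rc_12_2 lc_b_rc_15_2 lc_b_rc_13_2 lc_b_rc_15_2 lc_b_rc_15_2 lc_b_rc_14_2 lc_b_rc_12_2 lc_b_rc_18_2 lc_b_Cert_tree lc_b_rc_12_2 lc_b_rc_18_2 lc_b_rc_16_2 lc_b_rc_15_2 lc_b_rc_12_2 lc_b_rc_18_2 lc_b_rc_12_2 lc_b_rc_18_2 lc_b_Cert_tree lc_b_rc_12_2 lc_b_rc_10_0 lc_b_rc_18_2 lc_b_rc_14_2 lc_b_rc_1_3 lc_b_rc_1_3 lc_b_rc_12_2 lc_b_rc_14_2 lc_b_rc_11_2 lc_b_rc_11_2) (@D3.rec (fun _ => (Cert rels S Gen.b)) lc_b_rc_15_2 lc_b_rc_15_2 lc_b_rc_14_2 lc_b_rc_12_2 lc_b_Cert_tree lc_b_rc_16_2 lc_b_rc_15_2 lc_b_rc_12_2 lc_b_rc_15_2 lc_b_rc_12_2 lc_b_rc_17_2 lc_b_Cert_tree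 lc_b_rc_14_0 lc_b_rc_10_0 lc_b_rc_18_2 lc_b_rc_12_2 lc_b_rc_14_0 lc_b_rc_12_0 lc_b_rc_14_0 lc_b_rc_14_0 lc_b_rc_1_3 lc_b_rc_1_3 lc_b_rc_1_3 lc_b_rc_12_2 lc_b_Cert_tree lc_b_rc_12_2 lc_b_rc_12_2 lc_b_rc_14_2 lc_b_rc_14_2 lc_b_rc_18_2 lc_b_rc_11_2 lc_b_rc_11_2 lc_b_rc_11_2 lc_b_rc_12_2 lc_b_Cert_tree lc_b_rc_16_2 lc_b_rc_15_2 lc_b_rc_12_2 lc_b_rc_18_2 lc_b_rc_12_2 lc_b_rc_18_2 lc_b_Cert_tree lc_b_rc_12_2 lc_b_rc_10_0 lc_b_rc_18_2 lc_b_rc_14_2 lc_b_rc_16_2 lc_b_rc_12_2 lc_b_rc_18_2 lc_b_Cert_tree lc_b_rc_13_2) (@D3.rec (fun _ => (Cert rels S Gen.b)) lc_b_rc_12_2 lc_b_Cert_tree lc_b_rc_12_2 lc_b_rc_10_0 lc_b_rc_18_2 lc_b_rc_14_2 lc_b_rc_1_3 lc_b_rc_18_2 lc_b_rc_14_2 lc_b_rc_12_2 lc_b_rc_56_43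 lc_b_rc_12_0 lc_b_rc_17_2 lc_b_rc_1_3 lc_b_rc_1_3 lc_b_rc_1_3 lc_b_rc_1_3 lc_b_rc_1_3 lc_b_rc_12_2 lc_b_rc_11_2 lc_b_rc_11_2 lc_b_rc_11_2 lc_b_rc_11_2 lc_b_rc_11_0 lc_b_rc_11_2 lc_b_rc_11_0 lc_b_rc_11_0 lc_b_rc_15_2 lc_b_rc_13_2 lc_b_rc_14_2 lc_b_rc_12_2 lc_b_rc_18_2 lc_b_rc_14_2 lc_b_rc_18_2 lc_b_rc_1_1 lc_b_rc_15_2 lc_b_rc_14_2 lc_b_rc_12_2 lc_b_rc_18_2 lc_b_Cert_tree lc_b_rc_12_2 lc_b_rc_18_2 lc_b_rc_14_0 lc_b_rc_12_2 lc_b_rc_13_2 lc_b_rc_16_2 lc_b_rc_12_0 lc_b_rc_12_0 lc_b_rc_1_3 lc_b_rc_1_3 lc_b_rc_1_3) (@D3.rec (fun _ => (Cert rels S Gen.b)) lc_b_rc_12_2 lc_b_rc_1_3 lc_b_rc_1_3 lc_b_rc_1_3 lc_b_rc_12_2 lc_b_rc_14_2 lc_b_rc_11_2 lc_b_rc_11_2 lc_b_rc_11_2 lc_b_rc_12_2 lc_b_rc_11_2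 lc_b_rc_11_2 lc_b_rc_11_0 lc_b_rc_11_2 lc_b_rc_11_0 lc_b_rc_11_0 lc_b_rc_11_0 lc_b_rc_11_0 lc_b_rc_15_2 lc_b_rc_15_2 lc_b_rc_14_2 lc_b_rc_12_2 lc_b_rc_18_2 lc_b_Cert_tree lc_b_rc_12_2 lc_b_rc_18_2 lc_b_rc_16_2 lc_b_rc_15_2 lc_b_rc_12_2 lc_b_rc_18_2 lc_b_rc_12_2 lc_b_rc_18_2 lc_b_Cert_tree lc_b_rc_12_2 lc_b_rc_10_0 lc_b_rc_18_2 lc_b_rc_14_2 lc_b_rc_17_2 lc_b_rc_56_50 lc_b_rc_16_2 lc_b_rc_14_2 lc_b_rc_1_3 lc_b_rc_17_2 lc_b_rc_16_2 lc_b_rc_1_3 lc_b_rc_1_3 lc_b_rc_1_3 lc_b_rc_12_2 lc_b_rc_1_3 lc_b_Cert_tree lc_b_rc_12_2) (@D3.rec (fun _ => (Cert rels S Gen.b)) lc_b_rc_1_3 lc_b_rc_11_2 lc_b_rc_11_2 lc_b_rc_11_2 lc_b_rc_12_2 lc_b_rc_11_2 lc_b_Cert_tree lc_b_rc_12_2 lc_b_rc_12_2 lc_b_rc_11_0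 lc_b_rc_11_2 lc_b_rc_11_0 lc_b_rc_11_0 lc_b_rc_11_0 lc_b_rc_11_0 lc_b_rc_11_0 lc_b_rc_11_0 lc_b_rc_16_2 lc_b_rc_15_2 lc_b_rc_12_2 lc_b_rc_18_2 lc_b_rc_12_2 lc_b_rc_18_2 lc_b_Cert_tree lc_b_rc_12_2 lc_b_rc_10_0 lc_b_rc_18_2 lc_b_rc_14_2 lc_b_rc_16_2 lc_b_rc_12_2 lc_b_rc_18_2 lc_b_Cert_tree lc_b_rc_13_2 lc_b_rc_12_2 lc_b_Cert_tree lc_b_rc_12_2 lc_b_rc_10_0 lc_b_rc_18_2 lc_b_rc_14_2 lc_b_rc_1_3 lc_b_rc_18_2 lc_b_rc_14_2 lc_b_rc_1_3 lc_b_rc_1_3 lc_b_rc_12_2 lc_b_rc_1_3 lc_b_rc_12_2 lc_b_rc_1_3 lc_b_Cert_tree lc_b_rc_12_2 lc_b_rc_10_0) (@D3.rec (fun _ => (Cert rels S Gen.b)) lc_b_rc_18_2 lc_b_rc_14_2 lc_b_rc_12_2 lc_b_Cert_tree lc_b_rc_13_2 lc_b_rc_12_2 lc_b_rc_13_2 lc_b_rc_11_2 lc_b_rc_10_0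 lc_b_rc_13_2 lc_b_rc_14_2 lc_b_rc_1_3 lc_b_rc_18_2 lc_b_rc_14_2 lc_b_rc_1_3 lc_b_rc_1_3 lc_b_rc_14_2 lc_b_rc_13_2 lc_b_rc_13_2 lc_b_rc_13_2 lc_b_rc_1_3 lc_b_rc_14_2 lc_b_rc_12_2 lc_b_rc_15_2 lc_b_rc_11_2 lc_b_rc_56_57 lc_b_rc_1_3 lc_b_rc_11_2 lc_b_rc_12_2 lc_b_rc_16_2 lc_b_rc_12_0 lc_b_rc_14_2 lc_b_rc_11_2 lc_b_rc_11_2 lc_b_rc_12_2 lc_b_rc_11_2 lc_b_rc_13_2 lc_b_rc_12_2 lc_b_rc_17_2 lc_b_rc_56_50 lc_b_rc_55_83 lc_b_rc_14_2 lc_b_rc_11_2 lc_b_rc_11_2 lc_b_rc_11_2 lc_b_rc_11_2 lc_b_rc_13_2 lc_b_rc_12_2 lc_b_rc_10_0 lc_b_rc_15_2 lc_b_rc_1_1) (@D3.rec (fun _ => (Cert rels S Gen.b)) lc_b_rc_15_2 lc_b_rc_11_2 lc_b_rc_11_2 lc_b_rc_11_2 lc_b_rc_12_2 lc_b_rc_18_2 lc_b_rc_11_2 lc_b_rc_11_2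 lc_b_rc_13_2 lc_b_rc_12_2 lc_b_rc_15_2 lc_b_rc_13_2 lc_b_rc_16_2 lc_b_rc_15_2 lc_b_rc_13_2 lc_b_rc_16_2 lc_b_rc_12_2 lc_b_rc_11_2 lc_b_rc_11_2 lc_b_rc_11_2 lc_b_rc_11_2 lc_b_rc_12_2 lc_b_rc_13_2 lc_b_rc_18_2 lc_b_rc_18_2 lc_b_rc_12_2 lc_b_rc_11_2 lc_b_rc_11_2 lc_b_rc_15_2 lc_b_rc_13_2 lc_b_rc_13_2 lc_b_rc_16_2 lc_b_rc_12_2 lc_b_rc_13_2 lc_b_rc_13_2 lc_b_rc_17_2 lc_b_rc_1_1 lc_b_rc_16_2 lc_b_rc_10_0 lc_b_rc_16_0 lc_b_rc_12_2 lc_b_rc_14_2 lc_b_rc_11_2 lc_b_rc_11_2 lc_b_rc_11_2 lc_b_rc_12_2 lc_b_rc_11_2 lc_b_rc_12_2 lc_b_rc_13_2 lc_b_rc_15_2 lc_b_rc_18_2) (@D3.rec (fun _ => (Cert rels S Gen.b)) lc_b_rc_11_2 lc_b_rc_12_2 lc_b_rc_18_2 lc_b_rc_15_2 lc_b_rc_11_0 lc_b_rc_1_3 lc_b_rc_1_3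 lc_b_rc_11_2 lc_b_rc_11_2 lc_b_rc_15_2 lc_b_rc_11_2 lc_b_rc_18_0 lc_b_rc_12_2 lc_b_rc_12_2 lc_b_rc_13_2 lc_b_rc_13_2 lc_b_rc_15_2 lc_b_rc_14_2 lc_b_rc_13_2 lc_b_rc_12_2 lc_b_rc_11_2 lc_b_rc_13_2 lc_b_rc_11_2 lc_b_rc_15_0 lc_b_rc_12_2 lc_b_rc_12_0 lc_b_rc_12_2 lc_b_rc_12_2 lc_b_rc_14_2 lc_b_rc_18_0 lc_b_rc_12_2 lc_b_rc_13_2 lc_b_rc_15_2 lc_b_rc_13_2 lc_b_rc_13_2 lc_b_rc_1_3 lc_b_rc_17_2 lc_b_rc_15_2 lc_b_rc_12_2 lc_b_rc_14_2 lc_b_rc_11_2 lc_b_rc_11_2 lc_b_rc_13_2 lc_b_rc_55_29 lc_b_rc_17_2 lc_b_rc_12_2 lc_b_rc_11_2 lc_b_rc_12_2 lc_b_rc_10_1 lc_b_rc_11_2 lc_b_rc_55_11) (@D3.rec (fun _ => (Cert rels S Gen.b)) lc_b_rc_12_2 lc_b_rc_12_2 lc_b_rc_14_2 lc_b_rc_14_2 lc_b_rc_18_2 lc_b_rc_12_2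 lc_b_rc_13_2 lc_b_rc_12_2 lc_b_rc_13_2 lc_b_rc_15_2 lc_b_rc_16_2 lc_b_rc_14_0 lc_b_rc_13_0 lc_b_rc_12_0 lc_b_rc_12_0 lc_b_rc_12_2 lc_b_rc_10_0 lc_b_rc_14_2 lc_b_rc_56_50 lc_b_rc_12_2 lc_b_rc_12_2 lc_b_rc_14_2 lc_b_rc_14_2 lc_b_rc_18_2 lc_b_rc_11_2 lc_b_rc_11_2 lc_b_rc_11_2 lc_b_rc_12_2 lc_b_Cert_tree lc_b_rc_14_0 lc_b_rc_10_0 lc_b_rc_11_4 lc_b_rc_56_57 lc_b_rc_10_0 lc_b_rc_18_2 lc_b_rc_12_2 lc_b_rc_14_2 lc_b_rc_15_2 lc_b_rc_13_2 lc_b_rc_12_2 lc_b_rc_12_2 lc_b_rc_14_2 lc_b_rc_18_2 lc_b_rc_15_2 lc_b_rc_13_2 lc_b_rc_12_2 lc_b_rc_14_2 lc_b_rc_14_2 lc_b_rc_18_2 lc_b_rc_14_0 lc_b_rc_14_0) (@D3.rec (fun _ => (Cert rels S Gen.b)) lc_b_rc_15_2 lc_b_rc_12_2 lc_b_rc_14_2 lc_b_rc_12_2 lc_b_rc_12_2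 lc_b_rc_13_2 lc_b_rc_11_0 lc_b_rc_14_0 lc_b_rc_13_0 lc_b_rc_14_0 lc_b_rc_12_2 lc_b_rc_14_2 lc_b_rc_14_2 lc_b_rc_18_2 lc_b_rc_12_2 lc_b_rc_15_2 lc_b_rc_12_2 lc_b_rc_12_2 lc_b_rc_13_2 lc_b_rc_11_0 lc_b_rc_11_0 lc_b_rc_11_0 lc_b_rc_11_0 lc_b_rc_11_0 lc_b_rc_11_0 lc_b_rc_17_2 lc_b_rc_1_3 lc_b_rc_11_2 lc_b_rc_12_2 lc_b_rc_14_2 lc_b_rc_14_2 lc_b_rc_18_2 lc_b_rc_12_2 lc_b_rc_13_0 lc_b_rc_13_2 lc_b_rc_13_2 lc_b_rc_13_2 lc_b_rc_12_0 lc_b_rc_12_0 lc_b_rc_14_2 lc_b_rc_14_2 lc_b_rc_18_2 lc_b_rc_13_0 lc_b_rc_13_2 lc_b_rc_12_0 lc_b_rc_11_2 lc_b_rc_11_2 lc_b_rc_12_2 lc_b_rc_14_2 lc_b_rc_12_2 lc_b_rc_13_2) (@D3.rec (fun _ => (Cert rels S Gen.b)) lc_b_rc_12_2 lc_b_rc_13_2 lc_b_rc_12_2 lc_b_rc_15_2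 lc_b_rc_55_20 lc_b_rc_12_2 lc_b_rc_15_2 lc_b_rc_13_2 lc_b_rc_16_2 lc_b_rc_12_2 lc_b_rc_13_2 lc_b_rc_13_2 lc_b_rc_10_0 lc_b_rc_56_8 lc_b_rc_12_2 lc_b_rc_1_3 lc_b_rc_13_2 lc_b_rc_14_2 lc_b_rc_1_1 lc_b_rc_12_2 lc_b_rc_15_2 lc_b_rc_56_57 lc_b_rc_12_2 lc_b_rc_12_2 lc_b_rc_1_3 lc_b_rc_13_2 lc_b_rc_11_2 lc_b_rc_14_2 lc_b_rc_16_2 lc_b_rc_1_3 lc_b_rc_12_2 lc_b_rc_15_2 lc_b_rc_14_2 lc_b_rc_12_2 lc_b_rc_14_2 lc_b_rc_17_2 lc_b_rc_1_3 lc_b_rc_12_2 lc_b_rc_16_2 lc_b_rc_12_2 lc_b_rc_14_2 lc_b_rc_1_1 lc_b_rc_14_2 lc_b_rc_1_3 lc_b_rc_1_3 lc_b_rc_11_2 lc_b_rc_12_2 lc_b_rc_14_2 lc_b_rc_16_2 lc_b_rc_1_1 lc_b_rc_12_2) (@D3.rec (fun _ => (Cert rels S Gen.b)) lc_b_rc_14_2 lc_b_rc_18_2 lc_b_rc_14_2 lc_b_rc_56_43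 lc_b_rc_1_3 lc_b_rc_1_3 lc_b_rc_1_3 lc_b_rc_11_2 lc_b_rc_11_2 lc_b_rc_13_2 lc_b_rc_12_2 lc_b_rc_14_2 lc_b_rc_18_2 lc_b_rc_17_2 lc_b_rc_16_2 lc_b_rc_14_2 lc_b_rc_12_2 lc_b_rc_14_2 lc_b_rc_18_2 lc_b_rc_10_0 lc_b_rc_16_2 lc_b_rc_14_2 lc_b_rc_1_3 lc_b_rc_1_3 lc_b_rc_1_3 lc_b_rc_1_3 lc_b_rc_1_3 lc_b_rc_11_2 lc_b_rc_11_2 lc_b_rc_11_2 lc_b_rc_11_2 lc_b_rc_11_2 lc_b_rc_13_2 lc_b_rc_14_2 lc_b_rc_12_2 lc_b_rc_14_2 lc_b_rc_18_2 lc_b_rc_1_1 lc_b_rc_17_2 lc_b_rc_14_2 lc_b_rc_12_2 lc_b_rc_18_2 lc_b_rc_14_2 lc_b_rc_18_2 lc_b_rc_13_2 lc_b_rc_12_2 lc_b_rc_15_2 lc_b_rc_16_2 lc_b_rc_1_3 lc_b_rc_12_2 lc_b_rc_15_2) (@D3.rec (fun _ => (Cert rels S Gen.b)) lc_b_rc_12_2 lc_b_rc_14_2 lc_b_rc_16_2 lc_b_rc_17_2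 lc_b_rc_12_2 lc_b_rc_15_2 lc_b_rc_12_2 lc_b_rc_14_2 lc_b_rc_16_2 lc_b_rc_17_2 lc_b_rc_1_3 lc_b_rc_1_3 lc_b_rc_11_2 lc_b_rc_12_2 lc_b_rc_14_2 lc_b_rc_16_2 lc_b_rc_13_2 lc_b_rc_12_2 lc_b_rc_14_2 lc_b_rc_13_2 lc_b_rc_13_2 lc_b_rc_11_2 lc_b_rc_12_2 lc_b_rc_14_2 lc_b_rc_16_2 lc_b_rc_13_2 lc_b_rc_12_2 lc_b_rc_14_2 lc_b_rc_14_2 lc_b_rc_17_2 lc_b_rc_1_3 lc_b_rc_1_3 lc_b_rc_11_2 lc_b_rc_13_2 lc_b_rc_12_2 lc_b_rc_14_2 lc_b_rc_17_2 lc_b_rc_13_2 lc_b_rc_14_2 lc_b_rc_12_2 lc_b_rc_14_2 lc_b_rc_15_2 lc_b_rc_11_2 lc_b_rc_12_2 lc_b_rc_14_2 lc_b_rc_16_2 lc_b_rc_13_2 lc_b_rc_12_2 lc_b_rc_14_2 lc_b_rc_18_2 lc_b_rc_17_2) (@D3.rec (fun _ => (Cert rels S Gen.b)) lc_b_Cert_tree lc_b_rc_1_3 lc_b_rc_1_3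 lc_b_rc_1_3 lc_b_rc_11_2 lc_b_rc_11_2 lc_b_rc_13_2 lc_b_rc_12_2 lc_b_rc_14_2 lc_b_rc_18_2 lc_b_rc_17_2 lc_b_rc_13_2 lc_b_rc_14_2 lc_b_rc_12_2 lc_b_rc_14_2 lc_b_rc_18_2 lc_b_rc_11_2 lc_b_rc_11_2 lc_b_rc_13_2 lc_b_rc_12_2 lc_b_rc_14_2 lc_b_rc_18_2 lc_b_rc_17_2 lc_b_rc_13_2 lc_b_rc_14_2 lc_b_rc_12_2 lc_b_rc_14_2 lc_b_rc_18_2 lc_b_rc_10_0 lc_b_rc_15_2 lc_b_rc_14_2 lc_b_rc_1_3 lc_b_rc_1_3 lc_b_rc_1_3 lc_b_rc_1_3 lc_b_rc_1_3 lc_b_rc_11_2 lc_b_rc_11_2 lc_b_rc_11_2 lc_b_rc_12_2 lc_b_rc_11_2 lc_b_rc_13_2 lc_b_rc_14_2 lc_b_rc_12_2 lc_b_rc_14_2 lc_b_rc_18_2 lc_b_rc_15_2 lc_b_rc_13_2 lc_b_rc_14_2 lc_b_rc_12_2 lc_b_rc_18_2) (@D3.rec (fun _ => (Cert rels S Gen.b)) lc_b_rc_14_2 lc_b_rc_18_2 lc_b_rc_11_2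 lc_b_rc_11_2 lc_b_rc_11_2 lc_b_rc_12_2 lc_b_rc_11_2 lc_b_rc_13_2 lc_b_rc_14_2 lc_b_rc_12_2 lc_b_rc_14_2 lc_b_rc_18_2 lc_b_rc_15_2 lc_b_rc_13_2 lc_b_rc_14_2 lc_b_rc_12_2 lc_b_rc_18_2 lc_b_rc_14_2 lc_b_rc_18_2 lc_b_rc_15_2 lc_b_rc_14_2 lc_b_rc_13_2 lc_b_rc_16_2 lc_b_rc_15_2 lc_b_rc_12_2 lc_b_rc_18_2 lc_b_rc_1_3 lc_b_rc_1_3 lc_b_rc_1_3 lc_b_rc_1_3 lc_b_rc_1_3 lc_b_rc_12_2 lc_b_rc_11_2 lc_b_rc_11_2 lc_b_rc_11_2 lc_b_rc_11_2 lc_b_rc_12_2 lc_b_rc_11_2 lc_b_rc_13_2 lc_b_rc_12_2 lc_b_rc_15_2 lc_b_rc_13_2 lc_b_rc_14_2 lc_b_rc_12_2 lc_b_rc_18_2 lc_b_rc_14_2 lc_b_rc_18_2 lc_b_rc_15_2 lc_b_rc_15_2 lc_b_rc_14_2 lc_b_rc_12_2) (@D3.rec (fun _ => (Cert rels S Gen.b)) lc_b_rc_18_2 lc_b_Cert_tree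 lc_b_rc_12_2 lc_b_rc_18_2 lc_b_rc_12_2 lc_b_rc_1_3 lc_b_rc_11_2 lc_b_rc_12_2 lc_b_rc_14_2 lc_b_rc_16_2 lc_b_rc_13_2 lc_b_rc_12_2 lc_b_rc_14_2 lc_b_rc_18_2 lc_b_rc_17_2 lc_b_Cert_tree lc_b_rc_1_3 lc_b_rc_1_3 lc_b_rc_1_3 lc_b_rc_11_2 lc_b_rc_11_2 lc_b_rc_13_2 lc_b_rc_12_2 lc_b_rc_14_2 lc_b_rc_18_2 lc_b_rc_17_2 lc_b_rc_13_2 lc_b_rc_14_2 lc_b_rc_12_2 lc_b_rc_14_2 lc_b_rc_18_2 lc_b_rc_10_0 lc_b_rc_15_2 lc_b_rc_14_2 lc_b_rc_1_3 lc_b_rc_1_3 lc_b_rc_1_3 lc_b_rc_1_3 lc_b_rc_1_3 lc_b_rc_11_2 lc_b_rc_11_2 lc_b_rc_11_2 lc_b_rc_12_2 lc_b_rc_11_2 lc_b_rc_13_2 lc_b_rc_14_2 lc_b_rc_12_2 lc_b_rc_14_2 lc_b_rc_18_2 lc_b_rc_15_2 lc_b_rc_13_2) (@D3.rec (fun _ => (Cert rels S Gen.b)) lc_b_rc_14_2 lc_b_rc_12_2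 lc_b_rc_18_2 lc_b_rc_14_2 lc_b_rc_18_2 lc_b_Cert_tree lc_b_rc_12_2 lc_b_rc_12_2 lc_b_rc_1_3 lc_b_rc_11_2 lc_b_rc_11_2 lc_b_rc_13_2 lc_b_rc_12_2 lc_b_rc_14_2 lc_b_rc_18_2 lc_b_rc_17_2 lc_b_rc_13_2 lc_b_rc_14_2 lc_b_rc_12_2 lc_b_rc_14_2 lc_b_rc_18_2 lc_b_rc_10_0 lc_b_rc_15_2 lc_b_rc_14_2 lc_b_rc_1_3 lc_b_rc_1_3 lc_b_rc_1_3 lc_b_rc_1_3 lc_b_rc_1_3 lc_b_rc_11_2 lc_b_rc_11_2 lc_b_rc_11_2 lc_b_rc_12_2 lc_b_rc_11_2 lc_b_rc_13_2 lc_b_rc_14_2 lc_b_rc_12_2 lc_b_rc_14_2 lc_b_rc_18_2 lc_b_rc_15_2 lc_b_rc_13_2 lc_b_rc_14_2 lc_b_rc_12_2 lc_b_rc_18_2 lc_b_rc_14_2 lc_b_rc_18_2 lc_b_rc_15_2 lc_b_rc_14_2 lc_b_rc_13_2 lc_b_rc_16_2 lc_b_rc_15_2)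
def ce_b_5 : D2 → D3 → (Cert rels S Gen.b) := @D2.rec (fun _ => D3 → (Cert rels S Gen.b)) (@D3.rec (fun _ => (Cert rels S Gen.b)) lc_b_rc_16_2 lc_b_rc_18_2 lc_b_rc_1_3 lc_b_rc_1_3 lc_b_rc_1_3 lc_b_rc_1_3 lc_b_rc_1_3 lc_b_rc_12_2 lc_b_rc_11_2 lc_b_rc_11_2 lc_b_rc_11_2 lc_b_rc_11_2 lc_b_rc_12_2 lc_b_rc_11_2 lc_b_rc_13_2 lc_b_rc_12_2 lc_b_rc_15_2 lc_b_rc_13_2 lc_b_rc_14_2 lc_b_rc_12_2 lc_b_rc_18_2 lc_b_rc_14_2 lc_b_rc_18_2 lc_b_rc_15_2 lc_b_rc_15_2 lc_b_rc_14_2 lc_b_rc_12_2 lc_b_rc_18_2 lc_b_Cert_tree lc_b_rc_12_2 lc_b_rc_18_2 lc_b_rc_10_0 lc_b_rc_15_2 lc_b_rc_14_2 lc_b_rc_12_2 lc_b_rc_12_2 lc_b_rc_12_2 lc_b_rc_1_3 lc_b_rc_11_2 lc_b_rc_11_2 lc_b_rc_11_2 lc_b_rc_11_4 lc_b_rc_11_2 lc_b_rc_13_2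 lc_b_rc_14_2 lc_b_rc_12_2 lc_b_rc_14_2 lc_b_rc_18_2 lc_b_rc_15_2 lc_b_rc_13_2 lc_b_rc_14_2) (@D3.rec (fun _ => (Cert rels S Gen.b)) lc_b_rc_13_2 lc_b_rc_18_2 lc_b_rc_14_2 lc_b_rc_18_2 lc_b_rc_15_2 lc_b_rc_14_2 lc_b_rc_13_2 lc_b_rc_16_2 lc_b_rc_15_2 lc_b_rc_55_65 lc_b_rc_18_2 lc_b_rc_1_3 lc_b_rc_1_3 lc_b_rc_1_3 lc_b_rc_1_3 lc_b_rc_1_3 lc_b_rc_12_2 lc_b_rc_11_2 lc_b_rc_11_2 lc_b_rc_11_2 lc_b_rc_11_2 lc_b_rc_12_2 lc_b_rc_11_2 lc_b_rc_15_0 lc_b_rc_12_2 lc_b_rc_15_2 lc_b_rc_13_2 lc_b_rc_14_2 lc_b_rc_12_2 lc_b_rc_18_2 lc_b_rc_14_2 lc_b_rc_18_2 lc_b_rc_15_2 lc_b_rc_15_2 lc_b_rc_14_2 lc_b_rc_12_2 lc_b_rc_18_2 lc_b_Cert_tree lc_b_rc_12_2 lc_b_rc_18_2 lc_b_rc_13_2 lc_b_rc_16_2 lc_b_rc_15_2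 lc_b_rc_18_2 lc_b_rc_12_2 lc_b_rc_13_2 lc_b_rc_13_2 lc_b_rc_17_2 lc_b_rc_16_2 lc_b_rc_13_0 lc_b_rc_18_2) (@D3.rec (fun _ => (Cert rels S Gen.b)) lc_b_rc_18_2 lc_b_rc_1_3 lc_b_rc_1_3 lc_b_rc_1_3 lc_b_rc_12_2 lc_b_rc_1_3 lc_b_rc_1_3 lc_b_rc_1_3 lc_b_rc_12_2 lc_b_rc_14_2 lc_b_rc_11_2 lc_b_rc_11_2 lc_b_rc_11_2 lc_b_rc_12_2 lc_b_rc_11_2 lc_b_rc_11_2 lc_b_rc_12_2 lc_b_rc_11_2 lc_b_rc_13_2 lc_b_rc_12_2 lc_b_rc_15_2 lc_b_rc_13_2 lc_b_rc_14_2 lc_b_rc_15_2 lc_b_rc_15_2 lc_b_rc_14_2 lc_b_rc_12_2 lc_b_rc_18_2 lc_b_Cert_tree lc_b_rc_12_2 lc_b_rc_18_2 lc_b_rc_16_2 lc_b_rc_15_2 lc_b_rc_12_2 lc_b_rc_18_2 lc_b_rc_12_2 lc_b_rc_18_2 lc_b_Cert_tree lc_b_rc_12_2 lc_b_rc_10_0 lc_b_rc_18_2 lc_b_rc_14_2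 lc_b_rc_1_1 lc_b_rc_11_4 lc_b_rc_15_2 lc_b_rc_13_2 lc_b_rc_14_0 lc_b_rc_12_0 lc_b_rc_12_0 lc_b_rc_14_0 lc_b_Cert_tree) (@D3.rec (fun _ => (Cert rels S Gen.b)) lc_b_rc_1_3 lc_b_rc_1_3 lc_b_rc_12_2 lc_b_rc_14_2 lc_b_rc_11_2 lc_b_rc_11_2 lc_b_rc_15_2 lc_b_rc_15_2 lc_b_rc_14_2 lc_b_rc_12_2 lc_b_Cert_tree lc_b_rc_16_2 lc_b_rc_15_2 lc_b_rc_12_2 lc_b_rc_14_2 lc_b_rc_12_2 lc_b_rc_14_2 lc_b_Cert_tree lc_b_rc_14_0 lc_b_rc_10_0 lc_b_rc_18_2 lc_b_rc_12_2 lc_b_rc_14_0 lc_b_rc_12_0 lc_b_rc_15_2 lc_b_rc_17_2 lc_b_rc_1_3 lc_b_rc_1_3 lc_b_rc_1_3 lc_b_rc_12_2 lc_b_Cert_tree lc_b_rc_12_2 lc_b_rc_12_2 lc_b_rc_14_2 lc_b_rc_14_2 lc_b_rc_18_2 lc_b_rc_11_2 lc_b_rc_11_2 lc_b_rc_11_2 lc_b_rc_12_2 lc_b_Cert_tree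 lc_b_rc_16_2 lc_b_rc_15_2 lc_b_rc_12_2 lc_b_rc_18_2 lc_b_rc_12_2 lc_b_rc_18_2 lc_b_Cert_tree lc_b_rc_12_2 lc_b_rc_10_0 lc_b_rc_18_2) (@D3.rec (fun _ => (Cert rels S Gen.b)) lc_b_rc_14_2 lc_b_rc_16_2 lc_b_rc_12_2 lc_b_rc_18_2 lc_b_Cert_tree lc_b_rc_13_2 lc_b_rc_12_2 lc_b_Cert_tree lc_b_rc_12_2 lc_b_rc_10_0 lc_b_rc_18_2 lc_b_rc_14_2 lc_b_rc_1_3 lc_b_rc_18_2 lc_b_rc_14_2 lc_b_rc_12_2 lc_b_rc_15_2 lc_b_rc_1_3 lc_b_rc_1_3 lc_b_rc_11_2 lc_b_rc_12_2 lc_b_rc_14_2 lc_b_rc_13_2 lc_b_rc_14_2 lc_b_rc_11_2 lc_b_rc_12_2 lc_b_rc_14_2 lc_b_rc_16_2 lc_b_rc_13_2 lc_b_rc_18_2 lc_b_rc_1_3 lc_b_rc_1_3 lc_b_rc_11_2 lc_b_rc_13_2 lc_b_rc_12_2 lc_b_rc_14_2 lc_b_rc_18_2 lc_b_rc_13_2 lc_b_rc_14_2 lc_b_rc_14_2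 lc_b_rc_18_2 lc_b_rc_12_2 lc_b_rc_11_2 lc_b_rc_11_2 lc_b_rc_13_2 lc_b_rc_12_2 lc_b_rc_14_2 lc_b_rc_18_2 lc_b_rc_17_2 lc_b_rc_13_2 lc_b_rc_14_2) (@D3.rec (fun _ => (Cert rels S Gen.b)) lc_b_rc_18_2 lc_b_rc_1_3 lc_b_rc_1_3 lc_b_rc_1_3 lc_b_rc_11_2 lc_b_rc_11_2 lc_b_rc_13_2 lc_b_rc_14_2 lc_b_rc_12_2 lc_b_rc_14_2 lc_b_rc_18_2 lc_b_rc_15_2 lc_b_rc_13_2 lc_b_rc_14_2 lc_b_rc_12_2 lc_b_rc_18_2 lc_b_rc_14_2 lc_b_rc_18_2 lc_b_rc_12_2 lc_b_rc_17_2 lc_b_rc_11_2 lc_b_rc_11_2 lc_b_rc_13_2 lc_b_rc_12_2 lc_b_rc_14_2 lc_b_rc_18_2 lc_b_rc_17_2 lc_b_rc_13_2 lc_b_rc_14_2 lc_b_rc_12_2 lc_b_rc_14_2 lc_b_rc_18_2 lc_b_rc_10_0 lc_b_rc_15_2 lc_b_rc_14_2 lc_b_rc_1_3 lc_b_rc_1_3 lc_b_rc_1_3 lc_b_rc_1_3 lc_b_rc_1_3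 lc_b_rc_11_2 lc_b_rc_11_2 lc_b_rc_11_2 lc_b_rc_12_2 lc_b_rc_11_2 lc_b_rc_13_2 lc_b_rc_14_2 lc_b_rc_12_2 lc_b_rc_14_2 lc_b_rc_18_2 lc_b_rc_15_2) (@D3.rec (fun _ => (Cert rels S Gen.b)) lc_b_rc_13_2 lc_b_rc_14_2 lc_b_rc_12_2 lc_b_rc_18_2 lc_b_rc_14_2 lc_b_rc_18_2 lc_b_rc_13_2 lc_b_rc_12_2 lc_b_rc_12_2 lc_b_rc_11_2 lc_b_rc_11_2 lc_b_rc_11_2 lc_b_rc_11_2 lc_b_rc_13_2 lc_b_rc_14_2 lc_b_rc_12_2 lc_b_rc_14_2 lc_b_rc_18_2 lc_b_rc_15_2 lc_b_rc_13_2 lc_b_rc_14_2 lc_b_rc_12_2 lc_b_rc_18_2 lc_b_rc_14_2 lc_b_rc_18_2 lc_b_rc_15_2 lc_b_rc_14_2 lc_b_rc_13_2 lc_b_rc_16_2 lc_b_rc_15_2 lc_b_rc_16_2 lc_b_rc_18_2 lc_b_rc_1_3 lc_b_rc_1_3 lc_b_rc_1_3 lc_b_rc_1_3 lc_b_rc_1_3 lc_b_rc_12_2 lc_b_rc_11_2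 lc_b_rc_11_2 lc_b_rc_11_2 lc_b_rc_11_2 lc_b_rc_12_2 lc_b_rc_11_2 lc_b_rc_13_2 lc_b_rc_12_2 lc_b_rc_15_2 lc_b_rc_13_2 lc_b_rc_14_2 lc_b_rc_12_2 lc_b_rc_18_2) (@D3.rec (fun _ => (Cert rels S Gen.b)) lc_b_rc_14_2 lc_b_rc_18_2 lc_b_rc_15_2 lc_b_rc_15_2 lc_b_rc_14_2 lc_b_rc_12_2 lc_b_rc_18_2 lc_b_Cert_tree lc_b_rc_12_2 lc_b_rc_18_2 lc_b_rc_16_2 lc_b_rc_11_0 lc_b_rc_55_20 lc_b_rc_17_2 lc_b_rc_16_2 lc_b_rc_12_2 lc_b_rc_11_2 lc_b_rc_11_2 lc_b_rc_11_2 lc_b_rc_11_2 lc_b_rc_11_2 lc_b_rc_15_2 lc_b_rc_13_2 lc_b_rc_14_2 lc_b_rc_12_2 lc_b_rc_18_2 lc_b_rc_14_2 lc_b_rc_18_2 lc_b_rc_15_2 lc_b_rc_15_2 lc_b_rc_14_2 lc_b_rc_12_2 lc_b_rc_18_2 lc_b_Cert_tree lc_b_rc_12_2 lc_b_rc_18_2 lc_b_rc_13_2 lc_b_rc_16_2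 lc_b_rc_15_2 lc_b_rc_18_2 lc_b_rc_12_2 lc_b_rc_13_2 lc_b_rc_13_2 lc_b_rc_17_2 lc_b_rc_16_2 lc_b_rc_14_2 lc_b_rc_18_2 lc_b_rc_12_2 lc_b_rc_1_3 lc_b_rc_1_3 lc_b_rc_1_3) (@D3.rec (fun _ => (Cert rels S Gen.b)) lc_b_rc_1_3 lc_b_rc_1_3 lc_b_rc_1_3 lc_b_rc_1_3 lc_b_rc_12_2 lc_b_rc_14_2 lc_b_rc_11_2 lc_b_rc_11_2 lc_b_rc_11_2 lc_b_rc_12_2 lc_b_rc_11_2 lc_b_rc_11_2 lc_b_rc_12_2 lc_b_rc_11_2 lc_b_rc_13_2 lc_b_rc_12_2 lc_b_rc_15_2 lc_b_rc_13_2 lc_b_rc_15_2 lc_b_rc_15_2 lc_b_rc_14_2 lc_b_rc_12_2 lc_b_rc_18_2 lc_b_Cert_tree lc_b_rc_12_2 lc_b_rc_18_2 lc_b_rc_16_2 lc_b_rc_15_2 lc_b_rc_12_2 lc_b_rc_18_2 lc_b_rc_12_2 lc_b_rc_18_2 lc_b_Cert_tree lc_b_rc_12_2 lc_b_rc_10_0 lc_b_rc_18_2 lc_b_rc_14_2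 lc_b_rc_10_0 lc_b_rc_15_2 lc_b_rc_17_2 lc_b_rc_1_3 lc_b_rc_1_3 lc_b_rc_1_3 lc_b_rc_1_3 lc_b_rc_1_3 lc_b_rc_11_2 lc_b_rc_11_2 lc_b_rc_11_2 lc_b_rc_12_2 lc_b_rc_11_2 lc_b_rc_13_2) (@D3.rec (fun _ => (Cert rels S Gen.b)) lc_b_rc_14_2 lc_b_rc_12_2 lc_b_rc_14_2 lc_b_rc_18_2 lc_b_rc_15_2 lc_b_rc_13_2 lc_b_rc_14_2 lc_b_rc_12_2 lc_b_rc_18_2 lc_b_rc_14_2 lc_b_rc_18_2 lc_b_rc_15_2 lc_b_rc_13_2 lc_b_rc_16_2 lc_b_rc_15_2 lc_b_rc_12_2 lc_b_rc_1_3 lc_b_rc_1_3 lc_b_rc_1_3 lc_b_rc_1_3 lc_b_rc_1_3 lc_b_rc_12_2 lc_b_rc_11_2 lc_b_rc_11_2 lc_b_rc_18_0 lc_b_rc_11_2 lc_b_rc_12_2 lc_b_rc_11_2 lc_b_rc_13_2 lc_b_rc_12_2 lc_b_rc_15_2 lc_b_rc_13_2 lc_b_rc_14_2 lc_b_rc_12_2 lc_b_rc_18_2 lc_b_rc_14_2 lc_b_rc_18_2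 lc_b_rc_15_2 lc_b_rc_15_2 lc_b_rc_14_2 lc_b_rc_12_2 lc_b_rc_18_2 lc_b_Cert_tree lc_b_rc_12_2 lc_b_rc_18_2 lc_b_rc_15_2 lc_b_rc_13_2 lc_b_rc_16_2 lc_b_rc_18_0 lc_b_rc_14_2 lc_b_rc_1_3) (@D3.rec (fun _ => (Cert rels S Gen.b)) lc_b_rc_1_3 lc_b_rc_1_3 lc_b_rc_1_3 lc_b_rc_1_3 lc_b_rc_12_2 lc_b_rc_11_2 lc_b_rc_11_2 lc_b_rc_11_2 lc_b_rc_11_2 lc_b_rc_15_2 lc_b_rc_11_2 lc_b_rc_12_2 lc_b_rc_15_2 lc_b_rc_13_2 lc_b_rc_14_2 lc_b_rc_12_2 lc_b_rc_18_2 lc_b_rc_14_2 lc_b_rc_18_2 lc_b_rc_15_2 lc_b_rc_15_2 lc_b_rc_14_2 lc_b_rc_12_2 lc_b_rc_18_2 lc_b_Cert_tree lc_b_rc_12_2 lc_b_rc_18_2 lc_b_rc_13_2 lc_b_rc_16_2 lc_b_rc_12_2 lc_b_rc_13_2 lc_b_rc_13_2 lc_b_rc_17_2 lc_b_rc_15_2 lc_b_rc_15_2 lc_b_rc_1_3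 lc_b_rc_1_3 lc_b_rc_1_3 lc_b_rc_12_2 lc_b_rc_1_3 lc_b_rc_1_3 lc_b_rc_1_3 lc_b_rc_12_2 lc_b_rc_14_2 lc_b_rc_11_2 lc_b_rc_11_2 lc_b_rc_11_2 lc_b_rc_12_2 lc_b_rc_11_2 lc_b_rc_11_2 lc_b_rc_12_2) (@D3.rec (fun _ => (Cert rels S Gen.b)) lc_b_rc_11_2 lc_b_rc_13_2 lc_b_rc_12_2 lc_b_rc_15_2 lc_b_rc_13_2 lc_b_rc_15_2 lc_b_rc_15_2 lc_b_rc_14_2 lc_b_rc_12_2 lc_b_rc_18_2 lc_b_Cert_tree lc_b_rc_12_2 lc_b_rc_18_2 lc_b_rc_16_2 lc_b_rc_15_2 lc_b_rc_12_2 lc_b_rc_18_2 lc_b_rc_12_2 lc_b_rc_18_2 lc_b_Cert_tree lc_b_rc_12_2 lc_b_rc_10_0 lc_b_rc_18_2 lc_b_rc_14_2 lc_b_rc_13_2 lc_b_rc_16_2 lc_b_rc_13_2 lc_b_rc_14_2 lc_b_rc_17_2 lc_b_rc_16_2 lc_b_rc_14_2 lc_b_rc_1_3 lc_b_rc_1_3 lc_b_rc_1_3 lc_b_rc_1_3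 lc_b_rc_1_3 lc_b_rc_1_3 lc_b_rc_12_2 lc_b_rc_14_2 lc_b_rc_11_2 lc_b_rc_11_2 lc_b_rc_11_2 lc_b_rc_12_2 lc_b_rc_11_2 lc_b_rc_11_2 lc_b_rc_12_2 lc_b_rc_11_2 lc_b_rc_13_2 lc_b_rc_12_2 lc_b_rc_15_2 lc_b_rc_15_2) (@D3.rec (fun _ => (Cert rels S Gen.b)) lc_b_rc_14_2 lc_b_rc_12_2 lc_b_rc_18_2 lc_b_Cert_tree lc_b_rc_12_2 lc_b_rc_18_2 lc_b_rc_16_2 lc_b_rc_15_2 lc_b_rc_12_2 lc_b_rc_18_2 lc_b_rc_12_2 lc_b_rc_18_2 lc_b_Cert_tree lc_b_rc_12_2 lc_b_rc_10_0 lc_b_rc_18_2 lc_b_rc_12_2 lc_b_rc_12_2 lc_b_rc_13_2 lc_b_rc_17_2 lc_b_rc_12_2 lc_b_rc_14_2 lc_b_rc_15_2 lc_b_rc_13_2 lc_b_rc_13_2 lc_b_rc_14_0 lc_b_rc_10_1 lc_b_rc_12_2 lc_b_rc_12_2 lc_b_rc_1_3 lc_b_rc_1_3 lc_b_rc_1_3 lc_b_rc_12_2 lc_b_rc_1_3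 lc_b_Cert_tree lc_b_rc_12_2 lc_b_rc_1_3 lc_b_rc_12_2 lc_b_rc_12_2 lc_b_rc_14_2 lc_b_rc_14_2 lc_b_rc_18_2 lc_b_rc_11_2 lc_b_rc_11_2 lc_b_rc_11_2 lc_b_rc_12_2 lc_b_rc_11_2 lc_b_Cert_tree lc_b_rc_13_2 lc_b_rc_12_2 lc_b_rc_12_2) (@D3.rec (fun _ => (Cert rels S Gen.b)) lc_b_rc_11_2 lc_b_rc_13_2 lc_b_rc_12_2 lc_b_rc_15_2 lc_b_rc_13_2 lc_b_rc_16_2 lc_b_rc_15_2 lc_b_rc_16_2 lc_b_rc_15_2 lc_b_rc_12_2 lc_b_rc_18_2 lc_b_rc_12_2 lc_b_rc_18_2 lc_b_Cert_tree lc_b_rc_12_2 lc_b_rc_10_0 lc_b_rc_18_2 lc_b_rc_14_2 lc_b_rc_16_2 lc_b_rc_12_2 lc_b_rc_18_2 lc_b_Cert_tree lc_b_rc_13_2 lc_b_rc_12_2 lc_b_Cert_tree lc_b_rc_12_2 lc_b_rc_10_0 lc_b_rc_18_2 lc_b_rc_14_2 lc_b_rc_1_3 lc_b_rc_18_2 lc_b_rc_14_2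 lc_b_rc_1_3 lc_b_rc_12_2 lc_b_rc_12_2 lc_b_rc_14_2 lc_b_rc_18_2 lc_b_rc_11_2 lc_b_rc_16_2 lc_b_rc_15_2 lc_b_rc_12_2 lc_b_rc_12_2 lc_b_Cert_tree lc_b_rc_10_0 lc_b_rc_16_2 lc_b_rc_12_2 lc_b_rc_17_2 lc_b_Cert_tree lc_b_rc_13_2 lc_b_rc_15_2 lc_b_Cert_tree) (@D3.rec (fun _ => (Cert rels S Gen.b)) lc_b_rc_17_2 lc_b_rc_10_0 lc_b_rc_18_2 lc_b_rc_12_2 lc_b_rc_1_3 lc_b_rc_18_2 lc_b_rc_14_2 lc_b_rc_14_0 lc_b_rc_14_0 lc_b_rc_12_0 lc_b_rc_12_0 lc_b_rc_15_2 lc_b_rc_1_3 lc_b_rc_1_3 lc_b_rc_12_2 lc_b_rc_12_2 lc_b_Cert_tree lc_b_rc_10_0 lc_b_rc_13_2 lc_b_rc_12_2 lc_b_rc_14_2 lc_b_rc_14_2 lc_b_rc_14_2 lc_b_rc_18_2 lc_b_Cert_tree lc_b_rc_18_2 lc_b_rc_11_2 lc_b_rc_11_2 lc_b_rc_12_2 lc_b_rc_12_2 lc_b_Cert_tree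 lc_b_rc_10_0 lc_b_rc_16_2 lc_b_rc_12_2 lc_b_rc_18_2 lc_b_Cert_tree lc_b_rc_13_2 lc_b_rc_12_2 lc_b_Cert_tree lc_b_rc_12_2 lc_b_rc_10_0 lc_b_rc_18_2 lc_b_rc_14_2 lc_b_rc_1_3 lc_b_rc_18_2 lc_b_rc_14_2 lc_b_rc_12_2 lc_b_rc_18_2 lc_b_rc_11_4 lc_b_rc_13_2 lc_b_rc_12_2) (@D3.rec (fun _ => (Cert rels S Gen.b)) lc_b_rc_10_0 lc_b_rc_14_2 lc_b_rc_10_0 lc_b_rc_14_2 lc_b_rc_1_3 lc_b_rc_18_2 lc_b_rc_14_2 lc_b_rc_1_3 lc_b_rc_14_2 lc_b_rc_12_2 lc_b_rc_12_0 lc_b_rc_14_2 lc_b_rc_12_0 lc_b_rc_1_3 lc_b_rc_12_2 lc_b_rc_1_3 lc_b_rc_1_3 lc_b_rc_1_3 lc_b_rc_11_2 lc_b_rc_12_2 lc_b_rc_11_2 lc_b_rc_11_2 lc_b_rc_12_2 lc_b_rc_11_2 lc_b_rc_11_0 lc_b_rc_11_0 lc_b_rc_11_0 lc_b_rc_11_0 lc_b_rc_15_2 lc_b_rc_14_2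 lc_b_rc_12_2 lc_b_rc_18_2 lc_b_Cert_tree lc_b_rc_12_2 lc_b_rc_18_2 lc_b_rc_1_1 lc_b_rc_12_2 lc_b_rc_18_2 lc_b_rc_12_2 lc_b_rc_18_2 lc_b_Cert_tree lc_b_rc_12_2 lc_b_rc_10_0 lc_b_rc_18_2 lc_b_rc_14_2 lc_b_rc_12_0 lc_b_rc_14_2 lc_b_rc_13_2 lc_b_rc_16_2 lc_b_rc_12_0 lc_b_rc_1_3) (@D3.rec (fun _ => (Cert rels S Gen.b)) lc_b_rc_1_3 lc_b_rc_12_2 lc_b_rc_1_3 lc_b_Cert_tree lc_b_rc_12_2 lc_b_rc_1_3 lc_b_rc_14_2 lc_b_rc_18_2 lc_b_rc_11_2 lc_b_rc_11_2 lc_b_rc_12_2 lc_b_rc_11_2 lc_b_Cert_tree lc_b_rc_12_2 lc_b_rc_12_2 lc_b_rc_12_2 lc_b_rc_11_2 lc_b_rc_11_0 lc_b_rc_11_0 lc_b_rc_11_0 lc_b_rc_11_0 lc_b_rc_11_0 lc_b_rc_11_0 lc_b_rc_15_2 lc_b_rc_12_2 lc_b_rc_18_2 lc_b_rc_12_2 lc_b_rc_18_2 lc_b_Cert_tree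 lc_b_rc_12_2 lc_b_rc_10_0 lc_b_rc_18_2 lc_b_rc_14_2 lc_b_rc_16_2 lc_b_rc_12_2 lc_b_rc_18_2 lc_b_Cert_tree lc_b_rc_13_2 lc_b_rc_12_2 lc_b_Cert_tree lc_b_rc_12_2 lc_b_rc_10_0 lc_b_rc_18_2 lc_b_rc_14_2 lc_b_rc_1_3 lc_b_rc_18_2 lc_b_rc_14_2 lc_b_rc_17_2 lc_b_rc_14_2 lc_b_rc_16_2 lc_b_rc_16_2) (@D3.rec (fun _ => (Cert rels S Gen.b)) lc_b_Cert_tree lc_b_rc_12_2 lc_b_rc_17_2 lc_b_rc_1_3 lc_b_rc_12_2 lc_b_rc_1_3 lc_b_rc_12_2 lc_b_rc_1_3 lc_b_Cert_tree lc_b_rc_12_2 lc_b_rc_10_0 lc_b_rc_18_2 lc_b_rc_14_2 lc_b_rc_11_2 lc_b_rc_12_2 lc_b_rc_11_2 lc_b_rc_12_2 lc_b_rc_11_2 lc_b_Cert_tree lc_b_rc_12_2 lc_b_rc_12_2 lc_b_rc_10_0 lc_b_rc_13_2 lc_b_rc_18_2 lc_b_rc_12_2 lc_b_rc_12_2 lc_b_rc_14_2 lc_b_rc_11_0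 lc_b_rc_11_0 lc_b_rc_11_0 lc_b_rc_11_0 lc_b_rc_11_0 lc_b_rc_11_0 lc_b_rc_11_0 lc_b_rc_11_0 lc_b_rc_16_2 lc_b_rc_12_2 lc_b_rc_18_2 lc_b_Cert_tree lc_b_rc_13_2 lc_b_rc_12_2 lc_b_Cert_tree lc_b_rc_12_2 lc_b_rc_10_0 lc_b_rc_18_2 lc_b_rc_14_2 lc_b_rc_1_3 lc_b_rc_18_2 lc_b_rc_14_2 lc_b_rc_18_2 lc_b_rc_12_2) (@D3.rec (fun _ => (Cert rels S Gen.b)) lc_b_rc_10_0 lc_b_rc_56_57 lc_b_rc_13_2 lc_b_rc_14_2 lc_b_rc_10_0 lc_b_rc_1_3 lc_b_rc_18_2 lc_b_rc_1_3 lc_b_rc_14_2 lc_b_rc_12_2 lc_b_Cert_tree lc_b_rc_13_2 lc_b_rc_12_2 lc_b_Cert_tree lc_b_rc_12_2 lc_b_rc_10_0 lc_b_rc_18_2 lc_b_rc_14_2 lc_b_rc_1_3 lc_b_rc_18_2 lc_b_rc_14_2 lc_b_rc_13_0 lc_b_rc_10_0 lc_b_rc_12_0 lc_b_rc_13_0 lc_b_rc_1_3 lc_b_rc_13_2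 lc_b_rc_1_3 lc_b_rc_14_2 lc_b_rc_12_2 lc_b_rc_1_3 lc_b_rc_12_2 lc_b_rc_11_2 lc_b_rc_11_2 lc_b_rc_11_2 lc_b_rc_15_2 lc_b_rc_15_2 lc_b_rc_12_2 lc_b_rc_12_2 lc_b_rc_13_2 lc_b_rc_12_2 lc_b_rc_11_2 lc_b_rc_11_2 lc_b_rc_13_2 lc_b_rc_16_2 lc_b_rc_12_2 lc_b_rc_13_2 lc_b_rc_15_2 lc_b_rc_12_2 lc_b_rc_14_2 lc_b_rc_12_2) (@D3.rec (fun _ => (Cert rels S Gen.b)) lc_b_rc_13_2 lc_b_rc_15_2 lc_b_rc_12_2 lc_b_rc_14_2 lc_b_rc_11_2 lc_b_rc_11_2 lc_b_rc_12_2 lc_b_rc_13_2 lc_b_rc_17_2 lc_b_rc_12_2 lc_b_rc_14_2 lc_b_rc_13_2 lc_b_rc_13_0 lc_b_rc_1_1 lc_b_rc_56_50 lc_b_rc_12_2 lc_b_rc_12_2 lc_b_rc_14_2 lc_b_rc_14_2 lc_b_rc_18_2 lc_b_rc_12_2 lc_b_rc_11_2 lc_b_rc_13_2 lc_b_rc_12_2 lc_b_rc_13_2 lc_b_rc_15_2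 lc_b_rc_16_2 lc_b_rc_11_2 lc_b_rc_18_2 lc_b_rc_11_2 lc_b_rc_12_2 lc_b_rc_12_2 lc_b_rc_1_5 lc_b_rc_10_1 lc_b_rc_15_2 lc_b_rc_18_2 lc_b_rc_12_0 lc_b_rc_12_0 lc_b_rc_14_0 lc_b_rc_14_2 lc_b_rc_12_2 lc_b_rc_16_2 lc_b_rc_12_2 lc_b_rc_1_5 lc_b_rc_10_1 lc_b_rc_18_2 lc_b_rc_55_65 lc_b_rc_13_2 lc_b_rc_15_2 lc_b_rc_16_2 lc_b_rc_16_2) (@D3.rec (fun _ => (Cert rels S Gen.b)) lc_b_rc_14_2 lc_b_rc_56_8 lc_b_rc_11_2 lc_b_rc_12_2 lc_b_rc_12_2 lc_b_rc_14_2 lc_b_rc_55_29 lc_b_rc_18_2 lc_b_rc_12_2 lc_b_rc_55_20 lc_b_rc_16_2 lc_b_rc_11_4 lc_b_rc_55_47 lc_b_rc_12_2 lc_b_rc_1_3 lc_b_rc_13_2 lc_b_rc_14_2 lc_b_rc_14_2 lc_b_rc_14_2 lc_b_rc_18_2 lc_b_rc_14_2 lc_b_rc_18_2 lc_b_rc_13_2 lc_b_rc_15_2 lc_b_rc_13_2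 lc_b_rc_15_2 lc_b_rc_16_2 lc_b_rc_17_2 lc_b_rc_15_2 lc_b_rc_14_0 lc_b_rc_13_0 lc_b_rc_13_0 lc_b_rc_12_0 lc_b_rc_13_2 lc_b_rc_12_2 lc_b_rc_14_2 lc_b_rc_14_2 lc_b_rc_14_2 lc_b_rc_18_2 lc_b_Cert_tree lc_b_rc_18_2 lc_b_rc_12_2 lc_b_rc_12_2 lc_b_rc_13_2 lc_b_rc_10_0 lc_b_rc_13_2 lc_b_rc_1_5 lc_b_rc_12_2 lc_b_rc_12_2 lc_b_rc_14_2 lc_b_rc_18_2) (@D3.rec (fun _ => (Cert rels S Gen.b)) lc_b_rc_15_2 lc_b_rc_1_3 lc_b_rc_1_3 lc_b_rc_14_2 lc_b_rc_14_2 lc_b_rc_18_2 lc_b_rc_13_2 lc_b_rc_14_2 lc_b_rc_14_2 lc_b_rc_18_2 lc_b_rc_18_2 lc_b_rc_14_2 lc_b_rc_18_2 lc_b_rc_13_2 lc_b_rc_13_2 lc_b_rc_13_2 lc_b_rc_11_0 lc_b_rc_15_2 lc_b_rc_14_2 lc_b_rc_18_2 lc_b_rc_15_2 lc_b_rc_14_2 lc_b_rc_18_2 lc_b_rc_13_2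 lc_b_rc_15_0 lc_b_rc_12_2 lc_b_rc_13_2 lc_b_rc_13_2 lc_b_rc_11_0 lc_b_rc_11_0 lc_b_rc_14_0 lc_b_rc_11_0 lc_b_rc_11_0 lc_b_rc_18_2 lc_b_rc_14_2 lc_b_rc_18_2 lc_b_rc_14_2 lc_b_rc_14_2 lc_b_rc_18_2 lc_b_rc_13_2 lc_b_rc_15_2 lc_b_rc_14_2 lc_b_rc_13_0 lc_b_rc_12_2 lc_b_rc_11_2 lc_b_rc_12_2 lc_b_rc_13_2 lc_b_rc_12_2 lc_b_rc_11_4 lc_b_rc_15_2 lc_b_rc_16_2) (@D3.rec (fun _ => (Cert rels S Gen.b)) lc_b_rc_14_2 lc_b_rc_1_3 lc_b_rc_11_2 lc_b_rc_14_2 lc_b_rc_18_2 lc_b_rc_14_2 lc_b_rc_12_2 lc_b_rc_18_2 lc_b_rc_56_36 lc_b_rc_1_3 lc_b_rc_1_3 lc_b_rc_11_2 lc_b_rc_11_2 lc_b_rc_11_2 lc_b_rc_14_2 lc_b_rc_14_2 lc_b_rc_18_2 lc_b_rc_16_2 lc_b_rc_12_2 lc_b_rc_18_2 lc_b_rc_12_2 lc_b_rc_18_2 lc_b_rc_14_2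 lc_b_rc_16_2 lc_b_rc_12_2 lc_b_rc_18_2 lc_b_rc_1_3 lc_b_rc_1_3 lc_b_rc_1_3 lc_b_rc_11_2 lc_b_rc_11_2 lc_b_rc_11_2 lc_b_rc_11_2 lc_b_rc_11_2 lc_b_rc_11_2 lc_b_rc_14_2 lc_b_rc_12_2 lc_b_rc_18_2 lc_b_rc_14_2 lc_b_rc_18_2 lc_b_rc_14_2 lc_b_rc_17_2 lc_b_rc_12_2 lc_b_rc_18_2 lc_b_Cert_tree lc_b_rc_12_2 lc_b_rc_18_2 lc_b_rc_12_2 lc_b_rc_15_2 lc_b_rc_12_2 lc_b_rc_14_2) (@D3.rec (fun _ => (Cert rels S Gen.b)) lc_b_rc_1_1 lc_b_rc_17_2 lc_b_rc_1_3 lc_b_rc_11_2 lc_b_rc_12_2 lc_b_rc_14_2 lc_b_rc_11_2 lc_b_rc_12_2 lc_b_rc_14_2 lc_b_rc_16_2 lc_b_rc_13_2 lc_b_rc_12_2 lc_b_rc_14_2 lc_b_rc_14_2 lc_b_rc_15_2 lc_b_rc_1_3 lc_b_rc_11_2 lc_b_rc_13_2 lc_b_rc_12_2 lc_b_rc_14_2 lc_b_rc_13_2 lc_b_rc_14_2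 lc_b_rc_11_2 lc_b_rc_13_2 lc_b_rc_12_2 lc_b_rc_14_2 lc_b_rc_17_2 lc_b_rc_13_2 lc_b_rc_14_2 lc_b_rc_12_2 lc_b_rc_14_2 lc_b_rc_15_2 lc_b_rc_1_3 lc_b_rc_1_3 lc_b_rc_11_2 lc_b_rc_11_2 lc_b_rc_13_2 lc_b_rc_14_2 lc_b_rc_12_2 lc_b_rc_14_2 lc_b_rc_15_2 lc_b_rc_13_2 lc_b_rc_14_2 lc_b_rc_12_2 lc_b_rc_15_2 lc_b_rc_11_2 lc_b_rc_11_2 lc_b_rc_13_2 lc_b_rc_12_2 lc_b_rc_14_2 lc_b_rc_18_2) (@D3.rec (fun _ => (Cert rels S Gen.b)) lc_b_rc_17_2 lc_b_rc_13_2 lc_b_rc_14_2 lc_b_rc_12_2 lc_b_rc_14_2 lc_b_rc_18_2 lc_b_rc_10_0 lc_b_rc_15_2 lc_b_rc_14_2 lc_b_rc_1_3 lc_b_rc_1_3 lc_b_rc_1_3 lc_b_rc_1_3 lc_b_rc_11_2 lc_b_rc_11_2 lc_b_rc_11_2 lc_b_rc_12_2 lc_b_rc_11_2 lc_b_rc_13_2 lc_b_rc_14_2 lc_b_rc_12_2 lc_b_rc_14_2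 lc_b_rc_18_2 lc_b_rc_15_2 lc_b_rc_13_2 lc_b_rc_14_2 lc_b_rc_12_2 lc_b_rc_18_2 lc_b_rc_14_2 lc_b_rc_18_2 lc_b_rc_11_2 lc_b_rc_11_2 lc_b_rc_11_2 lc_b_rc_12_2 lc_b_rc_11_2 lc_b_rc_13_2 lc_b_rc_14_2 lc_b_rc_12_2 lc_b_rc_14_2 lc_b_rc_18_2 lc_b_rc_15_2 lc_b_rc_13_2 lc_b_rc_14_2 lc_b_rc_12_2 lc_b_rc_18_2 lc_b_rc_14_2 lc_b_rc_18_2 lc_b_rc_15_2 lc_b_rc_14_2 lc_b_rc_13_2 lc_b_rc_16_2) (@D3.rec (fun _ => (Cert rels S Gen.b)) lc_b_rc_15_2 lc_b_rc_12_2 lc_b_rc_18_2 lc_b_rc_1_3 lc_b_rc_1_3 lc_b_rc_1_3 lc_b_rc_1_3 lc_b_rc_1_3 lc_b_rc_12_2 lc_b_rc_11_2 lc_b_rc_11_2 lc_b_rc_11_2 lc_b_rc_11_2 lc_b_rc_12_2 lc_b_rc_11_2 lc_b_rc_13_2 lc_b_rc_12_2 lc_b_rc_15_2 lc_b_rc_13_2 lc_b_rc_14_2 lc_b_rc_12_2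 lc_b_rc_18_2 lc_b_rc_14_2 lc_b_rc_18_2 lc_b_rc_15_2 lc_b_rc_15_2 lc_b_rc_14_2 lc_b_rc_12_2 lc_b_rc_18_2 lc_b_Cert_tree lc_b_rc_12_2 lc_b_rc_18_2 lc_b_rc_12_2 lc_b_rc_11_2 lc_b_rc_11_2 lc_b_rc_11_2 lc_b_rc_11_2 lc_b_rc_12_2 lc_b_rc_11_2 lc_b_rc_12_2 lc_b_rc_15_2 lc_b_rc_13_2 lc_b_rc_14_2 lc_b_rc_12_2 lc_b_rc_18_2 lc_b_rc_14_2 lc_b_rc_18_2 lc_b_rc_15_2 lc_b_rc_15_2 lc_b_rc_14_2 lc_b_rc_12_2) (@D3.rec (fun _ => (Cert rels S Gen.b)) lc_b_rc_18_2 lc_b_Cert_tree lc_b_rc_12_2 lc_b_rc_18_2 lc_b_rc_13_2 lc_b_rc_16_2 lc_b_rc_15_2 lc_b_rc_12_2 lc_b_rc_18_2 lc_b_rc_12_2 lc_b_rc_13_2 lc_b_rc_13_2 lc_b_rc_17_2 lc_b_rc_16_2 lc_b_rc_12_2 lc_b_rc_18_2 lc_b_rc_55_47 lc_b_rc_12_2 lc_b_rc_1_3 lc_b_rc_1_3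 lc_b_rc_1_3 lc_b_rc_1_3 lc_b_rc_1_3 lc_b_rc_1_3 lc_b_rc_1_3 lc_b_rc_12_2 lc_b_rc_14_2 lc_b_rc_11_2 lc_b_rc_11_2 lc_b_rc_11_2 lc_b_rc_12_2 lc_b_rc_11_2 lc_b_rc_11_2 lc_b_rc_12_2 lc_b_rc_11_2 lc_b_rc_13_2 lc_b_rc_12_2 lc_b_rc_15_2 lc_b_rc_13_2 lc_b_rc_14_2 lc_b_rc_15_2 lc_b_rc_15_2 lc_b_rc_14_2 lc_b_rc_12_2 lc_b_rc_18_2 lc_b_Cert_tree lc_b_rc_12_2 lc_b_rc_18_2 lc_b_rc_16_2 lc_b_rc_15_2 lc_b_rc_12_2)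
def ce_b_6 : D2 → D3 → (Cert rels S Gen.b) := @D2.rec (fun _ => D3 → (Cert rels S Gen.b)) (@D3.rec (fun _ => (Cert rels S Gen.b)) lc_b_rc_18_2 lc_b_rc_12_2 lc_b_rc_18_2 lc_b_Cert_tree lc_b_rc_12_2 lc_b_rc_10_0 lc_b_rc_18_2 lc_b_rc_14_2 lc_b_Cert_tree lc_b_rc_12_2 lc_b_rc_12_2 lc_b_rc_1_3 lc_b_rc_11_2 lc_b_rc_11_2 lc_b_rc_13_2 lc_b_rc_12_2 lc_b_rc_14_2 lc_b_rc_18_2 lc_b_rc_17_2 lc_b_rc_17_0 lc_b_rc_14_2 lc_b_rc_12_2 lc_b_rc_14_2 lc_b_rc_18_2 lc_b_rc_10_0 lc_b_rc_15_2 lc_b_rc_14_2 lc_b_rc_1_3 lc_b_rc_1_3 lc_b_rc_1_3 lc_b_rc_1_3 lc_b_rc_1_3 lc_b_rc_11_2 lc_b_rc_11_2 lc_b_rc_11_2 lc_b_rc_12_2 lc_b_rc_11_2 lc_b_rc_13_2 lc_b_rc_14_2 lc_b_rc_12_2 lc_b_rc_14_2 lc_b_rc_18_2 lc_b_rc_15_2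 lc_b_rc_13_2 lc_b_rc_14_2 lc_b_rc_12_2 lc_b_rc_18_2 lc_b_rc_14_2 lc_b_rc_18_2 lc_b_rc_15_2 lc_b_rc_14_2) (@D3.rec (fun _ => (Cert rels S Gen.b)) lc_b_rc_13_2 lc_b_rc_16_2 lc_b_rc_15_2 lc_b_rc_17_2 lc_b_rc_18_2 lc_b_rc_1_3 lc_b_rc_1_3 lc_b_rc_1_3 lc_b_rc_1_3 lc_b_rc_1_3 lc_b_rc_12_2 lc_b_rc_11_2 lc_b_rc_11_2 lc_b_rc_11_2 lc_b_rc_11_2 lc_b_rc_12_2 lc_b_rc_11_2 lc_b_rc_13_2 lc_b_rc_12_2 lc_b_rc_15_2 lc_b_rc_13_2 lc_b_rc_14_2 lc_b_rc_12_2 lc_b_rc_18_2 lc_b_rc_14_2 lc_b_rc_18_2 lc_b_rc_15_2 lc_b_rc_15_2 lc_b_rc_14_2 lc_b_rc_12_2 lc_b_rc_18_2 lc_b_Cert_tree lc_b_rc_12_2 lc_b_rc_18_2 lc_b_rc_10_0 lc_b_rc_13_2 lc_b_rc_14_2 lc_b_rc_13_2 lc_b_rc_12_2 lc_b_rc_12_2 lc_b_rc_12_2 lc_b_rc_1_3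 lc_b_rc_11_2 lc_b_rc_11_2 lc_b_rc_11_2 lc_b_rc_11_4 lc_b_rc_11_2 lc_b_rc_13_2 lc_b_rc_14_2 lc_b_rc_12_2 lc_b_rc_14_2) (@D3.rec (fun _ => (Cert rels S Gen.b)) lc_b_rc_18_2 lc_b_rc_15_2 lc_b_rc_16_2 lc_b_rc_14_2 lc_b_rc_12_2 lc_b_rc_18_2 lc_b_rc_14_2 lc_b_rc_18_2 lc_b_rc_15_2 lc_b_rc_14_2 lc_b_rc_13_2 lc_b_rc_16_2 lc_b_rc_15_2 lc_b_rc_12_2 lc_b_rc_18_2 lc_b_rc_1_3 lc_b_rc_1_3 lc_b_rc_1_3 lc_b_rc_1_3 lc_b_rc_1_3 lc_b_rc_12_2 lc_b_rc_11_2 lc_b_rc_11_2 lc_b_rc_11_2 lc_b_rc_11_2 lc_b_rc_12_2 lc_b_rc_11_2 lc_b_rc_16_0 lc_b_rc_12_2 lc_b_rc_15_2 lc_b_rc_13_2 lc_b_rc_14_2 lc_b_rc_12_2 lc_b_rc_18_2 lc_b_rc_14_2 lc_b_rc_18_2 lc_b_rc_15_2 lc_b_rc_15_2 lc_b_rc_14_2 lc_b_rc_12_2 lc_b_rc_18_2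 lc_b_Cert_tree lc_b_rc_12_2 lc_b_rc_18_2 lc_b_rc_13_2 lc_b_rc_16_2 lc_b_rc_15_2 lc_b_rc_18_2 lc_b_rc_12_2 lc_b_rc_13_2 lc_b_rc_13_2) (@D3.rec (fun _ => (Cert rels S Gen.b)) lc_b_rc_17_2 lc_b_rc_16_2 lc_b_rc_12_2 lc_b_rc_18_2 lc_b_rc_18_2 lc_b_rc_1_3 lc_b_rc_1_3 lc_b_rc_1_3 lc_b_rc_12_2 lc_b_rc_1_3 lc_b_rc_1_3 lc_b_rc_1_3 lc_b_rc_12_2 lc_b_rc_14_2 lc_b_rc_11_2 lc_b_rc_11_2 lc_b_rc_11_2 lc_b_rc_12_2 lc_b_rc_11_2 lc_b_rc_11_2 lc_b_rc_12_2 lc_b_rc_11_2 lc_b_rc_13_2 lc_b_rc_12_2 lc_b_rc_15_2 lc_b_rc_13_2 lc_b_rc_14_2 lc_b_rc_15_2 lc_b_rc_15_2 lc_b_rc_14_2 lc_b_rc_12_2 lc_b_rc_18_2 lc_b_Cert_tree lc_b_rc_12_2 lc_b_rc_18_2 lc_b_rc_16_2 lc_b_rc_15_2 lc_b_rc_12_2 lc_b_rc_18_2 lc_b_rc_12_2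 lc_b_rc_18_2 lc_b_Cert_tree lc_b_rc_12_2 lc_b_rc_10_0 lc_b_rc_18_2 lc_b_rc_14_2 lc_b_rc_15_2 lc_b_rc_14_2 lc_b_rc_15_2 lc_b_rc_15_2 lc_b_rc_12_2) (@D3.rec (fun _ => (Cert rels S Gen.b)) lc_b_rc_18_2 lc_b_rc_12_2 lc_b_rc_12_2 lc_b_rc_12_2 lc_b_rc_11_2 lc_b_rc_11_2 lc_b_rc_11_2 lc_b_rc_11_2 lc_b_rc_11_4 lc_b_rc_11_2 lc_b_rc_13_2 lc_b_rc_11_4 lc_b_rc_15_2 lc_b_rc_13_2 lc_b_rc_14_2 lc_b_rc_18_2 lc_b_rc_14_2 lc_b_rc_18_2 lc_b_rc_13_0 lc_b_rc_15_2 lc_b_rc_14_2 lc_b_rc_13_2 lc_b_rc_18_2 lc_b_Cert_tree lc_b_rc_13_2 lc_b_rc_18_2 lc_b_rc_13_2 lc_b_rc_16_2 lc_b_rc_15_2 lc_b_rc_18_2 lc_b_rc_13_2 lc_b_rc_13_2 lc_b_rc_17_2 lc_b_rc_16_2 lc_b_rc_1_3 lc_b_rc_18_2 lc_b_rc_12_2 lc_b_rc_1_3 lc_b_rc_1_3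 lc_b_rc_1_3 lc_b_rc_1_3 lc_b_rc_1_3 lc_b_rc_1_3 lc_b_rc_12_2 lc_b_rc_14_2 lc_b_rc_11_2 lc_b_rc_11_2 lc_b_rc_11_2 lc_b_rc_12_2 lc_b_rc_11_2 lc_b_rc_11_2) (@D3.rec (fun _ => (Cert rels S Gen.b)) lc_b_rc_12_2 lc_b_rc_11_2 lc_b_rc_13_2 lc_b_rc_12_2 lc_b_rc_13_0 lc_b_rc_18_2 lc_b_rc_14_2 lc_b_rc_15_2 lc_b_rc_15_2 lc_b_rc_14_2 lc_b_rc_12_2 lc_b_rc_18_2 lc_b_Cert_tree lc_b_rc_12_2 lc_b_rc_18_2 lc_b_rc_16_2 lc_b_rc_15_2 lc_b_rc_12_2 lc_b_rc_18_2 lc_b_rc_12_2 lc_b_rc_18_2 lc_b_Cert_tree lc_b_rc_12_2 lc_b_rc_10_0 lc_b_rc_18_2 lc_b_rc_12_2 lc_b_rc_12_2 lc_b_rc_13_2 lc_b_rc_13_2 lc_b_rc_17_2 lc_b_rc_16_2 lc_b_rc_18_2 lc_b_rc_12_2 lc_b_rc_14_2 lc_b_rc_15_2 lc_b_rc_13_2 lc_b_rc_13_2 lc_b_rc_12_2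 lc_b_rc_13_2 lc_b_rc_17_2 lc_b_rc_16_2 lc_b_rc_18_2 lc_b_rc_1_3 lc_b_rc_18_2 lc_b_rc_12_2 lc_b_rc_1_3 lc_b_rc_1_3 lc_b_rc_1_3 lc_b_rc_12_2 lc_b_rc_1_3 lc_b_Cert_tree) (@D3.rec (fun _ => (Cert rels S Gen.b)) lc_b_rc_12_2 lc_b_rc_1_3 lc_b_rc_12_2 lc_b_rc_12_2 lc_b_rc_14_2 lc_b_rc_14_2 lc_b_rc_18_2 lc_b_rc_11_2 lc_b_rc_11_2 lc_b_rc_11_2 lc_b_rc_12_2 lc_b_rc_11_2 lc_b_Cert_tree lc_b_rc_13_2 lc_b_rc_12_2 lc_b_rc_12_2 lc_b_rc_11_2 lc_b_rc_13_2 lc_b_rc_12_2 lc_b_rc_15_2 lc_b_rc_13_2 lc_b_rc_14_2 lc_b_rc_16_2 lc_b_rc_15_2 lc_b_rc_14_2 lc_b_rc_16_2 lc_b_rc_15_2 lc_b_rc_12_2 lc_b_rc_18_2 lc_b_rc_12_2 lc_b_rc_18_2 lc_b_Cert_tree lc_b_rc_12_2 lc_b_rc_10_0 lc_b_rc_18_2 lc_b_rc_14_2 lc_b_rc_16_2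 lc_b_rc_12_2 lc_b_rc_18_2 lc_b_Cert_tree lc_b_rc_13_2 lc_b_rc_12_2 lc_b_Cert_tree lc_b_rc_12_2 lc_b_rc_10_0 lc_b_rc_18_2 lc_b_rc_14_2 lc_b_rc_1_3 lc_b_rc_18_2 lc_b_rc_14_2 lc_b_rc_15_2) (@D3.rec (fun _ => (Cert rels S Gen.b)) lc_b_rc_14_0 lc_b_rc_56_36 lc_b_rc_10_0 lc_b_rc_1_3 lc_b_rc_12_2 lc_b_rc_12_2 lc_b_rc_14_2 lc_b_rc_18_2 lc_b_rc_11_2 lc_b_rc_16_2 lc_b_rc_15_2 lc_b_rc_12_2 lc_b_rc_12_2 lc_b_Cert_tree lc_b_rc_10_0 lc_b_rc_16_2 lc_b_rc_12_2 lc_b_rc_15_2 lc_b_Cert_tree lc_b_rc_13_2 lc_b_rc_14_0 lc_b_rc_56_57 lc_b_rc_14_0 lc_b_rc_10_0 lc_b_rc_18_2 lc_b_rc_12_2 lc_b_rc_1_3 lc_b_rc_18_2 lc_b_rc_14_2 lc_b_rc_15_2 lc_b_rc_17_2 lc_b_rc_12_0 lc_b_rc_12_0 lc_b_rc_17_2 lc_b_rc_1_3 lc_b_rc_1_3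 lc_b_rc_12_2 lc_b_rc_12_2 lc_b_Cert_tree lc_b_rc_10_0 lc_b_rc_13_2 lc_b_rc_12_2 lc_b_rc_14_2 lc_b_rc_14_2 lc_b_rc_14_2 lc_b_rc_18_2 lc_b_Cert_tree lc_b_rc_18_2 lc_b_rc_11_2 lc_b_rc_11_2 lc_b_rc_12_2) (@D3.rec (fun _ => (Cert rels S Gen.b)) lc_b_rc_12_2 lc_b_Cert_tree lc_b_rc_10_0 lc_b_rc_16_2 lc_b_rc_12_2 lc_b_rc_18_2 lc_b_Cert_tree lc_b_rc_13_2 lc_b_rc_12_2 lc_b_Cert_tree lc_b_rc_12_2 lc_b_rc_10_0 lc_b_rc_18_2 lc_b_rc_14_2 lc_b_rc_1_3 lc_b_rc_18_2 lc_b_rc_14_2 lc_b_rc_12_2 lc_b_rc_18_2 lc_b_Cert_tree lc_b_rc_13_2 lc_b_rc_12_2 lc_b_rc_10_0 lc_b_rc_13_2 lc_b_rc_18_2 lc_b_rc_13_2 lc_b_rc_14_2 lc_b_rc_10_0 lc_b_rc_18_2 lc_b_rc_14_2 lc_b_rc_1_3 lc_b_rc_18_2 lc_b_rc_14_2 lc_b_rc_1_3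 lc_b_rc_14_2 lc_b_rc_12_2 lc_b_rc_11_2 lc_b_rc_13_2 lc_b_rc_14_2 lc_b_rc_11_2 lc_b_rc_11_2 lc_b_rc_13_2 lc_b_rc_18_2 lc_b_rc_1_3 lc_b_rc_11_2 lc_b_rc_13_2 lc_b_rc_14_2 lc_b_rc_14_2 lc_b_rc_18_2 lc_b_rc_15_2 lc_b_rc_14_2) (@D3.rec (fun _ => (Cert rels S Gen.b)) lc_b_rc_12_2 lc_b_rc_11_2 lc_b_rc_11_2 lc_b_rc_11_2 lc_b_rc_13_2 lc_b_rc_14_2 lc_b_rc_18_2 lc_b_rc_15_2 lc_b_rc_18_2 lc_b_rc_1_3 lc_b_rc_11_2 lc_b_rc_11_2 lc_b_rc_15_2 lc_b_rc_13_2 lc_b_rc_14_2 lc_b_rc_12_2 lc_b_rc_18_2 lc_b_rc_14_2 lc_b_rc_18_2 lc_b_rc_15_2 lc_b_rc_15_2 lc_b_rc_14_2 lc_b_rc_12_2 lc_b_rc_18_2 lc_b_Cert_tree lc_b_rc_12_2 lc_b_rc_12_2 lc_b_rc_11_2 lc_b_rc_11_2 lc_b_rc_11_2 lc_b_rc_11_2 lc_b_rc_13_2 lc_b_rc_14_2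 lc_b_rc_12_2 lc_b_rc_14_2 lc_b_rc_18_2 lc_b_rc_18_2 lc_b_rc_18_2 lc_b_rc_15_2 lc_b_rc_14_2 lc_b_rc_13_2 lc_b_rc_12_2 lc_b_rc_15_2 lc_b_rc_17_2 lc_b_rc_18_2 lc_b_rc_1_3 lc_b_rc_1_3 lc_b_rc_1_3 lc_b_rc_1_3 lc_b_rc_1_3 lc_b_rc_12_2) (@D3.rec (fun _ => (Cert rels S Gen.b)) lc_b_rc_11_2 lc_b_rc_11_2 lc_b_rc_11_2 lc_b_rc_12_2 lc_b_rc_11_2 lc_b_rc_13_2 lc_b_rc_12_2 lc_b_rc_15_2 lc_b_rc_13_2 lc_b_rc_14_2 lc_b_rc_12_2 lc_b_rc_18_2 lc_b_rc_14_2 lc_b_rc_18_2 lc_b_rc_15_2 lc_b_rc_14_2 lc_b_rc_12_2 lc_b_rc_18_2 lc_b_Cert_tree lc_b_rc_12_2 lc_b_rc_18_2 lc_b_rc_13_2 lc_b_rc_12_2 lc_b_rc_12_2 lc_b_rc_11_2 lc_b_rc_11_2 lc_b_rc_11_2 lc_b_rc_11_2 lc_b_rc_11_2 lc_b_rc_15_2 lc_b_rc_13_2 lc_b_rc_14_2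 lc_b_rc_12_2 lc_b_rc_18_2 lc_b_rc_14_2 lc_b_rc_18_2 lc_b_rc_15_2 lc_b_rc_15_2 lc_b_rc_18_2 lc_b_rc_12_2 lc_b_rc_18_2 lc_b_rc_13_2 lc_b_rc_16_2 lc_b_rc_15_2 lc_b_rc_18_2 lc_b_rc_12_2 lc_b_rc_13_2 lc_b_rc_13_2 lc_b_rc_14_0 lc_b_rc_16_2 lc_b_rc_1_1) (@D3.rec (fun _ => (Cert rels S Gen.b)) lc_b_rc_18_2 lc_b_rc_16_2 lc_b_rc_1_3 lc_b_rc_1_3 lc_b_rc_1_3 lc_b_rc_1_3 lc_b_rc_1_3 lc_b_rc_1_3 lc_b_rc_1_3 lc_b_rc_12_2 lc_b_rc_14_2 lc_b_rc_11_2 lc_b_rc_11_2 lc_b_rc_11_2 lc_b_rc_12_2 lc_b_rc_11_2 lc_b_rc_11_2 lc_b_rc_12_2 lc_b_rc_11_2 lc_b_rc_13_2 lc_b_rc_12_2 lc_b_rc_15_2 lc_b_rc_13_2 lc_b_rc_15_2 lc_b_rc_15_2 lc_b_rc_14_2 lc_b_rc_12_2 lc_b_rc_18_2 lc_b_Cert_tree lc_b_rc_12_2 lc_b_rc_18_2 lc_b_rc_16_2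 lc_b_rc_15_2 lc_b_rc_12_2 lc_b_rc_18_2 lc_b_rc_12_2 lc_b_rc_18_2 lc_b_Cert_tree lc_b_rc_12_2 lc_b_rc_10_0 lc_b_rc_18_2 lc_b_rc_14_2 lc_b_rc_16_2 lc_b_rc_16_2 lc_b_Cert_tree lc_b_rc_12_2 lc_b_rc_17_2 lc_b_rc_12_2 lc_b_rc_14_2 lc_b_rc_11_2 lc_b_rc_11_2) (@D3.rec (fun _ => (Cert rels S Gen.b)) lc_b_rc_11_2 lc_b_rc_12_2 lc_b_rc_11_2 lc_b_rc_11_2 lc_b_rc_11_2 lc_b_rc_15_2 lc_b_rc_15_2 lc_b_rc_14_2 lc_b_rc_12_2 lc_b_rc_18_2 lc_b_Cert_tree lc_b_rc_12_2 lc_b_rc_18_2 lc_b_rc_16_2 lc_b_rc_15_2 lc_b_rc_12_2 lc_b_rc_18_2 lc_b_rc_12_2 lc_b_rc_18_2 lc_b_Cert_tree lc_b_rc_12_2 lc_b_rc_10_0 lc_b_rc_18_2 lc_b_rc_14_2 lc_b_rc_12_2 lc_b_rc_13_2 lc_b_rc_13_2 lc_b_rc_17_2 lc_b_rc_16_2 lc_b_rc_18_2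 lc_b_rc_12_2 lc_b_rc_14_2 lc_b_rc_15_2 lc_b_rc_13_2 lc_b_rc_13_2 lc_b_rc_12_2 lc_b_rc_13_2 lc_b_rc_17_2 lc_b_rc_16_2 lc_b_rc_18_2 lc_b_rc_14_2 lc_b_rc_14_0 lc_b_rc_1_3 lc_b_rc_1_3 lc_b_rc_1_3 lc_b_rc_1_3 lc_b_rc_1_3 lc_b_Cert_tree lc_b_rc_1_3 lc_b_rc_1_3 lc_b_rc_12_2) (@D3.rec (fun _ => (Cert rels S Gen.b)) lc_b_rc_12_2 lc_b_rc_14_2 lc_b_rc_14_2 lc_b_rc_18_2 lc_b_rc_11_2 lc_b_rc_11_2 lc_b_rc_11_2 lc_b_rc_12_2 lc_b_rc_11_2 lc_b_Cert_tree lc_b_rc_13_2 lc_b_rc_12_2 lc_b_rc_12_2 lc_b_rc_11_2 lc_b_rc_13_2 lc_b_rc_12_2 lc_b_rc_15_2 lc_b_rc_13_2 lc_b_rc_16_2 lc_b_rc_15_2 lc_b_rc_16_2 lc_b_rc_15_2 lc_b_rc_12_2 lc_b_rc_18_2 lc_b_rc_12_2 lc_b_rc_18_2 lc_b_Cert_tree lc_b_rc_12_2 lc_b_rc_10_0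 lc_b_rc_18_2 lc_b_rc_14_2 lc_b_rc_16_2 lc_b_rc_12_2 lc_b_rc_18_2 lc_b_Cert_tree lc_b_rc_13_2 lc_b_rc_12_2 lc_b_Cert_tree lc_b_rc_12_2 lc_b_rc_10_0 lc_b_rc_18_2 lc_b_rc_14_2 lc_b_rc_1_3 lc_b_rc_18_2 lc_b_rc_14_2 lc_b_rc_15_2 lc_b_rc_13_2 lc_b_rc_12_2 lc_b_rc_1_3 lc_b_rc_16_2 lc_b_rc_1_3) (@D3.rec (fun _ => (Cert rels S Gen.b)) lc_b_rc_1_3 lc_b_rc_1_3 lc_b_rc_1_3 lc_b_rc_1_3 lc_b_rc_12_2 lc_b_rc_11_2 lc_b_rc_11_2 lc_b_rc_15_0 lc_b_rc_11_2 lc_b_rc_1_1 lc_b_rc_11_2 lc_b_rc_16_0 lc_b_rc_15_2 lc_b_rc_13_2 lc_b_rc_14_2 lc_b_rc_12_2 lc_b_rc_18_2 lc_b_rc_14_2 lc_b_rc_18_2 lc_b_rc_18_2 lc_b_rc_12_2 lc_b_rc_18_2 lc_b_rc_13_2 lc_b_rc_16_2 lc_b_rc_13_2 lc_b_rc_18_0 lc_b_rc_13_2 lc_b_rc_18_0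 lc_b_rc_10_1 lc_b_rc_1_3 lc_b_rc_1_3 lc_b_rc_1_3 lc_b_rc_1_3 lc_b_rc_12_2 lc_b_rc_1_3 lc_b_rc_1_3 lc_b_rc_1_3 lc_b_rc_55_20 lc_b_rc_14_2 lc_b_rc_11_2 lc_b_rc_10_0 lc_b_rc_11_2 lc_b_rc_12_2 lc_b_rc_11_2 lc_b_rc_56_36 lc_b_rc_56_29 lc_b_rc_11_2 lc_b_rc_13_2 lc_b_rc_12_2 lc_b_rc_15_2 lc_b_rc_13_2) (@D3.rec (fun _ => (Cert rels S Gen.b)) lc_b_rc_15_2 lc_b_rc_15_2 lc_b_rc_14_2 lc_b_rc_12_2 lc_b_rc_18_2 lc_b_Cert_tree lc_b_rc_12_2 lc_b_rc_18_2 lc_b_rc_16_2 lc_b_rc_15_2 lc_b_rc_12_2 lc_b_rc_18_2 lc_b_rc_12_2 lc_b_rc_18_2 lc_b_Cert_tree lc_b_rc_12_2 lc_b_rc_10_0 lc_b_rc_18_2 lc_b_rc_14_2 lc_b_rc_13_2 lc_b_rc_16_2 lc_b_rc_10_1 lc_b_rc_13_2 lc_b_rc_13_2 lc_b_rc_16_2 lc_b_rc_1_3 lc_b_rc_1_3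 lc_b_rc_1_3 lc_b_rc_1_3 lc_b_rc_1_3 lc_b_rc_12_2 lc_b_rc_1_3 lc_b_rc_1_3 lc_b_rc_1_3 lc_b_rc_12_2 lc_b_rc_14_2 lc_b_rc_11_2 lc_b_rc_11_2 lc_b_rc_11_2 lc_b_rc_12_2 lc_b_rc_11_2 lc_b_rc_11_2 lc_b_rc_1_1 lc_b_rc_11_2 lc_b_rc_13_2 lc_b_rc_1_1 lc_b_rc_15_2 lc_b_rc_15_2 lc_b_rc_14_2 lc_b_rc_12_2 lc_b_rc_18_2) (@D3.rec (fun _ => (Cert rels S Gen.b)) lc_b_Cert_tree lc_b_rc_12_2 lc_b_rc_18_2 lc_b_rc_16_2 lc_b_rc_15_2 lc_b_rc_12_2 lc_b_rc_18_2 lc_b_rc_18_2 lc_b_rc_12_2 lc_b_rc_10_0 lc_b_rc_18_2 lc_b_rc_14_2 lc_b_rc_12_2 lc_b_rc_13_2 lc_b_rc_17_2 lc_b_rc_12_2 lc_b_rc_14_2 lc_b_rc_15_2 lc_b_rc_12_2 lc_b_rc_13_2 lc_b_rc_12_2 lc_b_rc_13_2 lc_b_rc_10_1 lc_b_rc_1_3 lc_b_rc_1_3 lc_b_rc_1_3 lc_b_rc_1_3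 lc_b_rc_12_2 lc_b_rc_1_3 lc_b_Cert_tree lc_b_rc_12_2 lc_b_rc_1_3 lc_b_rc_12_2 lc_b_rc_13_2 lc_b_rc_14_2 lc_b_rc_14_2 lc_b_rc_18_2 lc_b_rc_11_2 lc_b_rc_11_2 lc_b_rc_11_2 lc_b_rc_12_2 lc_b_rc_11_2 lc_b_Cert_tree lc_b_rc_13_2 lc_b_rc_12_2 lc_b_rc_1_3 lc_b_rc_11_2 lc_b_rc_13_2 lc_b_rc_12_2 lc_b_rc_15_2 lc_b_rc_13_2) (@D3.rec (fun _ => (Cert rels S Gen.b)) lc_b_rc_16_2 lc_b_rc_15_2 lc_b_rc_16_2 lc_b_rc_15_2 lc_b_rc_12_2 lc_b_rc_18_2 lc_b_rc_12_2 lc_b_rc_18_2 lc_b_Cert_tree lc_b_rc_12_2 lc_b_rc_10_0 lc_b_rc_18_2 lc_b_rc_14_2 lc_b_rc_16_2 lc_b_rc_12_2 lc_b_rc_18_2 lc_b_Cert_tree lc_b_rc_13_2 lc_b_rc_12_2 lc_b_Cert_tree lc_b_rc_12_2 lc_b_rc_10_0 lc_b_rc_18_2 lc_b_rc_14_2 lc_b_rc_1_3 lc_b_rc_18_2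 lc_b_rc_14_2 lc_b_rc_13_2 lc_b_rc_17_2 lc_b_rc_15_2 lc_b_rc_13_2 lc_b_rc_16_2 lc_b_rc_18_0 lc_b_rc_14_2 lc_b_rc_17_2 lc_b_rc_16_2 lc_b_rc_1_3 lc_b_rc_1_3 lc_b_rc_1_3 lc_b_rc_1_3 lc_b_rc_1_3 lc_b_rc_12_2 lc_b_rc_12_2 lc_b_rc_14_2 lc_b_rc_14_2 lc_b_rc_18_2 lc_b_rc_11_2 lc_b_rc_11_2 lc_b_rc_11_2 lc_b_rc_12_2 lc_b_rc_11_2) (@D3.rec (fun _ => (Cert rels S Gen.b)) lc_b_Cert_tree lc_b_rc_17_0 lc_b_rc_12_2 lc_b_rc_16_0 lc_b_rc_11_2 lc_b_rc_16_2 lc_b_rc_16_2 lc_b_rc_55_20 lc_b_rc_16_2 lc_b_rc_15_2 lc_b_rc_12_2 lc_b_rc_18_2 lc_b_rc_12_2 lc_b_rc_18_2 lc_b_Cert_tree lc_b_rc_12_2 lc_b_rc_10_0 lc_b_rc_18_2 lc_b_rc_16_2 lc_b_rc_12_2 lc_b_rc_18_2 lc_b_Cert_tree lc_b_rc_13_2 lc_b_rc_12_2 lc_b_Cert_tree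 lc_b_rc_12_2 lc_b_rc_10_0 lc_b_rc_18_2 lc_b_rc_12_2 lc_b_rc_1_3 lc_b_rc_18_2 lc_b_rc_14_2 lc_b_rc_12_2 lc_b_rc_14_2 lc_b_rc_15_2 lc_b_rc_13_2 lc_b_rc_12_2 lc_b_rc_12_2 lc_b_rc_14_2 lc_b_rc_17_2 lc_b_rc_18_2 lc_b_rc_15_2 lc_b_rc_18_0 lc_b_rc_16_2 lc_b_rc_18_0 lc_b_rc_16_2 lc_b_Cert_tree lc_b_rc_12_2 lc_b_rc_16_2 lc_b_rc_1_3 lc_b_rc_1_3) (@D3.rec (fun _ => (Cert rels S Gen.b)) lc_b_rc_12_2 lc_b_rc_1_3 lc_b_rc_12_2 lc_b_rc_1_3 lc_b_Cert_tree lc_b_rc_12_2 lc_b_rc_10_0 lc_b_rc_18_2 lc_b_rc_13_2 lc_b_rc_12_2 lc_b_rc_14_2 lc_b_rc_14_2 lc_b_rc_14_2 lc_b_rc_18_2 lc_b_Cert_tree lc_b_rc_14_2 lc_b_rc_18_2 lc_b_rc_11_2 lc_b_rc_11_2 lc_b_rc_12_2 lc_b_rc_11_2 lc_b_rc_12_2 lc_b_rc_11_2 lc_b_Cert_tree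 lc_b_rc_13_2 lc_b_rc_12_2 lc_b_rc_10_0 lc_b_rc_13_2 lc_b_rc_18_2 lc_b_rc_15_2 lc_b_rc_13_2 lc_b_rc_14_2 lc_b_rc_13_2 lc_b_rc_12_2 lc_b_rc_15_2 lc_b_rc_13_2 lc_b_rc_16_2 lc_b_rc_15_2 lc_b_rc_17_2 lc_b_rc_16_2 lc_b_rc_16_2 lc_b_rc_12_2 lc_b_rc_18_2 lc_b_Cert_tree lc_b_rc_13_2 lc_b_rc_12_2 lc_b_Cert_tree lc_b_rc_12_2 lc_b_rc_10_0 lc_b_rc_18_2 lc_b_rc_14_2) (@D3.rec (fun _ => (Cert rels S Gen.b)) lc_b_rc_1_3 lc_b_rc_18_2 lc_b_rc_14_2 lc_b_rc_12_2 lc_b_rc_18_2 lc_b_Cert_tree lc_b_rc_13_2 lc_b_rc_12_2 lc_b_rc_10_0 lc_b_rc_13_2 lc_b_rc_18_2 lc_b_rc_13_2 lc_b_rc_14_2 lc_b_rc_10_0 lc_b_rc_18_2 lc_b_rc_14_2 lc_b_rc_1_3 lc_b_rc_18_2 lc_b_rc_14_2 lc_b_rc_1_3 lc_b_rc_14_2 lc_b_rc_12_2 lc_b_rc_1_3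 lc_b_rc_13_2 lc_b_rc_12_2 lc_b_rc_14_2 lc_b_rc_14_2 lc_b_rc_18_2 lc_b_rc_11_2 lc_b_rc_16_2 lc_b_rc_12_2 lc_b_Cert_tree lc_b_rc_13_2 lc_b_Cert_tree lc_b_rc_10_0 lc_b_rc_15_2 lc_b_rc_12_2 lc_b_rc_17_2 lc_b_Cert_tree lc_b_rc_13_2 lc_b_rc_17_2 lc_b_rc_10_0 lc_b_rc_13_2 lc_b_rc_18_2 lc_b_rc_18_2 lc_b_rc_15_2 lc_b_rc_10_0 lc_b_rc_18_2 lc_b_rc_17_2 lc_b_rc_1_3 lc_b_rc_18_2) (@D3.rec (fun _ => (Cert rels S Gen.b)) lc_b_rc_14_2 lc_b_rc_1_3 lc_b_rc_14_2 lc_b_rc_12_2 lc_b_rc_11_2 lc_b_rc_15_2 lc_b_rc_12_0 lc_b_rc_12_0 lc_b_rc_12_0 lc_b_rc_16_2 lc_b_rc_1_3 lc_b_rc_12_2 lc_b_Cert_tree lc_b_rc_13_2 lc_b_Cert_tree lc_b_rc_10_0 lc_b_rc_1_3 lc_b_rc_13_2 lc_b_rc_14_2 lc_b_rc_12_2 lc_b_rc_14_2 lc_b_rc_14_2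 lc_b_rc_18_2 lc_b_rc_14_2 lc_b_rc_18_2 lc_b_Cert_tree lc_b_rc_18_2 lc_b_rc_10_0 lc_b_rc_18_2 lc_b_rc_11_2 lc_b_rc_12_2 lc_b_Cert_tree lc_b_rc_13_2 lc_b_Cert_tree lc_b_rc_10_0 lc_b_rc_14_0 lc_b_rc_12_2 lc_b_rc_18_2 lc_b_Cert_tree lc_b_rc_13_2 lc_b_rc_12_2 lc_b_rc_10_0 lc_b_rc_12_0 lc_b_rc_12_2 lc_b_rc_11_2 lc_b_rc_14_2 lc_b_rc_10_0 lc_b_rc_12_0 lc_b_rc_14_2 lc_b_rc_1_3 lc_b_rc_18_2) (@D3.rec (fun _ => (Cert rels S Gen.b)) lc_b_rc_14_2 lc_b_rc_14_0 lc_b_rc_14_2 lc_b_rc_12_2 lc_b_rc_1_3 lc_b_rc_1_3 lc_b_rc_1_3 lc_b_rc_14_2 lc_b_rc_12_2 lc_b_rc_1_3 lc_b_rc_12_2 lc_b_rc_13_2 lc_b_rc_12_0 lc_b_rc_18_2 lc_b_rc_12_2 lc_b_rc_1_3 lc_b_rc_16_2 lc_b_rc_12_2 lc_b_rc_1_3 lc_b_rc_11_2 lc_b_Cert_tree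 lc_b_rc_12_2 lc_b_rc_12_2 lc_b_rc_12_2 lc_b_rc_11_2 lc_b_rc_13_2 lc_b_rc_12_2 lc_b_rc_11_0 lc_b_rc_11_0 lc_b_rc_11_0 lc_b_rc_11_0 lc_b_rc_12_2 lc_b_rc_18_2 lc_b_rc_12_2 lc_b_rc_18_2 lc_b_Cert_tree lc_b_rc_12_2 lc_b_rc_10_0 lc_b_rc_18_2 lc_b_rc_14_2 lc_b_rc_55_29 lc_b_rc_15_2 lc_b_Cert_tree lc_b_rc_13_2 lc_b_rc_12_2 lc_b_Cert_tree lc_b_rc_12_2 lc_b_rc_10_0 lc_b_rc_18_2 lc_b_rc_14_2 lc_b_rc_1_3) (@D3.rec (fun _ => (Cert rels S Gen.b)) lc_b_rc_18_2 lc_b_rc_14_2 lc_b_rc_12_0 lc_b_rc_14_2 lc_b_rc_18_2 lc_b_rc_18_2 lc_b_rc_12_2 lc_b_rc_1_3 lc_b_rc_12_2 lc_b_rc_1_3 lc_b_rc_12_2 lc_b_rc_12_2 lc_b_rc_10_0 lc_b_rc_18_2 lc_b_rc_14_2 lc_b_Cert_tree lc_b_rc_14_2 lc_b_rc_18_2 lc_b_rc_11_2 lc_b_rc_11_2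 lc_b_Cert_tree lc_b_rc_12_2 lc_b_rc_12_2 lc_b_rc_10_0 lc_b_rc_13_2 lc_b_rc_18_2 lc_b_rc_12_2 lc_b_rc_12_2 lc_b_rc_14_2 lc_b_rc_13_2 lc_b_rc_12_2 lc_b_rc_11_0 lc_b_rc_11_0 lc_b_rc_11_0 lc_b_rc_11_0 lc_b_rc_11_0 lc_b_rc_11_0 lc_b_rc_12_2 lc_b_rc_18_2 lc_b_Cert_tree lc_b_rc_13_2 lc_b_rc_12_2 lc_b_Cert_tree lc_b_rc_12_2 lc_b_rc_10_0 lc_b_rc_18_2 lc_b_rc_14_2 lc_b_rc_1_3 lc_b_rc_18_2 lc_b_rc_14_2 lc_b_rc_16_2) (@D3.rec (fun _ => (Cert rels S Gen.b)) lc_b_Cert_tree lc_b_rc_12_2 lc_b_rc_10_0 lc_b_rc_13_2 lc_b_rc_18_2 lc_b_rc_13_2 lc_b_rc_14_2 lc_b_rc_10_0 lc_b_rc_18_2 lc_b_rc_14_2 lc_b_rc_1_3 lc_b_rc_18_2 lc_b_rc_14_2 lc_b_rc_1_3 lc_b_rc_14_2 lc_b_rc_12_2 lc_b_rc_17_2 lc_b_rc_18_2 lc_b_rc_15_2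 lc_b_rc_18_2 lc_b_Cert_tree lc_b_rc_16_2 lc_b_rc_10_0 lc_b_rc_18_2 lc_b_rc_14_2 lc_b_rc_12_2 lc_b_rc_1_3 lc_b_Cert_tree lc_b_rc_13_2 lc_b_rc_12_2 lc_b_Cert_tree lc_b_rc_12_2 lc_b_rc_10_0 lc_b_rc_18_2 lc_b_rc_14_2 lc_b_rc_1_3 lc_b_rc_18_2 lc_b_rc_14_2 lc_b_rc_12_2 lc_b_rc_11_2 lc_b_Cert_tree lc_b_rc_13_2 lc_b_rc_12_2 lc_b_Cert_tree lc_b_rc_12_2 lc_b_rc_12_2 lc_b_rc_10_0 lc_b_rc_13_2 lc_b_rc_18_2 lc_b_rc_12_2 lc_b_rc_12_2) (@D3.rec (fun _ => (Cert rels S Gen.b)) lc_b_rc_14_2 lc_b_rc_1_3 lc_b_rc_13_2 lc_b_rc_18_2 lc_b_rc_15_2 lc_b_rc_18_2 lc_b_rc_14_2 lc_b_rc_12_2 lc_b_rc_12_2 lc_b_rc_14_2 lc_b_rc_11_0 lc_b_rc_11_0 lc_b_rc_11_0 lc_b_rc_11_0 lc_b_rc_11_0 lc_b_rc_11_0 lc_b_rc_11_0 lc_b_rc_18_2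 lc_b_rc_13_0 lc_b_rc_12_2 lc_b_rc_10_0 lc_b_rc_12_0 lc_b_rc_18_2 lc_b_rc_13_2 lc_b_rc_14_2 lc_b_rc_10_0 lc_b_rc_14_2 lc_b_rc_1_1 lc_b_rc_1_3 lc_b_rc_18_2 lc_b_rc_13_2 lc_b_rc_1_3 lc_b_rc_14_2 lc_b_rc_12_2 lc_b_rc_1_3 lc_b_rc_1_3 lc_b_rc_1_3 lc_b_rc_1_3 lc_b_Cert_tree lc_b_rc_10_0 lc_b_rc_13_2 lc_b_rc_18_2 lc_b_rc_10_0 lc_b_rc_13_2 lc_b_rc_1_3 lc_b_rc_18_2 lc_b_rc_14_2 lc_b_rc_1_3 lc_b_rc_14_2 lc_b_rc_12_2 lc_b_rc_14_0) (@D3.rec (fun _ => (Cert rels S Gen.b)) lc_b_rc_13_0 lc_b_rc_1_3 lc_b_rc_12_2 lc_b_rc_12_0 lc_b_Cert_tree lc_b_rc_15_2 lc_b_rc_14_2 lc_b_rc_15_2 lc_b_rc_18_2 lc_b_rc_15_2 lc_b_rc_16_2 lc_b_rc_12_2 lc_b_rc_12_2 lc_b_rc_14_2 lc_b_rc_18_2 lc_b_rc_11_2 lc_b_rc_12_2 lc_b_rc_14_2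 lc_b_rc_14_2 lc_b_rc_14_2 lc_b_rc_18_2 lc_b_rc_16_2 lc_b_rc_13_2 lc_b_rc_14_2 lc_b_rc_14_2 lc_b_rc_14_2 lc_b_rc_18_2 lc_b_rc_11_2 lc_b_rc_14_2 lc_b_rc_18_2 lc_b_rc_13_2 lc_b_rc_13_2 lc_b_rc_15_2 lc_b_rc_16_2 lc_b_rc_17_2 lc_b_rc_12_0 lc_b_rc_14_2 lc_b_rc_1_5 lc_b_rc_13_2 lc_b_rc_16_2 lc_b_rc_1_1 lc_b_rc_12_0 lc_b_rc_12_2 lc_b_rc_18_2 lc_b_rc_16_2 lc_b_rc_12_2 lc_b_rc_1_5 lc_b_rc_1_3 lc_b_rc_10_1 lc_b_rc_11_2 lc_b_rc_14_0)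
def ce_b_7 : D2 → D3 → (Cert rels S Gen.b) := @D2.rec (fun _ => D3 → (Cert rels S Gen.b)) (@D3.rec (fun _ => (Cert rels S Gen.b)) lc_b_rc_16_2 lc_b_rc_17_2 lc_b_rc_1_1 lc_b_rc_11_0 lc_b_rc_16_2 lc_b_rc_18_2 lc_b_rc_12_2 lc_b_rc_14_2 lc_b_rc_14_2 lc_b_rc_12_2 lc_b_rc_18_2 lc_b_rc_55_20 lc_b_rc_55_20 lc_b_rc_13_0 lc_b_rc_56_36 lc_b_rc_56_36 lc_b_rc_55_47 lc_b_rc_12_2 lc_b_rc_14_2 lc_b_rc_18_2 lc_b_rc_18_2 lc_b_rc_14_2 lc_b_rc_18_2 lc_b_rc_15_2 lc_b_rc_18_2 lc_b_rc_1_3 lc_b_rc_16_2 lc_b_rc_10_1 lc_b_rc_16_2 lc_b_rc_17_2 lc_b_rc_15_0 lc_b_rc_15_2 lc_b_rc_13_0 lc_b_rc_13_0 lc_b_rc_13_2 lc_b_rc_14_2 lc_b_rc_14_2 lc_b_rc_14_2 lc_b_rc_18_2 lc_b_rc_14_2 lc_b_rc_18_2 lc_b_rc_12_0 lc_b_rc_18_2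 lc_b_rc_10_0 lc_b_rc_18_2 lc_b_rc_13_2 lc_b_rc_11_2 lc_b_rc_14_2 lc_b_rc_14_2 lc_b_rc_18_2 lc_b_rc_56_15) (@D3.rec (fun _ => (Cert rels S Gen.b)) lc_b_rc_13_0 lc_b_rc_18_2 lc_b_rc_18_2 lc_b_rc_14_2 lc_b_rc_12_2 lc_b_rc_18_2 lc_b_rc_18_2 lc_b_rc_14_2 lc_b_rc_18_2 lc_b_rc_15_2 lc_b_rc_15_2 lc_b_rc_13_2 lc_b_rc_14_2 lc_b_rc_18_2 lc_b_rc_15_0 lc_b_rc_14_2 lc_b_rc_18_2 lc_b_rc_15_2 lc_b_rc_12_2 lc_b_rc_14_0 lc_b_rc_13_2 lc_b_rc_11_0 lc_b_rc_16_2 lc_b_rc_11_0 lc_b_rc_14_2 lc_b_rc_18_2 lc_b_rc_15_2 lc_b_rc_14_2 lc_b_rc_1_3 lc_b_rc_11_2 lc_b_rc_11_2 lc_b_rc_18_2 lc_b_rc_18_2 lc_b_rc_12_2 lc_b_rc_1_3 lc_b_rc_15_2 lc_b_rc_1_3 lc_b_rc_11_2 lc_b_rc_11_2 lc_b_rc_11_2 lc_b_rc_11_2 lc_b_rc_12_2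 lc_b_rc_18_2 lc_b_rc_18_2 lc_b_rc_18_2 lc_b_rc_12_2 lc_b_rc_12_2 lc_b_rc_12_2 lc_b_rc_18_2 lc_b_rc_13_2 lc_b_rc_16_2) (@D3.rec (fun _ => (Cert rels S Gen.b)) lc_b_rc_13_2 lc_b_rc_12_2 lc_b_rc_1_3 lc_b_rc_1_3 lc_b_rc_1_3 lc_b_rc_11_2 lc_b_rc_11_2 lc_b_rc_11_2 lc_b_rc_11_2 lc_b_rc_11_2 lc_b_rc_11_2 lc_b_rc_11_2 lc_b_rc_11_2 lc_b_rc_12_2 lc_b_rc_18_2 lc_b_Cert_tree lc_b_rc_12_2 lc_b_rc_18_2 lc_b_rc_15_2 lc_b_rc_18_2 lc_b_rc_17_2 lc_b_rc_18_2 lc_b_Cert_tree lc_b_rc_12_2 lc_b_rc_10_0 lc_b_rc_18_2 lc_b_rc_14_2 lc_b_rc_11_2 lc_b_rc_12_2 lc_b_rc_14_2 lc_b_rc_11_2 lc_b_rc_11_2 lc_b_rc_13_2 lc_b_rc_12_2 lc_b_rc_14_2 lc_b_rc_13_2 lc_b_rc_14_2 lc_b_rc_1_3 lc_b_rc_11_2 lc_b_rc_11_2 lc_b_rc_13_2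 lc_b_rc_14_2 lc_b_rc_11_2 lc_b_rc_11_2 lc_b_rc_13_2 lc_b_rc_14_2 lc_b_rc_12_2 lc_b_rc_14_2 lc_b_rc_15_2 lc_b_rc_13_2 lc_b_rc_14_2) (@D3.rec (fun _ => (Cert rels S Gen.b)) lc_b_rc_12_2 lc_b_rc_15_2 lc_b_rc_1_3 lc_b_rc_11_2 lc_b_rc_11_2 lc_b_rc_11_2 lc_b_rc_15_2 lc_b_rc_13_2 lc_b_rc_14_2 lc_b_rc_12_2 lc_b_rc_15_2 lc_b_rc_15_2 lc_b_rc_11_2 lc_b_rc_11_2 lc_b_rc_11_2 lc_b_rc_12_2 lc_b_rc_11_2 lc_b_rc_13_2 lc_b_rc_14_2 lc_b_rc_12_2 lc_b_rc_14_2 lc_b_rc_18_2 lc_b_rc_15_2 lc_b_rc_13_2 lc_b_rc_14_2 lc_b_rc_12_2 lc_b_rc_18_2 lc_b_rc_14_2 lc_b_rc_18_2 lc_b_rc_15_2 lc_b_rc_14_2 lc_b_rc_13_2 lc_b_rc_16_2 lc_b_rc_15_2 lc_b_rc_12_2 lc_b_rc_18_2 lc_b_rc_1_3 lc_b_rc_1_3 lc_b_rc_1_3 lc_b_rc_12_2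 lc_b_rc_11_2 lc_b_rc_11_2 lc_b_rc_11_2 lc_b_rc_11_2 lc_b_rc_12_2 lc_b_rc_11_2 lc_b_rc_13_2 lc_b_rc_12_2 lc_b_rc_15_2 lc_b_rc_13_2 lc_b_rc_14_2) (@D3.rec (fun _ => (Cert rels S Gen.b)) lc_b_rc_12_2 lc_b_rc_18_2 lc_b_rc_18_2 lc_b_rc_18_2 lc_b_rc_12_2 lc_b_rc_18_2 lc_b_rc_12_2 lc_b_rc_11_2 lc_b_rc_11_2 lc_b_rc_11_2 lc_b_rc_11_2 lc_b_rc_12_2 lc_b_rc_11_2 lc_b_rc_12_2 lc_b_rc_15_2 lc_b_rc_13_2 lc_b_rc_14_2 lc_b_rc_12_2 lc_b_rc_18_2 lc_b_rc_14_2 lc_b_rc_18_2 lc_b_rc_15_2 lc_b_rc_15_2 lc_b_rc_14_2 lc_b_rc_12_2 lc_b_rc_18_2 lc_b_Cert_tree lc_b_rc_12_2 lc_b_rc_18_2 lc_b_rc_13_2 lc_b_rc_16_2 lc_b_rc_15_2 lc_b_rc_12_2 lc_b_rc_18_2 lc_b_rc_12_2 lc_b_rc_13_2 lc_b_rc_13_2 lc_b_rc_17_2 lc_b_rc_16_2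 lc_b_rc_12_2 lc_b_rc_18_2 lc_b_rc_12_2 lc_b_rc_12_2 lc_b_rc_1_3 lc_b_rc_1_3 lc_b_rc_1_3 lc_b_rc_1_3 lc_b_rc_1_3 lc_b_rc_1_3 lc_b_rc_12_2 lc_b_rc_14_2) (@D3.rec (fun _ => (Cert rels S Gen.b)) lc_b_rc_11_2 lc_b_rc_11_2 lc_b_rc_11_2 lc_b_rc_12_2 lc_b_rc_11_2 lc_b_rc_11_2 lc_b_rc_12_2 lc_b_rc_11_2 lc_b_rc_13_2 lc_b_rc_12_2 lc_b_rc_15_2 lc_b_rc_13_2 lc_b_rc_14_2 lc_b_rc_15_2 lc_b_rc_15_2 lc_b_rc_14_2 lc_b_rc_12_2 lc_b_rc_18_2 lc_b_Cert_tree lc_b_rc_12_2 lc_b_rc_18_2 lc_b_rc_16_2 lc_b_rc_15_2 lc_b_rc_12_2 lc_b_rc_18_2 lc_b_rc_18_2 lc_b_rc_12_2 lc_b_rc_10_0 lc_b_rc_18_2 lc_b_rc_14_2 lc_b_rc_12_2 lc_b_rc_14_2 lc_b_rc_11_2 lc_b_rc_11_2 lc_b_rc_11_2 lc_b_rc_12_2 lc_b_rc_11_2 lc_b_rc_11_2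 lc_b_rc_12_2 lc_b_rc_11_2 lc_b_rc_13_2 lc_b_rc_12_2 lc_b_rc_14_2 lc_b_rc_15_2 lc_b_rc_15_2 lc_b_rc_14_2 lc_b_rc_12_2 lc_b_rc_18_2 lc_b_Cert_tree lc_b_rc_12_2 lc_b_rc_18_2) (@D3.rec (fun _ => (Cert rels S Gen.b)) lc_b_rc_16_2 lc_b_rc_15_2 lc_b_rc_12_2 lc_b_rc_18_2 lc_b_rc_12_2 lc_b_rc_18_2 lc_b_Cert_tree lc_b_rc_12_2 lc_b_rc_10_0 lc_b_rc_18_2 lc_b_rc_14_2 lc_b_rc_12_2 lc_b_rc_13_2 lc_b_rc_13_2 lc_b_rc_17_2 lc_b_rc_16_2 lc_b_rc_12_2 lc_b_rc_18_2 lc_b_rc_11_2 lc_b_rc_12_2 lc_b_rc_12_2 lc_b_rc_14_2 lc_b_rc_15_2 lc_b_rc_13_2 lc_b_rc_13_2 lc_b_rc_12_2 lc_b_rc_13_2 lc_b_rc_17_2 lc_b_rc_12_2 lc_b_rc_18_2 lc_b_rc_13_2 lc_b_rc_12_2 lc_b_rc_1_1 lc_b_rc_12_2 lc_b_rc_14_2 lc_b_rc_1_3 lc_b_rc_1_3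 lc_b_rc_1_3 lc_b_rc_1_3 lc_b_rc_1_3 lc_b_rc_12_0 lc_b_rc_1_3 lc_b_rc_1_3 lc_b_rc_12_2 lc_b_rc_12_2 lc_b_rc_14_2 lc_b_rc_14_2 lc_b_rc_18_2 lc_b_rc_11_2 lc_b_rc_11_2 lc_b_rc_11_2) (@D3.rec (fun _ => (Cert rels S Gen.b)) lc_b_rc_12_2 lc_b_rc_11_2 lc_b_Cert_tree lc_b_rc_13_2 lc_b_rc_12_2 lc_b_rc_12_2 lc_b_rc_11_2 lc_b_rc_13_2 lc_b_rc_12_2 lc_b_rc_15_2 lc_b_rc_13_2 lc_b_rc_14_2 lc_b_rc_16_2 lc_b_rc_15_2 lc_b_rc_14_2 lc_b_rc_16_2 lc_b_rc_15_2 lc_b_rc_12_2 lc_b_rc_18_2 lc_b_rc_12_2 lc_b_rc_18_2 lc_b_Cert_tree lc_b_rc_12_2 lc_b_rc_10_0 lc_b_rc_18_2 lc_b_rc_14_2 lc_b_rc_16_2 lc_b_rc_12_2 lc_b_rc_18_2 lc_b_Cert_tree lc_b_rc_13_2 lc_b_rc_12_2 lc_b_Cert_tree lc_b_rc_12_2 lc_b_rc_10_0 lc_b_rc_18_2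 lc_b_rc_14_2 lc_b_rc_1_3 lc_b_rc_18_2 lc_b_rc_14_2 lc_b_rc_10_0 lc_b_rc_18_0 lc_b_rc_14_2 lc_b_rc_13_2 lc_b_rc_12_2 lc_b_rc_12_2 lc_b_rc_12_2 lc_b_rc_1_3 lc_b_rc_11_2 lc_b_rc_11_4 lc_b_rc_11_2) (@D3.rec (fun _ => (Cert rels S Gen.b)) lc_b_rc_14_2 lc_b_rc_12_2 lc_b_rc_14_2 lc_b_rc_18_2 lc_b_rc_18_0 lc_b_rc_1_1 lc_b_rc_12_2 lc_b_rc_18_2 lc_b_rc_14_2 lc_b_rc_18_2 lc_b_rc_15_2 lc_b_rc_14_2 lc_b_rc_13_2 lc_b_rc_16_2 lc_b_rc_15_2 lc_b_rc_12_2 lc_b_rc_18_2 lc_b_rc_1_3 lc_b_rc_1_3 lc_b_rc_1_3 lc_b_rc_1_3 lc_b_rc_1_3 lc_b_rc_12_2 lc_b_rc_11_2 lc_b_rc_11_2 lc_b_rc_11_2 lc_b_rc_11_2 lc_b_rc_12_2 lc_b_rc_11_2 lc_b_rc_17_0 lc_b_rc_12_2 lc_b_rc_15_2 lc_b_rc_13_2 lc_b_rc_14_2 lc_b_rc_12_2 lc_b_rc_18_2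 lc_b_rc_14_2 lc_b_rc_18_2 lc_b_rc_15_2 lc_b_rc_15_2 lc_b_rc_14_2 lc_b_rc_12_2 lc_b_rc_18_2 lc_b_Cert_tree lc_b_rc_12_2 lc_b_rc_18_2 lc_b_rc_13_2 lc_b_rc_16_2 lc_b_rc_15_2 lc_b_rc_18_2 lc_b_rc_12_2) (@D3.rec (fun _ => (Cert rels S Gen.b)) lc_b_rc_13_2 lc_b_rc_13_2 lc_b_rc_17_2 lc_b_rc_16_2 lc_b_rc_12_2 lc_b_rc_18_2 lc_b_rc_18_2 lc_b_rc_1_3 lc_b_rc_1_3 lc_b_rc_1_3 lc_b_rc_12_2 lc_b_rc_1_3 lc_b_rc_1_3 lc_b_rc_1_3 lc_b_rc_12_2 lc_b_rc_14_2 lc_b_rc_11_2 lc_b_rc_11_2 lc_b_rc_11_2 lc_b_rc_12_2 lc_b_rc_11_2 lc_b_rc_14_2 lc_b_rc_16_2 lc_b_rc_11_2 lc_b_rc_13_2 lc_b_rc_12_2 lc_b_rc_15_2 lc_b_rc_13_2 lc_b_rc_14_2 lc_b_rc_15_2 lc_b_rc_15_2 lc_b_rc_14_2 lc_b_rc_12_2 lc_b_rc_18_2 lc_b_Cert_tree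 lc_b_rc_12_2 lc_b_rc_18_2 lc_b_rc_16_2 lc_b_rc_18_2 lc_b_rc_18_2 lc_b_rc_12_2 lc_b_rc_10_0 lc_b_rc_18_2 lc_b_rc_14_2 lc_b_rc_14_2 lc_b_rc_18_0 lc_b_rc_1_3 lc_b_rc_12_2 lc_b_rc_18_2 lc_b_rc_13_2 lc_b_rc_13_2) (@D3.rec (fun _ => (Cert rels S Gen.b)) lc_b_rc_12_2 lc_b_rc_12_2 lc_b_rc_12_2 lc_b_rc_11_2 lc_b_rc_11_2 lc_b_rc_11_4 lc_b_rc_11_2 lc_b_rc_13_2 lc_b_rc_11_4 lc_b_rc_15_2 lc_b_rc_14_2 lc_b_rc_12_2 lc_b_rc_18_2 lc_b_rc_14_2 lc_b_rc_18_2 lc_b_rc_15_2 lc_b_rc_15_2 lc_b_rc_1_1 lc_b_rc_12_2 lc_b_rc_18_2 lc_b_Cert_tree lc_b_rc_12_2 lc_b_rc_18_2 lc_b_rc_13_2 lc_b_rc_16_2 lc_b_rc_15_2 lc_b_rc_18_2 lc_b_rc_12_2 lc_b_rc_13_2 lc_b_rc_13_2 lc_b_rc_17_2 lc_b_rc_16_2 lc_b_rc_12_2 lc_b_rc_18_2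 lc_b_rc_12_2 lc_b_rc_1_3 lc_b_rc_1_3 lc_b_rc_1_3 lc_b_rc_12_2 lc_b_rc_1_3 lc_b_rc_1_3 lc_b_rc_1_3 lc_b_rc_12_2 lc_b_rc_14_2 lc_b_rc_11_2 lc_b_rc_11_2 lc_b_rc_11_2 lc_b_rc_12_2 lc_b_rc_11_2 lc_b_rc_11_2 lc_b_rc_12_2) (@D3.rec (fun _ => (Cert rels S Gen.b)) lc_b_rc_11_2 lc_b_rc_13_2 lc_b_rc_12_2 lc_b_rc_12_2 lc_b_rc_18_2 lc_b_rc_14_2 lc_b_rc_15_2 lc_b_rc_15_2 lc_b_rc_14_2 lc_b_rc_12_2 lc_b_rc_18_2 lc_b_Cert_tree lc_b_rc_12_2 lc_b_rc_18_2 lc_b_rc_16_2 lc_b_rc_15_2 lc_b_rc_12_2 lc_b_rc_18_2 lc_b_rc_12_2 lc_b_rc_18_2 lc_b_Cert_tree lc_b_rc_12_2 lc_b_rc_10_0 lc_b_rc_18_2 lc_b_rc_14_2 lc_b_rc_12_2 lc_b_rc_13_2 lc_b_rc_13_2 lc_b_rc_17_2 lc_b_rc_16_2 lc_b_rc_18_2 lc_b_rc_12_2 lc_b_rc_14_2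 lc_b_rc_15_2 lc_b_rc_13_2 lc_b_rc_13_2 lc_b_rc_12_2 lc_b_rc_13_2 lc_b_rc_17_2 lc_b_rc_12_2 lc_b_rc_18_2 lc_b_rc_13_2 lc_b_rc_12_2 lc_b_rc_13_2 lc_b_rc_1_3 lc_b_rc_1_3 lc_b_rc_1_3 lc_b_rc_12_2 lc_b_rc_1_3 lc_b_Cert_tree lc_b_rc_12_2) (@D3.rec (fun _ => (Cert rels S Gen.b)) lc_b_rc_1_3 lc_b_rc_12_2 lc_b_rc_12_2 lc_b_rc_14_2 lc_b_rc_14_2 lc_b_rc_18_2 lc_b_rc_11_2 lc_b_rc_11_2 lc_b_rc_11_2 lc_b_rc_12_2 lc_b_rc_11_2 lc_b_Cert_tree lc_b_rc_13_2 lc_b_rc_12_2 lc_b_rc_12_2 lc_b_rc_11_2 lc_b_rc_13_2 lc_b_rc_12_2 lc_b_rc_15_2 lc_b_rc_13_2 lc_b_rc_14_2 lc_b_rc_16_2 lc_b_rc_15_2 lc_b_rc_14_2 lc_b_rc_16_2 lc_b_rc_15_2 lc_b_rc_12_2 lc_b_rc_18_2 lc_b_rc_12_2 lc_b_rc_18_2 lc_b_Cert_tree lc_b_rc_12_2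 lc_b_rc_10_0 lc_b_rc_18_2 lc_b_rc_14_2 lc_b_rc_16_2 lc_b_rc_12_2 lc_b_rc_18_2 lc_b_Cert_tree lc_b_rc_13_2 lc_b_rc_12_2 lc_b_rc_12_2 lc_b_rc_10_0 lc_b_rc_18_2 lc_b_rc_14_2 lc_b_rc_1_3 lc_b_rc_18_2 lc_b_rc_14_2 lc_b_rc_15_2 lc_b_rc_12_2 lc_b_rc_18_2) (@D3.rec (fun _ => (Cert rels S Gen.b)) lc_b_rc_15_2 lc_b_rc_12_2 lc_b_rc_18_2 lc_b_rc_12_2 lc_b_rc_12_2 lc_b_rc_12_2 lc_b_rc_11_2 lc_b_rc_12_2 lc_b_rc_11_2 lc_b_rc_11_2 lc_b_rc_11_4 lc_b_rc_11_2 lc_b_rc_11_4 lc_b_rc_11_4 lc_b_rc_15_2 lc_b_rc_13_2 lc_b_rc_11_4 lc_b_rc_15_2 lc_b_rc_14_2 lc_b_rc_18_2 lc_b_rc_18_2 lc_b_rc_12_0 lc_b_rc_15_2 lc_b_rc_18_2 lc_b_rc_13_2 lc_b_rc_18_2 lc_b_rc_13_2 lc_b_rc_13_2 lc_b_rc_10_0 lc_b_rc_18_2 lc_b_rc_13_2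 lc_b_rc_13_2 lc_b_rc_17_2 lc_b_rc_16_2 lc_b_rc_18_2 lc_b_rc_15_2 lc_b_rc_13_2 lc_b_rc_13_2 lc_b_rc_12_2 lc_b_rc_13_2 lc_b_rc_17_2 lc_b_rc_12_2 lc_b_rc_18_2 lc_b_rc_15_2 lc_b_rc_10_1 lc_b_rc_55_29 lc_b_rc_1_3 lc_b_rc_1_3 lc_b_rc_1_3 lc_b_rc_1_3 lc_b_rc_1_3) (@D3.rec (fun _ => (Cert rels S Gen.b)) lc_b_rc_12_2 lc_b_rc_12_2 lc_b_rc_14_2 lc_b_rc_14_2 lc_b_rc_18_2 lc_b_rc_11_2 lc_b_rc_11_2 lc_b_rc_11_2 lc_b_rc_12_2 lc_b_rc_11_2 lc_b_Cert_tree lc_b_rc_13_2 lc_b_rc_12_2 lc_b_rc_12_2 lc_b_rc_11_2 lc_b_rc_13_2 lc_b_rc_12_2 lc_b_rc_1_1 lc_b_rc_13_2 lc_b_rc_14_2 lc_b_rc_16_2 lc_b_rc_18_2 lc_b_rc_12_0 lc_b_rc_16_2 lc_b_rc_15_2 lc_b_rc_12_2 lc_b_rc_18_2 lc_b_rc_12_2 lc_b_rc_18_2 lc_b_Cert_tree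 lc_b_rc_12_2 lc_b_rc_10_0 lc_b_rc_18_2 lc_b_rc_16_2 lc_b_rc_12_2 lc_b_rc_18_2 lc_b_Cert_tree lc_b_rc_13_2 lc_b_rc_12_2 lc_b_rc_1_1 lc_b_rc_12_2 lc_b_rc_10_0 lc_b_rc_18_2 lc_b_rc_12_2 lc_b_rc_1_3 lc_b_rc_18_2 lc_b_rc_14_2 lc_b_rc_12_2 lc_b_rc_14_2 lc_b_rc_15_2 lc_b_rc_13_2) (@D3.rec (fun _ => (Cert rels S Gen.b)) lc_b_rc_13_2 lc_b_rc_12_2 lc_b_rc_13_2 lc_b_rc_17_2 lc_b_rc_18_2 lc_b_rc_12_2 lc_b_rc_12_2 lc_b_rc_14_2 lc_b_rc_14_2 lc_b_rc_18_2 lc_b_rc_15_2 lc_b_rc_15_2 lc_b_rc_13_2 lc_b_rc_12_2 lc_b_rc_13_2 lc_b_Cert_tree lc_b_rc_12_2 lc_b_rc_12_2 lc_b_rc_17_2 lc_b_rc_18_2 lc_b_rc_16_2 lc_b_rc_18_2 lc_b_rc_18_2 lc_b_rc_55_56 lc_b_rc_1_3 lc_b_rc_1_3 lc_b_rc_12_2 lc_b_rc_1_3 lc_b_rc_12_2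 lc_b_rc_1_3 lc_b_Cert_tree lc_b_rc_12_2 lc_b_rc_10_0 lc_b_rc_18_2 lc_b_rc_13_2 lc_b_rc_12_2 lc_b_rc_14_2 lc_b_rc_14_2 lc_b_rc_14_2 lc_b_rc_18_2 lc_b_Cert_tree lc_b_rc_14_2 lc_b_rc_18_2 lc_b_rc_11_2 lc_b_rc_11_2 lc_b_rc_12_2 lc_b_rc_11_2 lc_b_rc_12_2 lc_b_rc_11_2 lc_b_Cert_tree lc_b_rc_13_2) (@D3.rec (fun _ => (Cert rels S Gen.b)) lc_b_rc_12_2 lc_b_rc_10_0 lc_b_rc_13_2 lc_b_rc_18_2 lc_b_rc_15_2 lc_b_rc_13_2 lc_b_rc_14_2 lc_b_rc_13_2 lc_b_rc_12_2 lc_b_rc_15_2 lc_b_rc_13_2 lc_b_rc_14_2 lc_b_rc_16_2 lc_b_rc_15_2 lc_b_rc_14_2 lc_b_rc_17_2 lc_b_rc_16_2 lc_b_rc_15_2 lc_b_rc_16_2 lc_b_rc_12_2 lc_b_rc_18_2 lc_b_Cert_tree lc_b_rc_13_2 lc_b_rc_12_2 lc_b_Cert_tree lc_b_rc_12_2 lc_b_rc_10_0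 lc_b_rc_18_2 lc_b_rc_14_2 lc_b_rc_1_3 lc_b_rc_18_2 lc_b_rc_14_2 lc_b_rc_12_2 lc_b_rc_18_2 lc_b_Cert_tree lc_b_rc_13_2 lc_b_rc_12_2 lc_b_rc_10_0 lc_b_rc_13_2 lc_b_rc_18_2 lc_b_rc_13_2 lc_b_rc_14_2 lc_b_rc_10_0 lc_b_rc_18_2 lc_b_rc_14_2 lc_b_rc_1_3 lc_b_rc_18_2 lc_b_rc_14_2 lc_b_rc_1_3 lc_b_rc_14_2 lc_b_rc_12_2) (@D3.rec (fun _ => (Cert rels S Gen.b)) lc_b_rc_15_2 lc_b_rc_1_3 lc_b_rc_13_2 lc_b_rc_12_2 lc_b_rc_14_2 lc_b_rc_14_2 lc_b_rc_18_2 lc_b_rc_11_2 lc_b_rc_16_2 lc_b_rc_12_2 lc_b_Cert_tree lc_b_rc_13_2 lc_b_rc_10_0 lc_b_rc_10_0 lc_b_rc_12_2 lc_b_rc_16_2 lc_b_rc_11_4 lc_b_rc_13_2 lc_b_rc_15_2 lc_b_rc_10_0 lc_b_rc_12_2 lc_b_rc_12_2 lc_b_rc_18_2 lc_b_rc_14_2 lc_b_rc_1_3 lc_b_rc_14_2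 lc_b_rc_15_2 lc_b_rc_18_2 lc_b_rc_17_2 lc_b_rc_15_2 lc_b_rc_17_2 lc_b_rc_12_0 lc_b_rc_17_0 lc_b_rc_1_3 lc_b_rc_12_2 lc_b_Cert_tree lc_b_rc_13_2 lc_b_rc_14_0 lc_b_rc_10_0 lc_b_rc_1_3 lc_b_rc_13_2 lc_b_rc_14_2 lc_b_rc_12_2 lc_b_rc_14_2 lc_b_rc_14_2 lc_b_rc_18_2 lc_b_rc_14_2 lc_b_rc_18_2 lc_b_Cert_tree lc_b_rc_18_2 lc_b_rc_10_0) (@D3.rec (fun _ => (Cert rels S Gen.b)) lc_b_rc_18_2 lc_b_rc_11_2 lc_b_rc_12_2 lc_b_Cert_tree lc_b_rc_13_2 lc_b_Cert_tree lc_b_rc_10_0 lc_b_rc_14_0 lc_b_rc_12_2 lc_b_rc_18_2 lc_b_Cert_tree lc_b_rc_13_2 lc_b_rc_12_2 lc_b_rc_10_0 lc_b_rc_13_2 lc_b_rc_18_2 lc_b_rc_13_2 lc_b_rc_14_2 lc_b_rc_10_0 lc_b_rc_18_2 lc_b_rc_14_2 lc_b_rc_1_3 lc_b_rc_18_2 lc_b_rc_14_2 lc_b_rc_14_0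 lc_b_rc_14_2 lc_b_rc_12_2 lc_b_rc_1_5 lc_b_rc_13_2 lc_b_rc_12_2 lc_b_rc_10_0 lc_b_rc_14_2 lc_b_rc_1_3 lc_b_rc_13_2 lc_b_rc_18_2 lc_b_rc_14_2 lc_b_rc_14_2 lc_b_rc_1_3 lc_b_rc_18_2 lc_b_rc_14_2 lc_b_rc_1_3 lc_b_rc_14_2 lc_b_rc_12_2 lc_b_rc_1_3 lc_b_rc_12_2 lc_b_rc_13_2 lc_b_rc_11_2 lc_b_rc_15_2 lc_b_rc_14_2 lc_b_rc_12_2 lc_b_rc_11_2) (@D3.rec (fun _ => (Cert rels S Gen.b)) lc_b_rc_11_2 lc_b_rc_11_2 lc_b_rc_15_2 lc_b_rc_18_2 lc_b_rc_1_3 lc_b_rc_11_2 lc_b_rc_15_2 lc_b_rc_15_2 lc_b_rc_14_2 lc_b_rc_12_2 lc_b_rc_18_2 lc_b_rc_12_2 lc_b_rc_16_2 lc_b_rc_15_2 lc_b_rc_12_2 lc_b_rc_12_2 lc_b_Cert_tree lc_b_rc_12_2 lc_b_rc_10_0 lc_b_rc_14_2 lc_b_rc_12_2 lc_b_rc_11_2 lc_b_rc_11_2 lc_b_rc_11_2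 lc_b_rc_11_2 lc_b_rc_18_2 lc_b_rc_18_2 lc_b_rc_13_2 lc_b_rc_15_2 lc_b_rc_18_2 lc_b_rc_13_2 lc_b_rc_12_0 lc_b_rc_18_0 lc_b_rc_18_2 lc_b_rc_14_0 lc_b_rc_1_3 lc_b_rc_1_3 lc_b_rc_1_3 lc_b_rc_1_3 lc_b_rc_1_3 lc_b_rc_1_3 lc_b_rc_14_2 lc_b_rc_11_2 lc_b_rc_11_2 lc_b_rc_12_2 lc_b_rc_11_2 lc_b_rc_11_2 lc_b_rc_13_2 lc_b_rc_12_2 lc_b_rc_15_2 lc_b_rc_13_2) (@D3.rec (fun _ => (Cert rels S Gen.b)) lc_b_rc_15_2 lc_b_rc_14_2 lc_b_rc_12_2 lc_b_rc_18_2 lc_b_Cert_tree lc_b_rc_12_2 lc_b_rc_18_2 lc_b_rc_18_2 lc_b_rc_12_2 lc_b_rc_12_2 lc_b_rc_10_0 lc_b_rc_18_2 lc_b_rc_12_2 lc_b_rc_14_2 lc_b_rc_11_2 lc_b_rc_11_2 lc_b_rc_11_2 lc_b_rc_12_2 lc_b_rc_11_2 lc_b_rc_11_2 lc_b_rc_11_2 lc_b_rc_15_2 lc_b_rc_15_2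 lc_b_rc_18_2 lc_b_rc_14_2 lc_b_rc_12_2 lc_b_rc_18_2 lc_b_rc_18_2 lc_b_rc_14_2 lc_b_rc_12_2 lc_b_rc_13_2 lc_b_rc_13_2 lc_b_rc_16_2 lc_b_rc_18_2 lc_b_rc_15_2 lc_b_rc_13_2 lc_b_rc_12_2 lc_b_rc_13_2 lc_b_rc_12_0 lc_b_rc_18_0 lc_b_rc_18_2 lc_b_rc_13_2 lc_b_rc_15_2 lc_b_rc_1_3 lc_b_rc_1_3 lc_b_rc_1_3 lc_b_rc_1_3 lc_b_rc_1_3 lc_b_rc_1_3 lc_b_rc_1_3 lc_b_rc_12_2) (@D3.rec (fun _ => (Cert rels S Gen.b)) lc_b_rc_14_2 lc_b_rc_14_2 lc_b_rc_18_2 lc_b_rc_11_2 lc_b_rc_11_2 lc_b_rc_11_2 lc_b_rc_12_2 lc_b_rc_11_2 lc_b_Cert_tree lc_b_rc_13_2 lc_b_rc_12_2 lc_b_rc_11_2 lc_b_rc_13_2 lc_b_rc_12_2 lc_b_rc_15_2 lc_b_rc_13_2 lc_b_rc_16_2 lc_b_rc_15_2 lc_b_rc_16_2 lc_b_rc_15_2 lc_b_rc_12_2 lc_b_rc_18_2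 lc_b_rc_12_2 lc_b_rc_18_2 lc_b_Cert_tree lc_b_rc_12_2 lc_b_rc_10_0 lc_b_rc_18_2 lc_b_rc_14_2 lc_b_rc_16_2 lc_b_rc_12_2 lc_b_rc_18_2 lc_b_Cert_tree lc_b_rc_13_2 lc_b_rc_12_2 lc_b_Cert_tree lc_b_rc_12_2 lc_b_rc_10_0 lc_b_rc_18_2 lc_b_rc_14_2 lc_b_rc_1_3 lc_b_rc_18_2 lc_b_rc_14_2 lc_b_Cert_tree lc_b_rc_16_2 lc_b_rc_10_0 lc_b_rc_18_2 lc_b_rc_14_2 lc_b_rc_12_2 lc_b_rc_12_2 lc_b_rc_14_2) (@D3.rec (fun _ => (Cert rels S Gen.b)) lc_b_rc_14_2 lc_b_rc_18_2 lc_b_rc_11_2 lc_b_rc_11_2 lc_b_rc_11_2 lc_b_rc_12_2 lc_b_rc_11_2 lc_b_Cert_tree lc_b_rc_12_2 lc_b_rc_11_2 lc_b_rc_16_2 lc_b_rc_15_2 lc_b_rc_12_2 lc_b_rc_18_2 lc_b_rc_12_2 lc_b_rc_18_2 lc_b_Cert_tree lc_b_rc_12_2 lc_b_rc_10_0 lc_b_rc_18_2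 lc_b_rc_14_2 lc_b_rc_18_2 lc_b_Cert_tree lc_b_rc_12_2 lc_b_Cert_tree lc_b_rc_12_2 lc_b_rc_10_0 lc_b_rc_18_2 lc_b_rc_14_2 lc_b_rc_1_3 lc_b_rc_18_2 lc_b_rc_14_2 lc_b_rc_12_2 lc_b_rc_14_2 lc_b_rc_15_2 lc_b_rc_13_2 lc_b_rc_13_2 lc_b_rc_12_2 lc_b_rc_13_2 lc_b_rc_17_2 lc_b_rc_18_2 lc_b_rc_12_2 lc_b_rc_12_2 lc_b_rc_14_2 lc_b_rc_12_2 lc_b_rc_18_2 lc_b_rc_15_2 lc_b_rc_15_2 lc_b_rc_13_2 lc_b_rc_12_2 lc_b_rc_13_2) (@D3.rec (fun _ => (Cert rels S Gen.b)) lc_b_Cert_tree lc_b_rc_18_0 lc_b_rc_12_2 lc_b_rc_17_2 lc_b_rc_18_2 lc_b_rc_16_2 lc_b_rc_14_0 lc_b_rc_14_0 lc_b_rc_1_3 lc_b_rc_1_3 lc_b_rc_1_3 lc_b_rc_1_3 lc_b_rc_1_3 lc_b_rc_1_3 lc_b_Cert_tree lc_b_rc_1_3 lc_b_rc_10_0 lc_b_rc_18_2 lc_b_rc_1_3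 lc_b_rc_13_2 lc_b_rc_12_2 lc_b_rc_14_2 lc_b_rc_14_2 lc_b_rc_14_2 lc_b_rc_18_2 lc_b_Cert_tree lc_b_rc_14_2 lc_b_rc_18_2 lc_b_rc_11_2 lc_b_rc_11_2 lc_b_rc_12_2 lc_b_rc_11_2 lc_b_rc_12_2 lc_b_rc_11_2 lc_b_Cert_tree lc_b_rc_13_2 lc_b_rc_12_2 lc_b_rc_10_0 lc_b_rc_13_2 lc_b_rc_18_2 lc_b_rc_15_2 lc_b_rc_13_2 lc_b_rc_14_2 lc_b_rc_13_2 lc_b_rc_12_2 lc_b_rc_15_2 lc_b_rc_13_2 lc_b_rc_16_2 lc_b_rc_15_2 lc_b_rc_17_2 lc_b_rc_16_2) (@D3.rec (fun _ => (Cert rels S Gen.b)) lc_b_rc_16_2 lc_b_rc_12_2 lc_b_rc_18_2 lc_b_Cert_tree lc_b_rc_13_2 lc_b_rc_12_2 lc_b_Cert_tree lc_b_rc_12_2 lc_b_rc_10_0 lc_b_rc_18_2 lc_b_rc_14_2 lc_b_rc_1_3 lc_b_rc_18_2 lc_b_rc_14_2 lc_b_rc_12_2 lc_b_rc_18_2 lc_b_Cert_tree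 lc_b_rc_13_2 lc_b_rc_12_2 lc_b_rc_10_0 lc_b_rc_13_2 lc_b_rc_18_2 lc_b_rc_13_2 lc_b_rc_14_2 lc_b_rc_10_0 lc_b_rc_18_2 lc_b_rc_14_2 lc_b_rc_1_3 lc_b_rc_18_2 lc_b_rc_14_2 lc_b_rc_1_3 lc_b_rc_14_2 lc_b_rc_12_2 lc_b_rc_13_2 lc_b_rc_18_2 lc_b_rc_13_2 lc_b_rc_13_2 lc_b_rc_14_2 lc_b_rc_15_2 lc_b_rc_1_3 lc_b_rc_1_3 lc_b_rc_1_3 lc_b_rc_12_2 lc_b_rc_1_3 lc_b_rc_1_3 lc_b_rc_1_3 lc_b_rc_14_2 lc_b_rc_11_2 lc_b_rc_1_1 lc_b_rc_12_2 lc_b_rc_11_2) (@D3.rec (fun _ => (Cert rels S Gen.b)) lc_b_rc_14_2 lc_b_rc_16_2 lc_b_rc_11_2 lc_b_rc_13_2 lc_b_rc_15_2 lc_b_rc_18_2 lc_b_rc_12_0 lc_b_rc_12_2 lc_b_rc_18_2 lc_b_rc_14_2 lc_b_rc_14_2 lc_b_rc_10_1 lc_b_rc_56_36 lc_b_rc_12_0 lc_b_rc_12_2 lc_b_rc_13_2 lc_b_rc_10_0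 lc_b_rc_16_2 lc_b_rc_1_3 lc_b_rc_1_3 lc_b_rc_1_3 lc_b_rc_12_2 lc_b_rc_1_3 lc_b_rc_16_2 lc_b_rc_12_2 lc_b_rc_1_3 lc_b_rc_12_2 lc_b_rc_14_2 lc_b_rc_18_2 lc_b_rc_11_2 lc_b_rc_11_2 lc_b_rc_56_22 lc_b_rc_12_2 lc_b_rc_11_2 lc_b_Cert_tree lc_b_rc_13_2 lc_b_rc_12_2 lc_b_rc_56_50 lc_b_rc_1_3 lc_b_rc_15_2 lc_b_rc_13_2 lc_b_rc_16_2 lc_b_rc_15_2 lc_b_rc_16_2 lc_b_rc_15_2 lc_b_rc_12_2 lc_b_rc_18_2 lc_b_rc_12_2 lc_b_rc_18_2 lc_b_Cert_tree lc_b_rc_12_2) (@D3.rec (fun _ => (Cert rels S Gen.b)) lc_b_rc_10_0 lc_b_rc_18_2 lc_b_rc_14_2 lc_b_rc_16_2 lc_b_rc_12_2 lc_b_rc_13_2 lc_b_rc_12_2 lc_b_Cert_tree lc_b_rc_12_2 lc_b_rc_10_0 lc_b_rc_18_2 lc_b_rc_14_2 lc_b_rc_1_3 lc_b_rc_18_2 lc_b_rc_14_2 lc_b_rc_13_2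 lc_b_rc_12_2 lc_b_rc_1_3 lc_b_rc_15_2 lc_b_rc_12_2 lc_b_rc_13_2 lc_b_rc_12_2 lc_b_rc_13_2 lc_b_rc_16_2 lc_b_rc_15_2 lc_b_rc_1_3 lc_b_rc_1_3 lc_b_rc_1_3 lc_b_rc_12_2 lc_b_rc_1_3 lc_b_Cert_tree lc_b_rc_12_2 lc_b_rc_1_3 lc_b_rc_12_2 lc_b_rc_14_2 lc_b_rc_14_2 lc_b_rc_18_2 lc_b_rc_11_2 lc_b_rc_11_2 lc_b_rc_13_2 lc_b_rc_12_2 lc_b_rc_11_2 lc_b_Cert_tree lc_b_rc_12_2 lc_b_rc_12_2 lc_b_rc_15_0 lc_b_rc_11_2 lc_b_rc_13_2 lc_b_rc_15_0 lc_b_rc_13_2 lc_b_rc_16_2)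
def ce_b_8 : D2 → D3 → (Cert rels S Gen.b) := @D2.rec (fun _ => D3 → (Cert rels S Gen.b)) (@D3.rec (fun _ => (Cert rels S Gen.b)) lc_b_rc_15_2 lc_b_rc_12_2 lc_b_rc_18_2 lc_b_rc_18_2 lc_b_rc_16_2 lc_b_rc_12_2 lc_b_rc_10_0 lc_b_rc_18_2 lc_b_rc_14_2 lc_b_rc_18_2 lc_b_rc_13_2 lc_b_rc_12_2 lc_b_rc_14_2 lc_b_rc_1_3 lc_b_rc_18_2 lc_b_rc_14_2 lc_b_rc_14_2 lc_b_rc_15_2 lc_b_rc_15_2 lc_b_rc_13_2 lc_b_rc_12_2 lc_b_rc_18_2 lc_b_rc_15_2 lc_b_rc_13_2 lc_b_rc_13_2 lc_b_rc_12_2 lc_b_rc_13_2 lc_b_Cert_tree lc_b_rc_12_2 lc_b_rc_15_2 lc_b_rc_1_3 lc_b_rc_1_3 lc_b_rc_12_2 lc_b_rc_1_3 lc_b_rc_12_2 lc_b_rc_1_3 lc_b_rc_13_2 lc_b_rc_12_2 lc_b_rc_10_0 lc_b_rc_18_2 lc_b_rc_14_2 lc_b_rc_13_2 lc_b_rc_15_2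 lc_b_rc_14_2 lc_b_rc_14_2 lc_b_rc_18_2 lc_b_Cert_tree lc_b_rc_14_2 lc_b_rc_18_2 lc_b_rc_11_2 lc_b_rc_11_2) (@D3.rec (fun _ => (Cert rels S Gen.b)) lc_b_rc_12_2 lc_b_rc_11_2 lc_b_rc_12_2 lc_b_rc_11_2 lc_b_Cert_tree lc_b_rc_13_2 lc_b_rc_12_2 lc_b_rc_10_0 lc_b_rc_13_2 lc_b_rc_18_2 lc_b_rc_15_2 lc_b_rc_13_2 lc_b_rc_14_2 lc_b_rc_1_3 lc_b_rc_15_2 lc_b_rc_13_2 lc_b_rc_16_2 lc_b_rc_15_2 lc_b_rc_17_2 lc_b_rc_16_2 lc_b_rc_16_2 lc_b_rc_12_2 lc_b_rc_18_2 lc_b_Cert_tree lc_b_rc_13_2 lc_b_rc_12_2 lc_b_Cert_tree lc_b_rc_12_2 lc_b_rc_10_0 lc_b_rc_18_2 lc_b_rc_14_2 lc_b_rc_1_3 lc_b_rc_18_2 lc_b_rc_14_2 lc_b_rc_12_2 lc_b_rc_18_2 lc_b_Cert_tree lc_b_rc_13_2 lc_b_rc_12_2 lc_b_rc_10_0 lc_b_rc_13_2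 lc_b_rc_18_2 lc_b_rc_13_2 lc_b_rc_14_2 lc_b_rc_10_0 lc_b_rc_18_2 lc_b_rc_14_2 lc_b_rc_1_3 lc_b_rc_18_2 lc_b_rc_14_2 lc_b_rc_1_3) (@D3.rec (fun _ => (Cert rels S Gen.b)) lc_b_rc_14_2 lc_b_rc_12_2 lc_b_rc_15_2 lc_b_rc_13_2 lc_b_rc_1_3 lc_b_rc_18_0 lc_b_rc_17_2 lc_b_rc_18_0 lc_b_rc_14_2 lc_b_rc_13_2 lc_b_rc_14_2 lc_b_rc_1_3 lc_b_rc_1_3 lc_b_rc_1_3 lc_b_rc_1_3 lc_b_rc_13_2 lc_b_rc_12_2 lc_b_rc_14_2 lc_b_rc_14_2 lc_b_rc_14_2 lc_b_rc_18_2 lc_b_rc_12_2 lc_b_rc_18_2 lc_b_rc_11_2 lc_b_rc_11_2 lc_b_rc_12_2 lc_b_rc_11_2 lc_b_rc_12_2 lc_b_rc_11_2 lc_b_Cert_tree lc_b_rc_16_2 lc_b_rc_12_2 lc_b_rc_10_0 lc_b_rc_13_2 lc_b_rc_18_2 lc_b_rc_12_2 lc_b_rc_14_2 lc_b_rc_13_2 lc_b_rc_12_2 lc_b_rc_15_2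 lc_b_rc_13_2 lc_b_rc_16_2 lc_b_rc_12_2 lc_b_rc_18_2 lc_b_Cert_tree lc_b_rc_13_2 lc_b_rc_12_2 lc_b_Cert_tree lc_b_rc_12_2 lc_b_rc_10_0 lc_b_rc_18_2) (@D3.rec (fun _ => (Cert rels S Gen.b)) lc_b_rc_15_2 lc_b_rc_18_2 lc_b_rc_12_2 lc_b_rc_18_2 lc_b_Cert_tree lc_b_rc_13_2 lc_b_rc_12_2 lc_b_rc_10_0 lc_b_rc_13_2 lc_b_rc_18_2 lc_b_rc_13_2 lc_b_rc_14_2 lc_b_rc_10_0 lc_b_rc_18_2 lc_b_rc_14_2 lc_b_rc_1_3 lc_b_rc_18_2 lc_b_rc_14_2 lc_b_rc_1_3 lc_b_rc_14_2 lc_b_rc_12_2 lc_b_rc_12_2 lc_b_rc_12_2 lc_b_rc_14_2 lc_b_rc_18_2 lc_b_rc_15_2 lc_b_rc_55_56 lc_b_rc_10_1 lc_b_rc_14_2 lc_b_rc_14_2 lc_b_rc_16_2 lc_b_rc_18_2 lc_b_rc_14_0 lc_b_rc_16_2 lc_b_rc_15_2 lc_b_rc_18_0 lc_b_rc_15_2 lc_b_rc_17_2 lc_b_rc_13_2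 lc_b_Cert_tree lc_b_rc_14_0 lc_b_rc_10_0 lc_b_rc_18_2 lc_b_rc_13_2 lc_b_rc_1_3 lc_b_rc_12_2 lc_b_rc_1_3 lc_b_Cert_tree lc_b_rc_13_2 lc_b_rc_12_2 lc_b_Cert_tree) (@D3.rec (fun _ => (Cert rels S Gen.b)) lc_b_rc_12_2 lc_b_rc_10_0 lc_b_rc_18_2 lc_b_rc_1_3 lc_b_rc_18_2 lc_b_rc_55_2 lc_b_rc_14_2 lc_b_rc_12_2 lc_b_rc_14_2 lc_b_rc_14_2 lc_b_rc_18_2 lc_b_rc_14_2 lc_b_rc_18_2 lc_b_Cert_tree lc_b_rc_14_2 lc_b_rc_18_2 lc_b_rc_10_0 lc_b_rc_13_2 lc_b_rc_18_2 lc_b_rc_15_2 lc_b_rc_18_2 lc_b_rc_18_2 lc_b_rc_11_2 lc_b_rc_12_2 lc_b_rc_11_2 lc_b_Cert_tree lc_b_rc_13_2 lc_b_rc_12_2 lc_b_Cert_tree lc_b_rc_13_2 lc_b_rc_12_2 lc_b_rc_10_0 lc_b_rc_13_2 lc_b_rc_18_2 lc_b_rc_15_2 lc_b_rc_13_2 lc_b_rc_14_2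 lc_b_rc_1_3 lc_b_rc_13_2 lc_b_rc_18_2 lc_b_rc_15_2 lc_b_rc_18_2 lc_b_rc_14_2 lc_b_rc_16_2 lc_b_rc_15_2 lc_b_rc_14_2 lc_b_rc_15_2 lc_b_rc_13_2 lc_b_rc_16_2 lc_b_rc_15_2 lc_b_rc_17_2) (@D3.rec (fun _ => (Cert rels S Gen.b)) lc_b_rc_16_2 lc_b_rc_17_2 lc_b_rc_12_2 lc_b_rc_18_2 lc_b_Cert_tree lc_b_rc_13_2 lc_b_rc_12_2 lc_b_rc_10_0 lc_b_rc_13_2 lc_b_rc_18_2 lc_b_rc_13_2 lc_b_rc_14_2 lc_b_rc_10_0 lc_b_rc_18_2 lc_b_rc_14_2 lc_b_rc_1_3 lc_b_rc_18_2 lc_b_rc_14_2 lc_b_rc_1_3 lc_b_rc_14_2 lc_b_rc_12_2 lc_b_rc_12_2 lc_b_rc_10_0 lc_b_rc_55_65 lc_b_rc_13_2 lc_b_rc_14_2 lc_b_rc_1_3 lc_b_rc_13_2 lc_b_rc_18_2 lc_b_rc_55_38 lc_b_rc_1_3 lc_b_rc_18_2 lc_b_rc_1_3 lc_b_rc_14_2 lc_b_rc_12_2 lc_b_rc_1_3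 lc_b_rc_12_2 lc_b_rc_13_2 lc_b_rc_13_2 lc_b_rc_14_2 lc_b_rc_12_2 lc_b_rc_14_2 lc_b_rc_18_2 lc_b_rc_18_2 lc_b_rc_12_2 lc_b_Cert_tree lc_b_rc_13_2 lc_b_rc_10_0 lc_b_rc_12_2 lc_b_rc_10_0 lc_b_rc_16_2) (@D3.rec (fun _ => (Cert rels S Gen.b)) lc_b_rc_1_1 lc_b_rc_13_2 lc_b_rc_18_2 lc_b_rc_10_0 lc_b_rc_1_3 lc_b_rc_13_2 lc_b_rc_18_2 lc_b_rc_14_2 lc_b_rc_18_0 lc_b_rc_1_3 lc_b_rc_18_2 lc_b_rc_14_2 lc_b_rc_1_3 lc_b_rc_14_2 lc_b_rc_12_2 lc_b_rc_1_3 lc_b_rc_12_2 lc_b_rc_11_2 lc_b_rc_56_15 lc_b_rc_11_2 lc_b_rc_12_0 lc_b_rc_12_0 lc_b_rc_12_2 lc_b_Cert_tree lc_b_rc_13_2 lc_b_rc_10_0 lc_b_rc_13_2 lc_b_rc_10_0 lc_b_rc_1_3 lc_b_rc_14_2 lc_b_rc_12_2 lc_b_rc_18_2 lc_b_rc_14_2 lc_b_rc_14_2 lc_b_rc_18_2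 lc_b_Cert_tree lc_b_rc_14_2 lc_b_rc_18_2 lc_b_Cert_tree lc_b_rc_18_2 lc_b_rc_10_0 lc_b_rc_18_2 lc_b_rc_12_0 lc_b_rc_18_2 lc_b_rc_12_2 lc_b_Cert_tree lc_b_rc_13_2 lc_b_rc_10_0 lc_b_rc_13_2 lc_b_rc_10_0 lc_b_rc_14_0) (@D3.rec (fun _ => (Cert rels S Gen.b)) lc_b_rc_12_0 lc_b_rc_10_0 lc_b_rc_12_0 lc_b_rc_12_0 lc_b_rc_1_3 lc_b_rc_15_2 lc_b_rc_13_2 lc_b_rc_1_3 lc_b_rc_12_0 lc_b_rc_14_0 lc_b_rc_14_2 lc_b_rc_12_2 lc_b_rc_12_2 lc_b_rc_12_2 lc_b_rc_13_2 lc_b_rc_1_3 lc_b_rc_12_2 lc_b_rc_12_2 lc_b_rc_18_2 lc_b_rc_14_2 lc_b_rc_10_0 lc_b_rc_13_2 lc_b_rc_18_2 lc_b_rc_12_2 lc_b_rc_12_2 lc_b_rc_14_2 lc_b_rc_12_2 lc_b_rc_13_2 lc_b_rc_13_2 lc_b_rc_11_0 lc_b_rc_11_0 lc_b_rc_13_2 lc_b_rc_12_2 lc_b_rc_12_2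 lc_b_rc_10_0 lc_b_rc_18_2 lc_b_rc_14_2 lc_b_rc_16_2 lc_b_rc_18_2 lc_b_rc_14_2 lc_b_rc_11_2 lc_b_rc_13_2 lc_b_rc_15_2 lc_b_rc_10_0 lc_b_rc_11_4 lc_b_rc_18_2 lc_b_rc_13_2 lc_b_rc_14_2 lc_b_rc_10_0 lc_b_rc_18_2 lc_b_rc_14_2) (@D3.rec (fun _ => (Cert rels S Gen.b)) lc_b_rc_1_3 lc_b_rc_18_2 lc_b_rc_14_2 lc_b_rc_1_3 lc_b_rc_14_2 lc_b_rc_12_2 lc_b_rc_18_2 lc_b_rc_11_0 lc_b_rc_13_2 lc_b_rc_12_2 lc_b_rc_12_2 lc_b_rc_12_2 lc_b_rc_14_2 lc_b_rc_1_3 lc_b_rc_18_2 lc_b_rc_14_2 lc_b_rc_10_0 lc_b_rc_13_2 lc_b_rc_18_2 lc_b_rc_14_2 lc_b_rc_18_2 lc_b_rc_10_0 lc_b_rc_13_2 lc_b_rc_18_2 lc_b_rc_12_2 lc_b_rc_12_2 lc_b_rc_14_2 lc_b_rc_14_2 lc_b_rc_13_2 lc_b_rc_18_2 lc_b_rc_15_2 lc_b_rc_18_2 lc_b_rc_14_2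 lc_b_rc_12_2 lc_b_rc_12_2 lc_b_rc_14_2 lc_b_rc_13_2 lc_b_rc_13_2 lc_b_rc_11_0 lc_b_rc_11_0 lc_b_rc_11_0 lc_b_rc_11_0 lc_b_rc_12_2 lc_b_rc_10_0 lc_b_rc_13_2 lc_b_rc_18_2 lc_b_rc_13_2 lc_b_rc_14_2 lc_b_rc_10_0 lc_b_rc_18_2 lc_b_rc_14_2) (@D3.rec (fun _ => (Cert rels S Gen.b)) lc_b_rc_12_2 lc_b_rc_18_2 lc_b_rc_14_2 lc_b_rc_1_3 lc_b_rc_14_2 lc_b_rc_12_2 lc_b_rc_10_0 lc_b_rc_18_2 lc_b_rc_14_2 lc_b_rc_1_3 lc_b_rc_13_2 lc_b_rc_18_2 lc_b_rc_18_2 lc_b_rc_14_2 lc_b_rc_14_2 lc_b_rc_1_3 lc_b_rc_18_2 lc_b_rc_14_2 lc_b_rc_1_3 lc_b_rc_14_2 lc_b_rc_12_2 lc_b_rc_1_3 lc_b_rc_12_2 lc_b_rc_13_2 lc_b_Cert_tree lc_b_rc_18_2 lc_b_Cert_tree lc_b_rc_18_2 lc_b_rc_10_0 lc_b_rc_18_2 lc_b_rc_16_2 lc_b_rc_1_3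 lc_b_rc_18_2 lc_b_rc_14_2 lc_b_Cert_tree lc_b_rc_12_2 lc_b_rc_10_0 lc_b_rc_13_2 lc_b_rc_18_2 lc_b_rc_13_2 lc_b_rc_14_2 lc_b_rc_10_0 lc_b_rc_18_2 lc_b_rc_14_2 lc_b_rc_1_3 lc_b_rc_18_2 lc_b_rc_14_2 lc_b_rc_1_3 lc_b_rc_14_2 lc_b_rc_12_2 lc_b_rc_13_0) (@D3.rec (fun _ => (Cert rels S Gen.b)) lc_b_rc_12_2 lc_b_rc_10_0 lc_b_rc_13_2 lc_b_rc_18_2 lc_b_rc_13_2 lc_b_rc_13_2 lc_b_rc_14_2 lc_b_rc_10_0 lc_b_rc_13_2 lc_b_rc_18_2 lc_b_rc_12_2 lc_b_rc_12_2 lc_b_rc_14_2 lc_b_rc_1_3 lc_b_rc_13_2 lc_b_rc_18_2 lc_b_rc_15_2 lc_b_rc_18_2 lc_b_rc_14_2 lc_b_rc_12_2 lc_b_rc_12_2 lc_b_rc_14_2 lc_b_rc_55_38 lc_b_rc_1_3 lc_b_rc_15_2 lc_b_rc_18_2 lc_b_rc_14_2 lc_b_rc_16_2 lc_b_rc_18_2 lc_b_rc_14_2 lc_b_rc_12_2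 lc_b_rc_12_2 lc_b_rc_12_2 lc_b_rc_14_2 lc_b_rc_16_2 lc_b_rc_11_0 lc_b_rc_11_0 lc_b_rc_11_0 lc_b_rc_11_0 lc_b_rc_13_0 lc_b_rc_1_3 lc_b_rc_18_2 lc_b_rc_14_0 lc_b_rc_12_0 lc_b_rc_14_2 lc_b_rc_1_3 lc_b_rc_1_3 lc_b_rc_13_0 lc_b_rc_1_3 lc_b_rc_12_2 lc_b_rc_12_0) (@D3.rec (fun _ => (Cert rels S Gen.b)) lc_b_rc_10_0 lc_b_rc_13_0 lc_b_rc_13_2 lc_b_rc_18_2 lc_b_rc_14_0 lc_b_rc_14_2 lc_b_rc_12_2 lc_b_rc_1_3 lc_b_rc_12_2 lc_b_rc_12_0 lc_b_rc_12_0 lc_b_rc_12_0 lc_b_rc_10_0 lc_b_rc_16_2 lc_b_rc_18_2 lc_b_rc_18_2 lc_b_rc_16_2 lc_b_rc_17_2 lc_b_rc_14_2 lc_b_rc_14_2 lc_b_rc_18_2 lc_b_rc_14_2 lc_b_rc_18_2 lc_b_rc_16_2 lc_b_rc_18_2 lc_b_rc_18_2 lc_b_rc_14_2 lc_b_rc_18_2 lc_b_rc_18_2 lc_b_rc_14_2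 lc_b_rc_18_2 lc_b_rc_11_2 lc_b_rc_18_2 lc_b_rc_16_2 lc_b_rc_17_2 lc_b_rc_12_0 lc_b_rc_18_2 lc_b_rc_12_2 lc_b_rc_1_1 lc_b_rc_12_0 lc_b_rc_12_2 lc_b_rc_18_2 lc_b_rc_1_3 lc_b_rc_56_29 lc_b_rc_16_2 lc_b_rc_16_2 lc_b_rc_17_2 lc_b_rc_1_1 lc_b_rc_10_0 lc_b_rc_18_2 lc_b_rc_56_15) (@D3.rec (fun _ => (Cert rels S Gen.b)) lc_b_rc_18_2 lc_b_rc_18_2 lc_b_rc_13_0 lc_b_rc_12_2 lc_b_rc_11_2 lc_b_rc_1_1 lc_b_rc_12_2 lc_b_rc_11_4 lc_b_rc_12_2 lc_b_rc_18_2 lc_b_rc_1_3 lc_b_rc_18_2 lc_b_rc_16_2 lc_b_rc_18_2 lc_b_rc_13_2 lc_b_rc_17_2 lc_b_rc_16_2 lc_b_rc_17_2 lc_b_rc_15_0 lc_b_rc_15_2 lc_b_rc_13_0 lc_b_rc_14_2 lc_b_rc_12_2 lc_b_rc_18_2 lc_b_rc_18_2 lc_b_rc_18_2 lc_b_rc_18_2 lc_b_rc_56_57 lc_b_rc_18_2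 lc_b_rc_13_2 lc_b_rc_18_2 lc_b_rc_18_2 lc_b_rc_12_2 lc_b_rc_11_2 lc_b_rc_13_0 lc_b_rc_12_2 lc_b_rc_18_2 lc_b_Cert_tree lc_b_rc_12_2 lc_b_rc_15_2 lc_b_rc_18_2 lc_b_rc_15_2 lc_b_rc_15_2 lc_b_rc_18_2 lc_b_rc_12_2 lc_b_rc_14_2 lc_b_rc_15_2 lc_b_rc_16_2 lc_b_rc_13_2 lc_b_rc_16_2 lc_b_rc_11_2) (@D3.rec (fun _ => (Cert rels S Gen.b)) lc_b_rc_11_2 lc_b_rc_13_2 lc_b_rc_15_2 lc_b_rc_11_2 lc_b_rc_11_2 lc_b_rc_11_2 lc_b_rc_11_2 lc_b_rc_11_2 lc_b_rc_12_2 lc_b_rc_11_2 lc_b_rc_13_2 lc_b_rc_12_2 lc_b_rc_13_2 lc_b_rc_13_2 lc_b_rc_13_2 lc_b_rc_14_2 lc_b_rc_1_3 lc_b_rc_11_2 lc_b_rc_11_2 lc_b_rc_11_2 lc_b_rc_11_2 lc_b_rc_11_2 lc_b_rc_11_2 lc_b_rc_11_2 lc_b_rc_11_2 lc_b_Cert_tree lc_b_rc_12_2 lc_b_rc_10_0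 lc_b_rc_18_2 lc_b_rc_14_2 lc_b_Cert_tree lc_b_rc_18_2 lc_b_Cert_tree lc_b_rc_18_2 lc_b_rc_10_0 lc_b_rc_18_2 lc_b_rc_14_2 lc_b_rc_1_3 lc_b_rc_18_2 lc_b_rc_14_2 lc_b_rc_11_2 lc_b_rc_13_2 lc_b_rc_14_2 lc_b_rc_11_2 lc_b_rc_11_2 lc_b_rc_11_2 lc_b_rc_15_2 lc_b_rc_13_2 lc_b_rc_14_2 lc_b_rc_12_2 lc_b_rc_15_2) (@D3.rec (fun _ => (Cert rels S Gen.b)) lc_b_rc_15_2 lc_b_rc_12_2 lc_b_rc_12_2 lc_b_rc_1_3 lc_b_rc_11_2 lc_b_rc_11_2 lc_b_rc_11_2 lc_b_rc_15_2 lc_b_rc_15_2 lc_b_rc_12_2 lc_b_rc_11_2 lc_b_rc_11_2 lc_b_rc_11_2 lc_b_rc_11_2 lc_b_rc_12_2 lc_b_rc_11_2 lc_b_rc_12_2 lc_b_rc_15_2 lc_b_rc_13_2 lc_b_rc_14_2 lc_b_rc_12_2 lc_b_rc_18_2 lc_b_rc_14_2 lc_b_rc_18_2 lc_b_rc_14_2 lc_b_rc_18_2 lc_b_rc_12_2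 lc_b_rc_11_4 lc_b_rc_13_2 lc_b_rc_16_2 lc_b_rc_15_2 lc_b_rc_12_2 lc_b_rc_18_2 lc_b_rc_11_2 lc_b_rc_13_2 lc_b_rc_13_2 lc_b_rc_18_2 lc_b_rc_12_2 lc_b_rc_12_2 lc_b_rc_1_3 lc_b_rc_1_3 lc_b_rc_12_2 lc_b_rc_14_2 lc_b_rc_11_2 lc_b_rc_11_2 lc_b_rc_11_2 lc_b_rc_12_2 lc_b_rc_11_2 lc_b_rc_11_2 lc_b_rc_13_2 lc_b_rc_12_2) (@D3.rec (fun _ => (Cert rels S Gen.b)) lc_b_rc_15_2 lc_b_rc_13_2 lc_b_rc_14_2 lc_b_rc_18_2 lc_b_rc_56_22 lc_b_rc_12_2 lc_b_rc_12_2 lc_b_rc_14_2 lc_b_rc_11_2 lc_b_rc_11_2 lc_b_rc_11_2 lc_b_rc_12_2 lc_b_rc_11_2 lc_b_rc_11_2 lc_b_rc_12_2 lc_b_rc_11_2 lc_b_rc_13_2 lc_b_rc_12_2 lc_b_rc_14_2 lc_b_rc_15_2 lc_b_rc_15_2 lc_b_rc_14_2 lc_b_rc_12_2 lc_b_rc_18_2 lc_b_Cert_tree lc_b_rc_12_2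 lc_b_rc_18_2 lc_b_rc_16_2 lc_b_rc_15_2 lc_b_rc_12_2 lc_b_rc_18_2 lc_b_rc_12_2 lc_b_rc_18_2 lc_b_Cert_tree lc_b_rc_12_2 lc_b_rc_10_0 lc_b_rc_18_2 lc_b_rc_14_2 lc_b_rc_12_2 lc_b_rc_13_2 lc_b_rc_13_2 lc_b_rc_17_2 lc_b_rc_16_2 lc_b_rc_12_2 lc_b_rc_18_2 lc_b_rc_11_2 lc_b_rc_12_2 lc_b_rc_12_2 lc_b_rc_15_2 lc_b_rc_13_2 lc_b_rc_13_2) (@D3.rec (fun _ => (Cert rels S Gen.b)) lc_b_rc_12_2 lc_b_rc_13_2 lc_b_rc_18_2 lc_b_rc_13_2 lc_b_rc_12_2 lc_b_rc_12_2 lc_b_rc_12_2 lc_b_rc_14_2 lc_b_rc_1_3 lc_b_rc_1_3 lc_b_rc_1_3 lc_b_rc_1_3 lc_b_rc_12_2 lc_b_rc_12_2 lc_b_rc_14_2 lc_b_rc_14_2 lc_b_rc_18_2 lc_b_rc_11_2 lc_b_rc_11_2 lc_b_rc_11_2 lc_b_rc_12_2 lc_b_rc_11_2 lc_b_Cert_tree lc_b_rc_13_2 lc_b_rc_12_2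 lc_b_rc_11_2 lc_b_rc_13_2 lc_b_rc_12_2 lc_b_rc_15_2 lc_b_rc_13_2 lc_b_rc_14_2 lc_b_rc_16_2 lc_b_rc_15_2 lc_b_rc_14_2 lc_b_rc_16_2 lc_b_rc_15_2 lc_b_rc_12_2 lc_b_rc_18_2 lc_b_rc_18_2 lc_b_rc_13_2 lc_b_rc_12_2 lc_b_rc_10_0 lc_b_rc_18_2 lc_b_rc_14_2 lc_b_rc_18_2 lc_b_rc_12_2 lc_b_rc_1_3 lc_b_rc_18_2 lc_b_rc_12_2 lc_b_rc_12_2 lc_b_rc_14_2) (@D3.rec (fun _ => (Cert rels S Gen.b)) lc_b_rc_14_2 lc_b_rc_18_2 lc_b_rc_11_2 lc_b_rc_11_2 lc_b_rc_11_2 lc_b_rc_12_2 lc_b_rc_11_2 lc_b_Cert_tree lc_b_rc_13_2 lc_b_rc_12_2 lc_b_rc_12_2 lc_b_rc_11_2 lc_b_rc_13_2 lc_b_rc_12_2 lc_b_rc_13_2 lc_b_rc_14_2 lc_b_rc_16_2 lc_b_rc_15_2 lc_b_rc_12_2 lc_b_rc_18_2 lc_b_rc_12_2 lc_b_rc_18_2 lc_b_Cert_tree lc_b_rc_12_2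 lc_b_rc_10_0 lc_b_rc_18_2 lc_b_rc_14_2 lc_b_rc_16_2 lc_b_rc_12_2 lc_b_rc_18_2 lc_b_Cert_tree lc_b_rc_13_2 lc_b_rc_12_2 lc_b_rc_12_2 lc_b_rc_12_2 lc_b_rc_10_0 lc_b_rc_18_2 lc_b_rc_14_2 lc_b_rc_1_3 lc_b_rc_18_2 lc_b_rc_14_2 lc_b_rc_12_2 lc_b_rc_14_2 lc_b_rc_15_2 lc_b_rc_13_2 lc_b_rc_13_2 lc_b_rc_12_2 lc_b_rc_13_2 lc_b_rc_17_2 lc_b_rc_12_2 lc_b_rc_18_2) (@D3.rec (fun _ => (Cert rels S Gen.b)) lc_b_rc_11_2 lc_b_rc_13_2 lc_b_rc_12_2 lc_b_rc_11_2 lc_b_rc_14_2 lc_b_rc_12_2 lc_b_rc_12_2 lc_b_rc_14_2 lc_b_rc_14_2 lc_b_rc_18_2 lc_b_rc_15_2 lc_b_rc_15_2 lc_b_rc_13_2 lc_b_rc_12_2 lc_b_rc_13_2 lc_b_rc_13_2 lc_b_rc_12_2 lc_b_rc_12_2 lc_b_rc_18_2 lc_b_rc_13_2 lc_b_rc_12_2 lc_b_rc_15_2 lc_b_rc_13_2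 lc_b_rc_14_2 lc_b_rc_12_2 lc_b_rc_56_29 lc_b_rc_1_1 lc_b_rc_1_3 lc_b_rc_1_3 lc_b_rc_1_3 lc_b_rc_1_3 lc_b_rc_1_3 lc_b_rc_12_0 lc_b_rc_1_3 lc_b_rc_12_0 lc_b_rc_1_3 lc_b_rc_13_2 lc_b_rc_12_2 lc_b_rc_14_2 lc_b_rc_14_2 lc_b_rc_14_2 lc_b_rc_18_2 lc_b_Cert_tree lc_b_rc_14_2 lc_b_rc_18_2 lc_b_rc_11_2 lc_b_rc_11_2 lc_b_rc_12_2 lc_b_rc_11_2 lc_b_rc_12_2 lc_b_rc_11_2) (@D3.rec (fun _ => (Cert rels S Gen.b)) lc_b_Cert_tree lc_b_rc_13_2 lc_b_rc_12_2 lc_b_rc_10_0 lc_b_rc_13_2 lc_b_rc_18_2 lc_b_rc_15_2 lc_b_rc_13_2 lc_b_rc_14_2 lc_b_rc_13_2 lc_b_rc_12_2 lc_b_rc_15_2 lc_b_rc_13_2 lc_b_rc_14_2 lc_b_rc_16_2 lc_b_rc_15_2 lc_b_rc_14_2 lc_b_rc_17_2 lc_b_rc_16_2 lc_b_rc_15_2 lc_b_rc_16_2 lc_b_rc_12_2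 lc_b_rc_18_2 lc_b_Cert_tree lc_b_rc_13_2 lc_b_rc_12_2 lc_b_Cert_tree lc_b_rc_12_2 lc_b_rc_10_0 lc_b_rc_18_2 lc_b_rc_14_2 lc_b_rc_12_0 lc_b_rc_18_2 lc_b_rc_14_2 lc_b_rc_18_2 lc_b_Cert_tree lc_b_rc_12_2 lc_b_rc_10_0 lc_b_rc_13_2 lc_b_rc_18_2 lc_b_rc_13_2 lc_b_rc_14_2 lc_b_rc_10_0 lc_b_rc_18_2 lc_b_rc_14_2 lc_b_rc_1_3 lc_b_rc_18_2 lc_b_rc_14_2 lc_b_rc_1_3 lc_b_rc_14_2 lc_b_rc_12_2) (@D3.rec (fun _ => (Cert rels S Gen.b)) lc_b_rc_14_2 lc_b_rc_17_0 lc_b_rc_13_2 lc_b_rc_18_2 lc_b_rc_13_2 lc_b_rc_12_2 lc_b_rc_12_2 lc_b_rc_11_4 lc_b_rc_11_2 lc_b_rc_13_2 lc_b_rc_11_4 lc_b_rc_12_2 lc_b_rc_18_2 lc_b_rc_14_2 lc_b_rc_18_2 lc_b_rc_14_2 lc_b_rc_17_0 lc_b_rc_18_2 lc_b_Cert_tree lc_b_rc_12_2 lc_b_rc_18_2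 lc_b_rc_13_2 lc_b_rc_16_2 lc_b_rc_15_2 lc_b_rc_18_2 lc_b_rc_56_22 lc_b_rc_13_2 lc_b_rc_13_2 lc_b_rc_17_2 lc_b_rc_16_2 lc_b_rc_12_2 lc_b_rc_18_2 lc_b_rc_12_2 lc_b_rc_1_3 lc_b_rc_1_3 lc_b_rc_1_3 lc_b_rc_12_2 lc_b_rc_1_3 lc_b_rc_1_3 lc_b_rc_1_3 lc_b_rc_12_2 lc_b_rc_14_2 lc_b_rc_11_2 lc_b_rc_11_2 lc_b_rc_11_2 lc_b_rc_12_2 lc_b_rc_11_2 lc_b_rc_11_2 lc_b_rc_12_2 lc_b_rc_11_2 lc_b_rc_13_2) (@D3.rec (fun _ => (Cert rels S Gen.b)) lc_b_rc_12_2 lc_b_rc_12_2 lc_b_rc_18_2 lc_b_rc_14_2 lc_b_rc_15_2 lc_b_rc_15_2 lc_b_rc_14_2 lc_b_rc_12_2 lc_b_rc_18_2 lc_b_Cert_tree lc_b_rc_12_2 lc_b_rc_18_2 lc_b_rc_16_2 lc_b_rc_15_2 lc_b_rc_18_2 lc_b_rc_12_2 lc_b_rc_18_2 lc_b_rc_12_2 lc_b_rc_10_0 lc_b_rc_18_2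 lc_b_rc_14_2 lc_b_rc_12_2 lc_b_rc_13_2 lc_b_rc_13_2 lc_b_rc_17_2 lc_b_rc_16_2 lc_b_rc_18_2 lc_b_rc_56_29 lc_b_rc_14_2 lc_b_rc_56_22 lc_b_rc_13_2 lc_b_rc_13_2 lc_b_rc_12_2 lc_b_rc_13_2 lc_b_rc_14_2 lc_b_rc_16_2 lc_b_rc_18_2 lc_b_rc_13_2 lc_b_rc_12_2 lc_b_rc_13_2 lc_b_rc_1_3 lc_b_rc_1_3 lc_b_rc_1_3 lc_b_rc_12_2 lc_b_rc_1_3 lc_b_Cert_tree lc_b_rc_12_2 lc_b_rc_1_3 lc_b_rc_12_2 lc_b_rc_12_2 lc_b_rc_14_2) (@D3.rec (fun _ => (Cert rels S Gen.b)) lc_b_rc_14_2 lc_b_rc_18_2 lc_b_rc_15_2 lc_b_rc_13_2 lc_b_rc_14_2 lc_b_rc_12_2 lc_b_rc_11_2 lc_b_Cert_tree lc_b_rc_13_2 lc_b_rc_12_2 lc_b_rc_18_2 lc_b_rc_16_2 lc_b_rc_18_2 lc_b_rc_15_2 lc_b_rc_13_2 lc_b_rc_14_2 lc_b_rc_16_2 lc_b_rc_15_2 lc_b_rc_14_2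 lc_b_rc_16_2 lc_b_rc_18_2 lc_b_rc_18_2 lc_b_rc_12_0 lc_b_rc_12_2 lc_b_rc_10_0 lc_b_rc_18_2 lc_b_rc_14_2 lc_b_rc_14_2 lc_b_rc_1_3 lc_b_rc_18_2 lc_b_rc_14_2 lc_b_rc_12_2 lc_b_rc_18_2 lc_b_rc_16_2 lc_b_rc_13_0 lc_b_rc_18_2 lc_b_rc_12_2 lc_b_rc_13_2 lc_b_rc_13_2 lc_b_rc_13_2 lc_b_rc_12_2 lc_b_rc_12_2 lc_b_rc_11_2 lc_b_rc_11_4 lc_b_rc_11_2 lc_b_rc_11_4 lc_b_rc_11_4 lc_b_rc_15_2 lc_b_rc_13_2 lc_b_rc_11_4 lc_b_rc_15_2) (@D3.rec (fun _ => (Cert rels S Gen.b)) lc_b_rc_12_2 lc_b_rc_18_2 lc_b_Cert_tree lc_b_rc_12_2 lc_b_rc_18_2 lc_b_rc_15_2 lc_b_rc_12_2 lc_b_rc_18_2 lc_b_rc_16_2 lc_b_rc_18_2 lc_b_Cert_tree lc_b_rc_12_2 lc_b_rc_10_0 lc_b_rc_18_2 lc_b_rc_14_2 lc_b_rc_12_2 lc_b_rc_13_2 lc_b_rc_13_2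 lc_b_rc_17_2 lc_b_rc_16_2 lc_b_rc_18_2 lc_b_rc_12_2 lc_b_rc_14_2 lc_b_rc_15_2 lc_b_rc_13_2 lc_b_rc_13_2 lc_b_rc_12_2 lc_b_rc_13_2 lc_b_rc_17_2 lc_b_rc_12_2 lc_b_rc_18_2 lc_b_rc_13_2 lc_b_rc_12_2 lc_b_rc_13_2 lc_b_rc_1_3 lc_b_rc_1_3 lc_b_rc_1_3 lc_b_rc_12_2 lc_b_rc_1_3 lc_b_Cert_tree lc_b_rc_12_2 lc_b_rc_1_3 lc_b_rc_12_2 lc_b_rc_12_2 lc_b_rc_14_2 lc_b_rc_14_2 lc_b_rc_18_2 lc_b_rc_11_2 lc_b_rc_11_2 lc_b_rc_11_2 lc_b_rc_12_2) (@D3.rec (fun _ => (Cert rels S Gen.b)) lc_b_rc_11_2 lc_b_Cert_tree lc_b_rc_13_2 lc_b_rc_12_2 lc_b_rc_12_2 lc_b_rc_11_2 lc_b_rc_13_2 lc_b_rc_12_2 lc_b_rc_13_2 lc_b_rc_13_2 lc_b_rc_14_2 lc_b_rc_12_2 lc_b_rc_12_2 lc_b_rc_13_2 lc_b_rc_16_2 lc_b_rc_15_2 lc_b_rc_12_2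 lc_b_rc_18_2 lc_b_rc_12_2 lc_b_rc_18_2 lc_b_Cert_tree lc_b_rc_12_2 lc_b_rc_10_0 lc_b_rc_18_2 lc_b_rc_14_2 lc_b_rc_16_2 lc_b_rc_12_2 lc_b_rc_18_2 lc_b_Cert_tree lc_b_rc_13_2 lc_b_rc_12_2 lc_b_Cert_tree lc_b_rc_12_2 lc_b_rc_10_0 lc_b_rc_18_2 lc_b_rc_14_2 lc_b_rc_1_3 lc_b_rc_18_2 lc_b_rc_14_2 lc_b_rc_11_2 lc_b_rc_12_2 lc_b_rc_14_2 lc_b_rc_15_2 lc_b_rc_13_2 lc_b_rc_13_2 lc_b_rc_12_2 lc_b_rc_13_2 lc_b_rc_17_2 lc_b_rc_18_2 lc_b_rc_12_2 lc_b_rc_12_2) (@D3.rec (fun _ => (Cert rels S Gen.b)) lc_b_rc_14_2 lc_b_rc_14_2 lc_b_rc_18_2 lc_b_rc_15_2 lc_b_rc_15_2 lc_b_rc_13_2 lc_b_rc_12_2 lc_b_rc_13_2 lc_b_Cert_tree lc_b_rc_12_2 lc_b_rc_12_2 lc_b_rc_12_2 lc_b_rc_18_2 lc_b_rc_13_2 lc_b_rc_12_2 lc_b_rc_13_2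 lc_b_rc_14_2 lc_b_rc_1_3 lc_b_rc_1_3 lc_b_rc_12_2 lc_b_rc_1_3 lc_b_rc_12_2 lc_b_rc_1_3 lc_b_Cert_tree lc_b_rc_12_2 lc_b_rc_10_0 lc_b_rc_18_2 lc_b_rc_14_2 lc_b_rc_56_29 lc_b_rc_12_2 lc_b_rc_14_2 lc_b_rc_14_2 lc_b_rc_14_2 lc_b_rc_18_2 lc_b_Cert_tree lc_b_rc_14_2 lc_b_rc_18_2 lc_b_rc_11_2 lc_b_rc_11_2 lc_b_rc_12_2 lc_b_rc_11_2 lc_b_rc_12_2 lc_b_rc_11_2 lc_b_Cert_tree lc_b_rc_13_2 lc_b_rc_12_2 lc_b_rc_10_0 lc_b_rc_13_2 lc_b_rc_18_2 lc_b_rc_15_2 lc_b_rc_13_2) (@D3.rec (fun _ => (Cert rels S Gen.b)) lc_b_rc_14_2 lc_b_rc_13_2 lc_b_rc_12_2 lc_b_rc_15_2 lc_b_rc_13_2 lc_b_rc_14_2 lc_b_rc_16_2 lc_b_rc_15_2 lc_b_rc_14_2 lc_b_rc_17_2 lc_b_rc_16_2 lc_b_rc_15_2 lc_b_rc_16_2 lc_b_rc_12_2 lc_b_rc_18_2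 lc_b_Cert_tree lc_b_rc_13_2 lc_b_rc_12_2 lc_b_rc_16_0 lc_b_rc_12_2 lc_b_rc_10_0 lc_b_rc_18_2 lc_b_rc_14_2 lc_b_rc_1_3 lc_b_rc_18_2 lc_b_rc_14_2 lc_b_rc_18_2 lc_b_rc_13_2 lc_b_rc_12_2 lc_b_rc_10_0 lc_b_rc_13_2 lc_b_rc_18_2 lc_b_rc_13_2 lc_b_rc_14_2 lc_b_rc_14_2 lc_b_rc_1_3 lc_b_rc_18_2 lc_b_rc_14_2 lc_b_rc_1_3 lc_b_rc_14_2 lc_b_rc_12_2 lc_b_rc_12_2 lc_b_rc_18_2 lc_b_rc_12_2 lc_b_rc_15_2 lc_b_rc_15_2 lc_b_rc_15_0 lc_b_rc_12_2 lc_b_rc_14_2 lc_b_rc_12_2 lc_b_rc_11_2)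
def ce_b_9 : D2 → D3 → (Cert rels S Gen.b) := @D2.rec (fun _ => D3 → (Cert rels S Gen.b)) (@D3.rec (fun _ => (Cert rels S Gen.b)) lc_b_rc_12_2 lc_b_rc_12_2 lc_b_rc_11_4 lc_b_rc_11_2 lc_b_rc_11_4 lc_b_rc_11_4 lc_b_rc_15_2 lc_b_rc_11_4 lc_b_rc_11_4 lc_b_rc_16_2 lc_b_rc_15_2 lc_b_rc_13_2 lc_b_rc_18_2 lc_b_rc_18_2 lc_b_rc_1_3 lc_b_rc_15_2 lc_b_rc_15_2 lc_b_rc_13_2 lc_b_rc_13_2 lc_b_rc_18_2 lc_b_rc_15_2 lc_b_rc_13_2 lc_b_rc_13_2 lc_b_rc_12_2 lc_b_rc_13_2 lc_b_rc_17_2 lc_b_rc_18_2 lc_b_rc_15_2 lc_b_rc_15_2 lc_b_rc_13_2 lc_b_rc_12_2 lc_b_rc_13_2 lc_b_rc_15_2 lc_b_rc_12_2 lc_b_rc_12_2 lc_b_rc_18_2 lc_b_rc_16_2 lc_b_rc_12_2 lc_b_rc_18_2 lc_b_rc_1_3 lc_b_rc_1_3 lc_b_rc_1_3 lc_b_rc_1_3 lc_b_rc_1_3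 lc_b_rc_13_2 lc_b_rc_12_2 lc_b_rc_14_2 lc_b_rc_14_2 lc_b_rc_14_2 lc_b_rc_18_2 lc_b_rc_14_2) (@D3.rec (fun _ => (Cert rels S Gen.b)) lc_b_rc_18_2 lc_b_rc_11_2 lc_b_rc_11_2 lc_b_rc_12_2 lc_b_rc_11_2 lc_b_rc_12_2 lc_b_rc_11_2 lc_b_Cert_tree lc_b_rc_13_2 lc_b_rc_12_2 lc_b_rc_10_0 lc_b_rc_17_0 lc_b_rc_18_2 lc_b_rc_12_2 lc_b_rc_13_2 lc_b_rc_14_2 lc_b_rc_13_2 lc_b_rc_12_2 lc_b_rc_15_2 lc_b_rc_13_2 lc_b_rc_14_2 lc_b_rc_16_2 lc_b_rc_18_2 lc_b_rc_14_2 lc_b_rc_17_2 lc_b_rc_18_2 lc_b_rc_1_1 lc_b_rc_16_2 lc_b_rc_12_2 lc_b_rc_18_2 lc_b_Cert_tree lc_b_rc_13_2 lc_b_rc_12_2 lc_b_rc_56_8 lc_b_rc_12_2 lc_b_rc_10_0 lc_b_rc_18_2 lc_b_rc_18_2 lc_b_rc_12_2 lc_b_rc_18_2 lc_b_rc_56_15 lc_b_rc_13_2 lc_b_rc_12_2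 lc_b_rc_10_0 lc_b_rc_11_4 lc_b_rc_18_2 lc_b_rc_13_2 lc_b_rc_12_2 lc_b_rc_11_4 lc_b_rc_12_2 lc_b_rc_18_2) (@D3.rec (fun _ => (Cert rels S Gen.b)) lc_b_rc_14_2 lc_b_rc_1_3 lc_b_rc_14_2 lc_b_rc_18_2 lc_b_rc_12_2 lc_b_rc_12_2 lc_b_rc_14_2 lc_b_rc_14_2 lc_b_rc_18_2 lc_b_rc_15_2 lc_b_rc_15_2 lc_b_rc_13_2 lc_b_rc_12_2 lc_b_rc_13_2 lc_b_rc_11_4 lc_b_rc_12_2 lc_b_rc_18_2 lc_b_rc_13_2 lc_b_rc_12_2 lc_b_rc_14_2 lc_b_rc_14_2 lc_b_rc_14_2 lc_b_rc_18_2 lc_b_rc_1_3 lc_b_rc_18_2 lc_b_rc_16_2 lc_b_rc_15_2 lc_b_rc_12_2 lc_b_rc_15_2 lc_b_rc_12_2 lc_b_rc_13_2 lc_b_Cert_tree lc_b_rc_16_2 lc_b_rc_12_2 lc_b_rc_10_0 lc_b_rc_13_2 lc_b_rc_18_2 lc_b_rc_15_2 lc_b_rc_14_2 lc_b_rc_17_2 lc_b_rc_18_2 lc_b_rc_12_0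 lc_b_rc_18_2 lc_b_rc_14_2 lc_b_rc_1_3 lc_b_rc_1_3 lc_b_rc_12_2 lc_b_rc_1_3 lc_b_Cert_tree lc_b_rc_13_2 lc_b_rc_12_2) (@D3.rec (fun _ => (Cert rels S Gen.b)) lc_b_rc_12_0 lc_b_rc_12_2 lc_b_rc_10_0 lc_b_rc_18_2 lc_b_rc_1_3 lc_b_rc_18_2 lc_b_rc_13_2 lc_b_rc_14_2 lc_b_rc_12_2 lc_b_rc_14_2 lc_b_rc_14_2 lc_b_rc_18_2 lc_b_rc_14_2 lc_b_rc_18_2 lc_b_Cert_tree lc_b_rc_14_2 lc_b_rc_18_2 lc_b_rc_10_0 lc_b_rc_15_0 lc_b_rc_18_2 lc_b_rc_15_2 lc_b_rc_18_2 lc_b_rc_18_2 lc_b_rc_11_2 lc_b_rc_12_2 lc_b_rc_11_2 lc_b_Cert_tree lc_b_rc_13_2 lc_b_rc_12_2 lc_b_Cert_tree lc_b_rc_13_2 lc_b_rc_12_2 lc_b_rc_10_0 lc_b_rc_13_2 lc_b_rc_18_2 lc_b_rc_15_2 lc_b_rc_13_2 lc_b_rc_14_2 lc_b_rc_11_2 lc_b_rc_13_2 lc_b_rc_18_2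 lc_b_rc_15_2 lc_b_rc_18_2 lc_b_rc_14_2 lc_b_rc_16_2 lc_b_rc_15_2 lc_b_rc_14_2 lc_b_rc_15_2 lc_b_rc_13_2 lc_b_rc_14_2 lc_b_rc_16_2) (@D3.rec (fun _ => (Cert rels S Gen.b)) lc_b_rc_15_2 lc_b_rc_14_2 lc_b_rc_17_2 lc_b_rc_16_2 lc_b_rc_15_2 lc_b_rc_12_2 lc_b_rc_17_2 lc_b_rc_16_2 lc_b_rc_12_2 lc_b_rc_18_2 lc_b_Cert_tree lc_b_rc_13_2 lc_b_rc_12_2 lc_b_rc_10_0 lc_b_rc_13_2 lc_b_rc_18_2 lc_b_rc_13_2 lc_b_rc_14_2 lc_b_rc_10_0 lc_b_rc_18_2 lc_b_rc_14_2 lc_b_rc_1_3 lc_b_rc_18_2 lc_b_rc_14_2 lc_b_rc_1_3 lc_b_rc_14_2 lc_b_rc_12_2 lc_b_Cert_tree lc_b_rc_13_2 lc_b_rc_12_2 lc_b_rc_10_0 lc_b_rc_13_2 lc_b_rc_18_2 lc_b_rc_13_2 lc_b_rc_14_2 lc_b_rc_1_3 lc_b_rc_13_2 lc_b_rc_18_2 lc_b_rc_12_2 lc_b_rc_18_2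 lc_b_rc_14_2 lc_b_rc_14_2 lc_b_rc_1_3 lc_b_rc_18_2 lc_b_rc_14_2 lc_b_rc_1_3 lc_b_rc_14_2 lc_b_rc_12_2 lc_b_rc_1_3 lc_b_rc_12_2 lc_b_rc_13_2) (@D3.rec (fun _ => (Cert rels S Gen.b)) lc_b_rc_13_2 lc_b_rc_14_2 lc_b_rc_12_2 lc_b_rc_14_2 lc_b_rc_18_2 lc_b_rc_18_2 lc_b_rc_12_2 lc_b_rc_1_1 lc_b_rc_13_2 lc_b_rc_10_0 lc_b_rc_56_15 lc_b_rc_14_2 lc_b_rc_16_2 lc_b_rc_56_22 lc_b_rc_18_0 lc_b_rc_18_2 lc_b_rc_1_3 lc_b_rc_14_2 lc_b_rc_14_2 lc_b_rc_12_2 lc_b_rc_15_2 lc_b_rc_13_2 lc_b_rc_10_0 lc_b_rc_13_2 lc_b_rc_1_3 lc_b_rc_13_2 lc_b_rc_14_2 lc_b_rc_12_2 lc_b_rc_18_2 lc_b_rc_14_2 lc_b_rc_14_2 lc_b_rc_18_2 lc_b_Cert_tree lc_b_rc_14_2 lc_b_rc_18_2 lc_b_Cert_tree lc_b_rc_18_2 lc_b_rc_10_0 lc_b_rc_18_2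 lc_b_rc_12_0 lc_b_rc_18_2 lc_b_rc_12_2 lc_b_Cert_tree lc_b_rc_10_0 lc_b_rc_13_2 lc_b_rc_10_0 lc_b_rc_14_0 lc_b_Cert_tree lc_b_rc_13_2 lc_b_rc_12_2 lc_b_rc_10_0) (@D3.rec (fun _ => (Cert rels S Gen.b)) lc_b_rc_12_0 lc_b_rc_16_0 lc_b_rc_56_15 lc_b_rc_14_2 lc_b_rc_1_3 lc_b_rc_13_2 lc_b_rc_18_2 lc_b_rc_16_2 lc_b_rc_12_0 lc_b_rc_14_2 lc_b_rc_14_2 lc_b_rc_14_0 lc_b_rc_18_2 lc_b_rc_14_2 lc_b_rc_14_0 lc_b_rc_14_2 lc_b_rc_12_2 lc_b_rc_12_0 lc_b_rc_12_2 lc_b_rc_18_0 lc_b_rc_1_3 lc_b_rc_1_3 lc_b_rc_14_2 lc_b_rc_12_2 lc_b_rc_12_2 lc_b_rc_1_3 lc_b_rc_14_2 lc_b_rc_12_2 lc_b_rc_1_3 lc_b_rc_12_2 lc_b_rc_13_2 lc_b_rc_11_2 lc_b_rc_11_2 lc_b_rc_12_2 lc_b_rc_16_2 lc_b_rc_15_2 lc_b_rc_12_2 lc_b_rc_12_2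 lc_b_rc_12_2 lc_b_rc_14_2 lc_b_rc_10_0 lc_b_rc_14_2 lc_b_rc_12_2 lc_b_rc_11_2 lc_b_rc_11_2 lc_b_rc_13_2 lc_b_rc_18_2 lc_b_rc_12_2 lc_b_rc_13_2 lc_b_rc_12_0 lc_b_rc_13_2) (@D3.rec (fun _ => (Cert rels S Gen.b)) lc_b_rc_1_1 lc_b_rc_1_3 lc_b_rc_1_3 lc_b_rc_1_3 lc_b_rc_1_3 lc_b_rc_1_3 lc_b_rc_14_2 lc_b_rc_18_2 lc_b_rc_11_2 lc_b_rc_12_2 lc_b_rc_11_2 lc_b_Cert_tree lc_b_rc_13_2 lc_b_rc_12_2 lc_b_rc_15_2 lc_b_rc_13_2 lc_b_rc_16_2 lc_b_rc_15_2 lc_b_rc_18_2 lc_b_rc_12_2 lc_b_rc_56_29 lc_b_rc_12_2 lc_b_rc_10_0 lc_b_rc_18_2 lc_b_rc_1_3 lc_b_rc_18_2 lc_b_rc_12_2 lc_b_rc_14_2 lc_b_rc_14_2 lc_b_rc_18_2 lc_b_rc_11_2 lc_b_rc_11_2 lc_b_rc_12_2 lc_b_rc_11_2 lc_b_rc_56_36 lc_b_rc_12_2 lc_b_rc_11_2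 lc_b_rc_18_2 lc_b_rc_18_2 lc_b_rc_14_2 lc_b_rc_15_2 lc_b_rc_13_2 lc_b_rc_12_2 lc_b_rc_13_2 lc_b_rc_18_2 lc_b_rc_15_2 lc_b_rc_12_2 lc_b_rc_13_2 lc_b_rc_12_2 lc_b_rc_12_2 lc_b_rc_12_0) (@D3.rec (fun _ => (Cert rels S Gen.b)) lc_b_rc_13_2 lc_b_rc_1_1 lc_b_rc_13_2 lc_b_rc_1_3 lc_b_rc_1_3 lc_b_rc_1_3 lc_b_rc_1_3 lc_b_rc_1_3 lc_b_rc_1_3 lc_b_rc_1_3 lc_b_rc_1_3 lc_b_rc_14_2 lc_b_rc_14_2 lc_b_rc_18_2 lc_b_rc_14_2 lc_b_rc_18_2 lc_b_rc_11_2 lc_b_rc_11_2 lc_b_rc_12_2 lc_b_rc_11_2 lc_b_rc_12_2 lc_b_rc_11_2 lc_b_Cert_tree lc_b_rc_13_2 lc_b_rc_12_2 lc_b_rc_10_0 lc_b_rc_13_2 lc_b_rc_18_2 lc_b_rc_15_2 lc_b_rc_13_2 lc_b_rc_14_2 lc_b_rc_15_2 lc_b_rc_13_2 lc_b_rc_16_2 lc_b_rc_15_2 lc_b_rc_17_2 lc_b_rc_16_2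 lc_b_rc_16_2 lc_b_rc_12_2 lc_b_rc_18_2 lc_b_Cert_tree lc_b_rc_13_2 lc_b_rc_12_2 lc_b_Cert_tree lc_b_rc_12_2 lc_b_rc_10_0 lc_b_rc_18_2 lc_b_rc_14_2 lc_b_rc_18_2 lc_b_rc_14_2 lc_b_rc_18_2) (@D3.rec (fun _ => (Cert rels S Gen.b)) lc_b_rc_12_2 lc_b_rc_10_0 lc_b_rc_18_2 lc_b_rc_13_2 lc_b_rc_10_0 lc_b_rc_18_2 lc_b_rc_1_3 lc_b_rc_18_2 lc_b_rc_14_2 lc_b_rc_1_3 lc_b_rc_14_2 lc_b_rc_12_2 lc_b_rc_10_0 lc_b_rc_18_2 lc_b_rc_16_2 lc_b_rc_1_3 lc_b_rc_18_2 lc_b_rc_14_2 lc_b_rc_13_2 lc_b_rc_12_2 lc_b_rc_14_2 lc_b_rc_14_2 lc_b_rc_14_2 lc_b_rc_18_2 lc_b_rc_18_2 lc_b_rc_11_2 lc_b_rc_11_2 lc_b_rc_12_2 lc_b_rc_11_2 lc_b_rc_12_2 lc_b_rc_11_2 lc_b_Cert_tree lc_b_rc_12_2 lc_b_rc_10_0 lc_b_rc_18_2 lc_b_rc_14_2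 lc_b_rc_18_2 lc_b_Cert_tree lc_b_rc_12_2 lc_b_Cert_tree lc_b_rc_12_2 lc_b_rc_10_0 lc_b_rc_18_2 lc_b_rc_14_2 lc_b_rc_1_3 lc_b_rc_18_2 lc_b_rc_14_2 lc_b_rc_10_0 lc_b_rc_18_2 lc_b_rc_14_2 lc_b_rc_10_0) (@D3.rec (fun _ => (Cert rels S Gen.b)) lc_b_rc_18_2 lc_b_rc_14_2 lc_b_rc_1_3 lc_b_rc_18_2 lc_b_rc_14_2 lc_b_rc_1_3 lc_b_rc_14_2 lc_b_rc_12_2 lc_b_rc_12_2 lc_b_rc_14_2 lc_b_rc_18_2 lc_b_rc_15_2 lc_b_rc_15_2 lc_b_rc_13_2 lc_b_rc_12_2 lc_b_rc_13_2 lc_b_rc_12_2 lc_b_rc_18_2 lc_b_rc_14_2 lc_b_rc_1_3 lc_b_rc_1_3 lc_b_rc_18_2 lc_b_rc_18_0 lc_b_rc_18_2 lc_b_rc_1_3 lc_b_rc_15_2 lc_b_rc_12_2 lc_b_rc_15_2 lc_b_rc_12_2 lc_b_rc_13_2 lc_b_Cert_tree lc_b_rc_18_0 lc_b_rc_12_2 lc_b_rc_10_0 lc_b_rc_18_0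 lc_b_rc_18_2 lc_b_rc_13_2 lc_b_rc_14_2 lc_b_rc_17_2 lc_b_rc_16_0 lc_b_rc_18_0 lc_b_rc_16_2 lc_b_rc_1_3 lc_b_rc_1_3 lc_b_rc_1_3 lc_b_Cert_tree lc_b_rc_1_3 lc_b_rc_1_3 lc_b_Cert_tree lc_b_rc_1_3 lc_b_rc_10_0) (@D3.rec (fun _ => (Cert rels S Gen.b)) lc_b_rc_18_2 lc_b_rc_1_3 lc_b_rc_1_3 lc_b_rc_18_2 lc_b_rc_14_2 lc_b_rc_14_2 lc_b_rc_12_2 lc_b_rc_14_2 lc_b_rc_14_2 lc_b_rc_18_2 lc_b_rc_14_2 lc_b_rc_18_2 lc_b_Cert_tree lc_b_rc_14_2 lc_b_rc_18_2 lc_b_rc_10_0 lc_b_rc_13_2 lc_b_rc_18_2 lc_b_rc_15_2 lc_b_rc_18_2 lc_b_rc_18_2 lc_b_rc_11_2 lc_b_rc_12_2 lc_b_rc_11_2 lc_b_Cert_tree lc_b_rc_13_2 lc_b_rc_12_2 lc_b_Cert_tree lc_b_rc_13_2 lc_b_rc_12_2 lc_b_rc_10_0 lc_b_rc_13_2 lc_b_rc_18_2 lc_b_rc_15_2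 lc_b_rc_13_2 lc_b_rc_14_2 lc_b_rc_1_3 lc_b_rc_13_2 lc_b_rc_18_2 lc_b_rc_15_2 lc_b_rc_18_2 lc_b_rc_14_2 lc_b_rc_16_2 lc_b_rc_15_2 lc_b_rc_14_2 lc_b_rc_15_2 lc_b_rc_13_2 lc_b_rc_16_2 lc_b_rc_15_2 lc_b_rc_17_2 lc_b_rc_16_2) (@D3.rec (fun _ => (Cert rels S Gen.b)) lc_b_rc_17_2 lc_b_rc_12_2 lc_b_rc_18_2 lc_b_Cert_tree lc_b_rc_13_2 lc_b_rc_12_2 lc_b_rc_10_0 lc_b_rc_13_2 lc_b_rc_18_2 lc_b_rc_13_2 lc_b_rc_14_2 lc_b_rc_10_0 lc_b_rc_18_2 lc_b_rc_14_2 lc_b_rc_1_3 lc_b_rc_18_2 lc_b_rc_14_2 lc_b_rc_1_3 lc_b_rc_14_2 lc_b_rc_12_2 lc_b_rc_12_2 lc_b_rc_10_0 lc_b_rc_18_0 lc_b_rc_18_2 lc_b_rc_13_2 lc_b_rc_14_2 lc_b_rc_1_3 lc_b_rc_13_2 lc_b_rc_18_2 lc_b_rc_12_2 lc_b_rc_18_2 lc_b_rc_14_2 lc_b_rc_14_2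 lc_b_rc_1_3 lc_b_rc_18_2 lc_b_rc_14_2 lc_b_rc_1_3 lc_b_rc_14_2 lc_b_rc_12_2 lc_b_rc_1_3 lc_b_rc_12_2 lc_b_rc_13_2 lc_b_rc_12_0 lc_b_rc_14_2 lc_b_rc_12_2 lc_b_rc_13_2 lc_b_rc_18_2 lc_b_rc_1_3 lc_b_Cert_tree lc_b_rc_12_2 lc_b_rc_1_3) (@D3.rec (fun _ => (Cert rels S Gen.b)) lc_b_rc_14_2 lc_b_rc_18_2 lc_b_rc_55_56 lc_b_rc_1_1 lc_b_rc_1_5 lc_b_rc_12_2 lc_b_rc_12_2 lc_b_rc_18_2 lc_b_rc_10_0 lc_b_rc_13_2 lc_b_rc_15_2 lc_b_rc_14_2 lc_b_rc_1_3 lc_b_rc_18_2 lc_b_rc_12_0 lc_b_rc_55_56 lc_b_rc_1_3 lc_b_rc_13_2 lc_b_rc_12_2 lc_b_rc_12_2 lc_b_rc_10_0 lc_b_rc_1_3 lc_b_rc_1_3 lc_b_rc_12_2 lc_b_rc_1_3 lc_b_rc_1_3 lc_b_rc_12_2 lc_b_rc_18_2 lc_b_rc_14_2 lc_b_Cert_tree lc_b_rc_18_2 lc_b_rc_16_2 lc_b_rc_56_22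 lc_b_rc_12_2 lc_b_rc_11_2 lc_b_rc_56_36 lc_b_Cert_tree lc_b_rc_12_2 lc_b_rc_10_0 lc_b_rc_13_2 lc_b_rc_18_2 lc_b_rc_15_2 lc_b_rc_13_2 lc_b_rc_14_2 lc_b_rc_14_2 lc_b_rc_15_2 lc_b_rc_17_2 lc_b_rc_16_2 lc_b_rc_16_2 lc_b_rc_12_2 lc_b_rc_15_2) (@D3.rec (fun _ => (Cert rels S Gen.b)) lc_b_rc_13_2 lc_b_rc_12_2 lc_b_rc_12_2 lc_b_rc_10_0 lc_b_rc_18_2 lc_b_rc_14_2 lc_b_rc_16_2 lc_b_rc_18_2 lc_b_rc_14_2 lc_b_rc_13_2 lc_b_rc_13_2 lc_b_rc_14_2 lc_b_rc_10_0 lc_b_rc_18_2 lc_b_rc_1_3 lc_b_rc_18_2 lc_b_rc_14_2 lc_b_rc_1_3 lc_b_rc_14_2 lc_b_rc_15_2 lc_b_rc_15_2 lc_b_rc_13_2 lc_b_rc_15_0 lc_b_rc_1_3 lc_b_rc_15_2 lc_b_rc_13_2 lc_b_rc_13_2 lc_b_rc_12_2 lc_b_rc_13_2 lc_b_rc_11_4 lc_b_rc_12_2 lc_b_rc_18_2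 lc_b_rc_1_3 lc_b_rc_1_3 lc_b_rc_12_2 lc_b_rc_1_3 lc_b_rc_1_3 lc_b_Cert_tree lc_b_rc_12_2 lc_b_rc_10_0 lc_b_rc_18_2 lc_b_rc_14_2 lc_b_rc_14_2 lc_b_rc_14_2 lc_b_rc_18_2 lc_b_Cert_tree lc_b_rc_12_2 lc_b_rc_18_2 lc_b_rc_14_0 lc_b_rc_14_2 lc_b_rc_12_2) (@D3.rec (fun _ => (Cert rels S Gen.b)) lc_b_rc_11_2 lc_b_rc_14_0 lc_b_rc_13_2 lc_b_rc_16_2 lc_b_rc_12_2 lc_b_rc_12_2 lc_b_rc_10_0 lc_b_rc_13_2 lc_b_rc_18_2 lc_b_rc_12_2 lc_b_rc_14_2 lc_b_rc_10_0 lc_b_rc_13_0 lc_b_rc_13_2 lc_b_rc_18_2 lc_b_rc_16_2 lc_b_rc_13_2 lc_b_rc_12_2 lc_b_rc_16_2 lc_b_rc_14_2 lc_b_rc_1_3 lc_b_rc_18_2 lc_b_rc_14_2 lc_b_rc_13_2 lc_b_rc_14_2 lc_b_rc_1_3 lc_b_rc_14_2 lc_b_rc_12_2 lc_b_rc_18_2 lc_b_rc_10_0 lc_b_rc_15_2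 lc_b_rc_14_2 lc_b_rc_13_2 lc_b_Cert_tree lc_b_rc_12_2 lc_b_rc_16_2 lc_b_rc_15_2 lc_b_rc_12_2 lc_b_rc_13_2 lc_b_rc_14_2 lc_b_rc_13_2 lc_b_rc_13_2 lc_b_rc_12_2 lc_b_rc_10_0 lc_b_rc_18_2 lc_b_rc_13_2 lc_b_rc_1_3 lc_b_rc_12_2 lc_b_rc_1_3 lc_b_rc_13_2 lc_b_rc_13_2) (@D3.rec (fun _ => (Cert rels S Gen.b)) lc_b_rc_12_2 lc_b_rc_12_2 lc_b_rc_13_2 lc_b_rc_14_2 lc_b_rc_1_3 lc_b_rc_18_2 lc_b_rc_14_2 lc_b_rc_14_0 lc_b_rc_14_2 lc_b_rc_18_2 lc_b_Cert_tree lc_b_rc_18_2 lc_b_rc_10_0 lc_b_rc_13_2 lc_b_rc_18_2 lc_b_rc_15_2 lc_b_rc_18_2 lc_b_rc_18_2 lc_b_rc_11_2 lc_b_rc_12_2 lc_b_rc_11_2 lc_b_Cert_tree lc_b_rc_13_2 lc_b_rc_12_2 lc_b_Cert_tree lc_b_rc_12_2 lc_b_rc_10_0 lc_b_rc_13_2 lc_b_rc_18_2 lc_b_rc_15_2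 lc_b_rc_13_2 lc_b_rc_14_2 lc_b_rc_1_3 lc_b_rc_13_2 lc_b_rc_18_2 lc_b_rc_15_2 lc_b_rc_18_2 lc_b_rc_14_2 lc_b_rc_16_2 lc_b_rc_15_2 lc_b_rc_14_2 lc_b_rc_16_2 lc_b_rc_15_2 lc_b_rc_17_2 lc_b_rc_16_2 lc_b_rc_17_2 lc_b_rc_12_2 lc_b_rc_18_2 lc_b_Cert_tree lc_b_rc_13_2 lc_b_rc_12_2) (@D3.rec (fun _ => (Cert rels S Gen.b)) lc_b_rc_10_0 lc_b_rc_13_2 lc_b_rc_18_2 lc_b_rc_13_2 lc_b_rc_14_2 lc_b_rc_10_0 lc_b_rc_18_2 lc_b_rc_14_2 lc_b_rc_13_2 lc_b_rc_18_2 lc_b_rc_14_2 lc_b_rc_1_3 lc_b_rc_14_2 lc_b_rc_12_2 lc_b_rc_12_2 lc_b_rc_10_0 lc_b_rc_13_2 lc_b_rc_18_2 lc_b_rc_13_2 lc_b_rc_14_2 lc_b_rc_1_3 lc_b_rc_13_2 lc_b_rc_18_2 lc_b_rc_12_2 lc_b_rc_18_2 lc_b_rc_14_2 lc_b_rc_14_2 lc_b_rc_1_3 lc_b_rc_18_2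 lc_b_rc_14_2 lc_b_rc_1_3 lc_b_rc_14_2 lc_b_rc_12_2 lc_b_rc_1_3 lc_b_rc_12_2 lc_b_rc_13_2 lc_b_rc_56_36 lc_b_rc_18_0 lc_b_rc_18_0 lc_b_rc_16_2 lc_b_rc_18_0 lc_b_rc_16_2 lc_b_rc_14_0 lc_b_rc_13_2 lc_b_rc_1_3 lc_b_rc_1_3 lc_b_rc_14_2 lc_b_rc_12_2 lc_b_rc_14_2 lc_b_rc_14_2 lc_b_rc_18_2) (@D3.rec (fun _ => (Cert rels S Gen.b)) lc_b_rc_14_2 lc_b_rc_18_2 lc_b_rc_18_0 lc_b_rc_18_2 lc_b_rc_14_0 lc_b_rc_18_2 lc_b_rc_11_2 lc_b_rc_12_2 lc_b_rc_11_2 lc_b_Cert_tree lc_b_rc_13_2 lc_b_rc_12_2 lc_b_Cert_tree lc_b_rc_18_0 lc_b_rc_12_2 lc_b_rc_10_0 lc_b_rc_13_2 lc_b_rc_18_2 lc_b_rc_18_0 lc_b_rc_14_0 lc_b_rc_14_2 lc_b_rc_13_2 lc_b_rc_18_2 lc_b_rc_18_2 lc_b_rc_14_2 lc_b_rc_13_2 lc_b_rc_18_0 lc_b_rc_16_0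 lc_b_rc_16_0 lc_b_rc_12_2 lc_b_rc_18_2 lc_b_Cert_tree lc_b_rc_13_2 lc_b_rc_12_2 lc_b_rc_10_0 lc_b_rc_13_2 lc_b_rc_18_2 lc_b_rc_13_2 lc_b_rc_10_0 lc_b_rc_18_2 lc_b_rc_16_2 lc_b_rc_18_2 lc_b_rc_18_2 lc_b_rc_12_2 lc_b_rc_10_0 lc_b_rc_18_2 lc_b_rc_13_2 lc_b_rc_14_2 lc_b_rc_1_3 lc_b_rc_13_2 lc_b_rc_18_2) (@D3.rec (fun _ => (Cert rels S Gen.b)) lc_b_rc_18_2 lc_b_rc_14_2 lc_b_rc_14_2 lc_b_rc_1_3 lc_b_rc_18_2 lc_b_rc_14_2 lc_b_rc_1_3 lc_b_rc_14_2 lc_b_rc_12_2 lc_b_rc_1_3 lc_b_rc_12_2 lc_b_rc_11_2 lc_b_rc_14_2 lc_b_rc_14_2 lc_b_rc_18_2 lc_b_rc_16_2 lc_b_rc_1_3 lc_b_rc_12_2 lc_b_rc_56_15 lc_b_rc_18_0 lc_b_rc_18_2 lc_b_rc_18_0 lc_b_rc_18_2 lc_b_rc_14_0 lc_b_rc_13_2 lc_b_rc_10_1 lc_b_rc_18_0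 lc_b_rc_17_2 lc_b_Cert_tree lc_b_rc_13_2 lc_b_rc_15_2 lc_b_Cert_tree lc_b_rc_14_0 lc_b_rc_10_0 lc_b_rc_18_2 lc_b_rc_13_2 lc_b_rc_1_3 lc_b_rc_18_2 lc_b_rc_14_2 lc_b_rc_12_2 lc_b_rc_1_3 lc_b_Cert_tree lc_b_rc_13_2 lc_b_rc_12_2 lc_b_rc_10_0 lc_b_rc_13_2 lc_b_rc_18_2 lc_b_rc_13_2 lc_b_rc_10_0 lc_b_rc_18_2 lc_b_rc_1_3) (@D3.rec (fun _ => (Cert rels S Gen.b)) lc_b_rc_18_2 lc_b_rc_1_3 lc_b_rc_13_2 lc_b_rc_1_3 lc_b_rc_12_2 lc_b_rc_18_2 lc_b_rc_14_2 lc_b_rc_14_2 lc_b_rc_18_2 lc_b_Cert_tree lc_b_rc_14_2 lc_b_rc_18_2 lc_b_Cert_tree lc_b_rc_11_0 lc_b_rc_18_2 lc_b_rc_10_0 lc_b_rc_13_2 lc_b_rc_18_2 lc_b_rc_15_2 lc_b_rc_18_2 lc_b_rc_18_2 lc_b_rc_11_2 lc_b_rc_13_2 lc_b_rc_18_2 lc_b_rc_13_2 lc_b_rc_18_2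 lc_b_rc_14_2 lc_b_rc_16_2 lc_b_rc_18_2 lc_b_rc_18_2 lc_b_rc_12_2 lc_b_rc_11_2 lc_b_Cert_tree lc_b_rc_13_2 lc_b_rc_12_2 lc_b_rc_10_0 lc_b_rc_13_2 lc_b_rc_18_2 lc_b_rc_15_2 lc_b_rc_13_2 lc_b_rc_14_2 lc_b_rc_10_0 lc_b_rc_13_2 lc_b_rc_18_2 lc_b_rc_15_2 lc_b_rc_13_2 lc_b_rc_14_2 lc_b_rc_1_3 lc_b_rc_13_2 lc_b_rc_18_2 lc_b_rc_15_2) (@D3.rec (fun _ => (Cert rels S Gen.b)) lc_b_rc_18_2 lc_b_rc_14_2 lc_b_rc_16_2 lc_b_rc_15_2 lc_b_rc_14_2 lc_b_rc_1_3 lc_b_rc_1_3 lc_b_rc_15_2 lc_b_rc_18_2 lc_b_rc_14_2 lc_b_rc_16_2 lc_b_rc_18_2 lc_b_rc_14_2 lc_b_rc_12_2 lc_b_rc_17_2 lc_b_rc_16_2 lc_b_rc_15_2 lc_b_rc_13_2 lc_b_rc_15_2 lc_b_rc_17_2 lc_b_rc_16_2 lc_b_rc_17_2 lc_b_rc_14_2 lc_b_rc_12_2 lc_b_rc_10_0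 lc_b_rc_13_2 lc_b_rc_18_2 lc_b_rc_13_2 lc_b_rc_14_2 lc_b_rc_1_3 lc_b_rc_13_2 lc_b_rc_18_2 lc_b_rc_12_2 lc_b_rc_12_0 lc_b_rc_13_2 lc_b_rc_1_1 lc_b_rc_1_3 lc_b_rc_18_2 lc_b_rc_12_0 lc_b_rc_1_3 lc_b_rc_14_2 lc_b_rc_12_2 lc_b_rc_12_2 lc_b_rc_12_2 lc_b_rc_13_2 lc_b_rc_1_3 lc_b_rc_1_3 lc_b_rc_1_3 lc_b_rc_12_2 lc_b_rc_13_2 lc_b_rc_14_2) (@D3.rec (fun _ => (Cert rels S Gen.b)) lc_b_rc_12_2 lc_b_rc_18_2 lc_b_rc_14_2 lc_b_rc_18_2 lc_b_rc_56_57 lc_b_rc_13_2 lc_b_rc_10_0 lc_b_rc_12_2 lc_b_rc_17_2 lc_b_rc_14_2 lc_b_rc_1_3 lc_b_rc_14_2 lc_b_rc_1_3 lc_b_rc_12_2 lc_b_rc_55_29 lc_b_rc_13_2 lc_b_rc_14_2 lc_b_rc_17_2 lc_b_rc_10_0 lc_b_rc_12_2 lc_b_rc_1_3 lc_b_rc_13_2 lc_b_rc_15_2 lc_b_rc_1_3 lc_b_rc_12_2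 lc_b_rc_18_2 lc_b_Cert_tree lc_b_rc_12_2 lc_b_rc_12_2 lc_b_rc_14_2 lc_b_rc_18_2 lc_b_Cert_tree lc_b_rc_14_2 lc_b_rc_18_2 lc_b_rc_10_0 lc_b_rc_13_2 lc_b_rc_18_2 lc_b_rc_18_2 lc_b_rc_10_0 lc_b_rc_18_2 lc_b_rc_12_0 lc_b_rc_18_2 lc_b_rc_12_0 lc_b_rc_18_2 lc_b_rc_10_0 lc_b_rc_13_2 lc_b_rc_15_2 lc_b_rc_13_2 lc_b_rc_13_2 lc_b_rc_14_0 lc_b_rc_15_2) (@D3.rec (fun _ => (Cert rels S Gen.b)) lc_b_rc_14_2 lc_b_rc_14_0 lc_b_rc_12_2 lc_b_rc_12_2 lc_b_rc_13_2 lc_b_rc_14_2 lc_b_rc_14_2 lc_b_rc_13_2 lc_b_rc_18_2 lc_b_rc_13_2 lc_b_rc_18_2 lc_b_rc_12_2 lc_b_rc_14_2 lc_b_rc_13_2 lc_b_rc_13_2 lc_b_rc_14_2 lc_b_rc_14_2 lc_b_rc_18_2 lc_b_rc_14_2 lc_b_rc_18_2 lc_b_rc_14_2 lc_b_rc_12_2 lc_b_rc_15_2 lc_b_rc_17_2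 lc_b_rc_15_2 lc_b_rc_18_2 lc_b_rc_13_2 lc_b_rc_14_2 lc_b_rc_14_2 lc_b_rc_18_2 lc_b_rc_14_2 lc_b_rc_1_3 lc_b_rc_14_2 lc_b_rc_12_2 lc_b_rc_1_3 lc_b_rc_12_2 lc_b_rc_13_2 lc_b_rc_1_5 lc_b_rc_13_2 lc_b_rc_14_2 lc_b_rc_14_2 lc_b_rc_14_2 lc_b_rc_1_3 lc_b_rc_14_2 lc_b_rc_12_2 lc_b_rc_13_2 lc_b_rc_18_2 lc_b_rc_18_2 lc_b_rc_56_36 lc_b_rc_12_2 lc_b_rc_14_2) (@D3.rec (fun _ => (Cert rels S Gen.b)) lc_b_rc_13_2 lc_b_rc_18_2 lc_b_rc_15_2 lc_b_rc_18_2 lc_b_rc_12_2 lc_b_rc_12_2 lc_b_rc_14_2 lc_b_rc_14_2 lc_b_rc_18_2 lc_b_rc_15_2 lc_b_rc_18_2 lc_b_rc_14_2 lc_b_rc_14_2 lc_b_rc_18_2 lc_b_rc_14_2 lc_b_rc_12_2 lc_b_rc_12_2 lc_b_rc_12_2 lc_b_rc_14_2 lc_b_rc_13_2 lc_b_rc_13_2 lc_b_rc_11_0 lc_b_rc_14_2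 lc_b_rc_13_2 lc_b_rc_18_2 lc_b_rc_12_2 lc_b_rc_18_2 lc_b_rc_14_2 lc_b_rc_14_2 lc_b_rc_18_2 lc_b_rc_14_2 lc_b_rc_12_2 lc_b_rc_14_2 lc_b_rc_12_2 lc_b_rc_1_3 lc_b_rc_12_2 lc_b_rc_13_2 lc_b_rc_18_2 lc_b_rc_14_2 lc_b_rc_1_3 lc_b_rc_1_3 lc_b_rc_18_2 lc_b_rc_14_2 lc_b_rc_14_2 lc_b_rc_12_2 lc_b_rc_1_3 lc_b_rc_14_2 lc_b_rc_12_2 lc_b_rc_1_3 lc_b_rc_12_2 lc_b_rc_13_2) (@D3.rec (fun _ => (Cert rels S Gen.b)) lc_b_rc_1_3 lc_b_rc_11_2 lc_b_rc_13_2 lc_b_rc_15_2 lc_b_rc_10_0 lc_b_rc_18_2 lc_b_rc_1_3 lc_b_rc_10_0 lc_b_rc_18_2 lc_b_rc_1_3 lc_b_rc_1_3 lc_b_rc_18_2 lc_b_rc_14_2 lc_b_rc_1_3 lc_b_rc_14_2 lc_b_rc_12_2 lc_b_rc_10_0 lc_b_rc_18_2 lc_b_rc_1_3 lc_b_rc_13_2 lc_b_rc_18_2 lc_b_rc_12_2 lc_b_rc_18_2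 lc_b_rc_14_2 lc_b_rc_1_3 lc_b_rc_18_2 lc_b_rc_13_2 lc_b_rc_1_3 lc_b_rc_14_2 lc_b_rc_12_2 lc_b_rc_1_3 lc_b_rc_12_2 lc_b_rc_12_0 lc_b_rc_13_0 lc_b_rc_14_2 lc_b_rc_1_3 lc_b_rc_13_2 lc_b_rc_18_2 lc_b_rc_14_0 lc_b_rc_15_2 lc_b_rc_18_2 lc_b_rc_14_2 lc_b_rc_13_2 lc_b_rc_13_2 lc_b_rc_14_2 lc_b_rc_1_3 lc_b_rc_13_2 lc_b_rc_18_2 lc_b_rc_15_2 lc_b_rc_18_2 lc_b_rc_15_2) (@D3.rec (fun _ => (Cert rels S Gen.b)) lc_b_rc_12_2 lc_b_rc_14_2 lc_b_rc_1_3 lc_b_rc_1_3 lc_b_rc_15_2 lc_b_rc_18_2 lc_b_rc_14_2 lc_b_rc_16_2 lc_b_rc_18_2 lc_b_rc_14_2 lc_b_rc_14_2 lc_b_rc_12_2 lc_b_rc_12_2 lc_b_rc_14_2 lc_b_rc_56_8 lc_b_rc_55_29 lc_b_rc_1_3 lc_b_rc_16_2 lc_b_rc_18_2 lc_b_rc_14_2 lc_b_rc_12_2 lc_b_rc_17_2 lc_b_rc_18_2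 lc_b_rc_14_2 lc_b_rc_12_2 lc_b_rc_12_0 lc_b_rc_12_2 lc_b_rc_14_2 lc_b_rc_16_2 lc_b_rc_16_2 lc_b_rc_11_0 lc_b_rc_10_1 lc_b_rc_18_2 lc_b_rc_12_0 lc_b_rc_12_0 lc_b_rc_12_2 lc_b_rc_12_0 lc_b_rc_18_2 lc_b_rc_12_0 lc_b_rc_17_2 lc_b_rc_18_2 lc_b_rc_18_2 lc_b_rc_18_2 lc_b_rc_18_2 lc_b_rc_18_2 lc_b_rc_18_2 lc_b_rc_17_2 lc_b_rc_16_2 lc_b_rc_14_2 lc_b_rc_16_2 lc_b_rc_11_0)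
def ce_b_10 : D2 → D3 → (Cert rels S Gen.b) := @D2.rec (fun _ => D3 → (Cert rels S Gen.b)) (@D3.rec (fun _ => (Cert rels S Gen.b)) lc_b_rc_12_2 lc_b_rc_12_2 lc_b_rc_14_2 lc_b_rc_13_0 lc_b_rc_11_2 lc_b_rc_55_20 lc_b_Cert_tree lc_b_rc_12_2 lc_b_rc_12_0 lc_b_rc_12_0 lc_b_rc_17_2 lc_b_rc_18_2 lc_b_rc_13_2 lc_b_rc_56_36 lc_b_rc_12_2 lc_b_rc_15_0 lc_b_rc_18_2 lc_b_rc_12_2 lc_b_rc_12_0 lc_b_rc_12_2 lc_b_rc_15_2 lc_b_rc_12_2 lc_b_rc_10_0 lc_b_rc_18_2 lc_b_rc_14_2 lc_b_rc_15_2 lc_b_rc_18_2 lc_b_rc_16_2 lc_b_rc_11_2 lc_b_rc_11_2 lc_b_rc_11_2 lc_b_rc_13_2 lc_b_rc_17_2 lc_b_rc_15_2 lc_b_rc_11_2 lc_b_rc_11_2 lc_b_rc_11_2 lc_b_rc_11_2 lc_b_rc_11_2 lc_b_rc_11_2 lc_b_rc_11_2 lc_b_rc_13_2 lc_b_rc_14_2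 lc_b_rc_13_2 lc_b_rc_13_2 lc_b_rc_13_2 lc_b_rc_14_2 lc_b_rc_1_3 lc_b_rc_11_2 lc_b_rc_11_2 lc_b_rc_11_2) (@D3.rec (fun _ => (Cert rels S Gen.b)) lc_b_rc_11_2 lc_b_rc_11_2 lc_b_rc_11_2 lc_b_rc_11_2 lc_b_rc_11_2 lc_b_rc_11_2 lc_b_rc_12_2 lc_b_rc_10_0 lc_b_rc_18_2 lc_b_rc_14_2 lc_b_rc_18_2 lc_b_rc_14_2 lc_b_rc_10_0 lc_b_rc_18_2 lc_b_rc_56_43 lc_b_rc_10_0 lc_b_rc_18_2 lc_b_rc_56_43 lc_b_rc_1_3 lc_b_rc_18_2 lc_b_rc_14_2 lc_b_rc_1_3 lc_b_rc_14_2 lc_b_rc_12_2 lc_b_rc_11_2 lc_b_rc_11_2 lc_b_rc_11_2 lc_b_rc_15_2 lc_b_rc_15_2 lc_b_rc_12_2 lc_b_rc_15_2 lc_b_rc_11_2 lc_b_rc_11_2 lc_b_rc_12_2 lc_b_rc_14_2 lc_b_rc_11_2 lc_b_rc_11_2 lc_b_rc_11_2 lc_b_rc_12_2 lc_b_rc_11_2 lc_b_rc_11_2 lc_b_rc_12_2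 lc_b_rc_11_2 lc_b_rc_13_2 lc_b_rc_12_2 lc_b_rc_14_2 lc_b_rc_14_2 lc_b_rc_18_2 lc_b_rc_12_0 lc_b_rc_12_2 lc_b_rc_13_2) (@D3.rec (fun _ => (Cert rels S Gen.b)) lc_b_rc_13_2 lc_b_rc_18_2 lc_b_rc_12_2 lc_b_rc_12_2 lc_b_rc_13_2 lc_b_rc_12_2 lc_b_rc_12_2 lc_b_rc_14_2 lc_b_rc_12_2 lc_b_rc_14_2 lc_b_rc_14_2 lc_b_rc_18_2 lc_b_rc_12_2 lc_b_rc_11_2 lc_b_rc_10_0 lc_b_rc_13_2 lc_b_rc_12_2 lc_b_rc_15_2 lc_b_rc_13_2 lc_b_rc_14_2 lc_b_rc_16_2 lc_b_rc_15_2 lc_b_rc_14_2 lc_b_rc_1_3 lc_b_rc_12_2 lc_b_rc_12_2 lc_b_rc_14_2 lc_b_rc_14_2 lc_b_rc_18_2 lc_b_rc_11_2 lc_b_rc_11_2 lc_b_rc_11_2 lc_b_rc_12_2 lc_b_rc_11_2 lc_b_Cert_tree lc_b_rc_13_2 lc_b_rc_12_2 lc_b_rc_12_2 lc_b_rc_11_2 lc_b_rc_13_2 lc_b_rc_12_2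 lc_b_rc_13_2 lc_b_rc_14_2 lc_b_rc_16_2 lc_b_rc_15_2 lc_b_rc_12_2 lc_b_rc_18_2 lc_b_rc_12_2 lc_b_rc_18_2 lc_b_Cert_tree lc_b_rc_12_2) (@D3.rec (fun _ => (Cert rels S Gen.b)) lc_b_rc_10_0 lc_b_rc_18_2 lc_b_rc_14_2 lc_b_rc_18_2 lc_b_rc_12_2 lc_b_rc_10_0 lc_b_rc_18_2 lc_b_rc_1_3 lc_b_rc_18_2 lc_b_rc_14_2 lc_b_rc_12_2 lc_b_rc_15_2 lc_b_rc_13_2 lc_b_rc_13_2 lc_b_rc_12_2 lc_b_rc_13_2 lc_b_rc_18_2 lc_b_rc_13_2 lc_b_rc_12_2 lc_b_rc_15_0 lc_b_rc_14_2 lc_b_rc_14_2 lc_b_rc_12_2 lc_b_rc_15_2 lc_b_rc_15_2 lc_b_rc_12_2 lc_b_rc_13_2 lc_b_rc_12_2 lc_b_rc_12_2 lc_b_rc_13_2 lc_b_rc_13_2 lc_b_rc_14_2 lc_b_rc_12_2 lc_b_rc_12_2 lc_b_rc_13_2 lc_b_rc_1_3 lc_b_rc_1_3 lc_b_rc_1_3 lc_b_rc_12_2 lc_b_rc_14_2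 lc_b_rc_14_2 lc_b_rc_14_2 lc_b_rc_18_2 lc_b_rc_14_2 lc_b_rc_18_2 lc_b_rc_11_2 lc_b_rc_11_2 lc_b_rc_12_2 lc_b_rc_11_2 lc_b_rc_12_2 lc_b_rc_11_2) (@D3.rec (fun _ => (Cert rels S Gen.b)) lc_b_rc_14_2 lc_b_rc_13_2 lc_b_rc_12_2 lc_b_rc_10_0 lc_b_rc_13_2 lc_b_rc_18_2 lc_b_rc_15_2 lc_b_rc_13_2 lc_b_rc_14_2 lc_b_rc_15_2 lc_b_rc_13_2 lc_b_rc_14_2 lc_b_rc_16_2 lc_b_rc_15_2 lc_b_rc_14_2 lc_b_rc_17_2 lc_b_rc_16_2 lc_b_rc_15_2 lc_b_rc_18_2 lc_b_rc_14_2 lc_b_rc_12_2 lc_b_rc_13_2 lc_b_rc_18_2 lc_b_rc_1_3 lc_b_rc_13_2 lc_b_rc_12_2 lc_b_rc_14_2 lc_b_rc_14_2 lc_b_rc_14_2 lc_b_rc_18_2 lc_b_rc_18_0 lc_b_rc_14_2 lc_b_rc_18_2 lc_b_rc_11_2 lc_b_rc_11_2 lc_b_rc_12_2 lc_b_rc_11_2 lc_b_rc_12_2 lc_b_rc_11_2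 lc_b_Cert_tree lc_b_rc_13_2 lc_b_rc_12_2 lc_b_rc_10_0 lc_b_rc_18_0 lc_b_rc_18_2 lc_b_rc_13_2 lc_b_rc_14_2 lc_b_rc_13_2 lc_b_rc_12_2 lc_b_rc_15_2 lc_b_rc_13_2) (@D3.rec (fun _ => (Cert rels S Gen.b)) lc_b_rc_14_2 lc_b_rc_14_2 lc_b_rc_16_2 lc_b_rc_12_2 lc_b_rc_18_2 lc_b_Cert_tree lc_b_rc_13_2 lc_b_rc_12_2 lc_b_rc_12_0 lc_b_rc_12_2 lc_b_rc_10_0 lc_b_rc_18_2 lc_b_rc_14_2 lc_b_rc_55_47 lc_b_rc_18_2 lc_b_rc_14_2 lc_b_rc_18_2 lc_b_rc_1_1 lc_b_rc_12_2 lc_b_rc_10_0 lc_b_rc_13_2 lc_b_rc_18_2 lc_b_rc_13_2 lc_b_rc_14_2 lc_b_rc_12_2 lc_b_rc_14_2 lc_b_rc_18_2 lc_b_rc_14_2 lc_b_rc_1_3 lc_b_rc_14_2 lc_b_rc_12_2 lc_b_rc_12_2 lc_b_rc_12_2 lc_b_rc_14_2 lc_b_rc_14_2 lc_b_rc_18_2 lc_b_rc_15_2 lc_b_rc_15_2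 lc_b_rc_13_2 lc_b_rc_12_2 lc_b_rc_13_2 lc_b_rc_1_1 lc_b_rc_12_2 lc_b_rc_12_2 lc_b_rc_18_2 lc_b_rc_13_2 lc_b_rc_12_2 lc_b_rc_11_2 lc_b_rc_13_2 lc_b_rc_14_2 lc_b_rc_11_2) (@D3.rec (fun _ => (Cert rels S Gen.b)) lc_b_rc_12_2 lc_b_rc_12_2 lc_b_rc_14_2 lc_b_rc_14_2 lc_b_rc_14_2 lc_b_rc_18_2 lc_b_rc_13_2 lc_b_rc_11_2 lc_b_rc_18_2 lc_b_rc_16_2 lc_b_rc_15_2 lc_b_rc_12_2 lc_b_rc_15_2 lc_b_rc_12_2 lc_b_rc_13_2 lc_b_rc_13_2 lc_b_rc_12_2 lc_b_rc_12_2 lc_b_rc_13_2 lc_b_rc_15_2 lc_b_rc_12_2 lc_b_rc_14_2 lc_b_rc_15_2 lc_b_rc_13_2 lc_b_rc_14_2 lc_b_rc_16_2 lc_b_rc_18_2 lc_b_rc_14_2 lc_b_rc_12_2 lc_b_rc_12_2 lc_b_rc_1_1 lc_b_rc_1_3 lc_b_rc_1_3 lc_b_rc_12_0 lc_b_rc_1_3 lc_b_rc_12_0 lc_b_rc_1_3 lc_b_rc_12_0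 lc_b_rc_13_2 lc_b_rc_14_2 lc_b_rc_12_2 lc_b_rc_14_2 lc_b_rc_14_2 lc_b_rc_18_2 lc_b_rc_14_2 lc_b_rc_18_2 lc_b_Cert_tree lc_b_rc_14_2 lc_b_rc_18_2 lc_b_rc_10_0 lc_b_rc_11_4) (@D3.rec (fun _ => (Cert rels S Gen.b)) lc_b_rc_18_2 lc_b_rc_15_2 lc_b_rc_18_2 lc_b_rc_18_2 lc_b_rc_11_2 lc_b_rc_12_2 lc_b_rc_11_2 lc_b_Cert_tree lc_b_rc_13_2 lc_b_rc_12_2 lc_b_Cert_tree lc_b_rc_13_2 lc_b_rc_12_2 lc_b_rc_10_0 lc_b_rc_13_2 lc_b_rc_18_2 lc_b_rc_15_2 lc_b_rc_13_2 lc_b_rc_14_2 lc_b_rc_15_0 lc_b_rc_13_2 lc_b_rc_18_2 lc_b_rc_11_4 lc_b_rc_18_2 lc_b_rc_14_2 lc_b_rc_16_2 lc_b_rc_15_2 lc_b_rc_14_2 lc_b_rc_15_2 lc_b_rc_13_2 lc_b_rc_14_2 lc_b_rc_16_2 lc_b_rc_15_2 lc_b_rc_14_2 lc_b_rc_17_2 lc_b_rc_16_2 lc_b_rc_15_2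 lc_b_rc_12_2 lc_b_rc_17_2 lc_b_rc_16_2 lc_b_rc_18_2 lc_b_Cert_tree lc_b_rc_12_2 lc_b_rc_10_0 lc_b_rc_13_2 lc_b_rc_18_2 lc_b_rc_13_2 lc_b_rc_14_2 lc_b_rc_10_0 lc_b_rc_18_2 lc_b_rc_14_2) (@D3.rec (fun _ => (Cert rels S Gen.b)) lc_b_rc_12_0 lc_b_rc_18_2 lc_b_rc_14_2 lc_b_rc_12_0 lc_b_rc_14_2 lc_b_rc_12_2 lc_b_rc_10_0 lc_b_rc_18_2 lc_b_rc_14_2 lc_b_rc_1_3 lc_b_rc_13_2 lc_b_rc_18_2 lc_b_rc_18_2 lc_b_rc_14_2 lc_b_rc_14_2 lc_b_rc_1_3 lc_b_rc_18_2 lc_b_rc_14_2 lc_b_rc_1_3 lc_b_rc_14_2 lc_b_rc_12_2 lc_b_rc_1_3 lc_b_rc_12_2 lc_b_rc_13_2 lc_b_rc_18_2 lc_b_rc_17_0 lc_b_rc_1_3 lc_b_rc_13_2 lc_b_rc_13_2 lc_b_rc_13_2 lc_b_rc_12_2 lc_b_rc_11_4 lc_b_rc_11_4 lc_b_rc_13_2 lc_b_rc_11_4 lc_b_rc_17_2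 lc_b_rc_12_2 lc_b_rc_18_2 lc_b_rc_14_0 lc_b_rc_1_1 lc_b_rc_18_2 lc_b_rc_10_0 lc_b_rc_18_2 lc_b_rc_14_2 lc_b_rc_13_2 lc_b_rc_13_2 lc_b_rc_17_2 lc_b_rc_16_2 lc_b_rc_18_2 lc_b_rc_55_38 lc_b_rc_12_0) (@D3.rec (fun _ => (Cert rels S Gen.b)) lc_b_rc_10_0 lc_b_rc_13_2 lc_b_rc_13_2 lc_b_rc_12_2 lc_b_rc_13_2 lc_b_rc_17_2 lc_b_rc_18_2 lc_b_rc_15_0 lc_b_rc_12_2 lc_b_rc_13_2 lc_b_rc_1_3 lc_b_rc_14_2 lc_b_rc_1_3 lc_b_rc_1_3 lc_b_rc_17_2 lc_b_rc_12_2 lc_b_rc_1_3 lc_b_rc_56_22 lc_b_rc_12_0 lc_b_rc_14_2 lc_b_rc_18_2 lc_b_rc_18_2 lc_b_rc_10_0 lc_b_rc_11_2 lc_b_rc_12_2 lc_b_rc_11_2 lc_b_Cert_tree lc_b_rc_13_2 lc_b_rc_12_2 lc_b_rc_12_2 lc_b_rc_56_50 lc_b_rc_12_2 lc_b_rc_13_2 lc_b_rc_13_2 lc_b_rc_14_2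 lc_b_rc_12_2 lc_b_rc_13_2 lc_b_rc_16_2 lc_b_rc_15_2 lc_b_rc_18_2 lc_b_rc_12_2 lc_b_rc_18_2 lc_b_rc_12_2 lc_b_rc_10_0 lc_b_rc_18_2 lc_b_rc_14_2 lc_b_rc_12_2 lc_b_rc_14_2 lc_b_rc_1_3 lc_b_rc_18_2 lc_b_rc_14_2) (@D3.rec (fun _ => (Cert rels S Gen.b)) lc_b_rc_14_2 lc_b_rc_13_2 lc_b_rc_13_2 lc_b_rc_12_2 lc_b_rc_13_2 lc_b_rc_18_2 lc_b_rc_56_29 lc_b_rc_10_1 lc_b_rc_14_2 lc_b_rc_18_2 lc_b_rc_56_36 lc_b_rc_12_0 lc_b_rc_14_2 lc_b_rc_12_2 lc_b_rc_13_2 lc_b_Cert_tree lc_b_rc_12_2 lc_b_rc_12_2 lc_b_rc_18_2 lc_b_rc_16_2 lc_b_rc_18_2 lc_b_rc_13_2 lc_b_rc_14_2 lc_b_rc_1_3 lc_b_rc_1_3 lc_b_rc_1_3 lc_b_Cert_tree lc_b_rc_12_2 lc_b_rc_10_0 lc_b_rc_18_2 lc_b_rc_14_2 lc_b_rc_12_2 lc_b_rc_14_2 lc_b_rc_14_2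 lc_b_rc_14_2 lc_b_rc_18_2 lc_b_Cert_tree lc_b_rc_14_2 lc_b_rc_18_2 lc_b_rc_14_0 lc_b_rc_11_2 lc_b_rc_15_2 lc_b_rc_56_36 lc_b_rc_18_2 lc_b_rc_10_0 lc_b_rc_12_2 lc_b_rc_12_2 lc_b_rc_10_0 lc_b_rc_13_2 lc_b_rc_18_2 lc_b_rc_15_2) (@D3.rec (fun _ => (Cert rels S Gen.b)) lc_b_rc_13_2 lc_b_rc_14_2 lc_b_rc_18_2 lc_b_rc_14_2 lc_b_rc_16_2 lc_b_rc_15_2 lc_b_rc_14_2 lc_b_rc_17_2 lc_b_rc_16_2 lc_b_rc_15_2 lc_b_rc_15_0 lc_b_rc_14_2 lc_b_rc_15_2 lc_b_rc_18_2 lc_b_rc_14_2 lc_b_rc_1_3 lc_b_rc_14_2 lc_b_rc_12_2 lc_b_rc_16_2 lc_b_rc_1_3 lc_b_rc_18_2 lc_b_rc_14_2 lc_b_rc_13_2 lc_b_rc_13_2 lc_b_rc_13_2 lc_b_rc_12_2 lc_b_rc_11_4 lc_b_rc_11_4 lc_b_rc_15_2 lc_b_rc_11_4 lc_b_rc_11_4 lc_b_rc_15_2 lc_b_rc_13_2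 lc_b_rc_12_2 lc_b_rc_18_2 lc_b_rc_16_2 lc_b_rc_12_2 lc_b_rc_10_0 lc_b_rc_18_2 lc_b_rc_14_2 lc_b_rc_15_2 lc_b_rc_15_2 lc_b_rc_15_2 lc_b_rc_12_2 lc_b_rc_12_2 lc_b_rc_11_4 lc_b_rc_18_2 lc_b_rc_10_0 lc_b_rc_18_2 lc_b_rc_14_2 lc_b_rc_1_3) (@D3.rec (fun _ => (Cert rels S Gen.b)) lc_b_rc_18_2 lc_b_rc_14_2 lc_b_rc_12_2 lc_b_rc_14_2 lc_b_rc_15_2 lc_b_rc_13_2 lc_b_rc_13_2 lc_b_rc_12_2 lc_b_rc_13_2 lc_b_rc_17_2 lc_b_rc_18_2 lc_b_rc_16_2 lc_b_rc_16_2 lc_b_rc_14_2 lc_b_rc_10_1 lc_b_rc_18_2 lc_b_rc_15_2 lc_b_rc_15_2 lc_b_rc_13_2 lc_b_rc_12_2 lc_b_rc_13_2 lc_b_Cert_tree lc_b_rc_12_2 lc_b_rc_12_2 lc_b_rc_18_2 lc_b_rc_13_2 lc_b_rc_12_2 lc_b_rc_13_2 lc_b_rc_14_2 lc_b_rc_1_3 lc_b_rc_1_3 lc_b_rc_12_2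 lc_b_rc_1_3 lc_b_rc_1_3 lc_b_rc_16_2 lc_b_rc_12_2 lc_b_rc_10_0 lc_b_rc_18_2 lc_b_rc_14_2 lc_b_rc_18_2 lc_b_rc_12_2 lc_b_rc_14_2 lc_b_rc_14_2 lc_b_rc_14_2 lc_b_rc_18_2 lc_b_Cert_tree lc_b_rc_14_2 lc_b_rc_18_2 lc_b_rc_11_2 lc_b_rc_11_2 lc_b_rc_12_2) (@D3.rec (fun _ => (Cert rels S Gen.b)) lc_b_rc_11_2 lc_b_rc_12_2 lc_b_rc_11_2 lc_b_Cert_tree lc_b_rc_13_2 lc_b_rc_12_2 lc_b_rc_10_0 lc_b_rc_13_2 lc_b_rc_18_2 lc_b_rc_12_2 lc_b_rc_13_2 lc_b_rc_14_2 lc_b_rc_12_2 lc_b_rc_15_2 lc_b_rc_13_2 lc_b_rc_14_2 lc_b_rc_13_2 lc_b_rc_13_2 lc_b_rc_14_2 lc_b_rc_12_2 lc_b_rc_14_2 lc_b_rc_16_2 lc_b_rc_12_2 lc_b_rc_18_2 lc_b_Cert_tree lc_b_rc_13_2 lc_b_rc_12_2 lc_b_rc_12_2 lc_b_rc_10_0 lc_b_rc_18_2 lc_b_rc_14_2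 lc_b_rc_14_2 lc_b_rc_18_2 lc_b_rc_14_2 lc_b_rc_18_2 lc_b_rc_13_2 lc_b_rc_12_2 lc_b_rc_10_0 lc_b_rc_13_2 lc_b_rc_18_2 lc_b_rc_13_2 lc_b_rc_14_2 lc_b_rc_10_0 lc_b_rc_18_2 lc_b_rc_14_2 lc_b_rc_1_3 lc_b_rc_18_2 lc_b_rc_14_2 lc_b_rc_1_3 lc_b_rc_14_2 lc_b_rc_12_2) (@D3.rec (fun _ => (Cert rels S Gen.b)) lc_b_rc_11_2 lc_b_rc_12_2 lc_b_rc_12_2 lc_b_rc_14_2 lc_b_rc_14_2 lc_b_rc_18_2 lc_b_rc_15_2 lc_b_rc_15_2 lc_b_rc_13_2 lc_b_rc_12_2 lc_b_rc_13_2 lc_b_Cert_tree lc_b_rc_12_2 lc_b_rc_18_2 lc_b_rc_1_1 lc_b_rc_15_2 lc_b_rc_14_2 lc_b_rc_14_2 lc_b_rc_14_2 lc_b_rc_18_2 lc_b_Cert_tree lc_b_rc_13_2 lc_b_rc_18_2 lc_b_rc_16_2 lc_b_rc_15_2 lc_b_rc_12_2 lc_b_rc_15_2 lc_b_rc_12_2 lc_b_rc_13_2 lc_b_Cert_tree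 lc_b_rc_12_2 lc_b_rc_12_2 lc_b_rc_10_0 lc_b_rc_13_2 lc_b_rc_18_2 lc_b_rc_12_2 lc_b_rc_14_2 lc_b_rc_13_2 lc_b_rc_12_2 lc_b_rc_13_2 lc_b_rc_13_2 lc_b_rc_14_2 lc_b_rc_14_2 lc_b_rc_1_3 lc_b_rc_12_2 lc_b_rc_1_3 lc_b_Cert_tree lc_b_rc_13_2 lc_b_rc_12_2 lc_b_Cert_tree lc_b_rc_12_2) (@D3.rec (fun _ => (Cert rels S Gen.b)) lc_b_rc_10_0 lc_b_rc_18_2 lc_b_rc_14_2 lc_b_rc_1_3 lc_b_rc_18_2 lc_b_rc_14_2 lc_b_rc_17_2 lc_b_rc_13_2 lc_b_rc_16_2 lc_b_rc_14_2 lc_b_rc_14_2 lc_b_rc_18_2 lc_b_rc_14_2 lc_b_rc_18_2 lc_b_Cert_tree lc_b_rc_14_2 lc_b_rc_18_2 lc_b_rc_10_0 lc_b_rc_11_4 lc_b_rc_18_2 lc_b_rc_15_2 lc_b_rc_18_2 lc_b_rc_18_2 lc_b_rc_14_2 lc_b_rc_12_2 lc_b_rc_11_2 lc_b_Cert_tree lc_b_rc_13_2 lc_b_rc_12_2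 lc_b_rc_16_0 lc_b_rc_13_2 lc_b_rc_12_2 lc_b_rc_10_0 lc_b_rc_13_2 lc_b_rc_18_2 lc_b_rc_15_2 lc_b_rc_13_2 lc_b_rc_14_2 lc_b_rc_1_3 lc_b_rc_13_2 lc_b_rc_18_2 lc_b_rc_11_4 lc_b_rc_18_2 lc_b_rc_14_2 lc_b_rc_16_2 lc_b_rc_15_2 lc_b_rc_14_2 lc_b_rc_13_2 lc_b_rc_13_2 lc_b_rc_14_2 lc_b_rc_16_2) (@D3.rec (fun _ => (Cert rels S Gen.b)) lc_b_rc_15_2 lc_b_rc_14_2 lc_b_rc_17_2 lc_b_rc_16_2 lc_b_rc_15_2 lc_b_rc_12_2 lc_b_rc_17_2 lc_b_rc_16_2 lc_b_rc_18_2 lc_b_rc_16_0 lc_b_rc_13_2 lc_b_rc_12_2 lc_b_rc_10_0 lc_b_rc_13_2 lc_b_rc_18_2 lc_b_rc_13_2 lc_b_rc_14_2 lc_b_rc_16_0 lc_b_rc_14_2 lc_b_rc_1_3 lc_b_rc_18_2 lc_b_rc_14_2 lc_b_rc_1_3 lc_b_rc_14_2 lc_b_rc_12_2 lc_b_rc_13_2 lc_b_rc_14_2 lc_b_rc_1_3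 lc_b_rc_13_2 lc_b_rc_18_2 lc_b_rc_18_2 lc_b_rc_14_2 lc_b_rc_14_2 lc_b_rc_1_3 lc_b_rc_14_2 lc_b_rc_1_3 lc_b_rc_12_2 lc_b_rc_12_2 lc_b_rc_14_2 lc_b_rc_16_2 lc_b_rc_15_2 lc_b_rc_18_2 lc_b_rc_1_3 lc_b_rc_12_2 lc_b_rc_11_4 lc_b_rc_11_4 lc_b_rc_11_4 lc_b_rc_11_4 lc_b_rc_16_2 lc_b_rc_15_2 lc_b_rc_11_4) (@D3.rec (fun _ => (Cert rels S Gen.b)) lc_b_rc_16_2 lc_b_rc_15_2 lc_b_rc_12_2 lc_b_rc_15_2 lc_b_rc_15_2 lc_b_rc_15_2 lc_b_rc_13_2 lc_b_rc_12_2 lc_b_rc_13_2 lc_b_rc_18_0 lc_b_rc_12_2 lc_b_rc_18_2 lc_b_rc_1_3 lc_b_rc_15_2 lc_b_rc_12_2 lc_b_rc_15_2 lc_b_rc_12_2 lc_b_rc_13_2 lc_b_rc_16_2 lc_b_rc_12_2 lc_b_rc_14_0 lc_b_rc_14_2 lc_b_rc_17_2 lc_b_rc_12_2 lc_b_rc_12_0 lc_b_rc_18_2 lc_b_rc_13_0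 lc_b_rc_55_29 lc_b_rc_1_3 lc_b_rc_1_3 lc_b_rc_13_2 lc_b_rc_14_2 lc_b_rc_12_2 lc_b_rc_14_2 lc_b_rc_14_2 lc_b_rc_18_2 lc_b_rc_14_2 lc_b_rc_18_2 lc_b_rc_14_2 lc_b_rc_18_2 lc_b_rc_18_2 lc_b_rc_18_2 lc_b_rc_11_2 lc_b_rc_12_2 lc_b_rc_11_2 lc_b_Cert_tree lc_b_rc_13_2 lc_b_rc_12_2 lc_b_rc_11_4 lc_b_rc_13_2 lc_b_rc_12_2) (@D3.rec (fun _ => (Cert rels S Gen.b)) lc_b_rc_10_0 lc_b_rc_16_2 lc_b_rc_18_2 lc_b_rc_15_2 lc_b_rc_13_2 lc_b_rc_14_2 lc_b_rc_18_2 lc_b_rc_18_2 lc_b_rc_14_2 lc_b_rc_16_2 lc_b_rc_15_2 lc_b_rc_14_2 lc_b_rc_15_2 lc_b_rc_13_2 lc_b_rc_14_2 lc_b_rc_12_0 lc_b_rc_15_2 lc_b_rc_14_2 lc_b_rc_17_2 lc_b_rc_18_2 lc_b_rc_55_56 lc_b_rc_12_2 lc_b_rc_18_2 lc_b_rc_14_2 lc_b_rc_12_2 lc_b_rc_18_2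 lc_b_rc_56_15 lc_b_rc_13_2 lc_b_rc_12_2 lc_b_rc_10_0 lc_b_rc_56_15 lc_b_rc_18_2 lc_b_rc_13_2 lc_b_rc_1_1 lc_b_rc_18_2 lc_b_rc_12_2 lc_b_rc_13_2 lc_b_rc_13_2 lc_b_rc_14_2 lc_b_rc_18_2 lc_b_rc_14_2 lc_b_rc_18_2 lc_b_rc_13_2 lc_b_rc_12_2 lc_b_rc_14_2 lc_b_rc_14_2 lc_b_rc_14_2 lc_b_rc_18_2 lc_b_rc_18_2 lc_b_rc_16_2 lc_b_rc_15_2) (@D3.rec (fun _ => (Cert rels S Gen.b)) lc_b_rc_12_2 lc_b_rc_15_2 lc_b_rc_12_2 lc_b_rc_13_2 lc_b_rc_11_4 lc_b_rc_12_2 lc_b_rc_11_4 lc_b_rc_14_2 lc_b_rc_1_3 lc_b_rc_1_3 lc_b_rc_12_2 lc_b_rc_14_2 lc_b_rc_14_2 lc_b_rc_18_2 lc_b_rc_14_2 lc_b_rc_18_2 lc_b_rc_1_3 lc_b_rc_18_2 lc_b_rc_1_3 lc_b_rc_18_2 lc_b_rc_16_2 lc_b_rc_12_2 lc_b_rc_15_2 lc_b_Cert_tree lc_b_rc_13_2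 lc_b_rc_12_2 lc_b_rc_56_36 lc_b_rc_17_2 lc_b_rc_12_2 lc_b_rc_10_0 lc_b_rc_13_2 lc_b_rc_18_2 lc_b_rc_18_0 lc_b_rc_16_2 lc_b_rc_14_2 lc_b_rc_18_2 lc_b_rc_13_2 lc_b_rc_14_2 lc_b_rc_15_2 lc_b_rc_12_0 lc_b_rc_18_2 lc_b_rc_14_2 lc_b_rc_12_0 lc_b_rc_14_2 lc_b_rc_10_1 lc_b_rc_12_2 lc_b_rc_1_3 lc_b_rc_15_2 lc_b_rc_13_2 lc_b_rc_12_2 lc_b_rc_10_0) (@D3.rec (fun _ => (Cert rels S Gen.b)) lc_b_rc_13_2 lc_b_rc_18_2 lc_b_rc_13_2 lc_b_rc_18_2 lc_b_rc_1_3 lc_b_rc_18_2 lc_b_rc_1_3 lc_b_rc_13_2 lc_b_rc_14_2 lc_b_rc_12_2 lc_b_rc_18_2 lc_b_rc_14_2 lc_b_rc_14_2 lc_b_rc_18_2 lc_b_Cert_tree lc_b_rc_14_2 lc_b_rc_18_2 lc_b_Cert_tree lc_b_rc_14_2 lc_b_rc_18_2 lc_b_rc_10_0 lc_b_rc_16_2 lc_b_rc_18_2 lc_b_rc_15_2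 lc_b_rc_18_2 lc_b_rc_18_2 lc_b_rc_18_2 lc_b_rc_1_3 lc_b_rc_18_2 lc_b_rc_14_2 lc_b_rc_16_2 lc_b_rc_18_2 lc_b_rc_18_2 lc_b_rc_12_2 lc_b_rc_11_2 lc_b_Cert_tree lc_b_rc_13_2 lc_b_rc_12_2 lc_b_rc_10_0 lc_b_rc_13_2 lc_b_rc_18_2 lc_b_rc_15_2 lc_b_rc_13_2 lc_b_rc_14_2 lc_b_rc_10_0 lc_b_rc_13_2 lc_b_rc_18_2 lc_b_rc_15_2 lc_b_rc_13_2 lc_b_rc_14_2 lc_b_rc_11_2) (@D3.rec (fun _ => (Cert rels S Gen.b)) lc_b_rc_13_2 lc_b_rc_18_2 lc_b_rc_15_2 lc_b_rc_18_2 lc_b_rc_14_2 lc_b_rc_16_2 lc_b_rc_15_2 lc_b_rc_14_2 lc_b_rc_11_2 lc_b_rc_15_2 lc_b_rc_18_2 lc_b_rc_14_2 lc_b_rc_16_2 lc_b_rc_18_2 lc_b_rc_14_2 lc_b_rc_12_2 lc_b_rc_17_2 lc_b_rc_16_2 lc_b_rc_15_2 lc_b_rc_12_2 lc_b_rc_16_2 lc_b_rc_15_2 lc_b_rc_14_2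 lc_b_rc_17_2 lc_b_rc_16_2 lc_b_rc_15_2 lc_b_rc_12_2 lc_b_rc_17_2 lc_b_rc_16_2 lc_b_rc_12_2 lc_b_Cert_tree lc_b_rc_17_2 lc_b_Cert_tree lc_b_rc_13_2 lc_b_rc_12_2 lc_b_rc_10_0 lc_b_rc_13_2 lc_b_rc_18_2 lc_b_rc_13_2 lc_b_rc_14_2 lc_b_rc_1_3 lc_b_rc_13_2 lc_b_rc_18_2 lc_b_rc_12_2 lc_b_rc_18_2 lc_b_rc_14_2 lc_b_rc_14_2 lc_b_rc_12_0 lc_b_rc_18_2 lc_b_rc_14_2 lc_b_rc_1_3) (@D3.rec (fun _ => (Cert rels S Gen.b)) lc_b_rc_14_2 lc_b_rc_12_2 lc_b_rc_12_0 lc_b_rc_12_2 lc_b_rc_14_0 lc_b_rc_10_0 lc_b_rc_11_4 lc_b_rc_13_2 lc_b_rc_14_2 lc_b_rc_1_3 lc_b_rc_13_2 lc_b_rc_18_2 lc_b_rc_1_3 lc_b_rc_1_3 lc_b_rc_12_2 lc_b_rc_18_2 lc_b_rc_14_2 lc_b_rc_12_2 lc_b_rc_12_2 lc_b_rc_12_2 lc_b_rc_1_3 lc_b_rc_14_2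 lc_b_rc_12_2 lc_b_rc_1_3 lc_b_rc_12_2 lc_b_rc_13_2 lc_b_rc_13_2 lc_b_rc_14_2 lc_b_rc_12_2 lc_b_rc_18_2 lc_b_rc_14_2 lc_b_rc_18_2 lc_b_rc_12_2 lc_b_rc_18_0 lc_b_rc_14_2 lc_b_rc_14_2 lc_b_rc_16_2 lc_b_rc_13_2 lc_b_rc_13_2 lc_b_rc_1_3 lc_b_rc_13_2 lc_b_rc_13_2 lc_b_rc_14_2 lc_b_rc_12_2 lc_b_rc_18_2 lc_b_Cert_tree lc_b_rc_12_2 lc_b_rc_12_2 lc_b_rc_18_2 lc_b_Cert_tree lc_b_rc_18_2) (@D3.rec (fun _ => (Cert rels S Gen.b)) lc_b_rc_10_0 lc_b_rc_13_2 lc_b_rc_18_2 lc_b_rc_18_2 lc_b_rc_10_0 lc_b_rc_18_2 lc_b_rc_12_0 lc_b_rc_18_2 lc_b_rc_12_0 lc_b_rc_16_2 lc_b_rc_10_0 lc_b_rc_12_2 lc_b_rc_13_2 lc_b_rc_13_2 lc_b_rc_10_0 lc_b_rc_16_2 lc_b_rc_12_0 lc_b_rc_15_2 lc_b_rc_17_2 lc_b_rc_16_0 lc_b_rc_15_2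 lc_b_rc_14_2 lc_b_rc_16_2 lc_b_rc_18_2 lc_b_rc_14_2 lc_b_rc_12_2 lc_b_rc_12_2 lc_b_rc_14_0 lc_b_rc_14_2 lc_b_rc_12_2 lc_b_rc_12_0 lc_b_rc_12_2 lc_b_rc_18_0 lc_b_rc_1_3 lc_b_rc_12_2 lc_b_rc_1_3 lc_b_rc_12_2 lc_b_rc_12_2 lc_b_rc_14_2 lc_b_rc_18_2 lc_b_rc_12_2 lc_b_rc_12_2 lc_b_rc_13_2 lc_b_rc_12_2 lc_b_rc_12_2 lc_b_rc_13_2 lc_b_rc_1_3 lc_b_rc_1_3 lc_b_rc_18_2 lc_b_rc_12_2 lc_b_rc_11_2) (@D3.rec (fun _ => (Cert rels S Gen.b)) lc_b_rc_12_2 lc_b_rc_12_2 lc_b_rc_10_0 lc_b_rc_13_2 lc_b_rc_18_2 lc_b_rc_15_2 lc_b_rc_13_2 lc_b_rc_14_2 lc_b_rc_15_2 lc_b_rc_17_2 lc_b_rc_16_2 lc_b_rc_56_29 lc_b_rc_15_2 lc_b_rc_18_2 lc_b_rc_1_3 lc_b_rc_14_2 lc_b_rc_14_2 lc_b_rc_18_2 lc_b_rc_56_36 lc_b_rc_18_2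 lc_b_rc_12_2 lc_b_rc_11_2 lc_b_rc_12_2 lc_b_rc_10_1 lc_b_rc_14_2 lc_b_rc_56_57 lc_b_rc_15_2 lc_b_rc_12_2 lc_b_rc_13_2 lc_b_rc_12_2 lc_b_rc_12_2 lc_b_rc_15_2 lc_b_rc_12_2 lc_b_rc_12_2 lc_b_rc_12_2 lc_b_rc_14_2 lc_b_rc_13_2 lc_b_rc_13_2 lc_b_rc_1_3 lc_b_rc_1_3 lc_b_rc_1_3 lc_b_rc_1_3 lc_b_rc_1_3 lc_b_rc_1_3 lc_b_rc_14_2 lc_b_rc_18_2 lc_b_rc_18_2 lc_b_rc_15_2 lc_b_rc_18_2 lc_b_rc_18_2 lc_b_rc_11_2) (@D3.rec (fun _ => (Cert rels S Gen.b)) lc_b_rc_12_2 lc_b_rc_11_2 lc_b_Cert_tree lc_b_rc_13_2 lc_b_rc_12_2 lc_b_Cert_tree lc_b_rc_12_2 lc_b_rc_10_0 lc_b_rc_13_2 lc_b_rc_18_2 lc_b_rc_15_2 lc_b_rc_13_2 lc_b_rc_14_2 lc_b_rc_13_2 lc_b_rc_18_2 lc_b_rc_56_43 lc_b_rc_18_2 lc_b_rc_14_2 lc_b_rc_16_2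 lc_b_rc_15_2 lc_b_rc_14_2 lc_b_rc_16_2 lc_b_rc_15_2 lc_b_rc_17_2 lc_b_rc_16_2 lc_b_rc_17_2 lc_b_rc_18_2 lc_b_rc_14_2 lc_b_rc_12_2 lc_b_rc_10_0 lc_b_rc_11_2 lc_b_rc_18_2 lc_b_rc_13_2 lc_b_rc_10_0 lc_b_rc_18_2 lc_b_rc_18_2 lc_b_rc_14_2 lc_b_rc_14_2 lc_b_rc_12_2 lc_b_rc_1_3 lc_b_rc_18_2 lc_b_rc_1_3 lc_b_rc_18_2 lc_b_rc_1_3 lc_b_rc_14_2 lc_b_rc_1_3 lc_b_rc_12_2 lc_b_rc_13_2 lc_b_rc_1_3 lc_b_rc_18_2 lc_b_rc_14_2) (@D3.rec (fun _ => (Cert rels S Gen.b)) lc_b_rc_1_3 lc_b_rc_14_2 lc_b_rc_12_2 lc_b_rc_14_2 lc_b_rc_14_2 lc_b_rc_14_2 lc_b_rc_18_2 lc_b_rc_14_2 lc_b_rc_18_2 lc_b_rc_18_2 lc_b_rc_18_2 lc_b_rc_12_2 lc_b_rc_11_2 lc_b_Cert_tree lc_b_rc_13_2 lc_b_rc_12_2 lc_b_Cert_tree lc_b_rc_12_2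 lc_b_rc_10_0 lc_b_rc_18_2 lc_b_rc_14_2 lc_b_rc_55_38 lc_b_rc_18_2 lc_b_rc_14_2 lc_b_rc_10_0 lc_b_rc_18_2 lc_b_rc_14_2 lc_b_rc_10_0 lc_b_rc_18_2 lc_b_rc_14_2 lc_b_rc_1_3 lc_b_rc_18_2 lc_b_rc_14_2 lc_b_rc_55_38 lc_b_rc_14_2 lc_b_rc_12_2 lc_b_rc_1_3 lc_b_rc_18_2 lc_b_rc_14_2 lc_b_rc_1_3 lc_b_rc_18_2 lc_b_rc_14_2 lc_b_rc_1_3 lc_b_rc_14_2 lc_b_rc_12_2 lc_b_rc_1_3 lc_b_rc_12_2 lc_b_rc_11_2 lc_b_rc_14_2 lc_b_rc_18_2 lc_b_rc_15_2)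
def ce_b_11 : D2 → D3 → (Cert rels S Gen.b) := @D2.rec (fun _ => D3 → (Cert rels S Gen.b)) (@D3.rec (fun _ => (Cert rels S Gen.b)) lc_b_rc_12_2 lc_b_rc_15_2 lc_b_rc_12_2 lc_b_rc_13_2 lc_b_rc_12_2 lc_b_rc_14_2 lc_b_rc_1_3 lc_b_rc_18_2 lc_b_rc_12_2 lc_b_rc_14_2 lc_b_rc_18_0 lc_b_rc_18_2 lc_b_rc_15_0 lc_b_rc_18_2 lc_b_rc_12_0 lc_b_rc_12_2 lc_b_rc_15_2 lc_b_Cert_tree lc_b_rc_13_2 lc_b_rc_12_2 lc_b_Cert_tree lc_b_rc_18_0 lc_b_rc_12_2 lc_b_rc_10_0 lc_b_rc_18_0 lc_b_rc_18_2 lc_b_rc_18_0 lc_b_rc_14_0 lc_b_rc_14_2 lc_b_rc_18_2 lc_b_rc_14_0 lc_b_rc_14_2 lc_b_rc_13_2 lc_b_rc_18_0 lc_b_rc_14_0 lc_b_rc_15_2 lc_b_rc_1_3 lc_b_rc_1_3 lc_b_Cert_tree lc_b_rc_1_3 lc_b_rc_1_3 lc_b_rc_10_0 lc_b_rc_13_2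 lc_b_rc_18_2 lc_b_rc_1_3 lc_b_rc_1_3 lc_b_rc_10_0 lc_b_rc_18_2 lc_b_rc_1_3 lc_b_rc_1_3 lc_b_rc_18_2) (@D3.rec (fun _ => (Cert rels S Gen.b)) lc_b_rc_14_2 lc_b_rc_1_3 lc_b_rc_14_2 lc_b_rc_12_2 lc_b_rc_12_2 lc_b_rc_18_2 lc_b_rc_14_2 lc_b_rc_14_2 lc_b_rc_18_2 lc_b_Cert_tree lc_b_rc_14_2 lc_b_rc_18_2 lc_b_Cert_tree lc_b_rc_18_2 lc_b_rc_10_0 lc_b_rc_13_2 lc_b_rc_18_2 lc_b_rc_15_2 lc_b_rc_18_2 lc_b_rc_18_2 lc_b_rc_13_2 lc_b_rc_18_2 lc_b_rc_18_2 lc_b_rc_14_2 lc_b_rc_16_2 lc_b_rc_18_2 lc_b_rc_18_2 lc_b_rc_12_2 lc_b_rc_11_2 lc_b_Cert_tree lc_b_rc_13_2 lc_b_rc_12_2 lc_b_rc_10_0 lc_b_rc_13_2 lc_b_rc_18_2 lc_b_rc_15_2 lc_b_rc_13_2 lc_b_rc_14_2 lc_b_rc_10_0 lc_b_rc_13_2 lc_b_rc_18_2 lc_b_rc_15_2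 lc_b_rc_13_2 lc_b_rc_14_2 lc_b_rc_16_2 lc_b_rc_13_2 lc_b_rc_18_2 lc_b_rc_15_2 lc_b_rc_18_2 lc_b_rc_14_2 lc_b_rc_16_2) (@D3.rec (fun _ => (Cert rels S Gen.b)) lc_b_rc_15_2 lc_b_rc_14_2 lc_b_rc_13_2 lc_b_rc_18_2 lc_b_rc_15_2 lc_b_rc_18_2 lc_b_rc_14_2 lc_b_rc_16_2 lc_b_rc_18_2 lc_b_rc_14_2 lc_b_rc_12_2 lc_b_rc_17_2 lc_b_rc_16_2 lc_b_rc_15_2 lc_b_rc_15_2 lc_b_rc_17_2 lc_b_rc_16_2 lc_b_rc_17_2 lc_b_rc_13_2 lc_b_rc_12_2 lc_b_rc_10_0 lc_b_rc_11_4 lc_b_rc_18_2 lc_b_rc_13_2 lc_b_rc_14_2 lc_b_rc_1_3 lc_b_rc_13_2 lc_b_rc_18_2 lc_b_rc_12_2 lc_b_rc_18_2 lc_b_rc_14_2 lc_b_rc_14_2 lc_b_rc_1_3 lc_b_rc_18_2 lc_b_rc_14_2 lc_b_rc_1_3 lc_b_rc_14_2 lc_b_rc_12_2 lc_b_rc_1_3 lc_b_rc_12_2 lc_b_rc_14_0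 lc_b_rc_14_2 lc_b_rc_18_2 lc_b_rc_14_0 lc_b_rc_14_2 lc_b_rc_14_2 lc_b_rc_1_3 lc_b_rc_18_2 lc_b_rc_14_2 lc_b_rc_12_2 lc_b_rc_14_2) (@D3.rec (fun _ => (Cert rels S Gen.b)) lc_b_rc_12_2 lc_b_rc_1_3 lc_b_rc_14_2 lc_b_rc_1_3 lc_b_rc_12_2 lc_b_rc_1_1 lc_b_rc_13_2 lc_b_rc_10_0 lc_b_rc_18_2 lc_b_rc_11_4 lc_b_rc_12_2 lc_b_rc_10_0 lc_b_rc_18_2 lc_b_rc_14_2 lc_b_rc_11_4 lc_b_rc_18_2 lc_b_rc_12_2 lc_b_rc_13_2 lc_b_rc_13_0 lc_b_rc_12_2 lc_b_rc_14_2 lc_b_rc_1_5 lc_b_rc_13_2 lc_b_rc_12_2 lc_b_rc_1_1 lc_b_rc_13_2 lc_b_rc_1_1 lc_b_rc_16_2 lc_b_rc_1_5 lc_b_rc_13_2 lc_b_rc_1_3 lc_b_rc_12_2 lc_b_rc_14_2 lc_b_rc_14_2 lc_b_rc_10_0 lc_b_rc_18_2 lc_b_rc_18_2 lc_b_rc_16_2 lc_b_rc_56_36 lc_b_rc_13_2 lc_b_rc_12_2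 lc_b_rc_10_0 lc_b_rc_18_2 lc_b_rc_14_2 lc_b_rc_12_2 lc_b_rc_13_2 lc_b_rc_18_2 lc_b_rc_11_4 lc_b_rc_18_2 lc_b_rc_14_2 lc_b_rc_14_2) (@D3.rec (fun _ => (Cert rels S Gen.b)) lc_b_rc_15_2 lc_b_rc_14_2 lc_b_rc_14_2 lc_b_rc_15_2 lc_b_rc_18_2 lc_b_rc_13_2 lc_b_rc_14_2 lc_b_rc_18_2 lc_b_rc_14_2 lc_b_rc_18_2 lc_b_rc_14_2 lc_b_rc_12_2 lc_b_rc_14_2 lc_b_rc_18_2 lc_b_rc_1_3 lc_b_rc_14_2 lc_b_rc_1_3 lc_b_rc_15_2 lc_b_rc_14_2 lc_b_rc_13_2 lc_b_rc_18_2 lc_b_rc_15_2 lc_b_rc_12_2 lc_b_rc_13_2 lc_b_rc_14_2 lc_b_rc_13_2 lc_b_rc_11_4 lc_b_rc_12_2 lc_b_rc_11_4 lc_b_rc_13_2 lc_b_rc_1_3 lc_b_Cert_tree lc_b_rc_12_2 lc_b_rc_10_0 lc_b_rc_18_2 lc_b_rc_14_2 lc_b_rc_1_3 lc_b_rc_18_2 lc_b_rc_14_2 lc_b_rc_14_2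 lc_b_rc_18_2 lc_b_rc_1_3 lc_b_rc_18_2 lc_b_rc_10_0 lc_b_rc_18_2 lc_b_rc_12_2 lc_b_rc_18_2 lc_b_rc_15_2 lc_b_rc_15_2 lc_b_rc_16_2 lc_b_rc_13_2) (@D3.rec (fun _ => (Cert rels S Gen.b)) lc_b_rc_12_2 lc_b_rc_16_0 lc_b_rc_15_0 lc_b_rc_16_2 lc_b_rc_12_2 lc_b_rc_12_2 lc_b_rc_14_2 lc_b_rc_12_2 lc_b_rc_13_2 lc_b_rc_18_2 lc_b_rc_18_2 lc_b_rc_14_2 lc_b_rc_13_2 lc_b_rc_13_0 lc_b_rc_11_2 lc_b_rc_16_2 lc_b_rc_13_2 lc_b_rc_14_2 lc_b_rc_11_2 lc_b_rc_1_3 lc_b_rc_14_2 lc_b_rc_12_2 lc_b_rc_14_2 lc_b_rc_1_3 lc_b_rc_12_2 lc_b_rc_11_4 lc_b_rc_15_2 lc_b_rc_15_2 lc_b_rc_1_5 lc_b_rc_16_2 lc_b_rc_10_0 lc_b_rc_18_2 lc_b_rc_13_2 lc_b_rc_15_2 lc_b_rc_14_2 lc_b_rc_15_2 lc_b_rc_15_2 lc_b_rc_12_2 lc_b_rc_12_2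 lc_b_rc_17_2 lc_b_rc_13_2 lc_b_rc_13_2 lc_b_rc_1_3 lc_b_rc_18_2 lc_b_rc_14_2 lc_b_rc_12_2 lc_b_rc_1_3 lc_b_rc_12_2 lc_b_rc_13_2 lc_b_rc_13_2 lc_b_rc_14_2) (@D3.rec (fun _ => (Cert rels S Gen.b)) lc_b_rc_14_2 lc_b_rc_14_2 lc_b_rc_1_3 lc_b_rc_14_2 lc_b_rc_12_2 lc_b_Cert_tree lc_b_rc_14_2 lc_b_rc_18_2 lc_b_rc_10_0 lc_b_rc_18_2 lc_b_rc_18_2 lc_b_rc_13_2 lc_b_rc_18_2 lc_b_rc_10_1 lc_b_rc_18_2 lc_b_rc_14_2 lc_b_rc_16_2 lc_b_rc_18_2 lc_b_rc_12_2 lc_b_rc_11_2 lc_b_Cert_tree lc_b_rc_13_2 lc_b_rc_12_2 lc_b_rc_10_0 lc_b_rc_13_2 lc_b_rc_18_2 lc_b_rc_15_2 lc_b_rc_13_2 lc_b_rc_14_2 lc_b_rc_10_0 lc_b_rc_18_2 lc_b_rc_14_2 lc_b_rc_13_2 lc_b_rc_13_2 lc_b_rc_18_2 lc_b_rc_15_2 lc_b_rc_18_2 lc_b_rc_14_2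 lc_b_rc_16_2 lc_b_rc_15_2 lc_b_rc_14_2 lc_b_rc_1_3 lc_b_rc_1_3 lc_b_rc_15_2 lc_b_rc_18_2 lc_b_rc_14_2 lc_b_rc_14_2 lc_b_rc_18_2 lc_b_rc_14_2 lc_b_rc_12_2 lc_b_rc_17_2) (@D3.rec (fun _ => (Cert rels S Gen.b)) lc_b_rc_16_2 lc_b_rc_15_2 lc_b_rc_16_2 lc_b_rc_16_2 lc_b_rc_17_2 lc_b_rc_16_2 lc_b_rc_12_2 lc_b_rc_10_0 lc_b_rc_18_2 lc_b_rc_13_2 lc_b_rc_14_2 lc_b_rc_13_0 lc_b_rc_13_2 lc_b_rc_18_2 lc_b_rc_12_2 lc_b_rc_18_2 lc_b_rc_14_2 lc_b_rc_14_2 lc_b_rc_18_2 lc_b_rc_14_2 lc_b_rc_13_2 lc_b_rc_14_2 lc_b_rc_12_2 lc_b_rc_1_3 lc_b_rc_12_2 lc_b_rc_13_2 lc_b_rc_14_2 lc_b_rc_1_3 lc_b_rc_13_2 lc_b_rc_18_2 lc_b_rc_18_2 lc_b_rc_14_2 lc_b_rc_1_3 lc_b_rc_1_3 lc_b_rc_12_2 lc_b_rc_18_2 lc_b_rc_14_2 lc_b_rc_12_2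 lc_b_rc_14_2 lc_b_rc_1_3 lc_b_rc_14_2 lc_b_rc_1_3 lc_b_rc_12_2 lc_b_rc_13_2 lc_b_rc_1_3 lc_b_rc_18_2 lc_b_rc_13_2 lc_b_rc_12_2 lc_b_rc_13_2 lc_b_rc_18_0 lc_b_rc_15_2) (@D3.rec (fun _ => (Cert rels S Gen.b)) lc_b_rc_13_2 lc_b_rc_15_2 lc_b_rc_14_0 lc_b_rc_13_2 lc_b_rc_1_3 lc_b_rc_12_2 lc_b_rc_18_2 lc_b_rc_56_22 lc_b_rc_14_2 lc_b_rc_18_2 lc_b_rc_14_2 lc_b_rc_18_2 lc_b_rc_17_2 lc_b_rc_18_2 lc_b_rc_18_0 lc_b_rc_14_0 lc_b_rc_18_2 lc_b_rc_13_2 lc_b_rc_12_2 lc_b_rc_11_2 lc_b_Cert_tree lc_b_rc_13_2 lc_b_rc_12_2 lc_b_rc_10_0 lc_b_rc_13_2 lc_b_rc_18_2 lc_b_rc_13_2 lc_b_rc_13_2 lc_b_rc_14_2 lc_b_rc_10_0 lc_b_rc_13_2 lc_b_rc_18_2 lc_b_rc_18_0 lc_b_rc_14_0 lc_b_rc_14_2 lc_b_rc_13_2 lc_b_rc_18_2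 lc_b_rc_15_2 lc_b_rc_18_2 lc_b_rc_14_2 lc_b_rc_15_2 lc_b_rc_13_2 lc_b_rc_18_2 lc_b_rc_14_2 lc_b_rc_14_2 lc_b_rc_16_2 lc_b_rc_15_2 lc_b_rc_56_43 lc_b_rc_12_2 lc_b_rc_10_0 lc_b_rc_11_2) (@D3.rec (fun _ => (Cert rels S Gen.b)) lc_b_rc_18_2 lc_b_rc_13_2 lc_b_rc_12_0 lc_b_rc_13_2 lc_b_rc_18_2 lc_b_rc_12_2 lc_b_rc_18_2 lc_b_rc_17_2 lc_b_rc_18_2 lc_b_rc_18_2 lc_b_rc_18_2 lc_b_rc_1_3 lc_b_rc_18_2 lc_b_rc_14_2 lc_b_rc_1_3 lc_b_rc_14_2 lc_b_rc_1_3 lc_b_rc_12_2 lc_b_rc_18_2 lc_b_rc_18_2 lc_b_rc_55_29 lc_b_rc_13_2 lc_b_rc_10_1 lc_b_rc_13_2 lc_b_rc_13_2 lc_b_rc_15_2 lc_b_rc_14_0 lc_b_rc_13_2 lc_b_rc_18_0 lc_b_rc_16_2 lc_b_Cert_tree lc_b_rc_13_2 lc_b_rc_15_2 lc_b_rc_10_0 lc_b_rc_13_2 lc_b_rc_18_2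 lc_b_rc_13_2 lc_b_rc_15_2 lc_b_rc_10_0 lc_b_rc_18_2 lc_b_rc_13_2 lc_b_rc_1_3 lc_b_rc_18_2 lc_b_rc_14_2 lc_b_rc_1_3 lc_b_rc_14_2 lc_b_rc_17_2 lc_b_rc_12_2 lc_b_rc_10_0 lc_b_rc_12_2 lc_b_rc_18_2) (@D3.rec (fun _ => (Cert rels S Gen.b)) lc_b_rc_13_2 lc_b_rc_1_3 lc_b_rc_13_2 lc_b_rc_18_2 lc_b_rc_12_2 lc_b_rc_18_2 lc_b_rc_1_3 lc_b_rc_18_2 lc_b_rc_1_3 lc_b_rc_14_0 lc_b_Cert_tree lc_b_rc_12_2 lc_b_rc_12_2 lc_b_rc_14_2 lc_b_rc_18_2 lc_b_Cert_tree lc_b_rc_14_2 lc_b_rc_18_2 lc_b_rc_10_0 lc_b_rc_13_2 lc_b_rc_18_2 lc_b_rc_15_2 lc_b_rc_18_2 lc_b_rc_18_2 lc_b_rc_10_0 lc_b_rc_13_2 lc_b_rc_18_2 lc_b_rc_12_2 lc_b_rc_18_2 lc_b_rc_11_2 lc_b_rc_13_2 lc_b_rc_18_2 lc_b_rc_15_2 lc_b_rc_18_2 lc_b_rc_14_2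 lc_b_rc_16_2 lc_b_rc_18_2 lc_b_rc_18_2 lc_b_rc_11_2 lc_b_rc_18_2 lc_b_rc_14_2 lc_b_rc_16_2 lc_b_rc_18_2 lc_b_rc_14_2 lc_b_rc_17_2 lc_b_rc_18_2 lc_b_rc_18_2 lc_b_rc_12_2 lc_b_rc_13_2 lc_b_rc_12_2 lc_b_rc_10_0) (@D3.rec (fun _ => (Cert rels S Gen.b)) lc_b_rc_13_2 lc_b_rc_18_2 lc_b_rc_15_2 lc_b_rc_13_2 lc_b_rc_14_2 lc_b_rc_1_3 lc_b_rc_13_2 lc_b_rc_18_2 lc_b_rc_12_2 lc_b_rc_15_2 lc_b_rc_18_2 lc_b_rc_14_2 lc_b_rc_16_2 lc_b_rc_15_2 lc_b_rc_14_2 lc_b_rc_1_3 lc_b_rc_13_2 lc_b_rc_18_2 lc_b_rc_15_2 lc_b_rc_18_2 lc_b_rc_14_2 lc_b_rc_14_2 lc_b_rc_15_2 lc_b_rc_14_2 lc_b_rc_1_3 lc_b_rc_1_3 lc_b_rc_15_2 lc_b_rc_18_2 lc_b_rc_14_2 lc_b_rc_16_2 lc_b_rc_18_2 lc_b_rc_14_2 lc_b_rc_12_2 lc_b_rc_17_2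 lc_b_rc_16_2 lc_b_rc_15_2 lc_b_rc_56_36 lc_b_rc_1_3 lc_b_rc_16_2 lc_b_rc_18_2 lc_b_rc_14_2 lc_b_rc_12_2 lc_b_rc_17_2 lc_b_rc_18_2 lc_b_rc_14_2 lc_b_rc_12_2 lc_b_rc_13_2 lc_b_rc_17_2 lc_b_rc_16_2 lc_b_rc_13_2 lc_b_rc_13_2) (@D3.rec (fun _ => (Cert rels S Gen.b)) lc_b_rc_17_2 lc_b_rc_16_2 lc_b_rc_18_2 lc_b_rc_14_0 lc_b_rc_13_2 lc_b_rc_12_0 lc_b_rc_1_3 lc_b_rc_12_2 lc_b_rc_15_2 lc_b_rc_11_4 lc_b_rc_14_2 lc_b_rc_1_3 lc_b_rc_18_2 lc_b_rc_12_2 lc_b_rc_12_2 lc_b_rc_13_2 lc_b_rc_14_2 lc_b_rc_18_2 lc_b_rc_12_2 lc_b_rc_18_2 lc_b_rc_1_3 lc_b_rc_56_50 lc_b_rc_15_2 lc_b_rc_15_2 lc_b_Cert_tree lc_b_rc_12_2 lc_b_rc_12_2 lc_b_rc_10_0 lc_b_rc_13_2 lc_b_rc_18_2 lc_b_rc_12_2 lc_b_rc_14_2 lc_b_rc_14_2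 lc_b_rc_18_2 lc_b_rc_10_0 lc_b_rc_14_2 lc_b_rc_18_2 lc_b_rc_18_2 lc_b_rc_15_2 lc_b_rc_13_2 lc_b_rc_18_2 lc_b_rc_12_2 lc_b_rc_18_2 lc_b_rc_12_0 lc_b_rc_18_2 lc_b_rc_12_0 lc_b_rc_13_2 lc_b_rc_18_2 lc_b_rc_14_2 lc_b_rc_14_0 lc_b_rc_15_2) (@D3.rec (fun _ => (Cert rels S Gen.b)) lc_b_rc_17_2 lc_b_rc_18_2 lc_b_rc_15_2 lc_b_rc_14_2 lc_b_rc_14_2 lc_b_rc_14_2 lc_b_rc_12_2 lc_b_rc_13_2 lc_b_rc_15_2 lc_b_rc_14_2 lc_b_rc_14_2 lc_b_rc_12_2 lc_b_rc_12_2 lc_b_rc_14_2 lc_b_rc_12_2 lc_b_rc_1_3 lc_b_rc_12_2 lc_b_rc_13_2 lc_b_rc_1_3 lc_b_rc_11_2 lc_b_rc_13_2 lc_b_rc_55_11 lc_b_rc_14_2 lc_b_rc_16_2 lc_b_rc_1_3 lc_b_rc_12_2 lc_b_rc_12_0 lc_b_rc_15_2 lc_b_rc_18_2 lc_b_rc_15_2 lc_b_rc_18_2 lc_b_rc_12_2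 lc_b_rc_14_2 lc_b_rc_12_0 lc_b_rc_18_2 lc_b_rc_1_3 lc_b_rc_18_2 lc_b_rc_14_2 lc_b_rc_12_2 lc_b_rc_16_2 lc_b_rc_55_56 lc_b_rc_12_2 lc_b_rc_12_0 lc_b_rc_12_2 lc_b_rc_18_2 lc_b_rc_14_2 lc_b_rc_11_2 lc_b_rc_12_2 lc_b_rc_14_2 lc_b_rc_14_2 lc_b_rc_14_2) (@D3.rec (fun _ => (Cert rels S Gen.b)) lc_b_rc_12_2 lc_b_rc_13_2 lc_b_rc_15_2 lc_b_rc_11_2 lc_b_rc_13_2 lc_b_rc_1_3 lc_b_rc_14_2 lc_b_rc_12_2 lc_b_rc_1_3 lc_b_rc_1_3 lc_b_rc_14_2 lc_b_rc_12_2 lc_b_rc_13_2 lc_b_rc_1_3 lc_b_rc_12_2 lc_b_rc_13_2 lc_b_rc_1_3 lc_b_rc_11_2 lc_b_rc_13_2 lc_b_rc_15_2 lc_b_rc_14_2 lc_b_rc_1_3 lc_b_rc_11_2 lc_b_rc_15_2 lc_b_rc_16_2 lc_b_rc_1_3 lc_b_rc_18_2 lc_b_rc_14_2 lc_b_rc_1_3 lc_b_rc_18_2 lc_b_rc_14_2 lc_b_rc_1_3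 lc_b_rc_14_2 lc_b_rc_12_2 lc_b_rc_1_3 lc_b_rc_12_2 lc_b_rc_13_2 lc_b_rc_18_2 lc_b_rc_13_0 lc_b_rc_12_2 lc_b_rc_18_2 lc_b_rc_14_2 lc_b_rc_1_3 lc_b_rc_12_2 lc_b_rc_12_2 lc_b_rc_12_2 lc_b_rc_12_2 lc_b_rc_12_0 lc_b_rc_14_2 lc_b_rc_1_3 lc_b_rc_15_2) (@D3.rec (fun _ => (Cert rels S Gen.b)) lc_b_rc_18_2 lc_b_rc_14_2 lc_b_rc_15_2 lc_b_rc_13_2 lc_b_rc_18_2 lc_b_rc_16_2 lc_b_rc_18_2 lc_b_rc_14_2 lc_b_rc_15_0 lc_b_rc_13_2 lc_b_rc_14_2 lc_b_rc_12_2 lc_b_rc_1_3 lc_b_rc_15_2 lc_b_rc_18_2 lc_b_rc_18_2 lc_b_rc_13_2 lc_b_rc_14_2 lc_b_rc_1_3 lc_b_rc_1_3 lc_b_rc_1_3 lc_b_rc_16_2 lc_b_rc_18_2 lc_b_rc_14_2 lc_b_rc_1_3 lc_b_rc_18_2 lc_b_rc_14_2 lc_b_rc_12_2 lc_b_rc_12_0 lc_b_rc_12_2 lc_b_rc_14_2 lc_b_rc_15_0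 lc_b_rc_1_3 lc_b_rc_55_20 lc_b_rc_17_2 lc_b_rc_18_2 lc_b_rc_14_2 lc_b_rc_12_2 lc_b_rc_18_2 lc_b_rc_14_2 lc_b_rc_12_2 lc_b_rc_14_0 lc_b_rc_16_2 lc_b_rc_18_2 lc_b_rc_14_2 lc_b_rc_12_0 lc_b_rc_18_2 lc_b_rc_12_0 lc_b_rc_13_2 lc_b_rc_55_2 lc_b_rc_12_2) (@D3.rec (fun _ => (Cert rels S Gen.b)) lc_b_rc_10_0 lc_b_rc_18_2 lc_b_rc_14_2 lc_b_rc_1_3 lc_b_rc_12_0 lc_b_rc_18_2 lc_b_rc_12_2 lc_b_rc_14_2 lc_b_rc_14_0 lc_b_rc_1_3 lc_b_rc_14_0 lc_b_rc_14_2 lc_b_rc_18_2 lc_b_rc_14_2 lc_b_rc_11_2 lc_b_rc_11_2 lc_b_rc_11_2 lc_b_rc_11_4 lc_b_rc_13_2 lc_b_rc_12_0 lc_b_rc_11_2 lc_b_rc_11_2 lc_b_rc_11_2 lc_b_rc_11_2 lc_b_rc_11_2 lc_b_rc_11_2 lc_b_rc_12_2 lc_b_rc_11_2 lc_b_rc_14_2 lc_b_rc_15_0 lc_b_rc_13_2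 lc_b_rc_13_2 lc_b_rc_16_2 lc_b_rc_11_2 lc_b_rc_11_2 lc_b_rc_11_2 lc_b_rc_11_2 lc_b_rc_11_2 lc_b_rc_11_2 lc_b_rc_11_2 lc_b_rc_11_2 lc_b_rc_12_2 lc_b_rc_12_2 lc_b_rc_18_2 lc_b_rc_14_2 lc_b_rc_14_2 lc_b_rc_1_3 lc_b_rc_18_2 lc_b_rc_14_2 lc_b_rc_1_3 lc_b_rc_18_2) (@D3.rec (fun _ => (Cert rels S Gen.b)) lc_b_rc_14_2 lc_b_rc_1_3 lc_b_rc_14_2 lc_b_rc_12_2 lc_b_rc_1_3 lc_b_rc_12_2 lc_b_rc_12_2 lc_b_rc_14_2 lc_b_rc_18_2 lc_b_rc_11_2 lc_b_rc_12_2 lc_b_rc_11_2 lc_b_rc_15_2 lc_b_rc_13_2 lc_b_rc_12_2 lc_b_rc_12_2 lc_b_rc_17_0 lc_b_rc_12_2 lc_b_rc_13_2 lc_b_rc_14_2 lc_b_rc_15_2 lc_b_rc_12_2 lc_b_rc_13_2 lc_b_rc_14_2 lc_b_rc_12_2 lc_b_rc_17_0 lc_b_rc_12_2 lc_b_rc_13_2 lc_b_rc_14_2 lc_b_rc_14_2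 lc_b_rc_18_2 lc_b_rc_14_2 lc_b_rc_18_2 lc_b_rc_12_2 lc_b_rc_12_2 lc_b_rc_15_2 lc_b_rc_13_2 lc_b_rc_14_2 lc_b_rc_16_2 lc_b_rc_15_2 lc_b_rc_14_2 lc_b_rc_17_2 lc_b_rc_16_2 lc_b_rc_15_2 lc_b_rc_12_2 lc_b_rc_14_2 lc_b_rc_14_2 lc_b_rc_18_2 lc_b_Cert_tree lc_b_rc_14_2 lc_b_rc_18_2) (@D3.rec (fun _ => (Cert rels S Gen.b)) lc_b_rc_11_2 lc_b_rc_11_2 lc_b_rc_12_2 lc_b_rc_11_2 lc_b_rc_12_2 lc_b_rc_11_2 lc_b_Cert_tree lc_b_rc_13_2 lc_b_rc_12_2 lc_b_rc_10_0 lc_b_rc_13_2 lc_b_rc_18_2 lc_b_rc_13_2 lc_b_rc_14_2 lc_b_rc_16_0 lc_b_rc_12_2 lc_b_rc_15_2 lc_b_rc_13_2 lc_b_rc_14_2 lc_b_rc_14_2 lc_b_rc_18_2 lc_b_rc_14_2 lc_b_rc_12_2 lc_b_rc_10_0 lc_b_rc_18_2 lc_b_rc_12_0 lc_b_rc_18_2 lc_b_rc_14_2 lc_b_rc_1_3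 lc_b_rc_18_2 lc_b_rc_1_3 lc_b_rc_14_2 lc_b_rc_12_2 lc_b_rc_15_2 lc_b_rc_15_2 lc_b_rc_12_2 lc_b_rc_13_2 lc_b_rc_12_2 lc_b_rc_12_2 lc_b_rc_13_2 lc_b_rc_14_2 lc_b_rc_15_0 lc_b_rc_12_2 lc_b_rc_15_2 lc_b_rc_12_2 lc_b_rc_12_2 lc_b_rc_12_2 lc_b_rc_14_2 lc_b_rc_13_2 lc_b_rc_13_2 lc_b_rc_14_2) (@D3.rec (fun _ => (Cert rels S Gen.b)) lc_b_rc_16_0 lc_b_rc_12_2 lc_b_rc_14_2 lc_b_rc_14_2 lc_b_rc_14_2 lc_b_rc_18_2 lc_b_rc_14_2 lc_b_rc_18_2 lc_b_rc_14_2 lc_b_rc_18_2 lc_b_rc_15_2 lc_b_rc_18_2 lc_b_rc_18_2 lc_b_rc_12_2 lc_b_rc_11_2 lc_b_rc_15_2 lc_b_rc_13_2 lc_b_rc_12_2 lc_b_rc_12_2 lc_b_rc_16_2 lc_b_rc_15_2 lc_b_rc_13_2 lc_b_rc_14_2 lc_b_rc_18_2 lc_b_rc_56_43 lc_b_rc_18_2 lc_b_rc_14_2 lc_b_rc_16_2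 lc_b_rc_15_2 lc_b_rc_14_2 lc_b_rc_16_2 lc_b_rc_15_2 lc_b_rc_14_2 lc_b_rc_17_2 lc_b_rc_16_2 lc_b_rc_15_2 lc_b_rc_12_2 lc_b_rc_17_2 lc_b_rc_16_2 lc_b_rc_15_2 lc_b_rc_13_2 lc_b_rc_14_2 lc_b_rc_12_2 lc_b_rc_14_2 lc_b_rc_14_2 lc_b_rc_18_2 lc_b_rc_14_2 lc_b_rc_18_2 lc_b_rc_18_0 lc_b_rc_14_2 lc_b_rc_18_2) (@D3.rec (fun _ => (Cert rels S Gen.b)) lc_b_rc_14_0 lc_b_rc_18_2 lc_b_rc_18_2 lc_b_rc_11_2 lc_b_rc_12_2 lc_b_rc_11_2 lc_b_Cert_tree lc_b_rc_13_2 lc_b_rc_12_2 lc_b_rc_10_0 lc_b_rc_13_2 lc_b_rc_12_2 lc_b_rc_10_0 lc_b_rc_18_0 lc_b_rc_18_2 lc_b_rc_15_2 lc_b_rc_13_2 lc_b_rc_14_2 lc_b_rc_18_2 lc_b_rc_15_2 lc_b_rc_14_2 lc_b_rc_14_2 lc_b_rc_15_2 lc_b_rc_13_2 lc_b_rc_14_2 lc_b_rc_15_2 lc_b_rc_14_2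 lc_b_rc_12_2 lc_b_rc_18_2 lc_b_rc_10_0 lc_b_rc_12_2 lc_b_rc_10_0 lc_b_rc_13_2 lc_b_rc_18_2 lc_b_rc_13_2 lc_b_rc_14_2 lc_b_rc_14_0 lc_b_rc_14_2 lc_b_rc_18_2 lc_b_rc_14_2 lc_b_rc_1_3 lc_b_rc_14_2 lc_b_rc_12_2 lc_b_rc_15_2 lc_b_rc_14_2 lc_b_rc_13_2 lc_b_rc_18_2 lc_b_rc_18_2 lc_b_rc_14_2 lc_b_rc_14_2 lc_b_rc_56_57) (@D3.rec (fun _ => (Cert rels S Gen.b)) lc_b_rc_14_2 lc_b_rc_12_2 lc_b_rc_1_3 lc_b_rc_12_2 lc_b_rc_55_29 lc_b_rc_12_2 lc_b_rc_14_2 lc_b_rc_14_2 lc_b_rc_14_2 lc_b_rc_18_2 lc_b_rc_18_2 lc_b_rc_16_2 lc_b_rc_15_2 lc_b_rc_12_2 lc_b_rc_15_2 lc_b_rc_12_2 lc_b_rc_13_2 lc_b_rc_1_1 lc_b_rc_12_2 lc_b_rc_12_2 lc_b_rc_1_1 lc_b_rc_12_2 lc_b_rc_14_2 lc_b_rc_15_2 lc_b_rc_13_2 lc_b_rc_14_2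 lc_b_rc_11_2 lc_b_rc_14_2 lc_b_rc_1_3 lc_b_rc_14_2 lc_b_rc_14_2 lc_b_rc_18_2 lc_b_rc_14_2 lc_b_rc_18_2 lc_b_rc_13_2 lc_b_rc_11_2 lc_b_rc_18_2 lc_b_rc_13_2 lc_b_rc_11_2 lc_b_rc_18_2 lc_b_rc_16_2 lc_b_rc_12_2 lc_b_rc_15_2 lc_b_rc_15_2 lc_b_rc_13_2 lc_b_rc_12_2 lc_b_rc_12_2 lc_b_rc_13_2 lc_b_rc_12_2 lc_b_rc_12_2 lc_b_rc_14_2) (@D3.rec (fun _ => (Cert rels S Gen.b)) lc_b_rc_13_2 lc_b_rc_16_2 lc_b_rc_14_0 lc_b_rc_14_2 lc_b_rc_12_0 lc_b_rc_15_2 lc_b_rc_14_2 lc_b_rc_17_2 lc_b_rc_18_2 lc_b_rc_1_1 lc_b_rc_12_2 lc_b_rc_12_2 lc_b_rc_13_0 lc_b_rc_1_3 lc_b_rc_12_0 lc_b_rc_1_3 lc_b_rc_12_0 lc_b_rc_14_0 lc_b_rc_14_2 lc_b_rc_12_2 lc_b_rc_18_2 lc_b_rc_14_2 lc_b_rc_14_2 lc_b_rc_18_2 lc_b_Cert_tree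 lc_b_rc_14_2 lc_b_rc_18_2 lc_b_Cert_tree lc_b_rc_14_2 lc_b_rc_18_2 lc_b_rc_10_0 lc_b_rc_11_4 lc_b_rc_18_2 lc_b_rc_15_2 lc_b_rc_18_2 lc_b_rc_18_2 lc_b_rc_18_2 lc_b_rc_11_4 lc_b_rc_14_2 lc_b_rc_16_2 lc_b_rc_18_2 lc_b_rc_18_2 lc_b_rc_12_2 lc_b_rc_11_2 lc_b_Cert_tree lc_b_rc_13_2 lc_b_rc_12_2 lc_b_rc_10_0 lc_b_rc_13_2 lc_b_rc_18_2 lc_b_rc_15_2) (@D3.rec (fun _ => (Cert rels S Gen.b)) lc_b_rc_13_2 lc_b_rc_14_2 lc_b_rc_10_0 lc_b_rc_18_2 lc_b_rc_15_2 lc_b_rc_13_2 lc_b_rc_14_2 lc_b_rc_16_2 lc_b_rc_13_2 lc_b_rc_18_2 lc_b_rc_15_2 lc_b_rc_18_2 lc_b_rc_14_2 lc_b_rc_16_2 lc_b_rc_15_2 lc_b_rc_14_2 lc_b_rc_18_2 lc_b_rc_18_2 lc_b_rc_14_2 lc_b_rc_11_4 lc_b_rc_11_4 lc_b_rc_14_2 lc_b_rc_12_2 lc_b_rc_17_2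 lc_b_rc_16_2 lc_b_rc_15_2 lc_b_rc_12_2 lc_b_rc_16_2 lc_b_rc_15_2 lc_b_rc_14_2 lc_b_rc_17_2 lc_b_rc_16_2 lc_b_rc_15_2 lc_b_rc_12_2 lc_b_rc_17_2 lc_b_rc_16_2 lc_b_rc_12_2 lc_b_Cert_tree lc_b_rc_17_2 lc_b_rc_10_0 lc_b_rc_18_2 lc_b_rc_14_2 lc_b_rc_12_0 lc_b_rc_13_2 lc_b_rc_18_2 lc_b_rc_12_2 lc_b_rc_18_2 lc_b_rc_14_2 lc_b_rc_14_2 lc_b_rc_1_3 lc_b_rc_18_2) (@D3.rec (fun _ => (Cert rels S Gen.b)) lc_b_rc_14_2 lc_b_rc_12_0 lc_b_rc_14_2 lc_b_rc_12_2 lc_b_rc_13_2 lc_b_rc_12_2 lc_b_rc_13_2 lc_b_rc_1_3 lc_b_rc_18_2 lc_b_rc_14_2 lc_b_rc_1_3 lc_b_rc_1_3 lc_b_rc_18_2 lc_b_rc_14_2 lc_b_rc_14_2 lc_b_rc_12_2 lc_b_rc_1_3 lc_b_rc_14_2 lc_b_rc_12_2 lc_b_rc_1_3 lc_b_rc_12_2 lc_b_rc_13_2 lc_b_rc_18_2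 lc_b_rc_14_2 lc_b_rc_13_2 lc_b_rc_11_4 lc_b_rc_11_4 lc_b_rc_13_2 lc_b_rc_18_2 lc_b_rc_14_2 lc_b_rc_18_2 lc_b_rc_14_2 lc_b_rc_18_2 lc_b_rc_14_2 lc_b_rc_13_2 lc_b_rc_13_2 lc_b_rc_12_2 lc_b_rc_13_2 lc_b_rc_17_2 lc_b_rc_18_2 lc_b_rc_55_38 lc_b_rc_13_0 lc_b_rc_1_1 lc_b_rc_12_0 lc_b_rc_55_47 lc_b_rc_1_1 lc_b_rc_13_2 lc_b_rc_12_2 lc_b_rc_13_2 lc_b_rc_56_29 lc_b_rc_10_0) (@D3.rec (fun _ => (Cert rels S Gen.b)) lc_b_rc_12_2 lc_b_rc_55_47 lc_b_rc_18_2 lc_b_rc_14_2 lc_b_rc_1_3 lc_b_rc_14_2 lc_b_rc_14_2 lc_b_rc_1_3 lc_b_rc_18_2 lc_b_rc_14_2 lc_b_rc_14_2 lc_b_rc_15_2 lc_b_Cert_tree lc_b_rc_14_2 lc_b_rc_18_2 lc_b_rc_10_0 lc_b_rc_12_2 lc_b_rc_15_2 lc_b_rc_56_29 lc_b_rc_1_1 lc_b_rc_12_2 lc_b_rc_10_0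 lc_b_rc_18_2 lc_b_rc_12_2 lc_b_rc_13_2 lc_b_rc_14_2 lc_b_rc_56_50 lc_b_rc_17_0 lc_b_rc_13_2 lc_b_rc_14_2 lc_b_rc_14_2 lc_b_rc_12_2 lc_b_rc_14_2 lc_b_rc_18_2 lc_b_rc_14_2 lc_b_rc_1_3 lc_b_rc_14_2 lc_b_rc_14_2 lc_b_rc_18_2 lc_b_rc_12_2 lc_b_rc_13_2 lc_b_Cert_tree lc_b_rc_12_2 lc_b_rc_10_1 lc_b_rc_12_2 lc_b_rc_15_2 lc_b_Cert_tree lc_b_rc_13_2 lc_b_rc_18_2 lc_b_rc_16_2 lc_b_rc_14_2) (@D3.rec (fun _ => (Cert rels S Gen.b)) lc_b_rc_15_2 lc_b_rc_1_3 lc_b_rc_18_2 lc_b_rc_56_36 lc_b_rc_12_2 lc_b_rc_12_2 lc_b_rc_10_0 lc_b_rc_14_0 lc_b_rc_18_2 lc_b_rc_12_2 lc_b_rc_14_2 lc_b_rc_15_2 lc_b_rc_18_2 lc_b_rc_14_2 lc_b_rc_14_2 lc_b_rc_10_0 lc_b_rc_18_2 lc_b_rc_14_2 lc_b_rc_18_2 lc_b_rc_14_2 lc_b_rc_14_2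 lc_b_rc_15_2 lc_b_rc_14_0 lc_b_rc_10_0 lc_b_rc_10_0 lc_b_rc_11_4 lc_b_rc_13_2 lc_b_rc_18_2 lc_b_rc_10_0 lc_b_rc_11_4 lc_b_rc_18_2 lc_b_rc_13_2 lc_b_rc_18_2 lc_b_rc_18_2 lc_b_rc_55_38 lc_b_rc_15_2 lc_b_rc_56_22 lc_b_rc_13_2 lc_b_rc_13_0 lc_b_rc_10_0 lc_b_rc_14_2 lc_b_rc_15_2 lc_b_rc_13_2 lc_b_rc_18_2 lc_b_rc_17_2 lc_b_rc_18_2 lc_b_rc_14_2 lc_b_rc_16_2 lc_b_rc_15_2 lc_b_rc_14_2 lc_b_rc_14_2)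
def ce_b_12 : D2 → D3 → (Cert rels S Gen.b) := @D2.rec (fun _ => D3 → (Cert rels S Gen.b)) (@D3.rec (fun _ => (Cert rels S Gen.b)) lc_b_rc_13_2 lc_b_rc_16_2 lc_b_rc_15_2 lc_b_rc_12_2 lc_b_rc_56_50 lc_b_rc_15_2 lc_b_rc_14_2 lc_b_rc_12_2 lc_b_rc_1_3 lc_b_rc_14_2 lc_b_rc_18_2 lc_b_rc_11_4 lc_b_rc_13_2 lc_b_rc_14_2 lc_b_rc_11_4 lc_b_rc_11_4 lc_b_rc_11_4 lc_b_rc_15_2 lc_b_rc_11_4 lc_b_rc_15_2 lc_b_rc_12_2 lc_b_rc_12_2 lc_b_rc_18_2 lc_b_rc_14_2 lc_b_rc_18_2 lc_b_rc_11_4 lc_b_rc_15_2 lc_b_rc_15_2 lc_b_rc_12_2 lc_b_rc_14_2 lc_b_rc_11_4 lc_b_rc_14_2 lc_b_rc_18_2 lc_b_rc_14_2 lc_b_rc_1_3 lc_b_rc_14_2 lc_b_rc_12_2 lc_b_rc_14_2 lc_b_rc_18_2 lc_b_rc_15_2 lc_b_rc_15_2 lc_b_rc_13_2 lc_b_rc_12_2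 lc_b_rc_13_2 lc_b_rc_12_2 lc_b_rc_18_2 lc_b_rc_16_2 lc_b_rc_15_2 lc_b_rc_16_2 lc_b_rc_16_2 lc_b_rc_18_2) (@D3.rec (fun _ => (Cert rels S Gen.b)) lc_b_rc_11_2 lc_b_rc_10_0 lc_b_rc_18_2 lc_b_rc_15_2 lc_b_rc_15_2 lc_b_rc_12_2 lc_b_rc_15_2 lc_b_rc_12_2 lc_b_rc_13_2 lc_b_rc_12_2 lc_b_rc_12_2 lc_b_rc_12_2 lc_b_rc_10_0 lc_b_rc_18_2 lc_b_rc_12_2 lc_b_rc_14_2 lc_b_rc_16_0 lc_b_rc_13_2 lc_b_rc_14_2 lc_b_rc_13_2 lc_b_rc_13_2 lc_b_rc_1_3 lc_b_rc_15_2 lc_b_rc_12_2 lc_b_rc_18_2 lc_b_rc_14_2 lc_b_rc_18_2 lc_b_rc_12_0 lc_b_rc_12_0 lc_b_rc_15_2 lc_b_rc_14_2 lc_b_rc_18_2 lc_b_rc_14_2 lc_b_rc_16_2 lc_b_Cert_tree lc_b_rc_14_2 lc_b_rc_18_2 lc_b_rc_10_0 lc_b_rc_11_4 lc_b_rc_18_2 lc_b_rc_13_2 lc_b_rc_18_2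 lc_b_rc_18_2 lc_b_rc_14_2 lc_b_rc_12_2 lc_b_rc_11_2 lc_b_Cert_tree lc_b_rc_13_2 lc_b_rc_12_2 lc_b_rc_12_2 lc_b_rc_10_0) (@D3.rec (fun _ => (Cert rels S Gen.b)) lc_b_rc_18_2 lc_b_rc_15_2 lc_b_rc_13_2 lc_b_rc_14_2 lc_b_rc_1_3 lc_b_rc_13_2 lc_b_rc_18_2 lc_b_rc_10_1 lc_b_rc_18_2 lc_b_rc_14_2 lc_b_rc_12_2 lc_b_rc_12_2 lc_b_rc_14_2 lc_b_rc_16_0 lc_b_rc_13_0 lc_b_rc_15_2 lc_b_rc_14_2 lc_b_rc_13_2 lc_b_rc_14_2 lc_b_rc_12_2 lc_b_rc_14_2 lc_b_rc_18_2 lc_b_rc_13_2 lc_b_rc_12_2 lc_b_rc_10_0 lc_b_rc_11_4 lc_b_rc_18_2 lc_b_rc_13_2 lc_b_rc_14_2 lc_b_rc_14_2 lc_b_rc_18_2 lc_b_rc_14_2 lc_b_rc_12_0 lc_b_rc_14_2 lc_b_rc_12_2 lc_b_rc_13_2 lc_b_rc_14_2 lc_b_rc_1_3 lc_b_rc_13_2 lc_b_rc_18_2 lc_b_rc_18_2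 lc_b_rc_14_2 lc_b_rc_14_2 lc_b_rc_18_2 lc_b_rc_1_3 lc_b_rc_14_2 lc_b_rc_1_3 lc_b_rc_12_2 lc_b_rc_14_2 lc_b_rc_14_2 lc_b_rc_14_2) (@D3.rec (fun _ => (Cert rels S Gen.b)) lc_b_rc_18_2 lc_b_rc_18_2 lc_b_rc_15_2 lc_b_rc_12_2 lc_b_rc_15_2 lc_b_rc_12_2 lc_b_rc_13_2 lc_b_Cert_tree lc_b_rc_12_2 lc_b_rc_10_0 lc_b_rc_18_2 lc_b_rc_14_2 lc_b_rc_1_1 lc_b_rc_13_2 lc_b_rc_16_2 lc_b_rc_14_2 lc_b_rc_18_2 lc_b_rc_13_0 lc_b_rc_18_2 lc_b_Cert_tree lc_b_rc_13_2 lc_b_rc_18_2 lc_b_rc_10_0 lc_b_rc_12_2 lc_b_rc_18_2 lc_b_rc_13_2 lc_b_rc_18_2 lc_b_rc_16_2 lc_b_rc_12_2 lc_b_rc_15_2 lc_b_Cert_tree lc_b_rc_13_2 lc_b_rc_12_2 lc_b_rc_16_2 lc_b_rc_13_2 lc_b_rc_12_2 lc_b_rc_10_0 lc_b_rc_17_0 lc_b_rc_18_2 lc_b_rc_12_2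 lc_b_rc_12_2 lc_b_rc_14_2 lc_b_rc_1_3 lc_b_rc_13_2 lc_b_rc_18_2 lc_b_rc_18_2 lc_b_rc_14_2 lc_b_rc_13_2 lc_b_rc_13_2 lc_b_rc_13_2 lc_b_rc_14_2) (@D3.rec (fun _ => (Cert rels S Gen.b)) lc_b_rc_13_2 lc_b_rc_14_2 lc_b_rc_12_2 lc_b_rc_1_3 lc_b_Cert_tree lc_b_rc_13_2 lc_b_rc_12_2 lc_b_rc_10_0 lc_b_rc_18_2 lc_b_rc_13_2 lc_b_rc_14_2 lc_b_rc_10_0 lc_b_rc_18_2 lc_b_rc_14_2 lc_b_rc_1_3 lc_b_rc_18_2 lc_b_rc_14_2 lc_b_rc_1_3 lc_b_rc_14_2 lc_b_rc_12_2 lc_b_rc_13_2 lc_b_rc_14_2 lc_b_rc_13_2 lc_b_rc_16_2 lc_b_rc_14_2 lc_b_rc_18_2 lc_b_Cert_tree lc_b_rc_14_2 lc_b_rc_18_2 lc_b_rc_1_3 lc_b_rc_1_1 lc_b_rc_18_2 lc_b_rc_10_0 lc_b_rc_11_4 lc_b_rc_18_2 lc_b_rc_15_2 lc_b_rc_18_2 lc_b_rc_18_2 lc_b_rc_18_2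 lc_b_rc_11_4 lc_b_rc_14_2 lc_b_rc_16_2 lc_b_rc_18_2 lc_b_rc_18_2 lc_b_rc_15_0 lc_b_rc_15_0 lc_b_rc_16_0 lc_b_rc_13_2 lc_b_rc_12_2 lc_b_rc_10_0 lc_b_rc_13_2) (@D3.rec (fun _ => (Cert rels S Gen.b)) lc_b_rc_18_2 lc_b_rc_15_2 lc_b_rc_13_2 lc_b_rc_14_2 lc_b_rc_15_0 lc_b_rc_16_0 lc_b_rc_15_2 lc_b_rc_13_2 lc_b_rc_14_2 lc_b_rc_1_3 lc_b_rc_13_2 lc_b_rc_18_2 lc_b_rc_15_2 lc_b_rc_18_2 lc_b_rc_14_2 lc_b_rc_16_2 lc_b_rc_15_2 lc_b_rc_14_2 lc_b_rc_1_3 lc_b_rc_18_2 lc_b_rc_14_2 lc_b_rc_16_2 lc_b_rc_18_2 lc_b_rc_14_2 lc_b_rc_12_2 lc_b_rc_17_2 lc_b_rc_16_2 lc_b_rc_15_2 lc_b_rc_12_2 lc_b_rc_13_2 lc_b_rc_14_2 lc_b_rc_17_2 lc_b_rc_16_2 lc_b_rc_15_2 lc_b_rc_12_2 lc_b_rc_17_2 lc_b_rc_16_2 lc_b_rc_12_2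 lc_b_Cert_tree lc_b_rc_11_2 lc_b_rc_16_0 lc_b_rc_13_2 lc_b_rc_14_2 lc_b_rc_16_2 lc_b_rc_13_2 lc_b_rc_18_2 lc_b_rc_12_2 lc_b_rc_18_2 lc_b_rc_14_2 lc_b_rc_14_2 lc_b_rc_11_2) (@D3.rec (fun _ => (Cert rels S Gen.b)) lc_b_rc_1_3 lc_b_rc_14_2 lc_b_rc_12_2 lc_b_rc_1_3 lc_b_rc_12_2 lc_b_rc_10_1 lc_b_rc_14_2 lc_b_rc_1_3 lc_b_rc_1_3 lc_b_rc_18_2 lc_b_rc_14_2 lc_b_rc_14_2 lc_b_rc_12_2 lc_b_rc_1_3 lc_b_rc_18_2 lc_b_rc_16_2 lc_b_rc_11_4 lc_b_rc_16_2 lc_b_rc_11_4 lc_b_rc_11_4 lc_b_rc_16_2 lc_b_rc_15_2 lc_b_rc_16_2 lc_b_rc_12_2 lc_b_rc_15_2 lc_b_rc_12_2 lc_b_rc_15_2 lc_b_rc_12_2 lc_b_rc_13_2 lc_b_rc_18_0 lc_b_rc_12_2 lc_b_rc_14_0 lc_b_rc_14_2 lc_b_rc_13_2 lc_b_rc_12_2 lc_b_rc_15_2 lc_b_rc_13_2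 lc_b_rc_12_2 lc_b_rc_17_2 lc_b_rc_12_2 lc_b_rc_18_0 lc_b_rc_14_0 lc_b_rc_14_2 lc_b_rc_13_2 lc_b_rc_18_2 lc_b_rc_14_2 lc_b_rc_12_0 lc_b_rc_12_0 lc_b_rc_55_65 lc_b_rc_1_3 lc_b_rc_14_2) (@D3.rec (fun _ => (Cert rels S Gen.b)) lc_b_rc_12_2 lc_b_rc_18_2 lc_b_rc_14_2 lc_b_rc_14_2 lc_b_rc_18_2 lc_b_rc_14_2 lc_b_rc_18_2 lc_b_rc_14_2 lc_b_rc_18_2 lc_b_rc_15_2 lc_b_rc_18_2 lc_b_rc_18_2 lc_b_rc_18_2 lc_b_rc_12_2 lc_b_rc_11_2 lc_b_rc_56_8 lc_b_rc_13_2 lc_b_rc_12_2 lc_b_rc_10_0 lc_b_rc_13_2 lc_b_rc_18_2 lc_b_rc_15_2 lc_b_rc_13_2 lc_b_rc_14_2 lc_b_rc_12_2 lc_b_rc_15_2 lc_b_rc_13_2 lc_b_rc_14_2 lc_b_rc_18_2 lc_b_rc_1_1 lc_b_rc_1_1 lc_b_rc_14_2 lc_b_rc_18_0 lc_b_rc_15_2 lc_b_rc_14_2 lc_b_rc_14_2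 lc_b_rc_18_2 lc_b_rc_17_2 lc_b_rc_16_2 lc_b_rc_15_2 lc_b_rc_12_2 lc_b_rc_16_2 lc_b_rc_15_2 lc_b_rc_14_2 lc_b_rc_12_0 lc_b_rc_12_0 lc_b_rc_15_2 lc_b_rc_12_2 lc_b_rc_18_2 lc_b_rc_14_2 lc_b_rc_55_38) (@D3.rec (fun _ => (Cert rels S Gen.b)) lc_b_rc_1_3 lc_b_rc_14_2 lc_b_rc_56_43 lc_b_rc_12_2 lc_b_rc_13_2 lc_b_rc_13_2 lc_b_rc_18_2 lc_b_rc_56_22 lc_b_rc_13_2 lc_b_rc_14_2 lc_b_rc_14_2 lc_b_rc_18_2 lc_b_rc_14_2 lc_b_rc_18_2 lc_b_rc_18_2 lc_b_rc_18_2 lc_b_rc_16_2 lc_b_rc_12_2 lc_b_rc_15_2 lc_b_rc_11_4 lc_b_rc_13_2 lc_b_rc_12_2 lc_b_rc_11_4 lc_b_rc_12_2 lc_b_rc_11_4 lc_b_rc_14_2 lc_b_rc_11_4 lc_b_rc_1_3 lc_b_rc_10_1 lc_b_rc_12_0 lc_b_rc_11_2 lc_b_rc_14_2 lc_b_rc_18_2 lc_b_rc_13_2 lc_b_rc_18_2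 lc_b_rc_13_2 lc_b_rc_18_2 lc_b_rc_1_3 lc_b_rc_1_3 lc_b_rc_18_2 lc_b_rc_1_3 lc_b_rc_12_2 lc_b_rc_16_2 lc_b_rc_15_2 lc_b_rc_13_2 lc_b_rc_12_2 lc_b_rc_10_0 lc_b_rc_13_2 lc_b_rc_18_2 lc_b_rc_13_2 lc_b_rc_13_2) (@D3.rec (fun _ => (Cert rels S Gen.b)) lc_b_rc_14_2 lc_b_rc_13_2 lc_b_rc_18_2 lc_b_rc_18_0 lc_b_rc_17_2 lc_b_rc_14_2 lc_b_rc_18_2 lc_b_rc_15_2 lc_b_rc_13_2 lc_b_rc_14_2 lc_b_rc_16_2 lc_b_rc_16_2 lc_b_rc_14_2 lc_b_rc_14_2 lc_b_rc_1_3 lc_b_rc_16_2 lc_b_rc_12_0 lc_b_rc_14_2 lc_b_rc_14_2 lc_b_rc_13_2 lc_b_rc_14_0 lc_b_rc_16_2 lc_b_rc_13_2 lc_b_rc_12_2 lc_b_rc_13_2 lc_b_rc_18_2 lc_b_rc_13_2 lc_b_rc_1_3 lc_b_rc_13_2 lc_b_rc_18_2 lc_b_rc_12_2 lc_b_rc_18_2 lc_b_rc_1_3 lc_b_rc_1_3 lc_b_rc_12_2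 lc_b_rc_18_2 lc_b_Cert_tree lc_b_rc_12_2 lc_b_rc_12_2 lc_b_rc_14_2 lc_b_rc_18_2 lc_b_Cert_tree lc_b_rc_14_2 lc_b_rc_18_2 lc_b_rc_10_0 lc_b_rc_13_2 lc_b_rc_18_2 lc_b_rc_15_2 lc_b_rc_18_2 lc_b_rc_18_2 lc_b_rc_10_0) (@D3.rec (fun _ => (Cert rels S Gen.b)) lc_b_rc_17_2 lc_b_rc_18_2 lc_b_rc_15_2 lc_b_rc_18_2 lc_b_rc_18_2 lc_b_rc_18_2 lc_b_rc_15_2 lc_b_rc_18_2 lc_b_rc_14_2 lc_b_rc_16_2 lc_b_rc_18_2 lc_b_rc_18_2 lc_b_rc_14_2 lc_b_rc_16_2 lc_b_rc_18_2 lc_b_rc_14_2 lc_b_rc_17_2 lc_b_rc_18_2 lc_b_rc_18_2 lc_b_rc_12_2 lc_b_Cert_tree lc_b_rc_13_2 lc_b_rc_12_2 lc_b_rc_10_0 lc_b_rc_13_2 lc_b_rc_18_2 lc_b_rc_15_2 lc_b_rc_13_2 lc_b_rc_14_2 lc_b_rc_14_0 lc_b_rc_13_2 lc_b_rc_18_2 lc_b_rc_12_2 lc_b_rc_15_2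 lc_b_rc_18_2 lc_b_rc_14_2 lc_b_rc_16_2 lc_b_rc_15_2 lc_b_rc_14_2 lc_b_rc_10_0 lc_b_rc_13_2 lc_b_rc_18_2 lc_b_rc_15_2 lc_b_rc_18_2 lc_b_rc_14_2 lc_b_rc_16_2 lc_b_rc_15_2 lc_b_rc_14_2 lc_b_rc_11_2 lc_b_rc_15_2 lc_b_rc_18_2) (@D3.rec (fun _ => (Cert rels S Gen.b)) lc_b_rc_14_2 lc_b_rc_16_2 lc_b_rc_18_2 lc_b_rc_14_2 lc_b_rc_12_2 lc_b_rc_17_2 lc_b_rc_16_2 lc_b_rc_15_2 lc_b_rc_12_2 lc_b_rc_14_2 lc_b_rc_16_2 lc_b_rc_18_2 lc_b_rc_14_2 lc_b_rc_12_2 lc_b_rc_17_2 lc_b_rc_18_2 lc_b_rc_14_2 lc_b_rc_12_2 lc_b_rc_12_0 lc_b_rc_17_2 lc_b_rc_16_2 lc_b_rc_12_2 lc_b_Cert_tree lc_b_rc_17_2 lc_b_rc_16_2 lc_b_rc_15_2 lc_b_rc_12_2 lc_b_rc_17_2 lc_b_rc_16_2 lc_b_rc_12_2 lc_b_Cert_tree lc_b_rc_17_2 lc_b_rc_12_2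 lc_b_rc_14_0 lc_b_rc_10_0 lc_b_rc_10_0 lc_b_rc_16_2 lc_b_rc_18_2 lc_b_rc_13_2 lc_b_rc_14_2 lc_b_rc_15_2 lc_b_rc_13_2 lc_b_rc_18_2 lc_b_rc_12_2 lc_b_rc_14_2 lc_b_rc_14_2 lc_b_rc_11_2 lc_b_rc_1_3 lc_b_rc_1_3 lc_b_rc_12_2 lc_b_rc_18_2) (@D3.rec (fun _ => (Cert rels S Gen.b)) lc_b_rc_14_2 lc_b_rc_16_2 lc_b_rc_12_2 lc_b_rc_16_0 lc_b_rc_12_2 lc_b_rc_12_2 lc_b_rc_18_2 lc_b_rc_14_2 lc_b_rc_12_2 lc_b_rc_12_0 lc_b_rc_12_2 lc_b_rc_14_0 lc_b_rc_1_3 lc_b_rc_1_3 lc_b_rc_1_3 lc_b_rc_12_2 lc_b_rc_12_2 lc_b_rc_1_3 lc_b_rc_12_2 lc_b_rc_14_2 lc_b_rc_18_2 lc_b_rc_12_2 lc_b_rc_18_2 lc_b_rc_12_2 lc_b_rc_11_2 lc_b_rc_14_0 lc_b_rc_13_2 lc_b_rc_16_0 lc_b_rc_14_2 lc_b_rc_18_2 lc_b_Cert_tree lc_b_rc_12_2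 lc_b_rc_10_0 lc_b_rc_13_2 lc_b_rc_18_2 lc_b_rc_12_2 lc_b_rc_14_2 lc_b_rc_10_0 lc_b_rc_18_2 lc_b_rc_12_0 lc_b_rc_13_2 lc_b_rc_18_2 lc_b_rc_12_2 lc_b_rc_18_2 lc_b_rc_18_2 lc_b_rc_12_0 lc_b_rc_13_2 lc_b_rc_17_2 lc_b_rc_16_0 lc_b_rc_15_2 lc_b_rc_12_2) (@D3.rec (fun _ => (Cert rels S Gen.b)) lc_b_rc_18_2 lc_b_rc_14_2 lc_b_rc_12_2 lc_b_rc_13_2 lc_b_rc_13_0 lc_b_rc_12_0 lc_b_rc_12_2 lc_b_rc_18_0 lc_b_rc_18_0 lc_b_rc_18_2 lc_b_rc_14_2 lc_b_rc_12_2 lc_b_rc_12_2 lc_b_rc_14_2 lc_b_rc_18_2 lc_b_rc_12_2 lc_b_rc_13_2 lc_b_rc_14_2 lc_b_rc_13_2 lc_b_rc_18_2 lc_b_rc_56_43 lc_b_rc_18_2 lc_b_rc_14_2 lc_b_rc_15_2 lc_b_rc_14_2 lc_b_rc_14_2 lc_b_rc_18_2 lc_b_rc_18_2 lc_b_rc_10_1 lc_b_rc_18_2 lc_b_rc_13_2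 lc_b_rc_12_2 lc_b_rc_14_2 lc_b_rc_10_1 lc_b_rc_12_2 lc_b_rc_12_2 lc_b_rc_15_2 lc_b_rc_12_2 lc_b_rc_14_2 lc_b_rc_13_2 lc_b_rc_12_2 lc_b_rc_12_2 lc_b_rc_12_2 lc_b_rc_14_2 lc_b_rc_13_2 lc_b_rc_13_2 lc_b_rc_1_3 lc_b_rc_1_3 lc_b_rc_14_2 lc_b_rc_18_2 lc_b_rc_18_2) (@D3.rec (fun _ => (Cert rels S Gen.b)) lc_b_rc_16_2 lc_b_rc_12_2 lc_b_rc_18_2 lc_b_rc_12_2 lc_b_rc_11_2 lc_b_rc_15_2 lc_b_rc_13_2 lc_b_rc_12_2 lc_b_rc_10_0 lc_b_rc_13_2 lc_b_rc_18_2 lc_b_rc_15_2 lc_b_rc_13_2 lc_b_rc_14_2 lc_b_rc_10_0 lc_b_rc_18_2 lc_b_rc_14_2 lc_b_rc_13_2 lc_b_rc_18_2 lc_b_rc_15_2 lc_b_rc_18_2 lc_b_rc_14_2 lc_b_rc_16_2 lc_b_rc_15_2 lc_b_rc_14_2 lc_b_rc_18_2 lc_b_rc_14_2 lc_b_rc_16_2 lc_b_rc_18_2 lc_b_rc_14_2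 lc_b_rc_12_2 lc_b_rc_17_2 lc_b_rc_16_2 lc_b_rc_15_2 lc_b_rc_16_2 lc_b_rc_17_2 lc_b_rc_16_2 lc_b_rc_18_2 lc_b_rc_12_2 lc_b_rc_11_2 lc_b_rc_18_2 lc_b_rc_14_2 lc_b_rc_12_2 lc_b_rc_1_3 lc_b_rc_1_3 lc_b_rc_1_3 lc_b_rc_1_3 lc_b_rc_14_2 lc_b_rc_12_2 lc_b_rc_1_3 lc_b_rc_12_2) (@D3.rec (fun _ => (Cert rels S Gen.b)) lc_b_rc_1_1 lc_b_rc_12_2 lc_b_rc_18_2 lc_b_rc_14_2 lc_b_rc_18_2 lc_b_rc_14_2 lc_b_rc_18_2 lc_b_rc_18_2 lc_b_rc_18_2 lc_b_rc_13_2 lc_b_rc_12_2 lc_b_rc_10_0 lc_b_rc_13_2 lc_b_rc_18_2 lc_b_rc_13_2 lc_b_rc_14_2 lc_b_rc_10_0 lc_b_rc_18_2 lc_b_rc_14_2 lc_b_rc_1_3 lc_b_rc_18_2 lc_b_rc_14_2 lc_b_rc_56_50 lc_b_rc_14_2 lc_b_rc_12_2 lc_b_rc_1_3 lc_b_rc_18_2 lc_b_rc_14_2 lc_b_rc_1_3 lc_b_rc_18_2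 lc_b_rc_14_2 lc_b_rc_1_3 lc_b_rc_14_2 lc_b_rc_12_2 lc_b_rc_1_3 lc_b_rc_12_2 lc_b_rc_12_2 lc_b_rc_1_3 lc_b_rc_14_2 lc_b_rc_12_2 lc_b_rc_1_3 lc_b_rc_14_2 lc_b_rc_1_3 lc_b_rc_12_2 lc_b_rc_18_2 lc_b_rc_12_2 lc_b_rc_15_2 lc_b_rc_13_2 lc_b_rc_12_2 lc_b_rc_12_2 lc_b_rc_14_2) (@D3.rec (fun _ => (Cert rels S Gen.b)) lc_b_rc_18_0 lc_b_rc_13_2 lc_b_rc_1_3 lc_b_rc_18_0 lc_b_rc_13_0 lc_b_rc_16_2 lc_b_rc_18_2 lc_b_rc_15_0 lc_b_rc_1_3 lc_b_rc_13_2 lc_b_Cert_tree lc_b_rc_13_2 lc_b_rc_12_2 lc_b_rc_10_0 lc_b_rc_13_2 lc_b_rc_18_2 lc_b_rc_13_2 lc_b_rc_13_2 lc_b_rc_14_2 lc_b_rc_10_0 lc_b_rc_18_0 lc_b_rc_18_2 lc_b_rc_18_0 lc_b_rc_14_0 lc_b_rc_14_2 lc_b_rc_18_2 lc_b_rc_18_0 lc_b_rc_14_0 lc_b_rc_14_2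 lc_b_rc_15_2 lc_b_rc_13_2 lc_b_rc_14_2 lc_b_rc_13_2 lc_b_rc_12_2 lc_b_rc_17_2 lc_b_Cert_tree lc_b_rc_1_3 lc_b_rc_10_0 lc_b_rc_13_2 lc_b_rc_18_2 lc_b_rc_1_3 lc_b_rc_1_3 lc_b_rc_1_3 lc_b_rc_13_2 lc_b_rc_18_2 lc_b_rc_12_2 lc_b_rc_18_2 lc_b_rc_14_2 lc_b_rc_1_3 lc_b_rc_1_3 lc_b_rc_18_2) (@D3.rec (fun _ => (Cert rels S Gen.b)) lc_b_rc_14_2 lc_b_rc_1_3 lc_b_rc_14_2 lc_b_rc_12_2 lc_b_rc_1_3 lc_b_rc_12_2 lc_b_rc_13_2 lc_b_Cert_tree lc_b_rc_12_2 lc_b_rc_12_2 lc_b_rc_14_2 lc_b_rc_18_2 lc_b_Cert_tree lc_b_rc_14_2 lc_b_rc_18_2 lc_b_rc_10_0 lc_b_rc_13_2 lc_b_rc_18_2 lc_b_rc_15_2 lc_b_rc_18_2 lc_b_rc_18_2 lc_b_rc_10_0 lc_b_rc_18_2 lc_b_rc_18_2 lc_b_rc_13_2 lc_b_rc_18_2 lc_b_rc_15_2 lc_b_rc_18_2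 lc_b_rc_14_2 lc_b_rc_16_2 lc_b_rc_18_2 lc_b_rc_18_2 lc_b_rc_18_2 lc_b_rc_14_2 lc_b_rc_14_2 lc_b_rc_12_2 lc_b_rc_17_2 lc_b_rc_18_2 lc_b_rc_18_2 lc_b_rc_13_0 lc_b_rc_13_2 lc_b_rc_12_2 lc_b_rc_10_0 lc_b_rc_13_2 lc_b_rc_18_2 lc_b_rc_15_2 lc_b_rc_13_2 lc_b_rc_14_2 lc_b_rc_15_2 lc_b_rc_13_2 lc_b_rc_18_2) (@D3.rec (fun _ => (Cert rels S Gen.b)) lc_b_rc_12_2 lc_b_rc_15_2 lc_b_rc_18_2 lc_b_rc_14_2 lc_b_rc_16_2 lc_b_rc_15_2 lc_b_rc_14_2 lc_b_rc_17_2 lc_b_rc_13_2 lc_b_rc_18_2 lc_b_rc_15_2 lc_b_rc_18_2 lc_b_rc_14_2 lc_b_rc_15_2 lc_b_rc_14_2 lc_b_rc_16_2 lc_b_rc_18_2 lc_b_rc_15_2 lc_b_rc_18_2 lc_b_rc_14_2 lc_b_rc_16_2 lc_b_rc_18_2 lc_b_rc_14_2 lc_b_rc_12_2 lc_b_rc_17_2 lc_b_rc_16_2 lc_b_rc_15_2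 lc_b_rc_18_2 lc_b_rc_14_2 lc_b_rc_16_2 lc_b_rc_18_2 lc_b_rc_14_2 lc_b_rc_12_2 lc_b_rc_17_2 lc_b_rc_18_2 lc_b_rc_14_2 lc_b_rc_12_2 lc_b_rc_11_2 lc_b_rc_17_2 lc_b_rc_16_2 lc_b_rc_17_2 lc_b_rc_14_0 lc_b_rc_14_2 lc_b_rc_18_2 lc_b_rc_12_2 lc_b_rc_11_4 lc_b_rc_14_2 lc_b_rc_14_2 lc_b_rc_1_3 lc_b_rc_12_2 lc_b_rc_18_2) (@D3.rec (fun _ => (Cert rels S Gen.b)) lc_b_rc_14_2 lc_b_rc_14_2 lc_b_rc_12_2 lc_b_rc_14_2 lc_b_rc_12_2 lc_b_rc_1_3 lc_b_rc_14_2 lc_b_rc_12_2 lc_b_rc_1_3 lc_b_rc_12_2 lc_b_rc_14_0 lc_b_rc_14_2 lc_b_rc_12_2 lc_b_rc_1_3 lc_b_rc_14_2 lc_b_rc_12_2 lc_b_rc_1_3 lc_b_rc_15_0 lc_b_rc_12_2 lc_b_rc_11_4 lc_b_rc_13_2 lc_b_rc_18_2 lc_b_rc_14_2 lc_b_rc_17_2 lc_b_rc_18_2 lc_b_rc_14_2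 lc_b_rc_11_4 lc_b_rc_14_2 lc_b_rc_13_2 lc_b_rc_10_1 lc_b_rc_13_2 lc_b_rc_14_2 lc_b_rc_11_4 lc_b_rc_15_0 lc_b_rc_14_2 lc_b_rc_14_2 lc_b_rc_1_5 lc_b_rc_18_2 lc_b_rc_14_2 lc_b_rc_12_2 lc_b_rc_18_2 lc_b_rc_14_2 lc_b_rc_18_2 lc_b_rc_14_2 lc_b_rc_10_1 lc_b_rc_18_2 lc_b_rc_14_2 lc_b_rc_15_2 lc_b_rc_14_2 lc_b_rc_12_2 lc_b_rc_15_2) (@D3.rec (fun _ => (Cert rels S Gen.b)) lc_b_rc_15_2 lc_b_rc_14_2 lc_b_rc_14_2 lc_b_rc_14_2 lc_b_rc_12_2 lc_b_rc_14_2 lc_b_rc_12_2 lc_b_rc_13_2 lc_b_rc_1_3 lc_b_rc_14_2 lc_b_rc_15_2 lc_b_rc_17_2 lc_b_rc_14_2 lc_b_rc_15_2 lc_b_rc_15_2 lc_b_rc_14_0 lc_b_rc_12_2 lc_b_rc_12_2 lc_b_rc_16_2 lc_b_rc_11_4 lc_b_rc_13_2 lc_b_rc_14_2 lc_b_rc_10_0 lc_b_rc_18_2 lc_b_rc_14_2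 lc_b_rc_18_2 lc_b_rc_14_2 lc_b_rc_1_3 lc_b_rc_14_2 lc_b_rc_12_2 lc_b_rc_17_0 lc_b_rc_14_2 lc_b_rc_18_2 lc_b_rc_1_3 lc_b_rc_18_2 lc_b_rc_18_2 lc_b_rc_14_2 lc_b_rc_13_2 lc_b_rc_10_1 lc_b_rc_17_2 lc_b_rc_11_4 lc_b_rc_16_2 lc_b_rc_12_0 lc_b_rc_13_2 lc_b_rc_14_2 lc_b_rc_12_2 lc_b_rc_14_2 lc_b_rc_18_2 lc_b_rc_11_4 lc_b_rc_12_2 lc_b_rc_13_2) (@D3.rec (fun _ => (Cert rels S Gen.b)) lc_b_rc_12_2 lc_b_rc_18_2 lc_b_rc_14_2 lc_b_rc_14_2 lc_b_rc_12_2 lc_b_rc_12_2 lc_b_rc_11_2 lc_b_rc_11_2 lc_b_rc_14_2 lc_b_rc_12_2 lc_b_rc_1_3 lc_b_rc_12_2 lc_b_rc_18_2 lc_b_rc_15_2 lc_b_rc_10_1 lc_b_rc_17_2 lc_b_rc_13_2 lc_b_rc_12_2 lc_b_rc_18_2 lc_b_rc_14_2 lc_b_rc_14_2 lc_b_rc_15_2 lc_b_rc_56_15 lc_b_rc_18_2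 lc_b_rc_15_2 lc_b_rc_15_2 lc_b_rc_12_2 lc_b_rc_14_2 lc_b_rc_11_4 lc_b_rc_14_2 lc_b_rc_1_3 lc_b_rc_14_2 lc_b_rc_12_2 lc_b_rc_12_2 lc_b_rc_14_2 lc_b_rc_14_2 lc_b_rc_14_2 lc_b_rc_12_2 lc_b_rc_1_3 lc_b_rc_12_2 lc_b_rc_18_2 lc_b_rc_10_0 lc_b_rc_13_2 lc_b_rc_18_2 lc_b_rc_18_2 lc_b_rc_18_2 lc_b_rc_18_2 lc_b_rc_14_2 lc_b_rc_18_2 lc_b_rc_14_2 lc_b_rc_14_2) (@D3.rec (fun _ => (Cert rels S Gen.b)) lc_b_rc_12_2 lc_b_rc_16_2 lc_b_rc_13_2 lc_b_rc_12_2 lc_b_rc_10_0 lc_b_rc_13_2 lc_b_rc_18_2 lc_b_rc_13_2 lc_b_rc_14_2 lc_b_rc_15_2 lc_b_rc_13_2 lc_b_rc_18_2 lc_b_rc_12_2 lc_b_rc_15_2 lc_b_rc_18_2 lc_b_rc_14_2 lc_b_rc_16_2 lc_b_rc_15_2 lc_b_rc_14_2 lc_b_rc_18_2 lc_b_rc_14_2 lc_b_rc_13_2 lc_b_rc_15_2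 lc_b_rc_18_2 lc_b_rc_14_2 lc_b_rc_14_2 lc_b_rc_18_2 lc_b_rc_14_2 lc_b_rc_12_2 lc_b_rc_15_2 lc_b_rc_16_2 lc_b_rc_15_2 lc_b_rc_1_3 lc_b_rc_1_3 lc_b_rc_18_2 lc_b_rc_14_2 lc_b_rc_12_2 lc_b_rc_16_2 lc_b_rc_14_2 lc_b_rc_12_2 lc_b_rc_13_2 lc_b_rc_17_2 lc_b_rc_16_2 lc_b_rc_16_2 lc_b_rc_16_2 lc_b_rc_14_2 lc_b_rc_18_2 lc_b_rc_14_2 lc_b_rc_13_0 lc_b_rc_12_2 lc_b_rc_18_2) (@D3.rec (fun _ => (Cert rels S Gen.b)) lc_b_rc_14_2 lc_b_rc_15_2 lc_b_rc_12_2 lc_b_rc_14_2 lc_b_rc_12_2 lc_b_rc_14_2 lc_b_rc_12_2 lc_b_rc_14_2 lc_b_rc_12_2 lc_b_rc_13_2 lc_b_rc_18_2 lc_b_rc_13_0 lc_b_rc_13_2 lc_b_rc_11_2 lc_b_rc_1_3 lc_b_rc_18_2 lc_b_rc_14_2 lc_b_rc_1_3 lc_b_rc_1_3 lc_b_rc_12_2 lc_b_rc_14_2 lc_b_rc_1_3 lc_b_rc_1_3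 lc_b_rc_16_2 lc_b_rc_13_2 lc_b_rc_14_0 lc_b_rc_12_0 lc_b_rc_13_2 lc_b_rc_15_2 lc_b_rc_13_2 lc_b_rc_15_2 lc_b_rc_13_2 lc_b_rc_12_2 lc_b_rc_12_2 lc_b_rc_10_1 lc_b_rc_12_0 lc_b_rc_14_2 lc_b_rc_18_2 lc_b_rc_13_2 lc_b_rc_18_2 lc_b_rc_18_2 lc_b_rc_14_0 lc_b_rc_18_2 lc_b_rc_15_2 lc_b_rc_13_2 lc_b_rc_12_2 lc_b_rc_13_2 lc_b_rc_12_2 lc_b_rc_10_0 lc_b_rc_13_2 lc_b_rc_18_2) (@D3.rec (fun _ => (Cert rels S Gen.b)) lc_b_rc_13_2 lc_b_rc_13_2 lc_b_rc_14_2 lc_b_rc_13_2 lc_b_rc_18_2 lc_b_rc_12_2 lc_b_rc_15_2 lc_b_rc_18_2 lc_b_rc_14_2 lc_b_rc_13_2 lc_b_rc_14_2 lc_b_rc_13_2 lc_b_rc_18_2 lc_b_rc_15_2 lc_b_rc_18_2 lc_b_rc_14_2 lc_b_rc_18_0 lc_b_rc_15_2 lc_b_rc_13_2 lc_b_rc_15_2 lc_b_rc_18_2 lc_b_rc_14_2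 lc_b_rc_18_2 lc_b_rc_14_2 lc_b_rc_15_2 lc_b_rc_14_2 lc_b_rc_12_2 lc_b_rc_10_0 lc_b_rc_13_2 lc_b_rc_18_2 lc_b_rc_11_2 lc_b_rc_11_2 lc_b_rc_12_0 lc_b_rc_12_2 lc_b_rc_18_2 lc_b_rc_12_2 lc_b_rc_18_2 lc_b_rc_1_3 lc_b_rc_1_3 lc_b_rc_11_2 lc_b_rc_11_2 lc_b_rc_13_0 lc_b_rc_10_1 lc_b_rc_13_0 lc_b_rc_13_2 lc_b_rc_15_2 lc_b_rc_13_2 lc_b_rc_17_2 lc_b_rc_13_2 lc_b_rc_16_2 lc_b_rc_10_0) (@D3.rec (fun _ => (Cert rels S Gen.b)) lc_b_rc_13_2 lc_b_rc_18_2 lc_b_rc_13_2 lc_b_rc_15_2 lc_b_rc_1_3 lc_b_rc_13_2 lc_b_rc_18_2 lc_b_rc_12_2 lc_b_rc_18_2 lc_b_rc_14_2 lc_b_rc_13_2 lc_b_rc_1_3 lc_b_rc_18_2 lc_b_rc_14_2 lc_b_rc_1_3 lc_b_rc_14_2 lc_b_rc_1_3 lc_b_rc_18_2 lc_b_rc_18_2 lc_b_rc_12_2 lc_b_rc_1_3 lc_b_rc_12_2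 lc_b_rc_18_2 lc_b_rc_15_2 lc_b_rc_12_2 lc_b_rc_1_3 lc_b_rc_10_0 lc_b_rc_13_2 lc_b_rc_18_2 lc_b_rc_12_2 lc_b_rc_14_2 lc_b_rc_12_2 lc_b_rc_14_2 lc_b_rc_18_2 lc_b_rc_10_0 lc_b_rc_13_2 lc_b_rc_18_2 lc_b_rc_18_2 lc_b_rc_18_2 lc_b_rc_14_2 lc_b_rc_13_2 lc_b_rc_18_2 lc_b_rc_12_2 lc_b_rc_15_2 lc_b_rc_18_2 lc_b_rc_14_2 lc_b_rc_16_2 lc_b_rc_18_2 lc_b_rc_18_2 lc_b_rc_11_2 lc_b_rc_13_2) (@D3.rec (fun _ => (Cert rels S Gen.b)) lc_b_rc_18_2 lc_b_rc_18_2 lc_b_rc_14_2 lc_b_rc_14_2 lc_b_rc_11_2 lc_b_rc_15_2 lc_b_rc_18_2 lc_b_rc_14_2 lc_b_rc_14_2 lc_b_rc_18_2 lc_b_rc_14_2 lc_b_rc_12_2 lc_b_rc_18_2 lc_b_rc_18_2 lc_b_rc_14_2 lc_b_rc_14_2 lc_b_rc_17_2 lc_b_rc_18_2 lc_b_rc_14_2 lc_b_rc_12_2 lc_b_rc_18_2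 lc_b_rc_18_2 lc_b_rc_12_2 lc_b_rc_12_2 lc_b_rc_15_2 lc_b_rc_13_2 lc_b_rc_14_2 lc_b_rc_13_2 lc_b_rc_18_2 lc_b_rc_14_0 lc_b_rc_15_2 lc_b_rc_18_2 lc_b_rc_14_2 lc_b_rc_14_2 lc_b_rc_15_2 lc_b_rc_14_2 lc_b_rc_1_3 lc_b_rc_1_3 lc_b_rc_12_2 lc_b_rc_15_2 lc_b_rc_18_2 lc_b_rc_14_2 lc_b_rc_12_2 lc_b_rc_13_2 lc_b_rc_12_2 lc_b_rc_16_2 lc_b_rc_18_2 lc_b_rc_14_2 lc_b_rc_12_2 lc_b_rc_17_2 lc_b_rc_16_2)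
def ce_b_13 : D2 → D3 → (Cert rels S Gen.b) := @D2.rec (fun _ => D3 → (Cert rels S Gen.b)) (@D3.rec (fun _ => (Cert rels S Gen.b)) lc_b_rc_15_2 lc_b_rc_12_2 lc_b_rc_1_3 lc_b_rc_1_3 lc_b_rc_15_2 lc_b_rc_18_2 lc_b_rc_14_2 lc_b_rc_18_2 lc_b_rc_14_2 lc_b_rc_14_2 lc_b_rc_14_2 lc_b_rc_16_2 lc_b_rc_15_2 lc_b_rc_1_3 lc_b_rc_1_3 lc_b_rc_1_3 lc_b_rc_16_2 lc_b_rc_18_2 lc_b_rc_14_2 lc_b_rc_12_2 lc_b_rc_12_2 lc_b_rc_18_2 lc_b_rc_14_2 lc_b_rc_12_2 lc_b_rc_13_2 lc_b_rc_17_2 lc_b_rc_16_2 lc_b_rc_56_43 lc_b_rc_17_2 lc_b_rc_18_2 lc_b_rc_14_2 lc_b_rc_12_2 lc_b_rc_18_2 lc_b_rc_14_2 lc_b_rc_12_2 lc_b_rc_13_2 lc_b_rc_17_2 lc_b_rc_56_50 lc_b_rc_14_0 lc_b_rc_11_0 lc_b_rc_18_2 lc_b_rc_14_2 lc_b_rc_15_0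 lc_b_rc_18_2 lc_b_rc_15_2 lc_b_rc_14_2 lc_b_rc_14_0 lc_b_rc_15_2 lc_b_rc_18_2 lc_b_rc_10_0 lc_b_rc_13_2) (@D3.rec (fun _ => (Cert rels S Gen.b)) lc_b_rc_18_2 lc_b_rc_12_2 lc_b_rc_14_2 lc_b_rc_10_0 lc_b_rc_13_2 lc_b_rc_18_2 lc_b_rc_12_2 lc_b_rc_18_2 lc_b_rc_14_2 lc_b_rc_14_2 lc_b_rc_14_2 lc_b_rc_18_2 lc_b_rc_12_2 lc_b_rc_14_2 lc_b_rc_15_2 lc_b_rc_12_2 lc_b_rc_18_2 lc_b_rc_12_2 lc_b_rc_12_2 lc_b_rc_12_0 lc_b_rc_13_2 lc_b_rc_13_2 lc_b_rc_15_2 lc_b_rc_12_0 lc_b_rc_12_2 lc_b_rc_17_2 lc_b_rc_11_2 lc_b_rc_13_2 lc_b_rc_55_38 lc_b_rc_15_2 lc_b_rc_12_2 lc_b_rc_12_2 lc_b_rc_1_3 lc_b_rc_11_2 lc_b_rc_13_2 lc_b_rc_12_0 lc_b_rc_18_2 lc_b_rc_16_2 lc_b_rc_18_2 lc_b_rc_55_38 lc_b_rc_12_2 lc_b_rc_11_4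 lc_b_rc_12_2 lc_b_rc_14_2 lc_b_rc_18_2 lc_b_rc_14_2 lc_b_rc_12_2 lc_b_rc_16_2 lc_b_rc_11_2 lc_b_rc_13_2 lc_b_rc_15_2) (@D3.rec (fun _ => (Cert rels S Gen.b)) lc_b_rc_14_2 lc_b_rc_12_2 lc_b_rc_1_3 lc_b_rc_1_3 lc_b_rc_11_2 lc_b_rc_13_2 lc_b_rc_1_3 lc_b_rc_11_2 lc_b_rc_13_2 lc_b_rc_1_1 lc_b_rc_15_2 lc_b_rc_12_2 lc_b_rc_14_2 lc_b_rc_12_2 lc_b_rc_12_2 lc_b_rc_14_2 lc_b_rc_12_2 lc_b_rc_1_3 lc_b_rc_12_2 lc_b_rc_13_2 lc_b_rc_12_2 lc_b_rc_18_2 lc_b_rc_14_2 lc_b_rc_12_0 lc_b_rc_17_2 lc_b_rc_12_0 lc_b_rc_1_3 lc_b_rc_16_2 lc_b_rc_18_2 lc_b_rc_14_2 lc_b_rc_16_2 lc_b_rc_15_2 lc_b_rc_18_2 lc_b_rc_18_2 lc_b_rc_14_2 lc_b_rc_18_2 lc_b_rc_14_2 lc_b_rc_12_2 lc_b_rc_13_2 lc_b_rc_14_2 lc_b_rc_12_2 lc_b_Cert_tree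 lc_b_rc_1_3 lc_b_rc_18_2 lc_b_rc_16_2 lc_b_rc_13_2 lc_b_rc_1_3 lc_b_rc_1_3 lc_b_rc_18_2 lc_b_rc_14_2 lc_b_rc_12_2) (@D3.rec (fun _ => (Cert rels S Gen.b)) lc_b_rc_17_2 lc_b_rc_14_2 lc_b_rc_12_2 lc_b_rc_14_0 lc_b_rc_12_0 lc_b_rc_14_0 lc_b_rc_56_8 lc_b_rc_18_2 lc_b_rc_14_2 lc_b_rc_12_2 lc_b_rc_11_2 lc_b_rc_12_2 lc_b_rc_14_2 lc_b_rc_14_2 lc_b_rc_15_0 lc_b_rc_14_2 lc_b_rc_18_2 lc_b_rc_14_2 lc_b_rc_14_2 lc_b_rc_12_2 lc_b_rc_11_2 lc_b_rc_12_2 lc_b_rc_14_2 lc_b_rc_12_2 lc_b_rc_11_2 lc_b_rc_11_2 lc_b_rc_12_2 lc_b_rc_11_4 lc_b_rc_11_2 lc_b_rc_11_2 lc_b_rc_11_2 lc_b_rc_15_0 lc_b_rc_12_2 lc_b_rc_15_0 lc_b_rc_13_2 lc_b_rc_12_2 lc_b_rc_11_2 lc_b_rc_11_2 lc_b_rc_11_2 lc_b_rc_11_2 lc_b_rc_11_2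 lc_b_rc_11_2 lc_b_rc_12_2 lc_b_rc_56_50 lc_b_rc_13_2 lc_b_rc_14_2 lc_b_rc_1_3 lc_b_rc_14_2 lc_b_rc_1_3 lc_b_rc_14_2 lc_b_rc_12_2) (@D3.rec (fun _ => (Cert rels S Gen.b)) lc_b_rc_1_3 lc_b_rc_12_2 lc_b_rc_11_2 lc_b_rc_14_2 lc_b_rc_18_2 lc_b_rc_55_56 lc_b_rc_12_2 lc_b_rc_13_2 lc_b_rc_15_2 lc_b_rc_13_2 lc_b_rc_14_2 lc_b_rc_18_2 lc_b_rc_14_2 lc_b_rc_12_2 lc_b_rc_14_2 lc_b_rc_18_2 lc_b_rc_14_2 lc_b_rc_18_2 lc_b_rc_18_2 lc_b_rc_18_2 lc_b_rc_14_2 lc_b_rc_14_2 lc_b_rc_16_2 lc_b_rc_15_2 lc_b_rc_14_2 lc_b_rc_16_2 lc_b_rc_15_2 lc_b_rc_12_2 lc_b_rc_14_2 lc_b_rc_18_2 lc_b_rc_14_2 lc_b_rc_18_2 lc_b_rc_10_0 lc_b_rc_1_3 lc_b_rc_18_2 lc_b_rc_18_2 lc_b_rc_12_2 lc_b_rc_11_2 lc_b_rc_15_2 lc_b_rc_13_2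 lc_b_rc_12_2 lc_b_rc_12_2 lc_b_rc_12_2 lc_b_rc_10_0 lc_b_rc_13_2 lc_b_rc_18_2 lc_b_rc_15_2 lc_b_rc_13_2 lc_b_rc_14_2 lc_b_rc_11_2 lc_b_rc_13_2) (@D3.rec (fun _ => (Cert rels S Gen.b)) lc_b_rc_18_2 lc_b_rc_18_2 lc_b_rc_14_2 lc_b_rc_14_2 lc_b_rc_15_2 lc_b_rc_18_2 lc_b_rc_15_2 lc_b_rc_14_2 lc_b_rc_12_2 lc_b_rc_15_2 lc_b_rc_16_2 lc_b_rc_18_2 lc_b_rc_18_2 lc_b_rc_14_2 lc_b_rc_1_3 lc_b_rc_1_3 lc_b_rc_12_2 lc_b_rc_15_2 lc_b_rc_12_2 lc_b_rc_12_2 lc_b_rc_14_2 lc_b_rc_14_2 lc_b_rc_13_2 lc_b_rc_12_2 lc_b_rc_14_2 lc_b_rc_12_2 lc_b_rc_12_2 lc_b_rc_14_2 lc_b_rc_13_2 lc_b_rc_12_2 lc_b_rc_18_2 lc_b_rc_14_2 lc_b_rc_14_2 lc_b_rc_18_2 lc_b_rc_14_2 lc_b_rc_18_2 lc_b_rc_18_2 lc_b_rc_15_2 lc_b_rc_18_2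 lc_b_rc_18_2 lc_b_rc_16_2 lc_b_rc_18_2 lc_b_rc_18_2 lc_b_rc_13_2 lc_b_rc_12_2 lc_b_rc_56_15 lc_b_rc_17_2 lc_b_rc_15_2 lc_b_rc_13_2 lc_b_rc_14_2 lc_b_rc_14_2) (@D3.rec (fun _ => (Cert rels S Gen.b)) lc_b_rc_12_2 lc_b_rc_16_2 lc_b_rc_15_2 lc_b_rc_14_2 lc_b_rc_14_2 lc_b_rc_16_2 lc_b_rc_18_2 lc_b_rc_14_2 lc_b_rc_17_2 lc_b_rc_16_2 lc_b_rc_15_2 lc_b_rc_12_2 lc_b_rc_17_2 lc_b_rc_16_2 lc_b_rc_15_2 lc_b_rc_12_2 lc_b_rc_17_2 lc_b_rc_16_2 lc_b_rc_12_2 lc_b_Cert_tree lc_b_rc_14_2 lc_b_rc_12_2 lc_b_rc_18_2 lc_b_rc_14_2 lc_b_rc_14_2 lc_b_rc_18_2 lc_b_rc_1_1 lc_b_rc_14_2 lc_b_rc_18_2 lc_b_rc_18_0 lc_b_rc_14_2 lc_b_rc_18_2 lc_b_rc_16_2 lc_b_rc_15_2 lc_b_rc_18_2 lc_b_rc_18_2 lc_b_rc_13_2 lc_b_rc_18_2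 lc_b_rc_12_2 lc_b_rc_11_2 lc_b_rc_11_4 lc_b_rc_13_2 lc_b_rc_12_2 lc_b_rc_10_0 lc_b_rc_13_2 lc_b_rc_18_2 lc_b_rc_15_2 lc_b_rc_13_2 lc_b_rc_14_2 lc_b_rc_18_0 lc_b_rc_15_0) (@D3.rec (fun _ => (Cert rels S Gen.b)) lc_b_rc_15_2 lc_b_rc_13_2 lc_b_rc_14_2 lc_b_rc_18_2 lc_b_rc_1_1 lc_b_rc_16_2 lc_b_rc_14_2 lc_b_rc_15_2 lc_b_rc_14_2 lc_b_rc_14_2 lc_b_rc_15_2 lc_b_rc_12_2 lc_b_rc_12_2 lc_b_rc_16_2 lc_b_rc_15_2 lc_b_rc_14_2 lc_b_rc_15_2 lc_b_rc_12_2 lc_b_Cert_tree lc_b_rc_14_0 lc_b_rc_14_2 lc_b_rc_13_2 lc_b_rc_18_2 lc_b_rc_12_2 lc_b_rc_18_2 lc_b_rc_14_2 lc_b_rc_14_2 lc_b_rc_11_4 lc_b_rc_14_2 lc_b_rc_12_2 lc_b_rc_1_3 lc_b_rc_12_2 lc_b_rc_14_0 lc_b_rc_15_2 lc_b_rc_18_2 lc_b_rc_14_2 lc_b_rc_14_2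 lc_b_rc_12_2 lc_b_rc_12_2 lc_b_rc_12_2 lc_b_rc_16_2 lc_b_rc_14_2 lc_b_rc_14_2 lc_b_rc_18_2 lc_b_rc_14_2 lc_b_rc_18_2 lc_b_rc_18_2 lc_b_rc_18_2 lc_b_rc_16_2 lc_b_rc_12_2 lc_b_rc_15_2) (@D3.rec (fun _ => (Cert rels S Gen.b)) lc_b_rc_1_1 lc_b_rc_13_2 lc_b_rc_12_2 lc_b_rc_13_2 lc_b_rc_12_2 lc_b_rc_1_1 lc_b_rc_12_2 lc_b_rc_12_2 lc_b_rc_14_2 lc_b_rc_1_1 lc_b_rc_14_2 lc_b_rc_15_2 lc_b_rc_14_2 lc_b_rc_12_2 lc_b_rc_1_3 lc_b_rc_12_0 lc_b_rc_14_2 lc_b_rc_18_2 lc_b_rc_15_2 lc_b_rc_13_2 lc_b_rc_18_2 lc_b_rc_18_2 lc_b_rc_13_2 lc_b_rc_11_2 lc_b_rc_11_2 lc_b_rc_18_2 lc_b_rc_14_2 lc_b_rc_11_2 lc_b_rc_12_2 lc_b_rc_16_2 lc_b_rc_13_2 lc_b_rc_12_2 lc_b_rc_13_2 lc_b_rc_15_2 lc_b_rc_13_2 lc_b_rc_13_2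 lc_b_rc_14_2 lc_b_rc_14_2 lc_b_rc_13_2 lc_b_rc_18_0 lc_b_rc_12_2 lc_b_rc_14_2 lc_b_rc_13_2 lc_b_rc_17_2 lc_b_rc_14_0 lc_b_rc_13_2 lc_b_rc_14_2 lc_b_rc_11_2 lc_b_rc_12_0 lc_b_rc_14_2 lc_b_rc_12_2) (@D3.rec (fun _ => (Cert rels S Gen.b)) lc_b_rc_18_2 lc_b_rc_12_0 lc_b_rc_55_29 lc_b_rc_14_2 lc_b_rc_12_0 lc_b_rc_14_0 lc_b_rc_12_2 lc_b_rc_18_2 lc_b_Cert_tree lc_b_rc_12_2 lc_b_rc_12_2 lc_b_rc_14_2 lc_b_rc_18_2 lc_b_Cert_tree lc_b_rc_14_2 lc_b_rc_18_2 lc_b_rc_10_0 lc_b_rc_13_2 lc_b_rc_18_2 lc_b_rc_15_2 lc_b_rc_18_2 lc_b_rc_18_2 lc_b_rc_10_0 lc_b_rc_18_2 lc_b_rc_15_2 lc_b_rc_18_2 lc_b_rc_18_2 lc_b_rc_18_2 lc_b_rc_14_2 lc_b_rc_11_4 lc_b_rc_14_2 lc_b_rc_16_2 lc_b_rc_18_2 lc_b_rc_18_2 lc_b_rc_14_2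 lc_b_rc_14_2 lc_b_rc_12_2 lc_b_rc_17_2 lc_b_rc_18_2 lc_b_rc_18_2 lc_b_rc_12_2 lc_b_rc_13_2 lc_b_rc_12_2 lc_b_rc_10_0 lc_b_rc_13_2 lc_b_rc_18_2 lc_b_rc_15_2 lc_b_rc_13_2 lc_b_rc_14_2 lc_b_rc_15_2 lc_b_rc_13_2) (@D3.rec (fun _ => (Cert rels S Gen.b)) lc_b_rc_18_2 lc_b_rc_12_2 lc_b_rc_15_2 lc_b_rc_18_2 lc_b_rc_14_2 lc_b_rc_16_2 lc_b_rc_15_2 lc_b_rc_14_2 lc_b_rc_17_2 lc_b_rc_18_2 lc_b_rc_14_2 lc_b_rc_16_2 lc_b_rc_15_2 lc_b_rc_14_2 lc_b_rc_18_2 lc_b_rc_15_2 lc_b_rc_18_2 lc_b_rc_14_2 lc_b_rc_14_2 lc_b_rc_18_2 lc_b_rc_14_2 lc_b_rc_12_2 lc_b_rc_17_2 lc_b_rc_16_2 lc_b_rc_15_2 lc_b_rc_12_2 lc_b_rc_14_2 lc_b_rc_14_2 lc_b_rc_12_2 lc_b_rc_11_4 lc_b_rc_11_4 lc_b_rc_14_2 lc_b_rc_13_2 lc_b_rc_17_2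 lc_b_rc_16_2 lc_b_rc_12_2 lc_b_Cert_tree lc_b_rc_17_2 lc_b_rc_16_2 lc_b_rc_15_2 lc_b_rc_12_2 lc_b_rc_17_2 lc_b_rc_16_2 lc_b_rc_12_2 lc_b_Cert_tree lc_b_rc_17_2 lc_b_rc_12_2 lc_b_rc_12_2 lc_b_rc_10_0 lc_b_rc_1_3 lc_b_rc_18_2) (@D3.rec (fun _ => (Cert rels S Gen.b)) lc_b_rc_14_2 lc_b_rc_1_3 lc_b_rc_12_0 lc_b_rc_12_2 lc_b_rc_18_2 lc_b_rc_14_2 lc_b_rc_14_2 lc_b_rc_12_2 lc_b_rc_14_2 lc_b_rc_12_2 lc_b_rc_17_2 lc_b_rc_14_2 lc_b_rc_12_2 lc_b_rc_13_2 lc_b_rc_12_2 lc_b_rc_13_2 lc_b_rc_13_2 lc_b_rc_55_29 lc_b_rc_1_3 lc_b_rc_14_2 lc_b_rc_12_2 lc_b_rc_1_3 lc_b_rc_1_3 lc_b_rc_14_2 lc_b_rc_12_2 lc_b_rc_1_3 lc_b_rc_12_2 lc_b_rc_13_2 lc_b_rc_14_2 lc_b_rc_14_2 lc_b_rc_11_4 lc_b_rc_12_2 lc_b_rc_17_2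 lc_b_rc_14_2 lc_b_rc_13_2 lc_b_rc_12_2 lc_b_rc_13_2 lc_b_rc_12_2 lc_b_rc_11_4 lc_b_rc_15_2 lc_b_rc_17_0 lc_b_rc_10_0 lc_b_rc_16_0 lc_b_rc_1_1 lc_b_rc_12_2 lc_b_rc_15_2 lc_b_rc_1_3 lc_b_rc_12_2 lc_b_rc_12_2 lc_b_rc_12_2 lc_b_rc_14_2) (@D3.rec (fun _ => (Cert rels S Gen.b)) lc_b_rc_14_2 lc_b_rc_12_0 lc_b_rc_15_2 lc_b_rc_10_0 lc_b_rc_18_2 lc_b_rc_13_2 lc_b_rc_18_2 lc_b_rc_18_2 lc_b_rc_13_0 lc_b_rc_12_2 lc_b_rc_14_2 lc_b_rc_18_2 lc_b_rc_14_2 lc_b_rc_12_2 lc_b_rc_14_2 lc_b_rc_14_2 lc_b_rc_12_2 lc_b_rc_14_2 lc_b_rc_12_2 lc_b_rc_1_3 lc_b_rc_18_2 lc_b_rc_12_2 lc_b_rc_10_0 lc_b_rc_18_2 lc_b_rc_14_2 lc_b_rc_56_29 lc_b_rc_1_3 lc_b_rc_14_2 lc_b_rc_15_2 lc_b_rc_10_0 lc_b_rc_10_0 lc_b_rc_18_2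 lc_b_rc_13_2 lc_b_rc_18_2 lc_b_rc_15_2 lc_b_rc_10_0 lc_b_rc_15_2 lc_b_rc_15_2 lc_b_rc_55_47 lc_b_rc_14_2 lc_b_rc_18_2 lc_b_rc_17_2 lc_b_rc_14_2 lc_b_rc_13_2 lc_b_rc_15_2 lc_b_rc_14_2 lc_b_rc_12_2 lc_b_rc_18_2 lc_b_rc_55_56 lc_b_rc_14_2 lc_b_rc_12_2) (@D3.rec (fun _ => (Cert rels S Gen.b)) lc_b_rc_15_2 lc_b_rc_55_20 lc_b_rc_17_0 lc_b_rc_13_2 lc_b_rc_18_2 lc_b_rc_18_2 lc_b_rc_11_4 lc_b_rc_14_2 lc_b_rc_18_2 lc_b_rc_18_2 lc_b_rc_18_2 lc_b_rc_15_2 lc_b_rc_56_43 lc_b_rc_11_2 lc_b_rc_14_2 lc_b_rc_14_2 lc_b_rc_15_2 lc_b_rc_18_2 lc_b_rc_14_2 lc_b_rc_18_2 lc_b_rc_14_2 lc_b_rc_12_2 lc_b_rc_16_2 lc_b_rc_15_2 lc_b_rc_12_2 lc_b_rc_55_20 lc_b_rc_12_2 lc_b_Cert_tree lc_b_rc_55_56 lc_b_rc_15_2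 lc_b_rc_12_2 lc_b_rc_11_2 lc_b_rc_14_2 lc_b_rc_14_2 lc_b_rc_11_4 lc_b_rc_11_4 lc_b_rc_15_2 lc_b_rc_14_2 lc_b_rc_16_2 lc_b_rc_14_2 lc_b_rc_18_2 lc_b_rc_15_2 lc_b_rc_12_2 lc_b_rc_15_2 lc_b_rc_12_2 lc_b_rc_13_2 lc_b_rc_12_2 lc_b_rc_14_2 lc_b_rc_16_2 lc_b_rc_14_2 lc_b_rc_15_2) (@D3.rec (fun _ => (Cert rels S Gen.b)) lc_b_rc_14_2 lc_b_rc_16_2 lc_b_rc_16_2 lc_b_rc_16_2 lc_b_rc_18_2 lc_b_rc_18_2 lc_b_rc_18_2 lc_b_rc_14_2 lc_b_rc_16_2 lc_b_rc_12_2 lc_b_rc_15_2 lc_b_rc_14_0 lc_b_rc_13_2 lc_b_rc_12_2 lc_b_rc_12_2 lc_b_rc_12_2 lc_b_rc_16_0 lc_b_rc_12_2 lc_b_rc_14_2 lc_b_rc_18_2 lc_b_rc_14_2 lc_b_rc_13_2 lc_b_rc_16_0 lc_b_rc_18_0 lc_b_rc_18_0 lc_b_rc_13_2 lc_b_rc_15_2 lc_b_rc_14_2 lc_b_rc_12_0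 lc_b_rc_14_0 lc_b_rc_1_1 lc_b_rc_13_2 lc_b_rc_14_2 lc_b_rc_16_2 lc_b_Cert_tree lc_b_rc_14_2 lc_b_rc_18_2 lc_b_rc_16_2 lc_b_rc_10_0 lc_b_rc_18_2 lc_b_rc_15_2 lc_b_rc_18_2 lc_b_rc_18_2 lc_b_rc_18_2 lc_b_rc_18_2 lc_b_rc_14_2 lc_b_rc_13_2 lc_b_rc_13_2 lc_b_rc_18_2 lc_b_rc_15_0 lc_b_rc_16_2) (@D3.rec (fun _ => (Cert rels S Gen.b)) lc_b_rc_13_2 lc_b_rc_12_2 lc_b_rc_10_0 lc_b_rc_13_2 lc_b_rc_18_2 lc_b_rc_15_2 lc_b_rc_13_2 lc_b_rc_14_2 lc_b_rc_14_2 lc_b_rc_18_2 lc_b_rc_14_2 lc_b_rc_12_2 lc_b_rc_15_2 lc_b_rc_14_2 lc_b_rc_11_2 lc_b_rc_18_2 lc_b_rc_14_2 lc_b_rc_13_2 lc_b_rc_1_3 lc_b_rc_14_2 lc_b_rc_12_2 lc_b_rc_12_2 lc_b_rc_13_2 lc_b_rc_12_2 lc_b_rc_13_0 lc_b_rc_15_2 lc_b_rc_12_2 lc_b_rc_14_2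 lc_b_rc_12_2 lc_b_rc_11_4 lc_b_rc_13_2 lc_b_rc_14_2 lc_b_rc_18_2 lc_b_rc_11_4 lc_b_rc_13_2 lc_b_rc_14_2 lc_b_rc_14_2 lc_b_rc_14_2 lc_b_rc_12_2 lc_b_rc_12_2 lc_b_rc_14_0 lc_b_rc_1_3 lc_b_rc_18_2 lc_b_rc_14_2 lc_b_rc_1_3 lc_b_rc_14_2 lc_b_rc_18_2 lc_b_rc_18_2 lc_b_rc_18_2 lc_b_rc_18_2 lc_b_rc_12_2) (@D3.rec (fun _ => (Cert rels S Gen.b)) lc_b_rc_15_2 lc_b_Cert_tree lc_b_rc_13_2 lc_b_rc_12_2 lc_b_rc_12_2 lc_b_rc_10_0 lc_b_rc_18_2 lc_b_rc_14_2 lc_b_rc_18_2 lc_b_rc_14_2 lc_b_rc_12_0 lc_b_rc_14_2 lc_b_rc_12_0 lc_b_rc_15_2 lc_b_rc_16_2 lc_b_Cert_tree lc_b_rc_13_2 lc_b_rc_18_2 lc_b_rc_17_2 lc_b_rc_16_2 lc_b_rc_10_0 lc_b_rc_16_2 lc_b_rc_18_2 lc_b_rc_14_2 lc_b_rc_13_2 lc_b_rc_18_2 lc_b_rc_18_2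 lc_b_rc_12_2 lc_b_rc_14_2 lc_b_rc_13_2 lc_b_rc_14_2 lc_b_rc_16_2 lc_b_rc_16_2 lc_b_rc_13_2 lc_b_rc_12_2 lc_b_rc_10_0 lc_b_rc_13_2 lc_b_rc_18_2 lc_b_rc_12_2 lc_b_rc_13_2 lc_b_rc_14_2 lc_b_rc_16_2 lc_b_rc_15_2 lc_b_rc_13_2 lc_b_rc_14_2 lc_b_rc_1_3 lc_b_rc_18_2 lc_b_rc_17_0 lc_b_rc_18_2 lc_b_rc_14_2 lc_b_rc_12_2) (@D3.rec (fun _ => (Cert rels S Gen.b)) lc_b_rc_13_2 lc_b_rc_1_3 lc_b_rc_18_2 lc_b_rc_14_2 lc_b_rc_14_2 lc_b_rc_12_2 lc_b_rc_14_2 lc_b_rc_16_2 lc_b_rc_13_2 lc_b_rc_14_2 lc_b_rc_14_2 lc_b_rc_12_2 lc_b_rc_14_0 lc_b_rc_10_0 lc_b_rc_18_2 lc_b_rc_13_2 lc_b_rc_14_2 lc_b_rc_18_2 lc_b_rc_14_2 lc_b_rc_14_2 lc_b_rc_18_2 lc_b_rc_14_2 lc_b_rc_1_3 lc_b_rc_14_2 lc_b_rc_12_2 lc_b_rc_1_3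 lc_b_rc_12_2 lc_b_rc_13_2 lc_b_rc_14_2 lc_b_rc_10_0 lc_b_Cert_tree lc_b_rc_14_2 lc_b_rc_16_2 lc_b_rc_15_2 lc_b_rc_16_2 lc_b_rc_17_2 lc_b_rc_14_2 lc_b_rc_18_2 lc_b_rc_10_0 lc_b_rc_13_2 lc_b_rc_18_2 lc_b_rc_15_2 lc_b_rc_18_2 lc_b_rc_18_2 lc_b_rc_1_3 lc_b_rc_15_2 lc_b_rc_13_2 lc_b_rc_18_2 lc_b_rc_18_2 lc_b_rc_14_2 lc_b_rc_11_4) (@D3.rec (fun _ => (Cert rels S Gen.b)) lc_b_rc_14_2 lc_b_rc_16_2 lc_b_rc_18_2 lc_b_rc_18_2 lc_b_rc_14_2 lc_b_rc_14_2 lc_b_rc_12_2 lc_b_rc_18_2 lc_b_rc_18_2 lc_b_rc_12_2 lc_b_rc_16_2 lc_b_rc_15_0 lc_b_rc_11_4 lc_b_rc_16_0 lc_b_rc_15_2 lc_b_rc_13_2 lc_b_rc_14_2 lc_b_rc_1_3 lc_b_rc_13_2 lc_b_rc_18_2 lc_b_rc_12_2 lc_b_rc_15_2 lc_b_rc_18_2 lc_b_rc_14_2 lc_b_rc_16_2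 lc_b_rc_15_2 lc_b_rc_14_2 lc_b_rc_14_0 lc_b_rc_18_2 lc_b_rc_11_4 lc_b_rc_15_2 lc_b_rc_14_2 lc_b_rc_1_3 lc_b_rc_15_2 lc_b_rc_18_2 lc_b_rc_14_2 lc_b_rc_15_2 lc_b_rc_18_2 lc_b_rc_14_2 lc_b_rc_12_2 lc_b_rc_17_2 lc_b_rc_16_2 lc_b_rc_15_2 lc_b_rc_12_2 lc_b_rc_1_3 lc_b_rc_14_2 lc_b_rc_12_2 lc_b_rc_18_2 lc_b_rc_14_2 lc_b_rc_12_2 lc_b_rc_13_2) (@D3.rec (fun _ => (Cert rels S Gen.b)) lc_b_rc_17_2 lc_b_rc_16_2 lc_b_rc_12_2 lc_b_rc_13_2 lc_b_rc_14_2 lc_b_rc_12_2 lc_b_rc_17_2 lc_b_rc_16_2 lc_b_rc_12_2 lc_b_Cert_tree lc_b_rc_12_2 lc_b_rc_55_29 lc_b_rc_10_0 lc_b_rc_11_4 lc_b_rc_11_2 lc_b_rc_11_2 lc_b_rc_14_2 lc_b_rc_16_2 lc_b_rc_16_2 lc_b_rc_12_2 lc_b_rc_18_2 lc_b_rc_14_2 lc_b_rc_14_2 lc_b_rc_12_2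 lc_b_rc_14_2 lc_b_rc_12_2 lc_b_rc_12_2 lc_b_rc_12_2 lc_b_rc_1_3 lc_b_rc_12_2 lc_b_rc_11_2 lc_b_rc_1_3 lc_b_rc_1_3 lc_b_rc_14_2 lc_b_rc_16_2 lc_b_rc_11_4 lc_b_rc_16_2 lc_b_rc_12_2 lc_b_rc_12_2 lc_b_rc_15_2 lc_b_rc_10_0 lc_b_rc_13_2 lc_b_rc_12_2 lc_b_rc_18_0 lc_b_rc_12_2 lc_b_rc_16_2 lc_b_rc_14_2 lc_b_rc_12_0 lc_b_rc_11_2 lc_b_rc_10_1 lc_b_rc_13_2) (@D3.rec (fun _ => (Cert rels S Gen.b)) lc_b_rc_12_2 lc_b_rc_13_2 lc_b_rc_13_2 lc_b_rc_14_2 lc_b_rc_14_0 lc_b_rc_14_2 lc_b_rc_15_2 lc_b_rc_13_2 lc_b_rc_56_22 lc_b_rc_14_2 lc_b_rc_12_0 lc_b_rc_11_2 lc_b_rc_12_2 lc_b_rc_18_2 lc_b_rc_14_0 lc_b_rc_12_2 lc_b_rc_12_2 lc_b_rc_14_2 lc_b_rc_18_2 lc_b_rc_14_2 lc_b_rc_18_2 lc_b_rc_15_2 lc_b_rc_18_2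 lc_b_rc_18_2 lc_b_rc_15_2 lc_b_rc_18_2 lc_b_rc_18_2 lc_b_rc_18_2 lc_b_rc_18_2 lc_b_rc_12_2 lc_b_rc_56_36 lc_b_rc_13_2 lc_b_rc_12_2 lc_b_rc_11_4 lc_b_rc_13_0 lc_b_rc_15_2 lc_b_rc_13_2 lc_b_rc_14_2 lc_b_rc_13_2 lc_b_rc_18_2 lc_b_rc_56_15 lc_b_rc_13_2 lc_b_rc_18_2 lc_b_rc_14_2 lc_b_rc_13_2 lc_b_rc_15_2 lc_b_rc_14_2 lc_b_rc_14_2 lc_b_rc_15_2 lc_b_rc_14_2 lc_b_rc_14_2) (@D3.rec (fun _ => (Cert rels S Gen.b)) lc_b_rc_1_1 lc_b_rc_18_2 lc_b_rc_18_0 lc_b_rc_16_2 lc_b_rc_15_2 lc_b_rc_12_2 lc_b_rc_17_2 lc_b_rc_16_2 lc_b_rc_1_1 lc_b_rc_1_3 lc_b_rc_16_2 lc_b_rc_15_2 lc_b_rc_12_2 lc_b_rc_12_0 lc_b_rc_14_2 lc_b_rc_12_2 lc_b_rc_11_4 lc_b_rc_14_2 lc_b_rc_13_0 lc_b_rc_12_0 lc_b_rc_13_0 lc_b_rc_14_2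 lc_b_rc_18_2 lc_b_rc_13_2 lc_b_rc_18_2 lc_b_rc_18_2 lc_b_rc_18_2 lc_b_rc_12_2 lc_b_rc_16_2 lc_b_rc_15_2 lc_b_rc_13_2 lc_b_rc_12_2 lc_b_rc_13_2 lc_b_rc_11_4 lc_b_rc_13_2 lc_b_rc_14_2 lc_b_rc_18_2 lc_b_rc_14_2 lc_b_rc_11_4 lc_b_rc_12_2 lc_b_rc_12_2 lc_b_rc_13_2 lc_b_rc_12_2 lc_b_rc_10_1 lc_b_rc_10_1 lc_b_rc_12_2 lc_b_rc_11_2 lc_b_rc_13_2 lc_b_rc_18_2 lc_b_rc_1_3 lc_b_rc_13_2) (@D3.rec (fun _ => (Cert rels S Gen.b)) lc_b_rc_18_2 lc_b_rc_15_2 lc_b_rc_13_2 lc_b_rc_18_2 lc_b_rc_1_3 lc_b_rc_1_3 lc_b_rc_1_3 lc_b_rc_16_2 lc_b_rc_13_2 lc_b_rc_12_2 lc_b_rc_13_2 lc_b_rc_18_2 lc_b_rc_13_2 lc_b_rc_13_2 lc_b_rc_14_2 lc_b_rc_13_2 lc_b_rc_18_2 lc_b_rc_12_2 lc_b_rc_13_2 lc_b_rc_18_2 lc_b_rc_14_2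 lc_b_rc_13_2 lc_b_rc_14_2 lc_b_rc_15_2 lc_b_rc_18_2 lc_b_rc_14_2 lc_b_rc_14_0 lc_b_rc_17_2 lc_b_rc_17_2 lc_b_rc_14_2 lc_b_rc_15_2 lc_b_rc_14_2 lc_b_rc_16_2 lc_b_rc_12_2 lc_b_rc_12_2 lc_b_rc_12_0 lc_b_rc_16_2 lc_b_rc_14_2 lc_b_rc_14_0 lc_b_rc_14_0 lc_b_rc_16_2 lc_b_rc_13_2 lc_b_rc_18_2 lc_b_rc_13_2 lc_b_rc_12_2 lc_b_rc_13_2 lc_b_rc_1_3 lc_b_rc_1_3 lc_b_rc_12_2 lc_b_rc_18_2 lc_b_rc_12_2) (@D3.rec (fun _ => (Cert rels S Gen.b)) lc_b_rc_12_2 lc_b_rc_12_2 lc_b_rc_14_0 lc_b_Cert_tree lc_b_rc_12_2 lc_b_rc_12_2 lc_b_rc_10_0 lc_b_rc_13_2 lc_b_rc_18_2 lc_b_rc_12_2 lc_b_rc_12_2 lc_b_rc_14_2 lc_b_rc_12_2 lc_b_rc_14_2 lc_b_rc_18_2 lc_b_rc_10_0 lc_b_rc_13_2 lc_b_rc_18_2 lc_b_rc_15_2 lc_b_rc_18_2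 lc_b_rc_18_2 lc_b_rc_13_2 lc_b_rc_18_2 lc_b_rc_12_2 lc_b_rc_13_2 lc_b_rc_18_2 lc_b_rc_14_2 lc_b_rc_16_2 lc_b_rc_18_2 lc_b_rc_18_2 lc_b_rc_18_2 lc_b_rc_15_2 lc_b_rc_18_2 lc_b_rc_14_2 lc_b_rc_16_2 lc_b_rc_18_2 lc_b_rc_18_2 lc_b_rc_14_2 lc_b_rc_15_2 lc_b_rc_15_2 lc_b_rc_14_2 lc_b_rc_17_2 lc_b_rc_18_2 lc_b_rc_18_2 lc_b_rc_12_2 lc_b_rc_17_2 lc_b_rc_18_2 lc_b_rc_14_2 lc_b_rc_12_2 lc_b_rc_18_2 lc_b_rc_18_2) (@D3.rec (fun _ => (Cert rels S Gen.b)) lc_b_rc_12_2 lc_b_Cert_tree lc_b_rc_10_0 lc_b_rc_13_2 lc_b_rc_18_2 lc_b_rc_15_2 lc_b_rc_13_2 lc_b_rc_14_2 lc_b_rc_15_2 lc_b_rc_13_2 lc_b_rc_18_2 lc_b_rc_12_2 lc_b_rc_15_2 lc_b_rc_18_2 lc_b_rc_14_2 lc_b_rc_16_2 lc_b_rc_15_2 lc_b_rc_14_2 lc_b_rc_13_2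 lc_b_rc_15_2 lc_b_rc_12_2 lc_b_rc_15_2 lc_b_rc_18_2 lc_b_rc_14_2 lc_b_rc_12_2 lc_b_rc_13_2 lc_b_rc_12_2 lc_b_rc_16_2 lc_b_rc_18_2 lc_b_rc_14_2 lc_b_rc_12_2 lc_b_rc_17_2 lc_b_rc_16_2 lc_b_rc_15_2 lc_b_rc_12_2 lc_b_rc_18_2 lc_b_rc_15_2 lc_b_rc_18_2 lc_b_rc_14_2 lc_b_rc_1_5 lc_b_rc_18_2 lc_b_rc_14_2 lc_b_rc_12_2 lc_b_rc_17_2 lc_b_rc_16_2 lc_b_rc_15_2 lc_b_rc_12_2 lc_b_rc_14_2 lc_b_rc_16_2 lc_b_rc_18_2 lc_b_rc_14_2) (@D3.rec (fun _ => (Cert rels S Gen.b)) lc_b_rc_12_2 lc_b_rc_17_2 lc_b_rc_18_2 lc_b_rc_14_2 lc_b_rc_12_2 lc_b_rc_16_2 lc_b_rc_17_2 lc_b_rc_16_2 lc_b_rc_12_2 lc_b_Cert_tree lc_b_rc_17_2 lc_b_rc_18_2 lc_b_rc_14_2 lc_b_rc_12_2 lc_b_rc_18_2 lc_b_rc_14_2 lc_b_rc_12_2 lc_b_rc_11_4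 lc_b_rc_11_4 lc_b_rc_17_2 lc_b_rc_12_2 lc_b_rc_11_4 lc_b_rc_10_0 lc_b_rc_17_2 lc_b_rc_16_2 lc_b_rc_12_2 lc_b_Cert_tree lc_b_rc_17_2 lc_b_rc_12_2 lc_b_Cert_tree lc_b_rc_13_2 lc_b_rc_10_0 lc_b_rc_12_2 lc_b_rc_16_2 lc_b_rc_11_2 lc_b_rc_18_2 lc_b_rc_16_2 lc_b_rc_14_2 lc_b_rc_14_2 lc_b_rc_18_2 lc_b_rc_12_2 lc_b_rc_17_2 lc_b_rc_17_2 lc_b_rc_17_2 lc_b_rc_1_3 lc_b_rc_15_2 lc_b_rc_12_2 lc_b_rc_12_2 lc_b_rc_18_2 lc_b_rc_14_2 lc_b_rc_12_2) (@D3.rec (fun _ => (Cert rels S Gen.b)) lc_b_rc_13_2 lc_b_rc_14_0 lc_b_rc_12_0 lc_b_rc_12_2 lc_b_rc_17_2 lc_b_rc_10_1 lc_b_rc_18_2 lc_b_rc_14_2 lc_b_rc_11_2 lc_b_rc_12_0 lc_b_rc_14_0 lc_b_rc_10_0 lc_b_rc_18_2 lc_b_rc_14_2 lc_b_rc_13_2 lc_b_rc_13_2 lc_b_rc_18_2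 lc_b_rc_1_3 lc_b_rc_18_2 lc_b_rc_14_2 lc_b_rc_14_2 lc_b_rc_18_2 lc_b_rc_12_0 lc_b_rc_12_2 lc_b_rc_18_2 lc_b_rc_12_2 lc_b_rc_12_2 lc_b_rc_13_2 lc_b_rc_18_2 lc_b_rc_16_0 lc_b_rc_13_2 lc_b_rc_14_2 lc_b_rc_12_2 lc_b_rc_13_0 lc_b_rc_12_2 lc_b_rc_13_2 lc_b_rc_18_2 lc_b_rc_14_2 lc_b_rc_13_2 lc_b_rc_14_2 lc_b_rc_14_2 lc_b_rc_18_2 lc_b_rc_14_2 lc_b_rc_18_2 lc_b_rc_14_2 lc_b_rc_15_2 lc_b_rc_14_2 lc_b_rc_18_2 lc_b_rc_18_2 lc_b_rc_10_1 lc_b_rc_13_2)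
def ce_b_14 : D2 → D3 → (Cert rels S Gen.b) := @D2.rec (fun _ => D3 → (Cert rels S Gen.b)) (@D3.rec (fun _ => (Cert rels S Gen.b)) lc_b_rc_14_2 lc_b_rc_1_1 lc_b_rc_13_2 lc_b_rc_12_2 lc_b_rc_14_2 lc_b_rc_12_2 lc_b_rc_13_2 lc_b_rc_14_2 lc_b_rc_12_2 lc_b_rc_13_2 lc_b_rc_18_2 lc_b_rc_18_2 lc_b_rc_12_2 lc_b_rc_12_2 lc_b_rc_13_2 lc_b_rc_12_2 lc_b_rc_13_2 lc_b_rc_16_2 lc_b_rc_13_2 lc_b_rc_14_2 lc_b_rc_13_2 lc_b_rc_18_2 lc_b_rc_13_2 lc_b_rc_15_2 lc_b_rc_18_2 lc_b_rc_14_2 lc_b_rc_16_2 lc_b_rc_15_2 lc_b_rc_14_2 lc_b_rc_18_2 lc_b_rc_14_2 lc_b_rc_15_2 lc_b_rc_18_2 lc_b_rc_14_2 lc_b_rc_15_2 lc_b_rc_18_2 lc_b_rc_14_2 lc_b_rc_12_2 lc_b_rc_16_2 lc_b_rc_15_2 lc_b_rc_14_2 lc_b_rc_18_2 lc_b_rc_14_2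 lc_b_rc_12_2 lc_b_rc_17_2 lc_b_rc_16_2 lc_b_rc_12_2 lc_b_rc_1_3 lc_b_rc_12_2 lc_b_rc_12_2 lc_b_rc_12_2) (@D3.rec (fun _ => (Cert rels S Gen.b)) lc_b_rc_12_2 lc_b_rc_14_2 lc_b_rc_18_2 lc_b_rc_18_2 lc_b_rc_18_2 lc_b_rc_18_2 lc_b_rc_13_2 lc_b_rc_14_2 lc_b_rc_1_3 lc_b_rc_13_2 lc_b_rc_18_2 lc_b_rc_18_2 lc_b_rc_14_2 lc_b_rc_14_2 lc_b_rc_1_3 lc_b_rc_18_2 lc_b_rc_14_2 lc_b_rc_1_3 lc_b_rc_14_2 lc_b_rc_12_2 lc_b_rc_1_3 lc_b_rc_12_2 lc_b_rc_1_3 lc_b_rc_14_2 lc_b_rc_12_2 lc_b_rc_13_2 lc_b_rc_14_2 lc_b_rc_12_2 lc_b_rc_1_3 lc_b_rc_12_2 lc_b_rc_12_2 lc_b_rc_1_3 lc_b_rc_12_2 lc_b_rc_1_3 lc_b_rc_13_2 lc_b_rc_12_2 lc_b_rc_13_2 lc_b_rc_14_2 lc_b_rc_14_2 lc_b_rc_13_2 lc_b_rc_1_1 lc_b_rc_13_2 lc_b_rc_18_2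 lc_b_rc_17_2 lc_b_rc_14_2 lc_b_rc_16_2 lc_b_rc_13_0 lc_b_Cert_tree lc_b_rc_12_2 lc_b_rc_13_0 lc_b_rc_10_0) (@D3.rec (fun _ => (Cert rels S Gen.b)) lc_b_rc_13_2 lc_b_rc_18_2 lc_b_rc_13_2 lc_b_rc_13_2 lc_b_rc_14_2 lc_b_rc_13_2 lc_b_rc_18_2 lc_b_rc_12_2 lc_b_rc_13_2 lc_b_rc_18_2 lc_b_rc_14_2 lc_b_rc_13_2 lc_b_rc_14_2 lc_b_rc_18_2 lc_b_rc_1_5 lc_b_rc_17_2 lc_b_rc_14_2 lc_b_rc_15_2 lc_b_rc_13_2 lc_b_rc_14_2 lc_b_rc_1_5 lc_b_rc_16_2 lc_b_rc_12_2 lc_b_rc_15_2 lc_b_rc_12_2 lc_b_rc_55_47 lc_b_rc_13_2 lc_b_rc_10_0 lc_b_rc_18_2 lc_b_rc_1_3 lc_b_rc_18_2 lc_b_rc_13_0 lc_b_rc_18_2 lc_b_rc_14_2 lc_b_rc_1_3 lc_b_rc_1_3 lc_b_rc_12_2 lc_b_rc_18_2 lc_b_rc_14_2 lc_b_rc_12_2 lc_b_rc_14_2 lc_b_rc_12_2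 lc_b_rc_1_3 lc_b_rc_14_2 lc_b_rc_12_2 lc_b_rc_1_3 lc_b_rc_12_2 lc_b_rc_13_2 lc_b_rc_13_2 lc_b_rc_10_0 lc_b_rc_13_2) (@D3.rec (fun _ => (Cert rels S Gen.b)) lc_b_rc_18_2 lc_b_rc_12_2 lc_b_rc_14_2 lc_b_rc_14_2 lc_b_rc_14_2 lc_b_rc_18_2 lc_b_rc_10_0 lc_b_rc_13_2 lc_b_rc_18_2 lc_b_rc_18_2 lc_b_rc_18_2 lc_b_rc_13_2 lc_b_rc_18_2 lc_b_rc_12_2 lc_b_rc_15_2 lc_b_rc_18_2 lc_b_rc_14_2 lc_b_rc_16_2 lc_b_rc_18_2 lc_b_rc_18_2 lc_b_rc_18_2 lc_b_rc_14_2 lc_b_rc_15_2 lc_b_rc_18_2 lc_b_rc_14_2 lc_b_rc_18_2 lc_b_rc_14_2 lc_b_rc_12_2 lc_b_rc_18_2 lc_b_rc_18_2 lc_b_rc_14_2 lc_b_rc_12_2 lc_b_rc_18_2 lc_b_rc_18_2 lc_b_rc_12_2 lc_b_rc_13_0 lc_b_rc_15_2 lc_b_rc_13_2 lc_b_rc_14_2 lc_b_rc_13_2 lc_b_rc_18_2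 lc_b_rc_12_2 lc_b_rc_15_2 lc_b_rc_18_2 lc_b_rc_14_2 lc_b_rc_15_2 lc_b_rc_14_2 lc_b_rc_13_2 lc_b_rc_15_2 lc_b_rc_12_2 lc_b_rc_15_2) (@D3.rec (fun _ => (Cert rels S Gen.b)) lc_b_rc_18_2 lc_b_rc_14_2 lc_b_rc_12_2 lc_b_rc_14_2 lc_b_rc_12_2 lc_b_rc_16_2 lc_b_rc_18_2 lc_b_rc_14_2 lc_b_rc_12_2 lc_b_rc_17_2 lc_b_rc_16_2 lc_b_rc_15_2 lc_b_rc_12_2 lc_b_rc_17_2 lc_b_rc_18_2 lc_b_rc_15_2 lc_b_rc_18_2 lc_b_rc_14_2 lc_b_rc_18_2 lc_b_rc_14_2 lc_b_rc_12_2 lc_b_rc_15_2 lc_b_rc_14_0 lc_b_rc_18_2 lc_b_rc_14_2 lc_b_rc_16_2 lc_b_rc_18_2 lc_b_rc_14_2 lc_b_rc_12_2 lc_b_rc_13_0 lc_b_rc_18_2 lc_b_rc_14_2 lc_b_rc_12_2 lc_b_rc_16_2 lc_b_rc_17_2 lc_b_rc_16_2 lc_b_rc_14_2 lc_b_rc_17_2 lc_b_rc_18_2 lc_b_rc_14_2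 lc_b_rc_12_2 lc_b_rc_18_2 lc_b_rc_14_2 lc_b_rc_10_1 lc_b_rc_17_2 lc_b_rc_1_5 lc_b_rc_14_2 lc_b_rc_13_0 lc_b_rc_12_2 lc_b_rc_11_4 lc_b_rc_12_2) (@D3.rec (fun _ => (Cert rels S Gen.b)) lc_b_rc_1_3 lc_b_rc_14_2 lc_b_rc_12_2 lc_b_rc_14_2 lc_b_rc_12_2 lc_b_rc_18_2 lc_b_rc_14_2 lc_b_rc_12_2 lc_b_rc_13_2 lc_b_rc_1_3 lc_b_rc_12_2 lc_b_rc_16_2 lc_b_rc_18_2 lc_b_rc_16_2 lc_b_rc_14_2 lc_b_rc_14_2 lc_b_rc_14_2 lc_b_rc_12_2 lc_b_rc_18_2 lc_b_rc_14_2 lc_b_rc_10_1 lc_b_rc_17_2 lc_b_rc_14_2 lc_b_rc_55_38 lc_b_rc_1_5 lc_b_rc_17_2 lc_b_rc_14_2 lc_b_rc_12_2 lc_b_rc_14_2 lc_b_rc_55_47 lc_b_rc_14_2 lc_b_rc_12_2 lc_b_rc_14_2 lc_b_rc_14_2 lc_b_rc_12_2 lc_b_rc_17_2 lc_b_rc_18_2 lc_b_rc_13_2 lc_b_rc_10_1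 lc_b_rc_12_2 lc_b_rc_17_2 lc_b_rc_13_2 lc_b_rc_11_2 lc_b_rc_56_15 lc_b_rc_18_2 lc_b_rc_11_2 lc_b_rc_1_1 lc_b_rc_17_2 lc_b_rc_13_2 lc_b_rc_15_2 lc_b_rc_12_2) (@D3.rec (fun _ => (Cert rels S Gen.b)) lc_b_rc_14_2 lc_b_rc_12_0 lc_b_rc_14_2 lc_b_rc_12_2 lc_b_rc_18_2 lc_b_rc_14_2 lc_b_rc_14_2 lc_b_rc_12_2 lc_b_rc_12_2 lc_b_rc_11_2 lc_b_rc_10_1 lc_b_rc_17_0 lc_b_rc_18_2 lc_b_rc_18_2 lc_b_rc_11_4 lc_b_rc_14_2 lc_b_rc_12_2 lc_b_rc_10_1 lc_b_rc_12_2 lc_b_rc_12_2 lc_b_rc_10_1 lc_b_rc_10_1 lc_b_rc_11_4 lc_b_rc_12_0 lc_b_rc_14_2 lc_b_rc_17_0 lc_b_rc_11_4 lc_b_rc_12_2 lc_b_rc_14_2 lc_b_rc_14_2 lc_b_rc_14_2 lc_b_rc_12_2 lc_b_rc_12_2 lc_b_rc_13_2 lc_b_rc_10_1 lc_b_rc_12_2 lc_b_rc_11_2 lc_b_rc_12_2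 lc_b_rc_16_2 lc_b_rc_15_2 lc_b_rc_1_5 lc_b_rc_15_2 lc_b_rc_10_1 lc_b_rc_12_2 lc_b_rc_14_2 lc_b_rc_14_2 lc_b_rc_12_2 lc_b_rc_1_1 lc_b_rc_18_2 lc_b_rc_11_4 lc_b_rc_11_4) (@D3.rec (fun _ => (Cert rels S Gen.b)) lc_b_rc_18_2 lc_b_rc_15_2 lc_b_rc_14_2 lc_b_rc_12_2 lc_b_rc_1_3 lc_b_rc_12_2 lc_b_rc_13_2 lc_b_rc_14_2 lc_b_rc_12_2 lc_b_rc_16_2 lc_b_rc_13_2 lc_b_rc_18_2 lc_b_rc_14_0 lc_b_rc_18_2 lc_b_rc_14_2 lc_b_rc_18_2 lc_b_rc_14_2 lc_b_rc_12_2 lc_b_rc_14_2 lc_b_rc_12_2 lc_b_rc_13_2 lc_b_rc_12_2 lc_b_rc_18_2 lc_b_rc_13_2 lc_b_rc_13_2 lc_b_rc_14_2 lc_b_rc_13_2 lc_b_rc_18_2 lc_b_rc_18_2 lc_b_rc_14_2 lc_b_rc_14_2 lc_b_rc_15_2 lc_b_rc_15_2 lc_b_rc_12_2 lc_b_rc_15_2 lc_b_rc_18_2 lc_b_rc_14_2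 lc_b_rc_13_2 lc_b_rc_12_2 lc_b_rc_56_29 lc_b_rc_18_2 lc_b_rc_14_2 lc_b_rc_12_2 lc_b_rc_13_2 lc_b_rc_16_2 lc_b_rc_15_2 lc_b_rc_12_2 lc_b_rc_14_2 lc_b_rc_12_2 lc_b_rc_14_2 lc_b_rc_18_2) (@D3.rec (fun _ => (Cert rels S Gen.b)) lc_b_rc_14_2 lc_b_rc_12_2 lc_b_rc_18_2 lc_b_rc_14_2 lc_b_rc_11_4 lc_b_rc_13_2 lc_b_rc_15_2 lc_b_rc_16_2 lc_b_rc_1_3 lc_b_rc_12_2 lc_b_rc_14_2 lc_b_rc_12_2 lc_b_rc_1_1 lc_b_rc_13_2 lc_b_rc_16_2 lc_b_rc_55_65 lc_b_rc_11_2 lc_b_rc_16_2 lc_b_rc_14_2 lc_b_rc_12_2 lc_b_rc_14_2 lc_b_rc_12_2 lc_b_rc_14_2 lc_b_rc_12_2 lc_b_rc_18_2 lc_b_rc_14_2 lc_b_rc_12_2 lc_b_rc_13_2 lc_b_rc_12_2 lc_b_rc_16_2 lc_b_rc_18_2 lc_b_rc_13_2 lc_b_rc_15_2 lc_b_rc_11_2 lc_b_rc_1_3 lc_b_rc_1_3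 lc_b_rc_14_0 lc_b_rc_55_11 lc_b_rc_13_2 lc_b_rc_15_2 lc_b_rc_13_2 lc_b_rc_12_2 lc_b_rc_14_2 lc_b_rc_10_1 lc_b_rc_10_1 lc_b_rc_18_2 lc_b_rc_18_2 lc_b_rc_13_2 lc_b_rc_18_2 lc_b_rc_13_2 lc_b_rc_15_2) (@D3.rec (fun _ => (Cert rels S Gen.b)) lc_b_rc_13_2 lc_b_rc_16_2 lc_b_rc_11_0 lc_b_rc_13_2 lc_b_rc_14_2 lc_b_rc_13_2 lc_b_rc_18_2 lc_b_rc_12_2 lc_b_rc_15_2 lc_b_rc_18_2 lc_b_rc_14_2 lc_b_rc_13_2 lc_b_rc_13_2 lc_b_rc_14_2 lc_b_rc_12_2 lc_b_rc_15_2 lc_b_rc_18_2 lc_b_rc_14_2 lc_b_rc_12_2 lc_b_rc_12_2 lc_b_rc_18_2 lc_b_rc_14_2 lc_b_rc_13_2 lc_b_rc_12_2 lc_b_rc_15_2 lc_b_rc_18_2 lc_b_rc_14_2 lc_b_rc_18_2 lc_b_rc_14_2 lc_b_rc_16_2 lc_b_rc_15_2 lc_b_rc_18_2 lc_b_rc_14_2 lc_b_rc_14_2 lc_b_rc_12_2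 lc_b_rc_12_2 lc_b_rc_12_2 lc_b_rc_12_2 lc_b_rc_14_2 lc_b_rc_10_1 lc_b_rc_13_0 lc_b_rc_12_2 lc_b_rc_14_2 lc_b_rc_12_2 lc_b_rc_14_2 lc_b_rc_13_2 lc_b_rc_13_2 lc_b_rc_18_2 lc_b_rc_15_2 lc_b_rc_13_2 lc_b_rc_16_2) (@D3.rec (fun _ => (Cert rels S Gen.b)) lc_b_rc_13_2 lc_b_rc_18_2 lc_b_rc_18_2 lc_b_rc_14_2 lc_b_rc_13_2 lc_b_rc_1_3 lc_b_rc_1_3 lc_b_rc_12_2 lc_b_rc_18_2 lc_b_rc_14_2 lc_b_rc_13_2 lc_b_rc_12_2 lc_b_rc_14_2 lc_b_rc_12_2 lc_b_rc_1_3 lc_b_rc_14_2 lc_b_rc_1_3 lc_b_rc_12_2 lc_b_rc_18_2 lc_b_rc_14_2 lc_b_rc_12_0 lc_b_rc_13_2 lc_b_rc_18_2 lc_b_rc_12_2 lc_b_rc_18_2 lc_b_rc_14_2 lc_b_rc_14_2 lc_b_rc_12_2 lc_b_rc_12_2 lc_b_rc_1_3 lc_b_rc_18_2 lc_b_rc_18_2 lc_b_rc_13_2 lc_b_rc_18_2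 lc_b_rc_12_2 lc_b_rc_18_2 lc_b_rc_14_2 lc_b_rc_18_2 lc_b_rc_13_2 lc_b_rc_15_2 lc_b_rc_12_2 lc_b_rc_15_2 lc_b_rc_18_2 lc_b_rc_14_2 lc_b_rc_12_2 lc_b_rc_12_2 lc_b_rc_12_2 lc_b_rc_13_2 lc_b_rc_18_2 lc_b_rc_14_2 lc_b_rc_12_2) (@D3.rec (fun _ => (Cert rels S Gen.b)) lc_b_rc_18_2 lc_b_rc_18_2 lc_b_rc_12_2 lc_b_rc_11_2 lc_b_rc_18_2 lc_b_rc_14_2 lc_b_rc_14_2 lc_b_rc_14_2 lc_b_rc_18_2 lc_b_rc_14_2 lc_b_rc_15_2 lc_b_rc_15_2 lc_b_rc_14_2 lc_b_rc_12_2 lc_b_rc_13_0 lc_b_rc_18_2 lc_b_rc_12_2 lc_b_rc_18_2 lc_b_rc_14_2 lc_b_rc_12_2 lc_b_rc_18_2 lc_b_rc_14_0 lc_b_rc_10_1 lc_b_rc_12_2 lc_b_rc_14_2 lc_b_rc_15_2 lc_b_rc_14_2 lc_b_rc_15_2 lc_b_rc_18_2 lc_b_rc_14_2 lc_b_rc_15_0 lc_b_rc_18_2 lc_b_rc_14_2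 lc_b_rc_14_2 lc_b_rc_14_2 lc_b_rc_15_0 lc_b_rc_15_2 lc_b_rc_12_2 lc_b_rc_13_2 lc_b_rc_1_3 lc_b_rc_1_3 lc_b_rc_12_2 lc_b_rc_12_2 lc_b_rc_16_2 lc_b_rc_18_2 lc_b_rc_14_2 lc_b_rc_12_2 lc_b_rc_12_2 lc_b_rc_13_2 lc_b_rc_12_2 lc_b_rc_13_2) (@D3.rec (fun _ => (Cert rels S Gen.b)) lc_b_rc_14_2 lc_b_rc_10_1 lc_b_rc_18_2 lc_b_rc_14_2 lc_b_rc_12_2 lc_b_rc_15_0 lc_b_rc_17_2 lc_b_rc_16_2 lc_b_rc_12_2 lc_b_Cert_tree lc_b_rc_12_2 lc_b_rc_1_3 lc_b_rc_1_3 lc_b_rc_18_2 lc_b_rc_14_2 lc_b_rc_14_2 lc_b_rc_12_2 lc_b_rc_14_2 lc_b_rc_12_2 lc_b_rc_16_2 lc_b_rc_1_3 lc_b_rc_1_3 lc_b_rc_18_2 lc_b_rc_14_2 lc_b_rc_12_2 lc_b_rc_18_2 lc_b_rc_14_2 lc_b_rc_12_2 lc_b_rc_13_2 lc_b_rc_15_2 lc_b_rc_17_2 lc_b_rc_18_2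 lc_b_rc_14_2 lc_b_rc_12_2 lc_b_rc_11_2 lc_b_rc_14_2 lc_b_rc_12_2 lc_b_rc_14_2 lc_b_rc_13_2 lc_b_rc_18_2 lc_b_rc_13_0 lc_b_rc_13_2 lc_b_rc_18_2 lc_b_rc_16_2 lc_b_rc_18_2 lc_b_rc_14_2 lc_b_rc_14_2 lc_b_rc_17_2 lc_b_rc_12_2 lc_b_rc_18_2 lc_b_rc_14_2) (@D3.rec (fun _ => (Cert rels S Gen.b)) lc_b_rc_56_22 lc_b_rc_12_2 lc_b_rc_14_2 lc_b_rc_12_2 lc_b_rc_12_2 lc_b_rc_18_0 lc_b_rc_12_2 lc_b_rc_12_2 lc_b_rc_14_2 lc_b_rc_16_2 lc_b_rc_15_2 lc_b_rc_14_2 lc_b_rc_12_2 lc_b_rc_14_2 lc_b_rc_12_2 lc_b_rc_15_2 lc_b_rc_13_0 lc_b_rc_56_50 lc_b_rc_1_3 lc_b_rc_11_2 lc_b_rc_12_2 lc_b_rc_12_2 lc_b_rc_13_2 lc_b_rc_17_2 lc_b_rc_14_2 lc_b_rc_14_2 lc_b_rc_14_2 lc_b_rc_13_2 lc_b_rc_17_2 lc_b_rc_18_2 lc_b_rc_14_2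 lc_b_rc_12_2 lc_b_rc_16_2 lc_b_rc_18_2 lc_b_rc_18_2 lc_b_rc_14_2 lc_b_rc_14_2 lc_b_rc_12_2 lc_b_rc_14_2 lc_b_rc_12_2 lc_b_Cert_tree lc_b_rc_13_2 lc_b_rc_16_0 lc_b_rc_12_0 lc_b_rc_10_0 lc_b_rc_12_2 lc_b_rc_1_3 lc_b_rc_14_2 lc_b_rc_12_2 lc_b_rc_11_2 lc_b_rc_12_2) (@D3.rec (fun _ => (Cert rels S Gen.b)) lc_b_rc_13_2 lc_b_rc_15_2 lc_b_rc_12_0 lc_b_rc_12_2 lc_b_rc_15_0 lc_b_rc_14_2 lc_b_rc_12_2 lc_b_rc_12_2 lc_b_rc_12_2 lc_b_rc_13_2 lc_b_rc_11_2 lc_b_rc_11_2 lc_b_rc_11_2 lc_b_rc_13_2 lc_b_rc_1_3 lc_b_rc_1_3 lc_b_rc_12_2 lc_b_rc_11_2 lc_b_rc_18_2 lc_b_rc_18_2 lc_b_rc_12_2 lc_b_rc_14_2 lc_b_rc_1_5 lc_b_rc_15_2 lc_b_rc_14_2 lc_b_rc_12_2 lc_b_rc_14_2 lc_b_rc_18_2 lc_b_rc_18_2 lc_b_rc_16_2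 lc_b_rc_15_2 lc_b_rc_12_2 lc_b_rc_12_2 lc_b_Cert_tree lc_b_rc_14_2 lc_b_rc_18_2 lc_b_rc_15_2 lc_b_rc_18_2 lc_b_rc_18_2 lc_b_rc_18_2 lc_b_rc_13_2 lc_b_rc_12_2 lc_b_rc_16_2 lc_b_rc_15_2 lc_b_rc_15_2 lc_b_rc_13_2 lc_b_rc_14_2 lc_b_rc_14_0 lc_b_rc_12_2 lc_b_rc_14_2 lc_b_rc_14_2) (@D3.rec (fun _ => (Cert rels S Gen.b)) lc_b_rc_13_2 lc_b_rc_18_2 lc_b_rc_15_2 lc_b_rc_18_2 lc_b_rc_14_2 lc_b_rc_15_2 lc_b_rc_14_2 lc_b_rc_18_2 lc_b_rc_18_2 lc_b_rc_14_2 lc_b_rc_14_2 lc_b_rc_12_2 lc_b_rc_15_2 lc_b_rc_15_2 lc_b_rc_12_2 lc_b_rc_18_0 lc_b_rc_16_2 lc_b_rc_10_0 lc_b_rc_13_2 lc_b_rc_12_2 lc_b_rc_14_2 lc_b_rc_14_2 lc_b_rc_12_2 lc_b_rc_13_2 lc_b_rc_14_2 lc_b_rc_12_2 lc_b_rc_13_2 lc_b_rc_14_2 lc_b_rc_14_2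 lc_b_rc_18_2 lc_b_rc_15_2 lc_b_rc_18_2 lc_b_rc_18_2 lc_b_rc_18_2 lc_b_rc_16_2 lc_b_rc_18_2 lc_b_rc_18_2 lc_b_rc_18_2 lc_b_rc_18_2 lc_b_rc_12_2 lc_b_rc_13_2 lc_b_rc_14_2 lc_b_rc_1_3 lc_b_rc_12_2 lc_b_rc_16_2 lc_b_rc_15_2 lc_b_rc_14_2 lc_b_rc_17_2 lc_b_rc_16_2 lc_b_rc_15_2 lc_b_rc_12_2) (@D3.rec (fun _ => (Cert rels S Gen.b)) lc_b_rc_18_2 lc_b_rc_14_2 lc_b_rc_17_2 lc_b_rc_16_2 lc_b_rc_12_2 lc_b_Cert_tree lc_b_rc_17_2 lc_b_rc_16_2 lc_b_rc_12_2 lc_b_Cert_tree lc_b_rc_12_2 lc_b_rc_10_0 lc_b_rc_12_2 lc_b_rc_18_2 lc_b_Cert_tree lc_b_rc_12_2 lc_b_rc_12_2 lc_b_rc_14_2 lc_b_rc_18_2 lc_b_rc_18_0 lc_b_rc_14_2 lc_b_rc_18_2 lc_b_rc_13_2 lc_b_rc_15_2 lc_b_rc_15_2 lc_b_rc_18_2 lc_b_rc_18_2 lc_b_rc_17_2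 lc_b_rc_15_2 lc_b_rc_18_2 lc_b_rc_18_2 lc_b_rc_13_2 lc_b_rc_18_2 lc_b_rc_18_2 lc_b_rc_55_20 lc_b_rc_12_2 lc_b_rc_13_2 lc_b_rc_12_2 lc_b_rc_56_36 lc_b_rc_13_0 lc_b_rc_15_2 lc_b_rc_13_2 lc_b_rc_14_2 lc_b_rc_13_2 lc_b_rc_18_2 lc_b_rc_12_2 lc_b_rc_13_2 lc_b_rc_18_2 lc_b_rc_14_2 lc_b_rc_15_2 lc_b_rc_14_2) (@D3.rec (fun _ => (Cert rels S Gen.b)) lc_b_rc_11_2 lc_b_rc_17_2 lc_b_rc_15_0 lc_b_rc_12_2 lc_b_rc_15_2 lc_b_rc_14_2 lc_b_rc_14_2 lc_b_rc_16_2 lc_b_rc_16_2 lc_b_rc_12_2 lc_b_rc_15_2 lc_b_rc_12_2 lc_b_rc_12_2 lc_b_rc_13_0 lc_b_rc_12_0 lc_b_rc_11_4 lc_b_rc_16_2 lc_b_rc_15_2 lc_b_rc_12_2 lc_b_rc_12_2 lc_b_Cert_tree lc_b_rc_10_0 lc_b_rc_13_2 lc_b_rc_12_2 lc_b_rc_18_2 lc_b_rc_14_2 lc_b_rc_14_2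 lc_b_rc_12_2 lc_b_rc_14_2 lc_b_rc_12_2 lc_b_rc_12_2 lc_b_rc_12_2 lc_b_rc_14_0 lc_b_rc_14_2 lc_b_rc_12_2 lc_b_rc_14_2 lc_b_rc_18_2 lc_b_rc_13_2 lc_b_rc_18_2 lc_b_rc_18_2 lc_b_rc_18_2 lc_b_rc_12_2 lc_b_rc_16_2 lc_b_rc_15_2 lc_b_rc_13_2 lc_b_rc_12_2 lc_b_rc_1_1 lc_b_rc_1_1 lc_b_rc_13_2 lc_b_rc_13_2 lc_b_rc_14_2) (@D3.rec (fun _ => (Cert rels S Gen.b)) lc_b_rc_13_2 lc_b_rc_14_2 lc_b_rc_1_1 lc_b_rc_12_2 lc_b_rc_14_2 lc_b_rc_1_1 lc_b_rc_14_2 lc_b_rc_14_2 lc_b_rc_12_2 lc_b_rc_1_3 lc_b_rc_55_29 lc_b_rc_13_2 lc_b_rc_18_2 lc_b_rc_13_2 lc_b_rc_15_2 lc_b_rc_13_2 lc_b_rc_13_2 lc_b_rc_18_2 lc_b_rc_18_2 lc_b_rc_14_2 lc_b_rc_11_2 lc_b_rc_11_2 lc_b_rc_12_2 lc_b_rc_12_2 lc_b_rc_13_2 lc_b_rc_12_2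 lc_b_rc_13_2 lc_b_rc_14_2 lc_b_rc_13_2 lc_b_rc_15_2 lc_b_rc_13_2 lc_b_rc_13_2 lc_b_rc_14_2 lc_b_rc_13_2 lc_b_rc_11_2 lc_b_rc_15_2 lc_b_rc_14_2 lc_b_rc_14_2 lc_b_rc_14_0 lc_b_rc_13_2 lc_b_rc_55_38 lc_b_rc_13_2 lc_b_rc_12_0 lc_b_rc_12_2 lc_b_rc_14_2 lc_b_rc_11_2 lc_b_rc_15_2 lc_b_Cert_tree lc_b_rc_12_2 lc_b_rc_12_2 lc_b_rc_10_0) (@D3.rec (fun _ => (Cert rels S Gen.b)) lc_b_rc_13_2 lc_b_rc_18_2 lc_b_rc_12_2 lc_b_rc_12_2 lc_b_rc_14_2 lc_b_rc_14_2 lc_b_rc_18_2 lc_b_rc_10_0 lc_b_rc_13_2 lc_b_rc_18_2 lc_b_rc_15_2 lc_b_rc_18_2 lc_b_rc_18_2 lc_b_rc_13_2 lc_b_rc_18_2 lc_b_rc_12_2 lc_b_rc_13_2 lc_b_rc_18_2 lc_b_rc_14_2 lc_b_rc_16_2 lc_b_rc_18_2 lc_b_rc_18_2 lc_b_rc_18_2 lc_b_rc_14_2 lc_b_rc_16_2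 lc_b_rc_18_2 lc_b_rc_18_2 lc_b_rc_14_2 lc_b_rc_15_2 lc_b_rc_14_2 lc_b_rc_12_2 lc_b_rc_17_2 lc_b_rc_18_2 lc_b_rc_18_2 lc_b_rc_12_2 lc_b_rc_12_2 lc_b_rc_18_2 lc_b_rc_18_2 lc_b_rc_18_2 lc_b_rc_12_2 lc_b_rc_12_2 lc_b_rc_15_2 lc_b_rc_13_2 lc_b_rc_14_2 lc_b_rc_15_2 lc_b_rc_13_2 lc_b_rc_18_2 lc_b_rc_18_2 lc_b_rc_14_2 lc_b_rc_16_2 lc_b_rc_15_2) (@D3.rec (fun _ => (Cert rels S Gen.b)) lc_b_rc_14_2 lc_b_rc_13_2 lc_b_rc_15_2 lc_b_rc_12_2 lc_b_rc_15_2 lc_b_rc_18_2 lc_b_rc_14_2 lc_b_rc_14_2 lc_b_rc_12_2 lc_b_rc_13_2 lc_b_rc_18_2 lc_b_rc_14_2 lc_b_rc_12_2 lc_b_rc_17_2 lc_b_rc_16_2 lc_b_rc_15_2 lc_b_rc_12_2 lc_b_rc_18_2 lc_b_rc_14_2 lc_b_rc_12_2 lc_b_rc_17_2 lc_b_rc_16_2 lc_b_rc_15_2 lc_b_rc_12_2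 lc_b_rc_14_2 lc_b_rc_18_2 lc_b_rc_14_2 lc_b_rc_12_2 lc_b_rc_12_2 lc_b_rc_15_2 lc_b_rc_14_2 lc_b_rc_13_2 lc_b_rc_17_2 lc_b_rc_16_2 lc_b_rc_12_2 lc_b_Cert_tree lc_b_rc_12_2 lc_b_rc_13_2 lc_b_rc_11_4 lc_b_rc_14_2 lc_b_rc_55_29 lc_b_rc_17_2 lc_b_rc_12_2 lc_b_rc_10_0 lc_b_rc_17_2 lc_b_rc_16_2 lc_b_rc_12_2 lc_b_Cert_tree lc_b_rc_17_2 lc_b_rc_12_2 lc_b_Cert_tree) (@D3.rec (fun _ => (Cert rels S Gen.b)) lc_b_rc_13_2 lc_b_rc_10_0 lc_b_rc_12_2 lc_b_rc_12_2 lc_b_rc_17_2 lc_b_rc_14_2 lc_b_rc_12_2 lc_b_rc_12_2 lc_b_rc_13_2 lc_b_rc_14_2 lc_b_rc_14_2 lc_b_rc_12_2 lc_b_rc_14_2 lc_b_rc_12_2 lc_b_rc_18_2 lc_b_rc_14_2 lc_b_rc_12_2 lc_b_rc_13_2 lc_b_rc_17_2 lc_b_rc_12_2 lc_b_rc_13_2 lc_b_rc_13_2 lc_b_rc_15_2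 lc_b_rc_11_2 lc_b_rc_1_3 lc_b_rc_12_2 lc_b_rc_1_3 lc_b_rc_12_2 lc_b_rc_14_2 lc_b_rc_15_2 lc_b_rc_18_2 lc_b_rc_18_2 lc_b_rc_14_2 lc_b_rc_15_2 lc_b_rc_14_2 lc_b_rc_14_2 lc_b_rc_14_2 lc_b_rc_55_65 lc_b_rc_18_0 lc_b_rc_17_0 lc_b_rc_18_2 lc_b_rc_14_2 lc_b_rc_13_2 lc_b_rc_18_2 lc_b_rc_14_2 lc_b_rc_1_1 lc_b_rc_14_2 lc_b_rc_12_2 lc_b_rc_13_2 lc_b_rc_12_2 lc_b_rc_12_2) (@D3.rec (fun _ => (Cert rels S Gen.b)) lc_b_rc_11_4 lc_b_rc_12_2 lc_b_rc_18_0 lc_b_rc_18_2 lc_b_rc_14_2 lc_b_rc_18_2 lc_b_rc_14_2 lc_b_rc_10_0 lc_b_rc_17_0 lc_b_rc_56_43 lc_b_rc_18_2 lc_b_rc_15_0 lc_b_rc_14_2 lc_b_rc_13_2 lc_b_rc_16_2 lc_b_rc_10_0 lc_b_rc_56_29 lc_b_rc_15_2 lc_b_rc_14_2 lc_b_rc_14_2 lc_b_rc_55_38 lc_b_rc_12_2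 lc_b_rc_14_2 lc_b_rc_15_2 lc_b_rc_18_0 lc_b_rc_12_2 lc_b_rc_13_2 lc_b_rc_18_2 lc_b_rc_1_1 lc_b_rc_18_2 lc_b_rc_14_2 lc_b_rc_14_2 lc_b_rc_14_2 lc_b_rc_12_2 lc_b_rc_55_29 lc_b_rc_12_2 lc_b_rc_56_50 lc_b_rc_14_2 lc_b_rc_55_29 lc_b_rc_55_20 lc_b_rc_15_2 lc_b_rc_14_2 lc_b_rc_12_2 lc_b_rc_14_2 lc_b_rc_12_2 lc_b_rc_13_2 lc_b_rc_16_2 lc_b_rc_12_2 lc_b_rc_13_2 lc_b_rc_11_4 lc_b_rc_10_0) (@D3.rec (fun _ => (Cert rels S Gen.b)) lc_b_rc_11_4 lc_b_rc_12_2 lc_b_rc_15_2 lc_b_rc_13_2 lc_b_rc_12_2 lc_b_rc_12_2 lc_b_rc_14_2 lc_b_rc_14_2 lc_b_rc_16_2 lc_b_rc_15_2 lc_b_rc_1_1 lc_b_rc_18_2 lc_b_rc_16_2 lc_b_rc_18_2 lc_b_rc_15_2 lc_b_rc_18_2 lc_b_rc_14_2 lc_b_rc_14_2 lc_b_rc_14_2 lc_b_rc_15_2 lc_b_rc_16_2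 lc_b_rc_13_2 lc_b_rc_12_2 lc_b_rc_56_36 lc_b_rc_15_2 lc_b_rc_12_2 lc_b_rc_13_2 lc_b_rc_14_2 lc_b_rc_14_2 lc_b_rc_14_2 lc_b_rc_18_2 lc_b_rc_13_2 lc_b_rc_14_2 lc_b_rc_10_0 lc_b_rc_14_2 lc_b_rc_16_0 lc_b_rc_16_2 lc_b_rc_15_2 lc_b_rc_18_0 lc_b_rc_11_4 lc_b_rc_12_2 lc_b_rc_13_0 lc_b_rc_10_0 lc_b_rc_18_2 lc_b_rc_10_0 lc_b_rc_13_2 lc_b_rc_18_2 lc_b_rc_15_2 lc_b_rc_18_2 lc_b_rc_18_2 lc_b_rc_16_2) (@D3.rec (fun _ => (Cert rels S Gen.b)) lc_b_rc_18_2 lc_b_rc_14_2 lc_b_rc_14_2 lc_b_rc_18_2 lc_b_rc_18_2 lc_b_rc_14_2 lc_b_rc_1_3 lc_b_rc_12_2 lc_b_rc_13_2 lc_b_rc_13_2 lc_b_rc_12_2 lc_b_rc_13_2 lc_b_rc_16_2 lc_b_rc_13_2 lc_b_rc_14_2 lc_b_rc_13_2 lc_b_rc_18_2 lc_b_rc_11_4 lc_b_rc_18_2 lc_b_rc_14_2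 lc_b_rc_12_0 lc_b_rc_15_2 lc_b_rc_14_2 lc_b_rc_14_2 lc_b_rc_12_2 lc_b_rc_12_2 lc_b_rc_15_2 lc_b_rc_12_2 lc_b_rc_10_0 lc_b_rc_14_2 lc_b_rc_12_2 lc_b_rc_16_2 lc_b_rc_56_29 lc_b_rc_1_3 lc_b_rc_13_2 lc_b_rc_14_2 lc_b_rc_11_4 lc_b_rc_14_2 lc_b_rc_12_2 lc_b_rc_11_4 lc_b_rc_12_2 lc_b_rc_14_2 lc_b_rc_15_2 lc_b_rc_13_2 lc_b_rc_12_2 lc_b_rc_12_2 lc_b_rc_18_0 lc_b_rc_1_3 lc_b_rc_13_2 lc_b_rc_18_2 lc_b_rc_18_2) (@D3.rec (fun _ => (Cert rels S Gen.b)) lc_b_rc_13_2 lc_b_rc_12_2 lc_b_rc_10_0 lc_b_rc_13_2 lc_b_rc_18_2 lc_b_rc_13_2 lc_b_rc_14_2 lc_b_rc_14_2 lc_b_rc_18_2 lc_b_rc_14_2 lc_b_rc_14_2 lc_b_rc_1_3 lc_b_rc_14_0 lc_b_rc_1_1 lc_b_rc_13_0 lc_b_rc_14_2 lc_b_rc_10_0 lc_b_rc_17_2 lc_b_rc_13_2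 lc_b_rc_16_2 lc_b_rc_10_0 lc_b_rc_13_2 lc_b_rc_18_2 lc_b_rc_14_2 lc_b_rc_13_2 lc_b_rc_18_2 lc_b_rc_18_2 lc_b_rc_16_2 lc_b_rc_18_2 lc_b_rc_16_0 lc_b_rc_16_2 lc_b_rc_14_2 lc_b_rc_15_2 lc_b_rc_13_2 lc_b_rc_14_2 lc_b_rc_14_2 lc_b_rc_12_2 lc_b_rc_15_2 lc_b_rc_10_1 lc_b_rc_18_2 lc_b_rc_11_4 lc_b_rc_16_2 lc_b_rc_15_2 lc_b_rc_13_2 lc_b_rc_14_2 lc_b_rc_1_3 lc_b_rc_13_2 lc_b_rc_18_2 lc_b_rc_56_36 lc_b_rc_18_2 lc_b_rc_14_2) (@D3.rec (fun _ => (Cert rels S Gen.b)) lc_b_rc_12_2 lc_b_rc_14_2 lc_b_rc_11_4 lc_b_rc_15_2 lc_b_rc_14_2 lc_b_rc_1_3 lc_b_rc_14_2 lc_b_rc_17_0 lc_b_rc_11_4 lc_b_rc_12_2 lc_b_rc_14_2 lc_b_rc_14_2 lc_b_rc_1_3 lc_b_rc_14_2 lc_b_rc_12_2 lc_b_rc_1_5 lc_b_rc_13_2 lc_b_rc_56_15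 lc_b_rc_16_2 lc_b_rc_14_2 lc_b_rc_12_2 lc_b_rc_18_0 lc_b_rc_18_2 lc_b_rc_13_0 lc_b_rc_14_2 lc_b_rc_14_2 lc_b_rc_12_2 lc_b_rc_1_3 lc_b_rc_12_2 lc_b_rc_13_2 lc_b_rc_11_2 lc_b_rc_13_2 lc_b_rc_56_22 lc_b_rc_14_2 lc_b_rc_12_2 lc_b_rc_10_0 lc_b_rc_13_2 lc_b_rc_18_2 lc_b_rc_14_2 lc_b_rc_15_0 lc_b_rc_16_2 lc_b_rc_13_2 lc_b_rc_15_2 lc_b_rc_1_3 lc_b_rc_17_2 lc_b_rc_1_1 lc_b_rc_18_2 lc_b_rc_18_2 lc_b_rc_13_2 lc_b_rc_18_2 lc_b_rc_12_2)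
def ce_b_15 : D2 → D3 → (Cert rels S Gen.b) := @D2.rec (fun _ => D3 → (Cert rels S Gen.b)) (@D3.rec (fun _ => (Cert rels S Gen.b)) lc_b_rc_13_2 lc_b_rc_18_2 lc_b_rc_14_2 lc_b_rc_13_2 lc_b_rc_18_2 lc_b_rc_18_2 lc_b_rc_11_4 lc_b_rc_15_2 lc_b_rc_14_2 lc_b_rc_14_2 lc_b_rc_15_2 lc_b_rc_14_2 lc_b_rc_12_2 lc_b_rc_18_2 lc_b_rc_18_2 lc_b_rc_12_2 lc_b_rc_12_2 lc_b_rc_12_2 lc_b_rc_13_2 lc_b_rc_18_2 lc_b_rc_12_2 lc_b_rc_1_5 lc_b_rc_12_2 lc_b_rc_18_2 lc_b_rc_16_2 lc_b_rc_11_4 lc_b_rc_56_36 lc_b_rc_56_57 lc_b_rc_11_4 lc_b_rc_18_2 lc_b_rc_14_2 lc_b_rc_16_2 lc_b_rc_1_3 lc_b_rc_12_2 lc_b_rc_15_2 lc_b_rc_18_2 lc_b_rc_14_2 lc_b_rc_12_2 lc_b_rc_14_2 lc_b_rc_12_2 lc_b_rc_13_2 lc_b_rc_18_2 lc_b_rc_14_2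 lc_b_rc_12_2 lc_b_rc_17_2 lc_b_rc_16_2 lc_b_rc_15_2 lc_b_rc_12_2 lc_b_rc_17_2 lc_b_rc_11_2 lc_b_rc_12_2) (@D3.rec (fun _ => (Cert rels S Gen.b)) lc_b_rc_15_2 lc_b_rc_12_2 lc_b_rc_1_3 lc_b_rc_18_2 lc_b_rc_14_2 lc_b_rc_12_2 lc_b_rc_15_2 lc_b_rc_14_2 lc_b_rc_12_2 lc_b_rc_13_2 lc_b_rc_17_2 lc_b_rc_16_2 lc_b_rc_12_2 lc_b_Cert_tree lc_b_rc_12_2 lc_b_rc_13_2 lc_b_rc_14_2 lc_b_rc_12_2 lc_b_rc_11_4 lc_b_rc_13_2 lc_b_rc_13_0 lc_b_rc_17_2 lc_b_rc_12_2 lc_b_rc_12_2 lc_b_rc_12_2 lc_b_Cert_tree lc_b_rc_13_2 lc_b_rc_10_0 lc_b_rc_11_4 lc_b_rc_56_29 lc_b_rc_12_2 lc_b_rc_11_2 lc_b_rc_12_2 lc_b_rc_14_0 lc_b_rc_16_2 lc_b_rc_16_2 lc_b_rc_14_2 lc_b_rc_12_2 lc_b_rc_14_2 lc_b_rc_12_2 lc_b_rc_18_2 lc_b_rc_14_2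 lc_b_rc_12_2 lc_b_rc_13_2 lc_b_rc_1_5 lc_b_rc_14_2 lc_b_rc_1_3 lc_b_rc_16_2 lc_b_rc_13_2 lc_b_rc_12_2 lc_b_rc_13_2) (@D3.rec (fun _ => (Cert rels S Gen.b)) lc_b_rc_15_2 lc_b_rc_13_2 lc_b_rc_14_2 lc_b_rc_17_2 lc_b_rc_14_2 lc_b_rc_12_0 lc_b_rc_11_4 lc_b_rc_14_2 lc_b_rc_12_2 lc_b_rc_13_2 lc_b_rc_14_2 lc_b_rc_13_2 lc_b_rc_14_2 lc_b_rc_13_2 lc_b_rc_15_2 lc_b_rc_11_2 lc_b_rc_14_0 lc_b_rc_11_2 lc_b_rc_12_2 lc_b_rc_12_2 lc_b_rc_13_2 lc_b_rc_16_2 lc_b_rc_12_2 lc_b_rc_12_2 lc_b_rc_14_2 lc_b_rc_14_2 lc_b_rc_18_2 lc_b_rc_15_2 lc_b_rc_18_2 lc_b_rc_18_2 lc_b_rc_18_2 lc_b_rc_18_2 lc_b_rc_18_2 lc_b_rc_18_2 lc_b_rc_18_2 lc_b_rc_12_2 lc_b_rc_56_43 lc_b_rc_1_1 lc_b_rc_14_0 lc_b_rc_13_2 lc_b_rc_14_2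 lc_b_rc_12_2 lc_b_rc_14_2 lc_b_rc_15_2 lc_b_rc_14_2 lc_b_rc_18_2 lc_b_rc_14_2 lc_b_rc_12_2 lc_b_rc_13_2 lc_b_rc_14_2 lc_b_rc_13_2) (@D3.rec (fun _ => (Cert rels S Gen.b)) lc_b_rc_13_2 lc_b_rc_15_2 lc_b_rc_12_2 lc_b_rc_15_2 lc_b_rc_12_2 lc_b_rc_18_2 lc_b_rc_17_2 lc_b_rc_16_2 lc_b_rc_12_2 lc_b_rc_11_4 lc_b_rc_17_2 lc_b_rc_12_2 lc_b_rc_16_2 lc_b_rc_12_2 lc_b_rc_14_2 lc_b_rc_14_0 lc_b_rc_11_4 lc_b_rc_13_2 lc_b_rc_14_0 lc_b_rc_14_2 lc_b_rc_13_2 lc_b_rc_18_2 lc_b_rc_13_2 lc_b_rc_18_2 lc_b_rc_18_2 lc_b_rc_13_2 lc_b_rc_12_2 lc_b_rc_13_2 lc_b_rc_18_2 lc_b_rc_13_2 lc_b_rc_14_2 lc_b_rc_12_2 lc_b_rc_13_2 lc_b_rc_11_4 lc_b_rc_14_2 lc_b_rc_14_2 lc_b_rc_12_2 lc_b_rc_13_2 lc_b_rc_16_0 lc_b_rc_12_2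 lc_b_rc_12_2 lc_b_rc_12_2 lc_b_rc_55_65 lc_b_rc_12_2 lc_b_rc_12_2 lc_b_rc_12_2 lc_b_rc_15_2 lc_b_rc_13_2 lc_b_rc_18_2 lc_b_rc_1_3 lc_b_rc_13_2) (@D3.rec (fun _ => (Cert rels S Gen.b)) lc_b_rc_16_2 lc_b_rc_15_2 lc_b_rc_13_2 lc_b_rc_1_3 lc_b_rc_1_3 lc_b_rc_18_2 lc_b_rc_13_2 lc_b_rc_18_2 lc_b_rc_1_3 lc_b_rc_13_2 lc_b_rc_14_2 lc_b_rc_12_2 lc_b_rc_13_2 lc_b_rc_13_2 lc_b_rc_14_2 lc_b_rc_14_0 lc_b_rc_13_2 lc_b_rc_14_2 lc_b_rc_12_2 lc_b_rc_18_2 lc_b_rc_14_2 lc_b_rc_12_2 lc_b_rc_12_2 lc_b_rc_12_2 lc_b_rc_13_2 lc_b_rc_14_2 lc_b_rc_13_2 lc_b_rc_12_2 lc_b_rc_16_2 lc_b_rc_18_2 lc_b_rc_14_2 lc_b_rc_16_2 lc_b_rc_17_2 lc_b_rc_12_2 lc_b_rc_15_2 lc_b_rc_12_2 lc_b_rc_12_2 lc_b_rc_12_0 lc_b_rc_11_4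 lc_b_rc_16_2 lc_b_rc_14_0 lc_b_rc_17_2 lc_b_rc_15_2 lc_b_rc_14_0 lc_b_rc_13_2 lc_b_rc_12_2 lc_b_rc_12_2 lc_b_rc_1_3 lc_b_rc_56_22 lc_b_rc_12_2 lc_b_rc_12_2) (@D3.rec (fun _ => (Cert rels S Gen.b)) lc_b_rc_14_2 lc_b_rc_12_2 lc_b_rc_13_0 lc_b_rc_10_0 lc_b_rc_13_2 lc_b_rc_18_2 lc_b_rc_12_2 lc_b_rc_12_2 lc_b_rc_14_2 lc_b_rc_13_0 lc_b_rc_13_2 lc_b_rc_18_2 lc_b_rc_12_2 lc_b_rc_15_2 lc_b_rc_18_2 lc_b_rc_14_2 lc_b_rc_1_3 lc_b_rc_12_2 lc_b_rc_14_2 lc_b_rc_13_2 lc_b_rc_12_2 lc_b_rc_15_2 lc_b_rc_18_2 lc_b_rc_18_2 lc_b_rc_13_2 lc_b_rc_18_2 lc_b_rc_13_2 lc_b_rc_18_2 lc_b_rc_14_2 lc_b_rc_16_2 lc_b_rc_18_2 lc_b_rc_18_2 lc_b_rc_12_2 lc_b_rc_18_2 lc_b_rc_14_2 lc_b_rc_12_2 lc_b_rc_11_2 lc_b_rc_12_2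 lc_b_rc_13_2 lc_b_rc_13_2 lc_b_rc_14_2 lc_b_rc_17_2 lc_b_rc_18_2 lc_b_rc_18_2 lc_b_rc_12_2 lc_b_rc_14_2 lc_b_rc_16_2 lc_b_rc_15_2 lc_b_rc_14_2 lc_b_rc_18_0 lc_b_rc_18_2) (@D3.rec (fun _ => (Cert rels S Gen.b)) lc_b_rc_18_2 lc_b_rc_12_2 lc_b_rc_1_3 lc_b_rc_15_2 lc_b_rc_15_2 lc_b_rc_12_2 lc_b_rc_18_2 lc_b_rc_18_2 lc_b_rc_12_2 lc_b_Cert_tree lc_b_rc_18_2 lc_b_rc_14_2 lc_b_rc_18_2 lc_b_rc_12_2 lc_b_rc_11_4 lc_b_rc_10_0 lc_b_rc_13_2 lc_b_rc_18_2 lc_b_rc_16_2 lc_b_rc_15_2 lc_b_rc_18_2 lc_b_rc_14_2 lc_b_rc_16_2 lc_b_rc_15_2 lc_b_rc_14_2 lc_b_rc_13_2 lc_b_rc_18_2 lc_b_rc_12_2 lc_b_rc_15_2 lc_b_rc_18_2 lc_b_rc_14_2 lc_b_rc_12_2 lc_b_rc_13_2 lc_b_rc_12_2 lc_b_rc_13_2 lc_b_rc_18_2 lc_b_rc_14_2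 lc_b_rc_12_2 lc_b_rc_17_2 lc_b_rc_16_2 lc_b_rc_15_2 lc_b_rc_12_2 lc_b_rc_13_2 lc_b_rc_15_2 lc_b_rc_12_2 lc_b_rc_12_2 lc_b_rc_16_2 lc_b_rc_18_2 lc_b_rc_14_2 lc_b_rc_12_2 lc_b_rc_12_2) (@D3.rec (fun _ => (Cert rels S Gen.b)) lc_b_rc_15_2 lc_b_rc_12_2 lc_b_rc_13_2 lc_b_rc_14_2 lc_b_rc_10_1 lc_b_rc_18_2 lc_b_rc_14_2 lc_b_rc_12_2 lc_b_rc_13_2 lc_b_rc_17_2 lc_b_rc_16_2 lc_b_rc_12_2 lc_b_Cert_tree lc_b_rc_14_2 lc_b_rc_18_2 lc_b_rc_14_2 lc_b_rc_12_2 lc_b_rc_55_20 lc_b_rc_1_5 lc_b_rc_14_2 lc_b_rc_12_2 lc_b_rc_17_2 lc_b_rc_17_2 lc_b_rc_16_2 lc_b_rc_12_2 lc_b_Cert_tree lc_b_rc_17_2 lc_b_rc_18_2 lc_b_rc_14_2 lc_b_rc_12_2 lc_b_rc_18_2 lc_b_rc_14_2 lc_b_rc_12_2 lc_b_rc_11_4 lc_b_rc_11_4 lc_b_rc_15_2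 lc_b_rc_17_2 lc_b_rc_12_2 lc_b_Cert_tree lc_b_rc_13_2 lc_b_rc_10_0 lc_b_rc_18_2 lc_b_rc_14_2 lc_b_rc_14_2 lc_b_rc_12_2 lc_b_rc_13_2 lc_b_rc_12_2 lc_b_rc_11_4 lc_b_rc_11_2 lc_b_rc_17_2 lc_b_rc_12_2) (@D3.rec (fun _ => (Cert rels S Gen.b)) lc_b_Cert_tree lc_b_rc_13_2 lc_b_rc_10_0 lc_b_rc_12_2 lc_b_rc_15_2 lc_b_rc_13_2 lc_b_rc_10_0 lc_b_rc_13_2 lc_b_rc_11_2 lc_b_rc_14_0 lc_b_rc_17_0 lc_b_rc_17_0 lc_b_rc_18_2 lc_b_rc_17_2 lc_b_rc_16_0 lc_b_rc_14_2 lc_b_rc_13_2 lc_b_rc_14_2 lc_b_rc_12_2 lc_b_rc_13_0 lc_b_rc_55_65 lc_b_rc_13_2 lc_b_rc_11_2 lc_b_rc_18_2 lc_b_rc_14_2 lc_b_rc_18_2 lc_b_rc_18_2 lc_b_rc_14_2 lc_b_rc_15_2 lc_b_rc_14_2 lc_b_rc_12_2 lc_b_rc_12_2 lc_b_rc_12_2 lc_b_rc_14_2 lc_b_rc_12_2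 lc_b_rc_14_2 lc_b_rc_12_2 lc_b_rc_12_0 lc_b_rc_14_0 lc_b_rc_14_2 lc_b_rc_14_2 lc_b_rc_12_2 lc_b_rc_18_2 lc_b_rc_18_2 lc_b_rc_14_2 lc_b_rc_13_2 lc_b_rc_14_2 lc_b_rc_12_2 lc_b_rc_14_2 lc_b_rc_14_2 lc_b_rc_18_2) (@D3.rec (fun _ => (Cert rels S Gen.b)) lc_b_rc_12_2 lc_b_rc_13_2 lc_b_rc_14_2 lc_b_rc_56_57 lc_b_rc_12_2 lc_b_rc_14_2 lc_b_rc_15_2 lc_b_rc_18_2 lc_b_rc_14_2 lc_b_rc_11_4 lc_b_rc_13_2 lc_b_rc_13_2 lc_b_rc_18_2 lc_b_rc_14_2 lc_b_rc_16_2 lc_b_rc_15_2 lc_b_rc_12_2 lc_b_rc_14_2 lc_b_rc_18_2 lc_b_rc_14_2 lc_b_rc_15_2 lc_b_rc_14_2 lc_b_rc_12_2 lc_b_rc_16_2 lc_b_rc_12_2 lc_b_rc_14_2 lc_b_rc_12_2 lc_b_rc_11_2 lc_b_rc_14_2 lc_b_rc_13_2 lc_b_rc_11_2 lc_b_rc_12_2 lc_b_rc_14_2 lc_b_rc_18_2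 lc_b_rc_18_2 lc_b_rc_18_2 lc_b_rc_14_2 lc_b_rc_13_2 lc_b_rc_1_3 lc_b_rc_18_2 lc_b_rc_14_2 lc_b_rc_14_2 lc_b_rc_12_2 lc_b_rc_12_2 lc_b_rc_1_3 lc_b_rc_14_2 lc_b_rc_12_2 lc_b_rc_1_3 lc_b_rc_12_2 lc_b_rc_1_3 lc_b_rc_12_2) (@D3.rec (fun _ => (Cert rels S Gen.b)) lc_b_rc_13_2 lc_b_rc_13_2 lc_b_rc_12_2 lc_b_rc_17_2 lc_b_rc_15_2 lc_b_rc_13_2 lc_b_rc_14_2 lc_b_rc_14_2 lc_b_rc_12_2 lc_b_rc_13_2 lc_b_rc_16_0 lc_b_rc_13_2 lc_b_rc_17_2 lc_b_rc_13_0 lc_b_rc_10_0 lc_b_rc_13_2 lc_b_rc_18_2 lc_b_rc_14_2 lc_b_rc_12_2 lc_b_rc_14_2 lc_b_rc_13_2 lc_b_rc_18_2 lc_b_rc_12_2 lc_b_rc_13_2 lc_b_rc_18_2 lc_b_rc_14_2 lc_b_rc_13_2 lc_b_rc_14_2 lc_b_rc_12_2 lc_b_rc_18_2 lc_b_rc_14_2 lc_b_rc_12_2 lc_b_rc_12_2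 lc_b_rc_13_2 lc_b_rc_14_2 lc_b_rc_12_2 lc_b_rc_13_2 lc_b_rc_12_2 lc_b_rc_14_2 lc_b_rc_17_2 lc_b_rc_17_2 lc_b_rc_12_2 lc_b_rc_15_2 lc_b_rc_12_2 lc_b_rc_15_2 lc_b_rc_1_5 lc_b_rc_13_2 lc_b_rc_13_2 lc_b_rc_18_2 lc_b_rc_14_2 lc_b_rc_14_2) (@D3.rec (fun _ => (Cert rels S Gen.b)) lc_b_rc_18_2 lc_b_rc_56_36 lc_b_rc_12_2 lc_b_rc_1_3 lc_b_rc_12_2 lc_b_rc_14_2 lc_b_rc_12_2 lc_b_rc_14_2 lc_b_rc_12_2 lc_b_rc_13_2 lc_b_rc_1_3 lc_b_rc_12_2 lc_b_rc_13_2 lc_b_rc_13_2 lc_b_rc_15_2 lc_b_rc_13_0 lc_b_rc_13_2 lc_b_rc_18_2 lc_b_rc_56_22 lc_b_rc_18_2 lc_b_rc_14_2 lc_b_rc_14_2 lc_b_rc_14_2 lc_b_rc_18_2 lc_b_rc_18_2 lc_b_rc_18_2 lc_b_rc_13_2 lc_b_rc_18_2 lc_b_rc_12_2 lc_b_rc_18_2 lc_b_rc_14_2 lc_b_rc_18_2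 lc_b_rc_12_2 lc_b_rc_15_2 lc_b_rc_18_2 lc_b_rc_14_2 lc_b_rc_14_2 lc_b_rc_15_2 lc_b_rc_12_2 lc_b_rc_18_2 lc_b_rc_14_2 lc_b_rc_12_2 lc_b_rc_18_2 lc_b_rc_18_2 lc_b_rc_12_2 lc_b_rc_14_2 lc_b_rc_12_2 lc_b_rc_18_2 lc_b_rc_14_2 lc_b_rc_12_2 lc_b_rc_14_2) (@D3.rec (fun _ => (Cert rels S Gen.b)) lc_b_rc_18_2 lc_b_rc_18_2 lc_b_rc_14_2 lc_b_rc_11_4 lc_b_rc_14_2 lc_b_rc_15_2 lc_b_rc_14_2 lc_b_rc_15_2 lc_b_rc_18_2 lc_b_rc_14_2 lc_b_rc_12_2 lc_b_rc_10_1 lc_b_rc_12_2 lc_b_rc_18_2 lc_b_rc_14_2 lc_b_rc_12_2 lc_b_rc_15_2 lc_b_rc_12_2 lc_b_rc_13_2 lc_b_rc_13_2 lc_b_rc_15_2 lc_b_rc_12_2 lc_b_rc_14_2 lc_b_rc_12_2 lc_b_rc_16_2 lc_b_rc_18_2 lc_b_rc_14_2 lc_b_rc_12_2 lc_b_rc_12_2 lc_b_rc_12_2 lc_b_rc_12_2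 lc_b_rc_18_2 lc_b_rc_14_2 lc_b_rc_11_4 lc_b_rc_18_2 lc_b_rc_14_2 lc_b_rc_12_2 lc_b_rc_13_2 lc_b_rc_17_2 lc_b_rc_16_2 lc_b_rc_12_2 lc_b_Cert_tree lc_b_rc_15_2 lc_b_rc_18_2 lc_b_rc_14_2 lc_b_rc_18_2 lc_b_rc_14_2 lc_b_rc_12_2 lc_b_rc_14_2 lc_b_rc_12_2 lc_b_rc_11_2) (@D3.rec (fun _ => (Cert rels S Gen.b)) lc_b_rc_15_2 lc_b_rc_14_2 lc_b_rc_18_2 lc_b_rc_14_2 lc_b_rc_12_2 lc_b_rc_13_0 lc_b_rc_14_2 lc_b_rc_12_2 lc_b_rc_15_2 lc_b_rc_17_2 lc_b_rc_12_2 lc_b_rc_18_2 lc_b_rc_14_2 lc_b_rc_14_2 lc_b_rc_16_2 lc_b_rc_12_2 lc_b_rc_12_2 lc_b_rc_16_2 lc_b_rc_14_2 lc_b_rc_12_2 lc_b_rc_13_2 lc_b_rc_18_2 lc_b_rc_14_2 lc_b_rc_12_2 lc_b_rc_13_2 lc_b_rc_18_2 lc_b_rc_12_2 lc_b_rc_13_2 lc_b_rc_13_2 lc_b_rc_15_2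 lc_b_rc_12_2 lc_b_rc_12_2 lc_b_rc_11_2 lc_b_rc_1_3 lc_b_rc_10_1 lc_b_rc_10_1 lc_b_rc_18_2 lc_b_rc_10_1 lc_b_rc_10_1 lc_b_rc_12_2 lc_b_rc_11_2 lc_b_rc_56_15 lc_b_rc_11_4 lc_b_rc_12_2 lc_b_rc_10_1 lc_b_rc_13_2 lc_b_rc_11_2 lc_b_rc_11_2 lc_b_rc_11_2 lc_b_rc_55_29 lc_b_rc_12_0) (@D3.rec (fun _ => (Cert rels S Gen.b)) lc_b_rc_13_2 lc_b_rc_15_2 lc_b_rc_14_2 lc_b_rc_12_2 lc_b_rc_11_2 lc_b_rc_14_2 lc_b_rc_12_2 lc_b_rc_12_2 lc_b_rc_11_2 lc_b_rc_12_2 lc_b_rc_11_4 lc_b_rc_11_4 lc_b_rc_18_2 lc_b_rc_12_2 lc_b_rc_12_2 lc_b_rc_55_47 lc_b_rc_13_2 lc_b_rc_11_4 lc_b_rc_10_1 lc_b_rc_11_4 lc_b_rc_11_4 lc_b_rc_13_2 lc_b_rc_12_2 lc_b_rc_14_2 lc_b_rc_12_2 lc_b_rc_11_4 lc_b_rc_12_2 lc_b_rc_10_1 lc_b_rc_12_2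 lc_b_rc_11_4 lc_b_rc_10_1 lc_b_rc_15_2 lc_b_rc_11_4 lc_b_rc_12_2 lc_b_rc_12_0 lc_b_rc_14_0 lc_b_rc_18_2 lc_b_rc_12_2 lc_b_rc_13_2 lc_b_rc_15_2 lc_b_rc_13_2 lc_b_rc_12_2 lc_b_rc_12_2 lc_b_rc_1_1 lc_b_rc_12_0 lc_b_rc_13_2 lc_b_rc_13_2 lc_b_rc_12_2 lc_b_rc_14_2 lc_b_rc_10_1 lc_b_rc_13_2) (@D3.rec (fun _ => (Cert rels S Gen.b)) lc_b_rc_15_2 lc_b_rc_18_2 lc_b_rc_14_2 lc_b_rc_13_2 lc_b_rc_16_2 lc_b_rc_14_2 lc_b_rc_12_2 lc_b_rc_12_2 lc_b_rc_12_2 lc_b_rc_13_2 lc_b_rc_13_2 lc_b_rc_12_2 lc_b_rc_11_4 lc_b_rc_13_2 lc_b_rc_14_2 lc_b_rc_18_2 lc_b_rc_14_2 lc_b_rc_14_2 lc_b_rc_12_2 lc_b_rc_12_2 lc_b_rc_18_2 lc_b_rc_15_2 lc_b_rc_12_2 lc_b_rc_18_2 lc_b_rc_14_2 lc_b_rc_12_2 lc_b_rc_13_2 lc_b_rc_14_2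 lc_b_rc_13_2 lc_b_rc_14_2 lc_b_rc_12_2 lc_b_rc_13_2 lc_b_rc_13_2 lc_b_rc_16_2 lc_b_rc_12_2 lc_b_Cert_tree lc_b_rc_12_2 lc_b_rc_10_1 lc_b_rc_14_2 lc_b_rc_16_2 lc_b_rc_13_2 lc_b_rc_11_4 lc_b_rc_18_2 lc_b_rc_15_2 lc_b_rc_11_2 lc_b_rc_12_2 lc_b_rc_12_2 lc_b_rc_13_2 lc_b_rc_14_0 lc_b_rc_14_2 lc_b_rc_12_2) (@D3.rec (fun _ => (Cert rels S Gen.b)) lc_b_rc_13_2 lc_b_rc_14_2 lc_b_rc_12_2 lc_b_rc_13_2 lc_b_rc_15_2 lc_b_rc_15_2 lc_b_rc_15_2 lc_b_rc_14_2 lc_b_rc_13_2 lc_b_rc_14_2 lc_b_rc_13_2 lc_b_rc_12_2 lc_b_rc_14_2 lc_b_rc_1_1 lc_b_rc_12_2 lc_b_rc_18_2 lc_b_rc_13_2 lc_b_rc_12_2 lc_b_rc_10_1 lc_b_rc_16_2 lc_b_rc_16_2 lc_b_rc_15_2 lc_b_rc_15_2 lc_b_rc_14_2 lc_b_rc_15_2 lc_b_rc_18_2 lc_b_rc_14_2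 lc_b_rc_12_2 lc_b_rc_11_2 lc_b_rc_18_2 lc_b_rc_14_2 lc_b_rc_13_2 lc_b_rc_13_2 lc_b_rc_12_2 lc_b_rc_12_2 lc_b_rc_12_2 lc_b_rc_18_2 lc_b_rc_14_2 lc_b_rc_12_2 lc_b_rc_14_2 lc_b_rc_14_2 lc_b_rc_12_2 lc_b_rc_12_2 lc_b_Cert_tree lc_b_rc_18_2 lc_b_rc_14_2 lc_b_rc_14_2 lc_b_rc_12_2 lc_b_rc_16_2 lc_b_rc_14_2 lc_b_rc_12_2) (@D3.rec (fun _ => (Cert rels S Gen.b)) lc_b_rc_12_2 lc_b_rc_14_2 lc_b_rc_14_2 lc_b_rc_12_0 lc_b_rc_14_2 lc_b_rc_14_2 lc_b_rc_14_2 lc_b_rc_12_2 lc_b_rc_13_2 lc_b_rc_14_2 lc_b_rc_15_2 lc_b_rc_13_2 lc_b_rc_18_2 lc_b_rc_14_2 lc_b_rc_14_2 lc_b_rc_12_2 lc_b_rc_1_3 lc_b_rc_1_3 lc_b_rc_12_2 lc_b_rc_14_2 lc_b_rc_13_2 lc_b_rc_14_2 lc_b_rc_12_2 lc_b_Cert_tree lc_b_rc_1_3 lc_b_rc_14_2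 lc_b_rc_14_2 lc_b_rc_1_3 lc_b_rc_18_2 lc_b_rc_12_2 lc_b_rc_18_2 lc_b_rc_14_2 lc_b_rc_16_2 lc_b_rc_12_2 lc_b_rc_14_2 lc_b_rc_12_2 lc_b_rc_14_2 lc_b_rc_11_4 lc_b_rc_12_2 lc_b_rc_12_2 lc_b_rc_12_2 lc_b_rc_18_2 lc_b_rc_18_2 lc_b_rc_14_2 lc_b_rc_55_29 lc_b_rc_14_2 lc_b_rc_12_2 lc_b_rc_13_2 lc_b_rc_15_2 lc_b_rc_55_38 lc_b_rc_12_2) (@D3.rec (fun _ => (Cert rels S Gen.b)) lc_b_rc_12_2 lc_b_rc_18_2 lc_b_rc_14_2 lc_b_rc_12_2 lc_b_rc_12_2 lc_b_rc_12_2 lc_b_rc_12_2 lc_b_rc_14_2 lc_b_rc_13_2 lc_b_rc_13_2 lc_b_rc_14_2 lc_b_rc_12_2 lc_b_rc_12_2 lc_b_rc_18_2 lc_b_rc_12_2 lc_b_Cert_tree lc_b_rc_14_2 lc_b_rc_14_2 lc_b_rc_12_2 lc_b_rc_14_2 lc_b_rc_12_2 lc_b_rc_15_2 lc_b_rc_15_2 lc_b_rc_12_2 lc_b_rc_14_2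 lc_b_rc_13_2 lc_b_rc_14_2 lc_b_rc_12_2 lc_b_rc_15_2 lc_b_rc_13_2 lc_b_rc_12_2 lc_b_rc_15_2 lc_b_rc_12_2 lc_b_rc_18_2 lc_b_rc_14_2 lc_b_rc_15_0 lc_b_rc_14_2 lc_b_rc_12_2 lc_b_rc_14_2 lc_b_rc_13_2 lc_b_rc_15_0 lc_b_rc_12_2 lc_b_Cert_tree lc_b_rc_13_2 lc_b_rc_1_3 lc_b_rc_12_2 lc_b_rc_12_2 lc_b_rc_18_2 lc_b_rc_14_2 lc_b_rc_12_2 lc_b_rc_13_2) (@D3.rec (fun _ => (Cert rels S Gen.b)) lc_b_rc_12_2 lc_b_rc_13_2 lc_b_rc_14_2 lc_b_rc_14_2 lc_b_rc_12_2 lc_b_rc_15_2 lc_b_rc_14_2 lc_b_rc_12_2 lc_b_Cert_tree lc_b_rc_12_2 lc_b_rc_13_2 lc_b_rc_17_2 lc_b_rc_12_2 lc_b_Cert_tree lc_b_rc_10_0 lc_b_rc_12_2 lc_b_rc_1_3 lc_b_rc_14_2 lc_b_rc_12_2 lc_b_rc_12_2 lc_b_rc_12_2 lc_b_rc_14_2 lc_b_rc_14_2 lc_b_rc_1_3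 lc_b_rc_14_2 lc_b_rc_12_2 lc_b_rc_11_2 lc_b_rc_55_20 lc_b_rc_12_2 lc_b_rc_13_2 lc_b_rc_15_2 lc_b_rc_14_2 lc_b_rc_12_2 lc_b_rc_12_2 lc_b_rc_18_2 lc_b_rc_15_2 lc_b_rc_18_2 lc_b_rc_14_2 lc_b_rc_12_2 lc_b_rc_14_2 lc_b_rc_12_0 lc_b_rc_12_2 lc_b_rc_14_2 lc_b_rc_12_2 lc_b_rc_1_3 lc_b_rc_14_2 lc_b_rc_12_2 lc_b_rc_13_2 lc_b_rc_14_2 lc_b_rc_16_2 lc_b_rc_14_2) (@D3.rec (fun _ => (Cert rels S Gen.b)) lc_b_rc_14_2 lc_b_rc_12_2 lc_b_rc_12_2 lc_b_rc_14_2 lc_b_rc_17_2 lc_b_rc_14_2 lc_b_rc_12_2 lc_b_rc_18_2 lc_b_rc_14_2 lc_b_rc_14_2 lc_b_rc_12_2 lc_b_rc_12_2 lc_b_rc_12_2 lc_b_rc_10_1 lc_b_rc_13_2 lc_b_rc_10_0 lc_b_rc_11_2 lc_b_rc_12_2 lc_b_rc_13_2 lc_b_rc_12_2 lc_b_rc_15_2 lc_b_rc_13_2 lc_b_rc_13_2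 lc_b_rc_13_2 lc_b_rc_14_2 lc_b_rc_12_2 lc_b_rc_10_1 lc_b_rc_11_2 lc_b_rc_18_2 lc_b_rc_14_2 lc_b_rc_10_0 lc_b_rc_12_2 lc_b_rc_17_2 lc_b_rc_12_2 lc_b_rc_16_2 lc_b_rc_12_2 lc_b_Cert_tree lc_b_rc_10_0 lc_b_rc_15_2 lc_b_rc_18_2 lc_b_rc_18_2 lc_b_rc_18_2 lc_b_rc_18_2 lc_b_rc_12_2 lc_b_rc_10_0 lc_b_rc_13_2 lc_b_rc_14_2 lc_b_rc_12_2 lc_b_rc_18_2 lc_b_rc_16_2 lc_b_rc_15_2) (@D3.rec (fun _ => (Cert rels S Gen.b)) lc_b_rc_14_2 lc_b_rc_15_2 lc_b_rc_14_2 lc_b_rc_16_2 lc_b_rc_15_2 lc_b_rc_18_2 lc_b_rc_14_2 lc_b_rc_18_2 lc_b_rc_14_2 lc_b_rc_15_2 lc_b_rc_12_2 lc_b_rc_1_3 lc_b_rc_14_2 lc_b_rc_15_2 lc_b_rc_12_2 lc_b_rc_16_2 lc_b_rc_13_2 lc_b_rc_14_2 lc_b_rc_14_2 lc_b_rc_14_2 lc_b_rc_13_2 lc_b_rc_18_2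 lc_b_rc_18_2 lc_b_rc_18_2 lc_b_rc_18_2 lc_b_rc_18_2 lc_b_rc_18_2 lc_b_rc_12_2 lc_b_rc_18_2 lc_b_rc_12_2 lc_b_rc_14_2 lc_b_rc_13_2 lc_b_rc_17_2 lc_b_rc_16_2 lc_b_rc_15_2 lc_b_rc_12_2 lc_b_rc_17_2 lc_b_rc_16_2 lc_b_rc_12_2 lc_b_Cert_tree lc_b_rc_14_2 lc_b_rc_17_2 lc_b_rc_12_2 lc_b_rc_10_0 lc_b_rc_12_2 lc_b_Cert_tree lc_b_rc_13_2 lc_b_rc_10_0 lc_b_rc_12_2 lc_b_rc_12_2 lc_b_rc_10_0) (@D3.rec (fun _ => (Cert rels S Gen.b)) lc_b_rc_13_2 lc_b_rc_18_2 lc_b_rc_12_2 lc_b_rc_12_2 lc_b_rc_14_2 lc_b_rc_14_2 lc_b_rc_18_2 lc_b_rc_13_2 lc_b_rc_1_1 lc_b_rc_15_2 lc_b_rc_18_2 lc_b_rc_18_2 lc_b_rc_12_2 lc_b_rc_13_2 lc_b_rc_1_1 lc_b_rc_18_2 lc_b_rc_18_2 lc_b_rc_17_2 lc_b_rc_11_2 lc_b_rc_18_2 lc_b_rc_18_2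 lc_b_rc_1_1 lc_b_rc_18_2 lc_b_rc_12_2 lc_b_rc_18_2 lc_b_rc_13_2 lc_b_rc_13_2 lc_b_rc_14_2 lc_b_rc_13_2 lc_b_rc_12_2 lc_b_rc_14_2 lc_b_rc_14_0 lc_b_rc_15_2 lc_b_rc_14_2 lc_b_rc_12_2 lc_b_rc_18_2 lc_b_rc_14_2 lc_b_rc_12_2 lc_b_rc_14_2 lc_b_rc_12_2 lc_b_rc_13_2 lc_b_rc_14_2 lc_b_rc_12_2 lc_b_rc_15_2 lc_b_rc_12_2 lc_b_rc_12_0 lc_b_rc_17_2 lc_b_rc_14_2 lc_b_rc_16_2 lc_b_rc_15_2 lc_b_rc_12_2) (@D3.rec (fun _ => (Cert rels S Gen.b)) lc_b_rc_12_2 lc_b_rc_1_1 lc_b_rc_14_0 lc_b_rc_16_2 lc_b_rc_12_2 lc_b_Cert_tree lc_b_rc_13_2 lc_b_rc_11_2 lc_b_rc_11_2 lc_b_rc_16_2 lc_b_rc_12_2 lc_b_rc_55_56 lc_b_Cert_tree lc_b_rc_13_2 lc_b_rc_10_0 lc_b_rc_15_2 lc_b_rc_14_2 lc_b_rc_12_2 lc_b_rc_14_2 lc_b_rc_12_2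 lc_b_rc_18_2 lc_b_rc_14_2 lc_b_rc_12_2 lc_b_rc_13_2 lc_b_rc_17_2 lc_b_rc_18_0 lc_b_rc_13_2 lc_b_rc_18_2 lc_b_rc_13_2 lc_b_rc_18_2 lc_b_rc_18_2 lc_b_rc_16_2 lc_b_rc_13_2 lc_b_rc_12_2 lc_b_rc_15_2 lc_b_rc_15_2 lc_b_rc_13_2 lc_b_rc_14_2 lc_b_rc_12_2 lc_b_rc_1_1 lc_b_rc_1_1 lc_b_rc_13_2 lc_b_rc_14_2 lc_b_rc_13_2 lc_b_rc_1_1 lc_b_rc_14_2 lc_b_rc_14_2 lc_b_rc_12_2 lc_b_rc_12_2 lc_b_rc_10_0 lc_b_rc_12_2) (@D3.rec (fun _ => (Cert rels S Gen.b)) lc_b_rc_13_2 lc_b_rc_18_2 lc_b_rc_12_2 lc_b_rc_13_2 lc_b_rc_15_2 lc_b_rc_13_2 lc_b_rc_13_2 lc_b_rc_12_2 lc_b_rc_11_2 lc_b_rc_12_2 lc_b_rc_15_2 lc_b_rc_13_2 lc_b_rc_14_2 lc_b_rc_14_2 lc_b_rc_13_2 lc_b_rc_15_2 lc_b_rc_11_2 lc_b_rc_13_2 lc_b_rc_14_2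 lc_b_rc_12_2 lc_b_rc_15_2 lc_b_rc_15_2 lc_b_rc_12_2 lc_b_rc_13_2 lc_b_rc_11_2 lc_b_rc_13_2 lc_b_rc_11_2 lc_b_rc_13_2 lc_b_rc_14_0 lc_b_rc_13_2 lc_b_rc_10_0 lc_b_rc_13_2 lc_b_rc_18_2 lc_b_rc_12_2 lc_b_rc_12_2 lc_b_rc_14_2 lc_b_rc_10_0 lc_b_rc_13_2 lc_b_rc_18_2 lc_b_rc_16_2 lc_b_rc_12_0 lc_b_rc_18_2 lc_b_rc_14_2 lc_b_rc_12_2 lc_b_rc_14_2 lc_b_rc_15_2 lc_b_rc_18_2 lc_b_rc_18_2 lc_b_rc_13_2 lc_b_rc_18_2 lc_b_rc_11_2) (@D3.rec (fun _ => (Cert rels S Gen.b)) lc_b_rc_18_2 lc_b_rc_14_2 lc_b_rc_16_2 lc_b_rc_18_2 lc_b_rc_18_2 lc_b_rc_12_2 lc_b_rc_18_2 lc_b_rc_14_2 lc_b_rc_13_2 lc_b_rc_15_2 lc_b_rc_12_2 lc_b_rc_13_2 lc_b_rc_14_2 lc_b_rc_12_2 lc_b_rc_17_2 lc_b_rc_18_2 lc_b_rc_18_2 lc_b_rc_12_2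 lc_b_rc_14_2 lc_b_rc_12_2 lc_b_rc_18_2 lc_b_rc_18_2 lc_b_rc_12_2 lc_b_rc_12_2 lc_b_rc_15_2 lc_b_rc_16_2 lc_b_rc_18_2 lc_b_rc_18_2 lc_b_rc_12_2 lc_b_rc_12_2 lc_b_rc_18_2 lc_b_rc_12_2 lc_b_rc_16_2 lc_b_rc_15_2 lc_b_rc_14_2 lc_b_rc_13_2 lc_b_rc_15_2 lc_b_rc_18_2 lc_b_rc_14_2 lc_b_rc_14_2 lc_b_rc_12_2 lc_b_rc_17_2 lc_b_rc_16_2 lc_b_rc_15_2 lc_b_rc_12_2 lc_b_rc_12_2 lc_b_rc_13_2 lc_b_rc_15_2 lc_b_rc_14_2 lc_b_rc_12_2 lc_b_rc_18_2) (@D3.rec (fun _ => (Cert rels S Gen.b)) lc_b_rc_14_2 lc_b_rc_12_2 lc_b_rc_18_2 lc_b_rc_14_2 lc_b_rc_11_4 lc_b_rc_13_2 lc_b_rc_14_2 lc_b_rc_12_2 lc_b_rc_13_2 lc_b_rc_17_2 lc_b_rc_16_2 lc_b_rc_12_2 lc_b_Cert_tree lc_b_rc_14_2 lc_b_rc_12_2 lc_b_rc_13_2 lc_b_rc_17_2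 lc_b_rc_16_2 lc_b_rc_12_2 lc_b_Cert_tree lc_b_rc_12_2 lc_b_rc_14_2 lc_b_rc_13_2 lc_b_rc_12_2 lc_b_rc_15_2 lc_b_rc_15_2 lc_b_rc_17_2 lc_b_rc_12_2 lc_b_Cert_tree lc_b_rc_13_2 lc_b_rc_10_0 lc_b_rc_14_2 lc_b_rc_11_2 lc_b_rc_12_2 lc_b_rc_17_2 lc_b_rc_12_2 lc_b_Cert_tree lc_b_rc_13_2 lc_b_rc_10_0 lc_b_rc_12_2 lc_b_rc_15_2 lc_b_rc_13_2 lc_b_rc_10_0 lc_b_rc_13_2 lc_b_rc_17_2 lc_b_rc_17_2 lc_b_rc_12_2 lc_b_rc_13_2 lc_b_rc_12_2 lc_b_rc_14_2 lc_b_rc_18_2)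
def ce_b_16 : D2 → D3 → (Cert rels S Gen.b) := @D2.rec (fun _ => D3 → (Cert rels S Gen.b)) (@D3.rec (fun _ => (Cert rels S Gen.b)) lc_b_rc_14_2 lc_b_rc_12_2 lc_b_rc_13_2 lc_b_rc_18_2 lc_b_rc_12_2 lc_b_rc_13_2 lc_b_rc_15_2 lc_b_rc_13_2 lc_b_rc_15_2 lc_b_rc_15_2 lc_b_rc_11_2 lc_b_rc_14_2 lc_b_rc_55_38 lc_b_rc_14_2 lc_b_rc_14_2 lc_b_rc_55_29 lc_b_rc_17_2 lc_b_rc_10_0 lc_b_rc_14_2 lc_b_rc_12_2 lc_b_rc_13_2 lc_b_rc_12_2 lc_b_rc_12_2 lc_b_rc_17_2 lc_b_rc_14_2 lc_b_rc_11_4 lc_b_rc_14_2 lc_b_rc_18_2 lc_b_rc_10_0 lc_b_rc_55_56 lc_b_rc_14_2 lc_b_rc_1_1 lc_b_rc_12_2 lc_b_rc_15_2 lc_b_rc_15_2 lc_b_rc_12_2 lc_b_rc_13_0 lc_b_rc_13_2 lc_b_rc_17_2 lc_b_rc_11_2 lc_b_rc_13_2 lc_b_rc_55_29 lc_b_rc_55_29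 lc_b_rc_12_2 lc_b_rc_12_2 lc_b_rc_13_2 lc_b_rc_12_2 lc_b_rc_1_5 lc_b_rc_11_0 lc_b_rc_55_20 lc_b_rc_12_2) (@D3.rec (fun _ => (Cert rels S Gen.b)) lc_b_rc_13_2 lc_b_rc_12_2 lc_b_rc_13_2 lc_b_rc_13_2 lc_b_rc_13_0 lc_b_rc_13_2 lc_b_rc_12_2 lc_b_rc_13_2 lc_b_rc_14_2 lc_b_rc_14_2 lc_b_rc_1_1 lc_b_rc_18_2 lc_b_rc_13_2 lc_b_rc_15_2 lc_b_rc_13_2 lc_b_rc_1_1 lc_b_rc_12_2 lc_b_rc_16_2 lc_b_rc_14_2 lc_b_rc_15_2 lc_b_rc_14_2 lc_b_rc_12_2 lc_b_rc_12_2 lc_b_rc_13_2 lc_b_rc_16_2 lc_b_rc_13_2 lc_b_rc_14_2 lc_b_rc_13_2 lc_b_rc_15_2 lc_b_rc_12_2 lc_b_rc_14_2 lc_b_rc_16_2 lc_b_rc_11_4 lc_b_rc_1_3 lc_b_rc_12_2 lc_b_rc_15_2 lc_b_rc_12_0 lc_b_rc_16_2 lc_b_rc_14_2 lc_b_rc_12_2 lc_b_rc_14_2 lc_b_rc_13_2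 lc_b_rc_11_2 lc_b_rc_13_2 lc_b_rc_18_2 lc_b_rc_1_1 lc_b_rc_18_2 lc_b_rc_14_2 lc_b_rc_14_2 lc_b_rc_18_2 lc_b_rc_18_2) (@D3.rec (fun _ => (Cert rels S Gen.b)) lc_b_rc_14_2 lc_b_rc_12_2 lc_b_rc_15_2 lc_b_rc_18_2 lc_b_rc_12_2 lc_b_rc_12_2 lc_b_rc_18_2 lc_b_rc_13_2 lc_b_rc_15_2 lc_b_rc_1_1 lc_b_rc_55_65 lc_b_rc_12_2 lc_b_rc_14_2 lc_b_rc_18_2 lc_b_rc_14_2 lc_b_rc_15_2 lc_b_rc_14_2 lc_b_rc_12_2 lc_b_rc_12_0 lc_b_rc_15_2 lc_b_rc_12_2 lc_b_rc_12_2 lc_b_rc_16_2 lc_b_rc_14_2 lc_b_rc_12_2 lc_b_rc_11_4 lc_b_rc_16_2 lc_b_rc_14_2 lc_b_rc_12_2 lc_b_rc_15_2 lc_b_rc_13_2 lc_b_rc_12_2 lc_b_rc_15_2 lc_b_rc_15_2 lc_b_rc_13_2 lc_b_rc_14_0 lc_b_rc_13_2 lc_b_rc_18_2 lc_b_rc_13_2 lc_b_rc_14_2 lc_b_rc_13_2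 lc_b_rc_18_2 lc_b_rc_12_2 lc_b_rc_18_2 lc_b_rc_14_2 lc_b_rc_14_2 lc_b_rc_14_2 lc_b_rc_18_2 lc_b_rc_13_2 lc_b_rc_12_2 lc_b_rc_56_36) (@D3.rec (fun _ => (Cert rels S Gen.b)) lc_b_rc_16_2 lc_b_rc_14_2 lc_b_rc_13_2 lc_b_rc_14_2 lc_b_rc_10_0 lc_b_rc_17_2 lc_b_rc_1_3 lc_b_rc_14_2 lc_b_rc_13_2 lc_b_rc_18_2 lc_b_rc_12_2 lc_b_rc_11_2 lc_b_rc_18_2 lc_b_rc_14_2 lc_b_rc_15_2 lc_b_rc_13_2 lc_b_rc_11_2 lc_b_rc_14_2 lc_b_rc_16_0 lc_b_rc_11_2 lc_b_rc_12_2 lc_b_rc_15_2 lc_b_rc_16_2 lc_b_rc_12_2 lc_b_rc_11_2 lc_b_rc_18_2 lc_b_rc_13_2 lc_b_rc_14_2 lc_b_rc_10_1 lc_b_rc_11_4 lc_b_rc_16_2 lc_b_rc_18_2 lc_b_rc_14_2 lc_b_rc_1_3 lc_b_rc_18_2 lc_b_rc_14_2 lc_b_rc_13_2 lc_b_rc_14_2 lc_b_rc_12_2 lc_b_rc_14_2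 lc_b_rc_12_2 lc_b_rc_15_2 lc_b_rc_1_3 lc_b_rc_12_2 lc_b_rc_14_2 lc_b_rc_13_0 lc_b_rc_13_2 lc_b_rc_14_2 lc_b_rc_16_2 lc_b_rc_11_2 lc_b_rc_13_2) (@D3.rec (fun _ => (Cert rels S Gen.b)) lc_b_rc_11_2 lc_b_rc_1_1 lc_b_rc_16_2 lc_b_rc_14_0 lc_b_rc_12_2 lc_b_rc_12_2 lc_b_rc_13_2 lc_b_rc_11_2 lc_b_rc_13_2 lc_b_rc_15_2 lc_b_rc_12_0 lc_b_rc_16_2 lc_b_rc_12_2 lc_b_rc_13_2 lc_b_rc_14_2 lc_b_rc_13_2 lc_b_rc_18_2 lc_b_rc_12_2 lc_b_rc_14_2 lc_b_rc_18_2 lc_b_rc_14_2 lc_b_rc_13_0 lc_b_rc_15_0 lc_b_rc_13_2 lc_b_rc_18_2 lc_b_rc_12_2 lc_b_rc_11_4 lc_b_rc_11_4 lc_b_rc_13_2 lc_b_rc_18_2 lc_b_rc_12_2 lc_b_rc_18_2 lc_b_rc_14_2 lc_b_rc_14_2 lc_b_rc_12_2 lc_b_rc_13_2 lc_b_rc_14_2 lc_b_rc_12_2 lc_b_rc_13_2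 lc_b_rc_18_2 lc_b_rc_12_2 lc_b_rc_12_2 lc_b_rc_15_2 lc_b_rc_12_2 lc_b_rc_12_2 lc_b_rc_15_2 lc_b_rc_12_2 lc_b_rc_13_2 lc_b_rc_18_2 lc_b_rc_12_2 lc_b_rc_1_5) (@D3.rec (fun _ => (Cert rels S Gen.b)) lc_b_rc_13_2 lc_b_rc_12_2 lc_b_rc_12_2 lc_b_rc_13_2 lc_b_rc_11_4 lc_b_rc_56_29 lc_b_rc_11_4 lc_b_rc_11_2 lc_b_rc_13_2 lc_b_rc_12_2 lc_b_rc_13_2 lc_b_rc_12_2 lc_b_rc_14_0 lc_b_rc_18_2 lc_b_rc_1_3 lc_b_rc_12_2 lc_b_rc_14_2 lc_b_rc_12_2 lc_b_rc_18_2 lc_b_rc_14_2 lc_b_rc_12_2 lc_b_rc_14_2 lc_b_rc_12_2 lc_b_rc_18_2 lc_b_rc_14_2 lc_b_rc_13_2 lc_b_rc_14_2 lc_b_rc_12_2 lc_b_rc_13_2 lc_b_rc_17_2 lc_b_rc_16_2 lc_b_rc_12_2 lc_b_Cert_tree lc_b_rc_11_2 lc_b_rc_12_2 lc_b_rc_12_2 lc_b_rc_14_2 lc_b_rc_12_2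 lc_b_rc_13_2 lc_b_rc_15_2 lc_b_rc_12_2 lc_b_rc_13_2 lc_b_rc_13_2 lc_b_rc_15_2 lc_b_rc_17_2 lc_b_rc_12_2 lc_b_rc_16_2 lc_b_rc_13_2 lc_b_rc_10_0 lc_b_rc_13_2 lc_b_rc_12_2) (@D3.rec (fun _ => (Cert rels S Gen.b)) lc_b_rc_13_2 lc_b_rc_14_0 lc_b_rc_13_2 lc_b_rc_10_0 lc_b_rc_13_2 lc_b_rc_13_0 lc_b_rc_11_4 lc_b_rc_12_2 lc_b_rc_12_0 lc_b_rc_16_2 lc_b_rc_16_2 lc_b_rc_18_2 lc_b_rc_14_2 lc_b_rc_12_2 lc_b_rc_13_2 lc_b_rc_18_2 lc_b_rc_12_2 lc_b_rc_12_2 lc_b_rc_13_2 lc_b_rc_14_2 lc_b_rc_13_2 lc_b_rc_14_2 lc_b_rc_13_2 lc_b_rc_10_0 lc_b_rc_14_2 lc_b_rc_17_2 lc_b_rc_14_0 lc_b_rc_12_2 lc_b_rc_14_2 lc_b_rc_14_2 lc_b_rc_13_2 lc_b_rc_12_2 lc_b_rc_12_2 lc_b_rc_11_2 lc_b_rc_13_2 lc_b_rc_12_2 lc_b_rc_12_2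 lc_b_rc_14_2 lc_b_rc_16_2 lc_b_rc_16_2 lc_b_rc_12_2 lc_b_rc_14_2 lc_b_rc_12_2 lc_b_rc_18_2 lc_b_rc_18_2 lc_b_rc_18_2 lc_b_rc_18_2 lc_b_rc_18_2 lc_b_rc_12_2 lc_b_rc_18_2 lc_b_rc_12_2) (@D3.rec (fun _ => (Cert rels S Gen.b)) lc_b_rc_12_2 lc_b_rc_10_0 lc_b_rc_12_0 lc_b_rc_16_0 lc_b_rc_14_2 lc_b_rc_14_2 lc_b_rc_15_2 lc_b_rc_12_2 lc_b_rc_14_2 lc_b_rc_14_2 lc_b_rc_13_2 lc_b_rc_12_2 lc_b_rc_13_2 lc_b_rc_13_2 lc_b_rc_12_2 lc_b_Cert_tree lc_b_rc_12_2 lc_b_rc_17_2 lc_b_rc_12_2 lc_b_rc_12_2 lc_b_rc_13_2 lc_b_rc_12_2 lc_b_rc_12_2 lc_b_rc_13_2 lc_b_rc_14_0 lc_b_rc_14_0 lc_b_rc_13_2 lc_b_rc_13_2 lc_b_rc_18_2 lc_b_rc_13_2 lc_b_rc_13_2 lc_b_rc_14_2 lc_b_rc_13_2 lc_b_rc_14_2 lc_b_rc_14_2 lc_b_rc_12_2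 lc_b_rc_13_2 lc_b_rc_12_2 lc_b_rc_12_2 lc_b_rc_12_2 lc_b_rc_56_43 lc_b_rc_16_0 lc_b_rc_16_0 lc_b_rc_12_2 lc_b_rc_12_2 lc_b_rc_14_2 lc_b_rc_12_2 lc_b_rc_13_2 lc_b_rc_12_2 lc_b_rc_12_2 lc_b_rc_14_2) (@D3.rec (fun _ => (Cert rels S Gen.b)) lc_b_rc_16_2 lc_b_rc_15_2 lc_b_rc_13_2 lc_b_rc_1_3 lc_b_rc_12_2 lc_b_rc_16_2 lc_b_rc_15_2 lc_b_rc_17_2 lc_b_rc_1_3 lc_b_rc_18_2 lc_b_rc_15_2 lc_b_rc_13_2 lc_b_rc_14_2 lc_b_rc_1_3 lc_b_rc_14_2 lc_b_rc_12_2 lc_b_rc_12_2 lc_b_rc_13_2 lc_b_rc_13_2 lc_b_rc_14_2 lc_b_rc_16_2 lc_b_rc_13_2 lc_b_rc_12_2 lc_b_rc_13_2 lc_b_rc_12_2 lc_b_rc_14_2 lc_b_rc_10_0 lc_b_rc_12_2 lc_b_rc_10_0 lc_b_rc_14_2 lc_b_rc_13_2 lc_b_rc_12_2 lc_b_rc_12_2 lc_b_Cert_tree lc_b_rc_18_2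 lc_b_rc_14_2 lc_b_rc_12_2 lc_b_rc_16_2 lc_b_rc_12_2 lc_b_rc_17_2 lc_b_rc_12_2 lc_b_rc_14_2 lc_b_rc_1_5 lc_b_rc_13_2 lc_b_rc_12_2 lc_b_rc_18_2 lc_b_rc_14_0 lc_b_rc_13_2 lc_b_rc_14_2 lc_b_rc_12_2 lc_b_rc_1_3) (@D3.rec (fun _ => (Cert rels S Gen.b)) lc_b_rc_14_2 lc_b_rc_14_2 lc_b_rc_12_2 lc_b_rc_14_2 lc_b_rc_13_2 lc_b_rc_18_2 lc_b_rc_12_2 lc_b_rc_18_2 lc_b_rc_14_2 lc_b_rc_12_2 lc_b_rc_12_2 lc_b_rc_14_2 lc_b_rc_12_2 lc_b_rc_18_2 lc_b_rc_12_2 lc_b_rc_15_2 lc_b_rc_18_2 lc_b_rc_14_2 lc_b_rc_12_2 lc_b_rc_56_29 lc_b_rc_12_2 lc_b_rc_10_1 lc_b_rc_18_2 lc_b_rc_14_2 lc_b_rc_12_2 lc_b_rc_13_0 lc_b_rc_14_2 lc_b_rc_14_2 lc_b_rc_13_2 lc_b_rc_14_2 lc_b_rc_16_2 lc_b_rc_18_2 lc_b_rc_18_2 lc_b_rc_18_2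 lc_b_rc_14_2 lc_b_rc_14_2 lc_b_rc_13_2 lc_b_rc_14_2 lc_b_rc_18_0 lc_b_rc_18_2 lc_b_rc_18_2 lc_b_rc_12_2 lc_b_rc_12_2 lc_b_rc_14_2 lc_b_rc_11_2 lc_b_rc_12_2 lc_b_rc_12_2 lc_b_rc_14_2 lc_b_rc_13_2 lc_b_rc_13_2 lc_b_rc_12_2) (@D3.rec (fun _ => (Cert rels S Gen.b)) lc_b_rc_18_2 lc_b_rc_18_2 lc_b_rc_12_2 lc_b_Cert_tree lc_b_rc_12_2 lc_b_rc_15_2 lc_b_rc_12_2 lc_b_rc_16_2 lc_b_rc_18_2 lc_b_rc_12_2 lc_b_Cert_tree lc_b_rc_15_2 lc_b_rc_15_2 lc_b_rc_12_2 lc_b_rc_18_2 lc_b_rc_12_2 lc_b_Cert_tree lc_b_rc_13_2 lc_b_rc_10_0 lc_b_rc_14_2 lc_b_rc_12_2 lc_b_rc_11_4 lc_b_rc_18_2 lc_b_rc_14_2 lc_b_rc_16_2 lc_b_rc_15_2 lc_b_rc_15_2 lc_b_rc_14_2 lc_b_rc_17_0 lc_b_rc_16_2 lc_b_rc_15_2 lc_b_rc_12_2 lc_b_rc_13_2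 lc_b_rc_14_2 lc_b_rc_12_2 lc_b_rc_12_2 lc_b_rc_18_2 lc_b_rc_14_2 lc_b_rc_12_2 lc_b_rc_12_2 lc_b_rc_12_2 lc_b_rc_12_2 lc_b_rc_13_2 lc_b_rc_17_2 lc_b_rc_16_2 lc_b_rc_13_2 lc_b_rc_14_2 lc_b_rc_12_2 lc_b_rc_13_2 lc_b_rc_17_2 lc_b_rc_16_2) (@D3.rec (fun _ => (Cert rels S Gen.b)) lc_b_rc_12_2 lc_b_Cert_tree lc_b_rc_13_2 lc_b_rc_12_2 lc_b_rc_12_2 lc_b_rc_14_2 lc_b_rc_18_2 lc_b_rc_14_2 lc_b_rc_12_2 lc_b_rc_13_2 lc_b_rc_12_2 lc_b_rc_10_1 lc_b_rc_12_2 lc_b_rc_15_2 lc_b_rc_14_2 lc_b_rc_14_2 lc_b_rc_12_2 lc_b_rc_12_0 lc_b_rc_14_2 lc_b_rc_12_2 lc_b_Cert_tree lc_b_rc_13_2 lc_b_rc_13_2 lc_b_rc_17_2 lc_b_rc_12_2 lc_b_Cert_tree lc_b_rc_13_2 lc_b_rc_10_0 lc_b_rc_14_2 lc_b_rc_12_2 lc_b_rc_1_3 lc_b_rc_14_2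 lc_b_rc_12_2 lc_b_rc_11_4 lc_b_rc_17_2 lc_b_rc_17_2 lc_b_rc_12_2 lc_b_Cert_tree lc_b_rc_13_2 lc_b_rc_10_0 lc_b_rc_18_2 lc_b_rc_14_2 lc_b_rc_12_2 lc_b_rc_14_2 lc_b_rc_12_2 lc_b_rc_11_4 lc_b_rc_13_2 lc_b_rc_15_2 lc_b_rc_12_2 lc_b_rc_18_0 lc_b_rc_13_2) (@D3.rec (fun _ => (Cert rels S Gen.b)) lc_b_rc_10_0 lc_b_rc_13_2 lc_b_rc_14_2 lc_b_rc_14_2 lc_b_rc_12_2 lc_b_rc_13_2 lc_b_rc_16_0 lc_b_rc_12_2 lc_b_Cert_tree lc_b_rc_13_2 lc_b_rc_10_0 lc_b_rc_13_2 lc_b_rc_11_2 lc_b_rc_18_0 lc_b_rc_13_2 lc_b_rc_13_2 lc_b_rc_15_2 lc_b_rc_13_2 lc_b_rc_12_2 lc_b_rc_14_2 lc_b_rc_12_2 lc_b_rc_14_2 lc_b_rc_13_2 lc_b_rc_11_2 lc_b_rc_15_2 lc_b_rc_12_2 lc_b_rc_14_2 lc_b_rc_1_3 lc_b_rc_1_3 lc_b_rc_14_2 lc_b_rc_12_2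 lc_b_rc_15_2 lc_b_rc_13_2 lc_b_rc_14_2 lc_b_rc_12_2 lc_b_rc_18_2 lc_b_rc_12_2 lc_b_rc_14_2 lc_b_rc_14_0 lc_b_rc_12_2 lc_b_rc_12_2 lc_b_rc_18_2 lc_b_rc_12_2 lc_b_rc_14_2 lc_b_rc_14_2 lc_b_rc_12_2 lc_b_rc_12_2 lc_b_rc_14_2 lc_b_rc_13_2 lc_b_rc_12_2 lc_b_rc_18_2) (@D3.rec (fun _ => (Cert rels S Gen.b)) lc_b_rc_14_2 lc_b_rc_15_2 lc_b_rc_14_2 lc_b_rc_13_2 lc_b_rc_14_2 lc_b_rc_12_2 lc_b_rc_16_2 lc_b_rc_12_2 lc_b_Cert_tree lc_b_rc_14_2 lc_b_rc_12_2 lc_b_rc_15_2 lc_b_rc_12_2 lc_b_rc_12_2 lc_b_rc_13_2 lc_b_rc_11_2 lc_b_rc_14_2 lc_b_rc_18_2 lc_b_rc_12_2 lc_b_rc_12_2 lc_b_rc_13_2 lc_b_rc_1_3 lc_b_rc_14_2 lc_b_rc_12_2 lc_b_rc_12_2 lc_b_rc_13_2 lc_b_Cert_tree lc_b_rc_1_3 lc_b_rc_12_2 lc_b_rc_13_2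 lc_b_rc_13_2 lc_b_rc_17_2 lc_b_rc_14_2 lc_b_rc_12_2 lc_b_rc_12_2 lc_b_rc_13_2 lc_b_rc_15_2 lc_b_rc_12_2 lc_b_rc_17_2 lc_b_rc_13_2 lc_b_rc_18_2 lc_b_rc_18_2 lc_b_rc_14_2 lc_b_rc_11_0 lc_b_rc_14_2 lc_b_rc_18_2 lc_b_rc_14_2 lc_b_rc_12_2 lc_b_rc_16_2 lc_b_rc_13_2 lc_b_rc_14_2) (@D3.rec (fun _ => (Cert rels S Gen.b)) lc_b_rc_12_2 lc_b_rc_13_2 lc_b_rc_12_2 lc_b_rc_12_2 lc_b_rc_14_2 lc_b_rc_12_2 lc_b_rc_12_2 lc_b_rc_14_2 lc_b_rc_13_2 lc_b_rc_12_2 lc_b_rc_13_2 lc_b_rc_12_2 lc_b_Cert_tree lc_b_rc_12_2 lc_b_rc_1_5 lc_b_rc_1_5 lc_b_rc_13_2 lc_b_rc_13_2 lc_b_rc_1_5 lc_b_rc_15_2 lc_b_rc_14_2 lc_b_rc_12_2 lc_b_rc_12_2 lc_b_rc_56_22 lc_b_rc_1_3 lc_b_rc_13_2 lc_b_rc_14_2 lc_b_rc_12_2 lc_b_rc_13_2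 lc_b_rc_12_2 lc_b_rc_13_2 lc_b_rc_15_2 lc_b_rc_13_2 lc_b_rc_15_2 lc_b_rc_15_2 lc_b_rc_15_0 lc_b_rc_18_2 lc_b_rc_14_2 lc_b_rc_18_2 lc_b_rc_14_2 lc_b_rc_12_2 lc_b_rc_14_2 lc_b_rc_14_2 lc_b_rc_17_2 lc_b_rc_18_2 lc_b_rc_18_2 lc_b_rc_12_2 lc_b_rc_18_2 lc_b_rc_14_2 lc_b_rc_10_1 lc_b_rc_12_2) (@D3.rec (fun _ => (Cert rels S Gen.b)) lc_b_rc_14_2 lc_b_rc_12_2 lc_b_rc_12_2 lc_b_rc_12_2 lc_b_rc_18_2 lc_b_rc_14_2 lc_b_rc_12_2 lc_b_rc_15_2 lc_b_rc_15_2 lc_b_rc_14_2 lc_b_rc_14_2 lc_b_rc_12_2 lc_b_rc_13_2 lc_b_rc_18_2 lc_b_rc_12_2 lc_b_Cert_tree lc_b_rc_12_2 lc_b_rc_14_2 lc_b_rc_15_2 lc_b_rc_14_2 lc_b_rc_14_2 lc_b_rc_15_2 lc_b_rc_12_2 lc_b_rc_18_2 lc_b_rc_14_2 lc_b_rc_12_2 lc_b_rc_10_1 lc_b_rc_12_2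 lc_b_rc_16_2 lc_b_rc_14_2 lc_b_rc_14_2 lc_b_rc_12_2 lc_b_rc_13_2 lc_b_rc_12_2 lc_b_Cert_tree lc_b_rc_13_2 lc_b_rc_13_2 lc_b_rc_12_2 lc_b_rc_18_2 lc_b_rc_14_2 lc_b_rc_18_2 lc_b_rc_14_2 lc_b_rc_12_2 lc_b_rc_13_2 lc_b_rc_12_2 lc_b_rc_12_2 lc_b_rc_14_2 lc_b_rc_18_2 lc_b_rc_12_2 lc_b_rc_15_2 lc_b_rc_14_2) (@D3.rec (fun _ => (Cert rels S Gen.b)) lc_b_rc_12_2 lc_b_Cert_tree lc_b_rc_13_2 lc_b_rc_13_2 lc_b_rc_17_2 lc_b_rc_12_2 lc_b_Cert_tree lc_b_rc_10_0 lc_b_rc_15_2 lc_b_rc_14_2 lc_b_rc_14_2 lc_b_rc_12_2 lc_b_rc_12_2 lc_b_rc_18_2 lc_b_rc_15_2 lc_b_rc_12_2 lc_b_rc_14_2 lc_b_rc_12_2 lc_b_rc_15_2 lc_b_rc_15_2 lc_b_rc_13_2 lc_b_rc_14_2 lc_b_rc_17_2 lc_b_rc_13_2 lc_b_rc_13_2 lc_b_rc_17_2 lc_b_rc_14_2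 lc_b_rc_12_2 lc_b_rc_13_2 lc_b_rc_18_2 lc_b_rc_12_2 lc_b_rc_13_2 lc_b_rc_12_2 lc_b_rc_13_2 lc_b_rc_12_2 lc_b_rc_18_2 lc_b_rc_11_2 lc_b_rc_18_2 lc_b_rc_12_2 lc_b_rc_17_2 lc_b_rc_13_2 lc_b_rc_13_2 lc_b_rc_13_2 lc_b_rc_12_2 lc_b_rc_14_2 lc_b_rc_11_2 lc_b_rc_12_2 lc_b_rc_13_2 lc_b_rc_15_2 lc_b_rc_12_2 lc_b_rc_12_2) (@D3.rec (fun _ => (Cert rels S Gen.b)) lc_b_rc_13_2 lc_b_rc_12_2 lc_b_rc_12_2 lc_b_rc_18_2 lc_b_rc_13_2 lc_b_rc_14_2 lc_b_rc_12_2 lc_b_rc_11_4 lc_b_rc_13_2 lc_b_rc_13_2 lc_b_rc_15_0 lc_b_rc_13_2 lc_b_rc_14_0 lc_b_Cert_tree lc_b_rc_12_2 lc_b_rc_12_2 lc_b_rc_11_4 lc_b_rc_16_2 lc_b_rc_14_2 lc_b_rc_12_2 lc_b_rc_10_1 lc_b_rc_14_0 lc_b_rc_14_0 lc_b_rc_17_2 lc_b_rc_13_2 lc_b_rc_12_2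 lc_b_rc_17_2 lc_b_rc_13_2 lc_b_rc_16_0 lc_b_rc_14_2 lc_b_rc_13_2 lc_b_Cert_tree lc_b_rc_15_2 lc_b_rc_13_2 lc_b_rc_14_2 lc_b_rc_12_2 lc_b_rc_17_2 lc_b_rc_17_0 lc_b_rc_12_2 lc_b_rc_13_2 lc_b_Cert_tree lc_b_rc_13_2 lc_b_rc_15_2 lc_b_rc_13_2 lc_b_rc_12_2 lc_b_rc_14_2 lc_b_rc_12_2 lc_b_rc_14_2 lc_b_rc_12_2 lc_b_rc_12_2 lc_b_rc_13_2) (@D3.rec (fun _ => (Cert rels S Gen.b)) lc_b_Cert_tree lc_b_rc_13_2 lc_b_rc_11_4 lc_b_rc_14_2 lc_b_rc_14_2 lc_b_rc_12_2 lc_b_rc_13_2 lc_b_rc_14_2 lc_b_rc_12_2 lc_b_rc_13_2 lc_b_rc_12_2 lc_b_Cert_tree lc_b_rc_13_2 lc_b_rc_15_2 lc_b_rc_13_2 lc_b_rc_12_2 lc_b_Cert_tree lc_b_rc_10_0 lc_b_rc_15_2 lc_b_rc_15_2 lc_b_rc_13_2 lc_b_rc_13_2 lc_b_rc_14_0 lc_b_rc_12_2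 lc_b_rc_13_2 lc_b_rc_15_2 lc_b_rc_12_2 lc_b_rc_13_2 lc_b_rc_11_2 lc_b_rc_15_2 lc_b_rc_14_2 lc_b_rc_12_2 lc_b_Cert_tree lc_b_rc_14_2 lc_b_rc_13_2 lc_b_rc_12_2 lc_b_rc_12_2 lc_b_Cert_tree lc_b_rc_17_2 lc_b_rc_16_2 lc_b_rc_15_2 lc_b_rc_15_2 lc_b_rc_16_2 lc_b_rc_18_2 lc_b_rc_14_2 lc_b_rc_12_2 lc_b_rc_14_2 lc_b_rc_14_2 lc_b_rc_12_2 lc_b_rc_13_2 lc_b_rc_12_2) (@D3.rec (fun _ => (Cert rels S Gen.b)) lc_b_Cert_tree lc_b_rc_12_2 lc_b_rc_14_2 lc_b_rc_14_2 lc_b_rc_12_2 lc_b_rc_14_2 lc_b_rc_12_2 lc_b_rc_12_2 lc_b_Cert_tree lc_b_Cert_tree lc_b_rc_10_0 lc_b_rc_14_2 lc_b_rc_12_2 lc_b_rc_12_2 lc_b_rc_12_2 lc_b_rc_13_2 lc_b_rc_14_2 lc_b_rc_15_2 lc_b_rc_17_0 lc_b_rc_14_2 lc_b_Cert_tree lc_b_rc_14_2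 lc_b_rc_15_2 lc_b_rc_12_2 lc_b_rc_14_2 lc_b_rc_12_2 lc_b_Cert_tree lc_b_rc_1_3 lc_b_rc_14_2 lc_b_rc_12_2 lc_b_rc_14_2 lc_b_rc_12_2 lc_b_Cert_tree lc_b_rc_10_0 lc_b_rc_15_0 lc_b_rc_1_3 lc_b_rc_12_2 lc_b_rc_14_2 lc_b_rc_12_2 lc_b_rc_16_2 lc_b_rc_14_2 lc_b_rc_12_2 lc_b_rc_13_2 lc_b_Cert_tree lc_b_rc_12_2 lc_b_rc_13_2 lc_b_rc_14_2 lc_b_rc_12_2 lc_b_rc_14_2 lc_b_rc_14_2 lc_b_rc_12_2) (@D3.rec (fun _ => (Cert rels S Gen.b)) lc_b_Cert_tree lc_b_rc_13_2 lc_b_rc_16_2 lc_b_rc_12_2 lc_b_rc_14_2 lc_b_rc_14_2 lc_b_rc_12_2 lc_b_rc_10_1 lc_b_rc_12_2 lc_b_rc_12_2 lc_b_rc_14_2 lc_b_rc_14_2 lc_b_rc_12_2 lc_b_rc_13_2 lc_b_rc_13_2 lc_b_rc_12_2 lc_b_Cert_tree lc_b_rc_14_2 lc_b_rc_12_2 lc_b_Cert_tree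 lc_b_rc_10_0 lc_b_rc_12_2 lc_b_rc_12_2 lc_b_rc_14_2 lc_b_rc_15_2 lc_b_rc_12_2 lc_b_rc_13_2 lc_b_rc_12_2 lc_b_rc_15_2 lc_b_rc_13_2 lc_b_rc_14_2 lc_b_rc_12_2 lc_b_Cert_tree lc_b_rc_14_2 lc_b_rc_12_2 lc_b_rc_12_2 lc_b_rc_12_2 lc_b_Cert_tree lc_b_rc_12_2 lc_b_rc_14_2 lc_b_rc_14_2 lc_b_rc_16_2 lc_b_Cert_tree lc_b_rc_10_0 lc_b_rc_13_2 lc_b_rc_1_3 lc_b_rc_12_2 lc_b_rc_14_2 lc_b_rc_12_2 lc_b_Cert_tree lc_b_rc_13_2) (@D3.rec (fun _ => (Cert rels S Gen.b)) lc_b_rc_14_2 lc_b_rc_14_2 lc_b_rc_12_2 lc_b_rc_12_2 lc_b_Cert_tree lc_b_rc_15_2 lc_b_rc_12_2 lc_b_Cert_tree lc_b_rc_13_2 lc_b_rc_10_0 lc_b_rc_13_2 lc_b_rc_12_2 lc_b_rc_12_2 lc_b_Cert_tree lc_b_rc_10_0 lc_b_rc_1_3 lc_b_rc_13_0 lc_b_rc_12_2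 lc_b_rc_16_2 lc_b_rc_13_2 lc_b_rc_12_2 lc_b_rc_14_2 lc_b_rc_12_2 lc_b_rc_15_2 lc_b_rc_13_2 lc_b_rc_1_3 lc_b_rc_13_2 lc_b_rc_13_2 lc_b_rc_12_2 lc_b_rc_16_0 lc_b_rc_14_2 lc_b_rc_14_2 lc_b_rc_13_2 lc_b_rc_55_20 lc_b_rc_14_2 lc_b_rc_12_2 lc_b_rc_56_29 lc_b_rc_13_2 lc_b_rc_1_3 lc_b_rc_12_2 lc_b_rc_13_2 lc_b_rc_16_2 lc_b_rc_12_2 lc_b_rc_13_2 lc_b_rc_14_2 lc_b_rc_12_2 lc_b_rc_12_2 lc_b_rc_13_2 lc_b_rc_13_2 lc_b_rc_56_36 lc_b_rc_13_2) (@D3.rec (fun _ => (Cert rels S Gen.b)) lc_b_rc_1_3 lc_b_rc_13_2 lc_b_rc_13_2 lc_b_rc_56_36 lc_b_rc_12_2 lc_b_rc_10_0 lc_b_rc_10_0 lc_b_rc_18_2 lc_b_rc_18_2 lc_b_rc_18_2 lc_b_rc_12_2 lc_b_rc_13_2 lc_b_rc_14_2 lc_b_rc_12_2 lc_b_rc_13_2 lc_b_rc_15_2 lc_b_rc_12_2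 lc_b_rc_15_2 lc_b_rc_16_2 lc_b_rc_18_2 lc_b_rc_14_2 lc_b_rc_14_2 lc_b_rc_12_2 lc_b_rc_10_0 lc_b_rc_14_0 lc_b_rc_13_2 lc_b_rc_14_2 lc_b_rc_12_2 lc_b_rc_18_2 lc_b_rc_18_2 lc_b_rc_12_2 lc_b_rc_18_2 lc_b_rc_12_2 lc_b_rc_12_2 lc_b_rc_12_2 lc_b_rc_13_2 lc_b_rc_17_2 lc_b_rc_16_2 lc_b_rc_12_2 lc_b_Cert_tree lc_b_rc_17_2 lc_b_rc_12_2 lc_b_Cert_tree lc_b_rc_13_2 lc_b_rc_10_0 lc_b_rc_13_2 lc_b_rc_10_0 lc_b_rc_13_2 lc_b_rc_12_2 lc_b_rc_12_2 lc_b_rc_14_2) (@D3.rec (fun _ => (Cert rels S Gen.b)) lc_b_rc_13_2 lc_b_rc_18_2 lc_b_rc_14_0 lc_b_rc_12_2 lc_b_rc_18_2 lc_b_rc_14_2 lc_b_rc_12_2 lc_b_rc_14_2 lc_b_rc_18_2 lc_b_rc_18_2 lc_b_rc_12_2 lc_b_rc_13_2 lc_b_rc_17_2 lc_b_rc_13_2 lc_b_rc_18_2 lc_b_rc_18_2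 lc_b_rc_12_2 lc_b_rc_12_2 lc_b_rc_13_2 lc_b_rc_1_1 lc_b_rc_18_2 lc_b_rc_12_2 lc_b_rc_1_1 lc_b_rc_16_2 lc_b_rc_18_2 lc_b_rc_12_2 lc_b_rc_18_2 lc_b_rc_12_2 lc_b_rc_13_2 lc_b_rc_14_2 lc_b_rc_13_2 lc_b_rc_14_2 lc_b_rc_15_2 lc_b_rc_16_2 lc_b_rc_15_2 lc_b_rc_12_2 lc_b_rc_14_2 lc_b_rc_12_2 lc_b_rc_14_2 lc_b_rc_12_2 lc_b_rc_16_0 lc_b_rc_12_2 lc_b_rc_18_2 lc_b_rc_14_2 lc_b_rc_13_2 lc_b_rc_12_2 lc_b_rc_13_2 lc_b_rc_12_2 lc_b_Cert_tree lc_b_rc_14_2 lc_b_rc_17_2) (@D3.rec (fun _ => (Cert rels S Gen.b)) lc_b_rc_17_2 lc_b_rc_16_2 lc_b_rc_12_2 lc_b_rc_55_65 lc_b_rc_15_2 lc_b_rc_13_2 lc_b_rc_11_2 lc_b_rc_15_2 lc_b_rc_12_2 lc_b_rc_13_2 lc_b_rc_10_0 lc_b_rc_12_2 lc_b_rc_10_0 lc_b_rc_13_2 lc_b_rc_10_0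 lc_b_rc_13_2 lc_b_rc_16_2 lc_b_rc_18_2 lc_b_rc_14_2 lc_b_rc_12_2 lc_b_rc_13_2 lc_b_rc_18_2 lc_b_rc_12_2 lc_b_rc_13_2 lc_b_rc_13_2 lc_b_rc_17_2 lc_b_rc_13_2 lc_b_rc_18_2 lc_b_rc_13_2 lc_b_rc_16_2 lc_b_rc_16_2 lc_b_rc_15_2 lc_b_rc_13_2 lc_b_rc_14_2 lc_b_rc_15_2 lc_b_rc_15_2 lc_b_rc_14_2 lc_b_rc_12_2 lc_b_rc_1_1 lc_b_rc_1_1 lc_b_rc_14_2 lc_b_rc_12_2 lc_b_rc_17_2 lc_b_rc_12_2 lc_b_rc_13_2 lc_b_rc_12_2 lc_b_rc_13_2 lc_b_rc_13_2 lc_b_rc_12_2 lc_b_rc_13_2 lc_b_rc_12_2) (@D3.rec (fun _ => (Cert rels S Gen.b)) lc_b_rc_13_2 lc_b_rc_12_2 lc_b_rc_12_2 lc_b_rc_15_2 lc_b_rc_14_2 lc_b_rc_12_2 lc_b_rc_12_2 lc_b_rc_13_2 lc_b_rc_15_0 lc_b_rc_13_2 lc_b_rc_12_2 lc_b_Cert_tree lc_b_rc_15_2 lc_b_rc_12_2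 lc_b_rc_13_2 lc_b_rc_12_2 lc_b_rc_16_0 lc_b_rc_13_2 lc_b_rc_13_2 lc_b_rc_18_2 lc_b_rc_56_22 lc_b_rc_14_2 lc_b_rc_18_2 lc_b_rc_14_2 lc_b_rc_12_2 lc_b_rc_12_2 lc_b_rc_14_2 lc_b_rc_12_0 lc_b_rc_16_0 lc_b_rc_18_2 lc_b_rc_14_2 lc_b_rc_18_2 lc_b_rc_12_0 lc_b_rc_14_2 lc_b_rc_12_2 lc_b_rc_14_2 lc_b_rc_14_2 lc_b_rc_16_2 lc_b_rc_18_2 lc_b_rc_18_2 lc_b_rc_18_2 lc_b_rc_14_2 lc_b_rc_12_2 lc_b_rc_14_2 lc_b_rc_12_2 lc_b_rc_18_2 lc_b_rc_18_2 lc_b_rc_12_2 lc_b_rc_12_2 lc_b_rc_14_2 lc_b_rc_12_2) (@D3.rec (fun _ => (Cert rels S Gen.b)) lc_b_rc_13_2 lc_b_rc_15_2 lc_b_rc_14_2 lc_b_rc_13_2 lc_b_rc_12_2 lc_b_rc_13_2 lc_b_rc_18_2 lc_b_rc_18_2 lc_b_rc_12_2 lc_b_Cert_tree lc_b_rc_12_2 lc_b_rc_17_2 lc_b_rc_18_2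 lc_b_rc_12_2 lc_b_rc_12_2 lc_b_rc_15_2 lc_b_rc_18_2 lc_b_rc_12_2 lc_b_rc_12_2 lc_b_rc_13_2 lc_b_rc_12_2 lc_b_rc_13_0 lc_b_rc_16_2 lc_b_rc_15_2 lc_b_rc_12_2 lc_b_rc_13_2 lc_b_rc_15_2 lc_b_rc_14_2 lc_b_rc_12_2 lc_b_rc_12_2 lc_b_rc_13_2 lc_b_rc_17_2 lc_b_rc_16_2 lc_b_rc_12_2 lc_b_Cert_tree lc_b_rc_12_2 lc_b_rc_13_2 lc_b_rc_12_2 lc_b_rc_18_2 lc_b_rc_14_2 lc_b_rc_14_2 lc_b_rc_12_2 lc_b_rc_13_2 lc_b_rc_18_2 lc_b_rc_12_2 lc_b_rc_12_2 lc_b_rc_13_2 lc_b_rc_12_2 lc_b_Cert_tree lc_b_rc_13_2 lc_b_rc_15_2)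
def ce_b_17 : D2 → D3 → (Cert rels S Gen.b) := @D2.rec (fun _ => D3 → (Cert rels S Gen.b)) (@D3.rec (fun _ => (Cert rels S Gen.b)) lc_b_rc_17_2 lc_b_rc_12_2 lc_b_Cert_tree lc_b_rc_13_2 lc_b_rc_10_0 lc_b_rc_12_2 lc_b_rc_13_2 lc_b_rc_15_2 lc_b_rc_17_2 lc_b_rc_12_2 lc_b_Cert_tree lc_b_rc_13_2 lc_b_rc_10_0 lc_b_rc_15_2 lc_b_rc_12_2 lc_b_rc_12_0 lc_b_rc_12_2 lc_b_rc_13_2 lc_b_rc_10_0 lc_b_rc_13_2 lc_b_rc_12_2 lc_b_rc_13_2 lc_b_rc_10_0 lc_b_rc_13_2 lc_b_rc_17_2 lc_b_rc_13_2 lc_b_rc_13_2 lc_b_rc_13_2 lc_b_rc_12_2 lc_b_rc_13_2 lc_b_rc_14_2 lc_b_rc_13_0 lc_b_rc_15_2 lc_b_rc_18_2 lc_b_rc_12_2 lc_b_rc_13_2 lc_b_rc_15_2 lc_b_rc_12_2 lc_b_rc_13_2 lc_b_rc_12_2 lc_b_rc_13_2 lc_b_rc_55_83 lc_b_rc_12_2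 lc_b_rc_12_2 lc_b_rc_12_2 lc_b_rc_10_0 lc_b_rc_15_2 lc_b_rc_13_0 lc_b_rc_12_2 lc_b_rc_13_2 lc_b_rc_10_0) (@D3.rec (fun _ => (Cert rels S Gen.b)) lc_b_rc_11_2 lc_b_rc_13_2 lc_b_rc_12_2 lc_b_rc_10_0 lc_b_rc_13_2 lc_b_rc_13_2 lc_b_rc_13_2 lc_b_rc_14_2 lc_b_rc_14_2 lc_b_rc_13_2 lc_b_rc_14_2 lc_b_rc_13_2 lc_b_rc_15_2 lc_b_rc_13_2 lc_b_rc_13_2 lc_b_rc_12_2 lc_b_rc_15_2 lc_b_rc_12_2 lc_b_rc_1_1 lc_b_rc_14_2 lc_b_rc_14_2 lc_b_rc_13_2 lc_b_rc_15_2 lc_b_rc_13_2 lc_b_rc_12_2 lc_b_rc_12_2 lc_b_rc_13_2 lc_b_rc_13_2 lc_b_rc_14_2 lc_b_rc_14_2 lc_b_rc_15_0 lc_b_rc_18_2 lc_b_rc_11_0 lc_b_rc_14_2 lc_b_rc_13_2 lc_b_rc_18_2 lc_b_rc_14_2 lc_b_rc_1_1 lc_b_rc_14_2 lc_b_rc_12_2 lc_b_rc_15_2 lc_b_rc_18_2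 lc_b_rc_12_2 lc_b_rc_12_2 lc_b_rc_10_0 lc_b_rc_15_2 lc_b_rc_12_2 lc_b_rc_13_0 lc_b_rc_16_2 lc_b_rc_13_2 lc_b_rc_12_2) (@D3.rec (fun _ => (Cert rels S Gen.b)) lc_b_rc_14_2 lc_b_rc_12_2 lc_b_rc_15_2 lc_b_rc_12_2 lc_b_rc_13_2 lc_b_rc_14_2 lc_b_rc_12_2 lc_b_Cert_tree lc_b_rc_11_4 lc_b_rc_14_2 lc_b_rc_15_2 lc_b_rc_13_2 lc_b_rc_12_0 lc_b_rc_11_4 lc_b_rc_13_2 lc_b_rc_16_2 lc_b_rc_16_2 lc_b_rc_14_0 lc_b_rc_13_2 lc_b_rc_14_2 lc_b_rc_12_2 lc_b_rc_18_2 lc_b_rc_14_2 lc_b_rc_12_2 lc_b_rc_14_2 lc_b_rc_11_4 lc_b_rc_12_2 lc_b_rc_12_2 lc_b_rc_14_2 lc_b_rc_1_3 lc_b_rc_56_29 lc_b_rc_16_2 lc_b_rc_17_0 lc_b_rc_15_2 lc_b_rc_14_2 lc_b_rc_13_2 lc_b_rc_14_2 lc_b_rc_14_2 lc_b_rc_18_2 lc_b_rc_14_2 lc_b_rc_14_0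 lc_b_rc_1_1 lc_b_rc_14_2 lc_b_rc_12_2 lc_b_rc_15_2 lc_b_rc_12_2 lc_b_rc_12_2 lc_b_rc_11_2 lc_b_rc_13_2 lc_b_rc_16_2 lc_b_rc_10_0) (@D3.rec (fun _ => (Cert rels S Gen.b)) lc_b_rc_14_2 lc_b_rc_13_2 lc_b_rc_18_2 lc_b_rc_13_2 lc_b_rc_12_2 lc_b_rc_1_3 lc_b_rc_14_2 lc_b_rc_12_2 lc_b_rc_14_2 lc_b_rc_12_2 lc_b_rc_13_2 lc_b_rc_14_2 lc_b_Cert_tree lc_b_rc_11_2 lc_b_rc_13_2 lc_b_rc_15_2 lc_b_rc_12_2 lc_b_rc_10_0 lc_b_rc_15_2 lc_b_rc_11_4 lc_b_rc_14_2 lc_b_rc_14_0 lc_b_rc_15_2 lc_b_rc_13_2 lc_b_rc_15_2 lc_b_rc_15_2 lc_b_rc_56_22 lc_b_rc_56_43 lc_b_rc_15_0 lc_b_rc_55_47 lc_b_rc_17_2 lc_b_rc_14_2 lc_b_rc_18_2 lc_b_rc_14_2 lc_b_rc_12_2 lc_b_rc_12_2 lc_b_rc_15_2 lc_b_rc_14_2 lc_b_rc_12_2 lc_b_rc_14_2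 lc_b_rc_16_2 lc_b_rc_13_2 lc_b_rc_12_2 lc_b_rc_12_2 lc_b_rc_13_2 lc_b_rc_12_2 lc_b_rc_13_2 lc_b_rc_12_2 lc_b_rc_12_2 lc_b_rc_14_2 lc_b_rc_12_2) (@D3.rec (fun _ => (Cert rels S Gen.b)) lc_b_rc_18_2 lc_b_rc_14_2 lc_b_rc_13_2 lc_b_rc_12_2 lc_b_rc_13_2 lc_b_rc_14_2 lc_b_rc_12_2 lc_b_Cert_tree lc_b_rc_12_2 lc_b_rc_13_2 lc_b_rc_12_2 lc_b_rc_15_2 lc_b_rc_12_2 lc_b_rc_15_2 lc_b_rc_13_2 lc_b_rc_14_2 lc_b_rc_14_2 lc_b_rc_14_2 lc_b_rc_12_2 lc_b_rc_16_0 lc_b_rc_11_4 lc_b_rc_13_2 lc_b_rc_14_0 lc_b_rc_13_2 lc_b_rc_14_2 lc_b_Cert_tree lc_b_rc_16_2 lc_b_rc_13_2 lc_b_rc_12_2 lc_b_rc_18_2 lc_b_rc_14_2 lc_b_rc_14_2 lc_b_rc_12_2 lc_b_rc_13_2 lc_b_rc_15_2 lc_b_rc_14_2 lc_b_rc_18_2 lc_b_rc_12_2 lc_b_rc_13_2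 lc_b_rc_12_2 lc_b_Cert_tree lc_b_rc_13_2 lc_b_rc_15_2 lc_b_rc_17_2 lc_b_rc_12_2 lc_b_Cert_tree lc_b_rc_13_2 lc_b_rc_10_0 lc_b_rc_12_2 lc_b_rc_13_2 lc_b_rc_12_2) (@D3.rec (fun _ => (Cert rels S Gen.b)) lc_b_rc_13_2 lc_b_rc_15_2 lc_b_rc_12_2 lc_b_rc_15_2 lc_b_rc_13_2 lc_b_rc_15_2 lc_b_rc_16_2 lc_b_rc_13_2 lc_b_rc_16_2 lc_b_rc_14_0 lc_b_rc_13_2 lc_b_rc_12_2 lc_b_rc_15_0 lc_b_rc_12_2 lc_b_rc_55_38 lc_b_rc_16_2 lc_b_rc_12_2 lc_b_rc_18_2 lc_b_rc_12_2 lc_b_rc_13_2 lc_b_rc_12_2 lc_b_rc_14_2 lc_b_rc_13_2 lc_b_rc_13_2 lc_b_rc_12_2 lc_b_rc_14_2 lc_b_rc_13_2 lc_b_rc_15_2 lc_b_rc_12_2 lc_b_rc_17_2 lc_b_rc_14_2 lc_b_rc_12_2 lc_b_rc_12_2 lc_b_Cert_tree lc_b_rc_13_2 lc_b_rc_12_2 lc_b_rc_14_2 lc_b_rc_16_2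 lc_b_rc_14_2 lc_b_rc_14_2 lc_b_rc_14_2 lc_b_rc_17_2 lc_b_rc_18_2 lc_b_rc_18_2 lc_b_rc_12_2 lc_b_rc_12_2 lc_b_Cert_tree lc_b_rc_12_2 lc_b_rc_13_2 lc_b_rc_13_2 lc_b_rc_17_0) (@D3.rec (fun _ => (Cert rels S Gen.b)) lc_b_rc_12_2 lc_b_rc_16_0 lc_b_rc_12_2 lc_b_Cert_tree lc_b_rc_12_2 lc_b_rc_14_2 lc_b_rc_12_2 lc_b_Cert_tree lc_b_rc_13_2 lc_b_rc_12_2 lc_b_Cert_tree lc_b_rc_13_2 lc_b_rc_10_0 lc_b_rc_13_2 lc_b_rc_12_2 lc_b_rc_13_2 lc_b_rc_13_2 lc_b_rc_13_2 lc_b_rc_14_0 lc_b_rc_12_2 lc_b_rc_13_2 lc_b_rc_12_2 lc_b_rc_14_2 lc_b_rc_14_2 lc_b_rc_12_2 lc_b_rc_12_2 lc_b_rc_14_2 lc_b_rc_12_2 lc_b_rc_13_2 lc_b_Cert_tree lc_b_rc_17_2 lc_b_rc_16_0 lc_b_rc_12_2 lc_b_rc_14_2 lc_b_rc_14_2 lc_b_rc_14_2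 lc_b_rc_13_2 lc_b_rc_12_2 lc_b_rc_14_2 lc_b_rc_16_2 lc_b_rc_15_2 lc_b_rc_12_2 lc_b_rc_12_2 lc_b_Cert_tree lc_b_rc_16_2 lc_b_rc_17_2 lc_b_rc_18_2 lc_b_rc_18_2 lc_b_rc_1_3 lc_b_rc_15_2 lc_b_rc_14_2) (@D3.rec (fun _ => (Cert rels S Gen.b)) lc_b_rc_11_0 lc_b_rc_12_2 lc_b_rc_12_2 lc_b_rc_14_2 lc_b_rc_13_2 lc_b_rc_14_2 lc_b_rc_12_2 lc_b_rc_16_2 lc_b_rc_12_2 lc_b_Cert_tree lc_b_rc_13_2 lc_b_rc_14_2 lc_b_rc_12_2 lc_b_rc_18_2 lc_b_rc_14_2 lc_b_rc_14_2 lc_b_rc_12_2 lc_b_rc_12_2 lc_b_Cert_tree lc_b_Cert_tree lc_b_rc_12_2 lc_b_rc_10_0 lc_b_rc_14_2 lc_b_rc_12_2 lc_b_rc_17_2 lc_b_rc_12_2 lc_b_rc_17_2 lc_b_rc_13_2 lc_b_rc_15_2 lc_b_rc_13_2 lc_b_rc_13_2 lc_b_rc_16_2 lc_b_rc_13_2 lc_b_rc_13_2 lc_b_rc_12_2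 lc_b_rc_14_2 lc_b_rc_14_2 lc_b_rc_14_2 lc_b_rc_18_2 lc_b_rc_14_2 lc_b_rc_12_2 lc_b_rc_14_2 lc_b_rc_1_3 lc_b_rc_12_2 lc_b_rc_14_2 lc_b_rc_14_2 lc_b_rc_16_0 lc_b_rc_55_20 lc_b_rc_12_2 lc_b_rc_18_2 lc_b_rc_14_2) (@D3.rec (fun _ => (Cert rels S Gen.b)) lc_b_rc_12_2 lc_b_rc_13_2 lc_b_rc_12_0 lc_b_rc_14_2 lc_b_rc_17_2 lc_b_rc_14_2 lc_b_rc_12_2 lc_b_rc_13_2 lc_b_rc_14_2 lc_b_rc_14_2 lc_b_Cert_tree lc_b_rc_14_2 lc_b_rc_18_2 lc_b_rc_18_2 lc_b_rc_12_2 lc_b_rc_14_2 lc_b_rc_15_2 lc_b_rc_13_2 lc_b_rc_12_2 lc_b_rc_1_3 lc_b_rc_18_2 lc_b_rc_12_2 lc_b_Cert_tree lc_b_rc_14_2 lc_b_rc_12_2 lc_b_rc_12_2 lc_b_rc_14_2 lc_b_rc_13_2 lc_b_rc_12_2 lc_b_rc_13_2 lc_b_rc_12_2 lc_b_Cert_tree lc_b_rc_18_2 lc_b_rc_12_2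 lc_b_Cert_tree lc_b_rc_13_2 lc_b_rc_10_0 lc_b_rc_14_2 lc_b_rc_12_2 lc_b_rc_16_2 lc_b_rc_12_2 lc_b_Cert_tree lc_b_rc_13_2 lc_b_rc_10_0 lc_b_rc_15_2 lc_b_rc_13_2 lc_b_rc_12_2 lc_b_rc_11_4 lc_b_rc_13_2 lc_b_rc_10_0 lc_b_rc_13_2) (@D3.rec (fun _ => (Cert rels S Gen.b)) lc_b_rc_11_4 lc_b_rc_14_2 lc_b_rc_13_2 lc_b_rc_15_2 lc_b_rc_16_0 lc_b_rc_12_2 lc_b_rc_17_0 lc_b_rc_16_2 lc_b_rc_12_2 lc_b_Cert_tree lc_b_rc_14_2 lc_b_rc_12_2 lc_b_rc_14_2 lc_b_rc_12_2 lc_b_rc_12_2 lc_b_rc_12_2 lc_b_rc_14_2 lc_b_rc_14_2 lc_b_rc_12_2 lc_b_rc_16_2 lc_b_rc_14_2 lc_b_rc_12_2 lc_b_Cert_tree lc_b_rc_13_2 lc_b_rc_17_2 lc_b_rc_12_2 lc_b_Cert_tree lc_b_rc_13_2 lc_b_rc_10_0 lc_b_rc_12_2 lc_b_rc_12_2 lc_b_rc_14_2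 lc_b_rc_12_2 lc_b_rc_14_2 lc_b_rc_12_2 lc_b_Cert_tree lc_b_rc_13_2 lc_b_rc_55_56 lc_b_rc_15_2 lc_b_rc_14_2 lc_b_rc_15_2 lc_b_rc_12_2 lc_b_rc_12_2 lc_b_Cert_tree lc_b_rc_13_2 lc_b_rc_14_2 lc_b_rc_12_2 lc_b_Cert_tree lc_b_rc_13_2 lc_b_rc_10_0 lc_b_rc_13_2) (@D3.rec (fun _ => (Cert rels S Gen.b)) lc_b_rc_12_2 lc_b_rc_12_2 lc_b_Cert_tree lc_b_rc_13_2 lc_b_rc_10_0 lc_b_rc_13_2 lc_b_rc_1_3 lc_b_rc_12_2 lc_b_rc_56_36 lc_b_rc_12_2 lc_b_rc_11_4 lc_b_rc_13_2 lc_b_rc_12_2 lc_b_Cert_tree lc_b_rc_13_2 lc_b_rc_10_0 lc_b_rc_13_2 lc_b_rc_11_2 lc_b_rc_14_2 lc_b_rc_13_2 lc_b_rc_12_2 lc_b_rc_13_2 lc_b_rc_13_2 lc_b_rc_13_2 lc_b_rc_15_2 lc_b_rc_13_2 lc_b_rc_13_2 lc_b_rc_15_2 lc_b_rc_13_2 lc_b_rc_12_2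 lc_b_rc_13_2 lc_b_rc_15_2 lc_b_rc_16_2 lc_b_rc_13_2 lc_b_rc_10_0 lc_b_rc_13_2 lc_b_rc_15_2 lc_b_rc_1_3 lc_b_rc_13_2 lc_b_rc_12_2 lc_b_rc_13_2 lc_b_rc_12_2 lc_b_rc_13_2 lc_b_rc_12_2 lc_b_rc_14_2 lc_b_rc_18_2 lc_b_rc_13_2 lc_b_rc_14_2 lc_b_rc_15_2 lc_b_rc_15_2 lc_b_rc_12_2) (@D3.rec (fun _ => (Cert rels S Gen.b)) lc_b_rc_1_3 lc_b_rc_11_2 lc_b_rc_13_2 lc_b_rc_15_2 lc_b_rc_17_0 lc_b_rc_12_2 lc_b_Cert_tree lc_b_rc_12_2 lc_b_rc_14_2 lc_b_Cert_tree lc_b_Cert_tree lc_b_rc_12_2 lc_b_rc_14_2 lc_b_Cert_tree lc_b_rc_14_2 lc_b_rc_12_2 lc_b_rc_15_2 lc_b_rc_16_2 lc_b_rc_13_2 lc_b_rc_12_2 lc_b_Cert_tree lc_b_rc_12_2 lc_b_Cert_tree lc_b_rc_10_0 lc_b_rc_12_2 lc_b_rc_12_2 lc_b_rc_13_2 lc_b_rc_14_2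 lc_b_rc_14_2 lc_b_rc_14_2 lc_b_rc_12_2 lc_b_Cert_tree lc_b_Cert_tree lc_b_rc_13_2 lc_b_rc_12_2 lc_b_rc_13_2 lc_b_Cert_tree lc_b_rc_13_2 lc_b_rc_10_0 lc_b_rc_13_0 lc_b_rc_12_2 lc_b_Cert_tree lc_b_rc_14_2 lc_b_rc_12_2 lc_b_rc_13_2 lc_b_Cert_tree lc_b_rc_18_2 lc_b_rc_14_2 lc_b_rc_14_2 lc_b_rc_12_2 lc_b_rc_14_2) (@D3.rec (fun _ => (Cert rels S Gen.b)) lc_b_rc_14_2 lc_b_rc_14_2 lc_b_rc_12_2 lc_b_rc_12_2 lc_b_rc_16_2 lc_b_rc_13_2 lc_b_rc_12_2 lc_b_rc_13_2 lc_b_rc_12_2 lc_b_Cert_tree lc_b_rc_14_2 lc_b_rc_12_2 lc_b_rc_13_2 lc_b_rc_14_2 lc_b_rc_12_2 lc_b_rc_12_2 lc_b_Cert_tree lc_b_rc_13_2 lc_b_rc_15_2 lc_b_Cert_tree lc_b_rc_10_0 lc_b_rc_13_2 lc_b_rc_1_5 lc_b_rc_15_2 lc_b_rc_15_2 lc_b_rc_13_2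 lc_b_rc_12_2 lc_b_rc_13_2 lc_b_rc_13_2 lc_b_rc_1_3 lc_b_rc_1_3 lc_b_rc_15_2 lc_b_rc_12_2 lc_b_rc_11_2 lc_b_rc_13_2 lc_b_rc_15_2 lc_b_rc_13_2 lc_b_rc_15_2 lc_b_rc_15_2 lc_b_rc_11_2 lc_b_rc_14_2 lc_b_rc_14_2 lc_b_rc_12_2 lc_b_rc_14_2 lc_b_rc_12_2 lc_b_rc_13_2 lc_b_Cert_tree lc_b_rc_15_2 lc_b_rc_18_2 lc_b_rc_14_2 lc_b_rc_12_2) (@D3.rec (fun _ => (Cert rels S Gen.b)) lc_b_rc_12_2 lc_b_rc_14_2 lc_b_rc_12_2 lc_b_rc_16_2 lc_b_rc_14_2 lc_b_rc_12_2 lc_b_rc_13_2 lc_b_Cert_tree lc_b_rc_14_2 lc_b_rc_14_2 lc_b_rc_12_2 lc_b_rc_13_2 lc_b_rc_18_2 lc_b_rc_15_2 lc_b_rc_12_2 lc_b_rc_12_2 lc_b_Cert_tree lc_b_rc_13_2 lc_b_rc_12_2 lc_b_Cert_tree lc_b_rc_10_0 lc_b_rc_15_2 lc_b_rc_16_2 lc_b_rc_14_2 lc_b_rc_12_2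 lc_b_Cert_tree lc_b_rc_14_2 lc_b_rc_12_2 lc_b_rc_13_2 lc_b_rc_17_2 lc_b_rc_14_2 lc_b_rc_17_2 lc_b_rc_14_2 lc_b_rc_12_2 lc_b_Cert_tree lc_b_rc_13_2 lc_b_rc_13_2 lc_b_Cert_tree lc_b_rc_10_0 lc_b_rc_13_2 lc_b_rc_12_2 lc_b_rc_14_2 lc_b_rc_18_2 lc_b_rc_12_2 lc_b_rc_14_2 lc_b_rc_12_2 lc_b_Cert_tree lc_b_rc_13_2 lc_b_rc_14_2 lc_b_rc_14_2 lc_b_rc_12_2) (@D3.rec (fun _ => (Cert rels S Gen.b)) lc_b_rc_12_2 lc_b_Cert_tree lc_b_rc_13_2 lc_b_rc_14_2 lc_b_rc_12_2 lc_b_Cert_tree lc_b_rc_13_2 lc_b_rc_10_0 lc_b_rc_13_2 lc_b_rc_12_2 lc_b_rc_12_2 lc_b_Cert_tree lc_b_rc_10_0 lc_b_rc_1_3 lc_b_rc_15_2 lc_b_rc_12_2 lc_b_rc_12_2 lc_b_rc_13_2 lc_b_rc_16_2 lc_b_rc_12_2 lc_b_rc_13_2 lc_b_rc_15_2 lc_b_rc_13_2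 lc_b_rc_15_2 lc_b_rc_17_2 lc_b_rc_14_2 lc_b_rc_12_2 lc_b_rc_13_2 lc_b_rc_12_2 lc_b_rc_13_2 lc_b_rc_13_2 lc_b_rc_14_2 lc_b_rc_16_0 lc_b_rc_17_2 lc_b_rc_12_2 lc_b_rc_13_2 lc_b_Cert_tree lc_b_rc_15_2 lc_b_rc_13_2 lc_b_rc_13_2 lc_b_rc_13_2 lc_b_rc_14_2 lc_b_rc_18_2 lc_b_rc_13_2 lc_b_Cert_tree lc_b_rc_11_4 lc_b_Cert_tree lc_b_rc_18_2 lc_b_rc_55_56 lc_b_rc_18_2 lc_b_rc_12_2) (@D3.rec (fun _ => (Cert rels S Gen.b)) lc_b_rc_13_0 lc_b_Cert_tree lc_b_rc_14_0 lc_b_rc_11_4 lc_b_Cert_tree lc_b_rc_10_0 lc_b_rc_10_1 lc_b_rc_12_2 lc_b_rc_12_0 lc_b_rc_18_2 lc_b_rc_13_2 lc_b_rc_12_2 lc_b_rc_14_0 lc_b_rc_17_2 lc_b_rc_15_2 lc_b_rc_13_2 lc_b_Cert_tree lc_b_rc_15_0 lc_b_Cert_tree lc_b_Cert_tree lc_b_rc_14_2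 lc_b_rc_13_2 lc_b_rc_10_0 lc_b_rc_12_2 lc_b_rc_13_2 lc_b_rc_18_2 lc_b_rc_18_0 lc_b_Cert_tree lc_b_rc_13_2 lc_b_rc_15_2 lc_b_rc_10_0 lc_b_rc_15_2 lc_b_rc_14_2 lc_b_rc_13_2 lc_b_rc_15_2 lc_b_Cert_tree lc_b_rc_12_2 lc_b_rc_13_2 lc_b_Cert_tree lc_b_rc_13_2 lc_b_rc_10_0 lc_b_rc_14_0 lc_b_rc_11_4 lc_b_rc_12_2 lc_b_rc_12_2 lc_b_Cert_tree lc_b_rc_13_2 lc_b_rc_15_2 lc_b_rc_12_2 lc_b_Cert_tree lc_b_rc_13_2) (@D3.rec (fun _ => (Cert rels S Gen.b)) lc_b_rc_17_2 lc_b_Cert_tree lc_b_rc_16_2 lc_b_rc_10_0 lc_b_rc_13_2 lc_b_rc_15_2 lc_b_rc_16_2 lc_b_Cert_tree lc_b_rc_10_0 lc_b_rc_1_3 lc_b_rc_13_2 lc_b_rc_13_2 lc_b_rc_15_2 lc_b_rc_16_2 lc_b_Cert_tree lc_b_rc_10_0 lc_b_Cert_tree lc_b_rc_16_2 lc_b_Cert_tree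 lc_b_Cert_tree lc_b_rc_10_0 lc_b_rc_1_1 lc_b_rc_16_2 lc_b_rc_15_2 lc_b_rc_10_1 lc_b_Cert_tree lc_b_rc_14_2 lc_b_rc_12_2 lc_b_rc_14_2 lc_b_rc_14_2 lc_b_rc_12_2 lc_b_Cert_tree lc_b_rc_12_2 lc_b_Cert_tree lc_b_rc_10_0 lc_b_rc_14_2 lc_b_rc_12_2 lc_b_rc_12_2 lc_b_Cert_tree lc_b_rc_12_2 lc_b_Cert_tree lc_b_Cert_tree lc_b_rc_13_2 lc_b_rc_10_0 lc_b_rc_10_0 lc_b_rc_1_3 lc_b_rc_12_2 lc_b_rc_13_2 lc_b_rc_13_2 lc_b_rc_16_0 lc_b_rc_16_0) (@D3.rec (fun _ => (Cert rels S Gen.b)) lc_b_Cert_tree lc_b_Cert_tree lc_b_rc_10_0 lc_b_rc_12_2 lc_b_rc_12_2 lc_b_Cert_tree lc_b_rc_12_2 lc_b_Cert_tree lc_b_rc_10_0 lc_b_rc_1_3 lc_b_rc_12_2 lc_b_Cert_tree lc_b_rc_12_2 lc_b_Cert_tree lc_b_rc_10_0 lc_b_rc_1_3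 lc_b_rc_15_0 lc_b_rc_55_11 lc_b_rc_14_2 lc_b_rc_12_2 lc_b_rc_56_8 lc_b_rc_13_2 lc_b_rc_16_2 lc_b_rc_12_2 lc_b_Cert_tree lc_b_rc_13_2 lc_b_rc_10_0 lc_b_rc_14_2 lc_b_rc_13_2 lc_b_rc_15_2 lc_b_Cert_tree lc_b_rc_12_2 lc_b_rc_14_2 lc_b_Cert_tree lc_b_rc_10_0 lc_b_rc_12_2 lc_b_rc_1_3 lc_b_rc_14_2 lc_b_rc_12_2 lc_b_rc_12_2 lc_b_Cert_tree lc_b_rc_12_2 lc_b_rc_14_2 lc_b_rc_14_2 lc_b_rc_12_2 lc_b_rc_14_2 lc_b_Cert_tree lc_b_rc_14_2 lc_b_rc_12_2 lc_b_Cert_tree lc_b_rc_13_2) (@D3.rec (fun _ => (Cert rels S Gen.b)) lc_b_rc_10_0 lc_b_rc_14_2 lc_b_Cert_tree lc_b_rc_10_0 lc_b_rc_1_3 lc_b_rc_17_2 lc_b_rc_15_2 lc_b_rc_13_2 lc_b_rc_12_2 lc_b_rc_13_2 lc_b_rc_14_2 lc_b_Cert_tree lc_b_rc_16_2 lc_b_Cert_tree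 lc_b_rc_13_2 lc_b_rc_10_0 lc_b_rc_12_2 lc_b_Cert_tree lc_b_Cert_tree lc_b_Cert_tree lc_b_rc_13_2 lc_b_rc_10_0 lc_b_rc_13_2 lc_b_rc_12_2 lc_b_rc_14_2 lc_b_rc_14_2 lc_b_Cert_tree lc_b_rc_10_0 lc_b_rc_1_3 lc_b_rc_12_2 lc_b_Cert_tree lc_b_rc_12_2 lc_b_Cert_tree lc_b_rc_13_2 lc_b_rc_10_0 lc_b_rc_14_2 lc_b_rc_12_2 lc_b_rc_12_2 lc_b_Cert_tree lc_b_rc_13_2 lc_b_Cert_tree lc_b_rc_10_0 lc_b_rc_17_2 lc_b_Cert_tree lc_b_rc_13_2 lc_b_rc_10_0 lc_b_rc_13_2 lc_b_rc_12_2 lc_b_rc_1_3 lc_b_rc_13_2 lc_b_rc_15_2) (@D3.rec (fun _ => (Cert rels S Gen.b)) lc_b_Cert_tree lc_b_rc_10_0 lc_b_rc_1_3 lc_b_rc_15_2 lc_b_rc_13_2 lc_b_rc_13_2 lc_b_rc_12_2 lc_b_rc_13_2 lc_b_rc_13_2 lc_b_rc_1_3 lc_b_rc_14_2 lc_b_rc_1_3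 lc_b_rc_12_2 lc_b_rc_13_2 lc_b_rc_56_15 lc_b_rc_16_2 lc_b_rc_13_2 lc_b_rc_10_1 lc_b_rc_13_2 lc_b_rc_12_2 lc_b_rc_13_2 lc_b_rc_13_2 lc_b_rc_12_2 lc_b_rc_56_36 lc_b_rc_18_2 lc_b_rc_12_2 lc_b_rc_12_2 lc_b_rc_13_2 lc_b_rc_12_2 lc_b_rc_14_2 lc_b_rc_14_2 lc_b_rc_12_2 lc_b_Cert_tree lc_b_rc_14_2 lc_b_rc_12_2 lc_b_rc_13_2 lc_b_rc_14_0 lc_b_rc_12_2 lc_b_Cert_tree lc_b_rc_12_2 lc_b_rc_12_2 lc_b_Cert_tree lc_b_rc_12_2 lc_b_rc_13_2 lc_b_Cert_tree lc_b_Cert_tree lc_b_rc_17_2 lc_b_rc_12_2 lc_b_Cert_tree lc_b_rc_13_2 lc_b_rc_10_0) (@D3.rec (fun _ => (Cert rels S Gen.b)) lc_b_rc_13_2 lc_b_rc_10_0 lc_b_rc_13_2 lc_b_rc_13_2 lc_b_rc_13_2 lc_b_rc_12_2 lc_b_rc_14_2 lc_b_rc_18_2 lc_b_rc_14_2 lc_b_rc_15_2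 lc_b_rc_12_2 lc_b_rc_14_2 lc_b_rc_12_2 lc_b_rc_14_2 lc_b_rc_14_2 lc_b_rc_18_2 lc_b_rc_12_2 lc_b_rc_13_2 lc_b_rc_1_1 lc_b_rc_15_0 lc_b_rc_18_2 lc_b_rc_12_2 lc_b_rc_12_2 lc_b_rc_14_2 lc_b_rc_12_2 lc_b_rc_13_2 lc_b_rc_12_2 lc_b_Cert_tree lc_b_rc_18_2 lc_b_rc_18_2 lc_b_rc_12_2 lc_b_rc_13_2 lc_b_rc_10_0 lc_b_rc_15_2 lc_b_rc_13_2 lc_b_rc_12_2 lc_b_rc_13_2 lc_b_rc_16_2 lc_b_rc_16_2 lc_b_rc_16_2 lc_b_rc_12_2 lc_b_Cert_tree lc_b_rc_18_2 lc_b_rc_14_2 lc_b_rc_12_2 lc_b_rc_13_2 lc_b_rc_18_2 lc_b_rc_14_2 lc_b_rc_18_2 lc_b_rc_12_2 lc_b_rc_12_2) (@D3.rec (fun _ => (Cert rels S Gen.b)) lc_b_Cert_tree lc_b_rc_13_2 lc_b_rc_13_2 lc_b_Cert_tree lc_b_rc_13_2 lc_b_rc_10_0 lc_b_rc_12_2 lc_b_rc_17_2 lc_b_rc_17_2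 lc_b_rc_1_1 lc_b_rc_15_0 lc_b_rc_55_20 lc_b_rc_13_2 lc_b_rc_15_2 lc_b_rc_13_2 lc_b_rc_15_2 lc_b_rc_12_0 lc_b_rc_13_2 lc_b_rc_11_2 lc_b_rc_13_2 lc_b_rc_1_3 lc_b_rc_13_2 lc_b_rc_12_2 lc_b_rc_13_2 lc_b_rc_18_2 lc_b_rc_12_2 lc_b_rc_13_2 lc_b_rc_12_2 lc_b_rc_13_2 lc_b_rc_12_2 lc_b_rc_16_2 lc_b_rc_13_2 lc_b_rc_12_2 lc_b_rc_16_2 lc_b_rc_16_2 lc_b_rc_15_2 lc_b_rc_14_2 lc_b_rc_15_2 lc_b_rc_17_2 lc_b_rc_12_2 lc_b_rc_14_2 lc_b_rc_12_2 lc_b_rc_1_1 lc_b_rc_12_2 lc_b_Cert_tree lc_b_rc_13_2 lc_b_rc_14_2 lc_b_rc_16_2 lc_b_rc_12_2 lc_b_rc_14_2 lc_b_rc_12_2) (@D3.rec (fun _ => (Cert rels S Gen.b)) lc_b_rc_13_2 lc_b_rc_12_2 lc_b_Cert_tree lc_b_rc_13_2 lc_b_rc_15_2 lc_b_rc_12_2 lc_b_Cert_tree lc_b_Cert_tree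 lc_b_rc_12_2 lc_b_rc_15_0 lc_b_rc_12_2 lc_b_Cert_tree lc_b_rc_13_2 lc_b_rc_10_0 lc_b_rc_15_2 lc_b_rc_13_2 lc_b_rc_15_0 lc_b_rc_18_2 lc_b_rc_14_2 lc_b_rc_17_2 lc_b_rc_15_2 lc_b_rc_14_2 lc_b_rc_12_2 lc_b_rc_12_2 lc_b_rc_14_2 lc_b_rc_14_2 lc_b_rc_15_0 lc_b_rc_56_36 lc_b_rc_14_2 lc_b_rc_12_2 lc_b_rc_14_2 lc_b_rc_18_2 lc_b_rc_12_2 lc_b_rc_13_2 lc_b_rc_14_2 lc_b_Cert_tree lc_b_rc_18_2 lc_b_rc_18_2 lc_b_rc_12_2 lc_b_rc_14_2 lc_b_rc_12_2 lc_b_rc_14_2 lc_b_rc_12_2 lc_b_rc_13_2 lc_b_rc_18_2 lc_b_rc_12_2 lc_b_Cert_tree lc_b_rc_14_2 lc_b_rc_12_2 lc_b_rc_13_2 lc_b_rc_14_2) (@D3.rec (fun _ => (Cert rels S Gen.b)) lc_b_rc_16_0 lc_b_rc_12_2 lc_b_rc_12_2 lc_b_Cert_tree lc_b_rc_13_2 lc_b_rc_13_2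 lc_b_rc_18_2 lc_b_rc_12_2 lc_b_Cert_tree lc_b_rc_13_2 lc_b_rc_10_0 lc_b_rc_15_2 lc_b_rc_12_2 lc_b_rc_12_2 lc_b_rc_13_2 lc_b_rc_12_2 lc_b_rc_13_2 lc_b_rc_13_2 lc_b_rc_14_0 lc_b_rc_16_2 lc_b_rc_12_2 lc_b_Cert_tree lc_b_rc_13_2 lc_b_rc_12_2 lc_b_rc_12_2 lc_b_rc_13_2 lc_b_Cert_tree lc_b_rc_13_2 lc_b_rc_15_2 lc_b_rc_17_2 lc_b_rc_12_2 lc_b_Cert_tree lc_b_rc_13_2 lc_b_rc_10_0 lc_b_rc_14_2 lc_b_rc_12_2 lc_b_rc_13_2 lc_b_rc_18_2 lc_b_rc_12_2 lc_b_rc_12_2 lc_b_Cert_tree lc_b_rc_13_2 lc_b_rc_15_2 lc_b_rc_12_2 lc_b_Cert_tree lc_b_rc_13_2 lc_b_rc_13_2 lc_b_rc_12_2 lc_b_Cert_tree lc_b_rc_10_0 lc_b_rc_13_2) (@D3.rec (fun _ => (Cert rels S Gen.b)) lc_b_rc_15_2 lc_b_rc_13_2 lc_b_rc_12_2 lc_b_Cert_tree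 lc_b_rc_13_2 lc_b_rc_10_0 lc_b_rc_13_2 lc_b_rc_1_3 lc_b_rc_15_2 lc_b_rc_55_65 lc_b_rc_12_2 lc_b_rc_13_2 lc_b_rc_10_0 lc_b_rc_13_2 lc_b_rc_13_2 lc_b_rc_13_2 lc_b_rc_12_2 lc_b_rc_13_2 lc_b_rc_15_2 lc_b_rc_13_2 lc_b_rc_13_2 lc_b_rc_14_0 lc_b_rc_12_2 lc_b_rc_14_2 lc_b_rc_12_2 lc_b_rc_13_2 lc_b_rc_13_2 lc_b_rc_14_2 lc_b_rc_12_2 lc_b_rc_14_2 lc_b_rc_12_2 lc_b_rc_14_2 lc_b_rc_13_2 lc_b_rc_12_2 lc_b_rc_13_2 lc_b_rc_15_0 lc_b_rc_12_2 lc_b_rc_14_2 lc_b_rc_12_2 lc_b_rc_14_2 lc_b_rc_13_2 lc_b_rc_14_2 lc_b_Cert_tree lc_b_rc_13_2 lc_b_rc_15_2 lc_b_rc_18_2 lc_b_rc_18_2 lc_b_rc_18_2 lc_b_rc_14_2 lc_b_rc_14_2 lc_b_rc_17_2) (@D3.rec (fun _ => (Cert rels S Gen.b)) lc_b_rc_14_2 lc_b_rc_12_2 lc_b_rc_11_0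 lc_b_rc_12_2 lc_b_rc_13_2 lc_b_rc_15_2 lc_b_rc_12_2 lc_b_Cert_tree lc_b_rc_11_0 lc_b_rc_16_2 lc_b_rc_15_2 lc_b_rc_13_2 lc_b_rc_14_2 lc_b_Cert_tree lc_b_rc_12_2 lc_b_rc_13_2 lc_b_rc_15_2 lc_b_Cert_tree lc_b_rc_13_2 lc_b_rc_11_4 lc_b_rc_14_0 lc_b_Cert_tree lc_b_rc_13_2 lc_b_rc_10_0 lc_b_rc_14_2 lc_b_rc_16_2 lc_b_rc_15_2 lc_b_rc_12_2 lc_b_rc_12_2 lc_b_rc_12_2 lc_b_rc_14_2 lc_b_rc_14_2 lc_b_rc_12_2 lc_b_rc_11_4 lc_b_Cert_tree lc_b_rc_14_2 lc_b_rc_16_2 lc_b_rc_17_2 lc_b_rc_17_0 lc_b_rc_17_0 lc_b_rc_15_2 lc_b_rc_16_2 lc_b_rc_14_2 lc_b_rc_1_3 lc_b_rc_14_2 lc_b_rc_12_2 lc_b_rc_10_1 lc_b_rc_13_2 lc_b_rc_12_2 lc_b_rc_13_2 lc_b_rc_15_2) (@D3.rec (fun _ => (Cert rels S Gen.b)) lc_b_Cert_tree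 lc_b_rc_15_2 lc_b_rc_11_4 lc_b_rc_16_2 lc_b_rc_17_2 lc_b_rc_55_65 lc_b_rc_13_2 lc_b_rc_14_2 lc_b_Cert_tree lc_b_rc_12_2 lc_b_rc_15_2 lc_b_rc_13_2 lc_b_rc_1_5 lc_b_Cert_tree lc_b_rc_13_2 lc_b_rc_15_2 lc_b_Cert_tree lc_b_rc_14_2 lc_b_rc_10_0 lc_b_rc_15_2 lc_b_rc_12_2 lc_b_rc_11_2 lc_b_rc_15_2 lc_b_rc_11_4 lc_b_rc_12_2 lc_b_rc_13_2 lc_b_rc_15_2 lc_b_rc_15_2 lc_b_rc_12_2 lc_b_rc_15_0 lc_b_rc_1_3 lc_b_rc_17_2 lc_b_rc_14_2 lc_b_rc_14_2 lc_b_rc_12_2 lc_b_rc_10_0 lc_b_rc_14_2 lc_b_rc_14_2 lc_b_rc_12_2 lc_b_rc_13_2 lc_b_rc_16_2 lc_b_Cert_tree lc_b_rc_16_2 lc_b_rc_12_2 lc_b_rc_14_2 lc_b_rc_18_2 lc_b_rc_13_2 lc_b_rc_15_2 lc_b_Cert_tree lc_b_rc_14_2 lc_b_rc_12_2)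
def ce_b_18 : D2 → D3 → (Cert rels S Gen.b) := @D2.rec (fun _ => D3 → (Cert rels S Gen.b)) (@D3.rec (fun _ => (Cert rels S Gen.b)) lc_b_rc_13_2 lc_b_rc_18_2 lc_b_rc_12_2 lc_b_rc_12_2 lc_b_Cert_tree lc_b_rc_13_2 lc_b_rc_15_2 lc_b_rc_15_2 lc_b_Cert_tree lc_b_rc_13_2 lc_b_rc_10_0 lc_b_rc_13_2 lc_b_rc_15_2 lc_b_rc_13_2 lc_b_rc_13_2 lc_b_rc_1_5 lc_b_rc_14_2 lc_b_Cert_tree lc_b_rc_15_2 lc_b_rc_10_0 lc_b_rc_14_2 lc_b_rc_15_0 lc_b_rc_13_0 lc_b_Cert_tree lc_b_rc_15_0 lc_b_Cert_tree lc_b_rc_14_2 lc_b_rc_10_0 lc_b_rc_16_2 lc_b_rc_14_0 lc_b_rc_14_2 lc_b_rc_18_2 lc_b_rc_12_2 lc_b_rc_12_2 lc_b_Cert_tree lc_b_rc_13_2 lc_b_rc_15_2 lc_b_rc_15_2 lc_b_rc_12_2 lc_b_rc_12_2 lc_b_Cert_tree lc_b_rc_13_2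 lc_b_rc_12_2 lc_b_Cert_tree lc_b_rc_13_2 lc_b_rc_10_0 lc_b_rc_13_2 lc_b_rc_15_2 lc_b_rc_16_2 lc_b_rc_12_2 lc_b_Cert_tree) (@D3.rec (fun _ => (Cert rels S Gen.b)) lc_b_rc_13_2 lc_b_rc_10_0 lc_b_rc_13_2 lc_b_rc_1_3 lc_b_rc_55_29 lc_b_rc_13_2 lc_b_rc_15_2 lc_b_rc_13_2 lc_b_rc_1_1 lc_b_rc_15_2 lc_b_rc_16_2 lc_b_rc_12_2 lc_b_rc_12_2 lc_b_rc_14_2 lc_b_rc_18_2 lc_b_rc_13_2 lc_b_rc_12_2 lc_b_rc_12_2 lc_b_rc_13_2 lc_b_rc_13_0 lc_b_rc_13_2 lc_b_rc_14_2 lc_b_rc_12_2 lc_b_rc_15_2 lc_b_rc_12_2 lc_b_rc_12_2 lc_b_rc_13_2 lc_b_Cert_tree lc_b_rc_17_2 lc_b_Cert_tree lc_b_Cert_tree lc_b_rc_12_2 lc_b_rc_10_0 lc_b_rc_14_2 lc_b_rc_14_2 lc_b_rc_16_2 lc_b_rc_16_2 lc_b_rc_14_2 lc_b_Cert_tree lc_b_rc_15_2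 lc_b_rc_12_2 lc_b_rc_12_2 lc_b_Cert_tree lc_b_Cert_tree lc_b_rc_13_2 lc_b_rc_10_0 lc_b_rc_13_2 lc_b_rc_17_0 lc_b_rc_16_0 lc_b_Cert_tree lc_b_Cert_tree) (@D3.rec (fun _ => (Cert rels S Gen.b)) lc_b_Cert_tree lc_b_rc_13_2 lc_b_rc_10_0 lc_b_Cert_tree lc_b_Cert_tree lc_b_Cert_tree lc_b_rc_10_0 lc_b_rc_12_2 lc_b_Cert_tree lc_b_rc_12_2 lc_b_rc_10_0 lc_b_rc_13_2 lc_b_rc_1_3 lc_b_rc_13_2 lc_b_rc_12_2 lc_b_rc_15_2 lc_b_rc_14_2 lc_b_rc_12_2 lc_b_Cert_tree lc_b_rc_12_2 lc_b_rc_12_2 lc_b_rc_13_2 lc_b_Cert_tree lc_b_rc_14_2 lc_b_Cert_tree lc_b_rc_12_2 lc_b_rc_10_0 lc_b_rc_1_3 lc_b_rc_16_0 lc_b_rc_14_2 lc_b_rc_14_2 lc_b_rc_14_2 lc_b_rc_14_2 lc_b_Cert_tree lc_b_rc_14_2 lc_b_rc_14_2 lc_b_rc_16_2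 lc_b_rc_15_2 lc_b_Cert_tree lc_b_Cert_tree lc_b_rc_12_2 lc_b_rc_10_0 lc_b_rc_12_2 lc_b_rc_10_1 lc_b_rc_17_2 lc_b_rc_13_2 lc_b_rc_15_2 lc_b_rc_12_2 lc_b_rc_12_2 lc_b_Cert_tree lc_b_rc_14_2) (@D3.rec (fun _ => (Cert rels S Gen.b)) lc_b_rc_14_2 lc_b_rc_14_2 lc_b_rc_12_2 lc_b_Cert_tree lc_b_rc_12_2 lc_b_Cert_tree lc_b_rc_12_2 lc_b_rc_10_0 lc_b_rc_14_2 lc_b_rc_12_2 lc_b_Cert_tree lc_b_rc_14_2 lc_b_rc_14_2 lc_b_rc_14_2 lc_b_Cert_tree lc_b_Cert_tree lc_b_rc_12_2 lc_b_rc_10_0 lc_b_rc_10_0 lc_b_rc_13_2 lc_b_rc_1_3 lc_b_rc_12_2 lc_b_rc_17_2 lc_b_rc_13_2 lc_b_rc_16_2 lc_b_rc_13_2 lc_b_rc_13_2 lc_b_rc_13_2 lc_b_rc_12_2 lc_b_rc_16_2 lc_b_rc_1_3 lc_b_rc_14_2 lc_b_rc_12_2 lc_b_rc_14_2 lc_b_rc_14_2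 lc_b_rc_14_2 lc_b_rc_12_2 lc_b_rc_14_2 lc_b_rc_14_2 lc_b_Cert_tree lc_b_rc_16_0 lc_b_rc_1_3 lc_b_rc_14_2 lc_b_rc_14_2 lc_b_rc_12_2 lc_b_rc_56_36 lc_b_rc_13_2 lc_b_rc_14_2 lc_b_rc_14_2 lc_b_rc_12_2 lc_b_rc_17_2) (@D3.rec (fun _ => (Cert rels S Gen.b)) lc_b_rc_12_2 lc_b_Cert_tree lc_b_rc_13_2 lc_b_rc_15_2 lc_b_rc_15_2 lc_b_Cert_tree lc_b_rc_14_2 lc_b_rc_10_0 lc_b_rc_12_2 lc_b_rc_18_2 lc_b_rc_12_2 lc_b_Cert_tree lc_b_rc_12_2 lc_b_rc_18_2 lc_b_rc_12_2 lc_b_Cert_tree lc_b_rc_16_2 lc_b_rc_12_2 lc_b_Cert_tree lc_b_rc_13_2 lc_b_rc_10_0 lc_b_rc_12_2 lc_b_Cert_tree lc_b_rc_15_2 lc_b_rc_14_2 lc_b_rc_13_2 lc_b_Cert_tree lc_b_rc_12_2 lc_b_Cert_tree lc_b_rc_12_2 lc_b_rc_10_0 lc_b_rc_12_2 lc_b_Cert_tree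 lc_b_rc_13_2 lc_b_rc_10_0 lc_b_rc_13_2 lc_b_rc_1_3 lc_b_rc_14_2 lc_b_rc_55_20 lc_b_Cert_tree lc_b_rc_13_2 lc_b_rc_10_0 lc_b_rc_13_2 lc_b_rc_11_4 lc_b_rc_13_2 lc_b_rc_13_2 lc_b_rc_13_2 lc_b_rc_12_2 lc_b_rc_12_2 lc_b_rc_13_2 lc_b_rc_15_2) (@D3.rec (fun _ => (Cert rels S Gen.b)) lc_b_rc_12_2 lc_b_Cert_tree lc_b_rc_12_2 lc_b_rc_14_2 lc_b_rc_12_2 lc_b_Cert_tree lc_b_rc_13_2 lc_b_rc_10_0 lc_b_rc_12_2 lc_b_rc_12_2 lc_b_Cert_tree lc_b_rc_14_2 lc_b_rc_14_2 lc_b_rc_14_2 lc_b_rc_12_2 lc_b_Cert_tree lc_b_rc_16_2 lc_b_rc_12_2 lc_b_Cert_tree lc_b_rc_13_2 lc_b_rc_10_0 lc_b_rc_13_2 lc_b_rc_12_2 lc_b_Cert_tree lc_b_rc_13_2 lc_b_rc_10_0 lc_b_rc_13_2 lc_b_rc_1_3 lc_b_Cert_tree lc_b_rc_14_2 lc_b_rc_12_2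 lc_b_Cert_tree lc_b_rc_12_2 lc_b_Cert_tree lc_b_rc_13_2 lc_b_rc_10_0 lc_b_rc_13_2 lc_b_rc_14_2 lc_b_rc_17_2 lc_b_rc_12_2 lc_b_rc_12_2 lc_b_Cert_tree lc_b_rc_13_2 lc_b_Cert_tree lc_b_rc_13_2 lc_b_rc_10_0 lc_b_rc_13_2 lc_b_rc_14_2 lc_b_rc_17_2 lc_b_Cert_tree lc_b_rc_12_2) (@D3.rec (fun _ => (Cert rels S Gen.b)) lc_b_rc_10_0 lc_b_rc_13_2 lc_b_rc_12_2 lc_b_rc_1_3 lc_b_rc_13_2 lc_b_rc_15_2 lc_b_Cert_tree lc_b_rc_13_2 lc_b_rc_10_0 lc_b_rc_13_2 lc_b_rc_1_3 lc_b_rc_13_2 lc_b_rc_12_2 lc_b_rc_13_2 lc_b_rc_16_2 lc_b_rc_16_2 lc_b_rc_13_2 lc_b_rc_13_2 lc_b_rc_18_0 lc_b_rc_13_2 lc_b_rc_10_0 lc_b_rc_13_2 lc_b_rc_15_2 lc_b_rc_17_2 lc_b_rc_13_2 lc_b_rc_12_2 lc_b_rc_13_2 lc_b_rc_15_2 lc_b_rc_12_2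 lc_b_rc_13_2 lc_b_rc_12_2 lc_b_rc_13_2 lc_b_rc_12_2 lc_b_rc_14_2 lc_b_rc_15_2 lc_b_rc_13_2 lc_b_rc_11_2 lc_b_rc_13_2 lc_b_rc_12_2 lc_b_rc_15_2 lc_b_rc_1_3 lc_b_rc_12_2 lc_b_rc_14_2 lc_b_rc_12_2 lc_b_rc_14_2 lc_b_rc_12_2 lc_b_rc_11_2 lc_b_rc_14_2 lc_b_rc_15_2 lc_b_rc_18_2 lc_b_rc_16_0) (@D3.rec (fun _ => (Cert rels S Gen.b)) lc_b_rc_15_2 lc_b_rc_11_2 lc_b_rc_55_65 lc_b_rc_55_38 lc_b_rc_15_2 lc_b_Cert_tree lc_b_rc_10_0 lc_b_Cert_tree lc_b_Cert_tree lc_b_rc_10_0 lc_b_rc_10_0 lc_b_Cert_tree lc_b_Cert_tree lc_b_rc_10_0 lc_b_rc_12_2 lc_b_Cert_tree lc_b_rc_17_2 lc_b_Cert_tree lc_b_rc_12_2 lc_b_Cert_tree lc_b_rc_13_2 lc_b_rc_10_0 lc_b_Cert_tree lc_b_rc_10_0 lc_b_rc_1_3 lc_b_rc_13_2 lc_b_rc_13_2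 lc_b_rc_17_2 lc_b_rc_13_2 lc_b_Cert_tree lc_b_Cert_tree lc_b_rc_10_0 lc_b_rc_10_0 lc_b_rc_12_2 lc_b_Cert_tree lc_b_rc_13_2 lc_b_rc_10_0 lc_b_rc_13_2 lc_b_rc_1_3 lc_b_Cert_tree lc_b_rc_10_0 lc_b_rc_14_2 lc_b_Cert_tree lc_b_rc_12_2 lc_b_rc_10_0 lc_b_rc_14_2 lc_b_rc_12_2 lc_b_rc_12_2 lc_b_rc_13_2 lc_b_rc_15_2 lc_b_Cert_tree) (@D3.rec (fun _ => (Cert rels S Gen.b)) lc_b_rc_12_2 lc_b_rc_13_2 lc_b_rc_14_2 lc_b_rc_18_2 lc_b_rc_12_2 lc_b_Cert_tree lc_b_rc_13_2 lc_b_rc_15_2 lc_b_Cert_tree lc_b_rc_10_0 lc_b_rc_12_2 lc_b_Cert_tree lc_b_rc_13_2 lc_b_rc_15_2 lc_b_rc_14_2 lc_b_Cert_tree lc_b_rc_13_2 lc_b_Cert_tree lc_b_rc_12_2 lc_b_rc_10_0 lc_b_rc_13_2 lc_b_rc_15_2 lc_b_rc_10_0 lc_b_rc_1_3 lc_b_rc_15_2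 lc_b_rc_13_2 lc_b_rc_1_1 lc_b_rc_13_2 lc_b_rc_17_2 lc_b_rc_15_2 lc_b_rc_1_3 lc_b_rc_56_50 lc_b_rc_1_3 lc_b_rc_56_36 lc_b_rc_13_2 lc_b_rc_11_2 lc_b_rc_15_2 lc_b_rc_15_2 lc_b_rc_12_2 lc_b_rc_56_29 lc_b_rc_13_2 lc_b_rc_12_2 lc_b_Cert_tree lc_b_rc_13_2 lc_b_rc_10_0 lc_b_rc_17_2 lc_b_rc_13_0 lc_b_rc_11_4 lc_b_Cert_tree lc_b_rc_14_2 lc_b_rc_12_2) (@D3.rec (fun _ => (Cert rels S Gen.b)) lc_b_rc_13_2 lc_b_rc_1_1 lc_b_rc_12_2 lc_b_Cert_tree lc_b_rc_13_2 lc_b_rc_10_0 lc_b_rc_12_2 lc_b_rc_12_2 lc_b_Cert_tree lc_b_rc_13_2 lc_b_rc_12_2 lc_b_rc_12_2 lc_b_Cert_tree lc_b_rc_13_2 lc_b_Cert_tree lc_b_rc_10_0 lc_b_rc_13_2 lc_b_Cert_tree lc_b_rc_10_0 lc_b_rc_1_3 lc_b_rc_17_2 lc_b_Cert_tree lc_b_rc_16_2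 lc_b_rc_15_2 lc_b_Cert_tree lc_b_rc_13_2 lc_b_rc_10_0 lc_b_rc_12_2 lc_b_Cert_tree lc_b_rc_13_2 lc_b_rc_17_2 lc_b_rc_14_2 lc_b_rc_17_2 lc_b_Cert_tree lc_b_rc_14_2 lc_b_Cert_tree lc_b_rc_13_2 lc_b_rc_10_0 lc_b_rc_13_2 lc_b_rc_12_2 lc_b_rc_13_2 lc_b_rc_10_0 lc_b_rc_1_3 lc_b_rc_12_2 lc_b_Cert_tree lc_b_rc_12_2 lc_b_rc_12_2 lc_b_Cert_tree lc_b_rc_13_2 lc_b_rc_12_2 lc_b_Cert_tree) (@D3.rec (fun _ => (Cert rels S Gen.b)) lc_b_rc_13_2 lc_b_rc_10_0 lc_b_rc_13_2 lc_b_rc_14_2 lc_b_rc_14_2 lc_b_Cert_tree lc_b_rc_13_2 lc_b_Cert_tree lc_b_rc_13_2 lc_b_rc_10_0 lc_b_rc_13_2 lc_b_rc_13_2 lc_b_rc_13_0 lc_b_Cert_tree lc_b_rc_12_2 lc_b_rc_10_0 lc_b_rc_13_2 lc_b_rc_1_3 lc_b_rc_13_2 lc_b_rc_15_2 lc_b_Cert_tree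 lc_b_rc_10_0 lc_b_rc_1_3 lc_b_rc_12_2 lc_b_rc_13_2 lc_b_rc_13_2 lc_b_rc_13_2 lc_b_rc_17_2 lc_b_rc_14_2 lc_b_rc_11_2 lc_b_rc_13_2 lc_b_rc_15_2 lc_b_Cert_tree lc_b_Cert_tree lc_b_Cert_tree lc_b_rc_12_2 lc_b_rc_13_2 lc_b_rc_10_0 lc_b_rc_14_2 lc_b_rc_12_2 lc_b_Cert_tree lc_b_rc_16_2 lc_b_rc_11_4 lc_b_rc_10_0 lc_b_rc_10_0 lc_b_rc_15_2 lc_b_rc_12_2 lc_b_rc_18_2 lc_b_Cert_tree lc_b_rc_15_0 lc_b_Cert_tree) (@D3.rec (fun _ => (Cert rels S Gen.b)) lc_b_rc_12_2 lc_b_rc_10_0 lc_b_rc_13_2 lc_b_rc_12_2 lc_b_rc_13_2 lc_b_rc_10_0 lc_b_rc_1_3 lc_b_rc_13_2 lc_b_rc_15_0 lc_b_rc_12_0 lc_b_rc_18_2 lc_b_Cert_tree lc_b_rc_16_2 lc_b_rc_10_0 lc_b_Cert_tree lc_b_rc_10_0 lc_b_rc_10_0 lc_b_rc_13_2 lc_b_rc_16_0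 lc_b_rc_1_3 lc_b_Cert_tree lc_b_rc_13_2 lc_b_rc_15_2 lc_b_rc_15_2 lc_b_Cert_tree lc_b_rc_15_2 lc_b_rc_10_0 lc_b_rc_13_2 lc_b_rc_14_2 lc_b_rc_1_3 lc_b_Cert_tree lc_b_rc_14_2 lc_b_Cert_tree lc_b_rc_17_0 lc_b_rc_10_0 lc_b_Cert_tree lc_b_rc_13_2 lc_b_rc_10_0 lc_b_rc_13_2 lc_b_rc_1_3 lc_b_Cert_tree lc_b_rc_12_2 lc_b_Cert_tree lc_b_rc_13_2 lc_b_Cert_tree lc_b_rc_10_0 lc_b_rc_13_2 lc_b_rc_15_2 lc_b_Cert_tree lc_b_rc_13_2 lc_b_rc_10_0) (@D3.rec (fun _ => (Cert rels S Gen.b)) lc_b_rc_13_2 lc_b_Cert_tree lc_b_rc_10_0 lc_b_rc_13_2 lc_b_rc_1_3 lc_b_rc_13_2 lc_b_rc_15_2 lc_b_rc_12_2 lc_b_rc_10_0 lc_b_rc_1_3 lc_b_rc_12_2 lc_b_Cert_tree lc_b_rc_10_0 lc_b_rc_1_3 lc_b_rc_10_0 lc_b_Cert_tree lc_b_rc_10_0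 lc_b_rc_10_0 lc_b_rc_1_3 lc_b_rc_1_1 lc_b_Cert_tree lc_b_rc_12_2 lc_b_Cert_tree lc_b_rc_17_2 lc_b_rc_10_0 lc_b_rc_12_2 lc_b_Cert_tree lc_b_rc_15_2 lc_b_Cert_tree lc_b_Cert_tree lc_b_rc_13_2 lc_b_rc_10_0 lc_b_Cert_tree lc_b_rc_10_0 lc_b_rc_1_3 lc_b_rc_12_2 lc_b_Cert_tree lc_b_Cert_tree lc_b_rc_13_2 lc_b_rc_10_0 lc_b_Cert_tree lc_b_rc_13_2 lc_b_rc_10_0 lc_b_rc_10_0 lc_b_rc_13_2 lc_b_rc_1_3 lc_b_rc_1_3 lc_b_rc_13_2 lc_b_Cert_tree lc_b_rc_16_0 lc_b_rc_10_0) (@D3.rec (fun _ => (Cert rels S Gen.b)) lc_b_rc_10_0 lc_b_rc_1_3 lc_b_Cert_tree lc_b_Cert_tree lc_b_rc_13_2 lc_b_rc_10_0 lc_b_Cert_tree lc_b_rc_10_0 lc_b_rc_1_3 lc_b_Cert_tree lc_b_Cert_tree lc_b_rc_10_0 lc_b_Cert_tree lc_b_rc_10_0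 lc_b_rc_1_3 lc_b_rc_17_2 lc_b_rc_1_3 lc_b_rc_12_2 lc_b_Cert_tree lc_b_rc_13_2 lc_b_rc_11_2 lc_b_rc_17_2 lc_b_Cert_tree lc_b_rc_13_2 lc_b_rc_10_0 lc_b_rc_13_2 lc_b_rc_1_3 lc_b_rc_14_2 lc_b_Cert_tree lc_b_Cert_tree lc_b_rc_17_0 lc_b_rc_10_0 lc_b_Cert_tree lc_b_Cert_tree lc_b_rc_10_0 lc_b_rc_1_3 lc_b_Cert_tree lc_b_rc_56_36 lc_b_rc_12_2 lc_b_Cert_tree lc_b_Cert_tree lc_b_rc_13_2 lc_b_rc_10_0 lc_b_rc_14_2 lc_b_rc_18_0 lc_b_rc_14_2 lc_b_Cert_tree lc_b_rc_13_2 lc_b_Cert_tree lc_b_rc_10_0 lc_b_rc_17_2) (@D3.rec (fun _ => (Cert rels S Gen.b)) lc_b_Cert_tree lc_b_rc_12_2 lc_b_rc_10_0 lc_b_rc_13_2 lc_b_rc_1_3 lc_b_Cert_tree lc_b_rc_10_0 lc_b_rc_1_3 lc_b_rc_13_2 lc_b_rc_13_2 lc_b_Cert_tree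 lc_b_rc_14_2 lc_b_rc_10_0 lc_b_Cert_tree lc_b_rc_18_2 lc_b_rc_10_0 lc_b_rc_13_2 lc_b_rc_1_3 lc_b_Cert_tree lc_b_rc_13_2 lc_b_rc_10_0 lc_b_rc_10_0 lc_b_rc_10_0 lc_b_rc_13_2 lc_b_rc_13_2 lc_b_rc_1_3 lc_b_rc_13_2 lc_b_rc_15_2 lc_b_rc_12_2 lc_b_Cert_tree lc_b_rc_10_0 lc_b_rc_1_3 lc_b_Cert_tree lc_b_rc_10_0 lc_b_Cert_tree lc_b_rc_13_2 lc_b_rc_10_0 lc_b_rc_13_2 lc_b_rc_1_3 lc_b_rc_12_2 lc_b_Cert_tree lc_b_rc_13_2 lc_b_Cert_tree lc_b_rc_13_2 lc_b_rc_10_0 lc_b_rc_13_2 lc_b_rc_10_0 lc_b_rc_1_3 lc_b_Cert_tree lc_b_rc_1_3 lc_b_rc_10_0) (@D3.rec (fun _ => (Cert rels S Gen.b)) lc_b_rc_13_2 lc_b_rc_12_2 lc_b_rc_1_3 lc_b_rc_13_2 lc_b_rc_15_2 lc_b_rc_1_3 lc_b_rc_15_2 lc_b_rc_10_0 lc_b_rc_1_3 lc_b_rc_13_2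 lc_b_rc_13_2 lc_b_rc_13_2 lc_b_rc_16_2 lc_b_rc_16_2 lc_b_rc_13_2 lc_b_rc_14_2 lc_b_rc_12_2 lc_b_Cert_tree lc_b_rc_13_2 lc_b_rc_10_0 lc_b_Cert_tree lc_b_rc_14_2 lc_b_Cert_tree lc_b_Cert_tree lc_b_rc_13_2 lc_b_rc_10_0 lc_b_rc_13_2 lc_b_rc_1_3 lc_b_Cert_tree lc_b_rc_10_0 lc_b_Cert_tree lc_b_Cert_tree lc_b_rc_13_2 lc_b_rc_10_0 lc_b_rc_13_2 lc_b_rc_10_0 lc_b_rc_10_0 lc_b_rc_12_2 lc_b_Cert_tree lc_b_rc_13_2 lc_b_rc_10_0 lc_b_rc_13_2 lc_b_rc_1_3 lc_b_rc_13_2 lc_b_rc_12_2 lc_b_rc_13_2 lc_b_rc_14_2 lc_b_rc_14_2 lc_b_rc_14_2 lc_b_rc_12_2 lc_b_rc_14_2) (@D3.rec (fun _ => (Cert rels S Gen.b)) lc_b_rc_14_2 lc_b_rc_12_2 lc_b_rc_13_2 lc_b_rc_14_2 lc_b_Cert_tree lc_b_rc_12_2 lc_b_rc_14_2 lc_b_rc_12_2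 lc_b_rc_13_2 lc_b_rc_18_2 lc_b_rc_12_2 lc_b_Cert_tree lc_b_rc_18_2 lc_b_rc_14_2 lc_b_Cert_tree lc_b_rc_12_2 lc_b_rc_13_2 lc_b_Cert_tree lc_b_rc_13_2 lc_b_rc_10_0 lc_b_rc_18_2 lc_b_rc_18_2 lc_b_rc_15_2 lc_b_rc_13_2 lc_b_rc_15_2 lc_b_Cert_tree lc_b_rc_1_1 lc_b_Cert_tree lc_b_rc_16_2 lc_b_rc_13_2 lc_b_rc_18_0 lc_b_Cert_tree lc_b_rc_13_2 lc_b_rc_10_0 lc_b_rc_18_2 lc_b_rc_12_2 lc_b_Cert_tree lc_b_rc_13_2 lc_b_rc_14_2 lc_b_rc_14_2 lc_b_rc_12_2 lc_b_Cert_tree lc_b_rc_13_2 lc_b_Cert_tree lc_b_rc_12_2 lc_b_rc_10_0 lc_b_rc_13_2 lc_b_rc_12_2 lc_b_rc_13_2 lc_b_rc_10_0 lc_b_rc_13_2) (@D3.rec (fun _ => (Cert rels S Gen.b)) lc_b_rc_1_3 lc_b_rc_55_20 lc_b_rc_14_0 lc_b_rc_17_2 lc_b_rc_16_2 lc_b_rc_1_3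 lc_b_rc_14_2 lc_b_rc_11_2 lc_b_rc_13_2 lc_b_rc_13_2 lc_b_rc_12_2 lc_b_rc_10_0 lc_b_rc_15_2 lc_b_rc_12_2 lc_b_rc_14_2 lc_b_rc_16_2 lc_b_rc_12_2 lc_b_rc_13_2 lc_b_rc_13_2 lc_b_rc_14_2 lc_b_rc_12_2 lc_b_Cert_tree lc_b_rc_16_2 lc_b_rc_12_2 lc_b_rc_15_2 lc_b_rc_12_2 lc_b_rc_15_2 lc_b_rc_17_2 lc_b_Cert_tree lc_b_rc_14_2 lc_b_Cert_tree lc_b_rc_12_2 lc_b_Cert_tree lc_b_rc_13_2 lc_b_rc_10_0 lc_b_rc_14_2 lc_b_Cert_tree lc_b_Cert_tree lc_b_rc_14_2 lc_b_Cert_tree lc_b_rc_12_2 lc_b_Cert_tree lc_b_rc_12_2 lc_b_rc_10_0 lc_b_rc_12_2 lc_b_Cert_tree lc_b_rc_10_0 lc_b_rc_10_0 lc_b_rc_13_2 lc_b_rc_16_0 lc_b_Cert_tree) (@D3.rec (fun _ => (Cert rels S Gen.b)) lc_b_rc_12_2 lc_b_rc_10_0 lc_b_rc_13_2 lc_b_rc_1_3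 lc_b_rc_16_0 lc_b_rc_14_2 lc_b_rc_12_2 lc_b_rc_17_2 lc_b_rc_17_2 lc_b_rc_12_2 lc_b_rc_13_2 lc_b_rc_14_2 lc_b_rc_14_2 lc_b_Cert_tree lc_b_rc_15_0 lc_b_rc_55_20 lc_b_rc_12_2 lc_b_rc_11_2 lc_b_rc_13_2 lc_b_rc_12_2 lc_b_rc_12_2 lc_b_Cert_tree lc_b_rc_13_2 lc_b_rc_15_2 lc_b_Cert_tree lc_b_rc_14_2 lc_b_rc_10_0 lc_b_rc_18_2 lc_b_rc_12_2 lc_b_Cert_tree lc_b_rc_12_2 lc_b_rc_13_2 lc_b_rc_14_2 lc_b_Cert_tree lc_b_rc_13_2 lc_b_rc_13_2 lc_b_rc_12_2 lc_b_Cert_tree lc_b_rc_13_2 lc_b_rc_10_0 lc_b_rc_12_2 lc_b_Cert_tree lc_b_rc_13_2 lc_b_rc_12_2 lc_b_rc_12_2 lc_b_Cert_tree lc_b_rc_13_2 lc_b_Cert_tree lc_b_rc_10_0 lc_b_rc_13_2 lc_b_rc_12_2) (@D3.rec (fun _ => (Cert rels S Gen.b)) lc_b_rc_12_2 lc_b_Cert_tree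 lc_b_rc_13_2 lc_b_rc_10_0 lc_b_rc_13_2 lc_b_rc_1_3 lc_b_rc_13_2 lc_b_rc_13_2 lc_b_rc_13_2 lc_b_rc_12_2 lc_b_rc_1_1 lc_b_rc_12_2 lc_b_Cert_tree lc_b_rc_13_2 lc_b_rc_10_0 lc_b_rc_12_2 lc_b_rc_14_2 lc_b_Cert_tree lc_b_rc_13_2 lc_b_rc_15_2 lc_b_rc_10_0 lc_b_rc_13_2 lc_b_rc_15_2 lc_b_rc_14_2 lc_b_rc_12_2 lc_b_Cert_tree lc_b_rc_13_2 lc_b_rc_10_0 lc_b_rc_13_2 lc_b_rc_1_3 lc_b_rc_14_2 lc_b_Cert_tree lc_b_rc_12_2 lc_b_rc_12_2 lc_b_Cert_tree lc_b_rc_13_2 lc_b_Cert_tree lc_b_rc_10_0 lc_b_rc_13_2 lc_b_rc_15_2 lc_b_Cert_tree lc_b_rc_13_2 lc_b_rc_10_0 lc_b_rc_13_2 lc_b_rc_14_2 lc_b_rc_13_0 lc_b_Cert_tree lc_b_rc_10_0 lc_b_rc_1_3 lc_b_rc_13_2 lc_b_rc_15_2) (@D3.rec (fun _ => (Cert rels S Gen.b))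 lc_b_rc_12_2 lc_b_Cert_tree lc_b_rc_13_2 lc_b_rc_10_0 lc_b_rc_13_2 lc_b_rc_1_3 lc_b_rc_13_2 lc_b_rc_12_2 lc_b_rc_13_2 lc_b_rc_15_2 lc_b_rc_13_2 lc_b_rc_12_2 lc_b_rc_12_2 lc_b_rc_14_2 lc_b_rc_1_3 lc_b_rc_13_2 lc_b_rc_14_2 lc_b_rc_12_2 lc_b_Cert_tree lc_b_rc_17_2 lc_b_rc_12_2 lc_b_rc_13_2 lc_b_rc_12_2 lc_b_Cert_tree lc_b_rc_13_2 lc_b_rc_1_1 lc_b_Cert_tree lc_b_Cert_tree lc_b_rc_16_2 lc_b_Cert_tree lc_b_rc_14_2 lc_b_rc_10_0 lc_b_rc_15_2 lc_b_rc_18_2 lc_b_rc_14_0 lc_b_rc_18_2 lc_b_rc_15_2 lc_b_Cert_tree lc_b_Cert_tree lc_b_rc_12_2 lc_b_rc_13_2 lc_b_rc_12_2 lc_b_Cert_tree lc_b_rc_13_2 lc_b_rc_11_0 lc_b_rc_15_2 lc_b_Cert_tree lc_b_rc_13_2 lc_b_rc_10_0 lc_b_rc_16_2 lc_b_rc_11_4) (@D3.rec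 (fun _ => (Cert rels S Gen.b)) lc_b_Cert_tree lc_b_rc_10_0 lc_b_Cert_tree lc_b_rc_13_2 lc_b_Cert_tree lc_b_rc_14_2 lc_b_rc_10_0 lc_b_rc_13_2 lc_b_rc_12_2 lc_b_Cert_tree lc_b_rc_14_0 lc_b_rc_10_0 lc_b_rc_13_2 lc_b_rc_1_3 lc_b_rc_12_2 lc_b_Cert_tree lc_b_Cert_tree lc_b_rc_14_2 lc_b_rc_12_2 lc_b_rc_12_2 lc_b_Cert_tree lc_b_rc_12_2 lc_b_rc_10_0 lc_b_rc_17_2 lc_b_rc_1_3 lc_b_rc_17_2 lc_b_rc_17_0 lc_b_rc_17_0 lc_b_rc_11_0 lc_b_Cert_tree lc_b_rc_17_2 lc_b_Cert_tree lc_b_rc_12_2 lc_b_rc_13_2 lc_b_rc_12_2 lc_b_rc_15_2 lc_b_Cert_tree lc_b_rc_13_2 lc_b_rc_1_5 lc_b_Cert_tree lc_b_rc_16_2 lc_b_rc_10_0 lc_b_rc_11_4 lc_b_Cert_tree lc_b_Cert_tree lc_b_rc_14_0 lc_b_Cert_tree lc_b_rc_10_0 lc_b_Cert_tree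 lc_b_rc_13_2 lc_b_rc_13_2) (@D3.rec (fun _ => (Cert rels S Gen.b)) lc_b_rc_15_2 lc_b_Cert_tree lc_b_rc_12_2 lc_b_rc_10_0 lc_b_rc_13_2 lc_b_rc_15_2 lc_b_rc_10_0 lc_b_rc_13_2 lc_b_rc_1_3 lc_b_rc_13_2 lc_b_rc_1_1 lc_b_rc_12_2 lc_b_rc_12_0 lc_b_rc_17_2 lc_b_rc_14_2 lc_b_rc_17_2 lc_b_rc_18_2 lc_b_Cert_tree lc_b_rc_12_2 lc_b_rc_55_38 lc_b_rc_13_2 lc_b_rc_14_2 lc_b_rc_12_2 lc_b_rc_14_2 lc_b_Cert_tree lc_b_rc_13_2 lc_b_rc_15_2 lc_b_Cert_tree lc_b_rc_18_2 lc_b_rc_10_0 lc_b_Cert_tree lc_b_rc_14_2 lc_b_rc_12_2 lc_b_Cert_tree lc_b_rc_16_0 lc_b_Cert_tree lc_b_rc_16_0 lc_b_rc_10_0 lc_b_rc_12_2 lc_b_Cert_tree lc_b_rc_13_2 lc_b_rc_15_2 lc_b_rc_18_2 lc_b_Cert_tree lc_b_rc_13_2 lc_b_Cert_tree lc_b_rc_12_2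 lc_b_rc_10_0 lc_b_rc_13_2 lc_b_rc_15_2 lc_b_Cert_tree) (@D3.rec (fun _ => (Cert rels S Gen.b)) lc_b_rc_17_2 lc_b_rc_10_0 lc_b_rc_13_2 lc_b_rc_1_3 lc_b_rc_1_5 lc_b_Cert_tree lc_b_rc_14_2 lc_b_rc_10_0 lc_b_rc_18_2 lc_b_rc_12_2 lc_b_rc_18_2 lc_b_Cert_tree lc_b_rc_13_2 lc_b_Cert_tree lc_b_rc_12_2 lc_b_rc_10_0 lc_b_rc_13_2 lc_b_rc_10_0 lc_b_rc_13_2 lc_b_rc_1_3 lc_b_rc_12_2 lc_b_Cert_tree lc_b_rc_12_2 lc_b_rc_12_2 lc_b_Cert_tree lc_b_rc_13_2 lc_b_Cert_tree lc_b_rc_13_2 lc_b_rc_10_0 lc_b_rc_13_2 lc_b_rc_15_2 lc_b_rc_15_2 lc_b_Cert_tree lc_b_rc_13_2 lc_b_Cert_tree lc_b_rc_13_2 lc_b_rc_10_0 lc_b_rc_13_2 lc_b_rc_15_2 lc_b_Cert_tree lc_b_rc_12_2 lc_b_rc_10_0 lc_b_rc_13_2 lc_b_rc_15_2 lc_b_rc_1_3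 lc_b_rc_13_2 lc_b_rc_15_2 lc_b_rc_16_2 lc_b_Cert_tree lc_b_rc_10_0 lc_b_rc_13_2) (@D3.rec (fun _ => (Cert rels S Gen.b)) lc_b_rc_1_3 lc_b_rc_13_2 lc_b_rc_12_2 lc_b_rc_15_2 lc_b_rc_1_1 lc_b_rc_16_2 lc_b_rc_12_0 lc_b_rc_11_2 lc_b_rc_14_2 lc_b_rc_18_2 lc_b_rc_15_0 lc_b_rc_13_2 lc_b_rc_14_0 lc_b_rc_12_2 lc_b_rc_16_0 lc_b_rc_15_2 lc_b_Cert_tree lc_b_Cert_tree lc_b_rc_12_2 lc_b_rc_10_0 lc_b_Cert_tree lc_b_rc_10_0 lc_b_rc_10_0 lc_b_rc_13_2 lc_b_rc_1_3 lc_b_rc_14_2 lc_b_Cert_tree lc_b_Cert_tree lc_b_rc_14_2 lc_b_rc_15_2 lc_b_Cert_tree lc_b_rc_14_2 lc_b_rc_10_0 lc_b_rc_15_2 lc_b_Cert_tree lc_b_Cert_tree lc_b_rc_13_2 lc_b_rc_10_0 lc_b_rc_10_0 lc_b_rc_13_2 lc_b_rc_1_3 lc_b_Cert_tree lc_b_Cert_tree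 lc_b_rc_15_2 lc_b_rc_10_0 lc_b_rc_10_0 lc_b_rc_10_0 lc_b_rc_13_2 lc_b_rc_1_3 lc_b_rc_10_0 lc_b_rc_10_0) (@D3.rec (fun _ => (Cert rels S Gen.b)) lc_b_rc_10_0 lc_b_rc_1_3 lc_b_Cert_tree lc_b_rc_12_2 lc_b_rc_10_0 lc_b_rc_13_2 lc_b_rc_1_3 lc_b_rc_13_2 lc_b_rc_12_2 lc_b_rc_14_2 lc_b_rc_13_2 lc_b_Cert_tree lc_b_rc_10_0 lc_b_Cert_tree lc_b_Cert_tree lc_b_rc_13_2 lc_b_rc_10_0 lc_b_Cert_tree lc_b_rc_14_2 lc_b_rc_10_0 lc_b_rc_13_2 lc_b_rc_1_3 lc_b_rc_1_3 lc_b_Cert_tree lc_b_rc_14_2 lc_b_Cert_tree lc_b_rc_14_2 lc_b_rc_14_2 lc_b_Cert_tree lc_b_rc_14_2 lc_b_rc_10_0 lc_b_rc_15_2 lc_b_Cert_tree lc_b_rc_16_2 lc_b_Cert_tree lc_b_rc_17_2 lc_b_rc_10_0 lc_b_rc_10_0 lc_b_rc_13_2 lc_b_rc_1_3 lc_b_rc_16_2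 lc_b_rc_13_2 lc_b_rc_13_2 lc_b_rc_12_2 lc_b_rc_12_2 lc_b_Cert_tree lc_b_Cert_tree lc_b_rc_13_2 lc_b_rc_10_0 lc_b_rc_14_2 lc_b_Cert_tree) (@D3.rec (fun _ => (Cert rels S Gen.b)) lc_b_rc_12_2 lc_b_Cert_tree lc_b_rc_13_2 lc_b_rc_10_0 lc_b_Cert_tree lc_b_rc_13_2 lc_b_rc_10_0 lc_b_rc_13_2 lc_b_rc_1_3 lc_b_rc_12_2 lc_b_Cert_tree lc_b_rc_10_0 lc_b_rc_12_2 lc_b_Cert_tree lc_b_rc_14_2 lc_b_Cert_tree lc_b_rc_10_0 lc_b_rc_10_0 lc_b_rc_13_2 lc_b_rc_1_3 lc_b_rc_1_3 lc_b_rc_13_2 lc_b_rc_12_2 lc_b_rc_16_2 lc_b_rc_13_2 lc_b_rc_13_2 lc_b_rc_16_2 lc_b_rc_14_2 lc_b_rc_12_2 lc_b_rc_12_2 lc_b_rc_14_2 lc_b_rc_11_2 lc_b_rc_15_2 lc_b_Cert_tree lc_b_rc_12_2 lc_b_rc_1_3 lc_b_Cert_tree lc_b_rc_14_2 lc_b_Cert_tree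 lc_b_rc_14_2 lc_b_rc_10_0 lc_b_rc_18_0 lc_b_rc_56_36 lc_b_rc_55_56 lc_b_rc_12_2 lc_b_rc_12_2 lc_b_Cert_tree lc_b_rc_13_2 lc_b_rc_11_2 lc_b_rc_15_2 lc_b_rc_17_2)
def ce_b_19 : D2 → D3 → (Cert rels S Gen.b) := @D2.rec (fun _ => D3 → (Cert rels S Gen.b)) (@D3.rec (fun _ => (Cert rels S Gen.b)) lc_b_rc_17_2 lc_b_Cert_tree lc_b_rc_17_2 lc_b_Cert_tree lc_b_rc_13_2 lc_b_rc_10_0 lc_b_rc_13_2 lc_b_rc_15_2 lc_b_rc_16_2 lc_b_Cert_tree lc_b_rc_17_0 lc_b_rc_10_0 lc_b_rc_13_2 lc_b_rc_1_3 lc_b_Cert_tree lc_b_rc_12_2 lc_b_Cert_tree lc_b_rc_13_2 lc_b_rc_10_0 lc_b_Cert_tree lc_b_rc_12_2 lc_b_Cert_tree lc_b_rc_10_0 lc_b_rc_10_0 lc_b_Cert_tree lc_b_rc_13_2 lc_b_rc_10_0 lc_b_rc_13_2 lc_b_rc_1_3 lc_b_Cert_tree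 lc_b_rc_10_0 lc_b_rc_13_0 lc_b_Cert_tree lc_b_Cert_tree lc_b_rc_10_0 lc_b_Cert_tree lc_b_rc_10_0 lc_b_rc_13_2 lc_b_rc_1_3 lc_b_Cert_tree lc_b_rc_13_2 lc_b_rc_10_0 lc_b_rc_13_2 lc_b_rc_1_3 lc_b_rc_13_2 lc_b_rc_12_2 lc_b_rc_16_2 lc_b_rc_16_2 lc_b_rc_10_0 lc_b_rc_13_2 lc_b_rc_15_2) (@D3.rec (fun _ => (Cert rels S Gen.b)) lc_b_rc_13_2 lc_b_rc_12_2 lc_b_rc_13_2 lc_b_rc_12_2 lc_b_rc_12_2 lc_b_rc_14_2 lc_b_Cert_tree lc_b_Cert_tree lc_b_rc_12_2 lc_b_Cert_tree lc_b_rc_13_2 lc_b_rc_10_0 lc_b_rc_13_2 lc_b_rc_14_2 lc_b_Cert_tree lc_b_rc_13_2 lc_b_rc_10_0 lc_b_rc_13_2 lc_b_rc_1_3 lc_b_Cert_tree lc_b_Cert_tree lc_b_rc_13_2 lc_b_rc_10_0 lc_b_rc_14_2 lc_b_rc_14_2 lc_b_Cert_tree lc_b_rc_14_2 lc_b_Cert_tree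 lc_b_rc_10_0 lc_b_rc_17_2 lc_b_Cert_tree lc_b_rc_13_2 lc_b_rc_10_0 lc_b_rc_13_2 lc_b_rc_1_3 lc_b_rc_13_2 lc_b_Cert_tree lc_b_rc_13_2 lc_b_rc_10_0 lc_b_rc_13_2 lc_b_rc_15_2 lc_b_rc_1_3 lc_b_rc_13_2 lc_b_rc_12_2 lc_b_rc_10_0 lc_b_rc_12_2 lc_b_Cert_tree lc_b_rc_13_2 lc_b_rc_10_0 lc_b_Cert_tree lc_b_rc_10_0) (@D3.rec (fun _ => (Cert rels S Gen.b)) lc_b_rc_13_2 lc_b_rc_1_3 lc_b_rc_13_2 lc_b_rc_18_2 lc_b_rc_17_2 lc_b_Cert_tree lc_b_rc_13_2 lc_b_Cert_tree lc_b_rc_13_2 lc_b_rc_10_0 lc_b_rc_13_2 lc_b_rc_14_2 lc_b_rc_10_0 lc_b_rc_13_2 lc_b_rc_1_3 lc_b_rc_13_2 lc_b_rc_12_2 lc_b_rc_15_2 lc_b_Cert_tree lc_b_rc_12_2 lc_b_rc_10_0 lc_b_rc_13_2 lc_b_rc_12_2 lc_b_rc_1_3 lc_b_rc_13_2 lc_b_rc_12_2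 lc_b_rc_15_2 lc_b_rc_1_3 lc_b_rc_15_2 lc_b_rc_10_0 lc_b_rc_13_2 lc_b_rc_1_3 lc_b_rc_13_2 lc_b_rc_12_2 lc_b_rc_1_3 lc_b_rc_12_2 lc_b_rc_14_2 lc_b_rc_16_2 lc_b_rc_16_2 lc_b_rc_15_2 lc_b_rc_12_2 lc_b_rc_13_2 lc_b_rc_1_3 lc_b_rc_13_2 lc_b_rc_12_2 lc_b_rc_13_2 lc_b_rc_12_2 lc_b_rc_14_2 lc_b_rc_15_2 lc_b_rc_13_2 lc_b_rc_12_2) (@D3.rec (fun _ => (Cert rels S Gen.b)) lc_b_rc_13_0 lc_b_rc_12_2 lc_b_rc_11_2 lc_b_rc_14_2 lc_b_rc_15_2 lc_b_rc_11_2 lc_b_rc_12_2 lc_b_rc_15_2 lc_b_rc_11_2 lc_b_rc_17_2 lc_b_rc_14_2 lc_b_rc_17_2 lc_b_rc_15_2 lc_b_rc_11_4 lc_b_rc_14_2 lc_b_rc_11_2 lc_b_rc_16_0 lc_b_rc_1_1 lc_b_rc_10_0 lc_b_rc_1_3 lc_b_rc_10_0 lc_b_rc_1_3 lc_b_rc_10_0 lc_b_rc_10_0 lc_b_rc_1_3 lc_b_rc_1_3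 lc_b_rc_10_0 lc_b_rc_10_0 lc_b_rc_12_0 lc_b_Cert_tree lc_b_rc_13_2 lc_b_rc_10_0 lc_b_Cert_tree lc_b_rc_17_2 lc_b_rc_10_0 lc_b_Cert_tree lc_b_rc_12_2 lc_b_rc_10_0 lc_b_rc_13_2 lc_b_rc_1_3 lc_b_rc_10_0 lc_b_rc_1_3 lc_b_Cert_tree lc_b_rc_1_1 lc_b_rc_10_0 lc_b_rc_10_0 lc_b_rc_1_3 lc_b_rc_1_3 lc_b_Cert_tree lc_b_rc_10_0 lc_b_rc_13_2) (@D3.rec (fun _ => (Cert rels S Gen.b)) lc_b_rc_1_3 lc_b_rc_13_2 lc_b_rc_10_0 lc_b_rc_1_3 lc_b_Cert_tree lc_b_rc_14_2 lc_b_rc_10_0 lc_b_rc_13_2 lc_b_rc_1_3 lc_b_rc_12_2 lc_b_rc_13_2 lc_b_Cert_tree lc_b_rc_13_2 lc_b_rc_15_2 lc_b_Cert_tree lc_b_rc_18_2 lc_b_rc_10_0 lc_b_Cert_tree lc_b_rc_13_2 lc_b_rc_15_2 lc_b_rc_14_2 lc_b_Cert_tree lc_b_rc_56_22 lc_b_Cert_tree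 lc_b_rc_12_2 lc_b_rc_10_0 lc_b_rc_13_2 lc_b_rc_15_2 lc_b_rc_11_2 lc_b_rc_10_0 lc_b_rc_1_3 lc_b_Cert_tree lc_b_rc_13_2 lc_b_rc_10_0 lc_b_rc_13_2 lc_b_rc_15_2 lc_b_Cert_tree lc_b_rc_14_2 lc_b_rc_10_0 lc_b_rc_13_2 lc_b_rc_15_2 lc_b_rc_10_0 lc_b_rc_13_2 lc_b_rc_1_3 lc_b_rc_13_2 lc_b_rc_15_2 lc_b_rc_1_3 lc_b_rc_1_3 lc_b_rc_11_2 lc_b_rc_11_2 lc_b_rc_15_2) (@D3.rec (fun _ => (Cert rels S Gen.b)) lc_b_Cert_tree lc_b_rc_13_2 lc_b_rc_56_15 lc_b_Cert_tree lc_b_rc_13_2 lc_b_rc_10_0 lc_b_rc_13_2 lc_b_rc_13_2 lc_b_rc_17_2 lc_b_Cert_tree lc_b_rc_16_2 lc_b_rc_15_2 lc_b_rc_10_0 lc_b_rc_12_2 lc_b_Cert_tree lc_b_rc_13_2 lc_b_rc_17_2 lc_b_Cert_tree lc_b_rc_13_2 lc_b_rc_10_0 lc_b_rc_13_2 lc_b_rc_56_43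 lc_b_Cert_tree lc_b_rc_13_2 lc_b_Cert_tree lc_b_rc_10_0 lc_b_rc_13_2 lc_b_Cert_tree lc_b_Cert_tree lc_b_rc_13_2 lc_b_rc_10_0 lc_b_rc_13_2 lc_b_rc_10_0 lc_b_rc_1_3 lc_b_rc_13_2 lc_b_rc_10_0 lc_b_rc_1_3 lc_b_Cert_tree lc_b_rc_1_1 lc_b_rc_10_0 lc_b_rc_13_2 lc_b_rc_10_1 lc_b_rc_10_0 lc_b_rc_13_2 lc_b_rc_1_3 lc_b_Cert_tree lc_b_rc_13_2 lc_b_rc_10_0 lc_b_rc_13_2 lc_b_rc_17_2 lc_b_Cert_tree) (@D3.rec (fun _ => (Cert rels S Gen.b)) lc_b_rc_1_1 lc_b_Cert_tree lc_b_rc_17_2 lc_b_rc_10_0 lc_b_rc_13_2 lc_b_rc_14_2 lc_b_rc_10_0 lc_b_rc_13_2 lc_b_rc_1_3 lc_b_rc_13_2 lc_b_rc_15_2 lc_b_rc_12_2 lc_b_rc_1_3 lc_b_Cert_tree lc_b_rc_12_2 lc_b_rc_10_0 lc_b_Cert_tree lc_b_rc_13_2 lc_b_Cert_tree lc_b_rc_13_2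 lc_b_rc_10_0 lc_b_rc_13_2 lc_b_Cert_tree lc_b_rc_10_0 lc_b_rc_13_2 lc_b_rc_1_3 lc_b_rc_13_2 lc_b_Cert_tree lc_b_rc_14_2 lc_b_Cert_tree lc_b_rc_14_2 lc_b_rc_10_0 lc_b_rc_13_2 lc_b_rc_10_0 lc_b_rc_13_2 lc_b_rc_13_2 lc_b_rc_1_3 lc_b_rc_13_2 lc_b_rc_15_2 lc_b_Cert_tree lc_b_rc_12_2 lc_b_rc_10_0 lc_b_rc_13_2 lc_b_rc_1_3 lc_b_rc_13_2 lc_b_rc_1_3 lc_b_rc_15_2 lc_b_rc_10_0 lc_b_rc_1_3 lc_b_rc_13_2 lc_b_rc_17_2) (@D3.rec (fun _ => (Cert rels S Gen.b)) lc_b_rc_16_2 lc_b_rc_10_0 lc_b_rc_10_0 lc_b_rc_10_0 lc_b_rc_13_2 lc_b_rc_13_0 lc_b_rc_1_3 lc_b_rc_12_2 lc_b_Cert_tree lc_b_rc_1_3 lc_b_rc_10_0 lc_b_rc_13_2 lc_b_rc_12_2 lc_b_rc_1_3 lc_b_rc_1_3 lc_b_rc_18_2 lc_b_Cert_tree lc_b_rc_13_2 lc_b_Cert_tree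 lc_b_rc_15_0 lc_b_rc_10_0 lc_b_rc_13_2 lc_b_rc_14_2 lc_b_rc_10_0 lc_b_rc_13_2 lc_b_rc_13_2 lc_b_rc_1_3 lc_b_rc_13_2 lc_b_rc_15_2 lc_b_rc_13_0 lc_b_rc_1_3 lc_b_rc_12_0 lc_b_Cert_tree lc_b_rc_18_2 lc_b_rc_10_0 lc_b_rc_13_2 lc_b_rc_1_3 lc_b_rc_10_0 lc_b_rc_1_3 lc_b_rc_1_3 lc_b_rc_13_2 lc_b_rc_15_2 lc_b_rc_10_0 lc_b_rc_13_2 lc_b_Cert_tree lc_b_rc_18_2 lc_b_rc_10_0 lc_b_rc_13_2 lc_b_rc_1_3 lc_b_rc_13_2 lc_b_rc_15_2) (@D3.rec (fun _ => (Cert rels S Gen.b)) lc_b_rc_10_0 lc_b_rc_13_2 lc_b_rc_10_0 lc_b_rc_13_2 lc_b_rc_1_3 lc_b_rc_10_0 lc_b_rc_13_2 lc_b_rc_11_0 lc_b_rc_13_2 lc_b_rc_10_0 lc_b_rc_13_2 lc_b_rc_10_0 lc_b_rc_13_2 lc_b_rc_10_0 lc_b_rc_1_3 lc_b_rc_13_2 lc_b_rc_15_2 lc_b_rc_10_0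 lc_b_rc_13_2 lc_b_rc_11_0 lc_b_rc_13_2 lc_b_rc_10_0 lc_b_rc_11_0 lc_b_rc_13_2 lc_b_rc_1_3 lc_b_rc_15_2 lc_b_rc_16_2 lc_b_rc_1_3 lc_b_Cert_tree lc_b_rc_1_1 lc_b_rc_10_0 lc_b_rc_1_3 lc_b_rc_1_3 lc_b_rc_10_0 lc_b_rc_1_3 lc_b_rc_1_3 lc_b_Cert_tree lc_b_rc_1_1 lc_b_rc_10_0 lc_b_Cert_tree lc_b_rc_13_2 lc_b_rc_10_0 lc_b_rc_13_2 lc_b_rc_1_3 lc_b_Cert_tree lc_b_rc_13_2 lc_b_rc_10_0 lc_b_Cert_tree lc_b_rc_1_1 lc_b_rc_10_0 lc_b_rc_10_0) (@D3.rec (fun _ => (Cert rels S Gen.b)) lc_b_rc_13_2 lc_b_rc_1_3 lc_b_rc_10_0 lc_b_rc_1_3 lc_b_Cert_tree lc_b_rc_13_2 lc_b_rc_10_0 lc_b_rc_10_0 lc_b_rc_13_2 lc_b_rc_1_3 lc_b_rc_10_0 lc_b_rc_13_2 lc_b_rc_1_3 lc_b_rc_1_3 lc_b_rc_13_2 lc_b_rc_10_0 lc_b_rc_13_2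 lc_b_rc_1_3 lc_b_rc_1_3 lc_b_rc_10_0 lc_b_rc_10_0 lc_b_rc_13_2 lc_b_rc_1_3 lc_b_rc_10_0 lc_b_rc_1_3 lc_b_rc_10_0 lc_b_rc_10_0 lc_b_rc_1_3 lc_b_rc_10_0 lc_b_rc_1_3 lc_b_Cert_tree lc_b_rc_1_3 lc_b_Cert_tree lc_b_rc_13_2 lc_b_rc_10_0 lc_b_rc_13_2 lc_b_rc_14_0 lc_b_Cert_tree lc_b_rc_16_2 lc_b_rc_10_0 lc_b_rc_13_2 lc_b_rc_1_3 lc_b_rc_13_2 lc_b_Cert_tree lc_b_rc_14_2 lc_b_rc_10_0 lc_b_rc_10_0 lc_b_rc_13_2 lc_b_rc_11_2 lc_b_rc_10_0 lc_b_rc_10_0) (@D3.rec (fun _ => (Cert rels S Gen.b)) lc_b_rc_1_3 lc_b_rc_10_0 lc_b_Cert_tree lc_b_rc_15_2 lc_b_Cert_tree lc_b_rc_13_2 lc_b_rc_10_0 lc_b_rc_10_0 lc_b_rc_13_2 lc_b_rc_1_3 lc_b_rc_1_3 lc_b_Cert_tree lc_b_rc_10_1 lc_b_Cert_tree lc_b_rc_14_2 lc_b_rc_10_0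 lc_b_rc_13_2 lc_b_rc_10_0 lc_b_rc_1_3 lc_b_Cert_tree lc_b_rc_12_2 lc_b_rc_10_0 lc_b_rc_13_2 lc_b_rc_15_2 lc_b_rc_1_3 lc_b_rc_13_2 lc_b_rc_10_0 lc_b_rc_1_3 lc_b_rc_10_0 lc_b_rc_13_2 lc_b_rc_1_3 lc_b_rc_10_0 lc_b_rc_13_2 lc_b_rc_1_3 lc_b_rc_13_2 lc_b_rc_12_2 lc_b_rc_10_0 lc_b_rc_13_2 lc_b_rc_56_50 lc_b_rc_14_2 lc_b_rc_11_0 lc_b_rc_13_2 lc_b_rc_15_2 lc_b_rc_13_2 lc_b_rc_1_3 lc_b_rc_15_2 lc_b_rc_16_2 lc_b_rc_10_0 lc_b_rc_11_4 lc_b_rc_10_0 lc_b_rc_1_3) (@D3.rec (fun _ => (Cert rels S Gen.b)) lc_b_rc_10_0 lc_b_rc_13_2 lc_b_rc_1_3 lc_b_rc_13_2 lc_b_rc_12_2 lc_b_Cert_tree lc_b_rc_13_2 lc_b_rc_10_0 lc_b_rc_13_2 lc_b_rc_13_2 lc_b_rc_10_0 lc_b_rc_13_2 lc_b_rc_13_0 lc_b_rc_13_2 lc_b_rc_12_2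 lc_b_rc_1_3 lc_b_rc_10_0 lc_b_rc_12_2 lc_b_rc_1_3 lc_b_rc_13_2 lc_b_rc_1_3 lc_b_rc_15_2 lc_b_rc_1_3 lc_b_rc_1_3 lc_b_rc_16_2 lc_b_Cert_tree lc_b_rc_13_2 lc_b_rc_10_0 lc_b_Cert_tree lc_b_rc_10_0 lc_b_Cert_tree lc_b_rc_10_0 lc_b_rc_10_0 lc_b_rc_13_2 lc_b_rc_1_3 lc_b_rc_13_2 lc_b_rc_14_2 lc_b_rc_10_0 lc_b_rc_1_3 lc_b_rc_10_0 lc_b_rc_10_0 lc_b_rc_13_2 lc_b_rc_1_3 lc_b_rc_11_4 lc_b_rc_1_3 lc_b_Cert_tree lc_b_rc_10_0 lc_b_rc_13_2 lc_b_rc_11_4 lc_b_rc_13_2 lc_b_rc_12_2) (@D3.rec (fun _ => (Cert rels S Gen.b)) lc_b_rc_12_2 lc_b_rc_13_2 lc_b_rc_13_2 lc_b_rc_14_2 lc_b_Cert_tree lc_b_rc_12_2 lc_b_rc_11_2 lc_b_rc_13_2 lc_b_rc_14_2 lc_b_rc_12_2 lc_b_Cert_tree lc_b_rc_13_2 lc_b_rc_15_2 lc_b_Cert_tree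 lc_b_rc_14_2 lc_b_rc_10_0 lc_b_Cert_tree lc_b_rc_14_2 lc_b_Cert_tree lc_b_rc_12_2 lc_b_rc_13_2 lc_b_rc_14_0 lc_b_Cert_tree lc_b_rc_13_2 lc_b_rc_10_0 lc_b_rc_12_2 lc_b_Cert_tree lc_b_rc_14_2 lc_b_rc_10_0 lc_b_rc_13_2 lc_b_rc_12_2 lc_b_rc_10_0 lc_b_rc_13_2 lc_b_rc_1_3 lc_b_rc_16_2 lc_b_rc_10_0 lc_b_rc_18_2 lc_b_rc_15_2 lc_b_rc_12_2 lc_b_rc_10_0 lc_b_Cert_tree lc_b_rc_17_2 lc_b_rc_10_0 lc_b_rc_13_2 lc_b_rc_12_2 lc_b_rc_16_2 lc_b_Cert_tree lc_b_rc_14_2 lc_b_rc_10_0 lc_b_rc_13_2 lc_b_rc_1_3) (@D3.rec (fun _ => (Cert rels S Gen.b)) lc_b_rc_12_2 lc_b_Cert_tree lc_b_rc_13_2 lc_b_rc_10_0 lc_b_rc_13_2 lc_b_rc_12_2 lc_b_Cert_tree lc_b_rc_14_2 lc_b_Cert_tree lc_b_rc_13_2 lc_b_rc_10_0 lc_b_rc_13_2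 lc_b_rc_14_2 lc_b_rc_10_0 lc_b_rc_13_2 lc_b_rc_12_2 lc_b_rc_1_3 lc_b_rc_13_2 lc_b_rc_15_2 lc_b_rc_12_2 lc_b_rc_1_3 lc_b_rc_13_2 lc_b_rc_12_2 lc_b_rc_55_56 lc_b_rc_13_2 lc_b_rc_16_2 lc_b_rc_11_2 lc_b_rc_55_56 lc_b_rc_14_2 lc_b_rc_15_2 lc_b_rc_12_2 lc_b_rc_14_2 lc_b_rc_18_2 lc_b_rc_13_2 lc_b_rc_15_2 lc_b_Cert_tree lc_b_rc_10_0 lc_b_rc_16_2 lc_b_rc_12_2 lc_b_Cert_tree lc_b_Cert_tree lc_b_rc_17_2 lc_b_rc_10_0 lc_b_Cert_tree lc_b_rc_14_2 lc_b_rc_10_0 lc_b_rc_13_2 lc_b_rc_10_0 lc_b_rc_13_2 lc_b_rc_1_3 lc_b_Cert_tree) (@D3.rec (fun _ => (Cert rels S Gen.b)) lc_b_rc_14_2 lc_b_rc_10_0 lc_b_rc_10_0 lc_b_Cert_tree lc_b_rc_14_2 lc_b_rc_10_0 lc_b_rc_13_2 lc_b_rc_10_0 lc_b_rc_13_2 lc_b_rc_1_3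 lc_b_Cert_tree lc_b_rc_13_2 lc_b_rc_10_0 lc_b_rc_1_3 lc_b_rc_1_3 lc_b_rc_13_2 lc_b_Cert_tree lc_b_rc_14_2 lc_b_rc_10_0 lc_b_rc_13_2 lc_b_rc_1_3 lc_b_rc_13_2 lc_b_rc_12_2 lc_b_rc_13_2 lc_b_rc_17_2 lc_b_rc_17_2 lc_b_Cert_tree lc_b_rc_13_2 lc_b_rc_15_2 lc_b_rc_14_2 lc_b_Cert_tree lc_b_rc_14_2 lc_b_rc_10_0 lc_b_rc_17_0 lc_b_rc_1_3 lc_b_Cert_tree lc_b_rc_13_2 lc_b_rc_11_2 lc_b_rc_15_2 lc_b_Cert_tree lc_b_rc_13_2 lc_b_Cert_tree lc_b_rc_13_2 lc_b_rc_10_0 lc_b_rc_13_2 lc_b_rc_15_2 lc_b_rc_16_2 lc_b_rc_10_0 lc_b_rc_13_2 lc_b_rc_1_3 lc_b_rc_12_2) (@D3.rec (fun _ => (Cert rels S Gen.b)) lc_b_Cert_tree lc_b_rc_13_2 lc_b_rc_10_0 lc_b_Cert_tree lc_b_rc_13_2 lc_b_Cert_tree lc_b_rc_14_2 lc_b_rc_10_0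 lc_b_rc_13_2 lc_b_rc_12_2 lc_b_Cert_tree lc_b_rc_13_2 lc_b_rc_10_0 lc_b_rc_13_2 lc_b_rc_1_3 lc_b_Cert_tree lc_b_rc_13_2 lc_b_rc_10_0 lc_b_rc_13_2 lc_b_Cert_tree lc_b_Cert_tree lc_b_rc_13_2 lc_b_rc_10_0 lc_b_rc_13_2 lc_b_rc_14_2 lc_b_rc_10_0 lc_b_rc_1_3 lc_b_rc_13_2 lc_b_rc_15_2 lc_b_Cert_tree lc_b_rc_13_2 lc_b_rc_10_0 lc_b_rc_13_2 lc_b_rc_1_3 lc_b_rc_13_2 lc_b_rc_12_2 lc_b_rc_15_2 lc_b_rc_12_2 lc_b_rc_13_2 lc_b_rc_12_2 lc_b_Cert_tree lc_b_rc_13_2 lc_b_rc_10_0 lc_b_rc_13_2 lc_b_rc_1_3 lc_b_Cert_tree lc_b_rc_14_2 lc_b_rc_10_0 lc_b_rc_13_2 lc_b_rc_15_2 lc_b_rc_12_2) (@D3.rec (fun _ => (Cert rels S Gen.b)) lc_b_rc_13_2 lc_b_rc_15_2 lc_b_rc_14_2 lc_b_Cert_tree lc_b_rc_13_2 lc_b_rc_10_0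 lc_b_rc_13_2 lc_b_rc_15_2 lc_b_rc_11_4 lc_b_rc_13_2 lc_b_rc_12_2 lc_b_Cert_tree lc_b_rc_10_0 lc_b_rc_13_2 lc_b_Cert_tree lc_b_rc_13_2 lc_b_rc_10_0 lc_b_rc_13_2 lc_b_rc_10_0 lc_b_rc_1_3 lc_b_rc_13_2 lc_b_rc_15_2 lc_b_rc_10_0 lc_b_rc_13_2 lc_b_rc_11_0 lc_b_rc_13_2 lc_b_rc_15_2 lc_b_rc_14_2 lc_b_Cert_tree lc_b_rc_10_0 lc_b_rc_12_2 lc_b_rc_1_3 lc_b_rc_15_2 lc_b_rc_16_2 lc_b_rc_10_0 lc_b_rc_13_2 lc_b_rc_1_3 lc_b_rc_13_2 lc_b_rc_1_3 lc_b_rc_12_2 lc_b_rc_14_2 lc_b_rc_12_2 lc_b_rc_11_2 lc_b_rc_14_0 lc_b_Cert_tree lc_b_rc_10_0 lc_b_Cert_tree lc_b_Cert_tree lc_b_rc_12_2 lc_b_Cert_tree lc_b_rc_12_2) (@D3.rec (fun _ => (Cert rels S Gen.b)) lc_b_rc_10_0 lc_b_Cert_tree lc_b_rc_10_0 lc_b_rc_10_0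 lc_b_rc_13_2 lc_b_rc_10_0 lc_b_rc_13_2 lc_b_rc_1_3 lc_b_rc_15_2 lc_b_rc_18_2 lc_b_Cert_tree lc_b_rc_18_2 lc_b_rc_1_5 lc_b_Cert_tree lc_b_rc_18_2 lc_b_rc_10_0 lc_b_rc_10_0 lc_b_Cert_tree lc_b_rc_13_2 lc_b_Cert_tree lc_b_rc_13_2 lc_b_rc_10_0 lc_b_rc_13_2 lc_b_rc_12_2 lc_b_Cert_tree lc_b_rc_16_2 lc_b_rc_10_0 lc_b_rc_13_2 lc_b_rc_1_3 lc_b_rc_12_2 lc_b_rc_10_0 lc_b_rc_1_3 lc_b_rc_10_0 lc_b_rc_13_2 lc_b_rc_10_0 lc_b_rc_13_2 lc_b_rc_1_3 lc_b_rc_13_2 lc_b_rc_15_2 lc_b_rc_10_0 lc_b_rc_13_2 lc_b_rc_1_3 lc_b_rc_13_2 lc_b_rc_12_2 lc_b_rc_10_0 lc_b_rc_10_0 lc_b_rc_12_2 lc_b_Cert_tree lc_b_Cert_tree lc_b_rc_14_2 lc_b_rc_10_0) (@D3.rec (fun _ => (Cert rels S Gen.b)) lc_b_rc_13_2 lc_b_rc_1_3 lc_b_Cert_tree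 lc_b_rc_17_2 lc_b_rc_17_2 lc_b_Cert_tree lc_b_rc_17_0 lc_b_rc_17_2 lc_b_Cert_tree lc_b_rc_1_1 lc_b_rc_10_0 lc_b_Cert_tree lc_b_rc_10_0 lc_b_Cert_tree lc_b_rc_13_2 lc_b_Cert_tree lc_b_rc_13_2 lc_b_Cert_tree lc_b_rc_10_0 lc_b_rc_13_2 lc_b_rc_1_5 lc_b_rc_10_0 lc_b_rc_13_2 lc_b_rc_1_3 lc_b_rc_12_2 lc_b_rc_10_0 lc_b_rc_10_0 lc_b_Cert_tree lc_b_rc_10_0 lc_b_rc_1_3 lc_b_rc_10_0 lc_b_rc_13_2 lc_b_rc_15_2 lc_b_rc_13_2 lc_b_rc_10_0 lc_b_rc_13_2 lc_b_rc_1_1 lc_b_rc_1_3 lc_b_rc_13_2 lc_b_rc_15_2 lc_b_rc_1_3 lc_b_rc_13_2 lc_b_rc_12_2 lc_b_rc_13_2 lc_b_rc_14_2 lc_b_rc_12_0 lc_b_rc_17_2 lc_b_rc_17_2 lc_b_Cert_tree lc_b_Cert_tree lc_b_rc_18_2) (@D3.rec (fun _ => (Cert rels S Gen.b)) lc_b_rc_10_0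 lc_b_Cert_tree lc_b_rc_13_2 lc_b_rc_1_5 lc_b_rc_15_2 lc_b_rc_18_2 lc_b_Cert_tree lc_b_rc_13_2 lc_b_Cert_tree lc_b_rc_15_0 lc_b_rc_10_0 lc_b_rc_13_2 lc_b_rc_15_2 lc_b_rc_16_2 lc_b_rc_10_0 lc_b_rc_13_2 lc_b_rc_1_3 lc_b_rc_10_0 lc_b_rc_12_2 lc_b_Cert_tree lc_b_rc_1_3 lc_b_rc_10_0 lc_b_rc_13_2 lc_b_rc_10_0 lc_b_rc_13_2 lc_b_rc_1_3 lc_b_Cert_tree lc_b_rc_13_2 lc_b_rc_10_0 lc_b_rc_13_2 lc_b_rc_15_2 lc_b_Cert_tree lc_b_rc_18_2 lc_b_rc_10_0 lc_b_rc_13_2 lc_b_rc_15_2 lc_b_rc_10_0 lc_b_rc_13_2 lc_b_rc_1_3 lc_b_rc_13_2 lc_b_rc_15_2 lc_b_rc_10_0 lc_b_rc_13_2 lc_b_rc_1_3 lc_b_rc_13_2 lc_b_rc_12_2 lc_b_rc_16_0 lc_b_rc_10_0 lc_b_rc_13_2 lc_b_rc_1_3 lc_b_rc_18_2) (@D3.rec (fun _ => (Cert rels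 S Gen.b)) lc_b_Cert_tree lc_b_rc_13_2 lc_b_Cert_tree lc_b_rc_15_0 lc_b_rc_10_0 lc_b_rc_13_2 lc_b_rc_10_0 lc_b_rc_13_2 lc_b_rc_1_3 lc_b_rc_13_2 lc_b_rc_1_3 lc_b_rc_13_2 lc_b_Cert_tree lc_b_rc_10_0 lc_b_Cert_tree lc_b_rc_13_2 lc_b_Cert_tree lc_b_rc_13_2 lc_b_rc_10_0 lc_b_rc_13_2 lc_b_rc_15_2 lc_b_rc_10_0 lc_b_rc_13_2 lc_b_rc_15_2 lc_b_rc_1_3 lc_b_rc_13_2 lc_b_rc_15_2 lc_b_Cert_tree lc_b_rc_18_2 lc_b_rc_10_0 lc_b_rc_13_2 lc_b_rc_15_2 lc_b_rc_10_0 lc_b_rc_13_2 lc_b_rc_15_2 lc_b_rc_11_0 lc_b_rc_13_2 lc_b_rc_12_2 lc_b_rc_15_2 lc_b_rc_16_2 lc_b_rc_10_0 lc_b_rc_13_2 lc_b_rc_1_3 lc_b_rc_13_2 lc_b_rc_12_2 lc_b_rc_15_2 lc_b_rc_1_3 lc_b_rc_15_2 lc_b_rc_16_2 lc_b_rc_10_0 lc_b_rc_1_3) (@D3.rec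 (fun _ => (Cert rels S Gen.b)) lc_b_rc_13_2 lc_b_rc_1_3 lc_b_rc_12_2 lc_b_rc_14_2 lc_b_rc_1_1 lc_b_rc_18_2 lc_b_rc_12_0 lc_b_rc_11_2 lc_b_rc_18_2 lc_b_rc_12_2 lc_b_rc_15_2 lc_b_rc_18_0 lc_b_rc_10_0 lc_b_rc_10_0 lc_b_rc_13_2 lc_b_rc_1_3 lc_b_rc_10_0 lc_b_rc_1_3 lc_b_rc_1_3 lc_b_rc_13_2 lc_b_Cert_tree lc_b_rc_14_2 lc_b_rc_10_0 lc_b_rc_10_0 lc_b_rc_13_2 lc_b_rc_14_2 lc_b_rc_10_0 lc_b_rc_13_2 lc_b_rc_1_3 lc_b_Cert_tree lc_b_rc_18_2 lc_b_rc_10_0 lc_b_rc_10_0 lc_b_rc_13_2 lc_b_rc_1_3 lc_b_rc_1_3 lc_b_rc_13_2 lc_b_rc_10_0 lc_b_rc_10_0 lc_b_rc_13_2 lc_b_rc_1_3 lc_b_rc_1_3 lc_b_rc_12_2 lc_b_rc_13_2 lc_b_rc_1_3 lc_b_rc_1_3 lc_b_rc_1_3 lc_b_rc_10_0 lc_b_rc_13_2 lc_b_rc_1_3 lc_b_rc_13_2) (@D3.rec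 (fun _ => (Cert rels S Gen.b)) lc_b_rc_1_3 lc_b_rc_12_2 lc_b_rc_14_2 lc_b_rc_13_2 lc_b_rc_10_0 lc_b_rc_1_3 lc_b_rc_10_0 lc_b_rc_10_0 lc_b_rc_13_2 lc_b_rc_1_3 lc_b_rc_10_0 lc_b_rc_13_2 lc_b_rc_1_3 lc_b_rc_13_2 lc_b_Cert_tree lc_b_rc_1_3 lc_b_rc_10_0 lc_b_Cert_tree lc_b_rc_1_5 lc_b_rc_10_0 lc_b_rc_13_2 lc_b_rc_14_2 lc_b_rc_16_2 lc_b_rc_10_0 lc_b_rc_13_2 lc_b_rc_1_3 lc_b_Cert_tree lc_b_rc_1_3 lc_b_rc_10_0 lc_b_Cert_tree lc_b_rc_13_2 lc_b_rc_10_0 lc_b_rc_13_2 lc_b_rc_1_3 lc_b_rc_1_3 lc_b_rc_13_2 lc_b_rc_12_2 lc_b_rc_16_2 lc_b_rc_15_2 lc_b_rc_12_2 lc_b_rc_13_2 lc_b_Cert_tree lc_b_rc_13_2 lc_b_rc_10_0 lc_b_rc_10_0 lc_b_rc_13_2 lc_b_rc_1_3 lc_b_Cert_tree lc_b_rc_14_2 lc_b_rc_10_0 lc_b_Cert_tree)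 (@D3.rec (fun _ => (Cert rels S Gen.b)) lc_b_rc_13_2 lc_b_rc_10_0 lc_b_rc_13_2 lc_b_rc_1_3 lc_b_rc_10_0 lc_b_rc_13_2 lc_b_rc_14_2 lc_b_rc_1_3 lc_b_rc_13_2 lc_b_rc_12_2 lc_b_Cert_tree lc_b_rc_10_0 lc_b_rc_1_3 lc_b_Cert_tree lc_b_rc_13_2 lc_b_rc_10_0 lc_b_rc_13_2 lc_b_rc_10_0 lc_b_rc_1_3 lc_b_rc_1_3 lc_b_rc_13_2 lc_b_rc_12_2 lc_b_rc_1_3 lc_b_rc_12_2 lc_b_rc_14_2 lc_b_rc_16_2 lc_b_rc_12_2 lc_b_rc_12_2 lc_b_rc_14_2 lc_b_rc_15_2 lc_b_rc_10_0 lc_b_Cert_tree lc_b_Cert_tree lc_b_rc_18_0 lc_b_rc_10_0 lc_b_Cert_tree lc_b_rc_14_2 lc_b_rc_10_0 lc_b_rc_13_2 lc_b_rc_1_3 lc_b_Cert_tree lc_b_rc_1_3 lc_b_rc_11_2 lc_b_rc_1_3 lc_b_Cert_tree lc_b_Cert_tree lc_b_rc_13_2 lc_b_rc_10_0 lc_b_rc_13_2 lc_b_rc_15_2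 lc_b_rc_14_0) (@D3.rec (fun _ => (Cert rels S Gen.b)) lc_b_rc_11_2 lc_b_rc_16_2 lc_b_Cert_tree lc_b_rc_12_2 lc_b_Cert_tree lc_b_rc_10_0 lc_b_Cert_tree lc_b_rc_1_3 lc_b_rc_10_0 lc_b_rc_13_2 lc_b_rc_15_2 lc_b_rc_1_3 lc_b_rc_13_2 lc_b_rc_15_2 lc_b_rc_16_2 lc_b_rc_10_0 lc_b_rc_13_2 lc_b_rc_1_3 lc_b_rc_13_2 lc_b_rc_12_2 lc_b_rc_10_0 lc_b_Cert_tree lc_b_rc_13_2 lc_b_rc_10_0 lc_b_rc_13_2 lc_b_rc_1_3 lc_b_rc_10_0 lc_b_Cert_tree lc_b_rc_10_0 lc_b_rc_1_3 lc_b_Cert_tree lc_b_rc_15_0 lc_b_rc_10_0 lc_b_rc_13_2 lc_b_rc_15_2 lc_b_rc_1_3 lc_b_rc_13_2 lc_b_rc_12_2 lc_b_rc_10_0 lc_b_rc_1_3 lc_b_Cert_tree lc_b_rc_10_0 lc_b_rc_10_0 lc_b_rc_10_0 lc_b_rc_10_0 lc_b_rc_1_3 lc_b_rc_13_2 lc_b_rc_10_0 lc_b_rc_13_2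 lc_b_rc_1_3 lc_b_rc_13_2) (@D3.rec (fun _ => (Cert rels S Gen.b)) lc_b_rc_12_2 lc_b_rc_1_3 lc_b_rc_12_2 lc_b_rc_14_2 lc_b_rc_16_2 lc_b_rc_13_2 lc_b_rc_12_2 lc_b_rc_12_2 lc_b_rc_1_1 lc_b_rc_12_2 lc_b_rc_13_0 lc_b_rc_11_2 lc_b_rc_14_2 lc_b_rc_18_2 lc_b_rc_10_0 lc_b_rc_10_0 lc_b_Cert_tree lc_b_rc_13_2 lc_b_rc_10_0 lc_b_rc_13_2 lc_b_rc_14_2 lc_b_rc_1_3 lc_b_rc_13_2 lc_b_rc_15_2 lc_b_rc_10_0 lc_b_rc_13_2 lc_b_rc_1_3 lc_b_rc_13_2 lc_b_rc_12_2 lc_b_rc_10_0 lc_b_rc_10_0 lc_b_rc_13_2 lc_b_rc_1_3 lc_b_Cert_tree lc_b_rc_14_2 lc_b_Cert_tree lc_b_rc_10_0 lc_b_rc_13_2 lc_b_rc_10_0 lc_b_rc_1_3 lc_b_Cert_tree lc_b_rc_16_2 lc_b_rc_10_0 lc_b_rc_13_2 lc_b_rc_15_2 lc_b_rc_1_3 lc_b_rc_13_2 lc_b_rc_12_2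 lc_b_rc_1_3 lc_b_rc_10_0 lc_b_rc_13_2) (@D3.rec (fun _ => (Cert rels S Gen.b)) lc_b_rc_1_3 lc_b_rc_13_2 lc_b_rc_12_2 lc_b_rc_15_2 lc_b_rc_1_3 lc_b_rc_12_2 lc_b_rc_14_2 lc_b_rc_1_3 lc_b_Cert_tree lc_b_rc_10_0 lc_b_rc_13_2 lc_b_rc_11_4 lc_b_rc_10_0 lc_b_rc_1_3 lc_b_rc_13_2 lc_b_rc_1_3 lc_b_Cert_tree lc_b_rc_14_2 lc_b_Cert_tree lc_b_rc_18_2 lc_b_rc_10_0 lc_b_rc_13_2 lc_b_rc_14_2 lc_b_rc_10_0 lc_b_rc_13_2 lc_b_rc_1_3 lc_b_rc_13_2 lc_b_rc_12_2 lc_b_rc_15_2 lc_b_rc_1_3 lc_b_rc_13_2 lc_b_rc_12_2 lc_b_rc_1_3 lc_b_rc_12_2 lc_b_rc_15_2 lc_b_rc_12_2 lc_b_rc_10_0 lc_b_rc_13_2 lc_b_rc_12_2 lc_b_rc_1_3 lc_b_rc_13_2 lc_b_rc_15_2 lc_b_rc_1_3 lc_b_rc_12_2 lc_b_rc_15_2 lc_b_rc_14_2 lc_b_rc_1_3 lc_b_rc_1_3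 lc_b_rc_13_2 lc_b_rc_12_2 lc_b_rc_1_3)
def ce_b_20 : D2 → D3 → (Cert rels S Gen.b) := @D2.rec (fun _ => D3 → (Cert rels S Gen.b)) (@D3.rec (fun _ => (Cert rels S Gen.b)) lc_b_rc_12_2 lc_b_rc_14_2 lc_b_rc_1_3 lc_b_rc_11_2 lc_b_rc_14_2 lc_b_rc_18_2 lc_b_rc_17_2 lc_b_rc_12_2 lc_b_rc_15_2 lc_b_rc_13_2 lc_b_rc_12_2 lc_b_rc_11_2 lc_b_rc_12_2 lc_b_rc_12_2 lc_b_rc_12_2 lc_b_rc_11_2 lc_b_rc_14_2 lc_b_rc_17_2 lc_b_rc_16_0 lc_b_rc_13_0 lc_b_Cert_tree lc_b_rc_13_0 lc_b_rc_11_2 lc_b_rc_11_2 lc_b_rc_11_2 lc_b_rc_10_1 lc_b_rc_15_2 lc_b_rc_11_4 lc_b_rc_12_2 lc_b_rc_17_2 lc_b_rc_13_2 lc_b_rc_1_3 lc_b_rc_1_3 lc_b_rc_11_4 lc_b_rc_1_3 lc_b_rc_10_0 lc_b_rc_13_2 lc_b_rc_1_3 lc_b_rc_10_0 lc_b_rc_13_2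 lc_b_rc_12_2 lc_b_rc_10_0 lc_b_rc_13_2 lc_b_rc_1_3 lc_b_rc_13_2 lc_b_rc_1_3 lc_b_rc_10_0 lc_b_rc_13_2 lc_b_rc_10_0 lc_b_rc_13_0 lc_b_rc_10_0) (@D3.rec (fun _ => (Cert rels S Gen.b)) lc_b_rc_1_3 lc_b_rc_13_2 lc_b_rc_1_3 lc_b_rc_1_3 lc_b_rc_10_0 lc_b_rc_13_2 lc_b_rc_1_3 lc_b_rc_13_2 lc_b_Cert_tree lc_b_rc_13_2 lc_b_rc_10_0 lc_b_rc_13_2 lc_b_rc_14_2 lc_b_rc_10_0 lc_b_rc_13_2 lc_b_rc_1_3 lc_b_rc_10_0 lc_b_rc_13_2 lc_b_rc_15_2 lc_b_Cert_tree lc_b_rc_14_2 lc_b_rc_10_0 lc_b_rc_13_2 lc_b_rc_1_3 lc_b_rc_10_0 lc_b_rc_13_2 lc_b_rc_1_3 lc_b_rc_13_2 lc_b_rc_15_2 lc_b_rc_1_1 lc_b_rc_1_3 lc_b_rc_10_0 lc_b_rc_13_2 lc_b_rc_15_2 lc_b_rc_1_3 lc_b_rc_13_2 lc_b_rc_15_2 lc_b_rc_10_0 lc_b_rc_13_2 lc_b_rc_1_3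 lc_b_rc_13_2 lc_b_rc_15_2 lc_b_rc_1_3 lc_b_rc_13_2 lc_b_rc_1_3 lc_b_rc_15_2 lc_b_rc_1_3 lc_b_rc_12_2 lc_b_rc_10_0 lc_b_rc_13_2 lc_b_rc_56_22) (@D3.rec (fun _ => (Cert rels S Gen.b)) lc_b_rc_10_0 lc_b_rc_13_2 lc_b_rc_1_3 lc_b_rc_13_2 lc_b_Cert_tree lc_b_rc_17_2 lc_b_rc_10_0 lc_b_rc_13_2 lc_b_rc_15_2 lc_b_rc_16_2 lc_b_Cert_tree lc_b_rc_13_2 lc_b_rc_10_0 lc_b_rc_13_2 lc_b_Cert_tree lc_b_rc_17_2 lc_b_rc_10_0 lc_b_rc_13_2 lc_b_rc_12_2 lc_b_rc_13_2 lc_b_rc_10_0 lc_b_rc_13_2 lc_b_rc_10_0 lc_b_rc_1_3 lc_b_rc_13_2 lc_b_rc_10_0 lc_b_rc_10_0 lc_b_rc_13_2 lc_b_rc_1_3 lc_b_rc_13_2 lc_b_rc_12_2 lc_b_rc_1_3 lc_b_rc_1_3 lc_b_rc_1_3 lc_b_rc_10_0 lc_b_rc_13_2 lc_b_rc_13_2 lc_b_rc_1_3 lc_b_rc_13_2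 lc_b_rc_15_2 lc_b_rc_1_3 lc_b_rc_13_2 lc_b_rc_12_2 lc_b_rc_10_0 lc_b_rc_13_2 lc_b_rc_11_4 lc_b_rc_13_2 lc_b_Cert_tree lc_b_rc_1_1 lc_b_rc_10_0 lc_b_rc_13_2) (@D3.rec (fun _ => (Cert rels S Gen.b)) lc_b_rc_10_0 lc_b_rc_13_2 lc_b_rc_17_2 lc_b_rc_1_3 lc_b_rc_13_2 lc_b_rc_15_2 lc_b_rc_14_2 lc_b_rc_1_3 lc_b_rc_13_2 lc_b_rc_1_3 lc_b_rc_15_2 lc_b_rc_16_2 lc_b_rc_10_0 lc_b_rc_13_2 lc_b_rc_1_3 lc_b_rc_10_0 lc_b_rc_13_2 lc_b_rc_10_0 lc_b_rc_13_2 lc_b_rc_11_4 lc_b_rc_13_2 lc_b_rc_10_0 lc_b_rc_1_3 lc_b_rc_13_2 lc_b_rc_1_3 lc_b_rc_10_0 lc_b_rc_13_2 lc_b_rc_10_0 lc_b_rc_13_2 lc_b_rc_1_3 lc_b_rc_13_2 lc_b_rc_12_2 lc_b_rc_1_3 lc_b_rc_13_2 lc_b_rc_15_2 lc_b_rc_1_3 lc_b_rc_15_2 lc_b_rc_10_0 lc_b_rc_13_2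 lc_b_rc_1_3 lc_b_rc_13_2 lc_b_rc_1_3 lc_b_rc_1_3 lc_b_rc_1_3 lc_b_rc_18_2 lc_b_rc_1_3 lc_b_rc_1_3 lc_b_rc_1_3 lc_b_rc_13_2 lc_b_rc_15_2 lc_b_Cert_tree) (@D3.rec (fun _ => (Cert rels S Gen.b)) lc_b_rc_1_3 lc_b_rc_10_0 lc_b_rc_13_2 lc_b_rc_14_2 lc_b_rc_1_3 lc_b_rc_13_2 lc_b_rc_15_2 lc_b_Cert_tree lc_b_rc_18_2 lc_b_rc_10_0 lc_b_rc_13_2 lc_b_rc_14_2 lc_b_rc_10_0 lc_b_rc_13_2 lc_b_rc_18_2 lc_b_rc_1_3 lc_b_rc_13_2 lc_b_rc_15_2 lc_b_rc_1_3 lc_b_rc_13_2 lc_b_rc_15_2 lc_b_rc_1_3 lc_b_rc_15_2 lc_b_rc_16_2 lc_b_rc_10_0 lc_b_rc_13_2 lc_b_rc_1_3 lc_b_rc_13_2 lc_b_rc_1_3 lc_b_rc_1_3 lc_b_rc_15_2 lc_b_rc_1_3 lc_b_rc_13_2 lc_b_rc_10_0 lc_b_rc_13_2 lc_b_rc_1_3 lc_b_rc_13_2 lc_b_rc_12_2 lc_b_rc_1_3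 lc_b_rc_15_2 lc_b_rc_16_2 lc_b_rc_13_2 lc_b_rc_15_2 lc_b_rc_13_2 lc_b_rc_56_36 lc_b_rc_13_2 lc_b_rc_13_2 lc_b_rc_1_3 lc_b_rc_13_2 lc_b_rc_1_3 lc_b_rc_13_2) (@D3.rec (fun _ => (Cert rels S Gen.b)) lc_b_rc_56_29 lc_b_rc_1_3 lc_b_rc_15_2 lc_b_rc_12_2 lc_b_rc_13_2 lc_b_rc_13_2 lc_b_rc_1_3 lc_b_rc_1_3 lc_b_rc_1_3 lc_b_rc_16_2 lc_b_rc_10_0 lc_b_rc_13_2 lc_b_rc_1_3 lc_b_rc_1_3 lc_b_rc_10_0 lc_b_rc_13_2 lc_b_rc_1_3 lc_b_rc_10_0 lc_b_rc_13_2 lc_b_rc_1_3 lc_b_rc_13_2 lc_b_rc_12_2 lc_b_rc_10_0 lc_b_rc_13_2 lc_b_rc_14_2 lc_b_rc_10_0 lc_b_rc_13_2 lc_b_rc_1_3 lc_b_rc_1_3 lc_b_rc_13_2 lc_b_rc_11_2 lc_b_rc_10_0 lc_b_rc_13_2 lc_b_rc_11_4 lc_b_rc_1_3 lc_b_rc_13_2 lc_b_rc_1_3 lc_b_rc_13_2 lc_b_rc_12_2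 lc_b_rc_1_3 lc_b_rc_1_3 lc_b_rc_13_2 lc_b_rc_1_3 lc_b_rc_1_3 lc_b_rc_13_2 lc_b_rc_12_2 lc_b_rc_56_43 lc_b_rc_1_3 lc_b_rc_12_0 lc_b_rc_1_3 lc_b_rc_10_0) (@D3.rec (fun _ => (Cert rels S Gen.b)) lc_b_rc_13_2 lc_b_rc_10_0 lc_b_rc_13_2 lc_b_rc_1_3 lc_b_rc_13_2 lc_b_rc_12_2 lc_b_rc_10_0 lc_b_rc_13_2 lc_b_rc_1_3 lc_b_rc_13_2 lc_b_rc_1_3 lc_b_rc_10_0 lc_b_rc_13_2 lc_b_rc_1_3 lc_b_rc_1_3 lc_b_rc_13_2 lc_b_rc_12_2 lc_b_rc_12_0 lc_b_rc_12_0 lc_b_rc_1_3 lc_b_rc_10_0 lc_b_rc_13_2 lc_b_rc_10_0 lc_b_rc_13_2 lc_b_rc_56_36 lc_b_rc_1_3 lc_b_rc_13_2 lc_b_rc_12_2 lc_b_Cert_tree lc_b_rc_17_2 lc_b_rc_10_0 lc_b_rc_13_2 lc_b_rc_14_2 lc_b_rc_10_0 lc_b_rc_13_2 lc_b_rc_1_3 lc_b_rc_13_2 lc_b_rc_12_2 lc_b_rc_1_3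 lc_b_rc_10_0 lc_b_rc_13_2 lc_b_rc_1_3 lc_b_rc_13_2 lc_b_rc_1_3 lc_b_rc_1_3 lc_b_rc_1_3 lc_b_rc_13_2 lc_b_rc_12_2 lc_b_rc_14_2 lc_b_rc_13_2 lc_b_rc_12_2) (@D3.rec (fun _ => (Cert rels S Gen.b)) lc_b_rc_1_3 lc_b_rc_12_2 lc_b_rc_14_2 lc_b_rc_56_43 lc_b_rc_13_2 lc_b_rc_12_2 lc_b_rc_13_2 lc_b_rc_15_2 lc_b_rc_16_2 lc_b_rc_1_3 lc_b_rc_16_2 lc_b_rc_1_3 lc_b_rc_1_3 lc_b_rc_1_3 lc_b_rc_13_2 lc_b_rc_1_3 lc_b_rc_12_2 lc_b_rc_14_2 lc_b_rc_10_0 lc_b_rc_13_2 lc_b_rc_14_0 lc_b_rc_1_3 lc_b_rc_13_2 lc_b_rc_13_0 lc_b_rc_13_2 lc_b_rc_56_43 lc_b_rc_12_2 lc_b_rc_1_3 lc_b_rc_1_3 lc_b_rc_1_3 lc_b_rc_10_0 lc_b_rc_13_2 lc_b_rc_12_0 lc_b_rc_10_0 lc_b_rc_1_3 lc_b_rc_10_0 lc_b_rc_1_3 lc_b_rc_1_3 lc_b_rc_13_2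 lc_b_rc_12_2 lc_b_rc_14_2 lc_b_rc_15_2 lc_b_rc_1_3 lc_b_rc_1_3 lc_b_rc_1_3 lc_b_rc_13_2 lc_b_rc_10_0 lc_b_rc_11_2 lc_b_rc_13_2 lc_b_rc_13_2 lc_b_rc_12_2) (@D3.rec (fun _ => (Cert rels S Gen.b)) lc_b_rc_14_2 lc_b_rc_11_2 lc_b_rc_13_2 lc_b_Cert_tree lc_b_rc_14_2 lc_b_rc_10_0 lc_b_Cert_tree lc_b_rc_13_2 lc_b_rc_11_2 lc_b_rc_15_2 lc_b_Cert_tree lc_b_rc_15_0 lc_b_Cert_tree lc_b_rc_13_2 lc_b_rc_10_0 lc_b_rc_13_2 lc_b_rc_15_2 lc_b_rc_16_2 lc_b_rc_10_0 lc_b_rc_13_2 lc_b_rc_16_2 lc_b_rc_10_0 lc_b_Cert_tree lc_b_rc_14_2 lc_b_rc_10_0 lc_b_rc_13_2 lc_b_rc_12_2 lc_b_rc_16_2 lc_b_Cert_tree lc_b_rc_18_2 lc_b_rc_10_0 lc_b_rc_13_2 lc_b_rc_1_3 lc_b_Cert_tree lc_b_rc_13_2 lc_b_rc_10_0 lc_b_rc_13_2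 lc_b_rc_13_0 lc_b_rc_1_3 lc_b_rc_13_2 lc_b_rc_15_2 lc_b_rc_1_3 lc_b_rc_13_2 lc_b_rc_12_2 lc_b_rc_1_3 lc_b_rc_18_2 lc_b_rc_12_2 lc_b_rc_14_2 lc_b_rc_1_3 lc_b_rc_10_0 lc_b_rc_13_2) (@D3.rec (fun _ => (Cert rels S Gen.b)) lc_b_rc_12_2 lc_b_rc_1_3 lc_b_rc_13_2 lc_b_rc_15_2 lc_b_rc_12_2 lc_b_rc_10_0 lc_b_rc_13_2 lc_b_rc_14_2 lc_b_rc_1_3 lc_b_rc_13_2 lc_b_rc_12_2 lc_b_Cert_tree lc_b_rc_13_2 lc_b_rc_10_0 lc_b_rc_13_2 lc_b_rc_1_3 lc_b_rc_13_2 lc_b_Cert_tree lc_b_rc_13_2 lc_b_rc_10_0 lc_b_rc_13_2 lc_b_rc_14_2 lc_b_rc_10_0 lc_b_rc_13_2 lc_b_rc_15_2 lc_b_rc_1_3 lc_b_rc_13_2 lc_b_rc_15_2 lc_b_rc_12_0 lc_b_rc_1_3 lc_b_rc_13_2 lc_b_rc_12_2 lc_b_rc_15_2 lc_b_rc_1_3 lc_b_rc_15_2 lc_b_rc_16_2 lc_b_rc_1_3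 lc_b_rc_12_2 lc_b_rc_14_2 lc_b_rc_10_0 lc_b_rc_16_2 lc_b_rc_14_0 lc_b_rc_14_2 lc_b_rc_12_2 lc_b_rc_18_2 lc_b_rc_10_0 lc_b_rc_1_3 lc_b_Cert_tree lc_b_Cert_tree lc_b_rc_13_2 lc_b_rc_10_0) (@D3.rec (fun _ => (Cert rels S Gen.b)) lc_b_rc_10_0 lc_b_rc_13_2 lc_b_rc_1_3 lc_b_rc_10_0 lc_b_rc_13_2 lc_b_rc_1_3 lc_b_rc_13_2 lc_b_rc_1_3 lc_b_rc_13_2 lc_b_rc_10_0 lc_b_rc_13_2 lc_b_rc_1_3 lc_b_rc_1_3 lc_b_rc_10_0 lc_b_rc_13_2 lc_b_rc_1_3 lc_b_rc_13_2 lc_b_rc_1_3 lc_b_rc_13_2 lc_b_rc_10_0 lc_b_rc_13_2 lc_b_rc_1_3 lc_b_rc_1_3 lc_b_rc_10_0 lc_b_rc_13_2 lc_b_rc_1_3 lc_b_rc_13_2 lc_b_rc_1_3 lc_b_Cert_tree lc_b_rc_13_2 lc_b_rc_15_2 lc_b_Cert_tree lc_b_rc_55_65 lc_b_Cert_tree lc_b_rc_17_2 lc_b_rc_10_0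 lc_b_rc_13_2 lc_b_rc_15_2 lc_b_rc_11_2 lc_b_Cert_tree lc_b_rc_14_2 lc_b_rc_10_0 lc_b_rc_13_2 lc_b_rc_1_3 lc_b_Cert_tree lc_b_rc_14_0 lc_b_rc_10_0 lc_b_rc_13_2 lc_b_rc_15_2 lc_b_rc_12_2 lc_b_rc_10_0) (@D3.rec (fun _ => (Cert rels S Gen.b)) lc_b_rc_13_2 lc_b_rc_13_2 lc_b_rc_10_0 lc_b_rc_13_2 lc_b_rc_14_2 lc_b_rc_1_3 lc_b_rc_13_2 lc_b_rc_15_2 lc_b_rc_14_0 lc_b_rc_1_3 lc_b_rc_13_2 lc_b_rc_12_2 lc_b_Cert_tree lc_b_rc_13_2 lc_b_rc_10_0 lc_b_rc_13_2 lc_b_rc_17_2 lc_b_rc_10_0 lc_b_rc_13_2 lc_b_rc_10_0 lc_b_rc_13_2 lc_b_rc_12_2 lc_b_rc_13_2 lc_b_rc_15_2 lc_b_rc_10_0 lc_b_rc_13_2 lc_b_rc_15_2 lc_b_rc_11_4 lc_b_rc_13_2 lc_b_rc_12_2 lc_b_rc_10_0 lc_b_rc_13_2 lc_b_rc_1_3 lc_b_rc_13_2 lc_b_rc_10_0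 lc_b_rc_10_0 lc_b_rc_13_2 lc_b_rc_1_3 lc_b_rc_13_2 lc_b_rc_12_2 lc_b_rc_15_2 lc_b_rc_1_3 lc_b_rc_1_3 lc_b_rc_15_2 lc_b_rc_10_0 lc_b_rc_13_2 lc_b_rc_1_3 lc_b_rc_13_2 lc_b_rc_1_3 lc_b_rc_12_2 lc_b_rc_14_2) (@D3.rec (fun _ => (Cert rels S Gen.b)) lc_b_rc_14_2 lc_b_rc_18_2 lc_b_Cert_tree lc_b_rc_13_2 lc_b_rc_10_0 lc_b_rc_13_2 lc_b_rc_16_2 lc_b_rc_1_3 lc_b_rc_13_2 lc_b_rc_12_2 lc_b_rc_10_0 lc_b_rc_13_2 lc_b_rc_1_3 lc_b_rc_13_2 lc_b_rc_15_2 lc_b_rc_56_36 lc_b_rc_15_2 lc_b_rc_16_2 lc_b_rc_10_0 lc_b_rc_13_2 lc_b_rc_13_0 lc_b_rc_13_2 lc_b_rc_15_2 lc_b_rc_12_0 lc_b_rc_12_2 lc_b_rc_10_0 lc_b_rc_1_3 lc_b_rc_13_2 lc_b_rc_10_0 lc_b_rc_13_2 lc_b_rc_1_3 lc_b_rc_13_2 lc_b_rc_1_3 lc_b_rc_1_3 lc_b_rc_15_2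 lc_b_rc_1_3 lc_b_rc_13_2 lc_b_rc_13_2 lc_b_rc_15_2 lc_b_rc_16_2 lc_b_rc_10_0 lc_b_rc_1_3 lc_b_rc_1_3 lc_b_rc_16_2 lc_b_rc_1_3 lc_b_rc_13_2 lc_b_rc_1_3 lc_b_rc_1_3 lc_b_rc_11_2 lc_b_rc_14_2 lc_b_rc_18_2) (@D3.rec (fun _ => (Cert rels S Gen.b)) lc_b_rc_11_2 lc_b_rc_10_0 lc_b_rc_1_3 lc_b_rc_10_0 lc_b_rc_10_0 lc_b_rc_13_2 lc_b_rc_10_0 lc_b_rc_13_2 lc_b_rc_1_3 lc_b_rc_10_0 lc_b_rc_1_3 lc_b_rc_1_3 lc_b_rc_13_2 lc_b_rc_1_3 lc_b_rc_13_2 lc_b_Cert_tree lc_b_rc_18_2 lc_b_Cert_tree lc_b_rc_18_2 lc_b_rc_10_0 lc_b_rc_13_2 lc_b_rc_16_2 lc_b_rc_10_0 lc_b_rc_13_2 lc_b_rc_11_2 lc_b_rc_1_3 lc_b_rc_10_0 lc_b_rc_13_2 lc_b_rc_10_0 lc_b_rc_13_2 lc_b_rc_14_2 lc_b_rc_1_3 lc_b_rc_13_2 lc_b_rc_15_2 lc_b_rc_10_0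 lc_b_rc_13_2 lc_b_rc_1_3 lc_b_rc_13_2 lc_b_rc_12_2 lc_b_rc_1_3 lc_b_rc_56_36 lc_b_rc_13_2 lc_b_rc_12_0 lc_b_rc_13_2 lc_b_rc_1_3 lc_b_rc_15_2 lc_b_rc_10_0 lc_b_rc_13_2 lc_b_rc_1_3 lc_b_rc_12_2 lc_b_rc_1_3) (@D3.rec (fun _ => (Cert rels S Gen.b)) lc_b_rc_1_3 lc_b_Cert_tree lc_b_rc_10_0 lc_b_rc_10_0 lc_b_rc_13_2 lc_b_rc_1_3 lc_b_rc_13_2 lc_b_rc_10_0 lc_b_Cert_tree lc_b_rc_17_2 lc_b_Cert_tree lc_b_rc_1_3 lc_b_rc_10_0 lc_b_rc_13_2 lc_b_rc_17_2 lc_b_rc_18_2 lc_b_rc_10_0 lc_b_rc_13_2 lc_b_rc_1_3 lc_b_rc_10_0 lc_b_rc_1_3 lc_b_rc_10_0 lc_b_rc_13_2 lc_b_rc_10_0 lc_b_rc_13_2 lc_b_rc_1_5 lc_b_rc_10_0 lc_b_rc_1_3 lc_b_rc_13_2 lc_b_rc_15_2 lc_b_rc_1_3 lc_b_rc_13_2 lc_b_rc_12_2 lc_b_rc_14_2 lc_b_rc_1_3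 lc_b_rc_1_3 lc_b_rc_10_0 lc_b_rc_1_3 lc_b_rc_13_0 lc_b_rc_13_2 lc_b_rc_12_2 lc_b_rc_15_2 lc_b_rc_1_3 lc_b_rc_13_2 lc_b_rc_12_2 lc_b_rc_15_2 lc_b_rc_1_3 lc_b_rc_15_2 lc_b_rc_1_3 lc_b_rc_12_2 lc_b_rc_14_2) (@D3.rec (fun _ => (Cert rels S Gen.b)) lc_b_rc_14_2 lc_b_rc_18_2 lc_b_Cert_tree lc_b_Cert_tree lc_b_rc_10_0 lc_b_rc_10_0 lc_b_rc_10_0 lc_b_rc_13_2 lc_b_rc_1_3 lc_b_rc_10_0 lc_b_rc_13_2 lc_b_rc_15_2 lc_b_rc_18_2 lc_b_rc_55_38 lc_b_rc_16_2 lc_b_Cert_tree lc_b_rc_10_0 lc_b_rc_13_2 lc_b_rc_13_2 lc_b_rc_10_0 lc_b_rc_13_2 lc_b_rc_13_2 lc_b_rc_1_3 lc_b_rc_13_2 lc_b_rc_15_2 lc_b_rc_16_2 lc_b_rc_15_2 lc_b_rc_1_3 lc_b_rc_13_2 lc_b_rc_12_2 lc_b_rc_14_2 lc_b_Cert_tree lc_b_rc_1_3 lc_b_rc_10_0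 lc_b_rc_13_2 lc_b_rc_1_3 lc_b_rc_13_2 lc_b_rc_11_4 lc_b_rc_13_2 lc_b_rc_10_0 lc_b_rc_13_2 lc_b_rc_15_2 lc_b_rc_1_3 lc_b_rc_13_2 lc_b_rc_15_2 lc_b_rc_10_0 lc_b_rc_13_2 lc_b_rc_18_2 lc_b_rc_1_3 lc_b_rc_13_2 lc_b_rc_12_2) (@D3.rec (fun _ => (Cert rels S Gen.b)) lc_b_rc_15_2 lc_b_rc_1_3 lc_b_rc_13_2 lc_b_rc_1_3 lc_b_rc_15_2 lc_b_rc_1_3 lc_b_rc_13_2 lc_b_rc_1_3 lc_b_rc_12_2 lc_b_rc_14_2 lc_b_rc_16_0 lc_b_rc_13_0 lc_b_rc_13_2 lc_b_Cert_tree lc_b_rc_18_2 lc_b_rc_10_0 lc_b_rc_13_2 lc_b_rc_10_0 lc_b_rc_13_2 lc_b_rc_1_3 lc_b_rc_13_2 lc_b_rc_13_0 lc_b_rc_13_2 lc_b_rc_12_2 lc_b_rc_1_3 lc_b_rc_10_0 lc_b_rc_1_3 lc_b_rc_10_0 lc_b_rc_13_2 lc_b_rc_15_2 lc_b_rc_10_0 lc_b_rc_13_2 lc_b_rc_15_2 lc_b_rc_1_3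 lc_b_rc_13_2 lc_b_rc_15_2 lc_b_rc_1_3 lc_b_rc_13_2 lc_b_rc_15_2 lc_b_rc_1_3 lc_b_rc_15_2 lc_b_rc_10_0 lc_b_rc_13_2 lc_b_rc_18_2 lc_b_rc_12_2 lc_b_rc_13_2 lc_b_rc_12_2 lc_b_rc_15_2 lc_b_rc_12_2 lc_b_rc_13_2 lc_b_rc_12_2) (@D3.rec (fun _ => (Cert rels S Gen.b)) lc_b_rc_15_2 lc_b_rc_18_2 lc_b_rc_56_29 lc_b_rc_12_2 lc_b_rc_15_2 lc_b_rc_12_2 lc_b_rc_16_2 lc_b_rc_1_3 lc_b_rc_13_2 lc_b_rc_1_3 lc_b_rc_12_2 lc_b_rc_15_2 lc_b_rc_14_2 lc_b_rc_1_3 lc_b_rc_16_2 lc_b_rc_1_3 lc_b_rc_1_3 lc_b_rc_1_3 lc_b_rc_14_2 lc_b_rc_18_2 lc_b_rc_16_0 lc_b_rc_12_2 lc_b_rc_10_0 lc_b_rc_13_2 lc_b_rc_1_3 lc_b_rc_1_3 lc_b_rc_13_2 lc_b_rc_1_3 lc_b_rc_1_3 lc_b_rc_10_0 lc_b_rc_13_2 lc_b_rc_1_3 lc_b_rc_1_3 lc_b_rc_13_2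 lc_b_rc_15_2 lc_b_rc_1_3 lc_b_rc_13_2 lc_b_rc_12_2 lc_b_rc_10_0 lc_b_rc_13_2 lc_b_rc_1_3 lc_b_rc_1_3 lc_b_rc_13_2 lc_b_rc_1_3 lc_b_rc_1_3 lc_b_rc_14_2 lc_b_rc_13_2 lc_b_rc_12_2 lc_b_rc_12_2 lc_b_rc_1_3 lc_b_rc_13_2) (@D3.rec (fun _ => (Cert rels S Gen.b)) lc_b_rc_1_3 lc_b_rc_1_3 lc_b_rc_14_2 lc_b_rc_18_2 lc_b_rc_1_3 lc_b_rc_1_3 lc_b_rc_1_3 lc_b_rc_13_2 lc_b_rc_1_3 lc_b_rc_13_2 lc_b_rc_12_2 lc_b_rc_1_3 lc_b_rc_10_0 lc_b_rc_13_2 lc_b_rc_1_3 lc_b_rc_10_0 lc_b_rc_13_2 lc_b_rc_1_5 lc_b_rc_1_3 lc_b_rc_13_2 lc_b_rc_15_2 lc_b_rc_14_2 lc_b_rc_1_3 lc_b_rc_13_2 lc_b_rc_12_2 lc_b_rc_10_0 lc_b_rc_13_2 lc_b_rc_1_3 lc_b_rc_10_0 lc_b_rc_13_2 lc_b_rc_15_2 lc_b_rc_1_3 lc_b_rc_13_2 lc_b_rc_12_2 lc_b_rc_1_3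 lc_b_rc_12_2 lc_b_rc_14_2 lc_b_rc_12_2 lc_b_rc_14_2 lc_b_rc_10_0 lc_b_rc_13_2 lc_b_rc_1_3 lc_b_rc_1_3 lc_b_rc_13_2 lc_b_rc_12_2 lc_b_rc_10_0 lc_b_rc_13_2 lc_b_rc_1_3 lc_b_rc_10_0 lc_b_rc_13_2 lc_b_rc_1_3) (@D3.rec (fun _ => (Cert rels S Gen.b)) lc_b_rc_13_2 lc_b_rc_12_2 lc_b_rc_1_3 lc_b_rc_13_2 lc_b_rc_12_2 lc_b_rc_15_2 lc_b_rc_1_3 lc_b_rc_12_2 lc_b_rc_10_0 lc_b_rc_1_3 lc_b_rc_10_0 lc_b_rc_13_2 lc_b_rc_1_3 lc_b_rc_13_2 lc_b_rc_12_2 lc_b_rc_1_3 lc_b_rc_1_3 lc_b_rc_12_2 lc_b_rc_14_2 lc_b_rc_1_3 lc_b_rc_14_2 lc_b_rc_18_2 lc_b_rc_12_2 lc_b_rc_11_2 lc_b_rc_10_0 lc_b_rc_10_0 lc_b_rc_13_2 lc_b_rc_11_2 lc_b_rc_10_0 lc_b_rc_13_2 lc_b_rc_1_3 lc_b_rc_13_2 lc_b_rc_12_2 lc_b_rc_10_0 lc_b_rc_13_2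 lc_b_rc_1_3 lc_b_rc_1_1 lc_b_rc_11_2 lc_b_rc_55_29 lc_b_rc_10_0 lc_b_rc_10_0 lc_b_rc_13_2 lc_b_rc_15_2 lc_b_rc_1_3 lc_b_rc_13_2 lc_b_rc_12_2 lc_b_rc_15_2 lc_b_rc_16_2 lc_b_rc_12_2 lc_b_rc_10_0 lc_b_rc_13_2) (@D3.rec (fun _ => (Cert rels S Gen.b)) lc_b_rc_10_0 lc_b_rc_11_2 lc_b_rc_10_0 lc_b_rc_13_2 lc_b_rc_1_3 lc_b_rc_1_3 lc_b_rc_13_2 lc_b_rc_12_2 lc_b_rc_15_2 lc_b_rc_16_2 lc_b_rc_1_3 lc_b_rc_15_2 lc_b_rc_16_2 lc_b_rc_1_3 lc_b_rc_13_2 lc_b_rc_12_2 lc_b_rc_1_3 lc_b_rc_12_2 lc_b_rc_14_2 lc_b_rc_11_2 lc_b_rc_10_0 lc_b_rc_13_2 lc_b_rc_1_3 lc_b_rc_13_2 lc_b_rc_12_2 lc_b_rc_11_2 lc_b_rc_10_0 lc_b_rc_1_3 lc_b_rc_10_0 lc_b_rc_13_2 lc_b_rc_1_3 lc_b_rc_13_2 lc_b_rc_12_2 lc_b_rc_15_2 lc_b_rc_1_3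 lc_b_rc_12_2 lc_b_rc_14_2 lc_b_rc_10_0 lc_b_rc_10_0 lc_b_rc_1_3 lc_b_rc_13_2 lc_b_rc_1_3 lc_b_rc_1_3 lc_b_rc_1_3 lc_b_rc_13_2 lc_b_rc_12_2 lc_b_rc_1_3 lc_b_rc_12_2 lc_b_rc_14_2 lc_b_rc_1_3 lc_b_rc_11_2) (@D3.rec (fun _ => (Cert rels S Gen.b)) lc_b_rc_14_2 lc_b_rc_18_2 lc_b_rc_12_2 lc_b_rc_12_2 lc_b_rc_1_1 lc_b_rc_11_2 lc_b_rc_1_1 lc_b_rc_13_0 lc_b_rc_16_2 lc_b_rc_11_2 lc_b_rc_18_2 lc_b_rc_11_4 lc_b_rc_16_2 lc_b_rc_10_0 lc_b_rc_13_2 lc_b_rc_1_3 lc_b_rc_13_2 lc_b_rc_12_2 lc_b_rc_15_2 lc_b_rc_1_3 lc_b_rc_15_2 lc_b_rc_18_0 lc_b_rc_13_2 lc_b_rc_12_2 lc_b_rc_1_3 lc_b_rc_12_2 lc_b_rc_14_2 lc_b_rc_1_3 lc_b_rc_1_3 lc_b_rc_13_2 lc_b_rc_10_0 lc_b_rc_13_2 lc_b_rc_10_0 lc_b_rc_1_3 lc_b_rc_13_2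 lc_b_rc_12_2 lc_b_rc_15_0 lc_b_rc_10_0 lc_b_rc_13_2 lc_b_rc_17_2 lc_b_rc_1_3 lc_b_rc_13_2 lc_b_rc_12_2 lc_b_rc_15_2 lc_b_rc_1_3 lc_b_rc_12_2 lc_b_rc_14_2 lc_b_rc_1_3 lc_b_rc_13_2 lc_b_rc_12_2 lc_b_rc_1_3) (@D3.rec (fun _ => (Cert rels S Gen.b)) lc_b_rc_12_2 lc_b_rc_15_2 lc_b_rc_14_2 lc_b_rc_1_3 lc_b_rc_11_2 lc_b_rc_14_2 lc_b_rc_18_2 lc_b_rc_10_0 lc_b_rc_1_3 lc_b_rc_13_2 lc_b_rc_12_2 lc_b_rc_1_3 lc_b_rc_1_3 lc_b_rc_10_0 lc_b_rc_13_2 lc_b_rc_14_2 lc_b_rc_10_0 lc_b_rc_13_2 lc_b_rc_18_2 lc_b_rc_1_3 lc_b_rc_13_2 lc_b_rc_12_2 lc_b_rc_15_2 lc_b_rc_1_3 lc_b_rc_13_2 lc_b_rc_12_2 lc_b_rc_1_3 lc_b_rc_12_2 lc_b_rc_15_2 lc_b_rc_12_2 lc_b_rc_14_2 lc_b_rc_1_3 lc_b_rc_12_2 lc_b_rc_1_3 lc_b_rc_1_3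 lc_b_rc_12_2 lc_b_rc_13_2 lc_b_rc_1_3 lc_b_rc_13_2 lc_b_rc_15_2 lc_b_rc_1_3 lc_b_rc_15_2 lc_b_rc_1_3 lc_b_rc_1_3 lc_b_rc_14_2 lc_b_rc_18_2 lc_b_rc_1_3 lc_b_rc_12_2 lc_b_rc_1_3 lc_b_rc_14_2 lc_b_rc_18_2) (@D3.rec (fun _ => (Cert rels S Gen.b)) lc_b_Cert_tree lc_b_rc_1_3 lc_b_rc_11_2 lc_b_rc_18_2 lc_b_rc_13_0 lc_b_rc_13_2 lc_b_rc_17_2 lc_b_rc_11_0 lc_b_rc_11_2 lc_b_rc_12_2 lc_b_Cert_tree lc_b_rc_14_2 lc_b_rc_11_2 lc_b_rc_10_0 lc_b_rc_14_2 lc_b_rc_12_2 lc_b_rc_18_2 lc_b_rc_13_2 lc_b_rc_1_3 lc_b_rc_13_2 lc_b_rc_12_2 lc_b_rc_13_2 lc_b_rc_12_2 lc_b_rc_12_2 lc_b_rc_13_2 lc_b_rc_1_3 lc_b_rc_12_2 lc_b_rc_13_2 lc_b_rc_1_3 lc_b_rc_1_3 lc_b_rc_1_3 lc_b_rc_13_2 lc_b_rc_12_2 lc_b_rc_1_3 lc_b_rc_10_0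 lc_b_rc_13_2 lc_b_rc_1_3 lc_b_rc_13_2 lc_b_rc_15_2 lc_b_rc_1_3 lc_b_rc_13_2 lc_b_rc_12_2 lc_b_rc_1_3 lc_b_rc_13_2 lc_b_rc_15_2 lc_b_rc_10_0 lc_b_rc_13_2 lc_b_rc_1_3 lc_b_rc_13_2 lc_b_rc_15_2 lc_b_rc_1_3) (@D3.rec (fun _ => (Cert rels S Gen.b)) lc_b_rc_1_3 lc_b_rc_13_2 lc_b_rc_1_3 lc_b_rc_15_2 lc_b_rc_16_2 lc_b_rc_1_3 lc_b_rc_13_2 lc_b_rc_12_2 lc_b_rc_15_2 lc_b_rc_1_3 lc_b_rc_15_2 lc_b_rc_1_3 lc_b_rc_13_2 lc_b_rc_12_2 lc_b_rc_1_3 lc_b_rc_15_2 lc_b_rc_1_3 lc_b_rc_1_3 lc_b_rc_1_3 lc_b_rc_13_2 lc_b_rc_12_2 lc_b_rc_1_3 lc_b_rc_13_2 lc_b_rc_12_2 lc_b_rc_1_3 lc_b_rc_10_0 lc_b_rc_13_2 lc_b_rc_17_2 lc_b_rc_16_2 lc_b_rc_13_2 lc_b_rc_15_2 lc_b_rc_10_0 lc_b_rc_13_2 lc_b_rc_14_0 lc_b_rc_13_2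 lc_b_rc_10_0 lc_b_rc_13_2 lc_b_rc_14_2 lc_b_rc_13_2 lc_b_rc_12_2 lc_b_rc_13_2 lc_b_rc_1_3 lc_b_rc_13_2 lc_b_rc_12_2 lc_b_rc_1_3 lc_b_rc_1_3 lc_b_rc_1_3 lc_b_rc_1_3 lc_b_rc_13_2 lc_b_rc_12_2 lc_b_rc_1_3) (@D3.rec (fun _ => (Cert rels S Gen.b)) lc_b_rc_12_2 lc_b_rc_17_2 lc_b_rc_13_2 lc_b_rc_12_2 lc_b_rc_15_2 lc_b_rc_1_3 lc_b_rc_15_2 lc_b_rc_1_3 lc_b_rc_12_2 lc_b_rc_14_2 lc_b_rc_11_4 lc_b_rc_13_2 lc_b_rc_1_3 lc_b_rc_10_0 lc_b_rc_13_2 lc_b_rc_1_3 lc_b_rc_13_2 lc_b_rc_12_2 lc_b_rc_1_3 lc_b_rc_13_2 lc_b_rc_15_2 lc_b_rc_18_2 lc_b_rc_1_3 lc_b_rc_15_2 lc_b_rc_16_2 lc_b_rc_1_3 lc_b_rc_1_3 lc_b_rc_16_2 lc_b_rc_1_3 lc_b_rc_13_2 lc_b_rc_11_4 lc_b_rc_13_2 lc_b_rc_12_2 lc_b_rc_13_0 lc_b_rc_13_2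 lc_b_rc_1_3 lc_b_rc_1_3 lc_b_rc_1_3 lc_b_rc_1_3 lc_b_rc_13_2 lc_b_rc_12_2 lc_b_rc_1_3 lc_b_rc_13_2 lc_b_rc_12_2 lc_b_rc_1_3 lc_b_rc_12_2 lc_b_rc_1_3 lc_b_rc_15_2 lc_b_rc_1_3 lc_b_rc_11_2 lc_b_rc_13_2) (@D3.rec (fun _ => (Cert rels S Gen.b)) lc_b_rc_1_3 lc_b_rc_1_3 lc_b_rc_15_2 lc_b_rc_10_0 lc_b_rc_13_2 lc_b_rc_18_2 lc_b_rc_1_3 lc_b_rc_13_2 lc_b_rc_12_2 lc_b_rc_15_2 lc_b_rc_1_3 lc_b_rc_15_2 lc_b_rc_10_0 lc_b_rc_13_2 lc_b_rc_18_2 lc_b_rc_1_3 lc_b_rc_13_2 lc_b_rc_12_2 lc_b_rc_15_2 lc_b_rc_1_3 lc_b_rc_13_2 lc_b_rc_15_2 lc_b_rc_1_3 lc_b_rc_15_2 lc_b_rc_1_3 lc_b_rc_15_2 lc_b_rc_1_3 lc_b_rc_16_2 lc_b_rc_1_3 lc_b_rc_13_2 lc_b_rc_12_2 lc_b_rc_1_3 lc_b_rc_1_3 lc_b_rc_1_3 lc_b_rc_1_3 lc_b_rc_13_2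 lc_b_rc_12_2 lc_b_rc_1_3 lc_b_rc_12_2 lc_b_rc_1_3 lc_b_rc_13_2 lc_b_rc_11_2 lc_b_rc_13_2 lc_b_rc_1_3 lc_b_rc_13_2 lc_b_rc_1_3 lc_b_rc_13_2 lc_b_rc_1_3 lc_b_rc_1_3 lc_b_rc_13_2 lc_b_rc_1_3)
def ce_b_21 : D2 → D3 → (Cert rels S Gen.b) := @D2.rec (fun _ => D3 → (Cert rels S Gen.b)) (@D3.rec (fun _ => (Cert rels S Gen.b)) lc_b_rc_13_2 lc_b_rc_12_2 lc_b_rc_12_0 lc_b_rc_13_2 lc_b_rc_12_2 lc_b_rc_1_3 lc_b_rc_12_2 lc_b_rc_1_3 lc_b_rc_13_2 lc_b_rc_1_3 lc_b_rc_13_2 lc_b_rc_12_2 lc_b_rc_1_3 lc_b_rc_1_3 lc_b_rc_13_2 lc_b_rc_12_2 lc_b_rc_1_3 lc_b_rc_1_3 lc_b_rc_12_2 lc_b_rc_1_3 lc_b_rc_1_3 lc_b_rc_12_2 lc_b_rc_1_3 lc_b_rc_13_2 lc_b_rc_56_36 lc_b_rc_13_2 lc_b_rc_1_3 lc_b_rc_12_2 lc_b_rc_1_3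 lc_b_rc_13_2 lc_b_rc_1_3 lc_b_rc_1_3 lc_b_rc_13_2 lc_b_rc_12_2 lc_b_rc_13_2 lc_b_rc_12_2 lc_b_rc_12_2 lc_b_rc_13_2 lc_b_rc_13_0 lc_b_rc_13_2 lc_b_rc_12_2 lc_b_rc_1_3 lc_b_rc_12_2 lc_b_rc_14_2 lc_b_rc_10_0 lc_b_rc_13_2 lc_b_rc_18_2 lc_b_rc_1_3 lc_b_rc_13_2 lc_b_rc_12_2 lc_b_rc_12_0) (@D3.rec (fun _ => (Cert rels S Gen.b)) lc_b_rc_13_2 lc_b_rc_12_2 lc_b_rc_1_3 lc_b_rc_12_2 lc_b_rc_1_3 lc_b_rc_13_2 lc_b_rc_1_3 lc_b_rc_12_0 lc_b_rc_12_2 lc_b_rc_13_2 lc_b_rc_12_2 lc_b_rc_1_3 lc_b_rc_11_2 lc_b_rc_14_2 lc_b_rc_1_3 lc_b_rc_12_2 lc_b_rc_16_0 lc_b_rc_16_2 lc_b_rc_1_3 lc_b_rc_1_3 lc_b_rc_1_3 lc_b_rc_14_2 lc_b_rc_18_2 lc_b_rc_1_3 lc_b_rc_13_2 lc_b_rc_1_3 lc_b_rc_13_2 lc_b_rc_12_2 lc_b_rc_1_3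 lc_b_rc_13_2 lc_b_rc_1_3 lc_b_rc_1_3 lc_b_rc_1_3 lc_b_rc_12_2 lc_b_rc_14_2 lc_b_rc_15_2 lc_b_rc_1_3 lc_b_rc_1_3 lc_b_rc_16_2 lc_b_rc_1_3 lc_b_rc_11_2 lc_b_rc_14_2 lc_b_rc_18_2 lc_b_rc_10_0 lc_b_rc_13_2 lc_b_rc_17_2 lc_b_rc_10_0 lc_b_rc_13_2 lc_b_rc_15_2 lc_b_rc_12_2 lc_b_rc_11_2) (@D3.rec (fun _ => (Cert rels S Gen.b)) lc_b_rc_16_2 lc_b_rc_10_0 lc_b_rc_13_2 lc_b_rc_13_2 lc_b_rc_10_0 lc_b_rc_13_2 lc_b_rc_13_2 lc_b_rc_16_2 lc_b_rc_13_2 lc_b_rc_15_2 lc_b_rc_16_2 lc_b_rc_1_3 lc_b_rc_13_2 lc_b_rc_12_2 lc_b_rc_1_3 lc_b_rc_10_0 lc_b_rc_13_2 lc_b_rc_14_2 lc_b_rc_1_3 lc_b_rc_13_2 lc_b_rc_15_2 lc_b_rc_12_2 lc_b_rc_10_0 lc_b_rc_13_2 lc_b_rc_16_2 lc_b_rc_1_3 lc_b_rc_13_2 lc_b_rc_12_2 lc_b_rc_10_0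 lc_b_rc_13_2 lc_b_rc_14_2 lc_b_rc_1_3 lc_b_rc_13_2 lc_b_rc_12_2 lc_b_rc_15_2 lc_b_rc_1_3 lc_b_rc_15_2 lc_b_rc_1_3 lc_b_rc_12_2 lc_b_rc_14_2 lc_b_rc_18_2 lc_b_rc_14_2 lc_b_rc_18_2 lc_b_rc_1_3 lc_b_rc_13_2 lc_b_rc_12_2 lc_b_rc_15_2 lc_b_rc_12_2 lc_b_rc_12_2 lc_b_rc_15_2 lc_b_rc_16_2) (@D3.rec (fun _ => (Cert rels S Gen.b)) lc_b_rc_1_3 lc_b_rc_13_2 lc_b_rc_12_2 lc_b_rc_15_2 lc_b_rc_1_3 lc_b_rc_12_2 lc_b_rc_10_0 lc_b_rc_13_2 lc_b_rc_1_3 lc_b_rc_13_2 lc_b_rc_1_3 lc_b_rc_10_0 lc_b_rc_13_2 lc_b_rc_13_2 lc_b_rc_1_3 lc_b_rc_13_2 lc_b_rc_12_2 lc_b_rc_15_2 lc_b_rc_1_3 lc_b_rc_13_2 lc_b_rc_15_2 lc_b_rc_12_0 lc_b_rc_1_3 lc_b_rc_15_2 lc_b_rc_16_2 lc_b_rc_1_3 lc_b_rc_12_2 lc_b_rc_15_2 lc_b_rc_14_2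 lc_b_rc_1_3 lc_b_rc_16_2 lc_b_rc_1_3 lc_b_rc_14_2 lc_b_rc_18_2 lc_b_rc_18_2 lc_b_rc_1_3 lc_b_rc_10_0 lc_b_rc_10_0 lc_b_rc_13_2 lc_b_rc_1_3 lc_b_rc_1_3 lc_b_rc_13_2 lc_b_rc_1_3 lc_b_rc_13_2 lc_b_rc_12_2 lc_b_rc_1_3 lc_b_rc_1_3 lc_b_rc_1_3 lc_b_rc_13_2 lc_b_rc_12_2 lc_b_rc_1_3) (@D3.rec (fun _ => (Cert rels S Gen.b)) lc_b_rc_13_2 lc_b_rc_12_2 lc_b_rc_1_3 lc_b_rc_1_3 lc_b_rc_1_3 lc_b_rc_13_2 lc_b_rc_12_2 lc_b_rc_1_3 lc_b_rc_13_2 lc_b_rc_1_3 lc_b_rc_10_0 lc_b_rc_13_2 lc_b_rc_15_2 lc_b_rc_10_0 lc_b_rc_13_2 lc_b_rc_1_1 lc_b_rc_10_0 lc_b_rc_13_2 lc_b_rc_17_2 lc_b_rc_1_3 lc_b_rc_13_2 lc_b_rc_15_2 lc_b_rc_12_2 lc_b_rc_10_0 lc_b_rc_13_2 lc_b_rc_16_2 lc_b_rc_1_3 lc_b_rc_13_2 lc_b_rc_12_2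 lc_b_rc_10_0 lc_b_rc_13_2 lc_b_rc_1_3 lc_b_rc_13_2 lc_b_rc_12_2 lc_b_rc_15_2 lc_b_rc_16_2 lc_b_rc_1_3 lc_b_rc_13_2 lc_b_rc_12_2 lc_b_rc_15_2 lc_b_rc_1_3 lc_b_rc_13_2 lc_b_rc_12_2 lc_b_rc_15_2 lc_b_rc_1_3 lc_b_rc_15_2 lc_b_rc_16_2 lc_b_rc_1_3 lc_b_rc_12_2 lc_b_rc_14_2 lc_b_rc_10_0) (@D3.rec (fun _ => (Cert rels S Gen.b)) lc_b_rc_13_2 lc_b_rc_16_2 lc_b_rc_1_3 lc_b_rc_13_2 lc_b_rc_12_2 lc_b_rc_1_3 lc_b_rc_13_2 lc_b_rc_11_2 lc_b_rc_13_2 lc_b_rc_12_2 lc_b_rc_11_2 lc_b_rc_15_2 lc_b_rc_12_0 lc_b_rc_13_2 lc_b_rc_15_2 lc_b_rc_13_2 lc_b_rc_12_2 lc_b_rc_14_2 lc_b_rc_1_3 lc_b_rc_13_2 lc_b_rc_12_2 lc_b_rc_1_3 lc_b_rc_1_3 lc_b_rc_1_3 lc_b_rc_13_2 lc_b_rc_12_2 lc_b_rc_1_3 lc_b_rc_12_2 lc_b_rc_15_2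 lc_b_rc_12_2 lc_b_rc_1_3 lc_b_rc_1_3 lc_b_rc_13_2 lc_b_rc_1_3 lc_b_rc_1_3 lc_b_rc_14_2 lc_b_rc_18_2 lc_b_rc_10_0 lc_b_rc_13_2 lc_b_rc_15_2 lc_b_rc_13_2 lc_b_rc_12_2 lc_b_rc_15_2 lc_b_rc_1_3 lc_b_rc_12_2 lc_b_rc_14_2 lc_b_rc_1_3 lc_b_rc_13_2 lc_b_rc_1_3 lc_b_rc_15_2 lc_b_rc_1_3) (@D3.rec (fun _ => (Cert rels S Gen.b)) lc_b_rc_16_2 lc_b_rc_1_3 lc_b_rc_13_2 lc_b_rc_10_0 lc_b_rc_15_2 lc_b_rc_1_3 lc_b_rc_11_2 lc_b_rc_1_3 lc_b_rc_1_3 lc_b_rc_13_0 lc_b_rc_13_2 lc_b_rc_13_2 lc_b_rc_1_3 lc_b_rc_1_3 lc_b_rc_56_43 lc_b_rc_16_2 lc_b_rc_16_2 lc_b_rc_1_3 lc_b_rc_1_3 lc_b_rc_1_3 lc_b_rc_1_3 lc_b_rc_18_2 lc_b_rc_14_0 lc_b_rc_1_3 lc_b_rc_1_3 lc_b_rc_13_2 lc_b_rc_1_3 lc_b_rc_13_2 lc_b_rc_1_3 lc_b_rc_1_3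 lc_b_rc_1_3 lc_b_rc_10_0 lc_b_rc_13_2 lc_b_rc_18_2 lc_b_rc_10_0 lc_b_rc_13_2 lc_b_rc_18_2 lc_b_rc_1_3 lc_b_rc_13_2 lc_b_rc_15_2 lc_b_rc_12_0 lc_b_rc_13_2 lc_b_rc_12_2 lc_b_rc_13_0 lc_b_rc_13_2 lc_b_rc_1_3 lc_b_rc_13_2 lc_b_rc_12_2 lc_b_rc_15_2 lc_b_rc_1_3 lc_b_rc_15_2) (@D3.rec (fun _ => (Cert rels S Gen.b)) lc_b_rc_1_3 lc_b_rc_13_2 lc_b_rc_1_3 lc_b_rc_12_2 lc_b_rc_1_3 lc_b_rc_13_2 lc_b_rc_56_43 lc_b_rc_13_2 lc_b_rc_13_2 lc_b_rc_10_0 lc_b_rc_13_0 lc_b_rc_12_0 lc_b_rc_13_2 lc_b_rc_1_3 lc_b_rc_1_3 lc_b_rc_10_0 lc_b_rc_13_2 lc_b_rc_17_2 lc_b_rc_10_0 lc_b_rc_13_2 lc_b_rc_1_3 lc_b_rc_1_3 lc_b_rc_13_2 lc_b_rc_15_2 lc_b_rc_18_2 lc_b_rc_1_3 lc_b_rc_13_2 lc_b_rc_12_2 lc_b_rc_1_3 lc_b_rc_11_4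 lc_b_rc_13_2 lc_b_rc_1_3 lc_b_rc_13_2 lc_b_rc_12_2 lc_b_rc_15_2 lc_b_rc_1_3 lc_b_rc_1_3 lc_b_rc_15_2 lc_b_rc_1_3 lc_b_rc_12_2 lc_b_rc_14_2 lc_b_rc_18_2 lc_b_rc_13_0 lc_b_rc_1_3 lc_b_rc_12_2 lc_b_rc_15_2 lc_b_rc_1_3 lc_b_rc_12_2 lc_b_rc_15_2 lc_b_rc_14_2 lc_b_rc_1_3) (@D3.rec (fun _ => (Cert rels S Gen.b)) lc_b_rc_1_3 lc_b_rc_14_2 lc_b_rc_18_2 lc_b_rc_18_2 lc_b_rc_10_0 lc_b_rc_10_0 lc_b_rc_13_2 lc_b_rc_13_0 lc_b_rc_14_2 lc_b_rc_13_2 lc_b_rc_12_2 lc_b_rc_12_2 lc_b_rc_13_2 lc_b_rc_12_2 lc_b_rc_15_2 lc_b_rc_16_2 lc_b_rc_11_0 lc_b_rc_14_2 lc_b_rc_10_0 lc_b_rc_1_3 lc_b_rc_13_2 lc_b_rc_12_2 lc_b_rc_15_2 lc_b_rc_13_2 lc_b_rc_1_3 lc_b_rc_13_2 lc_b_rc_12_2 lc_b_rc_15_2 lc_b_rc_13_2 lc_b_rc_1_3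 lc_b_rc_15_2 lc_b_rc_16_2 lc_b_rc_13_0 lc_b_rc_1_3 lc_b_rc_12_2 lc_b_rc_14_2 lc_b_rc_10_0 lc_b_rc_13_2 lc_b_rc_14_2 lc_b_rc_13_2 lc_b_rc_12_2 lc_b_rc_18_2 lc_b_rc_12_0 lc_b_rc_1_3 lc_b_rc_13_2 lc_b_rc_12_2 lc_b_rc_15_2 lc_b_rc_1_3 lc_b_rc_15_2 lc_b_rc_14_2 lc_b_rc_13_2) (@D3.rec (fun _ => (Cert rels S Gen.b)) lc_b_rc_12_2 lc_b_rc_15_2 lc_b_rc_1_3 lc_b_rc_12_2 lc_b_rc_15_2 lc_b_rc_12_2 lc_b_rc_1_3 lc_b_rc_1_3 lc_b_rc_1_3 lc_b_rc_1_3 lc_b_rc_14_2 lc_b_rc_18_2 lc_b_rc_11_4 lc_b_rc_10_0 lc_b_rc_13_2 lc_b_rc_15_2 lc_b_rc_13_2 lc_b_rc_12_2 lc_b_rc_11_4 lc_b_rc_13_2 lc_b_rc_13_2 lc_b_rc_10_1 lc_b_rc_1_3 lc_b_rc_1_3 lc_b_rc_13_2 lc_b_rc_12_2 lc_b_rc_15_2 lc_b_rc_13_0 lc_b_rc_13_2 lc_b_rc_15_2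 lc_b_rc_1_3 lc_b_rc_15_2 lc_b_rc_1_3 lc_b_rc_15_2 lc_b_rc_1_3 lc_b_rc_14_2 lc_b_rc_13_2 lc_b_rc_12_2 lc_b_rc_15_2 lc_b_rc_15_0 lc_b_rc_12_2 lc_b_rc_15_2 lc_b_rc_12_2 lc_b_rc_14_2 lc_b_rc_12_0 lc_b_rc_12_2 lc_b_rc_15_2 lc_b_rc_12_2 lc_b_rc_16_2 lc_b_rc_1_3 lc_b_rc_1_3) (@D3.rec (fun _ => (Cert rels S Gen.b)) lc_b_rc_12_2 lc_b_rc_16_2 lc_b_rc_13_2 lc_b_rc_12_2 lc_b_rc_1_3 lc_b_rc_1_3 lc_b_rc_1_3 lc_b_rc_14_2 lc_b_rc_18_2 lc_b_rc_1_3 lc_b_rc_1_3 lc_b_rc_18_2 lc_b_rc_13_2 lc_b_rc_1_3 lc_b_rc_1_3 lc_b_rc_13_2 lc_b_rc_12_2 lc_b_rc_1_3 lc_b_rc_15_2 lc_b_rc_1_3 lc_b_rc_12_2 lc_b_rc_1_3 lc_b_rc_13_2 lc_b_rc_12_2 lc_b_rc_1_3 lc_b_rc_13_2 lc_b_rc_12_2 lc_b_rc_13_2 lc_b_rc_1_3 lc_b_rc_18_2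 lc_b_rc_1_3 lc_b_rc_1_3 lc_b_rc_12_2 lc_b_rc_1_3 lc_b_rc_13_2 lc_b_rc_12_2 lc_b_rc_1_3 lc_b_rc_13_2 lc_b_rc_12_2 lc_b_rc_15_2 lc_b_rc_1_3 lc_b_rc_1_3 lc_b_rc_15_2 lc_b_rc_16_2 lc_b_rc_1_3 lc_b_rc_12_2 lc_b_rc_14_2 lc_b_rc_1_3 lc_b_rc_13_2 lc_b_rc_12_2 lc_b_rc_1_3) (@D3.rec (fun _ => (Cert rels S Gen.b)) lc_b_rc_13_2 lc_b_rc_12_2 lc_b_rc_15_2 lc_b_rc_1_3 lc_b_rc_12_2 lc_b_rc_14_2 lc_b_rc_1_3 lc_b_rc_14_2 lc_b_rc_14_2 lc_b_rc_1_3 lc_b_rc_13_2 lc_b_rc_12_2 lc_b_rc_1_3 lc_b_rc_12_2 lc_b_rc_1_3 lc_b_rc_13_2 lc_b_rc_12_2 lc_b_rc_1_3 lc_b_rc_13_2 lc_b_rc_12_2 lc_b_rc_1_3 lc_b_rc_12_2 lc_b_rc_1_3 lc_b_rc_12_2 lc_b_rc_15_2 lc_b_rc_1_3 lc_b_rc_1_3 lc_b_rc_1_3 lc_b_rc_13_2 lc_b_rc_12_2 lc_b_rc_1_3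 lc_b_rc_12_2 lc_b_rc_14_2 lc_b_rc_1_3 lc_b_rc_14_2 lc_b_rc_1_3 lc_b_rc_18_2 lc_b_rc_56_36 lc_b_rc_11_2 lc_b_rc_13_2 lc_b_rc_12_2 lc_b_rc_14_2 lc_b_rc_13_2 lc_b_rc_12_2 lc_b_rc_1_3 lc_b_rc_12_2 lc_b_rc_14_2 lc_b_rc_1_3 lc_b_rc_13_2 lc_b_rc_12_2 lc_b_rc_15_2) (@D3.rec (fun _ => (Cert rels S Gen.b)) lc_b_rc_1_3 lc_b_rc_18_0 lc_b_rc_1_3 lc_b_rc_56_36 lc_b_rc_13_2 lc_b_rc_12_2 lc_b_rc_15_2 lc_b_rc_1_3 lc_b_rc_12_2 lc_b_rc_15_2 lc_b_rc_12_2 lc_b_rc_14_2 lc_b_rc_13_2 lc_b_rc_11_2 lc_b_rc_13_2 lc_b_rc_11_4 lc_b_rc_1_3 lc_b_rc_13_2 lc_b_rc_12_2 lc_b_rc_15_2 lc_b_rc_11_0 lc_b_rc_1_3 lc_b_rc_12_2 lc_b_rc_15_2 lc_b_rc_12_2 lc_b_rc_14_2 lc_b_rc_16_2 lc_b_rc_1_3 lc_b_rc_16_2 lc_b_rc_1_3 lc_b_rc_12_2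 lc_b_rc_14_2 lc_b_rc_1_3 lc_b_rc_11_2 lc_b_rc_14_2 lc_b_rc_18_2 lc_b_rc_17_2 lc_b_rc_13_2 lc_b_rc_12_2 lc_b_rc_1_3 lc_b_rc_12_2 lc_b_rc_14_2 lc_b_rc_1_3 lc_b_rc_1_3 lc_b_rc_13_2 lc_b_rc_12_2 lc_b_rc_1_3 lc_b_rc_12_2 lc_b_rc_15_2 lc_b_rc_14_2 lc_b_rc_1_3) (@D3.rec (fun _ => (Cert rels S Gen.b)) lc_b_rc_11_2 lc_b_rc_14_2 lc_b_rc_18_2 lc_b_rc_1_3 lc_b_rc_1_3 lc_b_rc_12_2 lc_b_rc_14_2 lc_b_rc_1_3 lc_b_rc_14_2 lc_b_rc_18_2 lc_b_rc_1_3 lc_b_rc_1_3 lc_b_rc_11_2 lc_b_rc_18_2 lc_b_rc_11_2 lc_b_rc_1_1 lc_b_rc_12_2 lc_b_rc_11_2 lc_b_rc_18_2 lc_b_rc_13_2 lc_b_rc_12_2 lc_b_rc_1_3 lc_b_rc_12_2 lc_b_rc_15_2 lc_b_rc_1_3 lc_b_rc_56_50 lc_b_rc_12_2 lc_b_rc_1_3 lc_b_rc_11_2 lc_b_rc_14_2 lc_b_rc_1_3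 lc_b_rc_11_4 lc_b_rc_13_2 lc_b_rc_12_2 lc_b_rc_10_0 lc_b_rc_1_3 lc_b_rc_12_2 lc_b_rc_14_2 lc_b_rc_12_2 lc_b_rc_13_2 lc_b_rc_15_2 lc_b_rc_1_3 lc_b_rc_12_2 lc_b_rc_15_2 lc_b_rc_12_2 lc_b_rc_14_2 lc_b_rc_1_3 lc_b_rc_14_2 lc_b_rc_18_2 lc_b_rc_1_3 lc_b_rc_12_2) (@D3.rec (fun _ => (Cert rels S Gen.b)) lc_b_rc_1_3 lc_b_rc_1_3 lc_b_rc_11_2 lc_b_rc_14_2 lc_b_rc_18_2 lc_b_Cert_tree lc_b_rc_12_2 lc_b_rc_11_2 lc_b_rc_18_2 lc_b_rc_1_3 lc_b_rc_1_3 lc_b_rc_12_2 lc_b_rc_14_2 lc_b_rc_13_2 lc_b_rc_12_2 lc_b_rc_15_2 lc_b_rc_1_3 lc_b_rc_13_2 lc_b_rc_12_2 lc_b_rc_15_2 lc_b_rc_1_3 lc_b_rc_12_2 lc_b_rc_15_2 lc_b_rc_12_2 lc_b_rc_1_3 lc_b_rc_12_2 lc_b_rc_14_2 lc_b_rc_1_3 lc_b_rc_1_3 lc_b_rc_11_2 lc_b_rc_12_2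 lc_b_rc_14_2 lc_b_rc_13_2 lc_b_rc_18_2 lc_b_rc_1_3 lc_b_rc_14_2 lc_b_rc_13_2 lc_b_rc_1_3 lc_b_rc_15_2 lc_b_rc_1_3 lc_b_rc_1_3 lc_b_rc_18_2 lc_b_rc_1_3 lc_b_rc_1_3 lc_b_rc_18_2 lc_b_rc_10_0 lc_b_rc_14_2 lc_b_rc_1_3 lc_b_rc_12_2 lc_b_rc_18_2 lc_b_rc_13_2) (@D3.rec (fun _ => (Cert rels S Gen.b)) lc_b_Cert_tree lc_b_rc_10_0 lc_b_rc_14_2 lc_b_rc_14_2 lc_b_rc_12_2 lc_b_rc_13_2 lc_b_rc_1_3 lc_b_rc_15_2 lc_b_rc_12_2 lc_b_rc_55_38 lc_b_rc_13_2 lc_b_rc_1_3 lc_b_rc_12_2 lc_b_rc_1_3 lc_b_rc_13_2 lc_b_rc_1_3 lc_b_rc_15_2 lc_b_rc_1_3 lc_b_rc_12_2 lc_b_rc_14_2 lc_b_rc_1_3 lc_b_rc_15_2 lc_b_rc_1_3 lc_b_rc_13_2 lc_b_rc_12_2 lc_b_rc_1_3 lc_b_rc_15_2 lc_b_rc_16_2 lc_b_rc_1_3 lc_b_rc_1_3 lc_b_rc_16_2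 lc_b_rc_1_3 lc_b_rc_12_2 lc_b_rc_15_2 lc_b_rc_1_3 lc_b_rc_1_3 lc_b_rc_12_2 lc_b_rc_1_3 lc_b_rc_11_4 lc_b_rc_12_2 lc_b_rc_1_3 lc_b_rc_12_2 lc_b_rc_16_2 lc_b_rc_13_2 lc_b_rc_12_2 lc_b_rc_15_2 lc_b_rc_16_2 lc_b_rc_15_2 lc_b_rc_56_36 lc_b_rc_13_2 lc_b_rc_12_2) (@D3.rec (fun _ => (Cert rels S Gen.b)) lc_b_rc_1_3 lc_b_rc_1_3 lc_b_rc_13_2 lc_b_rc_12_2 lc_b_rc_14_2 lc_b_rc_12_2 lc_b_rc_1_3 lc_b_rc_12_2 lc_b_rc_1_3 lc_b_rc_12_2 lc_b_rc_1_3 lc_b_rc_11_2 lc_b_rc_15_0 lc_b_rc_12_2 lc_b_rc_15_2 lc_b_rc_1_3 lc_b_rc_1_3 lc_b_rc_11_2 lc_b_rc_14_2 lc_b_rc_18_2 lc_b_rc_13_2 lc_b_rc_1_3 lc_b_rc_13_2 lc_b_rc_12_2 lc_b_rc_1_3 lc_b_rc_12_2 lc_b_rc_1_3 lc_b_rc_15_2 lc_b_rc_16_2 lc_b_rc_1_3 lc_b_rc_16_2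 lc_b_rc_1_3 lc_b_rc_1_3 lc_b_rc_15_0 lc_b_rc_12_2 lc_b_rc_1_3 lc_b_rc_12_0 lc_b_rc_12_2 lc_b_rc_1_3 lc_b_rc_12_2 lc_b_rc_1_3 lc_b_rc_11_2 lc_b_rc_1_3 lc_b_rc_1_3 lc_b_rc_1_3 lc_b_rc_1_3 lc_b_rc_13_2 lc_b_rc_12_2 lc_b_rc_15_2 lc_b_rc_1_3 lc_b_rc_12_2) (@D3.rec (fun _ => (Cert rels S Gen.b)) lc_b_rc_15_2 lc_b_rc_1_3 lc_b_rc_1_3 lc_b_rc_13_2 lc_b_rc_12_2 lc_b_rc_15_2 lc_b_rc_1_3 lc_b_rc_12_2 lc_b_rc_15_2 lc_b_rc_1_3 lc_b_rc_15_2 lc_b_rc_1_3 lc_b_rc_1_3 lc_b_rc_1_3 lc_b_rc_1_3 lc_b_rc_12_2 lc_b_rc_13_2 lc_b_rc_12_2 lc_b_rc_1_3 lc_b_rc_11_2 lc_b_rc_1_3 lc_b_rc_1_3 lc_b_rc_12_2 lc_b_rc_11_2 lc_b_rc_12_2 lc_b_rc_56_29 lc_b_rc_11_2 lc_b_rc_1_3 lc_b_rc_1_3 lc_b_rc_12_2 lc_b_rc_13_2 lc_b_rc_12_2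 lc_b_rc_1_3 lc_b_rc_11_2 lc_b_rc_1_3 lc_b_rc_11_2 lc_b_rc_1_3 lc_b_rc_1_3 lc_b_rc_10_1 lc_b_rc_1_3 lc_b_rc_1_3 lc_b_rc_12_2 lc_b_rc_1_3 lc_b_rc_11_2 lc_b_rc_12_0 lc_b_rc_1_3 lc_b_rc_12_2 lc_b_rc_14_2 lc_b_rc_1_3 lc_b_rc_14_2 lc_b_rc_18_2) (@D3.rec (fun _ => (Cert rels S Gen.b)) lc_b_rc_1_3 lc_b_rc_13_2 lc_b_rc_12_2 lc_b_rc_1_3 lc_b_rc_12_2 lc_b_rc_13_2 lc_b_rc_12_2 lc_b_rc_1_3 lc_b_rc_11_2 lc_b_rc_1_3 lc_b_rc_1_3 lc_b_rc_11_2 lc_b_rc_56_15 lc_b_rc_11_2 lc_b_Cert_tree lc_b_rc_1_3 lc_b_rc_11_2 lc_b_rc_1_3 lc_b_rc_10_1 lc_b_rc_1_3 lc_b_rc_18_2 lc_b_rc_1_3 lc_b_rc_1_3 lc_b_rc_1_3 lc_b_rc_14_2 lc_b_rc_18_2 lc_b_rc_1_3 lc_b_rc_1_3 lc_b_rc_18_2 lc_b_rc_1_3 lc_b_rc_13_2 lc_b_rc_12_2 lc_b_rc_11_4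 lc_b_rc_13_2 lc_b_rc_12_2 lc_b_rc_15_2 lc_b_rc_16_2 lc_b_rc_11_0 lc_b_rc_16_2 lc_b_rc_13_2 lc_b_rc_12_2 lc_b_rc_15_2 lc_b_rc_13_2 lc_b_rc_1_3 lc_b_rc_13_2 lc_b_rc_12_2 lc_b_rc_15_2 lc_b_rc_13_2 lc_b_rc_16_2 lc_b_rc_15_2 lc_b_rc_16_2) (@D3.rec (fun _ => (Cert rels S Gen.b)) lc_b_rc_1_3 lc_b_rc_12_2 lc_b_rc_14_2 lc_b_rc_1_3 lc_b_rc_13_2 lc_b_rc_12_2 lc_b_rc_15_2 lc_b_rc_14_2 lc_b_rc_1_3 lc_b_rc_15_2 lc_b_rc_16_2 lc_b_rc_1_3 lc_b_rc_13_2 lc_b_rc_12_2 lc_b_rc_15_2 lc_b_rc_1_3 lc_b_rc_12_2 lc_b_rc_14_2 lc_b_rc_1_3 lc_b_rc_13_2 lc_b_rc_12_2 lc_b_rc_15_2 lc_b_rc_1_3 lc_b_rc_12_2 lc_b_rc_15_2 lc_b_rc_12_2 lc_b_rc_1_3 lc_b_rc_1_3 lc_b_rc_14_2 lc_b_rc_18_2 lc_b_rc_14_2 lc_b_rc_1_3 lc_b_rc_12_2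 lc_b_rc_15_2 lc_b_rc_16_2 lc_b_rc_1_3 lc_b_rc_16_2 lc_b_rc_1_3 lc_b_rc_12_2 lc_b_rc_15_2 lc_b_rc_1_3 lc_b_rc_1_3 lc_b_rc_13_2 lc_b_rc_1_3 lc_b_rc_1_3 lc_b_rc_13_2 lc_b_rc_12_2 lc_b_rc_15_2 lc_b_rc_1_3 lc_b_rc_12_2 lc_b_rc_15_2) (@D3.rec (fun _ => (Cert rels S Gen.b)) lc_b_rc_12_2 lc_b_rc_14_2 lc_b_rc_1_3 lc_b_rc_15_2 lc_b_rc_16_2 lc_b_rc_1_3 lc_b_rc_16_2 lc_b_rc_1_3 lc_b_rc_1_3 lc_b_rc_14_2 lc_b_rc_18_2 lc_b_rc_1_3 lc_b_rc_1_3 lc_b_rc_18_2 lc_b_rc_12_2 lc_b_rc_1_3 lc_b_rc_13_2 lc_b_rc_12_2 lc_b_rc_1_3 lc_b_rc_1_3 lc_b_rc_12_2 lc_b_rc_1_3 lc_b_rc_12_2 lc_b_rc_1_3 lc_b_rc_12_2 lc_b_rc_1_3 lc_b_rc_12_2 lc_b_rc_14_2 lc_b_rc_1_3 lc_b_rc_12_0 lc_b_rc_13_2 lc_b_rc_15_2 lc_b_rc_1_3 lc_b_rc_13_2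 lc_b_rc_12_2 lc_b_rc_15_2 lc_b_rc_11_0 lc_b_rc_1_3 lc_b_rc_13_2 lc_b_rc_12_2 lc_b_rc_15_2 lc_b_rc_18_2 lc_b_rc_1_3 lc_b_rc_15_2 lc_b_rc_16_2 lc_b_rc_14_2 lc_b_rc_13_2 lc_b_rc_12_2 lc_b_rc_15_2 lc_b_rc_13_2 lc_b_rc_12_2) (@D3.rec (fun _ => (Cert rels S Gen.b)) lc_b_rc_14_2 lc_b_rc_1_3 lc_b_rc_13_2 lc_b_rc_1_3 lc_b_rc_12_2 lc_b_rc_15_2 lc_b_rc_14_2 lc_b_rc_1_3 lc_b_rc_12_2 lc_b_rc_15_2 lc_b_rc_12_2 lc_b_rc_1_3 lc_b_rc_12_2 lc_b_rc_15_2 lc_b_rc_12_2 lc_b_rc_14_2 lc_b_rc_1_3 lc_b_rc_16_2 lc_b_rc_1_3 lc_b_rc_11_2 lc_b_rc_14_2 lc_b_rc_18_2 lc_b_rc_12_0 lc_b_rc_13_2 lc_b_rc_12_2 lc_b_rc_15_2 lc_b_rc_13_2 lc_b_rc_12_2 lc_b_rc_14_2 lc_b_rc_1_3 lc_b_rc_13_2 lc_b_rc_12_2 lc_b_rc_11_2 lc_b_rc_11_0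 lc_b_rc_15_2 lc_b_rc_1_3 lc_b_rc_14_2 lc_b_rc_1_3 lc_b_rc_12_2 lc_b_rc_1_3 lc_b_rc_12_2 lc_b_rc_1_3 lc_b_rc_1_3 lc_b_rc_11_2 lc_b_rc_12_2 lc_b_rc_13_2 lc_b_rc_1_3 lc_b_rc_1_3 lc_b_rc_18_2 lc_b_rc_15_2 lc_b_rc_13_2) (@D3.rec (fun _ => (Cert rels S Gen.b)) lc_b_rc_12_2 lc_b_rc_13_2 lc_b_rc_12_2 lc_b_rc_15_2 lc_b_rc_12_2 lc_b_rc_14_2 lc_b_rc_1_3 lc_b_rc_11_2 lc_b_rc_14_2 lc_b_rc_18_2 lc_b_rc_1_3 lc_b_rc_13_2 lc_b_rc_1_3 lc_b_rc_12_0 lc_b_rc_1_3 lc_b_rc_1_3 lc_b_rc_1_3 lc_b_rc_15_2 lc_b_rc_1_3 lc_b_rc_1_3 lc_b_rc_1_3 lc_b_rc_1_3 lc_b_rc_13_2 lc_b_rc_12_2 lc_b_rc_15_2 lc_b_rc_1_3 lc_b_rc_13_2 lc_b_rc_12_2 lc_b_rc_15_2 lc_b_rc_1_3 lc_b_rc_15_2 lc_b_rc_13_2 lc_b_rc_12_2 lc_b_rc_12_0 lc_b_rc_13_2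 lc_b_rc_12_2 lc_b_rc_15_2 lc_b_rc_12_2 lc_b_rc_12_0 lc_b_rc_1_3 lc_b_rc_18_2 lc_b_rc_14_2 lc_b_rc_55_83 lc_b_rc_1_3 lc_b_rc_13_2 lc_b_rc_12_2 lc_b_rc_15_2 lc_b_rc_13_2 lc_b_rc_1_3 lc_b_rc_13_2 lc_b_rc_12_2) (@D3.rec (fun _ => (Cert rels S Gen.b)) lc_b_rc_15_2 lc_b_rc_1_3 lc_b_rc_1_3 lc_b_rc_15_2 lc_b_rc_16_2 lc_b_rc_1_3 lc_b_rc_12_2 lc_b_rc_14_2 lc_b_rc_56_36 lc_b_rc_1_3 lc_b_rc_12_2 lc_b_rc_15_2 lc_b_rc_12_2 lc_b_rc_1_3 lc_b_rc_1_3 lc_b_rc_14_2 lc_b_rc_18_2 lc_b_rc_1_3 lc_b_rc_1_3 lc_b_rc_1_3 lc_b_rc_1_3 lc_b_rc_14_2 lc_b_rc_18_2 lc_b_rc_1_3 lc_b_rc_18_2 lc_b_rc_18_0 lc_b_rc_13_0 lc_b_rc_13_2 lc_b_rc_12_2 lc_b_rc_14_2 lc_b_rc_12_2 lc_b_rc_11_4 lc_b_rc_12_2 lc_b_rc_15_2 lc_b_rc_12_2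 lc_b_rc_14_2 lc_b_rc_16_2 lc_b_rc_10_0 lc_b_rc_1_3 lc_b_rc_12_2 lc_b_rc_15_2 lc_b_rc_12_2 lc_b_rc_16_2 lc_b_rc_1_3 lc_b_rc_12_2 lc_b_rc_15_2 lc_b_rc_12_2 lc_b_rc_14_2 lc_b_rc_16_2 lc_b_rc_1_3 lc_b_rc_16_2) (@D3.rec (fun _ => (Cert rels S Gen.b)) lc_b_rc_17_2 lc_b_rc_1_3 lc_b_rc_11_2 lc_b_rc_14_2 lc_b_rc_18_2 lc_b_rc_17_2 lc_b_rc_13_2 lc_b_rc_15_0 lc_b_rc_12_2 lc_b_rc_1_3 lc_b_rc_12_2 lc_b_rc_15_2 lc_b_rc_1_3 lc_b_rc_14_2 lc_b_rc_12_2 lc_b_rc_15_2 lc_b_rc_12_2 lc_b_rc_1_3 lc_b_rc_1_3 lc_b_rc_11_2 lc_b_rc_12_2 lc_b_rc_13_2 lc_b_rc_1_3 lc_b_rc_18_2 lc_b_rc_16_2 lc_b_rc_13_2 lc_b_rc_17_2 lc_b_rc_12_2 lc_b_rc_13_2 lc_b_rc_1_3 lc_b_rc_12_2 lc_b_rc_15_2 lc_b_rc_1_3 lc_b_rc_15_2 lc_b_rc_1_3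 lc_b_rc_1_3 lc_b_rc_13_2 lc_b_rc_12_2 lc_b_rc_15_2 lc_b_rc_12_2 lc_b_rc_14_2 lc_b_rc_18_0 lc_b_rc_13_2 lc_b_rc_11_2 lc_b_rc_12_2 lc_b_rc_14_2 lc_b_rc_13_2 lc_b_rc_18_2 lc_b_rc_1_3 lc_b_rc_13_0 lc_b_rc_12_2) (@D3.rec (fun _ => (Cert rels S Gen.b)) lc_b_rc_16_2 lc_b_rc_13_0 lc_b_rc_1_3 lc_b_rc_13_2 lc_b_rc_12_2 lc_b_rc_13_2 lc_b_rc_1_3 lc_b_rc_18_2 lc_b_rc_1_3 lc_b_rc_1_3 lc_b_rc_12_2 lc_b_rc_1_3 lc_b_rc_1_3 lc_b_rc_11_2 lc_b_rc_1_3 lc_b_rc_12_2 lc_b_rc_1_3 lc_b_rc_11_2 lc_b_rc_1_3 lc_b_rc_1_3 lc_b_rc_11_2 lc_b_rc_1_3 lc_b_rc_12_2 lc_b_rc_14_2 lc_b_rc_1_3 lc_b_rc_12_2 lc_b_rc_15_2 lc_b_rc_12_2 lc_b_rc_14_2 lc_b_rc_16_2 lc_b_rc_1_3 lc_b_rc_16_2 lc_b_rc_1_3 lc_b_rc_11_2 lc_b_rc_14_2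 lc_b_rc_1_3 lc_b_rc_12_2 lc_b_rc_1_3 lc_b_rc_12_2 lc_b_rc_15_2 lc_b_rc_14_2 lc_b_rc_1_3 lc_b_rc_14_2 lc_b_rc_1_3 lc_b_rc_1_3 lc_b_rc_12_2 lc_b_rc_1_3 lc_b_rc_11_2 lc_b_rc_1_3 lc_b_rc_12_2 lc_b_rc_1_3) (@D3.rec (fun _ => (Cert rels S Gen.b)) lc_b_rc_12_2 lc_b_rc_1_3 lc_b_rc_1_3 lc_b_rc_1_3 lc_b_rc_1_3 lc_b_rc_12_2 lc_b_rc_14_2 lc_b_rc_1_3 lc_b_rc_11_2 lc_b_rc_14_2 lc_b_rc_1_3 lc_b_rc_1_3 lc_b_rc_1_3 lc_b_rc_12_2 lc_b_rc_14_2 lc_b_rc_12_2 lc_b_rc_14_2 lc_b_rc_1_3 lc_b_rc_11_2 lc_b_rc_14_2 lc_b_rc_18_2 lc_b_rc_1_3 lc_b_rc_12_2 lc_b_rc_15_2 lc_b_rc_12_2 lc_b_rc_14_2 lc_b_rc_11_4 lc_b_rc_12_2 lc_b_rc_15_2 lc_b_rc_1_3 lc_b_rc_1_3 lc_b_rc_12_2 lc_b_rc_14_2 lc_b_rc_13_2 lc_b_rc_13_2 lc_b_rc_1_3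 lc_b_rc_12_2 lc_b_rc_15_2 lc_b_rc_12_2 lc_b_rc_14_2 lc_b_rc_16_2 lc_b_rc_1_3 lc_b_rc_1_3 lc_b_rc_11_2 lc_b_rc_12_2 lc_b_rc_14_2 lc_b_rc_16_2 lc_b_rc_1_3 lc_b_rc_1_3 lc_b_rc_11_2 lc_b_rc_14_2)
def ce_b_22 : D2 → D3 → (Cert rels S Gen.b) := @D2.rec (fun _ => D3 → (Cert rels S Gen.b)) (@D3.rec (fun _ => (Cert rels S Gen.b)) lc_b_rc_18_2 lc_b_Cert_tree lc_b_rc_1_3 lc_b_rc_11_2 lc_b_rc_18_2 lc_b_rc_18_2 lc_b_rc_12_2 lc_b_rc_1_3 lc_b_rc_11_2 lc_b_rc_14_2 lc_b_rc_1_3 lc_b_rc_12_2 lc_b_rc_1_3 lc_b_rc_1_3 lc_b_rc_11_2 lc_b_rc_14_2 lc_b_rc_18_2 lc_b_rc_1_3 lc_b_rc_1_3 lc_b_rc_18_2 lc_b_rc_1_3 lc_b_rc_14_2 lc_b_rc_1_3 lc_b_rc_18_2 lc_b_rc_1_3 lc_b_rc_1_3 lc_b_rc_12_2 lc_b_rc_11_2 lc_b_rc_12_2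 lc_b_rc_11_4 lc_b_rc_12_2 lc_b_rc_1_3 lc_b_rc_1_3 lc_b_rc_11_2 lc_b_rc_56_36 lc_b_rc_11_2 lc_b_Cert_tree lc_b_rc_1_3 lc_b_rc_11_2 lc_b_rc_11_4 lc_b_rc_12_2 lc_b_rc_1_3 lc_b_rc_11_2 lc_b_rc_14_2 lc_b_rc_18_2 lc_b_rc_12_0 lc_b_rc_15_2 lc_b_rc_1_3 lc_b_rc_14_0 lc_b_rc_12_2 lc_b_rc_14_2) (@D3.rec (fun _ => (Cert rels S Gen.b)) lc_b_rc_14_2 lc_b_rc_18_2 lc_b_rc_15_2 lc_b_rc_18_2 lc_b_rc_1_3 lc_b_Cert_tree lc_b_rc_13_0 lc_b_rc_18_2 lc_b_rc_10_0 lc_b_rc_14_2 lc_b_rc_13_0 lc_b_rc_1_3 lc_b_rc_11_2 lc_b_rc_1_3 lc_b_rc_12_2 lc_b_rc_15_2 lc_b_rc_1_3 lc_b_rc_12_2 lc_b_rc_15_2 lc_b_rc_12_2 lc_b_rc_14_2 lc_b_rc_1_3 lc_b_rc_1_3 lc_b_rc_11_2 lc_b_rc_12_2 lc_b_rc_1_3 lc_b_rc_11_2 lc_b_rc_14_2 lc_b_rc_18_2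 lc_b_Cert_tree lc_b_rc_1_3 lc_b_rc_1_3 lc_b_rc_11_2 lc_b_rc_11_2 lc_b_rc_13_2 lc_b_rc_18_2 lc_b_rc_14_2 lc_b_rc_1_3 lc_b_rc_1_3 lc_b_rc_1_3 lc_b_rc_14_2 lc_b_rc_12_2 lc_b_rc_13_2 lc_b_rc_10_0 lc_b_rc_14_2 lc_b_rc_12_2 lc_b_rc_13_2 lc_b_rc_11_2 lc_b_rc_1_3 lc_b_rc_11_2 lc_b_rc_1_3) (@D3.rec (fun _ => (Cert rels S Gen.b)) lc_b_rc_1_3 lc_b_rc_1_3 lc_b_rc_11_2 lc_b_rc_14_2 lc_b_rc_18_2 lc_b_rc_56_50 lc_b_rc_1_3 lc_b_rc_12_2 lc_b_rc_1_3 lc_b_rc_16_2 lc_b_rc_1_3 lc_b_rc_11_2 lc_b_rc_1_3 lc_b_rc_1_3 lc_b_rc_11_2 lc_b_rc_12_2 lc_b_rc_1_3 lc_b_rc_11_2 lc_b_rc_16_2 lc_b_rc_12_2 lc_b_rc_15_2 lc_b_rc_15_2 lc_b_rc_1_3 lc_b_rc_12_2 lc_b_rc_1_3 lc_b_rc_12_2 lc_b_rc_12_2 lc_b_rc_11_2 lc_b_rc_1_3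 lc_b_rc_11_2 lc_b_rc_1_3 lc_b_rc_11_2 lc_b_Cert_tree lc_b_rc_56_36 lc_b_rc_56_29 lc_b_rc_11_2 lc_b_Cert_tree lc_b_rc_1_3 lc_b_rc_11_2 lc_b_rc_18_2 lc_b_rc_1_3 lc_b_rc_12_2 lc_b_rc_1_3 lc_b_rc_11_2 lc_b_rc_1_3 lc_b_rc_16_2 lc_b_rc_1_3 lc_b_rc_12_2 lc_b_rc_11_2 lc_b_rc_1_3 lc_b_rc_11_2) (@D3.rec (fun _ => (Cert rels S Gen.b)) lc_b_rc_1_3 lc_b_rc_11_2 lc_b_Cert_tree lc_b_rc_1_3 lc_b_rc_12_2 lc_b_rc_15_2 lc_b_rc_1_3 lc_b_rc_1_3 lc_b_rc_11_2 lc_b_rc_1_3 lc_b_rc_12_2 lc_b_rc_15_2 lc_b_rc_1_3 lc_b_rc_1_3 lc_b_rc_11_2 lc_b_rc_1_3 lc_b_rc_1_3 lc_b_rc_11_2 lc_b_rc_16_0 lc_b_rc_11_2 lc_b_Cert_tree lc_b_rc_12_2 lc_b_rc_11_2 lc_b_rc_56_29 lc_b_rc_11_2 lc_b_Cert_tree lc_b_rc_1_3 lc_b_rc_11_2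 lc_b_rc_15_0 lc_b_rc_11_2 lc_b_Cert_tree lc_b_Cert_tree lc_b_rc_18_2 lc_b_rc_11_2 lc_b_Cert_tree lc_b_rc_1_3 lc_b_rc_11_2 lc_b_rc_14_2 lc_b_rc_18_2 lc_b_rc_1_3 lc_b_rc_18_2 lc_b_rc_1_3 lc_b_rc_12_2 lc_b_rc_1_3 lc_b_rc_11_2 lc_b_rc_13_0 lc_b_rc_11_2 lc_b_Cert_tree lc_b_Cert_tree lc_b_Cert_tree lc_b_rc_10_0) (@D3.rec (fun _ => (Cert rels S Gen.b)) lc_b_rc_14_2 lc_b_rc_12_2 lc_b_rc_1_3 lc_b_rc_1_3 lc_b_rc_18_2 lc_b_rc_1_3 lc_b_rc_13_2 lc_b_rc_12_2 lc_b_rc_14_2 lc_b_rc_12_0 lc_b_rc_12_2 lc_b_rc_15_2 lc_b_rc_12_2 lc_b_rc_16_2 lc_b_rc_16_2 lc_b_rc_12_2 lc_b_rc_15_2 lc_b_rc_12_2 lc_b_rc_16_2 lc_b_rc_1_3 lc_b_rc_12_2 lc_b_rc_15_2 lc_b_rc_12_2 lc_b_rc_14_2 lc_b_rc_16_2 lc_b_rc_15_2 lc_b_rc_16_2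 lc_b_rc_1_3 lc_b_rc_11_2 lc_b_rc_14_2 lc_b_rc_18_2 lc_b_rc_11_2 lc_b_rc_12_2 lc_b_rc_15_2 lc_b_rc_16_2 lc_b_rc_11_4 lc_b_rc_16_2 lc_b_rc_1_3 lc_b_rc_12_2 lc_b_rc_15_2 lc_b_rc_14_2 lc_b_rc_1_3 lc_b_rc_14_2 lc_b_rc_1_3 lc_b_rc_12_2 lc_b_rc_15_2 lc_b_rc_12_2 lc_b_rc_1_3 lc_b_rc_1_3 lc_b_rc_11_2 lc_b_rc_12_2) (@D3.rec (fun _ => (Cert rels S Gen.b)) lc_b_rc_13_2 lc_b_rc_1_3 lc_b_rc_18_2 lc_b_rc_1_3 lc_b_rc_1_3 lc_b_rc_16_2 lc_b_rc_12_2 lc_b_rc_1_3 lc_b_rc_1_3 lc_b_rc_1_3 lc_b_rc_1_3 lc_b_rc_12_2 lc_b_rc_15_2 lc_b_rc_12_2 lc_b_rc_14_2 lc_b_rc_1_3 lc_b_rc_1_3 lc_b_rc_11_2 lc_b_rc_12_2 lc_b_rc_14_2 lc_b_rc_18_2 lc_b_rc_1_3 lc_b_rc_16_2 lc_b_rc_1_3 lc_b_rc_1_3 lc_b_rc_18_2 lc_b_rc_1_3 lc_b_rc_13_2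 lc_b_rc_12_2 lc_b_rc_1_3 lc_b_rc_11_2 lc_b_rc_1_3 lc_b_rc_11_2 lc_b_rc_1_3 lc_b_rc_11_2 lc_b_rc_1_3 lc_b_rc_11_2 lc_b_rc_14_2 lc_b_rc_18_2 lc_b_rc_13_2 lc_b_rc_15_2 lc_b_rc_1_3 lc_b_rc_12_2 lc_b_rc_15_2 lc_b_rc_12_2 lc_b_rc_16_2 lc_b_rc_1_3 lc_b_rc_12_2 lc_b_rc_15_2 lc_b_rc_12_2 lc_b_rc_16_2) (@D3.rec (fun _ => (Cert rels S Gen.b)) lc_b_rc_1_3 lc_b_rc_16_2 lc_b_rc_14_2 lc_b_rc_12_2 lc_b_rc_15_2 lc_b_rc_12_2 lc_b_rc_18_2 lc_b_rc_11_2 lc_b_rc_14_2 lc_b_rc_1_3 lc_b_rc_11_2 lc_b_rc_1_3 lc_b_rc_14_2 lc_b_rc_1_3 lc_b_rc_1_3 lc_b_rc_11_2 lc_b_rc_12_2 lc_b_rc_13_2 lc_b_rc_1_3 lc_b_rc_1_3 lc_b_rc_11_2 lc_b_rc_12_2 lc_b_rc_14_2 lc_b_rc_14_2 lc_b_rc_14_0 lc_b_Cert_tree lc_b_rc_1_3 lc_b_rc_11_2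 lc_b_rc_18_2 lc_b_rc_16_2 lc_b_rc_12_2 lc_b_rc_15_2 lc_b_rc_12_2 lc_b_rc_14_2 lc_b_rc_56_36 lc_b_rc_11_2 lc_b_rc_14_2 lc_b_rc_18_2 lc_b_rc_14_0 lc_b_rc_11_2 lc_b_rc_15_2 lc_b_rc_1_3 lc_b_rc_1_3 lc_b_rc_11_2 lc_b_rc_1_3 lc_b_rc_11_2 lc_b_Cert_tree lc_b_rc_1_3 lc_b_rc_11_2 lc_b_rc_13_2 lc_b_rc_55_20) (@D3.rec (fun _ => (Cert rels S Gen.b)) lc_b_rc_17_2 lc_b_rc_12_2 lc_b_rc_15_0 lc_b_rc_11_4 lc_b_rc_11_2 lc_b_rc_12_2 lc_b_rc_14_2 lc_b_Cert_tree lc_b_rc_1_3 lc_b_rc_11_2 lc_b_rc_18_2 lc_b_rc_1_3 lc_b_rc_12_2 lc_b_rc_15_2 lc_b_rc_1_3 lc_b_rc_12_2 lc_b_rc_15_2 lc_b_rc_1_3 lc_b_rc_12_2 lc_b_rc_11_2 lc_b_rc_56_29 lc_b_rc_14_2 lc_b_rc_11_2 lc_b_rc_12_2 lc_b_rc_1_3 lc_b_rc_12_2 lc_b_rc_15_2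 lc_b_rc_16_2 lc_b_rc_1_3 lc_b_rc_12_2 lc_b_rc_15_2 lc_b_rc_12_2 lc_b_rc_14_2 lc_b_rc_16_2 lc_b_rc_1_3 lc_b_rc_16_2 lc_b_rc_1_3 lc_b_rc_11_2 lc_b_rc_14_2 lc_b_rc_1_3 lc_b_rc_1_3 lc_b_rc_11_2 lc_b_rc_12_2 lc_b_rc_13_2 lc_b_rc_1_3 lc_b_rc_18_2 lc_b_rc_1_3 lc_b_rc_18_2 lc_b_rc_1_3 lc_b_rc_11_2 lc_b_rc_12_2) (@D3.rec (fun _ => (Cert rels S Gen.b)) lc_b_rc_14_0 lc_b_rc_11_2 lc_b_rc_11_2 lc_b_rc_11_4 lc_b_rc_12_2 lc_b_rc_14_2 lc_b_rc_16_2 lc_b_rc_1_3 lc_b_rc_1_3 lc_b_rc_11_2 lc_b_rc_12_2 lc_b_rc_16_2 lc_b_rc_13_2 lc_b_rc_12_2 lc_b_rc_1_3 lc_b_rc_1_3 lc_b_rc_11_2 lc_b_rc_12_2 lc_b_rc_14_2 lc_b_rc_16_2 lc_b_rc_12_2 lc_b_rc_14_2 lc_b_rc_1_3 lc_b_rc_17_2 lc_b_Cert_tree lc_b_rc_1_3 lc_b_rc_11_2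 lc_b_rc_18_2 lc_b_rc_56_29 lc_b_rc_1_3 lc_b_rc_11_2 lc_b_rc_1_3 lc_b_rc_1_3 lc_b_rc_11_2 lc_b_rc_56_36 lc_b_rc_15_2 lc_b_rc_11_2 lc_b_rc_12_2 lc_b_rc_13_2 lc_b_Cert_tree lc_b_rc_1_3 lc_b_rc_11_2 lc_b_rc_13_2 lc_b_rc_1_3 lc_b_rc_14_2 lc_b_rc_17_2 lc_b_rc_11_2 lc_b_rc_1_3 lc_b_rc_1_3 lc_b_rc_11_2 lc_b_rc_1_3) (@D3.rec (fun _ => (Cert rels S Gen.b)) lc_b_rc_18_2 lc_b_rc_18_2 lc_b_rc_11_2 lc_b_rc_12_2 lc_b_rc_14_2 lc_b_rc_14_2 lc_b_Cert_tree lc_b_rc_12_2 lc_b_rc_56_29 lc_b_rc_11_2 lc_b_rc_11_2 lc_b_rc_13_2 lc_b_rc_18_2 lc_b_rc_13_0 lc_b_rc_15_2 lc_b_rc_15_0 lc_b_rc_13_0 lc_b_rc_13_2 lc_b_rc_1_3 lc_b_rc_1_3 lc_b_rc_11_2 lc_b_Cert_tree lc_b_rc_12_2 lc_b_rc_11_2 lc_b_Cert_tree lc_b_Cert_tree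 lc_b_rc_1_3 lc_b_rc_11_2 lc_b_rc_14_2 lc_b_rc_1_3 lc_b_rc_1_3 lc_b_rc_11_2 lc_b_rc_12_2 lc_b_rc_14_2 lc_b_rc_16_2 lc_b_rc_1_3 lc_b_Cert_tree lc_b_rc_1_3 lc_b_rc_11_2 lc_b_rc_1_3 lc_b_rc_11_2 lc_b_rc_1_3 lc_b_rc_1_3 lc_b_rc_14_2 lc_b_rc_1_3 lc_b_rc_1_3 lc_b_rc_11_2 lc_b_Cert_tree lc_b_rc_1_3 lc_b_rc_11_2 lc_b_rc_1_3) (@D3.rec (fun _ => (Cert rels S Gen.b)) lc_b_rc_1_3 lc_b_rc_11_2 lc_b_rc_14_2 lc_b_Cert_tree lc_b_rc_1_3 lc_b_rc_11_2 lc_b_rc_12_2 lc_b_rc_11_2 lc_b_rc_13_2 lc_b_rc_11_2 lc_b_rc_14_2 lc_b_Cert_tree lc_b_rc_1_3 lc_b_rc_11_2 lc_b_rc_18_2 lc_b_rc_1_3 lc_b_rc_1_3 lc_b_rc_12_2 lc_b_rc_14_2 lc_b_rc_12_2 lc_b_rc_12_0 lc_b_rc_12_2 lc_b_rc_1_3 lc_b_rc_1_3 lc_b_rc_13_2 lc_b_rc_1_3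 lc_b_rc_1_3 lc_b_rc_11_2 lc_b_rc_12_2 lc_b_rc_14_2 lc_b_rc_16_2 lc_b_Cert_tree lc_b_rc_1_3 lc_b_rc_1_3 lc_b_rc_1_3 lc_b_rc_11_2 lc_b_rc_11_2 lc_b_Cert_tree lc_b_rc_1_3 lc_b_rc_11_2 lc_b_rc_18_2 lc_b_rc_10_0 lc_b_rc_14_2 lc_b_rc_1_3 lc_b_rc_11_2 lc_b_rc_11_2 lc_b_rc_56_36 lc_b_rc_11_2 lc_b_Cert_tree lc_b_rc_12_2 lc_b_rc_11_2) (@D3.rec (fun _ => (Cert rels S Gen.b)) lc_b_rc_1_3 lc_b_rc_10_1 lc_b_rc_1_3 lc_b_rc_18_2 lc_b_rc_1_3 lc_b_rc_1_3 lc_b_rc_1_3 lc_b_rc_1_3 lc_b_rc_1_3 lc_b_rc_12_2 lc_b_rc_56_36 lc_b_rc_11_2 lc_b_Cert_tree lc_b_Cert_tree lc_b_rc_10_0 lc_b_rc_14_2 lc_b_rc_12_2 lc_b_rc_11_2 lc_b_Cert_tree lc_b_rc_12_2 lc_b_rc_11_2 lc_b_rc_18_2 lc_b_rc_15_2 lc_b_rc_15_2 lc_b_rc_16_2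 lc_b_rc_14_2 lc_b_rc_18_2 lc_b_rc_1_3 lc_b_rc_10_0 lc_b_rc_17_2 lc_b_rc_14_2 lc_b_Cert_tree lc_b_rc_56_15 lc_b_rc_14_2 lc_b_rc_11_2 lc_b_rc_1_3 lc_b_rc_1_3 lc_b_rc_11_2 lc_b_rc_12_2 lc_b_rc_14_2 lc_b_Cert_tree lc_b_rc_1_3 lc_b_rc_11_2 lc_b_Cert_tree lc_b_rc_1_3 lc_b_rc_11_2 lc_b_rc_18_2 lc_b_rc_10_0 lc_b_rc_15_2 lc_b_rc_14_2 lc_b_rc_12_2) (@D3.rec (fun _ => (Cert rels S Gen.b)) lc_b_rc_1_3 lc_b_rc_11_2 lc_b_rc_11_2 lc_b_rc_12_2 lc_b_rc_1_3 lc_b_Cert_tree lc_b_Cert_tree lc_b_Cert_tree lc_b_rc_1_3 lc_b_rc_11_2 lc_b_rc_18_2 lc_b_rc_1_3 lc_b_rc_11_2 lc_b_rc_1_3 lc_b_Cert_tree lc_b_Cert_tree lc_b_rc_12_2 lc_b_rc_15_2 lc_b_rc_11_2 lc_b_rc_1_3 lc_b_rc_11_2 lc_b_rc_1_3 lc_b_rc_11_2 lc_b_Cert_tree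 lc_b_Cert_tree lc_b_Cert_tree lc_b_rc_10_0 lc_b_Cert_tree lc_b_rc_10_0 lc_b_rc_14_2 lc_b_rc_1_3 lc_b_rc_11_2 lc_b_rc_1_3 lc_b_rc_11_2 lc_b_Cert_tree lc_b_rc_1_3 lc_b_Cert_tree lc_b_Cert_tree lc_b_Cert_tree lc_b_rc_10_0 lc_b_rc_12_2 lc_b_rc_1_3 lc_b_rc_11_2 lc_b_Cert_tree lc_b_rc_12_2 lc_b_rc_1_3 lc_b_rc_11_2 lc_b_Cert_tree lc_b_Cert_tree lc_b_Cert_tree lc_b_rc_10_0) (@D3.rec (fun _ => (Cert rels S Gen.b)) lc_b_Cert_tree lc_b_Cert_tree lc_b_rc_10_0 lc_b_Cert_tree lc_b_Cert_tree lc_b_rc_10_0 lc_b_rc_10_0 lc_b_Cert_tree lc_b_rc_10_0 lc_b_Cert_tree lc_b_rc_1_3 lc_b_rc_11_2 lc_b_rc_18_2 lc_b_rc_1_3 lc_b_rc_1_3 lc_b_rc_11_2 lc_b_Cert_tree lc_b_Cert_tree lc_b_rc_10_0 lc_b_rc_10_0 lc_b_rc_10_0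 lc_b_rc_14_2 lc_b_rc_12_2 lc_b_rc_1_3 lc_b_rc_56_29 lc_b_rc_11_2 lc_b_rc_14_2 lc_b_rc_56_36 lc_b_rc_12_0 lc_b_rc_12_2 lc_b_rc_16_2 lc_b_rc_12_2 lc_b_rc_15_2 lc_b_rc_11_2 lc_b_rc_12_2 lc_b_rc_16_2 lc_b_rc_13_2 lc_b_rc_12_2 lc_b_rc_1_3 lc_b_rc_1_3 lc_b_rc_11_2 lc_b_rc_12_2 lc_b_rc_14_2 lc_b_rc_16_2 lc_b_rc_12_2 lc_b_rc_14_2 lc_b_rc_13_0 lc_b_Cert_tree lc_b_rc_1_3 lc_b_rc_11_2 lc_b_rc_18_2) (@D3.rec (fun _ => (Cert rels S Gen.b)) lc_b_rc_12_2 lc_b_rc_12_0 lc_b_rc_11_2 lc_b_rc_16_2 lc_b_rc_11_0 lc_b_rc_1_3 lc_b_rc_15_2 lc_b_rc_14_2 lc_b_rc_1_3 lc_b_rc_1_3 lc_b_rc_1_3 lc_b_rc_11_2 lc_b_rc_12_2 lc_b_rc_13_2 lc_b_Cert_tree lc_b_rc_1_3 lc_b_rc_11_2 lc_b_rc_13_2 lc_b_rc_1_3 lc_b_rc_11_0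 lc_b_rc_1_3 lc_b_rc_1_3 lc_b_rc_11_2 lc_b_rc_12_2 lc_b_rc_14_2 lc_b_rc_14_2 lc_b_Cert_tree lc_b_rc_1_3 lc_b_rc_1_3 lc_b_rc_11_2 lc_b_rc_11_2 lc_b_rc_18_2 lc_b_rc_1_3 lc_b_rc_1_3 lc_b_rc_56_36 lc_b_rc_11_2 lc_b_Cert_tree lc_b_Cert_tree lc_b_Cert_tree lc_b_Cert_tree lc_b_rc_1_3 lc_b_rc_11_2 lc_b_rc_18_2 lc_b_rc_11_4 lc_b_rc_1_3 lc_b_rc_1_3 lc_b_rc_11_2 lc_b_rc_12_2 lc_b_rc_16_2 lc_b_rc_1_3 lc_b_rc_1_3) (@D3.rec (fun _ => (Cert rels S Gen.b)) lc_b_rc_11_2 lc_b_rc_12_2 lc_b_rc_16_2 lc_b_rc_1_3 lc_b_rc_15_0 lc_b_rc_11_0 lc_b_rc_11_2 lc_b_rc_12_2 lc_b_Cert_tree lc_b_rc_1_3 lc_b_rc_11_2 lc_b_rc_14_2 lc_b_Cert_tree lc_b_rc_1_3 lc_b_rc_11_2 lc_b_rc_13_2 lc_b_Cert_tree lc_b_rc_1_3 lc_b_rc_13_2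 lc_b_rc_11_2 lc_b_rc_11_2 lc_b_rc_14_2 lc_b_rc_10_0 lc_b_rc_14_2 lc_b_rc_12_2 lc_b_rc_11_2 lc_b_rc_15_0 lc_b_rc_11_4 lc_b_rc_11_2 lc_b_rc_12_2 lc_b_rc_14_2 lc_b_Cert_tree lc_b_rc_56_29 lc_b_rc_11_2 lc_b_rc_18_2 lc_b_Cert_tree lc_b_Cert_tree lc_b_Cert_tree lc_b_rc_10_0 lc_b_rc_15_2 lc_b_rc_13_2 lc_b_rc_11_2 lc_b_rc_1_3 lc_b_rc_11_2 lc_b_Cert_tree lc_b_rc_18_0 lc_b_rc_1_3 lc_b_rc_11_2 lc_b_rc_11_2 lc_b_rc_10_0 lc_b_rc_14_2) (@D3.rec (fun _ => (Cert rels S Gen.b)) lc_b_rc_1_3 lc_b_rc_12_2 lc_b_rc_11_2 lc_b_rc_12_2 lc_b_rc_1_3 lc_b_rc_11_2 lc_b_rc_12_2 lc_b_rc_1_3 lc_b_rc_11_2 lc_b_Cert_tree lc_b_Cert_tree lc_b_rc_13_0 lc_b_rc_1_3 lc_b_rc_1_3 lc_b_rc_11_2 lc_b_rc_16_2 lc_b_rc_1_3 lc_b_rc_1_3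 lc_b_rc_11_2 lc_b_rc_12_2 lc_b_rc_14_2 lc_b_rc_16_2 lc_b_rc_1_3 lc_b_Cert_tree lc_b_rc_1_3 lc_b_Cert_tree lc_b_rc_1_3 lc_b_rc_11_2 lc_b_rc_13_2 lc_b_rc_1_3 lc_b_rc_1_3 lc_b_rc_12_2 lc_b_rc_11_2 lc_b_Cert_tree lc_b_rc_14_0 lc_b_rc_1_3 lc_b_rc_11_4 lc_b_Cert_tree lc_b_rc_56_29 lc_b_rc_1_3 lc_b_rc_11_2 lc_b_rc_13_2 lc_b_rc_12_2 lc_b_Cert_tree lc_b_rc_1_3 lc_b_rc_1_3 lc_b_rc_1_3 lc_b_rc_11_2 lc_b_rc_11_2 lc_b_rc_12_2 lc_b_rc_14_2) (@D3.rec (fun _ => (Cert rels S Gen.b)) lc_b_rc_17_2 lc_b_rc_10_0 lc_b_rc_14_2 lc_b_rc_1_3 lc_b_rc_11_2 lc_b_Cert_tree lc_b_Cert_tree lc_b_Cert_tree lc_b_rc_12_2 lc_b_rc_11_2 lc_b_rc_13_2 lc_b_rc_10_0 lc_b_rc_15_2 lc_b_rc_1_3 lc_b_rc_11_2 lc_b_Cert_tree lc_b_Cert_tree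 lc_b_Cert_tree lc_b_rc_12_2 lc_b_rc_56_36 lc_b_rc_11_2 lc_b_rc_11_2 lc_b_rc_14_2 lc_b_rc_10_0 lc_b_rc_15_2 lc_b_rc_14_2 lc_b_rc_12_2 lc_b_rc_1_3 lc_b_rc_11_2 lc_b_rc_11_2 lc_b_rc_16_2 lc_b_Cert_tree lc_b_rc_10_0 lc_b_Cert_tree lc_b_rc_10_0 lc_b_rc_10_0 lc_b_Cert_tree lc_b_rc_1_3 lc_b_rc_11_2 lc_b_Cert_tree lc_b_rc_1_3 lc_b_rc_1_3 lc_b_rc_1_3 lc_b_rc_11_2 lc_b_rc_11_2 lc_b_rc_10_0 lc_b_rc_14_2 lc_b_Cert_tree lc_b_rc_1_3 lc_b_Cert_tree lc_b_rc_10_0) (@D3.rec (fun _ => (Cert rels S Gen.b)) lc_b_Cert_tree lc_b_Cert_tree lc_b_rc_1_3 lc_b_rc_11_2 lc_b_rc_10_0 lc_b_rc_14_2 lc_b_Cert_tree lc_b_Cert_tree lc_b_rc_14_2 lc_b_rc_11_2 lc_b_rc_10_0 lc_b_rc_14_2 lc_b_rc_1_3 lc_b_rc_11_2 lc_b_rc_1_3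 lc_b_rc_1_3 lc_b_Cert_tree lc_b_rc_16_2 lc_b_Cert_tree lc_b_rc_1_3 lc_b_rc_1_3 lc_b_rc_1_3 lc_b_rc_11_2 lc_b_rc_11_2 lc_b_rc_10_0 lc_b_rc_15_2 lc_b_rc_14_2 lc_b_rc_10_0 lc_b_rc_14_2 lc_b_rc_1_3 lc_b_rc_11_2 lc_b_rc_14_2 lc_b_rc_12_2 lc_b_rc_18_2 lc_b_rc_11_2 lc_b_Cert_tree lc_b_rc_10_0 lc_b_rc_14_2 lc_b_rc_1_3 lc_b_rc_1_3 lc_b_Cert_tree lc_b_rc_10_0 lc_b_rc_10_0 lc_b_rc_14_2 lc_b_Cert_tree lc_b_rc_10_0 lc_b_rc_14_2 lc_b_rc_1_3 lc_b_rc_11_2 lc_b_rc_14_2 lc_b_rc_1_3) (@D3.rec (fun _ => (Cert rels S Gen.b)) lc_b_rc_10_0 lc_b_Cert_tree lc_b_Cert_tree lc_b_rc_1_3 lc_b_rc_1_3 lc_b_rc_11_2 lc_b_rc_11_2 lc_b_rc_10_0 lc_b_rc_15_2 lc_b_rc_10_0 lc_b_rc_14_2 lc_b_rc_1_3 lc_b_rc_11_2 lc_b_rc_15_2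 lc_b_rc_14_2 lc_b_rc_13_2 lc_b_rc_18_2 lc_b_rc_10_0 lc_b_rc_10_0 lc_b_rc_10_0 lc_b_rc_14_2 lc_b_rc_1_3 lc_b_rc_11_2 lc_b_Cert_tree lc_b_rc_10_0 lc_b_rc_10_0 lc_b_Cert_tree lc_b_Cert_tree lc_b_Cert_tree lc_b_rc_10_0 lc_b_rc_10_0 lc_b_rc_10_0 lc_b_rc_10_0 lc_b_rc_14_2 lc_b_rc_18_2 lc_b_Cert_tree lc_b_rc_10_0 lc_b_rc_10_0 lc_b_rc_10_0 lc_b_rc_10_0 lc_b_Cert_tree lc_b_rc_10_0 lc_b_Cert_tree lc_b_rc_10_0 lc_b_rc_10_0 lc_b_rc_10_0 lc_b_rc_10_0 lc_b_rc_10_0 lc_b_rc_10_0 lc_b_rc_10_0 lc_b_rc_10_0) (@D3.rec (fun _ => (Cert rels S Gen.b)) lc_b_rc_10_0 lc_b_rc_14_2 lc_b_rc_1_3 lc_b_rc_11_2 lc_b_Cert_tree lc_b_rc_10_0 lc_b_rc_10_0 lc_b_rc_12_2 lc_b_Cert_tree lc_b_rc_56_29 lc_b_rc_11_2 lc_b_rc_14_0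 lc_b_rc_14_0 lc_b_Cert_tree lc_b_rc_1_3 lc_b_rc_15_2 lc_b_rc_11_2 lc_b_rc_13_2 lc_b_rc_12_2 lc_b_Cert_tree lc_b_rc_1_3 lc_b_rc_1_3 lc_b_rc_1_3 lc_b_rc_11_2 lc_b_rc_11_2 lc_b_rc_12_2 lc_b_rc_14_2 lc_b_rc_10_0 lc_b_rc_14_2 lc_b_rc_1_3 lc_b_rc_11_2 lc_b_Cert_tree lc_b_rc_13_0 lc_b_rc_16_2 lc_b_Cert_tree lc_b_rc_1_3 lc_b_rc_11_2 lc_b_rc_13_2 lc_b_rc_10_0 lc_b_rc_15_2 lc_b_rc_14_2 lc_b_rc_11_2 lc_b_Cert_tree lc_b_rc_1_3 lc_b_rc_1_3 lc_b_rc_11_2 lc_b_rc_11_2 lc_b_rc_14_2 lc_b_rc_10_0 lc_b_rc_15_2 lc_b_rc_14_2) (@D3.rec (fun _ => (Cert rels S Gen.b)) lc_b_rc_1_3 lc_b_rc_11_2 lc_b_Cert_tree lc_b_rc_10_0 lc_b_rc_10_0 lc_b_rc_10_0 lc_b_rc_10_0 lc_b_rc_14_2 lc_b_rc_1_3 lc_b_rc_11_2 lc_b_Cert_tree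 lc_b_rc_1_3 lc_b_rc_1_3 lc_b_rc_11_2 lc_b_Cert_tree lc_b_rc_1_3 lc_b_rc_1_3 lc_b_rc_11_2 lc_b_Cert_tree lc_b_rc_56_29 lc_b_rc_11_2 lc_b_rc_10_0 lc_b_rc_14_2 lc_b_rc_10_0 lc_b_rc_15_2 lc_b_rc_1_3 lc_b_rc_11_2 lc_b_rc_10_0 lc_b_rc_15_2 lc_b_rc_14_2 lc_b_rc_1_3 lc_b_rc_11_2 lc_b_rc_14_2 lc_b_rc_18_2 lc_b_Cert_tree lc_b_rc_18_2 lc_b_rc_56_36 lc_b_rc_11_2 lc_b_rc_11_2 lc_b_rc_10_0 lc_b_rc_14_2 lc_b_rc_1_3 lc_b_rc_11_2 lc_b_rc_10_0 lc_b_rc_10_0 lc_b_rc_10_0 lc_b_rc_15_2 lc_b_rc_13_2 lc_b_Cert_tree lc_b_rc_10_0 lc_b_rc_15_2) (@D3.rec (fun _ => (Cert rels S Gen.b)) lc_b_rc_14_2 lc_b_rc_14_2 lc_b_rc_12_2 lc_b_rc_18_2 lc_b_rc_13_2 lc_b_Cert_tree lc_b_Cert_tree lc_b_rc_10_0 lc_b_rc_10_0 lc_b_Cert_tree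 lc_b_rc_1_3 lc_b_Cert_tree lc_b_rc_1_3 lc_b_rc_1_3 lc_b_rc_1_3 lc_b_rc_11_2 lc_b_rc_10_0 lc_b_rc_10_0 lc_b_rc_15_2 lc_b_rc_1_3 lc_b_rc_11_2 lc_b_Cert_tree lc_b_rc_10_0 lc_b_rc_10_0 lc_b_rc_15_2 lc_b_rc_15_2 lc_b_rc_11_0 lc_b_rc_11_2 lc_b_rc_11_2 lc_b_rc_10_0 lc_b_rc_15_2 lc_b_rc_14_2 lc_b_rc_12_2 lc_b_rc_1_3 lc_b_rc_11_2 lc_b_rc_11_2 lc_b_rc_14_2 lc_b_rc_18_2 lc_b_rc_10_0 lc_b_rc_10_0 lc_b_rc_10_0 lc_b_rc_15_2 lc_b_rc_18_2 lc_b_rc_11_2 lc_b_rc_15_2 lc_b_rc_13_2 lc_b_rc_10_0 lc_b_rc_10_0 lc_b_rc_10_0 lc_b_rc_15_2 lc_b_rc_14_2) (@D3.rec (fun _ => (Cert rels S Gen.b)) lc_b_rc_17_2 lc_b_rc_11_2 lc_b_rc_15_2 lc_b_rc_14_2 lc_b_rc_13_2 lc_b_rc_18_2 lc_b_rc_10_0 lc_b_rc_10_0 lc_b_rc_10_0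 lc_b_rc_14_2 lc_b_rc_10_0 lc_b_rc_15_2 lc_b_rc_14_2 lc_b_rc_14_2 lc_b_rc_10_0 lc_b_rc_10_0 lc_b_rc_10_0 lc_b_rc_10_0 lc_b_rc_14_2 lc_b_rc_14_2 lc_b_rc_10_0 lc_b_rc_10_0 lc_b_rc_14_2 lc_b_rc_14_2 lc_b_rc_18_2 lc_b_rc_10_0 lc_b_rc_10_0 lc_b_rc_15_2 lc_b_rc_14_2 lc_b_rc_15_2 lc_b_rc_14_2 lc_b_rc_14_2 lc_b_rc_18_2 lc_b_rc_12_2 lc_b_rc_18_2 lc_b_rc_12_2 lc_b_rc_10_0 lc_b_rc_14_2 lc_b_rc_10_0 lc_b_rc_10_0 lc_b_rc_14_2 lc_b_rc_18_2 lc_b_rc_10_0 lc_b_rc_10_0 lc_b_rc_15_2 lc_b_rc_14_2 lc_b_rc_15_2 lc_b_rc_14_2 lc_b_rc_18_2 lc_b_rc_13_2 lc_b_rc_18_2) (@D3.rec (fun _ => (Cert rels S Gen.b)) lc_b_rc_14_2 lc_b_rc_18_2 lc_b_rc_10_0 lc_b_rc_10_0 lc_b_rc_10_0 lc_b_rc_10_0 lc_b_rc_18_2 lc_b_rc_10_0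 lc_b_rc_10_0 lc_b_rc_10_0 lc_b_rc_14_2 lc_b_rc_18_2 lc_b_rc_10_0 lc_b_rc_10_0 lc_b_rc_14_2 lc_b_rc_10_0 lc_b_rc_15_2 lc_b_rc_11_0 lc_b_rc_15_2 lc_b_rc_11_2 lc_b_rc_11_2 lc_b_rc_10_0 lc_b_rc_15_2 lc_b_rc_14_2 lc_b_rc_1_3 lc_b_rc_12_2 lc_b_rc_11_2 lc_b_rc_11_2 lc_b_rc_14_2 lc_b_rc_18_2 lc_b_rc_10_0 lc_b_rc_10_0 lc_b_rc_15_2 lc_b_rc_17_2 lc_b_rc_11_2 lc_b_rc_15_2 lc_b_rc_13_2 lc_b_rc_10_0 lc_b_rc_15_2 lc_b_rc_14_2 lc_b_rc_18_2 lc_b_rc_11_2 lc_b_rc_15_2 lc_b_rc_14_2 lc_b_rc_18_2 lc_b_rc_10_0 lc_b_rc_14_2 lc_b_rc_18_2 lc_b_rc_10_0 lc_b_rc_15_2 lc_b_rc_10_0) (@D3.rec (fun _ => (Cert rels S Gen.b)) lc_b_rc_15_2 lc_b_rc_10_0 lc_b_rc_15_2 lc_b_rc_14_2 lc_b_rc_15_2 lc_b_rc_13_2 lc_b_rc_15_2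 lc_b_rc_14_2 lc_b_rc_15_2 lc_b_rc_18_2 lc_b_rc_10_0 lc_b_rc_15_2 lc_b_rc_14_2 lc_b_rc_14_2 lc_b_rc_18_2 lc_b_rc_13_2 lc_b_rc_10_0 lc_b_rc_15_2 lc_b_rc_14_2 lc_b_rc_12_2 lc_b_rc_18_2 lc_b_rc_13_2 lc_b_rc_10_0 lc_b_rc_10_0 lc_b_rc_10_0 lc_b_rc_10_0 lc_b_rc_15_2 lc_b_rc_15_2 lc_b_rc_13_2 lc_b_rc_10_0 lc_b_rc_15_2 lc_b_rc_13_2 lc_b_rc_16_2 lc_b_rc_15_2 lc_b_rc_14_2 lc_b_rc_16_2 lc_b_rc_15_2 lc_b_rc_18_2 lc_b_rc_15_2 lc_b_rc_13_2 lc_b_rc_13_2 lc_b_rc_15_2 lc_b_rc_14_2 lc_b_rc_15_2 lc_b_rc_13_2 lc_b_rc_18_2 lc_b_rc_14_2 lc_b_rc_15_2 lc_b_rc_14_2 lc_b_rc_14_2 lc_b_rc_14_2) (@D3.rec (fun _ => (Cert rels S Gen.b)) lc_b_rc_18_2 lc_b_rc_15_2 lc_b_rc_14_2 lc_b_rc_18_2 lc_b_rc_12_2 lc_b_rc_18_2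 lc_b_rc_15_2 lc_b_rc_14_2 lc_b_rc_18_2 lc_b_rc_18_2 lc_b_rc_18_2 lc_b_rc_14_2 lc_b_rc_15_2 lc_b_rc_13_2 lc_b_rc_16_2 lc_b_rc_15_2 lc_b_rc_14_2 lc_b_rc_16_2 lc_b_rc_15_2 lc_b_rc_18_2 lc_b_rc_15_2 lc_b_rc_13_2 lc_b_rc_13_2 lc_b_rc_15_2 lc_b_rc_14_2 lc_b_rc_15_2 lc_b_rc_18_2 lc_b_rc_18_2 lc_b_rc_15_2 lc_b_rc_15_2 lc_b_rc_15_2 lc_b_rc_13_2 lc_b_rc_15_2 lc_b_rc_15_2 lc_b_rc_14_2 lc_b_rc_18_2 lc_b_rc_13_2 lc_b_rc_15_2 lc_b_rc_13_2 lc_b_rc_13_2 lc_b_rc_16_2 lc_b_rc_16_2 lc_b_rc_15_2 lc_b_rc_13_2 lc_b_rc_15_2 lc_b_rc_13_2 lc_b_rc_16_2 lc_b_rc_16_2 lc_b_rc_15_2 lc_b_rc_13_2 lc_b_rc_15_2)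
def ce_b : Pt → (Cert rels S Gen.b) := @Pt.rec (fun _ => (Cert rels S Gen.b)) (@D1.rec (fun _ => D2 → D3 → (Cert rels S Gen.b)) ce_b_0 ce_b_1 ce_b_2 ce_b_3 ce_b_4 ce_b_5 ce_b_6 ce_b_7 ce_b_8 ce_b_9 ce_b_10 ce_b_11 ce_b_12 ce_b_13 ce_b_14 ce_b_15 ce_b_16 ce_b_17 ce_b_18 ce_b_19 ce_b_20 ce_b_21 ce_b_22)
def isSeed_b (p : Pt) : Bool := false

end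

end Cfsg.Agent.Helper28.S1689
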