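import Cfsg.Agent.Lib.Helper28.S1689.Tree

set_option autoImplicit false
set_option maxRecDepth 100000
set_option linter.all false

namespace Cfsg.Agent.Helper28.S1689

open Cfsg.Agent.Helper28
open Cfsg.Spor.Fi23 (Gen)

noncomputable section

def lv_c_0 : D2 → D3 → Nat := @D2.rec (fun _ => D3 → Nat) (@D3.rec (fun _ => Nat) 1 2 3 4 5 0 1 2 7 2 3 8 8 7 3 9 0 9 8 8 0 10 1 2 2 9 9 9 1 2 2 2 2 3 3 3 10 10 10 11 2 2 3 3 3 10 3 3 3 4 4) (@D3.rec (fun _ => Nat) 4 11 11 11 0 12 12 11 3 3 3 4 4 4 11 11 11 4 4 4 11 5 5 5 0 12 12 0 1 0 13 13 13 12 12 12 4 4 4 12 5 5 5 0 12 12 12 12 12 12 5) (@D3.rec (fun _ => Nat) 5 5 0 12 6 6 0 1 13 0 1 2 8 1 2 2 2 14 14 14 0 13 13 13 13 13 13 5 5 5 0 13 6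 6 0 1 13 13 13 13 13 13 13 13 13 0 6 6 0 1 2) (@D3.rec (fun _ => Nat) 13 7 0 1 2 8 0 1 2 9 2 9 2 2 2 3 3 4 3 3 3 15 15 15 0 1 2 14 14 14 14 14 14 14 14 14 0 6 6 0 1 2 14 7 0 1 2 15 14 14 14) (@D3.rec (fun _ => Nat) 14 0 14 14 14 14 14 14 14 0 0 1 2 7 0 1 2 13 2 3 14 0 1 2 9 2 9 1 2 10 2 3 10 10 13 3 3 4 3 14 3 3 4 5 4 4 5 4 5 4 4) (@D3.rec (fun _ => Nat) 0 16 16 0 1 2 2 3 15 15 15 15 0 15 15 15 15 15 15 15 0 0 1 2 7 0 1 2 6 2 3 15 0 1 2 16 2 16 15 15 15 15 15 0 15 15 1 2 15 0 15) (@D3.rec (fun _ => Nat) 15 15 0 0 1 2 1 2 14 2 3 0 1 2 14 2 3 14 14 3 4 15 1 2 10 2 3 10 10 14 11 2 3 11 11 14 3 11 64 14 15 4 5 4 4 5 4 15 5 4 15) (@D3.rec (fun _ => Nat) 15 4 0 5 5 6 5 14 6 5 6 5 6 5 6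 0 0 1 2 17 0 1 2 6 2 3 5 3 4 16 16 16 16 16 0 16 16 1 2 16 0 16 16 16 0 0 1 2 1 2 7) (@D3.rec (fun _ => Nat) 2 3 0 1 2 7 2 3 7 7 3 4 16 1 2 17 2 3 17 17 15 16 16 16 0 16 16 0 16 16 1 2 16 0 15 2 73 0 1 2 16 0 0 1 2 1 2 15 2 3 15) (@D3.rec (fun _ => Nat) 2 3 15 15 14 3 4 1 2 15 2 3 15 15 15 3 4 15 15 4 5 11 2 3 11 11 15 3 11 69 19 12 12 15 3 4 12 71 12 15 15 72 16 16 5 5 6 5 6 5 6) (@D3.rec (fun _ => Nat) 5 16 6 5 16 6 0 16 16 0 1 2 6 7 6 7 6 15 7 6 15 7 0 7 6 7 0 0 1 2 1 2 7 2 3 0 1 2 7 2 3 7 7 5 3 4 6 6 4 5 17) (@D3.rec (fun _ => Nat) 17 17 0 17 17 0 17 17 1 2 17 0 2 71 0 1 2 17 0 0 1 2 1 2 8 2 3 8 2 3 8 8 15 3 4 1 2 8 2 3 8 8 16 3 4 8 8 4 5 18 2) (@D3.rec (fun _ => Nat) 3 18 18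 16 3 18 0 20 17 17 0 17 17 1 2 2 17 0 1 2 17 0 16 2 70 0 1 2 68 1 2 16 2 3 0 1 2 1 2 16 2 3 16 2 3 16 16 5 3 4 16) (@D3.rec (fun _ => Nat) 16 15 3 4 16 0 16 15 4 5 16 2 3 16 16 16 3 4 16 67 16 16 18 4 5 16 16 5 12 12 16 3 4 12 69 12 16 20 67 13 71 13 16 16 4 72 13 74 16 16 17) (@D3.rec (fun _ => Nat) 17 17 17 6 7 6 7 6 7 6 7 0 17 7 6 17 7 0 17 0 1 2 17 0 1 2 16 2 3 7 8 7 20 8 7 16 8 7 16 8 0 16 0 1 2 8 0 0 1 2 1) (@D3.rec (fun _ => Nat) 2 8 2 3 8 2 3 8 8 16 3 4 1 2 8 2 3 8 8 17 3 4 8 16 8 6 6 4 5 7 7 7 7 5 18 18 0 18 18 1 2 2 18 0 1 2 18 0 2 73 0) (@D3.rec (fun _ => Nat) 1 2 68 1 2 9 2 3 0 1 2 1 2 9 2 3 9 2 3 9 9 5 3 4 9 9 16 3 4 9 0 9 16 4 5 9 2 3 9 9 17 3 4 9 0 9 17 19 4 5 9) (@D3.rec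 (fun _ => Nat) 9 5 19 19 17 3 4 19 0 19 17 21 0 1 2 21 0 18 18 1 2 2 18 0 17 2 2 3 75 0 1 2 17 2 72 0 1 2 70 1 2 17 2 3 68 2 3 17 5 3 4) (@D3.rec (fun _ => Nat) 1 2 17 2 3 17 2 3 17 17 6 3 4 17 17 6 3 4 17 66 17 6 6 4 5 17 0 17 16 16 4 5 0 17 1 2 17 16 16 5 17 17 17 3 4 17 69 17 19 19 4) (@D3.rec (fun _ => Nat) 5 67 17 69 17 17 19 5 17 17 13 71 13 17 21 4 72 13 74 17 17 74 14 76 14 17 17 17 74 76 17 18 18 18 18 18 0 7 8 7 8 7 8 7 8 0 0 1 2 18 8) (@D3.rec (fun _ => Nat) 0 18 0 1 2 0 1 2 17 2 3 0 1 2 17 2 3 17 17 17 3 4 9 8 21 9 8 21 17 9 0 17 9 0 17 0 1 2 0 1 2 9 2 3 0 1 2 1 2 9 2) (@D3.rec (fun _ => Nat) 3 9 2 3 9 9 5 3 4 9 9 17 3 4 9 0 9 17 17 4 5 9 2 3 9 9 18 3 4 9 0 9 18 20 4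 5 17 9 17 17 9 7 7 7 7 5 8 8 8 8 8) (@D3.rec (fun _ => Nat) 0 19 19 1 2 2 19 0 2 2 3 73 0 1 2 2 73 0 1 2 71 1 2 10 2 3 66 10 2 3 10 10 5 3 4 1 2 10 2 3 10 2 3 10 10 6 3 4 10 10 6) (@D3.rec (fun _ => Nat) 3 4 10 0 10 6 6 4 5 10 0 10 17 17 4 5 0 10 1 2 10 17 17 5 10 10 18 3 4 10 0 10 20 20 4 5 0 10 1 2 2 10 18 20 20 5 10 10 20 0 20) (@D3.rec (fun _ => Nat) 18 22 4 0 20 1 2 2 18 18 22 1 2 1 2 2 19 0 18 2 2 3 75 0 1 2 18 17 3 75 73 1 2 18 2 3 70 1 2 18 2 3 68 2 3 18 6 3 4 68 6) (@D3.rec (fun _ => Nat) 3 4 0 18 6 6 4 5 18 2 3 18 18 7 3 4 18 18 8 3 4 18 68 18 7 7 4 5 18 68 18 7 73 4 5 66 18 66 18 7 7 7 5 0 18 1 2 2 18 17 17) (@D3.rec (fun _ => Nat) 17 5 1 2 18 2 3 3 18 17 17 18 69 18 20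 20 4 5 68 18 70 18 20 20 20 5 69 18 69 18 18 20 18 72 14 74 14 18 18 18 72 74 18 74 15 76 76 18 18 18 74)
def lv_c_1 : D2 → D3 → Nat := @D2.rec (fun _ => D3 → Nat) (@D3.rec (fun _ => Nat) 0 19 19 19 19 19 19 0 1 2 9 8 9 8 9 0 9 0 0 1 2 1 2 18 2 3 19 0 1 2 0 1 2 18 2 3 1 2 18 2 3 18 18 5 3 4 1 2 18 2 3) (@D3.rec (fun _ => Nat) 18 18 18 3 4 18 0 18 18 18 4 5 22 10 9 22 18 10 0 22 18 0 1 2 18 0 1 2 0 1 2 10 2 3 1 2 10 2 3 10 10 5 3 4 1 2 10 2 3 10 2) (@D3.rec (fun _ => Nat) 3 10 10 6 3 4 10 10 6 3 4 10 0 10 6 6 4 5 10 0 10 18 18 4 5 0 10 1 2 2 10 18 18 18 18 5 10 10 19 3 4 10 0 10 21 21 4 5 0 10 1) (@D3.rec (fun _ => Nat) 2 2 10 19 19 21 21 5 18 18 10 18 18 18 18 10 8 8 8 8 8 9 9 9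 0 9 9 9 1 2 2 20 0 2 2 3 75 0 1 2 18 3 75 73 1 2 11 2 3 73 1) (@D3.rec (fun _ => Nat) 2 11 2 3 69 11 2 3 11 11 6 3 4 67 11 6 3 4 11 0 11 6 6 4 5 11 2 3 11 11 7 3 4 11 11 8 3 4 11 0 11 7 7 4 5 11 0 11 7 65 4) (@D3.rec (fun _ => Nat) 5 0 11 1 2 2 11 7 7 7 7 5 0 11 1 2 2 11 18 18 18 5 1 2 11 2 3 3 11 18 18 11 0 11 21 21 4 5 0 11 1 2 2 11 21 21 21 21 5 1 2) (@D3.rec (fun _ => Nat) 11 2 2 3 4 11 19 21 21 11 0 21 1 2 2 21 19 19 19 23 1 2 2 2 3 4 19 23 18 19 2 2 3 3 77 0 1 2 19 18 3 77 75 1 2 19 2 3 0 18 18) (@D3.rec (fun _ => Nat) 77 75 2 3 19 18 3 4 70 2 3 19 7 3 4 71 8 3 4 0 19 7 7 4 5 70 7 4 5 1 2 71 19 7 7 7 5 19 19 9 3 4 19 68 19 8 8 4 5 19 72) (@D3.rec (fun _ => Nat) 19 9 67 4 5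 66 19 68 19 8 8 8 5 68 19 73 19 8 8 67 5 64 19 66 66 19 8 8 8 8 1 2 2 19 2 2 3 3 4 19 18 18 18 18 14 2 3 3 19 3 3) (@D3.rec (fun _ => Nat) 4 4 18 18 70 19 72 19 21 21 21 5 70 19 72 70 19 21 21 21 21 68 19 71 21 74 15 76 76 19 19 19 74 0 76 76 78 19 19 0 1 20 20 20 20 20 0 0 1 2 19) (@D3.rec (fun _ => Nat) 2 3 10 9 10 0 0 1 2 0 1 2 1 2 19 2 3 19 2 3 19 19 5 3 4 0 1 2 19 2 3 1 2 19 2 3 19 19 6 3 4 19 2 3 19 19 6 3 4 19 0) (@D3.rec (fun _ => Nat) 19 6 6 4 5 19 2 3 19 19 5 3 4 19 0 19 19 19 4 5 0 19 1 2 2 19 19 19 19 19 5 23 19 11 0 23 19 0 1 2 19 0 1 2 11 2 3 0 1 2 11) (@D3.rec (fun _ => Nat) 2 3 1 2 11 2 3 11 11 6 3 4 2 3 11 6 3 4 11 0 11 6 6 4 5 11 2 3 11 11 7 3 4 11 11 8 3 4 11 0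 11 7 7 4 5 11 0 11 7 7 4) (@D3.rec (fun _ => Nat) 5 0 11 1 2 2 11 7 7 7 7 5 62 11 1 2 61 11 19 19 19 19 5 1 2 57 11 2 2 3 3 4 58 11 19 19 19 19 19 11 0 11 22 22 4 5 0 11 1 2 2) (@D3.rec (fun _ => Nat) 11 22 22 22 22 5 1 2 2 11 2 2 3 3 4 3 11 20 22 20 22 22 19 19 19 19 11 19 19 19 19 19 9 9 9 0 9 9 9 10 10 10 0 10 1 2 10 2 2 3 3) (@D3.rec (fun _ => Nat) 75 0 1 2 19 3 75 73 1 2 12 2 3 19 19 76 73 12 2 3 12 12 19 3 4 69 12 2 3 12 12 7 3 4 69 12 8 3 4 12 0 12 7 7 4 5 67 0 12 7 4) (@D3.rec (fun _ => Nat) 5 0 12 1 2 2 12 7 7 7 7 5 12 12 9 3 4 12 0 12 8 8 4 5 12 0 12 9 67 4 5 0 12 1 2 2 12 8 8 8 8 5 0 12 1 2 2 12 8 8 65) (@D3.rec (fun _ => Nat) 67 5 1 2 12 2 2 3 3 4 12 8 8 8 8 8 1 2 63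 12 2 2 3 3 4 12 19 19 19 19 14 2 3 3 12 3 3 4 4 19 19 0 12 1 2 2 12 22 22 22 22) (@D3.rec (fun _ => Nat) 5 1 2 12 2 2 3 3 4 12 22 22 22 22 22 2 3 12 3 4 9 4 5 22 22 1 2 22 2 2 3 3 4 20 20 20 24 2 3 3 4 19 5 0 24 19 20 19 3 3 4) (@D3.rec (fun _ => Nat) 77 75 1 2 20 2 3 0 19 19 78 75 2 3 20 19 3 4 1 2 76 71 19 3 4 0 20 19 19 4 5 71 9 3 4 0 20 8 8 4 5 69 9 4 5 1 2 73 20 8 8) (@D3.rec (fun _ => Nat) 8 5 70 8 8 5 2 3 3 74 20 8 8 8 8 20 74 20 10 69 4 5 68 20 70 20 9 9 9 5 68 20 74 20 10 10 69 5 68 20 70 68 20 9 9 9 9 66 20 68 72) (@D3.rec (fun _ => Nat) 20 9 68 9 67 66 66 20 68 68 9 9 9 9 67 2 2 3 3 4 20 3 3 4 18 4 5 4 5 19 19 19 0 19 15 3 3 4 4 72 4 4 5 5 19 70 20 72 72 20 22) (@D3.rec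 (fun _ => Nat) 22 22 22 70 68 20 70 70 22 22 92 22 68 74 74 76 20 20 90 1 76 78 20 0 1 21 21 21 0 21 0 1 2 1 2 20 2 3 20 20 19 3 4 11 0 0 1 2 1 2 20) (@D3.rec (fun _ => Nat) 2 3 1 2 20 2 3 20 2 3 20 20 6 3 4 20 6 3 4 20 0 20 6 6 4 5 1 2 20 2 3 20 20 7 3 4 20 2 3 20 20 8 3 4 20 0 20 7 7 4 5) (@D3.rec (fun _ => Nat) 20 20 19 3 4 20 0 20 7 7 4 5 0 20 1 2 2 20 7 7 7 7 5 20 20 5 3 4 20 64 20 6 66 4 5 60 20 1 2 61 20 20 20 20 20 5 1 2 59 20 2) (@D3.rec (fun _ => Nat) 2 3 3 4 56 20 20 20 20 20 20 24 24 20 0 1 2 20 0 1 2 12 2 3 0 1 2 12 2 3 12 12 20 3 4 1 2 12 2 3 12 12 7 3 4 2 3 12 8 3 4) (@D3.rec (fun _ => Nat) 12 0 12 7 7 4 5 19 3 4 0 12 7 7 4 5 0 12 1 2 2 12 7 7 7 7 5 12 12 9 3 4 12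 0 12 8 8 4 5 12 0 12 9 9 4 5 0 12 1 2 2)
def lv_c_2 : D2 → D3 → Nat := @D2.rec (fun _ => D3 → Nat) (@D3.rec (fun _ => Nat) 12 8 8 8 8 5 0 12 1 2 2 12 8 8 8 8 5 1 2 2 12 2 2 3 3 4 3 12 8 8 8 8 8 60 12 2 3 3 59 12 20 20 20 20 20 2 3 3 57 12 3) (@D3.rec (fun _ => Nat) 3 4 4 5 4 5 60 20 20 20 0 20 20 20 0 12 1 2 2 12 23 23 23 23 5 1 2 2 12 2 2 3 3 4 3 12 23 23 23 23 23 2 2 3 3 4 3 12 3 3 4) (@D3.rec (fun _ => Nat) 9 3 4 5 4 5 5 21 21 23 0 23 23 23 20 20 20 20 20 20 20 20 0 20 20 20 10 10 10 0 10 1 2 10 11 11 106 11 1 20 2 20 3 3 4 77 75 1 2 13 2) (@D3.rec (fun _ => Nat) 3 20 20 77 75 13 2 3 13 13 20 3 4 75 71 13 20 3 4 13 0 13 20 20 4 5 71 13 9 3 4 13 0 13 8 8 4 5 69 0 13 9 4 5 0 13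 1 2 2 13 8) (@D3.rec (fun _ => Nat) 8 8 8 5 69 1 2 13 8 8 5 1 2 2 13 2 2 3 3 4 68 13 8 8 8 8 8 13 0 13 10 67 4 5 0 13 1 2 2 13 9 9 9 9 5 0 13 1 2 2 13) (@D3.rec (fun _ => Nat) 10 10 67 69 5 1 2 13 2 2 3 3 4 13 9 9 9 9 9 1 2 13 2 2 3 3 4 13 9 65 9 65 67 2 3 3 13 3 3 4 9 4 5 4 5 9 9 9 9 9 9) (@D3.rec (fun _ => Nat) 2 3 3 63 13 3 3 4 4 5 4 5 20 20 20 0 20 15 3 3 4 4 9 4 4 5 5 20 1 2 13 2 2 3 3 4 13 23 23 23 23 23 2 3 3 13 3 3 4 10 4) (@D3.rec (fun _ => Nat) 5 4 5 23 23 94 23 23 23 3 4 4 5 10 10 6 23 2 3 3 3 3 4 20 4 5 5 21 21 92 25 25 3 20 5 20 20 0 1 2 20 0 21 20 20 20 4 79 79 77 2) (@D3.rec (fun _ => Nat) 3 21 20 3 89 1 2 77 73 20 3 4 88 21 20 20 4 93 2 75 71 20 4 5 1 92 2 21 20 20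 20 5 73 10 4 101 1 2 73 21 9 9 9 5 71 10 10 5 2 3 3) (@D3.rec (fun _ => Nat) 73 21 9 9 9 9 9 9 3 3 4 72 4 71 9 9 9 18 9 70 21 74 21 11 11 69 5 68 21 90 93 21 70 21 74 72 21 11 69 11 67 68 66 21 98 98 68 68 21 72 72) (@D3.rec (fun _ => Nat) 10 10 67 71 67 66 66 107 106 65 3 3 4 4 5 4 5 73 4 5 4 5 19 5 5 6 63 6 20 20 20 0 1 16 16 70 4 4 5 5 68 5 5 101 72 72 21 74 72 70 70) (@D3.rec (fun _ => Nat) 72 76 78 78 0 1 22 22 0 1 2 0 1 2 21 2 3 21 2 3 21 21 20 3 4 21 0 21 20 20 4 5 0 1 2 1 2 21 2 3 21 2 3 21 21 21 3 4 21 2 3) (@D3.rec (fun _ => Nat) 21 21 7 3 4 21 8 3 4 21 0 21 7 7 4 5 0 21 7 7 4 5 0 21 1 2 2 21 7 7 7 7 5 21 2 3 21 21 9 3 4 21 0 21 8 8 4 5 21 21 20) (@D3.rec (fun _ => Nat)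 3 4 21 0 21 9 9 4 5 0 21 1 2 2 21 8 8 8 8 5 21 0 21 19 19 4 5 0 21 1 2 2 21 8 8 8 8 5 1 2 2 21 2 2 3 3 4 3 21 8 8) (@D3.rec (fun _ => Nat) 8 8 8 21 6 4 5 21 62 21 7 7 66 5 60 21 2 3 3 61 21 21 21 21 21 21 2 3 3 61 21 3 3 4 4 5 4 5 58 21 21 21 0 21 21 21 25 21 0 1 2) (@D3.rec (fun _ => Nat) 13 2 3 0 1 2 13 2 3 13 13 21 3 4 1 2 2 3 13 21 3 4 13 0 13 21 21 4 5 2 3 13 9 3 4 13 0 13 8 8 4 5 20 3 4 0 13 9 9 4 5) (@D3.rec (fun _ => Nat) 0 13 1 2 2 13 8 8 8 8 5 20 20 4 5 1 2 2 13 8 8 8 8 5 1 2 2 13 2 2 3 3 4 3 13 8 8 8 8 8 13 0 13 10 10 4 5 0 13 1 2) (@D3.rec (fun _ => Nat) 2 13 9 9 9 9 5 0 13 1 2 2 13 10 10 10 10 5 1 2 2 13 2 2 3 3 4 3 13 9 9 9 9 9 1 2 2 13 2 2 3 3 4 3 13 9 9 9 9 9 20)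 (@D3.rec (fun _ => Nat) 2 2 3 3 4 3 13 3 3 4 9 3 4 5 4 5 5 9 9 9 0 9 9 9 60 62 13 3 3 4 59 4 61 21 21 21 0 21 21 21 3 3 4 57 4 59 9 4 5 4 5) (@D3.rec (fun _ => Nat) 5 5 6 0 60 6 60 21 21 21 0 21 1 2 21 1 2 2 13 2 2 3 3 4 3 13 24 24 24 24 24 2 2 3 3 4 3 13 3 3 4 10 3 4 5 4 5 5 22 24 24) (@D3.rec (fun _ => Nat) 0 24 24 24 3 3 4 3 4 5 4 5 5 4 5 4 5 10 5 10 10 5 5 6 0 6 6 6 22 22 24 0 24 1 2 24 21 21 21 0 21 21 21 21 21 21 0 21 1 2 21) (@D3.rec (fun _ => Nat) 11 11 0 11 104 107 1 105 8 2 3 21 21 21 21 21 21 4 77 78 75 14 2 3 14 14 21 3 91 76 71 14 21 3 4 14 0 14 21 21 4 95 76 69 0 14 21 4 5 0 14) (@D3.rec (fun _ => Nat) 1 2 2 14 21 21 21 5 71 0 14 10 4 5 0 14 1 2 2 14 9 9 9 9 5 69 1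 2 14 10 10 5 1 2 2 14 2 2 3 3 4 68 14 9 9 9 9 9 2 3 3) (@D3.rec (fun _ => Nat) 14 9 9 67 2 2 3 3 4 14 3 3 4 20 4 5 4 5 66 9 9 9 19 9 9 9 0 14 1 2 2 14 11 11 69 69 5 1 2 14 2 2 3 3 4 14 10 1 2 14 2) (@D3.rec (fun _ => Nat) 2 3 3 4 14 11 69 11 67 69 2 3 3 14 3 3 4 10 4 5 4 5 10 10 2 3 3 14 3 3 4 4 5 4 5 10 10 67 71 67 67 67 3 3 4 4 9 4 5 4 5) (@D3.rec (fun _ => Nat) 10 10 5 5 6 6 10 10 3 3 4 61 4 63 11 4 5 4 5 5 5 6 0 6 21 21 21 0 1 16 16 10 4 4 5 5 10 10 5 5 6 2 3 3 14 3 3 4 11 4 5) (@D3.rec (fun _ => Nat) 4 5 24 24 3 3 4 4 21 4 5 4 5 11 11 5 6 0 6 24 94 24 4 6 11 11 11 3 3 4 21 4 5 5 21 21 5 6 0 26 90 21 21 0 21 21 1 8 2 3 21)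
def lv_c_3 : D2 → D3 → Nat := @D2.rec (fun _ => D3 → Nat) (@D3.rec (fun _ => Nat) 1 2 2 21 21 21 80 78 77 21 3 89 2 77 73 21 4 91 90 20 72 71 21 21 5 2 98 92 71 11 11 2 75 11 11 3 3 75 75 10 10 19 4 4 73 69 73 70 22 92 91) (@D3.rec (fun _ => Nat) 22 70 70 22 70 68 22 102 99 68 68 68 68 107 107 69 68 68 65 67 69 4 5 4 5 5 5 6 62 6 109 5 5 6 6 20 7 7 64 1 0 17 17 68 5 5 113 72 70 70 76) (@D3.rec (fun _ => Nat) 1 2 23 0 1 2 22 2 3 1 2 22 2 3 22 22 5 3 4 22 22 21 3 4 22 0 22 21 21 4 5 0 22 1 2 2 22 21 21 21 21 5 1 2 22 2 3 22 2 3 22) (@D3.rec (fun _ => Nat) 22 22 3 4 22 22 3 4 22 0 22 22 22 4 5 22 9 3 4 22 0 22 8 8 4 5 0 22 9 9 4 5 0 22 1 2 2 22 8 8 8 8 5 1 2 2 22 8 8 8 8) (@D3.rec (fun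 _ => Nat) 5 1 2 2 22 2 2 3 3 4 3 22 8 8 8 8 8 22 22 21 3 4 22 0 22 10 10 4 5 0 22 1 2 2 22 9 9 9 9 5 22 0 22 20 20 4 5 0 22 1 2) (@D3.rec (fun _ => Nat) 2 22 10 10 10 10 5 1 2 2 22 2 2 3 3 4 3 22 9 9 9 9 9 0 22 1 2 2 22 20 20 20 20 5 1 2 2 22 2 2 3 3 4 3 22 9 9 9 9 9 21) (@D3.rec (fun _ => Nat) 2 2 3 3 4 3 22 3 3 4 21 3 4 5 4 5 5 9 9 9 0 9 9 9 22 7 7 5 22 62 64 22 8 64 8 66 58 60 22 3 3 4 59 4 61 22 22 22 0 22 22) (@D3.rec (fun _ => Nat) 22 3 3 4 59 4 59 9 4 5 4 5 5 5 6 0 56 6 58 22 22 22 0 22 1 2 22 22 0 1 2 14 2 3 14 14 22 3 4 1 2 2 3 14 22 3 4 14 0 14 22) (@D3.rec (fun _ => Nat) 22 4 5 2 3 5 3 4 0 14 22 22 4 5 72 14 1 2 73 14 22 22 22 22 5 21 3 4 0 14 10 10 4 5 0 14 1 2 2 14 9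 9 9 9 5 21 21 4 5 1 2) (@D3.rec (fun _ => Nat) 2 14 10 10 10 10 5 1 2 2 14 2 2 3 3 4 3 14 9 9 9 9 9 21 21 21 21 5 2 2 3 3 4 3 14 9 9 9 9 9 21 2 2 3 3 4 3 14 3 3 4) (@D3.rec (fun _ => Nat) 21 3 4 5 4 5 5 9 9 9 0 9 9 9 0 14 1 2 2 14 11 11 11 11 5 1 2 2 14 2 2 3 3 4 3 14 10 10 10 10 10 1 2 2 14 2 2 3 3 4 3) (@D3.rec (fun _ => Nat) 14 11 11 11 11 11 21 2 2 3 3 4 3 14 3 3 4 10 3 4 5 4 5 5 10 10 10 0 10 10 10 21 2 2 3 3 4 3 14 3 3 4 21 3 4 5 4 5 5 10 10) (@D3.rec (fun _ => Nat) 10 0 10 10 10 21 3 3 4 3 4 5 4 5 5 9 4 5 4 5 10 5 10 10 5 5 6 0 6 6 6 10 10 10 0 10 1 2 10 60 62 11 4 4 5 5 59 0 61 22 22) (@D3.rec (fun _ => Nat) 22 0 22 1 2 22 10 4 4 5 5 57 0 59 10 10 5 5 6 0 6 6 7 7 0 58 1 2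 60 22 22 0 22 0 22 1 2 8 2 3 2 2 3 3 4 3 14 3 3 4 11) (@D3.rec (fun _ => Nat) 3 4 5 4 5 5 25 25 25 0 25 25 25 3 3 4 3 4 5 4 5 5 22 4 5 4 5 11 5 11 11 5 5 6 0 6 6 6 23 23 25 0 25 1 2 25 4 5 4 5 5) (@D3.rec (fun _ => Nat) 5 5 6 0 6 6 6 5 5 6 0 6 6 11 6 11 11 11 11 6 7 7 0 7 1 2 7 23 23 0 25 0 25 1 2 8 2 3 22 22 22 0 22 1 2 22 22 22 0 22 0) (@D3.rec (fun _ => Nat) 22 1 2 8 2 3 106 1 108 105 9 110 9 9 3 22 22 22 22 22 79 77 77 15 22 3 91 15 0 15 78 73 0 15 22 4 95 0 15 1 2 2 15 71 71 1 2 15 22 22 5) (@D3.rec (fun _ => Nat) 1 2 76 15 2 2 3 3 4 15 71 1 2 15 11 11 5 1 2 2 15 2 2 3 3 4 70 15 10 2 3 3 15 11 11 69 2 2 3 3 4 15 3 3 4 21 4 5 4 5 70) (@D3.rec (fun _ => Nat) 10 10 3 3 4 4 10 10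 67 3 3 4 4 5 4 5 20 4 5 4 5 21 21 5 5 6 0 68 6 68 10 20 10 1 2 15 2 2 3 3 4 15 69 69 71 2 3 3 15 3 3) (@D3.rec (fun _ => Nat) 4 11 2 3 3 15 3 3 4 4 5 4 5 67 70 71 67 69 3 3 4 4 22 4 5 4 5 11 11 3 3 4 4 10 4 5 4 5 5 5 6 0 6 67 67 67 69 72 69 10 4) (@D3.rec (fun _ => Nat) 4 5 5 10 10 5 5 6 20 6 11 11 11 11 4 4 5 5 63 0 65 11 11 5 5 6 0 6 6 7 7 0 1 22 0 0 1 8 0 17 17 11 11 5 5 6 11 11 11 11 6) (@D3.rec (fun _ => Nat) 3 3 4 4 22 4 5 4 5 12 12 22 4 4 5 22 22 5 6 0 6 12 12 12 1 96 12 12 12 12 22 4 5 22 22 5 6 0 22 22 22 1 92 22 0 22 1 76 22 22 8) (@D3.rec (fun _ => Nat) 76 3 22 2 2 3 4 22 22 81 79 89 21 75 91 21 73 21 0 65 67 114 5 5 6 6 7 7 21 1 2 18 18 2 0 1 2 23 2 3 23 23 5 3 4 23 2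 3 23 23 6) (@D3.rec (fun _ => Nat) 3 4 23 77 23 6 75 4 5 23 0 23 22 22 4 5 0 23 1 2 2 23 22 22 22 22 5 1 2 2 23 2 2 3 3 4 3 23 22 22 22 22 22 23 2 3 23 23 23 3 4) (@D3.rec (fun _ => Nat) 23 23 3 4 23 0 23 23 23 4 5 0 23 23 23 4 5 75 23 1 2 73 23 23 23 23 23 5 0 23 10 10 4 5 0 23 1 2 2 23 9 9 9 9 5 1 2 2 23 10 10) (@D3.rec (fun _ => Nat) 10 10 5 1 2 2 23 2 2 3 3 4 3 23 9 9 9 9 9 2 2 3 3 4 3 23 9 9 9 9 9 22 2 2 3 3 4 3 23 3 3 4 8 3 4 5 4 5 5 9 9) (@D3.rec (fun _ => Nat) 9 0 9 9 9 23 0 23 21 21 4 5 0 23 1 2 2 23 11 11 11 11 5 1 2 2 23 2 2 3 3 4 3 23 10 10 10 10 10 0 23 1 2 2 23 21 21 21 21 5 1)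
def lv_c_4 : D2 → D3 → Nat := @D2.rec (fun _ => D3 → Nat) (@D3.rec (fun _ => Nat) 2 2 23 2 2 3 3 4 3 23 11 11 11 11 11 22 2 2 3 3 4 3 23 3 3 4 22 3 4 5 4 5 5 10 10 10 0 10 10 10 1 2 2 23 2 2 3 3 4 3 23) (@D3.rec (fun _ => Nat) 21 21 21 21 21 22 2 2 3 3 4 3 23 3 3 4 8 3 4 5 4 5 5 10 10 10 0 10 10 10 22 22 3 3 4 22 3 4 5 4 5 5 9 4 5 4 5 22 5 22 22) (@D3.rec (fun _ => Nat) 5 5 6 0 6 6 6 10 10 10 0 10 1 2 10 23 8 8 23 62 64 9 9 66 0 68 60 62 11 4 4 5 5 61 0 63 23 23 23 0 23 1 2 23 10 4 4 5 5 59 0) (@D3.rec (fun _ => Nat) 61 10 10 5 5 6 0 6 6 7 7 0 58 1 2 60 23 23 0 23 0 23 1 2 8 2 3 92 1 91 2 92 15 23 3 91 15 0 15 23 23 4 2 95 91 3 95 0 15 23 23) (@D3.rec (fun _ => Nat) 4 93 72 15 1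 2 73 15 23 23 23 23 5 5 3 97 93 93 4 97 1 2 2 15 23 23 23 23 5 78 15 2 3 3 75 76 15 23 23 23 23 23 22 22 4 101 1 2 2 15 11) (@D3.rec (fun _ => Nat) 11 11 11 5 1 2 2 15 2 2 3 3 4 3 15 10 10 10 10 10 22 22 22 22 5 2 2 3 3 4 3 15 11 11 11 11 11 22 2 2 3 3 4 3 15 3 3 4 22 3 4) (@D3.rec (fun _ => Nat) 5 4 5 5 10 10 10 0 10 10 10 22 22 22 22 22 3 3 4 3 4 5 4 5 5 10 10 10 0 10 10 10 22 22 3 3 4 22 3 4 5 4 5 5 21 4 5 4 5 22 5) (@D3.rec (fun _ => Nat) 22 22 5 5 6 0 6 6 6 10 10 10 0 10 1 2 10 1 2 2 15 2 2 3 3 4 3 15 12 12 12 12 12 22 2 2 3 3 4 3 15 3 3 4 11 3 4 5 4 5 5) (@D3.rec (fun _ => Nat) 11 11 11 0 11 11 11 22 2 2 3 3 4 3 15 3 3 4 22 3 4 5 4 5 5 12 12 12 0 12 12 12 22 3 3 4 3 4 5 4 5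 5 23 4 5 4 5 11 5 11 11) (@D3.rec (fun _ => Nat) 5 5 6 0 6 6 6 11 11 11 0 11 1 2 11 22 3 3 4 3 4 5 4 5 5 10 4 5 4 5 22 5 22 5 5 6 0 6 6 6 11 11 11 0 11 1 2 11 22 22 10) (@D3.rec (fun _ => Nat) 4 5 4 5 5 5 5 6 0 6 6 6 10 10 5 5 6 0 6 6 11 6 11 11 11 11 6 7 7 0 7 1 2 7 11 11 0 11 0 11 1 2 8 2 3 62 62 11 11 5 5) (@D3.rec (fun _ => Nat) 6 61 61 0 1 23 23 0 23 0 23 1 2 8 2 3 11 11 5 5 6 59 59 0 1 11 11 11 0 11 6 7 7 0 1 7 8 0 60 0 60 1 2 8 2 3 23 0 23 1 106) (@D3.rec (fun _ => Nat) 105 1 107 9 2 3 9 9 3 3 3 4 3 95 5 95 5 5 23 4 5 4 5 12 5 12 12 99 99 6 0 6 6 6 26 26 26 0 26 1 2 26 23 4 5 4 5 5 105 99 6) (@D3.rec (fun _ => Nat) 0 6 6 6 23 23 5 5 6 0 6 6 12 6 12 12 12 12 95 7 7 0 7 1 2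 7 24 24 0 26 0 26 1 2 8 2 3 5 5 6 0 6 6 6 95 7 7 0 7 1 2) (@D3.rec (fun _ => Nat) 7 6 7 7 0 7 1 2 2 12 7 12 12 12 12 12 12 95 8 0 8 0 8 1 2 8 2 3 24 109 26 1 110 2 1 110 9 2 102 9 9 3 23 23 0 23 0 23 1 2 22) (@D3.rec (fun _ => Nat) 2 3 0 1 2 2 1 100 9 2 3 9 9 3 10 10 10 23 23 80 78 91 90 16 1 74 95 1 95 16 1 78 2 2 72 2 94 96 16 2 100 75 3 3 4 2 3 3 69 2 2) (@D3.rec (fun _ => Nat) 4 3 3 4 22 70 3 3 4 4 69 3 3 4 5 5 9 4 5 4 5 22 22 70 68 21 4 4 5 5 67 67 21 4 5 4 5 6 0 6 21 21 5 5 6 0 6 22 22 22 68) (@D3.rec (fun _ => Nat) 1 2 68 2 3 3 16 3 3 4 3 3 23 12 12 3 3 4 4 23 4 5 4 5 23 4 4 23 23 102 12 12 12 12 4 4 5 5 12 12 5 5 6 0 6 0 1 11 11 5 5) (@D3.rec (fun _ => Nat) 11 11 11 21 11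 21 21 12 12 12 12 13 13 5 5 63 63 0 1 13 13 13 0 13 6 7 7 0 1 1 8 1 1 107 1 2 2 18 18 12 12 12 12 6 12 103 12 12 12 23 4) (@D3.rec (fun _ => Nat) 4 23 23 95 95 13 13 23 23 5 23 23 0 23 93 1 2 101 13 13 13 13 13 13 13 23 23 5 23 23 0 23 91 1 76 23 23 23 23 1 77 76 76 23 23 3 4 22 5 0 80) (@D3.rec (fun _ => Nat) 76 22 74 22 1 112 65 67 2 22 1 91 24 2 92 24 24 6 3 104 24 6 4 96 24 24 91 3 90 24 79 24 96 92 4 94 24 73 24 100 96 94 5 97 24 1 96 2 24 23 23) (@D3.rec (fun _ => Nat) 23 23 5 1 98 2 24 2 2 96 100 4 3 24 23 23 23 23 23 23 2 2 96 96 4 3 24 3 3 4 8 3 94 5 104 5 5 23 23 23 0 23 23 23 24 24 3 4 24 0 24) (@D3.rec (fun _ => Nat) 26 24 4 92 0 24 24 24 4 5 76 24 1 2 75 24 24 24 24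 24 5 1 2 76 24 24 24 24 24 5 72 24 2 3 3 79 24 24 24 24 24 24 1 2 2 24 11 11 11 11 5) (@D3.rec (fun _ => Nat) 1 2 2 24 2 2 3 3 4 3 24 10 10 10 10 10 2 2 3 3 4 3 24 11 11 11 11 11 23 2 2 3 3 4 3 24 3 3 4 9 3 4 5 4 5 5 10 10 10 0 10) (@D3.rec (fun _ => Nat) 10 10 3 3 4 20 3 4 5 4 5 5 10 10 10 0 10 10 10 23 23 3 3 4 9 3 4 5 4 5 5 22 4 5 4 5 9 5 9 9 5 5 6 0 6 6 6 10 10 10 0) (@D3.rec (fun _ => Nat) 10 1 2 10 0 24 1 2 2 24 22 22 22 22 5 1 2 2 24 2 2 3 3 4 3 24 12 12 12 12 12 23 2 2 3 3 4 3 24 3 3 4 23 3 4 5 4 5 5 11 11) (@D3.rec (fun _ => Nat) 11 0 11 11 11 1 2 2 24 2 2 3 3 4 3 24 22 22 22 22 22 23 2 2 3 3 4 3 24 3 3 4 8 3 4 5 4 5 5 12 12 12 0 12 12 12 23 23 3 3 4)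
def lv_c_5 : D2 → D3 → Nat := @D2.rec (fun _ => D3 → Nat) (@D3.rec (fun _ => Nat) 23 3 4 5 4 5 5 24 4 5 4 5 23 5 23 23 5 5 6 0 6 6 6 11 11 11 0 11 1 2 11 23 2 2 3 4 3 24 3 3 4 8 3 4 5 4 5 5 22 22 22) (@D3.rec (fun _ => Nat) 0 22 22 22 23 23 3 3 4 9 3 4 5 4 5 5 10 4 5 4 5 9 5 9 9 5 5 6 0 6 6 6 11 11 11 0 11 1 2 11 23 23 23 23 10 4 5 4 5 23 5) (@D3.rec (fun _ => Nat) 23 5 5 6 0 6 6 6 10 10 5 5 6 0 6 6 23 6 23 23 23 23 23 6 7 7 0 7 1 2 7 11 11 0 11 0 11 1 2 8 2 3 9 9 64 64 108 66 66 0 1) (@D3.rec (fun _ => Nat) 60 60 11 11 5 5 6 61 61 0 1 24 24 0 24 0 24 1 2 8 2 3 11 11 5 5 6 59 59 0 1 11 11 11 0 11 6 7 7 0 1 7 8 0 58 0 58 1 2 8 2) (@D3.rec (fun _ => Nat) 3 24 0 24 1 2 2 1 2 9 2 3 9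 9 3 0 16 76 91 1 94 77 24 24 1 2 2 16 24 24 78 94 2 3 94 75 77 24 24 24 24 93 2 2 3 3 4 77 16 24 24) (@D3.rec (fun _ => Nat) 24 73 80 95 3 3 4 71 94 73 75 24 24 24 0 24 24 24 23 23 2 2 3 3 4 3 97 12 12 12 12 12 23 2 2 3 3 4 3 95 3 3 4 23 3 4 5 101 5 5 11) (@D3.rec (fun _ => Nat) 11 11 0 11 11 11 23 23 23 3 3 4 3 4 5 4 5 5 12 12 12 101 12 12 12 23 23 3 3 4 23 3 4 5 4 5 5 9 4 5 4 5 23 5 23 23 5 5 6 0 6) (@D3.rec (fun _ => Nat) 6 6 11 11 11 0 11 1 2 11 23 0 23 23 23 22 4 5 4 5 5 5 5 6 0 6 6 6 11 11 11 0 11 1 2 11 23 23 23 23 22 4 5 4 5 23 5 23 5 5 6) (@D3.rec (fun _ => Nat) 0 6 6 6 22 22 5 5 6 0 6 6 23 6 23 23 23 23 6 7 7 0 7 1 2 7 11 11 0 11 0 11 1 2 8 2 3 23 2 2 3 3 4 3 16 3 3 4 23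 3 4) (@D3.rec (fun _ => Nat) 5 4 5 5 99 99 100 103 13 99 13 23 3 3 4 3 4 5 4 5 5 24 4 5 4 5 12 5 12 12 5 5 6 0 6 6 6 101 12 12 0 12 1 2 12 23 3 3 4 3 4) (@D3.rec (fun _ => Nat) 5 4 5 5 24 4 5 4 5 23 5 23 5 5 6 0 6 6 6 13 13 95 103 13 1 2 13 23 23 24 4 5 4 5 5 5 5 6 0 6 6 6 24 24 5 5 6 0 6 6 12) (@D3.rec (fun _ => Nat) 6 12 12 12 12 6 7 7 0 7 1 2 7 12 12 0 12 0 12 1 2 8 2 3 23 23 4 5 4 5 5 5 5 6 6 6 6 12 12 5 5 6 0 6 6 23 6 23 23 6 7) (@D3.rec (fun _ => Nat) 7 0 7 1 2 7 12 12 0 12 0 12 1 2 8 2 3 61 23 23 11 11 5 5 6 0 6 6 6 6 7 7 0 7 1 2 7 11 11 11 0 11 6 7 7 0 7 1 2 2 12) (@D3.rec (fun _ => Nat) 7 12 12 12 12 12 12 7 8 0 8 0 8 1 2 8 2 3 12 0 12 1 2 2 1 2 9 2 3 9 9 3 62 13 13 13 13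 6 7 61 0 0 1 8 24 0 24 1 2 2 1) (@D3.rec (fun _ => Nat) 2 9 2 3 9 62 3 12 12 12 12 6 7 59 0 0 1 23 12 12 12 12 0 12 1 2 7 8 0 0 1 22 9 0 60 1 2 2 1 2 9 2 3 9 9 3 109 24 1 104 105) (@D3.rec (fun _ => Nat) 10 103 10 111 10 10 3 10 10 11 5 5 5 97 0 6 97 6 6 0 6 6 13 6 13 13 13 13 100 99 0 7 1 2 7 27 0 27 0 27 1 2 8 2 3 6 0 6 6 6 103) (@D3.rec (fun _ => Nat) 105 0 7 1 2 7 0 24 7 7 0 7 1 2 2 13 7 13 13 13 13 13 13 95 0 8 0 8 1 2 8 2 3 25 0 27 1 2 2 1 2 9 2 3 9 9 3 7 7 0 7) (@D3.rec (fun _ => Nat) 1 2 7 93 0 8 0 8 1 2 23 2 3 8 0 8 0 8 1 2 2 23 2 2 3 3 3 13 13 13 13 13 13 13 13 95 0 9 1 2 2 1 2 9 2 3 9 9 3 27 101) (@D3.rec (fun _ => Nat) 10 2 109 111 10 10 10 10 10 0 1 2 2 1 2 23 2 3 30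 23 3 1 99 2 2 10 3 10 10 23 11 0 9 3 3 71 4 100 23 23 101 4 4 71 69 100 5 5 100 103 23) (@D3.rec (fun _ => Nat) 23 23 22 22 5 5 0 69 69 22 22 6 70 6 1 22 22 22 0 22 102 1 70 23 23 23 23 2 3 3 24 24 24 13 13 24 4 4 24 24 96 24 24 24 102 24 103 13 13 13 12) (@D3.rec (fun _ => Nat) 12 5 5 12 12 12 0 12 0 1 1 12 12 12 12 12 12 12 22 12 22 22 22 22 13 13 13 13 13 13 13 13 1 13 101 13 13 0 13 1 2 103 102 1 22 2 2 104 103 4 3) (@D3.rec (fun _ => Nat) 113 13 103 13 13 13 113 13 103 13 13 95 24 95 95 14 14 24 93 24 1 2 75 95 2 74 95 14 14 14 14 14 14 24 94 24 1 78 79 94 76 76 76 23 5 23 23 29 1 23 23) (@D3.rec (fun _ => Nat) 23 97 2 96 3 24 24 24 2 100 3 4 9 3 96 106 5 24 98 24 24 24 24 4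 9 3 94 94 5 5 5 9 5 9 9 94 0 6 104 6 24 24 0 24 1 2 24 0 25 25 25) (@D3.rec (fun _ => Nat) 4 94 74 1 2 73 1 2 78 25 25 25 25 25 5 74 2 3 3 79 25 25 2 3 3 80 25 25 25 25 25 25 74 76 3 3 4 75 4 79 25 25 25 100 25 2 2 3 3 4 3) (@D3.rec (fun _ => Nat) 25 12 12 12 12 12 24 2 2 3 3 4 3 3 3 4 10 3 4 5 4 5 5 11 11 11 96 11 11 11 3 3 4 21 3 4 5 4 5 5 12 12 12 0 12 12 12 24 24 3 3) (@D3.rec (fun _ => Nat) 4 10 3 4 5 4 5 5 9 4 5 4 5 10 5 10 10 5 5 6 0 6 6 6 11 11 11 96 11 1 2 11 23 4 5 4 5 21 5 21 5 5 6 0 6 6 6 11 11 11 0) (@D3.rec (fun _ => Nat) 11 1 2 11 24 24 24 0 24 23 4 5 4 5 10 5 10 10 5 5 6 0 6 6 6 23 23 5 5 6 0 6 6 10 6 10 10 10 10 10 6 7 7 0 7 1 2 7 11 11 0)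
def lv_c_6 : D2 → D3 → Nat := @D2.rec (fun _ => D3 → Nat) (@D3.rec (fun _ => Nat) 11 0 11 1 2 8 2 3 1 2 2 25 2 2 97 98 4 3 25 23 23 23 23 23 24 2 2 3 3 4 3 25 3 3 4 8 3 4 5 4 5 5 13 13 13 0 13 13 13 24 24) (@D3.rec (fun _ => Nat) 3 3 4 24 3 4 5 4 5 5 25 4 5 4 5 24 5 24 24 5 5 6 0 6 6 6 100 102 100 104 12 1 2 12 24 2 2 97 3 4 3 25 3 3 4 8 3 97 5 98 5) (@D3.rec (fun _ => Nat) 5 23 23 23 0 23 23 23 24 24 3 3 4 9 3 4 5 4 5 5 25 4 5 4 5 9 5 9 9 5 5 6 0 6 6 6 13 13 13 0 13 1 2 13 24 24 24 24 25 4 5) (@D3.rec (fun _ => Nat) 4 5 24 5 24 5 5 6 0 6 6 6 25 25 5 5 6 0 6 6 24 6 24 24 24 24 24 6 7 7 0 7 1 2 7 12 12 0 12 104 12 1 2 8 2 3 24 24 3 4 9) (@D3.rec (fun _ => Nat) 3 98 5 5 4 5 4 5 9 5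 9 9 101 102 6 6 6 6 23 23 23 0 23 1 2 23 24 24 24 24 4 5 4 5 10 5 10 5 5 6 6 6 6 12 12 5 5 6 0 6 6) (@D3.rec (fun _ => Nat) 10 6 10 10 10 10 10 6 7 7 0 7 1 2 7 12 12 0 12 0 12 1 2 8 2 3 63 24 24 24 24 24 11 11 5 5 6 0 6 6 24 6 24 24 24 6 7 7 0 7 1) (@D3.rec (fun _ => Nat) 2 7 11 11 11 0 11 6 7 7 0 7 1 2 2 24 7 24 24 24 24 24 24 24 24 7 8 0 8 0 8 1 2 8 2 3 12 0 12 1 2 2 1 2 9 2 3 9 9 3 104) (@D3.rec (fun _ => Nat) 105 1 69 62 13 13 13 13 6 7 63 0 0 1 8 25 0 25 1 101 102 1 103 9 2 3 69 62 3 12 12 12 12 6 7 61 0 0 1 24 12 12 12 12 0 12 1 2 7 8 0) (@D3.rec (fun _ => Nat) 0 1 23 9 0 60 1 2 2 1 2 9 2 3 9 9 3 0 25 1 101 111 10 2 2 108 3 10 2 3 10 10 3 10 10 11 1 94 94 2 2 3 77 74 3 96 73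 96 75 25 25) (@D3.rec (fun _ => Nat) 98 3 3 4 4 5 77 25 25 76 9 4 5 94 75 75 75 94 77 25 25 25 0 25 1 98 24 3 3 4 3 4 5 101 5 5 13 13 24 24 3 3 4 24 3 101 5 103 5 5 103) (@D3.rec (fun _ => Nat) 4 5 5 24 5 24 24 5 102 6 0 6 101 6 12 12 100 12 1 2 12 24 24 11 4 5 4 5 5 5 5 6 0 6 6 6 13 13 13 101 13 24 24 24 24 76 4 5 4 5 24) (@D3.rec (fun _ => Nat) 5 24 5 105 6 77 6 6 6 96 74 5 5 6 0 6 6 24 6 24 24 24 24 6 7 7 0 7 1 2 7 12 12 0 12 0 12 1 2 8 2 3 0 24 1 2 24 23 23 5 5) (@D3.rec (fun _ => Nat) 6 0 6 6 6 6 7 7 0 7 1 2 7 12 12 0 12 0 12 1 2 8 2 3 63 24 24 24 24 24 23 23 5 5 6 0 6 6 24 6 24 24 6 7 7 0 7 1 2 7 23) (@D3.rec (fun _ => Nat) 23 23 0 23 6 7 7 0 7 1 2 2 24 7 24 24 24 24 24 24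 7 8 0 8 0 8 1 2 8 2 3 12 0 12 1 2 2 1 2 9 2 3 9 9 3 24 3 3 4 3 4) (@D3.rec (fun _ => Nat) 5 95 5 5 25 4 5 4 5 24 5 24 5 95 6 0 6 6 6 97 105 99 24 24 25 4 5 4 5 5 5 5 6 0 6 6 6 25 25 5 5 6 0 6 6 13 6 13 13 13 13) (@D3.rec (fun _ => Nat) 6 7 7 0 7 1 2 7 99 103 99 13 0 101 1 2 8 2 3 24 24 25 4 5 4 5 5 5 5 6 0 6 6 6 25 25 5 5 6 0 6 6 24 6 24 24 6 7 7 0 7) (@D3.rec (fun _ => Nat) 1 2 7 97 97 103 14 97 105 8 2 3 96 24 24 25 25 5 5 6 0 6 6 6 6 7 7 0 7 1 2 7 25 25 25 0 25 6 7 7 0 7 1 2 2 13 7 13 13 13 13) (@D3.rec (fun _ => Nat) 13 13 7 8 0 8 0 8 1 2 8 2 3 13 0 13 1 2 2 1 2 9 2 3 9 9 3 24 24 5 5 6 56 6 6 6 6 7 7 7 7 12 12 12 55 12 6 7 7 0 7) (@D3.rec (fun _ => Nat) 1 2 2 24 7 24 24 24 7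 8 0 8 0 8 1 2 8 2 99 0 13 1 2 2 1 2 9 2 3 9 9 3 63 61 24 24 12 12 12 55 12 6 7 7 0 7 1 2 7 7 8) (@D3.rec (fun _ => Nat) 0 8 0 8 1 2 24 2 12 12 12 12 0 12 1 2 2 7 8 0 8 0 8 1 2 2 11 2 2 3 3 3 13 13 13 13 13 13 13 13 9 0 9 1 2 2 1 2 9 2 3) (@D3.rec (fun _ => Nat) 9 9 3 109 13 1 108 2 10 2 2 103 104 10 2 111 10 10 3 10 10 11 64 13 13 13 13 13 7 63 0 1 2 1 9 9 0 25 1 105 113 10 2 2 112 3 10 2 3 10 64) (@D3.rec (fun _ => Nat) 3 64 62 11 13 13 13 13 13 7 61 0 1 2 1 24 29 13 13 13 13 0 13 0 13 1 2 23 2 9 0 1 2 1 23 23 0 62 1 2 2 10 2 2 101 3 10 2 3 10 10) (@D3.rec (fun _ => Nat) 3 10 10 56 11 11 11 11 12 11 56 12 6 6 95 97 1 2 97 7 1 2 2 102 7 99 14 14 14 14 14 97 99 97 101 1 2 8 2 3 0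 28 1 2 2 1 2 9 2 3 9) (@D3.rec (fun _ => Nat) 9 3 7 1 2 7 99 105 105 101 1 2 24 2 3 1 2 2 8 8 1 2 2 26 2 2 3 3 3 103 14 14 14 14 14 14 14 101 103 1 2 2 1 2 9 2 3 9 9 3 28) (@D3.rec (fun _ => Nat) 1 2 10 2 2 3 3 10 2 3 10 10 3 10 10 24 0 8 0 8 1 2 64 2 3 0 95 1 2 2 1 2 24 2 3 29 24 3 0 9 1 2 2 1 2 2 24 2 2 3 3) (@D3.rec (fun _ => Nat) 3 24 24 24 3 3 3 4 4 4 14 14 14 14 14 14 14 95 1 2 10 2 2 3 3 10 2 100 10 10 3 10 10 24 11 11 11 11 1 24 2 2 24 2 31 24 3 31 24 24 25) (@D3.rec (fun _ => Nat) 24 11 56 24 1 24 100 78 102 24 24 23 23 23 23 1 100 66 23 70 23 111 23 23 23 104 23 1 70 2 114 24 24 24 24 25 25 25 14 14 25 25 96 25 25 25 25 98 104 76 14)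
def lv_c_7 : D2 → D3 → Nat := @D2.rec (fun _ => D3 → Nat) (@D3.rec (fun _ => Nat) 14 14 14 14 14 14 14 14 14 0 14 1 2 1 13 13 13 13 13 13 13 23 23 23 23 23 23 14 14 14 104 15 15 15 100 15 110 102 15 101 15 1 2 23 2 4 3 106 103 5 14) (@D3.rec (fun _ => Nat) 104 14 14 115 0 14 110 97 77 97 97 15 101 76 2 76 79 95 76 97 15 15 15 15 95 79 93 95 98 10 3 98 25 25 10 3 100 10 5 10 10 77 98 102 25 98 25 0 25 10 5) (@D3.rec (fun _ => Nat) 10 10 57 96 104 6 10 6 10 10 10 10 10 0 94 1 2 104 0 25 0 25 1 2 8 2 3 1 94 80 2 2 3 94 76 26 26 74 3 3 4 75 3 3 4 74 96 76 26 26 26) (@D3.rec (fun _ => Nat) 101 26 72 9 4 4 5 5 74 74 26 26 3 3 4 22 3 4 5 4 5 5 13 13 13 105 13 13 13 25 25 3 3 4 96 3 4 5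 5 98 4 5 4 5 96 5 11 11 5 5 6) (@D3.rec (fun _ => Nat) 0 6 6 12 98 12 11 4 5 4 5 22 5 22 5 5 6 0 6 6 6 13 13 13 0 13 1 2 13 25 25 25 0 25 72 4 5 4 5 96 5 11 11 5 5 6 75 6 6 10 76) (@D3.rec (fun _ => Nat) 5 5 6 0 6 6 104 6 11 11 11 11 11 6 7 7 0 7 1 2 7 12 12 96 12 12 96 8 2 100 24 24 5 5 6 0 6 6 22 6 22 22 22 6 7 7 0 7 1 2 7) (@D3.rec (fun _ => Nat) 12 12 0 12 0 12 1 2 8 2 3 63 25 25 25 25 0 25 1 2 24 24 5 5 6 0 6 6 102 6 57 11 11 11 11 6 7 7 0 7 1 2 7 24 24 24 0 24 6 7 7) (@D3.rec (fun _ => Nat) 0 7 1 2 2 100 7 11 11 11 11 11 11 11 11 7 8 0 8 0 8 1 2 8 2 3 12 0 12 1 2 2 1 2 9 2 3 9 9 3 25 2 2 99 98 4 3 26 4 8 3) (@D3.rec (fun _ => Nat) 99 98 100 5 24 24 0 24 24 24 25 25 3 3 4 9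 3 4 5 4 5 5 26 4 5 4 5 9 5 9 9 5 5 6 0 6 6 6 102 101 14 100 14 1 2 14 25 25 25 25 26) (@D3.rec (fun _ => Nat) 4 5 4 5 25 5 25 5 5 6 0 6 6 6 26 26 5 5 6 0 6 6 25 6 25 25 25 25 25 6 7 7 0 7 1 2 7 102 108 102 104 8 2 3 25 3 4 9 3 99 99) (@D3.rec (fun _ => Nat) 98 5 5 5 5 9 5 9 9 99 99 0 6 100 6 24 24 24 0 24 1 2 24 25 25 25 25 26 4 5 4 5 10 5 10 5 5 6 0 6 6 6 26 26 5 5 6 0 6 6 10) (@D3.rec (fun _ => Nat) 6 10 10 10 10 10 6 7 7 0 7 1 2 7 14 14 0 14 0 14 1 2 8 2 3 0 25 25 25 25 25 26 26 5 5 6 0 6 6 25 6 25 25 25 6 7 7 0 7 1 2) (@D3.rec (fun _ => Nat) 7 26 26 26 0 26 6 7 7 0 7 1 2 2 25 7 25 25 25 25 25 25 25 25 7 8 0 8 0 8 1 2 8 2 3 104 102 13 1 2 2 104 9 2 3 9 9 3 25 66 25) (@D3.rec (fun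 _ => Nat) 5 10 5 10 100 6 6 65 6 6 10 6 10 10 10 10 10 107 106 7 7 24 102 24 105 24 1 2 71 2 25 25 25 25 25 5 5 6 56 6 6 11 6 11 11 11 6 7 7 7 7) (@D3.rec (fun _ => Nat) 12 12 12 57 12 6 7 7 0 7 1 2 2 11 7 11 11 11 11 11 11 11 11 7 8 0 8 0 8 1 2 8 2 13 0 13 1 2 2 1 2 9 2 3 71 9 3 63 61 25 25) (@D3.rec (fun _ => Nat) 25 0 25 25 25 12 12 12 57 12 6 7 7 0 7 1 2 2 25 7 25 25 25 25 7 8 0 8 0 8 1 2 25 2 12 12 12 12 0 12 1 2 2 7 8 0 8 0 8 1 2) (@D3.rec (fun _ => Nat) 2 11 2 2 3 3 3 25 25 25 25 25 25 25 25 25 25 25 9 0 9 1 2 2 1 2 9 2 3 9 9 3 0 13 1 2 2 10 2 2 3 3 10 2 3 10 10 3 10 10 11) (@D3.rec (fun _ => Nat) 102 62 13 13 13 13 13 7 63 0 1 2 1 9 108 26 1 101 100 10 99 101 62 3 62 60 11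 13 13 13 13 13 7 61 0 1 2 1 25 30 13 13 13 13 0 13 0 13 1 2 24) (@D3.rec (fun _ => Nat) 2 9 0 1 2 1 24 24 0 60 1 2 2 10 2 2 3 3 10 2 3 10 10 3 10 10 56 1 103 102 11 107 11 11 11 3 110 11 11 3 11 11 12 11 58 70 3 96 96 75 10) (@D3.rec (fun _ => Nat) 4 5 5 75 75 5 96 73 100 73 75 73 26 26 96 104 1 98 77 104 96 4 5 5 5 6 6 25 25 25 5 5 25 5 25 102 99 77 6 103 6 100 5 6 0 6 6 25 25 25 25) (@D3.rec (fun _ => Nat) 7 102 0 7 1 2 97 13 103 101 8 2 106 11 5 5 6 0 6 6 6 6 7 7 1 2 7 14 101 98 25 25 25 25 5 6 75 6 6 25 6 25 25 107 7 105 77 7 77 7 96) (@D3.rec (fun _ => Nat) 104 74 76 6 7 7 0 7 1 2 2 7 25 25 25 25 25 25 7 8 0 8 0 8 1 2 8 2 3 13 98 13 1 98 2 1 2 9 2 3 75 9 3 1 2 65 2 3 24 24 24)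 (@D3.rec (fun _ => Nat) 66 24 6 7 7 0 7 1 2 7 7 8 0 8 0 8 1 2 8 2 3 13 1 2 1 2 9 2 3 9 9 3 101 63 25 25 25 65 25 25 25 24 24 24 0 24 6 7 7 0 7) (@D3.rec (fun _ => Nat) 1 2 2 25 7 25 25 25 7 8 0 8 0 8 1 2 25 2 3 24 24 24 24 0 24 1 2 2 7 8 0 8 0 8 1 2 2 11 2 2 3 3 3 25 25 25 25 25 25 25 25) (@D3.rec (fun _ => Nat) 9 0 9 1 2 2 1 2 9 2 3 9 9 3 111 13 1 2 2 10 2 2 3 3 10 2 3 10 10 3 10 10 11 25 26 4 5 5 5 95 97 6 0 6 97 6 26 5 6 0 6) (@D3.rec (fun _ => Nat) 6 25 6 25 25 7 1 2 7 105 26 5 5 6 0 6 6 6 99 7 7 97 7 1 2 7 26 0 26 6 7 7 0 7 1 2 2 7 14 14 14 14 14 7 8 0 8 97 8 1 2) (@D3.rec (fun _ => Nat) 8 2 3 104 101 101 99 1 2 9 2 3 9 9 3 25 26 26 5 5 6 0 6 6 6 6 7 7 0 7 1 2 7 26 26 0 26 6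 7 7 0 7 1 2 2 25 7 25 25 25 7)
def lv_c_8 : D2 → D3 → Nat := @D2.rec (fun _ => D3 → Nat) (@D3.rec (fun _ => Nat) 8 0 8 8 1 2 8 2 3 97 103 105 105 9 9 3 75 25 26 26 0 26 6 7 7 0 7 1 2 7 7 8 0 8 105 8 1 2 25 2 3 26 26 26 0 26 1 2 2 7 8) (@D3.rec (fun _ => Nat) 0 8 0 8 1 2 2 12 2 2 3 3 3 14 14 14 14 14 14 14 9 0 9 1 2 2 1 2 9 2 3 9 9 3 106 14 1 2 2 10 2 2 3 3 10 2 3 10 10 3 10) (@D3.rec (fun _ => Nat) 10 11 25 25 6 7 7 58 7 56 7 7 8 8 8 14 14 14 14 57 14 57 55 7 8 0 8 0 8 1 2 2 12 2 2 3 3 25 25 25 25 9 0 9 1 2 2 1 2 9 2) (@D3.rec (fun _ => Nat) 9 9 99 99 1 105 2 10 2 2 3 3 10 2 3 10 10 3 10 60 11 102 103 61 59 25 13 13 13 13 57 13 57 7 8 0 8 0 8 1 2 63 2 3 9 0 9 1 2 2 1) (@D3.rec (fun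 _ => Nat) 2 25 2 28 25 13 13 13 13 0 13 0 13 1 2 2 12 2 2 3 3 3 9 0 9 1 2 2 1 2 2 12 2 2 3 3 3 12 12 12 3 3 3 4 4 4 14 14 14 14 14) (@D3.rec (fun _ => Nat) 14 14 0 10 1 2 2 10 2 2 3 3 10 2 3 10 10 3 10 10 58 104 11 2 103 102 11 11 11 12 11 11 11 11 12 11 56 12 101 15 15 15 15 15 0 1 2 10 2 10 10) (@D3.rec (fun _ => Nat) 1 114 106 11 111 109 64 3 106 11 64 3 64 62 12 62 58 12 14 14 14 14 0 1 2 25 2 25 30 14 0 14 14 0 14 1 2 2 1 2 24 2 24 24 0 1 2 24 2 24 24) (@D3.rec (fun _ => Nat) 1 102 2 2 11 26 3 11 3 11 11 58 11 56 58 12 58 97 2 3 27 2 2 3 3 95 101 99 15 15 15 96 97 97 9 2 3 9 9 3 1 105 2 95 2 2 3 3 95 2 3) (@D3.rec (fun _ => Nat) 95 10 3 10 10 25 2 3 99 101 99 2 3 25 25 3 27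 2 2 3 3 27 2 2 3 3 99 27 27 27 3 3 3 4 4 4 97 105 15 15 15 15 103 10 2 2 3 3 10 2 3) (@D3.rec (fun _ => Nat) 10 10 3 10 10 25 103 2 3 101 11 11 3 3 4 103 11 3 11 11 25 11 0 25 1 2 1 2 66 2 3 66 63 3 1 2 25 2 2 3 3 25 2 3 30 25 3 30 25 25 1) (@D3.rec (fun _ => Nat) 2 25 2 2 3 3 3 25 2 2 3 3 3 25 25 25 3 3 3 4 4 4 25 25 25 25 25 4 4 4 25 5 5 5 15 15 15 15 15 2 11 101 13 3 3 11 11 25 11 56 25) (@D3.rec (fun _ => Nat) 25 25 25 25 26 25 25 25 58 25 28 25 30 25 96 78 25 25 24 24 24 109 66 103 24 72 24 24 24 114 109 2 72 25 25 26 26 15 26 26 98 26 74 78 74 15 15 14 14 14 14) (@D3.rec (fun _ => Nat) 14 14 1 2 2 14 14 14 0 14 24 24 24 24 24 24 15 15 102 15 15 108 106 15 108 108 107 2 24 5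 110 103 0 15 104 0 108 1 2 105 75 103 101 75 15 97 98 99 16 16 11) (@D3.rec (fun _ => Nat) 11 11 11 11 11 11 11 11 79 1 68 2 11 11 11 11 55 11 11 11 11 11 11 11 11 1 2 8 2 3 1 2 1 2 9 2 3 59 9 3 3 107 76 4 10 4 5 96 75 0 27) (@D3.rec (fun _ => Nat) 27 101 101 76 10 5 5 6 77 101 4 5 4 5 23 5 23 5 5 6 0 6 6 6 14 14 107 14 26 26 26 96 26 74 4 5 5 95 98 106 6 102 76 5 5 6 0 6 6 96 96) (@D3.rec (fun _ => Nat) 12 12 12 7 1 2 11 11 5 5 6 0 6 6 23 6 23 23 23 6 7 7 0 7 1 2 7 14 14 105 14 105 14 1 2 8 2 3 78 26 26 26 26 96 26 1 2 76 5 5 6) (@D3.rec (fun _ => Nat) 73 6 6 98 98 12 12 12 6 7 7 75 100 11 78 76 78 6 7 7 0 7 1 2 2 7 106 100 12 12 12 12 12 12 7 8 0 8 8 1 2 8 2 79 13 98 74 9 25 25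 25) (@D3.rec (fun _ => Nat) 0 25 6 7 7 0 7 1 2 2 23 7 23 23 23 23 7 8 0 8 0 8 1 2 8 2 3 13 0 13 1 2 2 1 2 9 2 3 9 9 3 65 63 26 26 26 0 26 26 102 26) (@D3.rec (fun _ => Nat) 1 67 2 2 3 25 25 25 0 25 6 7 7 0 7 1 55 2 7 57 102 57 55 12 12 12 12 7 8 0 8 8 1 2 2 3 25 25 25 25 0 25 1 2 2 7 8 0 8 0 8) (@D3.rec (fun _ => Nat) 1 2 2 11 2 2 3 3 3 98 100 12 12 12 12 12 12 12 12 12 9 0 9 1 2 2 1 2 9 2 3 9 9 3 13 1 2 10 2 2 3 3 10 2 3 10 10 3 10 10 11) (@D3.rec (fun _ => Nat) 26 4 9 3 99 98 5 9 5 9 9 0 99 98 100 25 100 25 1 2 25 26 26 26 26 27 4 5 4 5 10 5 10 5 5 6 0 6 6 6 27 27 5 5 6 0 6 6 98 6 10) (@D3.rec (fun _ => Nat) 10 94 10 10 6 7 7 98 7 1 2 7 105 104 102 102 100 98 8 2 3 96 26 26 26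 26 26 27 27 5 5 6 0 6 6 26 6 26 26 26 6 7 7 0 7 1 2 7 27 27 27) (@D3.rec (fun _ => Nat) 0 27 6 7 7 0 7 1 2 2 7 26 26 26 26 26 26 26 26 7 8 8 1 2 8 2 3 106 9 9 3 106 26 5 10 5 10 99 97 99 98 6 6 10 6 10 10 10 10 10 99) (@D3.rec (fun _ => Nat) 0 99 1 2 100 25 0 25 0 25 1 2 8 2 3 98 26 26 26 26 26 27 27 5 5 6 0 6 6 11 6 97 11 11 6 7 7 0 7 1 2 7 27 27 27 0 27 6 7 7 0) (@D3.rec (fun _ => Nat) 7 1 2 2 98 7 11 11 11 11 11 104 11 11 7 8 0 8 98 8 1 2 8 2 3 99 107 15 1 2 2 1 2 9 2 3 9 9 3 1 2 76 26 26 26 0 26 26 26 27 27) (@D3.rec (fun _ => Nat) 27 0 27 6 7 7 0 7 1 2 2 26 7 26 26 26 26 7 8 0 8 0 8 1 2 26 2 3 27 27 27 27 0 27 1 2 2 7 8 0 8 0 8 1 2 2 12 2 2 3 3) (@D3.rec (fun _ => Nat) 3 26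 26 26 26 26 26 26 26 26 26 26 9 0 9 1 2 2 1 2 9 2 3 9 9 3 104 104 106 10 2 2 3 3 106 10 10 3 10 10 11 71 26 73 11 6 11 11 11 100 7)
def lv_c_9 : D2 → D3 → Nat := @D2.rec (fun _ => D3 → Nat) (@D3.rec (fun _ => Nat) 67 67 11 7 11 11 11 11 11 11 11 11 106 107 25 102 104 115 2 71 26 26 26 0 26 26 26 6 7 7 56 7 56 54 105 7 12 12 12 12 7 8 8 8 14 14 14 14 57 14 66) (@D3.rec (fun _ => Nat) 55 7 8 0 8 0 8 1 2 2 12 2 2 71 3 3 105 12 12 12 12 12 12 12 102 12 12 9 0 9 1 2 2 1 2 9 2 9 105 14 1 98 2 10 2 2 109 99 2 103 10) (@D3.rec (fun _ => Nat) 3 71 60 11 65 65 63 34 61 26 26 26 0 26 1 2 26 13 13 13 13 57 13 57 57 7 8 0 8 0 8 1 2 2 32 2 2 3 3 26 26 26 26 26 26 9 0 9 1 2 2) (@D3.rec (fun _ =>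 Nat) 1 2 26 2 29 26 13 13 13 13 0 13 0 13 1 2 2 12 2 2 3 3 3 9 0 9 1 2 2 1 2 2 12 2 2 3 3 3 12 12 12 3 3 3 4 4 4 26 26 26 26) (@D3.rec (fun _ => Nat) 26 26 26 26 26 0 26 26 0 10 1 2 2 10 2 2 3 3 10 2 3 10 10 3 10 10 56 1 106 2 11 2 2 105 108 11 11 11 104 3 3 103 11 11 3 11 11 12 11 56 73) (@D3.rec (fun _ => Nat) 15 15 15 15 15 15 111 1 101 10 2 62 12 14 14 14 14 14 14 0 1 2 26 2 31 14 14 0 14 14 0 14 1 2 2 1 2 25 2 25 25 0 1 25 2 25 25 1 2 2 11) (@D3.rec (fun _ => Nat) 2 2 103 3 11 11 11 27 3 3 4 11 11 3 11 11 56 11 56 67 12 12 12 99 110 12 12 103 12 58 101 12 5 103 97 102 77 77 77 77 79 100 101 6 6 26 26 75 6 6 26) (@D3.rec (fun _ => Nat) 26 102 77 99 77 97 77 100 7 0 7 1 2 2 26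 26 26 26 8 0 1 2 8 2 75 9 106 104 0 76 6 7 103 7 1 2 7 8 2 3 26 26 77 26 26 7 77 7 77 77 7) (@D3.rec (fun _ => Nat) 26 26 26 101 105 79 8 79 105 79 79 98 74 104 74 74 7 8 0 8 0 8 1 2 2 12 2 2 3 3 3 26 26 26 26 26 26 9 0 9 1 2 2 1 2 9 2 3 9 3 14) (@D3.rec (fun _ => Nat) 100 10 2 98 10 2 77 10 3 77 10 99 65 2 3 65 62 3 25 25 25 25 62 25 60 7 8 0 8 0 8 1 2 12 2 3 9 1 2 1 2 9 2 3 9 9 3 10 2 3 10) (@D3.rec (fun _ => Nat) 2 3 10 10 3 10 10 11 100 109 68 26 26 26 62 26 67 26 25 25 0 25 1 2 7 8 0 8 0 8 1 2 2 63 2 2 3 3 26 26 26 26 9 0 9 1 2 2 1 2 26) (@D3.rec (fun _ => Nat) 2 3 27 26 3 25 25 25 0 25 0 25 1 2 2 12 2 2 72 3 3 9 0 9 1 2 2 1 2 2 12 2 2 3 3 3 12 12 12 3 3 3 4 4 4 26 26 26 26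 26 26) (@D3.rec (fun _ => Nat) 26 0 10 1 2 2 10 2 2 3 3 10 2 3 10 10 3 10 10 12 104 11 2 2 3 3 11 11 11 100 3 3 4 11 11 3 11 11 12 11 56 12 27 6 0 6 6 7 1 2 97) (@D3.rec (fun _ => Nat) 0 27 98 7 1 2 2 7 26 26 2 3 0 27 7 7 99 7 1 2 7 99 101 97 8 8 97 2 3 1 2 7 8 0 8 8 1 2 13 2 2 3 3 3 15 15 15 96 9 99 1) (@D3.rec (fun _ => Nat) 97 2 99 9 2 3 9 9 3 103 99 99 97 2 95 10 3 10 10 26 27 27 78 27 6 7 7 0 7 1 2 7 103 8 0 8 8 1 2 26 2 3 27 0 27 1 75 2 7 8 0) (@D3.rec (fun _ => Nat) 8 100 8 1 2 2 99 2 2 3 3 26 26 26 9 1 2 2 2 3 9 9 3 105 107 10 10 11 75 27 27 0 27 1 2 7 8 0 8 100 8 1 2 70 2 3 9 107 9 1 99) (@D3.rec (fun _ => Nat) 2 101 2 3 26 26 3 27 0 27 1 2 74 2 2 3 3 3 9 0 9 1 2 2 1 2 13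 2 2 3 3 3 75 13 13 3 3 3 4 4 4 15 15 15 15 98 0 10 1 103 2) (@D3.rec (fun _ => Nat) 10 2 2 3 3 10 2 3 10 10 3 10 10 12 108 11 2 2 3 3 11 11 11 12 3 3 4 105 11 3 11 11 106 11 0 12 7 8 58 8 58 8 56 54 9 9 14 14 14 57 14) (@D3.rec (fun _ => Nat) 57 14 57 55 55 53 9 0 9 1 2 2 1 2 2 13 2 2 3 3 3 62 13 3 3 4 26 26 26 0 10 1 2 2 10 2 2 3 10 2 10 10 10 99 11 2 105 109 11 11 11) (@D3.rec (fun _ => Nat) 3 3 100 11 11 3 11 62 12 62 56 12 99 103 61 26 14 106 14 57 14 57 14 57 53 9 0 9 1 2 2 1 2 63 2 3 26 61 3 0 10 1 2 2 26 2 2 3 26 2 29) (@D3.rec (fun _ => Nat) 26 29 108 14 0 14 14 0 14 1 2 2 1 2 2 13 2 2 3 3 3 28 13 13 3 3 3 4 4 4 0 10 1 2 2 13 2 2 3 3 3 13 2 2 3 3 3 13 13 13 3) (@D3.rec (fun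 _ => Nat) 3 3 4 4 4 13 13 13 13 13 4 4 4 54 5 5 5 15 15 15 15 15 1 2 11 2 2 3 3 11 11 11 13 3 3 102 11 11 3 11 11 58 11 54 58 12 12 12 56 103 100) (@D3.rec (fun _ => Nat) 107 15 15 15 1 112 11 2 11 64 66 64 64 58 0 15 15 1 26 2 26 26 27 31 0 15 1 2 2 0 15 1 2 2 25 2 2 3 25 2 25 25 25 1 25 2 25 25 27 25 29) (@D3.rec (fun _ => Nat) 58 58 12 56 58 97 3 28 28 3 3 4 97 16 99 99 103 10 3 10 10 26 2 101 3 97 3 3 4 97 3 95 11 26 11 0 26 3 99 101 101 3 26 26 26 28 28 15 3 3 99) (@D3.rec (fun _ => Nat) 28 28 3 3 4 4 99 28 28 28 28 28 4 4 4 26 103 5 5 105 16 16 105 11 11 13 3 3 4 11 3 11 11 26 11 0 26 103 3 103 103 12 12 4 26 99 12 26 12 0 26) (@D3.rec (fun _ => Nat) 0 1 2 26 101 2 3 103 2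 3 66 63 3 66 61 26 26 2 26 26 26 97 3 3 31 26 3 31 26 26 26 58 26 2 3 26 26 26 99 3 3 3 4 4 4 26 26 26 3 3 3) (@D3.rec (fun _ => Nat) 4 4 26 26 26 26 26 4 4 4 26 5 5 5 26 26 26 26 26 26 56 5 5 5 57 26 6 6 16 16 16 14 14 26 27 62 26 29 26 26 25 25 109 105 25 109 26 104 102 16 16)
def lv_c_10 : D2 → D3 → Nat := @D2.rec (fun _ => D3 → Nat) (@D3.rec (fun _ => Nat) 16 106 16 2 0 15 1 2 25 25 25 25 25 16 104 104 108 107 1 2 1 2 25 2 3 97 76 101 12 12 12 12 12 12 12 12 12 12 12 12 2 74 3 12 12 12 12 57 12 12 12) (@D3.rec (fun _ => Nat) 12 12 12 12 12 12 0 9 2 3 9 3 104 2 3 102 2 3 61 10 3 57 10 26 12 12 5 98 76 101 1 11 6 104 103 5 5 6 0 6 6 24 6 24 24 24 7 7 1 2 27) (@D3.rec (fun _ =>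 Nat) 27 27 96 76 6 98 98 98 102 78 76 78 102 7 1 100 2 98 98 98 13 13 13 2 100 100 102 0 78 6 7 7 0 7 1 2 2 24 7 24 24 24 24 7 8 0 8 103 8 1 2) (@D3.rec (fun _ => Nat) 8 2 3 15 105 9 2 9 9 3 78 27 27 27 75 27 27 96 96 2 3 74 74 6 7 75 7 75 75 98 98 102 13 13 13 101 8 77 100 78 78 76 78 76 76 7 8 0 8 102 8) (@D3.rec (fun _ => Nat) 1 99 2 12 2 2 3 3 3 106 100 102 13 13 13 13 13 13 9 1 2 2 9 76 26 26 26 26 0 26 1 64 2 7 8 0 8 0 8 1 2 2 12 2 2 3 3 24 24 24 24) (@D3.rec (fun _ => Nat) 24 24 9 0 9 1 2 2 1 2 9 2 3 9 9 3 14 1 2 10 2 2 3 3 2 3 10 3 10 10 11 104 65 63 70 61 27 27 27 0 27 1 35 2 27 59 104 2 57 3 3) (@D3.rec (fun _ => Nat) 26 26 26 26 0 26 1 31 2 7 8 0 8 98 8 1 57 2 2 57 55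 3 104 57 104 59 57 57 13 13 13 9 9 1 2 2 3 3 26 26 26 26 0 26 0 26 1 2 2 12 2) (@D3.rec (fun _ => Nat) 2 27 3 3 9 0 9 1 2 2 1 98 2 12 2 2 3 3 3 12 12 12 3 3 3 4 4 4 100 100 102 13 13 13 13 13 13 0 13 13 10 1 2 10 2 2 3 3 10 2 3) (@D3.rec (fun _ => Nat) 10 10 3 10 10 12 11 2 3 11 11 11 3 3 4 11 11 3 11 11 12 11 56 12 27 10 5 10 97 101 100 10 10 10 10 1 2 100 102 26 100 99 2 3 27 27 27 27 27 28 28) (@D3.rec (fun _ => Nat) 5 5 6 0 6 6 6 99 11 11 6 7 7 7 1 2 7 28 28 0 28 6 7 7 105 7 1 104 2 96 7 98 96 11 11 96 11 103 8 8 98 8 100 8 2 3 100 100 101 9 3) (@D3.rec (fun _ => Nat) 76 27 27 0 27 27 28 28 0 28 6 7 7 0 7 1 2 2 7 27 27 27 27 7 8 8 1 2 27 2 3 28 28 28 0 28 1 2 2 7 104 8 101 8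 1 2 2 97 2 2 3) (@D3.rec (fun _ => Nat) 3 3 27 27 27 27 27 27 27 27 2 3 9 9 3 10 10 102 11 6 11 11 97 101 97 100 11 11 11 11 11 11 11 104 101 1 2 8 2 3 102 26 1 102 2 1 2 99 2 3 95) (@D3.rec (fun _ => Nat) 9 3 100 96 27 27 27 78 27 27 27 28 28 28 0 28 6 7 7 0 7 1 103 2 7 99 12 99 12 7 8 0 8 8 1 2 27 2 3 28 28 28 28 0 28 1 2 2 7 8 0) (@D3.rec (fun _ => Nat) 8 100 8 1 97 2 14 2 2 3 3 3 98 12 12 12 104 12 12 98 12 9 100 9 1 2 2 100 9 2 3 9 9 3 99 100 107 10 2 2 3 3 100 2 105 101 10 3 10 10 11) (@D3.rec (fun _ => Nat) 2 102 102 76 74 76 27 27 27 0 27 1 2 27 28 28 28 28 0 28 1 2 2 7 8 0 8 0 8 1 2 2 7 2 2 3 3 27 27 27 27 27 27 9 0 9 1 101 2 1 2) (@D3.rec (fun _ => Nat) 27 2 3 27 27 3 28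 28 28 28 0 28 0 28 1 2 2 76 2 2 79 3 3 9 0 9 1 2 2 1 2 2 99 2 2 3 3 3 76 78 13 3 3 3 4 4 4 27 27 27 27) (@D3.rec (fun _ => Nat) 27 27 27 27 27 0 27 27 10 1 2 2 10 2 2 3 3 2 3 10 10 3 10 10 12 104 106 11 11 11 3 3 4 11 11 11 82 72 66 12 12 12 12 64 12 12 12 12 12 12 12) (@D3.rec (fun _ => Nat) 12 12 63 102 27 27 27 0 27 1 2 27 7 8 58 8 58 8 58 56 56 54 103 102 101 13 13 71 9 9 14 14 14 14 59 14 59 14 66 57 66 55 9 0 9 1 2 2 1 107 2) (@D3.rec (fun _ => Nat) 13 2 2 3 3 3 13 3 3 71 71 4 110 105 13 13 13 13 104 13 13 0 102 13 0 10 1 100 2 10 2 2 3 2 10 101 2 100 108 11 60 12 107 113 63 63 36 61 36 27 27) (@D3.rec (fun _ => Nat) 0 27 0 27 1 2 2 3 14 14 14 14 59 14 59 14 59 59 59 55 9 0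 9 1 2 2 1 2 2 32 2 2 3 3 3 32 3 3 4 27 27 27 27 27 0 0 10 1 2 2 27) (@D3.rec (fun _ => Nat) 2 2 3 2 30 27 30 14 14 0 14 14 0 14 1 2 2 1 2 2 13 2 2 3 3 3 13 3 3 3 4 4 4 0 10 1 2 2 13 2 2 3 3 3 13 2 2 3 3 3 13) (@D3.rec (fun _ => Nat) 13 13 3 3 3 4 4 4 13 27 13 13 4 4 4 54 5 5 5 0 27 27 27 27 27 27 0 27 27 0 1 27 1 2 2 11 2 2 3 3 11 11 11 13 3 3 4 11 11 3 11) (@D3.rec (fun _ => Nat) 11 58 11 56 59 12 2 107 106 12 12 12 12 12 99 12 12 106 101 105 12 12 103 12 58 103 112 15 106 15 15 15 15 0 15 15 1 2 2 27 27 28 15 0 15 1 2 2 15 1 2) (@D3.rec (fun _ => Nat) 26 2 2 3 26 2 26 26 26 1 26 26 26 28 102 2 2 12 28 3 12 12 30 28 4 58 0 12 12 58 12 58 67 13 56 13 60 99 98 100 103 77 27 77 77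 27 102 79 77 106 8) (@D3.rec (fun _ => Nat) 1 2 13 2 2 3 3 3 27 27 27 1 2 9 77 106 101 106 1 2 101 8 103 2 3 3 27 77 27 77 77 8 77 77 77 77 27 27 107 79 107 79 79 79 76 106 76 79 76 76 9) (@D3.rec (fun _ => Nat) 0 9 1 2 2 1 2 13 2 2 3 3 3 13 13 3 3 3 4 4 4 27 27 27 27 27 10 1 2 10 2 2 3 10 2 10 3 10 12 77 11 77 11 77 11 77 81 102 67 64 3) (@D3.rec (fun _ => Nat) 67 62 25 26 26 62 26 68 26 60 58 99 9 1 2 2 1 2 13 2 3 67 13 3 10 2 3 10 2 3 10 10 3 10 10 12 11 11 3 11 11 3 11 11 12 11 58 12 101 107 27)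
def lv_c_11 : D2 → D3 → Nat := @D2.rec (fun _ => D3 → Nat) (@D3.rec (fun _ => Nat) 62 27 67 27 60 58 0 26 0 26 1 2 2 3 9 0 9 1 2 2 1 2 2 65 2 2 3 3 3 63 3 3 4 27 27 27 0 10 1 2 2 27 2 2 3 3 27 2 3 28 27) (@D3.rec (fun _ => Nat) 3 28 27 56 0 26 26 0 26 1 2 2 1 2 13 2 2 3 3 3 13 13 3 3 62 70 4 0 10 1 2 2 13 2 2 3 3 3 13 2 2 3 3 3 13 13 13 3 3 3 4) (@D3.rec (fun _ => Nat) 4 4 13 13 13 13 13 4 4 4 13 5 5 5 27 27 27 27 1 2 11 2 2 3 3 11 11 11 13 3 3 4 11 11 3 11 11 13 11 55 13 111 12 3 3 4 12 12 12 100 4) (@D3.rec (fun _ => Nat) 13 12 12 12 58 79 28 99 7 1 2 27 2 3 1 2 101 2 2 3 3 3 1 2 101 8 8 99 2 3 103 99 99 3 75 2 3 9 1 99 2 99 2 3 75 14 14 3 3 3 100) (@D3.rec (fun _ => Nat) 4 4 16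 96 2 99 3 10 3 10 10 12 101 97 97 11 11 28 79 28 79 8 0 8 102 8 1 2 2 3 9 1 2 27 2 3 27 27 3 0 28 1 2 104 2 77 3 100 9 1 2) (@D3.rec (fun _ => Nat) 2 103 2 2 3 3 3 102 76 102 3 3 4 27 2 2 3 3 3 10 10 12 107 11 82 12 0 28 1 2 76 2 3 9 104 9 1 2 2 105 2 3 75 75 3 107 10 105 2 101 3) (@D3.rec (fun _ => Nat) 105 3 27 27 13 1 2 2 76 2 3 76 76 3 3 3 99 4 0 10 1 2 2 14 2 2 3 3 3 14 2 3 75 14 14 3 3 3 4 4 4 79 75 74 14 14 4 4 4 13 102) (@D3.rec (fun _ => Nat) 5 5 16 16 100 1 2 11 2 105 3 11 11 11 13 3 3 4 11 3 11 11 13 11 0 13 107 105 103 12 3 3 103 12 99 12 12 108 4 99 12 12 0 103 78 1 82 84 9 60 9) (@D3.rec (fun _ => Nat) 60 58 58 56 10 104 16 16 59 16 59 57 59 57 59 57 55 55 0 10 1 2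 2 14 2 2 3 3 3 14 2 2 3 3 3 64 14 3 3 3 4 4 62 14 4 27 27 1 2 11 2) (@D3.rec (fun _ => Nat) 2 3 11 11 11 15 3 11 11 11 12 12 12 62 12 62 62 58 101 103 0 15 59 15 59 59 59 55 0 10 1 2 2 64 2 2 3 3 65 2 3 28 63 3 28 61 1 2 27 2 2) (@D3.rec (fun _ => Nat) 3 27 27 27 99 3 30 27 30 15 1 2 2 0 15 1 2 2 14 2 2 3 3 3 14 2 2 3 3 28 14 14 3 3 3 4 4 4 28 14 14 4 4 4 5 5 5 1 2 2 14) (@D3.rec (fun _ => Nat) 2 2 3 3 3 14 14 14 14 3 3 3 4 4 4 14 14 14 3 3 3 105 4 4 14 14 14 14 14 4 4 4 56 5 5 5 14 14 14 14 14 54 5 5 5 55 56 6 6 16 16) (@D3.rec (fun _ => Nat) 16 2 103 99 3 3 12 97 14 14 60 12 60 12 56 60 109 102 106 17 64 1 2 28 1 2 2 26 2 2 3 3 1 2 26 2 2 3 26 26 26 4 3 26 26 26 30 30 60 60 60)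 (@D3.rec (fun _ => Nat) 27 29 4 99 11 11 0 27 3 97 4 27 100 101 27 97 0 27 109 1 104 27 101 27 27 85 27 29 29 4 4 5 101 29 29 29 29 29 85 5 5 79 27 97 12 12 14 14 4 12 12) (@D3.rec (fun _ => Nat) 0 27 81 1 85 27 105 27 105 105 13 0 27 103 0 27 105 1 104 27 1 102 2 86 27 106 103 3 105 105 3 68 63 27 63 58 27 27 27 97 27 27 97 99 27 27 60 27 3 27 27) (@D3.rec (fun _ => Nat) 27 27 99 97 99 4 4 4 27 5 5 0 27 27 27 4 4 5 27 27 27 27 27 27 5 5 5 57 27 6 6 27 27 27 27 27 27 0 6 6 57 57 17 15 15 27 28 27 106 1 2) (@D3.rec (fun _ => Nat) 112 2 3 26 26 26 104 103 2 3 2 3 26 3 13 13 13 13 13 13 13 13 13 13 13 13 0 3 69 13 13 13 64 13 13 13 13 13 13 13 13 0 1 10 3 10 104 104 3 107 102) (@D3.rec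 (fun _ => Nat) 3 61 11 27 59 0 27 99 101 7 105 7 1 2 2 25 25 25 25 25 2 76 28 98 78 98 98 100 100 99 78 76 76 104 2 100 98 3 100 98 98 96 14 14 101 106 101 80 1 2 80) (@D3.rec (fun _ => Nat) 7 8 0 8 98 8 1 2 2 14 2 2 3 3 25 25 25 25 25 25 9 1 2 9 2 9 9 3 10 10 10 10 104 28 28 75 28 75 75 98 102 3 75 8 75 80 75 75 99 82 81) (@D3.rec (fun _ => Nat) 98 14 81 80 78 80 102 80 78 78 77 78 78 102 9 1 2 2 104 2 105 104 3 13 3 3 3 4 4 4 108 104 106 100 14 79 0 14 14 2 27 27 27 27 0 27 0 27 1 64 2) (@D3.rec (fun _ => Nat) 2 62 3 9 0 9 1 2 2 1 2 2 13 2 2 3 3 3 13 3 3 4 25 25 25 25 25 0 10 1 2 10 2 2 3 3 2 3 10 3 10 10 12 2 3 11 11 3 3 4 3) (@D3.rec (fun _ => Nat) 11 12 11 70 12 111 108 65 72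 63 72 28 28 0 28 0 28 1 35 2 2 35 3 102 57 104 3 57 27 27 0 27 98 27 1 33 2 2 33 3 9 100 9 1 2 2 100 2 98 55 3) (@D3.rec (fun _ => Nat) 3 57 55 53 57 104 57 59 57 55 54 14 14 10 2 3 3 58 27 0 27 27 0 27 1 2 2 1 96 2 13 2 2 3 3 3 13 3 3 27 27 4 102 10 1 2 2 13 2 2 3) (@D3.rec (fun _ => Nat) 3 3 13 2 98 98 3 13 13 13 3 3 3 4 4 4 13 13 13 4 4 4 13 5 5 5 0 100 100 100 14 14 14 0 14 14 0 1 14 11 2 3 11 11 11 98 3 3 4 11 11) (@D3.rec (fun _ => Nat) 3 11 11 13 11 52 13 12 12 3 12 12 12 12 4 13 12 12 13 12 56 13 11 11 99 11 11 11 2 3 100 100 99 3 28 28 98 28 28 28 29 29 0 29 6 7 7 103 7 1 104) (@D3.rec (fun _ => Nat) 2 7 99 12 101 8 8 8 2 3 104 29 1 103 2 8 100 8 106 8 100 103 2 99 97 3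 98 100 96 12 96 98 100 9 3 101 10 74 76 98 28 1 2 29 0 29 1 2 2 7 99) (@D3.rec (fun _ => Nat) 8 100 8 1 104 2 7 2 2 3 3 28 28 28 28 28 2 3 28 3 29 104 29 102 29 1 105 2 76 2 2 99 3 3 104 106 105 2 2 3 3 98 79 100 3 3 3 98 4 4 28)
def lv_c_12 : D2 → D3 → Nat := @D2.rec (fun _ => D3 → Nat) (@D3.rec (fun _ => Nat) 28 28 28 0 3 10 10 12 11 85 12 12 99 84 12 12 12 12 12 12 87 103 2 3 9 3 102 2 104 105 2 102 99 3 84 82 26 102 78 28 28 28 78 28 78 28 29 29 29 0 29) (@D3.rec (fun _ => Nat) 1 73 2 7 8 0 8 96 8 1 99 2 78 2 99 3 99 99 13 83 9 9 1 2 2 3 28 3 29 29 0 29 100 29 1 97 2 15 2 2 78 3 3 9 100 9 1 2 2 100 15) (@D3.rec (fun _ => Nat) 2 97 97 3 15 15 15 3 3 3 4 4 4 100 106 13 13 100 13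 0 102 10 100 100 10 2 2 3 3 100 10 3 10 10 12 100 108 101 111 11 3 3 107 100 101 11 84 82 78 78 76) (@D3.rec (fun _ => Nat) 78 76 28 0 28 102 28 1 2 7 2 3 29 29 29 0 29 0 29 1 2 2 76 2 2 3 3 9 0 9 1 2 2 1 104 2 8 2 2 3 3 3 77 101 8 3 3 4 28 28 28) (@D3.rec (fun _ => Nat) 28 28 0 10 1 101 2 28 2 101 3 28 2 3 28 28 3 28 28 13 29 0 29 29 0 29 1 2 2 1 100 2 78 2 2 3 3 3 78 3 3 99 79 4 102 10 1 2 2 101 2) (@D3.rec (fun _ => Nat) 2 3 3 3 2 2 3 3 3 98 79 102 3 3 3 4 4 4 76 79 14 4 4 4 13 100 5 5 0 28 28 28 28 28 0 28 28 0 1 2 2 3 3 11 11 11 13 3 3 4 3) (@D3.rec (fun _ => Nat) 11 11 13 11 82 13 108 12 12 12 12 4 112 12 13 13 13 13 13 13 13 13 13 65 28 0 28 0 28 1 2 2 3 9 58 9 58 56 58 56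 58 56 54 54 105 104 101 64 62 10 16) (@D3.rec (fun _ => Nat) 0 16 16 59 16 59 57 63 57 63 61 55 59 0 10 1 2 2 14 2 2 3 3 3 2 105 108 3 14 3 3 3 66 4 4 14 4 73 73 62 0 107 107 102 102 14 14 0 104 14 71) (@D3.rec (fun _ => Nat) 1 104 1 2 2 100 11 15 3 100 36 63 98 63 36 36 28 0 28 1 2 2 1 2 2 3 3 15 0 15 100 98 15 59 59 59 59 59 59 55 55 0 10 1 2 2 34 2 2 3 3) (@D3.rec (fun _ => Nat) 3 2 2 3 3 3 34 3 3 3 4 4 34 4 0 28 28 28 28 0 1 1 2 2 2 2 3 28 28 28 99 3 31 15 0 15 1 2 2 0 15 1 2 2 14 2 2 3 3 3 14) (@D3.rec (fun _ => Nat) 2 2 3 3 3 14 3 3 3 4 4 4 14 4 4 4 5 5 5 0 1 2 2 14 2 2 3 3 3 14 14 14 14 3 3 3 4 4 4 14 98 14 3 3 3 4 4 4 14 14 14) (@D3.rec (fun _ => Nat) 14 4 4 4 54 5 5 5 0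 14 29 29 14 54 5 5 5 0 59 6 6 0 1 28 28 28 0 28 28 0 1 28 0 1 14 12 2 2 3 3 12 12 12 14 3 3 105 12 12 99 12) (@D3.rec (fun _ => Nat) 12 18 14 4 58 0 12 12 58 12 56 61 13 13 13 101 56 13 58 109 17 101 17 16 1 2 2 28 29 16 1 2 27 2 2 3 3 27 2 27 27 27 4 3 27 27 31 31 58 13 56) (@D3.rec (fun _ => Nat) 31 29 0 58 1 13 58 63 63 103 105 77 77 77 79 104 2 3 14 14 3 3 3 4 4 103 106 103 2 3 103 105 105 3 12 79 28 79 79 79 79 79 79 79 79 28 101 81 76 76 76) (@D3.rec (fun _ => Nat) 81 81 76 105 10 1 2 2 14 2 2 3 3 3 14 2 3 14 14 3 3 3 4 4 4 14 14 4 4 4 13 102 5 5 28 28 2 11 13 3 11 11 99 79 79 79 67 62 26 62 62) (@D3.rec (fun _ => Nat) 26 0 27 106 27 64 62 62 60 108 105 14 2 2 3 3 14 2 3 61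 14 3 59 14 13 11 11 3 11 11 3 11 11 13 11 55 13 12 12 13 12 12 12 58 101 64 28 64 62 62 60) (@D3.rec (fun _ => Nat) 1 2 2 1 2 2 3 3 0 10 1 2 2 65 2 2 3 3 3 65 2 2 3 3 3 63 3 3 3 4 4 61 4 56 28 1 2 28 2 2 3 3 28 28 28 106 3 3 4 29 28) (@D3.rec (fun _ => Nat) 3 29 28 58 28 56 58 1 2 2 0 27 1 2 2 14 2 2 3 3 3 14 2 3 14 14 3 3 3 62 4 4 14 14 4 58 62 60 74 1 2 2 14 2 2 3 3 3 14 14 14) (@D3.rec (fun _ => Nat) 14 3 3 3 4 4 4 14 14 14 3 3 3 4 4 14 14 14 14 14 4 4 4 14 5 5 5 14 14 14 14 14 53 5 5 5 59 58 6 6 28 2 3 12 100 3 3 4 12 108 12) (@D3.rec (fun _ => Nat) 12 80 14 4 14 12 12 14 12 55 14 13 4 13 13 58 13 80 99 2 3 28 3 2 3 101 3 3 4 12 2 3 106 99 3 99 13 77 3 2 99 3 101 3 75 15 15 4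 4 13 104) (@D3.rec (fun _ => Nat) 5 3 99 11 103 11 104 13 97 80 29 80 80 99 9 1 2 2 99 2 3 3 28 2 3 28 3 28 28 13 1 2 2 2 3 104 3 77 113 106 2 2 3 3 3 105 3 3 3 4 4) (@D3.rec (fun _ => Nat) 106 71 99 4 13 14 3 3 4 13 11 92 13 1 2 2 2 3 78 3 104 10 105 105 2 2 3 3 107 3 77 72 14 106 107 3 101 14 28 84 14 76 2 2 3 3 76 3 76 76 4) (@D3.rec (fun _ => Nat) 14 1 2 2 105 2 2 3 3 77 15 15 14 3 3 3 4 4 4 15 3 77 15 15 15 4 4 4 14 104 5 5 79 77 74 15 0 5 5 79 14 102 6 100 2 3 12 3 12 99 12) (@D3.rec (fun _ => Nat) 12 14 14 4 14 12 111 12 0 14 80 1 82 14 103 103 13 103 13 101 13 107 80 1 82 62 10 60 58 58 56 56 108 107 61 16 59 57 59 57 55 57 55 57 55 1 2 2 107 2 2) (@D3.rec (fun _ => Nat)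 3 3 3 15 15 15 3 3 3 4 4 64 15 3 3 3 107 4 4 64 62 15 4 4 5 60 57 28 2 12 110 3 12 104 12 15 12 64 64 1 2 2 59 59 59 55 55 1 2 2 65) (@D3.rec (fun _ => Nat) 2 2 3 3 30 65 63 99 3 3 4 28 63 3 28 61 28 2 28 3 28 99 28 97 99 31 15 2 2 3 3 1 2 2 15 2 2 3 3 30 15 15 4 3 3 3 4 4 4 30 113) (@D3.rec (fun _ => Nat) 15 3 3 4 30 15 15 15 4 4 4 5 5 5 30 15 5 5 5 57 6 6 2 2 3 3 3 15 15 99 3 3 3 107 4 4 15 15 99 15 15 15 105 15 15 4 4 4 56 5 5)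
def lv_c_13 : D2 → D3 → Nat := @D2.rec (fun _ => D3 → Nat) (@D3.rec (fun _ => Nat) 5 0 15 15 15 15 15 4 4 59 107 107 5 15 15 15 15 15 15 54 5 5 5 57 56 6 6 15 15 15 15 0 6 6 57 57 7 17 105 61 20 15 60 60 60 101 2 3 29 27 2) (@D3.rec (fun _ => Nat) 2 3 3 27 27 27 4 3 3 4 2 27 6 3 27 0 27 5 5 27 31 60 60 28 106 83 1 85 28 28 105 103 103 1 110 28 30 5 30 30 81 81 99 13 15 15 103 83 1 85 28) (@D3.rec (fun _ => Nat) 28 105 105 0 1 2 103 1 104 28 86 103 103 28 107 105 28 63 60 28 99 97 99 28 28 28 28 28 28 30 101 99 101 99 101 5 5 0 28 6 0 1 28 28 5 59 28 28 28 28 0) (@D3.rec (fun _ => Nat) 6 6 59 59 28 28 28 28 28 59 1 59 16 109 2 3 106 3 27 105 3 3 27 113 14 14 106 14 14 14 14 1 28 14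 14 64 14 14 14 14 14 14 106 1 63 11 106 106 104 104 28) (@D3.rec (fun _ => Nat) 59 0 1 99 103 100 104 2 2 3 3 26 26 76 78 100 100 102 78 78 104 3 100 105 100 102 100 0 103 100 101 101 15 2 80 78 105 9 1 2 2 100 98 15 2 2 3 3 3 15 15) (@D3.rec (fun _ => Nat) 15 3 3 4 26 26 26 26 0 2 10 10 10 10 11 11 77 29 77 77 77 83 77 77 77 80 80 77 101 81 100 83 102 80 78 78 102 78 78 78 79 79 78 102 104 2 2 104 3 3 104) (@D3.rec (fun _ => Nat) 3 105 106 106 14 4 4 4 102 5 5 0 102 105 106 0 102 79 79 1 28 0 28 28 0 28 1 2 2 1 66 2 2 64 64 3 3 62 101 10 1 2 2 14 2 2 3 3 3 2 2) (@D3.rec (fun _ => Nat) 3 3 3 14 3 3 3 4 4 14 4 13 0 26 26 26 26 0 1 2 3 11 11 101 3 3 4 3 11 13 11 63 13 3 12 12 4 13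 13 65 13 110 65 63 72 63 72 61 29 0 29) (@D3.rec (fun _ => Nat) 1 2 2 1 2 2 37 37 3 3 37 104 59 56 81 28 98 28 1 2 2 98 2 33 33 3 3 33 100 10 104 100 2 2 100 3 3 100 3 55 104 55 56 59 57 55 54 110 55 59 56) (@D3.rec (fun _ => Nat) 59 57 53 15 3 58 0 28 1 2 2 102 28 1 2 2 14 2 2 3 3 3 14 2 98 98 3 14 3 3 3 31 4 4 14 4 14 29 29 29 0 102 102 14 2 2 100 3 3 14 14) (@D3.rec (fun _ => Nat) 14 109 3 3 3 4 4 4 14 14 3 100 100 100 14 14 14 14 4 4 4 14 5 5 5 0 14 14 52 5 5 5 14 6 6 51 1 102 102 102 0 15 15 0 1 15 0 1 14 12 12) (@D3.rec (fun _ => Nat) 3 12 12 106 12 12 105 104 4 14 12 12 14 12 54 14 72 59 13 13 108 13 13 13 56 13 58 104 12 99 12 105 3 82 29 105 29 100 104 30 1 105 2 8 98 8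 8 98 2 101 3) (@D3.rec (fun _ => Nat) 101 3 100 105 2 101 102 3 100 100 102 103 3 99 99 98 0 10 12 86 76 100 7 2 3 105 30 1 2 105 2 2 3 3 104 103 2 106 102 3 8 3 3 4 29 29 0 29 3 29 13) (@D3.rec (fun _ => Nat) 104 102 2 103 3 78 3 3 101 4 101 106 102 3 3 4 100 80 102 4 4 13 102 5 0 104 0 1 111 11 104 13 13 99 13 13 13 103 3 82 78 29 80 29 102 29 80 80 30 0 30) (@D3.rec (fun _ => Nat) 98 30 1 101 2 2 75 3 9 98 9 1 2 2 98 2 101 101 3 80 3 101 101 101 91 10 2 3 3 13 0 30 102 30 1 2 2 100 103 2 99 99 3 80 3 3 101 80 4 104 10) (@D3.rec (fun _ => Nat) 115 102 103 2 2 102 3 3 102 16 3 99 99 99 16 16 16 4 4 4 13 5 5 0 104 14 0 108 83 1 102 102 11 14 3 3 4 11 13 83 13 103 109 12 86 76 78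 78 76 76 102) (@D3.rec (fun _ => Nat) 29 1 2 2 102 8 2 3 8 3 30 0 30 0 30 1 2 2 1 2 103 2 2 3 3 3 76 3 3 4 103 10 1 2 2 9 2 2 3 3 3 2 104 104 3 101 9 3 3 3 4) (@D3.rec (fun _ => Nat) 4 77 101 9 4 14 0 29 29 29 29 0 1 29 2 103 3 29 3 103 29 3 29 29 14 29 0 83 0 30 1 2 2 104 30 1 2 2 78 2 2 3 3 3 2 106 106 3 78 3 3) (@D3.rec (fun _ => Nat) 3 101 4 4 78 4 14 99 81 0 104 104 2 2 3 3 3 103 114 107 14 3 3 3 4 4 4 3 3 3 4 4 100 81 80 104 4 4 4 14 102 5 5 0 78 80 80 5 5 0 14) (@D3.rec (fun _ => Nat) 100 6 84 1 29 108 29 29 0 1 0 1 15 14 3 3 4 12 12 109 12 12 18 14 4 14 0 102 12 110 14 13 13 13 14 14 14 87 106 29 1 2 2 1 2 2 3 3 60 10 60) (@D3.rec (fun _ => Nat) 58 60 58 56 58 56 58 56 62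 104 66 64 108 16 1 2 2 61 16 61 59 63 59 57 63 61 57 61 59 73 1 2 2 2 2 109 3 3 15 15 15 3 3 3 66 4 4 3 106 107 15) (@D3.rec (fun _ => Nat) 4 4 66 64 5 0 73 62 67 1 100 100 114 104 15 0 1 106 65 2 15 98 100 38 38 98 38 98 29 1 2 2 2 2 3 3 2 3 3 15 107 16 1 2 2 98 100 98 60 61 61) (@D3.rec (fun _ => Nat) 57 61 61 58 61 57 0 1 2 2 2 2 3 3 3 34 34 101 3 3 3 4 4 3 3 3 4 4 4 34 4 4 5 0 0 1 29 29 0 0 1 2 2 3 101 3 29 29 0 29 99) (@D3.rec (fun _ => Nat) 101 104 16 1 2 2 15 2 2 3 3 3 1 2 2 15 2 2 3 3 3 15 15 4 3 3 3 4 4 4 15 3 3 3 4 4 4 15 4 4 4 5 5 5 0 5 5 5 57 6 6) (@D3.rec (fun _ => Nat) 0 1 102 2 2 3 3 3 15 15 15 15 3 3 3 4 4 4 15 15 99 15 15 15 15 17 15 4 4 4 56 5 5 5 0 15 98 98 15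 4 4 4 56 5 5 5 0 15 29 15 15) (@D3.rec (fun _ => Nat) 56 5 5 5 0 59 6 6 0 1 29 29 29 53 6 6 55 1 57 7 0 1 15 29 29 0 1 29 0 1 2 15 0 1 55 104 101 3 3 13 105 15 15 60 13 13 99 54 19 15 0) (@D3.rec (fun _ => Nat) 60 1 13 58 61 61 111 108 2 3 30 28 2 3 28 28 28 4 3 3 4 28 28 114 28 106 5 32 32 60 56 32 0 1 2 63 103 79 79 106 3 15 15 4 4 5 103 103 103 3 103)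
def lv_c_14 : D2 → D3 → Nat := @D2.rec (fun _ => D3 → Nat) (@D3.rec (fun _ => Nat) 105 13 79 79 79 79 79 79 79 79 78 78 81 81 104 104 2 2 3 3 15 15 14 3 3 3 4 4 4 15 3 15 15 15 4 4 4 103 5 5 15 5 5 79 104 6 14 64 64 1 2) (@D3.rec (fun _ => Nat) 2 105 103 62 60 60 108 105 63 15 15 3 3 4 63 15 3 61 15 14 59 55 12 12 14 12 12 14 12 57 14 13 60 13 64 62 62 60 60 2 2 3 3 2 3 3 56 1 2 2 65) (@D3.rec (fun _ => Nat) 2 2 3 3 3 65 63 106 3 3 3 4 4 65 3 3 3 4 4 63 4 4 56 5 57 56 56 29 2 3 29 106 3 3 4 29 84 29 29 106 4 58 30 29 58 29 56 58 58 15 2) (@D3.rec (fun _ => Nat) 2 3 3 1 2 2 15 2 2 3 3 15 15 4 3 3 3 64 4 4 15 3 15 15 15 4 4 58 62 5 15 53 62 60 2 2 3 3 3 15 15 102 3 3 3 4 4 15 15 105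 15) (@D3.rec (fun _ => Nat) 15 15 15 80 15 4 4 4 15 5 5 5 0 15 15 15 15 15 4 4 15 5 15 15 15 15 15 15 55 5 5 5 61 58 6 6 15 15 15 15 71 6 6 55 7 3 13 102 102 4 101) (@D3.rec (fun _ => Nat) 13 105 103 13 57 82 15 102 15 13 102 15 15 81 101 3 29 13 3 4 13 13 3 106 14 14 77 14 3 101 101 107 77 16 107 5 79 14 105 103 80 84 14 82 81 81 115 106 2 2 3) (@D3.rec (fun _ => Nat) 3 107 3 14 29 3 29 14 84 14 2 2 3 3 3 105 14 106 108 16 3 3 3 4 4 4 4 14 5 103 71 90 79 14 106 16 4 14 14 14 2 2 3 3 3 78 81 107 105 105 107) (@D3.rec (fun _ => Nat) 3 3 4 15 77 82 15 109 15 15 78 78 107 3 3 4 78 15 78 78 15 2 2 109 3 3 110 106 3 3 4 77 77 99 16 16 16 15 15 4 4 4 15 107 5 5 0 16 105 77 16) (@D3.rec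 (fun _ => Nat) 16 0 5 5 79 15 104 6 81 80 76 79 1 86 6 79 15 3 13 103 13 99 13 102 20 15 102 15 109 82 1 84 15 15 107 105 62 60 60 58 58 107 111 61 59 59 57 59 57 57 57) (@D3.rec (fun _ => Nat) 2 2 3 3 3 112 105 115 3 3 3 107 4 4 103 65 16 16 17 17 4 4 5 0 65 64 16 4 4 111 5 63 62 5 57 59 109 109 17 2 2 3 3 61 60 57 2 2 113 3 3) (@D3.rec (fun _ => Nat) 66 64 3 3 4 32 30 99 64 62 99 101 4 0 30 63 30 99 99 101 16 16 16 4 3 3 4 2 2 3 3 3 16 16 103 3 3 4 30 30 0 16 16 16 105 5 5 4 4 4 5) (@D3.rec (fun _ => Nat) 5 5 0 30 107 16 4 30 16 16 5 5 5 57 6 6 0 6 6 57 7 3 3 3 105 4 4 16 16 16 103 4 4 59 107 107 5 0 16 16 16 103 101 16 16 16 56 101 99 101 20) (@D3.rec (fun _ => Nat) 16 5 5 5 0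 58 6 6 0 1 16 16 16 16 16 5 57 59 107 107 16 16 16 16 0 6 6 57 57 58 7 16 16 57 1 7 57 21 62 62 3 28 28 6 3 3 4 28 107 28 28) (@D3.rec (fun _ => Nat) 5 5 4 113 7 1 2 6 6 61 29 99 101 16 101 87 29 1 105 2 105 60 29 29 29 99 99 29 29 29 31 101 109 101 99 101 99 101 6 0 1 2 29 1 31 59 29 29 0 1 59) (@D3.rec (fun _ => Nat) 59 59 29 59 3 108 113 112 0 15 15 15 15 63 61 104 104 1 101 78 100 107 3 3 4 0 78 104 78 103 107 0 81 1 106 105 101 101 80 80 105 104 2 2 3 3 3 100 100 102 101) (@D3.rec (fun _ => Nat) 101 16 3 3 3 4 4 16 16 16 4 0 27 27 0 1 11 11 77 77 77 77 84 77 77 82 82 81 104 104 80 80 80 104 79 80 80 79 79 80 104 106 3 3 108 106 4 102 104 108 0) (@D3.rec (fun _ => Nat) 5 5 102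 6 79 1 102 108 0 1 81 15 110 29 1 2 2 101 29 1 2 2 2 2 66 3 3 2 66 64 3 3 64 62 14 0 101 101 2 2 3 3 3 15 15 103 3 3 3 4 4) (@D3.rec (fun _ => Nat) 3 3 3 111 4 4 15 4 4 14 5 0 61 0 14 1 27 27 0 0 1 60 3 103 12 12 103 103 4 14 14 63 14 13 65 65 110 67 65 74 63 0 30 1 2 2 2 2 37 3 3) (@D3.rec (fun _ => Nat) 2 3 3 37 37 56 54 59 56 79 81 100 100 2 2 35 3 3 100 3 35 35 58 52 102 102 102 102 3 3 57 102 4 58 100 55 55 54 57 55 51 108 57 56 57 53 60 1 2 2 15) (@D3.rec (fun _ => Nat) 2 2 3 3 3 104 100 15 2 2 98 3 3 15 15 4 3 3 3 31 4 4 15 3 98 98 98 15 4 4 15 113 29 5 0 60 15 29 29 52 1 104 104 104 15 15 15 3 3 100 100) (@D3.rec (fun _ => Nat) 4 15 15 111 15 15 15 104 109 4 4 4 15 5 5 5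 0 15 15 15 100 100 100 0 15 15 15 52 5 5 5 15 6 6 0 1 50 74 6 6 15 7 51 15 102 102 0 1 16 0 1) (@D3.rec (fun _ => Nat) 2 15 0 1 13 13 15 103 13 13 107 106 13 54 102 106 100 15 13 54 15 64 15 61 14 58 14 107 100 102 2 99 3 100 98 3 101 110 13 100 105 3 99 101 102 100 107 13 101 0 83) (@D3.rec (fun _ => Nat) 1 102 13 76 100 8 3 100 2 3 101 3 3 4 104 100 3 105 102 9 4 14 0 30 1 0 111 108 106 3 106 78 4 14 103 0 108 4 108 109 100 81 102 5 0 14 104 86 1 1 16) (@D3.rec (fun _ => Nat) 14 102 30 109 80 102 80 98 31 1 2 2 100 2 101 101 3 3 75 98 10 101 98 2 2 114 3 3 98 3 101 101 80 14 89 101 101 3 14 1 2 2 104 104 104 2 2 107 3 3 100) (@D3.rec (fun _ => Nat) 103 3 103 104 101 86 4 14 103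 80 0 107 106 106 102 103 103 16 3 3 108 106 4 17 14 99 99 0 17 17 82 5 5 14 6 83 1 106 0 1 83 12 16 4 14 110 14 86 78 78 78) (@D3.rec (fun _ => Nat) 102 104 9 2 2 3 3 104 9 3 9 83 104 31 1 2 2 1 2 2 105 2 2 3 3 3 2 3 103 3 3 3 4 4 78 4 15 0 103 103 2 2 108 3 3 105 10 10 3 3 3) (@D3.rec (fun _ => Nat) 4 4 3 108 106 105 10 4 4 15 5 0 79 105 0 0 81 1 30 30 0 1 30 3 103 30 15 30 0 107 1 85 1 2 2 85 2 2 3 3 3 105 105 2 2 111 3 3 80 80 4)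
def lv_c_15 : D2 → D3 → Nat := @D2.rec (fun _ => D3 → Nat) (@D3.rec (fun _ => Nat) 3 3 3 110 4 4 3 106 106 80 4 4 15 101 5 0 80 82 15 103 81 1 113 104 108 15 3 3 3 4 4 114 105 114 81 107 107 15 17 15 4 4 4 15 109 5 5 0 4 4 102) (@D3.rec (fun _ => Nat) 5 108 108 81 81 106 5 5 0 15 102 6 0 1 81 85 6 84 1 81 94 104 86 108 0 1 2 16 1 15 15 4 102 109 13 13 99 110 13 111 19 15 0 15 1 15 14 15 104 107 2) (@D3.rec (fun _ => Nat) 2 3 3 2 3 3 15 62 58 58 56 58 56 56 56 62 111 64 115 110 2 2 81 3 3 63 59 65 59 57 63 57 63 61 61 60 2 2 111 3 3 3 3 108 4 16 16 17 4 4 66) (@D3.rec (fun _ => Nat) 66 5 0 110 112 5 66 64 0 1 64 64 109 112 104 66 1 2 65 17 100 100 38 38 100 100 100 2 2 3 3 16 3 3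 4 3 16 106 104 2 2 3 3 3 100 100 104 100 60 61 57) (@D3.rec (fun _ => Nat) 60 61 60 57 0 1 2 2 3 3 3 101 3 3 3 4 4 4 0 36 36 101 99 101 4 4 5 0 4 4 4 5 5 0 5 0 0 1 1 30 0 1 1 2 3 101 80 30 1 2 99) (@D3.rec (fun _ => Nat) 101 102 104 16 2 2 3 3 3 16 16 16 4 3 3 3 4 4 4 2 2 102 3 3 16 16 3 3 3 4 4 4 102 16 16 5 5 5 4 4 4 106 5 5 0 16 4 4 4 108 5) (@D3.rec (fun _ => Nat) 5 0 5 5 5 59 6 6 0 1 6 6 7 0 1 56 104 104 101 3 3 3 4 4 4 16 16 104 100 16 16 16 16 16 4 4 4 61 5 5 5 0 16 16 101 101 31 16 16 56 103) (@D3.rec (fun _ => Nat) 16 16 18 16 5 5 5 0 56 6 6 0 1 16 100 100 56 5 5 5 0 61 6 6 0 1 109 31 16 53 6 6 0 1 59 61 7 0 1 2 16 31 31 7 57 70 0 1 56 30 0) (@D3.rec (fun _ => Nat) 1 2 16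 0 1 2 16 2 57 1 101 106 20 16 60 101 56 20 0 1 2 63 3 29 3 29 29 29 5 4 110 107 109 6 0 1 2 2 3 16 5 79 105 105 107 81 81 81 81 81 78) (@D3.rec (fun _ => Nat) 83 106 110 3 3 4 16 16 16 15 15 4 4 4 5 5 0 16 16 16 5 5 81 6 81 6 77 104 15 2 2 3 3 101 103 62 110 63 61 16 16 4 15 0 61 16 15 59 55 13 57) (@D3.rec (fun _ => Nat) 15 13 102 15 15 64 62 62 79 3 3 4 3 58 67 2 2 102 3 3 67 65 108 3 3 3 4 4 84 65 63 109 108 4 4 58 5 0 63 4 4 58 5 57 5 58 58 58 30 3 30) (@D3.rec (fun _ => Nat) 108 4 60 30 86 30 58 108 108 60 30 59 102 60 60 16 16 16 4 3 3 4 2 2 3 3 16 16 104 3 3 4 101 16 16 16 102 78 5 4 4 60 62 5 0 16 60 16 16 53 5) (@D3.rec (fun _ => Nat) 60 60 3 3 3 4 4 16 16 16 111 102 106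 4 4 101 5 0 16 16 16 105 111 107 16 16 16 55 114 82 16 80 16 5 5 5 0 16 6 6 0 1 16 16 16 16 16 102 5 61 60) (@D3.rec (fun _ => Nat) 16 16 16 16 61 6 6 61 60 7 51 16 16 7 57 101 103 108 102 110 110 111 105 91 57 82 102 102 16 16 14 87 14 14 79 14 14 82 15 79 15 103 111 101 80 84 15 82 82 110 109) (@D3.rec (fun _ => Nat) 3 3 4 15 15 30 15 87 15 107 3 3 4 15 90 15 108 16 106 16 4 4 15 5 0 5 81 15 83 81 15 110 16 64 15 15 15 112 3 3 4 82 82 109 108 109 4 16 0 16 16) (@D3.rec (fun _ => Nat) 16 78 78 112 106 4 16 0 78 16 84 3 3 105 4 106 107 4 112 0 79 79 101 17 17 109 20 16 5 5 0 16 109 6 0 1 106 80 17 1 84 6 81 16 16 101 111 112 82 101 92) (@D3.rec (fun _ => Nat) 102 21 103 104 16 88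 16 64 60 58 58 0 111 59 57 57 57 0 3 3 3 113 4 4 66 110 102 107 108 4 4 109 5 0 104 103 64 17 17 17 5 0 0 1 64 62 5 59 111 62 61) (@D3.rec (fun _ => Nat) 59 111 110 3 3 4 62 0 3 3 105 4 65 63 4 0 30 30 101 63 99 101 0 1 30 101 99 80 17 113 17 17 5 5 4 111 0 3 3 3 4 4 17 17 109 4 0 32 32 1 103) (@D3.rec (fun _ => Nat) 2 17 17 105 105 105 6 6 5 5 5 0 6 6 0 1 32 107 59 17 0 6 6 59 7 1 7 59 4 4 110 5 0 17 17 107 5 0 61 109 109 0 1 17 17 99 99 17 17 0 111) (@D3.rec (fun _ => Nat) 103 101 103 21 0 6 6 0 1 2 58 7 0 1 17 17 17 17 0 59 59 62 109 17 17 0 1 7 59 59 59 17 59 102 62 63 29 29 7 4 29 114 29 0 6 6 103 113 8 2 3) (@D3.rec (fun _ => Nat) 7 101 101 30 30 32 101 111 103 101 103 101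 109 1 2 115 2 3 61 61 1 2 61 61 112 0 1 16 105 102 4 0 1 80 105 81 1 16 108 108 80 101 105 80 109 105 109 3 3 3 4) (@D3.rec (fun _ => Nat) 4 100 102 103 103 103 17 4 4 5 0 17 17 1 0 1 79 79 82 79 82 104 104 80 80 81 80 80 81 82 106 4 104 110 108 0 104 109 0 1 6 104 81 93 83 1 2 16 110 110 112) (@D3.rec (fun _ => Nat) 2 2 3 3 3 103 109 2 2 66 3 3 4 3 3 64 4 3 66 64 64 15 62 0 15 1 107 103 3 3 3 111 4 4 103 16 16 103 103 103 4 4 15 5 0 4 4 15 113 5 0) (@D3.rec (fun _ => Nat) 63 5 0 15 0 1 1 52 15 28 0 1 1 2 60 15 81 103 13 65 101 103 109 15 15 15 67 65 65 63 63 1 2 2 2 2 3 3 110 3 3 39 4 3 56 39 56 58 81 81 83) (@D3.rec (fun _ => Nat) 100 100 79 3 3 35 4 58 35 54 102 102 102 102 4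 58 102 55 106 0 102 57 56 57 53 59 55 58 55 60 16 2 2 3 3 3 16 16 16 4 3 3 3 4 4 104 100 102 16 16 6) (@D3.rec (fun _ => Nat) 3 3 100 100 4 103 16 16 83 80 5 4 4 16 108 31 5 0 16 16 100 100 0 60 5 16 106 31 0 1 31 54 102 104 104 16 16 16 16 4 16 102 102 102 0 103 16 16 105 109 16) (@D3.rec (fun _ => Nat) 16 54 102 109 5 5 5 0 16 6 6 0 1 16 54 16 102 102 0 1 52 16 63 6 6 16 7 53 1 2 16 7 59 53 104 104 1 2 16 0 1 2 16 2 1 14 56 16 105 14 108)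
def lv_c_16 : D2 → D3 → Nat := @D2.rec (fun _ => D3 → Nat) (@D3.rec (fun _ => Nat) 101 92 56 104 102 109 16 66 16 65 61 102 102 3 101 100 14 109 107 14 101 0 108 14 93 1 9 110 104 3 103 4 15 0 105 0 0 108 1 1 88 110 105 80 95 15 81 1 101 111 82) (@D3.rec (fun _ => Nat) 85 84 1 81 94 106 104 104 82 104 106 103 2 2 105 3 3 102 3 105 101 15 91 111 100 110 100 3 3 109 4 15 103 103 103 15 2 2 3 3 3 106 104 105 105 4 3 3 103 104 4) (@D3.rec (fun _ => Nat) 105 15 103 101 0 83 15 103 85 1 105 107 104 105 109 16 4 15 111 101 0 105 15 101 0 1 6 87 89 1 2 110 16 62 15 15 78 78 104 104 10 10 16 3 3 4 10 82 110 112 2) (@D3.rec (fun _ => Nat) 2 3 3 3 2 2 3 3 103 107 4 3 3 3 4 4 3 105 4 4 16 5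 0 80 83 1 105 103 3 3 110 104 4 105 11 11 4 4 16 5 0 106 105 0 5 0 109 0 1 1 83) (@D3.rec (fun _ => Nat) 1 82 31 1 2 0 16 1 88 109 2 2 3 3 3 83 85 4 3 3 3 4 4 106 110 6 3 3 110 4 80 80 80 5 5 4 4 16 101 5 0 102 106 106 80 5 95 16 103 0 1) (@D3.rec (fun _ => Nat) 81 82 105 110 16 16 16 4 4 104 5 0 116 109 108 108 99 107 82 107 104 16 16 18 16 5 5 0 16 110 6 0 1 5 110 110 82 82 85 6 0 1 81 16 106 84 1 2 17 83 84) (@D3.rec (fun _ => Nat) 110 1 2 17 2 20 16 109 104 109 14 99 110 91 104 20 0 1 2 16 107 109 3 3 4 3 16 60 58 58 58 0 113 64 66 109 108 110 3 3 81 4 63 61 59 63 59 61 0 61 62) (@D3.rec (fun _ => Nat) 62 3 3 109 4 4 112 0 17 17 5 0 66 64 0 1 112 64 64 1 2 64 109 114 109 66 2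 100 100 40 100 100 3 3 4 17 4 17 0 17 104 106 104 3 3 3 4 4 100 100 100) (@D3.rec (fun _ => Nat) 100 100 60 59 0 63 63 0 0 1 3 3 3 4 4 103 103 4 4 4 5 5 0 1 2 36 101 103 101 103 5 0 0 1 5 5 0 6 0 1 0 1 1 2 0 1 2 2 103 82 2) (@D3.rec (fun _ => Nat) 3 101 104 106 17 17 3 3 3 102 4 4 17 17 107 87 17 17 5 5 5 4 4 4 17 5 5 0 3 3 102 104 4 17 17 4 4 4 106 5 5 0 105 17 81 6 6 6 5 5 0) (@D3.rec (fun _ => Nat) 106 6 0 1 5 5 59 115 6 0 1 6 6 59 7 0 1 2 56 7 0 1 104 104 103 4 4 4 109 5 5 0 17 17 109 110 100 17 58 106 17 17 19 17 5 5 5 0 61 6 6) (@D3.rec (fun _ => Nat) 0 1 17 103 101 101 31 17 0 58 103 107 103 19 17 19 0 6 6 0 1 2 61 7 0 1 2 17 100 55 6 6 0 1 59 7 0 1 2 17 110 31 55 7 57 1 2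 59 0 1 2) (@D3.rec (fun _ => Nat) 17 2 58 31 57 62 1 0 1 2 17 2 60 1 2 2 57 17 17 21 0 1 2 2 3 63 30 110 30 30 0 6 110 101 101 1 2 2 3 81 78 105 0 81 81 0 0 110 4 0 17) (@D3.rec (fun _ => Nat) 17 16 16 5 5 0 6 0 1 17 81 6 81 79 3 3 4 103 0 0 63 61 17 57 0 16 1 61 100 59 16 16 62 0 81 4 58 0 58 67 65 3 3 104 4 65 63 106 108 4 4) (@D3.rec (fun _ => Nat) 58 5 0 84 63 59 111 108 5 0 58 0 1 59 5 58 58 58 58 58 31 107 61 108 108 60 86 0 58 108 108 60 102 102 60 17 17 17 5 4 17 0 106 3 3 4 103 17 17 106 106) (@D3.rec (fun _ => Nat) 4 109 0 103 17 17 55 108 80 6 5 0 60 62 0 1 100 17 4 4 103 5 0 17 17 102 108 107 107 108 5 0 110 0 1 17 17 105 110 107 17 17 0 57 106 82 17 82 0 6 6) (@D3.rec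 (fun _ => Nat) 0 1 2 60 7 0 1 17 17 17 17 63 63 60 17 53 17 63 7 57 63 17 57 103 103 110 110 108 107 117 90 90 110 104 104 17 15 15 81 15 83 109 4 16 0 16 89 16 16 103 109) (@D3.rec (fun _ => Nat) 4 16 0 16 0 112 18 110 18 5 0 16 0 1 81 81 16 16 112 64 64 16 16 107 4 83 0 110 0 0 17 1 17 17 80 80 101 108 0 17 1 86 17 4 110 105 0 106 106 0 105) (@D3.rec (fun _ => Nat) 1 79 82 101 18 0 111 21 0 6 0 1 2 17 102 0 1 18 88 17 103 109 84 91 91 90 101 103 17 64 60 0 1 0 59 0 0 1 4 4 111 5 0 65 102 109 108 5 0 111 0) (@D3.rec (fun _ => Nat) 1 101 105 63 0 19 0 0 1 1 18 63 61 59 61 59 4 63 0 0 1 4 107 0 64 0 1 32 101 0 101 0 1 63 82 18 107 18 0 6 6 0 113 1 4 4 5 0 18 109 0) (@D3.rec (fun _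 => Nat) 1 32 2 103 3 18 0 107 107 111 107 7 0 6 6 0 1 7 0 1 18 0 0 1 7 59 59 100 5 0 112 0 1 18 0 0 0 1 2 61 109 0 1 18 18 0 101 18 0 1 109) (@D3.rec (fun _ => Nat) 103 101 0 0 1 7 0 1 2 6 2 3 0 1 18 18 18 0 1 59 59 64 59 1 2 102 59 59 59 63 30 8 105 112 116 112 1 2 7 103 105 3 103 103 111 109 101 103 107 2 3) (@D3.rec (fun _ => Nat) 3 61 2 1 80 1 95 109 103 105 82 102 111 4 4 5 0 104 103 103 103 5 0 1 1 2 79 0 106 82 0 81 82 81 0 0 104 109 0 1 104 81 1 2 17 83 17 2 108 110 112) (@D3.rec (fun _ => Nat) 110 112 4 3 3 3 4 4 106 109 106 3 3 68 66 4 86 5 4 16 64 0 16 66 64 0 16 0 1 107 4 4 16 111 5 0 84 105 17 63 105 105 101 105 5 0 16 0 1 5 0) (@D3.rec (fun _ => Nat) 16 110 0 1 0 1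 52 16 1 2 60 0 1 2 62 2 16 81 105 108 65 101 111 109 16 16 67 65 65 2 2 102 3 3 3 3 4 110 4 58 39 0 58 56 58 83 81 102 79 4 60) (@D3.rec (fun _ => Nat) 37 0 54 104 104 0 0 60 102 57 0 1 57 53 56 53 55 55 17 17 6 3 3 3 104 4 4 17 17 17 17 5 4 4 17 5 0 100 102 102 17 17 7 4 17 100 100 0 103 17 62) (@D3.rec (fun _ => Nat) 80 80 6 5 0 17 106 31 0 1 62 17 100 0 1 17 102 54 1 2 54 102 102 106 0 17 17 17 54 0 17 102 102 0 1 103 17 52 107 103 17 0 54 102 0 6 6 0 1 2 17)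
def lv_c_17 : D2 → D3 → Nat := @D2.rec (fun _ => D3 → Nat) (@D3.rec (fun _ => Nat) 7 0 1 2 17 52 65 17 102 102 1 2 17 65 7 17 53 53 17 2 104 104 17 2 1 2 2 17 17 56 17 105 110 108 91 91 67 108 111 108 63 17 15 110 80 15 109 1 82 103 1) (@D3.rec (fun _ => Nat) 1 96 1 109 81 85 105 104 106 105 100 3 3 105 4 16 103 101 110 100 100 4 16 103 0 103 103 16 4 3 3 3 4 4 104 106 109 5 4 16 103 101 0 82 16 105 0 1 85 107 0) (@D3.rec (fun _ => Nat) 109 107 18 0 16 101 0 1 16 87 1 2 89 2 110 62 64 16 80 106 105 11 11 17 4 82 0 111 116 4 3 3 3 4 4 3 3 4 105 107 5 4 4 17 5 0 82 5 107 0 1) (@D3.rec (fun _ => Nat) 105 4 109 108 0 107 12 0 5 0 17 0 1 1 96 0 1 109 109 1 2 2 1 2 109 88 6 3 3 3 4 4 85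 87 5 5 4 4 17 5 0 110 104 7 4 104 108 0 82 82 82) (@D3.rec (fun _ => Nat) 6 6 5 0 17 105 0 1 108 82 97 17 83 1 2 106 0 17 17 19 17 5 0 104 0 1 109 110 108 101 109 83 0 113 19 17 19 0 6 0 1 2 17 106 0 1 2 18 110 110 83) (@D3.rec (fun _ => Nat) 85 84 85 1 2 83 87 85 2 2 18 17 21 106 109 111 111 101 90 90 0 1 2 2 3 109 4 17 0 17 58 0 0 1 64 108 110 4 17 83 0 65 59 63 0 0 1 62 62 4 113) (@D3.rec (fun _ => Nat) 0 0 0 1 0 0 0 1 66 0 1 2 18 112 66 66 2 111 111 111 102 0 102 4 109 0 18 0 18 1 106 108 4 4 63 5 0 102 102 100 62 0 0 1 63 0 1 1 2 4 4) (@D3.rec (fun _ => Nat) 5 0 103 103 5 5 0 6 0 1 2 3 0 101 103 101 0 0 1 1 2 13 6 0 1 0 1 2 1 2 2 1 2 2 18 82 3 104 18 18 4 4 114 104 5 0 18 18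 107 87 18) (@D3.rec (fun _ => Nat) 0 6 6 6 5 5 0 18 6 0 1 4 102 104 0 18 5 5 0 108 6 0 1 103 0 81 7 7 0 6 0 1 108 0 1 2 18 6 61 115 0 1 2 58 7 61 0 1 2 58 2) (@D3.rec (fun _ => Nat) 1 106 107 5 5 0 106 6 0 1 18 102 102 0 106 20 18 20 0 6 6 0 1 2 7 0 1 2 18 0 106 103 0 33 0 1 2 103 111 105 20 0 0 1 2 7 0 1 2 6 2) (@D3.rec (fun _ => Nat) 3 0 1 2 18 2 18 55 7 0 1 2 0 1 2 18 2 58 100 55 59 59 2 61 1 2 2 58 18 9 62 62 1 2 113 2 3 60 18 112 2 18 59 0 20 1 2 2 3 3 65) (@D3.rec (fun _ => Nat) 0 1 2 112 2 0 1 0 0 1 1 0 0 1 18 0 17 0 6 0 1 0 1 18 83 79 83 4 17 0 0 1 1 61 0 57 1 2 18 17 0 1 81 0 60 1 67 65 4 109 106) (@D3.rec (fun _ => Nat) 0 65 59 106 110 5 0 60 0 1 86 0 59 111 0 0 1 2 60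 1 13 60 60 60 60 60 61 109 60 110 108 102 0 1 2 62 110 110 115 102 18 18 0 6 0 18 1 106 4 109 0) (@D3.rec (fun _ => Nat) 105 18 102 112 106 0 106 1 105 18 0 55 110 80 0 0 1 2 0 1 18 5 0 103 0 1 18 0 104 102 107 108 0 0 1 2 109 1 18 18 0 107 110 0 18 0 1 2 106 84 0) (@D3.rec (fun _ => Nat) 0 1 2 7 0 1 2 6 2 3 0 1 18 18 18 53 63 63 62 53 63 59 59 103 110 110 110 109 91 89 107 104 0 0 0 17 1 17 89 17 103 109 0 17 1 17 1 110 18 110 0) (@D3.rec (fun _ => Nat) 0 1 2 17 1 20 83 83 17 64 64 106 17 107 0 84 1 0 1 1 2 18 63 0 80 103 0 1 2 18 19 86 0 110 0 1 0 107 1 2 19 0 84 0 0 1 2 88 0 1 2) (@D3.rec (fun _ => Nat) 0 1 2 6 2 3 18 1 19 19 90 103 66 0 1 63 1 0 1 1 19 5 0 111 0 1 64 0 109 0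 0 1 0 1 19 103 0 0 1 0 1 1 2 6 62 19 63 61 63 0 63) (@D3.rec (fun _ => Nat) 1 1 63 0 0 1 0 1 63 0 0 1 0 1 6 63 82 112 109 0 1 2 7 0 1 2 19 5 0 0 1 0 0 1 19 0 3 105 0 0 1 111 107 113 0 0 1 7 0 1 2) (@D3.rec (fun _ => Nat) 6 0 1 19 19 1 1 2 102 61 0 1 0 1 2 19 0 1 1 1 2 6 2 3 63 0 1 19 19 0 1 0 1 2 6 111 0 0 1 2 1 105 0 1 2 7 2 3 7 108 3) (@D3.rec (fun _ => Nat) 1 19 19 1 2 61 61 61 2 104 103 111 114 114 2 101 103 62 103 109 109 103 109 3 107 0 82 104 0 5 0 0 1 105 1 2 2 0 1 0 0 1 83 82 1 1 104 0 1 2 18) (@D3.rec (fun _ => Nat) 85 87 2 18 17 110 110 112 113 5 4 4 17 5 0 109 110 4 17 66 64 0 88 6 0 17 0 1 17 65 0 1 17 1 2 0 5 0 17 114 0 1 81 105 0 65 103 105 103 0 0) (@D3.rec (fun _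 => Nat) 1 2 17 1 2 18 0 1 54 17 0 1 2 1 2 54 17 2 1 2 2 62 19 17 83 106 110 111 109 109 17 65 0 3 3 104 4 4 58 0 114 0 58 0 1 58 83 0 0 81 0) (@D3.rec (fun _ => Nat) 60 0 1 56 104 0 1 1 2 106 0 1 2 13 55 55 57 18 18 7 4 4 110 104 5 0 18 18 18 0 6 5 0 18 0 1 102 104 0 18 62 8 0 18 102 0 1 105 0 62 82) (@D3.rec (fun _ => Nat) 82 0 0 1 2 18 102 0 1 2 18 18 102 1 2 56 56 2 104 104 0 1 18 54 0 56 1 2 18 104 0 1 2 18 105 0 54 110 0 0 1 2 65 0 1 2 7 0 1 6 2) (@D3.rec (fun _ => Nat) 3 18 0 1 2 18 2 18 65 18 104 104 18 2 55 18 9 110 111 18 2 110 107 20 110 90 107 108 108 106 0 102 4 17 105 0 105 102 0 0 17 0 1 105 5 4 4 17 5 0 0) (@D3.rec (fun _ => Nat) 111 82 6 0 17 105 0 1 17 87 1 2 0 1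 0 106 0 1 2 17 0 1 2 20 89 2 64 0 0 107 12 18 0 84 1 111 5 4 4 65 5 0 4 0 107 82 6 5 0 18 0) (@D3.rec (fun _ => Nat) 1 107 1 2 0 0 108 0 1 0 1 2 0 1 2 111 1 2 13 96 1 2 111 2 18 2 90 7 4 4 116 5 0 85 0 6 6 5 0 18 0 1 0 105 8 0 106 0 1 82 0)
def lv_c_18 : D2 → D3 → Nat := @D2.rec (fun _ => D3 → Nat) (@D3.rec (fun _ => Nat) 82 7 0 0 1 2 18 0 1 2 19 108 83 97 84 2 0 1 20 18 20 0 0 1 2 1 2 19 109 0 110 101 0 0 1 2 85 20 0 0 1 2 0 1 2 6 2 3 91 0 1) (@D3.rec (fun _ => Nat) 2 19 2 19 110 84 85 86 2 87 9 18 0 20 104 107 115 91 89 1 2 2 3 3 0 0 18 1 0 1 1 2 13 110 0 0 18 0 1 65 0 0 1 1 2 19 64 0 0 1 1) (@D3.rec (fun _ => Nat) 1 2 19 1 1 1 6 0 1 2 19 2 19 65 9 111 111 0 1 0 0 106 1 0 1 2 13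 106 0 5 0 65 0 1 102 0 62 0 1 1 2 14 0 1 2 2 5 0 0 1 105) (@D3.rec (fun _ => Nat) 0 6 0 1 0 1 2 14 3 0 1 103 0 0 1 1 2 6 65 2 14 0 1 2 1 2 2 2 9 2 3 21 63 0 19 5 0 104 0 1 19 0 107 87 0 1 2 7 7 0 6) (@D3.rec (fun _ => Nat) 0 1 2 19 0 1 2 19 0 106 0 1 0 6 0 1 108 0 1 2 19 0 1 83 0 0 1 0 1 2 6 0 1 2 19 2 19 61 0 1 2 58 2 1 2 2 58 9 0 0 6) (@D3.rec (fun _ => Nat) 0 1 2 102 0 1 2 19 0 0 1 108 21 0 0 1 7 0 1 2 6 2 0 1 2 19 2 19 1 106 0 1 0 1 2 6 2 105 111 0 0 1 2 1 2 7 2 3 0 1 2) (@D3.rec (fun _ => Nat) 7 2 3 7 7 3 1 2 19 2 19 19 8 57 59 1 2 2 1 2 113 2 115 60 19 10 59 64 9 2 9 60 0 9 64 2 62 113 114 3 59 108 115 105 19 0 1 2 21 2 13) (@D3.rec (fun _ => Nat) 3 1 2 2 111 1 20 1 1 13 19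 1 1 19 0 1 0 1 0 1 2 6 1 19 19 83 81 0 18 1 1 19 19 0 1 2 6 2 19 1 13 0 1 2 64 66 61 0 109 0 1) (@D3.rec (fun _ => Nat) 0 61 108 0 0 1 2 60 1 14 0 1 2 60 0 1 2 1 2 6 2 3 64 14 117 60 60 60 109 112 108 108 104 1 2 2 109 110 0 1 2 0 1 2 19 108 0 108 1 105 0) (@D3.rec (fun _ => Nat) 102 112 0 1 2 19 0 0 1 2 0 0 1 2 1 6 2 1 19 19 0 1 2 105 1 2 19 0 1 2 102 0 0 1 2 1 2 6 2 3 109 19 19 0 1 0 0 1 2 0 1) (@D3.rec (fun _ => Nat) 2 6 2 0 0 1 2 1 2 7 2 3 0 1 2 7 2 7 7 3 1 19 19 55 65 55 59 109 110 110 90 109 1 1 1 2 18 65 105 0 1 2 18 21 103 112 0 0 1 2 1) (@D3.rec (fun _ => Nat) 2 109 2 3 18 64 21 83 66 66 0 1 2 105 1 105 105 2 3 65 1 2 88 0 1 2 6 2 3 20 1 2 1 2 20 1 2 6 2 20 1 2 1 2 1 6 2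 3 1 2 7) (@D3.rec (fun _ => Nat) 2 1 7 2 7 7 3 4 20 20 0 1 65 65 20 1 20 64 20 0 1 0 1 2 114 0 1 0 1 1 2 6 1 64 20 0 1 1 2 6 1 2 7 7 2 7 64 63 1 2 111) (@D3.rec (fun _ => Nat) 110 65 1 1 2 65 1 6 65 1 1 6 1 7 7 0 109 0 1 2 2 0 1 2 6 2 20 0 1 1 2 20 1 1 6 20 1 0 0 1 1 2 6 111 0 0 1 2 1 7 0) (@D3.rec (fun _ => Nat) 1 2 7 2 7 1 20 20 2 102 1 2 108 1 2 20 2 20 1 2 6 109 7 2 3 7 113 3 4 1 122 20 1 17 1 2 7 2 7 0 1 2 1 2 103 2 101 112 1 104 8) (@D3.rec (fun _ => Nat) 2 63 8 8 3 118 58 20 20 2 61 114 103 87 108 109 0 1 84 0 1 0 1 1 2 20 2 18 1 13 1 1 2 19 83 19 120 0 1 2 19 2 19 92 9 20 112 0 111 0 6) (@D3.rec (fun _ => Nat) 5 0 18 0 1 0 112 0 18 66 0 1 86 0 1 2 18 1 2 19 18 0 1 2 2 1 0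 1 2 18 0 1 2 19 81 0 1 2 103 0 0 1 2 1 2 6 2 3 18 19 2) (@D3.rec (fun _ => Nat) 19 1 2 54 18 1 2 2 2 54 9 2 113 111 21 108 105 107 108 111 0 1 4 115 104 0 0 60 1 0 1 2 1 2 13 0 1 1 0 1 2 1 2 14 0 1 14 59 2 0 1) (@D3.rec (fun _ => Nat) 2 14 2 14 55 19 110 8 5 0 107 106 0 1 19 113 0 1 2 0 0 1 2 19 1 2 19 102 0 1 0 64 0 1 2 19 0 1 2 19 0 1 2 0 0 1 2 1 6 2 3) (@D3.rec (fun _ => Nat) 0 1 2 19 2 19 102 2 56 9 104 0 1 2 19 0 54 1 2 62 6 2 3 19 0 1 2 19 2 19 0 1 2 0 1 2 1 6 2 3 1 2 7 2 3 0 1 7 7 7 3) (@D3.rec (fun _ => Nat) 4 1 2 19 2 19 19 8 112 116 19 10 0 9 21 105 110 0 1 0 0 18 0 1 105 0 1 1 2 1 2 13 6 5 0 18 0 1 1 0 84 0 1 2 18 0 1 2 21 87 2) (@D3.rec (fun _ => Nat) 1 21 1 2 1 2 6 2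 3 1 2 21 2 21 9 1 1 107 0 0 1 2 13 0 6 5 0 65 0 1 0 1 0 87 0 0 1 2 109 1 2 14 2 1 1 0 1 14 1 2 2) (@D3.rec (fun _ => Nat) 98 1 2 6 2 3 65 2 14 2 109 9 21 8 5 0 0 1 0 1 2 7 0 0 1 2 19 1 2 108 1 107 0 1 2 1 2 20 0 1 2 84 0 1 2 1 2 6 2 3 1) (@D3.rec (fun _ => Nat) 2 20 2 20 9 1 2 110 21 0 0 1 2 1 2 114 2 112 2 20 0 1 0 0 1 2 1 2 6 2 3 0 1 2 1 2 7 2 3 1 2 7 2 3 7 7 3 4 1 20 2) (@D3.rec (fun _ => Nat) 20 20 8 86 9 9 19 1 2 21 106 90 2 3 13 3 1 1 2 13 1 14 62 2 14 0 1 1 2 19 1 2 20 0 1 1 2 20 20 2 20 1 1 2 20 112 20 2 20 6 120) (@D3.rec (fun _ => Nat) 63 7 1 2 64 2 20 20 8 9 86 1 14 1 1 2 14 1 2 40 2 14 0 1 0 1 2 65 1 2 113 0 1 0 1 2 15 41 2 15 1 2 2 9 0 1 1 2 15 0 1) (@D3.rec (fun _ =>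 Nat) 0 1 2 100 1 2 65 2 15 0 1 6 0 1 2 1 7 38 2 7 65 65 8 1 2 2 2 111 10 9 9 3 22 1 0 0 1 0 1 2 20 0 1 2 0 0 1 2 2 3 0)
def lv_c_19 : D2 → D3 → Nat := @D2.rec (fun _ => D3 → Nat) (@D3.rec (fun _ => Nat) 0 1 0 1 2 6 2 3 116 1 2 20 2 20 1 0 1 2 20 1 0 1 6 0 1 2 20 2 20 1 6 0 1 1 7 1 33 2 7 1 2 20 2 20 20 8 1 2 60 2 117) (@D3.rec (fun _ => Nat) 60 10 2 9 0 9 1 1 0 1 2 6 2 3 1 2 20 2 20 1 1 2 6 0 0 1 2 1 107 0 1 2 7 2 7 112 1 2 20 2 3 20 20 10 34 0 1 2 7 1 7) (@D3.rec (fun _ => Nat) 2 7 7 0 0 1 2 1 2 8 2 3 101 2 8 115 13 3 1 2 8 2 3 8 8 10 3 8 65 20 2 20 20 10 20 0 10 61 2 3 11 2 60 115 11 60 0 11 64 11 11) (@D3.rec (fun _ => Nat) 11 0 1 2 11 61 112 107 117 108 117 112 22 1 2 2 14 14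 2 113 21 21 13 64 14 20 20 106 20 1 2 6 1 2 113 1 2 7 2 7 20 20 1 2 20 20 20 20 1 6 2) (@D3.rec (fun _ => Nat) 7 7 14 14 1 2 65 2 64 0 61 1 2 111 1 2 112 1 2 110 0 1 2 1 2 6 2 3 62 64 15 1 2 6 2 3 1 2 7 2 3 65 2 7 7 3 64 110 110 2 111) (@D3.rec (fun _ => Nat) 1 2 2 1 2 6 2 20 0 1 2 108 20 0 1 2 0 1 2 6 2 20 1 2 1 6 2 1 1 2 7 2 7 7 7 20 20 1 2 107 2 3 20 2 20 1 2 6 2 0 1) (@D3.rec (fun _ => Nat) 2 1 2 112 2 3 7 2 7 7 3 4 20 1 2 32 1 2 1 2 7 2 1 7 2 7 7 1 2 1 2 8 2 8 2 3 8 8 3 1 2 8 2 8 8 8 64 20 20 55 109) (@D3.rec (fun _ => Nat) 112 106 115 85 2 3 65 0 1 2 114 2 3 22 121 0 1 2 1 2 112 2 3 118 2 3 115 111 3 4 64 66 1 2 109 2 116 118 119 111 115 3 6 2 1 2 109 2 7 7 3) (@D3.rec (fun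 _ => Nat) 109 2 107 2 21 6 2 7 7 107 2 7 2 7 7 7 3 101 2 8 8 111 8 109 8 8 4 21 1 2 116 65 21 111 21 64 1 2 114 1 2 110 2 112 1 2 6 1 2 116 7) (@D3.rec (fun _ => Nat) 2 7 64 64 1 2 7 7 2 7 8 2 8 8 8 108 2 111 110 115 65 2 65 6 7 17 7 7 101 8 1 2 1 2 6 2 5 1 2 7 2 7 7 1 2 110 107 2 21 6 118) (@D3.rec (fun _ => Nat) 7 36 1 2 1 2 7 7 2 7 0 1 2 1 2 8 2 114 8 1 2 33 2 63 8 8 108 21 113 2 116 113 2 21 21 34 7 2 7 117 8 8 3 4 113 104 4 115 124 63 18) (@D3.rec (fun _ => Nat) 8 2 8 8 62 1 2 105 2 63 101 2 114 112 105 118 115 63 9 9 9 59 60 21 113 1 2 21 1 21 1 109 21 2 21 9 22 13 14 20 20 2 20 20 122 1 20 2 20 20 8) (@D3.rec (fun _ => Nat) 0 9 21 0 1 0 1 2 0 0 1 2 19 1 2 20 1 0 1 2 19 0 1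 2 20 0 1 2 66 2 3 20 2 20 114 1 2 2 9 20 1 2 109 2 3 19 1 2 20 2 20) (@D3.rec (fun _ => Nat) 0 1 2 6 2 0 1 2 1 2 7 2 3 66 2 3 7 7 3 4 20 20 8 2 56 111 2 116 10 9 9 111 23 105 110 1 14 0 0 1 1 2 14 1 2 40 2 14 2 14 1) (@D3.rec (fun _ => Nat) 2 113 15 1 2 39 2 39 2 15 1 2 15 15 59 58 1 2 63 2 15 15 0 105 0 0 1 2 111 0 1 2 20 0 105 1 2 2 111 1 2 1 2 6 2 3 20 20 2 20 0) (@D3.rec (fun _ => Nat) 1 2 20 1 2 1 2 6 2 3 1 2 20 2 20 1 2 6 2 1 1 2 7 2 3 35 7 7 3 1 2 20 2 20 20 8 111 10 9 0 1 2 20 2 20 1 2 6 2 3 7) (@D3.rec (fun _ => Nat) 7 3 4 1 2 20 2 3 20 20 10 1 34 2 1 2 7 2 7 7 7 3 8 2 8 8 3 4 1 35 8 8 8 4 20 2 20 20 20 0 10 0 1 11 1 13 1 1 2 1 2) (@D3.rec (fun _ => Nat) 104 1 14 112 2 115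 2 14 0 0 1 2 19 1 2 113 110 1 2 1 2 6 2 3 1 2 22 2 22 9 113 22 6 2 109 2 7 7 3 66 2 22 22 8 14 14 0 1 1 2 6) (@D3.rec (fun _ => Nat) 2 14 1 0 0 1 2 67 1 2 113 1 106 1 2 1 2 1 6 2 3 66 2 15 9 105 107 1 106 15 6 2 3 5 114 2 3 7 7 3 67 67 8 9 9 22 0 0 1 1 2) (@D3.rec (fun _ => Nat) 106 1 2 2 3 0 1 2 1 2 6 2 3 109 110 2 123 110 0 1 2 112 2 115 2 21 1 2 6 2 3 1 2 7 2 3 84 2 7 7 3 106 2 21 21 8 9 110 2 115 0) (@D3.rec (fun _ => Nat) 1 2 1 2 108 2 112 2 110 110 106 108 1 107 1 2 1 2 7 2 3 7 2 3 7 7 3 1 2 8 2 3 8 2 3 8 8 13 3 4 83 2 8 8 10 3 8 8 4 21 21) (@D3.rec (fun _ => Nat) 21 21 89 10 11 11 22 2 114 14 3 14 14 64 2 14 116 15 64 64 1 2 21 111 2 3 21 2 21 1 2 21 21 2 21 21 21 112 118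 2 21 110 21 21 7 109 65 66 2 66 66) (@D3.rec (fun _ => Nat) 21 65 10 11 15 15 15 115 2 15 40 2 40 40 1 2 115 1 2 111 2 3 110 41 2 111 1 2 107 1 2 43 2 16 41 41 8 2 108 10 9 1 2 111 116 2 16 1 2 102 1) (@D3.rec (fun _ => Nat) 2 102 2 117 106 2 3 67 67 10 1 7 7 1 2 40 2 120 8 40 40 10 67 64 10 2 11 11 11 11 116 1 1 2 6 1 2 21 2 21 1 2 2 3 1 1 2 6 2 3 5) (@D3.rec (fun _ => Nat) 3 116 1 2 1 7 1 2 7 2 3 7 7 3 4 108 2 21 21 30 118 1 2 21 2 21 6 1 35 7 1 2 21 2 3 21 21 10 7 7 1 35 103 8 33 35 35 21 2 21 21) (@D3.rec (fun _ => Nat) 10 21 0 10 2 60 11 0 11 11 11 1 2 11 6 111 1 2 106 2 3 7 106 3 21 2 21 21 35 102 7 2 7 1 2 1 109 2 103 115 1 2 116 2 3 8 8 11 119 21 2) (@D3.rec (fun _ => Nat)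 21 21 11 3 21 0 11 36 1 8 2 8 8 8 8 8 1 2 1 2 9 2 3 103 2 9 9 31 3 112 103 14 117 113 115 14 111 2 3 9 57 3 9 59 63 10 65 21 21 10 21)
def lv_c_20 : D2 → D3 → Nat := @D2.rec (fun _ => D3 → Nat) (@D3.rec (fun _ => Nat) 63 10 0 1 2 10 112 12 3 12 12 62 0 12 0 1 2 15 11 11 1 2 2 112 109 117 118 2 13 15 22 14 66 21 114 7 2 7 119 2 113 80 2 8 8 21 113 2 21 21 64) (@D3.rec (fun _ => Nat) 7 7 8 15 67 2 67 64 1 2 6 2 3 107 2 112 6 2 3 1 2 116 2 3 67 2 7 7 3 4 66 7 2 3 7 7 3 67 2 8 8 3 67 65 8 8 110 14 6 2 5) (@D3.rec (fun _ => Nat) 80 2 7 7 1 2 112 2 3 21 1 2 6 2 1 2 7 2 7 7 7 2 7 7 7 105 105 2 8 8 30 8 8 21 117 2 3 114 117 3 21 21 35 7 2 7 7 1 2 108 2) (@D3.rec (fun _ => Nat) 109 2 3 112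 109 3 4 8 8 8 64 4 34 2 34 8 2 8 2 8 8 8 8 8 8 107 2 105 2 9 9 31 9 9 3 9 64 113 2 9 53 9 64 21 112 115 117 85 85 3 1) (@D3.rec (fun _ => Nat) 2 113 2 3 113 112 3 1 2 109 2 3 112 2 3 118 109 3 118 111 3 111 92 4 117 2 116 111 120 114 93 7 7 108 2 119 111 32 8 111 116 109 119 117 7 7 8 107 88 8 8) (@D3.rec (fun _ => Nat) 8 8 8 116 103 9 115 114 9 93 117 2 112 112 109 2 112 66 2 120 116 35 7 2 7 108 2 111 8 8 66 8 2 8 8 8 9 9 31 9 118 113 117 67 67 35 7 18 8 113 112) (@D3.rec (fun _ => Nat) 2 7 2 7 7 5 116 2 8 8 8 118 2 112 120 114 35 7 119 36 113 2 8 2 8 8 8 62 1 2 107 2 67 103 2 9 9 30 114 117 2 35 35 9 117 116 110 35 115 112 35) (@D3.rec (fun _ => Nat) 22 0 35 8 8 64 9 104 4 117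 104 114 65 9 9 9 64 64 116 2 69 121 105 116 103 114 118 117 10 59 22 2 22 109 22 109 113 22 22 8 9 22 14 21 21 21 21 21 21 21 0) (@D3.rec (fun _ => Nat) 10 1 11 1 2 21 1 2 2 3 1 2 1 2 6 2 3 20 21 2 21 21 1 2 66 2 3 104 1 2 21 2 21 1 2 66 2 3 66 64 3 21 21 8 2 118 10 9 21 112 2) (@D3.rec (fun _ => Nat) 3 117 109 3 4 111 2 3 21 21 10 1 2 7 2 7 7 1 2 66 2 3 8 2 3 8 8 3 4 66 65 10 3 8 65 4 21 67 10 11 106 11 11 11 113 15 15 1 1 2 15) (@D3.rec (fun _ => Nat) 44 2 15 42 2 42 42 15 15 41 2 111 16 39 2 39 39 41 41 16 2 16 60 111 2 63 67 16 1 2 114 1 2 1 2 6 2 3 112 1 2 21 2 21 1 2 6 2 3 5 82) (@D3.rec (fun _ => Nat) 2 3 87 2 3 7 7 3 4 21 21 31 1 2 21 2 21 6 2 115 2 7 7 3 21 2 3 21 21 10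 7 2 7 7 115 111 2 8 8 31 3 35 8 54 21 2 21 21 21 58 10) (@D3.rec (fun _ => Nat) 11 11 1 2 21 2 3 21 21 36 34 2 7 7 3 8 8 4 21 2 21 21 3 21 0 34 34 34 8 2 8 8 8 8 8 9 9 9 116 4 102 37 9 66 21 21 21 0 1 109 10) (@D3.rec (fun _ => Nat) 1 14 14 106 84 2 79 2 119 107 15 115 93 117 110 1 2 1 2 115 2 3 108 2 111 114 6 2 113 2 3 7 7 3 67 2 23 23 8 115 7 7 117 109 8 88 66 66 23 92 15) (@D3.rec (fun _ => Nat) 15 1 6 7 2 7 87 115 1 2 1 2 108 2 3 109 118 2 113 113 116 6 2 111 2 3 111 7 7 3 68 67 8 9 120 116 108 112 7 7 5 3 114 93 10 3 8 8 67 91 10) (@D3.rec (fun _ => Nat) 11 11 1 1 2 110 108 2 116 6 2 3 5 3 118 1 86 2 3 89 2 3 7 7 3 4 115 114 113 31 117 1 2 116 2 115 111 117 112 7 2 3 7 7 3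 86 2 3 8 8 33) (@D3.rec (fun _ => Nat) 3 86 86 8 8 119 113 22 91 10 11 116 114 1 2 110 2 113 2 113 111 117 112 116 116 119 117 8 2 3 8 2 3 8 8 3 8 8 3 8 8 90 2 3 9 9 32 3 9 9 14) (@D3.rec (fun _ => Nat) 3 4 9 106 9 14 4 85 85 9 93 9 10 9 89 22 22 90 91 10 11 92 15 15 15 66 64 114 68 22 2 22 117 109 3 22 22 31 109 2 22 22 22 22 112 120 112 36 22 66 66) (@D3.rec (fun _ => Nat) 66 67 67 10 16 16 117 102 42 42 32 42 117 2 113 117 2 3 113 111 3 4 43 43 31 109 2 117 45 2 3 45 43 10 43 66 10 11 11 102 2 113 114 104 36 114 2 113 102 2 117) (@D3.rec (fun _ => Nat) 113 11 120 108 11 3 67 66 114 8 81 2 40 40 32 113 40 64 10 66 66 10 12 118 6 116 2 7 22 2 22 22 31 112 2 3 5 3 112 7 7 2 3 7 7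 5 3 95 6 114 2) (@D3.rec (fun _ => Nat) 114 8 115 2 3 8 8 31 3 4 8 8 4 119 115 31 22 0 31 114 22 2 22 22 36 7 120 35 116 2 22 22 11 3 22 0 11 8 105 35 116 33 35 22 22 10 22 58 10 0 1) (@D3.rec (fun _ => Nat) 2 10 12 0 12 1 15 11 11 2 3 7 122 104 2 112 106 36 3 114 114 22 22 36 22 0 36 116 8 8 112 2 109 115 111 32 116 114 2 3 115 115 12 3 9 59 12 22 22 12 22) (@D3.rec (fun _ => Nat) 0 22 12 0 1 2 15 9 9 9 32 9 9 114 2 3 111 2 3 10 57 32 3 113 103 32 10 0 111 32 32 111 111 114 120 115 15 115 59 3 59 59 59 65 61 12 22 65 65 65 12) (@D3.rec (fun _ => Nat) 1 2 2 105 13 13 16 0 1 13 1 2 2 64 2 13 14 14 8 8 121 113 32 80 80 9 111 113 64 8 67 66 31 66 6 2 7 7 3 113 111 36 7 7 3 67 2 113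 107 3 4) (@D3.rec (fun _ => Nat) 67 65 8 8 4 8 8 14 3 8 8 67 65 32 9 9 65 9 7 7 5 82 82 31 8 106 2 3 112 110 3 7 2 7 7 109 2 8 8 31 8 8 8 31 8 8 119 117 105 31 9) (@D3.rec (fun _ => Nat) 0 119 114 36 3 118 112 22 0 36 8 8 8 110 2 118 111 32 115 107 3 4 112 109 4 9 66 66 34 34 9 9 32 9 9 9 9 9 110 55 32 113 120 32 10 0 10 66 66 115 55) (@D3.rec (fun _ => Nat) 55 87 91 116 2 3 116 114 33 3 116 90 116 2 3 116 111 32 3 114 109 3 114 92 113 92 92 91 119 109 33 117 94 8 116 113 33 121 0 115 118 119 8 89 9 9 118 93 119 114 114)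
def lv_c_21 : D2 → D3 → Nat := @D2.rec (fun _ => D3 → Nat) (@D3.rec (fun _ => Nat) 114 36 66 66 36 118 0 8 8 118 113 32 9 9 9 32 9 10 0 115 67 0 116 113 8 8 8 108 115 108 9 116 110 36 120 0 117 107 9 9 31 9 64 68 115 2 69 117 109 31 112) (@D3.rec (fun _ => Nat) 115 31 10 0 115 114 35 121 0 115 0 0 1 2 9 65 113 111 120 10 65 65 70 116 112 112 114 118 23 23 113 117 23 92 10 11 22 22 22 0 1 107 10 22 2 22 6 2 3 5 3) (@D3.rec (fun _ => Nat) 117 90 2 3 85 2 3 7 7 3 4 22 22 32 22 68 2 3 68 66 3 4 113 2 3 22 22 10 88 2 3 68 66 32 3 66 65 22 58 10 11 11 11 112 114 11 3 4 114 65 4) (@D3.rec (fun _ => Nat) 112 110 11 3 22 107 8 2 8 8 8 81 2 3 68 65 30 3 9 9 3 4 9 65 4 65 63 63 10 65 66 67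 67 10 11 16 44 16 2 16 44 42 42 42 33 42 16 41 41 32 41) (@D3.rec (fun _ => Nat) 41 32 41 41 17 17 37 116 108 65 6 2 3 111 2 3 107 2 3 7 7 3 4 22 2 3 22 22 32 109 2 7 7 5 3 6 82 82 32 3 89 89 32 3 8 8 4 22 0 32 22) (@D3.rec (fun _ => Nat) 2 3 22 22 37 7 7 119 111 32 8 54 22 22 3 22 58 11 8 8 32 8 119 113 107 32 9 0 54 32 54 22 22 22 58 58 10 110 2 22 22 37 3 22 0 37 36 109 8 8 9) (@D3.rec (fun _ => Nat) 108 22 22 22 22 0 1 36 36 9 9 9 9 10 116 66 117 66 22 1 120 85 15 116 84 84 81 81 115 94 117 90 2 3 87 2 3 114 111 3 114 113 32 7 7 117 105 34 3 8 87) (@D3.rec (fun _ => Nat) 67 68 24 94 8 115 89 68 94 7 7 8 88 88 113 113 2 3 111 2 3 114 110 3 4 118 113 32 114 7 7 122 111 34 3 108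 8 94 69 91 10 11 116 8 91 8 95 93 92 10 9) (@D3.rec (fun _ => Nat) 93 93 10 11 110 120 2 119 118 108 32 7 7 5 3 4 6 6 112 86 86 34 3 4 91 91 32 3 4 8 8 4 5 116 0 32 108 2 114 113 34 114 117 8 8 34 3 8 8 88 88) (@D3.rec (fun _ => Nat) 34 3 9 0 9 34 86 9 118 93 111 10 116 110 2 120 110 33 111 110 119 116 121 9 9 33 3 9 9 3 9 9 9 9 9 91 90 33 3 10 0 10 33 33 10 116 10 15 4 116 10) (@D3.rec (fun _ => Nat) 112 91 15 92 85 95 10 95 12 90 92 92 93 64 23 23 32 108 111 23 0 117 112 37 23 120 0 68 67 105 117 42 0 115 113 32 107 114 32 3 4 108 115 4 43 0 32 117 114 37 45) (@D3.rec (fun _ => Nat) 113 11 3 43 66 11 66 64 12 114 104 37 118 0 113 114 33 117 104 12 115 64 120 66 112 66 117 81 81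 33 42 0 33 64 64 66 68 7 106 110 32 23 23 32 23 0 32 117 112 5 3) (@D3.rec (fun _ => Nat) 95 6 8 8 8 32 3 8 108 8 6 94 7 118 109 116 113 118 32 3 4 9 0 9 32 32 4 9 94 121 0 32 0 1 2 32 23 23 37 23 0 37 120 118 106 12 23 0 23 12 0) (@D3.rec (fun _ => Nat) 1 114 15 114 23 60 12 60 60 12 1 2 2 3 1 13 32 3 115 113 37 114 0 112 116 23 0 0 1 2 9 114 114 33 119 117 0 33 117 109 3 115 61 106 13 13 61 61 16 23 65) (@D3.rec (fun _ => Nat) 0 23 1 113 13 1 2 2 107 10 10 0 116 59 33 3 120 59 33 3 59 0 59 33 115 0 33 0 117 1 2 2 33 33 111 118 113 59 59 59 61 63 65 65 65 65 2 117 92 14 14) (@D3.rec (fun _ => Nat) 1 65 2 66 14 14 9 117 0 82 113 66 0 7 7 8 108 113 0 37 8 8 69 67 33 109 107 4 67 9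 114 9 113 9 9 67 0 10 8 120 82 0 112 108 32 3 117 110 8 8 32) (@D3.rec (fun _ => Nat) 8 112 108 32 9 0 9 0 114 0 0 1 119 0 114 113 0 1 2 37 9 119 115 33 113 0 109 109 4 107 109 66 36 10 0 10 55 0 115 0 0 1 66 55 92 112 114 34 3 115 0) (@D3.rec (fun _ => Nat) 92 92 118 111 33 3 121 0 94 112 94 94 94 93 119 0 118 0 0 1 119 116 0 68 0 0 1 9 118 0 10 0 0 1 0 1 119 9 106 119 120 0 0 1 116 10 0 32 64 68 68) (@D3.rec (fun _ => Nat) 121 111 32 111 0 115 0 0 1 119 0 1 0 1 1 2 2 66 113 67 87 114 24 92 111 10 1 121 107 23 23 33 7 7 5 3 4 6 90 92 33 3 4 87 87 33 3 4 8 8 4) (@D3.rec (fun _ => Nat) 23 0 33 68 66 33 3 4 66 67 4 116 110 11 3 23 60 11 88 88 33 3 66 0 65 33 67 60 60 10 12 112 118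 65 4 67 67 114 112 110 118 9 9 9 83 83 31 3 67 0 65) (@D3.rec (fun _ => Nat) 31 31 10 67 4 67 66 65 65 69 12 68 67 67 46 17 17 38 44 44 0 43 0 41 0 18 0 38 116 7 7 3 116 110 33 3 4 118 119 33 3 4 8 8 4 23 23 33 3 23 0) (@D3.rec (fun _ => Nat) 33 118 84 8 21 8 6 84 0 84 33 89 0 91 33 33 9 86 0 1 2 33 23 23 38 3 23 0 38 8 117 0 56 23 23 60 60 9 0 113 0 0 56 1 2 33 23 58 58 115 112) (@D3.rec (fun _ => Nat) 38 23 0 117 38 38 0 1 2 38 115 9 121 23 23 1 10 68 85 86 81 91 90 35 3 87 89 33 3 112 113 112 0 8 115 0 88 35 88 68 94 8 89 117 118 35 3 4 120 112 33) (@D3.rec (fun _ => Nat) 3 4 110 115 4 120 0 33 8 118 0 94 35 94 91 91 10 92 9 93 92 93 12 106 93 119 116 110 33 120 0 8 110 8 6 6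 4 115 88 0 91 35 4 93 0 91 33 33 4 9 9) (@D3.rec (fun _ => Nat) 5 0 1 2 33 115 115 117 0 9 0 9 9 90 0 90 35 0 10 1 2 35 118 112 117 112 117 0 115 10 0 10 10 10 10 10 91 0 91 34 34 0 11 1 2 2 34 34 118 11 111) (@D3.rec (fun _ => Nat) 92 114 92 115 92 93 95 111 93 24 0 113 0 1 117 0 0 1 114 0 1 115 0 33 112 0 115 33 33 4 108 108 0 1 2 119 0 115 68 108 12 68 68 66 114 0 0 1 116 0 113) (@D3.rec (fun _ => Nat) 66 66 68 112 83 0 34 0 1 2 66 68 110 0 24 0 33 0 1 2 33 113 110 108 6 94 9 0 9 113 9 112 94 7 116 120 0 110 33 33 4 0 10 1 2 2 93 95 0 1 2)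
def lv_c_22 : D2 → D3 → Nat := @D2.rec (fun _ => D3 → Nat) (@D3.rec (fun _ => Nat) 33 1 2 2 3 24 0 0 1 2 115 60 0 24 1 116 13 1 109 114 60 62 62 62 2 3 11 3 33 115 0 0 116 1 0 1 1 2 2 121 0 0 1 2 34 116 106 61 116 116 113) (@D3.rec (fun _ => Nat) 14 14 63 109 67 1 118 116 66 2 123 0 1 61 0 61 59 0 61 34 34 0 61 1 2 0 1 2 34 1 2 2 2 2 3 3 120 61 63 67 66 93 93 114 109 96 0 1 0 1 8) (@D3.rec (fun _ => Nat) 117 0 1 2 38 9 67 0 109 109 114 115 10 0 1 114 0 1 120 0 110 112 9 0 119 0 0 1 0 1 0 1 1 0 115 1 1 2 2 3 113 0 0 1 116 109 109 0 1 0 1) (@D3.rec (fun _ => Nat) 0 1 1 116 0 92 0 92 1 115 0 94 0 94 1 94 0 1 0 1 1 0 1 0 1 1 0 1 0 1 1 1 0 1 1 0 1 2 33 70 70 111 0 0 1 0 1 1 1 1 22) (@D3.rec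 (fun _ => Nat) 2 119 87 111 109 114 24 0 34 8 21 8 6 4 92 0 90 34 4 87 0 92 34 34 4 9 9 0 1 2 34 68 0 67 4 67 67 109 109 112 12 60 60 90 0 90 34 0 65 1 2) (@D3.rec (fun _ => Nat) 34 60 60 115 65 65 67 107 114 10 83 0 85 32 32 0 65 1 2 2 32 69 68 68 69 69 69 18 0 0 1 0 1 0 1 0 1 2 39 8 8 121 0 109 34 4 115 0 109 34 4) (@D3.rec (fun _ => Nat) 9 117 24 0 112 34 0 1 2 86 22 9 93 0 86 1 2 34 0 91 1 2 2 34 88 1 2 2 3 24 0 117 39 39 0 1 2 39 0 1 24 60 0 1 0 1 1 2 2 3 60) (@D3.rec (fun _ => Nat) 123 0 0 119 1 2 2 1 2 2 3 91 0 91 89 0 89 118 0 1 0 89 1 120 120 0 108 4 114 0 113 34 34 4 108 110 0 1 117 0 96 1 2 36 93 93 95 95 95 112 0) (@D3.rec (fun _ => Nat) 0 1 108 9 117 110 9 0 93 1 2 93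 36 36 0 91 1 2 2 91 34 34 10 115 1 2 2 3 113 0 1 0 10 1 0 90 1 2 36 1 2 2 3 118 119 0 1 0 11 1 11) (@D3.rec (fun _ => Nat) 0 92 1 2 2 35 1 2 2 2 2 3 3 111 93 114 93 93 113 0 1 1 0 1 1 1 0 1 2 0 108 1 2 2 115 108 1 2 2 0 1 68 119 68 68 0 1 1 0 1 66) (@D3.rec (fun _ => Nat) 0 1 2 1 2 2 0 1 0 1 2 1 2 2 3 115 108 97 108 0 10 1 117 95 114 0 119 1 2 2 117 1 2 2 94 2 2 1 2 2 3 22 2 3 11 3 0 1 1 2 2) (@D3.rec (fun _ => Nat) 62 1 109 114 109 62 64 12 3 12 0 1 1 1 22 2 0 1 1 2 2 3 120 120 109 112 118 109 114 118 116 1 0 61 1 0 61 1 2 2 1 2 2 1 2 2 3 22 2 2 3) (@D3.rec (fun _ => Nat) 3 3 3 96 94 1 1 1 2 2 3 0 1 109 1 1 0 117 1 0 1 0 1 1 1 1 22 1 22 2 3 3 0 1 1 109 1 1 1 22 0 94 1 1 0 96 1 1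 1 1 22) (@D3.rec (fun _ => Nat) 1 1 123 1 1 67 22 1 121 1 2 2 3 70 0 1 1 1 61 117 122 117 121 116 0 1 2 22 9 118 9 0 92 1 2 92 35 35 0 92 1 2 2 92 35 35 10 1 2 2 3) (@D3.rec (fun _ => Nat) 0 69 1 69 69 111 113 111 62 0 92 1 2 35 1 2 2 3 62 67 0 85 1 2 2 33 1 2 2 2 2 3 68 71 0 1 1 1 1 1 2 2 3 9 0 119 1 2 116 0 116) (@D3.rec (fun _ => Nat) 1 2 111 119 0 114 1 2 1 2 2 94 1 2 2 3 1 2 2 2 2 4 22 2 3 3 0 119 1 2 2 1 2 2 3 1 1 1 22 2 3 3 0 1 1 2 2 2 2 22 2) (@D3.rec (fun _ => Nat) 3 114 3 0 92 1 0 91 1 1 1 120 0 117 1 117 0 117 1 2 115 115 110 1 115 1 2 2 3 93 95 0 1 1 117 112 10 1 2 93 2 3 3 1 2 2 93 2 2 3 4) (@D3.rec (fun _ => Nat) 121 22 2 3 3 1 1 1 2 2 3 22 2 3 3 1 1 1 2 2 2 2 4 124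 2 2 3 3 3 3 94 1 68 1 118 24 1 2 2 1 2 2 110 2 2 22 2 1 70 1 22) (@D3.rec (fun _ => Nat) 1 1 2 2 22 2 1 1 2 2 23 2 3 3 97 110 1 110 1 2 2 115 2 2 23 2 2 69 2 3 3 23 12 3 12 1 23 2 111 13 1 23 123 124 1 23 2 3 3 117 116) (@D3.rec (fun _ => Nat) 42 1 1 2 2 2 2 70 2 23 2 3 3 62 23 3 3 123 22 22 2 3 3 1 22 89 1 1 1 111 61 88 119 23 3 1 23 122 116 90 1 91 1 89 22 115 68 119 69 122 125) (@D3.rec (fun _ => Nat) 59 2 3 3 1 67 125 121 1 2 2 118 10 1 2 92 2 3 3 1 2 2 94 2 2 3 4 68 2 3 3 1 69 109 1 2 2 3 68 2 3 3 1 2 2 2 2 4 69 2 2) (@D3.rec (fun _ => Nat) 3 3 1 24 22 22 22 2 3 3 1 2 116 2 1 2 118 2 1 2 2 118 2 87 2 3 3 89 2 2 4 4 60 3 1 2 2 2 2 129 2 3 3 126 43 88 60 3 1 123 2) (@D3.rec (fun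 _ => Nat) 2 23 118 3 118 1 1 128 118 1 117 1 2 119 110 2 22 22 2 3 3 1 122 23 2 3 3 3 3 23 2 2 3 4 3 4 119 3 124 90 120 2 3 3 23 3 111 91 122 2 2) (@D3.rec (fun _ => Nat) 4 4 126 120 3 3 68 67 23 2 23 2 2 23 23 23 23 23 2 23 120 116 2 24 3 115 69 2 2 24 24 68 3 70 94 13 115 126 126 120 111 3 120 72 2 2 69 24 3 110 87) (@D3.rec (fun _ => Nat) 23 3 23 111 63 88 24 90 67 69 61 3 69 130 2 112 2 3 3 3 3 70 2 2 3 4 3 4 69 3 116 68 2 3 3 60 3 71 2 2 4 4 68 71 3 119 23 3 89 2 91) (@D3.rec (fun _ => Nat) 2 121 2 62 88 3 93 118 4 127 123 2 2 123 3 115 123 125 121 116 24 120 68 70 23 23 2 23 3 120 122 3 3 24 121 3 4 94 124 3 24 122 120 4 112 87 24 24 24 24 116) (@D3.rec (fun _ => Nat) 92 71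 70 70 72 90 69 72 89 24 61 125 88 3 3 70 69 3 4 69 62 3 117 70 73 4 71 24 89 91 125 88 93 121 123 123 120 24 24 100 101 102 98 102 103 100 101 97 103 104 101)
def lv_c : Pt → Nat := @Pt.rec (fun _ => Nat) (@D1.rec (fun _ => D2 → D3 → Nat) lv_c_0 lv_c_1 lv_c_2 lv_c_3 lv_c_4 lv_c_5 lv_c_6 lv_c_7 lv_c_8 lv_c_9 lv_c_10 lv_c_11 lv_c_12 lv_c_13 lv_c_14 lv_c_15 lv_c_16 lv_c_17 lv_c_18 lv_c_19 lv_c_20 lv_c_21 lv_c_22)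
abbrev lc_c_Cert_tree : Cert rels S Gen.c := Cert.tree
abbrev lc_c_rc_11_1 : Cert rels S Gen.c := rc_11_1
abbrev lc_c_rc_11_3 : Cert rels S Gen.c := rc_11_3
abbrev lc_c_rc_11_5 : Cert rels S Gen.c := rc_11_5
abbrev lc_c_rc_19_0 : Cert rels S Gen.c := rc_19_0
abbrev lc_c_rc_19_1 : Cert rels S Gen.c := rc_19_1
abbrev lc_c_rc_20_0 : Cert rels S Gen.c := rc_20_0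
abbrev lc_c_rc_20_2 : Cert rels S Gen.c := rc_20_2
abbrev lc_c_rc_20_4 : Cert rels S Gen.c := rc_20_4
abbrev lc_c_rc_21_0 : Cert rels S Gen.c := rc_21_0
abbrev lc_c_rc_21_2 : Cert rels S Gen.c := rc_21_2
abbrev lc_c_rc_22_0 : Cert rels S Gen.c := rc_22_0
abbrev lc_c_rc_22_2 : Cert rels S Gen.c := rc_22_2
abbrev lc_c_rc_23_0 : Cert rels S Gen.c := rc_23_0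
abbrev lc_c_rc_23_2 : Cert rels S Gen.c := rc_23_2
abbrev lc_c_rc_24_0 : Cert rels S Gen.c := rc_24_0
abbrev lc_c_rc_24_2 : Cert rels S Gen.c := rc_24_2
abbrev lc_c_rc_25_0 : Cert rels S Gen.c := rc_25_0
abbrev lc_c_rc_25_2 : Cert rels S Gen.c := rc_25_2
abbrev lc_c_rc_26_0 : Cert rels S Gen.c := rc_26_0
abbrev lc_c_rc_26_2 : Cert rels S Gen.c := rc_26_2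
abbrev lc_c_rc_2_1 : Cert rels S Gen.c := rc_2_1
abbrev lc_c_rc_2_3 : Cert rels S Gen.c := rc_2_3
abbrev lc_c_rc_55_1 : Cert rels S Gen.c := rc_55_1
abbrev lc_c_rc_55_10 : Cert rels S Gen.c := rc_55_10
abbrev lc_c_rc_55_19 : Cert rels S Gen.c := rc_55_19
abbrev lc_c_rc_55_28 : Cert rels S Gen.c := rc_55_28
abbrev lc_c_rc_55_37 : Cert rels S Gen.c := rc_55_37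
abbrev lc_c_rc_55_46 : Cert rels S Gen.c := rc_55_46
abbrev lc_c_rc_55_55 : Cert rels S Gen.c := rc_55_55
abbrev lc_c_rc_55_64 : Cert rels S Gen.c := rc_55_64
abbrev lc_c_rc_55_73 : Cert rels S Gen.c := rc_55_73
abbrev lc_c_rc_55_82 : Cert rels S Gen.c := rc_55_82
abbrev lc_c_rc_56_16 : Cert rels S Gen.c := rc_56_16
abbrev lc_c_rc_56_2 : Cert rels S Gen.c := rc_56_2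
abbrev lc_c_rc_56_23 : Cert rels S Gen.c := rc_56_23
abbrev lc_c_rc_56_30 : Cert rels S Gen.c := rc_56_30
abbrev lc_c_rc_56_37 : Cert rels S Gen.c := rc_56_37
abbrev lc_c_rc_56_44 : Cert rels S Gen.c := rc_56_44
abbrev lc_c_rc_56_51 : Cert rels S Gen.c := rc_56_51
abbrev lc_c_rc_56_58 : Cert rels S Gen.c := rc_56_58
abbrev lc_c_rc_56_9 : Cert rels S Gen.c := rc_56_9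
abbrev lc_c_sc_2_0 : Cert rels S Gen.c := sc_2_0
def ce_c_0 : D2 → D3 → (Cert rels S Gen.c) := @D2.rec (fun _ => D3 → (Cert rels S Gen.c)) (@D3.rec (fun _ => (Cert rels S Gen.c)) lc_c_sc_2_0 lc_c_rc_25_2 lc_c_rc_24_2 lc_c_rc_23_2 lc_c_rc_21_2 lc_c_Cert_tree lc_c_rc_19_0 lc_c_rc_22_2 lc_c_rc_11_3 lc_c_rc_22_2 lc_c_rc_26_2 lc_c_rc_2_1 lc_c_rc_11_3 lc_c_rc_20_2 lc_c_rc_26_2 lc_c_rc_2_1 lc_c_Cert_tree lc_c_rc_11_3 lc_c_rc_21_2 lc_c_rc_20_2 lc_c_Cert_tree lc_c_rc_2_1 lc_c_rc_19_0 lc_c_rc_21_2 lc_c_rc_26_2 lc_c_rc_23_2 lc_c_rc_21_2 lc_c_rc_22_2 lc_c_rc_19_0 lc_c_rc_21_2 lc_c_rc_26_2 lc_c_rc_21_2 lc_c_rc_26_2 lc_c_rc_23_2 lc_c_rc_26_2 lc_c_rc_22_2 lc_c_rc_24_2 lc_c_rc_23_2 lc_c_rc_22_2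 lc_c_rc_11_3 lc_c_rc_21_2 lc_c_rc_26_2 lc_c_rc_23_2 lc_c_rc_26_2 lc_c_rc_22_2 lc_c_rc_20_2 lc_c_rc_23_2 lc_c_rc_26_2 lc_c_rc_22_2 lc_c_rc_24_2 lc_c_rc_26_2) (@D3.rec (fun _ => (Cert rels S Gen.c)) lc_c_rc_22_2 lc_c_rc_25_2 lc_c_rc_24_2 lc_c_rc_23_2 lc_c_Cert_tree lc_c_rc_11_3 lc_c_rc_11_3 lc_c_rc_2_1 lc_c_rc_23_2 lc_c_rc_26_2 lc_c_rc_22_2 lc_c_rc_24_2 lc_c_rc_26_2 lc_c_rc_22_2 lc_c_rc_20_2 lc_c_rc_22_2 lc_c_rc_20_2 lc_c_rc_24_2 lc_c_rc_26_2 lc_c_rc_22_2 lc_c_rc_20_2 lc_c_rc_25_2 lc_c_rc_26_2 lc_c_rc_22_2 lc_c_Cert_tree lc_c_rc_25_2 lc_c_rc_24_2 lc_c_Cert_tree lc_c_rc_19_0 lc_c_Cert_tree lc_c_rc_11_3 lc_c_rc_11_3 lc_c_rc_11_3 lc_c_rc_2_1 lc_c_rc_2_1 lc_c_rc_2_1 lc_c_rc_24_2 lc_c_rc_26_2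 lc_c_rc_22_2 lc_c_rc_2_1 lc_c_rc_25_2 lc_c_rc_26_2 lc_c_rc_22_2 lc_c_Cert_tree lc_c_rc_21_2 lc_c_rc_20_2 lc_c_rc_22_2 lc_c_rc_20_2 lc_c_rc_26_2 lc_c_rc_22_2 lc_c_rc_25_2) (@D3.rec (fun _ => (Cert rels S Gen.c)) lc_c_rc_26_2 lc_c_rc_22_2 lc_c_Cert_tree lc_c_rc_21_2 lc_c_rc_26_2 lc_c_rc_22_2 lc_c_Cert_tree lc_c_rc_19_0 lc_c_rc_25_2 lc_c_Cert_tree lc_c_rc_19_0 lc_c_rc_21_2 lc_c_rc_11_3 lc_c_rc_19_0 lc_c_rc_23_2 lc_c_rc_22_2 lc_c_rc_26_2 lc_c_rc_11_3 lc_c_rc_11_3 lc_c_rc_11_3 lc_c_Cert_tree lc_c_rc_2_1 lc_c_rc_2_1 lc_c_rc_2_1 lc_c_rc_2_1 lc_c_rc_2_1 lc_c_rc_2_1 lc_c_rc_25_2 lc_c_rc_26_2 lc_c_rc_22_2 lc_c_Cert_tree lc_c_rc_2_1 lc_c_rc_26_2 lc_c_rc_22_2 lc_c_Cert_tree lc_c_rc_19_0 lc_c_rc_21_2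 lc_c_rc_22_2 lc_c_rc_21_2 lc_c_rc_20_2 lc_c_rc_22_2 lc_c_rc_20_2 lc_c_rc_26_2 lc_c_rc_22_2 lc_c_rc_26_2 lc_c_Cert_tree lc_c_rc_26_2 lc_c_rc_22_2 lc_c_Cert_tree lc_c_rc_19_0 lc_c_rc_21_2) (@D3.rec (fun _ => (Cert rels S Gen.c)) lc_c_rc_23_2 lc_c_rc_22_2 lc_c_Cert_tree lc_c_rc_19_0 lc_c_rc_21_2 lc_c_rc_11_3 lc_c_Cert_tree lc_c_rc_19_0 lc_c_rc_21_2 lc_c_rc_11_3 lc_c_rc_21_2 lc_c_rc_2_1 lc_c_rc_23_2 lc_c_rc_22_2 lc_c_rc_26_2 lc_c_rc_21_2 lc_c_rc_24_2 lc_c_rc_23_2 lc_c_rc_26_2 lc_c_rc_26_2 lc_c_rc_22_2 lc_c_rc_11_3 lc_c_rc_11_3 lc_c_rc_11_3 lc_c_Cert_tree lc_c_rc_19_0 lc_c_rc_21_2 lc_c_rc_2_1 lc_c_rc_2_1 lc_c_rc_2_1 lc_c_rc_2_1 lc_c_rc_2_1 lc_c_rc_2_1 lc_c_rc_2_1 lc_c_rc_2_1 lc_c_rc_2_1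 lc_c_Cert_tree lc_c_rc_26_2 lc_c_rc_22_2 lc_c_Cert_tree lc_c_rc_19_0 lc_c_rc_21_2 lc_c_rc_2_1 lc_c_rc_22_2 lc_c_Cert_tree lc_c_rc_19_0 lc_c_rc_21_2 lc_c_rc_11_3 lc_c_rc_23_2 lc_c_rc_21_2 lc_c_rc_22_2) (@D3.rec (fun _ => (Cert rels S Gen.c)) lc_c_rc_21_2 lc_c_Cert_tree lc_c_rc_26_2 lc_c_rc_22_2 lc_c_rc_22_2 lc_c_rc_20_2 lc_c_rc_26_2 lc_c_rc_22_2 lc_c_rc_26_2 lc_c_Cert_tree lc_c_Cert_tree lc_c_rc_19_0 lc_c_rc_21_2 lc_c_rc_22_2 lc_c_Cert_tree lc_c_rc_19_0 lc_c_rc_21_2 lc_c_rc_11_3 lc_c_rc_21_2 lc_c_rc_23_2 lc_c_rc_24_2 lc_c_Cert_tree lc_c_rc_19_0 lc_c_rc_21_2 lc_c_rc_11_3 lc_c_rc_21_2 lc_c_rc_2_1 lc_c_rc_19_0 lc_c_rc_21_2 lc_c_rc_11_3 lc_c_rc_21_2 lc_c_rc_23_2 lc_c_rc_2_1 lc_c_rc_11_3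 lc_c_rc_20_2 lc_c_rc_21_2 lc_c_rc_24_2 lc_c_rc_23_2 lc_c_rc_26_2 lc_c_rc_20_2 lc_c_rc_26_2 lc_c_rc_22_2 lc_c_rc_21_2 lc_c_rc_21_2 lc_c_rc_21_2 lc_c_rc_25_2 lc_c_rc_24_2 lc_c_rc_26_2 lc_c_rc_26_2 lc_c_rc_22_2 lc_c_rc_22_2) (@D3.rec (fun _ => (Cert rels S Gen.c)) lc_c_Cert_tree lc_c_rc_11_3 lc_c_rc_11_3 lc_c_Cert_tree lc_c_rc_19_0 lc_c_rc_21_2 lc_c_rc_21_2 lc_c_rc_23_2 lc_c_rc_2_1 lc_c_rc_2_1 lc_c_rc_2_1 lc_c_rc_2_1 lc_c_Cert_tree lc_c_rc_2_1 lc_c_rc_2_1 lc_c_rc_2_1 lc_c_rc_2_1 lc_c_rc_2_1 lc_c_rc_2_1 lc_c_rc_2_1 lc_c_Cert_tree lc_c_Cert_tree lc_c_rc_19_0 lc_c_rc_21_2 lc_c_rc_22_2 lc_c_Cert_tree lc_c_rc_19_0 lc_c_rc_21_2 lc_c_rc_11_3 lc_c_rc_21_2 lc_c_rc_23_2 lc_c_rc_2_1 lc_c_Cert_tree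 lc_c_rc_19_0 lc_c_rc_21_2 lc_c_rc_11_3 lc_c_rc_21_2 lc_c_rc_2_1 lc_c_rc_23_2 lc_c_rc_23_2 lc_c_rc_23_2 lc_c_rc_22_2 lc_c_rc_21_2 lc_c_Cert_tree lc_c_rc_26_2 lc_c_rc_22_2 lc_c_rc_19_0 lc_c_rc_26_2 lc_c_rc_26_2 lc_c_Cert_tree lc_c_rc_26_2) (@D3.rec (fun _ => (Cert rels S Gen.c)) lc_c_rc_22_2 lc_c_rc_26_2 lc_c_Cert_tree lc_c_Cert_tree lc_c_rc_19_0 lc_c_rc_21_2 lc_c_rc_19_0 lc_c_rc_21_2 lc_c_rc_11_3 lc_c_rc_21_2 lc_c_rc_23_2 lc_c_Cert_tree lc_c_rc_19_0 lc_c_rc_21_2 lc_c_rc_11_3 lc_c_rc_21_2 lc_c_rc_23_2 lc_c_rc_2_1 lc_c_rc_11_3 lc_c_rc_23_2 lc_c_rc_24_2 lc_c_rc_25_2 lc_c_rc_19_0 lc_c_rc_21_2 lc_c_rc_11_3 lc_c_rc_21_2 lc_c_rc_23_2 lc_c_rc_2_1 lc_c_rc_11_3 lc_c_rc_20_2 lc_c_rc_11_3 lc_c_rc_21_2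 lc_c_rc_23_2 lc_c_rc_2_1 lc_c_rc_11_3 lc_c_rc_20_2 lc_c_rc_23_2 lc_c_rc_2_1 lc_c_rc_55_73 lc_c_rc_22_2 lc_c_rc_20_2 lc_c_rc_21_2 lc_c_rc_21_2 lc_c_rc_21_2 lc_c_rc_25_2 lc_c_rc_24_2 lc_c_rc_26_2 lc_c_rc_20_2 lc_c_rc_26_2 lc_c_rc_22_2 lc_c_rc_21_2) (@D3.rec (fun _ => (Cert rels S Gen.c)) lc_c_rc_20_2 lc_c_rc_22_2 lc_c_Cert_tree lc_c_rc_23_2 lc_c_rc_21_2 lc_c_rc_21_2 lc_c_rc_21_2 lc_c_rc_56_30 lc_c_rc_21_2 lc_c_rc_22_2 lc_c_rc_25_2 lc_c_rc_26_2 lc_c_rc_26_2 lc_c_rc_22_2 lc_c_rc_22_2 lc_c_Cert_tree lc_c_Cert_tree lc_c_rc_19_0 lc_c_rc_21_2 lc_c_rc_11_3 lc_c_Cert_tree lc_c_rc_19_0 lc_c_rc_21_2 lc_c_rc_11_3 lc_c_rc_21_2 lc_c_rc_23_2 lc_c_rc_20_2 lc_c_rc_23_2 lc_c_rc_24_2 lc_c_rc_2_1 lc_c_rc_2_1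 lc_c_rc_2_1 lc_c_rc_2_1 lc_c_rc_2_1 lc_c_Cert_tree lc_c_rc_2_1 lc_c_rc_2_1 lc_c_rc_19_0 lc_c_rc_26_2 lc_c_rc_2_1 lc_c_Cert_tree lc_c_rc_2_1 lc_c_rc_2_1 lc_c_rc_2_1 lc_c_Cert_tree lc_c_Cert_tree lc_c_rc_19_0 lc_c_rc_21_2 lc_c_rc_19_0 lc_c_rc_21_2 lc_c_rc_11_3) (@D3.rec (fun _ => (Cert rels S Gen.c)) lc_c_rc_21_2 lc_c_rc_23_2 lc_c_Cert_tree lc_c_rc_19_0 lc_c_rc_21_2 lc_c_rc_11_3 lc_c_rc_21_2 lc_c_rc_23_2 lc_c_rc_2_1 lc_c_rc_11_3 lc_c_rc_23_2 lc_c_rc_24_2 lc_c_rc_2_1 lc_c_rc_19_0 lc_c_rc_21_2 lc_c_rc_11_3 lc_c_rc_21_2 lc_c_rc_23_2 lc_c_rc_2_1 lc_c_rc_11_3 lc_c_rc_20_2 lc_c_rc_24_2 lc_c_rc_23_2 lc_c_rc_23_2 lc_c_Cert_tree lc_c_rc_26_2 lc_c_rc_23_2 lc_c_Cert_tree lc_c_rc_26_2 lc_c_rc_22_2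 lc_c_rc_19_0 lc_c_rc_26_2 lc_c_rc_26_2 lc_c_Cert_tree lc_c_rc_11_3 lc_c_rc_26_2 lc_c_rc_2_3 lc_c_Cert_tree lc_c_rc_19_0 lc_c_rc_21_2 lc_c_rc_26_2 lc_c_Cert_tree lc_c_Cert_tree lc_c_rc_19_0 lc_c_rc_21_2 lc_c_rc_19_0 lc_c_rc_21_2 lc_c_rc_11_3 lc_c_rc_21_2 lc_c_rc_23_2 lc_c_rc_11_3) (@D3.rec (fun _ => (Cert rels S Gen.c)) lc_c_rc_21_2 lc_c_rc_23_2 lc_c_rc_2_1 lc_c_rc_11_3 lc_c_rc_20_2 lc_c_rc_23_2 lc_c_rc_24_2 lc_c_rc_19_0 lc_c_rc_21_2 lc_c_rc_11_3 lc_c_rc_21_2 lc_c_rc_23_2 lc_c_rc_2_1 lc_c_rc_11_3 lc_c_rc_20_2 lc_c_rc_23_2 lc_c_rc_24_2 lc_c_rc_2_1 lc_c_rc_11_3 lc_c_rc_24_2 lc_c_rc_25_2 lc_c_rc_11_3 lc_c_rc_21_2 lc_c_rc_23_2 lc_c_rc_2_1 lc_c_rc_11_3 lc_c_rc_20_2 lc_c_rc_23_2 lc_c_rc_2_1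 lc_c_rc_21_0 lc_c_rc_21_0 lc_c_rc_2_1 lc_c_rc_11_3 lc_c_rc_20_2 lc_c_rc_23_2 lc_c_rc_24_2 lc_c_rc_2_1 lc_c_rc_20_4 lc_c_rc_11_3 lc_c_rc_20_2 lc_c_rc_22_2 lc_c_rc_55_82 lc_c_rc_20_2 lc_c_rc_20_2 lc_c_rc_23_2 lc_c_rc_21_2 lc_c_rc_21_2 lc_c_rc_21_2 lc_c_rc_21_2 lc_c_rc_22_2 lc_c_rc_25_2) (@D3.rec (fun _ => (Cert rels S Gen.c)) lc_c_rc_26_2 lc_c_rc_20_2 lc_c_rc_26_2 lc_c_rc_22_2 lc_c_rc_20_2 lc_c_rc_22_2 lc_c_Cert_tree lc_c_rc_21_2 lc_c_rc_22_2 lc_c_Cert_tree lc_c_rc_19_0 lc_c_rc_21_2 lc_c_rc_23_2 lc_c_rc_23_2 lc_c_rc_23_2 lc_c_rc_21_2 lc_c_rc_21_2 lc_c_rc_24_2 lc_c_rc_21_2 lc_c_rc_22_2 lc_c_rc_26_2 lc_c_rc_22_2 lc_c_Cert_tree lc_c_rc_26_2 lc_c_rc_22_2 lc_c_rc_22_2 lc_c_Cert_tree lc_c_Cert_tree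 lc_c_rc_19_0 lc_c_rc_21_2 lc_c_rc_19_0 lc_c_rc_21_2 lc_c_rc_11_3 lc_c_rc_21_2 lc_c_rc_23_2 lc_c_Cert_tree lc_c_rc_19_0 lc_c_rc_21_2 lc_c_rc_11_3 lc_c_rc_21_2 lc_c_rc_23_2 lc_c_rc_2_1 lc_c_rc_11_3 lc_c_rc_20_2 lc_c_rc_23_2 lc_c_rc_24_2 lc_c_rc_20_2 lc_c_rc_22_2 lc_c_rc_24_2 lc_c_rc_25_2 lc_c_rc_2_1) (@D3.rec (fun _ => (Cert rels S Gen.c)) lc_c_rc_2_1 lc_c_rc_2_1 lc_c_Cert_tree lc_c_rc_2_1 lc_c_rc_2_1 lc_c_Cert_tree lc_c_rc_2_1 lc_c_rc_2_1 lc_c_rc_19_0 lc_c_rc_26_2 lc_c_rc_2_1 lc_c_Cert_tree lc_c_rc_26_2 lc_c_rc_55_1 lc_c_Cert_tree lc_c_rc_19_0 lc_c_rc_21_2 lc_c_rc_2_1 lc_c_Cert_tree lc_c_Cert_tree lc_c_rc_19_0 lc_c_rc_21_2 lc_c_rc_19_0 lc_c_rc_21_2 lc_c_rc_11_3 lc_c_rc_21_2 lc_c_rc_23_2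 lc_c_rc_11_3 lc_c_rc_21_2 lc_c_rc_23_2 lc_c_rc_2_1 lc_c_rc_11_3 lc_c_rc_20_2 lc_c_rc_23_2 lc_c_rc_24_2 lc_c_rc_19_0 lc_c_rc_21_2 lc_c_rc_11_3 lc_c_rc_21_2 lc_c_rc_23_2 lc_c_rc_2_1 lc_c_rc_11_3 lc_c_rc_20_2 lc_c_rc_23_2 lc_c_rc_24_2 lc_c_rc_2_1 lc_c_rc_11_3 lc_c_rc_24_2 lc_c_rc_25_2 lc_c_rc_11_3 lc_c_rc_21_2) (@D3.rec (fun _ => (Cert rels S Gen.c)) lc_c_rc_23_2 lc_c_rc_2_1 lc_c_rc_11_3 lc_c_rc_20_2 lc_c_rc_23_2 lc_c_rc_2_1 lc_c_Cert_tree lc_c_rc_21_0 lc_c_rc_24_2 lc_c_rc_24_2 lc_c_Cert_tree lc_c_rc_26_2 lc_c_rc_23_2 lc_c_rc_19_0 lc_c_rc_21_2 lc_c_rc_26_2 lc_c_rc_26_2 lc_c_Cert_tree lc_c_rc_19_0 lc_c_rc_26_2 lc_c_rc_26_2 lc_c_Cert_tree lc_c_rc_11_3 lc_c_rc_26_2 lc_c_rc_20_2 lc_c_Cert_tree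 lc_c_rc_19_0 lc_c_rc_21_2 lc_c_rc_21_0 lc_c_rc_19_0 lc_c_rc_21_2 lc_c_rc_11_3 lc_c_rc_21_2 lc_c_rc_23_2 lc_c_Cert_tree lc_c_rc_19_0 lc_c_rc_21_2 lc_c_rc_19_0 lc_c_rc_21_2 lc_c_rc_11_3 lc_c_rc_21_2 lc_c_rc_23_2 lc_c_rc_11_3 lc_c_rc_21_2 lc_c_rc_23_2 lc_c_rc_2_1 lc_c_rc_11_3 lc_c_rc_20_2 lc_c_rc_23_2 lc_c_rc_24_2 lc_c_rc_2_1) (@D3.rec (fun _ => (Cert rels S Gen.c)) lc_c_rc_11_3 lc_c_rc_20_2 lc_c_rc_23_2 lc_c_rc_24_2 lc_c_rc_2_1 lc_c_Cert_tree lc_c_rc_11_3 lc_c_rc_20_2 lc_c_rc_24_2 lc_c_rc_25_2 lc_c_rc_11_3 lc_c_rc_21_2 lc_c_rc_23_2 lc_c_rc_2_1 lc_c_rc_11_3 lc_c_rc_20_2 lc_c_rc_23_2 lc_c_rc_24_2 lc_c_rc_2_1 lc_c_rc_2_3 lc_c_rc_11_3 lc_c_rc_20_2 lc_c_rc_20_0 lc_c_rc_24_2 lc_c_rc_25_2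 lc_c_rc_2_1 lc_c_rc_11_3 lc_c_rc_25_2 lc_c_rc_2_1 lc_c_rc_11_3 lc_c_rc_20_2 lc_c_rc_23_2 lc_c_rc_24_2 lc_c_rc_2_1 lc_c_rc_24_2 lc_c_rc_11_3 lc_c_rc_20_2 lc_c_rc_21_0 lc_c_rc_21_0 lc_c_rc_2_1 lc_c_rc_20_4 lc_c_rc_11_3 lc_c_rc_20_2 lc_c_rc_22_2 lc_c_rc_24_2 lc_c_rc_20_4 lc_c_rc_2_1 lc_c_rc_20_4 lc_c_rc_21_2 lc_c_rc_22_2 lc_c_rc_20_2) (@D3.rec (fun _ => (Cert rels S Gen.c)) lc_c_rc_20_2 lc_c_rc_20_2 lc_c_rc_22_2 lc_c_rc_23_2 lc_c_rc_23_2 lc_c_rc_23_2 lc_c_rc_21_2 lc_c_rc_21_2 lc_c_rc_21_2 lc_c_rc_22_2 lc_c_rc_22_2 lc_c_Cert_tree lc_c_rc_20_2 lc_c_rc_26_2 lc_c_rc_22_2 lc_c_rc_20_2 lc_c_rc_22_2 lc_c_Cert_tree lc_c_rc_22_2 lc_c_Cert_tree lc_c_rc_19_0 lc_c_rc_21_2 lc_c_rc_22_2 lc_c_Cert_tree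 lc_c_rc_19_0 lc_c_rc_21_2 lc_c_rc_20_2 lc_c_rc_21_2 lc_c_rc_23_2 lc_c_rc_24_2 lc_c_rc_23_2 lc_c_rc_23_2 lc_c_rc_20_4 lc_c_rc_23_2 lc_c_rc_22_2 lc_c_rc_25_2 lc_c_rc_21_2 lc_c_rc_22_2 lc_c_rc_26_2 lc_c_rc_22_2 lc_c_Cert_tree lc_c_rc_22_2 lc_c_Cert_tree lc_c_rc_19_0 lc_c_rc_21_2 lc_c_rc_22_2 lc_c_Cert_tree lc_c_Cert_tree lc_c_rc_19_0 lc_c_rc_21_2 lc_c_rc_19_0) (@D3.rec (fun _ => (Cert rels S Gen.c)) lc_c_rc_21_2 lc_c_rc_11_3 lc_c_rc_21_2 lc_c_rc_23_2 lc_c_rc_11_3 lc_c_rc_21_2 lc_c_rc_23_2 lc_c_rc_2_1 lc_c_rc_11_3 lc_c_rc_20_2 lc_c_rc_23_2 lc_c_rc_24_2 lc_c_rc_19_0 lc_c_rc_21_2 lc_c_rc_11_3 lc_c_rc_21_2 lc_c_rc_23_2 lc_c_rc_2_1 lc_c_rc_11_3 lc_c_rc_20_2 lc_c_rc_23_2 lc_c_rc_24_2 lc_c_rc_2_1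 lc_c_rc_11_3 lc_c_rc_11_3 lc_c_rc_20_2 lc_c_rc_22_2 lc_c_rc_24_2 lc_c_rc_25_2 lc_c_rc_21_2 lc_c_rc_20_2 lc_c_rc_22_2 lc_c_rc_26_2 lc_c_rc_25_2 lc_c_rc_2_1 lc_c_rc_2_1 lc_c_Cert_tree lc_c_rc_2_1 lc_c_rc_2_1 lc_c_rc_19_0 lc_c_rc_21_2 lc_c_rc_26_2 lc_c_rc_2_1 lc_c_Cert_tree lc_c_rc_19_0 lc_c_rc_26_2 lc_c_rc_2_1 lc_c_Cert_tree lc_c_rc_26_2 lc_c_rc_20_2 lc_c_Cert_tree) (@D3.rec (fun _ => (Cert rels S Gen.c)) lc_c_rc_19_0 lc_c_rc_21_2 lc_c_rc_21_0 lc_c_rc_19_0 lc_c_rc_21_2 lc_c_rc_11_3 lc_c_rc_21_2 lc_c_rc_23_2 lc_c_Cert_tree lc_c_rc_19_0 lc_c_rc_21_2 lc_c_rc_19_0 lc_c_rc_21_2 lc_c_rc_11_3 lc_c_rc_21_2 lc_c_rc_23_2 lc_c_rc_11_3 lc_c_rc_21_2 lc_c_rc_23_2 lc_c_rc_2_1 lc_c_rc_11_3 lc_c_rc_20_2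 lc_c_rc_23_2 lc_c_rc_24_2 lc_c_rc_2_1 lc_c_rc_11_3 lc_c_rc_20_2 lc_c_rc_23_2 lc_c_rc_24_2 lc_c_rc_2_1 lc_c_Cert_tree lc_c_rc_11_3 lc_c_rc_20_2 lc_c_rc_24_2 lc_c_rc_25_2 lc_c_rc_11_3 lc_c_rc_21_2 lc_c_rc_23_2 lc_c_rc_2_1 lc_c_rc_11_3 lc_c_rc_20_2 lc_c_rc_23_2 lc_c_rc_24_2 lc_c_rc_2_1 lc_c_Cert_tree lc_c_rc_11_3 lc_c_rc_20_2 lc_c_rc_20_0 lc_c_rc_24_2 lc_c_rc_25_2 lc_c_rc_2_1) (@D3.rec (fun _ => (Cert rels S Gen.c)) lc_c_rc_11_3 lc_c_rc_25_2 lc_c_rc_2_1 lc_c_rc_11_3 lc_c_rc_20_2 lc_c_rc_23_2 lc_c_rc_24_2 lc_c_rc_2_1 lc_c_Cert_tree lc_c_rc_11_3 lc_c_rc_20_2 lc_c_rc_21_0 lc_c_Cert_tree lc_c_rc_19_0 lc_c_rc_22_2 lc_c_rc_21_0 lc_c_Cert_tree lc_c_rc_26_2 lc_c_rc_24_2 lc_c_rc_19_0 lc_c_rc_21_2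 lc_c_rc_26_2 lc_c_rc_26_2 lc_c_Cert_tree lc_c_rc_11_3 lc_c_rc_21_2 lc_c_rc_26_2 lc_c_rc_26_2 lc_c_rc_20_2 lc_c_Cert_tree lc_c_rc_19_0 lc_c_rc_21_2 lc_c_rc_11_3 lc_c_rc_26_2 lc_c_rc_20_2 lc_c_Cert_tree lc_c_rc_19_0 lc_c_rc_21_2 lc_c_rc_24_2 lc_c_rc_19_0 lc_c_rc_21_2 lc_c_rc_11_3 lc_c_rc_21_2 lc_c_rc_23_2 lc_c_rc_11_1 lc_c_rc_21_2 lc_c_rc_23_2 lc_c_rc_11_3 lc_c_rc_20_2 lc_c_rc_23_2 lc_c_rc_24_2) (@D3.rec (fun _ => (Cert rels S Gen.c)) lc_c_rc_19_0 lc_c_rc_21_2 lc_c_rc_11_3 lc_c_rc_21_2 lc_c_rc_23_2 lc_c_rc_11_3 lc_c_rc_21_2 lc_c_rc_23_2 lc_c_rc_2_1 lc_c_rc_11_3 lc_c_rc_20_2 lc_c_rc_23_2 lc_c_rc_24_2 lc_c_rc_2_1 lc_c_rc_11_3 lc_c_rc_20_2 lc_c_rc_23_2 lc_c_rc_24_2 lc_c_rc_2_1 lc_c_rc_2_3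 lc_c_rc_11_3 lc_c_rc_20_2 lc_c_rc_22_2 lc_c_rc_24_2 lc_c_rc_25_2 lc_c_rc_2_1 lc_c_Cert_tree lc_c_rc_11_3 lc_c_rc_20_2 lc_c_rc_22_2 lc_c_rc_24_2 lc_c_rc_25_2 lc_c_Cert_tree lc_c_rc_2_1 lc_c_rc_19_0 lc_c_rc_23_2 lc_c_rc_11_3 lc_c_rc_21_2 lc_c_rc_20_2 lc_c_rc_25_2 lc_c_rc_2_1 lc_c_rc_11_3 lc_c_rc_20_2 lc_c_rc_23_2 lc_c_rc_24_2 lc_c_rc_2_1 lc_c_rc_24_2 lc_c_rc_11_3 lc_c_rc_20_2 lc_c_rc_20_0 lc_c_rc_24_2) (@D3.rec (fun _ => (Cert rels S Gen.c)) lc_c_rc_25_2 lc_c_rc_19_1 lc_c_rc_2_1 lc_c_rc_23_2 lc_c_rc_11_3 lc_c_rc_20_2 lc_c_rc_20_0 lc_c_rc_25_2 lc_c_rc_2_1 lc_c_rc_11_3 lc_c_rc_2_1 lc_c_rc_25_2 lc_c_rc_11_3 lc_c_rc_20_2 lc_c_rc_21_0 lc_c_rc_24_2 lc_c_rc_22_0 lc_c_rc_2_1 lc_c_rc_2_3 lc_c_rc_21_2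 lc_c_rc_22_2 lc_c_rc_20_4 lc_c_rc_2_1 lc_c_rc_20_4 lc_c_rc_11_3 lc_c_rc_21_2 lc_c_rc_20_2 lc_c_rc_22_2 lc_c_rc_20_4 lc_c_rc_21_2 lc_c_rc_22_2 lc_c_rc_21_2 lc_c_rc_20_2 lc_c_rc_20_2 lc_c_rc_20_2 lc_c_rc_22_2 lc_c_Cert_tree lc_c_rc_24_2 lc_c_rc_23_2 lc_c_rc_23_2 lc_c_rc_23_2 lc_c_rc_22_2 lc_c_rc_21_2 lc_c_rc_22_2 lc_c_rc_22_2 lc_c_Cert_tree lc_c_Cert_tree lc_c_rc_19_0 lc_c_rc_21_2 lc_c_rc_20_2 lc_c_rc_22_2) (@D3.rec (fun _ => (Cert rels S Gen.c)) lc_c_Cert_tree lc_c_rc_22_2 lc_c_Cert_tree lc_c_rc_19_0 lc_c_rc_21_2 lc_c_Cert_tree lc_c_rc_19_0 lc_c_rc_21_2 lc_c_rc_20_2 lc_c_rc_21_2 lc_c_rc_23_2 lc_c_Cert_tree lc_c_rc_19_0 lc_c_rc_21_2 lc_c_rc_20_2 lc_c_rc_21_2 lc_c_rc_23_2 lc_c_rc_2_1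 lc_c_rc_21_2 lc_c_rc_20_2 lc_c_rc_23_2 lc_c_rc_24_2 lc_c_rc_24_2 lc_c_rc_24_2 lc_c_rc_20_4 lc_c_rc_23_2 lc_c_rc_22_2 lc_c_rc_21_2 lc_c_rc_23_2 lc_c_rc_22_2 lc_c_Cert_tree lc_c_rc_26_2 lc_c_rc_22_2 lc_c_Cert_tree lc_c_rc_22_2 lc_c_Cert_tree lc_c_rc_19_0 lc_c_rc_21_2 lc_c_Cert_tree lc_c_rc_19_0 lc_c_rc_21_2 lc_c_rc_11_3 lc_c_rc_21_2 lc_c_rc_23_2 lc_c_Cert_tree lc_c_rc_19_0 lc_c_rc_21_2 lc_c_rc_19_0 lc_c_rc_21_2 lc_c_rc_11_3 lc_c_rc_21_2) (@D3.rec (fun _ => (Cert rels S Gen.c)) lc_c_rc_23_2 lc_c_rc_11_3 lc_c_rc_21_2 lc_c_rc_23_2 lc_c_rc_2_1 lc_c_rc_11_3 lc_c_rc_20_2 lc_c_rc_23_2 lc_c_rc_24_2 lc_c_rc_2_1 lc_c_rc_11_3 lc_c_rc_20_2 lc_c_rc_23_2 lc_c_rc_24_2 lc_c_rc_2_1 lc_c_Cert_tree lc_c_rc_11_3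 lc_c_rc_20_2 lc_c_rc_20_2 lc_c_rc_24_2 lc_c_rc_25_2 lc_c_rc_11_3 lc_c_rc_21_2 lc_c_rc_23_2 lc_c_rc_2_1 lc_c_rc_11_3 lc_c_rc_20_2 lc_c_rc_23_2 lc_c_rc_24_2 lc_c_rc_2_1 lc_c_Cert_tree lc_c_rc_11_3 lc_c_rc_20_2 lc_c_rc_20_0 lc_c_rc_24_2 lc_c_rc_25_2 lc_c_rc_2_1 lc_c_rc_2_1 lc_c_rc_11_3 lc_c_rc_11_3 lc_c_rc_11_3 lc_c_rc_21_2 lc_c_rc_20_2 lc_c_rc_22_2 lc_c_rc_26_2 lc_c_rc_25_2 lc_c_rc_21_2 lc_c_rc_22_2 lc_c_rc_20_2 lc_c_rc_22_2 lc_c_rc_26_2) (@D3.rec (fun _ => (Cert rels S Gen.c)) lc_c_Cert_tree lc_c_rc_2_1 lc_c_rc_2_1 lc_c_rc_19_0 lc_c_rc_21_2 lc_c_rc_26_2 lc_c_rc_2_1 lc_c_Cert_tree lc_c_rc_21_2 lc_c_rc_26_2 lc_c_rc_26_2 lc_c_rc_20_2 lc_c_Cert_tree lc_c_rc_19_0 lc_c_rc_21_2 lc_c_rc_26_2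 lc_c_rc_20_2 lc_c_Cert_tree lc_c_rc_19_0 lc_c_rc_21_2 lc_c_rc_22_2 lc_c_rc_19_0 lc_c_rc_21_2 lc_c_rc_11_3 lc_c_rc_21_2 lc_c_rc_23_2 lc_c_rc_55_64 lc_c_rc_11_3 lc_c_rc_21_2 lc_c_rc_23_2 lc_c_rc_2_1 lc_c_rc_11_3 lc_c_rc_20_2 lc_c_rc_23_2 lc_c_rc_24_2 lc_c_rc_19_0 lc_c_rc_21_2 lc_c_rc_11_3 lc_c_rc_21_2 lc_c_rc_23_2 lc_c_rc_11_3 lc_c_rc_21_2 lc_c_rc_23_2 lc_c_rc_2_1 lc_c_rc_11_3 lc_c_rc_20_2 lc_c_rc_23_2 lc_c_rc_24_2 lc_c_rc_2_1 lc_c_rc_11_3 lc_c_rc_20_2) (@D3.rec (fun _ => (Cert rels S Gen.c)) lc_c_rc_23_2 lc_c_rc_24_2 lc_c_rc_2_1 lc_c_Cert_tree lc_c_rc_11_3 lc_c_rc_20_2 lc_c_rc_22_2 lc_c_rc_24_2 lc_c_rc_25_2 lc_c_rc_2_1 lc_c_Cert_tree lc_c_rc_11_3 lc_c_rc_20_2 lc_c_rc_22_2 lc_c_rc_24_2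 lc_c_rc_25_2 lc_c_Cert_tree lc_c_rc_2_1 lc_c_rc_19_0 lc_c_rc_23_2 lc_c_rc_11_3 lc_c_rc_21_2 lc_c_rc_20_2 lc_c_rc_25_2 lc_c_rc_2_1 lc_c_rc_11_3 lc_c_rc_20_2 lc_c_rc_23_2 lc_c_rc_24_2 lc_c_rc_2_1 lc_c_Cert_tree lc_c_rc_11_3 lc_c_rc_20_2 lc_c_rc_20_0 lc_c_rc_24_2 lc_c_rc_25_2 lc_c_Cert_tree lc_c_rc_2_1 lc_c_rc_19_0 lc_c_rc_23_2 lc_c_rc_22_2 lc_c_rc_11_3 lc_c_rc_20_2 lc_c_rc_20_0 lc_c_rc_20_0 lc_c_rc_25_2 lc_c_rc_2_1 lc_c_rc_11_3 lc_c_rc_2_1 lc_c_Cert_tree lc_c_rc_11_3) (@D3.rec (fun _ => (Cert rels S Gen.c)) lc_c_rc_20_2 lc_c_rc_21_0 lc_c_rc_24_2 lc_c_Cert_tree lc_c_rc_2_1 lc_c_rc_19_0 lc_c_rc_23_2 lc_c_rc_22_2 lc_c_rc_21_2 lc_c_rc_22_2 lc_c_rc_21_0 lc_c_rc_19_0 lc_c_rc_22_2 lc_c_rc_19_0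 lc_c_rc_21_2 lc_c_rc_26_2 lc_c_rc_26_2 lc_c_Cert_tree lc_c_rc_11_3 lc_c_rc_21_2 lc_c_rc_26_2 lc_c_rc_26_2 lc_c_rc_20_2 lc_c_Cert_tree lc_c_rc_19_0 lc_c_rc_21_2 lc_c_rc_11_3 lc_c_rc_20_2 lc_c_rc_26_2 lc_c_rc_21_2 lc_c_rc_2_3 lc_c_rc_19_0 lc_c_rc_21_2 lc_c_rc_11_3 lc_c_rc_21_2 lc_c_rc_23_2 lc_c_rc_25_2 lc_c_rc_19_0 lc_c_rc_21_2 lc_c_rc_11_3 lc_c_rc_21_2 lc_c_rc_23_2 lc_c_rc_24_2 lc_c_rc_21_2 lc_c_rc_23_2 lc_c_rc_11_3 lc_c_rc_20_2 lc_c_rc_23_2 lc_c_rc_24_2 lc_c_rc_22_2 lc_c_rc_20_2) (@D3.rec (fun _ => (Cert rels S Gen.c)) lc_c_rc_23_2 lc_c_rc_24_2 lc_c_Cert_tree lc_c_rc_11_3 lc_c_rc_20_2 lc_c_rc_22_2 lc_c_rc_24_2 lc_c_rc_25_2 lc_c_rc_11_3 lc_c_rc_21_2 lc_c_rc_23_2 lc_c_rc_2_1 lc_c_rc_11_3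 lc_c_rc_20_2 lc_c_rc_23_2 lc_c_rc_24_2 lc_c_rc_2_1 lc_c_rc_11_3 lc_c_rc_20_2 lc_c_rc_23_2 lc_c_rc_24_2 lc_c_rc_2_1 lc_c_rc_2_3 lc_c_rc_11_3 lc_c_rc_20_2 lc_c_rc_22_2 lc_c_rc_24_2 lc_c_rc_25_2 lc_c_rc_2_1 lc_c_rc_56_58 lc_c_rc_11_3 lc_c_rc_20_2 lc_c_rc_56_2 lc_c_rc_24_2 lc_c_rc_25_2 lc_c_rc_11_5 lc_c_rc_2_1 lc_c_rc_2_3 lc_c_rc_11_3 lc_c_rc_21_2 lc_c_rc_20_2 lc_c_rc_22_2 lc_c_rc_25_2 lc_c_Cert_tree lc_c_rc_2_1 lc_c_rc_19_0 lc_c_rc_23_2 lc_c_rc_22_2 lc_c_rc_11_3 lc_c_rc_21_2 lc_c_rc_20_2) (@D3.rec (fun _ => (Cert rels S Gen.c)) lc_c_rc_22_2 lc_c_rc_25_2 lc_c_rc_19_0 lc_c_rc_23_2 lc_c_rc_2_1 lc_c_rc_23_2 lc_c_rc_21_2 lc_c_rc_24_2 lc_c_rc_11_3 lc_c_rc_21_2 lc_c_rc_20_2 lc_c_rc_2_1 lc_c_rc_25_2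 lc_c_rc_11_3 lc_c_rc_20_2 lc_c_rc_20_0 lc_c_rc_24_2 lc_c_rc_25_2 lc_c_rc_22_0 lc_c_rc_2_1 lc_c_rc_2_3 lc_c_rc_11_3 lc_c_rc_21_2 lc_c_rc_20_2 lc_c_rc_20_0 lc_c_rc_25_2 lc_c_rc_22_0 lc_c_rc_2_1 lc_c_rc_24_2 lc_c_rc_11_3 lc_c_rc_20_2 lc_c_rc_20_0 lc_c_rc_2_1 lc_c_rc_22_0 lc_c_rc_2_1 lc_c_rc_2_3 lc_c_rc_11_3 lc_c_rc_21_2 lc_c_rc_20_2 lc_c_rc_22_2 lc_c_rc_23_2 lc_c_rc_21_2 lc_c_rc_22_2 lc_c_rc_20_4 lc_c_rc_2_1 lc_c_rc_21_2 lc_c_rc_20_4 lc_c_rc_21_2 lc_c_rc_22_2 lc_c_rc_22_2 lc_c_rc_21_2)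
def ce_c_1 : D2 → D3 → (Cert rels S Gen.c) := @D2.rec (fun _ => D3 → (Cert rels S Gen.c)) (@D3.rec (fun _ => (Cert rels S Gen.c)) lc_c_Cert_tree lc_c_rc_21_2 lc_c_rc_21_2 lc_c_rc_20_2 lc_c_rc_20_2 lc_c_rc_22_2 lc_c_rc_22_2 lc_c_Cert_tree lc_c_rc_19_0 lc_c_rc_21_2 lc_c_rc_24_2 lc_c_rc_24_2 lc_c_rc_23_2 lc_c_rc_22_2 lc_c_rc_22_2 lc_c_Cert_tree lc_c_rc_22_2 lc_c_Cert_tree lc_c_Cert_tree lc_c_rc_19_0 lc_c_rc_21_2 lc_c_rc_19_0 lc_c_rc_21_2 lc_c_rc_11_3 lc_c_rc_21_2 lc_c_rc_23_2 lc_c_rc_22_2 lc_c_Cert_tree lc_c_rc_19_0 lc_c_rc_21_2 lc_c_Cert_tree lc_c_rc_19_0 lc_c_rc_21_2 lc_c_rc_20_2 lc_c_rc_21_2 lc_c_rc_23_2 lc_c_rc_19_0 lc_c_rc_21_2 lc_c_rc_20_2 lc_c_rc_21_2 lc_c_rc_23_2 lc_c_rc_2_1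 lc_c_rc_21_2 lc_c_rc_20_2 lc_c_rc_23_2 lc_c_rc_24_2 lc_c_rc_19_0 lc_c_rc_21_2 lc_c_rc_22_2 lc_c_rc_21_2 lc_c_rc_23_2) (@D3.rec (fun _ => (Cert rels S Gen.c)) lc_c_rc_2_1 lc_c_rc_21_2 lc_c_rc_20_2 lc_c_rc_23_2 lc_c_rc_24_2 lc_c_rc_2_1 lc_c_Cert_tree lc_c_rc_23_2 lc_c_rc_20_2 lc_c_rc_21_2 lc_c_rc_24_2 lc_c_rc_25_2 lc_c_rc_24_2 lc_c_rc_24_2 lc_c_rc_22_2 lc_c_rc_21_2 lc_c_rc_23_2 lc_c_rc_22_2 lc_c_Cert_tree lc_c_rc_26_2 lc_c_rc_23_2 lc_c_Cert_tree lc_c_rc_19_0 lc_c_rc_21_2 lc_c_rc_22_2 lc_c_Cert_tree lc_c_rc_19_0 lc_c_rc_21_2 lc_c_Cert_tree lc_c_rc_19_0 lc_c_rc_21_2 lc_c_rc_11_3 lc_c_rc_21_2 lc_c_rc_23_2 lc_c_rc_19_0 lc_c_rc_21_2 lc_c_rc_11_3 lc_c_rc_21_2 lc_c_rc_23_2 lc_c_rc_2_1 lc_c_rc_11_3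 lc_c_rc_20_2 lc_c_rc_23_2 lc_c_rc_24_2 lc_c_rc_19_0 lc_c_rc_21_2 lc_c_rc_11_3 lc_c_rc_21_2 lc_c_rc_23_2 lc_c_rc_11_3 lc_c_rc_21_2) (@D3.rec (fun _ => (Cert rels S Gen.c)) lc_c_rc_23_2 lc_c_rc_2_1 lc_c_rc_11_3 lc_c_rc_20_2 lc_c_rc_23_2 lc_c_rc_24_2 lc_c_rc_2_1 lc_c_rc_11_3 lc_c_rc_20_2 lc_c_rc_23_2 lc_c_rc_24_2 lc_c_rc_2_1 lc_c_Cert_tree lc_c_rc_11_3 lc_c_rc_20_2 lc_c_rc_22_2 lc_c_rc_24_2 lc_c_rc_25_2 lc_c_rc_2_1 lc_c_Cert_tree lc_c_rc_11_3 lc_c_rc_20_2 lc_c_rc_22_2 lc_c_rc_24_2 lc_c_rc_25_2 lc_c_Cert_tree lc_c_rc_2_1 lc_c_rc_19_0 lc_c_rc_23_2 lc_c_rc_22_2 lc_c_rc_11_3 lc_c_rc_21_2 lc_c_rc_20_2 lc_c_rc_20_2 lc_c_rc_20_2 lc_c_rc_25_2 lc_c_rc_2_1 lc_c_rc_11_3 lc_c_rc_20_2 lc_c_rc_23_2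 lc_c_rc_24_2 lc_c_rc_2_1 lc_c_Cert_tree lc_c_rc_11_3 lc_c_rc_20_2 lc_c_rc_20_0 lc_c_rc_24_2 lc_c_rc_25_2 lc_c_Cert_tree lc_c_rc_2_1 lc_c_rc_19_0) (@D3.rec (fun _ => (Cert rels S Gen.c)) lc_c_rc_23_2 lc_c_rc_22_2 lc_c_rc_11_3 lc_c_rc_20_2 lc_c_rc_20_2 lc_c_rc_20_0 lc_c_rc_20_0 lc_c_rc_25_2 lc_c_rc_2_1 lc_c_rc_2_1 lc_c_rc_2_1 lc_c_rc_11_3 lc_c_rc_11_3 lc_c_rc_11_3 lc_c_rc_11_3 lc_c_rc_11_3 lc_c_rc_21_2 lc_c_rc_22_2 lc_c_rc_20_2 lc_c_rc_22_2 lc_c_rc_26_2 lc_c_rc_23_2 lc_c_rc_21_2 lc_c_rc_22_2 lc_c_Cert_tree lc_c_rc_26_2 lc_c_rc_22_2 lc_c_rc_26_2 lc_c_rc_19_0 lc_c_rc_21_2 lc_c_rc_26_2 lc_c_rc_2_1 lc_c_Cert_tree lc_c_rc_21_2 lc_c_rc_26_2 lc_c_rc_26_2 lc_c_rc_20_2 lc_c_Cert_tree lc_c_rc_19_0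 lc_c_rc_21_2 lc_c_rc_20_2 lc_c_rc_26_2 lc_c_rc_21_2 lc_c_rc_23_2 lc_c_rc_19_0 lc_c_rc_21_2 lc_c_rc_11_3 lc_c_rc_21_2 lc_c_rc_23_2 lc_c_rc_22_2 lc_c_rc_19_0) (@D3.rec (fun _ => (Cert rels S Gen.c)) lc_c_rc_21_2 lc_c_rc_11_3 lc_c_rc_21_2 lc_c_rc_23_2 lc_c_rc_22_2 lc_c_rc_11_3 lc_c_rc_21_2 lc_c_rc_23_2 lc_c_rc_2_1 lc_c_rc_11_3 lc_c_rc_20_2 lc_c_rc_23_2 lc_c_rc_24_2 lc_c_rc_22_2 lc_c_rc_11_3 lc_c_rc_20_2 lc_c_rc_23_2 lc_c_rc_24_2 lc_c_rc_2_1 lc_c_Cert_tree lc_c_rc_11_3 lc_c_rc_20_2 lc_c_rc_22_2 lc_c_rc_24_2 lc_c_rc_25_2 lc_c_rc_11_3 lc_c_rc_21_2 lc_c_rc_23_2 lc_c_rc_2_1 lc_c_rc_11_3 lc_c_rc_20_2 lc_c_rc_23_2 lc_c_rc_24_2 lc_c_rc_2_1 lc_c_rc_11_3 lc_c_rc_20_2 lc_c_rc_23_2 lc_c_rc_24_2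 lc_c_rc_2_1 lc_c_Cert_tree lc_c_rc_11_3 lc_c_rc_20_2 lc_c_rc_22_2 lc_c_rc_24_2 lc_c_rc_25_2 lc_c_rc_2_1 lc_c_Cert_tree lc_c_rc_11_3 lc_c_rc_20_2 lc_c_rc_11_5 lc_c_rc_24_2) (@D3.rec (fun _ => (Cert rels S Gen.c)) lc_c_rc_25_2 lc_c_Cert_tree lc_c_rc_2_1 lc_c_rc_19_0 lc_c_rc_23_2 lc_c_rc_22_2 lc_c_rc_11_3 lc_c_rc_21_2 lc_c_rc_20_2 lc_c_rc_22_2 lc_c_rc_26_2 lc_c_rc_25_2 lc_c_Cert_tree lc_c_rc_2_1 lc_c_rc_19_0 lc_c_rc_23_2 lc_c_rc_22_2 lc_c_rc_11_3 lc_c_rc_21_2 lc_c_rc_20_2 lc_c_rc_22_2 lc_c_rc_25_2 lc_c_rc_19_0 lc_c_rc_23_2 lc_c_rc_2_1 lc_c_rc_23_2 lc_c_rc_21_2 lc_c_rc_24_2 lc_c_rc_11_3 lc_c_rc_21_2 lc_c_rc_20_2 lc_c_rc_2_1 lc_c_Cert_tree lc_c_rc_11_3 lc_c_rc_20_2 lc_c_rc_20_0 lc_c_rc_24_2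 lc_c_rc_25_2 lc_c_Cert_tree lc_c_rc_2_1 lc_c_rc_19_0 lc_c_rc_23_2 lc_c_rc_22_2 lc_c_rc_11_3 lc_c_rc_21_2 lc_c_rc_20_2 lc_c_rc_20_0 lc_c_rc_20_0 lc_c_rc_25_2 lc_c_rc_19_0 lc_c_rc_23_2) (@D3.rec (fun _ => (Cert rels S Gen.c)) lc_c_rc_2_1 lc_c_rc_23_2 lc_c_rc_22_2 lc_c_rc_24_2 lc_c_rc_23_2 lc_c_rc_11_3 lc_c_rc_20_2 lc_c_rc_20_0 lc_c_rc_20_0 lc_c_rc_2_1 lc_c_Cert_tree lc_c_rc_2_1 lc_c_rc_19_0 lc_c_rc_23_2 lc_c_rc_22_2 lc_c_rc_11_3 lc_c_rc_21_2 lc_c_rc_20_2 lc_c_rc_22_2 lc_c_rc_21_0 lc_c_rc_19_0 lc_c_rc_23_2 lc_c_rc_23_2 lc_c_rc_22_2 lc_c_rc_21_2 lc_c_rc_23_2 lc_c_rc_22_2 lc_c_rc_23_2 lc_c_rc_20_2 lc_c_rc_11_3 lc_c_rc_21_2 lc_c_rc_26_2 lc_c_rc_23_2 lc_c_rc_26_2 lc_c_rc_20_2 lc_c_Cert_tree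 lc_c_rc_19_0 lc_c_rc_21_2 lc_c_rc_11_3 lc_c_rc_20_2 lc_c_rc_26_2 lc_c_rc_21_2 lc_c_rc_2_3 lc_c_rc_19_0 lc_c_rc_21_2 lc_c_rc_11_3 lc_c_rc_21_2 lc_c_rc_23_2 lc_c_Cert_tree lc_c_rc_22_2 lc_c_rc_20_2) (@D3.rec (fun _ => (Cert rels S Gen.c)) lc_c_rc_20_2 lc_c_rc_21_2 lc_c_rc_21_2 lc_c_rc_23_2 lc_c_rc_11_3 lc_c_rc_20_2 lc_c_rc_23_2 lc_c_rc_24_2 lc_c_rc_25_2 lc_c_rc_21_2 lc_c_rc_23_2 lc_c_rc_11_3 lc_c_rc_20_2 lc_c_rc_23_2 lc_c_rc_24_2 lc_c_rc_2_3 lc_c_rc_20_2 lc_c_rc_23_2 lc_c_rc_24_2 lc_c_Cert_tree lc_c_rc_11_3 lc_c_rc_20_2 lc_c_rc_22_2 lc_c_rc_24_2 lc_c_rc_25_2 lc_c_rc_24_2 lc_c_rc_20_2 lc_c_rc_24_2 lc_c_rc_25_2 lc_c_rc_19_0 lc_c_rc_23_2 lc_c_rc_2_3 lc_c_rc_11_3 lc_c_rc_21_2 lc_c_rc_20_2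 lc_c_rc_22_2 lc_c_rc_25_2 lc_c_rc_2_1 lc_c_rc_11_3 lc_c_rc_20_2 lc_c_rc_23_2 lc_c_rc_24_2 lc_c_rc_2_1 lc_c_rc_2_3 lc_c_rc_11_3 lc_c_rc_20_2 lc_c_rc_22_2 lc_c_rc_24_2 lc_c_rc_25_2 lc_c_rc_2_1 lc_c_rc_2_3) (@D3.rec (fun _ => (Cert rels S Gen.c)) lc_c_rc_11_3 lc_c_rc_20_2 lc_c_rc_2_3 lc_c_rc_24_2 lc_c_rc_25_2 lc_c_rc_11_5 lc_c_rc_2_1 lc_c_rc_2_3 lc_c_rc_11_3 lc_c_rc_21_2 lc_c_rc_20_2 lc_c_rc_22_2 lc_c_rc_25_2 lc_c_rc_22_2 lc_c_rc_2_1 lc_c_rc_2_3 lc_c_rc_11_3 lc_c_rc_21_2 lc_c_rc_20_2 lc_c_rc_56_23 lc_c_rc_25_2 lc_c_rc_11_5 lc_c_rc_2_1 lc_c_rc_2_3 lc_c_rc_2_3 lc_c_rc_11_3 lc_c_rc_21_2 lc_c_rc_22_2 lc_c_rc_20_2 lc_c_rc_22_2 lc_c_rc_19_0 lc_c_rc_23_2 lc_c_rc_22_2 lc_c_rc_2_1 lc_c_rc_23_2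 lc_c_rc_22_2 lc_c_rc_21_2 lc_c_rc_24_2 lc_c_rc_23_2 lc_c_rc_11_3 lc_c_rc_21_2 lc_c_rc_22_2 lc_c_rc_20_2 lc_c_rc_22_2 lc_c_rc_11_3 lc_c_rc_23_2 lc_c_rc_21_2 lc_c_rc_24_2 lc_c_rc_2_1 lc_c_rc_21_2 lc_c_rc_24_2) (@D3.rec (fun _ => (Cert rels S Gen.c)) lc_c_rc_21_2 lc_c_rc_25_2 lc_c_rc_23_2 lc_c_rc_21_2 lc_c_rc_22_0 lc_c_rc_2_1 lc_c_rc_2_3 lc_c_rc_11_3 lc_c_rc_21_2 lc_c_rc_20_2 lc_c_rc_20_0 lc_c_rc_25_2 lc_c_rc_23_2 lc_c_rc_2_1 lc_c_rc_21_2 lc_c_rc_2_3 lc_c_rc_11_3 lc_c_rc_21_2 lc_c_rc_21_2 lc_c_rc_20_2 lc_c_rc_20_0 lc_c_rc_22_0 lc_c_rc_2_1 lc_c_rc_25_2 lc_c_rc_20_0 lc_c_rc_23_2 lc_c_rc_2_1 lc_c_rc_21_2 lc_c_rc_2_3 lc_c_rc_21_2 lc_c_rc_22_2 lc_c_rc_22_2 lc_c_rc_21_2 lc_c_Cert_tree lc_c_rc_21_2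 lc_c_rc_20_4 lc_c_rc_21_2 lc_c_rc_23_2 lc_c_rc_22_2 lc_c_Cert_tree lc_c_rc_19_0 lc_c_rc_21_2 lc_c_rc_21_2 lc_c_rc_22_2 lc_c_rc_20_2 lc_c_rc_22_2 lc_c_Cert_tree lc_c_Cert_tree lc_c_rc_19_0 lc_c_rc_21_2 lc_c_rc_11_3) (@D3.rec (fun _ => (Cert rels S Gen.c)) lc_c_rc_21_2 lc_c_rc_23_2 lc_c_rc_24_2 lc_c_rc_22_2 lc_c_rc_22_2 lc_c_Cert_tree lc_c_Cert_tree lc_c_rc_19_0 lc_c_rc_21_2 lc_c_Cert_tree lc_c_rc_19_0 lc_c_rc_21_2 lc_c_rc_19_0 lc_c_rc_21_2 lc_c_rc_11_3 lc_c_rc_21_2 lc_c_rc_23_2 lc_c_rc_11_3 lc_c_rc_21_2 lc_c_rc_23_2 lc_c_rc_2_1 lc_c_rc_11_3 lc_c_rc_20_2 lc_c_rc_23_2 lc_c_rc_24_2 lc_c_Cert_tree lc_c_rc_19_0 lc_c_rc_21_2 lc_c_rc_20_2 lc_c_rc_21_2 lc_c_rc_23_2 lc_c_rc_19_0 lc_c_rc_21_2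 lc_c_rc_20_2 lc_c_rc_21_2 lc_c_rc_23_2 lc_c_rc_2_1 lc_c_rc_21_2 lc_c_rc_20_2 lc_c_rc_23_2 lc_c_rc_24_2 lc_c_rc_22_2 lc_c_rc_21_2 lc_c_rc_23_2 lc_c_rc_2_1 lc_c_rc_21_2 lc_c_rc_20_2 lc_c_rc_23_2 lc_c_rc_24_2 lc_c_rc_2_1 lc_c_Cert_tree) (@D3.rec (fun _ => (Cert rels S Gen.c)) lc_c_rc_23_2 lc_c_rc_20_2 lc_c_rc_22_2 lc_c_rc_24_2 lc_c_rc_25_2 lc_c_rc_11_3 lc_c_rc_21_2 lc_c_rc_23_2 lc_c_rc_2_1 lc_c_rc_22_2 lc_c_rc_20_2 lc_c_rc_23_2 lc_c_rc_24_2 lc_c_rc_2_1 lc_c_Cert_tree lc_c_rc_23_2 lc_c_rc_20_2 lc_c_rc_22_2 lc_c_rc_24_2 lc_c_rc_25_2 lc_c_Cert_tree lc_c_rc_2_1 lc_c_rc_19_0 lc_c_rc_23_2 lc_c_rc_22_2 lc_c_rc_24_2 lc_c_rc_21_2 lc_c_rc_20_2 lc_c_rc_22_2 lc_c_rc_21_2 lc_c_rc_25_2 lc_c_rc_24_2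 lc_c_rc_24_2 lc_c_rc_22_2 lc_c_Cert_tree lc_c_rc_26_2 lc_c_rc_23_2 lc_c_Cert_tree lc_c_rc_19_0 lc_c_rc_21_2 lc_c_rc_21_2 lc_c_Cert_tree lc_c_rc_19_0 lc_c_rc_21_2 lc_c_rc_11_3 lc_c_rc_21_2 lc_c_rc_23_2 lc_c_Cert_tree lc_c_rc_19_0 lc_c_rc_21_2 lc_c_rc_11_3) (@D3.rec (fun _ => (Cert rels S Gen.c)) lc_c_rc_21_2 lc_c_rc_23_2 lc_c_rc_19_0 lc_c_rc_21_2 lc_c_rc_11_3 lc_c_rc_21_2 lc_c_rc_23_2 lc_c_rc_2_1 lc_c_rc_11_3 lc_c_rc_20_2 lc_c_rc_23_2 lc_c_rc_24_2 lc_c_rc_21_2 lc_c_rc_23_2 lc_c_rc_11_3 lc_c_rc_20_2 lc_c_rc_23_2 lc_c_rc_24_2 lc_c_rc_2_1 lc_c_Cert_tree lc_c_rc_11_3 lc_c_rc_20_2 lc_c_rc_22_2 lc_c_rc_24_2 lc_c_rc_25_2 lc_c_rc_11_3 lc_c_rc_21_2 lc_c_rc_23_2 lc_c_rc_2_1 lc_c_rc_11_3 lc_c_rc_20_2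 lc_c_rc_23_2 lc_c_rc_24_2 lc_c_rc_2_1 lc_c_rc_11_3 lc_c_rc_20_2 lc_c_rc_23_2 lc_c_rc_24_2 lc_c_rc_2_1 lc_c_Cert_tree lc_c_rc_11_3 lc_c_rc_20_2 lc_c_rc_22_2 lc_c_rc_24_2 lc_c_rc_25_2 lc_c_rc_2_1 lc_c_Cert_tree lc_c_rc_11_3 lc_c_rc_20_2 lc_c_rc_22_2 lc_c_rc_24_2) (@D3.rec (fun _ => (Cert rels S Gen.c)) lc_c_rc_25_2 lc_c_Cert_tree lc_c_rc_2_1 lc_c_rc_19_0 lc_c_rc_23_2 lc_c_rc_22_2 lc_c_rc_11_3 lc_c_rc_21_2 lc_c_rc_20_2 lc_c_rc_22_2 lc_c_rc_26_2 lc_c_rc_25_2 lc_c_rc_22_2 lc_c_rc_2_1 lc_c_rc_19_0 lc_c_rc_23_2 lc_c_rc_22_2 lc_c_rc_11_3 lc_c_rc_21_2 lc_c_rc_20_2 lc_c_rc_22_2 lc_c_rc_22_2 lc_c_rc_25_2 lc_c_rc_19_0 lc_c_rc_23_2 lc_c_rc_22_2 lc_c_rc_2_1 lc_c_rc_23_2 lc_c_rc_22_2 lc_c_rc_21_2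 lc_c_rc_24_2 lc_c_rc_23_2 lc_c_rc_22_2 lc_c_rc_11_3 lc_c_rc_21_2 lc_c_rc_21_2 lc_c_rc_20_2 lc_c_rc_20_2 lc_c_rc_20_2 lc_c_rc_2_1 lc_c_Cert_tree lc_c_rc_11_3 lc_c_rc_20_2 lc_c_rc_20_0 lc_c_rc_24_2 lc_c_rc_25_2 lc_c_Cert_tree lc_c_rc_2_1 lc_c_rc_19_0 lc_c_rc_23_2 lc_c_rc_22_2) (@D3.rec (fun _ => (Cert rels S Gen.c)) lc_c_rc_11_3 lc_c_rc_21_2 lc_c_rc_20_2 lc_c_rc_20_0 lc_c_rc_20_0 lc_c_rc_25_2 lc_c_rc_19_0 lc_c_rc_23_2 lc_c_rc_22_2 lc_c_rc_2_1 lc_c_rc_23_2 lc_c_rc_22_2 lc_c_rc_21_2 lc_c_rc_24_2 lc_c_rc_23_2 lc_c_rc_26_2 lc_c_rc_11_3 lc_c_rc_20_2 lc_c_rc_21_2 lc_c_rc_20_2 lc_c_rc_20_0 lc_c_rc_20_0 lc_c_rc_2_1 lc_c_rc_2_1 lc_c_rc_2_1 lc_c_rc_2_1 lc_c_rc_2_1 lc_c_rc_11_3 lc_c_rc_11_3 lc_c_rc_11_3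 lc_c_rc_11_3 lc_c_rc_11_3 lc_c_rc_23_2 lc_c_rc_21_2 lc_c_rc_22_2 lc_c_Cert_tree lc_c_rc_26_2 lc_c_rc_22_2 lc_c_rc_26_2 lc_c_rc_23_2 lc_c_rc_23_2 lc_c_rc_22_2 lc_c_Cert_tree lc_c_rc_26_2 lc_c_rc_19_0 lc_c_rc_26_2 lc_c_rc_26_2 lc_c_rc_21_2 lc_c_rc_26_2 lc_c_rc_23_2 lc_c_rc_26_2) (@D3.rec (fun _ => (Cert rels S Gen.c)) lc_c_rc_20_2 lc_c_Cert_tree lc_c_rc_19_0 lc_c_rc_21_2 lc_c_rc_20_2 lc_c_rc_26_2 lc_c_rc_21_2 lc_c_rc_23_2 lc_c_rc_19_0 lc_c_rc_21_2 lc_c_rc_11_3 lc_c_rc_21_2 lc_c_rc_23_2 lc_c_rc_22_2 lc_c_rc_20_2 lc_c_rc_20_2 lc_c_rc_21_2 lc_c_rc_11_3 lc_c_rc_21_2 lc_c_rc_23_2 lc_c_rc_2_1 lc_c_rc_11_3 lc_c_rc_20_2 lc_c_rc_23_2 lc_c_rc_24_2 lc_c_rc_22_2 lc_c_rc_11_3 lc_c_rc_21_2 lc_c_rc_23_2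 lc_c_rc_2_1 lc_c_rc_11_3 lc_c_rc_20_2 lc_c_rc_23_2 lc_c_rc_24_2 lc_c_rc_23_2 lc_c_rc_11_3 lc_c_rc_20_2 lc_c_rc_23_2 lc_c_rc_24_2 lc_c_rc_2_1 lc_c_Cert_tree lc_c_rc_11_3 lc_c_rc_20_2 lc_c_rc_22_2 lc_c_rc_24_2 lc_c_rc_25_2 lc_c_rc_22_2 lc_c_Cert_tree lc_c_rc_11_3 lc_c_rc_20_2 lc_c_rc_24_2) (@D3.rec (fun _ => (Cert rels S Gen.c)) lc_c_rc_25_2 lc_c_Cert_tree lc_c_rc_2_1 lc_c_rc_19_0 lc_c_rc_23_2 lc_c_rc_22_2 lc_c_rc_11_3 lc_c_rc_21_2 lc_c_rc_20_2 lc_c_rc_22_2 lc_c_rc_26_2 lc_c_rc_25_2 lc_c_rc_2_1 lc_c_rc_11_3 lc_c_rc_20_2 lc_c_rc_23_2 lc_c_rc_24_2 lc_c_rc_2_1 lc_c_Cert_tree lc_c_rc_11_3 lc_c_rc_20_2 lc_c_rc_22_2 lc_c_rc_24_2 lc_c_rc_25_2 lc_c_rc_2_1 lc_c_Cert_tree lc_c_rc_11_3 lc_c_rc_20_2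 lc_c_rc_11_5 lc_c_rc_24_2 lc_c_rc_25_2 lc_c_Cert_tree lc_c_rc_2_1 lc_c_rc_19_0 lc_c_rc_23_2 lc_c_rc_22_2 lc_c_rc_11_3 lc_c_rc_21_2 lc_c_rc_20_2 lc_c_rc_22_2 lc_c_rc_26_2 lc_c_rc_25_2 lc_c_Cert_tree lc_c_rc_2_1 lc_c_rc_19_0 lc_c_rc_23_2 lc_c_rc_22_2 lc_c_rc_11_3 lc_c_rc_21_2 lc_c_rc_20_2 lc_c_rc_11_5) (@D3.rec (fun _ => (Cert rels S Gen.c)) lc_c_rc_22_2 lc_c_rc_25_2 lc_c_rc_19_0 lc_c_rc_23_2 lc_c_rc_2_1 lc_c_rc_23_2 lc_c_rc_22_2 lc_c_rc_21_2 lc_c_rc_24_2 lc_c_rc_23_2 lc_c_rc_11_3 lc_c_rc_21_2 lc_c_rc_22_2 lc_c_rc_20_2 lc_c_rc_22_2 lc_c_rc_26_2 lc_c_rc_19_0 lc_c_rc_23_2 lc_c_rc_22_2 lc_c_rc_2_1 lc_c_rc_23_2 lc_c_rc_22_2 lc_c_rc_21_2 lc_c_rc_24_2 lc_c_rc_23_2 lc_c_rc_11_3 lc_c_rc_21_2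 lc_c_rc_22_2 lc_c_rc_20_2 lc_c_rc_22_2 lc_c_rc_11_3 lc_c_rc_23_2 lc_c_rc_21_2 lc_c_rc_24_2 lc_c_rc_2_1 lc_c_rc_21_2 lc_c_rc_24_2 lc_c_rc_21_2 lc_c_rc_25_2 lc_c_rc_23_2 lc_c_rc_21_2 lc_c_Cert_tree lc_c_rc_2_1 lc_c_rc_19_0 lc_c_rc_23_2 lc_c_rc_22_2 lc_c_rc_11_3 lc_c_rc_21_2 lc_c_rc_20_2 lc_c_rc_20_0 lc_c_rc_20_0) (@D3.rec (fun _ => (Cert rels S Gen.c)) lc_c_rc_25_2 lc_c_rc_19_0 lc_c_rc_23_2 lc_c_rc_2_1 lc_c_rc_23_2 lc_c_rc_22_2 lc_c_rc_21_2 lc_c_rc_24_2 lc_c_rc_23_2 lc_c_rc_11_3 lc_c_rc_21_2 lc_c_rc_21_2 lc_c_rc_20_2 lc_c_rc_20_0 lc_c_rc_20_0 lc_c_rc_23_2 lc_c_rc_24_2 lc_c_rc_2_1 lc_c_rc_24_2 lc_c_rc_23_2 lc_c_rc_20_2 lc_c_rc_25_2 lc_c_rc_24_2 lc_c_rc_20_0 lc_c_rc_20_0 lc_c_rc_19_0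 lc_c_rc_23_2 lc_c_rc_2_1 lc_c_rc_23_2 lc_c_rc_22_2 lc_c_rc_21_2 lc_c_rc_24_2 lc_c_rc_23_2 lc_c_rc_21_2 lc_c_rc_22_2 lc_c_rc_22_2 lc_c_rc_23_2 lc_c_rc_23_2 lc_c_rc_21_2 lc_c_rc_21_2 lc_c_rc_23_2 lc_c_rc_20_2 lc_c_rc_21_2 lc_c_Cert_tree lc_c_rc_23_0 lc_c_rc_21_2 lc_c_rc_11_3 lc_c_rc_20_2 lc_c_rc_23_2 lc_c_rc_26_2 lc_c_rc_26_2) (@D3.rec (fun _ => (Cert rels S Gen.c)) lc_c_rc_21_2 lc_c_rc_2_3 lc_c_rc_19_0 lc_c_rc_21_2 lc_c_rc_11_3 lc_c_rc_21_2 lc_c_rc_23_2 lc_c_Cert_tree lc_c_rc_22_2 lc_c_rc_20_2 lc_c_rc_20_2 lc_c_rc_21_2 lc_c_rc_21_2 lc_c_rc_23_2 lc_c_rc_11_3 lc_c_rc_20_2 lc_c_rc_23_2 lc_c_rc_24_2 lc_c_rc_19_0 lc_c_rc_22_2 lc_c_rc_20_2 lc_c_rc_21_2 lc_c_rc_20_2 lc_c_rc_23_2 lc_c_rc_24_2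 lc_c_Cert_tree lc_c_rc_11_3 lc_c_rc_20_2 lc_c_rc_22_2 lc_c_rc_24_2 lc_c_rc_25_2 lc_c_rc_2_3 lc_c_rc_20_2 lc_c_rc_23_2 lc_c_rc_24_2 lc_c_Cert_tree lc_c_rc_11_3 lc_c_rc_20_2 lc_c_rc_22_2 lc_c_rc_24_2 lc_c_rc_25_2 lc_c_rc_2_3 lc_c_rc_20_2 lc_c_rc_24_2 lc_c_rc_25_2 lc_c_rc_19_0 lc_c_rc_23_2 lc_c_rc_2_3 lc_c_rc_11_3 lc_c_rc_21_2 lc_c_rc_20_2) (@D3.rec (fun _ => (Cert rels S Gen.c)) lc_c_rc_22_2 lc_c_rc_25_2 lc_c_rc_25_2 lc_c_rc_21_2 lc_c_rc_20_2 lc_c_rc_25_2 lc_c_rc_23_2 lc_c_rc_21_2 lc_c_rc_24_2 lc_c_rc_2_3 lc_c_rc_11_3 lc_c_rc_21_2 lc_c_rc_22_2 lc_c_rc_20_2 lc_c_rc_22_2 lc_c_rc_2_1 lc_c_rc_2_3 lc_c_rc_11_3 lc_c_rc_20_2 lc_c_rc_2_3 lc_c_rc_24_2 lc_c_rc_25_2 lc_c_rc_11_5 lc_c_rc_2_1 lc_c_rc_2_3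 lc_c_rc_11_3 lc_c_rc_21_2 lc_c_rc_20_2 lc_c_rc_22_2 lc_c_rc_25_2 lc_c_rc_22_2 lc_c_rc_2_1 lc_c_rc_2_3 lc_c_rc_11_3 lc_c_rc_21_2 lc_c_rc_20_2 lc_c_rc_2_3 lc_c_rc_25_2 lc_c_rc_23_2 lc_c_rc_2_1 lc_c_rc_21_2 lc_c_rc_2_3 lc_c_rc_11_3 lc_c_rc_21_2 lc_c_rc_22_2 lc_c_rc_20_2 lc_c_rc_22_2 lc_c_rc_22_2 lc_c_rc_2_1 lc_c_rc_56_23 lc_c_rc_2_3) (@D3.rec (fun _ => (Cert rels S Gen.c)) lc_c_rc_11_3 lc_c_rc_21_2 lc_c_rc_56_23 lc_c_rc_20_2 lc_c_rc_2_3 lc_c_rc_21_2 lc_c_rc_11_5 lc_c_rc_2_1 lc_c_rc_2_3 lc_c_rc_2_3 lc_c_rc_23_2 lc_c_rc_21_2 lc_c_rc_22_2 lc_c_rc_22_2 lc_c_rc_23_0 lc_c_rc_23_2 lc_c_rc_22_2 lc_c_rc_21_2 lc_c_rc_24_2 lc_c_rc_23_2 lc_c_rc_2_1 lc_c_rc_21_2 lc_c_rc_24_2 lc_c_rc_23_2 lc_c_rc_20_2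 lc_c_rc_21_2 lc_c_rc_21_2 lc_c_rc_25_2 lc_c_rc_24_2 lc_c_rc_23_2 lc_c_rc_21_2 lc_c_rc_22_2 lc_c_Cert_tree lc_c_rc_22_2 lc_c_rc_11_3 lc_c_rc_21_2 lc_c_rc_24_2 lc_c_rc_21_2 lc_c_rc_25_2 lc_c_rc_19_1 lc_c_rc_21_2 lc_c_rc_25_2 lc_c_rc_23_2 lc_c_rc_21_2 lc_c_rc_23_2 lc_c_rc_23_2 lc_c_rc_2_1 lc_c_rc_21_2 lc_c_rc_2_3 lc_c_rc_11_3 lc_c_rc_21_2) (@D3.rec (fun _ => (Cert rels S Gen.c)) lc_c_rc_21_2 lc_c_rc_20_2 lc_c_rc_22_2 lc_c_rc_21_2 lc_c_rc_23_2 lc_c_rc_2_1 lc_c_rc_21_2 lc_c_rc_2_3 lc_c_rc_21_2 lc_c_rc_21_2 lc_c_rc_23_2 lc_c_rc_22_2 lc_c_rc_22_0 lc_c_rc_21_2 lc_c_rc_24_2 lc_c_rc_21_2 lc_c_rc_23_2 lc_c_rc_22_2 lc_c_rc_26_0 lc_c_rc_19_0 lc_c_rc_21_2 lc_c_rc_23_2 lc_c_rc_23_2 lc_c_Cert_tree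 lc_c_rc_19_0 lc_c_rc_23_2 lc_c_rc_21_2 lc_c_rc_22_2 lc_c_Cert_tree lc_c_rc_22_2 lc_c_Cert_tree lc_c_rc_19_0 lc_c_rc_21_2 lc_c_rc_19_0 lc_c_rc_21_2 lc_c_rc_11_3 lc_c_rc_21_2 lc_c_rc_23_2 lc_c_rc_2_1 lc_c_rc_11_3 lc_c_rc_20_2 lc_c_rc_23_2 lc_c_rc_24_2 lc_c_rc_22_2 lc_c_Cert_tree lc_c_Cert_tree lc_c_rc_19_0 lc_c_rc_21_2 lc_c_rc_19_0 lc_c_rc_21_2 lc_c_rc_11_3) (@D3.rec (fun _ => (Cert rels S Gen.c)) lc_c_rc_21_2 lc_c_rc_23_2 lc_c_rc_19_0 lc_c_rc_21_2 lc_c_rc_11_3 lc_c_rc_21_2 lc_c_rc_23_2 lc_c_rc_11_3 lc_c_rc_21_2 lc_c_rc_23_2 lc_c_rc_2_1 lc_c_rc_11_3 lc_c_rc_20_2 lc_c_rc_23_2 lc_c_rc_24_2 lc_c_rc_11_3 lc_c_rc_20_2 lc_c_rc_23_2 lc_c_rc_24_2 lc_c_rc_2_1 lc_c_Cert_tree lc_c_rc_11_3 lc_c_rc_20_2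 lc_c_rc_22_2 lc_c_rc_24_2 lc_c_rc_25_2 lc_c_rc_19_0 lc_c_rc_21_2 lc_c_rc_20_2 lc_c_rc_21_2 lc_c_rc_23_2 lc_c_rc_2_1 lc_c_rc_21_2 lc_c_rc_20_2 lc_c_rc_23_2 lc_c_rc_24_2 lc_c_rc_22_2 lc_c_rc_21_2 lc_c_rc_23_2 lc_c_rc_2_1 lc_c_rc_21_2 lc_c_rc_20_2 lc_c_rc_23_2 lc_c_rc_24_2 lc_c_rc_2_1 lc_c_Cert_tree lc_c_rc_23_2 lc_c_rc_20_2 lc_c_rc_22_2 lc_c_rc_24_2 lc_c_rc_25_2) (@D3.rec (fun _ => (Cert rels S Gen.c)) lc_c_rc_2_1 lc_c_rc_22_2 lc_c_rc_20_2 lc_c_rc_23_2 lc_c_rc_24_2 lc_c_rc_2_1 lc_c_Cert_tree lc_c_rc_23_2 lc_c_rc_20_2 lc_c_rc_22_2 lc_c_rc_24_2 lc_c_rc_25_2 lc_c_Cert_tree lc_c_rc_2_1 lc_c_rc_19_0 lc_c_rc_23_2 lc_c_rc_22_2 lc_c_rc_24_2 lc_c_rc_21_2 lc_c_rc_20_2 lc_c_rc_22_2 lc_c_rc_26_2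 lc_c_rc_25_2 lc_c_rc_2_1 lc_c_rc_11_3 lc_c_rc_20_2 lc_c_rc_23_2 lc_c_rc_24_2 lc_c_rc_2_1 lc_c_rc_22_2 lc_c_rc_23_2 lc_c_rc_20_2 lc_c_rc_23_0 lc_c_rc_24_2 lc_c_rc_25_2 lc_c_rc_22_2 lc_c_rc_2_1 lc_c_rc_19_0 lc_c_rc_23_2 lc_c_rc_22_2 lc_c_rc_24_2 lc_c_rc_21_2 lc_c_rc_20_2 lc_c_rc_22_2 lc_c_rc_22_2 lc_c_rc_25_2 lc_c_rc_19_0 lc_c_rc_23_2 lc_c_rc_22_2 lc_c_rc_2_1 lc_c_rc_23_2) (@D3.rec (fun _ => (Cert rels S Gen.c)) lc_c_rc_22_2 lc_c_rc_21_2 lc_c_rc_24_2 lc_c_rc_23_2 lc_c_rc_22_2 lc_c_rc_25_2 lc_c_rc_21_2 lc_c_rc_22_2 lc_c_rc_20_2 lc_c_rc_22_2 lc_c_rc_23_2 lc_c_rc_23_2 lc_c_rc_26_2 lc_c_rc_24_2 lc_c_Cert_tree lc_c_rc_19_0 lc_c_rc_21_2 lc_c_rc_21_2 lc_c_Cert_tree lc_c_rc_19_0 lc_c_rc_21_2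 lc_c_rc_11_3 lc_c_rc_21_2 lc_c_rc_23_2 lc_c_Cert_tree lc_c_rc_19_0 lc_c_rc_21_2 lc_c_rc_11_3 lc_c_rc_21_2 lc_c_rc_23_2 lc_c_rc_2_1 lc_c_rc_11_3 lc_c_rc_20_2 lc_c_rc_23_2 lc_c_rc_24_2 lc_c_rc_19_0 lc_c_rc_21_2 lc_c_rc_11_3 lc_c_rc_21_2 lc_c_rc_23_2 lc_c_rc_2_1 lc_c_rc_11_3 lc_c_rc_20_2 lc_c_rc_23_2 lc_c_rc_24_2 lc_c_rc_21_2 lc_c_rc_23_2 lc_c_rc_11_3 lc_c_rc_20_2 lc_c_rc_23_2 lc_c_rc_24_2) (@D3.rec (fun _ => (Cert rels S Gen.c)) lc_c_rc_2_1 lc_c_Cert_tree lc_c_rc_11_3 lc_c_rc_20_2 lc_c_rc_22_2 lc_c_rc_24_2 lc_c_rc_25_2 lc_c_rc_20_2 lc_c_rc_23_2 lc_c_rc_24_2 lc_c_Cert_tree lc_c_rc_11_3 lc_c_rc_20_2 lc_c_rc_22_2 lc_c_rc_24_2 lc_c_rc_25_2 lc_c_Cert_tree lc_c_rc_2_1 lc_c_rc_19_0 lc_c_rc_23_2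 lc_c_rc_22_2 lc_c_rc_11_3 lc_c_rc_21_2 lc_c_rc_20_2 lc_c_rc_22_2 lc_c_rc_26_2 lc_c_rc_25_2 lc_c_rc_2_1 lc_c_rc_11_3 lc_c_rc_20_2 lc_c_rc_23_2 lc_c_rc_24_2 lc_c_rc_2_1 lc_c_Cert_tree lc_c_rc_11_3 lc_c_rc_20_2 lc_c_rc_22_2 lc_c_rc_24_2 lc_c_rc_25_2 lc_c_rc_2_1 lc_c_Cert_tree lc_c_rc_11_3 lc_c_rc_20_2 lc_c_rc_22_2 lc_c_rc_24_2 lc_c_rc_25_2 lc_c_Cert_tree lc_c_rc_2_1 lc_c_rc_19_0 lc_c_rc_23_2 lc_c_rc_22_2)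
def ce_c_2 : D2 → D3 → (Cert rels S Gen.c) := @D2.rec (fun _ => D3 → (Cert rels S Gen.c)) (@D3.rec (fun _ => (Cert rels S Gen.c)) lc_c_rc_11_3 lc_c_rc_21_2 lc_c_rc_20_2 lc_c_rc_22_2 lc_c_rc_26_2 lc_c_rc_25_2 lc_c_Cert_tree lc_c_rc_2_1 lc_c_rc_19_0 lc_c_rc_23_2 lc_c_rc_22_2 lc_c_rc_11_3 lc_c_rc_21_2 lc_c_rc_20_2 lc_c_rc_22_2 lc_c_rc_26_2 lc_c_rc_25_2 lc_c_rc_19_0 lc_c_rc_23_2 lc_c_rc_22_2 lc_c_rc_2_1 lc_c_rc_23_2 lc_c_rc_22_2 lc_c_rc_21_2 lc_c_rc_24_2 lc_c_rc_23_2 lc_c_rc_26_2 lc_c_rc_11_3 lc_c_rc_21_2 lc_c_rc_22_2 lc_c_rc_20_2 lc_c_rc_22_2 lc_c_rc_26_2 lc_c_rc_22_2 lc_c_rc_2_1 lc_c_rc_23_2 lc_c_rc_21_2 lc_c_rc_24_2 lc_c_rc_22_2 lc_c_rc_11_3 lc_c_rc_21_2 lc_c_rc_22_2 lc_c_rc_20_2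 lc_c_rc_22_2 lc_c_rc_22_2 lc_c_rc_23_2 lc_c_rc_21_2 lc_c_rc_24_2 lc_c_rc_21_0 lc_c_rc_2_1 lc_c_rc_21_2) (@D3.rec (fun _ => (Cert rels S Gen.c)) lc_c_rc_24_2 lc_c_rc_23_2 lc_c_rc_21_2 lc_c_rc_21_2 lc_c_rc_25_2 lc_c_rc_24_2 lc_c_rc_21_0 lc_c_rc_23_2 lc_c_rc_21_2 lc_c_rc_21_2 lc_c_Cert_tree lc_c_rc_21_2 lc_c_rc_20_2 lc_c_rc_20_2 lc_c_Cert_tree lc_c_rc_2_1 lc_c_rc_19_0 lc_c_rc_23_2 lc_c_rc_22_2 lc_c_rc_11_3 lc_c_rc_21_2 lc_c_rc_20_2 lc_c_rc_20_0 lc_c_rc_20_0 lc_c_rc_25_2 lc_c_rc_19_0 lc_c_rc_23_2 lc_c_rc_22_2 lc_c_rc_2_1 lc_c_rc_23_2 lc_c_rc_22_2 lc_c_rc_21_2 lc_c_rc_24_2 lc_c_rc_23_2 lc_c_rc_26_2 lc_c_rc_11_3 lc_c_rc_21_2 lc_c_rc_21_2 lc_c_rc_20_2 lc_c_rc_20_0 lc_c_rc_20_0 lc_c_rc_23_2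 lc_c_rc_22_2 lc_c_rc_21_2 lc_c_rc_24_2 lc_c_rc_23_2 lc_c_rc_26_2 lc_c_rc_2_1 lc_c_rc_21_2 lc_c_rc_24_2 lc_c_rc_23_2) (@D3.rec (fun _ => (Cert rels S Gen.c)) lc_c_rc_20_2 lc_c_rc_26_2 lc_c_rc_21_2 lc_c_rc_21_2 lc_c_rc_25_2 lc_c_rc_24_2 lc_c_rc_26_2 lc_c_rc_20_2 lc_c_rc_20_2 lc_c_rc_21_2 lc_c_Cert_tree lc_c_rc_21_2 lc_c_rc_20_0 lc_c_rc_20_0 lc_c_rc_2_1 lc_c_rc_2_1 lc_c_rc_2_1 lc_c_rc_2_1 lc_c_rc_2_1 lc_c_rc_11_3 lc_c_rc_11_3 lc_c_rc_11_3 lc_c_Cert_tree lc_c_rc_11_3 lc_c_rc_11_3 lc_c_rc_11_3 lc_c_rc_23_2 lc_c_rc_23_2 lc_c_rc_22_2 lc_c_Cert_tree lc_c_rc_26_2 lc_c_rc_19_0 lc_c_rc_26_2 lc_c_rc_26_2 lc_c_rc_24_2 lc_c_rc_23_2 lc_c_rc_56_58 lc_c_rc_26_2 lc_c_rc_19_0 lc_c_rc_11_3 lc_c_rc_26_2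 lc_c_rc_20_2 lc_c_rc_23_2 lc_c_rc_26_2 lc_c_rc_26_2 lc_c_rc_21_2 lc_c_rc_24_2 lc_c_rc_19_0 lc_c_rc_21_2 lc_c_rc_11_3 lc_c_rc_21_2) (@D3.rec (fun _ => (Cert rels S Gen.c)) lc_c_rc_23_2 lc_c_rc_22_2 lc_c_rc_20_2 lc_c_rc_20_2 lc_c_rc_21_2 lc_c_rc_11_3 lc_c_rc_21_2 lc_c_rc_23_2 lc_c_rc_2_1 lc_c_rc_11_3 lc_c_rc_20_2 lc_c_rc_23_2 lc_c_rc_24_2 lc_c_rc_20_2 lc_c_rc_21_2 lc_c_rc_11_3 lc_c_rc_20_2 lc_c_rc_23_2 lc_c_rc_24_2 lc_c_rc_2_1 lc_c_Cert_tree lc_c_rc_11_3 lc_c_rc_20_2 lc_c_rc_22_2 lc_c_rc_24_2 lc_c_rc_25_2 lc_c_rc_23_2 lc_c_rc_11_3 lc_c_rc_20_2 lc_c_rc_23_2 lc_c_rc_24_2 lc_c_rc_2_1 lc_c_Cert_tree lc_c_rc_11_3 lc_c_rc_20_2 lc_c_rc_22_2 lc_c_rc_24_2 lc_c_rc_25_2 lc_c_rc_23_2 lc_c_Cert_tree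 lc_c_rc_11_3 lc_c_rc_20_2 lc_c_rc_24_2 lc_c_rc_25_2 lc_c_Cert_tree lc_c_rc_2_1 lc_c_rc_19_0 lc_c_rc_23_2 lc_c_rc_22_2 lc_c_rc_11_3 lc_c_rc_21_2) (@D3.rec (fun _ => (Cert rels S Gen.c)) lc_c_rc_20_2 lc_c_rc_22_2 lc_c_rc_26_2 lc_c_rc_25_2 lc_c_rc_22_2 lc_c_rc_19_0 lc_c_rc_23_2 lc_c_rc_11_3 lc_c_rc_21_2 lc_c_rc_20_2 lc_c_rc_25_2 lc_c_rc_19_0 lc_c_rc_23_2 lc_c_rc_22_2 lc_c_rc_2_1 lc_c_rc_23_2 lc_c_rc_22_2 lc_c_rc_21_2 lc_c_rc_24_2 lc_c_rc_23_2 lc_c_rc_26_2 lc_c_rc_11_3 lc_c_rc_21_2 lc_c_rc_22_2 lc_c_rc_20_2 lc_c_rc_22_2 lc_c_rc_26_2 lc_c_rc_2_1 lc_c_Cert_tree lc_c_rc_11_3 lc_c_rc_20_2 lc_c_rc_11_5 lc_c_rc_24_2 lc_c_rc_25_2 lc_c_Cert_tree lc_c_rc_2_1 lc_c_rc_19_0 lc_c_rc_23_2 lc_c_rc_22_2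 lc_c_rc_11_3 lc_c_rc_21_2 lc_c_rc_20_2 lc_c_rc_22_2 lc_c_rc_26_2 lc_c_rc_25_2 lc_c_Cert_tree lc_c_rc_2_1 lc_c_rc_19_0 lc_c_rc_23_2 lc_c_rc_22_2 lc_c_rc_11_3) (@D3.rec (fun _ => (Cert rels S Gen.c)) lc_c_rc_21_2 lc_c_rc_20_2 lc_c_rc_23_2 lc_c_rc_22_2 lc_c_rc_25_2 lc_c_rc_19_0 lc_c_rc_23_2 lc_c_rc_2_1 lc_c_rc_23_2 lc_c_rc_22_2 lc_c_rc_21_2 lc_c_rc_24_2 lc_c_rc_23_2 lc_c_rc_11_3 lc_c_rc_21_2 lc_c_rc_22_2 lc_c_rc_20_2 lc_c_rc_22_2 lc_c_rc_26_2 lc_c_rc_19_0 lc_c_rc_23_2 lc_c_rc_2_1 lc_c_rc_23_2 lc_c_rc_22_2 lc_c_rc_21_2 lc_c_rc_24_2 lc_c_rc_23_2 lc_c_rc_11_3 lc_c_rc_21_2 lc_c_rc_21_2 lc_c_rc_20_2 lc_c_rc_11_5 lc_c_rc_22_2 lc_c_rc_23_2 lc_c_rc_21_2 lc_c_rc_24_2 lc_c_rc_2_1 lc_c_rc_21_2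 lc_c_rc_24_2 lc_c_rc_23_2 lc_c_rc_20_2 lc_c_rc_21_2 lc_c_rc_21_2 lc_c_rc_25_2 lc_c_rc_24_2 lc_c_rc_23_2 lc_c_rc_21_2 lc_c_rc_22_2 lc_c_rc_26_2 lc_c_rc_22_2 lc_c_rc_26_2) (@D3.rec (fun _ => (Cert rels S Gen.c)) lc_c_rc_23_2 lc_c_rc_21_2 lc_c_rc_24_2 lc_c_rc_22_2 lc_c_rc_2_1 lc_c_rc_21_2 lc_c_rc_24_2 lc_c_rc_23_2 lc_c_rc_21_2 lc_c_rc_21_2 lc_c_rc_25_2 lc_c_rc_24_2 lc_c_rc_23_2 lc_c_rc_21_2 lc_c_rc_22_2 lc_c_Cert_tree lc_c_rc_22_2 lc_c_rc_11_3 lc_c_rc_21_2 lc_c_rc_24_2 lc_c_rc_21_2 lc_c_rc_25_2 lc_c_rc_20_2 lc_c_rc_21_2 lc_c_rc_25_2 lc_c_rc_23_2 lc_c_rc_21_2 lc_c_rc_23_2 lc_c_rc_19_0 lc_c_rc_23_2 lc_c_rc_2_1 lc_c_rc_23_2 lc_c_rc_22_2 lc_c_rc_21_2 lc_c_rc_24_2 lc_c_rc_23_2 lc_c_rc_11_3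 lc_c_rc_21_2 lc_c_rc_21_2 lc_c_rc_20_2 lc_c_rc_22_2 lc_c_rc_20_0 lc_c_rc_23_2 lc_c_rc_21_2 lc_c_rc_24_2 lc_c_rc_2_1 lc_c_rc_21_2 lc_c_rc_24_2 lc_c_rc_23_2 lc_c_rc_20_2 lc_c_rc_21_2) (@D3.rec (fun _ => (Cert rels S Gen.c)) lc_c_rc_21_2 lc_c_rc_25_2 lc_c_rc_24_2 lc_c_rc_21_2 lc_c_rc_21_2 lc_c_rc_23_2 lc_c_rc_21_2 lc_c_rc_22_2 lc_c_rc_20_0 lc_c_rc_24_2 lc_c_rc_25_2 lc_c_rc_25_2 lc_c_rc_24_2 lc_c_rc_20_2 lc_c_rc_21_2 lc_c_rc_25_2 lc_c_rc_20_0 lc_c_rc_23_2 lc_c_rc_21_2 lc_c_rc_24_2 lc_c_rc_21_2 lc_c_rc_24_2 lc_c_rc_23_2 lc_c_rc_20_2 lc_c_rc_21_2 lc_c_rc_21_2 lc_c_rc_24_2 lc_c_rc_23_2 lc_c_rc_22_2 lc_c_rc_26_0 lc_c_rc_23_0 lc_c_rc_24_2 lc_c_rc_21_2 lc_c_rc_20_2 lc_c_rc_21_2 lc_c_rc_20_2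 lc_c_rc_21_2 lc_c_Cert_tree lc_c_rc_19_0 lc_c_rc_26_2 lc_c_rc_23_2 lc_c_Cert_tree lc_c_rc_11_3 lc_c_rc_20_2 lc_c_rc_22_2 lc_c_rc_20_2 lc_c_rc_26_2 lc_c_rc_23_2 lc_c_rc_20_2 lc_c_rc_21_2 lc_c_rc_21_2) (@D3.rec (fun _ => (Cert rels S Gen.c)) lc_c_rc_23_2 lc_c_rc_11_3 lc_c_rc_20_2 lc_c_rc_23_2 lc_c_rc_26_0 lc_c_rc_19_0 lc_c_rc_22_2 lc_c_rc_20_2 lc_c_rc_21_2 lc_c_rc_20_2 lc_c_rc_23_2 lc_c_rc_24_2 lc_c_rc_24_2 lc_c_rc_11_3 lc_c_rc_20_2 lc_c_rc_22_2 lc_c_rc_24_2 lc_c_rc_23_0 lc_c_rc_22_2 lc_c_rc_55_55 lc_c_rc_21_2 lc_c_rc_20_2 lc_c_rc_24_2 lc_c_rc_25_2 lc_c_rc_19_0 lc_c_rc_23_2 lc_c_rc_22_2 lc_c_rc_11_3 lc_c_rc_20_2 lc_c_rc_20_2 lc_c_rc_22_2 lc_c_rc_25_2 lc_c_rc_2_3 lc_c_rc_20_2 lc_c_rc_24_2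 lc_c_rc_56_58 lc_c_rc_19_0 lc_c_rc_23_2 lc_c_rc_2_3 lc_c_rc_11_3 lc_c_rc_21_2 lc_c_rc_20_2 lc_c_rc_22_2 lc_c_rc_25_2 lc_c_rc_2_3 lc_c_rc_21_2 lc_c_rc_20_2 lc_c_rc_25_2 lc_c_rc_23_2 lc_c_rc_21_2 lc_c_rc_24_2) (@D3.rec (fun _ => (Cert rels S Gen.c)) lc_c_rc_2_3 lc_c_rc_11_3 lc_c_rc_21_2 lc_c_rc_22_2 lc_c_rc_20_2 lc_c_rc_22_2 lc_c_rc_21_2 lc_c_rc_20_2 lc_c_rc_21_2 lc_c_rc_24_2 lc_c_rc_21_2 lc_c_rc_2_3 lc_c_rc_25_2 lc_c_rc_2_3 lc_c_rc_23_2 lc_c_rc_21_2 lc_c_rc_22_2 lc_c_rc_20_2 lc_c_rc_22_2 lc_c_rc_22_2 lc_c_rc_2_1 lc_c_rc_2_3 lc_c_rc_11_3 lc_c_rc_21_2 lc_c_rc_20_2 lc_c_rc_2_3 lc_c_rc_25_2 lc_c_rc_23_2 lc_c_rc_2_1 lc_c_rc_2_3 lc_c_rc_22_2 lc_c_rc_11_3 lc_c_rc_23_2 lc_c_rc_2_1 lc_c_rc_21_2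 lc_c_rc_2_3 lc_c_rc_11_3 lc_c_rc_21_2 lc_c_rc_21_2 lc_c_rc_20_2 lc_c_rc_2_3 lc_c_rc_21_2 lc_c_rc_23_2 lc_c_rc_2_1 lc_c_rc_22_2 lc_c_rc_21_2 lc_c_rc_22_2 lc_c_rc_22_2 lc_c_rc_2_1 lc_c_rc_2_3 lc_c_rc_2_3) (@D3.rec (fun _ => (Cert rels S Gen.c)) lc_c_rc_23_2 lc_c_rc_21_2 lc_c_rc_2_3 lc_c_rc_2_3 lc_c_rc_2_3 lc_c_rc_21_2 lc_c_rc_11_5 lc_c_rc_2_3 lc_c_rc_56_58 lc_c_rc_21_0 lc_c_rc_21_2 lc_c_rc_24_2 lc_c_rc_23_2 lc_c_rc_21_2 lc_c_rc_21_2 lc_c_rc_25_2 lc_c_rc_24_2 lc_c_rc_20_2 lc_c_rc_21_2 lc_c_rc_21_2 lc_c_rc_25_2 lc_c_rc_24_2 lc_c_rc_20_2 lc_c_rc_23_2 lc_c_rc_21_2 lc_c_rc_21_2 lc_c_rc_20_4 lc_c_rc_25_2 lc_c_rc_23_2 lc_c_rc_23_2 lc_c_rc_22_2 lc_c_Cert_tree lc_c_rc_19_0 lc_c_rc_11_3 lc_c_rc_11_3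 lc_c_rc_55_73 lc_c_rc_21_2 lc_c_rc_25_2 lc_c_rc_23_2 lc_c_rc_21_2 lc_c_rc_20_2 lc_c_rc_23_2 lc_c_rc_21_2 lc_c_rc_20_2 lc_c_rc_21_2 lc_c_rc_24_2 lc_c_rc_2_1 lc_c_rc_21_2 lc_c_rc_2_3 lc_c_rc_21_2 lc_c_rc_23_2) (@D3.rec (fun _ => (Cert rels S Gen.c)) lc_c_rc_21_2 lc_c_rc_21_2 lc_c_rc_23_2 lc_c_rc_23_2 lc_c_Cert_tree lc_c_rc_19_0 lc_c_rc_23_2 lc_c_rc_22_2 lc_c_Cert_tree lc_c_rc_19_0 lc_c_rc_21_2 lc_c_Cert_tree lc_c_rc_19_0 lc_c_rc_21_2 lc_c_rc_11_3 lc_c_rc_21_2 lc_c_rc_23_2 lc_c_rc_11_3 lc_c_rc_21_2 lc_c_rc_23_2 lc_c_rc_2_1 lc_c_rc_11_3 lc_c_rc_20_2 lc_c_rc_23_2 lc_c_rc_24_2 lc_c_rc_2_1 lc_c_Cert_tree lc_c_rc_11_3 lc_c_rc_20_2 lc_c_rc_20_2 lc_c_rc_24_2 lc_c_rc_25_2 lc_c_Cert_tree lc_c_rc_19_0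 lc_c_rc_21_2 lc_c_rc_19_0 lc_c_rc_21_2 lc_c_rc_11_3 lc_c_rc_21_2 lc_c_rc_23_2 lc_c_rc_11_3 lc_c_rc_21_2 lc_c_rc_23_2 lc_c_rc_2_1 lc_c_rc_11_3 lc_c_rc_20_2 lc_c_rc_23_2 lc_c_rc_24_2 lc_c_rc_11_3 lc_c_rc_21_2 lc_c_rc_23_2) (@D3.rec (fun _ => (Cert rels S Gen.c)) lc_c_rc_2_1 lc_c_rc_11_3 lc_c_rc_20_2 lc_c_rc_23_2 lc_c_rc_24_2 lc_c_rc_11_3 lc_c_rc_20_2 lc_c_rc_23_2 lc_c_rc_24_2 lc_c_rc_2_1 lc_c_Cert_tree lc_c_rc_11_3 lc_c_rc_20_2 lc_c_rc_22_2 lc_c_rc_24_2 lc_c_rc_25_2 lc_c_Cert_tree lc_c_rc_11_3 lc_c_rc_20_2 lc_c_rc_22_2 lc_c_rc_24_2 lc_c_rc_25_2 lc_c_Cert_tree lc_c_rc_2_1 lc_c_rc_19_0 lc_c_rc_23_2 lc_c_rc_22_2 lc_c_rc_11_3 lc_c_rc_21_2 lc_c_rc_20_2 lc_c_rc_22_2 lc_c_rc_26_2 lc_c_rc_25_2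 lc_c_rc_22_2 lc_c_rc_21_2 lc_c_rc_23_2 lc_c_rc_2_1 lc_c_rc_21_2 lc_c_rc_20_2 lc_c_rc_23_2 lc_c_rc_24_2 lc_c_rc_2_1 lc_c_Cert_tree lc_c_rc_23_2 lc_c_rc_20_2 lc_c_rc_22_2 lc_c_rc_24_2 lc_c_rc_25_2 lc_c_rc_2_1 lc_c_rc_22_2 lc_c_rc_20_2) (@D3.rec (fun _ => (Cert rels S Gen.c)) lc_c_rc_23_2 lc_c_rc_24_2 lc_c_rc_2_1 lc_c_Cert_tree lc_c_rc_23_2 lc_c_rc_20_2 lc_c_rc_22_2 lc_c_rc_24_2 lc_c_rc_25_2 lc_c_Cert_tree lc_c_rc_2_1 lc_c_rc_19_0 lc_c_rc_23_2 lc_c_rc_22_2 lc_c_rc_24_2 lc_c_rc_21_2 lc_c_rc_20_2 lc_c_rc_22_2 lc_c_rc_26_2 lc_c_rc_25_2 lc_c_rc_2_1 lc_c_Cert_tree lc_c_rc_23_2 lc_c_rc_20_2 lc_c_rc_20_4 lc_c_rc_24_2 lc_c_rc_25_2 lc_c_Cert_tree lc_c_rc_2_1 lc_c_rc_19_0 lc_c_rc_23_2 lc_c_rc_22_2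 lc_c_rc_24_2 lc_c_rc_21_2 lc_c_rc_20_2 lc_c_rc_22_2 lc_c_rc_26_2 lc_c_rc_25_2 lc_c_rc_19_0 lc_c_rc_23_2 lc_c_rc_22_2 lc_c_rc_2_1 lc_c_rc_23_2 lc_c_rc_22_2 lc_c_rc_21_2 lc_c_rc_24_2 lc_c_rc_23_2 lc_c_rc_26_2 lc_c_rc_25_2 lc_c_rc_21_2 lc_c_rc_22_2) (@D3.rec (fun _ => (Cert rels S Gen.c)) lc_c_rc_20_2 lc_c_rc_22_2 lc_c_rc_26_2 lc_c_rc_11_3 lc_c_rc_20_2 lc_c_rc_24_2 lc_c_rc_25_2 lc_c_rc_2_1 lc_c_rc_22_2 lc_c_rc_24_2 lc_c_rc_21_2 lc_c_rc_20_2 lc_c_rc_21_0 lc_c_rc_25_2 lc_c_rc_22_2 lc_c_rc_2_1 lc_c_rc_23_2 lc_c_rc_21_2 lc_c_rc_24_2 lc_c_rc_22_2 lc_c_rc_25_2 lc_c_rc_21_2 lc_c_rc_22_2 lc_c_rc_20_2 lc_c_rc_22_2 lc_c_rc_23_2 lc_c_rc_23_2 lc_c_rc_21_2 lc_c_rc_24_2 lc_c_rc_21_0 lc_c_rc_2_1 lc_c_rc_21_2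 lc_c_rc_24_2 lc_c_rc_23_2 lc_c_rc_21_2 lc_c_rc_21_2 lc_c_rc_25_2 lc_c_rc_24_2 lc_c_rc_21_0 lc_c_rc_23_2 lc_c_rc_21_2 lc_c_rc_22_2 lc_c_Cert_tree lc_c_rc_23_2 lc_c_rc_22_2 lc_c_rc_24_2 lc_c_rc_23_2 lc_c_rc_21_2 lc_c_Cert_tree lc_c_rc_19_0 lc_c_rc_21_2) (@D3.rec (fun _ => (Cert rels S Gen.c)) lc_c_rc_11_3 lc_c_rc_21_2 lc_c_rc_23_2 lc_c_Cert_tree lc_c_rc_19_0 lc_c_rc_21_2 lc_c_rc_11_3 lc_c_rc_21_2 lc_c_rc_23_2 lc_c_rc_2_1 lc_c_rc_11_3 lc_c_rc_20_2 lc_c_rc_23_2 lc_c_rc_24_2 lc_c_rc_19_0 lc_c_rc_21_2 lc_c_rc_21_2 lc_c_rc_23_2 lc_c_rc_11_3 lc_c_rc_20_2 lc_c_rc_23_2 lc_c_rc_24_2 lc_c_rc_2_1 lc_c_Cert_tree lc_c_rc_11_3 lc_c_rc_20_2 lc_c_rc_22_2 lc_c_rc_24_2 lc_c_rc_25_2 lc_c_rc_21_2 lc_c_rc_23_2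 lc_c_rc_11_3 lc_c_rc_20_2 lc_c_rc_23_2 lc_c_rc_24_2 lc_c_rc_2_1 lc_c_Cert_tree lc_c_rc_11_3 lc_c_rc_20_2 lc_c_rc_22_2 lc_c_rc_24_2 lc_c_rc_25_2 lc_c_rc_20_2 lc_c_rc_23_2 lc_c_rc_24_2 lc_c_Cert_tree lc_c_rc_11_3 lc_c_rc_20_2 lc_c_rc_22_2 lc_c_rc_24_2 lc_c_rc_25_2) (@D3.rec (fun _ => (Cert rels S Gen.c)) lc_c_Cert_tree lc_c_rc_2_1 lc_c_rc_19_0 lc_c_rc_23_2 lc_c_rc_22_2 lc_c_rc_11_3 lc_c_rc_21_2 lc_c_rc_20_2 lc_c_rc_22_2 lc_c_rc_26_2 lc_c_rc_25_2 lc_c_rc_20_2 lc_c_rc_20_2 lc_c_rc_24_2 lc_c_rc_25_2 lc_c_rc_19_0 lc_c_rc_23_2 lc_c_rc_22_2 lc_c_rc_11_3 lc_c_rc_21_2 lc_c_rc_20_2 lc_c_rc_22_2 lc_c_rc_26_2 lc_c_rc_25_2 lc_c_rc_19_0 lc_c_rc_23_2 lc_c_rc_22_2 lc_c_rc_2_1 lc_c_rc_23_2 lc_c_rc_22_2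 lc_c_rc_21_2 lc_c_rc_24_2 lc_c_rc_23_2 lc_c_rc_26_2 lc_c_rc_11_3 lc_c_rc_21_2 lc_c_rc_22_2 lc_c_rc_20_2 lc_c_rc_22_2 lc_c_rc_26_2 lc_c_rc_2_1 lc_c_Cert_tree lc_c_rc_11_3 lc_c_rc_20_2 lc_c_rc_22_2 lc_c_rc_24_2 lc_c_rc_25_2 lc_c_Cert_tree lc_c_rc_2_1 lc_c_rc_19_0 lc_c_rc_23_2) (@D3.rec (fun _ => (Cert rels S Gen.c)) lc_c_rc_22_2 lc_c_rc_11_3 lc_c_rc_21_2 lc_c_rc_20_2 lc_c_rc_22_2 lc_c_rc_26_2 lc_c_rc_25_2 lc_c_Cert_tree lc_c_rc_2_1 lc_c_rc_19_0 lc_c_rc_23_2 lc_c_rc_22_2 lc_c_rc_11_3 lc_c_rc_21_2 lc_c_rc_20_2 lc_c_rc_22_2 lc_c_rc_26_2 lc_c_rc_25_2 lc_c_rc_19_0 lc_c_rc_23_2 lc_c_rc_22_2 lc_c_rc_2_1 lc_c_rc_23_2 lc_c_rc_22_2 lc_c_rc_21_2 lc_c_rc_24_2 lc_c_rc_23_2 lc_c_rc_26_2 lc_c_rc_11_3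 lc_c_rc_21_2 lc_c_rc_22_2 lc_c_rc_20_2 lc_c_rc_22_2 lc_c_rc_26_2 lc_c_rc_19_0 lc_c_rc_23_2 lc_c_rc_22_2 lc_c_rc_2_1 lc_c_rc_23_2 lc_c_rc_22_2 lc_c_rc_21_2 lc_c_rc_24_2 lc_c_rc_23_2 lc_c_rc_26_2 lc_c_rc_11_3 lc_c_rc_21_2 lc_c_rc_22_2 lc_c_rc_20_2 lc_c_rc_22_2 lc_c_rc_26_2 lc_c_rc_11_3) (@D3.rec (fun _ => (Cert rels S Gen.c)) lc_c_rc_23_2 lc_c_rc_22_2 lc_c_rc_21_2 lc_c_rc_24_2 lc_c_rc_23_2 lc_c_rc_26_2 lc_c_rc_2_1 lc_c_rc_21_2 lc_c_rc_24_2 lc_c_rc_23_2 lc_c_rc_20_2 lc_c_rc_26_2 lc_c_rc_21_2 lc_c_rc_21_2 lc_c_rc_25_2 lc_c_rc_24_2 lc_c_rc_26_2 lc_c_rc_23_2 lc_c_rc_21_2 lc_c_rc_22_2 lc_c_Cert_tree lc_c_rc_26_2 lc_c_rc_22_2 lc_c_rc_26_2 lc_c_rc_22_2 lc_c_rc_22_2 lc_c_rc_2_1 lc_c_rc_21_2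 lc_c_rc_24_2 lc_c_rc_21_2 lc_c_rc_22_2 lc_c_rc_25_2 lc_c_rc_22_2 lc_c_rc_23_2 lc_c_rc_21_2 lc_c_rc_22_2 lc_c_Cert_tree lc_c_rc_22_2 lc_c_rc_22_2 lc_c_rc_22_2 lc_c_rc_21_2 lc_c_rc_24_2 lc_c_rc_21_2 lc_c_rc_20_0 lc_c_rc_25_2 lc_c_rc_21_0 lc_c_rc_20_2 lc_c_rc_21_2 lc_c_rc_21_2 lc_c_rc_25_2 lc_c_rc_24_2) (@D3.rec (fun _ => (Cert rels S Gen.c)) lc_c_rc_23_2 lc_c_rc_21_2 lc_c_rc_21_2 lc_c_Cert_tree lc_c_rc_2_1 lc_c_rc_25_2 lc_c_rc_21_0 lc_c_rc_23_2 lc_c_rc_23_2 lc_c_rc_21_2 lc_c_Cert_tree lc_c_rc_21_2 lc_c_rc_19_0 lc_c_rc_26_2 lc_c_rc_20_2 lc_c_rc_19_0 lc_c_rc_23_2 lc_c_rc_22_2 lc_c_rc_2_1 lc_c_rc_23_2 lc_c_rc_22_2 lc_c_rc_21_2 lc_c_rc_24_2 lc_c_rc_23_2 lc_c_rc_26_2 lc_c_rc_11_3 lc_c_rc_21_2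 lc_c_rc_21_2 lc_c_rc_20_2 lc_c_rc_20_0 lc_c_rc_20_0 lc_c_rc_23_2 lc_c_rc_22_2 lc_c_rc_21_2 lc_c_rc_24_2 lc_c_rc_23_2 lc_c_rc_26_2 lc_c_rc_2_1 lc_c_rc_21_2 lc_c_rc_24_2 lc_c_rc_23_2 lc_c_rc_20_2 lc_c_rc_26_2 lc_c_rc_21_2 lc_c_rc_21_2 lc_c_rc_25_2 lc_c_rc_24_2 lc_c_rc_26_2 lc_c_rc_21_2 lc_c_rc_21_2 lc_c_rc_21_2) (@D3.rec (fun _ => (Cert rels S Gen.c)) lc_c_Cert_tree lc_c_rc_21_2 lc_c_rc_20_0 lc_c_rc_20_0 lc_c_rc_21_2 lc_c_rc_24_2 lc_c_rc_23_2 lc_c_rc_26_2 lc_c_rc_21_2 lc_c_rc_21_2 lc_c_rc_25_2 lc_c_rc_24_2 lc_c_rc_26_2 lc_c_rc_21_2 lc_c_rc_21_2 lc_c_rc_25_2 lc_c_rc_24_2 lc_c_rc_20_2 lc_c_rc_26_2 lc_c_rc_21_2 lc_c_rc_20_2 lc_c_rc_23_2 lc_c_rc_21_2 lc_c_rc_21_2 lc_c_Cert_tree lc_c_rc_21_2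 lc_c_rc_25_2 lc_c_rc_26_2 lc_c_rc_20_2 lc_c_rc_22_2 lc_c_rc_21_2 lc_c_Cert_tree lc_c_rc_21_2 lc_c_rc_19_0 lc_c_rc_26_2 lc_c_rc_20_0 lc_c_rc_2_1 lc_c_rc_2_1 lc_c_rc_2_1 lc_c_Cert_tree lc_c_rc_2_1 lc_c_rc_2_1 lc_c_rc_2_1 lc_c_rc_11_3 lc_c_rc_11_3 lc_c_rc_11_3 lc_c_Cert_tree lc_c_rc_11_3 lc_c_rc_19_0 lc_c_rc_26_2 lc_c_rc_11_3) (@D3.rec (fun _ => (Cert rels S Gen.c)) lc_c_rc_24_2 lc_c_rc_23_2 lc_c_Cert_tree lc_c_rc_26_2 lc_c_rc_56_37 lc_c_rc_2_1 lc_c_rc_19_0 lc_c_rc_56_58 lc_c_rc_11_3 lc_c_rc_26_2 lc_c_rc_22_2 lc_c_rc_11_3 lc_c_rc_2_1 lc_c_rc_11_3 lc_c_rc_20_2 lc_c_rc_22_2 lc_c_rc_20_2 lc_c_rc_26_2 lc_c_rc_23_2 lc_c_rc_20_2 lc_c_rc_21_2 lc_c_rc_11_3 lc_c_rc_21_2 lc_c_rc_23_2 lc_c_rc_2_1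 lc_c_rc_11_3 lc_c_rc_20_2 lc_c_rc_23_2 lc_c_rc_26_0 lc_c_rc_20_2 lc_c_rc_21_2 lc_c_rc_11_3 lc_c_rc_20_2 lc_c_rc_23_2 lc_c_rc_24_2 lc_c_rc_2_1 lc_c_Cert_tree lc_c_rc_11_3 lc_c_rc_20_2 lc_c_rc_22_2 lc_c_rc_24_2 lc_c_rc_23_0 lc_c_rc_2_1 lc_c_rc_21_2 lc_c_Cert_tree lc_c_rc_11_3 lc_c_rc_20_2 lc_c_rc_24_2 lc_c_rc_25_2 lc_c_Cert_tree lc_c_rc_2_1) (@D3.rec (fun _ => (Cert rels S Gen.c)) lc_c_rc_19_0 lc_c_rc_23_2 lc_c_rc_22_2 lc_c_rc_11_3 lc_c_rc_20_2 lc_c_rc_20_2 lc_c_rc_22_2 lc_c_rc_25_2 lc_c_rc_24_2 lc_c_Cert_tree lc_c_rc_11_3 lc_c_rc_20_2 lc_c_rc_24_2 lc_c_rc_25_2 lc_c_Cert_tree lc_c_rc_2_1 lc_c_rc_19_0 lc_c_rc_23_2 lc_c_rc_22_2 lc_c_rc_11_3 lc_c_rc_21_2 lc_c_rc_20_2 lc_c_rc_22_2 lc_c_rc_26_2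 lc_c_rc_25_2 lc_c_rc_23_2 lc_c_rc_19_0 lc_c_rc_23_2 lc_c_rc_11_3 lc_c_rc_21_2 lc_c_rc_20_2 lc_c_rc_25_2 lc_c_rc_19_0 lc_c_rc_23_2 lc_c_rc_22_2 lc_c_rc_2_1 lc_c_rc_23_2 lc_c_rc_22_2 lc_c_rc_21_2 lc_c_rc_24_2 lc_c_rc_23_2 lc_c_rc_26_2 lc_c_rc_11_3 lc_c_rc_21_2 lc_c_rc_22_2 lc_c_rc_20_2 lc_c_rc_22_2 lc_c_rc_26_2 lc_c_rc_23_2 lc_c_rc_21_2 lc_c_rc_24_2) (@D3.rec (fun _ => (Cert rels S Gen.c)) lc_c_rc_11_3 lc_c_rc_21_2 lc_c_rc_20_2 lc_c_rc_26_2 lc_c_rc_23_2 lc_c_rc_22_2 lc_c_rc_21_2 lc_c_rc_24_2 lc_c_rc_23_2 lc_c_rc_2_1 lc_c_rc_21_2 lc_c_rc_24_2 lc_c_rc_23_2 lc_c_rc_20_2 lc_c_rc_21_2 lc_c_rc_21_2 lc_c_rc_25_2 lc_c_rc_24_2 lc_c_rc_26_2 lc_c_rc_23_2 lc_c_rc_21_2 lc_c_rc_22_2 lc_c_rc_20_2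 lc_c_rc_26_2 lc_c_rc_22_2 lc_c_rc_26_2 lc_c_Cert_tree lc_c_rc_2_1 lc_c_rc_19_0 lc_c_rc_23_2 lc_c_rc_22_2 lc_c_rc_11_3 lc_c_rc_21_2 lc_c_rc_20_2 lc_c_rc_23_2 lc_c_rc_22_2 lc_c_rc_25_2 lc_c_rc_19_0 lc_c_rc_23_2 lc_c_rc_2_1 lc_c_rc_23_2 lc_c_rc_22_2 lc_c_rc_21_2 lc_c_rc_24_2 lc_c_rc_23_2 lc_c_rc_11_3 lc_c_rc_26_2 lc_c_rc_19_0 lc_c_rc_23_2 lc_c_rc_2_1 lc_c_rc_23_2) (@D3.rec (fun _ => (Cert rels S Gen.c)) lc_c_rc_22_2 lc_c_rc_21_2 lc_c_rc_24_2 lc_c_rc_23_2 lc_c_rc_11_3 lc_c_rc_21_2 lc_c_rc_21_2 lc_c_rc_20_2 lc_c_rc_23_2 lc_c_rc_23_2 lc_c_rc_23_2 lc_c_rc_21_2 lc_c_rc_24_2 lc_c_rc_2_1 lc_c_rc_21_2 lc_c_rc_24_2 lc_c_rc_23_2 lc_c_rc_20_2 lc_c_rc_21_2 lc_c_rc_21_2 lc_c_rc_25_2 lc_c_rc_24_2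 lc_c_rc_26_2 lc_c_rc_26_2 lc_c_rc_23_2 lc_c_rc_21_2 lc_c_rc_24_2 lc_c_rc_2_1 lc_c_rc_21_2 lc_c_rc_24_2 lc_c_rc_23_2 lc_c_rc_21_2 lc_c_rc_21_2 lc_c_rc_25_2 lc_c_rc_24_2 lc_c_rc_23_2 lc_c_rc_21_2 lc_c_rc_21_2 lc_c_rc_19_0 lc_c_rc_22_2 lc_c_rc_11_5 lc_c_rc_22_2 lc_c_rc_21_2 lc_c_rc_24_2 lc_c_rc_21_2 lc_c_rc_25_2 lc_c_rc_20_2 lc_c_rc_21_2 lc_c_rc_21_2 lc_c_rc_25_2 lc_c_rc_24_2) (@D3.rec (fun _ => (Cert rels S Gen.c)) lc_c_rc_20_2 lc_c_rc_21_2 lc_c_rc_23_2 lc_c_rc_21_2 lc_c_rc_21_2 lc_c_rc_25_2 lc_c_rc_26_2 lc_c_rc_26_2 lc_c_rc_21_2 lc_c_rc_24_2 lc_c_rc_21_2 lc_c_rc_22_2 lc_c_rc_25_2 lc_c_rc_22_2 lc_c_rc_20_2 lc_c_rc_21_2 lc_c_rc_21_2 lc_c_rc_25_2 lc_c_rc_24_2 lc_c_rc_23_2 lc_c_rc_21_2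 lc_c_rc_21_2 lc_c_Cert_tree lc_c_rc_25_2 lc_c_rc_23_2 lc_c_rc_23_2 lc_c_rc_22_2 lc_c_Cert_tree lc_c_rc_19_0 lc_c_rc_11_3 lc_c_rc_11_3 lc_c_rc_2_1 lc_c_rc_21_2 lc_c_rc_25_2 lc_c_rc_23_2 lc_c_rc_21_2 lc_c_rc_20_2 lc_c_rc_22_2 lc_c_rc_23_2 lc_c_rc_21_2 lc_c_rc_23_2 lc_c_rc_23_2 lc_c_rc_21_2 lc_c_rc_24_2 lc_c_rc_2_1 lc_c_rc_21_2 lc_c_rc_24_2 lc_c_rc_23_2 lc_c_rc_20_2 lc_c_rc_21_2 lc_c_rc_21_2) (@D3.rec (fun _ => (Cert rels S Gen.c)) lc_c_rc_25_2 lc_c_rc_24_2 lc_c_rc_21_2 lc_c_rc_24_2 lc_c_rc_21_2 lc_c_rc_24_2 lc_c_rc_21_2 lc_c_rc_25_2 lc_c_rc_20_2 lc_c_rc_21_2 lc_c_rc_21_2 lc_c_rc_25_2 lc_c_rc_24_2 lc_c_rc_20_2 lc_c_rc_21_2 lc_c_rc_21_2 lc_c_rc_21_2 lc_c_Cert_tree lc_c_rc_25_2 lc_c_rc_21_2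 lc_c_rc_11_5 lc_c_rc_23_2 lc_c_rc_25_2 lc_c_rc_25_2 lc_c_rc_20_2 lc_c_rc_21_2 lc_c_rc_23_2 lc_c_rc_21_2 lc_c_rc_24_2 lc_c_rc_21_2 lc_c_rc_20_2 lc_c_rc_21_2 lc_c_rc_21_2 lc_c_rc_24_2 lc_c_rc_20_2 lc_c_rc_21_2 lc_c_rc_23_2 lc_c_rc_21_2 lc_c_Cert_tree lc_c_rc_24_2 lc_c_rc_24_2 lc_c_rc_20_2 lc_c_rc_22_2 lc_c_Cert_tree lc_c_rc_21_2 lc_c_rc_23_2 lc_c_rc_19_0 lc_c_rc_11_3 lc_c_rc_26_2 lc_c_rc_22_2 lc_c_rc_24_2)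
def ce_c_3 : D2 → D3 → (Cert rels S Gen.c) := @D2.rec (fun _ => D3 → (Cert rels S Gen.c)) (@D3.rec (fun _ => (Cert rels S Gen.c)) lc_c_rc_19_0 lc_c_rc_23_2 lc_c_rc_22_2 lc_c_rc_21_2 lc_c_rc_22_2 lc_c_rc_20_2 lc_c_rc_20_2 lc_c_rc_20_2 lc_c_rc_23_2 lc_c_rc_20_2 lc_c_rc_23_2 lc_c_rc_24_2 lc_c_rc_22_2 lc_c_rc_55_55 lc_c_rc_21_2 lc_c_rc_20_2 lc_c_rc_24_2 lc_c_rc_23_2 lc_c_rc_22_2 lc_c_rc_20_2 lc_c_rc_20_2 lc_c_rc_21_2 lc_c_rc_20_2 lc_c_rc_20_2 lc_c_rc_25_2 lc_c_rc_22_2 lc_c_rc_56_58 lc_c_rc_25_2 lc_c_rc_2_3 lc_c_rc_21_2 lc_c_rc_20_2 lc_c_rc_23_2 lc_c_rc_2_3 lc_c_rc_21_2 lc_c_rc_20_2 lc_c_rc_21_2 lc_c_rc_24_2 lc_c_rc_21_2 lc_c_rc_2_3 lc_c_rc_23_2 lc_c_rc_21_2 lc_c_rc_20_2 lc_c_rc_21_2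 lc_c_rc_25_2 lc_c_rc_2_3 lc_c_rc_20_2 lc_c_rc_2_3 lc_c_rc_23_2 lc_c_rc_2_1 lc_c_rc_22_2 lc_c_rc_2_3) (@D3.rec (fun _ => (Cert rels S Gen.c)) lc_c_rc_11_3 lc_c_rc_21_2 lc_c_rc_24_2 lc_c_rc_2_1 lc_c_rc_21_2 lc_c_rc_23_2 lc_c_rc_2_1 lc_c_rc_21_2 lc_c_rc_22_2 lc_c_rc_21_2 lc_c_rc_23_2 lc_c_rc_22_2 lc_c_rc_22_2 lc_c_rc_2_3 lc_c_rc_56_9 lc_c_rc_20_2 lc_c_rc_23_2 lc_c_rc_21_2 lc_c_rc_20_0 lc_c_rc_24_2 lc_c_rc_55_73 lc_c_rc_21_2 lc_c_rc_21_2 lc_c_rc_25_2 lc_c_rc_24_2 lc_c_rc_23_2 lc_c_rc_21_2 lc_c_rc_21_2 lc_c_rc_20_4 lc_c_rc_25_2 lc_c_rc_20_2 lc_c_rc_23_2 lc_c_rc_21_2 lc_c_rc_21_2 lc_c_rc_25_2 lc_c_rc_20_2 lc_c_rc_23_2 lc_c_rc_21_2 lc_c_rc_24_2 lc_c_rc_19_0 lc_c_Cert_tree lc_c_rc_11_3 lc_c_rc_11_3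 lc_c_rc_20_2 lc_c_rc_23_2 lc_c_rc_21_2 lc_c_rc_11_5 lc_c_rc_21_2 lc_c_rc_24_2 lc_c_rc_21_2 lc_c_rc_23_2) (@D3.rec (fun _ => (Cert rels S Gen.c)) lc_c_rc_19_0 lc_c_rc_21_2 lc_c_rc_23_2 lc_c_Cert_tree lc_c_rc_19_0 lc_c_rc_21_2 lc_c_rc_11_3 lc_c_rc_21_2 lc_c_rc_23_2 lc_c_rc_19_0 lc_c_rc_21_2 lc_c_rc_11_3 lc_c_rc_21_2 lc_c_rc_23_2 lc_c_rc_2_1 lc_c_rc_11_3 lc_c_rc_20_2 lc_c_rc_23_2 lc_c_rc_24_2 lc_c_rc_2_1 lc_c_rc_11_3 lc_c_rc_20_2 lc_c_rc_23_2 lc_c_rc_24_2 lc_c_rc_2_1 lc_c_Cert_tree lc_c_rc_11_3 lc_c_rc_20_2 lc_c_rc_20_2 lc_c_rc_24_2 lc_c_rc_25_2 lc_c_Cert_tree lc_c_rc_2_1 lc_c_rc_19_0 lc_c_rc_23_2 lc_c_rc_22_2 lc_c_rc_11_3 lc_c_rc_21_2 lc_c_rc_20_2 lc_c_rc_20_2 lc_c_rc_20_2 lc_c_rc_25_2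 lc_c_rc_19_0 lc_c_rc_21_2 lc_c_rc_11_3 lc_c_rc_21_2 lc_c_rc_23_2 lc_c_rc_11_3 lc_c_rc_21_2 lc_c_rc_23_2 lc_c_rc_2_1) (@D3.rec (fun _ => (Cert rels S Gen.c)) lc_c_rc_11_3 lc_c_rc_20_2 lc_c_rc_23_2 lc_c_rc_24_2 lc_c_rc_11_3 lc_c_rc_20_2 lc_c_rc_23_2 lc_c_rc_24_2 lc_c_rc_2_1 lc_c_Cert_tree lc_c_rc_11_3 lc_c_rc_20_2 lc_c_rc_22_2 lc_c_rc_24_2 lc_c_rc_25_2 lc_c_rc_11_3 lc_c_rc_20_2 lc_c_rc_23_2 lc_c_rc_24_2 lc_c_rc_2_1 lc_c_Cert_tree lc_c_rc_11_3 lc_c_rc_20_2 lc_c_rc_22_2 lc_c_rc_24_2 lc_c_rc_25_2 lc_c_Cert_tree lc_c_rc_11_3 lc_c_rc_20_2 lc_c_rc_22_2 lc_c_rc_24_2 lc_c_rc_25_2 lc_c_Cert_tree lc_c_rc_2_1 lc_c_rc_19_0 lc_c_rc_23_2 lc_c_rc_22_2 lc_c_rc_11_3 lc_c_rc_21_2 lc_c_rc_20_2 lc_c_rc_22_2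 lc_c_rc_26_2 lc_c_rc_25_2 lc_c_rc_19_0 lc_c_rc_23_2 lc_c_rc_22_2 lc_c_rc_11_3 lc_c_rc_21_2 lc_c_rc_20_2 lc_c_rc_22_2 lc_c_rc_26_2) (@D3.rec (fun _ => (Cert rels S Gen.c)) lc_c_rc_25_2 lc_c_rc_19_0 lc_c_rc_23_2 lc_c_rc_22_2 lc_c_rc_2_1 lc_c_rc_23_2 lc_c_rc_22_2 lc_c_rc_21_2 lc_c_rc_24_2 lc_c_rc_23_2 lc_c_rc_26_2 lc_c_rc_11_3 lc_c_rc_21_2 lc_c_rc_22_2 lc_c_rc_20_2 lc_c_rc_22_2 lc_c_rc_26_2 lc_c_rc_2_1 lc_c_rc_22_2 lc_c_rc_20_2 lc_c_rc_23_2 lc_c_rc_24_2 lc_c_rc_2_1 lc_c_Cert_tree lc_c_rc_23_2 lc_c_rc_20_2 lc_c_rc_22_2 lc_c_rc_24_2 lc_c_rc_25_2 lc_c_Cert_tree lc_c_rc_2_1 lc_c_rc_19_0 lc_c_rc_23_2 lc_c_rc_22_2 lc_c_rc_24_2 lc_c_rc_21_2 lc_c_rc_20_2 lc_c_rc_22_2 lc_c_rc_26_2 lc_c_rc_25_2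 lc_c_rc_2_1 lc_c_Cert_tree lc_c_rc_23_2 lc_c_rc_20_2 lc_c_rc_20_4 lc_c_rc_24_2 lc_c_rc_25_2 lc_c_Cert_tree lc_c_rc_2_1 lc_c_rc_19_0 lc_c_rc_23_2) (@D3.rec (fun _ => (Cert rels S Gen.c)) lc_c_rc_22_2 lc_c_rc_24_2 lc_c_rc_21_2 lc_c_rc_20_2 lc_c_rc_22_2 lc_c_rc_26_2 lc_c_rc_25_2 lc_c_rc_19_0 lc_c_rc_23_2 lc_c_rc_22_2 lc_c_rc_2_1 lc_c_rc_23_2 lc_c_rc_22_2 lc_c_rc_21_2 lc_c_rc_24_2 lc_c_rc_23_2 lc_c_rc_26_2 lc_c_rc_25_2 lc_c_rc_21_2 lc_c_rc_22_2 lc_c_rc_20_2 lc_c_rc_22_2 lc_c_rc_26_2 lc_c_Cert_tree lc_c_rc_2_1 lc_c_rc_19_0 lc_c_rc_23_2 lc_c_rc_22_2 lc_c_rc_24_2 lc_c_rc_21_2 lc_c_rc_20_2 lc_c_rc_20_4 lc_c_rc_20_4 lc_c_rc_25_2 lc_c_rc_19_0 lc_c_rc_23_2 lc_c_rc_22_2 lc_c_rc_2_1 lc_c_rc_23_2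 lc_c_rc_22_2 lc_c_rc_21_2 lc_c_rc_24_2 lc_c_rc_23_2 lc_c_rc_26_2 lc_c_rc_25_2 lc_c_rc_21_2 lc_c_rc_22_2 lc_c_rc_20_2 lc_c_rc_22_2 lc_c_rc_26_2 lc_c_rc_11_3) (@D3.rec (fun _ => (Cert rels S Gen.c)) lc_c_rc_23_2 lc_c_rc_22_2 lc_c_rc_21_2 lc_c_rc_24_2 lc_c_rc_23_2 lc_c_rc_26_2 lc_c_rc_2_1 lc_c_rc_21_2 lc_c_rc_24_2 lc_c_rc_23_2 lc_c_rc_20_2 lc_c_rc_26_2 lc_c_rc_21_2 lc_c_rc_21_2 lc_c_rc_25_2 lc_c_rc_24_2 lc_c_rc_26_2 lc_c_rc_23_2 lc_c_rc_21_2 lc_c_rc_22_2 lc_c_Cert_tree lc_c_rc_26_2 lc_c_rc_22_2 lc_c_rc_26_2 lc_c_rc_11_3 lc_c_rc_21_2 lc_c_rc_20_2 lc_c_rc_25_2 lc_c_rc_2_1 lc_c_rc_22_2 lc_c_rc_22_2 lc_c_rc_25_2 lc_c_rc_21_2 lc_c_rc_20_0 lc_c_rc_20_2 lc_c_rc_24_2 lc_c_rc_22_2 lc_c_rc_22_2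 lc_c_rc_2_1 lc_c_rc_21_2 lc_c_rc_24_2 lc_c_rc_21_2 lc_c_rc_22_2 lc_c_rc_25_2 lc_c_rc_22_2 lc_c_rc_23_2 lc_c_rc_21_2 lc_c_rc_22_2 lc_c_Cert_tree lc_c_rc_23_2 lc_c_rc_22_2) (@D3.rec (fun _ => (Cert rels S Gen.c)) lc_c_rc_24_2 lc_c_rc_21_2 lc_c_rc_24_2 lc_c_rc_21_2 lc_c_rc_2_3 lc_c_rc_25_2 lc_c_rc_21_0 lc_c_rc_20_2 lc_c_rc_21_2 lc_c_rc_21_2 lc_c_rc_25_2 lc_c_rc_24_2 lc_c_rc_23_2 lc_c_rc_21_2 lc_c_rc_21_2 lc_c_Cert_tree lc_c_rc_20_0 lc_c_rc_25_2 lc_c_rc_21_0 lc_c_rc_23_2 lc_c_rc_23_2 lc_c_rc_22_2 lc_c_Cert_tree lc_c_rc_24_2 lc_c_rc_19_0 lc_c_rc_26_2 lc_c_rc_25_2 lc_c_rc_23_2 lc_c_Cert_tree lc_c_rc_19_0 lc_c_rc_21_2 lc_c_rc_11_3 lc_c_rc_21_2 lc_c_rc_23_2 lc_c_rc_2_1 lc_c_rc_11_3 lc_c_rc_20_2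 lc_c_rc_23_2 lc_c_rc_24_2 lc_c_rc_19_0 lc_c_rc_21_2 lc_c_rc_21_2 lc_c_rc_23_2 lc_c_rc_11_3 lc_c_rc_20_2 lc_c_rc_23_2 lc_c_rc_24_2 lc_c_rc_2_1 lc_c_Cert_tree lc_c_rc_11_3 lc_c_rc_20_2) (@D3.rec (fun _ => (Cert rels S Gen.c)) lc_c_rc_22_2 lc_c_rc_24_2 lc_c_rc_25_2 lc_c_rc_21_2 lc_c_rc_23_2 lc_c_rc_20_2 lc_c_rc_23_2 lc_c_rc_24_2 lc_c_Cert_tree lc_c_rc_11_3 lc_c_rc_20_2 lc_c_rc_22_2 lc_c_rc_24_2 lc_c_rc_25_2 lc_c_rc_56_44 lc_c_rc_2_1 lc_c_rc_19_0 lc_c_rc_23_2 lc_c_rc_2_1 lc_c_rc_11_3 lc_c_rc_20_2 lc_c_rc_20_2 lc_c_rc_22_2 lc_c_rc_26_2 lc_c_rc_25_2 lc_c_rc_20_2 lc_c_rc_23_2 lc_c_rc_24_2 lc_c_Cert_tree lc_c_rc_11_3 lc_c_rc_20_2 lc_c_rc_22_2 lc_c_rc_24_2 lc_c_rc_25_2 lc_c_Cert_tree lc_c_rc_2_1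 lc_c_rc_19_0 lc_c_rc_23_2 lc_c_rc_22_2 lc_c_rc_11_3 lc_c_rc_21_2 lc_c_rc_20_2 lc_c_rc_22_2 lc_c_rc_26_2 lc_c_rc_25_2 lc_c_rc_20_2 lc_c_rc_20_2 lc_c_rc_24_2 lc_c_rc_25_2 lc_c_rc_19_0 lc_c_rc_23_2) (@D3.rec (fun _ => (Cert rels S Gen.c)) lc_c_rc_22_2 lc_c_rc_11_3 lc_c_rc_21_2 lc_c_rc_20_2 lc_c_rc_22_2 lc_c_rc_26_2 lc_c_rc_25_2 lc_c_rc_19_0 lc_c_rc_23_2 lc_c_rc_22_2 lc_c_rc_2_1 lc_c_rc_23_2 lc_c_rc_22_2 lc_c_rc_21_2 lc_c_rc_24_2 lc_c_rc_23_2 lc_c_rc_26_2 lc_c_rc_11_3 lc_c_rc_21_2 lc_c_rc_22_2 lc_c_rc_20_2 lc_c_rc_22_2 lc_c_rc_26_2 lc_c_rc_21_2 lc_c_rc_20_2 lc_c_rc_20_2 lc_c_rc_20_2 lc_c_rc_25_2 lc_c_rc_23_2 lc_c_rc_22_2 lc_c_rc_21_2 lc_c_rc_24_2 lc_c_rc_23_2 lc_c_rc_26_2 lc_c_rc_11_3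 lc_c_rc_21_2 lc_c_rc_22_2 lc_c_rc_20_2 lc_c_rc_22_2 lc_c_rc_26_2 lc_c_rc_2_1 lc_c_rc_23_2 lc_c_rc_22_2 lc_c_rc_21_2 lc_c_rc_24_2 lc_c_rc_23_2 lc_c_rc_26_2 lc_c_rc_2_1 lc_c_rc_21_2 lc_c_rc_24_2 lc_c_rc_23_2) (@D3.rec (fun _ => (Cert rels S Gen.c)) lc_c_rc_20_2 lc_c_rc_26_2 lc_c_rc_21_2 lc_c_rc_21_2 lc_c_rc_25_2 lc_c_rc_24_2 lc_c_rc_26_2 lc_c_rc_23_2 lc_c_rc_21_2 lc_c_rc_22_2 lc_c_Cert_tree lc_c_rc_26_2 lc_c_rc_22_2 lc_c_rc_26_2 lc_c_Cert_tree lc_c_rc_2_1 lc_c_rc_19_0 lc_c_rc_23_2 lc_c_rc_22_2 lc_c_rc_11_3 lc_c_rc_21_2 lc_c_rc_20_2 lc_c_rc_22_2 lc_c_rc_26_2 lc_c_rc_25_2 lc_c_rc_19_0 lc_c_rc_23_2 lc_c_rc_22_2 lc_c_rc_2_1 lc_c_rc_23_2 lc_c_rc_22_2 lc_c_rc_21_2 lc_c_rc_24_2 lc_c_rc_23_2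 lc_c_rc_26_2 lc_c_rc_11_3 lc_c_rc_21_2 lc_c_rc_22_2 lc_c_rc_20_2 lc_c_rc_22_2 lc_c_rc_26_2 lc_c_rc_19_0 lc_c_rc_23_2 lc_c_rc_22_2 lc_c_rc_2_1 lc_c_rc_23_2 lc_c_rc_22_2 lc_c_rc_21_2 lc_c_rc_24_2 lc_c_rc_23_2 lc_c_rc_26_2) (@D3.rec (fun _ => (Cert rels S Gen.c)) lc_c_rc_11_3 lc_c_rc_21_2 lc_c_rc_22_2 lc_c_rc_20_2 lc_c_rc_22_2 lc_c_rc_26_2 lc_c_rc_11_3 lc_c_rc_23_2 lc_c_rc_22_2 lc_c_rc_21_2 lc_c_rc_24_2 lc_c_rc_23_2 lc_c_rc_26_2 lc_c_rc_2_1 lc_c_rc_21_2 lc_c_rc_24_2 lc_c_rc_23_2 lc_c_rc_20_2 lc_c_rc_26_2 lc_c_rc_21_2 lc_c_rc_21_2 lc_c_rc_25_2 lc_c_rc_24_2 lc_c_rc_26_2 lc_c_rc_23_2 lc_c_rc_21_2 lc_c_rc_22_2 lc_c_Cert_tree lc_c_rc_26_2 lc_c_rc_22_2 lc_c_rc_26_2 lc_c_rc_11_3 lc_c_rc_23_2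 lc_c_rc_22_2 lc_c_rc_21_2 lc_c_rc_24_2 lc_c_rc_23_2 lc_c_rc_26_2 lc_c_rc_2_1 lc_c_rc_21_2 lc_c_rc_24_2 lc_c_rc_23_2 lc_c_rc_20_2 lc_c_rc_26_2 lc_c_rc_21_2 lc_c_rc_21_2 lc_c_rc_25_2 lc_c_rc_24_2 lc_c_rc_26_2 lc_c_rc_23_2 lc_c_rc_21_2) (@D3.rec (fun _ => (Cert rels S Gen.c)) lc_c_rc_22_2 lc_c_Cert_tree lc_c_rc_26_2 lc_c_rc_22_2 lc_c_rc_26_2 lc_c_rc_11_3 lc_c_rc_21_2 lc_c_rc_24_2 lc_c_rc_23_2 lc_c_rc_26_2 lc_c_rc_21_2 lc_c_rc_21_2 lc_c_rc_25_2 lc_c_rc_24_2 lc_c_rc_26_2 lc_c_rc_20_2 lc_c_rc_21_2 lc_c_rc_21_2 lc_c_rc_25_2 lc_c_rc_24_2 lc_c_rc_20_2 lc_c_rc_26_2 lc_c_rc_21_2 lc_c_rc_20_2 lc_c_rc_23_2 lc_c_rc_21_2 lc_c_rc_21_2 lc_c_Cert_tree lc_c_rc_21_2 lc_c_rc_25_2 lc_c_rc_26_2 lc_c_rc_23_2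 lc_c_rc_23_2 lc_c_rc_22_2 lc_c_Cert_tree lc_c_rc_26_2 lc_c_rc_19_0 lc_c_rc_26_2 lc_c_rc_26_2 lc_c_rc_22_2 lc_c_rc_22_2 lc_c_rc_20_2 lc_c_rc_21_2 lc_c_rc_25_2 lc_c_rc_23_2 lc_c_rc_21_2 lc_c_rc_22_2 lc_c_Cert_tree lc_c_rc_22_2 lc_c_rc_23_2 lc_c_rc_23_2) (@D3.rec (fun _ => (Cert rels S Gen.c)) lc_c_rc_22_2 lc_c_Cert_tree lc_c_rc_22_2 lc_c_rc_19_0 lc_c_rc_26_2 lc_c_rc_22_2 lc_c_rc_2_1 lc_c_rc_21_2 lc_c_rc_25_2 lc_c_rc_23_2 lc_c_rc_21_2 lc_c_rc_20_0 lc_c_Cert_tree lc_c_rc_21_0 lc_c_rc_20_2 lc_c_rc_22_2 lc_c_rc_23_2 lc_c_rc_21_2 lc_c_rc_21_2 lc_c_Cert_tree lc_c_rc_25_2 lc_c_rc_23_2 lc_c_rc_23_2 lc_c_rc_21_2 lc_c_Cert_tree lc_c_rc_20_0 lc_c_rc_19_0 lc_c_rc_26_2 lc_c_rc_21_0 lc_c_rc_24_2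 lc_c_rc_23_2 lc_c_Cert_tree lc_c_rc_23_2 lc_c_Cert_tree lc_c_rc_21_2 lc_c_rc_19_0 lc_c_rc_26_2 lc_c_rc_11_3 lc_c_rc_26_2 lc_c_rc_22_2 lc_c_rc_23_2 lc_c_rc_22_2 lc_c_rc_21_2 lc_c_rc_24_2 lc_c_rc_23_2 lc_c_rc_26_2 lc_c_rc_2_1 lc_c_rc_21_2 lc_c_rc_24_2 lc_c_rc_23_2 lc_c_rc_20_2) (@D3.rec (fun _ => (Cert rels S Gen.c)) lc_c_rc_26_2 lc_c_rc_21_2 lc_c_rc_21_2 lc_c_rc_25_2 lc_c_rc_24_2 lc_c_rc_26_2 lc_c_rc_23_2 lc_c_rc_21_2 lc_c_rc_21_2 lc_c_Cert_tree lc_c_rc_21_2 lc_c_rc_20_0 lc_c_rc_20_0 lc_c_rc_21_2 lc_c_rc_24_2 lc_c_rc_23_2 lc_c_rc_26_2 lc_c_rc_21_2 lc_c_rc_21_2 lc_c_rc_25_2 lc_c_rc_24_2 lc_c_rc_26_2 lc_c_rc_20_2 lc_c_rc_21_2 lc_c_rc_21_2 lc_c_rc_25_2 lc_c_rc_24_2 lc_c_rc_20_2 lc_c_rc_26_2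 lc_c_rc_21_2 lc_c_rc_20_2 lc_c_rc_23_2 lc_c_rc_21_2 lc_c_rc_21_2 lc_c_Cert_tree lc_c_rc_21_2 lc_c_rc_25_2 lc_c_rc_26_2 lc_c_rc_21_2 lc_c_rc_22_2 lc_c_rc_21_2 lc_c_Cert_tree lc_c_rc_21_2 lc_c_rc_19_0 lc_c_rc_26_2 lc_c_rc_20_0 lc_c_rc_21_2 lc_c_rc_21_2 lc_c_rc_25_2 lc_c_rc_24_2 lc_c_rc_26_2) (@D3.rec (fun _ => (Cert rels S Gen.c)) lc_c_rc_23_2 lc_c_rc_21_2 lc_c_rc_21_2 lc_c_Cert_tree lc_c_rc_21_2 lc_c_rc_25_2 lc_c_rc_26_2 lc_c_rc_23_2 lc_c_rc_21_2 lc_c_rc_21_2 lc_c_Cert_tree lc_c_rc_21_2 lc_c_rc_25_2 lc_c_rc_20_2 lc_c_rc_26_2 lc_c_rc_21_2 lc_c_rc_20_2 lc_c_rc_23_2 lc_c_rc_21_2 lc_c_rc_23_2 lc_c_rc_23_2 lc_c_rc_21_2 lc_c_Cert_tree lc_c_rc_21_2 lc_c_rc_19_0 lc_c_rc_26_2 lc_c_rc_26_2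 lc_c_rc_20_2 lc_c_rc_22_2 lc_c_Cert_tree lc_c_rc_23_2 lc_c_Cert_tree lc_c_rc_21_2 lc_c_rc_19_0 lc_c_rc_26_2 lc_c_rc_11_3 lc_c_rc_26_2 lc_c_rc_22_2 lc_c_rc_2_1 lc_c_rc_2_1 lc_c_rc_2_1 lc_c_Cert_tree lc_c_rc_2_1 lc_c_rc_19_0 lc_c_rc_26_2 lc_c_rc_2_1 lc_c_rc_11_3 lc_c_rc_11_3 lc_c_Cert_tree lc_c_rc_11_3 lc_c_Cert_tree) (@D3.rec (fun _ => (Cert rels S Gen.c)) lc_c_rc_21_2 lc_c_rc_19_0 lc_c_rc_26_2 lc_c_rc_11_3 lc_c_rc_26_2 lc_c_rc_22_2 lc_c_rc_2_1 lc_c_rc_19_0 lc_c_rc_2_3 lc_c_rc_2_1 lc_c_rc_11_3 lc_c_rc_2_3 lc_c_rc_2_1 lc_c_rc_11_3 lc_c_rc_22_2 lc_c_rc_2_1 lc_c_rc_2_1 lc_c_rc_21_2 lc_c_rc_22_2 lc_c_rc_20_2 lc_c_rc_20_2 lc_c_rc_20_2 lc_c_rc_23_2 lc_c_rc_11_3 lc_c_rc_20_2 lc_c_rc_23_2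 lc_c_rc_24_2 lc_c_rc_2_1 lc_c_Cert_tree lc_c_rc_11_3 lc_c_rc_2_1 lc_c_rc_21_2 lc_c_Cert_tree lc_c_rc_11_3 lc_c_rc_20_2 lc_c_rc_24_2 lc_c_rc_11_5 lc_c_Cert_tree lc_c_rc_2_1 lc_c_rc_19_0 lc_c_rc_23_2 lc_c_rc_22_2 lc_c_rc_11_3 lc_c_rc_20_2 lc_c_rc_21_2 lc_c_rc_19_0 lc_c_rc_23_2 lc_c_rc_11_3 lc_c_rc_20_2 lc_c_rc_20_2 lc_c_rc_25_2) (@D3.rec (fun _ => (Cert rels S Gen.c)) lc_c_rc_19_0 lc_c_rc_23_2 lc_c_rc_22_2 lc_c_rc_2_1 lc_c_rc_23_2 lc_c_rc_22_2 lc_c_rc_21_2 lc_c_rc_24_2 lc_c_rc_23_2 lc_c_rc_11_3 lc_c_rc_24_2 lc_c_rc_19_0 lc_c_rc_23_2 lc_c_rc_11_3 lc_c_rc_21_2 lc_c_rc_20_2 lc_c_rc_25_2 lc_c_rc_19_0 lc_c_rc_23_2 lc_c_rc_22_2 lc_c_rc_2_1 lc_c_rc_23_2 lc_c_rc_22_2 lc_c_rc_21_2 lc_c_rc_24_2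 lc_c_rc_23_2 lc_c_rc_19_1 lc_c_rc_11_3 lc_c_rc_26_2 lc_c_rc_23_2 lc_c_rc_21_2 lc_c_rc_24_2 lc_c_rc_11_3 lc_c_rc_21_2 lc_c_rc_20_2 lc_c_rc_19_0 lc_c_rc_23_2 lc_c_rc_22_2 lc_c_rc_21_2 lc_c_rc_24_2 lc_c_rc_23_2 lc_c_rc_2_1 lc_c_rc_21_2 lc_c_rc_24_2 lc_c_rc_23_2 lc_c_rc_20_2 lc_c_rc_21_2 lc_c_rc_21_2 lc_c_rc_25_2 lc_c_rc_24_2 lc_c_rc_23_2) (@D3.rec (fun _ => (Cert rels S Gen.c)) lc_c_rc_26_2 lc_c_rc_26_2 lc_c_rc_21_2 lc_c_rc_24_2 lc_c_rc_21_2 lc_c_rc_25_2 lc_c_rc_23_2 lc_c_rc_21_2 lc_c_rc_26_2 lc_c_rc_21_2 lc_c_rc_24_2 lc_c_rc_23_2 lc_c_rc_21_2 lc_c_rc_21_2 lc_c_rc_25_2 lc_c_rc_24_2 lc_c_rc_20_2 lc_c_rc_21_2 lc_c_rc_21_2 lc_c_rc_25_2 lc_c_rc_24_2 lc_c_rc_20_2 lc_c_rc_21_2 lc_c_rc_23_2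 lc_c_rc_21_2 lc_c_rc_21_2 lc_c_Cert_tree lc_c_rc_21_2 lc_c_rc_25_2 lc_c_rc_19_1 lc_c_rc_26_2 lc_c_rc_20_2 lc_c_rc_26_2 lc_c_rc_19_0 lc_c_rc_23_2 lc_c_rc_2_1 lc_c_rc_23_2 lc_c_rc_22_2 lc_c_rc_21_2 lc_c_rc_24_2 lc_c_rc_23_2 lc_c_rc_11_3 lc_c_rc_21_2 lc_c_rc_24_2 lc_c_rc_23_2 lc_c_rc_23_2 lc_c_rc_21_2 lc_c_rc_24_2 lc_c_rc_2_1 lc_c_rc_21_2 lc_c_rc_24_2) (@D3.rec (fun _ => (Cert rels S Gen.c)) lc_c_rc_23_2 lc_c_rc_20_2 lc_c_rc_23_2 lc_c_rc_21_2 lc_c_rc_24_2 lc_c_rc_2_1 lc_c_rc_21_2 lc_c_rc_24_2 lc_c_rc_23_2 lc_c_rc_21_2 lc_c_rc_21_2 lc_c_rc_25_2 lc_c_rc_24_2 lc_c_rc_21_2 lc_c_rc_20_2 lc_c_rc_21_2 lc_c_rc_23_2 lc_c_rc_23_2 lc_c_rc_21_2 lc_c_rc_24_2 lc_c_rc_21_2 lc_c_rc_25_2 lc_c_rc_20_2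 lc_c_rc_21_2 lc_c_rc_21_2 lc_c_rc_25_2 lc_c_rc_24_2 lc_c_rc_20_2 lc_c_rc_21_2 lc_c_rc_21_2 lc_c_rc_24_2 lc_c_rc_21_2 lc_c_rc_25_2 lc_c_rc_20_2 lc_c_rc_21_2 lc_c_rc_21_2 lc_c_rc_25_2 lc_c_rc_24_2 lc_c_rc_23_2 lc_c_rc_21_2 lc_c_rc_21_2 lc_c_Cert_tree lc_c_rc_25_2 lc_c_rc_23_2 lc_c_rc_21_2 lc_c_rc_20_2 lc_c_rc_22_2 lc_c_rc_11_5 lc_c_rc_22_2 lc_c_rc_2_1 lc_c_rc_21_2) (@D3.rec (fun _ => (Cert rels S Gen.c)) lc_c_rc_25_2 lc_c_rc_23_2 lc_c_rc_21_2 lc_c_rc_20_2 lc_c_rc_22_2 lc_c_rc_23_2 lc_c_rc_21_2 lc_c_rc_21_2 lc_c_rc_20_2 lc_c_rc_25_2 lc_c_rc_20_2 lc_c_rc_21_2 lc_c_rc_23_2 lc_c_rc_2_1 lc_c_rc_21_2 lc_c_rc_25_2 lc_c_rc_23_2 lc_c_rc_21_2 lc_c_rc_22_2 lc_c_Cert_tree lc_c_rc_22_2 lc_c_rc_20_2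 lc_c_rc_22_2 lc_c_rc_23_2 lc_c_rc_21_2 lc_c_rc_21_2 lc_c_Cert_tree lc_c_rc_25_2 lc_c_rc_23_2 lc_c_rc_23_2 lc_c_rc_21_2 lc_c_Cert_tree lc_c_rc_19_0 lc_c_rc_23_2 lc_c_Cert_tree lc_c_Cert_tree lc_c_rc_19_0 lc_c_rc_11_3 lc_c_Cert_tree lc_c_rc_11_3 lc_c_rc_11_3 lc_c_rc_2_1 lc_c_rc_2_1 lc_c_rc_23_2 lc_c_rc_21_2 lc_c_rc_23_2 lc_c_rc_20_2 lc_c_rc_20_2 lc_c_rc_22_2 lc_c_rc_26_2 lc_c_rc_23_2) (@D3.rec (fun _ => (Cert rels S Gen.c)) lc_c_rc_21_2 lc_c_rc_24_2 lc_c_rc_21_2 lc_c_rc_25_2 lc_c_rc_20_2 lc_c_rc_21_2 lc_c_rc_21_2 lc_c_rc_25_2 lc_c_rc_24_2 lc_c_rc_20_2 lc_c_rc_21_2 lc_c_rc_20_2 lc_c_rc_21_2 lc_c_rc_25_2 lc_c_rc_21_2 lc_c_rc_20_2 lc_c_rc_22_2 lc_c_rc_21_2 lc_c_rc_21_2 lc_c_Cert_tree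 lc_c_rc_25_2 lc_c_rc_20_2 lc_c_rc_21_2 lc_c_rc_23_2 lc_c_rc_19_0 lc_c_rc_22_2 lc_c_rc_20_2 lc_c_rc_21_2 lc_c_rc_23_2 lc_c_rc_24_2 lc_c_rc_20_2 lc_c_rc_21_2 lc_c_rc_23_2 lc_c_rc_20_2 lc_c_rc_22_2 lc_c_rc_23_2 lc_c_rc_21_2 lc_c_Cert_tree lc_c_rc_20_2 lc_c_rc_21_2 lc_c_rc_23_2 lc_c_rc_19_0 lc_c_rc_22_2 lc_c_rc_22_2 lc_c_Cert_tree lc_c_rc_26_2 lc_c_rc_19_0 lc_c_rc_26_2 lc_c_rc_23_2 lc_c_rc_24_2 lc_c_rc_11_3) (@D3.rec (fun _ => (Cert rels S Gen.c)) lc_c_rc_11_3 lc_c_rc_22_2 lc_c_rc_25_2 lc_c_rc_23_2 lc_c_rc_22_2 lc_c_rc_21_2 lc_c_rc_23_2 lc_c_rc_22_2 lc_c_rc_21_2 lc_c_rc_21_2 lc_c_rc_20_2 lc_c_rc_22_2 lc_c_rc_20_2 lc_c_rc_20_2 lc_c_rc_25_2 lc_c_rc_21_2 lc_c_rc_20_2 lc_c_rc_20_2 lc_c_Cert_tree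 lc_c_rc_24_2 lc_c_rc_25_2 lc_c_rc_11_1 lc_c_rc_23_2 lc_c_rc_21_2 lc_c_rc_21_2 lc_c_rc_25_2 lc_c_rc_23_2 lc_c_rc_21_2 lc_c_rc_20_2 lc_c_rc_19_0 lc_c_rc_24_2 lc_c_rc_11_3 lc_c_rc_11_3 lc_c_rc_21_2 lc_c_Cert_tree lc_c_rc_19_0 lc_c_rc_21_2 lc_c_rc_11_3 lc_c_rc_21_2 lc_c_rc_23_2 lc_c_rc_2_1 lc_c_rc_11_3 lc_c_rc_20_2 lc_c_rc_23_2 lc_c_rc_24_2 lc_c_rc_11_3 lc_c_rc_21_2 lc_c_rc_23_2 lc_c_rc_2_1 lc_c_rc_11_3 lc_c_rc_20_2) (@D3.rec (fun _ => (Cert rels S Gen.c)) lc_c_rc_23_2 lc_c_rc_24_2 lc_c_rc_2_1 lc_c_rc_22_2 lc_c_rc_11_3 lc_c_rc_20_2 lc_c_rc_11_3 lc_c_rc_24_2 lc_c_rc_25_2 lc_c_rc_2_1 lc_c_Cert_tree lc_c_rc_11_3 lc_c_rc_20_2 lc_c_rc_20_2 lc_c_rc_24_2 lc_c_rc_25_2 lc_c_Cert_tree lc_c_rc_2_1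 lc_c_rc_19_0 lc_c_rc_23_2 lc_c_rc_22_2 lc_c_rc_11_3 lc_c_rc_21_2 lc_c_rc_20_2 lc_c_rc_20_2 lc_c_rc_20_2 lc_c_rc_25_2 lc_c_rc_19_0 lc_c_rc_23_2 lc_c_rc_22_2 lc_c_rc_2_1 lc_c_rc_23_2 lc_c_rc_22_2 lc_c_rc_21_2 lc_c_rc_24_2 lc_c_rc_23_2 lc_c_rc_26_2 lc_c_rc_11_3 lc_c_rc_21_2 lc_c_rc_21_2 lc_c_rc_20_2 lc_c_rc_20_2 lc_c_rc_20_2 lc_c_rc_11_3 lc_c_rc_21_2 lc_c_rc_23_2 lc_c_rc_2_1 lc_c_rc_11_3 lc_c_rc_20_2 lc_c_rc_23_2 lc_c_rc_24_2) (@D3.rec (fun _ => (Cert rels S Gen.c)) lc_c_rc_11_3 lc_c_rc_20_2 lc_c_rc_23_2 lc_c_rc_24_2 lc_c_rc_2_1 lc_c_Cert_tree lc_c_rc_11_3 lc_c_rc_20_2 lc_c_rc_22_2 lc_c_rc_24_2 lc_c_rc_25_2 lc_c_Cert_tree lc_c_rc_11_3 lc_c_rc_20_2 lc_c_rc_22_2 lc_c_rc_24_2 lc_c_rc_25_2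 lc_c_rc_56_44 lc_c_rc_2_1 lc_c_rc_19_0 lc_c_rc_23_2 lc_c_rc_2_1 lc_c_rc_11_3 lc_c_rc_20_2 lc_c_rc_20_2 lc_c_rc_22_2 lc_c_rc_26_2 lc_c_rc_25_2 lc_c_Cert_tree lc_c_rc_11_3 lc_c_rc_20_2 lc_c_rc_22_2 lc_c_rc_24_2 lc_c_rc_25_2 lc_c_Cert_tree lc_c_rc_2_1 lc_c_rc_19_0 lc_c_rc_23_2 lc_c_rc_22_2 lc_c_rc_11_3 lc_c_rc_21_2 lc_c_rc_20_2 lc_c_rc_22_2 lc_c_rc_26_2 lc_c_rc_25_2 lc_c_rc_19_0 lc_c_rc_23_2 lc_c_rc_22_2 lc_c_rc_11_3 lc_c_rc_21_2 lc_c_rc_20_2) (@D3.rec (fun _ => (Cert rels S Gen.c)) lc_c_rc_22_2 lc_c_rc_26_2 lc_c_rc_25_2 lc_c_rc_19_0 lc_c_rc_23_2 lc_c_rc_22_2 lc_c_rc_2_1 lc_c_rc_23_2 lc_c_rc_22_2 lc_c_rc_21_2 lc_c_rc_24_2 lc_c_rc_23_2 lc_c_rc_26_2 lc_c_rc_11_3 lc_c_rc_21_2 lc_c_rc_22_2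 lc_c_rc_20_2 lc_c_rc_22_2 lc_c_rc_26_2 lc_c_rc_23_2 lc_c_rc_22_2 lc_c_rc_21_2 lc_c_rc_24_2 lc_c_rc_23_2 lc_c_rc_26_2 lc_c_rc_11_3 lc_c_rc_21_2 lc_c_rc_22_2 lc_c_rc_20_2 lc_c_rc_22_2 lc_c_rc_26_2 lc_c_rc_2_1 lc_c_rc_23_2 lc_c_rc_22_2 lc_c_rc_21_2 lc_c_rc_24_2 lc_c_rc_23_2 lc_c_rc_26_2 lc_c_rc_2_1 lc_c_rc_21_2 lc_c_rc_24_2 lc_c_rc_23_2 lc_c_rc_20_2 lc_c_rc_26_2 lc_c_rc_21_2 lc_c_rc_21_2 lc_c_rc_25_2 lc_c_rc_24_2 lc_c_rc_26_2 lc_c_rc_23_2 lc_c_rc_21_2) (@D3.rec (fun _ => (Cert rels S Gen.c)) lc_c_rc_22_2 lc_c_Cert_tree lc_c_rc_26_2 lc_c_rc_22_2 lc_c_rc_26_2 lc_c_rc_2_1 lc_c_Cert_tree lc_c_rc_23_2 lc_c_rc_20_2 lc_c_rc_20_4 lc_c_rc_24_2 lc_c_rc_25_2 lc_c_Cert_tree lc_c_rc_2_1 lc_c_rc_19_0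 lc_c_rc_23_2 lc_c_rc_22_2 lc_c_rc_24_2 lc_c_rc_21_2 lc_c_rc_20_2 lc_c_rc_22_2 lc_c_rc_26_2 lc_c_rc_25_2 lc_c_rc_19_0 lc_c_rc_23_2 lc_c_rc_22_2 lc_c_rc_2_1 lc_c_rc_23_2 lc_c_rc_22_2 lc_c_rc_21_2 lc_c_rc_24_2 lc_c_rc_23_2 lc_c_rc_26_2 lc_c_rc_25_2 lc_c_rc_21_2 lc_c_rc_22_2 lc_c_rc_20_2 lc_c_rc_22_2 lc_c_rc_26_2 lc_c_Cert_tree lc_c_rc_2_1 lc_c_rc_19_0 lc_c_rc_23_2 lc_c_rc_22_2 lc_c_rc_24_2 lc_c_rc_21_2 lc_c_rc_20_2 lc_c_rc_20_4 lc_c_rc_20_4 lc_c_rc_25_2 lc_c_rc_19_0)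
def ce_c_4 : D2 → D3 → (Cert rels S Gen.c) := @D2.rec (fun _ => D3 → (Cert rels S Gen.c)) (@D3.rec (fun _ => (Cert rels S Gen.c)) lc_c_rc_23_2 lc_c_rc_22_2 lc_c_rc_2_1 lc_c_rc_23_2 lc_c_rc_22_2 lc_c_rc_21_2 lc_c_rc_24_2 lc_c_rc_23_2 lc_c_rc_26_2 lc_c_rc_25_2 lc_c_rc_21_2 lc_c_rc_22_2 lc_c_rc_20_2 lc_c_rc_22_2 lc_c_rc_26_2 lc_c_rc_11_3 lc_c_rc_23_2 lc_c_rc_22_2 lc_c_rc_21_2 lc_c_rc_24_2 lc_c_rc_23_2 lc_c_rc_26_2 lc_c_rc_2_1 lc_c_rc_21_2 lc_c_rc_24_2 lc_c_rc_23_2 lc_c_rc_20_2 lc_c_rc_26_2 lc_c_rc_21_2 lc_c_rc_21_2 lc_c_rc_25_2 lc_c_rc_24_2 lc_c_rc_26_2 lc_c_rc_23_2 lc_c_rc_21_2 lc_c_rc_22_2 lc_c_Cert_tree lc_c_rc_26_2 lc_c_rc_22_2 lc_c_rc_26_2 lc_c_rc_19_0 lc_c_rc_23_2 lc_c_rc_22_2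 lc_c_rc_2_1 lc_c_rc_23_2 lc_c_rc_22_2 lc_c_rc_21_2 lc_c_rc_24_2 lc_c_rc_23_2 lc_c_rc_26_2 lc_c_rc_25_2) (@D3.rec (fun _ => (Cert rels S Gen.c)) lc_c_rc_21_2 lc_c_rc_21_2 lc_c_rc_20_2 lc_c_rc_20_4 lc_c_rc_20_4 lc_c_rc_11_3 lc_c_rc_23_2 lc_c_rc_22_2 lc_c_rc_21_2 lc_c_rc_24_2 lc_c_rc_23_2 lc_c_rc_26_2 lc_c_rc_2_1 lc_c_rc_21_2 lc_c_rc_24_2 lc_c_rc_23_2 lc_c_rc_20_2 lc_c_rc_26_2 lc_c_rc_21_2 lc_c_rc_21_2 lc_c_rc_25_2 lc_c_rc_24_2 lc_c_rc_26_2 lc_c_rc_23_2 lc_c_rc_21_2 lc_c_rc_22_2 lc_c_Cert_tree lc_c_rc_26_2 lc_c_rc_22_2 lc_c_rc_26_2 lc_c_rc_11_3 lc_c_rc_11_3 lc_c_rc_21_2 lc_c_rc_24_2 lc_c_rc_23_2 lc_c_rc_20_2 lc_c_rc_26_2 lc_c_rc_21_2 lc_c_rc_21_2 lc_c_rc_25_2 lc_c_rc_24_2 lc_c_rc_26_2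 lc_c_rc_20_2 lc_c_rc_21_2 lc_c_rc_21_2 lc_c_rc_25_2 lc_c_rc_24_2 lc_c_rc_20_2 lc_c_rc_26_2 lc_c_rc_20_2 lc_c_rc_20_2) (@D3.rec (fun _ => (Cert rels S Gen.c)) lc_c_rc_23_2 lc_c_rc_21_2 lc_c_rc_21_2 lc_c_Cert_tree lc_c_rc_21_2 lc_c_rc_25_2 lc_c_rc_26_2 lc_c_rc_23_2 lc_c_rc_23_2 lc_c_rc_22_2 lc_c_Cert_tree lc_c_rc_26_2 lc_c_rc_19_0 lc_c_rc_26_2 lc_c_rc_26_2 lc_c_rc_11_3 lc_c_rc_21_2 lc_c_rc_20_2 lc_c_rc_2_1 lc_c_rc_22_2 lc_c_rc_22_2 lc_c_rc_23_2 lc_c_rc_21_2 lc_c_rc_24_2 lc_c_Cert_tree lc_c_rc_25_2 lc_c_rc_22_2 lc_c_rc_22_2 lc_c_rc_20_2 lc_c_rc_21_2 lc_c_rc_25_2 lc_c_rc_23_2 lc_c_rc_21_2 lc_c_rc_22_2 lc_c_Cert_tree lc_c_rc_22_2 lc_c_rc_23_2 lc_c_rc_23_2 lc_c_rc_22_2 lc_c_Cert_tree lc_c_rc_24_2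 lc_c_rc_19_0 lc_c_rc_26_2 lc_c_rc_25_2 lc_c_rc_2_1 lc_c_rc_21_2 lc_c_rc_25_2 lc_c_rc_23_2 lc_c_rc_21_2 lc_c_rc_20_0 lc_c_Cert_tree) (@D3.rec (fun _ => (Cert rels S Gen.c)) lc_c_rc_21_0 lc_c_rc_20_2 lc_c_rc_22_2 lc_c_rc_23_2 lc_c_rc_21_2 lc_c_rc_21_2 lc_c_Cert_tree lc_c_rc_25_2 lc_c_rc_23_2 lc_c_rc_23_2 lc_c_rc_21_2 lc_c_Cert_tree lc_c_rc_20_0 lc_c_rc_19_0 lc_c_rc_26_2 lc_c_rc_21_0 lc_c_rc_24_2 lc_c_rc_23_2 lc_c_Cert_tree lc_c_rc_24_2 lc_c_Cert_tree lc_c_rc_25_2 lc_c_rc_19_0 lc_c_rc_26_2 lc_c_rc_11_3 lc_c_rc_26_2 lc_c_rc_22_2 lc_c_rc_2_3 lc_c_rc_19_0 lc_c_rc_20_4 lc_c_rc_21_2 lc_c_rc_2_3 lc_c_rc_11_3 lc_c_rc_20_2 lc_c_rc_23_2 lc_c_rc_24_2 lc_c_rc_2_1 lc_c_Cert_tree lc_c_rc_11_3 lc_c_rc_20_2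 lc_c_rc_22_2 lc_c_rc_24_2 lc_c_rc_21_2 lc_c_rc_56_16 lc_c_rc_26_2 lc_c_rc_23_2 lc_c_rc_22_2 lc_c_Cert_tree lc_c_rc_11_3 lc_c_rc_20_2 lc_c_rc_22_2) (@D3.rec (fun _ => (Cert rels S Gen.c)) lc_c_rc_24_2 lc_c_rc_56_44 lc_c_rc_56_44 lc_c_rc_2_1 lc_c_rc_19_0 lc_c_rc_23_2 lc_c_rc_21_0 lc_c_rc_11_3 lc_c_rc_20_2 lc_c_rc_20_2 lc_c_rc_22_2 lc_c_rc_26_2 lc_c_rc_25_2 lc_c_rc_20_2 lc_c_rc_23_2 lc_c_rc_20_4 lc_c_rc_56_44 lc_c_rc_2_3 lc_c_rc_24_2 lc_c_rc_22_2 lc_c_rc_19_0 lc_c_rc_23_2 lc_c_rc_22_2 lc_c_rc_11_3 lc_c_rc_20_2 lc_c_rc_20_2 lc_c_rc_22_2 lc_c_rc_26_2 lc_c_rc_25_2 lc_c_rc_56_23 lc_c_rc_2_1 lc_c_rc_23_2 lc_c_rc_21_2 lc_c_rc_24_2 lc_c_rc_21_0 lc_c_rc_26_2 lc_c_rc_11_3 lc_c_rc_20_2 lc_c_rc_22_2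 lc_c_rc_20_2 lc_c_rc_22_2 lc_c_rc_26_2 lc_c_rc_20_2 lc_c_rc_20_2 lc_c_rc_24_2 lc_c_rc_23_2 lc_c_rc_19_0 lc_c_rc_23_2 lc_c_rc_22_2 lc_c_rc_11_3 lc_c_rc_21_2) (@D3.rec (fun _ => (Cert rels S Gen.c)) lc_c_rc_20_2 lc_c_rc_22_2 lc_c_rc_26_2 lc_c_rc_25_2 lc_c_rc_19_0 lc_c_rc_23_2 lc_c_rc_22_2 lc_c_rc_2_1 lc_c_rc_23_2 lc_c_rc_22_2 lc_c_rc_21_2 lc_c_rc_24_2 lc_c_rc_23_2 lc_c_rc_26_2 lc_c_rc_11_3 lc_c_rc_21_2 lc_c_rc_22_2 lc_c_rc_20_2 lc_c_rc_22_2 lc_c_rc_26_2 lc_c_rc_21_2 lc_c_rc_20_2 lc_c_rc_20_2 lc_c_rc_20_2 lc_c_rc_25_2 lc_c_rc_23_2 lc_c_rc_22_2 lc_c_rc_21_2 lc_c_rc_24_2 lc_c_rc_23_2 lc_c_rc_26_2 lc_c_rc_11_3 lc_c_rc_21_2 lc_c_rc_22_2 lc_c_rc_20_2 lc_c_rc_22_2 lc_c_rc_26_2 lc_c_rc_2_1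 lc_c_rc_23_2 lc_c_rc_22_2 lc_c_rc_21_2 lc_c_rc_24_2 lc_c_rc_23_2 lc_c_rc_26_2 lc_c_rc_2_1 lc_c_rc_21_2 lc_c_rc_24_2 lc_c_rc_23_2 lc_c_rc_20_2 lc_c_rc_26_2 lc_c_rc_21_2) (@D3.rec (fun _ => (Cert rels S Gen.c)) lc_c_rc_21_2 lc_c_rc_25_2 lc_c_rc_24_2 lc_c_rc_26_2 lc_c_rc_23_2 lc_c_rc_21_2 lc_c_rc_22_2 lc_c_Cert_tree lc_c_rc_26_2 lc_c_rc_22_2 lc_c_rc_26_2 lc_c_rc_21_2 lc_c_rc_21_2 lc_c_rc_20_2 lc_c_rc_20_2 lc_c_rc_20_2 lc_c_rc_21_2 lc_c_rc_24_2 lc_c_rc_23_2 lc_c_rc_26_2 lc_c_rc_21_2 lc_c_rc_21_2 lc_c_rc_25_2 lc_c_rc_24_2 lc_c_rc_26_2 lc_c_rc_23_2 lc_c_rc_21_2 lc_c_rc_22_2 lc_c_Cert_tree lc_c_rc_26_2 lc_c_rc_22_2 lc_c_rc_26_2 lc_c_rc_2_1 lc_c_rc_11_3 lc_c_rc_21_2 lc_c_rc_24_2 lc_c_rc_23_2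 lc_c_rc_2_1 lc_c_rc_26_2 lc_c_rc_21_2 lc_c_rc_21_2 lc_c_rc_25_2 lc_c_rc_24_2 lc_c_rc_26_2 lc_c_rc_20_2 lc_c_rc_21_2 lc_c_rc_21_2 lc_c_rc_25_2 lc_c_rc_24_2 lc_c_rc_20_2 lc_c_rc_26_2) (@D3.rec (fun _ => (Cert rels S Gen.c)) lc_c_rc_21_2 lc_c_rc_20_2 lc_c_rc_23_2 lc_c_rc_21_2 lc_c_rc_21_2 lc_c_Cert_tree lc_c_rc_21_2 lc_c_rc_25_2 lc_c_rc_26_2 lc_c_rc_23_2 lc_c_rc_23_2 lc_c_rc_22_2 lc_c_Cert_tree lc_c_rc_26_2 lc_c_rc_19_0 lc_c_rc_26_2 lc_c_rc_26_2 lc_c_rc_19_0 lc_c_rc_23_2 lc_c_rc_22_2 lc_c_rc_2_1 lc_c_rc_23_2 lc_c_rc_22_2 lc_c_rc_21_2 lc_c_rc_24_2 lc_c_rc_23_2 lc_c_rc_26_2 lc_c_rc_11_3 lc_c_rc_21_2 lc_c_rc_22_2 lc_c_rc_20_2 lc_c_rc_22_2 lc_c_rc_26_2 lc_c_rc_11_3 lc_c_rc_23_2 lc_c_rc_22_2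 lc_c_rc_21_2 lc_c_rc_24_2 lc_c_rc_23_2 lc_c_rc_26_2 lc_c_rc_2_1 lc_c_rc_21_2 lc_c_rc_24_2 lc_c_rc_23_2 lc_c_rc_20_2 lc_c_rc_26_2 lc_c_rc_21_2 lc_c_rc_21_2 lc_c_rc_25_2 lc_c_rc_24_2 lc_c_rc_26_2) (@D3.rec (fun _ => (Cert rels S Gen.c)) lc_c_rc_23_2 lc_c_rc_21_2 lc_c_rc_22_2 lc_c_Cert_tree lc_c_rc_26_2 lc_c_rc_22_2 lc_c_rc_26_2 lc_c_rc_11_3 lc_c_rc_23_2 lc_c_rc_22_2 lc_c_rc_21_2 lc_c_rc_24_2 lc_c_rc_23_2 lc_c_rc_26_2 lc_c_rc_2_1 lc_c_rc_21_2 lc_c_rc_24_2 lc_c_rc_23_2 lc_c_rc_20_2 lc_c_rc_26_2 lc_c_rc_21_2 lc_c_rc_21_2 lc_c_rc_25_2 lc_c_rc_24_2 lc_c_rc_26_2 lc_c_rc_23_2 lc_c_rc_21_2 lc_c_rc_22_2 lc_c_Cert_tree lc_c_rc_26_2 lc_c_rc_22_2 lc_c_rc_26_2 lc_c_rc_11_3 lc_c_rc_21_2 lc_c_rc_24_2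 lc_c_rc_23_2 lc_c_rc_26_2 lc_c_rc_21_2 lc_c_rc_21_2 lc_c_rc_25_2 lc_c_rc_24_2 lc_c_rc_26_2 lc_c_rc_20_2 lc_c_rc_21_2 lc_c_rc_21_2 lc_c_rc_25_2 lc_c_rc_24_2 lc_c_rc_20_2 lc_c_rc_26_2 lc_c_rc_21_2 lc_c_rc_20_2) (@D3.rec (fun _ => (Cert rels S Gen.c)) lc_c_rc_23_2 lc_c_rc_21_2 lc_c_rc_21_2 lc_c_Cert_tree lc_c_rc_21_2 lc_c_rc_25_2 lc_c_rc_26_2 lc_c_rc_23_2 lc_c_rc_23_2 lc_c_rc_22_2 lc_c_Cert_tree lc_c_rc_26_2 lc_c_rc_19_0 lc_c_rc_26_2 lc_c_rc_26_2 lc_c_rc_11_3 lc_c_rc_21_2 lc_c_rc_24_2 lc_c_rc_23_2 lc_c_rc_26_2 lc_c_rc_21_2 lc_c_rc_21_2 lc_c_rc_25_2 lc_c_rc_24_2 lc_c_rc_26_2 lc_c_rc_20_2 lc_c_rc_21_2 lc_c_rc_21_2 lc_c_rc_25_2 lc_c_rc_24_2 lc_c_rc_20_2 lc_c_rc_26_2 lc_c_rc_20_2 lc_c_rc_23_2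 lc_c_rc_21_2 lc_c_rc_21_2 lc_c_Cert_tree lc_c_rc_21_2 lc_c_rc_25_2 lc_c_rc_26_2 lc_c_rc_23_2 lc_c_rc_23_2 lc_c_rc_22_2 lc_c_Cert_tree lc_c_rc_26_2 lc_c_rc_19_0 lc_c_rc_26_2 lc_c_rc_26_2 lc_c_rc_11_3 lc_c_rc_11_3 lc_c_rc_2_1) (@D3.rec (fun _ => (Cert rels S Gen.c)) lc_c_rc_21_2 lc_c_rc_21_2 lc_c_rc_25_2 lc_c_rc_24_2 lc_c_rc_26_2 lc_c_rc_23_2 lc_c_rc_21_2 lc_c_rc_21_2 lc_c_Cert_tree lc_c_rc_21_2 lc_c_rc_25_2 lc_c_rc_26_2 lc_c_rc_20_2 lc_c_rc_22_2 lc_c_rc_23_2 lc_c_rc_21_2 lc_c_rc_21_2 lc_c_Cert_tree lc_c_rc_21_2 lc_c_rc_25_2 lc_c_rc_20_2 lc_c_rc_26_2 lc_c_rc_21_2 lc_c_rc_20_2 lc_c_rc_23_2 lc_c_rc_21_2 lc_c_rc_23_2 lc_c_rc_23_2 lc_c_rc_21_2 lc_c_Cert_tree lc_c_rc_21_2 lc_c_rc_19_0 lc_c_rc_26_2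 lc_c_rc_26_2 lc_c_rc_24_2 lc_c_rc_23_2 lc_c_Cert_tree lc_c_rc_26_2 lc_c_Cert_tree lc_c_rc_26_2 lc_c_rc_19_0 lc_c_rc_26_2 lc_c_rc_11_3 lc_c_rc_26_2 lc_c_rc_22_2 lc_c_rc_22_2 lc_c_rc_22_2 lc_c_rc_20_2 lc_c_rc_22_2 lc_c_rc_23_2 lc_c_rc_21_2) (@D3.rec (fun _ => (Cert rels S Gen.c)) lc_c_rc_23_2 lc_c_rc_22_2 lc_c_rc_22_2 lc_c_Cert_tree lc_c_rc_19_0 lc_c_rc_24_2 lc_c_rc_23_2 lc_c_Cert_tree lc_c_rc_23_2 lc_c_Cert_tree lc_c_rc_22_2 lc_c_rc_19_0 lc_c_rc_26_2 lc_c_rc_11_3 lc_c_rc_26_2 lc_c_rc_22_2 lc_c_rc_2_1 lc_c_rc_2_1 lc_c_rc_23_2 lc_c_rc_21_2 lc_c_rc_23_2 lc_c_rc_20_0 lc_c_rc_20_0 lc_c_Cert_tree lc_c_rc_19_0 lc_c_rc_20_2 lc_c_rc_20_2 lc_c_rc_22_2 lc_c_Cert_tree lc_c_rc_26_2 lc_c_rc_23_2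 lc_c_rc_23_2 lc_c_rc_21_2 lc_c_Cert_tree lc_c_rc_19_0 lc_c_rc_24_2 lc_c_rc_23_2 lc_c_Cert_tree lc_c_rc_20_0 lc_c_Cert_tree lc_c_rc_20_0 lc_c_rc_19_0 lc_c_rc_26_2 lc_c_rc_11_3 lc_c_rc_26_2 lc_c_rc_22_2 lc_c_rc_24_2 lc_c_Cert_tree lc_c_rc_23_2 lc_c_rc_19_0 lc_c_rc_25_2) (@D3.rec (fun _ => (Cert rels S Gen.c)) lc_c_rc_23_2 lc_c_rc_19_0 lc_c_rc_56_37 lc_c_rc_11_3 lc_c_rc_26_2 lc_c_rc_22_2 lc_c_rc_2_1 lc_c_rc_11_3 lc_c_rc_22_2 lc_c_rc_21_2 lc_c_rc_24_2 lc_c_rc_23_2 lc_c_rc_26_2 lc_c_rc_21_2 lc_c_rc_21_2 lc_c_rc_56_44 lc_c_rc_24_2 lc_c_rc_26_2 lc_c_rc_20_2 lc_c_rc_21_2 lc_c_rc_21_2 lc_c_rc_25_2 lc_c_rc_24_2 lc_c_rc_20_2 lc_c_rc_26_2 lc_c_rc_21_2 lc_c_rc_20_2 lc_c_rc_2_1 lc_c_rc_21_2 lc_c_rc_21_2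 lc_c_Cert_tree lc_c_rc_21_2 lc_c_rc_25_2 lc_c_rc_26_2 lc_c_rc_23_2 lc_c_rc_23_2 lc_c_rc_21_2 lc_c_Cert_tree lc_c_rc_21_2 lc_c_rc_19_0 lc_c_rc_26_2 lc_c_rc_20_0 lc_c_rc_20_2 lc_c_rc_21_2 lc_c_rc_21_2 lc_c_rc_25_2 lc_c_rc_24_2 lc_c_rc_26_2 lc_c_rc_23_2 lc_c_rc_21_2 lc_c_rc_21_2) (@D3.rec (fun _ => (Cert rels S Gen.c)) lc_c_Cert_tree lc_c_rc_21_2 lc_c_rc_25_2 lc_c_rc_26_2 lc_c_rc_20_2 lc_c_rc_22_2 lc_c_rc_23_2 lc_c_rc_21_2 lc_c_rc_21_2 lc_c_Cert_tree lc_c_rc_21_2 lc_c_rc_25_2 lc_c_rc_20_2 lc_c_rc_26_2 lc_c_rc_21_2 lc_c_rc_20_2 lc_c_rc_23_2 lc_c_rc_21_2 lc_c_rc_22_0 lc_c_rc_23_2 lc_c_rc_21_2 lc_c_Cert_tree lc_c_rc_21_2 lc_c_rc_19_0 lc_c_rc_26_2 lc_c_rc_26_2 lc_c_rc_21_2 lc_c_rc_22_2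 lc_c_Cert_tree lc_c_rc_23_2 lc_c_Cert_tree lc_c_rc_21_2 lc_c_rc_19_0 lc_c_rc_26_2 lc_c_rc_11_3 lc_c_rc_26_2 lc_c_rc_22_2 lc_c_rc_23_2 lc_c_rc_21_2 lc_c_rc_21_2 lc_c_Cert_tree lc_c_rc_21_2 lc_c_rc_25_2 lc_c_rc_26_2 lc_c_rc_22_0 lc_c_rc_23_2 lc_c_rc_21_2 lc_c_Cert_tree lc_c_rc_21_2 lc_c_rc_19_0 lc_c_rc_26_2) (@D3.rec (fun _ => (Cert rels S Gen.c)) lc_c_rc_26_2 lc_c_rc_23_2 lc_c_rc_23_2 lc_c_rc_21_2 lc_c_Cert_tree lc_c_rc_21_2 lc_c_rc_19_0 lc_c_rc_21_2 lc_c_rc_26_2 lc_c_rc_20_2 lc_c_rc_26_2 lc_c_rc_21_2 lc_c_rc_20_2 lc_c_rc_23_2 lc_c_rc_21_2 lc_c_rc_24_2 lc_c_rc_23_2 lc_c_rc_24_2 lc_c_rc_23_2 lc_c_Cert_tree lc_c_rc_23_2 lc_c_Cert_tree lc_c_rc_21_2 lc_c_rc_19_0 lc_c_rc_26_2 lc_c_rc_11_3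 lc_c_rc_26_2 lc_c_rc_22_2 lc_c_rc_22_2 lc_c_rc_56_44 lc_c_rc_23_2 lc_c_rc_19_0 lc_c_rc_56_58 lc_c_rc_26_2 lc_c_rc_19_0 lc_c_rc_56_58 lc_c_rc_11_3 lc_c_rc_26_2 lc_c_rc_11_5 lc_c_rc_2_1 lc_c_rc_11_3 lc_c_rc_22_2 lc_c_rc_2_1 lc_c_rc_2_1 lc_c_Cert_tree lc_c_rc_2_1 lc_c_Cert_tree lc_c_rc_2_1 lc_c_rc_19_0 lc_c_rc_26_2 lc_c_rc_11_3) (@D3.rec (fun _ => (Cert rels S Gen.c)) lc_c_rc_26_2 lc_c_rc_22_2 lc_c_Cert_tree lc_c_rc_19_0 lc_c_rc_21_2 lc_c_rc_26_2 lc_c_rc_19_0 lc_c_rc_21_2 lc_c_rc_11_3 lc_c_rc_26_2 lc_c_rc_22_2 lc_c_rc_2_1 lc_c_rc_11_3 lc_c_rc_22_2 lc_c_rc_2_1 lc_c_rc_2_1 lc_c_rc_11_3 lc_c_rc_22_2 lc_c_rc_21_2 lc_c_rc_21_2 lc_c_rc_20_2 lc_c_rc_22_2 lc_c_rc_26_2 lc_c_rc_11_3 lc_c_rc_19_0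 lc_c_rc_20_2 lc_c_rc_22_2 lc_c_rc_19_0 lc_c_rc_11_3 lc_c_rc_11_3 lc_c_rc_19_0 lc_c_rc_22_2 lc_c_rc_23_2 lc_c_rc_22_2 lc_c_rc_20_2 lc_c_rc_23_2 lc_c_rc_2_1 lc_c_rc_24_2 lc_c_rc_11_3 lc_c_rc_23_2 lc_c_rc_56_23 lc_c_rc_22_2 lc_c_rc_21_2 lc_c_rc_24_2 lc_c_rc_23_2 lc_c_rc_23_2 lc_c_rc_21_2 lc_c_rc_24_2 lc_c_rc_26_2 lc_c_rc_23_2 lc_c_rc_22_2) (@D3.rec (fun _ => (Cert rels S Gen.c)) lc_c_rc_23_2 lc_c_rc_21_2 lc_c_rc_24_2 lc_c_rc_23_2 lc_c_rc_20_2 lc_c_rc_23_2 lc_c_rc_21_2 lc_c_rc_24_2 lc_c_rc_21_2 lc_c_rc_25_2 lc_c_rc_23_2 lc_c_rc_21_2 lc_c_rc_24_2 lc_c_rc_23_2 lc_c_rc_21_2 lc_c_rc_24_2 lc_c_rc_20_2 lc_c_rc_21_2 lc_c_rc_21_2 lc_c_rc_25_2 lc_c_rc_24_2 lc_c_rc_20_2 lc_c_rc_21_2 lc_c_rc_21_2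 lc_c_rc_23_2 lc_c_rc_20_2 lc_c_rc_21_2 lc_c_rc_25_2 lc_c_rc_23_2 lc_c_rc_21_2 lc_c_rc_21_2 lc_c_rc_26_2 lc_c_rc_2_1 lc_c_rc_21_2 lc_c_rc_21_2 lc_c_rc_25_2 lc_c_rc_24_2 lc_c_rc_21_2 lc_c_Cert_tree lc_c_rc_25_2 lc_c_rc_20_2 lc_c_rc_22_2 lc_c_rc_23_2 lc_c_rc_21_2 lc_c_rc_21_2 lc_c_Cert_tree lc_c_rc_25_2 lc_c_rc_20_2 lc_c_rc_21_2 lc_c_rc_23_2 lc_c_rc_21_2) (@D3.rec (fun _ => (Cert rels S Gen.c)) lc_c_rc_19_0 lc_c_rc_26_2 lc_c_rc_26_2 lc_c_rc_23_2 lc_c_rc_21_2 lc_c_rc_24_2 lc_c_rc_2_1 lc_c_rc_21_2 lc_c_rc_24_2 lc_c_rc_23_2 lc_c_rc_21_2 lc_c_rc_24_2 lc_c_rc_20_2 lc_c_rc_20_2 lc_c_rc_21_2 lc_c_rc_21_2 lc_c_rc_24_2 lc_c_rc_21_2 lc_c_rc_25_2 lc_c_rc_20_2 lc_c_rc_21_2 lc_c_rc_21_2 lc_c_rc_25_2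 lc_c_rc_24_2 lc_c_rc_2_1 lc_c_rc_21_2 lc_c_rc_25_2 lc_c_rc_20_2 lc_c_rc_22_2 lc_c_rc_26_0 lc_c_rc_20_2 lc_c_rc_21_2 lc_c_rc_23_2 lc_c_rc_2_1 lc_c_rc_21_2 lc_c_rc_25_2 lc_c_rc_23_2 lc_c_rc_21_2 lc_c_rc_20_2 lc_c_rc_22_2 lc_c_rc_23_2 lc_c_rc_21_2 lc_c_rc_21_2 lc_c_Cert_tree lc_c_rc_25_2 lc_c_Cert_tree lc_c_rc_19_0 lc_c_rc_2_1 lc_c_rc_2_1 lc_c_rc_23_2 lc_c_rc_21_2) (@D3.rec (fun _ => (Cert rels S Gen.c)) lc_c_rc_20_2 lc_c_rc_20_2 lc_c_rc_22_2 lc_c_rc_20_2 lc_c_rc_26_2 lc_c_rc_20_2 lc_c_rc_20_2 lc_c_rc_20_2 lc_c_rc_21_2 lc_c_rc_23_2 lc_c_rc_24_2 lc_c_rc_2_1 lc_c_rc_2_1 lc_c_rc_23_2 lc_c_rc_21_2 lc_c_rc_22_2 lc_c_rc_22_2 lc_c_Cert_tree lc_c_rc_19_0 lc_c_rc_20_2 lc_c_rc_20_2 lc_c_rc_22_2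 lc_c_Cert_tree lc_c_rc_26_2 lc_c_rc_23_2 lc_c_rc_23_2 lc_c_rc_21_2 lc_c_Cert_tree lc_c_rc_19_0 lc_c_rc_19_0 lc_c_rc_11_3 lc_c_rc_19_0 lc_c_rc_19_0 lc_c_rc_22_2 lc_c_rc_19_0 lc_c_rc_24_2 lc_c_rc_22_2 lc_c_rc_11_3 lc_c_rc_11_3 lc_c_rc_2_1 lc_c_rc_2_1 lc_c_rc_2_1 lc_c_rc_2_1 lc_c_rc_23_2 lc_c_rc_21_2 lc_c_rc_11_1 lc_c_rc_22_2 lc_c_rc_22_2 lc_c_rc_26_2 lc_c_rc_20_2 lc_c_rc_21_2) (@D3.rec (fun _ => (Cert rels S Gen.c)) lc_c_rc_25_2 lc_c_rc_20_2 lc_c_rc_22_2 lc_c_rc_20_2 lc_c_rc_2_3 lc_c_rc_21_2 lc_c_rc_23_2 lc_c_rc_20_2 lc_c_rc_22_2 lc_c_rc_21_2 lc_c_rc_20_2 lc_c_rc_22_2 lc_c_Cert_tree lc_c_rc_26_2 lc_c_rc_25_2 lc_c_rc_19_0 lc_c_rc_21_2 lc_c_rc_2_3 lc_c_rc_21_2 lc_c_rc_23_2 lc_c_rc_24_2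 lc_c_rc_21_2 lc_c_rc_23_2 lc_c_rc_24_2 lc_c_rc_25_2 lc_c_rc_20_2 lc_c_rc_22_2 lc_c_rc_23_2 lc_c_rc_20_2 lc_c_rc_22_2 lc_c_Cert_tree lc_c_rc_26_2 lc_c_rc_56_16 lc_c_rc_19_0 lc_c_rc_26_2 lc_c_rc_21_2 lc_c_rc_23_2 lc_c_rc_24_2 lc_c_rc_26_2 lc_c_rc_19_0 lc_c_rc_22_2 lc_c_rc_22_2 lc_c_rc_26_2 lc_c_rc_24_2 lc_c_rc_25_2 lc_c_rc_21_2 lc_c_rc_23_2 lc_c_rc_20_2 lc_c_rc_21_2 lc_c_Cert_tree lc_c_rc_21_2) (@D3.rec (fun _ => (Cert rels S Gen.c)) lc_c_rc_23_2 lc_c_rc_21_2 lc_c_rc_24_2 lc_c_rc_23_2 lc_c_rc_19_0 lc_c_rc_56_9 lc_c_rc_26_2 lc_c_rc_25_2 lc_c_rc_24_2 lc_c_rc_20_2 lc_c_rc_19_0 lc_c_rc_55_19 lc_c_rc_11_3 lc_c_rc_21_2 lc_c_rc_20_4 lc_c_rc_2_1 lc_c_rc_11_3 lc_c_rc_20_2 lc_c_rc_23_2 lc_c_rc_56_23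 lc_c_rc_11_3 lc_c_rc_20_2 lc_c_rc_24_2 lc_c_rc_20_4 lc_c_rc_2_1 lc_c_rc_11_3 lc_c_rc_56_37 lc_c_rc_23_2 lc_c_rc_24_2 lc_c_rc_2_1 lc_c_rc_22_2 lc_c_rc_11_3 lc_c_rc_22_0 lc_c_rc_24_2 lc_c_rc_24_2 lc_c_rc_2_1 lc_c_rc_2_1 lc_c_rc_22_2 lc_c_rc_11_3 lc_c_rc_22_0 lc_c_rc_22_0 lc_c_rc_2_1 lc_c_rc_25_2 lc_c_rc_56_44 lc_c_rc_2_1 lc_c_rc_19_0 lc_c_rc_21_2 lc_c_rc_22_2 lc_c_rc_11_3 lc_c_rc_21_2 lc_c_rc_20_2) (@D3.rec (fun _ => (Cert rels S Gen.c)) lc_c_rc_20_2 lc_c_rc_20_2 lc_c_rc_25_2 lc_c_rc_19_0 lc_c_rc_21_2 lc_c_rc_22_2 lc_c_rc_2_1 lc_c_rc_23_2 lc_c_rc_22_2 lc_c_rc_11_3 lc_c_rc_21_2 lc_c_rc_23_2 lc_c_rc_26_2 lc_c_rc_11_3 lc_c_rc_21_2 lc_c_rc_21_2 lc_c_rc_20_2 lc_c_rc_20_2 lc_c_rc_20_2 lc_c_rc_11_3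 lc_c_rc_23_2 lc_c_rc_22_2 lc_c_rc_24_2 lc_c_rc_22_0 lc_c_rc_23_2 lc_c_rc_26_2 lc_c_rc_2_1 lc_c_rc_21_2 lc_c_rc_24_2 lc_c_rc_23_2 lc_c_rc_20_2 lc_c_rc_26_2 lc_c_rc_22_0 lc_c_rc_21_2 lc_c_rc_23_2 lc_c_rc_24_2 lc_c_rc_26_2 lc_c_rc_23_2 lc_c_rc_21_2 lc_c_rc_21_2 lc_c_Cert_tree lc_c_rc_21_2 lc_c_rc_20_2 lc_c_rc_20_2 lc_c_rc_11_3 lc_c_rc_20_2 lc_c_rc_23_2 lc_c_rc_24_2 lc_c_rc_2_1 lc_c_Cert_tree lc_c_rc_11_3) (@D3.rec (fun _ => (Cert rels S Gen.c)) lc_c_rc_20_2 lc_c_rc_22_2 lc_c_rc_24_2 lc_c_rc_25_2 lc_c_Cert_tree lc_c_rc_11_3 lc_c_rc_20_2 lc_c_rc_22_2 lc_c_rc_24_2 lc_c_rc_25_2 lc_c_rc_21_2 lc_c_rc_2_1 lc_c_rc_19_0 lc_c_rc_23_2 lc_c_rc_2_1 lc_c_rc_11_3 lc_c_rc_20_2 lc_c_rc_20_2 lc_c_rc_22_2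 lc_c_rc_26_2 lc_c_rc_25_2 lc_c_rc_19_0 lc_c_rc_23_2 lc_c_rc_22_2 lc_c_rc_11_3 lc_c_rc_20_2 lc_c_rc_20_2 lc_c_rc_22_2 lc_c_rc_26_2 lc_c_rc_25_2 lc_c_rc_21_0 lc_c_rc_2_1 lc_c_rc_23_2 lc_c_rc_21_2 lc_c_rc_24_2 lc_c_rc_11_3 lc_c_rc_11_3 lc_c_rc_20_2 lc_c_rc_22_2 lc_c_rc_20_2 lc_c_rc_22_2 lc_c_rc_26_2 lc_c_rc_19_0 lc_c_rc_23_2 lc_c_rc_22_2 lc_c_rc_11_3 lc_c_rc_21_2 lc_c_rc_20_2 lc_c_rc_22_2 lc_c_rc_26_2 lc_c_rc_25_2) (@D3.rec (fun _ => (Cert rels S Gen.c)) lc_c_rc_19_0 lc_c_rc_23_2 lc_c_rc_22_2 lc_c_rc_2_1 lc_c_rc_23_2 lc_c_rc_22_2 lc_c_rc_21_2 lc_c_rc_24_2 lc_c_rc_23_2 lc_c_rc_26_2 lc_c_rc_11_3 lc_c_rc_21_2 lc_c_rc_22_2 lc_c_rc_20_2 lc_c_rc_22_2 lc_c_rc_26_2 lc_c_rc_23_2 lc_c_rc_22_2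 lc_c_rc_21_2 lc_c_rc_24_2 lc_c_rc_23_2 lc_c_rc_26_2 lc_c_rc_11_3 lc_c_rc_21_2 lc_c_rc_22_2 lc_c_rc_20_2 lc_c_rc_22_2 lc_c_rc_26_2 lc_c_rc_2_1 lc_c_rc_23_2 lc_c_rc_22_2 lc_c_rc_21_2 lc_c_rc_24_2 lc_c_rc_23_2 lc_c_rc_26_2 lc_c_rc_2_1 lc_c_rc_21_2 lc_c_rc_24_2 lc_c_rc_23_2 lc_c_rc_20_2 lc_c_rc_26_2 lc_c_rc_21_2 lc_c_rc_21_2 lc_c_rc_25_2 lc_c_rc_24_2 lc_c_rc_26_2 lc_c_rc_23_2 lc_c_rc_21_2 lc_c_rc_22_2 lc_c_Cert_tree lc_c_rc_26_2) (@D3.rec (fun _ => (Cert rels S Gen.c)) lc_c_rc_22_2 lc_c_rc_26_2 lc_c_rc_21_2 lc_c_rc_24_2 lc_c_rc_23_2 lc_c_rc_20_2 lc_c_rc_26_2 lc_c_rc_21_2 lc_c_rc_21_2 lc_c_rc_25_2 lc_c_rc_24_2 lc_c_rc_26_2 lc_c_rc_23_2 lc_c_rc_21_2 lc_c_rc_22_2 lc_c_Cert_tree lc_c_rc_26_2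 lc_c_rc_22_2 lc_c_rc_26_2 lc_c_rc_2_1 lc_c_rc_2_1 lc_c_rc_21_2 lc_c_rc_24_2 lc_c_rc_23_2 lc_c_rc_2_1 lc_c_rc_26_2 lc_c_rc_21_2 lc_c_rc_21_2 lc_c_rc_25_2 lc_c_rc_24_2 lc_c_rc_26_2 lc_c_rc_20_2 lc_c_rc_21_2 lc_c_rc_21_2 lc_c_rc_25_2 lc_c_rc_24_2 lc_c_rc_20_2 lc_c_rc_26_2 lc_c_rc_21_2 lc_c_rc_20_2 lc_c_rc_23_2 lc_c_rc_21_2 lc_c_rc_21_2 lc_c_Cert_tree lc_c_rc_21_2 lc_c_rc_25_2 lc_c_rc_26_2 lc_c_rc_23_2 lc_c_rc_23_2 lc_c_rc_22_2 lc_c_Cert_tree) (@D3.rec (fun _ => (Cert rels S Gen.c)) lc_c_rc_26_2 lc_c_rc_19_0 lc_c_rc_26_2 lc_c_rc_26_2 lc_c_Cert_tree lc_c_rc_2_1 lc_c_rc_19_0 lc_c_rc_23_2 lc_c_rc_22_2 lc_c_rc_24_2 lc_c_rc_21_2 lc_c_rc_20_2 lc_c_rc_20_4 lc_c_rc_20_4 lc_c_rc_25_2 lc_c_rc_19_0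 lc_c_rc_23_2 lc_c_rc_22_2 lc_c_rc_2_1 lc_c_rc_23_2 lc_c_rc_22_2 lc_c_rc_21_2 lc_c_rc_24_2 lc_c_rc_23_2 lc_c_rc_26_2 lc_c_rc_25_2 lc_c_rc_21_2 lc_c_rc_22_2 lc_c_rc_20_2 lc_c_rc_22_2 lc_c_rc_26_2 lc_c_rc_11_3 lc_c_rc_23_2 lc_c_rc_22_2 lc_c_rc_21_2 lc_c_rc_24_2 lc_c_rc_23_2 lc_c_rc_26_2 lc_c_rc_2_1 lc_c_rc_21_2 lc_c_rc_24_2 lc_c_rc_23_2 lc_c_rc_20_2 lc_c_rc_26_2 lc_c_rc_21_2 lc_c_rc_21_2 lc_c_rc_25_2 lc_c_rc_24_2 lc_c_rc_26_2 lc_c_rc_23_2 lc_c_rc_21_2) (@D3.rec (fun _ => (Cert rels S Gen.c)) lc_c_rc_22_2 lc_c_Cert_tree lc_c_rc_26_2 lc_c_rc_22_2 lc_c_rc_26_2 lc_c_rc_19_0 lc_c_rc_23_2 lc_c_rc_22_2 lc_c_rc_2_1 lc_c_rc_23_2 lc_c_rc_22_2 lc_c_rc_21_2 lc_c_rc_24_2 lc_c_rc_23_2 lc_c_rc_26_2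 lc_c_rc_25_2 lc_c_rc_21_2 lc_c_rc_21_2 lc_c_rc_20_2 lc_c_rc_20_4 lc_c_rc_20_4 lc_c_rc_11_3 lc_c_rc_23_2 lc_c_rc_22_2 lc_c_rc_21_2 lc_c_rc_24_2 lc_c_rc_23_2 lc_c_rc_26_2 lc_c_rc_2_1 lc_c_rc_21_2 lc_c_rc_24_2 lc_c_rc_23_2 lc_c_rc_20_2 lc_c_rc_26_2 lc_c_rc_21_2 lc_c_rc_21_2 lc_c_rc_25_2 lc_c_rc_24_2 lc_c_rc_26_2 lc_c_rc_23_2 lc_c_rc_21_2 lc_c_rc_22_2 lc_c_Cert_tree lc_c_rc_26_2 lc_c_rc_22_2 lc_c_rc_26_2 lc_c_rc_11_3 lc_c_rc_11_3 lc_c_rc_21_2 lc_c_rc_24_2 lc_c_rc_23_2)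
def ce_c_5 : D2 → D3 → (Cert rels S Gen.c) := @D2.rec (fun _ => D3 → (Cert rels S Gen.c)) (@D3.rec (fun _ => (Cert rels S Gen.c)) lc_c_rc_20_2 lc_c_rc_26_2 lc_c_rc_21_2 lc_c_rc_21_2 lc_c_rc_25_2 lc_c_rc_24_2 lc_c_rc_26_2 lc_c_rc_20_2 lc_c_rc_21_2 lc_c_rc_21_2 lc_c_rc_25_2 lc_c_rc_24_2 lc_c_rc_20_2 lc_c_rc_26_2 lc_c_rc_20_2 lc_c_rc_20_2 lc_c_rc_23_2 lc_c_rc_21_2 lc_c_rc_21_2 lc_c_Cert_tree lc_c_rc_21_2 lc_c_rc_25_2 lc_c_rc_26_2 lc_c_rc_23_2 lc_c_rc_23_2 lc_c_rc_22_2 lc_c_Cert_tree lc_c_rc_26_2 lc_c_rc_19_0 lc_c_rc_26_2 lc_c_rc_26_2 lc_c_rc_11_3 lc_c_rc_23_2 lc_c_rc_22_2 lc_c_rc_24_2 lc_c_rc_23_2 lc_c_rc_26_2 lc_c_rc_2_1 lc_c_rc_21_2 lc_c_rc_24_2 lc_c_rc_23_2 lc_c_rc_20_2 lc_c_rc_26_2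 lc_c_rc_21_2 lc_c_rc_21_2 lc_c_rc_25_2 lc_c_rc_24_2 lc_c_rc_26_2 lc_c_rc_23_2 lc_c_rc_21_2 lc_c_rc_21_2) (@D3.rec (fun _ => (Cert rels S Gen.c)) lc_c_Cert_tree lc_c_rc_21_2 lc_c_rc_20_4 lc_c_rc_20_4 lc_c_rc_11_3 lc_c_rc_11_3 lc_c_rc_21_2 lc_c_rc_24_2 lc_c_rc_23_2 lc_c_rc_2_1 lc_c_rc_26_2 lc_c_rc_21_2 lc_c_rc_21_2 lc_c_rc_25_2 lc_c_rc_24_2 lc_c_rc_26_2 lc_c_rc_20_2 lc_c_rc_21_2 lc_c_rc_21_2 lc_c_rc_25_2 lc_c_rc_24_2 lc_c_rc_20_2 lc_c_rc_26_2 lc_c_rc_21_2 lc_c_rc_20_2 lc_c_rc_23_2 lc_c_rc_21_2 lc_c_rc_21_2 lc_c_Cert_tree lc_c_rc_21_2 lc_c_rc_25_2 lc_c_rc_26_2 lc_c_rc_23_2 lc_c_rc_23_2 lc_c_rc_22_2 lc_c_Cert_tree lc_c_rc_26_2 lc_c_rc_19_0 lc_c_rc_26_2 lc_c_rc_26_2 lc_c_rc_11_3 lc_c_rc_11_3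 lc_c_rc_11_3 lc_c_rc_11_3 lc_c_rc_2_1 lc_c_rc_21_2 lc_c_rc_21_2 lc_c_rc_25_2 lc_c_rc_24_2 lc_c_rc_20_2 lc_c_rc_26_2) (@D3.rec (fun _ => (Cert rels S Gen.c)) lc_c_rc_20_2 lc_c_rc_23_2 lc_c_rc_21_2 lc_c_rc_21_2 lc_c_Cert_tree lc_c_rc_21_2 lc_c_rc_25_2 lc_c_rc_26_2 lc_c_rc_20_2 lc_c_rc_22_2 lc_c_rc_23_2 lc_c_rc_21_2 lc_c_rc_21_2 lc_c_Cert_tree lc_c_rc_21_2 lc_c_rc_25_2 lc_c_rc_20_2 lc_c_rc_26_2 lc_c_rc_21_2 lc_c_rc_20_2 lc_c_rc_20_2 lc_c_rc_20_2 lc_c_rc_22_2 lc_c_rc_23_2 lc_c_rc_23_2 lc_c_rc_21_2 lc_c_Cert_tree lc_c_rc_21_2 lc_c_rc_19_0 lc_c_rc_26_2 lc_c_rc_26_2 lc_c_rc_24_2 lc_c_rc_23_2 lc_c_Cert_tree lc_c_rc_26_2 lc_c_Cert_tree lc_c_rc_26_2 lc_c_rc_19_0 lc_c_rc_26_2 lc_c_rc_11_3 lc_c_rc_26_2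 lc_c_rc_22_2 lc_c_rc_23_2 lc_c_rc_21_2 lc_c_rc_22_2 lc_c_rc_22_2 lc_c_rc_22_0 lc_c_rc_26_2 lc_c_rc_25_2 lc_c_Cert_tree lc_c_rc_19_0) (@D3.rec (fun _ => (Cert rels S Gen.c)) lc_c_rc_22_2 lc_c_rc_22_2 lc_c_rc_20_2 lc_c_rc_22_2 lc_c_rc_23_2 lc_c_rc_21_2 lc_c_rc_23_2 lc_c_rc_22_2 lc_c_rc_22_2 lc_c_Cert_tree lc_c_rc_19_0 lc_c_rc_24_2 lc_c_rc_23_2 lc_c_Cert_tree lc_c_rc_24_2 lc_c_Cert_tree lc_c_rc_25_2 lc_c_rc_19_0 lc_c_rc_26_2 lc_c_rc_11_3 lc_c_rc_26_2 lc_c_rc_22_2 lc_c_rc_2_1 lc_c_rc_2_1 lc_c_rc_23_2 lc_c_rc_21_2 lc_c_rc_23_2 lc_c_rc_20_0 lc_c_rc_20_0 lc_c_Cert_tree lc_c_rc_19_0 lc_c_rc_20_2 lc_c_rc_20_2 lc_c_rc_22_2 lc_c_Cert_tree lc_c_rc_26_2 lc_c_rc_23_2 lc_c_rc_23_2 lc_c_rc_21_2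 lc_c_Cert_tree lc_c_rc_19_0 lc_c_rc_24_2 lc_c_rc_23_2 lc_c_Cert_tree lc_c_rc_20_0 lc_c_Cert_tree lc_c_rc_20_0 lc_c_rc_19_0 lc_c_rc_26_2 lc_c_rc_11_3 lc_c_rc_26_2) (@D3.rec (fun _ => (Cert rels S Gen.c)) lc_c_rc_22_2 lc_c_rc_24_2 lc_c_Cert_tree lc_c_rc_25_2 lc_c_rc_19_0 lc_c_rc_21_2 lc_c_rc_26_2 lc_c_rc_19_0 lc_c_rc_26_2 lc_c_rc_11_3 lc_c_rc_26_2 lc_c_rc_22_2 lc_c_rc_2_1 lc_c_rc_11_3 lc_c_rc_22_2 lc_c_Cert_tree lc_c_rc_11_3 lc_c_rc_24_2 lc_c_rc_26_0 lc_c_rc_19_0 lc_c_rc_55_37 lc_c_rc_24_2 lc_c_rc_21_2 lc_c_rc_22_2 lc_c_rc_19_0 lc_c_rc_23_2 lc_c_rc_22_2 lc_c_rc_11_3 lc_c_rc_20_2 lc_c_rc_26_2 lc_c_rc_56_23 lc_c_rc_2_1 lc_c_rc_23_2 lc_c_rc_21_2 lc_c_rc_20_2 lc_c_rc_21_0 lc_c_rc_26_2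 lc_c_rc_20_2 lc_c_rc_22_2 lc_c_rc_22_2 lc_c_rc_26_2 lc_c_rc_26_2 lc_c_rc_23_2 lc_c_rc_22_2 lc_c_rc_21_2 lc_c_rc_24_2 lc_c_rc_23_2 lc_c_rc_22_2 lc_c_rc_11_3 lc_c_rc_20_2 lc_c_rc_22_2) (@D3.rec (fun _ => (Cert rels S Gen.c)) lc_c_rc_26_2 lc_c_rc_56_23 lc_c_rc_24_2 lc_c_rc_24_2 lc_c_rc_21_2 lc_c_rc_24_2 lc_c_rc_21_2 lc_c_rc_2_1 lc_c_rc_25_2 lc_c_rc_24_2 lc_c_rc_26_2 lc_c_rc_20_2 lc_c_rc_20_2 lc_c_rc_22_2 lc_c_Cert_tree lc_c_rc_26_2 lc_c_rc_22_2 lc_c_rc_26_2 lc_c_rc_20_2 lc_c_rc_20_2 lc_c_rc_23_2 lc_c_rc_22_2 lc_c_rc_21_2 lc_c_rc_24_2 lc_c_rc_23_2 lc_c_rc_26_2 lc_c_rc_55_10 lc_c_rc_21_2 lc_c_rc_22_2 lc_c_rc_20_2 lc_c_rc_22_2 lc_c_rc_26_2 lc_c_rc_2_1 lc_c_rc_23_2 lc_c_rc_22_2 lc_c_rc_21_2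 lc_c_rc_24_2 lc_c_rc_23_2 lc_c_rc_26_2 lc_c_rc_2_1 lc_c_rc_21_2 lc_c_rc_24_2 lc_c_rc_23_2 lc_c_rc_20_2 lc_c_rc_26_2 lc_c_rc_21_2 lc_c_rc_21_2 lc_c_rc_26_0 lc_c_rc_24_2 lc_c_rc_26_2 lc_c_rc_23_2) (@D3.rec (fun _ => (Cert rels S Gen.c)) lc_c_rc_21_2 lc_c_rc_22_2 lc_c_Cert_tree lc_c_rc_26_2 lc_c_rc_22_2 lc_c_rc_26_2 lc_c_rc_21_2 lc_c_rc_20_2 lc_c_rc_20_2 lc_c_rc_21_2 lc_c_rc_24_2 lc_c_rc_23_2 lc_c_rc_26_2 lc_c_rc_21_2 lc_c_rc_21_2 lc_c_rc_25_2 lc_c_rc_24_2 lc_c_rc_26_2 lc_c_rc_23_2 lc_c_rc_21_2 lc_c_rc_22_2 lc_c_rc_22_2 lc_c_rc_26_2 lc_c_rc_22_2 lc_c_rc_26_2 lc_c_rc_2_1 lc_c_rc_11_3 lc_c_rc_21_2 lc_c_rc_24_2 lc_c_rc_23_2 lc_c_rc_2_1 lc_c_rc_26_2 lc_c_rc_21_2 lc_c_rc_21_2 lc_c_rc_25_2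 lc_c_rc_24_2 lc_c_rc_26_2 lc_c_rc_20_2 lc_c_rc_21_2 lc_c_rc_21_2 lc_c_rc_25_2 lc_c_rc_24_2 lc_c_rc_20_2 lc_c_rc_26_2 lc_c_rc_21_2 lc_c_rc_20_2 lc_c_rc_23_2 lc_c_rc_21_2 lc_c_rc_21_2 lc_c_Cert_tree lc_c_rc_21_2) (@D3.rec (fun _ => (Cert rels S Gen.c)) lc_c_rc_25_2 lc_c_rc_26_2 lc_c_rc_23_2 lc_c_rc_23_2 lc_c_rc_22_2 lc_c_Cert_tree lc_c_rc_26_2 lc_c_rc_19_0 lc_c_rc_26_2 lc_c_rc_26_2 lc_c_rc_21_2 lc_c_Cert_tree lc_c_rc_21_2 lc_c_rc_20_2 lc_c_rc_20_2 lc_c_rc_20_2 lc_c_rc_21_2 lc_c_rc_21_2 lc_c_rc_25_2 lc_c_rc_24_2 lc_c_rc_26_2 lc_c_rc_23_2 lc_c_rc_21_2 lc_c_rc_21_2 lc_c_Cert_tree lc_c_rc_21_2 lc_c_rc_25_2 lc_c_rc_26_2 lc_c_rc_23_2 lc_c_rc_23_2 lc_c_rc_22_2 lc_c_Cert_tree lc_c_rc_26_2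 lc_c_rc_19_0 lc_c_rc_26_2 lc_c_rc_26_2 lc_c_rc_2_1 lc_c_rc_2_1 lc_c_rc_11_3 lc_c_rc_11_3 lc_c_rc_2_1 lc_c_rc_21_2 lc_c_rc_21_2 lc_c_rc_25_2 lc_c_rc_24_2 lc_c_rc_2_1 lc_c_rc_26_2 lc_c_rc_2_1 lc_c_rc_23_2 lc_c_rc_21_2 lc_c_rc_21_2) (@D3.rec (fun _ => (Cert rels S Gen.c)) lc_c_Cert_tree lc_c_rc_21_2 lc_c_rc_25_2 lc_c_rc_26_2 lc_c_rc_20_2 lc_c_rc_22_2 lc_c_rc_23_2 lc_c_rc_21_2 lc_c_rc_21_2 lc_c_Cert_tree lc_c_rc_21_2 lc_c_rc_25_2 lc_c_rc_20_2 lc_c_rc_26_2 lc_c_rc_21_2 lc_c_rc_20_2 lc_c_rc_23_2 lc_c_rc_21_2 lc_c_rc_23_2 lc_c_rc_23_2 lc_c_rc_21_2 lc_c_Cert_tree lc_c_rc_21_2 lc_c_rc_19_0 lc_c_rc_26_2 lc_c_rc_26_2 lc_c_rc_24_2 lc_c_rc_23_2 lc_c_Cert_tree lc_c_rc_26_2 lc_c_Cert_tree lc_c_rc_26_2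 lc_c_rc_19_0 lc_c_rc_26_2 lc_c_rc_11_3 lc_c_rc_26_2 lc_c_rc_22_2 lc_c_rc_11_3 lc_c_rc_23_2 lc_c_rc_22_2 lc_c_rc_21_2 lc_c_rc_24_2 lc_c_rc_23_2 lc_c_rc_26_2 lc_c_rc_2_1 lc_c_rc_21_2 lc_c_rc_24_2 lc_c_rc_23_2 lc_c_rc_20_2 lc_c_rc_26_2 lc_c_rc_21_2) (@D3.rec (fun _ => (Cert rels S Gen.c)) lc_c_rc_21_2 lc_c_rc_25_2 lc_c_rc_24_2 lc_c_rc_26_2 lc_c_rc_2_3 lc_c_rc_56_16 lc_c_rc_11_5 lc_c_rc_20_4 lc_c_rc_26_2 lc_c_rc_2_3 lc_c_rc_26_2 lc_c_rc_11_3 lc_c_rc_21_2 lc_c_rc_24_2 lc_c_rc_23_2 lc_c_rc_26_2 lc_c_rc_21_2 lc_c_rc_21_2 lc_c_rc_25_2 lc_c_rc_24_2 lc_c_rc_26_2 lc_c_rc_20_2 lc_c_rc_21_2 lc_c_rc_21_2 lc_c_rc_25_2 lc_c_rc_24_2 lc_c_rc_20_2 lc_c_rc_26_2 lc_c_rc_21_2 lc_c_rc_20_2 lc_c_rc_23_2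 lc_c_rc_21_2 lc_c_rc_21_2 lc_c_Cert_tree lc_c_rc_21_2 lc_c_rc_25_2 lc_c_rc_26_2 lc_c_rc_55_19 lc_c_rc_23_2 lc_c_rc_22_2 lc_c_Cert_tree lc_c_rc_26_2 lc_c_rc_19_0 lc_c_rc_26_2 lc_c_rc_26_2 lc_c_rc_11_3 lc_c_rc_21_2 lc_c_rc_24_2 lc_c_rc_23_2 lc_c_rc_26_2 lc_c_rc_21_2) (@D3.rec (fun _ => (Cert rels S Gen.c)) lc_c_rc_21_2 lc_c_rc_25_2 lc_c_rc_24_2 lc_c_rc_26_2 lc_c_rc_20_2 lc_c_rc_21_2 lc_c_rc_21_2 lc_c_rc_25_2 lc_c_rc_24_2 lc_c_rc_20_2 lc_c_rc_26_2 lc_c_rc_20_2 lc_c_rc_23_2 lc_c_rc_21_2 lc_c_rc_21_2 lc_c_Cert_tree lc_c_rc_21_2 lc_c_rc_25_2 lc_c_rc_26_2 lc_c_rc_23_2 lc_c_rc_23_2 lc_c_rc_21_2 lc_c_rc_20_4 lc_c_rc_26_2 lc_c_rc_19_0 lc_c_rc_26_2 lc_c_rc_26_2 lc_c_rc_11_3 lc_c_rc_11_3 lc_c_rc_2_1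 lc_c_rc_21_2 lc_c_rc_21_2 lc_c_rc_25_2 lc_c_rc_24_2 lc_c_rc_26_2 lc_c_rc_23_2 lc_c_rc_21_2 lc_c_rc_21_2 lc_c_Cert_tree lc_c_rc_21_2 lc_c_rc_25_2 lc_c_rc_26_2 lc_c_rc_20_2 lc_c_rc_22_2 lc_c_rc_23_2 lc_c_rc_21_2 lc_c_rc_21_2 lc_c_Cert_tree lc_c_rc_21_2 lc_c_rc_25_2 lc_c_rc_20_2) (@D3.rec (fun _ => (Cert rels S Gen.c)) lc_c_rc_26_2 lc_c_rc_21_2 lc_c_rc_20_2 lc_c_rc_23_2 lc_c_rc_21_2 lc_c_rc_23_2 lc_c_rc_23_2 lc_c_rc_21_2 lc_c_Cert_tree lc_c_rc_21_2 lc_c_rc_19_0 lc_c_rc_26_2 lc_c_rc_26_2 lc_c_rc_24_2 lc_c_rc_23_2 lc_c_Cert_tree lc_c_rc_26_2 lc_c_Cert_tree lc_c_rc_26_2 lc_c_rc_19_0 lc_c_rc_26_2 lc_c_rc_11_3 lc_c_rc_26_2 lc_c_rc_22_2 lc_c_rc_11_3 lc_c_rc_11_3 lc_c_rc_21_2 lc_c_rc_21_2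 lc_c_rc_25_2 lc_c_rc_24_2 lc_c_rc_26_2 lc_c_rc_23_2 lc_c_rc_21_2 lc_c_rc_21_2 lc_c_rc_21_2 lc_c_rc_25_2 lc_c_rc_26_2 lc_c_rc_20_2 lc_c_rc_22_2 lc_c_rc_23_2 lc_c_rc_21_2 lc_c_rc_21_2 lc_c_Cert_tree lc_c_rc_21_2 lc_c_rc_25_2 lc_c_rc_20_2 lc_c_rc_26_2 lc_c_rc_21_2 lc_c_rc_20_2 lc_c_rc_23_2 lc_c_rc_23_2) (@D3.rec (fun _ => (Cert rels S Gen.c)) lc_c_rc_21_2 lc_c_Cert_tree lc_c_rc_21_2 lc_c_rc_19_0 lc_c_rc_26_2 lc_c_rc_26_2 lc_c_rc_24_2 lc_c_rc_23_2 lc_c_Cert_tree lc_c_rc_26_2 lc_c_Cert_tree lc_c_rc_26_2 lc_c_rc_19_0 lc_c_rc_26_2 lc_c_rc_11_3 lc_c_rc_26_2 lc_c_rc_22_2 lc_c_rc_26_2 lc_c_rc_11_3 lc_c_rc_11_3 lc_c_rc_2_1 lc_c_rc_2_1 lc_c_rc_23_2 lc_c_rc_21_2 lc_c_rc_21_2 lc_c_Cert_tree lc_c_rc_21_2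 lc_c_rc_25_2 lc_c_rc_26_2 lc_c_rc_23_2 lc_c_rc_23_2 lc_c_rc_21_2 lc_c_Cert_tree lc_c_rc_21_2 lc_c_rc_19_0 lc_c_rc_26_2 lc_c_rc_26_2 lc_c_rc_20_2 lc_c_rc_20_2 lc_c_rc_22_2 lc_c_Cert_tree lc_c_rc_26_2 lc_c_rc_23_2 lc_c_rc_23_2 lc_c_rc_21_2 lc_c_Cert_tree lc_c_rc_21_2 lc_c_rc_19_0 lc_c_rc_21_2 lc_c_rc_26_2 lc_c_rc_20_2) (@D3.rec (fun _ => (Cert rels S Gen.c)) lc_c_rc_26_2 lc_c_rc_21_2 lc_c_rc_20_2 lc_c_rc_23_2 lc_c_rc_21_2 lc_c_rc_24_2 lc_c_rc_23_2 lc_c_rc_24_2 lc_c_rc_23_2 lc_c_Cert_tree lc_c_rc_23_2 lc_c_Cert_tree lc_c_rc_21_2 lc_c_rc_19_0 lc_c_rc_26_2 lc_c_rc_11_3 lc_c_rc_26_2 lc_c_rc_22_2 lc_c_rc_24_2 lc_c_Cert_tree lc_c_rc_26_2 lc_c_rc_19_0 lc_c_rc_21_2 lc_c_rc_26_2 lc_c_rc_19_0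 lc_c_rc_26_2 lc_c_rc_11_3 lc_c_rc_26_2 lc_c_rc_22_2 lc_c_rc_2_1 lc_c_rc_11_3 lc_c_rc_22_2 lc_c_rc_22_2 lc_c_rc_20_2 lc_c_rc_20_2 lc_c_rc_22_2 lc_c_rc_26_2 lc_c_rc_23_2 lc_c_rc_24_2 lc_c_rc_22_2 lc_c_Cert_tree lc_c_Cert_tree lc_c_rc_19_0 lc_c_rc_11_3 lc_c_rc_24_2 lc_c_Cert_tree lc_c_rc_23_2 lc_c_rc_19_0 lc_c_rc_21_2 lc_c_rc_26_2 lc_c_rc_19_0) (@D3.rec (fun _ => (Cert rels S Gen.c)) lc_c_rc_26_2 lc_c_rc_11_3 lc_c_rc_26_2 lc_c_rc_22_2 lc_c_rc_2_1 lc_c_rc_26_2 lc_c_rc_22_2 lc_c_rc_2_1 lc_c_rc_2_1 lc_c_rc_2_1 lc_c_rc_2_1 lc_c_rc_23_2 lc_c_rc_24_2 lc_c_rc_20_0 lc_c_Cert_tree lc_c_Cert_tree lc_c_rc_19_0 lc_c_rc_11_3 lc_c_rc_21_2 lc_c_rc_20_2 lc_c_rc_22_2 lc_c_rc_22_2 lc_c_Cert_tree lc_c_rc_26_2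 lc_c_rc_19_0 lc_c_rc_26_2 lc_c_rc_24_2 lc_c_rc_23_2 lc_c_Cert_tree lc_c_Cert_tree lc_c_rc_19_0 lc_c_rc_11_3 lc_c_rc_24_2 lc_c_Cert_tree lc_c_rc_20_0 lc_c_rc_19_0 lc_c_rc_21_2 lc_c_rc_26_2 lc_c_rc_19_0 lc_c_rc_26_2 lc_c_rc_11_3 lc_c_rc_26_2 lc_c_rc_22_2 lc_c_rc_2_1 lc_c_rc_11_3 lc_c_rc_22_2 lc_c_rc_2_3 lc_c_rc_24_2 lc_c_rc_19_0 lc_c_rc_23_0 lc_c_rc_25_0) (@D3.rec (fun _ => (Cert rels S Gen.c)) lc_c_rc_11_3 lc_c_rc_56_16 lc_c_rc_11_3 lc_c_rc_2_1 lc_c_rc_2_1 lc_c_rc_11_3 lc_c_rc_22_2 lc_c_rc_2_1 lc_c_rc_11_3 lc_c_rc_20_2 lc_c_rc_21_2 lc_c_rc_24_2 lc_c_rc_26_2 lc_c_rc_20_0 lc_c_Cert_tree lc_c_rc_21_2 lc_c_rc_22_2 lc_c_rc_26_2 lc_c_rc_21_2 lc_c_Cert_tree lc_c_rc_21_2 lc_c_rc_25_2 lc_c_rc_20_2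 lc_c_rc_26_2 lc_c_rc_21_2 lc_c_rc_20_2 lc_c_rc_23_2 lc_c_rc_21_2 lc_c_rc_2_1 lc_c_rc_22_2 lc_c_Cert_tree lc_c_rc_21_2 lc_c_rc_19_0 lc_c_rc_26_2 lc_c_rc_26_2 lc_c_rc_23_2 lc_c_Cert_tree lc_c_rc_23_2 lc_c_Cert_tree lc_c_rc_21_2 lc_c_rc_19_0 lc_c_rc_26_2 lc_c_rc_11_3 lc_c_rc_26_2 lc_c_rc_22_2 lc_c_rc_21_2 lc_c_Cert_tree lc_c_rc_21_2 lc_c_rc_25_2 lc_c_rc_26_2 lc_c_rc_23_2) (@D3.rec (fun _ => (Cert rels S Gen.c)) lc_c_rc_20_0 lc_c_Cert_tree lc_c_rc_21_2 lc_c_rc_19_0 lc_c_rc_26_2 lc_c_rc_26_2 lc_c_Cert_tree lc_c_rc_26_2 lc_c_rc_23_2 lc_c_rc_21_2 lc_c_Cert_tree lc_c_rc_21_2 lc_c_rc_19_0 lc_c_rc_21_2 lc_c_rc_26_2 lc_c_rc_20_2 lc_c_rc_26_2 lc_c_rc_21_2 lc_c_rc_20_2 lc_c_rc_23_2 lc_c_rc_21_2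 lc_c_rc_24_2 lc_c_rc_23_2 lc_c_rc_21_2 lc_c_Cert_tree lc_c_rc_23_2 lc_c_Cert_tree lc_c_rc_21_2 lc_c_rc_19_0 lc_c_rc_26_2 lc_c_rc_11_3 lc_c_rc_26_2 lc_c_rc_22_2 lc_c_rc_22_2 lc_c_Cert_tree lc_c_rc_23_2 lc_c_rc_19_0 lc_c_rc_21_2 lc_c_rc_26_2 lc_c_rc_19_0 lc_c_rc_26_2 lc_c_rc_11_3 lc_c_rc_26_2 lc_c_rc_22_2 lc_c_rc_2_1 lc_c_rc_11_3 lc_c_rc_22_2 lc_c_rc_23_2 lc_c_rc_21_2 lc_c_Cert_tree lc_c_rc_21_2) (@D3.rec (fun _ => (Cert rels S Gen.c)) lc_c_rc_19_0 lc_c_rc_26_2 lc_c_rc_26_2 lc_c_rc_2_3 lc_c_Cert_tree lc_c_rc_23_2 lc_c_Cert_tree lc_c_rc_21_2 lc_c_rc_19_0 lc_c_rc_26_2 lc_c_rc_11_3 lc_c_rc_26_2 lc_c_rc_22_2 lc_c_rc_23_2 lc_c_Cert_tree lc_c_rc_23_2 lc_c_Cert_tree lc_c_rc_21_2 lc_c_rc_19_0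 lc_c_rc_21_2 lc_c_rc_26_2 lc_c_rc_20_2 lc_c_rc_21_2 lc_c_rc_26_2 lc_c_rc_23_2 lc_c_rc_26_2 lc_c_rc_22_2 lc_c_rc_21_2 lc_c_rc_20_2 lc_c_rc_23_2 lc_c_rc_21_2 lc_c_rc_24_2 lc_c_rc_23_2 lc_c_rc_25_2 lc_c_rc_24_2 lc_c_rc_24_2 lc_c_Cert_tree lc_c_rc_23_2 lc_c_rc_19_0 lc_c_rc_21_2 lc_c_rc_26_2 lc_c_rc_19_0 lc_c_rc_26_2 lc_c_rc_11_3 lc_c_rc_26_2 lc_c_rc_22_2 lc_c_rc_2_1 lc_c_rc_11_3 lc_c_rc_22_2 lc_c_rc_24_2 lc_c_rc_11_1) (@D3.rec (fun _ => (Cert rels S Gen.c)) lc_c_rc_11_3 lc_c_rc_26_2 lc_c_rc_55_46 lc_c_rc_2_1 lc_c_rc_11_3 lc_c_rc_2_1 lc_c_rc_11_3 lc_c_rc_2_1 lc_c_rc_11_3 lc_c_Cert_tree lc_c_rc_19_0 lc_c_rc_21_2 lc_c_rc_26_2 lc_c_rc_19_0 lc_c_rc_26_2 lc_c_rc_11_3 lc_c_rc_26_2 lc_c_rc_22_2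 lc_c_rc_22_0 lc_c_rc_11_3 lc_c_rc_22_2 lc_c_rc_19_0 lc_c_rc_21_0 lc_c_rc_21_2 lc_c_rc_26_2 lc_c_rc_2_1 lc_c_rc_22_2 lc_c_rc_2_1 lc_c_rc_11_3 lc_c_rc_20_2 lc_c_rc_2_1 lc_c_Cert_tree lc_c_rc_20_2 lc_c_rc_21_2 lc_c_rc_24_2 lc_c_rc_23_2 lc_c_rc_23_2 lc_c_rc_56_44 lc_c_rc_20_2 lc_c_rc_21_2 lc_c_rc_55_82 lc_c_rc_21_2 lc_c_rc_25_2 lc_c_rc_21_2 lc_c_rc_23_0 lc_c_rc_24_0 lc_c_rc_21_2 lc_c_rc_24_2 lc_c_rc_2_1 lc_c_rc_11_3 lc_c_rc_20_2) (@D3.rec (fun _ => (Cert rels S Gen.c)) lc_c_rc_21_2 lc_c_rc_23_2 lc_c_rc_20_2 lc_c_rc_22_2 lc_c_rc_23_2 lc_c_rc_21_2 lc_c_Cert_tree lc_c_rc_21_2 lc_c_rc_19_0 lc_c_rc_2_1 lc_c_rc_2_1 lc_c_rc_21_2 lc_c_rc_21_0 lc_c_rc_25_2 lc_c_rc_19_0 lc_c_rc_20_2 lc_c_rc_20_2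 lc_c_rc_22_2 lc_c_Cert_tree lc_c_rc_26_2 lc_c_rc_56_37 lc_c_rc_19_0 lc_c_rc_23_0 lc_c_rc_20_2 lc_c_rc_21_2 lc_c_rc_23_2 lc_c_rc_24_2 lc_c_rc_26_2 lc_c_rc_21_2 lc_c_rc_24_2 lc_c_rc_20_2 lc_c_rc_2_1 lc_c_rc_22_2 lc_c_rc_21_2 lc_c_rc_23_2 lc_c_rc_2_1 lc_c_rc_21_2 lc_c_rc_25_2 lc_c_rc_20_2 lc_c_rc_22_2 lc_c_rc_11_3 lc_c_rc_2_1 lc_c_rc_2_1 lc_c_rc_22_2 lc_c_rc_56_44 lc_c_rc_26_2 lc_c_rc_11_1 lc_c_rc_21_2 lc_c_rc_23_2 lc_c_rc_24_2 lc_c_rc_2_1) (@D3.rec (fun _ => (Cert rels S Gen.c)) lc_c_rc_2_1 lc_c_rc_23_2 lc_c_rc_21_2 lc_c_rc_20_2 lc_c_rc_20_2 lc_c_rc_22_2 lc_c_Cert_tree lc_c_rc_26_2 lc_c_Cert_tree lc_c_rc_19_0 lc_c_rc_19_0 lc_c_rc_2_1 lc_c_rc_2_1 lc_c_rc_2_1 lc_c_rc_2_1 lc_c_rc_21_2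 lc_c_rc_22_2 lc_c_rc_22_2 lc_c_rc_20_2 lc_c_rc_26_2 lc_c_rc_21_2 lc_c_rc_20_2 lc_c_rc_20_2 lc_c_rc_20_2 lc_c_rc_21_2 lc_c_rc_23_2 lc_c_rc_24_2 lc_c_rc_25_2 lc_c_rc_2_1 lc_c_rc_2_1 lc_c_rc_2_1 lc_c_rc_2_1 lc_c_rc_19_0 lc_c_rc_21_2 lc_c_rc_20_2 lc_c_rc_22_2 lc_c_rc_22_2 lc_c_Cert_tree lc_c_rc_26_2 lc_c_rc_19_0 lc_c_rc_26_2 lc_c_rc_11_1 lc_c_rc_11_1 lc_c_rc_19_0 lc_c_rc_11_3 lc_c_rc_24_2 lc_c_rc_22_2 lc_c_rc_26_2 lc_c_rc_22_0 lc_c_rc_24_2 lc_c_rc_26_2) (@D3.rec (fun _ => (Cert rels S Gen.c)) lc_c_rc_2_1 lc_c_rc_2_1 lc_c_rc_2_1 lc_c_rc_2_1 lc_c_rc_2_1 lc_c_rc_2_1 lc_c_rc_2_3 lc_c_rc_22_2 lc_c_rc_22_2 lc_c_rc_26_2 lc_c_rc_26_2 lc_c_rc_22_2 lc_c_rc_26_2 lc_c_rc_21_2 lc_c_rc_2_3 lc_c_rc_23_2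 lc_c_rc_24_2 lc_c_rc_26_2 lc_c_rc_25_2 lc_c_rc_26_2 lc_c_rc_19_0 lc_c_rc_21_2 lc_c_rc_22_2 lc_c_rc_21_2 lc_c_rc_21_2 lc_c_rc_26_2 lc_c_rc_20_2 lc_c_rc_23_2 lc_c_rc_24_2 lc_c_rc_25_2 lc_c_rc_23_2 lc_c_rc_24_2 lc_c_rc_25_2 lc_c_rc_26_2 lc_c_rc_2_3 lc_c_rc_26_2 lc_c_rc_19_0 lc_c_rc_22_2 lc_c_rc_22_2 lc_c_rc_56_23 lc_c_rc_26_2 lc_c_rc_22_2 lc_c_rc_26_2 lc_c_rc_20_2 lc_c_rc_21_2 lc_c_rc_20_2 lc_c_rc_21_2 lc_c_rc_56_44 lc_c_rc_19_0 lc_c_rc_23_2 lc_c_rc_24_2) (@D3.rec (fun _ => (Cert rels S Gen.c)) lc_c_rc_22_2 lc_c_rc_56_37 lc_c_rc_22_2 lc_c_rc_20_4 lc_c_rc_26_2 lc_c_rc_21_2 lc_c_rc_20_2 lc_c_rc_20_2 lc_c_rc_22_2 lc_c_rc_22_2 lc_c_rc_26_2 lc_c_rc_23_2 lc_c_rc_20_2 lc_c_rc_26_2 lc_c_rc_22_2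 lc_c_rc_20_4 lc_c_rc_26_2 lc_c_rc_21_2 lc_c_rc_55_46 lc_c_rc_21_2 lc_c_rc_20_2 lc_c_rc_20_2 lc_c_rc_11_3 lc_c_rc_23_2 lc_c_rc_2_1 lc_c_rc_26_2 lc_c_rc_24_2 lc_c_rc_21_0 lc_c_rc_26_2 lc_c_rc_21_2 lc_c_rc_24_2 lc_c_rc_20_2 lc_c_rc_26_2 lc_c_rc_21_2 lc_c_rc_20_2 lc_c_rc_2_1 lc_c_Cert_tree lc_c_rc_21_2 lc_c_rc_23_2 lc_c_rc_26_2 lc_c_rc_23_2 lc_c_rc_21_2 lc_c_Cert_tree lc_c_rc_21_2 lc_c_rc_19_0 lc_c_rc_26_2 lc_c_rc_20_2 lc_c_Cert_tree lc_c_rc_11_3 lc_c_rc_20_2 lc_c_rc_22_2) (@D3.rec (fun _ => (Cert rels S Gen.c)) lc_c_rc_24_2 lc_c_rc_2_1 lc_c_rc_24_2 lc_c_rc_19_0 lc_c_rc_23_2 lc_c_rc_24_2 lc_c_rc_19_0 lc_c_rc_23_2 lc_c_rc_22_2 lc_c_rc_11_3 lc_c_rc_20_2 lc_c_rc_20_2 lc_c_rc_22_2 lc_c_rc_26_2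 lc_c_rc_25_2 lc_c_rc_21_0 lc_c_rc_23_2 lc_c_rc_21_2 lc_c_rc_24_2 lc_c_rc_11_3 lc_c_rc_20_2 lc_c_rc_22_2 lc_c_rc_23_2 lc_c_rc_21_2 lc_c_rc_24_2 lc_c_rc_21_0 lc_c_rc_11_3 lc_c_rc_20_2 lc_c_rc_22_2 lc_c_rc_20_2 lc_c_rc_22_2 lc_c_rc_26_2 lc_c_rc_56_23 lc_c_rc_24_2 lc_c_rc_21_2 lc_c_rc_24_2 lc_c_rc_21_2 lc_c_rc_2_1 lc_c_rc_25_2 lc_c_rc_24_2 lc_c_rc_20_2 lc_c_rc_20_2 lc_c_rc_22_2 lc_c_rc_2_1 lc_c_rc_26_2 lc_c_rc_23_2 lc_c_rc_22_2 lc_c_rc_21_2 lc_c_rc_24_2 lc_c_rc_23_2 lc_c_rc_26_2) (@D3.rec (fun _ => (Cert rels S Gen.c)) lc_c_rc_11_3 lc_c_rc_21_2 lc_c_rc_22_2 lc_c_rc_20_2 lc_c_rc_22_2 lc_c_rc_26_2 lc_c_rc_2_1 lc_c_rc_23_2 lc_c_rc_22_2 lc_c_rc_21_2 lc_c_rc_24_2 lc_c_rc_23_2 lc_c_rc_26_2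 lc_c_rc_21_2 lc_c_rc_24_2 lc_c_rc_23_2 lc_c_rc_20_2 lc_c_rc_26_2 lc_c_rc_21_2 lc_c_rc_21_2 lc_c_rc_25_2 lc_c_rc_24_2 lc_c_rc_26_2 lc_c_rc_23_2 lc_c_rc_21_2 lc_c_rc_22_2 lc_c_rc_11_5 lc_c_rc_26_2 lc_c_rc_22_2 lc_c_rc_26_2 lc_c_rc_21_2 lc_c_rc_24_2 lc_c_rc_23_2 lc_c_rc_20_2 lc_c_rc_26_2 lc_c_rc_21_2 lc_c_rc_21_2 lc_c_rc_25_2 lc_c_rc_24_2 lc_c_rc_26_2 lc_c_rc_23_2 lc_c_rc_21_2 lc_c_rc_22_2 lc_c_Cert_tree lc_c_rc_26_2 lc_c_rc_22_2 lc_c_rc_26_2 lc_c_rc_2_1 lc_c_rc_2_1 lc_c_rc_21_2 lc_c_rc_24_2) (@D3.rec (fun _ => (Cert rels S Gen.c)) lc_c_rc_23_2 lc_c_rc_2_1 lc_c_rc_26_2 lc_c_rc_21_2 lc_c_rc_21_2 lc_c_rc_25_2 lc_c_rc_24_2 lc_c_rc_26_2 lc_c_rc_20_2 lc_c_rc_21_2 lc_c_rc_21_2 lc_c_rc_25_2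 lc_c_rc_24_2 lc_c_rc_20_2 lc_c_rc_26_2 lc_c_rc_21_2 lc_c_rc_20_2 lc_c_rc_23_2 lc_c_rc_21_2 lc_c_rc_21_2 lc_c_Cert_tree lc_c_rc_21_2 lc_c_rc_25_2 lc_c_rc_26_2 lc_c_rc_23_2 lc_c_rc_23_2 lc_c_rc_22_2 lc_c_rc_21_2 lc_c_rc_26_2 lc_c_rc_19_0 lc_c_rc_26_2 lc_c_rc_26_2 lc_c_rc_20_2 lc_c_rc_21_2 lc_c_rc_21_2 lc_c_rc_25_2 lc_c_rc_24_2 lc_c_rc_20_2 lc_c_rc_26_2 lc_c_rc_20_2 lc_c_rc_23_2 lc_c_rc_21_2 lc_c_rc_21_2 lc_c_Cert_tree lc_c_rc_21_2 lc_c_rc_25_2 lc_c_rc_26_2 lc_c_rc_23_2 lc_c_rc_23_2 lc_c_rc_22_2 lc_c_Cert_tree) (@D3.rec (fun _ => (Cert rels S Gen.c)) lc_c_rc_26_2 lc_c_rc_19_0 lc_c_rc_26_2 lc_c_rc_26_2 lc_c_rc_2_1 lc_c_rc_2_1 lc_c_rc_2_1 lc_c_Cert_tree lc_c_rc_2_1 lc_c_rc_2_1 lc_c_rc_21_2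 lc_c_rc_21_2 lc_c_rc_25_2 lc_c_rc_24_2 lc_c_rc_2_1 lc_c_rc_26_2 lc_c_rc_2_1 lc_c_rc_2_1 lc_c_rc_23_2 lc_c_rc_21_2 lc_c_rc_21_2 lc_c_Cert_tree lc_c_rc_21_2 lc_c_rc_25_2 lc_c_rc_26_2 lc_c_rc_20_2 lc_c_rc_22_2 lc_c_rc_23_2 lc_c_rc_21_2 lc_c_rc_21_2 lc_c_Cert_tree lc_c_rc_21_2 lc_c_rc_25_2 lc_c_rc_20_2 lc_c_rc_26_2 lc_c_rc_21_2 lc_c_rc_20_2 lc_c_rc_23_2 lc_c_rc_21_2 lc_c_rc_22_2 lc_c_rc_23_2 lc_c_rc_23_2 lc_c_rc_21_2 lc_c_Cert_tree lc_c_rc_21_2 lc_c_rc_19_0 lc_c_rc_26_2 lc_c_rc_26_2 lc_c_rc_24_2 lc_c_rc_23_2 lc_c_Cert_tree)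
def ce_c_6 : D2 → D3 → (Cert rels S Gen.c) := @D2.rec (fun _ => D3 → (Cert rels S Gen.c)) (@D3.rec (fun _ => (Cert rels S Gen.c)) lc_c_rc_26_2 lc_c_Cert_tree lc_c_rc_26_2 lc_c_rc_19_0 lc_c_rc_26_2 lc_c_rc_11_3 lc_c_rc_26_2 lc_c_rc_22_2 lc_c_rc_19_0 lc_c_rc_23_2 lc_c_rc_22_2 lc_c_rc_2_1 lc_c_rc_23_2 lc_c_rc_22_2 lc_c_rc_25_2 lc_c_rc_25_0 lc_c_rc_23_2 lc_c_rc_26_2 lc_c_rc_25_2 lc_c_rc_21_2 lc_c_rc_21_2 lc_c_rc_20_2 lc_c_rc_20_4 lc_c_rc_20_4 lc_c_rc_11_3 lc_c_rc_23_2 lc_c_rc_22_2 lc_c_rc_21_2 lc_c_rc_24_2 lc_c_rc_23_2 lc_c_rc_26_2 lc_c_rc_2_1 lc_c_rc_21_2 lc_c_rc_24_2 lc_c_rc_23_2 lc_c_rc_20_2 lc_c_rc_26_2 lc_c_rc_21_2 lc_c_rc_21_2 lc_c_rc_25_2 lc_c_rc_24_2 lc_c_rc_26_2 lc_c_rc_23_2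 lc_c_rc_21_2 lc_c_rc_22_2 lc_c_Cert_tree lc_c_rc_26_2 lc_c_rc_22_2 lc_c_rc_26_2 lc_c_rc_11_3 lc_c_rc_11_3) (@D3.rec (fun _ => (Cert rels S Gen.c)) lc_c_rc_21_2 lc_c_rc_24_2 lc_c_rc_23_2 lc_c_rc_20_2 lc_c_rc_26_2 lc_c_rc_21_2 lc_c_rc_21_2 lc_c_rc_25_2 lc_c_rc_24_2 lc_c_rc_26_2 lc_c_rc_20_2 lc_c_rc_21_2 lc_c_rc_21_2 lc_c_rc_25_2 lc_c_rc_24_2 lc_c_rc_20_2 lc_c_rc_26_2 lc_c_rc_20_2 lc_c_rc_20_2 lc_c_rc_23_2 lc_c_rc_21_2 lc_c_rc_21_2 lc_c_Cert_tree lc_c_rc_21_2 lc_c_rc_25_2 lc_c_rc_26_2 lc_c_rc_23_2 lc_c_rc_20_2 lc_c_rc_22_2 lc_c_rc_20_4 lc_c_rc_26_2 lc_c_rc_19_0 lc_c_rc_26_2 lc_c_rc_26_2 lc_c_rc_11_3 lc_c_rc_23_2 lc_c_rc_22_2 lc_c_rc_21_2 lc_c_rc_24_2 lc_c_rc_23_2 lc_c_rc_26_2 lc_c_rc_2_1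 lc_c_rc_21_2 lc_c_rc_24_2 lc_c_rc_23_2 lc_c_rc_20_2 lc_c_rc_26_2 lc_c_rc_24_2 lc_c_rc_21_2 lc_c_rc_24_2 lc_c_rc_24_2) (@D3.rec (fun _ => (Cert rels S Gen.c)) lc_c_rc_26_2 lc_c_rc_23_2 lc_c_rc_21_2 lc_c_rc_21_2 lc_c_Cert_tree lc_c_rc_21_2 lc_c_rc_20_4 lc_c_rc_20_4 lc_c_rc_11_3 lc_c_rc_11_3 lc_c_rc_21_2 lc_c_rc_24_2 lc_c_rc_23_2 lc_c_rc_2_1 lc_c_rc_26_2 lc_c_rc_21_2 lc_c_rc_21_2 lc_c_rc_25_2 lc_c_rc_24_2 lc_c_rc_26_2 lc_c_rc_20_2 lc_c_rc_21_2 lc_c_rc_21_2 lc_c_rc_25_2 lc_c_rc_24_2 lc_c_rc_20_2 lc_c_rc_26_2 lc_c_rc_21_2 lc_c_rc_20_2 lc_c_rc_23_2 lc_c_rc_21_2 lc_c_rc_21_2 lc_c_Cert_tree lc_c_rc_21_2 lc_c_rc_25_2 lc_c_rc_26_2 lc_c_rc_23_2 lc_c_rc_23_2 lc_c_rc_22_2 lc_c_Cert_tree lc_c_rc_26_2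 lc_c_rc_19_0 lc_c_rc_26_2 lc_c_rc_26_2 lc_c_rc_11_3 lc_c_rc_11_3 lc_c_rc_11_3 lc_c_rc_11_3 lc_c_rc_2_1 lc_c_rc_21_2 lc_c_rc_21_2) (@D3.rec (fun _ => (Cert rels S Gen.c)) lc_c_rc_25_2 lc_c_rc_24_2 lc_c_rc_20_2 lc_c_rc_26_2 lc_c_rc_20_2 lc_c_rc_23_2 lc_c_rc_21_2 lc_c_rc_21_2 lc_c_Cert_tree lc_c_rc_21_2 lc_c_rc_25_2 lc_c_rc_26_2 lc_c_rc_20_2 lc_c_rc_22_2 lc_c_rc_23_2 lc_c_rc_21_2 lc_c_rc_21_2 lc_c_Cert_tree lc_c_rc_21_2 lc_c_rc_25_2 lc_c_rc_20_2 lc_c_rc_26_2 lc_c_rc_21_2 lc_c_rc_20_2 lc_c_rc_20_2 lc_c_rc_20_2 lc_c_rc_22_2 lc_c_rc_23_2 lc_c_rc_23_2 lc_c_rc_21_2 lc_c_Cert_tree lc_c_rc_21_2 lc_c_rc_19_0 lc_c_rc_26_2 lc_c_rc_26_2 lc_c_rc_24_2 lc_c_rc_23_2 lc_c_Cert_tree lc_c_rc_26_2 lc_c_rc_20_4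 lc_c_rc_26_2 lc_c_rc_19_0 lc_c_rc_26_2 lc_c_rc_11_3 lc_c_rc_26_2 lc_c_rc_22_2 lc_c_rc_11_3 lc_c_rc_11_3 lc_c_rc_24_2 lc_c_rc_23_2 lc_c_rc_2_1) (@D3.rec (fun _ => (Cert rels S Gen.c)) lc_c_rc_26_2 lc_c_rc_23_2 lc_c_rc_24_2 lc_c_rc_26_2 lc_c_rc_21_2 lc_c_rc_21_2 lc_c_rc_25_2 lc_c_rc_24_2 lc_c_rc_20_2 lc_c_rc_26_2 lc_c_rc_21_2 lc_c_rc_20_2 lc_c_rc_56_37 lc_c_rc_2_1 lc_c_rc_21_2 lc_c_rc_21_2 lc_c_rc_25_2 lc_c_rc_26_2 lc_c_rc_23_2 lc_c_rc_23_2 lc_c_rc_21_2 lc_c_Cert_tree lc_c_rc_21_2 lc_c_rc_19_0 lc_c_rc_26_2 lc_c_rc_20_4 lc_c_rc_11_3 lc_c_rc_11_3 lc_c_rc_11_3 lc_c_rc_11_3 lc_c_rc_21_2 lc_c_rc_21_2 lc_c_rc_25_2 lc_c_rc_24_2 lc_c_rc_2_1 lc_c_rc_26_2 lc_c_rc_2_1 lc_c_rc_23_2 lc_c_rc_21_2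 lc_c_rc_21_2 lc_c_rc_21_2 lc_c_rc_25_2 lc_c_rc_26_2 lc_c_rc_20_2 lc_c_rc_22_2 lc_c_rc_23_2 lc_c_rc_21_2 lc_c_rc_21_2 lc_c_Cert_tree lc_c_rc_21_2 lc_c_rc_25_2) (@D3.rec (fun _ => (Cert rels S Gen.c)) lc_c_rc_20_2 lc_c_rc_26_2 lc_c_rc_21_2 lc_c_rc_20_2 lc_c_rc_23_2 lc_c_rc_21_2 lc_c_rc_22_2 lc_c_rc_23_2 lc_c_rc_23_2 lc_c_rc_21_2 lc_c_Cert_tree lc_c_rc_21_2 lc_c_rc_19_0 lc_c_rc_26_2 lc_c_rc_26_2 lc_c_rc_24_2 lc_c_rc_23_2 lc_c_Cert_tree lc_c_rc_26_2 lc_c_Cert_tree lc_c_rc_26_2 lc_c_rc_19_0 lc_c_rc_26_2 lc_c_rc_11_3 lc_c_rc_26_2 lc_c_rc_22_2 lc_c_rc_26_2 lc_c_rc_11_3 lc_c_rc_11_3 lc_c_rc_11_3 lc_c_rc_11_3 lc_c_rc_11_3 lc_c_rc_2_1 lc_c_rc_2_1 lc_c_rc_23_2 lc_c_rc_21_2 lc_c_rc_21_2 lc_c_Cert_tree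 lc_c_rc_21_2 lc_c_rc_25_2 lc_c_rc_20_2 lc_c_rc_26_2 lc_c_rc_21_2 lc_c_rc_20_2 lc_c_rc_22_2 lc_c_rc_23_2 lc_c_rc_23_2 lc_c_rc_21_2 lc_c_Cert_tree lc_c_rc_21_2 lc_c_rc_19_0) (@D3.rec (fun _ => (Cert rels S Gen.c)) lc_c_rc_26_2 lc_c_rc_26_2 lc_c_rc_20_2 lc_c_rc_20_2 lc_c_rc_22_2 lc_c_Cert_tree lc_c_rc_26_2 lc_c_rc_23_2 lc_c_rc_23_2 lc_c_rc_21_2 lc_c_Cert_tree lc_c_rc_21_2 lc_c_rc_19_0 lc_c_rc_21_2 lc_c_rc_26_2 lc_c_rc_20_2 lc_c_rc_26_2 lc_c_rc_21_2 lc_c_rc_20_2 lc_c_rc_21_2 lc_c_rc_21_2 lc_c_rc_22_2 lc_c_rc_20_2 lc_c_rc_20_2 lc_c_rc_22_2 lc_c_rc_24_2 lc_c_rc_23_2 lc_c_Cert_tree lc_c_rc_23_2 lc_c_Cert_tree lc_c_rc_21_2 lc_c_rc_19_0 lc_c_rc_26_2 lc_c_rc_11_3 lc_c_rc_26_2 lc_c_rc_22_2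 lc_c_rc_24_2 lc_c_Cert_tree lc_c_rc_26_2 lc_c_rc_19_0 lc_c_rc_21_2 lc_c_rc_26_2 lc_c_rc_19_0 lc_c_rc_26_2 lc_c_rc_11_3 lc_c_rc_26_2 lc_c_rc_22_2 lc_c_rc_2_1 lc_c_rc_11_3 lc_c_rc_22_2 lc_c_rc_22_0) (@D3.rec (fun _ => (Cert rels S Gen.c)) lc_c_rc_26_0 lc_c_rc_19_0 lc_c_rc_21_2 lc_c_rc_22_2 lc_c_rc_20_2 lc_c_rc_20_2 lc_c_rc_22_2 lc_c_rc_26_2 lc_c_rc_23_2 lc_c_rc_24_2 lc_c_rc_22_2 lc_c_Cert_tree lc_c_Cert_tree lc_c_rc_19_0 lc_c_rc_11_3 lc_c_rc_24_2 lc_c_Cert_tree lc_c_rc_25_2 lc_c_rc_19_0 lc_c_rc_21_2 lc_c_rc_25_0 lc_c_rc_19_0 lc_c_rc_22_0 lc_c_rc_11_3 lc_c_rc_26_2 lc_c_rc_22_2 lc_c_rc_23_2 lc_c_rc_26_2 lc_c_rc_22_2 lc_c_rc_2_1 lc_c_rc_2_1 lc_c_rc_2_1 lc_c_rc_2_1 lc_c_rc_23_2 lc_c_rc_24_2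 lc_c_rc_20_0 lc_c_Cert_tree lc_c_Cert_tree lc_c_rc_19_0 lc_c_rc_11_3 lc_c_rc_21_2 lc_c_rc_20_2 lc_c_rc_22_2 lc_c_rc_22_2 lc_c_Cert_tree lc_c_rc_26_2 lc_c_rc_19_0 lc_c_rc_26_2 lc_c_rc_24_2 lc_c_rc_23_2 lc_c_Cert_tree) (@D3.rec (fun _ => (Cert rels S Gen.c)) lc_c_Cert_tree lc_c_rc_19_0 lc_c_rc_11_3 lc_c_rc_24_2 lc_c_Cert_tree lc_c_rc_20_0 lc_c_rc_19_0 lc_c_rc_21_2 lc_c_rc_26_2 lc_c_rc_19_0 lc_c_rc_26_2 lc_c_rc_11_3 lc_c_rc_26_2 lc_c_rc_22_2 lc_c_rc_2_1 lc_c_rc_11_3 lc_c_rc_22_2 lc_c_Cert_tree lc_c_rc_25_2 lc_c_rc_19_0 lc_c_rc_11_5 lc_c_rc_55_55 lc_c_rc_11_3 lc_c_rc_21_2 lc_c_rc_26_2 lc_c_rc_56_16 lc_c_rc_22_2 lc_c_rc_11_3 lc_c_rc_26_2 lc_c_rc_22_2 lc_c_rc_2_1 lc_c_rc_11_3 lc_c_rc_22_2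 lc_c_rc_2_1 lc_c_rc_11_3 lc_c_rc_20_2 lc_c_rc_19_0 lc_c_rc_56_16 lc_c_rc_55_55 lc_c_rc_23_2 lc_c_rc_22_2 lc_c_rc_21_2 lc_c_rc_22_2 lc_c_rc_56_23 lc_c_rc_21_2 lc_c_rc_21_2 lc_c_rc_2_1 lc_c_rc_22_2 lc_c_rc_26_2 lc_c_rc_20_2 lc_c_rc_22_2) (@D3.rec (fun _ => (Cert rels S Gen.c)) lc_c_rc_55_37 lc_c_rc_21_2 lc_c_rc_24_2 lc_c_rc_23_2 lc_c_rc_21_2 lc_c_rc_21_2 lc_c_rc_22_2 lc_c_rc_20_2 lc_c_rc_26_2 lc_c_rc_24_2 lc_c_rc_20_2 lc_c_rc_21_2 lc_c_rc_23_2 lc_c_rc_21_2 lc_c_rc_24_2 lc_c_rc_20_2 lc_c_rc_26_2 lc_c_rc_25_2 lc_c_rc_26_2 lc_c_rc_20_2 lc_c_rc_22_2 lc_c_rc_22_2 lc_c_Cert_tree lc_c_rc_26_2 lc_c_rc_19_0 lc_c_rc_56_23 lc_c_rc_20_2 lc_c_rc_21_2 lc_c_rc_24_2 lc_c_rc_23_2 lc_c_rc_26_2 lc_c_rc_21_2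 lc_c_rc_21_2 lc_c_rc_24_2 lc_c_rc_24_2 lc_c_rc_26_2 lc_c_rc_26_2 lc_c_rc_26_2 lc_c_rc_2_1 lc_c_rc_11_3 lc_c_rc_21_2 lc_c_rc_24_2 lc_c_rc_23_2 lc_c_rc_2_1 lc_c_rc_26_2 lc_c_rc_56_37 lc_c_rc_21_2 lc_c_rc_2_1 lc_c_rc_24_2 lc_c_rc_26_2 lc_c_rc_55_82) (@D3.rec (fun _ => (Cert rels S Gen.c)) lc_c_rc_21_2 lc_c_rc_21_2 lc_c_rc_24_2 lc_c_rc_20_2 lc_c_rc_26_2 lc_c_rc_21_2 lc_c_rc_20_2 lc_c_rc_23_2 lc_c_rc_56_37 lc_c_rc_21_2 lc_c_Cert_tree lc_c_rc_21_2 lc_c_rc_2_3 lc_c_rc_26_2 lc_c_rc_23_2 lc_c_rc_22_2 lc_c_rc_56_30 lc_c_rc_26_2 lc_c_rc_19_0 lc_c_rc_26_2 lc_c_rc_26_2 lc_c_rc_21_2 lc_c_rc_20_2 lc_c_rc_20_2 lc_c_rc_21_2 lc_c_rc_21_2 lc_c_rc_25_2 lc_c_rc_24_2 lc_c_rc_26_2 lc_c_rc_23_2 lc_c_rc_21_2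 lc_c_rc_21_2 lc_c_Cert_tree lc_c_rc_21_2 lc_c_rc_25_2 lc_c_rc_26_2 lc_c_rc_23_2 lc_c_rc_23_2 lc_c_rc_26_2 lc_c_rc_26_2 lc_c_rc_26_2 lc_c_rc_2_1 lc_c_rc_2_1 lc_c_rc_11_3 lc_c_rc_11_3 lc_c_rc_20_2 lc_c_rc_21_2 lc_c_rc_21_2 lc_c_rc_25_2 lc_c_rc_24_2 lc_c_rc_2_1) (@D3.rec (fun _ => (Cert rels S Gen.c)) lc_c_rc_26_2 lc_c_rc_2_1 lc_c_rc_23_2 lc_c_rc_22_0 lc_c_rc_21_2 lc_c_rc_20_4 lc_c_rc_21_2 lc_c_rc_25_2 lc_c_rc_26_2 lc_c_rc_20_2 lc_c_rc_20_2 lc_c_rc_23_2 lc_c_rc_21_2 lc_c_rc_21_2 lc_c_Cert_tree lc_c_rc_21_2 lc_c_rc_25_2 lc_c_rc_20_2 lc_c_rc_26_2 lc_c_rc_21_2 lc_c_rc_20_2 lc_c_rc_23_2 lc_c_rc_21_2 lc_c_rc_23_2 lc_c_rc_23_2 lc_c_rc_21_2 lc_c_Cert_tree lc_c_rc_21_2 lc_c_rc_19_0 lc_c_rc_26_2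 lc_c_rc_26_2 lc_c_rc_24_2 lc_c_rc_23_2 lc_c_Cert_tree lc_c_rc_26_2 lc_c_Cert_tree lc_c_rc_26_2 lc_c_rc_19_0 lc_c_rc_26_2 lc_c_rc_11_3 lc_c_rc_26_2 lc_c_rc_22_2 lc_c_Cert_tree lc_c_rc_21_2 lc_c_rc_19_0 lc_c_rc_26_2 lc_c_rc_20_2 lc_c_rc_20_2 lc_c_rc_22_2 lc_c_rc_23_2 lc_c_rc_21_2) (@D3.rec (fun _ => (Cert rels S Gen.c)) lc_c_rc_21_2 lc_c_Cert_tree lc_c_rc_21_2 lc_c_rc_25_2 lc_c_rc_26_2 lc_c_rc_23_2 lc_c_rc_23_2 lc_c_rc_21_2 lc_c_Cert_tree lc_c_rc_21_2 lc_c_rc_19_0 lc_c_rc_26_2 lc_c_rc_26_2 lc_c_rc_24_2 lc_c_rc_23_2 lc_c_Cert_tree lc_c_rc_26_2 lc_c_Cert_tree lc_c_rc_26_2 lc_c_rc_19_0 lc_c_rc_26_2 lc_c_rc_11_3 lc_c_rc_26_2 lc_c_rc_22_2 lc_c_rc_2_1 lc_c_rc_2_1 lc_c_rc_11_3 lc_c_rc_2_1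 lc_c_rc_11_3 lc_c_rc_11_3 lc_c_rc_2_1 lc_c_rc_2_1 lc_c_rc_23_2 lc_c_rc_21_2 lc_c_rc_21_2 lc_c_Cert_tree lc_c_rc_21_2 lc_c_rc_25_2 lc_c_rc_2_1 lc_c_rc_26_2 lc_c_rc_2_1 lc_c_rc_2_1 lc_c_rc_23_2 lc_c_rc_23_2 lc_c_rc_21_2 lc_c_Cert_tree lc_c_rc_21_2 lc_c_rc_19_0 lc_c_rc_26_2 lc_c_rc_26_2 lc_c_rc_20_2) (@D3.rec (fun _ => (Cert rels S Gen.c)) lc_c_rc_20_2 lc_c_rc_22_2 lc_c_Cert_tree lc_c_rc_26_2 lc_c_rc_23_2 lc_c_rc_23_2 lc_c_rc_21_2 lc_c_Cert_tree lc_c_rc_21_2 lc_c_rc_19_0 lc_c_rc_21_2 lc_c_rc_26_2 lc_c_rc_20_2 lc_c_rc_26_2 lc_c_rc_21_2 lc_c_rc_20_2 lc_c_rc_23_2 lc_c_rc_21_2 lc_c_rc_24_2 lc_c_rc_23_2 lc_c_rc_24_2 lc_c_rc_23_2 lc_c_Cert_tree lc_c_rc_23_2 lc_c_Cert_tree lc_c_rc_21_2 lc_c_rc_19_0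 lc_c_rc_26_2 lc_c_rc_11_3 lc_c_rc_26_2 lc_c_rc_22_2 lc_c_rc_24_2 lc_c_Cert_tree lc_c_rc_26_2 lc_c_rc_19_0 lc_c_rc_21_2 lc_c_rc_26_2 lc_c_rc_19_0 lc_c_rc_26_2 lc_c_rc_11_3 lc_c_rc_26_2 lc_c_rc_22_2 lc_c_rc_2_1 lc_c_rc_11_3 lc_c_rc_22_2 lc_c_rc_11_3 lc_c_rc_21_2 lc_c_rc_24_2 lc_c_rc_23_2 lc_c_rc_26_2 lc_c_rc_21_2) (@D3.rec (fun _ => (Cert rels S Gen.c)) lc_c_rc_21_2 lc_c_rc_56_37 lc_c_rc_24_2 lc_c_rc_26_2 lc_c_rc_20_2 lc_c_rc_21_2 lc_c_rc_21_2 lc_c_rc_25_2 lc_c_rc_24_2 lc_c_rc_20_2 lc_c_rc_26_2 lc_c_rc_20_2 lc_c_rc_23_2 lc_c_rc_55_82 lc_c_rc_21_2 lc_c_Cert_tree lc_c_rc_21_2 lc_c_rc_25_2 lc_c_rc_26_2 lc_c_rc_11_5 lc_c_rc_20_4 lc_c_rc_2_3 lc_c_rc_11_3 lc_c_rc_11_3 lc_c_rc_2_1 lc_c_rc_21_2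 lc_c_rc_21_2 lc_c_rc_25_2 lc_c_rc_24_2 lc_c_rc_26_2 lc_c_rc_23_2 lc_c_rc_21_2 lc_c_rc_21_2 lc_c_Cert_tree lc_c_rc_21_2 lc_c_rc_25_2 lc_c_rc_26_2 lc_c_rc_20_2 lc_c_rc_22_2 lc_c_rc_23_2 lc_c_rc_21_2 lc_c_rc_21_2 lc_c_Cert_tree lc_c_rc_21_2 lc_c_rc_25_2 lc_c_rc_20_2 lc_c_rc_26_2 lc_c_rc_21_2 lc_c_rc_20_2 lc_c_rc_23_2 lc_c_rc_21_2) (@D3.rec (fun _ => (Cert rels S Gen.c)) lc_c_rc_23_2 lc_c_rc_23_2 lc_c_rc_21_2 lc_c_Cert_tree lc_c_rc_21_2 lc_c_rc_19_0 lc_c_rc_26_2 lc_c_rc_26_2 lc_c_rc_23_2 lc_c_rc_11_5 lc_c_rc_11_5 lc_c_rc_26_2 lc_c_Cert_tree lc_c_rc_2_3 lc_c_rc_19_0 lc_c_rc_26_2 lc_c_rc_11_3 lc_c_rc_26_2 lc_c_rc_22_2 lc_c_rc_11_3 lc_c_rc_11_3 lc_c_rc_2_1 lc_c_rc_21_2 lc_c_rc_21_2 lc_c_rc_25_2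 lc_c_rc_24_2 lc_c_rc_26_2 lc_c_rc_23_2 lc_c_rc_21_2 lc_c_rc_21_2 lc_c_Cert_tree lc_c_rc_21_2 lc_c_rc_25_2 lc_c_rc_26_2 lc_c_rc_20_2 lc_c_rc_22_2 lc_c_rc_23_2 lc_c_rc_21_2 lc_c_rc_21_2 lc_c_Cert_tree lc_c_rc_21_2 lc_c_rc_25_2 lc_c_rc_20_2 lc_c_rc_26_2 lc_c_rc_21_2 lc_c_rc_20_2 lc_c_rc_23_2 lc_c_rc_23_2 lc_c_rc_21_2 lc_c_Cert_tree lc_c_rc_21_2) (@D3.rec (fun _ => (Cert rels S Gen.c)) lc_c_rc_19_0 lc_c_rc_26_2 lc_c_rc_26_2 lc_c_rc_21_2 lc_c_rc_21_2 lc_c_rc_20_4 lc_c_rc_26_2 lc_c_rc_21_2 lc_c_rc_20_4 lc_c_rc_11_3 lc_c_rc_26_2 lc_c_rc_22_2 lc_c_rc_21_2 lc_c_rc_11_3 lc_c_rc_11_3 lc_c_rc_2_1 lc_c_rc_2_1 lc_c_rc_23_2 lc_c_rc_21_2 lc_c_rc_21_2 lc_c_Cert_tree lc_c_rc_21_2 lc_c_rc_25_2 lc_c_rc_26_2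 lc_c_rc_23_2 lc_c_rc_23_2 lc_c_rc_21_2 lc_c_Cert_tree lc_c_rc_21_2 lc_c_rc_19_0 lc_c_rc_26_2 lc_c_rc_26_2 lc_c_rc_20_2 lc_c_rc_20_2 lc_c_rc_22_2 lc_c_Cert_tree lc_c_rc_26_2 lc_c_rc_23_2 lc_c_rc_23_2 lc_c_rc_21_2 lc_c_Cert_tree lc_c_rc_21_2 lc_c_rc_19_0 lc_c_rc_21_2 lc_c_rc_26_2 lc_c_rc_20_2 lc_c_rc_26_2 lc_c_rc_21_2 lc_c_rc_20_2 lc_c_rc_23_2 lc_c_rc_21_2) (@D3.rec (fun _ => (Cert rels S Gen.c)) lc_c_rc_24_2 lc_c_rc_23_2 lc_c_rc_24_2 lc_c_rc_23_2 lc_c_Cert_tree lc_c_rc_23_2 lc_c_Cert_tree lc_c_rc_21_2 lc_c_rc_19_0 lc_c_rc_26_2 lc_c_rc_11_3 lc_c_rc_26_2 lc_c_rc_22_2 lc_c_rc_24_2 lc_c_Cert_tree lc_c_rc_26_2 lc_c_rc_19_0 lc_c_rc_21_2 lc_c_rc_26_2 lc_c_rc_19_0 lc_c_rc_26_2 lc_c_rc_11_3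 lc_c_rc_26_2 lc_c_rc_22_2 lc_c_rc_2_1 lc_c_rc_11_3 lc_c_rc_22_2 lc_c_rc_11_3 lc_c_rc_11_3 lc_c_rc_23_2 lc_c_rc_21_2 lc_c_rc_21_2 lc_c_rc_26_0 lc_c_rc_21_2 lc_c_rc_25_2 lc_c_rc_26_2 lc_c_rc_23_2 lc_c_rc_23_2 lc_c_rc_21_2 lc_c_rc_21_2 lc_c_rc_26_2 lc_c_rc_20_2 lc_c_rc_20_2 lc_c_rc_22_2 lc_c_rc_26_0 lc_c_rc_26_2 lc_c_rc_23_2 lc_c_rc_23_2 lc_c_rc_21_2 lc_c_Cert_tree lc_c_rc_21_2) (@D3.rec (fun _ => (Cert rels S Gen.c)) lc_c_rc_19_0 lc_c_rc_21_2 lc_c_rc_26_2 lc_c_rc_20_2 lc_c_rc_26_2 lc_c_rc_21_2 lc_c_rc_20_2 lc_c_rc_21_2 lc_c_rc_24_2 lc_c_rc_23_2 lc_c_Cert_tree lc_c_rc_23_2 lc_c_Cert_tree lc_c_rc_21_2 lc_c_rc_19_0 lc_c_rc_26_2 lc_c_rc_11_3 lc_c_rc_26_2 lc_c_rc_22_2 lc_c_Cert_tree lc_c_rc_26_2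 lc_c_rc_19_0 lc_c_rc_21_2 lc_c_rc_26_2 lc_c_rc_19_0 lc_c_rc_26_2 lc_c_rc_11_3 lc_c_rc_26_2 lc_c_rc_22_2 lc_c_rc_2_1 lc_c_rc_11_3 lc_c_rc_22_2 lc_c_rc_26_2 lc_c_rc_26_0 lc_c_rc_11_3 lc_c_rc_11_3 lc_c_rc_2_1 lc_c_rc_2_1 lc_c_rc_2_1 lc_c_rc_22_2 lc_c_rc_2_1 lc_c_rc_23_2 lc_c_rc_23_2 lc_c_rc_21_2 lc_c_Cert_tree lc_c_rc_21_2 lc_c_rc_19_0 lc_c_rc_26_2 lc_c_rc_26_2 lc_c_rc_24_2 lc_c_rc_23_2) (@D3.rec (fun _ => (Cert rels S Gen.c)) lc_c_Cert_tree lc_c_rc_23_2 lc_c_Cert_tree lc_c_rc_21_2 lc_c_rc_19_0 lc_c_rc_26_2 lc_c_rc_11_3 lc_c_rc_26_2 lc_c_rc_21_2 lc_c_rc_20_2 lc_c_rc_22_2 lc_c_rc_22_2 lc_c_Cert_tree lc_c_rc_26_2 lc_c_rc_19_0 lc_c_rc_21_2 lc_c_rc_26_2 lc_c_rc_24_2 lc_c_rc_23_2 lc_c_Cert_tree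 lc_c_rc_23_2 lc_c_Cert_tree lc_c_rc_21_2 lc_c_rc_19_0 lc_c_rc_21_2 lc_c_rc_26_2 lc_c_rc_11_3 lc_c_rc_21_2 lc_c_rc_26_2 lc_c_rc_23_2 lc_c_rc_26_2 lc_c_rc_22_2 lc_c_rc_21_2 lc_c_rc_20_2 lc_c_rc_23_2 lc_c_rc_21_2 lc_c_rc_24_2 lc_c_rc_23_2 lc_c_rc_25_2 lc_c_rc_24_2 lc_c_rc_24_2 lc_c_Cert_tree lc_c_rc_23_2 lc_c_rc_19_0 lc_c_rc_21_2 lc_c_rc_26_2 lc_c_rc_19_0 lc_c_rc_26_2 lc_c_rc_11_3 lc_c_rc_26_2 lc_c_rc_22_2) (@D3.rec (fun _ => (Cert rels S Gen.c)) lc_c_rc_2_1 lc_c_rc_11_3 lc_c_rc_22_2 lc_c_rc_56_16 lc_c_rc_26_2 lc_c_rc_19_0 lc_c_rc_55_73 lc_c_rc_26_2 lc_c_rc_11_3 lc_c_rc_21_2 lc_c_rc_26_2 lc_c_rc_11_5 lc_c_rc_11_5 lc_c_rc_11_3 lc_c_rc_26_2 lc_c_rc_55_37 lc_c_rc_2_1 lc_c_rc_11_3 lc_c_rc_22_2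 lc_c_rc_2_1 lc_c_rc_11_3 lc_c_rc_20_2 lc_c_rc_24_2 lc_c_rc_21_2 lc_c_rc_20_2 lc_c_rc_22_2 lc_c_rc_22_2 lc_c_rc_26_2 lc_c_rc_24_2 lc_c_rc_24_2 lc_c_Cert_tree lc_c_rc_19_0 lc_c_rc_21_2 lc_c_rc_19_0 lc_c_rc_11_3 lc_c_rc_2_1 lc_c_Cert_tree lc_c_rc_24_2 lc_c_rc_19_0 lc_c_rc_21_2 lc_c_rc_11_5 lc_c_rc_11_3 lc_c_rc_21_2 lc_c_rc_26_2 lc_c_rc_11_5 lc_c_rc_22_2 lc_c_rc_11_3 lc_c_rc_26_2 lc_c_rc_22_2 lc_c_rc_2_1 lc_c_rc_26_2) (@D3.rec (fun _ => (Cert rels S Gen.c)) lc_c_rc_22_2 lc_c_rc_2_1 lc_c_rc_26_0 lc_c_rc_20_2 lc_c_rc_2_1 lc_c_rc_2_1 lc_c_rc_2_1 lc_c_rc_2_1 lc_c_rc_2_1 lc_c_rc_24_2 lc_c_rc_20_0 lc_c_Cert_tree lc_c_rc_19_0 lc_c_rc_21_2 lc_c_rc_19_0 lc_c_rc_11_3 lc_c_rc_22_0 lc_c_rc_21_2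 lc_c_rc_22_2 lc_c_rc_20_2 lc_c_rc_22_2 lc_c_Cert_tree lc_c_rc_26_2 lc_c_Cert_tree lc_c_rc_26_2 lc_c_rc_19_0 lc_c_rc_26_2 lc_c_rc_11_3 lc_c_rc_26_2 lc_c_rc_24_2 lc_c_Cert_tree lc_c_rc_19_0 lc_c_rc_21_2 lc_c_rc_19_0 lc_c_rc_11_3 lc_c_rc_2_1 lc_c_Cert_tree lc_c_rc_24_2 lc_c_rc_19_0 lc_c_rc_21_2 lc_c_rc_26_2 lc_c_rc_11_3 lc_c_rc_21_2 lc_c_rc_26_2 lc_c_rc_21_2 lc_c_rc_22_2 lc_c_rc_11_3 lc_c_rc_26_2 lc_c_rc_22_2 lc_c_rc_2_1 lc_c_rc_11_3) (@D3.rec (fun _ => (Cert rels S Gen.c)) lc_c_rc_22_2 lc_c_rc_2_1 lc_c_rc_11_3 lc_c_rc_22_0 lc_c_rc_2_1 lc_c_rc_2_1 lc_c_rc_2_1 lc_c_rc_11_3 lc_c_rc_20_2 lc_c_rc_2_1 lc_c_rc_20_4 lc_c_rc_21_2 lc_c_rc_21_2 lc_c_rc_26_2 lc_c_rc_2_3 lc_c_rc_26_2 lc_c_rc_19_0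 lc_c_rc_26_2 lc_c_rc_26_2 lc_c_rc_21_2 lc_c_rc_19_0 lc_c_rc_21_2 lc_c_rc_26_2 lc_c_rc_56_23 lc_c_rc_26_2 lc_c_rc_56_23 lc_c_rc_20_2 lc_c_rc_23_2 lc_c_rc_21_2 lc_c_rc_24_2 lc_c_rc_23_2 lc_c_rc_23_2 lc_c_rc_20_0 lc_c_rc_25_2 lc_c_rc_26_2 lc_c_rc_19_0 lc_c_rc_26_2 lc_c_rc_11_3 lc_c_rc_26_2 lc_c_rc_22_2 lc_c_Cert_tree lc_c_rc_23_2 lc_c_rc_19_0 lc_c_rc_21_2 lc_c_rc_26_2 lc_c_rc_19_0 lc_c_rc_26_2 lc_c_rc_11_3 lc_c_rc_26_2 lc_c_rc_22_2 lc_c_rc_2_1) (@D3.rec (fun _ => (Cert rels S Gen.c)) lc_c_rc_11_3 lc_c_rc_22_2 lc_c_rc_21_2 lc_c_rc_19_0 lc_c_rc_26_2 lc_c_rc_26_2 lc_c_rc_21_0 lc_c_rc_23_2 lc_c_rc_2_3 lc_c_rc_21_2 lc_c_rc_19_0 lc_c_rc_26_2 lc_c_rc_11_3 lc_c_rc_26_2 lc_c_rc_22_2 lc_c_rc_19_0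 lc_c_rc_21_2 lc_c_rc_26_2 lc_c_rc_23_2 lc_c_rc_21_2 lc_c_rc_19_0 lc_c_rc_21_2 lc_c_rc_26_2 lc_c_rc_11_3 lc_c_rc_21_2 lc_c_rc_26_2 lc_c_rc_23_2 lc_c_rc_26_2 lc_c_rc_22_2 lc_c_rc_21_2 lc_c_rc_20_2 lc_c_rc_23_2 lc_c_rc_21_2 lc_c_rc_24_2 lc_c_rc_23_2 lc_c_rc_25_2 lc_c_rc_24_2 lc_c_rc_23_2 lc_c_rc_23_2 lc_c_rc_19_0 lc_c_rc_21_2 lc_c_rc_26_2 lc_c_rc_19_0 lc_c_rc_26_2 lc_c_rc_11_3 lc_c_rc_26_2 lc_c_rc_22_2 lc_c_rc_2_1 lc_c_rc_11_3 lc_c_rc_22_2 lc_c_rc_24_2) (@D3.rec (fun _ => (Cert rels S Gen.c)) lc_c_rc_19_0 lc_c_rc_26_2 lc_c_rc_11_3 lc_c_rc_21_2 lc_c_rc_26_2 lc_c_rc_26_2 lc_c_rc_22_2 lc_c_rc_11_3 lc_c_rc_26_2 lc_c_rc_22_2 lc_c_rc_2_1 lc_c_rc_11_3 lc_c_rc_22_2 lc_c_rc_2_1 lc_c_rc_11_3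 lc_c_rc_20_2 lc_c_Cert_tree lc_c_rc_23_2 lc_c_Cert_tree lc_c_rc_21_2 lc_c_rc_19_0 lc_c_rc_26_2 lc_c_rc_56_30 lc_c_rc_26_2 lc_c_rc_22_2 lc_c_Cert_tree lc_c_rc_26_2 lc_c_rc_19_0 lc_c_rc_21_2 lc_c_rc_26_2 lc_c_rc_19_0 lc_c_rc_26_2 lc_c_rc_11_3 lc_c_rc_26_2 lc_c_rc_22_2 lc_c_rc_21_0 lc_c_rc_11_3 lc_c_rc_22_2 lc_c_Cert_tree lc_c_rc_23_2 lc_c_rc_19_0 lc_c_rc_21_2 lc_c_rc_26_2 lc_c_rc_19_0 lc_c_rc_21_2 lc_c_rc_26_2 lc_c_rc_20_2 lc_c_rc_21_2 lc_c_rc_26_2 lc_c_rc_23_2 lc_c_rc_26_2) (@D3.rec (fun _ => (Cert rels S Gen.c)) lc_c_rc_22_2 lc_c_rc_2_1 lc_c_rc_21_2 lc_c_rc_20_2 lc_c_rc_23_2 lc_c_rc_26_2 lc_c_rc_22_2 lc_c_rc_24_2 lc_c_rc_26_2 lc_c_rc_22_2 lc_c_rc_23_2 lc_c_rc_21_2 lc_c_rc_24_2 lc_c_rc_23_2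 lc_c_rc_25_2 lc_c_rc_24_2 lc_c_rc_25_2 lc_c_rc_26_2 lc_c_rc_19_0 lc_c_rc_26_2 lc_c_rc_11_3 lc_c_rc_21_2 lc_c_rc_26_2 lc_c_rc_26_2 lc_c_rc_22_2 lc_c_rc_11_3 lc_c_rc_26_2 lc_c_rc_21_2 lc_c_rc_2_1 lc_c_rc_11_3 lc_c_rc_22_2 lc_c_rc_2_1 lc_c_rc_11_3 lc_c_rc_20_2 lc_c_rc_2_1 lc_c_rc_2_1 lc_c_rc_2_1 lc_c_rc_2_1 lc_c_rc_19_0 lc_c_rc_11_3 lc_c_rc_21_2 lc_c_rc_26_2 lc_c_rc_11_3 lc_c_rc_26_2 lc_c_rc_24_2 lc_c_rc_11_3 lc_c_rc_22_2 lc_c_rc_26_2 lc_c_rc_11_3 lc_c_rc_20_2 lc_c_rc_20_2) (@D3.rec (fun _ => (Cert rels S Gen.c)) lc_c_rc_20_2 lc_c_rc_2_1 lc_c_rc_21_0 lc_c_rc_21_2 lc_c_rc_19_0 lc_c_rc_23_2 lc_c_rc_55_19 lc_c_rc_23_2 lc_c_rc_11_3 lc_c_rc_23_2 lc_c_rc_24_2 lc_c_rc_20_2 lc_c_rc_20_2 lc_c_rc_22_2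 lc_c_rc_26_2 lc_c_rc_19_0 lc_c_rc_20_2 lc_c_rc_11_3 lc_c_rc_2_1 lc_c_rc_22_2 lc_c_rc_2_1 lc_c_rc_11_3 lc_c_rc_21_2 lc_c_rc_22_2 lc_c_rc_22_2 lc_c_rc_22_2 lc_c_rc_26_2 lc_c_rc_19_0 lc_c_rc_23_0 lc_c_rc_26_2 lc_c_rc_2_1 lc_c_rc_21_2 lc_c_rc_23_2 lc_c_rc_24_2 lc_c_rc_25_2 lc_c_rc_22_2 lc_c_rc_2_1 lc_c_rc_26_2 lc_c_rc_23_2 lc_c_rc_24_2 lc_c_rc_2_1 lc_c_rc_22_2 lc_c_rc_22_2 lc_c_rc_26_2 lc_c_rc_2_1 lc_c_rc_2_1 lc_c_rc_26_2 lc_c_rc_56_23 lc_c_rc_11_1 lc_c_rc_26_2 lc_c_rc_23_2)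
def ce_c_7 : D2 → D3 → (Cert rels S Gen.c) := @D2.rec (fun _ => D3 → (Cert rels S Gen.c)) (@D3.rec (fun _ => (Cert rels S Gen.c)) lc_c_rc_24_2 lc_c_rc_25_2 lc_c_rc_2_1 lc_c_rc_2_1 lc_c_rc_2_1 lc_c_rc_2_1 lc_c_rc_21_2 lc_c_rc_22_2 lc_c_rc_22_2 lc_c_Cert_tree lc_c_rc_26_2 lc_c_rc_19_0 lc_c_rc_26_2 lc_c_rc_19_0 lc_c_rc_2_1 lc_c_rc_2_1 lc_c_rc_2_1 lc_c_rc_2_1 lc_c_rc_22_2 lc_c_rc_26_2 lc_c_rc_26_2 lc_c_rc_21_2 lc_c_rc_20_2 lc_c_rc_22_2 lc_c_rc_21_2 lc_c_rc_20_2 lc_c_rc_20_2 lc_c_rc_23_2 lc_c_rc_24_2 lc_c_rc_25_2 lc_c_rc_22_0 lc_c_rc_2_1 lc_c_rc_2_1 lc_c_rc_2_1 lc_c_rc_2_1 lc_c_rc_22_2 lc_c_rc_21_0 lc_c_rc_2_3 lc_c_rc_26_2 lc_c_rc_56_9 lc_c_rc_26_2 lc_c_rc_19_0 lc_c_rc_26_2 lc_c_rc_11_3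 lc_c_rc_26_2 lc_c_rc_24_2 lc_c_rc_26_2 lc_c_rc_2_3 lc_c_rc_21_0 lc_c_rc_26_2 lc_c_rc_2_1) (@D3.rec (fun _ => (Cert rels S Gen.c)) lc_c_rc_21_2 lc_c_rc_2_1 lc_c_rc_2_1 lc_c_rc_22_2 lc_c_Cert_tree lc_c_rc_26_2 lc_c_rc_22_0 lc_c_rc_22_2 lc_c_rc_22_2 lc_c_rc_23_2 lc_c_rc_56_51 lc_c_rc_24_2 lc_c_rc_20_4 lc_c_rc_22_2 lc_c_rc_21_2 lc_c_rc_22_2 lc_c_rc_20_0 lc_c_rc_23_2 lc_c_rc_26_2 lc_c_rc_20_2 lc_c_rc_24_2 lc_c_rc_25_2 lc_c_rc_24_2 lc_c_rc_25_2 lc_c_rc_2_3 lc_c_rc_22_2 lc_c_rc_23_2 lc_c_rc_24_2 lc_c_rc_20_4 lc_c_rc_20_2 lc_c_rc_26_2 lc_c_rc_26_2 lc_c_rc_21_2 lc_c_rc_20_2 lc_c_rc_2_1 lc_c_rc_26_2 lc_c_rc_26_2 lc_c_rc_20_2 lc_c_rc_26_2 lc_c_rc_21_2 lc_c_rc_20_2 lc_c_rc_21_2 lc_c_rc_26_2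 lc_c_rc_21_2 lc_c_rc_21_2 lc_c_rc_55_19 lc_c_rc_20_2 lc_c_Cert_tree lc_c_rc_11_3 lc_c_rc_2_1 lc_c_rc_26_2) (@D3.rec (fun _ => (Cert rels S Gen.c)) lc_c_rc_2_1 lc_c_rc_2_1 lc_c_rc_21_2 lc_c_rc_26_2 lc_c_rc_23_2 lc_c_rc_21_2 lc_c_rc_20_2 lc_c_rc_26_2 lc_c_rc_21_2 lc_c_rc_20_2 lc_c_rc_23_2 lc_c_rc_21_2 lc_c_rc_22_2 lc_c_Cert_tree lc_c_rc_26_2 lc_c_rc_19_0 lc_c_rc_26_2 lc_c_rc_23_2 lc_c_Cert_tree lc_c_rc_23_2 lc_c_Cert_tree lc_c_rc_21_2 lc_c_rc_19_0 lc_c_rc_26_2 lc_c_rc_11_3 lc_c_rc_26_2 lc_c_rc_22_2 lc_c_rc_19_0 lc_c_rc_2_3 lc_c_rc_22_2 lc_c_rc_23_2 lc_c_rc_23_2 lc_c_rc_21_2 lc_c_rc_23_2 lc_c_rc_22_2 lc_c_rc_20_2 lc_c_rc_22_2 lc_c_rc_2_3 lc_c_rc_21_2 lc_c_rc_24_2 lc_c_rc_21_2 lc_c_rc_2_1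 lc_c_rc_21_2 lc_c_rc_24_2 lc_c_rc_21_2 lc_c_rc_22_2 lc_c_rc_24_2 lc_c_rc_22_2 lc_c_rc_20_2 lc_c_rc_20_2 lc_c_rc_22_2) (@D3.rec (fun _ => (Cert rels S Gen.c)) lc_c_rc_23_2 lc_c_rc_26_2 lc_c_rc_24_2 lc_c_rc_20_2 lc_c_rc_21_2 lc_c_rc_25_2 lc_c_rc_23_2 lc_c_rc_21_2 lc_c_rc_24_2 lc_c_rc_20_2 lc_c_rc_20_2 lc_c_rc_22_2 lc_c_rc_21_2 lc_c_rc_24_2 lc_c_rc_23_2 lc_c_rc_20_2 lc_c_rc_26_2 lc_c_rc_21_2 lc_c_rc_21_2 lc_c_rc_25_2 lc_c_rc_24_2 lc_c_rc_26_2 lc_c_rc_23_2 lc_c_rc_21_2 lc_c_rc_22_2 lc_c_rc_20_4 lc_c_rc_26_2 lc_c_rc_22_2 lc_c_rc_26_2 lc_c_rc_2_1 lc_c_rc_2_1 lc_c_rc_21_2 lc_c_rc_24_2 lc_c_rc_23_2 lc_c_rc_23_0 lc_c_rc_26_2 lc_c_rc_21_2 lc_c_rc_21_2 lc_c_rc_26_2 lc_c_rc_11_3 lc_c_rc_21_2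 lc_c_rc_21_2 lc_c_rc_25_2 lc_c_rc_24_2 lc_c_rc_2_1 lc_c_rc_26_2 lc_c_rc_21_2 lc_c_rc_20_2 lc_c_rc_23_2 lc_c_rc_21_2 lc_c_rc_21_2) (@D3.rec (fun _ => (Cert rels S Gen.c)) lc_c_Cert_tree lc_c_rc_21_2 lc_c_rc_26_2 lc_c_rc_26_2 lc_c_rc_11_5 lc_c_rc_26_2 lc_c_rc_20_2 lc_c_rc_21_2 lc_c_rc_21_2 lc_c_rc_25_2 lc_c_rc_24_2 lc_c_rc_20_2 lc_c_rc_26_2 lc_c_rc_20_2 lc_c_rc_23_2 lc_c_rc_21_2 lc_c_rc_21_2 lc_c_Cert_tree lc_c_rc_21_2 lc_c_rc_25_2 lc_c_rc_26_2 lc_c_rc_23_2 lc_c_rc_23_2 lc_c_rc_22_2 lc_c_Cert_tree lc_c_rc_26_2 lc_c_rc_19_0 lc_c_rc_26_2 lc_c_rc_26_2 lc_c_rc_2_1 lc_c_rc_2_1 lc_c_rc_2_1 lc_c_Cert_tree lc_c_rc_2_1 lc_c_rc_20_2 lc_c_rc_21_2 lc_c_rc_21_2 lc_c_rc_25_2 lc_c_rc_24_2 lc_c_rc_25_0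 lc_c_rc_26_2 lc_c_rc_2_1 lc_c_rc_2_1 lc_c_rc_23_2 lc_c_rc_21_2 lc_c_rc_21_2 lc_c_rc_20_4 lc_c_rc_21_2 lc_c_rc_26_2 lc_c_rc_20_2 lc_c_rc_20_2) (@D3.rec (fun _ => (Cert rels S Gen.c)) lc_c_rc_23_2 lc_c_rc_21_2 lc_c_rc_21_2 lc_c_Cert_tree lc_c_rc_21_2 lc_c_rc_25_2 lc_c_rc_2_1 lc_c_rc_26_2 lc_c_rc_21_2 lc_c_rc_20_2 lc_c_rc_23_2 lc_c_rc_21_2 lc_c_rc_22_2 lc_c_rc_23_2 lc_c_rc_23_2 lc_c_rc_21_2 lc_c_Cert_tree lc_c_rc_21_2 lc_c_rc_19_0 lc_c_rc_26_2 lc_c_rc_26_2 lc_c_rc_24_2 lc_c_rc_23_2 lc_c_rc_21_2 lc_c_rc_26_2 lc_c_rc_26_2 lc_c_rc_21_2 lc_c_rc_11_3 lc_c_rc_26_2 lc_c_rc_55_55 lc_c_rc_20_2 lc_c_rc_22_2 lc_c_rc_23_2 lc_c_rc_21_2 lc_c_rc_21_2 lc_c_Cert_tree lc_c_rc_21_2 lc_c_rc_25_2 lc_c_rc_20_2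 lc_c_rc_26_2 lc_c_rc_21_2 lc_c_rc_20_2 lc_c_rc_22_2 lc_c_rc_23_2 lc_c_rc_23_2 lc_c_rc_21_2 lc_c_Cert_tree lc_c_rc_21_2 lc_c_rc_19_0 lc_c_rc_26_2 lc_c_rc_26_2) (@D3.rec (fun _ => (Cert rels S Gen.c)) lc_c_rc_24_2 lc_c_rc_23_2 lc_c_Cert_tree lc_c_rc_26_2 lc_c_Cert_tree lc_c_rc_26_2 lc_c_rc_19_0 lc_c_rc_26_2 lc_c_rc_11_3 lc_c_rc_26_2 lc_c_rc_22_2 lc_c_rc_2_1 lc_c_rc_2_1 lc_c_rc_2_1 lc_c_rc_2_1 lc_c_rc_2_1 lc_c_Cert_tree lc_c_rc_2_1 lc_c_rc_19_0 lc_c_rc_26_2 lc_c_rc_2_1 lc_c_rc_2_1 lc_c_rc_23_2 lc_c_rc_21_2 lc_c_rc_21_2 lc_c_Cert_tree lc_c_rc_21_2 lc_c_rc_25_2 lc_c_rc_23_0 lc_c_rc_26_2 lc_c_rc_20_2 lc_c_rc_2_1 lc_c_rc_2_1 lc_c_rc_2_1 lc_c_rc_2_1 lc_c_rc_23_2 lc_c_rc_23_2 lc_c_rc_21_2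 lc_c_Cert_tree lc_c_rc_21_2 lc_c_rc_19_0 lc_c_rc_26_2 lc_c_rc_26_2 lc_c_rc_20_2 lc_c_rc_20_2 lc_c_rc_22_2 lc_c_Cert_tree lc_c_rc_26_2 lc_c_rc_23_2 lc_c_rc_23_2 lc_c_rc_21_2) (@D3.rec (fun _ => (Cert rels S Gen.c)) lc_c_Cert_tree lc_c_rc_21_2 lc_c_rc_19_0 lc_c_rc_21_2 lc_c_rc_26_2 lc_c_rc_21_0 lc_c_rc_26_2 lc_c_rc_21_2 lc_c_rc_20_2 lc_c_rc_23_2 lc_c_rc_21_2 lc_c_rc_22_2 lc_c_rc_24_2 lc_c_rc_23_2 lc_c_rc_22_2 lc_c_rc_24_2 lc_c_rc_23_2 lc_c_Cert_tree lc_c_rc_23_2 lc_c_Cert_tree lc_c_rc_21_2 lc_c_rc_19_0 lc_c_rc_26_2 lc_c_rc_11_3 lc_c_rc_26_2 lc_c_rc_22_2 lc_c_rc_24_2 lc_c_Cert_tree lc_c_rc_26_2 lc_c_rc_19_0 lc_c_rc_21_2 lc_c_rc_26_2 lc_c_rc_19_0 lc_c_rc_26_2 lc_c_rc_11_3 lc_c_rc_26_2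 lc_c_rc_22_2 lc_c_rc_2_1 lc_c_rc_11_3 lc_c_rc_22_2 lc_c_rc_11_3 lc_c_rc_23_2 lc_c_rc_22_2 lc_c_rc_25_0 lc_c_rc_25_0 lc_c_rc_23_2 lc_c_rc_26_2 lc_c_rc_2_1 lc_c_rc_23_2 lc_c_rc_20_2 lc_c_rc_26_2) (@D3.rec (fun _ => (Cert rels S Gen.c)) lc_c_rc_25_2 lc_c_rc_23_0 lc_c_rc_25_0 lc_c_rc_26_2 lc_c_rc_21_2 lc_c_rc_21_2 lc_c_Cert_tree lc_c_rc_21_2 lc_c_rc_20_4 lc_c_rc_20_4 lc_c_rc_11_3 lc_c_rc_11_3 lc_c_rc_21_2 lc_c_rc_24_2 lc_c_rc_23_2 lc_c_rc_2_1 lc_c_rc_26_2 lc_c_rc_21_2 lc_c_rc_21_2 lc_c_rc_25_2 lc_c_rc_24_2 lc_c_rc_26_2 lc_c_rc_20_2 lc_c_rc_21_2 lc_c_rc_21_2 lc_c_rc_25_2 lc_c_rc_24_2 lc_c_rc_20_2 lc_c_rc_26_2 lc_c_rc_21_2 lc_c_rc_20_2 lc_c_rc_23_2 lc_c_rc_21_2 lc_c_rc_21_2 lc_c_Cert_tree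 lc_c_rc_21_2 lc_c_rc_25_2 lc_c_rc_26_2 lc_c_rc_26_2 lc_c_rc_2_1 lc_c_rc_22_2 lc_c_rc_11_5 lc_c_rc_26_2 lc_c_rc_19_0 lc_c_rc_26_2 lc_c_rc_26_2 lc_c_rc_11_3 lc_c_rc_11_3 lc_c_rc_11_3 lc_c_rc_11_3 lc_c_rc_2_1) (@D3.rec (fun _ => (Cert rels S Gen.c)) lc_c_rc_21_2 lc_c_rc_21_2 lc_c_rc_25_2 lc_c_rc_24_2 lc_c_rc_20_2 lc_c_rc_26_2 lc_c_rc_20_2 lc_c_rc_23_2 lc_c_rc_21_2 lc_c_rc_21_2 lc_c_Cert_tree lc_c_rc_21_2 lc_c_rc_25_2 lc_c_rc_26_2 lc_c_rc_20_2 lc_c_rc_22_2 lc_c_rc_23_2 lc_c_rc_21_2 lc_c_rc_21_2 lc_c_Cert_tree lc_c_rc_21_2 lc_c_rc_25_2 lc_c_rc_20_2 lc_c_rc_26_2 lc_c_rc_21_2 lc_c_rc_20_2 lc_c_rc_20_2 lc_c_rc_20_2 lc_c_rc_22_2 lc_c_rc_23_2 lc_c_rc_23_2 lc_c_rc_21_2 lc_c_Cert_tree lc_c_rc_21_2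 lc_c_rc_19_0 lc_c_rc_26_2 lc_c_rc_26_2 lc_c_rc_24_2 lc_c_rc_21_2 lc_c_rc_26_2 lc_c_rc_20_4 lc_c_rc_11_3 lc_c_rc_26_2 lc_c_rc_22_2 lc_c_rc_11_3 lc_c_rc_24_2 lc_c_rc_23_2 lc_c_rc_2_1 lc_c_rc_26_2 lc_c_rc_24_2 lc_c_rc_23_2) (@D3.rec (fun _ => (Cert rels S Gen.c)) lc_c_rc_24_2 lc_c_rc_24_2 lc_c_rc_26_2 lc_c_rc_21_2 lc_c_rc_24_2 lc_c_rc_20_2 lc_c_rc_26_2 lc_c_rc_21_2 lc_c_rc_20_2 lc_c_rc_23_2 lc_c_rc_24_2 lc_c_Cert_tree lc_c_rc_21_2 lc_c_rc_24_2 lc_c_rc_26_2 lc_c_rc_23_2 lc_c_rc_23_2 lc_c_rc_21_2 lc_c_Cert_tree lc_c_rc_21_2 lc_c_rc_19_0 lc_c_rc_26_2 lc_c_rc_20_4 lc_c_rc_11_3 lc_c_rc_11_3 lc_c_rc_11_3 lc_c_rc_11_3 lc_c_rc_2_1 lc_c_rc_21_2 lc_c_rc_21_2 lc_c_rc_25_2 lc_c_rc_24_2 lc_c_rc_2_1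 lc_c_rc_26_2 lc_c_rc_2_1 lc_c_rc_23_2 lc_c_rc_21_2 lc_c_rc_21_2 lc_c_Cert_tree lc_c_rc_21_2 lc_c_rc_25_2 lc_c_rc_26_2 lc_c_rc_20_2 lc_c_rc_22_2 lc_c_rc_23_2 lc_c_rc_21_2 lc_c_rc_21_2 lc_c_Cert_tree lc_c_rc_21_2 lc_c_rc_25_2 lc_c_rc_20_2) (@D3.rec (fun _ => (Cert rels S Gen.c)) lc_c_rc_26_2 lc_c_rc_21_2 lc_c_rc_20_2 lc_c_rc_23_2 lc_c_rc_21_2 lc_c_rc_22_2 lc_c_rc_23_2 lc_c_rc_23_2 lc_c_rc_21_2 lc_c_Cert_tree lc_c_rc_21_2 lc_c_rc_19_0 lc_c_rc_26_2 lc_c_rc_26_2 lc_c_rc_24_2 lc_c_rc_23_2 lc_c_Cert_tree lc_c_rc_26_2 lc_c_Cert_tree lc_c_rc_26_2 lc_c_rc_19_0 lc_c_rc_26_2 lc_c_rc_11_3 lc_c_rc_26_2 lc_c_rc_22_2 lc_c_Cert_tree lc_c_rc_11_3 lc_c_rc_11_3 lc_c_rc_11_3 lc_c_rc_11_3 lc_c_rc_11_3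 lc_c_rc_2_1 lc_c_rc_2_1 lc_c_rc_23_2 lc_c_rc_21_2 lc_c_rc_21_2 lc_c_Cert_tree lc_c_rc_21_2 lc_c_rc_25_2 lc_c_rc_20_2 lc_c_rc_26_2 lc_c_rc_21_2 lc_c_rc_20_2 lc_c_rc_22_2 lc_c_rc_23_2 lc_c_rc_23_2 lc_c_rc_21_2 lc_c_Cert_tree lc_c_rc_21_2 lc_c_rc_19_0 lc_c_rc_26_2) (@D3.rec (fun _ => (Cert rels S Gen.c)) lc_c_rc_26_2 lc_c_rc_20_2 lc_c_rc_20_2 lc_c_rc_22_2 lc_c_Cert_tree lc_c_rc_26_2 lc_c_rc_23_2 lc_c_rc_23_2 lc_c_rc_21_2 lc_c_Cert_tree lc_c_rc_21_2 lc_c_rc_19_0 lc_c_rc_21_2 lc_c_rc_26_2 lc_c_rc_20_2 lc_c_rc_26_2 lc_c_rc_21_2 lc_c_rc_20_2 lc_c_rc_21_2 lc_c_rc_21_2 lc_c_rc_22_2 lc_c_rc_20_2 lc_c_rc_20_2 lc_c_rc_22_2 lc_c_rc_24_2 lc_c_rc_23_2 lc_c_Cert_tree lc_c_rc_23_2 lc_c_Cert_tree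 lc_c_rc_21_2 lc_c_rc_19_0 lc_c_rc_26_2 lc_c_rc_11_3 lc_c_rc_26_2 lc_c_rc_22_2 lc_c_rc_22_2 lc_c_rc_20_4 lc_c_rc_26_2 lc_c_rc_19_0 lc_c_rc_21_2 lc_c_rc_26_2 lc_c_rc_20_4 lc_c_rc_11_3 lc_c_rc_26_2 lc_c_rc_22_2 lc_c_rc_2_1 lc_c_rc_11_3 lc_c_rc_22_2 lc_c_rc_11_3 lc_c_rc_56_44 lc_c_rc_11_3) (@D3.rec (fun _ => (Cert rels S Gen.c)) lc_c_rc_24_2 lc_c_rc_2_1 lc_c_rc_26_2 lc_c_rc_2_1 lc_c_rc_23_2 lc_c_rc_26_2 lc_c_rc_21_2 lc_c_rc_56_23 lc_c_rc_21_2 lc_c_rc_25_2 lc_c_rc_20_2 lc_c_rc_26_2 lc_c_rc_21_2 lc_c_rc_20_2 lc_c_rc_23_2 lc_c_rc_21_2 lc_c_rc_22_2 lc_c_rc_56_9 lc_c_rc_55_82 lc_c_rc_21_2 lc_c_rc_26_2 lc_c_rc_23_2 lc_c_rc_21_0 lc_c_rc_23_2 lc_c_rc_56_9 lc_c_rc_21_2 lc_c_rc_19_0 lc_c_rc_26_2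 lc_c_rc_22_2 lc_c_rc_26_2 lc_c_rc_11_3 lc_c_rc_11_3 lc_c_rc_11_3 lc_c_rc_11_3 lc_c_rc_11_3 lc_c_rc_23_2 lc_c_rc_21_2 lc_c_rc_21_2 lc_c_rc_26_0 lc_c_rc_21_2 lc_c_rc_25_2 lc_c_rc_2_1 lc_c_rc_26_2 lc_c_rc_2_1 lc_c_rc_2_1 lc_c_rc_2_1 lc_c_rc_23_2 lc_c_rc_23_2 lc_c_rc_21_2 lc_c_rc_21_2 lc_c_rc_26_2) (@D3.rec (fun _ => (Cert rels S Gen.c)) lc_c_rc_20_2 lc_c_rc_20_2 lc_c_rc_22_2 lc_c_rc_26_0 lc_c_rc_26_2 lc_c_rc_23_2 lc_c_rc_23_2 lc_c_rc_21_2 lc_c_Cert_tree lc_c_rc_21_2 lc_c_rc_19_0 lc_c_rc_21_2 lc_c_rc_26_2 lc_c_rc_20_2 lc_c_rc_26_2 lc_c_rc_21_2 lc_c_rc_20_2 lc_c_rc_23_2 lc_c_rc_21_2 lc_c_rc_22_2 lc_c_rc_24_2 lc_c_rc_23_2 lc_c_rc_22_2 lc_c_rc_24_2 lc_c_rc_23_2 lc_c_Cert_tree lc_c_rc_23_2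 lc_c_Cert_tree lc_c_rc_21_2 lc_c_rc_19_0 lc_c_rc_26_2 lc_c_rc_11_3 lc_c_rc_26_2 lc_c_rc_24_2 lc_c_Cert_tree lc_c_rc_26_2 lc_c_rc_19_0 lc_c_rc_21_2 lc_c_rc_26_2 lc_c_rc_19_0 lc_c_rc_26_2 lc_c_rc_11_3 lc_c_rc_26_2 lc_c_rc_22_2 lc_c_rc_23_2 lc_c_rc_11_3 lc_c_rc_22_2 lc_c_rc_26_2 lc_c_rc_26_0 lc_c_rc_11_3 lc_c_rc_11_3) (@D3.rec (fun _ => (Cert rels S Gen.c)) lc_c_rc_11_3 lc_c_Cert_tree lc_c_rc_11_3 lc_c_rc_11_3 lc_c_rc_11_3 lc_c_rc_2_1 lc_c_rc_2_1 lc_c_rc_2_1 lc_c_rc_22_2 lc_c_rc_2_1 lc_c_rc_23_2 lc_c_rc_23_2 lc_c_rc_21_2 lc_c_Cert_tree lc_c_rc_21_2 lc_c_rc_19_0 lc_c_rc_21_2 lc_c_rc_26_2 lc_c_rc_20_2 lc_c_rc_26_2 lc_c_rc_21_2 lc_c_rc_20_2 lc_c_rc_21_2 lc_c_rc_22_2 lc_c_rc_24_2 lc_c_rc_23_2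 lc_c_Cert_tree lc_c_rc_23_2 lc_c_Cert_tree lc_c_rc_21_2 lc_c_rc_19_0 lc_c_rc_26_2 lc_c_rc_11_3 lc_c_rc_26_2 lc_c_rc_21_2 lc_c_rc_20_2 lc_c_rc_22_2 lc_c_rc_22_2 lc_c_Cert_tree lc_c_rc_26_2 lc_c_rc_19_0 lc_c_rc_21_2 lc_c_rc_26_2 lc_c_rc_24_2 lc_c_rc_23_2 lc_c_Cert_tree lc_c_rc_23_2 lc_c_Cert_tree lc_c_rc_21_2 lc_c_rc_19_0 lc_c_rc_21_2) (@D3.rec (fun _ => (Cert rels S Gen.c)) lc_c_rc_26_2 lc_c_rc_11_3 lc_c_rc_21_2 lc_c_rc_26_2 lc_c_rc_23_2 lc_c_rc_26_2 lc_c_rc_22_2 lc_c_rc_21_2 lc_c_rc_20_2 lc_c_rc_23_2 lc_c_rc_21_2 lc_c_rc_22_2 lc_c_rc_21_2 lc_c_rc_21_2 lc_c_rc_22_2 lc_c_rc_20_2 lc_c_rc_20_2 lc_c_rc_22_2 lc_c_rc_24_2 lc_c_Cert_tree lc_c_rc_23_2 lc_c_rc_19_0 lc_c_rc_21_2 lc_c_rc_26_2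 lc_c_rc_19_0 lc_c_rc_26_2 lc_c_rc_11_3 lc_c_rc_26_2 lc_c_rc_22_2 lc_c_rc_2_1 lc_c_rc_11_3 lc_c_rc_22_2 lc_c_Cert_tree lc_c_rc_26_2 lc_c_rc_19_0 lc_c_rc_21_2 lc_c_rc_26_2 lc_c_rc_11_3 lc_c_rc_21_2 lc_c_rc_26_2 lc_c_rc_26_2 lc_c_rc_22_2 lc_c_rc_11_3 lc_c_rc_26_2 lc_c_rc_22_2 lc_c_rc_2_1 lc_c_rc_11_3 lc_c_rc_22_2 lc_c_rc_2_1 lc_c_rc_11_3 lc_c_rc_20_2) (@D3.rec (fun _ => (Cert rels S Gen.c)) lc_c_rc_22_0 lc_c_rc_24_2 lc_c_rc_21_2 lc_c_rc_20_2 lc_c_rc_22_2 lc_c_rc_22_2 lc_c_rc_26_2 lc_c_rc_24_2 lc_c_rc_24_2 lc_c_Cert_tree lc_c_rc_19_0 lc_c_rc_21_2 lc_c_rc_19_0 lc_c_rc_11_3 lc_c_rc_11_5 lc_c_rc_25_2 lc_c_rc_19_0 lc_c_rc_25_2 lc_c_rc_21_2 lc_c_rc_11_3 lc_c_rc_23_2 lc_c_rc_56_9 lc_c_rc_26_2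 lc_c_rc_22_2 lc_c_rc_2_1 lc_c_rc_26_0 lc_c_rc_20_2 lc_c_rc_2_1 lc_c_rc_2_1 lc_c_rc_2_1 lc_c_rc_2_1 lc_c_rc_2_1 lc_c_rc_24_2 lc_c_rc_24_2 lc_c_Cert_tree lc_c_rc_19_0 lc_c_rc_21_2 lc_c_rc_19_0 lc_c_rc_11_3 lc_c_rc_23_2 lc_c_rc_21_2 lc_c_rc_22_2 lc_c_rc_20_2 lc_c_rc_22_2 lc_c_Cert_tree lc_c_rc_26_2 lc_c_Cert_tree lc_c_rc_26_2 lc_c_rc_19_0 lc_c_rc_26_2 lc_c_rc_11_3) (@D3.rec (fun _ => (Cert rels S Gen.c)) lc_c_rc_26_2 lc_c_rc_24_2 lc_c_Cert_tree lc_c_rc_19_0 lc_c_rc_21_2 lc_c_rc_19_0 lc_c_rc_11_3 lc_c_rc_2_1 lc_c_Cert_tree lc_c_rc_20_0 lc_c_rc_19_0 lc_c_rc_21_2 lc_c_rc_26_2 lc_c_rc_11_3 lc_c_rc_21_2 lc_c_rc_26_2 lc_c_rc_26_2 lc_c_rc_22_2 lc_c_rc_11_3 lc_c_rc_26_2 lc_c_rc_22_2 lc_c_rc_2_1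 lc_c_rc_11_3 lc_c_rc_22_2 lc_c_rc_2_1 lc_c_rc_11_3 lc_c_rc_22_0 lc_c_rc_19_0 lc_c_rc_55_10 lc_c_rc_11_1 lc_c_rc_11_3 lc_c_rc_2_3 lc_c_rc_2_1 lc_c_rc_11_3 lc_c_rc_11_3 lc_c_rc_22_2 lc_c_rc_2_1 lc_c_rc_2_1 lc_c_rc_11_3 lc_c_rc_22_2 lc_c_rc_2_1 lc_c_rc_11_3 lc_c_rc_20_2 lc_c_rc_2_1 lc_c_rc_20_4 lc_c_rc_56_9 lc_c_rc_21_2 lc_c_rc_23_2 lc_c_rc_22_2 lc_c_rc_20_2 lc_c_rc_20_2) (@D3.rec (fun _ => (Cert rels S Gen.c)) lc_c_rc_21_2 lc_c_rc_21_2 lc_c_rc_23_2 lc_c_rc_22_2 lc_c_rc_23_2 lc_c_rc_23_2 lc_c_rc_23_2 lc_c_rc_23_2 lc_c_rc_20_0 lc_c_rc_24_2 lc_c_rc_26_2 lc_c_rc_26_2 lc_c_rc_20_2 lc_c_rc_22_2 lc_c_rc_21_2 lc_c_rc_22_2 lc_c_rc_19_0 lc_c_rc_23_2 lc_c_rc_22_2 lc_c_rc_11_5 lc_c_rc_2_1 lc_c_rc_21_2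 lc_c_rc_21_2 lc_c_rc_24_2 lc_c_rc_26_2 lc_c_rc_21_2 lc_c_rc_26_2 lc_c_rc_2_1 lc_c_rc_11_3 lc_c_rc_11_3 lc_c_rc_21_2 lc_c_rc_24_2 lc_c_rc_2_1 lc_c_rc_26_2 lc_c_rc_2_1 lc_c_rc_11_1 lc_c_rc_20_0 lc_c_rc_20_4 lc_c_rc_21_2 lc_c_rc_2_1 lc_c_rc_26_2 lc_c_rc_11_3 lc_c_rc_23_2 lc_c_rc_21_2 lc_c_Cert_tree lc_c_rc_21_2 lc_c_rc_26_2 lc_c_rc_21_2 lc_c_rc_20_2 lc_c_rc_23_2 lc_c_rc_21_2) (@D3.rec (fun _ => (Cert rels S Gen.c)) lc_c_rc_23_2 lc_c_rc_2_3 lc_c_Cert_tree lc_c_rc_21_2 lc_c_rc_19_0 lc_c_rc_26_2 lc_c_rc_2_3 lc_c_rc_26_2 lc_c_rc_56_30 lc_c_rc_20_4 lc_c_rc_11_3 lc_c_rc_26_2 lc_c_rc_22_0 lc_c_rc_22_2 lc_c_rc_23_2 lc_c_rc_21_2 lc_c_rc_21_2 lc_c_Cert_tree lc_c_rc_21_2 lc_c_rc_25_2 lc_c_rc_26_2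 lc_c_rc_23_2 lc_c_rc_23_2 lc_c_rc_21_2 lc_c_rc_19_0 lc_c_rc_26_2 lc_c_rc_26_2 lc_c_rc_26_2 lc_c_rc_2_3 lc_c_rc_21_2 lc_c_rc_2_1 lc_c_rc_11_3 lc_c_rc_11_3 lc_c_rc_11_3 lc_c_rc_23_2 lc_c_rc_21_2 lc_c_rc_2_3 lc_c_rc_21_2 lc_c_rc_25_2 lc_c_rc_2_1 lc_c_rc_26_2 lc_c_rc_2_1 lc_c_rc_2_1 lc_c_rc_23_2 lc_c_rc_23_2 lc_c_rc_21_2 lc_c_rc_24_2 lc_c_rc_21_2 lc_c_rc_26_2 lc_c_rc_26_2 lc_c_rc_20_2) (@D3.rec (fun _ => (Cert rels S Gen.c)) lc_c_rc_21_2 lc_c_rc_19_1 lc_c_rc_26_2 lc_c_rc_23_2 lc_c_rc_23_2 lc_c_rc_21_2 lc_c_Cert_tree lc_c_rc_21_2 lc_c_rc_19_0 lc_c_rc_21_2 lc_c_rc_26_2 lc_c_rc_26_2 lc_c_rc_21_2 lc_c_rc_20_2 lc_c_rc_23_2 lc_c_rc_21_2 lc_c_rc_24_2 lc_c_rc_23_2 lc_c_rc_24_2 lc_c_rc_23_2 lc_c_Cert_tree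 lc_c_rc_23_2 lc_c_Cert_tree lc_c_rc_21_2 lc_c_rc_19_0 lc_c_rc_26_2 lc_c_rc_11_3 lc_c_rc_26_2 lc_c_rc_22_2 lc_c_rc_24_2 lc_c_rc_22_2 lc_c_rc_26_2 lc_c_rc_19_0 lc_c_rc_22_2 lc_c_rc_26_2 lc_c_rc_19_0 lc_c_rc_26_2 lc_c_rc_11_3 lc_c_rc_26_2 lc_c_rc_22_2 lc_c_rc_56_23 lc_c_rc_11_3 lc_c_rc_22_2 lc_c_rc_19_0 lc_c_rc_26_2 lc_c_rc_19_0 lc_c_rc_26_2 lc_c_rc_22_2 lc_c_rc_20_2 lc_c_rc_20_2 lc_c_rc_22_2) (@D3.rec (fun _ => (Cert rels S Gen.c)) lc_c_rc_21_2 lc_c_rc_26_2 lc_c_rc_23_2 lc_c_rc_23_2 lc_c_rc_21_2 lc_c_Cert_tree lc_c_rc_21_2 lc_c_rc_19_0 lc_c_rc_26_2 lc_c_rc_26_2 lc_c_rc_24_2 lc_c_rc_23_2 lc_c_Cert_tree lc_c_rc_23_2 lc_c_Cert_tree lc_c_rc_21_2 lc_c_rc_19_0 lc_c_rc_26_2 lc_c_rc_11_3 lc_c_rc_26_2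 lc_c_rc_22_2 lc_c_rc_26_2 lc_c_rc_19_0 lc_c_rc_26_2 lc_c_rc_19_0 lc_c_rc_26_2 lc_c_rc_11_3 lc_c_rc_26_2 lc_c_rc_22_2 lc_c_rc_2_1 lc_c_rc_11_3 lc_c_rc_22_2 lc_c_rc_2_1 lc_c_rc_20_2 lc_c_rc_2_1 lc_c_rc_2_1 lc_c_rc_11_3 lc_c_rc_22_0 lc_c_rc_11_3 lc_c_rc_11_3 lc_c_rc_11_3 lc_c_rc_2_1 lc_c_rc_2_1 lc_c_rc_2_1 lc_c_Cert_tree lc_c_rc_2_1 lc_c_rc_23_2 lc_c_rc_23_2 lc_c_rc_21_2 lc_c_Cert_tree lc_c_rc_21_2) (@D3.rec (fun _ => (Cert rels S Gen.c)) lc_c_rc_19_0 lc_c_rc_21_2 lc_c_rc_26_2 lc_c_rc_2_1 lc_c_rc_26_2 lc_c_rc_2_1 lc_c_rc_2_1 lc_c_rc_2_1 lc_c_rc_24_2 lc_c_rc_23_2 lc_c_Cert_tree lc_c_rc_23_2 lc_c_Cert_tree lc_c_rc_21_2 lc_c_rc_19_0 lc_c_rc_26_2 lc_c_rc_11_3 lc_c_rc_26_2 lc_c_rc_22_2 lc_c_rc_21_2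 lc_c_rc_20_2 lc_c_rc_22_2 lc_c_rc_22_2 lc_c_Cert_tree lc_c_rc_26_2 lc_c_rc_19_0 lc_c_rc_21_2 lc_c_rc_26_2 lc_c_rc_24_2 lc_c_rc_23_2 lc_c_Cert_tree lc_c_rc_23_2 lc_c_Cert_tree lc_c_rc_21_2 lc_c_rc_19_0 lc_c_rc_21_2 lc_c_rc_26_2 lc_c_rc_11_3 lc_c_rc_21_2 lc_c_rc_26_2 lc_c_rc_23_2 lc_c_rc_26_2 lc_c_rc_22_2 lc_c_rc_21_2 lc_c_rc_20_2 lc_c_rc_23_2 lc_c_rc_21_2 lc_c_rc_24_2 lc_c_rc_23_2 lc_c_rc_25_2 lc_c_rc_24_2) (@D3.rec (fun _ => (Cert rels S Gen.c)) lc_c_rc_24_2 lc_c_Cert_tree lc_c_rc_23_2 lc_c_rc_19_0 lc_c_rc_21_2 lc_c_rc_26_2 lc_c_rc_19_0 lc_c_rc_26_2 lc_c_rc_11_3 lc_c_rc_26_2 lc_c_rc_22_2 lc_c_rc_2_1 lc_c_rc_11_3 lc_c_rc_22_2 lc_c_rc_20_4 lc_c_rc_26_2 lc_c_rc_19_0 lc_c_rc_21_2 lc_c_rc_26_2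 lc_c_rc_11_3 lc_c_rc_21_2 lc_c_rc_26_2 lc_c_rc_26_2 lc_c_rc_22_2 lc_c_rc_11_3 lc_c_rc_26_2 lc_c_rc_22_2 lc_c_rc_2_1 lc_c_rc_11_3 lc_c_rc_22_2 lc_c_rc_2_1 lc_c_rc_11_3 lc_c_rc_20_2 lc_c_rc_11_3 lc_c_rc_2_1 lc_c_rc_21_2 lc_c_rc_21_2 lc_c_rc_24_2 lc_c_rc_26_2 lc_c_rc_23_2 lc_c_rc_21_2 lc_c_rc_21_2 lc_c_Cert_tree lc_c_rc_21_2 lc_c_rc_22_2 lc_c_rc_26_2 lc_c_rc_22_2 lc_c_rc_23_2 lc_c_rc_21_2 lc_c_Cert_tree lc_c_rc_21_2) (@D3.rec (fun _ => (Cert rels S Gen.c)) lc_c_rc_25_2 lc_c_rc_20_2 lc_c_rc_26_2 lc_c_rc_21_2 lc_c_rc_20_2 lc_c_rc_21_2 lc_c_rc_19_0 lc_c_rc_26_2 lc_c_rc_26_2 lc_c_rc_22_2 lc_c_rc_2_1 lc_c_rc_23_2 lc_c_rc_21_2 lc_c_rc_21_2 lc_c_Cert_tree lc_c_rc_21_2 lc_c_rc_25_2 lc_c_rc_26_2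 lc_c_rc_11_1 lc_c_rc_23_2 lc_c_rc_21_2 lc_c_rc_21_2 lc_c_rc_21_2 lc_c_rc_19_0 lc_c_rc_26_2 lc_c_rc_26_2 lc_c_rc_20_2 lc_c_Cert_tree lc_c_rc_26_2 lc_c_rc_23_2 lc_c_rc_23_2 lc_c_rc_21_2 lc_c_Cert_tree lc_c_rc_21_2 lc_c_rc_19_0 lc_c_rc_21_2 lc_c_rc_26_2 lc_c_rc_26_2 lc_c_rc_20_2 lc_c_rc_23_2 lc_c_rc_21_2 lc_c_rc_24_2 lc_c_rc_23_2 lc_c_rc_24_2 lc_c_rc_23_2 lc_c_Cert_tree lc_c_rc_23_2 lc_c_rc_25_2 lc_c_rc_21_2 lc_c_rc_19_0 lc_c_rc_26_2) (@D3.rec (fun _ => (Cert rels S Gen.c)) lc_c_rc_11_3 lc_c_rc_26_2 lc_c_rc_22_2 lc_c_rc_25_0 lc_c_rc_56_37 lc_c_rc_21_2 lc_c_rc_2_3 lc_c_rc_19_0 lc_c_rc_26_2 lc_c_rc_11_3 lc_c_rc_26_2 lc_c_rc_22_2 lc_c_rc_2_1 lc_c_rc_11_3 lc_c_rc_22_2 lc_c_rc_11_3 lc_c_rc_2_1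 lc_c_rc_2_1 lc_c_rc_23_2 lc_c_rc_21_2 lc_c_rc_21_2 lc_c_Cert_tree lc_c_rc_21_2 lc_c_rc_25_2 lc_c_rc_26_2 lc_c_rc_23_2 lc_c_rc_23_2 lc_c_rc_21_2 lc_c_Cert_tree lc_c_rc_21_2 lc_c_rc_19_0 lc_c_rc_26_2 lc_c_rc_26_2 lc_c_rc_20_2 lc_c_rc_22_2 lc_c_Cert_tree lc_c_rc_26_2 lc_c_rc_23_2 lc_c_rc_23_2 lc_c_rc_21_2 lc_c_Cert_tree lc_c_rc_21_2 lc_c_rc_19_0 lc_c_rc_21_2 lc_c_rc_26_2 lc_c_rc_20_2 lc_c_rc_26_2 lc_c_rc_21_2 lc_c_rc_20_2 lc_c_rc_21_2 lc_c_rc_24_2)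
def ce_c_8 : D2 → D3 → (Cert rels S Gen.c) := @D2.rec (fun _ => D3 → (Cert rels S Gen.c)) (@D3.rec (fun _ => (Cert rels S Gen.c)) lc_c_rc_23_2 lc_c_Cert_tree lc_c_rc_23_2 lc_c_rc_21_2 lc_c_rc_19_0 lc_c_rc_26_2 lc_c_rc_11_3 lc_c_rc_26_2 lc_c_rc_22_2 lc_c_rc_21_2 lc_c_rc_21_2 lc_c_rc_23_2 lc_c_rc_22_2 lc_c_rc_2_1 lc_c_rc_11_3 lc_c_rc_22_2 lc_c_rc_11_3 lc_c_rc_11_3 lc_c_rc_2_1 lc_c_rc_2_1 lc_c_Cert_tree lc_c_rc_2_1 lc_c_rc_23_2 lc_c_rc_23_2 lc_c_rc_21_2 lc_c_Cert_tree lc_c_rc_21_2 lc_c_rc_19_0 lc_c_rc_26_2 lc_c_rc_26_2 lc_c_rc_24_2 lc_c_rc_23_2 lc_c_Cert_tree lc_c_rc_23_2 lc_c_rc_21_2 lc_c_rc_21_2 lc_c_rc_19_0 lc_c_rc_26_2 lc_c_rc_11_3 lc_c_rc_26_2 lc_c_rc_22_2 lc_c_rc_21_2 lc_c_rc_20_2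 lc_c_rc_22_2 lc_c_Cert_tree lc_c_rc_26_2 lc_c_rc_19_0 lc_c_rc_21_2 lc_c_rc_26_2 lc_c_rc_24_2 lc_c_rc_23_2) (@D3.rec (fun _ => (Cert rels S Gen.c)) lc_c_Cert_tree lc_c_rc_23_2 lc_c_Cert_tree lc_c_rc_21_2 lc_c_rc_19_0 lc_c_rc_21_2 lc_c_rc_26_2 lc_c_rc_11_3 lc_c_rc_21_2 lc_c_rc_26_2 lc_c_rc_23_2 lc_c_rc_26_2 lc_c_rc_22_2 lc_c_rc_20_2 lc_c_rc_23_2 lc_c_rc_21_2 lc_c_rc_24_2 lc_c_rc_23_2 lc_c_rc_25_2 lc_c_rc_24_2 lc_c_rc_24_2 lc_c_Cert_tree lc_c_rc_23_2 lc_c_rc_19_0 lc_c_rc_21_2 lc_c_rc_26_2 lc_c_rc_19_0 lc_c_rc_26_2 lc_c_rc_11_3 lc_c_rc_26_2 lc_c_rc_22_2 lc_c_rc_2_1 lc_c_rc_11_3 lc_c_rc_22_2 lc_c_rc_25_0 lc_c_rc_26_2 lc_c_rc_19_0 lc_c_rc_21_2 lc_c_rc_26_2 lc_c_rc_11_3 lc_c_rc_21_2 lc_c_rc_26_2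 lc_c_rc_26_2 lc_c_rc_22_2 lc_c_rc_11_3 lc_c_rc_26_2 lc_c_rc_22_2 lc_c_rc_2_1 lc_c_rc_11_3 lc_c_rc_22_2 lc_c_rc_2_1) (@D3.rec (fun _ => (Cert rels S Gen.c)) lc_c_rc_11_3 lc_c_rc_20_2 lc_c_rc_11_3 lc_c_rc_11_3 lc_c_rc_23_2 lc_c_rc_23_2 lc_c_rc_21_2 lc_c_rc_26_0 lc_c_rc_21_2 lc_c_rc_22_0 lc_c_rc_26_2 lc_c_rc_24_2 lc_c_rc_23_2 lc_c_rc_23_2 lc_c_rc_21_2 lc_c_rc_21_2 lc_c_rc_20_2 lc_c_rc_22_2 lc_c_rc_22_2 lc_c_rc_26_0 lc_c_rc_26_2 lc_c_rc_26_0 lc_c_rc_22_0 lc_c_rc_24_2 lc_c_rc_23_2 lc_c_Cert_tree lc_c_rc_23_2 lc_c_Cert_tree lc_c_rc_21_2 lc_c_rc_19_0 lc_c_rc_21_2 lc_c_rc_26_2 lc_c_rc_11_3 lc_c_rc_21_2 lc_c_rc_26_2 lc_c_rc_26_2 lc_c_rc_22_2 lc_c_rc_21_2 lc_c_rc_20_2 lc_c_rc_23_2 lc_c_rc_21_2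 lc_c_rc_24_2 lc_c_Cert_tree lc_c_rc_23_2 lc_c_rc_19_0 lc_c_rc_21_2 lc_c_rc_26_2 lc_c_rc_19_0 lc_c_rc_26_2 lc_c_rc_11_3 lc_c_rc_26_2) (@D3.rec (fun _ => (Cert rels S Gen.c)) lc_c_rc_2_1 lc_c_rc_11_3 lc_c_rc_20_2 lc_c_rc_24_2 lc_c_rc_19_0 lc_c_rc_21_2 lc_c_rc_26_2 lc_c_rc_11_3 lc_c_rc_21_2 lc_c_rc_26_2 lc_c_rc_26_2 lc_c_rc_22_2 lc_c_rc_11_3 lc_c_rc_26_2 lc_c_rc_22_2 lc_c_rc_2_1 lc_c_rc_11_3 lc_c_rc_22_2 lc_c_rc_2_1 lc_c_rc_22_2 lc_c_rc_20_2 lc_c_rc_11_3 lc_c_rc_22_0 lc_c_rc_26_0 lc_c_rc_22_2 lc_c_rc_11_3 lc_c_rc_2_1 lc_c_rc_2_1 lc_c_rc_2_1 lc_c_rc_2_1 lc_c_rc_22_2 lc_c_rc_2_1 lc_c_rc_26_2 lc_c_rc_24_2 lc_c_rc_23_2 lc_c_Cert_tree lc_c_rc_23_2 lc_c_Cert_tree lc_c_rc_21_2 lc_c_rc_19_0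 lc_c_rc_26_2 lc_c_rc_26_0 lc_c_rc_26_2 lc_c_rc_22_2 lc_c_rc_24_2 lc_c_Cert_tree lc_c_rc_23_2 lc_c_rc_19_0 lc_c_rc_21_2 lc_c_rc_26_2 lc_c_rc_19_0) (@D3.rec (fun _ => (Cert rels S Gen.c)) lc_c_rc_26_2 lc_c_rc_11_3 lc_c_rc_26_2 lc_c_rc_20_0 lc_c_rc_11_3 lc_c_rc_21_2 lc_c_rc_22_2 lc_c_rc_20_2 lc_c_rc_22_2 lc_c_Cert_tree lc_c_rc_26_2 lc_c_Cert_tree lc_c_rc_26_2 lc_c_rc_19_0 lc_c_rc_21_2 lc_c_rc_26_2 lc_c_rc_11_3 lc_c_rc_21_2 lc_c_rc_26_2 lc_c_rc_23_2 lc_c_rc_26_2 lc_c_rc_22_2 lc_c_rc_24_2 lc_c_Cert_tree lc_c_rc_23_2 lc_c_rc_19_0 lc_c_rc_21_2 lc_c_rc_26_2 lc_c_rc_19_0 lc_c_rc_21_2 lc_c_rc_26_2 lc_c_rc_11_3 lc_c_rc_21_2 lc_c_rc_26_2 lc_c_rc_23_2 lc_c_rc_26_2 lc_c_rc_22_2 lc_c_rc_2_1 lc_c_rc_11_3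 lc_c_rc_11_3 lc_c_rc_23_2 lc_c_rc_26_2 lc_c_rc_22_2 lc_c_rc_24_2 lc_c_rc_26_2 lc_c_rc_22_2 lc_c_rc_23_2 lc_c_rc_21_2 lc_c_rc_24_2 lc_c_rc_23_2 lc_c_rc_25_2) (@D3.rec (fun _ => (Cert rels S Gen.c)) lc_c_rc_24_2 lc_c_rc_25_2 lc_c_Cert_tree lc_c_rc_24_2 lc_c_rc_19_0 lc_c_rc_21_2 lc_c_rc_26_2 lc_c_rc_11_3 lc_c_rc_21_2 lc_c_rc_26_2 lc_c_rc_26_2 lc_c_rc_22_2 lc_c_rc_11_3 lc_c_rc_26_2 lc_c_rc_22_2 lc_c_rc_2_1 lc_c_rc_11_3 lc_c_rc_22_2 lc_c_rc_2_1 lc_c_rc_11_3 lc_c_rc_26_2 lc_c_rc_11_5 lc_c_rc_11_3 lc_c_rc_26_2 lc_c_rc_11_1 lc_c_rc_11_1 lc_c_rc_2_1 lc_c_rc_11_3 lc_c_rc_11_3 lc_c_rc_20_2 lc_c_rc_2_1 lc_c_rc_11_3 lc_c_rc_2_1 lc_c_rc_11_3 lc_c_rc_20_2 lc_c_rc_2_1 lc_c_rc_20_4 lc_c_rc_21_2 lc_c_rc_11_1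 lc_c_rc_22_2 lc_c_rc_20_2 lc_c_rc_22_2 lc_c_rc_26_2 lc_c_rc_26_2 lc_c_Cert_tree lc_c_rc_19_0 lc_c_rc_21_2 lc_c_rc_11_3 lc_c_rc_21_2 lc_c_rc_11_3 lc_c_rc_2_1) (@D3.rec (fun _ => (Cert rels S Gen.c)) lc_c_rc_19_0 lc_c_rc_19_0 lc_c_rc_21_2 lc_c_rc_11_3 lc_c_rc_21_2 lc_c_rc_20_2 lc_c_rc_26_2 lc_c_rc_22_2 lc_c_rc_2_3 lc_c_rc_2_1 lc_c_rc_26_2 lc_c_rc_22_2 lc_c_rc_2_1 lc_c_rc_26_0 lc_c_rc_20_2 lc_c_rc_2_1 lc_c_rc_11_3 lc_c_rc_21_2 lc_c_rc_2_1 lc_c_rc_2_1 lc_c_rc_2_1 lc_c_rc_2_1 lc_c_Cert_tree lc_c_rc_19_0 lc_c_rc_21_2 lc_c_rc_11_3 lc_c_rc_21_2 lc_c_rc_11_3 lc_c_rc_24_2 lc_c_rc_22_2 lc_c_Cert_tree lc_c_rc_26_2 lc_c_rc_22_2 lc_c_Cert_tree lc_c_rc_26_2 lc_c_rc_19_0 lc_c_rc_21_2 lc_c_rc_26_2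 lc_c_rc_19_0 lc_c_rc_26_2 lc_c_rc_11_3 lc_c_rc_26_2 lc_c_rc_2_1 lc_c_rc_11_3 lc_c_Cert_tree lc_c_rc_19_0 lc_c_rc_21_2 lc_c_rc_11_3 lc_c_rc_21_2 lc_c_rc_11_3 lc_c_rc_2_1) (@D3.rec (fun _ => (Cert rels S Gen.c)) lc_c_rc_19_0 lc_c_rc_21_2 lc_c_rc_21_2 lc_c_rc_26_2 lc_c_rc_2_1 lc_c_rc_20_2 lc_c_rc_22_2 lc_c_rc_2_1 lc_c_rc_22_2 lc_c_rc_2_1 lc_c_rc_11_3 lc_c_rc_22_0 lc_c_rc_2_1 lc_c_rc_21_2 lc_c_rc_22_0 lc_c_rc_2_1 lc_c_rc_20_4 lc_c_rc_26_2 lc_c_rc_26_2 lc_c_rc_22_2 lc_c_rc_11_3 lc_c_rc_21_2 lc_c_rc_26_2 lc_c_rc_23_2 lc_c_rc_26_2 lc_c_rc_22_2 lc_c_rc_56_51 lc_c_rc_20_4 lc_c_rc_24_2 lc_c_rc_23_2 lc_c_rc_25_2 lc_c_rc_19_1 lc_c_rc_26_2 lc_c_rc_26_2 lc_c_rc_11_3 lc_c_rc_26_2 lc_c_rc_22_2 lc_c_rc_2_1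 lc_c_rc_11_3 lc_c_rc_22_2 lc_c_rc_19_0 lc_c_rc_21_2 lc_c_rc_26_2 lc_c_rc_23_2 lc_c_rc_21_2 lc_c_rc_26_2 lc_c_rc_26_2 lc_c_rc_22_2 lc_c_rc_25_2 lc_c_rc_26_2 lc_c_rc_22_2) (@D3.rec (fun _ => (Cert rels S Gen.c)) lc_c_rc_2_1 lc_c_rc_11_3 lc_c_rc_22_2 lc_c_rc_2_1 lc_c_rc_11_3 lc_c_rc_20_2 lc_c_rc_26_2 lc_c_rc_22_2 lc_c_rc_20_4 lc_c_rc_21_0 lc_c_rc_24_2 lc_c_rc_26_2 lc_c_rc_22_2 lc_c_rc_2_1 lc_c_rc_11_3 lc_c_rc_22_2 lc_c_rc_11_3 lc_c_rc_21_2 lc_c_rc_26_2 lc_c_rc_23_2 lc_c_rc_26_2 lc_c_rc_11_3 lc_c_rc_21_2 lc_c_rc_26_2 lc_c_rc_23_2 lc_c_rc_26_2 lc_c_rc_22_2 lc_c_rc_2_1 lc_c_rc_11_3 lc_c_rc_11_3 lc_c_rc_23_2 lc_c_rc_26_2 lc_c_rc_22_2 lc_c_rc_24_2 lc_c_rc_26_2 lc_c_rc_22_2 lc_c_rc_22_2 lc_c_rc_21_2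 lc_c_rc_24_2 lc_c_rc_23_2 lc_c_rc_25_2 lc_c_rc_24_2 lc_c_rc_23_2 lc_c_rc_11_3 lc_c_rc_21_2 lc_c_rc_26_2 lc_c_rc_26_2 lc_c_rc_22_2 lc_c_rc_11_3 lc_c_rc_26_2 lc_c_rc_22_2) (@D3.rec (fun _ => (Cert rels S Gen.c)) lc_c_rc_2_1 lc_c_rc_11_3 lc_c_rc_22_2 lc_c_rc_2_1 lc_c_rc_11_3 lc_c_rc_20_2 lc_c_rc_23_2 lc_c_rc_26_2 lc_c_rc_22_2 lc_c_rc_23_2 lc_c_rc_11_3 lc_c_rc_11_3 lc_c_rc_26_2 lc_c_rc_22_2 lc_c_rc_22_2 lc_c_rc_2_1 lc_c_rc_11_3 lc_c_rc_22_2 lc_c_rc_2_1 lc_c_rc_11_3 lc_c_rc_20_2 lc_c_rc_2_1 lc_c_Cert_tree lc_c_rc_21_2 lc_c_rc_19_0 lc_c_rc_26_2 lc_c_rc_19_0 lc_c_rc_26_2 lc_c_rc_24_2 lc_c_rc_26_2 lc_c_rc_22_2 lc_c_rc_11_3 lc_c_rc_22_0 lc_c_rc_22_2 lc_c_rc_19_0 lc_c_rc_26_2 lc_c_rc_11_3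 lc_c_rc_21_2 lc_c_rc_26_2 lc_c_rc_26_2 lc_c_rc_22_2 lc_c_rc_11_3 lc_c_rc_26_2 lc_c_rc_22_2 lc_c_rc_24_2 lc_c_rc_11_3 lc_c_rc_22_2 lc_c_rc_26_2 lc_c_rc_11_3 lc_c_rc_20_2 lc_c_rc_19_0) (@D3.rec (fun _ => (Cert rels S Gen.c)) lc_c_rc_26_2 lc_c_rc_20_2 lc_c_rc_21_2 lc_c_rc_26_2 lc_c_rc_23_2 lc_c_rc_26_2 lc_c_rc_22_2 lc_c_rc_20_2 lc_c_rc_21_2 lc_c_rc_26_2 lc_c_rc_23_2 lc_c_rc_26_2 lc_c_rc_22_2 lc_c_rc_2_1 lc_c_rc_21_2 lc_c_rc_20_2 lc_c_rc_23_2 lc_c_rc_26_2 lc_c_rc_22_2 lc_c_rc_24_2 lc_c_rc_26_2 lc_c_rc_22_2 lc_c_rc_2_1 lc_c_rc_2_1 lc_c_rc_23_2 lc_c_rc_21_2 lc_c_rc_22_2 lc_c_rc_24_2 lc_c_rc_26_2 lc_c_rc_22_2 lc_c_rc_20_2 lc_c_rc_25_2 lc_c_rc_26_2 lc_c_rc_22_2 lc_c_rc_24_2 lc_c_rc_23_2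 lc_c_rc_25_2 lc_c_rc_24_2 lc_c_rc_25_2 lc_c_rc_26_2 lc_c_rc_2_1 lc_c_rc_21_0 lc_c_rc_20_2 lc_c_rc_26_2 lc_c_rc_22_2 lc_c_rc_2_1 lc_c_rc_2_1 lc_c_rc_20_2 lc_c_rc_2_1 lc_c_rc_21_0 lc_c_rc_21_2) (@D3.rec (fun _ => (Cert rels S Gen.c)) lc_c_rc_11_3 lc_c_rc_2_1 lc_c_rc_11_3 lc_c_rc_11_3 lc_c_rc_20_2 lc_c_rc_11_3 lc_c_rc_20_2 lc_c_rc_2_1 lc_c_rc_21_0 lc_c_rc_21_2 lc_c_rc_20_0 lc_c_rc_21_2 lc_c_rc_11_3 lc_c_rc_24_2 lc_c_rc_55_19 lc_c_rc_26_2 lc_c_rc_24_2 lc_c_rc_25_2 lc_c_rc_22_2 lc_c_rc_22_2 lc_c_rc_26_2 lc_c_rc_21_0 lc_c_rc_26_2 lc_c_rc_21_0 lc_c_rc_2_1 lc_c_rc_26_2 lc_c_rc_22_2 lc_c_rc_26_2 lc_c_rc_26_2 lc_c_rc_22_2 lc_c_rc_22_0 lc_c_rc_26_2 lc_c_rc_26_2 lc_c_rc_24_2 lc_c_rc_25_2 lc_c_rc_26_2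 lc_c_rc_2_1 lc_c_rc_24_2 lc_c_rc_2_1 lc_c_rc_26_2 lc_c_rc_26_2 lc_c_rc_2_1 lc_c_rc_22_2 lc_c_rc_22_2 lc_c_rc_26_2 lc_c_rc_24_2 lc_c_rc_25_2 lc_c_rc_2_1 lc_c_rc_2_1 lc_c_rc_2_1 lc_c_rc_22_2) (@D3.rec (fun _ => (Cert rels S Gen.c)) lc_c_rc_26_2 lc_c_rc_26_2 lc_c_rc_19_0 lc_c_rc_26_2 lc_c_rc_26_2 lc_c_rc_2_1 lc_c_rc_2_1 lc_c_rc_2_1 lc_c_Cert_tree lc_c_rc_26_2 lc_c_rc_22_2 lc_c_rc_21_2 lc_c_rc_22_2 lc_c_rc_23_2 lc_c_rc_20_2 lc_c_rc_20_2 lc_c_rc_24_2 lc_c_rc_25_2 lc_c_rc_11_3 lc_c_rc_2_1 lc_c_rc_2_1 lc_c_rc_2_1 lc_c_rc_56_30 lc_c_rc_26_2 lc_c_rc_21_0 lc_c_rc_20_4 lc_c_rc_20_4 lc_c_rc_26_2 lc_c_rc_11_3 lc_c_rc_26_2 lc_c_rc_21_0 lc_c_rc_26_2 lc_c_Cert_tree lc_c_rc_2_1 lc_c_rc_21_2 lc_c_Cert_tree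 lc_c_rc_22_0 lc_c_rc_19_0 lc_c_rc_26_2 lc_c_rc_20_0 lc_c_rc_22_2 lc_c_rc_11_1 lc_c_rc_23_2 lc_c_rc_22_2 lc_c_rc_20_2 lc_c_rc_21_2 lc_c_rc_23_2 lc_c_rc_22_0 lc_c_rc_25_2 lc_c_rc_25_2 lc_c_rc_21_2) (@D3.rec (fun _ => (Cert rels S Gen.c)) lc_c_rc_20_2 lc_c_rc_2_1 lc_c_rc_2_1 lc_c_rc_21_2 lc_c_rc_20_2 lc_c_rc_23_2 lc_c_rc_21_2 lc_c_rc_22_2 lc_c_rc_26_2 lc_c_rc_19_0 lc_c_rc_56_30 lc_c_rc_26_2 lc_c_rc_2_1 lc_c_rc_2_1 lc_c_rc_2_1 lc_c_rc_2_1 lc_c_rc_21_2 lc_c_rc_21_2 lc_c_rc_20_2 lc_c_rc_23_2 lc_c_rc_21_2 lc_c_rc_22_2 lc_c_rc_24_2 lc_c_rc_23_2 lc_c_rc_22_2 lc_c_rc_19_0 lc_c_rc_26_2 lc_c_rc_11_3 lc_c_rc_26_2 lc_c_rc_22_2 lc_c_rc_19_0 lc_c_rc_26_2 lc_c_rc_19_0 lc_c_rc_26_2 lc_c_rc_11_3 lc_c_rc_26_2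 lc_c_rc_22_2 lc_c_rc_21_2 lc_c_rc_11_3 lc_c_rc_22_2 lc_c_rc_21_2 lc_c_rc_20_4 lc_c_rc_22_2 lc_c_rc_21_2 lc_c_rc_20_2 lc_c_rc_21_2 lc_c_rc_23_2 lc_c_rc_21_2 lc_c_rc_22_2 lc_c_Cert_tree lc_c_rc_20_2) (@D3.rec (fun _ => (Cert rels S Gen.c)) lc_c_rc_22_2 lc_c_rc_24_2 lc_c_rc_26_2 lc_c_rc_23_2 lc_c_rc_20_2 lc_c_rc_23_2 lc_c_rc_21_2 lc_c_rc_23_2 lc_c_rc_23_2 lc_c_rc_2_1 lc_c_rc_21_2 lc_c_rc_21_2 lc_c_rc_25_2 lc_c_rc_24_2 lc_c_rc_20_2 lc_c_rc_26_2 lc_c_rc_20_2 lc_c_rc_23_2 lc_c_rc_21_2 lc_c_rc_21_2 lc_c_Cert_tree lc_c_rc_21_2 lc_c_rc_25_2 lc_c_rc_26_2 lc_c_rc_22_2 lc_c_rc_26_2 lc_c_rc_20_4 lc_c_rc_26_2 lc_c_rc_2_1 lc_c_rc_2_1 lc_c_rc_2_1 lc_c_rc_23_2 lc_c_rc_2_1 lc_c_rc_20_2 lc_c_rc_21_2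 lc_c_rc_21_2 lc_c_rc_26_2 lc_c_rc_56_37 lc_c_rc_26_2 lc_c_rc_2_3 lc_c_rc_21_2 lc_c_rc_55_19 lc_c_rc_20_2 lc_c_rc_23_2 lc_c_rc_21_2 lc_c_rc_21_2 lc_c_Cert_tree lc_c_rc_21_2 lc_c_rc_26_2 lc_c_rc_21_2 lc_c_rc_26_2) (@D3.rec (fun _ => (Cert rels S Gen.c)) lc_c_rc_23_2 lc_c_rc_21_2 lc_c_rc_22_2 lc_c_rc_21_2 lc_c_rc_19_0 lc_c_rc_26_2 lc_c_rc_20_2 lc_c_rc_22_2 lc_c_rc_23_2 lc_c_rc_21_2 lc_c_rc_21_2 lc_c_Cert_tree lc_c_rc_21_2 lc_c_rc_25_2 lc_c_rc_20_2 lc_c_rc_26_2 lc_c_rc_21_2 lc_c_rc_20_2 lc_c_rc_22_2 lc_c_rc_23_2 lc_c_rc_23_2 lc_c_rc_21_2 lc_c_Cert_tree lc_c_rc_21_2 lc_c_rc_19_0 lc_c_rc_26_2 lc_c_rc_26_2 lc_c_rc_24_2 lc_c_rc_23_2 lc_c_rc_22_2 lc_c_rc_26_2 lc_c_rc_25_2 lc_c_rc_26_2 lc_c_rc_19_0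 lc_c_rc_26_2 lc_c_rc_11_3 lc_c_rc_26_2 lc_c_rc_22_2 lc_c_rc_22_0 lc_c_rc_2_1 lc_c_rc_2_1 lc_c_rc_2_1 lc_c_rc_2_1 lc_c_rc_25_2 lc_c_rc_2_1 lc_c_rc_19_0 lc_c_rc_26_2 lc_c_rc_24_2 lc_c_rc_23_2 lc_c_rc_21_2 lc_c_rc_21_2) (@D3.rec (fun _ => (Cert rels S Gen.c)) lc_c_rc_56_37 lc_c_rc_21_2 lc_c_rc_26_2 lc_c_rc_25_0 lc_c_rc_26_2 lc_c_rc_2_1 lc_c_rc_2_1 lc_c_rc_2_1 lc_c_rc_23_2 lc_c_rc_23_2 lc_c_rc_21_2 lc_c_rc_26_2 lc_c_rc_22_0 lc_c_rc_20_2 lc_c_rc_24_2 lc_c_rc_2_1 lc_c_rc_26_2 lc_c_rc_23_2 lc_c_rc_23_2 lc_c_rc_21_2 lc_c_Cert_tree lc_c_rc_21_2 lc_c_rc_19_0 lc_c_rc_21_2 lc_c_rc_26_2 lc_c_rc_26_2 lc_c_rc_21_2 lc_c_rc_24_2 lc_c_rc_23_2 lc_c_rc_21_2 lc_c_rc_22_2 lc_c_rc_24_2 lc_c_rc_23_2 lc_c_rc_22_2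 lc_c_rc_24_2 lc_c_rc_23_2 lc_c_Cert_tree lc_c_rc_23_2 lc_c_rc_21_2 lc_c_rc_19_0 lc_c_rc_26_2 lc_c_rc_11_3 lc_c_rc_26_2 lc_c_rc_22_2 lc_c_rc_26_2 lc_c_rc_21_2 lc_c_rc_56_23 lc_c_rc_11_3 lc_c_rc_20_2 lc_c_rc_20_2 lc_c_rc_22_2) (@D3.rec (fun _ => (Cert rels S Gen.c)) lc_c_Cert_tree lc_c_rc_26_2 lc_c_rc_23_2 lc_c_rc_23_2 lc_c_rc_21_2 lc_c_Cert_tree lc_c_rc_21_2 lc_c_rc_19_0 lc_c_rc_21_2 lc_c_rc_26_2 lc_c_rc_20_2 lc_c_rc_26_2 lc_c_rc_21_2 lc_c_rc_20_2 lc_c_rc_21_2 lc_c_rc_22_2 lc_c_rc_24_2 lc_c_rc_23_2 lc_c_Cert_tree lc_c_rc_23_2 lc_c_Cert_tree lc_c_rc_21_2 lc_c_rc_19_0 lc_c_rc_26_2 lc_c_rc_11_3 lc_c_rc_26_2 lc_c_rc_22_2 lc_c_rc_24_2 lc_c_Cert_tree lc_c_rc_26_2 lc_c_rc_19_0 lc_c_rc_21_2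 lc_c_rc_26_2 lc_c_rc_19_0 lc_c_rc_26_2 lc_c_rc_11_3 lc_c_rc_26_2 lc_c_rc_22_2 lc_c_rc_2_1 lc_c_rc_11_3 lc_c_rc_22_2 lc_c_rc_2_1 lc_c_rc_2_1 lc_c_rc_2_1 lc_c_rc_2_1 lc_c_rc_2_1 lc_c_Cert_tree lc_c_rc_2_1 lc_c_rc_2_1 lc_c_rc_23_2 lc_c_rc_2_1) (@D3.rec (fun _ => (Cert rels S Gen.c)) lc_c_rc_19_0 lc_c_rc_55_46 lc_c_rc_26_2 lc_c_rc_26_2 lc_c_rc_22_2 lc_c_rc_2_1 lc_c_rc_2_1 lc_c_rc_2_1 lc_c_Cert_tree lc_c_rc_2_1 lc_c_rc_23_2 lc_c_rc_23_2 lc_c_rc_21_2 lc_c_Cert_tree lc_c_rc_21_2 lc_c_rc_19_0 lc_c_rc_21_2 lc_c_rc_26_2 lc_c_rc_26_2 lc_c_rc_20_2 lc_c_rc_23_0 lc_c_rc_20_2 lc_c_rc_20_2 lc_c_rc_2_1 lc_c_rc_2_1 lc_c_rc_2_1 lc_c_rc_2_1 lc_c_rc_24_2 lc_c_rc_23_2 lc_c_Cert_tree lc_c_rc_23_2 lc_c_rc_21_2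 lc_c_rc_19_0 lc_c_rc_26_2 lc_c_rc_26_2 lc_c_rc_22_2 lc_c_rc_21_2 lc_c_rc_20_2 lc_c_rc_22_2 lc_c_rc_22_2 lc_c_Cert_tree lc_c_rc_26_2 lc_c_rc_19_0 lc_c_rc_21_2 lc_c_rc_26_2 lc_c_rc_24_2 lc_c_rc_23_2 lc_c_Cert_tree lc_c_rc_23_2 lc_c_Cert_tree lc_c_rc_21_2) (@D3.rec (fun _ => (Cert rels S Gen.c)) lc_c_rc_19_0 lc_c_rc_21_2 lc_c_rc_26_2 lc_c_rc_11_3 lc_c_rc_21_2 lc_c_rc_26_2 lc_c_rc_23_2 lc_c_rc_26_2 lc_c_rc_22_2 lc_c_rc_20_0 lc_c_rc_21_0 lc_c_rc_23_2 lc_c_rc_21_2 lc_c_rc_22_2 lc_c_rc_24_2 lc_c_rc_23_2 lc_c_rc_22_2 lc_c_rc_25_2 lc_c_rc_24_2 lc_c_rc_23_2 lc_c_rc_24_2 lc_c_Cert_tree lc_c_rc_23_2 lc_c_rc_19_0 lc_c_rc_21_2 lc_c_rc_26_2 lc_c_rc_19_0 lc_c_rc_26_2 lc_c_rc_11_3 lc_c_rc_26_2 lc_c_rc_22_2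 lc_c_rc_2_1 lc_c_rc_11_3 lc_c_rc_22_2 lc_c_rc_26_2 lc_c_rc_19_0 lc_c_rc_26_2 lc_c_rc_11_3 lc_c_rc_21_2 lc_c_rc_26_2 lc_c_rc_26_2 lc_c_rc_22_2 lc_c_rc_11_3 lc_c_rc_26_2 lc_c_rc_22_2 lc_c_rc_2_1 lc_c_rc_11_3 lc_c_rc_22_2 lc_c_rc_2_1 lc_c_rc_11_3 lc_c_rc_20_2) (@D3.rec (fun _ => (Cert rels S Gen.c)) lc_c_rc_11_3 lc_c_rc_23_2 lc_c_rc_2_1 lc_c_rc_26_2 lc_c_rc_25_0 lc_c_rc_25_0 lc_c_rc_26_2 lc_c_rc_20_2 lc_c_rc_26_2 lc_c_rc_21_2 lc_c_rc_20_2 lc_c_Cert_tree lc_c_rc_26_2 lc_c_rc_22_2 lc_c_rc_26_2 lc_c_rc_21_2 lc_c_rc_21_2 lc_c_rc_21_2 lc_c_rc_19_0 lc_c_rc_26_2 lc_c_rc_20_4 lc_c_rc_11_3 lc_c_rc_11_3 lc_c_rc_11_3 lc_c_rc_11_3 lc_c_rc_2_1 lc_c_rc_21_2 lc_c_rc_21_2 lc_c_rc_25_2 lc_c_rc_24_2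 lc_c_rc_2_1 lc_c_rc_26_2 lc_c_rc_2_1 lc_c_rc_23_2 lc_c_rc_21_2 lc_c_rc_21_2 lc_c_Cert_tree lc_c_rc_21_2 lc_c_rc_25_2 lc_c_rc_26_2 lc_c_rc_20_2 lc_c_rc_22_2 lc_c_rc_23_2 lc_c_rc_21_2 lc_c_rc_21_2 lc_c_Cert_tree lc_c_rc_21_2 lc_c_rc_25_2 lc_c_rc_25_0 lc_c_rc_26_2 lc_c_rc_21_2) (@D3.rec (fun _ => (Cert rels S Gen.c)) lc_c_rc_20_2 lc_c_rc_2_1 lc_c_rc_21_2 lc_c_rc_22_2 lc_c_rc_23_2 lc_c_rc_23_2 lc_c_rc_21_2 lc_c_rc_25_0 lc_c_rc_21_2 lc_c_rc_19_0 lc_c_rc_26_2 lc_c_rc_26_2 lc_c_rc_22_0 lc_c_rc_2_1 lc_c_rc_20_2 lc_c_rc_2_1 lc_c_rc_56_16 lc_c_rc_55_46 lc_c_rc_11_3 lc_c_rc_26_2 lc_c_rc_22_2 lc_c_rc_23_2 lc_c_rc_11_3 lc_c_rc_11_3 lc_c_rc_11_3 lc_c_rc_11_3 lc_c_rc_11_3 lc_c_rc_2_1 lc_c_rc_2_1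 lc_c_rc_23_2 lc_c_rc_21_2 lc_c_rc_21_2 lc_c_Cert_tree lc_c_rc_21_2 lc_c_rc_25_2 lc_c_rc_20_2 lc_c_rc_26_2 lc_c_rc_21_2 lc_c_rc_20_2 lc_c_rc_22_2 lc_c_rc_23_2 lc_c_rc_23_2 lc_c_rc_21_2 lc_c_Cert_tree lc_c_rc_21_2 lc_c_rc_19_0 lc_c_rc_26_2 lc_c_rc_26_2 lc_c_rc_20_2 lc_c_rc_20_2 lc_c_rc_22_2) (@D3.rec (fun _ => (Cert rels S Gen.c)) lc_c_Cert_tree lc_c_rc_26_2 lc_c_rc_23_2 lc_c_rc_23_2 lc_c_rc_21_2 lc_c_Cert_tree lc_c_rc_21_2 lc_c_rc_19_0 lc_c_rc_21_2 lc_c_rc_26_2 lc_c_rc_26_2 lc_c_rc_21_2 lc_c_rc_20_2 lc_c_rc_21_2 lc_c_rc_21_2 lc_c_rc_22_2 lc_c_rc_20_2 lc_c_rc_20_2 lc_c_rc_22_2 lc_c_rc_24_2 lc_c_rc_23_2 lc_c_rc_21_2 lc_c_rc_19_0 lc_c_rc_26_2 lc_c_rc_11_3 lc_c_rc_26_2 lc_c_rc_22_2 lc_c_rc_22_2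 lc_c_rc_2_1 lc_c_rc_11_3 lc_c_rc_22_2 lc_c_rc_21_2 lc_c_rc_11_3 lc_c_rc_24_2 lc_c_rc_2_1 lc_c_rc_26_2 lc_c_rc_2_1 lc_c_rc_24_2 lc_c_rc_22_2 lc_c_rc_26_2 lc_c_rc_24_2 lc_c_rc_26_2 lc_c_rc_21_2 lc_c_rc_20_2 lc_c_rc_26_2 lc_c_rc_21_2 lc_c_rc_20_2 lc_c_rc_23_2 lc_c_rc_21_2 lc_c_rc_22_2 lc_c_rc_23_2) (@D3.rec (fun _ => (Cert rels S Gen.c)) lc_c_Cert_tree lc_c_rc_26_2 lc_c_rc_19_0 lc_c_rc_26_2 lc_c_rc_26_2 lc_c_rc_23_2 lc_c_Cert_tree lc_c_rc_23_2 lc_c_Cert_tree lc_c_rc_21_2 lc_c_rc_19_0 lc_c_rc_26_2 lc_c_rc_11_3 lc_c_rc_26_2 lc_c_rc_22_2 lc_c_rc_56_23 lc_c_rc_11_3 lc_c_rc_11_3 lc_c_rc_11_3 lc_c_rc_11_3 lc_c_rc_11_3 lc_c_rc_2_1 lc_c_rc_2_1 lc_c_rc_23_2 lc_c_rc_21_2 lc_c_rc_21_2 lc_c_Cert_tree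 lc_c_rc_21_2 lc_c_rc_25_2 lc_c_rc_2_1 lc_c_rc_26_2 lc_c_rc_21_2 lc_c_rc_2_1 lc_c_rc_2_1 lc_c_rc_23_2 lc_c_rc_23_2 lc_c_rc_21_2 lc_c_Cert_tree lc_c_rc_21_2 lc_c_rc_19_0 lc_c_rc_26_2 lc_c_rc_26_2 lc_c_rc_20_2 lc_c_rc_20_2 lc_c_rc_22_2 lc_c_Cert_tree lc_c_rc_26_2 lc_c_rc_23_2 lc_c_rc_23_2 lc_c_rc_21_2 lc_c_Cert_tree) (@D3.rec (fun _ => (Cert rels S Gen.c)) lc_c_rc_21_2 lc_c_rc_19_0 lc_c_rc_21_2 lc_c_rc_26_2 lc_c_rc_24_2 lc_c_rc_26_2 lc_c_rc_21_2 lc_c_rc_20_2 lc_c_rc_23_2 lc_c_rc_21_2 lc_c_rc_22_2 lc_c_rc_2_1 lc_c_rc_23_2 lc_c_rc_22_2 lc_c_rc_24_2 lc_c_rc_23_2 lc_c_Cert_tree lc_c_rc_23_2 lc_c_rc_24_2 lc_c_rc_21_2 lc_c_rc_19_0 lc_c_rc_26_2 lc_c_rc_11_3 lc_c_rc_26_2 lc_c_rc_22_2 lc_c_rc_22_2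 lc_c_rc_25_2 lc_c_rc_26_2 lc_c_rc_19_0 lc_c_rc_21_2 lc_c_rc_26_2 lc_c_rc_19_0 lc_c_rc_26_2 lc_c_rc_11_3 lc_c_rc_26_2 lc_c_rc_22_2 lc_c_rc_2_1 lc_c_rc_11_3 lc_c_rc_22_2 lc_c_rc_19_0 lc_c_rc_24_2 lc_c_rc_11_3 lc_c_rc_11_3 lc_c_rc_11_3 lc_c_rc_11_3 lc_c_Cert_tree lc_c_rc_11_3 lc_c_rc_11_3 lc_c_rc_11_3 lc_c_rc_2_1 lc_c_rc_2_1) (@D3.rec (fun _ => (Cert rels S Gen.c)) lc_c_rc_2_1 lc_c_Cert_tree lc_c_rc_2_1 lc_c_rc_23_2 lc_c_rc_23_2 lc_c_rc_21_2 lc_c_Cert_tree lc_c_rc_21_2 lc_c_rc_19_0 lc_c_rc_21_2 lc_c_rc_26_2 lc_c_rc_20_2 lc_c_rc_26_2 lc_c_rc_21_2 lc_c_rc_20_2 lc_c_rc_21_2 lc_c_rc_22_2 lc_c_rc_24_2 lc_c_rc_23_2 lc_c_Cert_tree lc_c_rc_23_2 lc_c_Cert_tree lc_c_rc_21_2 lc_c_rc_19_0 lc_c_rc_26_2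 lc_c_rc_11_3 lc_c_rc_26_2 lc_c_rc_22_2 lc_c_rc_21_2 lc_c_rc_20_2 lc_c_rc_22_2 lc_c_rc_22_2 lc_c_Cert_tree lc_c_rc_26_2 lc_c_rc_19_0 lc_c_rc_21_2 lc_c_rc_26_2 lc_c_rc_24_2 lc_c_rc_23_2 lc_c_Cert_tree lc_c_rc_23_2 lc_c_Cert_tree lc_c_rc_21_2 lc_c_rc_19_0 lc_c_rc_21_2 lc_c_rc_26_2 lc_c_rc_11_3 lc_c_rc_21_2 lc_c_rc_26_2 lc_c_rc_23_2 lc_c_rc_26_2) (@D3.rec (fun _ => (Cert rels S Gen.c)) lc_c_rc_22_2 lc_c_rc_21_2 lc_c_rc_20_2 lc_c_rc_23_2 lc_c_rc_21_2 lc_c_rc_22_2 lc_c_rc_21_2 lc_c_rc_21_2 lc_c_rc_22_2 lc_c_rc_20_2 lc_c_rc_20_2 lc_c_rc_22_2 lc_c_rc_24_2 lc_c_Cert_tree lc_c_rc_23_2 lc_c_rc_19_0 lc_c_rc_21_2 lc_c_rc_26_2 lc_c_rc_19_0 lc_c_rc_26_2 lc_c_rc_11_3 lc_c_rc_26_2 lc_c_rc_22_2 lc_c_rc_2_1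 lc_c_rc_11_3 lc_c_rc_22_2 lc_c_rc_23_0 lc_c_rc_21_2 lc_c_rc_23_2 lc_c_rc_11_3 lc_c_rc_21_2 lc_c_rc_26_2 lc_c_rc_26_2 lc_c_rc_22_2 lc_c_rc_22_2 lc_c_rc_2_1 lc_c_rc_11_3 lc_c_rc_22_2 lc_c_rc_2_1 lc_c_rc_11_3 lc_c_rc_20_2 lc_c_rc_2_1 lc_c_rc_11_3 lc_c_rc_21_2 lc_c_rc_2_1 lc_c_rc_26_2 lc_c_rc_2_1 lc_c_rc_2_1 lc_c_rc_2_1 lc_c_rc_23_2 lc_c_rc_21_2)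
def ce_c_9 : D2 → D3 → (Cert rels S Gen.c) := @D2.rec (fun _ => D3 → (Cert rels S Gen.c)) (@D3.rec (fun _ => (Cert rels S Gen.c)) lc_c_rc_21_2 lc_c_rc_26_2 lc_c_rc_20_2 lc_c_rc_26_2 lc_c_rc_21_2 lc_c_rc_20_2 lc_c_rc_23_2 lc_c_rc_21_2 lc_c_rc_22_2 lc_c_rc_24_2 lc_c_rc_23_2 lc_c_rc_22_2 lc_c_rc_20_2 lc_c_rc_20_2 lc_c_rc_23_2 lc_c_rc_2_1 lc_c_rc_26_2 lc_c_rc_21_2 lc_c_rc_26_2 lc_c_rc_26_2 lc_c_rc_11_3 lc_c_rc_11_3 lc_c_rc_11_3 lc_c_Cert_tree lc_c_rc_11_3 lc_c_rc_11_3 lc_c_rc_11_3 lc_c_rc_23_2 lc_c_rc_23_2 lc_c_rc_21_2 lc_c_rc_26_0 lc_c_rc_21_2 lc_c_rc_26_0 lc_c_rc_22_0 lc_c_rc_21_0 lc_c_rc_26_2 lc_c_rc_2_1 lc_c_rc_2_1 lc_c_rc_2_1 lc_c_rc_2_1 lc_c_rc_24_2 lc_c_rc_23_2 lc_c_rc_23_2 lc_c_rc_21_2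 lc_c_rc_21_2 lc_c_rc_20_2 lc_c_rc_22_2 lc_c_rc_22_2 lc_c_rc_26_0 lc_c_rc_26_2 lc_c_rc_25_0) (@D3.rec (fun _ => (Cert rels S Gen.c)) lc_c_rc_22_0 lc_c_rc_24_2 lc_c_rc_23_2 lc_c_Cert_tree lc_c_rc_23_2 lc_c_Cert_tree lc_c_rc_21_2 lc_c_rc_19_0 lc_c_rc_21_2 lc_c_rc_26_2 lc_c_rc_11_3 lc_c_rc_21_2 lc_c_rc_26_2 lc_c_rc_20_4 lc_c_rc_26_2 lc_c_rc_22_2 lc_c_rc_2_3 lc_c_rc_20_2 lc_c_rc_23_2 lc_c_rc_21_2 lc_c_rc_22_2 lc_c_rc_24_2 lc_c_rc_23_2 lc_c_rc_22_2 lc_c_rc_23_2 lc_c_rc_24_2 lc_c_rc_23_2 lc_c_rc_24_2 lc_c_Cert_tree lc_c_rc_23_2 lc_c_rc_19_0 lc_c_rc_21_2 lc_c_rc_26_2 lc_c_rc_19_0 lc_c_rc_26_2 lc_c_rc_11_3 lc_c_rc_26_2 lc_c_rc_11_3 lc_c_rc_56_9 lc_c_rc_26_2 lc_c_rc_19_0 lc_c_rc_23_0 lc_c_rc_26_2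 lc_c_rc_11_3 lc_c_rc_21_2 lc_c_rc_26_2 lc_c_rc_20_4 lc_c_rc_26_2 lc_c_rc_26_2 lc_c_rc_26_2 lc_c_rc_11_3) (@D3.rec (fun _ => (Cert rels S Gen.c)) lc_c_rc_22_2 lc_c_rc_26_2 lc_c_rc_22_2 lc_c_rc_20_2 lc_c_rc_26_2 lc_c_rc_26_2 lc_c_rc_26_0 lc_c_rc_22_2 lc_c_rc_22_2 lc_c_rc_11_3 lc_c_rc_11_3 lc_c_rc_11_3 lc_c_Cert_tree lc_c_rc_11_3 lc_c_rc_19_0 lc_c_rc_26_2 lc_c_rc_11_3 lc_c_rc_2_1 lc_c_rc_2_1 lc_c_rc_2_1 lc_c_rc_2_1 lc_c_rc_22_2 lc_c_rc_2_1 lc_c_rc_22_2 lc_c_rc_26_2 lc_c_rc_24_2 lc_c_rc_23_2 lc_c_Cert_tree lc_c_rc_23_2 lc_c_Cert_tree lc_c_rc_21_2 lc_c_rc_19_0 lc_c_rc_21_2 lc_c_rc_26_2 lc_c_rc_21_2 lc_c_rc_21_2 lc_c_rc_26_2 lc_c_rc_26_2 lc_c_rc_22_2 lc_c_rc_21_2 lc_c_rc_20_2 lc_c_rc_23_2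 lc_c_rc_21_2 lc_c_rc_22_2 lc_c_rc_22_2 lc_c_rc_24_2 lc_c_Cert_tree lc_c_rc_23_2 lc_c_rc_19_0 lc_c_rc_21_2 lc_c_rc_26_2) (@D3.rec (fun _ => (Cert rels S Gen.c)) lc_c_rc_19_0 lc_c_rc_26_2 lc_c_rc_11_3 lc_c_rc_26_2 lc_c_rc_23_2 lc_c_rc_11_3 lc_c_rc_21_2 lc_c_rc_22_2 lc_c_rc_20_2 lc_c_rc_22_2 lc_c_Cert_tree lc_c_rc_26_2 lc_c_Cert_tree lc_c_rc_26_2 lc_c_rc_19_0 lc_c_rc_21_2 lc_c_rc_26_2 lc_c_rc_11_3 lc_c_rc_21_2 lc_c_rc_26_2 lc_c_rc_23_2 lc_c_rc_26_2 lc_c_rc_22_2 lc_c_rc_24_2 lc_c_Cert_tree lc_c_rc_23_2 lc_c_rc_19_0 lc_c_rc_21_2 lc_c_rc_26_2 lc_c_rc_19_0 lc_c_rc_21_2 lc_c_rc_26_2 lc_c_rc_11_3 lc_c_rc_21_2 lc_c_rc_26_2 lc_c_rc_23_2 lc_c_rc_26_2 lc_c_rc_22_2 lc_c_rc_2_1 lc_c_rc_11_3 lc_c_rc_11_3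 lc_c_rc_23_2 lc_c_rc_26_2 lc_c_rc_22_2 lc_c_rc_24_2 lc_c_rc_26_2 lc_c_rc_22_2 lc_c_rc_23_2 lc_c_rc_21_2 lc_c_rc_22_2 lc_c_rc_23_2) (@D3.rec (fun _ => (Cert rels S Gen.c)) lc_c_rc_23_2 lc_c_rc_22_2 lc_c_rc_21_2 lc_c_rc_21_2 lc_c_rc_22_2 lc_c_Cert_tree lc_c_rc_20_2 lc_c_rc_22_2 lc_c_Cert_tree lc_c_rc_24_2 lc_c_rc_19_0 lc_c_rc_21_2 lc_c_rc_26_2 lc_c_rc_11_3 lc_c_rc_21_2 lc_c_rc_26_2 lc_c_rc_26_2 lc_c_rc_22_2 lc_c_rc_11_3 lc_c_rc_26_2 lc_c_rc_22_2 lc_c_rc_2_1 lc_c_rc_11_3 lc_c_rc_22_2 lc_c_rc_2_1 lc_c_rc_11_3 lc_c_rc_26_2 lc_c_rc_19_0 lc_c_rc_56_9 lc_c_rc_26_2 lc_c_rc_11_3 lc_c_rc_21_2 lc_c_rc_26_2 lc_c_rc_11_5 lc_c_rc_11_5 lc_c_rc_2_1 lc_c_rc_11_3 lc_c_rc_11_3 lc_c_rc_21_2 lc_c_rc_26_2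 lc_c_rc_22_2 lc_c_rc_11_5 lc_c_rc_2_1 lc_c_rc_11_3 lc_c_rc_22_2 lc_c_rc_2_1 lc_c_rc_11_3 lc_c_rc_20_2 lc_c_rc_2_1 lc_c_rc_20_4 lc_c_rc_2_3) (@D3.rec (fun _ => (Cert rels S Gen.c)) lc_c_rc_21_2 lc_c_rc_22_2 lc_c_rc_20_2 lc_c_rc_22_2 lc_c_rc_26_2 lc_c_rc_26_2 lc_c_rc_56_58 lc_c_rc_19_0 lc_c_rc_2_3 lc_c_rc_11_3 lc_c_rc_21_2 lc_c_rc_26_0 lc_c_rc_20_2 lc_c_rc_2_1 lc_c_rc_2_1 lc_c_rc_2_1 lc_c_rc_2_1 lc_c_rc_2_1 lc_c_rc_2_1 lc_c_Cert_tree lc_c_rc_19_0 lc_c_rc_21_2 lc_c_rc_11_3 lc_c_rc_21_2 lc_c_rc_24_2 lc_c_rc_21_2 lc_c_rc_22_2 lc_c_Cert_tree lc_c_rc_26_2 lc_c_rc_22_2 lc_c_Cert_tree lc_c_rc_26_2 lc_c_rc_19_0 lc_c_rc_21_2 lc_c_rc_26_2 lc_c_rc_19_0 lc_c_rc_26_2 lc_c_rc_11_3 lc_c_rc_26_2 lc_c_rc_2_1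 lc_c_rc_11_3 lc_c_Cert_tree lc_c_rc_19_0 lc_c_rc_11_3 lc_c_rc_21_2 lc_c_rc_11_3 lc_c_rc_2_1 lc_c_rc_19_0 lc_c_rc_21_2 lc_c_rc_26_2 lc_c_rc_11_3) (@D3.rec (fun _ => (Cert rels S Gen.c)) lc_c_rc_21_2 lc_c_rc_26_2 lc_c_rc_25_2 lc_c_rc_22_2 lc_c_rc_2_1 lc_c_rc_11_3 lc_c_rc_11_3 lc_c_rc_20_2 lc_c_rc_26_2 lc_c_rc_22_2 lc_c_rc_22_2 lc_c_rc_2_1 lc_c_rc_11_3 lc_c_rc_22_2 lc_c_rc_2_1 lc_c_rc_11_3 lc_c_rc_22_0 lc_c_rc_2_1 lc_c_rc_23_2 lc_c_rc_25_0 lc_c_rc_2_1 lc_c_rc_2_1 lc_c_rc_11_3 lc_c_rc_20_2 lc_c_rc_20_2 lc_c_rc_2_1 lc_c_rc_11_3 lc_c_rc_20_2 lc_c_rc_2_1 lc_c_rc_20_4 lc_c_rc_23_0 lc_c_rc_22_2 lc_c_rc_23_2 lc_c_rc_55_64 lc_c_rc_23_2 lc_c_rc_23_2 lc_c_rc_23_2 lc_c_rc_25_2 lc_c_rc_26_2 lc_c_rc_22_2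 lc_c_rc_24_2 lc_c_rc_20_0 lc_c_rc_2_3 lc_c_rc_21_2 lc_c_rc_26_2 lc_c_rc_11_3 lc_c_rc_11_3 lc_c_rc_2_3 lc_c_rc_21_2 lc_c_rc_26_2 lc_c_rc_2_1) (@D3.rec (fun _ => (Cert rels S Gen.c)) lc_c_rc_2_1 lc_c_rc_22_2 lc_c_rc_24_2 lc_c_rc_21_2 lc_c_rc_26_2 lc_c_rc_11_1 lc_c_rc_22_2 lc_c_rc_20_0 lc_c_rc_23_2 lc_c_Cert_tree lc_c_rc_21_2 lc_c_rc_19_0 lc_c_rc_21_2 lc_c_rc_26_2 lc_c_rc_23_2 lc_c_rc_21_2 lc_c_rc_24_2 lc_c_rc_23_2 lc_c_rc_23_2 lc_c_Cert_tree lc_c_rc_19_0 lc_c_rc_26_2 lc_c_rc_11_3 lc_c_rc_26_2 lc_c_rc_20_4 lc_c_rc_11_3 lc_c_rc_23_2 lc_c_rc_21_2 lc_c_Cert_tree lc_c_rc_22_2 lc_c_rc_23_2 lc_c_rc_23_2 lc_c_rc_20_2 lc_c_rc_21_2 lc_c_rc_19_0 lc_c_rc_26_2 lc_c_rc_26_2 lc_c_rc_23_2 lc_c_rc_26_2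 lc_c_rc_22_2 lc_c_rc_2_1 lc_c_rc_11_3 lc_c_rc_11_3 lc_c_rc_11_3 lc_c_rc_11_3 lc_c_rc_23_2 lc_c_rc_24_2 lc_c_rc_21_2 lc_c_rc_21_2 lc_c_rc_26_2 lc_c_rc_26_2) (@D3.rec (fun _ => (Cert rels S Gen.c)) lc_c_rc_2_1 lc_c_rc_2_1 lc_c_rc_2_1 lc_c_rc_23_2 lc_c_rc_23_2 lc_c_rc_23_2 lc_c_rc_23_2 lc_c_rc_25_2 lc_c_rc_21_2 lc_c_rc_26_2 lc_c_rc_22_2 lc_c_rc_22_2 lc_c_rc_24_2 lc_c_rc_21_2 lc_c_rc_21_2 lc_c_rc_26_2 lc_c_rc_24_2 lc_c_rc_23_2 lc_c_Cert_tree lc_c_rc_23_2 lc_c_Cert_tree lc_c_rc_21_2 lc_c_rc_19_0 lc_c_rc_21_2 lc_c_rc_26_2 lc_c_rc_11_3 lc_c_rc_21_2 lc_c_rc_26_2 lc_c_rc_23_2 lc_c_rc_26_2 lc_c_rc_22_2 lc_c_rc_23_2 lc_c_rc_21_2 lc_c_rc_24_2 lc_c_rc_23_2 lc_c_rc_25_2 lc_c_rc_24_2 lc_c_rc_24_2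 lc_c_Cert_tree lc_c_rc_23_2 lc_c_rc_19_0 lc_c_rc_21_2 lc_c_rc_26_2 lc_c_rc_19_0 lc_c_rc_26_2 lc_c_rc_11_3 lc_c_rc_26_2 lc_c_rc_22_2 lc_c_rc_11_3 lc_c_rc_22_2 lc_c_rc_26_2) (@D3.rec (fun _ => (Cert rels S Gen.c)) lc_c_rc_24_2 lc_c_rc_11_3 lc_c_rc_26_2 lc_c_rc_24_2 lc_c_rc_11_3 lc_c_rc_26_2 lc_c_rc_24_2 lc_c_rc_11_3 lc_c_rc_22_2 lc_c_rc_26_2 lc_c_rc_11_3 lc_c_rc_11_5 lc_c_rc_24_2 lc_c_rc_26_2 lc_c_rc_22_2 lc_c_rc_2_1 lc_c_rc_22_0 lc_c_rc_22_2 lc_c_rc_21_2 lc_c_rc_20_2 lc_c_rc_22_2 lc_c_rc_22_2 lc_c_rc_26_0 lc_c_rc_26_2 lc_c_rc_22_0 lc_c_rc_24_2 lc_c_rc_23_2 lc_c_Cert_tree lc_c_rc_23_2 lc_c_Cert_tree lc_c_rc_21_2 lc_c_rc_19_0 lc_c_rc_26_2 lc_c_rc_11_3 lc_c_rc_26_2 lc_c_rc_22_2 lc_c_rc_23_2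 lc_c_rc_19_0 lc_c_rc_26_2 lc_c_rc_19_0 lc_c_rc_26_2 lc_c_rc_11_3 lc_c_rc_26_2 lc_c_rc_22_2 lc_c_rc_2_1 lc_c_rc_11_3 lc_c_rc_22_2 lc_c_rc_11_3 lc_c_rc_26_2 lc_c_rc_22_2 lc_c_rc_11_3) (@D3.rec (fun _ => (Cert rels S Gen.c)) lc_c_rc_26_2 lc_c_rc_22_2 lc_c_rc_2_1 lc_c_rc_11_3 lc_c_rc_22_2 lc_c_rc_2_1 lc_c_rc_11_3 lc_c_rc_20_2 lc_c_rc_56_16 lc_c_rc_2_1 lc_c_rc_26_2 lc_c_rc_2_1 lc_c_rc_11_3 lc_c_rc_11_3 lc_c_rc_26_0 lc_c_rc_11_3 lc_c_rc_21_2 lc_c_rc_11_3 lc_c_rc_2_1 lc_c_rc_2_1 lc_c_Cert_tree lc_c_rc_2_1 lc_c_rc_19_0 lc_c_rc_26_2 lc_c_rc_24_2 lc_c_rc_23_2 lc_c_Cert_tree lc_c_rc_23_2 lc_c_Cert_tree lc_c_rc_21_2 lc_c_rc_19_0 lc_c_rc_21_2 lc_c_rc_26_2 lc_c_rc_26_0 lc_c_rc_21_2 lc_c_rc_26_2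 lc_c_rc_26_2 lc_c_rc_22_2 lc_c_rc_2_1 lc_c_rc_2_1 lc_c_rc_2_1 lc_c_rc_2_1 lc_c_rc_24_2 lc_c_Cert_tree lc_c_rc_23_2 lc_c_rc_19_0 lc_c_rc_21_2 lc_c_rc_26_2 lc_c_rc_19_0 lc_c_rc_26_2 lc_c_rc_11_3) (@D3.rec (fun _ => (Cert rels S Gen.c)) lc_c_rc_26_2 lc_c_rc_22_2 lc_c_rc_20_2 lc_c_rc_11_3 lc_c_rc_22_2 lc_c_rc_22_2 lc_c_rc_20_2 lc_c_rc_22_2 lc_c_Cert_tree lc_c_rc_26_2 lc_c_Cert_tree lc_c_rc_26_2 lc_c_rc_19_0 lc_c_rc_21_2 lc_c_rc_26_2 lc_c_rc_11_3 lc_c_rc_21_2 lc_c_rc_26_2 lc_c_rc_56_51 lc_c_rc_26_2 lc_c_rc_22_2 lc_c_rc_24_2 lc_c_Cert_tree lc_c_rc_23_2 lc_c_rc_19_0 lc_c_rc_21_2 lc_c_rc_26_2 lc_c_rc_19_0 lc_c_rc_21_2 lc_c_rc_26_2 lc_c_rc_11_3 lc_c_rc_21_2 lc_c_rc_26_2 lc_c_rc_23_2 lc_c_rc_26_2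 lc_c_rc_22_2 lc_c_rc_2_1 lc_c_rc_11_3 lc_c_rc_11_3 lc_c_rc_23_2 lc_c_rc_26_2 lc_c_rc_22_2 lc_c_rc_24_2 lc_c_rc_26_2 lc_c_rc_22_2 lc_c_rc_23_2 lc_c_rc_21_2 lc_c_rc_24_2 lc_c_rc_23_2 lc_c_rc_25_2 lc_c_rc_24_2) (@D3.rec (fun _ => (Cert rels S Gen.c)) lc_c_rc_25_2 lc_c_Cert_tree lc_c_rc_24_2 lc_c_rc_19_0 lc_c_rc_21_2 lc_c_rc_26_2 lc_c_rc_11_3 lc_c_rc_21_2 lc_c_rc_26_2 lc_c_rc_26_2 lc_c_rc_22_2 lc_c_rc_11_3 lc_c_rc_26_2 lc_c_rc_22_2 lc_c_rc_2_1 lc_c_rc_11_3 lc_c_rc_22_2 lc_c_rc_2_1 lc_c_rc_11_3 lc_c_rc_20_2 lc_c_rc_20_4 lc_c_rc_11_3 lc_c_rc_21_2 lc_c_rc_26_2 lc_c_rc_26_2 lc_c_rc_22_2 lc_c_rc_2_1 lc_c_rc_11_3 lc_c_rc_11_3 lc_c_rc_20_2 lc_c_rc_26_2 lc_c_rc_22_2 lc_c_rc_22_2 lc_c_rc_2_1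 lc_c_rc_11_3 lc_c_rc_22_2 lc_c_rc_2_1 lc_c_rc_11_3 lc_c_rc_20_2 lc_c_rc_2_1 lc_c_rc_21_2 lc_c_rc_21_2 lc_c_rc_2_1 lc_c_rc_21_2 lc_c_Cert_tree lc_c_rc_21_2 lc_c_rc_26_2 lc_c_rc_21_2 lc_c_rc_19_0 lc_c_rc_26_2 lc_c_rc_26_2) (@D3.rec (fun _ => (Cert rels S Gen.c)) lc_c_Cert_tree lc_c_rc_26_2 lc_c_rc_11_3 lc_c_rc_21_2 lc_c_rc_19_0 lc_c_rc_21_2 lc_c_rc_26_2 lc_c_rc_26_2 lc_c_rc_20_2 lc_c_rc_21_2 lc_c_rc_26_2 lc_c_rc_22_2 lc_c_Cert_tree lc_c_rc_2_1 lc_c_rc_23_2 lc_c_rc_21_2 lc_c_rc_11_1 lc_c_rc_21_2 lc_c_rc_19_0 lc_c_rc_26_2 lc_c_rc_26_2 lc_c_rc_24_2 lc_c_rc_2_3 lc_c_rc_23_2 lc_c_rc_23_2 lc_c_rc_21_2 lc_c_rc_26_2 lc_c_rc_26_2 lc_c_rc_22_2 lc_c_rc_19_0 lc_c_rc_26_2 lc_c_rc_24_2 lc_c_rc_23_2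 lc_c_Cert_tree lc_c_rc_23_2 lc_c_rc_21_2 lc_c_rc_19_0 lc_c_rc_26_2 lc_c_rc_11_3 lc_c_rc_21_2 lc_c_rc_26_2 lc_c_rc_23_2 lc_c_rc_26_2 lc_c_rc_22_2 lc_c_rc_24_2 lc_c_rc_23_2 lc_c_rc_25_2 lc_c_rc_22_2 lc_c_rc_24_2 lc_c_rc_25_2 lc_c_rc_19_0) (@D3.rec (fun _ => (Cert rels S Gen.c)) lc_c_rc_21_2 lc_c_rc_26_2 lc_c_rc_26_2 lc_c_rc_11_3 lc_c_rc_26_2 lc_c_rc_22_2 lc_c_rc_2_1 lc_c_rc_11_3 lc_c_rc_22_2 lc_c_rc_21_2 lc_c_rc_21_2 lc_c_rc_22_2 lc_c_rc_25_2 lc_c_rc_26_2 lc_c_rc_21_2 lc_c_rc_11_3 lc_c_rc_22_2 lc_c_rc_2_1 lc_c_rc_11_3 lc_c_rc_11_3 lc_c_rc_2_1 lc_c_rc_2_1 lc_c_rc_23_2 lc_c_rc_2_1 lc_c_rc_23_2 lc_c_rc_23_2 lc_c_rc_21_2 lc_c_Cert_tree lc_c_rc_21_2 lc_c_rc_19_0 lc_c_rc_26_2 lc_c_rc_26_2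 lc_c_rc_22_0 lc_c_rc_23_2 lc_c_Cert_tree lc_c_rc_23_2 lc_c_rc_21_2 lc_c_rc_19_0 lc_c_rc_26_2 lc_c_rc_11_3 lc_c_rc_26_2 lc_c_rc_22_2 lc_c_rc_22_2 lc_c_Cert_tree lc_c_rc_26_2 lc_c_rc_19_0 lc_c_rc_20_2 lc_c_rc_26_2 lc_c_rc_24_2 lc_c_rc_23_2 lc_c_Cert_tree) (@D3.rec (fun _ => (Cert rels S Gen.c)) lc_c_rc_23_2 lc_c_rc_22_0 lc_c_rc_21_2 lc_c_rc_19_0 lc_c_rc_21_2 lc_c_rc_26_2 lc_c_rc_55_28 lc_c_rc_21_2 lc_c_rc_26_2 lc_c_rc_26_2 lc_c_rc_22_2 lc_c_rc_20_2 lc_c_rc_23_2 lc_c_rc_21_2 lc_c_rc_23_2 lc_c_rc_19_0 lc_c_rc_21_2 lc_c_rc_26_2 lc_c_rc_26_2 lc_c_rc_22_2 lc_c_rc_2_1 lc_c_rc_11_3 lc_c_rc_22_2 lc_c_rc_26_2 lc_c_rc_23_2 lc_c_rc_2_1 lc_c_rc_11_3 lc_c_rc_20_2 lc_c_rc_26_2 lc_c_rc_2_1 lc_c_rc_2_1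 lc_c_Cert_tree lc_c_rc_2_1 lc_c_rc_19_0 lc_c_rc_26_2 lc_c_rc_24_2 lc_c_rc_23_2 lc_c_Cert_tree lc_c_rc_23_2 lc_c_rc_22_0 lc_c_rc_21_2 lc_c_rc_19_0 lc_c_rc_26_2 lc_c_rc_11_3 lc_c_rc_26_2 lc_c_rc_22_2 lc_c_rc_24_2 lc_c_rc_23_2 lc_c_rc_23_2 lc_c_rc_19_0 lc_c_rc_20_4) (@D3.rec (fun _ => (Cert rels S Gen.c)) lc_c_rc_26_2 lc_c_rc_24_2 lc_c_rc_26_2 lc_c_rc_22_2 lc_c_rc_2_1 lc_c_rc_11_3 lc_c_rc_22_2 lc_c_rc_20_2 lc_c_Cert_tree lc_c_rc_26_2 lc_c_rc_19_0 lc_c_rc_26_2 lc_c_rc_11_3 lc_c_rc_21_2 lc_c_rc_26_2 lc_c_rc_23_2 lc_c_rc_26_2 lc_c_rc_22_2 lc_c_rc_24_2 lc_c_Cert_tree lc_c_rc_23_2 lc_c_rc_19_0 lc_c_rc_21_2 lc_c_rc_26_2 lc_c_rc_19_0 lc_c_rc_26_2 lc_c_rc_11_3 lc_c_rc_21_2 lc_c_rc_26_2 lc_c_rc_23_2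 lc_c_rc_26_2 lc_c_rc_22_2 lc_c_rc_2_1 lc_c_rc_11_3 lc_c_rc_11_3 lc_c_rc_23_2 lc_c_rc_26_2 lc_c_rc_22_2 lc_c_rc_24_2 lc_c_rc_26_2 lc_c_rc_22_2 lc_c_rc_24_2 lc_c_rc_23_2 lc_c_rc_25_2 lc_c_rc_24_2 lc_c_rc_22_2 lc_c_Cert_tree lc_c_rc_24_2 lc_c_rc_19_0 lc_c_rc_21_2 lc_c_rc_26_2) (@D3.rec (fun _ => (Cert rels S Gen.c)) lc_c_rc_11_3 lc_c_rc_21_2 lc_c_rc_26_2 lc_c_rc_26_2 lc_c_rc_22_2 lc_c_rc_11_3 lc_c_rc_26_2 lc_c_rc_22_2 lc_c_rc_2_1 lc_c_rc_11_3 lc_c_rc_22_2 lc_c_rc_2_1 lc_c_rc_11_3 lc_c_rc_20_2 lc_c_rc_25_0 lc_c_rc_11_3 lc_c_rc_21_2 lc_c_rc_26_2 lc_c_rc_26_2 lc_c_rc_22_2 lc_c_rc_2_1 lc_c_rc_11_3 lc_c_rc_11_3 lc_c_rc_20_2 lc_c_rc_26_2 lc_c_rc_22_2 lc_c_rc_22_2 lc_c_rc_21_2 lc_c_rc_11_3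 lc_c_rc_22_2 lc_c_rc_2_1 lc_c_rc_11_3 lc_c_rc_22_2 lc_c_rc_2_1 lc_c_Cert_tree lc_c_rc_21_2 lc_c_rc_24_2 lc_c_rc_23_2 lc_c_rc_26_0 lc_c_rc_23_2 lc_c_rc_26_0 lc_c_rc_21_2 lc_c_rc_22_0 lc_c_rc_20_4 lc_c_rc_24_2 lc_c_rc_23_2 lc_c_rc_22_2 lc_c_rc_20_2 lc_c_rc_22_2 lc_c_rc_26_0 lc_c_rc_26_2) (@D3.rec (fun _ => (Cert rels S Gen.c)) lc_c_rc_26_0 lc_c_rc_26_2 lc_c_rc_26_0 lc_c_rc_22_0 lc_c_rc_22_0 lc_c_rc_20_4 lc_c_rc_24_2 lc_c_Cert_tree lc_c_rc_23_2 lc_c_rc_19_0 lc_c_rc_21_2 lc_c_rc_26_2 lc_c_rc_19_0 lc_c_rc_21_2 lc_c_rc_26_2 lc_c_rc_11_3 lc_c_rc_21_2 lc_c_rc_26_2 lc_c_rc_23_2 lc_c_rc_26_2 lc_c_rc_22_2 lc_c_rc_26_0 lc_c_rc_11_3 lc_c_rc_26_2 lc_c_rc_22_2 lc_c_rc_22_2 lc_c_rc_23_2 lc_c_rc_21_2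 lc_c_rc_23_2 lc_c_Cert_tree lc_c_rc_24_2 lc_c_rc_19_0 lc_c_rc_21_2 lc_c_rc_26_2 lc_c_rc_11_3 lc_c_rc_21_2 lc_c_rc_26_2 lc_c_rc_26_2 lc_c_rc_11_3 lc_c_rc_26_2 lc_c_rc_2_1 lc_c_rc_11_3 lc_c_rc_2_1 lc_c_rc_20_2 lc_c_rc_11_3 lc_c_rc_26_2 lc_c_rc_26_2 lc_c_rc_2_3 lc_c_rc_2_1 lc_c_rc_11_3 lc_c_rc_11_3) (@D3.rec (fun _ => (Cert rels S Gen.c)) lc_c_rc_26_2 lc_c_rc_22_2 lc_c_rc_20_2 lc_c_rc_2_1 lc_c_rc_11_3 lc_c_rc_22_2 lc_c_rc_2_1 lc_c_rc_22_2 lc_c_rc_20_2 lc_c_rc_2_1 lc_c_rc_11_3 lc_c_rc_21_2 lc_c_rc_23_2 lc_c_rc_11_3 lc_c_rc_22_2 lc_c_rc_11_3 lc_c_rc_2_1 lc_c_rc_20_2 lc_c_rc_2_1 lc_c_rc_23_2 lc_c_rc_2_1 lc_c_rc_22_2 lc_c_rc_2_1 lc_c_rc_26_2 lc_c_rc_26_2 lc_c_rc_24_2 lc_c_Cert_tree lc_c_rc_23_2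 lc_c_rc_19_0 lc_c_rc_21_2 lc_c_rc_26_2 lc_c_rc_19_0 lc_c_rc_26_2 lc_c_rc_26_0 lc_c_rc_26_2 lc_c_rc_22_2 lc_c_rc_11_1 lc_c_rc_22_0 lc_c_rc_22_2 lc_c_Cert_tree lc_c_rc_24_2 lc_c_rc_19_0 lc_c_rc_21_2 lc_c_rc_26_2 lc_c_rc_11_3 lc_c_rc_21_2 lc_c_rc_26_2 lc_c_rc_26_2 lc_c_rc_11_3 lc_c_rc_26_2 lc_c_rc_24_2) (@D3.rec (fun _ => (Cert rels S Gen.c)) lc_c_rc_11_3 lc_c_rc_26_2 lc_c_rc_21_2 lc_c_rc_22_2 lc_c_Cert_tree lc_c_rc_26_2 lc_c_rc_22_2 lc_c_Cert_tree lc_c_rc_26_2 lc_c_rc_19_0 lc_c_rc_21_2 lc_c_rc_26_2 lc_c_rc_19_0 lc_c_rc_21_2 lc_c_rc_26_2 lc_c_rc_11_3 lc_c_rc_21_2 lc_c_rc_26_2 lc_c_rc_23_2 lc_c_rc_26_2 lc_c_rc_22_2 lc_c_rc_22_2 lc_c_rc_11_3 lc_c_rc_11_3 lc_c_rc_23_2 lc_c_rc_26_2 lc_c_rc_22_2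 lc_c_rc_24_2 lc_c_rc_26_2 lc_c_rc_22_2 lc_c_Cert_tree lc_c_rc_24_2 lc_c_rc_19_0 lc_c_rc_21_2 lc_c_rc_26_2 lc_c_rc_11_3 lc_c_rc_21_2 lc_c_rc_26_2 lc_c_rc_23_2 lc_c_rc_26_2 lc_c_rc_22_2 lc_c_rc_11_3 lc_c_rc_21_2 lc_c_rc_26_2 lc_c_rc_23_2 lc_c_rc_26_2 lc_c_rc_22_2 lc_c_rc_2_1 lc_c_rc_11_3 lc_c_rc_11_3 lc_c_rc_23_2) (@D3.rec (fun _ => (Cert rels S Gen.c)) lc_c_rc_26_2 lc_c_rc_22_2 lc_c_rc_24_2 lc_c_rc_26_2 lc_c_rc_22_2 lc_c_rc_2_1 lc_c_rc_2_1 lc_c_rc_11_3 lc_c_rc_11_3 lc_c_rc_11_3 lc_c_rc_24_2 lc_c_rc_26_2 lc_c_rc_22_2 lc_c_rc_26_0 lc_c_rc_25_2 lc_c_rc_26_2 lc_c_rc_22_2 lc_c_rc_24_2 lc_c_rc_23_2 lc_c_rc_25_2 lc_c_rc_24_2 lc_c_rc_25_2 lc_c_rc_19_0 lc_c_rc_26_2 lc_c_rc_11_3 lc_c_rc_21_2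 lc_c_rc_26_2 lc_c_rc_26_2 lc_c_rc_22_2 lc_c_rc_2_1 lc_c_rc_11_3 lc_c_rc_11_3 lc_c_rc_20_2 lc_c_rc_26_2 lc_c_rc_22_2 lc_c_rc_21_2 lc_c_rc_2_1 lc_c_rc_11_3 lc_c_rc_22_2 lc_c_rc_2_1 lc_c_rc_11_3 lc_c_rc_26_2 lc_c_rc_2_1 lc_c_rc_21_2 lc_c_rc_26_2 lc_c_rc_2_1 lc_c_rc_2_1 lc_c_rc_2_1 lc_c_rc_20_4 lc_c_rc_21_2 lc_c_rc_2_1) (@D3.rec (fun _ => (Cert rels S Gen.c)) lc_c_rc_55_73 lc_c_rc_26_2 lc_c_rc_22_2 lc_c_rc_26_2 lc_c_rc_19_0 lc_c_rc_2_3 lc_c_rc_11_3 lc_c_rc_21_2 lc_c_rc_2_1 lc_c_rc_26_0 lc_c_rc_2_1 lc_c_rc_26_0 lc_c_rc_2_1 lc_c_rc_11_3 lc_c_Cert_tree lc_c_rc_2_1 lc_c_rc_2_1 lc_c_rc_19_0 lc_c_rc_11_3 lc_c_rc_21_2 lc_c_rc_2_1 lc_c_rc_11_3 lc_c_rc_20_2 lc_c_rc_25_2 lc_c_Cert_tree lc_c_rc_26_2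 lc_c_rc_19_0 lc_c_rc_21_2 lc_c_rc_26_2 lc_c_Cert_tree lc_c_rc_26_2 lc_c_rc_19_0 lc_c_rc_21_2 lc_c_rc_26_2 lc_c_rc_11_3 lc_c_rc_21_2 lc_c_rc_26_2 lc_c_rc_26_2 lc_c_rc_11_3 lc_c_rc_26_2 lc_c_rc_2_1 lc_c_rc_11_3 lc_c_rc_2_1 lc_c_rc_19_0 lc_c_rc_11_3 lc_c_rc_21_2 lc_c_rc_2_1 lc_c_rc_11_3 lc_c_rc_20_2 lc_c_rc_2_1 lc_c_rc_20_0) (@D3.rec (fun _ => (Cert rels S Gen.c)) lc_c_rc_23_2 lc_c_rc_25_2 lc_c_rc_2_1 lc_c_rc_21_2 lc_c_rc_22_0 lc_c_rc_22_2 lc_c_rc_22_2 lc_c_rc_11_3 lc_c_rc_11_3 lc_c_rc_23_2 lc_c_rc_26_2 lc_c_rc_26_2 lc_c_rc_22_2 lc_c_rc_25_2 lc_c_rc_21_2 lc_c_rc_22_2 lc_c_rc_11_5 lc_c_rc_11_3 lc_c_rc_22_2 lc_c_rc_2_1 lc_c_rc_11_3 lc_c_rc_20_2 lc_c_rc_26_2 lc_c_rc_25_2 lc_c_rc_22_2 lc_c_rc_26_2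 lc_c_rc_26_2 lc_c_rc_22_2 lc_c_rc_22_2 lc_c_rc_26_2 lc_c_rc_22_2 lc_c_rc_26_2 lc_c_rc_11_3 lc_c_rc_20_2 lc_c_rc_2_1 lc_c_Cert_tree lc_c_rc_21_2 lc_c_rc_22_2 lc_c_rc_20_4 lc_c_rc_22_2 lc_c_rc_24_2 lc_c_rc_22_2 lc_c_rc_2_1 lc_c_rc_11_3 lc_c_rc_20_2 lc_c_rc_11_3 lc_c_rc_11_3 lc_c_rc_20_2 lc_c_rc_23_2 lc_c_rc_26_2 lc_c_rc_22_2) (@D3.rec (fun _ => (Cert rels S Gen.c)) lc_c_rc_11_3 lc_c_rc_11_3 lc_c_rc_23_2 lc_c_rc_26_2 lc_c_rc_24_2 lc_c_rc_26_2 lc_c_rc_22_2 lc_c_rc_2_1 lc_c_rc_2_1 lc_c_rc_11_3 lc_c_rc_11_3 lc_c_rc_11_3 lc_c_rc_24_2 lc_c_rc_26_2 lc_c_rc_22_2 lc_c_rc_20_2 lc_c_rc_22_2 lc_c_rc_26_2 lc_c_rc_22_2 lc_c_rc_23_2 lc_c_rc_25_2 lc_c_rc_24_2 lc_c_rc_25_2 lc_c_rc_11_3 lc_c_rc_11_3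 lc_c_rc_20_2 lc_c_rc_26_2 lc_c_rc_22_2 lc_c_rc_22_2 lc_c_rc_11_3 lc_c_rc_22_2 lc_c_rc_2_1 lc_c_rc_11_3 lc_c_rc_20_2 lc_c_rc_2_1 lc_c_Cert_tree lc_c_rc_21_2 lc_c_rc_23_2 lc_c_rc_22_2 lc_c_rc_23_0 lc_c_rc_23_2 lc_c_rc_11_3 lc_c_rc_11_3 lc_c_rc_22_2 lc_c_rc_20_2 lc_c_rc_24_2 lc_c_rc_11_3 lc_c_rc_20_2 lc_c_rc_2_1 lc_c_Cert_tree lc_c_rc_21_2) (@D3.rec (fun _ => (Cert rels S Gen.c)) lc_c_Cert_tree lc_c_rc_19_0 lc_c_rc_21_2 lc_c_rc_23_2 lc_c_rc_21_0 lc_c_rc_26_2 lc_c_rc_22_2 lc_c_rc_23_2 lc_c_rc_26_2 lc_c_rc_22_2 lc_c_rc_24_2 lc_c_rc_22_0 lc_c_rc_22_2 lc_c_rc_26_2 lc_c_rc_21_0 lc_c_rc_20_2 lc_c_rc_11_3 lc_c_rc_26_2 lc_c_rc_2_1 lc_c_rc_11_3 lc_c_rc_11_3 lc_c_rc_22_0 lc_c_rc_26_2 lc_c_rc_22_2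 lc_c_rc_25_2 lc_c_rc_11_3 lc_c_rc_22_2 lc_c_rc_26_2 lc_c_rc_11_3 lc_c_rc_20_2 lc_c_rc_2_1 lc_c_rc_21_0 lc_c_rc_21_2 lc_c_rc_26_2 lc_c_rc_22_2 lc_c_rc_2_1 lc_c_rc_21_2 lc_c_rc_23_2 lc_c_rc_22_0 lc_c_rc_23_2 lc_c_rc_26_2 lc_c_rc_22_2 lc_c_rc_24_2 lc_c_rc_26_2 lc_c_rc_22_2 lc_c_rc_2_1 lc_c_rc_21_2 lc_c_rc_25_2 lc_c_rc_23_2 lc_c_rc_26_2 lc_c_rc_22_2) (@D3.rec (fun _ => (Cert rels S Gen.c)) lc_c_rc_26_2 lc_c_rc_22_2 lc_c_rc_2_1 lc_c_rc_2_1 lc_c_rc_23_2 lc_c_rc_21_2 lc_c_rc_22_2 lc_c_rc_24_2 lc_c_rc_26_2 lc_c_rc_22_2 lc_c_rc_20_2 lc_c_rc_25_2 lc_c_rc_26_2 lc_c_rc_22_2 lc_c_rc_2_1 lc_c_rc_2_1 lc_c_rc_2_1 lc_c_rc_24_2 lc_c_rc_23_2 lc_c_rc_22_2 lc_c_rc_21_0 lc_c_rc_25_2 lc_c_rc_26_2 lc_c_rc_22_2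 lc_c_rc_25_2 lc_c_rc_21_2 lc_c_rc_26_2 lc_c_rc_22_2 lc_c_rc_25_2 lc_c_rc_24_2 lc_c_rc_25_2 lc_c_rc_22_2 lc_c_rc_20_2 lc_c_rc_21_2 lc_c_rc_22_2 lc_c_rc_21_0 lc_c_rc_21_2 lc_c_rc_20_0 lc_c_rc_23_2 lc_c_rc_25_2 lc_c_rc_26_2 lc_c_rc_26_2 lc_c_rc_21_0 lc_c_rc_21_0 lc_c_rc_26_2 lc_c_rc_22_0 lc_c_rc_25_2 lc_c_rc_22_2 lc_c_rc_20_4 lc_c_rc_25_2 lc_c_rc_2_1)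
def ce_c_10 : D2 → D3 → (Cert rels S Gen.c) := @D2.rec (fun _ => D3 → (Cert rels S Gen.c)) (@D3.rec (fun _ => (Cert rels S Gen.c)) lc_c_rc_2_1 lc_c_rc_20_4 lc_c_rc_26_2 lc_c_rc_26_2 lc_c_Cert_tree lc_c_rc_2_1 lc_c_rc_19_0 lc_c_rc_26_2 lc_c_rc_22_2 lc_c_rc_23_2 lc_c_rc_22_2 lc_c_rc_24_2 lc_c_rc_20_2 lc_c_rc_25_2 lc_c_rc_20_4 lc_c_rc_26_2 lc_c_rc_20_4 lc_c_rc_56_58 lc_c_rc_19_0 lc_c_rc_26_2 lc_c_rc_19_0 lc_c_rc_26_2 lc_c_rc_11_3 lc_c_rc_26_2 lc_c_rc_22_2 lc_c_rc_23_2 lc_c_rc_23_2 lc_c_rc_22_0 lc_c_rc_23_2 lc_c_rc_21_2 lc_c_rc_22_2 lc_c_rc_2_1 lc_c_rc_2_1 lc_c_rc_2_1 lc_c_rc_23_2 lc_c_rc_21_2 lc_c_rc_22_2 lc_c_rc_24_2 lc_c_rc_23_2 lc_c_rc_22_2 lc_c_rc_26_2 lc_c_rc_21_2 lc_c_rc_22_2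 lc_c_rc_2_1 lc_c_rc_2_1 lc_c_rc_2_1 lc_c_rc_2_1 lc_c_rc_21_2 lc_c_rc_23_2 lc_c_rc_21_2 lc_c_rc_22_2) (@D3.rec (fun _ => (Cert rels S Gen.c)) lc_c_rc_24_2 lc_c_rc_23_2 lc_c_rc_22_2 lc_c_rc_25_2 lc_c_rc_24_2 lc_c_rc_23_2 lc_c_Cert_tree lc_c_rc_11_3 lc_c_rc_26_2 lc_c_rc_22_2 lc_c_rc_11_3 lc_c_rc_22_2 lc_c_rc_23_2 lc_c_rc_26_2 lc_c_rc_22_2 lc_c_rc_21_2 lc_c_rc_26_2 lc_c_rc_22_2 lc_c_rc_21_2 lc_c_rc_11_3 lc_c_rc_22_2 lc_c_rc_21_2 lc_c_rc_11_3 lc_c_rc_20_2 lc_c_rc_20_2 lc_c_rc_22_2 lc_c_rc_23_2 lc_c_rc_23_2 lc_c_rc_23_2 lc_c_rc_20_2 lc_c_rc_19_0 lc_c_rc_20_2 lc_c_rc_23_2 lc_c_rc_2_1 lc_c_rc_22_2 lc_c_rc_23_2 lc_c_rc_21_2 lc_c_rc_21_2 lc_c_Cert_tree lc_c_rc_21_2 lc_c_rc_25_2 lc_c_rc_20_2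 lc_c_rc_26_2 lc_c_rc_21_2 lc_c_rc_20_2 lc_c_rc_22_2 lc_c_rc_21_2 lc_c_rc_21_2 lc_c_rc_19_0 lc_c_rc_26_2 lc_c_rc_2_1) (@D3.rec (fun _ => (Cert rels S Gen.c)) lc_c_rc_2_1 lc_c_rc_2_1 lc_c_rc_26_2 lc_c_rc_22_0 lc_c_rc_21_2 lc_c_rc_21_2 lc_c_rc_21_2 lc_c_rc_22_2 lc_c_rc_55_19 lc_c_rc_24_2 lc_c_rc_2_1 lc_c_rc_26_2 lc_c_rc_2_1 lc_c_rc_21_2 lc_c_rc_19_0 lc_c_rc_11_5 lc_c_rc_26_2 lc_c_rc_23_2 lc_c_rc_26_2 lc_c_rc_22_2 lc_c_rc_24_2 lc_c_rc_23_2 lc_c_rc_22_2 lc_c_rc_26_2 lc_c_rc_23_2 lc_c_rc_22_0 lc_c_rc_22_2 lc_c_Cert_tree lc_c_rc_22_2 lc_c_rc_23_2 lc_c_rc_23_2 lc_c_rc_21_2 lc_c_Cert_tree lc_c_rc_21_2 lc_c_rc_19_0 lc_c_rc_21_2 lc_c_rc_26_2 lc_c_rc_20_2 lc_c_rc_26_2 lc_c_rc_21_2 lc_c_rc_20_2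 lc_c_rc_21_2 lc_c_rc_22_2 lc_c_rc_24_2 lc_c_rc_23_2 lc_c_Cert_tree lc_c_rc_23_2 lc_c_rc_22_2 lc_c_rc_21_2 lc_c_rc_19_0 lc_c_rc_26_2) (@D3.rec (fun _ => (Cert rels S Gen.c)) lc_c_rc_11_3 lc_c_rc_26_2 lc_c_rc_22_2 lc_c_rc_26_2 lc_c_rc_23_2 lc_c_rc_11_3 lc_c_rc_26_2 lc_c_rc_2_1 lc_c_rc_11_3 lc_c_rc_22_2 lc_c_rc_24_2 lc_c_rc_2_1 lc_c_rc_2_1 lc_c_rc_2_1 lc_c_rc_19_0 lc_c_rc_2_1 lc_c_rc_2_1 lc_c_rc_25_2 lc_c_rc_26_2 lc_c_rc_26_2 lc_c_rc_22_2 lc_c_rc_23_2 lc_c_rc_25_2 lc_c_rc_23_2 lc_c_rc_23_2 lc_c_rc_24_2 lc_c_rc_21_2 lc_c_rc_21_2 lc_c_rc_26_2 lc_c_rc_25_0 lc_c_rc_26_2 lc_c_rc_11_1 lc_c_rc_2_1 lc_c_rc_2_1 lc_c_rc_2_1 lc_c_rc_23_2 lc_c_rc_23_2 lc_c_rc_22_2 lc_c_rc_22_0 lc_c_rc_23_2 lc_c_rc_25_2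 lc_c_rc_24_2 lc_c_rc_26_2 lc_c_rc_21_2 lc_c_rc_26_2 lc_c_rc_24_2 lc_c_rc_23_2 lc_c_Cert_tree lc_c_rc_23_2 lc_c_rc_20_2 lc_c_rc_21_2) (@D3.rec (fun _ => (Cert rels S Gen.c)) lc_c_rc_19_0 lc_c_rc_22_0 lc_c_rc_26_2 lc_c_rc_11_3 lc_c_rc_21_2 lc_c_rc_26_2 lc_c_rc_23_2 lc_c_rc_26_2 lc_c_rc_22_2 lc_c_rc_23_2 lc_c_rc_24_2 lc_c_rc_24_2 lc_c_rc_24_2 lc_c_rc_23_2 lc_c_rc_22_2 lc_c_rc_25_2 lc_c_rc_24_2 lc_c_rc_23_2 lc_c_rc_23_2 lc_c_rc_19_0 lc_c_rc_26_2 lc_c_rc_26_2 lc_c_rc_11_3 lc_c_rc_26_2 lc_c_rc_21_2 lc_c_rc_20_2 lc_c_rc_22_2 lc_c_rc_22_2 lc_c_Cert_tree lc_c_rc_26_2 lc_c_rc_19_0 lc_c_rc_26_0 lc_c_rc_26_2 lc_c_rc_24_2 lc_c_rc_23_2 lc_c_Cert_tree lc_c_rc_23_2 lc_c_Cert_tree lc_c_rc_21_2 lc_c_rc_19_0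 lc_c_rc_21_2 lc_c_rc_26_2 lc_c_rc_11_3 lc_c_rc_21_2 lc_c_rc_26_2 lc_c_rc_26_2 lc_c_rc_22_2 lc_c_rc_21_2 lc_c_rc_20_2 lc_c_rc_23_2 lc_c_rc_21_2) (@D3.rec (fun _ => (Cert rels S Gen.c)) lc_c_rc_22_2 lc_c_rc_22_2 lc_c_rc_24_2 lc_c_Cert_tree lc_c_rc_23_2 lc_c_rc_19_0 lc_c_rc_21_2 lc_c_rc_26_2 lc_c_rc_19_0 lc_c_rc_26_2 lc_c_rc_11_3 lc_c_rc_26_2 lc_c_rc_22_2 lc_c_rc_2_1 lc_c_rc_11_3 lc_c_rc_22_2 lc_c_rc_26_2 lc_c_rc_19_0 lc_c_rc_26_2 lc_c_rc_11_3 lc_c_rc_21_2 lc_c_rc_26_2 lc_c_rc_26_2 lc_c_rc_22_2 lc_c_rc_26_2 lc_c_rc_22_2 lc_c_rc_11_3 lc_c_rc_22_2 lc_c_rc_2_1 lc_c_rc_11_3 lc_c_rc_20_2 lc_c_rc_21_2 lc_c_rc_2_1 lc_c_rc_2_1 lc_c_rc_20_4 lc_c_rc_2_1 lc_c_rc_2_1 lc_c_rc_2_1 lc_c_rc_2_1 lc_c_Cert_tree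 lc_c_rc_2_1 lc_c_rc_19_0 lc_c_rc_22_0 lc_c_rc_26_2 lc_c_rc_2_1 lc_c_rc_11_1 lc_c_rc_23_2 lc_c_rc_26_2 lc_c_rc_11_1 lc_c_rc_22_2 lc_c_rc_22_2) (@D3.rec (fun _ => (Cert rels S Gen.c)) lc_c_rc_2_1 lc_c_rc_2_1 lc_c_rc_2_1 lc_c_rc_2_1 lc_c_Cert_tree lc_c_rc_2_1 lc_c_rc_19_0 lc_c_rc_21_2 lc_c_rc_26_2 lc_c_rc_24_2 lc_c_rc_23_2 lc_c_Cert_tree lc_c_rc_23_2 lc_c_rc_22_0 lc_c_rc_21_2 lc_c_rc_19_0 lc_c_rc_21_2 lc_c_rc_26_2 lc_c_rc_26_2 lc_c_rc_23_2 lc_c_rc_21_2 lc_c_rc_22_2 lc_c_rc_21_2 lc_c_rc_20_2 lc_c_rc_25_0 lc_c_rc_20_2 lc_c_rc_20_2 lc_c_rc_21_2 lc_c_rc_2_1 lc_c_rc_2_1 lc_c_rc_2_1 lc_c_rc_24_2 lc_c_rc_23_2 lc_c_rc_19_0 lc_c_rc_26_2 lc_c_rc_26_2 lc_c_rc_22_2 lc_c_rc_22_2 lc_c_rc_21_2 lc_c_rc_22_2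 lc_c_rc_20_2 lc_c_rc_22_2 lc_c_Cert_tree lc_c_rc_26_2 lc_c_Cert_tree lc_c_rc_26_2 lc_c_rc_19_0 lc_c_rc_21_2 lc_c_rc_26_2 lc_c_rc_11_3 lc_c_rc_21_2) (@D3.rec (fun _ => (Cert rels S Gen.c)) lc_c_rc_26_2 lc_c_rc_11_1 lc_c_rc_26_2 lc_c_rc_22_2 lc_c_rc_24_2 lc_c_Cert_tree lc_c_rc_23_2 lc_c_rc_19_0 lc_c_rc_21_2 lc_c_rc_26_2 lc_c_rc_19_0 lc_c_rc_22_0 lc_c_rc_26_2 lc_c_rc_11_3 lc_c_rc_21_2 lc_c_rc_26_2 lc_c_rc_23_2 lc_c_rc_26_2 lc_c_rc_22_2 lc_c_rc_2_1 lc_c_rc_11_3 lc_c_rc_11_3 lc_c_rc_23_2 lc_c_rc_26_2 lc_c_rc_22_2 lc_c_rc_24_2 lc_c_rc_26_2 lc_c_rc_22_2 lc_c_rc_20_0 lc_c_rc_20_0 lc_c_rc_22_2 lc_c_rc_24_2 lc_c_rc_23_2 lc_c_rc_22_2 lc_c_rc_25_2 lc_c_rc_24_2 lc_c_rc_23_2 lc_c_Cert_tree lc_c_rc_25_2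 lc_c_rc_24_2 lc_c_rc_24_2 lc_c_rc_19_0 lc_c_rc_26_2 lc_c_rc_11_3 lc_c_rc_21_2 lc_c_rc_26_2 lc_c_rc_26_2 lc_c_rc_22_2 lc_c_rc_11_3 lc_c_rc_26_2 lc_c_rc_22_2) (@D3.rec (fun _ => (Cert rels S Gen.c)) lc_c_rc_2_1 lc_c_rc_11_3 lc_c_rc_22_2 lc_c_rc_2_1 lc_c_rc_11_3 lc_c_rc_20_2 lc_c_rc_11_3 lc_c_rc_26_2 lc_c_rc_22_2 lc_c_rc_2_1 lc_c_rc_11_3 lc_c_rc_11_3 lc_c_rc_26_2 lc_c_rc_22_2 lc_c_rc_22_2 lc_c_rc_2_1 lc_c_rc_11_3 lc_c_rc_22_2 lc_c_rc_2_1 lc_c_rc_11_3 lc_c_rc_20_2 lc_c_rc_2_1 lc_c_rc_21_2 lc_c_rc_21_2 lc_c_rc_11_3 lc_c_rc_2_1 lc_c_rc_26_2 lc_c_rc_2_1 lc_c_rc_25_0 lc_c_rc_26_2 lc_c_rc_26_2 lc_c_rc_21_2 lc_c_rc_20_2 lc_c_rc_21_2 lc_c_rc_22_2 lc_c_rc_19_0 lc_c_rc_26_2 lc_c_rc_26_2 lc_c_rc_21_2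 lc_c_rc_21_2 lc_c_rc_21_2 lc_c_rc_25_2 lc_c_rc_26_2 lc_c_rc_22_2 lc_c_rc_11_3 lc_c_rc_11_3 lc_c_rc_11_3 lc_c_rc_11_3 lc_c_rc_11_3 lc_c_rc_2_1 lc_c_rc_2_1) (@D3.rec (fun _ => (Cert rels S Gen.c)) lc_c_rc_23_2 lc_c_rc_21_2 lc_c_rc_21_2 lc_c_Cert_tree lc_c_rc_21_2 lc_c_rc_25_2 lc_c_rc_26_2 lc_c_rc_25_0 lc_c_rc_2_1 lc_c_rc_2_1 lc_c_rc_23_2 lc_c_rc_23_2 lc_c_rc_21_2 lc_c_rc_21_2 lc_c_rc_19_0 lc_c_rc_26_2 lc_c_rc_26_2 lc_c_rc_20_2 lc_c_rc_22_2 lc_c_Cert_tree lc_c_rc_26_2 lc_c_rc_23_2 lc_c_rc_23_2 lc_c_rc_21_2 lc_c_rc_19_1 lc_c_rc_21_2 lc_c_rc_19_0 lc_c_rc_19_1 lc_c_rc_26_2 lc_c_rc_21_0 lc_c_rc_26_2 lc_c_rc_26_2 lc_c_rc_21_2 lc_c_rc_21_2 lc_c_rc_22_2 lc_c_rc_26_2 lc_c_rc_22_2 lc_c_rc_22_2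 lc_c_rc_23_2 lc_c_rc_23_2 lc_c_rc_22_0 lc_c_rc_21_2 lc_c_rc_26_2 lc_c_rc_11_3 lc_c_rc_26_2 lc_c_rc_22_2 lc_c_rc_11_5 lc_c_rc_22_2 lc_c_rc_25_2 lc_c_rc_11_3 lc_c_rc_22_2) (@D3.rec (fun _ => (Cert rels S Gen.c)) lc_c_rc_20_0 lc_c_rc_11_3 lc_c_rc_11_3 lc_c_Cert_tree lc_c_rc_11_3 lc_c_rc_11_3 lc_c_rc_2_1 lc_c_rc_2_1 lc_c_Cert_tree lc_c_rc_2_1 lc_c_rc_23_2 lc_c_rc_23_2 lc_c_rc_21_2 lc_c_Cert_tree lc_c_rc_21_2 lc_c_rc_19_0 lc_c_rc_21_2 lc_c_rc_26_2 lc_c_rc_26_2 lc_c_rc_21_2 lc_c_rc_20_2 lc_c_rc_21_2 lc_c_rc_22_2 lc_c_rc_24_2 lc_c_rc_23_2 lc_c_rc_21_2 lc_c_rc_19_0 lc_c_rc_26_2 lc_c_rc_11_3 lc_c_rc_26_2 lc_c_rc_22_2 lc_c_rc_20_2 lc_c_rc_22_2 lc_c_rc_22_2 lc_c_Cert_tree lc_c_rc_26_2 lc_c_rc_19_0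 lc_c_rc_21_2 lc_c_rc_26_2 lc_c_rc_24_2 lc_c_rc_19_1 lc_c_rc_23_2 lc_c_rc_56_37 lc_c_rc_21_2 lc_c_rc_19_0 lc_c_rc_21_2 lc_c_rc_26_2 lc_c_rc_11_3 lc_c_rc_21_2 lc_c_rc_26_2 lc_c_rc_23_2) (@D3.rec (fun _ => (Cert rels S Gen.c)) lc_c_rc_26_2 lc_c_rc_22_2 lc_c_rc_21_2 lc_c_rc_22_2 lc_c_rc_21_2 lc_c_rc_21_2 lc_c_rc_22_2 lc_c_rc_20_2 lc_c_rc_24_2 lc_c_rc_22_2 lc_c_rc_26_2 lc_c_rc_22_2 lc_c_rc_2_1 lc_c_rc_11_3 lc_c_rc_22_2 lc_c_rc_2_1 lc_c_rc_11_3 lc_c_rc_25_0 lc_c_rc_2_1 lc_c_rc_26_2 lc_c_rc_2_1 lc_c_rc_2_1 lc_c_rc_24_2 lc_c_rc_26_2 lc_c_rc_26_2 lc_c_rc_26_2 lc_c_rc_21_2 lc_c_rc_20_2 lc_c_rc_23_2 lc_c_rc_21_2 lc_c_rc_22_2 lc_c_rc_23_2 lc_c_rc_22_2 lc_c_rc_21_0 lc_c_rc_23_2 lc_c_rc_19_0 lc_c_rc_26_2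 lc_c_rc_11_3 lc_c_rc_26_2 lc_c_rc_22_2 lc_c_rc_23_2 lc_c_rc_23_2 lc_c_rc_19_0 lc_c_rc_20_2 lc_c_rc_26_2 lc_c_rc_19_0 lc_c_rc_26_2 lc_c_rc_24_2 lc_c_rc_26_2 lc_c_rc_22_2 lc_c_rc_56_30) (@D3.rec (fun _ => (Cert rels S Gen.c)) lc_c_rc_11_3 lc_c_rc_22_2 lc_c_rc_24_2 lc_c_rc_56_30 lc_c_rc_11_3 lc_c_rc_11_3 lc_c_rc_11_3 lc_c_rc_22_0 lc_c_rc_11_3 lc_c_rc_11_3 lc_c_rc_11_3 lc_c_rc_2_1 lc_c_rc_2_1 lc_c_rc_2_1 lc_c_Cert_tree lc_c_rc_2_1 lc_c_rc_23_2 lc_c_rc_23_2 lc_c_rc_21_2 lc_c_Cert_tree lc_c_rc_21_2 lc_c_rc_19_0 lc_c_rc_55_73 lc_c_rc_26_2 lc_c_rc_26_2 lc_c_rc_24_2 lc_c_rc_2_1 lc_c_rc_26_2 lc_c_rc_2_1 lc_c_rc_24_2 lc_c_rc_23_2 lc_c_Cert_tree lc_c_rc_23_2 lc_c_rc_21_2 lc_c_rc_19_0 lc_c_rc_26_2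 lc_c_rc_11_3 lc_c_rc_26_2 lc_c_rc_22_2 lc_c_rc_21_2 lc_c_rc_20_2 lc_c_rc_22_2 lc_c_rc_22_2 lc_c_Cert_tree lc_c_rc_26_2 lc_c_rc_19_0 lc_c_rc_21_2 lc_c_rc_26_2 lc_c_rc_24_2 lc_c_rc_23_2 lc_c_Cert_tree) (@D3.rec (fun _ => (Cert rels S Gen.c)) lc_c_rc_23_2 lc_c_rc_20_4 lc_c_rc_21_2 lc_c_rc_19_0 lc_c_rc_20_2 lc_c_rc_26_2 lc_c_rc_11_3 lc_c_rc_21_2 lc_c_rc_26_2 lc_c_rc_23_2 lc_c_rc_26_2 lc_c_rc_22_2 lc_c_rc_26_2 lc_c_rc_23_2 lc_c_rc_21_2 lc_c_rc_22_2 lc_c_rc_21_2 lc_c_rc_23_2 lc_c_rc_22_2 lc_c_rc_24_2 lc_c_rc_23_2 lc_c_rc_24_2 lc_c_rc_23_2 lc_c_rc_23_2 lc_c_rc_19_0 lc_c_rc_21_2 lc_c_rc_26_2 lc_c_rc_26_2 lc_c_rc_11_3 lc_c_rc_26_2 lc_c_rc_22_2 lc_c_rc_2_1 lc_c_rc_11_3 lc_c_rc_22_2 lc_c_rc_24_2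 lc_c_rc_20_2 lc_c_rc_25_2 lc_c_rc_11_3 lc_c_rc_21_2 lc_c_rc_26_2 lc_c_rc_26_2 lc_c_rc_22_2 lc_c_rc_11_3 lc_c_rc_26_2 lc_c_rc_22_2 lc_c_rc_24_2 lc_c_rc_11_3 lc_c_rc_22_2 lc_c_rc_2_1 lc_c_rc_11_3 lc_c_rc_20_2) (@D3.rec (fun _ => (Cert rels S Gen.c)) lc_c_rc_24_2 lc_c_rc_22_0 lc_c_rc_22_0 lc_c_rc_24_2 lc_c_rc_2_1 lc_c_rc_26_2 lc_c_rc_11_3 lc_c_rc_11_3 lc_c_rc_11_3 lc_c_Cert_tree lc_c_rc_11_3 lc_c_rc_19_0 lc_c_rc_26_2 lc_c_rc_11_3 lc_c_rc_2_1 lc_c_rc_2_1 lc_c_rc_2_1 lc_c_rc_2_1 lc_c_Cert_tree lc_c_rc_2_1 lc_c_rc_19_0 lc_c_rc_21_2 lc_c_rc_26_2 lc_c_rc_24_2 lc_c_rc_23_2 lc_c_Cert_tree lc_c_rc_23_2 lc_c_Cert_tree lc_c_rc_21_2 lc_c_rc_19_0 lc_c_rc_21_2 lc_c_rc_26_2 lc_c_rc_11_3 lc_c_rc_21_2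 lc_c_rc_26_2 lc_c_rc_26_2 lc_c_rc_22_2 lc_c_rc_21_2 lc_c_rc_20_2 lc_c_rc_23_2 lc_c_rc_21_2 lc_c_rc_22_2 lc_c_rc_22_2 lc_c_rc_24_2 lc_c_Cert_tree lc_c_rc_23_2 lc_c_rc_19_0 lc_c_rc_20_4 lc_c_rc_26_2 lc_c_rc_19_0 lc_c_rc_26_2) (@D3.rec (fun _ => (Cert rels S Gen.c)) lc_c_rc_11_3 lc_c_rc_26_2 lc_c_rc_22_2 lc_c_rc_2_1 lc_c_rc_11_3 lc_c_rc_22_2 lc_c_rc_21_2 lc_c_rc_22_2 lc_c_rc_20_2 lc_c_rc_22_2 lc_c_Cert_tree lc_c_rc_26_2 lc_c_Cert_tree lc_c_rc_26_2 lc_c_rc_19_0 lc_c_rc_21_2 lc_c_rc_26_2 lc_c_rc_11_3 lc_c_rc_21_2 lc_c_rc_26_2 lc_c_rc_22_2 lc_c_rc_26_2 lc_c_rc_22_2 lc_c_rc_24_2 lc_c_Cert_tree lc_c_rc_23_2 lc_c_rc_19_0 lc_c_rc_21_2 lc_c_rc_26_2 lc_c_rc_19_0 lc_c_rc_21_2 lc_c_rc_26_2 lc_c_rc_22_0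 lc_c_rc_21_2 lc_c_rc_26_2 lc_c_rc_23_2 lc_c_rc_26_2 lc_c_rc_22_2 lc_c_rc_20_2 lc_c_rc_21_2 lc_c_rc_11_3 lc_c_rc_23_2 lc_c_rc_26_2 lc_c_rc_22_2 lc_c_rc_24_2 lc_c_rc_26_2 lc_c_rc_22_2 lc_c_rc_23_2 lc_c_rc_21_2 lc_c_rc_22_2 lc_c_rc_23_2) (@D3.rec (fun _ => (Cert rels S Gen.c)) lc_c_rc_23_2 lc_c_rc_22_2 lc_c_rc_21_2 lc_c_rc_21_2 lc_c_rc_22_2 lc_c_Cert_tree lc_c_rc_23_2 lc_c_rc_22_2 lc_c_rc_24_2 lc_c_rc_19_0 lc_c_rc_21_2 lc_c_rc_26_2 lc_c_rc_11_3 lc_c_rc_21_2 lc_c_rc_26_2 lc_c_rc_26_2 lc_c_rc_22_2 lc_c_rc_26_2 lc_c_rc_22_2 lc_c_rc_2_1 lc_c_rc_11_3 lc_c_rc_22_2 lc_c_rc_2_1 lc_c_rc_11_3 lc_c_rc_20_2 lc_c_rc_26_2 lc_c_rc_23_2 lc_c_rc_2_1 lc_c_rc_11_3 lc_c_rc_11_3 lc_c_rc_26_2 lc_c_rc_22_2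 lc_c_rc_22_2 lc_c_rc_2_1 lc_c_rc_11_3 lc_c_rc_2_1 lc_c_rc_26_2 lc_c_rc_55_10 lc_c_rc_11_3 lc_c_rc_2_1 lc_c_rc_2_1 lc_c_rc_2_1 lc_c_rc_2_1 lc_c_rc_26_2 lc_c_rc_20_2 lc_c_rc_23_2 lc_c_rc_21_2 lc_c_rc_22_2 lc_c_rc_24_2 lc_c_rc_23_2 lc_c_rc_22_2) (@D3.rec (fun _ => (Cert rels S Gen.c)) lc_c_rc_24_2 lc_c_rc_23_2 lc_c_rc_55_19 lc_c_rc_26_2 lc_c_rc_11_3 lc_c_rc_11_3 lc_c_rc_11_3 lc_c_Cert_tree lc_c_rc_11_3 lc_c_rc_19_0 lc_c_rc_26_2 lc_c_rc_11_3 lc_c_rc_24_2 lc_c_rc_23_2 lc_c_rc_26_0 lc_c_rc_23_2 lc_c_rc_26_0 lc_c_rc_21_2 lc_c_rc_26_0 lc_c_rc_22_0 lc_c_rc_22_0 lc_c_rc_20_4 lc_c_rc_20_2 lc_c_rc_23_0 lc_c_rc_20_2 lc_c_rc_2_1 lc_c_rc_2_1 lc_c_rc_2_1 lc_c_rc_24_2 lc_c_rc_23_2 lc_c_rc_21_2 lc_c_rc_22_2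 lc_c_rc_20_2 lc_c_rc_22_2 lc_c_rc_26_0 lc_c_rc_26_2 lc_c_rc_26_0 lc_c_rc_26_2 lc_c_rc_24_2 lc_c_rc_22_0 lc_c_rc_21_2 lc_c_rc_20_4 lc_c_rc_24_2 lc_c_Cert_tree lc_c_rc_23_2 lc_c_rc_19_0 lc_c_rc_21_2 lc_c_rc_26_2 lc_c_rc_19_0 lc_c_rc_20_2 lc_c_rc_26_2) (@D3.rec (fun _ => (Cert rels S Gen.c)) lc_c_rc_11_3 lc_c_rc_21_2 lc_c_rc_26_2 lc_c_rc_23_2 lc_c_rc_26_2 lc_c_rc_22_2 lc_c_rc_11_3 lc_c_rc_26_2 lc_c_rc_22_2 lc_c_rc_24_2 lc_c_rc_26_2 lc_c_rc_22_2 lc_c_rc_55_46 lc_c_rc_2_3 lc_c_rc_22_2 lc_c_rc_24_2 lc_c_rc_23_2 lc_c_rc_22_2 lc_c_rc_23_0 lc_c_rc_24_2 lc_c_rc_23_2 lc_c_Cert_tree lc_c_rc_23_2 lc_c_rc_24_2 lc_c_Cert_tree lc_c_rc_24_2 lc_c_rc_19_0 lc_c_rc_23_2 lc_c_rc_26_2 lc_c_rc_11_3 lc_c_rc_21_2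 lc_c_rc_26_2 lc_c_rc_26_2 lc_c_rc_26_2 lc_c_rc_11_3 lc_c_rc_20_4 lc_c_rc_26_2 lc_c_rc_26_2 lc_c_rc_20_0 lc_c_rc_11_3 lc_c_rc_22_2 lc_c_rc_20_2 lc_c_rc_55_28 lc_c_rc_19_0 lc_c_rc_26_0 lc_c_rc_26_0 lc_c_rc_22_2 lc_c_rc_22_2 lc_c_rc_26_2 lc_c_rc_11_3 lc_c_rc_11_3) (@D3.rec (fun _ => (Cert rels S Gen.c)) lc_c_Cert_tree lc_c_rc_11_3 lc_c_Cert_tree lc_c_rc_11_3 lc_c_rc_19_0 lc_c_rc_26_2 lc_c_rc_26_2 lc_c_rc_22_2 lc_c_rc_2_1 lc_c_rc_2_1 lc_c_rc_2_1 lc_c_rc_2_1 lc_c_rc_23_2 lc_c_rc_2_1 lc_c_rc_25_2 lc_c_rc_2_1 lc_c_rc_22_2 lc_c_rc_26_2 lc_c_rc_26_2 lc_c_rc_26_2 lc_c_rc_24_2 lc_c_Cert_tree lc_c_rc_23_2 lc_c_rc_19_0 lc_c_rc_21_2 lc_c_rc_26_2 lc_c_rc_19_0 lc_c_rc_21_2 lc_c_rc_26_2 lc_c_rc_21_2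 lc_c_rc_21_2 lc_c_rc_26_2 lc_c_rc_23_2 lc_c_rc_26_2 lc_c_rc_22_2 lc_c_rc_21_2 lc_c_rc_26_2 lc_c_rc_22_2 lc_c_rc_22_2 lc_c_rc_23_2 lc_c_rc_21_2 lc_c_rc_22_2 lc_c_rc_23_2 lc_c_rc_22_2 lc_c_Cert_tree lc_c_Cert_tree lc_c_rc_24_2 lc_c_rc_19_0 lc_c_rc_21_2 lc_c_rc_26_2 lc_c_rc_11_3) (@D3.rec (fun _ => (Cert rels S Gen.c)) lc_c_rc_21_2 lc_c_rc_26_2 lc_c_rc_26_2 lc_c_rc_26_2 lc_c_rc_24_2 lc_c_rc_11_3 lc_c_rc_26_2 lc_c_rc_21_2 lc_c_rc_22_2 lc_c_Cert_tree lc_c_rc_26_2 lc_c_rc_22_2 lc_c_Cert_tree lc_c_rc_26_2 lc_c_rc_19_0 lc_c_rc_21_2 lc_c_rc_26_2 lc_c_rc_19_0 lc_c_rc_21_2 lc_c_rc_26_2 lc_c_rc_11_3 lc_c_rc_21_2 lc_c_rc_26_2 lc_c_rc_23_2 lc_c_rc_26_2 lc_c_rc_22_2 lc_c_rc_11_3 lc_c_rc_23_2 lc_c_rc_26_2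 lc_c_rc_22_2 lc_c_rc_24_2 lc_c_rc_26_2 lc_c_rc_22_2 lc_c_Cert_tree lc_c_rc_24_2 lc_c_rc_19_0 lc_c_rc_21_2 lc_c_rc_26_2 lc_c_rc_11_3 lc_c_rc_21_2 lc_c_rc_26_2 lc_c_rc_23_2 lc_c_rc_26_2 lc_c_rc_22_2 lc_c_rc_11_3 lc_c_rc_21_2 lc_c_rc_26_2 lc_c_rc_23_2 lc_c_rc_26_2 lc_c_rc_22_2 lc_c_rc_2_1) (@D3.rec (fun _ => (Cert rels S Gen.c)) lc_c_rc_11_3 lc_c_rc_11_3 lc_c_rc_23_2 lc_c_rc_26_2 lc_c_rc_22_2 lc_c_rc_24_2 lc_c_rc_26_2 lc_c_rc_22_2 lc_c_rc_2_1 lc_c_rc_22_2 lc_c_rc_11_3 lc_c_rc_11_3 lc_c_rc_24_2 lc_c_rc_26_2 lc_c_rc_22_2 lc_c_rc_26_0 lc_c_rc_25_2 lc_c_rc_26_2 lc_c_rc_22_2 lc_c_Cert_tree lc_c_rc_24_2 lc_c_rc_23_2 lc_c_rc_22_2 lc_c_rc_23_2 lc_c_rc_23_2 lc_c_rc_23_2 lc_c_Cert_tree lc_c_rc_21_2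 lc_c_rc_22_2 lc_c_Cert_tree lc_c_rc_19_0 lc_c_rc_22_2 lc_c_rc_19_0 lc_c_rc_21_2 lc_c_rc_26_2 lc_c_rc_11_3 lc_c_rc_21_2 lc_c_rc_26_2 lc_c_rc_26_2 lc_c_rc_22_2 lc_c_rc_2_1 lc_c_rc_11_3 lc_c_rc_11_3 lc_c_rc_20_2 lc_c_rc_26_2 lc_c_rc_22_2 lc_c_rc_22_2 lc_c_rc_2_1 lc_c_rc_11_3 lc_c_rc_22_2 lc_c_rc_2_1) (@D3.rec (fun _ => (Cert rels S Gen.c)) lc_c_rc_11_3 lc_c_rc_26_2 lc_c_rc_2_1 lc_c_rc_23_2 lc_c_rc_22_0 lc_c_rc_11_3 lc_c_rc_26_2 lc_c_rc_11_1 lc_c_rc_11_1 lc_c_rc_2_1 lc_c_rc_11_3 lc_c_rc_11_3 lc_c_rc_2_1 lc_c_rc_2_1 lc_c_rc_20_4 lc_c_rc_11_3 lc_c_rc_11_3 lc_c_rc_26_2 lc_c_rc_20_2 lc_c_rc_20_2 lc_c_rc_2_1 lc_c_rc_11_3 lc_c_rc_26_2 lc_c_rc_2_1 lc_c_rc_20_4 lc_c_rc_23_0 lc_c_rc_11_1 lc_c_rc_22_2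 lc_c_rc_56_58 lc_c_rc_26_2 lc_c_rc_22_2 lc_c_rc_26_2 lc_c_rc_2_1 lc_c_Cert_tree lc_c_rc_2_1 lc_c_rc_2_1 lc_c_rc_19_0 lc_c_rc_21_2 lc_c_rc_21_2 lc_c_rc_2_1 lc_c_rc_11_3 lc_c_rc_20_2 lc_c_rc_22_2 lc_c_Cert_tree lc_c_rc_26_2 lc_c_rc_19_0 lc_c_rc_21_2 lc_c_rc_26_2 lc_c_rc_26_2 lc_c_rc_19_0 lc_c_rc_26_2) (@D3.rec (fun _ => (Cert rels S Gen.c)) lc_c_rc_11_3 lc_c_rc_21_2 lc_c_rc_26_2 lc_c_rc_26_2 lc_c_rc_11_3 lc_c_rc_26_2 lc_c_rc_2_1 lc_c_rc_11_3 lc_c_rc_2_1 lc_c_rc_19_0 lc_c_rc_11_3 lc_c_rc_2_1 lc_c_rc_11_3 lc_c_rc_20_2 lc_c_rc_25_0 lc_c_rc_21_2 lc_c_rc_26_2 lc_c_rc_2_1 lc_c_rc_20_2 lc_c_rc_22_2 lc_c_rc_2_1 lc_c_rc_11_3 lc_c_rc_20_0 lc_c_rc_20_2 lc_c_rc_22_2 lc_c_rc_23_2 lc_c_Cert_tree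 lc_c_rc_2_1 lc_c_rc_11_3 lc_c_rc_22_0 lc_c_rc_2_1 lc_c_rc_24_2 lc_c_rc_24_2 lc_c_rc_2_1 lc_c_rc_20_4 lc_c_rc_2_1 lc_c_rc_20_4 lc_c_rc_20_4 lc_c_rc_2_3 lc_c_rc_21_2 lc_c_rc_20_2 lc_c_rc_11_3 lc_c_rc_11_3 lc_c_rc_21_2 lc_c_rc_26_2 lc_c_rc_2_1 lc_c_rc_22_2 lc_c_rc_26_2 lc_c_rc_26_2 lc_c_rc_19_1 lc_c_rc_23_2) (@D3.rec (fun _ => (Cert rels S Gen.c)) lc_c_rc_19_0 lc_c_rc_26_2 lc_c_rc_11_3 lc_c_rc_21_2 lc_c_rc_26_2 lc_c_rc_23_2 lc_c_rc_26_2 lc_c_rc_22_2 lc_c_rc_23_2 lc_c_rc_25_2 lc_c_rc_24_2 lc_c_rc_19_0 lc_c_rc_26_2 lc_c_rc_11_3 lc_c_rc_26_2 lc_c_rc_23_2 lc_c_rc_21_2 lc_c_rc_21_2 lc_c_rc_19_0 lc_c_rc_26_2 lc_c_rc_20_2 lc_c_rc_23_2 lc_c_rc_20_2 lc_c_rc_26_2 lc_c_rc_22_2 lc_c_rc_22_2 lc_c_rc_11_3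 lc_c_rc_24_2 lc_c_rc_11_3 lc_c_rc_26_2 lc_c_rc_23_2 lc_c_rc_23_2 lc_c_rc_24_2 lc_c_rc_26_2 lc_c_rc_26_2 lc_c_rc_22_2 lc_c_rc_2_1 lc_c_rc_2_1 lc_c_rc_24_2 lc_c_rc_23_2 lc_c_rc_23_2 lc_c_rc_23_2 lc_c_rc_26_2 lc_c_rc_22_2 lc_c_rc_23_2 lc_c_rc_23_2 lc_c_rc_26_2 lc_c_rc_22_2 lc_c_rc_26_2 lc_c_rc_22_2 lc_c_rc_24_2) (@D3.rec (fun _ => (Cert rels S Gen.c)) lc_c_Cert_tree lc_c_rc_23_2 lc_c_rc_19_0 lc_c_rc_21_2 lc_c_rc_26_2 lc_c_rc_19_0 lc_c_rc_26_2 lc_c_rc_11_3 lc_c_rc_21_2 lc_c_rc_26_2 lc_c_rc_23_2 lc_c_rc_26_2 lc_c_rc_22_2 lc_c_rc_11_3 lc_c_rc_11_3 lc_c_rc_23_2 lc_c_rc_26_2 lc_c_rc_22_2 lc_c_rc_24_2 lc_c_rc_26_2 lc_c_rc_22_2 lc_c_rc_24_2 lc_c_rc_23_2 lc_c_rc_25_2 lc_c_rc_24_2 lc_c_rc_25_2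 lc_c_rc_24_2 lc_c_rc_19_0 lc_c_rc_26_2 lc_c_rc_11_3 lc_c_rc_21_2 lc_c_rc_26_2 lc_c_rc_26_2 lc_c_rc_11_3 lc_c_rc_26_2 lc_c_rc_11_3 lc_c_rc_22_2 lc_c_rc_11_3 lc_c_rc_20_2 lc_c_rc_23_2 lc_c_rc_11_3 lc_c_rc_25_2 lc_c_rc_11_3 lc_c_rc_26_2 lc_c_rc_11_3 lc_c_rc_22_2 lc_c_rc_20_4 lc_c_rc_55_10 lc_c_rc_24_2 lc_c_rc_22_0 lc_c_rc_22_2) (@D3.rec (fun _ => (Cert rels S Gen.c)) lc_c_rc_26_2 lc_c_rc_21_2 lc_c_rc_20_2 lc_c_rc_22_2 lc_c_rc_22_2 lc_c_rc_26_0 lc_c_rc_26_2 lc_c_rc_25_2 lc_c_rc_26_2 lc_c_rc_22_0 lc_c_rc_20_4 lc_c_rc_20_2 lc_c_rc_23_2 lc_c_rc_19_0 lc_c_rc_21_2 lc_c_rc_26_2 lc_c_rc_19_0 lc_c_rc_26_2 lc_c_rc_11_3 lc_c_rc_26_2 lc_c_rc_22_2 lc_c_rc_56_30 lc_c_rc_11_3 lc_c_rc_22_2 lc_c_rc_11_3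 lc_c_rc_26_2 lc_c_rc_22_2 lc_c_rc_11_3 lc_c_rc_26_2 lc_c_rc_22_2 lc_c_rc_2_1 lc_c_rc_11_3 lc_c_rc_22_2 lc_c_rc_2_1 lc_c_rc_11_3 lc_c_rc_20_2 lc_c_rc_2_1 lc_c_rc_11_3 lc_c_rc_22_2 lc_c_rc_2_1 lc_c_rc_11_3 lc_c_rc_22_2 lc_c_rc_2_1 lc_c_rc_11_3 lc_c_rc_20_2 lc_c_rc_2_1 lc_c_rc_11_3 lc_c_rc_21_2 lc_c_rc_2_1 lc_c_rc_20_2 lc_c_rc_11_3)
def ce_c_11 : D2 → D3 → (Cert rels S Gen.c) := @D2.rec (fun _ => D3 → (Cert rels S Gen.c)) (@D3.rec (fun _ => (Cert rels S Gen.c)) lc_c_rc_26_0 lc_c_rc_11_3 lc_c_rc_25_2 lc_c_rc_11_3 lc_c_rc_22_0 lc_c_rc_21_2 lc_c_Cert_tree lc_c_rc_2_1 lc_c_Cert_tree lc_c_rc_2_1 lc_c_rc_19_0 lc_c_rc_26_2 lc_c_rc_26_2 lc_c_rc_22_2 lc_c_rc_24_2 lc_c_Cert_tree lc_c_rc_23_2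 lc_c_rc_19_0 lc_c_rc_21_2 lc_c_rc_26_2 lc_c_rc_19_0 lc_c_rc_21_2 lc_c_rc_26_2 lc_c_rc_26_0 lc_c_rc_21_2 lc_c_rc_26_2 lc_c_rc_23_2 lc_c_rc_26_2 lc_c_rc_22_2 lc_c_rc_22_0 lc_c_rc_26_2 lc_c_rc_22_2 lc_c_rc_22_2 lc_c_rc_2_1 lc_c_rc_2_1 lc_c_rc_2_1 lc_c_Cert_tree lc_c_rc_24_2 lc_c_rc_19_0 lc_c_rc_21_2 lc_c_rc_26_2 lc_c_rc_11_3 lc_c_rc_21_2 lc_c_rc_26_2 lc_c_rc_26_2 lc_c_rc_22_2 lc_c_rc_11_3 lc_c_rc_26_2 lc_c_rc_22_2 lc_c_rc_24_2 lc_c_rc_11_3) (@D3.rec (fun _ => (Cert rels S Gen.c)) lc_c_rc_22_2 lc_c_rc_26_2 lc_c_rc_11_3 lc_c_rc_22_0 lc_c_Cert_tree lc_c_rc_26_2 lc_c_rc_22_2 lc_c_Cert_tree lc_c_rc_26_2 lc_c_rc_19_0 lc_c_rc_21_2 lc_c_rc_26_2 lc_c_rc_19_0 lc_c_rc_26_2 lc_c_rc_11_3 lc_c_rc_21_2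 lc_c_rc_26_2 lc_c_rc_23_2 lc_c_rc_26_2 lc_c_rc_22_2 lc_c_rc_11_3 lc_c_rc_11_3 lc_c_rc_26_2 lc_c_rc_22_2 lc_c_rc_2_1 lc_c_rc_55_46 lc_c_rc_22_2 lc_c_Cert_tree lc_c_rc_24_2 lc_c_rc_19_0 lc_c_rc_21_2 lc_c_rc_26_2 lc_c_rc_11_3 lc_c_rc_21_2 lc_c_rc_26_2 lc_c_rc_23_2 lc_c_rc_26_2 lc_c_rc_22_2 lc_c_rc_11_3 lc_c_rc_21_2 lc_c_rc_26_2 lc_c_rc_23_2 lc_c_rc_26_2 lc_c_rc_22_2 lc_c_rc_2_1 lc_c_rc_11_3 lc_c_rc_11_3 lc_c_rc_23_2 lc_c_rc_26_2 lc_c_rc_22_2 lc_c_rc_24_2) (@D3.rec (fun _ => (Cert rels S Gen.c)) lc_c_rc_26_2 lc_c_rc_22_2 lc_c_rc_2_1 lc_c_rc_2_1 lc_c_rc_11_3 lc_c_rc_11_3 lc_c_rc_11_3 lc_c_rc_24_2 lc_c_rc_26_2 lc_c_rc_22_2 lc_c_rc_20_2 lc_c_rc_25_2 lc_c_rc_26_2 lc_c_rc_22_2 lc_c_rc_23_2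 lc_c_rc_25_2 lc_c_rc_24_2 lc_c_rc_25_2 lc_c_rc_19_0 lc_c_rc_26_2 lc_c_rc_11_3 lc_c_rc_21_2 lc_c_rc_26_2 lc_c_rc_26_2 lc_c_rc_22_2 lc_c_rc_2_1 lc_c_rc_11_3 lc_c_rc_11_3 lc_c_rc_20_2 lc_c_rc_26_2 lc_c_rc_22_2 lc_c_rc_22_2 lc_c_rc_2_1 lc_c_rc_11_3 lc_c_rc_22_2 lc_c_rc_2_1 lc_c_rc_11_3 lc_c_rc_20_2 lc_c_rc_2_1 lc_c_rc_22_0 lc_c_rc_21_2 lc_c_rc_11_5 lc_c_rc_11_3 lc_c_rc_26_2 lc_c_rc_22_2 lc_c_rc_22_2 lc_c_rc_2_1 lc_c_rc_11_3 lc_c_rc_11_3 lc_c_rc_20_2 lc_c_rc_22_2) (@D3.rec (fun _ => (Cert rels S Gen.c)) lc_c_rc_20_2 lc_c_rc_2_1 lc_c_rc_11_3 lc_c_rc_2_1 lc_c_rc_22_2 lc_c_rc_25_2 lc_c_rc_2_1 lc_c_rc_20_2 lc_c_rc_21_2 lc_c_rc_19_0 lc_c_rc_26_2 lc_c_rc_11_3 lc_c_rc_26_2 lc_c_rc_22_2 lc_c_rc_19_0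 lc_c_rc_26_2 lc_c_rc_20_2 lc_c_rc_21_2 lc_c_rc_26_2 lc_c_rc_26_2 lc_c_rc_22_2 lc_c_rc_22_2 lc_c_rc_19_0 lc_c_rc_26_2 lc_c_rc_56_30 lc_c_rc_23_2 lc_c_rc_21_2 lc_c_rc_20_4 lc_c_rc_26_2 lc_c_rc_22_2 lc_c_rc_23_2 lc_c_rc_26_2 lc_c_rc_22_2 lc_c_rc_22_2 lc_c_rc_22_2 lc_c_rc_26_2 lc_c_rc_22_2 lc_c_rc_24_2 lc_c_rc_19_0 lc_c_rc_21_2 lc_c_rc_26_2 lc_c_rc_20_2 lc_c_rc_26_2 lc_c_rc_22_2 lc_c_rc_2_1 lc_c_rc_11_3 lc_c_rc_11_3 lc_c_rc_23_2 lc_c_rc_26_2 lc_c_rc_22_2 lc_c_rc_21_0) (@D3.rec (fun _ => (Cert rels S Gen.c)) lc_c_rc_26_2 lc_c_rc_22_2 lc_c_rc_25_2 lc_c_rc_22_2 lc_c_rc_26_2 lc_c_rc_21_2 lc_c_rc_22_2 lc_c_rc_11_3 lc_c_rc_22_2 lc_c_rc_2_1 lc_c_rc_11_3 lc_c_rc_20_2 lc_c_rc_22_2 lc_c_rc_26_2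 lc_c_rc_26_2 lc_c_rc_11_3 lc_c_rc_2_1 lc_c_rc_2_1 lc_c_rc_24_2 lc_c_rc_2_1 lc_c_rc_26_2 lc_c_rc_23_2 lc_c_Cert_tree lc_c_rc_23_2 lc_c_rc_22_2 lc_c_rc_21_2 lc_c_rc_19_0 lc_c_rc_26_2 lc_c_rc_26_2 lc_c_rc_22_2 lc_c_rc_23_2 lc_c_rc_19_0 lc_c_rc_26_2 lc_c_rc_11_3 lc_c_rc_26_2 lc_c_rc_22_2 lc_c_rc_2_1 lc_c_rc_11_3 lc_c_rc_22_2 lc_c_Cert_tree lc_c_rc_26_2 lc_c_rc_19_0 lc_c_rc_26_2 lc_c_rc_55_37 lc_c_rc_26_2 lc_c_rc_26_2 lc_c_rc_22_2 lc_c_rc_23_2 lc_c_rc_23_2 lc_c_rc_19_0 lc_c_rc_21_2) (@D3.rec (fun _ => (Cert rels S Gen.c)) lc_c_rc_26_2 lc_c_rc_24_2 lc_c_rc_21_2 lc_c_rc_26_2 lc_c_rc_23_2 lc_c_rc_26_2 lc_c_rc_22_2 lc_c_rc_2_1 lc_c_rc_11_3 lc_c_rc_55_28 lc_c_rc_26_2 lc_c_rc_22_2 lc_c_rc_22_2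 lc_c_rc_23_2 lc_c_rc_21_2 lc_c_rc_26_2 lc_c_rc_26_2 lc_c_rc_22_2 lc_c_rc_22_2 lc_c_rc_2_1 lc_c_rc_11_3 lc_c_rc_20_2 lc_c_rc_56_58 lc_c_rc_2_1 lc_c_rc_11_3 lc_c_rc_21_2 lc_c_Cert_tree lc_c_rc_2_1 lc_c_rc_19_0 lc_c_rc_26_2 lc_c_rc_23_2 lc_c_rc_26_2 lc_c_rc_22_2 lc_c_rc_24_2 lc_c_rc_22_0 lc_c_rc_23_2 lc_c_rc_19_0 lc_c_rc_21_2 lc_c_rc_26_2 lc_c_rc_25_2 lc_c_rc_26_2 lc_c_rc_22_2 lc_c_rc_11_3 lc_c_rc_11_3 lc_c_rc_22_2 lc_c_rc_24_2 lc_c_rc_24_2 lc_c_rc_25_2 lc_c_rc_26_2 lc_c_rc_20_4 lc_c_rc_22_2) (@D3.rec (fun _ => (Cert rels S Gen.c)) lc_c_rc_25_2 lc_c_rc_22_2 lc_c_rc_2_1 lc_c_rc_11_3 lc_c_rc_20_2 lc_c_rc_19_0 lc_c_rc_21_2 lc_c_rc_26_2 lc_c_rc_24_2 lc_c_rc_26_2 lc_c_rc_22_2 lc_c_rc_21_2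 lc_c_rc_26_2 lc_c_rc_23_2 lc_c_rc_26_2 lc_c_rc_22_2 lc_c_rc_22_2 lc_c_rc_22_2 lc_c_Cert_tree lc_c_rc_24_2 lc_c_rc_19_0 lc_c_rc_21_2 lc_c_rc_26_2 lc_c_rc_11_3 lc_c_rc_21_2 lc_c_rc_26_2 lc_c_rc_23_2 lc_c_rc_26_2 lc_c_rc_22_2 lc_c_rc_11_3 lc_c_rc_26_2 lc_c_rc_22_2 lc_c_rc_24_2 lc_c_rc_11_3 lc_c_rc_11_3 lc_c_rc_23_2 lc_c_rc_26_2 lc_c_rc_22_2 lc_c_rc_24_2 lc_c_rc_26_2 lc_c_rc_22_2 lc_c_rc_2_1 lc_c_rc_26_2 lc_c_rc_11_3 lc_c_rc_11_3 lc_c_rc_11_3 lc_c_rc_24_2 lc_c_rc_26_2 lc_c_rc_22_2 lc_c_rc_20_2 lc_c_rc_22_0) (@D3.rec (fun _ => (Cert rels S Gen.c)) lc_c_rc_26_2 lc_c_rc_22_2 lc_c_rc_25_2 lc_c_rc_24_2 lc_c_rc_22_2 lc_c_rc_19_0 lc_c_rc_26_2 lc_c_rc_11_3 lc_c_rc_26_2 lc_c_rc_21_2 lc_c_rc_22_2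 lc_c_rc_2_1 lc_c_rc_11_3 lc_c_rc_11_3 lc_c_rc_20_2 lc_c_rc_26_2 lc_c_rc_22_2 lc_c_rc_22_2 lc_c_rc_11_3 lc_c_rc_22_2 lc_c_rc_2_1 lc_c_rc_11_3 lc_c_rc_20_2 lc_c_rc_2_1 lc_c_Cert_tree lc_c_rc_21_2 lc_c_rc_11_5 lc_c_rc_23_2 lc_c_rc_21_2 lc_c_rc_11_3 lc_c_rc_26_2 lc_c_rc_22_2 lc_c_rc_21_2 lc_c_rc_2_1 lc_c_rc_20_4 lc_c_rc_11_3 lc_c_rc_11_3 lc_c_rc_55_19 lc_c_rc_22_2 lc_c_rc_24_2 lc_c_rc_11_3 lc_c_rc_2_1 lc_c_Cert_tree lc_c_rc_22_2 lc_c_rc_56_51 lc_c_rc_19_0 lc_c_rc_26_2 lc_c_rc_23_2 lc_c_rc_24_2 lc_c_rc_26_0 lc_c_rc_23_2) (@D3.rec (fun _ => (Cert rels S Gen.c)) lc_c_rc_21_2 lc_c_rc_23_2 lc_c_rc_25_2 lc_c_rc_20_4 lc_c_rc_24_2 lc_c_rc_55_28 lc_c_rc_26_2 lc_c_rc_22_2 lc_c_rc_26_0 lc_c_rc_26_2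 lc_c_rc_21_2 lc_c_rc_23_2 lc_c_rc_26_0 lc_c_rc_25_2 lc_c_rc_26_0 lc_c_rc_22_0 lc_c_rc_20_4 lc_c_rc_21_2 lc_c_Cert_tree lc_c_rc_24_2 lc_c_rc_19_0 lc_c_rc_21_2 lc_c_rc_26_2 lc_c_rc_11_3 lc_c_rc_21_2 lc_c_rc_26_2 lc_c_rc_23_2 lc_c_rc_26_2 lc_c_rc_22_2 lc_c_rc_11_3 lc_c_rc_21_2 lc_c_rc_26_2 lc_c_rc_23_2 lc_c_rc_26_2 lc_c_rc_22_2 lc_c_rc_26_0 lc_c_rc_11_3 lc_c_rc_23_2 lc_c_rc_26_2 lc_c_rc_22_2 lc_c_rc_26_2 lc_c_rc_22_2 lc_c_rc_22_0 lc_c_rc_11_3 lc_c_rc_22_2 lc_c_rc_24_2 lc_c_rc_23_2 lc_c_rc_19_0 lc_c_rc_26_2 lc_c_rc_11_3 lc_c_rc_21_2) (@D3.rec (fun _ => (Cert rels S Gen.c)) lc_c_rc_26_2 lc_c_rc_26_2 lc_c_rc_2_1 lc_c_rc_11_3 lc_c_rc_11_3 lc_c_rc_20_2 lc_c_rc_26_2 lc_c_rc_2_1 lc_c_rc_11_3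 lc_c_rc_2_1 lc_c_rc_11_3 lc_c_rc_2_1 lc_c_rc_11_3 lc_c_rc_22_2 lc_c_rc_2_1 lc_c_rc_22_2 lc_c_rc_2_1 lc_c_rc_11_3 lc_c_rc_26_2 lc_c_rc_26_2 lc_c_Cert_tree lc_c_rc_2_1 lc_c_rc_23_2 lc_c_rc_2_1 lc_c_rc_21_2 lc_c_rc_26_2 lc_c_rc_26_2 lc_c_rc_26_2 lc_c_Cert_tree lc_c_rc_24_2 lc_c_rc_19_0 lc_c_rc_21_2 lc_c_rc_26_2 lc_c_rc_26_0 lc_c_rc_21_2 lc_c_rc_26_2 lc_c_rc_26_2 lc_c_rc_22_2 lc_c_rc_26_0 lc_c_rc_26_2 lc_c_rc_22_2 lc_c_rc_24_2 lc_c_rc_24_2 lc_c_rc_22_2 lc_c_rc_26_2 lc_c_rc_21_2 lc_c_rc_19_0 lc_c_rc_26_2 lc_c_rc_11_3 lc_c_rc_21_2 lc_c_rc_26_2) (@D3.rec (fun _ => (Cert rels S Gen.c)) lc_c_rc_26_2 lc_c_rc_2_1 lc_c_rc_11_3 lc_c_rc_11_3 lc_c_rc_23_2 lc_c_rc_26_2 lc_c_rc_25_2 lc_c_rc_11_3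 lc_c_rc_26_2 lc_c_rc_26_2 lc_c_rc_19_0 lc_c_rc_21_2 lc_c_rc_26_2 lc_c_Cert_tree lc_c_rc_26_2 lc_c_rc_19_0 lc_c_rc_21_2 lc_c_rc_26_2 lc_c_rc_11_3 lc_c_rc_21_2 lc_c_rc_26_2 lc_c_rc_23_2 lc_c_rc_26_2 lc_c_rc_22_2 lc_c_rc_11_3 lc_c_rc_21_2 lc_c_rc_26_2 lc_c_rc_26_2 lc_c_rc_22_2 lc_c_rc_24_2 lc_c_rc_11_3 lc_c_rc_11_3 lc_c_rc_23_2 lc_c_rc_26_2 lc_c_rc_22_2 lc_c_rc_24_2 lc_c_rc_26_2 lc_c_rc_22_2 lc_c_rc_26_2 lc_c_rc_11_3 lc_c_rc_11_3 lc_c_rc_24_2 lc_c_rc_26_2 lc_c_rc_22_2 lc_c_rc_25_2 lc_c_rc_26_2 lc_c_rc_22_2 lc_c_rc_19_0 lc_c_rc_21_2 lc_c_rc_26_2 lc_c_rc_11_3) (@D3.rec (fun _ => (Cert rels S Gen.c)) lc_c_rc_21_2 lc_c_rc_26_2 lc_c_rc_23_2 lc_c_rc_26_2 lc_c_rc_22_2 lc_c_rc_2_1 lc_c_rc_11_3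 lc_c_rc_11_3 lc_c_rc_20_2 lc_c_rc_23_2 lc_c_rc_26_2 lc_c_rc_22_2 lc_c_rc_24_2 lc_c_rc_26_2 lc_c_rc_22_2 lc_c_rc_2_1 lc_c_rc_11_3 lc_c_rc_11_3 lc_c_rc_23_2 lc_c_rc_26_2 lc_c_rc_22_2 lc_c_rc_20_2 lc_c_rc_26_2 lc_c_rc_22_2 lc_c_rc_2_1 lc_c_rc_2_1 lc_c_rc_11_3 lc_c_rc_11_3 lc_c_rc_11_3 lc_c_rc_24_2 lc_c_rc_26_2 lc_c_rc_22_2 lc_c_rc_26_0 lc_c_rc_25_2 lc_c_rc_26_2 lc_c_rc_22_2 lc_c_rc_2_1 lc_c_rc_2_1 lc_c_rc_11_3 lc_c_rc_11_3 lc_c_rc_11_3 lc_c_rc_21_2 lc_c_rc_25_2 lc_c_rc_26_2 lc_c_rc_22_2 lc_c_rc_20_2 lc_c_rc_26_0 lc_c_rc_26_2 lc_c_rc_22_2 lc_c_rc_25_2 lc_c_rc_24_2) (@D3.rec (fun _ => (Cert rels S Gen.c)) lc_c_rc_25_2 lc_c_rc_26_2 lc_c_rc_21_2 lc_c_rc_22_0 lc_c_rc_26_2 lc_c_rc_22_2 lc_c_rc_2_1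 lc_c_rc_23_2 lc_c_rc_22_2 lc_c_rc_20_2 lc_c_rc_26_2 lc_c_rc_2_1 lc_c_rc_26_2 lc_c_rc_2_1 lc_c_rc_21_2 lc_c_rc_26_2 lc_c_rc_21_2 lc_c_rc_2_1 lc_c_rc_56_58 lc_c_rc_26_2 lc_c_rc_2_1 lc_c_rc_19_0 lc_c_rc_26_2 lc_c_rc_22_2 lc_c_rc_19_0 lc_c_rc_21_2 lc_c_rc_26_2 lc_c_rc_11_3 lc_c_rc_21_2 lc_c_rc_26_2 lc_c_rc_26_2 lc_c_rc_22_2 lc_c_rc_19_0 lc_c_rc_26_2 lc_c_rc_11_3 lc_c_rc_21_2 lc_c_rc_26_2 lc_c_rc_26_2 lc_c_rc_2_1 lc_c_rc_11_3 lc_c_rc_11_3 lc_c_rc_20_2 lc_c_rc_26_2 lc_c_rc_2_1 lc_c_rc_11_3 lc_c_rc_2_1 lc_c_rc_21_2 lc_c_rc_20_0 lc_c_rc_21_2 lc_c_rc_25_2 lc_c_rc_23_2) (@D3.rec (fun _ => (Cert rels S Gen.c)) lc_c_rc_20_2 lc_c_rc_11_3 lc_c_rc_26_2 lc_c_rc_22_2 lc_c_rc_11_3 lc_c_rc_2_1 lc_c_Cert_tree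 lc_c_rc_21_2 lc_c_rc_22_2 lc_c_rc_22_2 lc_c_rc_22_2 lc_c_rc_20_2 lc_c_rc_55_55 lc_c_rc_2_1 lc_c_rc_20_2 lc_c_rc_22_2 lc_c_Cert_tree lc_c_rc_21_2 lc_c_rc_55_28 lc_c_rc_19_0 lc_c_rc_25_2 lc_c_rc_20_2 lc_c_rc_22_2 lc_c_rc_20_2 lc_c_rc_2_1 lc_c_rc_2_1 lc_c_rc_21_2 lc_c_rc_11_3 lc_c_rc_11_3 lc_c_rc_24_2 lc_c_rc_26_2 lc_c_rc_26_2 lc_c_rc_23_2 lc_c_rc_2_1 lc_c_rc_2_1 lc_c_rc_2_1 lc_c_rc_11_3 lc_c_rc_11_3 lc_c_rc_22_2 lc_c_rc_26_2 lc_c_rc_22_2 lc_c_rc_20_2 lc_c_rc_21_2 lc_c_rc_22_0 lc_c_rc_11_3 lc_c_rc_11_3 lc_c_rc_22_2 lc_c_rc_20_2 lc_c_rc_22_2 lc_c_rc_11_3 lc_c_rc_2_1) (@D3.rec (fun _ => (Cert rels S Gen.c)) lc_c_Cert_tree lc_c_rc_21_2 lc_c_rc_56_51 lc_c_rc_19_0 lc_c_rc_21_2 lc_c_rc_23_2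 lc_c_rc_25_2 lc_c_rc_20_2 lc_c_rc_23_0 lc_c_rc_23_2 lc_c_rc_11_3 lc_c_Cert_tree lc_c_rc_21_2 lc_c_rc_24_2 lc_c_Cert_tree lc_c_rc_21_2 lc_c_rc_25_2 lc_c_rc_19_0 lc_c_rc_24_2 lc_c_rc_23_2 lc_c_rc_19_0 lc_c_rc_20_4 lc_c_rc_21_2 lc_c_rc_2_3 lc_c_rc_24_2 lc_c_rc_56_51 lc_c_rc_21_0 lc_c_rc_22_2 lc_c_rc_2_1 lc_c_rc_23_2 lc_c_rc_22_2 lc_c_rc_26_2 lc_c_rc_21_0 lc_c_rc_20_2 lc_c_rc_2_1 lc_c_rc_21_0 lc_c_rc_21_2 lc_c_rc_11_3 lc_c_rc_2_1 lc_c_rc_22_2 lc_c_rc_11_3 lc_c_rc_11_3 lc_c_rc_11_1 lc_c_rc_26_2 lc_c_rc_20_2 lc_c_rc_20_2 lc_c_rc_21_0 lc_c_rc_21_2 lc_c_rc_22_2 lc_c_rc_2_1 lc_c_rc_23_2) (@D3.rec (fun _ => (Cert rels S Gen.c)) lc_c_rc_26_2 lc_c_rc_23_2 lc_c_rc_23_2 lc_c_rc_21_2 lc_c_rc_26_2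 lc_c_rc_24_2 lc_c_rc_26_2 lc_c_rc_22_2 lc_c_rc_20_2 lc_c_rc_26_2 lc_c_rc_22_2 lc_c_Cert_tree lc_c_rc_2_1 lc_c_rc_23_2 lc_c_rc_25_2 lc_c_rc_26_2 lc_c_rc_22_2 lc_c_rc_22_2 lc_c_rc_2_1 lc_c_rc_2_1 lc_c_rc_2_1 lc_c_rc_24_2 lc_c_rc_23_2 lc_c_rc_22_2 lc_c_rc_25_2 lc_c_rc_26_2 lc_c_rc_22_2 lc_c_rc_24_2 lc_c_rc_21_2 lc_c_rc_26_2 lc_c_rc_22_2 lc_c_rc_2_1 lc_c_rc_2_1 lc_c_rc_2_1 lc_c_rc_25_2 lc_c_rc_24_2 lc_c_rc_23_2 lc_c_Cert_tree lc_c_rc_26_2 lc_c_rc_22_2 lc_c_rc_23_2 lc_c_rc_22_0 lc_c_rc_25_2 lc_c_rc_26_2 lc_c_rc_22_2 lc_c_rc_23_2 lc_c_rc_26_2 lc_c_rc_23_2 lc_c_rc_20_4 lc_c_rc_19_0 lc_c_rc_26_2) (@D3.rec (fun _ => (Cert rels S Gen.c)) lc_c_rc_2_3 lc_c_rc_26_2 lc_c_rc_22_2 lc_c_rc_22_2 lc_c_rc_24_2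 lc_c_rc_25_2 lc_c_rc_26_2 lc_c_rc_21_2 lc_c_rc_26_2 lc_c_rc_22_2 lc_c_rc_26_2 lc_c_rc_22_2 lc_c_rc_11_3 lc_c_rc_22_2 lc_c_rc_24_2 lc_c_rc_23_2 lc_c_rc_22_2 lc_c_rc_2_1 lc_c_rc_2_1 lc_c_rc_2_1 lc_c_rc_24_2 lc_c_rc_23_2 lc_c_rc_22_2 lc_c_rc_25_2 lc_c_rc_24_2 lc_c_rc_23_2 lc_c_Cert_tree lc_c_rc_22_2 lc_c_rc_11_3 lc_c_rc_2_1 lc_c_rc_2_1 lc_c_rc_2_1 lc_c_rc_19_0 lc_c_rc_24_2 lc_c_rc_23_2 lc_c_rc_22_2 lc_c_rc_25_2 lc_c_rc_24_2 lc_c_rc_23_2 lc_c_rc_25_2 lc_c_rc_24_2 lc_c_Cert_tree lc_c_rc_19_0 lc_c_rc_11_3 lc_c_rc_22_2 lc_c_rc_11_3 lc_c_rc_2_1 lc_c_rc_23_2 lc_c_rc_22_2 lc_c_rc_56_51 lc_c_rc_21_2) (@D3.rec (fun _ => (Cert rels S Gen.c)) lc_c_rc_22_2 lc_c_rc_21_2 lc_c_rc_11_3 lc_c_rc_20_2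 lc_c_rc_21_2 lc_c_Cert_tree lc_c_rc_21_2 lc_c_rc_21_0 lc_c_rc_22_2 lc_c_rc_21_2 lc_c_rc_11_1 lc_c_rc_21_2 lc_c_rc_19_0 lc_c_rc_21_2 lc_c_rc_26_2 lc_c_rc_20_2 lc_c_rc_21_2 lc_c_rc_20_2 lc_c_rc_21_2 lc_c_rc_22_2 lc_c_rc_26_2 lc_c_rc_22_2 lc_c_rc_2_1 lc_c_rc_22_2 lc_c_rc_26_2 lc_c_rc_25_0 lc_c_rc_21_2 lc_c_rc_22_2 lc_c_rc_20_2 lc_c_rc_2_1 lc_c_rc_26_2 lc_c_rc_21_2 lc_c_rc_26_2 lc_c_rc_20_2 lc_c_rc_26_2 lc_c_rc_11_5 lc_c_rc_20_2 lc_c_rc_22_2 lc_c_rc_25_0 lc_c_rc_26_2 lc_c_rc_22_2 lc_c_rc_11_3 lc_c_rc_24_2 lc_c_rc_23_2 lc_c_rc_23_2 lc_c_rc_24_2 lc_c_rc_22_2 lc_c_rc_22_2 lc_c_rc_19_0 lc_c_rc_21_2 lc_c_rc_20_2) (@D3.rec (fun _ => (Cert rels S Gen.c)) lc_c_rc_24_2 lc_c_rc_23_2 lc_c_Cert_tree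 lc_c_rc_23_2 lc_c_rc_22_0 lc_c_rc_21_2 lc_c_rc_19_0 lc_c_rc_21_2 lc_c_rc_26_2 lc_c_rc_11_3 lc_c_rc_21_2 lc_c_rc_26_2 lc_c_rc_26_2 lc_c_rc_22_2 lc_c_rc_21_2 lc_c_rc_20_2 lc_c_rc_23_2 lc_c_rc_21_2 lc_c_rc_22_2 lc_c_rc_22_2 lc_c_rc_23_2 lc_c_rc_19_0 lc_c_rc_26_2 lc_c_rc_11_3 lc_c_rc_26_2 lc_c_rc_2_1 lc_c_rc_11_3 lc_c_rc_22_2 lc_c_rc_2_1 lc_c_rc_11_3 lc_c_rc_2_1 lc_c_rc_11_3 lc_c_rc_22_0 lc_c_rc_2_1 lc_c_rc_2_1 lc_c_rc_24_2 lc_c_rc_2_1 lc_c_rc_21_2 lc_c_rc_26_2 lc_c_rc_26_2 lc_c_rc_2_3 lc_c_rc_22_2 lc_c_rc_23_2 lc_c_rc_23_2 lc_c_rc_26_2 lc_c_rc_22_0 lc_c_rc_26_2 lc_c_rc_22_2 lc_c_rc_11_3 lc_c_rc_20_2 lc_c_rc_23_0) (@D3.rec (fun _ => (Cert rels S Gen.c)) lc_c_rc_24_2 lc_c_rc_2_1 lc_c_rc_21_2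 lc_c_rc_23_2 lc_c_rc_23_2 lc_c_rc_23_2 lc_c_rc_21_0 lc_c_rc_26_2 lc_c_rc_24_2 lc_c_rc_26_2 lc_c_rc_22_2 lc_c_rc_26_2 lc_c_rc_22_2 lc_c_rc_20_2 lc_c_rc_23_2 lc_c_rc_19_0 lc_c_rc_21_2 lc_c_rc_26_2 lc_c_rc_20_2 lc_c_rc_26_2 lc_c_rc_22_0 lc_c_rc_25_0 lc_c_rc_22_2 lc_c_rc_11_3 lc_c_rc_23_2 lc_c_rc_26_2 lc_c_rc_22_2 lc_c_rc_24_2 lc_c_rc_26_2 lc_c_rc_22_2 lc_c_rc_24_2 lc_c_rc_25_0 lc_c_rc_25_0 lc_c_rc_24_2 lc_c_rc_24_2 lc_c_rc_11_3 lc_c_Cert_tree lc_c_rc_25_2 lc_c_rc_24_2 lc_c_rc_26_2 lc_c_rc_21_2 lc_c_rc_22_2 lc_c_rc_20_2 lc_c_rc_22_2 lc_c_Cert_tree lc_c_rc_26_2 lc_c_Cert_tree lc_c_rc_26_2 lc_c_rc_19_0 lc_c_rc_26_0 lc_c_rc_26_2) (@D3.rec (fun _ => (Cert rels S Gen.c)) lc_c_rc_26_2 lc_c_rc_22_0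 lc_c_rc_22_2 lc_c_rc_24_2 lc_c_Cert_tree lc_c_rc_23_2 lc_c_rc_19_0 lc_c_rc_21_2 lc_c_rc_26_2 lc_c_rc_19_0 lc_c_rc_21_2 lc_c_rc_26_2 lc_c_rc_11_3 lc_c_rc_21_2 lc_c_rc_26_2 lc_c_rc_23_2 lc_c_rc_26_2 lc_c_rc_22_2 lc_c_rc_11_3 lc_c_rc_26_2 lc_c_rc_22_2 lc_c_rc_22_2 lc_c_rc_23_2 lc_c_rc_21_2 lc_c_rc_22_2 lc_c_rc_23_2 lc_c_rc_22_2 lc_c_Cert_tree lc_c_rc_24_2 lc_c_rc_19_0 lc_c_rc_26_2 lc_c_rc_11_3 lc_c_rc_21_2 lc_c_rc_26_2 lc_c_rc_26_2 lc_c_rc_22_2 lc_c_rc_26_2 lc_c_rc_22_2 lc_c_rc_11_3 lc_c_rc_22_2 lc_c_rc_2_1 lc_c_rc_11_3 lc_c_rc_20_2 lc_c_rc_26_2 lc_c_rc_22_2 lc_c_rc_11_3 lc_c_rc_11_3 lc_c_rc_26_2 lc_c_rc_22_2 lc_c_rc_22_2 lc_c_rc_22_2) (@D3.rec (fun _ => (Cert rels S Gen.c)) lc_c_rc_11_3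 lc_c_rc_20_2 lc_c_rc_2_1 lc_c_rc_56_16 lc_c_rc_21_2 lc_c_rc_56_44 lc_c_rc_21_2 lc_c_rc_2_1 lc_c_rc_24_2 lc_c_rc_2_1 lc_c_rc_26_2 lc_c_rc_2_1 lc_c_rc_2_1 lc_c_Cert_tree lc_c_rc_2_1 lc_c_Cert_tree lc_c_rc_2_1 lc_c_rc_19_0 lc_c_rc_22_0 lc_c_rc_26_2 lc_c_rc_26_2 lc_c_rc_26_2 lc_c_rc_22_2 lc_c_rc_21_2 lc_c_rc_11_1 lc_c_rc_25_2 lc_c_rc_22_2 lc_c_rc_11_1 lc_c_rc_2_1 lc_c_rc_2_1 lc_c_Cert_tree lc_c_rc_2_1 lc_c_rc_21_2 lc_c_rc_2_1 lc_c_rc_19_0 lc_c_rc_21_2 lc_c_rc_26_2 lc_c_rc_26_2 lc_c_rc_21_2 lc_c_rc_22_2 lc_c_rc_24_2 lc_c_rc_23_2 lc_c_rc_23_2 lc_c_rc_19_0 lc_c_rc_21_2 lc_c_rc_26_2 lc_c_rc_26_2 lc_c_rc_26_2 lc_c_rc_22_0 lc_c_rc_21_2 lc_c_rc_22_2) (@D3.rec (fun _ => (Cert rels S Gen.c))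 lc_c_rc_22_2 lc_c_rc_24_2 lc_c_rc_23_2 lc_c_rc_21_2 lc_c_rc_20_2 lc_c_rc_21_2 lc_c_rc_22_2 lc_c_rc_20_2 lc_c_rc_20_2 lc_c_rc_21_2 lc_c_rc_22_0 lc_c_rc_2_1 lc_c_rc_2_1 lc_c_rc_24_2 lc_c_rc_26_2 lc_c_rc_22_2 lc_c_rc_22_2 lc_c_rc_25_0 lc_c_rc_22_2 lc_c_Cert_tree lc_c_rc_26_2 lc_c_rc_22_2 lc_c_Cert_tree lc_c_rc_26_2 lc_c_rc_19_0 lc_c_rc_21_2 lc_c_rc_26_2 lc_c_rc_19_0 lc_c_rc_11_5 lc_c_rc_26_2 lc_c_rc_11_3 lc_c_rc_21_2 lc_c_rc_26_2 lc_c_rc_23_2 lc_c_rc_26_2 lc_c_rc_22_2 lc_c_rc_11_3 lc_c_rc_26_2 lc_c_rc_22_2 lc_c_rc_24_2 lc_c_rc_26_2 lc_c_rc_22_2 lc_c_rc_2_3 lc_c_rc_24_2 lc_c_rc_19_0 lc_c_rc_21_2 lc_c_rc_26_2 lc_c_rc_11_3 lc_c_rc_21_2 lc_c_rc_26_2 lc_c_rc_23_2) (@D3.rec (fun _ => (Cert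 rels S Gen.c)) lc_c_rc_26_2 lc_c_rc_22_2 lc_c_rc_11_3 lc_c_rc_26_2 lc_c_rc_23_2 lc_c_rc_26_2 lc_c_rc_22_2 lc_c_rc_2_1 lc_c_rc_11_3 lc_c_rc_11_3 lc_c_rc_23_2 lc_c_rc_26_2 lc_c_rc_22_2 lc_c_rc_24_2 lc_c_rc_26_2 lc_c_rc_22_2 lc_c_rc_2_1 lc_c_rc_11_3 lc_c_rc_11_3 lc_c_rc_24_2 lc_c_rc_26_2 lc_c_rc_22_2 lc_c_rc_20_2 lc_c_rc_25_2 lc_c_rc_26_2 lc_c_rc_22_2 lc_c_Cert_tree lc_c_rc_20_0 lc_c_rc_20_0 lc_c_rc_22_2 lc_c_rc_25_2 lc_c_rc_24_2 lc_c_rc_23_2 lc_c_Cert_tree lc_c_rc_25_2 lc_c_rc_24_2 lc_c_Cert_tree lc_c_rc_19_0 lc_c_rc_25_2 lc_c_rc_11_3 lc_c_rc_26_2 lc_c_rc_22_2 lc_c_rc_2_1 lc_c_rc_11_3 lc_c_rc_11_3 lc_c_rc_20_2 lc_c_rc_26_2 lc_c_rc_22_2 lc_c_rc_22_2 lc_c_rc_2_1 lc_c_rc_11_3) (@D3.rec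 (fun _ => (Cert rels S Gen.c)) lc_c_rc_22_2 lc_c_rc_2_1 lc_c_rc_11_3 lc_c_rc_20_2 lc_c_rc_2_1 lc_c_rc_22_0 lc_c_rc_21_2 lc_c_rc_2_1 lc_c_rc_11_3 lc_c_rc_22_2 lc_c_rc_2_1 lc_c_rc_2_1 lc_c_rc_11_3 lc_c_rc_11_3 lc_c_rc_22_2 lc_c_rc_20_2 lc_c_rc_2_1 lc_c_rc_11_3 lc_c_rc_20_2 lc_c_rc_2_1 lc_c_rc_21_2 lc_c_rc_21_2 lc_c_rc_2_1 lc_c_rc_2_1 lc_c_rc_26_2 lc_c_rc_21_2 lc_c_rc_22_2 lc_c_rc_22_2 lc_c_rc_26_2 lc_c_rc_22_2 lc_c_rc_56_37 lc_c_rc_22_2 lc_c_rc_26_2 lc_c_rc_22_2 lc_c_rc_11_3 lc_c_rc_11_3 lc_c_rc_21_2 lc_c_rc_11_3 lc_c_rc_11_3 lc_c_rc_11_3 lc_c_rc_2_1 lc_c_rc_2_1 lc_c_Cert_tree lc_c_rc_2_1 lc_c_rc_23_2 lc_c_rc_23_2 lc_c_rc_21_2 lc_c_rc_56_30 lc_c_rc_21_2 lc_c_rc_19_0 lc_c_rc_2_1) (@D3.rec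 (fun _ => (Cert rels S Gen.c)) lc_c_rc_26_2 lc_c_rc_26_2 lc_c_rc_26_2 lc_c_rc_2_1 lc_c_rc_22_0 lc_c_rc_23_2 lc_c_rc_23_2 lc_c_rc_21_2 lc_c_rc_26_2 lc_c_rc_22_2 lc_c_rc_2_3 lc_c_rc_26_2 lc_c_rc_19_0 lc_c_rc_55_28 lc_c_rc_26_2 lc_c_rc_23_2 lc_c_rc_20_2 lc_c_rc_23_2 lc_c_rc_2_1 lc_c_rc_21_2 lc_c_rc_20_4 lc_c_rc_2_3 lc_c_rc_26_2 lc_c_rc_20_2 lc_c_rc_20_2 lc_c_rc_22_2 lc_c_rc_26_2 lc_c_rc_22_2 lc_c_rc_26_2 lc_c_rc_22_2 lc_c_rc_22_2 lc_c_rc_26_2 lc_c_rc_22_2 lc_c_rc_11_3 lc_c_rc_22_2 lc_c_rc_26_2 lc_c_rc_11_3 lc_c_rc_2_1 lc_c_rc_26_2 lc_c_rc_56_23 lc_c_rc_11_3 lc_c_rc_19_0 lc_c_rc_26_2 lc_c_rc_2_1 lc_c_Cert_tree lc_c_rc_2_1 lc_c_rc_19_0 lc_c_rc_21_2 lc_c_rc_26_2 lc_c_rc_24_2 lc_c_rc_56_30)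 (@D3.rec (fun _ => (Cert rels S Gen.c)) lc_c_rc_23_2 lc_c_rc_56_37 lc_c_rc_21_2 lc_c_rc_19_0 lc_c_rc_21_2 lc_c_rc_26_2 lc_c_rc_11_3 lc_c_rc_21_2 lc_c_rc_26_2 lc_c_rc_26_2 lc_c_rc_22_2 lc_c_rc_23_2 lc_c_rc_21_2 lc_c_rc_22_2 lc_c_rc_22_2 lc_c_rc_11_3 lc_c_rc_26_2 lc_c_rc_22_2 lc_c_rc_11_3 lc_c_rc_22_2 lc_c_rc_22_2 lc_c_rc_22_2 lc_c_rc_26_2 lc_c_rc_2_3 lc_c_rc_26_2 lc_c_rc_19_0 lc_c_rc_23_2 lc_c_rc_26_2 lc_c_rc_11_3 lc_c_rc_21_2 lc_c_rc_26_2 lc_c_rc_2_3 lc_c_rc_26_2 lc_c_rc_22_2 lc_c_rc_21_2 lc_c_rc_20_2 lc_c_rc_11_3 lc_c_rc_21_2 lc_c_rc_26_2 lc_c_rc_26_2 lc_c_rc_22_2 lc_c_rc_20_2 lc_c_rc_25_2 lc_c_rc_20_2 lc_c_rc_23_2 lc_c_rc_26_2 lc_c_rc_22_2 lc_c_rc_56_44 lc_c_rc_26_2 lc_c_rc_22_2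 lc_c_rc_22_2)
def ce_c_12 : D2 → D3 → (Cert rels S Gen.c) := @D2.rec (fun _ => D3 → (Cert rels S Gen.c)) (@D3.rec (fun _ => (Cert rels S Gen.c)) lc_c_rc_21_2 lc_c_rc_24_2 lc_c_rc_22_2 lc_c_Cert_tree lc_c_rc_22_2 lc_c_rc_2_1 lc_c_rc_11_3 lc_c_rc_20_2 lc_c_rc_2_1 lc_c_rc_23_2 lc_c_rc_2_1 lc_c_rc_2_1 lc_c_rc_26_2 lc_c_rc_2_3 lc_c_rc_23_2 lc_c_rc_21_2 lc_c_rc_22_2 lc_c_rc_23_2 lc_c_rc_22_2 lc_c_rc_23_2 lc_c_rc_2_1 lc_c_rc_23_2 lc_c_rc_26_2 lc_c_rc_22_2 lc_c_rc_11_3 lc_c_rc_22_2 lc_c_rc_23_2 lc_c_rc_26_2 lc_c_rc_26_2 lc_c_rc_11_5 lc_c_rc_26_2 lc_c_rc_22_2 lc_c_rc_26_2 lc_c_rc_22_2 lc_c_rc_22_0 lc_c_rc_19_0 lc_c_rc_20_2 lc_c_rc_23_0 lc_c_rc_22_2 lc_c_rc_11_3 lc_c_rc_11_3 lc_c_rc_11_3 lc_c_rc_24_2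 lc_c_rc_11_3 lc_c_rc_26_2 lc_c_rc_11_3 lc_c_rc_2_1 lc_c_rc_2_1 lc_c_rc_2_1 lc_c_Cert_tree lc_c_rc_2_1) (@D3.rec (fun _ => (Cert rels S Gen.c)) lc_c_rc_19_0 lc_c_rc_11_3 lc_c_rc_26_2 lc_c_rc_24_2 lc_c_rc_23_2 lc_c_Cert_tree lc_c_rc_23_2 lc_c_rc_20_2 lc_c_rc_21_2 lc_c_rc_19_0 lc_c_rc_20_2 lc_c_rc_26_2 lc_c_rc_22_0 lc_c_rc_26_2 lc_c_rc_20_2 lc_c_rc_22_2 lc_c_rc_23_2 lc_c_rc_26_2 lc_c_rc_2_1 lc_c_rc_11_1 lc_c_rc_24_2 lc_c_rc_23_2 lc_c_rc_19_0 lc_c_rc_26_2 lc_c_rc_26_2 lc_c_rc_22_2 lc_c_rc_11_3 lc_c_rc_22_2 lc_c_rc_22_2 lc_c_rc_22_2 lc_c_Cert_tree lc_c_rc_26_2 lc_c_rc_22_2 lc_c_rc_26_2 lc_c_rc_19_0 lc_c_rc_22_2 lc_c_rc_26_2 lc_c_rc_11_3 lc_c_rc_21_2 lc_c_rc_26_2 lc_c_rc_2_1 lc_c_rc_26_2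 lc_c_rc_22_2 lc_c_rc_24_2 lc_c_rc_23_2 lc_c_rc_23_2 lc_c_rc_19_0 lc_c_rc_21_2 lc_c_rc_26_2 lc_c_rc_20_4 lc_c_rc_11_3) (@D3.rec (fun _ => (Cert rels S Gen.c)) lc_c_rc_26_2 lc_c_rc_23_2 lc_c_rc_20_2 lc_c_rc_22_2 lc_c_rc_2_1 lc_c_rc_11_3 lc_c_rc_11_3 lc_c_rc_23_2 lc_c_rc_26_2 lc_c_rc_22_2 lc_c_rc_24_2 lc_c_rc_26_2 lc_c_rc_22_2 lc_c_rc_22_2 lc_c_rc_23_2 lc_c_rc_23_2 lc_c_rc_22_2 lc_c_rc_24_2 lc_c_rc_23_2 lc_c_Cert_tree lc_c_rc_24_2 lc_c_rc_24_2 lc_c_rc_20_0 lc_c_rc_23_2 lc_c_rc_11_3 lc_c_rc_21_2 lc_c_rc_26_2 lc_c_rc_26_2 lc_c_rc_22_2 lc_c_rc_22_2 lc_c_rc_11_3 lc_c_rc_22_2 lc_c_rc_2_1 lc_c_rc_11_3 lc_c_rc_20_2 lc_c_rc_20_2 lc_c_rc_11_5 lc_c_rc_23_2 lc_c_rc_2_1 lc_c_rc_11_3 lc_c_rc_26_2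 lc_c_rc_22_2 lc_c_rc_21_2 lc_c_rc_11_3 lc_c_rc_26_2 lc_c_rc_11_3 lc_c_rc_21_2 lc_c_rc_11_3 lc_c_rc_23_2 lc_c_rc_25_2 lc_c_rc_24_2) (@D3.rec (fun _ => (Cert rels S Gen.c)) lc_c_rc_26_2 lc_c_rc_26_2 lc_c_rc_11_3 lc_c_Cert_tree lc_c_rc_11_3 lc_c_rc_21_2 lc_c_rc_11_3 lc_c_rc_19_0 lc_c_rc_26_2 lc_c_rc_11_3 lc_c_rc_26_2 lc_c_rc_22_2 lc_c_rc_2_1 lc_c_rc_2_1 lc_c_rc_2_1 lc_c_Cert_tree lc_c_rc_2_1 lc_c_Cert_tree lc_c_rc_2_1 lc_c_rc_19_0 lc_c_rc_21_2 lc_c_rc_26_2 lc_c_rc_11_3 lc_c_rc_21_2 lc_c_rc_26_2 lc_c_rc_26_2 lc_c_rc_22_2 lc_c_rc_24_2 lc_c_Cert_tree lc_c_rc_23_2 lc_c_rc_19_0 lc_c_rc_21_2 lc_c_rc_26_2 lc_c_rc_19_0 lc_c_rc_22_2 lc_c_rc_26_2 lc_c_rc_11_3 lc_c_rc_21_2 lc_c_rc_26_2 lc_c_rc_23_2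 lc_c_rc_26_2 lc_c_rc_22_2 lc_c_rc_23_0 lc_c_rc_55_46 lc_c_rc_11_3 lc_c_rc_26_2 lc_c_rc_22_2 lc_c_rc_22_2 lc_c_rc_23_2 lc_c_rc_21_2 lc_c_rc_22_2) (@D3.rec (fun _ => (Cert rels S Gen.c)) lc_c_rc_23_2 lc_c_rc_22_2 lc_c_Cert_tree lc_c_rc_24_2 lc_c_rc_19_0 lc_c_rc_20_4 lc_c_rc_26_2 lc_c_rc_11_3 lc_c_rc_26_2 lc_c_rc_20_4 lc_c_rc_22_2 lc_c_rc_11_3 lc_c_rc_26_2 lc_c_rc_22_2 lc_c_rc_2_1 lc_c_rc_11_3 lc_c_rc_22_2 lc_c_rc_2_1 lc_c_rc_11_3 lc_c_rc_20_2 lc_c_rc_22_2 lc_c_Cert_tree lc_c_rc_26_2 lc_c_rc_22_2 lc_c_Cert_tree lc_c_rc_26_2 lc_c_rc_19_0 lc_c_rc_21_2 lc_c_rc_26_2 lc_c_rc_19_0 lc_c_rc_2_1 lc_c_rc_26_2 lc_c_rc_24_2 lc_c_rc_21_2 lc_c_rc_26_2 lc_c_rc_23_2 lc_c_rc_26_2 lc_c_rc_22_2 lc_c_rc_26_2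 lc_c_rc_26_2 lc_c_rc_22_2 lc_c_rc_22_2 lc_c_rc_26_2 lc_c_rc_22_2 lc_c_rc_23_2 lc_c_rc_24_2 lc_c_rc_19_0 lc_c_rc_21_2 lc_c_rc_26_2 lc_c_rc_23_2 lc_c_rc_21_2) (@D3.rec (fun _ => (Cert rels S Gen.c)) lc_c_rc_26_2 lc_c_rc_23_2 lc_c_rc_26_2 lc_c_rc_22_2 lc_c_rc_21_2 lc_c_rc_26_2 lc_c_rc_23_2 lc_c_rc_26_2 lc_c_rc_22_2 lc_c_rc_22_0 lc_c_rc_24_2 lc_c_rc_24_2 lc_c_rc_23_2 lc_c_rc_26_2 lc_c_rc_22_2 lc_c_rc_24_2 lc_c_rc_26_2 lc_c_rc_22_2 lc_c_rc_26_2 lc_c_rc_26_2 lc_c_rc_11_3 lc_c_rc_24_2 lc_c_rc_26_2 lc_c_rc_22_2 lc_c_rc_20_2 lc_c_rc_22_0 lc_c_rc_26_2 lc_c_rc_22_2 lc_c_Cert_tree lc_c_rc_23_2 lc_c_rc_22_2 lc_c_rc_23_2 lc_c_rc_23_2 lc_c_rc_23_2 lc_c_Cert_tree lc_c_rc_25_2 lc_c_rc_22_2 lc_c_Cert_tree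 lc_c_rc_19_0 lc_c_rc_21_2 lc_c_rc_26_2 lc_c_rc_26_2 lc_c_rc_22_2 lc_c_rc_2_1 lc_c_rc_11_3 lc_c_rc_11_3 lc_c_rc_20_2 lc_c_rc_26_2 lc_c_rc_22_2 lc_c_rc_22_2 lc_c_rc_22_2) (@D3.rec (fun _ => (Cert rels S Gen.c)) lc_c_rc_2_1 lc_c_rc_11_3 lc_c_rc_20_2 lc_c_rc_2_1 lc_c_rc_22_0 lc_c_rc_21_2 lc_c_rc_2_1 lc_c_rc_2_1 lc_c_rc_2_1 lc_c_rc_11_3 lc_c_rc_11_3 lc_c_rc_22_2 lc_c_rc_11_5 lc_c_rc_2_1 lc_c_rc_2_1 lc_c_rc_2_1 lc_c_rc_22_2 lc_c_rc_24_2 lc_c_rc_23_2 lc_c_rc_22_2 lc_c_rc_24_2 lc_c_rc_23_2 lc_c_rc_24_2 lc_c_rc_23_2 lc_c_rc_11_3 lc_c_Cert_tree lc_c_rc_11_3 lc_c_Cert_tree lc_c_rc_11_3 lc_c_rc_19_0 lc_c_rc_26_2 lc_c_rc_26_2 lc_c_rc_22_2 lc_c_rc_24_2 lc_c_rc_26_0 lc_c_rc_23_2 lc_c_rc_21_2 lc_c_rc_23_2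 lc_c_rc_26_0 lc_c_rc_25_2 lc_c_rc_26_0 lc_c_rc_22_0 lc_c_rc_20_4 lc_c_rc_21_2 lc_c_rc_26_2 lc_c_rc_23_0 lc_c_rc_20_2 lc_c_rc_20_2 lc_c_rc_22_0 lc_c_rc_24_2 lc_c_rc_22_2) (@D3.rec (fun _ => (Cert rels S Gen.c)) lc_c_Cert_tree lc_c_rc_26_2 lc_c_rc_22_2 lc_c_rc_26_0 lc_c_rc_26_2 lc_c_rc_21_2 lc_c_rc_23_2 lc_c_rc_26_0 lc_c_rc_25_2 lc_c_rc_26_0 lc_c_rc_22_0 lc_c_rc_20_4 lc_c_rc_21_2 lc_c_Cert_tree lc_c_rc_24_2 lc_c_rc_19_0 lc_c_rc_21_2 lc_c_rc_26_2 lc_c_rc_11_3 lc_c_rc_21_2 lc_c_rc_26_2 lc_c_rc_23_2 lc_c_rc_26_2 lc_c_rc_22_2 lc_c_rc_26_2 lc_c_rc_19_0 lc_c_rc_20_2 lc_c_rc_22_2 lc_c_rc_11_3 lc_c_rc_23_2 lc_c_rc_26_2 lc_c_rc_22_2 lc_c_rc_2_3 lc_c_rc_26_2 lc_c_rc_22_2 lc_c_rc_11_3 lc_c_rc_22_2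 lc_c_rc_25_2 lc_c_rc_26_2 lc_c_rc_26_0 lc_c_Cert_tree lc_c_rc_11_1 lc_c_rc_11_1 lc_c_rc_21_2 lc_c_rc_21_2 lc_c_rc_24_2 lc_c_rc_23_2 lc_c_Cert_tree lc_c_rc_23_0 lc_c_rc_24_2 lc_c_rc_56_44) (@D3.rec (fun _ => (Cert rels S Gen.c)) lc_c_rc_19_0 lc_c_rc_23_2 lc_c_rc_19_0 lc_c_rc_26_2 lc_c_rc_26_2 lc_c_rc_26_2 lc_c_rc_11_3 lc_c_rc_20_2 lc_c_rc_26_2 lc_c_rc_20_2 lc_c_rc_22_2 lc_c_rc_22_2 lc_c_rc_22_2 lc_c_rc_22_2 lc_c_rc_26_2 lc_c_rc_26_2 lc_c_rc_11_3 lc_c_Cert_tree lc_c_rc_11_3 lc_c_rc_19_0 lc_c_rc_21_2 lc_c_rc_26_2 lc_c_rc_19_0 lc_c_rc_26_2 lc_c_rc_26_2 lc_c_rc_22_2 lc_c_rc_22_2 lc_c_rc_2_1 lc_c_Cert_tree lc_c_rc_2_1 lc_c_rc_20_2 lc_c_rc_23_2 lc_c_rc_2_1 lc_c_rc_21_2 lc_c_rc_26_2 lc_c_rc_25_2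 lc_c_rc_26_2 lc_c_rc_23_2 lc_c_rc_26_2 lc_c_rc_26_2 lc_c_rc_26_2 lc_c_Cert_tree lc_c_rc_24_2 lc_c_rc_19_0 lc_c_rc_21_2 lc_c_rc_26_2 lc_c_rc_23_2 lc_c_rc_21_2 lc_c_rc_26_2 lc_c_rc_23_2 lc_c_rc_26_2) (@D3.rec (fun _ => (Cert rels S Gen.c)) lc_c_rc_22_2 lc_c_rc_21_2 lc_c_rc_26_2 lc_c_rc_23_2 lc_c_rc_26_2 lc_c_rc_22_2 lc_c_rc_21_2 lc_c_rc_23_2 lc_c_rc_26_2 lc_c_rc_22_2 lc_c_rc_26_2 lc_c_rc_22_2 lc_c_rc_22_2 lc_c_rc_22_2 lc_c_Cert_tree lc_c_rc_24_2 lc_c_rc_23_2 lc_c_rc_22_2 lc_c_rc_23_2 lc_c_Cert_tree lc_c_rc_19_0 lc_c_rc_19_0 lc_c_rc_21_2 lc_c_rc_26_2 lc_c_rc_21_2 lc_c_rc_26_2 lc_c_rc_26_2 lc_c_rc_2_1 lc_c_rc_11_3 lc_c_rc_11_3 lc_c_rc_24_2 lc_c_rc_26_2 lc_c_rc_26_2 lc_c_rc_22_2 lc_c_Cert_tree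 lc_c_rc_26_2 lc_c_rc_19_0 lc_c_rc_21_2 lc_c_rc_26_2 lc_c_Cert_tree lc_c_rc_26_2 lc_c_rc_19_0 lc_c_rc_21_2 lc_c_rc_26_2 lc_c_rc_11_3 lc_c_rc_21_2 lc_c_rc_26_2 lc_c_rc_23_2 lc_c_rc_26_2 lc_c_rc_22_2 lc_c_rc_11_3) (@D3.rec (fun _ => (Cert rels S Gen.c)) lc_c_rc_21_2 lc_c_rc_26_2 lc_c_rc_23_2 lc_c_rc_26_2 lc_c_rc_22_2 lc_c_rc_11_3 lc_c_rc_23_2 lc_c_rc_26_2 lc_c_rc_22_2 lc_c_rc_24_2 lc_c_rc_26_2 lc_c_rc_22_2 lc_c_rc_11_3 lc_c_rc_24_2 lc_c_rc_26_2 lc_c_rc_22_2 lc_c_rc_25_2 lc_c_rc_26_2 lc_c_rc_22_2 lc_c_Cert_tree lc_c_rc_19_0 lc_c_rc_21_2 lc_c_rc_26_2 lc_c_rc_11_3 lc_c_rc_21_2 lc_c_rc_26_2 lc_c_rc_23_2 lc_c_rc_26_2 lc_c_rc_22_2 lc_c_rc_2_1 lc_c_rc_11_3 lc_c_rc_11_3 lc_c_rc_20_2 lc_c_rc_23_2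 lc_c_rc_26_2 lc_c_rc_22_2 lc_c_rc_24_2 lc_c_rc_26_2 lc_c_rc_22_2 lc_c_rc_2_1 lc_c_rc_22_0 lc_c_rc_11_3 lc_c_rc_23_2 lc_c_rc_26_2 lc_c_rc_22_2 lc_c_rc_24_2 lc_c_rc_26_2 lc_c_rc_22_2 lc_c_rc_2_1 lc_c_rc_11_3 lc_c_rc_11_3) (@D3.rec (fun _ => (Cert rels S Gen.c)) lc_c_rc_11_3 lc_c_rc_24_2 lc_c_rc_26_2 lc_c_rc_22_2 lc_c_rc_26_0 lc_c_rc_25_2 lc_c_rc_26_2 lc_c_rc_22_2 lc_c_Cert_tree lc_c_rc_2_1 lc_c_rc_24_2 lc_c_rc_26_2 lc_c_rc_11_3 lc_c_rc_23_2 lc_c_rc_25_2 lc_c_rc_26_2 lc_c_rc_22_2 lc_c_Cert_tree lc_c_rc_20_0 lc_c_rc_26_2 lc_c_rc_22_2 lc_c_Cert_tree lc_c_rc_19_0 lc_c_rc_24_2 lc_c_rc_24_2 lc_c_rc_23_2 lc_c_Cert_tree lc_c_rc_23_2 lc_c_rc_23_2 lc_c_Cert_tree lc_c_rc_19_0 lc_c_rc_22_2 lc_c_Cert_tree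 lc_c_rc_19_0 lc_c_rc_11_3 lc_c_rc_11_3 lc_c_rc_21_2 lc_c_rc_26_2 lc_c_rc_26_2 lc_c_rc_22_2 lc_c_rc_2_1 lc_c_rc_11_3 lc_c_rc_11_3 lc_c_rc_20_2 lc_c_rc_26_2 lc_c_rc_22_2 lc_c_rc_22_2 lc_c_rc_2_1 lc_c_rc_2_1 lc_c_rc_24_2 lc_c_rc_11_3) (@D3.rec (fun _ => (Cert rels S Gen.c)) lc_c_rc_11_3 lc_c_rc_21_0 lc_c_rc_20_2 lc_c_rc_22_2 lc_c_rc_26_2 lc_c_Cert_tree lc_c_rc_2_1 lc_c_rc_11_3 lc_c_rc_26_2 lc_c_rc_2_1 lc_c_rc_24_2 lc_c_rc_22_0 lc_c_rc_2_1 lc_c_rc_2_1 lc_c_rc_2_1 lc_c_rc_20_4 lc_c_rc_20_4 lc_c_rc_2_1 lc_c_rc_20_4 lc_c_rc_21_2 lc_c_rc_26_2 lc_c_rc_21_2 lc_c_rc_26_2 lc_c_rc_2_1 lc_c_rc_19_0 lc_c_rc_26_2 lc_c_rc_21_2 lc_c_rc_2_1 lc_c_rc_22_2 lc_c_rc_26_2 lc_c_rc_19_0 lc_c_rc_26_2 lc_c_rc_11_3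 lc_c_rc_21_2 lc_c_rc_26_2 lc_c_rc_26_2 lc_c_rc_22_2 lc_c_rc_11_3 lc_c_rc_26_2 lc_c_rc_2_1 lc_c_rc_11_3 lc_c_rc_11_3 lc_c_rc_20_2 lc_c_rc_26_2 lc_c_rc_11_3 lc_c_rc_2_1 lc_c_rc_21_2 lc_c_rc_20_0 lc_c_rc_23_2 lc_c_rc_2_1 lc_c_rc_2_1) (@D3.rec (fun _ => (Cert rels S Gen.c)) lc_c_rc_20_0 lc_c_rc_22_2 lc_c_Cert_tree lc_c_rc_21_2 lc_c_rc_19_0 lc_c_rc_2_1 lc_c_rc_25_2 lc_c_rc_26_0 lc_c_rc_26_0 lc_c_rc_21_2 lc_c_rc_22_2 lc_c_rc_26_2 lc_c_rc_26_2 lc_c_rc_22_2 lc_c_rc_22_2 lc_c_rc_23_2 lc_c_rc_26_2 lc_c_rc_22_2 lc_c_rc_11_3 lc_c_rc_11_3 lc_c_rc_23_2 lc_c_rc_26_2 lc_c_rc_22_2 lc_c_rc_26_2 lc_c_rc_22_2 lc_c_rc_22_2 lc_c_rc_23_2 lc_c_rc_21_2 lc_c_rc_26_2 lc_c_rc_22_2 lc_c_rc_21_2 lc_c_rc_23_2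 lc_c_rc_22_2 lc_c_rc_22_2 lc_c_rc_20_2 lc_c_rc_23_2 lc_c_rc_11_3 lc_c_rc_26_2 lc_c_rc_22_2 lc_c_rc_21_2 lc_c_rc_23_2 lc_c_rc_23_2 lc_c_rc_26_2 lc_c_rc_22_2 lc_c_rc_22_2 lc_c_rc_2_1 lc_c_rc_22_2 lc_c_rc_23_2 lc_c_rc_21_2 lc_c_rc_23_2 lc_c_rc_22_2) (@D3.rec (fun _ => (Cert rels S Gen.c)) lc_c_rc_24_2 lc_c_rc_26_2 lc_c_rc_22_2 lc_c_rc_22_2 lc_c_rc_24_2 lc_c_rc_19_0 lc_c_rc_21_2 lc_c_rc_26_2 lc_c_rc_11_3 lc_c_rc_21_2 lc_c_rc_26_2 lc_c_rc_23_2 lc_c_rc_26_2 lc_c_rc_22_2 lc_c_rc_11_3 lc_c_rc_26_2 lc_c_rc_22_2 lc_c_rc_11_3 lc_c_rc_11_3 lc_c_rc_23_2 lc_c_rc_26_2 lc_c_rc_22_2 lc_c_rc_24_2 lc_c_rc_26_2 lc_c_rc_22_2 lc_c_rc_11_3 lc_c_rc_11_3 lc_c_rc_24_2 lc_c_rc_26_2 lc_c_rc_22_2 lc_c_rc_20_2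 lc_c_rc_21_2 lc_c_rc_26_2 lc_c_rc_22_2 lc_c_rc_24_2 lc_c_rc_25_2 lc_c_rc_26_2 lc_c_rc_11_3 lc_c_rc_20_2 lc_c_rc_26_2 lc_c_rc_11_3 lc_c_rc_11_3 lc_c_rc_24_2 lc_c_rc_23_2 lc_c_rc_26_2 lc_c_rc_22_2 lc_c_rc_26_2 lc_c_rc_21_2 lc_c_rc_20_2 lc_c_rc_2_1 lc_c_rc_20_4) (@D3.rec (fun _ => (Cert rels S Gen.c)) lc_c_rc_21_2 lc_c_Cert_tree lc_c_rc_26_2 lc_c_rc_2_3 lc_c_rc_26_2 lc_c_rc_21_2 lc_c_rc_23_2 lc_c_rc_22_0 lc_c_rc_20_4 lc_c_rc_55_46 lc_c_rc_19_1 lc_c_rc_11_3 lc_c_rc_21_2 lc_c_rc_26_2 lc_c_rc_26_2 lc_c_rc_22_2 lc_c_rc_11_3 lc_c_rc_26_2 lc_c_rc_22_2 lc_c_rc_2_1 lc_c_rc_11_3 lc_c_rc_22_2 lc_c_rc_2_1 lc_c_rc_11_3 lc_c_rc_20_2 lc_c_rc_2_1 lc_c_rc_11_3 lc_c_rc_22_2 lc_c_rc_2_1 lc_c_rc_11_3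 lc_c_rc_22_2 lc_c_rc_2_1 lc_c_rc_11_3 lc_c_rc_20_2 lc_c_rc_2_1 lc_c_rc_22_0 lc_c_rc_21_2 lc_c_rc_2_1 lc_c_rc_11_3 lc_c_rc_20_2 lc_c_rc_2_1 lc_c_rc_11_3 lc_c_rc_2_1 lc_c_rc_11_3 lc_c_rc_2_1 lc_c_rc_26_0 lc_c_rc_11_3 lc_c_rc_21_2 lc_c_rc_23_2 lc_c_rc_22_0 lc_c_rc_21_2) (@D3.rec (fun _ => (Cert rels S Gen.c)) lc_c_rc_19_0 lc_c_rc_21_2 lc_c_rc_26_2 lc_c_rc_19_0 lc_c_rc_26_2 lc_c_rc_26_2 lc_c_rc_22_2 lc_c_rc_22_2 lc_c_Cert_tree lc_c_rc_24_2 lc_c_rc_19_0 lc_c_rc_21_2 lc_c_rc_26_2 lc_c_rc_26_0 lc_c_rc_21_2 lc_c_rc_26_2 lc_c_rc_23_2 lc_c_rc_26_2 lc_c_rc_22_2 lc_c_rc_26_0 lc_c_rc_21_2 lc_c_rc_26_2 lc_c_rc_23_2 lc_c_rc_26_2 lc_c_rc_22_2 lc_c_rc_22_0 lc_c_rc_23_2 lc_c_rc_26_2 lc_c_rc_22_2 lc_c_rc_26_2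 lc_c_rc_22_2 lc_c_rc_21_2 lc_c_rc_22_2 lc_c_rc_25_0 lc_c_rc_2_1 lc_c_rc_19_0 lc_c_rc_26_2 lc_c_rc_11_3 lc_c_rc_21_2 lc_c_rc_26_2 lc_c_rc_26_2 lc_c_rc_22_2 lc_c_rc_2_1 lc_c_rc_11_3 lc_c_rc_11_3 lc_c_rc_20_2 lc_c_rc_26_2 lc_c_rc_22_2 lc_c_rc_22_2 lc_c_rc_25_2 lc_c_rc_11_3) (@D3.rec (fun _ => (Cert rels S Gen.c)) lc_c_rc_22_2 lc_c_rc_26_2 lc_c_rc_11_3 lc_c_rc_26_0 lc_c_rc_2_1 lc_c_rc_2_1 lc_c_rc_25_0 lc_c_rc_19_0 lc_c_rc_21_2 lc_c_rc_26_2 lc_c_Cert_tree lc_c_rc_26_2 lc_c_rc_19_0 lc_c_rc_21_2 lc_c_rc_26_2 lc_c_rc_11_3 lc_c_rc_21_2 lc_c_rc_26_2 lc_c_rc_23_2 lc_c_rc_26_2 lc_c_rc_22_2 lc_c_rc_11_3 lc_c_rc_26_2 lc_c_rc_22_2 lc_c_rc_11_3 lc_c_rc_11_3 lc_c_rc_23_2 lc_c_rc_26_2 lc_c_rc_22_2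 lc_c_rc_2_1 lc_c_rc_26_2 lc_c_rc_22_2 lc_c_rc_11_3 lc_c_rc_11_3 lc_c_rc_22_2 lc_c_rc_2_3 lc_c_rc_2_1 lc_c_rc_2_1 lc_c_rc_55_37 lc_c_rc_19_0 lc_c_rc_21_2 lc_c_rc_26_2 lc_c_rc_11_3 lc_c_rc_21_2 lc_c_rc_26_2 lc_c_rc_23_2 lc_c_rc_26_2 lc_c_rc_22_2 lc_c_rc_2_1 lc_c_rc_11_3 lc_c_rc_11_3) (@D3.rec (fun _ => (Cert rels S Gen.c)) lc_c_rc_20_2 lc_c_rc_23_2 lc_c_rc_26_2 lc_c_rc_22_2 lc_c_rc_24_2 lc_c_rc_26_2 lc_c_rc_22_2 lc_c_rc_2_1 lc_c_rc_11_3 lc_c_rc_11_3 lc_c_rc_23_2 lc_c_rc_26_2 lc_c_rc_22_2 lc_c_rc_26_2 lc_c_rc_22_2 lc_c_rc_2_1 lc_c_rc_2_1 lc_c_rc_11_3 lc_c_rc_11_3 lc_c_rc_11_3 lc_c_rc_24_2 lc_c_rc_26_2 lc_c_rc_22_2 lc_c_rc_20_2 lc_c_rc_25_2 lc_c_rc_26_2 lc_c_rc_22_2 lc_c_rc_2_1 lc_c_rc_2_1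 lc_c_rc_11_3 lc_c_rc_11_3 lc_c_rc_11_3 lc_c_rc_26_0 lc_c_rc_25_2 lc_c_rc_26_2 lc_c_rc_22_2 lc_c_rc_2_3 lc_c_rc_2_3 lc_c_rc_26_2 lc_c_rc_22_2 lc_c_rc_25_2 lc_c_rc_26_2 lc_c_rc_22_2 lc_c_rc_11_3 lc_c_rc_20_2 lc_c_rc_26_2 lc_c_rc_22_2 lc_c_rc_22_2 lc_c_rc_2_1 lc_c_rc_19_1 lc_c_rc_11_3) (@D3.rec (fun _ => (Cert rels S Gen.c)) lc_c_rc_11_3 lc_c_rc_21_0 lc_c_rc_20_2 lc_c_rc_22_2 lc_c_rc_20_2 lc_c_rc_2_1 lc_c_rc_11_3 lc_c_rc_20_2 lc_c_rc_2_1 lc_c_rc_22_0 lc_c_rc_21_2 lc_c_rc_11_3 lc_c_rc_22_2 lc_c_rc_2_1 lc_c_rc_11_3 lc_c_rc_23_2 lc_c_rc_2_1 lc_c_rc_26_2 lc_c_rc_20_2 lc_c_rc_26_2 lc_c_rc_22_2 lc_c_rc_11_3 lc_c_rc_22_2 lc_c_rc_26_2 lc_c_rc_22_2 lc_c_rc_22_2 lc_c_rc_26_2 lc_c_rc_22_2 lc_c_rc_22_2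 lc_c_rc_20_2 lc_c_rc_26_2 lc_c_rc_22_2 lc_c_rc_19_1 lc_c_rc_22_2 lc_c_rc_22_2 lc_c_rc_22_2 lc_c_rc_20_2 lc_c_rc_26_2 lc_c_rc_22_2 lc_c_rc_26_2 lc_c_rc_21_2 lc_c_rc_22_2 lc_c_rc_20_2 lc_c_rc_22_2 lc_c_rc_26_2 lc_c_rc_11_3 lc_c_rc_11_3 lc_c_rc_26_2 lc_c_rc_22_2 lc_c_rc_20_2 lc_c_rc_23_0) (@D3.rec (fun _ => (Cert rels S Gen.c)) lc_c_rc_22_2 lc_c_rc_22_2 lc_c_rc_22_2 lc_c_rc_11_3 lc_c_rc_22_0 lc_c_rc_2_1 lc_c_rc_23_2 lc_c_rc_21_2 lc_c_rc_22_2 lc_c_rc_22_2 lc_c_rc_2_1 lc_c_rc_26_2 lc_c_rc_22_2 lc_c_rc_23_2 lc_c_rc_23_2 lc_c_rc_19_0 lc_c_rc_21_2 lc_c_rc_26_2 lc_c_rc_24_2 lc_c_rc_26_2 lc_c_rc_22_2 lc_c_rc_22_2 lc_c_rc_11_3 lc_c_rc_26_2 lc_c_rc_22_2 lc_c_rc_11_3 lc_c_rc_22_2 lc_c_rc_2_1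 lc_c_rc_11_3 lc_c_rc_20_2 lc_c_rc_19_0 lc_c_rc_21_2 lc_c_rc_26_2 lc_c_rc_26_2 lc_c_rc_22_2 lc_c_rc_56_23 lc_c_rc_22_2 lc_c_rc_22_2 lc_c_rc_11_3 lc_c_rc_25_2 lc_c_rc_21_2 lc_c_rc_26_2 lc_c_rc_23_2 lc_c_rc_26_2 lc_c_rc_22_2 lc_c_rc_21_0 lc_c_rc_23_2 lc_c_rc_26_2 lc_c_rc_22_2 lc_c_rc_26_2 lc_c_rc_22_2) (@D3.rec (fun _ => (Cert rels S Gen.c)) lc_c_rc_11_3 lc_c_rc_11_3 lc_c_rc_55_28 lc_c_rc_22_2 lc_c_rc_20_2 lc_c_rc_20_2 lc_c_rc_26_2 lc_c_rc_22_2 lc_c_rc_22_2 lc_c_rc_20_2 lc_c_rc_2_1 lc_c_rc_26_2 lc_c_rc_21_2 lc_c_rc_19_0 lc_c_rc_21_2 lc_c_rc_26_2 lc_c_rc_26_2 lc_c_rc_22_2 lc_c_rc_26_2 lc_c_rc_22_2 lc_c_rc_22_0 lc_c_rc_24_2 lc_c_rc_25_2 lc_c_rc_25_2 lc_c_rc_21_2 lc_c_rc_26_2 lc_c_rc_26_2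 lc_c_rc_22_2 lc_c_rc_25_2 lc_c_rc_22_2 lc_c_rc_26_2 lc_c_rc_11_3 lc_c_rc_20_2 lc_c_rc_25_0 lc_c_rc_25_2 lc_c_rc_22_2 lc_c_rc_22_2 lc_c_rc_20_2 lc_c_rc_2_1 lc_c_rc_26_2 lc_c_rc_21_2 lc_c_rc_23_2 lc_c_rc_21_2 lc_c_rc_26_2 lc_c_rc_26_2 lc_c_rc_22_2 lc_c_rc_26_2 lc_c_rc_22_2 lc_c_rc_26_2 lc_c_rc_22_2 lc_c_rc_22_2) (@D3.rec (fun _ => (Cert rels S Gen.c)) lc_c_rc_20_2 lc_c_rc_19_0 lc_c_rc_21_2 lc_c_rc_26_2 lc_c_rc_23_2 lc_c_rc_21_2 lc_c_rc_26_2 lc_c_rc_26_2 lc_c_rc_22_2 lc_c_rc_23_2 lc_c_rc_11_3 lc_c_rc_11_3 lc_c_rc_20_2 lc_c_rc_23_2 lc_c_rc_26_2 lc_c_rc_22_2 lc_c_rc_24_2 lc_c_rc_26_2 lc_c_rc_22_2 lc_c_rc_11_3 lc_c_rc_22_2 lc_c_rc_26_2 lc_c_rc_11_3 lc_c_rc_11_3 lc_c_rc_11_3 lc_c_rc_24_2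 lc_c_rc_26_2 lc_c_rc_22_2 lc_c_rc_20_2 lc_c_rc_22_0 lc_c_rc_26_2 lc_c_rc_22_2 lc_c_rc_26_2 lc_c_rc_22_2 lc_c_rc_26_2 lc_c_rc_11_3 lc_c_Cert_tree lc_c_rc_26_2 lc_c_rc_22_2 lc_c_rc_20_2 lc_c_rc_21_2 lc_c_rc_24_2 lc_c_rc_22_2 lc_c_rc_23_2 lc_c_rc_26_2 lc_c_rc_22_2 lc_c_rc_11_3 lc_c_rc_22_2 lc_c_rc_2_1 lc_c_rc_23_2 lc_c_rc_11_3) (@D3.rec (fun _ => (Cert rels S Gen.c)) lc_c_rc_11_3 lc_c_rc_22_2 lc_c_rc_20_2 lc_c_rc_22_2 lc_c_rc_20_2 lc_c_rc_11_3 lc_c_rc_20_2 lc_c_rc_2_1 lc_c_Cert_tree lc_c_rc_21_2 lc_c_rc_20_4 lc_c_rc_19_0 lc_c_rc_21_2 lc_c_rc_23_2 lc_c_rc_25_2 lc_c_rc_21_2 lc_c_rc_11_3 lc_c_rc_21_2 lc_c_rc_2_1 lc_c_rc_20_4 lc_c_rc_11_3 lc_c_rc_25_2 lc_c_rc_24_2 lc_c_rc_19_0 lc_c_rc_24_2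 lc_c_rc_22_0 lc_c_rc_24_2 lc_c_rc_21_2 lc_c_rc_25_2 lc_c_rc_21_2 lc_c_rc_23_2 lc_c_rc_25_2 lc_c_rc_20_4 lc_c_rc_19_1 lc_c_rc_22_2 lc_c_rc_26_2 lc_c_rc_21_2 lc_c_rc_25_2 lc_c_rc_21_2 lc_c_rc_21_2 lc_c_rc_23_2 lc_c_rc_25_2 lc_c_rc_25_2 lc_c_rc_23_2 lc_c_rc_21_2 lc_c_rc_19_0 lc_c_rc_21_2 lc_c_rc_26_2 lc_c_rc_20_2 lc_c_rc_21_2 lc_c_rc_26_2) (@D3.rec (fun _ => (Cert rels S Gen.c)) lc_c_rc_23_2 lc_c_rc_26_2 lc_c_rc_22_2 lc_c_rc_11_3 lc_c_rc_11_3 lc_c_rc_20_2 lc_c_rc_23_2 lc_c_rc_26_2 lc_c_rc_22_2 lc_c_rc_26_2 lc_c_rc_22_2 lc_c_rc_26_0 lc_c_rc_11_3 lc_c_rc_23_2 lc_c_rc_26_2 lc_c_rc_22_2 lc_c_rc_2_3 lc_c_rc_26_2 lc_c_rc_22_2 lc_c_rc_26_0 lc_c_rc_22_0 lc_c_rc_11_3 lc_c_rc_26_2 lc_c_rc_22_2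 lc_c_rc_22_2 lc_c_rc_21_2 lc_c_rc_20_2 lc_c_rc_24_2 lc_c_rc_26_2 lc_c_rc_11_3 lc_c_rc_19_1 lc_c_rc_26_2 lc_c_rc_2_1 lc_c_rc_56_37 lc_c_rc_11_3 lc_c_rc_20_2 lc_c_rc_2_1 lc_c_rc_2_1 lc_c_rc_2_1 lc_c_rc_19_0 lc_c_rc_21_2 lc_c_rc_26_2 lc_c_rc_21_2 lc_c_rc_26_2 lc_c_rc_21_2 lc_c_rc_26_2 lc_c_rc_26_2 lc_c_rc_19_0 lc_c_rc_21_2 lc_c_rc_26_2 lc_c_rc_26_0) (@D3.rec (fun _ => (Cert rels S Gen.c)) lc_c_rc_21_2 lc_c_rc_26_2 lc_c_rc_26_2 lc_c_rc_22_2 lc_c_rc_22_0 lc_c_rc_21_2 lc_c_rc_23_2 lc_c_rc_21_2 lc_c_rc_26_2 lc_c_rc_22_2 lc_c_rc_22_2 lc_c_rc_25_2 lc_c_rc_22_0 lc_c_rc_22_2 lc_c_rc_26_2 lc_c_rc_21_2 lc_c_rc_22_2 lc_c_rc_26_2 lc_c_rc_11_3 lc_c_rc_26_2 lc_c_rc_2_1 lc_c_rc_23_2 lc_c_rc_11_3 lc_c_rc_23_2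 lc_c_rc_26_2 lc_c_rc_26_2 lc_c_rc_11_3 lc_c_rc_21_2 lc_c_rc_26_2 lc_c_rc_26_2 lc_c_rc_22_2 lc_c_rc_19_0 lc_c_rc_21_2 lc_c_rc_26_2 lc_c_rc_11_3 lc_c_rc_21_2 lc_c_rc_26_2 lc_c_rc_26_2 lc_c_rc_22_2 lc_c_rc_23_2 lc_c_rc_11_3 lc_c_rc_11_3 lc_c_rc_20_2 lc_c_rc_23_2 lc_c_rc_26_2 lc_c_rc_22_2 lc_c_rc_24_2 lc_c_rc_26_2 lc_c_rc_22_2 lc_c_rc_25_2 lc_c_rc_19_0) (@D3.rec (fun _ => (Cert rels S Gen.c)) lc_c_rc_11_3 lc_c_rc_26_2 lc_c_rc_22_2 lc_c_rc_22_2 lc_c_rc_26_2 lc_c_rc_11_3 lc_c_rc_11_3 lc_c_rc_11_3 lc_c_rc_24_2 lc_c_rc_26_2 lc_c_rc_22_2 lc_c_rc_25_2 lc_c_rc_26_2 lc_c_rc_22_2 lc_c_rc_22_2 lc_c_rc_11_3 lc_c_rc_25_2 lc_c_rc_26_2 lc_c_rc_22_2 lc_c_rc_26_2 lc_c_rc_26_2 lc_c_rc_22_2 lc_c_rc_21_2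 lc_c_rc_26_2 lc_c_rc_23_2 lc_c_rc_26_2 lc_c_rc_22_2 lc_c_rc_11_3 lc_c_rc_11_3 lc_c_rc_22_0 lc_c_rc_23_2 lc_c_rc_26_2 lc_c_rc_22_2 lc_c_rc_21_2 lc_c_rc_26_2 lc_c_rc_22_2 lc_c_rc_2_1 lc_c_rc_2_1 lc_c_rc_21_2 lc_c_rc_11_3 lc_c_rc_11_3 lc_c_rc_11_3 lc_c_rc_19_1 lc_c_rc_22_2 lc_c_rc_20_2 lc_c_rc_24_2 lc_c_rc_26_2 lc_c_rc_22_2 lc_c_rc_26_0 lc_c_rc_25_2 lc_c_rc_26_2)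
def ce_c_13 : D2 → D3 → (Cert rels S Gen.c) := @D2.rec (fun _ => D3 → (Cert rels S Gen.c)) (@D3.rec (fun _ => (Cert rels S Gen.c)) lc_c_rc_22_2 lc_c_Cert_tree lc_c_rc_2_1 lc_c_rc_2_1 lc_c_rc_11_3 lc_c_rc_11_3 lc_c_rc_11_3 lc_c_rc_26_2 lc_c_rc_22_2 lc_c_rc_20_2 lc_c_rc_20_2 lc_c_rc_20_2 lc_c_rc_22_2 lc_c_rc_2_1 lc_c_rc_2_1 lc_c_rc_2_1 lc_c_rc_11_3 lc_c_rc_11_3 lc_c_rc_11_3 lc_c_rc_21_2 lc_c_rc_25_2 lc_c_rc_26_2 lc_c_rc_22_2 lc_c_rc_19_1 lc_c_rc_26_0 lc_c_rc_26_2 lc_c_rc_22_2 lc_c_rc_2_1 lc_c_rc_11_3 lc_c_rc_11_3 lc_c_rc_11_3 lc_c_Cert_tree lc_c_rc_26_2 lc_c_rc_22_2 lc_c_rc_25_2 lc_c_rc_25_2 lc_c_rc_22_2 lc_c_rc_25_2 lc_c_rc_22_0 lc_c_rc_22_0 lc_c_rc_24_2 lc_c_rc_22_2 lc_c_rc_21_2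 lc_c_rc_26_2 lc_c_rc_26_2 lc_c_rc_21_2 lc_c_rc_26_2 lc_c_rc_22_2 lc_c_rc_26_2 lc_c_rc_11_3 lc_c_rc_21_2) (@D3.rec (fun _ => (Cert rels S Gen.c)) lc_c_rc_26_2 lc_c_rc_26_2 lc_c_rc_22_2 lc_c_rc_2_1 lc_c_rc_11_3 lc_c_rc_11_3 lc_c_rc_20_2 lc_c_rc_26_2 lc_c_rc_22_2 lc_c_rc_22_2 lc_c_rc_26_2 lc_c_rc_11_3 lc_c_rc_20_2 lc_c_rc_26_2 lc_c_rc_2_1 lc_c_Cert_tree lc_c_rc_11_3 lc_c_rc_22_2 lc_c_rc_20_2 lc_c_rc_2_1 lc_c_rc_21_2 lc_c_rc_21_2 lc_c_rc_25_2 lc_c_rc_21_2 lc_c_rc_11_3 lc_c_rc_25_2 lc_c_rc_19_0 lc_c_rc_25_2 lc_c_rc_23_2 lc_c_rc_20_2 lc_c_rc_25_0 lc_c_rc_20_2 lc_c_rc_25_0 lc_c_rc_19_0 lc_c_rc_11_3 lc_c_rc_21_2 lc_c_rc_11_3 lc_c_rc_26_2 lc_c_rc_2_1 lc_c_rc_2_1 lc_c_rc_11_3 lc_c_rc_21_2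 lc_c_rc_26_2 lc_c_rc_11_3 lc_c_rc_26_2 lc_c_rc_22_2 lc_c_rc_20_2 lc_c_rc_24_2 lc_c_rc_19_0 lc_c_rc_24_2 lc_c_rc_23_2) (@D3.rec (fun _ => (Cert rels S Gen.c)) lc_c_rc_24_2 lc_c_rc_20_2 lc_c_rc_23_0 lc_c_Cert_tree lc_c_rc_19_0 lc_c_rc_21_2 lc_c_rc_24_0 lc_c_rc_19_0 lc_c_rc_25_0 lc_c_rc_23_2 lc_c_rc_24_2 lc_c_rc_2_1 lc_c_rc_22_2 lc_c_rc_20_2 lc_c_rc_56_44 lc_c_rc_23_2 lc_c_rc_20_2 lc_c_rc_2_1 lc_c_rc_21_0 lc_c_rc_21_2 lc_c_rc_26_2 lc_c_rc_26_2 lc_c_rc_22_2 lc_c_rc_21_2 lc_c_rc_21_2 lc_c_rc_23_2 lc_c_rc_2_1 lc_c_rc_24_2 lc_c_rc_26_2 lc_c_rc_11_3 lc_c_rc_24_2 lc_c_rc_23_2 lc_c_rc_26_2 lc_c_rc_26_2 lc_c_rc_22_2 lc_c_rc_26_2 lc_c_rc_22_2 lc_c_Cert_tree lc_c_rc_21_2 lc_c_rc_22_2 lc_c_Cert_tree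 lc_c_rc_19_0 lc_c_rc_2_1 lc_c_rc_25_2 lc_c_rc_22_2 lc_c_rc_26_2 lc_c_rc_2_1 lc_c_rc_2_1 lc_c_rc_24_2 lc_c_rc_23_2 lc_c_Cert_tree) (@D3.rec (fun _ => (Cert rels S Gen.c)) lc_c_rc_26_2 lc_c_rc_22_2 lc_c_rc_23_2 lc_c_rc_26_2 lc_c_rc_23_2 lc_c_rc_2_1 lc_c_rc_2_1 lc_c_rc_25_2 lc_c_rc_24_2 lc_c_rc_11_3 lc_c_rc_19_0 lc_c_rc_26_2 lc_c_rc_26_2 lc_c_rc_22_2 lc_c_rc_26_2 lc_c_rc_22_2 lc_c_rc_23_2 lc_c_rc_22_2 lc_c_rc_25_2 lc_c_rc_21_2 lc_c_rc_22_2 lc_c_rc_22_2 lc_c_rc_11_3 lc_c_rc_23_0 lc_c_rc_24_2 lc_c_rc_23_2 lc_c_rc_25_2 lc_c_rc_2_1 lc_c_rc_24_2 lc_c_rc_25_2 lc_c_rc_24_2 lc_c_rc_19_0 lc_c_rc_20_2 lc_c_rc_2_1 lc_c_rc_2_1 lc_c_rc_23_2 lc_c_rc_25_2 lc_c_rc_24_2 lc_c_rc_23_2 lc_c_rc_25_2 lc_c_rc_24_2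 lc_c_rc_25_2 lc_c_rc_20_4 lc_c_rc_19_0 lc_c_rc_20_2 lc_c_rc_11_3 lc_c_rc_2_1 lc_c_rc_23_2 lc_c_rc_2_1 lc_c_rc_22_2 lc_c_rc_20_2) (@D3.rec (fun _ => (Cert rels S Gen.c)) lc_c_rc_21_2 lc_c_Cert_tree lc_c_rc_19_0 lc_c_rc_19_0 lc_c_rc_23_2 lc_c_rc_19_0 lc_c_rc_23_0 lc_c_rc_21_2 lc_c_rc_26_2 lc_c_rc_26_2 lc_c_rc_22_2 lc_c_rc_21_2 lc_c_rc_22_2 lc_c_rc_26_2 lc_c_rc_22_2 lc_c_rc_26_2 lc_c_rc_22_2 lc_c_rc_21_0 lc_c_rc_26_2 lc_c_rc_22_2 lc_c_rc_22_2 lc_c_rc_22_2 lc_c_rc_19_0 lc_c_rc_55_19 lc_c_rc_22_2 lc_c_rc_26_2 lc_c_rc_22_2 lc_c_Cert_tree lc_c_rc_22_2 lc_c_rc_22_2 lc_c_rc_22_2 lc_c_rc_24_2 lc_c_rc_11_3 lc_c_rc_21_2 lc_c_rc_21_2 lc_c_rc_20_2 lc_c_rc_22_0 lc_c_rc_23_2 lc_c_rc_19_0 lc_c_rc_21_2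 lc_c_rc_26_2 lc_c_rc_22_0 lc_c_rc_24_2 lc_c_rc_11_3 lc_c_rc_21_2 lc_c_rc_26_2 lc_c_rc_23_2 lc_c_rc_26_2 lc_c_rc_22_2 lc_c_rc_2_1 lc_c_rc_11_3) (@D3.rec (fun _ => (Cert rels S Gen.c)) lc_c_rc_11_3 lc_c_rc_26_2 lc_c_rc_22_2 lc_c_rc_22_2 lc_c_rc_23_2 lc_c_rc_21_2 lc_c_rc_23_2 lc_c_rc_22_2 lc_c_Cert_tree lc_c_rc_26_2 lc_c_rc_2_1 lc_c_rc_11_3 lc_c_rc_2_1 lc_c_rc_11_3 lc_c_rc_2_1 lc_c_rc_2_1 lc_c_rc_23_2 lc_c_rc_2_1 lc_c_rc_26_2 lc_c_rc_26_2 lc_c_rc_22_2 lc_c_rc_11_1 lc_c_rc_21_2 lc_c_rc_23_2 lc_c_rc_22_2 lc_c_rc_24_2 lc_c_rc_26_2 lc_c_rc_22_2 lc_c_rc_11_3 lc_c_rc_22_0 lc_c_rc_26_2 lc_c_rc_26_0 lc_c_rc_22_2 lc_c_rc_23_2 lc_c_rc_21_2 lc_c_rc_23_2 lc_c_rc_21_0 lc_c_rc_23_2 lc_c_rc_26_2 lc_c_rc_22_2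 lc_c_rc_24_2 lc_c_rc_26_2 lc_c_rc_22_2 lc_c_rc_21_2 lc_c_rc_23_2 lc_c_rc_21_2 lc_c_rc_26_2 lc_c_rc_25_0 lc_c_rc_26_2 lc_c_rc_22_2 lc_c_rc_22_2) (@D3.rec (fun _ => (Cert rels S Gen.c)) lc_c_rc_22_2 lc_c_rc_22_0 lc_c_rc_25_0 lc_c_rc_25_0 lc_c_rc_11_3 lc_c_rc_24_2 lc_c_rc_26_2 lc_c_rc_22_2 lc_c_rc_20_2 lc_c_rc_26_2 lc_c_rc_22_2 lc_c_Cert_tree lc_c_rc_23_2 lc_c_rc_25_0 lc_c_rc_25_0 lc_c_Cert_tree lc_c_rc_26_2 lc_c_rc_24_2 lc_c_rc_20_2 lc_c_rc_19_0 lc_c_rc_22_2 lc_c_Cert_tree lc_c_rc_26_2 lc_c_rc_22_2 lc_c_Cert_tree lc_c_rc_26_2 lc_c_rc_19_0 lc_c_rc_21_2 lc_c_rc_26_2 lc_c_rc_19_0 lc_c_rc_26_0 lc_c_rc_26_2 lc_c_rc_26_2 lc_c_rc_26_0 lc_c_rc_24_2 lc_c_rc_22_2 lc_c_rc_22_2 lc_c_rc_21_2 lc_c_rc_20_2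 lc_c_rc_24_2 lc_c_rc_19_0 lc_c_rc_21_2 lc_c_rc_26_2 lc_c_rc_11_3 lc_c_rc_21_2 lc_c_rc_26_2 lc_c_rc_23_2 lc_c_rc_26_2 lc_c_rc_22_2 lc_c_rc_21_2 lc_c_rc_26_2) (@D3.rec (fun _ => (Cert rels S Gen.c)) lc_c_rc_23_2 lc_c_rc_26_2 lc_c_rc_22_2 lc_c_rc_11_3 lc_c_rc_23_2 lc_c_rc_26_2 lc_c_rc_22_2 lc_c_rc_26_2 lc_c_rc_22_2 lc_c_rc_11_3 lc_c_rc_22_2 lc_c_rc_20_2 lc_c_Cert_tree lc_c_rc_24_2 lc_c_rc_23_2 lc_c_rc_22_2 lc_c_rc_23_2 lc_c_Cert_tree lc_c_rc_19_0 lc_c_rc_26_2 lc_c_rc_22_2 lc_c_rc_11_3 lc_c_rc_11_3 lc_c_rc_2_3 lc_c_rc_26_2 lc_c_rc_22_2 lc_c_rc_22_2 lc_c_rc_22_2 lc_c_rc_11_3 lc_c_rc_20_2 lc_c_rc_2_1 lc_c_rc_22_0 lc_c_rc_21_2 lc_c_rc_22_2 lc_c_rc_11_3 lc_c_rc_11_3 lc_c_rc_22_2 lc_c_rc_20_2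 lc_c_rc_20_2 lc_c_rc_20_4 lc_c_rc_21_2 lc_c_rc_21_2 lc_c_rc_2_3 lc_c_rc_2_1 lc_c_rc_25_2 lc_c_rc_2_1 lc_c_rc_26_2 lc_c_rc_26_2 lc_c_rc_2_1 lc_c_Cert_tree lc_c_rc_2_1) (@D3.rec (fun _ => (Cert rels S Gen.c)) lc_c_rc_19_0 lc_c_rc_21_2 lc_c_rc_26_2 lc_c_rc_19_0 lc_c_rc_26_2 lc_c_rc_26_2 lc_c_rc_22_0 lc_c_rc_26_2 lc_c_rc_22_2 lc_c_rc_22_2 lc_c_rc_26_0 lc_c_rc_21_2 lc_c_rc_11_1 lc_c_rc_22_0 lc_c_rc_21_0 lc_c_rc_2_1 lc_c_rc_23_2 lc_c_rc_2_1 lc_c_rc_19_0 lc_c_rc_21_2 lc_c_rc_26_2 lc_c_rc_26_2 lc_c_rc_26_2 lc_c_rc_23_2 lc_c_rc_21_2 lc_c_rc_22_2 lc_c_rc_22_2 lc_c_rc_22_2 lc_c_rc_24_2 lc_c_rc_24_2 lc_c_rc_11_5 lc_c_rc_26_2 lc_c_rc_21_2 lc_c_rc_26_2 lc_c_rc_22_0 lc_c_rc_26_2 lc_c_rc_22_2 lc_c_rc_22_2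 lc_c_rc_22_2 lc_c_rc_2_3 lc_c_rc_22_0 lc_c_rc_21_2 lc_c_rc_23_2 lc_c_rc_25_2 lc_c_rc_24_2 lc_c_rc_23_2 lc_c_rc_26_0 lc_c_rc_2_1 lc_c_rc_20_2 lc_c_rc_23_2 lc_c_rc_22_0) (@D3.rec (fun _ => (Cert rels S Gen.c)) lc_c_rc_20_2 lc_c_rc_21_2 lc_c_rc_22_0 lc_c_rc_2_1 lc_c_rc_22_2 lc_c_rc_24_2 lc_c_Cert_tree lc_c_rc_26_2 lc_c_rc_19_0 lc_c_rc_21_2 lc_c_rc_26_2 lc_c_rc_22_2 lc_c_rc_26_2 lc_c_rc_19_0 lc_c_rc_21_2 lc_c_rc_26_2 lc_c_rc_11_3 lc_c_rc_21_2 lc_c_rc_26_2 lc_c_rc_23_2 lc_c_rc_26_2 lc_c_rc_22_2 lc_c_rc_11_3 lc_c_rc_26_2 lc_c_rc_23_2 lc_c_rc_26_2 lc_c_rc_22_2 lc_c_rc_11_3 lc_c_rc_23_2 lc_c_rc_26_2 lc_c_rc_22_2 lc_c_rc_22_2 lc_c_rc_26_2 lc_c_rc_22_2 lc_c_rc_11_3 lc_c_rc_22_2 lc_c_rc_20_2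 lc_c_rc_25_2 lc_c_rc_26_2 lc_c_rc_22_2 lc_c_Cert_tree lc_c_rc_21_2 lc_c_rc_2_3 lc_c_rc_11_3 lc_c_rc_21_2 lc_c_rc_26_2 lc_c_rc_21_2 lc_c_rc_26_2 lc_c_rc_22_2 lc_c_rc_2_1 lc_c_rc_11_3) (@D3.rec (fun _ => (Cert rels S Gen.c)) lc_c_rc_11_3 lc_c_rc_19_0 lc_c_rc_23_2 lc_c_rc_26_2 lc_c_rc_22_2 lc_c_rc_24_2 lc_c_rc_26_2 lc_c_rc_22_2 lc_c_rc_2_1 lc_c_rc_11_3 lc_c_rc_22_2 lc_c_rc_24_2 lc_c_rc_26_2 lc_c_rc_22_2 lc_c_rc_2_1 lc_c_rc_11_3 lc_c_rc_11_3 lc_c_rc_11_3 lc_c_rc_24_2 lc_c_rc_26_2 lc_c_rc_22_2 lc_c_rc_20_2 lc_c_rc_25_2 lc_c_rc_26_2 lc_c_rc_22_2 lc_c_Cert_tree lc_c_rc_2_1 lc_c_rc_11_3 lc_c_rc_2_3 lc_c_rc_25_2 lc_c_rc_26_2 lc_c_rc_22_2 lc_c_rc_21_2 lc_c_rc_26_2 lc_c_rc_22_2 lc_c_rc_20_4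 lc_c_rc_19_0 lc_c_rc_20_0 lc_c_rc_20_0 lc_c_rc_22_2 lc_c_Cert_tree lc_c_rc_25_2 lc_c_rc_24_2 lc_c_Cert_tree lc_c_rc_19_0 lc_c_rc_25_2 lc_c_Cert_tree lc_c_rc_19_0 lc_c_rc_11_3 lc_c_rc_2_1 lc_c_rc_11_3) (@D3.rec (fun _ => (Cert rels S Gen.c)) lc_c_rc_22_2 lc_c_rc_2_1 lc_c_rc_2_1 lc_c_rc_20_2 lc_c_rc_11_3 lc_c_rc_11_3 lc_c_rc_2_1 lc_c_rc_55_19 lc_c_rc_22_2 lc_c_rc_20_2 lc_c_rc_2_1 lc_c_rc_11_3 lc_c_rc_20_2 lc_c_rc_2_1 lc_c_rc_22_0 lc_c_rc_21_2 lc_c_rc_11_1 lc_c_rc_2_3 lc_c_rc_2_1 lc_c_rc_11_3 lc_c_rc_21_2 lc_c_rc_2_1 lc_c_rc_2_1 lc_c_rc_11_3 lc_c_rc_22_2 lc_c_rc_2_1 lc_c_rc_21_2 lc_c_rc_11_3 lc_c_rc_2_1 lc_c_rc_22_2 lc_c_rc_22_2 lc_c_rc_55_19 lc_c_rc_22_2 lc_c_rc_25_2 lc_c_rc_11_3 lc_c_rc_21_2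 lc_c_rc_11_3 lc_c_rc_21_2 lc_c_rc_19_0 lc_c_rc_2_1 lc_c_rc_19_0 lc_c_rc_19_0 lc_c_rc_26_2 lc_c_rc_23_2 lc_c_rc_20_2 lc_c_rc_23_2 lc_c_rc_21_2 lc_c_rc_20_2 lc_c_rc_26_2 lc_c_rc_20_2 lc_c_rc_22_2) (@D3.rec (fun _ => (Cert rels S Gen.c)) lc_c_rc_22_2 lc_c_rc_22_2 lc_c_rc_23_2 lc_c_rc_22_2 lc_c_rc_26_2 lc_c_rc_2_1 lc_c_rc_23_0 lc_c_rc_22_2 lc_c_rc_20_2 lc_c_rc_20_4 lc_c_rc_22_2 lc_c_rc_23_0 lc_c_rc_22_2 lc_c_rc_20_2 lc_c_rc_22_2 lc_c_rc_22_2 lc_c_Cert_tree lc_c_rc_11_3 lc_c_rc_20_2 lc_c_rc_25_2 lc_c_rc_26_2 lc_c_rc_21_2 lc_c_rc_11_3 lc_c_rc_26_2 lc_c_rc_22_2 lc_c_rc_2_1 lc_c_rc_2_1 lc_c_rc_19_0 lc_c_rc_26_2 lc_c_rc_21_2 lc_c_rc_21_2 lc_c_rc_26_2 lc_c_rc_26_2 lc_c_rc_22_2 lc_c_rc_19_1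 lc_c_rc_2_1 lc_c_rc_26_2 lc_c_rc_23_2 lc_c_rc_11_3 lc_c_rc_22_2 lc_c_rc_11_3 lc_c_rc_26_2 lc_c_rc_22_2 lc_c_rc_22_2 lc_c_rc_23_2 lc_c_rc_22_2 lc_c_Cert_tree lc_c_rc_11_3 lc_c_rc_22_2 lc_c_rc_11_3 lc_c_rc_20_2) (@D3.rec (fun _ => (Cert rels S Gen.c)) lc_c_rc_25_2 lc_c_rc_2_3 lc_c_rc_26_2 lc_c_rc_23_2 lc_c_rc_22_2 lc_c_rc_26_2 lc_c_rc_26_2 lc_c_rc_22_2 lc_c_rc_23_2 lc_c_rc_22_2 lc_c_rc_24_2 lc_c_rc_23_2 lc_c_rc_11_3 lc_c_rc_26_2 lc_c_rc_22_2 lc_c_rc_22_2 lc_c_rc_20_2 lc_c_rc_26_2 lc_c_rc_22_2 lc_c_rc_26_2 lc_c_rc_22_2 lc_c_rc_20_2 lc_c_rc_23_0 lc_c_rc_22_2 lc_c_Cert_tree lc_c_rc_56_30 lc_c_Cert_tree lc_c_rc_19_0 lc_c_rc_2_1 lc_c_rc_2_1 lc_c_rc_26_0 lc_c_rc_21_2 lc_c_rc_2_1 lc_c_rc_22_2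 lc_c_rc_23_2 lc_c_rc_22_2 lc_c_rc_23_2 lc_c_rc_23_2 lc_c_rc_22_2 lc_c_rc_24_2 lc_c_rc_22_2 lc_c_rc_11_3 lc_c_rc_23_2 lc_c_rc_11_3 lc_c_rc_21_2 lc_c_rc_11_3 lc_c_rc_26_2 lc_c_rc_22_2 lc_c_rc_2_1 lc_c_Cert_tree lc_c_rc_2_1) (@D3.rec (fun _ => (Cert rels S Gen.c)) lc_c_rc_22_2 lc_c_rc_2_1 lc_c_rc_19_0 lc_c_rc_22_2 lc_c_rc_26_2 lc_c_rc_26_2 lc_c_rc_26_2 lc_c_rc_22_2 lc_c_rc_24_2 lc_c_rc_23_2 lc_c_rc_23_2 lc_c_rc_19_0 lc_c_rc_21_2 lc_c_rc_26_2 lc_c_rc_20_2 lc_c_rc_26_2 lc_c_rc_23_2 lc_c_rc_20_2 lc_c_rc_22_2 lc_c_rc_26_2 lc_c_rc_22_2 lc_c_rc_2_3 lc_c_rc_23_2 lc_c_rc_22_2 lc_c_rc_22_0 lc_c_rc_24_2 lc_c_rc_26_2 lc_c_rc_22_2 lc_c_rc_22_2 lc_c_rc_20_2 lc_c_Cert_tree lc_c_rc_26_2 lc_c_rc_23_2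 lc_c_rc_26_2 lc_c_rc_19_0 lc_c_rc_21_2 lc_c_rc_26_2 lc_c_rc_24_2 lc_c_rc_21_0 lc_c_rc_26_2 lc_c_rc_23_2 lc_c_rc_24_2 lc_c_rc_22_2 lc_c_rc_11_3 lc_c_rc_26_2 lc_c_rc_22_2 lc_c_rc_21_2 lc_c_rc_26_2 lc_c_rc_22_2 lc_c_rc_23_2 lc_c_rc_24_2) (@D3.rec (fun _ => (Cert rels S Gen.c)) lc_c_rc_20_4 lc_c_rc_23_2 lc_c_rc_23_2 lc_c_rc_21_2 lc_c_rc_26_2 lc_c_rc_20_4 lc_c_rc_26_2 lc_c_rc_22_2 lc_c_rc_22_2 lc_c_rc_11_3 lc_c_rc_22_2 lc_c_rc_23_2 lc_c_rc_23_2 lc_c_rc_22_2 lc_c_rc_2_1 lc_c_rc_11_3 lc_c_rc_11_3 lc_c_rc_24_2 lc_c_rc_26_2 lc_c_rc_22_2 lc_c_rc_20_2 lc_c_rc_26_2 lc_c_rc_22_2 lc_c_Cert_tree lc_c_rc_25_2 lc_c_rc_23_2 lc_c_Cert_tree lc_c_rc_25_2 lc_c_rc_26_0 lc_c_rc_19_0 lc_c_rc_20_0 lc_c_rc_23_2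 lc_c_rc_11_3 lc_c_rc_20_2 lc_c_rc_26_2 lc_c_rc_22_2 lc_c_rc_22_2 lc_c_rc_11_3 lc_c_rc_20_2 lc_c_rc_22_0 lc_c_rc_21_2 lc_c_rc_23_2 lc_c_rc_20_4 lc_c_rc_11_3 lc_c_rc_24_2 lc_c_rc_23_2 lc_c_rc_23_2 lc_c_rc_26_2 lc_c_rc_26_2 lc_c_rc_22_2 lc_c_rc_23_2) (@D3.rec (fun _ => (Cert rels S Gen.c)) lc_c_rc_11_3 lc_c_rc_19_0 lc_c_rc_21_2 lc_c_rc_26_2 lc_c_rc_21_2 lc_c_rc_11_3 lc_c_rc_26_2 lc_c_rc_22_2 lc_c_rc_11_3 lc_c_rc_22_2 lc_c_rc_2_1 lc_c_Cert_tree lc_c_rc_2_1 lc_c_Cert_tree lc_c_rc_2_1 lc_c_rc_19_0 lc_c_rc_21_2 lc_c_rc_26_2 lc_c_rc_19_0 lc_c_rc_26_2 lc_c_rc_22_0 lc_c_rc_21_2 lc_c_rc_26_2 lc_c_rc_23_2 lc_c_rc_26_2 lc_c_rc_22_2 lc_c_rc_26_2 lc_c_rc_26_2 lc_c_rc_22_2 lc_c_rc_22_2 lc_c_rc_23_2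 lc_c_rc_24_2 lc_c_rc_19_0 lc_c_rc_21_2 lc_c_rc_26_2 lc_c_rc_11_3 lc_c_rc_21_2 lc_c_rc_26_2 lc_c_rc_23_2 lc_c_rc_26_2 lc_c_rc_22_2 lc_c_rc_26_2 lc_c_rc_23_2 lc_c_rc_24_2 lc_c_rc_22_2 lc_c_rc_2_1 lc_c_rc_11_3 lc_c_rc_23_2 lc_c_rc_26_2 lc_c_rc_22_2 lc_c_rc_26_2) (@D3.rec (fun _ => (Cert rels S Gen.c)) lc_c_rc_22_2 lc_c_rc_26_2 lc_c_rc_55_46 lc_c_rc_11_3 lc_c_rc_22_2 lc_c_rc_20_2 lc_c_Cert_tree lc_c_rc_24_2 lc_c_rc_23_2 lc_c_rc_22_2 lc_c_rc_23_2 lc_c_Cert_tree lc_c_rc_19_0 lc_c_rc_11_3 lc_c_rc_26_2 lc_c_rc_20_4 lc_c_rc_22_2 lc_c_rc_11_3 lc_c_rc_22_2 lc_c_rc_22_2 lc_c_rc_11_3 lc_c_rc_22_2 lc_c_rc_2_1 lc_c_rc_11_3 lc_c_rc_20_2 lc_c_rc_2_1 lc_c_Cert_tree lc_c_rc_22_0 lc_c_Cert_tree lc_c_rc_26_2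 lc_c_rc_19_0 lc_c_rc_21_2 lc_c_rc_26_2 lc_c_rc_23_2 lc_c_rc_26_2 lc_c_rc_19_0 lc_c_rc_21_2 lc_c_rc_26_2 lc_c_rc_23_2 lc_c_rc_21_2 lc_c_rc_26_2 lc_c_rc_23_2 lc_c_rc_26_2 lc_c_rc_22_2 lc_c_rc_26_2 lc_c_rc_22_2 lc_c_rc_24_2 lc_c_rc_22_2 lc_c_rc_26_2 lc_c_rc_23_2 lc_c_rc_26_2) (@D3.rec (fun _ => (Cert rels S Gen.c)) lc_c_rc_22_2 lc_c_rc_22_2 lc_c_rc_26_2 lc_c_rc_22_2 lc_c_rc_22_2 lc_c_rc_22_2 lc_c_rc_20_2 lc_c_rc_24_2 lc_c_rc_22_2 lc_c_Cert_tree lc_c_rc_11_3 lc_c_rc_23_2 lc_c_rc_21_2 lc_c_rc_26_2 lc_c_rc_23_2 lc_c_rc_26_2 lc_c_rc_22_2 lc_c_rc_23_2 lc_c_rc_11_3 lc_c_rc_25_0 lc_c_rc_20_2 lc_c_rc_23_2 lc_c_rc_26_2 lc_c_rc_22_2 lc_c_rc_24_2 lc_c_rc_26_2 lc_c_rc_22_2 lc_c_rc_23_2 lc_c_rc_26_2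 lc_c_rc_22_2 lc_c_rc_26_2 lc_c_rc_22_2 lc_c_rc_24_2 lc_c_rc_22_0 lc_c_rc_26_2 lc_c_rc_21_0 lc_c_rc_24_2 lc_c_rc_26_2 lc_c_rc_22_2 lc_c_rc_20_2 lc_c_rc_22_0 lc_c_rc_26_2 lc_c_rc_22_2 lc_c_Cert_tree lc_c_rc_22_2 lc_c_rc_22_2 lc_c_rc_20_4 lc_c_rc_26_2 lc_c_rc_22_2 lc_c_Cert_tree lc_c_rc_21_2) (@D3.rec (fun _ => (Cert rels S Gen.c)) lc_c_rc_24_2 lc_c_rc_22_2 lc_c_rc_20_4 lc_c_rc_19_0 lc_c_rc_23_2 lc_c_rc_21_2 lc_c_rc_25_2 lc_c_rc_23_2 lc_c_Cert_tree lc_c_rc_19_0 lc_c_Cert_tree lc_c_rc_19_0 lc_c_rc_11_3 lc_c_rc_20_2 lc_c_rc_26_2 lc_c_rc_22_2 lc_c_rc_22_2 lc_c_rc_2_1 lc_c_rc_2_1 lc_c_rc_2_3 lc_c_rc_11_3 lc_c_rc_11_3 lc_c_rc_21_0 lc_c_rc_20_2 lc_c_rc_22_2 lc_c_rc_20_2 lc_c_Cert_tree lc_c_rc_20_2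 lc_c_rc_2_1 lc_c_rc_20_2 lc_c_rc_21_2 lc_c_rc_2_1 lc_c_rc_2_1 lc_c_rc_11_3 lc_c_rc_24_2 lc_c_rc_23_2 lc_c_rc_24_2 lc_c_rc_24_2 lc_c_rc_11_3 lc_c_rc_11_3 lc_c_rc_19_0 lc_c_rc_21_2 lc_c_rc_26_2 lc_c_rc_19_0 lc_c_rc_26_2 lc_c_rc_26_2 lc_c_rc_22_2 lc_c_rc_22_2 lc_c_rc_22_0 lc_c_rc_24_2 lc_c_rc_21_2) (@D3.rec (fun _ => (Cert rels S Gen.c)) lc_c_rc_25_2 lc_c_rc_21_2 lc_c_rc_21_2 lc_c_rc_23_2 lc_c_rc_25_2 lc_c_rc_25_2 lc_c_rc_23_2 lc_c_rc_21_2 lc_c_rc_21_2 lc_c_rc_21_2 lc_c_rc_20_2 lc_c_rc_24_2 lc_c_rc_55_73 lc_c_rc_26_2 lc_c_rc_19_0 lc_c_rc_21_2 lc_c_rc_26_2 lc_c_rc_22_2 lc_c_rc_26_2 lc_c_rc_21_2 lc_c_rc_25_2 lc_c_rc_21_2 lc_c_rc_21_2 lc_c_rc_23_2 lc_c_rc_26_0 lc_c_rc_22_0 lc_c_rc_25_2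 lc_c_rc_23_2 lc_c_rc_21_2 lc_c_rc_56_16 lc_c_rc_19_0 lc_c_rc_21_2 lc_c_rc_26_2 lc_c_rc_21_2 lc_c_rc_26_2 lc_c_rc_20_2 lc_c_rc_26_2 lc_c_rc_22_2 lc_c_rc_11_3 lc_c_rc_11_3 lc_c_rc_20_2 lc_c_rc_23_2 lc_c_rc_26_2 lc_c_rc_22_2 lc_c_rc_21_2 lc_c_rc_26_2 lc_c_rc_22_2 lc_c_rc_22_2 lc_c_rc_55_19 lc_c_rc_22_2 lc_c_rc_11_3) (@D3.rec (fun _ => (Cert rels S Gen.c)) lc_c_rc_26_2 lc_c_rc_22_2 lc_c_rc_22_0 lc_c_rc_2_3 lc_c_rc_22_2 lc_c_Cert_tree lc_c_rc_26_2 lc_c_rc_26_0 lc_c_rc_56_30 lc_c_rc_19_0 lc_c_rc_21_0 lc_c_rc_21_0 lc_c_rc_23_0 lc_c_rc_21_2 lc_c_rc_24_2 lc_c_Cert_tree lc_c_rc_19_0 lc_c_rc_23_0 lc_c_rc_21_2 lc_c_rc_26_2 lc_c_rc_20_2 lc_c_rc_23_2 lc_c_rc_20_2 lc_c_rc_22_2 lc_c_rc_26_2 lc_c_rc_26_2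 lc_c_rc_26_2 lc_c_rc_24_2 lc_c_rc_11_3 lc_c_rc_19_0 lc_c_rc_21_2 lc_c_rc_26_2 lc_c_rc_21_2 lc_c_rc_26_2 lc_c_rc_26_2 lc_c_rc_22_2 lc_c_rc_26_2 lc_c_rc_22_2 lc_c_rc_22_2 lc_c_rc_20_2 lc_c_rc_56_51 lc_c_rc_2_1 lc_c_rc_19_0 lc_c_rc_21_2 lc_c_rc_26_2 lc_c_rc_24_2 lc_c_rc_20_2 lc_c_rc_21_2 lc_c_rc_22_0 lc_c_rc_21_2 lc_c_rc_21_2) (@D3.rec (fun _ => (Cert rels S Gen.c)) lc_c_rc_26_2 lc_c_rc_25_2 lc_c_rc_26_2 lc_c_rc_20_2 lc_c_rc_26_2 lc_c_rc_26_2 lc_c_Cert_tree lc_c_rc_19_0 lc_c_rc_21_2 lc_c_rc_26_2 lc_c_rc_21_2 lc_c_rc_26_2 lc_c_rc_23_2 lc_c_rc_26_2 lc_c_rc_22_2 lc_c_rc_21_2 lc_c_rc_23_2 lc_c_rc_21_2 lc_c_rc_23_2 lc_c_rc_26_2 lc_c_rc_22_2 lc_c_rc_26_2 lc_c_rc_22_2 lc_c_rc_23_2 lc_c_rc_26_2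 lc_c_rc_22_2 lc_c_rc_24_2 lc_c_rc_26_2 lc_c_rc_22_2 lc_c_rc_22_2 lc_c_rc_26_2 lc_c_rc_22_2 lc_c_rc_22_2 lc_c_Cert_tree lc_c_Cert_tree lc_c_rc_19_0 lc_c_rc_24_2 lc_c_rc_23_2 lc_c_Cert_tree lc_c_Cert_tree lc_c_rc_19_0 lc_c_rc_21_2 lc_c_rc_26_2 lc_c_rc_26_2 lc_c_rc_25_2 lc_c_rc_26_2 lc_c_rc_2_1 lc_c_rc_2_1 lc_c_Cert_tree lc_c_rc_11_3 lc_c_rc_24_2) (@D3.rec (fun _ => (Cert rels S Gen.c)) lc_c_rc_26_2 lc_c_rc_20_2 lc_c_rc_26_2 lc_c_rc_19_0 lc_c_rc_21_2 lc_c_rc_26_2 lc_c_rc_11_3 lc_c_rc_21_2 lc_c_rc_26_2 lc_c_rc_23_2 lc_c_rc_26_2 lc_c_rc_22_2 lc_c_rc_19_0 lc_c_rc_21_2 lc_c_rc_26_2 lc_c_rc_11_3 lc_c_rc_21_2 lc_c_rc_26_2 lc_c_rc_23_2 lc_c_rc_26_2 lc_c_rc_22_2 lc_c_rc_11_3 lc_c_rc_11_3 lc_c_rc_20_2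 lc_c_rc_23_2 lc_c_rc_26_2 lc_c_rc_22_2 lc_c_rc_24_2 lc_c_rc_26_2 lc_c_rc_22_2 lc_c_rc_11_3 lc_c_rc_23_2 lc_c_rc_26_2 lc_c_rc_22_2 lc_c_rc_24_2 lc_c_rc_26_2 lc_c_rc_22_2 lc_c_rc_11_3 lc_c_rc_24_2 lc_c_rc_26_2 lc_c_rc_22_2 lc_c_rc_25_2 lc_c_rc_26_2 lc_c_rc_22_2 lc_c_Cert_tree lc_c_rc_25_2 lc_c_rc_26_2 lc_c_rc_22_2 lc_c_rc_2_3 lc_c_rc_26_2 lc_c_rc_22_2) (@D3.rec (fun _ => (Cert rels S Gen.c)) lc_c_Cert_tree lc_c_rc_19_0 lc_c_rc_11_3 lc_c_rc_21_2 lc_c_rc_26_2 lc_c_rc_23_2 lc_c_rc_26_2 lc_c_rc_22_2 lc_c_rc_2_1 lc_c_rc_11_3 lc_c_rc_11_3 lc_c_rc_20_2 lc_c_rc_23_2 lc_c_rc_26_2 lc_c_rc_22_2 lc_c_rc_24_2 lc_c_rc_26_2 lc_c_rc_22_2 lc_c_rc_2_1 lc_c_rc_2_1 lc_c_rc_21_2 lc_c_rc_11_3 lc_c_rc_11_3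 lc_c_rc_11_3 lc_c_rc_20_2 lc_c_rc_20_0 lc_c_rc_20_2 lc_c_rc_24_2 lc_c_rc_26_2 lc_c_rc_22_2 lc_c_rc_26_0 lc_c_rc_25_2 lc_c_rc_26_2 lc_c_rc_22_2 lc_c_Cert_tree lc_c_rc_2_1 lc_c_rc_23_2 lc_c_rc_26_2 lc_c_rc_11_3 lc_c_rc_24_2 lc_c_rc_26_2 lc_c_rc_22_2 lc_c_rc_26_0 lc_c_rc_25_2 lc_c_rc_26_2 lc_c_rc_22_2 lc_c_Cert_tree lc_c_rc_2_1 lc_c_rc_23_2 lc_c_rc_11_3 lc_c_rc_11_3) (@D3.rec (fun _ => (Cert rels S Gen.c)) lc_c_rc_24_2 lc_c_rc_25_2 lc_c_rc_26_2 lc_c_rc_22_2 lc_c_Cert_tree lc_c_rc_20_0 lc_c_rc_26_2 lc_c_rc_22_2 lc_c_Cert_tree lc_c_rc_19_0 lc_c_rc_25_2 lc_c_rc_26_2 lc_c_rc_22_2 lc_c_rc_20_4 lc_c_rc_26_2 lc_c_rc_22_2 lc_c_rc_23_2 lc_c_rc_19_0 lc_c_rc_2_3 lc_c_rc_22_2 lc_c_Cert_tree lc_c_rc_19_0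 lc_c_rc_11_3 lc_c_rc_24_2 lc_c_rc_24_2 lc_c_Cert_tree lc_c_rc_19_0 lc_c_rc_23_2 lc_c_Cert_tree lc_c_rc_19_0 lc_c_rc_21_2 lc_c_rc_11_3 lc_c_Cert_tree lc_c_rc_19_0 lc_c_rc_2_1 lc_c_rc_22_2 lc_c_rc_24_2 lc_c_rc_26_2 lc_c_rc_22_2 lc_c_rc_2_1 lc_c_rc_19_0 lc_c_rc_22_2 lc_c_rc_20_2 lc_c_rc_26_2 lc_c_rc_2_1 lc_c_rc_2_1 lc_c_rc_26_2 lc_c_rc_2_1 lc_c_rc_21_0 lc_c_rc_22_2 lc_c_Cert_tree) (@D3.rec (fun _ => (Cert rels S Gen.c)) lc_c_rc_21_2 lc_c_rc_19_0 lc_c_rc_2_1 lc_c_rc_25_2 lc_c_rc_22_0 lc_c_rc_23_2 lc_c_rc_21_2 lc_c_rc_56_51 lc_c_rc_26_2 lc_c_rc_22_2 lc_c_rc_26_2 lc_c_rc_11_3 lc_c_rc_26_2 lc_c_rc_22_2 lc_c_rc_2_1 lc_c_rc_11_3 lc_c_rc_11_3 lc_c_rc_20_2 lc_c_rc_26_2 lc_c_rc_22_2 lc_c_rc_22_2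 lc_c_rc_11_3 lc_c_rc_2_1 lc_c_rc_11_1 lc_c_rc_11_3 lc_c_rc_21_2 lc_c_rc_20_2 lc_c_rc_21_2 lc_c_rc_20_0 lc_c_rc_21_2 lc_c_rc_21_2 lc_c_rc_22_2 lc_c_Cert_tree lc_c_rc_19_0 lc_c_rc_21_2 lc_c_rc_21_2 lc_c_rc_22_2 lc_c_rc_22_2 lc_c_rc_22_2 lc_c_rc_23_2 lc_c_rc_22_2 lc_c_rc_11_3 lc_c_rc_11_3 lc_c_rc_26_2 lc_c_rc_22_2 lc_c_rc_22_2 lc_c_rc_22_2 lc_c_rc_23_2 lc_c_rc_22_2 lc_c_rc_22_2 lc_c_rc_26_2)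
def ce_c_14 : D2 → D3 → (Cert rels S Gen.c) := @D2.rec (fun _ => D3 → (Cert rels S Gen.c)) (@D3.rec (fun _ => (Cert rels S Gen.c)) lc_c_rc_23_2 lc_c_rc_20_2 lc_c_rc_21_2 lc_c_rc_23_2 lc_c_rc_22_2 lc_c_rc_21_2 lc_c_rc_21_2 lc_c_rc_23_2 lc_c_rc_23_2 lc_c_rc_22_2 lc_c_rc_21_2 lc_c_rc_23_2 lc_c_rc_26_2 lc_c_rc_22_2 lc_c_rc_25_0 lc_c_rc_24_2 lc_c_rc_21_2 lc_c_rc_26_2 lc_c_rc_26_2 lc_c_rc_22_2 lc_c_rc_11_3 lc_c_rc_11_3 lc_c_rc_20_2 lc_c_rc_23_2 lc_c_rc_26_2 lc_c_rc_22_2 lc_c_rc_24_2 lc_c_rc_26_2 lc_c_rc_22_2 lc_c_rc_11_3 lc_c_rc_22_2 lc_c_rc_11_3 lc_c_rc_11_3 lc_c_rc_11_3 lc_c_rc_24_2 lc_c_rc_26_2 lc_c_rc_22_2 lc_c_rc_24_2 lc_c_rc_26_2 lc_c_rc_22_2 lc_c_rc_11_3 lc_c_rc_26_2 lc_c_rc_22_2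 lc_c_rc_20_2 lc_c_rc_21_2 lc_c_rc_22_2 lc_c_rc_20_2 lc_c_rc_2_1 lc_c_rc_20_4 lc_c_rc_19_0 lc_c_rc_21_2) (@D3.rec (fun _ => (Cert rels S Gen.c)) lc_c_rc_26_2 lc_c_rc_19_1 lc_c_rc_21_0 lc_c_rc_21_2 lc_c_rc_23_2 lc_c_rc_20_4 lc_c_rc_56_16 lc_c_rc_22_2 lc_c_rc_2_1 lc_c_rc_11_3 lc_c_rc_11_3 lc_c_rc_26_2 lc_c_rc_22_2 lc_c_rc_22_2 lc_c_rc_2_1 lc_c_rc_11_3 lc_c_rc_22_2 lc_c_rc_2_1 lc_c_rc_11_3 lc_c_rc_20_2 lc_c_rc_2_1 lc_c_rc_11_3 lc_c_rc_2_1 lc_c_rc_11_3 lc_c_rc_20_2 lc_c_rc_2_1 lc_c_rc_11_3 lc_c_rc_20_2 lc_c_rc_2_1 lc_c_rc_22_0 lc_c_rc_21_2 lc_c_rc_2_1 lc_c_rc_11_3 lc_c_rc_2_1 lc_c_rc_21_2 lc_c_rc_23_2 lc_c_rc_21_2 lc_c_rc_23_2 lc_c_rc_21_2 lc_c_rc_21_2 lc_c_rc_26_2 lc_c_rc_26_2 lc_c_rc_22_2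 lc_c_rc_26_2 lc_c_rc_22_2 lc_c_rc_22_2 lc_c_rc_26_2 lc_c_rc_19_0 lc_c_rc_21_2 lc_c_rc_26_2 lc_c_rc_26_0) (@D3.rec (fun _ => (Cert rels S Gen.c)) lc_c_rc_21_2 lc_c_rc_26_2 lc_c_rc_23_2 lc_c_rc_26_2 lc_c_rc_22_2 lc_c_rc_21_2 lc_c_rc_24_2 lc_c_rc_21_2 lc_c_rc_23_2 lc_c_rc_26_2 lc_c_rc_22_2 lc_c_rc_26_2 lc_c_rc_22_2 lc_c_rc_25_2 lc_c_rc_23_2 lc_c_rc_26_2 lc_c_rc_22_2 lc_c_rc_26_2 lc_c_rc_22_2 lc_c_rc_24_2 lc_c_rc_26_2 lc_c_rc_22_2 lc_c_rc_24_2 lc_c_rc_22_2 lc_c_rc_2_1 lc_c_rc_20_2 lc_c_rc_21_2 lc_c_rc_11_3 lc_c_rc_26_2 lc_c_rc_22_2 lc_c_rc_11_3 lc_c_rc_20_2 lc_c_rc_26_2 lc_c_rc_22_2 lc_c_rc_22_2 lc_c_rc_2_1 lc_c_rc_22_2 lc_c_rc_11_3 lc_c_rc_11_3 lc_c_rc_20_2 lc_c_rc_22_2 lc_c_rc_23_2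 lc_c_rc_26_2 lc_c_rc_11_3 lc_c_rc_25_2 lc_c_rc_2_1 lc_c_rc_2_1 lc_c_rc_24_2 lc_c_rc_11_1 lc_c_rc_11_3 lc_c_rc_21_2) (@D3.rec (fun _ => (Cert rels S Gen.c)) lc_c_rc_26_2 lc_c_rc_26_2 lc_c_rc_22_2 lc_c_rc_19_0 lc_c_rc_21_2 lc_c_rc_26_2 lc_c_rc_11_3 lc_c_rc_21_2 lc_c_rc_26_2 lc_c_rc_26_2 lc_c_rc_22_2 lc_c_rc_11_3 lc_c_rc_11_3 lc_c_rc_20_2 lc_c_rc_23_2 lc_c_rc_26_2 lc_c_rc_22_2 lc_c_rc_21_2 lc_c_rc_26_2 lc_c_rc_22_2 lc_c_rc_11_3 lc_c_rc_22_2 lc_c_rc_11_3 lc_c_rc_11_3 lc_c_rc_11_3 lc_c_rc_26_2 lc_c_rc_22_2 lc_c_rc_2_3 lc_c_rc_2_1 lc_c_rc_22_2 lc_c_rc_11_3 lc_c_rc_20_2 lc_c_rc_2_1 lc_c_rc_2_1 lc_c_rc_21_2 lc_c_rc_26_2 lc_c_rc_23_2 lc_c_rc_26_2 lc_c_rc_22_2 lc_c_rc_11_3 lc_c_rc_11_3 lc_c_rc_21_2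 lc_c_rc_23_2 lc_c_rc_26_2 lc_c_rc_22_2 lc_c_rc_26_2 lc_c_rc_22_2 lc_c_rc_2_1 lc_c_rc_2_1 lc_c_rc_23_0 lc_c_rc_11_3) (@D3.rec (fun _ => (Cert rels S Gen.c)) lc_c_rc_11_3 lc_c_rc_11_3 lc_c_rc_20_2 lc_c_rc_20_0 lc_c_rc_20_2 lc_c_rc_24_2 lc_c_rc_26_2 lc_c_rc_22_2 lc_c_rc_20_2 lc_c_rc_25_2 lc_c_rc_26_2 lc_c_rc_22_2 lc_c_Cert_tree lc_c_rc_2_1 lc_c_rc_2_1 lc_c_rc_11_3 lc_c_rc_11_3 lc_c_rc_11_3 lc_c_rc_26_2 lc_c_rc_22_2 lc_c_rc_20_2 lc_c_rc_22_2 lc_c_rc_2_1 lc_c_rc_2_1 lc_c_rc_2_1 lc_c_rc_11_3 lc_c_rc_11_3 lc_c_rc_11_3 lc_c_rc_26_0 lc_c_rc_25_2 lc_c_rc_26_2 lc_c_rc_22_2 lc_c_rc_2_3 lc_c_rc_2_3 lc_c_rc_26_2 lc_c_rc_22_2 lc_c_rc_2_1 lc_c_rc_11_3 lc_c_rc_11_3 lc_c_rc_11_3 lc_c_rc_55_55 lc_c_rc_26_2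 lc_c_rc_22_2 lc_c_rc_20_2 lc_c_rc_22_2 lc_c_rc_22_2 lc_c_rc_11_3 lc_c_rc_22_2 lc_c_rc_20_2 lc_c_rc_22_2 lc_c_rc_20_2) (@D3.rec (fun _ => (Cert rels S Gen.c)) lc_c_rc_2_1 lc_c_rc_19_1 lc_c_rc_20_2 lc_c_rc_11_3 lc_c_rc_22_0 lc_c_rc_21_0 lc_c_rc_22_2 lc_c_rc_20_2 lc_c_rc_21_2 lc_c_rc_2_1 lc_c_rc_20_2 lc_c_rc_21_2 lc_c_rc_23_2 lc_c_rc_22_2 lc_c_rc_22_2 lc_c_rc_22_2 lc_c_rc_11_3 lc_c_rc_20_2 lc_c_rc_22_2 lc_c_rc_22_2 lc_c_rc_20_2 lc_c_rc_21_2 lc_c_rc_22_2 lc_c_rc_22_2 lc_c_rc_20_2 lc_c_rc_21_2 lc_c_rc_22_2 lc_c_rc_20_2 lc_c_rc_22_2 lc_c_rc_22_2 lc_c_rc_22_2 lc_c_rc_55_28 lc_c_rc_22_2 lc_c_rc_11_3 lc_c_rc_55_55 lc_c_rc_22_2 lc_c_rc_20_2 lc_c_rc_21_2 lc_c_rc_26_0 lc_c_rc_26_2 lc_c_rc_25_2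 lc_c_rc_26_2 lc_c_rc_23_2 lc_c_rc_21_2 lc_c_rc_23_2 lc_c_rc_22_2 lc_c_rc_11_5 lc_c_rc_25_2 lc_c_rc_21_2 lc_c_rc_26_2 lc_c_rc_26_2) (@D3.rec (fun _ => (Cert rels S Gen.c)) lc_c_rc_22_2 lc_c_rc_20_4 lc_c_rc_22_2 lc_c_rc_20_2 lc_c_rc_11_3 lc_c_rc_22_2 lc_c_rc_11_3 lc_c_rc_20_2 lc_c_rc_11_3 lc_c_rc_21_2 lc_c_rc_21_2 lc_c_rc_26_2 lc_c_rc_26_2 lc_c_rc_22_2 lc_c_rc_22_2 lc_c_rc_11_3 lc_c_rc_20_2 lc_c_rc_11_3 lc_c_rc_22_2 lc_c_rc_20_2 lc_c_rc_23_2 lc_c_rc_26_2 lc_c_rc_22_2 lc_c_rc_26_2 lc_c_rc_22_2 lc_c_rc_26_2 lc_c_rc_22_2 lc_c_rc_20_2 lc_c_rc_22_2 lc_c_rc_11_3 lc_c_rc_11_3 lc_c_rc_21_0 lc_c_rc_20_2 lc_c_rc_21_2 lc_c_rc_2_1 lc_c_rc_20_2 lc_c_rc_22_2 lc_c_rc_20_2 lc_c_rc_21_2 lc_c_rc_23_2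 lc_c_rc_21_2 lc_c_rc_26_2 lc_c_rc_26_2 lc_c_rc_22_2 lc_c_rc_22_2 lc_c_rc_22_2 lc_c_rc_20_2 lc_c_rc_11_1 lc_c_rc_25_0 lc_c_rc_26_2 lc_c_rc_25_2) (@D3.rec (fun _ => (Cert rels S Gen.c)) lc_c_rc_26_2 lc_c_rc_22_2 lc_c_rc_22_2 lc_c_rc_20_2 lc_c_rc_22_2 lc_c_rc_21_2 lc_c_rc_21_2 lc_c_rc_2_3 lc_c_rc_20_2 lc_c_rc_21_2 lc_c_rc_21_2 lc_c_rc_23_2 lc_c_rc_20_2 lc_c_rc_26_2 lc_c_rc_22_2 lc_c_rc_22_2 lc_c_rc_22_2 lc_c_rc_20_2 lc_c_rc_22_2 lc_c_rc_20_2 lc_c_rc_21_2 lc_c_rc_21_2 lc_c_rc_26_2 lc_c_rc_21_2 lc_c_rc_26_2 lc_c_rc_22_2 lc_c_rc_20_4 lc_c_rc_25_2 lc_c_rc_26_2 lc_c_rc_22_2 lc_c_rc_22_2 lc_c_rc_21_2 lc_c_rc_23_2 lc_c_rc_21_2 lc_c_rc_11_3 lc_c_rc_11_3 lc_c_rc_11_3 lc_c_rc_22_2 lc_c_rc_20_2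 lc_c_rc_24_2 lc_c_rc_26_2 lc_c_rc_22_2 lc_c_rc_20_2 lc_c_rc_2_1 lc_c_rc_26_2 lc_c_rc_22_2 lc_c_Cert_tree lc_c_rc_11_3 lc_c_rc_21_0 lc_c_rc_22_2 lc_c_rc_11_3) (@D3.rec (fun _ => (Cert rels S Gen.c)) lc_c_rc_11_3 lc_c_Cert_tree lc_c_rc_26_2 lc_c_rc_22_2 lc_c_rc_20_2 lc_c_rc_21_2 lc_c_rc_24_0 lc_c_rc_22_2 lc_c_rc_22_2 lc_c_rc_20_4 lc_c_rc_22_2 lc_c_rc_11_3 lc_c_rc_19_0 lc_c_rc_26_0 lc_c_rc_22_2 lc_c_rc_21_2 lc_c_rc_23_2 lc_c_rc_22_2 lc_c_rc_11_3 lc_c_rc_20_2 lc_c_rc_2_1 lc_c_rc_26_2 lc_c_rc_11_3 lc_c_rc_20_2 lc_c_rc_24_0 lc_c_rc_22_2 lc_c_rc_20_2 lc_c_rc_21_2 lc_c_rc_20_2 lc_c_rc_22_0 lc_c_rc_19_0 lc_c_rc_26_2 lc_c_rc_23_2 lc_c_rc_24_2 lc_c_rc_25_2 lc_c_rc_22_2 lc_c_rc_22_0 lc_c_rc_24_2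 lc_c_rc_21_2 lc_c_rc_25_2 lc_c_rc_21_2 lc_c_rc_21_2 lc_c_rc_19_1 lc_c_rc_22_2 lc_c_rc_24_2 lc_c_rc_21_2 lc_c_rc_25_2 lc_c_rc_21_2 lc_c_rc_21_2 lc_c_rc_25_2 lc_c_rc_23_2) (@D3.rec (fun _ => (Cert rels S Gen.c)) lc_c_rc_21_2 lc_c_rc_26_2 lc_c_rc_23_2 lc_c_rc_26_2 lc_c_rc_22_2 lc_c_rc_19_1 lc_c_rc_11_3 lc_c_rc_20_2 lc_c_rc_23_2 lc_c_rc_26_2 lc_c_rc_22_2 lc_c_rc_11_5 lc_c_rc_26_2 lc_c_rc_22_2 lc_c_rc_56_37 lc_c_rc_21_2 lc_c_rc_11_3 lc_c_rc_11_3 lc_c_rc_20_2 lc_c_rc_20_2 lc_c_rc_26_2 lc_c_rc_22_2 lc_c_rc_22_2 lc_c_Cert_tree lc_c_rc_26_0 lc_c_rc_24_0 lc_c_rc_11_3 lc_c_rc_26_2 lc_c_rc_22_2 lc_c_rc_21_0 lc_c_rc_22_2 lc_c_rc_24_0 lc_c_rc_24_2 lc_c_rc_22_2 lc_c_rc_20_2 lc_c_rc_21_2 lc_c_rc_20_2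 lc_c_rc_20_2 lc_c_rc_22_2 lc_c_rc_21_2 lc_c_rc_26_2 lc_c_rc_26_2 lc_c_rc_22_2 lc_c_rc_21_2 lc_c_rc_20_2 lc_c_rc_21_2 lc_c_rc_21_2 lc_c_rc_26_2 lc_c_rc_20_2 lc_c_rc_26_2 lc_c_rc_22_2) (@D3.rec (fun _ => (Cert rels S Gen.c)) lc_c_rc_21_2 lc_c_rc_25_2 lc_c_rc_26_2 lc_c_rc_22_2 lc_c_rc_22_2 lc_c_rc_21_2 lc_c_rc_23_2 lc_c_rc_21_2 lc_c_rc_21_2 lc_c_rc_24_2 lc_c_rc_21_2 lc_c_rc_21_2 lc_c_rc_22_2 lc_c_Cert_tree lc_c_rc_26_2 lc_c_rc_24_2 lc_c_rc_22_2 lc_c_rc_26_2 lc_c_rc_26_2 lc_c_rc_22_2 lc_c_rc_2_1 lc_c_rc_11_3 lc_c_rc_11_3 lc_c_rc_20_2 lc_c_rc_26_2 lc_c_rc_22_2 lc_c_rc_22_2 lc_c_rc_21_2 lc_c_rc_26_2 lc_c_rc_23_2 lc_c_rc_26_2 lc_c_rc_22_2 lc_c_rc_11_3 lc_c_rc_11_3 lc_c_rc_20_2 lc_c_rc_26_2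 lc_c_rc_22_2 lc_c_rc_22_2 lc_c_rc_21_2 lc_c_rc_23_2 lc_c_Cert_tree lc_c_rc_11_3 lc_c_rc_11_3 lc_c_rc_11_3 lc_c_rc_20_2 lc_c_rc_22_2 lc_c_rc_20_2 lc_c_rc_24_2 lc_c_rc_26_2 lc_c_rc_22_2 lc_c_rc_25_2) (@D3.rec (fun _ => (Cert rels S Gen.c)) lc_c_rc_26_2 lc_c_rc_22_2 lc_c_Cert_tree lc_c_rc_26_2 lc_c_rc_23_0 lc_c_rc_11_3 lc_c_rc_22_2 lc_c_rc_22_2 lc_c_rc_11_3 lc_c_rc_11_3 lc_c_rc_25_2 lc_c_rc_26_2 lc_c_rc_22_2 lc_c_rc_26_2 lc_c_rc_26_2 lc_c_rc_22_2 lc_c_Cert_tree lc_c_rc_26_2 lc_c_rc_22_2 lc_c_rc_26_2 lc_c_rc_22_2 lc_c_rc_23_2 lc_c_rc_26_2 lc_c_rc_22_2 lc_c_rc_22_2 lc_c_rc_26_2 lc_c_rc_22_2 lc_c_rc_11_3 lc_c_rc_11_3 lc_c_rc_11_3 lc_c_rc_23_2 lc_c_rc_26_2 lc_c_rc_22_2 lc_c_rc_20_2 lc_c_rc_21_2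 lc_c_rc_21_2 lc_c_rc_22_2 lc_c_Cert_tree lc_c_rc_2_1 lc_c_rc_2_1 lc_c_rc_2_1 lc_c_rc_56_37 lc_c_rc_21_2 lc_c_rc_11_3 lc_c_rc_11_3 lc_c_rc_11_3 lc_c_rc_23_2 lc_c_rc_21_2 lc_c_rc_21_2 lc_c_rc_21_2 lc_c_rc_24_2) (@D3.rec (fun _ => (Cert rels S Gen.c)) lc_c_rc_22_2 lc_c_rc_25_2 lc_c_rc_26_2 lc_c_rc_22_2 lc_c_Cert_tree lc_c_rc_21_2 lc_c_rc_26_2 lc_c_rc_22_2 lc_c_Cert_tree lc_c_rc_19_0 lc_c_rc_2_1 lc_c_rc_2_1 lc_c_rc_2_1 lc_c_rc_11_3 lc_c_rc_11_3 lc_c_rc_22_2 lc_c_rc_25_2 lc_c_rc_21_2 lc_c_rc_20_2 lc_c_rc_22_2 lc_c_rc_2_1 lc_c_rc_2_1 lc_c_rc_11_3 lc_c_rc_11_3 lc_c_Cert_tree lc_c_rc_26_2 lc_c_rc_22_2 lc_c_rc_23_2 lc_c_rc_24_2 lc_c_rc_26_0 lc_c_rc_22_2 lc_c_rc_11_3 lc_c_rc_11_3 lc_c_rc_11_3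 lc_c_rc_19_0 lc_c_rc_22_2 lc_c_rc_24_2 lc_c_rc_24_2 lc_c_rc_21_2 lc_c_rc_26_2 lc_c_rc_22_2 lc_c_rc_11_3 lc_c_rc_11_3 lc_c_rc_20_2 lc_c_rc_26_2 lc_c_rc_22_2 lc_c_rc_22_2 lc_c_rc_2_1 lc_c_rc_21_0 lc_c_rc_11_3 lc_c_rc_11_3) (@D3.rec (fun _ => (Cert rels S Gen.c)) lc_c_rc_22_2 lc_c_rc_20_2 lc_c_rc_22_2 lc_c_rc_22_0 lc_c_rc_20_2 lc_c_rc_19_0 lc_c_rc_26_2 lc_c_rc_26_2 lc_c_rc_22_2 lc_c_rc_22_0 lc_c_rc_23_2 lc_c_rc_22_2 lc_c_rc_20_2 lc_c_rc_26_2 lc_c_rc_20_2 lc_c_rc_23_2 lc_c_rc_24_2 lc_c_rc_19_0 lc_c_rc_20_2 lc_c_rc_21_2 lc_c_rc_2_1 lc_c_rc_23_2 lc_c_rc_21_2 lc_c_rc_21_2 lc_c_rc_23_2 lc_c_rc_22_2 lc_c_rc_22_2 lc_c_rc_23_2 lc_c_rc_23_2 lc_c_rc_26_2 lc_c_rc_11_3 lc_c_rc_21_2 lc_c_rc_11_1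 lc_c_rc_26_2 lc_c_rc_26_2 lc_c_rc_22_2 lc_c_rc_22_2 lc_c_rc_20_2 lc_c_rc_22_2 lc_c_Cert_tree lc_c_rc_19_0 lc_c_rc_21_2 lc_c_rc_23_2 lc_c_rc_19_0 lc_c_rc_11_3 lc_c_rc_23_2 lc_c_rc_2_1 lc_c_rc_24_2 lc_c_Cert_tree lc_c_rc_19_0 lc_c_rc_23_2) (@D3.rec (fun _ => (Cert rels S Gen.c)) lc_c_rc_21_2 lc_c_rc_23_2 lc_c_rc_2_1 lc_c_rc_11_3 lc_c_rc_22_2 lc_c_rc_23_2 lc_c_rc_23_0 lc_c_rc_21_0 lc_c_Cert_tree lc_c_rc_2_1 lc_c_rc_25_2 lc_c_rc_24_2 lc_c_rc_25_2 lc_c_rc_20_2 lc_c_rc_23_2 lc_c_rc_2_1 lc_c_rc_20_4 lc_c_rc_19_0 lc_c_rc_23_2 lc_c_rc_20_2 lc_c_rc_23_2 lc_c_rc_23_0 lc_c_rc_26_2 lc_c_rc_22_2 lc_c_rc_22_2 lc_c_Cert_tree lc_c_rc_22_2 lc_c_rc_22_2 lc_c_rc_22_2 lc_c_rc_55_64 lc_c_rc_22_2 lc_c_Cert_tree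 lc_c_rc_25_2 lc_c_rc_19_0 lc_c_rc_2_3 lc_c_rc_24_2 lc_c_rc_22_2 lc_c_rc_24_2 lc_c_rc_20_2 lc_c_rc_21_2 lc_c_rc_25_2 lc_c_rc_24_0 lc_c_rc_21_2 lc_c_rc_26_2 lc_c_rc_23_2 lc_c_rc_26_2 lc_c_rc_22_2 lc_c_rc_22_0 lc_c_rc_24_2 lc_c_rc_24_2 lc_c_rc_20_2) (@D3.rec (fun _ => (Cert rels S Gen.c)) lc_c_rc_21_2 lc_c_rc_11_3 lc_c_rc_23_2 lc_c_rc_26_2 lc_c_rc_22_2 lc_c_rc_26_2 lc_c_rc_22_2 lc_c_rc_2_1 lc_c_rc_11_3 lc_c_rc_11_3 lc_c_rc_22_2 lc_c_Cert_tree lc_c_rc_23_2 lc_c_rc_23_2 lc_c_Cert_tree lc_c_rc_19_0 lc_c_rc_2_1 lc_c_rc_2_1 lc_c_rc_21_2 lc_c_rc_23_2 lc_c_rc_22_2 lc_c_rc_22_2 lc_c_rc_26_0 lc_c_rc_21_2 lc_c_rc_23_2 lc_c_rc_26_2 lc_c_rc_22_2 lc_c_rc_20_4 lc_c_rc_22_2 lc_c_rc_23_2 lc_c_rc_21_2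 lc_c_rc_21_2 lc_c_rc_23_2 lc_c_rc_22_2 lc_c_rc_23_2 lc_c_rc_23_2 lc_c_rc_22_2 lc_c_rc_26_2 lc_c_rc_22_2 lc_c_rc_20_2 lc_c_rc_26_2 lc_c_rc_23_2 lc_c_rc_26_2 lc_c_rc_22_2 lc_c_rc_11_5 lc_c_rc_26_2 lc_c_rc_22_2 lc_c_rc_23_2 lc_c_rc_25_0 lc_c_rc_25_0 lc_c_Cert_tree) (@D3.rec (fun _ => (Cert rels S Gen.c)) lc_c_rc_26_2 lc_c_rc_22_2 lc_c_rc_20_2 lc_c_rc_22_2 lc_c_rc_20_4 lc_c_rc_19_0 lc_c_rc_23_2 lc_c_rc_2_1 lc_c_Cert_tree lc_c_rc_19_0 lc_c_rc_22_0 lc_c_rc_11_3 lc_c_rc_19_0 lc_c_rc_26_2 lc_c_rc_19_0 lc_c_rc_21_2 lc_c_rc_26_2 lc_c_rc_22_2 lc_c_rc_26_2 lc_c_rc_19_0 lc_c_rc_21_2 lc_c_rc_26_2 lc_c_rc_21_2 lc_c_rc_26_2 lc_c_rc_21_2 lc_c_rc_26_2 lc_c_rc_22_2 lc_c_rc_26_2 lc_c_rc_26_0 lc_c_rc_25_2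 lc_c_rc_22_2 lc_c_rc_22_2 lc_c_rc_23_2 lc_c_rc_21_2 lc_c_rc_20_2 lc_c_Cert_tree lc_c_rc_21_2 lc_c_rc_20_2 lc_c_rc_21_2 lc_c_rc_26_2 lc_c_rc_23_2 lc_c_rc_26_2 lc_c_rc_22_2 lc_c_rc_11_3 lc_c_rc_11_3 lc_c_rc_21_2 lc_c_rc_23_2 lc_c_rc_26_2 lc_c_rc_22_2 lc_c_rc_26_2 lc_c_rc_22_2) (@D3.rec (fun _ => (Cert rels S Gen.c)) lc_c_rc_23_2 lc_c_rc_26_2 lc_c_rc_22_2 lc_c_rc_22_0 lc_c_rc_26_2 lc_c_rc_22_2 lc_c_rc_11_3 lc_c_rc_26_2 lc_c_rc_22_2 lc_c_rc_20_2 lc_c_rc_22_2 lc_c_Cert_tree lc_c_rc_21_0 lc_c_Cert_tree lc_c_rc_21_2 lc_c_rc_19_0 lc_c_rc_24_2 lc_c_rc_23_2 lc_c_Cert_tree lc_c_Cert_tree lc_c_rc_19_0 lc_c_rc_2_1 lc_c_rc_22_2 lc_c_rc_11_3 lc_c_rc_11_3 lc_c_rc_11_3 lc_c_rc_22_2 lc_c_rc_2_3 lc_c_rc_22_2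 lc_c_rc_20_2 lc_c_rc_20_2 lc_c_rc_22_0 lc_c_rc_21_2 lc_c_rc_11_3 lc_c_rc_20_4 lc_c_rc_22_2 lc_c_rc_21_2 lc_c_rc_21_2 lc_c_rc_2_3 lc_c_rc_26_2 lc_c_rc_26_2 lc_c_Cert_tree lc_c_rc_2_1 lc_c_rc_19_0 lc_c_rc_21_2 lc_c_rc_26_2 lc_c_rc_21_2 lc_c_rc_26_2 lc_c_rc_22_0 lc_c_rc_26_2 lc_c_rc_22_2) (@D3.rec (fun _ => (Cert rels S Gen.c)) lc_c_rc_26_2 lc_c_rc_22_2 lc_c_rc_22_2 lc_c_rc_26_2 lc_c_rc_26_0 lc_c_rc_20_2 lc_c_rc_11_1 lc_c_rc_11_1 lc_c_rc_22_0 lc_c_rc_20_4 lc_c_rc_21_0 lc_c_rc_21_2 lc_c_rc_26_2 lc_c_rc_21_2 lc_c_rc_26_2 lc_c_rc_21_2 lc_c_rc_26_2 lc_c_rc_22_2 lc_c_rc_22_2 lc_c_rc_22_2 lc_c_rc_23_2 lc_c_rc_22_2 lc_c_rc_26_2 lc_c_rc_20_2 lc_c_rc_21_2 lc_c_rc_26_2 lc_c_rc_21_2 lc_c_rc_22_2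 lc_c_rc_26_2 lc_c_rc_22_2 lc_c_rc_21_2 lc_c_rc_23_2 lc_c_rc_22_2 lc_c_rc_19_0 lc_c_rc_24_2 lc_c_rc_2_3 lc_c_rc_23_2 lc_c_rc_26_0 lc_c_rc_25_2 lc_c_rc_24_2 lc_c_rc_2_3 lc_c_rc_20_0 lc_c_rc_22_2 lc_c_rc_22_0 lc_c_rc_21_2 lc_c_rc_22_0 lc_c_rc_23_2 lc_c_rc_19_0 lc_c_rc_21_2 lc_c_rc_26_2 lc_c_rc_11_3) (@D3.rec (fun _ => (Cert rels S Gen.c)) lc_c_rc_21_2 lc_c_rc_26_2 lc_c_rc_23_2 lc_c_rc_26_2 lc_c_rc_22_2 lc_c_rc_22_2 lc_c_rc_24_2 lc_c_rc_11_3 lc_c_rc_21_2 lc_c_rc_26_2 lc_c_rc_21_2 lc_c_rc_26_2 lc_c_rc_22_2 lc_c_rc_11_3 lc_c_rc_11_3 lc_c_rc_20_2 lc_c_rc_23_2 lc_c_rc_26_2 lc_c_rc_22_2 lc_c_rc_21_2 lc_c_rc_26_2 lc_c_rc_22_2 lc_c_rc_11_3 lc_c_rc_22_2 lc_c_rc_24_2 lc_c_rc_26_2 lc_c_rc_22_2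 lc_c_rc_11_3 lc_c_rc_26_2 lc_c_rc_22_2 lc_c_rc_20_2 lc_c_rc_11_1 lc_c_rc_23_2 lc_c_rc_22_2 lc_c_Cert_tree lc_c_rc_21_2 lc_c_rc_21_2 lc_c_rc_26_2 lc_c_rc_22_2 lc_c_rc_20_4 lc_c_rc_19_0 lc_c_rc_23_2 lc_c_rc_21_2 lc_c_rc_22_2 lc_c_rc_2_1 lc_c_rc_11_3 lc_c_rc_11_3 lc_c_rc_26_2 lc_c_rc_22_2 lc_c_rc_21_2 lc_c_rc_21_2) (@D3.rec (fun _ => (Cert rels S Gen.c)) lc_c_rc_22_2 lc_c_rc_2_1 lc_c_rc_2_1 lc_c_rc_56_37 lc_c_rc_11_3 lc_c_rc_11_3 lc_c_rc_11_3 lc_c_rc_56_30 lc_c_rc_19_0 lc_c_rc_24_2 lc_c_rc_26_2 lc_c_rc_22_2 lc_c_rc_20_2 lc_c_rc_25_2 lc_c_rc_26_2 lc_c_rc_22_2 lc_c_Cert_tree lc_c_rc_2_1 lc_c_rc_11_3 lc_c_rc_20_2 lc_c_rc_25_2 lc_c_rc_26_2 lc_c_rc_22_2 lc_c_Cert_tree lc_c_rc_2_1 lc_c_rc_11_3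 lc_c_rc_11_3 lc_c_rc_2_3 lc_c_rc_25_2 lc_c_rc_26_2 lc_c_rc_22_2 lc_c_rc_21_2 lc_c_rc_26_2 lc_c_rc_22_2 lc_c_Cert_tree lc_c_rc_19_0 lc_c_rc_20_4 lc_c_rc_2_1 lc_c_rc_26_2 lc_c_rc_22_2 lc_c_rc_23_2 lc_c_rc_22_2 lc_c_rc_20_4 lc_c_rc_11_3 lc_c_rc_20_0 lc_c_rc_22_2 lc_c_Cert_tree lc_c_rc_19_0 lc_c_rc_25_2 lc_c_Cert_tree lc_c_rc_19_0) (@D3.rec (fun _ => (Cert rels S Gen.c)) lc_c_rc_21_2 lc_c_rc_11_3 lc_c_Cert_tree lc_c_rc_19_0 lc_c_rc_2_1 lc_c_rc_11_3 lc_c_rc_20_2 lc_c_rc_20_2 lc_c_rc_2_1 lc_c_rc_2_1 lc_c_rc_11_1 lc_c_rc_19_0 lc_c_rc_11_3 lc_c_rc_22_0 lc_c_rc_21_0 lc_c_rc_22_2 lc_c_rc_20_2 lc_c_rc_21_2 lc_c_rc_2_1 lc_c_rc_22_0 lc_c_rc_21_2 lc_c_rc_21_2 lc_c_rc_23_2 lc_c_rc_2_3 lc_c_rc_2_1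 lc_c_rc_23_2 lc_c_rc_2_1 lc_c_rc_21_2 lc_c_rc_22_2 lc_c_rc_23_0 lc_c_rc_26_2 lc_c_rc_23_0 lc_c_rc_22_2 lc_c_rc_20_2 lc_c_rc_22_2 lc_c_rc_22_2 lc_c_rc_22_2 lc_c_rc_56_51 lc_c_rc_20_2 lc_c_rc_25_2 lc_c_rc_25_0 lc_c_rc_22_2 lc_c_rc_21_2 lc_c_rc_25_2 lc_c_rc_22_2 lc_c_rc_2_1 lc_c_rc_22_2 lc_c_rc_20_2 lc_c_rc_22_2 lc_c_Cert_tree lc_c_rc_25_2) (@D3.rec (fun _ => (Cert rels S Gen.c)) lc_c_rc_19_0 lc_c_rc_22_0 lc_c_rc_21_2 lc_c_rc_22_2 lc_c_rc_22_2 lc_c_rc_11_3 lc_c_rc_22_2 lc_c_rc_56_44 lc_c_rc_26_2 lc_c_rc_22_2 lc_c_rc_11_3 lc_c_rc_26_2 lc_c_rc_22_2 lc_c_rc_22_2 lc_c_rc_22_2 lc_c_rc_2_1 lc_c_rc_22_2 lc_c_rc_23_2 lc_c_rc_22_2 lc_c_rc_11_3 lc_c_rc_22_2 lc_c_rc_20_2 lc_c_Cert_tree lc_c_rc_23_2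 lc_c_rc_19_0 lc_c_Cert_tree lc_c_rc_55_19 lc_c_rc_26_2 lc_c_rc_11_3 lc_c_rc_22_2 lc_c_rc_23_2 lc_c_rc_22_2 lc_c_rc_22_2 lc_c_rc_20_2 lc_c_rc_23_2 lc_c_Cert_tree lc_c_rc_22_2 lc_c_rc_22_2 lc_c_rc_2_1 lc_c_rc_56_30 lc_c_rc_22_2 lc_c_rc_22_2 lc_c_rc_21_0 lc_c_rc_22_2 lc_c_Cert_tree lc_c_rc_21_2 lc_c_rc_25_2 lc_c_rc_25_2 lc_c_rc_19_0 lc_c_rc_19_0 lc_c_rc_11_3) (@D3.rec (fun _ => (Cert rels S Gen.c)) lc_c_rc_23_2 lc_c_rc_23_2 lc_c_rc_11_3 lc_c_rc_21_2 lc_c_rc_23_2 lc_c_rc_21_2 lc_c_rc_22_2 lc_c_rc_23_2 lc_c_rc_2_1 lc_c_rc_19_0 lc_c_rc_21_2 lc_c_rc_26_2 lc_c_rc_24_0 lc_c_rc_26_2 lc_c_rc_23_2 lc_c_rc_24_2 lc_c_rc_22_2 lc_c_rc_22_2 lc_c_rc_22_2 lc_c_rc_23_0 lc_c_rc_24_2 lc_c_rc_20_0 lc_c_rc_23_2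 lc_c_rc_21_2 lc_c_rc_26_2 lc_c_rc_20_0 lc_c_rc_26_2 lc_c_rc_22_2 lc_c_rc_22_2 lc_c_rc_22_2 lc_c_rc_23_2 lc_c_rc_22_2 lc_c_rc_22_2 lc_c_rc_20_2 lc_c_rc_2_3 lc_c_rc_23_2 lc_c_rc_20_2 lc_c_rc_22_2 lc_c_rc_20_2 lc_c_rc_19_0 lc_c_rc_21_2 lc_c_rc_26_2 lc_c_rc_11_3 lc_c_rc_25_2 lc_c_rc_23_2 lc_c_rc_21_2 lc_c_rc_26_2 lc_c_rc_20_0 lc_c_rc_26_2 lc_c_rc_22_2 lc_c_rc_24_2) (@D3.rec (fun _ => (Cert rels S Gen.c)) lc_c_rc_21_0 lc_c_rc_22_2 lc_c_rc_23_2 lc_c_rc_25_0 lc_c_rc_24_2 lc_c_rc_56_37 lc_c_rc_22_2 lc_c_rc_20_2 lc_c_rc_21_2 lc_c_rc_22_2 lc_c_Cert_tree lc_c_rc_20_4 lc_c_rc_25_2 lc_c_rc_20_4 lc_c_rc_23_2 lc_c_rc_11_3 lc_c_rc_23_2 lc_c_rc_20_2 lc_c_rc_26_2 lc_c_rc_22_2 lc_c_rc_20_4 lc_c_rc_20_4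 lc_c_rc_22_2 lc_c_rc_11_3 lc_c_rc_20_2 lc_c_rc_23_2 lc_c_rc_23_2 lc_c_Cert_tree lc_c_rc_2_1 lc_c_rc_11_3 lc_c_rc_11_3 lc_c_rc_26_2 lc_c_rc_22_2 lc_c_rc_21_2 lc_c_rc_22_2 lc_c_rc_22_2 lc_c_rc_19_0 lc_c_rc_25_2 lc_c_Cert_tree lc_c_rc_19_0 lc_c_rc_24_2 lc_c_rc_11_3 lc_c_rc_20_2 lc_c_rc_22_2 lc_c_rc_20_2 lc_c_rc_20_2 lc_c_rc_21_2 lc_c_rc_23_2 lc_c_rc_21_2 lc_c_rc_23_2 lc_c_rc_22_2) (@D3.rec (fun _ => (Cert rels S Gen.c)) lc_c_rc_23_2 lc_c_rc_23_2 lc_c_rc_11_3 lc_c_rc_21_2 lc_c_rc_26_2 lc_c_rc_26_2 lc_c_rc_22_2 lc_c_rc_22_2 lc_c_rc_11_3 lc_c_rc_22_2 lc_c_rc_11_3 lc_c_rc_19_1 lc_c_rc_2_3 lc_c_rc_2_1 lc_c_rc_19_0 lc_c_rc_21_2 lc_c_rc_26_2 lc_c_rc_19_0 lc_c_rc_21_2 lc_c_rc_26_2 lc_c_rc_23_2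 lc_c_rc_21_2 lc_c_rc_26_2 lc_c_rc_23_2 lc_c_rc_26_2 lc_c_rc_22_2 lc_c_rc_26_2 lc_c_rc_22_2 lc_c_rc_24_2 lc_c_rc_23_2 lc_c_rc_26_2 lc_c_rc_22_2 lc_c_rc_26_2 lc_c_rc_22_2 lc_c_rc_22_2 lc_c_rc_22_2 lc_c_rc_20_2 lc_c_Cert_tree lc_c_rc_20_4 lc_c_rc_23_2 lc_c_rc_21_2 lc_c_rc_26_2 lc_c_rc_56_37 lc_c_rc_26_2 lc_c_rc_22_2 lc_c_rc_22_0 lc_c_rc_11_3 lc_c_rc_11_3 lc_c_rc_23_2 lc_c_rc_26_2 lc_c_rc_22_2) (@D3.rec (fun _ => (Cert rels S Gen.c)) lc_c_rc_26_2 lc_c_rc_22_2 lc_c_rc_22_2 lc_c_rc_25_2 lc_c_rc_24_2 lc_c_rc_24_2 lc_c_rc_11_3 lc_c_rc_26_2 lc_c_rc_22_2 lc_c_rc_20_2 lc_c_rc_22_2 lc_c_Cert_tree lc_c_rc_22_2 lc_c_rc_11_3 lc_c_Cert_tree lc_c_Cert_tree lc_c_rc_2_1 lc_c_rc_19_0 lc_c_rc_24_2 lc_c_rc_23_2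 lc_c_Cert_tree lc_c_rc_19_0 lc_c_rc_11_3 lc_c_rc_22_2 lc_c_rc_22_2 lc_c_rc_11_3 lc_c_rc_20_2 lc_c_rc_2_1 lc_c_Cert_tree lc_c_rc_21_2 lc_c_rc_19_0 lc_c_rc_11_1 lc_c_rc_19_0 lc_c_rc_21_2 lc_c_rc_26_2 lc_c_rc_22_2 lc_c_rc_21_2 lc_c_rc_26_2 lc_c_rc_23_2 lc_c_rc_26_2 lc_c_rc_22_2 lc_c_rc_21_2 lc_c_rc_23_2 lc_c_rc_21_2 lc_c_rc_26_2 lc_c_rc_2_1 lc_c_rc_26_2 lc_c_rc_22_2 lc_c_rc_21_2 lc_c_rc_23_2 lc_c_rc_20_2)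
def ce_c_15 : D2 → D3 → (Cert rels S Gen.c) := @D2.rec (fun _ => D3 → (Cert rels S Gen.c)) (@D3.rec (fun _ => (Cert rels S Gen.c)) lc_c_rc_23_2 lc_c_rc_26_2 lc_c_rc_22_2 lc_c_rc_19_1 lc_c_rc_26_2 lc_c_rc_22_2 lc_c_rc_22_2 lc_c_rc_25_2 lc_c_rc_24_2 lc_c_rc_22_2 lc_c_rc_26_2 lc_c_rc_22_2 lc_c_rc_20_2 lc_c_rc_24_2 lc_c_rc_22_2 lc_c_Cert_tree lc_c_rc_20_2 lc_c_rc_11_3 lc_c_rc_21_2 lc_c_rc_24_2 lc_c_rc_21_2 lc_c_rc_19_0 lc_c_rc_20_4 lc_c_rc_11_3 lc_c_rc_11_3 lc_c_rc_20_2 lc_c_rc_23_2 lc_c_rc_26_2 lc_c_rc_22_2 lc_c_rc_26_2 lc_c_rc_22_2 lc_c_rc_11_1 lc_c_rc_25_0 lc_c_rc_20_2 lc_c_rc_21_2 lc_c_rc_11_3 lc_c_rc_22_2 lc_c_rc_20_2 lc_c_rc_20_0 lc_c_rc_20_2 lc_c_rc_24_2 lc_c_rc_26_2 lc_c_rc_22_2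 lc_c_rc_20_2 lc_c_rc_19_1 lc_c_rc_26_2 lc_c_rc_22_2 lc_c_Cert_tree lc_c_rc_26_2 lc_c_rc_22_2 lc_c_rc_20_2) (@D3.rec (fun _ => (Cert rels S Gen.c)) lc_c_rc_22_2 lc_c_rc_21_2 lc_c_rc_20_2 lc_c_rc_23_2 lc_c_rc_22_2 lc_c_rc_21_0 lc_c_rc_26_2 lc_c_rc_22_2 lc_c_Cert_tree lc_c_rc_21_2 lc_c_rc_24_0 lc_c_rc_22_2 lc_c_Cert_tree lc_c_rc_19_0 lc_c_rc_20_2 lc_c_rc_20_2 lc_c_rc_22_2 lc_c_rc_19_1 lc_c_rc_19_0 lc_c_rc_22_2 lc_c_rc_21_2 lc_c_rc_24_2 lc_c_rc_24_2 lc_c_rc_23_2 lc_c_Cert_tree lc_c_rc_19_0 lc_c_rc_21_2 lc_c_rc_11_3 lc_c_rc_19_0 lc_c_rc_22_2 lc_c_rc_20_2 lc_c_rc_22_2 lc_c_rc_20_2 lc_c_rc_19_0 lc_c_rc_2_1 lc_c_rc_2_1 lc_c_rc_24_0 lc_c_rc_20_2 lc_c_rc_11_3 lc_c_rc_20_2 lc_c_rc_21_0 lc_c_rc_22_2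 lc_c_Cert_tree lc_c_rc_21_2 lc_c_rc_19_0 lc_c_rc_23_2 lc_c_rc_2_1 lc_c_rc_24_2 lc_c_rc_56_16 lc_c_rc_23_2 lc_c_rc_21_2) (@D3.rec (fun _ => (Cert rels S Gen.c)) lc_c_rc_26_2 lc_c_rc_26_2 lc_c_rc_22_2 lc_c_rc_26_2 lc_c_rc_22_2 lc_c_rc_22_2 lc_c_rc_20_2 lc_c_rc_22_0 lc_c_rc_24_2 lc_c_rc_21_2 lc_c_rc_25_2 lc_c_rc_21_2 lc_c_rc_21_2 lc_c_rc_25_2 lc_c_rc_23_2 lc_c_rc_21_2 lc_c_rc_21_2 lc_c_rc_23_2 lc_c_rc_20_4 lc_c_rc_21_0 lc_c_rc_21_2 lc_c_rc_26_2 lc_c_rc_20_4 lc_c_rc_26_2 lc_c_rc_22_2 lc_c_rc_22_2 lc_c_rc_24_2 lc_c_rc_21_2 lc_c_rc_21_2 lc_c_rc_25_2 lc_c_rc_21_2 lc_c_rc_21_2 lc_c_rc_23_2 lc_c_rc_21_2 lc_c_rc_23_2 lc_c_rc_2_3 lc_c_rc_21_2 lc_c_rc_26_2 lc_c_rc_22_0 lc_c_rc_26_2 lc_c_rc_22_2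 lc_c_rc_26_2 lc_c_rc_22_2 lc_c_rc_21_2 lc_c_rc_22_2 lc_c_rc_11_3 lc_c_rc_11_3 lc_c_rc_20_2 lc_c_rc_26_2 lc_c_rc_22_2 lc_c_rc_22_0) (@D3.rec (fun _ => (Cert rels S Gen.c)) lc_c_rc_21_2 lc_c_rc_22_2 lc_c_Cert_tree lc_c_rc_55_19 lc_c_rc_23_0 lc_c_rc_22_2 lc_c_rc_22_0 lc_c_rc_26_0 lc_c_Cert_tree lc_c_rc_19_0 lc_c_rc_26_0 lc_c_rc_20_4 lc_c_rc_11_1 lc_c_rc_22_0 lc_c_rc_22_2 lc_c_rc_22_0 lc_c_rc_19_0 lc_c_rc_21_2 lc_c_rc_21_2 lc_c_rc_22_2 lc_c_rc_21_2 lc_c_rc_26_2 lc_c_rc_26_2 lc_c_rc_26_2 lc_c_rc_22_2 lc_c_rc_21_2 lc_c_rc_26_2 lc_c_rc_21_2 lc_c_rc_26_2 lc_c_rc_26_2 lc_c_rc_22_2 lc_c_rc_20_2 lc_c_rc_26_2 lc_c_rc_22_2 lc_c_rc_22_2 lc_c_rc_22_2 lc_c_rc_20_2 lc_c_rc_23_0 lc_c_rc_20_2 lc_c_rc_21_2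 lc_c_rc_26_2 lc_c_rc_23_2 lc_c_rc_26_2 lc_c_rc_22_2 lc_c_rc_21_2 lc_c_rc_26_2 lc_c_rc_19_0 lc_c_rc_21_2 lc_c_rc_20_2 lc_c_rc_21_2 lc_c_rc_21_2) (@D3.rec (fun _ => (Cert rels S Gen.c)) lc_c_rc_22_2 lc_c_rc_26_2 lc_c_rc_21_2 lc_c_rc_26_2 lc_c_Cert_tree lc_c_rc_19_0 lc_c_rc_21_2 lc_c_rc_26_2 lc_c_rc_23_2 lc_c_rc_26_2 lc_c_rc_22_2 lc_c_rc_21_2 lc_c_rc_23_2 lc_c_rc_26_2 lc_c_rc_22_2 lc_c_rc_24_2 lc_c_rc_26_2 lc_c_rc_22_2 lc_c_Cert_tree lc_c_rc_21_2 lc_c_rc_23_2 lc_c_rc_23_2 lc_c_rc_21_2 lc_c_rc_21_2 lc_c_rc_26_2 lc_c_rc_22_2 lc_c_rc_22_2 lc_c_Cert_tree lc_c_rc_24_2 lc_c_rc_26_2 lc_c_rc_22_2 lc_c_rc_26_2 lc_c_rc_22_2 lc_c_Cert_tree lc_c_rc_22_2 lc_c_Cert_tree lc_c_Cert_tree lc_c_rc_19_0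 lc_c_rc_19_0 lc_c_rc_24_2 lc_c_Cert_tree lc_c_rc_19_0 lc_c_rc_19_0 lc_c_rc_21_2 lc_c_rc_26_2 lc_c_rc_26_2 lc_c_rc_56_44 lc_c_rc_2_1 lc_c_rc_19_0 lc_c_rc_26_2 lc_c_rc_26_2) (@D3.rec (fun _ => (Cert rels S Gen.c)) lc_c_rc_22_2 lc_c_rc_20_4 lc_c_rc_20_2 lc_c_rc_11_3 lc_c_rc_21_2 lc_c_rc_26_2 lc_c_rc_23_2 lc_c_rc_26_2 lc_c_rc_22_2 lc_c_rc_2_1 lc_c_rc_11_3 lc_c_rc_11_3 lc_c_rc_20_2 lc_c_rc_23_2 lc_c_rc_26_2 lc_c_rc_22_2 lc_c_rc_24_2 lc_c_rc_26_2 lc_c_rc_22_2 lc_c_rc_21_2 lc_c_rc_26_2 lc_c_rc_23_2 lc_c_rc_26_2 lc_c_rc_22_2 lc_c_rc_11_3 lc_c_rc_11_3 lc_c_rc_23_2 lc_c_rc_26_2 lc_c_rc_22_2 lc_c_rc_24_2 lc_c_rc_26_2 lc_c_rc_22_2 lc_c_rc_56_16 lc_c_rc_11_3 lc_c_rc_11_3 lc_c_rc_20_2 lc_c_rc_22_2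 lc_c_rc_20_2 lc_c_rc_24_2 lc_c_rc_26_2 lc_c_rc_22_2 lc_c_rc_2_3 lc_c_rc_26_2 lc_c_rc_22_2 lc_c_Cert_tree lc_c_rc_11_3 lc_c_rc_24_2 lc_c_rc_26_2 lc_c_rc_22_2 lc_c_rc_23_0 lc_c_rc_26_2) (@D3.rec (fun _ => (Cert rels S Gen.c)) lc_c_rc_22_2 lc_c_Cert_tree lc_c_rc_25_2 lc_c_rc_26_2 lc_c_rc_22_2 lc_c_rc_19_0 lc_c_rc_26_2 lc_c_rc_22_2 lc_c_Cert_tree lc_c_rc_19_0 lc_c_rc_26_2 lc_c_rc_22_2 lc_c_rc_22_2 lc_c_Cert_tree lc_c_rc_19_0 lc_c_rc_23_0 lc_c_rc_21_2 lc_c_rc_11_3 lc_c_rc_24_2 lc_c_rc_23_2 lc_c_rc_26_2 lc_c_rc_22_2 lc_c_rc_24_2 lc_c_rc_26_2 lc_c_rc_22_2 lc_c_rc_2_1 lc_c_rc_2_1 lc_c_rc_19_0 lc_c_rc_21_2 lc_c_rc_11_3 lc_c_rc_11_3 lc_c_rc_20_2 lc_c_rc_22_2 lc_c_rc_20_2 lc_c_rc_24_2 lc_c_rc_26_2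 lc_c_rc_22_2 lc_c_rc_20_2 lc_c_rc_25_2 lc_c_rc_26_2 lc_c_rc_22_2 lc_c_Cert_tree lc_c_rc_2_1 lc_c_rc_2_1 lc_c_rc_23_2 lc_c_rc_21_2 lc_c_rc_21_2 lc_c_rc_11_3 lc_c_rc_11_3 lc_c_rc_24_2 lc_c_rc_23_2) (@D3.rec (fun _ => (Cert rels S Gen.c)) lc_c_rc_22_2 lc_c_rc_20_2 lc_c_rc_20_0 lc_c_rc_22_2 lc_c_rc_25_2 lc_c_rc_26_2 lc_c_rc_22_2 lc_c_Cert_tree lc_c_rc_21_2 lc_c_rc_26_2 lc_c_rc_22_2 lc_c_Cert_tree lc_c_rc_19_0 lc_c_rc_2_1 lc_c_rc_26_2 lc_c_rc_22_2 lc_c_rc_25_2 lc_c_rc_25_2 lc_c_rc_26_2 lc_c_rc_22_2 lc_c_Cert_tree lc_c_rc_20_0 lc_c_rc_26_2 lc_c_rc_22_2 lc_c_Cert_tree lc_c_rc_19_0 lc_c_rc_21_0 lc_c_rc_23_2 lc_c_rc_11_3 lc_c_rc_20_4 lc_c_rc_26_2 lc_c_rc_22_2 lc_c_Cert_tree lc_c_rc_19_0 lc_c_rc_19_0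 lc_c_rc_23_2 lc_c_rc_22_2 lc_c_Cert_tree lc_c_rc_19_0 lc_c_rc_21_2 lc_c_rc_11_3 lc_c_rc_26_2 lc_c_rc_22_2 lc_c_rc_22_2 lc_c_rc_24_2 lc_c_rc_55_55 lc_c_Cert_tree lc_c_rc_19_0 lc_c_rc_2_1 lc_c_rc_24_2 lc_c_Cert_tree) (@D3.rec (fun _ => (Cert rels S Gen.c)) lc_c_rc_19_0 lc_c_rc_21_2 lc_c_rc_11_3 lc_c_Cert_tree lc_c_rc_19_0 lc_c_rc_21_2 lc_c_rc_11_3 lc_c_rc_21_2 lc_c_rc_2_1 lc_c_rc_19_0 lc_c_rc_24_2 lc_c_rc_20_2 lc_c_rc_25_2 lc_c_rc_22_2 lc_c_rc_21_2 lc_c_rc_22_2 lc_c_rc_21_2 lc_c_rc_22_2 lc_c_Cert_tree lc_c_rc_19_0 lc_c_rc_21_2 lc_c_rc_21_2 lc_c_rc_22_2 lc_c_rc_11_3 lc_c_rc_22_2 lc_c_rc_2_1 lc_c_rc_11_3 lc_c_rc_11_3 lc_c_rc_20_2 lc_c_rc_22_2 lc_c_rc_20_2 lc_c_rc_21_0 lc_c_rc_21_2 lc_c_rc_22_2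 lc_c_Cert_tree lc_c_rc_19_0 lc_c_rc_21_2 lc_c_rc_21_2 lc_c_rc_23_2 lc_c_rc_11_3 lc_c_rc_22_2 lc_c_rc_20_2 lc_c_rc_26_2 lc_c_rc_23_2 lc_c_rc_21_2 lc_c_rc_21_2 lc_c_rc_23_2 lc_c_rc_21_2 lc_c_rc_21_2 lc_c_rc_23_2 lc_c_rc_21_2) (@D3.rec (fun _ => (Cert rels S Gen.c)) lc_c_rc_22_2 lc_c_rc_26_2 lc_c_rc_25_0 lc_c_rc_26_2 lc_c_rc_22_2 lc_c_rc_22_2 lc_c_rc_11_3 lc_c_rc_11_3 lc_c_rc_11_3 lc_c_rc_20_2 lc_c_rc_20_2 lc_c_rc_24_2 lc_c_rc_26_2 lc_c_rc_22_2 lc_c_rc_26_2 lc_c_rc_22_2 lc_c_Cert_tree lc_c_rc_11_3 lc_c_rc_11_3 lc_c_rc_11_3 lc_c_rc_26_2 lc_c_rc_22_2 lc_c_rc_20_2 lc_c_rc_22_2 lc_c_rc_11_1 lc_c_rc_22_2 lc_c_rc_20_2 lc_c_rc_22_2 lc_c_rc_22_2 lc_c_rc_21_2 lc_c_rc_26_2 lc_c_rc_26_2 lc_c_rc_22_2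 lc_c_rc_20_4 lc_c_rc_22_2 lc_c_rc_21_2 lc_c_rc_22_2 lc_c_rc_21_2 lc_c_rc_2_1 lc_c_rc_11_3 lc_c_rc_11_3 lc_c_rc_22_2 lc_c_rc_20_2 lc_c_Cert_tree lc_c_rc_2_1 lc_c_rc_11_3 lc_c_rc_20_2 lc_c_rc_2_1 lc_c_rc_11_3 lc_c_rc_2_1 lc_c_rc_22_0) (@D3.rec (fun _ => (Cert rels S Gen.c)) lc_c_rc_21_2 lc_c_rc_2_1 lc_c_rc_20_2 lc_c_rc_21_2 lc_c_rc_23_2 lc_c_rc_21_2 lc_c_rc_23_2 lc_c_rc_21_2 lc_c_rc_24_2 lc_c_rc_26_2 lc_c_rc_22_2 lc_c_rc_22_2 lc_c_rc_22_2 lc_c_rc_19_0 lc_c_rc_26_0 lc_c_rc_21_2 lc_c_rc_26_2 lc_c_rc_23_2 lc_c_rc_26_2 lc_c_rc_22_2 lc_c_rc_21_2 lc_c_rc_25_2 lc_c_rc_21_2 lc_c_rc_23_2 lc_c_rc_26_2 lc_c_rc_22_2 lc_c_rc_26_2 lc_c_rc_22_2 lc_c_rc_22_2 lc_c_rc_21_2 lc_c_rc_23_2 lc_c_rc_22_0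 lc_c_rc_21_2 lc_c_rc_26_2 lc_c_rc_22_2 lc_c_rc_23_2 lc_c_rc_22_2 lc_c_Cert_tree lc_c_rc_25_2 lc_c_rc_26_2 lc_c_rc_22_2 lc_c_rc_19_0 lc_c_rc_22_2 lc_c_rc_2_1 lc_c_rc_22_2 lc_c_rc_20_2 lc_c_rc_19_0 lc_c_rc_11_1 lc_c_rc_11_3 lc_c_rc_22_2 lc_c_rc_11_3) (@D3.rec (fun _ => (Cert rels S Gen.c)) lc_c_rc_20_2 lc_c_rc_22_2 lc_c_rc_23_2 lc_c_rc_2_1 lc_c_rc_26_2 lc_c_rc_11_3 lc_c_rc_2_1 lc_c_rc_22_2 lc_c_rc_20_2 lc_c_rc_21_2 lc_c_rc_2_1 lc_c_rc_2_1 lc_c_rc_21_2 lc_c_rc_11_3 lc_c_rc_23_2 lc_c_rc_2_1 lc_c_rc_11_3 lc_c_rc_11_3 lc_c_rc_20_2 lc_c_rc_26_2 lc_c_rc_22_2 lc_c_rc_22_2 lc_c_rc_21_2 lc_c_rc_26_2 lc_c_rc_26_2 lc_c_rc_22_2 lc_c_rc_11_3 lc_c_rc_11_3 lc_c_rc_20_2 lc_c_rc_26_2 lc_c_rc_22_2 lc_c_rc_22_2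 lc_c_rc_23_0 lc_c_rc_11_3 lc_c_rc_11_3 lc_c_rc_11_3 lc_c_rc_20_2 lc_c_rc_22_2 lc_c_rc_20_2 lc_c_rc_26_2 lc_c_rc_22_2 lc_c_rc_23_2 lc_c_rc_21_2 lc_c_rc_22_2 lc_c_Cert_tree lc_c_rc_11_3 lc_c_rc_19_1 lc_c_rc_11_3 lc_c_rc_11_3 lc_c_rc_20_2 lc_c_rc_22_2) (@D3.rec (fun _ => (Cert rels S Gen.c)) lc_c_rc_2_1 lc_c_rc_2_1 lc_c_rc_23_2 lc_c_rc_26_2 lc_c_rc_22_2 lc_c_rc_26_2 lc_c_rc_22_2 lc_c_rc_11_3 lc_c_rc_11_3 lc_c_rc_11_3 lc_c_rc_20_2 lc_c_rc_22_2 lc_c_rc_20_2 lc_c_rc_26_2 lc_c_rc_22_2 lc_c_rc_22_2 lc_c_rc_22_2 lc_c_Cert_tree lc_c_rc_2_1 lc_c_rc_2_1 lc_c_rc_2_1 lc_c_rc_20_4 lc_c_rc_20_0 lc_c_rc_26_2 lc_c_rc_11_3 lc_c_rc_11_3 lc_c_rc_11_3 lc_c_rc_26_0 lc_c_rc_21_0 lc_c_rc_20_2 lc_c_rc_20_2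 lc_c_rc_20_0 lc_c_rc_22_2 lc_c_rc_25_2 lc_c_rc_26_2 lc_c_rc_22_2 lc_c_Cert_tree lc_c_rc_21_2 lc_c_rc_26_2 lc_c_rc_22_2 lc_c_Cert_tree lc_c_rc_19_0 lc_c_rc_2_1 lc_c_rc_2_1 lc_c_rc_2_1 lc_c_rc_11_3 lc_c_rc_11_3 lc_c_rc_20_2 lc_c_rc_22_2 lc_c_rc_2_3 lc_c_rc_19_1) (@D3.rec (fun _ => (Cert rels S Gen.c)) lc_c_rc_2_1 lc_c_rc_2_1 lc_c_rc_11_3 lc_c_rc_11_3 lc_c_rc_11_3 lc_c_rc_26_2 lc_c_rc_22_2 lc_c_rc_2_3 lc_c_rc_23_2 lc_c_rc_22_2 lc_c_rc_20_2 lc_c_rc_11_3 lc_c_rc_11_3 lc_c_rc_22_2 lc_c_rc_20_2 lc_c_rc_20_2 lc_c_rc_20_2 lc_c_rc_24_0 lc_c_rc_22_2 lc_c_rc_21_0 lc_c_rc_20_2 lc_c_rc_24_2 lc_c_rc_22_2 lc_c_rc_22_0 lc_c_rc_22_0 lc_c_rc_22_2 lc_c_rc_22_2 lc_c_rc_21_2 lc_c_rc_23_2 lc_c_rc_23_2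 lc_c_rc_20_2 lc_c_rc_21_2 lc_c_rc_21_2 lc_c_rc_20_2 lc_c_rc_20_2 lc_c_rc_21_2 lc_c_rc_23_2 lc_c_rc_20_2 lc_c_rc_21_2 lc_c_rc_20_2 lc_c_rc_21_2 lc_c_rc_23_2 lc_c_rc_19_1 lc_c_rc_21_2 lc_c_rc_25_2 lc_c_rc_25_2 lc_c_rc_23_2 lc_c_rc_21_2 lc_c_rc_23_2 lc_c_rc_20_4 lc_c_rc_20_4) (@D3.rec (fun _ => (Cert rels S Gen.c)) lc_c_rc_26_2 lc_c_rc_22_2 lc_c_rc_22_2 lc_c_rc_20_2 lc_c_rc_21_2 lc_c_rc_11_3 lc_c_rc_20_2 lc_c_rc_21_2 lc_c_rc_21_2 lc_c_rc_20_2 lc_c_rc_26_2 lc_c_rc_22_2 lc_c_rc_22_2 lc_c_rc_20_2 lc_c_rc_2_1 lc_c_rc_21_2 lc_c_rc_22_2 lc_c_rc_20_2 lc_c_rc_11_1 lc_c_rc_20_2 lc_c_rc_26_2 lc_c_rc_22_2 lc_c_rc_20_2 lc_c_rc_22_2 lc_c_Cert_tree lc_c_rc_22_2 lc_c_rc_20_2 lc_c_rc_21_2 lc_c_rc_2_1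 lc_c_rc_21_2 lc_c_rc_23_2 lc_c_rc_21_0 lc_c_rc_22_2 lc_c_rc_20_2 lc_c_rc_21_2 lc_c_rc_23_2 lc_c_rc_24_2 lc_c_rc_20_2 lc_c_rc_26_2 lc_c_rc_22_2 lc_c_rc_22_2 lc_c_rc_20_2 lc_c_rc_2_1 lc_c_rc_11_1 lc_c_rc_20_0 lc_c_rc_21_2 lc_c_rc_22_2 lc_c_rc_20_2 lc_c_Cert_tree lc_c_rc_21_2 lc_c_rc_21_2) (@D3.rec (fun _ => (Cert rels S Gen.c)) lc_c_rc_23_2 lc_c_rc_21_2 lc_c_rc_23_2 lc_c_rc_22_2 lc_c_rc_20_2 lc_c_rc_22_2 lc_c_rc_20_2 lc_c_Cert_tree lc_c_rc_20_2 lc_c_rc_21_2 lc_c_rc_21_2 lc_c_rc_26_2 lc_c_rc_22_2 lc_c_rc_21_2 lc_c_rc_22_2 lc_c_rc_11_3 lc_c_rc_22_2 lc_c_rc_22_2 lc_c_rc_22_2 lc_c_Cert_tree lc_c_rc_21_2 lc_c_rc_23_2 lc_c_rc_21_2 lc_c_rc_11_3 lc_c_rc_11_3 lc_c_rc_20_2 lc_c_rc_24_0 lc_c_rc_22_2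 lc_c_rc_26_2 lc_c_rc_22_2 lc_c_Cert_tree lc_c_rc_21_2 lc_c_rc_2_1 lc_c_rc_22_2 lc_c_Cert_tree lc_c_rc_19_0 lc_c_rc_20_4 lc_c_rc_20_4 lc_c_rc_11_3 lc_c_rc_19_0 lc_c_rc_24_2 lc_c_rc_22_2 lc_c_rc_20_2 lc_c_rc_23_2 lc_c_rc_24_2 lc_c_rc_20_2 lc_c_rc_23_2 lc_c_rc_21_2 lc_c_rc_23_2 lc_c_rc_22_2 lc_c_rc_22_0) (@D3.rec (fun _ => (Cert rels S Gen.c)) lc_c_rc_21_2 lc_c_rc_24_0 lc_c_rc_20_4 lc_c_rc_20_4 lc_c_rc_23_2 lc_c_rc_22_0 lc_c_rc_24_2 lc_c_rc_23_2 lc_c_rc_24_2 lc_c_rc_24_2 lc_c_rc_21_2 lc_c_Cert_tree lc_c_rc_21_2 lc_c_rc_24_2 lc_c_rc_24_2 lc_c_rc_21_2 lc_c_rc_21_2 lc_c_Cert_tree lc_c_rc_23_2 lc_c_rc_26_2 lc_c_rc_22_2 lc_c_rc_21_2 lc_c_rc_26_2 lc_c_rc_22_2 lc_c_rc_21_2 lc_c_rc_19_1 lc_c_rc_20_0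 lc_c_rc_20_2 lc_c_rc_19_1 lc_c_rc_26_2 lc_c_rc_22_2 lc_c_rc_55_46 lc_c_rc_22_2 lc_c_Cert_tree lc_c_rc_56_30 lc_c_rc_55_55 lc_c_rc_21_2 lc_c_rc_11_3 lc_c_rc_20_2 lc_c_rc_22_2 lc_c_rc_22_2 lc_c_Cert_tree lc_c_Cert_tree lc_c_rc_19_0 lc_c_rc_23_2 lc_c_rc_21_2 lc_c_rc_22_2 lc_c_rc_20_2 lc_c_rc_22_2 lc_c_rc_23_2 lc_c_rc_21_2) (@D3.rec (fun _ => (Cert rels S Gen.c)) lc_c_rc_23_2 lc_c_rc_22_2 lc_c_rc_2_3 lc_c_rc_26_2 lc_c_rc_22_2 lc_c_rc_22_2 lc_c_rc_21_2 lc_c_Cert_tree lc_c_rc_26_2 lc_c_rc_22_2 lc_c_rc_23_2 lc_c_rc_22_2 lc_c_rc_21_2 lc_c_rc_23_2 lc_c_rc_22_2 lc_c_Cert_tree lc_c_rc_21_2 lc_c_rc_23_2 lc_c_rc_21_2 lc_c_rc_21_2 lc_c_rc_21_2 lc_c_rc_22_2 lc_c_Cert_tree lc_c_rc_19_0 lc_c_rc_22_2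 lc_c_rc_22_2 lc_c_rc_22_2 lc_c_rc_21_2 lc_c_rc_2_1 lc_c_rc_23_0 lc_c_rc_11_3 lc_c_rc_11_3 lc_c_rc_22_2 lc_c_rc_20_2 lc_c_rc_22_2 lc_c_rc_20_2 lc_c_Cert_tree lc_c_rc_23_2 lc_c_rc_26_2 lc_c_rc_22_2 lc_c_rc_26_2 lc_c_rc_22_2 lc_c_rc_11_3 lc_c_rc_11_3 lc_c_rc_2_3 lc_c_rc_22_2 lc_c_Cert_tree lc_c_rc_21_2 lc_c_rc_23_2 lc_c_rc_19_0 lc_c_rc_20_4) (@D3.rec (fun _ => (Cert rels S Gen.c)) lc_c_rc_26_2 lc_c_rc_11_3 lc_c_rc_11_3 lc_c_rc_20_2 lc_c_rc_22_2 lc_c_rc_20_2 lc_c_rc_26_2 lc_c_rc_22_2 lc_c_rc_25_2 lc_c_rc_26_2 lc_c_rc_22_2 lc_c_Cert_tree lc_c_rc_26_2 lc_c_rc_22_2 lc_c_Cert_tree lc_c_rc_19_0 lc_c_rc_22_2 lc_c_rc_23_0 lc_c_rc_19_1 lc_c_rc_11_3 lc_c_Cert_tree lc_c_rc_26_2 lc_c_rc_22_2 lc_c_rc_23_2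 lc_c_rc_22_2 lc_c_rc_19_0 lc_c_rc_22_2 lc_c_rc_19_1 lc_c_rc_26_2 lc_c_rc_22_2 lc_c_rc_20_2 lc_c_rc_22_2 lc_c_Cert_tree lc_c_rc_11_3 lc_c_rc_11_3 lc_c_rc_23_2 lc_c_rc_22_2 lc_c_Cert_tree lc_c_rc_21_2 lc_c_rc_21_2 lc_c_rc_22_2 lc_c_Cert_tree lc_c_rc_19_0 lc_c_rc_2_1 lc_c_rc_2_1 lc_c_rc_21_2 lc_c_rc_21_2 lc_c_rc_11_3 lc_c_rc_11_3 lc_c_Cert_tree lc_c_rc_21_2) (@D3.rec (fun _ => (Cert rels S Gen.c)) lc_c_rc_21_2 lc_c_rc_21_2 lc_c_rc_22_2 lc_c_rc_24_2 lc_c_Cert_tree lc_c_rc_26_2 lc_c_rc_22_2 lc_c_Cert_tree lc_c_rc_19_0 lc_c_rc_21_2 lc_c_rc_21_2 lc_c_rc_22_2 lc_c_Cert_tree lc_c_rc_19_0 lc_c_rc_11_3 lc_c_rc_2_1 lc_c_rc_2_1 lc_c_rc_11_3 lc_c_Cert_tree lc_c_rc_23_2 lc_c_rc_19_1 lc_c_rc_22_2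 lc_c_rc_22_2 lc_c_rc_2_1 lc_c_rc_11_3 lc_c_Cert_tree lc_c_rc_19_0 lc_c_rc_22_2 lc_c_rc_23_2 lc_c_rc_21_2 lc_c_rc_23_2 lc_c_rc_11_3 lc_c_rc_19_1 lc_c_rc_20_2 lc_c_rc_24_2 lc_c_rc_20_2 lc_c_rc_11_3 lc_c_rc_11_3 lc_c_rc_20_2 lc_c_rc_22_2 lc_c_rc_2_1 lc_c_rc_24_0 lc_c_rc_11_3 lc_c_Cert_tree lc_c_rc_26_2 lc_c_rc_22_2 lc_c_rc_20_2 lc_c_rc_22_0 lc_c_rc_22_2 lc_c_rc_26_2 lc_c_rc_22_2) (@D3.rec (fun _ => (Cert rels S Gen.c)) lc_c_rc_26_2 lc_c_rc_20_2 lc_c_rc_20_2 lc_c_rc_23_2 lc_c_rc_23_2 lc_c_rc_11_3 lc_c_rc_22_0 lc_c_rc_21_0 lc_c_rc_22_2 lc_c_rc_22_2 lc_c_rc_20_2 lc_c_rc_20_2 lc_c_rc_21_0 lc_c_rc_19_0 lc_c_rc_21_2 lc_c_rc_55_46 lc_c_rc_21_2 lc_c_rc_23_2 lc_c_rc_21_2 lc_c_rc_23_2 lc_c_rc_19_0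 lc_c_rc_21_2 lc_c_rc_21_2 lc_c_rc_21_2 lc_c_rc_22_2 lc_c_Cert_tree lc_c_rc_19_0 lc_c_rc_25_2 lc_c_rc_25_2 lc_c_rc_23_2 lc_c_rc_22_2 lc_c_Cert_tree lc_c_rc_19_0 lc_c_rc_20_2 lc_c_rc_22_2 lc_c_rc_25_2 lc_c_rc_19_0 lc_c_rc_11_3 lc_c_rc_55_46 lc_c_rc_2_3 lc_c_rc_20_2 lc_c_rc_24_2 lc_c_rc_24_2 lc_c_rc_21_2 lc_c_rc_2_1 lc_c_rc_26_2 lc_c_rc_25_2 lc_c_rc_23_2 lc_c_rc_26_2 lc_c_rc_22_2 lc_c_rc_26_2) (@D3.rec (fun _ => (Cert rels S Gen.c)) lc_c_rc_22_2 lc_c_rc_24_2 lc_c_rc_24_2 lc_c_rc_20_2 lc_c_rc_23_2 lc_c_rc_21_2 lc_c_rc_11_3 lc_c_rc_26_2 lc_c_rc_22_2 lc_c_rc_22_2 lc_c_Cert_tree lc_c_rc_2_1 lc_c_rc_11_3 lc_c_rc_19_0 lc_c_Cert_tree lc_c_rc_19_0 lc_c_rc_21_2 lc_c_rc_23_2 lc_c_rc_21_2 lc_c_rc_21_2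 lc_c_rc_22_2 lc_c_rc_26_2 lc_c_rc_23_2 lc_c_rc_21_2 lc_c_rc_21_2 lc_c_rc_23_2 lc_c_rc_23_2 lc_c_rc_20_2 lc_c_rc_22_2 lc_c_rc_55_55 lc_c_rc_21_2 lc_c_rc_22_2 lc_c_rc_20_4 lc_c_rc_11_5 lc_c_rc_21_2 lc_c_Cert_tree lc_c_rc_23_2 lc_c_rc_20_0 lc_c_Cert_tree lc_c_rc_19_0 lc_c_rc_22_2 lc_c_rc_22_2 lc_c_rc_20_4 lc_c_rc_21_0 lc_c_rc_23_2 lc_c_rc_19_0 lc_c_rc_21_2 lc_c_rc_11_3 lc_c_rc_21_2 lc_c_rc_21_0 lc_c_rc_22_0) (@D3.rec (fun _ => (Cert rels S Gen.c)) lc_c_rc_21_2 lc_c_rc_26_2 lc_c_rc_23_2 lc_c_rc_26_2 lc_c_rc_22_2 lc_c_rc_22_2 lc_c_rc_24_2 lc_c_rc_21_2 lc_c_rc_26_2 lc_c_rc_21_2 lc_c_rc_26_2 lc_c_rc_22_2 lc_c_rc_20_2 lc_c_rc_26_2 lc_c_rc_22_2 lc_c_rc_21_2 lc_c_rc_22_2 lc_c_rc_22_2 lc_c_rc_26_0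 lc_c_rc_25_2 lc_c_rc_25_2 lc_c_rc_20_2 lc_c_rc_24_2 lc_c_Cert_tree lc_c_rc_21_2 lc_c_rc_19_0 lc_c_rc_20_2 lc_c_rc_22_2 lc_c_rc_23_2 lc_c_rc_26_2 lc_c_rc_22_2 lc_c_rc_22_0 lc_c_rc_26_2 lc_c_rc_22_2 lc_c_rc_21_2 lc_c_rc_11_3 lc_c_rc_11_3 lc_c_rc_23_2 lc_c_rc_22_2 lc_c_rc_21_2 lc_c_rc_26_2 lc_c_rc_22_2 lc_c_rc_20_2 lc_c_rc_22_2 lc_c_Cert_tree lc_c_rc_26_2 lc_c_rc_22_2 lc_c_rc_20_2 lc_c_rc_24_2 lc_c_rc_22_2 lc_c_Cert_tree) (@D3.rec (fun _ => (Cert rels S Gen.c)) lc_c_rc_24_2 lc_c_rc_22_2 lc_c_Cert_tree lc_c_rc_21_2 lc_c_Cert_tree lc_c_rc_19_0 lc_c_rc_19_0 lc_c_rc_20_2 lc_c_rc_23_2 lc_c_rc_24_2 lc_c_Cert_tree lc_c_rc_19_0 lc_c_rc_19_0 lc_c_rc_21_2 lc_c_rc_2_1 lc_c_rc_20_2 lc_c_rc_19_0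 lc_c_rc_11_3 lc_c_rc_11_3 lc_c_rc_26_0 lc_c_rc_24_0 lc_c_rc_22_2 lc_c_rc_21_0 lc_c_rc_21_2 lc_c_rc_21_2 lc_c_rc_23_2 lc_c_rc_22_2 lc_c_rc_22_0 lc_c_rc_21_2 lc_c_rc_26_2 lc_c_rc_26_2 lc_c_rc_19_0 lc_c_rc_21_2 lc_c_rc_26_2 lc_c_rc_21_2 lc_c_rc_26_2 lc_c_rc_26_2 lc_c_rc_22_2 lc_c_rc_22_0 lc_c_rc_26_2 lc_c_rc_22_2 lc_c_rc_26_2 lc_c_rc_22_2 lc_c_rc_22_2 lc_c_rc_20_2 lc_c_rc_26_0 lc_c_rc_11_1 lc_c_rc_22_0 lc_c_rc_20_4 lc_c_rc_20_4 lc_c_rc_22_2) (@D3.rec (fun _ => (Cert rels S Gen.c)) lc_c_rc_21_2 lc_c_rc_22_2 lc_c_rc_22_2 lc_c_rc_26_2 lc_c_rc_22_2 lc_c_rc_21_2 lc_c_rc_22_2 lc_c_rc_26_2 lc_c_rc_23_2 lc_c_rc_20_2 lc_c_rc_23_2 lc_c_rc_21_2 lc_c_rc_22_2 lc_c_rc_22_2 lc_c_rc_22_2 lc_c_rc_23_2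 lc_c_rc_24_2 lc_c_rc_21_2 lc_c_rc_23_2 lc_c_Cert_tree lc_c_rc_24_2 lc_c_rc_24_2 lc_c_rc_26_0 lc_c_rc_25_2 lc_c_rc_2_3 lc_c_rc_23_2 lc_c_rc_22_0 lc_c_rc_22_0 lc_c_rc_22_0 lc_c_rc_21_2 lc_c_rc_11_3 lc_c_rc_21_2 lc_c_rc_26_2 lc_c_rc_23_2 lc_c_rc_26_2 lc_c_rc_22_2 lc_c_rc_2_1 lc_c_rc_11_3 lc_c_rc_11_3 lc_c_rc_20_2 lc_c_rc_23_2 lc_c_rc_26_2 lc_c_rc_22_2 lc_c_rc_26_2 lc_c_rc_22_2 lc_c_rc_23_2 lc_c_rc_24_2 lc_c_rc_24_2 lc_c_rc_11_3 lc_c_rc_11_3 lc_c_rc_20_2) (@D3.rec (fun _ => (Cert rels S Gen.c)) lc_c_rc_26_2 lc_c_rc_22_2 lc_c_rc_21_2 lc_c_rc_21_2 lc_c_rc_22_2 lc_c_rc_23_2 lc_c_rc_11_3 lc_c_rc_11_3 lc_c_rc_23_2 lc_c_rc_24_0 lc_c_rc_20_2 lc_c_rc_26_2 lc_c_rc_22_2 lc_c_rc_20_2 lc_c_rc_11_1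 lc_c_rc_21_2 lc_c_rc_22_2 lc_c_Cert_tree lc_c_rc_11_3 lc_c_rc_20_2 lc_c_rc_26_2 lc_c_rc_22_2 lc_c_Cert_tree lc_c_rc_21_2 lc_c_rc_22_2 lc_c_rc_21_2 lc_c_rc_21_0 lc_c_rc_23_2 lc_c_Cert_tree lc_c_rc_19_0 lc_c_rc_22_2 lc_c_rc_20_4 lc_c_rc_23_2 lc_c_rc_23_2 lc_c_rc_22_2 lc_c_rc_2_1 lc_c_rc_2_1 lc_c_rc_11_3 lc_c_rc_11_3 lc_c_rc_22_2 lc_c_rc_20_2 lc_c_rc_21_2 lc_c_rc_21_2 lc_c_rc_22_2 lc_c_Cert_tree lc_c_rc_20_4 lc_c_rc_2_1 lc_c_rc_2_1 lc_c_rc_19_0 lc_c_rc_11_3 lc_c_rc_11_3) (@D3.rec (fun _ => (Cert rels S Gen.c)) lc_c_rc_11_3 lc_c_rc_2_3 lc_c_rc_20_0 lc_c_rc_22_2 lc_c_rc_25_2 lc_c_rc_26_2 lc_c_rc_22_2 lc_c_Cert_tree lc_c_rc_21_2 lc_c_rc_26_2 lc_c_rc_22_2 lc_c_Cert_tree lc_c_rc_19_0 lc_c_rc_2_1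 lc_c_rc_2_3 lc_c_rc_21_2 lc_c_rc_26_2 lc_c_rc_22_2 lc_c_Cert_tree lc_c_rc_19_0 lc_c_rc_20_4 lc_c_rc_11_3 lc_c_rc_20_2 lc_c_rc_26_2 lc_c_rc_22_2 lc_c_rc_23_2 lc_c_rc_22_2 lc_c_rc_23_2 lc_c_rc_19_0 lc_c_rc_21_2 lc_c_rc_11_3 lc_c_rc_22_2 lc_c_rc_2_3 lc_c_rc_20_4 lc_c_rc_22_2 lc_c_rc_20_2 lc_c_rc_19_0 lc_c_rc_21_2 lc_c_rc_11_3 lc_c_Cert_tree lc_c_rc_19_0 lc_c_rc_21_2 lc_c_rc_11_3 lc_c_rc_21_2 lc_c_rc_19_0 lc_c_rc_2_1 lc_c_rc_22_0 lc_c_rc_21_2 lc_c_rc_20_2 lc_c_rc_2_1 lc_c_rc_23_0)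
def ce_c_16 : D2 → D3 → (Cert rels S Gen.c) := @D2.rec (fun _ => D3 → (Cert rels S Gen.c)) (@D3.rec (fun _ => (Cert rels S Gen.c)) lc_c_rc_20_2 lc_c_rc_22_0 lc_c_rc_22_0 lc_c_rc_22_2 lc_c_rc_22_2 lc_c_rc_20_4 lc_c_rc_23_2 lc_c_rc_21_2 lc_c_rc_23_2 lc_c_rc_22_0 lc_c_rc_2_3 lc_c_rc_24_2 lc_c_rc_25_0 lc_c_rc_22_2 lc_c_rc_25_0 lc_c_rc_22_2 lc_c_rc_20_2 lc_c_rc_11_1 lc_c_rc_26_2 lc_c_rc_20_2 lc_c_rc_22_2 lc_c_Cert_tree lc_c_rc_55_19 lc_c_rc_21_2 lc_c_rc_11_1 lc_c_rc_19_0 lc_c_rc_11_3 lc_c_rc_55_19 lc_c_rc_11_3 lc_c_rc_22_2 lc_c_rc_22_2 lc_c_rc_22_2 lc_c_rc_20_2 lc_c_Cert_tree lc_c_rc_23_2 lc_c_Cert_tree lc_c_Cert_tree lc_c_rc_55_55 lc_c_rc_19_0 lc_c_rc_19_0 lc_c_rc_21_2 lc_c_rc_2_1 lc_c_rc_2_3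 lc_c_rc_20_2 lc_c_rc_20_4 lc_c_rc_21_2 lc_c_rc_21_2 lc_c_rc_19_0 lc_c_rc_56_30 lc_c_rc_2_3 lc_c_rc_20_2) (@D3.rec (fun _ => (Cert rels S Gen.c)) lc_c_rc_25_0 lc_c_rc_25_2 lc_c_rc_19_0 lc_c_rc_25_2 lc_c_rc_21_2 lc_c_rc_20_0 lc_c_rc_23_2 lc_c_rc_21_2 lc_c_rc_23_2 lc_c_rc_22_2 lc_c_rc_20_0 lc_c_rc_25_2 lc_c_rc_21_2 lc_c_rc_26_2 lc_c_rc_11_3 lc_c_rc_26_2 lc_c_rc_22_2 lc_c_rc_24_0 lc_c_rc_22_2 lc_c_rc_25_0 lc_c_rc_24_2 lc_c_rc_20_2 lc_c_rc_26_2 lc_c_rc_20_2 lc_c_rc_23_0 lc_c_rc_20_0 lc_c_rc_23_2 lc_c_rc_26_2 lc_c_rc_22_2 lc_c_rc_20_0 lc_c_rc_22_2 lc_c_rc_20_2 lc_c_rc_23_2 lc_c_rc_20_2 lc_c_rc_20_2 lc_c_rc_20_2 lc_c_rc_21_2 lc_c_rc_26_2 lc_c_rc_23_2 lc_c_rc_26_2 lc_c_rc_22_2 lc_c_rc_21_2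 lc_c_rc_26_2 lc_c_rc_21_2 lc_c_rc_23_2 lc_c_rc_20_2 lc_c_rc_26_2 lc_c_rc_22_2 lc_c_rc_23_2 lc_c_rc_21_2 lc_c_rc_22_2) (@D3.rec (fun _ => (Cert rels S Gen.c)) lc_c_rc_22_2 lc_c_rc_20_2 lc_c_rc_23_2 lc_c_rc_26_2 lc_c_Cert_tree lc_c_rc_26_2 lc_c_rc_21_2 lc_c_rc_22_2 lc_c_rc_21_2 lc_c_rc_19_0 lc_c_rc_11_3 lc_c_rc_22_2 lc_c_rc_21_2 lc_c_rc_11_3 lc_c_rc_11_3 lc_c_rc_20_2 lc_c_rc_22_2 lc_c_rc_20_2 lc_c_rc_20_4 lc_c_rc_21_2 lc_c_Cert_tree lc_c_rc_20_4 lc_c_rc_21_2 lc_c_rc_24_2 lc_c_Cert_tree lc_c_rc_19_0 lc_c_rc_22_2 lc_c_rc_26_0 lc_c_rc_22_0 lc_c_rc_19_0 lc_c_rc_21_2 lc_c_rc_23_2 lc_c_rc_22_2 lc_c_rc_20_2 lc_c_rc_21_2 lc_c_rc_23_2 lc_c_rc_21_2 lc_c_rc_23_2 lc_c_rc_26_2 lc_c_rc_23_2 lc_c_rc_11_3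 lc_c_rc_11_3 lc_c_rc_20_2 lc_c_rc_26_2 lc_c_rc_22_2 lc_c_rc_22_2 lc_c_rc_11_3 lc_c_rc_20_2 lc_c_rc_20_4 lc_c_rc_24_2 lc_c_rc_21_2) (@D3.rec (fun _ => (Cert rels S Gen.c)) lc_c_rc_26_2 lc_c_rc_23_2 lc_c_rc_26_2 lc_c_rc_22_2 lc_c_rc_21_2 lc_c_rc_26_2 lc_c_rc_26_2 lc_c_rc_22_2 lc_c_rc_11_3 lc_c_rc_25_0 lc_c_rc_20_2 lc_c_rc_23_2 lc_c_rc_26_2 lc_c_rc_22_2 lc_c_rc_26_2 lc_c_rc_22_2 lc_c_rc_22_2 lc_c_rc_24_2 lc_c_rc_26_2 lc_c_rc_22_2 lc_c_rc_20_2 lc_c_rc_22_2 lc_c_Cert_tree lc_c_rc_20_2 lc_c_rc_26_2 lc_c_rc_19_0 lc_c_rc_20_4 lc_c_rc_20_0 lc_c_rc_26_2 lc_c_rc_22_2 lc_c_rc_2_1 lc_c_rc_11_3 lc_c_rc_22_2 lc_c_rc_25_0 lc_c_rc_11_3 lc_c_rc_11_3 lc_c_rc_26_2 lc_c_rc_22_2 lc_c_rc_20_2 lc_c_rc_22_2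 lc_c_Cert_tree lc_c_rc_26_2 lc_c_rc_24_2 lc_c_Cert_tree lc_c_rc_22_2 lc_c_Cert_tree lc_c_rc_21_2 lc_c_Cert_tree lc_c_rc_19_0 lc_c_rc_19_0 lc_c_rc_11_1) (@D3.rec (fun _ => (Cert rels S Gen.c)) lc_c_rc_19_0 lc_c_rc_2_1 lc_c_rc_24_2 lc_c_rc_19_0 lc_c_rc_21_2 lc_c_Cert_tree lc_c_rc_21_2 lc_c_rc_19_0 lc_c_rc_21_2 lc_c_rc_23_2 lc_c_rc_21_2 lc_c_rc_26_2 lc_c_rc_23_2 lc_c_rc_26_2 lc_c_rc_22_2 lc_c_rc_22_2 lc_c_rc_26_2 lc_c_rc_20_2 lc_c_rc_23_2 lc_c_rc_26_2 lc_c_rc_22_2 lc_c_rc_26_2 lc_c_rc_22_2 lc_c_rc_21_2 lc_c_rc_11_3 lc_c_rc_20_2 lc_c_rc_26_2 lc_c_rc_22_2 lc_c_rc_20_0 lc_c_rc_22_2 lc_c_rc_20_2 lc_c_rc_21_2 lc_c_rc_23_2 lc_c_rc_22_2 lc_c_rc_20_2 lc_c_rc_26_2 lc_c_rc_22_2 lc_c_rc_20_2 lc_c_rc_21_2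 lc_c_rc_22_2 lc_c_Cert_tree lc_c_rc_20_2 lc_c_rc_2_1 lc_c_rc_20_4 lc_c_rc_20_2 lc_c_rc_22_2 lc_c_rc_20_4 lc_c_rc_21_2 lc_c_rc_24_2 lc_c_Cert_tree lc_c_rc_19_0) (@D3.rec (fun _ => (Cert rels S Gen.c)) lc_c_rc_21_2 lc_c_rc_21_2 lc_c_rc_21_2 lc_c_rc_21_2 lc_c_rc_20_2 lc_c_rc_22_2 lc_c_rc_20_2 lc_c_rc_26_2 lc_c_rc_22_2 lc_c_rc_20_2 lc_c_rc_22_2 lc_c_Cert_tree lc_c_rc_20_2 lc_c_rc_20_2 lc_c_rc_20_2 lc_c_rc_20_2 lc_c_rc_21_2 lc_c_rc_55_28 lc_c_rc_21_2 lc_c_rc_22_2 lc_c_rc_22_2 lc_c_rc_22_2 lc_c_rc_20_2 lc_c_rc_20_0 lc_c_rc_22_2 lc_c_rc_26_2 lc_c_rc_22_2 lc_c_Cert_tree lc_c_rc_21_2 lc_c_rc_20_4 lc_c_rc_22_2 lc_c_Cert_tree lc_c_rc_19_0 lc_c_rc_22_2 lc_c_rc_21_2 lc_c_rc_23_2 lc_c_rc_23_2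 lc_c_rc_20_2 lc_c_rc_24_2 lc_c_rc_22_2 lc_c_Cert_tree lc_c_rc_19_0 lc_c_rc_24_2 lc_c_rc_23_2 lc_c_rc_26_0 lc_c_rc_26_2 lc_c_rc_19_0 lc_c_rc_21_2 lc_c_rc_11_3 lc_c_rc_55_64 lc_c_rc_24_2) (@D3.rec (fun _ => (Cert rels S Gen.c)) lc_c_rc_23_2 lc_c_rc_19_0 lc_c_rc_21_2 lc_c_rc_11_3 lc_c_rc_21_2 lc_c_rc_25_2 lc_c_rc_22_2 lc_c_rc_20_2 lc_c_rc_21_2 lc_c_rc_21_0 lc_c_rc_2_1 lc_c_rc_26_2 lc_c_rc_22_2 lc_c_rc_22_0 lc_c_rc_21_2 lc_c_rc_22_2 lc_c_Cert_tree lc_c_rc_19_0 lc_c_rc_21_2 lc_c_rc_23_2 lc_c_rc_23_2 lc_c_rc_23_2 lc_c_rc_26_2 lc_c_rc_22_2 lc_c_rc_22_2 lc_c_rc_22_2 lc_c_rc_20_2 lc_c_rc_24_2 lc_c_rc_24_2 lc_c_rc_21_2 lc_c_rc_21_2 lc_c_Cert_tree lc_c_rc_22_2 lc_c_rc_19_1 lc_c_rc_21_2 lc_c_rc_20_2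 lc_c_rc_2_1 lc_c_rc_22_2 lc_c_rc_26_2 lc_c_rc_22_2 lc_c_rc_20_4 lc_c_rc_22_2 lc_c_rc_23_2 lc_c_rc_24_2 lc_c_rc_24_2 lc_c_rc_21_2 lc_c_rc_21_2 lc_c_rc_21_2 lc_c_Cert_tree lc_c_rc_23_2 lc_c_rc_2_3) (@D3.rec (fun _ => (Cert rels S Gen.c)) lc_c_rc_2_3 lc_c_rc_26_2 lc_c_rc_22_2 lc_c_rc_23_2 lc_c_rc_22_2 lc_c_rc_22_2 lc_c_rc_21_2 lc_c_Cert_tree lc_c_rc_11_3 lc_c_rc_22_2 lc_c_rc_22_2 lc_c_Cert_tree lc_c_rc_22_0 lc_c_rc_21_2 lc_c_Cert_tree lc_c_rc_19_0 lc_c_rc_20_2 lc_c_rc_26_0 lc_c_rc_20_4 lc_c_rc_19_0 lc_c_rc_21_2 lc_c_rc_20_4 lc_c_rc_20_2 lc_c_rc_22_0 lc_c_rc_20_2 lc_c_rc_22_0 lc_c_rc_21_2 lc_c_rc_21_2 lc_c_rc_22_2 lc_c_rc_26_2 lc_c_rc_21_2 lc_c_rc_22_2 lc_c_rc_26_2 lc_c_rc_22_2 lc_c_rc_22_2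 lc_c_rc_20_2 lc_c_rc_22_2 lc_c_rc_20_2 lc_c_Cert_tree lc_c_rc_20_2 lc_c_rc_20_2 lc_c_rc_26_2 lc_c_rc_22_2 lc_c_rc_23_2 lc_c_rc_26_2 lc_c_rc_22_2 lc_c_rc_26_2 lc_c_rc_22_2 lc_c_rc_23_2 lc_c_rc_21_2 lc_c_rc_22_2) (@D3.rec (fun _ => (Cert rels S Gen.c)) lc_c_rc_21_2 lc_c_rc_21_2 lc_c_rc_21_2 lc_c_rc_21_2 lc_c_Cert_tree lc_c_rc_24_2 lc_c_rc_22_2 lc_c_Cert_tree lc_c_Cert_tree lc_c_rc_19_0 lc_c_rc_23_2 lc_c_rc_26_2 lc_c_rc_22_2 lc_c_rc_26_2 lc_c_rc_22_2 lc_c_rc_23_2 lc_c_rc_21_2 lc_c_rc_24_2 lc_c_rc_26_2 lc_c_rc_22_2 lc_c_rc_26_2 lc_c_rc_22_2 lc_c_Cert_tree lc_c_rc_19_0 lc_c_rc_26_2 lc_c_rc_21_2 lc_c_rc_23_2 lc_c_rc_23_2 lc_c_rc_21_2 lc_c_rc_22_2 lc_c_rc_22_2 lc_c_Cert_tree lc_c_Cert_tree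 lc_c_rc_19_0 lc_c_rc_26_2 lc_c_rc_22_2 lc_c_Cert_tree lc_c_rc_22_2 lc_c_Cert_tree lc_c_rc_19_0 lc_c_Cert_tree lc_c_rc_19_0 lc_c_rc_19_0 lc_c_rc_21_2 lc_c_Cert_tree lc_c_rc_19_0 lc_c_rc_21_2 lc_c_rc_21_2 lc_c_rc_22_2 lc_c_rc_21_0 lc_c_rc_26_2) (@D3.rec (fun _ => (Cert rels S Gen.c)) lc_c_rc_22_2 lc_c_rc_22_2 lc_c_rc_20_4 lc_c_rc_22_2 lc_c_rc_11_3 lc_c_rc_11_3 lc_c_rc_23_2 lc_c_rc_26_2 lc_c_rc_22_2 lc_c_rc_20_4 lc_c_rc_26_2 lc_c_rc_22_2 lc_c_rc_2_1 lc_c_rc_2_1 lc_c_rc_2_1 lc_c_rc_22_2 lc_c_rc_11_3 lc_c_rc_11_3 lc_c_rc_20_2 lc_c_rc_22_2 lc_c_rc_20_2 lc_c_rc_24_2 lc_c_rc_26_2 lc_c_rc_22_2 lc_c_rc_20_2 lc_c_rc_26_2 lc_c_rc_22_2 lc_c_Cert_tree lc_c_rc_26_2 lc_c_rc_22_2 lc_c_rc_23_2 lc_c_rc_23_2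 lc_c_rc_22_2 lc_c_rc_11_3 lc_c_rc_11_3 lc_c_rc_24_2 lc_c_rc_26_2 lc_c_rc_22_2 lc_c_rc_20_2 lc_c_rc_26_2 lc_c_rc_22_2 lc_c_Cert_tree lc_c_rc_55_10 lc_c_rc_11_3 lc_c_rc_21_2 lc_c_rc_20_2 lc_c_rc_26_2 lc_c_rc_22_2 lc_c_rc_26_2 lc_c_rc_22_2 lc_c_Cert_tree) (@D3.rec (fun _ => (Cert rels S Gen.c)) lc_c_rc_11_1 lc_c_rc_22_2 lc_c_Cert_tree lc_c_rc_19_0 lc_c_rc_26_2 lc_c_rc_22_2 lc_c_rc_2_3 lc_c_rc_24_2 lc_c_rc_22_2 lc_c_Cert_tree lc_c_rc_19_0 lc_c_rc_26_2 lc_c_rc_22_2 lc_c_rc_23_2 lc_c_rc_22_2 lc_c_Cert_tree lc_c_rc_19_0 lc_c_rc_21_2 lc_c_rc_24_2 lc_c_rc_22_2 lc_c_Cert_tree lc_c_rc_19_0 lc_c_rc_21_2 lc_c_rc_22_2 lc_c_rc_24_2 lc_c_rc_24_2 lc_c_rc_26_2 lc_c_rc_22_2 lc_c_rc_2_1 lc_c_rc_26_2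 lc_c_rc_22_2 lc_c_Cert_tree lc_c_rc_2_1 lc_c_rc_2_1 lc_c_rc_2_1 lc_c_rc_55_64 lc_c_rc_21_2 lc_c_rc_11_3 lc_c_rc_25_2 lc_c_rc_20_2 lc_c_rc_22_2 lc_c_rc_20_2 lc_c_rc_25_2 lc_c_rc_22_2 lc_c_rc_25_2 lc_c_rc_26_2 lc_c_rc_22_2 lc_c_Cert_tree lc_c_rc_21_2 lc_c_rc_26_2 lc_c_rc_22_2) (@D3.rec (fun _ => (Cert rels S Gen.c)) lc_c_Cert_tree lc_c_rc_19_0 lc_c_rc_2_1 lc_c_rc_20_2 lc_c_rc_23_2 lc_c_rc_22_2 lc_c_rc_21_2 lc_c_rc_11_3 lc_c_Cert_tree lc_c_rc_21_2 lc_c_rc_23_2 lc_c_rc_20_2 lc_c_rc_23_2 lc_c_rc_23_2 lc_c_rc_22_2 lc_c_rc_22_2 lc_c_Cert_tree lc_c_rc_26_2 lc_c_rc_22_2 lc_c_Cert_tree lc_c_rc_19_0 lc_c_rc_21_2 lc_c_rc_21_2 lc_c_rc_22_2 lc_c_Cert_tree lc_c_rc_19_0 lc_c_rc_21_2 lc_c_rc_11_3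 lc_c_rc_22_2 lc_c_rc_25_2 lc_c_rc_26_2 lc_c_rc_22_2 lc_c_Cert_tree lc_c_rc_19_0 lc_c_rc_2_3 lc_c_rc_22_2 lc_c_Cert_tree lc_c_rc_19_0 lc_c_rc_21_2 lc_c_rc_11_3 lc_c_rc_21_0 lc_c_rc_23_2 lc_c_rc_23_2 lc_c_rc_22_2 lc_c_rc_24_2 lc_c_rc_19_0 lc_c_rc_21_2 lc_c_rc_23_2 lc_c_Cert_tree lc_c_rc_19_0 lc_c_rc_21_2) (@D3.rec (fun _ => (Cert rels S Gen.c)) lc_c_rc_11_3 lc_c_rc_21_2 lc_c_rc_2_1 lc_c_rc_22_2 lc_c_rc_25_2 lc_c_rc_11_1 lc_c_rc_19_0 lc_c_Cert_tree lc_c_rc_19_0 lc_c_rc_21_2 lc_c_rc_11_3 lc_c_rc_21_2 lc_c_rc_2_1 lc_c_rc_19_0 lc_c_rc_21_2 lc_c_rc_21_2 lc_c_rc_2_1 lc_c_rc_11_3 lc_c_rc_20_2 lc_c_rc_25_2 lc_c_Cert_tree lc_c_rc_19_0 lc_c_rc_21_2 lc_c_rc_21_2 lc_c_rc_23_2 lc_c_rc_20_2 lc_c_rc_11_3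 lc_c_rc_25_2 lc_c_rc_2_1 lc_c_rc_11_3 lc_c_Cert_tree lc_c_rc_22_2 lc_c_rc_21_2 lc_c_rc_20_4 lc_c_rc_20_4 lc_c_rc_19_0 lc_c_rc_21_2 lc_c_rc_21_2 lc_c_rc_23_2 lc_c_rc_11_1 lc_c_rc_20_2 lc_c_rc_21_2 lc_c_Cert_tree lc_c_rc_21_2 lc_c_rc_21_2 lc_c_Cert_tree lc_c_Cert_tree lc_c_rc_21_2 lc_c_rc_22_2 lc_c_Cert_tree lc_c_rc_11_3) (@D3.rec (fun _ => (Cert rels S Gen.c)) lc_c_rc_11_3 lc_c_rc_20_2 lc_c_rc_22_2 lc_c_rc_26_2 lc_c_rc_22_2 lc_c_Cert_tree lc_c_rc_22_2 lc_c_Cert_tree lc_c_rc_19_0 lc_c_rc_11_3 lc_c_rc_11_1 lc_c_rc_22_2 lc_c_rc_20_2 lc_c_rc_20_2 lc_c_rc_26_2 lc_c_rc_22_2 lc_c_rc_22_2 lc_c_rc_22_2 lc_c_Cert_tree lc_c_Cert_tree lc_c_rc_21_2 lc_c_rc_2_1 lc_c_rc_11_3 lc_c_rc_11_3 lc_c_Cert_tree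 lc_c_rc_21_2 lc_c_rc_19_0 lc_c_rc_2_1 lc_c_rc_20_2 lc_c_rc_22_0 lc_c_rc_23_2 lc_c_rc_23_2 lc_c_rc_21_2 lc_c_Cert_tree lc_c_rc_26_2 lc_c_rc_22_2 lc_c_rc_23_2 lc_c_Cert_tree lc_c_rc_26_2 lc_c_rc_21_2 lc_c_rc_25_2 lc_c_rc_26_2 lc_c_rc_22_2 lc_c_rc_23_2 lc_c_rc_22_2 lc_c_rc_21_2 lc_c_rc_25_2 lc_c_rc_20_2 lc_c_rc_21_2 lc_c_rc_26_2 lc_c_rc_22_2) (@D3.rec (fun _ => (Cert rels S Gen.c)) lc_c_rc_23_2 lc_c_rc_22_2 lc_c_Cert_tree lc_c_rc_26_2 lc_c_rc_21_2 lc_c_rc_2_1 lc_c_rc_21_0 lc_c_rc_22_2 lc_c_rc_22_2 lc_c_Cert_tree lc_c_rc_21_2 lc_c_Cert_tree lc_c_rc_19_0 lc_c_rc_2_1 lc_c_rc_22_2 lc_c_rc_20_2 lc_c_rc_25_2 lc_c_rc_11_3 lc_c_rc_23_2 lc_c_rc_23_2 lc_c_rc_11_3 lc_c_rc_20_2 lc_c_rc_2_1 lc_c_rc_22_2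 lc_c_rc_21_0 lc_c_rc_21_2 lc_c_rc_26_2 lc_c_Cert_tree lc_c_rc_2_1 lc_c_rc_22_2 lc_c_rc_21_2 lc_c_rc_21_2 lc_c_rc_11_3 lc_c_rc_22_0 lc_c_rc_23_2 lc_c_rc_2_1 lc_c_rc_11_3 lc_c_rc_11_3 lc_c_rc_20_2 lc_c_rc_22_2 lc_c_rc_20_2 lc_c_Cert_tree lc_c_rc_20_2 lc_c_rc_26_2 lc_c_rc_22_2 lc_c_rc_22_2 lc_c_rc_20_2 lc_c_rc_11_3 lc_c_rc_11_3 lc_c_rc_22_2 lc_c_rc_20_2) (@D3.rec (fun _ => (Cert rels S Gen.c)) lc_c_rc_22_2 lc_c_rc_23_2 lc_c_Cert_tree lc_c_rc_23_0 lc_c_rc_11_3 lc_c_rc_11_3 lc_c_rc_23_2 lc_c_rc_11_1 lc_c_rc_26_2 lc_c_rc_22_2 lc_c_rc_22_2 lc_c_Cert_tree lc_c_rc_21_2 lc_c_rc_21_2 lc_c_Cert_tree lc_c_rc_19_0 lc_c_rc_20_2 lc_c_rc_11_3 lc_c_rc_26_2 lc_c_rc_22_2 lc_c_rc_22_2 lc_c_rc_22_2 lc_c_Cert_tree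 lc_c_rc_11_3 lc_c_rc_11_3 lc_c_rc_20_2 lc_c_rc_22_2 lc_c_rc_20_2 lc_c_rc_24_0 lc_c_rc_22_2 lc_c_rc_22_2 lc_c_Cert_tree lc_c_rc_22_2 lc_c_Cert_tree lc_c_rc_19_0 lc_c_rc_2_1 lc_c_rc_2_1 lc_c_rc_26_2 lc_c_rc_23_0 lc_c_rc_22_2 lc_c_rc_11_3 lc_c_rc_11_3 lc_c_Cert_tree lc_c_rc_21_2 lc_c_rc_23_2 lc_c_rc_20_2 lc_c_rc_22_2 lc_c_rc_22_2 lc_c_Cert_tree lc_c_rc_26_2 lc_c_rc_22_2) (@D3.rec (fun _ => (Cert rels S Gen.c)) lc_c_Cert_tree lc_c_rc_19_0 lc_c_rc_21_2 lc_c_rc_21_2 lc_c_rc_22_2 lc_c_Cert_tree lc_c_rc_19_0 lc_c_rc_11_3 lc_c_rc_2_1 lc_c_rc_2_1 lc_c_rc_11_3 lc_c_rc_11_3 lc_c_rc_2_3 lc_c_rc_23_2 lc_c_rc_2_1 lc_c_rc_20_2 lc_c_rc_11_3 lc_c_rc_11_3 lc_c_rc_22_2 lc_c_rc_23_2 lc_c_rc_21_2 lc_c_rc_11_3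 lc_c_rc_20_2 lc_c_rc_21_2 lc_c_rc_20_2 lc_c_rc_24_0 lc_c_rc_22_2 lc_c_rc_2_3 lc_c_rc_21_2 lc_c_rc_24_2 lc_c_rc_21_0 lc_c_rc_22_0 lc_c_rc_20_2 lc_c_rc_22_2 lc_c_rc_23_2 lc_c_rc_24_2 lc_c_rc_21_2 lc_c_rc_21_2 lc_c_rc_21_2 lc_c_rc_23_2 lc_c_rc_21_2 lc_c_rc_21_2 lc_c_rc_22_2 lc_c_rc_20_2 lc_c_Cert_tree lc_c_rc_21_2 lc_c_rc_23_2 lc_c_rc_21_2 lc_c_rc_23_2 lc_c_rc_23_2 lc_c_rc_20_2) (@D3.rec (fun _ => (Cert rels S Gen.c)) lc_c_rc_22_2 lc_c_rc_20_2 lc_c_Cert_tree lc_c_rc_21_2 lc_c_Cert_tree lc_c_rc_20_2 lc_c_rc_20_2 lc_c_rc_19_0 lc_c_rc_22_2 lc_c_rc_22_2 lc_c_Cert_tree lc_c_rc_21_2 lc_c_Cert_tree lc_c_rc_19_0 lc_c_rc_20_2 lc_c_rc_21_2 lc_c_rc_23_2 lc_c_rc_24_2 lc_c_rc_22_2 lc_c_rc_20_2 lc_c_rc_21_2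 lc_c_rc_23_2 lc_c_rc_24_2 lc_c_rc_20_2 lc_c_rc_22_2 lc_c_rc_20_2 lc_c_Cert_tree lc_c_rc_21_2 lc_c_Cert_tree lc_c_Cert_tree lc_c_rc_21_2 lc_c_rc_19_0 lc_c_rc_23_2 lc_c_rc_23_2 lc_c_rc_21_2 lc_c_rc_20_2 lc_c_rc_25_2 lc_c_rc_22_2 lc_c_Cert_tree lc_c_rc_21_2 lc_c_rc_19_0 lc_c_rc_21_2 lc_c_rc_23_2 lc_c_rc_22_2 lc_c_rc_20_2 lc_c_rc_22_2 lc_c_Cert_tree lc_c_rc_22_2 lc_c_rc_23_2 lc_c_Cert_tree lc_c_rc_22_2) (@D3.rec (fun _ => (Cert rels S Gen.c)) lc_c_rc_19_0 lc_c_rc_21_2 lc_c_rc_23_2 lc_c_rc_22_2 lc_c_rc_11_3 lc_c_Cert_tree lc_c_rc_21_2 lc_c_rc_24_0 lc_c_Cert_tree lc_c_rc_22_2 lc_c_Cert_tree lc_c_rc_19_0 lc_c_rc_21_2 lc_c_rc_23_2 lc_c_rc_21_2 lc_c_Cert_tree lc_c_rc_19_0 lc_c_rc_11_3 lc_c_rc_26_0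 lc_c_rc_24_2 lc_c_rc_21_2 lc_c_rc_23_2 lc_c_rc_21_2 lc_c_rc_21_0 lc_c_rc_22_0 lc_c_rc_22_0 lc_c_rc_20_4 lc_c_rc_21_2 lc_c_rc_24_2 lc_c_rc_26_2 lc_c_rc_24_2 lc_c_Cert_tree lc_c_rc_19_0 lc_c_Cert_tree lc_c_rc_24_2 lc_c_Cert_tree lc_c_Cert_tree lc_c_rc_19_0 lc_c_rc_26_2 lc_c_rc_22_2 lc_c_rc_23_2 lc_c_rc_22_2 lc_c_Cert_tree lc_c_rc_21_2 lc_c_rc_21_2 lc_c_rc_20_2 lc_c_rc_22_2 lc_c_rc_22_2 lc_c_Cert_tree lc_c_rc_22_2 lc_c_Cert_tree) (@D3.rec (fun _ => (Cert rels S Gen.c)) lc_c_rc_19_0 lc_c_rc_20_4 lc_c_rc_55_37 lc_c_rc_21_2 lc_c_Cert_tree lc_c_rc_22_2 lc_c_Cert_tree lc_c_Cert_tree lc_c_rc_19_0 lc_c_rc_19_0 lc_c_rc_11_3 lc_c_rc_25_2 lc_c_rc_21_2 lc_c_rc_23_2 lc_c_rc_23_2 lc_c_rc_21_2 lc_c_rc_22_2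 lc_c_rc_20_2 lc_c_Cert_tree lc_c_Cert_tree lc_c_rc_19_0 lc_c_rc_22_2 lc_c_rc_23_2 lc_c_Cert_tree lc_c_rc_21_2 lc_c_Cert_tree lc_c_rc_19_0 lc_c_rc_21_2 lc_c_rc_22_2 lc_c_Cert_tree lc_c_rc_22_2 lc_c_Cert_tree lc_c_rc_19_0 lc_c_rc_11_3 lc_c_rc_21_2 lc_c_rc_2_1 lc_c_rc_24_2 lc_c_rc_11_3 lc_c_Cert_tree lc_c_rc_26_2 lc_c_rc_22_2 lc_c_Cert_tree lc_c_rc_21_2 lc_c_rc_19_0 lc_c_rc_26_2 lc_c_rc_22_2 lc_c_rc_22_2 lc_c_Cert_tree lc_c_rc_11_3 lc_c_rc_22_2 lc_c_Cert_tree) (@D3.rec (fun _ => (Cert rels S Gen.c)) lc_c_rc_19_0 lc_c_rc_21_2 lc_c_rc_26_2 lc_c_rc_20_4 lc_c_rc_22_2 lc_c_rc_11_3 lc_c_Cert_tree lc_c_rc_22_2 lc_c_rc_20_2 lc_c_rc_24_0 lc_c_rc_22_2 lc_c_rc_26_2 lc_c_Cert_tree lc_c_rc_26_2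 lc_c_rc_22_2 lc_c_Cert_tree lc_c_rc_19_0 lc_c_rc_22_2 lc_c_Cert_tree lc_c_rc_19_0 lc_c_rc_11_3 lc_c_Cert_tree lc_c_Cert_tree lc_c_rc_19_0 lc_c_rc_22_2 lc_c_rc_23_2 lc_c_rc_21_2 lc_c_rc_20_2 lc_c_rc_22_2 lc_c_Cert_tree lc_c_rc_22_2 lc_c_Cert_tree lc_c_rc_19_0 lc_c_rc_11_3 lc_c_Cert_tree lc_c_Cert_tree lc_c_Cert_tree lc_c_rc_19_0 lc_c_rc_21_2 lc_c_rc_23_2 lc_c_rc_22_2 lc_c_Cert_tree lc_c_rc_19_0 lc_c_rc_11_3 lc_c_rc_2_1 lc_c_Cert_tree lc_c_rc_21_2 lc_c_rc_11_3 lc_c_Cert_tree lc_c_rc_19_0 lc_c_rc_11_1) (@D3.rec (fun _ => (Cert rels S Gen.c)) lc_c_rc_22_2 lc_c_rc_22_2 lc_c_Cert_tree lc_c_Cert_tree lc_c_rc_19_0 lc_c_rc_22_2 lc_c_Cert_tree lc_c_rc_19_0 lc_c_rc_21_2 lc_c_rc_11_3 lc_c_rc_21_2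 lc_c_rc_23_2 lc_c_Cert_tree lc_c_rc_19_0 lc_c_rc_11_3 lc_c_rc_2_1 lc_c_rc_2_1 lc_c_Cert_tree lc_c_rc_19_0 lc_c_rc_21_2 lc_c_rc_23_2 lc_c_rc_24_2 lc_c_rc_23_2 lc_c_rc_19_0 lc_c_rc_21_2 lc_c_rc_20_2 lc_c_rc_21_2 lc_c_rc_21_2 lc_c_rc_25_2 lc_c_rc_21_2 lc_c_rc_11_3 lc_c_rc_22_2 lc_c_rc_20_2 lc_c_rc_56_51 lc_c_rc_24_0 lc_c_rc_24_2 lc_c_rc_19_0 lc_c_rc_21_2 lc_c_rc_26_2 lc_c_rc_20_2 lc_c_rc_21_2 lc_c_rc_22_2 lc_c_rc_22_0 lc_c_rc_22_0 lc_c_rc_22_2 lc_c_rc_22_2 lc_c_rc_20_2 lc_c_rc_21_2 lc_c_rc_55_28 lc_c_rc_21_2 lc_c_rc_23_2) (@D3.rec (fun _ => (Cert rels S Gen.c)) lc_c_rc_23_2 lc_c_rc_21_2 lc_c_rc_21_2 lc_c_rc_19_0 lc_c_rc_21_2 lc_c_rc_19_0 lc_c_rc_21_0 lc_c_rc_20_0 lc_c_rc_21_2 lc_c_rc_26_2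 lc_c_rc_21_2 lc_c_rc_21_2 lc_c_rc_21_2 lc_c_rc_26_2 lc_c_rc_22_2 lc_c_rc_22_2 lc_c_Cert_tree lc_c_rc_24_2 lc_c_rc_22_2 lc_c_rc_23_2 lc_c_rc_22_2 lc_c_rc_22_2 lc_c_Cert_tree lc_c_rc_19_0 lc_c_rc_19_0 lc_c_rc_21_2 lc_c_rc_21_2 lc_c_Cert_tree lc_c_rc_21_2 lc_c_rc_21_2 lc_c_Cert_tree lc_c_rc_23_2 lc_c_rc_20_2 lc_c_rc_20_2 lc_c_Cert_tree lc_c_Cert_tree lc_c_rc_20_4 lc_c_rc_21_2 lc_c_Cert_tree lc_c_rc_19_0 lc_c_rc_20_2 lc_c_rc_23_2 lc_c_rc_19_0 lc_c_rc_21_2 lc_c_rc_11_3 lc_c_rc_21_2 lc_c_rc_11_3 lc_c_rc_21_2 lc_c_rc_20_4 lc_c_rc_19_0 lc_c_rc_22_2) (@D3.rec (fun _ => (Cert rels S Gen.c)) lc_c_rc_22_0 lc_c_rc_24_2 lc_c_rc_20_2 lc_c_rc_23_2 lc_c_rc_26_2 lc_c_rc_22_2 lc_c_rc_26_2 lc_c_rc_22_2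 lc_c_rc_24_2 lc_c_rc_24_2 lc_c_rc_22_2 lc_c_rc_26_2 lc_c_rc_22_2 lc_c_rc_21_2 lc_c_rc_21_2 lc_c_rc_22_2 lc_c_rc_22_2 lc_c_rc_20_2 lc_c_rc_22_2 lc_c_rc_20_2 lc_c_rc_21_2 lc_c_Cert_tree lc_c_rc_20_2 lc_c_rc_25_2 lc_c_rc_25_2 lc_c_Cert_tree lc_c_rc_21_2 lc_c_Cert_tree lc_c_rc_19_0 lc_c_rc_22_2 lc_c_rc_26_2 lc_c_rc_22_2 lc_c_rc_20_2 lc_c_rc_24_2 lc_c_rc_22_2 lc_c_Cert_tree lc_c_rc_23_2 lc_c_rc_21_2 lc_c_rc_11_3 lc_c_rc_23_2 lc_c_rc_23_2 lc_c_rc_23_2 lc_c_rc_24_0 lc_c_rc_22_2 lc_c_rc_22_2 lc_c_Cert_tree lc_c_rc_21_2 lc_c_Cert_tree lc_c_rc_19_0 lc_c_rc_22_2 lc_c_Cert_tree) (@D3.rec (fun _ => (Cert rels S Gen.c)) lc_c_rc_21_2 lc_c_rc_24_2 lc_c_Cert_tree lc_c_rc_19_0 lc_c_Cert_tree lc_c_rc_19_0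 lc_c_rc_20_2 lc_c_rc_23_2 lc_c_rc_19_0 lc_c_rc_21_2 lc_c_rc_2_1 lc_c_Cert_tree lc_c_rc_19_0 lc_c_rc_21_2 lc_c_rc_2_1 lc_c_rc_21_2 lc_c_rc_21_2 lc_c_rc_21_0 lc_c_rc_22_2 lc_c_rc_20_2 lc_c_rc_21_2 lc_c_rc_24_0 lc_c_rc_22_2 lc_c_rc_19_0 lc_c_rc_23_2 lc_c_rc_23_2 lc_c_rc_22_0 lc_c_rc_26_2 lc_c_rc_21_2 lc_c_rc_21_2 lc_c_rc_26_2 lc_c_rc_23_2 lc_c_rc_26_2 lc_c_rc_22_2 lc_c_rc_26_2 lc_c_rc_22_2 lc_c_rc_22_2 lc_c_rc_23_2 lc_c_rc_22_2 lc_c_rc_23_2 lc_c_rc_26_0 lc_c_Cert_tree lc_c_rc_20_2 lc_c_rc_11_1 lc_c_rc_22_0 lc_c_rc_20_4 lc_c_rc_22_2 lc_c_rc_22_2 lc_c_rc_26_2 lc_c_rc_22_2 lc_c_rc_23_2) (@D3.rec (fun _ => (Cert rels S Gen.c)) lc_c_rc_21_2 lc_c_Cert_tree lc_c_rc_23_2 lc_c_rc_23_2 lc_c_rc_22_2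 lc_c_Cert_tree lc_c_Cert_tree lc_c_rc_21_2 lc_c_rc_24_2 lc_c_rc_21_2 lc_c_Cert_tree lc_c_rc_19_0 lc_c_rc_25_2 lc_c_rc_2_3 lc_c_rc_21_2 lc_c_rc_2_3 lc_c_rc_22_0 lc_c_rc_22_0 lc_c_rc_11_3 lc_c_rc_11_3 lc_c_rc_20_2 lc_c_rc_23_2 lc_c_rc_26_2 lc_c_rc_22_2 lc_c_rc_20_2 lc_c_rc_26_2 lc_c_rc_22_2 lc_c_rc_2_1 lc_c_rc_2_1 lc_c_rc_11_3 lc_c_rc_11_3 lc_c_rc_20_2 lc_c_rc_26_2 lc_c_rc_22_2 lc_c_rc_20_2 lc_c_rc_22_2 lc_c_Cert_tree lc_c_rc_23_2 lc_c_rc_24_0 lc_c_rc_24_2 lc_c_rc_11_3 lc_c_rc_11_3 lc_c_rc_20_2 lc_c_rc_22_2 lc_c_rc_20_2 lc_c_rc_21_2 lc_c_rc_22_2 lc_c_Cert_tree lc_c_rc_23_2 lc_c_rc_11_3 lc_c_rc_23_2) (@D3.rec (fun _ => (Cert rels S Gen.c)) lc_c_rc_23_2 lc_c_rc_26_2 lc_c_rc_22_2 lc_c_rc_22_2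 lc_c_Cert_tree lc_c_rc_21_2 lc_c_rc_19_0 lc_c_rc_21_2 lc_c_Cert_tree lc_c_rc_19_0 lc_c_rc_21_2 lc_c_rc_21_2 lc_c_rc_22_2 lc_c_Cert_tree lc_c_rc_19_0 lc_c_rc_23_2 lc_c_rc_20_2 lc_c_rc_23_2 lc_c_rc_19_0 lc_c_rc_21_2 lc_c_rc_25_2 lc_c_rc_23_2 lc_c_rc_23_2 lc_c_rc_23_2 lc_c_Cert_tree lc_c_rc_2_1 lc_c_rc_2_1 lc_c_rc_11_3 lc_c_rc_2_3 lc_c_Cert_tree lc_c_rc_21_2 lc_c_rc_21_2 lc_c_rc_22_2 lc_c_Cert_tree lc_c_rc_19_0 lc_c_rc_20_4 lc_c_rc_2_1 lc_c_rc_23_2 lc_c_rc_23_0 lc_c_rc_21_2 lc_c_rc_11_3 lc_c_Cert_tree lc_c_rc_21_2 lc_c_rc_22_2 lc_c_Cert_tree lc_c_rc_26_2 lc_c_rc_22_2 lc_c_Cert_tree lc_c_rc_19_0 lc_c_rc_21_2 lc_c_rc_23_2)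
def ce_c_17 : D2 → D3 → (Cert rels S Gen.c) := @D2.rec (fun _ => D3 → (Cert rels S Gen.c)) (@D3.rec (fun _ => (Cert rels S Gen.c)) lc_c_rc_22_2 lc_c_Cert_tree lc_c_rc_19_0 lc_c_rc_21_2 lc_c_rc_11_3 lc_c_rc_20_4 lc_c_rc_20_2 lc_c_rc_23_2 lc_c_rc_22_2 lc_c_rc_20_2 lc_c_rc_19_0 lc_c_rc_21_2 lc_c_rc_11_3 lc_c_rc_20_2 lc_c_rc_22_2 lc_c_rc_24_2 lc_c_rc_23_2 lc_c_rc_21_2 lc_c_rc_11_3 lc_c_rc_21_2 lc_c_rc_20_2 lc_c_rc_21_2 lc_c_rc_11_3 lc_c_rc_21_2 lc_c_rc_19_0 lc_c_rc_21_2 lc_c_rc_21_2 lc_c_rc_11_3 lc_c_rc_20_2 lc_c_rc_22_0 lc_c_rc_23_2 lc_c_rc_22_2 lc_c_rc_20_2 lc_c_rc_23_0 lc_c_rc_21_0 lc_c_rc_22_0 lc_c_rc_22_0 lc_c_rc_23_2 lc_c_rc_22_2 lc_c_rc_21_2 lc_c_rc_21_2 lc_c_rc_24_2 lc_c_rc_20_2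 lc_c_rc_55_46 lc_c_rc_11_3 lc_c_rc_21_2 lc_c_rc_55_46 lc_c_rc_19_0 lc_c_rc_25_0 lc_c_rc_55_37 lc_c_rc_19_0) (@D3.rec (fun _ => (Cert rels S Gen.c)) lc_c_rc_19_0 lc_c_rc_20_2 lc_c_rc_19_0 lc_c_rc_55_64 lc_c_rc_21_2 lc_c_rc_25_0 lc_c_rc_21_2 lc_c_rc_23_2 lc_c_rc_22_2 lc_c_rc_21_2 lc_c_rc_26_2 lc_c_rc_26_2 lc_c_rc_22_2 lc_c_rc_21_2 lc_c_rc_22_2 lc_c_rc_20_2 lc_c_rc_26_2 lc_c_rc_20_2 lc_c_rc_20_2 lc_c_rc_24_2 lc_c_rc_21_2 lc_c_rc_22_2 lc_c_rc_20_2 lc_c_rc_21_2 lc_c_Cert_tree lc_c_rc_20_2 lc_c_rc_21_2 lc_c_rc_21_2 lc_c_rc_20_2 lc_c_rc_23_2 lc_c_rc_26_2 lc_c_rc_22_2 lc_c_rc_26_2 lc_c_rc_22_2 lc_c_rc_21_2 lc_c_rc_21_2 lc_c_rc_11_3 lc_c_rc_20_2 lc_c_rc_22_2 lc_c_rc_20_2 lc_c_rc_26_2 lc_c_rc_21_2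 lc_c_Cert_tree lc_c_rc_11_3 lc_c_rc_21_2 lc_c_rc_23_2 lc_c_Cert_tree lc_c_rc_19_0 lc_c_rc_21_2 lc_c_rc_22_2 lc_c_Cert_tree) (@D3.rec (fun _ => (Cert rels S Gen.c)) lc_c_rc_21_2 lc_c_rc_23_2 lc_c_rc_22_2 lc_c_Cert_tree lc_c_rc_21_2 lc_c_rc_21_2 lc_c_Cert_tree lc_c_rc_19_0 lc_c_rc_23_2 lc_c_rc_26_0 lc_c_rc_19_0 lc_c_rc_21_2 lc_c_rc_22_0 lc_c_rc_21_2 lc_c_rc_23_0 lc_c_rc_20_2 lc_c_rc_21_2 lc_c_rc_23_2 lc_c_rc_21_2 lc_c_rc_21_2 lc_c_rc_20_2 lc_c_rc_11_3 lc_c_rc_11_3 lc_c_rc_20_2 lc_c_rc_22_2 lc_c_rc_20_2 lc_c_Cert_tree lc_c_rc_23_0 lc_c_rc_24_2 lc_c_rc_20_2 lc_c_rc_23_2 lc_c_rc_26_2 lc_c_rc_22_2 lc_c_rc_26_2 lc_c_rc_22_2 lc_c_rc_26_2 lc_c_rc_22_2 lc_c_rc_22_2 lc_c_rc_11_3 lc_c_rc_26_2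 lc_c_rc_20_2 lc_c_rc_26_2 lc_c_rc_22_2 lc_c_rc_20_2 lc_c_rc_22_2 lc_c_Cert_tree lc_c_rc_24_2 lc_c_rc_22_2 lc_c_rc_20_2 lc_c_Cert_tree lc_c_rc_19_0) (@D3.rec (fun _ => (Cert rels S Gen.c)) lc_c_rc_21_2 lc_c_rc_22_2 lc_c_rc_20_0 lc_c_rc_21_2 lc_c_Cert_tree lc_c_rc_2_1 lc_c_rc_11_3 lc_c_Cert_tree lc_c_rc_22_2 lc_c_Cert_tree lc_c_rc_21_2 lc_c_Cert_tree lc_c_rc_19_0 lc_c_rc_19_0 lc_c_rc_20_2 lc_c_Cert_tree lc_c_rc_19_0 lc_c_rc_21_2 lc_c_rc_23_2 lc_c_rc_19_0 lc_c_rc_21_2 lc_c_rc_21_2 lc_c_rc_19_0 lc_c_rc_21_2 lc_c_rc_23_2 lc_c_rc_23_2 lc_c_rc_20_2 lc_c_rc_23_2 lc_c_rc_26_2 lc_c_rc_22_2 lc_c_rc_26_2 lc_c_rc_22_2 lc_c_rc_26_2 lc_c_rc_26_2 lc_c_rc_22_2 lc_c_rc_20_2 lc_c_rc_26_2 lc_c_rc_22_2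 lc_c_rc_20_2 lc_c_rc_22_2 lc_c_Cert_tree lc_c_rc_21_2 lc_c_rc_20_2 lc_c_rc_20_2 lc_c_rc_22_2 lc_c_rc_20_2 lc_c_rc_21_2 lc_c_Cert_tree lc_c_rc_20_2 lc_c_rc_21_2 lc_c_rc_20_2) (@D3.rec (fun _ => (Cert rels S Gen.c)) lc_c_rc_26_2 lc_c_rc_22_2 lc_c_rc_22_2 lc_c_Cert_tree lc_c_rc_21_2 lc_c_rc_21_2 lc_c_Cert_tree lc_c_rc_19_0 lc_c_rc_20_4 lc_c_rc_21_2 lc_c_rc_23_2 lc_c_rc_23_2 lc_c_rc_23_2 lc_c_rc_19_0 lc_c_rc_21_2 lc_c_rc_22_2 lc_c_Cert_tree lc_c_rc_22_2 lc_c_rc_20_2 lc_c_rc_25_2 lc_c_rc_22_2 lc_c_rc_22_2 lc_c_Cert_tree lc_c_rc_21_2 lc_c_Cert_tree lc_c_rc_19_0 lc_c_rc_19_0 lc_c_rc_21_2 lc_c_rc_20_2 lc_c_rc_21_2 lc_c_rc_22_2 lc_c_rc_21_2 lc_c_Cert_tree lc_c_rc_22_2 lc_c_rc_23_2 lc_c_rc_22_2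 lc_c_rc_22_2 lc_c_Cert_tree lc_c_rc_22_2 lc_c_Cert_tree lc_c_rc_19_0 lc_c_rc_21_2 lc_c_rc_23_2 lc_c_rc_21_2 lc_c_Cert_tree lc_c_rc_19_0 lc_c_rc_21_2 lc_c_rc_11_3 lc_c_rc_21_0 lc_c_rc_23_2 lc_c_rc_20_2) (@D3.rec (fun _ => (Cert rels S Gen.c)) lc_c_rc_24_2 lc_c_rc_26_0 lc_c_rc_20_4 lc_c_rc_19_0 lc_c_rc_21_2 lc_c_rc_23_2 lc_c_rc_24_2 lc_c_rc_26_2 lc_c_rc_21_2 lc_c_rc_21_2 lc_c_rc_11_3 lc_c_rc_20_2 lc_c_rc_25_2 lc_c_rc_20_4 lc_c_rc_21_2 lc_c_rc_22_2 lc_c_rc_25_2 lc_c_rc_22_2 lc_c_rc_21_0 lc_c_rc_22_0 lc_c_Cert_tree lc_c_rc_19_0 lc_c_rc_21_2 lc_c_rc_21_2 lc_c_rc_23_2 lc_c_rc_23_2 lc_c_rc_22_2 lc_c_rc_20_2 lc_c_Cert_tree lc_c_rc_20_2 lc_c_rc_24_2 lc_c_Cert_tree lc_c_Cert_tree lc_c_rc_19_0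 lc_c_rc_21_2 lc_c_rc_20_2 lc_c_rc_22_2 lc_c_rc_22_2 lc_c_rc_20_2 lc_c_rc_22_2 lc_c_Cert_tree lc_c_rc_26_2 lc_c_rc_24_2 lc_c_rc_21_2 lc_c_Cert_tree lc_c_Cert_tree lc_c_rc_19_0 lc_c_rc_2_3 lc_c_rc_21_2 lc_c_rc_22_2 lc_c_rc_23_2) (@D3.rec (fun _ => (Cert rels S Gen.c)) lc_c_Cert_tree lc_c_Cert_tree lc_c_Cert_tree lc_c_rc_19_0 lc_c_Cert_tree lc_c_Cert_tree lc_c_Cert_tree lc_c_rc_19_0 lc_c_rc_21_2 lc_c_Cert_tree lc_c_rc_19_0 lc_c_rc_21_2 lc_c_rc_11_3 lc_c_rc_21_2 lc_c_rc_23_2 lc_c_rc_21_2 lc_c_rc_21_2 lc_c_rc_21_2 lc_c_rc_21_2 lc_c_rc_21_2 lc_c_rc_22_2 lc_c_Cert_tree lc_c_rc_22_2 lc_c_rc_22_2 lc_c_rc_23_2 lc_c_Cert_tree lc_c_rc_22_2 lc_c_Cert_tree lc_c_rc_21_2 lc_c_rc_19_0 lc_c_rc_26_2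 lc_c_rc_22_2 lc_c_rc_26_2 lc_c_rc_22_2 lc_c_rc_20_2 lc_c_rc_22_2 lc_c_Cert_tree lc_c_rc_23_2 lc_c_rc_22_2 lc_c_rc_21_2 lc_c_rc_23_2 lc_c_Cert_tree lc_c_Cert_tree lc_c_rc_19_0 lc_c_rc_24_2 lc_c_Cert_tree lc_c_rc_19_0 lc_c_rc_19_0 lc_c_rc_21_2 lc_c_rc_26_2 lc_c_rc_22_2) (@D3.rec (fun _ => (Cert rels S Gen.c)) lc_c_rc_22_2 lc_c_Cert_tree lc_c_rc_23_2 lc_c_rc_22_2 lc_c_rc_26_2 lc_c_rc_22_2 lc_c_Cert_tree lc_c_rc_22_2 lc_c_Cert_tree lc_c_rc_19_0 lc_c_rc_26_2 lc_c_rc_22_2 lc_c_Cert_tree lc_c_rc_23_2 lc_c_rc_23_2 lc_c_rc_22_2 lc_c_Cert_tree lc_c_Cert_tree lc_c_rc_19_0 lc_c_rc_19_0 lc_c_rc_21_2 lc_c_rc_11_3 lc_c_rc_22_2 lc_c_Cert_tree lc_c_rc_19_0 lc_c_Cert_tree lc_c_rc_19_0 lc_c_rc_21_2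 lc_c_rc_19_0 lc_c_rc_21_2 lc_c_rc_21_2 lc_c_rc_19_0 lc_c_rc_21_2 lc_c_rc_21_2 lc_c_rc_20_2 lc_c_rc_21_0 lc_c_rc_22_2 lc_c_rc_22_2 lc_c_rc_11_3 lc_c_rc_11_3 lc_c_rc_26_2 lc_c_rc_22_2 lc_c_rc_25_2 lc_c_rc_20_4 lc_c_rc_22_2 lc_c_Cert_tree lc_c_rc_2_1 lc_c_rc_2_1 lc_c_rc_19_0 lc_c_rc_22_0 lc_c_rc_11_3) (@D3.rec (fun _ => (Cert rels S Gen.c)) lc_c_Cert_tree lc_c_rc_20_2 lc_c_rc_26_2 lc_c_rc_22_2 lc_c_rc_26_2 lc_c_rc_22_2 lc_c_Cert_tree lc_c_rc_21_2 lc_c_rc_22_2 lc_c_Cert_tree lc_c_rc_19_0 lc_c_rc_22_2 lc_c_rc_23_2 lc_c_rc_23_2 lc_c_Cert_tree lc_c_rc_11_3 lc_c_rc_26_2 lc_c_rc_22_2 lc_c_Cert_tree lc_c_rc_24_2 lc_c_rc_22_2 lc_c_Cert_tree lc_c_rc_19_0 lc_c_rc_21_2 lc_c_Cert_tree lc_c_rc_21_2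 lc_c_rc_22_2 lc_c_rc_26_2 lc_c_Cert_tree lc_c_rc_22_2 lc_c_Cert_tree lc_c_rc_19_0 lc_c_rc_22_2 lc_c_Cert_tree lc_c_rc_19_0 lc_c_rc_21_2 lc_c_rc_11_3 lc_c_rc_22_2 lc_c_rc_23_2 lc_c_rc_24_2 lc_c_Cert_tree lc_c_rc_19_0 lc_c_rc_21_2 lc_c_rc_25_2 lc_c_rc_22_2 lc_c_rc_21_2 lc_c_Cert_tree lc_c_rc_19_0 lc_c_rc_21_2 lc_c_rc_24_0 lc_c_rc_21_2) (@D3.rec (fun _ => (Cert rels S Gen.c)) lc_c_rc_19_0 lc_c_rc_22_2 lc_c_rc_24_2 lc_c_rc_26_2 lc_c_rc_22_2 lc_c_Cert_tree lc_c_rc_19_0 lc_c_rc_22_2 lc_c_Cert_tree lc_c_rc_19_0 lc_c_rc_2_1 lc_c_rc_20_2 lc_c_rc_22_2 lc_c_Cert_tree lc_c_rc_20_2 lc_c_rc_25_2 lc_c_rc_22_2 lc_c_rc_25_2 lc_c_Cert_tree lc_c_rc_26_2 lc_c_rc_22_2 lc_c_Cert_tree lc_c_rc_19_0 lc_c_rc_21_2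 lc_c_rc_22_2 lc_c_Cert_tree lc_c_rc_19_0 lc_c_rc_21_2 lc_c_rc_11_3 lc_c_Cert_tree lc_c_rc_20_2 lc_c_rc_23_2 lc_c_Cert_tree lc_c_rc_21_2 lc_c_Cert_tree lc_c_rc_19_0 lc_c_rc_21_2 lc_c_rc_23_2 lc_c_rc_23_2 lc_c_rc_23_2 lc_c_rc_23_2 lc_c_Cert_tree lc_c_Cert_tree lc_c_rc_19_0 lc_c_rc_21_2 lc_c_rc_22_2 lc_c_Cert_tree lc_c_rc_19_0 lc_c_rc_21_2 lc_c_rc_11_3 lc_c_rc_21_2) (@D3.rec (fun _ => (Cert rels S Gen.c)) lc_c_rc_23_2 lc_c_Cert_tree lc_c_rc_19_0 lc_c_rc_21_2 lc_c_rc_11_3 lc_c_rc_21_2 lc_c_rc_2_1 lc_c_rc_25_2 lc_c_rc_22_2 lc_c_Cert_tree lc_c_rc_19_0 lc_c_rc_21_2 lc_c_Cert_tree lc_c_rc_19_0 lc_c_rc_21_2 lc_c_rc_11_3 lc_c_rc_21_2 lc_c_rc_2_1 lc_c_rc_20_2 lc_c_rc_21_2 lc_c_rc_25_2 lc_c_rc_24_2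 lc_c_rc_21_2 lc_c_rc_21_2 lc_c_rc_19_0 lc_c_rc_21_2 lc_c_rc_21_2 lc_c_rc_2_1 lc_c_rc_11_3 lc_c_rc_20_2 lc_c_rc_11_1 lc_c_rc_11_1 lc_c_rc_19_0 lc_c_rc_21_2 lc_c_rc_24_2 lc_c_rc_21_2 lc_c_rc_23_2 lc_c_rc_2_1 lc_c_rc_11_3 lc_c_rc_25_2 lc_c_rc_21_2 lc_c_rc_20_2 lc_c_rc_2_1 lc_c_Cert_tree lc_c_rc_20_0 lc_c_rc_19_0 lc_c_rc_21_2 lc_c_rc_21_2 lc_c_rc_23_2 lc_c_rc_23_2 lc_c_rc_21_2) (@D3.rec (fun _ => (Cert rels S Gen.c)) lc_c_Cert_tree lc_c_rc_19_0 lc_c_rc_21_2 lc_c_rc_23_2 lc_c_rc_21_2 lc_c_Cert_tree lc_c_rc_19_0 lc_c_Cert_tree lc_c_Cert_tree lc_c_rc_19_0 lc_c_rc_19_0 lc_c_Cert_tree lc_c_Cert_tree lc_c_rc_19_0 lc_c_rc_11_3 lc_c_Cert_tree lc_c_rc_22_2 lc_c_Cert_tree lc_c_rc_22_2 lc_c_Cert_tree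 lc_c_rc_19_0 lc_c_Cert_tree lc_c_rc_19_0 lc_c_rc_11_3 lc_c_rc_11_1 lc_c_rc_20_2 lc_c_rc_21_2 lc_c_rc_22_2 lc_c_rc_20_2 lc_c_Cert_tree lc_c_Cert_tree lc_c_rc_19_0 lc_c_rc_19_0 lc_c_rc_21_2 lc_c_Cert_tree lc_c_rc_21_2 lc_c_rc_19_0 lc_c_rc_21_2 lc_c_rc_11_3 lc_c_rc_24_2 lc_c_Cert_tree lc_c_rc_19_0 lc_c_rc_22_2 lc_c_Cert_tree lc_c_rc_21_2 lc_c_rc_19_0 lc_c_rc_21_2 lc_c_rc_25_2 lc_c_rc_22_2 lc_c_rc_22_2 lc_c_rc_25_2) (@D3.rec (fun _ => (Cert rels S Gen.c)) lc_c_Cert_tree lc_c_rc_21_2 lc_c_rc_2_1 lc_c_rc_20_2 lc_c_rc_22_2 lc_c_rc_22_2 lc_c_Cert_tree lc_c_rc_21_2 lc_c_Cert_tree lc_c_rc_19_0 lc_c_rc_26_2 lc_c_Cert_tree lc_c_rc_2_1 lc_c_rc_22_2 lc_c_Cert_tree lc_c_Cert_tree lc_c_rc_19_0 lc_c_rc_21_2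 lc_c_rc_21_2 lc_c_rc_19_0 lc_c_rc_11_3 lc_c_rc_25_2 lc_c_rc_23_2 lc_c_rc_23_2 lc_c_rc_23_2 lc_c_rc_21_2 lc_c_rc_24_2 lc_c_rc_21_2 lc_c_rc_2_1 lc_c_rc_22_2 lc_c_rc_19_0 lc_c_rc_22_0 lc_c_Cert_tree lc_c_rc_19_0 lc_c_rc_21_2 lc_c_rc_21_2 lc_c_rc_22_2 lc_c_rc_23_2 lc_c_rc_11_3 lc_c_rc_22_0 lc_c_rc_2_1 lc_c_rc_11_3 lc_c_Cert_tree lc_c_rc_22_2 lc_c_Cert_tree lc_c_rc_21_2 lc_c_rc_19_0 lc_c_rc_20_2 lc_c_rc_22_2 lc_c_rc_20_2 lc_c_Cert_tree) (@D3.rec (fun _ => (Cert rels S Gen.c)) lc_c_rc_20_2 lc_c_rc_11_3 lc_c_rc_20_2 lc_c_rc_24_0 lc_c_rc_22_2 lc_c_Cert_tree lc_c_rc_23_0 lc_c_rc_19_0 lc_c_rc_24_2 lc_c_rc_11_3 lc_c_Cert_tree lc_c_rc_21_2 lc_c_rc_22_2 lc_c_rc_22_2 lc_c_Cert_tree lc_c_Cert_tree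 lc_c_rc_19_0 lc_c_rc_21_2 lc_c_Cert_tree lc_c_rc_19_0 lc_c_rc_11_3 lc_c_rc_22_2 lc_c_Cert_tree lc_c_rc_22_2 lc_c_Cert_tree lc_c_rc_19_0 lc_c_rc_11_3 lc_c_Cert_tree lc_c_rc_21_2 lc_c_rc_25_2 lc_c_rc_22_2 lc_c_rc_24_0 lc_c_Cert_tree lc_c_Cert_tree lc_c_rc_19_0 lc_c_rc_21_2 lc_c_rc_22_2 lc_c_rc_19_0 lc_c_rc_11_3 lc_c_rc_2_1 lc_c_Cert_tree lc_c_rc_22_2 lc_c_rc_24_2 lc_c_Cert_tree lc_c_rc_11_3 lc_c_Cert_tree lc_c_rc_19_0 lc_c_rc_21_2 lc_c_rc_23_2 lc_c_rc_22_2 lc_c_Cert_tree) (@D3.rec (fun _ => (Cert rels S Gen.c)) lc_c_Cert_tree lc_c_rc_19_0 lc_c_rc_21_2 lc_c_rc_22_2 lc_c_Cert_tree lc_c_rc_19_0 lc_c_rc_21_2 lc_c_rc_11_3 lc_c_rc_21_2 lc_c_rc_23_2 lc_c_Cert_tree lc_c_rc_19_0 lc_c_rc_11_3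 lc_c_rc_2_1 lc_c_rc_2_1 lc_c_rc_20_2 lc_c_rc_11_3 lc_c_rc_21_2 lc_c_rc_24_2 lc_c_rc_23_2 lc_c_rc_21_2 lc_c_rc_23_2 lc_c_rc_21_2 lc_c_rc_23_2 lc_c_rc_24_2 lc_c_rc_22_2 lc_c_rc_23_2 lc_c_rc_21_2 lc_c_rc_21_0 lc_c_rc_20_0 lc_c_rc_55_28 lc_c_rc_23_2 lc_c_Cert_tree lc_c_Cert_tree lc_c_Cert_tree lc_c_rc_21_2 lc_c_rc_19_0 lc_c_rc_23_2 lc_c_rc_21_2 lc_c_rc_23_2 lc_c_rc_23_2 lc_c_rc_22_2 lc_c_Cert_tree lc_c_rc_21_2 lc_c_rc_19_0 lc_c_rc_23_2 lc_c_rc_19_0 lc_c_rc_23_2 lc_c_rc_22_2 lc_c_rc_22_2 lc_c_Cert_tree) (@D3.rec (fun _ => (Cert rels S Gen.c)) lc_c_Cert_tree lc_c_rc_19_0 lc_c_rc_21_2 lc_c_rc_23_2 lc_c_rc_19_0 lc_c_rc_11_3 lc_c_rc_21_2 lc_c_rc_23_2 lc_c_rc_24_2 lc_c_rc_26_2 lc_c_rc_21_2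 lc_c_rc_22_0 lc_c_rc_24_2 lc_c_rc_22_2 lc_c_Cert_tree lc_c_rc_21_2 lc_c_rc_19_0 lc_c_Cert_tree lc_c_rc_19_0 lc_c_rc_19_0 lc_c_rc_21_2 lc_c_rc_23_2 lc_c_rc_11_3 lc_c_Cert_tree lc_c_rc_21_2 lc_c_rc_25_2 lc_c_Cert_tree lc_c_rc_19_0 lc_c_rc_21_2 lc_c_rc_23_2 lc_c_rc_11_3 lc_c_rc_23_2 lc_c_Cert_tree lc_c_rc_21_2 lc_c_Cert_tree lc_c_rc_19_0 lc_c_Cert_tree lc_c_rc_23_2 lc_c_rc_19_0 lc_c_rc_21_2 lc_c_rc_11_3 lc_c_Cert_tree lc_c_rc_26_0 lc_c_Cert_tree lc_c_Cert_tree lc_c_rc_19_0 lc_c_rc_21_2 lc_c_rc_26_0 lc_c_Cert_tree lc_c_rc_19_0 lc_c_rc_21_2) (@D3.rec (fun _ => (Cert rels S Gen.c)) lc_c_Cert_tree lc_c_rc_19_0 lc_c_rc_21_2 lc_c_rc_11_3 lc_c_rc_21_2 lc_c_rc_23_2 lc_c_rc_24_2 lc_c_rc_19_0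 lc_c_rc_11_3 lc_c_rc_2_1 lc_c_rc_20_0 lc_c_rc_21_2 lc_c_rc_22_2 lc_c_Cert_tree lc_c_rc_19_0 lc_c_rc_11_3 lc_c_rc_19_0 lc_c_Cert_tree lc_c_rc_19_0 lc_c_rc_19_0 lc_c_rc_11_3 lc_c_rc_22_2 lc_c_Cert_tree lc_c_rc_23_2 lc_c_Cert_tree lc_c_rc_19_0 lc_c_rc_21_2 lc_c_Cert_tree lc_c_rc_22_2 lc_c_Cert_tree lc_c_Cert_tree lc_c_rc_19_0 lc_c_Cert_tree lc_c_rc_19_0 lc_c_rc_11_3 lc_c_rc_22_2 lc_c_Cert_tree lc_c_Cert_tree lc_c_rc_19_0 lc_c_Cert_tree lc_c_rc_19_0 lc_c_rc_19_0 lc_c_rc_21_2 lc_c_rc_11_3 lc_c_rc_11_3 lc_c_rc_2_1 lc_c_rc_23_2 lc_c_rc_21_2 lc_c_rc_21_2 lc_c_Cert_tree lc_c_rc_21_2) (@D3.rec (fun _ => (Cert rels S Gen.c)) lc_c_rc_19_0 lc_c_rc_19_0 lc_c_rc_11_3 lc_c_Cert_tree lc_c_Cert_tree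 lc_c_rc_19_0 lc_c_Cert_tree lc_c_rc_19_0 lc_c_rc_11_3 lc_c_Cert_tree lc_c_Cert_tree lc_c_rc_19_0 lc_c_Cert_tree lc_c_rc_19_0 lc_c_rc_11_3 lc_c_rc_2_1 lc_c_rc_22_2 lc_c_rc_56_30 lc_c_rc_24_2 lc_c_Cert_tree lc_c_rc_19_0 lc_c_rc_21_2 lc_c_rc_26_2 lc_c_Cert_tree lc_c_rc_19_0 lc_c_rc_21_2 lc_c_rc_11_3 lc_c_rc_22_2 lc_c_Cert_tree lc_c_Cert_tree lc_c_rc_19_0 lc_c_Cert_tree lc_c_Cert_tree lc_c_rc_19_0 lc_c_rc_11_3 lc_c_Cert_tree lc_c_rc_22_2 lc_c_rc_22_2 lc_c_Cert_tree lc_c_Cert_tree lc_c_rc_19_0 lc_c_rc_20_2 lc_c_rc_22_2 lc_c_rc_24_0 lc_c_Cert_tree lc_c_Cert_tree lc_c_rc_19_0 lc_c_rc_22_2 lc_c_Cert_tree lc_c_rc_19_0 lc_c_rc_21_2) (@D3.rec (fun _ => (Cert rels S Gen.c)) lc_c_rc_11_3 lc_c_Cert_tree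 lc_c_rc_19_0 lc_c_rc_11_3 lc_c_rc_2_1 lc_c_rc_19_0 lc_c_rc_19_0 lc_c_rc_21_2 lc_c_rc_20_2 lc_c_rc_21_2 lc_c_Cert_tree lc_c_rc_19_0 lc_c_Cert_tree lc_c_rc_19_0 lc_c_rc_21_2 lc_c_rc_11_3 lc_c_Cert_tree lc_c_rc_19_0 lc_c_rc_19_0 lc_c_rc_19_0 lc_c_rc_21_2 lc_c_rc_11_3 lc_c_rc_21_2 lc_c_rc_23_2 lc_c_rc_24_2 lc_c_Cert_tree lc_c_rc_19_0 lc_c_rc_11_3 lc_c_rc_2_1 lc_c_Cert_tree lc_c_rc_19_0 lc_c_Cert_tree lc_c_rc_19_0 lc_c_rc_21_2 lc_c_rc_11_3 lc_c_rc_22_2 lc_c_Cert_tree lc_c_Cert_tree lc_c_rc_19_0 lc_c_rc_21_2 lc_c_rc_19_0 lc_c_rc_11_3 lc_c_Cert_tree lc_c_rc_19_0 lc_c_rc_21_2 lc_c_rc_11_3 lc_c_rc_21_2 lc_c_rc_23_2 lc_c_rc_2_1 lc_c_rc_11_3 lc_c_rc_23_2) (@D3.rec (fun _ => (Cert rels S Gen.c))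 lc_c_rc_19_0 lc_c_rc_11_3 lc_c_rc_2_1 lc_c_rc_19_0 lc_c_rc_21_2 lc_c_rc_21_2 lc_c_rc_24_2 lc_c_rc_21_2 lc_c_rc_21_2 lc_c_rc_21_2 lc_c_rc_20_2 lc_c_rc_2_3 lc_c_rc_24_2 lc_c_rc_24_2 lc_c_rc_21_2 lc_c_rc_20_2 lc_c_rc_21_2 lc_c_rc_20_2 lc_c_rc_22_0 lc_c_rc_24_2 lc_c_rc_22_2 lc_c_rc_21_2 lc_c_rc_23_2 lc_c_rc_23_2 lc_c_rc_21_2 lc_c_Cert_tree lc_c_rc_23_2 lc_c_rc_21_2 lc_c_Cert_tree lc_c_rc_22_2 lc_c_Cert_tree lc_c_Cert_tree lc_c_rc_19_0 lc_c_rc_23_2 lc_c_rc_19_0 lc_c_rc_21_2 lc_c_rc_21_2 lc_c_Cert_tree lc_c_rc_19_0 lc_c_Cert_tree lc_c_Cert_tree lc_c_rc_19_0 lc_c_rc_20_2 lc_c_rc_21_2 lc_c_rc_19_0 lc_c_rc_19_0 lc_c_rc_21_2 lc_c_Cert_tree lc_c_rc_19_0 lc_c_rc_21_2 lc_c_rc_11_3) (@D3.rec (fun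 _ => (Cert rels S Gen.c)) lc_c_rc_26_0 lc_c_rc_24_2 lc_c_rc_21_2 lc_c_rc_11_3 lc_c_rc_20_2 lc_c_rc_23_2 lc_c_rc_22_2 lc_c_rc_24_2 lc_c_rc_24_2 lc_c_rc_20_2 lc_c_rc_26_2 lc_c_rc_22_2 lc_c_rc_20_2 lc_c_rc_22_2 lc_c_Cert_tree lc_c_rc_24_2 lc_c_rc_20_2 lc_c_rc_22_2 lc_c_rc_20_2 lc_c_rc_21_2 lc_c_rc_21_2 lc_c_Cert_tree lc_c_rc_22_0 lc_c_rc_22_2 lc_c_Cert_tree lc_c_rc_21_2 lc_c_Cert_tree lc_c_rc_19_0 lc_c_rc_21_2 lc_c_rc_25_2 lc_c_Cert_tree lc_c_rc_19_0 lc_c_rc_23_2 lc_c_rc_19_0 lc_c_rc_21_2 lc_c_Cert_tree lc_c_rc_22_2 lc_c_Cert_tree lc_c_rc_21_2 lc_c_rc_24_2 lc_c_Cert_tree lc_c_rc_19_0 lc_c_rc_23_2 lc_c_rc_22_2 lc_c_Cert_tree lc_c_rc_21_2 lc_c_rc_24_0 lc_c_rc_23_2 lc_c_rc_24_0 lc_c_Cert_tree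 lc_c_Cert_tree) (@D3.rec (fun _ => (Cert rels S Gen.c)) lc_c_rc_19_0 lc_c_rc_21_2 lc_c_rc_23_2 lc_c_rc_19_0 lc_c_rc_21_2 lc_c_rc_11_3 lc_c_Cert_tree lc_c_rc_19_0 lc_c_rc_20_2 lc_c_rc_23_2 lc_c_Cert_tree lc_c_rc_19_0 lc_c_rc_21_2 lc_c_rc_19_0 lc_c_rc_21_2 lc_c_rc_23_2 lc_c_rc_24_2 lc_c_rc_21_2 lc_c_rc_19_0 lc_c_rc_21_2 lc_c_rc_21_2 lc_c_rc_21_2 lc_c_rc_20_2 lc_c_rc_23_2 lc_c_rc_21_0 lc_c_rc_20_2 lc_c_rc_21_2 lc_c_rc_24_2 lc_c_rc_22_2 lc_c_rc_23_2 lc_c_rc_24_2 lc_c_rc_21_2 lc_c_Cert_tree lc_c_rc_26_2 lc_c_rc_22_2 lc_c_rc_23_2 lc_c_rc_22_2 lc_c_rc_22_2 lc_c_rc_23_2 lc_c_Cert_tree lc_c_rc_23_2 lc_c_Cert_tree lc_c_rc_21_2 lc_c_Cert_tree lc_c_rc_19_0 lc_c_rc_21_2 lc_c_rc_22_2 lc_c_Cert_tree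 lc_c_Cert_tree lc_c_rc_22_2 lc_c_Cert_tree) (@D3.rec (fun _ => (Cert rels S Gen.c)) lc_c_rc_21_2 lc_c_Cert_tree lc_c_rc_19_0 lc_c_rc_21_2 lc_c_rc_23_2 lc_c_Cert_tree lc_c_rc_19_0 lc_c_rc_19_0 lc_c_rc_21_2 lc_c_rc_24_2 lc_c_Cert_tree lc_c_rc_19_0 lc_c_rc_21_2 lc_c_rc_11_3 lc_c_rc_2_3 lc_c_rc_21_2 lc_c_rc_22_0 lc_c_rc_11_3 lc_c_rc_11_3 lc_c_rc_20_2 lc_c_rc_26_2 lc_c_rc_22_2 lc_c_rc_24_2 lc_c_rc_20_2 lc_c_rc_22_2 lc_c_Cert_tree lc_c_rc_2_1 lc_c_rc_2_1 lc_c_rc_11_3 lc_c_Cert_tree lc_c_rc_22_2 lc_c_rc_22_2 lc_c_Cert_tree lc_c_rc_21_2 lc_c_Cert_tree lc_c_rc_19_0 lc_c_rc_23_2 lc_c_rc_24_0 lc_c_Cert_tree lc_c_rc_11_3 lc_c_rc_23_2 lc_c_rc_22_2 lc_c_Cert_tree lc_c_rc_21_2 lc_c_rc_22_2 lc_c_Cert_tree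 lc_c_rc_19_0 lc_c_rc_23_2 lc_c_Cert_tree lc_c_rc_21_2 lc_c_rc_23_2) (@D3.rec (fun _ => (Cert rels S Gen.c)) lc_c_rc_22_2 lc_c_Cert_tree lc_c_Cert_tree lc_c_rc_19_0 lc_c_rc_21_2 lc_c_rc_23_2 lc_c_rc_21_2 lc_c_Cert_tree lc_c_rc_19_0 lc_c_rc_21_2 lc_c_rc_11_3 lc_c_rc_23_2 lc_c_rc_20_2 lc_c_rc_19_0 lc_c_rc_21_2 lc_c_rc_25_2 lc_c_rc_21_2 lc_c_rc_21_2 lc_c_rc_23_2 lc_c_rc_23_2 lc_c_Cert_tree lc_c_rc_19_0 lc_c_rc_2_1 lc_c_rc_23_2 lc_c_Cert_tree lc_c_rc_21_2 lc_c_rc_19_0 lc_c_rc_21_2 lc_c_rc_23_2 lc_c_rc_22_2 lc_c_Cert_tree lc_c_rc_19_0 lc_c_rc_21_2 lc_c_rc_11_3 lc_c_rc_22_2 lc_c_Cert_tree lc_c_rc_21_2 lc_c_rc_23_0 lc_c_Cert_tree lc_c_Cert_tree lc_c_rc_19_0 lc_c_rc_21_2 lc_c_rc_21_2 lc_c_Cert_tree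 lc_c_rc_19_0 lc_c_rc_21_2 lc_c_rc_22_2 lc_c_Cert_tree lc_c_rc_19_0 lc_c_rc_11_3 lc_c_rc_21_2) (@D3.rec (fun _ => (Cert rels S Gen.c)) lc_c_rc_23_2 lc_c_rc_24_2 lc_c_Cert_tree lc_c_rc_19_0 lc_c_rc_21_2 lc_c_rc_11_3 lc_c_rc_21_2 lc_c_rc_2_1 lc_c_rc_23_2 lc_c_rc_24_2 lc_c_rc_20_2 lc_c_rc_21_2 lc_c_rc_11_3 lc_c_rc_21_2 lc_c_rc_21_2 lc_c_rc_11_3 lc_c_rc_20_2 lc_c_rc_21_2 lc_c_rc_25_2 lc_c_rc_11_3 lc_c_rc_21_2 lc_c_rc_21_2 lc_c_rc_22_0 lc_c_rc_20_0 lc_c_rc_23_2 lc_c_rc_20_0 lc_c_rc_23_2 lc_c_rc_22_2 lc_c_rc_21_2 lc_c_rc_22_2 lc_c_Cert_tree lc_c_rc_21_2 lc_c_rc_22_2 lc_c_rc_20_2 lc_c_rc_21_2 lc_c_Cert_tree lc_c_rc_20_2 lc_c_rc_21_2 lc_c_Cert_tree lc_c_Cert_tree lc_c_rc_21_2 lc_c_Cert_tree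 lc_c_rc_19_0 lc_c_rc_21_2 lc_c_rc_20_2 lc_c_rc_26_2 lc_c_rc_22_2 lc_c_rc_20_2 lc_c_rc_22_2 lc_c_Cert_tree lc_c_Cert_tree) (@D3.rec (fun _ => (Cert rels S Gen.c)) lc_c_rc_21_2 lc_c_rc_11_3 lc_c_rc_22_2 lc_c_Cert_tree lc_c_rc_21_2 lc_c_rc_21_2 lc_c_Cert_tree lc_c_rc_19_0 lc_c_rc_23_2 lc_c_rc_23_2 lc_c_rc_19_0 lc_c_rc_21_2 lc_c_Cert_tree lc_c_rc_19_0 lc_c_Cert_tree lc_c_rc_23_0 lc_c_Cert_tree lc_c_rc_19_0 lc_c_rc_21_2 lc_c_rc_23_2 lc_c_Cert_tree lc_c_rc_19_0 lc_c_rc_21_2 lc_c_rc_11_3 lc_c_rc_26_0 lc_c_rc_21_2 lc_c_rc_21_2 lc_c_Cert_tree lc_c_Cert_tree lc_c_rc_20_2 lc_c_rc_11_3 lc_c_rc_22_2 lc_c_Cert_tree lc_c_rc_21_2 lc_c_rc_19_0 lc_c_rc_24_2 lc_c_rc_20_2 lc_c_rc_26_2 lc_c_rc_22_2 lc_c_rc_26_2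 lc_c_rc_22_2 lc_c_Cert_tree lc_c_rc_22_2 lc_c_Cert_tree lc_c_rc_21_2 lc_c_rc_23_2 lc_c_rc_22_2 lc_c_rc_22_2 lc_c_Cert_tree lc_c_rc_21_2 lc_c_Cert_tree) (@D3.rec (fun _ => (Cert rels S Gen.c)) lc_c_rc_19_0 lc_c_rc_20_2 lc_c_rc_19_0 lc_c_rc_21_2 lc_c_Cert_tree lc_c_Cert_tree lc_c_rc_21_2 lc_c_Cert_tree lc_c_rc_19_0 lc_c_Cert_tree lc_c_rc_19_0 lc_c_rc_21_2 lc_c_Cert_tree lc_c_rc_19_0 lc_c_rc_21_2 lc_c_rc_23_2 lc_c_rc_19_0 lc_c_rc_21_2 lc_c_rc_11_3 lc_c_rc_23_2 lc_c_rc_19_0 lc_c_rc_21_2 lc_c_rc_21_0 lc_c_rc_21_2 lc_c_rc_20_2 lc_c_rc_21_2 lc_c_rc_21_2 lc_c_rc_20_2 lc_c_rc_26_2 lc_c_rc_22_2 lc_c_rc_26_2 lc_c_rc_22_2 lc_c_Cert_tree lc_c_rc_26_2 lc_c_Cert_tree lc_c_rc_26_2 lc_c_rc_22_2 lc_c_rc_22_2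 lc_c_Cert_tree lc_c_rc_21_2 lc_c_Cert_tree lc_c_rc_19_0 lc_c_Cert_tree lc_c_rc_20_2 lc_c_rc_22_2 lc_c_Cert_tree lc_c_rc_21_2 lc_c_Cert_tree lc_c_rc_19_0 lc_c_rc_22_2 lc_c_Cert_tree)
def ce_c_18 : D2 → D3 → (Cert rels S Gen.c) := @D2.rec (fun _ => D3 → (Cert rels S Gen.c)) (@D3.rec (fun _ => (Cert rels S Gen.c)) lc_c_rc_21_2 lc_c_rc_26_2 lc_c_Cert_tree lc_c_Cert_tree lc_c_rc_19_0 lc_c_rc_21_2 lc_c_rc_23_2 lc_c_Cert_tree lc_c_rc_19_0 lc_c_rc_21_2 lc_c_rc_11_3 lc_c_rc_21_2 lc_c_rc_23_2 lc_c_rc_21_2 lc_c_rc_23_2 lc_c_rc_21_2 lc_c_Cert_tree lc_c_rc_19_0 lc_c_rc_25_2 lc_c_rc_22_2 lc_c_rc_25_2 lc_c_Cert_tree lc_c_Cert_tree lc_c_rc_19_0 lc_c_rc_21_2 lc_c_rc_19_0 lc_c_rc_21_2 lc_c_rc_11_3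 lc_c_rc_22_2 lc_c_Cert_tree lc_c_rc_22_2 lc_c_rc_22_2 lc_c_Cert_tree lc_c_Cert_tree lc_c_rc_19_0 lc_c_rc_21_2 lc_c_rc_26_0 lc_c_rc_23_2 lc_c_Cert_tree lc_c_Cert_tree lc_c_rc_19_0 lc_c_rc_21_2 lc_c_Cert_tree lc_c_rc_19_0 lc_c_rc_21_2 lc_c_rc_11_3 lc_c_rc_21_2 lc_c_rc_23_2 lc_c_rc_23_2 lc_c_Cert_tree lc_c_rc_19_0) (@D3.rec (fun _ => (Cert rels S Gen.c)) lc_c_rc_21_2 lc_c_rc_11_3 lc_c_rc_21_2 lc_c_rc_2_1 lc_c_rc_2_3 lc_c_rc_21_2 lc_c_rc_20_2 lc_c_rc_21_2 lc_c_rc_21_2 lc_c_rc_11_1 lc_c_rc_20_2 lc_c_rc_20_2 lc_c_Cert_tree lc_c_rc_20_0 lc_c_rc_20_4 lc_c_rc_21_2 lc_c_rc_25_2 lc_c_rc_21_0 lc_c_rc_20_0 lc_c_rc_19_0 lc_c_rc_21_2 lc_c_rc_21_2 lc_c_rc_23_2 lc_c_rc_23_2 lc_c_Cert_tree lc_c_Cert_tree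 lc_c_rc_21_2 lc_c_rc_19_0 lc_c_Cert_tree lc_c_rc_19_0 lc_c_rc_19_0 lc_c_rc_21_2 lc_c_rc_11_3 lc_c_rc_22_2 lc_c_Cert_tree lc_c_Cert_tree lc_c_rc_21_2 lc_c_Cert_tree lc_c_rc_19_0 lc_c_rc_22_2 lc_c_Cert_tree lc_c_Cert_tree lc_c_rc_19_0 lc_c_rc_19_0 lc_c_rc_21_2 lc_c_rc_11_3 lc_c_rc_21_2 lc_c_Cert_tree lc_c_Cert_tree lc_c_rc_19_0 lc_c_rc_19_0) (@D3.rec (fun _ => (Cert rels S Gen.c)) lc_c_rc_19_0 lc_c_rc_21_2 lc_c_rc_11_3 lc_c_rc_19_0 lc_c_rc_19_0 lc_c_rc_19_0 lc_c_rc_11_3 lc_c_Cert_tree lc_c_rc_19_0 lc_c_rc_21_2 lc_c_rc_11_3 lc_c_rc_21_2 lc_c_rc_2_1 lc_c_rc_23_2 lc_c_rc_20_2 lc_c_rc_23_2 lc_c_rc_22_2 lc_c_Cert_tree lc_c_rc_19_0 lc_c_Cert_tree lc_c_Cert_tree lc_c_rc_23_2 lc_c_rc_19_0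 lc_c_Cert_tree lc_c_rc_19_0 lc_c_rc_21_2 lc_c_rc_11_3 lc_c_rc_22_2 lc_c_Cert_tree lc_c_rc_22_2 lc_c_Cert_tree lc_c_rc_21_2 lc_c_Cert_tree lc_c_rc_19_0 lc_c_rc_23_2 lc_c_Cert_tree lc_c_rc_24_2 lc_c_Cert_tree lc_c_rc_19_0 lc_c_rc_19_0 lc_c_rc_21_2 lc_c_rc_11_3 lc_c_Cert_tree lc_c_rc_19_0 lc_c_rc_21_2 lc_c_rc_21_2 lc_c_rc_22_2 lc_c_Cert_tree lc_c_Cert_tree lc_c_rc_19_0 lc_c_rc_23_2) (@D3.rec (fun _ => (Cert rels S Gen.c)) lc_c_Cert_tree lc_c_rc_22_2 lc_c_Cert_tree lc_c_rc_19_0 lc_c_Cert_tree lc_c_rc_19_0 lc_c_rc_21_2 lc_c_rc_11_3 lc_c_rc_22_2 lc_c_Cert_tree lc_c_rc_19_0 lc_c_rc_23_2 lc_c_Cert_tree lc_c_Cert_tree lc_c_rc_19_0 lc_c_rc_19_0 lc_c_rc_21_2 lc_c_rc_11_3 lc_c_rc_11_3 lc_c_rc_21_2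 lc_c_rc_2_1 lc_c_Cert_tree lc_c_rc_19_0 lc_c_rc_21_2 lc_c_rc_19_0 lc_c_rc_21_2 lc_c_rc_21_2 lc_c_rc_21_2 lc_c_rc_20_2 lc_c_rc_21_2 lc_c_rc_23_2 lc_c_rc_20_0 lc_c_rc_20_2 lc_c_Cert_tree lc_c_rc_11_3 lc_c_rc_22_2 lc_c_Cert_tree lc_c_rc_22_2 lc_c_Cert_tree lc_c_rc_19_0 lc_c_rc_2_1 lc_c_Cert_tree lc_c_rc_22_2 lc_c_rc_11_3 lc_c_Cert_tree lc_c_rc_19_0 lc_c_rc_21_2 lc_c_rc_22_2 lc_c_rc_26_2 lc_c_Cert_tree lc_c_rc_22_2) (@D3.rec (fun _ => (Cert rels S Gen.c)) lc_c_Cert_tree lc_c_rc_19_0 lc_c_rc_21_2 lc_c_rc_23_2 lc_c_Cert_tree lc_c_rc_19_0 lc_c_rc_21_2 lc_c_rc_11_3 lc_c_Cert_tree lc_c_rc_24_2 lc_c_Cert_tree lc_c_rc_19_0 lc_c_Cert_tree lc_c_rc_22_2 lc_c_Cert_tree lc_c_rc_19_0 lc_c_rc_24_2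 lc_c_Cert_tree lc_c_rc_19_0 lc_c_rc_21_2 lc_c_rc_11_3 lc_c_Cert_tree lc_c_rc_19_0 lc_c_rc_22_2 lc_c_Cert_tree lc_c_Cert_tree lc_c_rc_19_0 lc_c_Cert_tree lc_c_rc_19_0 lc_c_rc_21_2 lc_c_rc_11_3 lc_c_Cert_tree lc_c_rc_19_0 lc_c_rc_21_2 lc_c_rc_11_3 lc_c_rc_21_2 lc_c_rc_2_1 lc_c_rc_24_2 lc_c_Cert_tree lc_c_rc_19_0 lc_c_rc_21_2 lc_c_rc_25_2 lc_c_rc_21_2 lc_c_rc_19_0 lc_c_rc_21_2 lc_c_rc_21_2 lc_c_rc_24_0 lc_c_rc_20_2 lc_c_Cert_tree lc_c_Cert_tree lc_c_rc_22_2) (@D3.rec (fun _ => (Cert rels S Gen.c)) lc_c_Cert_tree lc_c_rc_19_0 lc_c_rc_21_2 lc_c_rc_22_2 lc_c_Cert_tree lc_c_rc_19_0 lc_c_rc_21_2 lc_c_rc_11_3 lc_c_Cert_tree lc_c_Cert_tree lc_c_rc_19_0 lc_c_rc_22_2 lc_c_rc_25_2 lc_c_Cert_tree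 lc_c_Cert_tree lc_c_rc_19_0 lc_c_rc_22_2 lc_c_Cert_tree lc_c_rc_19_0 lc_c_rc_21_2 lc_c_rc_11_3 lc_c_rc_21_2 lc_c_Cert_tree lc_c_rc_19_0 lc_c_rc_21_2 lc_c_rc_11_3 lc_c_rc_21_2 lc_c_rc_2_1 lc_c_rc_19_0 lc_c_rc_22_2 lc_c_Cert_tree lc_c_rc_19_0 lc_c_Cert_tree lc_c_rc_19_0 lc_c_rc_21_2 lc_c_rc_11_3 lc_c_rc_21_2 lc_c_rc_25_2 lc_c_rc_23_2 lc_c_Cert_tree lc_c_Cert_tree lc_c_rc_19_0 lc_c_rc_21_2 lc_c_rc_19_0 lc_c_rc_21_2 lc_c_rc_11_3 lc_c_rc_21_2 lc_c_rc_23_2 lc_c_Cert_tree lc_c_rc_19_0 lc_c_rc_21_2) (@D3.rec (fun _ => (Cert rels S Gen.c)) lc_c_rc_11_3 lc_c_rc_21_2 lc_c_rc_23_2 lc_c_rc_2_1 lc_c_rc_11_3 lc_c_rc_23_2 lc_c_rc_19_0 lc_c_rc_21_2 lc_c_rc_11_3 lc_c_rc_21_2 lc_c_rc_2_1 lc_c_rc_11_3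 lc_c_rc_20_2 lc_c_rc_21_2 lc_c_rc_25_2 lc_c_rc_19_0 lc_c_rc_21_2 lc_c_rc_21_2 lc_c_rc_19_0 lc_c_rc_21_2 lc_c_rc_24_2 lc_c_rc_21_2 lc_c_rc_55_37 lc_c_rc_2_1 lc_c_rc_11_3 lc_c_rc_20_2 lc_c_rc_25_2 lc_c_rc_21_2 lc_c_rc_20_2 lc_c_rc_21_2 lc_c_rc_20_2 lc_c_rc_2_1 lc_c_Cert_tree lc_c_rc_22_2 lc_c_rc_11_1 lc_c_rc_21_2 lc_c_rc_24_2 lc_c_rc_24_2 lc_c_rc_56_30 lc_c_rc_23_2 lc_c_rc_2_1 lc_c_rc_25_2 lc_c_rc_23_2 lc_c_rc_22_0 lc_c_rc_22_2 lc_c_Cert_tree lc_c_rc_19_0 lc_c_rc_22_2 lc_c_rc_20_0 lc_c_rc_21_2 lc_c_rc_20_2) (@D3.rec (fun _ => (Cert rels S Gen.c)) lc_c_rc_23_2 lc_c_rc_19_0 lc_c_rc_21_2 lc_c_rc_21_2 lc_c_rc_25_2 lc_c_rc_19_0 lc_c_rc_11_3 lc_c_rc_19_0 lc_c_rc_19_0 lc_c_rc_11_3 lc_c_rc_11_3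 lc_c_rc_19_0 lc_c_rc_19_0 lc_c_rc_11_3 lc_c_Cert_tree lc_c_rc_19_0 lc_c_Cert_tree lc_c_rc_19_0 lc_c_Cert_tree lc_c_rc_19_0 lc_c_rc_21_2 lc_c_rc_11_3 lc_c_rc_19_0 lc_c_rc_11_3 lc_c_rc_2_1 lc_c_rc_11_1 lc_c_rc_21_2 lc_c_Cert_tree lc_c_rc_21_2 lc_c_rc_19_0 lc_c_rc_19_0 lc_c_rc_11_3 lc_c_rc_11_3 lc_c_Cert_tree lc_c_rc_19_0 lc_c_rc_21_2 lc_c_rc_11_3 lc_c_rc_21_2 lc_c_rc_2_1 lc_c_rc_19_0 lc_c_rc_11_3 lc_c_Cert_tree lc_c_rc_19_0 lc_c_rc_21_2 lc_c_rc_11_3 lc_c_rc_21_2 lc_c_rc_24_2 lc_c_Cert_tree lc_c_rc_22_2 lc_c_Cert_tree lc_c_rc_19_0) (@D3.rec (fun _ => (Cert rels S Gen.c)) lc_c_Cert_tree lc_c_rc_2_1 lc_c_rc_22_2 lc_c_Cert_tree lc_c_Cert_tree lc_c_rc_19_0 lc_c_rc_21_2 lc_c_rc_21_2 lc_c_rc_19_0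 lc_c_rc_11_3 lc_c_Cert_tree lc_c_rc_19_0 lc_c_rc_21_2 lc_c_rc_21_2 lc_c_Cert_tree lc_c_rc_19_0 lc_c_rc_21_2 lc_c_rc_19_0 lc_c_rc_21_2 lc_c_rc_11_3 lc_c_rc_21_2 lc_c_rc_23_2 lc_c_rc_11_3 lc_c_rc_2_1 lc_c_rc_2_1 lc_c_rc_21_2 lc_c_rc_24_2 lc_c_rc_24_2 lc_c_rc_23_2 lc_c_rc_2_1 lc_c_rc_22_2 lc_c_rc_23_2 lc_c_rc_22_0 lc_c_rc_19_0 lc_c_rc_21_2 lc_c_rc_21_2 lc_c_rc_24_2 lc_c_rc_23_2 lc_c_Cert_tree lc_c_rc_19_0 lc_c_rc_21_2 lc_c_Cert_tree lc_c_rc_19_0 lc_c_rc_21_2 lc_c_rc_11_3 lc_c_rc_22_2 lc_c_Cert_tree lc_c_rc_19_0 lc_c_rc_19_0 lc_c_rc_22_2 lc_c_Cert_tree) (@D3.rec (fun _ => (Cert rels S Gen.c)) lc_c_rc_21_2 lc_c_rc_24_0 lc_c_Cert_tree lc_c_rc_19_0 lc_c_rc_21_2 lc_c_rc_11_3 lc_c_Cert_tree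 lc_c_Cert_tree lc_c_rc_19_0 lc_c_rc_21_2 lc_c_Cert_tree lc_c_Cert_tree lc_c_rc_19_0 lc_c_rc_21_2 lc_c_rc_19_0 lc_c_rc_11_3 lc_c_rc_21_2 lc_c_rc_19_0 lc_c_rc_11_3 lc_c_rc_2_1 lc_c_Cert_tree lc_c_rc_19_0 lc_c_rc_21_2 lc_c_rc_23_2 lc_c_rc_19_0 lc_c_rc_21_2 lc_c_rc_11_3 lc_c_Cert_tree lc_c_rc_19_0 lc_c_rc_21_2 lc_c_rc_25_2 lc_c_Cert_tree lc_c_Cert_tree lc_c_rc_19_0 lc_c_rc_21_2 lc_c_rc_19_0 lc_c_rc_21_2 lc_c_rc_11_3 lc_c_rc_21_2 lc_c_rc_23_2 lc_c_rc_22_2 lc_c_rc_11_3 lc_c_rc_2_1 lc_c_Cert_tree lc_c_rc_19_0 lc_c_Cert_tree lc_c_Cert_tree lc_c_rc_19_0 lc_c_rc_21_2 lc_c_Cert_tree lc_c_rc_19_0) (@D3.rec (fun _ => (Cert rels S Gen.c)) lc_c_rc_21_2 lc_c_rc_11_3 lc_c_rc_21_2 lc_c_Cert_tree lc_c_Cert_tree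 lc_c_rc_19_0 lc_c_rc_21_2 lc_c_rc_19_0 lc_c_rc_21_2 lc_c_rc_11_3 lc_c_rc_21_2 lc_c_rc_23_2 lc_c_Cert_tree lc_c_rc_19_0 lc_c_rc_21_2 lc_c_rc_11_3 lc_c_rc_21_2 lc_c_rc_2_1 lc_c_rc_11_3 lc_c_rc_23_2 lc_c_rc_19_0 lc_c_rc_11_3 lc_c_rc_2_1 lc_c_rc_23_2 lc_c_rc_21_2 lc_c_rc_21_2 lc_c_rc_21_2 lc_c_rc_24_2 lc_c_rc_23_2 lc_c_rc_24_2 lc_c_rc_20_0 lc_c_rc_23_2 lc_c_rc_19_0 lc_c_rc_19_0 lc_c_rc_19_0 lc_c_rc_21_2 lc_c_rc_23_2 lc_c_rc_11_3 lc_c_rc_23_2 lc_c_Cert_tree lc_c_rc_19_0 lc_c_rc_21_2 lc_c_rc_23_2 lc_c_rc_11_3 lc_c_rc_11_3 lc_c_rc_23_2 lc_c_Cert_tree lc_c_Cert_tree lc_c_rc_19_0 lc_c_rc_21_2 lc_c_rc_19_0) (@D3.rec (fun _ => (Cert rels S Gen.c)) lc_c_rc_21_2 lc_c_rc_55_55 lc_c_rc_21_2 lc_c_rc_23_2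 lc_c_rc_24_2 lc_c_rc_11_3 lc_c_rc_2_1 lc_c_rc_23_2 lc_c_rc_26_2 lc_c_rc_23_2 lc_c_Cert_tree lc_c_rc_19_0 lc_c_rc_21_2 lc_c_rc_11_3 lc_c_rc_19_0 lc_c_rc_11_3 lc_c_rc_56_30 lc_c_rc_21_2 lc_c_rc_23_2 lc_c_rc_2_1 lc_c_rc_19_0 lc_c_rc_21_2 lc_c_rc_23_2 lc_c_Cert_tree lc_c_rc_19_0 lc_c_rc_21_2 lc_c_rc_11_3 lc_c_rc_21_2 lc_c_rc_23_2 lc_c_rc_2_1 lc_c_rc_19_0 lc_c_rc_21_2 lc_c_rc_19_0 lc_c_rc_21_2 lc_c_rc_11_3 lc_c_rc_19_0 lc_c_rc_21_2 lc_c_rc_11_3 lc_c_rc_21_2 lc_c_rc_2_1 lc_c_rc_19_0 lc_c_rc_21_2 lc_c_rc_19_0 lc_c_rc_21_2 lc_c_rc_19_0 lc_c_rc_11_3 lc_c_rc_21_2 lc_c_rc_23_2 lc_c_rc_19_0 lc_c_rc_21_2 lc_c_rc_11_3) (@D3.rec (fun _ => (Cert rels S Gen.c)) lc_c_rc_21_2 lc_c_rc_19_0 lc_c_rc_11_3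 lc_c_rc_21_2 lc_c_rc_2_1 lc_c_rc_11_3 lc_c_rc_23_2 lc_c_rc_24_2 lc_c_rc_11_3 lc_c_rc_2_1 lc_c_Cert_tree lc_c_rc_19_0 lc_c_rc_11_3 lc_c_rc_2_1 lc_c_rc_11_3 lc_c_rc_19_0 lc_c_rc_11_3 lc_c_rc_11_3 lc_c_rc_2_1 lc_c_Cert_tree lc_c_rc_19_0 lc_c_Cert_tree lc_c_rc_19_0 lc_c_rc_21_2 lc_c_rc_26_0 lc_c_Cert_tree lc_c_rc_19_0 lc_c_Cert_tree lc_c_rc_19_0 lc_c_rc_19_0 lc_c_rc_21_2 lc_c_rc_11_3 lc_c_rc_19_0 lc_c_rc_11_3 lc_c_rc_2_1 lc_c_Cert_tree lc_c_rc_19_0 lc_c_rc_19_0 lc_c_rc_21_2 lc_c_rc_11_3 lc_c_rc_19_0 lc_c_rc_21_2 lc_c_rc_11_3 lc_c_rc_11_3 lc_c_rc_21_2 lc_c_rc_2_1 lc_c_rc_2_1 lc_c_rc_21_2 lc_c_rc_19_0 lc_c_rc_21_2 lc_c_rc_2_3) (@D3.rec (fun _ => (Cert rels S Gen.c)) lc_c_rc_2_3 lc_c_rc_2_1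 lc_c_rc_19_0 lc_c_rc_19_0 lc_c_rc_21_2 lc_c_rc_11_3 lc_c_rc_19_0 lc_c_rc_11_3 lc_c_rc_2_1 lc_c_rc_19_0 lc_c_rc_19_0 lc_c_rc_11_3 lc_c_rc_19_0 lc_c_rc_11_3 lc_c_rc_2_1 lc_c_Cert_tree lc_c_rc_11_3 lc_c_Cert_tree lc_c_rc_19_0 lc_c_rc_21_2 lc_c_rc_21_2 lc_c_Cert_tree lc_c_rc_19_0 lc_c_rc_21_2 lc_c_rc_11_3 lc_c_rc_21_2 lc_c_rc_2_1 lc_c_Cert_tree lc_c_rc_19_0 lc_c_rc_19_0 lc_c_rc_21_2 lc_c_rc_11_3 lc_c_rc_19_0 lc_c_rc_19_0 lc_c_rc_11_3 lc_c_rc_2_1 lc_c_rc_19_0 lc_c_Cert_tree lc_c_Cert_tree lc_c_rc_19_0 lc_c_rc_19_0 lc_c_rc_21_2 lc_c_rc_11_3 lc_c_rc_22_2 lc_c_Cert_tree lc_c_Cert_tree lc_c_rc_19_0 lc_c_rc_21_2 lc_c_rc_19_0 lc_c_rc_11_3 lc_c_Cert_tree) (@D3.rec (fun _ => (Cert rels S Gen.c))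 lc_c_rc_19_0 lc_c_rc_21_2 lc_c_rc_11_3 lc_c_rc_21_2 lc_c_rc_2_1 lc_c_rc_19_0 lc_c_rc_11_3 lc_c_rc_2_1 lc_c_rc_21_2 lc_c_rc_21_2 lc_c_rc_19_0 lc_c_rc_21_2 lc_c_rc_11_3 lc_c_rc_19_0 lc_c_rc_21_2 lc_c_rc_11_3 lc_c_rc_21_2 lc_c_rc_2_1 lc_c_rc_19_0 lc_c_rc_21_2 lc_c_rc_11_3 lc_c_rc_11_3 lc_c_rc_11_3 lc_c_rc_21_2 lc_c_rc_23_2 lc_c_rc_2_1 lc_c_rc_2_3 lc_c_rc_23_2 lc_c_rc_24_2 lc_c_rc_19_0 lc_c_rc_56_44 lc_c_rc_2_1 lc_c_rc_19_0 lc_c_rc_11_3 lc_c_rc_19_0 lc_c_rc_21_2 lc_c_rc_11_3 lc_c_rc_21_2 lc_c_rc_2_1 lc_c_Cert_tree lc_c_rc_19_0 lc_c_rc_21_2 lc_c_rc_19_0 lc_c_rc_21_2 lc_c_rc_11_3 lc_c_rc_21_2 lc_c_rc_11_3 lc_c_rc_56_37 lc_c_rc_19_0 lc_c_rc_20_2 lc_c_rc_11_3) (@D3.rec (fun _ => (Cert rels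 S Gen.c)) lc_c_rc_21_2 lc_c_rc_20_2 lc_c_rc_2_1 lc_c_rc_11_3 lc_c_rc_23_2 lc_c_rc_20_4 lc_c_rc_11_3 lc_c_rc_11_3 lc_c_rc_2_1 lc_c_rc_21_2 lc_c_rc_21_2 lc_c_rc_24_2 lc_c_rc_21_2 lc_c_rc_20_0 lc_c_rc_24_2 lc_c_rc_23_2 lc_c_Cert_tree lc_c_rc_19_0 lc_c_rc_23_2 lc_c_Cert_tree lc_c_rc_19_0 lc_c_Cert_tree lc_c_rc_19_0 lc_c_rc_19_0 lc_c_rc_21_2 lc_c_rc_11_3 lc_c_rc_21_2 lc_c_rc_20_2 lc_c_rc_19_0 lc_c_rc_11_3 lc_c_rc_19_0 lc_c_rc_19_0 lc_c_rc_21_2 lc_c_rc_11_3 lc_c_rc_21_2 lc_c_rc_11_3 lc_c_rc_55_37 lc_c_Cert_tree lc_c_rc_19_0 lc_c_rc_21_2 lc_c_rc_11_3 lc_c_rc_21_2 lc_c_rc_2_1 lc_c_rc_23_0 lc_c_rc_20_2 lc_c_rc_20_0 lc_c_rc_23_2 lc_c_Cert_tree lc_c_rc_24_2 lc_c_Cert_tree lc_c_rc_22_2) (@D3.rec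 (fun _ => (Cert rels S Gen.c)) lc_c_rc_22_2 lc_c_Cert_tree lc_c_rc_21_2 lc_c_Cert_tree lc_c_rc_19_0 lc_c_Cert_tree lc_c_rc_22_2 lc_c_Cert_tree lc_c_rc_21_2 lc_c_rc_21_2 lc_c_Cert_tree lc_c_rc_19_0 lc_c_rc_11_3 lc_c_Cert_tree lc_c_rc_19_0 lc_c_rc_21_2 lc_c_rc_23_2 lc_c_rc_19_0 lc_c_rc_21_2 lc_c_rc_11_3 lc_c_rc_23_2 lc_c_Cert_tree lc_c_rc_19_0 lc_c_rc_21_2 lc_c_rc_21_2 lc_c_rc_19_0 lc_c_Cert_tree lc_c_rc_19_0 lc_c_rc_21_2 lc_c_rc_23_2 lc_c_Cert_tree lc_c_rc_19_0 lc_c_rc_21_2 lc_c_rc_11_3 lc_c_rc_23_2 lc_c_Cert_tree lc_c_rc_19_0 lc_c_rc_21_2 lc_c_rc_24_0 lc_c_Cert_tree lc_c_Cert_tree lc_c_rc_19_0 lc_c_rc_21_2 lc_c_rc_19_0 lc_c_rc_21_2 lc_c_rc_11_3 lc_c_rc_21_2 lc_c_rc_23_2 lc_c_rc_24_2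 lc_c_rc_11_3 lc_c_rc_21_2) (@D3.rec (fun _ => (Cert rels S Gen.c)) lc_c_rc_2_1 lc_c_rc_19_0 lc_c_rc_21_2 lc_c_rc_23_2 lc_c_rc_24_2 lc_c_rc_19_0 lc_c_rc_21_2 lc_c_rc_21_2 lc_c_rc_21_2 lc_c_rc_21_2 lc_c_rc_20_2 lc_c_rc_21_2 lc_c_rc_11_3 lc_c_rc_24_2 lc_c_rc_20_0 lc_c_rc_22_0 lc_c_rc_20_2 lc_c_rc_21_2 lc_c_rc_24_2 lc_c_rc_23_2 lc_c_Cert_tree lc_c_rc_19_0 lc_c_rc_22_2 lc_c_rc_26_0 lc_c_rc_23_2 lc_c_Cert_tree lc_c_Cert_tree lc_c_rc_21_2 lc_c_rc_19_0 lc_c_Cert_tree lc_c_rc_19_0 lc_c_rc_21_2 lc_c_rc_19_0 lc_c_rc_21_2 lc_c_rc_11_3 lc_c_Cert_tree lc_c_rc_19_0 lc_c_rc_19_0 lc_c_Cert_tree lc_c_rc_19_0 lc_c_rc_21_2 lc_c_rc_19_0 lc_c_rc_21_2 lc_c_rc_11_3 lc_c_Cert_tree lc_c_rc_19_0 lc_c_rc_11_3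 lc_c_rc_11_3 lc_c_rc_21_2 lc_c_Cert_tree lc_c_rc_19_0) (@D3.rec (fun _ => (Cert rels S Gen.c)) lc_c_rc_21_2 lc_c_rc_11_3 lc_c_rc_21_2 lc_c_rc_2_1 lc_c_rc_21_2 lc_c_rc_11_3 lc_c_rc_24_2 lc_c_rc_22_2 lc_c_rc_22_2 lc_c_Cert_tree lc_c_rc_24_2 lc_c_rc_22_2 lc_c_Cert_tree lc_c_rc_19_0 lc_c_rc_2_1 lc_c_rc_2_3 lc_c_Cert_tree lc_c_rc_19_0 lc_c_rc_21_2 lc_c_Cert_tree lc_c_Cert_tree lc_c_rc_19_0 lc_c_rc_21_2 lc_c_rc_23_2 lc_c_rc_19_0 lc_c_rc_21_2 lc_c_rc_11_3 lc_c_rc_23_2 lc_c_Cert_tree lc_c_rc_19_0 lc_c_Cert_tree lc_c_rc_21_2 lc_c_Cert_tree lc_c_rc_19_0 lc_c_rc_21_2 lc_c_rc_23_2 lc_c_Cert_tree lc_c_rc_19_0 lc_c_rc_21_2 lc_c_rc_11_3 lc_c_Cert_tree lc_c_rc_19_0 lc_c_rc_21_2 lc_c_Cert_tree lc_c_Cert_tree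 lc_c_rc_19_0 lc_c_rc_21_2 lc_c_rc_19_0 lc_c_rc_11_3 lc_c_rc_21_2 lc_c_rc_23_2) (@D3.rec (fun _ => (Cert rels S Gen.c)) lc_c_Cert_tree lc_c_rc_19_0 lc_c_rc_21_2 lc_c_rc_11_3 lc_c_rc_21_2 lc_c_rc_2_1 lc_c_rc_21_2 lc_c_rc_21_2 lc_c_rc_21_2 lc_c_rc_20_2 lc_c_rc_23_2 lc_c_Cert_tree lc_c_rc_19_0 lc_c_rc_21_2 lc_c_rc_11_3 lc_c_Cert_tree lc_c_rc_21_2 lc_c_rc_19_0 lc_c_rc_21_2 lc_c_rc_23_2 lc_c_rc_11_3 lc_c_rc_21_2 lc_c_rc_23_2 lc_c_rc_24_2 lc_c_Cert_tree lc_c_rc_19_0 lc_c_rc_21_2 lc_c_rc_11_3 lc_c_rc_21_2 lc_c_rc_2_1 lc_c_Cert_tree lc_c_rc_19_0 lc_c_rc_21_2 lc_c_Cert_tree lc_c_rc_19_0 lc_c_rc_21_2 lc_c_rc_19_0 lc_c_rc_11_3 lc_c_rc_21_2 lc_c_rc_23_2 lc_c_rc_19_0 lc_c_rc_21_2 lc_c_rc_11_3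 lc_c_rc_21_2 lc_c_rc_23_2 lc_c_Cert_tree lc_c_rc_19_0 lc_c_rc_11_3 lc_c_rc_2_1 lc_c_rc_11_3 lc_c_rc_23_2) (@D3.rec (fun _ => (Cert rels S Gen.c)) lc_c_rc_24_2 lc_c_rc_19_0 lc_c_rc_21_2 lc_c_rc_11_3 lc_c_rc_21_2 lc_c_rc_2_1 lc_c_rc_11_3 lc_c_rc_20_2 lc_c_rc_22_2 lc_c_rc_23_2 lc_c_rc_11_3 lc_c_rc_20_2 lc_c_Cert_tree lc_c_rc_22_2 lc_c_rc_20_0 lc_c_rc_23_0 lc_c_rc_22_2 lc_c_Cert_tree lc_c_rc_19_0 lc_c_Cert_tree lc_c_Cert_tree lc_c_rc_21_2 lc_c_Cert_tree lc_c_rc_19_0 lc_c_rc_21_2 lc_c_Cert_tree lc_c_rc_19_0 lc_c_rc_19_0 lc_c_rc_21_2 lc_c_rc_19_0 lc_c_rc_21_2 lc_c_rc_11_3 lc_c_rc_22_2 lc_c_rc_22_2 lc_c_Cert_tree lc_c_rc_21_2 lc_c_Cert_tree lc_c_rc_19_0 lc_c_rc_19_0 lc_c_Cert_tree lc_c_rc_11_3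 lc_c_Cert_tree lc_c_rc_19_0 lc_c_rc_21_2 lc_c_rc_23_2 lc_c_Cert_tree lc_c_rc_19_0 lc_c_rc_21_2 lc_c_rc_11_3 lc_c_rc_23_2 lc_c_rc_21_2) (@D3.rec (fun _ => (Cert rels S Gen.c)) lc_c_rc_19_0 lc_c_rc_11_3 lc_c_rc_19_0 lc_c_rc_21_2 lc_c_rc_19_0 lc_c_rc_21_2 lc_c_rc_11_3 lc_c_rc_21_2 lc_c_rc_23_2 lc_c_rc_19_0 lc_c_rc_21_2 lc_c_rc_11_3 lc_c_rc_21_2 lc_c_rc_2_1 lc_c_rc_20_2 lc_c_rc_19_0 lc_c_rc_19_0 lc_c_rc_22_2 lc_c_Cert_tree lc_c_Cert_tree lc_c_rc_19_0 lc_c_rc_21_2 lc_c_rc_11_3 lc_c_Cert_tree lc_c_rc_22_2 lc_c_rc_22_2 lc_c_Cert_tree lc_c_rc_26_2 lc_c_Cert_tree lc_c_rc_19_0 lc_c_Cert_tree lc_c_rc_19_0 lc_c_Cert_tree lc_c_rc_11_3 lc_c_Cert_tree lc_c_Cert_tree lc_c_rc_19_0 lc_c_rc_21_2 lc_c_rc_21_2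 lc_c_rc_19_0 lc_c_rc_21_2 lc_c_rc_11_3 lc_c_rc_21_2 lc_c_rc_19_0 lc_c_rc_19_0 lc_c_Cert_tree lc_c_rc_19_0 lc_c_rc_11_3 lc_c_rc_19_0 lc_c_rc_21_2 lc_c_rc_21_2) (@D3.rec (fun _ => (Cert rels S Gen.c)) lc_c_rc_21_2 lc_c_rc_19_0 lc_c_rc_21_2 lc_c_rc_11_3 lc_c_rc_21_2 lc_c_rc_23_2 lc_c_rc_11_3 lc_c_rc_21_2 lc_c_rc_2_1 lc_c_rc_21_2 lc_c_rc_11_3 lc_c_rc_20_2 lc_c_rc_20_0 lc_c_rc_22_2 lc_c_rc_22_2 lc_c_Cert_tree lc_c_Cert_tree lc_c_rc_19_0 lc_c_Cert_tree lc_c_rc_19_0 lc_c_rc_21_2 lc_c_rc_26_2 lc_c_Cert_tree lc_c_Cert_tree lc_c_rc_19_0 lc_c_rc_21_2 lc_c_rc_23_2 lc_c_rc_19_0 lc_c_rc_21_2 lc_c_rc_11_3 lc_c_rc_19_0 lc_c_rc_22_2 lc_c_Cert_tree lc_c_rc_19_0 lc_c_rc_21_2 lc_c_rc_19_0 lc_c_rc_21_2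 lc_c_rc_11_3 lc_c_Cert_tree lc_c_rc_19_0 lc_c_rc_21_2 lc_c_rc_23_2 lc_c_Cert_tree lc_c_rc_19_0 lc_c_rc_21_2 lc_c_rc_19_0 lc_c_rc_21_2 lc_c_rc_11_3 lc_c_rc_21_2 lc_c_rc_23_2 lc_c_rc_19_0) (@D3.rec (fun _ => (Cert rels S Gen.c)) lc_c_rc_21_2 lc_c_rc_11_3 lc_c_rc_21_2 lc_c_rc_2_1 lc_c_rc_20_2 lc_c_rc_19_0 lc_c_rc_21_2 lc_c_rc_11_3 lc_c_rc_25_2 lc_c_Cert_tree lc_c_Cert_tree lc_c_rc_19_0 lc_c_rc_21_2 lc_c_rc_19_0 lc_c_rc_21_2 lc_c_rc_55_64 lc_c_rc_21_2 lc_c_rc_2_3 lc_c_rc_21_2 lc_c_rc_2_1 lc_c_Cert_tree lc_c_rc_19_0 lc_c_Cert_tree lc_c_Cert_tree lc_c_rc_19_0 lc_c_rc_21_2 lc_c_rc_19_0 lc_c_rc_21_2 lc_c_rc_11_3 lc_c_rc_21_2 lc_c_rc_23_2 lc_c_Cert_tree lc_c_rc_19_0 lc_c_rc_21_2 lc_c_rc_19_0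 lc_c_rc_21_2 lc_c_rc_11_3 lc_c_rc_21_2 lc_c_rc_23_2 lc_c_rc_19_0 lc_c_rc_21_2 lc_c_rc_11_3 lc_c_rc_21_2 lc_c_rc_23_2 lc_c_rc_2_1 lc_c_rc_11_3 lc_c_rc_23_2 lc_c_rc_24_2 lc_c_rc_19_0 lc_c_rc_11_3 lc_c_rc_21_2) (@D3.rec (fun _ => (Cert rels S Gen.c)) lc_c_rc_2_1 lc_c_rc_11_3 lc_c_rc_20_2 lc_c_rc_21_2 lc_c_rc_20_2 lc_c_rc_22_2 lc_c_rc_22_2 lc_c_rc_19_0 lc_c_rc_22_2 lc_c_rc_20_0 lc_c_rc_21_2 lc_c_rc_20_0 lc_c_rc_21_2 lc_c_rc_23_2 lc_c_rc_20_2 lc_c_rc_23_2 lc_c_rc_19_0 lc_c_rc_19_0 lc_c_rc_21_2 lc_c_rc_11_3 lc_c_rc_19_0 lc_c_rc_11_3 lc_c_rc_11_3 lc_c_rc_21_2 lc_c_rc_2_1 lc_c_Cert_tree lc_c_rc_19_0 lc_c_rc_19_0 lc_c_rc_21_2 lc_c_rc_23_2 lc_c_rc_19_0 lc_c_rc_21_2 lc_c_rc_11_3 lc_c_Cert_tree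 lc_c_rc_19_0 lc_c_rc_19_0 lc_c_rc_21_2 lc_c_rc_11_3 lc_c_rc_11_3 lc_c_rc_21_2 lc_c_rc_2_1 lc_c_rc_19_0 lc_c_rc_19_0 lc_c_rc_21_2 lc_c_rc_11_3 lc_c_rc_2_3 lc_c_rc_11_3 lc_c_rc_21_2 lc_c_rc_2_1 lc_c_rc_11_3 lc_c_rc_55_28) (@D3.rec (fun _ => (Cert rels S Gen.c)) lc_c_rc_11_3 lc_c_rc_2_1 lc_c_rc_19_0 lc_c_rc_21_2 lc_c_rc_11_3 lc_c_rc_21_2 lc_c_rc_2_1 lc_c_rc_11_3 lc_c_rc_20_2 lc_c_rc_22_2 lc_c_rc_20_0 lc_c_rc_19_0 lc_c_rc_11_3 lc_c_rc_19_0 lc_c_rc_19_0 lc_c_rc_21_2 lc_c_rc_11_3 lc_c_rc_19_0 lc_c_rc_21_2 lc_c_rc_11_3 lc_c_rc_21_2 lc_c_rc_2_1 lc_c_Cert_tree lc_c_rc_19_0 lc_c_Cert_tree lc_c_rc_19_0 lc_c_rc_21_2 lc_c_rc_23_2 lc_c_rc_19_0 lc_c_rc_21_2 lc_c_rc_2_3 lc_c_Cert_tree lc_c_rc_19_0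 lc_c_Cert_tree lc_c_rc_19_0 lc_c_rc_21_2 lc_c_rc_11_3 lc_c_rc_11_3 lc_c_rc_21_2 lc_c_rc_2_1 lc_c_rc_19_0 lc_c_rc_21_2 lc_c_rc_21_2 lc_c_rc_20_2 lc_c_Cert_tree lc_c_rc_19_0 lc_c_rc_19_0 lc_c_rc_21_2 lc_c_rc_11_3 lc_c_Cert_tree lc_c_rc_19_0) (@D3.rec (fun _ => (Cert rels S Gen.c)) lc_c_Cert_tree lc_c_rc_19_0 lc_c_rc_21_2 lc_c_rc_11_3 lc_c_rc_19_0 lc_c_rc_21_2 lc_c_rc_11_3 lc_c_rc_21_2 lc_c_rc_2_1 lc_c_Cert_tree lc_c_rc_19_0 lc_c_rc_11_3 lc_c_Cert_tree lc_c_rc_19_0 lc_c_rc_21_2 lc_c_rc_19_0 lc_c_rc_11_3 lc_c_rc_11_3 lc_c_rc_21_2 lc_c_rc_2_1 lc_c_rc_2_1 lc_c_rc_11_3 lc_c_rc_20_2 lc_c_rc_19_0 lc_c_rc_21_2 lc_c_rc_21_2 lc_c_rc_21_2 lc_c_rc_24_2 lc_c_rc_20_2 lc_c_rc_20_2 lc_c_rc_22_2 lc_c_rc_23_2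 lc_c_rc_20_0 lc_c_rc_19_0 lc_c_Cert_tree lc_c_Cert_tree lc_c_rc_19_0 lc_c_Cert_tree lc_c_rc_19_0 lc_c_rc_21_2 lc_c_rc_11_3 lc_c_Cert_tree lc_c_rc_19_0 lc_c_rc_21_2 lc_c_Cert_tree lc_c_Cert_tree lc_c_rc_19_0 lc_c_rc_21_2 lc_c_rc_21_2 lc_c_rc_23_2 lc_c_Cert_tree)
def ce_c_19 : D2 → D3 → (Cert rels S Gen.c) := @D2.rec (fun _ => D3 → (Cert rels S Gen.c)) (@D3.rec (fun _ => (Cert rels S Gen.c)) lc_c_Cert_tree lc_c_rc_19_0 lc_c_Cert_tree lc_c_rc_19_0 lc_c_rc_21_2 lc_c_rc_11_3 lc_c_rc_21_2 lc_c_rc_23_2 lc_c_rc_24_2 lc_c_rc_19_0 lc_c_rc_21_2 lc_c_rc_11_3 lc_c_rc_21_2 lc_c_rc_2_1 lc_c_rc_19_0 lc_c_Cert_tree lc_c_rc_19_0 lc_c_rc_21_2 lc_c_rc_11_3 lc_c_rc_19_0 lc_c_Cert_tree lc_c_rc_19_0 lc_c_rc_11_3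 lc_c_Cert_tree lc_c_rc_19_0 lc_c_rc_21_2 lc_c_rc_11_3 lc_c_rc_21_2 lc_c_rc_2_1 lc_c_rc_19_0 lc_c_rc_11_3 lc_c_Cert_tree lc_c_rc_19_0 lc_c_rc_19_0 lc_c_rc_11_3 lc_c_rc_19_0 lc_c_rc_11_3 lc_c_rc_21_2 lc_c_rc_2_1 lc_c_rc_19_0 lc_c_rc_21_2 lc_c_rc_11_3 lc_c_rc_21_2 lc_c_rc_2_1 lc_c_rc_11_3 lc_c_rc_20_2 lc_c_rc_19_0 lc_c_rc_21_2 lc_c_rc_25_0 lc_c_rc_21_2 lc_c_rc_26_2) (@D3.rec (fun _ => (Cert rels S Gen.c)) lc_c_rc_25_2 lc_c_rc_20_2 lc_c_rc_21_2 lc_c_rc_20_2 lc_c_Cert_tree lc_c_rc_22_2 lc_c_rc_19_0 lc_c_rc_19_0 lc_c_Cert_tree lc_c_rc_19_0 lc_c_rc_21_2 lc_c_rc_11_3 lc_c_rc_21_2 lc_c_rc_23_2 lc_c_rc_19_0 lc_c_rc_21_2 lc_c_rc_11_3 lc_c_rc_21_2 lc_c_rc_2_1 lc_c_rc_19_0 lc_c_rc_19_0 lc_c_rc_21_2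 lc_c_rc_11_3 lc_c_Cert_tree lc_c_Cert_tree lc_c_rc_19_0 lc_c_rc_21_2 lc_c_rc_19_0 lc_c_rc_11_3 lc_c_Cert_tree lc_c_rc_19_0 lc_c_rc_21_2 lc_c_rc_11_3 lc_c_rc_21_2 lc_c_rc_2_1 lc_c_rc_11_3 lc_c_rc_19_0 lc_c_rc_21_2 lc_c_rc_11_3 lc_c_rc_21_2 lc_c_rc_23_2 lc_c_rc_2_1 lc_c_rc_11_3 lc_c_rc_20_2 lc_c_rc_11_3 lc_c_Cert_tree lc_c_rc_19_0 lc_c_rc_21_2 lc_c_rc_11_3 lc_c_rc_19_0 lc_c_rc_11_3) (@D3.rec (fun _ => (Cert rels S Gen.c)) lc_c_rc_21_2 lc_c_rc_2_1 lc_c_rc_11_3 lc_c_Cert_tree lc_c_Cert_tree lc_c_rc_19_0 lc_c_rc_21_2 lc_c_rc_19_0 lc_c_rc_21_2 lc_c_rc_11_3 lc_c_rc_21_2 lc_c_rc_23_2 lc_c_rc_11_3 lc_c_rc_21_2 lc_c_rc_2_1 lc_c_rc_55_55 lc_c_rc_20_2 lc_c_rc_23_2 lc_c_rc_19_0 lc_c_rc_21_2 lc_c_rc_11_3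 lc_c_rc_21_2 lc_c_rc_23_2 lc_c_rc_2_1 lc_c_rc_11_3 lc_c_rc_20_2 lc_c_rc_23_2 lc_c_rc_2_1 lc_c_rc_11_3 lc_c_rc_11_3 lc_c_rc_21_2 lc_c_rc_2_1 lc_c_rc_11_3 lc_c_rc_20_2 lc_c_rc_2_1 lc_c_Cert_tree lc_c_rc_22_2 lc_c_rc_25_2 lc_c_rc_21_2 lc_c_rc_23_2 lc_c_rc_20_2 lc_c_rc_21_2 lc_c_rc_24_2 lc_c_rc_24_2 lc_c_rc_20_2 lc_c_rc_2_1 lc_c_Cert_tree lc_c_rc_22_2 lc_c_rc_21_2 lc_c_rc_22_2 lc_c_rc_20_2) (@D3.rec (fun _ => (Cert rels S Gen.c)) lc_c_rc_22_2 lc_c_Cert_tree lc_c_rc_19_0 lc_c_rc_22_2 lc_c_rc_26_2 lc_c_rc_24_2 lc_c_rc_25_0 lc_c_rc_25_0 lc_c_rc_24_2 lc_c_rc_2_1 lc_c_rc_11_3 lc_c_rc_25_2 lc_c_rc_24_2 lc_c_rc_19_0 lc_c_rc_22_2 lc_c_rc_22_2 lc_c_rc_20_2 lc_c_rc_20_2 lc_c_rc_21_2 lc_c_rc_2_1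 lc_c_rc_11_3 lc_c_rc_2_1 lc_c_rc_11_3 lc_c_rc_11_3 lc_c_rc_2_1 lc_c_rc_2_1 lc_c_rc_11_3 lc_c_rc_11_3 lc_c_rc_2_1 lc_c_rc_19_0 lc_c_rc_21_2 lc_c_rc_11_3 lc_c_rc_19_0 lc_c_rc_21_2 lc_c_rc_2_3 lc_c_rc_19_0 lc_c_rc_21_2 lc_c_rc_11_3 lc_c_rc_21_2 lc_c_rc_2_1 lc_c_rc_11_3 lc_c_rc_2_1 lc_c_rc_19_0 lc_c_rc_21_2 lc_c_rc_11_3 lc_c_rc_11_3 lc_c_rc_2_1 lc_c_rc_2_1 lc_c_rc_19_0 lc_c_rc_11_3 lc_c_rc_21_2) (@D3.rec (fun _ => (Cert rels S Gen.c)) lc_c_rc_2_1 lc_c_rc_11_3 lc_c_rc_11_3 lc_c_rc_2_1 lc_c_rc_19_0 lc_c_rc_21_2 lc_c_rc_11_3 lc_c_rc_21_2 lc_c_rc_2_1 lc_c_Cert_tree lc_c_rc_24_2 lc_c_rc_19_0 lc_c_rc_21_2 lc_c_rc_23_2 lc_c_rc_19_0 lc_c_rc_21_2 lc_c_rc_2_3 lc_c_rc_19_0 lc_c_rc_21_2 lc_c_rc_11_3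 lc_c_Cert_tree lc_c_rc_19_0 lc_c_rc_21_2 lc_c_rc_19_0 lc_c_rc_21_2 lc_c_rc_11_3 lc_c_rc_21_2 lc_c_rc_23_2 lc_c_rc_21_2 lc_c_rc_11_3 lc_c_rc_2_1 lc_c_rc_19_0 lc_c_rc_21_2 lc_c_rc_11_3 lc_c_rc_21_2 lc_c_rc_23_2 lc_c_rc_19_0 lc_c_rc_21_2 lc_c_rc_11_3 lc_c_rc_21_2 lc_c_rc_23_2 lc_c_rc_11_3 lc_c_rc_21_2 lc_c_rc_2_1 lc_c_rc_11_3 lc_c_rc_23_2 lc_c_rc_2_1 lc_c_rc_23_2 lc_c_rc_24_2 lc_c_rc_21_2 lc_c_rc_24_2) (@D3.rec (fun _ => (Cert rels S Gen.c)) lc_c_rc_19_0 lc_c_rc_21_2 lc_c_rc_21_2 lc_c_rc_19_0 lc_c_rc_21_2 lc_c_rc_11_3 lc_c_rc_21_2 lc_c_rc_2_1 lc_c_Cert_tree lc_c_rc_19_0 lc_c_rc_21_2 lc_c_rc_23_2 lc_c_rc_11_3 lc_c_Cert_tree lc_c_rc_19_0 lc_c_rc_21_2 lc_c_Cert_tree lc_c_rc_19_0 lc_c_rc_21_2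 lc_c_rc_11_3 lc_c_rc_21_2 lc_c_rc_2_1 lc_c_rc_19_0 lc_c_rc_21_2 lc_c_rc_19_0 lc_c_rc_11_3 lc_c_rc_21_2 lc_c_rc_19_0 lc_c_rc_19_0 lc_c_rc_21_2 lc_c_rc_11_3 lc_c_rc_21_2 lc_c_rc_11_3 lc_c_rc_2_1 lc_c_rc_11_3 lc_c_rc_11_3 lc_c_rc_2_1 lc_c_rc_19_0 lc_c_rc_21_2 lc_c_rc_11_3 lc_c_rc_21_2 lc_c_rc_23_2 lc_c_rc_11_3 lc_c_rc_21_2 lc_c_rc_2_1 lc_c_rc_19_0 lc_c_rc_21_2 lc_c_rc_11_3 lc_c_rc_21_2 lc_c_Cert_tree lc_c_rc_19_0) (@D3.rec (fun _ => (Cert rels S Gen.c)) lc_c_rc_21_2 lc_c_rc_19_0 lc_c_rc_21_2 lc_c_rc_55_64 lc_c_rc_21_2 lc_c_rc_23_2 lc_c_rc_11_3 lc_c_rc_21_2 lc_c_rc_2_1 lc_c_rc_11_3 lc_c_rc_23_2 lc_c_rc_24_2 lc_c_rc_2_1 lc_c_rc_19_0 lc_c_rc_21_2 lc_c_rc_11_3 lc_c_rc_19_0 lc_c_rc_21_2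 lc_c_rc_19_0 lc_c_rc_21_2 lc_c_rc_11_3 lc_c_rc_21_2 lc_c_rc_19_0 lc_c_rc_11_3 lc_c_rc_21_2 lc_c_rc_2_1 lc_c_rc_11_3 lc_c_rc_19_0 lc_c_rc_21_2 lc_c_rc_19_0 lc_c_rc_21_2 lc_c_rc_11_3 lc_c_rc_21_2 lc_c_rc_11_3 lc_c_rc_21_2 lc_c_rc_23_2 lc_c_rc_2_1 lc_c_rc_11_3 lc_c_rc_23_2 lc_c_rc_19_0 lc_c_rc_21_2 lc_c_rc_11_3 lc_c_rc_21_2 lc_c_rc_2_1 lc_c_rc_11_3 lc_c_rc_2_1 lc_c_rc_11_3 lc_c_rc_11_3 lc_c_rc_2_1 lc_c_rc_21_2 lc_c_rc_25_2) (@D3.rec (fun _ => (Cert rels S Gen.c)) lc_c_rc_24_2 lc_c_rc_11_3 lc_c_rc_56_23 lc_c_rc_11_3 lc_c_rc_21_2 lc_c_rc_23_2 lc_c_rc_2_1 lc_c_Cert_tree lc_c_rc_19_0 lc_c_rc_21_2 lc_c_rc_55_37 lc_c_rc_21_2 lc_c_rc_23_2 lc_c_rc_2_1 lc_c_rc_2_1 lc_c_Cert_tree lc_c_rc_19_0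 lc_c_rc_21_2 lc_c_rc_19_0 lc_c_rc_21_2 lc_c_rc_55_64 lc_c_rc_21_2 lc_c_rc_23_2 lc_c_rc_2_3 lc_c_rc_21_2 lc_c_rc_23_2 lc_c_rc_2_1 lc_c_rc_11_3 lc_c_rc_23_2 lc_c_rc_24_2 lc_c_rc_2_1 lc_c_rc_26_2 lc_c_rc_19_0 lc_c_rc_21_2 lc_c_rc_11_3 lc_c_rc_21_2 lc_c_rc_2_1 lc_c_rc_55_10 lc_c_rc_20_4 lc_c_rc_56_37 lc_c_rc_55_64 lc_c_rc_23_2 lc_c_rc_11_3 lc_c_rc_21_2 lc_c_rc_19_0 lc_c_rc_21_2 lc_c_rc_11_3 lc_c_rc_21_2 lc_c_rc_2_1 lc_c_rc_11_3 lc_c_rc_23_2) (@D3.rec (fun _ => (Cert rels S Gen.c)) lc_c_rc_11_3 lc_c_rc_21_2 lc_c_rc_11_3 lc_c_rc_21_2 lc_c_rc_2_1 lc_c_rc_11_3 lc_c_rc_21_2 lc_c_rc_2_1 lc_c_rc_11_3 lc_c_rc_11_3 lc_c_rc_21_2 lc_c_rc_11_3 lc_c_rc_21_2 lc_c_rc_11_3 lc_c_rc_2_1 lc_c_rc_11_3 lc_c_rc_23_2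 lc_c_rc_11_3 lc_c_rc_21_2 lc_c_rc_2_1 lc_c_rc_11_3 lc_c_rc_11_3 lc_c_rc_2_1 lc_c_rc_11_3 lc_c_rc_2_1 lc_c_rc_11_3 lc_c_rc_24_2 lc_c_rc_2_1 lc_c_rc_19_0 lc_c_rc_21_2 lc_c_rc_56_37 lc_c_rc_2_1 lc_c_rc_2_1 lc_c_rc_55_37 lc_c_rc_2_1 lc_c_rc_2_1 lc_c_rc_19_0 lc_c_rc_21_2 lc_c_rc_2_3 lc_c_rc_19_0 lc_c_rc_21_2 lc_c_rc_11_3 lc_c_rc_21_2 lc_c_rc_26_0 lc_c_rc_19_0 lc_c_rc_21_2 lc_c_rc_11_3 lc_c_rc_19_0 lc_c_rc_21_2 lc_c_rc_56_37 lc_c_rc_11_3) (@D3.rec (fun _ => (Cert rels S Gen.c)) lc_c_rc_21_2 lc_c_rc_2_1 lc_c_rc_11_3 lc_c_rc_2_1 lc_c_rc_19_0 lc_c_rc_21_2 lc_c_rc_11_3 lc_c_rc_11_3 lc_c_rc_21_2 lc_c_rc_2_1 lc_c_rc_11_3 lc_c_rc_21_2 lc_c_rc_2_1 lc_c_rc_2_1 lc_c_rc_11_3 lc_c_rc_11_3 lc_c_rc_21_2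 lc_c_rc_21_0 lc_c_rc_11_3 lc_c_rc_55_73 lc_c_rc_11_3 lc_c_rc_21_2 lc_c_rc_2_1 lc_c_rc_11_3 lc_c_rc_2_1 lc_c_rc_11_3 lc_c_rc_11_3 lc_c_rc_2_1 lc_c_rc_11_3 lc_c_rc_2_1 lc_c_rc_19_0 lc_c_rc_21_2 lc_c_rc_19_0 lc_c_rc_21_2 lc_c_rc_11_3 lc_c_rc_21_2 lc_c_rc_20_2 lc_c_rc_19_0 lc_c_rc_21_2 lc_c_rc_11_3 lc_c_rc_21_2 lc_c_rc_2_1 lc_c_rc_11_3 lc_c_rc_19_0 lc_c_rc_21_2 lc_c_rc_55_28 lc_c_rc_11_3 lc_c_rc_21_2 lc_c_rc_2_1 lc_c_rc_11_3 lc_c_rc_55_73) (@D3.rec (fun _ => (Cert rels S Gen.c)) lc_c_rc_2_1 lc_c_rc_11_3 lc_c_rc_19_0 lc_c_rc_21_2 lc_c_rc_19_0 lc_c_rc_21_2 lc_c_rc_11_3 lc_c_rc_11_3 lc_c_rc_21_2 lc_c_rc_2_1 lc_c_Cert_tree lc_c_rc_19_0 lc_c_rc_21_2 lc_c_rc_19_0 lc_c_rc_21_2 lc_c_rc_11_3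 lc_c_rc_21_2 lc_c_rc_2_3 lc_c_rc_2_1 lc_c_rc_19_0 lc_c_rc_21_2 lc_c_rc_11_3 lc_c_rc_21_2 lc_c_rc_20_2 lc_c_rc_2_1 lc_c_rc_11_3 lc_c_rc_11_3 lc_c_rc_2_1 lc_c_rc_11_3 lc_c_rc_21_2 lc_c_rc_2_1 lc_c_rc_56_37 lc_c_rc_21_2 lc_c_rc_2_1 lc_c_rc_11_3 lc_c_rc_20_2 lc_c_rc_11_3 lc_c_rc_21_2 lc_c_rc_2_1 lc_c_rc_22_2 lc_c_rc_2_1 lc_c_rc_11_3 lc_c_rc_23_2 lc_c_rc_24_2 lc_c_rc_19_0 lc_c_rc_11_3 lc_c_rc_24_2 lc_c_rc_55_46 lc_c_rc_19_1 lc_c_rc_11_3 lc_c_rc_2_1) (@D3.rec (fun _ => (Cert rels S Gen.c)) lc_c_rc_11_3 lc_c_rc_21_2 lc_c_rc_2_1 lc_c_rc_11_3 lc_c_rc_20_2 lc_c_rc_19_0 lc_c_rc_21_2 lc_c_rc_11_3 lc_c_rc_21_2 lc_c_rc_22_2 lc_c_rc_11_3 lc_c_rc_21_2 lc_c_rc_21_0 lc_c_rc_24_0 lc_c_rc_20_2 lc_c_rc_20_2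 lc_c_rc_26_0 lc_c_rc_20_2 lc_c_rc_2_1 lc_c_rc_11_3 lc_c_rc_2_1 lc_c_rc_11_3 lc_c_rc_2_1 lc_c_rc_2_1 lc_c_rc_25_2 lc_c_rc_19_0 lc_c_rc_21_2 lc_c_rc_11_3 lc_c_rc_19_0 lc_c_rc_11_3 lc_c_rc_19_0 lc_c_rc_11_3 lc_c_rc_11_3 lc_c_rc_21_2 lc_c_rc_2_1 lc_c_rc_20_2 lc_c_rc_20_0 lc_c_rc_11_3 lc_c_rc_2_1 lc_c_rc_11_3 lc_c_rc_11_3 lc_c_rc_21_2 lc_c_rc_2_1 lc_c_rc_2_1 lc_c_rc_19_0 lc_c_rc_19_0 lc_c_rc_11_3 lc_c_rc_21_2 lc_c_rc_2_1 lc_c_rc_11_3 lc_c_rc_20_2) (@D3.rec (fun _ => (Cert rels S Gen.c)) lc_c_Cert_tree lc_c_rc_22_2 lc_c_rc_20_0 lc_c_Cert_tree lc_c_rc_19_0 lc_c_Cert_tree lc_c_rc_19_0 lc_c_rc_21_2 lc_c_Cert_tree lc_c_Cert_tree lc_c_rc_19_0 lc_c_rc_21_2 lc_c_rc_23_2 lc_c_rc_19_0 lc_c_rc_21_2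 lc_c_rc_11_3 lc_c_rc_19_0 lc_c_Cert_tree lc_c_rc_19_0 lc_c_rc_21_2 lc_c_rc_23_2 lc_c_Cert_tree lc_c_rc_19_0 lc_c_rc_21_2 lc_c_rc_11_3 lc_c_Cert_tree lc_c_rc_19_0 lc_c_rc_21_2 lc_c_rc_11_3 lc_c_rc_21_2 lc_c_rc_23_2 lc_c_rc_11_3 lc_c_rc_21_2 lc_c_rc_2_1 lc_c_rc_2_1 lc_c_rc_19_0 lc_c_rc_21_2 lc_c_rc_21_2 lc_c_rc_20_2 lc_c_rc_11_3 lc_c_rc_19_0 lc_c_rc_21_2 lc_c_rc_11_3 lc_c_rc_21_2 lc_c_rc_23_2 lc_c_rc_24_2 lc_c_rc_19_0 lc_c_rc_21_2 lc_c_rc_11_3 lc_c_rc_21_2 lc_c_rc_2_1) (@D3.rec (fun _ => (Cert rels S Gen.c)) lc_c_Cert_tree lc_c_rc_19_0 lc_c_rc_21_2 lc_c_rc_11_3 lc_c_rc_21_2 lc_c_Cert_tree lc_c_rc_19_0 lc_c_rc_21_2 lc_c_rc_19_0 lc_c_rc_21_2 lc_c_rc_11_3 lc_c_rc_21_2 lc_c_rc_23_2 lc_c_rc_11_3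 lc_c_rc_21_2 lc_c_rc_23_2 lc_c_rc_2_1 lc_c_rc_11_3 lc_c_rc_23_2 lc_c_rc_24_2 lc_c_rc_2_1 lc_c_rc_11_3 lc_c_rc_20_2 lc_c_rc_21_2 lc_c_rc_21_2 lc_c_rc_24_2 lc_c_rc_21_2 lc_c_rc_24_2 lc_c_rc_20_2 lc_c_rc_20_2 lc_c_rc_22_2 lc_c_rc_24_2 lc_c_rc_20_0 lc_c_rc_21_2 lc_c_rc_25_2 lc_c_rc_19_0 lc_c_rc_11_3 lc_c_Cert_tree lc_c_Cert_tree lc_c_rc_19_0 lc_c_rc_19_0 lc_c_rc_21_2 lc_c_rc_11_3 lc_c_rc_19_0 lc_c_rc_21_2 lc_c_rc_11_3 lc_c_rc_21_2 lc_c_rc_11_3 lc_c_rc_21_2 lc_c_rc_2_1 lc_c_rc_19_0) (@D3.rec (fun _ => (Cert rels S Gen.c)) lc_c_rc_21_2 lc_c_rc_24_2 lc_c_rc_11_3 lc_c_rc_19_0 lc_c_rc_21_2 lc_c_rc_11_3 lc_c_rc_21_2 lc_c_rc_11_3 lc_c_rc_21_2 lc_c_rc_2_1 lc_c_rc_19_0 lc_c_rc_21_2 lc_c_rc_11_3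 lc_c_rc_2_1 lc_c_rc_2_1 lc_c_rc_11_3 lc_c_rc_19_0 lc_c_rc_21_2 lc_c_rc_11_3 lc_c_rc_21_2 lc_c_rc_2_1 lc_c_rc_11_3 lc_c_Cert_tree lc_c_rc_24_2 lc_c_Cert_tree lc_c_Cert_tree lc_c_rc_19_0 lc_c_rc_21_2 lc_c_rc_25_2 lc_c_Cert_tree lc_c_rc_19_0 lc_c_rc_21_2 lc_c_rc_11_3 lc_c_Cert_tree lc_c_rc_24_2 lc_c_rc_19_0 lc_c_rc_21_2 lc_c_rc_21_2 lc_c_rc_26_2 lc_c_rc_19_0 lc_c_rc_21_2 lc_c_rc_19_0 lc_c_rc_21_2 lc_c_rc_11_3 lc_c_rc_21_2 lc_c_rc_23_2 lc_c_rc_24_2 lc_c_rc_11_3 lc_c_rc_21_2 lc_c_rc_2_1 lc_c_Cert_tree) (@D3.rec (fun _ => (Cert rels S Gen.c)) lc_c_rc_19_0 lc_c_rc_21_2 lc_c_rc_11_3 lc_c_rc_19_0 lc_c_rc_21_2 lc_c_rc_19_0 lc_c_rc_21_2 lc_c_rc_11_3 lc_c_rc_21_2 lc_c_rc_23_2 lc_c_rc_19_0 lc_c_rc_21_2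 lc_c_rc_11_3 lc_c_rc_21_2 lc_c_rc_2_1 lc_c_rc_19_0 lc_c_rc_21_2 lc_c_rc_11_3 lc_c_rc_21_2 lc_c_rc_19_0 lc_c_rc_19_0 lc_c_rc_21_2 lc_c_rc_11_3 lc_c_rc_21_2 lc_c_rc_23_2 lc_c_rc_11_3 lc_c_rc_2_1 lc_c_rc_11_3 lc_c_rc_23_2 lc_c_rc_19_0 lc_c_rc_21_2 lc_c_rc_11_3 lc_c_rc_21_2 lc_c_rc_2_1 lc_c_rc_11_3 lc_c_rc_20_2 lc_c_rc_25_2 lc_c_rc_20_2 lc_c_rc_22_2 lc_c_Cert_tree lc_c_rc_19_0 lc_c_rc_21_2 lc_c_rc_11_3 lc_c_rc_21_2 lc_c_rc_2_1 lc_c_rc_19_0 lc_c_rc_21_2 lc_c_rc_11_3 lc_c_rc_21_2 lc_c_rc_23_2 lc_c_rc_2_1) (@D3.rec (fun _ => (Cert rels S Gen.c)) lc_c_rc_11_3 lc_c_rc_23_2 lc_c_rc_24_2 lc_c_rc_19_0 lc_c_rc_21_2 lc_c_rc_11_3 lc_c_rc_21_2 lc_c_rc_23_2 lc_c_rc_2_1 lc_c_rc_11_3 lc_c_rc_20_2 lc_c_rc_19_0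 lc_c_rc_11_3 lc_c_rc_21_2 lc_c_rc_19_0 lc_c_rc_21_2 lc_c_rc_11_3 lc_c_rc_21_2 lc_c_rc_11_3 lc_c_rc_2_1 lc_c_rc_11_3 lc_c_rc_23_2 lc_c_rc_11_3 lc_c_rc_21_2 lc_c_rc_2_1 lc_c_rc_11_3 lc_c_rc_23_2 lc_c_rc_24_2 lc_c_rc_19_0 lc_c_rc_11_3 lc_c_rc_2_1 lc_c_rc_2_1 lc_c_rc_11_3 lc_c_rc_24_2 lc_c_rc_11_3 lc_c_rc_21_2 lc_c_rc_2_1 lc_c_rc_11_3 lc_c_rc_2_1 lc_c_Cert_tree lc_c_rc_22_2 lc_c_Cert_tree lc_c_rc_19_0 lc_c_rc_26_2 lc_c_rc_19_0 lc_c_rc_11_3 lc_c_rc_19_0 lc_c_rc_19_0 lc_c_rc_21_2 lc_c_rc_19_0 lc_c_rc_21_2) (@D3.rec (fun _ => (Cert rels S Gen.c)) lc_c_rc_11_3 lc_c_rc_19_0 lc_c_rc_11_3 lc_c_rc_56_23 lc_c_rc_21_2 lc_c_rc_55_28 lc_c_rc_21_2 lc_c_rc_2_1 lc_c_Cert_tree lc_c_Cert_tree lc_c_rc_19_0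 lc_c_rc_21_2 lc_c_rc_23_2 lc_c_rc_19_0 lc_c_rc_21_2 lc_c_rc_26_2 lc_c_rc_11_3 lc_c_rc_19_0 lc_c_rc_21_2 lc_c_rc_19_0 lc_c_rc_21_2 lc_c_rc_11_3 lc_c_rc_21_2 lc_c_rc_23_2 lc_c_rc_19_0 lc_c_rc_21_2 lc_c_rc_11_3 lc_c_rc_21_2 lc_c_rc_2_1 lc_c_rc_20_2 lc_c_rc_55_28 lc_c_rc_2_1 lc_c_rc_11_3 lc_c_rc_21_2 lc_c_rc_11_3 lc_c_rc_21_2 lc_c_rc_2_1 lc_c_rc_11_3 lc_c_rc_23_2 lc_c_rc_11_3 lc_c_rc_21_2 lc_c_rc_2_1 lc_c_rc_11_3 lc_c_rc_20_2 lc_c_rc_11_3 lc_c_rc_11_3 lc_c_Cert_tree lc_c_rc_19_0 lc_c_rc_19_0 lc_c_rc_21_2 lc_c_rc_11_3) (@D3.rec (fun _ => (Cert rels S Gen.c)) lc_c_rc_21_2 lc_c_rc_2_1 lc_c_rc_19_0 lc_c_Cert_tree lc_c_Cert_tree lc_c_rc_19_0 lc_c_rc_21_2 lc_c_rc_26_2 lc_c_rc_19_0 lc_c_rc_21_2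 lc_c_rc_2_3 lc_c_rc_19_0 lc_c_rc_11_3 lc_c_rc_19_0 lc_c_rc_21_2 lc_c_rc_19_0 lc_c_rc_21_2 lc_c_rc_19_0 lc_c_rc_11_3 lc_c_rc_21_2 lc_c_rc_23_2 lc_c_rc_11_3 lc_c_rc_21_2 lc_c_rc_2_1 lc_c_rc_20_2 lc_c_rc_11_3 lc_c_rc_55_64 lc_c_rc_19_0 lc_c_rc_11_3 lc_c_rc_2_1 lc_c_rc_11_3 lc_c_rc_21_2 lc_c_rc_23_2 lc_c_rc_20_2 lc_c_rc_11_3 lc_c_rc_21_2 lc_c_rc_23_2 lc_c_rc_2_1 lc_c_rc_11_3 lc_c_rc_23_2 lc_c_rc_2_1 lc_c_rc_11_3 lc_c_rc_20_2 lc_c_rc_20_2 lc_c_rc_22_2 lc_c_rc_20_0 lc_c_Cert_tree lc_c_Cert_tree lc_c_rc_19_0 lc_c_rc_19_0 lc_c_rc_21_2) (@D3.rec (fun _ => (Cert rels S Gen.c)) lc_c_rc_11_3 lc_c_rc_19_0 lc_c_rc_21_2 lc_c_rc_21_2 lc_c_rc_23_2 lc_c_Cert_tree lc_c_rc_19_0 lc_c_rc_21_2 lc_c_rc_19_0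 lc_c_rc_21_2 lc_c_rc_11_3 lc_c_rc_21_2 lc_c_rc_23_2 lc_c_rc_2_3 lc_c_rc_11_3 lc_c_rc_21_2 lc_c_rc_2_1 lc_c_rc_11_3 lc_c_Cert_tree lc_c_rc_19_0 lc_c_rc_21_2 lc_c_rc_55_55 lc_c_rc_21_2 lc_c_rc_55_10 lc_c_rc_21_2 lc_c_rc_2_1 lc_c_rc_19_0 lc_c_rc_21_2 lc_c_rc_11_3 lc_c_rc_21_2 lc_c_rc_23_2 lc_c_rc_19_0 lc_c_rc_21_2 lc_c_rc_11_3 lc_c_rc_21_2 lc_c_rc_23_2 lc_c_rc_11_3 lc_c_rc_21_2 lc_c_rc_2_1 lc_c_rc_11_3 lc_c_rc_23_2 lc_c_rc_11_3 lc_c_rc_21_2 lc_c_rc_2_1 lc_c_rc_11_3 lc_c_rc_20_2 lc_c_rc_22_2 lc_c_rc_11_3 lc_c_rc_21_2 lc_c_rc_21_0 lc_c_Cert_tree) (@D3.rec (fun _ => (Cert rels S Gen.c)) lc_c_rc_19_0 lc_c_rc_21_2 lc_c_rc_19_0 lc_c_rc_21_2 lc_c_rc_11_3 lc_c_rc_21_2 lc_c_rc_11_3 lc_c_rc_21_2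 lc_c_rc_2_1 lc_c_rc_11_3 lc_c_rc_2_1 lc_c_rc_11_3 lc_c_rc_19_0 lc_c_rc_11_3 lc_c_rc_19_0 lc_c_rc_21_2 lc_c_rc_19_0 lc_c_rc_21_2 lc_c_rc_11_3 lc_c_rc_21_2 lc_c_rc_23_2 lc_c_rc_11_3 lc_c_rc_21_2 lc_c_rc_23_2 lc_c_rc_2_1 lc_c_rc_11_3 lc_c_rc_23_2 lc_c_rc_19_0 lc_c_rc_21_2 lc_c_rc_11_3 lc_c_rc_21_2 lc_c_rc_23_2 lc_c_rc_11_3 lc_c_rc_21_2 lc_c_rc_23_2 lc_c_rc_2_1 lc_c_rc_11_3 lc_c_rc_20_2 lc_c_rc_23_2 lc_c_rc_24_2 lc_c_rc_11_3 lc_c_rc_21_2 lc_c_rc_2_1 lc_c_rc_11_3 lc_c_rc_20_2 lc_c_rc_23_2 lc_c_rc_2_1 lc_c_rc_11_3 lc_c_rc_24_2 lc_c_rc_11_3 lc_c_rc_2_1) (@D3.rec (fun _ => (Cert rels S Gen.c)) lc_c_rc_11_3 lc_c_rc_2_1 lc_c_rc_11_3 lc_c_rc_22_2 lc_c_rc_22_2 lc_c_rc_26_2 lc_c_rc_24_2 lc_c_rc_22_2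 lc_c_rc_20_0 lc_c_rc_20_2 lc_c_rc_23_2 lc_c_rc_20_2 lc_c_rc_11_3 lc_c_rc_11_3 lc_c_rc_21_2 lc_c_rc_2_1 lc_c_rc_56_37 lc_c_rc_2_1 lc_c_rc_2_1 lc_c_rc_11_3 lc_c_rc_19_0 lc_c_rc_21_2 lc_c_rc_11_3 lc_c_rc_56_37 lc_c_rc_21_2 lc_c_rc_23_2 lc_c_rc_11_3 lc_c_rc_21_2 lc_c_rc_2_1 lc_c_rc_19_0 lc_c_rc_21_2 lc_c_rc_11_3 lc_c_rc_11_3 lc_c_rc_21_2 lc_c_rc_2_1 lc_c_rc_2_1 lc_c_rc_11_3 lc_c_rc_2_3 lc_c_rc_56_30 lc_c_rc_21_2 lc_c_rc_2_1 lc_c_rc_21_0 lc_c_rc_2_1 lc_c_rc_11_3 lc_c_rc_2_1 lc_c_rc_11_1 lc_c_rc_2_1 lc_c_rc_11_3 lc_c_rc_21_2 lc_c_rc_2_1 lc_c_rc_11_3) (@D3.rec (fun _ => (Cert rels S Gen.c)) lc_c_rc_2_1 lc_c_rc_11_3 lc_c_rc_22_2 lc_c_rc_26_2 lc_c_rc_11_3 lc_c_rc_2_1 lc_c_rc_11_3 lc_c_rc_55_37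 lc_c_rc_21_2 lc_c_rc_2_1 lc_c_rc_11_3 lc_c_rc_21_2 lc_c_rc_2_1 lc_c_rc_11_3 lc_c_rc_19_0 lc_c_rc_21_2 lc_c_rc_55_55 lc_c_rc_19_0 lc_c_rc_21_2 lc_c_rc_56_23 lc_c_rc_21_2 lc_c_rc_23_2 lc_c_rc_24_2 lc_c_rc_11_3 lc_c_rc_21_2 lc_c_rc_24_2 lc_c_rc_19_0 lc_c_rc_21_2 lc_c_rc_11_3 lc_c_rc_19_0 lc_c_rc_21_2 lc_c_rc_11_3 lc_c_rc_21_2 lc_c_rc_2_1 lc_c_rc_2_1 lc_c_rc_11_3 lc_c_rc_20_2 lc_c_rc_21_2 lc_c_rc_24_2 lc_c_rc_20_2 lc_c_rc_22_2 lc_c_rc_19_0 lc_c_rc_21_2 lc_c_rc_55_64 lc_c_rc_55_28 lc_c_rc_21_2 lc_c_rc_2_1 lc_c_rc_19_0 lc_c_rc_21_2 lc_c_rc_11_3 lc_c_rc_19_0) (@D3.rec (fun _ => (Cert rels S Gen.c)) lc_c_rc_21_2 lc_c_rc_11_3 lc_c_rc_21_2 lc_c_rc_20_4 lc_c_rc_11_3 lc_c_rc_21_2 lc_c_rc_23_2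 lc_c_rc_2_1 lc_c_rc_11_3 lc_c_rc_20_2 lc_c_rc_19_0 lc_c_rc_11_3 lc_c_rc_2_1 lc_c_rc_19_0 lc_c_rc_21_2 lc_c_rc_11_3 lc_c_rc_21_2 lc_c_rc_2_3 lc_c_rc_2_1 lc_c_rc_2_1 lc_c_rc_11_3 lc_c_rc_20_2 lc_c_rc_2_1 lc_c_rc_11_3 lc_c_rc_22_2 lc_c_rc_21_2 lc_c_rc_20_2 lc_c_rc_20_2 lc_c_rc_22_2 lc_c_rc_26_2 lc_c_rc_55_55 lc_c_rc_19_0 lc_c_rc_19_0 lc_c_rc_21_2 lc_c_rc_11_3 lc_c_rc_19_0 lc_c_rc_21_2 lc_c_rc_11_3 lc_c_rc_21_2 lc_c_rc_2_1 lc_c_rc_19_0 lc_c_rc_21_2 lc_c_rc_21_2 lc_c_rc_23_2 lc_c_rc_19_0 lc_c_rc_19_0 lc_c_rc_21_2 lc_c_rc_11_3 lc_c_rc_21_2 lc_c_rc_23_2 lc_c_rc_20_2) (@D3.rec (fun _ => (Cert rels S Gen.c)) lc_c_rc_23_2 lc_c_rc_11_3 lc_c_rc_19_0 lc_c_rc_21_2 lc_c_rc_19_0 lc_c_rc_11_3 lc_c_rc_19_0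 lc_c_rc_21_2 lc_c_rc_11_3 lc_c_rc_21_2 lc_c_rc_23_2 lc_c_rc_2_1 lc_c_rc_11_3 lc_c_rc_23_2 lc_c_rc_24_2 lc_c_rc_11_3 lc_c_rc_21_2 lc_c_rc_2_1 lc_c_rc_11_3 lc_c_rc_20_2 lc_c_rc_56_30 lc_c_rc_19_0 lc_c_rc_21_2 lc_c_rc_11_3 lc_c_rc_21_2 lc_c_rc_2_1 lc_c_rc_11_3 lc_c_rc_19_0 lc_c_rc_11_3 lc_c_rc_2_1 lc_c_rc_19_0 lc_c_rc_21_2 lc_c_rc_11_3 lc_c_rc_21_2 lc_c_rc_23_2 lc_c_rc_2_1 lc_c_rc_11_3 lc_c_rc_20_2 lc_c_rc_11_3 lc_c_rc_2_1 lc_c_rc_19_0 lc_c_rc_11_3 lc_c_rc_11_3 lc_c_rc_2_1 lc_c_rc_11_3 lc_c_rc_2_1 lc_c_rc_11_3 lc_c_rc_11_3 lc_c_rc_21_2 lc_c_rc_2_1 lc_c_rc_11_3) (@D3.rec (fun _ => (Cert rels S Gen.c)) lc_c_rc_20_2 lc_c_rc_2_1 lc_c_Cert_tree lc_c_rc_22_2 lc_c_rc_21_2 lc_c_rc_25_0 lc_c_rc_20_2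 lc_c_Cert_tree lc_c_rc_22_2 lc_c_rc_20_2 lc_c_rc_22_2 lc_c_rc_19_0 lc_c_rc_22_2 lc_c_rc_26_2 lc_c_rc_11_3 lc_c_rc_11_3 lc_c_rc_19_0 lc_c_rc_21_2 lc_c_rc_11_3 lc_c_rc_21_2 lc_c_rc_23_2 lc_c_rc_2_1 lc_c_rc_11_3 lc_c_rc_23_2 lc_c_rc_11_3 lc_c_rc_21_2 lc_c_rc_2_1 lc_c_rc_11_3 lc_c_rc_20_2 lc_c_rc_11_3 lc_c_rc_11_3 lc_c_rc_21_2 lc_c_rc_2_1 lc_c_rc_19_0 lc_c_rc_21_2 lc_c_rc_19_0 lc_c_rc_11_3 lc_c_rc_21_2 lc_c_rc_11_3 lc_c_rc_19_1 lc_c_rc_19_0 lc_c_rc_21_2 lc_c_rc_55_55 lc_c_rc_21_2 lc_c_rc_23_2 lc_c_rc_2_1 lc_c_rc_11_3 lc_c_rc_20_2 lc_c_rc_22_2 lc_c_rc_11_3 lc_c_rc_21_2) (@D3.rec (fun _ => (Cert rels S Gen.c)) lc_c_rc_2_1 lc_c_rc_11_3 lc_c_rc_20_2 lc_c_rc_23_2 lc_c_rc_2_1 lc_c_Cert_tree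 lc_c_rc_22_2 lc_c_rc_2_1 lc_c_rc_19_0 lc_c_rc_11_3 lc_c_rc_21_2 lc_c_rc_2_1 lc_c_rc_11_3 lc_c_rc_2_1 lc_c_rc_11_3 lc_c_rc_2_1 lc_c_rc_19_0 lc_c_rc_21_2 lc_c_rc_19_0 lc_c_rc_21_2 lc_c_rc_11_3 lc_c_rc_21_2 lc_c_rc_23_2 lc_c_rc_11_3 lc_c_rc_21_2 lc_c_rc_2_1 lc_c_rc_11_3 lc_c_rc_20_2 lc_c_rc_23_2 lc_c_rc_2_1 lc_c_rc_11_3 lc_c_rc_20_2 lc_c_rc_19_0 lc_c_rc_55_55 lc_c_rc_55_55 lc_c_rc_20_2 lc_c_rc_11_3 lc_c_rc_21_2 lc_c_rc_23_2 lc_c_rc_2_1 lc_c_rc_11_3 lc_c_rc_23_2 lc_c_rc_2_1 lc_c_rc_11_3 lc_c_rc_11_3 lc_c_rc_22_2 lc_c_rc_2_1 lc_c_rc_2_1 lc_c_rc_11_3 lc_c_rc_20_2 lc_c_rc_2_1)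
def ce_c_20 : D2 → D3 → (Cert rels S Gen.c) := @D2.rec (fun _ => D3 → (Cert rels S Gen.c)) (@D3.rec (fun _ => (Cert rels S Gen.c)) lc_c_rc_11_3 lc_c_rc_22_2 lc_c_Cert_tree lc_c_rc_19_0 lc_c_rc_22_2 lc_c_rc_26_2 lc_c_rc_11_3 lc_c_rc_20_2 lc_c_rc_23_2 lc_c_rc_22_2 lc_c_rc_20_2 lc_c_rc_24_2 lc_c_Cert_tree lc_c_rc_22_2 lc_c_Cert_tree lc_c_rc_19_0 lc_c_rc_22_2 lc_c_rc_25_2 lc_c_rc_26_2 lc_c_rc_26_2 lc_c_rc_19_0 lc_c_rc_22_2 lc_c_rc_22_2 lc_c_rc_2_1 lc_c_rc_2_1 lc_c_rc_26_2 lc_c_rc_11_3 lc_c_rc_22_2 lc_c_rc_20_2 lc_c_rc_21_2 lc_c_rc_2_1 lc_c_rc_2_1 lc_c_rc_2_1 lc_c_rc_2_1 lc_c_rc_2_1 lc_c_rc_11_3 lc_c_rc_21_2 lc_c_rc_2_1 lc_c_rc_55_55 lc_c_rc_21_2 lc_c_rc_26_0 lc_c_rc_11_3 lc_c_rc_21_2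 lc_c_rc_2_1 lc_c_rc_11_3 lc_c_rc_2_1 lc_c_rc_25_2 lc_c_rc_21_2 lc_c_rc_2_1 lc_c_rc_2_1 lc_c_rc_11_3) (@D3.rec (fun _ => (Cert rels S Gen.c)) lc_c_rc_2_1 lc_c_rc_11_3 lc_c_rc_2_1 lc_c_rc_2_1 lc_c_rc_11_3 lc_c_rc_21_2 lc_c_rc_2_1 lc_c_rc_11_3 lc_c_rc_19_0 lc_c_rc_21_2 lc_c_rc_11_3 lc_c_rc_21_2 lc_c_rc_23_2 lc_c_rc_11_3 lc_c_rc_21_2 lc_c_rc_26_2 lc_c_rc_11_3 lc_c_rc_21_2 lc_c_rc_23_2 lc_c_rc_19_0 lc_c_rc_21_2 lc_c_rc_55_28 lc_c_rc_21_2 lc_c_rc_23_2 lc_c_rc_11_3 lc_c_rc_21_2 lc_c_rc_2_1 lc_c_rc_11_3 lc_c_rc_23_2 lc_c_rc_24_2 lc_c_rc_2_1 lc_c_rc_11_3 lc_c_rc_21_2 lc_c_rc_23_2 lc_c_rc_2_1 lc_c_rc_11_3 lc_c_rc_23_2 lc_c_rc_11_3 lc_c_rc_21_2 lc_c_rc_2_1 lc_c_rc_11_3 lc_c_rc_23_2 lc_c_rc_2_1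 lc_c_rc_11_3 lc_c_rc_2_1 lc_c_rc_11_3 lc_c_rc_24_2 lc_c_rc_20_2 lc_c_rc_11_3 lc_c_rc_21_2 lc_c_rc_20_2) (@D3.rec (fun _ => (Cert rels S Gen.c)) lc_c_rc_11_3 lc_c_rc_21_2 lc_c_rc_2_1 lc_c_rc_11_3 lc_c_rc_19_0 lc_c_rc_21_2 lc_c_rc_2_3 lc_c_rc_21_2 lc_c_rc_23_2 lc_c_rc_2_1 lc_c_rc_19_0 lc_c_rc_21_2 lc_c_rc_11_3 lc_c_rc_21_2 lc_c_rc_19_0 lc_c_rc_21_2 lc_c_rc_11_3 lc_c_rc_21_2 lc_c_rc_2_1 lc_c_rc_11_3 lc_c_rc_11_3 lc_c_rc_21_2 lc_c_rc_11_3 lc_c_rc_2_1 lc_c_rc_11_3 lc_c_rc_11_3 lc_c_rc_11_3 lc_c_rc_21_2 lc_c_rc_2_1 lc_c_rc_11_3 lc_c_rc_20_2 lc_c_rc_2_1 lc_c_rc_2_1 lc_c_rc_2_1 lc_c_rc_56_30 lc_c_rc_21_2 lc_c_rc_23_2 lc_c_rc_2_1 lc_c_rc_2_3 lc_c_rc_23_2 lc_c_rc_2_1 lc_c_rc_11_3 lc_c_rc_20_2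 lc_c_rc_11_3 lc_c_rc_21_2 lc_c_rc_2_1 lc_c_rc_11_3 lc_c_rc_19_0 lc_c_rc_21_2 lc_c_rc_2_3 lc_c_rc_21_2) (@D3.rec (fun _ => (Cert rels S Gen.c)) lc_c_rc_11_3 lc_c_rc_21_2 lc_c_rc_23_2 lc_c_rc_2_1 lc_c_rc_2_3 lc_c_rc_23_2 lc_c_rc_24_2 lc_c_rc_2_1 lc_c_rc_11_3 lc_c_rc_2_1 lc_c_rc_11_3 lc_c_rc_24_2 lc_c_rc_11_3 lc_c_rc_21_2 lc_c_rc_2_1 lc_c_rc_11_3 lc_c_rc_21_2 lc_c_rc_11_3 lc_c_rc_21_2 lc_c_rc_2_1 lc_c_rc_11_3 lc_c_rc_11_3 lc_c_rc_2_1 lc_c_rc_11_3 lc_c_rc_2_1 lc_c_rc_11_3 lc_c_rc_21_2 lc_c_rc_11_3 lc_c_rc_21_2 lc_c_rc_2_1 lc_c_rc_11_3 lc_c_rc_20_2 lc_c_rc_2_1 lc_c_rc_11_3 lc_c_rc_23_2 lc_c_rc_2_1 lc_c_rc_11_3 lc_c_rc_55_28 lc_c_rc_21_2 lc_c_rc_2_1 lc_c_rc_11_3 lc_c_rc_2_1 lc_c_rc_2_1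 lc_c_rc_2_1 lc_c_rc_26_2 lc_c_rc_20_2 lc_c_rc_19_0 lc_c_rc_2_1 lc_c_rc_11_3 lc_c_rc_23_2 lc_c_rc_19_0) (@D3.rec (fun _ => (Cert rels S Gen.c)) lc_c_rc_21_2 lc_c_rc_20_0 lc_c_rc_21_2 lc_c_rc_23_2 lc_c_rc_2_1 lc_c_rc_11_3 lc_c_rc_23_2 lc_c_rc_19_0 lc_c_rc_21_2 lc_c_rc_11_3 lc_c_rc_21_2 lc_c_rc_23_2 lc_c_rc_2_3 lc_c_rc_21_2 lc_c_rc_23_2 lc_c_rc_11_5 lc_c_rc_11_3 lc_c_rc_23_2 lc_c_rc_19_1 lc_c_rc_11_3 lc_c_rc_23_2 lc_c_rc_21_2 lc_c_rc_11_3 lc_c_rc_24_2 lc_c_rc_55_64 lc_c_rc_21_2 lc_c_rc_2_1 lc_c_rc_11_3 lc_c_rc_19_1 lc_c_rc_11_5 lc_c_rc_24_0 lc_c_rc_2_1 lc_c_rc_11_3 lc_c_rc_11_3 lc_c_rc_21_2 lc_c_rc_2_1 lc_c_rc_11_3 lc_c_rc_20_2 lc_c_rc_2_1 lc_c_rc_11_3 lc_c_rc_2_1 lc_c_rc_11_3 lc_c_rc_21_0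 lc_c_rc_55_28 lc_c_rc_2_1 lc_c_rc_11_3 lc_c_rc_2_1 lc_c_rc_11_3 lc_c_rc_11_3 lc_c_rc_2_1 lc_c_rc_11_3) (@D3.rec (fun _ => (Cert rels S Gen.c)) lc_c_rc_2_1 lc_c_rc_2_1 lc_c_rc_11_3 lc_c_rc_2_1 lc_c_rc_11_3 lc_c_rc_2_1 lc_c_rc_20_4 lc_c_rc_20_4 lc_c_rc_2_1 lc_c_rc_20_2 lc_c_rc_55_28 lc_c_rc_21_2 lc_c_rc_26_0 lc_c_rc_24_2 lc_c_rc_11_3 lc_c_rc_21_2 lc_c_rc_25_2 lc_c_rc_11_3 lc_c_rc_21_2 lc_c_rc_2_1 lc_c_rc_55_46 lc_c_rc_20_2 lc_c_rc_11_3 lc_c_rc_21_2 lc_c_rc_2_1 lc_c_rc_11_3 lc_c_rc_21_2 lc_c_rc_11_1 lc_c_rc_2_1 lc_c_rc_11_3 lc_c_rc_2_1 lc_c_rc_11_3 lc_c_rc_21_2 lc_c_rc_2_1 lc_c_rc_2_1 lc_c_rc_11_3 lc_c_rc_2_1 lc_c_rc_11_3 lc_c_rc_20_2 lc_c_rc_2_1 lc_c_rc_19_1 lc_c_rc_55_37 lc_c_rc_19_1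 lc_c_rc_2_1 lc_c_rc_11_3 lc_c_rc_20_2 lc_c_rc_2_1 lc_c_rc_2_1 lc_c_rc_2_1 lc_c_rc_20_4 lc_c_rc_11_3) (@D3.rec (fun _ => (Cert rels S Gen.c)) lc_c_rc_21_2 lc_c_rc_11_3 lc_c_rc_21_2 lc_c_rc_2_1 lc_c_rc_11_3 lc_c_rc_20_2 lc_c_rc_55_46 lc_c_rc_21_2 lc_c_rc_2_1 lc_c_rc_11_3 lc_c_rc_2_1 lc_c_rc_55_28 lc_c_rc_21_2 lc_c_rc_19_1 lc_c_rc_11_3 lc_c_rc_11_3 lc_c_rc_20_2 lc_c_rc_2_1 lc_c_rc_56_37 lc_c_rc_2_1 lc_c_rc_11_3 lc_c_rc_21_2 lc_c_rc_11_3 lc_c_rc_21_2 lc_c_rc_2_1 lc_c_rc_2_1 lc_c_rc_11_3 lc_c_rc_20_2 lc_c_rc_19_0 lc_c_rc_21_2 lc_c_rc_2_3 lc_c_rc_21_2 lc_c_rc_21_2 lc_c_rc_11_3 lc_c_rc_21_2 lc_c_rc_2_1 lc_c_rc_11_3 lc_c_rc_20_2 lc_c_rc_19_1 lc_c_rc_55_37 lc_c_rc_21_2 lc_c_rc_2_1 lc_c_rc_11_3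 lc_c_rc_2_1 lc_c_rc_2_1 lc_c_rc_2_1 lc_c_rc_11_3 lc_c_rc_20_2 lc_c_rc_19_1 lc_c_rc_11_3 lc_c_rc_20_2) (@D3.rec (fun _ => (Cert rels S Gen.c)) lc_c_rc_2_1 lc_c_Cert_tree lc_c_rc_22_2 lc_c_rc_2_1 lc_c_rc_11_3 lc_c_rc_20_2 lc_c_rc_2_1 lc_c_rc_11_3 lc_c_rc_24_2 lc_c_rc_20_0 lc_c_rc_11_3 lc_c_rc_11_3 lc_c_rc_2_1 lc_c_rc_2_1 lc_c_rc_11_3 lc_c_rc_2_1 lc_c_rc_11_3 lc_c_rc_22_2 lc_c_rc_55_55 lc_c_rc_21_2 lc_c_rc_22_2 lc_c_rc_19_1 lc_c_rc_11_3 lc_c_rc_21_0 lc_c_rc_11_3 lc_c_rc_19_1 lc_c_rc_20_4 lc_c_rc_19_1 lc_c_rc_2_1 lc_c_rc_2_1 lc_c_rc_11_3 lc_c_rc_21_2 lc_c_rc_2_1 lc_c_rc_11_3 lc_c_rc_2_1 lc_c_rc_11_3 lc_c_rc_20_4 lc_c_rc_2_1 lc_c_rc_11_3 lc_c_rc_20_2 lc_c_rc_22_2 lc_c_rc_20_0 lc_c_rc_2_1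 lc_c_rc_2_1 lc_c_rc_2_1 lc_c_rc_11_3 lc_c_rc_11_3 lc_c_rc_2_1 lc_c_rc_11_3 lc_c_rc_2_1 lc_c_Cert_tree) (@D3.rec (fun _ => (Cert rels S Gen.c)) lc_c_rc_22_2 lc_c_rc_19_0 lc_c_rc_26_2 lc_c_rc_19_0 lc_c_rc_21_2 lc_c_rc_11_3 lc_c_rc_19_0 lc_c_rc_21_2 lc_c_rc_21_2 lc_c_rc_23_2 lc_c_rc_19_0 lc_c_rc_21_2 lc_c_rc_19_0 lc_c_rc_21_2 lc_c_rc_11_3 lc_c_rc_21_2 lc_c_rc_23_2 lc_c_rc_24_2 lc_c_rc_11_3 lc_c_rc_21_2 lc_c_rc_2_1 lc_c_rc_11_3 lc_c_rc_19_0 lc_c_rc_21_2 lc_c_rc_11_3 lc_c_rc_21_2 lc_c_rc_23_2 lc_c_rc_24_2 lc_c_rc_19_0 lc_c_rc_21_2 lc_c_rc_11_3 lc_c_rc_21_2 lc_c_rc_2_1 lc_c_rc_19_0 lc_c_rc_21_2 lc_c_rc_11_3 lc_c_rc_21_2 lc_c_rc_23_2 lc_c_rc_2_1 lc_c_rc_11_3 lc_c_rc_23_2 lc_c_rc_2_1 lc_c_rc_11_3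 lc_c_rc_20_2 lc_c_rc_21_2 lc_c_rc_26_2 lc_c_rc_20_2 lc_c_rc_22_2 lc_c_rc_2_1 lc_c_rc_2_3 lc_c_rc_21_2) (@D3.rec (fun _ => (Cert rels S Gen.c)) lc_c_rc_23_2 lc_c_rc_11_1 lc_c_rc_11_3 lc_c_rc_23_2 lc_c_rc_24_2 lc_c_rc_11_3 lc_c_rc_21_2 lc_c_rc_23_2 lc_c_rc_2_1 lc_c_rc_11_3 lc_c_rc_20_2 lc_c_rc_19_0 lc_c_rc_21_2 lc_c_rc_11_3 lc_c_rc_21_2 lc_c_rc_2_1 lc_c_rc_11_3 lc_c_rc_19_0 lc_c_rc_21_2 lc_c_rc_11_3 lc_c_rc_21_2 lc_c_rc_23_2 lc_c_rc_11_3 lc_c_rc_21_2 lc_c_rc_23_2 lc_c_rc_2_1 lc_c_rc_11_3 lc_c_rc_23_2 lc_c_rc_24_2 lc_c_rc_2_1 lc_c_rc_11_3 lc_c_rc_20_2 lc_c_rc_23_2 lc_c_rc_2_1 lc_c_rc_11_3 lc_c_rc_24_2 lc_c_rc_2_1 lc_c_rc_11_3 lc_c_rc_22_2 lc_c_rc_20_2 lc_c_rc_24_2 lc_c_rc_20_2 lc_c_rc_22_2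 lc_c_rc_26_2 lc_c_rc_26_2 lc_c_rc_11_3 lc_c_rc_2_1 lc_c_rc_19_0 lc_c_rc_19_0 lc_c_rc_21_2 lc_c_rc_11_3) (@D3.rec (fun _ => (Cert rels S Gen.c)) lc_c_rc_11_3 lc_c_rc_21_2 lc_c_rc_2_1 lc_c_rc_11_3 lc_c_rc_21_2 lc_c_rc_2_1 lc_c_rc_11_3 lc_c_rc_2_1 lc_c_rc_11_3 lc_c_rc_11_3 lc_c_rc_21_2 lc_c_rc_24_2 lc_c_rc_2_1 lc_c_rc_11_3 lc_c_rc_21_2 lc_c_rc_2_1 lc_c_rc_11_3 lc_c_rc_2_1 lc_c_rc_11_3 lc_c_rc_11_3 lc_c_rc_21_2 lc_c_rc_2_1 lc_c_rc_2_1 lc_c_rc_11_3 lc_c_rc_21_2 lc_c_rc_2_1 lc_c_rc_11_3 lc_c_rc_2_1 lc_c_rc_19_0 lc_c_rc_21_2 lc_c_rc_11_3 lc_c_rc_19_0 lc_c_rc_21_2 lc_c_rc_19_0 lc_c_rc_21_2 lc_c_rc_11_3 lc_c_rc_21_2 lc_c_rc_23_2 lc_c_rc_26_0 lc_c_rc_19_0 lc_c_rc_21_2 lc_c_rc_11_3 lc_c_rc_21_2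 lc_c_rc_2_1 lc_c_rc_19_0 lc_c_rc_21_2 lc_c_rc_11_3 lc_c_rc_21_2 lc_c_rc_23_2 lc_c_rc_20_2 lc_c_rc_11_3) (@D3.rec (fun _ => (Cert rels S Gen.c)) lc_c_rc_21_2 lc_c_rc_23_2 lc_c_rc_11_3 lc_c_rc_21_2 lc_c_rc_23_2 lc_c_rc_2_1 lc_c_rc_11_3 lc_c_rc_23_2 lc_c_rc_24_2 lc_c_rc_2_1 lc_c_rc_11_3 lc_c_rc_20_2 lc_c_rc_19_0 lc_c_rc_21_2 lc_c_rc_11_3 lc_c_rc_21_2 lc_c_rc_2_1 lc_c_rc_11_3 lc_c_rc_21_2 lc_c_rc_56_23 lc_c_rc_21_2 lc_c_rc_2_1 lc_c_rc_11_3 lc_c_rc_23_2 lc_c_rc_11_3 lc_c_rc_21_2 lc_c_rc_23_2 lc_c_rc_2_1 lc_c_rc_11_3 lc_c_rc_20_2 lc_c_rc_11_3 lc_c_rc_21_2 lc_c_rc_2_1 lc_c_rc_11_3 lc_c_rc_2_3 lc_c_rc_56_23 lc_c_rc_21_2 lc_c_rc_2_1 lc_c_rc_11_3 lc_c_rc_20_2 lc_c_rc_23_2 lc_c_rc_2_1 lc_c_rc_2_1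 lc_c_rc_11_3 lc_c_rc_11_3 lc_c_rc_21_2 lc_c_rc_2_1 lc_c_rc_11_3 lc_c_rc_2_1 lc_c_rc_11_3 lc_c_rc_22_2) (@D3.rec (fun _ => (Cert rels S Gen.c)) lc_c_rc_22_2 lc_c_rc_26_2 lc_c_rc_19_0 lc_c_rc_21_2 lc_c_rc_11_3 lc_c_rc_21_2 lc_c_rc_23_2 lc_c_rc_2_1 lc_c_rc_11_3 lc_c_rc_20_2 lc_c_rc_11_3 lc_c_rc_21_2 lc_c_rc_2_1 lc_c_rc_11_3 lc_c_rc_23_2 lc_c_rc_2_1 lc_c_rc_11_3 lc_c_rc_24_2 lc_c_rc_11_3 lc_c_rc_21_2 lc_c_rc_2_1 lc_c_rc_11_3 lc_c_rc_23_2 lc_c_rc_2_1 lc_c_Cert_tree lc_c_rc_11_3 lc_c_rc_2_1 lc_c_rc_11_3 lc_c_rc_11_3 lc_c_rc_21_2 lc_c_rc_2_1 lc_c_rc_11_3 lc_c_rc_2_1 lc_c_rc_2_1 lc_c_rc_11_3 lc_c_rc_2_1 lc_c_rc_11_3 lc_c_rc_2_1 lc_c_rc_2_3 lc_c_rc_24_2 lc_c_rc_11_3 lc_c_rc_2_1 lc_c_rc_2_1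 lc_c_rc_11_3 lc_c_rc_2_1 lc_c_rc_11_3 lc_c_rc_2_1 lc_c_Cert_tree lc_c_rc_19_0 lc_c_rc_11_3 lc_c_rc_26_2) (@D3.rec (fun _ => (Cert rels S Gen.c)) lc_c_rc_19_0 lc_c_rc_11_3 lc_c_rc_2_1 lc_c_rc_11_3 lc_c_rc_11_3 lc_c_rc_21_2 lc_c_rc_11_3 lc_c_rc_21_2 lc_c_rc_2_1 lc_c_rc_11_3 lc_c_rc_2_1 lc_c_rc_11_5 lc_c_rc_24_2 lc_c_rc_19_0 lc_c_rc_11_3 lc_c_rc_19_0 lc_c_rc_21_2 lc_c_rc_19_0 lc_c_rc_21_2 lc_c_rc_55_37 lc_c_rc_21_2 lc_c_rc_23_2 lc_c_rc_11_3 lc_c_rc_21_2 lc_c_rc_26_2 lc_c_rc_20_2 lc_c_rc_11_3 lc_c_rc_21_2 lc_c_rc_56_23 lc_c_rc_21_2 lc_c_rc_23_2 lc_c_rc_2_1 lc_c_rc_11_3 lc_c_rc_23_2 lc_c_rc_11_3 lc_c_rc_21_2 lc_c_rc_2_1 lc_c_rc_11_3 lc_c_rc_20_2 lc_c_rc_19_0 lc_c_rc_2_1 lc_c_rc_11_3 lc_c_rc_21_0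 lc_c_rc_11_3 lc_c_rc_2_1 lc_c_rc_11_3 lc_c_rc_2_1 lc_c_rc_11_3 lc_c_rc_2_1 lc_c_rc_20_4 lc_c_rc_2_1) (@D3.rec (fun _ => (Cert rels S Gen.c)) lc_c_rc_2_1 lc_c_rc_19_0 lc_c_rc_11_3 lc_c_rc_11_3 lc_c_rc_21_2 lc_c_rc_2_1 lc_c_rc_11_3 lc_c_rc_2_3 lc_c_rc_19_0 lc_c_rc_21_2 lc_c_rc_19_0 lc_c_rc_21_2 lc_c_rc_11_3 lc_c_rc_21_2 lc_c_rc_23_2 lc_c_rc_24_2 lc_c_rc_19_0 lc_c_rc_21_2 lc_c_rc_26_2 lc_c_rc_55_28 lc_c_rc_19_1 lc_c_rc_11_3 lc_c_rc_21_2 lc_c_rc_11_3 lc_c_rc_21_2 lc_c_rc_23_2 lc_c_rc_11_3 lc_c_rc_2_1 lc_c_rc_11_3 lc_c_rc_23_2 lc_c_rc_2_1 lc_c_rc_11_3 lc_c_rc_20_2 lc_c_rc_22_2 lc_c_rc_20_2 lc_c_rc_11_3 lc_c_rc_11_3 lc_c_rc_11_3 lc_c_rc_2_1 lc_c_rc_11_3 lc_c_rc_20_2 lc_c_rc_23_2 lc_c_rc_2_1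 lc_c_rc_20_2 lc_c_rc_20_2 lc_c_rc_23_2 lc_c_rc_2_1 lc_c_rc_11_3 lc_c_rc_2_1 lc_c_rc_11_3 lc_c_rc_22_2) (@D3.rec (fun _ => (Cert rels S Gen.c)) lc_c_rc_22_2 lc_c_rc_26_2 lc_c_rc_19_0 lc_c_rc_19_0 lc_c_rc_21_2 lc_c_rc_11_3 lc_c_rc_11_3 lc_c_rc_21_2 lc_c_rc_2_1 lc_c_rc_11_3 lc_c_rc_21_2 lc_c_rc_23_2 lc_c_rc_20_2 lc_c_rc_23_2 lc_c_rc_11_3 lc_c_rc_19_0 lc_c_rc_20_4 lc_c_rc_21_2 lc_c_rc_23_2 lc_c_rc_23_2 lc_c_rc_21_2 lc_c_rc_23_2 lc_c_rc_2_1 lc_c_rc_11_3 lc_c_rc_23_2 lc_c_rc_24_2 lc_c_rc_20_0 lc_c_rc_2_1 lc_c_rc_11_3 lc_c_rc_20_2 lc_c_rc_22_2 lc_c_rc_19_0 lc_c_rc_21_2 lc_c_rc_20_0 lc_c_rc_21_2 lc_c_rc_2_1 lc_c_rc_11_3 lc_c_rc_19_0 lc_c_rc_11_3 lc_c_rc_11_3 lc_c_rc_21_2 lc_c_rc_23_2 lc_c_rc_2_1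 lc_c_rc_11_3 lc_c_rc_23_2 lc_c_rc_11_3 lc_c_rc_21_2 lc_c_rc_23_2 lc_c_rc_2_1 lc_c_rc_11_3 lc_c_rc_20_2) (@D3.rec (fun _ => (Cert rels S Gen.c)) lc_c_rc_23_2 lc_c_rc_2_1 lc_c_rc_11_3 lc_c_rc_2_1 lc_c_rc_11_3 lc_c_rc_20_2 lc_c_rc_11_3 lc_c_rc_2_1 lc_c_rc_11_3 lc_c_rc_22_2 lc_c_rc_26_2 lc_c_rc_21_0 lc_c_rc_55_28 lc_c_rc_19_0 lc_c_rc_21_2 lc_c_rc_11_3 lc_c_rc_21_2 lc_c_rc_56_23 lc_c_rc_21_2 lc_c_rc_2_1 lc_c_rc_11_3 lc_c_rc_56_30 lc_c_rc_55_64 lc_c_rc_21_2 lc_c_rc_2_1 lc_c_rc_55_28 lc_c_rc_21_2 lc_c_rc_11_3 lc_c_rc_21_2 lc_c_rc_23_2 lc_c_rc_11_3 lc_c_rc_21_2 lc_c_rc_23_2 lc_c_rc_2_1 lc_c_rc_11_3 lc_c_rc_23_2 lc_c_rc_2_1 lc_c_rc_11_3 lc_c_rc_23_2 lc_c_rc_2_1 lc_c_rc_11_3 lc_c_rc_11_3 lc_c_rc_21_2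 lc_c_rc_23_2 lc_c_rc_2_1 lc_c_rc_11_3 lc_c_rc_20_2 lc_c_rc_23_2 lc_c_rc_2_1 lc_c_rc_11_3 lc_c_rc_20_2) (@D3.rec (fun _ => (Cert rels S Gen.c)) lc_c_rc_23_2 lc_c_rc_24_2 lc_c_rc_2_1 lc_c_rc_11_3 lc_c_rc_11_3 lc_c_rc_20_2 lc_c_rc_24_2 lc_c_rc_2_1 lc_c_rc_11_3 lc_c_rc_2_1 lc_c_rc_11_3 lc_c_rc_11_3 lc_c_rc_22_2 lc_c_rc_2_1 lc_c_rc_11_3 lc_c_rc_2_1 lc_c_rc_2_1 lc_c_rc_2_1 lc_c_rc_11_3 lc_c_rc_26_2 lc_c_rc_26_2 lc_c_rc_20_2 lc_c_rc_20_2 lc_c_rc_21_2 lc_c_rc_2_1 lc_c_rc_2_1 lc_c_rc_11_3 lc_c_rc_26_2 lc_c_rc_2_1 lc_c_rc_11_3 lc_c_rc_21_2 lc_c_rc_2_1 lc_c_rc_11_3 lc_c_rc_11_3 lc_c_rc_23_2 lc_c_rc_2_1 lc_c_rc_11_3 lc_c_rc_20_2 lc_c_rc_11_3 lc_c_rc_21_2 lc_c_rc_2_1 lc_c_rc_2_1 lc_c_rc_11_3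 lc_c_rc_2_1 lc_c_rc_24_2 lc_c_rc_19_0 lc_c_rc_11_3 lc_c_rc_20_2 lc_c_rc_2_1 lc_c_rc_2_1 lc_c_rc_11_3) (@D3.rec (fun _ => (Cert rels S Gen.c)) lc_c_rc_2_1 lc_c_rc_2_1 lc_c_rc_11_3 lc_c_rc_26_2 lc_c_rc_2_1 lc_c_rc_2_1 lc_c_rc_19_0 lc_c_rc_11_3 lc_c_rc_2_1 lc_c_rc_11_3 lc_c_rc_20_2 lc_c_rc_2_1 lc_c_rc_55_55 lc_c_rc_21_2 lc_c_rc_25_2 lc_c_rc_56_30 lc_c_rc_21_2 lc_c_rc_23_2 lc_c_rc_2_1 lc_c_rc_56_23 lc_c_rc_23_2 lc_c_rc_24_2 lc_c_rc_2_1 lc_c_rc_11_3 lc_c_rc_20_2 lc_c_rc_11_3 lc_c_rc_21_2 lc_c_rc_2_1 lc_c_rc_11_3 lc_c_rc_21_2 lc_c_rc_23_2 lc_c_rc_2_1 lc_c_rc_11_3 lc_c_rc_20_2 lc_c_rc_2_1 lc_c_rc_11_3 lc_c_rc_22_2 lc_c_rc_20_2 lc_c_rc_22_2 lc_c_rc_11_3 lc_c_rc_21_2 lc_c_rc_19_0 lc_c_rc_2_1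 lc_c_rc_11_3 lc_c_rc_20_2 lc_c_rc_55_55 lc_c_rc_21_2 lc_c_rc_26_2 lc_c_rc_11_3 lc_c_rc_21_2 lc_c_rc_20_4) (@D3.rec (fun _ => (Cert rels S Gen.c)) lc_c_rc_26_2 lc_c_rc_20_2 lc_c_rc_2_1 lc_c_rc_11_3 lc_c_rc_20_2 lc_c_rc_23_2 lc_c_rc_2_1 lc_c_rc_11_3 lc_c_rc_56_44 lc_c_rc_2_1 lc_c_rc_11_3 lc_c_rc_21_2 lc_c_rc_2_1 lc_c_rc_11_3 lc_c_rc_20_2 lc_c_rc_25_0 lc_c_rc_2_1 lc_c_rc_11_3 lc_c_rc_22_2 lc_c_rc_2_1 lc_c_rc_11_3 lc_c_rc_26_2 lc_c_rc_20_2 lc_c_rc_19_0 lc_c_rc_11_3 lc_c_rc_56_37 lc_c_rc_21_2 lc_c_rc_2_1 lc_c_rc_11_3 lc_c_rc_21_2 lc_c_rc_2_1 lc_c_rc_11_3 lc_c_rc_20_2 lc_c_rc_22_2 lc_c_rc_21_2 lc_c_rc_23_2 lc_c_rc_20_2 lc_c_rc_23_2 lc_c_rc_11_1 lc_c_rc_11_3 lc_c_rc_11_3 lc_c_rc_21_2 lc_c_rc_23_2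 lc_c_rc_2_1 lc_c_rc_11_3 lc_c_rc_20_2 lc_c_rc_23_2 lc_c_rc_21_2 lc_c_rc_20_2 lc_c_rc_23_2 lc_c_rc_21_2) (@D3.rec (fun _ => (Cert rels S Gen.c)) lc_c_rc_26_2 lc_c_rc_2_1 lc_c_rc_55_46 lc_c_rc_21_2 lc_c_rc_23_2 lc_c_rc_2_1 lc_c_rc_11_3 lc_c_rc_21_2 lc_c_rc_23_2 lc_c_rc_24_2 lc_c_rc_2_1 lc_c_rc_11_3 lc_c_rc_24_2 lc_c_rc_11_3 lc_c_rc_11_3 lc_c_rc_20_2 lc_c_rc_2_1 lc_c_Cert_tree lc_c_rc_20_2 lc_c_rc_56_30 lc_c_rc_11_3 lc_c_rc_21_2 lc_c_rc_2_1 lc_c_rc_11_3 lc_c_rc_20_2 lc_c_rc_2_1 lc_c_rc_2_3 lc_c_rc_2_1 lc_c_rc_55_55 lc_c_rc_21_2 lc_c_rc_2_1 lc_c_rc_11_3 lc_c_rc_20_2 lc_c_rc_23_2 lc_c_rc_2_1 lc_c_Cert_tree lc_c_rc_22_2 lc_c_rc_2_1 lc_c_rc_11_3 lc_c_rc_2_1 lc_c_rc_20_2 lc_c_rc_2_1 lc_c_rc_2_1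 lc_c_rc_2_1 lc_c_rc_11_3 lc_c_rc_20_2 lc_c_rc_2_1 lc_c_rc_11_3 lc_c_rc_22_2 lc_c_Cert_tree lc_c_rc_19_0) (@D3.rec (fun _ => (Cert rels S Gen.c)) lc_c_rc_22_2 lc_c_rc_26_2 lc_c_rc_20_2 lc_c_Cert_tree lc_c_rc_22_2 lc_c_rc_19_0 lc_c_rc_25_2 lc_c_rc_22_2 lc_c_rc_26_2 lc_c_rc_22_2 lc_c_rc_26_2 lc_c_rc_2_1 lc_c_rc_22_2 lc_c_rc_11_3 lc_c_rc_21_2 lc_c_rc_2_1 lc_c_rc_11_3 lc_c_rc_20_2 lc_c_rc_23_2 lc_c_rc_11_1 lc_c_rc_56_30 lc_c_rc_2_1 lc_c_rc_11_3 lc_c_rc_20_2 lc_c_rc_2_1 lc_c_Cert_tree lc_c_rc_22_2 lc_c_rc_20_2 lc_c_rc_2_1 lc_c_rc_11_3 lc_c_rc_55_46 lc_c_rc_21_2 lc_c_rc_21_0 lc_c_rc_56_30 lc_c_rc_11_3 lc_c_rc_20_2 lc_c_rc_2_1 lc_c_rc_55_55 lc_c_rc_21_2 lc_c_rc_23_2 lc_c_rc_2_1 lc_c_rc_2_3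 lc_c_rc_20_2 lc_c_rc_23_2 lc_c_rc_2_1 lc_c_rc_11_3 lc_c_rc_22_2 lc_c_rc_2_1 lc_c_rc_11_3 lc_c_rc_20_2 lc_c_rc_2_1) (@D3.rec (fun _ => (Cert rels S Gen.c)) lc_c_Cert_tree lc_c_rc_11_3 lc_c_rc_22_2 lc_c_Cert_tree lc_c_rc_19_0 lc_c_rc_22_2 lc_c_rc_25_2 lc_c_rc_11_3 lc_c_rc_2_1 lc_c_rc_11_3 lc_c_rc_20_2 lc_c_rc_2_1 lc_c_rc_2_1 lc_c_rc_55_64 lc_c_rc_21_2 lc_c_rc_23_2 lc_c_rc_11_3 lc_c_rc_21_2 lc_c_rc_23_2 lc_c_rc_2_1 lc_c_rc_11_3 lc_c_rc_20_2 lc_c_rc_23_2 lc_c_rc_11_1 lc_c_rc_11_3 lc_c_rc_20_2 lc_c_rc_2_1 lc_c_Cert_tree lc_c_rc_11_3 lc_c_rc_20_2 lc_c_rc_20_2 lc_c_rc_2_1 lc_c_rc_11_3 lc_c_rc_11_5 lc_c_rc_11_5 lc_c_rc_11_3 lc_c_rc_21_2 lc_c_rc_2_1 lc_c_rc_11_3 lc_c_rc_23_2 lc_c_rc_2_1 lc_c_rc_11_3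 lc_c_rc_2_1 lc_c_rc_2_1 lc_c_rc_11_3 lc_c_rc_26_2 lc_c_rc_2_1 lc_c_rc_11_3 lc_c_rc_2_1 lc_c_rc_11_3 lc_c_rc_26_2) (@D3.rec (fun _ => (Cert rels S Gen.c)) lc_c_rc_19_0 lc_c_rc_22_2 lc_c_rc_22_2 lc_c_rc_11_3 lc_c_rc_20_2 lc_c_rc_22_2 lc_c_rc_25_2 lc_c_Cert_tree lc_c_rc_19_0 lc_c_rc_26_2 lc_c_rc_19_0 lc_c_rc_22_2 lc_c_rc_22_2 lc_c_rc_11_3 lc_c_rc_22_2 lc_c_rc_20_2 lc_c_rc_2_1 lc_c_rc_21_2 lc_c_rc_2_1 lc_c_rc_11_3 lc_c_rc_19_0 lc_c_rc_11_3 lc_c_rc_20_2 lc_c_rc_2_1 lc_c_rc_11_3 lc_c_rc_2_1 lc_c_rc_25_2 lc_c_rc_2_3 lc_c_rc_2_1 lc_c_rc_2_1 lc_c_rc_2_1 lc_c_rc_11_3 lc_c_rc_20_2 lc_c_rc_2_1 lc_c_rc_11_3 lc_c_rc_21_2 lc_c_rc_2_1 lc_c_rc_11_3 lc_c_rc_23_2 lc_c_rc_21_0 lc_c_rc_55_37 lc_c_rc_20_2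 lc_c_rc_2_1 lc_c_rc_11_3 lc_c_rc_23_2 lc_c_rc_11_3 lc_c_rc_21_2 lc_c_rc_2_1 lc_c_rc_11_3 lc_c_rc_23_2 lc_c_rc_24_2) (@D3.rec (fun _ => (Cert rels S Gen.c)) lc_c_rc_2_1 lc_c_rc_11_3 lc_c_rc_2_1 lc_c_rc_11_3 lc_c_rc_24_2 lc_c_rc_2_1 lc_c_rc_11_3 lc_c_rc_20_2 lc_c_rc_23_2 lc_c_rc_2_1 lc_c_rc_11_3 lc_c_rc_2_1 lc_c_rc_11_3 lc_c_rc_20_2 lc_c_rc_2_1 lc_c_rc_11_3 lc_c_rc_2_1 lc_c_rc_2_1 lc_c_rc_2_1 lc_c_rc_11_3 lc_c_rc_20_2 lc_c_rc_2_1 lc_c_rc_11_3 lc_c_rc_21_2 lc_c_rc_2_1 lc_c_rc_11_3 lc_c_rc_21_2 lc_c_rc_23_2 lc_c_rc_19_1 lc_c_rc_11_3 lc_c_rc_23_2 lc_c_rc_11_3 lc_c_rc_21_2 lc_c_rc_2_1 lc_c_rc_11_3 lc_c_rc_11_3 lc_c_rc_21_2 lc_c_rc_2_1 lc_c_rc_11_3 lc_c_rc_20_2 lc_c_rc_2_1 lc_c_rc_2_1 lc_c_rc_11_3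 lc_c_rc_20_2 lc_c_rc_2_1 lc_c_rc_2_1 lc_c_rc_56_37 lc_c_rc_20_4 lc_c_rc_11_3 lc_c_rc_20_2 lc_c_rc_2_1) (@D3.rec (fun _ => (Cert rels S Gen.c)) lc_c_Cert_tree lc_c_rc_19_1 lc_c_rc_11_3 lc_c_rc_20_2 lc_c_rc_23_2 lc_c_rc_11_5 lc_c_rc_11_3 lc_c_rc_2_1 lc_c_Cert_tree lc_c_rc_22_2 lc_c_rc_2_1 lc_c_rc_11_3 lc_c_rc_2_1 lc_c_rc_11_3 lc_c_rc_21_2 lc_c_rc_2_1 lc_c_rc_25_2 lc_c_rc_20_2 lc_c_rc_20_2 lc_c_rc_11_3 lc_c_rc_23_2 lc_c_rc_24_2 lc_c_rc_2_1 lc_c_rc_2_3 lc_c_rc_24_2 lc_c_rc_2_1 lc_c_rc_2_1 lc_c_rc_11_3 lc_c_rc_2_1 lc_c_rc_11_3 lc_c_rc_2_1 lc_c_rc_11_3 lc_c_rc_20_2 lc_c_rc_2_1 lc_c_rc_11_3 lc_c_rc_2_1 lc_c_rc_2_1 lc_c_rc_2_1 lc_c_rc_21_0 lc_c_rc_11_3 lc_c_rc_20_2 lc_c_rc_2_1 lc_c_rc_55_64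 lc_c_rc_20_2 lc_c_rc_2_1 lc_c_Cert_tree lc_c_rc_2_1 lc_c_rc_11_3 lc_c_rc_2_1 lc_c_rc_19_1 lc_c_rc_11_3) (@D3.rec (fun _ => (Cert rels S Gen.c)) lc_c_rc_2_1 lc_c_rc_2_1 lc_c_rc_21_0 lc_c_rc_20_2 lc_c_rc_21_2 lc_c_rc_23_2 lc_c_rc_22_2 lc_c_rc_11_3 lc_c_rc_20_2 lc_c_rc_23_2 lc_c_rc_21_2 lc_c_rc_11_3 lc_c_rc_55_28 lc_c_rc_21_2 lc_c_rc_23_2 lc_c_rc_20_4 lc_c_rc_11_3 lc_c_rc_20_2 lc_c_rc_23_2 lc_c_rc_2_1 lc_c_rc_11_3 lc_c_rc_23_2 lc_c_rc_21_2 lc_c_rc_11_3 lc_c_rc_2_1 lc_c_rc_11_3 lc_c_rc_2_1 lc_c_rc_11_3 lc_c_rc_19_1 lc_c_rc_11_3 lc_c_rc_20_2 lc_c_rc_20_0 lc_c_rc_2_1 lc_c_rc_2_1 lc_c_rc_11_3 lc_c_rc_11_3 lc_c_rc_20_2 lc_c_rc_21_2 lc_c_Cert_tree lc_c_rc_2_1 lc_c_rc_21_2 lc_c_rc_19_1 lc_c_rc_2_1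 lc_c_rc_2_1 lc_c_rc_2_1 lc_c_rc_2_1 lc_c_rc_21_2 lc_c_rc_2_1 lc_c_rc_19_1 lc_c_rc_11_3 lc_c_rc_56_37)
def ce_c_21 : D2 → D3 → (Cert rels S Gen.c) := @D2.rec (fun _ => D3 → (Cert rels S Gen.c)) (@D3.rec (fun _ => (Cert rels S Gen.c)) lc_c_rc_11_3 lc_c_rc_20_2 lc_c_rc_2_1 lc_c_rc_11_3 lc_c_rc_20_2 lc_c_rc_19_1 lc_c_Cert_tree lc_c_rc_2_1 lc_c_rc_11_3 lc_c_rc_11_1 lc_c_rc_11_3 lc_c_rc_20_2 lc_c_rc_2_1 lc_c_rc_2_1 lc_c_rc_11_3 lc_c_rc_20_2 lc_c_rc_2_1 lc_c_rc_2_1 lc_c_Cert_tree lc_c_rc_19_1 lc_c_rc_2_1 lc_c_Cert_tree lc_c_rc_2_1 lc_c_rc_20_2 lc_c_rc_2_1 lc_c_rc_11_3 lc_c_rc_2_1 lc_c_rc_11_3 lc_c_rc_2_1 lc_c_rc_11_3 lc_c_rc_2_1 lc_c_rc_2_1 lc_c_rc_11_3 lc_c_rc_20_2 lc_c_rc_21_2 lc_c_Cert_tree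 lc_c_rc_2_1 lc_c_rc_11_3 lc_c_rc_2_1 lc_c_rc_11_3 lc_c_rc_20_2 lc_c_rc_2_1 lc_c_rc_11_3 lc_c_rc_21_0 lc_c_rc_55_28 lc_c_rc_21_2 lc_c_rc_21_2 lc_c_rc_2_1 lc_c_rc_23_0 lc_c_rc_20_2 lc_c_rc_26_2) (@D3.rec (fun _ => (Cert rels S Gen.c)) lc_c_rc_55_46 lc_c_rc_20_2 lc_c_rc_2_1 lc_c_Cert_tree lc_c_rc_2_1 lc_c_rc_20_4 lc_c_rc_2_1 lc_c_rc_21_2 lc_c_Cert_tree lc_c_rc_21_2 lc_c_Cert_tree lc_c_Cert_tree lc_c_rc_19_0 lc_c_rc_22_2 lc_c_rc_2_1 lc_c_rc_11_3 lc_c_rc_24_0 lc_c_rc_23_0 lc_c_rc_11_1 lc_c_rc_2_1 lc_c_rc_2_1 lc_c_rc_11_3 lc_c_rc_22_0 lc_c_rc_11_1 lc_c_rc_26_2 lc_c_rc_23_0 lc_c_rc_26_2 lc_c_rc_20_4 lc_c_rc_2_1 lc_c_rc_11_3 lc_c_rc_2_1 lc_c_rc_21_0 lc_c_rc_2_1 lc_c_rc_11_3 lc_c_rc_22_2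 lc_c_rc_26_2 lc_c_rc_2_1 lc_c_rc_2_1 lc_c_rc_2_1 lc_c_Cert_tree lc_c_rc_19_0 lc_c_rc_11_3 lc_c_rc_26_2 lc_c_rc_11_3 lc_c_rc_21_2 lc_c_rc_2_1 lc_c_rc_11_3 lc_c_rc_21_2 lc_c_rc_23_2 lc_c_rc_20_2 lc_c_rc_23_2) (@D3.rec (fun _ => (Cert rels S Gen.c)) lc_c_rc_55_46 lc_c_rc_23_2 lc_c_rc_21_2 lc_c_rc_23_2 lc_c_rc_20_4 lc_c_rc_21_2 lc_c_rc_23_2 lc_c_rc_2_1 lc_c_rc_11_3 lc_c_rc_23_2 lc_c_rc_24_2 lc_c_rc_2_1 lc_c_rc_11_3 lc_c_rc_20_2 lc_c_rc_2_1 lc_c_rc_11_3 lc_c_rc_21_2 lc_c_rc_23_2 lc_c_rc_2_1 lc_c_rc_11_3 lc_c_rc_23_2 lc_c_rc_24_2 lc_c_rc_56_44 lc_c_rc_21_2 lc_c_rc_23_2 lc_c_rc_2_1 lc_c_rc_11_3 lc_c_rc_20_2 lc_c_rc_11_3 lc_c_rc_21_2 lc_c_rc_23_2 lc_c_rc_2_1 lc_c_rc_11_3 lc_c_rc_20_2 lc_c_rc_23_2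 lc_c_rc_2_1 lc_c_rc_11_3 lc_c_rc_2_1 lc_c_rc_11_3 lc_c_rc_22_2 lc_c_rc_20_2 lc_c_rc_22_2 lc_c_rc_26_2 lc_c_rc_25_2 lc_c_rc_23_0 lc_c_rc_20_2 lc_c_rc_23_2 lc_c_rc_24_2 lc_c_rc_2_1 lc_c_rc_11_3 lc_c_rc_24_2) (@D3.rec (fun _ => (Cert rels S Gen.c)) lc_c_rc_2_1 lc_c_rc_11_3 lc_c_rc_20_2 lc_c_rc_23_2 lc_c_rc_2_1 lc_c_rc_22_2 lc_c_rc_11_3 lc_c_rc_21_2 lc_c_rc_2_1 lc_c_rc_11_3 lc_c_rc_2_1 lc_c_rc_11_3 lc_c_rc_21_2 lc_c_rc_23_2 lc_c_rc_2_1 lc_c_rc_11_3 lc_c_rc_20_2 lc_c_rc_23_2 lc_c_rc_2_1 lc_c_rc_11_3 lc_c_rc_23_2 lc_c_rc_24_2 lc_c_rc_2_1 lc_c_rc_11_3 lc_c_rc_24_2 lc_c_rc_2_1 lc_c_rc_11_3 lc_c_rc_11_3 lc_c_rc_22_2 lc_c_rc_2_1 lc_c_rc_11_3 lc_c_rc_2_1 lc_c_rc_11_3 lc_c_rc_26_2 lc_c_rc_26_2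 lc_c_rc_2_1 lc_c_rc_11_3 lc_c_rc_11_3 lc_c_rc_21_2 lc_c_rc_2_1 lc_c_rc_2_1 lc_c_rc_11_3 lc_c_rc_2_1 lc_c_rc_11_3 lc_c_rc_20_2 lc_c_rc_2_1 lc_c_rc_2_1 lc_c_rc_2_1 lc_c_rc_11_3 lc_c_rc_20_2 lc_c_rc_2_1) (@D3.rec (fun _ => (Cert rels S Gen.c)) lc_c_rc_11_3 lc_c_rc_20_2 lc_c_rc_2_1 lc_c_rc_2_1 lc_c_rc_2_1 lc_c_rc_11_3 lc_c_rc_20_2 lc_c_rc_21_0 lc_c_rc_11_3 lc_c_rc_2_1 lc_c_rc_11_3 lc_c_rc_21_2 lc_c_rc_23_2 lc_c_rc_11_3 lc_c_rc_21_2 lc_c_rc_23_2 lc_c_rc_11_3 lc_c_rc_21_2 lc_c_rc_23_2 lc_c_rc_2_1 lc_c_rc_11_3 lc_c_rc_23_2 lc_c_rc_24_2 lc_c_rc_11_3 lc_c_rc_21_2 lc_c_rc_23_2 lc_c_rc_2_1 lc_c_rc_11_3 lc_c_rc_20_2 lc_c_rc_11_3 lc_c_rc_21_2 lc_c_rc_2_1 lc_c_rc_11_3 lc_c_rc_20_2 lc_c_rc_23_2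 lc_c_rc_22_2 lc_c_rc_2_1 lc_c_rc_11_3 lc_c_rc_21_2 lc_c_rc_23_2 lc_c_rc_2_1 lc_c_rc_11_3 lc_c_rc_21_2 lc_c_rc_23_2 lc_c_rc_2_1 lc_c_rc_11_3 lc_c_rc_24_2 lc_c_rc_2_1 lc_c_Cert_tree lc_c_rc_20_2 lc_c_rc_11_3) (@D3.rec (fun _ => (Cert rels S Gen.c)) lc_c_rc_21_2 lc_c_rc_23_2 lc_c_rc_2_1 lc_c_rc_11_3 lc_c_rc_20_2 lc_c_rc_2_1 lc_c_rc_11_3 lc_c_rc_2_1 lc_c_rc_11_3 lc_c_rc_20_2 lc_c_rc_2_1 lc_c_rc_11_3 lc_c_rc_2_1 lc_c_rc_11_3 lc_c_rc_23_2 lc_c_rc_2_1 lc_c_rc_11_3 lc_c_rc_22_2 lc_c_rc_2_1 lc_c_rc_11_3 lc_c_rc_20_2 lc_c_rc_2_1 lc_c_rc_2_1 lc_c_rc_19_0 lc_c_rc_11_3 lc_c_rc_20_2 lc_c_rc_2_1 lc_c_Cert_tree lc_c_rc_11_3 lc_c_rc_20_2 lc_c_rc_2_1 lc_c_rc_2_1 lc_c_rc_11_3 lc_c_rc_2_1 lc_c_rc_2_1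 lc_c_rc_11_3 lc_c_rc_26_2 lc_c_rc_11_3 lc_c_rc_21_2 lc_c_rc_2_1 lc_c_rc_11_3 lc_c_rc_20_2 lc_c_rc_23_2 lc_c_rc_2_1 lc_c_Cert_tree lc_c_rc_22_2 lc_c_rc_2_1 lc_c_rc_11_3 lc_c_rc_2_1 lc_c_rc_11_3 lc_c_rc_2_1) (@D3.rec (fun _ => (Cert rels S Gen.c)) lc_c_rc_11_3 lc_c_rc_2_1 lc_c_rc_11_3 lc_c_rc_2_1 lc_c_rc_11_3 lc_c_Cert_tree lc_c_rc_19_0 lc_c_rc_2_1 lc_c_rc_2_1 lc_c_rc_2_1 lc_c_rc_11_3 lc_c_rc_2_1 lc_c_rc_2_1 lc_c_rc_2_1 lc_c_rc_19_1 lc_c_rc_11_3 lc_c_rc_20_4 lc_c_rc_2_1 lc_c_rc_2_1 lc_c_rc_19_0 lc_c_rc_11_3 lc_c_rc_11_3 lc_c_rc_2_1 lc_c_rc_21_2 lc_c_rc_2_1 lc_c_rc_11_3 lc_c_rc_2_1 lc_c_rc_11_3 lc_c_rc_11_1 lc_c_rc_2_1 lc_c_rc_21_2 lc_c_rc_11_3 lc_c_rc_21_2 lc_c_rc_23_2 lc_c_rc_11_3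 lc_c_rc_21_2 lc_c_rc_23_2 lc_c_rc_2_1 lc_c_rc_11_3 lc_c_rc_23_2 lc_c_rc_21_0 lc_c_rc_11_3 lc_c_rc_20_2 lc_c_rc_2_1 lc_c_rc_11_3 lc_c_rc_2_1 lc_c_rc_11_3 lc_c_rc_20_2 lc_c_rc_23_2 lc_c_rc_2_1 lc_c_rc_11_3) (@D3.rec (fun _ => (Cert rels S Gen.c)) lc_c_rc_2_1 lc_c_rc_11_3 lc_c_rc_2_1 lc_c_rc_20_4 lc_c_rc_2_1 lc_c_rc_20_2 lc_c_rc_2_1 lc_c_rc_2_1 lc_c_rc_2_1 lc_c_rc_11_3 lc_c_rc_2_1 lc_c_rc_2_1 lc_c_rc_11_3 lc_c_rc_2_1 lc_c_rc_26_0 lc_c_rc_2_3 lc_c_rc_21_2 lc_c_rc_23_2 lc_c_rc_11_3 lc_c_rc_21_2 lc_c_rc_23_2 lc_c_rc_20_4 lc_c_rc_2_3 lc_c_rc_23_2 lc_c_rc_24_2 lc_c_rc_2_1 lc_c_rc_11_3 lc_c_rc_20_2 lc_c_rc_11_1 lc_c_rc_2_1 lc_c_rc_11_3 lc_c_rc_25_2 lc_c_rc_11_3 lc_c_rc_20_2 lc_c_rc_23_2 lc_c_rc_2_1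 lc_c_rc_2_1 lc_c_rc_11_3 lc_c_rc_2_1 lc_c_rc_11_3 lc_c_rc_22_2 lc_c_rc_26_2 lc_c_rc_21_0 lc_c_rc_2_1 lc_c_rc_21_2 lc_c_rc_11_3 lc_c_rc_2_1 lc_c_rc_11_3 lc_c_rc_11_3 lc_c_rc_22_2 lc_c_rc_2_1) (@D3.rec (fun _ => (Cert rels S Gen.c)) lc_c_rc_2_1 lc_c_rc_11_3 lc_c_rc_26_2 lc_c_rc_26_2 lc_c_rc_11_3 lc_c_rc_55_55 lc_c_rc_21_2 lc_c_rc_20_4 lc_c_rc_2_1 lc_c_rc_11_3 lc_c_rc_20_2 lc_c_rc_2_1 lc_c_rc_11_3 lc_c_rc_20_2 lc_c_rc_23_2 lc_c_rc_24_2 lc_c_rc_20_2 lc_c_rc_22_2 lc_c_rc_11_3 lc_c_rc_2_1 lc_c_rc_21_2 lc_c_rc_21_2 lc_c_rc_23_2 lc_c_rc_24_2 lc_c_rc_2_1 lc_c_rc_23_0 lc_c_rc_21_2 lc_c_rc_23_2 lc_c_rc_24_2 lc_c_rc_2_1 lc_c_rc_11_3 lc_c_rc_24_2 lc_c_rc_25_2 lc_c_rc_21_2 lc_c_Cert_tree lc_c_rc_20_2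 lc_c_rc_20_2 lc_c_rc_21_2 lc_c_rc_22_2 lc_c_rc_11_3 lc_c_rc_20_2 lc_c_rc_21_2 lc_c_rc_20_2 lc_c_rc_2_1 lc_c_rc_11_3 lc_c_rc_20_2 lc_c_rc_23_2 lc_c_rc_2_1 lc_c_rc_11_3 lc_c_rc_2_1 lc_c_rc_11_3) (@D3.rec (fun _ => (Cert rels S Gen.c)) lc_c_rc_20_2 lc_c_rc_23_2 lc_c_rc_2_1 lc_c_Cert_tree lc_c_rc_11_3 lc_c_rc_20_2 lc_c_rc_2_1 lc_c_rc_2_1 lc_c_rc_2_1 lc_c_rc_2_1 lc_c_rc_11_3 lc_c_rc_26_2 lc_c_rc_19_0 lc_c_rc_11_3 lc_c_rc_21_2 lc_c_rc_20_4 lc_c_rc_11_3 lc_c_rc_20_2 lc_c_rc_56_30 lc_c_rc_11_3 lc_c_rc_21_2 lc_c_rc_11_3 lc_c_rc_19_0 lc_c_rc_2_1 lc_c_rc_11_3 lc_c_rc_20_2 lc_c_rc_23_2 lc_c_rc_2_1 lc_c_rc_11_3 lc_c_rc_23_2 lc_c_rc_2_1 lc_c_rc_11_3 lc_c_rc_2_1 lc_c_rc_11_3 lc_c_rc_2_1 lc_c_rc_2_1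 lc_c_rc_11_3 lc_c_rc_20_2 lc_c_rc_23_2 lc_c_rc_2_1 lc_c_Cert_tree lc_c_rc_11_3 lc_c_rc_20_2 lc_c_rc_20_2 lc_c_rc_2_1 lc_c_rc_55_10 lc_c_rc_11_3 lc_c_rc_20_2 lc_c_rc_24_2 lc_c_rc_56_37 lc_c_rc_2_1) (@D3.rec (fun _ => (Cert rels S Gen.c)) lc_c_rc_56_30 lc_c_rc_11_3 lc_c_rc_21_2 lc_c_rc_20_2 lc_c_rc_2_1 lc_c_rc_2_1 lc_c_rc_2_1 lc_c_rc_11_3 lc_c_rc_26_2 lc_c_rc_2_1 lc_c_rc_2_1 lc_c_rc_11_3 lc_c_rc_21_2 lc_c_rc_2_1 lc_c_rc_2_1 lc_c_rc_11_3 lc_c_rc_20_2 lc_c_rc_20_4 lc_c_rc_11_3 lc_c_rc_2_1 lc_c_Cert_tree lc_c_rc_19_0 lc_c_rc_11_3 lc_c_rc_20_2 lc_c_rc_2_1 lc_c_rc_21_2 lc_c_Cert_tree lc_c_rc_2_1 lc_c_rc_2_1 lc_c_rc_11_3 lc_c_rc_21_2 lc_c_rc_2_1 lc_c_Cert_tree lc_c_rc_19_0 lc_c_rc_11_3 lc_c_rc_20_2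 lc_c_rc_56_37 lc_c_rc_2_3 lc_c_rc_21_2 lc_c_rc_23_2 lc_c_rc_24_2 lc_c_rc_23_0 lc_c_rc_56_23 lc_c_rc_24_2 lc_c_rc_2_1 lc_c_Cert_tree lc_c_rc_20_2 lc_c_rc_11_3 lc_c_rc_11_3 lc_c_rc_20_2 lc_c_rc_2_1) (@D3.rec (fun _ => (Cert rels S Gen.c)) lc_c_rc_55_46 lc_c_rc_20_2 lc_c_rc_23_2 lc_c_rc_2_1 lc_c_rc_11_3 lc_c_rc_22_2 lc_c_rc_2_1 lc_c_rc_11_3 lc_c_rc_22_2 lc_c_rc_19_0 lc_c_rc_11_3 lc_c_rc_20_2 lc_c_rc_21_2 lc_c_Cert_tree lc_c_rc_19_0 lc_c_rc_55_46 lc_c_rc_20_2 lc_c_rc_2_1 lc_c_rc_11_3 lc_c_rc_20_2 lc_c_rc_19_0 lc_c_rc_11_3 lc_c_rc_11_3 lc_c_rc_11_3 lc_c_rc_11_3 lc_c_rc_2_1 lc_c_rc_2_1 lc_c_rc_2_1 lc_c_rc_11_3 lc_c_rc_20_2 lc_c_rc_2_1 lc_c_Cert_tree lc_c_rc_20_2 lc_c_rc_2_1 lc_c_rc_11_3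 lc_c_rc_2_1 lc_c_rc_11_3 lc_c_rc_2_1 lc_c_rc_56_37 lc_c_rc_23_0 lc_c_rc_21_2 lc_c_rc_2_1 lc_c_rc_11_3 lc_c_rc_20_2 lc_c_rc_2_1 lc_c_Cert_tree lc_c_rc_20_2 lc_c_rc_2_1 lc_c_rc_11_3 lc_c_rc_20_2 lc_c_rc_23_2) (@D3.rec (fun _ => (Cert rels S Gen.c)) lc_c_rc_22_2 lc_c_rc_20_2 lc_c_rc_2_1 lc_c_rc_2_1 lc_c_rc_11_3 lc_c_rc_20_2 lc_c_rc_23_2 lc_c_rc_2_1 lc_c_rc_24_2 lc_c_rc_11_3 lc_c_rc_20_2 lc_c_rc_21_0 lc_c_rc_21_2 lc_c_rc_2_1 lc_c_rc_20_2 lc_c_rc_19_0 lc_c_rc_11_3 lc_c_rc_11_3 lc_c_rc_21_2 lc_c_rc_23_2 lc_c_rc_24_2 lc_c_rc_2_1 lc_c_Cert_tree lc_c_rc_11_3 lc_c_rc_23_2 lc_c_rc_21_2 lc_c_rc_24_2 lc_c_rc_2_1 lc_c_rc_21_0 lc_c_rc_21_2 lc_c_Cert_tree lc_c_rc_20_2 lc_c_Cert_tree lc_c_rc_19_0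 lc_c_rc_22_2 lc_c_rc_20_2 lc_c_rc_2_1 lc_c_rc_11_3 lc_c_rc_20_2 lc_c_rc_2_1 lc_c_Cert_tree lc_c_rc_22_2 lc_c_rc_19_0 lc_c_rc_19_0 lc_c_rc_11_3 lc_c_rc_20_2 lc_c_rc_2_1 lc_c_Cert_tree lc_c_rc_11_3 lc_c_rc_22_2 lc_c_Cert_tree) (@D3.rec (fun _ => (Cert rels S Gen.c)) lc_c_rc_19_0 lc_c_rc_11_3 lc_c_rc_25_2 lc_c_rc_2_1 lc_c_rc_2_1 lc_c_rc_11_3 lc_c_rc_22_2 lc_c_rc_2_1 lc_c_rc_11_3 lc_c_rc_26_2 lc_c_rc_19_0 lc_c_rc_22_2 lc_c_rc_22_2 lc_c_rc_26_2 lc_c_rc_19_0 lc_c_rc_26_2 lc_c_rc_20_2 lc_c_rc_26_2 lc_c_rc_21_0 lc_c_rc_55_46 lc_c_rc_20_2 lc_c_rc_21_2 lc_c_Cert_tree lc_c_rc_11_3 lc_c_rc_19_0 lc_c_rc_2_1 lc_c_Cert_tree lc_c_Cert_tree lc_c_rc_19_0 lc_c_rc_22_2 lc_c_rc_2_1 lc_c_rc_19_0 lc_c_rc_55_55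 lc_c_rc_20_2 lc_c_rc_11_3 lc_c_rc_21_2 lc_c_Cert_tree lc_c_rc_20_2 lc_c_rc_2_1 lc_c_rc_11_3 lc_c_rc_23_2 lc_c_rc_19_1 lc_c_rc_11_3 lc_c_rc_11_3 lc_c_rc_20_2 lc_c_rc_22_2 lc_c_rc_2_1 lc_c_rc_11_3 lc_c_rc_25_2 lc_c_rc_2_1 lc_c_rc_11_3) (@D3.rec (fun _ => (Cert rels S Gen.c)) lc_c_Cert_tree lc_c_rc_2_1 lc_c_rc_19_0 lc_c_rc_20_2 lc_c_rc_26_2 lc_c_rc_19_0 lc_c_rc_22_2 lc_c_rc_22_2 lc_c_rc_11_3 lc_c_rc_2_1 lc_c_rc_2_1 lc_c_Cert_tree lc_c_rc_19_1 lc_c_rc_11_3 lc_c_rc_20_2 lc_c_rc_23_2 lc_c_rc_22_2 lc_c_rc_11_3 lc_c_rc_20_2 lc_c_rc_23_2 lc_c_rc_2_1 lc_c_Cert_tree lc_c_rc_11_3 lc_c_rc_20_2 lc_c_rc_21_2 lc_c_Cert_tree lc_c_rc_22_2 lc_c_Cert_tree lc_c_rc_21_2 lc_c_rc_19_0 lc_c_rc_23_2 lc_c_rc_22_2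 lc_c_rc_20_2 lc_c_rc_20_2 lc_c_rc_56_30 lc_c_rc_2_1 lc_c_rc_11_3 lc_c_rc_2_1 lc_c_rc_11_3 lc_c_rc_2_1 lc_c_rc_2_1 lc_c_rc_11_3 lc_c_rc_2_1 lc_c_rc_2_1 lc_c_rc_11_3 lc_c_rc_2_1 lc_c_rc_22_2 lc_c_rc_22_2 lc_c_rc_20_2 lc_c_rc_22_2 lc_c_rc_26_2) (@D3.rec (fun _ => (Cert rels S Gen.c)) lc_c_rc_19_0 lc_c_rc_11_3 lc_c_rc_22_2 lc_c_rc_11_3 lc_c_rc_2_1 lc_c_rc_21_2 lc_c_rc_2_1 lc_c_rc_2_1 lc_c_Cert_tree lc_c_rc_2_1 lc_c_rc_23_0 lc_c_rc_2_1 lc_c_Cert_tree lc_c_rc_2_1 lc_c_rc_11_3 lc_c_rc_2_1 lc_c_rc_11_3 lc_c_rc_19_1 lc_c_Cert_tree lc_c_rc_22_2 lc_c_rc_2_1 lc_c_rc_11_3 lc_c_rc_2_1 lc_c_rc_11_3 lc_c_rc_20_2 lc_c_rc_11_3 lc_c_rc_11_3 lc_c_rc_24_2 lc_c_rc_2_1 lc_c_rc_2_1 lc_c_rc_56_44 lc_c_rc_2_1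 lc_c_rc_56_44 lc_c_rc_11_3 lc_c_rc_2_1 lc_c_rc_2_1 lc_c_Cert_tree lc_c_rc_2_1 lc_c_rc_2_1 lc_c_rc_11_3 lc_c_rc_2_1 lc_c_Cert_tree lc_c_rc_20_2 lc_c_rc_11_3 lc_c_rc_20_2 lc_c_rc_23_2 lc_c_rc_2_1 lc_c_rc_55_64 lc_c_rc_2_1 lc_c_rc_11_3 lc_c_rc_20_2) (@D3.rec (fun _ => (Cert rels S Gen.c)) lc_c_rc_2_1 lc_c_rc_56_44 lc_c_rc_11_3 lc_c_rc_20_2 lc_c_rc_2_1 lc_c_Cert_tree lc_c_rc_2_1 lc_c_Cert_tree lc_c_rc_2_1 lc_c_Cert_tree lc_c_Cert_tree lc_c_rc_19_0 lc_c_rc_21_2 lc_c_Cert_tree lc_c_rc_20_0 lc_c_rc_2_1 lc_c_Cert_tree lc_c_rc_19_0 lc_c_rc_22_2 lc_c_rc_26_2 lc_c_rc_2_1 lc_c_rc_20_4 lc_c_rc_2_3 lc_c_rc_20_2 lc_c_rc_25_2 lc_c_Cert_tree lc_c_rc_26_2 lc_c_rc_2_3 lc_c_rc_24_2 lc_c_rc_22_2 lc_c_rc_2_3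 lc_c_rc_2_1 lc_c_rc_2_1 lc_c_rc_2_1 lc_c_Cert_tree lc_c_rc_2_1 lc_c_rc_2_1 lc_c_Cert_tree lc_c_rc_2_1 lc_c_Cert_tree lc_c_Cert_tree lc_c_rc_19_0 lc_c_rc_2_1 lc_c_rc_2_1 lc_c_rc_2_1 lc_c_rc_22_2 lc_c_rc_11_3 lc_c_rc_20_2 lc_c_rc_23_2 lc_c_rc_22_2 lc_c_Cert_tree) (@D3.rec (fun _ => (Cert rels S Gen.c)) lc_c_rc_11_3 lc_c_rc_2_1 lc_c_rc_19_1 lc_c_rc_11_3 lc_c_rc_20_2 lc_c_rc_23_2 lc_c_rc_21_2 lc_c_Cert_tree lc_c_rc_11_3 lc_c_rc_21_2 lc_c_rc_11_3 lc_c_rc_2_1 lc_c_rc_2_1 lc_c_rc_2_1 lc_c_rc_21_2 lc_c_Cert_tree lc_c_rc_21_2 lc_c_Cert_tree lc_c_Cert_tree lc_c_rc_19_0 lc_c_rc_21_2 lc_c_rc_21_2 lc_c_Cert_tree lc_c_rc_2_1 lc_c_Cert_tree lc_c_Cert_tree lc_c_rc_19_0 lc_c_rc_2_1 lc_c_rc_21_2 lc_c_Cert_tree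 lc_c_rc_2_1 lc_c_Cert_tree lc_c_Cert_tree lc_c_rc_19_0 lc_c_Cert_tree lc_c_rc_19_0 lc_c_rc_20_2 lc_c_rc_2_1 lc_c_rc_22_0 lc_c_rc_20_4 lc_c_rc_21_2 lc_c_Cert_tree lc_c_Cert_tree lc_c_rc_19_0 lc_c_rc_20_4 lc_c_rc_2_1 lc_c_Cert_tree lc_c_rc_22_2 lc_c_rc_2_1 lc_c_rc_11_3 lc_c_rc_21_0) (@D3.rec (fun _ => (Cert rels S Gen.c)) lc_c_rc_2_1 lc_c_rc_26_2 lc_c_rc_20_2 lc_c_rc_23_0 lc_c_Cert_tree lc_c_rc_2_1 lc_c_Cert_tree lc_c_Cert_tree lc_c_rc_19_0 lc_c_rc_21_2 lc_c_Cert_tree lc_c_rc_19_0 lc_c_Cert_tree lc_c_rc_19_0 lc_c_rc_19_0 lc_c_rc_22_2 lc_c_rc_22_2 lc_c_rc_2_1 lc_c_rc_11_1 lc_c_rc_2_1 lc_c_rc_11_3 lc_c_rc_19_1 lc_c_rc_2_1 lc_c_rc_2_1 lc_c_rc_56_37 lc_c_rc_26_2 lc_c_rc_19_0 lc_c_rc_11_3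 lc_c_rc_11_3 lc_c_rc_2_1 lc_c_rc_11_3 lc_c_rc_20_2 lc_c_rc_2_1 lc_c_rc_11_3 lc_c_rc_20_2 lc_c_rc_23_2 lc_c_rc_24_2 lc_c_rc_20_2 lc_c_rc_2_1 lc_c_rc_23_0 lc_c_rc_21_2 lc_c_rc_23_2 lc_c_rc_24_2 lc_c_rc_2_1 lc_c_rc_21_2 lc_c_rc_21_2 lc_c_rc_23_2 lc_c_rc_24_2 lc_c_rc_2_1 lc_c_rc_11_3 lc_c_rc_24_2) (@D3.rec (fun _ => (Cert rels S Gen.c)) lc_c_rc_2_1 lc_c_Cert_tree lc_c_rc_20_2 lc_c_rc_2_1 lc_c_rc_11_3 lc_c_rc_20_2 lc_c_rc_23_2 lc_c_rc_24_2 lc_c_rc_2_1 lc_c_rc_11_3 lc_c_rc_24_2 lc_c_rc_2_1 lc_c_rc_11_3 lc_c_rc_20_2 lc_c_rc_23_2 lc_c_rc_2_1 lc_c_rc_11_3 lc_c_rc_22_2 lc_c_rc_2_1 lc_c_rc_11_3 lc_c_rc_20_2 lc_c_rc_23_2 lc_c_rc_2_1 lc_c_Cert_tree lc_c_rc_11_3 lc_c_rc_20_2 lc_c_rc_2_1 lc_c_rc_2_1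 lc_c_rc_11_3 lc_c_rc_26_2 lc_c_rc_22_2 lc_c_rc_23_0 lc_c_rc_55_28 lc_c_rc_11_3 lc_c_rc_24_2 lc_c_rc_2_1 lc_c_rc_11_3 lc_c_rc_20_0 lc_c_rc_55_28 lc_c_rc_11_3 lc_c_rc_11_3 lc_c_rc_2_1 lc_c_rc_11_3 lc_c_rc_2_1 lc_c_rc_2_1 lc_c_rc_11_3 lc_c_rc_20_2 lc_c_rc_23_2 lc_c_rc_2_1 lc_c_Cert_tree lc_c_rc_11_3) (@D3.rec (fun _ => (Cert rels S Gen.c)) lc_c_rc_20_2 lc_c_rc_20_2 lc_c_rc_2_1 lc_c_rc_11_3 lc_c_rc_24_2 lc_c_rc_2_1 lc_c_rc_11_3 lc_c_rc_2_1 lc_c_rc_2_1 lc_c_rc_11_3 lc_c_rc_26_2 lc_c_rc_2_1 lc_c_rc_2_1 lc_c_rc_11_3 lc_c_rc_2_1 lc_c_rc_2_1 lc_c_rc_11_3 lc_c_rc_20_2 lc_c_rc_2_1 lc_c_rc_2_1 lc_c_Cert_tree lc_c_rc_2_1 lc_c_Cert_tree lc_c_rc_2_1 lc_c_Cert_tree lc_c_rc_2_1 lc_c_Cert_tree lc_c_rc_22_2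 lc_c_rc_20_2 lc_c_rc_2_1 lc_c_rc_11_3 lc_c_rc_23_2 lc_c_rc_2_1 lc_c_rc_11_3 lc_c_rc_21_2 lc_c_rc_23_2 lc_c_rc_24_2 lc_c_rc_20_4 lc_c_rc_55_37 lc_c_rc_21_2 lc_c_rc_23_2 lc_c_rc_24_2 lc_c_rc_2_1 lc_c_rc_11_3 lc_c_rc_24_2 lc_c_rc_2_1 lc_c_rc_11_3 lc_c_rc_20_2 lc_c_rc_23_2 lc_c_rc_2_1 lc_c_Cert_tree) (@D3.rec (fun _ => (Cert rels S Gen.c)) lc_c_rc_20_2 lc_c_rc_20_2 lc_c_rc_11_3 lc_c_rc_2_1 lc_c_rc_20_2 lc_c_rc_11_3 lc_c_rc_22_2 lc_c_rc_2_1 lc_c_Cert_tree lc_c_rc_11_3 lc_c_rc_23_2 lc_c_rc_2_1 lc_c_Cert_tree lc_c_rc_11_3 lc_c_rc_23_2 lc_c_rc_21_2 lc_c_rc_2_1 lc_c_rc_11_3 lc_c_Cert_tree lc_c_rc_19_0 lc_c_rc_22_2 lc_c_rc_20_2 lc_c_rc_2_1 lc_c_rc_11_3 lc_c_rc_20_2 lc_c_rc_23_2 lc_c_rc_2_1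 lc_c_Cert_tree lc_c_rc_22_2 lc_c_rc_2_1 lc_c_rc_21_2 lc_c_Cert_tree lc_c_rc_2_1 lc_c_rc_2_1 lc_c_rc_11_3 lc_c_rc_2_1 lc_c_rc_11_3 lc_c_rc_2_1 lc_c_Cert_tree lc_c_rc_21_2 lc_c_Cert_tree lc_c_Cert_tree lc_c_rc_2_1 lc_c_rc_19_0 lc_c_rc_23_2 lc_c_rc_21_2 lc_c_rc_2_1 lc_c_rc_2_1 lc_c_rc_11_3 lc_c_rc_23_2 lc_c_rc_11_3) (@D3.rec (fun _ => (Cert rels S Gen.c)) lc_c_rc_20_2 lc_c_rc_2_1 lc_c_Cert_tree lc_c_rc_55_28 lc_c_rc_20_2 lc_c_rc_22_2 lc_c_Cert_tree lc_c_rc_19_0 lc_c_rc_22_2 lc_c_rc_26_2 lc_c_rc_25_2 lc_c_rc_2_1 lc_c_rc_11_3 lc_c_rc_2_1 lc_c_rc_2_1 lc_c_rc_19_0 lc_c_rc_2_1 lc_c_rc_2_1 lc_c_rc_2_1 lc_c_rc_2_1 lc_c_rc_2_1 lc_c_rc_2_1 lc_c_rc_11_3 lc_c_rc_21_2 lc_c_rc_23_2 lc_c_rc_2_1 lc_c_rc_11_3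 lc_c_rc_21_2 lc_c_rc_23_2 lc_c_rc_20_4 lc_c_rc_11_3 lc_c_rc_2_1 lc_c_Cert_tree lc_c_rc_2_1 lc_c_rc_21_2 lc_c_Cert_tree lc_c_rc_11_3 lc_c_rc_20_2 lc_c_rc_2_1 lc_c_rc_2_1 lc_c_rc_2_1 lc_c_rc_2_1 lc_c_rc_2_1 lc_c_rc_11_3 lc_c_rc_55_46 lc_c_rc_21_2 lc_c_rc_23_2 lc_c_rc_24_2 lc_c_rc_20_4 lc_c_rc_26_2 lc_c_rc_21_2) (@D3.rec (fun _ => (Cert rels S Gen.c)) lc_c_rc_23_2 lc_c_rc_24_2 lc_c_rc_19_0 lc_c_rc_56_30 lc_c_rc_24_2 lc_c_rc_21_2 lc_c_Cert_tree lc_c_rc_20_2 lc_c_rc_2_1 lc_c_rc_25_2 lc_c_Cert_tree lc_c_rc_11_3 lc_c_rc_20_2 lc_c_rc_2_1 lc_c_rc_2_1 lc_c_rc_11_3 lc_c_rc_26_2 lc_c_rc_2_1 lc_c_rc_2_1 lc_c_rc_2_1 lc_c_rc_2_1 lc_c_rc_11_3 lc_c_rc_26_2 lc_c_rc_56_30 lc_c_rc_11_3 lc_c_rc_22_2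 lc_c_rc_2_1 lc_c_rc_26_2 lc_c_rc_21_2 lc_c_rc_21_2 lc_c_Cert_tree lc_c_rc_2_1 lc_c_rc_55_64 lc_c_rc_11_3 lc_c_rc_20_2 lc_c_rc_22_2 lc_c_rc_24_2 lc_c_rc_2_1 lc_c_rc_2_1 lc_c_Cert_tree lc_c_rc_22_2 lc_c_rc_23_2 lc_c_rc_24_2 lc_c_rc_2_1 lc_c_Cert_tree lc_c_rc_21_2 lc_c_rc_23_2 lc_c_rc_21_2 lc_c_rc_24_2 lc_c_rc_2_1 lc_c_rc_11_3) (@D3.rec (fun _ => (Cert rels S Gen.c)) lc_c_rc_25_2 lc_c_Cert_tree lc_c_rc_19_0 lc_c_rc_22_2 lc_c_rc_20_2 lc_c_rc_22_2 lc_c_rc_11_3 lc_c_rc_22_2 lc_c_Cert_tree lc_c_rc_2_1 lc_c_Cert_tree lc_c_rc_11_3 lc_c_rc_2_1 lc_c_rc_2_1 lc_c_Cert_tree lc_c_rc_11_3 lc_c_rc_20_2 lc_c_Cert_tree lc_c_rc_2_1 lc_c_rc_19_0 lc_c_rc_23_2 lc_c_rc_21_2 lc_c_rc_2_1 lc_c_rc_11_3 lc_c_rc_2_1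 lc_c_rc_11_3 lc_c_rc_21_2 lc_c_Cert_tree lc_c_rc_21_2 lc_c_rc_2_1 lc_c_Cert_tree lc_c_rc_11_3 lc_c_rc_2_1 lc_c_rc_11_3 lc_c_rc_2_1 lc_c_rc_2_1 lc_c_rc_2_1 lc_c_Cert_tree lc_c_rc_11_3 lc_c_rc_20_2 lc_c_rc_22_2 lc_c_Cert_tree lc_c_rc_2_1 lc_c_rc_19_0 lc_c_rc_23_2 lc_c_rc_22_2 lc_c_rc_20_2 lc_c_rc_20_2 lc_c_rc_19_0 lc_c_rc_2_1 lc_c_rc_11_3) (@D3.rec (fun _ => (Cert rels S Gen.c)) lc_c_rc_11_3 lc_c_rc_19_0 lc_c_rc_2_1 lc_c_rc_20_0 lc_c_rc_20_2 lc_c_rc_21_2 lc_c_rc_2_1 lc_c_rc_11_3 lc_c_rc_2_1 lc_c_rc_2_1 lc_c_Cert_tree lc_c_rc_11_3 lc_c_Cert_tree lc_c_rc_19_0 lc_c_rc_21_2 lc_c_Cert_tree lc_c_Cert_tree lc_c_rc_19_0 lc_c_rc_26_2 lc_c_Cert_tree lc_c_rc_19_0 lc_c_rc_21_2 lc_c_Cert_tree lc_c_rc_20_2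 lc_c_rc_2_1 lc_c_Cert_tree lc_c_rc_11_3 lc_c_rc_23_2 lc_c_rc_21_2 lc_c_rc_24_2 lc_c_rc_56_37 lc_c_rc_11_3 lc_c_Cert_tree lc_c_rc_19_0 lc_c_rc_22_2 lc_c_rc_21_2 lc_c_Cert_tree lc_c_rc_19_1 lc_c_rc_11_3 lc_c_rc_11_3 lc_c_rc_22_2 lc_c_rc_2_1 lc_c_rc_11_3 lc_c_rc_2_1 lc_c_rc_21_2 lc_c_Cert_tree lc_c_Cert_tree lc_c_rc_19_0 lc_c_rc_2_1 lc_c_Cert_tree lc_c_rc_26_2) (@D3.rec (fun _ => (Cert rels S Gen.c)) lc_c_rc_11_3 lc_c_rc_2_1 lc_c_rc_2_1 lc_c_rc_2_1 lc_c_rc_2_1 lc_c_Cert_tree lc_c_rc_22_2 lc_c_Cert_tree lc_c_rc_19_0 lc_c_rc_22_2 lc_c_rc_2_1 lc_c_rc_2_1 lc_c_rc_2_1 lc_c_Cert_tree lc_c_rc_2_1 lc_c_Cert_tree lc_c_rc_20_2 lc_c_Cert_tree lc_c_rc_19_0 lc_c_rc_22_2 lc_c_rc_20_2 lc_c_rc_11_3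 lc_c_rc_11_3 lc_c_rc_11_3 lc_c_rc_20_2 lc_c_rc_22_2 lc_c_rc_2_1 lc_c_Cert_tree lc_c_rc_11_3 lc_c_rc_2_1 lc_c_rc_2_1 lc_c_rc_20_2 lc_c_rc_21_0 lc_c_rc_21_2 lc_c_rc_21_2 lc_c_rc_11_3 lc_c_Cert_tree lc_c_rc_11_3 lc_c_rc_23_2 lc_c_rc_21_2 lc_c_rc_24_2 lc_c_Cert_tree lc_c_rc_2_1 lc_c_rc_19_0 lc_c_rc_23_2 lc_c_rc_22_2 lc_c_rc_24_2 lc_c_rc_21_0 lc_c_Cert_tree lc_c_rc_19_0 lc_c_rc_22_2)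
def ce_c_22 : D2 → D3 → (Cert rels S Gen.c) := @D2.rec (fun _ => D3 → (Cert rels S Gen.c)) (@D3.rec (fun _ => (Cert rels S Gen.c)) lc_c_rc_20_2 lc_c_rc_19_0 lc_c_rc_22_2 lc_c_rc_22_2 lc_c_rc_26_2 lc_c_rc_2_1 lc_c_Cert_tree lc_c_Cert_tree lc_c_rc_19_0 lc_c_rc_22_2 lc_c_rc_20_2 lc_c_rc_11_3 lc_c_Cert_tree lc_c_rc_2_1 lc_c_rc_19_0 lc_c_rc_11_3 lc_c_rc_26_2 lc_c_rc_19_0 lc_c_rc_21_2 lc_c_rc_11_3 lc_c_rc_2_1 lc_c_rc_11_3 lc_c_rc_2_1 lc_c_rc_11_3 lc_c_rc_22_2 lc_c_rc_26_2 lc_c_rc_20_2 lc_c_rc_26_2 lc_c_rc_20_2 lc_c_rc_19_0 lc_c_Cert_tree lc_c_Cert_tree lc_c_rc_21_2 lc_c_rc_19_0 lc_c_Cert_tree lc_c_rc_19_0 lc_c_rc_19_0 lc_c_rc_22_2 lc_c_rc_22_2 lc_c_rc_2_1 lc_c_Cert_tree lc_c_Cert_tree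 lc_c_rc_19_0 lc_c_rc_22_2 lc_c_rc_20_2 lc_c_rc_20_2 lc_c_rc_11_3 lc_c_rc_2_1 lc_c_rc_22_0 lc_c_rc_20_2 lc_c_rc_21_2) (@D3.rec (fun _ => (Cert rels S Gen.c)) lc_c_rc_22_2 lc_c_rc_26_2 lc_c_rc_2_1 lc_c_rc_11_3 lc_c_rc_2_1 lc_c_rc_19_0 lc_c_rc_22_2 lc_c_rc_55_28 lc_c_rc_2_1 lc_c_rc_22_2 lc_c_rc_22_2 lc_c_Cert_tree lc_c_rc_19_0 lc_c_rc_2_1 lc_c_Cert_tree lc_c_rc_11_3 lc_c_rc_2_1 lc_c_Cert_tree lc_c_rc_11_3 lc_c_rc_20_2 lc_c_rc_22_2 lc_c_Cert_tree lc_c_rc_2_1 lc_c_rc_19_0 lc_c_rc_23_2 lc_c_Cert_tree lc_c_rc_19_0 lc_c_rc_22_2 lc_c_rc_22_2 lc_c_rc_19_0 lc_c_rc_23_2 lc_c_rc_22_2 lc_c_rc_23_2 lc_c_rc_22_2 lc_c_rc_21_2 lc_c_rc_26_2 lc_c_rc_21_2 lc_c_rc_2_1 lc_c_rc_2_1 lc_c_rc_2_1 lc_c_rc_2_1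 lc_c_rc_2_1 lc_c_rc_21_2 lc_c_rc_19_0 lc_c_rc_11_3 lc_c_rc_26_2 lc_c_Cert_tree lc_c_rc_19_0 lc_c_Cert_tree lc_c_rc_19_0 lc_c_rc_2_1) (@D3.rec (fun _ => (Cert rels S Gen.c)) lc_c_rc_22_2 lc_c_Cert_tree lc_c_rc_19_0 lc_c_rc_22_2 lc_c_rc_26_2 lc_c_rc_2_1 lc_c_rc_2_1 lc_c_Cert_tree lc_c_rc_11_3 lc_c_rc_11_3 lc_c_rc_11_1 lc_c_rc_19_1 lc_c_rc_2_1 lc_c_Cert_tree lc_c_rc_19_0 lc_c_rc_56_37 lc_c_Cert_tree lc_c_rc_19_0 lc_c_rc_2_1 lc_c_Cert_tree lc_c_rc_11_3 lc_c_rc_19_1 lc_c_rc_2_1 lc_c_Cert_tree lc_c_rc_2_1 lc_c_Cert_tree lc_c_Cert_tree lc_c_rc_19_0 lc_c_Cert_tree lc_c_rc_19_0 lc_c_Cert_tree lc_c_rc_19_0 lc_c_rc_19_0 lc_c_Cert_tree lc_c_rc_21_2 lc_c_rc_19_0 lc_c_rc_19_0 lc_c_rc_22_2 lc_c_rc_22_2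 lc_c_rc_26_2 lc_c_rc_2_1 lc_c_Cert_tree lc_c_Cert_tree lc_c_rc_19_0 lc_c_rc_2_1 lc_c_rc_11_3 lc_c_rc_19_1 lc_c_Cert_tree lc_c_rc_19_0 lc_c_Cert_tree lc_c_rc_19_0) (@D3.rec (fun _ => (Cert rels S Gen.c)) lc_c_Cert_tree lc_c_rc_19_0 lc_c_rc_19_0 lc_c_rc_22_2 lc_c_Cert_tree lc_c_rc_11_3 lc_c_Cert_tree lc_c_rc_2_1 lc_c_rc_19_0 lc_c_rc_20_0 lc_c_Cert_tree lc_c_rc_11_3 lc_c_Cert_tree lc_c_rc_2_1 lc_c_rc_19_0 lc_c_rc_2_1 lc_c_Cert_tree lc_c_rc_19_0 lc_c_Cert_tree lc_c_rc_19_0 lc_c_rc_19_0 lc_c_Cert_tree lc_c_rc_19_0 lc_c_Cert_tree lc_c_rc_19_0 lc_c_rc_19_0 lc_c_Cert_tree lc_c_rc_19_0 lc_c_Cert_tree lc_c_rc_19_0 lc_c_rc_19_0 lc_c_rc_19_0 lc_c_Cert_tree lc_c_rc_19_0 lc_c_rc_19_0 lc_c_Cert_tree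 lc_c_rc_19_0 lc_c_rc_22_2 lc_c_rc_26_2 lc_c_rc_2_1 lc_c_rc_11_3 lc_c_rc_2_1 lc_c_Cert_tree lc_c_Cert_tree lc_c_rc_19_0 lc_c_Cert_tree lc_c_rc_19_0 lc_c_rc_19_0 lc_c_rc_19_0 lc_c_rc_19_0 lc_c_rc_11_3) (@D3.rec (fun _ => (Cert rels S Gen.c)) lc_c_rc_22_2 lc_c_rc_55_28 lc_c_rc_2_1 lc_c_rc_11_3 lc_c_rc_11_3 lc_c_rc_2_1 lc_c_rc_2_1 lc_c_Cert_tree lc_c_rc_20_2 lc_c_rc_2_1 lc_c_rc_20_2 lc_c_rc_11_3 lc_c_rc_20_2 lc_c_rc_24_2 lc_c_rc_2_1 lc_c_Cert_tree lc_c_rc_21_2 lc_c_rc_23_2 lc_c_rc_24_2 lc_c_rc_2_1 lc_c_Cert_tree lc_c_rc_22_2 lc_c_rc_23_2 lc_c_rc_21_2 lc_c_rc_24_2 lc_c_rc_2_1 lc_c_rc_11_3 lc_c_Cert_tree lc_c_rc_19_0 lc_c_rc_22_2 lc_c_rc_20_2 lc_c_rc_2_1 lc_c_Cert_tree lc_c_rc_11_3 lc_c_rc_24_2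 lc_c_rc_2_1 lc_c_rc_11_3 lc_c_rc_20_0 lc_c_rc_26_2 lc_c_rc_11_3 lc_c_rc_22_2 lc_c_rc_2_1 lc_c_rc_11_3 lc_c_rc_2_1 lc_c_Cert_tree lc_c_rc_11_3 lc_c_rc_20_2 lc_c_Cert_tree lc_c_rc_2_1 lc_c_rc_19_0 lc_c_rc_23_2) (@D3.rec (fun _ => (Cert rels S Gen.c)) lc_c_rc_21_2 lc_c_rc_2_1 lc_c_rc_11_3 lc_c_rc_19_0 lc_c_rc_2_1 lc_c_rc_11_3 lc_c_rc_2_1 lc_c_rc_24_2 lc_c_rc_11_3 lc_c_rc_2_1 lc_c_rc_2_1 lc_c_Cert_tree lc_c_rc_11_3 lc_c_rc_20_2 lc_c_rc_22_2 lc_c_Cert_tree lc_c_rc_2_1 lc_c_rc_19_0 lc_c_rc_23_2 lc_c_rc_22_2 lc_c_rc_20_2 lc_c_rc_2_1 lc_c_rc_11_3 lc_c_rc_2_1 lc_c_rc_2_1 lc_c_rc_11_3 lc_c_rc_2_1 lc_c_rc_2_1 lc_c_Cert_tree lc_c_Cert_tree lc_c_rc_19_0 lc_c_Cert_tree lc_c_rc_19_0 lc_c_Cert_tree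 lc_c_rc_19_0 lc_c_Cert_tree lc_c_rc_19_0 lc_c_rc_22_2 lc_c_rc_26_2 lc_c_rc_2_1 lc_c_rc_11_3 lc_c_rc_19_0 lc_c_Cert_tree lc_c_rc_11_3 lc_c_rc_23_2 lc_c_rc_24_2 lc_c_rc_11_1 lc_c_Cert_tree lc_c_rc_11_3 lc_c_rc_23_2 lc_c_rc_24_2) (@D3.rec (fun _ => (Cert rels S Gen.c)) lc_c_rc_2_1 lc_c_rc_55_28 lc_c_rc_2_1 lc_c_Cert_tree lc_c_rc_55_55 lc_c_rc_20_2 lc_c_Cert_tree lc_c_rc_19_0 lc_c_rc_22_2 lc_c_rc_2_1 lc_c_rc_2_1 lc_c_rc_2_1 lc_c_rc_24_2 lc_c_Cert_tree lc_c_rc_2_1 lc_c_rc_19_0 lc_c_rc_23_2 lc_c_rc_23_2 lc_c_Cert_tree lc_c_rc_2_1 lc_c_rc_19_0 lc_c_rc_23_2 lc_c_rc_22_2 lc_c_rc_23_2 lc_c_rc_2_1 lc_c_rc_19_0 lc_c_rc_22_2 lc_c_rc_22_2 lc_c_rc_26_2 lc_c_rc_2_1 lc_c_Cert_tree lc_c_rc_55_46 lc_c_rc_20_2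 lc_c_rc_22_2 lc_c_Cert_tree lc_c_rc_19_0 lc_c_rc_22_2 lc_c_rc_26_2 lc_c_Cert_tree lc_c_rc_19_0 lc_c_rc_2_1 lc_c_rc_2_1 lc_c_Cert_tree lc_c_rc_19_0 lc_c_Cert_tree lc_c_rc_19_0 lc_c_rc_19_0 lc_c_rc_23_2 lc_c_rc_23_2 lc_c_rc_21_2 lc_c_rc_2_1) (@D3.rec (fun _ => (Cert rels S Gen.c)) lc_c_rc_26_0 lc_c_Cert_tree lc_c_Cert_tree lc_c_rc_19_0 lc_c_rc_19_0 lc_c_rc_23_2 lc_c_rc_22_2 lc_c_rc_19_0 lc_c_rc_22_2 lc_c_rc_22_2 lc_c_rc_26_2 lc_c_rc_2_1 lc_c_Cert_tree lc_c_rc_11_3 lc_c_rc_2_1 lc_c_Cert_tree lc_c_rc_11_3 lc_c_rc_22_0 lc_c_Cert_tree lc_c_rc_19_0 lc_c_Cert_tree lc_c_rc_2_1 lc_c_rc_19_0 lc_c_rc_55_37 lc_c_rc_19_0 lc_c_Cert_tree lc_c_rc_11_3 lc_c_rc_24_2 lc_c_rc_26_2 lc_c_Cert_tree lc_c_rc_11_3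 lc_c_rc_23_2 lc_c_rc_21_2 lc_c_rc_24_2 lc_c_rc_26_2 lc_c_rc_2_3 lc_c_Cert_tree lc_c_rc_19_0 lc_c_rc_20_2 lc_c_Cert_tree lc_c_rc_2_1 lc_c_rc_19_0 lc_c_rc_23_2 lc_c_rc_21_2 lc_c_rc_2_1 lc_c_rc_11_3 lc_c_rc_2_1 lc_c_rc_11_3 lc_c_rc_2_1 lc_c_rc_26_2 lc_c_Cert_tree) (@D3.rec (fun _ => (Cert rels S Gen.c)) lc_c_Cert_tree lc_c_rc_19_0 lc_c_rc_26_2 lc_c_rc_2_1 lc_c_rc_19_0 lc_c_rc_22_2 lc_c_rc_11_3 lc_c_Cert_tree lc_c_rc_2_1 lc_c_rc_19_0 lc_c_rc_23_2 lc_c_rc_22_2 lc_c_rc_23_2 lc_c_rc_24_2 lc_c_Cert_tree lc_c_rc_2_1 lc_c_rc_19_0 lc_c_rc_23_2 lc_c_rc_22_2 lc_c_rc_21_2 lc_c_rc_24_2 lc_c_rc_23_2 lc_c_rc_2_1 lc_c_rc_20_2 lc_c_rc_19_0 lc_c_rc_22_2 lc_c_rc_22_2 lc_c_rc_26_2 lc_c_rc_22_2 lc_c_Cert_tree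 lc_c_rc_19_0 lc_c_Cert_tree lc_c_rc_2_1 lc_c_rc_19_0 lc_c_Cert_tree lc_c_rc_2_1 lc_c_rc_19_0 lc_c_rc_23_2 lc_c_rc_21_2 lc_c_rc_19_0 lc_c_rc_23_2 lc_c_rc_23_2 lc_c_rc_21_2 lc_c_rc_2_1 lc_c_rc_21_2 lc_c_Cert_tree lc_c_rc_19_0 lc_c_Cert_tree lc_c_rc_2_1 lc_c_rc_19_0 lc_c_rc_2_1) (@D3.rec (fun _ => (Cert rels S Gen.c)) lc_c_Cert_tree lc_c_rc_2_1 lc_c_rc_19_0 lc_c_rc_23_2 lc_c_rc_22_2 lc_c_rc_22_2 lc_c_rc_19_0 lc_c_rc_23_2 lc_c_rc_22_2 lc_c_rc_23_2 lc_c_rc_22_2 lc_c_rc_21_2 lc_c_rc_26_2 lc_c_rc_2_1 lc_c_rc_2_1 lc_c_rc_21_2 lc_c_rc_2_1 lc_c_rc_21_2 lc_c_rc_2_1 lc_c_Cert_tree lc_c_rc_19_0 lc_c_rc_19_0 lc_c_Cert_tree lc_c_rc_19_0 lc_c_rc_19_0 lc_c_rc_19_0 lc_c_Cert_tree lc_c_rc_19_0 lc_c_rc_22_2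 lc_c_Cert_tree lc_c_rc_21_2 lc_c_rc_19_0 lc_c_rc_23_2 lc_c_rc_22_2 lc_c_rc_11_3 lc_c_rc_24_2 lc_c_rc_19_0 lc_c_rc_22_2 lc_c_rc_22_2 lc_c_Cert_tree lc_c_rc_19_0 lc_c_rc_2_1 lc_c_rc_22_0 lc_c_rc_11_3 lc_c_rc_2_1 lc_c_Cert_tree lc_c_rc_19_0 lc_c_rc_19_0 lc_c_Cert_tree lc_c_rc_19_0 lc_c_rc_2_1) (@D3.rec (fun _ => (Cert rels S Gen.c)) lc_c_Cert_tree lc_c_rc_19_0 lc_c_rc_22_2 lc_c_rc_19_0 lc_c_rc_22_2 lc_c_rc_22_2 lc_c_Cert_tree lc_c_rc_19_0 lc_c_Cert_tree lc_c_rc_19_0 lc_c_rc_22_2 lc_c_rc_19_0 lc_c_rc_22_2 lc_c_rc_22_2 lc_c_rc_26_2 lc_c_rc_2_1 lc_c_rc_11_3 lc_c_rc_26_0 lc_c_rc_11_3 lc_c_Cert_tree lc_c_rc_2_1 lc_c_rc_19_0 lc_c_rc_22_2 lc_c_rc_21_0 lc_c_rc_21_2 lc_c_Cert_tree lc_c_rc_22_2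 lc_c_rc_19_0 lc_c_rc_23_2 lc_c_rc_22_2 lc_c_rc_26_2 lc_c_rc_19_0 lc_c_rc_23_2 lc_c_rc_22_2 lc_c_rc_2_1 lc_c_rc_23_2 lc_c_rc_22_2 lc_c_rc_19_0 lc_c_rc_22_2 lc_c_rc_22_2 lc_c_rc_26_2 lc_c_rc_11_3 lc_c_rc_22_2 lc_c_rc_26_2 lc_c_rc_20_2 lc_c_rc_26_2 lc_c_Cert_tree lc_c_rc_19_0 lc_c_rc_19_0 lc_c_rc_22_2 lc_c_rc_22_2) (@D3.rec (fun _ => (Cert rels S Gen.c)) lc_c_rc_2_1 lc_c_rc_19_0 lc_c_rc_21_2 lc_c_rc_11_3 lc_c_rc_21_2 lc_c_rc_2_1 lc_c_rc_2_1 lc_c_rc_2_1 lc_c_rc_26_2 lc_c_rc_20_2 lc_c_Cert_tree lc_c_rc_19_0 lc_c_rc_19_0 lc_c_rc_19_0 lc_c_rc_11_3 lc_c_rc_22_2 lc_c_Cert_tree lc_c_rc_19_0 lc_c_rc_19_0 lc_c_rc_22_2 lc_c_rc_22_2 lc_c_rc_26_2 lc_c_rc_23_2 lc_c_rc_25_2 lc_c_rc_24_2 lc_c_rc_11_3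 lc_c_rc_21_2 lc_c_rc_22_2 lc_c_rc_2_1 lc_c_rc_19_1 lc_c_rc_22_2 lc_c_rc_19_0 lc_c_Cert_tree lc_c_rc_2_1 lc_c_rc_19_0 lc_c_Cert_tree lc_c_rc_2_1 lc_c_rc_19_0 lc_c_rc_23_2 lc_c_rc_22_2 lc_c_rc_19_0 lc_c_rc_23_2 lc_c_rc_23_2 lc_c_rc_19_0 lc_c_rc_22_2 lc_c_rc_22_2 lc_c_rc_26_2 lc_c_rc_11_3 lc_c_rc_23_2 lc_c_rc_22_2 lc_c_rc_21_2) (@D3.rec (fun _ => (Cert rels S Gen.c)) lc_c_rc_26_2 lc_c_rc_21_2 lc_c_rc_26_2 lc_c_rc_26_2 lc_c_rc_2_1 lc_c_rc_19_0 lc_c_rc_19_0 lc_c_rc_19_0 lc_c_rc_22_2 lc_c_rc_22_2 lc_c_rc_26_2 lc_c_Cert_tree lc_c_rc_19_0 lc_c_rc_11_3 lc_c_rc_19_0 lc_c_rc_19_0 lc_c_Cert_tree lc_c_rc_22_2 lc_c_rc_19_0 lc_c_Cert_tree lc_c_rc_19_0 lc_c_Cert_tree lc_c_rc_19_0 lc_c_rc_19_0 lc_c_rc_19_0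 lc_c_rc_19_0 lc_c_rc_11_3 lc_c_rc_19_0 lc_c_rc_11_3 lc_c_rc_22_2 lc_c_rc_26_2 lc_c_rc_26_2 lc_c_Cert_tree lc_c_rc_19_0 lc_c_rc_19_0 lc_c_rc_26_2 lc_c_rc_19_0 lc_c_rc_19_0 lc_c_rc_19_0 lc_c_rc_11_3 lc_c_Cert_tree lc_c_rc_2_1 lc_c_rc_19_0 lc_c_rc_19_0 lc_c_Cert_tree lc_c_rc_2_1 lc_c_rc_19_0 lc_c_rc_19_0 lc_c_rc_19_0 lc_c_rc_19_0 lc_c_rc_11_3) (@D3.rec (fun _ => (Cert rels S Gen.c)) lc_c_rc_19_0 lc_c_rc_19_0 lc_c_rc_56_44 lc_c_rc_19_0 lc_c_rc_19_0 lc_c_rc_11_3 lc_c_rc_11_3 lc_c_rc_19_0 lc_c_rc_56_44 lc_c_rc_19_0 lc_c_rc_22_2 lc_c_rc_22_2 lc_c_rc_26_2 lc_c_rc_2_1 lc_c_Cert_tree lc_c_rc_19_0 lc_c_rc_19_0 lc_c_rc_19_0 lc_c_rc_11_3 lc_c_rc_11_3 lc_c_rc_56_30 lc_c_rc_11_3 lc_c_rc_2_1 lc_c_rc_23_2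 lc_c_Cert_tree lc_c_rc_19_0 lc_c_rc_22_2 lc_c_rc_2_1 lc_c_rc_2_1 lc_c_rc_19_0 lc_c_rc_11_3 lc_c_Cert_tree lc_c_rc_2_1 lc_c_rc_19_0 lc_c_rc_23_2 lc_c_rc_21_2 lc_c_rc_23_2 lc_c_rc_24_2 lc_c_Cert_tree lc_c_rc_2_1 lc_c_rc_19_0 lc_c_rc_23_2 lc_c_rc_22_2 lc_c_rc_22_2 lc_c_rc_24_2 lc_c_rc_23_2 lc_c_rc_2_1 lc_c_rc_19_0 lc_c_rc_22_2 lc_c_rc_22_2 lc_c_rc_26_2) (@D3.rec (fun _ => (Cert rels S Gen.c)) lc_c_Cert_tree lc_c_rc_2_1 lc_c_rc_19_0 lc_c_rc_11_3 lc_c_rc_2_1 lc_c_rc_2_1 lc_c_rc_23_2 lc_c_rc_22_2 lc_c_rc_2_1 lc_c_Cert_tree lc_c_rc_2_1 lc_c_rc_19_0 lc_c_rc_23_2 lc_c_rc_21_2 lc_c_rc_19_0 lc_c_rc_23_2 lc_c_rc_23_2 lc_c_rc_21_2 lc_c_rc_2_1 lc_c_rc_2_1 lc_c_Cert_tree lc_c_rc_2_1 lc_c_rc_19_0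 lc_c_rc_23_2 lc_c_rc_22_2 lc_c_rc_22_2 lc_c_rc_19_0 lc_c_rc_23_2 lc_c_rc_22_2 lc_c_rc_23_2 lc_c_rc_22_2 lc_c_rc_26_2 lc_c_rc_2_1 lc_c_rc_2_1 lc_c_Cert_tree lc_c_rc_19_0 lc_c_rc_19_0 lc_c_rc_19_0 lc_c_rc_19_0 lc_c_rc_19_0 lc_c_rc_22_2 lc_c_rc_22_2 lc_c_rc_26_2 lc_c_rc_2_1 lc_c_Cert_tree lc_c_rc_22_2 lc_c_rc_19_0 lc_c_rc_23_2 lc_c_rc_2_3 lc_c_Cert_tree lc_c_rc_22_2) (@D3.rec (fun _ => (Cert rels S Gen.c)) lc_c_rc_19_0 lc_c_rc_23_2 lc_c_rc_11_3 lc_c_rc_19_1 lc_c_Cert_tree lc_c_rc_19_0 lc_c_rc_19_0 lc_c_rc_23_2 lc_c_rc_19_0 lc_c_rc_22_2 lc_c_rc_22_2 lc_c_rc_2_1 lc_c_rc_19_0 lc_c_rc_23_2 lc_c_rc_23_2 lc_c_rc_21_2 lc_c_rc_19_0 lc_c_rc_23_2 lc_c_rc_22_2 lc_c_rc_23_2 lc_c_rc_22_2 lc_c_rc_23_2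 lc_c_rc_11_3 lc_c_rc_22_2 lc_c_rc_26_2 lc_c_rc_26_2 lc_c_Cert_tree lc_c_rc_19_0 lc_c_rc_19_0 lc_c_rc_23_2 lc_c_rc_22_2 lc_c_rc_19_0 lc_c_rc_22_2 lc_c_rc_22_2 lc_c_rc_26_2 lc_c_rc_19_0 lc_c_rc_19_0 lc_c_rc_19_0 lc_c_rc_11_3 lc_c_rc_23_2 lc_c_rc_21_2 lc_c_rc_21_2 lc_c_Cert_tree lc_c_rc_19_0 lc_c_rc_19_0 lc_c_rc_23_2 lc_c_rc_22_2 lc_c_rc_23_2 lc_c_rc_22_2 lc_c_rc_11_3 lc_c_rc_22_2) (@D3.rec (fun _ => (Cert rels S Gen.c)) lc_c_rc_26_2 lc_c_rc_20_2 lc_c_rc_26_2 lc_c_Cert_tree lc_c_rc_2_1 lc_c_rc_19_0 lc_c_Cert_tree lc_c_rc_2_1 lc_c_rc_19_0 lc_c_rc_19_0 lc_c_rc_19_0 lc_c_rc_2_1 lc_c_Cert_tree lc_c_rc_22_2 lc_c_rc_19_0 lc_c_rc_21_2 lc_c_Cert_tree lc_c_rc_21_2 lc_c_rc_19_0 lc_c_rc_23_2 lc_c_rc_21_2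 lc_c_rc_11_3 lc_c_rc_19_0 lc_c_rc_19_0 lc_c_rc_2_1 lc_c_rc_19_0 lc_c_rc_23_2 lc_c_rc_23_2 lc_c_rc_21_2 lc_c_rc_2_1 lc_c_rc_2_1 lc_c_Cert_tree lc_c_rc_19_0 lc_c_rc_19_0 lc_c_rc_2_1 lc_c_rc_22_2 lc_c_rc_2_1 lc_c_rc_19_0 lc_c_rc_23_2 lc_c_rc_2_1 lc_c_rc_23_2 lc_c_rc_21_2 lc_c_rc_24_2 lc_c_rc_19_0 lc_c_rc_23_2 lc_c_rc_22_2 lc_c_rc_2_1 lc_c_rc_23_2 lc_c_rc_22_2 lc_c_rc_24_2 lc_c_rc_23_2) (@D3.rec (fun _ => (Cert rels S Gen.c)) lc_c_rc_25_2 lc_c_rc_11_3 lc_c_rc_22_2 lc_c_rc_26_2 lc_c_rc_26_2 lc_c_rc_19_0 lc_c_rc_19_0 lc_c_rc_19_0 lc_c_rc_23_2 lc_c_rc_23_2 lc_c_rc_21_2 lc_c_rc_11_3 lc_c_rc_23_2 lc_c_rc_21_2 lc_c_rc_21_2 lc_c_rc_19_0 lc_c_rc_19_0 lc_c_rc_19_0 lc_c_rc_23_2 lc_c_rc_22_2 lc_c_rc_23_2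 lc_c_rc_22_2 lc_c_rc_23_2 lc_c_rc_2_3 lc_c_rc_23_2 lc_c_rc_22_2 lc_c_rc_21_2 lc_c_rc_26_2 lc_c_rc_21_2 lc_c_rc_26_2 lc_c_rc_2_1 lc_c_rc_19_0 lc_c_rc_11_3 lc_c_rc_19_0 lc_c_rc_11_3 lc_c_rc_11_3 lc_c_rc_19_0 lc_c_rc_22_2 lc_c_rc_22_2 lc_c_rc_19_0 lc_c_rc_23_2 lc_c_rc_22_2 lc_c_rc_21_2 lc_c_rc_23_2 lc_c_rc_22_2 lc_c_rc_11_3 lc_c_rc_22_2 lc_c_rc_19_0 lc_c_rc_2_1 lc_c_rc_19_0 lc_c_rc_11_3) (@D3.rec (fun _ => (Cert rels S Gen.c)) lc_c_rc_19_0 lc_c_rc_19_0 lc_c_rc_22_2 lc_c_rc_22_2 lc_c_rc_11_3 lc_c_rc_22_2 lc_c_rc_19_0 lc_c_rc_19_0 lc_c_rc_22_2 lc_c_rc_22_2 lc_c_rc_11_3 lc_c_rc_22_2 lc_c_rc_26_2 lc_c_rc_26_2 lc_c_rc_26_0 lc_c_rc_19_0 lc_c_rc_19_0 lc_c_rc_24_2 lc_c_rc_19_0 lc_c_rc_23_2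 lc_c_rc_22_2 lc_c_rc_26_2 lc_c_rc_23_2 lc_c_rc_22_2 lc_c_rc_11_3 lc_c_rc_23_2 lc_c_rc_22_2 lc_c_rc_11_3 lc_c_rc_22_2 lc_c_rc_26_2 lc_c_rc_26_2 lc_c_rc_11_3 lc_c_rc_2_1 lc_c_rc_26_2 lc_c_rc_20_2 lc_c_rc_19_0 lc_c_rc_11_3 lc_c_rc_22_2 lc_c_rc_21_2 lc_c_rc_2_1 lc_c_rc_19_0 lc_c_rc_11_3 lc_c_rc_56_44 lc_c_rc_2_1 lc_c_rc_19_0 lc_c_rc_11_3 lc_c_rc_22_2 lc_c_rc_26_2 lc_c_rc_26_2 lc_c_rc_24_2 lc_c_rc_11_1) (@D3.rec (fun _ => (Cert rels S Gen.c)) lc_c_rc_11_3 lc_c_rc_19_0 lc_c_rc_19_0 lc_c_rc_23_2 lc_c_rc_22_2 lc_c_rc_23_2 lc_c_rc_22_2 lc_c_rc_11_3 lc_c_rc_23_2 lc_c_rc_11_3 lc_c_rc_22_2 lc_c_rc_26_2 lc_c_rc_26_2 lc_c_rc_11_3 lc_c_rc_11_3 lc_c_rc_21_2 lc_c_rc_26_2 lc_c_rc_2_1 lc_c_rc_11_3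 lc_c_rc_11_3 lc_c_rc_22_2 lc_c_rc_26_2 lc_c_rc_26_2 lc_c_rc_19_0 lc_c_rc_11_3 lc_c_rc_11_3 lc_c_rc_19_0 lc_c_rc_19_0 lc_c_rc_19_0 lc_c_rc_21_2 lc_c_rc_11_3 lc_c_rc_11_3 lc_c_rc_56_30 lc_c_rc_11_3 lc_c_rc_26_2 lc_c_rc_19_0 lc_c_rc_11_3 lc_c_rc_55_19 lc_c_rc_11_3 lc_c_rc_11_3 lc_c_rc_19_0 lc_c_rc_11_3 lc_c_rc_19_0 lc_c_rc_11_3 lc_c_rc_11_3 lc_c_rc_11_3 lc_c_rc_11_3 lc_c_rc_56_30 lc_c_rc_11_3 lc_c_rc_56_30 lc_c_rc_56_30) (@D3.rec (fun _ => (Cert rels S Gen.c)) lc_c_rc_11_3 lc_c_rc_22_2 lc_c_rc_26_2 lc_c_rc_26_2 lc_c_rc_19_0 lc_c_rc_11_3 lc_c_rc_55_19 lc_c_rc_11_3 lc_c_rc_19_0 lc_c_rc_22_2 lc_c_rc_22_2 lc_c_rc_2_1 lc_c_rc_2_1 lc_c_rc_19_0 lc_c_rc_23_2 lc_c_rc_2_1 lc_c_rc_23_2 lc_c_rc_21_2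 lc_c_rc_24_2 lc_c_rc_19_0 lc_c_rc_23_2 lc_c_rc_22_2 lc_c_rc_2_1 lc_c_rc_23_2 lc_c_rc_22_2 lc_c_rc_24_2 lc_c_rc_23_2 lc_c_rc_11_3 lc_c_rc_22_2 lc_c_rc_26_2 lc_c_rc_26_2 lc_c_rc_19_0 lc_c_rc_2_1 lc_c_rc_22_2 lc_c_rc_19_0 lc_c_rc_23_2 lc_c_rc_23_2 lc_c_rc_21_2 lc_c_rc_11_3 lc_c_rc_23_2 lc_c_rc_21_2 lc_c_rc_21_2 lc_c_rc_19_0 lc_c_rc_23_2 lc_c_rc_22_2 lc_c_rc_23_2 lc_c_rc_22_2 lc_c_rc_23_2 lc_c_rc_11_3 lc_c_rc_23_2 lc_c_rc_22_2) (@D3.rec (fun _ => (Cert rels S Gen.c)) lc_c_rc_26_2 lc_c_rc_26_2 lc_c_rc_19_0 lc_c_rc_11_3 lc_c_rc_11_3 lc_c_rc_11_3 lc_c_rc_11_3 lc_c_rc_22_2 lc_c_rc_26_2 lc_c_rc_26_2 lc_c_rc_19_0 lc_c_rc_23_2 lc_c_rc_26_2 lc_c_rc_23_2 lc_c_rc_19_0 lc_c_rc_23_2 lc_c_rc_24_2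 lc_c_rc_23_2 lc_c_rc_19_0 lc_c_rc_23_2 lc_c_rc_23_2 lc_c_rc_11_3 lc_c_rc_22_2 lc_c_rc_11_3 lc_c_rc_23_2 lc_c_rc_21_2 lc_c_rc_21_2 lc_c_rc_11_3 lc_c_rc_23_2 lc_c_rc_22_2 lc_c_rc_23_2 lc_c_rc_23_2 lc_c_rc_11_3 lc_c_rc_26_2 lc_c_rc_19_0 lc_c_rc_23_2 lc_c_rc_22_2 lc_c_rc_23_2 lc_c_rc_22_2 lc_c_rc_56_44 lc_c_rc_22_2 lc_c_rc_26_2 lc_c_rc_26_2 lc_c_rc_2_1 lc_c_rc_11_3 lc_c_rc_11_3 lc_c_rc_11_3 lc_c_rc_21_2 lc_c_rc_19_0 lc_c_rc_55_19 lc_c_rc_23_2) (@D3.rec (fun _ => (Cert rels S Gen.c)) lc_c_rc_22_2 lc_c_rc_11_3 lc_c_rc_20_2 lc_c_rc_26_2 lc_c_rc_21_2 lc_c_rc_19_0 lc_c_rc_19_0 lc_c_rc_56_44 lc_c_rc_22_2 lc_c_rc_19_0 lc_c_rc_11_3 lc_c_rc_19_0 lc_c_rc_23_2 lc_c_rc_21_2 lc_c_rc_21_2 lc_c_rc_23_2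 lc_c_rc_11_3 lc_c_rc_11_3 lc_c_rc_23_2 lc_c_rc_21_2 lc_c_rc_21_2 lc_c_rc_19_0 lc_c_rc_11_3 lc_c_rc_11_3 lc_c_rc_23_2 lc_c_rc_21_2 lc_c_rc_24_2 lc_c_rc_21_2 lc_c_rc_24_2 lc_c_rc_11_3 lc_c_rc_23_2 lc_c_rc_22_2 lc_c_rc_24_2 lc_c_rc_23_2 lc_c_rc_24_2 lc_c_rc_23_2 lc_c_rc_11_3 lc_c_rc_26_2 lc_c_rc_2_1 lc_c_rc_11_3 lc_c_rc_56_37 lc_c_rc_23_2 lc_c_rc_21_2 lc_c_rc_21_2 lc_c_rc_11_3 lc_c_rc_21_2 lc_c_rc_11_3 lc_c_rc_11_3 lc_c_rc_11_3 lc_c_rc_23_2 lc_c_rc_22_2) (@D3.rec (fun _ => (Cert rels S Gen.c)) lc_c_rc_23_2 lc_c_rc_23_2 lc_c_rc_2_3 lc_c_rc_56_30 lc_c_rc_21_2 lc_c_rc_26_2 lc_c_rc_11_3 lc_c_rc_11_3 lc_c_rc_11_3 lc_c_rc_22_2 lc_c_rc_11_3 lc_c_rc_23_2 lc_c_rc_22_2 lc_c_rc_11_3 lc_c_rc_11_3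 lc_c_rc_11_3 lc_c_rc_11_3 lc_c_rc_11_3 lc_c_rc_22_2 lc_c_rc_11_3 lc_c_rc_56_44 lc_c_rc_11_3 lc_c_rc_22_2 lc_c_rc_11_3 lc_c_rc_26_2 lc_c_rc_23_0 lc_c_rc_11_3 lc_c_rc_23_2 lc_c_rc_22_2 lc_c_rc_11_3 lc_c_rc_11_3 lc_c_rc_11_3 lc_c_rc_26_2 lc_c_rc_11_3 lc_c_rc_11_3 lc_c_rc_2_1 lc_c_rc_11_3 lc_c_rc_2_1 lc_c_rc_55_37 lc_c_rc_56_37 lc_c_rc_23_2 lc_c_rc_26_2 lc_c_rc_2_1 lc_c_rc_11_3 lc_c_rc_23_2 lc_c_rc_22_2 lc_c_rc_11_3 lc_c_rc_11_3 lc_c_rc_26_2 lc_c_rc_21_2 lc_c_rc_11_3) (@D3.rec (fun _ => (Cert rels S Gen.c)) lc_c_rc_11_3 lc_c_rc_26_2 lc_c_rc_11_3 lc_c_rc_24_2 lc_c_rc_11_3 lc_c_rc_11_3 lc_c_rc_11_3 lc_c_rc_11_3 lc_c_rc_11_3 lc_c_rc_11_3 lc_c_rc_11_3 lc_c_rc_26_2 lc_c_rc_11_3 lc_c_rc_2_1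 lc_c_rc_22_2 lc_c_rc_24_2 lc_c_rc_23_2 lc_c_rc_21_2 lc_c_rc_24_2 lc_c_rc_21_2 lc_c_rc_24_2 lc_c_rc_11_3 lc_c_rc_23_2 lc_c_rc_22_2 lc_c_rc_24_2 lc_c_rc_23_2 lc_c_rc_24_2 lc_c_rc_23_2 lc_c_rc_11_3 lc_c_rc_26_2 lc_c_rc_23_0 lc_c_rc_11_3 lc_c_rc_23_2 lc_c_rc_21_2 lc_c_rc_21_2 lc_c_rc_11_3 lc_c_rc_21_2 lc_c_rc_11_3 lc_c_rc_23_2 lc_c_rc_22_2 lc_c_rc_23_2 lc_c_rc_23_2 lc_c_rc_11_3 lc_c_rc_11_3 lc_c_rc_26_2 lc_c_rc_22_0 lc_c_rc_11_3 lc_c_rc_26_2 lc_c_rc_11_3 lc_c_rc_23_2 lc_c_rc_11_3) (@D3.rec (fun _ => (Cert rels S Gen.c)) lc_c_rc_23_2 lc_c_rc_2_1 lc_c_rc_23_2 lc_c_rc_11_3 lc_c_rc_11_3 lc_c_rc_21_2 lc_c_rc_11_3 lc_c_rc_11_3 lc_c_rc_23_2 lc_c_rc_2_1 lc_c_rc_11_3 lc_c_rc_23_2 lc_c_rc_22_2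 lc_c_rc_11_3 lc_c_rc_26_2 lc_c_rc_11_3 lc_c_rc_11_3 lc_c_rc_56_44 lc_c_rc_2_1 lc_c_rc_11_3 lc_c_rc_11_3 lc_c_rc_56_37 lc_c_rc_11_3 lc_c_rc_11_3 lc_c_rc_11_3 lc_c_rc_11_3 lc_c_rc_23_2 lc_c_rc_11_3 lc_c_rc_21_2 lc_c_rc_56_30 lc_c_rc_56_30 lc_c_rc_21_2 lc_c_rc_24_2 lc_c_rc_11_3 lc_c_rc_2_3 lc_c_rc_24_2 lc_c_rc_23_2 lc_c_rc_11_3 lc_c_rc_56_30 lc_c_rc_21_2 lc_c_rc_11_3 lc_c_rc_11_3 lc_c_rc_56_30 lc_c_rc_23_2 lc_c_rc_23_0 lc_c_rc_11_3 lc_c_rc_11_3 lc_c_rc_11_3 lc_c_rc_11_3 lc_c_rc_11_3 lc_c_rc_11_3) (@D3.rec (fun _ => (Cert rels S Gen.c)) lc_c_rc_11_3 lc_c_rc_11_3 lc_c_rc_11_3 lc_c_rc_11_3 lc_c_rc_11_3 lc_c_rc_11_3 lc_c_rc_11_3 lc_c_rc_11_3 lc_c_rc_11_3 lc_c_rc_11_3 lc_c_rc_11_3 lc_c_rc_11_3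 lc_c_rc_11_3 lc_c_rc_21_2 lc_c_rc_24_2 lc_c_rc_11_3 lc_c_rc_11_3 lc_c_rc_24_2 lc_c_rc_23_2 lc_c_rc_11_3 lc_c_rc_11_3 lc_c_rc_21_2 lc_c_rc_11_3 lc_c_rc_11_3 lc_c_rc_11_3 lc_c_rc_23_2 lc_c_rc_11_3 lc_c_rc_11_3 lc_c_rc_11_3 lc_c_rc_11_3 lc_c_rc_2_1 lc_c_rc_11_3 lc_c_rc_11_3 lc_c_rc_11_3 lc_c_rc_56_37 lc_c_rc_2_1 lc_c_rc_23_0 lc_c_rc_11_3 lc_c_rc_11_3 lc_c_rc_11_3 lc_c_rc_21_2 lc_c_rc_22_2 lc_c_rc_11_3 lc_c_rc_11_3 lc_c_rc_20_2 lc_c_rc_21_2 lc_c_rc_11_3 lc_c_rc_11_3 lc_c_rc_22_2 lc_c_rc_20_4 lc_c_rc_11_3)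
def ce_c : Pt → (Cert rels S Gen.c) := @Pt.rec (fun _ => (Cert rels S Gen.c)) (@D1.rec (fun _ => D2 → D3 → (Cert rels S Gen.c)) ce_c_0 ce_c_1 ce_c_2 ce_c_3 ce_c_4 ce_c_5 ce_c_6 ce_c_7 ce_c_8 ce_c_9 ce_c_10 ce_c_11 ce_c_12 ce_c_13 ce_c_14 ce_c_15 ce_c_16 ce_c_17 ce_c_18 ce_c_19 ce_c_20 ce_c_21 ce_c_22)
def isSeed_c (p : Pt) : Bool := false

end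

end Cfsg.Agent.Helper28.S1689
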