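import Cfsg.Agent.Lib.Helper28.S1689.Tree

set_option autoImplicit false
set_option maxRecDepth 100000
set_option linter.all false

namespace Cfsg.Agent.Helper28.S1689

open Cfsg.Agent.Helper28
open Cfsg.Spor.Fi23 (Gen)

noncomputable section

def lv_d_0 : D2 → D3 → Nat := @D2.rec (fun _ => D3 → Nat) (@D3.rec (fun _ => Nat) 1 2 3 4 0 1 6 6 7 0 7 8 0 1 2 0 1 2 8 2 1 2 9 9 2 9 9 9 10 10 2 0 10 10 10 10 10 10 0 11 0 11 11 11 11 1 2 2 0 11 11) (@D3.rec (fun _ => Nat) 0 11 11 0 1 0 12 1 2 2 0 12 12 0 2 11 2 3 3 0 1 12 12 0 1 12 0 1 11 1 2 2 0 2 12 2 3 3 0 1 13 13 0 1 12 3 12 3 12 0 4) (@D3.rec (fun _ => Nat) 4 0 1 4 13 0 1 5 0 1 12 12 12 13 2 13 2 3 3 0 1 13 3 13 3 13 0 4 4 0 1 4 14 0 1 5 13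 0 13 4 13 4 13 0 0 1 5 0 1 5 4) (@D3.rec (fun _ => Nat) 5 0 1 6 13 6 1 13 13 13 0 13 14 0 14 14 3 14 3 14 0 4 4 0 1 14 4 14 0 14 4 14 4 14 0 0 1 5 0 1 5 4 5 0 1 6 14 6 14 14 0) (@D3.rec (fun _ => Nat) 14 1 2 0 14 5 14 0 0 1 1 13 13 0 1 6 14 6 13 5 6 1 7 14 7 0 7 14 14 14 0 14 14 0 1 0 15 0 15 1 2 0 15 0 15 4 15 4 15 0 0) (@D3.rec (fun _ => Nat) 1 5 0 1 15 4 0 5 15 15 0 15 1 2 0 15 5 15 0 0 1 1 14 14 0 1 6 15 6 14 5 6 1 7 15 7 0 7 15 0 15 0 15 1 2 0 14 2 0 1 15) (@D3.rec (fun _ => Nat) 0 0 1 1 14 4 14 14 14 0 14 1 7 15 7 0 15 7 14 14 6 7 8 15 8 0 15 8 0 1 15 0 15 15 0 1 2 0 1 14 1 2 13 2 16 0 16 1 2 0 15) (@D3.rec (fun _ => Nat) 2 0 1 16 16 0 16 1 2 0 16 5 16 0 0 1 1 4 15 0 1 16 16 16 0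 5 1 2 6 16 0 16 0 16 1 2 0 15 2 0 1 16 0 0 1 1 15 4 15 15 15) (@D3.rec (fun _ => Nat) 0 15 1 7 16 7 0 16 7 15 15 6 7 8 16 8 0 16 8 0 1 16 0 16 1 2 0 1 2 0 15 2 0 1 15 15 0 1 15 4 0 1 1 15 5 15 5 15 0 5 15) (@D3.rec (fun _ => Nat) 0 15 15 0 1 2 15 8 16 8 0 18 8 0 1 2 16 15 15 15 7 9 0 16 9 0 1 2 0 1 15 16 0 1 2 16 0 1 2 2 15 1 2 2 3 3 14 3 14 0 0) (@D3.rec (fun _ => Nat) 17 1 2 0 2 0 1 16 0 1 4 16 17 0 17 0 17 1 2 0 2 0 1 17 0 0 1 1 5 4 5 16 5 0 16 1 17 17 17 0 17 17 0 1 2 6 2 16 3 7 17) (@D3.rec (fun _ => Nat) 0 17 1 2 0 1 2 0 16 2 0 1 16 0 1 16 4 0 1 1 16 5 16 5 16 0 5 16 0 16 16 0 1 2 16 8 17 8 0 19 8 0 1 2 17 16 16 16 7 9 0) (@D3.rec (fun _ => Nat) 17 9 0 1 2 0 1 16 0 17 1 2 0 16 16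 2 0 1 16 2 0 1 16 16 0 1 16 5 1 16 5 16 0 5 1 16 6 16 7 16 0 6 16 0 6 16 0 1 2 6 16) (@D3.rec (fun _ => Nat) 0 1 2 16 0 1 2 2 3 16 9 0 19 9 0 1 2 19 0 1 2 2 7 3 17 16 16 16 10 0 1 2 17 0 1 2 2 16 1 0 1 2 2 16 3 1 2 2 16 16 3) (@D3.rec (fun _ => Nat) 3 3 0 4 19 4 15 4 15 0 0 1 1 2 0 2 0 1 0 1 5 4 0 1 5 17 5 0 17 18 0 18 1 2 0 1 2 0 2 0 1 0 1 6 4 0 1 1 6 5 7) (@D3.rec (fun _ => Nat) 5 6 0 5 6 0 17 6 0 1 2 17 18 18 18 0 20 18 0 1 2 18 0 1 2 2 6 3 7 18 3 17 17 4 0 18 1 2 0 17 17 2 0 1 17 2 0 1 17 0 1) (@D3.rec (fun _ => Nat) 17 5 1 17 5 17 0 5 1 17 6 17 7 17 0 6 17 0 6 17 0 1 2 6 17 0 1 2 17 0 1 2 2 3 17 9 0 20 9 0 1 2 20 0 1 2 2 7 3 18 17) (@D3.rec (fun _ => Nat) 17 17 10 0 1 2 18 0 1 2 2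 17 1 18 17 17 1 2 0 17 17 2 0 1 17 0 17 17 0 1 17 17 17 17 0 1 17 6 1 17 7 17 0 6 16 0 6 0 1 2 6) (@D3.rec (fun _ => Nat) 17 8 17 0 7 17 0 8 17 0 1 2 7 17 0 1 2 7 0 1 2 2 7 3 7 0 1 2 2 16 3 17 1 2 16 2 3 7 3 4 10 0 1 2 20 0 1 2 2 8 3) (@D3.rec (fun _ => Nat) 20 1 2 2 3 3 8 4 17 17 0 1 2 2 17 3 1 2 2 17 17 1 2 2 3 17 3 17 2 17 0 18 4 4 4 0 1 5 20 5 16 0 16 0 0 1 1 6 4 2 0) (@D3.rec (fun _ => Nat) 1 0 1 6 5 1 7 5 6 0 5 1 17 4 6 0 18 6 0 1 2 18 0 19 1 2 0 18 2 0 1 2 0 1 0 1 7 5 1 8 5 7 0 5 1 7 6 8 7 7 0) (@D3.rec (fun _ => Nat) 6 8 0 6 7 0 1 2 6 7 0 1 2 18 0 1 2 2 6 3 18 19 0 21 19 0 1 2 21 0 1 2 2 7 3 19 1 2 2 7 3 7 3 7 7 4 19 0 4 18 18) (@D3.rec (fun _ => Nat) 1 2 0 18 18 2 0 1 0 18 18 0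 1 18 18 18 0 1 18 6 1 18 7 18 0 6 17 18 0 6 18 0 1 2 6 18 8 18 0 7 18 0 8 18 0 1 2 7 18 0 1) (@D3.rec (fun _ => Nat) 2 7 0 1 2 2 7 3 7 0 1 2 2 17 3 18 1 2 9 2 3 7 3 4 10 0 1 2 21 0 1 2 2 8 3 21 1 2 9 2 8 3 3 8 8 4 18 18 0 1 2) (@D3.rec (fun _ => Nat) 2 18 3 1 2 19 2 18 18 18 18 19 0 18 18 2 0 1 18 0 18 18 0 1 18 18 0 1 2 0 1 18 18 18 0 18 1 18 8 18 0 7 17 0 8 0 1 2 7 17 1) (@D3.rec (fun _ => Nat) 2 7 1 2 2 17 3 7 18 0 9 18 0 1 2 8 18 0 1 2 9 0 1 2 2 8 3 8 0 1 2 2 17 3 8 1 2 2 3 7 3 8 4 1 2 17 2 17 3 9 3) (@D3.rec (fun _ => Nat) 17 4 17 2 3 17 8 3 4 8 4 0 1 2 2 9 3 21 1 2 2 3 18 3 9 4 2 3 3 4 4 9 18 1 2 2 3 18 3 18 2 18 0 2 3 18 3 18 0 18 18)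
def lv_d_1 : D2 → D3 → Nat := @D2.rec (fun _ => D3 → Nat) (@D3.rec (fun _ => Nat) 1 19 19 5 5 0 0 1 18 18 21 6 17 0 0 1 0 1 1 7 5 8 5 7 0 5 0 1 7 6 1 8 7 7 0 6 18 18 8 0 6 7 0 1 2 6 18 4 18 0 5) (@D3.rec (fun _ => Nat) 7 0 1 2 19 0 1 2 2 18 3 19 1 2 0 19 2 0 1 19 0 1 8 19 0 1 8 6 1 9 7 8 0 6 17 18 9 0 6 8 0 1 2 6 9 8 8 0 7 9 0) (@D3.rec (fun _ => Nat) 8 8 0 1 2 7 9 0 1 2 7 0 1 2 2 7 3 7 0 1 2 2 18 3 19 1 2 9 2 7 3 7 3 7 7 4 20 0 1 2 22 0 1 2 2 8 3 22 1 2 9) (@D3.rec (fun _ => Nat) 2 8 3 7 3 8 8 4 2 8 3 8 3 8 8 4 8 0 4 8 8 20 20 0 1 2 19 19 19 19 2 0 1 0 19 19 0 1 19 19 1 2 0 1 19 19 19 0 19 1 19) (@D3.rec (fun _ => Nat) 8 19 0 7 18 19 0 8 19 0 1 2 7 18 0 1 2 7 0 1 2 2 18 3 7 19 0 9 19 0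 1 2 8 19 0 1 2 9 0 1 2 2 8 3 8 0 1 2 2 18 3) (@D3.rec (fun _ => Nat) 8 1 2 10 2 8 3 7 3 8 8 4 1 2 10 2 18 3 9 3 18 4 10 2 3 10 8 3 4 8 4 0 1 2 2 9 3 22 1 2 10 2 9 3 19 3 9 9 4 10 2) (@D3.rec (fun _ => Nat) 3 10 0 3 9 4 4 9 9 19 1 2 20 2 19 3 19 3 19 19 20 2 20 0 19 19 0 19 1 19 0 19 19 19 0 1 19 19 0 1 2 0 1 19 19 19 0 19 1 18 2) (@D3.rec (fun _ => Nat) 1 4 0 19 0 1 2 19 18 0 9 0 1 2 8 18 1 2 9 1 2 2 18 3 8 18 2 3 8 18 2 18 3 17 3 18 4 19 0 1 2 10 0 1 2 2 9 3 9 0 1) (@D3.rec (fun _ => Nat) 2 2 18 3 10 1 2 2 3 19 3 9 4 1 2 2 3 8 3 18 4 2 3 8 3 4 8 17 4 9 18 2 18 3 18 0 9 3 18 4 9 0 4 18 18 18 9 3 4 0 18) (@D3.rec (fun _ => Nat) 9 4 9 9 1 2 2 3 19 3 10 4 2 3 19 3 4 19 0 4 10 3 4 4 10 2 3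 19 3 19 0 19 19 1 19 3 19 19 0 1 18 20 20 0 6 0 1 1 19 19 19) (@D3.rec (fun _ => Nat) 0 19 18 0 0 1 1 8 20 1 8 6 9 7 8 0 6 9 0 6 8 0 1 2 6 1 9 8 8 0 7 19 19 9 0 8 8 0 1 2 7 19 0 18 9 0 1 2 7 0 1) (@D3.rec (fun _ => Nat) 2 2 19 3 7 19 0 5 19 0 1 2 6 0 1 2 2 6 3 20 1 2 18 2 19 3 7 3 19 19 4 20 2 0 1 20 0 1 9 20 0 1 10 20 9 0 20 1 10 8 9) (@D3.rec (fun _ => Nat) 0 7 18 19 10 0 8 9 0 1 2 7 0 19 0 1 2 7 0 1 2 2 19 3 7 10 0 9 9 0 1 2 8 10 0 1 2 9 0 1 2 2 8 3 8 0 1 2 2 19 3) (@D3.rec (fun _ => Nat) 8 1 2 10 2 8 3 7 3 8 8 4 1 2 10 2 19 3 9 3 19 19 4 10 2 8 3 10 18 8 3 8 8 4 8 0 4 8 8 0 1 2 2 9 3 23 1 2 10 2 9) (@D3.rec (fun _ => Nat) 3 20 3 9 9 4 10 2 9 3 10 0 8 3 9 9 4 8 0 4 9 9 9 3 9 60 4 9 0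 4 9 9 9 9 0 1 2 9 9 21 0 106 1 102 9 2 20 0 20 20 20) (@D3.rec (fun _ => Nat) 0 1 20 20 1 2 0 1 20 20 20 0 20 19 2 1 4 20 0 20 20 0 1 2 20 19 20 0 9 20 0 1 2 8 19 0 1 2 9 0 1 2 2 19 3 8 19 1 2 2 3) (@D3.rec (fun _ => Nat) 8 1 2 11 2 19 3 18 3 19 19 4 20 0 1 2 10 0 1 2 2 9 3 9 0 1 2 2 19 3 10 1 2 11 2 9 3 20 3 9 9 4 1 2 11 2 19 3 8 3 19) (@D3.rec (fun _ => Nat) 19 4 11 2 3 11 0 8 3 9 4 8 18 4 9 9 63 2 19 3 11 61 9 3 19 4 9 0 4 19 57 11 9 3 4 0 11 9 4 9 9 1 2 11 2 10 3 20 3 10 10) (@D3.rec (fun _ => Nat) 4 11 2 3 11 0 20 3 10 4 20 0 4 10 10 11 3 4 11 0 1 4 10 10 10 21 2 3 21 0 20 3 20 20 0 20 20 21 20 0 0 1 0 1 2 11 0 1 2 2 20) (@D3.rec (fun _ => Nat) 0 1 20 20 20 0 20 1 19 2 1 4 0 20 0 1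 2 20 19 19 4 5 1 2 20 1 2 2 19 3 20 19 1 2 10 1 2 2 19 3 9 19 2 3 10 19 2 19 3 7 3) (@D3.rec (fun _ => Nat) 19 4 19 18 3 4 19 18 3 19 4 18 0 4 19 0 1 2 2 19 3 11 1 2 2 3 20 3 10 97 1 2 2 3 20 3 19 4 2 3 20 3 4 20 96 4 10 2 3 10 3) (@D3.rec (fun _ => Nat) 4 10 0 4 19 9 3 4 9 4 9 9 18 10 19 19 74 11 3 19 4 0 19 0 1 11 0 4 19 11 11 0 1 19 19 0 19 10 4 1 2 19 10 10 101 2 3 20 3 4 20) (@D3.rec (fun _ => Nat) 91 4 93 20 3 4 20 4 20 93 1 93 4 20 3 20 20 89 1 19 20 20 0 1 19 21 21 0 1 0 1 20 4 20 20 20 0 20 20 0 1 2 20 0 1 1 9 21 10 21 9) (@D3.rec (fun _ => Nat) 0 21 10 8 9 0 7 10 0 8 9 0 1 2 7 0 1 2 7 0 1 2 2 6 3 7 20 20 10 0 9 9 0 1 2 8 20 0 19 10 0 1 2 9 0 1 2 2 20 3 8) (@D3.rec (fun _ => Nat)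 20 0 1 2 19 0 1 2 2 6 3 8 1 2 19 2 20 3 7 3 20 20 4 20 66 1 2 6 60 1 2 2 6 3 7 1 2 19 2 62 3 9 3 7 56 4 19 2 20 3 19) (@D3.rec (fun _ => Nat) 59 8 3 20 20 4 8 0 4 20 20 21 21 0 1 10 21 0 1 11 21 10 0 21 1 19 4 11 0 21 10 0 1 2 21 19 20 11 0 9 10 0 1 2 8 0 20 0 1 2 9) (@D3.rec (fun _ => Nat) 0 1 2 2 20 3 8 1 2 20 1 2 2 6 3 8 1 2 11 2 20 3 19 3 20 20 4 11 0 1 2 10 0 1 2 2 9 3 9 0 1 2 2 20 3 10 1 2 11 2 9)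
def lv_d_2 : D2 → D3 → Nat := @D2.rec (fun _ => D3 → Nat) (@D3.rec (fun _ => Nat) 3 21 3 9 9 4 1 2 11 2 20 3 8 3 20 20 4 11 2 9 3 11 0 8 3 9 9 4 8 0 4 9 9 2 3 11 9 3 20 4 9 0 4 20 20 11 9 3 9 4 0) (@D3.rec (fun _ => Nat) 11 19 9 0 4 9 9 9 9 0 1 2 9 9 1 2 11 2 10 3 21 3 10 10 4 11 2 10 3 11 0 21 3 10 10 4 21 0 4 10 10 11 66 9 3 10 10 4 19 11 0) (@D3.rec (fun _ => Nat) 1 2 9 0 4 10 10 9 9 0 1 2 10 10 10 0 4 10 58 10 10 0 1 2 10 10 10 0 0 1 2 9 2 10 22 110 1 105 10 10 10 1 2 2 21 0 1 21 21 21 0) (@D3.rec (fun _ => Nat) 21 20 2 1 4 21 0 21 21 0 1 2 21 4 5 0 1 2 21 0 1 2 2 20 3 21 20 0 1 2 10 0 1 2 2 20 3 9 20 1 2 2 3 10 1 2 12 2 20 3 7) (@D3.rec (fun _ => Nat) 3 20 20 4 20 12 2 3 19 3 4 12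 2 20 3 12 0 19 3 20 20 4 19 0 4 20 20 0 1 2 2 20 3 11 1 2 12 2 10 3 21 3 10 10 100 1 2 12 2 20 3) (@D3.rec (fun _ => Nat) 21 3 20 20 4 12 2 3 12 0 21 3 10 4 21 98 4 10 10 12 2 3 12 67 10 3 20 4 10 0 4 20 20 12 9 3 4 0 12 0 1 9 19 4 10 9 9 19 19 10 10) (@D3.rec (fun _ => Nat) 61 11 3 20 4 0 12 59 11 0 4 20 11 11 0 1 20 57 0 12 10 4 1 2 12 10 10 99 12 2 3 12 0 21 3 11 4 21 95 4 91 11 12 21 3 4 0 12 0 1 21) (@D3.rec (fun _ => Nat) 0 4 11 21 95 1 2 95 11 12 4 12 0 1 11 11 11 22 21 3 0 22 0 1 21 0 21 21 91 1 2 21 0 1 0 1 12 1 20 2 12 1 2 2 20 2 3 0 1 4 0) (@D3.rec (fun _ => Nat) 21 88 1 88 21 20 20 4 5 1 2 21 1 92 2 20 94 21 0 5 6 2 3 21 20 2 20 92 7 3 20 94 20 2 3 11 20 2 20 93 92 3 20 95 20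 9 3 4 20 8 3) (@D3.rec (fun _ => Nat) 20 91 92 96 4 20 19 4 0 20 19 0 4 20 19 19 100 1 20 1 2 2 3 21 3 20 93 2 3 21 3 95 2 3 21 3 4 21 92 4 20 21 3 4 21 4 10 3 4 10 4) (@D3.rec (fun _ => Nat) 10 10 0 1 20 10 4 10 10 20 0 20 71 11 0 4 20 1 2 62 20 0 1 11 11 0 1 20 105 109 110 1 19 0 20 1 2 20 11 11 2 101 106 108 21 3 4 21 4 21 4) (@D3.rec (fun _ => Nat) 21 21 21 21 1 20 22 0 1 21 4 1 21 5 21 0 5 21 0 21 21 0 1 2 21 0 1 2 2 6 3 21 1 10 22 11 22 10 0 22 11 0 22 10 0 1 2 22 11 0 9) (@D3.rec (fun _ => Nat) 10 0 1 2 8 0 1 2 9 0 1 2 2 7 3 8 1 2 2 18 3 8 1 2 20 2 7 3 20 3 7 7 4 21 0 20 11 0 1 2 10 0 1 2 2 21 3 9 21 0 1) (@D3.rec (fun _ => Nat) 2 20 0 1 2 2 6 3 10 1 2 20 2 21 3 22 3 21 21 4 0 1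 2 2 6 3 20 1 2 20 2 7 3 8 3 7 7 4 20 2 21 3 20 0 8 3 21 21 4 8 0) (@D3.rec (fun _ => Nat) 4 21 21 70 2 3 7 60 2 3 9 3 7 4 2 3 20 9 3 62 4 9 0 4 8 58 20 9 3 21 4 0 20 59 9 0 4 21 21 9 9 0 1 2 21 21 22 0 1 12 22) (@D3.rec (fun _ => Nat) 11 0 22 1 20 4 12 0 22 11 0 1 2 22 20 4 0 5 0 1 2 22 0 1 2 2 21 3 22 0 21 0 1 2 10 0 1 2 2 21 3 9 1 2 21 1 2 2 6 3 10) (@D3.rec (fun _ => Nat) 1 2 12 2 21 3 7 3 21 21 4 2 6 3 21 12 2 65 3 20 3 7 7 4 12 2 21 3 12 0 20 3 21 21 4 20 0 4 21 21 0 1 2 2 21 3 11 1 2 12 2) (@D3.rec (fun _ => Nat) 10 3 22 3 10 10 4 1 2 12 2 21 3 22 3 21 21 4 12 2 10 3 12 0 22 3 10 10 4 22 0 4 10 10 12 2 21 3 12 0 10 3 21 21 4 10 0 4 21 21 66) (@D3.rec (fun _ => Nat) 12 64 9 3 10 10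 4 0 12 0 1 2 9 0 4 10 10 9 9 0 1 2 10 10 11 3 4 0 12 11 0 4 21 11 11 0 1 2 21 21 0 12 10 0 4 10 1 2 0 12 20) (@D3.rec (fun _ => Nat) 10 10 0 1 2 10 10 10 0 0 1 2 20 2 10 12 2 11 3 12 0 22 3 11 11 4 22 0 4 11 11 12 66 22 3 11 11 4 0 12 0 1 2 22 0 4 11 11 22 22 0) (@D3.rec (fun _ => Nat) 1 2 11 11 20 12 64 63 10 0 4 11 11 20 0 12 0 1 2 21 2 10 10 0 1 2 11 11 10 0 0 1 2 21 2 11 11 11 0 1 2 11 60 11 0 0 1 2 20 2 11) (@D3.rec (fun _ => Nat) 11 0 1 2 1 108 10 2 10 10 21 11 11 11 2 21 2 3 0 1 4 22 0 22 22 0 1 90 22 4 5 0 1 2 22 0 1 2 2 21 92 22 5 6 1 2 2 3 22 1 2) (@D3.rec (fun _ => Nat) 13 2 21 3 7 3 21 96 21 1 2 2 3 11 1 2 13 2 21 3 100 3 21 21 97 21 13 2 3 9 3 4 13 2 21 3 13 0 8 3 21 21 4 94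 98 4 21 21 13 20 3) (@D3.rec (fun _ => Nat) 4 20 4 13 13 66 20 3 21 4 0 13 0 1 20 0 4 21 21 20 20 100 1 2 21 21 1 2 13 2 21 3 22 3 21 21 102 13 2 3 13 0 22 3 11 99 11 13 2 3 13) (@D3.rec (fun _ => Nat) 67 22 3 21 4 22 0 4 21 21 13 22 3 4 0 13 0 1 22 98 4 11 96 11 13 10 3 4 0 13 65 10 0 4 21 10 10 0 1 2 21 21 0 13 10 4 1 2 0 13 0) (@D3.rec (fun _ => Nat) 1 20 10 10 20 11 20 11 0 63 11 0 4 21 1 2 0 13 61 11 11 0 1 21 101 0 0 1 20 0 59 1 2 13 11 11 2 20 3 3 99 13 22 3 4 0 13 0 1 22 93) (@D3.rec (fun _ => Nat) 4 99 92 93 0 13 22 4 1 2 0 13 0 1 12 22 95 1 101 94 2 94 13 0 1 20 12 0 23 22 1 2 0 0 1 13 22 89 1 87 2 1 0 1 3 13 6 21 25 21 13)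
def lv_d_3 : D2 → D3 → Nat := @D2.rec (fun _ => D3 → Nat) (@D3.rec (fun _ => Nat) 21 2 21 21 21 3 1 4 5 1 86 22 0 5 6 2 91 22 21 1 6 7 8 3 91 0 8 21 21 92 3 21 21 93 4 92 21 94 21 20 20 1 102 21 100 1 21 2 91 22 3) (@D3.rec (fun _ => Nat) 91 22 3 97 22 3 103 22 4 22 4 12 4 12 12 1 11 11 0 21 1 2 61 21 65 100 108 102 1 21 2 107 100 63 0 1 111 110 1 20 1 2 21 2 101 108 99 22 4 22 22) (@D3.rec (fun _ => Nat) 21 21 0 1 22 5 22 0 5 22 6 22 0 6 22 0 1 2 6 22 0 1 2 22 0 1 2 2 7 3 22 1 2 21 2 7 3 21 3 7 7 4 12 23 11 0 25 12 0 23 11) (@D3.rec (fun _ => Nat) 0 1 2 23 0 1 2 23 0 1 2 2 8 3 23 0 1 2 10 0 1 2 2 8 3 9 1 2 2 19 3 10 1 2 21 2 8 3 7 3 8 8 4 21 2 19 3 21 3 19 19) (@D3.rec (fun _ => Nat) 4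 21 2 8 3 21 0 21 3 8 8 4 21 0 4 8 8 22 0 1 2 21 0 1 2 2 6 3 11 1 2 21 2 22 3 23 3 22 22 4 0 1 2 2 6 3 21 1 2 21 2) (@D3.rec (fun _ => Nat) 7 3 23 3 7 7 4 21 2 22 3 21 0 23 3 22 22 4 23 0 4 22 22 1 2 21 2 7 3 10 3 7 7 4 21 2 8 3 21 0 10 3 8 8 4 10 0 4 8 8 21) (@D3.rec (fun _ => Nat) 21 0 9 3 22 22 4 0 21 0 1 2 9 0 4 22 22 9 9 0 1 2 22 22 66 22 3 4 60 11 3 4 11 0 4 8 11 3 4 0 21 11 0 4 62 11 11 0 1 2 9) (@D3.rec (fun _ => Nat) 58 0 21 10 0 4 22 1 2 0 21 59 10 10 0 1 2 22 22 10 0 0 1 2 21 2 22 0 1 21 4 13 0 23 12 0 1 2 23 21 4 0 5 0 1 2 23 0 1 2 2) (@D3.rec (fun _ => Nat) 22 3 23 0 5 1 2 6 1 2 2 6 3 23 1 2 13 2 22 3 7 3 22 22 4 1 2 22 1 2 2 6 3 11 1 2 13 2 22 3 8 3 22 22 4 2 6 3 22 13 2) (@D3.rec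 (fun _ => Nat) 67 3 9 3 7 7 4 13 2 22 3 13 0 8 3 22 22 4 8 0 4 22 22 21 3 7 7 4 13 65 21 3 65 64 4 21 0 4 8 8 13 13 0 21 3 22 22 4 0 13 0) (@D3.rec (fun _ => Nat) 1 2 21 0 4 22 22 21 21 0 1 2 22 22 1 2 13 2 22 3 23 3 22 22 4 13 2 11 3 13 0 23 3 11 11 4 23 0 4 11 11 13 2 22 3 13 0 23 3 22 22) (@D3.rec (fun _ => Nat) 4 23 0 4 22 22 66 13 66 23 3 11 11 4 0 13 0 1 2 23 0 4 11 11 23 23 0 1 2 11 11 67 13 68 10 3 22 22 4 0 13 0 1 2 10 0 4 22 22 10 10) (@D3.rec (fun _ => Nat) 0 1 2 22 22 66 0 13 64 66 10 0 4 11 11 1 2 0 13 0 1 2 10 2 10 10 0 1 2 11 11 10 0 0 1 2 9 2 11 11 4 1 2 13 11 11 0 1 22 11 0) (@D3.rec (fun _ => Nat) 0 1 2 21 2 22 1 2 13 11 11 0 1 11 2 0 3 3 0 1 21 11 0 0 1 2 6 2 11 11 0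 1 2 1 2 21 2 21 21 10 13 68 23 3 12 12 4 0 13 0 1) (@D3.rec (fun _ => Nat) 2 23 0 4 12 12 23 23 0 1 2 12 12 0 13 68 68 23 0 4 12 12 1 2 0 13 0 1 2 22 2 23 23 0 1 2 12 12 23 0 0 1 2 24 2 12 21 0 13 66 66) (@D3.rec (fun _ => Nat) 11 11 0 1 2 12 12 21 21 0 1 2 0 1 2 3 2 22 22 11 0 0 1 2 6 2 12 11 0 1 2 1 2 22 2 22 22 22 12 0 0 1 2 21 2 61 12 0 1 2 1) (@D3.rec (fun _ => Nat) 2 21 2 21 21 22 1 109 23 2 11 22 11 11 106 12 12 22 22 3 1 4 5 0 1 89 23 88 1 90 5 6 1 2 2 97 23 1 96 14 2 22 94 6 7 14 2 3 8 3 93) (@D3.rec (fun _ => Nat) 74 2 22 94 14 74 8 3 22 94 22 14 2 3 94 3 97 14 2 22 95 14 0 90 3 22 22 101 22 14 9 3 4 92 4 14 14 68 9 3 22 93 0 14 0 1 102 100 4 22 22) (@D3.rec (fun _ => Nat) 100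 22 0 14 21 4 21 21 14 0 14 66 21 0 4 22 1 2 0 14 0 1 21 21 21 98 1 2 22 22 100 2 22 14 2 3 14 67 23 3 22 99 90 22 22 14 23 3 97 0 14) (@D3.rec (fun _ => Nat) 0 1 14 23 3 4 0 14 67 23 96 4 22 102 1 98 22 22 0 14 23 4 1 2 0 14 0 1 21 0 14 12 4 1 2 0 14 65 12 12 0 1 22 107 99 1 98 2 22 1 2) (@D3.rec (fun _ => Nat) 14 11 11 2 0 3 3 0 1 0 1 3 21 1 2 63 13 13 0 1 22 2 0 3 3 0 1 61 99 108 105 1 6 101 1 1 21 21 1 2 59 2 21 3 3 97 3 3 21 21 4) (@D3.rec (fun _ => Nat) 0 14 23 4 1 2 0 14 0 1 13 1 2 14 23 2 0 3 0 1 0 1 3 13 6 22 1 21 21 13 1 2 23 2 0 3 0 1 1 3 14 6 22 74 1 2 6 3 4 14 76) (@D3.rec (fun _ => Nat) 26 78 14 22 0 22 22 0 22 22 5 6 1 6 7 21 7 1 1 2 22 2 101 108 62 67 64 64 1 17 2 106 102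 0 1 23 6 23 0 6 23 79 1 2 6 23 0 7 23 0 1) (@D3.rec (fun _ => Nat) 2 7 75 1 2 2 8 3 7 0 1 2 2 8 3 23 1 2 22 2 8 3 7 3 8 8 4 22 2 8 3 22 0 22 3 8 8 4 22 0 4 8 8 13 0 24 12 0 1 2 24) (@D3.rec (fun _ => Nat) 0 1 2 24 0 1 2 2 9 3 24 1 2 2 22 3 24 1 2 22 2 73 3 7 3 9 77 4 1 2 2 20 3 11 1 2 22 2 9 3 8 3 9 9 4 22 2 20 3 9 3) (@D3.rec (fun _ => Nat) 20 20 4 22 2 9 3 22 0 8 3 9 9 4 8 0 4 9 9 22 0 22 3 20 20 4 22 0 4 20 20 22 22 0 22 3 9 9 4 0 22 0 1 2 22 0 4 9 9 22 22) (@D3.rec (fun _ => Nat) 0 1 2 9 9 0 1 2 2 6 3 22 1 2 22 2 7 3 24 3 7 7 4 22 2 23 3 22 0 24 3 23 23 4 24 0 4 23 23 1 2 22 2 7 3 24 3 7 7 4 22)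
def lv_d_4 : D2 → D3 → Nat := @D2.rec (fun _ => D3 → Nat) (@D3.rec (fun _ => Nat) 2 8 3 22 0 24 3 8 8 4 24 0 4 8 8 22 22 0 24 3 23 23 4 0 22 0 1 2 24 0 4 23 23 24 24 0 1 2 23 23 22 2 8 3 22 0 10 3 8 8 4) (@D3.rec (fun _ => Nat) 10 0 4 8 8 22 22 0 10 3 9 9 4 0 22 0 1 2 10 0 4 9 9 10 10 0 1 2 9 9 22 68 0 22 0 1 2 10 0 4 23 23 1 2 0 22 0 1 2 10 2) (@D3.rec (fun _ => Nat) 10 10 0 1 2 23 23 10 0 0 1 2 9 2 23 66 23 4 62 11 4 11 11 0 1 9 11 4 1 2 22 11 11 0 1 64 11 0 0 1 2 22 2 60 1 2 22 11 11 0 1) (@D3.rec (fun _ => Nat) 23 2 0 3 3 0 1 62 11 0 0 1 2 6 2 23 11 0 1 2 1 2 22 2 22 22 10 1 22 4 91 92 0 1 91 24 0 1 2 2 23 93 93 5 1 95 97 1 2 2 93) (@D3.rec (fun _ => Nat) 91 24 1 2 14 2 23 3 8 3 23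 23 97 1 95 6 2 6 95 99 14 2 73 3 8 3 93 7 91 2 3 14 8 3 23 23 4 8 0 4 23 23 2 6 95 23 14 2 67 3 10) (@D3.rec (fun _ => Nat) 3 7 7 4 14 2 23 3 14 0 9 3 23 23 4 9 0 4 23 23 95 3 7 7 101 14 65 9 3 67 67 4 9 0 4 8 8 14 14 0 9 3 23 23 4 0 14 0 1 2 9) (@D3.rec (fun _ => Nat) 0 4 23 23 9 9 0 1 2 23 23 22 0 4 8 8 0 14 63 65 22 0 4 65 65 22 22 0 1 2 9 9 14 69 0 14 0 1 2 22 0 4 23 23 1 2 0 14 0 1 2) (@D3.rec (fun _ => Nat) 11 2 22 22 0 1 2 23 23 22 0 0 1 2 9 2 23 14 2 23 3 14 0 24 3 23 23 4 24 0 4 23 23 68 14 66 24 3 12 12 4 0 14 0 1 2 24 0 4 12 12) (@D3.rec (fun _ => Nat) 24 24 0 1 2 12 12 67 14 70 24 3 23 23 4 0 14 0 1 2 24 0 4 23 23 24 24 0 1 2 23 23 68 0 14 66 66 24 0 4 12 12 1 2 0 14 0 1 2 11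 2) (@D3.rec (fun _ => Nat) 24 24 0 1 2 12 12 24 0 0 1 2 10 2 12 65 58 14 68 66 12 58 4 23 23 1 2 0 14 0 1 2 2 12 12 0 1 2 23 23 12 0 0 1 2 10 2 23 0 66 1) (@D3.rec (fun _ => Nat) 2 0 14 64 64 11 11 0 1 2 12 12 2 0 3 3 0 1 2 0 1 2 3 2 11 11 11 0 0 1 2 6 2 12 11 0 1 2 1 2 10 2 10 10 10 13 13 2 57 3 3) (@D3.rec (fun _ => Nat) 13 0 0 1 57 13 0 1 2 1 2 22 2 22 22 10 2 55 3 3 12 0 0 1 55 3 3 0 1 2 4 0 0 1 6 12 0 1 2 1 2 7 2 7 56 56 0 1 2 22 24) (@D3.rec (fun _ => Nat) 2 22 2 22 22 11 22 22 0 97 14 68 68 24 0 4 13 13 1 91 0 14 0 1 2 23 2 24 24 0 1 2 13 13 24 0 0 1 2 25 2 13 1 101 0 14 66 68 24 24 0) (@D3.rec (fun _ => Nat) 1 2 13 13 2 0 101 101 0 1 2 0 1 2 3 2 23 23 24 0 0 1 2 6 2 13 24 0 1 2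 1 2 25 2 25 25 23 22 22 0 1 2 66 66 12 0 0 1 2 6 2) (@D3.rec (fun _ => Nat) 13 22 0 0 1 2 6 3 2 1 2 5 2 4 4 23 23 12 0 1 2 1 2 7 2 7 7 23 102 1 2 23 11 2 23 2 23 23 23 23 23 96 97 0 1 2 1 2 22 2 22) (@D3.rec (fun _ => Nat) 22 23 1 22 24 2 22 2 22 22 23 22 22 0 12 12 106 0 23 23 5 93 1 88 15 6 97 15 2 93 76 23 15 76 7 15 10 3 93 80 9 23 0 15 73 15 94 3 15 15 68) (@D3.rec (fun _ => Nat) 23 0 15 0 1 23 0 15 93 4 15 0 15 68 98 23 1 2 98 15 0 1 22 98 23 1 2 15 22 22 0 15 1 2 0 15 66 98 1 23 2 0 3 3 0 1 0 1 3 22 100) (@D3.rec (fun _ => Nat) 6 2 23 15 24 3 97 0 15 69 0 15 1 1 22 0 15 24 4 1 2 0 15 67 1 2 15 2 0 1 1 3 22 1 2 15 12 12 2 0 3 3 0 1 67 1 6 2 64 3 3) (@D3.rec (fun _ => Nat) 3 3 0 1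 2 1 3 1 5 4 22 2 59 3 3 103 108 1 61 3 3 0 1 2 4 0 0 1 6 7 7 22 22 22 17 2 22 3 3 3 3 22 22 4 24 4 22 22 22 1 95) (@D3.rec (fun _ => Nat) 97 2 0 1 1 3 14 2 72 93 3 0 1 2 1 6 3 1 5 4 14 22 22 22 14 2 74 90 3 0 1 2 1 6 3 5 4 15 74 22 23 2 4 5 15 0 0 1 0 1 23) (@D3.rec (fun _ => Nat) 6 22 7 22 63 2 109 102 18 1 24 24 24 91 7 24 92 1 96 7 98 2 98 7 24 90 1 90 92 77 1 96 2 9 94 94 72 2 94 7 3 9 96 1 92 23 2 9 98 94 3) (@D3.rec (fun _ => Nat) 9 9 96 23 2 9 100 23 0 96 3 9 9 102 100 0 4 9 9 23 23 0 23 3 9 9 102 96 23 0 1 2 23 0 4 9 9 25 23 0 1 2 9 9 0 1 2 25 0 1 2) (@D3.rec (fun _ => Nat) 2 90 92 25 1 2 2 21 3 25 1 2 23 2 75 3 8 3 92 94 94 23 2 21 3 8 3 21 23 4 2 3 23 8 3 71 4 8 0 4 92 96 23 2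 21 3 10 3 21 21 4) (@D3.rec (fun _ => Nat) 23 2 10 3 23 0 9 3 10 10 4 9 0 4 10 10 23 0 9 3 21 21 4 9 0 4 21 21 23 23 0 9 3 10 10 4 0 23 0 1 2 9 0 4 10 10 9 9 0 1 2) (@D3.rec (fun _ => Nat) 10 10 0 23 0 1 2 23 0 4 21 21 23 23 0 1 2 21 21 23 0 0 23 0 1 2 23 0 4 10 10 1 2 0 23 0 1 2 11 2 23 23 0 1 2 10 10 23 0 0 1) (@D3.rec (fun _ => Nat) 2 9 2 10 1 2 23 2 7 3 25 3 7 7 4 23 2 8 3 23 0 25 3 8 8 4 25 0 4 8 8 23 23 0 25 3 24 24 4 0 23 0 1 2 25 0 4 24 24 25 25) (@D3.rec (fun _ => Nat) 0 1 2 24 24 23 2 8 3 23 0 25 3 8 8 4 25 0 4 8 8 23 23 0 25 3 9 9 4 0 23 0 1 2 25 0 4 9 9 25 25 0 1 2 9 9 23 68 0 23 0)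
def lv_d_5 : D2 → D3 → Nat := @D2.rec (fun _ => D3 → Nat) (@D3.rec (fun _ => Nat) 1 2 25 0 4 24 24 1 2 0 23 0 1 2 11 2 25 25 0 1 2 24 24 25 0 0 1 2 10 2 24 23 23 0 3 9 9 4 62 23 0 1 2 12 60 4 9 9 12 12 0) (@D3.rec (fun _ => Nat) 1 2 9 9 23 70 56 23 0 1 2 12 56 4 10 10 1 2 0 23 0 1 2 67 2 12 12 0 1 2 10 10 12 0 0 1 2 10 2 10 0 23 70 69 1 2 0 23 0 1 2) (@D3.rec (fun _ => Nat) 2 11 11 0 1 2 24 24 2 0 3 3 0 1 2 0 1 2 3 2 11 11 10 11 0 0 1 2 6 2 24 11 0 1 2 1 2 10 2 10 10 10 24 24 13 13 13 0 0 1 64) (@D3.rec (fun _ => Nat) 13 13 2 57 3 3 13 0 0 1 57 13 0 1 2 1 2 23 2 23 23 10 2 57 3 3 12 0 0 1 57 3 3 0 1 2 4 0 0 1 6 12 0 1 2 1 2 7 2 7 56) (@D3.rec (fun _ => Nat) 56 0 1 2 23 25 2 23 2 23 23 11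 23 23 0 1 89 1 91 15 2 24 24 24 15 2 75 93 10 93 2 96 15 9 3 24 24 9 0 24 24 7 15 75 10 3 73 75 93 10 101) (@D3.rec (fun _ => Nat) 95 9 3 95 0 15 9 0 4 24 24 9 9 0 1 2 24 24 7 7 15 67 11 3 69 69 4 93 103 4 95 8 15 15 0 10 3 24 24 4 0 15 0 1 2 10 0 4 24 24 10) (@D3.rec (fun _ => Nat) 101 0 1 2 24 24 97 8 8 0 15 67 67 11 0 4 67 69 11 93 103 1 2 101 9 15 69 0 15 0 1 2 10 0 4 24 24 1 2 0 15 0 1 2 12 2 10 10 0 1 2) (@D3.rec (fun _ => Nat) 24 24 10 0 0 1 2 10 2 24 0 1 2 9 9 1 2 0 15 65 65 23 23 0 1 2 67 67 23 0 0 1 2 10 2 10 0 15 67 67 1 2 0 15 0 1 2 2 23 23 0) (@D3.rec (fun _ => Nat) 1 2 24 24 2 0 3 3 0 1 2 0 1 2 3 2 12 12 23 0 0 1 2 6 2 24 23 0 1 2 1 2 10 2 10 10 10 69 15 70 25 3 24 24 4 0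 15 0 1 2 25) (@D3.rec (fun _ => Nat) 0 4 24 24 25 25 99 1 2 24 24 68 0 15 68 68 25 0 4 13 13 1 2 0 99 0 1 2 12 2 25 25 0 1 2 13 13 25 0 0 1 2 11 2 13 69 0 15 70 70 25) (@D3.rec (fun _ => Nat) 0 4 24 24 1 2 0 15 0 1 2 2 25 25 0 1 2 24 24 25 0 103 1 2 103 2 24 0 66 1 2 0 15 66 68 25 25 0 1 2 13 13 2 0 3 3 0 1 2 0 1) (@D3.rec (fun _ => Nat) 2 3 2 12 12 25 0 0 1 2 6 2 13 25 0 1 2 1 2 11 2 11 11 10 58 67 58 0 15 68 66 12 12 58 56 24 24 2 0 3 3 0 1 2 0 1 2 3 2 12 0) (@D3.rec (fun _ => Nat) 0 1 2 6 2 24 12 0 1 2 1 2 11 2 11 11 10 1 2 66 2 0 3 3 0 1 2 66 66 12 0 0 1 2 6 2 13 3 3 0 1 2 4 0 0 1 2 6 3 2 1) (@D3.rec (fun _ => Nat) 2 5 2 4 4 12 12 12 0 1 2 1 2 7 2 7 7 56 0 1 2 11 11 2 11 2 11 11 11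 11 11 0 13 3 3 57 55 4 13 0 1 1 57 57 0 1 2 23 25 2 23) (@D3.rec (fun _ => Nat) 2 23 23 11 23 23 0 3 3 57 55 4 13 0 1 1 57 55 25 4 0 0 1 2 11 2 5 0 1 1 7 7 0 1 2 8 25 2 8 2 8 58 58 8 56 0 1 100 23 25 2) (@D3.rec (fun _ => Nat) 23 12 23 12 23 23 0 23 0 1 99 70 70 0 1 2 14 14 97 1 2 0 1 2 3 2 24 24 0 0 1 2 6 2 14 0 1 2 1 2 26 2 26 26 24 101 1 2 68 68 0) (@D3.rec (fun _ => Nat) 0 1 2 6 2 14 1 2 101 101 1 2 6 3 2 1 2 5 2 4 4 24 24 0 1 2 1 2 7 2 7 7 24 105 1 2 24 11 2 26 2 26 26 24 26 26 0 0 0 1 2) (@D3.rec (fun _ => Nat) 6 2 68 0 1 2 1 2 7 2 7 7 24 0 1 2 1 2 7 5 2 7 12 7 4 4 24 6 2 6 6 5 5 24 24 105 1 2 8 12 2 8 2 8 8 24 8 8 0 107 2) (@D3.rec (fun _ => Nat) 24 24 12 24 24 24 24 24 104 1 23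 25 2 23 2 23 23 24 23 23 0 23 23 0 23 23 0 23 0 1 54 1 1 96 16 16 70 1 1 23 1 102 16 98 16 1 98 68 2 102 1) (@D3.rec (fun _ => Nat) 100 23 2 66 3 3 1 2 16 2 0 0 1 68 71 3 3 0 1 2 1 6 3 1 5 70 23 72 94 16 1 1 98 96 23 1 100 16 2 0 1 2 70 102 1 2 3 104 4 23 2) (@D3.rec (fun _ => Nat) 67 3 3 3 3 0 1 2 1 6 7 3 3 66 67 105 103 109 1 2 14 2 5 4 104 6 5 23 3 3 61 59 63 25 4 0 0 1 2 13 2 1 1 7 7 18 70 3 3 23 23) (@D3.rec (fun _ => Nat) 105 25 4 23 23 23 25 0 23 23 23 1 2 3 91 4 15 74 1 2 23 14 2 5 97 4 95 6 5 15 23 23 23 76 1 2 23 24 2 5 4 24 5 1 27 1 23 1 23 23 23) (@D3.rec (fun _ => Nat) 23 10 0 10 10 96 10 10 0 10 10 0 1 2 0 10 10 102 1 2 10 10 0 0 1 2 0 10 10 55 0 1 2 23 2 0 1 2 10 10 0 0 1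 2 23 2 10 1 2 2 22) (@D3.rec (fun _ => Nat) 94 26 1 24 2 89 24 2 22 3 10 3 22 24 94 2 24 9 3 92 9 92 24 10 3 22 4 10 0 4 22 24 9 3 0 24 9 0 4 92 9 9 92 1 100 24 0 11 3 22 22) (@D3.rec (fun _ => Nat) 4 11 0 4 22 22 24 24 0 10 3 96 11 0 24 0 1 2 10 0 4 98 11 102 100 102 1 2 96 11 0 24 0 1 2 11 0 4 22 22 11 11 0 1 2 22 22 24 0 0 24) (@D3.rec (fun _ => Nat) 0 1 2 10 0 4 102 11 1 2 0 24 0 1 2 12 2 10 10 0 1 2 100 11 10 0 102 1 2 10 2 11 1 2 0 24 0 1 2 2 24 24 0 1 2 22 22 24 0 0 1) (@D3.rec (fun _ => Nat) 2 10 2 22 0 24 0 1 2 1 2 0 24 0 1 2 71 2 24 24 0 1 2 100 11 2 0 3 3 0 1 2 0 1 2 3 2 12 12 10 24 0 0 1 2 6 2 11 24 0 1)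
def lv_d_6 : D2 → D3 → Nat := @D2.rec (fun _ => D3 → Nat) (@D3.rec (fun _ => Nat) 2 1 2 10 2 10 10 10 24 2 8 3 24 0 26 3 8 8 4 26 0 4 8 8 24 24 0 26 3 9 9 4 0 24 0 1 2 26 0 4 9 9 26 26 0 1 2 9 9 24 70) (@D3.rec (fun _ => Nat) 0 24 0 1 2 26 0 4 25 25 1 2 0 24 0 1 2 12 2 26 26 0 1 2 25 25 26 104 102 1 2 100 2 25 24 24 0 26 3 9 9 4 95 24 0 1 2 26 0 4 9) (@D3.rec (fun _ => Nat) 9 28 26 0 1 2 9 9 24 72 0 24 0 1 2 26 0 4 10 10 1 2 0 24 0 1 2 69 2 26 26 0 1 2 10 10 26 0 0 1 2 12 2 10 0 24 70 70 1 2 0) (@D3.rec (fun _ => Nat) 24 0 1 2 2 26 26 0 1 2 25 25 2 0 3 3 0 1 2 0 1 2 3 2 12 12 10 26 0 0 1 2 6 2 25 26 0 1 2 1 2 104 2 11 11 10 24 0 24 0 1) (@D3.rec (fun _ => Nat) 2 4 10 10 62 0 24 0 1 2 23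 2 12 12 60 58 10 10 12 0 0 1 2 22 2 10 58 24 72 70 58 0 24 0 1 2 2 12 12 58 56 11 11 2 0 3 3 0 1 2 0) (@D3.rec (fun _ => Nat) 1 2 3 2 69 69 10 12 0 0 1 2 6 2 11 12 0 1 2 1 2 11 2 11 11 10 1 2 0 24 70 70 2 0 3 3 0 1 2 0 1 2 3 2 11 12 0 0 1 2 6) (@D3.rec (fun _ => Nat) 2 25 3 3 0 1 2 4 0 0 1 2 6 3 2 1 2 5 2 4 4 11 12 12 65 12 0 1 2 1 2 7 2 7 7 54 0 1 2 11 11 2 11 2 11 11 11 11 11 0 1) (@D3.rec (fun _ => Nat) 1 106 70 13 3 3 59 57 4 13 0 1 1 59 59 0 1 2 24 26 2 24 2 24 24 11 24 24 0 3 3 57 55 4 13 0 1 1 57 55 26 4 0 0 1 2 11 2 5 0 1) (@D3.rec (fun _ => Nat) 1 7 7 0 1 2 8 26 2 8 2 8 56 56 8 54 0 1 2 24 26 2 24 101 24 26 12 24 24 12 24 24 0 24 0 1 90 25 25 95 76 11 75 10 100 10 0 25 25 10 99)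 (@D3.rec (fun _ => Nat) 1 0 96 74 10 99 73 10 101 10 1 94 10 10 0 1 2 25 25 10 0 0 1 2 24 2 8 0 16 67 67 93 101 4 69 69 103 97 16 71 94 95 0 1 2 96 0 4 25 25 1) (@D3.rec (fun _ => Nat) 97 0 97 1 2 13 2 11 98 0 1 2 25 25 102 0 1 2 11 2 25 97 9 1 2 0 16 65 67 11 93 101 1 2 67 67 93 101 103 2 103 0 16 71 71 1 100 0 103 0 1) (@D3.rec (fun _ => Nat) 2 2 11 97 0 1 2 25 25 2 0 3 103 0 1 2 103 1 2 3 2 13 13 11 0 0 1 2 6 2 25 11 0 1 2 1 2 11 2 11 11 10 1 2 23 2 10 2 0 3 3) (@D3.rec (fun _ => Nat) 0 1 2 65 65 24 0 0 1 2 6 2 67 24 97 1 2 1 2 11 2 11 11 10 1 2 0 16 69 67 2 0 3 3 0 1 2 0 1 2 3 2 24 0 0 1 2 6 2 25 3) (@D3.rec (fun _ => Nat) 3 0 1 2 4 0 0 1 2 6 3 2 1 2 5 2 4 4 13 13 24 0 1 2 1 2 7 2 7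 7 11 0 1 2 11 11 2 11 2 11 11 11 11 11 0 69 0 16 72 72 26) (@D3.rec (fun _ => Nat) 0 4 25 25 1 106 0 97 0 1 2 2 26 26 99 1 2 25 25 101 2 25 94 95 1 96 0 99 68 68 28 26 0 1 2 14 14 2 0 3 98 0 1 2 103 1 2 3 2 13 13) (@D3.rec (fun _ => Nat) 26 0 0 1 2 6 2 14 26 0 1 2 1 2 99 2 12 12 10 97 67 1 2 0 16 70 72 26 26 0 1 2 25 25 2 0 3 99 0 1 2 0 1 2 3 2 26 0 103 1 2) (@D3.rec (fun _ => Nat) 6 2 25 26 105 1 2 103 2 101 103 10 1 98 101 2 0 3 99 0 1 2 66 66 26 0 0 1 2 6 2 14 3 3 0 1 2 4 0 0 1 2 6 3 2 1 2 5 2 4 4) (@D3.rec (fun _ => Nat) 13 13 26 0 1 2 1 2 7 2 7 7 11 0 1 2 12 11 2 12 2 12 12 11 12 12 0 60 67 60 60 0 1 2 70 66 14 60 60 58 25 3 3 0 1 2 4 0 0 1 2) (@D3.rec (fun _ => Nat) 6 3 2 1 2 5 2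 4 14 0 1 2 1 2 7 2 7 7 0 1 2 12 13 2 12 2 12 12 11 12 12 0 2 63 3 3 3 3 0 1 2 4 0 0 1 2 6 2 66 13 0) (@D3.rec (fun _ => Nat) 1 2 1 2 7 2 7 7 12 4 0 0 1 2 11 14 2 5 0 1 2 1 2 7 5 2 7 12 7 4 4 12 6 2 6 6 5 5 13 13 0 1 2 8 12 2 8 2 8 8 56) (@D3.rec (fun _ => Nat) 8 8 0 1 2 12 12 2 12 0 12 12 12 12 12 12 12 12 0 12 0 1 15 26 4 59 59 57 5 0 1 59 26 59 59 69 1 2 24 26 2 24 103 24 26 12 24 24 12 24 24) (@D3.rec (fun _ => Nat) 0 24 0 1 26 4 57 57 55 108 0 1 57 26 57 55 53 26 0 5 0 1 2 1 2 12 2 12 12 0 1 8 26 8 8 8 1 100 9 26 2 9 0 58 26 60 9 58 60 9 56) (@D3.rec (fun _ => Nat) 0 54 0 1 24 24 24 0 1 54 1 104 99 70 1 2 97 2 15 97 6 3 2 1 2 97 2 4 4 25 25 1 2 1 2 95 2 7 7 25 1 2 27 25 2 27 2 27 27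 25 27) (@D3.rec (fun _ => Nat) 27 0 101 6 2 68 1 2 1 2 99 2 99 7 25 24 14 2 101 103 7 5 2 7 13 7 4 4 25 103 2 6 6 5 5 25 25 1 2 99 12 2 105 2 8 8 25 8 8 0 105) (@D3.rec (fun _ => Nat) 25 2 25 108 27 12 25 27 27 25 27 27 0 27 0 1 1 2 1 2 7 2 7 7 25 1 2 8 13 2 8 2 8 8 25 8 8 0 1 2 8 99 2 8 6 2 8 13 8 6 6) (@D3.rec (fun _ => Nat) 25 8 13 8 13 13 0 5 5 57 7 7 7 7 6 6 25 105 9 2 9 0 9 13 25 9 9 25 9 9 0 9 0 1 25 25 25 54 24 24 0 24 24 24 24 24 0 24 0 1 1) (@D3.rec (fun _ => Nat) 1 54 1 13 24 24 69 102 104 98 24 3 3 65 65 71 2 66 0 1 2 1 100 108 104 1 2 22 15 2 5 106 106 70 24 94 96 98 101 24 98 100 1 2 102 70 104 15 2 4 104)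
def lv_d_7 : D2 → D3 → Nat := @D2.rec (fun _ => D3 → Nat) (@D3.rec (fun _ => Nat) 5 24 3 3 70 67 107 109 105 1 2 12 2 7 107 66 66 66 0 109 108 15 2 15 15 6 5 99 7 6 26 61 61 59 26 0 110 1 2 1 2 13 2 74 13 105 73 24 24 24 0) (@D3.rec (fun _ => Nat) 24 24 24 0 1 2 24 99 2 4 101 100 99 2 0 15 15 6 5 95 7 100 24 24 25 2 25 25 11 1 2 11 96 11 1 2 11 1 2 24 2 1 2 11 102 2 11 1 2 1 2) (@D3.rec (fun _ => Nat) 24 2 1 2 11 53 1 2 53 2 24 24 25 1 2 53 2 11 1 2 1 2 24 2 24 24 25 25 2 23 25 25 11 3 23 11 103 10 92 25 10 94 0 25 10 0 4 23 10 10 0) (@D3.rec (fun _ => Nat) 1 2 10 1 2 25 10 10 94 1 10 94 0 25 0 1 2 12 0 4 23 23 100 102 100 1 2 23 23 25 0 0 25 96 1 2 98 98 98 1 2 0 25 96 1 2 13 2 102 100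 102) (@D3.rec (fun _ => Nat) 1 2 100 104 2 98 1 2 0 25 0 1 2 2 11 11 0 1 2 23 23 11 0 0 1 2 12 2 23 0 25 0 1 2 1 2 0 25 104 1 2 71 2 11 100 102 1 2 102 2 0) (@D3.rec (fun _ => Nat) 3 3 0 1 2 100 1 2 3 2 13 13 10 11 0 102 1 2 6 2 102 104 102 1 2 104 2 11 11 10 2 0 3 3 0 1 2 0 1 2 3 2 10 25 0 0 1 2 6 2 23) (@D3.rec (fun _ => Nat) 25 0 1 2 1 2 11 2 11 11 10 1 2 0 25 0 1 2 24 2 2 0 3 3 0 1 2 98 1 2 3 2 71 69 66 25 0 100 1 2 6 2 102 3 3 0 1 2 4 0 0) (@D3.rec (fun _ => Nat) 1 2 6 3 2 1 2 5 2 4 4 11 13 13 70 25 0 1 2 1 2 7 2 7 7 11 102 1 2 11 96 2 11 2 11 11 11 11 11 0 25 25 0 27 3 9 9 94 0 1 2) (@D3.rec (fun _ => Nat) 0 4 9 9 27 0 1 2 9 9 25 72 0 25 0 1 2 27 0 4 10 10 1 2 0 25 0 1 2 69 2 27 27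 0 1 2 10 10 27 100 0 1 2 101 2 10 0 25 70 70 1) (@D3.rec (fun _ => Nat) 2 0 25 0 1 2 2 27 27 0 1 2 26 26 2 0 3 3 0 1 2 98 1 2 3 2 13 13 10 27 100 102 1 2 6 2 26 27 106 104 2 98 100 10 0 25 0 1 2 27 0) (@D3.rec (fun _ => Nat) 4 10 10 99 0 1 2 24 2 29 0 1 2 10 10 29 0 0 1 2 23 2 10 0 25 75 70 1 2 0 25 0 1 2 2 27 27 0 1 2 11 11 2 0 3 3 0 1 2 0 1) (@D3.rec (fun _ => Nat) 2 3 2 69 69 10 27 0 0 1 2 6 2 11 27 0 1 2 1 2 13 2 13 13 10 1 2 0 25 70 70 2 0 3 3 0 1 2 0 1 2 3 2 11 27 0 0 1 2 6 2) (@D3.rec (fun _ => Nat) 26 3 3 0 1 2 4 0 0 1 2 6 3 2 1 2 5 2 4 4 11 13 13 70 27 0 1 2 1 2 7 2 7 7 11 104 1 2 104 11 2 2 102 104 11 12 12 0 0 1 2) (@D3.rec (fun _ => Nat) 0 1 2 2 11 11 106 1 2 0 1 2 3 2 24 24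 24 62 62 60 11 104 1 2 1 2 23 2 23 23 58 0 25 72 70 58 58 0 1 2 0 1 2 3 2 11 14 58 58 56 12) (@D3.rec (fun _ => Nat) 3 3 0 1 2 4 0 0 1 2 6 3 2 1 2 5 2 4 4 11 71 70 65 14 0 1 2 1 2 7 2 7 7 0 1 2 12 13 2 12 2 12 12 11 12 12 0 2 0 3 3) (@D3.rec (fun _ => Nat) 0 1 2 72 71 3 3 0 1 2 4 0 0 1 2 6 3 2 1 2 5 2 4 12 13 0 1 2 1 2 7 2 7 7 12 4 0 0 1 2 11 23 2 5 0 1 2 1 2 7 5) (@D3.rec (fun _ => Nat) 2 7 24 7 4 4 12 6 2 6 6 12 5 5 0 13 13 70 0 1 2 8 12 2 8 2 8 8 56 8 8 0 1 2 12 12 2 12 0 12 12 12 12 12 12 12 12 0 12 0 1) (@D3.rec (fun _ => Nat) 27 15 27 4 59 59 57 5 0 1 59 27 59 59 1 102 25 27 2 25 12 12 25 0 25 65 1 27 4 59 59 57 5 0 1 59 27 59 57 53 27 0 5 0 1 2 1 2 12 2 12) (@D3.rec (fun _ => Nat)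 12 0 1 8 27 8 8 8 1 2 9 27 2 9 0 58 27 58 9 58 58 9 56 0 52 0 1 25 27 2 25 102 25 101 25 0 0 25 25 0 25 0 1 52 1 24 97 11 103 1 1) (@D3.rec (fun _ => Nat) 96 0 12 101 11 96 11 0 0 1 2 2 11 98 1 1 25 2 25 100 1 102 0 69 69 103 71 96 71 71 0 97 1 2 2 98 0 1 2 26 26 0 98 0 1 2 104 3 2 14 14) (@D3.rec (fun _ => Nat) 106 0 1 2 6 2 26 99 1 2 12 12 2 0 3 101 0 1 2 67 67 95 101 103 6 2 69 105 10 1 100 0 69 71 96 0 1 2 101 1 2 3 2 97 0 0 1 2 2 26 3) (@D3.rec (fun _ => Nat) 0 1 2 104 0 0 1 2 6 3 2 103 5 2 4 4 14 14 12 0 1 2 1 2 7 2 7 7 11 106 1 2 12 11 2 12 2 12 12 105 12 12 0 24 2 24 24 24 3 3 0) (@D3.rec (fun _ => Nat) 1 2 4 0 0 1 2 6 2 67 25 97 1 2 1 2 7 2 7 7 11 97 12 2 12 2 12 12 11 12 12 0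 2 63 3 106 0 1 2 69 69 3 3 0 1 2 104 0 0 1 2) (@D3.rec (fun _ => Nat) 6 3 2 1 2 5 2 4 25 0 1 2 1 2 7 2 7 7 58 103 4 0 0 1 2 23 15 2 5 0 1 2 1 2 7 5 2 7 24 7 4 4 12 6 2 6 6 5 5 14 14) (@D3.rec (fun _ => Nat) 0 1 2 8 12 2 8 2 8 8 12 8 8 0 1 2 12 98 2 12 0 12 12 12 12 12 12 12 12 0 12 0 1 95 1 93 0 93 72 27 27 97 1 2 26 26 0 97 0 1 2) (@D3.rec (fun _ => Nat) 99 1 2 3 2 99 6 2 26 10 0 97 96 0 1 2 101 70 27 0 99 1 2 6 2 15 3 1 2 103 0 99 1 2 6 3 2 103 2 4 4 14 14 27 0 1 2 1 2 7 2) (@D3.rec (fun _ => Nat) 7 7 11 104 1 26 2 100 2 99 101 101 13 13 106 100 2 0 3 99 0 1 2 99 70 27 0 101 1 2 6 2 26 3 0 1 2 101 0 0 1 2 6 3 2 1 2 5 2 4 27)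
def lv_d_8 : D2 → D3 → Nat := @D2.rec (fun _ => D3 → Nat) (@D3.rec (fun _ => Nat) 103 1 2 103 7 2 7 7 11 105 12 2 11 101 103 0 70 100 3 0 1 2 102 0 0 1 2 6 2 68 27 0 1 2 1 2 7 2 7 7 12 12 4 0 1 2 25 15 2 5 0) (@D3.rec (fun _ => Nat) 1 2 1 2 7 5 2 7 13 7 4 4 12 2 6 6 5 5 14 14 0 1 2 8 12 2 8 2 8 8 12 8 8 0 1 2 100 12 2 13 0 13 12 12 13 13 107 13 13 0 13) (@D3.rec (fun _ => Nat) 0 1 60 106 60 0 0 1 2 2 70 14 60 58 58 105 4 0 0 1 2 64 2 5 0 1 2 1 2 7 5 2 7 24 7 4 12 6 2 6 6 0 1 2 8 13 2 8 2 8 8) (@D3.rec (fun _ => Nat) 71 8 1 2 105 107 2 13 109 13 13 12 13 13 12 13 13 0 13 0 1 3 3 68 69 105 13 4 0 0 1 2 2 5 0 1 2 1 2 7 2 7 7 13 0 1 2 8 13 2 8) (@D3.rec (fun _ => Nat) 2 8 8 8 8 105 0 5 0 1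 2 1 2 12 15 2 12 23 12 15 15 13 0 1 2 8 13 2 8 6 2 8 13 8 6 6 13 8 13 8 13 13 0 5 5 55 7 7 7 7 6) (@D3.rec (fun _ => Nat) 6 14 1 2 9 13 2 9 0 9 13 60 9 9 60 9 9 0 9 0 1 2 13 13 13 13 13 99 13 1 13 13 13 0 1 52 1 106 27 0 5 59 57 57 1 59 27 59 106 59 71) (@D3.rec (fun _ => Nat) 25 27 2 25 25 105 25 106 100 25 25 109 25 0 1 70 1 24 0 59 57 57 1 59 27 57 0 57 53 0 1 2 0 1 2 13 3 2 13 2 13 13 13 13 1 9 27 9 0 9 9) (@D3.rec (fun _ => Nat) 10 10 99 60 10 1 0 10 0 54 0 1 52 1 13 54 1 2 97 26 7 14 7 4 4 26 2 99 103 5 26 26 2 2 95 97 26 95 8 0 28 26 2 28 98 28 26 26 28 28 26) (@D3.rec (fun _ => Nat) 28 28 0 28 0 1 7 26 13 2 2 101 26 97 99 0 25 0 25 15 15 8 14 8 6 6 26 8 14 8 14 14 0 5 5 72 103 103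 7 7 6 6 2 99 0 99 13 26 103 103 26) (@D3.rec (fun _ => Nat) 99 9 0 9 0 1 26 28 26 26 99 28 108 0 100 28 28 0 28 0 1 0 1 14 8 2 8 2 8 8 26 8 8 0 95 2 9 0 9 14 26 9 9 26 9 9 0 9 0 1 9) (@D3.rec (fun _ => Nat) 2 9 0 9 101 101 26 9 14 9 7 7 26 9 14 9 14 14 0 7 7 59 14 9 14 14 0 14 14 0 1 6 6 59 105 8 8 8 7 10 10 10 1 2 104 10 10 1 52 1 14) (@D3.rec (fun _ => Nat) 25 25 97 25 1 0 1 56 1 58 14 14 25 25 71 102 108 25 67 67 67 69 68 1 2 2 101 109 110 16 2 23 16 106 72 94 98 104 100 100 2 102 16 16 5 105 6 104 105 70 0) (@D3.rec (fun _ => Nat) 106 105 14 2 14 0 68 68 1 2 16 16 16 16 7 6 104 8 0 61 61 105 1 2 108 2 2 15 73 105 25 25 1 2 25 1 2 14 2 103 99 93 107 101 1 16 7 99 102 25 25) (@D3.rec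 (fun _ => Nat) 2 25 2 98 2 25 25 26 2 25 25 2 2 25 25 26 2 55 2 53 53 26 25 25 0 94 2 55 53 26 25 2 25 2 25 25 26 25 25 0 97 12 101 102 1 2 12 12 0 1 12) (@D3.rec (fun _ => Nat) 105 1 2 11 2 100 3 11 94 1 2 0 26 0 1 2 2 102 100 101 1 2 24 24 99 100 2 24 98 26 94 1 2 1 104 0 96 73 2 102 98 2 0 104 3 0 1 2 98 3 2) (@D3.rec (fun _ => Nat) 14 14 10 102 6 2 2 0 3 3 0 1 2 0 1 2 3 2 10 13 0 0 1 2 6 2 24 99 105 1 2 1 104 13 2 13 13 10 1 2 0 26 104 1 2 25 2 2 3 3 0) (@D3.rec (fun _ => Nat) 1 2 104 3 2 74 71 71 106 102 104 2 3 3 0 1 2 4 0 0 1 2 6 3 2 100 5 2 4 4 11 14 14 72 104 100 1 2 102 7 2 7 7 11 104 2 12 12 3 3 0) (@D3.rec (fun _ => Nat) 1 2 4 0 0 1 2 6 3 2 1 2 5 2 4 11 26 0 1 2 1 2 7 2 7 7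 11 99 1 2 12 101 2 12 2 12 12 11 12 12 0 2 0 3 3 0 1 2 98 1 2) (@D3.rec (fun _ => Nat) 25 3 2 25 71 3 3 0 1 2 4 0 0 1 2 6 3 2 100 5 2 4 4 71 73 71 64 26 100 1 2 100 7 2 7 58 100 4 0 0 1 2 24 24 2 5 0 1 2 1 2) (@D3.rec (fun _ => Nat) 7 5 2 7 53 7 4 4 12 6 2 6 6 12 5 5 0 14 14 63 102 1 2 8 98 2 8 2 8 8 12 8 8 0 104 12 2 12 104 12 98 12 12 12 12 12 12 0 12 0 1) (@D3.rec (fun _ => Nat) 97 0 1 2 0 10 10 1 2 25 2 1 2 10 10 0 1 2 24 2 10 98 26 75 72 1 2 0 26 100 1 2 2 28 28 96 1 2 100 11 2 0 99 3 0 1 2 0 1 2 3) (@D3.rec (fun _ => Nat) 2 71 71 10 28 98 0 1 2 6 2 11 28 102 100 1 2 2 103 107 10 1 98 0 26 96 72 2 0 99 3 0 1 2 98 1 2 3 2 11 28 102 100 1 2 6 2 27 3 3 0) (@D3.rec (fun _ => Nat) 1 2 4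 0 0 1 2 6 3 2 100 5 2 4 4 11 14 14 72 28 106 102 7 2 7 7 11 11 98 100 102 1 2 0 1 2 2 0 1 2 11 11 101 1 2 95 2 25 25 25 0) (@D3.rec (fun _ => Nat) 1 2 99 2 11 0 1 2 1 2 24 2 24 24 25 1 2 0 26 75 73 2 0 3 3 0 1 2 100 1 2 3 2 11 28 0 96 1 2 6 2 12 3 3 0 1 2 4 0 0 1) (@D3.rec (fun _ => Nat) 2 6 3 2 1 2 5 2 4 4 11 71 71 65 28 0 1 2 1 2 7 2 7 7 11 101 1 2 103 12 2 105 2 14 14 11 14 14 0 25 2 0 3 3 0 1 2 98 72 3 3) (@D3.rec (fun _ => Nat) 0 1 2 4 0 0 1 2 6 3 2 1 2 5 2 4 12 28 0 1 2 1 2 7 2 7 7 12 12 4 0 0 1 2 26 24 2 5 0 1 2 1 2 7 5 2 7 25 7 4 4) (@D3.rec (fun _ => Nat) 12 6 2 6 6 12 5 5 0 14 14 72 102 1 2 8 12 2 8 2 8 8 12 8 8 0 104 12 2 104 106 106 12 12 12 100 102 108 13 0 1 1 2 2 1 2 64 2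 25 12 107)
def lv_d_9 : D2 → D3 → Nat := @D2.rec (fun _ => D3 → Nat) (@D3.rec (fun _ => Nat) 3 2 1 2 109 2 69 4 25 25 25 0 60 60 106 13 2 2 24 24 60 60 0 1 2 74 72 60 0 0 1 2 3 2 1 2 5 2 4 12 14 60 58 58 13 4 0 0 1 2 24) (@D3.rec (fun _ => Nat) 2 5 0 1 2 1 2 7 5 2 7 62 7 4 4 12 6 2 6 6 12 5 5 0 71 71 65 0 1 2 8 13 2 8 2 8 8 8 1 2 13 13 2 13 103 13 13 12 13 12 13) (@D3.rec (fun _ => Nat) 0 13 65 1 3 3 0 1 2 4 0 0 1 2 25 2 72 13 4 0 0 1 2 24 2 5 0 1 2 1 2 7 5 2 7 25 7 4 13 6 2 6 6 13 0 0 1 2 8 13 2) (@D3.rec (fun _ => Nat) 8 2 8 8 28 8 13 0 5 0 1 2 1 2 12 24 2 12 57 12 24 24 13 0 1 2 8 13 2 8 6 2 8 25 8 6 6 13 8 25 8 25 25 0 5 5 0 7 7 13 7) (@D3.rec (fun _ => Nat) 7 0 6 6 0 1 14 72 1 2 9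 13 2 9 0 9 13 56 9 9 56 9 9 0 9 0 1 112 106 2 13 108 13 13 13 13 0 13 1 2 0 0 13 13 0 13 0 1 52 1 25) (@D3.rec (fun _ => Nat) 28 0 5 61 59 59 1 61 28 61 106 65 1 28 0 5 98 61 61 1 59 28 100 0 55 28 0 1 2 102 1 2 13 3 2 13 2 13 13 30 13 1 9 9 0 9 9 10 28 2 10) (@D3.rec (fun _ => Nat) 0 58 28 60 10 99 56 1 2 0 0 98 56 0 54 0 1 52 1 25 26 26 0 1 1 26 0 1 54 1 25 0 98 1 12 100 1 1 2 100 26 0 1 2 69 0 73 1 2 97 3) (@D3.rec (fun _ => Nat) 2 102 1 2 2 27 1 2 0 1 2 6 3 2 4 4 15 15 103 1 7 2 7 7 13 13 3 0 1 2 95 0 1 2 6 2 67 103 7 11 100 0 1 2 67 0 1 2 3 2 103) (@D3.rec (fun _ => Nat) 5 2 4 101 0 1 2 1 2 2 73 0 1 2 100 2 105 0 1 2 1 2 7 5 2 7 25 7 4 4 12 6 6 5 5 15 15 104 1 2 8 12 2 8 2 8 8 103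 8 0 105) (@D3.rec (fun _ => Nat) 2 13 13 12 13 13 13 13 106 13 0 1 25 25 25 25 25 0 100 4 0 0 1 2 2 99 0 1 2 1 2 7 2 7 7 12 99 8 2 8 2 8 8 12 8 8 0 13 13 12 13) (@D3.rec (fun _ => Nat) 13 12 13 13 0 13 0 1 3 63 63 106 0 0 1 2 2 71 0 0 1 2 24 2 101 0 1 2 1 2 7 5 2 7 25 7 4 54 6 2 6 6 0 1 2 8 104 2 8 2 8) (@D3.rec (fun _ => Nat) 8 58 26 8 0 0 5 0 1 2 1 2 24 16 2 24 69 24 70 16 13 0 1 2 8 13 2 8 6 2 8 25 8 6 6 13 8 25 8 25 25 0 5 5 53 7 7 7 7 6 6) (@D3.rec (fun _ => Nat) 15 1 2 9 100 2 9 0 9 13 13 9 9 13 9 9 0 9 0 1 2 13 101 13 100 99 13 99 13 1 2 0 100 13 13 101 13 0 1 54 1 25 0 0 1 2 95 99 6 2 27) (@D3.rec (fun _ => Nat) 1 2 1 2 6 3 2 99 2 4 7 11 1 2 0 99 1 2 6 2 103 28 99 1 2 99 2 7 12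 26 2 107 101 1 2 103 7 2 7 14 7 4 4 12 5 5 15 15 104 1 8) (@D3.rec (fun _ => Nat) 27 2 2 8 8 101 8 8 0 27 27 105 101 103 97 99 108 14 104 103 3 0 1 2 99 0 0 1 2 6 2 101 28 101 1 2 101 7 2 80 7 12 0 1 2 26 71 2 103 0 1) (@D3.rec (fun _ => Nat) 2 1 2 7 5 2 7 25 7 4 12 2 6 6 105 8 14 2 8 12 8 8 0 14 12 101 0 1 72 13 0 1 2 26 2 104 0 1 2 1 2 7 2 7 7 13 0 1 2 8 13) (@D3.rec (fun _ => Nat) 2 2 8 13 8 8 0 5 1 2 26 2 26 99 26 16 16 13 0 1 2 8 13 2 8 2 8 14 8 6 6 13 8 14 8 14 14 0 5 5 72 7 7 6 6 15 1 2 9 13 2) (@D3.rec (fun _ => Nat) 9 0 9 13 13 9 9 109 9 9 0 9 0 1 2 106 105 106 13 101 14 0 14 1 2 100 100 14 14 108 14 0 1 0 1 14 113 0 1 2 1 2 2 13 62 60 0 5 0 1 2) (@D3.rec (fun _ => Nat) 1 2 69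 2 62 13 0 1 2 8 15 2 8 6 2 8 25 8 6 6 13 25 8 25 55 55 7 7 7 1 2 9 107 2 9 0 9 15 9 9 71 9 62 2 105 105 107 13 14 107 14) (@D3.rec (fun _ => Nat) 109 106 100 14 14 107 14 0 1 70 1 25 70 70 63 107 0 5 0 1 2 1 2 2 56 0 1 2 8 14 2 8 2 8 8 14 8 8 54 1 2 9 101 2 9 0 9 14 9 9 9) (@D3.rec (fun _ => Nat) 9 9 107 109 1 2 0 1 2 13 3 2 13 105 2 13 24 13 16 16 14 13 24 13 24 24 53 16 16 55 1 2 9 14 2 9 0 9 14 14 14 9 14 9 7 7 14 9 14 9 14) (@D3.rec (fun _ => Nat) 14 0 7 7 55 14 9 14 14 0 14 14 0 1 6 6 55 8 8 8 8 7 10 2 10 0 10 14 62 10 0 10 1 2 0 102 10 10 0 10 0 1 52 1 14 14 14 54 1 28 112) (@D3.rec (fun _ => Nat) 1 2 61 59 61 28 61 108 71 104 26 98 70 1 1 2 61 59 100 101 55 99 1 55 1 2 14 3 2 1 2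 14 5 2 14 0 14 4 14 14 14 14 14 10 10 101 10 102 1 10 14) (@D3.rec (fun _ => Nat) 1 1 54 1 14 27 0 15 8 15 15 5 101 101 27 27 27 95 97 97 0 1 29 27 27 29 102 0 0 29 0 29 0 1 0 1 104 0 14 27 27 0 99 0 1 102 26 1 97 79 16) (@D3.rec (fun _ => Nat) 15 9 15 15 7 7 72 15 9 15 15 0 15 15 0 1 6 6 74 103 103 8 27 0 99 1 2 101 101 106 105 99 0 1 0 1 15 29 0 105 29 99 0 106 1 29 0 1 0 1 15) (@D3.rec (fun _ => Nat) 1 11 15 15 9 9 27 9 9 27 9 9 0 9 0 1 101 103 10 0 10 1 2 0 10 10 0 10 0 1 54 1 56 10 27 10 97 10 1 2 2 0 101 101 0 10 15 103 15 15 103) (@D3.rec (fun _ => Nat) 8 59 15 10 15 15 102 15 15 0 1 8 8 59 30 15 54 15 15 0 1 15 15 0 1 4 7 59 105 105 9 14 2 15 15 1 58 15 15 104 67 67 71 2 106 17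 106 17 6 104 106)
def lv_d_10 : D2 → D3 → Nat := @D2.rec (fun _ => D3 → Nat) (@D3.rec (fun _ => Nat) 107 1 2 14 1 2 14 2 17 17 17 17 8 101 1 2 106 2 15 2 108 2 15 15 16 107 101 101 26 26 27 26 26 27 100 100 27 26 26 0 26 26 27 27 26 26 0 27 102 53 27) (@D3.rec (fun _ => Nat) 53 51 53 26 26 0 1 102 102 27 55 53 26 26 27 26 26 27 26 26 0 26 0 1 2 100 100 12 103 1 78 3 100 2 0 99 96 0 1 2 0 1 2 3 2 10 98 104 6 2 98) (@D3.rec (fun _ => Nat) 0 96 2 1 2 76 71 71 3 0 1 2 1 2 6 3 2 4 4 11 15 15 72 7 3 3 0 1 2 4 0 0 1 2 6 3 2 1 2 5 2 4 11 99 105 1 2 1 104 7 2) (@D3.rec (fun _ => Nat) 7 7 11 106 2 14 14 14 14 104 2 102 3 0 1 2 105 3 2 26 71 3 3 102 0 1 2 3 2 4 4 71 76 74 66 108 104 73 4 0 0 1 2 25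 2 103 0 1 2 1 2) (@D3.rec (fun _ => Nat) 7 5 2 7 102 7 4 4 12 6 6 12 5 5 0 15 15 72 104 8 2 8 8 13 105 4 0 0 1 2 25 25 2 5 0 1 2 1 2 7 5 2 7 23 7 4 12 6 2 6 6) (@D3.rec (fun _ => Nat) 12 0 99 1 2 8 103 2 8 2 8 8 12 62 8 0 99 13 2 13 113 13 105 12 13 12 13 0 13 0 1 3 3 0 1 2 4 0 0 1 2 26 3 2 100 5 2 26 4 64 74) (@D3.rec (fun _ => Nat) 98 4 0 0 1 2 25 25 2 106 0 1 2 1 2 7 5 2 7 4 4 56 6 6 71 5 5 0 73 71 66 102 102 8 2 8 60 0 105 0 5 0 1 2 1 2 25 25 2 25 29) (@D3.rec (fun _ => Nat) 25 25 25 13 0 1 2 8 13 2 8 6 2 8 53 8 6 6 13 8 29 8 51 51 0 5 5 0 7 7 13 7 7 0 6 6 0 1 15 65 104 9 2 9 0 9 98 13 9 9 13) (@D3.rec (fun _ => Nat) 9 9 0 9 0 1 13 13 13 13 106 13 106 0 98 13 13 0 13 0 1 52 1 12 103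 1 2 2 1 2 11 95 2 26 26 99 2 11 1 2 2 25 25 26 98 0 27 77 75 2 0) (@D3.rec (fun _ => Nat) 97 3 0 1 2 98 100 3 2 11 29 98 94 96 6 2 100 3 0 1 2 99 0 0 1 2 6 3 2 1 2 2 4 4 11 71 67 29 99 100 1 2 2 7 7 11 2 11 102 105 107) (@D3.rec (fun _ => Nat) 0 98 0 1 2 96 3 0 1 2 99 0 0 1 2 6 3 2 98 5 2 4 12 29 104 102 7 2 7 7 12 4 0 0 1 2 27 25 2 103 1 2 1 2 7 5 2 7 26 7 4) (@D3.rec (fun _ => Nat) 4 12 6 12 5 5 0 15 15 98 8 12 8 8 0 98 100 2 1 2 2 26 1 2 2 12 95 2 95 95 26 26 0 1 2 99 2 97 99 26 1 2 25 14 2 25 2 25 25 26 25) (@D3.rec (fun _ => Nat) 25 0 2 76 105 102 0 1 2 77 75 3 3 0 1 2 4 0 0 1 2 6 3 2 100 5 2 4 12 29 96 1 2 96 7 2 7 7 12 14 4 0 0 1 2 27 25 2 101 0 1) (@D3.rec (fun _ => Nat) 2 1 2 7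 5 2 7 95 7 4 4 12 2 6 6 12 5 5 0 71 75 105 1 2 8 14 2 2 8 8 12 8 8 0 107 14 2 103 105 105 14 12 103 105 12 15 15 107 15 0 1) (@D3.rec (fun _ => Nat) 26 3 3 0 1 2 102 0 0 1 2 26 2 100 13 4 0 0 1 2 27 25 2 104 0 1 2 1 2 7 5 2 7 26 7 4 13 6 2 6 6 13 0 102 1 2 8 13 2 8 2) (@D3.rec (fun _ => Nat) 8 8 13 8 8 0 13 0 5 0 1 2 1 2 27 25 2 27 81 27 25 25 13 0 1 2 8 13 2 8 6 2 8 26 8 6 6 13 8 26 8 26 26 0 5 5 0 7 7 13 7) (@D3.rec (fun _ => Nat) 7 0 6 6 0 1 15 104 104 9 13 2 9 0 9 13 13 9 13 9 9 0 9 0 1 13 13 102 108 104 108 100 0 100 110 80 1 2 26 66 2 66 26 4 2 113 107 26 71 71 71) (@D3.rec (fun _ => Nat) 26 0 1 15 60 0 0 1 2 26 2 72 60 0 1 2 1 2 5 2 4 13 6 2 6 6 13 0 60 58 107 0 5 0 1 2 1 2 25 2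 25 13 0 1 2 8 15 2 8 6 2) (@D3.rec (fun _ => Nat) 8 64 8 6 6 13 8 64 57 5 5 0 7 7 13 7 7 0 6 6 0 1 72 67 1 2 9 15 2 9 0 9 15 9 9 2 14 15 13 14 67 1 109 4 0 0 1 2 2 107 0) (@D3.rec (fun _ => Nat) 1 2 1 2 26 2 26 14 14 0 5 0 1 2 1 2 25 2 25 56 0 1 2 8 14 2 8 6 2 8 26 8 6 6 14 8 26 52 0 7 7 14 7 0 1 1 2 9 14 2 9) (@D3.rec (fun _ => Nat) 0 9 14 9 30 9 30 107 0 1 2 0 1 2 13 3 2 13 25 2 13 59 13 25 25 14 13 25 57 53 25 25 0 1 2 9 14 2 9 0 9 14 14 14 9 26 9 7 7 14 9) (@D3.rec (fun _ => Nat) 26 9 26 26 0 7 7 0 9 26 26 0 26 26 0 1 6 6 0 1 8 8 0 8 8 0 1 7 0 1 26 100 10 110 2 10 0 10 14 60 10 0 10 1 2 0 0 10 10 0 10) (@D3.rec (fun _ => Nat) 0 1 50 1 26 104 107 106 106 14 104 14 101 14 1 2 0 2 1 1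 14 0 1 52 1 26 29 110 1 2 61 59 100 1 2 63 100 29 103 100 100 1 102 1 2 14 3 2 102 14 2) (@D3.rec (fun _ => Nat) 14 0 14 4 14 14 30 14 30 10 10 10 101 1 104 101 60 98 1 0 54 0 14 2 0 1 1 54 0 1 52 1 26 54 1 54 1 1 1 2 2 1 2 3 2 4 102 2 2 1 2) (@D3.rec (fun _ => Nat) 7 2 7 26 7 4 4 12 5 16 16 100 8 8 14 0 1 2 99 2 1 2 2 7 12 0 0 1 2 2 1 2 5 2 4 71 6 6 104 1 2 2 2 71 1 2 2 102 104 13 0) (@D3.rec (fun _ => Nat) 1 2 8 13 2 8 2 8 26 8 6 6 13 26 8 26 26 0 5 5 72 7 7 6 6 16 106 9 2 9 0 9 13 9 9 9 0 79 1 14 14 14 14 14 101 79 1 26 26 26 0) (@D3.rec (fun _ => Nat) 26 0 1 0 0 1 2 1 2 2 13 1 2 8 15 2 8 2 8 8 13 8 8 0 9 9 13 9 9 13 9 9 0 9 0 1 14 14 0 14 14 107 14 0 1 71 1 12 70 65 0)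
def lv_d_11 : D2 → D3 → Nat := @D2.rec (fun _ => D3 → Nat) (@D3.rec (fun _ => Nat) 1 2 1 2 2 54 1 2 1 2 25 2 25 56 0 1 2 8 14 2 8 6 2 8 26 8 6 6 56 8 26 0 56 7 7 7 1 2 9 106 2 9 0 9 106 71 9 9 60 26 9) (@D3.rec (fun _ => Nat) 0 26 0 1 1 2 0 1 2 25 3 2 25 2 25 107 25 110 17 14 29 25 61 0 72 61 66 1 2 9 14 2 9 0 9 14 14 14 9 26 9 7 7 14 9 26 9 26 26 0 7) (@D3.rec (fun _ => Nat) 7 55 26 9 26 26 0 26 26 0 1 6 6 55 8 8 8 7 10 2 10 0 10 100 99 10 0 10 1 2 0 100 10 10 0 10 0 1 52 1 26 99 103 99 99 109 14 103 0 2 105) (@D3.rec (fun _ => Nat) 1 14 102 54 1 1 2 1 2 6 2 82 7 12 27 2 2 26 7 4 12 0 27 2 1 2 105 2 7 13 101 2 99 0 27 27 13 108 8 28 2 8 8 13 8 15 8 15 15 0 5) (@D3.rec (fun _ => Nat) 5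 72 96 6 9 28 105 9 0 9 0 1 103 103 99 106 102 0 1 2 2 0 1 2 1 2 7 2 7 13 103 8 2 82 8 13 82 82 0 1 2 27 2 27 27 71 13 1 2 8 14) (@D3.rec (fun _ => Nat) 2 2 26 8 6 6 13 8 26 8 26 0 72 7 0 9 14 13 0 9 0 1 98 90 1 26 1 2 27 2 27 27 14 0 1 2 8 14 2 2 8 14 8 8 0 1 2 2 9 14 14) (@D3.rec (fun _ => Nat) 111 0 9 0 1 27 110 2 27 27 14 97 27 95 80 0 17 78 1 2 9 14 2 9 0 9 14 14 14 9 9 14 9 15 9 15 15 0 7 7 70 15 9 15 15 0 15 15 0 1 6) (@D3.rec (fun _ => Nat) 6 72 8 8 7 10 2 10 10 14 110 10 0 10 1 2 0 102 10 0 10 0 1 0 1 15 99 107 105 107 107 101 104 15 1 2 100 2 107 15 109 0 1 15 1 11 15 15 0 1 2) (@D3.rec (fun _ => Nat) 15 2 2 14 60 1 2 0 1 2 3 2 69 2 69 70 14 68 1 2 9 15 2 9 0 9 15 15 14 9 26 9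 7 7 14 26 9 26 26 57 7 57 26 57 0 8 8 10 2 10 0) (@D3.rec (fun _ => Nat) 10 109 64 0 10 1 2 73 10 62 107 15 105 106 15 100 72 1 63 71 1 2 1 2 3 2 2 58 1 2 9 15 2 9 0 9 15 15 9 9 15 9 9 54 9 52 10 2 10 101 10) (@D3.rec (fun _ => Nat) 103 10 0 10 1 2 10 10 10 108 14 3 2 1 2 14 101 2 14 0 14 103 4 15 14 25 14 107 15 14 25 14 25 25 53 17 17 57 14 25 51 25 25 0 17 17 57 10 15 2 10) (@D3.rec (fun _ => Nat) 0 10 103 15 15 10 0 10 1 2 2 0 15 15 0 10 15 10 15 15 0 8 8 57 15 10 15 15 0 15 15 0 1 8 8 70 15 50 15 15 0 1 15 15 0 1 4 7 57 9 9) (@D3.rec (fun _ => Nat) 9 11 11 1 2 0 11 1 14 2 1 11 1 52 1 15 108 104 2 64 106 15 2 15 106 5 2 15 0 15 4 16 15 2 15 0 15 6 15 0 15 1 2 15 15 15 9 15 102 98 15)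 (@D3.rec (fun _ => Nat) 1 16 16 0 97 0 1 16 0 0 100 1 1 0 1 0 1 107 1 11 102 1 103 1 83 1 16 16 16 16 16 8 100 81 16 83 16 0 1 16 77 1 4 1 2 101 27 2 0 106 0) (@D3.rec (fun _ => Nat) 1 16 1 11 16 16 0 1 107 0 101 1 93 0 1 105 1 12 16 86 83 80 82 84 86 10 10 0 10 10 0 10 0 1 56 1 59 103 11 1 2 103 15 2 1 1 1 58 103 101 99) (@D3.rec (fun _ => Nat) 99 104 2 25 2 3 3 0 1 103 0 1 16 16 16 16 0 72 16 16 54 16 16 0 16 16 0 1 4 9 72 30 30 51 16 16 0 1 16 0 1 4 107 15 101 16 16 60 2 15 2) (@D3.rec (fun _ => Nat) 15 15 16 18 18 18 2 16 16 17 109 107 16 0 27 27 0 27 27 83 100 79 81 27 27 81 1 0 87 27 27 0 1 55 102 55 55 53 53 27 0 1 73 102 55 55 27 27 94 27 27) (@D3.rec (fun _ => Nat) 0 27 0 1 54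 1 12 1 2 96 1 2 6 3 2 1 5 2 4 11 7 1 2 73 2 76 74 66 98 1 2 26 2 2 7 4 4 12 5 5 0 16 16 96 4 0 1 2 97 26 2) (@D3.rec (fun _ => Nat) 103 0 1 2 1 2 7 5 2 7 24 7 4 12 6 2 6 6 12 0 105 8 2 8 8 8 8 79 15 15 15 102 3 102 0 1 2 3 2 4 73 73 1 2 2 4 4 73 5 5 0) (@D3.rec (fun _ => Nat) 76 74 74 0 1 2 1 2 26 2 26 26 13 1 2 8 13 2 2 8 6 6 13 8 77 102 79 5 5 0 7 7 0 6 6 0 1 16 107 9 102 0 5 0 1 2 1 2 26 26 2) (@D3.rec (fun _ => Nat) 26 26 13 0 1 2 8 15 2 8 6 2 8 24 8 6 6 13 8 24 0 0 7 7 13 7 0 1 101 9 2 9 0 9 103 13 9 13 9 0 71 0 1 14 13 103 14 108 0 110 0) (@D3.rec (fun _ => Nat) 0 1 72 1 24 4 0 0 1 2 2 108 0 1 2 1 2 27 5 2 27 4 54 6 6 64 71 0 0 0 1 2 1 2 26 26 2 26 26 56 0 1 2 8 14 2 2 8 6 6 56) (@D3.rec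 (fun _ => Nat) 0 5 5 0 7 7 0 6 6 0 1 73 66 102 9 60 0 1 0 1 2 0 1 2 26 3 2 26 26 2 26 29 26 26 26 14 26 29 0 26 26 0 1 2 9 14 2 9 0 9 14) (@D3.rec (fun _ => Nat) 14 14 9 9 7 7 14 9 31 9 100 53 0 7 7 0 9 31 0 53 51 51 1 6 6 0 1 8 8 0 8 8 0 1 7 0 1 53 100 10 10 14 10 0 10 1 2 0 100 10 10) (@D3.rec (fun _ => Nat) 0 10 0 1 52 1 52 14 14 0 103 14 106 0 106 1 14 0 1 54 1 85 2 27 2 97 27 0 101 27 2 27 26 108 100 0 1 2 98 75 3 0 1 2 99 0 96 1 2 6 3) (@D3.rec (fun _ => Nat) 2 100 4 12 30 96 98 96 7 12 1 2 28 26 2 98 1 2 1 2 2 7 7 4 4 12 2 12 5 0 75 2 12 8 0 105 107 1 2 1 2 27 2 0 1 2 28 26 2 101 1) (@D3.rec (fun _ => Nat) 2 1 2 7 5 2 7 27 7 4 13 6 6 102 0 104 8 98 8 0 102 1 2 1 2 28 26 2 28 81 28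 26 26 13 29 2 2 27 8 6 13 8 27 8 27 27 0 5 5 0 0)
def lv_d_12 : D2 → D3 → Nat := @D2.rec (fun _ => D3 → Nat) (@D3.rec (fun _ => Nat) 98 6 0 1 0 9 0 1 100 27 2 27 2 27 97 97 27 87 89 83 1 2 101 27 84 84 2 26 14 27 26 27 26 104 26 82 1 78 78 103 0 0 1 2 2 75 4 0 0 1 2) (@D3.rec (fun _ => Nat) 28 26 2 103 0 1 2 1 2 7 5 2 7 7 4 13 6 6 13 0 108 98 8 2 8 13 8 0 0 0 1 2 1 2 28 26 2 28 80 28 26 26 13 0 1 2 8 14 2 2 8) (@D3.rec (fun _ => Nat) 8 6 6 13 8 99 8 97 97 0 5 5 0 13 7 7 0 6 0 1 75 106 14 2 9 0 9 14 13 13 9 0 9 0 1 14 13 101 111 103 107 102 114 102 16 108 86 1 0 102 1) (@D3.rec (fun _ => Nat) 2 2 0 1 2 1 2 27 2 27 27 14 14 0 0 1 2 1 2 28 26 2 28 81 28 26 14 0 1 2 8 14 2 8 6 2 8 27 8 6 6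 14 8 27 8 27 0 0 7 7 102) (@D3.rec (fun _ => Nat) 7 0 1 102 9 14 2 9 9 14 14 104 9 98 9 9 0 9 0 1 0 1 2 0 1 2 28 3 2 28 26 2 28 81 28 26 26 14 28 81 0 26 26 0 1 2 9 14 2 9 0) (@D3.rec (fun _ => Nat) 9 14 14 14 27 9 7 7 14 9 27 9 27 27 0 7 7 0 9 27 0 27 27 0 1 6 6 0 1 8 0 8 8 0 1 7 0 1 27 0 10 14 14 10 0 10 1 2 0 0 0) (@D3.rec (fun _ => Nat) 10 0 1 82 1 27 109 109 102 108 102 106 1 110 66 27 27 109 105 108 71 69 0 1 0 1 2 1 2 27 2 27 14 0 1 2 15 2 6 2 6 6 14 0 7 14 7 0 1 65 0) (@D3.rec (fun _ => Nat) 1 2 0 1 2 3 2 26 2 26 26 14 0 1 2 9 15 2 9 0 9 15 15 14 9 7 7 14 9 71 64 57 7 7 0 61 59 6 6 0 1 107 8 0 8 8 0 1 7 0 1) (@D3.rec (fun _ => Nat) 67 67 10 2 10 15 10 1 2 0 1 2 1 2 2 56 0 1 2 27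 15 2 27 2 27 15 0 0 1 2 0 1 2 3 2 26 2 26 26 56 0 1 2 9 15 2 9 0 9 15 15) (@D3.rec (fun _ => Nat) 15 27 9 7 7 15 9 27 27 54 7 0 52 0 1 8 8 0 0 1 27 10 105 2 0 10 15 30 0 10 1 2 30 0 1 2 14 3 2 1 2 14 5 2 14 0 14 4 4 15 14) (@D3.rec (fun _ => Nat) 100 14 26 26 15 14 59 57 55 26 26 0 53 27 27 0 26 26 0 1 10 15 2 10 0 10 15 15 15 10 0 10 1 2 2 0 15 15 0 10 27 10 27 27 0 8 8 0 10 27 27) (@D3.rec (fun _ => Nat) 0 27 27 0 1 8 8 0 1 50 27 27 0 1 27 27 0 1 4 7 0 1 5 9 9 0 1 9 0 1 27 0 1 27 27 11 0 11 108 108 11 0 11 1 2 0 107 101 11 1 2) (@D3.rec (fun _ => Nat) 0 14 2 0 1 1 11 0 1 52 1 27 15 103 54 2 1 54 1 103 103 2 61 102 15 2 100 103 15 104 15 2 15 0 15 4 16 15 15 32 0 15 1 2 15 32 9 15 1 54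 1) (@D3.rec (fun _ => Nat) 15 0 1 4 5 54 1 27 27 2 12 2 4 73 13 2 8 101 27 8 27 27 104 5 74 1 2 2 78 13 14 2 13 0 1 1 2 2 73 14 2 6 6 71 73 7 101 2 104 2 14) (@D3.rec (fun _ => Nat) 108 79 79 1 2 9 14 2 9 0 9 14 14 14 9 9 105 27 9 27 27 0 7 7 72 27 77 27 27 0 1 6 6 74 8 7 10 10 1 2 10 80 1 15 15 80 27 0 1 72 1) (@D3.rec (fun _ => Nat) 12 1 2 1 2 3 2 2 14 99 2 9 101 9 15 14 9 9 14 9 9 0 9 0 1 10 10 0 10 10 0 10 0 1 60 1 60 15 0 1 15 100 72 1 65 1 2 15 2 2 54) (@D3.rec (fun _ => Nat) 26 100 2 26 2 26 56 0 1 2 9 106 2 9 0 9 15 15 56 9 27 9 7 7 56 9 27 27 0 7 56 0 0 1 8 10 2 10 0 10 106 60 28 0 10 1 2 0 106 28 10) (@D3.rec (fun _ => Nat) 0 28 0 1 54 1 27 26 3 2 1 2 26 104 2 26 0 26 102 4 15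 26 26 15 31 26 107 110 0 65 109 60 31 0 60 1 72 63 55 10 15 2 10 0 10 106 15 15 10 0 10) (@D3.rec (fun _ => Nat) 1 2 2 0 15 15 0 10 27 10 27 27 0 8 55 27 10 27 27 0 27 27 0 1 8 8 72 27 52 27 27 0 1 27 27 0 1 60 7 55 9 11 101 11 1 2 0 101 11 1 2) (@D3.rec (fun _ => Nat) 0 26 2 0 1 11 0 1 54 1 27 101 99 56 108 1 102 2 2 7 13 82 0 28 13 13 27 0 74 1 28 14 2 14 0 103 1 28 0 9 29 103 9 0 9 16 0 16 0 1 6) (@D3.rec (fun _ => Nat) 74 0 103 0 1 0 1 16 106 1 2 2 14 1 2 8 16 2 2 8 14 0 82 9 14 82 0 82 0 1 28 108 2 28 14 28 0 80 16 2 0 9 16 16 14 14 27 27 0 7 72) (@D3.rec (fun _ => Nat) 9 27 0 0 1 1 2 0 62 1 88 1 27 28 105 2 28 15 28 0 1 2 15 2 103 9 15 15 15 0 9 0 1 2 110 0 63 1 85 1 16 28 0 28 106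 15 28 0 80 0 80) (@D3.rec (fun _ => Nat) 1 10 15 2 10 103 10 15 15 10 0 10 1 101 2 0 15 15 0 10 0 10 16 16 0 16 16 0 1 8 8 72 16 0 16 0 1 16 77 1 4 7 74 9 11 101 11 0 11 1 2) (@D3.rec (fun _ => Nat) 0 28 2 0 1 0 1 0 1 16 1 11 16 16 104 105 107 104 110 2 107 109 1 12 16 1 2 17 2 17 15 15 3 2 1 2 101 2 114 4 15 64 15 64 62 10 103 2 10 0 10) (@D3.rec (fun _ => Nat) 107 17 15 0 10 1 2 2 57 17 0 27 10 27 27 57 8 8 57 27 27 57 27 0 57 0 1 9 11 11 1 2 64 1 2 2 64 65 106 15 3 2 101 2 4 58 58 10 16 2 10) (@D3.rec (fun _ => Nat) 101 10 16 16 10 0 10 1 2 56 0 10 10 56 10 54 52 11 11 101 11 1 2 15 2 11 15 0 15 4 16 15 106 2 15 0 15 103 16 15 0 15 1 2 2 55 105 105 0 15 26) (@D3.rec (fun _ => Nat) 15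 26 55 57 15 26 26 53 26 26 0 18 18 57 51 0 26 26 0 1 18 57 105 11 16 16 16 101 11 1 101 2 0 101 105 0 101 11 1 2 2 0 2 9 2 3 3 0 1 16 16)
def lv_d_13 : D2 → D3 → Nat := @D2.rec (fun _ => D3 → Nat) (@D3.rec (fun _ => Nat) 0 1 16 11 16 16 100 16 0 1 9 9 57 16 16 52 16 16 0 1 16 16 0 1 4 9 57 51 16 16 0 1 16 0 1 4 57 10 2 1 15 101 102 98 16 16 16 61 16 106 0) (@D3.rec (fun _ => Nat) 110 6 100 16 0 16 1 2 0 59 16 16 1 2 16 1 2 9 2 16 10 102 98 17 1 1 11 17 17 1 1 1 1 105 104 17 17 17 81 84 1 4 2 0 28 0 1 1 12 17 17) (@D3.rec (fun _ => Nat) 17 1 107 1 101 95 1 105 106 86 84 11 0 1 104 103 1 56 1 61 2 16 101 106 58 58 107 99 99 0 3 26 3 26 0 4 0 1 4 104 1 5 17 17 0 1 17 53 17 0 1) (@D3.rec (fun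 _ => Nat) 17 0 1 4 5 32 53 17 0 1 27 1 99 16 16 106 16 0 19 17 0 109 0 1 28 104 1 28 80 28 104 72 1 28 85 1 104 53 55 53 53 102 1 71 53 57 28 94 28 0 1) (@D3.rec (fun _ => Nat) 54 1 71 27 2 5 2 25 7 4 12 6 0 2 73 76 76 2 27 13 13 102 5 5 0 6 0 1 1 2 27 2 101 97 27 13 1 2 8 14 2 6 2 8 25 8 6 6 13 8 25) (@D3.rec (fun _ => Nat) 8 25 79 0 7 7 7 0 1 9 9 9 9 81 16 86 1 2 2 4 73 0 14 2 73 5 5 0 6 1 76 76 1 2 105 2 2 27 27 14 27 27 0 14 2 98 9 14 14 14 14) (@D3.rec (fun _ => Nat) 106 7 7 0 80 77 77 79 6 6 0 1 8 8 0 1 7 0 1 81 0 1 2 0 1 2 27 3 2 27 27 2 27 27 27 14 0 0 1 2 9 15 2 9 0 9 15 15 14 25 9) (@D3.rec (fun _ => Nat) 7 7 14 9 25 25 0 7 0 0 0 1 1 8 8 0 0 1 25 10 14 0 10 1 2 0 100 0 0 1 70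 1 25 113 106 0 108 1 1 1 25 0 1 2 1 2 2 56 0 1 2) (@D3.rec (fun _ => Nat) 28 15 2 28 2 28 6 6 56 0 0 7 0 1 1 2 1 2 27 3 2 2 27 27 27 58 0 0 1 2 106 2 102 9 104 15 71 58 0 7 7 0 1 6 6 0 1 8 8 0 1) (@D3.rec (fun _ => Nat) 7 0 1 68 0 1 1 2 27 3 2 1 2 27 5 2 27 0 27 4 4 15 27 27 27 27 15 27 31 31 0 27 27 0 0 50 1 27 27 0 1 102 2 10 102 10 102 15 15 10 0) (@D3.rec (fun _ => Nat) 10 1 102 2 0 15 15 0 10 10 0 8 8 0 10 31 31 0 53 102 51 1 8 8 0 1 0 51 1 53 51 49 50 7 0 1 51 9 9 0 1 9 0 1 53 0 1 53 53 11 11) (@D3.rec (fun _ => Nat) 0 0 11 1 2 0 27 2 0 1 11 0 1 54 1 52 59 52 15 0 1 103 54 108 1 54 1 87 28 28 97 1 101 111 98 1 2 2 1 2 29 27 2 96 1 2 96 2 7 4 13) (@D3.rec (fun _ => Nat) 0 0 2 29 29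 27 27 13 2 2 13 8 0 5 0 0 1 0 1 105 2 2 28 28 14 1 2 29 2 29 103 29 27 14 2 2 8 6 6 14 8 28 0 0 7 100 1 102 108 0 1) (@D3.rec (fun _ => Nat) 2 2 29 27 14 29 83 0 27 0 30 14 14 28 0 0 9 28 0 28 0 1 6 0 1 1 1 28 1 82 1 28 28 28 97 97 85 28 101 105 78 0 1 2 1 2 2 14 0 1 2) (@D3.rec (fun _ => Nat) 1 2 29 27 2 29 27 14 0 1 2 8 16 2 2 8 6 6 14 8 0 0 7 0 1 103 9 14 0 1 1 2 1 2 29 3 2 2 29 29 27 27 14 29 82 0 27 27 0 1 2) (@D3.rec (fun _ => Nat) 16 2 9 0 9 16 16 14 14 9 0 7 7 0 9 83 0 101 84 101 1 6 0 1 8 0 1 0 1 89 16 14 10 1 2 0 62 0 1 1 84 103 107 107 110 1 2 100 2 78 1) (@D3.rec (fun _ => Nat) 2 28 15 2 2 28 28 15 28 0 0 1 2 1 2 29 3 2 29 2 29 103 29 27 27 15 29 83 0 0 1 2 9 15 2 9 103 9 15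 15 15 9 7 7 15 9 9 28 28 0 7) (@D3.rec (fun _ => Nat) 0 9 28 0 0 1 1 104 8 104 0 1 28 105 10 15 98 10 0 58 104 98 10 0 1 82 1 28 1 2 29 3 2 1 2 29 5 2 29 0 29 4 4 15 29 27 27 15 29 83 83) (@D3.rec (fun _ => Nat) 0 27 27 0 0 0 1 27 0 1 15 2 0 10 15 15 15 10 0 10 1 2 2 0 15 15 0 28 28 0 8 0 10 28 28 0 28 28 0 1 8 8 0 1 80 0 1 28 0 1 4) (@D3.rec (fun _ => Nat) 7 0 1 5 0 1 9 0 1 28 1 28 28 1 2 0 107 0 11 1 2 0 29 2 0 1 1 1 82 1 28 104 109 109 66 99 73 1 1 2 28 17 2 28 2 28 15 0 1 2 17) (@D3.rec (fun _ => Nat) 2 17 17 15 7 15 7 0 1 0 0 1 1 2 108 3 2 1 2 5 2 4 4 15 27 27 15 27 0 1 10 17 2 113 10 107 17 15 100 10 1 100 2 59 17 17 0 59 8 0 69) (@D3.rec (fun _ => Nat) 64 59 8 8 0 1 7 0 1 61 100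 0 1 9 0 1 108 0 1 11 2 1 2 106 2 2 58 1 2 28 16 2 0 28 16 16 28 16 0 1 1 2 15 3 2 1 2 5 2 4 4) (@D3.rec (fun _ => Nat) 58 27 27 58 27 0 1 10 16 2 0 10 16 16 16 0 10 1 2 2 54 16 0 28 28 54 8 8 0 52 28 0 0 1 1 5 9 0 1 1 28 103 11 109 1 2 0 32 1 2 15) (@D3.rec (fun _ => Nat) 2 1 2 15 5 2 15 0 15 4 4 16 100 6 2 15 102 15 6 6 16 0 15 1 2 2 55 5 5 0 15 106 59 55 27 27 0 53 27 59 0 27 27 0 1 27 27 52 1 27 0) (@D3.rec (fun _ => Nat) 1 59 11 0 11 16 16 16 11 0 11 1 2 2 0 104 16 0 101 11 1 2 2 0 2 9 2 3 3 0 1 16 16 0 1 11 28 28 0 28 28 0 1 9 9 0 1 50 28 28 0) (@D3.rec (fun _ => Nat) 1 28 28 0 1 4 9 0 1 5 28 28 51 1 28 0 1 5 4 0 1 55 55 10 0 1 28 0 1 28 16 28 1 28 28 12 1 2 0 12 1 15 2 1 101 52 2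 1 15 0 1) (@D3.rec (fun _ => Nat) 4 5 52 1 28 30 103 16 16 63 16 16 16 110 16 110 16 1 2 0 62 16 32 1 2 9 2 10 16 105 104 0 1 5 4 5 13 73 73 105 106 28 104 28 0 74 105 2 14 76 16)
def lv_d_14 : D2 → D3 → Nat := @D2.rec (fun _ => D3 → Nat) (@D3.rec (fun _ => Nat) 14 1 15 2 71 15 15 71 7 71 104 15 80 76 15 2 104 10 15 99 104 10 1 2 2 100 15 15 0 10 105 28 28 77 28 28 0 1 8 72 0 28 0 1 7 74 2 64 1 27 3) (@D3.rec (fun _ => Nat) 2 99 2 4 15 15 99 15 10 103 10 103 0 0 10 10 0 10 0 1 73 1 11 0 1 11 0 1 60 1 60 67 1 108 106 2 16 71 56 0 27 100 58 27 58 0 1 10 107 2 10) (@D3.rec (fun _ => Nat) 0 10 111 106 71 0 10 1 2 2 0 16 0 10 28 28 0 8 58 0 28 0 1 58 1 1 58 11 11 107 11 1 2 0 105 28 1 2 0 2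 0 1 28 0 1 54 1 28 28 27 0) (@D3.rec (fun _ => Nat) 27 4 16 27 104 2 27 0 27 104 16 0 27 1 2 2 0 105 102 0 27 0 105 31 0 109 60 1 63 60 51 1 63 57 104 11 111 16 101 107 11 1 2 2 0 105 0 107 11 1 2) (@D3.rec (fun _ => Nat) 2 0 2 9 2 3 3 0 1 106 16 0 1 28 11 28 28 0 28 0 1 72 28 28 52 28 28 0 1 28 28 0 1 60 9 72 0 28 28 49 1 28 0 1 57 0 0 27 2 0 1) (@D3.rec (fun _ => Nat) 54 27 2 0 1 27 0 1 4 57 1 28 28 14 14 0 0 1 0 0 1 28 0 99 1 17 0 1 0 0 0 1 0 102 1 105 1 103 1 1 1 17 17 106 2 15 16 2 60 9 16) (@D3.rec (fun _ => Nat) 15 15 0 1 84 0 0 1 1 28 0 29 107 15 0 0 1 16 15 1 2 2 0 16 0 28 0 1 72 88 0 1 1 4 29 2 0 1 28 28 0 29 105 16 0 0 1 16 2 16 16) (@D3.rec (fun _ => Nat) 103 0 0 1 80 1 83 109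 1 17 114 29 1 2 0 0 0 1 84 1 80 105 11 16 16 108 103 11 105 0 0 103 11 1 101 2 0 9 2 107 101 0 1 16 16 0 1 0 1 0 17) (@D3.rec (fun _ => Nat) 103 1 17 0 1 103 9 72 82 1 105 1 83 87 107 4 81 0 0 1 0 2 0 1 29 0 1 4 1 1 12 17 17 17 107 109 103 2 17 16 0 4 16 107 2 105 16 105 0 107 62) (@D3.rec (fun _ => Nat) 111 11 109 103 16 107 11 1 2 2 59 107 107 0 1 2 2 59 2 2 3 0 0 1 28 28 59 28 0 9 59 28 0 0 1 1 2 2 62 59 16 4 61 101 60 0 104 11 113 17 17) (@D3.rec (fun _ => Nat) 103 11 103 56 0 103 11 1 2 54 57 2 0 1 11 54 52 2 16 61 16 0 16 1 2 0 0 102 16 106 112 17 103 16 1 2 55 0 103 16 1 2 2 53 2 9 2 3 3 0 105) (@D3.rec (fun _ => Nat) 105 0 1 16 27 100 0 51 27 0 27 27 0 1 19 59 1 27 0 1 59 106 105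 104 105 17 0 103 103 102 2 103 0 1 106 107 0 1 105 103 52 2 2 3 3 0 1 3 10 3 10) (@D3.rec (fun _ => Nat) 0 103 4 0 1 4 17 0 1 5 17 105 102 17 0 0 1 4 10 72 17 51 17 0 1 17 0 1 4 5 72 17 0 1 60 0 1 101 104 100 0 106 112 1 2 110 64 17 1 2 0) (@D3.rec (fun _ => Nat) 29 2 0 1 2 27 2 10 62 100 18 0 1 0 1 18 18 113 95 106 104 1 103 63 61 101 101 104 60 101 0 1 27 4 27 0 0 1 0 1 5 4 5 6 6 1 53 0 1 28 1) (@D3.rec (fun _ => Nat) 9 5 53 1 0 0 1 1 1 112 108 55 55 55 96 107 1 65 28 13 6 13 26 107 0 1 75 106 0 6 0 1 1 83 106 2 28 28 14 0 16 2 103 9 16 16 14 7 7 14 9) (@D3.rec (fun _ => Nat) 26 9 26 26 104 7 0 9 26 81 81 1 8 0 1 26 10 88 15 2 75 0 1 15 73 6 82 1 105 2 109 106 15 106 28 28 0 28 0 1 15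 15 100 98 15 15 0 8 8 0 1) (@D3.rec (fun _ => Nat) 79 79 7 0 1 81 9 0 1 83 1 83 1 2 28 3 2 1 2 28 5 2 0 28 4 4 15 28 28 28 15 0 28 0 1 1 103 2 103 10 17 17 15 0 10 1 2 2 0 17 0) (@D3.rec (fun _ => Nat) 26 26 0 8 8 0 0 26 0 1 0 1 1 1 4 5 9 0 1 1 26 26 0 1 2 0 28 2 0 1 1 1 26 108 1 1 2 110 2 2 56 1 2 29 100 2 0 29 102 16 73) (@D3.rec (fun _ => Nat) 29 56 0 7 0 1 1 0 1 3 2 107 2 0 28 4 4 58 58 0 28 0 1 1 102 2 100 58 102 0 104 104 0 1 8 8 0 1 7 0 1 9 0 1 0 1 1 28 5 2 28) (@D3.rec (fun _ => Nat) 0 28 4 4 16 106 2 28 0 28 6 6 16 0 28 1 2 2 0 107 5 0 28 0 28 28 0 0 31 52 1 28 28 0 1 1 50 28 0 1 52 106 104 16 11 102 11 102 0 104 104) (@D3.rec (fun _ => Nat) 0 0 11 1 102 2 0 9 2 103 102 0 1 16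 16 0 1 11 0 1 9 9 0 1 0 33 53 1 104 53 53 52 9 0 1 53 1 59 53 51 52 0 1 53 10 0 1 56 0 1 55) (@D3.rec (fun _ => Nat) 16 55 1 53 12 0 1 1 2 54 28 2 0 1 28 0 1 4 54 1 102 61 54 54 56 1 108 2 14 2 30 28 14 2 14 0 0 1 1 14 30 0 28 0 14 14 0 1 0 1 1) (@D3.rec (fun _ => Nat) 106 1 101 98 15 29 0 2 30 15 30 101 0 0 15 100 106 7 104 0 0 1 1 102 29 1 29 101 106 0 0 0 0 1 0 1 0 0 1 1 82 0 1 0 1 4 102 1 5 29 29) (@D3.rec (fun _ => Nat) 99 1 2 16 2 2 15 1 2 30 106 2 2 30 28 28 15 0 0 1 2 16 2 108 9 16 16 15 15 0 7 0 82 1 1 0 1 0 1 30 3 2 104 2 30 0 30 4 4 15 15) (@D3.rec (fun _ => Nat) 30 0 28 28 0 0 105 1 28 0 1 16 2 16 15 108 10 1 2 0 16 16 0 0 1 8 0 1 86 88 1 99 87 79 0 1 87 0 1 99 1 0 2 0 1 1 105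 108 102 2 80) (@D3.rec (fun _ => Nat) 16 2 29 0 29 16 16 16 29 0 80 1 1 2 30 3 2 30 5 2 30 0 30 4 4 16 30 16 30 106 105 0 28 0 0 82 1 1 16 2 105 10 16 16 16 103 105 10 105 105 0) (@D3.rec (fun _ => Nat) 16 0 102 8 106 10 0 29 0 1 0 1 82 88 1 1 4 5 104 106 1 29 107 100 65 0 1 84 1 29 29 29 30 5 2 30 0 30 4 4 16 106 2 0 30 6 6 16 0 30 1)
def lv_d_15 : D2 → D3 → Nat := @D2.rec (fun _ => D3 → Nat) (@D3.rec (fun _ => Nat) 99 2 0 110 5 0 0 28 0 0 83 0 1 28 0 1 1 1 83 0 1 93 16 16 16 1 2 2 0 16 0 0 11 1 2 2 0 2 9 2 101 3 0 1 16 16 0 1 29 0 1) (@D3.rec (fun _ => Nat) 0 1 82 29 0 1 29 0 1 4 9 0 1 5 1 4 0 1 5 4 83 102 1 1 1 29 16 29 29 30 2 0 1 1 2 84 30 2 0 1 30 0 1 4 5 31 111 66 17 2 105) (@D3.rec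 (fun _ => Nat) 29 17 16 29 16 0 1 17 2 17 16 17 0 0 0 1 1 1 5 2 61 101 4 4 16 109 2 6 6 16 5 0 28 0 0 1 109 11 113 17 16 108 59 100 0 102 63 2 109 0 102) (@D3.rec (fun _ => Nat) 17 0 1 0 1 61 9 0 1 61 0 1 0 1 0 1 111 17 1 62 110 2 109 58 58 105 2 112 29 17 17 1 2 0 0 0 1 5 2 108 16 4 4 63 106 2 6 6 58 5 0) (@D3.rec (fun _ => Nat) 28 28 0 0 1 59 103 11 102 17 17 1 2 2 56 17 17 0 1 2 54 2 102 2 3 0 0 1 29 29 0 9 0 1 0 1 1 5 5 0 1 29 29 17 107 2 1 2 29 2 16) (@D3.rec (fun _ => Nat) 63 6 2 16 108 16 6 6 17 16 0 16 1 2 2 0 5 5 0 102 102 108 7 17 102 16 106 102 57 7 7 0 1 2 55 2 9 2 109 3 0 109 6 0 1 55 107 59 0 28 28) (@D3.rec (fun _ => Nat) 0 1 109 29 0 1 28 0 1 59 29 54 0 1 54 56 104 12 1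 104 2 0 109 17 0 103 12 1 2 2 0 2 102 2 3 3 0 1 106 106 0 1 103 52 2 2 3 3 0 1 3) (@D3.rec (fun _ => Nat) 10 3 10 0 4 4 0 1 4 17 0 1 5 52 29 0 1 29 29 0 1 4 10 0 1 5 29 29 0 1 29 0 1 5 4 5 0 1 6 7 55 29 53 0 1 59 1 57 60 0 1) (@D3.rec (fun _ => Nat) 29 17 29 1 29 17 29 0 29 29 2 1 16 105 102 103 106 0 1 5 4 5 0 17 0 17 109 0 2 103 1 2 10 62 1 30 58 60 5 0 0 1 107 15 0 16 73 16 0 73 0) (@D3.rec (fun _ => Nat) 78 16 101 106 110 0 108 104 109 2 2 112 3 0 16 0 1 104 29 0 29 0 1 74 1 0 1 104 102 64 28 4 16 101 16 0 0 107 11 103 0 0 1 1 11 0 1 62 1 62 1) (@D3.rec (fun _ => Nat) 110 64 1 62 62 108 73 0 1 2 0 0 0 1 11 102 11 109 109 73 106 11 1 2 2 0 106 0 1 2 0 2 2 3 0 1 0 1 0 29 0 1 58 1 0 1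 58 58 12 0 0) (@D3.rec (fun _ => Nat) 2 0 1 56 2 0 1 0 1 4 57 1 29 29 29 28 78 28 1 2 0 0 0 28 106 109 0 28 1 2 0 0 1 101 2 0 2 9 2 3 0 1 105 0 1 0 1 113 53 1 62) (@D3.rec (fun _ => Nat) 57 57 104 104 0 105 0 107 109 0 2 10 2 3 0 1 0 1 107 109 54 2 101 2 107 3 0 1 3 80 3 10 0 115 4 0 1 4 107 0 1 5 29 29 55 29 0 1 0 1 60) (@D3.rec (fun _ => Nat) 29 0 29 0 1 29 0 1 60 74 1 29 51 0 1 1 1 28 0 1 4 28 0 1 4 0 1 4 5 29 1 1 29 1 1 4 29 1 101 1 82 1 1 1 1 101 83 108 16 18 16) (@D3.rec (fun _ => Nat) 60 0 0 1 81 0 1 1 29 1 2 0 0 1 1 82 0 2 9 2 3 0 1 0 1 0 1 4 1 4 83 30 0 1 4 29 29 1 2 0 0 1 1 17 108 0 0 1 1 101 105) (@D3.rec (fun _ => Nat) 18 101 0 9 2 0 1 1 1 82 87 105 0 17 0 103 0 0 1 1 103 0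 2 101 0 1 10 0 101 0 1 4 17 0 1 5 1 1 109 83 101 107 1 103 83 1 1 105 1 0 1) (@D3.rec (fun _ => Nat) 4 0 1 4 103 18 18 113 103 17 0 1 0 110 17 0 0 1 113 111 59 111 105 0 107 107 59 2 2 3 0 111 0 1 2 2 3 0 3 0 0 1 1 5 29 0 0 1 109 0 1) (@D3.rec (fun _ => Nat) 1 64 110 61 0 0 0 1 103 58 103 0 103 56 0 1 103 54 2 0 59 0 1 5 100 61 63 114 17 1 2 0 112 2 0 1 1 104 104 64 106 0 103 100 2 0 1 104 53 103 2) (@D3.rec (fun _ => Nat) 2 3 0 3 10 3 10 0 111 4 0 1 107 0 1 5 100 0 1 0 1 28 0 1 59 53 0 1 111 0 110 0 1 103 0 0 0 1 4 106 0 1 5 103 0 3 3 4 0 1 10) (@D3.rec (fun _ => Nat) 4 11 0 0 1 103 0 1 5 4 5 0 1 6 6 105 53 0 1 1 4 5 74 53 0 1 60 0 1 9 5 0 1 1 100 1 112 114 2 0 0 2 0 1 30 0 1 4 64 28 62)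 (@D3.rec (fun _ => Nat) 64 1 1 106 63 0 1 28 0 0 1 1 1 6 8 6 29 5 108 1 29 9 9 9 1 1 28 55 0 100 81 1 27 1 102 1 81 101 110 108 15 29 0 1 16 16 15 105 103 109 16) (@D3.rec (fun _ => Nat) 0 8 100 10 27 27 105 27 81 0 1 83 88 81 1 27 16 73 1 0 84 107 106 109 0 29 0 1 0 1 0 0 16 16 0 1 9 0 1 81 79 102 1 81 1 85 16 83 5 2 29) (@D3.rec (fun _ => Nat) 0 29 4 4 16 107 2 0 29 6 6 16 1 2 0 5 0 0 29 29 0 1 0 1 59 61 105 16 105 105 0 100 17 0 1 2 0 2 9 2 3 0 1 0 1 27 0 1 9 0 1) (@D3.rec (fun _ => Nat) 1 0 1 4 1 5 5 4 54 0 1 27 27 17 27 1 29 2 0 1 29 0 1 4 27 27 110 2 109 58 58 30 108 2 108 30 100 73 1 2 0 104 0 0 1 0 1 1 4 4 108) (@D3.rec (fun _ => Nat) 112 60 1 2 0 5 0 1 0 1 100 102 73 0 0 1 104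 106 0 1 9 0 1 0 1 0 1 106 1 109 29 0 29 6 6 17 29 78 29 1 83 2 0 5 0 110 106 17 105 29 1) (@D3.rec (fun _ => Nat) 2 0 7 7 0 1 2 0 2 9 2 3 0 1 109 106 0 1 0 1 29 0 1 1 52 50 29 0 1 52 0 1 104 106 0 106 12 104 0 0 1 104 104 0 1 1 2 0 112 2 104) (@D3.rec (fun _ => Nat) 0 1 10 0 102 104 0 1 4 17 0 1 5 0 1 52 10 0 1 56 1 53 59 108 51 52 0 1 53 7 53 51 52 1 0 1 102 104 58 1 55 17 55 0 55 56 1 109 2 0 29)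
def lv_d_16 : D2 → D3 → Nat := @D2.rec (fun _ => D3 → Nat) (@D3.rec (fun _ => Nat) 0 1 4 0 1 4 5 61 105 61 113 15 15 0 0 15 1 1 0 1 0 1 1 103 1 107 84 1 104 106 0 82 1 1 104 1 1 4 5 30 30 1 1 1 1 83 1 95 1 1 1) (@D3.rec (fun _ => Nat) 4 1 5 4 83 18 2 18 16 16 106 2 101 31 112 110 16 16 0 29 0 1 1 18 2 18 16 99 0 18 0 1 0 1 1 1 0 31 4 4 16 106 16 103 31 1 2 0 114 5 0) (@D3.rec (fun _ => Nat) 0 1 29 0 1 1 81 0 1 89 18 16 0 105 0 2 0 1 18 0 1 1 105 0 1 105 84 1 1 99 18 1 0 1 4 105 104 107 17 17 0 30 1 2 0 0 84 1 5 2 0) (@D3.rec (fun _ => Nat) 31 4 4 110 110 31 6 17 109 31 1 105 2 0 5 0 106 0 106 82 1 0 1 1 82 82 17 17 105 106 17 17 0 105 105 0 105 0 1 0 1 106 82 1 0 1 4 1 5 82 85) (@D3.rec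 (fun _ => Nat) 5 4 106 30 17 1 105 30 30 32 0 31 6 6 109 85 31 1 89 2 0 5 0 107 110 1 2 0 7 0 1 2 0 9 2 101 0 1 106 0 1 1 0 1 1 0 1 83 0 1 95) (@D3.rec (fun _ => Nat) 80 1 17 0 2 10 2 3 0 1 0 1 1 2 84 2 82 2 3 0 1 114 3 10 0 101 0 1 4 17 0 1 5 0 1 1 0 1 4 0 1 5 4 5 104 1 6 7 95 4 1) (@D3.rec (fun _ => Nat) 17 30 17 30 0 31 0 1 4 2 0 31 0 1 4 0 1 5 4 5 19 17 112 0 0 0 1 19 17 0 0 1 1 1 19 6 6 17 59 0 5 0 113 111 17 7 0 0 1 0 1) (@D3.rec (fun _ => Nat) 1 108 109 102 0 0 0 1 0 0 0 1 104 0 1 5 1 0 1 61 7 1 1 100 1 19 0 112 60 0 103 111 112 0 0 2 0 1 1 1 6 6 63 106 108 0 5 0 108 108 60) (@D3.rec (fun _ => Nat) 107 7 0 0 1 29 0 1 1 59 105 103 63 104 0 2 2 107 3 0 18 0 1 81 2 0 77 3 104 0 0 1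 1 5 30 0 1 0 1 5 1 5 6 7 1 30 106 0 63 2 30) (@D3.rec (fun _ => Nat) 61 63 7 107 109 17 106 108 0 7 7 0 107 17 1 106 2 0 2 16 2 108 3 0 1 6 0 1 102 57 102 110 0 104 55 102 104 0 106 8 0 1 2 0 10 3 10 0 109 0 1) (@D3.rec (fun _ => Nat) 105 0 1 5 111 0 1 29 0 1 61 108 54 1 0 1 61 7 56 57 1 56 103 104 2 102 104 0 1 109 0 1 103 52 2 2 3 0 1 3 106 3 105 0 106 4 0 1 4 106 0) (@D3.rec (fun _ => Nat) 1 5 0 3 3 0 4 0 1 4 4 79 4 11 0 0 1 5 0 1 5 4 5 0 1 6 8 6 0 1 30 0 1 5 4 0 1 6 9 57 30 53 1 0 1 6 9 5 1 57 9) (@D3.rec (fun _ => Nat) 57 0 60 53 1 59 57 1 30 106 30 0 30 30 104 0 30 0 1 104 1 16 12 60 5 1 114 1 0 106 1 101 104 60 62 33 58 99 65 1 1 0 1 0 0 1 1 0 0 1 104) (@D3.rec (fun _ => Nat) 0 3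 0 104 0 1 0 1 5 0 1 0 1 1 64 0 0 0 1 1 105 60 0 1 1 4 5 60 1 108 107 64 0 1 2 0 1 1 1 113 12 104 0 108 0 112 0 2 2 3 0) (@D3.rec (fun _ => Nat) 1 0 1 2 0 1 3 0 0 1 4 1 5 1 0 1 60 60 1 60 0 1 1 0 1 4 0 1 4 1 4 5 30 30 30 29 78 0 2 0 1 1 1 2 0 0 1 2 0 10 2) (@D3.rec (fun _ => Nat) 0 1 1 2 103 0 1 3 10 0 0 1 4 0 1 5 1 53 106 0 1 0 1 107 0 1 111 3 11 0 0 1 4 1 5 107 0 3 103 0 107 0 1 4 4 82 0 0 1 107 0) (@D3.rec (fun _ => Nat) 1 5 4 5 0 1 6 6 30 0 0 1 1 62 0 1 51 1 0 1 9 51 1 106 103 0 1 4 5 0 1 4 1 12 5 30 81 82 4 83 0 0 0 1 1 81 1 101 30 9 2) (@D3.rec (fun _ => Nat) 0 1 1 82 1 103 3 10 0 0 1 4 1 5 1 4 5 83 0 1 4 5 30 2 0 1 1 0 1 1 4 5 101 107 0 1 10 0 1 4 5 82 85 0 1 0 1 0 1 1 4) (@D3.rec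 (fun _ => Nat) 5 0 1 0 0 1 4 0 1 0 1 5 4 5 102 1 6 6 103 85 107 105 105 1 4 108 1 12 105 105 0 1 58 1 0 1 1 57 113 0 111 0 1 109 0 3 0 0 1 0 1) (@D3.rec (fun _ => Nat) 5 3 0 0 1 0 1 1 5 6 6 0 1 1 1 9 0 1 1 1 57 0 0 1 0 1 5 0 0 1 0 1 5 6 109 0 2 0 1 112 0 1 4 5 106 0 0 1 0 0 1) (@D3.rec (fun _ => Nat) 5 0 103 3 0 0 1 10 4 11 0 0 1 107 0 1 5 0 1 6 6 1 1 60 0 1 9 1 0 1 0 1 5 0 1 1 1 5 4 5 0 1 6 6 0 1 4 0 1 17 11) (@D3.rec (fun _ => Nat) 0 0 1 1 17 0 1 6 8 6 58 5 1 7 7 7 53 1 60 10 5 6 1 60 9 1 9 9 1 61 112 0 1 1 0 1 29 4 0 1 4 0 1 10 0 1 1 18 10 107 10) (@D3.rec (fun _ => Nat) 30 11 62 112 1 83 105 109 0 0 1 18 0 107 0 0 1 102 85 28 83 86 1 83 28 18 0 1 0 0 1 0 1 1 1 1 17 0 1 5 102 1 83 7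 83 17 107 0 6 6 17) (@D3.rec (fun _ => Nat) 88 30 1 86 2 0 5 0 111 17 1 2 0 104 7 0 9 2 0 1 0 1 1 30 0 1 59 1 61 0 105 0 1 100 0 1 84 2 0 1 79 3 10 0 0 1 4 1 5 0 1) (@D3.rec (fun _ => Nat) 4 0 1 5 1 5 4 5 6 7 61 1 28 106 28 0 105 30 0 1 4 0 1 4 5 28 110 106 0 102 31 100 105 108 112 0 0 2 0 1 0 1 1 1 104 5 0 0 2 0 1) (@D3.rec (fun _ => Nat) 0 1 1 102 0 1 1 4 106 0 1 5 0 1 7 1 1 106 112 30 1 100 2 0 7 7 0 80 30 80 0 2 80 0 1 0 1 105 105 0 105 0 2 0 1 8 0 1 2 0 1) (@D3.rec (fun _ => Nat) 3 10 0 0 1 4 104 0 1 5 1 52 0 1 54 52 0 1 54 7 1 109 106 0 1 104 0 0 1 1 4 106 0 1 5 2 0 1 105 0 0 1 4 0 1 104 0 1 5 4 5)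
def lv_d_17 : D2 → D3 → Nat := @D2.rec (fun _ => D3 → Nat) (@D3.rec (fun _ => Nat) 0 1 6 8 6 1 63 54 0 1 102 9 56 63 53 54 1 9 55 0 1 106 105 103 55 109 0 0 1 109 106 107 1 0 1 4 108 1 12 5 6 113 1 1 1 83 1 107 1 84 82) (@D3.rec (fun _ => Nat) 84 94 5 4 80 4 18 17 0 103 17 101 0 112 0 1 0 1 18 17 0 0 1 0 1 1 18 101 1 83 2 0 5 0 0 103 0 2 0 1 104 0 1 1 83 0 1 107 1 0 1) (@D3.rec (fun _ => Nat) 0 1 0 1 4 0 1 5 107 1 107 7 18 107 105 1 4 107 0 0 1 2 85 2 0 1 1 6 110 1 107 2 0 5 0 108 102 0 105 0 2 107 0 1 0 1 1 86 96 1 84) (@D3.rec (fun _ => Nat) 0 0 18 0 1 84 0 1 0 1 4 1 5 84 94 1 5 4 5 6 7 0 31 107 108 31 1 108 2 0 7 0 87 0 16 2 89 0 1 0 1 0 10 2 0 1 0 1 2 0 1) (@D3.rec (fun _ => Nat) 10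 0 0 1 4 0 1 5 1 82 1 86 1 95 7 0 1 108 3 11 0 0 1 4 1 5 2 0 3 85 0 0 1 4 111 0 0 1 0 1 5 4 5 0 1 6 8 6 1 9 1) (@D3.rec (fun _ => Nat) 4 5 1 6 9 5 88 9 0 0 0 1 0 1 4 0 1 0 1 4 1 16 12 60 5 0 0 1 1 1 0 1 1 58 7 7 0 0 1 0 1 111 0 0 1 1 59 1 7 0 0) (@D3.rec (fun _ => Nat) 1 1 1 5 1 1 1 5 0 1 6 8 6 9 1 9 0 102 104 1 0 1 0 0 1 1 0 1 4 5 7 0 108 0 1 0 1 108 0 109 0 1 1 59 0 1 60 59 7 108 0) (@D3.rec (fun _ => Nat) 0 1 3 0 109 0 1 0 1 5 81 0 1 79 0 0 1 1 5 6 8 6 0 1 5 1 6 9 6 9 0 31 108 115 1 103 0 0 110 112 108 0 1 8 0 1 112 0 2 108 0) (@D3.rec (fun _ => Nat) 1 3 17 0 111 0 1 4 0 1 5 0 104 0 1 0 102 0 1 110 0 1 5 0 1 11 0 0 1 0 1 5 0 1 6 8 6 0 1 0 1 61 9 58 58 9 1 56 9 58 0) (@D3.rec (fun _ =>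 Nat) 56 0 0 102 0 1 4 0 1 5 0 3 0 1 4 108 0 0 1 108 0 1 5 4 0 1 6 9 6 1 4 0 1 0 1 17 4 5 81 0 0 1 1 17 12 0 1 6 8 6 58) (@D3.rec (fun _ => Nat) 5 1 7 8 7 0 7 1 0 1 6 10 1 7 10 57 0 62 55 9 1 9 0 9 59 9 0 62 0 1 61 61 31 104 31 0 109 31 0 1 0 1 0 1 11 17 13 0 13 63 102) (@D3.rec (fun _ => Nat) 1 30 104 106 101 1 105 1 1 81 80 1 1 5 0 1 0 1 0 1 5 1 6 6 1 1 9 0 1 1 1 62 103 0 1 4 5 4 6 113 1 62 0 1 4 5 108 0 0 1 0) (@D3.rec (fun _ => Nat) 1 0 1 3 0 0 1 4 1 5 0 1 4 0 1 1 5 4 5 6 6 60 1 61 60 9 1 106 113 1 4 5 1 31 4 5 12 5 31 31 105 0 1 0 1 4 5 2 0 1 1) (@D3.rec (fun _ => Nat) 2 0 1 11 0 1 4 5 0 0 1 4 0 0 1 1 5 4 1 6 6 0 1 4 1 5 0 1 4 113 0 0 1 1 5 4 5 6 6 0 1 0 0 1 0 1 17 4 0 0 1) (@D3.rec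 (fun _ => Nat) 1 17 12 0 1 6 8 6 17 5 1 7 7 7 0 1 1 10 62 1 9 1 9 108 1 13 5 6 1 13 13 13 1 1 1 4 5 83 107 103 10 0 1 4 5 85 105 103 0 0 1) (@D3.rec (fun _ => Nat) 1 5 4 5 6 6 9 5 85 1 12 5 108 0 1 4 5 1 105 5 4 5 6 1 4 0 1 5 4 5 6 84 1 4 1 5 1 4 5 4 6 1 4 1 1 18 4 5 1 17 12) (@D3.rec (fun _ => Nat) 1 6 103 6 17 5 6 7 7 7 13 13 0 1 60 60 105 1 59 59 59 0 1 0 1 5 0 1 0 1 1 5 1 6 6 0 1 1 18 1 19 6 8 6 7 7 1 10 9 1 4) (@D3.rec (fun _ => Nat) 5 62 59 1 1 5 1 5 6 1 1 64 1 103 6 7 0 1 0 1 18 4 0 1 5 4 6 0 1 1 5 1 1 5 6 1 0 0 1 1 18 11 0 0 1 1 7 0 1 6 8) (@D3.rec (fun _ => Nat) 6 1 7 7 7 109 55 9 1 9 1 5 1 6 33 6 1 18 107 6 10 6 61 5 6 1 107 7 7 1 18 1 18 10 18 0 1 1 103 18 22 18 1 7 10 7 59 10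 7 60 60) (@D3.rec (fun _ => Nat) 8 8 8 62 11 11 6 11 62 11 1 112 1 4 94 1 18 1 10 1 19 19 63 112 0 1 1 0 1 0 1 1 5 83 84 7 0 1 79 1 1 82 1 7 106 5 0 1 106 8 6) (@D3.rec (fun _ => Nat) 9 85 0 107 1 7 0 90 0 2 86 0 1 0 1 0 2 0 1 110 0 1 10 0 1 4 1 5 61 0 1 61 61 61 7 1 0 1 4 0 1 5 81 0 1 4 79 0 0 1 1) (@D3.rec (fun _ => Nat) 5 4 5 6 8 6 1 5 4 5 1 6 9 6 9 5 56 0 29 108 107 0 1 109 0 1 4 1 12 5 29 0 1 104 0 102 0 0 1 1 0 1 4 1 5 7 0 1 1 0 1) (@D3.rec (fun _ => Nat) 4 1 5 7 0 1 104 5 4 0 1 108 8 6 1 9 106 110 0 2 100 0 1 8 0 1 80 0 0 1 0 0 1 4 1 5 109 0 1 0 1 0 1 4 0 1 5 0 1 4 0) (@D3.rec (fun _ => Nat) 0 1 1 5 4 5 0 1 6 8 6 104 1 54 9 1 9 0 106 0 1 106 0 1 1 4 5 4 5 0 1 102 9 6 0 1 4 0 1 1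 17 4 5 1 102 12 0 1 6 6 17) (@D3.rec (fun _ => Nat) 5 6 1 7 8 7 0 7 106 113 1 10 59 0 9 0 1 106 107 105 107 1 1 11 1 13 13 13 6 0 1 0 0 1 0 1 1 0 1 1 4 1 5 7 2 84 0 1 0 1 1) (@D3.rec (fun _ => Nat) 0 1 0 1 4 0 1 5 85 1 101 7 1 111 1 4 1 5 4 5 1 104 8 6 9 0 12 1 1 2 0 0 1 4 5 0 2 107 0 1 0 1 0 1 0 1 0 0 1 4 1) (@D3.rec (fun _ => Nat) 5 87 84 7 1 1 0 1 5 1 86 4 1 5 4 5 6 8 6 96 6 9 5 0 1 109 108 2 108 0 1 0 1 0 1 17 0 0 1 4 1 5 1 11 0 1 4 1 5 0 1)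
def lv_d_18 : D2 → D3 → Nat := @D2.rec (fun _ => D3 → Nat) (@D3.rec (fun _ => Nat) 4 0 1 1 5 4 5 1 6 8 6 9 82 9 9 0 1 114 108 0 0 1 1 5 4 6 9 6 0 1 0 0 1 1 106 4 5 0 1 1 17 12 1 6 8 6 17 5 6 1 7) (@D3.rec (fun _ => Nat) 8 7 0 7 10 9 5 9 0 9 1 1 1 11 1 13 1 1 13 17 13 0 13 117 1 1 4 5 1 58 58 8 58 0 1 1 4 1 5 0 1 1 59 63 8 59 9 1 1 5 5) (@D3.rec (fun _ => Nat) 109 9 6 18 19 6 6 1 66 8 7 0 7 9 1 102 11 1 40 1 1 4 5 1 5 4 6 0 1 0 1 4 1 5 0 1 0 1 62 59 8 59 1 61 9 0 0 1 1 5 0) (@D3.rec (fun _ => Nat) 1 0 1 5 1 6 9 6 0 1 38 0 1 1 103 6 8 6 7 0 7 1 6 10 7 10 0 0 1 118 109 11 1 1 0 0 1 0 1 5 0 1 0 0 1 18 4 0 0 1 0) (@D3.rec (fun _ => Nat) 1 5 4 5 1 6 29 6 1 0 1 5 1 0 1 5 0 1 6 9 6 1 18 0 1 1 7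 1 6 8 6 1 7 8 7 0 7 1 1 63 10 58 0 58 9 0 0 1 1 1 0) (@D3.rec (fun _ => Nat) 1 5 4 5 1 6 34 6 1 1 18 0 0 1 1 18 0 1 6 10 6 63 1 7 10 7 0 7 18 0 1 103 1 18 10 18 58 0 0 1 1 18 30 20 13 18 0 13 1 7 10) (@D3.rec (fun _ => Nat) 7 0 10 7 58 63 8 10 8 0 8 0 1 11 1 7 11 0 59 11 59 0 11 62 0 1 11 11 1 0 1 0 1 11 61 110 32 0 1 113 0 1 12 1 12 1 116 12 12 0 1) (@D3.rec (fun _ => Nat) 2 31 112 117 95 109 111 83 83 83 80 108 5 6 1 18 1 17 1 6 8 6 7 7 7 9 9 1 4 5 112 64 114 1 18 4 6 17 7 64 64 1 5 4 6 0 1 1 4 1 5) (@D3.rec (fun _ => Nat) 1 4 0 1 1 5 4 5 6 6 1 65 4 5 1 106 12 6 8 6 60 5 7 7 62 10 62 111 111 112 13 5 6 88 13 60 5 13 1 18 4 1 5 4 6 0 1 4 5 0 1) (@D3.rec (fun _ => Nat) 4 0 1 5 4 6 1 1 18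 4 1 1 7 29 6 6 62 62 7 7 1 5 4 5 6 34 6 1 18 4 0 1 1 106 13 6 10 6 110 5 6 7 7 1 18 1 1 105 13 1 18) (@D3.rec (fun _ => Nat) 10 18 57 1 1 18 30 82 13 18 109 13 1 7 10 7 63 7 18 62 8 8 8 1 11 11 11 14 14 6 14 14 84 108 5 4 5 6 0 1 5 4 5 6 119 0 1 1 18 12 6) (@D3.rec (fun _ => Nat) 8 6 17 5 6 7 7 9 13 13 1 5 4 6 106 117 6 18 5 7 80 4 113 1 104 31 6 18 5 7 5 4 113 114 6 111 4 6 109 7 81 4 103 13 19 19 106 5 22 13 18) (@D3.rec (fun _ => Nat) 106 7 7 83 7 18 18 6 8 8 1 60 60 60 113 59 59 59 59 1 5 1 6 34 6 1 104 1 110 6 10 6 107 7 7 1 107 64 10 19 19 30 19 7 61 7 8 11 5 4 6) (@D3.rec (fun _ => Nat) 64 59 5 108 34 6 65 6 7 32 103 65 101 106 7 1 4 1 19 4 0 1 7 18 6 109 7 1 5 6 34 6 19 108 6 7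 34 1 1 4 19 10 19 0 1 1 111 29 8 8 1) (@D3.rec (fun _ => Nat) 7 10 7 61 7 8 8 8 62 11 6 34 6 115 34 7 0 7 19 11 19 109 7 61 11 7 63 63 6 107 107 8 19 19 19 10 19 0 19 1 105 19 103 19 105 0 23 19 8 10 8) (@D3.rec (fun _ => Nat) 61 61 8 61 61 60 60 9 9 62 12 19 19 19 20 20 1 82 7 1 107 1 5 6 8 6 0 1 81 81 108 82 8 82 113 108 6 1 107 8 115 0 7 0 1 11 0 1 0 1 0) (@D3.rec (fun _ => Nat) 0 1 4 1 5 1 0 1 4 0 1 5 0 1 5 4 5 64 8 6 61 1 63 9 0 105 1 5 4 5 1 6 9 6 0 1 18 4 0 1 1 105 12 6 8 6 17 5 6 7 0) (@D3.rec (fun _ => Nat) 7 6 10 5 6 116 10 0 0 9 1 114 110 1 11 115 1 13 13 13 1 65 0 1 0 1 1 4 5 1 5 4 41 8 6 1 83 102 1 5 4 37 8 6 1 104 115 6 60 1 59) (@D3.rec (fun _ => Nat) 8 116 58 7 9 0 1 0 0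 1 4 0 1 5 0 1 1 18 4 1 1 5 4 5 6 30 6 0 1 104 1 4 1 5 4 5 1 102 9 6 1 18 4 1 1 7 30 6 6 18 5) (@D3.rec (fun _ => Nat) 1 33 8 7 0 7 10 0 9 1 0 1 106 35 106 1 4 18 4 5 6 18 5 6 1 104 10 116 0 7 1 18 4 1 103 13 18 18 56 5 104 13 113 109 13 1 7 7 7 18 18) (@D3.rec (fun _ => Nat) 6 8 10 8 55 8 0 1 11 11 0 1 1 11 12 14 14 1 112 1 1 4 1 5 7 1 105 5 4 113 8 6 0 0 1 4 1 5 114 1 4 1 5 4 5 1 106 8 6 9 0) (@D3.rec (fun _ => Nat) 112 114 111 4 18 12 6 17 5 106 8 113 0 7 1 80 108 0 1 1 5 4 6 1 0 0 1 4 1 5 1 5 1 4 1 1 5 4 5 6 8 6 0 109 5 1 114 6 13 4 0) (@D3.rec (fun _ => Nat) 5 6 8 6 18 5 7 0 7 0 9 1 11 0 0 1 1 5 1 87 4 0 1 1 5 4 5 6 30 6 112 0 1 5 4 115 9 6 1 82 4 5 1 7 32 6 8 6 18 5 108) (@D3.rec (fun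 _ => Nat) 8 7 0 7 1 113 112 112 0 1 1 18 13 6 10 6 111 7 112 7 1 107 1 1 109 13 84 10 115 108 5 1 18 31 20 13 18 0 13 7 10 7 0 10 7 18 18 6 116 8 86) (@D3.rec (fun _ => Nat) 8 0 1 11 1 11 88 115 91 12 14 14 0 14 1 2 110 5 4 6 60 60 60 66 60 1 107 5 4 5 83 30 6 1 61 63 9 61 63 64 61 5 112 35 6 6 117 110 7 19 19) (@D3.rec (fun _ => Nat) 7 7 66 10 66 66 8 0 1 11 12 102 42 102 5 4 6 19 31 6 19 7 1 104 1 5 4 5 6 30 6 1 102 1 62 9 62 61 0 61 62 10 0 1 1 5 6 35 6 1 105) (@D3.rec (fun _ => Nat) 1 6 10 6 7 10 7 0 7 1 4 38 1 105 31 103 105 7 0 7 8 0 1 7 11 0 0 11 1 1 11 115 12 106 1 1 5 1 6 30 6 1 116 4 1 1 19 4 0 5 1)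
def lv_d_19 : D2 → D3 → Nat := @D2.rec (fun _ => D3 → Nat) (@D3.rec (fun _ => Nat) 1 7 1 6 30 6 19 5 6 7 30 7 0 7 5 1 106 35 6 19 1 6 6 1 7 10 7 0 7 103 19 1 8 8 8 7 7 61 7 110 10 8 0 8 0 1 58 11 60 0 11) (@D3.rec (fun _ => Nat) 0 1 0 1 1 30 106 107 1 6 35 6 106 5 7 35 7 0 7 19 102 11 19 1 1 19 31 21 19 1 7 11 7 0 7 63 8 11 8 0 11 8 0 1 19 1 103 31 117 33 19) (@D3.rec (fun _ => Nat) 57 19 60 1 1 105 31 21 31 19 0 31 21 0 19 0 1 2 8 10 8 59 10 8 0 1 61 60 63 9 0 9 0 1 0 1 19 12 0 12 1 0 66 0 1 0 1 12 11 31 1) (@D3.rec (fun _ => Nat) 12 1 19 12 12 0 1 116 13 1 13 13 13 59 13 0 1 2 117 114 109 109 83 83 83 82 108 6 7 19 10 19 18 31 18 7 10 7 83 7 8 8 5 4 6 112 64 112 63 19 59) (@D3.rec (fun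 _ => Nat) 7 18 64 64 83 30 6 60 7 1 4 5 4 5 106 35 6 65 4 5 1 108 13 6 10 6 60 5 6 7 7 86 13 65 61 5 114 31 121 109 13 7 60 7 60 60 8 14 6 0 14) (@D3.rec (fun _ => Nat) 19 4 0 7 30 6 19 7 1 5 4 5 6 1 19 4 1 105 30 6 109 7 107 30 19 19 57 109 82 30 8 0 7 7 62 64 8 6 35 6 108 5 7 0 7 19 11 19 107 1 105) (@D3.rec (fun _ => Nat) 31 113 14 115 110 14 7 65 7 110 108 6 8 19 10 19 103 31 109 14 116 88 19 19 65 19 59 107 31 84 31 19 0 84 109 14 19 109 109 8 10 8 59 8 65 19 62 9 9 106 15) (@D3.rec (fun _ => Nat) 15 85 116 6 18 5 7 1 106 32 6 18 5 7 116 1 20 31 108 13 20 61 13 7 83 10 7 18 18 6 8 14 107 32 6 85 7 108 114 7 19 19 82 82 105 32 106 0 7 19 19) (@D3.rec (fun _ => Nat) 6 105 113 114 7 113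 108 7 109 81 86 114 89 20 20 106 90 23 103 19 108 8 8 83 19 19 19 9 62 35 62 62 113 61 61 61 6 35 6 112 35 7 0 7 65 11 104 111 31 110 7) (@D3.rec (fun _ => Nat) 61 7 111 8 109 31 113 65 63 20 21 0 21 8 61 6 62 7 64 6 108 0 7 66 7 34 116 66 111 115 84 4 111 19 20 0 1 8 19 8 105 7 111 6 35 6 7 0 7 20 112) (@D3.rec (fun _ => Nat) 7 34 4 19 107 30 5 20 0 20 1 106 30 105 30 111 0 9 9 8 10 8 61 61 8 61 9 9 7 0 7 115 0 8 0 1 20 0 20 117 8 61 61 12 63 63 63 117 122 20 20) (@D3.rec (fun _ => Nat) 20 61 20 0 1 112 20 111 106 20 103 103 116 0 1 24 9 63 9 61 61 61 62 10 21 110 8 84 109 117 6 6 7 0 7 1 11 81 81 114 84 84 84 109 7 108 117 85 118 0 1) (@D3.rec (fun _ => Nat) 1 11 12 1 110 1 115 4 1 1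 5 4 5 6 31 6 113 1 5 4 5 1 66 9 6 1 7 31 6 18 5 66 0 7 114 66 10 0 1 116 6 10 6 18 5 6 114 10 7 0 7) (@D3.rec (fun _ => Nat) 1 107 13 19 65 1 107 29 103 13 116 109 13 7 0 10 7 18 18 6 8 0 1 0 11 6 0 11 1 1 11 65 12 14 14 67 67 1 1 5 5 4 6 109 32 6 60 41 58 7 85) (@D3.rec (fun _ => Nat) 31 83 115 81 31 6 62 39 56 7 106 36 106 117 7 62 108 10 59 55 118 58 1 4 1 1 5 4 5 1 6 31 6 1 4 19 4 0 5 7 31 6 31 6 19 5 6 7 0 7 1) (@D3.rec (fun _ => Nat) 104 36 112 19 4 9 31 6 19 5 102 10 114 0 7 105 31 19 64 82 82 31 8 0 31 7 7 19 19 104 10 33 56 8 0 1 11 1 31 1 104 36 108 0 117 19 4 19 56 5 7) (@D3.rec (fun _ => Nat) 19 19 6 104 11 104 104 11 107 0 1 105 19 54 109 14 110 89 19 19 56 67 113 110 113 111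 107 14 8 8 8 19 19 19 9 55 9 55 0 1 19 1 19 12 114 117 105 5 4 112 8) (@D3.rec (fun _ => Nat) 6 105 114 6 18 115 110 7 1 1 5 4 5 6 31 6 114 115 4 7 33 6 18 5 107 8 115 0 7 1 112 112 111 109 20 63 7 18 18 115 89 113 0 1 82 110 1 13 19 32 6) (@D3.rec (fun _ => Nat) 115 7 108 1 1 5 4 5 6 31 6 5 6 113 4 7 33 6 6 19 5 7 0 7 1 118 6 114 114 7 14 0 5 1 7 0 10 7 19 111 8 0 1 1 11 12 1 1 5 6 31) (@D3.rec (fun _ => Nat) 6 87 4 0 5 1 7 33 6 31 6 19 5 6 7 0 7 116 1 9 33 6 111 115 112 7 84 33 84 84 5 8 33 8 0 33 7 95 7 19 19 110 85 8 0 1 31 115 114 112 1) (@D3.rec (fun _ => Nat) 19 32 21 14 19 109 7 110 7 115 8 114 108 112 112 32 103 14 111 88 88 85 85 10 120 110 86 21 32 19 0 32 21 0 14 19 0 1 2 91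 8 87 8 0 1 88 19 19 93 115 9) (@D3.rec (fun _ => Nat) 87 0 1 19 32 12 89 0 92 1 2 2 110 6 19 7 60 60 60 66 107 31 114 6 19 5 85 0 7 61 36 61 65 64 61 65 64 6 110 0 7 7 112 114 20 21 8 68 63 68 68) (@D3.rec (fun _ => Nat) 0 1 109 12 104 42 117 6 108 7 20 0 7 20 104 31 106 6 31 6 62 5 6 7 0 7 104 36 104 64 10 64 0 64 61 0 1 0 11 1 31 6 36 6 7 0 7 105 32 116 7) (@D3.rec (fun _ => Nat) 11 7 0 7 8 0 11 8 0 1 4 5 40 103 32 115 0 117 116 8 0 1 0 1 20 0 1 1 32 12 117 20 6 31 6 108 31 7 0 7 20 4 0 5 109 87 31 20 0 5 1) (@D3.rec (fun _ => Nat) 2 6 8 105 8 8 7 31 7 0 31 7 20 20 6 8 0 8 0 1 6 106 36 106 0 7 20 7 7 7 110 11 8 0 11 8 0 1 105 20 83 9 9 9 8 8 63 110 0 9 0) (@D3.rec (fun _ => Nat) 1 0 1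 9 0 0 1 1 31 1 31 60 31 31 111 109 7 36 7 0 36 7 112 109 8 0 8 0 1 20 104 57 20 108 32 22 20 0 22 20 8 12 8 0 12 8 0 1 65 9 0) (@D3.rec (fun _ => Nat) 9 0 1 110 0 1 112 20 107 105 0 121 35 20 57 60 107 32 111 32 115 0 32 22 0 20 0 1 2 22 0 1 0 1 2 2 9 61 12 9 61 64 0 1 63 7 65 10 0 1 0)
def lv_d_20 : D2 → D3 → Nat := @D2.rec (fun _ => D3 → Nat) (@D3.rec (fun _ => Nat) 1 87 1 20 20 20 13 1 2 32 1 0 1 13 1 20 13 13 32 13 60 13 0 1 118 14 14 0 1 32 115 85 85 118 7 20 85 20 19 0 19 8 81 8 85 9 6 19 7 112 63) (@D3.rec (fun _ => Nat) 20 59 19 66 83 0 7 62 67 4 6 110 5 108 0 7 67 61 5 108 32 116 107 14 7 62 7 62 62 6 8 88 0 14 67 61 62 112 0 125 115 109 8 62 62 62 15 1 20 0 1) (@D3.rec (fun _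 => Nat) 8 0 7 20 107 31 6 108 5 7 107 31 20 104 106 31 112 0 7 114 107 0 20 20 57 113 82 0 9 0 1 8 64 64 7 0 36 7 110 110 8 0 1 20 65 20 120 106 32 105 0) (@D3.rec (fun _ => Nat) 115 110 15 115 110 108 15 8 65 122 117 106 20 55 20 118 0 109 89 120 89 20 20 65 59 109 0 86 0 20 0 1 84 121 109 115 107 9 61 9 61 65 64 10 16 86 113 7 19 19 105) (@D3.rec (fun _ => Nat) 33 115 0 33 7 19 19 113 32 20 0 32 108 63 14 20 63 63 8 85 85 19 19 19 109 0 7 86 118 20 20 82 82 107 0 121 0 1 20 20 7 107 118 116 116 110 121 83 86 121 90) (@D3.rec (fun _ => Nat) 21 123 90 24 105 121 9 85 20 20 62 116 62 61 7 0 7 119 0 8 0 1 66 65 111 113 0 112 8 63 114 111 0 111 66 65 21 0 1 63 7 64 7 119 0 1 67 34 114 115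 84) (@D3.rec (fun _ => Nat) 105 111 108 21 0 1 9 103 9 115 111 7 0 7 8 0 1 21 112 36 5 85 109 0 6 21 0 1 114 31 113 0 31 113 0 111 0 1 10 9 104 9 63 63 10 8 0 1 113 0 1) (@D3.rec (fun _ => Nat) 0 1 112 21 0 1 63 63 63 65 65 117 21 21 63 0 1 105 111 109 21 118 108 116 105 0 1 10 63 63 117 84 84 109 121 7 7 8 0 1 11 12 83 114 84 84 110 121 87 0 1) (@D3.rec (fun _ => Nat) 19 94 12 111 32 113 113 4 0 5 7 32 6 32 6 19 5 6 7 0 7 108 109 32 6 19 5 6 67 10 66 0 7 88 32 8 0 32 7 19 19 66 0 1 0 11 1 32 114 7 0) (@D3.rec (fun _ => Nat) 11 7 19 19 6 113 0 11 8 0 1 83 14 115 110 20 67 105 30 110 0 30 105 111 14 113 111 109 64 8 0 1 56 19 19 19 0 1 21 1 12 1 30 12 65 67 67 5 106 37 6) (@D3.rec (fun _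 => Nat) 6 60 7 117 0 7 60 43 60 85 0 85 117 83 0 7 62 39 58 106 0 112 62 108 57 61 57 60 20 4 5 9 32 6 32 6 110 5 6 106 32 7 0 7 20 4 20 0 5 1 8) (@D3.rec (fun _ => Nat) 0 32 7 0 32 7 20 20 6 8 0 1 104 37 106 0 115 20 64 10 0 7 20 20 119 104 11 112 0 1 109 0 20 64 84 84 0 9 0 1 2 8 20 20 104 58 35 58 0 1 9) (@D3.rec (fun _ => Nat) 32 32 106 37 106 0 37 111 0 1 20 56 20 58 66 20 20 20 118 110 122 117 113 0 1 107 20 56 111 107 113 90 20 58 67 111 115 123 113 107 9 9 20 20 10 57 57 1 20 20 20) (@D3.rec (fun _ => Nat) 20 114 119 114 6 19 113 112 7 114 112 7 19 113 112 7 34 6 32 6 19 5 7 0 7 114 112 84 8 0 34 7 19 19 109 113 113 0 1 115 113 109 20 63 19 19 113 91 0 1 82) (@D3.rec (fun _ => Nat)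 115 109 14 20 113 7 115 110 7 34 6 32 6 62 5 6 7 0 7 6 7 115 88 8 0 34 7 7 20 111 8 0 1 32 120 7 116 119 15 0 1 94 8 0 1 111 20 113 0 1 20) (@D3.rec (fun _ => Nat) 33 12 9 6 32 6 7 0 7 87 0 5 1 2 6 8 8 0 34 7 0 32 7 20 20 6 7 8 0 1 113 106 34 10 0 7 113 117 115 84 0 34 84 84 85 9 0 34 9 0 1) (@D3.rec (fun _ => Nat) 2 8 95 20 20 118 86 0 1 9 32 118 114 22 33 20 0 22 108 20 111 8 112 117 119 117 117 112 0 33 103 89 89 119 89 87 86 86 87 117 87 22 0 33 20 0 1 2 22 0 1) (@D3.rec (fun _ => Nat) 2 92 0 1 2 2 3 9 88 0 1 89 7 20 95 117 88 1 20 20 33 1 2 33 112 7 20 62 68 107 0 118 7 20 20 85 0 1 63 0 63 65 66 66 7 114 0 1 107 68 67) (@D3.rec (fun _ => Nat) 68 1 114 86 115 113 7 108 21 0 1 21 118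 0 117 7 0 32 7 62 62 6 8 0 1 104 0 116 64 0 11 64 0 1 0 1 9 1 32 7 0 7 8 0 1 107 0 119 8 0 8) (@D3.rec (fun _ => Nat) 0 1 9 0 1 112 0 1 5 6 105 0 117 0 1 120 0 1 7 1 21 21 1 119 21 7 0 7 108 0 8 0 1 21 0 5 1 2 6 114 89 0 32 21 0 1 2 6 2 9 107) (@D3.rec (fun _ => Nat) 9 9 8 0 32 8 0 1 2 32 21 21 111 9 0 1 0 1 9 7 108 0 110 0 1 21 8 8 115 0 9 0 1 112 0 1 11 113 85 10 10 9 63 115 0 1 0 1 10 1 60) (@D3.rec (fun _ => Nat) 10 10 1 1 32 60 32 32 32 0 32 116 115 8 0 8 0 1 112 112 110 9 0 1 0 1 114 21 117 59 110 0 23 21 0 1 23 9 61 13 9 0 1 2 0 1 7 10 0 1 0) (@D3.rec (fun _ => Nat) 1 112 111 1 21 115 111 107 111 0 1 35 59 107 0 33 112 0 33 112 0 1 2 23 0 1 0 1 2 2 7 0 1 1 2 2 7 10 61 66 61 66 1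 63 8 8 0 1 1 88 88) (@D3.rec (fun _ => Nat) 21 21 0 21 2 33 33 1 109 14 62 14 107 62 0 1 1 33 21 85 20 0 1 9 83 85 7 20 65 61 85 0 1 62 68 63 7 117 108 118 0 1 67 63 106 108 0 118 107 104 15) (@D3.rec (fun _ => Nat) 8 62 62 62 62 88 0 1 105 63 62 116 0 1 113 109 62 62 21 0 1 9 0 1 21 112 0 32 7 115 110 107 0 21 104 113 0 110 0 1 116 118 0 1 21 59 111 84 0 1 0) (@D3.rec (fun _ => Nat) 1 8 0 1 112 114 110 0 1 113 21 67 122 106 0 120 0 1 113 112 111 16 115 117 108 67 115 115 21 57 119 0 1 114 90 90 21 67 120 0 1 86 0 1 0 1 116 111 114 10 61) (@D3.rec (fun _ => Nat) 61 20 20 107 0 34 117 0 1 111 20 20 115 0 33 22 0 1 114 112 63 63 63 63 85 85 20 20 122 0 1 87 21 84 116 0 1 0 1 21 122 119 116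 88 91 92 115 21 64 115 8)
def lv_d_21 : D2 → D3 → Nat := @D2.rec (fun _ => D3 → Nat) (@D3.rec (fun _ => Nat) 0 1 116 0 1 0 1 67 65 118 0 1 63 119 0 1 65 0 1 64 0 1 86 117 116 110 0 1 10 117 116 8 0 1 0 1 6 87 115 0 1 0 1 7 114 0 32 111 0 1 111) (@D3.rec (fun _ => Nat) 0 1 0 1 10 104 63 0 1 0 1 1 22 114 0 1 63 63 65 63 1 105 105 114 111 116 116 1 116 86 117 8 0 1 20 12 86 119 87 1 94 20 20 113 0 114 115 0 5 1 2) (@D3.rec (fun _ => Nat) 6 8 0 33 7 0 33 7 20 20 6 8 0 1 114 112 0 33 7 20 20 6 68 0 11 68 0 1 88 0 33 9 0 1 2 20 20 0 1 9 1 33 33 8 0 1 106 12 20 20 20) (@D3.rec (fun _ => Nat) 114 0 1 110 0 1 83 107 112 111 67 111 0 31 117 0 1 2 113 111 110 66 118 112 107 0 1 56 7 20 20 1 21 21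 31 69 6 106 0 7 7 62 115 0 1 62 60 87 0 1 83) (@D3.rec (fun _ => Nat) 0 1 64 58 116 0 1 116 57 57 21 115 5 10 0 33 7 0 33 7 110 113 6 108 0 33 8 0 1 21 107 21 0 1 107 33 9 0 1 2 8 0 1 2 21 21 21 0 1 9 115) (@D3.rec (fun _ => Nat) 0 38 112 0 1 21 66 11 0 1 21 21 118 116 110 0 1 11 113 0 1 66 84 84 0 1 0 1 2 2 21 114 58 58 1 10 10 106 0 116 0 1 2 0 1 112 21 56 58 64 21) (@D3.rec (fun _ => Nat) 21 117 114 116 113 1 21 118 56 116 109 91 69 115 116 107 10 21 57 21 21 21 119 114 7 20 113 112 114 20 116 8 0 35 7 0 33 7 20 20 8 0 1 114 86 9 0 1 2 20 20) (@D3.rec (fun _ => Nat) 111 117 0 1 117 65 20 91 1 111 15 21 113 120 115 8 0 35 7 0 33 7 64 64 6 8 0 1 7 113 89 9 0 1 2 8 21 115 0 1 9 33 117 0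 1 96 0 1 118 109 115) (@D3.rec (fun _ => Nat) 1 21 21 34 10 7 0 7 8 0 1 89 0 1 2 6 2 35 9 9 0 1 2 35 8 0 1 2 33 21 21 113 7 0 1 9 108 108 11 0 1 114 116 86 0 1 114 86 86 10 0) (@D3.rec (fun _ => Nat) 1 2 0 1 2 2 97 21 87 1 10 10 118 23 115 21 0 1 23 108 110 119 115 117 0 1 111 118 90 88 90 88 87 88 88 23 0 1 2 0 1 2 2 7 0 1 2 2 114 1 2) (@D3.rec (fun _ => Nat) 2 3 7 3 89 1 90 8 8 95 21 21 34 21 116 0 1 21 21 0 1 63 0 1 66 0 1 65 114 86 115 0 1 113 0 1 8 0 1 2 33 64 64 111 0 1 9 119 0 1 66) (@D3.rec (fun _ => Nat) 0 1 114 0 1 11 1 10 33 8 0 1 0 1 118 0 1 9 0 1 0 1 0 1 112 1 6 116 0 1 0 1 7 1 8 22 22 22 8 0 1 114 0 1 0 1 11 22 0 1 2) (@D3.rec (fun _ => Nat) 6 2 114 89 0 1 93 0 1 2 2 108 33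 10 107 10 9 0 1 2 33 0 1 2 2 113 97 22 111 0 1 10 1 22 10 10 117 0 1 0 1 113 9 118 0 1 0 1 114 12 1) (@D3.rec (fun _ => Nat) 62 12 12 85 0 1 109 1 11 11 62 11 0 11 62 33 1 2 9 0 1 0 1 112 112 0 1 1 22 118 59 112 0 1 24 0 1 7 10 63 109 0 1 2 2 111 1 8 8 0 1) (@D3.rec (fun _ => Nat) 1 121 109 111 115 22 117 115 111 114 0 1 117 0 1 109 114 0 1 2 0 1 2 2 0 1 107 1 2 10 2 8 7 8 1 2 8 63 66 66 9 9 1 89 89 62 0 22 1 34 34) (@D3.rec (fun _ => Nat) 62 62 109 0 1 61 87 0 1 83 21 0 1 69 63 114 110 0 1 117 63 106 120 0 1 115 106 106 64 64 64 0 1 107 64 0 1 109 0 1 0 1 112 0 1 110 116 110 119 0 1) (@D3.rec (fun _ => Nat) 114 112 0 1 0 1 0 1 0 1 1 9 0 1 114 108 1 22 115 115 67 115 0 1 0 1 115 111 108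 111 108 113 57 0 1 91 0 1 0 1 1 10 113 63 21 119 0 1 113 0 1) (@D3.rec (fun _ => Nat) 113 21 120 0 1 116 0 1 118 65 65 65 87 21 0 1 0 1 1 113 121 0 1 0 1 1 119 67 0 1 0 1 1 10 1 67 117 119 1 115 0 1 1 116 87 0 1 7 1 8 8) (@D3.rec (fun _ => Nat) 113 0 1 0 1 0 1 1 10 117 1 112 1 114 23 121 0 1 65 112 114 123 86 1 22 22 96 21 21 113 0 1 113 0 1 2 6 2 9 0 1 2 34 8 0 1 2 34 21 21 21) (@D3.rec (fun _ => Nat) 0 1 9 115 0 1 108 34 21 21 106 69 0 1 114 0 1 11 90 0 1 2 0 1 2 2 21 1 10 10 34 0 1 108 119 21 21 0 1 112 1 85 114 111 118 0 1 2 0 1 2) (@D3.rec (fun _ => Nat) 2 7 116 110 109 118 109 1 58 8 8 21 23 23 7 118 0 1 62 0 1 0 1 0 1 0 1 110 59 22 120 111 11 0 1 2 34 8 0 1 2 34 124 106 106 121 0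 1 2 0 1) (@D3.rec (fun _ => Nat) 11 22 107 0 1 107 84 0 1 2 2 0 1 2 2 109 22 22 1 22 10 10 117 0 1 2 0 1 108 66 0 1 22 118 118 1 12 0 1 0 1 1 2 9 2 110 60 11 11 120 0) (@D3.rec (fun _ => Nat) 1 0 1 2 2 110 1 22 116 112 58 68 22 115 116 22 116 114 22 21 115 9 0 1 111 8 0 1 114 21 21 0 1 86 0 1 2 2 21 117 1 115 120 9 0 1 115 36 8 0 1) (@D3.rec (fun _ => Nat) 2 34 64 64 113 0 1 9 90 0 1 2 2 116 1 10 90 1 96 1 117 111 85 22 22 11 8 0 1 0 1 0 1 2 2 89 109 10 0 1 2 2 3 0 1 2 2 96 3 22 113) (@D3.rec (fun _ => Nat) 113 1 113 10 10 115 110 0 1 0 1 114 87 0 1 2 2 1 2 9 2 114 11 11 24 109 0 1 115 0 1 111 91 89 89 89 0 1 2 2 113 1 2 10 2 8 7 8 1 2 2) (@D3.rec (fun _ => Nat) 114 2 3 8 3 97 9 9 22 0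 1 22 1 23 0 1 1 112 88 1 42 0 1 11 0 1 2 2 110 95 64 113 1 43 10 0 1 0 1 114 113 1 12 11 0 1 1 106 0 1 0) (@D3.rec (fun _ => Nat) 1 1 1 114 0 1 92 1 42 8 9 23 0 1 0 1 12 1 23 12 12 0 1 2 2 108 0 1 93 1 2 2 108 111 117 0 1 2 2 60 97 1 2 9 2 113 97 120 1 115 11)
def lv_d_22 : D2 → D3 → Nat := @D2.rec (fun _ => D3 → Nat) (@D3.rec (fun _ => Nat) 11 23 11 0 11 0 1 1 23 111 0 1 1 121 62 13 115 62 13 13 1 109 12 12 0 12 1 2 2 0 1 1 112 108 1 23 23 122 116 0 1 1 113 8 8 63 110 1 2 2 115) (@D3.rec (fun _ => Nat) 112 118 9 9 1 118 116 115 64 117 119 1 10 0 1 111 0 1 2 2 109 1 2 59 2 1 105 113 111 11 2 9 111 61 8 9 9 68 10 90 0 1 61 64 109 1 1 120 1 66 65) (@D3.rec (fun _ => Nat) 110 1 114 115 115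 118 0 1 119 106 64 1 117 1 67 1 1 82 0 1 112 112 0 1 0 1 1 9 1 9 1 114 10 1 115 114 23 121 115 115 0 1 1 115 116 110 115 1 10 1 55) (@D3.rec (fun _ => Nat) 1 115 11 0 1 113 1 117 114 0 1 116 1 114 111 65 1 109 1 113 113 1 114 1 68 118 1 115 1 10 11 69 1 112 112 1 10 8 8 9 9 0 1 1 111 1 115 11 119 116 24) (@D3.rec (fun _ => Nat) 0 1 117 22 22 22 0 1 11 0 1 2 2 110 0 1 2 2 3 0 1 2 2 90 3 22 22 1 23 10 10 0 1 114 108 22 119 0 1 116 112 1 12 0 1 2 2 1 2 66 2) (@D3.rec (fun _ => Nat) 112 11 11 1 119 121 22 1 115 116 0 1 2 2 83 1 2 67 2 8 8 117 109 114 9 9 23 0 1 1 44 1 43 1 41 1 18 112 112 122 111 0 1 2 2 116 0 1 2 2 108) (@D3.rec (fun _ => Nat) 111 108 0 1 2 2 1 23 12 120 1 120 84 1 2 84 2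 84 1 2 89 2 112 91 23 23 11 58 11 0 1 2 2 112 1 23 116 114 1 111 120 13 1 9 1 107 10 2 56 113 12) (@D3.rec (fun _ => Nat) 0 1 1 2 23 2 110 23 118 0 114 0 1 113 0 1 116 22 1 112 1 2 105 2 0 1 120 94 0 1 2 2 96 92 66 115 1 119 10 1 2 113 2 96 11 92 119 85 23 0 1) (@D3.rec (fun _ => Nat) 1 110 1 2 2 91 119 1 2 88 2 3 111 3 1 2 93 2 98 3 3 98 120 115 114 11 118 11 113 1 115 1 120 9 1 2 90 2 117 10 2 116 112 12 114 1 112 1 119 10 90) (@D3.rec (fun _ => Nat) 1 2 91 2 116 116 11 2 9 113 95 8 9 2 121 9 3 97 10 1 24 24 1 114 120 44 1 115 12 1 2 112 2 115 97 113 45 11 66 1 114 1 119 113 13 1 104 121 1 116 1) (@D3.rec (fun _ => Nat) 1 83 94 42 9 66 1 110 1 24 13 24 13 116 13 1 2 2 110 1 95 9 2 116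 113 1 2 111 2 62 99 10 2 109 99 95 100 117 12 62 12 24 0 12 1 2 1 24 24 113 114) (@D3.rec (fun _ => Nat) 1 64 14 116 14 120 13 1 2 2 1 106 113 24 24 120 1 114 117 9 119 9 120 2 114 112 118 10 64 120 117 11 1 116 61 1 2 59 2 109 59 2 61 118 115 115 111 12 118 63 9) (@D3.rec (fun _ => Nat) 10 115 63 1 63 120 68 113 115 119 117 1 67 113 67 84 1 114 120 1 9 1 117 10 10 116 11 120 24 124 121 117 1 113 113 118 11 57 115 12 1 119 116 116 1 116 111 114 117 121 121) (@D3.rec (fun _ => Nat) 121 68 121 122 11 12 69 119 114 11 9 70 9 10 1 111 111 117 12 117 119 0 1 24 1 24 12 1 2 2 112 1 2 92 2 3 93 3 1 2 89 2 90 3 3 91 23 24 11 60 11) (@D3.rec (fun _ => Nat) 1 114 68 110 117 1 119 114 13 1 2 90 2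 107 68 2 65 114 12 123 1 2 83 2 85 117 67 2 9 65 69 9 117 10 1 18 44 43 43 19 118 112 112 118 1 2 119 2 116 1 2) (@D3.rec (fun _ => Nat) 109 2 114 119 1 2 24 2 24 13 60 86 84 2 86 86 91 2 114 91 115 91 24 60 12 60 1 2 24 2 112 24 119 119 116 120 10 116 11 56 110 112 1 112 24 2 120 112 116 24 0) (@D3.rec (fun _ => Nat) 118 1 114 1 119 91 1 122 89 114 124 2 1 120 116 94 1 2 116 2 96 92 114 117 11 113 2 96 96 92 87 1 112 118 2 91 121 90 2 3 90 113 3 93 2 98 3 95 98 3 98) (@D3.rec (fun _ => Nat) 122 121 120 12 118 118 10 90 2 116 119 11 120 115 116 114 11 92 2 114 113 92 115 12 119 97 9 10 99 113 97 25 25 123 114 44 119 13 114 114 2 117 97 115 112 45 66 120 114 119 125) (@D3.rec (fun _ => Nat)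 116 83 94 94 44 66 112 25 14 119 25 117 14 114 2 118 10 120 122 2 62 99 110 97 11 95 100 113 62 13 64 0 1 2 2 25 25 118 115 2 115 121 25 118 116 119 121 10 119 116 116) (@D3.rec (fun _ => Nat) 12 61 61 2 118 61 103 61 61 121 115 113 113 118 63 121 65 122 68 114 117 115 117 69 69 84 116 10 117 11 11 123 119 120 122 115 116 12 57 117 118 119 113 119 119 124 121 70 120 12 125) (@D3.rec (fun _ => Nat) 12 70 10 70 113 118 119 1 25 13 116 2 110 94 2 3 96 95 3 89 2 92 3 89 92 3 93 25 62 12 62 68 121 117 90 2 92 113 68 67 116 102 85 2 85 85 99 117 69 67 71) (@D3.rec (fun _ => Nat) 10 71 19 46 45 43 20 120 120 114 121 2 116 111 121 2 121 112 25 2 112 25 62 86 86 86 118 91 93 121 93 115 60 60 25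 2 121 113 119 25 122 121 119 124 11 120 58 112 121 25 119) (@D3.rec (fun _ => Nat) 119 0 1 120 120 92 91 123 126 120 103 114 2 98 94 115 121 122 96 98 96 112 118 90 90 117 3 93 90 95 97 100 3 100 93 97 124 120 117 11 92 115 117 119 121 126 118 12 93 121 93) (@D3.rec (fun _ => Nat) 118 93 116 97 101 115 26 122 127 116 115 116 117 68 119 125 120 85 96 68 117 26 119 118 115 11 120 117 97 97 102 64 64 1 2 2 26 118 124 116 123 120 63 61 63 103 63 115 122 118 65) (@D3.rec (fun _ => Nat) 120 122 69 117 11 119 123 115 120 113 72 72 118 26 118 94 96 102 3 119 92 91 91 93 3 93 91 93 62 62 70 92 92 120 92 67 102 85 87 99 115 96 67 71 71 20 123 120 119 118 118) (@D3.rec (fun _ => Nat) 121 26 114 62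 88 127 93 119 119 62 26 119 120 122 122 114 114 125 118 1 117 122 93 91 118 116 116 98 98 119 92 93 92 97 95 93 97 120 117 118 122 119 94 94 101 115 116 119 119 96 123) (@D3.rec (fun _ => Nat) 124 120 99 66 2 123 63 103 117 123 72 118 98 118 94 91 94 91 94 64 94 94 104 87 96 98 73 120 121 116 116 117 116 121 123 121 120 125 98 95 92 99 99 102 95 103 98 93 95 94 98)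
def lv_d : Pt → Nat := @Pt.rec (fun _ => Nat) (@D1.rec (fun _ => D2 → D3 → Nat) lv_d_0 lv_d_1 lv_d_2 lv_d_3 lv_d_4 lv_d_5 lv_d_6 lv_d_7 lv_d_8 lv_d_9 lv_d_10 lv_d_11 lv_d_12 lv_d_13 lv_d_14 lv_d_15 lv_d_16 lv_d_17 lv_d_18 lv_d_19 lv_d_20 lv_d_21 lv_d_22)
abbrev lc_d_Cert_tree : Cert rels S Gen.d := Cert.tree
abbrev lc_d_rc_12_1 : Cert rels S Gen.d := rc_12_1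
abbrev lc_d_rc_12_3 : Cert rels S Gen.d := rc_12_3
abbrev lc_d_rc_20_1 : Cert rels S Gen.d := rc_20_1
abbrev lc_d_rc_20_3 : Cert rels S Gen.d := rc_20_3
abbrev lc_d_rc_20_5 : Cert rels S Gen.d := rc_20_5
abbrev lc_d_rc_27_0 : Cert rels S Gen.d := rc_27_0
abbrev lc_d_rc_27_1 : Cert rels S Gen.d := rc_27_1
abbrev lc_d_rc_28_0 : Cert rels S Gen.d := rc_28_0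
abbrev lc_d_rc_28_2 : Cert rels S Gen.d := rc_28_2
abbrev lc_d_rc_28_4 : Cert rels S Gen.d := rc_28_4
abbrev lc_d_rc_29_0 : Cert rels S Gen.d := rc_29_0
abbrev lc_d_rc_29_2 : Cert rels S Gen.d := rc_29_2
abbrev lc_d_rc_29_4 : Cert rels S Gen.d := rc_29_4
abbrev lc_d_rc_30_0 : Cert rels S Gen.d := rc_30_0
abbrev lc_d_rc_30_2 : Cert rels S Gen.d := rc_30_2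
abbrev lc_d_rc_31_0 : Cert rels S Gen.d := rc_31_0
abbrev lc_d_rc_31_2 : Cert rels S Gen.d := rc_31_2
abbrev lc_d_rc_32_0 : Cert rels S Gen.d := rc_32_0
abbrev lc_d_rc_32_2 : Cert rels S Gen.d := rc_32_2
abbrev lc_d_rc_33_0 : Cert rels S Gen.d := rc_33_0
abbrev lc_d_rc_33_2 : Cert rels S Gen.d := rc_33_2
abbrev lc_d_rc_3_1 : Cert rels S Gen.d := rc_3_1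
abbrev lc_d_rc_3_3 : Cert rels S Gen.d := rc_3_3
abbrev lc_d_rc_55_12 : Cert rels S Gen.d := rc_55_12
abbrev lc_d_rc_55_15 : Cert rels S Gen.d := rc_55_15
abbrev lc_d_rc_55_18 : Cert rels S Gen.d := rc_55_18
abbrev lc_d_rc_55_21 : Cert rels S Gen.d := rc_55_21
abbrev lc_d_rc_55_24 : Cert rels S Gen.d := rc_55_24
abbrev lc_d_rc_55_27 : Cert rels S Gen.d := rc_55_27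
abbrev lc_d_rc_55_3 : Cert rels S Gen.d := rc_55_3
abbrev lc_d_rc_55_30 : Cert rels S Gen.d := rc_55_30
abbrev lc_d_rc_55_33 : Cert rels S Gen.d := rc_55_33
abbrev lc_d_rc_55_36 : Cert rels S Gen.d := rc_55_36
abbrev lc_d_rc_55_39 : Cert rels S Gen.d := rc_55_39
abbrev lc_d_rc_55_42 : Cert rels S Gen.d := rc_55_42
abbrev lc_d_rc_55_45 : Cert rels S Gen.d := rc_55_45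
abbrev lc_d_rc_55_48 : Cert rels S Gen.d := rc_55_48
abbrev lc_d_rc_55_51 : Cert rels S Gen.d := rc_55_51
abbrev lc_d_rc_55_54 : Cert rels S Gen.d := rc_55_54
abbrev lc_d_rc_55_57 : Cert rels S Gen.d := rc_55_57
abbrev lc_d_rc_55_60 : Cert rels S Gen.d := rc_55_60
abbrev lc_d_rc_55_63 : Cert rels S Gen.d := rc_55_63
abbrev lc_d_rc_55_66 : Cert rels S Gen.d := rc_55_66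
abbrev lc_d_rc_55_69 : Cert rels S Gen.d := rc_55_69
abbrev lc_d_rc_55_72 : Cert rels S Gen.d := rc_55_72
abbrev lc_d_rc_55_75 : Cert rels S Gen.d := rc_55_75
abbrev lc_d_rc_55_78 : Cert rels S Gen.d := rc_55_78
abbrev lc_d_rc_55_81 : Cert rels S Gen.d := rc_55_81
abbrev lc_d_rc_55_84 : Cert rels S Gen.d := rc_55_84
abbrev lc_d_rc_55_87 : Cert rels S Gen.d := rc_55_87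
abbrev lc_d_rc_55_9 : Cert rels S Gen.d := rc_55_9
abbrev lc_d_rc_56_10 : Cert rels S Gen.d := rc_56_10
abbrev lc_d_rc_56_17 : Cert rels S Gen.d := rc_56_17
abbrev lc_d_rc_56_24 : Cert rels S Gen.d := rc_56_24
abbrev lc_d_rc_56_3 : Cert rels S Gen.d := rc_56_3
abbrev lc_d_rc_56_31 : Cert rels S Gen.d := rc_56_31
abbrev lc_d_rc_56_38 : Cert rels S Gen.d := rc_56_38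
abbrev lc_d_rc_56_45 : Cert rels S Gen.d := rc_56_45
abbrev lc_d_rc_56_52 : Cert rels S Gen.d := rc_56_52
abbrev lc_d_rc_56_59 : Cert rels S Gen.d := rc_56_59
abbrev lc_d_sc_3_0 : Cert rels S Gen.d := sc_3_0
def ce_d_0 : D2 → D3 → (Cert rels S Gen.d) := @D2.rec (fun _ => D3 → (Cert rels S Gen.d)) (@D3.rec (fun _ => (Cert rels S Gen.d)) lc_d_sc_3_0 lc_d_rc_32_2 lc_d_rc_31_2 lc_d_rc_30_2 lc_d_Cert_tree lc_d_rc_27_0 lc_d_rc_20_3 lc_d_rc_29_2 lc_d_rc_12_1 lc_d_Cert_tree lc_d_rc_33_2 lc_d_rc_3_1 lc_d_Cert_tree lc_d_rc_27_0 lc_d_rc_33_2 lc_d_Cert_tree lc_d_rc_27_0 lc_d_rc_33_2 lc_d_rc_28_2 lc_d_rc_33_2 lc_d_rc_27_0 lc_d_rc_33_2 lc_d_rc_20_3 lc_d_rc_12_1 lc_d_rc_33_2 lc_d_rc_30_2 lc_d_rc_28_2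 lc_d_rc_29_2 lc_d_rc_3_1 lc_d_rc_3_1 lc_d_rc_33_2 lc_d_Cert_tree lc_d_rc_20_3 lc_d_rc_12_1 lc_d_rc_12_1 lc_d_rc_12_1 lc_d_rc_31_2 lc_d_rc_30_2 lc_d_Cert_tree lc_d_rc_12_1 lc_d_Cert_tree lc_d_rc_3_1 lc_d_rc_3_1 lc_d_rc_3_1 lc_d_rc_3_1 lc_d_rc_27_0 lc_d_rc_30_2 lc_d_rc_33_2 lc_d_Cert_tree lc_d_rc_12_1 lc_d_rc_12_1) (@D3.rec (fun _ => (Cert rels S Gen.d)) lc_d_Cert_tree lc_d_rc_32_2 lc_d_rc_31_2 lc_d_Cert_tree lc_d_rc_27_0 lc_d_Cert_tree lc_d_rc_12_1 lc_d_rc_27_0 lc_d_rc_30_2 lc_d_rc_33_2 lc_d_Cert_tree lc_d_rc_3_1 lc_d_rc_3_1 lc_d_Cert_tree lc_d_rc_30_2 lc_d_rc_29_2 lc_d_rc_33_2 lc_d_rc_31_2 lc_d_rc_33_2 lc_d_Cert_tree lc_d_rc_27_0 lc_d_rc_12_1 lc_d_rc_12_1 lc_d_Cert_tree lc_d_rc_27_0 lc_d_rc_32_2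 lc_d_Cert_tree lc_d_rc_27_0 lc_d_rc_20_3 lc_d_rc_27_0 lc_d_rc_30_2 lc_d_rc_33_2 lc_d_Cert_tree lc_d_rc_30_2 lc_d_rc_3_1 lc_d_rc_33_2 lc_d_rc_31_2 lc_d_rc_33_2 lc_d_Cert_tree lc_d_rc_27_0 lc_d_rc_3_1 lc_d_rc_3_1 lc_d_Cert_tree lc_d_rc_27_0 lc_d_rc_28_2 lc_d_rc_31_2 lc_d_rc_29_2 lc_d_rc_33_2 lc_d_rc_33_2 lc_d_Cert_tree lc_d_rc_32_2) (@D3.rec (fun _ => (Cert rels S Gen.d)) lc_d_rc_33_2 lc_d_Cert_tree lc_d_rc_27_0 lc_d_rc_28_2 lc_d_rc_12_1 lc_d_Cert_tree lc_d_rc_27_0 lc_d_rc_20_3 lc_d_Cert_tree lc_d_rc_27_0 lc_d_rc_20_3 lc_d_rc_28_2 lc_d_rc_12_1 lc_d_rc_20_3 lc_d_rc_30_2 lc_d_rc_12_1 lc_d_rc_33_2 lc_d_rc_31_2 lc_d_rc_33_2 lc_d_Cert_tree lc_d_rc_27_0 lc_d_rc_3_1 lc_d_rc_31_2 lc_d_rc_3_1 lc_d_rc_33_2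 lc_d_rc_3_1 lc_d_Cert_tree lc_d_rc_32_2 lc_d_rc_33_2 lc_d_Cert_tree lc_d_rc_27_0 lc_d_rc_28_2 lc_d_rc_3_1 lc_d_Cert_tree lc_d_rc_27_0 lc_d_rc_20_3 lc_d_rc_28_2 lc_d_Cert_tree lc_d_rc_28_2 lc_d_rc_32_2 lc_d_rc_29_2 lc_d_rc_33_2 lc_d_rc_33_2 lc_d_Cert_tree lc_d_Cert_tree lc_d_rc_27_0 lc_d_rc_33_2 lc_d_Cert_tree lc_d_rc_27_0 lc_d_rc_20_3 lc_d_rc_28_2) (@D3.rec (fun _ => (Cert rels S Gen.d)) lc_d_rc_30_2 lc_d_Cert_tree lc_d_rc_27_0 lc_d_rc_20_3 lc_d_rc_28_2 lc_d_rc_12_1 lc_d_rc_27_0 lc_d_rc_20_3 lc_d_rc_28_2 lc_d_rc_12_1 lc_d_Cert_tree lc_d_rc_3_1 lc_d_rc_20_3 lc_d_Cert_tree lc_d_rc_20_3 lc_d_rc_12_1 lc_d_rc_31_2 lc_d_rc_12_1 lc_d_rc_33_2 lc_d_rc_12_1 lc_d_Cert_tree lc_d_rc_32_2 lc_d_rc_33_2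 lc_d_Cert_tree lc_d_rc_27_0 lc_d_rc_20_3 lc_d_rc_28_2 lc_d_rc_3_1 lc_d_Cert_tree lc_d_rc_3_1 lc_d_rc_32_2 lc_d_rc_3_1 lc_d_rc_33_2 lc_d_rc_3_1 lc_d_Cert_tree lc_d_Cert_tree lc_d_rc_27_0 lc_d_rc_33_2 lc_d_Cert_tree lc_d_rc_27_0 lc_d_rc_20_3 lc_d_rc_28_2 lc_d_rc_30_2 lc_d_Cert_tree lc_d_rc_27_0 lc_d_rc_20_3 lc_d_rc_28_2 lc_d_rc_12_1 lc_d_rc_30_2 lc_d_rc_28_2 lc_d_Cert_tree) (@D3.rec (fun _ => (Cert rels S Gen.d)) lc_d_rc_28_2 lc_d_rc_27_0 lc_d_rc_33_2 lc_d_Cert_tree lc_d_rc_29_2 lc_d_rc_33_2 lc_d_rc_33_2 lc_d_Cert_tree lc_d_Cert_tree lc_d_rc_27_0 lc_d_rc_27_0 lc_d_rc_29_2 lc_d_rc_28_2 lc_d_Cert_tree lc_d_rc_27_0 lc_d_rc_20_3 lc_d_rc_28_2 lc_d_rc_12_1 lc_d_rc_20_3 lc_d_rc_30_2 lc_d_rc_31_2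 lc_d_rc_27_0 lc_d_rc_20_3 lc_d_rc_28_2 lc_d_rc_12_1 lc_d_Cert_tree lc_d_rc_3_1 lc_d_rc_20_3 lc_d_rc_28_2 lc_d_rc_12_1 lc_d_Cert_tree lc_d_rc_30_2 lc_d_rc_3_1 lc_d_Cert_tree lc_d_rc_27_0 lc_d_Cert_tree lc_d_rc_20_3 lc_d_Cert_tree lc_d_rc_20_3 lc_d_rc_27_0 lc_d_rc_33_2 lc_d_Cert_tree lc_d_rc_12_1 lc_d_Cert_tree lc_d_rc_12_1 lc_d_rc_32_2 lc_d_rc_12_1 lc_d_rc_33_2 lc_d_rc_12_1 lc_d_Cert_tree lc_d_Cert_tree) (@D3.rec (fun _ => (Cert rels S Gen.d)) lc_d_rc_27_0 lc_d_rc_33_2 lc_d_Cert_tree lc_d_rc_27_0 lc_d_rc_20_3 lc_d_rc_28_2 lc_d_Cert_tree lc_d_rc_30_2 lc_d_rc_3_1 lc_d_rc_3_1 lc_d_Cert_tree lc_d_rc_3_1 lc_d_rc_27_0 lc_d_rc_33_2 lc_d_Cert_tree lc_d_rc_3_1 lc_d_rc_33_2 lc_d_rc_3_1 lc_d_Cert_tree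 lc_d_Cert_tree lc_d_rc_27_0 lc_d_rc_27_0 lc_d_rc_3_1 lc_d_rc_28_2 lc_d_Cert_tree lc_d_rc_27_0 lc_d_rc_20_3 lc_d_rc_28_2 lc_d_rc_12_1 lc_d_rc_20_3 lc_d_rc_30_2 lc_d_rc_31_2 lc_d_rc_27_0 lc_d_rc_20_3 lc_d_rc_28_2 lc_d_rc_12_1 lc_d_Cert_tree lc_d_rc_3_1 lc_d_rc_30_2 lc_d_Cert_tree lc_d_rc_30_2 lc_d_Cert_tree lc_d_rc_28_2 lc_d_rc_27_0 lc_d_rc_33_2 lc_d_Cert_tree lc_d_rc_20_3 lc_d_rc_33_2 lc_d_Cert_tree lc_d_rc_27_0 lc_d_rc_33_2) (@D3.rec (fun _ => (Cert rels S Gen.d)) lc_d_Cert_tree lc_d_Cert_tree lc_d_rc_27_0 lc_d_rc_27_0 lc_d_rc_29_2 lc_d_rc_28_2 lc_d_rc_33_2 lc_d_rc_28_2 lc_d_rc_12_1 lc_d_Cert_tree lc_d_rc_29_2 lc_d_rc_27_0 lc_d_rc_20_3 lc_d_rc_28_2 lc_d_rc_12_1 lc_d_Cert_tree lc_d_rc_28_2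 lc_d_rc_3_1 lc_d_rc_12_1 lc_d_rc_20_3 lc_d_rc_31_2 lc_d_rc_32_2 lc_d_rc_20_3 lc_d_rc_28_2 lc_d_rc_12_1 lc_d_Cert_tree lc_d_rc_30_2 lc_d_rc_3_1 lc_d_Cert_tree lc_d_rc_27_0 lc_d_rc_12_1 lc_d_Cert_tree lc_d_rc_30_2 lc_d_rc_3_1 lc_d_Cert_tree lc_d_rc_27_0 lc_d_rc_30_2 lc_d_Cert_tree lc_d_rc_27_0 lc_d_rc_29_2 lc_d_rc_27_0 lc_d_rc_31_2 lc_d_rc_56_38 lc_d_rc_33_2 lc_d_rc_20_3 lc_d_Cert_tree lc_d_rc_20_3 lc_d_rc_27_0 lc_d_rc_33_2 lc_d_Cert_tree lc_d_rc_28_2) (@D3.rec (fun _ => (Cert rels S Gen.d)) lc_d_rc_33_2 lc_d_Cert_tree lc_d_rc_27_0 lc_d_rc_12_1 lc_d_rc_12_1 lc_d_Cert_tree lc_d_rc_12_1 lc_d_rc_27_0 lc_d_rc_33_2 lc_d_Cert_tree lc_d_rc_12_1 lc_d_rc_33_2 lc_d_rc_12_1 lc_d_Cert_tree lc_d_Cert_tree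 lc_d_rc_27_0 lc_d_rc_27_0 lc_d_rc_20_3 lc_d_rc_28_2 lc_d_Cert_tree lc_d_rc_27_0 lc_d_rc_20_3 lc_d_rc_28_2 lc_d_rc_12_1 lc_d_Cert_tree lc_d_rc_30_2 lc_d_rc_27_0 lc_d_rc_30_2 lc_d_rc_31_2 lc_d_rc_3_1 lc_d_Cert_tree lc_d_rc_3_1 lc_d_Cert_tree lc_d_rc_3_1 lc_d_rc_27_0 lc_d_rc_33_2 lc_d_Cert_tree lc_d_rc_20_3 lc_d_rc_33_2 lc_d_Cert_tree lc_d_rc_27_0 lc_d_rc_3_1 lc_d_Cert_tree lc_d_Cert_tree lc_d_rc_27_0 lc_d_rc_27_0 lc_d_rc_3_1 lc_d_rc_28_2 lc_d_rc_3_1 lc_d_rc_28_2 lc_d_rc_12_1) (@D3.rec (fun _ => (Cert rels S Gen.d)) lc_d_Cert_tree lc_d_rc_29_2 lc_d_rc_27_0 lc_d_rc_20_3 lc_d_rc_28_2 lc_d_rc_12_1 lc_d_Cert_tree lc_d_rc_28_2 lc_d_rc_3_1 lc_d_rc_12_1 lc_d_rc_20_3 lc_d_rc_31_2 lc_d_rc_32_2 lc_d_rc_20_3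 lc_d_rc_28_2 lc_d_rc_12_1 lc_d_Cert_tree lc_d_rc_30_2 lc_d_rc_3_1 lc_d_Cert_tree lc_d_rc_27_0 lc_d_rc_31_2 lc_d_Cert_tree lc_d_rc_30_2 lc_d_rc_27_0 lc_d_rc_33_2 lc_d_Cert_tree lc_d_rc_27_0 lc_d_rc_33_2 lc_d_Cert_tree lc_d_rc_20_3 lc_d_rc_33_2 lc_d_Cert_tree lc_d_rc_27_0 lc_d_rc_12_1 lc_d_rc_20_3 lc_d_Cert_tree lc_d_rc_27_0 lc_d_rc_20_3 lc_d_rc_28_2 lc_d_Cert_tree lc_d_rc_27_0 lc_d_rc_27_0 lc_d_rc_29_2 lc_d_rc_28_2 lc_d_rc_33_2 lc_d_rc_28_2 lc_d_rc_12_1 lc_d_Cert_tree lc_d_rc_30_2 lc_d_rc_12_1) (@D3.rec (fun _ => (Cert rels S Gen.d)) lc_d_Cert_tree lc_d_rc_30_2 lc_d_rc_3_1 lc_d_Cert_tree lc_d_rc_27_0 lc_d_rc_30_2 lc_d_rc_29_2 lc_d_rc_20_3 lc_d_rc_28_2 lc_d_rc_12_1 lc_d_Cert_tree lc_d_rc_29_0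 lc_d_rc_3_1 lc_d_Cert_tree lc_d_rc_27_0 lc_d_rc_30_2 lc_d_rc_28_2 lc_d_rc_3_1 lc_d_rc_12_1 lc_d_rc_20_3 lc_d_rc_32_2 lc_d_rc_12_1 lc_d_Cert_tree lc_d_rc_30_2 lc_d_rc_3_1 lc_d_Cert_tree lc_d_rc_27_0 lc_d_rc_30_2 lc_d_Cert_tree lc_d_rc_27_0 lc_d_rc_29_2 lc_d_rc_3_1 lc_d_Cert_tree lc_d_rc_27_0 lc_d_rc_30_2 lc_d_rc_31_2 lc_d_Cert_tree lc_d_rc_27_0 lc_d_rc_30_2 lc_d_rc_30_2 lc_d_rc_29_2 lc_d_rc_27_0 lc_d_rc_31_2 lc_d_rc_33_2 lc_d_rc_30_2 lc_d_rc_32_2 lc_d_rc_31_2 lc_d_rc_33_2 lc_d_rc_33_2 lc_d_Cert_tree lc_d_Cert_tree) (@D3.rec (fun _ => (Cert rels S Gen.d)) lc_d_rc_20_3 lc_d_rc_27_0 lc_d_rc_33_2 lc_d_Cert_tree lc_d_rc_33_2 lc_d_Cert_tree lc_d_rc_27_0 lc_d_rc_28_2 lc_d_Cert_tree lc_d_rc_27_0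 lc_d_rc_20_3 lc_d_rc_28_2 lc_d_rc_12_1 lc_d_Cert_tree lc_d_rc_12_1 lc_d_Cert_tree lc_d_rc_12_1 lc_d_rc_27_0 lc_d_rc_33_2 lc_d_Cert_tree lc_d_rc_33_2 lc_d_Cert_tree lc_d_rc_27_0 lc_d_rc_12_1 lc_d_Cert_tree lc_d_Cert_tree lc_d_rc_27_0 lc_d_rc_27_0 lc_d_rc_20_3 lc_d_rc_28_2 lc_d_rc_20_3 lc_d_rc_28_2 lc_d_rc_12_1 lc_d_Cert_tree lc_d_rc_29_2 lc_d_rc_27_0 lc_d_rc_20_3 lc_d_rc_28_2 lc_d_rc_12_1 lc_d_Cert_tree lc_d_rc_28_2 lc_d_rc_3_1 lc_d_Cert_tree lc_d_rc_27_0 lc_d_rc_30_2 lc_d_rc_31_2 lc_d_rc_30_2 lc_d_rc_29_2 lc_d_rc_31_2 lc_d_rc_32_2 lc_d_rc_3_1) (@D3.rec (fun _ => (Cert rels S Gen.d)) lc_d_Cert_tree lc_d_rc_3_1 lc_d_rc_27_0 lc_d_rc_33_2 lc_d_Cert_tree lc_d_rc_27_0 lc_d_rc_33_2 lc_d_Cert_tree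 lc_d_rc_20_3 lc_d_rc_33_2 lc_d_Cert_tree lc_d_rc_27_0 lc_d_rc_20_3 lc_d_Cert_tree lc_d_rc_27_0 lc_d_rc_20_3 lc_d_rc_28_2 lc_d_Cert_tree lc_d_rc_27_0 lc_d_rc_27_0 lc_d_rc_3_1 lc_d_rc_28_2 lc_d_rc_3_1 lc_d_rc_28_2 lc_d_rc_12_1 lc_d_Cert_tree lc_d_rc_30_2 lc_d_rc_12_1 lc_d_Cert_tree lc_d_rc_30_2 lc_d_rc_3_1 lc_d_Cert_tree lc_d_rc_27_0 lc_d_rc_30_2 lc_d_rc_29_2 lc_d_rc_20_3 lc_d_rc_28_2 lc_d_rc_12_1 lc_d_Cert_tree lc_d_rc_29_0 lc_d_rc_3_1 lc_d_Cert_tree lc_d_rc_27_0 lc_d_rc_30_2 lc_d_rc_28_2 lc_d_rc_3_1 lc_d_rc_12_1 lc_d_rc_20_3 lc_d_rc_32_2 lc_d_rc_12_1 lc_d_Cert_tree) (@D3.rec (fun _ => (Cert rels S Gen.d)) lc_d_rc_30_2 lc_d_rc_3_1 lc_d_Cert_tree lc_d_rc_27_0 lc_d_rc_30_2 lc_d_Cert_tree lc_d_rc_27_0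 lc_d_rc_29_2 lc_d_Cert_tree lc_d_rc_31_2 lc_d_rc_27_0 lc_d_rc_33_2 lc_d_Cert_tree lc_d_rc_20_3 lc_d_rc_28_2 lc_d_rc_33_2 lc_d_Cert_tree lc_d_rc_27_0 lc_d_rc_20_3 lc_d_rc_33_2 lc_d_Cert_tree lc_d_rc_27_0 lc_d_rc_12_1 lc_d_rc_20_3 lc_d_Cert_tree lc_d_rc_27_0 lc_d_rc_20_3 lc_d_rc_28_2 lc_d_rc_27_0 lc_d_rc_20_3 lc_d_rc_28_2 lc_d_rc_12_1 lc_d_Cert_tree lc_d_rc_30_2 lc_d_rc_27_0 lc_d_rc_29_2 lc_d_rc_28_2 lc_d_rc_33_2 lc_d_rc_28_2 lc_d_rc_12_1 lc_d_Cert_tree lc_d_rc_30_2 lc_d_rc_12_1 lc_d_Cert_tree lc_d_rc_30_2 lc_d_rc_3_1 lc_d_Cert_tree lc_d_rc_27_0 lc_d_rc_30_2 lc_d_rc_31_2 lc_d_rc_3_1) (@D3.rec (fun _ => (Cert rels S Gen.d)) lc_d_Cert_tree lc_d_rc_27_0 lc_d_rc_30_2 lc_d_rc_31_2 lc_d_Cert_tree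 lc_d_rc_27_0 lc_d_rc_30_2 lc_d_rc_30_2 lc_d_rc_31_2 lc_d_rc_29_2 lc_d_rc_12_1 lc_d_Cert_tree lc_d_rc_29_0 lc_d_rc_3_1 lc_d_Cert_tree lc_d_rc_27_0 lc_d_rc_30_2 lc_d_rc_29_0 lc_d_Cert_tree lc_d_rc_27_0 lc_d_rc_30_2 lc_d_rc_30_2 lc_d_rc_29_2 lc_d_rc_31_2 lc_d_rc_28_2 lc_d_rc_3_1 lc_d_rc_12_1 lc_d_rc_20_3 lc_d_rc_3_1 lc_d_Cert_tree lc_d_rc_27_0 lc_d_rc_30_2 lc_d_rc_31_2 lc_d_Cert_tree lc_d_rc_27_0 lc_d_rc_30_2 lc_d_rc_30_2 lc_d_rc_29_2 lc_d_rc_27_0 lc_d_Cert_tree lc_d_rc_27_0 lc_d_rc_30_2 lc_d_rc_30_2 lc_d_rc_29_2 lc_d_rc_31_2 lc_d_rc_27_0 lc_d_rc_30_2 lc_d_rc_30_2 lc_d_rc_28_2 lc_d_rc_29_2 lc_d_rc_30_2) (@D3.rec (fun _ => (Cert rels S Gen.d)) lc_d_rc_32_2 lc_d_rc_33_2 lc_d_Cert_tree lc_d_rc_30_2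 lc_d_rc_56_10 lc_d_rc_30_2 lc_d_rc_32_2 lc_d_rc_33_2 lc_d_rc_33_2 lc_d_Cert_tree lc_d_Cert_tree lc_d_rc_27_0 lc_d_rc_27_0 lc_d_rc_33_2 lc_d_Cert_tree lc_d_rc_33_2 lc_d_Cert_tree lc_d_rc_27_0 lc_d_Cert_tree lc_d_rc_27_0 lc_d_rc_20_3 lc_d_rc_28_2 lc_d_Cert_tree lc_d_rc_27_0 lc_d_rc_20_3 lc_d_rc_28_2 lc_d_rc_12_1 lc_d_Cert_tree lc_d_rc_30_2 lc_d_rc_12_1 lc_d_Cert_tree lc_d_rc_12_1 lc_d_rc_27_0 lc_d_rc_33_2 lc_d_Cert_tree lc_d_rc_27_0 lc_d_rc_33_2 lc_d_Cert_tree lc_d_rc_33_2 lc_d_Cert_tree lc_d_rc_27_0 lc_d_Cert_tree lc_d_rc_27_0 lc_d_rc_20_3 lc_d_rc_28_2 lc_d_Cert_tree lc_d_rc_27_0 lc_d_rc_27_0 lc_d_rc_20_3 lc_d_rc_28_2 lc_d_rc_20_3) (@D3.rec (fun _ => (Cert rels S Gen.d)) lc_d_rc_28_2 lc_d_rc_12_1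 lc_d_Cert_tree lc_d_rc_30_2 lc_d_rc_12_1 lc_d_Cert_tree lc_d_rc_30_2 lc_d_rc_3_1 lc_d_Cert_tree lc_d_rc_27_0 lc_d_rc_30_2 lc_d_rc_29_2 lc_d_rc_20_3 lc_d_rc_28_2 lc_d_rc_12_1 lc_d_Cert_tree lc_d_rc_29_0 lc_d_rc_3_1 lc_d_Cert_tree lc_d_rc_27_0 lc_d_rc_30_2 lc_d_rc_28_2 lc_d_Cert_tree lc_d_rc_27_0 lc_d_rc_30_2 lc_d_rc_30_2 lc_d_rc_29_2 lc_d_rc_31_2 lc_d_rc_32_2 lc_d_rc_28_2 lc_d_rc_31_2 lc_d_rc_29_2 lc_d_rc_33_2 lc_d_rc_32_2 lc_d_Cert_tree lc_d_rc_3_1 lc_d_rc_27_0 lc_d_rc_33_2 lc_d_Cert_tree lc_d_rc_20_3 lc_d_rc_28_2 lc_d_rc_33_2 lc_d_Cert_tree lc_d_rc_27_0 lc_d_rc_20_3 lc_d_rc_33_2 lc_d_Cert_tree lc_d_rc_27_0 lc_d_rc_20_3 lc_d_Cert_tree lc_d_rc_27_0) (@D3.rec (fun _ => (Cert rels S Gen.d))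 lc_d_rc_20_3 lc_d_rc_28_2 lc_d_rc_27_0 lc_d_rc_20_3 lc_d_rc_28_2 lc_d_rc_12_1 lc_d_Cert_tree lc_d_rc_30_2 lc_d_rc_27_0 lc_d_rc_3_1 lc_d_rc_28_2 lc_d_rc_3_1 lc_d_rc_28_2 lc_d_rc_12_1 lc_d_Cert_tree lc_d_rc_30_2 lc_d_rc_12_1 lc_d_Cert_tree lc_d_rc_30_2 lc_d_rc_3_1 lc_d_Cert_tree lc_d_rc_27_0 lc_d_rc_30_2 lc_d_rc_31_2 lc_d_rc_3_1 lc_d_Cert_tree lc_d_rc_27_0 lc_d_rc_30_2 lc_d_rc_31_2 lc_d_Cert_tree lc_d_rc_27_0 lc_d_rc_30_2 lc_d_rc_30_2 lc_d_rc_31_2 lc_d_rc_29_2 lc_d_rc_12_1 lc_d_Cert_tree lc_d_rc_29_0 lc_d_rc_3_1 lc_d_Cert_tree lc_d_rc_27_0 lc_d_rc_30_2 lc_d_rc_29_0 lc_d_Cert_tree lc_d_rc_27_0 lc_d_rc_30_2 lc_d_rc_30_2 lc_d_rc_29_2 lc_d_rc_31_2 lc_d_rc_28_2 lc_d_rc_3_1) (@D3.rec (fun _ =>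 (Cert rels S Gen.d)) lc_d_rc_12_1 lc_d_rc_20_3 lc_d_rc_3_1 lc_d_Cert_tree lc_d_rc_27_0 lc_d_rc_30_2 lc_d_rc_31_2 lc_d_Cert_tree lc_d_rc_27_0 lc_d_rc_30_2 lc_d_rc_30_2 lc_d_rc_29_2 lc_d_rc_27_0 lc_d_rc_20_3 lc_d_rc_29_2 lc_d_rc_33_2 lc_d_rc_27_0 lc_d_rc_33_2 lc_d_Cert_tree lc_d_rc_20_3 lc_d_rc_28_2 lc_d_rc_33_2 lc_d_Cert_tree lc_d_rc_27_0 lc_d_rc_12_1 lc_d_Cert_tree lc_d_rc_20_3 lc_d_rc_28_2 lc_d_Cert_tree lc_d_rc_27_0 lc_d_rc_20_3 lc_d_rc_28_2 lc_d_rc_12_1 lc_d_rc_20_3 lc_d_Cert_tree lc_d_rc_27_0 lc_d_rc_20_3 lc_d_rc_28_2 lc_d_rc_27_0 lc_d_rc_20_3 lc_d_rc_28_2 lc_d_rc_12_1 lc_d_Cert_tree lc_d_rc_30_2 lc_d_rc_29_2 lc_d_Cert_tree lc_d_rc_30_2 lc_d_Cert_tree lc_d_rc_27_0 lc_d_rc_30_2 lc_d_rc_31_2)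 (@D3.rec (fun _ => (Cert rels S Gen.d)) lc_d_rc_33_2 lc_d_rc_28_2 lc_d_rc_12_1 lc_d_Cert_tree lc_d_rc_30_2 lc_d_rc_12_1 lc_d_Cert_tree lc_d_rc_30_2 lc_d_rc_3_1 lc_d_Cert_tree lc_d_rc_27_0 lc_d_rc_30_2 lc_d_rc_31_2 lc_d_rc_3_1 lc_d_Cert_tree lc_d_rc_27_0 lc_d_rc_30_2 lc_d_rc_31_2 lc_d_Cert_tree lc_d_rc_27_0 lc_d_rc_30_2 lc_d_rc_30_2 lc_d_rc_29_2 lc_d_rc_31_2 lc_d_rc_32_2 lc_d_Cert_tree lc_d_rc_27_0 lc_d_rc_30_2 lc_d_rc_30_2 lc_d_rc_29_2 lc_d_rc_31_2 lc_d_rc_32_2 lc_d_rc_27_0 lc_d_rc_30_2 lc_d_rc_20_3 lc_d_rc_30_2 lc_d_rc_31_2 lc_d_rc_28_2 lc_d_rc_31_2 lc_d_rc_32_2 lc_d_rc_3_1 lc_d_Cert_tree lc_d_rc_27_0 lc_d_rc_30_2 lc_d_rc_29_0 lc_d_Cert_tree lc_d_rc_27_0 lc_d_rc_30_2 lc_d_rc_30_2 lc_d_rc_29_2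 lc_d_rc_31_2) (@D3.rec (fun _ => (Cert rels S Gen.d)) lc_d_rc_29_0 lc_d_rc_27_0 lc_d_rc_30_2 lc_d_rc_30_2 lc_d_rc_31_2 lc_d_rc_31_2 lc_d_rc_29_2 lc_d_rc_32_2 lc_d_rc_3_1 lc_d_rc_12_1 lc_d_Cert_tree lc_d_rc_27_0 lc_d_rc_30_2 lc_d_rc_30_2 lc_d_rc_29_2 lc_d_rc_31_2 lc_d_rc_27_0 lc_d_rc_30_2 lc_d_rc_30_2 lc_d_rc_28_2 lc_d_rc_29_2 lc_d_rc_27_0 lc_d_rc_30_2 lc_d_rc_30_2 lc_d_rc_31_2 lc_d_rc_28_2 lc_d_rc_31_2 lc_d_rc_29_2 lc_d_rc_30_2 lc_d_rc_28_2 lc_d_Cert_tree lc_d_rc_28_2 lc_d_rc_30_2 lc_d_rc_30_2 lc_d_rc_33_2 lc_d_Cert_tree lc_d_rc_27_0 lc_d_rc_31_2 lc_d_rc_56_10 lc_d_rc_30_2 lc_d_rc_30_2 lc_d_Cert_tree lc_d_rc_33_2 lc_d_Cert_tree lc_d_Cert_tree lc_d_rc_27_0 lc_d_rc_27_0 lc_d_rc_20_3 lc_d_rc_28_2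 lc_d_rc_33_2 lc_d_Cert_tree) (@D3.rec (fun _ => (Cert rels S Gen.d)) lc_d_rc_27_0 lc_d_Cert_tree lc_d_rc_27_0 lc_d_rc_20_3 lc_d_rc_28_2 lc_d_rc_27_0 lc_d_rc_20_3 lc_d_rc_28_2 lc_d_rc_12_1 lc_d_Cert_tree lc_d_rc_30_2 lc_d_rc_27_0 lc_d_rc_29_2 lc_d_rc_28_2 lc_d_rc_12_1 lc_d_Cert_tree lc_d_rc_30_2 lc_d_rc_3_1 lc_d_Cert_tree lc_d_rc_27_0 lc_d_rc_30_2 lc_d_rc_31_2 lc_d_Cert_tree lc_d_rc_12_1 lc_d_rc_27_0 lc_d_rc_33_2 lc_d_Cert_tree lc_d_rc_28_2 lc_d_rc_33_2 lc_d_Cert_tree lc_d_rc_27_0 lc_d_rc_33_2 lc_d_Cert_tree lc_d_rc_27_0 lc_d_Cert_tree lc_d_rc_27_0 lc_d_rc_20_3 lc_d_rc_28_2 lc_d_rc_27_0 lc_d_rc_20_3 lc_d_rc_28_2 lc_d_rc_12_1 lc_d_Cert_tree lc_d_rc_30_2 lc_d_rc_27_0 lc_d_rc_20_3 lc_d_rc_28_2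 lc_d_rc_20_3 lc_d_rc_28_2 lc_d_rc_12_1 lc_d_Cert_tree) (@D3.rec (fun _ => (Cert rels S Gen.d)) lc_d_rc_30_2 lc_d_rc_12_1 lc_d_Cert_tree lc_d_rc_30_2 lc_d_rc_3_1 lc_d_Cert_tree lc_d_rc_27_0 lc_d_rc_30_2 lc_d_rc_31_2 lc_d_rc_3_1 lc_d_Cert_tree lc_d_rc_27_0 lc_d_rc_30_2 lc_d_rc_31_2 lc_d_Cert_tree lc_d_rc_27_0 lc_d_rc_30_2 lc_d_rc_30_2 lc_d_rc_29_2 lc_d_rc_31_2 lc_d_rc_29_2 lc_d_rc_12_1 lc_d_Cert_tree lc_d_rc_29_0 lc_d_rc_3_1 lc_d_Cert_tree lc_d_rc_27_0 lc_d_rc_30_2 lc_d_rc_29_0 lc_d_Cert_tree lc_d_rc_27_0 lc_d_rc_30_2 lc_d_rc_30_2 lc_d_rc_29_2 lc_d_rc_31_2 lc_d_rc_28_2 lc_d_rc_27_0 lc_d_rc_30_2 lc_d_rc_30_2 lc_d_rc_12_1 lc_d_rc_31_2 lc_d_rc_28_2 lc_d_rc_31_2 lc_d_rc_29_2 lc_d_rc_33_2 lc_d_rc_32_2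 lc_d_rc_28_2 lc_d_Cert_tree lc_d_rc_32_2 lc_d_rc_29_2 lc_d_rc_33_2) (@D3.rec (fun _ => (Cert rels S Gen.d)) lc_d_rc_27_0 lc_d_rc_33_2 lc_d_Cert_tree lc_d_rc_20_3 lc_d_rc_28_2 lc_d_rc_33_2 lc_d_Cert_tree lc_d_rc_27_0 lc_d_Cert_tree lc_d_rc_20_3 lc_d_rc_28_2 lc_d_Cert_tree lc_d_rc_27_0 lc_d_rc_20_3 lc_d_rc_28_2 lc_d_rc_20_3 lc_d_Cert_tree lc_d_rc_27_0 lc_d_rc_20_3 lc_d_rc_28_2 lc_d_rc_27_0 lc_d_rc_20_3 lc_d_rc_28_2 lc_d_rc_12_1 lc_d_Cert_tree lc_d_rc_30_2 lc_d_rc_29_2 lc_d_rc_12_1 lc_d_Cert_tree lc_d_rc_30_2 lc_d_rc_3_1 lc_d_Cert_tree lc_d_rc_27_0 lc_d_rc_30_2 lc_d_rc_31_2 lc_d_rc_3_1 lc_d_rc_28_2 lc_d_rc_12_1 lc_d_Cert_tree lc_d_rc_30_2 lc_d_rc_12_1 lc_d_Cert_tree lc_d_rc_30_2 lc_d_rc_3_1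 lc_d_Cert_tree lc_d_rc_27_0 lc_d_rc_30_2 lc_d_rc_31_2 lc_d_rc_3_1 lc_d_Cert_tree lc_d_rc_27_0) (@D3.rec (fun _ => (Cert rels S Gen.d)) lc_d_rc_30_2 lc_d_rc_31_2 lc_d_Cert_tree lc_d_rc_27_0 lc_d_rc_30_2 lc_d_rc_30_2 lc_d_rc_29_2 lc_d_rc_31_2 lc_d_rc_32_2 lc_d_Cert_tree lc_d_rc_27_0 lc_d_rc_30_2 lc_d_rc_30_2 lc_d_rc_29_2 lc_d_rc_31_2 lc_d_rc_32_2 lc_d_rc_27_0 lc_d_rc_30_2 lc_d_rc_20_3 lc_d_rc_30_2 lc_d_rc_31_2 lc_d_rc_28_2 lc_d_rc_31_2 lc_d_rc_32_2 lc_d_rc_3_1 lc_d_Cert_tree lc_d_rc_27_0 lc_d_rc_30_2 lc_d_rc_29_0 lc_d_Cert_tree lc_d_rc_27_0 lc_d_rc_30_2 lc_d_rc_30_2 lc_d_rc_29_2 lc_d_rc_31_2 lc_d_rc_29_0 lc_d_rc_27_0 lc_d_rc_30_2 lc_d_rc_20_3 lc_d_rc_30_2 lc_d_rc_12_1 lc_d_rc_31_2 lc_d_rc_31_2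 lc_d_rc_29_2 lc_d_rc_33_2 lc_d_rc_32_2 lc_d_rc_3_1 lc_d_rc_12_1 lc_d_Cert_tree lc_d_rc_27_0 lc_d_rc_30_2) (@D3.rec (fun _ => (Cert rels S Gen.d)) lc_d_rc_30_2 lc_d_rc_29_2 lc_d_rc_31_2 lc_d_rc_27_0 lc_d_rc_30_2 lc_d_rc_20_3 lc_d_rc_30_2 lc_d_rc_29_2 lc_d_rc_28_2 lc_d_rc_29_2 lc_d_rc_33_2 lc_d_rc_3_1 lc_d_Cert_tree lc_d_rc_20_3 lc_d_rc_28_2 lc_d_rc_33_2 lc_d_Cert_tree lc_d_rc_27_0 lc_d_rc_12_1 lc_d_Cert_tree lc_d_rc_20_3 lc_d_rc_28_2 lc_d_Cert_tree lc_d_rc_27_0 lc_d_rc_20_3 lc_d_rc_28_2 lc_d_Cert_tree lc_d_rc_27_0 lc_d_rc_33_2 lc_d_Cert_tree lc_d_rc_27_0 lc_d_rc_20_3 lc_d_rc_28_2 lc_d_rc_12_1 lc_d_Cert_tree lc_d_rc_28_2 lc_d_rc_27_0 lc_d_rc_20_3 lc_d_rc_28_2 lc_d_rc_12_1 lc_d_Cert_tree lc_d_rc_30_2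 lc_d_rc_29_2 lc_d_Cert_tree lc_d_rc_30_2 lc_d_Cert_tree lc_d_rc_27_0 lc_d_rc_30_2 lc_d_rc_31_2 lc_d_rc_29_2 lc_d_rc_27_0) (@D3.rec (fun _ => (Cert rels S Gen.d)) lc_d_rc_30_2 lc_d_rc_31_2 lc_d_rc_27_0 lc_d_rc_30_2 lc_d_rc_30_2 lc_d_rc_29_2 lc_d_rc_31_2 lc_d_rc_32_2 lc_d_rc_12_1 lc_d_Cert_tree lc_d_rc_30_2 lc_d_rc_3_1 lc_d_Cert_tree lc_d_rc_27_0 lc_d_rc_30_2 lc_d_rc_31_2 lc_d_rc_3_1 lc_d_Cert_tree lc_d_rc_27_0 lc_d_rc_30_2 lc_d_rc_31_2 lc_d_Cert_tree lc_d_rc_27_0 lc_d_rc_30_2 lc_d_rc_30_2 lc_d_rc_29_2 lc_d_rc_31_2 lc_d_rc_32_2 lc_d_Cert_tree lc_d_rc_27_0 lc_d_rc_30_2 lc_d_rc_30_2 lc_d_rc_29_2 lc_d_rc_31_2 lc_d_rc_32_2 lc_d_rc_27_0 lc_d_rc_30_2 lc_d_rc_30_2 lc_d_rc_31_2 lc_d_rc_28_2 lc_d_rc_31_2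 lc_d_rc_29_2 lc_d_rc_32_2 lc_d_rc_27_0 lc_d_rc_30_2 lc_d_rc_20_3 lc_d_rc_30_2 lc_d_rc_12_1 lc_d_rc_31_2 lc_d_rc_28_2 lc_d_rc_31_2) (@D3.rec (fun _ => (Cert rels S Gen.d)) lc_d_rc_29_2 lc_d_rc_32_2 lc_d_rc_3_1 lc_d_rc_30_2 lc_d_rc_31_2 lc_d_rc_20_3 lc_d_rc_12_1 lc_d_rc_31_2 lc_d_rc_32_2 lc_d_rc_28_2 lc_d_rc_32_2 lc_d_Cert_tree lc_d_rc_27_0 lc_d_rc_30_2 lc_d_rc_30_2 lc_d_rc_29_2 lc_d_rc_31_2 lc_d_rc_29_0 lc_d_rc_27_0 lc_d_rc_30_2 lc_d_rc_30_2 lc_d_rc_31_2 lc_d_rc_28_2 lc_d_rc_31_2 lc_d_rc_29_2 lc_d_rc_32_2 lc_d_rc_30_2 lc_d_rc_31_2 lc_d_rc_31_2 lc_d_rc_32_2 lc_d_rc_32_2 lc_d_rc_29_2 lc_d_rc_3_1 lc_d_rc_27_0 lc_d_rc_30_2 lc_d_rc_30_2 lc_d_rc_31_2 lc_d_rc_28_2 lc_d_rc_31_2 lc_d_rc_29_2 lc_d_rc_30_2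 lc_d_rc_28_2 lc_d_Cert_tree lc_d_rc_30_2 lc_d_rc_31_2 lc_d_rc_28_2 lc_d_rc_31_2 lc_d_rc_28_2 lc_d_Cert_tree lc_d_rc_29_2 lc_d_rc_3_1)
def ce_d_1 : D2 → D3 → (Cert rels S Gen.d) := @D2.rec (fun _ => D3 → (Cert rels S Gen.d)) (@D3.rec (fun _ => (Cert rels S Gen.d)) lc_d_rc_27_0 lc_d_rc_28_2 lc_d_rc_28_2 lc_d_rc_31_2 lc_d_rc_30_2 lc_d_Cert_tree lc_d_Cert_tree lc_d_rc_27_0 lc_d_rc_29_2 lc_d_rc_28_2 lc_d_rc_31_2 lc_d_rc_31_2 lc_d_rc_30_2 lc_d_Cert_tree lc_d_Cert_tree lc_d_rc_27_0 lc_d_Cert_tree lc_d_rc_27_0 lc_d_rc_27_0 lc_d_rc_20_3 lc_d_rc_28_2 lc_d_rc_20_3 lc_d_rc_28_2 lc_d_rc_12_1 lc_d_Cert_tree lc_d_rc_30_2 lc_d_Cert_tree lc_d_rc_27_0 lc_d_rc_20_3 lc_d_rc_28_2 lc_d_rc_27_0 lc_d_rc_20_3 lc_d_rc_28_2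 lc_d_rc_12_1 lc_d_Cert_tree lc_d_rc_30_2 lc_d_rc_29_2 lc_d_rc_28_2 lc_d_rc_12_1 lc_d_Cert_tree lc_d_rc_30_2 lc_d_rc_3_1 lc_d_Cert_tree lc_d_rc_27_0 lc_d_rc_30_2 lc_d_rc_31_2 lc_d_rc_20_3 lc_d_rc_28_2 lc_d_rc_12_1 lc_d_Cert_tree lc_d_rc_30_2) (@D3.rec (fun _ => (Cert rels S Gen.d)) lc_d_rc_3_1 lc_d_Cert_tree lc_d_rc_27_0 lc_d_rc_30_2 lc_d_rc_31_2 lc_d_Cert_tree lc_d_rc_27_0 lc_d_rc_30_2 lc_d_rc_30_2 lc_d_rc_28_2 lc_d_rc_31_2 lc_d_rc_32_2 lc_d_rc_27_0 lc_d_rc_33_2 lc_d_Cert_tree lc_d_rc_28_2 lc_d_rc_33_2 lc_d_Cert_tree lc_d_rc_27_0 lc_d_rc_28_2 lc_d_Cert_tree lc_d_rc_27_0 lc_d_rc_20_3 lc_d_rc_28_2 lc_d_Cert_tree lc_d_rc_27_0 lc_d_rc_20_3 lc_d_rc_28_2 lc_d_rc_27_0 lc_d_rc_20_3 lc_d_rc_28_2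 lc_d_rc_12_1 lc_d_Cert_tree lc_d_rc_30_2 lc_d_rc_20_3 lc_d_rc_29_2 lc_d_rc_12_1 lc_d_Cert_tree lc_d_rc_30_2 lc_d_rc_3_1 lc_d_Cert_tree lc_d_rc_27_0 lc_d_rc_30_2 lc_d_rc_31_2 lc_d_rc_20_3 lc_d_rc_28_2 lc_d_rc_12_1 lc_d_Cert_tree lc_d_rc_30_2 lc_d_rc_12_1 lc_d_Cert_tree) (@D3.rec (fun _ => (Cert rels S Gen.d)) lc_d_rc_30_2 lc_d_rc_3_1 lc_d_Cert_tree lc_d_rc_27_0 lc_d_rc_30_2 lc_d_rc_31_2 lc_d_rc_3_1 lc_d_Cert_tree lc_d_rc_27_0 lc_d_rc_30_2 lc_d_rc_31_2 lc_d_Cert_tree lc_d_rc_27_0 lc_d_rc_30_2 lc_d_rc_30_2 lc_d_rc_29_2 lc_d_rc_31_2 lc_d_rc_32_2 lc_d_Cert_tree lc_d_rc_27_0 lc_d_rc_30_2 lc_d_rc_30_2 lc_d_rc_29_2 lc_d_rc_31_2 lc_d_rc_32_2 lc_d_rc_27_0 lc_d_rc_30_2 lc_d_rc_20_3 lc_d_rc_30_2 lc_d_rc_12_1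 lc_d_rc_31_2 lc_d_rc_28_2 lc_d_rc_31_2 lc_d_rc_29_2 lc_d_rc_33_2 lc_d_rc_32_2 lc_d_rc_3_1 lc_d_Cert_tree lc_d_rc_27_0 lc_d_rc_30_2 lc_d_rc_29_0 lc_d_Cert_tree lc_d_rc_27_0 lc_d_rc_30_2 lc_d_rc_30_2 lc_d_rc_29_2 lc_d_rc_31_2 lc_d_rc_29_0 lc_d_rc_27_0 lc_d_rc_30_2 lc_d_rc_20_3) (@D3.rec (fun _ => (Cert rels S Gen.d)) lc_d_rc_30_2 lc_d_rc_12_1 lc_d_rc_31_2 lc_d_rc_28_2 lc_d_rc_31_2 lc_d_rc_29_2 lc_d_rc_33_2 lc_d_rc_32_2 lc_d_rc_30_2 lc_d_rc_3_1 lc_d_rc_31_2 lc_d_rc_12_1 lc_d_rc_31_2 lc_d_rc_12_1 lc_d_rc_12_1 lc_d_rc_32_2 lc_d_rc_28_2 lc_d_Cert_tree lc_d_rc_32_2 lc_d_rc_29_2 lc_d_rc_33_2 lc_d_rc_30_2 lc_d_rc_28_2 lc_d_Cert_tree lc_d_rc_27_0 lc_d_rc_33_2 lc_d_rc_29_2 lc_d_rc_33_2 lc_d_rc_20_3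 lc_d_rc_28_2 lc_d_rc_33_2 lc_d_Cert_tree lc_d_rc_27_0 lc_d_Cert_tree lc_d_rc_20_3 lc_d_rc_28_2 lc_d_Cert_tree lc_d_rc_27_0 lc_d_rc_20_3 lc_d_rc_28_2 lc_d_rc_27_0 lc_d_rc_33_2 lc_d_Cert_tree lc_d_rc_27_0 lc_d_rc_20_3 lc_d_rc_28_2 lc_d_rc_12_1 lc_d_Cert_tree lc_d_rc_28_2 lc_d_rc_27_0 lc_d_rc_20_3) (@D3.rec (fun _ => (Cert rels S Gen.d)) lc_d_rc_28_2 lc_d_rc_12_1 lc_d_Cert_tree lc_d_rc_30_2 lc_d_rc_29_2 lc_d_rc_12_1 lc_d_Cert_tree lc_d_rc_30_2 lc_d_rc_3_1 lc_d_Cert_tree lc_d_rc_27_0 lc_d_rc_30_2 lc_d_rc_31_2 lc_d_rc_29_2 lc_d_Cert_tree lc_d_rc_27_0 lc_d_rc_30_2 lc_d_rc_31_2 lc_d_Cert_tree lc_d_rc_27_0 lc_d_rc_30_2 lc_d_rc_30_2 lc_d_rc_29_2 lc_d_rc_31_2 lc_d_rc_32_2 lc_d_rc_12_1 lc_d_Cert_tree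 lc_d_rc_30_2 lc_d_rc_3_1 lc_d_Cert_tree lc_d_rc_27_0 lc_d_rc_30_2 lc_d_rc_31_2 lc_d_rc_3_1 lc_d_Cert_tree lc_d_rc_27_0 lc_d_rc_30_2 lc_d_rc_31_2 lc_d_Cert_tree lc_d_rc_27_0 lc_d_rc_30_2 lc_d_rc_30_2 lc_d_rc_29_2 lc_d_rc_31_2 lc_d_rc_32_2 lc_d_Cert_tree lc_d_rc_27_0 lc_d_rc_30_2 lc_d_rc_30_2 lc_d_rc_29_2 lc_d_rc_31_2) (@D3.rec (fun _ => (Cert rels S Gen.d)) lc_d_rc_32_2 lc_d_rc_27_0 lc_d_rc_30_2 lc_d_rc_20_3 lc_d_rc_30_2 lc_d_rc_12_1 lc_d_rc_31_2 lc_d_rc_28_2 lc_d_rc_31_2 lc_d_rc_29_2 lc_d_rc_33_2 lc_d_rc_32_2 lc_d_rc_27_0 lc_d_rc_30_2 lc_d_rc_20_3 lc_d_rc_30_2 lc_d_rc_12_1 lc_d_rc_31_2 lc_d_rc_28_2 lc_d_rc_31_2 lc_d_rc_29_2 lc_d_rc_32_2 lc_d_rc_3_1 lc_d_rc_30_2 lc_d_rc_31_2 lc_d_rc_20_3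 lc_d_rc_12_1 lc_d_rc_31_2 lc_d_rc_32_2 lc_d_rc_28_2 lc_d_rc_32_2 lc_d_Cert_tree lc_d_rc_27_0 lc_d_rc_30_2 lc_d_rc_30_2 lc_d_rc_29_2 lc_d_rc_31_2 lc_d_rc_29_0 lc_d_rc_27_0 lc_d_rc_30_2 lc_d_rc_20_3 lc_d_rc_30_2 lc_d_rc_12_1 lc_d_rc_31_2 lc_d_rc_28_2 lc_d_rc_31_2 lc_d_rc_29_2 lc_d_rc_33_2 lc_d_rc_32_2 lc_d_rc_3_1 lc_d_rc_30_2) (@D3.rec (fun _ => (Cert rels S Gen.d)) lc_d_rc_31_2 lc_d_rc_20_3 lc_d_Cert_tree lc_d_rc_31_2 lc_d_rc_12_1 lc_d_rc_32_2 lc_d_rc_32_2 lc_d_rc_29_2 lc_d_rc_33_2 lc_d_rc_3_1 lc_d_rc_27_0 lc_d_rc_30_2 lc_d_rc_20_3 lc_d_rc_30_2 lc_d_rc_29_2 lc_d_rc_31_2 lc_d_rc_28_2 lc_d_rc_31_2 lc_d_rc_29_2 lc_d_rc_33_2 lc_d_rc_3_1 lc_d_rc_30_2 lc_d_rc_20_3 lc_d_Cert_tree lc_d_rc_28_2 lc_d_rc_29_2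 lc_d_Cert_tree lc_d_rc_33_2 lc_d_rc_27_0 lc_d_rc_12_1 lc_d_Cert_tree lc_d_rc_20_3 lc_d_rc_30_2 lc_d_rc_28_2 lc_d_Cert_tree lc_d_rc_27_0 lc_d_rc_20_3 lc_d_rc_28_2 lc_d_Cert_tree lc_d_rc_27_0 lc_d_rc_33_2 lc_d_Cert_tree lc_d_rc_27_0 lc_d_rc_20_3 lc_d_rc_28_2 lc_d_rc_12_1 lc_d_Cert_tree lc_d_rc_28_2 lc_d_rc_27_0 lc_d_rc_29_2 lc_d_rc_33_2) (@D3.rec (fun _ => (Cert rels S Gen.d)) lc_d_rc_27_0 lc_d_rc_28_2 lc_d_Cert_tree lc_d_rc_28_2 lc_d_Cert_tree lc_d_rc_27_0 lc_d_rc_30_2 lc_d_rc_28_2 lc_d_rc_29_2 lc_d_Cert_tree lc_d_rc_30_2 lc_d_Cert_tree lc_d_rc_27_0 lc_d_rc_30_2 lc_d_rc_31_2 lc_d_rc_29_2 lc_d_rc_27_0 lc_d_rc_30_2 lc_d_rc_31_2 lc_d_rc_27_0 lc_d_rc_30_2 lc_d_rc_30_2 lc_d_rc_29_2 lc_d_rc_31_2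 lc_d_rc_32_2 lc_d_rc_29_2 lc_d_rc_30_2 lc_d_rc_31_2 lc_d_rc_32_2 lc_d_rc_20_3 lc_d_rc_30_2 lc_d_rc_12_1 lc_d_rc_31_2 lc_d_rc_28_2 lc_d_rc_31_2 lc_d_rc_29_2 lc_d_rc_32_2 lc_d_rc_3_1 lc_d_Cert_tree lc_d_rc_27_0 lc_d_rc_30_2 lc_d_rc_31_2 lc_d_Cert_tree lc_d_rc_27_0 lc_d_rc_30_2 lc_d_rc_30_2 lc_d_rc_29_2 lc_d_rc_31_2 lc_d_rc_32_2 lc_d_Cert_tree lc_d_rc_27_0) (@D3.rec (fun _ => (Cert rels S Gen.d)) lc_d_rc_30_2 lc_d_rc_30_2 lc_d_rc_29_2 lc_d_rc_31_2 lc_d_rc_32_2 lc_d_rc_27_0 lc_d_rc_30_2 lc_d_rc_30_2 lc_d_rc_31_2 lc_d_rc_28_2 lc_d_rc_31_2 lc_d_rc_29_2 lc_d_rc_32_2 lc_d_rc_27_0 lc_d_rc_30_2 lc_d_rc_30_2 lc_d_rc_31_2 lc_d_rc_28_2 lc_d_rc_31_2 lc_d_rc_29_2 lc_d_rc_32_2 lc_d_rc_30_2 lc_d_rc_31_2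 lc_d_rc_12_1 lc_d_rc_31_2 lc_d_rc_32_2 lc_d_rc_28_2 lc_d_rc_28_2 lc_d_rc_32_2 lc_d_rc_29_2 lc_d_rc_3_1 lc_d_rc_30_2 lc_d_rc_3_1 lc_d_rc_31_2 lc_d_rc_20_3 lc_d_Cert_tree lc_d_rc_12_1 lc_d_rc_31_2 lc_d_rc_12_1 lc_d_rc_32_2 lc_d_rc_28_2 lc_d_Cert_tree lc_d_rc_32_2 lc_d_rc_29_2 lc_d_rc_12_1 lc_d_rc_3_1 lc_d_rc_3_1 lc_d_rc_31_2 lc_d_rc_32_2 lc_d_Cert_tree lc_d_rc_20_3) (@D3.rec (fun _ => (Cert rels S Gen.d)) lc_d_rc_12_1 lc_d_rc_32_2 lc_d_rc_30_2 lc_d_rc_28_2 lc_d_rc_27_0 lc_d_rc_30_2 lc_d_rc_30_2 lc_d_rc_31_2 lc_d_rc_28_2 lc_d_rc_31_2 lc_d_rc_29_2 lc_d_rc_32_2 lc_d_rc_30_2 lc_d_rc_31_2 lc_d_rc_28_2 lc_d_rc_31_2 lc_d_rc_32_2 lc_d_rc_28_2 lc_d_Cert_tree lc_d_rc_32_2 lc_d_rc_29_2 lc_d_rc_31_2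 lc_d_rc_32_2 lc_d_rc_32_2 lc_d_rc_29_2 lc_d_rc_30_2 lc_d_rc_31_2 lc_d_rc_28_2 lc_d_rc_31_2 lc_d_rc_28_2 lc_d_Cert_tree lc_d_rc_29_2 lc_d_rc_3_1 lc_d_rc_27_0 lc_d_rc_3_1 lc_d_rc_31_2 lc_d_rc_28_2 lc_d_rc_30_2 lc_d_Cert_tree lc_d_rc_27_0 lc_d_rc_20_3 lc_d_rc_28_2 lc_d_rc_28_2 lc_d_Cert_tree lc_d_rc_31_2 lc_d_Cert_tree lc_d_rc_27_0 lc_d_rc_27_0 lc_d_rc_29_2 lc_d_rc_28_2 lc_d_rc_12_1) (@D3.rec (fun _ => (Cert rels S Gen.d)) lc_d_Cert_tree lc_d_rc_29_2 lc_d_rc_31_2 lc_d_Cert_tree lc_d_Cert_tree lc_d_rc_27_0 lc_d_rc_27_0 lc_d_rc_20_3 lc_d_rc_28_2 lc_d_rc_27_0 lc_d_rc_20_3 lc_d_rc_28_2 lc_d_rc_20_3 lc_d_rc_28_2 lc_d_rc_12_1 lc_d_Cert_tree lc_d_rc_30_2 lc_d_rc_12_1 lc_d_Cert_tree lc_d_rc_30_2 lc_d_rc_3_1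 lc_d_Cert_tree lc_d_rc_27_0 lc_d_rc_30_2 lc_d_rc_31_2 lc_d_rc_27_0 lc_d_rc_20_3 lc_d_rc_28_2 lc_d_rc_12_1 lc_d_Cert_tree lc_d_rc_30_2 lc_d_rc_29_2 lc_d_rc_28_2 lc_d_rc_12_1 lc_d_Cert_tree lc_d_rc_30_2 lc_d_rc_3_1 lc_d_Cert_tree lc_d_rc_27_0 lc_d_rc_30_2 lc_d_rc_31_2 lc_d_rc_12_1 lc_d_Cert_tree lc_d_rc_29_4 lc_d_rc_3_1 lc_d_Cert_tree lc_d_rc_27_0 lc_d_rc_30_2 lc_d_rc_31_2 lc_d_Cert_tree lc_d_rc_27_0) (@D3.rec (fun _ => (Cert rels S Gen.d)) lc_d_rc_30_2 lc_d_rc_30_2 lc_d_rc_28_2 lc_d_rc_31_2 lc_d_rc_32_2 lc_d_rc_12_1 lc_d_Cert_tree lc_d_rc_30_2 lc_d_rc_3_1 lc_d_Cert_tree lc_d_rc_27_0 lc_d_rc_30_2 lc_d_rc_31_2 lc_d_Cert_tree lc_d_rc_27_0 lc_d_rc_30_2 lc_d_rc_30_2 lc_d_rc_29_2 lc_d_rc_31_2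 lc_d_rc_32_2 lc_d_rc_27_0 lc_d_rc_30_2 lc_d_rc_20_3 lc_d_rc_30_2 lc_d_rc_28_2 lc_d_rc_31_2 lc_d_rc_28_2 lc_d_rc_31_2 lc_d_rc_29_2 lc_d_rc_28_2 lc_d_rc_32_2 lc_d_rc_28_2 lc_d_rc_33_2 lc_d_Cert_tree lc_d_rc_27_0 lc_d_rc_28_2 lc_d_Cert_tree lc_d_rc_27_0 lc_d_rc_20_3 lc_d_rc_28_2 lc_d_Cert_tree lc_d_rc_27_0 lc_d_rc_20_3 lc_d_rc_28_2 lc_d_rc_12_1 lc_d_Cert_tree lc_d_rc_28_2 lc_d_rc_27_0 lc_d_rc_20_3 lc_d_rc_28_2 lc_d_rc_12_1) (@D3.rec (fun _ => (Cert rels S Gen.d)) lc_d_Cert_tree lc_d_rc_30_2 lc_d_rc_20_3 lc_d_rc_29_2 lc_d_rc_12_1 lc_d_Cert_tree lc_d_rc_30_2 lc_d_rc_3_1 lc_d_Cert_tree lc_d_rc_27_0 lc_d_rc_30_2 lc_d_rc_31_2 lc_d_Cert_tree lc_d_rc_29_2 lc_d_Cert_tree lc_d_rc_27_0 lc_d_rc_30_2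 lc_d_rc_31_2 lc_d_Cert_tree lc_d_rc_27_0 lc_d_rc_30_2 lc_d_rc_30_2 lc_d_rc_29_2 lc_d_rc_31_2 lc_d_rc_32_2 lc_d_rc_12_1 lc_d_Cert_tree lc_d_rc_30_2 lc_d_rc_3_1 lc_d_Cert_tree lc_d_rc_27_0 lc_d_rc_30_2 lc_d_rc_31_2 lc_d_rc_3_1 lc_d_Cert_tree lc_d_rc_27_0 lc_d_rc_30_2 lc_d_rc_31_2 lc_d_Cert_tree lc_d_rc_27_0 lc_d_rc_30_2 lc_d_rc_30_2 lc_d_rc_29_2 lc_d_rc_31_2 lc_d_rc_32_2 lc_d_Cert_tree lc_d_rc_27_0 lc_d_rc_30_2 lc_d_rc_30_2 lc_d_rc_29_2 lc_d_rc_31_2) (@D3.rec (fun _ => (Cert rels S Gen.d)) lc_d_rc_32_2 lc_d_rc_27_0 lc_d_rc_30_2 lc_d_rc_20_3 lc_d_rc_30_2 lc_d_rc_12_1 lc_d_rc_31_2 lc_d_rc_28_2 lc_d_rc_31_2 lc_d_rc_29_2 lc_d_rc_33_2 lc_d_rc_32_2 lc_d_rc_27_0 lc_d_rc_30_2 lc_d_rc_20_3 lc_d_rc_30_2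 lc_d_rc_12_1 lc_d_rc_31_2 lc_d_rc_28_2 lc_d_rc_31_2 lc_d_rc_29_2 lc_d_rc_33_2 lc_d_rc_32_2 lc_d_rc_3_1 lc_d_rc_30_2 lc_d_rc_3_1 lc_d_rc_31_2 lc_d_rc_20_3 lc_d_rc_20_3 lc_d_rc_12_1 lc_d_rc_31_2 lc_d_rc_12_1 lc_d_rc_12_1 lc_d_rc_32_2 lc_d_rc_28_2 lc_d_Cert_tree lc_d_rc_32_2 lc_d_rc_29_2 lc_d_rc_33_2 lc_d_Cert_tree lc_d_rc_27_0 lc_d_rc_30_2 lc_d_rc_30_2 lc_d_rc_29_2 lc_d_rc_31_2 lc_d_rc_29_0 lc_d_rc_27_0 lc_d_rc_30_2 lc_d_rc_20_3 lc_d_rc_30_2 lc_d_rc_12_1) (@D3.rec (fun _ => (Cert rels S Gen.d)) lc_d_rc_31_2 lc_d_rc_28_2 lc_d_rc_31_2 lc_d_rc_29_2 lc_d_rc_33_2 lc_d_rc_32_2 lc_d_rc_3_1 lc_d_rc_30_2 lc_d_rc_3_1 lc_d_rc_31_2 lc_d_rc_20_3 lc_d_Cert_tree lc_d_rc_12_1 lc_d_rc_31_2 lc_d_rc_12_1 lc_d_rc_12_1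 lc_d_rc_32_2 lc_d_rc_28_2 lc_d_Cert_tree lc_d_rc_32_2 lc_d_rc_29_2 lc_d_rc_33_2 lc_d_rc_3_1 lc_d_rc_31_2 lc_d_rc_3_1 lc_d_rc_30_0 lc_d_rc_32_2 lc_d_rc_12_1 lc_d_Cert_tree lc_d_rc_32_2 lc_d_rc_12_1 lc_d_rc_12_1 lc_d_rc_30_2 lc_d_rc_28_2 lc_d_Cert_tree lc_d_rc_27_0 lc_d_rc_33_2 lc_d_rc_29_2 lc_d_rc_33_2 lc_d_rc_30_2 lc_d_Cert_tree lc_d_rc_20_5 lc_d_rc_27_0 lc_d_rc_56_10 lc_d_rc_20_3 lc_d_rc_33_2 lc_d_rc_33_2 lc_d_Cert_tree lc_d_rc_20_3 lc_d_rc_30_2 lc_d_rc_28_2) (@D3.rec (fun _ => (Cert rels S Gen.d)) lc_d_Cert_tree lc_d_rc_27_0 lc_d_rc_20_3 lc_d_rc_28_2 lc_d_rc_27_0 lc_d_rc_33_2 lc_d_Cert_tree lc_d_rc_27_0 lc_d_rc_20_3 lc_d_rc_28_2 lc_d_rc_12_1 lc_d_Cert_tree lc_d_rc_28_2 lc_d_rc_29_2 lc_d_rc_33_2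 lc_d_rc_27_0 lc_d_rc_28_2 lc_d_rc_12_1 lc_d_Cert_tree lc_d_rc_28_2 lc_d_rc_3_1 lc_d_Cert_tree lc_d_rc_27_0 lc_d_rc_30_2 lc_d_rc_28_2 lc_d_rc_29_2 lc_d_rc_12_1 lc_d_Cert_tree lc_d_rc_30_2 lc_d_rc_3_1 lc_d_Cert_tree lc_d_rc_27_0 lc_d_rc_30_2 lc_d_rc_31_2 lc_d_rc_29_2 lc_d_Cert_tree lc_d_rc_27_0 lc_d_rc_30_2 lc_d_rc_31_2 lc_d_Cert_tree lc_d_rc_27_0 lc_d_rc_30_2 lc_d_rc_30_2 lc_d_rc_29_2 lc_d_rc_31_2 lc_d_rc_32_2 lc_d_rc_29_2 lc_d_rc_27_0 lc_d_rc_30_2 lc_d_rc_30_2 lc_d_rc_31_2) (@D3.rec (fun _ => (Cert rels S Gen.d)) lc_d_rc_32_2 lc_d_rc_27_0 lc_d_rc_30_2 lc_d_rc_20_3 lc_d_rc_30_2 lc_d_rc_12_1 lc_d_rc_31_2 lc_d_rc_28_2 lc_d_rc_31_2 lc_d_rc_29_2 lc_d_rc_33_2 lc_d_rc_32_2 lc_d_rc_3_1 lc_d_Cert_tree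 lc_d_rc_27_0 lc_d_rc_30_2 lc_d_rc_31_2 lc_d_Cert_tree lc_d_rc_27_0 lc_d_rc_30_2 lc_d_rc_30_2 lc_d_rc_29_2 lc_d_rc_31_2 lc_d_rc_32_2 lc_d_Cert_tree lc_d_rc_27_0 lc_d_rc_30_2 lc_d_rc_30_2 lc_d_rc_29_2 lc_d_rc_31_2 lc_d_rc_32_2 lc_d_rc_27_0 lc_d_rc_30_2 lc_d_rc_20_3 lc_d_rc_30_2 lc_d_rc_12_1 lc_d_rc_31_2 lc_d_rc_28_2 lc_d_rc_31_2 lc_d_rc_29_2 lc_d_rc_33_2 lc_d_rc_32_2 lc_d_rc_27_0 lc_d_rc_30_2 lc_d_rc_20_3 lc_d_rc_30_2 lc_d_rc_12_1 lc_d_rc_31_2 lc_d_rc_28_2 lc_d_rc_31_2 lc_d_rc_29_2) (@D3.rec (fun _ => (Cert rels S Gen.d)) lc_d_rc_33_2 lc_d_rc_32_2 lc_d_rc_3_1 lc_d_rc_30_2 lc_d_rc_31_2 lc_d_rc_20_3 lc_d_Cert_tree lc_d_rc_12_1 lc_d_rc_31_2 lc_d_rc_12_1 lc_d_rc_32_2 lc_d_rc_28_2 lc_d_rc_28_2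 lc_d_rc_32_2 lc_d_rc_29_2 lc_d_rc_33_2 lc_d_rc_33_2 lc_d_rc_30_2 lc_d_rc_3_1 lc_d_rc_31_2 lc_d_rc_20_3 lc_d_rc_29_4 lc_d_rc_12_1 lc_d_rc_31_2 lc_d_rc_12_1 lc_d_rc_32_2 lc_d_rc_28_2 lc_d_Cert_tree lc_d_rc_32_2 lc_d_rc_29_2 lc_d_rc_12_1 lc_d_rc_3_1 lc_d_rc_3_1 lc_d_rc_31_2 lc_d_rc_32_2 lc_d_Cert_tree lc_d_rc_20_3 lc_d_rc_12_1 lc_d_rc_32_2 lc_d_rc_30_2 lc_d_rc_28_2 lc_d_rc_27_0 lc_d_rc_30_2 lc_d_rc_20_3 lc_d_rc_30_2 lc_d_rc_12_1 lc_d_rc_31_2 lc_d_rc_28_2 lc_d_rc_31_2 lc_d_rc_29_2 lc_d_rc_33_2) (@D3.rec (fun _ => (Cert rels S Gen.d)) lc_d_rc_32_2 lc_d_rc_3_1 lc_d_rc_30_2 lc_d_rc_31_2 lc_d_rc_20_3 lc_d_Cert_tree lc_d_rc_28_2 lc_d_rc_31_2 lc_d_rc_12_1 lc_d_rc_32_2 lc_d_rc_28_2 lc_d_Cert_tree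 lc_d_rc_32_2 lc_d_rc_29_2 lc_d_rc_33_2 lc_d_rc_3_1 lc_d_rc_31_2 lc_d_rc_32_2 lc_d_rc_20_3 lc_d_Cert_tree lc_d_rc_27_0 lc_d_rc_32_2 lc_d_rc_12_1 lc_d_rc_29_2 lc_d_rc_33_2 lc_d_rc_3_1 lc_d_rc_30_2 lc_d_rc_31_2 lc_d_rc_20_3 lc_d_Cert_tree lc_d_rc_28_2 lc_d_rc_31_2 lc_d_rc_29_2 lc_d_rc_28_2 lc_d_Cert_tree lc_d_rc_29_2 lc_d_rc_33_2 lc_d_rc_3_1 lc_d_rc_3_1 lc_d_Cert_tree lc_d_Cert_tree lc_d_rc_27_0 lc_d_Cert_tree lc_d_rc_27_0 lc_d_rc_33_2 lc_d_rc_28_2 lc_d_Cert_tree lc_d_rc_27_0 lc_d_rc_30_2 lc_d_rc_33_2 lc_d_rc_30_2) (@D3.rec (fun _ => (Cert rels S Gen.d)) lc_d_Cert_tree lc_d_rc_27_0 lc_d_rc_20_3 lc_d_rc_28_2 lc_d_rc_12_1 lc_d_Cert_tree lc_d_rc_30_2 lc_d_rc_27_0 lc_d_rc_29_2 lc_d_rc_33_2 lc_d_rc_27_0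 lc_d_rc_28_2 lc_d_Cert_tree lc_d_rc_28_2 lc_d_Cert_tree lc_d_rc_27_0 lc_d_rc_30_2 lc_d_rc_28_2 lc_d_rc_20_3 lc_d_rc_29_2 lc_d_rc_28_2 lc_d_rc_30_2 lc_d_rc_27_0 lc_d_rc_30_2 lc_d_rc_28_2 lc_d_rc_27_0 lc_d_rc_30_2 lc_d_rc_30_2 lc_d_rc_29_2 lc_d_rc_31_2 lc_d_rc_28_2 lc_d_rc_29_2 lc_d_rc_27_0 lc_d_rc_30_2 lc_d_rc_31_2 lc_d_rc_27_0 lc_d_rc_30_2 lc_d_rc_30_2 lc_d_rc_29_2 lc_d_rc_31_2 lc_d_rc_32_2 lc_d_rc_29_2 lc_d_rc_30_2 lc_d_rc_31_2 lc_d_rc_32_2 lc_d_rc_20_3 lc_d_rc_30_2 lc_d_rc_12_1 lc_d_rc_31_2 lc_d_rc_28_2 lc_d_rc_31_2) (@D3.rec (fun _ => (Cert rels S Gen.d)) lc_d_rc_29_2 lc_d_rc_32_2 lc_d_rc_29_2 lc_d_rc_28_2 lc_d_rc_31_2 lc_d_rc_32_2 lc_d_rc_20_3 lc_d_rc_12_1 lc_d_rc_31_2 lc_d_rc_12_1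 lc_d_rc_32_2 lc_d_rc_28_2 lc_d_Cert_tree lc_d_rc_32_2 lc_d_rc_29_2 lc_d_Cert_tree lc_d_rc_27_0 lc_d_rc_30_2 lc_d_rc_30_2 lc_d_rc_29_2 lc_d_rc_31_2 lc_d_rc_32_2 lc_d_rc_27_0 lc_d_rc_30_2 lc_d_rc_30_2 lc_d_rc_31_2 lc_d_rc_28_2 lc_d_rc_31_2 lc_d_rc_29_2 lc_d_rc_32_2 lc_d_rc_27_0 lc_d_rc_30_2 lc_d_rc_30_2 lc_d_rc_31_2 lc_d_rc_28_2 lc_d_rc_31_2 lc_d_rc_29_2 lc_d_rc_32_2 lc_d_rc_30_2 lc_d_rc_31_2 lc_d_rc_12_1 lc_d_rc_31_2 lc_d_rc_32_2 lc_d_rc_28_2 lc_d_rc_32_2 lc_d_rc_32_2 lc_d_rc_29_2 lc_d_rc_30_2 lc_d_rc_31_2 lc_d_rc_12_1 lc_d_rc_31_2) (@D3.rec (fun _ => (Cert rels S Gen.d)) lc_d_rc_32_2 lc_d_rc_28_2 lc_d_Cert_tree lc_d_rc_32_2 lc_d_rc_29_2 lc_d_rc_3_1 lc_d_rc_31_2 lc_d_rc_32_2 lc_d_rc_12_1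 lc_d_rc_32_2 lc_d_rc_30_2 lc_d_rc_28_2 lc_d_rc_28_2 lc_d_rc_29_2 lc_d_rc_12_1 lc_d_rc_3_1 lc_d_rc_56_52 lc_d_rc_3_1 lc_d_rc_31_2 lc_d_rc_3_1 lc_d_rc_32_2 lc_d_Cert_tree lc_d_rc_20_3 lc_d_Cert_tree lc_d_rc_27_0 lc_d_rc_12_1 lc_d_Cert_tree lc_d_rc_32_2 lc_d_rc_12_1 lc_d_rc_30_2 lc_d_rc_28_2 lc_d_Cert_tree lc_d_rc_27_0 lc_d_rc_29_2 lc_d_rc_12_1 lc_d_Cert_tree lc_d_rc_3_1 lc_d_rc_3_1 lc_d_rc_32_2 lc_d_rc_27_0 lc_d_rc_31_2 lc_d_rc_20_3 lc_d_rc_12_1 lc_d_rc_12_1 lc_d_rc_3_3 lc_d_rc_30_2 lc_d_rc_31_2 lc_d_rc_28_2 lc_d_rc_31_2 lc_d_rc_32_2 lc_d_rc_28_2) (@D3.rec (fun _ => (Cert rels S Gen.d)) lc_d_rc_55_51 lc_d_rc_32_2 lc_d_rc_12_3 lc_d_rc_3_1 lc_d_rc_31_2 lc_d_rc_32_2 lc_d_rc_28_2 lc_d_rc_32_2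 lc_d_rc_28_2 lc_d_rc_31_2 lc_d_rc_27_0 lc_d_rc_28_2 lc_d_rc_32_2 lc_d_rc_3_1 lc_d_rc_31_2 lc_d_rc_28_2 lc_d_rc_30_2 lc_d_rc_30_2 lc_d_rc_27_0 lc_d_rc_20_3 lc_d_rc_3_1 lc_d_rc_30_2 lc_d_Cert_tree lc_d_rc_27_0 lc_d_rc_20_3 lc_d_rc_30_2 lc_d_rc_28_2 lc_d_Cert_tree lc_d_rc_27_0 lc_d_Cert_tree lc_d_rc_27_0 lc_d_rc_29_2 lc_d_rc_28_2 lc_d_rc_29_2 lc_d_rc_28_2 lc_d_rc_12_1 lc_d_Cert_tree lc_d_rc_29_2 lc_d_rc_3_1 lc_d_Cert_tree lc_d_rc_27_0 lc_d_rc_30_2 lc_d_rc_29_2 lc_d_Cert_tree lc_d_rc_27_0 lc_d_rc_27_0 lc_d_rc_20_3 lc_d_rc_28_2 lc_d_rc_20_3 lc_d_rc_28_2 lc_d_rc_12_1) (@D3.rec (fun _ => (Cert rels S Gen.d)) lc_d_Cert_tree lc_d_rc_28_2 lc_d_rc_20_3 lc_d_rc_28_2 lc_d_rc_12_1 lc_d_Cert_tree lc_d_rc_30_2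 lc_d_rc_12_1 lc_d_Cert_tree lc_d_rc_30_2 lc_d_rc_3_1 lc_d_Cert_tree lc_d_rc_27_0 lc_d_rc_30_2 lc_d_rc_31_2 lc_d_Cert_tree lc_d_rc_27_0 lc_d_rc_30_2 lc_d_rc_31_2 lc_d_Cert_tree lc_d_rc_27_0 lc_d_rc_30_2 lc_d_rc_30_2 lc_d_rc_29_2 lc_d_rc_31_2 lc_d_rc_32_2 lc_d_rc_29_2 lc_d_rc_28_2 lc_d_rc_12_1 lc_d_Cert_tree lc_d_rc_30_2 lc_d_rc_3_1 lc_d_Cert_tree lc_d_rc_27_0 lc_d_rc_30_2 lc_d_rc_31_2 lc_d_rc_12_1 lc_d_Cert_tree lc_d_rc_29_4 lc_d_rc_3_1 lc_d_Cert_tree lc_d_rc_27_0 lc_d_rc_30_2 lc_d_rc_31_2 lc_d_Cert_tree lc_d_rc_27_0 lc_d_rc_30_2 lc_d_rc_30_2 lc_d_rc_28_2 lc_d_rc_31_2 lc_d_rc_32_2) (@D3.rec (fun _ => (Cert rels S Gen.d)) lc_d_rc_3_1 lc_d_Cert_tree lc_d_rc_27_0 lc_d_rc_30_2 lc_d_rc_29_4 lc_d_Cert_tree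 lc_d_rc_27_0 lc_d_rc_30_2 lc_d_rc_30_2 lc_d_rc_29_2 lc_d_rc_31_2 lc_d_rc_32_2 lc_d_rc_27_0 lc_d_rc_30_2 lc_d_rc_20_3 lc_d_rc_30_2 lc_d_rc_28_2 lc_d_rc_31_2 lc_d_rc_28_2 lc_d_rc_31_2 lc_d_rc_29_2 lc_d_rc_28_2 lc_d_rc_32_2 lc_d_rc_3_1 lc_d_rc_12_3 lc_d_rc_27_0 lc_d_rc_30_2 lc_d_rc_31_2 lc_d_rc_29_4 lc_d_rc_27_0 lc_d_rc_30_2 lc_d_rc_30_2 lc_d_rc_29_2 lc_d_rc_31_2 lc_d_rc_32_2 lc_d_rc_27_0 lc_d_rc_30_2 lc_d_rc_20_3 lc_d_rc_30_2 lc_d_rc_33_2 lc_d_rc_31_2 lc_d_rc_28_2 lc_d_rc_31_2 lc_d_rc_29_2 lc_d_rc_12_1 lc_d_rc_32_2 lc_d_rc_20_3 lc_d_rc_30_2 lc_d_rc_3_1 lc_d_rc_31_2 lc_d_rc_20_3) (@D3.rec (fun _ => (Cert rels S Gen.d)) lc_d_rc_30_0 lc_d_rc_12_1 lc_d_rc_31_2 lc_d_rc_29_2 lc_d_rc_28_2 lc_d_rc_32_2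 lc_d_rc_28_2 lc_d_Cert_tree lc_d_rc_32_2 lc_d_rc_29_2 lc_d_rc_30_2 lc_d_rc_30_2 lc_d_rc_28_2 lc_d_Cert_tree lc_d_rc_27_0 lc_d_rc_20_3 lc_d_rc_28_2 lc_d_Cert_tree lc_d_rc_27_0 lc_d_rc_20_3 lc_d_rc_28_2 lc_d_rc_12_1 lc_d_Cert_tree lc_d_rc_28_2 lc_d_rc_27_0 lc_d_rc_20_3 lc_d_rc_28_2 lc_d_rc_12_1 lc_d_Cert_tree lc_d_rc_28_2 lc_d_rc_3_1 lc_d_Cert_tree lc_d_rc_27_0 lc_d_rc_30_2 lc_d_rc_28_2 lc_d_rc_20_3 lc_d_rc_29_2 lc_d_rc_12_1 lc_d_Cert_tree lc_d_rc_30_2 lc_d_rc_3_1 lc_d_Cert_tree lc_d_rc_27_0 lc_d_rc_30_2 lc_d_rc_31_2 lc_d_Cert_tree lc_d_rc_29_2 lc_d_Cert_tree lc_d_rc_27_0 lc_d_rc_30_2 lc_d_rc_31_2) (@D3.rec (fun _ => (Cert rels S Gen.d)) lc_d_Cert_tree lc_d_rc_27_0 lc_d_rc_30_2 lc_d_rc_30_2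 lc_d_rc_29_2 lc_d_rc_31_2 lc_d_rc_32_2 lc_d_rc_27_0 lc_d_rc_30_2 lc_d_rc_29_2 lc_d_rc_27_0 lc_d_rc_30_2 lc_d_rc_30_2 lc_d_rc_29_2 lc_d_rc_31_2 lc_d_rc_32_2 lc_d_rc_27_0 lc_d_rc_30_2 lc_d_rc_20_3 lc_d_rc_30_2 lc_d_rc_12_1 lc_d_rc_31_2 lc_d_rc_28_2 lc_d_rc_31_2 lc_d_rc_29_2 lc_d_rc_33_2 lc_d_rc_32_2 lc_d_rc_3_1 lc_d_Cert_tree lc_d_rc_27_0 lc_d_rc_30_2 lc_d_rc_31_2 lc_d_Cert_tree lc_d_rc_27_0 lc_d_rc_30_2 lc_d_rc_30_2 lc_d_rc_29_2 lc_d_rc_31_2 lc_d_rc_32_2 lc_d_Cert_tree lc_d_rc_27_0 lc_d_rc_30_2 lc_d_rc_30_2 lc_d_rc_29_2 lc_d_rc_31_2 lc_d_rc_32_2 lc_d_rc_27_0 lc_d_rc_30_2 lc_d_rc_20_3 lc_d_rc_30_2 lc_d_rc_12_1)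
def ce_d_2 : D2 → D3 → (Cert rels S Gen.d) := @D2.rec (fun _ => D3 → (Cert rels S Gen.d)) (@D3.rec (fun _ => (Cert rels S Gen.d)) lc_d_rc_31_2 lc_d_rc_28_2 lc_d_rc_31_2 lc_d_rc_29_2 lc_d_rc_33_2 lc_d_rc_32_2 lc_d_rc_27_0 lc_d_rc_30_2 lc_d_rc_20_3 lc_d_rc_30_2 lc_d_rc_12_1 lc_d_rc_31_2 lc_d_rc_28_2 lc_d_rc_31_2 lc_d_rc_29_2 lc_d_rc_33_2 lc_d_rc_32_2 lc_d_rc_3_1 lc_d_rc_30_2 lc_d_rc_3_1 lc_d_rc_31_2 lc_d_rc_20_3 lc_d_Cert_tree lc_d_rc_12_1 lc_d_rc_31_2 lc_d_rc_12_1 lc_d_rc_12_1 lc_d_rc_32_2 lc_d_rc_28_2 lc_d_Cert_tree lc_d_rc_32_2 lc_d_rc_29_2 lc_d_rc_33_2 lc_d_rc_30_2 lc_d_rc_31_2 lc_d_rc_20_3 lc_d_rc_12_1 lc_d_rc_31_2 lc_d_rc_12_1 lc_d_rc_32_2 lc_d_rc_28_2 lc_d_Cert_tree lc_d_rc_32_2 lc_d_rc_29_2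 lc_d_rc_33_2 lc_d_rc_3_1 lc_d_rc_3_1 lc_d_rc_31_2 lc_d_rc_3_1 lc_d_rc_32_2 lc_d_Cert_tree) (@D3.rec (fun _ => (Cert rels S Gen.d)) lc_d_rc_20_3 lc_d_rc_20_3 lc_d_rc_12_1 lc_d_Cert_tree lc_d_rc_32_2 lc_d_rc_12_1 lc_d_rc_12_1 lc_d_rc_30_2 lc_d_rc_28_2 lc_d_Cert_tree lc_d_rc_27_0 lc_d_rc_33_2 lc_d_rc_29_2 lc_d_rc_33_2 lc_d_rc_27_0 lc_d_rc_30_2 lc_d_rc_20_3 lc_d_rc_30_2 lc_d_rc_12_1 lc_d_rc_31_2 lc_d_rc_28_2 lc_d_rc_31_2 lc_d_rc_29_2 lc_d_rc_33_2 lc_d_rc_32_2 lc_d_rc_3_1 lc_d_rc_30_2 lc_d_rc_3_1 lc_d_rc_31_2 lc_d_rc_20_3 lc_d_Cert_tree lc_d_rc_28_2 lc_d_rc_31_2 lc_d_rc_12_1 lc_d_rc_12_1 lc_d_rc_32_2 lc_d_rc_28_2 lc_d_Cert_tree lc_d_rc_32_2 lc_d_rc_29_2 lc_d_rc_33_2 lc_d_rc_3_1 lc_d_rc_20_3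 lc_d_rc_3_1 lc_d_rc_31_2 lc_d_rc_3_1 lc_d_rc_3_1 lc_d_rc_32_2 lc_d_rc_20_3 lc_d_rc_20_3 lc_d_Cert_tree) (@D3.rec (fun _ => (Cert rels S Gen.d)) lc_d_rc_27_0 lc_d_rc_33_2 lc_d_rc_12_1 lc_d_Cert_tree lc_d_rc_32_2 lc_d_rc_12_1 lc_d_rc_12_1 lc_d_rc_30_2 lc_d_rc_28_2 lc_d_Cert_tree lc_d_rc_27_0 lc_d_rc_33_2 lc_d_rc_29_2 lc_d_rc_33_2 lc_d_rc_3_1 lc_d_Cert_tree lc_d_rc_32_2 lc_d_rc_3_1 lc_d_rc_28_0 lc_d_rc_12_1 lc_d_rc_12_1 lc_d_Cert_tree lc_d_rc_27_0 lc_d_rc_33_2 lc_d_rc_12_1 lc_d_rc_12_1 lc_d_rc_30_2 lc_d_Cert_tree lc_d_Cert_tree lc_d_rc_27_0 lc_d_rc_33_2 lc_d_rc_20_3 lc_d_rc_33_2 lc_d_rc_33_2 lc_d_rc_31_2 lc_d_rc_56_59 lc_d_rc_27_0 lc_d_rc_20_1 lc_d_rc_20_3 lc_d_rc_12_1 lc_d_rc_20_3 lc_d_rc_27_0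 lc_d_rc_30_2 lc_d_rc_33_2 lc_d_rc_30_2 lc_d_Cert_tree lc_d_rc_27_0 lc_d_rc_20_3 lc_d_rc_28_2 lc_d_rc_12_1 lc_d_Cert_tree) (@D3.rec (fun _ => (Cert rels S Gen.d)) lc_d_rc_30_2 lc_d_rc_29_2 lc_d_rc_33_2 lc_d_rc_27_0 lc_d_rc_28_2 lc_d_rc_12_1 lc_d_Cert_tree lc_d_rc_28_2 lc_d_rc_3_1 lc_d_Cert_tree lc_d_rc_27_0 lc_d_rc_30_2 lc_d_rc_28_2 lc_d_rc_28_2 lc_d_rc_30_2 lc_d_Cert_tree lc_d_rc_27_0 lc_d_rc_30_2 lc_d_rc_28_2 lc_d_Cert_tree lc_d_rc_27_0 lc_d_rc_30_2 lc_d_rc_30_2 lc_d_rc_29_2 lc_d_rc_31_2 lc_d_rc_28_2 lc_d_rc_29_2 lc_d_Cert_tree lc_d_rc_27_0 lc_d_rc_30_2 lc_d_rc_31_2 lc_d_Cert_tree lc_d_rc_27_0 lc_d_rc_30_2 lc_d_rc_30_2 lc_d_rc_29_2 lc_d_rc_31_2 lc_d_rc_32_2 lc_d_rc_29_2 lc_d_rc_27_0 lc_d_rc_30_2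 lc_d_rc_30_2 lc_d_rc_31_2 lc_d_rc_32_2 lc_d_rc_27_0 lc_d_rc_30_2 lc_d_rc_20_3 lc_d_rc_30_2 lc_d_rc_12_1 lc_d_rc_31_2 lc_d_rc_28_2) (@D3.rec (fun _ => (Cert rels S Gen.d)) lc_d_rc_31_2 lc_d_rc_29_2 lc_d_rc_33_2 lc_d_rc_32_2 lc_d_rc_29_2 lc_d_rc_20_3 lc_d_rc_30_2 lc_d_rc_31_2 lc_d_rc_28_2 lc_d_rc_31_2 lc_d_rc_32_2 lc_d_rc_3_1 lc_d_rc_30_2 lc_d_rc_3_1 lc_d_rc_31_2 lc_d_rc_20_3 lc_d_Cert_tree lc_d_rc_12_1 lc_d_rc_31_2 lc_d_rc_12_1 lc_d_rc_12_1 lc_d_rc_32_2 lc_d_rc_28_2 lc_d_Cert_tree lc_d_rc_32_2 lc_d_rc_29_2 lc_d_rc_33_2 lc_d_Cert_tree lc_d_rc_27_0 lc_d_rc_30_2 lc_d_rc_30_2 lc_d_rc_29_2 lc_d_rc_31_2 lc_d_rc_32_2 lc_d_rc_27_0 lc_d_rc_30_2 lc_d_rc_20_3 lc_d_rc_30_2 lc_d_rc_12_1 lc_d_rc_31_2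 lc_d_rc_28_2 lc_d_rc_31_2 lc_d_rc_29_2 lc_d_rc_33_2 lc_d_rc_56_17 lc_d_rc_27_0 lc_d_rc_30_2 lc_d_rc_20_3 lc_d_rc_30_2 lc_d_rc_12_1 lc_d_rc_31_2) (@D3.rec (fun _ => (Cert rels S Gen.d)) lc_d_rc_28_2 lc_d_rc_31_2 lc_d_rc_29_2 lc_d_rc_33_2 lc_d_rc_32_2 lc_d_rc_3_1 lc_d_rc_30_2 lc_d_rc_31_2 lc_d_rc_20_3 lc_d_Cert_tree lc_d_rc_12_1 lc_d_rc_31_2 lc_d_rc_12_1 lc_d_rc_32_2 lc_d_rc_28_2 lc_d_rc_33_0 lc_d_rc_32_2 lc_d_rc_29_2 lc_d_rc_33_2 lc_d_rc_3_1 lc_d_rc_30_2 lc_d_rc_31_2 lc_d_rc_20_3 lc_d_rc_3_3 lc_d_rc_12_1 lc_d_rc_31_2 lc_d_rc_12_1 lc_d_rc_32_2 lc_d_rc_28_2 lc_d_Cert_tree lc_d_rc_32_2 lc_d_rc_29_2 lc_d_rc_33_2 lc_d_rc_3_1 lc_d_rc_3_1 lc_d_rc_31_2 lc_d_rc_32_2 lc_d_Cert_tree lc_d_rc_20_3 lc_d_Cert_tree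 lc_d_rc_27_0 lc_d_rc_12_1 lc_d_rc_28_2 lc_d_rc_32_2 lc_d_rc_12_1 lc_d_rc_30_2 lc_d_rc_28_2 lc_d_rc_28_2 lc_d_rc_28_2 lc_d_rc_29_2 lc_d_rc_33_2) (@D3.rec (fun _ => (Cert rels S Gen.d)) lc_d_rc_33_2 lc_d_rc_3_1 lc_d_rc_31_2 lc_d_rc_3_1 lc_d_rc_32_2 lc_d_Cert_tree lc_d_rc_20_3 lc_d_rc_29_4 lc_d_rc_12_1 lc_d_Cert_tree lc_d_rc_32_2 lc_d_rc_12_1 lc_d_rc_30_2 lc_d_rc_28_2 lc_d_Cert_tree lc_d_rc_27_0 lc_d_rc_29_2 lc_d_rc_30_2 lc_d_Cert_tree lc_d_rc_3_1 lc_d_rc_3_1 lc_d_rc_32_2 lc_d_rc_27_0 lc_d_rc_31_2 lc_d_rc_20_3 lc_d_rc_12_1 lc_d_rc_12_1 lc_d_rc_30_2 lc_d_rc_3_1 lc_d_rc_30_2 lc_d_rc_31_2 lc_d_rc_20_3 lc_d_Cert_tree lc_d_rc_28_2 lc_d_rc_31_2 lc_d_rc_12_1 lc_d_rc_32_2 lc_d_rc_28_2 lc_d_rc_12_3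 lc_d_rc_32_2 lc_d_rc_28_2 lc_d_rc_33_2 lc_d_rc_3_1 lc_d_rc_3_1 lc_d_rc_31_2 lc_d_rc_32_2 lc_d_Cert_tree lc_d_rc_20_3 lc_d_Cert_tree lc_d_rc_27_0 lc_d_rc_28_2) (@D3.rec (fun _ => (Cert rels S Gen.d)) lc_d_Cert_tree lc_d_rc_32_2 lc_d_rc_12_1 lc_d_rc_28_2 lc_d_rc_31_2 lc_d_rc_27_0 lc_d_rc_33_2 lc_d_rc_28_2 lc_d_rc_33_2 lc_d_rc_3_1 lc_d_rc_32_2 lc_d_rc_20_3 lc_d_Cert_tree lc_d_rc_27_0 lc_d_rc_28_2 lc_d_rc_12_1 lc_d_rc_33_2 lc_d_rc_3_1 lc_d_rc_3_1 lc_d_rc_31_2 lc_d_Cert_tree lc_d_rc_20_3 lc_d_Cert_tree lc_d_rc_27_0 lc_d_rc_28_2 lc_d_Cert_tree lc_d_rc_29_2 lc_d_rc_30_2 lc_d_rc_30_2 lc_d_rc_27_0 lc_d_rc_33_2 lc_d_rc_33_2 lc_d_Cert_tree lc_d_rc_27_0 lc_d_Cert_tree lc_d_rc_27_0 lc_d_rc_28_2 lc_d_rc_27_0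 lc_d_rc_20_3 lc_d_rc_33_2 lc_d_rc_30_2 lc_d_rc_27_0 lc_d_rc_30_2 lc_d_rc_30_2 lc_d_rc_29_2 lc_d_rc_33_2 lc_d_rc_33_2 lc_d_Cert_tree lc_d_rc_27_0 lc_d_rc_28_2 lc_d_Cert_tree) (@D3.rec (fun _ => (Cert rels S Gen.d)) lc_d_rc_30_2 lc_d_rc_12_3 lc_d_rc_27_0 lc_d_rc_30_2 lc_d_rc_30_2 lc_d_rc_20_3 lc_d_rc_29_2 lc_d_rc_28_2 lc_d_rc_30_2 lc_d_rc_27_0 lc_d_rc_30_2 lc_d_rc_28_2 lc_d_rc_27_0 lc_d_rc_20_1 lc_d_rc_30_2 lc_d_rc_29_2 lc_d_rc_12_1 lc_d_rc_28_2 lc_d_Cert_tree lc_d_rc_30_2 lc_d_rc_31_2 lc_d_rc_30_2 lc_d_rc_31_2 lc_d_rc_28_2 lc_d_rc_20_3 lc_d_rc_30_2 lc_d_rc_29_2 lc_d_rc_31_2 lc_d_rc_28_2 lc_d_rc_31_2 lc_d_rc_29_2 lc_d_rc_31_0 lc_d_rc_29_2 lc_d_rc_30_2 lc_d_rc_31_2 lc_d_rc_32_2 lc_d_rc_20_3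 lc_d_rc_30_2 lc_d_rc_12_1 lc_d_rc_20_5 lc_d_rc_12_1 lc_d_rc_31_2 lc_d_rc_29_2 lc_d_rc_32_2 lc_d_rc_29_2 lc_d_rc_28_2 lc_d_rc_31_2 lc_d_rc_32_2 lc_d_rc_20_3 lc_d_rc_12_1 lc_d_rc_31_2) (@D3.rec (fun _ => (Cert rels S Gen.d)) lc_d_rc_12_1 lc_d_rc_28_2 lc_d_rc_28_2 lc_d_rc_32_2 lc_d_rc_32_2 lc_d_rc_29_2 lc_d_rc_28_2 lc_d_rc_32_2 lc_d_Cert_tree lc_d_rc_20_3 lc_d_rc_12_1 lc_d_Cert_tree lc_d_rc_32_2 lc_d_rc_12_1 lc_d_rc_30_2 lc_d_rc_28_2 lc_d_rc_3_1 lc_d_rc_27_0 lc_d_rc_29_2 lc_d_rc_27_0 lc_d_rc_30_2 lc_d_rc_30_2 lc_d_rc_31_2 lc_d_rc_28_2 lc_d_rc_31_2 lc_d_rc_29_2 lc_d_rc_32_2 lc_d_rc_30_2 lc_d_rc_31_2 lc_d_rc_12_1 lc_d_rc_31_2 lc_d_rc_32_2 lc_d_rc_30_2 lc_d_rc_31_2 lc_d_rc_12_1 lc_d_rc_31_2 lc_d_rc_32_2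 lc_d_rc_28_2 lc_d_rc_32_2 lc_d_rc_32_2 lc_d_rc_29_2 lc_d_rc_28_2 lc_d_rc_31_2 lc_d_rc_32_2 lc_d_rc_12_1 lc_d_rc_32_2 lc_d_rc_3_1 lc_d_rc_31_2 lc_d_rc_32_2 lc_d_rc_12_1 lc_d_rc_32_2) (@D3.rec (fun _ => (Cert rels S Gen.d)) lc_d_rc_30_2 lc_d_rc_28_2 lc_d_Cert_tree lc_d_rc_27_0 lc_d_rc_29_2 lc_d_rc_3_1 lc_d_rc_32_2 lc_d_rc_12_1 lc_d_rc_12_1 lc_d_rc_12_1 lc_d_Cert_tree lc_d_rc_3_1 lc_d_rc_3_3 lc_d_rc_3_1 lc_d_Cert_tree lc_d_rc_32_2 lc_d_rc_3_1 lc_d_rc_27_0 lc_d_rc_31_2 lc_d_rc_3_3 lc_d_rc_20_3 lc_d_Cert_tree lc_d_rc_27_0 lc_d_rc_12_1 lc_d_rc_12_1 lc_d_Cert_tree lc_d_rc_27_0 lc_d_rc_12_1 lc_d_rc_56_10 lc_d_rc_3_3 lc_d_rc_12_1 lc_d_rc_27_0 lc_d_rc_20_3 lc_d_Cert_tree lc_d_rc_12_1 lc_d_rc_27_0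 lc_d_rc_31_2 lc_d_rc_3_1 lc_d_rc_3_1 lc_d_rc_3_1 lc_d_rc_31_2 lc_d_rc_12_3 lc_d_rc_56_59 lc_d_rc_56_59 lc_d_rc_3_1 lc_d_rc_31_2 lc_d_rc_32_2 lc_d_rc_28_2 lc_d_rc_32_2 lc_d_rc_3_1 lc_d_rc_32_2) (@D3.rec (fun _ => (Cert rels S Gen.d)) lc_d_rc_28_2 lc_d_rc_3_1 lc_d_rc_30_2 lc_d_rc_3_1 lc_d_rc_27_0 lc_d_rc_20_3 lc_d_rc_30_2 lc_d_Cert_tree lc_d_rc_27_0 lc_d_rc_20_3 lc_d_rc_28_2 lc_d_rc_27_0 lc_d_rc_29_2 lc_d_rc_28_2 lc_d_rc_12_1 lc_d_Cert_tree lc_d_rc_30_2 lc_d_rc_12_1 lc_d_Cert_tree lc_d_rc_29_2 lc_d_rc_3_1 lc_d_Cert_tree lc_d_rc_27_0 lc_d_rc_30_2 lc_d_rc_29_2 lc_d_Cert_tree lc_d_rc_27_0 lc_d_rc_30_2 lc_d_rc_30_2 lc_d_rc_29_2 lc_d_rc_31_2 lc_d_rc_29_2 lc_d_rc_27_0 lc_d_rc_20_3 lc_d_rc_28_2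 lc_d_rc_20_3 lc_d_rc_28_2 lc_d_rc_12_1 lc_d_Cert_tree lc_d_rc_28_2 lc_d_rc_12_1 lc_d_Cert_tree lc_d_rc_28_2 lc_d_rc_3_1 lc_d_Cert_tree lc_d_rc_27_0 lc_d_rc_30_2 lc_d_rc_28_2 lc_d_rc_12_1 lc_d_Cert_tree lc_d_rc_30_2) (@D3.rec (fun _ => (Cert rels S Gen.d)) lc_d_rc_3_1 lc_d_Cert_tree lc_d_rc_27_0 lc_d_rc_30_2 lc_d_rc_31_2 lc_d_Cert_tree lc_d_rc_27_0 lc_d_rc_30_2 lc_d_rc_31_2 lc_d_Cert_tree lc_d_rc_27_0 lc_d_rc_30_2 lc_d_rc_30_2 lc_d_rc_29_2 lc_d_rc_31_2 lc_d_rc_32_2 lc_d_rc_27_0 lc_d_rc_30_2 lc_d_rc_30_2 lc_d_rc_29_2 lc_d_rc_31_2 lc_d_rc_32_2 lc_d_rc_27_0 lc_d_rc_30_2 lc_d_rc_20_3 lc_d_rc_30_2 lc_d_rc_12_1 lc_d_rc_31_2 lc_d_rc_28_2 lc_d_rc_31_2 lc_d_rc_29_2 lc_d_rc_33_2 lc_d_rc_32_2 lc_d_rc_12_1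 lc_d_Cert_tree lc_d_rc_29_4 lc_d_rc_3_1 lc_d_Cert_tree lc_d_rc_27_0 lc_d_rc_30_2 lc_d_rc_31_2 lc_d_Cert_tree lc_d_rc_27_0 lc_d_rc_30_2 lc_d_rc_30_2 lc_d_rc_28_2 lc_d_rc_31_2 lc_d_rc_32_2 lc_d_rc_3_1 lc_d_Cert_tree lc_d_rc_27_0) (@D3.rec (fun _ => (Cert rels S Gen.d)) lc_d_rc_30_2 lc_d_rc_29_4 lc_d_Cert_tree lc_d_rc_27_0 lc_d_rc_30_2 lc_d_rc_30_2 lc_d_rc_29_2 lc_d_rc_31_2 lc_d_rc_32_2 lc_d_rc_27_0 lc_d_rc_30_2 lc_d_rc_20_3 lc_d_rc_30_2 lc_d_rc_28_2 lc_d_rc_31_2 lc_d_rc_28_2 lc_d_rc_31_2 lc_d_rc_29_2 lc_d_rc_28_2 lc_d_rc_32_2 lc_d_Cert_tree lc_d_rc_27_0 lc_d_rc_30_2 lc_d_rc_30_2 lc_d_rc_29_2 lc_d_rc_31_2 lc_d_rc_29_4 lc_d_rc_27_0 lc_d_rc_30_2 lc_d_rc_20_3 lc_d_rc_30_2 lc_d_rc_12_1 lc_d_rc_31_2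 lc_d_rc_28_2 lc_d_rc_31_2 lc_d_rc_29_2 lc_d_rc_33_2 lc_d_rc_32_2 lc_d_rc_20_3 lc_d_rc_30_2 lc_d_rc_3_1 lc_d_rc_31_2 lc_d_rc_20_3 lc_d_Cert_tree lc_d_rc_12_1 lc_d_rc_31_2 lc_d_rc_29_2 lc_d_rc_28_2 lc_d_rc_32_2 lc_d_rc_28_2 lc_d_Cert_tree) (@D3.rec (fun _ => (Cert rels S Gen.d)) lc_d_rc_32_2 lc_d_rc_29_2 lc_d_rc_30_2 lc_d_rc_3_1 lc_d_rc_30_2 lc_d_rc_31_2 lc_d_rc_32_2 lc_d_rc_29_4 lc_d_rc_30_2 lc_d_rc_31_2 lc_d_rc_28_2 lc_d_rc_31_2 lc_d_rc_29_2 lc_d_rc_32_2 lc_d_rc_30_2 lc_d_rc_31_2 lc_d_rc_20_3 lc_d_rc_12_1 lc_d_rc_31_2 lc_d_rc_33_2 lc_d_rc_32_2 lc_d_rc_28_2 lc_d_Cert_tree lc_d_rc_32_2 lc_d_rc_29_2 lc_d_rc_30_2 lc_d_rc_20_3 lc_d_rc_3_1 lc_d_rc_31_2 lc_d_rc_3_1 lc_d_rc_32_2 lc_d_Cert_tree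 lc_d_rc_20_3 lc_d_rc_28_0 lc_d_rc_12_1 lc_d_Cert_tree lc_d_rc_32_2 lc_d_rc_29_2 lc_d_rc_30_2 lc_d_rc_30_2 lc_d_rc_28_2 lc_d_Cert_tree lc_d_rc_27_0 lc_d_rc_33_2 lc_d_rc_29_2 lc_d_rc_31_2 lc_d_rc_30_2 lc_d_Cert_tree lc_d_rc_27_0 lc_d_rc_20_3 lc_d_rc_28_2) (@D3.rec (fun _ => (Cert rels S Gen.d)) lc_d_rc_12_1 lc_d_Cert_tree lc_d_rc_30_2 lc_d_rc_27_0 lc_d_rc_20_3 lc_d_rc_28_2 lc_d_rc_12_1 lc_d_Cert_tree lc_d_rc_28_2 lc_d_rc_3_1 lc_d_Cert_tree lc_d_rc_27_0 lc_d_rc_30_2 lc_d_rc_28_2 lc_d_rc_20_3 lc_d_rc_28_2 lc_d_Cert_tree lc_d_rc_30_2 lc_d_Cert_tree lc_d_rc_27_0 lc_d_rc_30_2 lc_d_rc_28_2 lc_d_Cert_tree lc_d_rc_27_0 lc_d_rc_30_2 lc_d_rc_30_2 lc_d_rc_29_2 lc_d_rc_31_2 lc_d_rc_28_2 lc_d_Cert_tree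 lc_d_rc_29_2 lc_d_Cert_tree lc_d_rc_27_0 lc_d_rc_30_2 lc_d_rc_31_2 lc_d_Cert_tree lc_d_rc_27_0 lc_d_rc_30_2 lc_d_rc_30_2 lc_d_rc_29_2 lc_d_rc_31_2 lc_d_rc_32_2 lc_d_rc_27_0 lc_d_rc_30_2 lc_d_rc_29_2 lc_d_rc_27_0 lc_d_rc_30_2 lc_d_rc_30_2 lc_d_rc_29_2 lc_d_rc_31_2 lc_d_rc_32_2) (@D3.rec (fun _ => (Cert rels S Gen.d)) lc_d_rc_27_0 lc_d_rc_30_2 lc_d_rc_20_3 lc_d_rc_30_2 lc_d_rc_12_1 lc_d_rc_31_2 lc_d_rc_28_2 lc_d_rc_31_2 lc_d_rc_29_2 lc_d_rc_33_2 lc_d_rc_32_2 lc_d_rc_30_2 lc_d_rc_29_2 lc_d_rc_31_2 lc_d_rc_29_2 lc_d_rc_20_3 lc_d_rc_30_2 lc_d_rc_20_1 lc_d_rc_31_2 lc_d_rc_28_2 lc_d_rc_31_2 lc_d_rc_29_2 lc_d_rc_33_2 lc_d_rc_32_2 lc_d_rc_3_1 lc_d_rc_30_2 lc_d_rc_3_1 lc_d_rc_31_2 lc_d_rc_20_3 lc_d_Cert_tree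 lc_d_rc_12_1 lc_d_rc_31_2 lc_d_rc_12_1 lc_d_rc_12_1 lc_d_rc_32_2 lc_d_rc_28_2 lc_d_Cert_tree lc_d_rc_32_2 lc_d_rc_29_2 lc_d_rc_33_2 lc_d_Cert_tree lc_d_rc_27_0 lc_d_rc_30_2 lc_d_rc_30_2 lc_d_rc_29_2 lc_d_rc_31_2 lc_d_rc_32_2 lc_d_rc_27_0 lc_d_rc_30_2 lc_d_rc_20_3 lc_d_rc_30_2) (@D3.rec (fun _ => (Cert rels S Gen.d)) lc_d_rc_12_1 lc_d_rc_31_2 lc_d_rc_28_2 lc_d_rc_31_2 lc_d_rc_29_2 lc_d_rc_33_2 lc_d_rc_32_2 lc_d_rc_27_0 lc_d_rc_30_2 lc_d_rc_20_3 lc_d_rc_30_2 lc_d_rc_12_1 lc_d_rc_31_2 lc_d_rc_28_2 lc_d_rc_31_2 lc_d_rc_29_2 lc_d_rc_33_2 lc_d_rc_32_2 lc_d_rc_3_1 lc_d_rc_30_2 lc_d_rc_3_1 lc_d_rc_31_2 lc_d_rc_20_3 lc_d_Cert_tree lc_d_rc_12_1 lc_d_rc_31_2 lc_d_rc_12_1 lc_d_rc_12_1 lc_d_rc_32_2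 lc_d_rc_28_2 lc_d_Cert_tree lc_d_rc_32_2 lc_d_rc_29_2 lc_d_rc_33_2 lc_d_rc_3_1 lc_d_rc_30_2 lc_d_rc_3_1 lc_d_rc_31_2 lc_d_rc_20_3 lc_d_Cert_tree lc_d_rc_12_1 lc_d_rc_31_2 lc_d_rc_12_1 lc_d_rc_12_1 lc_d_rc_32_2 lc_d_rc_28_2 lc_d_Cert_tree lc_d_rc_32_2 lc_d_rc_29_2 lc_d_rc_33_2 lc_d_rc_3_3) (@D3.rec (fun _ => (Cert rels S Gen.d)) lc_d_rc_3_1 lc_d_rc_30_0 lc_d_rc_3_1 lc_d_rc_31_2 lc_d_rc_3_1 lc_d_rc_3_1 lc_d_rc_32_2 lc_d_Cert_tree lc_d_rc_20_3 lc_d_Cert_tree lc_d_rc_27_0 lc_d_rc_33_2 lc_d_rc_12_1 lc_d_Cert_tree lc_d_rc_32_2 lc_d_rc_12_1 lc_d_rc_12_1 lc_d_rc_30_2 lc_d_rc_28_2 lc_d_Cert_tree lc_d_rc_27_0 lc_d_rc_33_2 lc_d_rc_29_2 lc_d_rc_33_2 lc_d_rc_3_1 lc_d_rc_31_2 lc_d_rc_32_2 lc_d_Cert_tree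 lc_d_rc_20_3 lc_d_rc_12_1 lc_d_Cert_tree lc_d_rc_32_2 lc_d_rc_12_1 lc_d_rc_30_2 lc_d_rc_28_2 lc_d_Cert_tree lc_d_rc_27_0 lc_d_rc_33_2 lc_d_rc_29_2 lc_d_rc_33_2 lc_d_Cert_tree lc_d_rc_3_1 lc_d_rc_3_1 lc_d_Cert_tree lc_d_rc_32_2 lc_d_rc_3_1 lc_d_rc_27_0 lc_d_rc_31_2 lc_d_Cert_tree lc_d_rc_20_3 lc_d_rc_20_3) (@D3.rec (fun _ => (Cert rels S Gen.d)) lc_d_rc_12_1 lc_d_rc_12_1 lc_d_Cert_tree lc_d_rc_27_0 lc_d_rc_33_2 lc_d_rc_12_1 lc_d_rc_12_1 lc_d_rc_30_2 lc_d_Cert_tree lc_d_Cert_tree lc_d_rc_27_0 lc_d_rc_33_2 lc_d_rc_20_3 lc_d_rc_33_2 lc_d_rc_33_2 lc_d_rc_3_1 lc_d_rc_30_2 lc_d_rc_3_1 lc_d_rc_31_2 lc_d_rc_20_3 lc_d_Cert_tree lc_d_rc_28_2 lc_d_rc_31_2 lc_d_rc_12_1 lc_d_rc_12_1 lc_d_rc_32_2 lc_d_rc_28_2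 lc_d_Cert_tree lc_d_rc_32_2 lc_d_rc_29_2 lc_d_rc_33_2 lc_d_rc_3_1 lc_d_rc_20_3 lc_d_rc_3_1 lc_d_rc_31_2 lc_d_rc_3_1 lc_d_rc_3_1 lc_d_rc_32_2 lc_d_Cert_tree lc_d_rc_20_3 lc_d_Cert_tree lc_d_rc_27_0 lc_d_rc_33_2 lc_d_rc_28_2 lc_d_Cert_tree lc_d_rc_32_2 lc_d_rc_12_1 lc_d_rc_12_1 lc_d_rc_28_2 lc_d_rc_28_2 lc_d_Cert_tree) (@D3.rec (fun _ => (Cert rels S Gen.d)) lc_d_rc_27_0 lc_d_rc_33_2 lc_d_rc_29_2 lc_d_rc_33_2 lc_d_rc_3_1 lc_d_rc_3_1 lc_d_rc_20_3 lc_d_rc_12_1 lc_d_rc_3_1 lc_d_Cert_tree lc_d_rc_32_2 lc_d_rc_3_1 lc_d_rc_3_1 lc_d_rc_20_3 lc_d_Cert_tree lc_d_rc_20_3 lc_d_Cert_tree lc_d_rc_27_0 lc_d_rc_33_2 lc_d_rc_28_2 lc_d_rc_33_2 lc_d_rc_12_1 lc_d_rc_12_1 lc_d_Cert_tree lc_d_rc_27_0 lc_d_rc_33_2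 lc_d_rc_12_1 lc_d_rc_12_1 lc_d_rc_30_2 lc_d_Cert_tree lc_d_Cert_tree lc_d_rc_27_0 lc_d_rc_33_2 lc_d_rc_29_2 lc_d_rc_33_2 lc_d_rc_33_2 lc_d_rc_3_1 lc_d_rc_3_1 lc_d_Cert_tree lc_d_rc_27_0 lc_d_rc_33_2 lc_d_rc_3_1 lc_d_rc_28_0 lc_d_rc_12_1 lc_d_Cert_tree lc_d_Cert_tree lc_d_rc_27_0 lc_d_rc_33_2 lc_d_rc_20_3 lc_d_rc_33_2 lc_d_rc_12_1) (@D3.rec (fun _ => (Cert rels S Gen.d)) lc_d_rc_31_2 lc_d_Cert_tree lc_d_rc_27_0 lc_d_rc_33_2 lc_d_rc_27_0 lc_d_rc_56_59 lc_d_rc_20_3 lc_d_rc_33_2 lc_d_rc_12_1 lc_d_rc_20_3 lc_d_rc_29_2 lc_d_rc_12_1 lc_d_rc_3_1 lc_d_rc_12_1 lc_d_rc_30_2 lc_d_rc_29_2 lc_d_rc_33_2 lc_d_rc_33_2 lc_d_Cert_tree lc_d_rc_27_0 lc_d_rc_28_2 lc_d_rc_12_1 lc_d_Cert_tree lc_d_rc_30_2 lc_d_rc_3_1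 lc_d_Cert_tree lc_d_rc_27_0 lc_d_rc_30_2 lc_d_rc_30_2 lc_d_rc_28_2 lc_d_rc_30_2 lc_d_Cert_tree lc_d_rc_27_0 lc_d_rc_30_2 lc_d_rc_28_2 lc_d_Cert_tree lc_d_rc_27_0 lc_d_rc_30_2 lc_d_rc_30_2 lc_d_rc_29_2 lc_d_rc_3_1 lc_d_rc_28_2 lc_d_rc_30_2 lc_d_rc_31_2 lc_d_rc_27_0 lc_d_rc_30_2 lc_d_rc_30_2 lc_d_rc_31_2 lc_d_rc_28_2 lc_d_rc_27_0 lc_d_rc_30_2) (@D3.rec (fun _ => (Cert rels S Gen.d)) lc_d_rc_20_3 lc_d_rc_30_2 lc_d_rc_29_2 lc_d_rc_31_2 lc_d_rc_28_2 lc_d_rc_31_2 lc_d_rc_29_2 lc_d_rc_31_0 lc_d_rc_29_2 lc_d_rc_27_0 lc_d_rc_30_2 lc_d_rc_30_2 lc_d_rc_31_2 lc_d_rc_32_2 lc_d_rc_27_0 lc_d_rc_30_2 lc_d_rc_20_3 lc_d_rc_30_2 lc_d_rc_12_1 lc_d_rc_31_2 lc_d_rc_28_2 lc_d_rc_31_2 lc_d_rc_29_2 lc_d_rc_33_2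 lc_d_rc_33_0 lc_d_rc_29_2 lc_d_rc_20_3 lc_d_rc_30_2 lc_d_rc_31_2 lc_d_rc_28_2 lc_d_rc_31_2 lc_d_rc_32_2 lc_d_rc_3_1 lc_d_rc_30_2 lc_d_rc_3_1 lc_d_rc_31_2 lc_d_rc_20_3 lc_d_Cert_tree lc_d_rc_12_1 lc_d_rc_31_2 lc_d_rc_12_1 lc_d_rc_12_1 lc_d_rc_32_2 lc_d_rc_28_2 lc_d_rc_3_1 lc_d_rc_32_2 lc_d_rc_29_2 lc_d_rc_33_2 lc_d_rc_20_3 lc_d_rc_12_1 lc_d_rc_31_2) (@D3.rec (fun _ => (Cert rels S Gen.d)) lc_d_rc_32_2 lc_d_rc_28_2 lc_d_rc_32_2 lc_d_rc_12_1 lc_d_rc_3_1 lc_d_rc_12_1 lc_d_rc_3_1 lc_d_rc_31_2 lc_d_rc_3_1 lc_d_rc_32_2 lc_d_Cert_tree lc_d_rc_20_3 lc_d_Cert_tree lc_d_rc_27_0 lc_d_rc_12_1 lc_d_Cert_tree lc_d_rc_32_2 lc_d_rc_12_1 lc_d_rc_12_1 lc_d_rc_30_2 lc_d_rc_28_2 lc_d_rc_30_2 lc_d_rc_27_0 lc_d_rc_33_2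 lc_d_rc_29_2 lc_d_rc_33_2 lc_d_rc_27_0 lc_d_rc_30_2 lc_d_rc_20_3 lc_d_rc_30_2 lc_d_rc_12_1 lc_d_rc_31_2 lc_d_rc_28_2 lc_d_rc_31_2 lc_d_rc_29_2 lc_d_rc_33_2 lc_d_rc_55_63 lc_d_rc_3_1 lc_d_rc_30_2 lc_d_rc_31_2 lc_d_rc_20_3 lc_d_Cert_tree lc_d_rc_12_1 lc_d_rc_31_2 lc_d_rc_12_1 lc_d_rc_33_0 lc_d_rc_33_2 lc_d_rc_3_1 lc_d_rc_30_2 lc_d_rc_31_2 lc_d_rc_20_3) (@D3.rec (fun _ => (Cert rels S Gen.d)) lc_d_rc_3_3 lc_d_rc_12_1 lc_d_rc_31_2 lc_d_rc_12_1 lc_d_rc_32_2 lc_d_rc_28_2 lc_d_Cert_tree lc_d_rc_32_2 lc_d_rc_29_2 lc_d_rc_33_2 lc_d_rc_3_1 lc_d_rc_28_2 lc_d_rc_31_2 lc_d_rc_32_2 lc_d_Cert_tree lc_d_rc_20_3 lc_d_Cert_tree lc_d_rc_27_0 lc_d_rc_12_1 lc_d_rc_56_59 lc_d_rc_32_2 lc_d_rc_12_1 lc_d_rc_28_4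 lc_d_rc_33_2 lc_d_rc_3_1 lc_d_rc_3_1 lc_d_rc_31_2 lc_d_rc_32_2 lc_d_Cert_tree lc_d_rc_20_3 lc_d_rc_3_3 lc_d_rc_12_1 lc_d_Cert_tree lc_d_rc_32_2 lc_d_rc_12_1 lc_d_rc_30_2 lc_d_rc_28_2 lc_d_Cert_tree lc_d_rc_27_0 lc_d_rc_33_2 lc_d_rc_29_2 lc_d_rc_33_2 lc_d_Cert_tree lc_d_rc_3_1 lc_d_rc_3_1 lc_d_rc_32_2 lc_d_rc_27_0 lc_d_rc_31_2 lc_d_Cert_tree lc_d_rc_20_3 lc_d_Cert_tree) (@D3.rec (fun _ => (Cert rels S Gen.d)) lc_d_rc_27_0 lc_d_rc_28_2 lc_d_rc_12_1 lc_d_rc_12_1 lc_d_rc_28_2 lc_d_rc_12_1 lc_d_rc_28_2 lc_d_rc_33_2 lc_d_Cert_tree lc_d_rc_33_2 lc_d_rc_3_1 lc_d_Cert_tree lc_d_rc_32_2 lc_d_rc_3_1 lc_d_rc_27_0 lc_d_rc_31_2 lc_d_Cert_tree lc_d_rc_20_3 lc_d_rc_29_4 lc_d_rc_12_1 lc_d_rc_12_1 lc_d_Cert_tree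 lc_d_rc_27_0 lc_d_rc_12_1 lc_d_rc_30_2 lc_d_Cert_tree lc_d_Cert_tree lc_d_rc_27_0 lc_d_rc_20_3 lc_d_Cert_tree lc_d_rc_31_2 lc_d_rc_27_0 lc_d_rc_31_2 lc_d_rc_3_1 lc_d_rc_3_1 lc_d_rc_3_1 lc_d_rc_31_2 lc_d_rc_29_2 lc_d_rc_30_2 lc_d_rc_32_2 lc_d_rc_30_2 lc_d_rc_3_1 lc_d_rc_3_1 lc_d_rc_31_2 lc_d_rc_32_2 lc_d_Cert_tree lc_d_rc_20_3 lc_d_Cert_tree lc_d_rc_27_0 lc_d_rc_28_2 lc_d_rc_12_1) (@D3.rec (fun _ => (Cert rels S Gen.d)) lc_d_rc_32_2 lc_d_rc_28_2 lc_d_rc_3_3 lc_d_rc_3_3 lc_d_Cert_tree lc_d_rc_3_1 lc_d_rc_3_1 lc_d_rc_32_2 lc_d_rc_27_0 lc_d_rc_31_2 lc_d_Cert_tree lc_d_rc_20_3 lc_d_Cert_tree lc_d_rc_27_0 lc_d_rc_28_2 lc_d_rc_28_2 lc_d_rc_31_2 lc_d_rc_27_0 lc_d_rc_20_5 lc_d_rc_31_2 lc_d_rc_33_2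 lc_d_rc_28_2 lc_d_rc_3_1 lc_d_Cert_tree lc_d_rc_27_0 lc_d_rc_28_2 lc_d_rc_30_2 lc_d_Cert_tree lc_d_rc_3_1 lc_d_rc_3_1 lc_d_rc_27_0 lc_d_rc_31_2 lc_d_Cert_tree lc_d_Cert_tree lc_d_rc_27_0 lc_d_rc_28_2 lc_d_rc_30_2 lc_d_rc_30_2 lc_d_rc_27_0 lc_d_rc_3_3 lc_d_rc_33_2 lc_d_rc_27_0 lc_d_Cert_tree lc_d_rc_27_0 lc_d_rc_28_2 lc_d_rc_30_2 lc_d_rc_20_3 lc_d_rc_12_1 lc_d_rc_20_3 lc_d_rc_29_2 lc_d_rc_31_2)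
def ce_d_3 : D2 → D3 → (Cert rels S Gen.d) := @D2.rec (fun _ => D3 → (Cert rels S Gen.d)) (@D3.rec (fun _ => (Cert rels S Gen.d)) lc_d_rc_20_3 lc_d_rc_30_2 lc_d_rc_29_2 lc_d_rc_28_2 lc_d_rc_29_2 lc_d_rc_33_2 lc_d_rc_27_0 lc_d_rc_28_2 lc_d_rc_30_2 lc_d_rc_27_0 lc_d_rc_55_72 lc_d_rc_30_2 lc_d_Cert_tree lc_d_rc_30_2 lc_d_rc_31_2 lc_d_rc_30_2 lc_d_rc_55_33 lc_d_rc_28_2 lc_d_rc_29_2 lc_d_rc_27_0 lc_d_rc_31_2 lc_d_rc_32_2 lc_d_rc_28_2 lc_d_rc_31_2 lc_d_rc_31_2 lc_d_Cert_tree lc_d_rc_12_1 lc_d_rc_29_2 lc_d_rc_29_2 lc_d_rc_55_57 lc_d_rc_31_2 lc_d_rc_20_3 lc_d_rc_12_1 lc_d_rc_28_2 lc_d_rc_32_2 lc_d_rc_32_2 lc_d_rc_20_3 lc_d_rc_32_2 lc_d_rc_12_1 lc_d_rc_30_2 lc_d_rc_28_2 lc_d_rc_27_0 lc_d_rc_3_1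 lc_d_rc_20_3 lc_d_rc_3_3 lc_d_rc_27_0 lc_d_rc_12_1 lc_d_rc_30_2 lc_d_rc_3_3 lc_d_rc_12_1 lc_d_rc_31_2) (@D3.rec (fun _ => (Cert rels S Gen.d)) lc_d_rc_32_2 lc_d_rc_28_2 lc_d_rc_31_2 lc_d_rc_29_4 lc_d_rc_28_2 lc_d_rc_31_2 lc_d_rc_30_2 lc_d_rc_12_1 lc_d_rc_32_2 lc_d_rc_28_2 lc_d_rc_32_2 lc_d_rc_3_1 lc_d_rc_32_2 lc_d_rc_12_1 lc_d_rc_12_1 lc_d_rc_27_0 lc_d_rc_3_1 lc_d_rc_3_1 lc_d_Cert_tree lc_d_rc_12_1 lc_d_rc_27_0 lc_d_rc_31_2 lc_d_rc_56_17 lc_d_rc_3_1 lc_d_rc_12_1 lc_d_rc_30_2 lc_d_rc_31_2 lc_d_rc_29_4 lc_d_rc_27_0 lc_d_rc_3_1 lc_d_rc_31_2 lc_d_rc_56_3 lc_d_rc_56_10 lc_d_rc_31_2 lc_d_Cert_tree lc_d_rc_27_0 lc_d_rc_20_1 lc_d_rc_20_1 lc_d_rc_27_0 lc_d_rc_20_3 lc_d_rc_27_0 lc_d_rc_31_2 lc_d_rc_12_1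 lc_d_rc_31_2 lc_d_rc_3_1 lc_d_rc_56_52 lc_d_rc_30_2 lc_d_rc_3_1 lc_d_rc_32_2 lc_d_rc_3_1 lc_d_rc_3_1) (@D3.rec (fun _ => (Cert rels S Gen.d)) lc_d_rc_20_3 lc_d_rc_28_2 lc_d_Cert_tree lc_d_rc_27_0 lc_d_rc_20_3 lc_d_rc_28_2 lc_d_rc_12_1 lc_d_Cert_tree lc_d_rc_30_2 lc_d_rc_29_2 lc_d_rc_28_2 lc_d_rc_12_1 lc_d_Cert_tree lc_d_rc_30_2 lc_d_rc_3_1 lc_d_Cert_tree lc_d_rc_27_0 lc_d_rc_30_2 lc_d_rc_31_2 lc_d_rc_3_1 lc_d_Cert_tree lc_d_rc_27_0 lc_d_rc_30_2 lc_d_rc_29_2 lc_d_Cert_tree lc_d_rc_27_0 lc_d_rc_30_2 lc_d_rc_30_2 lc_d_rc_29_2 lc_d_rc_31_2 lc_d_rc_29_2 lc_d_rc_27_0 lc_d_rc_30_2 lc_d_rc_20_3 lc_d_rc_30_2 lc_d_rc_12_1 lc_d_rc_31_2 lc_d_rc_28_2 lc_d_rc_31_2 lc_d_rc_29_2 lc_d_rc_33_2 lc_d_rc_32_2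 lc_d_rc_20_3 lc_d_rc_28_2 lc_d_rc_12_1 lc_d_Cert_tree lc_d_rc_29_0 lc_d_rc_12_1 lc_d_Cert_tree lc_d_rc_28_2 lc_d_rc_3_1) (@D3.rec (fun _ => (Cert rels S Gen.d)) lc_d_Cert_tree lc_d_rc_27_0 lc_d_rc_30_2 lc_d_rc_28_2 lc_d_Cert_tree lc_d_rc_27_0 lc_d_rc_30_2 lc_d_rc_28_2 lc_d_Cert_tree lc_d_rc_27_0 lc_d_rc_30_2 lc_d_rc_30_2 lc_d_rc_29_2 lc_d_rc_31_2 lc_d_rc_28_2 lc_d_Cert_tree lc_d_rc_27_0 lc_d_rc_30_2 lc_d_rc_31_2 lc_d_Cert_tree lc_d_rc_27_0 lc_d_rc_30_2 lc_d_rc_30_2 lc_d_rc_29_2 lc_d_rc_31_2 lc_d_rc_32_2 lc_d_rc_27_0 lc_d_rc_30_2 lc_d_rc_30_2 lc_d_rc_29_2 lc_d_rc_31_2 lc_d_rc_32_2 lc_d_rc_27_0 lc_d_rc_30_2 lc_d_rc_20_3 lc_d_rc_30_2 lc_d_rc_12_1 lc_d_rc_31_2 lc_d_rc_28_2 lc_d_rc_31_2 lc_d_rc_29_2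 lc_d_rc_33_2 lc_d_rc_32_2 lc_d_rc_20_3 lc_d_rc_30_2 lc_d_rc_12_1 lc_d_rc_31_2 lc_d_rc_28_2 lc_d_rc_31_2 lc_d_rc_29_2 lc_d_rc_33_2) (@D3.rec (fun _ => (Cert rels S Gen.d)) lc_d_rc_32_2 lc_d_rc_3_1 lc_d_rc_30_2 lc_d_rc_3_1 lc_d_rc_31_2 lc_d_rc_20_3 lc_d_Cert_tree lc_d_rc_12_1 lc_d_rc_31_2 lc_d_rc_12_1 lc_d_rc_12_1 lc_d_rc_32_2 lc_d_rc_28_2 lc_d_Cert_tree lc_d_rc_32_2 lc_d_rc_29_2 lc_d_rc_33_2 lc_d_rc_3_1 lc_d_Cert_tree lc_d_rc_27_0 lc_d_rc_30_2 lc_d_rc_29_4 lc_d_Cert_tree lc_d_rc_27_0 lc_d_rc_30_2 lc_d_rc_30_2 lc_d_rc_29_2 lc_d_rc_31_2 lc_d_rc_32_2 lc_d_rc_27_0 lc_d_rc_30_2 lc_d_rc_20_3 lc_d_rc_30_2 lc_d_rc_28_2 lc_d_rc_31_2 lc_d_rc_28_2 lc_d_rc_31_2 lc_d_rc_29_2 lc_d_rc_28_2 lc_d_rc_32_2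 lc_d_Cert_tree lc_d_rc_27_0 lc_d_rc_30_2 lc_d_rc_30_2 lc_d_rc_29_2 lc_d_rc_31_2 lc_d_rc_29_4 lc_d_rc_27_0 lc_d_rc_30_2 lc_d_rc_20_3 lc_d_rc_30_2) (@D3.rec (fun _ => (Cert rels S Gen.d)) lc_d_rc_12_1 lc_d_rc_31_2 lc_d_rc_28_2 lc_d_rc_31_2 lc_d_rc_29_2 lc_d_rc_33_2 lc_d_rc_32_2 lc_d_rc_20_3 lc_d_rc_30_2 lc_d_rc_3_1 lc_d_rc_31_2 lc_d_rc_20_3 lc_d_Cert_tree lc_d_rc_12_1 lc_d_rc_31_2 lc_d_rc_29_2 lc_d_rc_28_2 lc_d_rc_32_2 lc_d_rc_28_2 lc_d_Cert_tree lc_d_rc_32_2 lc_d_rc_29_2 lc_d_rc_30_2 lc_d_rc_27_0 lc_d_rc_30_2 lc_d_rc_20_3 lc_d_rc_30_2 lc_d_rc_12_1 lc_d_rc_31_2 lc_d_rc_28_2 lc_d_rc_31_2 lc_d_rc_29_2 lc_d_rc_33_2 lc_d_rc_32_2 lc_d_rc_20_3 lc_d_rc_30_2 lc_d_rc_3_1 lc_d_rc_31_2 lc_d_rc_20_3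 lc_d_Cert_tree lc_d_rc_12_1 lc_d_rc_31_2 lc_d_rc_12_1 lc_d_rc_12_1 lc_d_rc_32_2 lc_d_rc_28_2 lc_d_Cert_tree lc_d_rc_32_2 lc_d_rc_29_2 lc_d_rc_33_2 lc_d_rc_12_1) (@D3.rec (fun _ => (Cert rels S Gen.d)) lc_d_rc_20_3 lc_d_Cert_tree lc_d_rc_3_1 lc_d_rc_31_2 lc_d_rc_3_1 lc_d_rc_3_1 lc_d_rc_32_2 lc_d_Cert_tree lc_d_rc_20_3 lc_d_Cert_tree lc_d_rc_27_0 lc_d_rc_33_2 lc_d_rc_12_1 lc_d_Cert_tree lc_d_rc_32_2 lc_d_rc_29_2 lc_d_rc_30_2 lc_d_rc_30_2 lc_d_rc_28_2 lc_d_Cert_tree lc_d_rc_27_0 lc_d_rc_33_2 lc_d_rc_29_2 lc_d_rc_31_2 lc_d_rc_12_3 lc_d_rc_28_2 lc_d_rc_31_2 lc_d_rc_32_2 lc_d_rc_29_4 lc_d_rc_12_1 lc_d_rc_31_2 lc_d_rc_32_2 lc_d_rc_28_2 lc_d_Cert_tree lc_d_rc_32_2 lc_d_rc_29_2 lc_d_rc_3_1 lc_d_rc_31_2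 lc_d_rc_32_2 lc_d_Cert_tree lc_d_rc_20_3 lc_d_rc_12_1 lc_d_Cert_tree lc_d_rc_32_2 lc_d_rc_33_2 lc_d_rc_30_2 lc_d_rc_28_2 lc_d_Cert_tree lc_d_rc_27_0 lc_d_rc_33_2 lc_d_rc_29_2) (@D3.rec (fun _ => (Cert rels S Gen.d)) lc_d_rc_31_2 lc_d_Cert_tree lc_d_rc_20_3 lc_d_rc_3_1 lc_d_Cert_tree lc_d_rc_32_2 lc_d_rc_3_1 lc_d_rc_27_0 lc_d_rc_31_2 lc_d_Cert_tree lc_d_rc_20_3 lc_d_rc_28_0 lc_d_rc_12_1 lc_d_rc_12_1 lc_d_Cert_tree lc_d_rc_27_0 lc_d_rc_33_2 lc_d_rc_29_2 lc_d_rc_31_2 lc_d_rc_30_2 lc_d_Cert_tree lc_d_Cert_tree lc_d_rc_27_0 lc_d_rc_33_2 lc_d_rc_20_3 lc_d_rc_33_2 lc_d_rc_32_2 lc_d_Cert_tree lc_d_rc_27_0 lc_d_rc_20_3 lc_d_rc_28_2 lc_d_rc_12_1 lc_d_Cert_tree lc_d_rc_30_2 lc_d_rc_3_1 lc_d_Cert_tree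 lc_d_rc_27_0 lc_d_rc_30_2 lc_d_rc_30_2 lc_d_rc_20_3 lc_d_rc_28_2 lc_d_Cert_tree lc_d_rc_30_2 lc_d_Cert_tree lc_d_rc_27_0 lc_d_rc_30_2 lc_d_rc_28_2 lc_d_Cert_tree lc_d_rc_27_0 lc_d_rc_30_2 lc_d_rc_30_2) (@D3.rec (fun _ => (Cert rels S Gen.d)) lc_d_rc_29_2 lc_d_rc_31_2 lc_d_rc_28_2 lc_d_Cert_tree lc_d_rc_30_2 lc_d_rc_27_0 lc_d_rc_30_2 lc_d_rc_31_2 lc_d_rc_27_0 lc_d_rc_30_2 lc_d_rc_30_2 lc_d_rc_29_2 lc_d_rc_31_2 lc_d_rc_28_2 lc_d_rc_27_0 lc_d_rc_30_2 lc_d_rc_20_3 lc_d_rc_30_2 lc_d_rc_29_2 lc_d_rc_31_2 lc_d_rc_28_2 lc_d_rc_31_2 lc_d_rc_29_2 lc_d_rc_33_2 lc_d_rc_32_2 lc_d_rc_27_0 lc_d_rc_30_2 lc_d_rc_29_2 lc_d_rc_27_0 lc_d_rc_30_2 lc_d_rc_30_2 lc_d_rc_29_2 lc_d_rc_31_2 lc_d_rc_32_2 lc_d_rc_27_0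 lc_d_rc_30_2 lc_d_rc_20_3 lc_d_rc_30_2 lc_d_rc_12_1 lc_d_rc_31_2 lc_d_rc_28_2 lc_d_rc_31_2 lc_d_rc_29_2 lc_d_rc_33_2 lc_d_rc_32_2 lc_d_rc_30_2 lc_d_rc_29_2 lc_d_rc_31_2 lc_d_rc_29_2 lc_d_rc_20_3 lc_d_rc_30_2) (@D3.rec (fun _ => (Cert rels S Gen.d)) lc_d_rc_27_0 lc_d_rc_31_2 lc_d_rc_28_2 lc_d_rc_31_2 lc_d_rc_29_2 lc_d_rc_33_2 lc_d_rc_32_2 lc_d_rc_3_1 lc_d_rc_30_2 lc_d_rc_3_1 lc_d_rc_31_2 lc_d_rc_20_3 lc_d_Cert_tree lc_d_rc_12_1 lc_d_rc_31_2 lc_d_rc_12_1 lc_d_rc_12_1 lc_d_rc_32_2 lc_d_rc_28_2 lc_d_Cert_tree lc_d_rc_32_2 lc_d_rc_29_2 lc_d_rc_33_2 lc_d_rc_28_2 lc_d_rc_31_2 lc_d_rc_29_2 lc_d_rc_33_2 lc_d_rc_32_2 lc_d_rc_20_3 lc_d_rc_32_0 lc_d_rc_12_1 lc_d_rc_31_2 lc_d_rc_20_1 lc_d_rc_12_1 lc_d_rc_32_2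 lc_d_rc_28_2 lc_d_Cert_tree lc_d_rc_32_2 lc_d_rc_29_2 lc_d_rc_33_2 lc_d_rc_12_1 lc_d_rc_3_1 lc_d_Cert_tree lc_d_rc_3_1 lc_d_rc_31_2 lc_d_rc_3_1 lc_d_rc_3_1 lc_d_rc_32_2 lc_d_Cert_tree lc_d_rc_20_3 lc_d_Cert_tree) (@D3.rec (fun _ => (Cert rels S Gen.d)) lc_d_rc_27_0 lc_d_rc_33_2 lc_d_rc_12_1 lc_d_Cert_tree lc_d_rc_32_2 lc_d_rc_12_1 lc_d_rc_12_1 lc_d_rc_30_2 lc_d_rc_28_2 lc_d_Cert_tree lc_d_rc_27_0 lc_d_rc_33_2 lc_d_rc_29_2 lc_d_rc_33_2 lc_d_rc_27_0 lc_d_rc_30_2 lc_d_rc_20_3 lc_d_rc_30_2 lc_d_rc_12_1 lc_d_rc_31_2 lc_d_rc_28_2 lc_d_rc_31_2 lc_d_rc_29_2 lc_d_rc_33_2 lc_d_rc_32_2 lc_d_rc_3_1 lc_d_rc_30_2 lc_d_rc_3_1 lc_d_rc_31_2 lc_d_rc_20_3 lc_d_Cert_tree lc_d_rc_12_1 lc_d_rc_31_2 lc_d_rc_12_1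 lc_d_rc_12_1 lc_d_rc_32_2 lc_d_rc_28_2 lc_d_Cert_tree lc_d_rc_32_2 lc_d_rc_29_2 lc_d_rc_33_2 lc_d_rc_3_1 lc_d_rc_30_2 lc_d_rc_3_1 lc_d_rc_31_2 lc_d_rc_20_3 lc_d_Cert_tree lc_d_rc_12_1 lc_d_rc_31_2 lc_d_rc_12_1 lc_d_rc_12_1) (@D3.rec (fun _ => (Cert rels S Gen.d)) lc_d_rc_32_2 lc_d_rc_28_2 lc_d_Cert_tree lc_d_rc_32_2 lc_d_rc_29_2 lc_d_rc_33_2 lc_d_rc_12_1 lc_d_rc_3_1 lc_d_rc_27_1 lc_d_rc_28_2 lc_d_rc_31_2 lc_d_rc_3_1 lc_d_rc_3_1 lc_d_rc_32_2 lc_d_Cert_tree lc_d_rc_20_3 lc_d_Cert_tree lc_d_rc_27_0 lc_d_rc_33_2 lc_d_rc_12_1 lc_d_Cert_tree lc_d_rc_32_2 lc_d_rc_12_1 lc_d_rc_12_1 lc_d_rc_30_2 lc_d_rc_28_2 lc_d_Cert_tree lc_d_rc_27_0 lc_d_rc_33_2 lc_d_rc_29_2 lc_d_rc_33_2 lc_d_rc_12_1 lc_d_rc_3_1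 lc_d_rc_29_4 lc_d_rc_3_1 lc_d_rc_31_2 lc_d_rc_3_1 lc_d_rc_3_1 lc_d_rc_32_2 lc_d_Cert_tree lc_d_rc_20_3 lc_d_Cert_tree lc_d_rc_27_0 lc_d_rc_33_2 lc_d_rc_12_1 lc_d_Cert_tree lc_d_rc_32_2 lc_d_rc_12_1 lc_d_rc_12_1 lc_d_rc_30_2 lc_d_rc_28_2) (@D3.rec (fun _ => (Cert rels S Gen.d)) lc_d_Cert_tree lc_d_rc_27_0 lc_d_rc_33_2 lc_d_rc_29_2 lc_d_rc_33_2 lc_d_rc_3_3 lc_d_Cert_tree lc_d_rc_3_1 lc_d_rc_32_2 lc_d_rc_33_2 lc_d_rc_3_1 lc_d_Cert_tree lc_d_rc_32_2 lc_d_rc_3_1 lc_d_rc_3_1 lc_d_rc_27_0 lc_d_rc_31_2 lc_d_Cert_tree lc_d_rc_20_3 lc_d_Cert_tree lc_d_rc_27_0 lc_d_rc_33_2 lc_d_rc_28_2 lc_d_rc_33_2 lc_d_rc_12_1 lc_d_rc_12_1 lc_d_Cert_tree lc_d_rc_27_0 lc_d_rc_33_2 lc_d_rc_12_1 lc_d_rc_12_1 lc_d_rc_30_2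 lc_d_Cert_tree lc_d_Cert_tree lc_d_rc_27_0 lc_d_rc_33_2 lc_d_rc_20_3 lc_d_rc_33_2 lc_d_rc_33_2 lc_d_rc_3_1 lc_d_rc_32_2 lc_d_rc_27_0 lc_d_rc_31_2 lc_d_rc_20_3 lc_d_rc_12_1 lc_d_rc_12_1 lc_d_Cert_tree lc_d_rc_27_0 lc_d_rc_12_1 lc_d_rc_30_2 lc_d_Cert_tree) (@D3.rec (fun _ => (Cert rels S Gen.d)) lc_d_Cert_tree lc_d_rc_27_0 lc_d_rc_33_2 lc_d_rc_20_3 lc_d_rc_33_2 lc_d_rc_33_2 lc_d_rc_27_0 lc_d_rc_31_2 lc_d_rc_3_1 lc_d_rc_3_1 lc_d_rc_3_1 lc_d_Cert_tree lc_d_rc_27_0 lc_d_rc_3_1 lc_d_rc_31_2 lc_d_Cert_tree lc_d_rc_30_2 lc_d_rc_32_2 lc_d_Cert_tree lc_d_rc_27_0 lc_d_rc_20_3 lc_d_rc_12_1 lc_d_Cert_tree lc_d_Cert_tree lc_d_rc_27_0 lc_d_rc_33_2 lc_d_rc_20_3 lc_d_rc_33_2 lc_d_rc_12_1 lc_d_rc_31_2 lc_d_Cert_tree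 lc_d_rc_27_0 lc_d_rc_33_2 lc_d_rc_27_0 lc_d_rc_33_2 lc_d_rc_20_3 lc_d_rc_33_2 lc_d_rc_12_1 lc_d_rc_20_3 lc_d_rc_29_2 lc_d_rc_3_1 lc_d_rc_27_1 lc_d_rc_3_1 lc_d_rc_31_2 lc_d_rc_3_1 lc_d_rc_3_1 lc_d_rc_32_2 lc_d_Cert_tree lc_d_rc_20_3 lc_d_Cert_tree lc_d_rc_27_0) (@D3.rec (fun _ => (Cert rels S Gen.d)) lc_d_rc_33_2 lc_d_rc_28_2 lc_d_Cert_tree lc_d_rc_32_2 lc_d_rc_12_1 lc_d_rc_12_1 lc_d_rc_30_2 lc_d_rc_28_2 lc_d_Cert_tree lc_d_rc_27_0 lc_d_rc_33_2 lc_d_rc_29_2 lc_d_rc_33_2 lc_d_Cert_tree lc_d_rc_3_1 lc_d_rc_30_2 lc_d_rc_27_1 lc_d_rc_3_1 lc_d_Cert_tree lc_d_rc_32_2 lc_d_rc_3_1 lc_d_rc_3_1 lc_d_rc_27_0 lc_d_rc_31_2 lc_d_Cert_tree lc_d_rc_20_3 lc_d_Cert_tree lc_d_rc_27_0 lc_d_rc_33_2 lc_d_rc_28_2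 lc_d_rc_33_2 lc_d_rc_28_2 lc_d_rc_28_2 lc_d_Cert_tree lc_d_rc_27_0 lc_d_rc_33_2 lc_d_rc_12_1 lc_d_rc_12_1 lc_d_rc_28_2 lc_d_Cert_tree lc_d_Cert_tree lc_d_rc_27_0 lc_d_rc_33_2 lc_d_rc_20_3 lc_d_rc_33_2 lc_d_rc_33_2 lc_d_rc_3_1 lc_d_Cert_tree lc_d_rc_3_1 lc_d_rc_27_1 lc_d_rc_20_3) (@D3.rec (fun _ => (Cert rels S Gen.d)) lc_d_rc_3_1 lc_d_rc_3_1 lc_d_Cert_tree lc_d_rc_27_0 lc_d_rc_33_2 lc_d_rc_3_1 lc_d_rc_3_1 lc_d_rc_20_3 lc_d_rc_20_3 lc_d_Cert_tree lc_d_rc_27_0 lc_d_rc_33_2 lc_d_Cert_tree lc_d_rc_27_0 lc_d_rc_33_2 lc_d_rc_28_2 lc_d_rc_33_2 lc_d_rc_30_2 lc_d_rc_28_2 lc_d_rc_12_1 lc_d_Cert_tree lc_d_Cert_tree lc_d_rc_27_0 lc_d_rc_33_2 lc_d_rc_20_3 lc_d_rc_33_2 lc_d_rc_12_1 lc_d_rc_31_2 lc_d_Cert_tree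 lc_d_rc_27_0 lc_d_rc_33_2 lc_d_rc_27_0 lc_d_rc_33_2 lc_d_rc_29_2 lc_d_rc_33_2 lc_d_rc_12_1 lc_d_rc_33_2 lc_d_rc_29_2 lc_d_rc_3_1 lc_d_Cert_tree lc_d_Cert_tree lc_d_rc_27_0 lc_d_rc_33_2 lc_d_rc_3_1 lc_d_rc_33_2 lc_d_rc_28_0 lc_d_rc_12_1 lc_d_Cert_tree lc_d_rc_27_0 lc_d_rc_33_2 lc_d_rc_27_0) (@D3.rec (fun _ => (Cert rels S Gen.d)) lc_d_rc_33_2 lc_d_rc_20_3 lc_d_rc_33_2 lc_d_rc_12_1 lc_d_rc_20_3 lc_d_rc_29_2 lc_d_rc_27_0 lc_d_rc_3_1 lc_d_rc_28_2 lc_d_rc_33_2 lc_d_rc_12_1 lc_d_rc_29_2 lc_d_rc_3_1 lc_d_rc_12_1 lc_d_rc_55_69 lc_d_rc_3_1 lc_d_rc_3_1 lc_d_rc_28_2 lc_d_rc_29_2 lc_d_rc_33_2 lc_d_rc_27_0 lc_d_rc_28_2 lc_d_rc_30_2 lc_d_Cert_tree lc_d_rc_27_0 lc_d_rc_12_3 lc_d_rc_30_2 lc_d_rc_3_3 lc_d_rc_27_0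 lc_d_rc_30_2 lc_d_rc_30_2 lc_d_rc_31_2 lc_d_rc_27_0 lc_d_rc_30_2 lc_d_rc_30_2 lc_d_rc_12_3 lc_d_rc_28_2 lc_d_rc_27_0 lc_d_rc_56_52 lc_d_rc_20_3 lc_d_rc_30_2 lc_d_rc_29_2 lc_d_rc_3_1 lc_d_rc_31_2 lc_d_rc_32_2 lc_d_rc_20_3 lc_d_rc_30_2 lc_d_rc_31_2 lc_d_rc_28_2 lc_d_rc_31_2 lc_d_rc_31_0) (@D3.rec (fun _ => (Cert rels S Gen.d)) lc_d_rc_3_1 lc_d_rc_30_2 lc_d_rc_3_1 lc_d_rc_20_5 lc_d_rc_20_3 lc_d_rc_29_4 lc_d_rc_12_1 lc_d_rc_31_2 lc_d_rc_29_2 lc_d_rc_31_0 lc_d_rc_29_2 lc_d_rc_20_3 lc_d_rc_30_2 lc_d_rc_31_2 lc_d_rc_20_3 lc_d_rc_31_2 lc_d_rc_28_2 lc_d_rc_3_1 lc_d_rc_30_2 lc_d_rc_3_1 lc_d_rc_27_1 lc_d_rc_20_3 lc_d_Cert_tree lc_d_rc_28_2 lc_d_rc_31_2 lc_d_rc_12_1 lc_d_rc_12_1 lc_d_rc_56_45 lc_d_rc_33_2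 lc_d_rc_20_3 lc_d_rc_12_1 lc_d_rc_31_2 lc_d_rc_32_2 lc_d_rc_28_2 lc_d_rc_32_2 lc_d_rc_12_1 lc_d_rc_3_1 lc_d_rc_12_1 lc_d_rc_3_1 lc_d_rc_31_2 lc_d_rc_3_1 lc_d_rc_28_2 lc_d_Cert_tree lc_d_rc_20_3 lc_d_Cert_tree lc_d_rc_27_0 lc_d_rc_20_5 lc_d_rc_33_0 lc_d_rc_32_2 lc_d_rc_12_1 lc_d_rc_12_1) (@D3.rec (fun _ => (Cert rels S Gen.d)) lc_d_rc_55_81 lc_d_rc_33_2 lc_d_Cert_tree lc_d_rc_20_3 lc_d_rc_12_1 lc_d_rc_32_2 lc_d_rc_30_2 lc_d_rc_28_2 lc_d_rc_12_1 lc_d_Cert_tree lc_d_rc_3_1 lc_d_rc_12_1 lc_d_rc_3_1 lc_d_Cert_tree lc_d_rc_32_2 lc_d_rc_3_1 lc_d_rc_27_0 lc_d_rc_31_2 lc_d_Cert_tree lc_d_rc_20_3 lc_d_Cert_tree lc_d_rc_27_0 lc_d_rc_28_2 lc_d_rc_12_1 lc_d_rc_12_1 lc_d_rc_30_2 lc_d_rc_27_0 lc_d_rc_33_2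 lc_d_rc_12_1 lc_d_rc_12_1 lc_d_rc_30_2 lc_d_rc_33_2 lc_d_rc_33_2 lc_d_rc_3_1 lc_d_rc_30_2 lc_d_rc_31_2 lc_d_rc_20_3 lc_d_rc_12_1 lc_d_rc_12_1 lc_d_rc_31_2 lc_d_rc_12_1 lc_d_rc_27_1 lc_d_rc_3_1 lc_d_rc_29_2 lc_d_rc_33_2 lc_d_rc_3_1 lc_d_rc_28_2 lc_d_rc_31_2 lc_d_rc_33_0 lc_d_Cert_tree lc_d_rc_20_3) (@D3.rec (fun _ => (Cert rels S Gen.d)) lc_d_Cert_tree lc_d_rc_27_0 lc_d_rc_3_1 lc_d_rc_28_2 lc_d_rc_31_2 lc_d_rc_32_2 lc_d_Cert_tree lc_d_rc_20_3 lc_d_rc_30_2 lc_d_rc_12_1 lc_d_rc_20_5 lc_d_rc_32_2 lc_d_rc_12_1 lc_d_rc_30_0 lc_d_rc_27_0 lc_d_rc_29_4 lc_d_rc_29_2 lc_d_rc_33_2 lc_d_Cert_tree lc_d_rc_3_1 lc_d_rc_28_2 lc_d_rc_32_2 lc_d_rc_27_0 lc_d_rc_31_2 lc_d_Cert_tree lc_d_rc_20_3 lc_d_Cert_tree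 lc_d_rc_27_0 lc_d_rc_28_2 lc_d_Cert_tree lc_d_rc_3_1 lc_d_rc_3_1 lc_d_rc_32_2 lc_d_rc_27_0 lc_d_rc_31_2 lc_d_Cert_tree lc_d_rc_20_3 lc_d_rc_12_1 lc_d_rc_12_1 lc_d_rc_12_1 lc_d_Cert_tree lc_d_rc_27_0 lc_d_rc_12_1 lc_d_rc_28_2 lc_d_rc_30_2 lc_d_rc_27_0 lc_d_rc_30_2 lc_d_rc_33_2 lc_d_rc_33_2 lc_d_rc_27_0 lc_d_rc_31_2) (@D3.rec (fun _ => (Cert rels S Gen.d)) lc_d_rc_3_1 lc_d_rc_3_1 lc_d_rc_3_1 lc_d_rc_31_2 lc_d_Cert_tree lc_d_rc_30_2 lc_d_rc_32_2 lc_d_Cert_tree lc_d_rc_27_0 lc_d_Cert_tree lc_d_rc_27_0 lc_d_rc_28_2 lc_d_rc_30_2 lc_d_rc_27_0 lc_d_rc_31_2 lc_d_rc_33_2 lc_d_rc_3_1 lc_d_rc_3_1 lc_d_Cert_tree lc_d_rc_27_0 lc_d_rc_3_1 lc_d_rc_31_2 lc_d_Cert_tree lc_d_rc_30_2 lc_d_rc_32_2 lc_d_Cert_tree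 lc_d_rc_27_0 lc_d_rc_29_4 lc_d_rc_30_2 lc_d_rc_55_87 lc_d_rc_55_9 lc_d_rc_27_0 lc_d_rc_20_3 lc_d_rc_29_4 lc_d_rc_27_0 lc_d_rc_27_0 lc_d_rc_20_3 lc_d_rc_12_1 lc_d_rc_27_0 lc_d_rc_31_2 lc_d_rc_32_2 lc_d_rc_31_2 lc_d_rc_3_1 lc_d_rc_30_2 lc_d_rc_32_2 lc_d_rc_30_2 lc_d_rc_30_2 lc_d_rc_32_2 lc_d_rc_29_2 lc_d_rc_33_2 lc_d_rc_30_2) (@D3.rec (fun _ => (Cert rels S Gen.d)) lc_d_Cert_tree lc_d_rc_3_1 lc_d_rc_3_1 lc_d_rc_32_2 lc_d_rc_27_0 lc_d_rc_31_2 lc_d_Cert_tree lc_d_rc_20_3 lc_d_Cert_tree lc_d_rc_27_0 lc_d_rc_28_2 lc_d_rc_27_0 lc_d_rc_31_2 lc_d_rc_3_1 lc_d_rc_3_1 lc_d_rc_31_2 lc_d_Cert_tree lc_d_rc_32_2 lc_d_Cert_tree lc_d_rc_27_0 lc_d_Cert_tree lc_d_rc_27_0 lc_d_rc_28_2 lc_d_rc_30_2 lc_d_rc_20_3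 lc_d_rc_29_2 lc_d_rc_27_0 lc_d_rc_28_2 lc_d_rc_30_2 lc_d_rc_31_2 lc_d_rc_27_0 lc_d_rc_31_2 lc_d_rc_3_1 lc_d_rc_31_2 lc_d_Cert_tree lc_d_rc_30_2 lc_d_Cert_tree lc_d_rc_27_0 lc_d_rc_27_0 lc_d_rc_28_2 lc_d_rc_30_2 lc_d_rc_20_3 lc_d_rc_29_2 lc_d_rc_29_2 lc_d_rc_27_0 lc_d_rc_33_2 lc_d_rc_20_3 lc_d_rc_28_2 lc_d_rc_30_2 lc_d_rc_31_2 lc_d_rc_33_2) (@D3.rec (fun _ => (Cert rels S Gen.d)) lc_d_rc_12_1 lc_d_rc_3_3 lc_d_rc_32_2 lc_d_rc_20_3 lc_d_Cert_tree lc_d_rc_28_2 lc_d_rc_29_2 lc_d_Cert_tree lc_d_rc_28_2 lc_d_rc_28_2 lc_d_rc_30_2 lc_d_rc_31_2 lc_d_rc_27_0 lc_d_rc_31_2 lc_d_rc_32_2 lc_d_rc_28_2 lc_d_rc_32_2 lc_d_rc_27_0 lc_d_rc_27_0 lc_d_rc_31_2 lc_d_rc_12_1 lc_d_rc_31_2 lc_d_rc_55_75 lc_d_rc_20_1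 lc_d_rc_31_2 lc_d_rc_12_1 lc_d_rc_30_2 lc_d_rc_32_2 lc_d_rc_27_0 lc_d_rc_20_3 lc_d_rc_31_2 lc_d_rc_20_5 lc_d_rc_12_1 lc_d_Cert_tree lc_d_rc_27_0 lc_d_rc_20_3 lc_d_rc_28_2 lc_d_rc_12_1 lc_d_Cert_tree lc_d_rc_30_2 lc_d_rc_3_1 lc_d_rc_3_1 lc_d_rc_27_0 lc_d_rc_30_2 lc_d_rc_31_2 lc_d_rc_12_1 lc_d_Cert_tree lc_d_rc_30_2 lc_d_rc_3_1 lc_d_Cert_tree lc_d_rc_27_0) (@D3.rec (fun _ => (Cert rels S Gen.d)) lc_d_rc_30_2 lc_d_rc_31_2 lc_d_rc_29_4 lc_d_rc_27_0 lc_d_rc_30_2 lc_d_rc_30_2 lc_d_rc_29_2 lc_d_rc_31_2 lc_d_rc_32_2 lc_d_Cert_tree lc_d_rc_27_0 lc_d_rc_30_2 lc_d_rc_30_2 lc_d_rc_29_2 lc_d_rc_31_2 lc_d_rc_29_2 lc_d_rc_27_0 lc_d_rc_30_2 lc_d_rc_20_3 lc_d_rc_30_2 lc_d_rc_12_1 lc_d_rc_31_2 lc_d_rc_28_2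 lc_d_rc_31_2 lc_d_rc_29_2 lc_d_rc_33_2 lc_d_rc_32_2 lc_d_rc_3_1 lc_d_rc_30_2 lc_d_rc_3_1 lc_d_rc_31_2 lc_d_rc_20_3 lc_d_Cert_tree lc_d_rc_28_2 lc_d_rc_31_2 lc_d_rc_12_1 lc_d_rc_12_1 lc_d_rc_32_2 lc_d_rc_28_2 lc_d_Cert_tree lc_d_rc_32_2 lc_d_rc_29_2 lc_d_rc_33_2 lc_d_rc_12_1 lc_d_Cert_tree lc_d_rc_30_2 lc_d_rc_3_1 lc_d_Cert_tree lc_d_rc_27_0 lc_d_rc_30_2 lc_d_rc_30_2) (@D3.rec (fun _ => (Cert rels S Gen.d)) lc_d_Cert_tree lc_d_rc_27_0 lc_d_rc_30_2 lc_d_rc_28_2 lc_d_Cert_tree lc_d_rc_27_0 lc_d_rc_30_2 lc_d_rc_30_2 lc_d_rc_29_2 lc_d_rc_31_2 lc_d_rc_28_2 lc_d_rc_27_0 lc_d_rc_30_2 lc_d_rc_30_2 lc_d_rc_28_4 lc_d_rc_31_2 lc_d_rc_28_2 lc_d_rc_27_0 lc_d_rc_30_2 lc_d_rc_20_3 lc_d_rc_30_2 lc_d_rc_3_1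 lc_d_rc_31_2 lc_d_rc_28_2 lc_d_rc_31_2 lc_d_rc_29_2 lc_d_rc_33_2 lc_d_rc_32_2 lc_d_rc_27_0 lc_d_rc_30_2 lc_d_rc_30_2 lc_d_rc_29_2 lc_d_rc_31_2 lc_d_rc_32_2 lc_d_rc_27_0 lc_d_rc_30_2 lc_d_rc_20_3 lc_d_rc_30_2 lc_d_rc_12_1 lc_d_rc_31_2 lc_d_rc_28_2 lc_d_rc_31_2 lc_d_rc_29_2 lc_d_rc_33_2 lc_d_rc_32_2 lc_d_rc_20_3 lc_d_rc_30_2 lc_d_rc_12_1 lc_d_rc_31_2 lc_d_rc_28_2 lc_d_rc_31_2) (@D3.rec (fun _ => (Cert rels S Gen.d)) lc_d_rc_29_2 lc_d_rc_33_2 lc_d_rc_32_2 lc_d_rc_3_1 lc_d_rc_30_2 lc_d_rc_3_1 lc_d_rc_31_2 lc_d_rc_20_3 lc_d_Cert_tree lc_d_rc_12_1 lc_d_rc_31_2 lc_d_rc_12_1 lc_d_rc_12_1 lc_d_rc_32_2 lc_d_rc_28_2 lc_d_Cert_tree lc_d_rc_32_2 lc_d_rc_29_2 lc_d_rc_33_2 lc_d_rc_20_3 lc_d_Cert_tree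 lc_d_rc_12_1 lc_d_rc_31_2 lc_d_rc_12_1 lc_d_rc_12_1 lc_d_rc_32_2 lc_d_rc_28_2 lc_d_Cert_tree lc_d_rc_32_2 lc_d_rc_29_2 lc_d_rc_33_2 lc_d_rc_12_1 lc_d_rc_3_1 lc_d_Cert_tree lc_d_rc_3_1 lc_d_rc_31_2 lc_d_rc_3_1 lc_d_rc_3_1 lc_d_rc_32_2 lc_d_Cert_tree lc_d_rc_20_3 lc_d_Cert_tree lc_d_rc_27_0 lc_d_rc_33_2 lc_d_rc_12_1 lc_d_Cert_tree lc_d_rc_32_2 lc_d_rc_12_1 lc_d_rc_12_1 lc_d_rc_30_2 lc_d_rc_28_2) (@D3.rec (fun _ => (Cert rels S Gen.d)) lc_d_Cert_tree lc_d_rc_27_0 lc_d_rc_33_2 lc_d_rc_29_2 lc_d_rc_33_2 lc_d_Cert_tree lc_d_rc_27_0 lc_d_rc_30_2 lc_d_rc_30_2 lc_d_rc_29_2 lc_d_rc_31_2 lc_d_rc_29_4 lc_d_rc_27_0 lc_d_rc_30_2 lc_d_rc_20_3 lc_d_rc_30_2 lc_d_rc_12_1 lc_d_rc_31_2 lc_d_rc_28_2 lc_d_rc_31_2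 lc_d_rc_29_2 lc_d_rc_33_2 lc_d_rc_32_2 lc_d_rc_20_3 lc_d_rc_30_2 lc_d_rc_3_1 lc_d_rc_31_2 lc_d_rc_20_3 lc_d_Cert_tree lc_d_rc_12_1 lc_d_rc_31_2 lc_d_rc_29_2 lc_d_rc_28_2 lc_d_rc_32_2 lc_d_rc_28_2 lc_d_Cert_tree lc_d_rc_32_2 lc_d_rc_29_2 lc_d_rc_30_2 lc_d_rc_27_0 lc_d_rc_30_2 lc_d_rc_20_3 lc_d_rc_30_2 lc_d_rc_12_1 lc_d_rc_31_2 lc_d_rc_28_2 lc_d_rc_31_2 lc_d_rc_29_2 lc_d_rc_33_2 lc_d_rc_32_2 lc_d_rc_20_3)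
def ce_d_4 : D2 → D3 → (Cert rels S Gen.d) := @D2.rec (fun _ => D3 → (Cert rels S Gen.d)) (@D3.rec (fun _ => (Cert rels S Gen.d)) lc_d_rc_30_2 lc_d_rc_3_1 lc_d_rc_31_2 lc_d_rc_20_3 lc_d_Cert_tree lc_d_rc_12_1 lc_d_rc_31_2 lc_d_rc_12_1 lc_d_rc_12_1 lc_d_rc_32_2 lc_d_rc_28_2 lc_d_Cert_tree lc_d_rc_32_2 lc_d_rc_29_2 lc_d_rc_33_2 lc_d_rc_12_1 lc_d_rc_20_3 lc_d_Cert_tree lc_d_rc_28_2 lc_d_rc_31_2 lc_d_rc_3_1 lc_d_rc_3_1 lc_d_rc_32_2 lc_d_Cert_tree lc_d_rc_20_3 lc_d_Cert_tree lc_d_rc_27_0 lc_d_rc_33_2 lc_d_rc_12_1 lc_d_Cert_tree lc_d_rc_32_2 lc_d_rc_29_2 lc_d_rc_30_2 lc_d_rc_30_2 lc_d_rc_28_2 lc_d_Cert_tree lc_d_rc_27_0 lc_d_rc_33_2 lc_d_rc_29_2 lc_d_rc_31_2 lc_d_rc_20_3 lc_d_rc_30_2 lc_d_rc_3_1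 lc_d_rc_31_2 lc_d_rc_20_3 lc_d_Cert_tree lc_d_rc_12_1 lc_d_rc_31_2 lc_d_rc_12_1 lc_d_rc_12_1 lc_d_rc_32_2) (@D3.rec (fun _ => (Cert rels S Gen.d)) lc_d_rc_28_2 lc_d_Cert_tree lc_d_rc_32_2 lc_d_rc_29_2 lc_d_rc_33_2 lc_d_rc_12_1 lc_d_rc_20_3 lc_d_Cert_tree lc_d_rc_3_1 lc_d_rc_31_2 lc_d_rc_3_1 lc_d_rc_3_1 lc_d_rc_32_2 lc_d_Cert_tree lc_d_rc_20_3 lc_d_Cert_tree lc_d_rc_27_0 lc_d_rc_33_2 lc_d_rc_12_1 lc_d_Cert_tree lc_d_rc_32_2 lc_d_rc_12_1 lc_d_rc_12_1 lc_d_rc_30_2 lc_d_rc_28_2 lc_d_Cert_tree lc_d_rc_27_0 lc_d_rc_33_2 lc_d_rc_29_2 lc_d_rc_33_2 lc_d_rc_12_1 lc_d_rc_28_2 lc_d_Cert_tree lc_d_rc_20_3 lc_d_Cert_tree lc_d_rc_27_0 lc_d_rc_33_2 lc_d_rc_3_1 lc_d_Cert_tree lc_d_rc_32_2 lc_d_rc_3_1 lc_d_rc_3_1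 lc_d_rc_27_0 lc_d_rc_31_2 lc_d_Cert_tree lc_d_rc_20_3 lc_d_Cert_tree lc_d_rc_27_0 lc_d_rc_33_2 lc_d_rc_28_2 lc_d_rc_33_2) (@D3.rec (fun _ => (Cert rels S Gen.d)) lc_d_rc_12_1 lc_d_rc_12_1 lc_d_Cert_tree lc_d_rc_27_0 lc_d_rc_33_2 lc_d_rc_29_2 lc_d_rc_31_2 lc_d_rc_30_2 lc_d_Cert_tree lc_d_Cert_tree lc_d_rc_27_0 lc_d_rc_33_2 lc_d_rc_20_3 lc_d_rc_33_2 lc_d_rc_32_2 lc_d_rc_12_3 lc_d_rc_28_2 lc_d_rc_32_2 lc_d_rc_29_4 lc_d_rc_12_1 lc_d_rc_32_2 lc_d_rc_30_2 lc_d_rc_28_2 lc_d_Cert_tree lc_d_rc_27_0 lc_d_rc_29_2 lc_d_rc_3_1 lc_d_rc_32_2 lc_d_rc_27_0 lc_d_rc_31_2 lc_d_rc_20_3 lc_d_rc_12_1 lc_d_rc_12_1 lc_d_Cert_tree lc_d_rc_27_0 lc_d_rc_33_2 lc_d_rc_30_2 lc_d_Cert_tree lc_d_Cert_tree lc_d_rc_27_0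 lc_d_rc_33_2 lc_d_rc_20_3 lc_d_rc_33_2 lc_d_rc_32_2 lc_d_rc_27_0 lc_d_rc_31_2 lc_d_rc_20_3 lc_d_rc_3_1 lc_d_rc_3_1 lc_d_Cert_tree lc_d_rc_27_0) (@D3.rec (fun _ => (Cert rels S Gen.d)) lc_d_rc_3_1 lc_d_rc_31_2 lc_d_Cert_tree lc_d_rc_30_2 lc_d_rc_32_2 lc_d_Cert_tree lc_d_rc_27_0 lc_d_rc_28_0 lc_d_rc_12_1 lc_d_Cert_tree lc_d_Cert_tree lc_d_rc_27_0 lc_d_rc_33_2 lc_d_rc_20_3 lc_d_rc_33_2 lc_d_rc_32_2 lc_d_rc_31_2 lc_d_Cert_tree lc_d_rc_27_0 lc_d_rc_33_2 lc_d_rc_27_0 lc_d_rc_33_2 lc_d_rc_20_3 lc_d_rc_33_2 lc_d_rc_12_1 lc_d_rc_20_3 lc_d_rc_29_2 lc_d_rc_27_0 lc_d_rc_20_3 lc_d_rc_28_2 lc_d_rc_32_2 lc_d_rc_3_3 lc_d_Cert_tree lc_d_rc_27_0 lc_d_rc_20_3 lc_d_rc_30_2 lc_d_Cert_tree lc_d_rc_27_0 lc_d_rc_30_2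 lc_d_rc_30_2 lc_d_rc_29_2 lc_d_rc_33_2 lc_d_rc_33_2 lc_d_rc_30_2 lc_d_rc_27_0 lc_d_rc_29_4 lc_d_rc_30_2 lc_d_rc_27_0 lc_d_rc_30_2 lc_d_rc_30_2 lc_d_rc_3_3) (@D3.rec (fun _ => (Cert rels S Gen.d)) lc_d_rc_56_38 lc_d_rc_28_2 lc_d_rc_27_0 lc_d_rc_30_2 lc_d_rc_20_3 lc_d_rc_30_2 lc_d_rc_29_2 lc_d_rc_31_2 lc_d_rc_28_2 lc_d_rc_31_2 lc_d_rc_29_2 lc_d_rc_33_2 lc_d_rc_30_2 lc_d_rc_27_0 lc_d_rc_20_3 lc_d_rc_31_2 lc_d_rc_30_2 lc_d_rc_29_2 lc_d_rc_29_4 lc_d_rc_31_2 lc_d_rc_20_3 lc_d_rc_30_2 lc_d_rc_29_2 lc_d_rc_31_2 lc_d_rc_28_2 lc_d_rc_31_2 lc_d_rc_29_2 lc_d_rc_33_2 lc_d_rc_56_45 lc_d_rc_30_2 lc_d_rc_31_2 lc_d_rc_20_3 lc_d_rc_12_1 lc_d_rc_31_2 lc_d_rc_29_2 lc_d_rc_33_2 lc_d_rc_32_2 lc_d_rc_28_2 lc_d_Cert_tree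 lc_d_rc_32_2 lc_d_rc_29_2 lc_d_rc_33_2 lc_d_rc_30_2 lc_d_rc_29_2 lc_d_rc_12_3 lc_d_rc_29_2 lc_d_rc_20_3 lc_d_rc_30_2 lc_d_rc_20_1 lc_d_rc_31_2 lc_d_rc_28_2) (@D3.rec (fun _ => (Cert rels S Gen.d)) lc_d_rc_31_2 lc_d_rc_29_2 lc_d_rc_33_2 lc_d_rc_32_2 lc_d_rc_3_1 lc_d_rc_30_2 lc_d_rc_3_1 lc_d_rc_31_2 lc_d_rc_20_3 lc_d_Cert_tree lc_d_rc_12_1 lc_d_rc_31_2 lc_d_rc_12_1 lc_d_rc_12_1 lc_d_rc_32_2 lc_d_rc_28_2 lc_d_Cert_tree lc_d_rc_32_2 lc_d_rc_29_2 lc_d_rc_33_2 lc_d_rc_28_2 lc_d_rc_31_2 lc_d_rc_29_2 lc_d_rc_33_2 lc_d_rc_31_2 lc_d_rc_20_3 lc_d_rc_31_2 lc_d_rc_12_1 lc_d_rc_31_2 lc_d_rc_30_2 lc_d_rc_20_1 lc_d_rc_32_2 lc_d_rc_28_2 lc_d_Cert_tree lc_d_rc_32_2 lc_d_rc_29_2 lc_d_rc_33_2 lc_d_rc_12_1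 lc_d_rc_3_1 lc_d_Cert_tree lc_d_rc_3_1 lc_d_rc_31_2 lc_d_rc_3_1 lc_d_rc_3_1 lc_d_rc_32_2 lc_d_Cert_tree lc_d_rc_20_3 lc_d_Cert_tree lc_d_rc_27_0 lc_d_rc_33_2 lc_d_rc_12_1) (@D3.rec (fun _ => (Cert rels S Gen.d)) lc_d_Cert_tree lc_d_rc_32_2 lc_d_rc_12_1 lc_d_rc_12_1 lc_d_rc_30_2 lc_d_rc_28_2 lc_d_Cert_tree lc_d_rc_27_0 lc_d_rc_33_2 lc_d_rc_29_2 lc_d_rc_33_2 lc_d_rc_28_2 lc_d_Cert_tree lc_d_rc_32_2 lc_d_rc_29_2 lc_d_rc_33_2 lc_d_Cert_tree lc_d_rc_20_3 lc_d_rc_29_2 lc_d_rc_33_2 lc_d_rc_12_1 lc_d_Cert_tree lc_d_rc_32_2 lc_d_rc_20_1 lc_d_rc_20_1 lc_d_rc_30_2 lc_d_rc_28_2 lc_d_Cert_tree lc_d_rc_27_0 lc_d_rc_33_2 lc_d_rc_29_2 lc_d_rc_33_2 lc_d_rc_12_1 lc_d_rc_29_2 lc_d_Cert_tree lc_d_rc_3_1 lc_d_Cert_tree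 lc_d_rc_27_0 lc_d_rc_33_2 lc_d_rc_3_1 lc_d_Cert_tree lc_d_rc_32_2 lc_d_rc_3_1 lc_d_rc_3_1 lc_d_rc_27_0 lc_d_rc_31_2 lc_d_Cert_tree lc_d_rc_20_3 lc_d_Cert_tree lc_d_rc_27_0 lc_d_rc_33_2) (@D3.rec (fun _ => (Cert rels S Gen.d)) lc_d_rc_28_2 lc_d_rc_33_2 lc_d_rc_12_1 lc_d_rc_12_1 lc_d_Cert_tree lc_d_rc_27_0 lc_d_rc_33_2 lc_d_rc_12_1 lc_d_rc_12_1 lc_d_rc_30_2 lc_d_Cert_tree lc_d_Cert_tree lc_d_rc_27_0 lc_d_rc_33_2 lc_d_rc_20_3 lc_d_rc_33_2 lc_d_rc_33_2 lc_d_rc_3_1 lc_d_rc_30_2 lc_d_rc_3_1 lc_d_rc_31_2 lc_d_rc_20_3 lc_d_Cert_tree lc_d_rc_12_1 lc_d_rc_31_2 lc_d_rc_12_1 lc_d_rc_12_1 lc_d_rc_32_2 lc_d_rc_28_2 lc_d_Cert_tree lc_d_rc_32_2 lc_d_rc_29_2 lc_d_rc_33_2 lc_d_rc_3_3 lc_d_rc_3_1 lc_d_rc_32_2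 lc_d_rc_28_2 lc_d_rc_31_2 lc_d_rc_3_1 lc_d_rc_3_1 lc_d_rc_32_2 lc_d_Cert_tree lc_d_rc_20_3 lc_d_Cert_tree lc_d_rc_27_0 lc_d_rc_33_2 lc_d_rc_12_1 lc_d_Cert_tree lc_d_rc_32_2 lc_d_rc_12_1 lc_d_rc_12_1) (@D3.rec (fun _ => (Cert rels S Gen.d)) lc_d_rc_30_2 lc_d_rc_28_2 lc_d_Cert_tree lc_d_rc_27_0 lc_d_rc_33_2 lc_d_rc_29_2 lc_d_rc_33_2 lc_d_rc_12_1 lc_d_rc_3_1 lc_d_rc_29_4 lc_d_rc_28_2 lc_d_rc_31_2 lc_d_rc_3_1 lc_d_rc_3_1 lc_d_rc_32_2 lc_d_Cert_tree lc_d_rc_20_3 lc_d_Cert_tree lc_d_rc_27_0 lc_d_rc_33_2 lc_d_rc_12_1 lc_d_Cert_tree lc_d_rc_32_2 lc_d_rc_12_1 lc_d_rc_12_1 lc_d_rc_30_2 lc_d_rc_28_2 lc_d_Cert_tree lc_d_rc_27_0 lc_d_rc_33_2 lc_d_rc_29_2 lc_d_rc_33_2 lc_d_rc_30_2 lc_d_Cert_tree lc_d_rc_3_1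 lc_d_rc_30_2 lc_d_rc_33_2 lc_d_rc_28_2 lc_d_Cert_tree lc_d_rc_32_2 lc_d_rc_3_1 lc_d_rc_3_1 lc_d_rc_27_0 lc_d_rc_31_2 lc_d_Cert_tree lc_d_rc_20_3 lc_d_Cert_tree lc_d_rc_27_0 lc_d_rc_33_2 lc_d_rc_28_2 lc_d_rc_33_2) (@D3.rec (fun _ => (Cert rels S Gen.d)) lc_d_rc_12_1 lc_d_rc_12_1 lc_d_Cert_tree lc_d_rc_27_0 lc_d_rc_33_2 lc_d_rc_12_1 lc_d_rc_12_1 lc_d_rc_30_2 lc_d_Cert_tree lc_d_Cert_tree lc_d_rc_27_0 lc_d_rc_33_2 lc_d_rc_20_3 lc_d_rc_33_2 lc_d_rc_33_2 lc_d_rc_12_1 lc_d_rc_29_0 lc_d_rc_3_1 lc_d_rc_29_4 lc_d_rc_55_60 lc_d_rc_3_1 lc_d_rc_33_0 lc_d_rc_32_2 lc_d_rc_3_1 lc_d_rc_3_1 lc_d_rc_27_0 lc_d_rc_31_2 lc_d_Cert_tree lc_d_rc_20_3 lc_d_Cert_tree lc_d_rc_27_0 lc_d_rc_33_2 lc_d_rc_33_2 lc_d_rc_12_1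 lc_d_rc_12_1 lc_d_Cert_tree lc_d_rc_27_0 lc_d_rc_33_2 lc_d_rc_12_1 lc_d_rc_12_1 lc_d_rc_30_2 lc_d_Cert_tree lc_d_Cert_tree lc_d_rc_27_0 lc_d_rc_33_2 lc_d_rc_20_3 lc_d_rc_33_2 lc_d_rc_33_2 lc_d_Cert_tree lc_d_rc_3_3 lc_d_rc_27_0) (@D3.rec (fun _ => (Cert rels S Gen.d)) lc_d_rc_31_2 lc_d_Cert_tree lc_d_rc_3_1 lc_d_rc_31_2 lc_d_rc_33_2 lc_d_rc_3_1 lc_d_rc_3_1 lc_d_Cert_tree lc_d_rc_27_0 lc_d_rc_33_2 lc_d_rc_3_1 lc_d_rc_3_1 lc_d_rc_31_2 lc_d_Cert_tree lc_d_rc_30_2 lc_d_rc_32_2 lc_d_Cert_tree lc_d_rc_27_0 lc_d_rc_33_2 lc_d_Cert_tree lc_d_rc_27_0 lc_d_rc_33_2 lc_d_rc_28_2 lc_d_rc_33_2 lc_d_rc_30_2 lc_d_rc_28_2 lc_d_rc_12_1 lc_d_Cert_tree lc_d_Cert_tree lc_d_rc_27_0 lc_d_rc_33_2 lc_d_rc_20_3 lc_d_rc_33_2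 lc_d_rc_12_1 lc_d_rc_31_2 lc_d_Cert_tree lc_d_rc_27_0 lc_d_rc_33_2 lc_d_rc_27_0 lc_d_rc_33_2 lc_d_rc_20_3 lc_d_rc_33_2 lc_d_rc_12_1 lc_d_rc_20_3 lc_d_rc_29_2 lc_d_rc_3_1 lc_d_rc_3_1 lc_d_rc_31_2 lc_d_rc_33_0 lc_d_rc_30_2 lc_d_rc_32_2) (@D3.rec (fun _ => (Cert rels S Gen.d)) lc_d_rc_12_1 lc_d_Cert_tree lc_d_Cert_tree lc_d_rc_27_0 lc_d_rc_29_0 lc_d_rc_31_2 lc_d_Cert_tree lc_d_rc_27_0 lc_d_rc_33_2 lc_d_rc_27_0 lc_d_rc_33_2 lc_d_rc_20_3 lc_d_rc_33_2 lc_d_rc_12_1 lc_d_rc_20_3 lc_d_rc_29_2 lc_d_rc_31_2 lc_d_rc_3_3 lc_d_rc_30_2 lc_d_rc_32_2 lc_d_rc_3_1 lc_d_Cert_tree lc_d_Cert_tree lc_d_rc_27_0 lc_d_rc_29_0 lc_d_rc_30_2 lc_d_rc_32_2 lc_d_Cert_tree lc_d_rc_27_0 lc_d_rc_33_2 lc_d_rc_30_2 lc_d_Cert_tree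 lc_d_Cert_tree lc_d_rc_27_0 lc_d_rc_20_3 lc_d_rc_12_1 lc_d_Cert_tree lc_d_rc_27_0 lc_d_rc_33_2 lc_d_rc_27_0 lc_d_rc_33_2 lc_d_rc_20_3 lc_d_rc_33_2 lc_d_rc_12_1 lc_d_rc_29_0 lc_d_rc_3_1 lc_d_Cert_tree lc_d_rc_27_0 lc_d_rc_33_2 lc_d_rc_20_3 lc_d_rc_28_2) (@D3.rec (fun _ => (Cert rels S Gen.d)) lc_d_rc_33_2 lc_d_rc_20_3 lc_d_rc_33_2 lc_d_rc_12_1 lc_d_rc_20_3 lc_d_rc_29_2 lc_d_rc_3_1 lc_d_rc_12_1 lc_d_Cert_tree lc_d_rc_31_2 lc_d_rc_3_1 lc_d_rc_30_2 lc_d_rc_20_3 lc_d_rc_3_1 lc_d_Cert_tree lc_d_rc_32_2 lc_d_rc_3_1 lc_d_rc_3_1 lc_d_rc_27_0 lc_d_rc_28_4 lc_d_Cert_tree lc_d_rc_20_3 lc_d_Cert_tree lc_d_rc_27_0 lc_d_rc_33_2 lc_d_rc_28_2 lc_d_rc_33_2 lc_d_rc_30_2 lc_d_rc_28_2 lc_d_Cert_tree lc_d_rc_27_0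 lc_d_rc_33_2 lc_d_rc_12_1 lc_d_rc_12_1 lc_d_rc_30_2 lc_d_Cert_tree lc_d_Cert_tree lc_d_rc_27_0 lc_d_rc_33_2 lc_d_rc_20_3 lc_d_rc_33_2 lc_d_rc_33_2 lc_d_rc_27_0 lc_d_rc_31_2 lc_d_Cert_tree lc_d_rc_3_1 lc_d_rc_30_2 lc_d_rc_30_2 lc_d_rc_3_1 lc_d_rc_3_1 lc_d_Cert_tree) (@D3.rec (fun _ => (Cert rels S Gen.d)) lc_d_rc_27_0 lc_d_rc_33_2 lc_d_rc_3_1 lc_d_rc_3_1 lc_d_rc_31_2 lc_d_Cert_tree lc_d_rc_29_0 lc_d_rc_31_2 lc_d_Cert_tree lc_d_rc_27_0 lc_d_rc_33_2 lc_d_Cert_tree lc_d_rc_27_0 lc_d_rc_33_2 lc_d_rc_28_2 lc_d_rc_33_2 lc_d_rc_30_2 lc_d_rc_28_2 lc_d_rc_28_2 lc_d_Cert_tree lc_d_Cert_tree lc_d_rc_27_0 lc_d_rc_33_2 lc_d_rc_20_3 lc_d_rc_33_2 lc_d_rc_12_1 lc_d_rc_28_2 lc_d_Cert_tree lc_d_rc_27_0 lc_d_rc_33_2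 lc_d_rc_27_0 lc_d_rc_33_2 lc_d_rc_20_3 lc_d_rc_33_2 lc_d_rc_12_1 lc_d_rc_20_3 lc_d_rc_29_2 lc_d_rc_3_1 lc_d_rc_3_1 lc_d_Cert_tree lc_d_rc_27_0 lc_d_rc_33_2 lc_d_rc_20_3 lc_d_rc_20_3 lc_d_rc_3_1 lc_d_Cert_tree lc_d_Cert_tree lc_d_rc_27_0 lc_d_rc_33_2 lc_d_rc_20_3 lc_d_rc_33_2) (@D3.rec (fun _ => (Cert rels S Gen.d)) lc_d_rc_3_1 lc_d_rc_20_3 lc_d_Cert_tree lc_d_Cert_tree lc_d_rc_27_0 lc_d_rc_33_2 lc_d_rc_20_3 lc_d_rc_28_2 lc_d_rc_33_2 lc_d_rc_27_0 lc_d_rc_33_2 lc_d_rc_28_2 lc_d_rc_33_2 lc_d_rc_30_2 lc_d_rc_28_2 lc_d_rc_31_2 lc_d_rc_30_2 lc_d_rc_12_1 lc_d_Cert_tree lc_d_rc_27_0 lc_d_rc_33_2 lc_d_rc_27_0 lc_d_rc_33_2 lc_d_rc_20_3 lc_d_rc_33_2 lc_d_rc_12_1 lc_d_rc_20_3 lc_d_rc_29_2 lc_d_rc_55_48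 lc_d_rc_27_0 lc_d_rc_33_2 lc_d_rc_30_2 lc_d_rc_28_2 lc_d_rc_33_2 lc_d_rc_32_2 lc_d_rc_33_2 lc_d_rc_12_1 lc_d_rc_33_2 lc_d_rc_29_2 lc_d_rc_3_1 lc_d_rc_12_1 lc_d_rc_55_39 lc_d_rc_31_2 lc_d_Cert_tree lc_d_rc_27_0 lc_d_rc_33_2 lc_d_rc_27_0 lc_d_rc_33_2 lc_d_rc_3_1 lc_d_rc_33_2 lc_d_rc_12_1) (@D3.rec (fun _ => (Cert rels S Gen.d)) lc_d_rc_3_1 lc_d_rc_3_1 lc_d_rc_27_0 lc_d_rc_20_3 lc_d_rc_28_2 lc_d_rc_33_2 lc_d_rc_20_3 lc_d_rc_33_2 lc_d_rc_12_1 lc_d_rc_20_3 lc_d_rc_29_2 lc_d_rc_3_1 lc_d_rc_12_1 lc_d_Cert_tree lc_d_rc_3_1 lc_d_rc_3_1 lc_d_rc_31_0 lc_d_Cert_tree lc_d_rc_28_2 lc_d_rc_28_2 lc_d_rc_30_2 lc_d_rc_31_2 lc_d_rc_27_0 lc_d_rc_12_1 lc_d_rc_20_3 lc_d_rc_31_2 lc_d_rc_30_2 lc_d_rc_20_3 lc_d_rc_30_2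 lc_d_rc_12_1 lc_d_rc_3_1 lc_d_rc_3_1 lc_d_rc_20_3 lc_d_rc_29_4 lc_d_rc_32_2 lc_d_rc_20_3 lc_d_rc_12_1 lc_d_rc_31_2 lc_d_rc_20_1 lc_d_rc_3_1 lc_d_rc_3_1 lc_d_rc_3_1 lc_d_Cert_tree lc_d_rc_20_3 lc_d_rc_12_3 lc_d_rc_20_3 lc_d_rc_12_1 lc_d_rc_31_2 lc_d_rc_12_1 lc_d_rc_3_1 lc_d_rc_12_1) (@D3.rec (fun _ => (Cert rels S Gen.d)) lc_d_rc_3_1 lc_d_Cert_tree lc_d_rc_20_3 lc_d_Cert_tree lc_d_rc_27_0 lc_d_rc_12_1 lc_d_Cert_tree lc_d_rc_20_3 lc_d_rc_28_2 lc_d_rc_32_2 lc_d_rc_12_1 lc_d_Cert_tree lc_d_rc_3_1 lc_d_rc_30_2 lc_d_rc_33_0 lc_d_rc_3_1 lc_d_rc_27_0 lc_d_rc_31_2 lc_d_rc_33_0 lc_d_rc_20_3 lc_d_Cert_tree lc_d_rc_27_0 lc_d_rc_28_2 lc_d_rc_20_1 lc_d_rc_12_1 lc_d_rc_27_0 lc_d_rc_31_2 lc_d_rc_20_3 lc_d_rc_12_1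 lc_d_rc_12_1 lc_d_Cert_tree lc_d_rc_12_1 lc_d_rc_27_0 lc_d_rc_31_2 lc_d_Cert_tree lc_d_rc_3_1 lc_d_rc_12_1 lc_d_rc_30_2 lc_d_rc_27_0 lc_d_rc_3_1 lc_d_rc_31_2 lc_d_Cert_tree lc_d_rc_30_2 lc_d_rc_32_2 lc_d_Cert_tree lc_d_rc_27_0 lc_d_Cert_tree lc_d_rc_27_0 lc_d_rc_28_2 lc_d_rc_30_2 lc_d_rc_30_2) (@D3.rec (fun _ => (Cert rels S Gen.d)) lc_d_rc_20_3 lc_d_rc_33_2 lc_d_rc_12_1 lc_d_rc_3_1 lc_d_rc_28_2 lc_d_rc_31_2 lc_d_rc_20_5 lc_d_Cert_tree lc_d_rc_20_3 lc_d_rc_30_2 lc_d_Cert_tree lc_d_rc_3_1 lc_d_rc_27_0 lc_d_rc_27_0 lc_d_rc_28_2 lc_d_Cert_tree lc_d_rc_3_1 lc_d_rc_28_2 lc_d_rc_32_2 lc_d_rc_27_0 lc_d_rc_31_2 lc_d_Cert_tree lc_d_rc_20_3 lc_d_rc_30_2 lc_d_rc_27_0 lc_d_rc_31_2 lc_d_rc_3_1 lc_d_rc_31_2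 lc_d_Cert_tree lc_d_rc_27_0 lc_d_rc_27_0 lc_d_rc_28_2 lc_d_rc_30_2 lc_d_rc_27_0 lc_d_rc_31_2 lc_d_rc_3_1 lc_d_rc_3_1 lc_d_rc_3_1 lc_d_rc_31_2 lc_d_Cert_tree lc_d_rc_30_2 lc_d_rc_32_2 lc_d_Cert_tree lc_d_rc_27_0 lc_d_rc_3_3 lc_d_rc_27_0 lc_d_rc_20_3 lc_d_rc_31_2 lc_d_rc_29_2 lc_d_rc_30_2 lc_d_rc_32_2) (@D3.rec (fun _ => (Cert rels S Gen.d)) lc_d_rc_30_2 lc_d_rc_32_2 lc_d_Cert_tree lc_d_rc_27_0 lc_d_rc_33_2 lc_d_rc_27_0 lc_d_rc_28_2 lc_d_rc_27_0 lc_d_rc_28_2 lc_d_rc_30_2 lc_d_rc_31_2 lc_d_rc_31_2 lc_d_rc_28_2 lc_d_rc_30_2 lc_d_rc_32_2 lc_d_rc_20_5 lc_d_rc_12_1 lc_d_rc_27_0 lc_d_rc_3_3 lc_d_rc_30_2 lc_d_rc_32_2 lc_d_Cert_tree lc_d_rc_27_0 lc_d_rc_33_2 lc_d_rc_30_2 lc_d_Cert_tree lc_d_Cert_tree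 lc_d_rc_27_0 lc_d_rc_20_3 lc_d_rc_20_3 lc_d_rc_12_1 lc_d_rc_20_3 lc_d_rc_20_3 lc_d_rc_12_1 lc_d_rc_20_3 lc_d_rc_31_2 lc_d_rc_12_1 lc_d_rc_30_2 lc_d_rc_32_2 lc_d_rc_30_2 lc_d_rc_32_2 lc_d_rc_3_1 lc_d_rc_3_1 lc_d_rc_30_2 lc_d_rc_28_2 lc_d_rc_30_2 lc_d_rc_29_2 lc_d_rc_29_2 lc_d_rc_33_2 lc_d_rc_27_0 lc_d_rc_28_4) (@D3.rec (fun _ => (Cert rels S Gen.d)) lc_d_rc_3_1 lc_d_rc_31_2 lc_d_Cert_tree lc_d_rc_27_0 lc_d_rc_27_0 lc_d_rc_28_2 lc_d_rc_30_2 lc_d_rc_31_2 lc_d_rc_29_2 lc_d_rc_29_0 lc_d_rc_32_2 lc_d_Cert_tree lc_d_rc_27_0 lc_d_rc_33_2 lc_d_rc_27_0 lc_d_rc_20_3 lc_d_rc_28_2 lc_d_rc_27_0 lc_d_rc_28_2 lc_d_rc_30_2 lc_d_rc_31_2 lc_d_rc_28_2 lc_d_rc_30_2 lc_d_rc_31_2 lc_d_rc_32_2 lc_d_rc_31_2 lc_d_rc_29_2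 lc_d_rc_29_0 lc_d_rc_30_2 lc_d_Cert_tree lc_d_rc_27_0 lc_d_rc_33_2 lc_d_rc_27_0 lc_d_rc_20_3 lc_d_rc_28_2 lc_d_rc_28_2 lc_d_rc_30_2 lc_d_rc_31_2 lc_d_rc_33_2 lc_d_rc_29_2 lc_d_rc_28_2 lc_d_rc_33_2 lc_d_rc_30_2 lc_d_rc_31_2 lc_d_rc_32_2 lc_d_Cert_tree lc_d_Cert_tree lc_d_rc_27_0 lc_d_Cert_tree lc_d_rc_27_0 lc_d_rc_28_2) (@D3.rec (fun _ => (Cert rels S Gen.d)) lc_d_rc_31_2 lc_d_rc_28_2 lc_d_rc_32_2 lc_d_rc_30_2 lc_d_rc_33_2 lc_d_rc_31_2 lc_d_rc_12_1 lc_d_rc_12_1 lc_d_rc_20_3 lc_d_rc_27_0 lc_d_rc_20_3 lc_d_rc_28_2 lc_d_rc_12_1 lc_d_rc_55_72 lc_d_rc_30_2 lc_d_rc_3_1 lc_d_rc_31_2 lc_d_rc_27_0 lc_d_rc_30_2 lc_d_rc_31_2 lc_d_rc_30_2 lc_d_rc_30_2 lc_d_rc_31_2 lc_d_rc_32_2 lc_d_rc_3_1 lc_d_rc_29_4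 lc_d_rc_27_0 lc_d_rc_31_0 lc_d_rc_32_0 lc_d_rc_29_4 lc_d_rc_27_0 lc_d_rc_28_4 lc_d_rc_30_2 lc_d_rc_29_2 lc_d_rc_29_4 lc_d_rc_20_1 lc_d_rc_56_24 lc_d_rc_30_2 lc_d_rc_29_4 lc_d_rc_28_2 lc_d_rc_31_2 lc_d_rc_29_2 lc_d_rc_29_4 lc_d_rc_27_0 lc_d_rc_28_2 lc_d_rc_20_3 lc_d_rc_30_2 lc_d_rc_12_1 lc_d_rc_31_2 lc_d_rc_12_1 lc_d_rc_31_2) (@D3.rec (fun _ => (Cert rels S Gen.d)) lc_d_rc_29_2 lc_d_rc_33_2 lc_d_rc_28_2 lc_d_rc_3_1 lc_d_rc_30_2 lc_d_rc_3_1 lc_d_rc_31_2 lc_d_rc_20_3 lc_d_Cert_tree lc_d_rc_20_3 lc_d_rc_31_2 lc_d_rc_12_1 lc_d_rc_12_1 lc_d_rc_31_2 lc_d_rc_31_2 lc_d_Cert_tree lc_d_rc_32_2 lc_d_rc_29_2 lc_d_rc_33_2 lc_d_rc_12_1 lc_d_rc_3_1 lc_d_Cert_tree lc_d_rc_3_1 lc_d_rc_31_2 lc_d_rc_3_1 lc_d_rc_3_1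 lc_d_rc_29_4 lc_d_rc_31_2 lc_d_rc_20_3 lc_d_Cert_tree lc_d_rc_27_0 lc_d_rc_33_2 lc_d_rc_28_2 lc_d_Cert_tree lc_d_rc_32_2 lc_d_rc_12_1 lc_d_rc_12_1 lc_d_rc_29_0 lc_d_rc_28_2 lc_d_Cert_tree lc_d_rc_27_0 lc_d_rc_33_2 lc_d_rc_29_2 lc_d_rc_33_2 lc_d_Cert_tree lc_d_rc_27_0 lc_d_rc_30_2 lc_d_rc_30_2 lc_d_Cert_tree lc_d_rc_27_0 lc_d_rc_30_2) (@D3.rec (fun _ => (Cert rels S Gen.d)) lc_d_rc_30_2 lc_d_rc_12_3 lc_d_rc_32_0 lc_d_rc_30_2 lc_d_rc_27_0 lc_d_rc_30_2 lc_d_rc_30_2 lc_d_rc_29_2 lc_d_rc_31_2 lc_d_rc_28_2 lc_d_rc_27_0 lc_d_rc_30_2 lc_d_rc_20_3 lc_d_rc_30_2 lc_d_rc_3_1 lc_d_rc_31_2 lc_d_rc_28_2 lc_d_rc_31_2 lc_d_rc_3_1 lc_d_rc_33_2 lc_d_rc_29_2 lc_d_rc_20_3 lc_d_rc_30_2 lc_d_rc_29_2 lc_d_rc_31_2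 lc_d_rc_28_2 lc_d_rc_31_2 lc_d_rc_29_2 lc_d_rc_28_4 lc_d_rc_32_2 lc_d_rc_30_2 lc_d_rc_31_2 lc_d_rc_20_3 lc_d_rc_12_1 lc_d_rc_31_2 lc_d_rc_12_1 lc_d_rc_32_2 lc_d_rc_28_2 lc_d_Cert_tree lc_d_rc_32_2 lc_d_rc_3_1 lc_d_rc_30_2 lc_d_rc_20_3 lc_d_rc_30_2 lc_d_rc_12_1 lc_d_rc_31_2 lc_d_rc_28_2 lc_d_rc_31_2 lc_d_rc_29_2 lc_d_rc_33_2 lc_d_rc_32_2) (@D3.rec (fun _ => (Cert rels S Gen.d)) lc_d_rc_3_1 lc_d_rc_30_2 lc_d_rc_3_1 lc_d_rc_31_2 lc_d_rc_20_3 lc_d_Cert_tree lc_d_rc_12_1 lc_d_rc_31_2 lc_d_rc_12_1 lc_d_rc_12_1 lc_d_rc_32_2 lc_d_rc_28_2 lc_d_Cert_tree lc_d_rc_32_2 lc_d_rc_29_2 lc_d_rc_33_2 lc_d_rc_20_3 lc_d_Cert_tree lc_d_rc_12_1 lc_d_rc_31_2 lc_d_rc_12_1 lc_d_rc_12_1 lc_d_rc_32_2 lc_d_rc_28_2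 lc_d_Cert_tree lc_d_rc_32_2 lc_d_rc_29_2 lc_d_rc_33_2 lc_d_rc_12_1 lc_d_rc_3_1 lc_d_Cert_tree lc_d_rc_3_1 lc_d_rc_31_2 lc_d_rc_3_1 lc_d_rc_3_1 lc_d_rc_32_2 lc_d_Cert_tree lc_d_rc_20_3 lc_d_Cert_tree lc_d_rc_27_0 lc_d_rc_33_2 lc_d_rc_12_1 lc_d_Cert_tree lc_d_rc_32_2 lc_d_rc_12_1 lc_d_rc_12_1 lc_d_rc_30_2 lc_d_rc_28_2 lc_d_Cert_tree lc_d_rc_27_0 lc_d_rc_33_2) (@D3.rec (fun _ => (Cert rels S Gen.d)) lc_d_rc_29_2 lc_d_rc_33_2 lc_d_Cert_tree lc_d_rc_20_3 lc_d_Cert_tree lc_d_rc_27_0 lc_d_rc_33_2 lc_d_rc_12_1 lc_d_Cert_tree lc_d_rc_32_2 lc_d_rc_12_1 lc_d_rc_12_1 lc_d_rc_30_2 lc_d_rc_28_2 lc_d_Cert_tree lc_d_rc_27_0 lc_d_rc_33_2 lc_d_rc_29_2 lc_d_rc_33_2 lc_d_rc_12_1 lc_d_Cert_tree lc_d_Cert_tree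 lc_d_rc_3_1 lc_d_Cert_tree lc_d_rc_27_0 lc_d_rc_33_2 lc_d_rc_3_1 lc_d_Cert_tree lc_d_rc_32_2 lc_d_rc_3_1 lc_d_rc_3_1 lc_d_rc_27_0 lc_d_rc_31_2 lc_d_Cert_tree lc_d_rc_20_3 lc_d_Cert_tree lc_d_rc_27_0 lc_d_rc_33_2 lc_d_rc_28_2 lc_d_rc_33_2 lc_d_rc_12_1 lc_d_rc_12_1 lc_d_Cert_tree lc_d_rc_27_0 lc_d_rc_33_2 lc_d_rc_12_1 lc_d_rc_12_1 lc_d_rc_30_2 lc_d_Cert_tree lc_d_Cert_tree lc_d_rc_27_0) (@D3.rec (fun _ => (Cert rels S Gen.d)) lc_d_rc_33_2 lc_d_rc_20_3 lc_d_rc_33_2 lc_d_rc_33_2 lc_d_rc_27_0 lc_d_rc_30_2 lc_d_rc_20_3 lc_d_rc_30_2 lc_d_rc_12_1 lc_d_rc_31_2 lc_d_rc_28_2 lc_d_rc_31_2 lc_d_rc_29_2 lc_d_rc_33_2 lc_d_rc_32_2 lc_d_rc_20_3 lc_d_rc_30_2 lc_d_rc_3_1 lc_d_rc_31_2 lc_d_rc_20_3 lc_d_Cert_tree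 lc_d_rc_12_1 lc_d_rc_31_2 lc_d_rc_12_1 lc_d_rc_12_1 lc_d_rc_32_2 lc_d_rc_28_2 lc_d_Cert_tree lc_d_rc_32_2 lc_d_rc_29_2 lc_d_rc_33_2 lc_d_rc_12_1 lc_d_rc_20_3 lc_d_Cert_tree lc_d_rc_28_2 lc_d_rc_31_2 lc_d_rc_3_1 lc_d_rc_3_1 lc_d_rc_32_2 lc_d_Cert_tree lc_d_rc_20_3 lc_d_Cert_tree lc_d_rc_27_0 lc_d_rc_33_2 lc_d_rc_12_1 lc_d_Cert_tree lc_d_rc_32_2 lc_d_rc_29_2 lc_d_rc_30_2 lc_d_rc_30_2 lc_d_rc_28_2) (@D3.rec (fun _ => (Cert rels S Gen.d)) lc_d_Cert_tree lc_d_rc_27_0 lc_d_rc_33_2 lc_d_rc_29_2 lc_d_rc_31_2 lc_d_rc_20_3 lc_d_rc_30_2 lc_d_rc_3_1 lc_d_rc_31_2 lc_d_rc_20_3 lc_d_Cert_tree lc_d_rc_28_2 lc_d_rc_31_2 lc_d_rc_12_1 lc_d_rc_12_1 lc_d_rc_32_2 lc_d_rc_28_2 lc_d_Cert_tree lc_d_rc_32_2 lc_d_rc_29_2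 lc_d_rc_33_2 lc_d_rc_12_1 lc_d_rc_20_3 lc_d_Cert_tree lc_d_rc_28_2 lc_d_rc_31_2 lc_d_rc_3_1 lc_d_rc_3_1 lc_d_rc_32_2 lc_d_Cert_tree lc_d_rc_20_3 lc_d_Cert_tree lc_d_rc_27_0 lc_d_rc_33_2 lc_d_rc_12_1 lc_d_Cert_tree lc_d_rc_32_2 lc_d_rc_12_1 lc_d_rc_12_1 lc_d_rc_30_2 lc_d_rc_28_2 lc_d_Cert_tree lc_d_rc_27_0 lc_d_rc_33_2 lc_d_rc_29_2 lc_d_rc_33_2 lc_d_rc_12_1 lc_d_rc_28_2 lc_d_Cert_tree lc_d_rc_20_3 lc_d_Cert_tree)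
def ce_d_5 : D2 → D3 → (Cert rels S Gen.d) := @D2.rec (fun _ => D3 → (Cert rels S Gen.d)) (@D3.rec (fun _ => (Cert rels S Gen.d)) lc_d_rc_27_0 lc_d_rc_33_2 lc_d_rc_28_2 lc_d_Cert_tree lc_d_rc_32_2 lc_d_rc_3_1 lc_d_rc_3_1 lc_d_rc_27_0 lc_d_rc_31_2 lc_d_Cert_tree lc_d_rc_20_3 lc_d_Cert_tree lc_d_rc_27_0 lc_d_rc_33_2 lc_d_rc_28_2 lc_d_rc_33_2 lc_d_rc_12_1 lc_d_rc_12_1 lc_d_Cert_tree lc_d_rc_27_0 lc_d_rc_33_2 lc_d_rc_29_2 lc_d_rc_31_2 lc_d_rc_30_2 lc_d_Cert_tree lc_d_Cert_tree lc_d_rc_27_0 lc_d_rc_33_2 lc_d_rc_20_3 lc_d_rc_33_2 lc_d_rc_32_2 lc_d_rc_12_1 lc_d_rc_20_3 lc_d_Cert_tree lc_d_rc_31_2 lc_d_rc_3_1 lc_d_rc_3_1 lc_d_rc_32_2 lc_d_rc_3_1 lc_d_rc_20_3 lc_d_Cert_tree lc_d_rc_27_0 lc_d_rc_33_2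 lc_d_rc_12_1 lc_d_rc_28_4 lc_d_rc_32_2 lc_d_rc_12_1 lc_d_rc_12_1 lc_d_rc_30_2 lc_d_rc_28_2 lc_d_Cert_tree) (@D3.rec (fun _ => (Cert rels S Gen.d)) lc_d_rc_27_0 lc_d_rc_33_2 lc_d_rc_29_2 lc_d_rc_33_2 lc_d_rc_12_1 lc_d_rc_33_0 lc_d_rc_29_0 lc_d_rc_20_3 lc_d_Cert_tree lc_d_rc_27_0 lc_d_rc_33_2 lc_d_rc_3_1 lc_d_rc_33_0 lc_d_rc_32_2 lc_d_rc_3_1 lc_d_rc_3_1 lc_d_rc_27_0 lc_d_rc_31_2 lc_d_Cert_tree lc_d_rc_20_3 lc_d_Cert_tree lc_d_rc_27_0 lc_d_rc_33_2 lc_d_rc_28_2 lc_d_rc_33_2 lc_d_rc_12_1 lc_d_rc_12_1 lc_d_Cert_tree lc_d_rc_27_0 lc_d_rc_33_2 lc_d_rc_12_1 lc_d_rc_12_1 lc_d_rc_30_2 lc_d_Cert_tree lc_d_Cert_tree lc_d_rc_27_0 lc_d_rc_33_2 lc_d_rc_20_3 lc_d_rc_33_2 lc_d_rc_33_2 lc_d_Cert_tree lc_d_rc_12_1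 lc_d_rc_28_0 lc_d_rc_28_2 lc_d_rc_27_0 lc_d_rc_31_2 lc_d_Cert_tree lc_d_rc_20_3 lc_d_Cert_tree lc_d_rc_27_0 lc_d_rc_33_2) (@D3.rec (fun _ => (Cert rels S Gen.d)) lc_d_rc_33_2 lc_d_rc_3_1 lc_d_rc_3_1 lc_d_Cert_tree lc_d_rc_27_0 lc_d_rc_33_2 lc_d_rc_3_1 lc_d_rc_3_1 lc_d_rc_31_2 lc_d_Cert_tree lc_d_rc_30_2 lc_d_rc_32_2 lc_d_Cert_tree lc_d_rc_27_0 lc_d_rc_33_2 lc_d_Cert_tree lc_d_rc_27_0 lc_d_rc_33_2 lc_d_rc_28_2 lc_d_rc_33_2 lc_d_rc_30_2 lc_d_rc_28_2 lc_d_rc_29_2 lc_d_rc_12_1 lc_d_Cert_tree lc_d_Cert_tree lc_d_rc_27_0 lc_d_rc_33_2 lc_d_rc_20_3 lc_d_rc_33_2 lc_d_rc_32_2 lc_d_rc_31_2 lc_d_Cert_tree lc_d_rc_27_0 lc_d_rc_33_2 lc_d_rc_27_0 lc_d_rc_33_2 lc_d_rc_20_3 lc_d_rc_33_2 lc_d_rc_12_1 lc_d_rc_20_3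 lc_d_rc_29_2 lc_d_rc_30_2 lc_d_rc_28_2 lc_d_rc_12_1 lc_d_rc_12_1 lc_d_rc_30_2 lc_d_Cert_tree lc_d_Cert_tree lc_d_rc_27_0 lc_d_rc_33_2) (@D3.rec (fun _ => (Cert rels S Gen.d)) lc_d_rc_3_1 lc_d_rc_3_1 lc_d_rc_31_2 lc_d_rc_33_0 lc_d_rc_30_2 lc_d_rc_32_2 lc_d_rc_12_1 lc_d_Cert_tree lc_d_Cert_tree lc_d_rc_27_0 lc_d_rc_29_0 lc_d_rc_31_2 lc_d_Cert_tree lc_d_rc_27_0 lc_d_rc_33_2 lc_d_rc_27_0 lc_d_rc_33_2 lc_d_rc_20_3 lc_d_rc_33_2 lc_d_rc_12_1 lc_d_rc_20_3 lc_d_rc_29_2 lc_d_rc_31_2 lc_d_rc_3_3 lc_d_rc_30_2 lc_d_rc_32_2 lc_d_rc_3_1 lc_d_Cert_tree lc_d_Cert_tree lc_d_rc_27_0 lc_d_rc_29_0 lc_d_rc_30_2 lc_d_rc_32_2 lc_d_Cert_tree lc_d_rc_27_0 lc_d_rc_33_2 lc_d_rc_30_2 lc_d_Cert_tree lc_d_Cert_tree lc_d_rc_27_0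 lc_d_rc_20_3 lc_d_rc_12_1 lc_d_Cert_tree lc_d_rc_27_0 lc_d_rc_33_2 lc_d_rc_27_0 lc_d_rc_33_2 lc_d_rc_20_3 lc_d_rc_33_2 lc_d_rc_12_1 lc_d_rc_29_0) (@D3.rec (fun _ => (Cert rels S Gen.d)) lc_d_rc_3_1 lc_d_Cert_tree lc_d_rc_27_0 lc_d_rc_33_2 lc_d_rc_20_3 lc_d_rc_28_2 lc_d_rc_33_2 lc_d_rc_20_3 lc_d_rc_33_2 lc_d_rc_12_1 lc_d_rc_20_3 lc_d_rc_29_2 lc_d_rc_3_1 lc_d_rc_12_1 lc_d_Cert_tree lc_d_rc_27_0 lc_d_rc_3_3 lc_d_rc_27_0 lc_d_rc_33_2 lc_d_rc_20_3 lc_d_rc_30_2 lc_d_rc_29_2 lc_d_rc_28_2 lc_d_rc_29_2 lc_d_rc_20_3 lc_d_rc_30_2 lc_d_rc_29_2 lc_d_rc_12_1 lc_d_rc_28_2 lc_d_rc_33_2 lc_d_rc_30_2 lc_d_rc_20_3 lc_d_rc_20_3 lc_d_rc_12_1 lc_d_rc_31_2 lc_d_rc_29_2 lc_d_rc_33_2 lc_d_rc_28_2 lc_d_Cert_tree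 lc_d_rc_29_2 lc_d_rc_33_2 lc_d_rc_33_2 lc_d_rc_20_3 lc_d_rc_20_3 lc_d_rc_12_1 lc_d_rc_31_2 lc_d_rc_29_2 lc_d_rc_33_2 lc_d_rc_12_1 lc_d_rc_28_2 lc_d_rc_29_4) (@D3.rec (fun _ => (Cert rels S Gen.d)) lc_d_rc_30_2 lc_d_rc_3_1 lc_d_rc_31_2 lc_d_rc_31_2 lc_d_Cert_tree lc_d_rc_20_3 lc_d_rc_12_1 lc_d_Cert_tree lc_d_rc_32_2 lc_d_rc_29_2 lc_d_rc_33_2 lc_d_rc_30_2 lc_d_rc_28_2 lc_d_Cert_tree lc_d_rc_27_0 lc_d_rc_33_2 lc_d_rc_29_2 lc_d_rc_33_2 lc_d_rc_29_2 lc_d_rc_33_2 lc_d_rc_20_3 lc_d_rc_27_0 lc_d_rc_12_1 lc_d_rc_31_2 lc_d_rc_30_2 lc_d_rc_27_0 lc_d_rc_32_2 lc_d_rc_28_2 lc_d_rc_32_2 lc_d_rc_32_2 lc_d_rc_29_2 lc_d_rc_33_2 lc_d_rc_12_1 lc_d_rc_3_1 lc_d_Cert_tree lc_d_rc_3_1 lc_d_rc_31_2 lc_d_rc_3_1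 lc_d_rc_3_1 lc_d_rc_32_2 lc_d_Cert_tree lc_d_rc_20_3 lc_d_Cert_tree lc_d_rc_27_0 lc_d_rc_33_2 lc_d_rc_12_1 lc_d_Cert_tree lc_d_rc_32_2 lc_d_rc_12_1 lc_d_rc_12_1 lc_d_rc_30_2) (@D3.rec (fun _ => (Cert rels S Gen.d)) lc_d_rc_55_18 lc_d_Cert_tree lc_d_rc_27_0 lc_d_rc_33_2 lc_d_rc_29_2 lc_d_rc_33_2 lc_d_rc_29_2 lc_d_rc_29_2 lc_d_rc_33_2 lc_d_Cert_tree lc_d_rc_20_3 lc_d_rc_30_2 lc_d_rc_27_0 lc_d_rc_12_1 lc_d_Cert_tree lc_d_rc_32_2 lc_d_rc_30_2 lc_d_rc_30_2 lc_d_rc_30_2 lc_d_rc_28_2 lc_d_rc_31_2 lc_d_rc_27_0 lc_d_rc_33_2 lc_d_rc_32_2 lc_d_rc_33_2 lc_d_rc_12_1 lc_d_rc_29_2 lc_d_Cert_tree lc_d_rc_3_1 lc_d_Cert_tree lc_d_rc_27_0 lc_d_rc_33_2 lc_d_rc_3_1 lc_d_Cert_tree lc_d_rc_32_2 lc_d_rc_3_1 lc_d_rc_3_1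 lc_d_rc_27_0 lc_d_rc_31_2 lc_d_Cert_tree lc_d_rc_20_3 lc_d_Cert_tree lc_d_rc_27_0 lc_d_rc_33_2 lc_d_rc_28_2 lc_d_rc_33_2 lc_d_rc_12_1 lc_d_rc_12_1 lc_d_Cert_tree lc_d_rc_27_0 lc_d_rc_33_2) (@D3.rec (fun _ => (Cert rels S Gen.d)) lc_d_rc_12_1 lc_d_rc_12_1 lc_d_rc_30_2 lc_d_Cert_tree lc_d_Cert_tree lc_d_rc_27_0 lc_d_rc_33_2 lc_d_rc_20_3 lc_d_rc_33_2 lc_d_rc_33_2 lc_d_Cert_tree lc_d_rc_27_0 lc_d_rc_33_2 lc_d_rc_29_2 lc_d_rc_33_2 lc_d_rc_27_0 lc_d_rc_31_2 lc_d_Cert_tree lc_d_rc_20_3 lc_d_rc_27_0 lc_d_rc_33_2 lc_d_rc_12_1 lc_d_rc_12_1 lc_d_Cert_tree lc_d_rc_27_0 lc_d_rc_33_2 lc_d_rc_27_0 lc_d_rc_27_0 lc_d_rc_30_2 lc_d_Cert_tree lc_d_Cert_tree lc_d_rc_27_0 lc_d_rc_33_2 lc_d_rc_20_3 lc_d_rc_33_2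 lc_d_rc_33_2 lc_d_Cert_tree lc_d_rc_12_1 lc_d_rc_29_2 lc_d_rc_20_1 lc_d_rc_27_0 lc_d_rc_31_2 lc_d_Cert_tree lc_d_rc_3_1 lc_d_Cert_tree lc_d_rc_27_0 lc_d_rc_33_2 lc_d_rc_33_2 lc_d_rc_3_1 lc_d_rc_3_1 lc_d_Cert_tree) (@D3.rec (fun _ => (Cert rels S Gen.d)) lc_d_rc_27_0 lc_d_rc_33_2 lc_d_rc_3_1 lc_d_rc_3_1 lc_d_rc_31_2 lc_d_Cert_tree lc_d_rc_30_2 lc_d_rc_32_2 lc_d_Cert_tree lc_d_rc_27_0 lc_d_rc_33_2 lc_d_Cert_tree lc_d_rc_27_0 lc_d_rc_33_2 lc_d_rc_28_2 lc_d_rc_33_2 lc_d_rc_30_2 lc_d_rc_28_2 lc_d_rc_12_1 lc_d_Cert_tree lc_d_Cert_tree lc_d_rc_27_0 lc_d_rc_33_2 lc_d_rc_20_3 lc_d_rc_33_2 lc_d_rc_12_1 lc_d_rc_31_2 lc_d_Cert_tree lc_d_rc_27_0 lc_d_rc_33_2 lc_d_rc_27_0 lc_d_rc_33_2 lc_d_rc_20_3 lc_d_rc_33_2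 lc_d_rc_12_1 lc_d_rc_20_3 lc_d_rc_29_2 lc_d_rc_12_1 lc_d_rc_3_1 lc_d_rc_29_4 lc_d_rc_28_2 lc_d_rc_31_2 lc_d_rc_3_1 lc_d_rc_3_1 lc_d_rc_32_2 lc_d_Cert_tree lc_d_rc_20_3 lc_d_Cert_tree lc_d_rc_27_0 lc_d_rc_33_2 lc_d_rc_12_1) (@D3.rec (fun _ => (Cert rels S Gen.d)) lc_d_Cert_tree lc_d_rc_32_2 lc_d_rc_12_1 lc_d_rc_12_1 lc_d_rc_30_2 lc_d_rc_28_2 lc_d_rc_12_3 lc_d_rc_27_0 lc_d_rc_33_2 lc_d_rc_29_2 lc_d_rc_33_2 lc_d_rc_30_2 lc_d_Cert_tree lc_d_rc_3_1 lc_d_rc_30_2 lc_d_rc_27_1 lc_d_rc_28_2 lc_d_Cert_tree lc_d_rc_32_2 lc_d_rc_3_1 lc_d_rc_3_1 lc_d_rc_27_0 lc_d_rc_31_2 lc_d_Cert_tree lc_d_rc_33_0 lc_d_Cert_tree lc_d_rc_27_0 lc_d_rc_33_2 lc_d_rc_28_2 lc_d_rc_33_2 lc_d_rc_12_1 lc_d_rc_12_1 lc_d_Cert_tree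 lc_d_rc_27_0 lc_d_rc_33_2 lc_d_rc_12_1 lc_d_rc_12_1 lc_d_rc_30_2 lc_d_Cert_tree lc_d_Cert_tree lc_d_rc_27_0 lc_d_rc_33_2 lc_d_rc_20_3 lc_d_rc_33_2 lc_d_rc_33_2 lc_d_rc_30_2 lc_d_Cert_tree lc_d_rc_3_1 lc_d_rc_30_2 lc_d_rc_29_2 lc_d_rc_28_2) (@D3.rec (fun _ => (Cert rels S Gen.d)) lc_d_Cert_tree lc_d_rc_32_2 lc_d_rc_3_1 lc_d_rc_3_1 lc_d_rc_27_0 lc_d_rc_31_2 lc_d_Cert_tree lc_d_rc_20_3 lc_d_Cert_tree lc_d_rc_27_0 lc_d_rc_33_2 lc_d_rc_33_2 lc_d_rc_12_1 lc_d_rc_12_1 lc_d_Cert_tree lc_d_rc_27_0 lc_d_rc_33_2 lc_d_rc_12_1 lc_d_rc_12_1 lc_d_rc_30_2 lc_d_Cert_tree lc_d_rc_31_2 lc_d_rc_27_0 lc_d_rc_33_2 lc_d_rc_30_0 lc_d_rc_33_2 lc_d_rc_33_2 lc_d_Cert_tree lc_d_rc_30_2 lc_d_rc_27_0 lc_d_rc_31_2 lc_d_Cert_tree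 lc_d_rc_3_1 lc_d_rc_30_2 lc_d_rc_30_2 lc_d_rc_28_2 lc_d_rc_28_2 lc_d_Cert_tree lc_d_rc_27_0 lc_d_rc_33_2 lc_d_rc_3_1 lc_d_rc_3_1 lc_d_rc_31_2 lc_d_Cert_tree lc_d_rc_30_2 lc_d_rc_32_2 lc_d_Cert_tree lc_d_rc_27_0 lc_d_rc_33_2 lc_d_Cert_tree lc_d_rc_27_0) (@D3.rec (fun _ => (Cert rels S Gen.d)) lc_d_rc_33_2 lc_d_rc_28_2 lc_d_rc_33_2 lc_d_rc_30_2 lc_d_rc_28_2 lc_d_rc_12_1 lc_d_Cert_tree lc_d_Cert_tree lc_d_rc_27_0 lc_d_rc_33_2 lc_d_rc_20_3 lc_d_rc_33_2 lc_d_rc_12_1 lc_d_rc_31_2 lc_d_Cert_tree lc_d_rc_27_0 lc_d_rc_33_2 lc_d_rc_27_0 lc_d_rc_33_2 lc_d_rc_20_3 lc_d_rc_33_2 lc_d_rc_12_1 lc_d_rc_20_3 lc_d_rc_29_2 lc_d_rc_30_2 lc_d_rc_12_1 lc_d_rc_29_0 lc_d_Cert_tree lc_d_rc_3_1 lc_d_rc_29_4 lc_d_rc_28_0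 lc_d_rc_3_1 lc_d_rc_3_1 lc_d_rc_33_0 lc_d_rc_29_4 lc_d_rc_3_1 lc_d_rc_3_1 lc_d_rc_31_2 lc_d_Cert_tree lc_d_rc_30_2 lc_d_rc_32_2 lc_d_Cert_tree lc_d_rc_27_0 lc_d_rc_33_2 lc_d_Cert_tree lc_d_rc_27_0 lc_d_rc_33_2 lc_d_rc_28_2 lc_d_rc_33_2 lc_d_rc_12_1 lc_d_Cert_tree) (@D3.rec (fun _ => (Cert rels S Gen.d)) lc_d_Cert_tree lc_d_rc_27_0 lc_d_rc_33_2 lc_d_rc_20_3 lc_d_rc_33_2 lc_d_rc_12_1 lc_d_rc_31_2 lc_d_Cert_tree lc_d_rc_27_0 lc_d_rc_33_2 lc_d_rc_27_0 lc_d_rc_33_2 lc_d_rc_20_3 lc_d_rc_33_2 lc_d_rc_12_1 lc_d_rc_20_3 lc_d_rc_29_2 lc_d_rc_27_0 lc_d_rc_31_2 lc_d_rc_12_1 lc_d_rc_31_2 lc_d_Cert_tree lc_d_rc_30_2 lc_d_rc_32_2 lc_d_Cert_tree lc_d_rc_27_0 lc_d_rc_33_2 lc_d_rc_27_1 lc_d_rc_27_1 lc_d_rc_3_1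 lc_d_Cert_tree lc_d_Cert_tree lc_d_rc_27_0 lc_d_rc_33_2 lc_d_rc_20_3 lc_d_rc_33_2 lc_d_rc_3_1 lc_d_rc_30_2 lc_d_rc_32_2 lc_d_Cert_tree lc_d_rc_27_0 lc_d_rc_33_2 lc_d_rc_30_2 lc_d_Cert_tree lc_d_Cert_tree lc_d_rc_27_0 lc_d_rc_33_2 lc_d_rc_20_3 lc_d_rc_28_2 lc_d_rc_33_2 lc_d_rc_27_0) (@D3.rec (fun _ => (Cert rels S Gen.d)) lc_d_rc_33_2 lc_d_rc_28_2 lc_d_rc_33_2 lc_d_rc_30_2 lc_d_rc_28_2 lc_d_rc_31_2 lc_d_rc_30_2 lc_d_rc_12_1 lc_d_Cert_tree lc_d_rc_27_0 lc_d_rc_33_2 lc_d_rc_27_0 lc_d_rc_33_2 lc_d_rc_20_3 lc_d_rc_33_2 lc_d_rc_12_1 lc_d_rc_20_3 lc_d_rc_3_1 lc_d_Cert_tree lc_d_rc_27_0 lc_d_rc_33_2 lc_d_rc_20_3 lc_d_rc_28_2 lc_d_rc_33_2 lc_d_rc_20_3 lc_d_rc_33_2 lc_d_rc_12_1 lc_d_rc_20_3 lc_d_rc_29_2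 lc_d_rc_3_1 lc_d_rc_12_1 lc_d_Cert_tree lc_d_rc_3_1 lc_d_rc_30_2 lc_d_rc_32_2 lc_d_rc_33_0 lc_d_rc_29_4 lc_d_rc_30_2 lc_d_rc_12_1 lc_d_Cert_tree lc_d_rc_27_0 lc_d_rc_27_0 lc_d_rc_29_0 lc_d_rc_29_0 lc_d_Cert_tree lc_d_rc_27_0 lc_d_rc_33_2 lc_d_rc_20_3 lc_d_rc_28_2 lc_d_rc_33_2 lc_d_rc_20_3) (@D3.rec (fun _ => (Cert rels S Gen.d)) lc_d_rc_33_2 lc_d_rc_12_1 lc_d_rc_20_3 lc_d_rc_29_2 lc_d_rc_3_1 lc_d_rc_12_1 lc_d_Cert_tree lc_d_rc_30_2 lc_d_rc_32_2 lc_d_rc_3_3 lc_d_rc_3_3 lc_d_rc_30_2 lc_d_rc_3_1 lc_d_Cert_tree lc_d_rc_27_0 lc_d_rc_27_0 lc_d_rc_29_0 lc_d_rc_29_0 lc_d_rc_28_2 lc_d_rc_30_2 lc_d_Cert_tree lc_d_Cert_tree lc_d_rc_27_0 lc_d_rc_33_2 lc_d_rc_29_2 lc_d_rc_33_2 lc_d_rc_31_2 lc_d_Cert_tree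 lc_d_rc_27_0 lc_d_rc_27_0 lc_d_rc_20_3 lc_d_rc_12_1 lc_d_Cert_tree lc_d_rc_27_0 lc_d_rc_33_2 lc_d_rc_20_3 lc_d_rc_28_2 lc_d_rc_33_2 lc_d_rc_20_3 lc_d_rc_33_2 lc_d_rc_12_1 lc_d_rc_29_0 lc_d_rc_3_1 lc_d_rc_3_1 lc_d_rc_29_0 lc_d_Cert_tree lc_d_rc_27_0 lc_d_rc_56_45 lc_d_rc_20_3 lc_d_rc_28_2 lc_d_rc_33_2) (@D3.rec (fun _ => (Cert rels S Gen.d)) lc_d_rc_12_1 lc_d_rc_29_2 lc_d_rc_12_1 lc_d_rc_29_2 lc_d_rc_3_1 lc_d_rc_12_1 lc_d_Cert_tree lc_d_rc_3_1 lc_d_Cert_tree lc_d_rc_27_0 lc_d_rc_31_2 lc_d_rc_31_2 lc_d_rc_30_2 lc_d_Cert_tree lc_d_rc_27_0 lc_d_rc_33_2 lc_d_rc_3_1 lc_d_rc_3_1 lc_d_rc_20_5 lc_d_rc_27_0 lc_d_rc_33_2 lc_d_Cert_tree lc_d_rc_27_0 lc_d_rc_33_2 lc_d_rc_28_2 lc_d_rc_33_2 lc_d_rc_30_2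 lc_d_rc_28_2 lc_d_Cert_tree lc_d_Cert_tree lc_d_rc_27_0 lc_d_rc_33_2 lc_d_rc_20_3 lc_d_rc_33_2 lc_d_rc_12_1 lc_d_Cert_tree lc_d_rc_27_0 lc_d_rc_33_2 lc_d_rc_27_0 lc_d_rc_33_2 lc_d_rc_20_3 lc_d_rc_33_2 lc_d_rc_12_1 lc_d_rc_20_3 lc_d_rc_29_2 lc_d_rc_31_2 lc_d_rc_27_0 lc_d_rc_33_2 lc_d_rc_30_2 lc_d_rc_30_2 lc_d_Cert_tree) (@D3.rec (fun _ => (Cert rels S Gen.d)) lc_d_Cert_tree lc_d_rc_27_0 lc_d_rc_33_2 lc_d_rc_20_3 lc_d_rc_33_2 lc_d_rc_3_1 lc_d_rc_27_0 lc_d_rc_33_2 lc_d_rc_28_4 lc_d_rc_31_2 lc_d_rc_27_0 lc_d_rc_33_2 lc_d_rc_20_3 lc_d_rc_28_2 lc_d_rc_33_2 lc_d_rc_27_0 lc_d_rc_33_2 lc_d_rc_28_2 lc_d_rc_33_2 lc_d_rc_30_2 lc_d_rc_28_2 lc_d_rc_31_2 lc_d_rc_30_2 lc_d_Cert_tree lc_d_rc_27_0 lc_d_rc_33_2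 lc_d_rc_27_0 lc_d_rc_33_2 lc_d_rc_20_3 lc_d_rc_33_2 lc_d_rc_12_1 lc_d_rc_20_3 lc_d_rc_29_2 lc_d_rc_31_2 lc_d_rc_27_0 lc_d_rc_33_2 lc_d_rc_20_3 lc_d_rc_28_2 lc_d_rc_33_2 lc_d_rc_20_3 lc_d_rc_33_2 lc_d_rc_12_1 lc_d_rc_20_3 lc_d_rc_29_2 lc_d_rc_3_1 lc_d_rc_12_1 lc_d_Cert_tree lc_d_Cert_tree lc_d_Cert_tree lc_d_rc_27_0 lc_d_rc_33_2) (@D3.rec (fun _ => (Cert rels S Gen.d)) lc_d_rc_20_3 lc_d_rc_33_2 lc_d_rc_27_1 lc_d_Cert_tree lc_d_rc_27_0 lc_d_rc_33_2 lc_d_rc_27_0 lc_d_rc_33_2 lc_d_rc_20_3 lc_d_rc_33_2 lc_d_rc_12_1 lc_d_rc_20_3 lc_d_rc_3_1 lc_d_Cert_tree lc_d_rc_27_0 lc_d_rc_33_2 lc_d_rc_27_0 lc_d_rc_33_2 lc_d_rc_20_3 lc_d_rc_28_2 lc_d_rc_33_2 lc_d_rc_12_1 lc_d_rc_20_3 lc_d_rc_20_3 lc_d_rc_30_2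 lc_d_rc_28_2 lc_d_rc_29_2 lc_d_rc_28_2 lc_d_rc_33_2 lc_d_rc_30_2 lc_d_rc_28_2 lc_d_rc_31_2 lc_d_rc_30_2 lc_d_rc_32_2 lc_d_rc_31_2 lc_d_rc_31_2 lc_d_rc_27_0 lc_d_rc_33_2 lc_d_rc_20_3 lc_d_rc_28_2 lc_d_rc_33_2 lc_d_rc_20_3 lc_d_rc_33_2 lc_d_rc_12_1 lc_d_rc_20_3 lc_d_rc_29_2 lc_d_rc_3_1 lc_d_rc_12_1 lc_d_Cert_tree lc_d_rc_55_69 lc_d_rc_33_2) (@D3.rec (fun _ => (Cert rels S Gen.d)) lc_d_rc_12_1 lc_d_rc_33_2 lc_d_rc_28_2 lc_d_rc_29_2 lc_d_rc_12_1 lc_d_rc_3_1 lc_d_rc_12_1 lc_d_rc_3_1 lc_d_rc_31_0 lc_d_rc_27_0 lc_d_rc_3_1 lc_d_rc_28_2 lc_d_rc_33_2 lc_d_rc_3_1 lc_d_rc_33_2 lc_d_rc_12_1 lc_d_rc_3_1 lc_d_rc_3_1 lc_d_rc_3_1 lc_d_rc_12_1 lc_d_Cert_tree lc_d_rc_20_3 lc_d_rc_12_1 lc_d_Cert_tree lc_d_rc_20_3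 lc_d_rc_3_1 lc_d_Cert_tree lc_d_rc_3_1 lc_d_Cert_tree lc_d_rc_27_0 lc_d_rc_28_0 lc_d_rc_27_0 lc_d_rc_27_0 lc_d_rc_27_1 lc_d_rc_20_3 lc_d_rc_12_1 lc_d_rc_30_2 lc_d_rc_27_0 lc_d_rc_27_0 lc_d_rc_28_2 lc_d_rc_27_0 lc_d_rc_29_4 lc_d_rc_20_3 lc_d_rc_27_1 lc_d_rc_12_1 lc_d_rc_27_0 lc_d_rc_33_2 lc_d_rc_30_2 lc_d_rc_31_2 lc_d_rc_3_3 lc_d_rc_27_0) (@D3.rec (fun _ => (Cert rels S Gen.d)) lc_d_rc_33_2 lc_d_rc_30_2 lc_d_rc_31_2 lc_d_rc_28_0 lc_d_rc_30_2 lc_d_rc_32_2 lc_d_rc_27_0 lc_d_rc_31_2 lc_d_rc_12_1 lc_d_rc_31_2 lc_d_Cert_tree lc_d_Cert_tree lc_d_rc_27_0 lc_d_rc_12_1 lc_d_rc_56_38 lc_d_rc_30_2 lc_d_rc_32_2 lc_d_Cert_tree lc_d_rc_27_0 lc_d_rc_33_2 lc_d_rc_27_0 lc_d_rc_20_3 lc_d_rc_28_2 lc_d_rc_27_0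 lc_d_rc_28_2 lc_d_rc_30_2 lc_d_rc_31_2 lc_d_rc_33_2 lc_d_rc_33_2 lc_d_rc_3_1 lc_d_rc_27_0 lc_d_rc_27_0 lc_d_rc_3_3 lc_d_rc_3_3 lc_d_rc_30_2 lc_d_rc_27_0 lc_d_rc_33_2 lc_d_rc_3_1 lc_d_rc_31_2 lc_d_Cert_tree lc_d_rc_27_0 lc_d_rc_31_2 lc_d_rc_29_2 lc_d_rc_3_3 lc_d_rc_27_0 lc_d_rc_33_2 lc_d_rc_28_2 lc_d_rc_28_2 lc_d_rc_30_2 lc_d_rc_31_2 lc_d_rc_31_2) (@D3.rec (fun _ => (Cert rels S Gen.d)) lc_d_rc_20_3 lc_d_rc_30_2 lc_d_rc_32_2 lc_d_rc_30_2 lc_d_rc_32_2 lc_d_Cert_tree lc_d_rc_27_0 lc_d_rc_33_2 lc_d_rc_27_0 lc_d_rc_20_3 lc_d_rc_20_3 lc_d_rc_30_2 lc_d_rc_32_2 lc_d_rc_29_2 lc_d_rc_33_2 lc_d_rc_28_2 lc_d_rc_3_3 lc_d_rc_55_78 lc_d_rc_27_0 lc_d_rc_33_2 lc_d_rc_28_2 lc_d_rc_33_2 lc_d_rc_28_2 lc_d_rc_30_2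 lc_d_rc_30_0 lc_d_rc_30_2 lc_d_rc_31_2 lc_d_rc_32_2 lc_d_rc_30_2 lc_d_rc_32_2 lc_d_rc_28_2 lc_d_rc_28_2 lc_d_rc_3_3 lc_d_rc_28_2 lc_d_rc_30_2 lc_d_Cert_tree lc_d_Cert_tree lc_d_rc_27_0 lc_d_rc_33_2 lc_d_rc_29_2 lc_d_rc_33_2 lc_d_rc_27_0 lc_d_rc_27_0 lc_d_rc_20_3 lc_d_rc_12_1 lc_d_rc_20_3 lc_d_rc_55_75 lc_d_rc_30_2 lc_d_rc_32_2 lc_d_rc_12_1 lc_d_rc_12_1) (@D3.rec (fun _ => (Cert rels S Gen.d)) lc_d_rc_30_2 lc_d_rc_28_2 lc_d_rc_30_2 lc_d_rc_3_1 lc_d_rc_3_1 lc_d_rc_3_1 lc_d_rc_28_2 lc_d_Cert_tree lc_d_rc_29_2 lc_d_rc_33_2 lc_d_rc_33_2 lc_d_rc_27_0 lc_d_rc_33_2 lc_d_rc_28_2 lc_d_rc_28_2 lc_d_rc_30_2 lc_d_rc_31_2 lc_d_rc_33_2 lc_d_rc_27_0 lc_d_rc_33_2 lc_d_rc_29_2 lc_d_rc_28_2 lc_d_rc_33_2 lc_d_rc_28_2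 lc_d_rc_32_2 lc_d_rc_30_2 lc_d_rc_3_3 lc_d_rc_30_2 lc_d_rc_31_2 lc_d_rc_32_2 lc_d_rc_30_2 lc_d_rc_31_2 lc_d_rc_32_2 lc_d_rc_33_2 lc_d_rc_27_0 lc_d_rc_33_2 lc_d_rc_29_2 lc_d_rc_28_2 lc_d_rc_33_2 lc_d_rc_28_2 lc_d_rc_30_2 lc_d_rc_29_2 lc_d_rc_31_2 lc_d_rc_27_0 lc_d_rc_56_45 lc_d_rc_27_0 lc_d_rc_28_2 lc_d_rc_27_0 lc_d_rc_20_3 lc_d_rc_30_2 lc_d_rc_31_2) (@D3.rec (fun _ => (Cert rels S Gen.d)) lc_d_rc_29_2 lc_d_rc_3_1 lc_d_Cert_tree lc_d_rc_12_1 lc_d_rc_12_1 lc_d_rc_29_2 lc_d_rc_29_2 lc_d_rc_33_2 lc_d_Cert_tree lc_d_rc_3_1 lc_d_rc_3_1 lc_d_Cert_tree lc_d_rc_27_0 lc_d_rc_33_2 lc_d_Cert_tree lc_d_rc_12_1 lc_d_rc_12_1 lc_d_rc_32_2 lc_d_rc_27_0 lc_d_rc_33_2 lc_d_rc_29_2 lc_d_rc_33_2 lc_d_Cert_tree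 lc_d_Cert_tree lc_d_rc_27_0 lc_d_rc_33_2 lc_d_Cert_tree lc_d_rc_3_1 lc_d_rc_3_1 lc_d_rc_28_4 lc_d_Cert_tree lc_d_rc_27_0 lc_d_rc_33_2 lc_d_rc_20_3 lc_d_rc_33_2 lc_d_Cert_tree lc_d_rc_27_0 lc_d_rc_33_2 lc_d_rc_12_1 lc_d_rc_12_1 lc_d_Cert_tree lc_d_Cert_tree lc_d_rc_27_0 lc_d_rc_33_2 lc_d_rc_28_2 lc_d_rc_33_2 lc_d_rc_33_2 lc_d_rc_27_0 lc_d_rc_30_2 lc_d_rc_30_2 lc_d_rc_29_2) (@D3.rec (fun _ => (Cert rels S Gen.d)) lc_d_rc_3_1 lc_d_rc_30_2 lc_d_rc_27_0 lc_d_rc_20_3 lc_d_rc_30_2 lc_d_rc_20_3 lc_d_rc_20_3 lc_d_rc_30_2 lc_d_rc_29_2 lc_d_rc_31_2 lc_d_rc_28_2 lc_d_rc_31_2 lc_d_rc_29_2 lc_d_rc_32_2 lc_d_rc_30_2 lc_d_rc_30_2 lc_d_rc_20_3 lc_d_rc_12_1 lc_d_rc_31_2 lc_d_rc_12_1 lc_d_rc_28_2 lc_d_rc_28_2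 lc_d_rc_20_3 lc_d_rc_12_1 lc_d_rc_31_2 lc_d_rc_29_2 lc_d_rc_32_2 lc_d_rc_28_2 lc_d_Cert_tree lc_d_rc_32_2 lc_d_rc_29_2 lc_d_rc_30_2 lc_d_rc_3_1 lc_d_rc_31_2 lc_d_Cert_tree lc_d_rc_20_3 lc_d_rc_12_1 lc_d_Cert_tree lc_d_rc_32_2 lc_d_rc_12_1 lc_d_rc_30_2 lc_d_rc_28_2 lc_d_rc_28_2 lc_d_rc_27_0 lc_d_rc_56_24 lc_d_rc_20_3 lc_d_Cert_tree lc_d_rc_12_1 lc_d_rc_31_2 lc_d_rc_12_1 lc_d_rc_12_1) (@D3.rec (fun _ => (Cert rels S Gen.d)) lc_d_rc_32_2 lc_d_rc_28_2 lc_d_Cert_tree lc_d_rc_32_2 lc_d_rc_29_2 lc_d_rc_33_2 lc_d_rc_12_1 lc_d_rc_3_1 lc_d_Cert_tree lc_d_rc_3_1 lc_d_rc_31_2 lc_d_rc_20_1 lc_d_rc_3_1 lc_d_Cert_tree lc_d_rc_20_3 lc_d_Cert_tree lc_d_rc_27_0 lc_d_rc_33_2 lc_d_rc_12_1 lc_d_Cert_tree lc_d_rc_32_2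 lc_d_rc_31_2 lc_d_rc_12_1 lc_d_rc_32_0 lc_d_rc_29_2 lc_d_rc_32_0 lc_d_rc_27_0 lc_d_rc_33_2 lc_d_rc_29_2 lc_d_rc_33_2 lc_d_Cert_tree lc_d_rc_20_3 lc_d_Cert_tree lc_d_rc_27_0 lc_d_rc_33_2 lc_d_rc_12_1 lc_d_Cert_tree lc_d_rc_32_2 lc_d_rc_12_1 lc_d_rc_12_1 lc_d_rc_30_2 lc_d_rc_28_2 lc_d_Cert_tree lc_d_rc_27_0 lc_d_rc_33_2 lc_d_rc_29_2 lc_d_rc_33_2 lc_d_rc_12_1 lc_d_Cert_tree lc_d_Cert_tree lc_d_rc_3_1) (@D3.rec (fun _ => (Cert rels S Gen.d)) lc_d_Cert_tree lc_d_rc_27_0 lc_d_rc_33_2 lc_d_rc_3_1 lc_d_Cert_tree lc_d_rc_32_2 lc_d_rc_31_2 lc_d_rc_3_1 lc_d_rc_27_0 lc_d_rc_31_2 lc_d_Cert_tree lc_d_rc_20_3 lc_d_Cert_tree lc_d_rc_27_0 lc_d_rc_33_2 lc_d_rc_28_2 lc_d_rc_33_2 lc_d_rc_12_1 lc_d_rc_12_1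 lc_d_Cert_tree lc_d_rc_27_0 lc_d_rc_33_2 lc_d_rc_31_0 lc_d_rc_12_1 lc_d_rc_30_2 lc_d_Cert_tree lc_d_rc_31_0 lc_d_rc_27_0 lc_d_rc_33_2 lc_d_rc_20_3 lc_d_rc_33_2 lc_d_rc_33_2 lc_d_rc_27_0 lc_d_rc_31_2 lc_d_Cert_tree lc_d_rc_20_3 lc_d_Cert_tree lc_d_rc_27_0 lc_d_rc_33_2 lc_d_rc_33_2 lc_d_rc_12_1 lc_d_rc_12_1 lc_d_Cert_tree lc_d_rc_27_0 lc_d_rc_33_2 lc_d_rc_12_1 lc_d_rc_12_1 lc_d_rc_30_2 lc_d_Cert_tree lc_d_Cert_tree lc_d_rc_27_0) (@D3.rec (fun _ => (Cert rels S Gen.d)) lc_d_rc_33_2 lc_d_rc_20_3 lc_d_rc_33_2 lc_d_rc_33_2 lc_d_Cert_tree lc_d_rc_12_1 lc_d_Cert_tree lc_d_rc_27_0 lc_d_rc_33_2 lc_d_rc_27_0 lc_d_rc_31_2 lc_d_Cert_tree lc_d_rc_3_1 lc_d_Cert_tree lc_d_rc_27_0 lc_d_rc_33_2 lc_d_rc_33_0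 lc_d_rc_33_2 lc_d_rc_3_1 lc_d_rc_3_1 lc_d_Cert_tree lc_d_rc_27_0 lc_d_rc_33_2 lc_d_rc_28_0 lc_d_rc_3_1 lc_d_rc_31_2 lc_d_Cert_tree lc_d_rc_30_2 lc_d_rc_32_2 lc_d_Cert_tree lc_d_rc_27_0 lc_d_rc_33_2 lc_d_Cert_tree lc_d_rc_27_0 lc_d_rc_33_2 lc_d_rc_28_2 lc_d_rc_33_2 lc_d_rc_30_2 lc_d_rc_28_2 lc_d_rc_29_2 lc_d_rc_12_1 lc_d_Cert_tree lc_d_Cert_tree lc_d_rc_27_0 lc_d_rc_33_2 lc_d_rc_20_3 lc_d_rc_33_2 lc_d_rc_12_1 lc_d_rc_31_2 lc_d_Cert_tree lc_d_rc_27_0)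
def ce_d_6 : D2 → D3 → (Cert rels S Gen.d) := @D2.rec (fun _ => D3 → (Cert rels S Gen.d)) (@D3.rec (fun _ => (Cert rels S Gen.d)) lc_d_rc_33_2 lc_d_rc_27_0 lc_d_rc_33_2 lc_d_rc_20_3 lc_d_rc_33_2 lc_d_rc_12_1 lc_d_rc_20_3 lc_d_rc_29_2 lc_d_rc_20_3 lc_d_rc_30_2 lc_d_rc_3_1 lc_d_rc_31_2 lc_d_rc_20_3 lc_d_Cert_tree lc_d_rc_28_2 lc_d_rc_31_2 lc_d_rc_12_1 lc_d_rc_12_1 lc_d_rc_32_2 lc_d_rc_28_2 lc_d_Cert_tree lc_d_rc_32_2 lc_d_rc_29_2 lc_d_rc_33_2 lc_d_rc_12_1 lc_d_rc_20_3 lc_d_Cert_tree lc_d_rc_28_2 lc_d_rc_31_2 lc_d_rc_3_1 lc_d_rc_3_1 lc_d_rc_32_2 lc_d_Cert_tree lc_d_rc_20_3 lc_d_Cert_tree lc_d_rc_27_0 lc_d_rc_33_2 lc_d_rc_12_1 lc_d_Cert_tree lc_d_rc_32_2 lc_d_rc_12_1 lc_d_rc_12_1 lc_d_rc_30_2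 lc_d_rc_28_2 lc_d_Cert_tree lc_d_rc_27_0 lc_d_rc_33_2 lc_d_rc_29_2 lc_d_rc_33_2 lc_d_rc_12_1 lc_d_rc_28_2) (@D3.rec (fun _ => (Cert rels S Gen.d)) lc_d_Cert_tree lc_d_rc_20_3 lc_d_Cert_tree lc_d_rc_27_0 lc_d_rc_33_2 lc_d_rc_28_2 lc_d_Cert_tree lc_d_rc_32_2 lc_d_rc_3_1 lc_d_rc_3_1 lc_d_rc_27_0 lc_d_rc_31_2 lc_d_Cert_tree lc_d_rc_20_3 lc_d_Cert_tree lc_d_rc_27_0 lc_d_rc_33_2 lc_d_rc_28_2 lc_d_rc_33_2 lc_d_rc_12_1 lc_d_rc_12_1 lc_d_Cert_tree lc_d_rc_27_0 lc_d_rc_33_2 lc_d_rc_29_2 lc_d_rc_31_2 lc_d_rc_30_2 lc_d_rc_12_3 lc_d_rc_30_0 lc_d_rc_27_0 lc_d_rc_33_2 lc_d_rc_12_3 lc_d_rc_33_2 lc_d_rc_32_2 lc_d_rc_12_1 lc_d_rc_20_3 lc_d_Cert_tree lc_d_rc_3_1 lc_d_rc_31_2 lc_d_rc_3_1 lc_d_rc_3_1 lc_d_rc_32_2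 lc_d_rc_12_3 lc_d_rc_20_3 lc_d_Cert_tree lc_d_rc_27_0 lc_d_rc_33_2 lc_d_rc_28_2 lc_d_Cert_tree lc_d_rc_32_2 lc_d_rc_12_1) (@D3.rec (fun _ => (Cert rels S Gen.d)) lc_d_rc_12_1 lc_d_rc_29_0 lc_d_rc_28_2 lc_d_Cert_tree lc_d_rc_27_0 lc_d_rc_33_2 lc_d_rc_29_2 lc_d_rc_33_2 lc_d_rc_12_1 lc_d_rc_33_0 lc_d_Cert_tree lc_d_rc_20_3 lc_d_Cert_tree lc_d_rc_27_0 lc_d_rc_33_2 lc_d_rc_28_2 lc_d_Cert_tree lc_d_rc_32_2 lc_d_rc_3_1 lc_d_rc_3_1 lc_d_rc_27_0 lc_d_rc_31_2 lc_d_Cert_tree lc_d_rc_20_3 lc_d_Cert_tree lc_d_rc_27_0 lc_d_rc_33_2 lc_d_rc_28_2 lc_d_rc_33_2 lc_d_rc_12_1 lc_d_rc_12_1 lc_d_Cert_tree lc_d_rc_27_0 lc_d_rc_33_2 lc_d_rc_12_1 lc_d_rc_12_1 lc_d_rc_30_2 lc_d_Cert_tree lc_d_Cert_tree lc_d_rc_27_0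 lc_d_rc_33_2 lc_d_rc_20_3 lc_d_rc_33_2 lc_d_rc_33_2 lc_d_Cert_tree lc_d_rc_12_1 lc_d_rc_30_2 lc_d_rc_28_2 lc_d_rc_27_0 lc_d_rc_31_2 lc_d_Cert_tree) (@D3.rec (fun _ => (Cert rels S Gen.d)) lc_d_rc_20_3 lc_d_Cert_tree lc_d_rc_27_0 lc_d_rc_33_2 lc_d_rc_33_2 lc_d_rc_28_2 lc_d_rc_28_2 lc_d_Cert_tree lc_d_rc_27_0 lc_d_rc_33_2 lc_d_rc_3_1 lc_d_rc_3_1 lc_d_rc_31_2 lc_d_Cert_tree lc_d_rc_30_2 lc_d_rc_32_2 lc_d_Cert_tree lc_d_rc_27_0 lc_d_rc_33_2 lc_d_Cert_tree lc_d_rc_27_0 lc_d_rc_33_2 lc_d_rc_28_2 lc_d_rc_33_2 lc_d_rc_30_2 lc_d_rc_28_2 lc_d_rc_29_2 lc_d_rc_12_1 lc_d_Cert_tree lc_d_Cert_tree lc_d_rc_27_0 lc_d_rc_33_2 lc_d_rc_20_3 lc_d_rc_33_2 lc_d_rc_32_2 lc_d_rc_31_2 lc_d_Cert_tree lc_d_rc_27_0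 lc_d_rc_33_2 lc_d_rc_27_0 lc_d_rc_33_2 lc_d_rc_31_2 lc_d_rc_33_2 lc_d_rc_12_1 lc_d_rc_20_3 lc_d_rc_29_2 lc_d_rc_12_1 lc_d_Cert_tree lc_d_rc_20_3 lc_d_Cert_tree lc_d_rc_27_0) (@D3.rec (fun _ => (Cert rels S Gen.d)) lc_d_rc_33_2 lc_d_rc_32_2 lc_d_rc_3_1 lc_d_rc_3_1 lc_d_rc_3_1 lc_d_Cert_tree lc_d_rc_20_3 lc_d_Cert_tree lc_d_rc_27_0 lc_d_rc_33_2 lc_d_rc_28_2 lc_d_rc_33_2 lc_d_rc_12_1 lc_d_rc_12_1 lc_d_rc_28_4 lc_d_rc_28_4 lc_d_rc_12_1 lc_d_rc_12_1 lc_d_rc_30_2 lc_d_Cert_tree lc_d_Cert_tree lc_d_rc_27_0 lc_d_rc_33_2 lc_d_rc_20_3 lc_d_rc_33_2 lc_d_rc_33_2 lc_d_rc_29_0 lc_d_rc_12_1 lc_d_rc_33_0 lc_d_rc_28_2 lc_d_rc_29_0 lc_d_Cert_tree lc_d_rc_20_3 lc_d_Cert_tree lc_d_rc_27_0 lc_d_rc_33_2 lc_d_rc_33_2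 lc_d_rc_3_1 lc_d_rc_3_1 lc_d_rc_33_0 lc_d_rc_29_4 lc_d_rc_3_1 lc_d_rc_3_1 lc_d_rc_31_2 lc_d_Cert_tree lc_d_rc_30_2 lc_d_rc_32_2 lc_d_Cert_tree lc_d_rc_27_0 lc_d_rc_33_2 lc_d_Cert_tree) (@D3.rec (fun _ => (Cert rels S Gen.d)) lc_d_rc_27_0 lc_d_rc_33_2 lc_d_rc_28_2 lc_d_rc_33_2 lc_d_rc_28_0 lc_d_rc_28_2 lc_d_rc_29_2 lc_d_rc_12_1 lc_d_Cert_tree lc_d_Cert_tree lc_d_rc_27_0 lc_d_rc_33_2 lc_d_rc_20_3 lc_d_rc_33_2 lc_d_rc_12_1 lc_d_rc_31_2 lc_d_Cert_tree lc_d_rc_27_0 lc_d_rc_33_2 lc_d_rc_27_0 lc_d_rc_33_2 lc_d_rc_20_3 lc_d_rc_33_2 lc_d_rc_12_1 lc_d_rc_20_3 lc_d_rc_29_2 lc_d_rc_27_0 lc_d_rc_31_2 lc_d_Cert_tree lc_d_rc_12_1 lc_d_rc_31_2 lc_d_rc_30_2 lc_d_rc_31_2 lc_d_Cert_tree lc_d_rc_30_2 lc_d_rc_32_2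 lc_d_Cert_tree lc_d_rc_27_0 lc_d_rc_33_2 lc_d_Cert_tree lc_d_rc_27_0 lc_d_rc_33_2 lc_d_rc_28_2 lc_d_rc_33_2 lc_d_rc_3_1 lc_d_rc_3_1 lc_d_Cert_tree lc_d_Cert_tree lc_d_rc_27_0 lc_d_rc_33_2 lc_d_rc_20_3) (@D3.rec (fun _ => (Cert rels S Gen.d)) lc_d_rc_33_2 lc_d_rc_3_1 lc_d_rc_30_2 lc_d_rc_32_2 lc_d_Cert_tree lc_d_rc_27_0 lc_d_rc_33_2 lc_d_rc_30_2 lc_d_Cert_tree lc_d_Cert_tree lc_d_rc_27_0 lc_d_rc_33_2 lc_d_rc_20_3 lc_d_rc_28_2 lc_d_rc_33_2 lc_d_rc_27_0 lc_d_rc_33_2 lc_d_rc_28_2 lc_d_rc_33_2 lc_d_rc_30_2 lc_d_rc_28_2 lc_d_rc_29_2 lc_d_rc_31_2 lc_d_rc_30_2 lc_d_rc_28_4 lc_d_rc_12_1 lc_d_Cert_tree lc_d_rc_27_0 lc_d_rc_33_2 lc_d_rc_27_0 lc_d_rc_33_2 lc_d_rc_20_3 lc_d_rc_33_2 lc_d_rc_12_1 lc_d_rc_20_3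 lc_d_rc_3_1 lc_d_Cert_tree lc_d_rc_27_0 lc_d_rc_33_2 lc_d_rc_20_3 lc_d_rc_28_2 lc_d_rc_33_2 lc_d_rc_20_3 lc_d_rc_33_2 lc_d_rc_12_1 lc_d_rc_20_3 lc_d_rc_29_2 lc_d_rc_3_1 lc_d_rc_12_1 lc_d_Cert_tree lc_d_rc_27_0) (@D3.rec (fun _ => (Cert rels S Gen.d)) lc_d_rc_27_0 lc_d_rc_30_2 lc_d_rc_3_1 lc_d_rc_3_1 lc_d_rc_30_2 lc_d_rc_32_2 lc_d_rc_33_0 lc_d_rc_29_4 lc_d_rc_30_2 lc_d_rc_12_1 lc_d_Cert_tree lc_d_rc_27_0 lc_d_rc_27_0 lc_d_rc_29_0 lc_d_rc_30_0 lc_d_Cert_tree lc_d_rc_27_0 lc_d_rc_33_2 lc_d_rc_20_3 lc_d_rc_28_2 lc_d_rc_33_2 lc_d_rc_20_3 lc_d_rc_33_2 lc_d_rc_12_1 lc_d_rc_20_3 lc_d_rc_29_2 lc_d_rc_3_1 lc_d_rc_12_1 lc_d_Cert_tree lc_d_rc_30_2 lc_d_rc_32_2 lc_d_rc_3_3 lc_d_rc_3_3 lc_d_rc_30_2 lc_d_rc_3_1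 lc_d_Cert_tree lc_d_rc_27_0 lc_d_rc_27_0 lc_d_rc_29_0 lc_d_rc_29_0 lc_d_rc_28_2 lc_d_rc_30_2 lc_d_Cert_tree lc_d_Cert_tree lc_d_rc_27_0 lc_d_rc_33_2 lc_d_rc_29_2 lc_d_rc_33_2 lc_d_rc_31_2 lc_d_Cert_tree lc_d_rc_27_0) (@D3.rec (fun _ => (Cert rels S Gen.d)) lc_d_rc_27_0 lc_d_rc_20_3 lc_d_rc_12_1 lc_d_Cert_tree lc_d_rc_27_0 lc_d_rc_33_2 lc_d_rc_20_3 lc_d_rc_28_2 lc_d_rc_33_2 lc_d_rc_20_3 lc_d_rc_33_2 lc_d_rc_12_1 lc_d_rc_29_0 lc_d_rc_3_1 lc_d_rc_3_1 lc_d_rc_29_0 lc_d_Cert_tree lc_d_rc_27_0 lc_d_rc_33_2 lc_d_rc_20_3 lc_d_rc_28_2 lc_d_rc_33_2 lc_d_rc_12_1 lc_d_rc_3_1 lc_d_rc_20_3 lc_d_rc_28_2 lc_d_rc_29_2 lc_d_rc_12_1 lc_d_rc_20_3 lc_d_rc_29_2 lc_d_rc_3_1 lc_d_rc_12_1 lc_d_Cert_tree lc_d_rc_3_1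 lc_d_Cert_tree lc_d_rc_27_0 lc_d_rc_33_0 lc_d_rc_28_2 lc_d_rc_29_2 lc_d_rc_20_3 lc_d_rc_20_3 lc_d_rc_12_1 lc_d_rc_33_2 lc_d_rc_3_1 lc_d_rc_28_2 lc_d_rc_12_1 lc_d_Cert_tree lc_d_rc_29_2 lc_d_rc_33_2 lc_d_rc_30_2 lc_d_rc_56_24) (@D3.rec (fun _ => (Cert rels S Gen.d)) lc_d_rc_27_0 lc_d_Cert_tree lc_d_rc_31_2 lc_d_rc_20_3 lc_d_rc_12_1 lc_d_rc_28_2 lc_d_rc_33_2 lc_d_rc_30_2 lc_d_rc_33_2 lc_d_rc_3_1 lc_d_rc_27_0 lc_d_rc_3_3 lc_d_rc_12_1 lc_d_rc_12_1 lc_d_Cert_tree lc_d_rc_27_0 lc_d_rc_33_2 lc_d_rc_29_2 lc_d_rc_33_2 lc_d_rc_30_2 lc_d_Cert_tree lc_d_Cert_tree lc_d_rc_27_0 lc_d_rc_33_2 lc_d_rc_29_2 lc_d_rc_33_2 lc_d_rc_33_2 lc_d_Cert_tree lc_d_rc_20_3 lc_d_rc_30_2 lc_d_rc_33_2 lc_d_rc_28_2 lc_d_rc_32_2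 lc_d_rc_32_2 lc_d_rc_31_2 lc_d_rc_30_2 lc_d_rc_33_2 lc_d_rc_33_2 lc_d_rc_12_1 lc_d_rc_29_2 lc_d_rc_56_24 lc_d_rc_20_3 lc_d_Cert_tree lc_d_rc_27_0 lc_d_rc_33_2 lc_d_rc_28_2 lc_d_Cert_tree lc_d_rc_32_2 lc_d_rc_3_1 lc_d_rc_3_1 lc_d_rc_27_0) (@D3.rec (fun _ => (Cert rels S Gen.d)) lc_d_rc_3_1 lc_d_Cert_tree lc_d_rc_3_3 lc_d_rc_27_0 lc_d_rc_33_2 lc_d_rc_28_2 lc_d_rc_33_2 lc_d_rc_12_1 lc_d_rc_32_2 lc_d_Cert_tree lc_d_rc_27_0 lc_d_rc_33_2 lc_d_rc_12_1 lc_d_rc_12_1 lc_d_rc_12_3 lc_d_Cert_tree lc_d_rc_27_0 lc_d_rc_33_2 lc_d_rc_20_3 lc_d_rc_33_2 lc_d_rc_33_2 lc_d_rc_33_2 lc_d_rc_33_2 lc_d_rc_27_0 lc_d_rc_31_2 lc_d_Cert_tree lc_d_rc_20_3 lc_d_rc_30_2 lc_d_rc_30_2 lc_d_rc_12_1 lc_d_rc_28_2 lc_d_rc_31_2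 lc_d_rc_27_0 lc_d_rc_33_2 lc_d_rc_30_2 lc_d_rc_30_2 lc_d_rc_30_2 lc_d_rc_12_3 lc_d_rc_33_2 lc_d_rc_33_2 lc_d_rc_33_2 lc_d_Cert_tree lc_d_rc_12_1 lc_d_rc_30_2 lc_d_rc_29_2 lc_d_rc_27_0 lc_d_rc_12_3 lc_d_Cert_tree lc_d_rc_29_0 lc_d_Cert_tree lc_d_rc_27_0) (@D3.rec (fun _ => (Cert rels S Gen.d)) lc_d_rc_33_2 lc_d_rc_33_2 lc_d_rc_3_1 lc_d_rc_28_2 lc_d_Cert_tree lc_d_rc_27_0 lc_d_rc_33_2 lc_d_rc_3_1 lc_d_rc_3_1 lc_d_rc_31_2 lc_d_Cert_tree lc_d_rc_30_2 lc_d_rc_28_2 lc_d_Cert_tree lc_d_rc_27_0 lc_d_rc_33_2 lc_d_rc_3_3 lc_d_rc_27_0 lc_d_rc_33_2 lc_d_rc_28_2 lc_d_rc_33_2 lc_d_rc_30_2 lc_d_rc_28_2 lc_d_rc_12_1 lc_d_Cert_tree lc_d_Cert_tree lc_d_rc_27_0 lc_d_rc_33_2 lc_d_rc_20_3 lc_d_rc_33_2 lc_d_rc_12_1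 lc_d_rc_31_2 lc_d_Cert_tree lc_d_rc_27_0 lc_d_rc_33_2 lc_d_rc_27_0 lc_d_rc_33_2 lc_d_rc_20_3 lc_d_rc_33_2 lc_d_rc_12_1 lc_d_rc_20_3 lc_d_rc_29_2 lc_d_rc_27_0 lc_d_rc_33_2 lc_d_rc_20_3 lc_d_rc_33_2 lc_d_rc_33_2 lc_d_rc_31_2 lc_d_Cert_tree lc_d_rc_30_2 lc_d_rc_32_2) (@D3.rec (fun _ => (Cert rels S Gen.d)) lc_d_Cert_tree lc_d_rc_27_0 lc_d_rc_33_2 lc_d_rc_32_2 lc_d_rc_33_2 lc_d_rc_12_1 lc_d_Cert_tree lc_d_Cert_tree lc_d_rc_27_0 lc_d_rc_33_2 lc_d_rc_20_3 lc_d_rc_33_2 lc_d_rc_20_1 lc_d_rc_31_2 lc_d_rc_28_2 lc_d_rc_27_0 lc_d_rc_33_2 lc_d_rc_27_0 lc_d_rc_33_2 lc_d_rc_20_3 lc_d_rc_33_2 lc_d_rc_12_1 lc_d_rc_20_3 lc_d_rc_29_2 lc_d_rc_27_0 lc_d_rc_31_2 lc_d_Cert_tree lc_d_rc_12_1 lc_d_rc_29_2 lc_d_rc_28_0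 lc_d_rc_31_2 lc_d_Cert_tree lc_d_rc_30_2 lc_d_rc_32_2 lc_d_Cert_tree lc_d_rc_27_0 lc_d_rc_33_2 lc_d_Cert_tree lc_d_rc_27_0 lc_d_rc_33_2 lc_d_rc_28_2 lc_d_rc_33_2 lc_d_rc_3_1 lc_d_Cert_tree lc_d_Cert_tree lc_d_rc_27_0 lc_d_rc_33_2 lc_d_rc_20_3 lc_d_rc_33_2 lc_d_rc_3_1 lc_d_rc_30_2) (@D3.rec (fun _ => (Cert rels S Gen.d)) lc_d_rc_32_2 lc_d_Cert_tree lc_d_rc_27_0 lc_d_rc_33_2 lc_d_rc_30_2 lc_d_Cert_tree lc_d_Cert_tree lc_d_rc_27_0 lc_d_rc_33_2 lc_d_rc_20_3 lc_d_rc_28_2 lc_d_rc_33_2 lc_d_rc_27_0 lc_d_rc_33_2 lc_d_rc_28_2 lc_d_rc_33_2 lc_d_rc_30_2 lc_d_rc_28_2 lc_d_rc_31_2 lc_d_rc_30_2 lc_d_rc_12_1 lc_d_Cert_tree lc_d_rc_27_0 lc_d_rc_33_2 lc_d_rc_27_0 lc_d_rc_33_2 lc_d_rc_20_3 lc_d_rc_33_2 lc_d_rc_12_1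 lc_d_rc_20_3 lc_d_rc_29_2 lc_d_Cert_tree lc_d_rc_27_0 lc_d_rc_33_2 lc_d_rc_20_3 lc_d_rc_28_2 lc_d_rc_33_2 lc_d_rc_20_3 lc_d_rc_33_2 lc_d_rc_12_1 lc_d_rc_20_3 lc_d_rc_29_2 lc_d_rc_3_1 lc_d_rc_12_1 lc_d_Cert_tree lc_d_rc_30_2 lc_d_Cert_tree lc_d_rc_3_1 lc_d_rc_30_2 lc_d_rc_29_2 lc_d_rc_28_2) (@D3.rec (fun _ => (Cert rels S Gen.d)) lc_d_Cert_tree lc_d_rc_32_2 lc_d_rc_3_1 lc_d_rc_3_1 lc_d_rc_27_0 lc_d_rc_55_81 lc_d_Cert_tree lc_d_rc_3_1 lc_d_Cert_tree lc_d_rc_27_0 lc_d_rc_33_2 lc_d_rc_33_2 lc_d_rc_12_1 lc_d_rc_12_1 lc_d_rc_3_3 lc_d_rc_27_0 lc_d_rc_33_2 lc_d_rc_12_1 lc_d_rc_12_1 lc_d_rc_12_3 lc_d_rc_33_2 lc_d_rc_33_2 lc_d_rc_28_4 lc_d_rc_33_0 lc_d_rc_27_0 lc_d_rc_31_2 lc_d_Cert_tree lc_d_rc_33_0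 lc_d_rc_31_2 lc_d_rc_30_2 lc_d_rc_29_0 lc_d_rc_28_2 lc_d_Cert_tree lc_d_rc_27_0 lc_d_rc_33_2 lc_d_rc_3_1 lc_d_rc_3_1 lc_d_rc_31_2 lc_d_Cert_tree lc_d_rc_30_2 lc_d_rc_3_3 lc_d_Cert_tree lc_d_rc_27_0 lc_d_rc_33_2 lc_d_rc_3_3 lc_d_rc_27_0 lc_d_rc_33_2 lc_d_rc_28_2 lc_d_rc_33_2 lc_d_rc_30_2 lc_d_rc_28_2) (@D3.rec (fun _ => (Cert rels S Gen.d)) lc_d_rc_12_1 lc_d_Cert_tree lc_d_Cert_tree lc_d_rc_27_0 lc_d_rc_33_2 lc_d_rc_20_3 lc_d_rc_33_2 lc_d_rc_12_1 lc_d_rc_31_2 lc_d_Cert_tree lc_d_rc_27_0 lc_d_rc_33_2 lc_d_rc_27_0 lc_d_rc_33_2 lc_d_rc_12_3 lc_d_rc_33_2 lc_d_rc_12_1 lc_d_rc_20_3 lc_d_rc_29_2 lc_d_rc_32_2 lc_d_rc_30_2 lc_d_rc_27_0 lc_d_rc_31_2 lc_d_Cert_tree lc_d_rc_3_1 lc_d_rc_30_2 lc_d_rc_30_2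 lc_d_rc_28_2 lc_d_rc_28_2 lc_d_Cert_tree lc_d_rc_27_0 lc_d_rc_33_2 lc_d_rc_3_1 lc_d_rc_3_1 lc_d_rc_31_2 lc_d_Cert_tree lc_d_rc_30_2 lc_d_rc_3_3 lc_d_Cert_tree lc_d_rc_27_0 lc_d_rc_33_2 lc_d_Cert_tree lc_d_rc_27_0 lc_d_rc_33_2 lc_d_rc_28_2 lc_d_rc_33_2 lc_d_rc_12_1 lc_d_Cert_tree lc_d_rc_31_2 lc_d_rc_27_0 lc_d_rc_33_2) (@D3.rec (fun _ => (Cert rels S Gen.d)) lc_d_rc_20_3 lc_d_rc_33_2 lc_d_rc_12_1 lc_d_rc_31_2 lc_d_rc_31_0 lc_d_rc_27_0 lc_d_rc_33_2 lc_d_rc_31_2 lc_d_rc_33_2 lc_d_rc_30_0 lc_d_rc_33_2 lc_d_rc_29_2 lc_d_rc_27_0 lc_d_rc_31_2 lc_d_rc_33_0 lc_d_rc_31_2 lc_d_Cert_tree lc_d_rc_30_2 lc_d_rc_33_0 lc_d_Cert_tree lc_d_rc_27_0 lc_d_rc_33_2 lc_d_rc_30_2 lc_d_rc_30_2 lc_d_rc_28_2 lc_d_Cert_tree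 lc_d_Cert_tree lc_d_rc_27_0 lc_d_rc_33_2 lc_d_rc_20_3 lc_d_rc_33_2 lc_d_rc_3_1 lc_d_rc_30_2 lc_d_rc_32_2 lc_d_Cert_tree lc_d_rc_27_0 lc_d_rc_33_2 lc_d_rc_30_2 lc_d_Cert_tree lc_d_Cert_tree lc_d_rc_27_0 lc_d_rc_33_2 lc_d_rc_20_3 lc_d_rc_28_2 lc_d_rc_33_2 lc_d_rc_27_0 lc_d_rc_33_2 lc_d_rc_28_2 lc_d_rc_33_2 lc_d_rc_30_2 lc_d_rc_28_2) (@D3.rec (fun _ => (Cert rels S Gen.d)) lc_d_rc_31_2 lc_d_rc_30_2 lc_d_rc_12_1 lc_d_Cert_tree lc_d_rc_27_0 lc_d_rc_33_2 lc_d_rc_27_0 lc_d_rc_33_2 lc_d_rc_20_3 lc_d_rc_33_2 lc_d_rc_12_1 lc_d_rc_20_3 lc_d_rc_29_2 lc_d_Cert_tree lc_d_rc_27_0 lc_d_rc_33_2 lc_d_rc_20_3 lc_d_rc_28_2 lc_d_rc_33_2 lc_d_rc_20_3 lc_d_rc_33_2 lc_d_rc_12_1 lc_d_rc_20_3 lc_d_rc_29_2 lc_d_rc_3_1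 lc_d_rc_12_1 lc_d_Cert_tree lc_d_rc_31_2 lc_d_rc_12_1 lc_d_rc_29_0 lc_d_rc_29_0 lc_d_Cert_tree lc_d_rc_27_0 lc_d_rc_33_2 lc_d_rc_29_4 lc_d_rc_29_2 lc_d_rc_3_1 lc_d_rc_33_0 lc_d_rc_33_0 lc_d_rc_29_4 lc_d_rc_3_1 lc_d_rc_30_2 lc_d_rc_32_2 lc_d_Cert_tree lc_d_rc_27_0 lc_d_rc_33_2 lc_d_rc_30_2 lc_d_Cert_tree lc_d_Cert_tree lc_d_rc_27_0 lc_d_rc_33_2) (@D3.rec (fun _ => (Cert rels S Gen.d)) lc_d_rc_20_3 lc_d_rc_28_2 lc_d_rc_33_2 lc_d_rc_27_0 lc_d_rc_33_2 lc_d_rc_28_2 lc_d_rc_33_2 lc_d_rc_28_2 lc_d_rc_12_1 lc_d_Cert_tree lc_d_rc_27_0 lc_d_rc_33_2 lc_d_rc_27_0 lc_d_rc_33_2 lc_d_rc_20_3 lc_d_rc_33_2 lc_d_rc_12_1 lc_d_rc_20_3 lc_d_Cert_tree lc_d_rc_27_0 lc_d_rc_33_2 lc_d_rc_20_3 lc_d_rc_28_2 lc_d_rc_33_2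 lc_d_rc_20_3 lc_d_rc_33_2 lc_d_rc_12_1 lc_d_rc_20_3 lc_d_rc_29_2 lc_d_rc_3_1 lc_d_rc_12_1 lc_d_Cert_tree lc_d_rc_31_2 lc_d_rc_3_3 lc_d_rc_30_2 lc_d_rc_32_2 lc_d_rc_30_2 lc_d_rc_32_2 lc_d_Cert_tree lc_d_rc_27_0 lc_d_rc_33_2 lc_d_rc_30_2 lc_d_Cert_tree lc_d_Cert_tree lc_d_rc_27_0 lc_d_rc_33_2 lc_d_rc_20_3 lc_d_rc_33_2 lc_d_rc_33_2 lc_d_rc_3_1 lc_d_Cert_tree) (@D3.rec (fun _ => (Cert rels S Gen.d)) lc_d_rc_27_0 lc_d_rc_33_2 lc_d_rc_27_0 lc_d_rc_33_2 lc_d_rc_20_3 lc_d_rc_33_2 lc_d_rc_12_1 lc_d_rc_20_3 lc_d_rc_28_2 lc_d_rc_30_2 lc_d_Cert_tree lc_d_Cert_tree lc_d_rc_27_0 lc_d_rc_33_2 lc_d_rc_29_2 lc_d_rc_28_2 lc_d_rc_33_2 lc_d_rc_31_2 lc_d_Cert_tree lc_d_rc_27_0 lc_d_rc_33_2 lc_d_rc_27_0 lc_d_rc_33_2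 lc_d_rc_20_3 lc_d_rc_28_2 lc_d_rc_33_2 lc_d_rc_12_1 lc_d_rc_20_3 lc_d_rc_20_3 lc_d_rc_30_2 lc_d_rc_28_2 lc_d_rc_29_2 lc_d_rc_28_2 lc_d_rc_33_2 lc_d_rc_30_2 lc_d_rc_28_2 lc_d_rc_31_2 lc_d_rc_30_2 lc_d_rc_32_2 lc_d_rc_31_2 lc_d_Cert_tree lc_d_rc_27_0 lc_d_rc_33_2 lc_d_rc_20_3 lc_d_rc_28_2 lc_d_rc_33_2 lc_d_rc_20_3 lc_d_rc_33_2 lc_d_rc_12_1 lc_d_rc_20_3 lc_d_rc_3_1) (@D3.rec (fun _ => (Cert rels S Gen.d)) lc_d_rc_3_1 lc_d_rc_12_1 lc_d_Cert_tree lc_d_rc_27_0 lc_d_rc_33_2 lc_d_rc_20_3 lc_d_rc_28_2 lc_d_rc_33_2 lc_d_rc_12_1 lc_d_Cert_tree lc_d_rc_20_3 lc_d_rc_28_2 lc_d_rc_29_2 lc_d_rc_12_1 lc_d_rc_20_3 lc_d_rc_29_2 lc_d_rc_3_1 lc_d_rc_12_1 lc_d_Cert_tree lc_d_rc_3_1 lc_d_Cert_tree lc_d_rc_27_0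 lc_d_rc_3_1 lc_d_rc_28_2 lc_d_rc_30_2 lc_d_rc_33_0 lc_d_rc_33_0 lc_d_rc_29_4 lc_d_rc_31_2 lc_d_Cert_tree lc_d_rc_27_0 lc_d_rc_29_0 lc_d_rc_28_2 lc_d_rc_29_0 lc_d_rc_29_0 lc_d_rc_30_2 lc_d_rc_27_0 lc_d_rc_33_2 lc_d_rc_20_3 lc_d_rc_28_2 lc_d_rc_33_2 lc_d_rc_12_1 lc_d_rc_31_0 lc_d_rc_20_3 lc_d_rc_28_2 lc_d_rc_29_2 lc_d_rc_12_1 lc_d_rc_20_3 lc_d_rc_29_2 lc_d_rc_3_1 lc_d_rc_12_1) (@D3.rec (fun _ => (Cert rels S Gen.d)) lc_d_Cert_tree lc_d_rc_3_1 lc_d_Cert_tree lc_d_rc_27_0 lc_d_rc_28_2 lc_d_rc_30_2 lc_d_rc_3_3 lc_d_rc_3_3 lc_d_rc_3_3 lc_d_rc_29_4 lc_d_Cert_tree lc_d_rc_27_0 lc_d_rc_30_2 lc_d_rc_28_2 lc_d_rc_29_0 lc_d_rc_29_0 lc_d_rc_29_0 lc_d_rc_28_2 lc_d_Cert_tree lc_d_rc_31_2 lc_d_Cert_tree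 lc_d_rc_27_0 lc_d_rc_33_2 lc_d_rc_27_0 lc_d_rc_33_2 lc_d_rc_29_2 lc_d_rc_33_2 lc_d_rc_12_1 lc_d_rc_33_2 lc_d_Cert_tree lc_d_rc_27_0 lc_d_rc_20_3 lc_d_rc_28_2 lc_d_rc_20_3 lc_d_rc_12_1 lc_d_rc_3_1 lc_d_rc_27_0 lc_d_rc_20_5 lc_d_rc_20_3 lc_d_rc_28_2 lc_d_rc_33_2 lc_d_rc_12_1 lc_d_Cert_tree lc_d_rc_30_2 lc_d_rc_28_2 lc_d_rc_20_5 lc_d_rc_12_1 lc_d_rc_32_2 lc_d_rc_20_5 lc_d_rc_3_1 lc_d_rc_29_0) (@D3.rec (fun _ => (Cert rels S Gen.d)) lc_d_Cert_tree lc_d_rc_29_0 lc_d_Cert_tree lc_d_rc_27_0 lc_d_rc_3_1 lc_d_rc_3_1 lc_d_rc_3_1 lc_d_Cert_tree lc_d_rc_27_0 lc_d_rc_20_1 lc_d_rc_27_0 lc_d_rc_31_0 lc_d_rc_33_2 lc_d_rc_31_2 lc_d_rc_27_0 lc_d_rc_33_2 lc_d_rc_31_0 lc_d_rc_33_2 lc_d_rc_3_1 lc_d_rc_33_2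 lc_d_rc_20_3 lc_d_rc_28_2 lc_d_rc_33_2 lc_d_rc_27_0 lc_d_rc_33_2 lc_d_rc_28_2 lc_d_rc_33_2 lc_d_rc_30_2 lc_d_rc_28_2 lc_d_rc_31_2 lc_d_rc_30_2 lc_d_rc_27_0 lc_d_rc_33_2 lc_d_rc_27_0 lc_d_rc_33_2 lc_d_rc_3_1 lc_d_rc_33_2 lc_d_rc_12_1 lc_d_rc_20_3 lc_d_rc_29_2 lc_d_rc_27_0 lc_d_rc_33_2 lc_d_rc_20_3 lc_d_rc_28_2 lc_d_rc_33_2 lc_d_rc_20_3 lc_d_rc_33_2 lc_d_rc_12_1 lc_d_rc_20_3 lc_d_rc_29_2 lc_d_rc_3_1) (@D3.rec (fun _ => (Cert rels S Gen.d)) lc_d_rc_12_1 lc_d_Cert_tree lc_d_rc_33_2 lc_d_rc_20_3 lc_d_rc_33_2 lc_d_rc_30_2 lc_d_rc_27_0 lc_d_rc_33_2 lc_d_rc_27_0 lc_d_rc_33_2 lc_d_rc_31_2 lc_d_rc_33_2 lc_d_rc_32_0 lc_d_rc_20_3 lc_d_rc_3_1 lc_d_rc_29_2 lc_d_rc_28_2 lc_d_rc_33_2 lc_d_rc_28_4 lc_d_rc_33_2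 lc_d_rc_20_3 lc_d_rc_28_2 lc_d_rc_33_2 lc_d_rc_12_1 lc_d_rc_20_3 lc_d_rc_20_3 lc_d_rc_30_2 lc_d_rc_28_2 lc_d_rc_29_2 lc_d_rc_28_2 lc_d_rc_33_2 lc_d_rc_30_2 lc_d_rc_28_2 lc_d_rc_31_2 lc_d_rc_30_2 lc_d_rc_32_2 lc_d_rc_31_2 lc_d_rc_27_0 lc_d_rc_33_2 lc_d_rc_28_0 lc_d_rc_28_2 lc_d_rc_33_2 lc_d_rc_3_1 lc_d_rc_33_2 lc_d_rc_12_1 lc_d_rc_20_3 lc_d_rc_29_2 lc_d_rc_3_1 lc_d_rc_12_1 lc_d_Cert_tree lc_d_rc_31_2) (@D3.rec (fun _ => (Cert rels S Gen.d)) lc_d_rc_20_3 lc_d_rc_33_2 lc_d_rc_12_1 lc_d_rc_55_72 lc_d_rc_20_3 lc_d_rc_28_2 lc_d_rc_29_2 lc_d_rc_12_1 lc_d_rc_20_3 lc_d_rc_29_2 lc_d_rc_3_1 lc_d_rc_12_1 lc_d_Cert_tree lc_d_rc_3_1 lc_d_Cert_tree lc_d_rc_27_0 lc_d_rc_27_0 lc_d_rc_33_2 lc_d_rc_27_0 lc_d_rc_33_2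 lc_d_rc_20_3 lc_d_rc_33_2 lc_d_rc_12_1 lc_d_rc_20_3 lc_d_rc_3_1 lc_d_rc_27_0 lc_d_rc_33_2 lc_d_rc_20_3 lc_d_rc_28_2 lc_d_rc_33_2 lc_d_rc_20_3 lc_d_rc_33_2 lc_d_rc_12_1 lc_d_rc_20_3 lc_d_rc_3_1 lc_d_rc_3_1 lc_d_rc_12_1 lc_d_Cert_tree lc_d_rc_27_0 lc_d_rc_33_2 lc_d_rc_20_3 lc_d_rc_20_5 lc_d_rc_33_2 lc_d_rc_20_3 lc_d_rc_28_2 lc_d_rc_33_2 lc_d_rc_12_1 lc_d_rc_20_3 lc_d_rc_20_3 lc_d_rc_30_2 lc_d_rc_28_2) (@D3.rec (fun _ => (Cert rels S Gen.d)) lc_d_rc_29_2 lc_d_rc_3_1 lc_d_rc_12_1 lc_d_rc_12_1 lc_d_rc_20_3 lc_d_rc_20_3 lc_d_Cert_tree lc_d_rc_31_2 lc_d_rc_30_2 lc_d_rc_20_5 lc_d_rc_30_2 lc_d_rc_28_2 lc_d_rc_31_2 lc_d_rc_30_2 lc_d_rc_32_2 lc_d_rc_31_2 lc_d_rc_32_2 lc_d_rc_31_2 lc_d_rc_20_3 lc_d_rc_33_2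 lc_d_rc_12_1 lc_d_Cert_tree lc_d_rc_20_3 lc_d_rc_28_2 lc_d_rc_29_2 lc_d_rc_12_1 lc_d_rc_20_3 lc_d_rc_29_2 lc_d_rc_3_1 lc_d_rc_12_1 lc_d_Cert_tree lc_d_rc_3_1 lc_d_Cert_tree lc_d_rc_27_0 lc_d_rc_3_1 lc_d_rc_3_1 lc_d_rc_3_1 lc_d_rc_28_0 lc_d_rc_3_1 lc_d_rc_12_1 lc_d_Cert_tree lc_d_rc_3_1 lc_d_rc_12_1 lc_d_rc_20_3 lc_d_rc_3_1 lc_d_rc_12_1 lc_d_Cert_tree lc_d_rc_3_1 lc_d_Cert_tree lc_d_rc_27_0 lc_d_rc_27_0) (@D3.rec (fun _ => (Cert rels S Gen.d)) lc_d_rc_27_0 lc_d_rc_28_0 lc_d_rc_27_0 lc_d_rc_28_2 lc_d_rc_20_3 lc_d_rc_30_2 lc_d_rc_29_2 lc_d_rc_31_2 lc_d_rc_3_3 lc_d_rc_56_45 lc_d_rc_31_2 lc_d_rc_30_2 lc_d_rc_32_2 lc_d_rc_29_2 lc_d_rc_33_2 lc_d_rc_33_2 lc_d_rc_31_2 lc_d_rc_20_1 lc_d_Cert_tree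 lc_d_rc_27_0 lc_d_rc_33_2 lc_d_rc_27_0 lc_d_rc_30_0 lc_d_rc_3_3 lc_d_rc_3_3 lc_d_rc_27_0 lc_d_rc_33_2 lc_d_rc_29_2 lc_d_rc_28_2 lc_d_rc_33_2 lc_d_rc_28_2 lc_d_rc_30_0 lc_d_rc_32_2 lc_d_rc_31_2 lc_d_rc_32_2 lc_d_rc_29_2 lc_d_rc_29_2 lc_d_rc_3_3 lc_d_rc_3_3 lc_d_rc_31_2 lc_d_rc_29_2 lc_d_rc_31_2 lc_d_rc_27_0 lc_d_rc_33_2 lc_d_rc_32_0 lc_d_rc_33_2 lc_d_rc_3_3 lc_d_rc_28_2 lc_d_rc_33_2 lc_d_rc_30_2 lc_d_rc_29_0)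
def ce_d_7 : D2 → D3 → (Cert rels S Gen.d) := @D2.rec (fun _ => D3 → (Cert rels S Gen.d)) (@D3.rec (fun _ => (Cert rels S Gen.d)) lc_d_rc_31_2 lc_d_rc_32_2 lc_d_rc_30_2 lc_d_rc_32_2 lc_d_rc_29_2 lc_d_rc_33_2 lc_d_rc_33_2 lc_d_rc_55_78 lc_d_rc_28_4 lc_d_rc_27_0 lc_d_rc_33_2 lc_d_rc_29_2 lc_d_rc_33_2 lc_d_rc_20_3 lc_d_rc_31_2 lc_d_rc_30_2 lc_d_rc_29_2 lc_d_rc_33_2 lc_d_Cert_tree lc_d_rc_12_3 lc_d_rc_55_9 lc_d_rc_28_2 lc_d_rc_33_2 lc_d_rc_29_2 lc_d_rc_28_2 lc_d_rc_30_2 lc_d_rc_31_2 lc_d_rc_28_2 lc_d_rc_31_2 lc_d_rc_32_2 lc_d_rc_28_2 lc_d_rc_30_2 lc_d_rc_28_2 lc_d_rc_28_2 lc_d_rc_28_2 lc_d_Cert_tree lc_d_rc_28_0 lc_d_rc_27_0 lc_d_rc_33_2 lc_d_rc_27_0 lc_d_rc_33_2 lc_d_rc_29_2 lc_d_rc_33_2 lc_d_rc_3_1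 lc_d_rc_33_2 lc_d_rc_32_0 lc_d_rc_55_21 lc_d_rc_12_1 lc_d_rc_12_1 lc_d_rc_12_1 lc_d_Cert_tree) (@D3.rec (fun _ => (Cert rels S Gen.d)) lc_d_rc_3_1 lc_d_rc_3_1 lc_d_rc_3_1 lc_d_Cert_tree lc_d_rc_27_0 lc_d_rc_33_2 lc_d_rc_33_2 lc_d_rc_31_2 lc_d_rc_33_2 lc_d_rc_30_2 lc_d_rc_30_2 lc_d_rc_33_2 lc_d_rc_31_2 lc_d_rc_33_2 lc_d_Cert_tree lc_d_rc_29_2 lc_d_rc_28_2 lc_d_rc_30_2 lc_d_rc_31_2 lc_d_rc_3_3 lc_d_rc_31_2 lc_d_rc_33_2 lc_d_rc_31_2 lc_d_rc_32_2 lc_d_rc_28_2 lc_d_rc_33_2 lc_d_rc_29_2 lc_d_rc_29_2 lc_d_rc_3_1 lc_d_rc_27_0 lc_d_rc_33_2 lc_d_rc_12_1 lc_d_rc_33_2 lc_d_rc_33_2 lc_d_rc_27_0 lc_d_rc_33_2 lc_d_rc_3_1 lc_d_rc_27_0 lc_d_rc_33_2 lc_d_rc_20_3 lc_d_rc_33_2 lc_d_rc_27_0 lc_d_rc_33_2 lc_d_rc_12_1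 lc_d_rc_33_2 lc_d_rc_33_2 lc_d_rc_33_2 lc_d_rc_27_0 lc_d_rc_33_2 lc_d_rc_27_0 lc_d_rc_33_2) (@D3.rec (fun _ => (Cert rels S Gen.d)) lc_d_rc_28_2 lc_d_rc_33_2 lc_d_rc_27_0 lc_d_rc_33_2 lc_d_rc_3_1 lc_d_rc_28_4 lc_d_rc_27_0 lc_d_rc_33_2 lc_d_rc_20_5 lc_d_rc_33_2 lc_d_rc_20_3 lc_d_rc_20_3 lc_d_rc_29_2 lc_d_rc_27_0 lc_d_rc_33_2 lc_d_rc_28_4 lc_d_rc_33_2 lc_d_rc_12_1 lc_d_rc_27_0 lc_d_rc_33_2 lc_d_rc_27_0 lc_d_rc_33_2 lc_d_rc_28_2 lc_d_rc_33_2 lc_d_rc_12_1 lc_d_rc_28_2 lc_d_rc_29_2 lc_d_rc_20_3 lc_d_rc_30_2 lc_d_rc_29_2 lc_d_rc_20_3 lc_d_rc_20_3 lc_d_rc_12_1 lc_d_rc_31_2 lc_d_rc_29_2 lc_d_rc_28_2 lc_d_rc_32_2 lc_d_rc_3_1 lc_d_rc_30_2 lc_d_rc_20_3 lc_d_rc_12_1 lc_d_rc_28_2 lc_d_Cert_tree lc_d_rc_20_3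 lc_d_rc_12_1 lc_d_Cert_tree lc_d_rc_32_2 lc_d_rc_29_2 lc_d_rc_30_2 lc_d_rc_28_2 lc_d_Cert_tree) (@D3.rec (fun _ => (Cert rels S Gen.d)) lc_d_rc_27_0 lc_d_rc_33_2 lc_d_rc_3_1 lc_d_rc_27_0 lc_d_rc_31_2 lc_d_rc_20_3 lc_d_rc_12_1 lc_d_rc_12_1 lc_d_rc_28_2 lc_d_rc_27_0 lc_d_rc_30_2 lc_d_rc_30_2 lc_d_Cert_tree lc_d_rc_20_3 lc_d_Cert_tree lc_d_rc_27_0 lc_d_rc_33_2 lc_d_rc_12_1 lc_d_Cert_tree lc_d_rc_32_2 lc_d_rc_12_1 lc_d_rc_12_1 lc_d_rc_55_51 lc_d_rc_33_2 lc_d_rc_20_1 lc_d_rc_27_0 lc_d_rc_33_2 lc_d_rc_29_2 lc_d_rc_33_2 lc_d_rc_12_1 lc_d_Cert_tree lc_d_Cert_tree lc_d_rc_3_1 lc_d_rc_3_3 lc_d_rc_27_0 lc_d_rc_33_2 lc_d_rc_31_2 lc_d_rc_28_2 lc_d_rc_33_2 lc_d_rc_27_0 lc_d_rc_31_2 lc_d_Cert_tree lc_d_rc_20_3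 lc_d_rc_31_2 lc_d_rc_27_0 lc_d_rc_33_2 lc_d_rc_28_2 lc_d_rc_33_2 lc_d_rc_32_0 lc_d_rc_28_2 lc_d_rc_32_0) (@D3.rec (fun _ => (Cert rels S Gen.d)) lc_d_rc_27_0 lc_d_rc_33_2 lc_d_rc_33_2 lc_d_rc_33_2 lc_d_rc_33_2 lc_d_rc_33_2 lc_d_rc_27_0 lc_d_rc_31_2 lc_d_Cert_tree lc_d_rc_20_3 lc_d_Cert_tree lc_d_rc_27_0 lc_d_rc_33_2 lc_d_rc_33_2 lc_d_rc_12_1 lc_d_rc_12_1 lc_d_Cert_tree lc_d_rc_27_0 lc_d_rc_33_2 lc_d_rc_12_1 lc_d_rc_12_1 lc_d_rc_30_2 lc_d_Cert_tree lc_d_Cert_tree lc_d_rc_27_0 lc_d_rc_33_2 lc_d_rc_20_3 lc_d_rc_33_2 lc_d_rc_33_2 lc_d_Cert_tree lc_d_rc_12_1 lc_d_Cert_tree lc_d_rc_27_0 lc_d_rc_33_2 lc_d_rc_27_0 lc_d_rc_31_2 lc_d_Cert_tree lc_d_rc_3_1 lc_d_rc_3_3 lc_d_rc_27_0 lc_d_rc_33_2 lc_d_rc_33_0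 lc_d_rc_33_2 lc_d_rc_3_1 lc_d_rc_31_2 lc_d_rc_28_2 lc_d_rc_27_0 lc_d_rc_33_2 lc_d_rc_33_2 lc_d_rc_31_2 lc_d_Cert_tree) (@D3.rec (fun _ => (Cert rels S Gen.d)) lc_d_rc_30_2 lc_d_rc_32_2 lc_d_Cert_tree lc_d_rc_27_0 lc_d_rc_33_2 lc_d_rc_31_2 lc_d_rc_27_0 lc_d_rc_33_2 lc_d_rc_28_2 lc_d_rc_33_2 lc_d_rc_30_2 lc_d_rc_28_2 lc_d_rc_29_2 lc_d_rc_12_1 lc_d_Cert_tree lc_d_rc_31_0 lc_d_rc_27_0 lc_d_rc_33_2 lc_d_rc_20_3 lc_d_rc_33_2 lc_d_rc_33_2 lc_d_rc_29_2 lc_d_rc_12_3 lc_d_rc_27_0 lc_d_rc_33_2 lc_d_rc_33_2 lc_d_rc_33_2 lc_d_rc_12_1 lc_d_rc_20_3 lc_d_rc_29_2 lc_d_rc_31_2 lc_d_Cert_tree lc_d_rc_30_2 lc_d_rc_32_2 lc_d_Cert_tree lc_d_rc_27_0 lc_d_rc_33_2 lc_d_Cert_tree lc_d_rc_27_0 lc_d_rc_33_2 lc_d_rc_28_2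 lc_d_rc_33_2 lc_d_rc_29_2 lc_d_rc_12_1 lc_d_Cert_tree lc_d_Cert_tree lc_d_rc_27_0 lc_d_rc_33_2 lc_d_rc_20_3 lc_d_rc_33_2 lc_d_rc_12_1) (@D3.rec (fun _ => (Cert rels S Gen.d)) lc_d_rc_31_2 lc_d_Cert_tree lc_d_rc_27_0 lc_d_rc_33_2 lc_d_rc_27_0 lc_d_rc_33_2 lc_d_rc_20_3 lc_d_rc_33_2 lc_d_rc_12_1 lc_d_rc_20_3 lc_d_rc_29_2 lc_d_rc_27_0 lc_d_rc_31_2 lc_d_Cert_tree lc_d_rc_12_1 lc_d_Cert_tree lc_d_rc_27_0 lc_d_rc_33_2 lc_d_rc_20_3 lc_d_rc_33_2 lc_d_rc_31_2 lc_d_Cert_tree lc_d_rc_30_2 lc_d_rc_32_2 lc_d_Cert_tree lc_d_rc_27_0 lc_d_rc_33_2 lc_d_rc_28_0 lc_d_rc_27_0 lc_d_rc_33_2 lc_d_rc_28_2 lc_d_rc_33_2 lc_d_rc_33_0 lc_d_rc_28_2 lc_d_rc_28_2 lc_d_rc_3_1 lc_d_Cert_tree lc_d_rc_20_5 lc_d_rc_27_0 lc_d_rc_33_2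 lc_d_rc_20_3 lc_d_rc_33_2 lc_d_rc_28_0 lc_d_rc_30_2 lc_d_rc_32_2 lc_d_Cert_tree lc_d_rc_27_0 lc_d_rc_33_2 lc_d_rc_30_2 lc_d_Cert_tree lc_d_Cert_tree) (@D3.rec (fun _ => (Cert rels S Gen.d)) lc_d_rc_27_0 lc_d_rc_33_2 lc_d_rc_20_3 lc_d_rc_28_2 lc_d_rc_33_2 lc_d_rc_27_0 lc_d_rc_33_2 lc_d_rc_28_2 lc_d_rc_33_2 lc_d_rc_30_2 lc_d_rc_28_2 lc_d_rc_29_2 lc_d_rc_31_2 lc_d_rc_30_2 lc_d_rc_29_2 lc_d_rc_12_1 lc_d_Cert_tree lc_d_rc_27_0 lc_d_rc_33_2 lc_d_rc_27_0 lc_d_rc_33_2 lc_d_rc_20_3 lc_d_rc_33_2 lc_d_rc_12_1 lc_d_rc_20_3 lc_d_rc_29_2 lc_d_rc_3_3 lc_d_rc_27_0 lc_d_rc_33_2 lc_d_rc_20_3 lc_d_rc_28_2 lc_d_rc_33_2 lc_d_rc_20_3 lc_d_rc_33_2 lc_d_rc_12_1 lc_d_rc_20_3 lc_d_rc_29_2 lc_d_rc_3_1 lc_d_rc_12_1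 lc_d_Cert_tree lc_d_rc_12_1 lc_d_rc_20_3 lc_d_Cert_tree lc_d_rc_3_1 lc_d_rc_31_2 lc_d_rc_3_1 lc_d_rc_3_1 lc_d_rc_56_17 lc_d_Cert_tree lc_d_rc_27_0 lc_d_rc_33_2) (@D3.rec (fun _ => (Cert rels S Gen.d)) lc_d_Cert_tree lc_d_rc_32_2 lc_d_rc_12_1 lc_d_rc_12_1 lc_d_rc_28_2 lc_d_Cert_tree lc_d_rc_27_0 lc_d_rc_33_2 lc_d_rc_29_2 lc_d_rc_33_2 lc_d_rc_12_1 lc_d_rc_33_0 lc_d_Cert_tree lc_d_rc_20_3 lc_d_Cert_tree lc_d_rc_27_0 lc_d_rc_33_2 lc_d_rc_28_2 lc_d_Cert_tree lc_d_rc_32_2 lc_d_rc_3_1 lc_d_rc_3_1 lc_d_rc_27_0 lc_d_rc_31_2 lc_d_Cert_tree lc_d_rc_20_3 lc_d_Cert_tree lc_d_rc_27_0 lc_d_rc_33_2 lc_d_rc_28_2 lc_d_rc_33_2 lc_d_rc_12_1 lc_d_rc_12_1 lc_d_Cert_tree lc_d_rc_27_0 lc_d_rc_33_2 lc_d_rc_12_1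 lc_d_rc_12_1 lc_d_rc_30_2 lc_d_rc_12_3 lc_d_Cert_tree lc_d_rc_27_0 lc_d_rc_33_2 lc_d_rc_12_3 lc_d_rc_33_2 lc_d_rc_33_2 lc_d_Cert_tree lc_d_rc_12_1 lc_d_rc_30_2 lc_d_rc_28_2 lc_d_rc_27_0) (@D3.rec (fun _ => (Cert rels S Gen.d)) lc_d_rc_31_2 lc_d_Cert_tree lc_d_rc_20_3 lc_d_Cert_tree lc_d_rc_27_0 lc_d_rc_33_2 lc_d_rc_33_2 lc_d_rc_30_2 lc_d_rc_28_2 lc_d_Cert_tree lc_d_rc_27_0 lc_d_rc_33_2 lc_d_rc_3_1 lc_d_rc_3_1 lc_d_rc_31_2 lc_d_Cert_tree lc_d_rc_30_2 lc_d_rc_32_2 lc_d_Cert_tree lc_d_rc_27_0 lc_d_rc_33_2 lc_d_rc_32_2 lc_d_rc_27_0 lc_d_rc_33_2 lc_d_rc_28_2 lc_d_rc_33_2 lc_d_rc_30_2 lc_d_rc_28_2 lc_d_rc_29_2 lc_d_rc_12_1 lc_d_rc_55_39 lc_d_rc_30_0 lc_d_rc_27_0 lc_d_rc_33_2 lc_d_rc_20_3 lc_d_rc_33_2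 lc_d_rc_32_2 lc_d_rc_31_2 lc_d_rc_12_3 lc_d_rc_33_2 lc_d_rc_33_2 lc_d_rc_3_3 lc_d_rc_12_3 lc_d_rc_29_2 lc_d_Cert_tree lc_d_rc_20_3 lc_d_Cert_tree lc_d_rc_27_0 lc_d_rc_33_2 lc_d_rc_3_1 lc_d_Cert_tree) (@D3.rec (fun _ => (Cert rels S Gen.d)) lc_d_rc_32_2 lc_d_rc_3_1 lc_d_rc_3_1 lc_d_rc_20_5 lc_d_Cert_tree lc_d_rc_27_0 lc_d_rc_33_2 lc_d_rc_28_2 lc_d_rc_33_2 lc_d_rc_29_0 lc_d_Cert_tree lc_d_rc_27_0 lc_d_rc_33_2 lc_d_rc_12_1 lc_d_rc_12_1 lc_d_rc_29_0 lc_d_Cert_tree lc_d_Cert_tree lc_d_rc_27_0 lc_d_rc_33_2 lc_d_rc_20_3 lc_d_rc_33_2 lc_d_rc_33_2 lc_d_Cert_tree lc_d_rc_12_1 lc_d_rc_3_1 lc_d_rc_31_2 lc_d_rc_27_0 lc_d_rc_31_2 lc_d_Cert_tree lc_d_rc_20_3 lc_d_Cert_tree lc_d_rc_27_0 lc_d_rc_33_2 lc_d_rc_33_2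 lc_d_rc_28_2 lc_d_rc_28_2 lc_d_Cert_tree lc_d_rc_27_0 lc_d_rc_33_2 lc_d_rc_3_1 lc_d_rc_3_1 lc_d_rc_31_2 lc_d_Cert_tree lc_d_rc_30_2 lc_d_rc_32_2 lc_d_Cert_tree lc_d_rc_27_0 lc_d_rc_33_2 lc_d_Cert_tree lc_d_rc_27_0) (@D3.rec (fun _ => (Cert rels S Gen.d)) lc_d_rc_33_2 lc_d_rc_28_2 lc_d_rc_33_2 lc_d_rc_30_2 lc_d_rc_28_2 lc_d_rc_29_2 lc_d_rc_12_1 lc_d_Cert_tree lc_d_Cert_tree lc_d_rc_27_0 lc_d_rc_33_2 lc_d_rc_20_3 lc_d_rc_33_2 lc_d_rc_12_1 lc_d_rc_31_2 lc_d_Cert_tree lc_d_rc_27_0 lc_d_rc_33_2 lc_d_rc_27_0 lc_d_rc_33_2 lc_d_rc_20_3 lc_d_rc_33_2 lc_d_rc_12_1 lc_d_rc_20_3 lc_d_rc_29_2 lc_d_rc_27_0 lc_d_rc_31_2 lc_d_Cert_tree lc_d_rc_12_1 lc_d_rc_31_2 lc_d_rc_30_2 lc_d_rc_31_2 lc_d_Cert_tree lc_d_rc_30_2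 lc_d_rc_32_2 lc_d_Cert_tree lc_d_rc_27_0 lc_d_rc_33_2 lc_d_Cert_tree lc_d_rc_27_0 lc_d_rc_33_2 lc_d_rc_28_2 lc_d_rc_33_2 lc_d_rc_3_1 lc_d_rc_28_2 lc_d_Cert_tree lc_d_Cert_tree lc_d_rc_27_0 lc_d_rc_33_2 lc_d_rc_20_3 lc_d_rc_33_2) (@D3.rec (fun _ => (Cert rels S Gen.d)) lc_d_rc_3_1 lc_d_rc_30_2 lc_d_rc_32_2 lc_d_Cert_tree lc_d_rc_27_0 lc_d_rc_33_2 lc_d_rc_30_2 lc_d_Cert_tree lc_d_Cert_tree lc_d_rc_27_0 lc_d_rc_33_2 lc_d_rc_20_3 lc_d_rc_28_2 lc_d_rc_33_2 lc_d_rc_27_0 lc_d_rc_33_2 lc_d_rc_28_2 lc_d_rc_33_2 lc_d_rc_30_2 lc_d_rc_28_2 lc_d_rc_29_2 lc_d_rc_31_2 lc_d_rc_30_2 lc_d_rc_29_2 lc_d_rc_12_1 lc_d_Cert_tree lc_d_rc_27_0 lc_d_rc_33_2 lc_d_rc_27_0 lc_d_rc_33_2 lc_d_rc_20_3 lc_d_rc_33_2 lc_d_rc_12_1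 lc_d_rc_20_3 lc_d_rc_29_2 lc_d_rc_30_2 lc_d_rc_27_0 lc_d_rc_33_2 lc_d_rc_31_0 lc_d_rc_28_2 lc_d_rc_33_2 lc_d_rc_33_2 lc_d_rc_31_2 lc_d_rc_31_2 lc_d_rc_29_2 lc_d_rc_3_1 lc_d_rc_12_1 lc_d_Cert_tree lc_d_Cert_tree lc_d_rc_27_0 lc_d_rc_33_2) (@D3.rec (fun _ => (Cert rels S Gen.d)) lc_d_Cert_tree lc_d_rc_27_0 lc_d_rc_33_2 lc_d_rc_33_2 lc_d_rc_3_1 lc_d_rc_3_1 lc_d_rc_28_4 lc_d_rc_27_0 lc_d_rc_33_2 lc_d_Cert_tree lc_d_rc_27_0 lc_d_rc_33_2 lc_d_rc_28_2 lc_d_rc_33_2 lc_d_rc_30_2 lc_d_rc_28_2 lc_d_rc_29_2 lc_d_rc_30_2 lc_d_rc_28_4 lc_d_rc_28_4 lc_d_rc_12_1 lc_d_rc_32_2 lc_d_rc_27_0 lc_d_rc_33_2 lc_d_rc_27_0 lc_d_rc_33_2 lc_d_rc_20_3 lc_d_rc_33_2 lc_d_rc_12_1 lc_d_rc_20_3 lc_d_rc_29_0 lc_d_Cert_tree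 lc_d_rc_12_1 lc_d_rc_33_0 lc_d_rc_30_2 lc_d_rc_29_0 lc_d_rc_29_0 lc_d_Cert_tree lc_d_rc_27_0 lc_d_rc_33_2 lc_d_Cert_tree lc_d_rc_27_0 lc_d_rc_33_2 lc_d_rc_28_2 lc_d_rc_33_2 lc_d_rc_3_1 lc_d_rc_3_1 lc_d_rc_33_0 lc_d_rc_33_0 lc_d_rc_29_4 lc_d_rc_3_1) (@D3.rec (fun _ => (Cert rels S Gen.d)) lc_d_rc_30_2 lc_d_rc_32_2 lc_d_Cert_tree lc_d_rc_27_0 lc_d_rc_33_2 lc_d_rc_30_2 lc_d_Cert_tree lc_d_Cert_tree lc_d_rc_27_0 lc_d_rc_33_2 lc_d_rc_20_3 lc_d_rc_28_2 lc_d_rc_33_2 lc_d_rc_27_0 lc_d_rc_33_2 lc_d_rc_28_2 lc_d_rc_33_2 lc_d_rc_30_2 lc_d_rc_28_2 lc_d_rc_29_2 lc_d_rc_31_2 lc_d_rc_30_2 lc_d_rc_20_5 lc_d_rc_12_1 lc_d_Cert_tree lc_d_rc_27_0 lc_d_rc_33_2 lc_d_rc_27_0 lc_d_rc_33_2 lc_d_rc_20_3 lc_d_rc_33_2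 lc_d_rc_12_1 lc_d_rc_20_3 lc_d_Cert_tree lc_d_rc_27_0 lc_d_rc_33_2 lc_d_rc_20_3 lc_d_rc_28_2 lc_d_rc_33_2 lc_d_rc_20_3 lc_d_rc_33_2 lc_d_rc_12_1 lc_d_rc_20_3 lc_d_rc_29_2 lc_d_rc_3_1 lc_d_rc_12_1 lc_d_Cert_tree lc_d_rc_31_2 lc_d_Cert_tree lc_d_rc_30_2 lc_d_rc_32_2) (@D3.rec (fun _ => (Cert rels S Gen.d)) lc_d_Cert_tree lc_d_rc_27_0 lc_d_rc_33_2 lc_d_rc_32_2 lc_d_rc_31_2 lc_d_rc_30_2 lc_d_rc_32_2 lc_d_Cert_tree lc_d_rc_27_0 lc_d_rc_33_2 lc_d_rc_30_2 lc_d_Cert_tree lc_d_Cert_tree lc_d_rc_27_0 lc_d_rc_33_2 lc_d_rc_20_3 lc_d_rc_28_2 lc_d_rc_33_2 lc_d_rc_27_0 lc_d_rc_33_2 lc_d_rc_28_2 lc_d_rc_33_2 lc_d_rc_28_2 lc_d_rc_3_1 lc_d_rc_3_1 lc_d_Cert_tree lc_d_rc_27_0 lc_d_rc_33_2 lc_d_rc_27_0 lc_d_rc_33_2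 lc_d_rc_20_3 lc_d_rc_33_2 lc_d_rc_12_1 lc_d_rc_20_3 lc_d_rc_28_2 lc_d_rc_30_2 lc_d_Cert_tree lc_d_Cert_tree lc_d_rc_27_0 lc_d_rc_33_2 lc_d_rc_29_2 lc_d_rc_28_2 lc_d_rc_33_2 lc_d_rc_31_2 lc_d_Cert_tree lc_d_rc_27_0 lc_d_rc_33_2 lc_d_rc_27_0 lc_d_rc_33_2 lc_d_rc_20_3 lc_d_rc_28_2) (@D3.rec (fun _ => (Cert rels S Gen.d)) lc_d_rc_33_2 lc_d_rc_12_1 lc_d_rc_28_2 lc_d_rc_20_3 lc_d_rc_30_2 lc_d_rc_28_2 lc_d_rc_29_2 lc_d_rc_28_2 lc_d_rc_33_2 lc_d_rc_30_2 lc_d_rc_28_2 lc_d_rc_29_2 lc_d_rc_31_2 lc_d_rc_30_2 lc_d_Cert_tree lc_d_rc_32_2 lc_d_rc_31_2 lc_d_rc_29_2 lc_d_Cert_tree lc_d_rc_27_0 lc_d_rc_33_2 lc_d_rc_20_3 lc_d_rc_28_2 lc_d_rc_33_2 lc_d_rc_20_3 lc_d_rc_33_2 lc_d_rc_12_1 lc_d_rc_20_3 lc_d_rc_3_1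 lc_d_rc_3_1 lc_d_rc_12_1 lc_d_Cert_tree lc_d_rc_27_0 lc_d_rc_33_2 lc_d_rc_20_3 lc_d_rc_28_2 lc_d_rc_33_2 lc_d_rc_12_1 lc_d_Cert_tree lc_d_rc_20_3 lc_d_rc_28_2 lc_d_rc_29_2 lc_d_rc_12_1 lc_d_rc_20_3 lc_d_rc_29_2 lc_d_rc_3_1 lc_d_rc_12_1 lc_d_Cert_tree lc_d_rc_3_1 lc_d_Cert_tree lc_d_rc_27_0) (@D3.rec (fun _ => (Cert rels S Gen.d)) lc_d_rc_28_2 lc_d_rc_3_1 lc_d_rc_28_2 lc_d_rc_30_2 lc_d_rc_33_0 lc_d_rc_33_0 lc_d_rc_29_4 lc_d_rc_31_2 lc_d_Cert_tree lc_d_rc_27_0 lc_d_rc_29_0 lc_d_rc_28_2 lc_d_rc_29_0 lc_d_rc_31_2 lc_d_rc_27_0 lc_d_rc_31_2 lc_d_rc_20_3 lc_d_rc_28_2 lc_d_rc_33_2 lc_d_rc_12_1 lc_d_rc_29_2 lc_d_rc_29_2 lc_d_rc_12_1 lc_d_Cert_tree lc_d_rc_3_1 lc_d_rc_27_1 lc_d_rc_27_0 lc_d_rc_28_2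 lc_d_rc_30_2 lc_d_rc_20_5 lc_d_rc_20_5 lc_d_rc_3_3 lc_d_rc_31_2 lc_d_Cert_tree lc_d_rc_27_0 lc_d_rc_30_2 lc_d_rc_28_2 lc_d_rc_32_2 lc_d_rc_29_0 lc_d_rc_29_0 lc_d_rc_28_2 lc_d_Cert_tree lc_d_rc_31_2 lc_d_Cert_tree lc_d_rc_27_0 lc_d_rc_33_2 lc_d_rc_27_0 lc_d_rc_33_2 lc_d_rc_29_2 lc_d_rc_33_2 lc_d_rc_12_1) (@D3.rec (fun _ => (Cert rels S Gen.d)) lc_d_rc_33_2 lc_d_Cert_tree lc_d_rc_27_0 lc_d_rc_20_3 lc_d_rc_28_2 lc_d_rc_20_3 lc_d_rc_12_1 lc_d_rc_3_1 lc_d_rc_27_0 lc_d_rc_33_2 lc_d_rc_20_3 lc_d_rc_28_2 lc_d_rc_33_2 lc_d_rc_12_1 lc_d_Cert_tree lc_d_rc_30_2 lc_d_rc_28_2 lc_d_rc_3_1 lc_d_rc_12_1 lc_d_rc_29_0 lc_d_rc_3_1 lc_d_rc_3_1 lc_d_rc_29_0 lc_d_Cert_tree lc_d_rc_29_0 lc_d_Cert_tree lc_d_rc_27_0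 lc_d_rc_20_3 lc_d_rc_28_2 lc_d_rc_33_2 lc_d_rc_12_1 lc_d_rc_29_2 lc_d_rc_3_1 lc_d_rc_20_1 lc_d_rc_12_1 lc_d_Cert_tree lc_d_Cert_tree lc_d_rc_3_1 lc_d_rc_12_1 lc_d_Cert_tree lc_d_rc_3_1 lc_d_Cert_tree lc_d_rc_27_0 lc_d_rc_20_1 lc_d_rc_27_0 lc_d_rc_28_2 lc_d_rc_28_2 lc_d_rc_12_1 lc_d_rc_33_2 lc_d_rc_27_0 lc_d_rc_27_0) (@D3.rec (fun _ => (Cert rels S Gen.d)) lc_d_rc_28_2 lc_d_Cert_tree lc_d_rc_12_1 lc_d_rc_33_2 lc_d_rc_3_1 lc_d_rc_3_3 lc_d_rc_12_1 lc_d_Cert_tree lc_d_Cert_tree lc_d_rc_27_0 lc_d_rc_33_2 lc_d_rc_33_2 lc_d_rc_31_2 lc_d_rc_29_4 lc_d_rc_27_0 lc_d_rc_27_0 lc_d_rc_29_2 lc_d_rc_33_2 lc_d_rc_12_1 lc_d_rc_3_3 lc_d_rc_27_0 lc_d_rc_55_54 lc_d_Cert_tree lc_d_rc_31_2 lc_d_rc_30_2 lc_d_rc_33_2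 lc_d_rc_31_2 lc_d_rc_28_2 lc_d_rc_30_2 lc_d_rc_29_2 lc_d_Cert_tree lc_d_rc_29_2 lc_d_rc_27_0 lc_d_rc_33_2 lc_d_rc_33_2 lc_d_rc_30_2 lc_d_Cert_tree lc_d_rc_27_0 lc_d_rc_33_2 lc_d_rc_3_1 lc_d_rc_3_1 lc_d_Cert_tree lc_d_rc_20_1 lc_d_Cert_tree lc_d_rc_27_0 lc_d_rc_33_2 lc_d_rc_55_42 lc_d_rc_28_2 lc_d_rc_33_2 lc_d_rc_30_2 lc_d_rc_28_2) (@D3.rec (fun _ => (Cert rels S Gen.d)) lc_d_rc_20_5 lc_d_Cert_tree lc_d_rc_27_0 lc_d_rc_33_2 lc_d_rc_20_3 lc_d_rc_33_2 lc_d_rc_12_1 lc_d_rc_20_1 lc_d_rc_27_0 lc_d_rc_33_2 lc_d_rc_12_1 lc_d_rc_20_3 lc_d_rc_31_2 lc_d_Cert_tree lc_d_rc_30_2 lc_d_rc_12_3 lc_d_Cert_tree lc_d_rc_27_0 lc_d_rc_33_2 lc_d_rc_30_2 lc_d_rc_30_2 lc_d_rc_30_2 lc_d_rc_3_3 lc_d_rc_33_2 lc_d_rc_20_3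 lc_d_rc_33_2 lc_d_rc_30_2 lc_d_rc_30_2 lc_d_rc_29_2 lc_d_rc_27_0 lc_d_rc_31_2 lc_d_Cert_tree lc_d_rc_30_2 lc_d_rc_30_2 lc_d_rc_20_3 lc_d_Cert_tree lc_d_rc_27_0 lc_d_rc_33_2 lc_d_rc_32_2 lc_d_rc_27_0 lc_d_rc_33_2 lc_d_rc_28_2 lc_d_rc_33_2 lc_d_rc_30_2 lc_d_Cert_tree lc_d_Cert_tree lc_d_rc_27_0 lc_d_rc_33_2 lc_d_rc_33_2 lc_d_rc_3_1 lc_d_rc_30_2) (@D3.rec (fun _ => (Cert rels S Gen.d)) lc_d_Cert_tree lc_d_rc_27_0 lc_d_rc_33_2 lc_d_rc_29_0 lc_d_Cert_tree lc_d_Cert_tree lc_d_rc_27_0 lc_d_rc_33_2 lc_d_rc_20_3 lc_d_rc_28_2 lc_d_rc_33_2 lc_d_rc_3_3 lc_d_rc_28_2 lc_d_rc_33_2 lc_d_rc_30_2 lc_d_rc_28_2 lc_d_rc_31_2 lc_d_rc_30_2 lc_d_rc_12_1 lc_d_Cert_tree lc_d_rc_27_0 lc_d_rc_33_2 lc_d_rc_27_0 lc_d_rc_33_2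 lc_d_rc_20_3 lc_d_rc_33_2 lc_d_rc_12_1 lc_d_rc_20_3 lc_d_rc_29_2 lc_d_rc_29_4 lc_d_rc_27_0 lc_d_rc_33_2 lc_d_rc_20_3 lc_d_rc_28_2 lc_d_rc_33_2 lc_d_rc_20_3 lc_d_rc_33_2 lc_d_rc_12_1 lc_d_rc_20_3 lc_d_rc_29_2 lc_d_rc_3_1 lc_d_rc_12_1 lc_d_Cert_tree lc_d_rc_20_3 lc_d_rc_33_2 lc_d_rc_12_1 lc_d_rc_20_3 lc_d_rc_29_2 lc_d_rc_30_2 lc_d_rc_32_2 lc_d_Cert_tree) (@D3.rec (fun _ => (Cert rels S Gen.d)) lc_d_rc_27_0 lc_d_rc_33_2 lc_d_rc_30_2 lc_d_Cert_tree lc_d_Cert_tree lc_d_rc_27_0 lc_d_rc_33_2 lc_d_rc_20_3 lc_d_rc_33_2 lc_d_rc_27_0 lc_d_rc_12_1 lc_d_rc_28_2 lc_d_rc_27_0 lc_d_rc_33_2 lc_d_rc_27_0 lc_d_rc_33_2 lc_d_rc_20_3 lc_d_rc_33_2 lc_d_rc_12_1 lc_d_rc_20_3 lc_d_rc_29_2 lc_d_rc_28_2 lc_d_rc_20_3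 lc_d_rc_33_2 lc_d_rc_20_3 lc_d_rc_33_2 lc_d_rc_12_1 lc_d_rc_20_3 lc_d_rc_29_2 lc_d_rc_3_1 lc_d_rc_12_1 lc_d_Cert_tree lc_d_rc_31_2 lc_d_rc_27_1 lc_d_rc_30_2 lc_d_rc_33_2 lc_d_Cert_tree lc_d_rc_27_0 lc_d_rc_33_2 lc_d_rc_29_2 lc_d_rc_29_2 lc_d_rc_30_2 lc_d_rc_32_2 lc_d_Cert_tree lc_d_rc_27_0 lc_d_rc_33_2 lc_d_rc_33_2 lc_d_Cert_tree lc_d_Cert_tree lc_d_rc_27_0 lc_d_rc_33_2) (@D3.rec (fun _ => (Cert rels S Gen.d)) lc_d_rc_20_3 lc_d_rc_28_2 lc_d_rc_33_2 lc_d_rc_27_0 lc_d_rc_33_2 lc_d_rc_28_2 lc_d_rc_33_2 lc_d_rc_28_2 lc_d_rc_3_1 lc_d_Cert_tree lc_d_rc_27_0 lc_d_rc_33_2 lc_d_rc_27_0 lc_d_rc_33_2 lc_d_rc_20_3 lc_d_rc_33_2 lc_d_rc_12_1 lc_d_rc_20_3 lc_d_rc_20_5 lc_d_rc_28_2 lc_d_rc_30_2 lc_d_Cert_tree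 lc_d_Cert_tree lc_d_rc_27_0 lc_d_rc_33_2 lc_d_rc_29_2 lc_d_rc_28_2 lc_d_rc_33_2 lc_d_rc_31_2 lc_d_Cert_tree lc_d_rc_27_0 lc_d_rc_33_2 lc_d_rc_27_0 lc_d_rc_33_2 lc_d_rc_20_3 lc_d_rc_28_2 lc_d_rc_33_2 lc_d_rc_12_1 lc_d_rc_20_3 lc_d_rc_20_3 lc_d_rc_30_2 lc_d_rc_28_2 lc_d_rc_29_2 lc_d_rc_28_2 lc_d_rc_33_2 lc_d_rc_30_2 lc_d_rc_28_2 lc_d_rc_31_2 lc_d_rc_30_2 lc_d_rc_32_2 lc_d_rc_31_2) (@D3.rec (fun _ => (Cert rels S Gen.d)) lc_d_Cert_tree lc_d_rc_27_0 lc_d_rc_33_2 lc_d_rc_20_3 lc_d_rc_28_2 lc_d_rc_33_2 lc_d_rc_20_3 lc_d_rc_33_2 lc_d_rc_12_1 lc_d_rc_20_3 lc_d_rc_29_2 lc_d_rc_3_1 lc_d_rc_12_1 lc_d_Cert_tree lc_d_rc_27_0 lc_d_rc_33_2 lc_d_rc_20_3 lc_d_rc_32_2 lc_d_rc_33_2 lc_d_rc_12_1 lc_d_Cert_tree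 lc_d_rc_20_3 lc_d_rc_28_2 lc_d_rc_29_2 lc_d_rc_12_1 lc_d_rc_20_3 lc_d_rc_29_2 lc_d_rc_3_1 lc_d_rc_12_1 lc_d_Cert_tree lc_d_rc_3_1 lc_d_Cert_tree lc_d_rc_27_0 lc_d_rc_31_2 lc_d_rc_27_0 lc_d_rc_28_2 lc_d_Cert_tree lc_d_rc_29_2 lc_d_rc_30_2 lc_d_rc_30_2 lc_d_rc_28_2 lc_d_rc_30_0 lc_d_rc_27_0 lc_d_rc_33_2 lc_d_rc_3_1 lc_d_rc_3_1 lc_d_Cert_tree lc_d_rc_30_2 lc_d_Cert_tree lc_d_rc_27_0 lc_d_rc_33_2) (@D3.rec (fun _ => (Cert rels S Gen.d)) lc_d_rc_29_2 lc_d_rc_27_0 lc_d_rc_33_2 lc_d_rc_28_2 lc_d_rc_33_2 lc_d_rc_3_3 lc_d_rc_20_3 lc_d_rc_33_2 lc_d_rc_12_1 lc_d_rc_29_2 lc_d_Cert_tree lc_d_rc_33_0 lc_d_rc_32_2 lc_d_Cert_tree lc_d_rc_27_0 lc_d_rc_33_2 lc_d_rc_31_2 lc_d_rc_31_2 lc_d_rc_30_2 lc_d_Cert_tree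 lc_d_rc_32_2 lc_d_rc_27_0 lc_d_rc_33_2 lc_d_rc_20_3 lc_d_rc_33_2 lc_d_rc_3_1 lc_d_rc_30_2 lc_d_rc_27_0 lc_d_rc_33_2 lc_d_rc_12_1 lc_d_Cert_tree lc_d_rc_56_31 lc_d_rc_27_0 lc_d_rc_33_2 lc_d_rc_20_3 lc_d_rc_28_2 lc_d_rc_33_2 lc_d_rc_3_3 lc_d_rc_33_2 lc_d_rc_30_2 lc_d_rc_28_2 lc_d_rc_31_2 lc_d_rc_30_2 lc_d_rc_12_1 lc_d_Cert_tree lc_d_rc_27_0 lc_d_rc_33_2 lc_d_rc_27_0 lc_d_rc_33_2 lc_d_rc_20_3 lc_d_rc_33_2) (@D3.rec (fun _ => (Cert rels S Gen.d)) lc_d_rc_12_1 lc_d_rc_20_3 lc_d_rc_29_2 lc_d_rc_31_2 lc_d_rc_27_0 lc_d_rc_28_2 lc_d_rc_33_2 lc_d_rc_12_3 lc_d_rc_33_2 lc_d_rc_3_3 lc_d_rc_12_3 lc_d_rc_29_2 lc_d_rc_3_1 lc_d_rc_12_1 lc_d_rc_29_2 lc_d_rc_33_2 lc_d_rc_31_2 lc_d_Cert_tree lc_d_rc_30_2 lc_d_rc_31_2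 lc_d_Cert_tree lc_d_rc_27_0 lc_d_rc_33_2 lc_d_rc_31_0 lc_d_rc_30_2 lc_d_rc_28_2 lc_d_Cert_tree lc_d_rc_31_2 lc_d_rc_27_0 lc_d_rc_33_2 lc_d_rc_20_3 lc_d_rc_33_2 lc_d_rc_3_1 lc_d_rc_30_2 lc_d_Cert_tree lc_d_rc_27_0 lc_d_rc_33_2 lc_d_rc_30_2 lc_d_Cert_tree lc_d_Cert_tree lc_d_rc_27_0 lc_d_rc_33_2 lc_d_rc_20_3 lc_d_rc_28_2 lc_d_rc_33_2 lc_d_rc_27_0 lc_d_rc_33_2 lc_d_rc_28_2 lc_d_rc_33_2 lc_d_rc_28_2 lc_d_rc_12_1)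
def ce_d_8 : D2 → D3 → (Cert rels S Gen.d) := @D2.rec (fun _ => D3 → (Cert rels S Gen.d)) (@D3.rec (fun _ => (Cert rels S Gen.d)) lc_d_rc_31_0 lc_d_rc_27_0 lc_d_rc_33_2 lc_d_rc_31_2 lc_d_rc_20_3 lc_d_rc_33_2 lc_d_rc_12_1 lc_d_rc_20_3 lc_d_rc_29_2 lc_d_rc_31_0 lc_d_rc_28_2 lc_d_rc_33_2 lc_d_rc_29_2 lc_d_rc_30_0 lc_d_rc_33_2 lc_d_Cert_tree lc_d_rc_29_2 lc_d_rc_30_2 lc_d_rc_30_2 lc_d_Cert_tree lc_d_rc_27_0 lc_d_rc_33_2 lc_d_rc_28_4 lc_d_Cert_tree lc_d_Cert_tree lc_d_rc_27_0 lc_d_rc_33_2 lc_d_rc_20_3 lc_d_rc_33_2 lc_d_rc_30_2 lc_d_rc_28_2 lc_d_Cert_tree lc_d_rc_27_0 lc_d_rc_33_2 lc_d_rc_27_0 lc_d_rc_33_2 lc_d_rc_20_3 lc_d_rc_33_2 lc_d_rc_12_1 lc_d_rc_20_3 lc_d_rc_3_1 lc_d_rc_28_2 lc_d_rc_30_2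 lc_d_Cert_tree lc_d_rc_27_0 lc_d_rc_33_2 lc_d_rc_29_2 lc_d_rc_28_2 lc_d_rc_33_2 lc_d_rc_31_2 lc_d_Cert_tree) (@D3.rec (fun _ => (Cert rels S Gen.d)) lc_d_rc_27_0 lc_d_rc_33_2 lc_d_rc_27_0 lc_d_rc_33_2 lc_d_rc_20_3 lc_d_rc_28_2 lc_d_rc_33_2 lc_d_rc_12_1 lc_d_rc_20_3 lc_d_rc_20_3 lc_d_rc_30_2 lc_d_rc_28_2 lc_d_rc_29_2 lc_d_rc_33_2 lc_d_rc_30_2 lc_d_rc_28_2 lc_d_rc_31_2 lc_d_rc_30_2 lc_d_rc_32_2 lc_d_rc_31_2 lc_d_Cert_tree lc_d_rc_27_0 lc_d_rc_33_2 lc_d_rc_20_3 lc_d_rc_28_2 lc_d_rc_33_2 lc_d_rc_20_3 lc_d_rc_33_2 lc_d_rc_12_1 lc_d_rc_20_3 lc_d_rc_29_2 lc_d_rc_3_1 lc_d_rc_12_1 lc_d_Cert_tree lc_d_rc_27_0 lc_d_rc_33_2 lc_d_rc_30_2 lc_d_rc_28_2 lc_d_rc_33_2 lc_d_rc_12_1 lc_d_Cert_tree lc_d_rc_20_3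 lc_d_rc_28_2 lc_d_rc_29_2 lc_d_rc_12_1 lc_d_rc_20_3 lc_d_rc_32_2 lc_d_rc_3_1 lc_d_rc_12_1 lc_d_Cert_tree lc_d_rc_3_1) (@D3.rec (fun _ => (Cert rels S Gen.d)) lc_d_Cert_tree lc_d_rc_27_0 lc_d_rc_31_2 lc_d_rc_28_2 lc_d_rc_29_0 lc_d_Cert_tree lc_d_Cert_tree lc_d_rc_27_0 lc_d_rc_33_2 lc_d_rc_33_2 lc_d_rc_29_2 lc_d_rc_3_1 lc_d_rc_33_0 lc_d_rc_30_2 lc_d_rc_32_2 lc_d_rc_33_2 lc_d_rc_30_2 lc_d_Cert_tree lc_d_Cert_tree lc_d_rc_27_0 lc_d_rc_33_2 lc_d_rc_27_0 lc_d_rc_33_2 lc_d_rc_31_2 lc_d_Cert_tree lc_d_rc_27_0 lc_d_rc_33_2 lc_d_rc_27_0 lc_d_rc_33_2 lc_d_rc_20_3 lc_d_rc_28_2 lc_d_rc_33_2 lc_d_rc_12_1 lc_d_rc_20_3 lc_d_rc_20_3 lc_d_rc_28_2 lc_d_rc_29_2 lc_d_rc_28_2 lc_d_rc_33_2 lc_d_rc_30_2 lc_d_rc_28_2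 lc_d_Cert_tree lc_d_rc_27_0 lc_d_rc_33_2 lc_d_rc_20_3 lc_d_rc_28_2 lc_d_rc_33_2 lc_d_rc_20_3 lc_d_rc_33_2 lc_d_rc_12_1 lc_d_rc_20_3) (@D3.rec (fun _ => (Cert rels S Gen.d)) lc_d_rc_30_2 lc_d_rc_12_1 lc_d_rc_27_0 lc_d_rc_33_2 lc_d_rc_28_2 lc_d_rc_31_0 lc_d_rc_33_2 lc_d_rc_12_1 lc_d_rc_30_2 lc_d_rc_20_3 lc_d_rc_28_2 lc_d_rc_29_2 lc_d_rc_12_1 lc_d_rc_20_3 lc_d_rc_29_2 lc_d_rc_3_1 lc_d_rc_12_1 lc_d_Cert_tree lc_d_rc_3_1 lc_d_Cert_tree lc_d_rc_27_0 lc_d_rc_30_2 lc_d_rc_32_2 lc_d_rc_29_2 lc_d_rc_30_2 lc_d_rc_30_2 lc_d_rc_3_1 lc_d_rc_30_2 lc_d_Cert_tree lc_d_Cert_tree lc_d_rc_27_0 lc_d_rc_33_2 lc_d_rc_33_2 lc_d_rc_31_2 lc_d_Cert_tree lc_d_rc_27_0 lc_d_rc_33_2 lc_d_rc_27_0 lc_d_rc_33_2 lc_d_rc_20_3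 lc_d_rc_33_2 lc_d_rc_12_1 lc_d_rc_20_3 lc_d_rc_3_1 lc_d_Cert_tree lc_d_rc_27_0 lc_d_rc_33_2 lc_d_rc_20_3 lc_d_rc_28_2 lc_d_rc_33_2 lc_d_rc_20_3) (@D3.rec (fun _ => (Cert rels S Gen.d)) lc_d_rc_33_2 lc_d_rc_12_1 lc_d_rc_20_3 lc_d_rc_3_1 lc_d_rc_12_1 lc_d_rc_32_2 lc_d_Cert_tree lc_d_rc_31_2 lc_d_Cert_tree lc_d_rc_27_0 lc_d_rc_33_2 lc_d_rc_27_0 lc_d_rc_33_2 lc_d_rc_29_2 lc_d_rc_28_2 lc_d_rc_33_2 lc_d_rc_12_1 lc_d_rc_28_2 lc_d_rc_33_2 lc_d_rc_29_2 lc_d_rc_28_2 lc_d_rc_33_2 lc_d_Cert_tree lc_d_rc_27_0 lc_d_rc_33_2 lc_d_rc_20_3 lc_d_rc_28_2 lc_d_rc_33_2 lc_d_rc_20_3 lc_d_rc_28_2 lc_d_rc_33_2 lc_d_rc_12_1 lc_d_rc_20_3 lc_d_rc_20_3 lc_d_rc_30_2 lc_d_rc_28_2 lc_d_rc_29_2 lc_d_rc_3_1 lc_d_rc_12_1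 lc_d_rc_12_1 lc_d_rc_20_3 lc_d_rc_20_3 lc_d_Cert_tree lc_d_rc_31_2 lc_d_rc_30_2 lc_d_rc_27_1 lc_d_rc_30_2 lc_d_rc_28_2 lc_d_rc_31_2 lc_d_rc_30_2 lc_d_rc_32_2) (@D3.rec (fun _ => (Cert rels S Gen.d)) lc_d_rc_31_2 lc_d_rc_32_2 lc_d_rc_27_0 lc_d_rc_33_2 lc_d_rc_20_3 lc_d_rc_28_2 lc_d_rc_33_2 lc_d_rc_12_1 lc_d_Cert_tree lc_d_rc_20_3 lc_d_rc_28_2 lc_d_rc_20_5 lc_d_rc_12_1 lc_d_rc_20_3 lc_d_rc_20_5 lc_d_rc_3_1 lc_d_rc_12_1 lc_d_Cert_tree lc_d_rc_3_1 lc_d_Cert_tree lc_d_rc_27_0 lc_d_rc_33_2 lc_d_rc_12_1 lc_d_rc_20_3 lc_d_rc_28_2 lc_d_rc_29_2 lc_d_rc_3_1 lc_d_rc_20_5 lc_d_rc_12_1 lc_d_rc_27_0 lc_d_rc_3_1 lc_d_rc_12_1 lc_d_rc_3_1 lc_d_Cert_tree lc_d_rc_27_0 lc_d_rc_20_1 lc_d_rc_27_0 lc_d_rc_31_0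 lc_d_rc_28_2 lc_d_Cert_tree lc_d_rc_31_2 lc_d_rc_33_0 lc_d_rc_30_2 lc_d_rc_32_2 lc_d_rc_27_0 lc_d_rc_29_0 lc_d_rc_28_2 lc_d_rc_29_0 lc_d_rc_31_2 lc_d_rc_29_0 lc_d_rc_31_2) (@D3.rec (fun _ => (Cert rels S Gen.d)) lc_d_rc_20_3 lc_d_rc_28_2 lc_d_rc_33_2 lc_d_rc_12_1 lc_d_rc_3_1 lc_d_rc_29_0 lc_d_rc_12_1 lc_d_rc_12_3 lc_d_rc_33_0 lc_d_rc_3_1 lc_d_rc_12_1 lc_d_rc_3_1 lc_d_rc_3_1 lc_d_Cert_tree lc_d_rc_27_0 lc_d_rc_12_3 lc_d_rc_27_0 lc_d_rc_28_2 lc_d_Cert_tree lc_d_rc_20_5 lc_d_rc_3_3 lc_d_rc_3_3 lc_d_rc_27_0 lc_d_rc_30_2 lc_d_rc_28_2 lc_d_rc_30_2 lc_d_Cert_tree lc_d_rc_29_0 lc_d_rc_29_0 lc_d_Cert_tree lc_d_rc_27_0 lc_d_rc_33_2 lc_d_Cert_tree lc_d_rc_27_0 lc_d_rc_33_2 lc_d_rc_29_2 lc_d_rc_28_2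 lc_d_rc_33_2 lc_d_rc_29_2 lc_d_rc_33_2 lc_d_rc_12_1 lc_d_rc_33_2 lc_d_rc_3_1 lc_d_rc_12_1 lc_d_rc_27_0 lc_d_rc_20_3 lc_d_rc_28_2 lc_d_rc_12_1 lc_d_Cert_tree lc_d_rc_12_1 lc_d_rc_3_1) (@D3.rec (fun _ => (Cert rels S Gen.d)) lc_d_rc_20_3 lc_d_rc_12_1 lc_d_rc_32_2 lc_d_rc_32_2 lc_d_rc_3_1 lc_d_rc_27_0 lc_d_Cert_tree lc_d_rc_3_1 lc_d_Cert_tree lc_d_rc_29_0 lc_d_Cert_tree lc_d_rc_27_0 lc_d_rc_33_0 lc_d_rc_27_0 lc_d_rc_28_2 lc_d_rc_20_1 lc_d_rc_27_0 lc_d_rc_33_2 lc_d_rc_33_2 lc_d_rc_3_1 lc_d_rc_12_1 lc_d_rc_20_3 lc_d_rc_20_3 lc_d_rc_30_2 lc_d_rc_28_2 lc_d_rc_29_2 lc_d_rc_33_2 lc_d_rc_33_2 lc_d_rc_12_3 lc_d_rc_30_2 lc_d_rc_32_2 lc_d_rc_28_2 lc_d_rc_33_2 lc_d_rc_33_2 lc_d_rc_3_1 lc_d_rc_33_2 lc_d_rc_29_2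 lc_d_rc_31_2 lc_d_rc_12_1 lc_d_Cert_tree lc_d_rc_20_3 lc_d_rc_28_2 lc_d_rc_33_2 lc_d_rc_12_1 lc_d_rc_20_3 lc_d_rc_20_3 lc_d_rc_28_2 lc_d_rc_29_2 lc_d_rc_12_1 lc_d_rc_20_3 lc_d_rc_29_2) (@D3.rec (fun _ => (Cert rels S Gen.d)) lc_d_rc_3_1 lc_d_rc_12_1 lc_d_Cert_tree lc_d_rc_3_1 lc_d_Cert_tree lc_d_rc_27_0 lc_d_rc_20_3 lc_d_rc_3_1 lc_d_rc_28_2 lc_d_rc_33_2 lc_d_rc_33_2 lc_d_rc_33_2 lc_d_rc_3_1 lc_d_rc_32_0 lc_d_rc_33_2 lc_d_Cert_tree lc_d_rc_12_1 lc_d_Cert_tree lc_d_rc_33_2 lc_d_rc_29_2 lc_d_rc_28_2 lc_d_rc_12_1 lc_d_rc_20_3 lc_d_rc_20_3 lc_d_rc_30_2 lc_d_rc_28_2 lc_d_rc_29_2 lc_d_rc_3_1 lc_d_rc_12_1 lc_d_rc_12_1 lc_d_rc_20_3 lc_d_rc_20_3 lc_d_Cert_tree lc_d_rc_31_2 lc_d_rc_30_2 lc_d_rc_29_2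 lc_d_rc_28_4 lc_d_rc_28_2 lc_d_rc_31_2 lc_d_rc_30_2 lc_d_rc_32_2 lc_d_rc_31_2 lc_d_rc_33_2 lc_d_rc_28_0 lc_d_Cert_tree lc_d_rc_28_0 lc_d_rc_28_2 lc_d_rc_29_2 lc_d_rc_3_1 lc_d_rc_20_3 lc_d_rc_29_2) (@D3.rec (fun _ => (Cert rels S Gen.d)) lc_d_rc_31_2 lc_d_rc_12_1 lc_d_Cert_tree lc_d_rc_3_1 lc_d_Cert_tree lc_d_rc_27_0 lc_d_rc_12_1 lc_d_rc_20_3 lc_d_rc_29_2 lc_d_rc_3_1 lc_d_rc_20_5 lc_d_rc_12_1 lc_d_rc_3_3 lc_d_Cert_tree lc_d_rc_30_0 lc_d_rc_3_1 lc_d_rc_12_1 lc_d_Cert_tree lc_d_rc_3_1 lc_d_Cert_tree lc_d_rc_27_0 lc_d_Cert_tree lc_d_rc_27_0 lc_d_rc_28_2 lc_d_rc_20_3 lc_d_rc_33_2 lc_d_rc_20_3 lc_d_rc_33_2 lc_d_rc_12_1 lc_d_rc_20_3 lc_d_rc_3_1 lc_d_rc_3_1 lc_d_rc_12_1 lc_d_Cert_tree lc_d_rc_20_3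 lc_d_rc_33_2 lc_d_rc_12_1 lc_d_Cert_tree lc_d_rc_20_3 lc_d_rc_28_2 lc_d_rc_3_1 lc_d_rc_12_1 lc_d_rc_20_3 lc_d_rc_3_1 lc_d_rc_3_1 lc_d_rc_12_1 lc_d_Cert_tree lc_d_rc_3_1 lc_d_Cert_tree lc_d_rc_27_0 lc_d_rc_20_3) (@D3.rec (fun _ => (Cert rels S Gen.d)) lc_d_rc_33_2 lc_d_rc_12_1 lc_d_Cert_tree lc_d_rc_20_3 lc_d_rc_20_5 lc_d_rc_20_5 lc_d_rc_29_2 lc_d_rc_12_1 lc_d_rc_20_3 lc_d_rc_20_3 lc_d_rc_30_2 lc_d_rc_28_2 lc_d_rc_29_2 lc_d_rc_3_1 lc_d_rc_12_1 lc_d_rc_12_1 lc_d_rc_20_3 lc_d_rc_20_3 lc_d_Cert_tree lc_d_rc_31_2 lc_d_rc_30_2 lc_d_rc_20_5 lc_d_rc_3_1 lc_d_rc_3_1 lc_d_rc_12_1 lc_d_rc_12_1 lc_d_Cert_tree lc_d_rc_20_3 lc_d_rc_20_3 lc_d_Cert_tree lc_d_rc_27_0 lc_d_rc_32_2 lc_d_rc_31_2 lc_d_rc_20_5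 lc_d_rc_31_2 lc_d_rc_30_2 lc_d_rc_32_2 lc_d_rc_31_2 lc_d_rc_32_2 lc_d_rc_20_3 lc_d_rc_3_1 lc_d_rc_12_1 lc_d_rc_27_0 lc_d_rc_33_2 lc_d_rc_30_2 lc_d_rc_3_1 lc_d_rc_3_1 lc_d_rc_27_0 lc_d_rc_28_0 lc_d_rc_27_0 lc_d_rc_28_2) (@D3.rec (fun _ => (Cert rels S Gen.d)) lc_d_rc_12_1 lc_d_rc_3_1 lc_d_rc_29_0 lc_d_rc_12_1 lc_d_rc_27_0 lc_d_Cert_tree lc_d_rc_27_0 lc_d_rc_28_0 lc_d_rc_27_0 lc_d_rc_3_1 lc_d_rc_29_2 lc_d_rc_28_2 lc_d_rc_12_1 lc_d_rc_31_2 lc_d_rc_33_2 lc_d_rc_33_2 lc_d_rc_30_0 lc_d_rc_32_2 lc_d_rc_30_2 lc_d_rc_29_2 lc_d_rc_33_2 lc_d_rc_29_2 lc_d_rc_33_2 lc_d_rc_27_0 lc_d_rc_33_2 lc_d_rc_33_2 lc_d_rc_3_3 lc_d_rc_20_1 lc_d_rc_20_1 lc_d_rc_28_2 lc_d_rc_33_2 lc_d_rc_33_2 lc_d_rc_28_2 lc_d_rc_28_2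 lc_d_rc_32_2 lc_d_rc_33_2 lc_d_rc_33_2 lc_d_rc_3_3 lc_d_rc_33_2 lc_d_rc_33_2 lc_d_rc_33_2 lc_d_rc_33_2 lc_d_rc_29_2 lc_d_rc_28_2 lc_d_rc_31_2 lc_d_rc_29_0 lc_d_rc_32_2 lc_d_rc_28_0 lc_d_rc_3_1 lc_d_rc_33_2 lc_d_Cert_tree) (@D3.rec (fun _ => (Cert rels S Gen.d)) lc_d_rc_3_3 lc_d_rc_33_2 lc_d_rc_29_2 lc_d_rc_33_2 lc_d_rc_33_2 lc_d_Cert_tree lc_d_rc_33_2 lc_d_rc_33_2 lc_d_rc_27_0 lc_d_rc_33_2 lc_d_rc_29_2 lc_d_rc_28_2 lc_d_rc_29_2 lc_d_rc_30_2 lc_d_rc_31_2 lc_d_rc_32_2 lc_d_rc_31_2 lc_d_rc_32_2 lc_d_Cert_tree lc_d_rc_30_2 lc_d_rc_28_2 lc_d_rc_56_31 lc_d_rc_27_0 lc_d_rc_33_2 lc_d_rc_28_0 lc_d_rc_33_2 lc_d_rc_33_2 lc_d_rc_33_2 lc_d_rc_55_69 lc_d_rc_33_2 lc_d_rc_12_1 lc_d_rc_12_1 lc_d_rc_27_0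 lc_d_rc_33_2 lc_d_rc_3_1 lc_d_rc_27_0 lc_d_rc_33_2 lc_d_rc_20_3 lc_d_rc_33_2 lc_d_rc_3_1 lc_d_rc_33_2 lc_d_rc_31_2 lc_d_rc_29_2 lc_d_rc_33_2 lc_d_rc_27_0 lc_d_rc_29_2 lc_d_rc_31_2 lc_d_rc_29_2 lc_d_rc_30_2 lc_d_rc_32_2 lc_d_rc_20_3) (@D3.rec (fun _ => (Cert rels S Gen.d)) lc_d_rc_33_2 lc_d_rc_28_2 lc_d_rc_33_2 lc_d_rc_32_0 lc_d_rc_33_2 lc_d_rc_20_3 lc_d_rc_20_3 lc_d_rc_29_2 lc_d_rc_33_2 lc_d_rc_20_3 lc_d_rc_12_1 lc_d_rc_33_2 lc_d_rc_33_2 lc_d_rc_30_2 lc_d_rc_28_2 lc_d_rc_3_1 lc_d_rc_33_2 lc_d_rc_20_5 lc_d_rc_33_2 lc_d_rc_20_5 lc_d_rc_20_5 lc_d_rc_29_2 lc_d_rc_20_3 lc_d_rc_20_3 lc_d_Cert_tree lc_d_rc_20_3 lc_d_rc_33_2 lc_d_rc_28_4 lc_d_rc_28_4 lc_d_rc_29_2 lc_d_rc_30_2 lc_d_rc_33_2 lc_d_rc_28_2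 lc_d_rc_33_2 lc_d_rc_12_1 lc_d_rc_28_2 lc_d_rc_29_2 lc_d_rc_3_1 lc_d_rc_12_1 lc_d_Cert_tree lc_d_rc_30_2 lc_d_rc_12_1 lc_d_rc_32_2 lc_d_rc_31_2 lc_d_rc_27_0 lc_d_rc_31_2 lc_d_rc_12_1 lc_d_rc_12_1 lc_d_Cert_tree lc_d_rc_27_0 lc_d_rc_30_2) (@D3.rec (fun _ => (Cert rels S Gen.d)) lc_d_rc_29_4 lc_d_rc_27_0 lc_d_rc_33_2 lc_d_rc_3_1 lc_d_rc_31_2 lc_d_rc_29_4 lc_d_rc_32_2 lc_d_rc_12_1 lc_d_rc_30_2 lc_d_rc_27_0 lc_d_rc_31_2 lc_d_Cert_tree lc_d_rc_20_3 lc_d_Cert_tree lc_d_rc_27_0 lc_d_rc_33_2 lc_d_rc_33_2 lc_d_rc_33_2 lc_d_rc_33_2 lc_d_rc_55_45 lc_d_rc_27_0 lc_d_rc_33_2 lc_d_rc_12_1 lc_d_rc_12_1 lc_d_rc_55_54 lc_d_rc_20_1 lc_d_rc_33_2 lc_d_rc_33_2 lc_d_rc_3_3 lc_d_rc_12_1 lc_d_rc_3_3 lc_d_rc_27_0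 lc_d_rc_33_2 lc_d_rc_27_0 lc_d_rc_55_57 lc_d_Cert_tree lc_d_rc_33_2 lc_d_rc_33_0 lc_d_rc_33_2 lc_d_rc_3_1 lc_d_rc_33_2 lc_d_rc_31_2 lc_d_Cert_tree lc_d_rc_55_72 lc_d_rc_32_2 lc_d_Cert_tree lc_d_rc_27_0 lc_d_rc_33_2 lc_d_rc_33_2 lc_d_rc_28_2 lc_d_rc_33_2) (@D3.rec (fun _ => (Cert rels S Gen.d)) lc_d_rc_30_2 lc_d_rc_28_2 lc_d_rc_29_2 lc_d_rc_33_2 lc_d_rc_20_3 lc_d_rc_33_2 lc_d_rc_31_2 lc_d_Cert_tree lc_d_rc_30_2 lc_d_rc_32_2 lc_d_Cert_tree lc_d_rc_27_0 lc_d_rc_33_2 lc_d_Cert_tree lc_d_rc_27_0 lc_d_rc_33_2 lc_d_rc_28_2 lc_d_rc_33_2 lc_d_rc_29_2 lc_d_rc_12_1 lc_d_Cert_tree lc_d_Cert_tree lc_d_rc_27_0 lc_d_rc_33_2 lc_d_rc_20_3 lc_d_rc_33_2 lc_d_rc_12_1 lc_d_rc_29_2 lc_d_rc_29_4 lc_d_rc_27_0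 lc_d_rc_33_2 lc_d_rc_27_0 lc_d_rc_29_2 lc_d_rc_20_3 lc_d_rc_33_2 lc_d_rc_12_1 lc_d_rc_20_3 lc_d_rc_29_2 lc_d_rc_27_0 lc_d_rc_31_2 lc_d_Cert_tree lc_d_rc_12_1 lc_d_rc_3_3 lc_d_rc_27_0 lc_d_rc_33_2 lc_d_rc_20_3 lc_d_rc_33_2 lc_d_rc_31_2 lc_d_rc_30_2 lc_d_rc_32_2 lc_d_Cert_tree) (@D3.rec (fun _ => (Cert rels S Gen.d)) lc_d_rc_27_0 lc_d_rc_33_2 lc_d_rc_20_3 lc_d_rc_28_2 lc_d_rc_33_2 lc_d_rc_3_1 lc_d_rc_31_2 lc_d_rc_29_2 lc_d_rc_29_2 lc_d_rc_28_4 lc_d_rc_28_2 lc_d_rc_33_2 lc_d_rc_30_2 lc_d_rc_32_2 lc_d_Cert_tree lc_d_rc_27_0 lc_d_rc_33_2 lc_d_rc_30_2 lc_d_Cert_tree lc_d_Cert_tree lc_d_rc_27_0 lc_d_rc_33_2 lc_d_rc_20_3 lc_d_rc_28_2 lc_d_rc_33_2 lc_d_rc_33_2 lc_d_rc_28_2 lc_d_rc_33_2 lc_d_rc_30_2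 lc_d_rc_28_2 lc_d_rc_29_2 lc_d_rc_31_2 lc_d_rc_30_2 lc_d_rc_29_2 lc_d_rc_29_2 lc_d_rc_3_1 lc_d_rc_27_0 lc_d_rc_33_2 lc_d_rc_33_2 lc_d_rc_20_3 lc_d_rc_33_2 lc_d_rc_12_1 lc_d_rc_20_3 lc_d_rc_29_2 lc_d_rc_30_2 lc_d_rc_33_2 lc_d_rc_3_1 lc_d_rc_12_1 lc_d_rc_30_2 lc_d_rc_32_2 lc_d_Cert_tree) (@D3.rec (fun _ => (Cert rels S Gen.d)) lc_d_rc_27_0 lc_d_rc_33_2 lc_d_rc_30_2 lc_d_Cert_tree lc_d_Cert_tree lc_d_rc_27_0 lc_d_rc_33_2 lc_d_rc_20_3 lc_d_rc_28_2 lc_d_rc_33_2 lc_d_rc_27_0 lc_d_rc_33_2 lc_d_rc_28_2 lc_d_rc_33_2 lc_d_rc_28_2 lc_d_rc_29_2 lc_d_rc_12_1 lc_d_Cert_tree lc_d_rc_27_0 lc_d_rc_33_2 lc_d_rc_27_0 lc_d_rc_33_2 lc_d_rc_20_3 lc_d_rc_33_2 lc_d_rc_12_1 lc_d_rc_20_3 lc_d_rc_29_2 lc_d_rc_32_2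 lc_d_rc_27_0 lc_d_rc_33_2 lc_d_rc_20_3 lc_d_rc_56_38 lc_d_rc_33_2 lc_d_rc_20_3 lc_d_rc_33_2 lc_d_rc_12_1 lc_d_rc_20_3 lc_d_rc_29_2 lc_d_rc_3_1 lc_d_rc_12_1 lc_d_Cert_tree lc_d_rc_31_2 lc_d_Cert_tree lc_d_rc_30_2 lc_d_rc_32_2 lc_d_Cert_tree lc_d_rc_27_0 lc_d_rc_33_2 lc_d_rc_28_0 lc_d_rc_27_0 lc_d_rc_33_2) (@D3.rec (fun _ => (Cert rels S Gen.d)) lc_d_rc_20_3 lc_d_rc_28_2 lc_d_rc_33_2 lc_d_rc_20_3 lc_d_rc_29_2 lc_d_rc_30_2 lc_d_rc_32_2 lc_d_Cert_tree lc_d_rc_27_0 lc_d_rc_33_2 lc_d_rc_30_2 lc_d_Cert_tree lc_d_Cert_tree lc_d_rc_27_0 lc_d_rc_33_2 lc_d_rc_20_3 lc_d_rc_28_2 lc_d_rc_33_2 lc_d_rc_28_0 lc_d_rc_28_2 lc_d_rc_33_2 lc_d_rc_30_2 lc_d_rc_28_2 lc_d_rc_29_2 lc_d_rc_33_0 lc_d_rc_30_2 lc_d_rc_20_5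 lc_d_rc_3_1 lc_d_rc_20_5 lc_d_rc_27_0 lc_d_rc_33_2 lc_d_rc_20_5 lc_d_rc_20_3 lc_d_rc_33_2 lc_d_rc_20_3 lc_d_rc_20_5 lc_d_rc_31_2 lc_d_rc_30_2 lc_d_Cert_tree lc_d_Cert_tree lc_d_rc_27_0 lc_d_rc_33_2 lc_d_rc_29_2 lc_d_rc_28_2 lc_d_rc_33_2 lc_d_rc_31_2 lc_d_Cert_tree lc_d_rc_27_0 lc_d_rc_33_2 lc_d_rc_27_0 lc_d_rc_33_2) (@D3.rec (fun _ => (Cert rels S Gen.d)) lc_d_rc_20_3 lc_d_rc_28_2 lc_d_rc_33_2 lc_d_rc_12_1 lc_d_rc_33_0 lc_d_rc_20_3 lc_d_rc_30_2 lc_d_rc_28_2 lc_d_rc_29_2 lc_d_rc_28_2 lc_d_rc_33_2 lc_d_rc_30_2 lc_d_rc_28_2 lc_d_rc_29_2 lc_d_rc_31_2 lc_d_rc_30_2 lc_d_Cert_tree lc_d_rc_32_2 lc_d_rc_31_2 lc_d_rc_28_0 lc_d_rc_20_5 lc_d_rc_27_0 lc_d_rc_33_2 lc_d_rc_20_3 lc_d_rc_28_2 lc_d_rc_33_2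 lc_d_rc_20_3 lc_d_rc_33_2 lc_d_rc_12_1 lc_d_rc_20_3 lc_d_rc_29_2 lc_d_rc_3_1 lc_d_rc_12_1 lc_d_Cert_tree lc_d_rc_12_3 lc_d_rc_20_3 lc_d_rc_33_2 lc_d_rc_12_1 lc_d_rc_28_4 lc_d_rc_20_3 lc_d_rc_28_2 lc_d_rc_29_2 lc_d_rc_12_1 lc_d_rc_20_3 lc_d_rc_29_2 lc_d_rc_3_1 lc_d_rc_12_1 lc_d_Cert_tree lc_d_rc_3_1 lc_d_Cert_tree lc_d_rc_27_0) (@D3.rec (fun _ => (Cert rels S Gen.d)) lc_d_rc_12_3 lc_d_Cert_tree lc_d_rc_27_0 lc_d_rc_33_2 lc_d_Cert_tree lc_d_rc_3_1 lc_d_rc_3_1 lc_d_rc_27_0 lc_d_rc_33_2 lc_d_rc_28_2 lc_d_rc_33_2 lc_d_rc_27_0 lc_d_rc_33_2 lc_d_rc_12_1 lc_d_rc_12_1 lc_d_Cert_tree lc_d_rc_27_0 lc_d_rc_33_2 lc_d_rc_20_3 lc_d_rc_33_2 lc_d_rc_33_2 lc_d_rc_33_2 lc_d_rc_12_1 lc_d_rc_3_1 lc_d_rc_32_2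 lc_d_rc_27_0 lc_d_rc_31_2 lc_d_Cert_tree lc_d_rc_20_3 lc_d_rc_32_0 lc_d_rc_27_0 lc_d_rc_33_2 lc_d_rc_33_2 lc_d_rc_30_2 lc_d_rc_28_2 lc_d_rc_32_0 lc_d_rc_27_0 lc_d_rc_33_2 lc_d_rc_27_0 lc_d_rc_3_1 lc_d_rc_31_2 lc_d_Cert_tree lc_d_rc_3_3 lc_d_rc_32_2 lc_d_Cert_tree lc_d_rc_27_0 lc_d_rc_33_2 lc_d_Cert_tree lc_d_rc_27_0 lc_d_rc_33_2 lc_d_rc_28_2) (@D3.rec (fun _ => (Cert rels S Gen.d)) lc_d_rc_33_2 lc_d_rc_30_2 lc_d_rc_28_2 lc_d_rc_29_2 lc_d_rc_12_1 lc_d_rc_3_3 lc_d_Cert_tree lc_d_rc_27_0 lc_d_rc_33_2 lc_d_rc_20_3 lc_d_rc_33_2 lc_d_rc_12_1 lc_d_rc_31_2 lc_d_rc_12_3 lc_d_rc_12_3 lc_d_rc_27_0 lc_d_rc_33_2 lc_d_rc_33_2 lc_d_rc_3_3 lc_d_rc_27_0 lc_d_rc_29_2 lc_d_rc_27_0 lc_d_rc_31_2 lc_d_Cert_tree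 lc_d_rc_12_1 lc_d_rc_31_2 lc_d_rc_30_2 lc_d_rc_31_2 lc_d_Cert_tree lc_d_rc_33_0 lc_d_rc_32_2 lc_d_Cert_tree lc_d_rc_27_0 lc_d_rc_33_2 lc_d_rc_32_2 lc_d_rc_27_0 lc_d_rc_33_2 lc_d_rc_28_2 lc_d_rc_33_2 lc_d_rc_3_1 lc_d_rc_30_2 lc_d_rc_56_31 lc_d_rc_30_0 lc_d_rc_27_0 lc_d_rc_33_2 lc_d_rc_20_3 lc_d_rc_33_2 lc_d_rc_3_1 lc_d_rc_30_2 lc_d_rc_32_2 lc_d_Cert_tree) (@D3.rec (fun _ => (Cert rels S Gen.d)) lc_d_rc_27_0 lc_d_rc_33_2 lc_d_rc_30_2 lc_d_Cert_tree lc_d_Cert_tree lc_d_rc_27_0 lc_d_rc_33_2 lc_d_rc_20_3 lc_d_rc_28_2 lc_d_rc_33_2 lc_d_rc_33_2 lc_d_rc_28_2 lc_d_rc_33_2 lc_d_rc_30_2 lc_d_rc_28_2 lc_d_rc_29_2 lc_d_rc_31_2 lc_d_rc_30_2 lc_d_rc_29_2 lc_d_rc_12_1 lc_d_rc_27_1 lc_d_rc_33_2 lc_d_rc_20_3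 lc_d_rc_33_2 lc_d_rc_12_1 lc_d_rc_20_3 lc_d_rc_29_2 lc_d_rc_29_2 lc_d_rc_30_0 lc_d_rc_3_3 lc_d_rc_29_2 lc_d_rc_27_0 lc_d_rc_33_2 lc_d_Cert_tree lc_d_rc_27_0 lc_d_rc_33_2 lc_d_rc_33_2 lc_d_Cert_tree lc_d_rc_27_0 lc_d_rc_33_2 lc_d_rc_3_1 lc_d_rc_3_1 lc_d_rc_33_2 lc_d_rc_27_0 lc_d_rc_33_2 lc_d_rc_12_3 lc_d_rc_33_2 lc_d_rc_30_2 lc_d_rc_28_2 lc_d_rc_29_2 lc_d_Cert_tree) (@D3.rec (fun _ => (Cert rels S Gen.d)) lc_d_rc_27_0 lc_d_rc_33_2 lc_d_rc_27_1 lc_d_rc_33_2 lc_d_rc_12_1 lc_d_Cert_tree lc_d_rc_27_0 lc_d_rc_33_2 lc_d_rc_27_0 lc_d_rc_33_2 lc_d_rc_20_3 lc_d_rc_33_2 lc_d_rc_12_1 lc_d_rc_20_3 lc_d_rc_29_2 lc_d_rc_27_0 lc_d_rc_31_2 lc_d_Cert_tree lc_d_rc_12_1 lc_d_rc_3_1 lc_d_rc_3_1 lc_d_rc_31_2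 lc_d_Cert_tree lc_d_rc_30_2 lc_d_rc_32_2 lc_d_Cert_tree lc_d_rc_27_0 lc_d_rc_33_2 lc_d_rc_31_2 lc_d_rc_27_0 lc_d_rc_33_2 lc_d_rc_28_2 lc_d_rc_33_2 lc_d_rc_3_1 lc_d_rc_28_2 lc_d_Cert_tree lc_d_rc_31_2 lc_d_rc_27_0 lc_d_rc_33_2 lc_d_rc_20_3 lc_d_rc_33_2 lc_d_rc_3_1 lc_d_rc_30_2 lc_d_rc_32_2 lc_d_Cert_tree lc_d_rc_27_0 lc_d_rc_33_2 lc_d_rc_30_2 lc_d_Cert_tree lc_d_Cert_tree lc_d_rc_27_0) (@D3.rec (fun _ => (Cert rels S Gen.d)) lc_d_rc_33_2 lc_d_rc_20_3 lc_d_rc_28_2 lc_d_rc_33_2 lc_d_rc_27_0 lc_d_rc_33_2 lc_d_rc_28_2 lc_d_rc_33_2 lc_d_rc_30_2 lc_d_rc_28_2 lc_d_rc_29_2 lc_d_rc_31_2 lc_d_rc_30_2 lc_d_rc_31_2 lc_d_rc_12_1 lc_d_Cert_tree lc_d_rc_27_0 lc_d_rc_33_2 lc_d_rc_27_0 lc_d_rc_33_2 lc_d_rc_20_3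 lc_d_rc_33_2 lc_d_rc_12_1 lc_d_rc_20_3 lc_d_rc_29_2 lc_d_rc_30_2 lc_d_rc_27_0 lc_d_rc_33_2 lc_d_rc_30_2 lc_d_rc_28_2 lc_d_rc_33_2 lc_d_rc_31_0 lc_d_rc_33_2 lc_d_rc_12_1 lc_d_rc_20_3 lc_d_rc_29_2 lc_d_rc_3_1 lc_d_rc_12_1 lc_d_Cert_tree lc_d_rc_20_3 lc_d_rc_31_2 lc_d_Cert_tree lc_d_rc_30_2 lc_d_rc_32_2 lc_d_Cert_tree lc_d_rc_27_0 lc_d_rc_33_2 lc_d_rc_31_2 lc_d_rc_31_2 lc_d_rc_30_2 lc_d_rc_32_2) (@D3.rec (fun _ => (Cert rels S Gen.d)) lc_d_Cert_tree lc_d_rc_27_0 lc_d_rc_33_2 lc_d_rc_30_2 lc_d_Cert_tree lc_d_Cert_tree lc_d_rc_27_0 lc_d_rc_33_2 lc_d_rc_20_3 lc_d_rc_28_2 lc_d_rc_33_2 lc_d_rc_27_0 lc_d_rc_33_2 lc_d_rc_28_2 lc_d_rc_33_2 lc_d_rc_28_2 lc_d_rc_3_1 lc_d_rc_28_2 lc_d_Cert_tree lc_d_rc_27_0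 lc_d_rc_33_2 lc_d_rc_27_0 lc_d_rc_33_2 lc_d_rc_20_3 lc_d_rc_33_2 lc_d_rc_12_1 lc_d_rc_20_3 lc_d_rc_3_1 lc_d_rc_28_2 lc_d_rc_30_2 lc_d_Cert_tree lc_d_Cert_tree lc_d_rc_27_0 lc_d_rc_33_2 lc_d_rc_29_2 lc_d_rc_28_2 lc_d_rc_33_2 lc_d_rc_31_2 lc_d_Cert_tree lc_d_rc_27_0 lc_d_rc_33_2 lc_d_rc_27_0 lc_d_rc_33_2 lc_d_rc_20_3 lc_d_rc_28_2 lc_d_rc_33_2 lc_d_rc_12_1 lc_d_rc_28_2 lc_d_rc_20_3 lc_d_rc_30_2 lc_d_rc_28_2) (@D3.rec (fun _ => (Cert rels S Gen.d)) lc_d_rc_29_2 lc_d_rc_28_2 lc_d_rc_33_2 lc_d_rc_30_2 lc_d_rc_28_2 lc_d_rc_29_2 lc_d_rc_31_2 lc_d_rc_30_2 lc_d_Cert_tree lc_d_rc_32_2 lc_d_rc_31_2 lc_d_rc_30_2 lc_d_rc_30_2 lc_d_rc_27_0 lc_d_rc_33_2 lc_d_rc_20_3 lc_d_rc_28_2 lc_d_rc_33_2 lc_d_rc_20_3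 lc_d_rc_33_2 lc_d_rc_12_1 lc_d_rc_20_3 lc_d_rc_29_2 lc_d_rc_3_1 lc_d_rc_12_1 lc_d_Cert_tree lc_d_rc_30_2 lc_d_rc_28_2 lc_d_rc_33_2 lc_d_rc_31_0 lc_d_rc_31_2 lc_d_rc_31_0 lc_d_rc_28_2 lc_d_rc_29_2 lc_d_rc_29_2 lc_d_rc_31_2 lc_d_rc_31_2 lc_d_rc_32_2 lc_d_rc_3_1 lc_d_Cert_tree lc_d_rc_27_0 lc_d_rc_27_0 lc_d_rc_33_2 lc_d_rc_33_2 lc_d_rc_27_0 lc_d_rc_33_2 lc_d_rc_20_1 lc_d_rc_33_2 lc_d_rc_29_2 lc_d_rc_3_1 lc_d_rc_28_4)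
def ce_d_9 : D2 → D3 → (Cert rels S Gen.d) := @D2.rec (fun _ => D3 → (Cert rels S Gen.d)) (@D3.rec (fun _ => (Cert rels S Gen.d)) lc_d_rc_28_2 lc_d_rc_33_2 lc_d_rc_27_0 lc_d_rc_33_2 lc_d_rc_3_3 lc_d_rc_33_2 lc_d_rc_3_1 lc_d_rc_28_2 lc_d_rc_29_2 lc_d_rc_31_2 lc_d_rc_30_2 lc_d_Cert_tree lc_d_rc_30_2 lc_d_rc_28_4 lc_d_rc_33_2 lc_d_rc_28_2 lc_d_rc_33_2 lc_d_rc_33_2 lc_d_rc_20_3 lc_d_rc_12_1 lc_d_rc_29_0 lc_d_rc_29_0 lc_d_Cert_tree lc_d_rc_27_0 lc_d_rc_33_2 lc_d_rc_33_0 lc_d_rc_31_2 lc_d_rc_29_0 lc_d_Cert_tree lc_d_Cert_tree lc_d_rc_27_0 lc_d_rc_33_2 lc_d_rc_28_2 lc_d_rc_33_2 lc_d_rc_27_0 lc_d_rc_33_2 lc_d_rc_28_2 lc_d_rc_33_2 lc_d_rc_28_2 lc_d_rc_3_1 lc_d_rc_3_1 lc_d_rc_33_0 lc_d_rc_30_2 lc_d_rc_32_2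 lc_d_rc_28_2 lc_d_rc_30_2 lc_d_Cert_tree lc_d_Cert_tree lc_d_rc_27_0 lc_d_rc_33_2 lc_d_rc_28_2) (@D3.rec (fun _ => (Cert rels S Gen.d)) lc_d_rc_33_2 lc_d_rc_31_2 lc_d_Cert_tree lc_d_rc_27_0 lc_d_rc_33_2 lc_d_rc_27_0 lc_d_rc_33_2 lc_d_rc_20_3 lc_d_rc_28_2 lc_d_rc_33_2 lc_d_rc_12_1 lc_d_rc_55_57 lc_d_rc_20_3 lc_d_rc_30_2 lc_d_rc_28_2 lc_d_rc_29_2 lc_d_rc_28_2 lc_d_rc_33_2 lc_d_rc_30_2 lc_d_rc_28_2 lc_d_rc_29_2 lc_d_rc_31_2 lc_d_rc_30_2 lc_d_Cert_tree lc_d_rc_32_2 lc_d_rc_31_2 lc_d_rc_30_2 lc_d_Cert_tree lc_d_rc_27_0 lc_d_rc_33_2 lc_d_rc_20_3 lc_d_rc_28_2 lc_d_rc_33_2 lc_d_rc_20_3 lc_d_rc_33_2 lc_d_rc_12_1 lc_d_rc_20_3 lc_d_rc_12_1 lc_d_rc_27_0 lc_d_rc_33_2 lc_d_rc_20_3 lc_d_rc_28_2 lc_d_rc_33_2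 lc_d_rc_12_1 lc_d_rc_29_2 lc_d_rc_20_3 lc_d_rc_28_2 lc_d_rc_29_2 lc_d_rc_20_3 lc_d_rc_29_2 lc_d_rc_12_1) (@D3.rec (fun _ => (Cert rels S Gen.d)) lc_d_Cert_tree lc_d_rc_3_1 lc_d_rc_33_2 lc_d_rc_27_0 lc_d_rc_30_2 lc_d_rc_32_2 lc_d_Cert_tree lc_d_rc_27_0 lc_d_rc_33_2 lc_d_rc_30_2 lc_d_Cert_tree lc_d_Cert_tree lc_d_rc_27_0 lc_d_rc_33_2 lc_d_rc_20_3 lc_d_rc_33_2 lc_d_rc_32_2 lc_d_rc_3_1 lc_d_rc_30_2 lc_d_Cert_tree lc_d_Cert_tree lc_d_rc_27_0 lc_d_rc_33_2 lc_d_rc_28_2 lc_d_rc_33_2 lc_d_rc_31_2 lc_d_Cert_tree lc_d_rc_27_0 lc_d_rc_33_2 lc_d_rc_27_0 lc_d_rc_33_2 lc_d_rc_20_3 lc_d_rc_28_2 lc_d_rc_33_2 lc_d_rc_12_1 lc_d_rc_28_2 lc_d_rc_20_3 lc_d_rc_28_2 lc_d_rc_3_1 lc_d_rc_28_2 lc_d_rc_33_2 lc_d_rc_30_2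 lc_d_rc_28_2 lc_d_rc_3_1 lc_d_Cert_tree lc_d_Cert_tree lc_d_rc_27_0 lc_d_rc_33_2 lc_d_rc_20_3 lc_d_rc_28_2 lc_d_rc_33_2) (@D3.rec (fun _ => (Cert rels S Gen.d)) lc_d_rc_20_3 lc_d_rc_33_2 lc_d_rc_12_1 lc_d_rc_20_3 lc_d_rc_30_2 lc_d_rc_12_1 lc_d_rc_28_2 lc_d_Cert_tree lc_d_rc_31_2 lc_d_Cert_tree lc_d_rc_27_0 lc_d_rc_33_2 lc_d_rc_27_0 lc_d_rc_33_2 lc_d_rc_29_2 lc_d_rc_28_2 lc_d_rc_33_2 lc_d_rc_12_1 lc_d_rc_3_1 lc_d_rc_33_2 lc_d_rc_29_2 lc_d_rc_28_2 lc_d_rc_33_2 lc_d_Cert_tree lc_d_rc_27_0 lc_d_rc_33_2 lc_d_rc_20_3 lc_d_rc_28_2 lc_d_rc_33_2 lc_d_rc_20_3 lc_d_rc_28_2 lc_d_rc_33_2 lc_d_rc_12_1 lc_d_rc_28_2 lc_d_rc_20_3 lc_d_rc_30_2 lc_d_rc_28_2 lc_d_rc_29_2 lc_d_rc_3_1 lc_d_rc_12_1 lc_d_rc_12_1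 lc_d_rc_28_2 lc_d_rc_28_2 lc_d_Cert_tree lc_d_rc_31_2 lc_d_rc_30_2 lc_d_Cert_tree lc_d_rc_30_2 lc_d_rc_28_2 lc_d_rc_29_2 lc_d_rc_31_2) (@D3.rec (fun _ => (Cert rels S Gen.d)) lc_d_rc_30_2 lc_d_Cert_tree lc_d_rc_32_2 lc_d_rc_31_2 lc_d_Cert_tree lc_d_rc_27_0 lc_d_rc_32_2 lc_d_rc_29_2 lc_d_rc_27_0 lc_d_rc_33_2 lc_d_rc_20_3 lc_d_rc_28_2 lc_d_rc_33_2 lc_d_rc_12_1 lc_d_Cert_tree lc_d_rc_20_3 lc_d_rc_28_2 lc_d_rc_3_1 lc_d_rc_12_1 lc_d_rc_20_3 lc_d_rc_3_1 lc_d_rc_3_1 lc_d_rc_12_1 lc_d_Cert_tree lc_d_rc_3_1 lc_d_Cert_tree lc_d_rc_27_0 lc_d_rc_56_17 lc_d_rc_31_2 lc_d_rc_33_2 lc_d_rc_12_1 lc_d_rc_28_4 lc_d_rc_20_3 lc_d_rc_28_2 lc_d_rc_29_2 lc_d_rc_3_1 lc_d_Cert_tree lc_d_rc_12_1 lc_d_rc_27_0 lc_d_rc_33_2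 lc_d_Cert_tree lc_d_Cert_tree lc_d_rc_3_1 lc_d_rc_12_1 lc_d_Cert_tree lc_d_rc_3_1 lc_d_Cert_tree lc_d_rc_27_0 lc_d_rc_20_1 lc_d_rc_27_0 lc_d_rc_28_2) (@D3.rec (fun _ => (Cert rels S Gen.d)) lc_d_rc_28_2 lc_d_Cert_tree lc_d_rc_31_2 lc_d_rc_33_0 lc_d_rc_30_2 lc_d_rc_32_2 lc_d_rc_27_0 lc_d_rc_29_0 lc_d_rc_28_2 lc_d_rc_31_0 lc_d_rc_30_2 lc_d_rc_31_2 lc_d_rc_27_0 lc_d_rc_28_2 lc_d_Cert_tree lc_d_rc_31_2 lc_d_rc_20_5 lc_d_rc_20_5 lc_d_rc_20_5 lc_d_rc_27_0 lc_d_rc_32_2 lc_d_rc_28_2 lc_d_rc_32_0 lc_d_Cert_tree lc_d_rc_29_0 lc_d_rc_28_2 lc_d_Cert_tree lc_d_rc_27_0 lc_d_rc_33_2 lc_d_rc_20_5 lc_d_rc_27_0 lc_d_rc_33_2 lc_d_rc_29_2 lc_d_rc_28_2 lc_d_rc_33_2 lc_d_rc_29_2 lc_d_rc_33_2 lc_d_rc_12_1 lc_d_rc_33_2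 lc_d_rc_30_2 lc_d_rc_12_1 lc_d_rc_27_0 lc_d_rc_20_3 lc_d_rc_12_1 lc_d_Cert_tree lc_d_rc_12_1 lc_d_rc_3_1 lc_d_rc_20_3 lc_d_rc_28_2 lc_d_rc_33_2 lc_d_rc_12_1) (@D3.rec (fun _ => (Cert rels S Gen.d)) lc_d_Cert_tree lc_d_rc_30_2 lc_d_rc_28_2 lc_d_rc_20_5 lc_d_rc_3_1 lc_d_rc_12_3 lc_d_rc_30_2 lc_d_rc_27_0 lc_d_rc_33_2 lc_d_Cert_tree lc_d_Cert_tree lc_d_rc_29_0 lc_d_rc_29_0 lc_d_Cert_tree lc_d_rc_29_0 lc_d_Cert_tree lc_d_rc_27_0 lc_d_rc_33_0 lc_d_rc_27_0 lc_d_rc_28_2 lc_d_rc_3_1 lc_d_rc_3_1 lc_d_Cert_tree lc_d_rc_27_0 lc_d_rc_27_0 lc_d_rc_3_1 lc_d_Cert_tree lc_d_rc_27_0 lc_d_rc_20_1 lc_d_rc_27_0 lc_d_rc_28_2 lc_d_Cert_tree lc_d_rc_30_2 lc_d_rc_27_0 lc_d_rc_12_1 lc_d_rc_29_4 lc_d_rc_27_0 lc_d_rc_27_0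 lc_d_rc_33_2 lc_d_rc_12_1 lc_d_rc_12_1 lc_d_Cert_tree lc_d_rc_27_0 lc_d_rc_33_2 lc_d_rc_31_2 lc_d_Cert_tree lc_d_rc_30_2 lc_d_rc_27_0 lc_d_rc_33_2 lc_d_rc_33_2 lc_d_rc_28_2) (@D3.rec (fun _ => (Cert rels S Gen.d)) lc_d_rc_33_2 lc_d_rc_3_1 lc_d_rc_27_0 lc_d_rc_33_2 lc_d_rc_33_2 lc_d_rc_3_1 lc_d_rc_27_0 lc_d_rc_33_2 lc_d_Cert_tree lc_d_rc_27_0 lc_d_rc_33_2 lc_d_rc_20_3 lc_d_rc_28_2 lc_d_rc_33_2 lc_d_rc_30_2 lc_d_rc_28_2 lc_d_rc_31_2 lc_d_rc_30_2 lc_d_rc_29_2 lc_d_rc_27_0 lc_d_rc_20_3 lc_d_rc_33_2 lc_d_rc_12_1 lc_d_rc_20_3 lc_d_rc_3_1 lc_d_rc_12_1 lc_d_rc_30_2 lc_d_Cert_tree lc_d_rc_27_0 lc_d_rc_33_2 lc_d_rc_20_1 lc_d_Cert_tree lc_d_rc_27_0 lc_d_rc_33_2 lc_d_rc_20_3 lc_d_rc_33_2 lc_d_rc_30_2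 lc_d_rc_28_4 lc_d_rc_20_3 lc_d_rc_29_2 lc_d_rc_30_2 lc_d_Cert_tree lc_d_rc_27_0 lc_d_rc_33_2 lc_d_rc_30_2 lc_d_Cert_tree lc_d_rc_27_0 lc_d_rc_33_2 lc_d_rc_28_2 lc_d_rc_33_2 lc_d_rc_33_2) (@D3.rec (fun _ => (Cert rels S Gen.d)) lc_d_rc_28_2 lc_d_rc_33_2 lc_d_rc_28_2 lc_d_rc_30_2 lc_d_Cert_tree lc_d_rc_27_0 lc_d_rc_33_2 lc_d_rc_27_0 lc_d_rc_33_2 lc_d_rc_33_2 lc_d_rc_29_2 lc_d_Cert_tree lc_d_rc_27_0 lc_d_rc_33_2 lc_d_rc_3_3 lc_d_rc_33_2 lc_d_rc_29_0 lc_d_Cert_tree lc_d_rc_27_0 lc_d_rc_33_2 lc_d_rc_27_0 lc_d_rc_33_2 lc_d_rc_20_3 lc_d_rc_28_2 lc_d_rc_33_2 lc_d_rc_12_1 lc_d_rc_20_3 lc_d_rc_20_3 lc_d_rc_30_2 lc_d_rc_28_2 lc_d_rc_29_2 lc_d_rc_30_2 lc_d_rc_28_2 lc_d_rc_31_2 lc_d_rc_30_2 lc_d_rc_32_2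 lc_d_rc_31_2 lc_d_rc_28_4 lc_d_rc_27_0 lc_d_rc_33_2 lc_d_rc_20_3 lc_d_rc_28_2 lc_d_rc_33_2 lc_d_rc_20_3 lc_d_rc_33_2 lc_d_rc_12_1 lc_d_rc_20_3 lc_d_rc_29_2 lc_d_rc_12_1 lc_d_Cert_tree lc_d_rc_30_2) (@D3.rec (fun _ => (Cert rels S Gen.d)) lc_d_rc_33_2 lc_d_rc_12_1 lc_d_rc_20_3 lc_d_rc_28_2 lc_d_rc_12_1 lc_d_rc_20_3 lc_d_rc_3_1 lc_d_rc_12_1 lc_d_rc_29_4 lc_d_rc_3_1 lc_d_Cert_tree lc_d_rc_27_0 lc_d_rc_12_1 lc_d_rc_20_3 lc_d_rc_29_2 lc_d_rc_3_1 lc_d_rc_12_1 lc_d_Cert_tree lc_d_rc_33_0 lc_d_rc_30_2 lc_d_Cert_tree lc_d_Cert_tree lc_d_rc_27_0 lc_d_rc_33_2 lc_d_rc_33_2 lc_d_rc_28_2 lc_d_Cert_tree lc_d_rc_27_0 lc_d_rc_33_2 lc_d_rc_27_0 lc_d_rc_33_2 lc_d_rc_20_3 lc_d_rc_33_2 lc_d_rc_12_1 lc_d_rc_20_3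 lc_d_rc_29_2 lc_d_rc_28_2 lc_d_rc_20_3 lc_d_rc_33_2 lc_d_rc_20_3 lc_d_rc_33_2 lc_d_rc_12_1 lc_d_rc_20_3 lc_d_rc_29_2 lc_d_rc_3_1 lc_d_rc_12_1 lc_d_Cert_tree lc_d_rc_12_1 lc_d_rc_20_3 lc_d_rc_29_2 lc_d_rc_12_1) (@D3.rec (fun _ => (Cert rels S Gen.d)) lc_d_rc_20_3 lc_d_rc_29_2 lc_d_rc_3_1 lc_d_rc_12_1 lc_d_Cert_tree lc_d_rc_3_1 lc_d_Cert_tree lc_d_rc_27_0 lc_d_rc_30_2 lc_d_rc_31_2 lc_d_rc_33_2 lc_d_rc_33_2 lc_d_Cert_tree lc_d_Cert_tree lc_d_rc_27_0 lc_d_rc_33_2 lc_d_rc_33_2 lc_d_rc_29_2 lc_d_Cert_tree lc_d_Cert_tree lc_d_rc_27_0 lc_d_rc_33_2 lc_d_rc_3_1 lc_d_rc_33_2 lc_d_rc_33_2 lc_d_Cert_tree lc_d_rc_27_0 lc_d_rc_33_2 lc_d_rc_27_0 lc_d_rc_33_2 lc_d_rc_20_3 lc_d_rc_28_2 lc_d_rc_33_2 lc_d_rc_12_1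 lc_d_rc_20_3 lc_d_rc_20_3 lc_d_rc_28_2 lc_d_rc_12_3 lc_d_rc_28_2 lc_d_rc_33_2 lc_d_rc_30_2 lc_d_rc_28_2 lc_d_Cert_tree lc_d_rc_27_0 lc_d_rc_33_2 lc_d_rc_20_3 lc_d_rc_31_2 lc_d_rc_33_2 lc_d_rc_20_3 lc_d_rc_33_2 lc_d_rc_12_1) (@D3.rec (fun _ => (Cert rels S Gen.d)) lc_d_rc_20_3 lc_d_rc_20_5 lc_d_rc_3_1 lc_d_rc_12_1 lc_d_Cert_tree lc_d_Cert_tree lc_d_rc_31_2 lc_d_Cert_tree lc_d_rc_27_0 lc_d_rc_33_2 lc_d_rc_27_0 lc_d_rc_33_2 lc_d_rc_29_2 lc_d_rc_28_2 lc_d_rc_33_2 lc_d_rc_12_1 lc_d_rc_55_24 lc_d_rc_33_2 lc_d_rc_30_2 lc_d_rc_28_2 lc_d_rc_33_2 lc_d_Cert_tree lc_d_rc_27_0 lc_d_rc_33_2 lc_d_rc_20_3 lc_d_rc_28_2 lc_d_rc_33_2 lc_d_rc_20_3 lc_d_rc_28_2 lc_d_rc_33_2 lc_d_rc_12_1 lc_d_rc_20_3 lc_d_rc_20_3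 lc_d_rc_30_2 lc_d_rc_28_2 lc_d_rc_29_2 lc_d_rc_3_1 lc_d_rc_12_1 lc_d_rc_12_1 lc_d_rc_20_3 lc_d_rc_20_3 lc_d_Cert_tree lc_d_rc_31_2 lc_d_rc_30_2 lc_d_rc_55_39 lc_d_rc_30_2 lc_d_rc_28_2 lc_d_rc_31_2 lc_d_rc_30_2 lc_d_rc_32_2 lc_d_rc_31_2) (@D3.rec (fun _ => (Cert rels S Gen.d)) lc_d_rc_32_2 lc_d_rc_27_0 lc_d_rc_33_2 lc_d_rc_20_3 lc_d_rc_32_2 lc_d_rc_33_2 lc_d_rc_12_1 lc_d_Cert_tree lc_d_rc_20_3 lc_d_rc_28_2 lc_d_rc_29_2 lc_d_rc_12_1 lc_d_rc_20_3 lc_d_rc_29_2 lc_d_rc_3_1 lc_d_rc_12_1 lc_d_Cert_tree lc_d_rc_3_1 lc_d_Cert_tree lc_d_rc_27_0 lc_d_rc_33_2 lc_d_rc_12_1 lc_d_rc_33_0 lc_d_rc_20_3 lc_d_rc_32_2 lc_d_rc_29_2 lc_d_rc_3_1 lc_d_rc_28_4 lc_d_rc_12_1 lc_d_rc_27_0 lc_d_rc_33_2 lc_d_Cert_tree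 lc_d_rc_31_2 lc_d_rc_3_1 lc_d_rc_12_1 lc_d_rc_30_0 lc_d_rc_3_1 lc_d_Cert_tree lc_d_rc_27_0 lc_d_rc_29_4 lc_d_rc_27_0 lc_d_rc_28_2 lc_d_Cert_tree lc_d_Cert_tree lc_d_rc_27_0 lc_d_rc_33_2 lc_d_rc_33_2 lc_d_rc_33_2 lc_d_rc_20_3 lc_d_rc_33_2 lc_d_rc_3_1) (@D3.rec (fun _ => (Cert rels S Gen.d)) lc_d_rc_27_0 lc_d_rc_33_2 lc_d_rc_27_0 lc_d_rc_33_2 lc_d_rc_20_3 lc_d_rc_28_2 lc_d_rc_33_2 lc_d_rc_33_2 lc_d_rc_33_2 lc_d_rc_28_2 lc_d_rc_20_3 lc_d_rc_29_2 lc_d_rc_27_0 lc_d_rc_33_2 lc_d_Cert_tree lc_d_rc_55_54 lc_d_rc_27_0 lc_d_rc_33_2 lc_d_rc_20_3 lc_d_rc_33_2 lc_d_rc_33_2 lc_d_rc_30_2 lc_d_rc_32_2 lc_d_rc_27_0 lc_d_rc_33_2 lc_d_rc_33_2 lc_d_rc_33_2 lc_d_rc_20_3 lc_d_rc_3_1 lc_d_rc_29_2 lc_d_rc_33_2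 lc_d_rc_30_2 lc_d_rc_3_3 lc_d_rc_27_0 lc_d_rc_33_2 lc_d_rc_3_3 lc_d_rc_20_3 lc_d_rc_33_2 lc_d_rc_12_1 lc_d_rc_20_3 lc_d_rc_20_3 lc_d_rc_30_2 lc_d_rc_28_2 lc_d_rc_29_2 lc_d_rc_31_2 lc_d_rc_30_2 lc_d_rc_32_2 lc_d_rc_31_2 lc_d_rc_31_2 lc_d_rc_27_0 lc_d_rc_20_3) (@D3.rec (fun _ => (Cert rels S Gen.d)) lc_d_rc_28_2 lc_d_rc_33_2 lc_d_rc_33_2 lc_d_rc_12_1 lc_d_rc_20_3 lc_d_rc_29_2 lc_d_rc_3_1 lc_d_rc_12_1 lc_d_Cert_tree lc_d_rc_28_2 lc_d_rc_28_2 lc_d_rc_29_2 lc_d_rc_3_3 lc_d_rc_12_3 lc_d_rc_32_0 lc_d_rc_3_3 lc_d_rc_29_2 lc_d_rc_3_1 lc_d_rc_29_2 lc_d_rc_28_0 lc_d_rc_30_2 lc_d_Cert_tree lc_d_rc_27_0 lc_d_rc_33_2 lc_d_rc_30_2 lc_d_Cert_tree lc_d_Cert_tree lc_d_rc_27_0 lc_d_rc_33_2 lc_d_rc_20_3 lc_d_rc_33_2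 lc_d_rc_33_2 lc_d_rc_28_2 lc_d_rc_31_0 lc_d_rc_27_0 lc_d_rc_33_2 lc_d_rc_31_2 lc_d_rc_20_3 lc_d_rc_33_2 lc_d_rc_30_2 lc_d_rc_20_3 lc_d_rc_3_1 lc_d_Cert_tree lc_d_rc_27_0 lc_d_rc_33_2 lc_d_rc_29_2 lc_d_rc_29_2 lc_d_rc_33_2 lc_d_rc_29_0 lc_d_Cert_tree lc_d_rc_27_0) (@D3.rec (fun _ => (Cert rels S Gen.d)) lc_d_rc_33_2 lc_d_rc_27_0 lc_d_rc_33_2 lc_d_rc_20_3 lc_d_rc_28_2 lc_d_rc_33_2 lc_d_rc_12_1 lc_d_rc_20_3 lc_d_rc_20_3 lc_d_rc_28_2 lc_d_rc_29_2 lc_d_rc_33_2 lc_d_rc_30_2 lc_d_rc_28_2 lc_d_rc_31_0 lc_d_rc_20_3 lc_d_rc_28_2 lc_d_rc_33_2 lc_d_rc_20_3 lc_d_rc_29_2 lc_d_rc_3_1 lc_d_rc_12_1 lc_d_Cert_tree lc_d_rc_28_2 lc_d_rc_29_2 lc_d_rc_33_2 lc_d_Cert_tree lc_d_rc_27_0 lc_d_rc_33_2 lc_d_rc_3_1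 lc_d_Cert_tree lc_d_rc_27_0 lc_d_rc_33_2 lc_d_rc_29_2 lc_d_rc_33_2 lc_d_rc_29_0 lc_d_Cert_tree lc_d_rc_27_0 lc_d_rc_33_2 lc_d_rc_27_0 lc_d_rc_33_2 lc_d_rc_20_3 lc_d_rc_33_2 lc_d_rc_12_1 lc_d_rc_20_3 lc_d_rc_3_1 lc_d_Cert_tree lc_d_rc_27_0 lc_d_rc_33_2 lc_d_rc_20_3 lc_d_rc_28_2) (@D3.rec (fun _ => (Cert rels S Gen.d)) lc_d_rc_33_2 lc_d_rc_33_2 lc_d_rc_20_3 lc_d_rc_3_1 lc_d_rc_3_1 lc_d_rc_12_1 lc_d_Cert_tree lc_d_rc_31_2 lc_d_rc_27_0 lc_d_rc_33_2 lc_d_rc_29_2 lc_d_rc_33_2 lc_d_rc_12_1 lc_d_rc_3_3 lc_d_rc_33_2 lc_d_rc_29_2 lc_d_rc_28_2 lc_d_rc_33_2 lc_d_Cert_tree lc_d_rc_27_0 lc_d_rc_33_2 lc_d_rc_20_3 lc_d_rc_28_2 lc_d_rc_33_2 lc_d_rc_20_3 lc_d_rc_33_2 lc_d_rc_12_1 lc_d_rc_20_3 lc_d_rc_20_3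 lc_d_rc_30_2 lc_d_rc_28_2 lc_d_rc_29_2 lc_d_rc_3_1 lc_d_rc_12_1 lc_d_rc_12_1 lc_d_rc_20_3 lc_d_rc_20_3 lc_d_Cert_tree lc_d_rc_31_2 lc_d_rc_30_2 lc_d_rc_29_2 lc_d_rc_31_2 lc_d_rc_30_2 lc_d_rc_32_2 lc_d_rc_31_2 lc_d_rc_32_2 lc_d_rc_27_0 lc_d_rc_33_2 lc_d_rc_20_3 lc_d_rc_28_2 lc_d_rc_33_2) (@D3.rec (fun _ => (Cert rels S Gen.d)) lc_d_rc_12_1 lc_d_Cert_tree lc_d_rc_20_3 lc_d_rc_28_2 lc_d_rc_29_2 lc_d_rc_12_1 lc_d_rc_20_3 lc_d_rc_31_0 lc_d_rc_3_1 lc_d_rc_12_1 lc_d_Cert_tree lc_d_rc_3_1 lc_d_Cert_tree lc_d_rc_27_0 lc_d_rc_33_2 lc_d_rc_30_2 lc_d_rc_12_3 lc_d_rc_32_2 lc_d_rc_28_2 lc_d_rc_31_0 lc_d_rc_3_1 lc_d_Cert_tree lc_d_rc_12_1 lc_d_rc_27_0 lc_d_rc_33_2 lc_d_rc_29_2 lc_d_rc_28_4 lc_d_rc_3_1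 lc_d_rc_12_1 lc_d_rc_32_2 lc_d_rc_3_1 lc_d_Cert_tree lc_d_rc_27_0 lc_d_Cert_tree lc_d_rc_27_0 lc_d_rc_28_2 lc_d_rc_3_3 lc_d_Cert_tree lc_d_rc_27_0 lc_d_rc_33_2 lc_d_rc_27_0 lc_d_rc_33_2 lc_d_rc_33_2 lc_d_rc_3_1 lc_d_rc_31_2 lc_d_rc_32_2 lc_d_Cert_tree lc_d_rc_31_2 lc_d_Cert_tree lc_d_rc_27_0 lc_d_rc_33_2) (@D3.rec (fun _ => (Cert rels S Gen.d)) lc_d_rc_27_0 lc_d_rc_33_2 lc_d_rc_29_2 lc_d_rc_33_2 lc_d_rc_30_0 lc_d_rc_33_2 lc_d_Cert_tree lc_d_rc_27_0 lc_d_rc_33_2 lc_d_rc_20_3 lc_d_rc_28_2 lc_d_rc_33_2 lc_d_rc_20_3 lc_d_rc_28_2 lc_d_rc_33_2 lc_d_rc_12_1 lc_d_rc_20_3 lc_d_rc_20_3 lc_d_rc_30_2 lc_d_rc_28_2 lc_d_rc_29_2 lc_d_rc_12_1 lc_d_rc_12_1 lc_d_rc_20_3 lc_d_rc_33_2 lc_d_rc_28_4 lc_d_rc_30_2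 lc_d_rc_28_2 lc_d_rc_30_2 lc_d_rc_27_0 lc_d_rc_33_2 lc_d_rc_20_3 lc_d_rc_12_1 lc_d_rc_33_2 lc_d_rc_12_1 lc_d_Cert_tree lc_d_rc_20_3 lc_d_rc_28_2 lc_d_rc_12_1 lc_d_rc_20_3 lc_d_rc_31_2 lc_d_rc_12_1 lc_d_rc_29_4 lc_d_rc_33_2 lc_d_rc_28_2 lc_d_rc_33_2 lc_d_rc_33_2 lc_d_rc_29_2 lc_d_rc_3_1 lc_d_rc_28_4 lc_d_rc_12_1) (@D3.rec (fun _ => (Cert rels S Gen.d)) lc_d_rc_12_3 lc_d_rc_12_3 lc_d_rc_29_4 lc_d_rc_3_1 lc_d_rc_12_1 lc_d_rc_55_69 lc_d_rc_3_1 lc_d_Cert_tree lc_d_rc_27_0 lc_d_rc_33_2 lc_d_rc_27_0 lc_d_rc_28_2 lc_d_rc_30_2 lc_d_rc_29_2 lc_d_rc_31_2 lc_d_rc_31_2 lc_d_Cert_tree lc_d_rc_31_2 lc_d_Cert_tree lc_d_rc_27_0 lc_d_rc_33_2 lc_d_rc_27_0 lc_d_rc_33_2 lc_d_rc_33_2 lc_d_rc_33_2 lc_d_Cert_tree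 lc_d_rc_27_0 lc_d_rc_33_2 lc_d_rc_20_3 lc_d_rc_28_2 lc_d_rc_33_2 lc_d_rc_20_3 lc_d_rc_33_2 lc_d_rc_12_1 lc_d_rc_20_3 lc_d_rc_3_1 lc_d_rc_3_1 lc_d_rc_12_1 lc_d_rc_12_3 lc_d_rc_27_0 lc_d_rc_33_2 lc_d_rc_20_3 lc_d_rc_20_1 lc_d_rc_33_2 lc_d_rc_12_1 lc_d_Cert_tree lc_d_rc_20_3 lc_d_rc_28_2 lc_d_rc_12_1 lc_d_rc_20_3 lc_d_rc_3_1) (@D3.rec (fun _ => (Cert rels S Gen.d)) lc_d_rc_12_1 lc_d_rc_3_1 lc_d_rc_28_2 lc_d_rc_3_3 lc_d_rc_27_0 lc_d_rc_33_2 lc_d_Cert_tree lc_d_rc_27_0 lc_d_rc_33_2 lc_d_rc_29_2 lc_d_rc_28_2 lc_d_rc_33_2 lc_d_rc_29_2 lc_d_rc_55_78 lc_d_rc_33_2 lc_d_rc_12_1 lc_d_rc_28_2 lc_d_rc_33_2 lc_d_rc_29_2 lc_d_rc_28_2 lc_d_rc_33_2 lc_d_rc_3_1 lc_d_rc_28_2 lc_d_rc_12_1 lc_d_rc_29_2 lc_d_rc_28_2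 lc_d_rc_12_3 lc_d_rc_29_2 lc_d_rc_30_2 lc_d_rc_33_2 lc_d_rc_27_0 lc_d_rc_33_2 lc_d_rc_20_3 lc_d_rc_28_2 lc_d_rc_33_2 lc_d_rc_12_1 lc_d_Cert_tree lc_d_rc_20_3 lc_d_rc_28_2 lc_d_rc_28_2 lc_d_rc_29_2 lc_d_rc_12_1 lc_d_rc_20_3 lc_d_rc_20_3 lc_d_rc_30_2 lc_d_rc_28_2 lc_d_rc_29_2 lc_d_rc_3_1 lc_d_rc_12_1 lc_d_rc_12_1 lc_d_rc_20_3) (@D3.rec (fun _ => (Cert rels S Gen.d)) lc_d_rc_20_3 lc_d_Cert_tree lc_d_rc_31_2 lc_d_rc_30_2 lc_d_rc_31_2 lc_d_rc_3_1 lc_d_rc_3_1 lc_d_rc_12_1 lc_d_rc_12_1 lc_d_Cert_tree lc_d_rc_20_3 lc_d_rc_20_3 lc_d_Cert_tree lc_d_rc_27_0 lc_d_rc_32_2 lc_d_rc_31_2 lc_d_rc_30_2 lc_d_rc_31_2 lc_d_rc_30_2 lc_d_rc_32_2 lc_d_rc_31_2 lc_d_rc_32_2 lc_d_rc_20_3 lc_d_rc_33_2 lc_d_rc_12_1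 lc_d_Cert_tree lc_d_rc_20_3 lc_d_rc_28_2 lc_d_rc_29_2 lc_d_rc_3_1 lc_d_Cert_tree lc_d_rc_12_1 lc_d_rc_27_0 lc_d_rc_33_2 lc_d_Cert_tree lc_d_rc_29_4 lc_d_rc_3_1 lc_d_rc_12_1 lc_d_Cert_tree lc_d_rc_3_1 lc_d_Cert_tree lc_d_rc_27_0 lc_d_rc_30_0 lc_d_rc_27_0 lc_d_rc_28_2 lc_d_rc_3_1 lc_d_rc_3_1 lc_d_rc_20_1 lc_d_rc_27_0 lc_d_rc_28_2 lc_d_rc_56_10) (@D3.rec (fun _ => (Cert rels S Gen.d)) lc_d_rc_27_0 lc_d_rc_33_2 lc_d_rc_31_2 lc_d_rc_32_2 lc_d_rc_29_0 lc_d_rc_28_2 lc_d_rc_29_0 lc_d_rc_32_2 lc_d_rc_32_2 lc_d_rc_30_2 lc_d_rc_3_1 lc_d_rc_20_5 lc_d_rc_31_2 lc_d_rc_27_0 lc_d_rc_27_0 lc_d_rc_33_2 lc_d_rc_20_5 lc_d_rc_31_2 lc_d_rc_31_0 lc_d_rc_32_2 lc_d_rc_30_2 lc_d_rc_30_2 lc_d_rc_27_0 lc_d_rc_29_0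 lc_d_rc_27_0 lc_d_rc_33_2 lc_d_rc_20_3 lc_d_rc_28_2 lc_d_rc_33_2 lc_d_rc_27_0 lc_d_rc_33_2 lc_d_rc_29_2 lc_d_rc_28_2 lc_d_rc_33_2 lc_d_rc_12_1 lc_d_Cert_tree lc_d_rc_33_2 lc_d_rc_28_2 lc_d_rc_12_1 lc_d_rc_33_2 lc_d_rc_3_1 lc_d_rc_12_1 lc_d_rc_3_1 lc_d_rc_20_3 lc_d_rc_12_1 lc_d_rc_28_4 lc_d_rc_3_1 lc_d_rc_28_4 lc_d_rc_27_0 lc_d_rc_3_1 lc_d_rc_29_2) (@D3.rec (fun _ => (Cert rels S Gen.d)) lc_d_rc_27_0 lc_d_rc_27_0 lc_d_rc_33_0 lc_d_rc_27_0 lc_d_rc_28_2 lc_d_rc_3_1 lc_d_Cert_tree lc_d_rc_12_1 lc_d_rc_12_1 lc_d_rc_20_3 lc_d_rc_20_3 lc_d_rc_30_2 lc_d_rc_29_2 lc_d_rc_12_3 lc_d_rc_28_2 lc_d_rc_29_2 lc_d_rc_29_2 lc_d_rc_33_2 lc_d_rc_29_2 lc_d_rc_33_2 lc_d_Cert_tree lc_d_rc_27_0 lc_d_rc_20_3 lc_d_rc_28_2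 lc_d_rc_29_2 lc_d_rc_12_1 lc_d_rc_30_0 lc_d_Cert_tree lc_d_Cert_tree lc_d_rc_12_1 lc_d_Cert_tree lc_d_rc_3_1 lc_d_Cert_tree lc_d_rc_27_0 lc_d_Cert_tree lc_d_rc_27_0 lc_d_rc_32_2 lc_d_Cert_tree lc_d_rc_28_2 lc_d_rc_3_1 lc_d_rc_3_1 lc_d_Cert_tree lc_d_rc_33_2 lc_d_Cert_tree lc_d_rc_27_0 lc_d_rc_56_45 lc_d_rc_12_1 lc_d_rc_27_0 lc_d_rc_29_4 lc_d_rc_27_1 lc_d_rc_29_2) (@D3.rec (fun _ => (Cert rels S Gen.d)) lc_d_rc_12_1 lc_d_rc_12_1 lc_d_rc_20_3 lc_d_rc_20_3 lc_d_rc_31_2 lc_d_rc_30_2 lc_d_rc_29_2 lc_d_rc_3_1 lc_d_rc_3_1 lc_d_rc_12_1 lc_d_rc_12_1 lc_d_Cert_tree lc_d_rc_20_3 lc_d_rc_20_3 lc_d_Cert_tree lc_d_rc_27_0 lc_d_rc_32_2 lc_d_rc_31_2 lc_d_rc_29_2 lc_d_rc_28_4 lc_d_rc_28_4 lc_d_rc_31_2 lc_d_rc_29_2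 lc_d_Cert_tree lc_d_rc_28_0 lc_d_rc_27_0 lc_d_rc_33_2 lc_d_rc_29_2 lc_d_rc_29_2 lc_d_rc_28_0 lc_d_rc_29_2 lc_d_rc_33_2 lc_d_Cert_tree lc_d_rc_27_0 lc_d_Cert_tree lc_d_rc_27_0 lc_d_rc_28_2 lc_d_rc_12_1 lc_d_Cert_tree lc_d_rc_32_2 lc_d_rc_3_1 lc_d_rc_20_5 lc_d_Cert_tree lc_d_rc_56_59 lc_d_rc_27_0 lc_d_rc_3_1 lc_d_Cert_tree lc_d_rc_27_0 lc_d_Cert_tree lc_d_rc_27_0 lc_d_rc_28_2) (@D3.rec (fun _ => (Cert rels S Gen.d)) lc_d_rc_27_0 lc_d_rc_20_3 lc_d_rc_12_1 lc_d_rc_30_2 lc_d_rc_12_1 lc_d_rc_20_3 lc_d_rc_3_1 lc_d_rc_12_1 lc_d_rc_20_3 lc_d_rc_3_1 lc_d_rc_3_1 lc_d_rc_12_1 lc_d_Cert_tree lc_d_rc_3_1 lc_d_Cert_tree lc_d_rc_27_0 lc_d_rc_28_0 lc_d_rc_28_0 lc_d_rc_3_1 lc_d_Cert_tree lc_d_rc_12_1 lc_d_rc_27_0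 lc_d_rc_33_2 lc_d_Cert_tree lc_d_rc_3_1 lc_d_rc_12_1 lc_d_Cert_tree lc_d_rc_3_1 lc_d_Cert_tree lc_d_rc_27_0 lc_d_rc_28_0 lc_d_rc_27_0 lc_d_rc_3_1 lc_d_rc_20_3 lc_d_rc_29_2 lc_d_rc_3_1 lc_d_rc_12_3 lc_d_rc_12_1 lc_d_rc_27_0 lc_d_rc_30_2 lc_d_rc_33_2 lc_d_Cert_tree lc_d_rc_20_5 lc_d_rc_20_5 lc_d_Cert_tree lc_d_rc_3_1 lc_d_rc_12_1 lc_d_rc_30_0 lc_d_rc_20_3 lc_d_rc_20_3 lc_d_rc_29_4) (@D3.rec (fun _ => (Cert rels S Gen.d)) lc_d_rc_30_2 lc_d_rc_20_5 lc_d_rc_3_1 lc_d_rc_3_1 lc_d_rc_12_1 lc_d_rc_12_1 lc_d_rc_29_4 lc_d_rc_20_3 lc_d_rc_20_3 lc_d_Cert_tree lc_d_rc_27_0 lc_d_rc_32_2 lc_d_rc_31_2 lc_d_rc_30_2 lc_d_rc_30_2 lc_d_rc_3_1 lc_d_rc_29_4 lc_d_rc_12_1 lc_d_rc_12_1 lc_d_Cert_tree lc_d_rc_27_0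 lc_d_rc_20_3 lc_d_rc_20_3 lc_d_Cert_tree lc_d_rc_27_0 lc_d_rc_28_2 lc_d_rc_32_2 lc_d_rc_20_5 lc_d_rc_32_2 lc_d_rc_31_2 lc_d_rc_32_2 lc_d_rc_29_2 lc_d_rc_33_2 lc_d_rc_28_2 lc_d_rc_29_2 lc_d_rc_27_0 lc_d_rc_3_1 lc_d_rc_33_2 lc_d_rc_30_2 lc_d_rc_29_0 lc_d_rc_33_2 lc_d_rc_33_2 lc_d_rc_33_2 lc_d_rc_33_2 lc_d_rc_3_3 lc_d_rc_28_2 lc_d_rc_28_2 lc_d_rc_29_2 lc_d_rc_32_2 lc_d_rc_29_0 lc_d_rc_33_2)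
def ce_d_10 : D2 → D3 → (Cert rels S Gen.d) := @D2.rec (fun _ => D3 → (Cert rels S Gen.d)) (@D3.rec (fun _ => (Cert rels S Gen.d)) lc_d_rc_55_54 lc_d_rc_27_0 lc_d_rc_33_2 lc_d_rc_33_2 lc_d_rc_27_0 lc_d_rc_33_2 lc_d_rc_20_3 lc_d_rc_33_2 lc_d_rc_29_2 lc_d_rc_30_2 lc_d_rc_29_2 lc_d_rc_31_2 lc_d_rc_32_2 lc_d_rc_32_2 lc_d_rc_27_0 lc_d_rc_33_2 lc_d_rc_56_38 lc_d_rc_33_2 lc_d_rc_20_3 lc_d_rc_33_2 lc_d_rc_30_0 lc_d_rc_33_2 lc_d_rc_12_1 lc_d_rc_20_3 lc_d_rc_29_2 lc_d_rc_29_2 lc_d_rc_30_2 lc_d_rc_30_2 lc_d_rc_20_3 lc_d_rc_20_3 lc_d_rc_29_2 lc_d_rc_30_2 lc_d_rc_28_2 lc_d_rc_3_1 lc_d_rc_32_0 lc_d_rc_33_2 lc_d_rc_29_2 lc_d_rc_20_3 lc_d_rc_20_3 lc_d_Cert_tree lc_d_rc_20_3 lc_d_rc_12_1 lc_d_rc_12_1 lc_d_rc_3_1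 lc_d_rc_31_2 lc_d_rc_30_2 lc_d_Cert_tree lc_d_rc_3_1 lc_d_rc_20_5 lc_d_rc_20_5 lc_d_rc_29_2) (@D3.rec (fun _ => (Cert rels S Gen.d)) lc_d_rc_20_5 lc_d_rc_20_5 lc_d_rc_29_2 lc_d_rc_20_3 lc_d_rc_20_3 lc_d_Cert_tree lc_d_rc_27_0 lc_d_rc_28_4 lc_d_rc_28_4 lc_d_rc_29_2 lc_d_rc_28_4 lc_d_rc_29_2 lc_d_rc_12_1 lc_d_rc_30_2 lc_d_rc_29_2 lc_d_rc_12_1 lc_d_rc_28_2 lc_d_rc_29_2 lc_d_rc_3_1 lc_d_rc_12_1 lc_d_Cert_tree lc_d_rc_3_1 lc_d_Cert_tree lc_d_rc_27_0 lc_d_rc_31_2 lc_d_rc_55_18 lc_d_rc_30_2 lc_d_rc_12_1 lc_d_rc_29_4 lc_d_rc_27_0 lc_d_rc_55_72 lc_d_rc_32_2 lc_d_rc_30_2 lc_d_rc_31_2 lc_d_Cert_tree lc_d_rc_12_3 lc_d_rc_29_2 lc_d_Cert_tree lc_d_rc_27_0 lc_d_rc_33_2 lc_d_Cert_tree lc_d_rc_27_0 lc_d_rc_33_2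 lc_d_rc_28_2 lc_d_rc_33_2 lc_d_rc_29_2 lc_d_rc_55_45 lc_d_rc_29_2 lc_d_rc_20_3 lc_d_rc_33_2 lc_d_rc_31_2) (@D3.rec (fun _ => (Cert rels S Gen.d)) lc_d_Cert_tree lc_d_rc_33_2 lc_d_rc_33_2 lc_d_rc_27_0 lc_d_rc_33_2 lc_d_rc_3_1 lc_d_rc_32_2 lc_d_rc_29_2 lc_d_rc_32_2 lc_d_Cert_tree lc_d_rc_27_0 lc_d_rc_33_2 lc_d_rc_27_0 lc_d_rc_33_2 lc_d_rc_20_3 lc_d_rc_28_2 lc_d_rc_33_2 lc_d_rc_30_2 lc_d_rc_28_2 lc_d_rc_29_2 lc_d_rc_31_2 lc_d_rc_30_2 lc_d_rc_29_2 lc_d_rc_20_3 lc_d_rc_30_2 lc_d_rc_32_2 lc_d_Cert_tree lc_d_rc_27_0 lc_d_rc_33_2 lc_d_rc_30_2 lc_d_Cert_tree lc_d_Cert_tree lc_d_rc_27_0 lc_d_rc_33_2 lc_d_rc_20_3 lc_d_rc_28_2 lc_d_rc_33_2 lc_d_rc_27_0 lc_d_rc_33_2 lc_d_rc_28_2 lc_d_rc_33_2 lc_d_rc_28_2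 lc_d_rc_29_2 lc_d_rc_29_2 lc_d_rc_28_4 lc_d_rc_27_0 lc_d_rc_33_2 lc_d_rc_27_0 lc_d_rc_29_2 lc_d_rc_20_3 lc_d_rc_33_2) (@D3.rec (fun _ => (Cert rels S Gen.d)) lc_d_rc_12_1 lc_d_rc_20_3 lc_d_rc_29_2 lc_d_rc_30_2 lc_d_rc_33_2 lc_d_rc_12_1 lc_d_rc_20_3 lc_d_rc_3_1 lc_d_rc_12_1 lc_d_rc_12_3 lc_d_rc_31_2 lc_d_rc_29_0 lc_d_rc_32_2 lc_d_Cert_tree lc_d_rc_27_0 lc_d_rc_33_2 lc_d_rc_28_0 lc_d_rc_28_2 lc_d_rc_33_2 lc_d_rc_20_3 lc_d_rc_29_2 lc_d_rc_30_2 lc_d_rc_32_2 lc_d_rc_29_4 lc_d_Cert_tree lc_d_rc_27_0 lc_d_rc_33_2 lc_d_rc_28_2 lc_d_rc_33_2 lc_d_rc_30_2 lc_d_rc_28_2 lc_d_rc_29_2 lc_d_rc_3_1 lc_d_rc_3_1 lc_d_rc_31_2 lc_d_rc_29_2 lc_d_rc_28_4 lc_d_rc_29_2 lc_d_rc_30_2 lc_d_Cert_tree lc_d_Cert_tree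 lc_d_rc_27_0 lc_d_rc_33_2 lc_d_rc_28_2 lc_d_rc_33_2 lc_d_rc_29_0 lc_d_Cert_tree lc_d_rc_27_0 lc_d_rc_33_2 lc_d_rc_27_0 lc_d_rc_33_2) (@D3.rec (fun _ => (Cert rels S Gen.d)) lc_d_rc_20_3 lc_d_rc_28_2 lc_d_rc_33_2 lc_d_rc_12_1 lc_d_rc_55_42 lc_d_rc_20_3 lc_d_rc_30_2 lc_d_rc_28_2 lc_d_rc_29_2 lc_d_rc_30_2 lc_d_rc_28_2 lc_d_rc_29_2 lc_d_rc_31_2 lc_d_rc_30_2 lc_d_Cert_tree lc_d_rc_32_2 lc_d_rc_31_2 lc_d_rc_29_2 lc_d_rc_28_4 lc_d_rc_20_3 lc_d_rc_33_2 lc_d_rc_20_3 lc_d_rc_12_1 lc_d_rc_3_1 lc_d_rc_33_2 lc_d_rc_30_2 lc_d_Cert_tree lc_d_Cert_tree lc_d_rc_27_0 lc_d_rc_33_2 lc_d_rc_29_2 lc_d_rc_28_2 lc_d_rc_33_2 lc_d_rc_31_2 lc_d_Cert_tree lc_d_rc_27_0 lc_d_rc_33_2 lc_d_rc_27_0 lc_d_rc_33_2 lc_d_rc_20_3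 lc_d_rc_28_2 lc_d_rc_33_2 lc_d_rc_12_1 lc_d_rc_20_3 lc_d_rc_20_3 lc_d_rc_28_2 lc_d_rc_29_2 lc_d_rc_28_2 lc_d_rc_33_2 lc_d_rc_30_2 lc_d_rc_28_2) (@D3.rec (fun _ => (Cert rels S Gen.d)) lc_d_rc_29_2 lc_d_Cert_tree lc_d_rc_32_2 lc_d_rc_27_0 lc_d_rc_33_2 lc_d_rc_20_3 lc_d_rc_20_5 lc_d_rc_33_2 lc_d_rc_20_3 lc_d_rc_33_2 lc_d_rc_12_1 lc_d_rc_20_3 lc_d_rc_29_2 lc_d_rc_3_1 lc_d_rc_12_1 lc_d_Cert_tree lc_d_rc_32_2 lc_d_rc_20_3 lc_d_rc_33_2 lc_d_rc_12_1 lc_d_rc_3_1 lc_d_rc_20_3 lc_d_rc_12_3 lc_d_rc_29_2 lc_d_rc_20_3 lc_d_rc_29_2 lc_d_rc_12_1 lc_d_Cert_tree lc_d_rc_3_1 lc_d_Cert_tree lc_d_rc_27_0 lc_d_rc_30_2 lc_d_rc_32_2 lc_d_Cert_tree lc_d_rc_27_0 lc_d_rc_33_2 lc_d_rc_30_2 lc_d_Cert_tree lc_d_Cert_tree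 lc_d_rc_27_0 lc_d_rc_33_2 lc_d_rc_3_1 lc_d_rc_28_2 lc_d_rc_33_2 lc_d_rc_28_0 lc_d_rc_28_2 lc_d_rc_33_2 lc_d_rc_20_3 lc_d_rc_28_2 lc_d_rc_28_0 lc_d_rc_3_3) (@D3.rec (fun _ => (Cert rels S Gen.d)) lc_d_rc_28_2 lc_d_rc_30_2 lc_d_Cert_tree lc_d_Cert_tree lc_d_rc_27_0 lc_d_rc_33_2 lc_d_rc_3_1 lc_d_rc_28_2 lc_d_rc_33_2 lc_d_rc_33_2 lc_d_Cert_tree lc_d_rc_27_0 lc_d_rc_33_2 lc_d_rc_27_0 lc_d_rc_33_2 lc_d_rc_20_3 lc_d_rc_28_2 lc_d_rc_33_2 lc_d_rc_20_3 lc_d_rc_30_2 lc_d_rc_28_2 lc_d_rc_30_2 lc_d_rc_30_2 lc_d_rc_28_2 lc_d_rc_29_2 lc_d_rc_31_2 lc_d_rc_30_2 lc_d_Cert_tree lc_d_rc_33_0 lc_d_rc_31_2 lc_d_rc_30_2 lc_d_rc_20_5 lc_d_rc_20_5 lc_d_rc_20_3 lc_d_rc_33_2 lc_d_rc_20_3 lc_d_rc_20_5 lc_d_Cert_tree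 lc_d_rc_32_2 lc_d_Cert_tree lc_d_rc_31_2 lc_d_Cert_tree lc_d_rc_27_0 lc_d_rc_33_2 lc_d_rc_27_0 lc_d_rc_33_2 lc_d_rc_29_2 lc_d_rc_28_2 lc_d_rc_33_2 lc_d_rc_12_1 lc_d_rc_30_0) (@D3.rec (fun _ => (Cert rels S Gen.d)) lc_d_rc_33_2 lc_d_rc_29_2 lc_d_rc_28_2 lc_d_rc_33_2 lc_d_Cert_tree lc_d_rc_27_0 lc_d_rc_33_2 lc_d_rc_20_3 lc_d_rc_28_2 lc_d_rc_33_2 lc_d_rc_20_3 lc_d_rc_28_2 lc_d_rc_33_2 lc_d_rc_12_1 lc_d_rc_33_0 lc_d_rc_20_3 lc_d_rc_30_2 lc_d_rc_28_2 lc_d_rc_29_2 lc_d_rc_3_1 lc_d_rc_30_0 lc_d_rc_12_1 lc_d_rc_33_0 lc_d_rc_30_0 lc_d_Cert_tree lc_d_rc_31_2 lc_d_rc_30_2 lc_d_Cert_tree lc_d_rc_30_2 lc_d_rc_28_2 lc_d_rc_29_2 lc_d_rc_31_2 lc_d_rc_30_2 lc_d_Cert_tree lc_d_rc_32_2 lc_d_rc_31_2 lc_d_Cert_tree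 lc_d_rc_27_0 lc_d_rc_32_2 lc_d_rc_28_0 lc_d_rc_20_5 lc_d_rc_20_3 lc_d_rc_33_2 lc_d_rc_12_1 lc_d_Cert_tree lc_d_rc_20_3 lc_d_rc_28_2 lc_d_rc_29_2 lc_d_rc_12_1 lc_d_rc_20_3 lc_d_rc_29_2) (@D3.rec (fun _ => (Cert rels S Gen.d)) lc_d_rc_3_1 lc_d_rc_12_1 lc_d_Cert_tree lc_d_rc_3_1 lc_d_Cert_tree lc_d_rc_27_0 lc_d_rc_12_1 lc_d_rc_20_3 lc_d_rc_29_2 lc_d_rc_3_1 lc_d_rc_28_4 lc_d_rc_12_1 lc_d_rc_33_2 lc_d_Cert_tree lc_d_rc_29_2 lc_d_rc_3_1 lc_d_rc_12_1 lc_d_Cert_tree lc_d_rc_3_1 lc_d_Cert_tree lc_d_rc_27_0 lc_d_rc_29_4 lc_d_rc_27_0 lc_d_rc_28_2 lc_d_rc_30_2 lc_d_rc_27_0 lc_d_rc_33_2 lc_d_rc_33_2 lc_d_rc_27_0 lc_d_rc_33_2 lc_d_rc_3_1 lc_d_rc_32_0 lc_d_rc_33_2 lc_d_rc_28_2 lc_d_rc_29_2 lc_d_rc_32_0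 lc_d_rc_33_2 lc_d_rc_12_1 lc_d_rc_27_0 lc_d_rc_33_2 lc_d_rc_33_2 lc_d_rc_12_1 lc_d_rc_20_3 lc_d_rc_29_2 lc_d_rc_33_2 lc_d_Cert_tree lc_d_rc_12_1 lc_d_rc_3_1 lc_d_rc_3_1 lc_d_rc_31_2 lc_d_Cert_tree) (@D3.rec (fun _ => (Cert rels S Gen.d)) lc_d_rc_31_2 lc_d_rc_32_2 lc_d_Cert_tree lc_d_rc_27_0 lc_d_rc_33_2 lc_d_rc_12_3 lc_d_rc_33_2 lc_d_rc_28_2 lc_d_rc_33_2 lc_d_rc_3_1 lc_d_rc_30_2 lc_d_rc_32_0 lc_d_rc_56_17 lc_d_rc_33_2 lc_d_rc_20_3 lc_d_rc_33_2 lc_d_rc_33_2 lc_d_rc_32_2 lc_d_Cert_tree lc_d_rc_27_0 lc_d_rc_33_2 lc_d_rc_32_2 lc_d_Cert_tree lc_d_Cert_tree lc_d_rc_27_0 lc_d_rc_33_2 lc_d_rc_20_3 lc_d_rc_28_2 lc_d_rc_33_2 lc_d_rc_27_0 lc_d_rc_33_2 lc_d_rc_33_2 lc_d_rc_30_2 lc_d_rc_28_2 lc_d_rc_29_2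 lc_d_rc_30_2 lc_d_rc_32_2 lc_d_rc_12_1 lc_d_rc_56_38 lc_d_rc_3_3 lc_d_rc_27_0 lc_d_rc_33_2 lc_d_rc_33_2 lc_d_rc_12_1 lc_d_rc_20_3 lc_d_rc_29_2 lc_d_rc_33_2 lc_d_rc_29_2 lc_d_rc_55_27 lc_d_rc_3_3 lc_d_rc_29_2) (@D3.rec (fun _ => (Cert rels S Gen.d)) lc_d_Cert_tree lc_d_rc_32_2 lc_d_Cert_tree lc_d_rc_27_0 lc_d_rc_33_2 lc_d_rc_33_2 lc_d_rc_32_2 lc_d_Cert_tree lc_d_rc_27_0 lc_d_rc_33_2 lc_d_rc_33_0 lc_d_Cert_tree lc_d_Cert_tree lc_d_rc_27_0 lc_d_rc_33_2 lc_d_rc_20_3 lc_d_rc_28_2 lc_d_rc_33_2 lc_d_rc_33_2 lc_d_rc_28_2 lc_d_rc_33_2 lc_d_rc_28_2 lc_d_rc_3_1 lc_d_rc_30_2 lc_d_rc_55_69 lc_d_rc_33_2 lc_d_rc_20_3 lc_d_rc_33_2 lc_d_rc_12_1 lc_d_rc_20_3 lc_d_rc_3_1 lc_d_rc_30_2 lc_d_Cert_tree lc_d_Cert_tree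 lc_d_rc_27_0 lc_d_rc_33_2 lc_d_rc_29_2 lc_d_rc_28_2 lc_d_rc_33_2 lc_d_rc_29_0 lc_d_rc_27_0 lc_d_rc_33_2 lc_d_rc_27_0 lc_d_rc_33_2 lc_d_rc_20_3 lc_d_rc_28_2 lc_d_rc_33_2 lc_d_rc_12_1 lc_d_rc_28_2 lc_d_rc_20_3 lc_d_rc_30_2) (@D3.rec (fun _ => (Cert rels S Gen.d)) lc_d_rc_28_2 lc_d_rc_29_2 lc_d_rc_28_2 lc_d_rc_29_2 lc_d_rc_31_2 lc_d_rc_30_2 lc_d_Cert_tree lc_d_rc_32_2 lc_d_rc_31_2 lc_d_rc_29_2 lc_d_rc_20_3 lc_d_rc_29_2 lc_d_rc_3_1 lc_d_rc_12_1 lc_d_Cert_tree lc_d_rc_33_2 lc_d_rc_29_2 lc_d_rc_33_2 lc_d_rc_27_0 lc_d_rc_33_2 lc_d_rc_33_2 lc_d_rc_29_2 lc_d_rc_27_0 lc_d_rc_33_2 lc_d_rc_33_2 lc_d_rc_3_1 lc_d_rc_31_2 lc_d_rc_33_2 lc_d_rc_30_2 lc_d_rc_33_2 lc_d_rc_29_2 lc_d_rc_30_2 lc_d_Cert_tree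 lc_d_rc_27_0 lc_d_rc_33_2 lc_d_rc_31_2 lc_d_rc_33_2 lc_d_rc_3_3 lc_d_rc_33_2 lc_d_rc_29_2 lc_d_rc_27_0 lc_d_rc_33_2 lc_d_rc_20_3 lc_d_rc_28_2 lc_d_rc_33_2 lc_d_rc_20_3 lc_d_rc_33_2 lc_d_rc_12_1 lc_d_rc_20_3 lc_d_rc_29_2 lc_d_rc_3_1) (@D3.rec (fun _ => (Cert rels S Gen.d)) lc_d_rc_12_1 lc_d_Cert_tree lc_d_rc_31_2 lc_d_rc_12_3 lc_d_rc_29_0 lc_d_rc_29_0 lc_d_Cert_tree lc_d_rc_27_0 lc_d_rc_33_2 lc_d_rc_3_1 lc_d_rc_3_1 lc_d_rc_30_2 lc_d_rc_32_2 lc_d_Cert_tree lc_d_rc_27_0 lc_d_rc_33_2 lc_d_rc_30_2 lc_d_Cert_tree lc_d_Cert_tree lc_d_rc_27_0 lc_d_rc_33_2 lc_d_rc_20_3 lc_d_rc_28_2 lc_d_rc_33_2 lc_d_rc_33_2 lc_d_rc_28_2 lc_d_rc_33_2 lc_d_rc_28_2 lc_d_rc_3_1 lc_d_rc_28_2 lc_d_rc_30_2 lc_d_rc_27_0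 lc_d_rc_33_2 lc_d_rc_33_2 lc_d_rc_20_3 lc_d_rc_33_2 lc_d_rc_12_1 lc_d_rc_20_3 lc_d_rc_3_1 lc_d_rc_28_2 lc_d_rc_30_2 lc_d_Cert_tree lc_d_Cert_tree lc_d_rc_27_0 lc_d_rc_33_2 lc_d_rc_29_2 lc_d_rc_28_2 lc_d_rc_33_2 lc_d_rc_30_2 lc_d_Cert_tree lc_d_rc_27_0) (@D3.rec (fun _ => (Cert rels S Gen.d)) lc_d_rc_33_2 lc_d_rc_27_0 lc_d_rc_33_2 lc_d_rc_20_3 lc_d_rc_28_2 lc_d_rc_33_2 lc_d_rc_12_1 lc_d_rc_20_3 lc_d_rc_20_3 lc_d_rc_30_2 lc_d_rc_28_2 lc_d_rc_29_2 lc_d_rc_33_2 lc_d_rc_30_2 lc_d_rc_28_2 lc_d_rc_29_2 lc_d_rc_31_2 lc_d_rc_30_2 lc_d_Cert_tree lc_d_rc_31_2 lc_d_rc_29_2 lc_d_rc_30_2 lc_d_rc_27_0 lc_d_rc_33_2 lc_d_rc_20_3 lc_d_rc_28_2 lc_d_rc_33_2 lc_d_rc_33_2 lc_d_rc_12_1 lc_d_rc_20_3 lc_d_rc_29_2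 lc_d_rc_3_1 lc_d_rc_12_1 lc_d_Cert_tree lc_d_rc_32_2 lc_d_rc_28_2 lc_d_rc_33_2 lc_d_rc_30_2 lc_d_rc_31_2 lc_d_rc_30_2 lc_d_rc_28_2 lc_d_rc_29_2 lc_d_rc_31_0 lc_d_rc_29_2 lc_d_rc_29_2 lc_d_rc_3_1 lc_d_rc_12_1 lc_d_rc_32_0 lc_d_rc_3_1 lc_d_Cert_tree lc_d_rc_27_0) (@D3.rec (fun _ => (Cert rels S Gen.d)) lc_d_rc_20_3 lc_d_rc_30_2 lc_d_rc_32_2 lc_d_Cert_tree lc_d_rc_27_0 lc_d_rc_33_2 lc_d_rc_30_2 lc_d_Cert_tree lc_d_Cert_tree lc_d_rc_27_0 lc_d_rc_33_2 lc_d_rc_20_3 lc_d_rc_33_2 lc_d_rc_33_2 lc_d_rc_3_1 lc_d_rc_30_2 lc_d_Cert_tree lc_d_Cert_tree lc_d_rc_27_0 lc_d_rc_33_2 lc_d_rc_29_2 lc_d_rc_28_2 lc_d_rc_33_2 lc_d_rc_29_0 lc_d_Cert_tree lc_d_rc_27_0 lc_d_rc_33_2 lc_d_rc_27_0 lc_d_rc_33_2 lc_d_rc_20_3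 lc_d_rc_28_2 lc_d_rc_33_2 lc_d_rc_12_1 lc_d_rc_28_2 lc_d_rc_20_3 lc_d_rc_28_2 lc_d_rc_3_1 lc_d_rc_28_2 lc_d_rc_33_2 lc_d_rc_30_2 lc_d_rc_28_2 lc_d_rc_3_1 lc_d_Cert_tree lc_d_rc_30_2 lc_d_rc_27_0 lc_d_rc_33_2 lc_d_rc_20_3 lc_d_rc_28_2 lc_d_rc_33_2 lc_d_rc_20_3 lc_d_rc_33_2) (@D3.rec (fun _ => (Cert rels S Gen.d)) lc_d_rc_12_1 lc_d_rc_20_3 lc_d_rc_3_1 lc_d_rc_3_1 lc_d_rc_12_1 lc_d_Cert_tree lc_d_rc_28_2 lc_d_Cert_tree lc_d_rc_31_2 lc_d_Cert_tree lc_d_rc_27_0 lc_d_rc_33_2 lc_d_rc_27_0 lc_d_rc_33_2 lc_d_rc_29_2 lc_d_rc_28_2 lc_d_rc_33_2 lc_d_rc_12_1 lc_d_rc_30_0 lc_d_rc_33_2 lc_d_rc_29_2 lc_d_rc_28_2 lc_d_rc_33_2 lc_d_Cert_tree lc_d_rc_27_0 lc_d_rc_33_2 lc_d_rc_20_3 lc_d_rc_28_2 lc_d_rc_33_2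 lc_d_rc_20_3 lc_d_rc_28_2 lc_d_rc_33_2 lc_d_rc_12_1 lc_d_rc_28_2 lc_d_rc_20_3 lc_d_rc_30_2 lc_d_rc_28_2 lc_d_rc_29_2 lc_d_rc_3_1 lc_d_rc_12_1 lc_d_rc_12_1 lc_d_rc_28_2 lc_d_rc_28_2 lc_d_Cert_tree lc_d_rc_31_2 lc_d_rc_30_2 lc_d_Cert_tree lc_d_rc_30_2 lc_d_rc_28_2 lc_d_rc_29_2 lc_d_rc_31_2) (@D3.rec (fun _ => (Cert rels S Gen.d)) lc_d_rc_30_2 lc_d_Cert_tree lc_d_rc_32_2 lc_d_rc_31_2 lc_d_Cert_tree lc_d_rc_27_0 lc_d_rc_32_2 lc_d_rc_29_2 lc_d_rc_30_2 lc_d_rc_20_3 lc_d_rc_28_2 lc_d_rc_33_2 lc_d_rc_12_1 lc_d_Cert_tree lc_d_rc_20_3 lc_d_rc_28_2 lc_d_rc_29_2 lc_d_rc_20_3 lc_d_rc_29_2 lc_d_rc_3_1 lc_d_rc_12_1 lc_d_Cert_tree lc_d_rc_3_1 lc_d_Cert_tree lc_d_rc_27_0 lc_d_rc_28_2 lc_d_rc_29_2 lc_d_rc_31_0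 lc_d_rc_12_1 lc_d_rc_31_0 lc_d_rc_33_2 lc_d_rc_31_0 lc_d_Cert_tree lc_d_rc_31_2 lc_d_rc_31_2 lc_d_rc_30_2 lc_d_rc_27_0 lc_d_rc_33_2 lc_d_rc_12_1 lc_d_rc_31_2 lc_d_rc_33_2 lc_d_rc_33_2 lc_d_rc_29_2 lc_d_rc_28_2 lc_d_rc_33_2 lc_d_rc_12_1 lc_d_rc_12_1 lc_d_rc_29_2 lc_d_rc_31_2 lc_d_rc_33_2 lc_d_rc_3_1) (@D3.rec (fun _ => (Cert rels S Gen.d)) lc_d_rc_31_2 lc_d_Cert_tree lc_d_rc_27_0 lc_d_rc_28_2 lc_d_rc_29_0 lc_d_Cert_tree lc_d_Cert_tree lc_d_rc_27_0 lc_d_rc_33_2 lc_d_rc_20_3 lc_d_rc_33_2 lc_d_rc_32_2 lc_d_rc_29_0 lc_d_Cert_tree lc_d_rc_27_0 lc_d_rc_33_2 lc_d_rc_27_0 lc_d_rc_33_2 lc_d_rc_28_2 lc_d_rc_33_2 lc_d_rc_28_2 lc_d_rc_3_1 lc_d_rc_28_2 lc_d_rc_33_2 lc_d_rc_30_2 lc_d_rc_28_2 lc_d_rc_3_1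 lc_d_Cert_tree lc_d_rc_31_2 lc_d_rc_32_2 lc_d_rc_33_2 lc_d_Cert_tree lc_d_rc_31_2 lc_d_Cert_tree lc_d_rc_27_0 lc_d_rc_33_2 lc_d_rc_27_0 lc_d_rc_33_2 lc_d_rc_28_2 lc_d_rc_33_2 lc_d_rc_28_2 lc_d_rc_33_2 lc_d_Cert_tree lc_d_rc_27_0 lc_d_rc_33_2 lc_d_rc_20_3 lc_d_rc_28_2 lc_d_rc_33_2 lc_d_rc_20_3 lc_d_rc_28_2 lc_d_rc_33_2) (@D3.rec (fun _ => (Cert rels S Gen.d)) lc_d_rc_12_1 lc_d_rc_31_2 lc_d_rc_20_3 lc_d_rc_30_2 lc_d_rc_28_2 lc_d_rc_29_2 lc_d_rc_12_1 lc_d_rc_33_2 lc_d_rc_33_2 lc_d_rc_31_2 lc_d_rc_30_2 lc_d_Cert_tree lc_d_rc_30_2 lc_d_rc_28_2 lc_d_rc_29_2 lc_d_rc_31_2 lc_d_rc_30_2 lc_d_Cert_tree lc_d_rc_32_2 lc_d_rc_31_2 lc_d_Cert_tree lc_d_rc_27_0 lc_d_rc_32_2 lc_d_rc_31_2 lc_d_rc_27_0 lc_d_rc_33_2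 lc_d_rc_20_3 lc_d_rc_28_2 lc_d_rc_33_2 lc_d_rc_12_1 lc_d_Cert_tree lc_d_rc_20_3 lc_d_rc_28_2 lc_d_rc_20_3 lc_d_rc_12_1 lc_d_rc_33_2 lc_d_rc_20_3 lc_d_rc_28_2 lc_d_rc_29_2 lc_d_rc_12_1 lc_d_rc_33_2 lc_d_rc_27_0 lc_d_rc_3_1 lc_d_rc_30_2 lc_d_Cert_tree lc_d_Cert_tree lc_d_rc_27_0 lc_d_rc_33_2 lc_d_rc_33_2 lc_d_rc_32_2 lc_d_Cert_tree) (@D3.rec (fun _ => (Cert rels S Gen.d)) lc_d_rc_27_0 lc_d_rc_33_2 lc_d_rc_27_0 lc_d_rc_33_2 lc_d_rc_20_3 lc_d_rc_33_2 lc_d_rc_20_3 lc_d_rc_12_1 lc_d_rc_3_1 lc_d_Cert_tree lc_d_rc_31_2 lc_d_Cert_tree lc_d_rc_27_0 lc_d_rc_33_2 lc_d_rc_27_0 lc_d_rc_33_2 lc_d_rc_28_2 lc_d_rc_33_2 lc_d_rc_28_2 lc_d_rc_33_2 lc_d_Cert_tree lc_d_rc_27_0 lc_d_rc_33_2 lc_d_rc_20_3 lc_d_rc_28_2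 lc_d_rc_33_2 lc_d_rc_20_3 lc_d_rc_28_2 lc_d_rc_33_2 lc_d_rc_12_1 lc_d_rc_28_2 lc_d_rc_20_3 lc_d_rc_30_2 lc_d_rc_28_2 lc_d_rc_3_1 lc_d_rc_12_1 lc_d_rc_28_2 lc_d_rc_12_3 lc_d_Cert_tree lc_d_rc_30_2 lc_d_rc_28_2 lc_d_rc_3_1 lc_d_rc_30_2 lc_d_Cert_tree lc_d_rc_27_0 lc_d_rc_27_0 lc_d_rc_33_2 lc_d_rc_20_3 lc_d_rc_28_2 lc_d_rc_33_2 lc_d_rc_12_1) (@D3.rec (fun _ => (Cert rels S Gen.d)) lc_d_Cert_tree lc_d_rc_20_3 lc_d_rc_28_2 lc_d_rc_20_3 lc_d_rc_31_2 lc_d_rc_12_1 lc_d_rc_33_2 lc_d_rc_28_2 lc_d_Cert_tree lc_d_rc_27_0 lc_d_rc_33_2 lc_d_Cert_tree lc_d_rc_27_0 lc_d_rc_33_2 lc_d_rc_29_2 lc_d_rc_28_2 lc_d_rc_33_2 lc_d_rc_29_2 lc_d_rc_28_2 lc_d_rc_33_2 lc_d_rc_12_1 lc_d_rc_3_1 lc_d_rc_33_2 lc_d_rc_29_2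 lc_d_rc_28_2 lc_d_rc_33_2 lc_d_rc_12_1 lc_d_rc_3_1 lc_d_rc_3_1 lc_d_rc_12_3 lc_d_rc_29_2 lc_d_rc_30_2 lc_d_Cert_tree lc_d_rc_27_0 lc_d_rc_33_2 lc_d_rc_20_3 lc_d_rc_28_2 lc_d_rc_33_2 lc_d_rc_12_1 lc_d_Cert_tree lc_d_rc_20_3 lc_d_rc_28_2 lc_d_rc_28_2 lc_d_rc_29_2 lc_d_rc_12_1 lc_d_rc_28_2 lc_d_rc_20_3 lc_d_rc_30_2 lc_d_rc_28_2 lc_d_rc_29_2 lc_d_rc_3_1) (@D3.rec (fun _ => (Cert rels S Gen.d)) lc_d_rc_12_1 lc_d_rc_12_1 lc_d_rc_30_2 lc_d_rc_28_2 lc_d_Cert_tree lc_d_rc_31_2 lc_d_rc_30_2 lc_d_Cert_tree lc_d_rc_3_1 lc_d_rc_12_1 lc_d_rc_12_1 lc_d_Cert_tree lc_d_rc_28_2 lc_d_rc_28_2 lc_d_Cert_tree lc_d_rc_27_0 lc_d_rc_32_2 lc_d_rc_31_2 lc_d_Cert_tree lc_d_rc_27_0 lc_d_rc_31_2 lc_d_rc_30_2 lc_d_Cert_tree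 lc_d_rc_32_2 lc_d_rc_31_2 lc_d_Cert_tree lc_d_rc_27_0 lc_d_rc_32_2 lc_d_Cert_tree lc_d_rc_27_0 lc_d_rc_20_3 lc_d_rc_29_2 lc_d_rc_20_3 lc_d_rc_3_3 lc_d_rc_33_2 lc_d_rc_12_1 lc_d_Cert_tree lc_d_rc_20_3 lc_d_rc_28_2 lc_d_rc_20_5 lc_d_rc_3_1 lc_d_Cert_tree lc_d_rc_12_1 lc_d_rc_27_0 lc_d_rc_33_2 lc_d_Cert_tree lc_d_Cert_tree lc_d_rc_3_1 lc_d_rc_12_1 lc_d_Cert_tree lc_d_rc_3_1) (@D3.rec (fun _ => (Cert rels S Gen.d)) lc_d_Cert_tree lc_d_rc_27_0 lc_d_rc_29_4 lc_d_rc_27_0 lc_d_rc_28_2 lc_d_rc_20_5 lc_d_rc_12_3 lc_d_rc_33_2 lc_d_rc_12_3 lc_d_rc_3_1 lc_d_rc_28_4 lc_d_rc_12_1 lc_d_rc_20_1 lc_d_rc_3_1 lc_d_rc_27_0 lc_d_rc_33_2 lc_d_Cert_tree lc_d_rc_33_2 lc_d_rc_27_0 lc_d_rc_27_0 lc_d_rc_3_1 lc_d_Cert_tree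 lc_d_rc_27_0 lc_d_rc_20_1 lc_d_rc_27_0 lc_d_rc_28_2 lc_d_rc_28_2 lc_d_rc_20_5 lc_d_rc_27_0 lc_d_rc_33_2 lc_d_rc_31_2 lc_d_rc_32_2 lc_d_rc_28_2 lc_d_rc_27_0 lc_d_rc_33_2 lc_d_rc_29_2 lc_d_rc_12_1 lc_d_rc_28_2 lc_d_rc_28_2 lc_d_rc_32_0 lc_d_rc_28_2 lc_d_rc_27_0 lc_d_rc_28_2 lc_d_rc_27_0 lc_d_rc_33_2 lc_d_rc_20_3 lc_d_rc_28_2 lc_d_rc_33_2 lc_d_rc_20_5 lc_d_rc_29_2 lc_d_rc_33_2) (@D3.rec (fun _ => (Cert rels S Gen.d)) lc_d_rc_12_1 lc_d_Cert_tree lc_d_rc_33_2 lc_d_rc_28_2 lc_d_rc_12_1 lc_d_rc_33_2 lc_d_rc_31_2 lc_d_rc_12_1 lc_d_rc_33_2 lc_d_rc_20_3 lc_d_rc_12_1 lc_d_rc_3_1 lc_d_rc_28_4 lc_d_rc_27_0 lc_d_rc_29_4 lc_d_rc_31_2 lc_d_rc_31_2 lc_d_rc_30_2 lc_d_rc_27_0 lc_d_Cert_tree lc_d_rc_30_2 lc_d_Cert_tree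 lc_d_rc_29_2 lc_d_rc_33_2 lc_d_Cert_tree lc_d_rc_27_0 lc_d_rc_27_0 lc_d_rc_29_0 lc_d_Cert_tree lc_d_rc_27_0 lc_d_rc_33_0 lc_d_rc_27_0 lc_d_rc_28_2 lc_d_rc_30_2 lc_d_rc_27_0 lc_d_rc_20_1 lc_d_rc_27_0 lc_d_rc_27_0 lc_d_rc_27_0 lc_d_rc_33_2 lc_d_rc_33_2 lc_d_rc_27_0 lc_d_rc_33_2 lc_d_rc_28_2 lc_d_rc_33_2 lc_d_rc_28_2 lc_d_rc_29_2 lc_d_rc_33_2 lc_d_rc_33_2 lc_d_rc_27_0 lc_d_rc_33_2) (@D3.rec (fun _ => (Cert rels S Gen.d)) lc_d_rc_20_3 lc_d_rc_33_2 lc_d_rc_12_1 lc_d_rc_20_3 lc_d_rc_20_3 lc_d_rc_30_2 lc_d_rc_28_2 lc_d_rc_29_2 lc_d_rc_30_2 lc_d_rc_32_2 lc_d_rc_31_2 lc_d_rc_3_3 lc_d_rc_20_3 lc_d_rc_12_1 lc_d_rc_3_1 lc_d_Cert_tree lc_d_rc_27_0 lc_d_rc_33_2 lc_d_rc_29_2 lc_d_rc_33_2 lc_d_rc_27_0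 lc_d_rc_33_2 lc_d_rc_33_2 lc_d_rc_20_3 lc_d_rc_29_2 lc_d_Cert_tree lc_d_Cert_tree lc_d_rc_27_0 lc_d_rc_33_2 lc_d_rc_33_2 lc_d_rc_27_0 lc_d_rc_33_2 lc_d_rc_28_2 lc_d_rc_33_2 lc_d_rc_28_2 lc_d_rc_29_2 lc_d_rc_30_2 lc_d_rc_28_2 lc_d_rc_28_4 lc_d_rc_27_0 lc_d_rc_33_2 lc_d_rc_33_2 lc_d_rc_33_2 lc_d_rc_29_2 lc_d_rc_27_0 lc_d_rc_33_2 lc_d_rc_33_2 lc_d_rc_3_1 lc_d_rc_12_1 lc_d_rc_33_2 lc_d_Cert_tree) (@D3.rec (fun _ => (Cert rels S Gen.d)) lc_d_rc_27_0 lc_d_rc_33_2 lc_d_rc_20_3 lc_d_rc_28_2 lc_d_rc_33_2 lc_d_rc_20_3 lc_d_rc_33_2 lc_d_rc_12_1 lc_d_rc_20_3 lc_d_rc_20_3 lc_d_rc_30_2 lc_d_rc_28_2 lc_d_rc_29_2 lc_d_rc_12_1 lc_d_rc_12_1 lc_d_rc_20_3 lc_d_rc_20_3 lc_d_Cert_tree lc_d_rc_31_2 lc_d_rc_30_2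 lc_d_rc_29_2 lc_d_rc_31_2 lc_d_rc_30_2 lc_d_rc_32_2 lc_d_rc_31_2 lc_d_rc_32_2 lc_d_rc_28_4 lc_d_rc_20_3 lc_d_rc_33_2 lc_d_rc_12_1 lc_d_Cert_tree lc_d_rc_20_3 lc_d_rc_28_2 lc_d_rc_12_1 lc_d_rc_20_3 lc_d_rc_12_1 lc_d_Cert_tree lc_d_rc_3_3 lc_d_rc_27_0 lc_d_rc_3_1 lc_d_rc_12_1 lc_d_rc_3_1 lc_d_rc_12_1 lc_d_rc_3_1 lc_d_rc_20_5 lc_d_rc_20_1 lc_d_rc_27_0 lc_d_rc_28_2 lc_d_rc_3_1 lc_d_rc_12_1 lc_d_Cert_tree) (@D3.rec (fun _ => (Cert rels S Gen.d)) lc_d_rc_3_1 lc_d_Cert_tree lc_d_rc_27_0 lc_d_Cert_tree lc_d_Cert_tree lc_d_rc_27_0 lc_d_rc_33_2 lc_d_rc_27_0 lc_d_rc_33_2 lc_d_rc_33_2 lc_d_rc_33_2 lc_d_rc_27_0 lc_d_rc_33_2 lc_d_rc_20_3 lc_d_rc_28_2 lc_d_rc_33_2 lc_d_rc_20_3 lc_d_rc_33_2 lc_d_rc_12_1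 lc_d_rc_20_3 lc_d_rc_29_2 lc_d_rc_3_1 lc_d_rc_12_1 lc_d_Cert_tree lc_d_rc_12_1 lc_d_rc_20_3 lc_d_rc_29_2 lc_d_rc_12_1 lc_d_rc_20_3 lc_d_rc_29_2 lc_d_rc_3_1 lc_d_rc_12_1 lc_d_Cert_tree lc_d_rc_3_1 lc_d_Cert_tree lc_d_rc_27_0 lc_d_rc_3_1 lc_d_rc_12_1 lc_d_Cert_tree lc_d_rc_3_1 lc_d_rc_12_1 lc_d_rc_3_1 lc_d_rc_3_1 lc_d_Cert_tree lc_d_rc_27_0 lc_d_rc_55_24 lc_d_rc_27_0 lc_d_rc_28_2 lc_d_rc_3_3 lc_d_rc_33_2 lc_d_Cert_tree)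
def ce_d_11 : D2 → D3 → (Cert rels S Gen.d) := @D2.rec (fun _ => D3 → (Cert rels S Gen.d)) (@D3.rec (fun _ => (Cert rels S Gen.d)) lc_d_rc_27_0 lc_d_rc_33_2 lc_d_rc_27_0 lc_d_rc_33_2 lc_d_rc_33_2 lc_d_rc_27_0 lc_d_rc_27_0 lc_d_rc_33_2 lc_d_rc_27_0 lc_d_rc_33_2 lc_d_rc_3_1 lc_d_rc_33_2 lc_d_rc_3_1 lc_d_rc_33_2 lc_d_Cert_tree lc_d_rc_27_0 lc_d_rc_33_2 lc_d_rc_20_3 lc_d_rc_28_2 lc_d_rc_33_2 lc_d_rc_20_3 lc_d_rc_28_2 lc_d_rc_33_2 lc_d_rc_12_1 lc_d_rc_20_3 lc_d_rc_20_3 lc_d_rc_30_2 lc_d_rc_28_2 lc_d_rc_31_2 lc_d_rc_12_1 lc_d_rc_20_3 lc_d_Cert_tree lc_d_rc_28_2 lc_d_rc_30_2 lc_d_rc_28_2 lc_d_rc_30_2 lc_d_rc_27_0 lc_d_rc_33_2 lc_d_rc_20_3 lc_d_rc_32_2 lc_d_rc_33_2 lc_d_rc_12_1 lc_d_Cert_tree lc_d_rc_20_3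 lc_d_rc_31_2 lc_d_rc_29_2 lc_d_rc_12_1 lc_d_rc_20_3 lc_d_rc_20_5 lc_d_rc_31_2 lc_d_rc_12_1) (@D3.rec (fun _ => (Cert rels S Gen.d)) lc_d_Cert_tree lc_d_rc_33_2 lc_d_Cert_tree lc_d_rc_27_0 lc_d_rc_27_0 lc_d_rc_33_2 lc_d_Cert_tree lc_d_rc_27_0 lc_d_rc_33_2 lc_d_rc_29_2 lc_d_rc_28_2 lc_d_rc_33_2 lc_d_rc_29_2 lc_d_rc_33_2 lc_d_rc_12_1 lc_d_rc_30_0 lc_d_rc_33_2 lc_d_rc_3_1 lc_d_rc_28_2 lc_d_rc_33_2 lc_d_rc_30_2 lc_d_rc_12_1 lc_d_rc_3_1 lc_d_Cert_tree lc_d_rc_31_2 lc_d_rc_29_0 lc_d_rc_28_4 lc_d_rc_27_0 lc_d_rc_33_2 lc_d_rc_20_3 lc_d_rc_28_2 lc_d_rc_33_2 lc_d_rc_12_1 lc_d_Cert_tree lc_d_rc_20_3 lc_d_rc_28_2 lc_d_rc_28_2 lc_d_rc_29_2 lc_d_rc_12_1 lc_d_rc_20_3 lc_d_rc_20_3 lc_d_rc_30_2 lc_d_rc_28_2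 lc_d_rc_29_2 lc_d_rc_3_1 lc_d_rc_12_1 lc_d_rc_12_1 lc_d_rc_20_3 lc_d_rc_20_3 lc_d_Cert_tree lc_d_rc_31_2) (@D3.rec (fun _ => (Cert rels S Gen.d)) lc_d_rc_30_2 lc_d_rc_31_2 lc_d_rc_20_3 lc_d_rc_3_1 lc_d_rc_12_1 lc_d_rc_12_1 lc_d_Cert_tree lc_d_rc_20_3 lc_d_rc_20_3 lc_d_Cert_tree lc_d_rc_27_0 lc_d_rc_32_2 lc_d_rc_31_2 lc_d_rc_30_2 lc_d_rc_30_2 lc_d_rc_32_2 lc_d_rc_31_2 lc_d_rc_32_2 lc_d_rc_20_3 lc_d_rc_33_2 lc_d_rc_12_1 lc_d_Cert_tree lc_d_rc_20_3 lc_d_rc_32_2 lc_d_rc_29_2 lc_d_rc_3_1 lc_d_Cert_tree lc_d_rc_12_1 lc_d_rc_27_0 lc_d_rc_33_2 lc_d_Cert_tree lc_d_rc_31_2 lc_d_rc_3_1 lc_d_rc_12_1 lc_d_Cert_tree lc_d_rc_3_1 lc_d_Cert_tree lc_d_rc_27_0 lc_d_rc_29_4 lc_d_rc_27_0 lc_d_rc_28_2 lc_d_rc_31_2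 lc_d_rc_29_2 lc_d_rc_29_2 lc_d_rc_28_2 lc_d_rc_20_5 lc_d_rc_3_1 lc_d_rc_28_4 lc_d_Cert_tree lc_d_rc_33_2 lc_d_rc_56_59) (@D3.rec (fun _ => (Cert rels S Gen.d)) lc_d_rc_27_0 lc_d_rc_3_1 lc_d_rc_29_2 lc_d_rc_29_4 lc_d_rc_27_0 lc_d_rc_27_0 lc_d_rc_33_2 lc_d_rc_27_0 lc_d_rc_33_2 lc_d_rc_20_3 lc_d_rc_33_2 lc_d_rc_32_2 lc_d_rc_20_3 lc_d_rc_3_1 lc_d_rc_29_2 lc_d_rc_33_2 lc_d_rc_33_2 lc_d_rc_20_3 lc_d_rc_20_3 lc_d_rc_28_2 lc_d_rc_29_2 lc_d_Cert_tree lc_d_rc_29_2 lc_d_rc_33_2 lc_d_rc_27_0 lc_d_rc_33_2 lc_d_rc_12_3 lc_d_rc_33_2 lc_d_rc_20_3 lc_d_rc_3_1 lc_d_rc_31_2 lc_d_rc_33_2 lc_d_rc_29_2 lc_d_Cert_tree lc_d_rc_12_1 lc_d_rc_33_2 lc_d_rc_33_2 lc_d_rc_30_2 lc_d_rc_20_3 lc_d_rc_28_2 lc_d_rc_33_2 lc_d_rc_12_1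 lc_d_rc_20_3 lc_d_rc_29_2 lc_d_rc_3_1 lc_d_rc_12_1 lc_d_rc_12_1 lc_d_rc_20_3 lc_d_rc_20_3 lc_d_Cert_tree lc_d_rc_31_2) (@D3.rec (fun _ => (Cert rels S Gen.d)) lc_d_rc_30_2 lc_d_rc_29_2 lc_d_rc_3_3 lc_d_rc_31_2 lc_d_rc_20_3 lc_d_rc_28_2 lc_d_rc_29_2 lc_d_rc_12_1 lc_d_Cert_tree lc_d_rc_3_1 lc_d_Cert_tree lc_d_rc_27_0 lc_d_rc_32_2 lc_d_rc_3_3 lc_d_rc_33_2 lc_d_rc_29_2 lc_d_rc_29_2 lc_d_Cert_tree lc_d_rc_27_0 lc_d_rc_33_2 lc_d_rc_33_2 lc_d_Cert_tree lc_d_rc_27_0 lc_d_rc_33_2 lc_d_rc_27_0 lc_d_rc_33_2 lc_d_rc_20_3 lc_d_rc_33_2 lc_d_rc_20_3 lc_d_rc_3_1 lc_d_rc_31_0 lc_d_rc_20_3 lc_d_rc_33_2 lc_d_rc_31_2 lc_d_rc_20_3 lc_d_rc_3_1 lc_d_rc_3_1 lc_d_rc_33_2 lc_d_Cert_tree lc_d_rc_27_0 lc_d_rc_33_2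 lc_d_rc_29_2 lc_d_rc_33_2 lc_d_rc_12_1 lc_d_rc_33_2 lc_d_rc_33_2 lc_d_rc_33_2 lc_d_rc_27_0 lc_d_rc_33_2 lc_d_rc_20_3 lc_d_rc_28_2) (@D3.rec (fun _ => (Cert rels S Gen.d)) lc_d_rc_33_2 lc_d_rc_33_2 lc_d_rc_20_3 lc_d_rc_20_3 lc_d_rc_30_2 lc_d_rc_28_2 lc_d_rc_29_2 lc_d_rc_3_1 lc_d_rc_12_1 lc_d_rc_12_1 lc_d_rc_20_3 lc_d_Cert_tree lc_d_rc_29_2 lc_d_rc_30_2 lc_d_Cert_tree lc_d_rc_20_3 lc_d_rc_28_2 lc_d_rc_29_2 lc_d_Cert_tree lc_d_rc_3_1 lc_d_Cert_tree lc_d_rc_27_0 lc_d_rc_56_17 lc_d_rc_20_1 lc_d_rc_27_0 lc_d_rc_28_2 lc_d_rc_27_0 lc_d_rc_33_2 lc_d_rc_29_2 lc_d_rc_33_2 lc_d_rc_12_1 lc_d_rc_33_2 lc_d_rc_3_1 lc_d_Cert_tree lc_d_rc_27_0 lc_d_rc_33_2 lc_d_rc_20_3 lc_d_rc_28_2 lc_d_rc_33_2 lc_d_rc_33_2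 lc_d_rc_20_3 lc_d_rc_3_1 lc_d_rc_3_1 lc_d_rc_12_1 lc_d_Cert_tree lc_d_rc_27_0 lc_d_rc_33_2 lc_d_rc_33_2 lc_d_rc_20_3 lc_d_rc_28_2 lc_d_rc_3_1) (@D3.rec (fun _ => (Cert rels S Gen.d)) lc_d_rc_3_1 lc_d_Cert_tree lc_d_rc_3_1 lc_d_Cert_tree lc_d_rc_27_0 lc_d_rc_29_2 lc_d_rc_55_75 lc_d_rc_33_2 lc_d_rc_12_1 lc_d_rc_33_2 lc_d_rc_33_2 lc_d_rc_3_3 lc_d_rc_12_1 lc_d_rc_28_0 lc_d_rc_20_3 lc_d_Cert_tree lc_d_rc_29_2 lc_d_rc_29_2 lc_d_rc_27_0 lc_d_rc_33_2 lc_d_rc_20_3 lc_d_rc_28_2 lc_d_rc_33_2 lc_d_rc_12_1 lc_d_Cert_tree lc_d_rc_20_3 lc_d_rc_28_2 lc_d_rc_28_2 lc_d_rc_29_2 lc_d_rc_12_1 lc_d_rc_20_3 lc_d_rc_29_2 lc_d_rc_3_1 lc_d_rc_12_1 lc_d_rc_12_1 lc_d_rc_20_3 lc_d_rc_20_3 lc_d_Cert_tree lc_d_rc_31_2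 lc_d_rc_30_2 lc_d_rc_29_2 lc_d_rc_3_1 lc_d_rc_3_1 lc_d_rc_12_1 lc_d_rc_12_1 lc_d_Cert_tree lc_d_rc_20_3 lc_d_rc_20_3 lc_d_Cert_tree lc_d_rc_27_0 lc_d_rc_32_2) (@D3.rec (fun _ => (Cert rels S Gen.d)) lc_d_rc_31_2 lc_d_rc_29_2 lc_d_rc_32_2 lc_d_rc_31_2 lc_d_rc_32_2 lc_d_rc_20_3 lc_d_rc_33_2 lc_d_rc_12_1 lc_d_rc_20_3 lc_d_rc_28_2 lc_d_rc_3_3 lc_d_rc_3_1 lc_d_Cert_tree lc_d_rc_12_1 lc_d_rc_27_0 lc_d_rc_33_2 lc_d_Cert_tree lc_d_rc_28_4 lc_d_rc_12_1 lc_d_Cert_tree lc_d_rc_3_1 lc_d_Cert_tree lc_d_rc_27_0 lc_d_Cert_tree lc_d_rc_27_0 lc_d_rc_28_2 lc_d_rc_29_2 lc_d_rc_31_2 lc_d_rc_30_0 lc_d_rc_31_0 lc_d_rc_12_3 lc_d_rc_20_1 lc_d_rc_28_4 lc_d_rc_3_1 lc_d_rc_27_0 lc_d_rc_33_2 lc_d_rc_12_1 lc_d_rc_33_2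 lc_d_rc_3_3 lc_d_rc_3_1 lc_d_rc_31_0 lc_d_Cert_tree lc_d_rc_27_0 lc_d_rc_28_2 lc_d_rc_27_0 lc_d_rc_20_3 lc_d_rc_12_1 lc_d_rc_30_2 lc_d_Cert_tree lc_d_rc_27_0 lc_d_rc_33_2) (@D3.rec (fun _ => (Cert rels S Gen.d)) lc_d_rc_28_2 lc_d_rc_33_2 lc_d_rc_33_2 lc_d_rc_3_1 lc_d_rc_31_2 lc_d_rc_27_0 lc_d_rc_33_2 lc_d_Cert_tree lc_d_rc_27_0 lc_d_rc_33_2 lc_d_rc_28_2 lc_d_rc_33_2 lc_d_rc_29_2 lc_d_rc_33_2 lc_d_rc_30_2 lc_d_rc_31_2 lc_d_rc_33_2 lc_d_rc_30_0 lc_d_rc_27_0 lc_d_rc_33_2 lc_d_rc_20_3 lc_d_rc_28_2 lc_d_rc_33_2 lc_d_rc_12_1 lc_d_Cert_tree lc_d_rc_20_3 lc_d_rc_28_2 lc_d_rc_28_2 lc_d_rc_29_2 lc_d_rc_12_1 lc_d_rc_20_3 lc_d_rc_20_3 lc_d_rc_30_2 lc_d_rc_28_2 lc_d_rc_29_2 lc_d_rc_12_1 lc_d_rc_12_1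 lc_d_rc_20_3 lc_d_rc_20_3 lc_d_rc_33_2 lc_d_rc_30_2 lc_d_rc_31_2 lc_d_rc_12_1 lc_d_rc_12_1 lc_d_Cert_tree lc_d_rc_31_2 lc_d_rc_30_2 lc_d_rc_20_3 lc_d_rc_33_2 lc_d_rc_12_1 lc_d_Cert_tree) (@D3.rec (fun _ => (Cert rels S Gen.d)) lc_d_rc_20_3 lc_d_rc_12_1 lc_d_rc_33_0 lc_d_Cert_tree lc_d_rc_12_1 lc_d_rc_27_0 lc_d_rc_33_2 lc_d_rc_32_2 lc_d_rc_12_1 lc_d_rc_29_4 lc_d_rc_30_2 lc_d_rc_3_1 lc_d_rc_33_2 lc_d_rc_29_4 lc_d_rc_3_1 lc_d_rc_20_5 lc_d_rc_33_2 lc_d_rc_27_0 lc_d_rc_31_2 lc_d_rc_32_2 lc_d_rc_27_0 lc_d_rc_33_2 lc_d_rc_27_0 lc_d_rc_33_2 lc_d_rc_28_2 lc_d_rc_33_2 lc_d_rc_33_2 lc_d_rc_33_2 lc_d_rc_27_0 lc_d_rc_33_2 lc_d_rc_20_3 lc_d_rc_28_2 lc_d_rc_33_2 lc_d_rc_12_1 lc_d_Cert_tree lc_d_rc_20_3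 lc_d_rc_28_2 lc_d_rc_3_1 lc_d_rc_12_1 lc_d_rc_20_3 lc_d_rc_3_1 lc_d_rc_3_1 lc_d_rc_12_1 lc_d_rc_12_3 lc_d_rc_3_1 lc_d_rc_3_3 lc_d_rc_20_3 lc_d_rc_33_2 lc_d_rc_12_1 lc_d_rc_32_2 lc_d_rc_20_3) (@D3.rec (fun _ => (Cert rels S Gen.d)) lc_d_rc_20_1 lc_d_rc_3_1 lc_d_Cert_tree lc_d_rc_12_1 lc_d_rc_27_0 lc_d_rc_33_2 lc_d_rc_3_1 lc_d_rc_12_1 lc_d_rc_3_1 lc_d_rc_55_30 lc_d_rc_20_3 lc_d_rc_28_2 lc_d_rc_33_2 lc_d_rc_27_0 lc_d_rc_33_2 lc_d_rc_29_2 lc_d_rc_3_3 lc_d_rc_33_2 lc_d_rc_12_1 lc_d_Cert_tree lc_d_rc_33_2 lc_d_rc_29_4 lc_d_rc_28_2 lc_d_rc_33_2 lc_d_rc_12_1 lc_d_rc_28_2 lc_d_rc_33_2 lc_d_rc_3_1 lc_d_rc_33_2 lc_d_rc_3_1 lc_d_rc_28_2 lc_d_rc_12_1 lc_d_rc_29_2 lc_d_rc_28_2 lc_d_rc_12_3 lc_d_rc_29_2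 lc_d_rc_30_2 lc_d_rc_33_2 lc_d_rc_3_1 lc_d_rc_28_2 lc_d_rc_3_3 lc_d_rc_29_2 lc_d_rc_30_2 lc_d_Cert_tree lc_d_rc_29_2 lc_d_rc_31_2 lc_d_rc_33_2 lc_d_rc_20_3 lc_d_rc_28_2 lc_d_rc_33_2 lc_d_rc_12_1) (@D3.rec (fun _ => (Cert rels S Gen.d)) lc_d_Cert_tree lc_d_rc_20_3 lc_d_rc_32_2 lc_d_rc_28_2 lc_d_rc_29_2 lc_d_rc_3_1 lc_d_Cert_tree lc_d_rc_12_1 lc_d_rc_27_0 lc_d_rc_30_2 lc_d_rc_33_2 lc_d_Cert_tree lc_d_rc_28_2 lc_d_rc_28_2 lc_d_Cert_tree lc_d_rc_3_1 lc_d_rc_12_1 lc_d_rc_12_1 lc_d_rc_20_3 lc_d_rc_20_3 lc_d_Cert_tree lc_d_rc_31_2 lc_d_rc_30_2 lc_d_rc_32_2 lc_d_rc_3_1 lc_d_rc_3_1 lc_d_rc_12_1 lc_d_rc_12_1 lc_d_Cert_tree lc_d_rc_20_3 lc_d_rc_20_3 lc_d_Cert_tree lc_d_rc_27_0 lc_d_rc_32_2 lc_d_rc_31_2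 lc_d_rc_29_2 lc_d_rc_3_1 lc_d_rc_30_0 lc_d_rc_12_1 lc_d_rc_12_1 lc_d_Cert_tree lc_d_rc_27_0 lc_d_rc_20_3 lc_d_rc_20_3 lc_d_Cert_tree lc_d_rc_27_0 lc_d_rc_28_2 lc_d_rc_32_2 lc_d_rc_31_2 lc_d_rc_32_2 lc_d_rc_31_2) (@D3.rec (fun _ => (Cert rels S Gen.d)) lc_d_rc_32_2 lc_d_rc_20_3 lc_d_rc_12_1 lc_d_rc_27_0 lc_d_rc_33_2 lc_d_Cert_tree lc_d_rc_3_1 lc_d_rc_27_0 lc_d_rc_29_2 lc_d_rc_33_2 lc_d_rc_27_0 lc_d_rc_3_1 lc_d_rc_27_0 lc_d_rc_31_2 lc_d_rc_27_0 lc_d_rc_28_2 lc_d_rc_28_4 lc_d_rc_55_84 lc_d_rc_33_2 lc_d_rc_29_4 lc_d_rc_32_2 lc_d_rc_20_3 lc_d_rc_33_2 lc_d_rc_29_2 lc_d_rc_3_3 lc_d_rc_28_2 lc_d_rc_33_2 lc_d_rc_12_1 lc_d_Cert_tree lc_d_rc_20_3 lc_d_rc_28_2 lc_d_rc_29_2 lc_d_rc_29_2 lc_d_rc_33_2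 lc_d_rc_12_1 lc_d_Cert_tree lc_d_rc_33_2 lc_d_rc_28_2 lc_d_rc_3_1 lc_d_Cert_tree lc_d_rc_12_1 lc_d_rc_27_0 lc_d_rc_33_2 lc_d_rc_3_1 lc_d_rc_12_1 lc_d_rc_3_1 lc_d_rc_29_2 lc_d_rc_33_2 lc_d_rc_28_2 lc_d_rc_12_1 lc_d_rc_30_2) (@D3.rec (fun _ => (Cert rels S Gen.d)) lc_d_rc_27_0 lc_d_rc_12_1 lc_d_rc_20_3 lc_d_Cert_tree lc_d_rc_29_2 lc_d_Cert_tree lc_d_rc_27_0 lc_d_rc_28_2 lc_d_Cert_tree lc_d_Cert_tree lc_d_rc_28_4 lc_d_rc_27_0 lc_d_rc_27_0 lc_d_Cert_tree lc_d_rc_27_0 lc_d_Cert_tree lc_d_rc_27_0 lc_d_rc_56_17 lc_d_rc_27_0 lc_d_rc_20_3 lc_d_rc_32_2 lc_d_rc_27_0 lc_d_rc_29_2 lc_d_rc_27_0 lc_d_rc_12_3 lc_d_rc_27_0 lc_d_rc_28_2 lc_d_rc_12_1 lc_d_rc_12_1 lc_d_rc_20_3 lc_d_rc_20_3 lc_d_rc_31_2 lc_d_rc_29_2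 lc_d_rc_30_2 lc_d_rc_3_1 lc_d_rc_29_4 lc_d_rc_12_1 lc_d_Cert_tree lc_d_rc_27_0 lc_d_rc_20_3 lc_d_rc_20_3 lc_d_rc_27_0 lc_d_rc_28_2 lc_d_rc_27_0 lc_d_rc_33_2 lc_d_rc_29_2 lc_d_rc_29_2 lc_d_rc_33_2 lc_d_Cert_tree lc_d_rc_29_2 lc_d_Cert_tree) (@D3.rec (fun _ => (Cert rels S Gen.d)) lc_d_rc_27_0 lc_d_rc_28_2 lc_d_rc_27_0 lc_d_rc_20_3 lc_d_rc_12_1 lc_d_rc_30_2 lc_d_Cert_tree lc_d_rc_27_0 lc_d_rc_32_2 lc_d_Cert_tree lc_d_rc_29_2 lc_d_rc_27_0 lc_d_rc_30_0 lc_d_Cert_tree lc_d_rc_27_0 lc_d_rc_32_2 lc_d_rc_27_0 lc_d_rc_20_3 lc_d_rc_12_1 lc_d_rc_30_2 lc_d_rc_3_1 lc_d_rc_28_2 lc_d_rc_20_1 lc_d_rc_33_2 lc_d_rc_31_2 lc_d_rc_3_1 lc_d_rc_12_1 lc_d_Cert_tree lc_d_rc_3_1 lc_d_rc_12_1 lc_d_Cert_tree lc_d_rc_3_1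 lc_d_Cert_tree lc_d_rc_27_0 lc_d_rc_29_4 lc_d_rc_27_0 lc_d_rc_3_3 lc_d_rc_28_0 lc_d_rc_3_1 lc_d_rc_27_0 lc_d_rc_33_2 lc_d_rc_32_2 lc_d_rc_29_2 lc_d_rc_33_2 lc_d_rc_27_0 lc_d_rc_27_0 lc_d_rc_27_0 lc_d_rc_3_1 lc_d_rc_29_2 lc_d_rc_28_2 lc_d_rc_12_3) (@D3.rec (fun _ => (Cert rels S Gen.d)) lc_d_rc_12_3 lc_d_rc_29_2 lc_d_rc_30_2 lc_d_rc_28_2 lc_d_rc_33_2 lc_d_rc_31_2 lc_d_rc_33_2 lc_d_Cert_tree lc_d_rc_27_0 lc_d_rc_20_5 lc_d_Cert_tree lc_d_rc_27_0 lc_d_rc_3_1 lc_d_rc_12_1 lc_d_rc_12_1 lc_d_rc_20_3 lc_d_Cert_tree lc_d_rc_29_2 lc_d_rc_3_1 lc_d_rc_3_1 lc_d_rc_31_2 lc_d_rc_12_1 lc_d_rc_12_1 lc_d_Cert_tree lc_d_rc_20_3 lc_d_rc_20_3 lc_d_Cert_tree lc_d_rc_27_0 lc_d_rc_28_2 lc_d_rc_32_2 lc_d_rc_29_2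 lc_d_rc_31_2 lc_d_rc_33_2 lc_d_rc_29_4 lc_d_rc_12_1 lc_d_rc_12_1 lc_d_Cert_tree lc_d_rc_27_0 lc_d_rc_20_3 lc_d_Cert_tree lc_d_rc_27_0 lc_d_rc_28_2 lc_d_rc_32_2 lc_d_rc_33_2 lc_d_rc_29_2 lc_d_rc_30_2 lc_d_rc_33_2 lc_d_rc_3_1 lc_d_rc_33_2 lc_d_rc_20_3 lc_d_rc_33_2) (@D3.rec (fun _ => (Cert rels S Gen.d)) lc_d_rc_12_1 lc_d_rc_20_3 lc_d_rc_29_2 lc_d_rc_29_2 lc_d_rc_31_2 lc_d_rc_32_2 lc_d_rc_33_2 lc_d_rc_29_2 lc_d_rc_20_3 lc_d_rc_29_2 lc_d_rc_29_0 lc_d_rc_3_3 lc_d_rc_12_1 lc_d_Cert_tree lc_d_rc_20_3 lc_d_rc_20_3 lc_d_Cert_tree lc_d_rc_31_2 lc_d_rc_30_2 lc_d_rc_30_2 lc_d_rc_31_2 lc_d_rc_20_5 lc_d_rc_30_0 lc_d_rc_20_3 lc_d_rc_20_3 lc_d_rc_28_2 lc_d_rc_27_0 lc_d_Cert_tree lc_d_rc_31_2 lc_d_rc_32_2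 lc_d_rc_31_2 lc_d_Cert_tree lc_d_rc_27_0 lc_d_rc_30_2 lc_d_rc_20_5 lc_d_rc_29_2 lc_d_rc_20_5 lc_d_rc_20_5 lc_d_rc_29_2 lc_d_rc_20_3 lc_d_Cert_tree lc_d_rc_27_0 lc_d_rc_3_1 lc_d_rc_28_4 lc_d_rc_31_2 lc_d_rc_29_2 lc_d_rc_3_1 lc_d_rc_12_1 lc_d_rc_30_2 lc_d_rc_3_1 lc_d_rc_12_1) (@D3.rec (fun _ => (Cert rels S Gen.d)) lc_d_Cert_tree lc_d_rc_3_1 lc_d_Cert_tree lc_d_rc_27_0 lc_d_rc_28_2 lc_d_rc_27_0 lc_d_rc_28_2 lc_d_rc_27_0 lc_d_rc_33_2 lc_d_rc_28_4 lc_d_rc_27_0 lc_d_rc_33_2 lc_d_rc_20_3 lc_d_rc_28_2 lc_d_rc_33_2 lc_d_rc_27_0 lc_d_rc_28_2 lc_d_rc_33_2 lc_d_rc_28_2 lc_d_rc_29_2 lc_d_rc_20_3 lc_d_rc_27_0 lc_d_rc_33_2 lc_d_rc_29_2 lc_d_rc_33_2 lc_d_rc_3_1 lc_d_rc_3_1 lc_d_rc_32_2 lc_d_rc_29_2 lc_d_rc_27_0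 lc_d_rc_33_2 lc_d_rc_28_2 lc_d_rc_33_2 lc_d_rc_33_2 lc_d_rc_20_3 lc_d_rc_30_2 lc_d_rc_28_2 lc_d_rc_29_2 lc_d_rc_31_2 lc_d_rc_30_2 lc_d_Cert_tree lc_d_rc_32_2 lc_d_rc_31_2 lc_d_rc_29_2 lc_d_rc_30_2 lc_d_Cert_tree lc_d_rc_27_0 lc_d_rc_33_2 lc_d_rc_3_1 lc_d_rc_28_2 lc_d_rc_33_2) (@D3.rec (fun _ => (Cert rels S Gen.d)) lc_d_rc_29_0 lc_d_Cert_tree lc_d_rc_27_0 lc_d_rc_33_2 lc_d_rc_27_0 lc_d_rc_33_2 lc_d_rc_20_3 lc_d_rc_28_2 lc_d_rc_33_2 lc_d_rc_12_1 lc_d_rc_20_3 lc_d_rc_20_3 lc_d_rc_28_2 lc_d_rc_29_2 lc_d_rc_28_2 lc_d_rc_33_2 lc_d_rc_30_2 lc_d_rc_28_2 lc_d_rc_29_2 lc_d_Cert_tree lc_d_rc_28_4 lc_d_rc_20_3 lc_d_rc_33_2 lc_d_rc_12_1 lc_d_rc_20_3 lc_d_rc_3_1 lc_d_rc_12_1 lc_d_rc_20_3 lc_d_rc_3_1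 lc_d_rc_12_1 lc_d_rc_3_1 lc_d_rc_3_3 lc_d_rc_32_2 lc_d_rc_30_2 lc_d_Cert_tree lc_d_rc_27_0 lc_d_rc_33_2 lc_d_rc_28_2 lc_d_rc_33_2 lc_d_rc_28_2 lc_d_rc_29_2 lc_d_rc_20_3 lc_d_rc_27_0 lc_d_rc_33_2 lc_d_rc_33_2 lc_d_rc_30_2 lc_d_rc_28_2 lc_d_rc_29_2 lc_d_rc_31_2 lc_d_rc_30_2 lc_d_Cert_tree) (@D3.rec (fun _ => (Cert rels S Gen.d)) lc_d_rc_3_1 lc_d_rc_3_1 lc_d_rc_29_2 lc_d_Cert_tree lc_d_rc_27_0 lc_d_rc_33_2 lc_d_rc_27_0 lc_d_rc_33_2 lc_d_rc_28_2 lc_d_rc_33_2 lc_d_rc_29_2 lc_d_rc_28_2 lc_d_rc_33_2 lc_d_rc_27_0 lc_d_rc_33_2 lc_d_rc_20_3 lc_d_rc_28_2 lc_d_rc_33_2 lc_d_rc_33_2 lc_d_rc_20_3 lc_d_rc_30_2 lc_d_rc_28_2 lc_d_rc_29_2 lc_d_rc_12_1 lc_d_rc_12_1 lc_d_rc_55_51 lc_d_rc_29_2 lc_d_rc_31_2 lc_d_rc_30_2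 lc_d_Cert_tree lc_d_rc_31_2 lc_d_rc_30_2 lc_d_Cert_tree lc_d_rc_32_2 lc_d_rc_31_2 lc_d_Cert_tree lc_d_rc_27_0 lc_d_rc_32_2 lc_d_rc_29_2 lc_d_rc_20_3 lc_d_rc_33_0 lc_d_Cert_tree lc_d_rc_31_2 lc_d_Cert_tree lc_d_rc_27_0 lc_d_rc_33_2 lc_d_rc_27_0 lc_d_rc_33_2 lc_d_rc_29_2 lc_d_rc_28_2 lc_d_rc_33_2) (@D3.rec (fun _ => (Cert rels S Gen.d)) lc_d_rc_33_2 lc_d_rc_28_2 lc_d_rc_33_2 lc_d_Cert_tree lc_d_rc_27_0 lc_d_rc_33_2 lc_d_rc_20_3 lc_d_rc_28_2 lc_d_rc_33_2 lc_d_rc_20_3 lc_d_rc_28_2 lc_d_rc_33_2 lc_d_rc_12_1 lc_d_rc_20_3 lc_d_rc_20_3 lc_d_rc_30_2 lc_d_rc_28_2 lc_d_rc_29_2 lc_d_rc_12_1 lc_d_rc_20_3 lc_d_Cert_tree lc_d_Cert_tree lc_d_rc_30_2 lc_d_rc_28_2 lc_d_rc_29_2 lc_d_rc_30_2 lc_d_Cert_tree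 lc_d_rc_27_0 lc_d_rc_32_2 lc_d_rc_20_3 lc_d_rc_33_2 lc_d_rc_12_1 lc_d_Cert_tree lc_d_rc_20_3 lc_d_rc_20_5 lc_d_rc_29_2 lc_d_rc_20_3 lc_d_rc_29_2 lc_d_rc_12_1 lc_d_Cert_tree lc_d_rc_55_39 lc_d_Cert_tree lc_d_rc_27_0 lc_d_rc_20_3 lc_d_rc_29_2 lc_d_rc_20_5 lc_d_rc_12_1 lc_d_rc_12_3 lc_d_Cert_tree lc_d_rc_20_5 lc_d_Cert_tree) (@D3.rec (fun _ => (Cert rels S Gen.d)) lc_d_Cert_tree lc_d_rc_27_0 lc_d_rc_3_3 lc_d_rc_27_0 lc_d_rc_28_2 lc_d_rc_30_2 lc_d_Cert_tree lc_d_Cert_tree lc_d_rc_27_0 lc_d_rc_33_2 lc_d_rc_33_2 lc_d_rc_33_2 lc_d_Cert_tree lc_d_rc_27_0 lc_d_rc_33_2 lc_d_rc_27_0 lc_d_rc_33_2 lc_d_rc_3_1 lc_d_rc_28_2 lc_d_rc_33_2 lc_d_rc_3_1 lc_d_rc_28_2 lc_d_rc_30_2 lc_d_rc_30_2 lc_d_rc_28_2 lc_d_rc_28_0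 lc_d_rc_3_3 lc_d_Cert_tree lc_d_Cert_tree lc_d_Cert_tree lc_d_rc_27_0 lc_d_rc_33_2 lc_d_rc_27_0 lc_d_rc_33_2 lc_d_rc_3_1 lc_d_rc_28_2 lc_d_rc_33_2 lc_d_rc_3_1 lc_d_rc_28_2 lc_d_rc_33_2 lc_d_Cert_tree lc_d_rc_27_0 lc_d_rc_33_2 lc_d_rc_20_3 lc_d_rc_28_2 lc_d_rc_33_2 lc_d_rc_33_2 lc_d_rc_20_3 lc_d_rc_30_2 lc_d_rc_28_2 lc_d_rc_31_2) (@D3.rec (fun _ => (Cert rels S Gen.d)) lc_d_Cert_tree lc_d_rc_31_2 lc_d_rc_30_2 lc_d_Cert_tree lc_d_rc_31_2 lc_d_rc_30_2 lc_d_Cert_tree lc_d_rc_32_2 lc_d_rc_31_2 lc_d_Cert_tree lc_d_rc_27_0 lc_d_rc_32_2 lc_d_rc_31_2 lc_d_rc_20_5 lc_d_rc_20_3 lc_d_rc_30_2 lc_d_Cert_tree lc_d_rc_27_0 lc_d_Cert_tree lc_d_rc_27_0 lc_d_rc_33_2 lc_d_Cert_tree lc_d_rc_27_0 lc_d_rc_33_2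 lc_d_rc_29_2 lc_d_rc_28_2 lc_d_rc_33_2 lc_d_rc_29_2 lc_d_rc_28_2 lc_d_rc_33_2 lc_d_rc_12_1 lc_d_rc_31_2 lc_d_rc_33_2 lc_d_rc_29_2 lc_d_rc_28_2 lc_d_rc_33_2 lc_d_rc_12_1 lc_d_rc_33_2 lc_d_Cert_tree lc_d_rc_29_2 lc_d_rc_30_2 lc_d_Cert_tree lc_d_rc_27_0 lc_d_rc_33_2 lc_d_rc_20_3 lc_d_rc_28_2 lc_d_rc_33_2 lc_d_rc_12_1 lc_d_Cert_tree lc_d_rc_20_3 lc_d_rc_28_2) (@D3.rec (fun _ => (Cert rels S Gen.d)) lc_d_rc_28_2 lc_d_rc_29_2 lc_d_rc_12_1 lc_d_rc_20_3 lc_d_rc_30_2 lc_d_rc_28_2 lc_d_rc_29_2 lc_d_rc_3_1 lc_d_rc_31_2 lc_d_rc_12_1 lc_d_rc_32_0 lc_d_rc_31_2 lc_d_Cert_tree lc_d_rc_31_2 lc_d_rc_30_2 lc_d_Cert_tree lc_d_rc_3_1 lc_d_rc_33_2 lc_d_Cert_tree lc_d_rc_33_0 lc_d_rc_29_2 lc_d_rc_30_0 lc_d_rc_27_0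 lc_d_rc_32_2 lc_d_rc_31_2 lc_d_Cert_tree lc_d_rc_27_0 lc_d_rc_31_2 lc_d_rc_30_2 lc_d_Cert_tree lc_d_rc_32_2 lc_d_rc_31_2 lc_d_Cert_tree lc_d_rc_27_0 lc_d_rc_32_2 lc_d_Cert_tree lc_d_rc_27_0 lc_d_rc_29_2 lc_d_rc_29_2 lc_d_rc_12_1 lc_d_rc_20_3 lc_d_rc_29_2 lc_d_rc_3_1 lc_d_Cert_tree lc_d_rc_12_1 lc_d_rc_27_0 lc_d_rc_33_2 lc_d_Cert_tree lc_d_rc_29_2 lc_d_rc_3_1 lc_d_rc_12_1) (@D3.rec (fun _ => (Cert rels S Gen.d)) lc_d_Cert_tree lc_d_rc_3_1 lc_d_Cert_tree lc_d_rc_27_0 lc_d_rc_29_4 lc_d_rc_27_0 lc_d_rc_29_2 lc_d_rc_3_1 lc_d_rc_12_1 lc_d_Cert_tree lc_d_rc_28_4 lc_d_rc_3_1 lc_d_rc_30_2 lc_d_Cert_tree lc_d_rc_56_10 lc_d_rc_27_0 lc_d_rc_3_1 lc_d_Cert_tree lc_d_rc_27_0 lc_d_rc_29_4 lc_d_rc_27_0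 lc_d_rc_30_2 lc_d_rc_33_2 lc_d_rc_29_2 lc_d_rc_33_2 lc_d_rc_33_2 lc_d_rc_29_2 lc_d_Cert_tree lc_d_rc_33_2 lc_d_rc_29_2 lc_d_rc_33_2 lc_d_rc_29_2 lc_d_rc_12_1 lc_d_rc_3_1 lc_d_rc_33_2 lc_d_Cert_tree lc_d_rc_27_0 lc_d_rc_33_2 lc_d_rc_20_1 lc_d_rc_3_1 lc_d_rc_32_2 lc_d_Cert_tree lc_d_rc_27_0 lc_d_rc_33_2 lc_d_rc_32_2 lc_d_Cert_tree lc_d_rc_20_3 lc_d_rc_27_0 lc_d_rc_33_2 lc_d_rc_20_3 lc_d_rc_28_2) (@D3.rec (fun _ => (Cert rels S Gen.d)) lc_d_rc_33_2 lc_d_rc_33_2 lc_d_rc_28_2 lc_d_rc_3_1 lc_d_rc_30_2 lc_d_rc_30_2 lc_d_rc_33_2 lc_d_rc_33_2 lc_d_rc_20_3 lc_d_rc_3_1 lc_d_rc_27_0 lc_d_rc_33_2 lc_d_rc_29_2 lc_d_rc_28_2 lc_d_rc_33_2 lc_d_rc_3_3 lc_d_rc_27_0 lc_d_rc_33_2 lc_d_rc_27_0 lc_d_rc_33_2 lc_d_rc_33_2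 lc_d_rc_12_1 lc_d_rc_20_3 lc_d_rc_30_2 lc_d_rc_28_2 lc_d_rc_29_2 lc_d_rc_33_2 lc_d_rc_29_2 lc_d_rc_30_2 lc_d_Cert_tree lc_d_rc_29_2 lc_d_rc_33_2 lc_d_rc_29_2 lc_d_rc_12_1 lc_d_Cert_tree lc_d_rc_12_1 lc_d_rc_29_2 lc_d_rc_27_0 lc_d_rc_33_2 lc_d_rc_27_0 lc_d_rc_33_2 lc_d_rc_20_3 lc_d_rc_33_2 lc_d_Cert_tree lc_d_rc_27_0 lc_d_rc_33_2 lc_d_rc_29_2 lc_d_rc_28_2 lc_d_rc_33_2 lc_d_rc_29_0 lc_d_rc_27_0) (@D3.rec (fun _ => (Cert rels S Gen.d)) lc_d_rc_33_2 lc_d_rc_27_0 lc_d_rc_33_2 lc_d_rc_20_3 lc_d_rc_28_2 lc_d_rc_33_2 lc_d_rc_12_1 lc_d_rc_28_2 lc_d_rc_20_3 lc_d_rc_28_2 lc_d_rc_3_1 lc_d_rc_30_2 lc_d_rc_28_2 lc_d_rc_29_2 lc_d_Cert_tree lc_d_rc_12_1 lc_d_rc_20_3 lc_d_rc_29_2 lc_d_rc_12_1 lc_d_Cert_tree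 lc_d_rc_29_2 lc_d_rc_27_0 lc_d_rc_33_2 lc_d_rc_27_0 lc_d_rc_33_2 lc_d_rc_29_2 lc_d_rc_28_2 lc_d_rc_33_2 lc_d_rc_12_1 lc_d_rc_32_2 lc_d_rc_33_2 lc_d_rc_29_2 lc_d_rc_28_2 lc_d_rc_33_2 lc_d_rc_28_2 lc_d_rc_33_2 lc_d_rc_33_2 lc_d_rc_28_2 lc_d_rc_20_3 lc_d_rc_28_2 lc_d_rc_29_2 lc_d_rc_3_1 lc_d_rc_12_1 lc_d_rc_12_1 lc_d_rc_28_2 lc_d_rc_28_2 lc_d_Cert_tree lc_d_rc_31_2 lc_d_rc_30_2 lc_d_Cert_tree lc_d_Cert_tree)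
def ce_d_12 : D2 → D3 → (Cert rels S Gen.d) := @D2.rec (fun _ => D3 → (Cert rels S Gen.d)) (@D3.rec (fun _ => (Cert rels S Gen.d)) lc_d_rc_30_2 lc_d_rc_31_2 lc_d_Cert_tree lc_d_rc_27_0 lc_d_Cert_tree lc_d_rc_3_1 lc_d_Cert_tree lc_d_rc_27_0 lc_d_rc_29_2 lc_d_rc_12_1 lc_d_rc_33_2 lc_d_rc_29_2 lc_d_rc_33_2 lc_d_rc_29_2 lc_d_rc_30_2 lc_d_rc_33_2 lc_d_rc_29_2 lc_d_rc_29_2 lc_d_rc_20_5 lc_d_rc_20_1 lc_d_rc_27_0 lc_d_rc_33_2 lc_d_rc_33_2 lc_d_rc_29_2 lc_d_rc_29_2 lc_d_rc_20_3 lc_d_rc_33_2 lc_d_rc_20_3 lc_d_rc_28_2 lc_d_rc_29_2 lc_d_rc_20_3 lc_d_rc_29_2 lc_d_rc_12_1 lc_d_rc_32_2 lc_d_rc_3_1 lc_d_rc_20_3 lc_d_rc_27_0 lc_d_rc_31_2 lc_d_rc_33_2 lc_d_rc_29_0 lc_d_Cert_tree lc_d_Cert_tree lc_d_rc_27_0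 lc_d_rc_33_2 lc_d_rc_33_2 lc_d_rc_3_1 lc_d_rc_30_2 lc_d_Cert_tree lc_d_Cert_tree lc_d_rc_27_0 lc_d_rc_33_2) (@D3.rec (fun _ => (Cert rels S Gen.d)) lc_d_rc_3_1 lc_d_rc_28_2 lc_d_rc_33_2 lc_d_rc_30_2 lc_d_Cert_tree lc_d_rc_27_0 lc_d_rc_33_2 lc_d_rc_27_0 lc_d_rc_33_2 lc_d_rc_20_3 lc_d_rc_28_2 lc_d_rc_33_2 lc_d_rc_12_1 lc_d_rc_20_3 lc_d_rc_28_2 lc_d_rc_3_1 lc_d_rc_30_2 lc_d_rc_28_2 lc_d_rc_3_1 lc_d_Cert_tree lc_d_rc_31_2 lc_d_rc_30_2 lc_d_rc_20_3 lc_d_rc_33_2 lc_d_rc_20_3 lc_d_rc_3_1 lc_d_rc_12_1 lc_d_Cert_tree lc_d_Cert_tree lc_d_Cert_tree lc_d_rc_27_0 lc_d_rc_33_2 lc_d_rc_27_0 lc_d_rc_33_2 lc_d_rc_29_2 lc_d_rc_28_2 lc_d_rc_33_2 lc_d_rc_12_1 lc_d_rc_30_2 lc_d_rc_33_2 lc_d_rc_29_2 lc_d_rc_28_2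 lc_d_rc_33_2 lc_d_Cert_tree lc_d_rc_27_0 lc_d_rc_33_2 lc_d_rc_20_3 lc_d_rc_28_2 lc_d_rc_33_2 lc_d_rc_33_2 lc_d_rc_12_1) (@D3.rec (fun _ => (Cert rels S Gen.d)) lc_d_rc_20_3 lc_d_rc_30_2 lc_d_rc_28_2 lc_d_rc_29_2 lc_d_rc_3_1 lc_d_rc_28_2 lc_d_rc_12_1 lc_d_rc_30_2 lc_d_rc_33_2 lc_d_Cert_tree lc_d_rc_31_2 lc_d_rc_30_2 lc_d_Cert_tree lc_d_rc_29_2 lc_d_rc_31_2 lc_d_rc_30_2 lc_d_Cert_tree lc_d_rc_31_2 lc_d_Cert_tree lc_d_rc_27_0 lc_d_rc_29_2 lc_d_rc_31_2 lc_d_rc_28_2 lc_d_rc_33_2 lc_d_rc_12_1 lc_d_Cert_tree lc_d_rc_20_3 lc_d_rc_28_2 lc_d_rc_29_2 lc_d_rc_29_2 lc_d_rc_12_1 lc_d_Cert_tree lc_d_rc_3_1 lc_d_Cert_tree lc_d_rc_27_0 lc_d_rc_28_2 lc_d_rc_29_2 lc_d_rc_30_2 lc_d_rc_3_3 lc_d_rc_30_2 lc_d_rc_33_2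 lc_d_rc_20_3 lc_d_rc_28_4 lc_d_rc_20_5 lc_d_rc_3_1 lc_d_rc_31_2 lc_d_rc_20_1 lc_d_rc_27_0 lc_d_Cert_tree lc_d_rc_29_4 lc_d_rc_27_0) (@D3.rec (fun _ => (Cert rels S Gen.d)) lc_d_rc_33_2 lc_d_rc_33_2 lc_d_Cert_tree lc_d_rc_27_0 lc_d_rc_33_2 lc_d_rc_27_0 lc_d_rc_33_2 lc_d_rc_20_3 lc_d_rc_33_2 lc_d_rc_12_1 lc_d_rc_20_3 lc_d_rc_12_1 lc_d_rc_3_1 lc_d_Cert_tree lc_d_Cert_tree lc_d_rc_27_0 lc_d_rc_33_2 lc_d_rc_27_0 lc_d_rc_33_2 lc_d_rc_29_2 lc_d_rc_28_2 lc_d_rc_33_2 lc_d_rc_12_1 lc_d_rc_3_1 lc_d_rc_33_2 lc_d_rc_28_2 lc_d_rc_3_1 lc_d_Cert_tree lc_d_rc_27_0 lc_d_rc_33_2 lc_d_rc_20_3 lc_d_rc_28_2 lc_d_rc_33_2 lc_d_rc_20_3 lc_d_rc_28_2 lc_d_rc_33_2 lc_d_rc_12_1 lc_d_rc_28_2 lc_d_rc_20_3 lc_d_rc_30_2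 lc_d_rc_28_2 lc_d_rc_3_1 lc_d_rc_3_1 lc_d_rc_12_1 lc_d_rc_12_1 lc_d_rc_28_2 lc_d_Cert_tree lc_d_Cert_tree lc_d_rc_30_2 lc_d_rc_28_2 lc_d_rc_29_2) (@D3.rec (fun _ => (Cert rels S Gen.d)) lc_d_rc_30_2 lc_d_Cert_tree lc_d_rc_27_0 lc_d_rc_30_2 lc_d_rc_20_3 lc_d_rc_28_2 lc_d_rc_33_2 lc_d_rc_12_1 lc_d_rc_20_3 lc_d_rc_28_2 lc_d_rc_3_1 lc_d_rc_31_2 lc_d_rc_20_3 lc_d_rc_29_2 lc_d_rc_3_1 lc_d_rc_12_1 lc_d_Cert_tree lc_d_rc_3_1 lc_d_Cert_tree lc_d_rc_27_0 lc_d_Cert_tree lc_d_rc_27_0 lc_d_rc_33_2 lc_d_Cert_tree lc_d_rc_27_0 lc_d_rc_33_2 lc_d_rc_29_2 lc_d_rc_28_2 lc_d_rc_33_2 lc_d_rc_29_2 lc_d_rc_28_2 lc_d_rc_33_2 lc_d_rc_12_1 lc_d_rc_31_2 lc_d_rc_33_2 lc_d_rc_29_2 lc_d_rc_28_2 lc_d_rc_33_2 lc_d_rc_12_1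 lc_d_rc_33_2 lc_d_Cert_tree lc_d_rc_29_2 lc_d_rc_30_2 lc_d_Cert_tree lc_d_rc_27_0 lc_d_rc_33_2 lc_d_rc_20_3 lc_d_rc_28_2 lc_d_rc_33_2 lc_d_rc_12_1 lc_d_Cert_tree) (@D3.rec (fun _ => (Cert rels S Gen.d)) lc_d_rc_20_3 lc_d_rc_28_2 lc_d_rc_28_2 lc_d_rc_29_2 lc_d_rc_28_2 lc_d_rc_20_3 lc_d_rc_30_2 lc_d_rc_28_2 lc_d_rc_29_2 lc_d_rc_3_1 lc_d_rc_12_1 lc_d_rc_12_1 lc_d_rc_30_2 lc_d_rc_28_2 lc_d_Cert_tree lc_d_rc_31_2 lc_d_rc_30_2 lc_d_Cert_tree lc_d_rc_3_1 lc_d_rc_12_1 lc_d_Cert_tree lc_d_rc_28_2 lc_d_rc_28_2 lc_d_Cert_tree lc_d_rc_27_0 lc_d_rc_32_2 lc_d_rc_31_2 lc_d_Cert_tree lc_d_rc_27_0 lc_d_rc_30_2 lc_d_Cert_tree lc_d_rc_32_2 lc_d_rc_31_2 lc_d_Cert_tree lc_d_rc_27_0 lc_d_rc_32_2 lc_d_Cert_tree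 lc_d_rc_27_0 lc_d_rc_20_3 lc_d_Cert_tree lc_d_rc_20_3 lc_d_rc_28_2 lc_d_rc_29_2 lc_d_rc_3_1 lc_d_Cert_tree lc_d_rc_12_1 lc_d_rc_27_0 lc_d_rc_33_2 lc_d_Cert_tree lc_d_Cert_tree lc_d_Cert_tree) (@D3.rec (fun _ => (Cert rels S Gen.d)) lc_d_rc_3_1 lc_d_Cert_tree lc_d_rc_27_0 lc_d_rc_29_4 lc_d_rc_27_0 lc_d_rc_28_2 lc_d_rc_12_3 lc_d_rc_20_5 lc_d_rc_31_0 lc_d_rc_12_1 lc_d_rc_12_1 lc_d_rc_3_1 lc_d_rc_27_0 lc_d_rc_3_1 lc_d_rc_33_2 lc_d_rc_29_2 lc_d_rc_29_2 lc_d_rc_28_2 lc_d_rc_12_1 lc_d_rc_3_1 lc_d_rc_33_2 lc_d_rc_3_1 lc_d_Cert_tree lc_d_rc_27_0 lc_d_Cert_tree lc_d_rc_27_0 lc_d_rc_33_2 lc_d_rc_27_0 lc_d_rc_33_2 lc_d_rc_20_3 lc_d_rc_33_2 lc_d_rc_20_3 lc_d_rc_12_1 lc_d_Cert_tree lc_d_rc_27_0 lc_d_rc_33_2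 lc_d_rc_28_2 lc_d_rc_33_2 lc_d_rc_28_2 lc_d_rc_33_2 lc_d_rc_30_2 lc_d_rc_28_2 lc_d_rc_3_1 lc_d_Cert_tree lc_d_rc_28_2 lc_d_rc_3_1 lc_d_rc_30_2 lc_d_Cert_tree lc_d_rc_27_0 lc_d_rc_29_4 lc_d_Cert_tree) (@D3.rec (fun _ => (Cert rels S Gen.d)) lc_d_rc_27_0 lc_d_rc_33_2 lc_d_Cert_tree lc_d_rc_27_0 lc_d_rc_33_2 lc_d_rc_28_2 lc_d_rc_33_2 lc_d_rc_28_2 lc_d_rc_33_2 lc_d_rc_29_2 lc_d_rc_28_2 lc_d_rc_33_2 lc_d_Cert_tree lc_d_rc_27_0 lc_d_rc_33_2 lc_d_rc_20_3 lc_d_rc_28_2 lc_d_rc_33_2 lc_d_rc_12_1 lc_d_Cert_tree lc_d_rc_20_3 lc_d_rc_28_2 lc_d_rc_28_2 lc_d_rc_29_2 lc_d_rc_20_3 lc_d_rc_30_2 lc_d_rc_28_2 lc_d_rc_29_2 lc_d_rc_12_1 lc_d_rc_3_1 lc_d_rc_33_2 lc_d_rc_33_2 lc_d_rc_31_2 lc_d_rc_30_2 lc_d_Cert_tree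 lc_d_rc_30_0 lc_d_rc_28_4 lc_d_rc_32_2 lc_d_rc_31_2 lc_d_Cert_tree lc_d_rc_27_0 lc_d_rc_20_3 lc_d_rc_30_2 lc_d_Cert_tree lc_d_rc_32_2 lc_d_rc_31_2 lc_d_Cert_tree lc_d_rc_27_0 lc_d_rc_32_2 lc_d_Cert_tree lc_d_rc_27_0) (@D3.rec (fun _ => (Cert rels S Gen.d)) lc_d_rc_3_1 lc_d_rc_32_2 lc_d_rc_20_3 lc_d_rc_33_2 lc_d_rc_20_3 lc_d_rc_28_2 lc_d_rc_12_1 lc_d_rc_27_0 lc_d_rc_33_2 lc_d_Cert_tree lc_d_rc_27_0 lc_d_rc_33_2 lc_d_rc_27_0 lc_d_rc_33_2 lc_d_rc_33_2 lc_d_rc_12_1 lc_d_Cert_tree lc_d_rc_27_0 lc_d_rc_33_2 lc_d_rc_20_3 lc_d_rc_28_2 lc_d_rc_33_2 lc_d_rc_20_3 lc_d_rc_33_2 lc_d_rc_20_3 lc_d_rc_12_1 lc_d_Cert_tree lc_d_Cert_tree lc_d_rc_27_0 lc_d_rc_33_2 lc_d_Cert_tree lc_d_rc_27_0 lc_d_rc_33_2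 lc_d_rc_28_2 lc_d_rc_33_2 lc_d_rc_28_2 lc_d_rc_33_2 lc_d_rc_29_2 lc_d_rc_28_2 lc_d_rc_33_2 lc_d_Cert_tree lc_d_rc_27_0 lc_d_rc_33_2 lc_d_rc_20_3 lc_d_rc_28_2 lc_d_rc_33_2 lc_d_rc_12_1 lc_d_Cert_tree lc_d_rc_20_3 lc_d_rc_28_2 lc_d_rc_28_2) (@D3.rec (fun _ => (Cert rels S Gen.d)) lc_d_rc_3_1 lc_d_rc_28_2 lc_d_rc_20_3 lc_d_rc_30_2 lc_d_rc_28_2 lc_d_rc_3_1 lc_d_rc_12_1 lc_d_rc_30_2 lc_d_rc_28_2 lc_d_rc_12_3 lc_d_rc_30_2 lc_d_Cert_tree lc_d_rc_3_3 lc_d_Cert_tree lc_d_rc_27_0 lc_d_rc_31_2 lc_d_rc_30_2 lc_d_Cert_tree lc_d_Cert_tree lc_d_rc_27_0 lc_d_rc_20_3 lc_d_rc_20_3 lc_d_rc_30_2 lc_d_rc_33_2 lc_d_Cert_tree lc_d_rc_20_3 lc_d_rc_28_2 lc_d_rc_30_2 lc_d_Cert_tree lc_d_rc_12_1 lc_d_rc_27_0 lc_d_rc_33_2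 lc_d_rc_33_2 lc_d_Cert_tree lc_d_rc_27_0 lc_d_rc_33_2 lc_d_rc_20_3 lc_d_rc_28_2 lc_d_rc_33_2 lc_d_rc_27_0 lc_d_rc_33_2 lc_d_rc_29_2 lc_d_rc_28_2 lc_d_rc_33_2 lc_d_rc_12_1 lc_d_Cert_tree lc_d_rc_33_2 lc_d_rc_30_2 lc_d_rc_28_2 lc_d_rc_33_2 lc_d_rc_12_1) (@D3.rec (fun _ => (Cert rels S Gen.d)) lc_d_rc_28_2 lc_d_rc_33_2 lc_d_rc_29_2 lc_d_rc_28_2 lc_d_rc_33_2 lc_d_rc_12_1 lc_d_rc_3_1 lc_d_rc_3_1 lc_d_rc_12_3 lc_d_rc_29_2 lc_d_rc_30_2 lc_d_Cert_tree lc_d_rc_3_3 lc_d_rc_31_2 lc_d_rc_33_2 lc_d_Cert_tree lc_d_rc_29_2 lc_d_rc_31_2 lc_d_Cert_tree lc_d_rc_27_0 lc_d_rc_20_3 lc_d_rc_28_2 lc_d_rc_33_2 lc_d_rc_12_1 lc_d_Cert_tree lc_d_rc_20_3 lc_d_rc_28_2 lc_d_rc_28_2 lc_d_rc_29_2 lc_d_rc_3_1 lc_d_Cert_tree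 lc_d_rc_12_1 lc_d_rc_27_0 lc_d_rc_30_2 lc_d_rc_33_2 lc_d_Cert_tree lc_d_rc_28_2 lc_d_rc_28_2 lc_d_Cert_tree lc_d_rc_3_1 lc_d_rc_12_1 lc_d_rc_12_1 lc_d_rc_30_2 lc_d_rc_28_2 lc_d_Cert_tree lc_d_rc_31_2 lc_d_rc_30_2 lc_d_Cert_tree lc_d_rc_3_1 lc_d_rc_12_1 lc_d_rc_12_1) (@D3.rec (fun _ => (Cert rels S Gen.d)) lc_d_Cert_tree lc_d_rc_30_2 lc_d_rc_30_2 lc_d_Cert_tree lc_d_rc_27_0 lc_d_rc_32_2 lc_d_rc_31_2 lc_d_Cert_tree lc_d_rc_27_0 lc_d_rc_28_4 lc_d_rc_12_1 lc_d_rc_12_1 lc_d_Cert_tree lc_d_rc_27_0 lc_d_rc_28_2 lc_d_rc_28_2 lc_d_Cert_tree lc_d_rc_27_0 lc_d_rc_28_2 lc_d_rc_32_2 lc_d_Cert_tree lc_d_rc_27_0 lc_d_rc_20_3 lc_d_rc_32_2 lc_d_rc_31_2 lc_d_Cert_tree lc_d_rc_27_0 lc_d_rc_32_2 lc_d_Cert_tree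 lc_d_rc_27_0 lc_d_rc_20_3 lc_d_Cert_tree lc_d_rc_27_0 lc_d_rc_20_3 lc_d_rc_12_1 lc_d_rc_12_1 lc_d_Cert_tree lc_d_rc_20_3 lc_d_rc_12_1 lc_d_rc_33_2 lc_d_rc_3_1 lc_d_Cert_tree lc_d_rc_12_1 lc_d_rc_27_0 lc_d_rc_33_2 lc_d_Cert_tree lc_d_rc_31_2 lc_d_rc_3_3 lc_d_rc_3_1 lc_d_rc_27_0 lc_d_rc_33_2) (@D3.rec (fun _ => (Cert rels S Gen.d)) lc_d_Cert_tree lc_d_rc_29_2 lc_d_rc_33_2 lc_d_Cert_tree lc_d_rc_27_0 lc_d_rc_27_0 lc_d_rc_3_1 lc_d_Cert_tree lc_d_rc_27_0 lc_d_rc_31_2 lc_d_rc_27_0 lc_d_rc_28_2 lc_d_rc_3_1 lc_d_rc_20_1 lc_d_rc_30_2 lc_d_rc_33_2 lc_d_rc_27_0 lc_d_rc_20_1 lc_d_rc_27_0 lc_d_rc_28_4 lc_d_rc_28_4 lc_d_rc_33_2 lc_d_rc_31_2 lc_d_rc_28_2 lc_d_rc_20_3 lc_d_rc_33_2 lc_d_rc_28_2 lc_d_rc_29_0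 lc_d_rc_29_2 lc_d_rc_28_2 lc_d_rc_20_3 lc_d_rc_33_2 lc_d_rc_12_1 lc_d_Cert_tree lc_d_rc_20_3 lc_d_rc_28_2 lc_d_rc_29_2 lc_d_rc_12_1 lc_d_rc_33_2 lc_d_rc_29_2 lc_d_Cert_tree lc_d_rc_12_1 lc_d_rc_27_0 lc_d_rc_33_2 lc_d_rc_12_1 lc_d_rc_33_2 lc_d_rc_29_2 lc_d_rc_29_2 lc_d_rc_27_0 lc_d_rc_30_2 lc_d_rc_27_0) (@D3.rec (fun _ => (Cert rels S Gen.d)) lc_d_rc_33_2 lc_d_Cert_tree lc_d_rc_27_0 lc_d_rc_28_2 lc_d_rc_20_3 lc_d_rc_33_0 lc_d_rc_27_0 lc_d_rc_28_2 lc_d_rc_30_2 lc_d_rc_33_2 lc_d_rc_29_2 lc_d_rc_33_2 lc_d_rc_28_2 lc_d_rc_29_2 lc_d_rc_33_2 lc_d_rc_33_2 lc_d_rc_20_3 lc_d_rc_29_2 lc_d_rc_12_1 lc_d_rc_12_1 lc_d_rc_20_3 lc_d_rc_20_3 lc_d_rc_29_2 lc_d_rc_30_2 lc_d_rc_29_2 lc_d_rc_27_0 lc_d_rc_33_2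 lc_d_rc_33_2 lc_d_rc_20_3 lc_d_rc_33_2 lc_d_rc_28_2 lc_d_rc_33_2 lc_d_rc_29_2 lc_d_Cert_tree lc_d_rc_27_0 lc_d_rc_27_0 lc_d_rc_33_2 lc_d_rc_33_2 lc_d_rc_29_2 lc_d_rc_28_2 lc_d_rc_33_2 lc_d_rc_30_2 lc_d_rc_28_2 lc_d_rc_29_2 lc_d_rc_29_2 lc_d_rc_30_2 lc_d_rc_29_2 lc_d_rc_33_2 lc_d_rc_32_2 lc_d_rc_33_2 lc_d_rc_33_2) (@D3.rec (fun _ => (Cert rels S Gen.d)) lc_d_rc_30_0 lc_d_rc_3_1 lc_d_rc_33_2 lc_d_rc_27_0 lc_d_rc_33_2 lc_d_rc_20_3 lc_d_rc_28_2 lc_d_rc_33_2 lc_d_rc_12_1 lc_d_Cert_tree lc_d_rc_20_3 lc_d_rc_28_2 lc_d_rc_28_2 lc_d_rc_29_2 lc_d_rc_12_1 lc_d_rc_20_3 lc_d_rc_29_2 lc_d_rc_12_1 lc_d_rc_12_1 lc_d_rc_20_3 lc_d_rc_20_3 lc_d_Cert_tree lc_d_rc_31_2 lc_d_rc_30_2 lc_d_rc_29_2 lc_d_rc_12_1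 lc_d_rc_33_2 lc_d_rc_20_3 lc_d_rc_20_3 lc_d_Cert_tree lc_d_rc_27_0 lc_d_rc_32_2 lc_d_rc_31_2 lc_d_rc_29_2 lc_d_rc_31_2 lc_d_rc_32_2 lc_d_rc_20_3 lc_d_rc_12_1 lc_d_rc_27_0 lc_d_rc_33_2 lc_d_rc_12_1 lc_d_rc_3_3 lc_d_rc_27_0 lc_d_rc_3_1 lc_d_rc_3_1 lc_d_rc_20_1 lc_d_rc_3_1 lc_d_Cert_tree lc_d_rc_27_0 lc_d_rc_12_3 lc_d_rc_27_0) (@D3.rec (fun _ => (Cert rels S Gen.d)) lc_d_rc_28_2 lc_d_rc_27_0 lc_d_rc_33_2 lc_d_rc_27_0 lc_d_rc_33_2 lc_d_rc_28_2 lc_d_rc_33_2 lc_d_rc_33_2 lc_d_rc_33_2 lc_d_rc_28_2 lc_d_rc_33_2 lc_d_rc_12_1 lc_d_rc_28_2 lc_d_rc_20_3 lc_d_rc_28_2 lc_d_rc_29_2 lc_d_rc_12_1 lc_d_rc_20_3 lc_d_rc_29_2 lc_d_rc_3_1 lc_d_rc_12_1 lc_d_Cert_tree lc_d_rc_3_1 lc_d_Cert_tree lc_d_rc_27_0 lc_d_rc_3_1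 lc_d_rc_12_1 lc_d_Cert_tree lc_d_rc_3_1 lc_d_rc_12_1 lc_d_Cert_tree lc_d_rc_3_1 lc_d_Cert_tree lc_d_rc_27_0 lc_d_rc_3_3 lc_d_rc_27_0 lc_d_rc_3_1 lc_d_rc_3_1 lc_d_Cert_tree lc_d_rc_27_0 lc_d_rc_3_1 lc_d_rc_29_4 lc_d_rc_29_4 lc_d_rc_27_0 lc_d_rc_3_3 lc_d_rc_27_0 lc_d_rc_33_2 lc_d_rc_28_2 lc_d_rc_33_2 lc_d_rc_33_2 lc_d_rc_31_2) (@D3.rec (fun _ => (Cert rels S Gen.d)) lc_d_rc_3_1 lc_d_rc_29_4 lc_d_rc_33_2 lc_d_rc_3_1 lc_d_rc_33_2 lc_d_rc_3_1 lc_d_rc_33_2 lc_d_Cert_tree lc_d_rc_27_0 lc_d_rc_33_2 lc_d_rc_20_3 lc_d_rc_32_2 lc_d_rc_33_2 lc_d_rc_12_1 lc_d_Cert_tree lc_d_rc_20_3 lc_d_rc_28_2 lc_d_rc_28_2 lc_d_rc_30_2 lc_d_rc_12_1 lc_d_rc_20_3 lc_d_rc_20_3 lc_d_rc_30_2 lc_d_rc_28_2 lc_d_rc_32_2 lc_d_rc_12_1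 lc_d_rc_20_3 lc_d_rc_20_3 lc_d_Cert_tree lc_d_rc_30_2 lc_d_rc_31_2 lc_d_Cert_tree lc_d_Cert_tree lc_d_rc_27_0 lc_d_rc_30_2 lc_d_rc_20_3 lc_d_rc_33_2 lc_d_rc_12_1 lc_d_Cert_tree lc_d_rc_20_3 lc_d_rc_32_2 lc_d_rc_30_2 lc_d_rc_30_2 lc_d_Cert_tree lc_d_rc_12_1 lc_d_rc_27_0 lc_d_rc_33_2 lc_d_Cert_tree lc_d_rc_31_2 lc_d_rc_32_2 lc_d_rc_12_1) (@D3.rec (fun _ => (Cert rels S Gen.d)) lc_d_Cert_tree lc_d_rc_33_2 lc_d_Cert_tree lc_d_rc_27_0 lc_d_rc_12_1 lc_d_rc_27_0 lc_d_rc_28_2 lc_d_rc_20_3 lc_d_rc_28_2 lc_d_rc_33_2 lc_d_rc_27_0 lc_d_rc_33_2 lc_d_rc_29_2 lc_d_rc_29_4 lc_d_rc_33_2 lc_d_rc_12_1 lc_d_Cert_tree lc_d_rc_33_2 lc_d_rc_3_3 lc_d_rc_28_2 lc_d_rc_33_2 lc_d_rc_12_1 lc_d_rc_33_2 lc_d_rc_33_2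 lc_d_rc_31_2 lc_d_rc_12_1 lc_d_rc_3_1 lc_d_rc_29_0 lc_d_Cert_tree lc_d_rc_33_0 lc_d_rc_27_0 lc_d_rc_28_4 lc_d_rc_33_2 lc_d_Cert_tree lc_d_rc_28_4 lc_d_rc_27_0 lc_d_rc_32_2 lc_d_rc_29_0 lc_d_rc_33_2 lc_d_rc_20_3 lc_d_rc_28_2 lc_d_rc_33_2 lc_d_rc_12_1 lc_d_Cert_tree lc_d_rc_20_3 lc_d_rc_3_3 lc_d_rc_28_2 lc_d_rc_29_2 lc_d_rc_3_1 lc_d_Cert_tree lc_d_rc_12_1) (@D3.rec (fun _ => (Cert rels S Gen.d)) lc_d_rc_27_0 lc_d_rc_30_2 lc_d_rc_33_2 lc_d_Cert_tree lc_d_rc_28_2 lc_d_rc_28_2 lc_d_Cert_tree lc_d_rc_3_1 lc_d_rc_12_1 lc_d_rc_12_1 lc_d_rc_20_3 lc_d_rc_20_3 lc_d_Cert_tree lc_d_rc_30_2 lc_d_rc_32_2 lc_d_rc_20_3 lc_d_rc_3_1 lc_d_rc_12_1 lc_d_rc_12_1 lc_d_Cert_tree lc_d_rc_20_3 lc_d_rc_20_3 lc_d_Cert_tree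 lc_d_rc_27_0 lc_d_rc_32_2 lc_d_rc_31_2 lc_d_rc_29_2 lc_d_rc_20_3 lc_d_rc_20_3 lc_d_rc_12_1 lc_d_rc_12_1 lc_d_Cert_tree lc_d_rc_27_0 lc_d_rc_20_3 lc_d_rc_20_3 lc_d_Cert_tree lc_d_rc_27_0 lc_d_rc_3_3 lc_d_rc_32_2 lc_d_rc_31_2 lc_d_rc_32_2 lc_d_rc_20_3 lc_d_rc_31_2 lc_d_rc_12_1 lc_d_rc_27_0 lc_d_rc_33_2 lc_d_Cert_tree lc_d_rc_28_2 lc_d_rc_3_1 lc_d_rc_27_0 lc_d_rc_33_2) (@D3.rec (fun _ => (Cert rels S Gen.d)) lc_d_Cert_tree lc_d_rc_29_2 lc_d_rc_33_2 lc_d_Cert_tree lc_d_rc_27_0 lc_d_rc_3_1 lc_d_Cert_tree lc_d_rc_27_0 lc_d_rc_29_4 lc_d_rc_27_0 lc_d_rc_28_2 lc_d_rc_28_2 lc_d_rc_3_1 lc_d_rc_30_2 lc_d_rc_31_2 lc_d_rc_27_0 lc_d_rc_29_2 lc_d_rc_33_2 lc_d_rc_33_2 lc_d_rc_20_3 lc_d_rc_3_1 lc_d_rc_33_2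 lc_d_Cert_tree lc_d_rc_33_2 lc_d_rc_33_2 lc_d_rc_29_2 lc_d_rc_20_3 lc_d_Cert_tree lc_d_rc_29_2 lc_d_rc_27_0 lc_d_rc_33_2 lc_d_rc_3_1 lc_d_rc_33_2 lc_d_rc_3_1 lc_d_Cert_tree lc_d_rc_29_2 lc_d_rc_27_0 lc_d_rc_12_1 lc_d_Cert_tree lc_d_rc_20_3 lc_d_rc_28_2 lc_d_rc_29_2 lc_d_rc_12_1 lc_d_Cert_tree lc_d_rc_3_1 lc_d_rc_12_1 lc_d_Cert_tree lc_d_rc_20_3 lc_d_Cert_tree lc_d_rc_27_0 lc_d_rc_31_2) (@D3.rec (fun _ => (Cert rels S Gen.d)) lc_d_rc_29_2 lc_d_Cert_tree lc_d_rc_32_2 lc_d_Cert_tree lc_d_rc_27_0 lc_d_Cert_tree lc_d_rc_27_0 lc_d_rc_28_2 lc_d_rc_29_2 lc_d_rc_27_0 lc_d_rc_33_2 lc_d_rc_33_2 lc_d_rc_3_1 lc_d_rc_27_0 lc_d_rc_33_2 lc_d_rc_20_3 lc_d_rc_28_2 lc_d_rc_33_2 lc_d_rc_33_2 lc_d_rc_20_3 lc_d_rc_3_1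 lc_d_Cert_tree lc_d_rc_30_2 lc_d_rc_20_3 lc_d_rc_3_1 lc_d_rc_33_2 lc_d_Cert_tree lc_d_rc_3_1 lc_d_Cert_tree lc_d_rc_27_0 lc_d_rc_29_2 lc_d_rc_3_3 lc_d_rc_33_2 lc_d_rc_33_2 lc_d_rc_33_2 lc_d_rc_12_1 lc_d_Cert_tree lc_d_rc_30_0 lc_d_rc_28_2 lc_d_rc_33_2 lc_d_Cert_tree lc_d_rc_20_3 lc_d_rc_28_2 lc_d_rc_28_2 lc_d_rc_29_2 lc_d_rc_29_2 lc_d_rc_20_3 lc_d_rc_20_3 lc_d_Cert_tree lc_d_rc_30_2 lc_d_rc_29_2) (@D3.rec (fun _ => (Cert rels S Gen.d)) lc_d_rc_3_1 lc_d_rc_12_1 lc_d_Cert_tree lc_d_Cert_tree lc_d_rc_27_0 lc_d_rc_27_0 lc_d_rc_33_2 lc_d_Cert_tree lc_d_rc_29_2 lc_d_rc_27_0 lc_d_rc_29_4 lc_d_rc_27_0 lc_d_rc_28_2 lc_d_rc_29_2 lc_d_rc_55_33 lc_d_rc_33_2 lc_d_rc_33_2 lc_d_rc_3_1 lc_d_rc_12_1 lc_d_Cert_tree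 lc_d_rc_27_0 lc_d_rc_33_2 lc_d_rc_28_2 lc_d_rc_33_2 lc_d_rc_28_2 lc_d_rc_20_3 lc_d_rc_28_2 lc_d_rc_3_1 lc_d_rc_3_1 lc_d_Cert_tree lc_d_rc_3_1 lc_d_Cert_tree lc_d_rc_27_0 lc_d_rc_33_2 lc_d_rc_12_3 lc_d_Cert_tree lc_d_rc_29_2 lc_d_rc_27_0 lc_d_rc_28_2 lc_d_rc_27_0 lc_d_rc_28_2 lc_d_rc_12_1 lc_d_Cert_tree lc_d_rc_33_2 lc_d_rc_12_3 lc_d_rc_33_2 lc_d_rc_12_1 lc_d_Cert_tree lc_d_rc_12_1 lc_d_Cert_tree lc_d_rc_20_1) (@D3.rec (fun _ => (Cert rels S Gen.d)) lc_d_rc_27_0 lc_d_rc_20_3 lc_d_rc_28_2 lc_d_rc_33_2 lc_d_rc_12_1 lc_d_rc_28_2 lc_d_rc_20_3 lc_d_rc_28_2 lc_d_rc_29_2 lc_d_rc_3_1 lc_d_Cert_tree lc_d_rc_12_1 lc_d_rc_27_0 lc_d_rc_12_3 lc_d_rc_33_2 lc_d_Cert_tree lc_d_rc_28_2 lc_d_rc_28_2 lc_d_Cert_tree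 lc_d_rc_12_1 lc_d_Cert_tree lc_d_rc_3_1 lc_d_rc_12_1 lc_d_rc_12_1 lc_d_Cert_tree lc_d_rc_20_3 lc_d_rc_20_3 lc_d_Cert_tree lc_d_rc_27_0 lc_d_rc_32_2 lc_d_rc_31_2 lc_d_rc_29_2 lc_d_rc_3_1 lc_d_Cert_tree lc_d_rc_12_1 lc_d_Cert_tree lc_d_rc_27_0 lc_d_rc_20_3 lc_d_rc_20_3 lc_d_rc_27_0 lc_d_rc_28_2 lc_d_rc_32_2 lc_d_rc_29_2 lc_d_rc_32_2 lc_d_rc_20_3 lc_d_rc_12_1 lc_d_rc_12_1 lc_d_Cert_tree lc_d_rc_3_1 lc_d_rc_27_0 lc_d_rc_33_2) (@D3.rec (fun _ => (Cert rels S Gen.d)) lc_d_Cert_tree lc_d_rc_29_2 lc_d_rc_33_2 lc_d_Cert_tree lc_d_rc_27_0 lc_d_Cert_tree lc_d_rc_27_0 lc_d_Cert_tree lc_d_rc_27_0 lc_d_rc_28_2 lc_d_rc_27_0 lc_d_rc_20_3 lc_d_rc_12_1 lc_d_rc_30_2 lc_d_rc_32_2 lc_d_rc_29_2 lc_d_rc_28_2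 lc_d_rc_28_4 lc_d_rc_20_5 lc_d_rc_33_2 lc_d_rc_30_2 lc_d_rc_3_1 lc_d_rc_27_0 lc_d_rc_20_3 lc_d_rc_12_1 lc_d_rc_27_0 lc_d_rc_33_2 lc_d_rc_28_2 lc_d_rc_33_2 lc_d_rc_28_2 lc_d_rc_3_1 lc_d_rc_3_1 lc_d_rc_28_2 lc_d_rc_33_2 lc_d_rc_27_0 lc_d_rc_33_2 lc_d_rc_12_1 lc_d_rc_33_2 lc_d_rc_12_3 lc_d_rc_28_2 lc_d_rc_33_2 lc_d_rc_32_2 lc_d_rc_33_2 lc_d_rc_31_0 lc_d_rc_31_2 lc_d_rc_20_3 lc_d_rc_28_2 lc_d_rc_33_2 lc_d_rc_12_1 lc_d_Cert_tree lc_d_rc_20_3) (@D3.rec (fun _ => (Cert rels S Gen.d)) lc_d_rc_55_60 lc_d_rc_28_2 lc_d_rc_29_2 lc_d_Cert_tree lc_d_rc_12_1 lc_d_rc_27_0 lc_d_rc_30_2 lc_d_rc_33_2 lc_d_rc_33_2 lc_d_rc_28_2 lc_d_Cert_tree lc_d_rc_12_1 lc_d_rc_12_1 lc_d_rc_20_3 lc_d_rc_20_3 lc_d_rc_33_2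 lc_d_rc_31_2 lc_d_rc_30_2 lc_d_rc_32_2 lc_d_rc_12_1 lc_d_rc_12_1 lc_d_rc_12_1 lc_d_rc_20_3 lc_d_Cert_tree lc_d_rc_30_2 lc_d_Cert_tree lc_d_rc_27_0 lc_d_rc_31_2 lc_d_rc_20_3 lc_d_rc_12_1 lc_d_rc_27_0 lc_d_rc_33_2 lc_d_rc_30_2 lc_d_rc_27_0 lc_d_rc_33_2 lc_d_rc_33_2 lc_d_rc_29_4 lc_d_rc_20_1 lc_d_rc_32_2 lc_d_rc_20_3 lc_d_rc_28_2 lc_d_rc_33_2 lc_d_rc_30_0 lc_d_rc_33_2 lc_d_rc_28_2 lc_d_rc_33_2 lc_d_rc_33_2 lc_d_rc_20_3 lc_d_rc_28_2 lc_d_rc_33_2 lc_d_rc_12_1) (@D3.rec (fun _ => (Cert rels S Gen.d)) lc_d_rc_28_4 lc_d_rc_20_3 lc_d_rc_28_2 lc_d_rc_3_1 lc_d_rc_3_1 lc_d_Cert_tree lc_d_rc_12_1 lc_d_rc_27_0 lc_d_rc_33_2 lc_d_rc_30_2 lc_d_Cert_tree lc_d_rc_3_1 lc_d_rc_12_1 lc_d_rc_32_2 lc_d_rc_3_1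 lc_d_rc_3_3 lc_d_rc_30_2 lc_d_rc_20_3 lc_d_rc_12_1 lc_d_rc_33_2 lc_d_rc_3_1 lc_d_rc_27_0 lc_d_rc_33_2 lc_d_rc_29_2 lc_d_rc_33_2 lc_d_rc_3_1 lc_d_rc_12_1 lc_d_Cert_tree lc_d_rc_20_3 lc_d_rc_28_2 lc_d_rc_29_2 lc_d_rc_29_2 lc_d_rc_12_3 lc_d_rc_33_2 lc_d_rc_12_1 lc_d_Cert_tree lc_d_rc_33_2 lc_d_rc_3_3 lc_d_rc_33_2 lc_d_rc_3_1 lc_d_Cert_tree lc_d_rc_12_1 lc_d_rc_27_0 lc_d_rc_30_2 lc_d_rc_33_2 lc_d_rc_30_2 lc_d_rc_31_2 lc_d_rc_33_2 lc_d_Cert_tree lc_d_rc_3_1 lc_d_rc_28_2) (@D3.rec (fun _ => (Cert rels S Gen.d)) lc_d_rc_12_1 lc_d_rc_28_2 lc_d_rc_32_2 lc_d_rc_33_2 lc_d_rc_3_1 lc_d_rc_29_2 lc_d_rc_28_2 lc_d_rc_3_3 lc_d_rc_29_2 lc_d_rc_30_2 lc_d_Cert_tree lc_d_rc_29_2 lc_d_rc_31_2 lc_d_rc_30_2 lc_d_rc_28_0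 lc_d_Cert_tree lc_d_rc_29_2 lc_d_rc_31_2 lc_d_Cert_tree lc_d_rc_27_0 lc_d_rc_32_2 lc_d_rc_33_2 lc_d_rc_31_2 lc_d_rc_20_3 lc_d_rc_30_2 lc_d_rc_28_2 lc_d_rc_29_2 lc_d_rc_28_2 lc_d_rc_12_1 lc_d_rc_27_0 lc_d_rc_28_2 lc_d_rc_33_2 lc_d_Cert_tree lc_d_rc_28_2 lc_d_rc_33_2 lc_d_Cert_tree lc_d_rc_28_2 lc_d_rc_3_1 lc_d_rc_27_0 lc_d_rc_30_2 lc_d_rc_33_2 lc_d_Cert_tree lc_d_rc_30_2 lc_d_rc_29_2 lc_d_rc_33_2 lc_d_rc_31_2 lc_d_rc_33_2 lc_d_Cert_tree lc_d_rc_27_0 lc_d_rc_28_2 lc_d_rc_28_2)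
def ce_d_13 : D2 → D3 → (Cert rels S Gen.d) := @D2.rec (fun _ => D3 → (Cert rels S Gen.d)) (@D3.rec (fun _ => (Cert rels S Gen.d)) lc_d_Cert_tree lc_d_rc_27_0 lc_d_rc_3_1 lc_d_rc_3_1 lc_d_rc_12_1 lc_d_rc_12_1 lc_d_rc_29_2 lc_d_rc_20_3 lc_d_Cert_tree lc_d_rc_27_0 lc_d_rc_32_2 lc_d_rc_31_2 lc_d_rc_30_2 lc_d_rc_3_1 lc_d_rc_3_1 lc_d_rc_31_2 lc_d_rc_12_1 lc_d_rc_12_1 lc_d_Cert_tree lc_d_rc_27_0 lc_d_rc_20_3 lc_d_rc_20_3 lc_d_Cert_tree lc_d_rc_27_0 lc_d_rc_28_2 lc_d_rc_32_2 lc_d_rc_30_2 lc_d_rc_33_0 lc_d_rc_12_1 lc_d_rc_12_1 lc_d_Cert_tree lc_d_rc_27_0 lc_d_rc_20_3 lc_d_Cert_tree lc_d_rc_27_0 lc_d_rc_28_2 lc_d_rc_32_2 lc_d_rc_32_2 lc_d_rc_33_2 lc_d_rc_27_0 lc_d_rc_33_2 lc_d_rc_29_2 lc_d_rc_28_2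 lc_d_rc_12_1 lc_d_rc_30_2 lc_d_rc_29_2 lc_d_rc_20_3 lc_d_rc_29_2 lc_d_rc_33_2 lc_d_rc_3_1 lc_d_Cert_tree) (@D3.rec (fun _ => (Cert rels S Gen.d)) lc_d_rc_27_1 lc_d_rc_28_2 lc_d_rc_28_2 lc_d_rc_3_1 lc_d_Cert_tree lc_d_rc_12_1 lc_d_rc_27_0 lc_d_rc_33_2 lc_d_Cert_tree lc_d_rc_29_2 lc_d_rc_33_2 lc_d_rc_12_1 lc_d_rc_27_0 lc_d_rc_33_2 lc_d_rc_3_1 lc_d_rc_27_0 lc_d_rc_33_2 lc_d_rc_29_2 lc_d_rc_33_2 lc_d_rc_3_1 lc_d_rc_33_2 lc_d_rc_28_4 lc_d_rc_12_1 lc_d_rc_28_2 lc_d_rc_27_0 lc_d_rc_27_0 lc_d_rc_20_3 lc_d_rc_12_1 lc_d_rc_30_2 lc_d_rc_27_0 lc_d_rc_27_0 lc_d_rc_27_0 lc_d_rc_27_0 lc_d_rc_32_2 lc_d_rc_55_57 lc_d_rc_28_2 lc_d_rc_12_1 lc_d_rc_20_3 lc_d_rc_33_2 lc_d_rc_20_5 lc_d_rc_27_0 lc_d_rc_28_2 lc_d_rc_33_2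 lc_d_Cert_tree lc_d_rc_33_2 lc_d_Cert_tree lc_d_rc_27_0 lc_d_rc_27_0 lc_d_rc_20_3 lc_d_rc_12_1 lc_d_rc_30_2) (@D3.rec (fun _ => (Cert rels S Gen.d)) lc_d_rc_31_2 lc_d_rc_27_0 lc_d_rc_32_2 lc_d_rc_27_0 lc_d_rc_20_3 lc_d_rc_30_0 lc_d_rc_27_0 lc_d_rc_31_2 lc_d_rc_32_2 lc_d_rc_32_2 lc_d_rc_30_2 lc_d_rc_3_1 lc_d_Cert_tree lc_d_rc_27_0 lc_d_rc_32_2 lc_d_rc_29_4 lc_d_rc_27_0 lc_d_rc_31_2 lc_d_rc_27_0 lc_d_rc_3_3 lc_d_rc_33_2 lc_d_rc_33_2 lc_d_rc_29_2 lc_d_rc_20_5 lc_d_rc_28_2 lc_d_rc_3_1 lc_d_rc_28_4 lc_d_rc_12_3 lc_d_rc_12_3 lc_d_Cert_tree lc_d_rc_31_2 lc_d_rc_29_2 lc_d_rc_33_2 lc_d_rc_28_2 lc_d_Cert_tree lc_d_rc_33_2 lc_d_Cert_tree lc_d_rc_27_0 lc_d_rc_28_2 lc_d_rc_28_2 lc_d_rc_27_0 lc_d_rc_20_3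 lc_d_rc_3_1 lc_d_rc_12_1 lc_d_Cert_tree lc_d_rc_27_0 lc_d_rc_3_1 lc_d_rc_29_4 lc_d_rc_12_1 lc_d_Cert_tree lc_d_rc_27_0) (@D3.rec (fun _ => (Cert rels S Gen.d)) lc_d_rc_20_3 lc_d_Cert_tree lc_d_rc_27_0 lc_d_rc_28_2 lc_d_rc_30_2 lc_d_rc_33_2 lc_d_rc_30_2 lc_d_rc_12_1 lc_d_Cert_tree lc_d_rc_27_0 lc_d_rc_20_3 lc_d_rc_27_0 lc_d_rc_29_2 lc_d_rc_29_2 lc_d_rc_20_3 lc_d_rc_29_2 lc_d_rc_12_1 lc_d_Cert_tree lc_d_rc_32_2 lc_d_rc_29_2 lc_d_Cert_tree lc_d_rc_3_3 lc_d_Cert_tree lc_d_rc_27_0 lc_d_rc_20_3 lc_d_rc_32_2 lc_d_rc_27_0 lc_d_rc_31_2 lc_d_rc_20_5 lc_d_rc_20_3 lc_d_rc_31_2 lc_d_rc_20_3 lc_d_rc_27_0 lc_d_rc_32_2 lc_d_rc_30_2 lc_d_rc_27_0 lc_d_rc_30_2 lc_d_rc_30_2 lc_d_rc_30_2 lc_d_rc_20_5 lc_d_rc_29_2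 lc_d_rc_20_3 lc_d_rc_27_0 lc_d_rc_3_1 lc_d_rc_28_2 lc_d_rc_31_2 lc_d_rc_3_1 lc_d_rc_30_2 lc_d_rc_3_1 lc_d_Cert_tree lc_d_rc_27_0) (@D3.rec (fun _ => (Cert rels S Gen.d)) lc_d_rc_28_2 lc_d_rc_27_0 lc_d_rc_55_18 lc_d_rc_28_2 lc_d_rc_33_2 lc_d_rc_28_2 lc_d_rc_33_2 lc_d_rc_20_3 lc_d_rc_20_3 lc_d_rc_28_2 lc_d_rc_29_2 lc_d_rc_28_2 lc_d_Cert_tree lc_d_rc_33_2 lc_d_rc_29_2 lc_d_rc_3_1 lc_d_rc_29_2 lc_d_rc_33_2 lc_d_rc_28_2 lc_d_rc_33_2 lc_d_rc_29_2 lc_d_rc_29_2 lc_d_rc_31_2 lc_d_rc_30_2 lc_d_Cert_tree lc_d_rc_31_2 lc_d_Cert_tree lc_d_rc_27_0 lc_d_rc_27_0 lc_d_rc_33_2 lc_d_rc_28_2 lc_d_rc_33_2 lc_d_rc_29_2 lc_d_rc_30_0 lc_d_rc_28_2 lc_d_rc_33_2 lc_d_rc_27_0 lc_d_rc_33_2 lc_d_rc_20_3 lc_d_rc_28_2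 lc_d_rc_33_2 lc_d_rc_28_2 lc_d_rc_33_2 lc_d_rc_12_1 lc_d_rc_20_3 lc_d_rc_20_3 lc_d_rc_30_2 lc_d_rc_28_2 lc_d_rc_29_2 lc_d_rc_3_1 lc_d_rc_12_1) (@D3.rec (fun _ => (Cert rels S Gen.d)) lc_d_rc_12_1 lc_d_rc_20_3 lc_d_rc_20_3 lc_d_Cert_tree lc_d_rc_30_2 lc_d_rc_28_2 lc_d_rc_30_2 lc_d_Cert_tree lc_d_rc_27_0 lc_d_rc_20_3 lc_d_rc_3_1 lc_d_rc_12_1 lc_d_rc_3_1 lc_d_rc_12_1 lc_d_rc_3_1 lc_d_rc_29_4 lc_d_rc_27_0 lc_d_rc_33_2 lc_d_rc_33_2 lc_d_rc_28_2 lc_d_rc_29_2 lc_d_Cert_tree lc_d_rc_28_2 lc_d_rc_33_2 lc_d_rc_29_2 lc_d_rc_31_2 lc_d_rc_30_2 lc_d_Cert_tree lc_d_rc_31_2 lc_d_rc_27_0 lc_d_rc_3_1 lc_d_rc_29_2 lc_d_rc_27_0 lc_d_rc_33_2 lc_d_rc_28_2 lc_d_rc_33_2 lc_d_rc_33_2 lc_d_rc_29_2 lc_d_rc_28_2 lc_d_rc_33_2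 lc_d_rc_29_2 lc_d_rc_30_2 lc_d_Cert_tree lc_d_rc_28_2 lc_d_rc_33_2 lc_d_rc_28_2 lc_d_rc_20_3 lc_d_rc_28_2 lc_d_rc_28_2 lc_d_rc_29_2 lc_d_rc_29_2) (@D3.rec (fun _ => (Cert rels S Gen.d)) lc_d_rc_29_2 lc_d_rc_31_2 lc_d_rc_30_2 lc_d_Cert_tree lc_d_rc_33_2 lc_d_rc_31_2 lc_d_rc_33_2 lc_d_rc_30_0 lc_d_rc_32_2 lc_d_rc_31_2 lc_d_Cert_tree lc_d_rc_27_0 lc_d_rc_32_2 lc_d_rc_31_2 lc_d_Cert_tree lc_d_rc_27_0 lc_d_rc_32_2 lc_d_Cert_tree lc_d_rc_27_0 lc_d_rc_29_2 lc_d_Cert_tree lc_d_rc_27_0 lc_d_rc_33_2 lc_d_Cert_tree lc_d_rc_27_0 lc_d_rc_33_2 lc_d_rc_29_2 lc_d_rc_28_2 lc_d_rc_33_2 lc_d_rc_29_2 lc_d_rc_28_2 lc_d_rc_33_2 lc_d_rc_33_2 lc_d_rc_29_2 lc_d_rc_28_2 lc_d_rc_33_2 lc_d_Cert_tree lc_d_Cert_tree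 lc_d_rc_27_0 lc_d_rc_33_2 lc_d_rc_20_3 lc_d_rc_28_2 lc_d_rc_33_2 lc_d_rc_12_1 lc_d_Cert_tree lc_d_rc_20_3 lc_d_rc_28_2 lc_d_rc_28_2 lc_d_rc_29_2 lc_d_rc_20_3 lc_d_rc_20_3) (@D3.rec (fun _ => (Cert rels S Gen.d)) lc_d_rc_30_2 lc_d_rc_28_2 lc_d_rc_29_2 lc_d_rc_12_1 lc_d_rc_20_3 lc_d_rc_20_3 lc_d_Cert_tree lc_d_rc_30_2 lc_d_Cert_tree lc_d_Cert_tree lc_d_Cert_tree lc_d_rc_27_0 lc_d_rc_27_0 lc_d_rc_31_2 lc_d_rc_30_2 lc_d_Cert_tree lc_d_Cert_tree lc_d_rc_27_0 lc_d_rc_20_3 lc_d_rc_20_3 lc_d_rc_29_2 lc_d_Cert_tree lc_d_rc_12_1 lc_d_rc_27_0 lc_d_rc_33_2 lc_d_Cert_tree lc_d_rc_28_4 lc_d_Cert_tree lc_d_Cert_tree lc_d_rc_27_0 lc_d_rc_55_33 lc_d_rc_27_0 lc_d_rc_28_2 lc_d_rc_28_2 lc_d_rc_31_2 lc_d_Cert_tree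 lc_d_rc_12_3 lc_d_rc_27_0 lc_d_rc_27_0 lc_d_rc_27_0 lc_d_rc_28_2 lc_d_Cert_tree lc_d_rc_27_0 lc_d_rc_33_2 lc_d_rc_27_0 lc_d_rc_33_2 lc_d_rc_33_2 lc_d_rc_33_2 lc_d_Cert_tree lc_d_rc_27_0 lc_d_rc_33_2) (@D3.rec (fun _ => (Cert rels S Gen.d)) lc_d_rc_3_1 lc_d_rc_28_2 lc_d_rc_33_2 lc_d_rc_3_1 lc_d_rc_33_2 lc_d_rc_3_1 lc_d_rc_30_2 lc_d_rc_28_2 lc_d_rc_31_2 lc_d_Cert_tree lc_d_Cert_tree lc_d_rc_30_2 lc_d_Cert_tree lc_d_rc_27_0 lc_d_rc_27_0 lc_d_rc_33_2 lc_d_rc_27_0 lc_d_rc_33_2 lc_d_rc_3_1 lc_d_rc_28_2 lc_d_rc_33_2 lc_d_rc_33_2 lc_d_rc_3_1 lc_d_rc_29_2 lc_d_rc_28_2 lc_d_rc_33_2 lc_d_Cert_tree lc_d_Cert_tree lc_d_rc_27_0 lc_d_rc_33_2 lc_d_rc_20_1 lc_d_rc_33_2 lc_d_rc_28_2 lc_d_rc_20_3 lc_d_rc_28_2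 lc_d_rc_28_2 lc_d_rc_29_2 lc_d_rc_32_2 lc_d_Cert_tree lc_d_rc_31_2 lc_d_rc_30_2 lc_d_Cert_tree lc_d_rc_27_0 lc_d_rc_32_2 lc_d_rc_31_2 lc_d_Cert_tree lc_d_rc_27_0 lc_d_rc_32_2 lc_d_rc_31_2 lc_d_Cert_tree lc_d_rc_27_0) (@D3.rec (fun _ => (Cert rels S Gen.d)) lc_d_rc_32_2 lc_d_Cert_tree lc_d_rc_27_0 lc_d_rc_32_2 lc_d_Cert_tree lc_d_rc_27_0 lc_d_rc_27_0 lc_d_rc_33_2 lc_d_rc_20_3 lc_d_rc_28_2 lc_d_rc_33_2 lc_d_rc_27_0 lc_d_rc_33_2 lc_d_rc_29_2 lc_d_rc_28_2 lc_d_rc_33_2 lc_d_rc_12_1 lc_d_Cert_tree lc_d_rc_33_2 lc_d_rc_30_2 lc_d_rc_28_2 lc_d_rc_33_2 lc_d_rc_12_1 lc_d_rc_33_2 lc_d_rc_29_2 lc_d_rc_28_2 lc_d_rc_33_2 lc_d_rc_12_1 lc_d_rc_30_2 lc_d_rc_33_2 lc_d_Cert_tree lc_d_rc_29_2 lc_d_rc_30_2 lc_d_Cert_tree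 lc_d_Cert_tree lc_d_rc_28_4 lc_d_rc_27_0 lc_d_rc_29_2 lc_d_rc_31_2 lc_d_Cert_tree lc_d_rc_27_0 lc_d_rc_31_2 lc_d_rc_33_2 lc_d_rc_12_1 lc_d_rc_28_2 lc_d_rc_20_3 lc_d_rc_28_2 lc_d_rc_28_2 lc_d_rc_29_2 lc_d_rc_3_1 lc_d_Cert_tree) (@D3.rec (fun _ => (Cert rels S Gen.d)) lc_d_rc_12_1 lc_d_rc_27_0 lc_d_rc_28_2 lc_d_rc_33_2 lc_d_Cert_tree lc_d_rc_28_2 lc_d_rc_28_2 lc_d_Cert_tree lc_d_rc_3_1 lc_d_rc_12_1 lc_d_Cert_tree lc_d_rc_31_2 lc_d_rc_30_2 lc_d_Cert_tree lc_d_rc_3_1 lc_d_rc_29_2 lc_d_rc_33_2 lc_d_Cert_tree lc_d_rc_30_2 lc_d_rc_33_2 lc_d_rc_31_2 lc_d_rc_27_0 lc_d_rc_32_2 lc_d_rc_31_2 lc_d_Cert_tree lc_d_rc_27_0 lc_d_Cert_tree lc_d_rc_30_0 lc_d_rc_27_0 lc_d_rc_33_0 lc_d_rc_31_2 lc_d_rc_28_0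 lc_d_rc_33_0 lc_d_rc_32_2 lc_d_Cert_tree lc_d_rc_27_0 lc_d_rc_20_3 lc_d_rc_32_2 lc_d_rc_31_2 lc_d_Cert_tree lc_d_rc_27_0 lc_d_rc_32_2 lc_d_Cert_tree lc_d_rc_27_0 lc_d_rc_29_2 lc_d_Cert_tree lc_d_rc_27_0 lc_d_rc_29_2 lc_d_rc_12_1 lc_d_rc_3_1 lc_d_rc_12_1) (@D3.rec (fun _ => (Cert rels S Gen.d)) lc_d_Cert_tree lc_d_Cert_tree lc_d_rc_3_1 lc_d_rc_27_0 lc_d_rc_33_2 lc_d_Cert_tree lc_d_rc_29_2 lc_d_rc_33_2 lc_d_Cert_tree lc_d_rc_27_0 lc_d_rc_3_1 lc_d_Cert_tree lc_d_rc_27_0 lc_d_rc_29_4 lc_d_rc_27_0 lc_d_rc_29_2 lc_d_rc_3_1 lc_d_rc_30_2 lc_d_rc_3_1 lc_d_Cert_tree lc_d_rc_27_0 lc_d_rc_28_4 lc_d_rc_30_2 lc_d_rc_30_2 lc_d_rc_27_0 lc_d_rc_29_4 lc_d_rc_27_0 lc_d_rc_32_2 lc_d_rc_29_2 lc_d_rc_29_2 lc_d_rc_29_2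 lc_d_rc_27_0 lc_d_rc_29_2 lc_d_rc_3_1 lc_d_rc_28_2 lc_d_rc_27_0 lc_d_rc_33_2 lc_d_rc_33_2 lc_d_rc_27_0 lc_d_rc_33_2 lc_d_rc_3_1 lc_d_rc_28_2 lc_d_rc_33_2 lc_d_rc_30_2 lc_d_rc_27_0 lc_d_rc_33_2 lc_d_rc_33_2 lc_d_rc_33_2 lc_d_rc_20_3 lc_d_rc_28_2 lc_d_rc_3_1) (@D3.rec (fun _ => (Cert rels S Gen.d)) lc_d_Cert_tree lc_d_Cert_tree lc_d_rc_33_2 lc_d_rc_12_1 lc_d_rc_33_2 lc_d_rc_29_2 lc_d_rc_28_2 lc_d_rc_33_2 lc_d_rc_33_2 lc_d_rc_33_2 lc_d_rc_29_2 lc_d_rc_12_1 lc_d_Cert_tree lc_d_rc_30_2 lc_d_Cert_tree lc_d_Cert_tree lc_d_rc_27_0 lc_d_Cert_tree lc_d_rc_27_0 lc_d_rc_29_2 lc_d_rc_33_2 lc_d_rc_33_2 lc_d_rc_12_1 lc_d_rc_20_3 lc_d_rc_12_1 lc_d_rc_27_0 lc_d_rc_33_2 lc_d_rc_29_2 lc_d_rc_33_2 lc_d_rc_12_1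 lc_d_rc_12_1 lc_d_rc_33_2 lc_d_rc_28_2 lc_d_rc_3_1 lc_d_rc_33_2 lc_d_rc_33_2 lc_d_rc_20_3 lc_d_rc_30_2 lc_d_rc_28_2 lc_d_rc_3_1 lc_d_rc_12_1 lc_d_rc_28_2 lc_d_Cert_tree lc_d_Cert_tree lc_d_rc_30_2 lc_d_rc_32_2 lc_d_rc_27_0 lc_d_rc_30_2 lc_d_rc_55_63 lc_d_Cert_tree lc_d_rc_27_0) (@D3.rec (fun _ => (Cert rels S Gen.d)) lc_d_rc_33_2 lc_d_rc_33_2 lc_d_rc_33_2 lc_d_rc_28_2 lc_d_rc_33_2 lc_d_rc_12_1 lc_d_rc_33_2 lc_d_Cert_tree lc_d_rc_30_2 lc_d_Cert_tree lc_d_rc_28_2 lc_d_rc_29_2 lc_d_rc_29_2 lc_d_rc_28_2 lc_d_Cert_tree lc_d_Cert_tree lc_d_rc_3_1 lc_d_rc_12_1 lc_d_Cert_tree lc_d_rc_28_2 lc_d_Cert_tree lc_d_rc_27_0 lc_d_rc_31_2 lc_d_Cert_tree lc_d_rc_27_0 lc_d_rc_27_0 lc_d_rc_27_0 lc_d_rc_20_3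 lc_d_rc_27_0 lc_d_rc_32_2 lc_d_rc_27_0 lc_d_rc_28_2 lc_d_rc_29_2 lc_d_rc_29_2 lc_d_rc_30_2 lc_d_rc_29_2 lc_d_rc_20_1 lc_d_rc_29_2 lc_d_rc_29_2 lc_d_rc_32_2 lc_d_rc_33_2 lc_d_Cert_tree lc_d_rc_27_0 lc_d_rc_33_2 lc_d_rc_27_0 lc_d_rc_33_2 lc_d_rc_33_2 lc_d_rc_12_1 lc_d_Cert_tree lc_d_rc_27_0 lc_d_rc_33_2) (@D3.rec (fun _ => (Cert rels S Gen.d)) lc_d_rc_27_0 lc_d_rc_33_2 lc_d_rc_3_1 lc_d_rc_28_2 lc_d_rc_33_2 lc_d_rc_3_1 lc_d_rc_28_2 lc_d_rc_3_1 lc_d_Cert_tree lc_d_rc_27_0 lc_d_rc_33_2 lc_d_rc_20_3 lc_d_rc_28_2 lc_d_rc_33_2 lc_d_rc_33_2 lc_d_rc_20_3 lc_d_rc_30_2 lc_d_rc_28_2 lc_d_rc_3_1 lc_d_rc_12_1 lc_d_Cert_tree lc_d_Cert_tree lc_d_rc_30_2 lc_d_Cert_tree lc_d_rc_27_0 lc_d_rc_32_2 lc_d_rc_20_3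 lc_d_rc_3_1 lc_d_Cert_tree lc_d_rc_27_0 lc_d_rc_27_0 lc_d_rc_33_2 lc_d_rc_27_0 lc_d_rc_33_2 lc_d_rc_29_2 lc_d_rc_28_2 lc_d_rc_33_2 lc_d_rc_33_2 lc_d_rc_12_1 lc_d_rc_33_2 lc_d_rc_29_2 lc_d_rc_28_2 lc_d_rc_33_2 lc_d_rc_12_1 lc_d_rc_33_2 lc_d_Cert_tree lc_d_rc_29_2 lc_d_rc_30_2 lc_d_Cert_tree lc_d_rc_27_0 lc_d_rc_33_2) (@D3.rec (fun _ => (Cert rels S Gen.d)) lc_d_rc_28_2 lc_d_rc_33_2 lc_d_rc_12_1 lc_d_Cert_tree lc_d_rc_20_3 lc_d_rc_28_2 lc_d_rc_28_2 lc_d_rc_29_2 lc_d_rc_29_2 lc_d_rc_12_1 lc_d_Cert_tree lc_d_rc_31_2 lc_d_rc_30_2 lc_d_Cert_tree lc_d_rc_3_1 lc_d_rc_29_2 lc_d_Cert_tree lc_d_rc_29_2 lc_d_rc_29_2 lc_d_rc_3_1 lc_d_rc_27_0 lc_d_rc_31_2 lc_d_Cert_tree lc_d_rc_27_0 lc_d_rc_31_2 lc_d_Cert_tree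 lc_d_rc_27_0 lc_d_Cert_tree lc_d_rc_27_0 lc_d_rc_29_2 lc_d_rc_28_2 lc_d_rc_29_2 lc_d_rc_12_1 lc_d_rc_27_0 lc_d_rc_33_2 lc_d_Cert_tree lc_d_rc_29_2 lc_d_Cert_tree lc_d_rc_27_0 lc_d_rc_27_0 lc_d_rc_28_2 lc_d_rc_30_2 lc_d_rc_12_1 lc_d_rc_28_2 lc_d_rc_55_18 lc_d_rc_27_0 lc_d_rc_33_2 lc_d_rc_31_2 lc_d_rc_33_2 lc_d_rc_29_2 lc_d_rc_27_0) (@D3.rec (fun _ => (Cert rels S Gen.d)) lc_d_rc_33_2 lc_d_rc_20_3 lc_d_rc_28_2 lc_d_rc_33_2 lc_d_rc_33_2 lc_d_rc_12_1 lc_d_rc_20_3 lc_d_rc_12_1 lc_d_rc_12_1 lc_d_Cert_tree lc_d_Cert_tree lc_d_rc_27_0 lc_d_rc_33_2 lc_d_rc_27_0 lc_d_rc_33_2 lc_d_rc_29_2 lc_d_rc_28_2 lc_d_rc_33_2 lc_d_rc_29_2 lc_d_rc_33_2 lc_d_rc_12_1 lc_d_rc_31_2 lc_d_rc_33_2 lc_d_rc_29_2 lc_d_rc_28_2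 lc_d_rc_3_1 lc_d_rc_12_1 lc_d_rc_3_1 lc_d_Cert_tree lc_d_Cert_tree lc_d_rc_27_0 lc_d_rc_33_2 lc_d_rc_20_3 lc_d_rc_28_2 lc_d_rc_33_2 lc_d_rc_12_1 lc_d_rc_28_2 lc_d_rc_20_3 lc_d_rc_28_2 lc_d_rc_28_2 lc_d_rc_3_1 lc_d_rc_20_3 lc_d_rc_30_2 lc_d_rc_28_2 lc_d_rc_3_1 lc_d_rc_3_1 lc_d_rc_12_1 lc_d_rc_30_2 lc_d_rc_28_2 lc_d_Cert_tree lc_d_rc_30_2) (@D3.rec (fun _ => (Cert rels S Gen.d)) lc_d_Cert_tree lc_d_rc_3_1 lc_d_rc_12_1 lc_d_Cert_tree lc_d_Cert_tree lc_d_rc_27_0 lc_d_rc_27_0 lc_d_rc_31_2 lc_d_rc_30_2 lc_d_rc_31_2 lc_d_Cert_tree lc_d_rc_27_0 lc_d_rc_20_3 lc_d_rc_31_2 lc_d_rc_20_3 lc_d_rc_28_2 lc_d_rc_30_2 lc_d_rc_12_1 lc_d_Cert_tree lc_d_rc_29_2 lc_d_rc_31_2 lc_d_rc_20_3 lc_d_rc_3_1 lc_d_Cert_tree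 lc_d_rc_27_0 lc_d_rc_12_1 lc_d_rc_27_0 lc_d_rc_28_2 lc_d_rc_27_0 lc_d_rc_33_2 lc_d_rc_20_3 lc_d_rc_28_2 lc_d_rc_33_2 lc_d_rc_27_0 lc_d_rc_33_2 lc_d_rc_29_2 lc_d_rc_28_2 lc_d_rc_33_2 lc_d_rc_12_1 lc_d_Cert_tree lc_d_rc_33_2 lc_d_rc_30_2 lc_d_rc_28_2 lc_d_rc_33_2 lc_d_rc_33_2 lc_d_rc_29_2 lc_d_rc_28_2 lc_d_rc_33_2 lc_d_rc_12_1 lc_d_rc_30_2 lc_d_rc_33_2) (@D3.rec (fun _ => (Cert rels S Gen.d)) lc_d_Cert_tree lc_d_rc_29_2 lc_d_rc_30_2 lc_d_Cert_tree lc_d_Cert_tree lc_d_Cert_tree lc_d_rc_27_0 lc_d_rc_31_2 lc_d_Cert_tree lc_d_rc_27_0 lc_d_rc_28_2 lc_d_rc_33_2 lc_d_Cert_tree lc_d_rc_20_3 lc_d_rc_28_2 lc_d_rc_28_2 lc_d_rc_29_2 lc_d_rc_3_1 lc_d_Cert_tree lc_d_rc_12_1 lc_d_rc_27_0 lc_d_rc_30_2 lc_d_rc_33_2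 lc_d_Cert_tree lc_d_rc_28_2 lc_d_rc_28_2 lc_d_Cert_tree lc_d_rc_30_2 lc_d_rc_28_2 lc_d_Cert_tree lc_d_rc_30_2 lc_d_Cert_tree lc_d_rc_3_1 lc_d_rc_12_1 lc_d_rc_12_1 lc_d_Cert_tree lc_d_rc_30_2 lc_d_rc_30_2 lc_d_Cert_tree lc_d_rc_27_0 lc_d_rc_32_2 lc_d_rc_31_2 lc_d_Cert_tree lc_d_rc_27_0 lc_d_rc_20_3 lc_d_Cert_tree lc_d_rc_27_0 lc_d_rc_28_2 lc_d_Cert_tree lc_d_rc_27_0 lc_d_rc_28_2) (@D3.rec (fun _ => (Cert rels S Gen.d)) lc_d_rc_32_2 lc_d_Cert_tree lc_d_rc_27_0 lc_d_rc_20_3 lc_d_Cert_tree lc_d_rc_27_0 lc_d_rc_32_2 lc_d_Cert_tree lc_d_rc_27_0 lc_d_rc_20_3 lc_d_rc_27_0 lc_d_rc_20_3 lc_d_rc_12_1 lc_d_rc_27_0 lc_d_rc_33_2 lc_d_Cert_tree lc_d_rc_31_0 lc_d_Cert_tree lc_d_rc_3_1 lc_d_rc_27_0 lc_d_rc_33_2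 lc_d_Cert_tree lc_d_rc_29_2 lc_d_rc_33_2 lc_d_Cert_tree lc_d_rc_27_0 lc_d_rc_27_0 lc_d_rc_27_0 lc_d_rc_31_2 lc_d_rc_27_0 lc_d_rc_28_2 lc_d_rc_28_2 lc_d_rc_56_10 lc_d_rc_31_0 lc_d_rc_20_1 lc_d_rc_28_0 lc_d_rc_29_2 lc_d_rc_27_0 lc_d_rc_27_0 lc_d_rc_33_2 lc_d_rc_20_3 lc_d_rc_28_2 lc_d_rc_33_2 lc_d_rc_20_3 lc_d_rc_33_2 lc_d_rc_20_3 lc_d_rc_12_1 lc_d_Cert_tree lc_d_rc_27_0 lc_d_rc_33_2 lc_d_rc_28_2) (@D3.rec (fun _ => (Cert rels S Gen.d)) lc_d_rc_33_2 lc_d_rc_28_2 lc_d_rc_28_2 lc_d_rc_3_1 lc_d_rc_28_2 lc_d_rc_3_1 lc_d_rc_30_2 lc_d_Cert_tree lc_d_rc_27_0 lc_d_Cert_tree lc_d_Cert_tree lc_d_rc_27_0 lc_d_rc_27_0 lc_d_rc_33_2 lc_d_rc_3_1 lc_d_rc_28_2 lc_d_rc_33_2 lc_d_rc_27_0 lc_d_rc_33_2 lc_d_rc_28_2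 lc_d_rc_33_2 lc_d_rc_30_2 lc_d_rc_28_2 lc_d_rc_33_2 lc_d_rc_29_2 lc_d_rc_28_2 lc_d_rc_33_2 lc_d_rc_30_2 lc_d_Cert_tree lc_d_rc_27_0 lc_d_rc_20_3 lc_d_rc_28_2 lc_d_rc_33_2 lc_d_rc_12_1 lc_d_rc_20_3 lc_d_rc_12_3 lc_d_rc_28_2 lc_d_rc_29_2 lc_d_rc_30_2 lc_d_rc_12_1 lc_d_rc_27_0 lc_d_rc_12_3 lc_d_rc_33_2 lc_d_rc_33_2 lc_d_rc_28_2 lc_d_rc_28_2 lc_d_Cert_tree lc_d_rc_33_2 lc_d_rc_30_2 lc_d_Cert_tree lc_d_rc_31_2) (@D3.rec (fun _ => (Cert rels S Gen.d)) lc_d_rc_3_1 lc_d_rc_28_4 lc_d_rc_32_2 lc_d_rc_31_2 lc_d_Cert_tree lc_d_rc_27_0 lc_d_rc_32_2 lc_d_Cert_tree lc_d_rc_27_0 lc_d_rc_28_4 lc_d_rc_28_4 lc_d_Cert_tree lc_d_rc_27_0 lc_d_rc_32_2 lc_d_Cert_tree lc_d_rc_27_0 lc_d_rc_3_1 lc_d_Cert_tree lc_d_rc_27_0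 lc_d_rc_20_3 lc_d_rc_33_2 lc_d_rc_27_0 lc_d_rc_33_2 lc_d_rc_56_24 lc_d_rc_33_2 lc_d_rc_33_2 lc_d_rc_12_1 lc_d_rc_27_0 lc_d_rc_33_2 lc_d_rc_20_3 lc_d_rc_28_2 lc_d_rc_33_2 lc_d_Cert_tree lc_d_rc_20_3 lc_d_rc_28_2 lc_d_rc_12_1 lc_d_rc_20_3 lc_d_rc_12_1 lc_d_Cert_tree lc_d_rc_27_0 lc_d_rc_27_0 lc_d_rc_33_2 lc_d_rc_20_3 lc_d_rc_28_2 lc_d_rc_33_2 lc_d_rc_27_0 lc_d_rc_33_2 lc_d_rc_28_2 lc_d_rc_33_2 lc_d_rc_30_2 lc_d_rc_28_2) (@D3.rec (fun _ => (Cert rels S Gen.d)) lc_d_rc_33_2 lc_d_rc_29_2 lc_d_rc_28_2 lc_d_rc_33_2 lc_d_rc_30_2 lc_d_Cert_tree lc_d_rc_27_0 lc_d_rc_20_3 lc_d_rc_28_2 lc_d_rc_33_2 lc_d_Cert_tree lc_d_rc_20_3 lc_d_rc_28_2 lc_d_rc_28_2 lc_d_rc_3_1 lc_d_Cert_tree lc_d_rc_12_1 lc_d_rc_27_0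 lc_d_rc_30_2 lc_d_rc_33_2 lc_d_rc_30_2 lc_d_rc_28_2 lc_d_Cert_tree lc_d_rc_30_2 lc_d_rc_28_2 lc_d_rc_32_2 lc_d_rc_31_2 lc_d_rc_30_2 lc_d_Cert_tree lc_d_rc_3_3 lc_d_rc_30_2 lc_d_Cert_tree lc_d_Cert_tree lc_d_rc_27_0 lc_d_rc_27_0 lc_d_rc_20_3 lc_d_rc_31_2 lc_d_Cert_tree lc_d_rc_27_0 lc_d_rc_27_0 lc_d_rc_20_3 lc_d_rc_30_2 lc_d_rc_20_3 lc_d_rc_29_4 lc_d_rc_27_0 lc_d_rc_33_2 lc_d_Cert_tree lc_d_rc_30_2 lc_d_rc_27_0 lc_d_rc_33_2 lc_d_rc_29_2) (@D3.rec (fun _ => (Cert rels S Gen.d)) lc_d_rc_33_2 lc_d_rc_27_0 lc_d_rc_33_2 lc_d_rc_20_3 lc_d_rc_28_2 lc_d_rc_33_2 lc_d_rc_12_1 lc_d_Cert_tree lc_d_rc_20_3 lc_d_rc_30_2 lc_d_rc_28_2 lc_d_rc_29_2 lc_d_rc_3_1 lc_d_rc_31_2 lc_d_rc_33_2 lc_d_rc_12_1 lc_d_rc_28_2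 lc_d_rc_33_2 lc_d_rc_30_2 lc_d_rc_28_2 lc_d_rc_33_2 lc_d_Cert_tree lc_d_rc_12_1 lc_d_rc_27_0 lc_d_rc_30_2 lc_d_rc_33_2 lc_d_rc_30_2 lc_d_rc_31_2 lc_d_rc_30_2 lc_d_Cert_tree lc_d_rc_12_1 lc_d_rc_28_2 lc_d_rc_28_2 lc_d_rc_32_2 lc_d_rc_29_2 lc_d_rc_30_2 lc_d_Cert_tree lc_d_rc_3_3 lc_d_rc_30_2 lc_d_rc_3_1 lc_d_Cert_tree lc_d_rc_29_2 lc_d_rc_31_2 lc_d_Cert_tree lc_d_rc_27_0 lc_d_rc_32_2 lc_d_rc_33_2 lc_d_rc_12_1 lc_d_rc_27_0 lc_d_rc_32_2 lc_d_Cert_tree) (@D3.rec (fun _ => (Cert rels S Gen.d)) lc_d_rc_27_0 lc_d_rc_3_3 lc_d_rc_12_1 lc_d_Cert_tree lc_d_rc_20_3 lc_d_rc_30_2 lc_d_rc_28_2 lc_d_rc_29_2 lc_d_rc_3_1 lc_d_Cert_tree lc_d_rc_12_1 lc_d_rc_27_0 lc_d_rc_30_2 lc_d_rc_33_2 lc_d_Cert_tree lc_d_rc_28_2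 lc_d_rc_28_2 lc_d_Cert_tree lc_d_rc_28_4 lc_d_rc_3_1 lc_d_rc_27_0 lc_d_rc_30_2 lc_d_rc_33_2 lc_d_Cert_tree lc_d_rc_30_2 lc_d_rc_29_2 lc_d_rc_33_2 lc_d_rc_31_2 lc_d_rc_33_2 lc_d_Cert_tree lc_d_rc_27_0 lc_d_rc_28_2 lc_d_rc_28_2 lc_d_Cert_tree lc_d_rc_27_0 lc_d_rc_3_1 lc_d_rc_12_1 lc_d_rc_12_1 lc_d_Cert_tree lc_d_rc_31_2 lc_d_rc_30_2 lc_d_Cert_tree lc_d_rc_27_0 lc_d_rc_32_2 lc_d_rc_31_2 lc_d_Cert_tree lc_d_rc_27_0 lc_d_rc_31_2 lc_d_rc_12_1 lc_d_rc_12_1 lc_d_Cert_tree) (@D3.rec (fun _ => (Cert rels S Gen.d)) lc_d_rc_27_0 lc_d_rc_30_2 lc_d_rc_30_2 lc_d_Cert_tree lc_d_rc_27_0 lc_d_rc_28_2 lc_d_rc_32_2 lc_d_Cert_tree lc_d_rc_27_0 lc_d_rc_20_3 lc_d_rc_12_1 lc_d_rc_12_1 lc_d_rc_20_3 lc_d_rc_27_0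 lc_d_rc_28_2 lc_d_Cert_tree lc_d_rc_27_0 lc_d_rc_20_3 lc_d_rc_28_2 lc_d_Cert_tree lc_d_rc_27_0 lc_d_rc_30_2 lc_d_rc_12_1 lc_d_rc_32_2 lc_d_Cert_tree lc_d_rc_27_0 lc_d_rc_20_3 lc_d_Cert_tree lc_d_rc_27_0 lc_d_rc_20_3 lc_d_rc_28_2 lc_d_rc_12_1 lc_d_rc_27_0 lc_d_rc_20_3 lc_d_rc_3_1 lc_d_rc_12_1 lc_d_rc_27_0 lc_d_rc_33_2 lc_d_Cert_tree lc_d_rc_3_1 lc_d_rc_27_0 lc_d_rc_29_2 lc_d_rc_33_2 lc_d_rc_27_0 lc_d_rc_3_3 lc_d_rc_30_2 lc_d_rc_33_2 lc_d_rc_27_0 lc_d_rc_33_2 lc_d_Cert_tree lc_d_rc_27_0) (@D3.rec (fun _ => (Cert rels S Gen.d)) lc_d_rc_28_2 lc_d_rc_20_3 lc_d_rc_32_2 lc_d_rc_27_0 lc_d_rc_28_2 lc_d_rc_29_0 lc_d_rc_28_4 lc_d_rc_29_2 lc_d_rc_20_3 lc_d_rc_29_2 lc_d_rc_33_2 lc_d_rc_12_1 lc_d_rc_20_3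 lc_d_rc_28_4 lc_d_rc_3_1 lc_d_rc_3_3 lc_d_rc_12_1 lc_d_rc_27_0 lc_d_rc_33_2 lc_d_Cert_tree lc_d_rc_29_2 lc_d_rc_12_1 lc_d_rc_30_2 lc_d_rc_27_0 lc_d_rc_33_2 lc_d_rc_29_2 lc_d_rc_33_2 lc_d_rc_33_2 lc_d_rc_33_2 lc_d_rc_29_4 lc_d_rc_31_0 lc_d_Cert_tree lc_d_rc_27_0 lc_d_rc_20_3 lc_d_rc_28_2 lc_d_rc_30_2 lc_d_rc_33_2 lc_d_rc_29_2 lc_d_rc_29_2 lc_d_rc_29_2 lc_d_rc_30_2 lc_d_rc_12_1 lc_d_rc_29_2 lc_d_rc_20_3 lc_d_Cert_tree lc_d_rc_29_2 lc_d_rc_32_2 lc_d_rc_33_2 lc_d_rc_33_2 lc_d_rc_20_3 lc_d_rc_28_2)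
def ce_d_14 : D2 → D3 → (Cert rels S Gen.d) := @D2.rec (fun _ => D3 → (Cert rels S Gen.d)) (@D3.rec (fun _ => (Cert rels S Gen.d)) lc_d_rc_29_2 lc_d_rc_27_0 lc_d_rc_28_2 lc_d_rc_33_2 lc_d_rc_29_2 lc_d_rc_28_2 lc_d_rc_28_2 lc_d_rc_29_2 lc_d_rc_30_2 lc_d_rc_29_2 lc_d_rc_33_2 lc_d_rc_33_2 lc_d_rc_3_1 lc_d_rc_33_0 lc_d_rc_28_2 lc_d_rc_33_2 lc_d_rc_28_2 lc_d_rc_20_3 lc_d_rc_28_2 lc_d_rc_29_2 lc_d_rc_28_2 lc_d_rc_12_1 lc_d_rc_27_0 lc_d_rc_30_2 lc_d_rc_33_2 lc_d_rc_29_2 lc_d_rc_28_2 lc_d_rc_28_2 lc_d_Cert_tree lc_d_rc_12_1 lc_d_rc_32_2 lc_d_rc_12_1 lc_d_rc_12_1 lc_d_rc_33_2 lc_d_rc_20_3 lc_d_rc_20_3 lc_d_Cert_tree lc_d_rc_27_0 lc_d_rc_31_2 lc_d_rc_29_2 lc_d_Cert_tree lc_d_rc_20_3 lc_d_Cert_tree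 lc_d_rc_27_0 lc_d_rc_32_2 lc_d_rc_29_2 lc_d_rc_33_2 lc_d_rc_20_3 lc_d_rc_27_0 lc_d_rc_20_3 lc_d_rc_28_2) (@D3.rec (fun _ => (Cert rels S Gen.d)) lc_d_rc_33_2 lc_d_rc_29_2 lc_d_rc_33_2 lc_d_rc_28_2 lc_d_rc_33_2 lc_d_rc_33_2 lc_d_rc_28_2 lc_d_rc_29_2 lc_d_rc_3_1 lc_d_rc_28_2 lc_d_rc_12_1 lc_d_rc_28_2 lc_d_Cert_tree lc_d_Cert_tree lc_d_rc_3_1 lc_d_rc_12_1 lc_d_Cert_tree lc_d_rc_3_1 lc_d_Cert_tree lc_d_rc_27_0 lc_d_rc_55_42 lc_d_rc_27_0 lc_d_rc_3_1 lc_d_Cert_tree lc_d_rc_27_0 lc_d_rc_3_1 lc_d_Cert_tree lc_d_rc_27_0 lc_d_rc_3_3 lc_d_rc_27_0 lc_d_rc_3_1 lc_d_rc_29_4 lc_d_rc_27_0 lc_d_rc_32_2 lc_d_rc_12_1 lc_d_rc_33_2 lc_d_rc_28_2 lc_d_rc_29_2 lc_d_rc_32_2 lc_d_Cert_tree lc_d_rc_3_1 lc_d_rc_33_2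 lc_d_rc_30_2 lc_d_rc_3_1 lc_d_rc_33_2 lc_d_Cert_tree lc_d_rc_27_0 lc_d_rc_20_3 lc_d_rc_3_1 lc_d_rc_33_2 lc_d_rc_12_1) (@D3.rec (fun _ => (Cert rels S Gen.d)) lc_d_Cert_tree lc_d_rc_20_3 lc_d_rc_3_1 lc_d_rc_33_2 lc_d_rc_29_2 lc_d_Cert_tree lc_d_rc_12_1 lc_d_rc_27_0 lc_d_rc_30_2 lc_d_rc_33_2 lc_d_Cert_tree lc_d_rc_28_2 lc_d_Cert_tree lc_d_rc_12_1 lc_d_rc_20_3 lc_d_rc_20_3 lc_d_Cert_tree lc_d_rc_30_2 lc_d_rc_32_2 lc_d_Cert_tree lc_d_rc_20_3 lc_d_Cert_tree lc_d_rc_27_0 lc_d_rc_30_2 lc_d_rc_27_0 lc_d_rc_27_0 lc_d_rc_33_0 lc_d_rc_12_1 lc_d_rc_20_3 lc_d_rc_31_2 lc_d_rc_12_1 lc_d_rc_27_0 lc_d_rc_33_2 lc_d_Cert_tree lc_d_rc_28_2 lc_d_rc_30_2 lc_d_rc_27_0 lc_d_rc_33_2 lc_d_Cert_tree lc_d_rc_33_2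 lc_d_Cert_tree lc_d_rc_27_0 lc_d_rc_33_2 lc_d_Cert_tree lc_d_rc_27_0 lc_d_rc_12_1 lc_d_rc_27_0 lc_d_rc_28_2 lc_d_rc_12_1 lc_d_rc_12_1 lc_d_Cert_tree) (@D3.rec (fun _ => (Cert rels S Gen.d)) lc_d_rc_20_3 lc_d_rc_28_2 lc_d_rc_29_2 lc_d_rc_29_2 lc_d_rc_31_2 lc_d_rc_33_2 lc_d_rc_12_1 lc_d_Cert_tree lc_d_rc_33_2 lc_d_rc_33_2 lc_d_rc_33_2 lc_d_Cert_tree lc_d_rc_12_1 lc_d_rc_27_0 lc_d_rc_30_2 lc_d_rc_33_2 lc_d_Cert_tree lc_d_rc_3_3 lc_d_rc_3_3 lc_d_Cert_tree lc_d_rc_12_1 lc_d_Cert_tree lc_d_rc_3_1 lc_d_rc_33_2 lc_d_Cert_tree lc_d_rc_20_3 lc_d_rc_28_4 lc_d_rc_27_0 lc_d_rc_30_2 lc_d_rc_30_2 lc_d_rc_30_2 lc_d_rc_27_0 lc_d_rc_29_0 lc_d_rc_33_2 lc_d_rc_28_2 lc_d_rc_20_3 lc_d_rc_20_5 lc_d_rc_28_2 lc_d_rc_29_2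 lc_d_rc_32_2 lc_d_rc_12_1 lc_d_rc_27_0 lc_d_rc_30_2 lc_d_rc_33_2 lc_d_Cert_tree lc_d_rc_12_1 lc_d_Cert_tree lc_d_rc_30_0 lc_d_rc_3_1 lc_d_rc_27_0 lc_d_rc_30_2) (@D3.rec (fun _ => (Cert rels S Gen.d)) lc_d_rc_33_2 lc_d_Cert_tree lc_d_rc_30_2 lc_d_rc_29_2 lc_d_rc_33_2 lc_d_rc_31_2 lc_d_rc_33_2 lc_d_Cert_tree lc_d_rc_27_0 lc_d_rc_28_2 lc_d_rc_28_2 lc_d_Cert_tree lc_d_rc_27_0 lc_d_rc_20_3 lc_d_rc_3_1 lc_d_rc_12_1 lc_d_rc_12_1 lc_d_Cert_tree lc_d_rc_20_3 lc_d_Cert_tree lc_d_rc_27_0 lc_d_rc_29_2 lc_d_rc_20_3 lc_d_rc_20_3 lc_d_rc_20_3 lc_d_rc_12_1 lc_d_rc_12_1 lc_d_Cert_tree lc_d_rc_27_0 lc_d_rc_20_3 lc_d_rc_20_3 lc_d_Cert_tree lc_d_rc_27_0 lc_d_rc_3_3 lc_d_rc_32_2 lc_d_rc_29_2 lc_d_Cert_tree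 lc_d_rc_12_1 lc_d_rc_12_1 lc_d_rc_12_3 lc_d_rc_27_0 lc_d_rc_20_3 lc_d_Cert_tree lc_d_rc_27_0 lc_d_rc_32_2 lc_d_Cert_tree lc_d_Cert_tree lc_d_rc_29_2 lc_d_rc_33_2 lc_d_Cert_tree lc_d_rc_27_0) (@D3.rec (fun _ => (Cert rels S Gen.d)) lc_d_rc_30_2 lc_d_rc_29_2 lc_d_rc_33_2 lc_d_Cert_tree lc_d_rc_27_0 lc_d_rc_33_2 lc_d_Cert_tree lc_d_rc_27_0 lc_d_rc_28_2 lc_d_rc_29_4 lc_d_rc_27_0 lc_d_rc_28_2 lc_d_rc_30_2 lc_d_rc_3_1 lc_d_rc_3_1 lc_d_Cert_tree lc_d_Cert_tree lc_d_rc_27_0 lc_d_Cert_tree lc_d_Cert_tree lc_d_rc_27_0 lc_d_rc_28_2 lc_d_Cert_tree lc_d_rc_29_2 lc_d_rc_27_0 lc_d_rc_28_2 lc_d_Cert_tree lc_d_rc_27_0 lc_d_Cert_tree lc_d_Cert_tree lc_d_Cert_tree lc_d_rc_27_0 lc_d_Cert_tree lc_d_rc_29_2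 lc_d_rc_27_0 lc_d_rc_30_2 lc_d_rc_27_0 lc_d_rc_29_2 lc_d_rc_27_0 lc_d_rc_27_0 lc_d_rc_27_0 lc_d_rc_12_1 lc_d_rc_30_2 lc_d_rc_12_1 lc_d_rc_33_2 lc_d_rc_3_1 lc_d_rc_28_2 lc_d_rc_33_2 lc_d_rc_20_3 lc_d_rc_20_3 lc_d_rc_28_2) (@D3.rec (fun _ => (Cert rels S Gen.d)) lc_d_rc_3_1 lc_d_rc_3_1 lc_d_Cert_tree lc_d_rc_27_0 lc_d_rc_30_2 lc_d_Cert_tree lc_d_Cert_tree lc_d_rc_27_0 lc_d_rc_27_0 lc_d_rc_28_2 lc_d_Cert_tree lc_d_rc_33_2 lc_d_rc_12_1 lc_d_rc_33_2 lc_d_Cert_tree lc_d_Cert_tree lc_d_rc_27_0 lc_d_rc_28_2 lc_d_rc_29_2 lc_d_rc_27_0 lc_d_rc_30_2 lc_d_rc_33_2 lc_d_Cert_tree lc_d_rc_28_2 lc_d_Cert_tree lc_d_rc_20_3 lc_d_Cert_tree lc_d_rc_27_0 lc_d_rc_29_2 lc_d_rc_27_1 lc_d_Cert_tree lc_d_rc_27_0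 lc_d_rc_27_0 lc_d_rc_28_2 lc_d_rc_29_2 lc_d_rc_33_2 lc_d_Cert_tree lc_d_rc_27_0 lc_d_rc_28_2 lc_d_rc_30_2 lc_d_Cert_tree lc_d_rc_33_2 lc_d_rc_12_3 lc_d_rc_3_1 lc_d_Cert_tree lc_d_Cert_tree lc_d_rc_27_0 lc_d_rc_28_2 lc_d_rc_33_2 lc_d_rc_28_2 lc_d_rc_3_1) (@D3.rec (fun _ => (Cert rels S Gen.d)) lc_d_rc_28_2 lc_d_Cert_tree lc_d_Cert_tree lc_d_rc_27_0 lc_d_rc_27_1 lc_d_rc_27_0 lc_d_rc_28_2 lc_d_rc_20_5 lc_d_rc_27_0 lc_d_rc_28_2 lc_d_rc_29_4 lc_d_rc_12_1 lc_d_rc_27_0 lc_d_rc_33_2 lc_d_Cert_tree lc_d_Cert_tree lc_d_Cert_tree lc_d_rc_27_0 lc_d_rc_3_3 lc_d_rc_27_0 lc_d_rc_28_2 lc_d_rc_31_2 lc_d_rc_20_3 lc_d_rc_30_2 lc_d_rc_28_2 lc_d_rc_3_3 lc_d_rc_28_2 lc_d_rc_12_1 lc_d_rc_28_2 lc_d_Cert_tree lc_d_Cert_tree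 lc_d_rc_28_2 lc_d_rc_3_1 lc_d_rc_27_0 lc_d_rc_27_1 lc_d_rc_33_2 lc_d_Cert_tree lc_d_rc_29_2 lc_d_rc_33_2 lc_d_rc_31_2 lc_d_rc_30_2 lc_d_Cert_tree lc_d_rc_27_0 lc_d_rc_28_2 lc_d_rc_28_2 lc_d_Cert_tree lc_d_rc_27_0 lc_d_Cert_tree lc_d_rc_27_0 lc_d_Cert_tree lc_d_rc_12_1) (@D3.rec (fun _ => (Cert rels S Gen.d)) lc_d_rc_29_2 lc_d_rc_27_0 lc_d_rc_20_3 lc_d_Cert_tree lc_d_rc_27_0 lc_d_rc_29_2 lc_d_rc_32_2 lc_d_rc_29_2 lc_d_rc_28_4 lc_d_rc_27_0 lc_d_rc_12_1 lc_d_rc_27_0 lc_d_rc_20_3 lc_d_rc_29_2 lc_d_rc_31_2 lc_d_rc_28_2 lc_d_rc_30_2 lc_d_Cert_tree lc_d_Cert_tree lc_d_rc_27_0 lc_d_Cert_tree lc_d_rc_33_2 lc_d_Cert_tree lc_d_rc_27_0 lc_d_rc_33_2 lc_d_Cert_tree lc_d_rc_27_0 lc_d_rc_28_2 lc_d_rc_27_0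 lc_d_rc_27_0 lc_d_rc_20_3 lc_d_rc_12_1 lc_d_rc_30_2 lc_d_rc_31_2 lc_d_rc_20_5 lc_d_rc_3_1 lc_d_rc_28_2 lc_d_rc_33_2 lc_d_rc_28_2 lc_d_rc_3_1 lc_d_Cert_tree lc_d_rc_28_2 lc_d_rc_29_2 lc_d_rc_3_1 lc_d_rc_33_2 lc_d_rc_55_63 lc_d_rc_33_2 lc_d_rc_56_17 lc_d_Cert_tree lc_d_rc_29_2 lc_d_rc_31_0) (@D3.rec (fun _ => (Cert rels S Gen.d)) lc_d_rc_28_2 lc_d_rc_20_3 lc_d_rc_12_1 lc_d_rc_28_2 lc_d_rc_29_2 lc_d_rc_28_2 lc_d_rc_12_1 lc_d_rc_27_0 lc_d_rc_30_2 lc_d_rc_33_2 lc_d_rc_33_2 lc_d_rc_12_1 lc_d_rc_12_1 lc_d_Cert_tree lc_d_rc_27_0 lc_d_rc_30_2 lc_d_rc_33_2 lc_d_rc_12_1 lc_d_rc_30_2 lc_d_rc_33_2 lc_d_rc_33_2 lc_d_Cert_tree lc_d_Cert_tree lc_d_rc_27_0 lc_d_rc_12_1 lc_d_rc_12_1 lc_d_rc_12_1 lc_d_rc_20_3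 lc_d_Cert_tree lc_d_rc_31_2 lc_d_rc_30_2 lc_d_rc_12_1 lc_d_Cert_tree lc_d_Cert_tree lc_d_rc_27_0 lc_d_rc_27_0 lc_d_rc_33_2 lc_d_rc_33_2 lc_d_rc_29_2 lc_d_rc_20_3 lc_d_rc_20_3 lc_d_rc_28_2 lc_d_rc_29_2 lc_d_rc_33_2 lc_d_rc_33_2 lc_d_Cert_tree lc_d_rc_29_0 lc_d_rc_20_3 lc_d_rc_27_1 lc_d_rc_28_2 lc_d_rc_3_1) (@D3.rec (fun _ => (Cert rels S Gen.d)) lc_d_rc_28_2 lc_d_rc_12_1 lc_d_rc_28_4 lc_d_rc_32_2 lc_d_Cert_tree lc_d_rc_28_2 lc_d_rc_3_1 lc_d_rc_27_0 lc_d_rc_33_2 lc_d_rc_30_2 lc_d_rc_29_2 lc_d_rc_33_2 lc_d_Cert_tree lc_d_rc_27_0 lc_d_rc_3_1 lc_d_rc_32_2 lc_d_rc_31_2 lc_d_rc_33_2 lc_d_rc_33_2 lc_d_rc_29_2 lc_d_rc_3_1 lc_d_Cert_tree lc_d_rc_12_1 lc_d_rc_27_0 lc_d_rc_33_2 lc_d_Cert_tree lc_d_Cert_tree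 lc_d_rc_32_2 lc_d_rc_33_2 lc_d_rc_3_1 lc_d_rc_3_1 lc_d_rc_33_2 lc_d_rc_29_2 lc_d_rc_12_1 lc_d_rc_27_0 lc_d_rc_33_2 lc_d_rc_32_2 lc_d_Cert_tree lc_d_rc_29_2 lc_d_rc_3_1 lc_d_rc_27_0 lc_d_rc_30_2 lc_d_rc_33_2 lc_d_rc_30_2 lc_d_rc_30_2 lc_d_rc_29_2 lc_d_rc_33_2 lc_d_rc_31_2 lc_d_rc_33_2 lc_d_Cert_tree lc_d_rc_32_2) (@D3.rec (fun _ => (Cert rels S Gen.d)) lc_d_rc_33_2 lc_d_Cert_tree lc_d_rc_27_0 lc_d_rc_3_1 lc_d_rc_28_2 lc_d_rc_29_2 lc_d_Cert_tree lc_d_rc_31_2 lc_d_rc_30_2 lc_d_Cert_tree lc_d_rc_29_2 lc_d_rc_31_2 lc_d_Cert_tree lc_d_rc_27_0 lc_d_rc_32_2 lc_d_rc_30_2 lc_d_rc_27_0 lc_d_rc_32_2 lc_d_Cert_tree lc_d_rc_27_0 lc_d_rc_33_2 lc_d_rc_29_2 lc_d_rc_31_2 lc_d_rc_31_2 lc_d_rc_29_2 lc_d_rc_30_2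 lc_d_Cert_tree lc_d_rc_28_2 lc_d_rc_28_2 lc_d_rc_29_2 lc_d_rc_33_2 lc_d_rc_28_2 lc_d_Cert_tree lc_d_rc_27_0 lc_d_rc_28_2 lc_d_rc_28_2 lc_d_Cert_tree lc_d_rc_27_0 lc_d_rc_3_3 lc_d_rc_28_2 lc_d_rc_30_2 lc_d_rc_30_2 lc_d_rc_33_2 lc_d_rc_31_2 lc_d_rc_33_2 lc_d_Cert_tree lc_d_rc_27_0 lc_d_rc_31_2 lc_d_rc_29_2 lc_d_rc_33_2 lc_d_rc_33_2) (@D3.rec (fun _ => (Cert rels S Gen.d)) lc_d_Cert_tree lc_d_rc_28_2 lc_d_rc_33_2 lc_d_Cert_tree lc_d_rc_27_0 lc_d_rc_28_2 lc_d_rc_28_2 lc_d_Cert_tree lc_d_rc_27_0 lc_d_rc_20_3 lc_d_rc_3_1 lc_d_rc_55_60 lc_d_rc_29_2 lc_d_rc_12_1 lc_d_Cert_tree lc_d_Cert_tree lc_d_rc_27_0 lc_d_rc_28_2 lc_d_rc_32_2 lc_d_rc_29_2 lc_d_rc_3_1 lc_d_rc_33_0 lc_d_rc_12_1 lc_d_Cert_tree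 lc_d_rc_27_0 lc_d_rc_20_3 lc_d_Cert_tree lc_d_rc_27_0 lc_d_rc_28_2 lc_d_rc_30_2 lc_d_rc_29_2 lc_d_rc_12_1 lc_d_Cert_tree lc_d_rc_27_0 lc_d_rc_28_2 lc_d_Cert_tree lc_d_rc_27_0 lc_d_rc_29_4 lc_d_rc_28_4 lc_d_rc_12_1 lc_d_Cert_tree lc_d_rc_28_4 lc_d_rc_28_0 lc_d_rc_27_0 lc_d_rc_33_2 lc_d_rc_28_0 lc_d_rc_29_2 lc_d_rc_3_1 lc_d_rc_27_0 lc_d_rc_33_2 lc_d_Cert_tree) (@D3.rec (fun _ => (Cert rels S Gen.d)) lc_d_rc_29_2 lc_d_rc_33_2 lc_d_Cert_tree lc_d_rc_27_0 lc_d_rc_33_2 lc_d_rc_20_3 lc_d_rc_33_2 lc_d_rc_33_2 lc_d_rc_29_2 lc_d_rc_12_1 lc_d_rc_30_2 lc_d_Cert_tree lc_d_rc_27_0 lc_d_Cert_tree lc_d_rc_27_0 lc_d_rc_12_1 lc_d_rc_31_2 lc_d_rc_12_1 lc_d_rc_3_1 lc_d_rc_20_3 lc_d_rc_29_2 lc_d_rc_27_0 lc_d_rc_28_2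 lc_d_rc_28_2 lc_d_rc_30_2 lc_d_rc_29_2 lc_d_rc_29_2 lc_d_rc_3_1 lc_d_rc_30_2 lc_d_rc_12_3 lc_d_Cert_tree lc_d_rc_27_0 lc_d_rc_29_2 lc_d_rc_33_2 lc_d_rc_30_2 lc_d_Cert_tree lc_d_Cert_tree lc_d_rc_27_0 lc_d_Cert_tree lc_d_rc_27_0 lc_d_rc_20_3 lc_d_rc_28_2 lc_d_rc_30_2 lc_d_rc_20_3 lc_d_rc_12_1 lc_d_rc_27_0 lc_d_rc_30_2 lc_d_Cert_tree lc_d_rc_27_0 lc_d_rc_20_3 lc_d_rc_27_0) (@D3.rec (fun _ => (Cert rels S Gen.d)) lc_d_rc_28_2 lc_d_rc_30_2 lc_d_rc_31_2 lc_d_rc_27_0 lc_d_Cert_tree lc_d_Cert_tree lc_d_rc_27_0 lc_d_rc_27_0 lc_d_rc_27_0 lc_d_rc_12_1 lc_d_rc_29_2 lc_d_rc_30_2 lc_d_rc_29_2 lc_d_rc_28_2 lc_d_rc_3_1 lc_d_rc_20_1 lc_d_rc_27_0 lc_d_rc_20_3 lc_d_rc_28_2 lc_d_rc_33_2 lc_d_rc_28_2 lc_d_rc_29_2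 lc_d_rc_20_3 lc_d_rc_30_2 lc_d_Cert_tree lc_d_rc_27_0 lc_d_rc_29_2 lc_d_rc_30_0 lc_d_Cert_tree lc_d_rc_31_2 lc_d_Cert_tree lc_d_rc_27_0 lc_d_rc_27_0 lc_d_rc_32_2 lc_d_rc_3_1 lc_d_rc_33_2 lc_d_rc_29_2 lc_d_rc_28_2 lc_d_rc_33_2 lc_d_Cert_tree lc_d_rc_28_2 lc_d_rc_33_2 lc_d_rc_31_2 lc_d_rc_20_3 lc_d_rc_28_2 lc_d_rc_28_2 lc_d_rc_29_2 lc_d_rc_30_2 lc_d_rc_28_2 lc_d_rc_29_2 lc_d_rc_3_1) (@D3.rec (fun _ => (Cert rels S Gen.d)) lc_d_rc_12_1 lc_d_rc_12_1 lc_d_rc_20_3 lc_d_rc_20_3 lc_d_rc_32_0 lc_d_rc_30_2 lc_d_Cert_tree lc_d_rc_3_1 lc_d_rc_12_1 lc_d_rc_12_1 lc_d_rc_28_2 lc_d_rc_27_0 lc_d_rc_30_2 lc_d_Cert_tree lc_d_rc_27_0 lc_d_rc_20_3 lc_d_rc_3_1 lc_d_rc_29_4 lc_d_rc_28_2 lc_d_rc_33_2 lc_d_rc_29_2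 lc_d_Cert_tree lc_d_rc_27_0 lc_d_rc_28_2 lc_d_rc_29_2 lc_d_rc_31_2 lc_d_rc_20_3 lc_d_rc_27_0 lc_d_rc_28_2 lc_d_rc_33_2 lc_d_rc_29_4 lc_d_rc_28_2 lc_d_rc_33_2 lc_d_rc_31_2 lc_d_rc_29_2 lc_d_rc_30_2 lc_d_Cert_tree lc_d_rc_31_2 lc_d_Cert_tree lc_d_rc_27_0 lc_d_rc_28_2 lc_d_rc_29_2 lc_d_rc_28_2 lc_d_rc_29_2 lc_d_rc_28_2 lc_d_rc_28_2 lc_d_Cert_tree lc_d_rc_32_2 lc_d_rc_31_2 lc_d_Cert_tree lc_d_rc_27_0) (@D3.rec (fun _ => (Cert rels S Gen.d)) lc_d_rc_33_2 lc_d_rc_29_2 lc_d_rc_32_2 lc_d_Cert_tree lc_d_rc_27_0 lc_d_rc_20_3 lc_d_rc_32_2 lc_d_Cert_tree lc_d_rc_27_0 lc_d_rc_31_2 lc_d_rc_27_0 lc_d_rc_12_1 lc_d_rc_27_0 lc_d_rc_33_2 lc_d_rc_20_3 lc_d_rc_28_2 lc_d_rc_33_2 lc_d_rc_27_0 lc_d_rc_33_2 lc_d_rc_29_2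 lc_d_rc_28_2 lc_d_rc_33_2 lc_d_Cert_tree lc_d_rc_33_2 lc_d_rc_30_2 lc_d_rc_28_2 lc_d_rc_33_2 lc_d_rc_33_2 lc_d_rc_29_2 lc_d_rc_28_2 lc_d_rc_33_2 lc_d_Cert_tree lc_d_rc_30_2 lc_d_Cert_tree lc_d_rc_27_0 lc_d_rc_27_0 lc_d_rc_28_2 lc_d_rc_33_2 lc_d_rc_28_2 lc_d_rc_20_3 lc_d_rc_28_2 lc_d_rc_28_2 lc_d_rc_29_2 lc_d_Cert_tree lc_d_rc_12_1 lc_d_rc_27_0 lc_d_rc_30_2 lc_d_rc_33_2 lc_d_Cert_tree lc_d_rc_28_2 lc_d_Cert_tree) (@D3.rec (fun _ => (Cert rels S Gen.d)) lc_d_rc_20_3 lc_d_rc_20_3 lc_d_Cert_tree lc_d_rc_31_2 lc_d_rc_30_2 lc_d_Cert_tree lc_d_Cert_tree lc_d_rc_20_3 lc_d_Cert_tree lc_d_rc_27_0 lc_d_Cert_tree lc_d_rc_27_0 lc_d_rc_27_0 lc_d_rc_27_0 lc_d_rc_28_2 lc_d_rc_20_3 lc_d_rc_31_2 lc_d_Cert_tree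 lc_d_rc_27_0 lc_d_rc_27_0 lc_d_rc_20_3 lc_d_rc_12_1 lc_d_Cert_tree lc_d_rc_27_0 lc_d_rc_33_2 lc_d_Cert_tree lc_d_rc_29_2 lc_d_rc_33_2 lc_d_Cert_tree lc_d_rc_27_0 lc_d_rc_27_0 lc_d_rc_27_0 lc_d_rc_28_2 lc_d_rc_31_2 lc_d_rc_27_0 lc_d_rc_27_0 lc_d_rc_33_2 lc_d_rc_12_3 lc_d_rc_33_2 lc_d_rc_33_2 lc_d_rc_33_2 lc_d_rc_27_0 lc_d_rc_33_2 lc_d_rc_3_1 lc_d_rc_56_17 lc_d_rc_33_2 lc_d_Cert_tree lc_d_rc_3_1 lc_d_rc_28_2 lc_d_rc_28_2 lc_d_rc_29_2) (@D3.rec (fun _ => (Cert rels S Gen.d)) lc_d_rc_3_1 lc_d_rc_32_2 lc_d_Cert_tree lc_d_rc_30_2 lc_d_Cert_tree lc_d_rc_27_0 lc_d_rc_27_0 lc_d_Cert_tree lc_d_rc_27_0 lc_d_rc_28_2 lc_d_rc_33_2 lc_d_rc_28_2 lc_d_rc_33_2 lc_d_Cert_tree lc_d_rc_3_1 lc_d_rc_30_2 lc_d_rc_28_2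 lc_d_rc_30_2 lc_d_rc_33_2 lc_d_Cert_tree lc_d_rc_30_2 lc_d_Cert_tree lc_d_rc_27_0 lc_d_rc_27_0 lc_d_rc_31_2 lc_d_rc_33_2 lc_d_rc_30_2 lc_d_rc_30_2 lc_d_rc_28_2 lc_d_Cert_tree lc_d_rc_31_2 lc_d_rc_28_2 lc_d_Cert_tree lc_d_rc_27_0 lc_d_rc_32_2 lc_d_rc_31_2 lc_d_Cert_tree lc_d_rc_27_0 lc_d_rc_32_2 lc_d_Cert_tree lc_d_rc_27_0 lc_d_rc_32_2 lc_d_Cert_tree lc_d_rc_27_0 lc_d_Cert_tree lc_d_rc_27_0 lc_d_rc_27_0 lc_d_rc_20_3 lc_d_rc_28_2 lc_d_rc_33_2 lc_d_rc_12_1) (@D3.rec (fun _ => (Cert rels S Gen.d)) lc_d_Cert_tree lc_d_rc_20_3 lc_d_rc_30_2 lc_d_rc_28_2 lc_d_rc_29_2 lc_d_rc_32_2 lc_d_rc_33_2 lc_d_rc_12_1 lc_d_Cert_tree lc_d_rc_33_2 lc_d_rc_30_2 lc_d_rc_28_2 lc_d_rc_33_2 lc_d_Cert_tree lc_d_rc_12_1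 lc_d_rc_27_0 lc_d_rc_30_2 lc_d_rc_33_2 lc_d_Cert_tree lc_d_rc_3_3 lc_d_rc_30_2 lc_d_Cert_tree lc_d_rc_12_1 lc_d_Cert_tree lc_d_rc_29_2 lc_d_rc_30_2 lc_d_Cert_tree lc_d_Cert_tree lc_d_rc_30_2 lc_d_rc_31_2 lc_d_rc_27_0 lc_d_rc_29_2 lc_d_rc_31_2 lc_d_Cert_tree lc_d_rc_27_0 lc_d_rc_27_0 lc_d_rc_12_1 lc_d_rc_32_2 lc_d_Cert_tree lc_d_rc_27_0 lc_d_rc_20_3 lc_d_rc_31_0 lc_d_rc_33_2 lc_d_rc_29_2 lc_d_rc_3_1 lc_d_rc_28_2 lc_d_rc_12_1 lc_d_rc_28_2 lc_d_Cert_tree lc_d_rc_28_2 lc_d_rc_28_2) (@D3.rec (fun _ => (Cert rels S Gen.d)) lc_d_Cert_tree lc_d_Cert_tree lc_d_rc_3_1 lc_d_rc_27_0 lc_d_rc_28_2 lc_d_rc_33_2 lc_d_Cert_tree lc_d_rc_29_2 lc_d_rc_33_2 lc_d_rc_29_2 lc_d_rc_28_2 lc_d_Cert_tree lc_d_rc_27_0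 lc_d_rc_28_2 lc_d_rc_28_2 lc_d_Cert_tree lc_d_rc_27_0 lc_d_rc_3_1 lc_d_Cert_tree lc_d_rc_27_0 lc_d_rc_32_2 lc_d_rc_31_2 lc_d_Cert_tree lc_d_rc_27_0 lc_d_Cert_tree lc_d_rc_30_2 lc_d_rc_31_2 lc_d_rc_27_0 lc_d_rc_30_2 lc_d_rc_30_2 lc_d_rc_30_2 lc_d_rc_33_0 lc_d_rc_32_2 lc_d_Cert_tree lc_d_rc_27_0 lc_d_rc_20_3 lc_d_rc_27_0 lc_d_rc_3_1 lc_d_rc_32_2 lc_d_rc_31_2 lc_d_rc_30_2 lc_d_Cert_tree lc_d_rc_27_0 lc_d_rc_12_1 lc_d_rc_32_2 lc_d_Cert_tree lc_d_rc_27_0 lc_d_rc_29_2 lc_d_Cert_tree lc_d_rc_27_0 lc_d_rc_30_2) (@D3.rec (fun _ => (Cert rels S Gen.d)) lc_d_rc_28_2 lc_d_rc_12_1 lc_d_rc_27_0 lc_d_rc_29_2 lc_d_rc_3_1 lc_d_Cert_tree lc_d_rc_27_0 lc_d_rc_27_0 lc_d_rc_33_2 lc_d_rc_30_2 lc_d_rc_29_2 lc_d_rc_33_2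 lc_d_Cert_tree lc_d_rc_27_0 lc_d_rc_33_2 lc_d_Cert_tree lc_d_rc_27_0 lc_d_rc_28_2 lc_d_rc_29_4 lc_d_rc_27_0 lc_d_rc_28_2 lc_d_rc_3_1 lc_d_rc_30_2 lc_d_rc_31_2 lc_d_rc_30_2 lc_d_rc_27_0 lc_d_rc_3_1 lc_d_rc_33_2 lc_d_rc_12_1 lc_d_rc_33_2 lc_d_rc_3_1 lc_d_rc_28_2 lc_d_rc_3_1 lc_d_rc_33_2 lc_d_rc_3_1 lc_d_Cert_tree lc_d_Cert_tree lc_d_rc_27_0 lc_d_rc_27_0 lc_d_rc_33_2 lc_d_rc_12_1 lc_d_Cert_tree lc_d_rc_30_2 lc_d_Cert_tree lc_d_rc_29_2 lc_d_rc_29_2 lc_d_Cert_tree lc_d_rc_27_0 lc_d_Cert_tree lc_d_rc_27_0 lc_d_rc_27_0) (@D3.rec (fun _ => (Cert rels S Gen.d)) lc_d_rc_55_27 lc_d_rc_27_0 lc_d_rc_32_0 lc_d_rc_29_2 lc_d_rc_12_1 lc_d_rc_12_1 lc_d_Cert_tree lc_d_rc_33_2 lc_d_rc_33_2 lc_d_rc_3_1 lc_d_rc_12_1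 lc_d_rc_30_0 lc_d_Cert_tree lc_d_Cert_tree lc_d_rc_3_1 lc_d_rc_3_1 lc_d_rc_30_2 lc_d_rc_30_2 lc_d_rc_32_2 lc_d_Cert_tree lc_d_Cert_tree lc_d_rc_27_0 lc_d_rc_27_0 lc_d_rc_32_2 lc_d_rc_20_3 lc_d_rc_27_0 lc_d_rc_28_2 lc_d_rc_29_2 lc_d_rc_12_1 lc_d_Cert_tree lc_d_Cert_tree lc_d_Cert_tree lc_d_Cert_tree lc_d_rc_27_0 lc_d_Cert_tree lc_d_rc_27_0 lc_d_Cert_tree lc_d_Cert_tree lc_d_rc_27_0 lc_d_rc_27_0 lc_d_rc_32_2 lc_d_Cert_tree lc_d_rc_27_0 lc_d_Cert_tree lc_d_rc_27_0 lc_d_rc_28_2 lc_d_rc_29_2 lc_d_rc_27_0 lc_d_rc_20_3 lc_d_rc_20_3 lc_d_rc_12_1) (@D3.rec (fun _ => (Cert rels S Gen.d)) lc_d_rc_30_2 lc_d_rc_27_0 lc_d_rc_33_2 lc_d_rc_28_2 lc_d_rc_33_2 lc_d_rc_33_2 lc_d_rc_12_1 lc_d_rc_27_0 lc_d_rc_33_2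 lc_d_rc_3_1 lc_d_rc_55_75 lc_d_rc_33_2 lc_d_rc_33_2 lc_d_rc_3_1 lc_d_rc_29_2 lc_d_rc_28_2 lc_d_rc_3_1 lc_d_Cert_tree lc_d_Cert_tree lc_d_rc_27_0 lc_d_rc_33_2 lc_d_rc_28_2 lc_d_rc_33_2 lc_d_rc_12_1 lc_d_rc_20_3 lc_d_rc_28_2 lc_d_rc_28_2 lc_d_rc_3_1 lc_d_rc_3_1 lc_d_Cert_tree lc_d_rc_30_2 lc_d_Cert_tree lc_d_rc_28_2 lc_d_rc_27_0 lc_d_rc_27_0 lc_d_Cert_tree lc_d_rc_27_0 lc_d_Cert_tree lc_d_rc_27_0 lc_d_rc_20_3 lc_d_rc_28_2 lc_d_rc_33_2 lc_d_rc_12_1 lc_d_rc_33_2 lc_d_rc_12_1 lc_d_Cert_tree lc_d_rc_33_2 lc_d_rc_30_2 lc_d_rc_28_2 lc_d_rc_33_2 lc_d_rc_33_2) (@D3.rec (fun _ => (Cert rels S Gen.d)) lc_d_rc_12_1 lc_d_Cert_tree lc_d_rc_29_2 lc_d_rc_30_2 lc_d_Cert_tree lc_d_Cert_tree lc_d_rc_12_3 lc_d_rc_27_0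 lc_d_rc_31_2 lc_d_Cert_tree lc_d_rc_27_0 lc_d_rc_28_2 lc_d_rc_33_2 lc_d_rc_28_2 lc_d_rc_29_2 lc_d_rc_3_1 lc_d_rc_12_1 lc_d_rc_27_0 lc_d_rc_33_2 lc_d_Cert_tree lc_d_rc_28_2 lc_d_rc_28_2 lc_d_Cert_tree lc_d_Cert_tree lc_d_rc_27_0 lc_d_rc_31_2 lc_d_Cert_tree lc_d_rc_27_0 lc_d_rc_29_2 lc_d_rc_3_1 lc_d_rc_27_0 lc_d_rc_31_2 lc_d_rc_20_1 lc_d_rc_55_66 lc_d_Cert_tree lc_d_rc_27_0 lc_d_rc_55_27 lc_d_Cert_tree lc_d_rc_27_0 lc_d_rc_20_3 lc_d_rc_27_0 lc_d_Cert_tree lc_d_rc_33_2 lc_d_Cert_tree lc_d_rc_27_0 lc_d_rc_27_0 lc_d_rc_31_2 lc_d_rc_20_1 lc_d_rc_28_2 lc_d_rc_33_2 lc_d_rc_29_2) (@D3.rec (fun _ => (Cert rels S Gen.d)) lc_d_rc_28_2 lc_d_rc_33_2 lc_d_rc_12_1 lc_d_Cert_tree lc_d_rc_20_3 lc_d_rc_28_2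 lc_d_rc_12_1 lc_d_rc_12_1 lc_d_rc_12_1 lc_d_Cert_tree lc_d_rc_33_2 lc_d_rc_27_0 lc_d_rc_27_0 lc_d_rc_33_2 lc_d_rc_20_3 lc_d_rc_28_2 lc_d_rc_33_2 lc_d_rc_29_2 lc_d_rc_28_2 lc_d_rc_33_2 lc_d_rc_12_1 lc_d_Cert_tree lc_d_rc_33_2 lc_d_rc_30_2 lc_d_rc_28_2 lc_d_rc_3_1 lc_d_rc_33_2 lc_d_rc_3_1 lc_d_rc_12_1 lc_d_rc_31_0 lc_d_rc_31_2 lc_d_Cert_tree lc_d_rc_30_2 lc_d_Cert_tree lc_d_Cert_tree lc_d_rc_30_2 lc_d_rc_27_0 lc_d_rc_27_0 lc_d_rc_28_2 lc_d_rc_33_2 lc_d_rc_28_2 lc_d_rc_20_3 lc_d_rc_28_2 lc_d_rc_28_2 lc_d_rc_3_1 lc_d_rc_31_2 lc_d_rc_28_2 lc_d_rc_12_1 lc_d_rc_30_2 lc_d_rc_28_2 lc_d_Cert_tree) (@D3.rec (fun _ => (Cert rels S Gen.d)) lc_d_rc_28_2 lc_d_Cert_tree lc_d_rc_31_2 lc_d_rc_30_2 lc_d_rc_31_2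 lc_d_rc_3_1 lc_d_Cert_tree lc_d_rc_30_2 lc_d_Cert_tree lc_d_rc_27_0 lc_d_Cert_tree lc_d_rc_27_0 lc_d_rc_12_1 lc_d_rc_33_2 lc_d_rc_27_0 lc_d_rc_27_0 lc_d_rc_28_2 lc_d_rc_20_3 lc_d_rc_31_2 lc_d_rc_12_3 lc_d_rc_27_0 lc_d_rc_20_3 lc_d_rc_31_2 lc_d_rc_20_3 lc_d_rc_29_2 lc_d_Cert_tree lc_d_rc_27_0 lc_d_rc_12_1 lc_d_rc_27_0 lc_d_rc_28_2 lc_d_rc_20_3 lc_d_rc_28_2 lc_d_rc_20_3 lc_d_rc_28_2 lc_d_rc_33_2 lc_d_rc_12_1 lc_d_Cert_tree lc_d_rc_20_3 lc_d_rc_30_2 lc_d_rc_28_2 lc_d_rc_29_2 lc_d_rc_28_2 lc_d_rc_33_2 lc_d_Cert_tree lc_d_rc_33_2 lc_d_rc_30_2 lc_d_rc_28_2 lc_d_rc_33_2 lc_d_Cert_tree lc_d_rc_12_1 lc_d_rc_27_0)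
def ce_d_15 : D2 → D3 → (Cert rels S Gen.d) := @D2.rec (fun _ => D3 → (Cert rels S Gen.d)) (@D3.rec (fun _ => (Cert rels S Gen.d)) lc_d_rc_28_2 lc_d_rc_33_2 lc_d_Cert_tree lc_d_rc_20_3 lc_d_rc_30_2 lc_d_Cert_tree lc_d_Cert_tree lc_d_rc_30_2 lc_d_Cert_tree lc_d_Cert_tree lc_d_rc_30_2 lc_d_Cert_tree lc_d_rc_27_0 lc_d_rc_31_2 lc_d_Cert_tree lc_d_rc_27_0 lc_d_rc_27_0 lc_d_rc_27_0 lc_d_rc_33_2 lc_d_Cert_tree lc_d_rc_27_0 lc_d_rc_12_1 lc_d_rc_30_2 lc_d_rc_28_2 lc_d_rc_29_2 lc_d_rc_27_0 lc_d_rc_30_2 lc_d_rc_33_2 lc_d_Cert_tree lc_d_rc_28_2 lc_d_Cert_tree lc_d_Cert_tree lc_d_rc_3_1 lc_d_rc_27_0 lc_d_rc_30_2 lc_d_rc_33_2 lc_d_Cert_tree lc_d_rc_30_2 lc_d_rc_29_2 lc_d_rc_33_2 lc_d_rc_31_2 lc_d_rc_33_2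 lc_d_Cert_tree lc_d_rc_27_0 lc_d_rc_28_2 lc_d_rc_28_2 lc_d_Cert_tree lc_d_rc_27_0 lc_d_rc_30_2 lc_d_Cert_tree lc_d_rc_27_0) (@D3.rec (fun _ => (Cert rels S Gen.d)) lc_d_Cert_tree lc_d_rc_27_0 lc_d_rc_31_2 lc_d_rc_12_1 lc_d_Cert_tree lc_d_rc_27_0 lc_d_rc_30_2 lc_d_Cert_tree lc_d_rc_27_0 lc_d_rc_28_2 lc_d_rc_32_2 lc_d_Cert_tree lc_d_rc_27_0 lc_d_rc_20_3 lc_d_rc_27_0 lc_d_rc_28_2 lc_d_Cert_tree lc_d_rc_27_0 lc_d_rc_20_3 lc_d_rc_28_2 lc_d_rc_28_2 lc_d_rc_29_2 lc_d_rc_27_0 lc_d_rc_27_0 lc_d_rc_27_0 lc_d_rc_20_3 lc_d_rc_28_2 lc_d_rc_12_1 lc_d_rc_20_3 lc_d_rc_29_2 lc_d_rc_33_2 lc_d_Cert_tree lc_d_rc_27_0 lc_d_rc_27_0 lc_d_rc_33_2 lc_d_rc_31_2 lc_d_rc_12_1 lc_d_rc_33_2 lc_d_Cert_tree lc_d_rc_27_0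 lc_d_rc_33_2 lc_d_Cert_tree lc_d_rc_27_0 lc_d_rc_28_2 lc_d_rc_20_3 lc_d_rc_29_0 lc_d_rc_28_2 lc_d_rc_29_2 lc_d_rc_28_2 lc_d_rc_33_2 lc_d_rc_29_4) (@D3.rec (fun _ => (Cert rels S Gen.d)) lc_d_rc_20_3 lc_d_rc_28_2 lc_d_rc_12_1 lc_d_rc_20_3 lc_d_rc_12_1 lc_d_Cert_tree lc_d_rc_27_0 lc_d_rc_28_2 lc_d_rc_33_2 lc_d_rc_28_2 lc_d_rc_3_1 lc_d_rc_28_2 lc_d_Cert_tree lc_d_Cert_tree lc_d_Cert_tree lc_d_rc_27_0 lc_d_rc_27_0 lc_d_rc_27_0 lc_d_rc_28_2 lc_d_rc_33_2 lc_d_rc_20_3 lc_d_rc_28_0 lc_d_rc_30_2 lc_d_rc_28_2 lc_d_rc_29_2 lc_d_rc_28_2 lc_d_rc_33_2 lc_d_rc_30_2 lc_d_rc_28_2 lc_d_rc_33_2 lc_d_rc_30_2 lc_d_Cert_tree lc_d_rc_30_2 lc_d_Cert_tree lc_d_Cert_tree lc_d_rc_27_0 lc_d_rc_12_1 lc_d_rc_20_3 lc_d_rc_29_0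 lc_d_rc_28_2 lc_d_rc_29_2 lc_d_rc_55_54 lc_d_rc_33_2 lc_d_rc_28_2 lc_d_Cert_tree lc_d_rc_33_2 lc_d_rc_31_0 lc_d_rc_33_2 lc_d_rc_3_1 lc_d_Cert_tree lc_d_rc_28_2) (@D3.rec (fun _ => (Cert rels S Gen.d)) lc_d_rc_28_2 lc_d_Cert_tree lc_d_rc_27_0 lc_d_Cert_tree lc_d_rc_27_0 lc_d_rc_30_2 lc_d_rc_32_2 lc_d_Cert_tree lc_d_rc_27_0 lc_d_rc_28_4 lc_d_Cert_tree lc_d_rc_27_0 lc_d_Cert_tree lc_d_rc_27_0 lc_d_Cert_tree lc_d_rc_27_0 lc_d_rc_28_0 lc_d_rc_28_2 lc_d_rc_27_0 lc_d_rc_29_2 lc_d_rc_28_2 lc_d_rc_33_2 lc_d_rc_12_3 lc_d_rc_12_1 lc_d_rc_12_1 lc_d_rc_12_1 lc_d_rc_33_2 lc_d_rc_55_36 lc_d_rc_20_3 lc_d_rc_28_2 lc_d_rc_12_1 lc_d_rc_27_0 lc_d_rc_33_2 lc_d_Cert_tree lc_d_Cert_tree lc_d_Cert_tree lc_d_rc_27_0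 lc_d_rc_28_2 lc_d_rc_33_2 lc_d_rc_32_0 lc_d_rc_20_3 lc_d_rc_30_2 lc_d_rc_28_2 lc_d_rc_29_2 lc_d_rc_28_2 lc_d_rc_33_2 lc_d_rc_30_2 lc_d_rc_28_2 lc_d_rc_33_2 lc_d_rc_30_2 lc_d_Cert_tree) (@D3.rec (fun _ => (Cert rels S Gen.d)) lc_d_rc_29_2 lc_d_rc_30_2 lc_d_Cert_tree lc_d_Cert_tree lc_d_rc_27_0 lc_d_rc_33_2 lc_d_rc_31_2 lc_d_rc_20_3 lc_d_rc_12_1 lc_d_rc_28_2 lc_d_rc_3_1 lc_d_rc_27_0 lc_d_rc_30_2 lc_d_rc_33_2 lc_d_rc_32_2 lc_d_rc_31_2 lc_d_rc_28_2 lc_d_Cert_tree lc_d_rc_27_0 lc_d_rc_33_2 lc_d_rc_30_2 lc_d_rc_30_2 lc_d_rc_29_2 lc_d_rc_33_2 lc_d_rc_33_2 lc_d_Cert_tree lc_d_Cert_tree lc_d_rc_27_0 lc_d_rc_31_2 lc_d_rc_30_2 lc_d_Cert_tree lc_d_rc_31_2 lc_d_Cert_tree lc_d_rc_27_0 lc_d_Cert_tree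 lc_d_rc_27_0 lc_d_rc_27_0 lc_d_rc_20_3 lc_d_rc_20_3 lc_d_Cert_tree lc_d_rc_27_0 lc_d_rc_20_3 lc_d_rc_20_3 lc_d_rc_28_2 lc_d_rc_29_4 lc_d_rc_33_2 lc_d_rc_27_0 lc_d_rc_33_2 lc_d_rc_20_3 lc_d_rc_33_2 lc_d_rc_33_2) (@D3.rec (fun _ => (Cert rels S Gen.d)) lc_d_rc_29_2 lc_d_rc_31_2 lc_d_rc_33_2 lc_d_rc_12_1 lc_d_rc_30_0 lc_d_rc_20_3 lc_d_rc_30_2 lc_d_rc_28_2 lc_d_rc_29_2 lc_d_rc_3_1 lc_d_Cert_tree lc_d_rc_12_1 lc_d_rc_27_0 lc_d_rc_30_2 lc_d_rc_33_2 lc_d_Cert_tree lc_d_rc_31_2 lc_d_rc_30_2 lc_d_Cert_tree lc_d_rc_28_2 lc_d_rc_3_1 lc_d_rc_3_3 lc_d_rc_31_2 lc_d_rc_33_2 lc_d_rc_28_2 lc_d_rc_12_1 lc_d_rc_27_0 lc_d_rc_28_2 lc_d_rc_32_2 lc_d_rc_31_2 lc_d_rc_30_2 lc_d_Cert_tree lc_d_rc_27_0 lc_d_rc_33_2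 lc_d_rc_30_2 lc_d_rc_30_2 lc_d_rc_29_2 lc_d_rc_33_2 lc_d_rc_12_1 lc_d_rc_33_2 lc_d_Cert_tree lc_d_rc_12_1 lc_d_rc_31_2 lc_d_Cert_tree lc_d_rc_27_0 lc_d_rc_32_2 lc_d_rc_28_2 lc_d_rc_30_2 lc_d_Cert_tree lc_d_rc_29_2 lc_d_rc_31_2) (@D3.rec (fun _ => (Cert rels S Gen.d)) lc_d_Cert_tree lc_d_rc_27_0 lc_d_rc_3_1 lc_d_rc_30_2 lc_d_Cert_tree lc_d_rc_27_0 lc_d_rc_32_2 lc_d_Cert_tree lc_d_rc_27_0 lc_d_rc_20_3 lc_d_rc_33_2 lc_d_rc_12_1 lc_d_Cert_tree lc_d_rc_27_0 lc_d_rc_12_1 lc_d_rc_30_2 lc_d_rc_29_2 lc_d_rc_12_1 lc_d_rc_27_0 lc_d_rc_12_1 lc_d_rc_33_2 lc_d_Cert_tree lc_d_rc_3_1 lc_d_rc_30_2 lc_d_Cert_tree lc_d_rc_32_2 lc_d_rc_3_1 lc_d_rc_27_0 lc_d_rc_30_2 lc_d_rc_33_2 lc_d_Cert_tree lc_d_rc_30_2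 lc_d_rc_29_2 lc_d_rc_33_2 lc_d_rc_31_2 lc_d_rc_33_2 lc_d_Cert_tree lc_d_rc_27_0 lc_d_rc_12_1 lc_d_rc_28_2 lc_d_Cert_tree lc_d_rc_27_0 lc_d_rc_28_4 lc_d_rc_30_2 lc_d_rc_30_2 lc_d_rc_33_2 lc_d_rc_31_2 lc_d_rc_33_2 lc_d_Cert_tree lc_d_rc_27_0 lc_d_rc_31_2) (@D3.rec (fun _ => (Cert rels S Gen.d)) lc_d_rc_29_2 lc_d_rc_33_2 lc_d_rc_33_2 lc_d_Cert_tree lc_d_rc_32_2 lc_d_rc_33_2 lc_d_Cert_tree lc_d_rc_27_0 lc_d_rc_28_2 lc_d_rc_28_2 lc_d_Cert_tree lc_d_rc_27_0 lc_d_rc_20_3 lc_d_rc_32_2 lc_d_rc_12_1 lc_d_Cert_tree lc_d_rc_27_0 lc_d_rc_31_2 lc_d_rc_31_2 lc_d_Cert_tree lc_d_rc_27_0 lc_d_rc_28_2 lc_d_rc_32_2 lc_d_Cert_tree lc_d_rc_27_0 lc_d_rc_20_3 lc_d_rc_12_1 lc_d_rc_12_1 lc_d_Cert_tree lc_d_rc_27_0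 lc_d_rc_30_2 lc_d_Cert_tree lc_d_rc_27_0 lc_d_rc_20_3 lc_d_rc_28_2 lc_d_rc_30_2 lc_d_Cert_tree lc_d_rc_27_0 lc_d_rc_20_3 lc_d_rc_28_2 lc_d_rc_12_1 lc_d_rc_12_1 lc_d_rc_20_3 lc_d_Cert_tree lc_d_rc_27_0 lc_d_rc_28_2 lc_d_rc_27_0 lc_d_rc_31_2 lc_d_rc_28_2 lc_d_Cert_tree lc_d_rc_27_0) (@D3.rec (fun _ => (Cert rels S Gen.d)) lc_d_rc_20_3 lc_d_rc_28_2 lc_d_rc_12_1 lc_d_rc_27_0 lc_d_rc_20_3 lc_d_rc_28_2 lc_d_rc_12_1 lc_d_Cert_tree lc_d_rc_3_1 lc_d_rc_20_3 lc_d_rc_33_2 lc_d_rc_27_0 lc_d_rc_33_2 lc_d_rc_29_2 lc_d_rc_31_0 lc_d_rc_31_0 lc_d_rc_31_0 lc_d_Cert_tree lc_d_rc_27_0 lc_d_rc_20_3 lc_d_rc_28_2 lc_d_rc_30_2 lc_d_Cert_tree lc_d_rc_12_1 lc_d_Cert_tree lc_d_rc_3_1 lc_d_rc_28_4 lc_d_Cert_tree lc_d_rc_33_2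 lc_d_rc_20_3 lc_d_rc_27_0 lc_d_rc_33_2 lc_d_rc_33_2 lc_d_rc_29_2 lc_d_rc_27_0 lc_d_rc_29_2 lc_d_rc_29_2 lc_d_rc_20_3 lc_d_rc_30_2 lc_d_Cert_tree lc_d_Cert_tree lc_d_rc_27_0 lc_d_rc_33_2 lc_d_rc_33_2 lc_d_Cert_tree lc_d_rc_28_2 lc_d_rc_29_2 lc_d_rc_28_2 lc_d_Cert_tree lc_d_rc_29_2 lc_d_Cert_tree) (@D3.rec (fun _ => (Cert rels S Gen.d)) lc_d_rc_33_0 lc_d_rc_28_2 lc_d_rc_29_2 lc_d_rc_12_1 lc_d_rc_32_2 lc_d_Cert_tree lc_d_rc_12_3 lc_d_rc_28_2 lc_d_rc_3_3 lc_d_rc_30_2 lc_d_rc_33_2 lc_d_rc_12_3 lc_d_rc_33_2 lc_d_Cert_tree lc_d_rc_28_2 lc_d_Cert_tree lc_d_rc_27_0 lc_d_rc_32_2 lc_d_rc_12_1 lc_d_Cert_tree lc_d_rc_20_3 lc_d_Cert_tree lc_d_rc_27_0 lc_d_rc_29_2 lc_d_rc_27_0 lc_d_Cert_tree lc_d_rc_27_0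 lc_d_rc_29_2 lc_d_rc_29_2 lc_d_rc_20_3 lc_d_rc_20_3 lc_d_rc_28_2 lc_d_rc_29_2 lc_d_rc_33_2 lc_d_rc_33_2 lc_d_Cert_tree lc_d_Cert_tree lc_d_rc_27_1 lc_d_rc_3_1 lc_d_rc_28_2 lc_d_Cert_tree lc_d_Cert_tree lc_d_rc_27_0 lc_d_rc_27_0 lc_d_rc_3_1 lc_d_Cert_tree lc_d_rc_27_0 lc_d_rc_3_3 lc_d_rc_27_0 lc_d_rc_3_3 lc_d_rc_27_0) (@D3.rec (fun _ => (Cert rels S Gen.d)) lc_d_rc_27_1 lc_d_rc_29_4 lc_d_rc_27_0 lc_d_rc_28_2 lc_d_rc_30_2 lc_d_rc_12_1 lc_d_rc_29_2 lc_d_Cert_tree lc_d_rc_27_0 lc_d_rc_33_2 lc_d_Cert_tree lc_d_Cert_tree lc_d_Cert_tree lc_d_rc_27_0 lc_d_rc_12_1 lc_d_rc_28_2 lc_d_rc_20_3 lc_d_rc_20_1 lc_d_rc_3_1 lc_d_rc_30_0 lc_d_rc_3_1 lc_d_rc_12_1 lc_d_rc_27_0 lc_d_rc_30_2 lc_d_rc_33_2 lc_d_Cert_tree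 lc_d_rc_12_3 lc_d_Cert_tree lc_d_rc_27_0 lc_d_rc_33_2 lc_d_Cert_tree lc_d_rc_30_2 lc_d_rc_33_2 lc_d_rc_33_2 lc_d_Cert_tree lc_d_rc_27_0 lc_d_Cert_tree lc_d_rc_27_0 lc_d_Cert_tree lc_d_rc_20_3 lc_d_Cert_tree lc_d_rc_27_0 lc_d_rc_30_2 lc_d_rc_27_0 lc_d_Cert_tree lc_d_rc_27_0 lc_d_rc_20_3 lc_d_rc_20_3 lc_d_rc_12_1 lc_d_Cert_tree lc_d_Cert_tree) (@D3.rec (fun _ => (Cert rels S Gen.d)) lc_d_rc_33_2 lc_d_Cert_tree lc_d_rc_27_0 lc_d_rc_12_1 lc_d_rc_33_2 lc_d_Cert_tree lc_d_rc_27_0 lc_d_Cert_tree lc_d_rc_27_0 lc_d_rc_28_2 lc_d_rc_12_1 lc_d_rc_27_0 lc_d_rc_28_2 lc_d_rc_12_1 lc_d_rc_30_2 lc_d_rc_3_1 lc_d_rc_12_3 lc_d_rc_12_1 lc_d_rc_27_0 lc_d_rc_33_2 lc_d_Cert_tree lc_d_Cert_tree lc_d_Cert_tree lc_d_rc_33_2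 lc_d_rc_33_2 lc_d_rc_3_1 lc_d_Cert_tree lc_d_rc_12_1 lc_d_rc_27_0 lc_d_rc_33_2 lc_d_Cert_tree lc_d_Cert_tree lc_d_rc_27_0 lc_d_rc_30_2 lc_d_rc_33_2 lc_d_Cert_tree lc_d_rc_30_2 lc_d_rc_29_2 lc_d_rc_33_2 lc_d_rc_33_2 lc_d_Cert_tree lc_d_rc_27_0 lc_d_rc_3_3 lc_d_Cert_tree lc_d_rc_27_0 lc_d_Cert_tree lc_d_rc_27_0 lc_d_rc_28_0 lc_d_rc_31_2 lc_d_rc_27_0 lc_d_rc_30_2) (@D3.rec (fun _ => (Cert rels S Gen.d)) lc_d_rc_30_2 lc_d_rc_33_2 lc_d_rc_30_2 lc_d_rc_28_2 lc_d_Cert_tree lc_d_rc_30_2 lc_d_Cert_tree lc_d_rc_32_2 lc_d_rc_33_2 lc_d_Cert_tree lc_d_rc_30_2 lc_d_rc_29_2 lc_d_rc_33_2 lc_d_rc_33_2 lc_d_Cert_tree lc_d_rc_27_0 lc_d_Cert_tree lc_d_rc_27_0 lc_d_rc_27_1 lc_d_rc_33_2 lc_d_rc_30_2 lc_d_rc_30_2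 lc_d_rc_12_1 lc_d_rc_33_2 lc_d_rc_29_2 lc_d_rc_33_2 lc_d_Cert_tree lc_d_rc_27_0 lc_d_rc_31_2 lc_d_rc_30_2 lc_d_rc_33_2 lc_d_rc_33_2 lc_d_Cert_tree lc_d_rc_12_1 lc_d_rc_33_2 lc_d_Cert_tree lc_d_rc_27_0 lc_d_rc_28_2 lc_d_rc_28_2 lc_d_Cert_tree lc_d_rc_27_0 lc_d_rc_20_3 lc_d_rc_20_3 lc_d_rc_28_2 lc_d_rc_28_0 lc_d_rc_12_1 lc_d_Cert_tree lc_d_rc_27_0 lc_d_Cert_tree lc_d_rc_27_0 lc_d_rc_20_3) (@D3.rec (fun _ => (Cert rels S Gen.d)) lc_d_rc_20_3 lc_d_Cert_tree lc_d_rc_12_1 lc_d_Cert_tree lc_d_rc_27_0 lc_d_rc_20_3 lc_d_Cert_tree lc_d_rc_27_0 lc_d_rc_30_2 lc_d_rc_29_2 lc_d_rc_27_0 lc_d_rc_12_1 lc_d_rc_31_2 lc_d_Cert_tree lc_d_rc_27_0 lc_d_rc_27_0 lc_d_rc_27_0 lc_d_rc_33_2 lc_d_Cert_tree lc_d_rc_27_0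 lc_d_rc_28_2 lc_d_rc_33_2 lc_d_Cert_tree lc_d_rc_27_0 lc_d_rc_28_2 lc_d_Cert_tree lc_d_rc_27_0 lc_d_rc_28_2 lc_d_rc_30_2 lc_d_rc_30_2 lc_d_rc_27_0 lc_d_rc_27_0 lc_d_rc_28_2 lc_d_rc_27_0 lc_d_rc_27_0 lc_d_rc_28_2 lc_d_rc_30_2 lc_d_rc_27_0 lc_d_rc_29_2 lc_d_rc_27_0 lc_d_rc_32_2 lc_d_rc_27_0 lc_d_rc_27_0 lc_d_rc_27_0 lc_d_rc_27_0 lc_d_rc_29_2 lc_d_rc_32_2 lc_d_rc_12_1 lc_d_rc_3_1 lc_d_rc_28_2 lc_d_rc_3_1) (@D3.rec (fun _ => (Cert rels S Gen.d)) lc_d_rc_20_3 lc_d_Cert_tree lc_d_Cert_tree lc_d_rc_27_0 lc_d_rc_28_2 lc_d_Cert_tree lc_d_rc_27_0 lc_d_rc_27_0 lc_d_rc_28_2 lc_d_rc_27_0 lc_d_rc_33_2 lc_d_Cert_tree lc_d_Cert_tree lc_d_rc_27_0 lc_d_rc_27_0 lc_d_rc_28_2 lc_d_Cert_tree lc_d_rc_30_2 lc_d_rc_29_2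 lc_d_rc_33_2 lc_d_rc_33_2 lc_d_Cert_tree lc_d_rc_27_0 lc_d_Cert_tree lc_d_rc_27_0 lc_d_Cert_tree lc_d_rc_27_0 lc_d_rc_28_2 lc_d_rc_27_0 lc_d_rc_28_2 lc_d_rc_30_2 lc_d_rc_33_2 lc_d_Cert_tree lc_d_rc_27_0 lc_d_rc_28_2 lc_d_rc_30_2 lc_d_rc_31_2 lc_d_rc_27_0 lc_d_rc_33_2 lc_d_Cert_tree lc_d_Cert_tree lc_d_rc_27_0 lc_d_rc_27_0 lc_d_rc_28_2 lc_d_rc_32_0 lc_d_Cert_tree lc_d_Cert_tree lc_d_rc_27_0 lc_d_rc_27_0 lc_d_rc_29_2 lc_d_rc_28_2) (@D3.rec (fun _ => (Cert rels S Gen.d)) lc_d_rc_30_2 lc_d_rc_30_2 lc_d_Cert_tree lc_d_rc_29_2 lc_d_rc_33_2 lc_d_Cert_tree lc_d_rc_27_0 lc_d_rc_27_0 lc_d_rc_27_0 lc_d_rc_31_2 lc_d_rc_33_2 lc_d_rc_31_2 lc_d_Cert_tree lc_d_rc_30_2 lc_d_Cert_tree lc_d_rc_28_2 lc_d_Cert_tree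 lc_d_Cert_tree lc_d_rc_27_0 lc_d_rc_27_0 lc_d_rc_28_2 lc_d_Cert_tree lc_d_rc_33_2 lc_d_rc_30_2 lc_d_Cert_tree lc_d_rc_27_0 lc_d_rc_33_2 lc_d_Cert_tree lc_d_rc_31_2 lc_d_Cert_tree lc_d_rc_27_0 lc_d_rc_28_2 lc_d_rc_28_2 lc_d_Cert_tree lc_d_rc_27_0 lc_d_rc_20_3 lc_d_rc_27_0 lc_d_rc_27_0 lc_d_rc_12_3 lc_d_rc_20_3 lc_d_rc_29_2 lc_d_rc_31_2 lc_d_rc_27_0 lc_d_rc_30_2 lc_d_rc_31_2 lc_d_rc_27_0 lc_d_rc_27_0 lc_d_rc_28_2 lc_d_rc_27_0 lc_d_Cert_tree lc_d_rc_27_0) (@D3.rec (fun _ => (Cert rels S Gen.d)) lc_d_rc_28_2 lc_d_Cert_tree lc_d_rc_27_0 lc_d_rc_28_2 lc_d_rc_28_2 lc_d_rc_12_1 lc_d_rc_31_2 lc_d_rc_20_1 lc_d_rc_28_2 lc_d_rc_3_1 lc_d_Cert_tree lc_d_rc_27_0 lc_d_Cert_tree lc_d_rc_12_1 lc_d_rc_33_2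 lc_d_Cert_tree lc_d_Cert_tree lc_d_rc_27_0 lc_d_rc_3_1 lc_d_rc_28_2 lc_d_rc_31_2 lc_d_rc_55_66 lc_d_rc_30_2 lc_d_Cert_tree lc_d_rc_30_2 lc_d_rc_33_2 lc_d_rc_12_1 lc_d_rc_30_2 lc_d_rc_33_2 lc_d_rc_33_2 lc_d_Cert_tree lc_d_rc_3_1 lc_d_Cert_tree lc_d_rc_27_0 lc_d_rc_30_2 lc_d_rc_33_2 lc_d_rc_33_2 lc_d_Cert_tree lc_d_rc_33_2 lc_d_Cert_tree lc_d_Cert_tree lc_d_rc_27_0 lc_d_rc_27_0 lc_d_rc_20_3 lc_d_rc_12_1 lc_d_Cert_tree lc_d_Cert_tree lc_d_rc_27_0 lc_d_rc_29_2 lc_d_Cert_tree lc_d_rc_27_0) (@D3.rec (fun _ => (Cert rels S Gen.d)) lc_d_rc_27_0 lc_d_rc_29_2 lc_d_rc_3_1 lc_d_rc_20_3 lc_d_Cert_tree lc_d_Cert_tree lc_d_Cert_tree lc_d_rc_27_0 lc_d_rc_31_2 lc_d_rc_31_2 lc_d_rc_30_2 lc_d_Cert_tree lc_d_rc_28_2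 lc_d_rc_32_2 lc_d_Cert_tree lc_d_rc_27_0 lc_d_rc_28_2 lc_d_rc_30_2 lc_d_rc_33_2 lc_d_Cert_tree lc_d_rc_33_2 lc_d_Cert_tree lc_d_rc_27_0 lc_d_rc_20_3 lc_d_rc_29_2 lc_d_rc_29_2 lc_d_rc_33_2 lc_d_rc_12_1 lc_d_rc_3_1 lc_d_rc_27_0 lc_d_rc_33_2 lc_d_Cert_tree lc_d_rc_29_2 lc_d_rc_33_2 lc_d_Cert_tree lc_d_rc_27_0 lc_d_rc_27_0 lc_d_rc_32_0 lc_d_rc_32_2 lc_d_rc_29_2 lc_d_rc_20_1 lc_d_Cert_tree lc_d_rc_33_2 lc_d_rc_29_2 lc_d_rc_33_2 lc_d_Cert_tree lc_d_rc_27_0 lc_d_rc_31_2 lc_d_rc_30_2 lc_d_rc_20_3 lc_d_rc_30_2) (@D3.rec (fun _ => (Cert rels S Gen.d)) lc_d_rc_33_2 lc_d_rc_33_2 lc_d_Cert_tree lc_d_rc_31_2 lc_d_rc_29_2 lc_d_rc_33_2 lc_d_rc_33_2 lc_d_Cert_tree lc_d_rc_56_24 lc_d_rc_33_2 lc_d_Cert_tree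 lc_d_rc_27_0 lc_d_rc_33_2 lc_d_Cert_tree lc_d_rc_27_0 lc_d_rc_20_3 lc_d_rc_29_2 lc_d_Cert_tree lc_d_rc_27_0 lc_d_Cert_tree lc_d_rc_27_0 lc_d_rc_32_2 lc_d_Cert_tree lc_d_rc_27_0 lc_d_rc_30_2 lc_d_rc_30_2 lc_d_Cert_tree lc_d_rc_27_0 lc_d_rc_29_0 lc_d_Cert_tree lc_d_rc_27_1 lc_d_Cert_tree lc_d_rc_27_0 lc_d_rc_28_2 lc_d_Cert_tree lc_d_Cert_tree lc_d_Cert_tree lc_d_rc_27_0 lc_d_rc_28_2 lc_d_rc_28_2 lc_d_Cert_tree lc_d_rc_27_0 lc_d_rc_20_3 lc_d_rc_30_2 lc_d_Cert_tree lc_d_rc_31_2 lc_d_rc_33_2 lc_d_rc_33_2 lc_d_Cert_tree lc_d_rc_27_0 lc_d_rc_29_2) (@D3.rec (fun _ => (Cert rels S Gen.d)) lc_d_rc_33_2 lc_d_rc_33_2 lc_d_Cert_tree lc_d_Cert_tree lc_d_rc_27_0 lc_d_rc_28_2 lc_d_Cert_tree lc_d_rc_27_0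 lc_d_rc_20_3 lc_d_rc_28_2 lc_d_rc_30_2 lc_d_Cert_tree lc_d_rc_27_0 lc_d_rc_20_3 lc_d_rc_12_1 lc_d_rc_3_1 lc_d_rc_33_0 lc_d_Cert_tree lc_d_rc_27_0 lc_d_rc_27_0 lc_d_rc_28_2 lc_d_rc_30_2 lc_d_rc_30_2 lc_d_rc_30_2 lc_d_Cert_tree lc_d_rc_27_0 lc_d_rc_28_2 lc_d_Cert_tree lc_d_rc_27_0 lc_d_rc_28_2 lc_d_rc_30_2 lc_d_Cert_tree lc_d_rc_27_0 lc_d_rc_27_0 lc_d_rc_12_1 lc_d_rc_27_0 lc_d_rc_3_1 lc_d_rc_29_4 lc_d_rc_33_2 lc_d_Cert_tree lc_d_Cert_tree lc_d_rc_33_2 lc_d_Cert_tree lc_d_rc_27_0 lc_d_rc_33_2 lc_d_Cert_tree lc_d_rc_27_0 lc_d_rc_28_2 lc_d_rc_29_2 lc_d_rc_20_3 lc_d_rc_29_2) (@D3.rec (fun _ => (Cert rels S Gen.d)) lc_d_rc_33_2 lc_d_rc_27_0 lc_d_rc_27_0 lc_d_rc_29_4 lc_d_rc_30_2 lc_d_Cert_tree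 lc_d_rc_27_0 lc_d_rc_31_2 lc_d_Cert_tree lc_d_Cert_tree lc_d_rc_27_0 lc_d_rc_27_0 lc_d_rc_27_0 lc_d_rc_20_3 lc_d_rc_28_2 lc_d_rc_12_1 lc_d_rc_20_3 lc_d_rc_30_2 lc_d_rc_20_5 lc_d_rc_27_0 lc_d_rc_20_3 lc_d_rc_28_2 lc_d_rc_28_2 lc_d_rc_30_2 lc_d_rc_27_0 lc_d_rc_27_0 lc_d_rc_20_3 lc_d_rc_30_2 lc_d_Cert_tree lc_d_rc_29_2 lc_d_rc_32_2 lc_d_rc_27_0 lc_d_rc_20_3 lc_d_rc_27_0 lc_d_rc_29_2 lc_d_rc_27_0 lc_d_rc_32_2 lc_d_rc_32_2 lc_d_rc_20_3 lc_d_rc_3_1 lc_d_rc_33_2 lc_d_rc_30_2 lc_d_Cert_tree lc_d_rc_27_0 lc_d_rc_28_2 lc_d_rc_28_2 lc_d_rc_29_2 lc_d_rc_31_0 lc_d_rc_33_2 lc_d_rc_32_2 lc_d_rc_28_2) (@D3.rec (fun _ => (Cert rels S Gen.d)) lc_d_Cert_tree lc_d_rc_30_2 lc_d_rc_29_2 lc_d_rc_3_1 lc_d_rc_12_1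 lc_d_rc_12_1 lc_d_rc_32_2 lc_d_rc_20_3 lc_d_rc_31_2 lc_d_Cert_tree lc_d_rc_27_0 lc_d_rc_33_2 lc_d_rc_33_2 lc_d_rc_28_2 lc_d_rc_27_0 lc_d_rc_20_3 lc_d_rc_28_2 lc_d_rc_29_2 lc_d_rc_27_0 lc_d_Cert_tree lc_d_rc_20_3 lc_d_rc_28_2 lc_d_rc_31_0 lc_d_rc_55_27 lc_d_Cert_tree lc_d_rc_31_2 lc_d_Cert_tree lc_d_rc_27_0 lc_d_Cert_tree lc_d_rc_27_0 lc_d_Cert_tree lc_d_Cert_tree lc_d_rc_28_2 lc_d_rc_28_2 lc_d_Cert_tree lc_d_rc_27_0 lc_d_rc_32_2 lc_d_Cert_tree lc_d_rc_27_0 lc_d_rc_31_2 lc_d_rc_29_2 lc_d_rc_29_2 lc_d_rc_27_0 lc_d_rc_12_1 lc_d_rc_27_0 lc_d_rc_31_0 lc_d_rc_28_2 lc_d_rc_12_1 lc_d_rc_28_2 lc_d_rc_33_2 lc_d_rc_12_1) (@D3.rec (fun _ => (Cert rels S Gen.d)) lc_d_Cert_tree lc_d_rc_20_3 lc_d_rc_30_2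 lc_d_rc_28_2 lc_d_rc_29_2 lc_d_rc_28_2 lc_d_rc_33_2 lc_d_Cert_tree lc_d_rc_33_2 lc_d_rc_30_2 lc_d_rc_28_2 lc_d_rc_33_2 lc_d_rc_27_0 lc_d_rc_33_2 lc_d_Cert_tree lc_d_rc_30_2 lc_d_Cert_tree lc_d_Cert_tree lc_d_rc_29_2 lc_d_rc_30_2 lc_d_Cert_tree lc_d_rc_27_0 lc_d_Cert_tree lc_d_rc_27_0 lc_d_rc_20_3 lc_d_rc_28_2 lc_d_rc_12_3 lc_d_rc_29_2 lc_d_rc_30_2 lc_d_rc_28_2 lc_d_Cert_tree lc_d_rc_28_2 lc_d_rc_28_2 lc_d_Cert_tree lc_d_rc_27_0 lc_d_rc_33_2 lc_d_Cert_tree lc_d_rc_30_2 lc_d_rc_29_2 lc_d_rc_33_2 lc_d_rc_33_2 lc_d_Cert_tree lc_d_rc_27_0 lc_d_Cert_tree lc_d_rc_27_0 lc_d_rc_20_3 lc_d_Cert_tree lc_d_rc_27_0 lc_d_rc_31_2 lc_d_Cert_tree lc_d_rc_27_0) (@D3.rec (fun _ => (Cert rels S Gen.d)) lc_d_rc_27_0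 lc_d_Cert_tree lc_d_rc_27_0 lc_d_rc_28_2 lc_d_rc_27_0 lc_d_rc_20_3 lc_d_rc_20_3 lc_d_rc_28_2 lc_d_rc_30_2 lc_d_Cert_tree lc_d_rc_27_0 lc_d_rc_20_3 lc_d_rc_20_3 lc_d_rc_28_2 lc_d_rc_12_1 lc_d_rc_27_0 lc_d_rc_29_2 lc_d_rc_33_2 lc_d_Cert_tree lc_d_rc_27_0 lc_d_rc_33_2 lc_d_Cert_tree lc_d_rc_27_0 lc_d_rc_28_2 lc_d_rc_28_2 lc_d_rc_30_2 lc_d_rc_28_2 lc_d_rc_33_2 lc_d_rc_12_3 lc_d_rc_30_2 lc_d_rc_33_2 lc_d_rc_20_3 lc_d_rc_12_1 lc_d_rc_33_2 lc_d_rc_12_3 lc_d_rc_3_1 lc_d_rc_30_2 lc_d_rc_29_2 lc_d_rc_27_0 lc_d_rc_33_2 lc_d_Cert_tree lc_d_rc_28_2 lc_d_Cert_tree lc_d_Cert_tree lc_d_rc_27_0 lc_d_Cert_tree lc_d_rc_27_0 lc_d_rc_27_0 lc_d_rc_30_2 lc_d_rc_28_2 lc_d_rc_3_1) (@D3.rec (fun _ => (Cert rels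 S Gen.d)) lc_d_rc_28_2 lc_d_rc_30_2 lc_d_rc_27_0 lc_d_rc_33_2 lc_d_Cert_tree lc_d_rc_30_2 lc_d_Cert_tree lc_d_rc_27_0 lc_d_Cert_tree lc_d_rc_27_0 lc_d_rc_31_2 lc_d_rc_31_2 lc_d_rc_29_2 lc_d_Cert_tree lc_d_Cert_tree lc_d_rc_27_0 lc_d_rc_12_1 lc_d_rc_31_2 lc_d_Cert_tree lc_d_rc_27_0 lc_d_rc_32_2 lc_d_Cert_tree lc_d_rc_27_0 lc_d_Cert_tree lc_d_rc_27_0 lc_d_Cert_tree lc_d_rc_27_0 lc_d_rc_28_2 lc_d_rc_27_0 lc_d_rc_20_5 lc_d_rc_12_1 lc_d_Cert_tree lc_d_rc_20_3 lc_d_rc_30_2 lc_d_rc_28_2 lc_d_rc_29_2 lc_d_rc_3_1 lc_d_rc_31_2 lc_d_rc_12_1 lc_d_rc_27_0 lc_d_rc_30_2 lc_d_rc_33_2 lc_d_Cert_tree lc_d_rc_30_2 lc_d_Cert_tree lc_d_rc_12_3 lc_d_rc_33_2 lc_d_rc_33_2 lc_d_rc_32_2 lc_d_rc_12_1 lc_d_rc_27_0)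 (@D3.rec (fun _ => (Cert rels S Gen.d)) lc_d_rc_33_2 lc_d_Cert_tree lc_d_rc_31_2 lc_d_rc_30_2 lc_d_Cert_tree lc_d_rc_27_0 lc_d_rc_33_2 lc_d_Cert_tree lc_d_rc_30_2 lc_d_rc_29_2 lc_d_rc_33_2 lc_d_rc_33_2 lc_d_Cert_tree lc_d_rc_27_0 lc_d_rc_3_3 lc_d_rc_55_45 lc_d_Cert_tree lc_d_rc_27_0 lc_d_Cert_tree lc_d_rc_27_0 lc_d_rc_31_2 lc_d_Cert_tree lc_d_rc_27_0 lc_d_rc_27_0 lc_d_rc_30_2 lc_d_rc_31_2 lc_d_rc_32_2 lc_d_Cert_tree lc_d_rc_27_0 lc_d_rc_20_3 lc_d_Cert_tree lc_d_rc_27_0 lc_d_rc_30_2 lc_d_rc_31_0 lc_d_Cert_tree lc_d_rc_12_1 lc_d_rc_3_1 lc_d_rc_28_2 lc_d_Cert_tree lc_d_Cert_tree lc_d_rc_27_0 lc_d_rc_28_2 lc_d_rc_28_2 lc_d_Cert_tree lc_d_rc_27_0 lc_d_rc_27_0 lc_d_rc_33_2 lc_d_Cert_tree lc_d_rc_56_31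 lc_d_rc_33_2 lc_d_rc_28_2) (@D3.rec (fun _ => (Cert rels S Gen.d)) lc_d_Cert_tree lc_d_rc_27_0 lc_d_rc_33_2 lc_d_Cert_tree lc_d_rc_31_0 lc_d_rc_31_2 lc_d_Cert_tree lc_d_rc_27_0 lc_d_rc_28_2 lc_d_rc_28_2 lc_d_Cert_tree lc_d_rc_27_0 lc_d_rc_20_3 lc_d_Cert_tree lc_d_rc_27_0 lc_d_rc_33_0 lc_d_rc_32_2 lc_d_Cert_tree lc_d_rc_27_0 lc_d_rc_28_0 lc_d_rc_27_0 lc_d_rc_30_2 lc_d_rc_3_1 lc_d_rc_29_0 lc_d_rc_30_2 lc_d_rc_30_2 lc_d_Cert_tree lc_d_rc_27_0 lc_d_rc_30_2 lc_d_rc_28_2 lc_d_rc_12_1 lc_d_rc_32_2 lc_d_rc_31_2 lc_d_rc_27_0 lc_d_Cert_tree lc_d_rc_27_0 lc_d_rc_20_3 lc_d_rc_28_2 lc_d_rc_12_1 lc_d_rc_27_0 lc_d_rc_30_2 lc_d_rc_28_2 lc_d_rc_12_1 lc_d_Cert_tree lc_d_rc_29_2 lc_d_rc_30_2 lc_d_rc_27_0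 lc_d_rc_12_3 lc_d_rc_33_2 lc_d_Cert_tree lc_d_rc_33_2)
def ce_d_16 : D2 → D3 → (Cert rels S Gen.d) := @D2.rec (fun _ => D3 → (Cert rels S Gen.d)) (@D3.rec (fun _ => (Cert rels S Gen.d)) lc_d_Cert_tree lc_d_rc_27_0 lc_d_rc_28_2 lc_d_Cert_tree lc_d_rc_27_0 lc_d_rc_28_2 lc_d_rc_30_2 lc_d_rc_29_2 lc_d_rc_29_2 lc_d_rc_3_1 lc_d_rc_29_2 lc_d_rc_12_1 lc_d_rc_3_1 lc_d_Cert_tree lc_d_Cert_tree lc_d_rc_3_1 lc_d_rc_27_0 lc_d_rc_27_0 lc_d_Cert_tree lc_d_rc_27_0 lc_d_Cert_tree lc_d_rc_27_0 lc_d_rc_27_0 lc_d_rc_32_0 lc_d_rc_27_0 lc_d_rc_30_0 lc_d_rc_12_3 lc_d_rc_27_0 lc_d_rc_12_1 lc_d_rc_32_2 lc_d_Cert_tree lc_d_rc_32_2 lc_d_rc_27_0 lc_d_rc_27_0 lc_d_rc_32_2 lc_d_rc_27_0 lc_d_rc_27_0 lc_d_rc_28_2 lc_d_rc_20_3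 lc_d_rc_20_3 lc_d_rc_28_2 lc_d_rc_27_0 lc_d_rc_27_0 lc_d_rc_27_0 lc_d_rc_27_0 lc_d_rc_33_2 lc_d_rc_27_0 lc_d_rc_12_1 lc_d_rc_27_0 lc_d_rc_27_0 lc_d_rc_27_0) (@D3.rec (fun _ => (Cert rels S Gen.d)) lc_d_rc_28_2 lc_d_rc_27_0 lc_d_rc_20_3 lc_d_rc_28_2 lc_d_rc_28_2 lc_d_rc_28_2 lc_d_rc_33_2 lc_d_rc_28_2 lc_d_rc_12_1 lc_d_rc_12_1 lc_d_rc_12_1 lc_d_rc_33_2 lc_d_rc_31_2 lc_d_rc_3_1 lc_d_rc_27_0 lc_d_rc_12_1 lc_d_rc_3_1 lc_d_rc_3_1 lc_d_Cert_tree lc_d_rc_30_2 lc_d_Cert_tree lc_d_rc_27_0 lc_d_rc_27_0 lc_d_rc_28_2 lc_d_rc_33_2 lc_d_rc_28_2 lc_d_rc_3_1 lc_d_rc_28_2 lc_d_Cert_tree lc_d_rc_28_2 lc_d_Cert_tree lc_d_rc_27_0 lc_d_Cert_tree lc_d_rc_27_0 lc_d_rc_27_0 lc_d_rc_27_0 lc_d_Cert_tree lc_d_rc_20_3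 lc_d_rc_30_2 lc_d_rc_28_2 lc_d_rc_29_2 lc_d_rc_28_2 lc_d_rc_33_2 lc_d_rc_12_3 lc_d_rc_12_1 lc_d_rc_27_0 lc_d_rc_33_2 lc_d_Cert_tree lc_d_rc_27_0 lc_d_rc_30_2 lc_d_Cert_tree) (@D3.rec (fun _ => (Cert rels S Gen.d)) lc_d_Cert_tree lc_d_rc_27_0 lc_d_rc_31_2 lc_d_Cert_tree lc_d_rc_27_0 lc_d_rc_27_0 lc_d_rc_33_2 lc_d_Cert_tree lc_d_rc_27_0 lc_d_rc_33_2 lc_d_rc_28_2 lc_d_rc_29_2 lc_d_Cert_tree lc_d_rc_20_3 lc_d_Cert_tree lc_d_rc_33_2 lc_d_Cert_tree lc_d_rc_27_0 lc_d_rc_28_2 lc_d_Cert_tree lc_d_rc_27_0 lc_d_rc_27_0 lc_d_rc_31_2 lc_d_Cert_tree lc_d_rc_27_0 lc_d_rc_31_2 lc_d_rc_28_4 lc_d_rc_27_0 lc_d_rc_27_0 lc_d_rc_20_3 lc_d_rc_28_2 lc_d_rc_27_0 lc_d_Cert_tree lc_d_rc_27_0 lc_d_rc_28_2 lc_d_rc_12_1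 lc_d_rc_28_2 lc_d_rc_32_0 lc_d_rc_28_2 lc_d_rc_12_1 lc_d_Cert_tree lc_d_rc_12_1 lc_d_rc_27_0 lc_d_rc_33_2 lc_d_Cert_tree lc_d_Cert_tree lc_d_rc_12_3 lc_d_rc_27_0 lc_d_rc_28_2 lc_d_rc_33_2 lc_d_Cert_tree) (@D3.rec (fun _ => (Cert rels S Gen.d)) lc_d_rc_20_3 lc_d_rc_30_2 lc_d_rc_28_2 lc_d_rc_29_2 lc_d_rc_12_1 lc_d_rc_33_2 lc_d_rc_28_2 lc_d_rc_3_1 lc_d_rc_20_3 lc_d_rc_12_1 lc_d_rc_27_0 lc_d_rc_12_1 lc_d_rc_33_2 lc_d_Cert_tree lc_d_rc_30_2 lc_d_Cert_tree lc_d_rc_31_2 lc_d_Cert_tree lc_d_rc_31_0 lc_d_rc_31_2 lc_d_rc_27_0 lc_d_Cert_tree lc_d_rc_27_0 lc_d_rc_27_0 lc_d_rc_28_2 lc_d_rc_30_2 lc_d_rc_28_2 lc_d_rc_3_1 lc_d_rc_28_2 lc_d_rc_12_3 lc_d_rc_31_2 lc_d_rc_28_2 lc_d_Cert_tree lc_d_rc_31_2 lc_d_rc_28_2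 lc_d_Cert_tree lc_d_rc_30_2 lc_d_Cert_tree lc_d_rc_27_0 lc_d_Cert_tree lc_d_rc_27_0 lc_d_rc_31_0 lc_d_rc_12_1 lc_d_rc_27_0 lc_d_Cert_tree lc_d_rc_27_0 lc_d_rc_28_2 lc_d_rc_27_0 lc_d_rc_20_3 lc_d_rc_33_0 lc_d_rc_12_3) (@D3.rec (fun _ => (Cert rels S Gen.d)) lc_d_rc_20_3 lc_d_rc_28_2 lc_d_rc_56_31 lc_d_rc_20_3 lc_d_rc_28_2 lc_d_rc_27_0 lc_d_rc_28_2 lc_d_rc_20_3 lc_d_rc_28_2 lc_d_rc_29_0 lc_d_Cert_tree lc_d_rc_20_3 lc_d_rc_30_2 lc_d_rc_28_2 lc_d_rc_29_2 lc_d_rc_30_2 lc_d_rc_12_1 lc_d_rc_27_0 lc_d_rc_30_2 lc_d_rc_33_2 lc_d_Cert_tree lc_d_rc_30_2 lc_d_Cert_tree lc_d_rc_28_2 lc_d_rc_12_1 lc_d_rc_27_0 lc_d_rc_33_2 lc_d_Cert_tree lc_d_rc_30_2 lc_d_Cert_tree lc_d_rc_27_0 lc_d_rc_33_2 lc_d_Cert_tree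 lc_d_rc_29_2 lc_d_rc_33_2 lc_d_rc_28_2 lc_d_Cert_tree lc_d_rc_27_0 lc_d_rc_30_2 lc_d_Cert_tree lc_d_rc_27_0 lc_d_rc_27_0 lc_d_Cert_tree lc_d_rc_27_0 lc_d_rc_27_0 lc_d_Cert_tree lc_d_rc_27_0 lc_d_rc_33_2 lc_d_Cert_tree lc_d_rc_27_0 lc_d_rc_12_1) (@D3.rec (fun _ => (Cert rels S Gen.d)) lc_d_rc_28_2 lc_d_rc_27_0 lc_d_rc_30_2 lc_d_Cert_tree lc_d_rc_30_2 lc_d_rc_29_2 lc_d_rc_33_2 lc_d_rc_33_2 lc_d_Cert_tree lc_d_rc_27_0 lc_d_Cert_tree lc_d_rc_27_0 lc_d_rc_27_0 lc_d_rc_33_2 lc_d_rc_31_2 lc_d_rc_30_2 lc_d_rc_29_2 lc_d_rc_33_2 lc_d_rc_33_2 lc_d_Cert_tree lc_d_rc_27_0 lc_d_rc_20_5 lc_d_rc_33_2 lc_d_rc_33_2 lc_d_Cert_tree lc_d_rc_31_2 lc_d_Cert_tree lc_d_rc_27_0 lc_d_rc_28_2 lc_d_rc_28_2 lc_d_Cert_tree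 lc_d_rc_27_0 lc_d_rc_20_3 lc_d_Cert_tree lc_d_rc_27_0 lc_d_rc_27_0 lc_d_Cert_tree lc_d_rc_27_0 lc_d_rc_28_2 lc_d_Cert_tree lc_d_rc_27_0 lc_d_rc_20_3 lc_d_rc_28_2 lc_d_rc_30_2 lc_d_rc_30_2 lc_d_rc_27_0 lc_d_rc_20_3 lc_d_rc_28_2 lc_d_rc_28_2 lc_d_rc_28_2 lc_d_rc_27_0) (@D3.rec (fun _ => (Cert rels S Gen.d)) lc_d_rc_28_2 lc_d_rc_20_3 lc_d_rc_28_2 lc_d_rc_12_1 lc_d_Cert_tree lc_d_rc_33_2 lc_d_Cert_tree lc_d_rc_27_0 lc_d_rc_28_2 lc_d_rc_33_2 lc_d_Cert_tree lc_d_rc_12_1 lc_d_Cert_tree lc_d_rc_27_0 lc_d_rc_28_2 lc_d_Cert_tree lc_d_rc_27_0 lc_d_rc_20_3 lc_d_rc_28_2 lc_d_rc_30_2 lc_d_rc_28_2 lc_d_rc_12_1 lc_d_rc_29_0 lc_d_Cert_tree lc_d_Cert_tree lc_d_Cert_tree lc_d_rc_27_0 lc_d_rc_28_2 lc_d_rc_3_1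 lc_d_Cert_tree lc_d_Cert_tree lc_d_rc_27_0 lc_d_rc_27_0 lc_d_rc_27_0 lc_d_rc_28_2 lc_d_rc_30_2 lc_d_rc_28_2 lc_d_rc_29_2 lc_d_rc_20_3 lc_d_Cert_tree lc_d_rc_30_2 lc_d_Cert_tree lc_d_rc_27_0 lc_d_rc_28_2 lc_d_rc_33_2 lc_d_rc_30_2 lc_d_Cert_tree lc_d_Cert_tree lc_d_rc_27_0 lc_d_Cert_tree lc_d_rc_27_0) (@D3.rec (fun _ => (Cert rels S Gen.d)) lc_d_rc_27_0 lc_d_rc_12_1 lc_d_rc_3_1 lc_d_rc_30_2 lc_d_Cert_tree lc_d_Cert_tree lc_d_Cert_tree lc_d_rc_27_0 lc_d_Cert_tree lc_d_Cert_tree lc_d_Cert_tree lc_d_rc_27_0 lc_d_rc_28_2 lc_d_Cert_tree lc_d_rc_27_0 lc_d_rc_20_3 lc_d_rc_27_0 lc_d_Cert_tree lc_d_rc_27_0 lc_d_rc_30_2 lc_d_rc_28_2 lc_d_rc_27_0 lc_d_rc_27_0 lc_d_rc_28_2 lc_d_rc_27_0 lc_d_rc_28_2 lc_d_Cert_tree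 lc_d_rc_28_2 lc_d_rc_12_1 lc_d_Cert_tree lc_d_rc_28_2 lc_d_rc_29_2 lc_d_rc_30_2 lc_d_Cert_tree lc_d_Cert_tree lc_d_rc_33_2 lc_d_Cert_tree lc_d_rc_27_0 lc_d_rc_27_0 lc_d_rc_27_0 lc_d_rc_30_2 lc_d_rc_28_2 lc_d_rc_29_2 lc_d_rc_32_0 lc_d_rc_33_2 lc_d_Cert_tree lc_d_rc_30_2 lc_d_Cert_tree lc_d_rc_30_2 lc_d_rc_33_2 lc_d_rc_31_2) (@D3.rec (fun _ => (Cert rels S Gen.d)) lc_d_rc_20_3 lc_d_rc_30_2 lc_d_Cert_tree lc_d_Cert_tree lc_d_rc_27_0 lc_d_rc_31_2 lc_d_Cert_tree lc_d_rc_27_0 lc_d_rc_27_0 lc_d_rc_33_2 lc_d_rc_55_60 lc_d_rc_31_2 lc_d_rc_29_2 lc_d_rc_12_1 lc_d_Cert_tree lc_d_rc_30_2 lc_d_rc_33_2 lc_d_rc_29_2 lc_d_rc_33_2 lc_d_Cert_tree lc_d_rc_31_2 lc_d_Cert_tree lc_d_rc_27_0 lc_d_rc_30_2 lc_d_rc_33_2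 lc_d_Cert_tree lc_d_rc_12_1 lc_d_rc_33_2 lc_d_rc_33_2 lc_d_Cert_tree lc_d_Cert_tree lc_d_rc_27_0 lc_d_rc_27_0 lc_d_rc_20_3 lc_d_rc_31_2 lc_d_Cert_tree lc_d_rc_27_0 lc_d_Cert_tree lc_d_rc_27_0 lc_d_rc_20_3 lc_d_rc_27_0 lc_d_rc_20_3 lc_d_rc_20_3 lc_d_rc_28_2 lc_d_rc_27_0 lc_d_rc_20_3 lc_d_rc_28_2 lc_d_Cert_tree lc_d_rc_29_2 lc_d_rc_33_2 lc_d_rc_20_3) (@D3.rec (fun _ => (Cert rels S Gen.d)) lc_d_rc_29_2 lc_d_rc_33_2 lc_d_rc_31_2 lc_d_rc_29_2 lc_d_rc_3_1 lc_d_rc_12_1 lc_d_rc_20_3 lc_d_rc_33_2 lc_d_Cert_tree lc_d_rc_31_2 lc_d_rc_30_2 lc_d_Cert_tree lc_d_rc_3_3 lc_d_rc_3_1 lc_d_rc_27_0 lc_d_rc_20_1 lc_d_rc_33_2 lc_d_Cert_tree lc_d_rc_30_2 lc_d_rc_29_2 lc_d_rc_33_2 lc_d_rc_3_1 lc_d_rc_33_2 lc_d_Cert_tree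 lc_d_rc_27_0 lc_d_rc_31_2 lc_d_Cert_tree lc_d_rc_27_0 lc_d_rc_28_2 lc_d_rc_31_2 lc_d_rc_20_3 lc_d_rc_3_3 lc_d_Cert_tree lc_d_rc_28_2 lc_d_rc_32_2 lc_d_rc_30_2 lc_d_rc_30_2 lc_d_Cert_tree lc_d_rc_27_1 lc_d_rc_31_2 lc_d_Cert_tree lc_d_rc_27_0 lc_d_rc_33_2 lc_d_Cert_tree lc_d_rc_29_2 lc_d_rc_33_2 lc_d_rc_33_2 lc_d_Cert_tree lc_d_rc_12_1 lc_d_Cert_tree lc_d_rc_27_0) (@D3.rec (fun _ => (Cert rels S Gen.d)) lc_d_rc_55_57 lc_d_Cert_tree lc_d_rc_27_0 lc_d_rc_20_3 lc_d_rc_3_1 lc_d_Cert_tree lc_d_rc_27_0 lc_d_rc_32_2 lc_d_Cert_tree lc_d_rc_27_0 lc_d_rc_3_3 lc_d_rc_28_2 lc_d_rc_12_1 lc_d_rc_27_0 lc_d_Cert_tree lc_d_rc_27_0 lc_d_rc_30_2 lc_d_rc_28_2 lc_d_rc_31_2 lc_d_rc_12_1 lc_d_rc_27_0 lc_d_rc_12_1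 lc_d_rc_31_2 lc_d_rc_29_2 lc_d_rc_33_2 lc_d_rc_12_1 lc_d_rc_12_1 lc_d_Cert_tree lc_d_rc_27_0 lc_d_rc_30_2 lc_d_Cert_tree lc_d_rc_27_0 lc_d_rc_32_2 lc_d_rc_30_2 lc_d_rc_30_2 lc_d_rc_33_2 lc_d_rc_33_2 lc_d_Cert_tree lc_d_rc_27_0 lc_d_rc_31_2 lc_d_rc_29_2 lc_d_rc_33_2 lc_d_rc_31_2 lc_d_Cert_tree lc_d_rc_20_1 lc_d_rc_33_2 lc_d_Cert_tree lc_d_rc_27_0 lc_d_rc_28_2 lc_d_rc_12_1 lc_d_Cert_tree) (@D3.rec (fun _ => (Cert rels S Gen.d)) lc_d_rc_27_0 lc_d_rc_20_3 lc_d_Cert_tree lc_d_rc_31_2 lc_d_rc_33_2 lc_d_Cert_tree lc_d_rc_33_2 lc_d_Cert_tree lc_d_rc_27_0 lc_d_rc_28_2 lc_d_rc_32_2 lc_d_rc_3_1 lc_d_rc_33_2 lc_d_rc_33_2 lc_d_Cert_tree lc_d_Cert_tree lc_d_rc_27_0 lc_d_rc_33_2 lc_d_Cert_tree lc_d_rc_27_0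 lc_d_rc_20_3 lc_d_rc_28_2 lc_d_rc_30_2 lc_d_Cert_tree lc_d_rc_27_0 lc_d_rc_20_3 lc_d_rc_28_2 lc_d_rc_12_1 lc_d_Cert_tree lc_d_rc_27_0 lc_d_rc_31_2 lc_d_Cert_tree lc_d_rc_27_0 lc_d_rc_20_3 lc_d_rc_28_2 lc_d_Cert_tree lc_d_rc_27_0 lc_d_rc_20_3 lc_d_rc_28_2 lc_d_rc_12_1 lc_d_rc_12_1 lc_d_rc_30_2 lc_d_rc_27_0 lc_d_Cert_tree lc_d_rc_27_0 lc_d_rc_20_3 lc_d_rc_28_2 lc_d_rc_30_2 lc_d_rc_27_0 lc_d_rc_31_2 lc_d_rc_28_2) (@D3.rec (fun _ => (Cert rels S Gen.d)) lc_d_rc_12_1 lc_d_Cert_tree lc_d_rc_28_2 lc_d_rc_32_2 lc_d_rc_27_0 lc_d_rc_28_2 lc_d_rc_32_2 lc_d_rc_27_0 lc_d_rc_20_3 lc_d_rc_28_2 lc_d_rc_12_1 lc_d_Cert_tree lc_d_rc_3_1 lc_d_rc_20_3 lc_d_rc_28_2 lc_d_Cert_tree lc_d_rc_3_1 lc_d_Cert_tree lc_d_rc_27_0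 lc_d_rc_31_2 lc_d_rc_27_0 lc_d_rc_29_2 lc_d_rc_28_2 lc_d_rc_20_3 lc_d_rc_30_2 lc_d_rc_27_0 lc_d_rc_55_45 lc_d_rc_27_0 lc_d_Cert_tree lc_d_rc_28_4 lc_d_rc_27_0 lc_d_rc_20_3 lc_d_rc_3_3 lc_d_rc_29_2 lc_d_rc_33_2 lc_d_rc_29_0 lc_d_rc_33_2 lc_d_rc_20_3 lc_d_rc_20_3 lc_d_rc_27_0 lc_d_rc_27_0 lc_d_Cert_tree lc_d_rc_27_0 lc_d_Cert_tree lc_d_Cert_tree lc_d_rc_27_0 lc_d_rc_27_0 lc_d_Cert_tree lc_d_Cert_tree lc_d_rc_27_0 lc_d_rc_30_2) (@D3.rec (fun _ => (Cert rels S Gen.d)) lc_d_Cert_tree lc_d_rc_33_2 lc_d_Cert_tree lc_d_rc_30_2 lc_d_Cert_tree lc_d_rc_27_0 lc_d_Cert_tree lc_d_rc_27_0 lc_d_rc_20_3 lc_d_Cert_tree lc_d_rc_27_0 lc_d_Cert_tree lc_d_rc_27_0 lc_d_rc_27_0 lc_d_rc_20_3 lc_d_Cert_tree lc_d_Cert_tree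 lc_d_Cert_tree lc_d_rc_27_0 lc_d_rc_27_0 lc_d_rc_30_2 lc_d_rc_3_3 lc_d_Cert_tree lc_d_rc_27_0 lc_d_rc_27_0 lc_d_rc_28_2 lc_d_rc_20_3 lc_d_rc_3_3 lc_d_rc_27_0 lc_d_rc_3_3 lc_d_rc_29_0 lc_d_rc_30_2 lc_d_Cert_tree lc_d_rc_27_0 lc_d_rc_33_2 lc_d_Cert_tree lc_d_rc_27_0 lc_d_rc_27_0 lc_d_rc_27_0 lc_d_rc_12_1 lc_d_rc_12_1 lc_d_rc_28_2 lc_d_Cert_tree lc_d_rc_12_1 lc_d_Cert_tree lc_d_rc_30_2 lc_d_Cert_tree lc_d_rc_30_2 lc_d_rc_33_2 lc_d_rc_33_2 lc_d_Cert_tree) (@D3.rec (fun _ => (Cert rels S Gen.d)) lc_d_rc_27_0 lc_d_Cert_tree lc_d_rc_27_0 lc_d_rc_33_2 lc_d_Cert_tree lc_d_rc_27_0 lc_d_rc_33_2 lc_d_Cert_tree lc_d_Cert_tree lc_d_rc_27_0 lc_d_rc_28_2 lc_d_rc_27_0 lc_d_rc_20_3 lc_d_rc_27_0 lc_d_Cert_tree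 lc_d_rc_27_0 lc_d_rc_33_0 lc_d_rc_20_3 lc_d_rc_27_0 lc_d_rc_30_2 lc_d_Cert_tree lc_d_rc_27_0 lc_d_rc_27_0 lc_d_Cert_tree lc_d_rc_27_0 lc_d_rc_28_2 lc_d_Cert_tree lc_d_rc_27_0 lc_d_rc_28_2 lc_d_rc_27_0 lc_d_rc_28_2 lc_d_rc_30_2 lc_d_rc_12_1 lc_d_rc_30_2 lc_d_rc_12_1 lc_d_rc_3_1 lc_d_rc_33_2 lc_d_Cert_tree lc_d_rc_33_2 lc_d_Cert_tree lc_d_rc_27_0 lc_d_rc_27_0 lc_d_rc_27_0 lc_d_rc_33_2 lc_d_Cert_tree lc_d_Cert_tree lc_d_rc_27_0 lc_d_rc_33_2 lc_d_Cert_tree lc_d_rc_29_2 lc_d_rc_33_2) (@D3.rec (fun _ => (Cert rels S Gen.d)) lc_d_Cert_tree lc_d_rc_27_0 lc_d_rc_27_0 lc_d_rc_33_2 lc_d_rc_30_2 lc_d_Cert_tree lc_d_rc_27_0 lc_d_rc_33_2 lc_d_rc_33_2 lc_d_Cert_tree lc_d_Cert_tree lc_d_rc_27_0 lc_d_rc_28_2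 lc_d_Cert_tree lc_d_rc_27_0 lc_d_rc_20_3 lc_d_rc_27_0 lc_d_rc_31_2 lc_d_rc_30_2 lc_d_Cert_tree lc_d_rc_27_0 lc_d_Cert_tree lc_d_rc_27_0 lc_d_rc_33_2 lc_d_Cert_tree lc_d_rc_27_0 lc_d_rc_29_2 lc_d_rc_33_2 lc_d_rc_33_2 lc_d_Cert_tree lc_d_Cert_tree lc_d_rc_27_0 lc_d_rc_28_2 lc_d_rc_27_0 lc_d_rc_20_3 lc_d_rc_33_2 lc_d_Cert_tree lc_d_rc_33_2 lc_d_rc_12_1 lc_d_Cert_tree lc_d_rc_33_2 lc_d_Cert_tree lc_d_rc_27_0 lc_d_rc_28_2 lc_d_rc_33_2 lc_d_rc_33_2 lc_d_Cert_tree lc_d_Cert_tree lc_d_rc_27_0 lc_d_rc_55_54 lc_d_Cert_tree) (@D3.rec (fun _ => (Cert rels S Gen.d)) lc_d_rc_27_0 lc_d_rc_20_3 lc_d_rc_28_2 lc_d_rc_30_2 lc_d_Cert_tree lc_d_rc_27_0 lc_d_rc_20_3 lc_d_rc_12_1 lc_d_rc_30_2 lc_d_Cert_tree lc_d_Cert_tree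 lc_d_rc_27_0 lc_d_rc_27_0 lc_d_rc_30_2 lc_d_Cert_tree lc_d_rc_27_0 lc_d_rc_30_2 lc_d_rc_27_0 lc_d_Cert_tree lc_d_rc_27_0 lc_d_rc_28_2 lc_d_rc_32_2 lc_d_rc_27_0 lc_d_rc_28_2 lc_d_rc_28_2 lc_d_Cert_tree lc_d_rc_27_0 lc_d_rc_28_2 lc_d_rc_30_2 lc_d_Cert_tree lc_d_rc_27_0 lc_d_rc_28_2 lc_d_rc_27_0 lc_d_rc_28_2 lc_d_rc_30_2 lc_d_rc_31_2 lc_d_rc_28_2 lc_d_rc_32_2 lc_d_rc_28_2 lc_d_rc_30_2 lc_d_Cert_tree lc_d_Cert_tree lc_d_Cert_tree lc_d_rc_27_0 lc_d_rc_27_0 lc_d_rc_28_2 lc_d_rc_27_0 lc_d_rc_28_2 lc_d_rc_30_2 lc_d_rc_29_2 lc_d_rc_33_2) (@D3.rec (fun _ => (Cert rels S Gen.d)) lc_d_Cert_tree lc_d_rc_27_0 lc_d_rc_27_0 lc_d_rc_31_2 lc_d_rc_27_0 lc_d_rc_29_2 lc_d_rc_33_2 lc_d_rc_33_2 lc_d_Cert_tree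 lc_d_Cert_tree lc_d_rc_27_0 lc_d_rc_28_2 lc_d_rc_27_0 lc_d_rc_20_3 lc_d_rc_27_0 lc_d_rc_28_2 lc_d_rc_30_2 lc_d_rc_31_2 lc_d_Cert_tree lc_d_rc_27_0 lc_d_rc_28_2 lc_d_rc_30_2 lc_d_rc_31_2 lc_d_rc_33_2 lc_d_Cert_tree lc_d_rc_27_0 lc_d_rc_27_0 lc_d_Cert_tree lc_d_rc_27_0 lc_d_rc_27_0 lc_d_rc_28_2 lc_d_rc_20_3 lc_d_rc_30_2 lc_d_rc_28_2 lc_d_Cert_tree lc_d_rc_27_0 lc_d_rc_33_2 lc_d_Cert_tree lc_d_rc_27_0 lc_d_rc_28_2 lc_d_rc_20_3 lc_d_rc_12_1 lc_d_rc_20_1 lc_d_Cert_tree lc_d_rc_27_0 lc_d_Cert_tree lc_d_rc_27_0 lc_d_Cert_tree lc_d_rc_27_0 lc_d_rc_27_0 lc_d_rc_28_2) (@D3.rec (fun _ => (Cert rels S Gen.d)) lc_d_rc_20_3 lc_d_Cert_tree lc_d_rc_27_0 lc_d_Cert_tree lc_d_Cert_tree lc_d_rc_27_0 lc_d_rc_28_2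 lc_d_Cert_tree lc_d_rc_27_0 lc_d_Cert_tree lc_d_rc_27_0 lc_d_rc_20_3 lc_d_rc_28_2 lc_d_rc_30_2 lc_d_rc_28_2 lc_d_rc_27_0 lc_d_rc_20_3 lc_d_rc_12_1 lc_d_rc_30_2 lc_d_rc_20_1 lc_d_rc_28_2 lc_d_rc_28_2 lc_d_rc_28_2 lc_d_rc_27_0 lc_d_rc_28_2 lc_d_rc_20_3 lc_d_rc_27_0 lc_d_rc_28_2 lc_d_rc_28_2 lc_d_rc_30_2 lc_d_Cert_tree lc_d_rc_27_0 lc_d_rc_20_3 lc_d_rc_27_0 lc_d_Cert_tree lc_d_rc_27_0 lc_d_rc_27_0 lc_d_rc_20_3 lc_d_rc_30_2 lc_d_Cert_tree lc_d_rc_30_2 lc_d_Cert_tree lc_d_rc_27_0 lc_d_rc_33_2 lc_d_Cert_tree lc_d_rc_33_2 lc_d_Cert_tree lc_d_Cert_tree lc_d_rc_27_0 lc_d_Cert_tree lc_d_rc_27_0) (@D3.rec (fun _ => (Cert rels S Gen.d)) lc_d_rc_20_3 lc_d_rc_33_2 lc_d_Cert_tree lc_d_Cert_tree lc_d_rc_27_0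 lc_d_Cert_tree lc_d_rc_27_0 lc_d_rc_27_0 lc_d_rc_20_3 lc_d_rc_20_3 lc_d_rc_12_1 lc_d_Cert_tree lc_d_rc_27_0 lc_d_rc_27_0 lc_d_rc_27_0 lc_d_rc_28_2 lc_d_Cert_tree lc_d_rc_27_0 lc_d_rc_27_0 lc_d_rc_27_0 lc_d_rc_20_3 lc_d_Cert_tree lc_d_Cert_tree lc_d_rc_27_0 lc_d_Cert_tree lc_d_rc_27_0 lc_d_rc_20_3 lc_d_Cert_tree lc_d_Cert_tree lc_d_rc_27_0 lc_d_Cert_tree lc_d_rc_27_0 lc_d_rc_20_3 lc_d_rc_12_1 lc_d_rc_30_2 lc_d_Cert_tree lc_d_rc_33_2 lc_d_Cert_tree lc_d_rc_27_0 lc_d_rc_32_2 lc_d_Cert_tree lc_d_rc_27_0 lc_d_rc_28_2 lc_d_rc_20_3 lc_d_rc_32_0 lc_d_Cert_tree lc_d_Cert_tree lc_d_rc_27_0 lc_d_Cert_tree lc_d_Cert_tree lc_d_rc_27_0) (@D3.rec (fun _ => (Cert rels S Gen.d)) lc_d_rc_20_3 lc_d_Cert_tree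 lc_d_rc_20_3 lc_d_rc_33_2 lc_d_Cert_tree lc_d_Cert_tree lc_d_rc_27_0 lc_d_rc_29_2 lc_d_rc_33_2 lc_d_rc_33_2 lc_d_Cert_tree lc_d_Cert_tree lc_d_rc_27_0 lc_d_rc_20_3 lc_d_Cert_tree lc_d_rc_27_0 lc_d_rc_20_3 lc_d_Cert_tree lc_d_rc_27_0 lc_d_rc_20_3 lc_d_rc_12_1 lc_d_rc_27_0 lc_d_rc_27_0 lc_d_rc_28_2 lc_d_Cert_tree lc_d_rc_27_0 lc_d_rc_28_2 lc_d_rc_27_0 lc_d_Cert_tree lc_d_rc_27_0 lc_d_Cert_tree lc_d_rc_27_0 lc_d_rc_20_3 lc_d_Cert_tree lc_d_rc_27_0 lc_d_rc_27_0 lc_d_rc_27_0 lc_d_rc_20_3 lc_d_rc_28_2 lc_d_rc_30_2 lc_d_Cert_tree lc_d_rc_27_0 lc_d_rc_20_3 lc_d_rc_12_1 lc_d_Cert_tree lc_d_rc_27_0 lc_d_rc_33_2 lc_d_Cert_tree lc_d_rc_27_0 lc_d_rc_20_3 lc_d_rc_33_2) (@D3.rec (fun _ => (Cert rels S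 Gen.d)) lc_d_Cert_tree lc_d_Cert_tree lc_d_rc_27_0 lc_d_rc_27_0 lc_d_rc_29_2 lc_d_Cert_tree lc_d_rc_27_0 lc_d_rc_20_3 lc_d_rc_28_2 lc_d_rc_12_1 lc_d_rc_20_3 lc_d_rc_30_2 lc_d_rc_27_0 lc_d_rc_20_3 lc_d_rc_12_1 lc_d_rc_3_1 lc_d_rc_30_2 lc_d_rc_27_0 lc_d_rc_32_2 lc_d_rc_28_2 lc_d_rc_30_2 lc_d_rc_31_2 lc_d_rc_27_0 lc_d_rc_30_2 lc_d_rc_28_2 lc_d_rc_27_0 lc_d_rc_28_2 lc_d_rc_30_2 lc_d_rc_27_0 lc_d_rc_28_2 lc_d_rc_29_4 lc_d_Cert_tree lc_d_rc_27_0 lc_d_rc_27_0 lc_d_Cert_tree lc_d_rc_27_0 lc_d_rc_20_3 lc_d_rc_28_2 lc_d_Cert_tree lc_d_rc_27_0 lc_d_rc_28_2 lc_d_Cert_tree lc_d_rc_27_0 lc_d_rc_28_2 lc_d_Cert_tree lc_d_rc_27_0 lc_d_rc_27_0 lc_d_rc_28_2 lc_d_rc_28_2 lc_d_rc_28_2 lc_d_rc_30_2) (@D3.rec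 (fun _ => (Cert rels S Gen.d)) lc_d_rc_20_3 lc_d_rc_28_2 lc_d_rc_29_4 lc_d_rc_30_2 lc_d_rc_27_0 lc_d_rc_32_2 lc_d_rc_32_2 lc_d_rc_12_3 lc_d_Cert_tree lc_d_Cert_tree lc_d_rc_27_0 lc_d_rc_28_2 lc_d_Cert_tree lc_d_rc_31_0 lc_d_Cert_tree lc_d_Cert_tree lc_d_rc_27_0 lc_d_rc_30_2 lc_d_rc_28_4 lc_d_rc_12_1 lc_d_rc_12_1 lc_d_rc_20_5 lc_d_rc_27_0 lc_d_rc_31_2 lc_d_rc_20_3 lc_d_rc_28_2 lc_d_Cert_tree lc_d_rc_27_0 lc_d_Cert_tree lc_d_Cert_tree lc_d_rc_27_0 lc_d_Cert_tree lc_d_rc_27_0 lc_d_rc_27_0 lc_d_rc_27_0 lc_d_rc_27_0 lc_d_rc_28_2 lc_d_Cert_tree lc_d_rc_27_0 lc_d_rc_20_3 lc_d_rc_30_2 lc_d_rc_27_0 lc_d_rc_31_0 lc_d_rc_28_2 lc_d_rc_12_1 lc_d_rc_28_2 lc_d_rc_3_1 lc_d_Cert_tree lc_d_rc_30_2 lc_d_rc_28_2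 lc_d_rc_29_2) (@D3.rec (fun _ => (Cert rels S Gen.d)) lc_d_rc_30_2 lc_d_rc_12_1 lc_d_rc_27_0 lc_d_rc_30_2 lc_d_rc_33_2 lc_d_Cert_tree lc_d_rc_30_2 lc_d_Cert_tree lc_d_rc_28_2 lc_d_rc_33_2 lc_d_rc_27_0 lc_d_rc_33_2 lc_d_Cert_tree lc_d_rc_55_45 lc_d_rc_30_2 lc_d_Cert_tree lc_d_rc_29_2 lc_d_rc_33_2 lc_d_Cert_tree lc_d_rc_27_0 lc_d_Cert_tree lc_d_rc_27_0 lc_d_rc_27_0 lc_d_rc_31_2 lc_d_Cert_tree lc_d_rc_27_0 lc_d_rc_20_3 lc_d_rc_27_0 lc_d_rc_28_2 lc_d_Cert_tree lc_d_rc_30_2 lc_d_Cert_tree lc_d_rc_27_0 lc_d_rc_28_2 lc_d_Cert_tree lc_d_rc_27_0 lc_d_rc_30_2 lc_d_rc_33_2 lc_d_Cert_tree lc_d_rc_27_0 lc_d_rc_31_0 lc_d_rc_33_2 lc_d_rc_33_2 lc_d_Cert_tree lc_d_Cert_tree lc_d_rc_27_0 lc_d_rc_28_2 lc_d_rc_27_0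 lc_d_rc_20_3 lc_d_Cert_tree lc_d_rc_27_0) (@D3.rec (fun _ => (Cert rels S Gen.d)) lc_d_rc_28_2 lc_d_Cert_tree lc_d_rc_27_0 lc_d_rc_20_3 lc_d_rc_27_0 lc_d_rc_20_3 lc_d_rc_28_2 lc_d_rc_30_2 lc_d_rc_20_3 lc_d_rc_28_2 lc_d_rc_28_2 lc_d_rc_27_0 lc_d_rc_20_3 lc_d_rc_28_2 lc_d_rc_12_1 lc_d_Cert_tree lc_d_rc_28_2 lc_d_rc_33_2 lc_d_Cert_tree lc_d_rc_27_0 lc_d_rc_28_2 lc_d_Cert_tree lc_d_rc_27_0 lc_d_rc_28_2 lc_d_rc_30_2 lc_d_rc_30_2 lc_d_rc_28_2 lc_d_rc_29_2 lc_d_Cert_tree lc_d_rc_29_2 lc_d_rc_20_3 lc_d_rc_31_0 lc_d_rc_28_2 lc_d_rc_29_2 lc_d_rc_30_2 lc_d_Cert_tree lc_d_Cert_tree lc_d_rc_33_2 lc_d_Cert_tree lc_d_rc_27_0 lc_d_Cert_tree lc_d_rc_27_0 lc_d_rc_27_0 lc_d_rc_27_0 lc_d_rc_28_2 lc_d_rc_30_2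 lc_d_Cert_tree lc_d_Cert_tree lc_d_rc_33_2 lc_d_Cert_tree lc_d_rc_27_0) (@D3.rec (fun _ => (Cert rels S Gen.d)) lc_d_Cert_tree lc_d_rc_27_0 lc_d_rc_27_0 lc_d_rc_31_2 lc_d_Cert_tree lc_d_rc_27_0 lc_d_rc_27_0 lc_d_rc_28_2 lc_d_rc_20_1 lc_d_Cert_tree lc_d_rc_27_0 lc_d_rc_20_3 lc_d_Cert_tree lc_d_rc_27_0 lc_d_rc_28_2 lc_d_rc_27_0 lc_d_rc_27_0 lc_d_rc_28_2 lc_d_rc_12_3 lc_d_rc_12_1 lc_d_rc_27_0 lc_d_rc_20_3 lc_d_rc_33_2 lc_d_Cert_tree lc_d_rc_31_2 lc_d_rc_30_2 lc_d_Cert_tree lc_d_rc_3_1 lc_d_rc_3_1 lc_d_rc_33_2 lc_d_Cert_tree lc_d_rc_33_2 lc_d_rc_30_2 lc_d_Cert_tree lc_d_rc_27_0 lc_d_Cert_tree lc_d_rc_27_0 lc_d_rc_3_1 lc_d_rc_12_3 lc_d_Cert_tree lc_d_rc_32_2 lc_d_Cert_tree lc_d_rc_33_2 lc_d_Cert_tree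 lc_d_rc_27_0 lc_d_rc_31_2 lc_d_Cert_tree lc_d_rc_27_0 lc_d_rc_33_2 lc_d_Cert_tree lc_d_rc_27_0) (@D3.rec (fun _ => (Cert rels S Gen.d)) lc_d_rc_33_2 lc_d_rc_33_2 lc_d_Cert_tree lc_d_Cert_tree lc_d_rc_27_0 lc_d_rc_28_2 lc_d_rc_55_30 lc_d_Cert_tree lc_d_rc_27_0 lc_d_rc_20_3 lc_d_rc_27_0 lc_d_rc_32_2 lc_d_Cert_tree lc_d_rc_27_0 lc_d_rc_32_2 lc_d_rc_30_2 lc_d_Cert_tree lc_d_rc_27_0 lc_d_rc_30_2 lc_d_rc_28_2 lc_d_rc_27_0 lc_d_rc_3_1 lc_d_rc_30_2 lc_d_Cert_tree lc_d_rc_27_0 lc_d_rc_30_2 lc_d_Cert_tree lc_d_Cert_tree lc_d_rc_27_0 lc_d_rc_27_0 lc_d_rc_28_2 lc_d_rc_28_2 lc_d_Cert_tree lc_d_rc_27_0 lc_d_rc_20_3 lc_d_rc_33_2 lc_d_Cert_tree lc_d_rc_27_0 lc_d_rc_12_1 lc_d_Cert_tree lc_d_Cert_tree lc_d_rc_27_0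 lc_d_rc_28_2 lc_d_Cert_tree lc_d_rc_27_0 lc_d_rc_31_0 lc_d_Cert_tree lc_d_rc_27_0 lc_d_rc_20_3 lc_d_rc_28_2 lc_d_rc_30_2)
def ce_d_17 : D2 → D3 → (Cert rels S Gen.d) := @D2.rec (fun _ => D3 → (Cert rels S Gen.d)) (@D3.rec (fun _ => (Cert rels S Gen.d)) lc_d_Cert_tree lc_d_rc_27_0 lc_d_rc_20_3 lc_d_rc_28_2 lc_d_rc_12_1 lc_d_rc_27_0 lc_d_rc_3_1 lc_d_rc_30_2 lc_d_Cert_tree lc_d_rc_27_0 lc_d_rc_20_3 lc_d_rc_28_2 lc_d_rc_12_1 lc_d_rc_3_1 lc_d_rc_30_2 lc_d_rc_31_2 lc_d_rc_27_0 lc_d_rc_28_2 lc_d_rc_12_1 lc_d_Cert_tree lc_d_rc_27_0 lc_d_rc_28_2 lc_d_rc_28_0 lc_d_rc_3_3 lc_d_rc_30_2 lc_d_rc_27_0 lc_d_Cert_tree lc_d_Cert_tree lc_d_rc_27_0 lc_d_rc_27_0 lc_d_rc_29_0 lc_d_rc_28_4 lc_d_rc_27_0 lc_d_Cert_tree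 lc_d_rc_27_0 lc_d_rc_28_2 lc_d_rc_27_1 lc_d_rc_27_0 lc_d_rc_28_2 lc_d_rc_30_2 lc_d_rc_31_2 lc_d_rc_3_1 lc_d_rc_27_0 lc_d_rc_27_0 lc_d_rc_27_0 lc_d_rc_12_1 lc_d_rc_27_0 lc_d_rc_32_0 lc_d_rc_27_0 lc_d_rc_28_2 lc_d_rc_30_2) (@D3.rec (fun _ => (Cert rels S Gen.d)) lc_d_rc_33_0 lc_d_rc_12_3 lc_d_rc_20_3 lc_d_rc_28_2 lc_d_rc_28_2 lc_d_rc_28_2 lc_d_rc_28_2 lc_d_rc_12_1 lc_d_Cert_tree lc_d_rc_28_2 lc_d_rc_3_1 lc_d_rc_31_2 lc_d_Cert_tree lc_d_rc_30_2 lc_d_Cert_tree lc_d_rc_27_0 lc_d_Cert_tree lc_d_rc_27_0 lc_d_rc_28_2 lc_d_rc_3_1 lc_d_Cert_tree lc_d_Cert_tree lc_d_rc_27_0 lc_d_Cert_tree lc_d_rc_27_0 lc_d_rc_27_0 lc_d_rc_28_2 lc_d_rc_28_2 lc_d_rc_27_0 lc_d_rc_29_2 lc_d_rc_33_2 lc_d_Cert_tree lc_d_rc_30_2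 lc_d_Cert_tree lc_d_Cert_tree lc_d_rc_12_3 lc_d_Cert_tree lc_d_rc_33_2 lc_d_Cert_tree lc_d_rc_27_0 lc_d_rc_30_2 lc_d_Cert_tree lc_d_rc_27_0 lc_d_rc_27_0 lc_d_rc_12_1 lc_d_Cert_tree lc_d_rc_27_0 lc_d_rc_31_2 lc_d_rc_27_0 lc_d_Cert_tree lc_d_rc_27_0) (@D3.rec (fun _ => (Cert rels S Gen.d)) lc_d_Cert_tree lc_d_rc_27_0 lc_d_Cert_tree lc_d_rc_27_0 lc_d_rc_28_2 lc_d_Cert_tree lc_d_rc_27_0 lc_d_rc_20_3 lc_d_rc_31_0 lc_d_rc_27_0 lc_d_rc_12_3 lc_d_rc_28_2 lc_d_rc_28_2 lc_d_rc_28_2 lc_d_rc_28_2 lc_d_rc_27_0 lc_d_rc_28_2 lc_d_rc_28_2 lc_d_Cert_tree lc_d_Cert_tree lc_d_rc_27_0 lc_d_rc_33_2 lc_d_rc_12_3 lc_d_rc_33_2 lc_d_Cert_tree lc_d_rc_27_0 lc_d_rc_27_0 lc_d_rc_28_2 lc_d_rc_29_2 lc_d_rc_27_0 lc_d_rc_20_3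 lc_d_rc_33_2 lc_d_Cert_tree lc_d_rc_30_2 lc_d_Cert_tree lc_d_rc_30_2 lc_d_rc_20_3 lc_d_Cert_tree lc_d_rc_20_3 lc_d_Cert_tree lc_d_rc_33_2 lc_d_rc_12_1 lc_d_Cert_tree lc_d_rc_27_0 lc_d_Cert_tree lc_d_rc_27_0 lc_d_rc_27_0 lc_d_rc_20_5 lc_d_rc_28_2 lc_d_rc_27_0 lc_d_rc_31_2) (@D3.rec (fun _ => (Cert rels S Gen.d)) lc_d_Cert_tree lc_d_Cert_tree lc_d_rc_31_2 lc_d_Cert_tree lc_d_rc_27_0 lc_d_rc_12_1 lc_d_Cert_tree lc_d_rc_27_0 lc_d_Cert_tree lc_d_rc_27_0 lc_d_rc_28_2 lc_d_rc_27_0 lc_d_rc_20_3 lc_d_rc_33_0 lc_d_rc_12_3 lc_d_rc_27_0 lc_d_rc_20_3 lc_d_rc_28_2 lc_d_rc_30_2 lc_d_rc_20_3 lc_d_rc_28_2 lc_d_Cert_tree lc_d_rc_20_3 lc_d_rc_28_2 lc_d_rc_3_3 lc_d_rc_30_2 lc_d_rc_27_0 lc_d_rc_29_2 lc_d_rc_33_2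 lc_d_Cert_tree lc_d_rc_30_2 lc_d_Cert_tree lc_d_rc_33_2 lc_d_Cert_tree lc_d_rc_29_2 lc_d_rc_33_2 lc_d_rc_30_2 lc_d_Cert_tree lc_d_rc_27_0 lc_d_Cert_tree lc_d_rc_27_0 lc_d_Cert_tree lc_d_rc_29_2 lc_d_rc_33_2 lc_d_Cert_tree lc_d_rc_27_0 lc_d_Cert_tree lc_d_rc_27_0 lc_d_rc_33_2 lc_d_Cert_tree lc_d_rc_27_0) (@D3.rec (fun _ => (Cert rels S Gen.d)) lc_d_rc_33_2 lc_d_Cert_tree lc_d_Cert_tree lc_d_rc_27_0 lc_d_rc_28_2 lc_d_Cert_tree lc_d_rc_27_0 lc_d_rc_20_3 lc_d_rc_27_0 lc_d_rc_28_2 lc_d_rc_27_0 lc_d_rc_20_3 lc_d_rc_27_0 lc_d_rc_30_2 lc_d_rc_28_2 lc_d_Cert_tree lc_d_rc_27_0 lc_d_rc_20_3 lc_d_rc_33_2 lc_d_rc_33_2 lc_d_Cert_tree lc_d_Cert_tree lc_d_rc_27_0 lc_d_rc_28_2 lc_d_rc_27_0 lc_d_rc_20_3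 lc_d_rc_33_2 lc_d_Cert_tree lc_d_rc_33_2 lc_d_rc_30_2 lc_d_Cert_tree lc_d_Cert_tree lc_d_rc_27_0 lc_d_rc_28_2 lc_d_rc_29_0 lc_d_Cert_tree lc_d_Cert_tree lc_d_rc_27_0 lc_d_Cert_tree lc_d_rc_27_0 lc_d_rc_20_3 lc_d_rc_28_2 lc_d_rc_30_2 lc_d_Cert_tree lc_d_rc_27_0 lc_d_rc_20_3 lc_d_rc_28_2 lc_d_rc_12_1 lc_d_rc_27_0 lc_d_rc_28_2 lc_d_rc_27_0) (@D3.rec (fun _ => (Cert rels S Gen.d)) lc_d_rc_28_2 lc_d_rc_30_2 lc_d_rc_27_0 lc_d_rc_20_3 lc_d_rc_28_2 lc_d_rc_30_2 lc_d_rc_31_2 lc_d_rc_28_2 lc_d_Cert_tree lc_d_Cert_tree lc_d_Cert_tree lc_d_rc_27_0 lc_d_Cert_tree lc_d_rc_27_0 lc_d_rc_28_2 lc_d_Cert_tree lc_d_rc_27_0 lc_d_Cert_tree lc_d_rc_27_0 lc_d_rc_28_2 lc_d_rc_27_0 lc_d_rc_29_2 lc_d_rc_28_2 lc_d_rc_28_2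 lc_d_rc_30_2 lc_d_Cert_tree lc_d_Cert_tree lc_d_rc_27_0 lc_d_rc_27_0 lc_d_rc_27_0 lc_d_Cert_tree lc_d_rc_27_0 lc_d_rc_27_0 lc_d_rc_20_3 lc_d_rc_28_2 lc_d_rc_30_2 lc_d_Cert_tree lc_d_Cert_tree lc_d_rc_27_0 lc_d_Cert_tree lc_d_rc_27_0 lc_d_rc_30_2 lc_d_Cert_tree lc_d_Cert_tree lc_d_rc_27_0 lc_d_rc_27_0 lc_d_rc_20_3 lc_d_rc_27_0 lc_d_rc_28_2 lc_d_Cert_tree lc_d_Cert_tree) (@D3.rec (fun _ => (Cert rels S Gen.d)) lc_d_rc_27_0 lc_d_rc_27_0 lc_d_rc_27_0 lc_d_rc_20_3 lc_d_rc_27_0 lc_d_rc_27_0 lc_d_rc_27_0 lc_d_rc_20_3 lc_d_Cert_tree lc_d_rc_27_0 lc_d_rc_20_3 lc_d_rc_28_2 lc_d_rc_12_1 lc_d_rc_28_2 lc_d_rc_27_0 lc_d_rc_28_2 lc_d_Cert_tree lc_d_rc_28_2 lc_d_rc_28_2 lc_d_rc_27_0 lc_d_Cert_tree lc_d_rc_27_0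 lc_d_Cert_tree lc_d_Cert_tree lc_d_rc_27_0 lc_d_rc_27_0 lc_d_Cert_tree lc_d_rc_27_0 lc_d_rc_28_2 lc_d_rc_20_3 lc_d_rc_30_2 lc_d_Cert_tree lc_d_rc_33_2 lc_d_Cert_tree lc_d_rc_27_0 lc_d_Cert_tree lc_d_rc_27_0 lc_d_rc_33_2 lc_d_Cert_tree lc_d_rc_20_3 lc_d_Cert_tree lc_d_rc_27_0 lc_d_rc_27_0 lc_d_rc_20_3 lc_d_Cert_tree lc_d_rc_27_0 lc_d_rc_20_3 lc_d_rc_30_2 lc_d_rc_28_2 lc_d_rc_27_0 lc_d_Cert_tree) (@D3.rec (fun _ => (Cert rels S Gen.d)) lc_d_Cert_tree lc_d_rc_27_0 lc_d_rc_33_2 lc_d_Cert_tree lc_d_rc_33_2 lc_d_Cert_tree lc_d_rc_27_0 lc_d_Cert_tree lc_d_rc_27_0 lc_d_rc_20_3 lc_d_rc_33_2 lc_d_Cert_tree lc_d_rc_27_0 lc_d_rc_33_2 lc_d_Cert_tree lc_d_Cert_tree lc_d_rc_27_0 lc_d_rc_27_0 lc_d_rc_20_3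 lc_d_rc_20_3 lc_d_rc_28_2 lc_d_rc_12_1 lc_d_Cert_tree lc_d_rc_27_0 lc_d_rc_20_3 lc_d_rc_27_0 lc_d_rc_20_3 lc_d_rc_28_2 lc_d_rc_20_3 lc_d_rc_28_2 lc_d_Cert_tree lc_d_rc_20_3 lc_d_rc_28_2 lc_d_rc_32_2 lc_d_rc_27_0 lc_d_rc_31_2 lc_d_Cert_tree lc_d_Cert_tree lc_d_rc_12_1 lc_d_rc_31_2 lc_d_rc_33_2 lc_d_Cert_tree lc_d_rc_27_0 lc_d_rc_31_2 lc_d_Cert_tree lc_d_rc_27_0 lc_d_rc_29_0 lc_d_Cert_tree lc_d_rc_33_2 lc_d_rc_20_1 lc_d_Cert_tree) (@D3.rec (fun _ => (Cert rels S Gen.d)) lc_d_rc_27_0 lc_d_rc_33_2 lc_d_rc_33_2 lc_d_Cert_tree lc_d_rc_20_3 lc_d_Cert_tree lc_d_rc_27_0 lc_d_rc_28_2 lc_d_Cert_tree lc_d_rc_27_0 lc_d_rc_20_3 lc_d_Cert_tree lc_d_rc_20_3 lc_d_Cert_tree lc_d_rc_27_0 lc_d_Cert_tree lc_d_rc_30_2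 lc_d_Cert_tree lc_d_rc_27_0 lc_d_rc_29_0 lc_d_Cert_tree lc_d_rc_27_0 lc_d_rc_20_3 lc_d_Cert_tree lc_d_rc_27_0 lc_d_rc_33_2 lc_d_Cert_tree lc_d_Cert_tree lc_d_rc_27_0 lc_d_Cert_tree lc_d_rc_27_0 lc_d_rc_20_3 lc_d_Cert_tree lc_d_rc_27_0 lc_d_rc_20_3 lc_d_rc_28_2 lc_d_rc_12_1 lc_d_Cert_tree lc_d_rc_27_0 lc_d_Cert_tree lc_d_rc_27_0 lc_d_rc_30_2 lc_d_rc_28_2 lc_d_rc_32_2 lc_d_rc_20_5 lc_d_rc_28_2 lc_d_rc_27_0 lc_d_rc_12_1 lc_d_rc_28_2 lc_d_rc_31_2 lc_d_Cert_tree) (@D3.rec (fun _ => (Cert rels S Gen.d)) lc_d_rc_12_1 lc_d_Cert_tree lc_d_Cert_tree lc_d_rc_12_1 lc_d_Cert_tree lc_d_rc_27_0 lc_d_rc_28_2 lc_d_Cert_tree lc_d_rc_27_0 lc_d_rc_20_3 lc_d_Cert_tree lc_d_rc_33_2 lc_d_Cert_tree lc_d_rc_27_0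 lc_d_rc_33_2 lc_d_rc_33_2 lc_d_Cert_tree lc_d_Cert_tree lc_d_rc_27_0 lc_d_rc_20_1 lc_d_Cert_tree lc_d_rc_27_0 lc_d_rc_20_3 lc_d_rc_28_2 lc_d_Cert_tree lc_d_rc_27_0 lc_d_rc_20_3 lc_d_rc_28_2 lc_d_rc_12_1 lc_d_rc_27_0 lc_d_rc_33_2 lc_d_Cert_tree lc_d_rc_27_0 lc_d_Cert_tree lc_d_rc_27_0 lc_d_rc_20_3 lc_d_rc_28_2 lc_d_rc_33_2 lc_d_rc_3_1 lc_d_Cert_tree lc_d_Cert_tree lc_d_rc_27_0 lc_d_rc_27_0 lc_d_rc_29_2 lc_d_rc_28_2 lc_d_Cert_tree lc_d_rc_27_0 lc_d_rc_20_3 lc_d_rc_28_2 lc_d_rc_12_1 lc_d_rc_20_3) (@D3.rec (fun _ => (Cert rels S Gen.d)) lc_d_rc_30_2 lc_d_rc_27_0 lc_d_rc_20_3 lc_d_rc_28_2 lc_d_rc_12_1 lc_d_Cert_tree lc_d_rc_3_1 lc_d_rc_27_0 lc_d_Cert_tree lc_d_rc_27_0 lc_d_rc_20_3 lc_d_rc_28_2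 lc_d_rc_27_0 lc_d_rc_20_3 lc_d_rc_28_2 lc_d_rc_12_1 lc_d_Cert_tree lc_d_rc_32_2 lc_d_rc_32_2 lc_d_rc_28_2 lc_d_rc_27_0 lc_d_rc_28_2 lc_d_Cert_tree lc_d_rc_30_2 lc_d_rc_32_2 lc_d_rc_28_2 lc_d_Cert_tree lc_d_rc_30_2 lc_d_Cert_tree lc_d_rc_27_0 lc_d_rc_32_2 lc_d_rc_30_2 lc_d_rc_20_3 lc_d_rc_28_2 lc_d_rc_12_1 lc_d_Cert_tree lc_d_rc_12_1 lc_d_rc_3_1 lc_d_Cert_tree lc_d_rc_27_0 lc_d_Cert_tree lc_d_rc_27_0 lc_d_Cert_tree lc_d_rc_27_0 lc_d_rc_29_2 lc_d_rc_33_2 lc_d_rc_28_2 lc_d_Cert_tree lc_d_rc_29_2 lc_d_rc_20_3 lc_d_rc_28_2) (@D3.rec (fun _ => (Cert rels S Gen.d)) lc_d_rc_27_0 lc_d_rc_20_3 lc_d_rc_12_1 lc_d_rc_29_0 lc_d_rc_20_3 lc_d_rc_27_0 lc_d_rc_29_4 lc_d_rc_27_0 lc_d_rc_27_0 lc_d_rc_20_3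 lc_d_rc_20_3 lc_d_rc_27_0 lc_d_rc_27_0 lc_d_rc_20_3 lc_d_Cert_tree lc_d_rc_27_0 lc_d_Cert_tree lc_d_rc_27_0 lc_d_Cert_tree lc_d_rc_27_0 lc_d_rc_20_3 lc_d_rc_27_0 lc_d_rc_20_3 lc_d_rc_12_1 lc_d_rc_27_0 lc_d_rc_27_0 lc_d_rc_28_2 lc_d_Cert_tree lc_d_rc_27_0 lc_d_rc_27_0 lc_d_rc_27_0 lc_d_rc_20_3 lc_d_rc_29_2 lc_d_Cert_tree lc_d_rc_27_0 lc_d_rc_28_2 lc_d_rc_20_3 lc_d_rc_28_2 lc_d_rc_12_1 lc_d_rc_29_2 lc_d_rc_27_0 lc_d_rc_20_3 lc_d_Cert_tree lc_d_rc_27_0 lc_d_rc_28_2 lc_d_rc_20_3 lc_d_rc_30_0 lc_d_Cert_tree lc_d_Cert_tree lc_d_rc_27_0 lc_d_Cert_tree) (@D3.rec (fun _ => (Cert rels S Gen.d)) lc_d_rc_27_0 lc_d_Cert_tree lc_d_rc_27_0 lc_d_rc_33_2 lc_d_Cert_tree lc_d_Cert_tree lc_d_rc_27_0 lc_d_rc_28_2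 lc_d_rc_27_0 lc_d_rc_20_3 lc_d_Cert_tree lc_d_rc_27_0 lc_d_rc_28_2 lc_d_Cert_tree lc_d_rc_27_0 lc_d_rc_27_0 lc_d_rc_20_3 lc_d_rc_28_2 lc_d_rc_30_2 lc_d_rc_20_3 lc_d_rc_12_1 lc_d_rc_32_2 lc_d_rc_27_0 lc_d_rc_30_2 lc_d_rc_30_2 lc_d_rc_28_2 lc_d_rc_27_0 lc_d_rc_28_2 lc_d_rc_31_0 lc_d_rc_27_0 lc_d_rc_28_2 lc_d_rc_30_2 lc_d_rc_27_0 lc_d_rc_20_3 lc_d_rc_28_2 lc_d_rc_30_2 lc_d_rc_28_2 lc_d_rc_30_2 lc_d_rc_12_1 lc_d_rc_31_2 lc_d_rc_28_0 lc_d_Cert_tree lc_d_rc_27_0 lc_d_Cert_tree lc_d_rc_27_0 lc_d_rc_28_2 lc_d_rc_20_3 lc_d_rc_33_2 lc_d_Cert_tree lc_d_rc_27_0 lc_d_rc_27_0) (@D3.rec (fun _ => (Cert rels S Gen.d)) lc_d_rc_33_2 lc_d_Cert_tree lc_d_rc_27_0 lc_d_rc_33_2 lc_d_Cert_tree lc_d_rc_27_0 lc_d_rc_28_2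 lc_d_rc_20_3 lc_d_Cert_tree lc_d_Cert_tree lc_d_rc_27_0 lc_d_rc_28_2 lc_d_Cert_tree lc_d_Cert_tree lc_d_rc_27_0 lc_d_rc_27_0 lc_d_rc_20_3 lc_d_rc_28_2 lc_d_rc_27_0 lc_d_rc_20_3 lc_d_rc_12_1 lc_d_Cert_tree lc_d_rc_27_0 lc_d_rc_28_2 lc_d_rc_27_0 lc_d_rc_20_3 lc_d_Cert_tree lc_d_rc_27_0 lc_d_rc_28_2 lc_d_rc_32_2 lc_d_Cert_tree lc_d_Cert_tree lc_d_rc_27_0 lc_d_rc_27_0 lc_d_rc_20_3 lc_d_rc_28_2 lc_d_rc_30_2 lc_d_rc_20_3 lc_d_rc_12_1 lc_d_Cert_tree lc_d_rc_27_0 lc_d_Cert_tree lc_d_Cert_tree lc_d_rc_27_0 lc_d_Cert_tree lc_d_rc_27_0 lc_d_rc_20_3 lc_d_rc_28_2 lc_d_Cert_tree lc_d_Cert_tree lc_d_rc_27_0) (@D3.rec (fun _ => (Cert rels S Gen.d)) lc_d_rc_27_0 lc_d_rc_29_2 lc_d_rc_28_2 lc_d_Cert_tree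 lc_d_rc_27_0 lc_d_rc_20_3 lc_d_rc_28_2 lc_d_rc_12_1 lc_d_rc_20_3 lc_d_rc_30_2 lc_d_rc_27_0 lc_d_rc_20_3 lc_d_rc_12_1 lc_d_rc_3_1 lc_d_Cert_tree lc_d_rc_27_0 lc_d_rc_27_0 lc_d_rc_28_2 lc_d_rc_31_2 lc_d_rc_27_0 lc_d_rc_28_2 lc_d_rc_27_0 lc_d_rc_28_2 lc_d_rc_29_0 lc_d_rc_27_0 lc_d_rc_28_2 lc_d_rc_30_2 lc_d_rc_31_2 lc_d_rc_27_0 lc_d_rc_28_2 lc_d_rc_28_2 lc_d_rc_29_2 lc_d_rc_27_0 lc_d_rc_27_0 lc_d_rc_27_0 lc_d_rc_28_2 lc_d_rc_20_3 lc_d_rc_30_2 lc_d_rc_28_2 lc_d_rc_30_2 lc_d_rc_33_2 lc_d_Cert_tree lc_d_rc_27_0 lc_d_rc_28_2 lc_d_rc_20_3 lc_d_rc_33_2 lc_d_rc_31_0 lc_d_rc_30_2 lc_d_Cert_tree lc_d_Cert_tree lc_d_rc_27_0) (@D3.rec (fun _ => (Cert rels S Gen.d)) lc_d_rc_27_0 lc_d_rc_20_3 lc_d_rc_28_2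 lc_d_rc_30_2 lc_d_rc_20_3 lc_d_rc_12_1 lc_d_rc_28_2 lc_d_rc_30_2 lc_d_rc_31_2 lc_d_rc_27_0 lc_d_rc_28_2 lc_d_rc_30_2 lc_d_rc_12_3 lc_d_Cert_tree lc_d_rc_27_0 lc_d_rc_28_2 lc_d_rc_20_3 lc_d_rc_27_0 lc_d_rc_29_4 lc_d_rc_20_3 lc_d_rc_28_2 lc_d_rc_30_2 lc_d_rc_12_1 lc_d_rc_27_0 lc_d_rc_28_2 lc_d_Cert_tree lc_d_rc_27_0 lc_d_rc_20_3 lc_d_rc_28_2 lc_d_rc_30_2 lc_d_rc_12_1 lc_d_rc_30_2 lc_d_rc_27_0 lc_d_rc_28_2 lc_d_rc_27_0 lc_d_rc_20_3 lc_d_rc_27_0 lc_d_rc_28_2 lc_d_rc_20_3 lc_d_rc_28_2 lc_d_rc_12_1 lc_d_rc_27_0 lc_d_rc_28_2 lc_d_rc_27_0 lc_d_rc_27_0 lc_d_rc_20_3 lc_d_rc_28_2 lc_d_rc_30_2 lc_d_rc_27_0 lc_d_rc_29_2 lc_d_rc_28_2) (@D3.rec (fun _ => (Cert rels S Gen.d)) lc_d_rc_27_0 lc_d_rc_20_3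 lc_d_rc_28_2 lc_d_rc_12_1 lc_d_rc_20_3 lc_d_rc_30_2 lc_d_rc_31_2 lc_d_rc_20_3 lc_d_rc_12_1 lc_d_rc_3_1 lc_d_rc_28_2 lc_d_rc_28_2 lc_d_Cert_tree lc_d_rc_27_0 lc_d_rc_20_3 lc_d_rc_12_1 lc_d_rc_32_0 lc_d_rc_27_0 lc_d_rc_20_3 lc_d_rc_20_3 lc_d_rc_12_1 lc_d_Cert_tree lc_d_rc_27_0 lc_d_Cert_tree lc_d_rc_27_0 lc_d_rc_20_3 lc_d_Cert_tree lc_d_rc_27_0 lc_d_Cert_tree lc_d_rc_27_0 lc_d_rc_27_0 lc_d_rc_20_3 lc_d_rc_27_0 lc_d_rc_20_3 lc_d_rc_12_1 lc_d_Cert_tree lc_d_rc_27_0 lc_d_rc_27_0 lc_d_rc_20_3 lc_d_rc_27_0 lc_d_rc_29_2 lc_d_rc_20_3 lc_d_rc_28_2 lc_d_rc_12_1 lc_d_rc_12_1 lc_d_rc_3_1 lc_d_rc_27_0 lc_d_rc_28_2 lc_d_rc_28_2 lc_d_rc_27_0 lc_d_rc_28_2) (@D3.rec (fun _ => (Cert rels S Gen.d)) lc_d_rc_20_3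 lc_d_rc_20_3 lc_d_rc_12_1 lc_d_rc_27_0 lc_d_rc_27_0 lc_d_rc_20_3 lc_d_rc_27_0 lc_d_rc_20_3 lc_d_rc_12_1 lc_d_rc_27_0 lc_d_rc_27_0 lc_d_rc_20_3 lc_d_rc_27_0 lc_d_rc_20_3 lc_d_rc_12_1 lc_d_rc_3_1 lc_d_Cert_tree lc_d_rc_27_0 lc_d_Cert_tree lc_d_rc_27_0 lc_d_rc_20_3 lc_d_rc_28_2 lc_d_Cert_tree lc_d_rc_27_0 lc_d_rc_20_3 lc_d_rc_28_2 lc_d_rc_12_1 lc_d_Cert_tree lc_d_rc_27_0 lc_d_rc_27_0 lc_d_rc_20_3 lc_d_rc_27_0 lc_d_rc_27_0 lc_d_rc_20_3 lc_d_rc_12_1 lc_d_rc_27_0 lc_d_Cert_tree lc_d_Cert_tree lc_d_rc_27_0 lc_d_rc_27_0 lc_d_rc_20_3 lc_d_rc_33_2 lc_d_Cert_tree lc_d_Cert_tree lc_d_rc_27_0 lc_d_rc_27_0 lc_d_rc_29_2 lc_d_Cert_tree lc_d_rc_27_0 lc_d_rc_20_3 lc_d_rc_28_2) (@D3.rec (fun _ => (Cert rels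 S Gen.d)) lc_d_rc_12_1 lc_d_rc_27_0 lc_d_rc_20_3 lc_d_rc_12_1 lc_d_rc_3_1 lc_d_rc_30_0 lc_d_rc_31_2 lc_d_rc_28_2 lc_d_rc_27_0 lc_d_rc_28_2 lc_d_rc_27_0 lc_d_rc_20_3 lc_d_rc_27_0 lc_d_rc_20_3 lc_d_rc_28_2 lc_d_rc_12_1 lc_d_rc_27_0 lc_d_rc_20_3 lc_d_rc_20_3 lc_d_rc_20_3 lc_d_rc_28_2 lc_d_rc_12_1 lc_d_rc_20_3 lc_d_rc_30_2 lc_d_rc_31_2 lc_d_rc_27_0 lc_d_rc_31_2 lc_d_rc_12_1 lc_d_rc_3_1 lc_d_rc_27_0 lc_d_rc_3_1 lc_d_rc_27_0 lc_d_rc_20_3 lc_d_rc_28_2 lc_d_rc_12_1 lc_d_Cert_tree lc_d_rc_27_0 lc_d_rc_27_0 lc_d_rc_20_3 lc_d_rc_28_2 lc_d_rc_31_2 lc_d_rc_12_1 lc_d_rc_27_0 lc_d_rc_20_3 lc_d_rc_28_2 lc_d_rc_12_1 lc_d_rc_20_3 lc_d_rc_30_2 lc_d_rc_3_1 lc_d_rc_12_1 lc_d_rc_20_3) (@D3.rec (fun _ => (Cert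 rels S Gen.d)) lc_d_rc_20_3 lc_d_rc_12_1 lc_d_rc_3_1 lc_d_rc_32_2 lc_d_rc_28_2 lc_d_rc_28_2 lc_d_rc_31_2 lc_d_rc_28_2 lc_d_rc_28_4 lc_d_rc_28_2 lc_d_rc_27_0 lc_d_rc_28_2 lc_d_rc_27_0 lc_d_rc_28_2 lc_d_rc_29_0 lc_d_rc_27_0 lc_d_rc_28_2 lc_d_rc_27_0 lc_d_rc_28_2 lc_d_rc_27_0 lc_d_rc_28_2 lc_d_rc_28_2 lc_d_rc_29_0 lc_d_rc_29_0 lc_d_Cert_tree lc_d_rc_27_0 lc_d_rc_27_0 lc_d_Cert_tree lc_d_rc_27_0 lc_d_Cert_tree lc_d_rc_27_0 lc_d_rc_27_0 lc_d_rc_20_3 lc_d_rc_30_2 lc_d_rc_33_0 lc_d_rc_28_2 lc_d_Cert_tree lc_d_rc_27_0 lc_d_rc_20_3 lc_d_rc_27_0 lc_d_rc_27_0 lc_d_rc_20_3 lc_d_rc_27_0 lc_d_rc_28_2 lc_d_rc_29_4 lc_d_rc_20_3 lc_d_Cert_tree lc_d_rc_27_0 lc_d_rc_29_4 lc_d_rc_28_2 lc_d_rc_12_1) (@D3.rec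 (fun _ => (Cert rels S Gen.d)) lc_d_rc_28_2 lc_d_rc_12_1 lc_d_Cert_tree lc_d_rc_28_2 lc_d_rc_27_0 lc_d_rc_30_2 lc_d_Cert_tree lc_d_rc_30_2 lc_d_Cert_tree lc_d_rc_33_2 lc_d_rc_33_2 lc_d_Cert_tree lc_d_rc_27_0 lc_d_Cert_tree lc_d_rc_27_0 lc_d_Cert_tree lc_d_rc_33_2 lc_d_Cert_tree lc_d_rc_27_0 lc_d_rc_29_0 lc_d_Cert_tree lc_d_rc_27_0 lc_d_rc_33_2 lc_d_Cert_tree lc_d_rc_27_0 lc_d_rc_28_2 lc_d_rc_27_0 lc_d_rc_20_3 lc_d_rc_32_2 lc_d_Cert_tree lc_d_rc_27_0 lc_d_rc_32_2 lc_d_rc_30_2 lc_d_rc_30_2 lc_d_rc_28_2 lc_d_rc_27_0 lc_d_Cert_tree lc_d_rc_27_0 lc_d_rc_28_2 lc_d_Cert_tree lc_d_rc_27_0 lc_d_rc_20_3 lc_d_rc_30_2 lc_d_Cert_tree lc_d_rc_27_0 lc_d_rc_28_2 lc_d_rc_33_2 lc_d_Cert_tree lc_d_Cert_tree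 lc_d_rc_27_0 lc_d_rc_27_0) (@D3.rec (fun _ => (Cert rels S Gen.d)) lc_d_rc_20_3 lc_d_rc_28_2 lc_d_rc_30_2 lc_d_rc_20_3 lc_d_rc_28_2 lc_d_rc_12_1 lc_d_rc_27_0 lc_d_rc_20_3 lc_d_rc_28_2 lc_d_rc_30_2 lc_d_rc_27_0 lc_d_rc_20_3 lc_d_rc_28_2 lc_d_rc_20_3 lc_d_rc_28_2 lc_d_rc_30_2 lc_d_rc_31_2 lc_d_Cert_tree lc_d_rc_20_3 lc_d_rc_28_2 lc_d_rc_29_0 lc_d_Cert_tree lc_d_rc_27_0 lc_d_rc_29_0 lc_d_Cert_tree lc_d_rc_27_0 lc_d_rc_28_2 lc_d_rc_27_0 lc_d_rc_28_2 lc_d_rc_30_2 lc_d_rc_31_2 lc_d_Cert_tree lc_d_rc_27_0 lc_d_rc_30_2 lc_d_Cert_tree lc_d_rc_31_0 lc_d_Cert_tree lc_d_Cert_tree lc_d_rc_27_0 lc_d_rc_27_0 lc_d_Cert_tree lc_d_rc_27_0 lc_d_rc_28_2 lc_d_rc_27_0 lc_d_rc_20_3 lc_d_rc_28_2 lc_d_Cert_tree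 lc_d_rc_27_0 lc_d_rc_27_0 lc_d_Cert_tree lc_d_rc_27_0) (@D3.rec (fun _ => (Cert rels S Gen.d)) lc_d_rc_28_2 lc_d_rc_27_0 lc_d_rc_20_3 lc_d_rc_28_2 lc_d_Cert_tree lc_d_rc_27_0 lc_d_rc_20_3 lc_d_rc_20_3 lc_d_rc_28_2 lc_d_Cert_tree lc_d_rc_27_0 lc_d_rc_20_3 lc_d_rc_28_2 lc_d_rc_12_1 lc_d_rc_27_0 lc_d_rc_28_2 lc_d_rc_28_2 lc_d_rc_20_1 lc_d_Cert_tree lc_d_rc_33_2 lc_d_rc_20_3 lc_d_Cert_tree lc_d_rc_27_0 lc_d_rc_31_2 lc_d_Cert_tree lc_d_rc_27_0 lc_d_rc_3_1 lc_d_Cert_tree lc_d_Cert_tree lc_d_rc_27_0 lc_d_Cert_tree lc_d_Cert_tree lc_d_rc_27_0 lc_d_rc_28_2 lc_d_rc_27_0 lc_d_rc_20_3 lc_d_rc_29_0 lc_d_Cert_tree lc_d_rc_27_0 lc_d_Cert_tree lc_d_rc_27_0 lc_d_Cert_tree lc_d_rc_27_0 lc_d_rc_28_2 lc_d_Cert_tree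 lc_d_rc_27_0 lc_d_rc_20_3 lc_d_Cert_tree lc_d_rc_27_0 lc_d_rc_28_2 lc_d_Cert_tree) (@D3.rec (fun _ => (Cert rels S Gen.d)) lc_d_Cert_tree lc_d_rc_27_0 lc_d_rc_27_0 lc_d_rc_20_3 lc_d_rc_28_2 lc_d_rc_30_2 lc_d_Cert_tree lc_d_rc_27_0 lc_d_rc_20_3 lc_d_rc_28_2 lc_d_rc_12_1 lc_d_rc_28_0 lc_d_rc_27_0 lc_d_rc_32_2 lc_d_rc_28_2 lc_d_rc_27_0 lc_d_rc_28_2 lc_d_Cert_tree lc_d_rc_20_1 lc_d_Cert_tree lc_d_rc_27_0 lc_d_rc_20_3 lc_d_Cert_tree lc_d_rc_27_0 lc_d_rc_27_0 lc_d_rc_28_2 lc_d_rc_20_3 lc_d_rc_28_2 lc_d_rc_30_2 lc_d_Cert_tree lc_d_rc_27_0 lc_d_rc_20_3 lc_d_rc_28_2 lc_d_rc_12_1 lc_d_Cert_tree lc_d_rc_27_0 lc_d_rc_28_2 lc_d_Cert_tree lc_d_rc_27_0 lc_d_rc_27_0 lc_d_rc_20_3 lc_d_rc_28_2 lc_d_rc_30_2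 lc_d_rc_27_0 lc_d_rc_29_2 lc_d_rc_28_2 lc_d_Cert_tree lc_d_rc_27_0 lc_d_rc_20_3 lc_d_rc_12_1 lc_d_rc_20_3) (@D3.rec (fun _ => (Cert rels S Gen.d)) lc_d_rc_30_2 lc_d_rc_31_2 lc_d_rc_27_0 lc_d_rc_20_3 lc_d_rc_28_2 lc_d_rc_12_1 lc_d_Cert_tree lc_d_rc_3_1 lc_d_rc_28_0 lc_d_rc_31_2 lc_d_rc_27_0 lc_d_rc_28_2 lc_d_rc_20_1 lc_d_Cert_tree lc_d_rc_28_2 lc_d_Cert_tree lc_d_rc_27_0 lc_d_rc_28_2 lc_d_rc_3_1 lc_d_rc_12_1 lc_d_rc_55_48 lc_d_rc_27_0 lc_d_rc_27_0 lc_d_rc_29_2 lc_d_rc_27_0 lc_d_rc_28_2 lc_d_rc_28_2 lc_d_rc_29_2 lc_d_rc_31_2 lc_d_Cert_tree lc_d_rc_27_0 lc_d_Cert_tree lc_d_Cert_tree lc_d_rc_27_0 lc_d_Cert_tree lc_d_rc_27_0 lc_d_rc_27_0 lc_d_Cert_tree lc_d_rc_27_0 lc_d_rc_27_0 lc_d_rc_28_2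 lc_d_rc_27_0 lc_d_rc_20_3 lc_d_rc_28_2 lc_d_rc_33_2 lc_d_rc_30_2 lc_d_Cert_tree lc_d_rc_27_0 lc_d_Cert_tree lc_d_rc_27_0 lc_d_rc_27_0) (@D3.rec (fun _ => (Cert rels S Gen.d)) lc_d_Cert_tree lc_d_rc_27_0 lc_d_Cert_tree lc_d_rc_27_0 lc_d_rc_28_2 lc_d_Cert_tree lc_d_rc_27_0 lc_d_rc_20_3 lc_d_rc_12_1 lc_d_rc_27_0 lc_d_rc_20_3 lc_d_rc_28_2 lc_d_rc_27_0 lc_d_rc_30_2 lc_d_rc_27_0 lc_d_rc_28_2 lc_d_rc_27_0 lc_d_rc_20_3 lc_d_rc_28_2 lc_d_rc_30_2 lc_d_rc_27_0 lc_d_rc_29_4 lc_d_rc_28_2 lc_d_rc_12_1 lc_d_rc_28_2 lc_d_Cert_tree lc_d_rc_28_2 lc_d_rc_27_0 lc_d_rc_27_0 lc_d_rc_33_2 lc_d_Cert_tree lc_d_Cert_tree lc_d_rc_27_0 lc_d_rc_28_2 lc_d_rc_20_3 lc_d_Cert_tree lc_d_rc_33_2 lc_d_rc_20_3 lc_d_Cert_tree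 lc_d_rc_27_0 lc_d_Cert_tree lc_d_rc_27_0 lc_d_Cert_tree lc_d_rc_27_0 lc_d_Cert_tree lc_d_rc_27_0 lc_d_Cert_tree lc_d_Cert_tree lc_d_rc_27_0 lc_d_rc_28_2 lc_d_rc_27_0) (@D3.rec (fun _ => (Cert rels S Gen.d)) lc_d_rc_20_3 lc_d_rc_31_2 lc_d_rc_31_2 lc_d_rc_28_2 lc_d_rc_27_0 lc_d_rc_27_0 lc_d_Cert_tree lc_d_rc_27_0 lc_d_rc_20_3 lc_d_rc_27_0 lc_d_rc_20_3 lc_d_rc_28_2 lc_d_rc_27_0 lc_d_rc_20_3 lc_d_rc_28_2 lc_d_rc_30_2 lc_d_rc_20_3 lc_d_rc_28_2 lc_d_rc_12_1 lc_d_rc_30_2 lc_d_rc_20_3 lc_d_rc_28_2 lc_d_rc_30_2 lc_d_Cert_tree lc_d_rc_27_0 lc_d_rc_29_0 lc_d_rc_12_1 lc_d_rc_33_2 lc_d_rc_33_2 lc_d_Cert_tree lc_d_rc_27_0 lc_d_Cert_tree lc_d_rc_27_0 lc_d_Cert_tree lc_d_rc_27_0 lc_d_rc_33_2 lc_d_Cert_tree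 lc_d_Cert_tree lc_d_rc_27_0 lc_d_rc_28_2 lc_d_rc_27_0 lc_d_rc_20_3 lc_d_rc_27_0 lc_d_rc_33_2 lc_d_Cert_tree lc_d_rc_27_0 lc_d_rc_28_2 lc_d_rc_27_0 lc_d_rc_20_3 lc_d_Cert_tree lc_d_rc_27_0)
def ce_d_18 : D2 → D3 → (Cert rels S Gen.d) := @D2.rec (fun _ => D3 → (Cert rels S Gen.d)) (@D3.rec (fun _ => (Cert rels S Gen.d)) lc_d_rc_28_2 lc_d_Cert_tree lc_d_rc_27_0 lc_d_rc_27_0 lc_d_rc_20_3 lc_d_rc_28_2 lc_d_rc_30_2 lc_d_rc_27_0 lc_d_rc_20_3 lc_d_rc_28_2 lc_d_rc_12_1 lc_d_rc_28_2 lc_d_rc_30_2 lc_d_rc_28_2 lc_d_rc_28_2 lc_d_Cert_tree lc_d_rc_27_0 lc_d_rc_31_2 lc_d_rc_20_3 lc_d_Cert_tree lc_d_Cert_tree lc_d_rc_27_0 lc_d_rc_27_0 lc_d_rc_20_3 lc_d_rc_28_2 lc_d_rc_20_3 lc_d_rc_28_2 lc_d_rc_12_1 lc_d_Cert_tree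 lc_d_rc_27_0 lc_d_Cert_tree lc_d_Cert_tree lc_d_rc_27_0 lc_d_rc_27_0 lc_d_rc_31_0 lc_d_rc_28_2 lc_d_rc_30_2 lc_d_Cert_tree lc_d_rc_27_0 lc_d_rc_27_0 lc_d_rc_29_2 lc_d_rc_28_2 lc_d_rc_27_0 lc_d_rc_20_3 lc_d_rc_28_2 lc_d_rc_12_1 lc_d_rc_20_3 lc_d_rc_30_2 lc_d_rc_31_2 lc_d_rc_27_0 lc_d_rc_20_3) (@D3.rec (fun _ => (Cert rels S Gen.d)) lc_d_rc_28_2 lc_d_rc_12_1 lc_d_Cert_tree lc_d_rc_3_1 lc_d_rc_28_2 lc_d_rc_28_2 lc_d_rc_30_2 lc_d_rc_28_2 lc_d_Cert_tree lc_d_rc_30_2 lc_d_rc_27_0 lc_d_rc_27_0 lc_d_rc_27_0 lc_d_rc_29_2 lc_d_rc_27_0 lc_d_rc_28_2 lc_d_rc_27_0 lc_d_rc_27_0 lc_d_rc_28_2 lc_d_rc_33_2 lc_d_rc_28_2 lc_d_Cert_tree lc_d_rc_29_2 lc_d_rc_30_2 lc_d_rc_27_0 lc_d_rc_27_0 lc_d_rc_28_2 lc_d_rc_20_3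 lc_d_rc_27_0 lc_d_rc_20_3 lc_d_rc_20_3 lc_d_rc_28_2 lc_d_rc_12_1 lc_d_Cert_tree lc_d_rc_27_0 lc_d_rc_27_0 lc_d_rc_28_2 lc_d_rc_27_0 lc_d_rc_20_3 lc_d_Cert_tree lc_d_rc_27_0 lc_d_rc_27_0 lc_d_rc_20_3 lc_d_rc_20_3 lc_d_rc_28_2 lc_d_rc_12_1 lc_d_rc_28_2 lc_d_rc_27_0 lc_d_rc_27_0 lc_d_rc_20_3 lc_d_rc_20_3) (@D3.rec (fun _ => (Cert rels S Gen.d)) lc_d_rc_29_2 lc_d_rc_28_2 lc_d_rc_12_1 lc_d_rc_20_3 lc_d_rc_29_2 lc_d_rc_20_3 lc_d_rc_12_1 lc_d_rc_27_0 lc_d_rc_20_3 lc_d_rc_28_2 lc_d_rc_12_1 lc_d_Cert_tree lc_d_rc_3_1 lc_d_rc_28_2 lc_d_rc_27_0 lc_d_rc_30_2 lc_d_rc_29_2 lc_d_rc_27_0 lc_d_rc_20_3 lc_d_rc_27_0 lc_d_rc_27_0 lc_d_rc_28_2 lc_d_rc_20_3 lc_d_rc_27_0 lc_d_rc_20_3 lc_d_rc_28_2 lc_d_rc_12_1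 lc_d_Cert_tree lc_d_rc_27_0 lc_d_Cert_tree lc_d_rc_27_0 lc_d_rc_28_2 lc_d_rc_27_0 lc_d_rc_20_3 lc_d_Cert_tree lc_d_rc_27_0 lc_d_Cert_tree lc_d_rc_27_0 lc_d_rc_20_3 lc_d_rc_20_3 lc_d_rc_28_2 lc_d_rc_12_1 lc_d_rc_27_0 lc_d_rc_30_2 lc_d_rc_28_2 lc_d_Cert_tree lc_d_Cert_tree lc_d_rc_27_0 lc_d_rc_27_0 lc_d_rc_20_3 lc_d_Cert_tree) (@D3.rec (fun _ => (Cert rels S Gen.d)) lc_d_rc_27_0 lc_d_Cert_tree lc_d_rc_27_0 lc_d_rc_20_3 lc_d_rc_27_0 lc_d_rc_20_3 lc_d_rc_28_2 lc_d_rc_12_1 lc_d_Cert_tree lc_d_rc_27_0 lc_d_rc_20_3 lc_d_Cert_tree lc_d_rc_27_0 lc_d_rc_27_0 lc_d_rc_20_3 lc_d_rc_20_3 lc_d_rc_28_2 lc_d_rc_12_1 lc_d_rc_12_1 lc_d_Cert_tree lc_d_rc_3_1 lc_d_rc_27_0 lc_d_rc_20_3 lc_d_rc_28_2 lc_d_rc_20_3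 lc_d_rc_28_2 lc_d_Cert_tree lc_d_Cert_tree lc_d_rc_27_0 lc_d_rc_31_2 lc_d_rc_12_1 lc_d_rc_29_2 lc_d_rc_27_0 lc_d_rc_27_0 lc_d_Cert_tree lc_d_Cert_tree lc_d_rc_27_0 lc_d_Cert_tree lc_d_rc_27_0 lc_d_rc_20_3 lc_d_Cert_tree lc_d_rc_27_0 lc_d_Cert_tree lc_d_Cert_tree lc_d_rc_27_0 lc_d_rc_20_3 lc_d_rc_28_2 lc_d_Cert_tree lc_d_Cert_tree lc_d_rc_27_0 lc_d_Cert_tree) (@D3.rec (fun _ => (Cert rels S Gen.d)) lc_d_rc_27_0 lc_d_rc_20_3 lc_d_rc_28_2 lc_d_rc_30_2 lc_d_rc_27_0 lc_d_rc_20_3 lc_d_rc_29_2 lc_d_rc_12_1 lc_d_rc_27_0 lc_d_Cert_tree lc_d_rc_27_0 lc_d_rc_20_3 lc_d_rc_27_0 lc_d_Cert_tree lc_d_rc_27_0 lc_d_rc_20_3 lc_d_Cert_tree lc_d_rc_27_0 lc_d_rc_20_3 lc_d_rc_28_2 lc_d_rc_12_1 lc_d_rc_27_0 lc_d_rc_20_3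 lc_d_Cert_tree lc_d_rc_27_0 lc_d_rc_27_0 lc_d_rc_29_2 lc_d_rc_27_0 lc_d_rc_20_3 lc_d_rc_28_2 lc_d_rc_12_1 lc_d_rc_27_0 lc_d_rc_20_3 lc_d_rc_28_2 lc_d_rc_12_1 lc_d_Cert_tree lc_d_rc_3_1 lc_d_rc_27_0 lc_d_rc_27_0 lc_d_rc_31_2 lc_d_rc_28_2 lc_d_rc_32_2 lc_d_Cert_tree lc_d_rc_12_1 lc_d_rc_28_2 lc_d_Cert_tree lc_d_Cert_tree lc_d_rc_27_0 lc_d_rc_27_0 lc_d_rc_27_0 lc_d_Cert_tree) (@D3.rec (fun _ => (Cert rels S Gen.d)) lc_d_rc_27_0 lc_d_rc_20_3 lc_d_rc_28_2 lc_d_rc_30_2 lc_d_rc_27_0 lc_d_rc_20_3 lc_d_rc_28_2 lc_d_rc_12_1 lc_d_rc_27_0 lc_d_rc_27_0 lc_d_rc_20_3 lc_d_Cert_tree lc_d_Cert_tree lc_d_rc_27_0 lc_d_rc_27_0 lc_d_rc_29_2 lc_d_Cert_tree lc_d_rc_27_0 lc_d_rc_20_3 lc_d_rc_28_2 lc_d_rc_12_1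 lc_d_rc_20_3 lc_d_rc_27_0 lc_d_rc_20_3 lc_d_rc_28_2 lc_d_rc_12_1 lc_d_Cert_tree lc_d_rc_3_1 lc_d_rc_3_1 lc_d_Cert_tree lc_d_rc_27_0 lc_d_rc_20_3 lc_d_rc_27_0 lc_d_rc_20_3 lc_d_rc_28_2 lc_d_rc_12_1 lc_d_rc_20_3 lc_d_Cert_tree lc_d_Cert_tree lc_d_rc_27_0 lc_d_rc_27_0 lc_d_rc_29_2 lc_d_rc_28_2 lc_d_rc_29_0 lc_d_rc_28_2 lc_d_rc_12_1 lc_d_Cert_tree lc_d_rc_29_2 lc_d_rc_27_0 lc_d_rc_20_3 lc_d_rc_28_2) (@D3.rec (fun _ => (Cert rels S Gen.d)) lc_d_rc_12_1 lc_d_Cert_tree lc_d_rc_30_2 lc_d_rc_3_1 lc_d_rc_12_1 lc_d_rc_20_3 lc_d_rc_20_3 lc_d_rc_28_2 lc_d_rc_12_1 lc_d_Cert_tree lc_d_rc_3_1 lc_d_Cert_tree lc_d_rc_27_0 lc_d_rc_28_2 lc_d_rc_27_0 lc_d_rc_20_3 lc_d_rc_28_2 lc_d_Cert_tree lc_d_rc_32_2 lc_d_rc_28_2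 lc_d_rc_31_2 lc_d_Cert_tree lc_d_rc_30_2 lc_d_rc_32_2 lc_d_Cert_tree lc_d_rc_27_0 lc_d_rc_28_2 lc_d_rc_30_2 lc_d_rc_27_0 lc_d_Cert_tree lc_d_rc_27_0 lc_d_Cert_tree lc_d_rc_27_0 lc_d_rc_29_2 lc_d_rc_32_2 lc_d_rc_31_2 lc_d_rc_3_1 lc_d_Cert_tree lc_d_rc_27_0 lc_d_rc_31_2 lc_d_Cert_tree lc_d_rc_27_0 lc_d_rc_29_2 lc_d_rc_27_0 lc_d_rc_29_2 lc_d_rc_27_0 lc_d_rc_31_2 lc_d_rc_12_1 lc_d_rc_33_2 lc_d_Cert_tree lc_d_rc_27_0) (@D3.rec (fun _ => (Cert rels S Gen.d)) lc_d_rc_30_2 lc_d_rc_3_1 lc_d_rc_31_0 lc_d_rc_32_2 lc_d_rc_29_0 lc_d_rc_30_2 lc_d_rc_55_60 lc_d_rc_20_3 lc_d_rc_20_3 lc_d_rc_12_1 lc_d_rc_12_1 lc_d_rc_29_4 lc_d_rc_20_3 lc_d_rc_12_1 lc_d_rc_27_0 lc_d_rc_20_3 lc_d_rc_27_0 lc_d_rc_29_2 lc_d_rc_27_0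 lc_d_rc_20_3 lc_d_rc_28_2 lc_d_rc_12_1 lc_d_rc_20_3 lc_d_rc_12_1 lc_d_rc_3_1 lc_d_rc_28_2 lc_d_rc_28_2 lc_d_rc_27_0 lc_d_rc_28_2 lc_d_rc_20_3 lc_d_rc_29_4 lc_d_rc_12_1 lc_d_rc_33_0 lc_d_rc_27_0 lc_d_rc_20_3 lc_d_rc_28_2 lc_d_rc_12_1 lc_d_rc_20_3 lc_d_rc_3_1 lc_d_rc_20_3 lc_d_rc_12_1 lc_d_rc_27_0 lc_d_rc_20_3 lc_d_rc_28_2 lc_d_rc_12_1 lc_d_Cert_tree lc_d_rc_27_0 lc_d_rc_27_0 lc_d_rc_28_2 lc_d_rc_27_0 lc_d_rc_20_3) (@D3.rec (fun _ => (Cert rels S Gen.d)) lc_d_rc_27_0 lc_d_rc_28_2 lc_d_Cert_tree lc_d_rc_27_0 lc_d_rc_27_0 lc_d_rc_20_3 lc_d_rc_28_2 lc_d_rc_30_2 lc_d_rc_20_3 lc_d_rc_12_1 lc_d_rc_27_0 lc_d_rc_20_3 lc_d_rc_28_2 lc_d_rc_30_2 lc_d_rc_27_0 lc_d_rc_31_2 lc_d_rc_28_2 lc_d_rc_20_3 lc_d_rc_28_2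 lc_d_rc_12_1 lc_d_rc_20_3 lc_d_rc_30_2 lc_d_rc_12_1 lc_d_rc_3_1 lc_d_rc_32_2 lc_d_rc_28_2 lc_d_rc_31_2 lc_d_rc_28_2 lc_d_rc_29_0 lc_d_rc_3_1 lc_d_rc_28_2 lc_d_rc_30_2 lc_d_rc_31_2 lc_d_rc_20_3 lc_d_rc_28_2 lc_d_rc_20_3 lc_d_rc_30_2 lc_d_rc_29_2 lc_d_rc_27_0 lc_d_rc_20_3 lc_d_rc_28_2 lc_d_rc_27_0 lc_d_rc_20_3 lc_d_rc_28_2 lc_d_rc_12_1 lc_d_Cert_tree lc_d_rc_27_0 lc_d_rc_28_2 lc_d_rc_20_3 lc_d_Cert_tree lc_d_rc_27_0) (@D3.rec (fun _ => (Cert rels S Gen.d)) lc_d_rc_28_2 lc_d_Cert_tree lc_d_rc_27_0 lc_d_rc_20_3 lc_d_rc_28_2 lc_d_rc_12_1 lc_d_rc_27_0 lc_d_rc_27_0 lc_d_rc_20_3 lc_d_rc_28_2 lc_d_rc_27_0 lc_d_rc_27_0 lc_d_rc_29_2 lc_d_rc_29_2 lc_d_rc_20_3 lc_d_rc_12_1 lc_d_rc_20_3 lc_d_rc_20_3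 lc_d_rc_12_1 lc_d_rc_3_1 lc_d_rc_27_0 lc_d_rc_20_3 lc_d_rc_28_2 lc_d_rc_30_2 lc_d_rc_20_3 lc_d_rc_28_2 lc_d_rc_12_1 lc_d_rc_27_0 lc_d_rc_20_3 lc_d_rc_28_2 lc_d_Cert_tree lc_d_rc_27_0 lc_d_rc_27_0 lc_d_rc_29_2 lc_d_rc_28_2 lc_d_rc_20_3 lc_d_rc_28_2 lc_d_rc_12_1 lc_d_rc_31_0 lc_d_rc_30_2 lc_d_rc_31_2 lc_d_rc_12_1 lc_d_rc_3_1 lc_d_rc_27_0 lc_d_rc_3_1 lc_d_rc_27_0 lc_d_rc_27_0 lc_d_rc_29_4 lc_d_rc_28_2 lc_d_rc_27_0 lc_d_rc_20_3) (@D3.rec (fun _ => (Cert rels S Gen.d)) lc_d_rc_28_2 lc_d_rc_12_1 lc_d_rc_20_3 lc_d_rc_27_0 lc_d_rc_27_0 lc_d_rc_29_2 lc_d_rc_28_2 lc_d_rc_20_3 lc_d_rc_28_2 lc_d_rc_12_1 lc_d_rc_29_4 lc_d_rc_29_2 lc_d_rc_27_0 lc_d_rc_20_3 lc_d_rc_28_2 lc_d_rc_12_1 lc_d_rc_20_3 lc_d_rc_3_1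 lc_d_rc_12_1 lc_d_rc_20_3 lc_d_rc_20_3 lc_d_rc_12_1 lc_d_rc_3_1 lc_d_rc_27_0 lc_d_rc_28_2 lc_d_rc_3_1 lc_d_rc_28_2 lc_d_rc_28_2 lc_d_rc_29_2 lc_d_rc_31_2 lc_d_rc_28_2 lc_d_rc_30_2 lc_d_rc_20_3 lc_d_rc_33_2 lc_d_rc_20_3 lc_d_rc_28_2 lc_d_rc_30_2 lc_d_rc_12_1 lc_d_Cert_tree lc_d_rc_27_0 lc_d_rc_20_3 lc_d_rc_28_2 lc_d_rc_30_2 lc_d_rc_12_1 lc_d_rc_55_33 lc_d_Cert_tree lc_d_rc_27_0 lc_d_rc_27_0 lc_d_rc_29_2 lc_d_rc_28_2 lc_d_rc_20_3) (@D3.rec (fun _ => (Cert rels S Gen.d)) lc_d_rc_28_2 lc_d_rc_12_1 lc_d_rc_20_3 lc_d_rc_30_2 lc_d_rc_31_2 lc_d_rc_12_1 lc_d_rc_3_1 lc_d_rc_30_2 lc_d_rc_28_2 lc_d_rc_29_2 lc_d_rc_27_0 lc_d_rc_20_3 lc_d_rc_28_2 lc_d_rc_12_1 lc_d_rc_29_4 lc_d_rc_56_31 lc_d_rc_12_1 lc_d_rc_20_3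 lc_d_rc_30_2 lc_d_rc_3_1 lc_d_rc_20_3 lc_d_rc_28_2 lc_d_rc_30_2 lc_d_rc_27_0 lc_d_rc_29_2 lc_d_rc_29_2 lc_d_rc_12_1 lc_d_rc_20_3 lc_d_rc_30_2 lc_d_rc_3_1 lc_d_rc_20_3 lc_d_rc_28_2 lc_d_rc_29_4 lc_d_rc_32_0 lc_d_rc_12_1 lc_d_rc_30_2 lc_d_rc_28_2 lc_d_rc_12_1 lc_d_rc_29_4 lc_d_rc_3_1 lc_d_rc_20_3 lc_d_rc_28_2 lc_d_rc_20_3 lc_d_rc_28_2 lc_d_rc_20_3 lc_d_rc_12_1 lc_d_rc_28_2 lc_d_rc_30_2 lc_d_rc_31_0 lc_d_rc_28_2 lc_d_rc_12_1) (@D3.rec (fun _ => (Cert rels S Gen.d)) lc_d_rc_28_4 lc_d_rc_20_3 lc_d_rc_12_1 lc_d_rc_28_2 lc_d_rc_3_1 lc_d_rc_12_1 lc_d_rc_20_3 lc_d_rc_31_2 lc_d_rc_12_1 lc_d_rc_3_1 lc_d_rc_27_0 lc_d_rc_20_3 lc_d_rc_12_1 lc_d_rc_3_1 lc_d_rc_32_0 lc_d_rc_20_3 lc_d_rc_12_1 lc_d_rc_12_1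 lc_d_rc_3_1 lc_d_rc_27_0 lc_d_rc_20_3 lc_d_rc_27_0 lc_d_rc_20_3 lc_d_rc_28_2 lc_d_rc_12_1 lc_d_rc_27_0 lc_d_rc_28_0 lc_d_rc_27_0 lc_d_rc_31_0 lc_d_rc_20_3 lc_d_rc_28_2 lc_d_rc_12_1 lc_d_rc_33_2 lc_d_rc_12_1 lc_d_rc_3_1 lc_d_rc_27_0 lc_d_rc_20_3 lc_d_rc_20_3 lc_d_rc_28_2 lc_d_rc_12_1 lc_d_rc_29_2 lc_d_rc_28_2 lc_d_rc_12_1 lc_d_rc_12_1 lc_d_rc_20_3 lc_d_rc_3_1 lc_d_rc_3_1 lc_d_rc_28_2 lc_d_rc_20_3 lc_d_rc_28_2 lc_d_rc_12_1) (@D3.rec (fun _ => (Cert rels S Gen.d)) lc_d_rc_12_1 lc_d_rc_3_1 lc_d_rc_20_3 lc_d_rc_30_2 lc_d_rc_28_2 lc_d_rc_12_1 lc_d_rc_20_3 lc_d_rc_12_1 lc_d_rc_3_1 lc_d_rc_20_3 lc_d_rc_20_3 lc_d_rc_12_1 lc_d_rc_20_3 lc_d_rc_56_31 lc_d_rc_3_1 lc_d_rc_27_0 lc_d_rc_28_2 lc_d_rc_27_0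 lc_d_rc_20_3 lc_d_rc_28_2 lc_d_Cert_tree lc_d_rc_27_0 lc_d_rc_29_2 lc_d_rc_28_2 lc_d_rc_12_1 lc_d_rc_29_2 lc_d_rc_3_1 lc_d_rc_27_0 lc_d_rc_20_3 lc_d_rc_20_3 lc_d_rc_28_2 lc_d_rc_12_1 lc_d_rc_20_3 lc_d_rc_29_2 lc_d_rc_12_1 lc_d_rc_3_1 lc_d_rc_20_3 lc_d_rc_27_0 lc_d_rc_27_0 lc_d_rc_20_3 lc_d_rc_20_3 lc_d_rc_28_2 lc_d_rc_12_1 lc_d_Cert_tree lc_d_rc_27_0 lc_d_rc_27_0 lc_d_rc_29_2 lc_d_rc_29_2 lc_d_rc_33_2 lc_d_rc_12_1 lc_d_rc_27_0) (@D3.rec (fun _ => (Cert rels S Gen.d)) lc_d_rc_20_3 lc_d_rc_28_2 lc_d_rc_12_1 lc_d_rc_20_3 lc_d_rc_3_1 lc_d_rc_20_3 lc_d_rc_12_1 lc_d_rc_3_1 lc_d_rc_30_2 lc_d_rc_28_2 lc_d_rc_20_3 lc_d_rc_28_2 lc_d_rc_12_1 lc_d_rc_31_2 lc_d_rc_28_2 lc_d_rc_12_1 lc_d_Cert_tree lc_d_rc_3_1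 lc_d_rc_20_3 lc_d_rc_28_2 lc_d_rc_12_1 lc_d_rc_12_1 lc_d_rc_12_1 lc_d_rc_20_3 lc_d_rc_28_2 lc_d_rc_3_1 lc_d_rc_12_1 lc_d_rc_20_3 lc_d_rc_31_2 lc_d_rc_31_2 lc_d_rc_12_1 lc_d_rc_3_1 lc_d_rc_3_1 lc_d_rc_12_1 lc_d_rc_20_3 lc_d_rc_28_2 lc_d_rc_12_1 lc_d_Cert_tree lc_d_rc_3_1 lc_d_rc_27_0 lc_d_rc_20_3 lc_d_rc_28_2 lc_d_rc_20_3 lc_d_rc_28_2 lc_d_rc_12_1 lc_d_Cert_tree lc_d_rc_12_1 lc_d_rc_3_1 lc_d_rc_20_3 lc_d_rc_28_2 lc_d_rc_12_1) (@D3.rec (fun _ => (Cert rels S Gen.d)) lc_d_rc_20_3 lc_d_rc_28_2 lc_d_rc_3_1 lc_d_rc_12_1 lc_d_rc_20_3 lc_d_rc_3_1 lc_d_rc_12_1 lc_d_rc_12_1 lc_d_rc_3_1 lc_d_rc_28_4 lc_d_rc_28_2 lc_d_rc_28_2 lc_d_rc_28_2 lc_d_rc_28_2 lc_d_rc_28_2 lc_d_rc_30_2 lc_d_rc_27_0 lc_d_rc_28_2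 lc_d_rc_28_2 lc_d_rc_27_0 lc_d_rc_29_4 lc_d_rc_27_0 lc_d_rc_20_3 lc_d_rc_20_3 lc_d_rc_28_2 lc_d_rc_12_1 lc_d_Cert_tree lc_d_rc_27_0 lc_d_rc_20_3 lc_d_rc_12_1 lc_d_rc_30_0 lc_d_rc_20_3 lc_d_rc_28_2 lc_d_rc_12_1 lc_d_rc_32_2 lc_d_rc_55_24 lc_d_rc_12_1 lc_d_rc_27_0 lc_d_rc_29_4 lc_d_rc_28_2 lc_d_rc_3_3 lc_d_Cert_tree lc_d_rc_3_1 lc_d_Cert_tree lc_d_rc_27_0 lc_d_rc_29_2 lc_d_Cert_tree lc_d_rc_27_0 lc_d_Cert_tree lc_d_rc_27_0 lc_d_Cert_tree) (@D3.rec (fun _ => (Cert rels S Gen.d)) lc_d_Cert_tree lc_d_rc_27_0 lc_d_rc_28_2 lc_d_rc_27_0 lc_d_rc_20_3 lc_d_rc_27_0 lc_d_Cert_tree lc_d_rc_27_0 lc_d_rc_28_2 lc_d_Cert_tree lc_d_rc_27_0 lc_d_rc_20_3 lc_d_Cert_tree lc_d_rc_27_0 lc_d_rc_20_3 lc_d_rc_28_2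 lc_d_rc_30_2 lc_d_rc_20_3 lc_d_rc_28_2 lc_d_rc_12_1 lc_d_rc_32_2 lc_d_rc_27_0 lc_d_rc_32_2 lc_d_rc_28_2 lc_d_Cert_tree lc_d_rc_29_2 lc_d_rc_27_0 lc_d_rc_20_3 lc_d_rc_28_2 lc_d_rc_30_2 lc_d_rc_27_0 lc_d_rc_20_3 lc_d_rc_28_2 lc_d_rc_12_1 lc_d_Cert_tree lc_d_rc_27_0 lc_d_rc_20_3 lc_d_rc_28_2 lc_d_Cert_tree lc_d_rc_27_0 lc_d_rc_27_0 lc_d_rc_20_3 lc_d_rc_28_2 lc_d_rc_20_3 lc_d_rc_28_2 lc_d_rc_12_1 lc_d_rc_20_3 lc_d_rc_30_2 lc_d_rc_31_2 lc_d_rc_12_1 lc_d_Cert_tree) (@D3.rec (fun _ => (Cert rels S Gen.d)) lc_d_rc_3_1 lc_d_rc_20_3 lc_d_rc_28_2 lc_d_rc_30_2 lc_d_rc_31_2 lc_d_rc_31_2 lc_d_rc_28_2 lc_d_Cert_tree lc_d_Cert_tree lc_d_rc_30_2 lc_d_rc_27_0 lc_d_rc_31_2 lc_d_rc_29_0 lc_d_rc_27_0 lc_d_rc_29_2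 lc_d_rc_31_2 lc_d_rc_27_0 lc_d_rc_28_2 lc_d_rc_28_2 lc_d_rc_29_2 lc_d_rc_27_0 lc_d_rc_20_3 lc_d_Cert_tree lc_d_rc_27_0 lc_d_Cert_tree lc_d_rc_27_0 lc_d_rc_27_0 lc_d_rc_28_2 lc_d_rc_20_3 lc_d_rc_27_0 lc_d_rc_20_3 lc_d_rc_28_2 lc_d_rc_20_3 lc_d_rc_28_2 lc_d_rc_12_1 lc_d_rc_27_0 lc_d_rc_20_3 lc_d_rc_20_3 lc_d_rc_27_0 lc_d_rc_20_3 lc_d_rc_28_2 lc_d_rc_20_3 lc_d_rc_28_2 lc_d_rc_12_1 lc_d_rc_27_0 lc_d_rc_20_3 lc_d_rc_55_21 lc_d_rc_12_1 lc_d_rc_20_3 lc_d_rc_27_0 lc_d_rc_20_3) (@D3.rec (fun _ => (Cert rels S Gen.d)) lc_d_rc_28_2 lc_d_rc_55_39 lc_d_rc_20_3 lc_d_rc_3_1 lc_d_rc_28_2 lc_d_Cert_tree lc_d_rc_27_0 lc_d_Cert_tree lc_d_Cert_tree lc_d_rc_27_0 lc_d_rc_28_2 lc_d_Cert_tree lc_d_rc_27_0 lc_d_rc_20_3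 lc_d_Cert_tree lc_d_rc_27_0 lc_d_rc_27_0 lc_d_rc_20_3 lc_d_rc_28_2 lc_d_rc_27_0 lc_d_rc_27_0 lc_d_rc_20_3 lc_d_rc_28_2 lc_d_rc_30_2 lc_d_rc_20_3 lc_d_rc_29_2 lc_d_rc_12_1 lc_d_Cert_tree lc_d_rc_27_0 lc_d_rc_20_3 lc_d_rc_27_0 lc_d_rc_28_2 lc_d_rc_27_0 lc_d_rc_20_3 lc_d_rc_28_2 lc_d_rc_30_2 lc_d_rc_27_0 lc_d_rc_20_3 lc_d_rc_28_2 lc_d_rc_12_1 lc_d_rc_27_0 lc_d_rc_20_3 lc_d_rc_28_2 lc_d_rc_27_0 lc_d_rc_27_0 lc_d_rc_29_2 lc_d_rc_29_2 lc_d_rc_20_3 lc_d_rc_12_1 lc_d_rc_20_3 lc_d_rc_30_2) (@D3.rec (fun _ => (Cert rels S Gen.d)) lc_d_rc_27_0 lc_d_rc_20_3 lc_d_rc_28_2 lc_d_rc_12_1 lc_d_Cert_tree lc_d_rc_3_1 lc_d_rc_28_2 lc_d_Cert_tree lc_d_rc_28_2 lc_d_rc_27_0 lc_d_Cert_tree lc_d_rc_27_0 lc_d_rc_20_3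 lc_d_rc_28_2 lc_d_rc_12_1 lc_d_rc_27_0 lc_d_rc_28_2 lc_d_rc_20_3 lc_d_rc_28_2 lc_d_rc_30_2 lc_d_rc_12_1 lc_d_rc_20_3 lc_d_rc_30_2 lc_d_rc_31_2 lc_d_rc_27_0 lc_d_rc_20_3 lc_d_rc_28_2 lc_d_rc_3_3 lc_d_Cert_tree lc_d_rc_3_1 lc_d_rc_27_0 lc_d_rc_3_1 lc_d_rc_28_2 lc_d_rc_27_0 lc_d_rc_28_2 lc_d_rc_28_2 lc_d_rc_20_3 lc_d_rc_12_1 lc_d_rc_20_3 lc_d_rc_30_2 lc_d_rc_29_0 lc_d_rc_28_2 lc_d_rc_3_3 lc_d_rc_31_0 lc_d_rc_29_2 lc_d_rc_27_0 lc_d_rc_20_3 lc_d_rc_12_1 lc_d_rc_3_1 lc_d_rc_12_1 lc_d_rc_20_3) (@D3.rec (fun _ => (Cert rels S Gen.d)) lc_d_rc_31_2 lc_d_rc_20_3 lc_d_rc_28_2 lc_d_rc_12_1 lc_d_rc_20_3 lc_d_rc_3_1 lc_d_Cert_tree lc_d_rc_27_0 lc_d_rc_28_2 lc_d_rc_30_2 lc_d_Cert_tree lc_d_rc_27_0 lc_d_rc_27_0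 lc_d_rc_29_2 lc_d_rc_33_2 lc_d_rc_28_2 lc_d_rc_29_2 lc_d_rc_27_0 lc_d_rc_29_4 lc_d_rc_27_0 lc_d_rc_27_0 lc_d_rc_28_2 lc_d_rc_27_0 lc_d_rc_20_3 lc_d_rc_28_2 lc_d_rc_27_0 lc_d_rc_29_0 lc_d_rc_20_3 lc_d_rc_28_2 lc_d_rc_31_0 lc_d_rc_28_2 lc_d_rc_12_1 lc_d_Cert_tree lc_d_Cert_tree lc_d_rc_27_0 lc_d_rc_28_2 lc_d_rc_27_0 lc_d_rc_20_3 lc_d_rc_33_2 lc_d_rc_27_0 lc_d_rc_28_2 lc_d_rc_27_0 lc_d_rc_20_3 lc_d_rc_28_2 lc_d_rc_30_2 lc_d_rc_27_0 lc_d_rc_33_2 lc_d_rc_28_2 lc_d_rc_12_1 lc_d_rc_28_2 lc_d_Cert_tree) (@D3.rec (fun _ => (Cert rels S Gen.d)) lc_d_rc_29_4 lc_d_rc_3_3 lc_d_rc_31_0 lc_d_rc_28_2 lc_d_rc_29_2 lc_d_rc_28_2 lc_d_rc_12_1 lc_d_rc_20_3 lc_d_rc_30_2 lc_d_rc_31_2 lc_d_rc_28_2 lc_d_rc_3_3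 lc_d_Cert_tree lc_d_rc_3_1 lc_d_rc_27_0 lc_d_rc_20_3 lc_d_rc_30_2 lc_d_Cert_tree lc_d_rc_27_0 lc_d_rc_27_0 lc_d_rc_20_3 lc_d_rc_28_2 lc_d_rc_12_1 lc_d_rc_27_0 lc_d_Cert_tree lc_d_Cert_tree lc_d_rc_27_0 lc_d_rc_28_2 lc_d_rc_27_0 lc_d_rc_20_3 lc_d_rc_27_0 lc_d_rc_20_3 lc_d_rc_27_0 lc_d_rc_28_2 lc_d_rc_27_0 lc_d_rc_27_0 lc_d_rc_20_3 lc_d_rc_28_2 lc_d_rc_30_2 lc_d_rc_20_3 lc_d_rc_28_2 lc_d_rc_12_1 lc_d_Cert_tree lc_d_rc_29_4 lc_d_rc_20_3 lc_d_rc_27_0 lc_d_rc_29_4 lc_d_rc_12_1 lc_d_rc_20_3 lc_d_rc_28_2 lc_d_Cert_tree) (@D3.rec (fun _ => (Cert rels S Gen.d)) lc_d_rc_30_2 lc_d_rc_20_3 lc_d_rc_28_2 lc_d_rc_12_1 lc_d_rc_20_3 lc_d_rc_30_2 lc_d_rc_12_1 lc_d_Cert_tree lc_d_rc_3_1 lc_d_Cert_tree lc_d_rc_30_2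 lc_d_rc_27_0 lc_d_rc_29_2 lc_d_Cert_tree lc_d_Cert_tree lc_d_rc_27_0 lc_d_rc_27_0 lc_d_rc_20_3 lc_d_rc_27_0 lc_d_rc_20_3 lc_d_rc_28_2 lc_d_Cert_tree lc_d_rc_27_0 lc_d_rc_27_0 lc_d_rc_20_3 lc_d_rc_28_2 lc_d_rc_30_2 lc_d_rc_20_3 lc_d_rc_29_2 lc_d_rc_12_1 lc_d_rc_33_2 lc_d_Cert_tree lc_d_rc_27_0 lc_d_rc_20_3 lc_d_rc_28_2 lc_d_rc_31_2 lc_d_rc_28_2 lc_d_rc_12_1 lc_d_rc_27_0 lc_d_rc_20_3 lc_d_rc_28_2 lc_d_rc_30_2 lc_d_rc_27_0 lc_d_rc_29_2 lc_d_rc_29_2 lc_d_rc_20_3 lc_d_rc_28_2 lc_d_rc_12_1 lc_d_rc_20_3 lc_d_rc_30_2 lc_d_rc_30_2) (@D3.rec (fun _ => (Cert rels S Gen.d)) lc_d_rc_28_2 lc_d_rc_12_1 lc_d_Cert_tree lc_d_rc_3_1 lc_d_rc_27_0 lc_d_rc_32_2 lc_d_rc_30_2 lc_d_rc_12_1 lc_d_Cert_tree lc_d_rc_27_0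 lc_d_rc_27_0 lc_d_rc_29_2 lc_d_rc_28_2 lc_d_rc_20_3 lc_d_rc_28_2 lc_d_rc_12_1 lc_d_rc_29_2 lc_d_rc_12_1 lc_d_rc_28_4 lc_d_rc_3_1 lc_d_rc_27_0 lc_d_rc_33_0 lc_d_rc_27_0 lc_d_rc_27_0 lc_d_rc_31_2 lc_d_rc_28_2 lc_d_rc_20_3 lc_d_rc_28_2 lc_d_rc_55_63 lc_d_rc_29_2 lc_d_rc_30_2 lc_d_rc_27_0 lc_d_rc_29_2 lc_d_rc_28_2 lc_d_rc_29_0 lc_d_rc_28_2 lc_d_rc_12_1 lc_d_Cert_tree lc_d_rc_29_2 lc_d_rc_20_3 lc_d_rc_28_2 lc_d_rc_12_1 lc_d_Cert_tree lc_d_rc_30_2 lc_d_rc_3_1 lc_d_rc_12_1 lc_d_rc_20_3 lc_d_rc_31_2 lc_d_rc_31_0 lc_d_rc_12_1 lc_d_rc_20_3) (@D3.rec (fun _ => (Cert rels S Gen.d)) lc_d_rc_3_1 lc_d_Cert_tree lc_d_rc_27_0 lc_d_rc_30_2 lc_d_rc_27_0 lc_d_rc_29_2 lc_d_rc_29_2 lc_d_rc_32_0 lc_d_rc_12_1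 lc_d_rc_33_2 lc_d_rc_28_2 lc_d_rc_28_2 lc_d_Cert_tree lc_d_rc_30_2 lc_d_rc_27_0 lc_d_rc_30_2 lc_d_rc_30_2 lc_d_rc_20_3 lc_d_rc_28_2 lc_d_rc_12_1 lc_d_rc_20_3 lc_d_rc_12_1 lc_d_rc_12_1 lc_d_rc_20_3 lc_d_rc_3_1 lc_d_rc_27_0 lc_d_rc_30_0 lc_d_rc_20_3 lc_d_rc_28_2 lc_d_rc_30_2 lc_d_rc_29_4 lc_d_rc_29_2 lc_d_rc_12_1 lc_d_rc_27_0 lc_d_rc_20_3 lc_d_rc_20_3 lc_d_rc_28_2 lc_d_rc_12_1 lc_d_rc_12_1 lc_d_rc_20_3 lc_d_rc_3_1 lc_d_rc_20_3 lc_d_rc_30_2 lc_d_rc_28_2 lc_d_rc_12_1 lc_d_rc_12_1 lc_d_rc_55_45 lc_d_rc_29_0 lc_d_rc_3_1 lc_d_rc_12_1 lc_d_rc_12_1) (@D3.rec (fun _ => (Cert rels S Gen.d)) lc_d_rc_12_1 lc_d_rc_3_1 lc_d_rc_20_3 lc_d_rc_28_2 lc_d_rc_12_1 lc_d_rc_20_3 lc_d_rc_3_1 lc_d_Cert_tree lc_d_rc_27_0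 lc_d_rc_29_2 lc_d_rc_33_2 lc_d_rc_20_3 lc_d_rc_12_1 lc_d_rc_20_3 lc_d_rc_20_3 lc_d_rc_28_2 lc_d_rc_12_1 lc_d_rc_29_2 lc_d_rc_28_2 lc_d_rc_12_1 lc_d_rc_20_3 lc_d_rc_3_1 lc_d_rc_27_0 lc_d_rc_29_2 lc_d_rc_27_0 lc_d_rc_20_3 lc_d_rc_28_2 lc_d_rc_30_2 lc_d_rc_20_3 lc_d_rc_29_2 lc_d_rc_12_1 lc_d_rc_27_0 lc_d_rc_20_3 lc_d_rc_27_0 lc_d_rc_20_3 lc_d_rc_28_2 lc_d_rc_12_1 lc_d_rc_12_1 lc_d_Cert_tree lc_d_rc_3_1 lc_d_rc_31_2 lc_d_rc_28_2 lc_d_Cert_tree lc_d_rc_27_0 lc_d_rc_27_0 lc_d_rc_20_3 lc_d_rc_20_3 lc_d_rc_28_2 lc_d_rc_12_1 lc_d_rc_27_0 lc_d_rc_20_3) (@D3.rec (fun _ => (Cert rels S Gen.d)) lc_d_rc_27_0 lc_d_rc_20_3 lc_d_rc_28_2 lc_d_rc_12_1 lc_d_rc_20_3 lc_d_rc_28_2 lc_d_rc_12_1 lc_d_Cert_tree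 lc_d_rc_3_1 lc_d_rc_27_0 lc_d_rc_20_3 lc_d_rc_12_1 lc_d_rc_27_0 lc_d_rc_20_3 lc_d_rc_28_2 lc_d_rc_20_3 lc_d_rc_12_1 lc_d_rc_12_1 lc_d_Cert_tree lc_d_rc_3_1 lc_d_rc_3_1 lc_d_Cert_tree lc_d_rc_27_0 lc_d_rc_20_3 lc_d_rc_28_2 lc_d_Cert_tree lc_d_Cert_tree lc_d_rc_30_2 lc_d_rc_27_0 lc_d_rc_27_0 lc_d_rc_29_2 lc_d_rc_31_0 lc_d_rc_33_2 lc_d_rc_29_4 lc_d_rc_27_0 lc_d_rc_27_0 lc_d_rc_20_3 lc_d_rc_27_0 lc_d_rc_20_3 lc_d_rc_29_2 lc_d_rc_12_1 lc_d_rc_27_0 lc_d_rc_55_39 lc_d_rc_28_2 lc_d_rc_27_0 lc_d_rc_27_0 lc_d_rc_20_3 lc_d_rc_28_2 lc_d_Cert_tree lc_d_rc_30_2 lc_d_rc_27_0)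
def ce_d_19 : D2 → D3 → (Cert rels S Gen.d) := @D2.rec (fun _ => D3 → (Cert rels S Gen.d)) (@D3.rec (fun _ => (Cert rels S Gen.d)) lc_d_rc_27_0 lc_d_rc_29_2 lc_d_rc_27_0 lc_d_rc_20_3 lc_d_rc_28_2 lc_d_rc_12_1 lc_d_rc_28_2 lc_d_rc_30_2 lc_d_rc_31_2 lc_d_rc_20_3 lc_d_rc_29_2 lc_d_rc_12_1 lc_d_Cert_tree lc_d_rc_3_1 lc_d_rc_20_3 lc_d_rc_27_0 lc_d_rc_20_3 lc_d_rc_28_2 lc_d_rc_12_1 lc_d_rc_20_3 lc_d_rc_27_0 lc_d_rc_20_3 lc_d_rc_12_1 lc_d_rc_27_0 lc_d_rc_20_3 lc_d_rc_28_2 lc_d_rc_12_1 lc_d_Cert_tree lc_d_rc_3_1 lc_d_rc_28_4 lc_d_rc_12_1 lc_d_rc_27_0 lc_d_rc_20_3 lc_d_rc_33_2 lc_d_rc_12_1 lc_d_rc_20_3 lc_d_rc_12_1 lc_d_rc_20_3 lc_d_rc_3_1 lc_d_rc_29_2 lc_d_rc_28_2 lc_d_rc_12_1 lc_d_Cert_tree lc_d_rc_3_1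 lc_d_Cert_tree lc_d_rc_27_0 lc_d_rc_31_2 lc_d_rc_28_2 lc_d_rc_32_2 lc_d_Cert_tree lc_d_rc_30_2) (@D3.rec (fun _ => (Cert rels S Gen.d)) lc_d_Cert_tree lc_d_rc_27_0 lc_d_Cert_tree lc_d_rc_27_0 lc_d_rc_27_0 lc_d_rc_29_2 lc_d_rc_20_3 lc_d_rc_20_3 lc_d_rc_27_0 lc_d_rc_20_3 lc_d_rc_28_2 lc_d_rc_12_1 lc_d_rc_20_3 lc_d_rc_30_2 lc_d_rc_20_3 lc_d_rc_28_2 lc_d_rc_12_1 lc_d_Cert_tree lc_d_rc_3_1 lc_d_rc_3_1 lc_d_rc_20_3 lc_d_rc_28_2 lc_d_rc_12_1 lc_d_rc_27_0 lc_d_rc_27_0 lc_d_rc_29_2 lc_d_rc_28_2 lc_d_rc_32_2 lc_d_rc_12_1 lc_d_rc_27_0 lc_d_rc_20_3 lc_d_rc_28_2 lc_d_rc_12_1 lc_d_Cert_tree lc_d_rc_3_1 lc_d_rc_12_1 lc_d_rc_20_3 lc_d_rc_28_2 lc_d_rc_12_1 lc_d_Cert_tree lc_d_rc_30_2 lc_d_rc_3_1 lc_d_Cert_tree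 lc_d_rc_27_0 lc_d_rc_12_1 lc_d_rc_27_0 lc_d_rc_20_3 lc_d_rc_28_2 lc_d_rc_3_3 lc_d_rc_20_3 lc_d_rc_12_1) (@D3.rec (fun _ => (Cert rels S Gen.d)) lc_d_rc_20_3 lc_d_rc_3_1 lc_d_rc_12_1 lc_d_rc_27_0 lc_d_rc_27_0 lc_d_rc_20_3 lc_d_rc_28_2 lc_d_rc_30_2 lc_d_rc_28_2 lc_d_rc_12_1 lc_d_Cert_tree lc_d_rc_28_2 lc_d_rc_12_1 lc_d_Cert_tree lc_d_rc_3_1 lc_d_Cert_tree lc_d_rc_27_0 lc_d_rc_30_2 lc_d_rc_20_3 lc_d_rc_28_2 lc_d_rc_12_1 lc_d_rc_20_3 lc_d_rc_30_2 lc_d_rc_3_1 lc_d_Cert_tree lc_d_rc_27_0 lc_d_rc_20_3 lc_d_rc_3_1 lc_d_rc_12_1 lc_d_rc_12_1 lc_d_Cert_tree lc_d_rc_3_1 lc_d_Cert_tree lc_d_rc_27_0 lc_d_Cert_tree lc_d_rc_27_0 lc_d_rc_29_2 lc_d_rc_28_2 lc_d_Cert_tree lc_d_rc_30_2 lc_d_rc_27_0 lc_d_Cert_tree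 lc_d_rc_20_3 lc_d_Cert_tree lc_d_rc_27_0 lc_d_Cert_tree lc_d_rc_27_0 lc_d_rc_29_2 lc_d_rc_30_2 lc_d_rc_28_2 lc_d_rc_27_0) (@D3.rec (fun _ => (Cert rels S Gen.d)) lc_d_rc_29_2 lc_d_rc_27_0 lc_d_rc_20_3 lc_d_rc_12_1 lc_d_rc_33_2 lc_d_Cert_tree lc_d_rc_27_0 lc_d_rc_32_2 lc_d_rc_29_2 lc_d_rc_27_0 lc_d_rc_12_1 lc_d_rc_33_2 lc_d_rc_33_2 lc_d_rc_20_3 lc_d_rc_3_1 lc_d_Cert_tree lc_d_rc_27_0 lc_d_rc_30_2 lc_d_rc_3_1 lc_d_rc_55_39 lc_d_rc_12_1 lc_d_rc_3_1 lc_d_rc_12_1 lc_d_rc_12_1 lc_d_rc_3_1 lc_d_rc_3_1 lc_d_rc_12_1 lc_d_rc_12_1 lc_d_rc_3_1 lc_d_rc_20_3 lc_d_rc_28_2 lc_d_rc_12_1 lc_d_rc_29_2 lc_d_rc_28_2 lc_d_rc_12_1 lc_d_rc_20_3 lc_d_rc_28_2 lc_d_rc_12_1 lc_d_rc_20_3 lc_d_rc_3_1 lc_d_rc_12_1 lc_d_rc_3_1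 lc_d_rc_20_3 lc_d_rc_28_2 lc_d_rc_12_1 lc_d_rc_3_3 lc_d_rc_3_1 lc_d_rc_33_0 lc_d_rc_20_3 lc_d_rc_12_1 lc_d_rc_20_3) (@D3.rec (fun _ => (Cert rels S Gen.d)) lc_d_rc_3_1 lc_d_rc_12_1 lc_d_rc_12_1 lc_d_rc_3_1 lc_d_rc_20_3 lc_d_rc_29_2 lc_d_rc_12_1 lc_d_rc_20_3 lc_d_rc_3_1 lc_d_rc_27_0 lc_d_rc_28_2 lc_d_rc_20_3 lc_d_rc_28_2 lc_d_rc_30_2 lc_d_rc_20_3 lc_d_rc_28_2 lc_d_rc_12_1 lc_d_rc_20_3 lc_d_rc_28_2 lc_d_rc_30_2 lc_d_rc_27_0 lc_d_rc_31_0 lc_d_rc_28_2 lc_d_rc_20_3 lc_d_rc_28_2 lc_d_rc_12_1 lc_d_rc_20_3 lc_d_rc_30_2 lc_d_rc_31_2 lc_d_rc_12_1 lc_d_rc_3_1 lc_d_rc_20_3 lc_d_rc_28_2 lc_d_rc_12_1 lc_d_rc_20_3 lc_d_rc_30_2 lc_d_rc_31_2 lc_d_rc_28_2 lc_d_rc_55_27 lc_d_rc_30_0 lc_d_rc_29_2 lc_d_rc_12_1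 lc_d_rc_20_3 lc_d_rc_3_1 lc_d_rc_12_1 lc_d_rc_20_3 lc_d_rc_3_1 lc_d_rc_29_2 lc_d_rc_31_2 lc_d_Cert_tree lc_d_rc_29_2) (@D3.rec (fun _ => (Cert rels S Gen.d)) lc_d_rc_20_3 lc_d_rc_28_2 lc_d_Cert_tree lc_d_rc_29_2 lc_d_rc_28_2 lc_d_rc_12_1 lc_d_rc_28_2 lc_d_rc_3_1 lc_d_rc_27_0 lc_d_rc_20_3 lc_d_rc_28_2 lc_d_rc_30_2 lc_d_rc_12_1 lc_d_rc_27_0 lc_d_rc_20_3 lc_d_rc_28_2 lc_d_rc_27_0 lc_d_rc_29_2 lc_d_rc_29_2 lc_d_rc_12_1 lc_d_rc_30_0 lc_d_rc_3_1 lc_d_rc_20_3 lc_d_rc_29_2 lc_d_rc_20_3 lc_d_rc_12_1 lc_d_rc_20_3 lc_d_rc_29_2 lc_d_rc_20_3 lc_d_rc_33_2 lc_d_rc_12_1 lc_d_Cert_tree lc_d_rc_12_1 lc_d_rc_3_1 lc_d_rc_12_1 lc_d_rc_12_1 lc_d_rc_3_1 lc_d_rc_20_3 lc_d_rc_28_2 lc_d_rc_12_1 lc_d_rc_29_2 lc_d_rc_30_2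 lc_d_rc_12_1 lc_d_Cert_tree lc_d_rc_3_1 lc_d_rc_20_3 lc_d_rc_28_2 lc_d_rc_12_1 lc_d_rc_28_2 lc_d_rc_27_0 lc_d_rc_29_2) (@D3.rec (fun _ => (Cert rels S Gen.d)) lc_d_rc_28_2 lc_d_rc_31_0 lc_d_rc_28_2 lc_d_rc_3_3 lc_d_rc_31_2 lc_d_rc_29_2 lc_d_rc_12_1 lc_d_rc_20_3 lc_d_rc_3_1 lc_d_rc_12_1 lc_d_rc_31_0 lc_d_rc_31_2 lc_d_rc_3_1 lc_d_rc_3_1 lc_d_rc_3_1 lc_d_rc_12_1 lc_d_rc_29_4 lc_d_rc_28_2 lc_d_rc_32_0 lc_d_rc_28_2 lc_d_rc_55_42 lc_d_rc_30_0 lc_d_rc_20_3 lc_d_rc_12_1 lc_d_rc_20_3 lc_d_rc_3_1 lc_d_rc_12_1 lc_d_rc_30_2 lc_d_rc_28_2 lc_d_rc_20_3 lc_d_rc_28_2 lc_d_rc_12_1 lc_d_Cert_tree lc_d_rc_12_1 lc_d_rc_20_3 lc_d_rc_30_2 lc_d_rc_3_1 lc_d_rc_12_1 lc_d_rc_29_4 lc_d_rc_20_3 lc_d_rc_28_2 lc_d_rc_12_1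 lc_d_rc_20_3 lc_d_rc_3_1 lc_d_rc_12_1 lc_d_rc_3_1 lc_d_rc_12_1 lc_d_rc_12_1 lc_d_rc_3_1 lc_d_rc_28_2 lc_d_rc_30_2) (@D3.rec (fun _ => (Cert rels S Gen.d)) lc_d_rc_29_2 lc_d_rc_12_1 lc_d_rc_55_21 lc_d_rc_12_1 lc_d_rc_20_3 lc_d_rc_30_2 lc_d_rc_3_1 lc_d_rc_27_0 lc_d_rc_29_2 lc_d_rc_29_2 lc_d_rc_12_1 lc_d_rc_20_3 lc_d_rc_30_2 lc_d_rc_3_1 lc_d_rc_3_1 lc_d_rc_27_0 lc_d_rc_29_2 lc_d_rc_28_2 lc_d_rc_33_2 lc_d_rc_28_2 lc_d_rc_12_1 lc_d_rc_28_2 lc_d_rc_29_2 lc_d_rc_12_1 lc_d_rc_20_3 lc_d_rc_30_2 lc_d_rc_3_1 lc_d_rc_12_1 lc_d_rc_20_3 lc_d_rc_31_2 lc_d_rc_3_1 lc_d_rc_30_2 lc_d_rc_33_2 lc_d_rc_29_2 lc_d_rc_12_1 lc_d_rc_20_3 lc_d_rc_3_1 lc_d_rc_12_1 lc_d_rc_56_38 lc_d_rc_3_1 lc_d_rc_12_1 lc_d_rc_20_3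 lc_d_rc_12_1 lc_d_rc_20_3 lc_d_rc_32_2 lc_d_rc_29_2 lc_d_rc_12_1 lc_d_Cert_tree lc_d_rc_3_1 lc_d_rc_12_1 lc_d_rc_20_3) (@D3.rec (fun _ => (Cert rels S Gen.d)) lc_d_rc_12_1 lc_d_rc_28_2 lc_d_rc_12_1 lc_d_rc_32_0 lc_d_rc_3_1 lc_d_rc_12_1 lc_d_rc_29_4 lc_d_rc_3_1 lc_d_rc_12_1 lc_d_rc_12_1 lc_d_rc_20_3 lc_d_rc_55_24 lc_d_rc_31_0 lc_d_rc_12_1 lc_d_rc_3_1 lc_d_rc_12_1 lc_d_rc_20_3 lc_d_rc_12_1 lc_d_rc_28_4 lc_d_rc_3_1 lc_d_rc_12_1 lc_d_rc_12_1 lc_d_rc_3_1 lc_d_rc_12_1 lc_d_rc_3_1 lc_d_rc_12_1 lc_d_rc_20_3 lc_d_rc_3_1 lc_d_rc_30_2 lc_d_rc_28_2 lc_d_rc_12_1 lc_d_rc_3_1 lc_d_rc_30_2 lc_d_rc_12_1 lc_d_rc_3_1 lc_d_rc_3_1 lc_d_rc_20_3 lc_d_rc_28_2 lc_d_rc_12_1 lc_d_rc_33_2 lc_d_rc_28_2 lc_d_rc_12_1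 lc_d_Cert_tree lc_d_rc_3_1 lc_d_rc_20_3 lc_d_rc_28_2 lc_d_rc_12_1 lc_d_rc_32_2 lc_d_rc_28_2 lc_d_rc_12_1 lc_d_rc_12_1) (@D3.rec (fun _ => (Cert rels S Gen.d)) lc_d_rc_20_3 lc_d_rc_3_1 lc_d_rc_55_27 lc_d_rc_3_1 lc_d_rc_29_4 lc_d_rc_28_2 lc_d_rc_3_3 lc_d_rc_12_1 lc_d_rc_20_3 lc_d_rc_3_1 lc_d_rc_12_1 lc_d_Cert_tree lc_d_rc_3_1 lc_d_rc_3_1 lc_d_rc_12_1 lc_d_rc_12_1 lc_d_rc_28_2 lc_d_rc_3_1 lc_d_rc_3_1 lc_d_rc_12_1 lc_d_rc_12_1 lc_d_Cert_tree lc_d_rc_3_1 lc_d_rc_12_1 lc_d_rc_3_1 lc_d_rc_12_1 lc_d_rc_55_27 lc_d_rc_3_1 lc_d_rc_56_31 lc_d_rc_56_31 lc_d_rc_20_3 lc_d_rc_28_2 lc_d_rc_29_4 lc_d_rc_28_2 lc_d_rc_20_3 lc_d_Cert_tree lc_d_rc_27_0 lc_d_rc_33_2 lc_d_rc_28_2 lc_d_rc_12_1 lc_d_rc_28_2 lc_d_rc_3_1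 lc_d_rc_12_1 lc_d_rc_20_3 lc_d_rc_28_2 lc_d_rc_12_1 lc_d_rc_12_1 lc_d_Cert_tree lc_d_rc_3_1 lc_d_rc_12_1 lc_d_rc_3_3) (@D3.rec (fun _ => (Cert rels S Gen.d)) lc_d_rc_3_1 lc_d_rc_12_1 lc_d_rc_20_3 lc_d_rc_28_2 lc_d_rc_29_4 lc_d_rc_29_2 lc_d_rc_12_1 lc_d_rc_12_1 lc_d_Cert_tree lc_d_rc_3_1 lc_d_rc_27_0 lc_d_rc_29_2 lc_d_rc_29_2 lc_d_rc_32_2 lc_d_rc_29_2 lc_d_rc_3_3 lc_d_Cert_tree lc_d_rc_12_1 lc_d_rc_3_1 lc_d_rc_20_3 lc_d_rc_28_2 lc_d_rc_12_1 lc_d_rc_20_3 lc_d_rc_30_2 lc_d_rc_3_1 lc_d_rc_12_1 lc_d_rc_12_1 lc_d_rc_3_1 lc_d_rc_12_1 lc_d_Cert_tree lc_d_rc_3_1 lc_d_rc_12_1 lc_d_Cert_tree lc_d_rc_3_1 lc_d_Cert_tree lc_d_rc_27_0 lc_d_rc_12_1 lc_d_Cert_tree lc_d_rc_3_1 lc_d_rc_3_1 lc_d_rc_3_1 lc_d_rc_12_1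 lc_d_rc_20_3 lc_d_rc_28_2 lc_d_rc_3_1 lc_d_rc_12_1 lc_d_rc_20_3 lc_d_rc_55_12 lc_d_rc_3_1 lc_d_rc_12_1 lc_d_rc_3_1) (@D3.rec (fun _ => (Cert rels S Gen.d)) lc_d_rc_12_1 lc_d_rc_20_3 lc_d_rc_3_1 lc_d_Cert_tree lc_d_rc_27_0 lc_d_rc_30_0 lc_d_rc_28_2 lc_d_rc_56_38 lc_d_rc_29_2 lc_d_rc_30_2 lc_d_rc_12_1 lc_d_rc_28_2 lc_d_rc_3_1 lc_d_Cert_tree lc_d_rc_27_0 lc_d_rc_3_1 lc_d_rc_12_1 lc_d_rc_28_2 lc_d_rc_3_1 lc_d_rc_12_1 lc_d_rc_3_1 lc_d_rc_12_1 lc_d_rc_3_1 lc_d_rc_3_1 lc_d_rc_30_2 lc_d_rc_3_3 lc_d_rc_28_2 lc_d_rc_12_1 lc_d_rc_30_2 lc_d_rc_55_33 lc_d_rc_20_3 lc_d_rc_12_1 lc_d_rc_12_1 lc_d_Cert_tree lc_d_rc_3_1 lc_d_rc_27_0 lc_d_rc_29_2 lc_d_rc_12_1 lc_d_rc_3_1 lc_d_rc_55_36 lc_d_rc_12_1 lc_d_rc_20_3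 lc_d_rc_3_1 lc_d_rc_56_38 lc_d_rc_3_1 lc_d_rc_29_4 lc_d_rc_55_60 lc_d_rc_20_3 lc_d_rc_3_1 lc_d_Cert_tree lc_d_rc_27_0) (@D3.rec (fun _ => (Cert rels S Gen.d)) lc_d_rc_27_0 lc_d_rc_29_2 lc_d_rc_33_2 lc_d_rc_27_0 lc_d_rc_31_2 lc_d_rc_27_0 lc_d_rc_31_2 lc_d_rc_28_2 lc_d_rc_27_0 lc_d_rc_27_0 lc_d_rc_20_3 lc_d_rc_28_2 lc_d_rc_30_2 lc_d_rc_20_3 lc_d_rc_29_2 lc_d_rc_12_1 lc_d_rc_31_2 lc_d_rc_27_0 lc_d_rc_20_3 lc_d_rc_28_2 lc_d_rc_30_2 lc_d_rc_27_0 lc_d_rc_20_3 lc_d_rc_28_2 lc_d_rc_12_1 lc_d_rc_27_0 lc_d_rc_29_2 lc_d_rc_29_2 lc_d_rc_12_1 lc_d_rc_20_3 lc_d_rc_30_2 lc_d_rc_12_1 lc_d_Cert_tree lc_d_rc_3_1 lc_d_rc_3_1 lc_d_rc_20_3 lc_d_rc_28_2 lc_d_Cert_tree lc_d_rc_27_0 lc_d_rc_33_0 lc_d_rc_20_3 lc_d_rc_28_2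 lc_d_rc_12_1 lc_d_rc_20_3 lc_d_rc_30_2 lc_d_rc_31_2 lc_d_rc_32_2 lc_d_rc_28_2 lc_d_rc_12_1 lc_d_Cert_tree lc_d_rc_3_1) (@D3.rec (fun _ => (Cert rels S Gen.d)) lc_d_rc_27_0 lc_d_rc_20_3 lc_d_rc_28_2 lc_d_rc_12_1 lc_d_rc_20_3 lc_d_rc_27_0 lc_d_rc_20_3 lc_d_rc_28_2 lc_d_rc_20_3 lc_d_rc_28_2 lc_d_rc_55_54 lc_d_rc_31_2 lc_d_rc_29_2 lc_d_rc_12_1 lc_d_Cert_tree lc_d_rc_30_2 lc_d_rc_3_1 lc_d_rc_12_1 lc_d_rc_20_3 lc_d_rc_31_2 lc_d_rc_3_1 lc_d_Cert_tree lc_d_rc_27_0 lc_d_Cert_tree lc_d_rc_28_2 lc_d_rc_31_2 lc_d_Cert_tree lc_d_rc_30_2 lc_d_rc_27_0 lc_d_rc_27_0 lc_d_rc_29_2 lc_d_rc_29_2 lc_d_rc_33_2 lc_d_rc_28_2 lc_d_rc_30_2 lc_d_rc_20_3 lc_d_rc_12_1 lc_d_rc_27_0 lc_d_rc_27_0 lc_d_rc_20_3 lc_d_rc_20_3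 lc_d_rc_28_2 lc_d_rc_12_1 lc_d_rc_31_2 lc_d_rc_28_2 lc_d_rc_12_1 lc_d_rc_20_3 lc_d_rc_12_1 lc_d_rc_20_3 lc_d_rc_3_1 lc_d_rc_20_3) (@D3.rec (fun _ => (Cert rels S Gen.d)) lc_d_rc_29_2 lc_d_rc_12_1 lc_d_rc_55_21 lc_d_rc_20_3 lc_d_rc_29_2 lc_d_rc_12_1 lc_d_rc_20_3 lc_d_rc_12_1 lc_d_rc_20_3 lc_d_rc_3_1 lc_d_rc_20_3 lc_d_rc_28_2 lc_d_rc_12_1 lc_d_rc_27_0 lc_d_rc_3_1 lc_d_rc_12_1 lc_d_rc_20_3 lc_d_rc_28_2 lc_d_rc_12_1 lc_d_rc_20_3 lc_d_rc_27_0 lc_d_rc_12_1 lc_d_rc_27_0 lc_d_rc_28_2 lc_d_rc_27_0 lc_d_rc_27_0 lc_d_rc_20_3 lc_d_rc_28_2 lc_d_rc_30_2 lc_d_rc_27_0 lc_d_rc_20_3 lc_d_rc_29_2 lc_d_rc_12_1 lc_d_rc_27_0 lc_d_rc_28_2 lc_d_rc_20_3 lc_d_rc_28_2 lc_d_Cert_tree lc_d_rc_30_2 lc_d_rc_29_2 lc_d_rc_28_2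 lc_d_rc_20_3 lc_d_rc_28_2 lc_d_rc_12_1 lc_d_rc_28_2 lc_d_rc_30_2 lc_d_rc_31_2 lc_d_rc_12_1 lc_d_Cert_tree lc_d_rc_3_1 lc_d_rc_27_0) (@D3.rec (fun _ => (Cert rels S Gen.d)) lc_d_rc_20_3 lc_d_rc_28_2 lc_d_rc_55_54 lc_d_rc_20_3 lc_d_rc_28_2 lc_d_rc_29_2 lc_d_rc_29_2 lc_d_rc_12_1 lc_d_rc_20_3 lc_d_rc_30_2 lc_d_rc_20_3 lc_d_rc_28_2 lc_d_rc_55_54 lc_d_Cert_tree lc_d_rc_3_1 lc_d_rc_20_3 lc_d_rc_29_2 lc_d_rc_12_1 lc_d_rc_20_3 lc_d_rc_20_3 lc_d_rc_20_3 lc_d_rc_33_2 lc_d_rc_12_1 lc_d_Cert_tree lc_d_rc_29_2 lc_d_rc_12_1 lc_d_rc_3_1 lc_d_rc_12_1 lc_d_rc_20_3 lc_d_rc_28_0 lc_d_rc_28_2 lc_d_rc_12_1 lc_d_rc_20_3 lc_d_rc_3_1 lc_d_Cert_tree lc_d_rc_27_0 lc_d_rc_30_2 lc_d_rc_27_0 lc_d_rc_29_2 lc_d_rc_27_0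 lc_d_rc_20_3 lc_d_rc_28_2 lc_d_rc_12_1 lc_d_Cert_tree lc_d_rc_3_1 lc_d_rc_3_1 lc_d_rc_28_2 lc_d_rc_12_1 lc_d_rc_20_3 lc_d_rc_30_2 lc_d_rc_3_1) (@D3.rec (fun _ => (Cert rels S Gen.d)) lc_d_rc_12_1 lc_d_rc_20_3 lc_d_rc_31_2 lc_d_rc_20_3 lc_d_rc_28_2 lc_d_rc_12_1 lc_d_rc_28_2 lc_d_rc_30_2 lc_d_rc_3_1 lc_d_Cert_tree lc_d_rc_27_0 lc_d_rc_29_4 lc_d_rc_12_1 lc_d_rc_20_3 lc_d_rc_30_0 lc_d_rc_28_2 lc_d_rc_55_51 lc_d_rc_31_2 lc_d_rc_12_1 lc_d_rc_3_1 lc_d_rc_12_1 lc_d_rc_20_3 lc_d_rc_29_0 lc_d_rc_30_2 lc_d_rc_33_0 lc_d_rc_12_1 lc_d_rc_31_0 lc_d_rc_29_2 lc_d_rc_20_3 lc_d_rc_12_1 lc_d_rc_3_1 lc_d_rc_3_1 lc_d_rc_12_1 lc_d_rc_20_3 lc_d_rc_12_1 lc_d_rc_20_3 lc_d_rc_3_1 lc_d_rc_12_1 lc_d_Cert_tree lc_d_rc_27_0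 lc_d_rc_29_2 lc_d_rc_27_0 lc_d_rc_20_3 lc_d_rc_33_2 lc_d_rc_32_2 lc_d_rc_55_36 lc_d_rc_33_2 lc_d_rc_20_3 lc_d_rc_28_2 lc_d_rc_33_2 lc_d_rc_28_2) (@D3.rec (fun _ => (Cert rels S Gen.d)) lc_d_rc_12_1 lc_d_rc_31_2 lc_d_rc_29_0 lc_d_rc_12_1 lc_d_rc_20_3 lc_d_rc_55_39 lc_d_rc_29_0 lc_d_rc_3_1 lc_d_rc_27_0 lc_d_rc_27_0 lc_d_rc_20_3 lc_d_rc_28_2 lc_d_rc_30_2 lc_d_rc_20_3 lc_d_rc_29_2 lc_d_rc_12_1 lc_d_rc_3_3 lc_d_rc_33_2 lc_d_rc_28_2 lc_d_rc_29_2 lc_d_rc_29_2 lc_d_rc_12_1 lc_d_rc_20_3 lc_d_rc_30_2 lc_d_rc_30_2 lc_d_rc_28_2 lc_d_rc_33_2 lc_d_Cert_tree lc_d_rc_3_1 lc_d_rc_27_0 lc_d_rc_12_1 lc_d_rc_29_4 lc_d_rc_55_57 lc_d_rc_29_2 lc_d_rc_12_1 lc_d_rc_28_2 lc_d_rc_3_1 lc_d_rc_12_1 lc_d_rc_20_3 lc_d_rc_31_2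 lc_d_rc_20_3 lc_d_rc_29_4 lc_d_Cert_tree lc_d_rc_27_0 lc_d_rc_12_1 lc_d_rc_55_63 lc_d_rc_27_0 lc_d_rc_20_3 lc_d_rc_29_2 lc_d_rc_28_2 lc_d_rc_12_1) (@D3.rec (fun _ => (Cert rels S Gen.d)) lc_d_rc_32_0 lc_d_rc_3_1 lc_d_rc_32_2 lc_d_rc_27_0 lc_d_rc_27_0 lc_d_rc_20_3 lc_d_rc_28_2 lc_d_rc_30_2 lc_d_rc_20_3 lc_d_rc_29_2 lc_d_rc_12_1 lc_d_rc_20_3 lc_d_rc_12_1 lc_d_rc_29_0 lc_d_rc_28_2 lc_d_rc_29_2 lc_d_rc_29_2 lc_d_rc_20_3 lc_d_rc_12_1 lc_d_rc_20_3 lc_d_rc_30_2 lc_d_rc_12_1 lc_d_Cert_tree lc_d_rc_3_1 lc_d_rc_27_0 lc_d_rc_55_3 lc_d_rc_12_1 lc_d_rc_31_2 lc_d_rc_12_1 lc_d_rc_3_1 lc_d_rc_12_1 lc_d_Cert_tree lc_d_rc_30_2 lc_d_rc_27_0 lc_d_rc_12_1 lc_d_Cert_tree lc_d_rc_30_2 lc_d_rc_3_1 lc_d_rc_12_1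 lc_d_rc_28_2 lc_d_rc_3_1 lc_d_Cert_tree lc_d_rc_27_0 lc_d_rc_27_0 lc_d_rc_29_2 lc_d_rc_33_2 lc_d_rc_27_0 lc_d_rc_27_0 lc_d_rc_20_3 lc_d_rc_20_3 lc_d_rc_29_2) (@D3.rec (fun _ => (Cert rels S Gen.d)) lc_d_rc_12_1 lc_d_rc_20_3 lc_d_rc_28_2 lc_d_Cert_tree lc_d_rc_30_2 lc_d_rc_27_0 lc_d_rc_29_2 lc_d_rc_28_2 lc_d_rc_20_3 lc_d_rc_28_2 lc_d_rc_12_1 lc_d_rc_28_2 lc_d_rc_30_2 lc_d_rc_31_2 lc_d_rc_12_1 lc_d_Cert_tree lc_d_rc_3_1 lc_d_rc_12_1 lc_d_rc_27_0 lc_d_rc_29_2 lc_d_rc_29_2 lc_d_rc_12_1 lc_d_rc_31_0 lc_d_rc_12_1 lc_d_rc_31_2 lc_d_rc_3_1 lc_d_rc_29_2 lc_d_rc_29_2 lc_d_rc_12_1 lc_d_rc_20_3 lc_d_rc_30_2 lc_d_rc_33_2 lc_d_rc_29_2 lc_d_rc_12_1 lc_d_Cert_tree lc_d_rc_29_2 lc_d_rc_12_1 lc_d_rc_28_4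 lc_d_rc_3_1 lc_d_rc_12_1 lc_d_rc_20_3 lc_d_rc_12_1 lc_d_rc_20_3 lc_d_rc_3_1 lc_d_Cert_tree lc_d_rc_27_0 lc_d_rc_29_2 lc_d_rc_12_1 lc_d_rc_30_2 lc_d_rc_3_1 lc_d_rc_27_0) (@D3.rec (fun _ => (Cert rels S Gen.d)) lc_d_rc_29_2 lc_d_rc_28_2 lc_d_rc_32_2 lc_d_rc_28_2 lc_d_rc_12_1 lc_d_rc_28_4 lc_d_rc_12_1 lc_d_rc_20_3 lc_d_rc_3_1 lc_d_rc_55_15 lc_d_rc_3_1 lc_d_rc_55_60 lc_d_rc_30_0 lc_d_rc_55_21 lc_d_rc_32_2 lc_d_rc_28_2 lc_d_rc_20_3 lc_d_rc_28_2 lc_d_rc_55_39 lc_d_rc_30_0 lc_d_rc_29_2 lc_d_rc_12_1 lc_d_rc_20_3 lc_d_rc_30_2 lc_d_rc_3_1 lc_d_rc_12_1 lc_d_rc_20_3 lc_d_rc_30_2 lc_d_rc_28_2 lc_d_rc_12_1 lc_d_Cert_tree lc_d_rc_28_2 lc_d_rc_12_1 lc_d_Cert_tree lc_d_rc_30_2 lc_d_rc_3_1 lc_d_Cert_tree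 lc_d_rc_27_0 lc_d_rc_30_2 lc_d_rc_12_1 lc_d_rc_12_1 lc_d_rc_28_4 lc_d_rc_3_1 lc_d_Cert_tree lc_d_rc_27_0 lc_d_rc_20_3 lc_d_rc_3_1 lc_d_rc_12_1 lc_d_rc_30_2 lc_d_rc_55_24 lc_d_rc_3_1) (@D3.rec (fun _ => (Cert rels S Gen.d)) lc_d_rc_12_1 lc_d_Cert_tree lc_d_rc_27_0 lc_d_rc_29_2 lc_d_rc_28_2 lc_d_rc_33_2 lc_d_rc_33_2 lc_d_Cert_tree lc_d_rc_12_1 lc_d_rc_27_0 lc_d_rc_30_2 lc_d_rc_30_2 lc_d_rc_12_1 lc_d_rc_12_1 lc_d_rc_20_3 lc_d_rc_3_1 lc_d_rc_12_1 lc_d_rc_3_1 lc_d_rc_3_1 lc_d_rc_12_1 lc_d_rc_29_2 lc_d_rc_29_2 lc_d_rc_55_21 lc_d_rc_12_1 lc_d_rc_28_2 lc_d_rc_30_2 lc_d_rc_12_1 lc_d_Cert_tree lc_d_rc_3_1 lc_d_rc_30_2 lc_d_rc_28_2 lc_d_rc_12_1 lc_d_rc_12_1 lc_d_rc_20_3 lc_d_rc_3_1 lc_d_rc_3_1 lc_d_rc_12_1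 lc_d_rc_12_1 lc_d_rc_12_1 lc_d_Cert_tree lc_d_rc_3_1 lc_d_rc_3_1 lc_d_rc_30_2 lc_d_rc_55_48 lc_d_rc_3_1 lc_d_rc_3_1 lc_d_rc_3_1 lc_d_rc_12_1 lc_d_rc_20_3 lc_d_rc_3_1 lc_d_rc_12_1) (@D3.rec (fun _ => (Cert rels S Gen.d)) lc_d_Cert_tree lc_d_rc_27_0 lc_d_rc_29_2 lc_d_rc_33_2 lc_d_rc_12_1 lc_d_rc_3_1 lc_d_rc_55_54 lc_d_rc_12_1 lc_d_rc_30_2 lc_d_rc_3_1 lc_d_rc_12_1 lc_d_Cert_tree lc_d_rc_3_1 lc_d_rc_12_1 lc_d_rc_29_2 lc_d_rc_29_2 lc_d_rc_12_1 lc_d_rc_20_3 lc_d_rc_28_2 lc_d_rc_12_1 lc_d_rc_28_2 lc_d_rc_30_2 lc_d_rc_31_2 lc_d_rc_12_1 lc_d_Cert_tree lc_d_rc_3_1 lc_d_rc_20_3 lc_d_rc_28_2 lc_d_rc_12_1 lc_d_rc_20_3 lc_d_rc_28_2 lc_d_rc_12_1 lc_d_Cert_tree lc_d_rc_3_1 lc_d_rc_3_1 lc_d_Cert_tree lc_d_rc_27_0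 lc_d_Cert_tree lc_d_rc_30_2 lc_d_rc_27_0 lc_d_rc_29_2 lc_d_rc_20_3 lc_d_rc_28_2 lc_d_rc_12_1 lc_d_rc_12_1 lc_d_Cert_tree lc_d_rc_3_1 lc_d_rc_20_3 lc_d_rc_28_2 lc_d_rc_55_30 lc_d_rc_20_3) (@D3.rec (fun _ => (Cert rels S Gen.d)) lc_d_rc_28_2 lc_d_rc_12_1 lc_d_Cert_tree lc_d_rc_3_1 lc_d_rc_12_1 lc_d_Cert_tree lc_d_rc_30_2 lc_d_rc_3_1 lc_d_Cert_tree lc_d_rc_27_0 lc_d_rc_20_3 lc_d_rc_12_1 lc_d_rc_3_1 lc_d_rc_20_3 lc_d_rc_28_2 lc_d_rc_55_48 lc_d_Cert_tree lc_d_rc_55_21 lc_d_rc_20_5 lc_d_rc_3_1 lc_d_Cert_tree lc_d_rc_27_0 lc_d_Cert_tree lc_d_rc_27_0 lc_d_rc_29_2 lc_d_Cert_tree lc_d_rc_27_0 lc_d_rc_27_0 lc_d_rc_28_2 lc_d_rc_33_2 lc_d_rc_55_51 lc_d_rc_20_3 lc_d_rc_20_3 lc_d_rc_28_2 lc_d_rc_12_1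 lc_d_rc_29_4 lc_d_rc_29_2 lc_d_rc_12_1 lc_d_Cert_tree lc_d_rc_3_1 lc_d_rc_3_1 lc_d_rc_28_2 lc_d_Cert_tree lc_d_rc_30_2 lc_d_rc_29_4 lc_d_rc_20_3 lc_d_rc_28_2 lc_d_rc_20_3 lc_d_Cert_tree lc_d_rc_30_2 lc_d_rc_27_0) (@D3.rec (fun _ => (Cert rels S Gen.d)) lc_d_rc_30_2 lc_d_rc_31_2 lc_d_rc_20_3 lc_d_rc_28_2 lc_d_rc_33_2 lc_d_rc_12_1 lc_d_rc_20_3 lc_d_rc_28_2 lc_d_rc_12_1 lc_d_Cert_tree lc_d_rc_28_2 lc_d_rc_3_1 lc_d_rc_12_1 lc_d_rc_30_2 lc_d_rc_31_2 lc_d_rc_12_1 lc_d_Cert_tree lc_d_rc_3_1 lc_d_Cert_tree lc_d_rc_27_0 lc_d_rc_12_1 lc_d_rc_20_3 lc_d_rc_28_2 lc_d_rc_12_1 lc_d_Cert_tree lc_d_rc_3_1 lc_d_rc_12_1 lc_d_rc_20_3 lc_d_rc_12_1 lc_d_rc_3_1 lc_d_rc_29_2 lc_d_rc_28_2 lc_d_rc_12_1 lc_d_Cert_tree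 lc_d_rc_30_2 lc_d_rc_3_1 lc_d_Cert_tree lc_d_rc_27_0 lc_d_rc_12_1 lc_d_rc_3_1 lc_d_rc_20_3 lc_d_rc_12_1 lc_d_rc_12_1 lc_d_rc_3_1 lc_d_rc_12_1 lc_d_rc_3_1 lc_d_rc_12_1 lc_d_rc_12_1 lc_d_Cert_tree lc_d_rc_3_1 lc_d_Cert_tree) (@D3.rec (fun _ => (Cert rels S Gen.d)) lc_d_rc_27_0 lc_d_Cert_tree lc_d_rc_27_0 lc_d_rc_29_2 lc_d_Cert_tree lc_d_Cert_tree lc_d_rc_27_0 lc_d_rc_27_0 lc_d_rc_29_2 lc_d_rc_27_0 lc_d_rc_29_2 lc_d_rc_20_3 lc_d_rc_12_1 lc_d_rc_33_2 lc_d_rc_55_36 lc_d_rc_12_1 lc_d_rc_20_3 lc_d_rc_28_2 lc_d_rc_12_1 lc_d_Cert_tree lc_d_rc_28_2 lc_d_rc_3_1 lc_d_rc_3_3 lc_d_rc_29_2 lc_d_rc_12_1 lc_d_Cert_tree lc_d_rc_3_1 lc_d_Cert_tree lc_d_rc_27_0 lc_d_rc_12_1 lc_d_rc_12_1 lc_d_rc_20_3 lc_d_rc_3_1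 lc_d_rc_29_2 lc_d_rc_28_2 lc_d_rc_32_2 lc_d_rc_12_1 lc_d_Cert_tree lc_d_rc_12_1 lc_d_rc_3_1 lc_d_rc_20_3 lc_d_rc_28_2 lc_d_rc_12_1 lc_d_Cert_tree lc_d_rc_30_2 lc_d_rc_3_1 lc_d_Cert_tree lc_d_rc_27_0 lc_d_rc_3_1 lc_d_rc_12_1 lc_d_Cert_tree) (@D3.rec (fun _ => (Cert rels S Gen.d)) lc_d_rc_3_1 lc_d_Cert_tree lc_d_rc_27_0 lc_d_rc_29_2 lc_d_Cert_tree lc_d_rc_27_0 lc_d_rc_29_2 lc_d_rc_3_1 lc_d_rc_29_2 lc_d_rc_12_1 lc_d_Cert_tree lc_d_rc_12_1 lc_d_rc_12_1 lc_d_rc_3_1 lc_d_rc_12_1 lc_d_rc_3_1 lc_d_rc_20_3 lc_d_rc_28_2 lc_d_rc_31_2 lc_d_rc_28_2 lc_d_rc_55_27 lc_d_Cert_tree lc_d_rc_28_2 lc_d_rc_12_1 lc_d_Cert_tree lc_d_rc_3_1 lc_d_Cert_tree lc_d_rc_27_0 lc_d_rc_30_2 lc_d_rc_3_1 lc_d_Cert_tree lc_d_rc_27_0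 lc_d_Cert_tree lc_d_rc_27_0 lc_d_rc_30_2 lc_d_rc_30_2 lc_d_rc_12_1 lc_d_rc_20_3 lc_d_rc_30_2 lc_d_rc_3_1 lc_d_rc_12_1 lc_d_rc_20_3 lc_d_Cert_tree lc_d_rc_27_0 lc_d_rc_12_1 lc_d_rc_29_2 lc_d_rc_3_1 lc_d_rc_3_1 lc_d_Cert_tree lc_d_rc_27_0 lc_d_Cert_tree)
def ce_d_20 : D2 → D3 → (Cert rels S Gen.d) := @D2.rec (fun _ => D3 → (Cert rels S Gen.d)) (@D3.rec (fun _ => (Cert rels S Gen.d)) lc_d_rc_27_0 lc_d_rc_29_2 lc_d_rc_27_0 lc_d_rc_20_3 lc_d_rc_12_1 lc_d_rc_33_2 lc_d_rc_30_2 lc_d_rc_27_0 lc_d_rc_30_2 lc_d_rc_28_2 lc_d_rc_27_0 lc_d_Cert_tree lc_d_rc_27_0 lc_d_rc_29_2 lc_d_rc_27_0 lc_d_rc_20_3 lc_d_rc_12_1 lc_d_rc_33_2 lc_d_rc_28_2 lc_d_rc_33_2 lc_d_rc_20_3 lc_d_rc_3_1 lc_d_Cert_tree lc_d_rc_27_0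 lc_d_rc_3_1 lc_d_rc_33_2 lc_d_rc_3_1 lc_d_Cert_tree lc_d_rc_27_0 lc_d_rc_28_2 lc_d_rc_3_1 lc_d_rc_3_1 lc_d_rc_3_1 lc_d_rc_3_1 lc_d_rc_3_1 lc_d_rc_12_1 lc_d_rc_20_3 lc_d_rc_3_1 lc_d_rc_12_1 lc_d_Cert_tree lc_d_rc_3_1 lc_d_rc_12_1 lc_d_rc_20_3 lc_d_rc_3_1 lc_d_rc_12_1 lc_d_rc_3_1 lc_d_rc_12_1 lc_d_rc_28_2 lc_d_rc_3_1 lc_d_rc_29_4 lc_d_rc_12_1) (@D3.rec (fun _ => (Cert rels S Gen.d)) lc_d_rc_3_1 lc_d_rc_12_1 lc_d_rc_3_1 lc_d_rc_3_1 lc_d_rc_12_1 lc_d_Cert_tree lc_d_rc_3_1 lc_d_rc_12_1 lc_d_rc_20_3 lc_d_rc_28_2 lc_d_rc_12_1 lc_d_rc_30_0 lc_d_rc_30_2 lc_d_rc_12_1 lc_d_Cert_tree lc_d_rc_3_1 lc_d_rc_12_1 lc_d_rc_20_3 lc_d_rc_30_2 lc_d_rc_33_0 lc_d_rc_28_2 lc_d_rc_56_31 lc_d_rc_29_2 lc_d_rc_29_2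 lc_d_rc_12_1 lc_d_rc_20_3 lc_d_rc_3_1 lc_d_rc_12_1 lc_d_rc_20_3 lc_d_rc_31_2 lc_d_rc_3_1 lc_d_rc_12_1 lc_d_Cert_tree lc_d_rc_29_2 lc_d_rc_3_1 lc_d_rc_12_1 lc_d_rc_20_3 lc_d_rc_55_24 lc_d_Cert_tree lc_d_rc_12_1 lc_d_rc_33_2 lc_d_rc_29_4 lc_d_rc_3_1 lc_d_rc_12_1 lc_d_rc_3_1 lc_d_rc_12_1 lc_d_rc_29_2 lc_d_rc_27_0 lc_d_rc_20_3 lc_d_Cert_tree lc_d_rc_27_0) (@D3.rec (fun _ => (Cert rels S Gen.d)) lc_d_rc_12_1 lc_d_Cert_tree lc_d_rc_3_1 lc_d_rc_12_1 lc_d_rc_29_2 lc_d_rc_29_2 lc_d_rc_12_1 lc_d_rc_20_3 lc_d_rc_30_2 lc_d_rc_3_1 lc_d_rc_29_2 lc_d_rc_29_2 lc_d_rc_12_1 lc_d_rc_28_2 lc_d_rc_32_2 lc_d_rc_33_2 lc_d_rc_29_2 lc_d_Cert_tree lc_d_rc_3_1 lc_d_rc_55_21 lc_d_rc_12_1 lc_d_Cert_tree lc_d_rc_12_1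 lc_d_rc_3_1 lc_d_rc_12_1 lc_d_rc_29_2 lc_d_rc_12_1 lc_d_Cert_tree lc_d_rc_3_1 lc_d_Cert_tree lc_d_rc_27_0 lc_d_rc_3_1 lc_d_rc_3_1 lc_d_rc_3_1 lc_d_rc_12_1 lc_d_Cert_tree lc_d_rc_28_2 lc_d_rc_3_1 lc_d_rc_12_1 lc_d_rc_29_2 lc_d_rc_3_1 lc_d_Cert_tree lc_d_rc_27_0 lc_d_rc_12_1 lc_d_rc_20_3 lc_d_rc_3_1 lc_d_rc_55_57 lc_d_rc_32_2 lc_d_rc_28_2 lc_d_rc_12_1 lc_d_Cert_tree) (@D3.rec (fun _ => (Cert rels S Gen.d)) lc_d_rc_32_2 lc_d_rc_31_2 lc_d_rc_30_2 lc_d_rc_33_0 lc_d_rc_12_1 lc_d_rc_31_0 lc_d_rc_29_2 lc_d_rc_3_1 lc_d_rc_12_1 lc_d_rc_20_5 lc_d_rc_3_3 lc_d_rc_28_2 lc_d_rc_12_1 lc_d_rc_20_3 lc_d_rc_3_1 lc_d_rc_56_31 lc_d_Cert_tree lc_d_rc_12_1 lc_d_rc_33_2 lc_d_rc_12_1 lc_d_rc_12_1 lc_d_rc_12_1 lc_d_rc_3_1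 lc_d_rc_12_1 lc_d_rc_3_1 lc_d_rc_12_1 lc_d_Cert_tree lc_d_rc_12_1 lc_d_Cert_tree lc_d_rc_3_1 lc_d_Cert_tree lc_d_rc_27_0 lc_d_rc_3_1 lc_d_rc_55_54 lc_d_rc_30_2 lc_d_rc_12_3 lc_d_rc_55_24 lc_d_rc_12_1 lc_d_rc_20_3 lc_d_rc_3_1 lc_d_rc_12_1 lc_d_rc_3_1 lc_d_rc_3_1 lc_d_rc_3_1 lc_d_rc_31_2 lc_d_rc_3_1 lc_d_rc_3_1 lc_d_rc_3_1 lc_d_rc_12_1 lc_d_rc_20_3 lc_d_rc_20_3) (@D3.rec (fun _ => (Cert rels S Gen.d)) lc_d_rc_33_2 lc_d_rc_55_33 lc_d_Cert_tree lc_d_rc_29_2 lc_d_rc_3_1 lc_d_rc_12_1 lc_d_rc_20_3 lc_d_rc_33_2 lc_d_rc_28_2 lc_d_rc_12_1 lc_d_Cert_tree lc_d_rc_29_2 lc_d_rc_12_1 lc_d_rc_33_2 lc_d_rc_30_2 lc_d_rc_3_1 lc_d_rc_12_1 lc_d_rc_30_2 lc_d_rc_3_1 lc_d_rc_12_1 lc_d_rc_20_3 lc_d_rc_3_1 lc_d_rc_12_1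 lc_d_rc_20_3 lc_d_rc_12_1 lc_d_Cert_tree lc_d_rc_3_1 lc_d_rc_12_1 lc_d_rc_3_1 lc_d_rc_3_1 lc_d_rc_12_1 lc_d_rc_3_1 lc_d_rc_12_1 lc_d_rc_12_1 lc_d_Cert_tree lc_d_rc_27_1 lc_d_Cert_tree lc_d_rc_27_0 lc_d_rc_3_1 lc_d_rc_12_1 lc_d_rc_3_1 lc_d_rc_12_1 lc_d_rc_3_1 lc_d_rc_12_1 lc_d_rc_12_3 lc_d_rc_12_1 lc_d_rc_28_2 lc_d_rc_3_1 lc_d_rc_12_1 lc_d_rc_12_3 lc_d_rc_12_1) (@D3.rec (fun _ => (Cert rels S Gen.d)) lc_d_rc_3_1 lc_d_rc_28_2 lc_d_rc_12_1 lc_d_rc_3_1 lc_d_rc_12_1 lc_d_rc_3_1 lc_d_rc_3_1 lc_d_rc_3_1 lc_d_rc_3_1 lc_d_rc_12_1 lc_d_rc_12_1 lc_d_rc_29_2 lc_d_rc_3_1 lc_d_rc_3_1 lc_d_rc_12_1 lc_d_Cert_tree lc_d_rc_3_1 lc_d_rc_55_27 lc_d_Cert_tree lc_d_rc_3_1 lc_d_Cert_tree lc_d_rc_27_0 lc_d_rc_12_1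 lc_d_rc_20_3 lc_d_rc_3_1 lc_d_rc_12_1 lc_d_Cert_tree lc_d_rc_3_1 lc_d_rc_3_1 lc_d_rc_12_1 lc_d_rc_12_3 lc_d_rc_55_60 lc_d_Cert_tree lc_d_rc_31_2 lc_d_rc_3_1 lc_d_rc_12_1 lc_d_rc_3_1 lc_d_Cert_tree lc_d_rc_27_0 lc_d_rc_3_1 lc_d_rc_3_1 lc_d_rc_12_1 lc_d_rc_3_1 lc_d_rc_12_3 lc_d_Cert_tree lc_d_rc_27_0 lc_d_rc_3_1 lc_d_rc_3_1 lc_d_rc_12_3 lc_d_rc_3_1 lc_d_rc_12_1) (@D3.rec (fun _ => (Cert rels S Gen.d)) lc_d_rc_28_4 lc_d_rc_12_1 lc_d_rc_31_2 lc_d_rc_3_1 lc_d_Cert_tree lc_d_rc_27_0 lc_d_rc_12_1 lc_d_rc_28_2 lc_d_rc_3_1 lc_d_rc_56_31 lc_d_rc_56_45 lc_d_rc_12_1 lc_d_Cert_tree lc_d_rc_3_1 lc_d_rc_3_1 lc_d_Cert_tree lc_d_rc_27_0 lc_d_rc_3_1 lc_d_rc_29_2 lc_d_rc_3_1 lc_d_rc_12_1 lc_d_rc_28_2 lc_d_rc_12_1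 lc_d_Cert_tree lc_d_rc_3_1 lc_d_rc_3_1 lc_d_Cert_tree lc_d_rc_27_0 lc_d_rc_32_2 lc_d_rc_29_2 lc_d_rc_31_2 lc_d_Cert_tree lc_d_rc_30_2 lc_d_rc_33_2 lc_d_Cert_tree lc_d_rc_29_2 lc_d_Cert_tree lc_d_rc_27_0 lc_d_rc_3_1 lc_d_rc_12_1 lc_d_rc_28_2 lc_d_rc_3_1 lc_d_rc_12_1 lc_d_rc_3_1 lc_d_rc_3_1 lc_d_rc_3_1 lc_d_Cert_tree lc_d_rc_27_0 lc_d_rc_3_1 lc_d_Cert_tree lc_d_rc_27_0) (@D3.rec (fun _ => (Cert rels S Gen.d)) lc_d_Cert_tree lc_d_rc_27_0 lc_d_rc_28_2 lc_d_rc_3_1 lc_d_Cert_tree lc_d_rc_27_0 lc_d_rc_3_1 lc_d_rc_12_1 lc_d_rc_20_3 lc_d_rc_3_1 lc_d_rc_12_1 lc_d_rc_3_1 lc_d_rc_3_1 lc_d_rc_3_1 lc_d_rc_12_1 lc_d_Cert_tree lc_d_rc_27_0 lc_d_rc_29_2 lc_d_rc_12_1 lc_d_rc_31_2 lc_d_rc_30_2 lc_d_rc_12_1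 lc_d_rc_12_1 lc_d_rc_3_1 lc_d_rc_12_1 lc_d_Cert_tree lc_d_rc_27_0 lc_d_rc_3_1 lc_d_rc_3_1 lc_d_rc_3_1 lc_d_rc_12_1 lc_d_rc_20_3 lc_d_rc_3_1 lc_d_rc_12_1 lc_d_rc_12_1 lc_d_rc_12_1 lc_d_rc_3_1 lc_d_rc_3_1 lc_d_Cert_tree lc_d_rc_27_0 lc_d_rc_29_2 lc_d_rc_33_2 lc_d_rc_3_1 lc_d_rc_20_1 lc_d_rc_3_1 lc_d_rc_12_1 lc_d_rc_12_1 lc_d_rc_20_5 lc_d_rc_12_1 lc_d_Cert_tree lc_d_rc_27_0) (@D3.rec (fun _ => (Cert rels S Gen.d)) lc_d_rc_29_2 lc_d_rc_30_0 lc_d_rc_33_2 lc_d_rc_29_4 lc_d_rc_29_2 lc_d_rc_30_0 lc_d_rc_3_1 lc_d_rc_28_2 lc_d_Cert_tree lc_d_rc_30_2 lc_d_rc_29_2 lc_d_rc_28_2 lc_d_rc_20_3 lc_d_rc_28_2 lc_d_rc_12_1 lc_d_rc_28_2 lc_d_rc_30_2 lc_d_rc_31_2 lc_d_rc_12_1 lc_d_Cert_tree lc_d_rc_3_1 lc_d_rc_55_36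 lc_d_rc_33_2 lc_d_rc_29_2 lc_d_rc_12_1 lc_d_rc_20_3 lc_d_rc_30_2 lc_d_rc_31_2 lc_d_rc_20_3 lc_d_rc_28_2 lc_d_rc_12_1 lc_d_Cert_tree lc_d_rc_3_1 lc_d_rc_20_3 lc_d_rc_33_2 lc_d_rc_12_1 lc_d_Cert_tree lc_d_rc_29_2 lc_d_rc_3_1 lc_d_rc_12_1 lc_d_rc_20_3 lc_d_rc_3_1 lc_d_Cert_tree lc_d_rc_27_0 lc_d_Cert_tree lc_d_rc_30_2 lc_d_rc_27_0 lc_d_rc_29_2 lc_d_rc_33_0 lc_d_rc_12_1 lc_d_Cert_tree) (@D3.rec (fun _ => (Cert rels S Gen.d)) lc_d_rc_28_2 lc_d_rc_3_1 lc_d_rc_12_1 lc_d_rc_20_3 lc_d_rc_31_2 lc_d_rc_55_42 lc_d_Cert_tree lc_d_rc_30_2 lc_d_rc_3_1 lc_d_Cert_tree lc_d_rc_27_0 lc_d_rc_20_3 lc_d_rc_28_2 lc_d_rc_55_21 lc_d_rc_28_2 lc_d_rc_3_1 lc_d_rc_12_1 lc_d_rc_20_3 lc_d_rc_28_2 lc_d_rc_56_24 lc_d_Cert_tree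 lc_d_rc_29_2 lc_d_rc_12_1 lc_d_rc_31_2 lc_d_rc_30_2 lc_d_rc_12_3 lc_d_rc_12_1 lc_d_rc_31_0 lc_d_rc_29_2 lc_d_rc_3_1 lc_d_Cert_tree lc_d_rc_27_0 lc_d_rc_20_3 lc_d_rc_3_1 lc_d_rc_12_1 lc_d_rc_20_3 lc_d_Cert_tree lc_d_rc_27_0 lc_d_rc_29_2 lc_d_rc_27_0 lc_d_rc_28_2 lc_d_rc_27_0 lc_d_rc_28_2 lc_d_rc_33_2 lc_d_rc_33_2 lc_d_rc_12_1 lc_d_rc_3_1 lc_d_rc_20_3 lc_d_rc_20_3 lc_d_rc_28_2 lc_d_rc_12_1) (@D3.rec (fun _ => (Cert rels S Gen.d)) lc_d_rc_12_1 lc_d_rc_20_3 lc_d_rc_3_1 lc_d_rc_55_54 lc_d_Cert_tree lc_d_rc_3_1 lc_d_rc_12_1 lc_d_rc_3_1 lc_d_rc_12_1 lc_d_rc_12_1 lc_d_Cert_tree lc_d_rc_3_1 lc_d_rc_27_0 lc_d_rc_12_1 lc_d_Cert_tree lc_d_rc_3_1 lc_d_rc_12_1 lc_d_rc_3_1 lc_d_rc_12_1 lc_d_rc_12_1 lc_d_Cert_tree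 lc_d_rc_3_1 lc_d_rc_3_1 lc_d_rc_12_1 lc_d_rc_20_3 lc_d_rc_3_1 lc_d_rc_12_1 lc_d_rc_3_1 lc_d_rc_20_3 lc_d_rc_28_2 lc_d_rc_30_2 lc_d_rc_29_2 lc_d_rc_28_2 lc_d_rc_20_3 lc_d_rc_28_2 lc_d_rc_12_1 lc_d_rc_31_2 lc_d_rc_30_2 lc_d_rc_31_2 lc_d_rc_29_2 lc_d_rc_29_2 lc_d_rc_12_1 lc_d_Cert_tree lc_d_rc_3_1 lc_d_rc_3_1 lc_d_rc_28_2 lc_d_rc_20_3 lc_d_Cert_tree lc_d_rc_30_2 lc_d_rc_27_0 lc_d_rc_12_1) (@D3.rec (fun _ => (Cert rels S Gen.d)) lc_d_Cert_tree lc_d_rc_29_2 lc_d_rc_12_1 lc_d_Cert_tree lc_d_rc_28_2 lc_d_rc_3_1 lc_d_rc_12_1 lc_d_rc_30_2 lc_d_rc_31_2 lc_d_rc_3_1 lc_d_Cert_tree lc_d_rc_27_0 lc_d_rc_20_3 lc_d_rc_28_2 lc_d_rc_12_1 lc_d_Cert_tree lc_d_rc_12_3 lc_d_rc_12_1 lc_d_rc_20_3 lc_d_rc_12_1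 lc_d_Cert_tree lc_d_rc_3_1 lc_d_rc_12_1 lc_d_rc_20_3 lc_d_rc_55_54 lc_d_rc_28_2 lc_d_rc_30_2 lc_d_rc_3_1 lc_d_Cert_tree lc_d_rc_27_0 lc_d_rc_55_51 lc_d_Cert_tree lc_d_rc_3_1 lc_d_rc_12_1 lc_d_rc_12_1 lc_d_rc_12_1 lc_d_Cert_tree lc_d_rc_3_1 lc_d_Cert_tree lc_d_rc_27_0 lc_d_rc_30_2 lc_d_rc_3_1 lc_d_rc_3_1 lc_d_rc_12_1 lc_d_rc_12_1 lc_d_rc_20_3 lc_d_rc_3_1 lc_d_rc_12_1 lc_d_Cert_tree lc_d_rc_27_0 lc_d_rc_29_2) (@D3.rec (fun _ => (Cert rels S Gen.d)) lc_d_rc_29_2 lc_d_rc_33_2 lc_d_rc_20_3 lc_d_rc_28_2 lc_d_rc_12_1 lc_d_Cert_tree lc_d_rc_30_2 lc_d_rc_3_1 lc_d_Cert_tree lc_d_rc_27_0 lc_d_rc_12_1 lc_d_rc_20_3 lc_d_rc_3_1 lc_d_rc_12_1 lc_d_rc_20_3 lc_d_rc_3_1 lc_d_rc_12_1 lc_d_rc_20_3 lc_d_rc_55_36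 lc_d_rc_29_2 lc_d_rc_12_1 lc_d_rc_3_3 lc_d_rc_29_2 lc_d_Cert_tree lc_d_rc_27_0 lc_d_rc_12_1 lc_d_rc_3_1 lc_d_rc_12_1 lc_d_rc_12_1 lc_d_rc_30_0 lc_d_rc_20_3 lc_d_rc_12_1 lc_d_rc_3_1 lc_d_rc_3_1 lc_d_rc_12_1 lc_d_rc_29_0 lc_d_rc_55_48 lc_d_rc_27_0 lc_d_rc_55_24 lc_d_rc_28_4 lc_d_rc_12_1 lc_d_rc_3_1 lc_d_rc_3_1 lc_d_rc_12_1 lc_d_rc_3_1 lc_d_rc_12_1 lc_d_rc_3_1 lc_d_rc_27_0 lc_d_rc_20_3 lc_d_rc_12_1 lc_d_rc_33_2) (@D3.rec (fun _ => (Cert rels S Gen.d)) lc_d_rc_20_3 lc_d_rc_12_1 lc_d_rc_27_0 lc_d_rc_3_3 lc_d_rc_12_1 lc_d_rc_20_3 lc_d_rc_55_36 lc_d_rc_31_0 lc_d_rc_3_1 lc_d_rc_3_3 lc_d_rc_29_0 lc_d_rc_3_1 lc_d_rc_12_1 lc_d_rc_29_0 lc_d_rc_12_1 lc_d_rc_29_2 lc_d_rc_28_2 lc_d_rc_20_3 lc_d_rc_28_2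 lc_d_rc_12_1 lc_d_rc_28_2 lc_d_rc_30_2 lc_d_rc_12_1 lc_d_Cert_tree lc_d_rc_3_1 lc_d_rc_33_2 lc_d_rc_55_63 lc_d_rc_20_3 lc_d_rc_12_1 lc_d_Cert_tree lc_d_rc_29_2 lc_d_rc_3_1 lc_d_rc_12_1 lc_d_rc_20_3 lc_d_rc_12_1 lc_d_rc_30_0 lc_d_rc_33_2 lc_d_Cert_tree lc_d_rc_27_0 lc_d_rc_12_3 lc_d_rc_27_0 lc_d_rc_12_1 lc_d_rc_3_1 lc_d_rc_12_1 lc_d_rc_3_1 lc_d_rc_12_1 lc_d_rc_31_2 lc_d_rc_12_1 lc_d_Cert_tree lc_d_rc_27_0 lc_d_rc_3_1) (@D3.rec (fun _ => (Cert rels S Gen.d)) lc_d_rc_12_3 lc_d_rc_29_2 lc_d_rc_12_1 lc_d_rc_12_1 lc_d_rc_28_4 lc_d_rc_3_1 lc_d_rc_12_1 lc_d_rc_12_1 lc_d_rc_29_2 lc_d_rc_28_2 lc_d_rc_20_3 lc_d_rc_28_2 lc_d_rc_12_1 lc_d_rc_33_2 lc_d_rc_30_2 lc_d_rc_31_2 lc_d_rc_12_1 lc_d_Cert_tree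 lc_d_rc_3_1 lc_d_rc_12_1 lc_d_rc_3_1 lc_d_rc_12_1 lc_d_rc_20_3 lc_d_rc_12_1 lc_d_Cert_tree lc_d_rc_29_2 lc_d_rc_12_1 lc_d_rc_3_1 lc_d_rc_12_1 lc_d_rc_31_0 lc_d_rc_3_1 lc_d_Cert_tree lc_d_rc_27_0 lc_d_rc_29_2 lc_d_rc_27_1 lc_d_rc_3_1 lc_d_rc_12_1 lc_d_rc_12_3 lc_d_rc_3_1 lc_d_Cert_tree lc_d_rc_27_0 lc_d_rc_28_2 lc_d_rc_3_1 lc_d_Cert_tree lc_d_rc_27_0 lc_d_rc_20_3 lc_d_rc_3_1 lc_d_rc_12_1 lc_d_Cert_tree lc_d_rc_27_0 lc_d_rc_29_2) (@D3.rec (fun _ => (Cert rels S Gen.d)) lc_d_rc_28_2 lc_d_rc_33_2 lc_d_rc_29_2 lc_d_rc_20_3 lc_d_rc_28_2 lc_d_rc_12_1 lc_d_rc_12_1 lc_d_Cert_tree lc_d_rc_3_1 lc_d_rc_12_1 lc_d_Cert_tree lc_d_rc_30_2 lc_d_rc_27_0 lc_d_rc_30_2 lc_d_rc_31_2 lc_d_rc_33_2 lc_d_rc_12_1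 lc_d_Cert_tree lc_d_rc_29_2 lc_d_rc_12_1 lc_d_Cert_tree lc_d_rc_28_2 lc_d_rc_3_1 lc_d_rc_12_1 lc_d_rc_30_2 lc_d_rc_31_2 lc_d_rc_32_2 lc_d_rc_3_1 lc_d_Cert_tree lc_d_rc_27_0 lc_d_rc_3_1 lc_d_rc_29_2 lc_d_rc_29_2 lc_d_rc_12_1 lc_d_Cert_tree lc_d_rc_3_1 lc_d_rc_12_1 lc_d_rc_28_0 lc_d_rc_56_31 lc_d_rc_12_1 lc_d_Cert_tree lc_d_rc_29_2 lc_d_rc_3_1 lc_d_rc_12_1 lc_d_rc_20_3 lc_d_rc_12_1 lc_d_Cert_tree lc_d_rc_29_2 lc_d_rc_3_1 lc_d_Cert_tree lc_d_rc_27_0) (@D3.rec (fun _ => (Cert rels S Gen.d)) lc_d_rc_30_2 lc_d_rc_3_1 lc_d_rc_28_4 lc_d_rc_3_1 lc_d_rc_12_1 lc_d_rc_27_1 lc_d_rc_12_1 lc_d_Cert_tree lc_d_rc_27_0 lc_d_rc_29_2 lc_d_rc_33_2 lc_d_rc_28_0 lc_d_rc_12_1 lc_d_rc_32_2 lc_d_rc_28_2 lc_d_rc_12_1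 lc_d_Cert_tree lc_d_rc_12_1 lc_d_rc_28_2 lc_d_rc_3_1 lc_d_rc_12_1 lc_d_rc_3_1 lc_d_rc_12_1 lc_d_rc_27_1 lc_d_rc_12_3 lc_d_rc_56_24 lc_d_rc_3_1 lc_d_rc_12_1 lc_d_Cert_tree lc_d_rc_29_2 lc_d_rc_12_1 lc_d_rc_33_2 lc_d_rc_33_2 lc_d_rc_12_3 lc_d_rc_12_1 lc_d_rc_29_2 lc_d_rc_3_1 lc_d_rc_12_1 lc_d_rc_28_2 lc_d_rc_28_2 lc_d_rc_12_1 lc_d_rc_12_1 lc_d_Cert_tree lc_d_rc_28_2 lc_d_rc_3_1 lc_d_Cert_tree lc_d_rc_27_0 lc_d_rc_30_2 lc_d_rc_3_1 lc_d_Cert_tree lc_d_rc_27_0) (@D3.rec (fun _ => (Cert rels S Gen.d)) lc_d_rc_30_2 lc_d_rc_12_1 lc_d_Cert_tree lc_d_rc_27_0 lc_d_rc_30_2 lc_d_rc_30_2 lc_d_rc_31_2 lc_d_rc_3_1 lc_d_rc_12_1 lc_d_Cert_tree lc_d_rc_27_0 lc_d_rc_20_1 lc_d_rc_29_2 lc_d_rc_3_1 lc_d_rc_12_1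 lc_d_rc_27_1 lc_d_rc_3_1 lc_d_rc_27_0 lc_d_rc_12_1 lc_d_rc_33_2 lc_d_rc_28_2 lc_d_rc_27_0 lc_d_rc_30_2 lc_d_rc_28_2 lc_d_rc_20_3 lc_d_rc_3_1 lc_d_rc_12_1 lc_d_rc_3_1 lc_d_rc_3_1 lc_d_rc_12_1 lc_d_Cert_tree lc_d_rc_3_1 lc_d_rc_3_1 lc_d_rc_12_1 lc_d_rc_30_2 lc_d_rc_3_1 lc_d_Cert_tree lc_d_rc_27_0 lc_d_rc_12_1 lc_d_Cert_tree lc_d_rc_3_1 lc_d_rc_3_1 lc_d_rc_12_1 lc_d_rc_3_1 lc_d_rc_3_1 lc_d_rc_56_38 lc_d_Cert_tree lc_d_rc_27_0 lc_d_rc_20_5 lc_d_rc_3_1 lc_d_rc_12_1) (@D3.rec (fun _ => (Cert rels S Gen.d)) lc_d_rc_3_1 lc_d_rc_27_0 lc_d_rc_56_31 lc_d_rc_28_2 lc_d_rc_3_1 lc_d_rc_20_1 lc_d_rc_3_1 lc_d_rc_12_1 lc_d_rc_3_1 lc_d_Cert_tree lc_d_rc_27_0 lc_d_rc_3_1 lc_d_rc_56_31 lc_d_Cert_tree lc_d_rc_3_1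 lc_d_rc_12_1 lc_d_Cert_tree lc_d_rc_28_2 lc_d_rc_3_1 lc_d_rc_12_1 lc_d_rc_30_2 lc_d_rc_31_2 lc_d_rc_3_1 lc_d_Cert_tree lc_d_rc_27_0 lc_d_rc_12_1 lc_d_Cert_tree lc_d_rc_56_31 lc_d_rc_12_1 lc_d_Cert_tree lc_d_rc_30_2 lc_d_rc_3_1 lc_d_Cert_tree lc_d_rc_27_0 lc_d_Cert_tree lc_d_rc_27_0 lc_d_rc_29_2 lc_d_rc_27_0 lc_d_rc_29_2 lc_d_rc_12_1 lc_d_Cert_tree lc_d_rc_3_1 lc_d_rc_3_1 lc_d_Cert_tree lc_d_rc_27_0 lc_d_rc_12_1 lc_d_Cert_tree lc_d_rc_3_1 lc_d_rc_12_1 lc_d_Cert_tree lc_d_rc_3_1) (@D3.rec (fun _ => (Cert rels S Gen.d)) lc_d_Cert_tree lc_d_rc_27_0 lc_d_rc_3_1 lc_d_Cert_tree lc_d_rc_27_0 lc_d_rc_29_2 lc_d_Cert_tree lc_d_rc_27_0 lc_d_rc_12_1 lc_d_rc_3_1 lc_d_rc_12_1 lc_d_Cert_tree lc_d_rc_27_1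 lc_d_Cert_tree lc_d_rc_27_0 lc_d_rc_3_1 lc_d_Cert_tree lc_d_rc_27_0 lc_d_rc_29_2 lc_d_rc_27_0 lc_d_rc_12_1 lc_d_rc_33_2 lc_d_rc_27_0 lc_d_rc_20_5 lc_d_rc_20_3 lc_d_rc_12_1 lc_d_Cert_tree lc_d_rc_3_1 lc_d_rc_12_1 lc_d_Cert_tree lc_d_rc_3_1 lc_d_Cert_tree lc_d_rc_27_0 lc_d_rc_12_1 lc_d_Cert_tree lc_d_rc_30_2 lc_d_rc_27_0 lc_d_rc_30_2 lc_d_rc_31_2 lc_d_rc_30_0 lc_d_rc_12_1 lc_d_Cert_tree lc_d_rc_28_2 lc_d_rc_3_1 lc_d_Cert_tree lc_d_rc_27_0 lc_d_rc_30_2 lc_d_rc_31_2 lc_d_rc_30_2 lc_d_rc_12_1 lc_d_rc_28_2) (@D3.rec (fun _ => (Cert rels S Gen.d)) lc_d_rc_12_1 lc_d_rc_3_1 lc_d_rc_12_1 lc_d_Cert_tree lc_d_rc_30_2 lc_d_rc_3_1 lc_d_Cert_tree lc_d_rc_27_0 lc_d_rc_30_2 lc_d_rc_28_2 lc_d_rc_3_1 lc_d_rc_12_1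 lc_d_rc_29_2 lc_d_rc_3_1 lc_d_Cert_tree lc_d_rc_27_0 lc_d_Cert_tree lc_d_rc_27_0 lc_d_rc_29_2 lc_d_rc_3_1 lc_d_rc_12_1 lc_d_Cert_tree lc_d_rc_3_1 lc_d_Cert_tree lc_d_rc_27_0 lc_d_rc_3_1 lc_d_rc_12_1 lc_d_rc_3_1 lc_d_rc_31_2 lc_d_Cert_tree lc_d_rc_3_1 lc_d_Cert_tree lc_d_rc_27_0 lc_d_rc_31_2 lc_d_Cert_tree lc_d_rc_27_0 lc_d_rc_29_2 lc_d_rc_12_3 lc_d_rc_12_1 lc_d_rc_3_1 lc_d_rc_3_1 lc_d_rc_3_1 lc_d_rc_3_1 lc_d_rc_3_1 lc_d_Cert_tree lc_d_rc_27_0 lc_d_Cert_tree lc_d_rc_27_0 lc_d_rc_29_2 lc_d_rc_27_0 lc_d_rc_12_1) (@D3.rec (fun _ => (Cert rels S Gen.d)) lc_d_rc_12_1 lc_d_rc_33_2 lc_d_rc_27_0 lc_d_rc_27_0 lc_d_rc_29_2 lc_d_rc_20_3 lc_d_rc_33_2 lc_d_rc_29_2 lc_d_rc_33_2 lc_d_Cert_tree lc_d_rc_12_1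 lc_d_rc_3_1 lc_d_rc_29_2 lc_d_rc_12_1 lc_d_Cert_tree lc_d_rc_3_1 lc_d_Cert_tree lc_d_rc_27_0 lc_d_rc_12_3 lc_d_rc_31_2 lc_d_rc_12_1 lc_d_rc_3_1 lc_d_Cert_tree lc_d_rc_27_0 lc_d_Cert_tree lc_d_rc_27_0 lc_d_rc_29_2 lc_d_rc_3_1 lc_d_rc_3_1 lc_d_rc_12_1 lc_d_rc_12_1 lc_d_Cert_tree lc_d_rc_12_1 lc_d_rc_3_1 lc_d_Cert_tree lc_d_rc_27_0 lc_d_rc_3_1 lc_d_rc_12_1 lc_d_rc_20_3 lc_d_rc_30_2 lc_d_rc_3_1 lc_d_Cert_tree lc_d_rc_27_0 lc_d_rc_30_2 lc_d_Cert_tree lc_d_rc_27_0 lc_d_rc_29_2 lc_d_rc_3_1 lc_d_Cert_tree lc_d_rc_27_0 lc_d_Cert_tree) (@D3.rec (fun _ => (Cert rels S Gen.d)) lc_d_rc_27_0 lc_d_rc_12_1 lc_d_rc_29_2 lc_d_rc_27_0 lc_d_rc_20_3 lc_d_rc_56_38 lc_d_rc_32_2 lc_d_rc_12_1 lc_d_rc_12_1 lc_d_Cert_tree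 lc_d_rc_27_0 lc_d_rc_3_1 lc_d_rc_3_1 lc_d_rc_12_1 lc_d_Cert_tree lc_d_rc_29_2 lc_d_rc_29_2 lc_d_Cert_tree lc_d_rc_28_2 lc_d_rc_12_1 lc_d_Cert_tree lc_d_rc_27_0 lc_d_rc_30_2 lc_d_rc_3_1 lc_d_Cert_tree lc_d_rc_27_0 lc_d_Cert_tree lc_d_rc_27_0 lc_d_rc_30_2 lc_d_rc_30_2 lc_d_rc_29_2 lc_d_Cert_tree lc_d_rc_27_0 lc_d_rc_27_0 lc_d_rc_30_2 lc_d_rc_30_2 lc_d_rc_28_2 lc_d_rc_3_1 lc_d_rc_12_1 lc_d_rc_20_3 lc_d_rc_3_1 lc_d_rc_12_1 lc_d_rc_27_0 lc_d_rc_3_1 lc_d_rc_12_1 lc_d_rc_33_2 lc_d_Cert_tree lc_d_rc_27_0 lc_d_rc_27_0 lc_d_rc_12_1 lc_d_rc_33_2) (@D3.rec (fun _ => (Cert rels S Gen.d)) lc_d_rc_3_1 lc_d_rc_3_1 lc_d_Cert_tree lc_d_rc_12_1 lc_d_rc_30_2 lc_d_rc_28_2 lc_d_rc_28_2 lc_d_rc_27_0 lc_d_rc_31_2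 lc_d_rc_33_2 lc_d_rc_20_3 lc_d_rc_3_1 lc_d_rc_29_2 lc_d_rc_12_1 lc_d_Cert_tree lc_d_rc_27_0 lc_d_rc_27_0 lc_d_rc_28_2 lc_d_rc_3_1 lc_d_rc_12_1 lc_d_rc_3_1 lc_d_Cert_tree lc_d_rc_27_0 lc_d_rc_3_1 lc_d_rc_12_1 lc_d_rc_3_1 lc_d_rc_3_1 lc_d_rc_12_1 lc_d_rc_3_1 lc_d_rc_3_1 lc_d_rc_3_1 lc_d_Cert_tree lc_d_rc_27_0 lc_d_rc_3_1 lc_d_rc_12_1 lc_d_rc_31_2 lc_d_rc_3_1 lc_d_rc_55_36 lc_d_rc_29_2 lc_d_rc_29_2 lc_d_Cert_tree lc_d_rc_27_0 lc_d_rc_3_1 lc_d_rc_12_1 lc_d_rc_28_2 lc_d_rc_12_1 lc_d_Cert_tree lc_d_rc_3_1 lc_d_rc_12_1 lc_d_rc_29_2 lc_d_rc_29_2) (@D3.rec (fun _ => (Cert rels S Gen.d)) lc_d_rc_3_1 lc_d_rc_12_1 lc_d_rc_3_1 lc_d_rc_12_1 lc_d_rc_20_3 lc_d_rc_3_1 lc_d_Cert_tree lc_d_rc_27_0 lc_d_rc_29_4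 lc_d_rc_3_1 lc_d_rc_12_1 lc_d_rc_20_1 lc_d_Cert_tree lc_d_rc_27_0 lc_d_rc_33_2 lc_d_rc_12_1 lc_d_rc_3_1 lc_d_rc_3_1 lc_d_rc_3_1 lc_d_Cert_tree lc_d_rc_27_0 lc_d_rc_3_1 lc_d_Cert_tree lc_d_rc_27_0 lc_d_rc_3_1 lc_d_rc_3_3 lc_d_Cert_tree lc_d_rc_29_2 lc_d_rc_3_1 lc_d_rc_55_21 lc_d_rc_30_2 lc_d_rc_12_1 lc_d_Cert_tree lc_d_rc_3_1 lc_d_rc_12_1 lc_d_rc_55_21 lc_d_Cert_tree lc_d_rc_29_2 lc_d_Cert_tree lc_d_rc_27_0 lc_d_rc_3_1 lc_d_rc_27_1 lc_d_Cert_tree lc_d_rc_27_0 lc_d_rc_3_1 lc_d_rc_3_1 lc_d_rc_29_2 lc_d_rc_3_1 lc_d_Cert_tree lc_d_rc_27_0 lc_d_Cert_tree) (@D3.rec (fun _ => (Cert rels S Gen.d)) lc_d_rc_27_0 lc_d_rc_3_1 lc_d_Cert_tree lc_d_rc_27_0 lc_d_rc_29_2 lc_d_rc_12_1 lc_d_rc_12_1 lc_d_Cert_tree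 lc_d_rc_27_0 lc_d_rc_32_2 lc_d_rc_3_1 lc_d_rc_12_1 lc_d_rc_27_0 lc_d_rc_12_1 lc_d_Cert_tree lc_d_rc_20_1 lc_d_Cert_tree lc_d_rc_27_0 lc_d_rc_32_2 lc_d_rc_12_1 lc_d_rc_32_2 lc_d_rc_31_2 lc_d_rc_28_2 lc_d_rc_55_33 lc_d_rc_29_2 lc_d_rc_3_1 lc_d_rc_32_2 lc_d_rc_3_3 lc_d_rc_3_1 lc_d_rc_12_1 lc_d_rc_3_1 lc_d_Cert_tree lc_d_rc_27_0 lc_d_rc_20_3 lc_d_rc_12_1 lc_d_rc_3_1 lc_d_rc_3_1 lc_d_rc_3_1 lc_d_rc_12_1 lc_d_Cert_tree lc_d_rc_27_0 lc_d_rc_3_1 lc_d_Cert_tree lc_d_rc_27_0 lc_d_Cert_tree lc_d_rc_27_0 lc_d_rc_3_1 lc_d_rc_12_1 lc_d_rc_20_5 lc_d_rc_3_1 lc_d_rc_12_1) (@D3.rec (fun _ => (Cert rels S Gen.d)) lc_d_rc_3_1 lc_d_rc_3_1 lc_d_rc_12_1 lc_d_rc_12_1 lc_d_Cert_tree lc_d_rc_33_2 lc_d_rc_27_1 lc_d_Cert_tree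 lc_d_rc_27_0 lc_d_rc_29_2 lc_d_rc_3_1 lc_d_rc_12_1 lc_d_rc_56_24 lc_d_Cert_tree lc_d_rc_30_2 lc_d_rc_3_1 lc_d_Cert_tree lc_d_rc_27_0 lc_d_rc_3_1 lc_d_rc_3_1 lc_d_rc_12_1 lc_d_rc_33_2 lc_d_rc_3_1 lc_d_rc_12_1 lc_d_rc_3_1 lc_d_rc_12_1 lc_d_rc_3_1 lc_d_rc_12_1 lc_d_rc_20_5 lc_d_Cert_tree lc_d_rc_27_0 lc_d_rc_3_1 lc_d_rc_3_1 lc_d_rc_3_1 lc_d_rc_12_3 lc_d_Cert_tree lc_d_rc_27_0 lc_d_Cert_tree lc_d_rc_27_0 lc_d_rc_3_1 lc_d_rc_28_2 lc_d_rc_20_5 lc_d_rc_28_2 lc_d_rc_3_1 lc_d_rc_3_1 lc_d_rc_3_1 lc_d_rc_28_4 lc_d_rc_3_1 lc_d_rc_3_1 lc_d_rc_29_2 lc_d_rc_3_1)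
def ce_d_21 : D2 → D3 → (Cert rels S Gen.d) := @D2.rec (fun _ => D3 → (Cert rels S Gen.d)) (@D3.rec (fun _ => (Cert rels S Gen.d)) lc_d_Cert_tree lc_d_rc_27_0 lc_d_rc_3_1 lc_d_Cert_tree lc_d_rc_27_0 lc_d_Cert_tree lc_d_rc_27_0 lc_d_rc_3_1 lc_d_rc_12_1 lc_d_rc_20_1 lc_d_Cert_tree lc_d_rc_27_0 lc_d_rc_3_1 lc_d_rc_12_3 lc_d_Cert_tree lc_d_rc_27_0 lc_d_rc_3_1 lc_d_Cert_tree lc_d_rc_27_0 lc_d_rc_3_1 lc_d_Cert_tree lc_d_rc_27_0 lc_d_rc_3_1 lc_d_rc_55_24 lc_d_rc_3_1 lc_d_rc_12_1 lc_d_Cert_tree lc_d_rc_27_0 lc_d_rc_3_1 lc_d_rc_55_21 lc_d_rc_56_31 lc_d_rc_3_1 lc_d_Cert_tree lc_d_rc_27_0 lc_d_Cert_tree lc_d_rc_27_0 lc_d_rc_3_1 lc_d_rc_12_1 lc_d_rc_28_0 lc_d_Cert_tree lc_d_rc_27_0 lc_d_Cert_tree lc_d_rc_27_0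 lc_d_rc_29_2 lc_d_rc_30_0 lc_d_Cert_tree lc_d_rc_29_2 lc_d_rc_31_2 lc_d_Cert_tree lc_d_rc_27_0 lc_d_rc_33_2) (@D3.rec (fun _ => (Cert rels S Gen.d)) lc_d_Cert_tree lc_d_rc_27_0 lc_d_Cert_tree lc_d_rc_27_0 lc_d_rc_3_1 lc_d_rc_12_1 lc_d_rc_3_1 lc_d_Cert_tree lc_d_rc_27_0 lc_d_Cert_tree lc_d_rc_27_0 lc_d_rc_27_0 lc_d_rc_20_3 lc_d_rc_28_2 lc_d_Cert_tree lc_d_rc_27_0 lc_d_rc_3_1 lc_d_rc_12_1 lc_d_rc_3_1 lc_d_rc_3_1 lc_d_rc_27_0 lc_d_rc_12_1 lc_d_rc_33_2 lc_d_rc_3_1 lc_d_rc_12_1 lc_d_rc_20_5 lc_d_rc_12_3 lc_d_rc_27_0 lc_d_rc_3_1 lc_d_rc_12_1 lc_d_rc_12_1 lc_d_rc_3_1 lc_d_Cert_tree lc_d_rc_27_0 lc_d_rc_29_2 lc_d_rc_33_2 lc_d_rc_3_1 lc_d_rc_3_1 lc_d_rc_3_1 lc_d_rc_27_0 lc_d_rc_12_1 lc_d_rc_12_1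 lc_d_rc_33_2 lc_d_rc_55_27 lc_d_Cert_tree lc_d_rc_12_3 lc_d_rc_33_0 lc_d_Cert_tree lc_d_rc_30_2 lc_d_rc_27_0 lc_d_rc_30_2) (@D3.rec (fun _ => (Cert rels S Gen.d)) lc_d_rc_31_2 lc_d_rc_12_1 lc_d_Cert_tree lc_d_rc_29_2 lc_d_rc_12_1 lc_d_Cert_tree lc_d_rc_28_2 lc_d_rc_3_1 lc_d_rc_12_1 lc_d_rc_30_2 lc_d_rc_31_2 lc_d_rc_3_1 lc_d_Cert_tree lc_d_rc_27_0 lc_d_rc_32_2 lc_d_rc_55_36 lc_d_Cert_tree lc_d_rc_29_2 lc_d_rc_3_1 lc_d_rc_12_1 lc_d_rc_20_3 lc_d_rc_31_2 lc_d_rc_12_1 lc_d_Cert_tree lc_d_rc_30_2 lc_d_rc_3_1 lc_d_Cert_tree lc_d_rc_27_0 lc_d_rc_12_1 lc_d_Cert_tree lc_d_rc_33_2 lc_d_rc_3_1 lc_d_Cert_tree lc_d_rc_27_0 lc_d_rc_30_2 lc_d_rc_3_1 lc_d_rc_12_1 lc_d_Cert_tree lc_d_rc_27_0 lc_d_rc_29_2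 lc_d_rc_27_0 lc_d_rc_29_2 lc_d_rc_33_2 lc_d_rc_3_1 lc_d_Cert_tree lc_d_rc_27_0 lc_d_rc_28_2 lc_d_rc_28_2 lc_d_rc_3_1 lc_d_rc_12_1 lc_d_rc_20_3) (@D3.rec (fun _ => (Cert rels S Gen.d)) lc_d_rc_33_0 lc_d_Cert_tree lc_d_rc_27_0 lc_d_rc_29_2 lc_d_Cert_tree lc_d_rc_27_0 lc_d_rc_12_1 lc_d_rc_28_2 lc_d_rc_3_1 lc_d_rc_3_3 lc_d_rc_3_1 lc_d_rc_55_51 lc_d_Cert_tree lc_d_rc_30_2 lc_d_rc_12_3 lc_d_Cert_tree lc_d_rc_27_0 lc_d_rc_30_2 lc_d_rc_3_1 lc_d_rc_12_1 lc_d_rc_32_2 lc_d_rc_33_2 lc_d_rc_28_2 lc_d_rc_3_3 lc_d_rc_29_4 lc_d_Cert_tree lc_d_rc_27_0 lc_d_rc_12_1 lc_d_rc_29_2 lc_d_rc_3_1 lc_d_rc_12_1 lc_d_rc_27_0 lc_d_rc_12_1 lc_d_rc_33_2 lc_d_rc_28_2 lc_d_rc_3_1 lc_d_rc_12_1 lc_d_rc_12_1 lc_d_Cert_tree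 lc_d_rc_3_1 lc_d_rc_3_1 lc_d_rc_12_1 lc_d_rc_27_0 lc_d_Cert_tree lc_d_rc_27_0 lc_d_rc_3_1 lc_d_rc_3_1 lc_d_rc_3_1 lc_d_Cert_tree lc_d_rc_27_0 lc_d_rc_3_1) (@D3.rec (fun _ => (Cert rels S Gen.d)) lc_d_Cert_tree lc_d_rc_27_0 lc_d_rc_3_1 lc_d_rc_3_1 lc_d_rc_3_1 lc_d_Cert_tree lc_d_rc_27_0 lc_d_rc_29_2 lc_d_rc_12_1 lc_d_rc_3_1 lc_d_rc_20_3 lc_d_rc_55_30 lc_d_rc_30_2 lc_d_rc_12_1 lc_d_Cert_tree lc_d_rc_29_2 lc_d_rc_12_1 lc_d_Cert_tree lc_d_rc_28_2 lc_d_rc_3_1 lc_d_rc_12_1 lc_d_rc_32_2 lc_d_rc_31_2 lc_d_rc_12_1 lc_d_Cert_tree lc_d_rc_29_2 lc_d_rc_3_1 lc_d_Cert_tree lc_d_rc_27_0 lc_d_rc_12_1 lc_d_rc_31_2 lc_d_rc_3_1 lc_d_Cert_tree lc_d_rc_27_0 lc_d_rc_33_2 lc_d_rc_29_2 lc_d_rc_3_1 lc_d_Cert_tree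 lc_d_rc_27_0 lc_d_rc_30_2 lc_d_rc_3_1 lc_d_Cert_tree lc_d_rc_27_0 lc_d_rc_30_2 lc_d_rc_3_1 lc_d_rc_12_1 lc_d_rc_31_2 lc_d_Cert_tree lc_d_rc_27_0 lc_d_rc_29_2 lc_d_rc_55_27) (@D3.rec (fun _ => (Cert rels S Gen.d)) lc_d_Cert_tree lc_d_rc_30_2 lc_d_rc_3_1 lc_d_Cert_tree lc_d_rc_27_0 lc_d_rc_3_1 lc_d_rc_12_1 lc_d_rc_3_1 lc_d_Cert_tree lc_d_rc_27_0 lc_d_rc_3_1 lc_d_rc_12_1 lc_d_rc_3_1 lc_d_rc_3_3 lc_d_rc_32_2 lc_d_Cert_tree lc_d_rc_27_0 lc_d_rc_29_2 lc_d_rc_20_3 lc_d_Cert_tree lc_d_rc_27_0 lc_d_rc_3_1 lc_d_rc_3_1 lc_d_rc_3_1 lc_d_Cert_tree lc_d_rc_27_0 lc_d_Cert_tree lc_d_rc_27_0 lc_d_rc_30_2 lc_d_rc_30_2 lc_d_rc_3_1 lc_d_rc_12_1 lc_d_rc_12_1 lc_d_rc_3_1 lc_d_rc_27_0 lc_d_rc_12_1 lc_d_rc_33_2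 lc_d_rc_12_1 lc_d_Cert_tree lc_d_rc_3_1 lc_d_Cert_tree lc_d_rc_27_0 lc_d_rc_30_2 lc_d_Cert_tree lc_d_rc_27_0 lc_d_rc_29_2 lc_d_rc_3_1 lc_d_rc_12_1 lc_d_rc_3_1 lc_d_rc_12_1 lc_d_rc_3_1) (@D3.rec (fun _ => (Cert rels S Gen.d)) lc_d_rc_12_1 lc_d_rc_3_1 lc_d_rc_55_36 lc_d_rc_3_1 lc_d_rc_12_1 lc_d_rc_27_0 lc_d_rc_20_3 lc_d_rc_3_1 lc_d_rc_3_1 lc_d_rc_12_1 lc_d_rc_12_1 lc_d_rc_3_1 lc_d_rc_3_1 lc_d_rc_3_1 lc_d_rc_56_45 lc_d_rc_12_1 lc_d_rc_3_1 lc_d_rc_3_1 lc_d_rc_3_1 lc_d_rc_3_1 lc_d_rc_3_1 lc_d_rc_12_1 lc_d_rc_28_4 lc_d_rc_33_2 lc_d_rc_3_1 lc_d_rc_12_1 lc_d_rc_33_2 lc_d_rc_12_1 lc_d_rc_31_2 lc_d_rc_3_1 lc_d_rc_3_1 lc_d_rc_12_1 lc_d_Cert_tree lc_d_rc_29_2 lc_d_rc_12_1 lc_d_Cert_tree lc_d_rc_28_2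 lc_d_rc_3_1 lc_d_rc_12_1 lc_d_rc_30_2 lc_d_rc_3_1 lc_d_Cert_tree lc_d_rc_27_0 lc_d_rc_27_0 lc_d_rc_12_1 lc_d_rc_3_1 lc_d_Cert_tree lc_d_rc_27_0 lc_d_rc_30_2 lc_d_rc_3_1 lc_d_rc_12_1) (@D3.rec (fun _ => (Cert rels S Gen.d)) lc_d_rc_3_1 lc_d_rc_56_31 lc_d_Cert_tree lc_d_rc_27_0 lc_d_rc_28_2 lc_d_rc_3_1 lc_d_rc_3_1 lc_d_rc_3_1 lc_d_rc_27_0 lc_d_rc_55_21 lc_d_rc_3_1 lc_d_rc_3_1 lc_d_rc_28_4 lc_d_rc_12_3 lc_d_rc_20_1 lc_d_rc_12_1 lc_d_Cert_tree lc_d_rc_29_2 lc_d_rc_12_1 lc_d_Cert_tree lc_d_rc_28_2 lc_d_rc_3_1 lc_d_rc_12_1 lc_d_rc_33_2 lc_d_rc_31_2 lc_d_rc_3_1 lc_d_Cert_tree lc_d_rc_27_0 lc_d_rc_3_1 lc_d_rc_20_3 lc_d_rc_20_3 lc_d_rc_3_1 lc_d_Cert_tree lc_d_rc_27_0 lc_d_rc_30_2 lc_d_rc_3_1 lc_d_rc_3_1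 lc_d_rc_55_27 lc_d_Cert_tree lc_d_rc_27_0 lc_d_rc_29_2 lc_d_rc_33_2 lc_d_rc_28_0 lc_d_Cert_tree lc_d_rc_27_0 lc_d_rc_28_2 lc_d_Cert_tree lc_d_rc_27_0 lc_d_rc_55_48 lc_d_rc_29_2 lc_d_rc_3_1) (@D3.rec (fun _ => (Cert rels S Gen.d)) lc_d_rc_27_0 lc_d_rc_12_1 lc_d_rc_33_2 lc_d_rc_28_2 lc_d_rc_12_1 lc_d_rc_12_1 lc_d_Cert_tree lc_d_rc_3_1 lc_d_rc_3_1 lc_d_Cert_tree lc_d_rc_27_0 lc_d_rc_3_1 lc_d_Cert_tree lc_d_rc_27_0 lc_d_rc_30_2 lc_d_rc_31_2 lc_d_rc_30_2 lc_d_rc_29_2 lc_d_rc_12_1 lc_d_rc_3_1 lc_d_Cert_tree lc_d_rc_27_0 lc_d_rc_30_2 lc_d_rc_29_2 lc_d_rc_3_1 lc_d_Cert_tree lc_d_rc_27_0 lc_d_rc_30_2 lc_d_rc_28_2 lc_d_rc_3_1 lc_d_rc_12_1 lc_d_rc_31_2 lc_d_rc_32_2 lc_d_Cert_tree lc_d_rc_27_0 lc_d_rc_29_2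 lc_d_rc_12_1 lc_d_rc_29_2 lc_d_rc_3_1 lc_d_Cert_tree lc_d_rc_27_0 lc_d_rc_28_2 lc_d_rc_3_1 lc_d_rc_3_1 lc_d_Cert_tree lc_d_rc_27_0 lc_d_rc_32_0 lc_d_rc_3_1 lc_d_rc_12_1 lc_d_rc_3_1 lc_d_Cert_tree) (@D3.rec (fun _ => (Cert rels S Gen.d)) lc_d_rc_27_0 lc_d_rc_30_2 lc_d_Cert_tree lc_d_rc_27_0 lc_d_rc_30_2 lc_d_rc_30_2 lc_d_rc_3_1 lc_d_rc_3_1 lc_d_rc_3_1 lc_d_rc_27_0 lc_d_rc_12_1 lc_d_rc_33_2 lc_d_rc_3_1 lc_d_rc_12_1 lc_d_rc_55_63 lc_d_rc_3_1 lc_d_Cert_tree lc_d_rc_27_0 lc_d_rc_3_1 lc_d_rc_12_1 lc_d_rc_56_38 lc_d_rc_3_1 lc_d_rc_56_38 lc_d_rc_12_3 lc_d_Cert_tree lc_d_rc_27_0 lc_d_rc_29_2 lc_d_rc_3_1 lc_d_rc_12_1 lc_d_rc_33_2 lc_d_rc_3_1 lc_d_rc_12_1 lc_d_rc_3_1 lc_d_rc_12_1 lc_d_rc_3_1 lc_d_rc_3_1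 lc_d_Cert_tree lc_d_rc_27_0 lc_d_rc_30_2 lc_d_Cert_tree lc_d_rc_27_0 lc_d_rc_30_2 lc_d_rc_30_2 lc_d_rc_29_2 lc_d_Cert_tree lc_d_rc_27_0 lc_d_rc_30_2 lc_d_rc_30_2 lc_d_rc_32_2 lc_d_rc_27_0 lc_d_rc_30_2) (@D3.rec (fun _ => (Cert rels S Gen.d)) lc_d_rc_30_2 lc_d_rc_31_2 lc_d_rc_28_2 lc_d_rc_31_2 lc_d_rc_3_1 lc_d_rc_27_0 lc_d_rc_3_1 lc_d_rc_12_1 lc_d_rc_33_2 lc_d_rc_3_1 lc_d_rc_3_1 lc_d_rc_12_1 lc_d_rc_28_2 lc_d_rc_3_1 lc_d_rc_3_1 lc_d_Cert_tree lc_d_rc_27_0 lc_d_rc_3_1 lc_d_rc_12_1 lc_d_Cert_tree lc_d_rc_27_0 lc_d_rc_3_1 lc_d_Cert_tree lc_d_rc_27_0 lc_d_rc_3_1 lc_d_Cert_tree lc_d_rc_27_0 lc_d_rc_3_1 lc_d_rc_56_31 lc_d_rc_12_1 lc_d_rc_12_3 lc_d_Cert_tree lc_d_rc_27_0 lc_d_rc_56_38 lc_d_Cert_tree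 lc_d_rc_27_0 lc_d_rc_3_1 lc_d_Cert_tree lc_d_rc_27_0 lc_d_rc_30_2 lc_d_rc_28_2 lc_d_rc_3_1 lc_d_rc_12_1 lc_d_rc_29_2 lc_d_Cert_tree lc_d_rc_27_0 lc_d_rc_29_2 lc_d_rc_20_1 lc_d_Cert_tree lc_d_rc_27_0 lc_d_rc_3_1) (@D3.rec (fun _ => (Cert rels S Gen.d)) lc_d_Cert_tree lc_d_rc_27_0 lc_d_rc_31_2 lc_d_Cert_tree lc_d_rc_27_0 lc_d_rc_29_2 lc_d_rc_27_0 lc_d_rc_12_1 lc_d_rc_29_2 lc_d_rc_3_1 lc_d_Cert_tree lc_d_rc_27_0 lc_d_Cert_tree lc_d_rc_27_0 lc_d_rc_30_2 lc_d_Cert_tree lc_d_rc_27_0 lc_d_rc_3_1 lc_d_Cert_tree lc_d_rc_27_0 lc_d_Cert_tree lc_d_rc_27_0 lc_d_Cert_tree lc_d_rc_27_0 lc_d_rc_12_1 lc_d_rc_27_0 lc_d_rc_3_1 lc_d_rc_3_1 lc_d_Cert_tree lc_d_rc_27_0 lc_d_Cert_tree lc_d_rc_27_0 lc_d_rc_29_2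 lc_d_rc_27_0 lc_d_rc_12_1 lc_d_rc_3_1 lc_d_rc_12_1 lc_d_rc_3_1 lc_d_rc_3_1 lc_d_Cert_tree lc_d_rc_27_0 lc_d_rc_28_0 lc_d_Cert_tree lc_d_rc_27_0 lc_d_Cert_tree lc_d_rc_27_0 lc_d_rc_29_2 lc_d_rc_12_1 lc_d_Cert_tree lc_d_rc_27_0 lc_d_rc_30_2) (@D3.rec (fun _ => (Cert rels S Gen.d)) lc_d_rc_31_2 lc_d_rc_30_2 lc_d_rc_12_1 lc_d_rc_3_1 lc_d_Cert_tree lc_d_rc_27_0 lc_d_rc_30_2 lc_d_Cert_tree lc_d_rc_27_0 lc_d_rc_30_2 lc_d_rc_30_2 lc_d_rc_29_2 lc_d_rc_28_2 lc_d_rc_3_1 lc_d_rc_12_1 lc_d_rc_3_1 lc_d_rc_3_1 lc_d_Cert_tree lc_d_rc_27_0 lc_d_rc_30_2 lc_d_rc_30_2 lc_d_Cert_tree lc_d_rc_27_0 lc_d_rc_30_2 lc_d_rc_30_2 lc_d_rc_29_2 lc_d_rc_3_3 lc_d_rc_3_1 lc_d_rc_12_1 lc_d_Cert_tree lc_d_rc_27_0 lc_d_rc_29_2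 lc_d_rc_27_0 lc_d_rc_20_3 lc_d_rc_12_1 lc_d_rc_33_2 lc_d_rc_20_1 lc_d_Cert_tree lc_d_rc_27_0 lc_d_Cert_tree lc_d_rc_27_0 lc_d_rc_20_1 lc_d_rc_3_1 lc_d_rc_12_3 lc_d_Cert_tree lc_d_rc_27_0 lc_d_Cert_tree lc_d_rc_27_0 lc_d_rc_12_1 lc_d_rc_29_2 lc_d_rc_27_0) (@D3.rec (fun _ => (Cert rels S Gen.d)) lc_d_rc_12_1 lc_d_rc_12_1 lc_d_rc_33_2 lc_d_rc_3_1 lc_d_Cert_tree lc_d_rc_27_0 lc_d_rc_28_4 lc_d_rc_27_0 lc_d_rc_12_1 lc_d_rc_33_2 lc_d_rc_3_1 lc_d_rc_3_1 lc_d_Cert_tree lc_d_rc_12_1 lc_d_rc_20_3 lc_d_rc_33_2 lc_d_rc_27_0 lc_d_rc_33_2 lc_d_rc_3_1 lc_d_Cert_tree lc_d_rc_27_0 lc_d_Cert_tree lc_d_rc_27_0 lc_d_rc_27_1 lc_d_rc_3_1 lc_d_Cert_tree lc_d_rc_27_0 lc_d_rc_27_0 lc_d_rc_20_3 lc_d_rc_29_2 lc_d_rc_3_1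 lc_d_rc_3_1 lc_d_Cert_tree lc_d_rc_27_0 lc_d_rc_3_1 lc_d_Cert_tree lc_d_rc_27_0 lc_d_rc_29_2 lc_d_rc_3_1 lc_d_rc_12_1 lc_d_rc_33_2 lc_d_Cert_tree lc_d_rc_27_0 lc_d_rc_30_2 lc_d_rc_30_2 lc_d_rc_55_60 lc_d_rc_27_0 lc_d_rc_12_1 lc_d_rc_33_2 lc_d_Cert_tree lc_d_rc_27_0) (@D3.rec (fun _ => (Cert rels S Gen.d)) lc_d_rc_27_0 lc_d_rc_28_4 lc_d_rc_12_1 lc_d_rc_12_1 lc_d_rc_32_0 lc_d_rc_3_1 lc_d_rc_27_1 lc_d_rc_55_33 lc_d_rc_12_1 lc_d_rc_28_4 lc_d_Cert_tree lc_d_rc_27_0 lc_d_rc_29_2 lc_d_Cert_tree lc_d_rc_27_0 lc_d_rc_33_2 lc_d_rc_3_1 lc_d_Cert_tree lc_d_rc_27_0 lc_d_rc_30_2 lc_d_Cert_tree lc_d_rc_27_0 lc_d_rc_30_2 lc_d_rc_30_2 lc_d_Cert_tree lc_d_rc_27_0 lc_d_rc_29_2 lc_d_rc_27_0 lc_d_rc_30_2 lc_d_rc_20_3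 lc_d_rc_30_2 lc_d_rc_12_1 lc_d_rc_28_2 lc_d_rc_33_2 lc_d_rc_27_0 lc_d_rc_30_2 lc_d_rc_12_1 lc_d_rc_3_1 lc_d_rc_12_1 lc_d_rc_3_1 lc_d_rc_3_1 lc_d_rc_12_1 lc_d_rc_27_0 lc_d_rc_3_1 lc_d_rc_12_1 lc_d_rc_3_1 lc_d_Cert_tree lc_d_rc_3_1 lc_d_rc_27_0 lc_d_rc_29_2 lc_d_rc_28_2) (@D3.rec (fun _ => (Cert rels S Gen.d)) lc_d_rc_31_2 lc_d_rc_12_1 lc_d_rc_3_1 lc_d_Cert_tree lc_d_rc_27_0 lc_d_rc_28_2 lc_d_rc_3_1 lc_d_Cert_tree lc_d_rc_27_0 lc_d_rc_3_1 lc_d_rc_3_1 lc_d_Cert_tree lc_d_rc_27_0 lc_d_rc_3_1 lc_d_rc_12_1 lc_d_rc_33_0 lc_d_rc_12_1 lc_d_Cert_tree lc_d_rc_27_0 lc_d_rc_55_42 lc_d_rc_3_1 lc_d_rc_12_1 lc_d_rc_20_1 lc_d_Cert_tree lc_d_rc_27_0 lc_d_rc_20_5 lc_d_rc_12_1 lc_d_rc_29_2 lc_d_rc_3_1 lc_d_rc_3_1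 lc_d_rc_12_1 lc_d_Cert_tree lc_d_rc_27_0 lc_d_rc_12_1 lc_d_rc_3_1 lc_d_Cert_tree lc_d_rc_27_0 lc_d_rc_12_3 lc_d_Cert_tree lc_d_rc_27_0 lc_d_Cert_tree lc_d_rc_27_0 lc_d_rc_31_2 lc_d_Cert_tree lc_d_rc_27_0 lc_d_rc_33_2 lc_d_rc_56_45 lc_d_rc_12_1 lc_d_rc_29_2 lc_d_Cert_tree lc_d_rc_27_0) (@D3.rec (fun _ => (Cert rels S Gen.d)) lc_d_rc_28_2 lc_d_rc_33_2 lc_d_Cert_tree lc_d_rc_27_0 lc_d_Cert_tree lc_d_rc_27_0 lc_d_Cert_tree lc_d_rc_27_0 lc_d_Cert_tree lc_d_rc_27_0 lc_d_rc_27_0 lc_d_rc_20_3 lc_d_Cert_tree lc_d_rc_27_0 lc_d_rc_12_1 lc_d_rc_3_1 lc_d_rc_27_0 lc_d_rc_20_3 lc_d_rc_12_1 lc_d_rc_33_2 lc_d_rc_3_1 lc_d_rc_12_1 lc_d_Cert_tree lc_d_rc_27_0 lc_d_Cert_tree lc_d_rc_27_0 lc_d_rc_28_2 lc_d_rc_12_1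 lc_d_rc_33_2 lc_d_rc_56_31 lc_d_rc_12_1 lc_d_rc_12_3 lc_d_rc_3_1 lc_d_Cert_tree lc_d_rc_27_0 lc_d_rc_3_1 lc_d_Cert_tree lc_d_rc_27_0 lc_d_Cert_tree lc_d_rc_27_0 lc_d_rc_27_0 lc_d_rc_20_3 lc_d_rc_20_5 lc_d_rc_3_1 lc_d_rc_3_1 lc_d_rc_12_1 lc_d_Cert_tree lc_d_rc_27_0 lc_d_rc_33_2 lc_d_Cert_tree lc_d_rc_27_0) (@D3.rec (fun _ => (Cert rels S Gen.d)) lc_d_rc_12_1 lc_d_rc_3_1 lc_d_rc_3_1 lc_d_Cert_tree lc_d_rc_27_0 lc_d_rc_3_1 lc_d_Cert_tree lc_d_rc_27_0 lc_d_rc_12_1 lc_d_rc_3_1 lc_d_rc_12_1 lc_d_rc_3_1 lc_d_rc_3_1 lc_d_rc_3_1 lc_d_Cert_tree lc_d_rc_27_0 lc_d_Cert_tree lc_d_rc_27_0 lc_d_rc_27_0 lc_d_rc_20_3 lc_d_rc_29_2 lc_d_Cert_tree lc_d_rc_27_0 lc_d_Cert_tree lc_d_rc_27_0 lc_d_rc_27_0 lc_d_rc_55_45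 lc_d_rc_3_1 lc_d_Cert_tree lc_d_rc_27_0 lc_d_Cert_tree lc_d_rc_27_0 lc_d_rc_27_0 lc_d_rc_20_3 lc_d_rc_27_0 lc_d_rc_20_3 lc_d_rc_12_3 lc_d_rc_12_3 lc_d_rc_27_0 lc_d_rc_56_38 lc_d_Cert_tree lc_d_rc_27_0 lc_d_rc_27_0 lc_d_rc_20_3 lc_d_rc_3_1 lc_d_Cert_tree lc_d_rc_27_0 lc_d_rc_29_2 lc_d_rc_27_0 lc_d_rc_12_1 lc_d_rc_33_2) (@D3.rec (fun _ => (Cert rels S Gen.d)) lc_d_rc_3_1 lc_d_Cert_tree lc_d_rc_27_0 lc_d_Cert_tree lc_d_rc_27_0 lc_d_Cert_tree lc_d_rc_27_0 lc_d_rc_27_0 lc_d_rc_20_3 lc_d_rc_27_0 lc_d_rc_27_0 lc_d_rc_20_3 lc_d_rc_27_0 lc_d_rc_20_3 lc_d_rc_3_1 lc_d_rc_29_2 lc_d_Cert_tree lc_d_rc_27_0 lc_d_rc_3_1 lc_d_rc_12_1 lc_d_rc_12_1 lc_d_rc_20_5 lc_d_rc_3_1 lc_d_rc_27_0 lc_d_rc_12_1 lc_d_rc_33_2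 lc_d_rc_3_1 lc_d_rc_3_1 lc_d_rc_12_1 lc_d_rc_3_1 lc_d_Cert_tree lc_d_rc_27_0 lc_d_rc_33_0 lc_d_Cert_tree lc_d_rc_27_0 lc_d_rc_30_2 lc_d_rc_31_2 lc_d_rc_30_2 lc_d_rc_3_1 lc_d_Cert_tree lc_d_rc_27_0 lc_d_rc_30_2 lc_d_rc_29_2 lc_d_rc_3_1 lc_d_Cert_tree lc_d_rc_27_0 lc_d_rc_30_2 lc_d_rc_28_2 lc_d_rc_3_1 lc_d_rc_12_1 lc_d_rc_31_2) (@D3.rec (fun _ => (Cert rels S Gen.d)) lc_d_Cert_tree lc_d_rc_27_0 lc_d_rc_29_2 lc_d_rc_3_1 lc_d_Cert_tree lc_d_rc_27_0 lc_d_rc_29_2 lc_d_rc_29_2 lc_d_rc_3_1 lc_d_rc_12_1 lc_d_rc_31_2 lc_d_rc_3_1 lc_d_Cert_tree lc_d_rc_27_0 lc_d_rc_32_2 lc_d_Cert_tree lc_d_rc_27_0 lc_d_rc_29_2 lc_d_rc_3_1 lc_d_Cert_tree lc_d_rc_27_0 lc_d_rc_30_2 lc_d_Cert_tree lc_d_rc_27_0 lc_d_rc_30_2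 lc_d_rc_30_2 lc_d_rc_3_1 lc_d_rc_27_0 lc_d_rc_12_1 lc_d_rc_33_2 lc_d_rc_29_2 lc_d_Cert_tree lc_d_rc_27_0 lc_d_rc_12_1 lc_d_rc_3_1 lc_d_rc_3_1 lc_d_rc_12_1 lc_d_Cert_tree lc_d_rc_27_0 lc_d_rc_12_1 lc_d_rc_27_0 lc_d_rc_3_1 lc_d_rc_55_30 lc_d_rc_27_0 lc_d_rc_12_1 lc_d_Cert_tree lc_d_rc_27_0 lc_d_rc_30_2 lc_d_Cert_tree lc_d_rc_27_0 lc_d_rc_30_2) (@D3.rec (fun _ => (Cert rels S Gen.d)) lc_d_rc_30_2 lc_d_rc_29_2 lc_d_rc_28_2 lc_d_rc_55_30 lc_d_rc_33_2 lc_d_rc_3_1 lc_d_rc_12_1 lc_d_rc_27_0 lc_d_rc_3_1 lc_d_rc_12_1 lc_d_rc_33_2 lc_d_rc_3_1 lc_d_rc_3_1 lc_d_rc_12_1 lc_d_rc_3_1 lc_d_rc_12_3 lc_d_Cert_tree lc_d_rc_27_0 lc_d_rc_3_1 lc_d_Cert_tree lc_d_rc_27_0 lc_d_Cert_tree lc_d_rc_27_0 lc_d_Cert_tree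 lc_d_rc_27_0 lc_d_Cert_tree lc_d_rc_27_0 lc_d_rc_29_2 lc_d_rc_3_1 lc_d_rc_3_1 lc_d_rc_12_1 lc_d_rc_55_39 lc_d_rc_3_1 lc_d_Cert_tree lc_d_rc_27_0 lc_d_rc_30_2 lc_d_rc_29_2 lc_d_rc_3_1 lc_d_Cert_tree lc_d_rc_27_0 lc_d_rc_30_2 lc_d_rc_28_2 lc_d_rc_27_0 lc_d_rc_12_1 lc_d_rc_33_0 lc_d_rc_29_2 lc_d_Cert_tree lc_d_rc_27_0 lc_d_rc_30_2 lc_d_Cert_tree lc_d_rc_27_0) (@D3.rec (fun _ => (Cert rels S Gen.d)) lc_d_rc_29_2 lc_d_rc_12_1 lc_d_rc_12_1 lc_d_Cert_tree lc_d_rc_27_0 lc_d_rc_12_1 lc_d_rc_29_2 lc_d_Cert_tree lc_d_rc_27_0 lc_d_rc_30_2 lc_d_rc_30_2 lc_d_Cert_tree lc_d_rc_27_0 lc_d_rc_30_2 lc_d_rc_30_2 lc_d_rc_29_2 lc_d_rc_3_1 lc_d_rc_12_1 lc_d_rc_27_0 lc_d_rc_20_3 lc_d_rc_12_1 lc_d_rc_33_2 lc_d_rc_27_0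 lc_d_Cert_tree lc_d_rc_27_0 lc_d_rc_30_2 lc_d_Cert_tree lc_d_rc_27_0 lc_d_rc_28_2 lc_d_rc_3_1 lc_d_Cert_tree lc_d_rc_27_0 lc_d_rc_3_1 lc_d_rc_3_1 lc_d_rc_55_72 lc_d_rc_27_0 lc_d_rc_12_1 lc_d_Cert_tree lc_d_rc_27_0 lc_d_Cert_tree lc_d_rc_27_0 lc_d_rc_27_0 lc_d_rc_30_2 lc_d_rc_20_3 lc_d_rc_30_2 lc_d_rc_28_2 lc_d_rc_3_1 lc_d_rc_3_1 lc_d_rc_12_1 lc_d_rc_30_2 lc_d_Cert_tree) (@D3.rec (fun _ => (Cert rels S Gen.d)) lc_d_rc_27_0 lc_d_Cert_tree lc_d_rc_27_0 lc_d_rc_30_2 lc_d_rc_30_2 lc_d_rc_29_2 lc_d_rc_27_0 lc_d_rc_20_3 lc_d_rc_55_24 lc_d_rc_33_2 lc_d_rc_3_1 lc_d_rc_3_1 lc_d_rc_3_1 lc_d_rc_3_1 lc_d_rc_3_1 lc_d_rc_3_1 lc_d_rc_12_1 lc_d_rc_33_2 lc_d_rc_3_1 lc_d_rc_3_1 lc_d_rc_28_2 lc_d_rc_3_1 lc_d_Cert_tree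 lc_d_rc_27_0 lc_d_rc_33_2 lc_d_rc_3_1 lc_d_Cert_tree lc_d_rc_27_0 lc_d_rc_33_2 lc_d_rc_3_1 lc_d_rc_12_1 lc_d_Cert_tree lc_d_rc_27_0 lc_d_rc_3_1 lc_d_Cert_tree lc_d_rc_27_0 lc_d_rc_30_2 lc_d_rc_30_2 lc_d_rc_3_1 lc_d_rc_12_1 lc_d_rc_27_0 lc_d_rc_20_3 lc_d_rc_29_2 lc_d_rc_3_1 lc_d_Cert_tree lc_d_rc_27_0 lc_d_rc_28_4 lc_d_rc_29_2 lc_d_rc_3_1 lc_d_Cert_tree lc_d_rc_27_0) (@D3.rec (fun _ => (Cert rels S Gen.d)) lc_d_rc_30_2 lc_d_rc_28_2 lc_d_rc_3_1 lc_d_rc_12_1 lc_d_rc_31_2 lc_d_Cert_tree lc_d_rc_27_0 lc_d_rc_29_2 lc_d_rc_3_1 lc_d_Cert_tree lc_d_rc_27_0 lc_d_rc_30_2 lc_d_rc_30_2 lc_d_rc_3_1 lc_d_rc_27_0 lc_d_rc_12_1 lc_d_rc_29_2 lc_d_rc_27_0 lc_d_rc_3_1 lc_d_rc_27_0 lc_d_rc_12_1 lc_d_rc_12_1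 lc_d_rc_28_2 lc_d_rc_3_1 lc_d_rc_12_1 lc_d_rc_3_1 lc_d_rc_3_1 lc_d_Cert_tree lc_d_rc_27_0 lc_d_Cert_tree lc_d_rc_27_0 lc_d_Cert_tree lc_d_rc_27_0 lc_d_rc_30_2 lc_d_rc_30_2 lc_d_rc_28_2 lc_d_rc_33_2 lc_d_rc_3_1 lc_d_Cert_tree lc_d_rc_27_0 lc_d_rc_30_2 lc_d_rc_30_2 lc_d_rc_31_2 lc_d_Cert_tree lc_d_rc_27_0 lc_d_rc_30_2 lc_d_rc_30_2 lc_d_rc_3_3 lc_d_rc_31_2 lc_d_rc_3_1 lc_d_rc_12_1) (@D3.rec (fun _ => (Cert rels S Gen.d)) lc_d_rc_32_2 lc_d_rc_27_0 lc_d_rc_20_3 lc_d_rc_12_1 lc_d_rc_33_2 lc_d_rc_28_0 lc_d_rc_12_1 lc_d_Cert_tree lc_d_rc_27_0 lc_d_Cert_tree lc_d_rc_27_0 lc_d_rc_12_1 lc_d_rc_3_1 lc_d_Cert_tree lc_d_rc_27_0 lc_d_rc_30_2 lc_d_rc_30_2 lc_d_rc_27_0 lc_d_rc_30_2 lc_d_rc_20_3 lc_d_rc_30_2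 lc_d_rc_55_51 lc_d_rc_3_1 lc_d_rc_12_1 lc_d_rc_3_1 lc_d_rc_28_2 lc_d_Cert_tree lc_d_rc_27_0 lc_d_rc_3_1 lc_d_Cert_tree lc_d_rc_27_0 lc_d_rc_12_1 lc_d_rc_3_1 lc_d_rc_12_1 lc_d_rc_3_1 lc_d_rc_3_1 lc_d_Cert_tree lc_d_rc_27_0 lc_d_rc_30_2 lc_d_rc_30_2 lc_d_rc_29_2 lc_d_rc_27_0 lc_d_rc_30_2 lc_d_rc_20_3 lc_d_rc_30_2 lc_d_rc_12_1 lc_d_rc_28_2 lc_d_rc_33_2 lc_d_rc_27_0 lc_d_rc_30_2 lc_d_rc_30_2) (@D3.rec (fun _ => (Cert rels S Gen.d)) lc_d_rc_12_1 lc_d_rc_30_2 lc_d_rc_31_2 lc_d_rc_12_1 lc_d_rc_31_2 lc_d_rc_28_2 lc_d_rc_3_1 lc_d_rc_12_1 lc_d_rc_3_1 lc_d_Cert_tree lc_d_rc_27_0 lc_d_rc_3_1 lc_d_rc_27_0 lc_d_rc_20_3 lc_d_Cert_tree lc_d_rc_27_0 lc_d_rc_27_0 lc_d_rc_20_3 lc_d_rc_3_1 lc_d_rc_27_0 lc_d_rc_20_3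 lc_d_Cert_tree lc_d_rc_27_0 lc_d_rc_29_2 lc_d_Cert_tree lc_d_rc_27_0 lc_d_rc_30_2 lc_d_rc_30_2 lc_d_rc_33_0 lc_d_rc_30_2 lc_d_rc_3_1 lc_d_rc_12_1 lc_d_rc_27_0 lc_d_rc_20_3 lc_d_rc_12_1 lc_d_Cert_tree lc_d_rc_27_0 lc_d_Cert_tree lc_d_rc_27_0 lc_d_rc_12_1 lc_d_rc_56_38 lc_d_rc_27_0 lc_d_rc_12_1 lc_d_rc_3_1 lc_d_Cert_tree lc_d_rc_27_0 lc_d_rc_27_0 lc_d_rc_20_3 lc_d_Cert_tree lc_d_rc_27_0 lc_d_Cert_tree) (@D3.rec (fun _ => (Cert rels S Gen.d)) lc_d_rc_27_0 lc_d_rc_27_0 lc_d_rc_27_0 lc_d_rc_28_4 lc_d_Cert_tree lc_d_rc_27_0 lc_d_rc_30_2 lc_d_rc_27_0 lc_d_rc_20_3 lc_d_rc_12_1 lc_d_rc_3_1 lc_d_rc_3_1 lc_d_Cert_tree lc_d_rc_27_0 lc_d_Cert_tree lc_d_rc_27_0 lc_d_rc_29_2 lc_d_rc_27_0 lc_d_rc_20_3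 lc_d_rc_12_1 lc_d_rc_33_2 lc_d_Cert_tree lc_d_rc_27_0 lc_d_rc_30_2 lc_d_rc_30_2 lc_d_rc_3_1 lc_d_Cert_tree lc_d_rc_27_0 lc_d_rc_30_2 lc_d_rc_27_0 lc_d_rc_30_2 lc_d_rc_30_2 lc_d_rc_12_1 lc_d_rc_55_60 lc_d_rc_28_2 lc_d_Cert_tree lc_d_rc_27_0 lc_d_rc_30_2 lc_d_rc_30_2 lc_d_rc_28_2 lc_d_rc_31_2 lc_d_rc_27_0 lc_d_rc_30_2 lc_d_rc_20_3 lc_d_rc_30_2 lc_d_rc_12_1 lc_d_rc_12_1 lc_d_rc_28_0 lc_d_rc_27_0 lc_d_rc_20_3 lc_d_rc_12_1)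
def ce_d_22 : D2 → D3 → (Cert rels S Gen.d) := @D2.rec (fun _ => D3 → (Cert rels S Gen.d)) (@D3.rec (fun _ => (Cert rels S Gen.d)) lc_d_rc_33_2 lc_d_rc_3_1 lc_d_rc_3_1 lc_d_Cert_tree lc_d_rc_12_1 lc_d_Cert_tree lc_d_rc_27_0 lc_d_rc_27_0 lc_d_rc_20_3 lc_d_rc_55_60 lc_d_Cert_tree lc_d_rc_27_0 lc_d_rc_27_0 lc_d_rc_28_0 lc_d_rc_12_1 lc_d_rc_12_1 lc_d_rc_29_2 lc_d_rc_3_1 lc_d_rc_3_1 lc_d_rc_12_1 lc_d_rc_27_0 lc_d_rc_28_4 lc_d_rc_3_1 lc_d_rc_12_1 lc_d_Cert_tree lc_d_rc_3_1 lc_d_rc_27_0 lc_d_rc_33_2 lc_d_rc_33_2 lc_d_Cert_tree lc_d_rc_27_0 lc_d_rc_27_0 lc_d_rc_3_1 lc_d_rc_20_3 lc_d_rc_27_0 lc_d_rc_20_3 lc_d_rc_3_1 lc_d_rc_29_2 lc_d_rc_29_4 lc_d_Cert_tree lc_d_rc_27_0 lc_d_rc_27_0 lc_d_rc_20_3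 lc_d_rc_12_1 lc_d_rc_33_2 lc_d_rc_3_1 lc_d_rc_12_1 lc_d_rc_27_0 lc_d_rc_30_2 lc_d_rc_30_2 lc_d_rc_12_1) (@D3.rec (fun _ => (Cert rels S Gen.d)) lc_d_rc_33_2 lc_d_rc_20_3 lc_d_rc_3_1 lc_d_rc_12_1 lc_d_rc_27_0 lc_d_rc_12_3 lc_d_rc_28_0 lc_d_rc_12_1 lc_d_rc_3_1 lc_d_rc_27_1 lc_d_rc_3_1 lc_d_rc_27_0 lc_d_rc_20_3 lc_d_Cert_tree lc_d_rc_27_0 lc_d_rc_12_1 lc_d_Cert_tree lc_d_rc_27_0 lc_d_rc_30_2 lc_d_rc_30_2 lc_d_rc_31_2 lc_d_rc_27_0 lc_d_rc_30_2 lc_d_rc_20_3 lc_d_rc_30_2 lc_d_rc_27_0 lc_d_rc_20_3 lc_d_rc_55_69 lc_d_rc_33_2 lc_d_rc_3_1 lc_d_rc_30_2 lc_d_rc_3_1 lc_d_rc_20_3 lc_d_rc_20_3 lc_d_rc_12_1 lc_d_rc_12_1 lc_d_rc_3_1 lc_d_rc_3_1 lc_d_rc_3_1 lc_d_rc_3_1 lc_d_Cert_tree lc_d_rc_27_0 lc_d_rc_12_1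 lc_d_rc_12_1 lc_d_rc_12_1 lc_d_rc_27_0 lc_d_rc_27_0 lc_d_rc_12_1 lc_d_rc_27_0 lc_d_rc_20_3 lc_d_rc_3_1) (@D3.rec (fun _ => (Cert rels S Gen.d)) lc_d_rc_27_0 lc_d_rc_27_0 lc_d_rc_20_3 lc_d_rc_12_1 lc_d_rc_3_1 lc_d_rc_3_1 lc_d_Cert_tree lc_d_rc_27_0 lc_d_rc_12_1 lc_d_rc_12_1 lc_d_rc_3_1 lc_d_rc_27_0 lc_d_rc_29_4 lc_d_rc_27_0 lc_d_rc_20_3 lc_d_rc_27_0 lc_d_rc_27_0 lc_d_rc_20_3 lc_d_Cert_tree lc_d_rc_27_0 lc_d_rc_12_1 lc_d_rc_20_3 lc_d_Cert_tree lc_d_rc_27_0 lc_d_Cert_tree lc_d_rc_27_0 lc_d_rc_27_0 lc_d_rc_20_3 lc_d_rc_27_0 lc_d_rc_20_3 lc_d_rc_27_0 lc_d_rc_20_3 lc_d_rc_3_1 lc_d_rc_27_0 lc_d_rc_28_2 lc_d_rc_20_3 lc_d_rc_3_1 lc_d_rc_29_2 lc_d_rc_20_3 lc_d_rc_12_1 lc_d_Cert_tree lc_d_rc_27_0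 lc_d_rc_27_0 lc_d_rc_20_3 lc_d_rc_56_31 lc_d_rc_12_1 lc_d_rc_29_2 lc_d_rc_27_0 lc_d_rc_20_3 lc_d_rc_27_0 lc_d_rc_20_3) (@D3.rec (fun _ => (Cert rels S Gen.d)) lc_d_rc_27_0 lc_d_rc_12_3 lc_d_rc_3_1 lc_d_Cert_tree lc_d_rc_27_0 lc_d_rc_12_1 lc_d_rc_27_0 lc_d_rc_3_1 lc_d_rc_20_3 lc_d_Cert_tree lc_d_rc_27_0 lc_d_rc_12_1 lc_d_rc_27_0 lc_d_rc_29_2 lc_d_rc_20_3 lc_d_rc_3_1 lc_d_rc_27_0 lc_d_rc_20_3 lc_d_rc_27_0 lc_d_rc_20_3 lc_d_rc_3_1 lc_d_rc_27_0 lc_d_rc_20_3 lc_d_rc_27_0 lc_d_rc_20_3 lc_d_rc_20_3 lc_d_rc_27_0 lc_d_rc_20_3 lc_d_rc_27_0 lc_d_rc_20_3 lc_d_rc_3_1 lc_d_rc_3_1 lc_d_rc_27_0 lc_d_rc_20_3 lc_d_rc_30_2 lc_d_rc_27_0 lc_d_rc_20_3 lc_d_rc_12_1 lc_d_rc_33_2 lc_d_rc_3_1 lc_d_rc_12_1 lc_d_Cert_tree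 lc_d_rc_27_0 lc_d_rc_27_0 lc_d_rc_20_3 lc_d_rc_27_0 lc_d_rc_20_3 lc_d_rc_3_1 lc_d_rc_29_4 lc_d_rc_28_0 lc_d_rc_12_1) (@D3.rec (fun _ => (Cert rels S Gen.d)) lc_d_Cert_tree lc_d_rc_27_0 lc_d_rc_12_1 lc_d_rc_3_1 lc_d_rc_12_1 lc_d_rc_3_1 lc_d_Cert_tree lc_d_rc_27_0 lc_d_rc_29_2 lc_d_Cert_tree lc_d_rc_27_0 lc_d_rc_30_2 lc_d_rc_30_2 lc_d_rc_3_1 lc_d_Cert_tree lc_d_rc_27_0 lc_d_rc_30_2 lc_d_rc_30_2 lc_d_rc_31_2 lc_d_Cert_tree lc_d_rc_27_0 lc_d_rc_30_2 lc_d_rc_30_2 lc_d_rc_28_2 lc_d_rc_31_2 lc_d_rc_3_1 lc_d_rc_12_1 lc_d_rc_27_0 lc_d_rc_20_3 lc_d_rc_12_1 lc_d_rc_33_2 lc_d_Cert_tree lc_d_rc_27_0 lc_d_rc_55_27 lc_d_rc_31_2 lc_d_rc_3_1 lc_d_rc_55_27 lc_d_Cert_tree lc_d_rc_27_0 lc_d_rc_12_1 lc_d_rc_29_2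 lc_d_rc_27_0 lc_d_rc_12_1 lc_d_Cert_tree lc_d_rc_27_0 lc_d_rc_30_2 lc_d_rc_30_2 lc_d_rc_27_0 lc_d_rc_30_2 lc_d_rc_20_3 lc_d_rc_30_2) (@D3.rec (fun _ => (Cert rels S Gen.d)) lc_d_rc_55_69 lc_d_rc_3_1 lc_d_rc_12_1 lc_d_rc_27_0 lc_d_rc_28_2 lc_d_rc_55_27 lc_d_rc_3_1 lc_d_rc_27_0 lc_d_rc_28_4 lc_d_rc_27_0 lc_d_Cert_tree lc_d_rc_27_0 lc_d_rc_30_2 lc_d_rc_30_2 lc_d_rc_29_2 lc_d_rc_27_0 lc_d_rc_30_2 lc_d_rc_20_3 lc_d_rc_30_2 lc_d_rc_12_1 lc_d_rc_33_2 lc_d_rc_20_5 lc_d_rc_12_1 lc_d_rc_29_4 lc_d_rc_3_1 lc_d_rc_12_1 lc_d_rc_3_1 lc_d_Cert_tree lc_d_rc_27_0 lc_d_rc_27_0 lc_d_rc_20_3 lc_d_rc_27_0 lc_d_rc_20_3 lc_d_rc_27_0 lc_d_rc_20_3 lc_d_rc_27_0 lc_d_rc_20_3 lc_d_rc_12_1 lc_d_rc_33_2 lc_d_rc_3_1 lc_d_rc_12_1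 lc_d_Cert_tree lc_d_rc_27_0 lc_d_rc_30_2 lc_d_rc_30_2 lc_d_rc_33_2 lc_d_Cert_tree lc_d_rc_27_0 lc_d_rc_30_2 lc_d_rc_30_2 lc_d_rc_28_2) (@D3.rec (fun _ => (Cert rels S Gen.d)) lc_d_rc_20_5 lc_d_rc_12_1 lc_d_Cert_tree lc_d_rc_27_0 lc_d_rc_30_2 lc_d_rc_30_2 lc_d_rc_27_0 lc_d_rc_20_3 lc_d_rc_12_1 lc_d_rc_3_1 lc_d_rc_27_0 lc_d_rc_20_3 lc_d_rc_12_1 lc_d_rc_27_0 lc_d_rc_30_2 lc_d_rc_20_3 lc_d_rc_30_2 lc_d_rc_28_2 lc_d_rc_27_0 lc_d_rc_30_2 lc_d_rc_20_3 lc_d_rc_30_2 lc_d_rc_55_30 lc_d_rc_29_2 lc_d_rc_3_1 lc_d_rc_3_1 lc_d_rc_3_1 lc_d_rc_20_3 lc_d_rc_12_1 lc_d_Cert_tree lc_d_rc_27_0 lc_d_rc_30_2 lc_d_rc_30_2 lc_d_rc_20_1 lc_d_rc_27_0 lc_d_rc_20_3 lc_d_rc_28_2 lc_d_rc_28_0 lc_d_rc_27_0 lc_d_rc_20_3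 lc_d_rc_27_0 lc_d_rc_3_1 lc_d_rc_27_0 lc_d_rc_20_3 lc_d_rc_27_0 lc_d_rc_20_3 lc_d_rc_3_1 lc_d_rc_30_2 lc_d_rc_20_3 lc_d_rc_55_30 lc_d_rc_3_1) (@D3.rec (fun _ => (Cert rels S Gen.d)) lc_d_Cert_tree lc_d_rc_27_0 lc_d_rc_27_0 lc_d_rc_30_2 lc_d_rc_20_3 lc_d_rc_30_2 lc_d_rc_12_1 lc_d_rc_3_1 lc_d_rc_27_0 lc_d_Cert_tree lc_d_rc_12_1 lc_d_Cert_tree lc_d_rc_27_0 lc_d_rc_12_1 lc_d_Cert_tree lc_d_rc_27_0 lc_d_rc_12_1 lc_d_rc_3_1 lc_d_rc_27_0 lc_d_rc_20_3 lc_d_rc_27_0 lc_d_rc_30_2 lc_d_rc_20_3 lc_d_rc_30_2 lc_d_Cert_tree lc_d_rc_27_0 lc_d_rc_28_4 lc_d_rc_28_2 lc_d_Cert_tree lc_d_rc_27_0 lc_d_rc_30_2 lc_d_rc_30_2 lc_d_rc_30_0 lc_d_rc_30_2 lc_d_rc_3_1 lc_d_rc_12_1 lc_d_rc_27_0 lc_d_rc_29_2 lc_d_rc_12_1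 lc_d_rc_27_0 lc_d_rc_30_2 lc_d_rc_20_3 lc_d_rc_30_2 lc_d_rc_28_2 lc_d_rc_3_1 lc_d_rc_12_1 lc_d_rc_31_2 lc_d_rc_12_1 lc_d_rc_3_1 lc_d_Cert_tree lc_d_rc_27_0) (@D3.rec (fun _ => (Cert rels S Gen.d)) lc_d_rc_27_0 lc_d_rc_20_3 lc_d_rc_27_0 lc_d_rc_30_2 lc_d_rc_30_2 lc_d_rc_28_2 lc_d_rc_55_30 lc_d_rc_27_0 lc_d_rc_30_2 lc_d_rc_28_4 lc_d_rc_30_2 lc_d_rc_31_2 lc_d_rc_33_0 lc_d_rc_31_2 lc_d_rc_27_0 lc_d_rc_30_2 lc_d_rc_33_2 lc_d_rc_30_2 lc_d_rc_12_1 lc_d_rc_31_2 lc_d_rc_31_2 lc_d_rc_31_2 lc_d_rc_28_0 lc_d_rc_12_1 lc_d_rc_30_0 lc_d_rc_3_1 lc_d_rc_20_3 lc_d_rc_12_1 lc_d_rc_3_1 lc_d_rc_27_0 lc_d_rc_20_3 lc_d_rc_27_0 lc_d_rc_29_2 lc_d_rc_20_3 lc_d_rc_27_0 lc_d_rc_30_2 lc_d_rc_20_3 lc_d_rc_30_2 lc_d_rc_3_1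 lc_d_rc_3_1 lc_d_rc_30_2 lc_d_rc_20_3 lc_d_rc_12_1 lc_d_rc_3_1 lc_d_rc_3_1 lc_d_rc_27_0 lc_d_rc_20_3 lc_d_rc_27_0 lc_d_rc_27_1 lc_d_rc_20_3 lc_d_rc_3_1) (@D3.rec (fun _ => (Cert rels S Gen.d)) lc_d_rc_27_0 lc_d_rc_30_2 lc_d_rc_20_3 lc_d_rc_30_2 lc_d_rc_29_2 lc_d_rc_29_2 lc_d_rc_3_1 lc_d_rc_30_2 lc_d_rc_3_1 lc_d_rc_20_3 lc_d_rc_20_3 lc_d_rc_12_1 lc_d_rc_12_1 lc_d_rc_30_2 lc_d_rc_32_2 lc_d_rc_3_1 lc_d_rc_31_2 lc_d_rc_28_2 lc_d_rc_3_1 lc_d_rc_27_0 lc_d_rc_20_3 lc_d_rc_3_1 lc_d_rc_27_0 lc_d_rc_20_3 lc_d_rc_28_0 lc_d_rc_3_1 lc_d_rc_27_0 lc_d_rc_20_3 lc_d_rc_12_1 lc_d_rc_27_0 lc_d_rc_30_2 lc_d_rc_20_3 lc_d_rc_30_2 lc_d_rc_55_57 lc_d_rc_30_2 lc_d_rc_28_0 lc_d_rc_3_1 lc_d_rc_3_1 lc_d_rc_20_3 lc_d_rc_27_0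 lc_d_rc_20_3 lc_d_rc_27_0 lc_d_rc_29_0 lc_d_rc_12_1 lc_d_rc_3_1 lc_d_rc_27_0 lc_d_rc_20_3 lc_d_rc_55_45 lc_d_rc_27_0 lc_d_rc_20_3 lc_d_rc_27_0) (@D3.rec (fun _ => (Cert rels S Gen.d)) lc_d_rc_27_0 lc_d_rc_20_3 lc_d_rc_30_2 lc_d_rc_3_1 lc_d_rc_3_1 lc_d_rc_20_3 lc_d_rc_27_0 lc_d_rc_20_3 lc_d_rc_27_0 lc_d_rc_20_3 lc_d_rc_12_1 lc_d_rc_3_1 lc_d_rc_3_1 lc_d_rc_20_3 lc_d_rc_12_1 lc_d_rc_27_0 lc_d_rc_30_2 lc_d_rc_30_2 lc_d_rc_12_1 lc_d_rc_27_0 lc_d_rc_3_1 lc_d_rc_20_3 lc_d_rc_30_2 lc_d_rc_3_1 lc_d_rc_27_1 lc_d_rc_27_0 lc_d_rc_30_2 lc_d_rc_20_3 lc_d_rc_30_2 lc_d_rc_12_1 lc_d_rc_31_2 lc_d_rc_3_1 lc_d_rc_30_2 lc_d_rc_28_2 lc_d_rc_12_3 lc_d_rc_30_2 lc_d_rc_31_0 lc_d_rc_3_1 lc_d_rc_3_1 lc_d_rc_20_3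 lc_d_rc_12_1 lc_d_rc_12_1 lc_d_Cert_tree lc_d_rc_3_1 lc_d_rc_27_0 lc_d_rc_33_2 lc_d_rc_27_0 lc_d_rc_20_3 lc_d_rc_3_1 lc_d_rc_27_0 lc_d_rc_27_0) (@D3.rec (fun _ => (Cert rels S Gen.d)) lc_d_rc_27_0 lc_d_rc_3_1 lc_d_rc_3_1 lc_d_rc_20_5 lc_d_rc_3_1 lc_d_rc_29_2 lc_d_rc_3_1 lc_d_rc_27_0 lc_d_rc_33_2 lc_d_rc_33_2 lc_d_rc_27_0 lc_d_rc_20_3 lc_d_rc_28_4 lc_d_rc_3_1 lc_d_rc_12_1 lc_d_rc_29_4 lc_d_rc_27_0 lc_d_rc_55_72 lc_d_rc_30_2 lc_d_rc_3_1 lc_d_rc_28_0 lc_d_rc_12_1 lc_d_rc_3_1 lc_d_rc_30_2 lc_d_rc_12_3 lc_d_rc_12_1 lc_d_rc_12_1 lc_d_rc_3_1 lc_d_rc_3_1 lc_d_rc_30_2 lc_d_rc_12_1 lc_d_rc_3_1 lc_d_rc_27_0 lc_d_rc_3_1 lc_d_rc_20_3 lc_d_rc_27_0 lc_d_rc_30_2 lc_d_rc_20_3 lc_d_rc_30_2 lc_d_rc_12_1 lc_d_rc_3_1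 lc_d_rc_30_2 lc_d_rc_20_3 lc_d_rc_32_2 lc_d_rc_3_1 lc_d_rc_20_3 lc_d_rc_12_1 lc_d_rc_12_1 lc_d_rc_29_4 lc_d_rc_3_1 lc_d_rc_3_1) (@D3.rec (fun _ => (Cert rels S Gen.d)) lc_d_rc_3_1 lc_d_rc_20_3 lc_d_rc_20_3 lc_d_rc_27_0 lc_d_rc_3_1 lc_d_rc_3_1 lc_d_rc_3_1 lc_d_rc_20_3 lc_d_rc_29_2 lc_d_rc_20_3 lc_d_rc_12_1 lc_d_rc_27_0 lc_d_rc_20_3 lc_d_rc_29_2 lc_d_rc_3_1 lc_d_rc_3_1 lc_d_rc_27_0 lc_d_rc_29_2 lc_d_rc_20_3 lc_d_rc_27_0 lc_d_rc_20_3 lc_d_rc_27_0 lc_d_rc_12_3 lc_d_rc_3_1 lc_d_rc_3_1 lc_d_rc_20_3 lc_d_rc_12_1 lc_d_rc_29_2 lc_d_rc_12_1 lc_d_rc_55_21 lc_d_rc_33_2 lc_d_rc_20_3 lc_d_rc_27_0 lc_d_rc_20_3 lc_d_rc_20_3 lc_d_rc_29_0 lc_d_rc_3_1 lc_d_rc_3_1 lc_d_rc_3_1 lc_d_rc_12_1 lc_d_rc_27_0 lc_d_rc_33_2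 lc_d_rc_20_3 lc_d_rc_3_1 lc_d_rc_27_0 lc_d_rc_33_2 lc_d_rc_55_51 lc_d_rc_33_0 lc_d_rc_28_0 lc_d_rc_33_2 lc_d_rc_12_1) (@D3.rec (fun _ => (Cert rels S Gen.d)) lc_d_rc_28_2 lc_d_rc_3_1 lc_d_rc_12_1 lc_d_rc_30_2 lc_d_rc_3_1 lc_d_rc_12_1 lc_d_rc_12_1 lc_d_rc_33_2 lc_d_rc_3_3 lc_d_rc_3_1 lc_d_rc_3_1 lc_d_rc_20_3 lc_d_rc_12_1 lc_d_rc_3_1 lc_d_rc_27_0 lc_d_rc_20_3 lc_d_rc_20_3 lc_d_rc_20_3 lc_d_rc_12_1 lc_d_rc_20_1 lc_d_rc_56_45 lc_d_Cert_tree lc_d_rc_27_0 lc_d_rc_3_1 lc_d_rc_27_0 lc_d_rc_20_3 lc_d_rc_12_1 lc_d_rc_27_0 lc_d_rc_30_2 lc_d_rc_30_2 lc_d_rc_12_1 lc_d_rc_27_0 lc_d_rc_30_2 lc_d_rc_33_0 lc_d_rc_30_2 lc_d_rc_31_2 lc_d_rc_28_2 lc_d_rc_31_2 lc_d_rc_27_0 lc_d_rc_30_2 lc_d_rc_28_4 lc_d_rc_30_2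 lc_d_rc_28_2 lc_d_rc_31_2 lc_d_rc_31_2 lc_d_rc_30_2 lc_d_rc_3_1 lc_d_rc_3_1 lc_d_rc_3_1 lc_d_rc_20_3 lc_d_rc_12_1) (@D3.rec (fun _ => (Cert rels S Gen.d)) lc_d_rc_27_0 lc_d_rc_3_1 lc_d_rc_20_3 lc_d_rc_12_1 lc_d_rc_12_1 lc_d_rc_27_0 lc_d_rc_30_2 lc_d_rc_29_2 lc_d_rc_3_1 lc_d_rc_27_0 lc_d_rc_30_2 lc_d_rc_20_3 lc_d_rc_30_2 lc_d_rc_28_2 lc_d_rc_3_1 lc_d_rc_30_2 lc_d_rc_20_3 lc_d_rc_12_1 lc_d_rc_3_1 lc_d_rc_27_0 lc_d_rc_27_0 lc_d_rc_30_2 lc_d_rc_20_3 lc_d_rc_30_2 lc_d_rc_12_1 lc_d_rc_12_3 lc_d_rc_3_1 lc_d_rc_30_2 lc_d_rc_3_1 lc_d_rc_20_3 lc_d_rc_20_3 lc_d_rc_12_1 lc_d_rc_29_4 lc_d_rc_3_1 lc_d_rc_27_0 lc_d_rc_20_3 lc_d_rc_3_1 lc_d_rc_3_1 lc_d_rc_3_1 lc_d_rc_3_1 lc_d_rc_12_1 lc_d_rc_20_3 lc_d_rc_12_1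 lc_d_rc_12_3 lc_d_rc_27_0 lc_d_rc_30_2 lc_d_rc_20_3 lc_d_rc_30_2 lc_d_rc_3_3 lc_d_rc_27_0 lc_d_rc_30_2) (@D3.rec (fun _ => (Cert rels S Gen.d)) lc_d_rc_20_3 lc_d_rc_30_2 lc_d_rc_20_5 lc_d_rc_20_1 lc_d_rc_27_0 lc_d_rc_30_2 lc_d_rc_20_3 lc_d_rc_30_2 lc_d_rc_3_1 lc_d_rc_3_1 lc_d_rc_20_3 lc_d_rc_3_1 lc_d_rc_3_1 lc_d_rc_30_2 lc_d_rc_20_3 lc_d_rc_12_1 lc_d_rc_3_1 lc_d_rc_30_2 lc_d_rc_27_0 lc_d_rc_20_3 lc_d_rc_20_3 lc_d_rc_12_1 lc_d_rc_12_1 lc_d_rc_3_1 lc_d_rc_3_1 lc_d_rc_20_3 lc_d_rc_27_0 lc_d_rc_30_2 lc_d_rc_20_3 lc_d_rc_30_2 lc_d_rc_12_1 lc_d_rc_3_1 lc_d_rc_29_2 lc_d_rc_28_2 lc_d_rc_28_0 lc_d_rc_33_2 lc_d_rc_3_1 lc_d_rc_31_0 lc_d_rc_12_1 lc_d_rc_3_1 lc_d_rc_28_2 lc_d_rc_12_1 lc_d_rc_27_0 lc_d_rc_20_3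 lc_d_rc_3_1 lc_d_rc_30_2 lc_d_rc_29_2 lc_d_rc_20_3 lc_d_rc_20_3 lc_d_rc_12_1 lc_d_Cert_tree) (@D3.rec (fun _ => (Cert rels S Gen.d)) lc_d_rc_33_2 lc_d_rc_27_0 lc_d_rc_20_3 lc_d_rc_27_0 lc_d_rc_33_2 lc_d_rc_20_3 lc_d_rc_27_0 lc_d_rc_33_2 lc_d_rc_20_3 lc_d_rc_20_3 lc_d_rc_56_31 lc_d_rc_30_2 lc_d_rc_27_0 lc_d_rc_33_2 lc_d_rc_55_30 lc_d_rc_28_2 lc_d_rc_27_0 lc_d_rc_30_2 lc_d_rc_20_3 lc_d_rc_30_2 lc_d_rc_30_0 lc_d_rc_30_2 lc_d_rc_30_2 lc_d_rc_3_1 lc_d_rc_3_1 lc_d_rc_3_1 lc_d_rc_30_2 lc_d_rc_20_3 lc_d_rc_28_2 lc_d_rc_3_1 lc_d_rc_3_1 lc_d_rc_27_0 lc_d_rc_20_3 lc_d_rc_28_0 lc_d_rc_30_2 lc_d_rc_3_1 lc_d_rc_27_0 lc_d_rc_3_1 lc_d_rc_30_2 lc_d_rc_31_2 lc_d_rc_30_2 lc_d_rc_12_1 lc_d_rc_31_2 lc_d_rc_3_1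 lc_d_rc_30_2 lc_d_rc_12_3 lc_d_rc_31_2 lc_d_rc_33_2 lc_d_rc_20_3 lc_d_rc_31_2 lc_d_rc_31_2) (@D3.rec (fun _ => (Cert rels S Gen.d)) lc_d_rc_32_2 lc_d_rc_55_12 lc_d_rc_20_3 lc_d_rc_3_1 lc_d_rc_20_3 lc_d_rc_56_17 lc_d_rc_3_1 lc_d_rc_3_1 lc_d_rc_30_2 lc_d_rc_20_3 lc_d_rc_27_0 lc_d_rc_12_1 lc_d_rc_56_31 lc_d_rc_12_3 lc_d_rc_29_2 lc_d_rc_33_0 lc_d_rc_3_1 lc_d_rc_3_1 lc_d_rc_30_2 lc_d_rc_29_2 lc_d_rc_20_3 lc_d_rc_29_2 lc_d_rc_20_1 lc_d_rc_12_1 lc_d_rc_20_3 lc_d_rc_3_1 lc_d_rc_3_1 lc_d_rc_3_1 lc_d_rc_31_0 lc_d_rc_20_3 lc_d_rc_3_1 lc_d_rc_3_1 lc_d_rc_12_1 lc_d_rc_56_31 lc_d_rc_12_1 lc_d_rc_12_1 lc_d_rc_28_2 lc_d_rc_3_1 lc_d_rc_20_3 lc_d_rc_20_3 lc_d_rc_30_2 lc_d_rc_27_0 lc_d_rc_3_1 lc_d_rc_20_3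 lc_d_rc_20_3 lc_d_rc_12_1 lc_d_rc_3_1 lc_d_rc_30_2 lc_d_rc_29_2 lc_d_rc_31_0 lc_d_rc_55_12) (@D3.rec (fun _ => (Cert rels S Gen.d)) lc_d_rc_20_3 lc_d_rc_3_1 lc_d_rc_3_1 lc_d_rc_30_2 lc_d_rc_12_1 lc_d_rc_3_1 lc_d_rc_20_3 lc_d_rc_3_1 lc_d_rc_3_1 lc_d_rc_28_2 lc_d_rc_12_1 lc_d_rc_29_4 lc_d_rc_3_1 lc_d_rc_20_3 lc_d_rc_30_2 lc_d_rc_27_0 lc_d_rc_3_1 lc_d_rc_31_2 lc_d_rc_20_3 lc_d_rc_30_2 lc_d_rc_3_1 lc_d_rc_3_1 lc_d_rc_20_3 lc_d_rc_28_2 lc_d_rc_12_1 lc_d_rc_3_1 lc_d_rc_31_0 lc_d_rc_33_2 lc_d_rc_3_1 lc_d_rc_3_1 lc_d_rc_20_3 lc_d_Cert_tree lc_d_rc_27_0 lc_d_rc_33_2 lc_d_rc_33_2 lc_d_rc_3_1 lc_d_rc_12_1 lc_d_rc_33_0 lc_d_rc_30_2 lc_d_rc_33_2 lc_d_rc_20_3 lc_d_rc_3_3 lc_d_rc_12_1 lc_d_rc_12_1 lc_d_rc_20_3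 lc_d_rc_12_1 lc_d_rc_31_0 lc_d_rc_3_1 lc_d_rc_28_4 lc_d_rc_29_2 lc_d_rc_12_3) (@D3.rec (fun _ => (Cert rels S Gen.d)) lc_d_rc_12_1 lc_d_rc_3_1 lc_d_rc_3_1 lc_d_rc_30_2 lc_d_rc_29_2 lc_d_rc_20_3 lc_d_rc_33_0 lc_d_rc_12_1 lc_d_rc_3_1 lc_d_rc_56_38 lc_d_rc_20_3 lc_d_rc_29_2 lc_d_rc_20_3 lc_d_rc_20_5 lc_d_rc_12_1 lc_d_rc_29_4 lc_d_rc_3_1 lc_d_rc_27_0 lc_d_rc_12_1 lc_d_rc_33_2 lc_d_rc_3_1 lc_d_rc_33_2 lc_d_rc_20_3 lc_d_rc_3_1 lc_d_rc_12_1 lc_d_rc_12_1 lc_d_rc_20_3 lc_d_rc_3_1 lc_d_rc_3_1 lc_d_rc_12_1 lc_d_rc_12_1 lc_d_rc_55_12 lc_d_rc_28_4 lc_d_rc_56_31 lc_d_rc_56_31 lc_d_rc_20_3 lc_d_rc_3_3 lc_d_rc_12_1 lc_d_rc_12_1 lc_d_rc_27_1 lc_d_rc_29_2 lc_d_rc_12_1 lc_d_rc_27_1 lc_d_rc_3_3 lc_d_rc_12_1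 lc_d_rc_12_1 lc_d_rc_56_38 lc_d_rc_12_1 lc_d_rc_3_3 lc_d_rc_12_1 lc_d_rc_3_3) (@D3.rec (fun _ => (Cert rels S Gen.d)) lc_d_rc_12_1 lc_d_rc_3_1 lc_d_rc_3_1 lc_d_rc_20_3 lc_d_rc_20_3 lc_d_rc_32_0 lc_d_rc_56_31 lc_d_rc_27_0 lc_d_rc_3_1 lc_d_rc_3_1 lc_d_rc_20_3 lc_d_rc_30_2 lc_d_rc_12_1 lc_d_rc_3_1 lc_d_rc_30_2 lc_d_rc_31_2 lc_d_rc_33_0 lc_d_rc_28_2 lc_d_rc_31_2 lc_d_rc_3_1 lc_d_rc_30_2 lc_d_rc_3_1 lc_d_rc_31_2 lc_d_rc_30_2 lc_d_rc_29_4 lc_d_rc_31_2 lc_d_rc_30_2 lc_d_rc_12_1 lc_d_rc_3_1 lc_d_rc_3_1 lc_d_rc_20_3 lc_d_rc_3_1 lc_d_rc_29_2 lc_d_rc_29_2 lc_d_rc_3_1 lc_d_rc_30_2 lc_d_rc_20_3 lc_d_rc_20_1 lc_d_rc_12_1 lc_d_rc_3_1 lc_d_rc_29_2 lc_d_rc_33_0 lc_d_rc_3_1 lc_d_rc_30_2 lc_d_rc_3_1 lc_d_rc_20_3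 lc_d_rc_20_3 lc_d_rc_33_0 lc_d_rc_12_1 lc_d_rc_3_1 lc_d_rc_3_1) (@D3.rec (fun _ => (Cert rels S Gen.d)) lc_d_rc_3_1 lc_d_rc_20_3 lc_d_rc_3_1 lc_d_rc_12_1 lc_d_rc_12_1 lc_d_rc_12_1 lc_d_rc_12_1 lc_d_rc_27_0 lc_d_rc_33_2 lc_d_rc_20_3 lc_d_rc_20_3 lc_d_rc_30_2 lc_d_rc_33_2 lc_d_rc_20_3 lc_d_rc_20_3 lc_d_rc_30_2 lc_d_rc_28_2 lc_d_rc_20_3 lc_d_rc_3_1 lc_d_rc_30_2 lc_d_rc_20_3 lc_d_rc_12_1 lc_d_rc_3_1 lc_d_rc_12_1 lc_d_rc_3_1 lc_d_rc_3_1 lc_d_rc_20_3 lc_d_rc_12_1 lc_d_rc_3_1 lc_d_rc_29_4 lc_d_rc_3_1 lc_d_rc_20_1 lc_d_rc_12_1 lc_d_rc_3_1 lc_d_rc_3_1 lc_d_rc_30_2 lc_d_rc_31_2 lc_d_rc_20_3 lc_d_rc_28_2 lc_d_rc_12_1 lc_d_rc_55_57 lc_d_rc_33_2 lc_d_rc_28_2 lc_d_rc_55_12 lc_d_rc_12_1 lc_d_rc_55_66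 lc_d_rc_12_1 lc_d_rc_3_1 lc_d_rc_29_2 lc_d_rc_12_1 lc_d_rc_20_3) (@D3.rec (fun _ => (Cert rels S Gen.d)) lc_d_rc_56_31 lc_d_Cert_tree lc_d_rc_27_0 lc_d_rc_33_2 lc_d_rc_28_2 lc_d_rc_3_1 lc_d_rc_3_1 lc_d_rc_56_45 lc_d_rc_55_15 lc_d_rc_20_3 lc_d_rc_12_3 lc_d_rc_20_3 lc_d_rc_30_2 lc_d_rc_3_1 lc_d_rc_3_1 lc_d_rc_20_3 lc_d_rc_12_1 lc_d_rc_12_1 lc_d_rc_3_1 lc_d_rc_3_1 lc_d_rc_28_2 lc_d_rc_20_3 lc_d_rc_12_1 lc_d_rc_12_1 lc_d_rc_3_1 lc_d_rc_29_2 lc_d_rc_31_2 lc_d_rc_28_2 lc_d_rc_31_2 lc_d_rc_12_1 lc_d_rc_3_1 lc_d_rc_20_3 lc_d_rc_31_2 lc_d_rc_3_1 lc_d_rc_20_3 lc_d_rc_29_2 lc_d_rc_55_39 lc_d_rc_20_3 lc_d_rc_12_1 lc_d_rc_12_1 lc_d_rc_12_1 lc_d_rc_56_31 lc_d_rc_12_1 lc_d_rc_29_4 lc_d_rc_56_45 lc_d_rc_55_78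 lc_d_rc_56_38 lc_d_rc_12_1 lc_d_rc_12_1 lc_d_rc_33_2 lc_d_rc_3_1) (@D3.rec (fun _ => (Cert rels S Gen.d)) lc_d_rc_30_2 lc_d_rc_30_2 lc_d_rc_56_31 lc_d_rc_12_1 lc_d_rc_31_0 lc_d_rc_20_3 lc_d_rc_12_1 lc_d_rc_12_1 lc_d_rc_55_24 lc_d_rc_20_3 lc_d_rc_56_38 lc_d_rc_29_2 lc_d_rc_20_3 lc_d_rc_12_1 lc_d_rc_56_38 lc_d_rc_56_45 lc_d_rc_3_1 lc_d_rc_12_1 lc_d_rc_3_1 lc_d_rc_12_1 lc_d_rc_32_2 lc_d_rc_12_1 lc_d_rc_30_0 lc_d_rc_56_31 lc_d_rc_30_2 lc_d_rc_12_1 lc_d_rc_27_1 lc_d_rc_29_2 lc_d_rc_3_1 lc_d_rc_12_1 lc_d_rc_12_1 lc_d_rc_12_1 lc_d_rc_3_1 lc_d_rc_27_0 lc_d_rc_33_2 lc_d_rc_33_2 lc_d_rc_12_1 lc_d_rc_12_1 lc_d_rc_3_1 lc_d_rc_12_1 lc_d_rc_12_1 lc_d_rc_3_1 lc_d_rc_12_1 lc_d_rc_12_1 lc_d_rc_3_1 lc_d_rc_33_0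 lc_d_rc_12_1 lc_d_rc_30_2 lc_d_rc_30_2 lc_d_rc_28_2 lc_d_rc_12_1) (@D3.rec (fun _ => (Cert rels S Gen.d)) lc_d_rc_12_1 lc_d_rc_55_33 lc_d_rc_12_1 lc_d_rc_33_2 lc_d_rc_12_1 lc_d_rc_27_1 lc_d_rc_55_12 lc_d_rc_12_1 lc_d_rc_3_3 lc_d_rc_12_1 lc_d_rc_12_1 lc_d_rc_3_1 lc_d_rc_33_2 lc_d_rc_12_1 lc_d_rc_27_0 lc_d_rc_12_1 lc_d_rc_3_1 lc_d_rc_12_1 lc_d_rc_31_2 lc_d_rc_28_2 lc_d_rc_20_3 lc_d_rc_12_1 lc_d_rc_3_1 lc_d_rc_3_1 lc_d_rc_31_2 lc_d_rc_3_1 lc_d_rc_31_2 lc_d_rc_30_2 lc_d_rc_12_1 lc_d_rc_3_1 lc_d_rc_12_1 lc_d_rc_12_1 lc_d_rc_3_1 lc_d_rc_28_2 lc_d_rc_28_2 lc_d_rc_12_1 lc_d_rc_33_0 lc_d_rc_12_1 lc_d_rc_3_1 lc_d_rc_20_3 lc_d_rc_33_0 lc_d_rc_29_2 lc_d_rc_12_1 lc_d_rc_12_1 lc_d_rc_3_1 lc_d_rc_12_1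 lc_d_rc_55_33 lc_d_rc_33_2 lc_d_rc_20_1 lc_d_rc_29_0 lc_d_rc_33_2) (@D3.rec (fun _ => (Cert rels S Gen.d)) lc_d_rc_28_4 lc_d_rc_12_1 lc_d_rc_20_3 lc_d_rc_12_1 lc_d_rc_12_1 lc_d_rc_55_33 lc_d_rc_12_1 lc_d_rc_29_4 lc_d_rc_56_31 lc_d_rc_12_1 lc_d_rc_12_1 lc_d_rc_20_3 lc_d_rc_29_2 lc_d_rc_12_1 lc_d_rc_33_2 lc_d_rc_27_0 lc_d_rc_12_1 lc_d_rc_3_1 lc_d_rc_12_1 lc_d_rc_27_0 lc_d_rc_3_3 lc_d_rc_56_38 lc_d_rc_12_1 lc_d_rc_12_1 lc_d_rc_12_1 lc_d_rc_12_1 lc_d_rc_30_2 lc_d_rc_12_1 lc_d_rc_3_1 lc_d_rc_33_2 lc_d_rc_12_1 lc_d_rc_28_2 lc_d_rc_3_1 lc_d_rc_12_1 lc_d_rc_29_2 lc_d_rc_20_3 lc_d_rc_29_2 lc_d_rc_12_1 lc_d_rc_56_38 lc_d_rc_20_3 lc_d_rc_55_21 lc_d_rc_56_31 lc_d_rc_12_1 lc_d_rc_3_1 lc_d_rc_12_1 lc_d_rc_12_1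 lc_d_rc_30_0 lc_d_rc_3_1 lc_d_rc_12_1 lc_d_rc_12_1 lc_d_rc_12_1) (@D3.rec (fun _ => (Cert rels S Gen.d)) lc_d_rc_56_31 lc_d_rc_30_2 lc_d_rc_12_1 lc_d_rc_12_1 lc_d_rc_33_2 lc_d_rc_12_1 lc_d_rc_12_1 lc_d_rc_12_1 lc_d_rc_33_2 lc_d_rc_55_33 lc_d_rc_12_1 lc_d_rc_12_1 lc_d_rc_12_1 lc_d_rc_20_3 lc_d_rc_20_3 lc_d_rc_12_1 lc_d_rc_12_1 lc_d_rc_3_1 lc_d_rc_3_1 lc_d_rc_12_1 lc_d_rc_12_1 lc_d_rc_28_2 lc_d_rc_12_1 lc_d_rc_12_1 lc_d_rc_29_2 lc_d_rc_29_2 lc_d_rc_12_1 lc_d_rc_3_1 lc_d_rc_30_2 lc_d_rc_33_2 lc_d_rc_12_1 lc_d_rc_56_38 lc_d_rc_56_38 lc_d_rc_12_1 lc_d_rc_3_1 lc_d_rc_12_1 lc_d_rc_12_1 lc_d_rc_3_1 lc_d_rc_12_1 lc_d_rc_28_2 lc_d_rc_12_1 lc_d_rc_31_2 lc_d_rc_29_2 lc_d_rc_20_1 lc_d_rc_12_1 lc_d_rc_20_5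 lc_d_rc_31_2 lc_d_rc_12_1 lc_d_rc_12_1 lc_d_rc_28_2 lc_d_rc_29_2)
def ce_d : Pt → (Cert rels S Gen.d) := @Pt.rec (fun _ => (Cert rels S Gen.d)) (@D1.rec (fun _ => D2 → D3 → (Cert rels S Gen.d)) ce_d_0 ce_d_1 ce_d_2 ce_d_3 ce_d_4 ce_d_5 ce_d_6 ce_d_7 ce_d_8 ce_d_9 ce_d_10 ce_d_11 ce_d_12 ce_d_13 ce_d_14 ce_d_15 ce_d_16 ce_d_17 ce_d_18 ce_d_19 ce_d_20 ce_d_21 ce_d_22)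
def isSeed_d (p : Pt) : Bool := false

end

end Cfsg.Agent.Helper28.S1689
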