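import Cfsg.Agent.Lib.Helper28.S1689.Tree

set_option autoImplicit false
set_option maxRecDepth 100000
set_option linter.all false

namespace Cfsg.Agent.Helper28.S1689

open Cfsg.Agent.Helper28
open Cfsg.Spor.Fi23 (Gen)

noncomputable section

def lv_e_0 : D2 → D3 → Nat := @D2.rec (fun _ => D3 → Nat) (@D3.rec (fun _ => Nat) 1 2 3 0 1 5 6 6 7 7 7 8 8 0 8 9 0 9 1 2 0 10 0 1 2 9 2 3 0 1 2 1 2 10 2 3 10 10 3 0 1 2 11 2 3 10 11 2 3 11 11) (@D3.rec (fun _ => Nat) 3 11 11 11 10 1 2 11 12 2 3 12 12 3 0 11 11 12 12 3 0 12 12 12 11 12 12 0 11 12 13 2 3 0 12 12 13 13 3 0 13 13 13 12 1 2 2 2 12 12 13) (@D3.rec (fun _ => Nat) 13 13 0 1 13 13 0 12 13 0 0 1 12 13 0 13 13 14 14 3 0 1 2 2 2 13 13 14 14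 14 0 1 14 14 0 13 2 2 2 3 4 3 3 3 13 0 14 14 0 0 1) (@D3.rec (fun _ => Nat) 14 14 0 0 1 13 0 0 1 0 1 13 0 14 14 1 2 2 2 14 14 15 15 15 0 0 1 2 2 2 3 4 3 3 3 14 0 15 15 0 0 1 15 15 0 0 1 14 14 3 4) (@D3.rec (fun _ => Nat) 3 13 3 3 5 4 5 4 4 0 0 0 1 15 0 0 1 0 1 5 15 0 0 1 0 1 14 0 1 0 1 14 0 1 13 1 2 2 2 0 15 15 2 2 2 3 4 3 3 3 15) (@D3.rec (fun _ => Nat) 0 16 16 0 0 1 1 16 15 3 4 3 14 3 3 5 4 5 4 4 0 0 0 1 16 0 0 1 0 1 5 16 0 0 1 0 1 15 15 15 15 5 4 14 5 4 14 14 4 0 6) (@D3.rec (fun _ => Nat) 5 6 0 0 0 1 0 1 0 1 5 0 0 1 0 1 5 0 1 6 6 16 0 1 0 1 15 0 1 7 0 1 15 0 1 14 15 1 14 14 15 2 2 2 3 4 3 15 3 3 1) (@D3.rec (fun _ => Nat) 2 16 0 16 3 4 3 15 3 3 5 4 5 4 4 0 0 0 1 17 0 0 1 0 1 5 15 17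 17 16 16 16 5 4 15 5 4 15 15 4 0 6 5 6 0 0 0 1 0 1 0) (@D3.rec (fun _ => Nat) 1 5 0 0 1 0 1 5 0 1 6 6 17 0 1 0 1 16 0 1 7 16 16 16 0 16 16 15 6 5 15 15 6 0 15 15 15 0 0 1 7 0 0 0 1 0 1 0 1 5 0) (@D3.rec (fun _ => Nat) 1 7 0 1 14 6 6 0 1 0 1 16 0 1 7 6 6 1 7 7 7 0 1 16 0 1 8 16 1 8 8 0 1 15 16 16 1 15 16 0 15 15 16 16 17 3 4 3 3 3 5) (@D3.rec (fun _ => Nat) 4 16 5 4 16 4 0 2 3 0 0 1 17 17 17 5 4 16 5 4 16 4 0 6 5 6 0 0 0 1 0 1 0 1 5 0 0 1 0 1 5 0 1 16 6 6 0 16 18 18 17) (@D3.rec (fun _ => Nat) 17 17 0 17 17 16 6 5 16 16 6 0 16 16 0 0 1 7 0 0 0 1 0 1 0 1 5 0 1 7 0 1 15 6 6 0 1 0 1 17 0 1 7 6 6 1 7 7 7 0 1) (@D3.rec (fun _ => Nat) 17 0 1 8 17 1 8 8 17 17 0 17 17 0 1 2 17 0 16 16 7 0 16 16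 16 0 0 1 0 0 1 0 1 15 0 0 1 0 1 0 1 17 0 1 6 0 1 15 6 6 0) (@D3.rec (fun _ => Nat) 1 15 7 7 1 15 7 0 7 7 0 1 17 0 1 8 17 17 1 8 7 15 8 7 7 8 8 8 0 1 9 17 17 1 9 17 0 9 9 1 16 17 0 16 17 16 17 0 1 2 0) (@D3.rec (fun _ => Nat) 17 17 17 18 18 18 5 4 5 4 4 0 17 6 5 17 6 0 17 0 0 1 3 0 0 1 0 1 5 18 18 18 0 18 18 17 6 5 17 6 0 17 0 0 1 7 0 0 0 1 0) (@D3.rec (fun _ => Nat) 1 0 1 5 0 1 7 0 1 5 6 6 0 1 0 1 18 0 1 17 6 6 1 17 7 0 17 7 7 1 2 2 17 19 18 18 0 18 18 0 1 2 18 0 17 17 7 0 17 17 0) (@D3.rec (fun _ => Nat) 0 1 0 0 1 0 1 16 0 0 1 0 1 0 1 18 0 1 6 0 1 16 6 6 0 1 16 7 7 1 16 7 0 7 7 0 1 18 0 1 8 18 18 1 8 7 16 8 7 7 8) (@D3.rec (fun _ => Nat) 8 8 0 1 9 18 18 1 9 18 0 9 9 9 9 9 0 18 18 0 1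 2 18 0 0 1 2 2 3 0 0 1 17 17 17 0 0 1 0 0 1 0 1 5 1 1 16 1 16 16 16) (@D3.rec (fun _ => Nat) 0 1 0 1 18 0 1 18 0 1 16 18 18 0 1 16 8 8 1 16 7 0 16 7 7 1 16 9 0 16 9 9 16 8 16 0 8 1 2 8 0 1 9 18 18 1 9 18 0 9 18) (@D3.rec (fun _ => Nat) 18 9 8 16 8 16 16 8 9 9 1 10 18 0 10 18 10 18 0 1 2 17 18 0 18 1 2 2 0 1 2 1 2 2 18 18 0 19 19 19 19 19 6 5 6 0 0 0 1 18 7) (@D3.rec (fun _ => Nat) 0 18 0 0 1 0 0 1 0 1 5 0 0 1 0 1 7 0 1 5 6 6 19 19 0 19 19 1 2 19 0 18 7 0 18 0 0 1 0 0 1 0 1 17 0 0 1 0 1 0 1) (@D3.rec (fun _ => Nat) 19 0 1 6 0 1 6 6 6 0 1 6 7 7 1 6 7 0 6 7 7 0 1 19 0 1 18 19 19 1 18 7 0 18 7 7 18 8 0 18 8 1 2 2 18 8 2 2 3 4 3) (@D3.rec (fun _ => Nat) 0 19 19 0 1 2 19 0 1 2 2 3 0 0 1 18 18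 0 0 1 0 0 1 0 1 5 1 0 1 17 0 1 17 17 17 0 1 0 1 19 0 1 19 0 1 17 19 19 0 1 17) (@D3.rec (fun _ => Nat) 8 8 1 17 7 0 17 7 7 1 17 9 0 17 9 9 17 8 17 0 8 1 2 8 0 1 9 19 19 1 9 19 0 9 19 19 9 8 9 17 9 8 17 17 9 8 9 9 1 10 19) (@D3.rec (fun _ => Nat) 0 10 19 10 19 10 0 10 1 2 10 10 10 0 1 2 19 0 0 1 2 2 3 0 0 1 1 17 2 3 0 0 1 0 1 5 0 0 1 0 1 6 1 1 7 1 17 6 6 17 17) (@D3.rec (fun _ => Nat) 17 17 17 17 0 17 17 17 0 1 19 0 1 17 19 19 0 1 17 19 19 1 17 19 0 17 19 19 1 17 8 0 17 8 8 17 8 0 8 1 2 2 8 17 9 17 0 17 9 1 2) (@D3.rec (fun _ => Nat) 2 9 17 0 9 0 1 2 9 2 3 1 10 19 0 10 19 19 10 19 0 19 1 2 2 19 17 9 17 9 17 17 10 11 19 0 19 1 2 2 0 1 2 0 19 1 2 2 2 4 1)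
def lv_e_1 : D2 → D3 → Nat := @D2.rec (fun _ => D3 → Nat) (@D3.rec (fun _ => Nat) 17 2 2 3 3 3 19 0 0 1 20 20 20 20 20 0 7 0 0 0 1 0 1 0 1 18 19 0 0 1 0 0 1 0 1 20 0 1 0 1 6 0 1 6 6 6 0 1 0 1 7) (@D3.rec (fun _ => Nat) 0 1 6 7 7 1 6 7 0 6 7 7 0 20 20 1 2 20 0 2 3 0 0 1 19 0 0 1 0 0 1 0 1 5 0 1 0 1 18 0 1 7 18 18 0 1 0 1 20 0 1) (@D3.rec (fun _ => Nat) 20 0 1 7 20 20 0 1 8 8 8 1 7 7 0 7 7 7 1 7 9 0 7 9 9 7 8 7 0 7 8 1 2 2 7 8 0 1 19 20 20 1 19 20 0 19 20 20 19 8 19) (@D3.rec (fun _ => Nat) 0 19 8 1 2 2 19 8 0 19 9 1 2 2 19 9 2 2 3 4 3 20 3 4 18 3 5 5 0 1 2 20 0 1 2 2 3 0 0 1 18 2 3 0 0 1 0 1 5 0 0) (@D3.rec (fun _ => Nat) 1 0 1 6 1 0 1 7 0 1 18 6 6 18 1 18 18 18 1 18 18 0 18 18 18 0 1 20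 0 1 18 20 20 0 1 18 20 20 1 18 20 0 18 20 20 1 18 8 0 18 8) (@D3.rec (fun _ => Nat) 8 18 8 18 0 18 8 1 2 2 18 8 18 9 18 0 18 9 1 2 2 9 18 0 9 0 1 2 9 2 3 1 10 20 0 10 20 20 10 20 10 0 10 20 1 2 2 10 20 10 18) (@D3.rec (fun _ => Nat) 9 18 10 18 18 9 18 18 18 10 11 20 11 0 11 20 1 2 2 11 11 0 0 11 1 2 2 3 0 0 1 2 19 2 3 0 0 1 1 18 2 3 0 0 1 0 1 6 18 18 18) (@D3.rec (fun _ => Nat) 0 1 1 6 1 18 6 6 1 1 8 1 18 7 7 7 18 7 7 18 7 0 18 7 7 18 0 18 18 18 0 18 18 1 2 2 18 0 1 18 20 20 1 18 20 0 18 20 20 1 18) (@D3.rec (fun _ => Nat) 20 0 18 20 20 18 20 0 20 1 2 2 20 18 10 0 10 1 2 2 10 0 9 1 2 9 2 2 3 4 18 0 18 11 0 18 1 2 2 11 2 2 3 4 18 0 1 2 10 1 2) (@D3.rec (fun _ => Nat) 2 3 20 3 11 20 0 20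 1 2 2 20 0 20 1 2 20 2 2 3 4 18 10 18 18 0 20 1 2 2 2 4 1 18 1 2 2 19 4 18 18 3 3 3 4 4 0 0 0 1 0) (@D3.rec (fun _ => Nat) 1 19 21 21 21 0 0 0 1 0 0 1 0 1 0 1 5 0 1 19 0 1 7 19 19 0 0 1 0 1 21 0 1 0 1 21 0 1 7 21 21 0 1 8 0 1 8 8 8 1 7) (@D3.rec (fun _ => Nat) 7 0 7 7 7 0 1 20 0 1 18 9 9 1 7 9 0 7 9 9 7 8 7 0 7 8 1 2 2 7 8 1 2 21 0 2 3 0 0 1 3 0 0 1 0 1 5 0 0 1 0) (@D3.rec (fun _ => Nat) 1 6 0 1 0 1 7 0 1 8 6 6 1 19 1 9 19 19 1 8 19 0 8 19 19 0 1 21 0 1 8 21 21 0 1 9 21 21 1 8 21 0 8 21 21 1 9 8 0 9 8) (@D3.rec (fun _ => Nat) 8 8 8 8 0 8 8 1 2 2 8 8 8 9 8 0 8 9 1 2 2 8 9 8 0 8 9 0 8 1 2 2 8 9 2 2 3 4 3 1 20 21 0 20 21 21 20 21 20 0 20) (@D3.rec (fun _ => Nat) 21 1 2 2 20 21 20 0 20 9 0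 20 1 2 2 20 9 2 2 3 4 3 1 2 2 20 10 2 2 3 4 3 21 3 4 8 3 5 5 21 21 5 19 5 19 19 104 1 2 20 2) (@D3.rec (fun _ => Nat) 3 0 0 1 19 2 3 0 0 1 0 1 6 19 19 0 1 0 1 6 0 1 19 6 6 1 0 1 8 0 1 19 7 7 7 1 19 7 7 1 19 7 0 19 7 7 19 19 19 0 19) (@D3.rec (fun _ => Nat) 19 19 19 19 0 19 19 1 2 2 19 19 0 1 19 21 21 1 19 21 0 19 21 21 1 19 21 0 19 21 21 19 21 19 0 19 21 1 2 2 19 21 19 10 19 0 19 10 1 2 2) (@D3.rec (fun _ => Nat) 19 10 19 0 9 0 19 1 2 2 9 2 2 3 4 3 19 0 19 11 0 19 1 2 2 11 2 2 3 4 19 0 1 2 10 1 2 2 3 21 3 11 21 11 0 11 21 1 2 2 11) (@D3.rec (fun _ => Nat) 21 11 0 21 0 11 1 2 2 21 2 2 3 4 3 19 19 10 19 19 0 19 19 19 19 12 0 21 0 12 1 2 2 2 2 4 3 0 1 1 2 0 2 19 3 1 1 19 20 2 20) (@D3.rec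 (fun _ => Nat) 3 0 0 1 0 1 20 19 19 19 0 1 1 8 1 19 7 7 19 19 1 8 19 8 8 19 7 0 19 7 7 9 19 9 9 19 8 0 19 8 8 9 0 9 9 19 0 19 8 1 2) (@D3.rec (fun _ => Nat) 2 8 19 1 2 19 0 1 2 2 19 2 2 3 4 1 19 21 0 19 21 21 19 21 0 21 1 95 94 21 19 21 0 21 1 2 2 21 0 21 1 2 21 2 2 98 100 0 10 1 2) (@D3.rec (fun _ => Nat) 10 2 2 3 4 1 2 10 2 3 104 3 4 104 19 0 19 1 2 2 11 1 2 2 76 2 2 3 4 21 3 4 18 5 0 1 2 2 3 18 2 3 21 3 21 0 21 1 2 21 2) (@D3.rec (fun _ => Nat) 2 91 93 1 2 21 2 3 3 4 93 91 19 1 2 2 20 4 19 19 2 20 20 19 19 21 4 4 0 5 0 0 1 0 1 0 1 5 0 1 19 20 20 22 0 0 0 1 0 1 0) (@D3.rec (fun _ => Nat) 1 5 0 1 0 1 6 0 1 7 0 1 8 6 6 1 9 20 20 1 8 20 0 8 20 20 0 1 0 1 22 0 1 8 22 22 0 1 22 0 1 9 22 22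 1 8 22 0 8 22 22) (@D3.rec (fun _ => Nat) 0 1 19 8 8 1 9 8 0 9 8 8 8 8 8 0 8 8 1 2 2 8 8 70 1 19 21 21 1 19 9 0 19 9 9 8 9 8 0 8 9 1 2 2 8 9 8 0 8 9 0) (@D3.rec (fun _ => Nat) 8 1 2 2 8 9 2 2 3 4 3 21 2 3 0 0 1 3 0 0 1 0 1 6 0 0 1 0 1 6 0 1 9 6 6 0 1 0 1 8 0 1 9 7 7 1 7 1 10 7 7) (@D3.rec (fun _ => Nat) 1 9 7 0 9 7 7 18 20 20 10 20 0 10 20 20 9 20 9 0 9 20 1 2 2 9 20 0 1 10 22 22 1 9 22 0 9 22 22 1 10 22 0 10 22 22 9 22 9 0 9)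
def lv_e_2 : D2 → D3 → Nat := @D2.rec (fun _ => D3 → Nat) (@D3.rec (fun _ => Nat) 22 1 2 2 9 22 10 10 10 0 10 10 1 2 2 10 10 9 0 9 9 0 9 1 2 2 9 9 2 2 3 4 3 0 11 0 1 2 2 11 2 2 3 4 3 0 1 2 2 10 1) (@D3.rec (fun _ => Nat) 2 2 2 2 3 4 3 22 3 4 8 3 5 5 21 22 21 0 21 22 1 2 2 21 22 21 0 21 22 0 21 1 2 2 21 22 2 2 3 4 3 0 21 1 2 2 21 10 1 2 2) (@D3.rec (fun _ => Nat) 0 21 2 2 3 4 3 9 3 4 9 3 5 5 2 2 3 4 3 22 3 4 9 3 5 5 22 22 5 9 5 9 9 6 22 22 105 22 20 20 20 20 21 2 21 3 0 0 1 0 1) (@D3.rec (fun _ => Nat) 21 20 20 0 1 0 1 8 0 1 20 7 7 1 8 1 20 8 8 1 20 7 0 20 7 7 9 1 20 9 9 1 20 8 0 20 8 8 9 20 9 0 9 9 20 8 20 0 20 8 1) (@D3.rec (fun _ => Nat) 2 2 20 8 20 20 0 20 1 2 20 20 0 20 20 0 20 1 2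 2 20 20 2 2 3 4 3 1 20 22 0 20 22 22 20 22 20 0 20 22 1 93 93 20 22 20 22 20 0 20 22) (@D3.rec (fun _ => Nat) 1 2 2 20 22 20 0 22 0 20 1 2 2 22 2 2 103 100 3 20 0 10 0 20 1 2 2 10 2 2 3 4 3 0 1 2 10 1 2 2 0 2 2 3 4 105 3 4 3 106 5) (@D3.rec (fun _ => Nat) 0 1 2 2 11 1 2 2 2 2 3 4 22 3 4 19 5 0 1 2 2 3 11 2 3 22 3 22 12 0 22 0 12 1 2 2 22 2 2 93 99 3 0 1 2 22 1 2 2 0 2) (@D3.rec (fun _ => Nat) 2 3 4 3 4 95 3 93 5 20 20 20 20 0 1 20 20 0 1 2 1 2 2 0 2 2 4 21 4 20 3 5 1 21 2 0 1 20 20 20 22 20 21 0 20 20 21 21 0 1 1) (@D3.rec (fun _ => Nat) 21 1 20 21 21 20 20 1 9 20 9 9 20 8 94 20 8 8 20 19 8 0 8 8 20 0 20 8 1 92 92 8 10 0 10 10 20 92 20 94 1 92 96 94 9 1 2 9 0 1 100) (@D3.rec (fun _ =>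 Nat) 2 92 2 2 101 102 2 3 1 2 2 2 102 4 103 3 4 19 105 20 22 0 22 1 91 90 22 0 22 1 93 22 0 22 1 2 22 2 2 101 98 1 2 22 2 101 1 2 12 2 3) (@D3.rec (fun _ => Nat) 106 3 4 19 99 2 3 103 3 0 1 2 2 2 2 3 4 19 2 2 3 4 63 22 3 4 19 5 22 22 5 19 19 1 2 19 2 3 22 3 19 22 3 22 1 2 22 2 91 2 3) (@D3.rec (fun _ => Nat) 3 2 21 21 0 20 22 5 0 0 1 0 0 1 0 1 5 0 1 6 0 1 20 6 6 1 20 21 0 20 21 21 0 0 1 0 1 0 1 6 0 1 6 0 1 9 6 6 0 1 8) (@D3.rec (fun _ => Nat) 0 1 9 7 7 1 10 7 7 1 9 7 0 9 7 7 10 21 0 10 21 21 9 21 9 0 9 21 1 2 2 9 21 0 1 23 0 1 10 23 23 1 9 23 0 9 23 23 0 1 20) (@D3.rec (fun _ => Nat) 23 23 1 10 23 0 10 23 23 9 23 9 0 9 23 1 2 2 9 23 1 20 10 0 20 10 10 10 10 10 0 10 10 1 2 2 10 10 9 0 9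 9 0 9 1 2 2 9 9 2 2) (@D3.rec (fun _ => Nat) 3 4 3 22 0 22 22 11 0 11 1 2 2 11 0 11 0 1 2 2 11 2 2 3 4 3 0 1 2 2 10 1 2 2 2 2 3 4 3 23 3 4 20 3 5 5 22 3 0 0 1) (@D3.rec (fun _ => Nat) 0 1 22 0 0 1 0 1 8 0 1 10 7 7 0 1 1 8 1 11 8 8 1 10 7 0 10 7 7 1 9 1 11 9 9 1 10 8 0 10 8 8 19 9 9 11 9 0 11 9 9) (@D3.rec (fun _ => Nat) 10 8 10 0 10 8 1 2 2 10 8 0 19 21 21 11 0 11 21 1 2 2 11 21 10 0 10 21 0 10 1 2 2 10 21 2 2 3 4 3 1 11 23 0 11 23 23 10 23 10 0) (@D3.rec (fun _ => Nat) 10 23 1 2 2 10 23 11 23 11 0 11 23 1 2 2 11 23 10 0 10 23 0 10 1 2 2 10 23 2 2 3 4 3 11 0 11 10 0 11 1 2 2 11 10 2 2 3 4 3 10) (@D3.rec (fun _ => Nat) 0 10 1 2 2 10 10 1 2 2 0 10 2 2 3 4 3 9 3 4 9 3 5 5 1 2 11 1 2 2 2 3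 4 23 3 4 20 3 5 5 1 2 2 2 3 4 11 2 2 3 4) (@D3.rec (fun _ => Nat) 23 3 4 9 3 5 5 23 23 5 9 5 9 9 6 22 0 22 23 0 22 1 2 2 22 23 2 2 3 4 3 0 22 1 2 2 22 23 1 2 2 0 22 2 2 3 4 3 9 3 4) (@D3.rec (fun _ => Nat) 10 3 5 5 1 2 2 22 2 2 3 4 3 2 2 3 4 0 3 1 2 10 3 4 10 3 5 5 10 10 5 10 5 10 10 6 23 3 4 10 3 5 5 23 23 5 10 5 10 10 6) (@D3.rec (fun _ => Nat) 23 23 0 23 10 6 10 10 10 10 10 21 21 21 0 21 21 22 22 0 1 0 1 22 0 1 21 22 22 1 9 1 21 9 9 1 21 8 90 21 8 8 20 8 21 8 0 8 8 21 8) (@D3.rec (fun _ => Nat) 21 0 21 8 1 94 94 8 10 21 10 0 10 10 21 9 21 0 21 9 1 96 102 21 96 9 21 0 9 1 2 9 21 0 21 9 0 21 1 2 2 21 9 2 2 99 102 3 0 1 2) (@D3.rec (fun _ => Nat) 21 2 3 21 0 21 1 2 2 21 1 2 2 0 2 2 3 4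 3 105 3 4 20 3 104 5 21 23 21 0 21 23 1 93 2 21 23 21 0 23 0 21 1 101 95 23 94 21 0 23 0) (@D3.rec (fun _ => Nat) 21 1 2 2 23 2 2 101 4 3 0 1 2 23 1 2 2 0 2 2 101 96 3 98 0 1 2 12 1 2 2 2 2 3 4 107 3 4 20 3 5 5 1 2 2 3 12 2 2 3 4) (@D3.rec (fun _ => Nat) 0 1 103 3 4 98 5 106 1 2 2 2 3 4 12 2 2 3 4 23 3 4 20 5 23 23 5 20 20 1 2 12 2 3 23 3 12 12 23 3 23 0 1 2 23 1 2 2 0 2 2) (@D3.rec (fun _ => Nat) 97 89 3 96 1 2 2 3 12 2 2 3 4 0 1 3 4 95 93 5 96 91 21 21 0 1 5 1 2 2 22 2 2 4 0 1 22 4 21 5 21 22 22 0 1 5 21 21 21 21 23)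
def lv_e_3 : D2 → D3 → Nat := @D2.rec (fun _ => D3 → Nat) (@D3.rec (fun _ => Nat) 21 0 21 1 2 2 0 1 22 21 22 22 21 20 10 93 10 10 21 0 20 10 1 90 10 21 1 92 11 1 93 92 94 2 99 1 100 2 97 103 3 20 2 105 4 20 104 94 23 1 91) (@D3.rec (fun _ => Nat) 23 1 95 23 1 100 23 2 99 2 99 2 106 98 3 20 105 3 1 2 20 2 2 3 4 23 3 4 20 110 20 23 3 4 5 64 23 5 20 20 20 2 3 20 23 3 23 2 97 3 22) (@D3.rec (fun _ => Nat) 0 1 23 0 0 1 0 1 21 0 1 0 1 6 0 1 21 6 6 0 1 21 7 7 1 21 7 0 21 7 7 21 22 21 0 21 22 1 2 2 21 22 0 1 0 1 23 0 1 8 0) (@D3.rec (fun _ => Nat) 1 10 7 7 1 11 8 8 1 10 7 0 10 7 7 1 11 9 9 1 10 8 0 10 8 8 11 9 0 11 9 9 10 8 10 0 10 8 1 2 2 10 8 11 0 11 22 1 2 2 11) (@D3.rec (fun _ => Nat) 22 10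 0 10 22 0 10 1 2 2 10 22 2 2 3 4 3 0 1 21 24 24 1 11 24 0 11 24 24 10 24 10 0 10 24 1 2 2 10 24 1 21 24 0 21 24 24 11 24 11 0) (@D3.rec (fun _ => Nat) 11 24 1 2 2 11 24 10 0 10 24 0 10 1 2 2 10 24 2 2 3 4 3 21 10 21 0 21 10 1 2 2 21 10 11 0 11 10 0 11 1 2 2 11 10 2 2 3 4 3 10) (@D3.rec (fun _ => Nat) 0 10 1 2 2 10 10 1 2 2 0 10 2 2 3 4 3 9 3 4 21 3 5 5 23 1 2 23 11 1 2 11 2 2 3 4 1 2 11 1 2 2 2 3 4 24 3 4 8 3 5) (@D3.rec (fun _ => Nat) 5 1 2 2 2 3 4 20 2 2 3 4 24 3 4 21 3 5 5 24 24 5 21 5 21 21 6 23 0 0 1 0 1 23 0 1 11 23 23 0 1 1 9 1 12 9 9 1 11 8 0) (@D3.rec (fun _ => Nat) 11 8 8 1 21 20 8 8 12 8 0 12 8 8 11 8 11 0 11 8 1 2 2 11 8 20 10 10 12 10 0 12 10 10 11 9 11 0 11 9 1 2 2 11 9 0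 20 9 9 12 0) (@D3.rec (fun _ => Nat) 12 9 1 2 2 12 9 11 0 11 9 0 11 1 2 2 11 9 2 2 3 4 3 1 2 2 20 22 0 12 1 2 2 12 22 2 2 3 4 3 11 0 11 1 2 2 11 22 1 2 2) (@D3.rec (fun _ => Nat) 0 11 2 2 3 4 3 9 3 4 21 3 5 5 12 24 12 0 12 24 1 2 2 12 24 11 0 11 24 0 11 1 2 2 11 24 2 2 3 4 3 12 0 12 24 0 12 1 2 2 12) (@D3.rec (fun _ => Nat) 24 2 2 3 4 3 11 0 11 1 2 2 11 24 1 2 2 0 11 2 2 3 4 3 9 3 4 10 3 5 5 12 0 12 1 2 2 12 12 1 2 2 67 12 2 2 3 4 3 11 3) (@D3.rec (fun _ => Nat) 4 21 3 5 5 0 1 2 2 11 2 2 3 4 3 12 2 2 3 4 0 3 1 2 10 3 4 10 3 5 5 10 10 5 10 5 10 10 6 2 3 12 2 3 24 3 4 21 5 24 24) (@D3.rec (fun _ => Nat) 5 21 5 21 21 6 12 2 3 24 3 4 10 5 12 12 24 3 4 20 5 24 24 5 10 5 10 10 6 24 24 0 24 10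 6 10 10 10 10 10 0 23 1 2 2 23 24 1 2 2 0) (@D3.rec (fun _ => Nat) 23 2 2 3 4 3 23 3 4 11 3 5 5 1 2 2 23 2 2 3 4 3 12 2 2 3 4 0 3 1 2 10 3 4 11 3 5 5 10 10 5 11 5 11 11 6 2 2 3 4 3) (@D3.rec (fun _ => Nat) 11 3 4 11 3 5 5 11 3 4 0 3 5 0 5 1 2 5 2 11 11 5 11 5 11 11 6 11 11 0 11 11 6 11 11 11 11 11 24 24 5 11 5 11 58 6 24 24 0 24 11) (@D3.rec (fun _ => Nat) 6 11 11 11 11 11 104 101 1 101 11 11 11 11 11 22 22 1 2 2 0 1 23 1 22 23 23 1 22 23 21 10 22 10 95 10 10 22 9 22 98 22 9 21 10 22 0 10 1 93 10) (@D3.rec (fun _ => Nat) 22 0 22 9 0 22 1 92 97 9 11 22 0 11 1 93 95 22 94 22 94 0 22 1 94 92 22 94 94 0 1 2 11 2 99 22 0 22 1 94 2 92 1 2 2 0 2 2 95 102 3) (@D3.rec (fun _ => Nat) 3 102 1 2 2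 3 107 3 0 1 2 2 2 2 106 4 13 2 2 3 4 0 1 99 3 4 21 3 104 5 5 21 108 22 0 24 0 22 1 95 92 24 2 95 94 0 1 95 24 1 97) (@D3.rec (fun _ => Nat) 99 0 0 1 2 24 1 2 2 2 2 101 98 4 21 3 101 100 1 2 2 95 13 2 2 101 102 0 1 1 2 2 3 13 2 2 3 4 103 3 4 21 102 107 5 21 5 21 106 13 2) (@D3.rec (fun _ => Nat) 3 105 3 13 13 105 3 4 0 106 0 1 5 59 2 3 24 3 4 21 5 13 13 24 3 4 59 5 24 24 5 21 21 24 109 21 21 21 59 2 3 13 13 24 3 24 0 13 13 13 24) (@D3.rec (fun _ => Nat) 1 2 2 101 13 2 2 99 99 0 1 13 2 3 3 13 13 3 4 0 93 0 1 5 94 96 0 1 4 5 23 2 23 23 23 23 4 0 0 1 5 22 22 23 0 23 76 1 4 5 22) (@D3.rec (fun _ => Nat) 22 22 24 0 22 1 2 2 2 1 5 23 0 21 11 1 21 73 21 2 3 21 24 3 4 110 24 5 65 21 21 24 3 1 0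 0 1 0 1 22 72 1 22 22 22 0 1 24 0 1 22) (@D3.rec (fun _ => Nat) 7 7 1 22 7 0 22 7 7 1 22 8 0 22 8 8 22 8 22 0 22 8 1 2 2 22 8 22 0 22 23 0 22 1 2 2 22 23 2 2 3 4 3 0 1 24 0 1 11 24 24) (@D3.rec (fun _ => Nat) 1 12 9 9 1 11 8 0 11 8 8 12 8 0 12 8 8 11 8 11 0 11 8 1 2 2 11 8 12 10 0 12 10 10 11 9 11 0 11 9 1 2 2 11 9 12 0 12 9 1 2) (@D3.rec (fun _ => Nat) 2 12 9 11 0 11 9 0 11 1 2 2 11 9 2 2 3 4 3 0 12 1 2 2 12 23 2 2 3 4 3 11 0 11 1 2 2 11 23 1 2 2 0 11 2 2 3 4 3 9 3) (@D3.rec (fun _ => Nat) 4 8 3 5 5 1 22 25 0 22 25 25 12 25 12 0 12 25 1 2 2 12 25 11 0 11 25 0 11 1 2 2 11 25 2 2 3 4 3 22 25 22 0 22 25 1 2 2 22 25 12)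
def lv_e_4 : D2 → D3 → Nat := @D2.rec (fun _ => D3 → Nat) (@D3.rec (fun _ => Nat) 0 12 25 0 12 1 2 2 12 25 2 2 3 4 3 11 0 11 1 2 2 11 25 1 2 2 0 11 2 2 3 4 3 9 3 4 22 3 5 5 22 58 22 12 0 22 1 2 2 22 12) (@D3.rec (fun _ => Nat) 2 2 3 4 3 12 0 12 1 2 2 12 12 1 2 2 0 12 2 2 3 4 3 11 3 4 8 3 5 5 0 66 1 2 2 66 11 2 2 3 4 3 21 2 2 3 4 0 3 1 2) (@D3.rec (fun _ => Nat) 10 3 4 22 3 5 5 10 10 5 22 5 22 22 6 24 2 3 13 2 3 25 3 4 8 5 2 3 21 2 3 25 3 4 60 5 25 25 5 9 5 9 58 6 21 2 3 25 3 4 22) (@D3.rec (fun _ => Nat) 5 21 21 25 3 4 57 5 25 25 5 22 5 22 22 6 25 25 0 25 22 6 22 22 22 22 22 94 93 1 1 24 1 13 24 24 1 12 24 0 12 24 1 22 21 10 10 13 10 0 13) (@D3.rec (fun _ => Nat) 10 10 12 9 12 0 12 9 1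 2 2 12 9 21 22 22 95 21 10 10 13 0 13 10 1 2 2 13 10 0 9 0 1 2 2 75 9 2 2 3 4 3 95 21 95 95 13 0 13 11 1) (@D3.rec (fun _ => Nat) 2 2 13 95 12 0 12 10 0 12 1 2 2 12 95 2 2 3 4 3 1 97 2 21 97 0 13 1 2 2 13 11 2 2 3 4 3 12 0 12 1 2 2 12 10 1 2 2 0 12 2) (@D3.rec (fun _ => Nat) 2 3 4 3 9 3 4 22 3 5 5 2 2 105 4 3 1 2 2 13 2 2 3 4 3 11 3 4 8 3 5 5 0 12 1 2 2 68 12 2 2 3 4 3 13 2 2 3 4 0 3) (@D3.rec (fun _ => Nat) 1 2 10 3 4 22 3 5 5 10 10 5 22 5 22 22 6 13 0 13 25 0 13 1 2 2 13 25 2 2 3 4 3 12 0 12 1 2 2 12 25 1 2 2 0 12 2 2 3 4 3) (@D3.rec (fun _ => Nat) 24 3 4 11 3 5 5 13 0 13 1 2 2 13 25 1 2 2 67 13 2 2 3 4 3 10 3 4 22 3 5 5 0 1 2 2 12 2 2 3 4 3 13 2 2 3 4 0 3 1 2) (@D3.rec (fun _ => Nat)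 10 3 4 11 3 5 5 10 10 5 11 5 11 11 6 0 1 2 2 13 2 2 3 4 3 13 2 2 3 4 0 3 68 11 3 4 22 3 5 5 11 11 5 22 5 22 22 6 1 2 13) (@D3.rec (fun _ => Nat) 2 2 3 4 3 11 3 4 11 3 5 5 13 13 11 3 4 0 3 5 0 5 1 2 5 2 11 11 5 11 5 11 11 6 11 11 0 11 11 6 11 11 11 11 11 25 3 13 13 25 3) (@D3.rec (fun _ => Nat) 25 25 5 22 22 25 25 0 25 22 6 22 22 22 22 22 13 13 25 3 25 25 5 11 11 0 13 13 21 13 25 25 5 21 21 25 25 0 25 11 6 11 11 11 11 11 25 0 25 107 1) (@D3.rec (fun _ => Nat) 108 102 102 11 105 11 11 11 11 1 95 2 24 2 2 97 4 3 13 2 2 97 4 0 3 1 2 24 3 4 12 3 5 5 24 24 5 12 5 12 12 6 13 2 2 99 4 3 11 3 4) (@D3.rec (fun _ => Nat) 12 3 5 5 13 13 11 3 4 0 3 5 0 5 1 2 5 2 11 11 5 12 5 12 12 6 11 11 0 11 12 6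 12 12 12 12 12 103 3 4 66 3 5 5 95 12 5 12 5 12 12) (@D3.rec (fun _ => Nat) 6 95 12 5 0 5 0 1 2 0 6 1 2 4 2 5 5 101 12 0 12 12 6 12 12 12 12 12 12 101 12 101 1 2 12 12 12 12 12 12 12 12 25 25 0 25 12 6 12 58 12) (@D3.rec (fun _ => Nat) 56 58 101 0 1 101 12 12 12 12 12 12 12 12 12 12 12 2 2 1 92 24 23 24 23 22 11 23 95 11 23 23 90 23 22 96 1 92 10 100 1 100 1 94 98 0 1 97 23 97 23) (@D3.rec (fun _ => Nat) 98 1 98 96 0 94 1 2 2 95 0 1 102 2 2 96 14 2 2 103 100 0 1 3 100 14 2 3 105 3 1 2 14 2 2 106 4 4 22 104 14 14 105 3 4 0 104 0 1 5 5) (@D3.rec (fun _ => Nat) 22 22 104 0 1 91 25 1 95 92 1 94 14 0 1 1 2 2 99 14 2 2 99 100 14 2 102 14 14 0 0 1 5 59 2 3 101 3 14 14 103 3 4 67 107 22 22 14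 14 105 3) (@D3.rec (fun _ => Nat) 0 14 14 0 14 0 1 0 1 4 5 61 59 25 3 25 5 22 22 0 14 14 57 14 25 25 5 59 59 22 22 111 22 22 59 59 57 25 3 0 14 14 14 25 1 2 2 14 14 93 2) (@D3.rec (fun _ => Nat) 99 91 97 0 0 1 5 93 99 3 93 99 0 14 0 0 1 0 1 4 5 1 13 6 7 24 24 24 91 24 0 24 0 76 1 1 4 92 24 76 1 76 14 6 94 1 2 0 2 22 5) (@D3.rec (fun _ => Nat) 95 1 22 22 22 22 25 3 22 22 93 1 94 1 92 94 1 23 23 23 23 96 23 23 92 1 23 25 25 1 23 8 96 23 8 8 8 98 8 1 96 94 8 23 90 23 94 23 92 1 96) (@D3.rec (fun _ => Nat) 2 23 94 23 98 23 94 96 23 1 98 2 23 94 2 2 98 4 3 23 102 23 1 94 2 23 24 1 96 2 0 23 2 2 102 4 3 104 3 4 8 3 5 5 1 13 25 25 1 12 25) (@D3.rec (fun _ => Nat) 90 12 25 25 13 10 0 13 10 10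 12 9 12 0 12 9 1 2 2 12 9 13 0 13 10 1 2 2 13 10 0 9 0 1 2 2 9 2 2 3 4 3 13 0 13 11 1 2 2 13 11) (@D3.rec (fun _ => Nat) 12 0 12 96 0 12 1 2 2 12 98 2 2 3 4 3 0 13 1 2 2 13 11 2 2 3 4 3 12 0 12 1 2 2 12 100 1 2 2 0 12 2 2 3 4 3 9 3 4 9 3) (@D3.rec (fun _ => Nat) 5 5 1 2 2 65 13 2 2 3 4 3 11 3 4 20 3 5 5 0 12 1 2 2 0 12 2 2 3 4 3 22 2 2 3 4 0 3 1 2 10 3 4 9 3 5 5 10 10 5 9) (@D3.rec (fun _ => Nat) 5 9 9 6 23 26 23 0 23 26 1 2 2 23 26 13 0 13 26 0 13 1 2 2 13 26 2 2 3 4 3 12 0 12 1 2 2 12 26 1 2 2 0 12 2 2 3 4 3 25 3) (@D3.rec (fun _ => Nat) 4 23 3 5 5 23 0 23 26 0 23 1 2 2 23 26 2 2 3 4 3 13 0 13 1 2 2 13 26 1 2 2 0 13 2 2 3 4 3 10 3 4 8 3 5 5 0 68 1 2 2)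
def lv_e_5 : D2 → D3 → Nat := @D2.rec (fun _ => D3 → Nat) (@D3.rec (fun _ => Nat) 66 12 2 2 3 4 3 22 2 2 3 4 0 3 1 2 10 3 4 23 3 5 5 10 10 5 23 5 23 23 6 23 60 23 60 58 23 12 1 2 2 0 23 2 2 3 4 3 11 3 4) (@D3.rec (fun _ => Nat) 8 3 5 5 0 69 1 2 2 69 13 2 2 3 4 3 22 2 2 3 4 0 3 1 2 11 3 4 58 3 5 5 11 11 5 9 5 9 9 6 1 2 2 68 22 2 2 3 4 0 3) (@D3.rec (fun _ => Nat) 66 11 3 4 23 3 5 5 22 22 11 3 4 0 3 5 0 5 1 2 5 2 3 11 11 5 23 5 23 23 6 11 11 0 11 23 6 23 23 23 23 23 26 3 26 3 26 26 5 9 9) (@D3.rec (fun _ => Nat) 26 3 22 22 26 3 26 26 5 60 60 26 26 0 26 10 6 10 60 10 60 58 22 22 26 3 26 26 5 23 23 0 22 22 57 22 26 26 5 59 57 26 26 0 26 23 6 23 23 23 23) (@D3.rec (fun _ => Nat) 23 26 0 26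 0 1 2 23 23 23 23 23 23 23 23 14 25 13 25 13 0 13 1 92 14 0 14 11 1 14 0 10 0 1 2 2 77 2 2 4 96 22 0 76 1 2 2 77 10 2 2) (@D3.rec (fun _ => Nat) 3 1 2 10 1 2 2 2 3 4 3 22 3 4 23 3 5 5 97 22 0 14 1 2 2 14 99 2 2 95 95 3 13 0 13 1 2 2 13 95 1 2 2 0 13 2 2 3 4 3 25) (@D3.rec (fun _ => Nat) 3 4 23 3 5 5 2 99 3 1 2 2 14 2 2 3 4 3 10 3 4 101 3 95 5 0 13 1 2 2 70 13 2 2 3 4 3 14 2 2 3 4 0 3 1 2 10 3 4 23 3) (@D3.rec (fun _ => Nat) 5 5 10 10 5 23 5 23 23 6 4 8 3 105 5 14 2 2 3 4 3 11 3 4 65 3 5 5 11 11 5 9 5 9 9 6 1 2 2 13 14 2 2 3 4 0 3 69 11 3 4) (@D3.rec (fun _ => Nat) 23 3 5 5 14 14 11 3 4 0 3 5 0 5 1 2 5 2 11 11 5 23 5 23 23 6 11 11 0 11 23 6 23 23 23 23 23 14 0 14 1 2 2 14 26 1 2 2 69 14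 2) (@D3.rec (fun _ => Nat) 2 3 4 3 25 3 4 23 3 99 5 0 1 2 2 13 2 2 3 4 3 14 2 2 3 4 0 3 1 2 25 3 4 12 3 5 5 25 25 5 12 5 12 12 6 0 1 2 2 14 2) (@D3.rec (fun _ => Nat) 2 3 4 3 14 2 2 3 4 0 3 69 12 3 4 23 3 5 5 12 12 5 23 5 23 23 6 1 2 14 2 2 3 4 3 11 3 4 12 3 5 5 14 14 11 3 4 0 3 5 0) (@D3.rec (fun _ => Nat) 5 1 2 5 2 11 11 5 12 5 12 12 6 11 11 0 11 12 6 12 12 12 12 12 1 2 2 2 3 4 3 13 3 4 3 5 5 14 14 13 3 4 0 3 5 0 5 1 2 13 13) (@D3.rec (fun _ => Nat) 5 23 5 23 23 6 13 13 0 13 23 6 23 23 23 23 23 66 2 3 14 14 12 3 4 64 3 5 5 12 12 5 12 5 12 12 6 0 14 14 0 14 12 12 5 0 5 0 1 2 0) (@D3.rec (fun _ => Nat) 6 1 2 4 2 5 5 12 12 0 12 12 6 12 12 12 12 12 12 0 12 0 1 2 12 12 12 12 12 12 12 12 26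 0 14 14 14 26 26 26 0 23 23 23 26 0 26 0 1 2 23) (@D3.rec (fun _ => Nat) 23 23 23 23 23 23 23 0 14 14 14 26 26 26 0 12 12 12 1 2 2 14 22 14 22 22 26 26 0 22 22 22 26 0 26 0 1 2 12 12 12 12 12 12 12 12 106 26 107 1 106) (@D3.rec (fun _ => Nat) 102 102 100 100 12 100 100 12 12 0 2 97 3 4 13 3 97 5 4 0 3 99 0 5 1 2 5 2 25 5 13 5 13 13 6 25 0 25 13 6 13 13 13 13 13 4 68 3 99 5 12) (@D3.rec (fun _ => Nat) 5 13 5 13 13 6 0 14 12 5 0 5 0 1 2 0 6 1 2 4 2 5 5 12 0 12 13 6 13 13 13 13 13 12 105 12 0 1 2 13 13 13 13 13 13 13 13 101 5 66 5) (@D3.rec (fun _ => Nat) 68 62 6 95 0 13 13 6 13 13 13 13 56 93 0 13 0 6 0 1 2 0 1 2 23 2 3 1 2 13 2 6 6 7 7 103 99 13 0 1 2 13 13 13 13 13 13 13 13 13 101) (@D3.rec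 (fun _ => Nat) 99 109 2 102 13 13 13 13 13 101 0 1 101 13 61 13 58 58 13 56 56 99 99 1 99 13 13 13 13 0 13 23 15 1 98 96 93 15 98 1 15 2 101 1 100 15 2 101 15 15 102) (@D3.rec (fun _ => Nat) 1 5 15 15 107 3 15 2 102 15 15 4 68 106 23 0 15 15 0 15 0 72 1 0 1 4 5 23 1 93 15 15 15 1 5 15 2 99 15 15 69 15 15 15 0 15 1 1 4 5 61) (@D3.rec (fun _ => Nat) 59 106 3 0 15 15 64 15 67 66 23 0 15 15 15 1 2 15 0 15 1 2 1 22 1 13 6 7 0 61 59 57 23 1 2 2 15 59 15 59 57 101 61 61 61 61 59 107 61 59 57) (@D3.rec (fun _ => Nat) 26 1 102 2 15 15 2 2 4 3 15 0 93 1 1 4 5 95 0 93 0 1 2 1 1 14 1 13 6 7 14 14 6 25 0 25 78 1 79 1 15 15 15 23 2 29 1 23 23 23 23) (@D3.rec (fun _ => Nat) 23 24 24 98 24 2 96 3 24 98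 24 98 0 24 2 100 3 4 9 3 98 5 24 102 0 24 2 94 3 2 94 0 3 1 2 4 9 3 102 5 106 5 9 5 9 9 6 14 26 93 91) (@D3.rec (fun _ => Nat) 26 26 13 13 90 13 14 0 14 11 1 2 2 14 11 0 0 1 2 2 2 2 0 1 2 2 10 2 2 3 4 3 1 2 1 2 2 2 3 4 23 3 4 96 3 0 14 1 2 2 14) (@D3.rec (fun _ => Nat) 94 2 2 3 4 3 13 0 13 1 2 2 13 1 2 2 0 13 2 2 3 4 3 26 3 4 94 3 100 5 1 2 2 67 14 2 2 3 4 3 10 3 4 21 3 5 5 0 13 1 2) (@D3.rec (fun _ => Nat) 2 0 13 2 2 3 4 3 23 2 2 3 4 0 3 1 2 10 3 4 10 3 5 5 10 10 5 94 5 100 10 6 23 2 2 3 4 0 3 67 11 3 4 21 3 5 5 11 11 5 21) (@D3.rec (fun _ => Nat) 5 21 21 6 1 2 2 68 13 23 2 2 3 4 0 3 1 2 11 3 4 10 3 5 5 23 23 11 3 4 0 3 5 0 5 1 2 5 2 3 11 11 5 10 5 10 10 6 11 11 0)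
def lv_e_6 : D2 → D3 → Nat := @D2.rec (fun _ => D3 → Nat) (@D3.rec (fun _ => Nat) 11 10 6 10 10 10 10 10 24 0 24 27 97 24 1 98 2 24 27 2 2 3 4 3 14 0 14 1 2 2 14 27 1 2 2 0 14 2 2 3 4 3 26 3 4 8 3 5 5 0 68) (@D3.rec (fun _ => Nat) 1 2 2 68 13 2 2 3 4 3 23 2 2 3 4 0 3 1 2 26 3 4 24 3 5 5 26 26 5 24 5 24 24 6 24 97 24 1 2 2 24 27 1 97 2 0 24 2 2 98 4) (@D3.rec (fun _ => Nat) 3 12 3 4 8 3 5 5 0 69 1 2 2 69 14 2 2 3 4 3 23 2 2 3 4 0 3 1 2 12 3 4 9 3 5 5 12 12 5 9 5 9 9 6 1 2 2 68 23 2 2) (@D3.rec (fun _ => Nat) 3 4 0 3 68 11 3 4 24 3 5 5 23 23 11 3 4 0 3 5 0 5 1 2 5 2 3 11 11 5 24 5 24 24 6 11 11 0 11 24 6 24 24 24 24 24 60 24 60 58 71) (@D3.rec (fun _ => Nat) 24 60 58 56 2 2 102 4 0 3 1 2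 13 3 4 3 5 5 13 13 5 9 5 9 9 6 1 2 2 68 2 2 3 4 0 3 68 13 3 4 3 5 5 23 23 13 3 4 0 3 5) (@D3.rec (fun _ => Nat) 0 5 1 2 5 2 3 13 13 5 60 5 58 58 6 13 13 0 13 10 6 10 10 10 10 56 23 2 2 3 4 3 23 23 12 3 4 0 3 5 0 5 1 2 68 12 12 5 24 5 24) (@D3.rec (fun _ => Nat) 24 6 0 23 23 0 23 12 12 5 0 5 0 1 2 0 6 1 2 4 2 3 5 5 3 12 12 0 12 24 6 24 24 24 24 24 12 0 12 0 1 2 24 24 24 24 24 24 24 24 0) (@D3.rec (fun _ => Nat) 10 10 10 27 0 23 23 23 27 27 27 0 62 60 69 27 0 27 99 1 100 108 60 101 60 58 71 67 58 0 23 23 23 27 27 27 0 24 24 24 1 2 2 23 59 23 57 57 27 27 0) (@D3.rec (fun _ => Nat) 60 57 55 27 0 27 0 1 2 24 24 24 24 24 24 24 24 0 27 103 1 113 0 1 107 2 3 24 24 24 24 24 24 24 24 0 15 1 91 0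 78 1 77 1 1 2 2 4 97 95 4) (@D3.rec (fun _ => Nat) 24 1 2 2 2 2 3 23 3 2 15 2 23 3 4 24 3 5 5 23 23 5 24 5 24 24 97 1 2 2 15 2 2 99 99 3 3 95 0 14 1 97 2 70 14 2 2 98 4 3 15) (@D3.rec (fun _ => Nat) 2 2 4 0 3 1 2 26 3 4 24 3 5 5 26 5 24 5 24 24 99 3 99 15 2 2 3 4 3 12 3 4 69 3 95 5 12 12 5 101 95 1 2 2 14 15 2 2 105 4 0) (@D3.rec (fun _ => Nat) 3 69 11 3 4 24 3 5 5 15 15 11 3 4 0 3 5 0 5 1 2 5 2 11 11 5 24 5 24 24 6 11 11 0 11 24 6 24 24 24 24 24 9 5 9 9 103 15 15 13 3) (@D3.rec (fun _ => Nat) 4 65 3 5 5 13 13 5 67 5 67 61 6 95 95 103 13 99 6 10 10 10 10 10 15 2 2 3 4 3 15 15 12 3 4 0 3 5 0 5 1 2 12 12 5 24 5 24 24 6 0) (@D3.rec (fun _ => Nat) 15 15 0 15 12 12 5 0 5 0 1 2 0 6 1 2 4 2 5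 5 12 12 0 12 24 6 24 24 24 24 24 12 0 12 0 1 2 24 24 24 24 24 24 24 24 0 1 2 2 15 2) (@D3.rec (fun _ => Nat) 2 3 4 3 15 2 2 97 4 0 3 69 26 3 4 24 3 101 5 5 24 103 1 96 15 2 2 3 4 3 26 3 4 13 3 5 5 102 15 26 3 4 0 3 5 103 5 1 2 5 2) (@D3.rec (fun _ => Nat) 26 26 5 13 5 13 13 6 26 26 0 26 13 6 13 13 13 13 13 1 2 15 2 2 3 4 3 12 3 4 24 3 5 5 15 15 12 3 4 0 3 5 0 5 1 2 12 12 5 24 5) (@D3.rec (fun _ => Nat) 24 24 6 12 12 0 12 6 24 24 24 24 68 2 100 15 15 12 3 4 68 3 5 5 12 12 5 13 5 13 13 6 0 101 15 0 15 12 12 5 0 5 0 1 2 103 6 1 2 4 2) (@D3.rec (fun _ => Nat) 5 5 12 12 0 12 13 6 13 13 13 13 13 12 0 12 0 1 2 13 13 13 13 13 13 13 13 2 3 13 3 4 64 3 5 5 13 13 5 5 6 0 15 15 0 15 13 13 5 0 5) (@D3.rec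 (fun _ => Nat) 0 1 2 0 6 1 2 2 13 13 0 13 24 6 24 24 24 24 105 0 13 0 1 2 24 24 24 24 24 24 24 24 66 65 13 3 0 15 15 65 15 13 13 5 66 5 68 65 6 13 13) (@D3.rec (fun _ => Nat) 0 13 13 6 13 13 13 13 1 2 2 15 0 15 0 1 2 13 13 0 13 0 6 0 1 2 0 1 2 12 2 3 1 2 13 2 6 6 7 7 13 0 13 0 1 2 13 13 13 13 13) (@D3.rec (fun _ => Nat) 13 13 13 108 13 103 1 2 0 1 103 2 102 13 103 108 13 13 102 13 13 0 27 1 2 2 15 15 27 27 0 0 1 24 24 24 0 27 105 1 110 0 1 105 2 3 24 24 24 24 24) (@D3.rec (fun _ => Nat) 24 24 24 0 1 100 2 15 15 27 27 0 0 1 13 13 13 2 2 110 4 0 3 23 15 23 23 23 23 27 0 0 1 23 23 23 102 27 0 1 103 102 1 101 2 102 100 98 100 13 100) (@D3.rec (fun _ => Nat) 13 13 13 0 104 102 102 100 104 13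 56 1 3 99 14 5 14 14 99 5 0 1 2 99 99 1 2 4 2 5 5 0 26 14 6 14 14 14 14 14 0 26 0 1 2 14 14 14 14 14 14) (@D3.rec (fun _ => Nat) 14 14 5 70 70 101 0 13 14 6 14 14 14 14 14 0 1 2 13 6 0 1 2 0 1 2 24 2 3 1 2 13 2 6 6 7 7 101 13 0 1 2 14 14 14 14 14 14 14 14 13) (@D3.rec (fun _ => Nat) 105 105 0 1 2 2 3 14 14 14 14 14 14 14 14 0 101 103 68 6 68 68 66 62 61 101 103 0 1 2 14 14 14 14 58 14 14 56 95 103 0 1 2 0 1 2 0 1 2 5 2) (@D3.rec (fun _ => Nat) 3 0 1 2 24 2 3 24 24 3 14 2 14 14 6 6 7 103 99 101 99 1 2 2 101 14 14 14 14 14 14 14 14 0 101 14 14 14 101 0 1 101 14 59 14 56 58 56 56 0 23) (@D3.rec (fun _ => Nat) 0 14 56 1 24 96 16 76 16 4 5 99 16 16 16 63 16 16 16 65 16 68 1 2 16 0 16 74 1 2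 1 1 104 6 7 16 16 16 4 5 16 16 69 16 16 16 16 1 2 23 13)
def lv_e_7 : D2 → D3 → Nat := @D2.rec (fun _ => D3 → Nat) (@D3.rec (fun _ => Nat) 6 7 104 61 59 57 1 2 16 67 16 66 66 68 1 2 16 16 2 3 16 1 2 23 2 100 23 102 14 6 1 2 61 59 2 2 4 103 3 59 16 59 57 59 57 59 57 113 59 57 2) (@D3.rec (fun _ => Nat) 102 3 16 4 23 3 5 1 2 15 26 6 1 2 1 15 2 23 15 14 14 6 15 15 1 95 16 16 25 0 25 98 3 98 0 25 100 0 98 1 2 10 3 100 5 10 100 0 25 55 104) (@D3.rec (fun _ => Nat) 1 2 10 3 102 3 0 104 1 2 5 2 3 10 5 10 10 102 98 104 10 6 10 10 10 10 10 15 91 89 93 0 1 2 2 2 2 1 1 2 2 2 1 2 2 2 3 4 24 3 4) (@D3.rec (fun _ => Nat) 22 3 2 24 2 3 24 3 4 98 24 24 1 2 2 67 15 2 2 3 4 3 27 3 4 22 3 5 5 0 14 1 2 2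 0 14 2 2 3 24 2 2 3 4 0 3 1 2 27 3 4) (@D3.rec (fun _ => Nat) 98 3 5 5 96 102 24 2 2 3 4 0 3 67 12 3 4 22 3 5 5 12 12 5 22 5 22 22 6 1 2 2 70 14 24 2 2 3 4 0 3 1 2 11 3 4 100 3 5 24 24) (@D3.rec (fun _ => Nat) 11 3 4 0 3 5 0 5 1 2 5 2 3 11 11 5 96 5 77 11 6 11 11 96 11 6 96 100 102 100 24 24 13 3 4 0 3 5 0 5 1 2 67 13 13 5 22 5 22 22 6) (@D3.rec (fun _ => Nat) 13 13 0 13 22 6 22 22 22 22 22 24 2 2 3 4 0 3 70 67 24 24 12 3 4 0 3 5 0 5 1 2 5 2 3 12 12 5 94 5 55 11 6 0 24 24 0 24 12 12 5) (@D3.rec (fun _ => Nat) 0 5 0 1 2 0 6 1 2 4 2 3 5 5 3 12 12 0 12 100 6 11 11 11 11 11 104 108 12 0 1 2 11 11 11 11 11 11 11 11 25 97 25 1 98 2 25 28 99 0 25) (@D3.rec (fun _ => Nat) 2 96 98 3 3 4 8 3 5 5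 0 71 1 2 2 71 15 2 2 3 4 3 24 2 2 3 4 0 3 1 2 27 3 4 9 3 5 5 27 27 5 9 5 9 9 6 1 2 2 70 24) (@D3.rec (fun _ => Nat) 2 2 3 4 0 3 68 27 3 4 25 3 5 5 24 24 27 3 4 0 3 5 0 5 1 2 5 2 3 27 27 5 25 5 25 25 6 27 27 6 25 25 25 25 25 97 97 71 25 2 2) (@D3.rec (fun _ => Nat) 98 4 3 2 99 0 3 1 2 12 4 9 3 98 5 12 12 5 9 5 9 9 6 1 2 2 70 24 2 2 3 4 0 3 68 12 3 4 10 3 5 5 24 24 12 3 4 0 3 5 0) (@D3.rec (fun _ => Nat) 5 1 2 5 2 3 12 12 5 10 5 10 10 6 12 12 0 12 10 6 10 10 10 10 10 24 2 2 3 4 3 24 24 12 3 4 0 3 5 0 5 1 2 68 12 12 5 25 5 25 25) (@D3.rec (fun _ => Nat) 6 0 24 24 0 24 12 12 5 0 5 0 1 2 0 6 1 2 4 2 3 5 5 3 12 12 0 12 25 6 25 25 25 25 25 12 0 12 0 1 2 25 25 25 25 25 25 25 60 71 25) (@D3.rec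 (fun _ => Nat) 60 0 58 71 60 58 4 0 3 102 0 5 1 2 5 2 3 13 5 5 6 13 0 13 10 6 10 10 10 10 2 2 3 4 3 13 3 4 0 3 5 0 5 1 2 68 13 13 5 5 6) (@D3.rec (fun _ => Nat) 0 24 24 0 24 13 13 5 0 5 0 1 2 0 6 1 2 4 2 3 5 5 3 13 13 0 13 60 6 60 58 66 58 13 0 13 0 1 2 112 11 103 11 58 73 11 58 24 24 13 3) (@D3.rec (fun _ => Nat) 4 68 3 5 5 0 24 24 0 24 13 13 5 0 5 0 1 2 0 6 1 2 2 3 13 13 0 13 25 6 25 25 25 25 1 2 2 24 0 24 0 1 2 13 13 0 13 0 6 0 1) (@D3.rec (fun _ => Nat) 2 0 1 2 12 2 3 1 2 13 2 3 6 6 3 7 7 7 13 0 13 0 1 2 25 25 25 25 25 25 25 25 0 13 0 1 2 0 1 2 2 3 25 25 25 25 25 25 25 25 0) (@D3.rec (fun _ => Nat) 1 28 1 2 2 24 24 28 28 0 0 1 62 67 104 28 101 1 100 101 101 60 67 60 64 65 68 1 2 2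 24 24 28 28 0 0 1 25 25 25 2 2 3 4 0 3 100 24 57 57 55) (@D3.rec (fun _ => Nat) 55 28 103 0 1 60 57 55 0 28 0 1 2 0 1 2 2 3 25 25 25 25 25 25 25 25 0 112 1 104 103 111 103 1 103 107 3 25 25 25 25 25 0 25 54 1 1 96 4 25 99) (@D3.rec (fun _ => Nat) 2 2 24 3 24 24 24 24 5 25 5 25 24 24 96 25 25 25 25 25 96 2 2 101 3 3 99 1 2 15 2 97 0 3 71 27 4 25 3 102 5 102 27 4 0 3 5 1 2 5 2) (@D3.rec (fun _ => Nat) 27 5 25 5 25 25 101 27 25 25 25 25 104 16 12 3 4 67 3 101 5 12 12 5 69 69 97 12 103 98 2 2 4 3 12 4 0 3 103 0 5 1 2 12 12 5 25 5 25 6 98) (@D3.rec (fun _ => Nat) 102 0 16 12 12 5 0 5 0 1 2 6 1 2 4 2 5 5 12 12 0 12 25 6 25 25 25 25 25 12 98 12 106 1 2 25 25 25 25 25 25 25 25 10 10 10 10 10 0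 16 16) (@D3.rec (fun _ => Nat) 66 16 13 13 5 65 5 69 64 6 97 97 101 13 67 6 69 67 65 63 60 97 107 99 107 99 11 11 11 11 11 11 16 16 13 3 4 65 3 5 5 96 100 16 65 16 105 13 5 0 5) (@D3.rec (fun _ => Nat) 0 1 2 0 6 1 2 2 13 13 0 13 25 6 25 25 25 25 25 1 99 2 16 0 16 0 1 2 13 13 0 13 0 6 0 1 2 0 1 2 13 2 3 1 2 13 2 6 6 7 7) (@D3.rec (fun _ => Nat) 13 0 13 0 1 2 25 25 25 25 25 25 25 25 104 13 0 1 2 0 1 2 2 3 25 25 25 25 25 25 25 25 0 1 95 2 2 4 3 27 3 4 25 3 99 5 16 27 4 0 3) (@D3.rec (fun _ => Nat) 99 101 5 1 2 5 25 25 101 25 16 27 3 4 68 3 5 5 27 27 5 14 5 14 14 6 99 98 16 27 27 5 99 5 0 1 2 6 103 4 2 5 5 27 27 0 27 14 6 14 14) (@D3.rec (fun _ => Nat) 14 14 14 27 0 1 2 14 14 14 14 14 14 14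 14 2 101 16 14 3 4 72 3 5 5 14 14 5 25 5 25 25 6 104 16 0 16 14 14 5 0 5 0 1 2 101 6 1 2 2 14)
def lv_e_8 : D2 → D3 → Nat := @D2.rec (fun _ => D3 → Nat) (@D3.rec (fun _ => Nat) 14 0 14 6 25 25 25 25 25 14 1 2 25 25 25 25 70 13 0 16 68 16 13 13 5 66 5 68 68 6 13 13 0 13 14 6 14 14 14 14 14 1 105 105 102 16 0 1 2 13 13) (@D3.rec (fun _ => Nat) 0 13 103 6 0 1 2 0 1 2 13 2 3 103 13 2 6 6 7 7 13 0 13 0 1 2 14 14 14 14 14 14 14 14 108 13 0 1 2 0 1 2 2 3 14 14 14 14 14 14 14) (@D3.rec (fun _ => Nat) 14 0 15 3 15 15 5 66 5 66 6 15 15 15 6 1 101 2 16 0 16 1 2 15 15 0 15 0 6 0 1 2 0 1 2 2 3 1 2 15 2 105 0 15 0 1 2 25 25 25 25) (@D3.rec (fun _ => Nat) 25 25 107 99 103 1 2 0 1 2 2 3 25 25 25 25 25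 25 25 25 0 100 105 68 65 102 1 102 2 16 66 16 59 14 14 0 14 66 6 70 66 66 65 57 14 0 14 0 1 2 14) (@D3.rec (fun _ => Nat) 14 14 14 14 14 2 2 3 4 0 3 0 16 0 1 2 0 1 2 13 2 3 14 0 14 0 1 2 0 1 2 0 1 2 5 2 3 0 1 2 13 2 3 13 13 3 99 2 14 14 6) (@D3.rec (fun _ => Nat) 6 7 104 14 0 1 2 0 1 2 2 3 14 14 14 14 14 14 14 14 0 106 101 101 2 102 101 1 101 12 14 102 14 100 106 14 54 1 2 2 3 4 3 16 0 0 1 103 1 25 25) (@D3.rec (fun _ => Nat) 109 1 104 105 107 1 107 101 3 25 25 25 25 25 106 25 58 1 2 102 3 16 105 0 1 0 1 14 14 4 0 3 112 0 5 0 1 2 24 24 24 24 24 24 102 0 1 0 1 24 24) (@D3.rec (fun _ => Nat) 102 100 1 101 102 9 100 100 98 100 98 0 14 54 1 102 100 15 15 15 0 1 2 25 2 3 101 2 6 6 7 1 2 15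 15 15 15 15 15 15 105 1 2 97 1 2 2 3 15 15 103) (@D3.rec (fun _ => Nat) 15 15 15 15 15 0 70 70 1 2 15 15 15 15 15 15 0 1 2 25 2 0 1 2 101 2 3 0 1 2 25 2 3 25 25 3 14 2 14 14 6 6 101 0 1 2 2 3 15 15 15) (@D3.rec (fun _ => Nat) 15 15 15 15 15 0 105 107 102 0 1 2 2 3 3 15 15 15 15 15 0 15 0 1 99 101 70 68 66 61 61 66 61 59 101 103 0 1 2 2 103 15 15 58 15 15 56 15 54 0 99) (@D3.rec (fun _ => Nat) 101 0 1 2 4 2 3 0 1 2 101 2 3 0 1 2 5 2 3 5 5 3 1 2 25 2 3 25 25 3 0 25 25 25 99 15 15 15 8 99 99 99 9 2 101 15 15 0 15 54 1) (@D3.rec (fun _ => Nat) 99 99 1 99 24 56 0 54 58 1 24 1 25 100 17 78 6 7 103 17 17 17 17 68 17 67 2 3 17 1 2 74 2 106 6 17 17 6 17 17 71 17 24 2 24 14 6 104 61 59 2) (@D3.rec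 (fun _ => Nat) 3 17 66 69 66 2 3 17 107 3 106 2 24 24 100 24 99 15 2 3 59 4 101 3 5 103 59 59 74 59 114 59 24 3 104 24 5 24 24 16 2 27 24 2 24 16 24 15 15 16 1) (@D3.rec (fun _ => Nat) 2 1 2 1 2 5 2 3 11 72 1 2 55 55 2 3 11 1 2 4 2 3 5 5 3 11 11 11 11 11 106 100 11 11 11 11 11 11 11 11 1 2 2 2 25 2 25 3 4 23 25) (@D3.rec (fun _ => Nat) 25 23 23 25 25 25 3 25 25 25 2 2 3 4 0 3 69 28 3 4 23 3 5 5 5 5 23 104 1 2 2 70 15 25 2 2 3 1 2 28 3 25 25 28 3 4 0 3 5 1 2) (@D3.rec (fun _ => Nat) 5 2 3 5 102 100 25 25 12 3 4 0 3 5 0 5 1 2 69 12 12 5 23 5 23 23 6 12 12 105 12 23 6 23 23 23 23 23 25 2 2 3 4 0 3 72 69 25 12 3 4) (@D3.rec (fun _ => Nat) 0 3 5 1 2 5 2 3 12 12 5 100 103 25 25 0 25 12 12 5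 0 5 0 1 2 6 1 2 4 2 3 5 5 3 12 12 96 12 6 102 96 98 77 100 12 96 98 102 0 25 25) (@D3.rec (fun _ => Nat) 0 25 13 13 5 0 5 0 1 2 0 6 1 2 2 3 13 13 0 13 23 6 23 23 23 23 23 99 105 13 0 1 2 23 23 23 23 23 23 23 23 25 25 13 3 4 0 3 5 0 5) (@D3.rec (fun _ => Nat) 59 1 2 72 69 0 25 25 0 25 13 13 5 0 5 55 1 2 6 1 2 4 2 3 5 5 3 13 100 102 13 6 100 102 55 12 1 2 2 25 0 25 0 1 2 13 13 0 13 0 6) (@D3.rec (fun _ => Nat) 0 1 2 0 1 2 13 2 3 1 2 13 2 3 6 6 3 7 7 7 104 102 13 0 1 2 100 102 12 12 12 57 12 12 104 108 100 0 1 2 2 3 12 12 12 12 12 12 12 12 0) (@D3.rec (fun _ => Nat) 26 99 98 26 2 98 3 0 99 1 2 9 3 98 100 5 9 5 9 9 6 1 2 2 70 25 2 2 3 4 0 3 70 28 3 4 10 3 5 5 25 25 28 3 4 0 3 5 96 5 1) (@D3.rec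 (fun _ => Nat) 2 5 2 3 28 28 5 98 5 10 10 6 28 28 28 10 6 10 10 10 10 25 2 2 3 4 3 25 25 28 3 4 0 3 5 0 5 1 2 70 28 28 5 26 5 26 26 6 101 25 25) (@D3.rec (fun _ => Nat) 0 25 28 28 5 0 5 0 1 2 6 1 2 4 2 3 5 5 3 28 28 6 26 26 26 26 26 26 26 26 26 104 26 99 97 99 73 4 10 3 98 5 3 0 99 1 2 5 2 3 14) (@D3.rec (fun _ => Nat) 10 5 10 10 100 14 0 14 10 6 10 10 10 10 10 25 2 2 3 4 3 25 25 14 3 4 0 3 5 0 5 1 2 70 14 14 5 11 5 95 11 6 0 25 25 0 25 14 14 5 0) (@D3.rec (fun _ => Nat) 5 0 1 2 96 6 1 2 4 2 3 5 5 3 14 14 0 14 98 6 11 11 11 11 11 14 0 14 0 1 2 11 11 11 11 11 11 11 11 25 25 25 13 3 4 70 3 5 5 0 25) (@D3.rec (fun _ => Nat) 25 0 25 13 13 5 0 5 0 1 2 0 6 1 2 2 3 13 13 0 13 26 6 26 26 26 26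 26 1 2 2 25 0 25 0 1 2 13 13 0 13 0 6 0 1 2 0 1 2 13 2) (@D3.rec (fun _ => Nat) 3 1 2 13 2 3 6 6 3 7 7 7 13 0 13 0 1 2 26 26 26 26 26 26 26 26 13 1 2 0 1 2 2 3 26 26 26 26 26 26 104 72 74 73 0 58 1 2 73 58 5)
def lv_e_9 : D2 → D3 → Nat := @D2.rec (fun _ => D3 → Nat) (@D3.rec (fun _ => Nat) 1 2 100 104 1 2 4 2 3 5 5 3 15 6 15 1 2 11 11 11 15 3 4 71 3 5 5 15 15 5 0 5 1 2 0 6 1 2 2 3 15 15 15 6 1 2 2 25 0 25 1) (@D3.rec (fun _ => Nat) 2 15 15 0 15 0 6 0 1 2 64 1 2 69 2 3 1 2 15 2 3 6 6 3 7 7 7 15 0 15 0 1 2 60 60 69 58 66 100 15 100 1 2 101 1 105 2 101 109 58 103) (@D3.rec (fun _ => Nat) 58 72 67 72 0 25 25 40 25 14 14 5 70 5 34 67 6 1 2 2 25 0 25 1 2 14 14 0 14 0 6 0 1 2 30 1 2 2 3 1 2 14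 2 3 3 14 0 14 0 1 2) (@D3.rec (fun _ => Nat) 26 26 26 26 26 26 2 2 3 4 0 3 0 25 0 1 2 29 1 2 13 2 3 14 0 14 0 1 2 0 1 2 0 1 2 5 2 3 30 1 2 13 2 3 13 13 3 14 2 3 14) (@D3.rec (fun _ => Nat) 14 3 6 6 6 12 7 7 0 14 0 1 2 0 1 2 2 3 26 26 26 26 26 26 26 26 0 110 1 2 0 1 108 2 111 0 1 2 104 2 105 3 26 26 26 26 26 0 26 54 1) (@D3.rec (fun _ => Nat) 2 2 3 4 3 25 110 101 1 101 1 67 99 2 2 106 4 3 25 0 0 1 0 1 26 3 4 0 3 5 102 5 0 1 2 100 59 57 57 55 55 104 103 0 1 100 100 0 1 102 101) (@D3.rec (fun _ => Nat) 1 102 2 102 103 1 101 9 2 3 3 26 26 26 26 26 0 26 68 1 101 104 103 109 109 26 26 103 26 56 1 103 25 75 25 25 96 26 26 26 26 98 69 3 103 2 3 0 3 99 1) (@D3.rec (fun _ => Nat) 2 28 26 5 26 97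 100 104 28 99 5 0 1 2 4 2 102 5 28 26 26 26 26 26 26 26 106 104 69 17 14 14 67 5 69 69 103 14 71 71 13 4 71 3 5 13 0 5 1 2 105) (@D3.rec (fun _ => Nat) 1 2 2 13 13 100 13 26 6 26 26 103 104 104 1 2 13 13 0 13 102 6 0 1 2 0 1 2 14 2 3 13 2 6 6 7 7 13 100 13 0 1 2 26 26 26 26 26 26 26 13) (@D3.rec (fun _ => Nat) 100 104 100 2 26 26 26 26 26 26 26 0 11 11 11 11 11 11 1 97 2 17 67 17 66 97 97 0 15 67 6 69 67 67 66 56 97 101 103 69 69 67 62 62 67 62 60 103 109 101 105) (@D3.rec (fun _ => Nat) 107 101 12 12 12 12 12 0 102 17 17 104 14 5 65 5 65 6 98 104 65 17 65 62 107 105 0 14 0 6 0 1 2 69 1 2 2 3 1 2 14 2 14 0 14 0 1 2 26 26 26) (@D3.rec (fun _ => Nat) 26 26 27 26 26 2 101 110 0 3 106 17 0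 1 2 0 1 2 14 2 3 14 0 14 0 1 2 0 1 2 0 1 2 5 2 3 0 1 2 14 2 3 14 14 3 106 2 14 14 6 6) (@D3.rec (fun _ => Nat) 7 104 14 0 1 2 0 1 2 2 3 26 26 26 26 26 26 26 26 0 106 103 1 2 2 3 103 1 2 12 2 3 3 26 26 26 26 26 103 26 56 1 100 4 72 3 5 5 26 26 99) (@D3.rec (fun _ => Nat) 96 17 97 5 0 1 2 99 101 2 26 26 70 17 28 5 99 5 99 70 6 28 28 97 28 6 15 15 15 101 103 28 28 0 28 6 97 99 0 1 2 14 2 3 6 6 7 7 28 103 97) (@D3.rec (fun _ => Nat) 1 2 15 15 15 15 15 15 15 1 2 3 15 15 15 15 15 15 15 14 101 100 77 17 14 14 5 70 5 77 72 6 14 14 60 14 6 26 26 26 26 26 102 100 17 77 1 2 14 14 0) (@D3.rec (fun _ => Nat) 14 101 6 0 1 2 0 1 2 2 3 101 14 2 14 0 1 2 26 26 26 26 26 2 3 26 26 0 70 1 102 68 17 70 70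 14 14 0 14 103 6 101 68 101 70 70 14 103 14 101 1) (@D3.rec (fun _ => Nat) 2 15 15 15 15 15 15 105 0 104 101 103 0 1 2 14 2 3 14 0 14 0 1 2 105 105 0 1 2 5 2 3 0 1 2 14 2 3 14 14 3 14 14 6 6 7 105 14 103 1 2) (@D3.rec (fun _ => Nat) 0 1 2 2 3 15 15 15 15 15 15 15 15 0 108 0 1 2 2 103 0 1 2 106 2 3 3 15 15 15 15 15 0 15 0 1 99 15 0 15 66 6 59 57 103 15 2 103 107 0 3) (@D3.rec (fun _ => Nat) 0 17 1 2 2 3 103 0 15 0 1 2 0 1 2 0 1 2 5 2 3 1 2 2 3 3 101 2 15 102 105 0 1 2 0 1 2 2 26 26 26 26 26 107 105 105 2 102 101 1 2) (@D3.rec (fun _ => Nat) 2 101 3 26 26 26 26 26 106 26 58 1 101 103 68 102 2 102 102 0 3 68 17 59 65 15 0 15 0 1 2 70 68 68 59 57 68 61 59 107 15 0 1 2 0 1 2 2 15 15 15) (@D3.rec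 (fun _ => Nat) 15 15 3 4 0 3 110 0 5 0 1 2 0 1 2 0 1 2 5 2 3 30 1 2 14 2 3 14 14 3 0 15 0 1 2 0 1 2 4 2 3 0 1 2 6 2 3 0 1 2 5) (@D3.rec (fun _ => Nat) 2 3 5 5 3 1 2 14 2 3 14 14 3 0 14 14 14 104 105 15 15 8 102 104 101 1 2 2 102 101 1 101 9 2 102 3 15 100 100 15 100 0 15 54 1 103 102 102 102 3 4) (@D3.rec (fun _ => Nat) 59 3 5 5 108 1 107 1 26 101 26 26 26 104 59 3 102 103 101 1 102 1 59 100 0 5 0 1 2 102 110 0 1 2 0 1 2 2 25 25 25 25 25 100 100 1 104 1 9 25 10) (@D3.rec (fun _ => Nat) 0 0 100 56 1 16 16 1 2 26 2 26 3 6 2 3 103 16 16 16 16 0 105 2 105 99 2 3 3 16 103 16 16 0 16 0 1 72 2 3 16 16 16 16 0 1 102 25 26 2 26) (@D3.rec (fun _ => Nat) 1 2 99 2 103 103 3 1 2 26 2 3 26 26 3 0 26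 26 26 15 15 15 103 1 2 97 2 3 3 16 16 16 16 0 16 0 1 105 107 1 2 2 3 3 0 16 16 0 16 0 1) (@D3.rec (fun _ => Nat) 0 0 1 26 101 101 103 68 63 63 68 63 61 68 61 0 101 101 99 1 2 97 2 101 16 16 58 16 56 0 54 56 1 101 103 0 1 2 9 6 2 3 6 6 3 0 1 2 101 2 3) (@D3.rec (fun _ => Nat) 103 3 1 2 7 2 3 7 7 3 0 103 7 7 26 2 3 26 26 3 56 26 26 26 0 1 26 26 101 101 104 10 10 1 25 60 1 25 102 6 111 18 18 70 3 2 106 25 25 15 104)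
def lv_e_10 : D2 → D3 → Nat := @D2.rec (fun _ => D3 → Nat) (@D3.rec (fun _ => Nat) 59 109 3 68 109 3 104 107 109 111 25 25 102 106 63 3 5 101 25 25 25 25 25 25 25 25 25 16 98 2 3 102 2 3 4 2 3 5 5 3 72 2 3 55 55 53 3 12 102 2 3) (@D3.rec (fun _ => Nat) 6 6 3 7 7 7 26 12 12 12 12 12 106 108 100 12 12 12 12 12 12 12 12 0 26 26 26 26 26 24 24 26 26 26 26 29 3 4 0 3 5 0 5 1 2 69 5 5 24 24 2) (@D3.rec (fun _ => Nat) 2 3 69 96 3 96 2 3 26 26 0 26 98 5 100 1 2 4 2 3 5 5 3 102 106 26 26 0 26 14 14 5 0 5 0 1 2 0 6 1 2 2 3 14 14 103 14 24 6 24 24) (@D3.rec (fun _ => Nat) 24 24 24 14 105 24 24 24 24 24 26 13 3 4 0 3 5 1 2 72 69 98 26 13 13 104 5 1 2 4 2 3 5 5 3 13 13 98 105 100 26 0 26 1 2 13 13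 0 13 102 6) (@D3.rec (fun _ => Nat) 102 1 2 78 1 2 14 2 3 13 2 3 6 6 3 7 7 7 13 98 98 102 100 100 1 2 2 26 0 26 68 1 2 15 15 0 15 0 6 0 1 2 66 1 2 2 3 1 2 15 2) (@D3.rec (fun _ => Nat) 3 3 99 103 15 0 1 2 24 24 24 24 24 24 24 24 99 108 105 0 1 2 2 3 24 24 24 24 24 24 0 102 26 26 33 26 14 14 5 0 5 41 1 2 6 1 2 57 2 3 74) (@D3.rec (fun _ => Nat) 1 100 2 26 0 26 31 1 2 100 100 0 14 98 6 55 1 2 53 72 2 3 102 2 3 6 6 3 7 7 7 102 102 100 102 100 102 55 2 2 101 4 0 3 0 26 0 1 2 29 1) (@D3.rec (fun _ => Nat) 2 14 2 3 102 0 14 0 1 2 98 1 2 0 1 2 5 2 3 28 1 2 14 2 3 14 14 3 102 2 3 14 14 3 6 6 6 12 7 7 104 100 102 0 1 2 2 3 100 100 102) (@D3.rec (fun _ => Nat) 61 13 13 57 13 0 106 108 100 0 1 2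 2 3 3 13 13 13 13 13 0 13 54 1 27 97 99 98 10 3 100 1 2 2 3 10 10 98 10 6 10 10 10 10 2 2 3 4 3 26 26) (@D3.rec (fun _ => Nat) 29 3 4 0 3 5 5 1 2 70 29 29 5 5 97 11 6 26 26 0 26 29 29 5 98 5 97 1 2 96 6 98 4 2 3 5 3 29 29 29 96 6 98 99 11 11 11 11 97 11 11) (@D3.rec (fun _ => Nat) 26 3 4 72 3 5 26 26 0 26 29 29 5 0 5 0 1 2 6 1 2 2 3 29 29 6 27 27 27 27 27 101 101 26 0 26 0 1 2 29 0 29 102 6 0 1 2 0 1 2 14) (@D3.rec (fun _ => Nat) 2 3 2 3 6 6 3 7 7 7 27 27 27 27 27 27 27 104 97 99 97 70 11 5 11 100 1 2 4 2 3 5 3 64 14 11 11 11 11 11 100 14 104 1 2 11 11 11 11 11 11) (@D3.rec (fun _ => Nat) 11 11 26 26 14 3 4 75 3 5 5 103 26 26 0 26 14 14 5 0 5 97 1 2 6 1 2 2 3 14 14 60 14 6 97 12 95 97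 12 1 101 2 26 0 26 0 1 2 14 14 0) (@D3.rec (fun _ => Nat) 14 98 6 97 1 2 0 1 2 71 2 3 98 14 2 3 6 6 3 7 7 14 0 14 0 1 2 98 99 12 12 97 12 12 14 1 2 0 1 2 2 3 101 12 12 97 12 12 12 12 102) (@D3.rec (fun _ => Nat) 26 100 26 26 72 26 14 14 5 72 5 72 72 6 1 2 2 26 0 26 0 1 2 14 14 0 14 0 6 0 1 2 0 1 2 2 3 1 2 14 2 3 3 14 0 14 103 1 2 27 27) (@D3.rec (fun _ => Nat) 27 27 27 27 27 27 2 2 105 4 0 3 0 26 0 1 2 78 1 2 14 2 3 14 0 14 0 1 2 0 1 2 0 1 2 5 2 3 76 1 2 14 2 3 14 14 3 14 2 3 14) (@D3.rec (fun _ => Nat) 14 3 6 6 6 12 7 7 14 0 1 2 0 1 2 2 3 27 27 27 27 27 27 27 0 2 3 0 1 2 2 3 3 27 27 27 104 73 74 1 2 2 71 2 102 15 2 3 6 6 3) (@D3.rec (fun _ => Nat) 7 7 25 2 15 15 5 73 5 67 58 6 15 15 0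 15 0 6 1 2 2 3 1 2 15 2 3 3 15 15 2 2 103 4 0 3 0 26 1 2 2 3 15 0 15 0 1 2 108 1 2) (@D3.rec (fun _ => Nat) 66 1 2 5 2 3 61 2 3 69 66 3 98 2 3 15 15 3 6 6 6 12 7 7 102 15 102 1 2 103 1 2 2 60 69 102 102 2 104 103 67 101 1 107 108 26 40 26 42 100 15) (@D3.rec (fun _ => Nat) 0 15 70 6 34 67 34 58 2 2 106 4 0 3 0 26 1 2 2 3 15 0 15 0 1 2 0 1 2 32 1 2 5 2 3 32 2 3 3 15 2 3 15 3 13 0 15 0 1 2 0) (@D3.rec (fun _ => Nat) 1 2 2 27 27 27 27 3 4 0 3 5 0 5 0 1 2 0 1 2 29 1 2 5 2 3 29 14 2 3 14 14 3 0 15 0 1 2 0 1 2 4 2 3 0 1 2 6 2 3 30) (@D3.rec (fun _ => Nat) 1 2 5 2 3 5 5 3 30 14 2 3 14 14 3 0 14 14 14 13 104 15 3 15 15 15 13 8 8 61 13 9 0 1 2 0 1 2 2 3 0 1 2 9 2 3 3 27 27 27 27) (@D3.rec (fun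 _ => Nat) 27 0 27 61 1 103 112 2 109 103 1 108 1 2 104 2 103 104 107 106 27 27 104 27 54 1 3 4 61 3 5 5 4 102 3 5 0 1 1 0 1 99 5 102 5 0 1 2 6 100 102) (@D3.rec (fun _ => Nat) 0 1 2 2 98 57 100 55 53 102 101 100 1 9 103 1 102 101 103 102 103 103 10 58 3 0 58 27 27 0 27 68 1 108 106 27 56 76 69 98 69 73 3 1 2 2 29 27 98 99 29) (@D3.rec (fun _ => Nat) 102 104 0 1 2 15 2 3 6 102 102 27 27 27 27 104 67 104 69 69 0 14 67 69 69 71 14 71 5 73 0 14 1 2 2 3 14 2 14 100 14 100 27 27 0 104 104 15 2 3 14) (@D3.rec (fun _ => Nat) 0 14 0 1 2 102 104 0 1 2 5 2 3 1 2 15 2 3 15 15 3 14 14 6 6 7 14 102 105 102 1 2 2 27 27 27 27 27 81 102 104 27 27 27 27 27 83 1 12 12 12) (@D3.rec (fun _ => Nat) 12 12 0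 2 97 0 3 67 18 60 58 0 99 0 1 2 71 67 67 60 58 67 60 58 101 101 103 67 62 62 67 62 60 67 60 0 105 103 106 107 107 109 13 13 108 13 58 1 106 18 103)
def lv_e_11 : D2 → D3 → Nat := @D2.rec (fun _ => D3 → Nat) (@D3.rec (fun _ => Nat) 0 15 67 6 60 58 0 98 108 110 67 62 62 60 105 0 105 0 1 2 0 1 2 69 1 2 5 2 3 61 2 3 3 103 2 15 102 15 0 1 2 0 1 2 2 3 27 27 27 28 27) (@D3.rec (fun _ => Nat) 27 28 27 0 0 3 110 0 110 0 1 2 107 108 0 1 2 5 2 3 1 2 2 3 15 15 3 0 15 0 1 2 0 1 2 4 2 3 0 1 2 6 2 3 0 1 2 5 2 3 5) (@D3.rec (fun _ => Nat) 5 3 1 2 29 2 3 15 15 3 0 15 15 15 103 105 15 8 102 104 103 1 2 2 3 110 1 2 9 2 3 3 27 27 27 27 27 0 27 60 1 106 101 2 3 3 103 2 3 101 3) (@D3.rec (fun _ => Nat) 102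 27 27 27 102 98 102 95 5 77 74 27 27 27 77 96 99 1 2 2 3 27 101 70 99 29 6 99 99 70 29 99 16 16 99 103 105 29 97 1 2 95 97 99 97 1 2 15 2 3 15) (@D3.rec (fun _ => Nat) 15 3 6 6 97 2 3 16 16 16 16 0 3 16 16 16 16 102 102 102 79 16 0 16 101 6 79 68 79 74 16 99 60 27 27 27 27 27 27 0 104 77 102 77 77 2 3 0 16 0 1) (@D3.rec (fun _ => Nat) 2 103 1 2 5 2 3 84 1 2 2 3 3 16 1 2 2 3 27 27 27 0 3 27 84 1 0 102 101 68 103 70 70 15 0 15 0 1 2 103 103 68 101 103 70 103 15 103 103 2 3) (@D3.rec (fun _ => Nat) 16 16 16 16 0 0 1 2 103 103 105 1 2 79 2 3 15 3 0 15 0 1 2 0 1 2 4 2 3 104 105 105 101 1 2 5 2 3 5 5 3 1 2 77 2 3 15 15 3 0 15) (@D3.rec (fun _ => Nat) 15 15 15 15 8 110 105 101 103 2 107 101 1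 2 9 2 3 3 16 16 16 16 0 16 0 1 101 105 1 2 2 106 1 2 103 2 3 108 3 16 16 16 0 1 80 80 1 104 101 0 17) (@D3.rec (fun _ => Nat) 1 2 61 59 103 0 3 107 0 107 1 2 1 2 5 2 3 3 0 103 0 1 2 0 1 2 4 2 3 0 1 2 6 2 3 1 2 5 2 3 5 3 2 3 3 103 103 109 104 105 1) (@D3.rec (fun _ => Nat) 2 2 111 1 2 9 2 27 27 27 109 107 2 103 27 27 27 106 103 105 0 3 0 104 1 2 61 59 0 16 0 1 2 0 1 2 2 3 68 61 59 68 61 59 68 59 104 104 101 1 2) (@D3.rec (fun _ => Nat) 2 101 1 2 9 2 16 16 16 5 0 1 2 0 112 0 1 2 0 1 2 4 2 3 0 1 2 2 3 30 1 2 5 2 3 5 5 3 30 2 3 15 15 3 15 15 15 0 1 2 0) (@D3.rec (fun _ => Nat) 1 2 6 2 3 0 1 2 9 6 2 3 6 6 3 0 1 2 7 2 3 7 7 3 1 2 7 2 3 7 7 3 0 7 7 7 2 3 15 15 3 52 15 15 15 0 1 15 15 104 105)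 (@D3.rec (fun _ => Nat) 16 105 101 10 2 100 101 10 10 10 0 102 0 102 54 1 5 5 59 104 27 59 57 59 0 1 2 0 1 2 2 3 102 109 100 1 2 2 104 1 2 14 2 26 26 26 10 11 1 1 9) (@D3.rec (fun _ => Nat) 0 2 27 3 17 17 0 1 103 99 3 99 27 101 103 17 0 1 104 104 1 83 3 0 17 85 1 99 2 101 103 103 103 27 2 3 27 3 87 27 27 0 1 97 2 3 97 99 3 17 17) (@D3.rec (fun _ => Nat) 0 1 83 83 1 27 107 110 2 3 3 0 1 17 0 1 104 104 1 88 102 1 1 27 27 99 101 101 68 63 61 68 61 0 61 58 1 101 99 97 2 101 97 99 0 0 60 1 101 1 6) (@D3.rec (fun _ => Nat) 2 3 15 10 10 6 6 3 0 6 6 27 1 101 2 101 3 103 7 2 3 7 7 3 101 7 7 0 1 103 7 27 27 3 27 27 27 53 27 27 59 1 106 11 11 102 26 104 106 108 109) (@D3.rec (fun _ => Nat) 112 109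 109 111 111 26 63 101 26 26 26 26 26 26 98 98 3 100 82 3 6 6 3 98 7 79 27 73 3 57 55 55 27 104 104 3 6 6 6 7 7 0 27 13 13 13 105 106 108 13 13) (@D3.rec (fun _ => Nat) 13 13 13 87 13 56 1 0 27 5 0 5 0 1 2 94 1 2 2 3 25 96 3 71 98 98 98 3 27 100 27 1 2 100 100 15 2 3 6 6 3 96 7 7 100 106 0 27 0 1 2) (@D3.rec (fun _ => Nat) 14 14 0 14 0 6 0 1 2 0 1 2 2 3 1 2 14 2 3 3 14 103 105 25 25 25 25 25 25 25 25 25 27 14 14 103 5 1 2 2 3 71 0 14 104 76 2 3 6 6 3) (@D3.rec (fun _ => Nat) 98 7 81 105 0 106 100 27 1 2 15 2 3 0 14 0 1 2 102 104 5 2 3 78 15 2 3 15 15 3 14 14 3 6 6 6 12 7 7 98 2 2 101 4 0 3 0 27 70 1 2) (@D3.rec (fun _ => Nat) 62 2 3 103 0 15 0 1 2 0 1 2 66 1 2 5 2 3 63 2 3 3 15 2 3 15 3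 12 106 103 105 0 1 2 2 3 25 25 25 25 25 25 0 107 107 1 2 2 3 3 25) (@D3.rec (fun _ => Nat) 25 0 25 72 1 104 108 27 35 27 35 104 98 0 15 98 6 39 1 2 41 2 3 102 2 3 59 3 2 106 0 3 96 27 31 1 2 31 2 3 100 0 104 0 1 2 98 55 5 2 3) (@D3.rec (fun _ => Nat) 53 72 57 3 110 104 3 6 6 6 62 7 7 104 102 104 102 54 4 0 3 112 0 5 0 1 2 96 1 2 31 1 2 5 2 3 31 2 3 15 15 3 0 102 0 1 2 0 1 2 4) (@D3.rec (fun _ => Nat) 2 3 98 98 6 2 3 30 1 2 5 2 3 5 5 3 30 2 3 15 15 3 0 15 15 15 13 102 102 3 15 15 15 13 8 8 63 13 9 102 102 104 0 1 2 9 2 3 3 100 102) (@D3.rec (fun _ => Nat) 102 59 14 0 57 0 1 106 104 105 1 2 2 3 3 102 14 14 0 14 56 1 99 100 11 2 3 3 11 11 11 11 11 11 3 4 98 3 5 5 27 27 0 27 30 30 5 98 5 97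 1) (@D3.rec (fun _ => Nat) 2 6 2 3 30 30 30 6 97 12 106 27 105 1 2 30 100 30 96 6 98 101 99 71 2 3 96 98 6 3 7 98 100 99 12 99 12 72 27 98 5 99 72 27 103 27 0 1 2 30 102) (@D3.rec (fun _ => Nat) 30 100 6 104 1 2 104 1 2 2 3 30 2 3 3 28 28 28 28 28 103 106 101 102 27 103 1 2 78 1 2 98 2 3 1 2 102 1 2 2 3 78 1 2 15 2 3 15 15 3 3)
def lv_e_12 : D2 → D3 → Nat := @D2.rec (fun _ => D3 → Nat) (@D3.rec (fun _ => Nat) 6 6 6 12 28 28 28 0 28 104 99 83 12 12 16 2 3 6 3 7 26 62 12 12 12 12 102 105 2 110 12 12 12 12 12 12 104 27 27 16 16 5 77 5 75 6 100 102 27 0 27) (@D3.rec (fun _ => Nat) 78 1 2 16 16 0 16 98 6 97 1 2 78 97 2 3 16 2 3 3 16 16 97 58 97 13 82 84 2 102 0 3 98 27 99 1 2 79 1 2 71 2 3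 16 0 16 0 1 2 98 101) (@D3.rec (fun _ => Nat) 99 5 2 3 78 1 2 71 2 3 71 71 3 98 16 16 3 6 6 12 7 16 1 2 99 1 2 2 3 100 99 13 86 82 0 2 102 99 1 2 2 107 3 101 99 13 84 102 102 27 72) (@D3.rec (fun _ => Nat) 27 72 15 0 15 100 6 72 72 103 72 72 2 2 4 0 3 100 27 0 1 2 83 1 2 2 3 15 0 15 0 1 2 102 1 2 101 1 2 5 2 3 78 1 2 2 3 3 15 2 3) (@D3.rec (fun _ => Nat) 15 3 13 15 103 1 2 103 103 2 3 28 28 28 28 28 28 28 28 0 4 0 3 105 0 5 0 1 2 102 1 2 78 1 2 5 2 3 78 2 3 15 80 3 0 15 0 1 2 0 1) (@D3.rec (fun _ => Nat) 2 4 2 3 1 2 6 2 3 78 1 2 5 2 3 5 5 3 78 2 3 15 15 3 0 15 15 15 13 15 3 15 15 15 13 8 8 72 13 1 2 2 3 0 1 2 9 2 3 3 28) (@D3.rec (fun _ => Nat) 28 28 0 28 87 1 3 1 2 2 3 3 112 28 2 66 102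 106 17 3 6 6 7 74 17 0 17 73 6 69 58 62 56 17 0 17 1 2 1 2 5 2 3 3 2 3 17 3 13 17 4) (@D3.rec (fun _ => Nat) 0 3 109 0 5 1 2 1 2 5 2 3 3 0 17 0 1 2 0 1 2 4 2 3 107 6 2 3 63 5 2 3 5 5 3 61 3 71 68 59 13 98 98 3 102 17 17 13 8 8 63) (@D3.rec (fun _ => Nat) 13 9 109 102 102 2 103 9 2 110 0 110 40 27 40 37 101 0 16 0 1 2 36 69 36 60 36 4 0 3 106 0 5 1 2 1 2 5 2 3 3 0 16 0 1 2 0 1 2 4 2) (@D3.rec (fun _ => Nat) 3 1 2 6 2 3 32 5 2 3 5 3 32 3 14 16 16 3 16 14 62 0 1 2 1 2 2 0 1 2 9 2 28 5 0 5 0 1 2 0 6 0 1 2 0 1 2 4 2 3 31) (@D3.rec (fun _ => Nat) 1 2 6 2 3 31 5 2 3 5 5 3 31 15 15 3 15 15 15 14 0 1 2 0 1 2 6 2 3 0 1 2 9 6 2 3 6 6 3 32 1 2 7 2 3 7 7 3 32 7 2) (@D3.rec (fun _ => Nat) 3 7 7 3 0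 7 7 7 14 32 15 15 3 61 15 15 15 0 1 15 15 61 14 104 104 16 14 16 16 0 14 8 59 61 63 101 1 2 2 107 101 1 106 10 2 105 3 1 2 10 2) (@D3.rec (fun _ => Nat) 104 10 10 3 0 58 28 28 0 28 59 1 108 2 105 108 104 28 56 5 5 59 6 5 104 102 1 1 101 6 109 104 0 1 2 2 3 102 102 102 1 2 14 2 100 102 10 105 0 104 0) (@D3.rec (fun _ => Nat) 11 60 0 1 60 28 70 1 9 71 71 73 2 3 100 104 102 104 1 2 100 2 3 16 3 0 106 69 71 71 1 2 69 71 81 0 15 71 73 1 2 5 2 3 3 15 15 105 1 2 106) (@D3.rec (fun _ => Nat) 16 16 3 0 15 0 1 2 0 1 2 4 2 3 102 102 104 1 2 5 2 3 5 5 3 2 3 16 16 3 81 16 16 16 15 8 106 102 9 2 28 28 81 102 28 28 13 13 109 13 64) (@D3.rec (fun _ => Nat) 1 0 3 0 99 1 2 60 58 1 2 0 1 2 2 3 69 60 58 69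 62 58 69 60 58 107 103 103 69 64 62 69 62 0 72 62 1 107 105 107 107 107 14 106 108 0 103 1 2 60 58) (@D3.rec (fun _ => Nat) 0 1 2 111 110 64 62 62 0 107 0 1 2 0 1 2 4 2 3 71 1 2 6 2 3 62 5 2 3 5 3 61 3 0 103 102 104 109 1 2 2 3 108 1 2 9 2 3 3 29 28) (@D3.rec (fun _ => Nat) 28 29 28 0 28 0 1 0 1 2 0 105 0 1 2 0 1 2 4 2 3 103 108 108 1 2 5 2 3 5 5 3 2 3 3 60 16 16 16 0 1 2 0 1 2 6 2 3 0 1 2) (@D3.rec (fun _ => Nat) 9 6 2 3 6 6 3 0 1 2 7 2 3 7 3 1 2 7 2 3 7 7 3 0 7 7 7 2 3 31 31 3 60 16 16 16 60 1 16 16 106 104 106 103 10 2 3 3 105 10 2) (@D3.rec (fun _ => Nat) 3 10 10 3 0 28 28 0 28 62 1 101 3 105 3 106 28 98 97 79 74 28 28 79 98 99 2 3 3 0 101 72 106 101 101 99 0 101 103 99 2 3 97 103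 99 2 3 16 3 0 16) (@D3.rec (fun _ => Nat) 16 99 3 17 103 17 0 1 17 0 102 102 79 0 16 0 1 2 101 79 72 79 99 99 60 28 28 28 28 0 0 1 2 79 102 79 79 3 1 2 1 2 4 2 3 103 5 2 3 5 3) (@D3.rec (fun _ => Nat) 84 2 3 3 0 9 2 3 3 0 28 90 1 0 1 2 101 70 104 72 0 16 1 2 1 2 2 3 105 103 101 101 0 103 105 103 3 0 17 82 1 0 1 2 2 3 103 103 2 3 3) (@D3.rec (fun _ => Nat) 0 0 1 2 0 1 2 2 3 0 1 2 9 6 2 3 6 6 3 104 105 101 7 2 3 7 7 3 0 7 7 7 2 3 79 3 0 16 16 0 1 16 16 16 105 107 103 105 103 10 2) (@D3.rec (fun _ => Nat) 3 10 10 3 0 17 109 17 0 1 83 82 1 94 105 2 105 2 3 103 3 17 82 85 1 0 103 1 2 2 3 59 1 2 0 109 1 2 4 2 3 2 3 5 3 0 1 2 0 1 2) (@D3.rec (fun _ => Nat) 6 2 3 1 2 9 6 2 3 6 3 1 2 7 2 3 7 7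 3 7 2 3 7 3 7 3 57 103 111 107 10 2 106 10 2 10 28 103 28 0 1 2 1 2 2 3 59 0 1 2 0) (@D3.rec (fun _ => Nat) 1 2 2 3 0 1 2 9 2 3 3 70 63 59 70 61 61 104 103 2 103 10 2 10 10 100 0 1 2 2 3 0 1 2 0 1 2 2 3 0 1 2 14 6 2 3 6 6 3 32 1) (@D3.rec (fun _ => Nat) 2 2 3 3 32 7 2 3 7 7 3 7 7 7 32 3 16 16 16 53 16 16 1 2 30 2 3 1 2 10 7 2 3 7 7 3 1 2 10 6 2 3 15 10 10 6 6 3 0 6 6)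
def lv_e_13 : D2 → D3 → Nat := @D2.rec (fun _ => D3 → Nat) (@D3.rec (fun _ => Nat) 6 15 1 2 8 2 3 8 3 0 8 8 8 7 2 3 7 7 3 54 7 7 7 0 1 7 7 3 16 16 16 53 16 16 59 1 16 106 11 100 11 11 1 1 9 59 59 59 61 0 1) (@D3.rec (fun _ => Nat) 2 2 3 111 1 2 15 2 3 3 107 100 15 2 104 15 2 15 15 27 11 8 98 1 28 83 85 1 28 105 98 103 103 105 1 1 103 105 28 3 83 1 99 3 97 99 105 83 85 1 103) (@D3.rec (fun _ => Nat) 28 108 3 0 0 1 103 105 1 88 86 101 103 0 70 63 0 63 58 1 99 97 99 1 1 9 8 8 8 3 16 16 16 11 11 8 8 0 1 8 105 28 103 103 103 100 106 3 9 9 55) (@D3.rec (fun _ => Nat) 103 9 0 1 9 28 28 28 28 61 60 61 12 108 111 111 105 109 107 63 27 27 27 115 98 100 28 102 6 98 82 28 61 55 55 55 98 102 104 8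 8 9 0 67 1 14 108 108 14 14 89) (@D3.rec (fun _ => Nat) 14 87 73 1 2 1 2 1 2 2 3 2 3 96 102 100 98 102 2 3 100 100 107 16 3 6 6 12 0 106 1 2 79 1 2 3 0 16 0 1 2 1 2 0 1 2 5 2 3 80 1) (@D3.rec (fun _ => Nat) 2 2 3 3 16 2 16 3 12 103 26 26 26 26 26 26 0 15 105 2 3 3 1 2 106 76 74 3 6 73 100 86 0 105 1 2 102 5 2 3 16 16 3 1 2 1 2 4 2 3 104) (@D3.rec (fun _ => Nat) 104 5 5 3 80 16 16 3 16 16 16 13 15 15 15 13 8 8 74 13 4 0 3 106 0 5 0 1 2 70 1 2 62 5 2 3 60 3 0 107 0 1 2 0 1 2 4 2 3 1 2) (@D3.rec (fun _ => Nat) 6 2 3 63 5 2 3 5 3 61 3 0 13 98 17 3 17 13 13 103 105 1 2 9 2 3 3 26 26 0 26 61 1 113 2 3 3 103 109 65 1 108 0 108 35 28 35 35 102 0 102) (@D3.rec (fun _ => Nat) 0 1 2 41 98 41 5 2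 3 36 3 102 3 62 0 3 0 110 0 1 2 98 33 5 2 3 33 3 0 104 1 2 1 2 4 2 3 100 53 5 5 3 52 74 59 57 60 100 104 104 62) (@D3.rec (fun _ => Nat) 8 8 62 9 102 54 0 5 0 1 2 0 108 0 1 2 0 1 2 4 2 3 31 98 6 2 3 31 5 2 3 5 5 3 31 3 0 16 16 16 14 1 2 0 1 2 6 2 3 0 1) (@D3.rec (fun _ => Nat) 2 9 6 2 3 6 6 3 30 98 100 7 7 3 30 7 2 3 7 7 3 0 7 7 7 14 30 3 0 16 16 16 1 16 16 59 14 104 104 104 14 16 16 0 14 8 63 61 14 106 102) (@D3.rec (fun _ => Nat) 102 1 2 10 2 3 10 10 3 0 100 102 0 59 0 1 1 62 106 104 106 2 3 3 108 15 56 1 99 12 3 27 12 12 5 100 5 98 104 28 105 1 2 31 98 31 6 98 99 2 3) (@D3.rec (fun _ => Nat) 3 99 100 103 102 73 2 3 100 98 100 101 99 73 3 6 12 84 0 84 74 98 102 99 74 104 28 103 104 103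 1 2 2 3 102 102 102 104 2 3 110 2 3 3 31 3 13 29 29 29 0) (@D3.rec (fun _ => Nat) 103 104 105 2 3 78 2 3 105 3 2 3 102 2 3 3 78 2 3 16 3 0 16 16 13 102 102 13 108 29 87 1 99 13 16 3 6 64 13 13 28 16 0 16 100 6 75 75 101 0 104) (@D3.rec (fun _ => Nat) 98 28 99 1 2 78 2 3 16 0 16 0 1 2 98 99 5 2 3 82 101 3 16 3 13 16 99 60 99 83 0 3 0 104 0 1 2 100 81 99 5 2 3 81 2 3 73 73 3 0 16) (@D3.rec (fun _ => Nat) 1 2 0 1 2 4 2 3 100 101 99 5 5 3 85 2 3 73 73 3 0 73 73 13 16 16 13 8 81 13 2 100 101 9 2 3 3 84 0 84 1 99 2 105 84 0 102 28 74 74 0) (@D3.rec (fun _ => Nat) 16 0 1 2 102 101 74 74 105 74 4 0 3 0 5 0 1 2 102 106 103 1 2 5 2 3 85 2 3 3 0 16 0 1 2 0 1 2 4 2 3 104 6 2 3 101 103 5 2 3 5) (@D3.rec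 (fun _ => Nat) 3 78 2 3 3 0 14 16 16 3 16 14 91 105 105 2 3 105 105 3 29 29 29 29 0 29 0 1 0 5 0 1 2 0 106 0 1 2 0 1 2 4 2 3 104 6 2 3 80 5 2) (@D3.rec (fun _ => Nat) 3 5 5 3 80 3 0 82 80 14 1 2 1 2 6 2 3 0 1 2 9 6 2 3 6 6 3 7 2 3 7 3 78 7 2 3 7 7 3 0 7 7 7 14 78 3 0 16 16 0 1) (@D3.rec (fun _ => Nat) 16 16 74 14 16 106 16 16 0 14 110 86 95 10 2 3 3 1 2 10 2 3 10 10 3 0 58 108 29 87 1 2 3 3 106 17 8 74 0 17 0 1 2 69 60 62 58 60 0 17 1) (@D3.rec (fun _ => Nat) 2 4 2 3 2 3 5 3 14 3 17 14 0 5 0 1 2 0 109 1 2 4 2 3 6 2 3 5 3 14 0 1 2 1 2 6 2 3 1 2 9 6 2 3 6 6 3 107 7 3 61) (@D3.rec (fun _ => Nat) 7 3 7 7 7 14 68 59 61 14 100 100 14 102 17 0 14 8 63 109 10 0 110 1 2 42 37 0 102 0 1 2 1 2 2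 3 36 60 36 60 0 5 0 1 2 0 106 1 2 4 2) (@D3.rec (fun _ => Nat) 3 6 2 3 5 3 58 0 1 2 1 2 6 2 3 1 2 9 6 2 3 6 3 7 2 3 7 7 3 34 7 3 7 15 52 60 17 17 15 0 62 1 2 2 10 2 1 2 10 2 10) (@D3.rec (fun _ => Nat) 10 0 6 0 1 2 0 1 2 26 2 3 0 1 2 0 1 2 6 2 3 1 2 14 6 2 3 6 6 3 31 7 2 3 7 7 3 31 7 7 3 7 7 7 15 16 16 16 57 16 16) (@D3.rec (fun _ => Nat) 61 61 0 1 2 31 2 3 0 1 2 10 7 2 3 7 7 3 1 2 10 6 2 3 27 10 10 6 6 3 0 6 6 6 15 32 8 2 3 8 8 3 0 8 8 8 15 32 7 7 3) (@D3.rec (fun _ => Nat) 61 7 7 7 0 1 7 7 0 15 16 16 16 59 16 16 0 59 1 16 61 59 61 106 106 0 116 102 0 0 1 63 104 61 60 104 11 2 107 108 11 11 11 0 2 103 11 0 11 11 0) (@D3.rec (fun _ => Nat) 1 58 29 61 1 9 6 61 102 100 101 109 104 104 108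 1 2 15 2 3 3 102 102 15 2 15 15 11 103 1 1 60 0 0 1 8 71 75 3 106 104 2 3 107 3 17 1 2 69 71 2)
def lv_e_14 : D2 → D3 → Nat := @D2.rec (fun _ => D3 → Nat) (@D3.rec (fun _ => Nat) 3 81 1 2 69 4 2 3 5 3 2 3 17 17 1 2 1 2 2 3 1 2 9 6 2 3 6 6 3 104 104 7 2 3 7 7 3 81 7 7 3 17 17 79 17 17 10 14 109 0 1) (@D3.rec (fun _ => Nat) 2 1 2 2 3 60 2 3 0 1 2 2 3 3 69 62 60 69 60 58 60 58 101 103 0 69 62 0 62 62 1 105 106 109 1 2 2 3 60 1 2 2 3 110 110 62 58 0 1 2 0) (@D3.rec (fun _ => Nat) 1 2 6 2 3 1 2 9 6 2 3 6 3 63 7 2 3 7 3 61 7 3 0 7 0 59 1 112 102 104 113 10 2 3 3 111 10 2 3 10 3 0 30 29 0 29 0 1 1 0 1) (@D3.rec (fun _ => Nat) 2 2 3 0 1 2 0 1 2 2 3 1 2 26 6 2 3 6 6 3 106 110 7 2 3 7 3 60 7 7 3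 60 17 17 1 2 31 2 3 1 2 10 7 2 3 7 3 1 2 10 6) (@D3.rec (fun _ => Nat) 2 3 27 10 10 6 6 3 0 6 6 6 15 1 2 8 2 3 8 3 0 8 7 2 3 7 7 3 60 7 7 7 60 1 7 7 3 31 31 31 60 17 17 49 17 104 101 11 11 3 0) (@D3.rec (fun _ => Nat) 105 11 11 3 0 11 11 0 1 29 62 1 9 100 97 79 29 0 79 3 0 1 103 108 0 1 101 0 99 3 101 101 99 3 0 17 97 1 103 101 85 1 96 1 2 104 1 2 1 2 2) (@D3.rec (fun _ => Nat) 3 103 81 0 99 101 29 0 85 1 1 2 2 3 79 79 0 2 3 9 6 2 3 6 3 7 3 0 7 86 3 90 0 1 10 10 3 0 1 94 1 2 2 3 103 105 85 1 2 2 3) (@D3.rec (fun _ => Nat) 2 3 3 0 103 82 1 105 0 1 1 2 28 2 3 3 105 0 3 0 1 1 2 108 2 3 1 2 2 3 3 1 2 10 6 2 3 10 10 6 6 3 0 6 6 6 15 106 105 103 7) (@D3.rec (fun _ => Nat) 3 0 7 7 101 1 7 7 3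 82 79 84 83 1 17 1 17 105 103 0 103 11 3 0 11 11 0 1 109 85 85 1 9 96 107 3 1 2 2 3 3 2 3 1 2 2 3 6 3 3 7) (@D3.rec (fun _ => Nat) 1 2 31 2 3 1 2 10 7 2 3 7 7 3 10 6 2 3 27 10 6 3 6 15 8 2 3 8 3 8 8 7 3 7 59 59 11 11 11 1 2 2 3 2 3 3 1 2 31 2 3) (@D3.rec (fun _ => Nat) 1 2 2 3 3 1 2 10 2 3 10 10 3 16 70 61 61 11 11 11 0 1 2 15 2 3 3 1 2 31 2 3 1 2 15 2 3 3 1 2 15 6 2 3 26 15 15 6 6 3 6) (@D3.rec (fun _ => Nat) 6 6 16 32 2 3 3 32 7 3 7 7 7 53 7 7 51 17 17 59 17 31 2 3 31 31 3 8 2 3 11 8 3 0 8 8 8 16 8 2 3 97 99 8 8 3 104 16 16 16 11) (@D3.rec (fun _ => Nat) 11 8 8 8 0 1 8 8 57 16 104 2 3 9 3 9 0 1 9 9 9 3 9 9 53 9 9 0 1 9 9 17 17 59 58 17 59 12 8 98 59 1 2 103 2 3 3 112 16 2 3) (@D3.rec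 (fun _ => Nat) 16 16 3 0 16 16 16 16 16 98 105 99 105 99 103 103 103 113 1 1 101 107 1 1 9 99 99 8 105 8 8 101 17 17 17 17 12 103 8 0 0 1 8 105 29 0 106 9 0 60 0) (@D3.rec (fun _ => Nat) 1 5 29 61 111 108 115 110 113 57 100 106 8 1 108 15 112 75 2 3 2 3 2 3 3 12 102 102 3 105 17 13 102 13 1 2 5 2 3 3 1 2 1 2 4 2 3 6 2 3 80) (@D3.rec (fun _ => Nat) 1 2 5 2 3 5 3 80 2 3 3 13 16 16 13 13 27 27 1 2 105 3 73 2 3 76 76 73 1 2 4 2 3 102 108 5 3 17 17 14 2 3 2 3 6 6 3 7 7 7 14) (@D3.rec (fun _ => Nat) 17 17 17 17 74 14 16 16 0 14 108 93 0 5 0 1 2 0 111 0 1 2 1 2 4 2 3 63 6 2 3 61 5 3 0 14 1 2 1 2 6 2 3 1 2 9 6 2 3 6 3) (@D3.rec (fun _ => Nat) 7 2 3 7 7 3 63 7 3 0 7 14 61 0 1 14 100 106 14 0 14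 14 105 10 2 3 10 10 3 0 0 63 1 3 101 0 110 1 2 37 37 0 105 0 1 2 1 2 4 2 3) (@D3.rec (fun _ => Nat) 41 100 38 5 3 58 60 104 64 1 2 1 2 1 2 4 2 3 98 33 5 3 52 62 1 2 2 3 2 3 6 6 3 54 7 7 7 58 59 57 62 100 106 0 8 64 0 0 1 2 0) (@D3.rec (fun _ => Nat) 1 2 27 2 3 1 2 0 1 2 6 2 3 1 2 27 6 2 3 6 6 3 33 98 7 7 3 33 7 3 0 7 7 7 15 48 1 17 17 61 15 32 2 3 0 1 2 2 3 7 7) (@D3.rec (fun _ => Nat) 3 1 2 10 6 2 3 10 10 6 6 3 0 6 6 6 15 32 100 0 8 8 8 15 32 7 3 0 7 7 7 1 7 7 0 15 59 1 17 17 62 17 57 61 104 104 0 15 102 0 0) (@D3.rec (fun _ => Nat) 1 15 104 63 102 104 0 11 2 3 11 11 3 0 11 11 0 1 102 0 1 1 9 64 106 106 3 102 100 102 99 2 3 100 100 99 3 13 103 103 103 101 73 3 102 100 103 0 73 13 104)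 (@D3.rec (fun _ => Nat) 13 84 1 74 100 105 101 105 109 102 103 2 3 3 110 102 104 107 3 103 3 0 14 32 112 0 1 106 106 108 3 80 3 0 105 14 3 3 108 106 80 3 0 17 0 1 98 102 14 88 95) (@D3.rec (fun _ => Nat) 18 0 18 1 2 102 77 0 102 0 1 2 100 101 5 2 3 80 3 0 18 1 2 1 2 4 2 3 100 99 5 3 82 81 14 18 14 99 107 0 1 2 1 2 0 1 2 4 2 3 100) (@D3.rec (fun _ => Nat) 81 101 5 5 3 80 3 0 73 73 14 1 2 2 3 1 2 9 2 3 6 6 3 103 0 7 7 14 88 3 81 73 73 1 73 84 14 18 0 14 86 105 10 3 0 84 1 107 1 2 74) (@D3.rec (fun _ => Nat) 1 2 0 1 2 2 3 102 106 74 105 82 0 5 0 1 2 0 1 2 0 1 2 4 2 3 102 106 105 5 2 3 5 3 85 3 0 15 1 2 1 2 6 2 3 103 1 2 6 2 3) (@D3.rec (fun _ => Nat) 6 3 102 7 3 106 107 7 3 0 7 15 80 3 0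 0 1 89 17 17 0 109 105 105 3 105 0 30 0 1 86 1 0 1 2 0 1 2 27 2 3 1 2 1 2 6 2 3 1 2 29)
def lv_e_15 : D2 → D3 → Nat := @D2.rec (fun _ => D3 → Nat) (@D3.rec (fun _ => Nat) 6 2 3 6 6 3 108 7 3 80 7 3 0 7 7 15 0 83 1 82 80 15 102 2 3 10 7 2 3 7 3 1 2 10 6 2 3 28 10 10 6 6 3 0 6 6 6 15 8 3 102) (@D3.rec (fun _ => Nat) 8 108 80 7 3 0 7 7 0 1 7 7 0 15 0 1 17 84 81 1 17 100 104 0 0 0 1 95 88 11 11 3 0 11 2 3 11 11 3 0 11 11 0 1 60 9 3 106 1 2 1) (@D3.rec (fun _ => Nat) 2 2 3 60 58 58 60 1 2 2 3 6 3 3 7 15 15 0 1 2 1 2 27 2 3 1 2 6 2 3 6 3 7 3 7 15 1 2 32 2 3 2 3 7 3 2 3 10 6 3 6) (@D3.rec (fun _ => Nat) 6 6 15 8 15 7 7 7 0 15 61 63 100 0 104 0 0 1 65 11 1 2 2 3 39 1 2 1 2 2 3 28 2 3 3 38 58 1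 2 1 2 27 2 3 1 2 6 2 3 6 3) (@D3.rec (fun _ => Nat) 7 7 3 7 58 58 1 2 32 2 3 10 7 2 3 7 7 3 10 2 3 28 10 10 6 3 6 16 8 8 3 8 8 16 7 54 0 62 59 18 0 111 0 1 2 11 32 2 11 11 11) (@D3.rec (fun _ => Nat) 11 1 2 0 1 2 27 2 3 0 1 2 15 27 2 3 27 27 3 1 2 32 2 3 1 2 7 2 3 7 7 3 15 2 3 105 15 15 6 6 3 6 6 6 16 33 8 8 3 8 8) (@D3.rec (fun _ => Nat) 8 16 106 7 7 59 7 7 0 61 17 17 17 59 61 61 1 2 11 32 2 3 32 32 3 1 2 11 8 2 3 28 11 11 8 8 3 0 8 8 8 16 2 3 28 11 8 8 3 0 28) (@D3.rec (fun _ => Nat) 28 28 11 11 8 8 8 0 1 8 8 0 16 34 9 3 59 9 9 9 0 1 9 9 0 114 105 9 9 59 9 9 0 59 1 9 9 0 0 1 63 17 17 17 0 1 104 61 60 104 0) (@D3.rec (fun _ => Nat) 0 1 112 0 0 1 0 1 62 63 12 102 12 12 1 12 1 12 0 0 1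 8 102 110 106 112 2 3 16 3 0 16 16 16 0 0 1 1 28 3 107 79 2 3 3 2 3 6 3 7 3) (@D3.rec (fun _ => Nat) 18 2 3 2 3 3 6 2 3 28 10 6 6 3 6 6 15 104 7 3 7 7 81 7 83 18 84 18 11 1 2 2 3 2 3 3 3 1 2 2 3 3 0 15 71 62 60 62 60 103 0) (@D3.rec (fun _ => Nat) 1 106 62 1 9 2 3 3 27 2 3 3 112 58 0 1 2 32 2 3 1 2 10 7 2 3 7 3 10 2 3 28 10 6 3 0 6 71 62 8 3 0 8 0 7 59 1 1 111 106 111) (@D3.rec (fun _ => Nat) 11 3 0 111 11 3 0 11 0 1 30 0 1 1 9 80 1 2 27 2 3 3 1 2 2 3 1 2 27 2 3 3 27 6 2 3 104 27 27 6 3 0 6 6 16 107 60 7 3 62 7) (@D3.rec (fun _ => Nat) 7 18 32 2 3 32 3 8 2 3 28 11 11 8 3 0 8 16 8 2 3 28 11 11 8 8 3 0 28 28 28 11 11 8 8 8 0 1 8 8 72 16 109 2 3 9 3 62 9 62 1) (@D3.rec (fun _ => Nat) 9 3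 9 9 62 9 9 0 9 9 53 33 33 18 49 0 0 12 12 0 1 12 12 0 1 12 0 1 8 10 0 87 1 0 0 1 94 85 1 104 1 103 103 101 82 1 18 2 3 2 3) (@D3.rec (fun _ => Nat) 2 3 3 0 1 107 0 87 1 29 2 3 3 0 90 1 3 28 10 10 6 3 0 6 15 7 0 1 90 1 92 11 11 0 1 9 94 29 2 3 3 85 86 2 3 3 3 0 16 1 1) (@D3.rec (fun _ => Nat) 9 2 3 29 29 3 0 16 0 1 1 2 3 103 3 2 3 3 0 16 2 3 11 8 3 0 11 11 8 8 0 1 8 8 72 16 103 82 9 85 1 9 101 9 94 0 0 1 0 12 0) (@D3.rec (fun _ => Nat) 1 12 0 1 8 9 9 32 2 3 3 16 3 2 3 3 6 16 32 2 3 32 32 3 8 2 3 28 11 8 3 8 8 16 28 11 8 3 28 11 8 59 59 16 9 3 9 59 9 9 59) (@D3.rec (fun _ => Nat) 0 12 12 2 3 3 3 60 2 3 32 3 2 3 3 17 2 3 11 3 11 11 56 17 63 12 12 1 2 16 2 3 16 16 3 0 17 32 2 3 32 3 2 3 16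 3 17 2 3 16 27) (@D3.rec (fun _ => Nat) 16 8 3 27 27 27 16 16 8 8 8 55 8 8 59 17 34 3 55 9 53 9 9 0 9 60 18 59 32 3 32 32 17 9 3 105 9 0 1 9 9 72 17 8 3 99 99 8 8 103 17) (@D3.rec (fun _ => Nat) 17 17 17 12 104 8 8 0 0 1 8 8 72 72 17 104 3 10 102 0 1 10 10 9 9 0 58 9 0 1 5 18 59 59 100 0 2 3 114 3 110 17 3 0 17 17 0 1 17 17 17) (@D3.rec (fun _ => Nat) 17 101 101 8 105 10 0 18 18 18 0 101 0 0 1 103 1 5 1 0 0 1 1 5 112 110 106 106 3 3 3 13 13 14 107 100 14 95 4 2 3 5 3 14 6 2 3 6 2 3 6) (@D3.rec (fun _ => Nat) 3 7 3 82 103 2 3 7 3 7 14 81 3 14 0 14 2 3 75 3 76 2 3 6 3 104 7 15 18 82 3 3 6 6 6 15 7 7 0 15 18 18 104 93 0 0 1 95 1 2 0) (@D3.rec (fun _ => Nat) 1 2 28 2 3 1 2 1 2 6 2 3 28 2 3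 6 3 62 7 7 3 0 7 15 1 15 2 3 7 2 3 7 7 3 10 2 3 26 10 10 6 3 0 6 15 8 3 0 8 8 15) (@D3.rec (fun _ => Nat) 61 7 0 1 0 15 52 1 60 106 0 15 0 1 15 0 11 11 3 0 11 11 0 1 1 9 1 2 2 3 37 0 1 2 1 2 2 3 29 2 3 6 3 38 60 7 60 0 28 2 3) (@D3.rec (fun _ => Nat) 2 3 28 2 3 6 3 52 7 62 33 2 3 3 3 0 6 6 6 58 7 7 0 59 62 104 0 1 64 1 0 1 2 28 2 3 0 1 2 28 28 2 3 28 3 33 2 3 1 2 28) (@D3.rec (fun _ => Nat) 2 3 7 7 3 28 2 3 31 28 28 6 3 0 6 6 6 16 33 0 8 8 16 50 7 1 7 7 0 16 18 61 33 33 3 1 2 2 3 3 0 8 8 8 16 11 2 3 11 11 8) (@D3.rec (fun _ => Nat) 3 0 11 11 8 8 8 0 1 8 8 0 16 32 0 1 9 9 0 16 59 9 1 9 9 9 9 0 0 1 16 18 62 100 106 0 0 1 107 0 0 1 0 1 61 102 0 1 12 3 12)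
def lv_e_16 : D2 → D3 → Nat := @D2.rec (fun _ => D3 → Nat) (@D3.rec (fun _ => Nat) 12 0 1 12 0 1 8 1 10 9 9 102 102 104 3 100 105 14 107 0 75 14 83 1 102 14 101 84 104 102 103 3 0 15 107 0 0 1 107 86 1 108 106 0 85 1 80 15 105 106 0) (@D3.rec (fun _ => Nat) 1 86 89 1 18 1 2 2 3 102 1 2 1 2 4 2 3 102 101 5 3 89 15 1 2 2 3 2 3 6 3 107 7 15 0 0 1 2 28 2 3 2 3 1 2 30 2 3 6 6 3) (@D3.rec (fun _ => Nat) 82 0 7 7 15 83 1 75 83 15 2 3 3 2 3 10 3 0 6 6 15 83 1 7 0 15 75 84 0 0 1 0 11 0 1 9 2 3 2 3 1 2 29 2 3 3 105 84 1 2 1) (@D3.rec (fun _ => Nat) 2 28 2 3 1 2 2 3 1 2 30 6 2 3 6 3 106 105 7 3 0 7 16 88 1 91 2 3 2 3 104 7 3 105 2 3 6 3 0 6 16 8 107 0 7 0 1 0 105 84 1) (@D3.rec (fun _ => Nat) 91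 1 18 0 1 0 1 86 1 9 1 2 28 2 3 1 2 30 28 2 3 28 3 2 3 30 2 3 7 3 30 2 3 30 30 6 3 0 6 6 16 108 8 106 0 7 85 1 7 0 16) (@D3.rec (fun _ => Nat) 1 80 104 3 29 11 11 8 3 0 8 16 11 2 3 29 11 11 8 3 0 29 29 11 11 8 8 0 1 8 8 0 16 9 108 0 9 0 1 9 0 89 1 9 9 0 0 1 95 1 86) (@D3.rec (fun _ => Nat) 1 0 1 0 1 12 12 0 1 12 3 12 12 0 1 12 0 0 1 8 2 3 2 3 3 60 60 2 3 3 6 16 16 0 1 28 2 3 2 3 28 3 33 2 3 7 3 6 16 8 16) (@D3.rec (fun _ => Nat) 0 2 3 33 3 3 8 16 3 11 8 59 8 8 0 16 0 9 0 0 1 63 0 1 0 1 1 2 3 3 2 3 2 3 3 29 3 0 17 58 28 2 3 28 2 3 28 3 33 2 3) (@D3.rec (fun _ => Nat) 7 7 3 6 58 8 8 60 0 60 33 2 3 33 3 29 11 8 8 3 8 8 17 11 11 3 29 29 11 11 8 56 0 17 9 9 54 9 0 111 0 59 0 1 0 0 1 1 12 32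 12) (@D3.rec (fun _ => Nat) 12 12 2 3 1 2 28 2 3 28 28 3 1 2 107 28 2 3 108 108 16 28 28 3 0 28 28 17 2 3 33 33 3 2 3 8 8 3 8 8 8 17 16 3 79 103 16 16 8 8 57) (@D3.rec (fun _ => Nat) 8 8 0 17 9 9 59 9 9 0 61 108 9 0 9 0 0 1 61 18 102 61 2 3 12 33 33 3 0 33 33 17 2 3 29 103 9 3 108 29 29 29 12 12 9 9 9 0 1 9 9) (@D3.rec (fun _ => Nat) 0 17 3 29 29 12 8 8 0 1 29 29 29 29 29 12 0 8 8 0 0 1 8 8 0 0 1 17 10 61 10 10 0 61 1 10 0 0 1 111 108 9 0 9 0 0 1 5 0 0 1) (@D3.rec (fun _ => Nat) 0 1 60 18 0 1 61 0 0 1 0 1 104 0 1 1 0 1 29 13 0 0 1 1 29 0 112 106 112 3 0 17 1 17 17 0 1 1 29 104 77 3 15 3 6 58 16 3 3 101 8) (@D3.rec (fun _ => Nat) 3 29 11 8 8 102 8 74 16 9 83 9 0 84 2 3 3 3 16 16 2 3 3 0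 0 1 16 62 60 1 8 107 3 73 28 3 0 58 60 1 2 2 3 33 3 2 3 29 11 8 3) (@D3.rec (fun _ => Nat) 0 8 58 11 3 0 29 11 8 0 1 58 58 0 9 61 1 1 0 9 111 0 0 12 0 1 12 0 1 0 1 8 1 10 9 80 2 3 28 3 0 17 28 2 3 3 28 2 3 28 28) (@D3.rec (fun _ => Nat) 3 0 17 28 8 3 0 113 28 28 8 0 1 8 62 17 62 9 33 3 0 33 103 9 3 0 29 29 12 12 9 0 1 74 17 8 3 29 12 12 8 8 0 1 29 29 29 12 0 8 8) (@D3.rec (fun _ => Nat) 0 0 1 8 8 74 74 17 109 3 10 62 0 10 9 53 9 0 9 0 1 33 51 1 1 13 0 1 10 13 0 1 0 1 29 11 1 1 1 94 3 3 3 0 16 1 0 1 9 30 30) (@D3.rec (fun _ => Nat) 3 0 16 1 16 29 29 11 11 8 0 1 59 16 0 1 9 94 12 0 1 8 9 30 3 0 17 3 17 0 1 17 9 8 3 0 30 30 0 1 17 1 9 3 0 105 103 3 0 0 1) (@D3.rec (fun _ => Nat) 17 3 0 12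 8 0 1 12 0 8 0 0 1 8 102 59 59 17 9 9 1 1 1 0 1 10 0 1 10 33 3 17 17 17 3 17 64 17 33 3 33 33 17 9 3 29 12 9 59 9 59) (@D3.rec (fun _ => Nat) 17 29 12 8 59 29 59 0 59 59 17 10 61 0 0 1 3 0 60 60 60 3 33 18 3 58 18 3 12 56 12 58 58 18 2 3 17 3 0 17 17 0 1 18 33 3 33 18 3 17 57) (@D3.rec (fun _ => Nat) 18 3 17 28 17 8 55 28 28 28 28 17 57 8 8 0 57 8 59 59 18 102 0 60 9 0 1 61 33 106 33 0 18 10 105 104 0 0 1 10 10 74 59 18 10 54 99 10 0 105 18) (@D3.rec (fun _ => Nat) 18 18 0 101 106 10 0 0 1 0 1 5 59 59 59 18 104 0 60 1 5 11 0 0 1 0 1 5 61 1 3 114 110 0 18 0 0 1 18 0 1 18 0 1 19 0 0 1 1 1 5) (@D3.rec (fun _ => Nat) 6 1 1 110 14 14 93 6 3 7 15 7 3 6 3 6 15 8 81 103 3 7 0 15 0 1 3 73 3 6 16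 104 0 84 16 102 8 8 0 16 9 0 0 1 93 1 0 1 29 2 3) (@D3.rec (fun _ => Nat) 1 2 29 29 2 3 29 3 2 3 29 2 3 7 7 3 29 29 3 0 6 16 0 8 8 16 1 0 16 3 8 3 0 8 8 16 11 11 3 0 27 27 11 11 8 0 1 0 16 9 0) (@D3.rec (fun _ => Nat) 1 9 0 16 0 54 1 9 0 1 16 0 0 1 0 1 1 12 12 0 1 12 0 1 8 10 2 3 3 1 2 34 2 3 2 3 3 30 3 0 6 73 60 0 1 29 3 3 29 3 0) (@D3.rec (fun _ => Nat) 6 60 0 34 3 73 0 1 8 8 0 73 9 0 1 64 0 1 1 2 29 29 2 3 29 29 3 1 2 2 3 29 29 3 0 29 17 34 34 3 2 3 29 3 0 8 8 17 29 3 0) (@D3.rec (fun _ => Nat) 33 29 29 8 0 1 8 8 0 17 50 1 9 0 17 9 9 0 0 1 59 34 34 34 17 2 3 3 0 0 1 9 9 0 17 12 3 0 12 12 8 0 1 12 0 8 8 53 0 1 8)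
def lv_e_17 : D2 → D3 → Nat := @D2.rec (fun _ => D3 → Nat) (@D3.rec (fun _ => Nat) 8 0 0 1 17 61 1 10 10 0 0 1 109 9 9 9 0 1 0 1 0 1 0 1 0 1 1 1 107 1 10 13 56 13 0 1 10 0 1 106 10 108 107 15 83 1 78 15 82 1 109) (@D3.rec (fun _ => Nat) 84 1 107 1 1 1 2 3 3 2 3 2 3 6 3 107 7 16 2 3 3 3 0 6 16 0 1 1 31 29 2 3 29 3 3 2 3 31 3 0 6 6 16 83 1 7 0 16 85 3 16) (@D3.rec (fun _ => Nat) 3 0 11 0 1 8 0 16 9 0 0 1 1 1 1 0 1 8 3 3 30 2 3 30 3 0 17 2 3 31 29 2 3 29 3 2 3 3 2 3 31 6 3 0 6 17 82 7 1 0 109) (@D3.rec (fun _ => Nat) 3 3 104 8 17 107 3 0 8 0 1 0 17 84 1 0 109 1 9 0 1 1 0 1 8 9 31 29 2 3 29 3 2 3 31 31 29 3 0 29 17 3 31 31 3 0 8 17 31 3 0) (@D3.rec (fun _ => Nat) 31 31 8 0 1 8 0 17 0 1 0 9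 0 0 1 104 17 30 30 12 12 9 0 1 0 17 12 3 30 12 12 8 0 1 30 30 12 0 8 0 0 1 8 8 0 0 1 17 0 1 0) (@D3.rec (fun _ => Nat) 1 9 0 0 1 5 9 1 1 1 1 30 13 0 1 13 86 13 0 1 0 0 1 1 30 3 3 0 17 60 3 17 0 17 1 29 3 3 0 29 17 34 3 8 17 0 17 0 1 3 34) (@D3.rec (fun _ => Nat) 17 61 0 17 63 61 61 61 8 0 0 1 17 1 0 1 1 1 1 109 3 60 3 3 0 18 30 0 1 18 29 3 29 3 0 29 60 34 3 8 8 60 0 60 9 0 60 0 1 34 3) (@D3.rec (fun _ => Nat) 34 18 30 12 9 9 56 9 0 18 12 12 54 30 30 12 56 0 56 0 1 18 10 0 59 0 0 1 0 1 1 0 1 1 30 34 13 3 2 3 29 3 108 29 29 18 2 3 107 29 3) (@D3.rec (fun _ => Nat) 0 110 109 17 29 29 0 1 29 0 18 3 34 34 18 3 9 9 57 9 9 0 18 17 55 81 103 17 57 8 0 57 8 0 0 1 18 10 107 10 0 0 1 63 108 1 0 0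 1 0 1) (@D3.rec (fun _ => Nat) 63 3 107 34 34 0 1 34 0 18 3 30 10 110 30 30 30 13 107 10 10 0 0 1 10 0 0 1 18 52 30 30 105 10 0 0 1 30 30 30 30 0 0 0 1 10 0 0 1 0 1) (@D3.rec (fun _ => Nat) 5 0 0 1 0 1 18 0 11 0 0 1 0 0 1 0 1 60 102 1 0 1 1 5 0 1 1 0 1 7 1 11 0 1 0 1 34 0 1 30 1 30 1 30 30 0 1 1 30 30 1) (@D3.rec (fun _ => Nat) 0 0 1 29 1 16 16 73 60 73 17 103 110 103 8 104 30 104 8 0 104 74 74 17 0 0 1 3 0 17 17 17 17 3 0 1 0 1 17 107 73 73 29 0 1 60 2 3 3 0 34) (@D3.rec (fun _ => Nat) 73 3 0 30 12 9 0 1 60 73 12 0 1 30 0 0 0 1 8 60 73 1 0 10 9 1 0 1 1 0 1 10 0 0 1 10 1 30 11 11 82 3 0 29 0 1 18 29 3 0 109) (@D3.rec (fun _ => Nat) 29 3 0 29 29 0 1 18 29 8 0 1 115 29 0 62 0 1 59 62 18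 34 0 1 0 105 10 0 1 30 30 13 0 0 0 1 10 74 18 10 54 30 13 0 10 0 0 1 30 30 0) (@D3.rec (fun _ => Nat) 0 0 1 10 0 0 1 0 1 62 74 74 74 18 104 55 0 1 11 0 1 0 1 34 0 1 30 11 0 1 1 30 17 17 0 1 17 9 1 8 31 31 0 1 17 9 17 30 30 12 0) (@D3.rec (fun _ => Nat) 0 0 1 8 61 17 1 5 9 0 1 30 10 31 0 1 18 108 18 0 1 8 18 0 1 31 0 0 1 8 18 9 0 1 0 105 0 1 0 1 18 0 1 0 111 0 1 10 0 0 1) (@D3.rec (fun _ => Nat) 107 0 1 0 1 105 10 74 74 18 1 1 34 18 18 18 18 18 18 64 18 34 61 34 0 18 10 61 30 61 0 61 113 61 18 30 110 0 61 0 61 0 1 61 61 18 0 1 1 0 1) (@D3.rec (fun _ => Nat) 62 62 62 58 0 19 56 58 19 54 56 56 58 58 58 19 3 0 18 0 0 1 18 0 0 1 19 34 57 0 19 102 57 57 19 53 18 29 55 0 55 29 29 29 0 57 57 10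 0 0 1) (@D3.rec (fun _ => Nat) 57 61 61 61 19 60 0 1 0 1 0 106 0 0 1 19 0 105 104 0 1 0 1 5 11 74 74 74 19 53 54 0 0 1 105 19 0 0 0 1 103 115 0 0 1 0 1 5 0 1 6) (@D3.rec (fun _ => Nat) 74 74 74 0 1 5 6 1 1 1 110 1 0 1 1 0 1 0 1 0 1 1 30 6 6 16 0 8 16 8 111 0 16 105 0 1 1 75 60 108 0 17 0 1 17 102 8 0 0 1 17) (@D3.rec (fun _ => Nat) 1 0 1 1 85 30 3 2 3 30 30 3 0 30 17 3 30 3 0 8 8 17 30 30 0 1 0 17 1 9 0 17 9 0 1 17 9 0 1 9 0 17 12 12 0 1 28 28 12 0 0) (@D3.rec (fun _ => Nat) 0 1 8 0 1 17 0 54 1 10 0 0 1 0 1 5 9 1 0 1 1 1 28 10 13 0 1 0 1 28 11 3 58 2 3 35 3 3 0 75 31 0 1 0 75 1 30 110 60 30 0) (@D3.rec (fun _ => Nat) 1 0 60 1 35 75 60 0 1 8 0 0 1 60 0 1 1 2 3 30 30 3 0 30 30 18 2 3 3 0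 30 30 0 1 0 18 35 35 18 3 0 30 0 1 9 0 18 30 0 1 33) (@D3.rec (fun _ => Nat) 30 0 54 0 1 8 8 0 0 1 18 10 0 0 1 0 1 1 35 35 0 18 3 0 0 1 0 1 10 10 0 0 1 18 13 0 1 13 0 55 0 1 10 0 0 1 10 53 55 0 1) (@D3.rec (fun _ => Nat) 54 10 0 0 1 0 1 18 11 11 0 1 0 1 1 1 55 1 35 1 1 55 107 107 0 1 1 108 108 3 17 3 3 0 6 17 0 3 17 0 1 0 17 1 32 30 3 0 30 17 17) (@D3.rec (fun _ => Nat) 3 0 32 0 1 8 0 17 9 0 0 1 17 17 0 1 0 0 1 8 0 0 1 17 1 1 1 109 18 31 3 31 0 1 18 3 32 30 3 0 30 112 3 18 3 0 32 8 0 1 0) (@D3.rec (fun _ => Nat) 18 9 0 1 18 108 106 108 18 0 0 1 0 0 1 8 0 1 18 9 0 1 5 1 31 1 10 32 30 3 118 30 108 3 0 32 32 30 0 1 0 18 110 32 32 0 1 0 18 32 0)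
def lv_e_18 : D2 → D3 → Nat := @D2.rec (fun _ => D3 → Nat) (@D3.rec (fun _ => Nat) 1 32 0 0 0 1 8 0 0 1 18 1 9 1 1 1 0 18 31 31 13 0 0 0 1 0 1 18 13 86 31 13 0 0 0 1 10 31 0 0 0 1 0 0 1 0 1 5 10 104 0) (@D3.rec (fun _ => Nat) 1 0 1 18 1 1 5 1 1 5 7 31 31 31 0 1 86 0 1 0 1 1 31 31 18 0 1 18 18 18 0 1 18 30 18 0 1 0 18 35 18 0 18 0 1 18 1 108 0 18 61) (@D3.rec (fun _ => Nat) 0 1 18 65 61 63 61 0 0 1 0 1 18 1 63 35 111 60 60 105 0 1 19 0 0 1 19 30 60 30 0 1 0 60 35 60 9 0 60 0 1 60 0 0 1 1 35 58 0 19 31) (@D3.rec (fun _ => Nat) 58 10 0 58 0 0 1 19 13 56 56 31 0 58 58 0 1 58 0 1 19 0 0 1 0 1 1 1 7 1 35 31 85 107 3 30 110 30 0 19 3 0 109 30 0 0 1 105 101 103 30) (@D3.rec (fun _ => Nat) 0 0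 1 30 0 0 1 19 59 35 0 19 57 10 106 59 10 0 0 1 19 57 57 81 105 59 59 56 0 1 59 0 0 1 0 1 19 106 0 0 1 0 1 0 1 1 1 61 108 109 35) (@D3.rec (fun _ => Nat) 0 0 1 35 0 0 1 19 54 0 110 31 31 0 106 109 11 0 0 1 0 1 0 0 1 0 1 19 54 31 0 107 55 0 1 0 1 31 31 0 0 0 1 0 1 0 1 5 0 0 1) (@D3.rec (fun _ => Nat) 0 1 5 0 1 6 0 1 0 1 0 1 7 1 0 0 1 1 0 1 0 1 35 0 1 7 1 10 7 1 59 1 57 8 11 1 0 1 31 35 1 31 31 31 31 31 31 31 31 1 17) (@D3.rec (fun _ => Nat) 31 0 1 1 30 17 17 75 60 60 18 103 103 116 0 104 0 104 0 0 1 104 76 76 18 1 1 0 1 18 18 18 18 64 0 1 0 1 18 75 75 0 0 1 60 3 0 0 1 0 75) (@D3.rec (fun _ => Nat) 0 1 31 0 0 0 1 10 60 60 0 0 1 10 0 0 1 0 1 0 1 60 60 60 11 1 11 1 35 11 1 31 11 0 1 1 31 31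 0 0 1 0 0 1 19 30 0 1 110 30 0) (@D3.rec (fun _ => Nat) 1 30 0 0 1 19 0 55 0 1 64 0 0 1 64 0 1 59 64 19 0 0 1 35 0 1 114 0 0 1 31 0 0 0 1 0 1 0 1 62 11 76 19 0 56 0 0 0 1 53 0) (@D3.rec (fun _ => Nat) 1 0 1 0 0 0 1 0 1 0 1 62 0 0 1 0 1 0 1 62 76 76 76 0 1 1 1 1 31 31 1 31 18 18 0 1 8 18 32 0 0 1 8 18 18 31 0 0 0 1 0) (@D3.rec (fun _ => Nat) 1 0 1 5 10 61 18 5 1 31 0 0 1 19 109 19 0 1 103 19 0 1 10 0 0 1 0 1 87 19 0 1 0 1 105 0 1 0 1 19 0 1 0 1 112 0 1 103 0 1 0) (@D3.rec (fun _ => Nat) 1 109 0 1 0 1 109 87 61 61 0 19 19 19 19 19 19 66 19 0 61 0 0 1 19 0 61 0 61 0 1 61 109 61 19 0 109 0 1 61 0 1 61 0 1 61 61 1 0 1 62) (@D3.rec (fun _ => Nat) 62 62 60 0 1 20 58 60 20 56 58 58 60 60 60 0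 1 0 0 1 1 0 0 1 0 1 20 0 59 0 1 20 102 59 59 20 55 0 0 57 0 1 57 30 0 0 0 1 59 59 0) (@D3.rec (fun _ => Nat) 0 1 0 1 59 61 61 61 1 1 0 1 108 0 1 0 1 20 0 1 116 106 0 1 5 0 1 6 6 76 76 61 55 56 0 1 0 1 118 0 0 1 0 1 0 1 115 115 104 1 0) (@D3.rec (fun _ => Nat) 1 19 0 1 6 1 7 61 61 1 6 1 1 1 1 31 0 17 1 102 17 86 104 0 1 17 1 29 75 75 108 0 1 18 1 18 115 104 0 1 0 1 18 1 86 87 31 18 3 0 31) (@D3.rec (fun _ => Nat) 31 0 1 0 18 18 31 0 1 9 0 18 31 0 0 1 8 0 1 18 10 0 0 1 1 18 0 0 1 10 0 0 1 18 13 0 0 1 29 0 0 0 1 0 1 0 1 5 10 0 1) (@D3.rec (fun _ => Nat) 18 0 1 5 11 0 1 1 1 5 7 1 36 29 29 11 0 1 1 29 106 60 3 104 36 107 0 1 75 0 0 1 0 1 75 0 109 62 0 0 1 0 1 62 0 75 75 0 1 0 0) (@D3.rec (fun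 _ => Nat) 1 0 1 75 1 3 0 31 31 0 1 31 0 19 3 0 0 0 1 0 0 0 1 31 0 1 19 36 0 19 0 1 0 0 1 10 0 0 1 19 0 0 1 105 0 0 1 54 0 1 52) (@D3.rec (fun _ => Nat) 0 0 1 0 1 19 1 1 1 54 36 0 0 1 19 0 1 0 1 11 0 1 104 11 0 0 1 0 1 19 105 0 1 0 0 1 55 0 1 61 0 1 0 1 105 53 53 55 0 1 54) (@D3.rec (fun _ => Nat) 54 0 1 0 1 0 1 55 1 36 1 102 55 111 117 1 105 18 18 18 0 1 0 18 1 18 18 0 1 0 1 18 33 31 0 1 0 18 18 0 1 0 0 1 8 0 0 1 18 1 1) (@D3.rec (fun _ => Nat) 18 18 0 1 0 1 0 1 107 0 1 0 1 18 107 108 19 32 87 0 0 1 19 105 33 31 0 1 0 110 102 19 0 1 0 86 0 1 8 0 1 19 1 19 110 108 108 19 0 1 1) (@D3.rec (fun _ => Nat) 10 0 1 0 1 5 0 1 19 1 5 7 32 33 31 114 0 108 0 0 1 33 0 0 0 1 31 0 1 19 112 33 0 0 1 0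 1 19 0 0 1 10 0 0 1 0 1 0 1 87 0) (@D3.rec (fun _ => Nat) 1 0 1 19 93 0 1 19 32 0 0 0 1 0 1 0 1 0 1 19 87 87 0 0 0 1 0 1 0 1 5 0 0 1 0 1 0 1 5 0 1 0 1 5 0 1 6 87 108 0 1) (@D3.rec (fun _ => Nat) 0 1 7 5 7 8 32 32 32 32 1 1 1 32 17 32 19 0 1 19 19 19 0 1 19 0 19 0 1 31 0 1 19 0 19 0 1 19 0 1 19 108 0 1 19 63 0 1 19 65 63) (@D3.rec (fun _ => Nat) 63 63 0 1 0 1 0 1 63 63 84 62 62 111 0 1 20 0 1 0 1 20 0 62 0 0 1 31 0 1 62 0 62 0 0 1 62 0 1 62 0 1 1 61 0 58 0 1 20 0 58) (@D3.rec (fun _ => Nat) 0 0 1 58 0 1 0 1 20 83 56 56 0 0 1 58 58 0 1 58 0 1 7 0 1 1 1 36 7 7 8 36 32 107 112 0 106 0 0 1 20 0 0 1 106 0 0 1 1 31 0)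
def lv_e_19 : D2 → D3 → Nat := @D2.rec (fun _ => D3 → Nat) (@D3.rec (fun _ => Nat) 103 103 0 0 1 0 1 5 31 0 1 0 1 20 59 0 0 1 20 57 104 106 59 0 0 1 0 1 20 57 57 103 105 59 59 56 0 1 59 0 1 0 1 0 1 63 0 1 0 1 36) (@D3.rec (fun _ => Nat) 1 63 1 58 60 63 108 111 0 0 1 0 1 5 0 1 0 1 20 54 0 1 112 0 111 0 1 106 109 0 0 1 0 1 0 1 0 1 0 1 110 0 1 7 54 55 0 1 112 55 0) (@D3.rec (fun _ => Nat) 1 0 1 0 0 0 1 0 1 0 1 5 0 1 0 1 18 6 0 1 0 1 19 0 1 7 6 1 7 0 1 0 1 61 1 8 8 1 1 36 7 1 0 1 8 1 59 8 12 8 61) (@D3.rec (fun _ => Nat) 61 62 59 59 9 1 32 36 32 32 32 32 32 32 32 32 18 0 1 31 18 18 75 62 75 19 105 105 114 0 1 106 0 1 113 0 1 0 1 121 76 76 0 1 19 19 19 19 62 0 1) (@D3.rec (fun _ => Nat) 0 1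 75 75 0 1 0 1 62 0 1 0 1 36 0 1 75 0 1 11 0 0 1 0 1 0 1 62 11 62 75 0 1 0 1 62 0 1 0 1 62 0 1 0 1 62 62 32 32 1 32) (@D3.rec (fun _ => Nat) 0 1 1 0 1 0 1 20 0 0 1 36 112 0 0 1 0 0 1 0 1 20 0 1 55 0 1 64 0 1 0 1 64 0 1 61 64 0 1 0 1 5 0 1 112 0 1 0 1 0 0) (@D3.rec (fun _ => Nat) 1 0 1 0 1 64 0 1 0 1 64 64 76 0 1 56 0 1 0 1 0 1 53 0 1 0 1 0 1 0 1 0 1 0 1 64 0 1 64 0 1 0 1 0 1 1 64 76 76 1 32) (@D3.rec (fun _ => Nat) 32 19 19 0 1 83 19 0 0 1 0 1 87 19 19 0 0 1 0 1 0 1 5 0 1 5 0 1 6 87 63 32 0 1 0 1 20 109 20 0 1 109 0 1 0 1 0 1 0 1 89) (@D3.rec (fun _ => Nat) 0 1 0 1 122 0 1 0 1 0 1 0 1 113 0 1 109 0 1 0 1 115 0 1 1 109 89 76 0 1 20 20 20 20 20 66 0 1 63 0 1 0 1 20 0 1 63 0 1 63 0) (@D3.rec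 (fun _ => Nat) 1 63 111 63 0 1 117 0 1 63 0 1 63 0 1 0 1 64 64 60 0 1 21 58 60 56 58 58 60 60 0 1 0 1 0 1 19 0 1 0 1 0 1 0 1 59 0 1 21 116 59) (@D3.rec (fun _ => Nat) 59 55 0 1 0 1 57 0 1 57 0 0 1 0 1 0 1 59 59 0 1 0 1 65 0 1 63 63 0 1 113 0 1 0 1 7 0 1 114 119 0 1 6 6 1 7 7 76 76 55 56) (@D3.rec (fun _ => Nat) 0 1 0 1 64 0 1 0 1 20 0 1 0 1 105 113 115 20 0 1 1 7 8 76 32 0 1 18 108 18 88 115 0 1 18 86 30 77 62 110 0 1 19 19 117 108 0 1 0 1 87) (@D3.rec (fun _ => Nat) 107 87 105 0 19 0 0 1 0 0 0 1 32 0 1 19 19 0 0 1 10 0 0 1 19 0 0 1 0 1 61 0 1 19 11 0 1 1 63 19 0 1 0 1 5 11 0 1 0 1 19) (@D3.rec (fun _ => Nat) 0 0 1 0 1 0 0 1 0 1 0 1 5 0 1 5 0 1 6 64 0 1 7 1 5 6 1 37 7 7 8 30 30 1 30 108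 60 106 0 109 0 1 77 0 1 0 1 0 1 77 0) (@D3.rec (fun _ => Nat) 1 113 62 0 1 0 1 0 1 62 0 1 77 62 0 1 0 1 0 1 0 1 0 1 0 0 0 1 32 0 0 1 20 0 1 0 1 1 32 0 1 0 1 0 1 5 32 0 1 20 0) (@D3.rec (fun _ => Nat) 0 1 20 0 1 0 1 0 1 104 0 1 0 1 20 0 1 0 1 107 0 1 0 1 110 56 0 1 54 0 1 0 1 0 1 56 37 102 56 0 0 1 0 1 20 0 1 0 1 106 0) (@D3.rec (fun _ => Nat) 1 106 111 0 1 0 1 9 0 1 104 107 0 1 0 1 0 1 57 0 1 65 0 1 0 1 107 105 55 55 57 1 56 56 0 1 0 1 1 57 107 107 57 115 19 19 19 0 1 0 1) (@D3.rec (fun _ => Nat) 19 19 19 0 1 0 1 19 0 0 0 1 32 0 1 19 19 0 1 0 1 0 1 87 0 1 0 1 19 103 19 19 0 1 0 1 0 1 109 0 1 0 1 109 110 20 88 88 0 1 0) (@D3.rec (fun _ => Nat) 1 20 110 0 0 0 1 32 0 1 110 112 20 0 1 0 1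 88 0 1 88 0 1 20 86 20 110 110 116 20 0 1 92 87 0 1 5 0 1 6 0 1 7 7 8 33 112 0 110 0 1) (@D3.rec (fun _ => Nat) 115 0 1 1 32 103 0 1 0 1 0 1 5 32 0 1 20 113 0 0 1 0 1 0 1 20 0 1 0 1 84 0 1 0 1 109 0 1 0 1 89 0 1 0 1 93 109 0 1 20 0) (@D3.rec (fun _ => Nat) 0 1 0 1 0 1 0 1 0 1 0 1 88 88 0 1 0 1 0 1 5 0 1 5 0 1 6 0 1 0 1 5 0 1 7 0 1 18 6 95 0 1 0 1 7 6 1 7 89 109 0) (@D3.rec (fun _ => Nat) 1 1 8 8 8 9 33 33 33 18 33 0 20 0 1 20 20 20 0 1 0 1 20 0 1 85 0 1 20 0 1 20 0 1 20 0 1 112 0 1 20 63 0 1 67 63 65 0 1 0 1) (@D3.rec (fun _ => Nat) 1 65 65 84 62 62 111 0 1 21 0 1 0 1 0 1 62 0 1 0 1 5 32 0 1 62 0 1 62 0 1 0 1 62 0 1 61 1 37 62 61 0 1 60 0 1 21 0 1 60 0) (@D3.rec (fun _ => Nat) 1 0 1 60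 0 1 110 0 1 7 85 58 58 0 1 0 1 60 60 0 1 7 1 8 8 1 7 8 8 83 109 111 0 1 110 0 1 0 1 21 0 1 1 32 108 0 1 0 1 5 19) (@D3.rec (fun _ => Nat) 32 32 0 1 103 112 0 1 0 1 5 0 1 6 6 0 1 0 1 7 61 0 1 0 1 21 59 106 114 61 0 1 0 1 112 0 1 63 59 59 105 107 61 61 58 0 1 0 1 0 1) (@D3.rec (fun _ => Nat) 58 1 63 63 1 1 63 60 63 58 58 60 60 63 110 111 0 1 0 1 5 0 1 6 0 1 0 1 7 56 0 1 116 0 1 109 0 1 109 121 0 1 0 1 108 0 1 7 1 0 1) (@D3.rec (fun _ => Nat) 0 1 8 110 1 8 8 56 57 0 1 121 57 0 1 1 0 1 0 1 0 1 20 0 1 0 1 19 6 0 1 21 1 19 7 0 0 1 20 0 1 63 1 8 7 8 8 0 1 61 1)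
def lv_e_20 : D2 → D3 → Nat := @D2.rec (fun _ => D3 → Nat) (@D3.rec (fun _ => Nat) 61 61 9 59 9 9 37 8 37 8 61 1 59 9 64 59 59 9 9 61 64 64 59 33 37 33 33 33 0 1 19 77 62 120 116 0 1 121 0 1 113 0 1 0 1 78 0 1 20 20 66) (@D3.rec (fun _ => Nat) 0 1 1 77 0 1 0 1 0 1 0 1 108 0 1 77 0 1 62 0 1 0 1 63 0 1 0 1 63 63 62 0 1 62 0 1 62 0 1 0 1 62 0 1 1 62 33 88 0 1 19) (@D3.rec (fun _ => Nat) 0 1 0 1 0 1 0 1 112 112 0 1 0 1 0 1 0 1 0 1 0 1 57 0 1 66 0 1 0 1 8 66 1 61 0 1 5 0 1 6 0 1 7 0 1 0 1 0 1 0 1) (@D3.rec (fun _ => Nat) 0 1 64 0 1 64 64 0 1 1 64 64 0 1 58 0 1 0 1 0 1 55 0 1 1 0 1 0 1 0 1 19 0 1 64 1 64 0 1 0 1 1 64 78 33 20 20 0 1 85 0) (@D3.rec (fun _ => Nat) 1 0 1 87 0 1 87 0 1 0 1 5 0 1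 7 0 1 6 0 1 6 1 7 87 0 1 0 1 120 1 108 0 1 0 1 0 1 109 1 89 0 1 0 1 0 1 1 0 1 0 1) (@D3.rec (fun _ => Nat) 114 1 109 0 1 1 117 1 108 89 0 1 21 21 0 1 63 0 1 0 1 7 0 1 63 0 1 63 0 1 114 0 1 111 0 1 0 1 21 1 0 1 62 0 1 112 60 58 60 62 0) (@D3.rec (fun _ => Nat) 1 0 1 0 1 20 0 1 0 1 1 0 1 61 0 1 7 114 61 57 0 1 0 1 59 0 1 57 0 1 0 1 67 0 1 0 1 111 61 0 1 0 1 1 63 0 1 7 0 1 114) (@D3.rec (fun _ => Nat) 1 8 112 0 1 64 1 7 7 8 8 78 57 0 1 1 64 64 0 1 21 0 1 0 1 1 116 117 1 8 0 1 19 110 19 90 113 0 1 88 88 31 77 112 0 1 110 0 1 1 88) (@D3.rec (fun _ => Nat) 88 111 105 0 1 20 0 1 1 33 0 1 0 1 0 1 5 33 0 1 20 20 0 1 0 1 63 11 0 1 0 1 20 0 1 0 1 63 0 1 63 0 1 63 1 38 63 63 20 0 1) (@D3.rec (fun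 _ => Nat) 5 0 1 6 6 0 1 110 0 1 7 0 1 0 1 0 1 0 1 0 1 5 0 1 7 0 1 6 66 0 1 7 6 1 7 56 1 8 8 7 6 107 8 9 31 108 62 106 0 1 114) (@D3.rec (fun _ => Nat) 0 1 77 0 1 0 1 0 1 0 1 111 64 0 1 0 1 0 1 0 1 77 1 0 1 0 1 1 0 1 33 0 1 0 1 0 1 5 33 0 1 0 1 21 0 1 0 1 84 19 0) (@D3.rec (fun _ => Nat) 1 82 0 1 5 0 1 6 86 0 1 7 0 1 0 1 21 0 1 0 1 0 1 104 0 1 9 0 1 102 0 1 0 1 110 0 1 0 1 8 110 56 1 54 0 1 0 1 1 56 56) (@D3.rec (fun _ => Nat) 104 111 0 1 0 1 10 0 1 108 0 1 0 1 106 1 117 110 0 1 0 1 11 1 115 109 0 1 0 1 0 1 57 1 63 0 1 1 116 105 55 55 56 56 0 1 1 57 57 109 109) (@D3.rec (fun _ => Nat) 107 20 20 20 0 1 0 1 20 20 20 0 1 0 1 0 1 0 1 0 1 5 0 1 20 20 0 1 0 1 88 0 1 88 0 1 0 1 111 20 0 1 0 1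 1 115 0 1 1 110 121) (@D3.rec (fun _ => Nat) 21 89 89 0 1 0 1 112 0 1 0 1 0 1 5 33 0 1 113 112 21 0 1 0 1 94 90 0 1 90 0 1 88 111 21 111 116 114 0 1 89 94 0 1 7 6 1 7 1 8 8) (@D3.rec (fun _ => Nat) 8 9 110 0 1 110 0 1 113 0 1 89 89 33 33 103 0 1 91 0 1 5 0 1 6 6 33 0 1 7 115 0 1 0 1 0 1 0 1 0 1 84 0 1 84 0 1 113 0 1 8) (@D3.rec (fun _ => Nat) 111 0 1 1 90 0 1 1 95 111 111 0 1 0 1 0 1 0 1 0 1 0 1 1 1 89 89 0 1 5 0 1 89 0 1 6 0 1 6 1 7 0 1 6 0 1 19 6 0 1 21) (@D3.rec (fun _ => Nat) 7 111 1 19 7 0 95 0 1 1 8 7 8 8 91 116 1 9 9 9 9 0 103 1 21 0 1 21 1 0 1 21 0 1 85 0 1 85 0 1 21 0 1 1 112 0 1 114 1 0 1) (@D3.rec (fun _ => Nat) 1 65 65 84 64 114 0 1 0 1 111 1 0 1 64 0 1 5 0 1 6 6 0 1 7 0 1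 64 0 1 112 0 1 63 1 63 63 63 63 0 1 60 0 1 7 0 1 60 0 1 0) (@D3.rec (fun _ => Nat) 1 7 0 1 8 112 1 8 85 58 0 1 0 1 105 60 1 8 8 9 9 83 8 118 111 0 1 110 0 1 0 1 7 0 1 115 107 33 33 114 0 1 5 0 1 20 6 93 0 0 1) (@D3.rec (fun _ => Nat) 116 119 0 1 112 0 1 7 6 6 1 7 7 0 1 8 1 8 8 61 0 1 0 1 106 59 115 115 0 1 0 1 65 112 1 65 65 59 118 118 61 58 1 0 1 60 1 60 60 65 62) (@D3.rec (fun _ => Nat) 65 65 60 62 65 62 65 60 109 62 62 118 117 0 1 0 1 7 6 1 7 0 1 8 1 8 117 56 0 1 0 1 109 0 1 20 111 0 1 112 0 1 8 110 1 8 8 0 1 63 1) (@D3.rec (fun _ => Nat) 9 112 9 9 61 9 9 57 0 1 105 57 1 0 1 107 0 1 21 0 1 107 65 0 1 22 1 20 7 0 20 1 22 20 8 0 1 0 1 65 1 65 9 8 9 9 1 63 63 63 63) (@D3.rec (fun _ =>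 Nat) 61 10 61 10 113 9 9 67 61 10 64 64 61 64 64 0 90 1 0 1 0 1 19 0 1 1 0 1 64 1 0 1 83 1 0 1 0 1 108 0 1 108 0 1 64 0 1 0 1 64 64) (@D3.rec (fun _ => Nat) 0 1 1 64 64 0 1 88 64 1 64 0 1 113 1 64 1 64 0 1 20 0 1 8 1 0 1 113 0 1 109 0 1 0 1 0 1 0 1 112 1 0 1 107 57 1 66 0 1 82 1) (@D3.rec (fun _ => Nat) 9 0 1 7 6 1 7 1 8 116 0 1 1 0 1 0 1 108 0 1 66 66 1 66 66 1 66 66 0 1 0 1 111 0 1 1 55 1 0 1 111 0 1 86 1 20 1 66 66 0 1) (@D3.rec (fun _ => Nat) 1 1 85 0 1 87 0 1 113 89 1 89 0 1 6 0 1 20 6 0 1 7 1 7 1 7 8 89 0 1 114 1 114 1 0 1 107 1 109 91 1 1 1 1 1 115 1 91 0 1 0)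
def lv_e_21 : D2 → D3 → Nat := @D2.rec (fun _ => D3 → Nat) (@D3.rec (fun _ => Nat) 1 7 0 1 116 1 8 0 1 0 1 113 1 0 1 107 1 1 21 1 1 112 0 1 0 1 1 21 0 1 1 0 1 7 1 8 0 1 0 1 111 1 57 57 0 1 67 0 1 111 0) (@D3.rec (fun _ => Nat) 1 107 1 113 0 1 1 1 8 1 114 9 9 112 1 66 8 8 9 1 66 66 66 0 1 1 1 116 0 1 107 90 1 88 88 88 1 114 1 89 117 89 107 0 1 21 0 1 92 108 34) (@D3.rec (fun _ => Nat) 34 0 1 88 0 1 5 0 1 6 6 0 1 7 21 0 1 114 0 1 63 108 0 1 112 0 1 65 0 1 83 0 1 8 63 1 63 1 65 65 67 65 85 0 1 7 6 6 1 7 7) (@D3.rec (fun _ => Nat) 0 1 109 110 1 8 0 1 0 1 1 0 1 6 0 1 107 6 0 1 7 68 1 7 58 1 8 7 8 8 58 9 9 9 9 119 108 0 1 114 0 1 0 1 115 1 1 0 1 85 0) (@D3.rec (fun _ => Nat) 1 83 1 1 0 1 106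 0 1 1 0 1 114 0 1 104 0 1 5 0 1 6 6 0 1 110 0 1 7 0 1 0 1 20 84 94 0 1 8 84 0 1 7 6 1 7 86 1 8 8 0) (@D3.rec (fun _ => Nat) 1 10 0 1 106 0 1 0 1 10 1 106 0 1 11 1 104 104 0 1 107 1 110 0 1 84 1 9 108 0 56 0 1 1 58 58 111 0 1 0 1 106 10 1 108 108 0 1 1 119 116) (@D3.rec (fun _ => Nat) 111 0 1 1 11 113 118 118 1 0 1 1 67 1 115 107 57 58 1 59 111 111 21 21 0 1 0 1 21 1 1 0 1 89 0 1 5 0 1 6 0 1 7 0 1 0 1 8 89 1 89) (@D3.rec (fun _ => Nat) 0 1 1 113 1 1 115 1 118 90 90 0 1 1 115 0 1 113 0 1 5 0 1 6 6 0 1 7 115 0 1 0 1 8 96 90 1 90 1 88 111 113 116 1 90 94 1 8 7 8 8) (@D3.rec (fun _ => Nat) 9 9 9 9 112 0 1 112 0 1 7 0 1 87 89 89 94 89 105 0 1 8 93 93 0 1 7 6 6 1 7 7 110 1 8 8 0 1 0 1 112 1 1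 0 1 86 86 1 86 0 1) (@D3.rec (fun _ => Nat) 110 113 1 9 111 0 1 91 1 95 111 113 1 0 1 0 1 20 0 1 1 1 90 0 1 114 6 0 1 90 1 7 1 7 8 0 1 22 8 1 20 7 0 20 1 22 9 107 111 20 8) (@D3.rec (fun _ => Nat) 0 95 1 2 1 9 8 9 9 91 10 10 1 1 0 1 114 1 87 1 87 0 1 116 1 1 116 1 67 86 1 1 113 0 1 110 0 1 7 6 6 1 7 7 1 8 8 0 1 104 0) (@D3.rec (fun _ => Nat) 1 64 110 1 64 64 63 63 64 0 1 7 1 8 0 1 107 0 1 8 1 8 1 9 112 9 87 0 1 105 1 107 107 9 9 10 85 110 0 1 7 0 1 115 1 8 115 0 1 107 115) (@D3.rec (fun _ => Nat) 115 116 119 0 1 89 6 1 21 7 0 21 1 0 1 116 0 1 8 113 113 1 8 7 117 8 7 8 8 1 9 9 9 9 9 86 0 1 108 1 108 108 113 0 1 60 1 65 114 65 65) (@D3.rec (fun _ => Nat) 62 65 65 116 1 60 60 60 60 109 62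 65 62 65 62 65 107 62 0 1 8 1 8 7 8 1 9 9 9 117 1 0 1 114 109 1 21 116 0 1 114 1 9 110 112 9 9 9 9 1 63) (@D3.rec (fun _ => Nat) 10 119 61 10 10 61 10 61 10 59 1 105 0 1 107 109 0 1 114 67 1 107 65 113 1 23 23 21 8 21 0 21 1 21 23 0 1 1 65 65 10 10 63 63 63 66 61 11 0 119 10) (@D3.rec (fun _ => Nat) 68 66 66 66 88 1 1 1 20 1 1 1 85 0 1 1 110 1 108 118 1 64 0 1 115 1 65 65 1 65 65 1 88 64 64 1 113 64 1 21 1 9 0 1 110 110 1 114 0 1 114) (@D3.rec (fun _ => Nat) 1 0 1 108 1 112 1 112 1 84 10 10 1 8 7 8 9 9 115 116 1 0 1 108 1 109 1 66 66 66 66 66 1 1 113 1 1 111 1 86 21 21 66 1 87 0 1 107 89 1 115) (@D3.rec (fun _ => Nat) 89 89 0 1 115 8 1 22 7 1 9 8 8 89 1 116 1 109 110 110 1 1 8 1 116 9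 9 1 1 115 1 109 23 23 112 112 1 1 22 1 1 8 9 9 1 1 113 114 59 59 59) (@D3.rec (fun _ => Nat) 0 1 114 1 109 1 118 113 113 1 9 9 114 114 10 117 114 66 9 66 68 1 1 90 90 88 115 90 112 0 1 113 0 1 108 92 92 115 0 1 8 88 90 0 1 7 6 6 1 7 7) (@D3.rec (fun _ => Nat) 1 8 8 0 1 112 113 116 1 65 108 0 1 68 114 1 65 65 0 1 88 85 1 9 65 0 65 65 65 87 114 1 8 7 7 8 8 1 116 112 9 0 1 1 0 1 105 8 1 110 7) (@D3.rec (fun _ => Nat) 114 109 1 9 58 8 58 9 8 9 9 58 10 10 113 0 1 106 1 1 117 1 87 1 83 1 108 108 1 0 1 109 0 1 10 106 109 0 1 7 6 6 1 7 7 0 1 115 112 1 8) (@D3.rec (fun _ => Nat) 111 0 1 1 21 86 21 1 9 84 0 1 8 7 21 8 8 88 9 9 9 111 0 1 104 10 1 106 106 1 1 11 119 1 11 117 104 1 107 1 84 10 110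 10 0 1 1 58 111 0 1) (@D3.rec (fun _ => Nat) 106 1 106 12 115 106 111 111 110 110 1 110 121 1 13 115 1 114 111 1 1 0 1 8 90 0 1 7 6 1 7 1 8 1 1 9 90 113 90 1 115 91 1 0 1 8 113 95 0 1 7) (@D3.rec (fun _ => Nat) 6 6 1 7 7 1 8 8 1 1 9 96 0 92 90 113 111 91 96 9 8 9 9 10 10 112 0 1 7 1 8 1 89 89 93 89 89 119 1 9 93 0 93 1 8 7 117 8 7 8 8) (@D3.rec (fun _ => Nat) 110 9 9 9 93 0 1 1 112 1 86 86 86 1 112 115 0 10 113 10 0 1 120 113 0 1 1 21 1 1 114 7 1 91 8 8 1 23 8 109 23 21 8 21 0 21 1 21 23 9 115) (@D3.rec (fun _ => Nat) 113 0 97 1 2 2 10 10 11 1 114 87 87 87 1 118 118 118 86 118 113 1 112 112 1 8 7 117 8 7 8 8 9 9 9 1 106 1 65 112 65 65 65 65 1 8 9 9 1 107 1) (@D3.rec (fun _ => Nat) 9 9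 10 112 1 105 105 117 107 107 10 85 1 8 1 112 117 9 9 115 115 1 109 114 115 115 1 89 7 22 8 0 22 1 1 1 9 110 87 9 113 9 8 9 117 9 8 9 10 10 10)
def lv_e_22 : D2 → D3 → Nat := @D2.rec (fun _ => D3 → Nat) (@D3.rec (fun _ => Nat) 97 10 10 10 88 1 108 114 108 108 1 62 67 119 64 67 67 64 67 67 62 62 62 111 64 67 109 64 109 1 9 9 8 9 10 10 10 121 119 1 114 22 22 116 116 1 114 10 117 114 10) (@D3.rec (fun _ => Nat) 113 10 10 10 65 63 11 11 66 63 11 120 107 1 109 109 1 114 67 111 110 112 67 109 112 24 24 24 101 22 0 22 0 22 1 22 1 67 11 65 66 0 1 69 66 90 21 21 85 85 1) (@D3.rec (fun _ => Nat) 117 119 110 118 118 66 1 110 66 66 66 90 66 114 115 22 10 10 1 112 110 114 1 116 1 108 114 114 118 109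 84 84 11 9 8 9 10 122 118 117 1 108 112 110 68 68 68 113 113 116 113) (@D3.rec (fun _ => Nat) 88 88 22 1 107 89 117 91 115 1 117 8 22 8 22 9 111 111 116 109 113 9 9 115 118 10 118 115 114 109 23 117 9 9 10 113 113 118 117 59 59 1 113 115 113 113 109 110 10 116 11) (@D3.rec (fun _ => Nat) 119 115 68 90 90 120 1 115 109 1 117 92 112 94 1 9 90 0 90 1 8 7 21 8 7 8 8 9 9 9 92 1 115 116 116 65 108 1 69 114 111 67 67 1 90 85 0 10 65 10 0) (@D3.rec (fun _ => Nat) 1 67 87 9 8 8 9 116 114 1 1 107 8 116 107 112 8 109 116 117 109 9 60 60 10 10 11 1 108 115 117 87 87 85 85 113 108 108 108 1 111 1 11 116 110 116 1 8 7 112 7) (@D3.rec (fun _ => Nat) 8 8 1 115 112 112 9 9 110 1 22 86 22 10 86 10 0 1 9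 8 9 22 9 22 88 10 10 10 113 1 106 12 115 106 119 108 108 108 12 12 13 120 111 109 86 86 11 0 0 1 113) (@D3.rec (fun _ => Nat) 1 108 118 12 108 117 108 113 118 118 110 1 9 91 1 8 7 8 9 9 10 91 10 112 1 9 115 92 1 8 7 117 8 7 8 8 9 9 9 10 96 10 0 1 113 111 10 10 11 1 8) (@D3.rec (fun _ => Nat) 9 9 89 91 93 89 91 10 93 10 0 93 1 100 9 8 9 117 9 8 94 98 9 117 10 10 10 95 1 118 114 88 88 88 111 118 111 0 1 11 0 0 1 120 1 22 22 119 8 116 92) (@D3.rec (fun _ => Nat) 24 10 24 117 24 117 22 0 22 0 22 1 22 115 115 1 2 2 11 118 116 89 121 118 120 118 114 114 114 9 8 9 116 9 8 9 10 10 10 112 106 66 119 66 66 9 9 10 116 109 10) (@D3.rec (fun _ => Nat) 118 107 107 116 119 109 9 9 114 114 115 10 119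 117 117 116 117 121 117 91 8 91 0 23 1 10 113 10 87 10 114 10 121 10 9 119 10 11 11 11 99 11 11 88 109 88 113 113 115 120 110) (@D3.rec (fun _ => Nat) 62 64 67 67 67 62 116 119 64 109 10 10 10 11 11 122 113 116 23 117 118 116 122 115 11 113 11 11 70 12 68 118 115 118 109 114 69 116 118 110 114 120 115 25 25 25 98 23 0 23 1) (@D3.rec (fun _ => Nat) 23 1 23 90 1 22 87 115 117 118 118 111 117 67 115 11 110 119 110 118 116 119 119 111 114 86 12 10 11 120 122 118 117 110 111 68 115 113 88 23 119 91 109 112 117 10 117 24 112 112 112) (@D3.rec (fun _ => Nat) 10 114 11 113 121 25 117 10 11 115 115 116 116 61 116 116 111 120 110 11 119 119 122 90 115 115 111 115 94 114 94 10 90 10 0 90 1 107 9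 8 9 22 9 8 93 22 9 10 10 10 94) (@D3.rec (fun _ => Nat) 115 115 114 115 117 70 123 118 67 90 87 90 0 1 11 0 0 1 89 9 113 10 107 116 107 111 112 114 119 116 111 111 60 11 120 108 119 89 85 113 120 110 110 119 12 114 12 118 111 9 8) (@D3.rec (fun _ => Nat) 9 112 8 9 120 114 117 112 10 120 113 23 11 0 0 1 10 23 10 23 10 23 11 11 125 113 117 12 106 117 106 117 114 108 108 13 116 86 12 0 1 1 118 108 117 121 118 117 108 121 120) (@D3.rec (fun _ => Nat) 120 0 112 10 92 10 9 8 9 10 11 113 10 123 10 94 9 8 9 118 9 8 9 10 10 11 0 0 1 122 11 9 9 10 95 91 91 11 0 95 0 1 99 10 123 10 9 119 10 94 98) (@D3.rec (fun _ => Nat) 117 11 11 95 95 116 88 113 0 0 1 12 0 1 1 23 113 25 115 25 119 25 117 23 0 23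 1 23 1 23 2 114 89 121 122 118 114 113 113 10 116 10 9 119 10 11 11 119 67 10 11) (@D3.rec (fun _ => Nat) 118 116 118 107 122 118 10 114 114 119 11 115 118 117 117 116 91 1 11 89 11 116 89 11 11 121 11 12 12 99 99 12 121 90 111 115 129 118 69 121 11 11 12 122 116 24 122 121 118 117 12) (@D3.rec (fun _ => Nat) 118 116 119 112 116 113 112 122 114 26 26 100 98 0 24 1 24 23 87 123 117 117 119 112 118 12 116 115 121 109 116 86 11 120 122 120 114 128 118 90 120 115 116 24 122 121 11 119 114 119 11) (@D3.rec (fun _ => Nat) 115 115 117 116 116 110 118 117 120 115 111 116 94 11 0 92 0 1 109 10 23 10 9 23 10 93 23 11 11 94 94 117 111 116 92 0 0 1 12 0 1 1 116 120 120 118 109 113 120 116 119) (@D3.rec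 (fun _ => Nat) 119 111 119 123 89 87 121 120 120 110 13 116 117 118 10 119 9 119 116 116 114 11 112 12 0 1 1 11 24 11 24 24 12 117 115 121 119 117 108 121 117 121 110 14 128 88 0 1 117 123 123) (@D3.rec (fun _ => Nat) 117 120 0 120 1 11 10 11 12 11 94 10 118 10 9 119 11 12 0 1 1 10 11 12 0 1 99 1 97 11 121 11 96 100 96 100 12 97 118 90 111 0 1 1 0 1 24 114 26 117 26) (@D3.rec (fun _ => Nat) 117 115 0 24 1 24 113 123 113 116 11 116 11 12 119 11 118 116 116 118 11 116 116 114 121 93 12 89 12 119 12 13 101 121 90 121 115 122 12 123 124 122 122 120 120 119 117 27 98 1 25) (@D3.rec (fun _ => Nat) 117 117 123 111 117 111 120 113 118 118 117 118 115 121 118 12 0 1 115 1 109 11 24 11 95 24 95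 24 12 96 119 92 0 1 1 0 1 122 122 118 117 113 115 121 121 119 122 122 14 116 11) (@D3.rec (fun _ => Nat) 121 116 116 110 0 1 25 12 25 117 117 123 117 119 119 1 119 123 119 0 122 1 12 11 12 11 118 0 1 11 0 1 99 121 12 96 100 103 0 1 1 114 27 118 1 25 118 118 12 118 116) (@D3.rec (fun _ => Nat) 122 91 13 101 123 124 119 119 100 125 104 120 0 1 118 25 12 95 25 96 0 1 1 123 118 117 121 122 113 118 118 1 26 123 117 119 1 124 1 1 99 102 102 1 105 1 120 97 26 1 117)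
def lv_e : Pt → Nat := @Pt.rec (fun _ => Nat) (@D1.rec (fun _ => D2 → D3 → Nat) lv_e_0 lv_e_1 lv_e_2 lv_e_3 lv_e_4 lv_e_5 lv_e_6 lv_e_7 lv_e_8 lv_e_9 lv_e_10 lv_e_11 lv_e_12 lv_e_13 lv_e_14 lv_e_15 lv_e_16 lv_e_17 lv_e_18 lv_e_19 lv_e_20 lv_e_21 lv_e_22)
abbrev lc_e_Cert_tree : Cert rels S Gen.e := Cert.tree
abbrev lc_e_rc_13_1 : Cert rels S Gen.e := rc_13_1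
abbrev lc_e_rc_13_3 : Cert rels S Gen.e := rc_13_3
abbrev lc_e_rc_21_1 : Cert rels S Gen.e := rc_21_1
abbrev lc_e_rc_21_3 : Cert rels S Gen.e := rc_21_3
abbrev lc_e_rc_28_1 : Cert rels S Gen.e := rc_28_1
abbrev lc_e_rc_28_3 : Cert rels S Gen.e := rc_28_3
abbrev lc_e_rc_28_5 : Cert rels S Gen.e := rc_28_5
abbrev lc_e_rc_34_0 : Cert rels S Gen.e := rc_34_0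
abbrev lc_e_rc_34_1 : Cert rels S Gen.e := rc_34_1
abbrev lc_e_rc_35_0 : Cert rels S Gen.e := rc_35_0
abbrev lc_e_rc_35_2 : Cert rels S Gen.e := rc_35_2
abbrev lc_e_rc_36_0 : Cert rels S Gen.e := rc_36_0
abbrev lc_e_rc_36_2 : Cert rels S Gen.e := rc_36_2
abbrev lc_e_rc_36_4 : Cert rels S Gen.e := rc_36_4
abbrev lc_e_rc_37_0 : Cert rels S Gen.e := rc_37_0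
abbrev lc_e_rc_37_2 : Cert rels S Gen.e := rc_37_2
abbrev lc_e_rc_38_0 : Cert rels S Gen.e := rc_38_0
abbrev lc_e_rc_38_2 : Cert rels S Gen.e := rc_38_2
abbrev lc_e_rc_39_0 : Cert rels S Gen.e := rc_39_0
abbrev lc_e_rc_39_2 : Cert rels S Gen.e := rc_39_2
abbrev lc_e_rc_4_1 : Cert rels S Gen.e := rc_4_1
abbrev lc_e_rc_4_3 : Cert rels S Gen.e := rc_4_3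
abbrev lc_e_rc_55_22 : Cert rels S Gen.e := rc_55_22
abbrev lc_e_rc_55_31 : Cert rels S Gen.e := rc_55_31
abbrev lc_e_rc_55_40 : Cert rels S Gen.e := rc_55_40
abbrev lc_e_rc_55_49 : Cert rels S Gen.e := rc_55_49
abbrev lc_e_rc_55_58 : Cert rels S Gen.e := rc_55_58
abbrev lc_e_rc_55_67 : Cert rels S Gen.e := rc_55_67
abbrev lc_e_rc_55_76 : Cert rels S Gen.e := rc_55_76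
abbrev lc_e_rc_56_11 : Cert rels S Gen.e := rc_56_11
abbrev lc_e_rc_56_18 : Cert rels S Gen.e := rc_56_18
abbrev lc_e_rc_56_25 : Cert rels S Gen.e := rc_56_25
abbrev lc_e_rc_56_32 : Cert rels S Gen.e := rc_56_32
abbrev lc_e_rc_56_39 : Cert rels S Gen.e := rc_56_39
abbrev lc_e_rc_56_46 : Cert rels S Gen.e := rc_56_46
abbrev lc_e_rc_56_53 : Cert rels S Gen.e := rc_56_53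
abbrev lc_e_rc_56_60 : Cert rels S Gen.e := rc_56_60
abbrev lc_e_sc_4_0 : Cert rels S Gen.e := sc_4_0
def ce_e_0 : D2 → D3 → (Cert rels S Gen.e) := @D2.rec (fun _ => D3 → (Cert rels S Gen.e)) (@D3.rec (fun _ => (Cert rels S Gen.e)) lc_e_sc_4_0 lc_e_rc_38_2 lc_e_rc_37_2 lc_e_Cert_tree lc_e_rc_34_0 lc_e_rc_28_3 lc_e_rc_21_1 lc_e_rc_35_2 lc_e_rc_13_1 lc_e_rc_21_1 lc_e_rc_39_2 lc_e_rc_4_1 lc_e_rc_13_1 lc_e_Cert_tree lc_e_rc_21_1 lc_e_rc_4_1 lc_e_Cert_tree lc_e_rc_13_1 lc_e_rc_34_0 lc_e_rc_39_2 lc_e_Cert_tree lc_e_rc_4_1 lc_e_Cert_tree lc_e_rc_34_0 lc_e_rc_39_2 lc_e_rc_36_2 lc_e_rc_39_2 lc_e_rc_35_2 lc_e_Cert_tree lc_e_rc_34_0 lc_e_rc_39_2 lc_e_rc_34_0 lc_e_rc_39_2 lc_e_rc_13_1 lc_e_rc_39_2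 lc_e_rc_35_2 lc_e_rc_37_2 lc_e_rc_36_2 lc_e_rc_35_2 lc_e_Cert_tree lc_e_rc_34_0 lc_e_rc_39_2 lc_e_rc_4_1 lc_e_rc_39_2 lc_e_rc_35_2 lc_e_rc_28_3 lc_e_rc_21_1 lc_e_rc_39_2 lc_e_rc_35_2 lc_e_rc_13_1 lc_e_rc_13_1) (@D3.rec (fun _ => (Cert rels S Gen.e)) lc_e_rc_35_2 lc_e_rc_38_2 lc_e_rc_37_2 lc_e_rc_35_2 lc_e_rc_28_3 lc_e_rc_34_0 lc_e_rc_39_2 lc_e_rc_4_1 lc_e_rc_4_1 lc_e_rc_39_2 lc_e_rc_35_2 lc_e_rc_4_1 lc_e_rc_4_1 lc_e_rc_35_2 lc_e_Cert_tree lc_e_rc_35_2 lc_e_rc_28_3 lc_e_rc_21_1 lc_e_rc_21_1 lc_e_rc_35_2 lc_e_Cert_tree lc_e_rc_13_1 lc_e_rc_13_1 lc_e_rc_35_2 lc_e_rc_28_3 lc_e_rc_38_2 lc_e_rc_35_2 lc_e_Cert_tree lc_e_rc_21_1 lc_e_rc_13_1 lc_e_rc_13_1 lc_e_rc_39_2 lc_e_rc_35_2 lc_e_Cert_tree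 lc_e_rc_4_1 lc_e_rc_4_1 lc_e_rc_4_1 lc_e_rc_4_1 lc_e_rc_35_2 lc_e_Cert_tree lc_e_rc_4_1 lc_e_rc_4_1 lc_e_rc_4_1 lc_e_rc_4_1 lc_e_rc_34_0 lc_e_rc_37_2 lc_e_rc_35_2 lc_e_rc_39_2 lc_e_rc_39_2 lc_e_rc_35_2 lc_e_rc_21_1) (@D3.rec (fun _ => (Cert rels S Gen.e)) lc_e_rc_21_1 lc_e_rc_35_2 lc_e_Cert_tree lc_e_rc_34_0 lc_e_rc_13_1 lc_e_rc_35_2 lc_e_Cert_tree lc_e_rc_21_1 lc_e_rc_35_2 lc_e_Cert_tree lc_e_Cert_tree lc_e_rc_34_0 lc_e_rc_13_1 lc_e_rc_21_1 lc_e_Cert_tree lc_e_rc_13_1 lc_e_rc_13_1 lc_e_rc_13_1 lc_e_rc_13_1 lc_e_rc_35_2 lc_e_Cert_tree lc_e_rc_34_0 lc_e_rc_37_2 lc_e_rc_35_2 lc_e_rc_39_2 lc_e_rc_4_1 lc_e_rc_4_1 lc_e_rc_4_1 lc_e_rc_4_1 lc_e_rc_4_1 lc_e_Cert_tree lc_e_rc_34_0 lc_e_rc_4_1 lc_e_rc_4_1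 lc_e_Cert_tree lc_e_rc_21_1 lc_e_rc_37_2 lc_e_rc_35_2 lc_e_rc_39_2 lc_e_rc_38_2 lc_e_rc_37_2 lc_e_rc_39_2 lc_e_rc_39_2 lc_e_rc_35_2 lc_e_rc_39_2 lc_e_Cert_tree lc_e_rc_21_1 lc_e_rc_35_2 lc_e_Cert_tree lc_e_Cert_tree lc_e_rc_34_0) (@D3.rec (fun _ => (Cert rels S Gen.e)) lc_e_rc_36_2 lc_e_rc_35_2 lc_e_Cert_tree lc_e_Cert_tree lc_e_rc_34_0 lc_e_rc_13_1 lc_e_Cert_tree lc_e_Cert_tree lc_e_rc_34_0 lc_e_Cert_tree lc_e_rc_34_0 lc_e_rc_4_1 lc_e_Cert_tree lc_e_rc_21_1 lc_e_rc_21_1 lc_e_rc_34_0 lc_e_rc_37_2 lc_e_rc_35_2 lc_e_rc_39_2 lc_e_rc_13_1 lc_e_rc_13_1 lc_e_rc_13_1 lc_e_rc_13_1 lc_e_rc_13_1 lc_e_Cert_tree lc_e_Cert_tree lc_e_rc_34_0 lc_e_rc_37_2 lc_e_rc_35_2 lc_e_rc_39_2 lc_e_rc_38_2 lc_e_rc_37_2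 lc_e_rc_39_2 lc_e_rc_39_2 lc_e_rc_35_2 lc_e_rc_4_1 lc_e_Cert_tree lc_e_rc_4_1 lc_e_rc_4_1 lc_e_Cert_tree lc_e_Cert_tree lc_e_rc_34_0 lc_e_rc_4_1 lc_e_rc_4_1 lc_e_Cert_tree lc_e_Cert_tree lc_e_rc_34_0 lc_e_rc_13_1 lc_e_rc_36_2 lc_e_rc_38_2 lc_e_rc_37_2) (@D3.rec (fun _ => (Cert rels S Gen.e)) lc_e_rc_39_2 lc_e_rc_28_3 lc_e_rc_39_2 lc_e_rc_35_2 lc_e_rc_38_2 lc_e_rc_39_2 lc_e_rc_39_2 lc_e_rc_35_2 lc_e_rc_35_2 lc_e_Cert_tree lc_e_Cert_tree lc_e_Cert_tree lc_e_rc_34_0 lc_e_rc_35_2 lc_e_Cert_tree lc_e_Cert_tree lc_e_rc_34_0 lc_e_Cert_tree lc_e_rc_34_0 lc_e_rc_36_2 lc_e_rc_37_2 lc_e_Cert_tree lc_e_Cert_tree lc_e_rc_34_0 lc_e_Cert_tree lc_e_rc_34_0 lc_e_rc_4_1 lc_e_Cert_tree lc_e_rc_34_0 lc_e_Cert_tree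 lc_e_rc_34_0 lc_e_rc_36_2 lc_e_Cert_tree lc_e_rc_34_0 lc_e_rc_28_3 lc_e_rc_34_0 lc_e_rc_37_2 lc_e_rc_35_2 lc_e_rc_39_2 lc_e_Cert_tree lc_e_rc_21_1 lc_e_rc_21_1 lc_e_rc_37_2 lc_e_rc_35_2 lc_e_rc_39_2 lc_e_rc_38_2 lc_e_rc_37_2 lc_e_rc_39_2 lc_e_rc_39_2 lc_e_rc_35_2 lc_e_rc_13_1) (@D3.rec (fun _ => (Cert rels S Gen.e)) lc_e_Cert_tree lc_e_rc_13_1 lc_e_rc_13_1 lc_e_Cert_tree lc_e_Cert_tree lc_e_rc_34_0 lc_e_rc_34_0 lc_e_rc_13_1 lc_e_rc_4_1 lc_e_rc_38_2 lc_e_rc_37_2 lc_e_rc_39_2 lc_e_rc_28_3 lc_e_rc_39_2 lc_e_rc_35_2 lc_e_rc_38_2 lc_e_rc_39_2 lc_e_rc_39_2 lc_e_rc_35_2 lc_e_rc_35_2 lc_e_Cert_tree lc_e_Cert_tree lc_e_Cert_tree lc_e_rc_34_0 lc_e_rc_4_1 lc_e_Cert_tree lc_e_Cert_tree lc_e_rc_34_0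 lc_e_Cert_tree lc_e_rc_34_0 lc_e_rc_36_2 lc_e_rc_4_1 lc_e_Cert_tree lc_e_Cert_tree lc_e_rc_34_0 lc_e_Cert_tree lc_e_rc_34_0 lc_e_rc_4_1 lc_e_rc_36_2 lc_e_rc_35_2 lc_e_rc_36_2 lc_e_rc_38_2 lc_e_rc_39_2 lc_e_rc_28_3 lc_e_rc_39_2 lc_e_rc_35_2 lc_e_rc_21_1 lc_e_rc_28_3 lc_e_rc_35_2 lc_e_Cert_tree lc_e_rc_39_2) (@D3.rec (fun _ => (Cert rels S Gen.e)) lc_e_rc_35_2 lc_e_rc_35_2 lc_e_Cert_tree lc_e_Cert_tree lc_e_Cert_tree lc_e_rc_34_0 lc_e_Cert_tree lc_e_rc_34_0 lc_e_Cert_tree lc_e_rc_34_0 lc_e_rc_36_2 lc_e_Cert_tree lc_e_Cert_tree lc_e_rc_34_0 lc_e_Cert_tree lc_e_rc_34_0 lc_e_rc_36_2 lc_e_Cert_tree lc_e_rc_34_0 lc_e_rc_21_1 lc_e_rc_37_2 lc_e_rc_38_2 lc_e_Cert_tree lc_e_rc_34_0 lc_e_Cert_tree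 lc_e_rc_34_0 lc_e_rc_36_2 lc_e_Cert_tree lc_e_rc_34_0 lc_e_rc_28_3 lc_e_Cert_tree lc_e_rc_34_0 lc_e_rc_36_2 lc_e_Cert_tree lc_e_rc_34_0 lc_e_rc_28_3 lc_e_rc_36_2 lc_e_rc_34_0 lc_e_rc_13_1 lc_e_rc_35_2 lc_e_rc_28_3 lc_e_rc_37_2 lc_e_rc_35_2 lc_e_rc_39_2 lc_e_rc_38_2 lc_e_rc_37_2 lc_e_rc_39_2 lc_e_rc_56_32 lc_e_rc_39_2 lc_e_rc_35_2 lc_e_rc_34_0) (@D3.rec (fun _ => (Cert rels S Gen.e)) lc_e_rc_39_2 lc_e_rc_21_1 lc_e_Cert_tree lc_e_rc_13_1 lc_e_rc_38_2 lc_e_rc_37_2 lc_e_rc_39_2 lc_e_rc_28_3 lc_e_rc_39_2 lc_e_rc_35_2 lc_e_rc_38_2 lc_e_rc_39_2 lc_e_rc_39_2 lc_e_rc_35_2 lc_e_rc_35_2 lc_e_Cert_tree lc_e_Cert_tree lc_e_Cert_tree lc_e_rc_34_0 lc_e_rc_13_1 lc_e_Cert_tree lc_e_Cert_tree lc_e_rc_34_0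 lc_e_Cert_tree lc_e_rc_34_0 lc_e_rc_36_2 lc_e_rc_28_3 lc_e_rc_21_1 lc_e_rc_13_1 lc_e_rc_4_1 lc_e_rc_35_2 lc_e_rc_4_1 lc_e_rc_38_2 lc_e_rc_39_2 lc_e_rc_28_3 lc_e_rc_39_2 lc_e_rc_35_2 lc_e_rc_21_1 lc_e_rc_28_3 lc_e_rc_35_2 lc_e_Cert_tree lc_e_rc_39_2 lc_e_rc_35_2 lc_e_rc_35_2 lc_e_Cert_tree lc_e_Cert_tree lc_e_Cert_tree lc_e_rc_34_0 lc_e_Cert_tree lc_e_rc_34_0 lc_e_Cert_tree) (@D3.rec (fun _ => (Cert rels S Gen.e)) lc_e_rc_34_0 lc_e_rc_36_2 lc_e_Cert_tree lc_e_Cert_tree lc_e_rc_34_0 lc_e_Cert_tree lc_e_rc_34_0 lc_e_rc_36_2 lc_e_Cert_tree lc_e_rc_34_0 lc_e_rc_21_1 lc_e_rc_37_2 lc_e_rc_4_1 lc_e_Cert_tree lc_e_rc_34_0 lc_e_Cert_tree lc_e_rc_34_0 lc_e_rc_36_2 lc_e_Cert_tree lc_e_rc_34_0 lc_e_rc_28_3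 lc_e_rc_37_2 lc_e_rc_35_2 lc_e_rc_36_2 lc_e_Cert_tree lc_e_rc_36_2 lc_e_rc_35_2 lc_e_rc_28_3 lc_e_rc_39_2 lc_e_rc_35_2 lc_e_rc_21_1 lc_e_rc_28_3 lc_e_rc_35_2 lc_e_Cert_tree lc_e_rc_13_1 lc_e_rc_21_1 lc_e_rc_35_2 lc_e_Cert_tree lc_e_Cert_tree lc_e_rc_34_0 lc_e_rc_35_2 lc_e_Cert_tree lc_e_Cert_tree lc_e_Cert_tree lc_e_rc_34_0 lc_e_Cert_tree lc_e_rc_34_0 lc_e_Cert_tree lc_e_rc_34_0 lc_e_rc_36_2 lc_e_Cert_tree) (@D3.rec (fun _ => (Cert rels S Gen.e)) lc_e_rc_34_0 lc_e_rc_36_2 lc_e_Cert_tree lc_e_rc_34_0 lc_e_rc_28_3 lc_e_rc_21_1 lc_e_rc_37_2 lc_e_Cert_tree lc_e_rc_34_0 lc_e_Cert_tree lc_e_rc_34_0 lc_e_rc_36_2 lc_e_Cert_tree lc_e_rc_34_0 lc_e_rc_28_3 lc_e_rc_21_1 lc_e_rc_37_2 lc_e_rc_34_0 lc_e_rc_13_1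 lc_e_rc_21_1 lc_e_rc_38_2 lc_e_Cert_tree lc_e_rc_34_0 lc_e_rc_36_2 lc_e_Cert_tree lc_e_rc_34_0 lc_e_rc_28_3 lc_e_rc_36_2 lc_e_rc_34_0 lc_e_rc_13_1 lc_e_rc_35_2 lc_e_Cert_tree lc_e_rc_34_0 lc_e_rc_28_3 lc_e_rc_36_2 lc_e_rc_37_2 lc_e_rc_34_0 lc_e_rc_13_1 lc_e_rc_13_1 lc_e_Cert_tree lc_e_rc_35_2 lc_e_rc_4_1 lc_e_rc_28_3 lc_e_rc_28_3 lc_e_rc_21_1 lc_e_rc_38_2 lc_e_rc_37_2 lc_e_rc_39_2 lc_e_rc_39_2 lc_e_rc_35_2 lc_e_rc_38_2) (@D3.rec (fun _ => (Cert rels S Gen.e)) lc_e_rc_39_2 lc_e_rc_37_2 lc_e_rc_39_2 lc_e_rc_35_2 lc_e_rc_39_2 lc_e_rc_35_2 lc_e_Cert_tree lc_e_rc_39_2 lc_e_rc_35_2 lc_e_Cert_tree lc_e_Cert_tree lc_e_rc_34_0 lc_e_rc_13_1 lc_e_rc_35_2 lc_e_rc_13_1 lc_e_rc_38_2 lc_e_rc_39_2 lc_e_rc_28_3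 lc_e_rc_39_2 lc_e_rc_35_2 lc_e_rc_28_3 lc_e_rc_35_2 lc_e_Cert_tree lc_e_rc_39_2 lc_e_rc_35_2 lc_e_rc_35_2 lc_e_Cert_tree lc_e_Cert_tree lc_e_Cert_tree lc_e_rc_34_0 lc_e_Cert_tree lc_e_rc_34_0 lc_e_Cert_tree lc_e_rc_34_0 lc_e_rc_36_2 lc_e_Cert_tree lc_e_Cert_tree lc_e_rc_34_0 lc_e_Cert_tree lc_e_rc_34_0 lc_e_rc_36_2 lc_e_Cert_tree lc_e_rc_34_0 lc_e_rc_28_3 lc_e_rc_21_1 lc_e_rc_37_2 lc_e_Cert_tree lc_e_rc_35_2 lc_e_rc_21_1 lc_e_rc_13_1 lc_e_rc_4_1) (@D3.rec (fun _ => (Cert rels S Gen.e)) lc_e_rc_35_2 lc_e_rc_4_1 lc_e_Cert_tree lc_e_rc_36_2 lc_e_rc_35_2 lc_e_rc_28_3 lc_e_rc_39_2 lc_e_rc_35_2 lc_e_rc_21_1 lc_e_rc_28_3 lc_e_rc_35_2 lc_e_Cert_tree lc_e_rc_21_1 lc_e_rc_35_2 lc_e_Cert_tree lc_e_Cert_tree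 lc_e_rc_34_0 lc_e_rc_35_2 lc_e_Cert_tree lc_e_Cert_tree lc_e_Cert_tree lc_e_rc_34_0 lc_e_Cert_tree lc_e_rc_34_0 lc_e_Cert_tree lc_e_rc_34_0 lc_e_rc_36_2 lc_e_Cert_tree lc_e_rc_34_0 lc_e_rc_36_2 lc_e_Cert_tree lc_e_rc_34_0 lc_e_rc_28_3 lc_e_rc_21_1 lc_e_rc_37_2 lc_e_Cert_tree lc_e_rc_34_0 lc_e_Cert_tree lc_e_rc_34_0 lc_e_rc_36_2 lc_e_Cert_tree lc_e_rc_34_0 lc_e_rc_28_3 lc_e_rc_21_1 lc_e_rc_37_2 lc_e_rc_34_0 lc_e_rc_13_1 lc_e_rc_21_1 lc_e_rc_38_2 lc_e_Cert_tree lc_e_rc_34_0) (@D3.rec (fun _ => (Cert rels S Gen.e)) lc_e_rc_36_2 lc_e_Cert_tree lc_e_rc_34_0 lc_e_rc_28_3 lc_e_rc_36_2 lc_e_rc_34_0 lc_e_rc_13_1 lc_e_rc_35_2 lc_e_rc_35_2 lc_e_rc_37_2 lc_e_Cert_tree lc_e_rc_36_2 lc_e_rc_35_2 lc_e_Cert_tree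 lc_e_rc_34_0 lc_e_rc_39_2 lc_e_rc_36_2 lc_e_Cert_tree lc_e_rc_21_1 lc_e_rc_28_3 lc_e_rc_35_2 lc_e_Cert_tree lc_e_rc_13_1 lc_e_rc_21_1 lc_e_rc_35_2 lc_e_Cert_tree lc_e_Cert_tree lc_e_rc_34_0 lc_e_Cert_tree lc_e_Cert_tree lc_e_rc_34_0 lc_e_Cert_tree lc_e_rc_34_0 lc_e_rc_36_2 lc_e_Cert_tree lc_e_Cert_tree lc_e_rc_34_0 lc_e_Cert_tree lc_e_rc_34_0 lc_e_Cert_tree lc_e_rc_34_0 lc_e_rc_36_2 lc_e_Cert_tree lc_e_rc_34_0 lc_e_rc_36_2 lc_e_Cert_tree lc_e_rc_34_0 lc_e_rc_28_3 lc_e_rc_21_1 lc_e_rc_37_2 lc_e_Cert_tree) (@D3.rec (fun _ => (Cert rels S Gen.e)) lc_e_rc_34_0 lc_e_rc_28_3 lc_e_rc_21_1 lc_e_rc_37_2 lc_e_rc_34_0 lc_e_rc_28_3 lc_e_rc_13_1 lc_e_Cert_tree lc_e_rc_21_1 lc_e_rc_38_2 lc_e_Cert_tree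 lc_e_rc_34_0 lc_e_rc_36_2 lc_e_Cert_tree lc_e_rc_34_0 lc_e_rc_28_3 lc_e_rc_36_2 lc_e_rc_36_2 lc_e_rc_34_0 lc_e_rc_13_1 lc_e_rc_13_1 lc_e_rc_28_3 lc_e_rc_35_2 lc_e_rc_21_1 lc_e_rc_38_2 lc_e_rc_4_1 lc_e_rc_13_1 lc_e_rc_21_1 lc_e_Cert_tree lc_e_rc_34_0 lc_e_rc_28_3 lc_e_rc_36_2 lc_e_rc_37_2 lc_e_rc_34_0 lc_e_rc_13_1 lc_e_rc_13_1 lc_e_Cert_tree lc_e_rc_35_2 lc_e_rc_4_1 lc_e_rc_34_0 lc_e_rc_13_1 lc_e_rc_13_1 lc_e_Cert_tree lc_e_rc_35_2 lc_e_rc_37_2 lc_e_rc_4_1 lc_e_rc_4_1 lc_e_Cert_tree lc_e_rc_34_0 lc_e_rc_35_2 lc_e_Cert_tree) (@D3.rec (fun _ => (Cert rels S Gen.e)) lc_e_rc_28_3 lc_e_rc_28_3 lc_e_rc_35_2 lc_e_rc_21_1 lc_e_rc_35_2 lc_e_rc_21_1 lc_e_rc_38_2 lc_e_rc_39_2 lc_e_rc_39_2 lc_e_rc_35_2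 lc_e_rc_35_2 lc_e_Cert_tree lc_e_rc_38_2 lc_e_rc_39_2 lc_e_rc_35_2 lc_e_rc_39_2 lc_e_rc_35_2 lc_e_Cert_tree lc_e_rc_35_2 lc_e_Cert_tree lc_e_Cert_tree lc_e_rc_34_0 lc_e_rc_35_2 lc_e_Cert_tree lc_e_Cert_tree lc_e_rc_34_0 lc_e_Cert_tree lc_e_rc_34_0 lc_e_rc_36_2 lc_e_rc_13_1 lc_e_rc_35_2 lc_e_rc_13_1 lc_e_Cert_tree lc_e_rc_36_2 lc_e_rc_35_2 lc_e_rc_28_3 lc_e_rc_39_2 lc_e_rc_35_2 lc_e_rc_28_3 lc_e_rc_35_2 lc_e_Cert_tree lc_e_rc_35_2 lc_e_Cert_tree lc_e_Cert_tree lc_e_rc_34_0 lc_e_rc_35_2 lc_e_Cert_tree lc_e_Cert_tree lc_e_Cert_tree lc_e_rc_34_0 lc_e_Cert_tree) (@D3.rec (fun _ => (Cert rels S Gen.e)) lc_e_rc_34_0 lc_e_Cert_tree lc_e_rc_34_0 lc_e_rc_36_2 lc_e_Cert_tree lc_e_rc_34_0 lc_e_rc_36_2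 lc_e_Cert_tree lc_e_rc_34_0 lc_e_rc_28_3 lc_e_rc_21_1 lc_e_rc_37_2 lc_e_Cert_tree lc_e_rc_34_0 lc_e_Cert_tree lc_e_rc_34_0 lc_e_rc_36_2 lc_e_Cert_tree lc_e_rc_34_0 lc_e_rc_28_3 lc_e_rc_21_1 lc_e_rc_37_2 lc_e_rc_34_0 lc_e_rc_13_1 lc_e_rc_13_1 lc_e_Cert_tree lc_e_rc_35_2 lc_e_rc_21_1 lc_e_rc_38_2 lc_e_rc_34_0 lc_e_rc_37_2 lc_e_rc_35_2 lc_e_rc_39_2 lc_e_rc_21_1 lc_e_rc_35_2 lc_e_rc_4_1 lc_e_Cert_tree lc_e_rc_36_2 lc_e_rc_35_2 lc_e_Cert_tree lc_e_rc_34_0 lc_e_rc_39_2 lc_e_rc_36_2 lc_e_Cert_tree lc_e_rc_21_1 lc_e_rc_28_3 lc_e_rc_35_2 lc_e_Cert_tree lc_e_rc_21_1 lc_e_rc_35_2 lc_e_Cert_tree) (@D3.rec (fun _ => (Cert rels S Gen.e)) lc_e_Cert_tree lc_e_rc_34_0 lc_e_Cert_tree lc_e_Cert_tree lc_e_rc_34_0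 lc_e_Cert_tree lc_e_rc_34_0 lc_e_rc_36_2 lc_e_Cert_tree lc_e_Cert_tree lc_e_rc_34_0 lc_e_Cert_tree lc_e_rc_34_0 lc_e_Cert_tree lc_e_rc_34_0 lc_e_rc_36_2 lc_e_Cert_tree lc_e_rc_34_0 lc_e_rc_36_2 lc_e_Cert_tree lc_e_rc_34_0 lc_e_rc_28_3 lc_e_rc_21_1 lc_e_rc_37_2 lc_e_Cert_tree lc_e_rc_34_0 lc_e_rc_28_3 lc_e_rc_21_1 lc_e_rc_37_2 lc_e_rc_34_0 lc_e_rc_28_3 lc_e_rc_13_1 lc_e_Cert_tree lc_e_rc_21_1 lc_e_rc_38_2 lc_e_Cert_tree lc_e_rc_34_0 lc_e_rc_36_2 lc_e_Cert_tree lc_e_rc_34_0 lc_e_rc_28_3 lc_e_rc_36_2 lc_e_rc_36_2 lc_e_rc_34_0 lc_e_rc_13_1 lc_e_rc_13_1 lc_e_rc_28_3 lc_e_rc_35_2 lc_e_rc_21_1 lc_e_rc_38_2 lc_e_rc_4_1) (@D3.rec (fun _ => (Cert rels S Gen.e)) lc_e_rc_13_1 lc_e_rc_21_1 lc_e_Cert_tree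 lc_e_rc_34_0 lc_e_rc_28_3 lc_e_rc_36_2 lc_e_rc_37_2 lc_e_rc_34_0 lc_e_rc_13_1 lc_e_rc_13_1 lc_e_Cert_tree lc_e_rc_35_2 lc_e_rc_4_1 lc_e_rc_21_1 lc_e_rc_13_1 lc_e_rc_39_2 lc_e_Cert_tree lc_e_rc_37_2 lc_e_rc_35_2 lc_e_Cert_tree lc_e_rc_34_0 lc_e_rc_39_2 lc_e_rc_36_2 lc_e_Cert_tree lc_e_Cert_tree lc_e_rc_34_0 lc_e_rc_39_2 lc_e_rc_39_2 lc_e_rc_35_2 lc_e_Cert_tree lc_e_Cert_tree lc_e_rc_34_0 lc_e_rc_13_1 lc_e_rc_21_1 lc_e_rc_35_2 lc_e_Cert_tree lc_e_Cert_tree lc_e_rc_34_0 lc_e_Cert_tree lc_e_Cert_tree lc_e_rc_34_0 lc_e_Cert_tree lc_e_rc_34_0 lc_e_rc_36_2 lc_e_rc_34_0 lc_e_rc_34_0 lc_e_rc_36_2 lc_e_rc_34_0 lc_e_rc_28_3 lc_e_rc_21_1 lc_e_rc_37_2) (@D3.rec (fun _ => (Cert rels S Gen.e)) lc_e_Cert_tree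 lc_e_rc_34_0 lc_e_Cert_tree lc_e_rc_34_0 lc_e_rc_36_2 lc_e_Cert_tree lc_e_rc_34_0 lc_e_rc_36_2 lc_e_Cert_tree lc_e_rc_34_0 lc_e_rc_28_3 lc_e_rc_21_1 lc_e_rc_37_2 lc_e_Cert_tree lc_e_rc_34_0 lc_e_rc_28_3 lc_e_rc_21_1 lc_e_rc_37_2 lc_e_rc_34_0 lc_e_rc_28_3 lc_e_rc_13_1 lc_e_Cert_tree lc_e_rc_35_2 lc_e_rc_21_1 lc_e_rc_38_2 lc_e_rc_34_0 lc_e_rc_28_3 lc_e_rc_13_1 lc_e_Cert_tree lc_e_rc_35_2 lc_e_rc_21_1 lc_e_rc_38_2 lc_e_rc_4_1 lc_e_rc_4_1 lc_e_rc_21_1 lc_e_Cert_tree lc_e_rc_13_1 lc_e_rc_34_0 lc_e_rc_37_2 lc_e_rc_21_1 lc_e_Cert_tree lc_e_rc_34_0 lc_e_rc_28_3 lc_e_rc_36_2 lc_e_rc_37_2 lc_e_rc_34_0 lc_e_rc_13_1 lc_e_rc_13_1 lc_e_Cert_tree lc_e_rc_35_2 lc_e_rc_36_2) (@D3.rec (fun _ => (Cert rels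 S Gen.e)) lc_e_rc_36_2 lc_e_rc_4_1 lc_e_rc_4_1 lc_e_rc_13_1 lc_e_rc_13_1 lc_e_rc_28_3 lc_e_rc_35_2 lc_e_rc_21_1 lc_e_rc_4_1 lc_e_rc_13_1 lc_e_rc_34_0 lc_e_rc_13_1 lc_e_rc_13_1 lc_e_Cert_tree lc_e_rc_35_2 lc_e_rc_37_2 lc_e_rc_4_1 lc_e_rc_4_1 lc_e_Cert_tree lc_e_rc_34_0 lc_e_rc_35_2 lc_e_rc_4_1 lc_e_rc_4_1 lc_e_Cert_tree lc_e_rc_13_1 lc_e_rc_34_0 lc_e_rc_37_2 lc_e_rc_35_2 lc_e_Cert_tree lc_e_rc_34_0 lc_e_rc_35_2 lc_e_rc_34_0 lc_e_rc_38_2 lc_e_rc_39_2 lc_e_rc_28_3 lc_e_rc_35_2 lc_e_Cert_tree lc_e_rc_21_1 lc_e_rc_35_2 lc_e_rc_21_1 lc_e_rc_36_2 lc_e_rc_35_2 lc_e_rc_39_2 lc_e_rc_35_2 lc_e_rc_35_2 lc_e_Cert_tree lc_e_Cert_tree lc_e_Cert_tree lc_e_rc_34_0 lc_e_rc_39_2 lc_e_rc_35_2) (@D3.rec (fun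 _ => (Cert rels S Gen.e)) lc_e_Cert_tree lc_e_rc_35_2 lc_e_Cert_tree lc_e_Cert_tree lc_e_rc_34_0 lc_e_Cert_tree lc_e_Cert_tree lc_e_rc_34_0 lc_e_Cert_tree lc_e_rc_34_0 lc_e_rc_36_2 lc_e_Cert_tree lc_e_Cert_tree lc_e_rc_34_0 lc_e_Cert_tree lc_e_rc_34_0 lc_e_rc_36_2 lc_e_Cert_tree lc_e_rc_34_0 lc_e_rc_28_3 lc_e_rc_21_1 lc_e_rc_37_2 lc_e_rc_35_2 lc_e_rc_13_1 lc_e_Cert_tree lc_e_rc_36_2 lc_e_rc_35_2 lc_e_rc_34_0 lc_e_rc_39_2 lc_e_rc_36_2 lc_e_Cert_tree lc_e_rc_28_3 lc_e_rc_35_2 lc_e_Cert_tree lc_e_rc_35_2 lc_e_Cert_tree lc_e_Cert_tree lc_e_rc_34_0 lc_e_Cert_tree lc_e_Cert_tree lc_e_rc_34_0 lc_e_Cert_tree lc_e_rc_34_0 lc_e_rc_36_2 lc_e_Cert_tree lc_e_Cert_tree lc_e_rc_34_0 lc_e_Cert_tree lc_e_rc_34_0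 lc_e_Cert_tree lc_e_rc_34_0) (@D3.rec (fun _ => (Cert rels S Gen.e)) lc_e_rc_36_2 lc_e_Cert_tree lc_e_rc_34_0 lc_e_rc_36_2 lc_e_Cert_tree lc_e_rc_34_0 lc_e_rc_28_3 lc_e_rc_21_1 lc_e_rc_37_2 lc_e_Cert_tree lc_e_rc_34_0 lc_e_rc_28_3 lc_e_rc_21_1 lc_e_rc_37_2 lc_e_rc_34_0 lc_e_rc_13_1 lc_e_rc_13_1 lc_e_Cert_tree lc_e_rc_35_2 lc_e_rc_21_1 lc_e_rc_38_2 lc_e_Cert_tree lc_e_rc_34_0 lc_e_rc_36_2 lc_e_Cert_tree lc_e_rc_34_0 lc_e_rc_28_3 lc_e_rc_36_2 lc_e_rc_36_2 lc_e_rc_34_0 lc_e_rc_13_1 lc_e_rc_13_1 lc_e_Cert_tree lc_e_rc_35_2 lc_e_rc_21_1 lc_e_rc_38_2 lc_e_rc_4_1 lc_e_rc_4_1 lc_e_Cert_tree lc_e_rc_13_1 lc_e_rc_13_1 lc_e_rc_34_0 lc_e_rc_37_2 lc_e_rc_35_2 lc_e_rc_39_2 lc_e_rc_21_1 lc_e_rc_37_2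 lc_e_rc_35_2 lc_e_rc_38_2 lc_e_rc_37_2 lc_e_rc_39_2) (@D3.rec (fun _ => (Cert rels S Gen.e)) lc_e_Cert_tree lc_e_rc_37_2 lc_e_rc_35_2 lc_e_Cert_tree lc_e_rc_34_0 lc_e_rc_39_2 lc_e_rc_36_2 lc_e_Cert_tree lc_e_rc_34_0 lc_e_rc_39_2 lc_e_rc_39_2 lc_e_rc_35_2 lc_e_Cert_tree lc_e_Cert_tree lc_e_rc_34_0 lc_e_rc_21_1 lc_e_rc_35_2 lc_e_Cert_tree lc_e_Cert_tree lc_e_rc_34_0 lc_e_Cert_tree lc_e_Cert_tree lc_e_rc_34_0 lc_e_Cert_tree lc_e_rc_34_0 lc_e_rc_36_2 lc_e_rc_34_0 lc_e_Cert_tree lc_e_rc_34_0 lc_e_rc_36_2 lc_e_Cert_tree lc_e_rc_34_0 lc_e_rc_28_3 lc_e_rc_21_1 lc_e_rc_37_2 lc_e_Cert_tree lc_e_rc_34_0 lc_e_Cert_tree lc_e_rc_34_0 lc_e_rc_36_2 lc_e_Cert_tree lc_e_rc_34_0 lc_e_rc_36_2 lc_e_Cert_tree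 lc_e_rc_34_0 lc_e_rc_28_3 lc_e_rc_21_1 lc_e_rc_37_2 lc_e_Cert_tree lc_e_rc_34_0 lc_e_rc_28_3) (@D3.rec (fun _ => (Cert rels S Gen.e)) lc_e_rc_21_1 lc_e_rc_37_2 lc_e_rc_34_0 lc_e_rc_28_3 lc_e_rc_13_1 lc_e_Cert_tree lc_e_rc_35_2 lc_e_rc_21_1 lc_e_rc_38_2 lc_e_rc_34_0 lc_e_rc_28_3 lc_e_rc_13_1 lc_e_Cert_tree lc_e_rc_35_2 lc_e_rc_21_1 lc_e_rc_38_2 lc_e_rc_4_1 lc_e_rc_4_1 lc_e_rc_21_1 lc_e_Cert_tree lc_e_rc_13_1 lc_e_rc_34_0 lc_e_rc_37_2 lc_e_rc_21_1 lc_e_Cert_tree lc_e_rc_34_0 lc_e_rc_28_3 lc_e_rc_36_2 lc_e_rc_37_2 lc_e_rc_34_0 lc_e_rc_13_1 lc_e_rc_13_1 lc_e_Cert_tree lc_e_rc_35_2 lc_e_rc_36_2 lc_e_rc_36_2 lc_e_rc_4_1 lc_e_rc_4_1 lc_e_rc_21_1 lc_e_rc_13_1 lc_e_rc_13_1 lc_e_rc_13_1 lc_e_rc_28_3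 lc_e_rc_35_2 lc_e_rc_39_2 lc_e_rc_21_1 lc_e_rc_4_1 lc_e_rc_13_1 lc_e_rc_34_0 lc_e_rc_13_1 lc_e_rc_13_1) (@D3.rec (fun _ => (Cert rels S Gen.e)) lc_e_Cert_tree lc_e_rc_35_2 lc_e_rc_37_2 lc_e_rc_4_1 lc_e_rc_4_1 lc_e_rc_21_1 lc_e_Cert_tree lc_e_rc_13_1 lc_e_rc_34_0 lc_e_rc_35_2 lc_e_rc_39_2 lc_e_rc_4_1 lc_e_rc_21_1 lc_e_Cert_tree lc_e_rc_34_0 lc_e_rc_39_2 lc_e_rc_37_2 lc_e_Cert_tree lc_e_Cert_tree lc_e_rc_34_0 lc_e_rc_39_2 lc_e_rc_39_2 lc_e_rc_35_2 lc_e_Cert_tree lc_e_Cert_tree lc_e_rc_34_0 lc_e_rc_34_0 lc_e_rc_28_3 lc_e_rc_39_2 lc_e_rc_35_2 lc_e_Cert_tree lc_e_Cert_tree lc_e_rc_34_0 lc_e_Cert_tree lc_e_rc_34_0 lc_e_rc_36_2 lc_e_Cert_tree lc_e_Cert_tree lc_e_rc_34_0 lc_e_Cert_tree lc_e_rc_34_0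 lc_e_rc_36_2 lc_e_rc_34_0 lc_e_rc_34_0 lc_e_rc_36_2 lc_e_rc_34_0 lc_e_rc_28_3 lc_e_rc_21_1 lc_e_rc_37_2 lc_e_rc_35_2 lc_e_rc_28_3) (@D3.rec (fun _ => (Cert rels S Gen.e)) lc_e_rc_21_1 lc_e_rc_37_2 lc_e_rc_13_1 lc_e_rc_13_1 lc_e_Cert_tree lc_e_rc_35_2 lc_e_rc_21_1 lc_e_rc_38_2 lc_e_Cert_tree lc_e_rc_34_0 lc_e_rc_36_2 lc_e_Cert_tree lc_e_rc_34_0 lc_e_rc_28_3 lc_e_rc_21_1 lc_e_rc_37_2 lc_e_Cert_tree lc_e_rc_34_0 lc_e_rc_28_3 lc_e_rc_21_1 lc_e_rc_37_2 lc_e_rc_34_0 lc_e_rc_28_3 lc_e_rc_35_2 lc_e_Cert_tree lc_e_rc_35_2 lc_e_rc_21_1 lc_e_rc_38_2 lc_e_rc_34_0 lc_e_rc_28_3 lc_e_rc_13_1 lc_e_Cert_tree lc_e_rc_35_2 lc_e_rc_21_1 lc_e_rc_38_2 lc_e_rc_4_1 lc_e_rc_4_1 lc_e_Cert_tree lc_e_rc_13_1 lc_e_rc_34_0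 lc_e_rc_37_2 lc_e_rc_35_2 lc_e_rc_21_1 lc_e_rc_4_1 lc_e_rc_4_1 lc_e_rc_21_1 lc_e_Cert_tree lc_e_rc_35_2 lc_e_rc_13_1 lc_e_rc_34_0 lc_e_rc_37_2) (@D3.rec (fun _ => (Cert rels S Gen.e)) lc_e_rc_35_2 lc_e_rc_21_1 lc_e_rc_21_1 lc_e_Cert_tree lc_e_rc_4_1 lc_e_Cert_tree lc_e_rc_34_0 lc_e_rc_37_2 lc_e_rc_13_1 lc_e_rc_37_2 lc_e_rc_38_2 lc_e_rc_34_0 lc_e_rc_13_1 lc_e_rc_13_1 lc_e_Cert_tree lc_e_rc_35_2 lc_e_rc_37_2 lc_e_rc_37_2 lc_e_rc_4_1 lc_e_rc_4_1 lc_e_Cert_tree lc_e_rc_13_1 lc_e_rc_34_0 lc_e_rc_37_2 lc_e_rc_35_2 lc_e_rc_36_2 lc_e_rc_4_1 lc_e_rc_4_1 lc_e_rc_13_1 lc_e_rc_13_1 lc_e_rc_28_3 lc_e_rc_35_2 lc_e_rc_4_1 lc_e_rc_4_1 lc_e_rc_4_1 lc_e_Cert_tree lc_e_rc_13_1 lc_e_rc_34_0 lc_e_rc_37_2 lc_e_rc_35_2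 lc_e_Cert_tree lc_e_rc_34_0 lc_e_rc_35_2 lc_e_Cert_tree lc_e_rc_4_1 lc_e_rc_34_0 lc_e_rc_37_2 lc_e_rc_37_2 lc_e_rc_35_2 lc_e_rc_37_2 lc_e_rc_34_0)
def ce_e_1 : D2 → D3 → (Cert rels S Gen.e) := @D2.rec (fun _ => D3 → (Cert rels S Gen.e)) (@D3.rec (fun _ => (Cert rels S Gen.e)) lc_e_rc_28_3 lc_e_rc_38_2 lc_e_rc_39_2 lc_e_rc_37_2 lc_e_rc_39_2 lc_e_rc_35_2 lc_e_rc_35_2 lc_e_Cert_tree lc_e_Cert_tree lc_e_rc_34_0 lc_e_rc_35_2 lc_e_rc_21_1 lc_e_rc_36_2 lc_e_rc_35_2 lc_e_rc_36_2 lc_e_Cert_tree lc_e_rc_35_2 lc_e_Cert_tree lc_e_Cert_tree lc_e_Cert_tree lc_e_rc_34_0 lc_e_Cert_tree lc_e_rc_34_0 lc_e_Cert_tree lc_e_rc_34_0 lc_e_rc_36_2 lc_e_rc_35_2 lc_e_Cert_tree lc_e_Cert_tree lc_e_rc_34_0 lc_e_Cert_tree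 lc_e_Cert_tree lc_e_rc_34_0 lc_e_Cert_tree lc_e_rc_34_0 lc_e_rc_36_2 lc_e_Cert_tree lc_e_rc_34_0 lc_e_Cert_tree lc_e_rc_34_0 lc_e_rc_36_2 lc_e_Cert_tree lc_e_rc_34_0 lc_e_rc_28_3 lc_e_rc_21_1 lc_e_rc_37_2 lc_e_Cert_tree lc_e_rc_34_0 lc_e_Cert_tree lc_e_rc_34_0 lc_e_rc_36_2) (@D3.rec (fun _ => (Cert rels S Gen.e)) lc_e_Cert_tree lc_e_rc_34_0 lc_e_rc_28_3 lc_e_rc_21_1 lc_e_rc_37_2 lc_e_rc_34_0 lc_e_rc_13_1 lc_e_rc_13_1 lc_e_Cert_tree lc_e_rc_35_2 lc_e_rc_21_1 lc_e_rc_38_2 lc_e_Cert_tree lc_e_rc_37_2 lc_e_rc_35_2 lc_e_rc_34_0 lc_e_rc_39_2 lc_e_rc_36_2 lc_e_Cert_tree lc_e_rc_39_2 lc_e_rc_35_2 lc_e_Cert_tree lc_e_Cert_tree lc_e_rc_34_0 lc_e_rc_35_2 lc_e_Cert_tree lc_e_Cert_tree lc_e_rc_34_0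 lc_e_Cert_tree lc_e_Cert_tree lc_e_rc_34_0 lc_e_Cert_tree lc_e_rc_34_0 lc_e_rc_36_2 lc_e_Cert_tree lc_e_rc_34_0 lc_e_Cert_tree lc_e_rc_34_0 lc_e_rc_36_2 lc_e_Cert_tree lc_e_rc_34_0 lc_e_rc_28_3 lc_e_rc_21_1 lc_e_rc_37_2 lc_e_Cert_tree lc_e_rc_34_0 lc_e_Cert_tree lc_e_rc_34_0 lc_e_rc_36_2 lc_e_Cert_tree lc_e_rc_34_0) (@D3.rec (fun _ => (Cert rels S Gen.e)) lc_e_rc_36_2 lc_e_Cert_tree lc_e_rc_34_0 lc_e_rc_28_3 lc_e_rc_21_1 lc_e_rc_37_2 lc_e_Cert_tree lc_e_rc_34_0 lc_e_rc_28_3 lc_e_rc_21_1 lc_e_rc_37_2 lc_e_rc_34_0 lc_e_rc_13_1 lc_e_rc_13_1 lc_e_Cert_tree lc_e_rc_35_2 lc_e_rc_21_1 lc_e_rc_38_2 lc_e_rc_34_0 lc_e_rc_13_1 lc_e_rc_13_1 lc_e_Cert_tree lc_e_rc_35_2 lc_e_rc_21_1 lc_e_rc_38_2 lc_e_rc_4_1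 lc_e_rc_4_1 lc_e_rc_21_1 lc_e_Cert_tree lc_e_rc_13_1 lc_e_rc_13_1 lc_e_rc_34_0 lc_e_rc_37_2 lc_e_rc_35_2 lc_e_rc_39_2 lc_e_rc_21_1 lc_e_Cert_tree lc_e_rc_34_0 lc_e_rc_28_3 lc_e_rc_36_2 lc_e_rc_37_2 lc_e_rc_34_0 lc_e_rc_13_1 lc_e_rc_13_1 lc_e_Cert_tree lc_e_rc_35_2 lc_e_rc_36_2 lc_e_rc_36_2 lc_e_rc_4_1 lc_e_rc_4_1 lc_e_rc_21_1) (@D3.rec (fun _ => (Cert rels S Gen.e)) lc_e_Cert_tree lc_e_rc_13_1 lc_e_rc_13_1 lc_e_rc_34_0 lc_e_rc_37_2 lc_e_rc_35_2 lc_e_rc_39_2 lc_e_rc_21_1 lc_e_Cert_tree lc_e_rc_4_1 lc_e_rc_4_1 lc_e_rc_34_0 lc_e_rc_37_2 lc_e_rc_35_2 lc_e_rc_13_1 lc_e_rc_13_1 lc_e_rc_37_2 lc_e_rc_35_2 lc_e_rc_38_2 lc_e_rc_37_2 lc_e_rc_39_2 lc_e_rc_36_2 lc_e_rc_38_2 lc_e_rc_37_2 lc_e_rc_28_3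 lc_e_rc_39_2 lc_e_rc_38_2 lc_e_rc_39_2 lc_e_Cert_tree lc_e_rc_34_0 lc_e_rc_39_2 lc_e_rc_37_2 lc_e_Cert_tree lc_e_rc_34_0 lc_e_rc_39_2 lc_e_rc_39_2 lc_e_rc_35_2 lc_e_Cert_tree lc_e_Cert_tree lc_e_rc_34_0 lc_e_rc_28_3 lc_e_rc_39_2 lc_e_rc_35_2 lc_e_Cert_tree lc_e_Cert_tree lc_e_rc_34_0 lc_e_Cert_tree lc_e_rc_34_0 lc_e_rc_36_2 lc_e_Cert_tree lc_e_Cert_tree) (@D3.rec (fun _ => (Cert rels S Gen.e)) lc_e_rc_34_0 lc_e_Cert_tree lc_e_rc_34_0 lc_e_rc_36_2 lc_e_rc_34_0 lc_e_Cert_tree lc_e_rc_34_0 lc_e_rc_36_2 lc_e_Cert_tree lc_e_rc_34_0 lc_e_rc_28_3 lc_e_rc_21_1 lc_e_rc_37_2 lc_e_rc_35_2 lc_e_rc_34_0 lc_e_rc_28_3 lc_e_rc_21_1 lc_e_rc_37_2 lc_e_rc_34_0 lc_e_rc_13_1 lc_e_rc_13_1 lc_e_Cert_tree lc_e_rc_35_2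 lc_e_rc_21_1 lc_e_rc_38_2 lc_e_Cert_tree lc_e_rc_34_0 lc_e_rc_36_2 lc_e_Cert_tree lc_e_rc_34_0 lc_e_rc_28_3 lc_e_rc_21_1 lc_e_rc_37_2 lc_e_Cert_tree lc_e_rc_34_0 lc_e_rc_28_3 lc_e_rc_21_1 lc_e_rc_37_2 lc_e_rc_34_0 lc_e_rc_28_3 lc_e_rc_35_2 lc_e_Cert_tree lc_e_rc_35_2 lc_e_rc_21_1 lc_e_rc_38_2 lc_e_rc_34_0 lc_e_rc_28_3 lc_e_rc_13_1 lc_e_Cert_tree lc_e_rc_35_2 lc_e_rc_21_1) (@D3.rec (fun _ => (Cert rels S Gen.e)) lc_e_rc_38_2 lc_e_rc_4_1 lc_e_rc_4_1 lc_e_rc_21_1 lc_e_Cert_tree lc_e_rc_35_2 lc_e_rc_13_1 lc_e_rc_34_0 lc_e_rc_37_2 lc_e_rc_35_2 lc_e_rc_39_2 lc_e_rc_21_1 lc_e_rc_4_1 lc_e_rc_4_1 lc_e_rc_21_1 lc_e_Cert_tree lc_e_rc_35_2 lc_e_rc_13_1 lc_e_rc_34_0 lc_e_rc_37_2 lc_e_rc_35_2 lc_e_rc_21_1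 lc_e_rc_21_1 lc_e_Cert_tree lc_e_rc_4_1 lc_e_Cert_tree lc_e_rc_34_0 lc_e_rc_37_2 lc_e_rc_13_1 lc_e_rc_37_2 lc_e_rc_38_2 lc_e_rc_34_0 lc_e_rc_13_1 lc_e_rc_13_1 lc_e_Cert_tree lc_e_rc_35_2 lc_e_rc_37_2 lc_e_rc_37_2 lc_e_rc_4_1 lc_e_rc_4_1 lc_e_rc_21_1 lc_e_Cert_tree lc_e_rc_13_1 lc_e_rc_13_1 lc_e_rc_34_0 lc_e_rc_37_2 lc_e_rc_35_2 lc_e_rc_39_2 lc_e_rc_36_2 lc_e_rc_4_1 lc_e_rc_4_1) (@D3.rec (fun _ => (Cert rels S Gen.e)) lc_e_rc_4_1 lc_e_rc_21_1 lc_e_rc_21_1 lc_e_rc_13_1 lc_e_rc_13_1 lc_e_rc_13_1 lc_e_rc_28_3 lc_e_rc_35_2 lc_e_rc_39_2 lc_e_rc_4_1 lc_e_rc_4_1 lc_e_rc_4_1 lc_e_rc_21_1 lc_e_Cert_tree lc_e_rc_13_1 lc_e_rc_13_1 lc_e_rc_34_0 lc_e_rc_37_2 lc_e_rc_35_2 lc_e_rc_39_2 lc_e_rc_4_1 lc_e_Cert_tree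 lc_e_Cert_tree lc_e_rc_21_1 lc_e_rc_34_0 lc_e_rc_35_2 lc_e_rc_35_2 lc_e_rc_39_2 lc_e_Cert_tree lc_e_Cert_tree lc_e_rc_34_0 lc_e_rc_39_2 lc_e_rc_36_2 lc_e_rc_39_2 lc_e_rc_35_2 lc_e_Cert_tree lc_e_Cert_tree lc_e_rc_34_0 lc_e_rc_34_0 lc_e_rc_28_3 lc_e_rc_39_2 lc_e_rc_35_2 lc_e_Cert_tree lc_e_Cert_tree lc_e_rc_34_0 lc_e_Cert_tree lc_e_rc_34_0 lc_e_rc_36_2 lc_e_rc_13_1 lc_e_rc_35_2 lc_e_rc_28_3) (@D3.rec (fun _ => (Cert rels S Gen.e)) lc_e_Cert_tree lc_e_rc_34_0 lc_e_rc_34_0 lc_e_rc_36_2 lc_e_rc_34_0 lc_e_rc_28_3 lc_e_rc_21_1 lc_e_rc_37_2 lc_e_rc_34_0 lc_e_rc_34_0 lc_e_rc_36_2 lc_e_rc_34_0 lc_e_rc_28_3 lc_e_rc_21_1 lc_e_rc_37_2 lc_e_rc_36_2 lc_e_rc_28_3 lc_e_rc_21_1 lc_e_rc_37_2 lc_e_rc_13_1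 lc_e_rc_13_1 lc_e_Cert_tree lc_e_rc_35_2 lc_e_rc_21_1 lc_e_rc_38_2 lc_e_rc_35_2 lc_e_Cert_tree lc_e_rc_21_1 lc_e_rc_38_2 lc_e_rc_21_1 lc_e_Cert_tree lc_e_rc_13_1 lc_e_rc_13_1 lc_e_rc_34_0 lc_e_rc_37_2 lc_e_rc_35_2 lc_e_rc_21_1 lc_e_Cert_tree lc_e_rc_34_0 lc_e_rc_28_3 lc_e_rc_21_1 lc_e_rc_37_2 lc_e_rc_34_0 lc_e_rc_28_3 lc_e_rc_35_2 lc_e_Cert_tree lc_e_rc_35_2 lc_e_rc_21_1 lc_e_rc_38_2 lc_e_rc_34_0 lc_e_rc_28_3) (@D3.rec (fun _ => (Cert rels S Gen.e)) lc_e_rc_36_2 lc_e_Cert_tree lc_e_rc_35_2 lc_e_rc_21_1 lc_e_rc_38_2 lc_e_rc_4_1 lc_e_rc_4_1 lc_e_Cert_tree lc_e_rc_35_2 lc_e_rc_34_0 lc_e_rc_37_2 lc_e_rc_35_2 lc_e_rc_21_1 lc_e_rc_4_1 lc_e_rc_4_1 lc_e_Cert_tree lc_e_rc_13_1 lc_e_rc_34_0 lc_e_rc_37_2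 lc_e_rc_35_2 lc_e_rc_21_1 lc_e_Cert_tree lc_e_rc_4_1 lc_e_rc_34_0 lc_e_rc_37_2 lc_e_rc_13_1 lc_e_rc_37_2 lc_e_rc_35_2 lc_e_rc_38_2 lc_e_rc_37_2 lc_e_rc_21_1 lc_e_Cert_tree lc_e_rc_4_1 lc_e_rc_4_1 lc_e_Cert_tree lc_e_rc_21_1 lc_e_rc_34_0 lc_e_rc_37_2 lc_e_rc_35_2 lc_e_rc_13_1 lc_e_rc_37_2 lc_e_rc_35_2 lc_e_rc_38_2 lc_e_rc_37_2 lc_e_rc_13_1 lc_e_Cert_tree lc_e_rc_34_0 lc_e_rc_37_2 lc_e_rc_4_1 lc_e_rc_34_0 lc_e_rc_37_2) (@D3.rec (fun _ => (Cert rels S Gen.e)) lc_e_rc_37_2 lc_e_rc_38_2 lc_e_rc_36_2 lc_e_rc_38_2 lc_e_rc_4_1 lc_e_rc_4_1 lc_e_Cert_tree lc_e_rc_13_1 lc_e_rc_34_0 lc_e_rc_37_2 lc_e_rc_35_2 lc_e_rc_37_2 lc_e_Cert_tree lc_e_rc_4_1 lc_e_rc_34_0 lc_e_rc_37_2 lc_e_rc_13_1 lc_e_rc_37_2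 lc_e_rc_35_2 lc_e_rc_38_2 lc_e_rc_37_2 lc_e_rc_4_1 lc_e_rc_4_1 lc_e_rc_13_1 lc_e_rc_35_2 lc_e_Cert_tree lc_e_rc_4_1 lc_e_rc_34_0 lc_e_rc_37_2 lc_e_rc_37_2 lc_e_rc_35_2 lc_e_rc_37_2 lc_e_rc_34_0 lc_e_rc_28_3 lc_e_rc_34_0 lc_e_rc_37_2 lc_e_rc_37_2 lc_e_rc_36_2 lc_e_rc_37_2 lc_e_rc_28_3 lc_e_rc_21_1 lc_e_rc_37_2 lc_e_rc_39_2 lc_e_rc_35_2 lc_e_rc_37_2 lc_e_rc_35_2 lc_e_Cert_tree lc_e_Cert_tree lc_e_Cert_tree lc_e_rc_34_0 lc_e_Cert_tree) (@D3.rec (fun _ => (Cert rels S Gen.e)) lc_e_rc_34_0 lc_e_rc_35_2 lc_e_rc_37_2 lc_e_rc_35_2 lc_e_rc_36_2 lc_e_Cert_tree lc_e_Cert_tree lc_e_Cert_tree lc_e_rc_34_0 lc_e_Cert_tree lc_e_Cert_tree lc_e_rc_34_0 lc_e_Cert_tree lc_e_rc_34_0 lc_e_Cert_tree lc_e_rc_34_0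 lc_e_rc_36_2 lc_e_Cert_tree lc_e_rc_34_0 lc_e_rc_36_2 lc_e_Cert_tree lc_e_rc_34_0 lc_e_rc_28_3 lc_e_rc_21_1 lc_e_rc_37_2 lc_e_Cert_tree lc_e_Cert_tree lc_e_rc_34_0 lc_e_Cert_tree lc_e_rc_34_0 lc_e_rc_36_2 lc_e_Cert_tree lc_e_rc_34_0 lc_e_Cert_tree lc_e_rc_34_0 lc_e_rc_36_2 lc_e_Cert_tree lc_e_rc_34_0 lc_e_rc_28_3 lc_e_rc_21_1 lc_e_rc_37_2 lc_e_Cert_tree lc_e_rc_34_0 lc_e_rc_36_2 lc_e_Cert_tree lc_e_rc_34_0 lc_e_rc_28_3 lc_e_rc_21_1 lc_e_rc_37_2 lc_e_rc_34_0 lc_e_rc_13_1) (@D3.rec (fun _ => (Cert rels S Gen.e)) lc_e_rc_13_1 lc_e_Cert_tree lc_e_rc_35_2 lc_e_rc_21_1 lc_e_rc_38_2 lc_e_Cert_tree lc_e_rc_34_0 lc_e_rc_36_2 lc_e_Cert_tree lc_e_rc_34_0 lc_e_rc_28_3 lc_e_rc_21_1 lc_e_rc_37_2 lc_e_rc_34_0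 lc_e_rc_13_1 lc_e_rc_13_1 lc_e_Cert_tree lc_e_rc_35_2 lc_e_rc_21_1 lc_e_rc_38_2 lc_e_rc_4_1 lc_e_rc_4_1 lc_e_rc_21_1 lc_e_Cert_tree lc_e_rc_13_1 lc_e_rc_13_1 lc_e_rc_34_0 lc_e_rc_37_2 lc_e_rc_35_2 lc_e_rc_39_2 lc_e_rc_21_1 lc_e_rc_34_0 lc_e_rc_39_2 lc_e_rc_37_2 lc_e_Cert_tree lc_e_rc_39_2 lc_e_rc_35_2 lc_e_Cert_tree lc_e_Cert_tree lc_e_rc_34_0 lc_e_rc_35_2 lc_e_Cert_tree lc_e_Cert_tree lc_e_rc_34_0 lc_e_Cert_tree lc_e_rc_34_0 lc_e_rc_36_2 lc_e_Cert_tree lc_e_Cert_tree lc_e_rc_34_0 lc_e_Cert_tree) (@D3.rec (fun _ => (Cert rels S Gen.e)) lc_e_rc_34_0 lc_e_rc_36_2 lc_e_Cert_tree lc_e_rc_34_0 lc_e_Cert_tree lc_e_rc_34_0 lc_e_rc_36_2 lc_e_Cert_tree lc_e_rc_34_0 lc_e_rc_28_3 lc_e_rc_21_1 lc_e_rc_37_2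 lc_e_rc_34_0 lc_e_rc_35_2 lc_e_rc_34_0 lc_e_rc_28_3 lc_e_rc_21_1 lc_e_rc_37_2 lc_e_rc_34_0 lc_e_rc_13_1 lc_e_rc_13_1 lc_e_Cert_tree lc_e_rc_35_2 lc_e_rc_21_1 lc_e_rc_38_2 lc_e_Cert_tree lc_e_rc_34_0 lc_e_rc_36_2 lc_e_Cert_tree lc_e_rc_34_0 lc_e_rc_28_3 lc_e_rc_21_1 lc_e_rc_37_2 lc_e_Cert_tree lc_e_rc_34_0 lc_e_rc_28_3 lc_e_rc_21_1 lc_e_rc_37_2 lc_e_rc_34_0 lc_e_rc_13_1 lc_e_rc_35_2 lc_e_Cert_tree lc_e_rc_35_2 lc_e_rc_21_1 lc_e_rc_38_2 lc_e_rc_34_0 lc_e_rc_13_1 lc_e_rc_13_1 lc_e_Cert_tree lc_e_rc_35_2 lc_e_rc_21_1) (@D3.rec (fun _ => (Cert rels S Gen.e)) lc_e_rc_38_2 lc_e_rc_4_1 lc_e_rc_4_1 lc_e_rc_21_1 lc_e_Cert_tree lc_e_rc_13_1 lc_e_rc_13_1 lc_e_rc_34_0 lc_e_rc_37_2 lc_e_rc_35_2 lc_e_rc_39_2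 lc_e_rc_21_1 lc_e_rc_4_1 lc_e_rc_4_1 lc_e_rc_21_1 lc_e_Cert_tree lc_e_rc_13_1 lc_e_rc_13_1 lc_e_rc_34_0 lc_e_rc_37_2 lc_e_rc_35_2 lc_e_rc_39_2 lc_e_rc_21_1 lc_e_rc_4_1 lc_e_Cert_tree lc_e_rc_4_1 lc_e_rc_4_1 lc_e_Cert_tree lc_e_rc_21_1 lc_e_rc_34_0 lc_e_rc_37_2 lc_e_rc_35_2 lc_e_rc_13_1 lc_e_rc_13_1 lc_e_rc_37_2 lc_e_rc_35_2 lc_e_rc_38_2 lc_e_rc_37_2 lc_e_rc_39_2 lc_e_rc_34_0 lc_e_rc_13_1 lc_e_rc_13_1 lc_e_Cert_tree lc_e_rc_35_2 lc_e_rc_37_2 lc_e_rc_37_2 lc_e_rc_4_1 lc_e_rc_4_1 lc_e_rc_21_1 lc_e_Cert_tree lc_e_rc_13_1) (@D3.rec (fun _ => (Cert rels S Gen.e)) lc_e_rc_13_1 lc_e_rc_34_0 lc_e_rc_37_2 lc_e_rc_35_2 lc_e_rc_39_2 lc_e_rc_36_2 lc_e_rc_4_1 lc_e_Cert_tree lc_e_rc_4_1 lc_e_rc_4_1 lc_e_Cert_tree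 lc_e_rc_21_1 lc_e_rc_34_0 lc_e_rc_37_2 lc_e_rc_35_2 lc_e_rc_13_1 lc_e_rc_13_1 lc_e_rc_37_2 lc_e_rc_35_2 lc_e_rc_38_2 lc_e_rc_37_2 lc_e_rc_39_2 lc_e_rc_34_0 lc_e_rc_37_2 lc_e_rc_35_2 lc_e_rc_4_1 lc_e_rc_4_1 lc_e_rc_37_2 lc_e_rc_35_2 lc_e_rc_38_2 lc_e_rc_37_2 lc_e_rc_39_2 lc_e_rc_36_2 lc_e_rc_38_2 lc_e_rc_37_2 lc_e_rc_28_3 lc_e_rc_39_2 lc_e_rc_38_2 lc_e_rc_39_2 lc_e_rc_36_2 lc_e_rc_35_2 lc_e_rc_38_2 lc_e_rc_28_3 lc_e_rc_39_2 lc_e_rc_21_1 lc_e_rc_28_3 lc_e_rc_56_11 lc_e_rc_34_0 lc_e_rc_39_2 lc_e_rc_36_2 lc_e_rc_39_2) (@D3.rec (fun _ => (Cert rels S Gen.e)) lc_e_rc_35_2 lc_e_Cert_tree lc_e_Cert_tree lc_e_rc_34_0 lc_e_rc_28_3 lc_e_rc_39_2 lc_e_rc_35_2 lc_e_Cert_tree lc_e_Cert_tree lc_e_rc_34_0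 lc_e_Cert_tree lc_e_rc_34_0 lc_e_rc_36_2 lc_e_rc_35_2 lc_e_rc_28_3 lc_e_Cert_tree lc_e_rc_34_0 lc_e_Cert_tree lc_e_rc_34_0 lc_e_rc_36_2 lc_e_Cert_tree lc_e_rc_34_0 lc_e_rc_28_3 lc_e_rc_21_1 lc_e_rc_37_2 lc_e_rc_34_0 lc_e_Cert_tree lc_e_rc_34_0 lc_e_rc_36_2 lc_e_Cert_tree lc_e_rc_34_0 lc_e_rc_28_3 lc_e_rc_21_1 lc_e_rc_37_2 lc_e_rc_36_2 lc_e_rc_34_0 lc_e_rc_28_3 lc_e_rc_21_1 lc_e_rc_37_2 lc_e_rc_34_0 lc_e_rc_13_1 lc_e_rc_13_1 lc_e_Cert_tree lc_e_rc_35_2 lc_e_rc_21_1 lc_e_rc_38_2 lc_e_rc_35_2 lc_e_rc_13_1 lc_e_rc_13_1 lc_e_Cert_tree lc_e_rc_21_1) (@D3.rec (fun _ => (Cert rels S Gen.e)) lc_e_rc_38_2 lc_e_rc_4_1 lc_e_rc_4_1 lc_e_rc_21_1 lc_e_Cert_tree lc_e_rc_13_1 lc_e_rc_13_1 lc_e_rc_34_0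 lc_e_rc_37_2 lc_e_rc_35_2 lc_e_rc_39_2 lc_e_rc_21_1 lc_e_Cert_tree lc_e_rc_34_0 lc_e_rc_28_3 lc_e_rc_21_1 lc_e_rc_37_2 lc_e_rc_34_0 lc_e_rc_28_3 lc_e_rc_35_2 lc_e_Cert_tree lc_e_rc_35_2 lc_e_rc_21_1 lc_e_rc_38_2 lc_e_rc_34_0 lc_e_rc_28_3 lc_e_rc_36_2 lc_e_Cert_tree lc_e_rc_35_2 lc_e_rc_21_1 lc_e_rc_38_2 lc_e_rc_4_1 lc_e_rc_4_1 lc_e_rc_21_1 lc_e_Cert_tree lc_e_rc_35_2 lc_e_rc_35_2 lc_e_rc_34_0 lc_e_rc_37_2 lc_e_rc_35_2 lc_e_rc_39_2 lc_e_rc_21_1 lc_e_rc_4_1 lc_e_rc_4_1 lc_e_rc_21_1 lc_e_Cert_tree lc_e_rc_35_2 lc_e_rc_13_1 lc_e_rc_34_0 lc_e_rc_37_2 lc_e_rc_35_2) (@D3.rec (fun _ => (Cert rels S Gen.e)) lc_e_rc_39_2 lc_e_rc_21_1 lc_e_rc_21_1 lc_e_Cert_tree lc_e_rc_4_1 lc_e_Cert_tree lc_e_rc_21_1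 lc_e_rc_34_0 lc_e_rc_37_2 lc_e_rc_35_2 lc_e_rc_13_1 lc_e_rc_37_2 lc_e_rc_35_2 lc_e_rc_38_2 lc_e_rc_37_2 lc_e_rc_39_2 lc_e_rc_21_1 lc_e_Cert_tree lc_e_rc_4_1 lc_e_rc_4_1 lc_e_Cert_tree lc_e_rc_21_1 lc_e_rc_34_0 lc_e_rc_37_2 lc_e_rc_35_2 lc_e_rc_13_1 lc_e_rc_37_2 lc_e_rc_35_2 lc_e_rc_38_2 lc_e_rc_37_2 lc_e_rc_13_1 lc_e_Cert_tree lc_e_rc_34_0 lc_e_rc_37_2 lc_e_rc_4_1 lc_e_rc_34_0 lc_e_rc_37_2 lc_e_rc_37_2 lc_e_rc_38_2 lc_e_rc_36_2 lc_e_rc_38_2 lc_e_rc_4_1 lc_e_rc_4_1 lc_e_rc_21_1 lc_e_Cert_tree lc_e_rc_13_1 lc_e_rc_13_1 lc_e_rc_34_0 lc_e_rc_37_2 lc_e_rc_35_2 lc_e_rc_39_2) (@D3.rec (fun _ => (Cert rels S Gen.e)) lc_e_rc_37_2 lc_e_rc_4_1 lc_e_Cert_tree lc_e_rc_4_1 lc_e_Cert_tree lc_e_rc_21_1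 lc_e_rc_34_0 lc_e_rc_37_2 lc_e_rc_35_2 lc_e_rc_13_1 lc_e_rc_37_2 lc_e_rc_35_2 lc_e_rc_38_2 lc_e_rc_37_2 lc_e_rc_39_2 lc_e_rc_4_1 lc_e_rc_4_1 lc_e_rc_4_1 lc_e_rc_21_1 lc_e_rc_21_1 lc_e_Cert_tree lc_e_rc_13_1 lc_e_rc_13_1 lc_e_rc_35_2 lc_e_rc_39_2 lc_e_rc_4_1 lc_e_Cert_tree lc_e_rc_4_1 lc_e_Cert_tree lc_e_rc_21_1 lc_e_rc_34_0 lc_e_rc_37_2 lc_e_rc_35_2 lc_e_rc_37_2 lc_e_rc_35_2 lc_e_rc_37_2 lc_e_rc_39_2 lc_e_Cert_tree lc_e_rc_34_0 lc_e_rc_34_0 lc_e_rc_35_2 lc_e_Cert_tree lc_e_rc_35_2 lc_e_rc_28_3 lc_e_rc_39_2 lc_e_rc_34_0 lc_e_rc_34_0 lc_e_rc_28_3 lc_e_rc_36_2 lc_e_rc_39_2 lc_e_rc_36_2) (@D3.rec (fun _ => (Cert rels S Gen.e)) lc_e_rc_35_2 lc_e_Cert_tree lc_e_Cert_tree lc_e_rc_34_0 lc_e_Cert_tree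 lc_e_rc_34_0 lc_e_rc_36_2 lc_e_rc_13_1 lc_e_rc_35_2 lc_e_rc_28_3 lc_e_Cert_tree lc_e_rc_34_0 lc_e_rc_34_0 lc_e_rc_36_2 lc_e_rc_34_0 lc_e_rc_28_3 lc_e_rc_21_1 lc_e_rc_37_2 lc_e_rc_21_1 lc_e_rc_13_1 lc_e_rc_34_0 lc_e_rc_36_2 lc_e_rc_28_3 lc_e_rc_21_1 lc_e_rc_37_2 lc_e_rc_13_1 lc_e_rc_13_1 lc_e_Cert_tree lc_e_rc_35_2 lc_e_rc_21_1 lc_e_rc_38_2 lc_e_rc_36_2 lc_e_rc_28_3 lc_e_rc_21_1 lc_e_rc_37_2 lc_e_rc_13_1 lc_e_rc_13_1 lc_e_Cert_tree lc_e_rc_35_2 lc_e_rc_21_1 lc_e_rc_38_2 lc_e_rc_37_2 lc_e_Cert_tree lc_e_rc_21_1 lc_e_rc_38_2 lc_e_rc_21_1 lc_e_Cert_tree lc_e_rc_13_1 lc_e_rc_13_1 lc_e_rc_34_0 lc_e_rc_37_2) (@D3.rec (fun _ => (Cert rels S Gen.e)) lc_e_rc_35_2 lc_e_rc_21_1 lc_e_rc_35_2 lc_e_rc_34_0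 lc_e_rc_37_2 lc_e_rc_21_1 lc_e_Cert_tree lc_e_rc_34_0 lc_e_rc_37_2 lc_e_rc_35_2 lc_e_rc_13_1 lc_e_rc_37_2 lc_e_rc_35_2 lc_e_rc_38_2 lc_e_rc_37_2 lc_e_rc_34_0 lc_e_rc_28_3 lc_e_rc_36_2 lc_e_Cert_tree lc_e_rc_35_2 lc_e_rc_21_1 lc_e_rc_38_2 lc_e_rc_4_1 lc_e_rc_4_1 lc_e_Cert_tree lc_e_rc_35_2 lc_e_rc_34_0 lc_e_rc_21_3 lc_e_rc_13_3 lc_e_rc_21_1 lc_e_rc_4_1 lc_e_rc_4_1 lc_e_Cert_tree lc_e_rc_36_2 lc_e_rc_34_0 lc_e_rc_37_2 lc_e_rc_35_2 lc_e_rc_21_1 lc_e_Cert_tree lc_e_rc_4_1 lc_e_rc_34_0 lc_e_rc_37_2 lc_e_rc_35_2 lc_e_rc_37_2 lc_e_rc_35_2 lc_e_rc_13_3 lc_e_rc_4_3 lc_e_Cert_tree lc_e_rc_4_1 lc_e_rc_34_0 lc_e_rc_37_2) (@D3.rec (fun _ => (Cert rels S Gen.e)) lc_e_rc_13_1 lc_e_rc_37_2 lc_e_rc_35_2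 lc_e_rc_38_2 lc_e_rc_37_2 lc_e_rc_34_0 lc_e_rc_37_2 lc_e_rc_4_1 lc_e_rc_37_2 lc_e_rc_38_2 lc_e_rc_36_2 lc_e_rc_38_2 lc_e_rc_37_2 lc_e_rc_36_2 lc_e_rc_13_1 lc_e_Cert_tree lc_e_rc_21_1 lc_e_rc_34_0 lc_e_rc_37_2 lc_e_rc_35_2 lc_e_rc_4_1 lc_e_rc_34_0 lc_e_rc_37_2 lc_e_rc_35_2 lc_e_rc_4_1 lc_e_rc_37_2 lc_e_rc_35_2 lc_e_rc_38_2 lc_e_rc_37_2 lc_e_rc_36_2 lc_e_rc_38_2 lc_e_rc_37_2 lc_e_rc_28_3 lc_e_rc_38_2 lc_e_Cert_tree lc_e_rc_34_0 lc_e_rc_37_2 lc_e_rc_37_2 lc_e_rc_38_2 lc_e_rc_28_3 lc_e_rc_37_2 lc_e_rc_38_2 lc_e_rc_36_2 lc_e_rc_38_2 lc_e_rc_36_2 lc_e_Cert_tree lc_e_rc_4_1 lc_e_rc_34_0 lc_e_rc_37_2 lc_e_rc_13_1 lc_e_rc_37_2) (@D3.rec (fun _ => (Cert rels S Gen.e)) lc_e_rc_35_2 lc_e_rc_38_2 lc_e_rc_13_3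 lc_e_rc_34_0 lc_e_rc_37_2 lc_e_rc_4_1 lc_e_rc_37_2 lc_e_rc_38_2 lc_e_rc_38_2 lc_e_rc_37_2 lc_e_rc_37_2 lc_e_rc_35_2 lc_e_rc_4_1 lc_e_rc_34_0 lc_e_rc_37_2 lc_e_rc_37_2 lc_e_rc_36_2 lc_e_rc_37_2 lc_e_rc_28_3 lc_e_rc_21_1 lc_e_rc_37_2 lc_e_rc_36_2 lc_e_rc_35_2 lc_e_rc_28_3 lc_e_rc_21_1 lc_e_rc_36_2 lc_e_rc_37_2 lc_e_rc_35_2 lc_e_Cert_tree lc_e_rc_35_2 lc_e_Cert_tree lc_e_Cert_tree lc_e_rc_34_0 lc_e_Cert_tree lc_e_rc_34_0 lc_e_Cert_tree lc_e_rc_34_0 lc_e_rc_36_2 lc_e_Cert_tree lc_e_rc_34_0 lc_e_rc_28_3 lc_e_rc_35_2 lc_e_rc_35_2 lc_e_rc_37_2 lc_e_Cert_tree lc_e_Cert_tree lc_e_Cert_tree lc_e_rc_34_0 lc_e_Cert_tree lc_e_rc_34_0 lc_e_Cert_tree) (@D3.rec (fun _ => (Cert rels S Gen.e)) lc_e_rc_34_0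 lc_e_rc_36_2 lc_e_Cert_tree lc_e_rc_34_0 lc_e_Cert_tree lc_e_rc_34_0 lc_e_rc_36_2 lc_e_Cert_tree lc_e_rc_34_0 lc_e_rc_36_2 lc_e_Cert_tree lc_e_rc_34_0 lc_e_rc_28_3 lc_e_rc_21_1 lc_e_rc_37_2 lc_e_rc_34_0 lc_e_rc_28_3 lc_e_rc_21_1 lc_e_rc_37_2 lc_e_rc_34_0 lc_e_rc_13_1 lc_e_rc_13_1 lc_e_Cert_tree lc_e_rc_35_2 lc_e_rc_21_1 lc_e_rc_38_2 lc_e_Cert_tree lc_e_rc_34_0 lc_e_Cert_tree lc_e_rc_34_0 lc_e_rc_36_2 lc_e_Cert_tree lc_e_rc_34_0 lc_e_rc_28_3 lc_e_rc_21_1 lc_e_rc_37_2 lc_e_Cert_tree lc_e_rc_34_0 lc_e_rc_35_2 lc_e_Cert_tree lc_e_rc_34_0 lc_e_rc_28_3 lc_e_rc_21_1 lc_e_rc_37_2 lc_e_rc_34_0 lc_e_rc_13_1 lc_e_rc_36_2 lc_e_Cert_tree lc_e_rc_35_2 lc_e_rc_21_1 lc_e_rc_38_2) (@D3.rec (fun _ => (Cert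 rels S Gen.e)) lc_e_Cert_tree lc_e_rc_34_0 lc_e_rc_28_3 lc_e_rc_21_1 lc_e_rc_37_2 lc_e_rc_34_0 lc_e_rc_13_1 lc_e_rc_13_1 lc_e_Cert_tree lc_e_rc_35_2 lc_e_rc_21_1 lc_e_rc_38_2 lc_e_rc_4_1 lc_e_rc_4_1 lc_e_rc_21_1 lc_e_Cert_tree lc_e_rc_13_1 lc_e_rc_13_1 lc_e_rc_34_0 lc_e_rc_37_2 lc_e_rc_35_2 lc_e_rc_39_2 lc_e_rc_21_1 lc_e_rc_56_25 lc_e_rc_34_0 lc_e_rc_28_3 lc_e_rc_21_1 lc_e_rc_37_2 lc_e_rc_34_0 lc_e_rc_28_3 lc_e_rc_13_1 lc_e_Cert_tree lc_e_rc_28_3 lc_e_rc_21_1 lc_e_rc_38_2 lc_e_rc_4_1 lc_e_rc_4_1 lc_e_rc_21_1 lc_e_Cert_tree lc_e_rc_13_1 lc_e_rc_13_1 lc_e_rc_34_0 lc_e_rc_37_2 lc_e_rc_35_2 lc_e_rc_39_2 lc_e_rc_21_1 lc_e_rc_4_1 lc_e_Cert_tree lc_e_rc_4_1 lc_e_rc_4_1 lc_e_Cert_tree) (@D3.rec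 (fun _ => (Cert rels S Gen.e)) lc_e_rc_21_1 lc_e_rc_34_0 lc_e_rc_37_2 lc_e_rc_35_2 lc_e_rc_13_1 lc_e_rc_13_1 lc_e_rc_37_2 lc_e_rc_35_2 lc_e_rc_38_2 lc_e_rc_37_2 lc_e_rc_39_2 lc_e_rc_36_2 lc_e_rc_39_2 lc_e_rc_35_2 lc_e_Cert_tree lc_e_Cert_tree lc_e_rc_34_0 lc_e_rc_35_2 lc_e_Cert_tree lc_e_Cert_tree lc_e_rc_34_0 lc_e_Cert_tree lc_e_rc_34_0 lc_e_rc_36_2 lc_e_Cert_tree lc_e_Cert_tree lc_e_rc_34_0 lc_e_Cert_tree lc_e_rc_34_0 lc_e_rc_36_2 lc_e_Cert_tree lc_e_rc_34_0 lc_e_rc_28_3 lc_e_rc_21_1 lc_e_rc_37_2 lc_e_Cert_tree lc_e_rc_34_0 lc_e_Cert_tree lc_e_rc_34_0 lc_e_rc_36_2 lc_e_Cert_tree lc_e_rc_34_0 lc_e_rc_28_3 lc_e_rc_21_1 lc_e_rc_37_2 lc_e_rc_34_0 lc_e_rc_36_2 lc_e_rc_34_0 lc_e_rc_28_3 lc_e_rc_21_1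 lc_e_rc_37_2) (@D3.rec (fun _ => (Cert rels S Gen.e)) lc_e_rc_34_0 lc_e_rc_13_1 lc_e_rc_13_1 lc_e_Cert_tree lc_e_rc_35_2 lc_e_rc_21_1 lc_e_rc_38_2 lc_e_rc_28_3 lc_e_rc_35_2 lc_e_rc_35_2 lc_e_rc_13_1 lc_e_rc_13_1 lc_e_Cert_tree lc_e_rc_35_2 lc_e_rc_21_1 lc_e_rc_38_2 lc_e_rc_4_1 lc_e_rc_4_1 lc_e_rc_21_1 lc_e_Cert_tree lc_e_rc_13_1 lc_e_rc_13_1 lc_e_rc_34_0 lc_e_rc_37_2 lc_e_rc_35_2 lc_e_rc_39_2 lc_e_rc_21_1 lc_e_Cert_tree lc_e_rc_34_0 lc_e_rc_28_3 lc_e_rc_21_1 lc_e_rc_37_2 lc_e_rc_34_0 lc_e_rc_13_1 lc_e_rc_35_2 lc_e_Cert_tree lc_e_rc_35_2 lc_e_rc_21_1 lc_e_rc_38_2 lc_e_rc_34_0 lc_e_rc_13_1 lc_e_rc_36_2 lc_e_Cert_tree lc_e_rc_35_2 lc_e_rc_21_1 lc_e_rc_38_2 lc_e_rc_4_1 lc_e_rc_4_1 lc_e_rc_21_1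 lc_e_Cert_tree lc_e_rc_13_1)
def ce_e_2 : D2 → D3 → (Cert rels S Gen.e) := @D2.rec (fun _ => D3 → (Cert rels S Gen.e)) (@D3.rec (fun _ => (Cert rels S Gen.e)) lc_e_rc_35_2 lc_e_rc_34_0 lc_e_rc_37_2 lc_e_rc_35_2 lc_e_rc_39_2 lc_e_rc_21_1 lc_e_rc_4_1 lc_e_rc_4_1 lc_e_rc_21_1 lc_e_Cert_tree lc_e_rc_13_1 lc_e_rc_13_1 lc_e_rc_34_0 lc_e_rc_37_2 lc_e_rc_35_2 lc_e_rc_39_2 lc_e_rc_21_1 lc_e_rc_4_1 lc_e_Cert_tree lc_e_rc_4_1 lc_e_rc_4_1 lc_e_Cert_tree lc_e_rc_21_1 lc_e_rc_34_0 lc_e_rc_37_2 lc_e_rc_35_2 lc_e_rc_13_1 lc_e_rc_13_1 lc_e_rc_37_2 lc_e_rc_35_2 lc_e_rc_38_2 lc_e_rc_37_2 lc_e_rc_39_2 lc_e_Cert_tree lc_e_rc_4_1 lc_e_Cert_tree lc_e_rc_34_0 lc_e_rc_37_2 lc_e_rc_35_2 lc_e_rc_13_1 lc_e_rc_37_2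 lc_e_rc_35_2 lc_e_rc_38_2 lc_e_rc_37_2 lc_e_rc_39_2 lc_e_Cert_tree lc_e_rc_34_0 lc_e_rc_37_2 lc_e_rc_35_2 lc_e_rc_4_1 lc_e_rc_34_0) (@D3.rec (fun _ => (Cert rels S Gen.e)) lc_e_rc_37_2 lc_e_rc_35_2 lc_e_rc_37_2 lc_e_rc_35_2 lc_e_rc_38_2 lc_e_rc_37_2 lc_e_rc_39_2 lc_e_rc_36_2 lc_e_rc_38_2 lc_e_rc_37_2 lc_e_rc_28_3 lc_e_rc_39_2 lc_e_rc_38_2 lc_e_rc_39_2 lc_e_rc_4_1 lc_e_rc_4_1 lc_e_rc_21_1 lc_e_Cert_tree lc_e_rc_13_1 lc_e_rc_13_1 lc_e_rc_34_0 lc_e_rc_37_2 lc_e_rc_35_2 lc_e_rc_39_2 lc_e_rc_37_2 lc_e_rc_4_1 lc_e_Cert_tree lc_e_rc_4_1 lc_e_rc_4_1 lc_e_Cert_tree lc_e_rc_21_1 lc_e_rc_34_0 lc_e_rc_37_2 lc_e_rc_35_2 lc_e_rc_13_1 lc_e_rc_13_1 lc_e_rc_37_2 lc_e_rc_35_2 lc_e_rc_38_2 lc_e_rc_37_2 lc_e_rc_39_2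 lc_e_Cert_tree lc_e_rc_4_1 lc_e_rc_34_0 lc_e_rc_37_2 lc_e_rc_35_2 lc_e_rc_4_1 lc_e_rc_4_1 lc_e_rc_34_0 lc_e_rc_37_2 lc_e_rc_35_2) (@D3.rec (fun _ => (Cert rels S Gen.e)) lc_e_Cert_tree lc_e_rc_21_1 lc_e_rc_37_2 lc_e_rc_35_2 lc_e_rc_38_2 lc_e_rc_37_2 lc_e_rc_39_2 lc_e_rc_36_2 lc_e_rc_38_2 lc_e_rc_37_2 lc_e_rc_28_3 lc_e_rc_39_2 lc_e_rc_38_2 lc_e_rc_39_2 lc_e_rc_37_2 lc_e_rc_35_2 lc_e_rc_38_2 lc_e_rc_37_2 lc_e_rc_39_2 lc_e_rc_13_1 lc_e_rc_38_2 lc_e_rc_37_2 lc_e_rc_28_3 lc_e_rc_39_2 lc_e_rc_38_2 lc_e_rc_39_2 lc_e_rc_36_2 lc_e_rc_35_2 lc_e_rc_38_2 lc_e_rc_28_3 lc_e_rc_39_2 lc_e_rc_21_1 lc_e_rc_28_3 lc_e_rc_39_2 lc_e_rc_37_2 lc_e_rc_35_2 lc_e_rc_4_1 lc_e_rc_36_2 lc_e_rc_21_1 lc_e_rc_13_1 lc_e_rc_21_1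 lc_e_rc_28_3 lc_e_rc_36_2 lc_e_rc_39_2 lc_e_rc_36_2 lc_e_rc_35_2 lc_e_Cert_tree lc_e_Cert_tree lc_e_rc_34_0 lc_e_Cert_tree lc_e_rc_34_0) (@D3.rec (fun _ => (Cert rels S Gen.e)) lc_e_rc_36_2 lc_e_rc_35_2 lc_e_rc_28_3 lc_e_Cert_tree lc_e_rc_34_0 lc_e_Cert_tree lc_e_rc_34_0 lc_e_rc_36_2 lc_e_Cert_tree lc_e_rc_34_0 lc_e_rc_28_3 lc_e_rc_21_1 lc_e_rc_37_2 lc_e_rc_34_0 lc_e_rc_36_2 lc_e_rc_34_0 lc_e_rc_28_3 lc_e_rc_21_1 lc_e_rc_37_2 lc_e_rc_34_0 lc_e_rc_13_1 lc_e_rc_13_1 lc_e_Cert_tree lc_e_rc_35_2 lc_e_rc_21_1 lc_e_rc_38_2 lc_e_rc_36_2 lc_e_rc_34_0 lc_e_rc_28_3 lc_e_rc_21_1 lc_e_rc_37_2 lc_e_rc_34_0 lc_e_rc_13_1 lc_e_rc_13_1 lc_e_Cert_tree lc_e_rc_35_2 lc_e_rc_21_1 lc_e_rc_38_2 lc_e_rc_37_2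 lc_e_rc_13_1 lc_e_rc_13_1 lc_e_Cert_tree lc_e_rc_21_1 lc_e_rc_38_2 lc_e_rc_4_1 lc_e_rc_4_1 lc_e_rc_21_1 lc_e_Cert_tree lc_e_rc_13_1 lc_e_rc_13_1 lc_e_rc_34_0) (@D3.rec (fun _ => (Cert rels S Gen.e)) lc_e_rc_37_2 lc_e_rc_35_2 lc_e_rc_39_2 lc_e_rc_21_1 lc_e_rc_35_2 lc_e_rc_21_1 lc_e_Cert_tree lc_e_rc_13_1 lc_e_rc_34_0 lc_e_rc_37_2 lc_e_rc_21_1 lc_e_rc_4_1 lc_e_Cert_tree lc_e_rc_4_1 lc_e_rc_4_1 lc_e_Cert_tree lc_e_rc_21_1 lc_e_rc_34_0 lc_e_rc_37_2 lc_e_rc_35_2 lc_e_rc_13_1 lc_e_rc_13_1 lc_e_rc_37_2 lc_e_rc_35_2 lc_e_rc_38_2 lc_e_rc_37_2 lc_e_rc_39_2 lc_e_rc_34_0 lc_e_rc_28_3 lc_e_rc_36_2 lc_e_Cert_tree lc_e_rc_35_2 lc_e_rc_21_1 lc_e_rc_38_2 lc_e_rc_4_1 lc_e_rc_4_1 lc_e_rc_21_1 lc_e_Cert_tree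 lc_e_rc_35_2 lc_e_rc_35_2 lc_e_rc_34_0 lc_e_rc_35_2 lc_e_rc_28_1 lc_e_rc_39_2 lc_e_rc_21_1 lc_e_rc_4_1 lc_e_rc_4_1 lc_e_rc_21_1 lc_e_Cert_tree lc_e_rc_35_2 lc_e_rc_36_2) (@D3.rec (fun _ => (Cert rels S Gen.e)) lc_e_rc_34_0 lc_e_rc_37_2 lc_e_rc_35_2 lc_e_rc_39_2 lc_e_rc_21_1 lc_e_rc_21_1 lc_e_Cert_tree lc_e_rc_4_1 lc_e_Cert_tree lc_e_rc_21_1 lc_e_rc_34_0 lc_e_rc_37_2 lc_e_rc_35_2 lc_e_rc_35_2 lc_e_rc_37_2 lc_e_rc_35_2 lc_e_rc_13_3 lc_e_rc_39_0 lc_e_rc_39_2 lc_e_rc_21_1 lc_e_Cert_tree lc_e_rc_4_1 lc_e_Cert_tree lc_e_rc_21_1 lc_e_rc_34_0 lc_e_rc_37_2 lc_e_rc_35_2 lc_e_rc_13_1 lc_e_rc_37_2 lc_e_rc_35_2 lc_e_rc_38_2 lc_e_rc_37_2 lc_e_rc_39_2 lc_e_Cert_tree lc_e_rc_34_0 lc_e_rc_37_2 lc_e_rc_4_1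 lc_e_rc_34_0 lc_e_rc_37_2 lc_e_rc_35_2 lc_e_Cert_tree lc_e_rc_37_2 lc_e_rc_35_2 lc_e_rc_38_2 lc_e_rc_37_2 lc_e_rc_28_3 lc_e_rc_38_2 lc_e_rc_37_2 lc_e_rc_39_2 lc_e_rc_28_3 lc_e_rc_39_2) (@D3.rec (fun _ => (Cert rels S Gen.e)) lc_e_Cert_tree lc_e_rc_34_0 lc_e_rc_37_2 lc_e_rc_35_2 lc_e_rc_4_1 lc_e_rc_34_0 lc_e_rc_37_2 lc_e_rc_35_2 lc_e_rc_37_2 lc_e_rc_35_2 lc_e_rc_38_2 lc_e_rc_37_2 lc_e_rc_36_2 lc_e_rc_38_2 lc_e_rc_37_2 lc_e_rc_28_3 lc_e_rc_38_2 lc_e_Cert_tree lc_e_rc_34_0 lc_e_rc_37_2 lc_e_rc_37_2 lc_e_rc_38_2 lc_e_rc_28_3 lc_e_rc_37_2 lc_e_rc_38_2 lc_e_rc_36_2 lc_e_rc_38_2 lc_e_rc_36_2 lc_e_rc_4_1 lc_e_Cert_tree lc_e_rc_4_1 lc_e_Cert_tree lc_e_rc_21_1 lc_e_rc_34_0 lc_e_rc_37_2 lc_e_rc_35_2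 lc_e_rc_13_1 lc_e_rc_37_2 lc_e_rc_35_2 lc_e_rc_38_2 lc_e_rc_13_3 lc_e_rc_39_2 lc_e_Cert_tree lc_e_rc_34_0 lc_e_rc_37_2 lc_e_rc_4_1 lc_e_rc_34_0 lc_e_rc_37_2 lc_e_rc_35_2 lc_e_Cert_tree lc_e_rc_37_2) (@D3.rec (fun _ => (Cert rels S Gen.e)) lc_e_rc_35_2 lc_e_rc_38_2 lc_e_rc_37_2 lc_e_rc_38_2 lc_e_rc_37_2 lc_e_rc_37_2 lc_e_rc_39_2 lc_e_rc_35_2 lc_e_rc_39_2 lc_e_rc_4_1 lc_e_rc_4_1 lc_e_rc_21_1 lc_e_rc_21_1 lc_e_Cert_tree lc_e_rc_34_0 lc_e_rc_13_1 lc_e_rc_39_2 lc_e_Cert_tree lc_e_rc_34_0 lc_e_rc_37_2 lc_e_rc_34_0 lc_e_rc_37_2 lc_e_rc_35_2 lc_e_Cert_tree lc_e_rc_37_2 lc_e_rc_35_2 lc_e_rc_37_2 lc_e_rc_36_2 lc_e_rc_37_2 lc_e_rc_28_3 lc_e_rc_39_2 lc_e_rc_39_2 lc_e_rc_34_0 lc_e_rc_28_3 lc_e_rc_35_2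 lc_e_Cert_tree lc_e_rc_34_0 lc_e_rc_28_3 lc_e_rc_21_1 lc_e_rc_28_3 lc_e_rc_36_2 lc_e_rc_13_1 lc_e_rc_13_1 lc_e_Cert_tree lc_e_rc_35_2 lc_e_rc_28_3 lc_e_rc_36_2 lc_e_rc_35_2 lc_e_Cert_tree lc_e_rc_34_0 lc_e_rc_34_0) (@D3.rec (fun _ => (Cert rels S Gen.e)) lc_e_rc_36_2 lc_e_rc_34_0 lc_e_rc_28_3 lc_e_rc_36_2 lc_e_rc_36_2 lc_e_rc_21_1 lc_e_rc_13_1 lc_e_rc_34_0 lc_e_rc_36_2 lc_e_rc_28_3 lc_e_rc_21_1 lc_e_rc_37_2 lc_e_rc_13_1 lc_e_rc_13_1 lc_e_rc_21_1 lc_e_rc_35_2 lc_e_rc_21_1 lc_e_rc_38_2 lc_e_rc_21_1 lc_e_rc_28_3 lc_e_rc_37_2 lc_e_Cert_tree lc_e_rc_21_1 lc_e_rc_38_2 lc_e_rc_21_1 lc_e_Cert_tree lc_e_rc_13_1 lc_e_rc_13_1 lc_e_rc_34_0 lc_e_rc_35_2 lc_e_rc_38_2 lc_e_rc_21_1 lc_e_rc_37_2 lc_e_Cert_tree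 lc_e_rc_21_1 lc_e_rc_38_2 lc_e_rc_21_1 lc_e_rc_13_3 lc_e_rc_13_1 lc_e_rc_13_1 lc_e_rc_34_0 lc_e_rc_28_1 lc_e_rc_28_1 lc_e_rc_37_2 lc_e_rc_38_2 lc_e_rc_34_0 lc_e_rc_37_2 lc_e_rc_21_1 lc_e_Cert_tree lc_e_rc_34_0 lc_e_rc_4_3) (@D3.rec (fun _ => (Cert rels S Gen.e)) lc_e_rc_35_2 lc_e_rc_38_2 lc_e_rc_37_2 lc_e_rc_35_2 lc_e_rc_4_1 lc_e_rc_13_3 lc_e_rc_37_2 lc_e_rc_38_2 lc_e_rc_34_0 lc_e_rc_37_2 lc_e_rc_37_2 lc_e_rc_35_2 lc_e_rc_36_2 lc_e_rc_37_2 lc_e_rc_36_2 lc_e_rc_38_2 lc_e_rc_37_2 lc_e_rc_28_3 lc_e_rc_36_2 lc_e_rc_4_1 lc_e_rc_4_1 lc_e_Cert_tree lc_e_rc_37_2 lc_e_rc_34_0 lc_e_rc_13_3 lc_e_rc_4_3 lc_e_rc_21_1 lc_e_Cert_tree lc_e_rc_4_1 lc_e_rc_34_0 lc_e_rc_35_2 lc_e_rc_35_2 lc_e_Cert_tree lc_e_rc_4_1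 lc_e_rc_34_0 lc_e_rc_37_2 lc_e_rc_36_2 lc_e_rc_37_2 lc_e_rc_35_2 lc_e_rc_21_1 lc_e_rc_35_2 lc_e_rc_34_0 lc_e_rc_37_2 lc_e_rc_4_1 lc_e_rc_37_2 lc_e_rc_4_3 lc_e_rc_34_0 lc_e_rc_37_2 lc_e_rc_4_1 lc_e_rc_37_2 lc_e_rc_38_2) (@D3.rec (fun _ => (Cert rels S Gen.e)) lc_e_rc_36_2 lc_e_rc_38_2 lc_e_rc_37_2 lc_e_rc_28_3 lc_e_rc_36_2 lc_e_rc_37_2 lc_e_rc_38_2 lc_e_rc_36_2 lc_e_rc_38_2 lc_e_Cert_tree lc_e_rc_34_0 lc_e_rc_37_2 lc_e_rc_35_2 lc_e_rc_37_2 lc_e_rc_35_2 lc_e_rc_38_2 lc_e_rc_37_2 lc_e_rc_28_3 lc_e_rc_37_2 lc_e_rc_35_2 lc_e_rc_38_2 lc_e_rc_37_2 lc_e_rc_28_1 lc_e_rc_36_2 lc_e_rc_38_2 lc_e_rc_37_2 lc_e_rc_28_3 lc_e_rc_38_2 lc_e_rc_36_2 lc_e_rc_35_2 lc_e_rc_38_2 lc_e_rc_28_3 lc_e_rc_21_1 lc_e_rc_34_0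 lc_e_rc_37_2 lc_e_rc_4_1 lc_e_rc_37_2 lc_e_rc_38_2 lc_e_rc_4_1 lc_e_rc_38_2 lc_e_rc_28_3 lc_e_rc_36_2 lc_e_rc_38_2 lc_e_rc_36_2 lc_e_rc_34_0 lc_e_rc_37_2 lc_e_rc_4_1 lc_e_rc_37_2 lc_e_rc_38_2 lc_e_rc_37_2 lc_e_rc_38_2) (@D3.rec (fun _ => (Cert rels S Gen.e)) lc_e_rc_38_2 lc_e_rc_37_2 lc_e_rc_36_2 lc_e_rc_4_1 lc_e_Cert_tree lc_e_rc_21_1 lc_e_rc_36_2 lc_e_rc_35_2 lc_e_Cert_tree lc_e_Cert_tree lc_e_rc_34_0 lc_e_Cert_tree lc_e_Cert_tree lc_e_rc_34_0 lc_e_Cert_tree lc_e_rc_34_0 lc_e_rc_36_2 lc_e_Cert_tree lc_e_rc_34_0 lc_e_rc_36_2 lc_e_Cert_tree lc_e_rc_34_0 lc_e_rc_28_3 lc_e_rc_21_1 lc_e_rc_37_2 lc_e_rc_34_0 lc_e_rc_28_3 lc_e_rc_13_1 lc_e_Cert_tree lc_e_rc_28_3 lc_e_rc_35_2 lc_e_rc_35_2 lc_e_Cert_tree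 lc_e_Cert_tree lc_e_rc_34_0 lc_e_Cert_tree lc_e_rc_34_0 lc_e_Cert_tree lc_e_rc_34_0 lc_e_rc_36_2 lc_e_Cert_tree lc_e_rc_34_0 lc_e_rc_36_2 lc_e_Cert_tree lc_e_rc_34_0 lc_e_rc_28_3 lc_e_rc_21_1 lc_e_rc_37_2 lc_e_Cert_tree lc_e_rc_34_0 lc_e_rc_36_2) (@D3.rec (fun _ => (Cert rels S Gen.e)) lc_e_Cert_tree lc_e_rc_34_0 lc_e_rc_28_3 lc_e_rc_21_1 lc_e_rc_37_2 lc_e_rc_34_0 lc_e_rc_28_3 lc_e_rc_21_1 lc_e_rc_37_2 lc_e_rc_34_0 lc_e_rc_13_1 lc_e_rc_13_1 lc_e_Cert_tree lc_e_rc_35_2 lc_e_rc_21_1 lc_e_rc_38_2 lc_e_rc_13_1 lc_e_rc_13_1 lc_e_Cert_tree lc_e_rc_35_2 lc_e_rc_21_1 lc_e_rc_38_2 lc_e_rc_4_1 lc_e_rc_4_1 lc_e_rc_21_1 lc_e_Cert_tree lc_e_rc_13_1 lc_e_rc_13_1 lc_e_rc_34_0 lc_e_rc_37_2 lc_e_rc_35_2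 lc_e_rc_39_2 lc_e_rc_21_1 lc_e_Cert_tree lc_e_rc_34_0 lc_e_rc_35_2 lc_e_Cert_tree lc_e_rc_34_0 lc_e_rc_28_3 lc_e_rc_21_1 lc_e_rc_37_2 lc_e_rc_34_0 lc_e_rc_13_1 lc_e_rc_36_2 lc_e_Cert_tree lc_e_rc_35_2 lc_e_rc_21_1 lc_e_rc_38_2 lc_e_Cert_tree lc_e_rc_34_0 lc_e_rc_28_3) (@D3.rec (fun _ => (Cert rels S Gen.e)) lc_e_rc_35_2 lc_e_rc_35_2 lc_e_rc_34_0 lc_e_rc_13_1 lc_e_rc_36_2 lc_e_Cert_tree lc_e_rc_35_2 lc_e_rc_21_1 lc_e_rc_38_2 lc_e_rc_4_1 lc_e_rc_4_1 lc_e_rc_21_1 lc_e_Cert_tree lc_e_rc_13_1 lc_e_rc_36_2 lc_e_rc_34_0 lc_e_rc_37_2 lc_e_rc_35_2 lc_e_rc_39_2 lc_e_rc_21_1 lc_e_rc_34_0 lc_e_rc_28_3 lc_e_rc_13_1 lc_e_Cert_tree lc_e_rc_28_3 lc_e_rc_21_1 lc_e_rc_38_2 lc_e_rc_4_1 lc_e_rc_4_1 lc_e_rc_21_1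 lc_e_Cert_tree lc_e_rc_13_1 lc_e_rc_13_1 lc_e_rc_34_0 lc_e_rc_37_2 lc_e_rc_35_2 lc_e_rc_39_2 lc_e_rc_21_1 lc_e_rc_4_1 lc_e_Cert_tree lc_e_rc_4_1 lc_e_rc_4_1 lc_e_Cert_tree lc_e_rc_21_1 lc_e_rc_34_0 lc_e_rc_37_2 lc_e_rc_35_2 lc_e_rc_13_1 lc_e_rc_13_1 lc_e_rc_37_2 lc_e_rc_35_2) (@D3.rec (fun _ => (Cert rels S Gen.e)) lc_e_rc_38_2 lc_e_rc_37_2 lc_e_rc_39_2 lc_e_rc_13_1 lc_e_Cert_tree lc_e_rc_21_1 lc_e_rc_38_2 lc_e_rc_4_1 lc_e_Cert_tree lc_e_rc_13_1 lc_e_rc_34_0 lc_e_rc_37_2 lc_e_rc_35_2 lc_e_rc_21_1 lc_e_Cert_tree lc_e_rc_4_1 lc_e_Cert_tree lc_e_rc_34_0 lc_e_rc_37_2 lc_e_rc_35_2 lc_e_rc_13_1 lc_e_rc_37_2 lc_e_rc_35_2 lc_e_rc_38_2 lc_e_rc_37_2 lc_e_rc_39_2 lc_e_Cert_tree lc_e_rc_34_0 lc_e_rc_37_2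 lc_e_rc_35_2 lc_e_rc_4_1 lc_e_rc_34_0 lc_e_rc_37_2 lc_e_rc_35_2 lc_e_rc_37_2 lc_e_rc_35_2 lc_e_rc_38_2 lc_e_rc_37_2 lc_e_rc_39_2 lc_e_rc_36_2 lc_e_rc_38_2 lc_e_rc_37_2 lc_e_rc_36_2 lc_e_rc_39_2 lc_e_rc_38_2 lc_e_rc_39_2 lc_e_rc_36_2 lc_e_rc_35_2 lc_e_Cert_tree lc_e_Cert_tree lc_e_rc_34_0) (@D3.rec (fun _ => (Cert rels S Gen.e)) lc_e_Cert_tree lc_e_rc_34_0 lc_e_rc_36_2 lc_e_Cert_tree lc_e_Cert_tree lc_e_rc_34_0 lc_e_Cert_tree lc_e_rc_34_0 lc_e_rc_36_2 lc_e_Cert_tree lc_e_rc_34_0 lc_e_rc_28_3 lc_e_rc_21_1 lc_e_rc_37_2 lc_e_Cert_tree lc_e_rc_34_0 lc_e_rc_34_0 lc_e_rc_36_2 lc_e_rc_34_0 lc_e_rc_28_3 lc_e_rc_21_1 lc_e_rc_37_2 lc_e_rc_34_0 lc_e_rc_13_1 lc_e_rc_13_1 lc_e_Cert_tree lc_e_rc_35_2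 lc_e_rc_21_1 lc_e_rc_38_2 lc_e_rc_34_0 lc_e_rc_36_2 lc_e_rc_34_0 lc_e_rc_28_3 lc_e_rc_21_1 lc_e_rc_37_2 lc_e_rc_34_0 lc_e_rc_13_1 lc_e_rc_13_1 lc_e_Cert_tree lc_e_rc_35_2 lc_e_rc_21_1 lc_e_rc_38_2 lc_e_rc_28_3 lc_e_rc_21_1 lc_e_rc_37_2 lc_e_rc_13_1 lc_e_rc_13_1 lc_e_Cert_tree lc_e_rc_35_2 lc_e_rc_21_1 lc_e_rc_38_2) (@D3.rec (fun _ => (Cert rels S Gen.e)) lc_e_rc_4_1 lc_e_rc_4_1 lc_e_rc_21_1 lc_e_Cert_tree lc_e_rc_13_1 lc_e_rc_13_1 lc_e_rc_34_0 lc_e_rc_37_2 lc_e_rc_35_2 lc_e_rc_39_2 lc_e_rc_21_1 lc_e_Cert_tree lc_e_rc_35_2 lc_e_rc_35_2 lc_e_rc_35_2 lc_e_rc_21_1 lc_e_Cert_tree lc_e_rc_13_1 lc_e_rc_13_1 lc_e_rc_34_0 lc_e_rc_37_2 lc_e_rc_35_2 lc_e_rc_39_2 lc_e_rc_21_1 lc_e_rc_4_1 lc_e_Cert_tree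 lc_e_rc_4_1 lc_e_rc_4_1 lc_e_Cert_tree lc_e_rc_21_1 lc_e_rc_34_0 lc_e_rc_37_2 lc_e_rc_35_2 lc_e_rc_13_1 lc_e_rc_13_1 lc_e_rc_37_2 lc_e_rc_35_2 lc_e_rc_38_2 lc_e_rc_37_2 lc_e_rc_39_2 lc_e_rc_34_0 lc_e_rc_13_1 lc_e_rc_36_2 lc_e_Cert_tree lc_e_rc_35_2 lc_e_rc_21_1 lc_e_rc_38_2 lc_e_rc_4_1 lc_e_rc_4_1 lc_e_rc_21_1 lc_e_Cert_tree) (@D3.rec (fun _ => (Cert rels S Gen.e)) lc_e_rc_13_1 lc_e_rc_35_2 lc_e_rc_34_0 lc_e_rc_37_2 lc_e_rc_35_2 lc_e_rc_39_2 lc_e_rc_21_1 lc_e_rc_4_1 lc_e_rc_4_1 lc_e_rc_21_1 lc_e_Cert_tree lc_e_rc_13_1 lc_e_rc_36_2 lc_e_rc_34_0 lc_e_rc_37_2 lc_e_rc_35_2 lc_e_rc_39_2 lc_e_rc_21_1 lc_e_rc_4_1 lc_e_Cert_tree lc_e_rc_4_1 lc_e_rc_4_1 lc_e_Cert_tree lc_e_rc_21_1 lc_e_rc_34_0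 lc_e_rc_37_2 lc_e_rc_35_2 lc_e_rc_13_1 lc_e_rc_35_2 lc_e_rc_37_2 lc_e_rc_35_2 lc_e_rc_38_2 lc_e_rc_37_2 lc_e_rc_39_2 lc_e_rc_4_1 lc_e_Cert_tree lc_e_rc_4_1 lc_e_rc_4_1 lc_e_Cert_tree lc_e_rc_21_1 lc_e_rc_34_0 lc_e_rc_37_2 lc_e_rc_35_2 lc_e_rc_13_1 lc_e_rc_13_1 lc_e_rc_37_2 lc_e_rc_35_2 lc_e_rc_38_2 lc_e_rc_37_2 lc_e_rc_39_2 lc_e_rc_13_1) (@D3.rec (fun _ => (Cert rels S Gen.e)) lc_e_Cert_tree lc_e_rc_4_1 lc_e_rc_34_0 lc_e_rc_37_2 lc_e_rc_35_2 lc_e_rc_4_1 lc_e_rc_4_1 lc_e_rc_34_0 lc_e_rc_37_2 lc_e_rc_35_2 lc_e_Cert_tree lc_e_rc_21_1 lc_e_rc_37_2 lc_e_rc_35_2 lc_e_rc_38_2 lc_e_rc_37_2 lc_e_rc_39_2 lc_e_rc_36_2 lc_e_rc_38_2 lc_e_rc_37_2 lc_e_rc_28_3 lc_e_rc_39_2 lc_e_rc_38_2 lc_e_rc_39_2 lc_e_rc_34_0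 lc_e_rc_37_2 lc_e_rc_4_1 lc_e_rc_34_0 lc_e_rc_37_2 lc_e_rc_37_2 lc_e_rc_35_2 lc_e_rc_38_2 lc_e_rc_37_2 lc_e_rc_36_2 lc_e_rc_38_2 lc_e_rc_37_2 lc_e_rc_28_3 lc_e_rc_39_2 lc_e_rc_38_2 lc_e_rc_39_2 lc_e_rc_34_0 lc_e_rc_37_2 lc_e_rc_37_2 lc_e_rc_35_2 lc_e_rc_38_2 lc_e_rc_37_2 lc_e_rc_28_3 lc_e_rc_37_2 lc_e_rc_35_2 lc_e_rc_38_2 lc_e_rc_37_2) (@D3.rec (fun _ => (Cert rels S Gen.e)) lc_e_rc_36_2 lc_e_rc_38_2 lc_e_rc_37_2 lc_e_rc_28_3 lc_e_rc_39_2 lc_e_rc_38_2 lc_e_rc_39_2 lc_e_rc_36_2 lc_e_rc_36_2 lc_e_rc_38_2 lc_e_rc_28_3 lc_e_rc_39_2 lc_e_rc_21_1 lc_e_rc_28_3 lc_e_rc_39_2 lc_e_rc_4_1 lc_e_Cert_tree lc_e_rc_4_1 lc_e_rc_4_1 lc_e_Cert_tree lc_e_rc_21_1 lc_e_rc_34_0 lc_e_rc_37_2 lc_e_rc_35_2 lc_e_rc_13_1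 lc_e_rc_13_1 lc_e_rc_37_2 lc_e_rc_35_2 lc_e_rc_38_2 lc_e_rc_37_2 lc_e_rc_39_2 lc_e_Cert_tree lc_e_rc_4_1 lc_e_rc_34_0 lc_e_rc_37_2 lc_e_rc_35_2 lc_e_rc_4_1 lc_e_rc_4_1 lc_e_rc_34_0 lc_e_rc_37_2 lc_e_rc_35_2 lc_e_Cert_tree lc_e_rc_21_1 lc_e_rc_37_2 lc_e_rc_35_2 lc_e_rc_38_2 lc_e_rc_37_2 lc_e_rc_39_2 lc_e_rc_36_2 lc_e_rc_38_2 lc_e_rc_37_2) (@D3.rec (fun _ => (Cert rels S Gen.e)) lc_e_rc_28_3 lc_e_rc_39_2 lc_e_rc_38_2 lc_e_rc_39_2 lc_e_rc_34_0 lc_e_rc_37_2 lc_e_rc_35_2 lc_e_rc_4_1 lc_e_rc_37_2 lc_e_rc_35_2 lc_e_rc_38_2 lc_e_rc_37_2 lc_e_rc_39_2 lc_e_rc_37_2 lc_e_rc_35_2 lc_e_rc_38_2 lc_e_rc_37_2 lc_e_Cert_tree lc_e_rc_39_2 lc_e_rc_34_0 lc_e_rc_39_2 lc_e_rc_13_1 lc_e_rc_38_2 lc_e_rc_37_2 lc_e_rc_28_3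 lc_e_rc_39_2 lc_e_rc_38_2 lc_e_rc_39_2 lc_e_rc_36_2 lc_e_rc_35_2 lc_e_rc_38_2 lc_e_rc_28_3 lc_e_rc_39_2 lc_e_rc_21_1 lc_e_rc_28_3 lc_e_rc_39_2 lc_e_rc_4_1 lc_e_rc_38_2 lc_e_rc_37_2 lc_e_rc_4_1 lc_e_rc_39_2 lc_e_rc_38_2 lc_e_rc_39_2 lc_e_rc_13_1 lc_e_rc_35_2 lc_e_rc_38_2 lc_e_rc_28_3 lc_e_rc_39_2 lc_e_rc_21_1 lc_e_rc_28_3 lc_e_rc_39_2) (@D3.rec (fun _ => (Cert rels S Gen.e)) lc_e_rc_37_2 lc_e_rc_35_2 lc_e_Cert_tree lc_e_rc_36_2 lc_e_rc_28_3 lc_e_rc_39_2 lc_e_rc_21_1 lc_e_rc_28_3 lc_e_rc_13_1 lc_e_rc_21_1 lc_e_rc_35_2 lc_e_rc_13_1 lc_e_rc_4_1 lc_e_rc_13_1 lc_e_Cert_tree lc_e_rc_35_2 lc_e_rc_28_3 lc_e_rc_36_2 lc_e_rc_35_2 lc_e_Cert_tree lc_e_rc_34_0 lc_e_Cert_tree lc_e_rc_34_0 lc_e_rc_36_2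 lc_e_Cert_tree lc_e_rc_34_0 lc_e_rc_28_3 lc_e_rc_36_2 lc_e_rc_36_2 lc_e_rc_34_0 lc_e_rc_36_2 lc_e_rc_34_0 lc_e_rc_28_3 lc_e_rc_21_1 lc_e_rc_37_2 lc_e_rc_34_0 lc_e_rc_13_1 lc_e_rc_13_1 lc_e_rc_13_3 lc_e_rc_35_2 lc_e_rc_21_1 lc_e_rc_38_2 lc_e_rc_28_3 lc_e_rc_37_2 lc_e_rc_13_1 lc_e_rc_13_1 lc_e_Cert_tree lc_e_rc_21_1 lc_e_rc_38_2 lc_e_rc_4_1 lc_e_rc_4_1) (@D3.rec (fun _ => (Cert rels S Gen.e)) lc_e_rc_21_1 lc_e_Cert_tree lc_e_rc_13_1 lc_e_rc_13_1 lc_e_rc_34_0 lc_e_rc_35_2 lc_e_rc_38_2 lc_e_rc_21_1 lc_e_rc_37_2 lc_e_rc_13_1 lc_e_rc_13_1 lc_e_Cert_tree lc_e_rc_21_1 lc_e_rc_38_2 lc_e_rc_4_1 lc_e_rc_4_1 lc_e_rc_21_1 lc_e_Cert_tree lc_e_rc_13_1 lc_e_rc_13_1 lc_e_rc_34_0 lc_e_rc_28_1 lc_e_rc_35_2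 lc_e_rc_39_2 lc_e_rc_37_2 lc_e_rc_38_2 lc_e_rc_21_1 lc_e_Cert_tree lc_e_rc_13_1 lc_e_rc_34_0 lc_e_rc_37_2 lc_e_rc_21_1 lc_e_rc_4_1 lc_e_Cert_tree lc_e_rc_4_1 lc_e_rc_4_1 lc_e_Cert_tree lc_e_rc_21_1 lc_e_rc_34_0 lc_e_rc_37_2 lc_e_rc_35_2 lc_e_rc_13_1 lc_e_rc_13_1 lc_e_rc_37_2 lc_e_rc_35_2 lc_e_rc_39_0 lc_e_rc_13_3 lc_e_rc_39_2 lc_e_Cert_tree lc_e_rc_34_0 lc_e_rc_37_2) (@D3.rec (fun _ => (Cert rels S Gen.e)) lc_e_rc_13_1 lc_e_rc_37_2 lc_e_rc_38_2 lc_e_rc_13_1 lc_e_Cert_tree lc_e_rc_4_1 lc_e_rc_34_0 lc_e_rc_37_2 lc_e_rc_35_2 lc_e_rc_4_1 lc_e_rc_34_0 lc_e_rc_37_2 lc_e_rc_35_2 lc_e_Cert_tree lc_e_rc_37_2 lc_e_rc_35_2 lc_e_rc_38_2 lc_e_rc_37_2 lc_e_rc_39_2 lc_e_rc_21_3 lc_e_rc_38_2 lc_e_rc_37_2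 lc_e_rc_28_3 lc_e_rc_39_2 lc_e_rc_13_3 lc_e_rc_39_2 lc_e_rc_4_1 lc_e_rc_4_1 lc_e_rc_21_1 lc_e_Cert_tree lc_e_rc_35_2 lc_e_rc_37_2 lc_e_rc_34_0 lc_e_rc_4_3 lc_e_rc_35_2 lc_e_rc_39_2 lc_e_rc_21_1 lc_e_rc_21_1 lc_e_Cert_tree lc_e_rc_4_1 lc_e_Cert_tree lc_e_rc_21_1 lc_e_rc_34_0 lc_e_rc_35_2 lc_e_rc_28_1 lc_e_rc_35_2 lc_e_rc_21_1 lc_e_rc_21_1 lc_e_Cert_tree lc_e_rc_4_1 lc_e_Cert_tree) (@D3.rec (fun _ => (Cert rels S Gen.e)) lc_e_rc_21_1 lc_e_rc_34_0 lc_e_rc_37_2 lc_e_rc_35_2 lc_e_rc_36_2 lc_e_rc_37_2 lc_e_rc_35_2 lc_e_rc_13_3 lc_e_rc_37_2 lc_e_rc_39_2 lc_e_Cert_tree lc_e_rc_34_0 lc_e_rc_37_2 lc_e_rc_4_1 lc_e_rc_34_0 lc_e_rc_37_2 lc_e_rc_35_2 lc_e_Cert_tree lc_e_rc_37_2 lc_e_rc_35_2 lc_e_rc_39_0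 lc_e_rc_39_2 lc_e_rc_39_2 lc_e_rc_37_2 lc_e_Cert_tree lc_e_rc_34_0 lc_e_rc_37_2 lc_e_rc_4_1 lc_e_rc_34_0 lc_e_rc_37_2 lc_e_rc_35_2 lc_e_rc_37_2 lc_e_rc_35_2 lc_e_rc_38_2 lc_e_rc_37_2 lc_e_rc_35_0 lc_e_rc_38_2 lc_e_rc_37_2 lc_e_rc_28_3 lc_e_rc_39_2 lc_e_rc_38_2 lc_e_rc_39_2 lc_e_rc_34_0 lc_e_rc_37_2 lc_e_rc_37_2 lc_e_rc_38_2 lc_e_rc_28_3 lc_e_rc_37_2 lc_e_rc_35_2 lc_e_rc_38_2 lc_e_rc_37_2) (@D3.rec (fun _ => (Cert rels S Gen.e)) lc_e_Cert_tree lc_e_rc_34_0 lc_e_rc_56_53 lc_e_rc_38_2 lc_e_rc_37_2 lc_e_rc_36_2 lc_e_rc_39_2 lc_e_rc_35_0 lc_e_rc_34_0 lc_e_rc_37_2 lc_e_rc_37_2 lc_e_rc_35_2 lc_e_rc_38_2 lc_e_rc_37_2 lc_e_rc_28_3 lc_e_rc_37_2 lc_e_rc_35_2 lc_e_rc_38_2 lc_e_rc_37_2 lc_e_rc_36_2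 lc_e_rc_38_2 lc_e_rc_37_2 lc_e_rc_28_3 lc_e_rc_38_2 lc_e_rc_36_2 lc_e_rc_35_2 lc_e_rc_38_2 lc_e_rc_28_3 lc_e_rc_21_1 lc_e_rc_34_0 lc_e_rc_37_2 lc_e_rc_4_1 lc_e_rc_37_2 lc_e_rc_38_2 lc_e_rc_4_1 lc_e_rc_38_2 lc_e_rc_28_3 lc_e_rc_35_2 lc_e_rc_36_2 lc_e_rc_38_2 lc_e_rc_36_2 lc_e_Cert_tree lc_e_rc_34_0 lc_e_rc_37_2 lc_e_rc_4_1 lc_e_rc_34_0 lc_e_rc_37_2 lc_e_rc_35_2 lc_e_Cert_tree lc_e_rc_37_2 lc_e_rc_35_2) (@D3.rec (fun _ => (Cert rels S Gen.e)) lc_e_rc_37_2 lc_e_rc_56_46 lc_e_rc_39_2 lc_e_rc_21_3 lc_e_rc_34_0 lc_e_rc_37_2 lc_e_rc_37_2 lc_e_rc_38_2 lc_e_rc_28_3 lc_e_rc_37_2 lc_e_rc_35_2 lc_e_rc_38_2 lc_e_rc_37_2 lc_e_Cert_tree lc_e_rc_34_0 lc_e_rc_38_2 lc_e_rc_37_2 lc_e_rc_37_2 lc_e_rc_35_2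 lc_e_rc_39_2 lc_e_rc_21_1 lc_e_rc_38_2 lc_e_rc_4_1 lc_e_rc_21_1 lc_e_Cert_tree lc_e_rc_34_0 lc_e_rc_36_2 lc_e_rc_34_0 lc_e_rc_37_2 lc_e_rc_37_2 lc_e_rc_28_3 lc_e_rc_37_2 lc_e_rc_35_2 lc_e_rc_37_2 lc_e_Cert_tree lc_e_rc_34_0 lc_e_rc_36_2 lc_e_rc_37_2 lc_e_rc_28_3 lc_e_rc_39_2 lc_e_rc_28_3 lc_e_rc_4_1 lc_e_rc_35_2 lc_e_Cert_tree lc_e_rc_34_0 lc_e_rc_36_2 lc_e_rc_21_1 lc_e_rc_13_1 lc_e_rc_21_1 lc_e_rc_35_2 lc_e_rc_37_2)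
def ce_e_3 : D2 → D3 → (Cert rels S Gen.e) := @D2.rec (fun _ => D3 → (Cert rels S Gen.e)) (@D3.rec (fun _ => (Cert rels S Gen.e)) lc_e_rc_21_1 lc_e_Cert_tree lc_e_rc_13_1 lc_e_rc_34_0 lc_e_rc_35_2 lc_e_rc_39_2 lc_e_Cert_tree lc_e_rc_34_0 lc_e_rc_35_2 lc_e_rc_28_3 lc_e_rc_36_2 lc_e_rc_36_2 lc_e_rc_21_1 lc_e_rc_28_3 lc_e_rc_37_2 lc_e_rc_13_1 lc_e_rc_21_1 lc_e_rc_38_2 lc_e_rc_13_1 lc_e_Cert_tree lc_e_rc_28_3 lc_e_rc_38_2 lc_e_rc_34_0 lc_e_rc_38_2 lc_e_rc_21_1 lc_e_rc_21_1 lc_e_rc_34_0 lc_e_rc_38_2 lc_e_rc_38_2 lc_e_rc_34_0 lc_e_rc_13_1 lc_e_rc_55_58 lc_e_rc_35_2 lc_e_rc_37_2 lc_e_rc_4_1 lc_e_rc_34_0 lc_e_rc_21_1 lc_e_rc_35_2 lc_e_rc_56_11 lc_e_rc_36_2 lc_e_rc_38_2 lc_e_rc_28_3 lc_e_rc_37_2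 lc_e_rc_36_2 lc_e_rc_37_2 lc_e_rc_28_3 lc_e_rc_36_2 lc_e_rc_35_2 lc_e_rc_4_1 lc_e_rc_34_0 lc_e_rc_4_1) (@D3.rec (fun _ => (Cert rels S Gen.e)) lc_e_rc_37_2 lc_e_rc_34_0 lc_e_rc_35_2 lc_e_rc_4_1 lc_e_rc_34_0 lc_e_rc_21_3 lc_e_rc_4_1 lc_e_rc_37_2 lc_e_rc_35_2 lc_e_rc_37_2 lc_e_rc_37_2 lc_e_rc_37_2 lc_e_rc_21_3 lc_e_rc_36_2 lc_e_rc_38_2 lc_e_rc_28_3 lc_e_rc_13_3 lc_e_rc_38_2 lc_e_rc_34_0 lc_e_rc_37_2 lc_e_rc_4_1 lc_e_rc_37_2 lc_e_rc_35_2 lc_e_rc_38_2 lc_e_rc_37_2 lc_e_rc_4_1 lc_e_rc_38_2 lc_e_rc_37_2 lc_e_rc_4_1 lc_e_rc_36_2 lc_e_rc_28_3 lc_e_rc_36_2 lc_e_rc_38_2 lc_e_rc_37_2 lc_e_rc_38_2 lc_e_rc_37_2 lc_e_rc_35_2 lc_e_rc_38_2 lc_e_rc_28_3 lc_e_rc_21_1 lc_e_rc_13_1 lc_e_rc_37_2 lc_e_rc_38_2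 lc_e_rc_4_1 lc_e_rc_4_1 lc_e_rc_38_2 lc_e_rc_4_1 lc_e_rc_37_2 lc_e_rc_35_2 lc_e_rc_38_2 lc_e_rc_4_1) (@D3.rec (fun _ => (Cert rels S Gen.e)) lc_e_Cert_tree lc_e_rc_34_0 lc_e_rc_35_2 lc_e_Cert_tree lc_e_Cert_tree lc_e_rc_34_0 lc_e_Cert_tree lc_e_rc_34_0 lc_e_rc_36_2 lc_e_Cert_tree lc_e_rc_34_0 lc_e_Cert_tree lc_e_rc_34_0 lc_e_rc_36_2 lc_e_Cert_tree lc_e_rc_34_0 lc_e_rc_28_3 lc_e_rc_21_1 lc_e_rc_37_2 lc_e_Cert_tree lc_e_rc_34_0 lc_e_rc_28_3 lc_e_rc_21_1 lc_e_rc_37_2 lc_e_rc_34_0 lc_e_rc_28_3 lc_e_rc_13_1 lc_e_Cert_tree lc_e_rc_28_3 lc_e_rc_21_1 lc_e_rc_38_2 lc_e_rc_4_1 lc_e_rc_4_1 lc_e_rc_21_1 lc_e_Cert_tree lc_e_rc_28_3 lc_e_rc_13_1 lc_e_rc_34_0 lc_e_rc_37_2 lc_e_rc_35_2 lc_e_rc_28_3 lc_e_rc_35_2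 lc_e_Cert_tree lc_e_rc_34_0 lc_e_Cert_tree lc_e_rc_34_0 lc_e_rc_36_2 lc_e_Cert_tree lc_e_rc_34_0 lc_e_rc_36_2 lc_e_Cert_tree) (@D3.rec (fun _ => (Cert rels S Gen.e)) lc_e_rc_34_0 lc_e_rc_28_3 lc_e_rc_21_1 lc_e_rc_37_2 lc_e_rc_34_0 lc_e_rc_28_3 lc_e_rc_21_1 lc_e_rc_37_2 lc_e_rc_34_0 lc_e_rc_13_1 lc_e_rc_13_1 lc_e_Cert_tree lc_e_rc_35_2 lc_e_rc_21_1 lc_e_rc_38_2 lc_e_rc_34_0 lc_e_rc_28_3 lc_e_rc_21_1 lc_e_rc_37_2 lc_e_rc_34_0 lc_e_rc_13_1 lc_e_rc_13_1 lc_e_Cert_tree lc_e_rc_35_2 lc_e_rc_21_1 lc_e_rc_38_2 lc_e_rc_13_1 lc_e_rc_13_1 lc_e_Cert_tree lc_e_rc_35_2 lc_e_rc_21_1 lc_e_rc_38_2 lc_e_rc_4_1 lc_e_rc_4_1 lc_e_rc_21_1 lc_e_Cert_tree lc_e_rc_13_1 lc_e_rc_13_1 lc_e_rc_34_0 lc_e_rc_37_2 lc_e_rc_35_2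 lc_e_rc_39_2 lc_e_rc_21_1 lc_e_rc_21_1 lc_e_Cert_tree lc_e_rc_13_1 lc_e_rc_13_1 lc_e_rc_34_0 lc_e_rc_37_2 lc_e_rc_35_2 lc_e_rc_39_2) (@D3.rec (fun _ => (Cert rels S Gen.e)) lc_e_rc_21_1 lc_e_rc_4_1 lc_e_Cert_tree lc_e_rc_4_1 lc_e_rc_4_1 lc_e_Cert_tree lc_e_rc_21_1 lc_e_rc_34_0 lc_e_rc_37_2 lc_e_rc_35_2 lc_e_rc_13_1 lc_e_rc_13_1 lc_e_rc_37_2 lc_e_rc_35_2 lc_e_rc_38_2 lc_e_rc_37_2 lc_e_rc_39_2 lc_e_Cert_tree lc_e_rc_34_0 lc_e_rc_28_3 lc_e_rc_35_2 lc_e_rc_35_2 lc_e_rc_34_0 lc_e_rc_13_1 lc_e_rc_36_2 lc_e_Cert_tree lc_e_rc_35_2 lc_e_rc_21_1 lc_e_rc_38_2 lc_e_rc_4_1 lc_e_rc_4_1 lc_e_rc_21_1 lc_e_Cert_tree lc_e_rc_13_1 lc_e_rc_37_2 lc_e_rc_34_0 lc_e_rc_37_2 lc_e_rc_35_2 lc_e_rc_39_2 lc_e_rc_21_1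 lc_e_rc_34_0 lc_e_rc_28_3 lc_e_rc_13_1 lc_e_Cert_tree lc_e_rc_28_3 lc_e_rc_35_2 lc_e_rc_35_2 lc_e_rc_4_1 lc_e_rc_4_1 lc_e_rc_21_1 lc_e_Cert_tree) (@D3.rec (fun _ => (Cert rels S Gen.e)) lc_e_rc_13_1 lc_e_rc_36_2 lc_e_rc_34_0 lc_e_rc_37_2 lc_e_rc_35_2 lc_e_rc_39_2 lc_e_rc_21_1 lc_e_rc_4_1 lc_e_Cert_tree lc_e_rc_4_1 lc_e_rc_4_1 lc_e_Cert_tree lc_e_rc_21_1 lc_e_rc_34_0 lc_e_rc_37_2 lc_e_rc_35_2 lc_e_rc_13_1 lc_e_rc_36_2 lc_e_rc_37_2 lc_e_rc_35_2 lc_e_rc_38_2 lc_e_rc_37_2 lc_e_rc_39_2 lc_e_rc_4_1 lc_e_rc_4_1 lc_e_rc_21_1 lc_e_Cert_tree lc_e_rc_28_3 lc_e_rc_13_1 lc_e_rc_34_0 lc_e_rc_37_2 lc_e_rc_35_2 lc_e_rc_28_3 lc_e_rc_21_1 lc_e_rc_4_1 lc_e_Cert_tree lc_e_rc_4_1 lc_e_rc_4_1 lc_e_Cert_tree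 lc_e_rc_21_1 lc_e_rc_34_0 lc_e_rc_37_2 lc_e_rc_35_2 lc_e_rc_13_1 lc_e_rc_13_1 lc_e_rc_37_2 lc_e_rc_35_2 lc_e_rc_38_2 lc_e_rc_37_2 lc_e_rc_39_2 lc_e_rc_13_1) (@D3.rec (fun _ => (Cert rels S Gen.e)) lc_e_Cert_tree lc_e_rc_4_1 lc_e_rc_34_0 lc_e_rc_37_2 lc_e_rc_35_2 lc_e_rc_4_1 lc_e_rc_4_1 lc_e_rc_34_0 lc_e_rc_37_2 lc_e_rc_35_2 lc_e_Cert_tree lc_e_rc_21_1 lc_e_rc_37_2 lc_e_rc_35_2 lc_e_rc_38_2 lc_e_rc_37_2 lc_e_rc_39_2 lc_e_rc_36_2 lc_e_rc_38_2 lc_e_rc_37_2 lc_e_rc_36_2 lc_e_rc_39_2 lc_e_rc_38_2 lc_e_rc_39_2 lc_e_rc_13_1 lc_e_rc_34_0 lc_e_rc_37_2 lc_e_rc_21_1 lc_e_rc_4_1 lc_e_rc_34_0 lc_e_rc_37_2 lc_e_rc_13_1 lc_e_rc_37_2 lc_e_rc_35_2 lc_e_rc_38_2 lc_e_rc_37_2 lc_e_rc_34_0 lc_e_rc_37_2 lc_e_rc_4_1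 lc_e_rc_34_0 lc_e_rc_37_2 lc_e_rc_37_2 lc_e_rc_35_2 lc_e_rc_38_2 lc_e_rc_37_2 lc_e_rc_36_2 lc_e_rc_38_2 lc_e_rc_37_2 lc_e_rc_28_3 lc_e_rc_39_2 lc_e_rc_38_2) (@D3.rec (fun _ => (Cert rels S Gen.e)) lc_e_rc_39_2 lc_e_rc_34_0 lc_e_rc_37_2 lc_e_rc_37_2 lc_e_rc_35_2 lc_e_rc_38_2 lc_e_rc_37_2 lc_e_rc_28_3 lc_e_rc_37_2 lc_e_rc_35_2 lc_e_rc_38_2 lc_e_rc_37_2 lc_e_rc_36_2 lc_e_rc_38_2 lc_e_rc_37_2 lc_e_rc_36_2 lc_e_rc_39_2 lc_e_rc_38_2 lc_e_rc_39_2 lc_e_rc_36_2 lc_e_rc_37_2 lc_e_rc_38_2 lc_e_rc_37_2 lc_e_rc_39_2 lc_e_rc_21_1 lc_e_rc_36_2 lc_e_rc_39_2 lc_e_rc_35_2 lc_e_Cert_tree lc_e_Cert_tree lc_e_rc_34_0 lc_e_Cert_tree lc_e_rc_34_0 lc_e_rc_36_2 lc_e_Cert_tree lc_e_rc_34_0 lc_e_rc_28_3 lc_e_rc_36_2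 lc_e_rc_36_2 lc_e_Cert_tree lc_e_rc_34_0 lc_e_rc_34_0 lc_e_rc_36_2 lc_e_rc_34_0 lc_e_rc_28_3 lc_e_rc_21_1 lc_e_rc_37_2 lc_e_rc_34_0 lc_e_rc_13_1 lc_e_rc_13_1 lc_e_Cert_tree) (@D3.rec (fun _ => (Cert rels S Gen.e)) lc_e_rc_35_2 lc_e_rc_21_1 lc_e_rc_38_2 lc_e_rc_34_0 lc_e_rc_28_3 lc_e_rc_28_3 lc_e_rc_21_1 lc_e_rc_37_2 lc_e_rc_13_1 lc_e_rc_13_1 lc_e_Cert_tree lc_e_rc_35_2 lc_e_rc_21_1 lc_e_rc_38_2 lc_e_rc_4_1 lc_e_rc_4_1 lc_e_rc_21_1 lc_e_Cert_tree lc_e_rc_13_1 lc_e_rc_13_1 lc_e_rc_34_0 lc_e_rc_37_2 lc_e_rc_35_2 lc_e_rc_39_2 lc_e_rc_21_1 lc_e_rc_28_3 lc_e_rc_21_1 lc_e_rc_37_2 lc_e_rc_13_1 lc_e_rc_13_1 lc_e_Cert_tree lc_e_rc_35_2 lc_e_rc_21_1 lc_e_rc_38_2 lc_e_rc_4_1 lc_e_rc_4_1 lc_e_rc_21_1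 lc_e_Cert_tree lc_e_rc_13_1 lc_e_rc_13_1 lc_e_rc_34_0 lc_e_rc_37_2 lc_e_rc_35_2 lc_e_rc_39_2 lc_e_rc_21_1 lc_e_Cert_tree lc_e_rc_35_2 lc_e_rc_21_1 lc_e_rc_38_2 lc_e_rc_21_1 lc_e_Cert_tree) (@D3.rec (fun _ => (Cert rels S Gen.e)) lc_e_rc_13_1 lc_e_rc_13_1 lc_e_rc_34_0 lc_e_rc_37_2 lc_e_rc_35_2 lc_e_rc_39_2 lc_e_rc_21_1 lc_e_rc_4_1 lc_e_Cert_tree lc_e_rc_4_1 lc_e_rc_4_1 lc_e_Cert_tree lc_e_rc_21_1 lc_e_rc_34_0 lc_e_rc_37_2 lc_e_rc_35_2 lc_e_rc_13_1 lc_e_rc_13_1 lc_e_rc_37_2 lc_e_rc_35_2 lc_e_rc_38_2 lc_e_rc_37_2 lc_e_rc_39_2 lc_e_rc_34_0 lc_e_rc_37_2 lc_e_rc_35_2 lc_e_rc_39_2 lc_e_rc_35_2 lc_e_Cert_tree lc_e_rc_21_1 lc_e_rc_34_0 lc_e_rc_37_2 lc_e_rc_35_2 lc_e_rc_13_1 lc_e_rc_13_1 lc_e_rc_37_2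 lc_e_rc_35_2 lc_e_rc_38_2 lc_e_rc_37_2 lc_e_rc_39_2 lc_e_rc_13_1 lc_e_Cert_tree lc_e_rc_4_1 lc_e_rc_34_0 lc_e_rc_37_2 lc_e_rc_35_2 lc_e_rc_4_1 lc_e_rc_4_1 lc_e_rc_34_0 lc_e_rc_37_2 lc_e_rc_35_2) (@D3.rec (fun _ => (Cert rels S Gen.e)) lc_e_Cert_tree lc_e_rc_21_1 lc_e_rc_37_2 lc_e_rc_35_2 lc_e_rc_38_2 lc_e_rc_37_2 lc_e_rc_39_2 lc_e_rc_36_2 lc_e_rc_38_2 lc_e_rc_37_2 lc_e_rc_28_3 lc_e_rc_39_2 lc_e_rc_38_2 lc_e_rc_39_2 lc_e_rc_4_1 lc_e_rc_4_1 lc_e_rc_21_1 lc_e_Cert_tree lc_e_rc_13_1 lc_e_rc_37_2 lc_e_rc_34_0 lc_e_rc_37_2 lc_e_rc_35_2 lc_e_rc_39_2 lc_e_rc_21_1 lc_e_rc_4_1 lc_e_Cert_tree lc_e_rc_4_1 lc_e_rc_4_1 lc_e_Cert_tree lc_e_rc_21_1 lc_e_rc_34_0 lc_e_rc_37_2 lc_e_rc_35_2 lc_e_rc_13_1 lc_e_rc_35_2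 lc_e_rc_37_2 lc_e_rc_35_2 lc_e_rc_38_2 lc_e_rc_37_2 lc_e_rc_39_2 lc_e_rc_4_1 lc_e_Cert_tree lc_e_rc_4_1 lc_e_rc_4_1 lc_e_Cert_tree lc_e_rc_21_1 lc_e_rc_34_0 lc_e_rc_37_2 lc_e_rc_35_2 lc_e_rc_13_1) (@D3.rec (fun _ => (Cert rels S Gen.e)) lc_e_rc_36_2 lc_e_rc_37_2 lc_e_rc_35_2 lc_e_rc_38_2 lc_e_rc_37_2 lc_e_rc_39_2 lc_e_rc_13_1 lc_e_Cert_tree lc_e_rc_4_1 lc_e_rc_34_0 lc_e_rc_37_2 lc_e_rc_35_2 lc_e_rc_4_1 lc_e_rc_4_1 lc_e_rc_34_0 lc_e_rc_37_2 lc_e_rc_35_2 lc_e_Cert_tree lc_e_rc_21_1 lc_e_rc_37_2 lc_e_rc_35_2 lc_e_rc_38_2 lc_e_rc_37_2 lc_e_rc_39_2 lc_e_rc_36_2 lc_e_rc_38_2 lc_e_rc_37_2 lc_e_rc_28_3 lc_e_rc_39_2 lc_e_rc_38_2 lc_e_rc_39_2 lc_e_rc_13_1 lc_e_Cert_tree lc_e_rc_4_1 lc_e_rc_34_0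 lc_e_rc_37_2 lc_e_rc_35_2 lc_e_rc_4_1 lc_e_rc_4_1 lc_e_rc_34_0 lc_e_rc_37_2 lc_e_rc_35_2 lc_e_rc_13_1 lc_e_rc_21_1 lc_e_rc_37_2 lc_e_rc_35_2 lc_e_rc_38_2 lc_e_rc_37_2 lc_e_rc_39_2 lc_e_rc_36_2 lc_e_rc_38_2) (@D3.rec (fun _ => (Cert rels S Gen.e)) lc_e_rc_37_2 lc_e_rc_28_3 lc_e_rc_39_2 lc_e_rc_38_2 lc_e_rc_39_2 lc_e_Cert_tree lc_e_rc_34_0 lc_e_rc_37_2 lc_e_rc_35_2 lc_e_rc_4_1 lc_e_rc_37_2 lc_e_rc_35_2 lc_e_rc_38_2 lc_e_rc_37_2 lc_e_rc_39_2 lc_e_rc_28_3 lc_e_rc_37_2 lc_e_rc_35_2 lc_e_rc_38_2 lc_e_rc_37_2 lc_e_Cert_tree lc_e_rc_39_2 lc_e_rc_34_0 lc_e_rc_39_2 lc_e_rc_13_1 lc_e_rc_38_2 lc_e_rc_37_2 lc_e_rc_28_3 lc_e_rc_39_2 lc_e_rc_38_2 lc_e_rc_39_2 lc_e_rc_36_2 lc_e_rc_35_2 lc_e_rc_38_2 lc_e_rc_28_3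 lc_e_rc_39_2 lc_e_rc_21_1 lc_e_rc_28_3 lc_e_rc_39_2 lc_e_rc_37_2 lc_e_rc_38_2 lc_e_rc_28_3 lc_e_rc_37_2 lc_e_rc_38_2 lc_e_rc_36_2 lc_e_rc_38_2 lc_e_rc_37_2 lc_e_rc_28_3 lc_e_rc_38_2 lc_e_rc_36_2 lc_e_rc_35_2) (@D3.rec (fun _ => (Cert rels S Gen.e)) lc_e_rc_38_2 lc_e_rc_28_3 lc_e_rc_39_2 lc_e_rc_21_1 lc_e_rc_28_3 lc_e_rc_39_2 lc_e_rc_4_1 lc_e_rc_37_2 lc_e_rc_38_2 lc_e_rc_4_1 lc_e_rc_38_2 lc_e_rc_37_2 lc_e_rc_4_1 lc_e_rc_38_2 lc_e_rc_28_3 lc_e_rc_35_2 lc_e_rc_36_2 lc_e_rc_38_2 lc_e_rc_37_2 lc_e_rc_28_3 lc_e_rc_38_2 lc_e_rc_36_2 lc_e_rc_36_2 lc_e_rc_38_2 lc_e_rc_28_3 lc_e_rc_39_2 lc_e_rc_21_1 lc_e_rc_28_3 lc_e_rc_39_2 lc_e_rc_37_2 lc_e_rc_36_2 lc_e_Cert_tree lc_e_rc_36_2 lc_e_rc_28_3 lc_e_rc_39_2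 lc_e_rc_21_1 lc_e_rc_28_3 lc_e_rc_13_1 lc_e_rc_21_1 lc_e_rc_35_2 lc_e_Cert_tree lc_e_rc_4_1 lc_e_rc_34_0 lc_e_rc_37_2 lc_e_rc_35_2 lc_e_rc_4_1 lc_e_rc_4_1 lc_e_rc_34_0 lc_e_rc_37_2 lc_e_rc_35_2 lc_e_Cert_tree) (@D3.rec (fun _ => (Cert rels S Gen.e)) lc_e_rc_21_1 lc_e_rc_37_2 lc_e_rc_35_2 lc_e_rc_38_2 lc_e_rc_37_2 lc_e_rc_39_2 lc_e_rc_36_2 lc_e_rc_38_2 lc_e_rc_37_2 lc_e_rc_28_3 lc_e_rc_39_2 lc_e_rc_38_2 lc_e_rc_39_2 lc_e_rc_34_0 lc_e_rc_37_2 lc_e_rc_35_2 lc_e_rc_4_1 lc_e_rc_37_2 lc_e_rc_35_2 lc_e_rc_38_2 lc_e_rc_37_2 lc_e_rc_39_2 lc_e_rc_28_3 lc_e_rc_37_2 lc_e_rc_35_2 lc_e_rc_38_2 lc_e_rc_37_2 lc_e_Cert_tree lc_e_rc_39_2 lc_e_rc_34_0 lc_e_rc_39_2 lc_e_rc_13_1 lc_e_rc_38_2 lc_e_rc_37_2 lc_e_rc_28_3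 lc_e_rc_39_2 lc_e_rc_38_2 lc_e_rc_39_2 lc_e_rc_36_2 lc_e_rc_35_2 lc_e_rc_38_2 lc_e_rc_28_3 lc_e_rc_39_2 lc_e_rc_21_1 lc_e_rc_28_3 lc_e_rc_39_2 lc_e_rc_37_2 lc_e_rc_35_2 lc_e_rc_38_2 lc_e_rc_37_2 lc_e_rc_39_2) (@D3.rec (fun _ => (Cert rels S Gen.e)) lc_e_rc_4_1 lc_e_rc_38_2 lc_e_rc_37_2 lc_e_rc_4_1 lc_e_rc_39_2 lc_e_rc_38_2 lc_e_rc_39_2 lc_e_rc_21_1 lc_e_rc_38_2 lc_e_rc_37_2 lc_e_Cert_tree lc_e_rc_39_2 lc_e_rc_38_2 lc_e_Cert_tree lc_e_rc_39_2 lc_e_rc_34_0 lc_e_rc_39_2 lc_e_rc_36_2 lc_e_rc_39_2 lc_e_rc_13_1 lc_e_rc_35_2 lc_e_rc_38_2 lc_e_rc_28_3 lc_e_rc_39_2 lc_e_rc_21_1 lc_e_rc_28_3 lc_e_rc_39_2 lc_e_rc_37_2 lc_e_rc_35_2 lc_e_Cert_tree lc_e_rc_36_2 lc_e_rc_28_3 lc_e_rc_39_2 lc_e_rc_21_1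 lc_e_rc_28_3 lc_e_rc_13_1 lc_e_rc_21_1 lc_e_rc_35_2 lc_e_rc_4_1 lc_e_rc_4_1 lc_e_rc_38_2 lc_e_rc_4_1 lc_e_rc_39_2 lc_e_rc_21_1 lc_e_rc_39_2 lc_e_rc_39_2 lc_e_rc_13_1 lc_e_rc_35_2 lc_e_Cert_tree lc_e_rc_36_2 lc_e_rc_28_3) (@D3.rec (fun _ => (Cert rels S Gen.e)) lc_e_rc_39_2 lc_e_rc_21_1 lc_e_rc_28_3 lc_e_rc_13_1 lc_e_rc_21_1 lc_e_rc_35_2 lc_e_rc_36_4 lc_e_rc_13_3 lc_e_rc_34_0 lc_e_rc_13_3 lc_e_rc_13_1 lc_e_rc_35_2 lc_e_rc_4_1 lc_e_rc_13_1 lc_e_rc_21_1 lc_e_rc_4_1 lc_e_rc_4_1 lc_e_rc_34_0 lc_e_rc_35_2 lc_e_rc_39_2 lc_e_Cert_tree lc_e_rc_34_0 lc_e_rc_35_2 lc_e_rc_34_0 lc_e_rc_28_3 lc_e_rc_36_2 lc_e_rc_36_2 lc_e_rc_34_0 lc_e_rc_13_1 lc_e_rc_13_1 lc_e_rc_28_3 lc_e_rc_37_2 lc_e_rc_13_1 lc_e_rc_13_1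 lc_e_rc_13_3 lc_e_rc_21_1 lc_e_rc_38_2 lc_e_rc_4_1 lc_e_rc_4_1 lc_e_rc_21_1 lc_e_rc_4_3 lc_e_rc_13_1 lc_e_rc_13_1 lc_e_rc_28_3 lc_e_rc_38_2 lc_e_rc_21_1 lc_e_Cert_tree lc_e_rc_13_1 lc_e_rc_34_0 lc_e_rc_38_2 lc_e_rc_21_1) (@D3.rec (fun _ => (Cert rels S Gen.e)) lc_e_rc_4_1 lc_e_Cert_tree lc_e_rc_4_1 lc_e_rc_4_1 lc_e_Cert_tree lc_e_rc_21_1 lc_e_rc_34_0 lc_e_rc_35_2 lc_e_rc_37_0 lc_e_rc_13_1 lc_e_rc_38_2 lc_e_rc_21_1 lc_e_Cert_tree lc_e_rc_13_1 lc_e_rc_34_0 lc_e_rc_28_1 lc_e_rc_21_1 lc_e_rc_4_1 lc_e_rc_28_3 lc_e_rc_4_1 lc_e_rc_4_1 lc_e_Cert_tree lc_e_rc_21_1 lc_e_rc_34_0 lc_e_rc_28_1 lc_e_rc_35_2 lc_e_rc_13_1 lc_e_rc_37_2 lc_e_rc_28_1 lc_e_Cert_tree lc_e_rc_34_0 lc_e_rc_37_2 lc_e_rc_13_1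 lc_e_rc_37_2 lc_e_rc_37_2 lc_e_rc_13_1 lc_e_Cert_tree lc_e_rc_4_1 lc_e_rc_34_0 lc_e_rc_28_3 lc_e_rc_35_2 lc_e_rc_38_2 lc_e_rc_34_0 lc_e_rc_37_2 lc_e_rc_35_2 lc_e_Cert_tree lc_e_rc_37_2 lc_e_rc_35_2 lc_e_rc_39_0 lc_e_rc_39_0 lc_e_rc_39_2) (@D3.rec (fun _ => (Cert rels S Gen.e)) lc_e_rc_39_2 lc_e_rc_13_3 lc_e_rc_34_0 lc_e_rc_37_2 lc_e_rc_37_2 lc_e_rc_38_2 lc_e_rc_35_0 lc_e_rc_38_2 lc_e_Cert_tree lc_e_rc_34_0 lc_e_rc_37_2 lc_e_rc_35_2 lc_e_rc_37_2 lc_e_rc_35_2 lc_e_rc_35_0 lc_e_rc_37_2 lc_e_rc_28_3 lc_e_rc_37_2 lc_e_rc_35_2 lc_e_rc_38_2 lc_e_rc_37_2 lc_e_Cert_tree lc_e_rc_34_0 lc_e_rc_36_2 lc_e_rc_38_2 lc_e_rc_37_2 lc_e_rc_28_3 lc_e_rc_39_2 lc_e_rc_28_1 lc_e_rc_39_2 lc_e_rc_39_2 lc_e_rc_28_3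 lc_e_rc_35_0 lc_e_rc_21_1 lc_e_Cert_tree lc_e_rc_4_1 lc_e_Cert_tree lc_e_rc_21_1 lc_e_rc_34_0 lc_e_rc_28_3 lc_e_rc_13_3 lc_e_rc_37_2 lc_e_rc_35_2 lc_e_rc_35_2 lc_e_rc_35_2 lc_e_Cert_tree lc_e_rc_34_0 lc_e_rc_35_2 lc_e_rc_4_1 lc_e_rc_34_0 lc_e_rc_39_0) (@D3.rec (fun _ => (Cert rels S Gen.e)) lc_e_rc_39_2 lc_e_Cert_tree lc_e_Cert_tree lc_e_rc_34_0 lc_e_rc_37_2 lc_e_rc_4_1 lc_e_rc_34_0 lc_e_rc_37_2 lc_e_rc_35_2 lc_e_rc_37_2 lc_e_rc_35_2 lc_e_rc_37_2 lc_e_rc_37_2 lc_e_rc_37_2 lc_e_rc_28_3 lc_e_rc_39_2 lc_e_rc_21_3 lc_e_rc_37_2 lc_e_rc_34_0 lc_e_rc_37_2 lc_e_rc_37_2 lc_e_rc_35_2 lc_e_rc_28_3 lc_e_rc_37_2 lc_e_rc_35_2 lc_e_rc_39_0 lc_e_rc_39_2 lc_e_Cert_tree lc_e_rc_34_0 lc_e_rc_34_0 lc_e_rc_37_2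 lc_e_rc_37_2 lc_e_rc_38_2 lc_e_rc_28_3 lc_e_rc_37_2 lc_e_rc_35_2 lc_e_rc_38_2 lc_e_rc_37_2 lc_e_rc_36_2 lc_e_rc_38_2 lc_e_rc_37_2 lc_e_rc_28_3 lc_e_rc_36_2 lc_e_rc_34_0 lc_e_rc_38_2 lc_e_rc_28_3 lc_e_rc_39_2 lc_e_rc_28_3 lc_e_rc_28_1 lc_e_rc_4_1 lc_e_rc_37_2) (@D3.rec (fun _ => (Cert rels S Gen.e)) lc_e_rc_38_2 lc_e_rc_28_3 lc_e_rc_38_2 lc_e_rc_28_3 lc_e_rc_35_2 lc_e_rc_34_1 lc_e_rc_38_2 lc_e_rc_37_2 lc_e_Cert_tree lc_e_rc_36_2 lc_e_Cert_tree lc_e_rc_34_0 lc_e_rc_36_2 lc_e_rc_35_0 lc_e_rc_37_2 lc_e_rc_38_2 lc_e_rc_4_1 lc_e_rc_38_2 lc_e_rc_37_2 lc_e_rc_4_1 lc_e_rc_38_2 lc_e_rc_28_3 lc_e_rc_35_2 lc_e_rc_36_2 lc_e_rc_38_2 lc_e_rc_37_2 lc_e_rc_35_0 lc_e_rc_38_2 lc_e_rc_36_2 lc_e_rc_35_2 lc_e_rc_38_2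 lc_e_rc_28_3 lc_e_rc_21_1 lc_e_rc_35_2 lc_e_rc_35_2 lc_e_rc_28_3 lc_e_rc_21_1 lc_e_rc_13_1 lc_e_rc_35_0 lc_e_rc_37_2 lc_e_rc_38_2 lc_e_rc_4_1 lc_e_rc_4_1 lc_e_rc_4_1 lc_e_rc_38_2 lc_e_rc_4_1 lc_e_Cert_tree lc_e_rc_28_3 lc_e_rc_35_2 lc_e_rc_39_2 lc_e_rc_36_2) (@D3.rec (fun _ => (Cert rels S Gen.e)) lc_e_rc_34_0 lc_e_rc_37_2 lc_e_rc_37_2 lc_e_rc_28_3 lc_e_rc_28_3 lc_e_rc_37_2 lc_e_rc_35_2 lc_e_rc_28_5 lc_e_rc_21_1 lc_e_Cert_tree lc_e_rc_34_0 lc_e_rc_4_1 lc_e_rc_37_2 lc_e_rc_38_2 lc_e_rc_38_2 lc_e_rc_28_3 lc_e_rc_35_2 lc_e_rc_38_2 lc_e_rc_37_2 lc_e_Cert_tree lc_e_rc_35_2 lc_e_Cert_tree lc_e_rc_34_0 lc_e_rc_36_2 lc_e_rc_37_2 lc_e_rc_35_2 lc_e_Cert_tree lc_e_rc_34_0 lc_e_rc_36_2 lc_e_rc_37_2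 lc_e_rc_4_1 lc_e_rc_37_2 lc_e_rc_4_1 lc_e_rc_28_3 lc_e_rc_35_2 lc_e_rc_36_2 lc_e_rc_37_2 lc_e_Cert_tree lc_e_Cert_tree lc_e_rc_34_0 lc_e_rc_36_2 lc_e_rc_21_1 lc_e_rc_35_2 lc_e_rc_4_1 lc_e_Cert_tree lc_e_rc_39_2 lc_e_rc_39_2 lc_e_rc_34_0 lc_e_rc_36_2 lc_e_rc_37_2 lc_e_rc_13_1) (@D3.rec (fun _ => (Cert rels S Gen.e)) lc_e_rc_13_1 lc_e_rc_21_1 lc_e_rc_38_2 lc_e_Cert_tree lc_e_rc_21_1 lc_e_rc_34_0 lc_e_rc_35_2 lc_e_rc_35_2 lc_e_rc_39_2 lc_e_rc_34_0 lc_e_rc_36_2 lc_e_rc_35_2 lc_e_Cert_tree lc_e_rc_28_3 lc_e_rc_38_2 lc_e_rc_34_0 lc_e_rc_28_3 lc_e_rc_13_3 lc_e_rc_13_1 lc_e_rc_37_2 lc_e_rc_38_2 lc_e_rc_4_1 lc_e_rc_4_1 lc_e_rc_38_2 lc_e_rc_37_2 lc_e_rc_4_3 lc_e_rc_35_2 lc_e_rc_38_2 lc_e_rc_38_2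 lc_e_rc_21_1 lc_e_rc_13_1 lc_e_rc_13_1 lc_e_rc_38_2 lc_e_rc_34_0 lc_e_Cert_tree lc_e_Cert_tree lc_e_rc_34_0 lc_e_Cert_tree lc_e_rc_34_0 lc_e_rc_36_2 lc_e_rc_56_46 lc_e_rc_34_0 lc_e_rc_28_3 lc_e_rc_21_1 lc_e_rc_37_2 lc_e_Cert_tree lc_e_rc_34_0 lc_e_rc_36_2 lc_e_Cert_tree lc_e_rc_34_0 lc_e_rc_28_3) (@D3.rec (fun _ => (Cert rels S Gen.e)) lc_e_rc_21_1 lc_e_rc_37_2 lc_e_rc_34_0 lc_e_rc_28_3 lc_e_rc_13_1 lc_e_Cert_tree lc_e_rc_35_2 lc_e_rc_21_1 lc_e_rc_38_2 lc_e_rc_34_0 lc_e_rc_28_3 lc_e_rc_13_1 lc_e_Cert_tree lc_e_rc_28_3 lc_e_rc_21_1 lc_e_rc_38_2 lc_e_rc_4_1 lc_e_rc_4_1 lc_e_rc_21_1 lc_e_Cert_tree lc_e_rc_28_3 lc_e_rc_13_1 lc_e_rc_34_0 lc_e_rc_37_2 lc_e_rc_35_2 lc_e_rc_28_3 lc_e_rc_21_1 lc_e_rc_21_1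 lc_e_Cert_tree lc_e_rc_4_1 lc_e_rc_4_1 lc_e_Cert_tree lc_e_rc_21_1 lc_e_rc_34_0 lc_e_rc_37_2 lc_e_rc_35_2 lc_e_rc_28_3 lc_e_rc_13_1 lc_e_rc_37_2 lc_e_rc_35_2 lc_e_rc_38_2 lc_e_rc_37_2 lc_e_rc_39_2 lc_e_Cert_tree lc_e_rc_34_0 lc_e_rc_36_2 lc_e_Cert_tree lc_e_rc_34_0 lc_e_rc_28_3 lc_e_rc_36_2 lc_e_rc_36_2) (@D3.rec (fun _ => (Cert rels S Gen.e)) lc_e_rc_34_0 lc_e_rc_28_3 lc_e_rc_21_1 lc_e_rc_37_2 lc_e_rc_34_0 lc_e_rc_13_1 lc_e_rc_13_1 lc_e_Cert_tree lc_e_rc_35_2 lc_e_rc_21_1 lc_e_rc_38_2 lc_e_rc_13_1 lc_e_rc_13_1 lc_e_Cert_tree lc_e_rc_35_2 lc_e_rc_21_1 lc_e_rc_38_2 lc_e_rc_4_1 lc_e_rc_4_1 lc_e_rc_21_1 lc_e_Cert_tree lc_e_rc_13_1 lc_e_rc_13_1 lc_e_rc_34_0 lc_e_rc_37_2 lc_e_rc_35_2 lc_e_rc_39_2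 lc_e_rc_21_1 lc_e_rc_13_1 lc_e_rc_13_1 lc_e_Cert_tree lc_e_rc_35_2 lc_e_rc_21_1 lc_e_rc_38_2 lc_e_rc_4_1 lc_e_rc_4_1 lc_e_rc_21_1 lc_e_Cert_tree lc_e_rc_13_1 lc_e_rc_13_1 lc_e_rc_34_0 lc_e_rc_37_2 lc_e_rc_35_2 lc_e_rc_39_2 lc_e_rc_21_1 lc_e_rc_21_1 lc_e_Cert_tree lc_e_rc_13_1 lc_e_rc_13_1 lc_e_rc_34_0 lc_e_rc_37_2) (@D3.rec (fun _ => (Cert rels S Gen.e)) lc_e_rc_35_2 lc_e_rc_39_2 lc_e_rc_21_1 lc_e_rc_4_1 lc_e_Cert_tree lc_e_rc_4_1 lc_e_rc_4_1 lc_e_Cert_tree lc_e_rc_21_1 lc_e_rc_34_0 lc_e_rc_37_2 lc_e_rc_35_2 lc_e_rc_13_1 lc_e_rc_13_1 lc_e_rc_37_2 lc_e_rc_35_2 lc_e_rc_38_2 lc_e_rc_37_2 lc_e_rc_39_2 lc_e_Cert_tree lc_e_rc_21_1 lc_e_rc_34_0 lc_e_rc_37_2 lc_e_rc_35_2 lc_e_rc_13_1 lc_e_rc_13_1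 lc_e_rc_37_2 lc_e_rc_35_2 lc_e_rc_38_2 lc_e_rc_37_2 lc_e_rc_39_2 lc_e_rc_13_1 lc_e_Cert_tree lc_e_rc_4_1 lc_e_rc_34_0 lc_e_rc_37_2 lc_e_rc_35_2 lc_e_rc_4_1 lc_e_rc_4_1 lc_e_rc_34_0 lc_e_rc_37_2 lc_e_rc_35_2 lc_e_Cert_tree lc_e_rc_21_1 lc_e_rc_37_2 lc_e_rc_35_2 lc_e_rc_38_2 lc_e_rc_37_2 lc_e_rc_39_2 lc_e_rc_36_2 lc_e_rc_38_2) (@D3.rec (fun _ => (Cert rels S Gen.e)) lc_e_rc_37_2 lc_e_rc_28_3 lc_e_rc_39_2 lc_e_rc_38_2 lc_e_rc_39_2 lc_e_rc_34_0 lc_e_rc_28_3 lc_e_rc_13_1 lc_e_Cert_tree lc_e_rc_28_3 lc_e_rc_35_2 lc_e_rc_35_2 lc_e_rc_4_1 lc_e_rc_4_1 lc_e_rc_21_1 lc_e_Cert_tree lc_e_rc_13_1 lc_e_rc_37_2 lc_e_rc_34_0 lc_e_rc_37_2 lc_e_rc_35_2 lc_e_rc_39_2 lc_e_rc_21_1 lc_e_rc_4_1 lc_e_Cert_tree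 lc_e_rc_4_1 lc_e_rc_4_1 lc_e_Cert_tree lc_e_rc_21_1 lc_e_rc_34_0 lc_e_rc_37_2 lc_e_rc_35_2 lc_e_rc_13_1 lc_e_rc_37_2 lc_e_rc_37_2 lc_e_rc_35_2 lc_e_rc_38_2 lc_e_rc_37_2 lc_e_rc_39_2 lc_e_rc_4_1 lc_e_rc_35_2 lc_e_rc_21_1 lc_e_Cert_tree lc_e_rc_28_3 lc_e_rc_13_1 lc_e_rc_34_0 lc_e_rc_37_2 lc_e_rc_35_2 lc_e_rc_28_3 lc_e_rc_35_2 lc_e_rc_4_1)
def ce_e_4 : D2 → D3 → (Cert rels S Gen.e) := @D2.rec (fun _ => D3 → (Cert rels S Gen.e)) (@D3.rec (fun _ => (Cert rels S Gen.e)) lc_e_Cert_tree lc_e_rc_4_1 lc_e_rc_4_1 lc_e_Cert_tree lc_e_rc_21_1 lc_e_rc_34_0 lc_e_rc_37_2 lc_e_rc_35_2 lc_e_rc_13_1 lc_e_rc_36_2 lc_e_rc_37_2 lc_e_rc_35_2 lc_e_rc_38_2 lc_e_rc_37_2 lc_e_rc_39_2 lc_e_rc_13_1 lc_e_Cert_tree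 lc_e_rc_4_1 lc_e_rc_34_0 lc_e_rc_37_2 lc_e_rc_35_2 lc_e_rc_4_1 lc_e_rc_4_1 lc_e_rc_34_0 lc_e_rc_37_2 lc_e_rc_35_2 lc_e_Cert_tree lc_e_rc_21_1 lc_e_rc_37_2 lc_e_rc_35_2 lc_e_rc_38_2 lc_e_rc_37_2 lc_e_rc_39_2 lc_e_rc_36_2 lc_e_rc_38_2 lc_e_rc_37_2 lc_e_rc_36_2 lc_e_rc_39_2 lc_e_rc_38_2 lc_e_rc_39_2 lc_e_rc_21_1 lc_e_rc_35_0 lc_e_rc_4_1 lc_e_rc_4_1 lc_e_Cert_tree lc_e_rc_21_1 lc_e_rc_34_0 lc_e_rc_37_2 lc_e_rc_35_2 lc_e_rc_28_3 lc_e_rc_13_1) (@D3.rec (fun _ => (Cert rels S Gen.e)) lc_e_rc_37_2 lc_e_rc_35_2 lc_e_rc_38_2 lc_e_rc_37_2 lc_e_rc_39_2 lc_e_rc_13_1 lc_e_Cert_tree lc_e_rc_4_1 lc_e_rc_34_0 lc_e_rc_37_2 lc_e_rc_35_2 lc_e_rc_4_1 lc_e_rc_4_1 lc_e_rc_34_0 lc_e_rc_37_2 lc_e_rc_35_2 lc_e_Cert_tree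 lc_e_rc_21_1 lc_e_rc_37_2 lc_e_rc_35_2 lc_e_rc_38_2 lc_e_rc_37_2 lc_e_rc_39_2 lc_e_rc_36_2 lc_e_rc_38_2 lc_e_rc_37_2 lc_e_rc_28_3 lc_e_rc_39_2 lc_e_rc_38_2 lc_e_rc_39_2 lc_e_Cert_tree lc_e_rc_13_1 lc_e_rc_34_0 lc_e_rc_37_2 lc_e_rc_35_2 lc_e_rc_28_3 lc_e_rc_4_1 lc_e_rc_37_2 lc_e_rc_35_2 lc_e_rc_38_2 lc_e_rc_37_2 lc_e_rc_39_2 lc_e_rc_28_3 lc_e_rc_37_2 lc_e_rc_35_2 lc_e_rc_38_2 lc_e_rc_37_2 lc_e_Cert_tree lc_e_rc_39_2 lc_e_rc_34_0 lc_e_rc_39_2) (@D3.rec (fun _ => (Cert rels S Gen.e)) lc_e_rc_13_1 lc_e_rc_38_2 lc_e_rc_37_2 lc_e_rc_36_2 lc_e_rc_39_2 lc_e_rc_38_2 lc_e_rc_39_2 lc_e_rc_36_2 lc_e_rc_35_2 lc_e_rc_38_2 lc_e_rc_37_2 lc_e_rc_39_2 lc_e_rc_21_1 lc_e_rc_36_2 lc_e_rc_39_2 lc_e_rc_13_1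 lc_e_rc_37_2 lc_e_rc_38_2 lc_e_rc_4_1 lc_e_rc_37_2 lc_e_rc_38_2 lc_e_rc_36_2 lc_e_rc_38_2 lc_e_rc_37_2 lc_e_rc_28_3 lc_e_rc_38_2 lc_e_rc_37_2 lc_e_rc_38_2 lc_e_rc_28_3 lc_e_rc_37_2 lc_e_rc_38_2 lc_e_rc_36_2 lc_e_rc_38_2 lc_e_rc_37_2 lc_e_rc_35_0 lc_e_rc_38_2 lc_e_rc_36_2 lc_e_rc_35_2 lc_e_rc_38_2 lc_e_rc_28_3 lc_e_rc_39_2 lc_e_rc_21_1 lc_e_rc_35_0 lc_e_rc_39_2 lc_e_rc_28_3 lc_e_rc_37_2 lc_e_rc_38_2 lc_e_rc_4_1 lc_e_rc_38_2 lc_e_rc_37_2 lc_e_rc_4_1) (@D3.rec (fun _ => (Cert rels S Gen.e)) lc_e_rc_38_2 lc_e_rc_28_3 lc_e_rc_35_2 lc_e_rc_36_2 lc_e_rc_38_2 lc_e_rc_37_2 lc_e_rc_39_2 lc_e_rc_38_2 lc_e_rc_36_2 lc_e_rc_37_2 lc_e_rc_38_2 lc_e_rc_37_2 lc_e_rc_39_2 lc_e_rc_21_1 lc_e_rc_36_2 lc_e_rc_39_2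 lc_e_rc_37_2 lc_e_rc_38_2 lc_e_Cert_tree lc_e_rc_37_2 lc_e_rc_38_2 lc_e_rc_39_2 lc_e_rc_21_1 lc_e_rc_37_2 lc_e_rc_13_1 lc_e_rc_21_1 lc_e_rc_35_2 lc_e_rc_4_3 lc_e_rc_21_3 lc_e_rc_34_0 lc_e_rc_34_0 lc_e_rc_35_2 lc_e_rc_34_0 lc_e_rc_28_3 lc_e_rc_36_2 lc_e_rc_36_2 lc_e_rc_34_0 lc_e_rc_13_1 lc_e_rc_13_1 lc_e_Cert_tree lc_e_rc_35_2 lc_e_rc_36_2 lc_e_rc_34_0 lc_e_rc_28_3 lc_e_rc_28_3 lc_e_rc_21_1 lc_e_rc_37_2 lc_e_rc_13_1 lc_e_rc_13_1 lc_e_Cert_tree lc_e_rc_35_2) (@D3.rec (fun _ => (Cert rels S Gen.e)) lc_e_rc_21_1 lc_e_rc_38_2 lc_e_rc_4_1 lc_e_rc_4_1 lc_e_rc_21_1 lc_e_Cert_tree lc_e_rc_13_1 lc_e_rc_13_1 lc_e_rc_34_0 lc_e_rc_37_2 lc_e_rc_35_2 lc_e_rc_39_2 lc_e_rc_21_1 lc_e_rc_21_1 lc_e_rc_21_1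 lc_e_rc_28_3 lc_e_rc_21_1 lc_e_rc_35_2 lc_e_rc_21_1 lc_e_rc_38_2 lc_e_rc_21_1 lc_e_Cert_tree lc_e_rc_13_1 lc_e_rc_13_1 lc_e_rc_34_0 lc_e_rc_37_2 lc_e_rc_35_2 lc_e_rc_39_2 lc_e_rc_21_1 lc_e_Cert_tree lc_e_rc_4_1 lc_e_Cert_tree lc_e_rc_34_0 lc_e_rc_37_2 lc_e_rc_35_2 lc_e_rc_39_2 lc_e_rc_13_1 lc_e_rc_37_2 lc_e_rc_35_2 lc_e_rc_38_2 lc_e_rc_37_2 lc_e_rc_39_2 lc_e_rc_37_2 lc_e_rc_35_2 lc_e_rc_28_1 lc_e_rc_35_2 lc_e_rc_21_1 lc_e_Cert_tree lc_e_rc_13_1 lc_e_rc_13_1 lc_e_rc_34_0) (@D3.rec (fun _ => (Cert rels S Gen.e)) lc_e_rc_37_2 lc_e_rc_35_2 lc_e_rc_39_2 lc_e_rc_21_1 lc_e_rc_4_1 lc_e_Cert_tree lc_e_rc_4_1 lc_e_rc_4_1 lc_e_Cert_tree lc_e_rc_21_1 lc_e_rc_34_0 lc_e_rc_37_2 lc_e_rc_35_2 lc_e_rc_13_1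 lc_e_rc_37_2 lc_e_rc_37_2 lc_e_rc_35_2 lc_e_rc_38_2 lc_e_rc_37_2 lc_e_rc_39_2 lc_e_rc_34_0 lc_e_rc_37_2 lc_e_rc_35_2 lc_e_rc_39_2 lc_e_rc_35_2 lc_e_Cert_tree lc_e_rc_21_1 lc_e_rc_34_0 lc_e_rc_37_2 lc_e_rc_35_2 lc_e_rc_13_1 lc_e_rc_13_1 lc_e_rc_37_2 lc_e_rc_35_2 lc_e_rc_38_2 lc_e_rc_37_2 lc_e_rc_39_2 lc_e_rc_13_1 lc_e_Cert_tree lc_e_rc_4_1 lc_e_rc_34_0 lc_e_rc_37_2 lc_e_rc_35_2 lc_e_rc_4_1 lc_e_rc_4_1 lc_e_rc_34_0 lc_e_rc_37_2 lc_e_rc_35_2 lc_e_Cert_tree lc_e_rc_21_1 lc_e_rc_37_2) (@D3.rec (fun _ => (Cert rels S Gen.e)) lc_e_rc_35_2 lc_e_rc_38_2 lc_e_rc_37_2 lc_e_rc_39_2 lc_e_rc_36_2 lc_e_rc_38_2 lc_e_rc_37_2 lc_e_rc_28_3 lc_e_rc_39_2 lc_e_rc_38_2 lc_e_rc_39_2 lc_e_rc_37_2 lc_e_rc_35_2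 lc_e_rc_13_3 lc_e_rc_37_2 lc_e_rc_39_2 lc_e_rc_34_0 lc_e_rc_37_2 lc_e_rc_35_2 lc_e_rc_21_1 lc_e_rc_37_2 lc_e_rc_35_2 lc_e_rc_38_2 lc_e_rc_37_2 lc_e_rc_39_2 lc_e_rc_36_2 lc_e_rc_38_2 lc_e_rc_37_2 lc_e_rc_28_3 lc_e_rc_39_2 lc_e_rc_38_2 lc_e_rc_39_2 lc_e_Cert_tree lc_e_rc_13_1 lc_e_rc_34_0 lc_e_rc_37_2 lc_e_rc_35_2 lc_e_rc_35_2 lc_e_rc_4_1 lc_e_rc_37_2 lc_e_rc_35_2 lc_e_rc_38_2 lc_e_rc_37_2 lc_e_rc_39_2 lc_e_rc_28_3 lc_e_rc_37_2 lc_e_rc_35_2 lc_e_rc_38_2 lc_e_rc_37_2 lc_e_Cert_tree lc_e_rc_39_2) (@D3.rec (fun _ => (Cert rels S Gen.e)) lc_e_rc_34_0 lc_e_rc_39_2 lc_e_rc_13_1 lc_e_rc_38_2 lc_e_rc_37_2 lc_e_rc_28_3 lc_e_rc_39_2 lc_e_rc_38_2 lc_e_rc_39_2 lc_e_rc_36_2 lc_e_rc_35_2 lc_e_rc_38_2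 lc_e_rc_28_3 lc_e_rc_39_2 lc_e_rc_21_1 lc_e_rc_28_3 lc_e_rc_39_2 lc_e_rc_4_1 lc_e_Cert_tree lc_e_rc_4_1 lc_e_rc_4_1 lc_e_Cert_tree lc_e_rc_21_1 lc_e_rc_34_0 lc_e_rc_37_2 lc_e_rc_35_2 lc_e_rc_13_1 lc_e_rc_37_2 lc_e_rc_37_2 lc_e_rc_35_2 lc_e_rc_38_2 lc_e_rc_37_2 lc_e_rc_39_2 lc_e_rc_13_1 lc_e_Cert_tree lc_e_rc_4_1 lc_e_rc_34_0 lc_e_rc_37_2 lc_e_rc_35_2 lc_e_rc_4_1 lc_e_rc_4_1 lc_e_rc_34_0 lc_e_rc_37_2 lc_e_rc_35_2 lc_e_Cert_tree lc_e_rc_21_1 lc_e_rc_37_2 lc_e_rc_35_2 lc_e_rc_38_2 lc_e_rc_37_2 lc_e_rc_39_2) (@D3.rec (fun _ => (Cert rels S Gen.e)) lc_e_rc_36_2 lc_e_rc_38_2 lc_e_rc_37_2 lc_e_rc_28_3 lc_e_rc_39_2 lc_e_rc_38_2 lc_e_rc_39_2 lc_e_rc_13_1 lc_e_Cert_tree lc_e_rc_4_1 lc_e_rc_34_0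 lc_e_rc_37_2 lc_e_rc_35_2 lc_e_rc_4_1 lc_e_rc_4_1 lc_e_rc_34_0 lc_e_rc_37_2 lc_e_rc_35_2 lc_e_rc_13_1 lc_e_rc_21_1 lc_e_rc_37_2 lc_e_rc_35_2 lc_e_rc_38_2 lc_e_rc_37_2 lc_e_rc_39_2 lc_e_rc_36_2 lc_e_rc_38_2 lc_e_rc_37_2 lc_e_rc_28_3 lc_e_rc_39_2 lc_e_rc_38_2 lc_e_rc_39_2 lc_e_Cert_tree lc_e_rc_34_0 lc_e_rc_37_2 lc_e_rc_35_2 lc_e_rc_4_1 lc_e_rc_37_2 lc_e_rc_35_2 lc_e_rc_38_2 lc_e_rc_37_2 lc_e_rc_39_2 lc_e_rc_28_3 lc_e_rc_37_2 lc_e_rc_35_2 lc_e_rc_38_2 lc_e_rc_37_2 lc_e_Cert_tree lc_e_rc_39_2 lc_e_rc_34_0 lc_e_rc_39_2) (@D3.rec (fun _ => (Cert rels S Gen.e)) lc_e_rc_13_1 lc_e_rc_38_2 lc_e_rc_37_2 lc_e_rc_28_3 lc_e_rc_39_2 lc_e_rc_38_2 lc_e_rc_39_2 lc_e_rc_36_2 lc_e_rc_35_2 lc_e_rc_38_2 lc_e_rc_28_3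 lc_e_rc_39_2 lc_e_rc_21_1 lc_e_rc_28_3 lc_e_rc_39_2 lc_e_Cert_tree lc_e_rc_34_0 lc_e_rc_37_2 lc_e_rc_35_2 lc_e_rc_4_1 lc_e_rc_37_2 lc_e_rc_35_2 lc_e_rc_38_2 lc_e_rc_37_2 lc_e_rc_39_2 lc_e_rc_28_3 lc_e_rc_37_2 lc_e_rc_35_2 lc_e_rc_38_2 lc_e_rc_37_2 lc_e_Cert_tree lc_e_rc_39_2 lc_e_rc_4_3 lc_e_rc_13_1 lc_e_rc_38_2 lc_e_rc_37_2 lc_e_rc_28_3 lc_e_rc_39_2 lc_e_rc_38_2 lc_e_rc_39_2 lc_e_rc_36_2 lc_e_rc_35_2 lc_e_rc_38_2 lc_e_rc_28_3 lc_e_rc_39_2 lc_e_rc_21_1 lc_e_rc_28_3 lc_e_rc_39_2 lc_e_rc_34_0 lc_e_rc_37_2 lc_e_rc_4_1) (@D3.rec (fun _ => (Cert rels S Gen.e)) lc_e_rc_37_2 lc_e_rc_35_2 lc_e_rc_38_2 lc_e_rc_37_2 lc_e_rc_39_2 lc_e_rc_4_1 lc_e_rc_38_2 lc_e_rc_37_2 lc_e_rc_4_1 lc_e_rc_39_2 lc_e_rc_38_2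 lc_e_rc_39_2 lc_e_rc_28_3 lc_e_rc_35_2 lc_e_rc_21_1 lc_e_rc_38_2 lc_e_rc_37_2 lc_e_Cert_tree lc_e_rc_39_2 lc_e_rc_38_2 lc_e_Cert_tree lc_e_rc_39_2 lc_e_rc_34_0 lc_e_rc_39_2 lc_e_rc_36_2 lc_e_rc_39_2 lc_e_rc_13_1 lc_e_rc_35_2 lc_e_rc_38_2 lc_e_rc_28_3 lc_e_rc_39_2 lc_e_rc_21_1 lc_e_rc_28_3 lc_e_rc_39_2 lc_e_rc_37_2 lc_e_rc_35_2 lc_e_Cert_tree lc_e_rc_36_2 lc_e_rc_28_3 lc_e_rc_39_2 lc_e_rc_21_1 lc_e_rc_28_3 lc_e_rc_13_1 lc_e_rc_21_1 lc_e_rc_35_2 lc_e_rc_4_1 lc_e_rc_38_2 lc_e_rc_28_3 lc_e_rc_35_2 lc_e_rc_36_2 lc_e_rc_38_2) (@D3.rec (fun _ => (Cert rels S Gen.e)) lc_e_rc_36_2 lc_e_rc_35_2 lc_e_rc_38_2 lc_e_rc_28_3 lc_e_rc_21_1 lc_e_rc_37_2 lc_e_rc_35_2 lc_e_Cert_tree lc_e_rc_35_2 lc_e_rc_28_3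 lc_e_rc_39_2 lc_e_rc_21_1 lc_e_rc_28_3 lc_e_rc_13_1 lc_e_rc_21_1 lc_e_rc_35_2 lc_e_rc_4_1 lc_e_rc_4_1 lc_e_rc_4_1 lc_e_rc_38_2 lc_e_rc_4_1 lc_e_rc_4_1 lc_e_rc_38_2 lc_e_rc_4_1 lc_e_rc_21_1 lc_e_Cert_tree lc_e_rc_28_3 lc_e_rc_35_2 lc_e_rc_35_2 lc_e_rc_39_2 lc_e_rc_36_2 lc_e_rc_21_1 lc_e_rc_38_2 lc_e_rc_28_3 lc_e_rc_28_3 lc_e_rc_37_2 lc_e_rc_36_2 lc_e_Cert_tree lc_e_rc_36_2 lc_e_rc_28_3 lc_e_rc_39_2 lc_e_rc_21_1 lc_e_rc_28_3 lc_e_rc_13_1 lc_e_rc_21_1 lc_e_rc_35_2 lc_e_rc_37_2 lc_e_Cert_tree lc_e_rc_36_2 lc_e_rc_39_2 lc_e_rc_34_0) (@D3.rec (fun _ => (Cert rels S Gen.e)) lc_e_rc_39_2 lc_e_rc_13_3 lc_e_rc_13_3 lc_e_rc_13_1 lc_e_rc_36_2 lc_e_rc_35_2 lc_e_rc_4_1 lc_e_rc_13_1 lc_e_rc_21_1 lc_e_rc_34_0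 lc_e_rc_13_1 lc_e_rc_35_2 lc_e_rc_4_1 lc_e_rc_37_2 lc_e_rc_35_2 lc_e_rc_21_1 lc_e_rc_37_2 lc_e_rc_39_2 lc_e_rc_28_3 lc_e_rc_37_2 lc_e_rc_35_2 lc_e_rc_4_1 lc_e_rc_37_2 lc_e_Cert_tree lc_e_rc_39_2 lc_e_rc_34_0 lc_e_rc_39_2 lc_e_rc_36_2 lc_e_rc_38_2 lc_e_rc_37_2 lc_e_rc_28_3 lc_e_rc_39_2 lc_e_rc_38_2 lc_e_rc_39_2 lc_e_rc_36_2 lc_e_rc_35_2 lc_e_rc_38_2 lc_e_rc_28_3 lc_e_rc_39_2 lc_e_rc_21_1 lc_e_rc_28_3 lc_e_rc_39_2 lc_e_rc_4_1 lc_e_rc_37_2 lc_e_rc_35_2 lc_e_rc_37_2 lc_e_rc_37_2 lc_e_rc_39_2 lc_e_rc_4_1 lc_e_rc_38_2 lc_e_rc_37_2) (@D3.rec (fun _ => (Cert rels S Gen.e)) lc_e_rc_4_1 lc_e_rc_39_2 lc_e_rc_38_2 lc_e_rc_39_2 lc_e_rc_28_3 lc_e_rc_35_2 lc_e_rc_21_1 lc_e_rc_38_2 lc_e_rc_37_2 lc_e_Cert_tree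 lc_e_rc_39_2 lc_e_rc_38_2 lc_e_Cert_tree lc_e_rc_39_2 lc_e_rc_34_0 lc_e_rc_39_2 lc_e_rc_36_2 lc_e_rc_39_2 lc_e_rc_13_1 lc_e_rc_35_2 lc_e_rc_38_2 lc_e_rc_28_3 lc_e_rc_39_2 lc_e_rc_21_1 lc_e_rc_28_3 lc_e_rc_39_2 lc_e_rc_37_2 lc_e_rc_35_2 lc_e_Cert_tree lc_e_rc_36_2 lc_e_rc_28_3 lc_e_rc_39_2 lc_e_rc_21_1 lc_e_rc_28_3 lc_e_rc_13_1 lc_e_rc_21_1 lc_e_rc_35_2 lc_e_rc_35_0 lc_e_rc_38_2 lc_e_rc_37_2 lc_e_rc_13_1 lc_e_rc_39_2 lc_e_rc_38_2 lc_e_rc_39_2 lc_e_rc_35_0 lc_e_rc_4_1 lc_e_rc_38_2 lc_e_rc_4_1 lc_e_rc_39_2 lc_e_rc_21_1 lc_e_rc_4_1) (@D3.rec (fun _ => (Cert rels S Gen.e)) lc_e_rc_39_2 lc_e_rc_35_0 lc_e_rc_35_2 lc_e_rc_38_2 lc_e_Cert_tree lc_e_rc_39_2 lc_e_Cert_tree lc_e_rc_34_0 lc_e_rc_39_2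 lc_e_Cert_tree lc_e_rc_39_2 lc_e_rc_34_0 lc_e_rc_39_2 lc_e_rc_36_2 lc_e_rc_39_2 lc_e_rc_37_2 lc_e_rc_39_2 lc_e_rc_37_2 lc_e_rc_35_2 lc_e_Cert_tree lc_e_rc_36_2 lc_e_rc_28_3 lc_e_rc_39_2 lc_e_rc_21_1 lc_e_rc_28_3 lc_e_rc_13_1 lc_e_rc_21_1 lc_e_rc_35_2 lc_e_rc_35_2 lc_e_rc_13_3 lc_e_rc_36_2 lc_e_rc_13_3 lc_e_rc_34_0 lc_e_rc_39_2 lc_e_rc_21_1 lc_e_rc_28_3 lc_e_rc_13_1 lc_e_rc_21_1 lc_e_rc_35_2 lc_e_rc_4_1 lc_e_rc_13_1 lc_e_rc_21_1 lc_e_rc_4_1 lc_e_rc_4_1 lc_e_Cert_tree lc_e_rc_4_1 lc_e_rc_4_1 lc_e_rc_39_2 lc_e_rc_21_1 lc_e_rc_39_2 lc_e_rc_13_1) (@D3.rec (fun _ => (Cert rels S Gen.e)) lc_e_rc_39_2 lc_e_rc_39_0 lc_e_rc_21_3 lc_e_Cert_tree lc_e_rc_34_0 lc_e_rc_21_3 lc_e_rc_21_1 lc_e_rc_28_3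 lc_e_rc_13_1 lc_e_rc_21_1 lc_e_rc_35_2 lc_e_rc_4_1 lc_e_rc_13_1 lc_e_rc_21_1 lc_e_rc_4_1 lc_e_rc_4_1 lc_e_rc_13_1 lc_e_rc_35_2 lc_e_rc_39_2 lc_e_rc_34_0 lc_e_rc_55_22 lc_e_rc_35_2 lc_e_rc_13_1 lc_e_rc_13_1 lc_e_rc_21_1 lc_e_rc_28_3 lc_e_rc_38_2 lc_e_rc_21_1 lc_e_rc_21_1 lc_e_rc_13_1 lc_e_rc_4_1 lc_e_rc_4_1 lc_e_rc_21_1 lc_e_rc_21_1 lc_e_rc_28_3 lc_e_rc_37_2 lc_e_rc_34_0 lc_e_rc_38_2 lc_e_rc_13_1 lc_e_rc_35_2 lc_e_rc_34_0 lc_e_rc_21_3 lc_e_rc_34_0 lc_e_rc_35_2 lc_e_rc_28_3 lc_e_Cert_tree lc_e_rc_34_0 lc_e_rc_28_1 lc_e_rc_13_1 lc_e_rc_37_2 lc_e_rc_4_1) (@D3.rec (fun _ => (Cert rels S Gen.e)) lc_e_rc_35_2 lc_e_rc_34_0 lc_e_rc_39_0 lc_e_rc_39_0 lc_e_Cert_tree lc_e_rc_13_1 lc_e_rc_34_0 lc_e_rc_37_2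 lc_e_rc_37_2 lc_e_rc_28_1 lc_e_Cert_tree lc_e_rc_34_0 lc_e_rc_37_2 lc_e_rc_35_2 lc_e_rc_35_2 lc_e_rc_35_2 lc_e_rc_28_3 lc_e_rc_37_2 lc_e_rc_35_2 lc_e_rc_39_0 lc_e_rc_39_0 lc_e_Cert_tree lc_e_rc_34_0 lc_e_rc_39_2 lc_e_rc_37_2 lc_e_rc_28_3 lc_e_rc_37_2 lc_e_rc_38_2 lc_e_rc_35_0 lc_e_rc_38_2 lc_e_rc_34_0 lc_e_rc_37_2 lc_e_rc_4_1 lc_e_rc_37_2 lc_e_rc_35_2 lc_e_rc_35_0 lc_e_rc_37_2 lc_e_rc_37_2 lc_e_rc_4_1 lc_e_rc_4_1 lc_e_rc_28_3 lc_e_rc_35_2 lc_e_rc_36_2 lc_e_rc_38_2 lc_e_rc_37_2 lc_e_Cert_tree lc_e_rc_21_1 lc_e_Cert_tree lc_e_rc_34_0 lc_e_rc_36_2 lc_e_rc_39_2) (@D3.rec (fun _ => (Cert rels S Gen.e)) lc_e_rc_21_1 lc_e_rc_28_3 lc_e_rc_36_2 lc_e_Cert_tree lc_e_rc_34_0 lc_e_rc_13_1 lc_e_rc_4_1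 lc_e_rc_34_0 lc_e_rc_21_1 lc_e_rc_13_3 lc_e_rc_34_0 lc_e_rc_37_2 lc_e_rc_28_3 lc_e_Cert_tree lc_e_rc_34_0 lc_e_rc_34_0 lc_e_rc_37_2 lc_e_rc_37_2 lc_e_rc_37_2 lc_e_rc_28_3 lc_e_rc_37_2 lc_e_rc_35_2 lc_e_rc_37_2 lc_e_rc_37_2 lc_e_rc_4_1 lc_e_rc_37_2 lc_e_rc_38_2 lc_e_rc_28_3 lc_e_rc_35_2 lc_e_Cert_tree lc_e_Cert_tree lc_e_rc_34_0 lc_e_rc_36_2 lc_e_rc_35_0 lc_e_rc_37_2 lc_e_rc_38_2 lc_e_rc_36_2 lc_e_rc_38_2 lc_e_rc_28_3 lc_e_rc_35_2 lc_e_rc_36_2 lc_e_rc_38_2 lc_e_rc_37_2 lc_e_rc_28_3 lc_e_rc_35_2 lc_e_rc_28_3 lc_e_rc_21_1 lc_e_rc_4_1 lc_e_rc_4_1 lc_e_rc_21_1 lc_e_rc_38_2) (@D3.rec (fun _ => (Cert rels S Gen.e)) lc_e_Cert_tree lc_e_rc_28_3 lc_e_rc_35_2 lc_e_Cert_tree lc_e_rc_39_2 lc_e_Cert_tree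 lc_e_rc_34_0 lc_e_Cert_tree lc_e_rc_34_0 lc_e_rc_36_2 lc_e_rc_37_2 lc_e_rc_35_0 lc_e_rc_4_1 lc_e_rc_4_1 lc_e_rc_38_2 lc_e_rc_35_2 lc_e_rc_38_2 lc_e_rc_4_1 lc_e_rc_21_1 lc_e_Cert_tree lc_e_rc_28_3 lc_e_rc_35_2 lc_e_rc_28_1 lc_e_rc_39_2 lc_e_rc_36_2 lc_e_rc_35_2 lc_e_rc_38_2 lc_e_rc_35_0 lc_e_rc_21_1 lc_e_rc_21_1 lc_e_rc_13_1 lc_e_rc_4_1 lc_e_rc_21_1 lc_e_rc_13_1 lc_e_rc_35_0 lc_e_rc_35_0 lc_e_rc_13_1 lc_e_rc_13_1 lc_e_rc_38_2 lc_e_Cert_tree lc_e_rc_4_1 lc_e_rc_4_1 lc_e_rc_4_1 lc_e_rc_4_1 lc_e_rc_34_0 lc_e_rc_38_2 lc_e_rc_35_2 lc_e_rc_35_2 lc_e_rc_39_2 lc_e_rc_35_0 lc_e_rc_37_2) (@D3.rec (fun _ => (Cert rels S Gen.e)) lc_e_rc_13_1 lc_e_rc_13_3 lc_e_rc_36_4 lc_e_Cert_tree lc_e_Cert_tree lc_e_rc_34_0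 lc_e_rc_36_2 lc_e_rc_35_0 lc_e_rc_4_1 lc_e_rc_38_2 lc_e_rc_35_0 lc_e_rc_37_2 lc_e_Cert_tree lc_e_rc_39_2 lc_e_Cert_tree lc_e_Cert_tree lc_e_rc_34_0 lc_e_Cert_tree lc_e_rc_34_0 lc_e_rc_36_2 lc_e_rc_37_2 lc_e_rc_34_0 lc_e_rc_36_2 lc_e_rc_37_2 lc_e_rc_38_2 lc_e_rc_4_1 lc_e_rc_4_1 lc_e_rc_4_1 lc_e_rc_35_0 lc_e_rc_35_2 lc_e_Cert_tree lc_e_rc_39_2 lc_e_Cert_tree lc_e_rc_39_2 lc_e_rc_34_0 lc_e_rc_34_0 lc_e_rc_36_2 lc_e_rc_37_2 lc_e_rc_4_1 lc_e_rc_35_2 lc_e_rc_34_0 lc_e_rc_35_2 lc_e_rc_36_2 lc_e_rc_37_2 lc_e_rc_38_2 lc_e_rc_34_0 lc_e_rc_35_2 lc_e_Cert_tree lc_e_rc_35_2 lc_e_rc_28_3 lc_e_rc_36_2) (@D3.rec (fun _ => (Cert rels S Gen.e)) lc_e_rc_37_2 lc_e_rc_34_0 lc_e_rc_28_3 lc_e_rc_36_2 lc_e_rc_21_1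 lc_e_rc_13_1 lc_e_rc_13_1 lc_e_rc_38_2 lc_e_rc_21_1 lc_e_rc_28_3 lc_e_rc_56_11 lc_e_rc_34_0 lc_e_rc_4_1 lc_e_rc_34_0 lc_e_rc_21_1 lc_e_rc_37_2 lc_e_rc_34_0 lc_e_rc_28_3 lc_e_rc_21_1 lc_e_rc_37_2 lc_e_rc_13_1 lc_e_rc_35_2 lc_e_rc_21_1 lc_e_rc_38_2 lc_e_rc_35_2 lc_e_rc_34_0 lc_e_rc_28_3 lc_e_rc_21_1 lc_e_rc_37_2 lc_e_rc_34_0 lc_e_rc_28_3 lc_e_rc_13_1 lc_e_rc_28_3 lc_e_rc_35_2 lc_e_rc_21_1 lc_e_rc_38_2 lc_e_rc_4_1 lc_e_rc_28_3 lc_e_rc_13_1 lc_e_rc_34_0 lc_e_rc_35_2 lc_e_rc_21_1 lc_e_rc_21_1 lc_e_rc_4_1 lc_e_rc_56_25 lc_e_rc_21_1 lc_e_rc_13_3 lc_e_rc_28_3 lc_e_rc_35_2 lc_e_rc_34_0 lc_e_rc_37_2) (@D3.rec (fun _ => (Cert rels S Gen.e)) lc_e_rc_35_2 lc_e_rc_28_3 lc_e_rc_21_1 lc_e_rc_21_1 lc_e_rc_13_1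 lc_e_rc_4_1 lc_e_rc_35_2 lc_e_rc_21_3 lc_e_rc_21_1 lc_e_rc_34_0 lc_e_rc_37_2 lc_e_rc_35_2 lc_e_rc_28_3 lc_e_rc_35_2 lc_e_rc_37_2 lc_e_rc_35_2 lc_e_rc_37_2 lc_e_rc_37_2 lc_e_rc_39_2 lc_e_rc_13_1 lc_e_rc_37_2 lc_e_rc_21_1 lc_e_rc_34_0 lc_e_rc_35_0 lc_e_rc_35_2 lc_e_rc_4_1 lc_e_rc_4_1 lc_e_rc_34_0 lc_e_rc_35_0 lc_e_rc_35_2 lc_e_Cert_tree lc_e_rc_21_1 lc_e_rc_37_2 lc_e_rc_35_2 lc_e_rc_35_0 lc_e_rc_37_2 lc_e_rc_39_2 lc_e_rc_13_1 lc_e_rc_38_2 lc_e_rc_37_2 lc_e_rc_28_3 lc_e_rc_39_2 lc_e_rc_38_2 lc_e_rc_39_2 lc_e_rc_34_0 lc_e_rc_28_3 lc_e_rc_36_2 lc_e_rc_36_2 lc_e_rc_34_0 lc_e_rc_13_1 lc_e_rc_13_1) (@D3.rec (fun _ => (Cert rels S Gen.e)) lc_e_rc_13_3 lc_e_rc_35_2 lc_e_rc_36_2 lc_e_rc_36_2 lc_e_rc_13_1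 lc_e_rc_13_1 lc_e_Cert_tree lc_e_rc_35_2 lc_e_rc_21_1 lc_e_rc_38_2 lc_e_rc_4_1 lc_e_rc_4_1 lc_e_rc_21_1 lc_e_Cert_tree lc_e_rc_13_1 lc_e_rc_13_1 lc_e_rc_34_0 lc_e_rc_37_2 lc_e_rc_35_2 lc_e_rc_39_2 lc_e_rc_21_1 lc_e_rc_21_1 lc_e_Cert_tree lc_e_rc_13_1 lc_e_rc_13_1 lc_e_rc_34_0 lc_e_rc_37_2 lc_e_rc_35_2 lc_e_rc_39_2 lc_e_rc_21_1 lc_e_Cert_tree lc_e_rc_4_1 lc_e_Cert_tree lc_e_rc_34_0 lc_e_rc_37_2 lc_e_rc_35_2 lc_e_rc_13_1 lc_e_rc_37_2 lc_e_rc_35_2 lc_e_rc_38_2 lc_e_rc_37_2 lc_e_rc_39_2 lc_e_rc_21_1 lc_e_Cert_tree lc_e_rc_13_1 lc_e_rc_13_1 lc_e_rc_34_0 lc_e_rc_37_2 lc_e_rc_35_2 lc_e_rc_39_2 lc_e_rc_21_1) (@D3.rec (fun _ => (Cert rels S Gen.e)) lc_e_rc_4_1 lc_e_Cert_tree lc_e_rc_4_1 lc_e_rc_35_2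 lc_e_Cert_tree lc_e_rc_21_1 lc_e_rc_34_0 lc_e_rc_37_2 lc_e_rc_35_2 lc_e_rc_13_1 lc_e_rc_4_1 lc_e_rc_37_2 lc_e_rc_35_2 lc_e_rc_38_2 lc_e_rc_37_2 lc_e_rc_39_2 lc_e_Cert_tree lc_e_rc_21_1 lc_e_rc_34_0 lc_e_rc_37_2 lc_e_rc_35_2 lc_e_rc_13_1 lc_e_rc_13_1 lc_e_rc_37_2 lc_e_rc_35_2 lc_e_rc_38_2 lc_e_rc_37_2 lc_e_rc_39_2 lc_e_rc_13_1 lc_e_Cert_tree lc_e_rc_4_1 lc_e_rc_34_0 lc_e_rc_37_2 lc_e_rc_35_2 lc_e_rc_4_1 lc_e_rc_37_2 lc_e_rc_34_0 lc_e_rc_37_2 lc_e_rc_35_2 lc_e_Cert_tree lc_e_rc_21_1 lc_e_rc_37_2 lc_e_rc_35_2 lc_e_rc_38_2 lc_e_rc_37_2 lc_e_rc_39_2 lc_e_rc_36_2 lc_e_rc_38_2 lc_e_rc_37_2 lc_e_rc_28_3 lc_e_rc_39_2) (@D3.rec (fun _ => (Cert rels S Gen.e)) lc_e_rc_38_2 lc_e_rc_39_2 lc_e_rc_34_0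 lc_e_rc_37_2 lc_e_rc_35_2 lc_e_rc_28_1 lc_e_rc_21_1 lc_e_rc_37_2 lc_e_rc_35_2 lc_e_rc_38_2 lc_e_rc_37_2 lc_e_rc_39_2 lc_e_rc_36_2 lc_e_rc_38_2 lc_e_rc_37_2 lc_e_rc_28_3 lc_e_rc_39_2 lc_e_rc_38_2 lc_e_rc_39_2 lc_e_Cert_tree lc_e_rc_13_1 lc_e_rc_34_0 lc_e_rc_37_2 lc_e_rc_35_2 lc_e_Cert_tree lc_e_rc_4_1 lc_e_rc_37_2 lc_e_rc_35_2 lc_e_rc_38_2 lc_e_rc_37_2 lc_e_rc_39_2 lc_e_rc_28_3 lc_e_rc_37_2 lc_e_rc_35_2 lc_e_rc_38_2 lc_e_rc_37_2 lc_e_Cert_tree lc_e_rc_39_2 lc_e_rc_34_0 lc_e_rc_39_2 lc_e_rc_13_1 lc_e_rc_38_2 lc_e_rc_37_2 lc_e_rc_28_3 lc_e_rc_39_2 lc_e_rc_38_2 lc_e_rc_39_2 lc_e_rc_36_2 lc_e_rc_35_2 lc_e_rc_38_2 lc_e_rc_28_3) (@D3.rec (fun _ => (Cert rels S Gen.e)) lc_e_rc_39_2 lc_e_rc_21_1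 lc_e_rc_28_3 lc_e_rc_39_2 lc_e_rc_4_1 lc_e_rc_35_2 lc_e_rc_21_1 lc_e_Cert_tree lc_e_rc_28_3 lc_e_rc_13_1 lc_e_rc_34_0 lc_e_rc_37_2 lc_e_rc_35_2 lc_e_rc_28_3 lc_e_rc_35_2 lc_e_rc_4_1 lc_e_Cert_tree lc_e_rc_4_1 lc_e_rc_4_1 lc_e_Cert_tree lc_e_rc_21_1 lc_e_rc_34_0 lc_e_rc_37_2 lc_e_rc_35_2 lc_e_rc_13_1 lc_e_rc_37_2 lc_e_rc_37_2 lc_e_rc_35_2 lc_e_rc_38_2 lc_e_rc_37_2 lc_e_rc_39_2 lc_e_rc_13_1 lc_e_Cert_tree lc_e_rc_4_1 lc_e_rc_34_0 lc_e_rc_37_2 lc_e_rc_35_2 lc_e_rc_4_1 lc_e_rc_4_1 lc_e_rc_34_0 lc_e_rc_37_2 lc_e_rc_35_2 lc_e_Cert_tree lc_e_rc_21_1 lc_e_rc_37_2 lc_e_rc_35_2 lc_e_rc_38_2 lc_e_rc_37_2 lc_e_rc_39_2 lc_e_rc_36_2 lc_e_rc_38_2) (@D3.rec (fun _ => (Cert rels S Gen.e)) lc_e_rc_37_2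 lc_e_rc_36_2 lc_e_rc_39_2 lc_e_rc_38_2 lc_e_rc_39_2 lc_e_rc_21_1 lc_e_Cert_tree lc_e_rc_4_1 lc_e_rc_35_2 lc_e_Cert_tree lc_e_rc_21_1 lc_e_rc_34_0 lc_e_rc_37_2 lc_e_rc_35_2 lc_e_rc_28_3 lc_e_rc_13_1 lc_e_rc_37_2 lc_e_rc_35_2 lc_e_rc_38_2 lc_e_rc_37_2 lc_e_rc_39_2 lc_e_rc_13_1 lc_e_Cert_tree lc_e_rc_4_1 lc_e_rc_34_0 lc_e_rc_37_2 lc_e_rc_35_2 lc_e_rc_4_1 lc_e_rc_4_1 lc_e_rc_34_0 lc_e_rc_37_2 lc_e_rc_35_2 lc_e_Cert_tree lc_e_rc_21_1 lc_e_rc_37_2 lc_e_rc_35_2 lc_e_rc_38_2 lc_e_rc_37_2 lc_e_rc_39_2 lc_e_rc_36_2 lc_e_rc_38_2 lc_e_rc_37_2 lc_e_rc_28_3 lc_e_rc_39_2 lc_e_rc_38_2 lc_e_rc_39_2 lc_e_Cert_tree lc_e_rc_21_1 lc_e_rc_34_0 lc_e_rc_37_2 lc_e_rc_35_2)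
def ce_e_5 : D2 → D3 → (Cert rels S Gen.e) := @D2.rec (fun _ => D3 → (Cert rels S Gen.e)) (@D3.rec (fun _ => (Cert rels S Gen.e)) lc_e_rc_28_3 lc_e_rc_4_1 lc_e_rc_37_2 lc_e_rc_35_2 lc_e_rc_38_2 lc_e_rc_37_2 lc_e_rc_39_2 lc_e_rc_28_3 lc_e_rc_37_2 lc_e_rc_35_2 lc_e_rc_38_2 lc_e_rc_37_2 lc_e_Cert_tree lc_e_rc_39_2 lc_e_rc_34_0 lc_e_rc_39_2 lc_e_rc_13_1 lc_e_rc_38_2 lc_e_rc_37_2 lc_e_rc_36_2 lc_e_rc_39_2 lc_e_rc_38_2 lc_e_rc_39_2 lc_e_rc_36_2 lc_e_rc_35_2 lc_e_rc_38_2 lc_e_rc_37_2 lc_e_rc_39_2 lc_e_rc_21_1 lc_e_rc_36_2 lc_e_rc_39_2 lc_e_rc_13_1 lc_e_rc_21_1 lc_e_rc_21_1 lc_e_rc_35_0 lc_e_rc_28_1 lc_e_rc_4_1 lc_e_rc_4_1 lc_e_rc_34_0 lc_e_rc_37_2 lc_e_rc_35_2 lc_e_Cert_tree lc_e_rc_21_1 lc_e_rc_37_2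 lc_e_rc_35_2 lc_e_rc_38_2 lc_e_rc_37_2 lc_e_rc_39_2 lc_e_rc_36_2 lc_e_rc_38_2 lc_e_rc_37_2) (@D3.rec (fun _ => (Cert rels S Gen.e)) lc_e_rc_28_3 lc_e_rc_39_2 lc_e_rc_38_2 lc_e_rc_39_2 lc_e_Cert_tree lc_e_rc_35_2 lc_e_rc_34_0 lc_e_rc_37_2 lc_e_rc_35_2 lc_e_rc_36_0 lc_e_rc_4_1 lc_e_rc_37_2 lc_e_rc_35_2 lc_e_rc_38_2 lc_e_rc_37_2 lc_e_rc_39_2 lc_e_rc_28_3 lc_e_rc_37_2 lc_e_rc_35_2 lc_e_rc_38_2 lc_e_rc_37_2 lc_e_Cert_tree lc_e_rc_39_2 lc_e_rc_34_0 lc_e_rc_39_2 lc_e_rc_13_1 lc_e_rc_38_2 lc_e_rc_37_2 lc_e_rc_4_1 lc_e_rc_39_2 lc_e_rc_38_2 lc_e_rc_39_2 lc_e_rc_36_2 lc_e_rc_35_2 lc_e_rc_38_2 lc_e_rc_28_3 lc_e_rc_39_2 lc_e_rc_21_1 lc_e_rc_28_3 lc_e_rc_39_2 lc_e_rc_34_0 lc_e_rc_37_2 lc_e_rc_35_2 lc_e_rc_13_1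 lc_e_rc_28_3 lc_e_rc_37_2 lc_e_rc_35_2 lc_e_rc_38_2 lc_e_rc_37_2 lc_e_Cert_tree lc_e_rc_39_2) (@D3.rec (fun _ => (Cert rels S Gen.e)) lc_e_rc_28_3 lc_e_rc_4_1 lc_e_rc_38_2 lc_e_rc_37_2 lc_e_rc_4_1 lc_e_rc_39_2 lc_e_rc_38_2 lc_e_rc_39_2 lc_e_rc_28_3 lc_e_rc_35_2 lc_e_rc_21_1 lc_e_rc_38_2 lc_e_rc_37_2 lc_e_Cert_tree lc_e_rc_39_2 lc_e_rc_38_2 lc_e_Cert_tree lc_e_rc_39_2 lc_e_rc_34_0 lc_e_rc_39_2 lc_e_rc_36_2 lc_e_rc_39_2 lc_e_rc_35_2 lc_e_rc_13_1 lc_e_rc_35_2 lc_e_rc_38_2 lc_e_rc_37_2 lc_e_rc_39_2 lc_e_rc_21_1 lc_e_rc_36_2 lc_e_rc_39_2 lc_e_rc_37_2 lc_e_rc_35_2 lc_e_Cert_tree lc_e_rc_36_2 lc_e_rc_38_2 lc_e_rc_39_2 lc_e_rc_21_1 lc_e_rc_37_2 lc_e_rc_13_1 lc_e_rc_21_1 lc_e_rc_35_2 lc_e_rc_36_2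 lc_e_rc_38_2 lc_e_rc_36_2 lc_e_rc_38_2 lc_e_rc_36_2 lc_e_rc_36_2 lc_e_rc_38_2 lc_e_rc_28_3 lc_e_rc_21_1) (@D3.rec (fun _ => (Cert rels S Gen.e)) lc_e_rc_4_1 lc_e_rc_38_2 lc_e_rc_28_3 lc_e_rc_35_2 lc_e_rc_36_2 lc_e_rc_38_2 lc_e_rc_36_2 lc_e_rc_35_2 lc_e_rc_38_2 lc_e_rc_35_0 lc_e_rc_35_0 lc_e_rc_37_2 lc_e_rc_35_2 lc_e_Cert_tree lc_e_rc_35_2 lc_e_rc_28_3 lc_e_rc_39_2 lc_e_rc_21_1 lc_e_rc_35_0 lc_e_rc_13_1 lc_e_rc_35_0 lc_e_rc_13_1 lc_e_rc_28_3 lc_e_rc_35_2 lc_e_rc_4_1 lc_e_rc_38_2 lc_e_rc_4_1 lc_e_rc_4_1 lc_e_rc_38_2 lc_e_rc_4_1 lc_e_rc_21_1 lc_e_Cert_tree lc_e_rc_28_3 lc_e_rc_35_2 lc_e_rc_39_0 lc_e_rc_39_2 lc_e_rc_36_2 lc_e_rc_21_1 lc_e_rc_38_2 lc_e_rc_39_2 lc_e_rc_39_2 lc_e_rc_37_2 lc_e_rc_38_2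 lc_e_Cert_tree lc_e_rc_37_2 lc_e_rc_38_2 lc_e_rc_39_2 lc_e_rc_21_1 lc_e_rc_37_2 lc_e_rc_13_1 lc_e_rc_21_1) (@D3.rec (fun _ => (Cert rels S Gen.e)) lc_e_rc_35_2 lc_e_rc_38_2 lc_e_Cert_tree lc_e_rc_38_2 lc_e_Cert_tree lc_e_rc_34_0 lc_e_rc_39_2 lc_e_rc_21_1 lc_e_rc_38_2 lc_e_rc_13_1 lc_e_rc_21_1 lc_e_rc_35_2 lc_e_rc_4_1 lc_e_rc_13_1 lc_e_rc_35_2 lc_e_rc_13_1 lc_e_rc_13_1 lc_e_rc_4_1 lc_e_rc_4_1 lc_e_rc_21_1 lc_e_Cert_tree lc_e_rc_13_1 lc_e_rc_34_0 lc_e_rc_36_2 lc_e_rc_21_1 lc_e_Cert_tree lc_e_rc_13_1 lc_e_rc_13_1 lc_e_rc_34_0 lc_e_rc_39_2 lc_e_Cert_tree lc_e_rc_4_1 lc_e_Cert_tree lc_e_rc_34_0 lc_e_rc_37_2 lc_e_rc_35_2 lc_e_rc_39_2 lc_e_rc_37_2 lc_e_rc_35_2 lc_e_rc_37_2 lc_e_rc_36_2 lc_e_rc_39_2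 lc_e_Cert_tree lc_e_rc_35_2 lc_e_rc_34_0 lc_e_rc_37_2 lc_e_rc_35_2 lc_e_rc_35_2 lc_e_rc_13_1 lc_e_rc_37_2 lc_e_rc_35_2) (@D3.rec (fun _ => (Cert rels S Gen.e)) lc_e_rc_39_2 lc_e_rc_34_0 lc_e_rc_37_2 lc_e_rc_4_1 lc_e_rc_34_0 lc_e_rc_37_2 lc_e_rc_37_2 lc_e_rc_35_2 lc_e_rc_38_2 lc_e_rc_37_2 lc_e_rc_39_2 lc_e_rc_36_2 lc_e_rc_38_2 lc_e_rc_37_2 lc_e_rc_35_2 lc_e_rc_39_2 lc_e_rc_38_2 lc_e_rc_39_2 lc_e_rc_37_2 lc_e_rc_39_2 lc_e_Cert_tree lc_e_rc_21_1 lc_e_rc_34_0 lc_e_rc_37_2 lc_e_rc_35_2 lc_e_rc_13_1 lc_e_rc_35_0 lc_e_rc_37_2 lc_e_rc_35_2 lc_e_rc_28_3 lc_e_rc_35_2 lc_e_rc_39_2 lc_e_rc_13_1 lc_e_Cert_tree lc_e_rc_4_1 lc_e_rc_34_0 lc_e_rc_37_2 lc_e_rc_35_2 lc_e_rc_4_1 lc_e_rc_37_2 lc_e_rc_34_0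 lc_e_rc_37_2 lc_e_rc_35_2 lc_e_Cert_tree lc_e_rc_21_1 lc_e_rc_37_2 lc_e_rc_35_2 lc_e_rc_38_2 lc_e_rc_37_2 lc_e_rc_39_2 lc_e_rc_36_2) (@D3.rec (fun _ => (Cert rels S Gen.e)) lc_e_rc_38_2 lc_e_rc_37_2 lc_e_rc_28_3 lc_e_rc_39_2 lc_e_rc_38_2 lc_e_rc_39_2 lc_e_rc_35_2 lc_e_rc_37_2 lc_e_rc_39_2 lc_e_rc_34_0 lc_e_rc_37_2 lc_e_rc_35_2 lc_e_rc_21_1 lc_e_rc_37_2 lc_e_rc_35_2 lc_e_rc_38_2 lc_e_rc_37_2 lc_e_rc_39_2 lc_e_rc_36_2 lc_e_rc_38_2 lc_e_rc_37_2 lc_e_rc_35_2 lc_e_rc_39_2 lc_e_rc_35_2 lc_e_rc_39_2 lc_e_Cert_tree lc_e_rc_13_1 lc_e_rc_34_0 lc_e_rc_37_2 lc_e_rc_35_2 lc_e_rc_35_2 lc_e_rc_4_1 lc_e_rc_37_2 lc_e_rc_35_2 lc_e_rc_38_2 lc_e_rc_37_2 lc_e_rc_39_2 lc_e_rc_28_3 lc_e_rc_37_2 lc_e_rc_35_2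 lc_e_rc_38_2 lc_e_rc_37_2 lc_e_Cert_tree lc_e_rc_39_2 lc_e_rc_34_0 lc_e_rc_39_2 lc_e_rc_13_1 lc_e_rc_38_2 lc_e_rc_37_2 lc_e_rc_28_3 lc_e_rc_39_2) (@D3.rec (fun _ => (Cert rels S Gen.e)) lc_e_rc_38_2 lc_e_rc_39_2 lc_e_rc_36_2 lc_e_rc_35_2 lc_e_rc_38_2 lc_e_rc_28_3 lc_e_rc_39_2 lc_e_rc_21_1 lc_e_rc_28_3 lc_e_rc_39_2 lc_e_rc_37_2 lc_e_rc_28_3 lc_e_rc_39_2 lc_e_rc_35_2 lc_e_rc_39_2 lc_e_rc_28_3 lc_e_rc_37_2 lc_e_rc_35_2 lc_e_rc_38_2 lc_e_rc_37_2 lc_e_rc_39_2 lc_e_rc_13_1 lc_e_rc_38_2 lc_e_rc_37_2 lc_e_rc_28_3 lc_e_rc_39_2 lc_e_rc_38_2 lc_e_rc_39_2 lc_e_rc_36_2 lc_e_rc_35_2 lc_e_rc_38_2 lc_e_rc_28_3 lc_e_rc_39_2 lc_e_rc_21_1 lc_e_rc_28_3 lc_e_rc_39_2 lc_e_rc_34_0 lc_e_rc_37_2 lc_e_rc_35_2 lc_e_rc_13_1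 lc_e_rc_4_1 lc_e_rc_37_2 lc_e_rc_35_2 lc_e_rc_38_2 lc_e_rc_37_2 lc_e_Cert_tree lc_e_rc_39_2 lc_e_rc_21_3 lc_e_rc_4_1 lc_e_rc_38_2 lc_e_rc_37_2) (@D3.rec (fun _ => (Cert rels S Gen.e)) lc_e_rc_4_1 lc_e_rc_39_2 lc_e_rc_38_2 lc_e_rc_39_2 lc_e_rc_28_3 lc_e_rc_35_2 lc_e_rc_21_1 lc_e_rc_38_2 lc_e_rc_37_2 lc_e_Cert_tree lc_e_rc_39_2 lc_e_rc_38_2 lc_e_Cert_tree lc_e_rc_39_2 lc_e_rc_34_0 lc_e_rc_39_2 lc_e_rc_36_2 lc_e_rc_39_2 lc_e_rc_13_1 lc_e_rc_35_2 lc_e_rc_38_2 lc_e_rc_28_3 lc_e_rc_39_2 lc_e_rc_21_1 lc_e_rc_28_3 lc_e_rc_39_2 lc_e_rc_37_2 lc_e_rc_35_2 lc_e_Cert_tree lc_e_rc_36_2 lc_e_rc_28_3 lc_e_rc_39_2 lc_e_rc_21_1 lc_e_rc_28_3 lc_e_rc_28_3 lc_e_rc_21_1 lc_e_rc_35_2 lc_e_rc_13_1 lc_e_Cert_tree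 lc_e_rc_4_1 lc_e_rc_34_0 lc_e_rc_37_2 lc_e_rc_35_2 lc_e_rc_4_1 lc_e_rc_4_1 lc_e_rc_34_0 lc_e_rc_37_2 lc_e_rc_35_2 lc_e_rc_21_3 lc_e_rc_21_1 lc_e_rc_37_2) (@D3.rec (fun _ => (Cert rels S Gen.e)) lc_e_rc_35_2 lc_e_rc_38_2 lc_e_rc_37_2 lc_e_rc_39_2 lc_e_rc_36_2 lc_e_rc_38_2 lc_e_rc_37_2 lc_e_rc_28_3 lc_e_rc_39_2 lc_e_rc_56_39 lc_e_rc_39_2 lc_e_Cert_tree lc_e_rc_34_0 lc_e_rc_37_2 lc_e_rc_35_2 lc_e_rc_4_1 lc_e_rc_37_2 lc_e_rc_35_2 lc_e_rc_38_2 lc_e_rc_37_2 lc_e_rc_39_2 lc_e_rc_28_3 lc_e_rc_37_2 lc_e_rc_35_2 lc_e_rc_38_2 lc_e_rc_37_2 lc_e_Cert_tree lc_e_rc_39_2 lc_e_rc_34_0 lc_e_rc_39_2 lc_e_rc_13_1 lc_e_rc_38_2 lc_e_rc_37_2 lc_e_rc_28_3 lc_e_rc_39_2 lc_e_rc_38_2 lc_e_rc_39_2 lc_e_rc_36_2 lc_e_rc_35_2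 lc_e_rc_38_2 lc_e_rc_28_3 lc_e_rc_39_2 lc_e_rc_21_1 lc_e_rc_28_3 lc_e_rc_39_2 lc_e_Cert_tree lc_e_rc_34_0 lc_e_rc_37_2 lc_e_rc_35_2 lc_e_rc_4_1 lc_e_rc_37_2) (@D3.rec (fun _ => (Cert rels S Gen.e)) lc_e_rc_35_2 lc_e_rc_38_2 lc_e_rc_37_2 lc_e_rc_39_2 lc_e_rc_28_3 lc_e_rc_37_2 lc_e_rc_35_2 lc_e_rc_38_2 lc_e_rc_37_2 lc_e_Cert_tree lc_e_rc_39_2 lc_e_rc_21_3 lc_e_rc_13_1 lc_e_rc_38_2 lc_e_rc_37_2 lc_e_rc_28_3 lc_e_rc_39_2 lc_e_rc_38_2 lc_e_rc_39_2 lc_e_rc_36_2 lc_e_rc_35_2 lc_e_rc_38_2 lc_e_rc_28_3 lc_e_rc_39_2 lc_e_rc_21_1 lc_e_rc_28_3 lc_e_rc_39_2 lc_e_rc_34_0 lc_e_rc_37_2 lc_e_rc_4_1 lc_e_rc_37_2 lc_e_rc_35_2 lc_e_rc_38_2 lc_e_rc_37_2 lc_e_rc_39_2 lc_e_rc_4_1 lc_e_rc_38_2 lc_e_rc_37_2 lc_e_rc_4_1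 lc_e_rc_39_2 lc_e_rc_38_2 lc_e_rc_39_2 lc_e_rc_28_3 lc_e_rc_35_2 lc_e_rc_21_1 lc_e_rc_38_2 lc_e_rc_37_2 lc_e_Cert_tree lc_e_rc_39_2 lc_e_rc_38_2 lc_e_Cert_tree) (@D3.rec (fun _ => (Cert rels S Gen.e)) lc_e_rc_39_2 lc_e_rc_34_0 lc_e_rc_39_2 lc_e_rc_36_2 lc_e_rc_39_2 lc_e_rc_13_1 lc_e_rc_35_2 lc_e_rc_38_2 lc_e_rc_28_3 lc_e_rc_39_2 lc_e_rc_21_1 lc_e_rc_28_3 lc_e_rc_39_2 lc_e_rc_37_2 lc_e_rc_35_2 lc_e_Cert_tree lc_e_rc_36_2 lc_e_rc_28_3 lc_e_rc_39_2 lc_e_rc_21_1 lc_e_rc_28_3 lc_e_rc_13_1 lc_e_rc_21_1 lc_e_rc_35_2 lc_e_rc_34_0 lc_e_rc_37_2 lc_e_rc_37_2 lc_e_rc_35_2 lc_e_rc_38_2 lc_e_rc_37_2 lc_e_rc_39_2 lc_e_rc_4_1 lc_e_rc_38_2 lc_e_rc_37_2 lc_e_rc_39_2 lc_e_rc_38_2 lc_e_rc_39_2 lc_e_rc_28_3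 lc_e_rc_35_2 lc_e_rc_21_1 lc_e_rc_38_2 lc_e_rc_37_2 lc_e_Cert_tree lc_e_rc_39_2 lc_e_rc_38_2 lc_e_Cert_tree lc_e_rc_39_2 lc_e_rc_34_0 lc_e_rc_39_2 lc_e_rc_13_1 lc_e_rc_35_2) (@D3.rec (fun _ => (Cert rels S Gen.e)) lc_e_rc_38_2 lc_e_rc_28_3 lc_e_rc_39_2 lc_e_rc_21_1 lc_e_rc_28_3 lc_e_rc_39_2 lc_e_rc_37_2 lc_e_rc_35_2 lc_e_Cert_tree lc_e_rc_36_2 lc_e_rc_28_3 lc_e_rc_39_2 lc_e_rc_21_1 lc_e_rc_28_3 lc_e_rc_13_1 lc_e_rc_21_1 lc_e_rc_35_2 lc_e_rc_28_3 lc_e_rc_37_2 lc_e_rc_38_2 lc_e_rc_4_1 lc_e_rc_4_1 lc_e_rc_4_1 lc_e_rc_38_2 lc_e_rc_37_2 lc_e_rc_28_3 lc_e_rc_39_2 lc_e_rc_38_2 lc_e_rc_39_2 lc_e_rc_4_1 lc_e_rc_4_1 lc_e_rc_38_2 lc_e_rc_4_1 lc_e_rc_39_2 lc_e_rc_21_1 lc_e_rc_4_1 lc_e_rc_39_2 lc_e_Cert_tree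 lc_e_rc_28_3 lc_e_rc_35_2 lc_e_Cert_tree lc_e_rc_39_2 lc_e_rc_21_1 lc_e_rc_35_2 lc_e_rc_38_2 lc_e_Cert_tree lc_e_rc_39_2 lc_e_Cert_tree lc_e_rc_34_0 lc_e_rc_39_2 lc_e_Cert_tree) (@D3.rec (fun _ => (Cert rels S Gen.e)) lc_e_rc_39_2 lc_e_rc_34_0 lc_e_rc_39_2 lc_e_rc_36_2 lc_e_rc_39_2 lc_e_rc_37_2 lc_e_rc_39_2 lc_e_rc_13_1 lc_e_rc_35_2 lc_e_Cert_tree lc_e_rc_36_2 lc_e_rc_28_3 lc_e_rc_39_2 lc_e_rc_21_1 lc_e_rc_28_3 lc_e_rc_13_1 lc_e_rc_21_1 lc_e_rc_35_2 lc_e_rc_35_2 lc_e_Cert_tree lc_e_rc_36_2 lc_e_Cert_tree lc_e_rc_34_0 lc_e_rc_39_2 lc_e_rc_21_1 lc_e_rc_28_3 lc_e_rc_13_1 lc_e_rc_21_1 lc_e_rc_35_2 lc_e_rc_4_1 lc_e_rc_13_1 lc_e_rc_21_1 lc_e_rc_4_1 lc_e_Cert_tree lc_e_rc_28_3 lc_e_rc_35_2 lc_e_rc_39_2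 lc_e_rc_36_2 lc_e_rc_37_2 lc_e_rc_35_2 lc_e_Cert_tree lc_e_rc_28_3 lc_e_rc_21_1 lc_e_rc_13_1 lc_e_rc_35_2 lc_e_Cert_tree lc_e_rc_35_2 lc_e_Cert_tree lc_e_rc_34_0 lc_e_rc_39_2 lc_e_rc_21_1) (@D3.rec (fun _ => (Cert rels S Gen.e)) lc_e_rc_28_3 lc_e_rc_13_1 lc_e_rc_21_1 lc_e_rc_35_2 lc_e_rc_4_1 lc_e_rc_13_1 lc_e_rc_21_1 lc_e_Cert_tree lc_e_rc_4_1 lc_e_rc_4_1 lc_e_rc_4_1 lc_e_rc_4_1 lc_e_rc_4_1 lc_e_rc_4_1 lc_e_Cert_tree lc_e_rc_4_1 lc_e_rc_21_1 lc_e_rc_13_1 lc_e_rc_34_0 lc_e_rc_38_2 lc_e_rc_35_2 lc_e_rc_35_2 lc_e_rc_35_2 lc_e_rc_39_2 lc_e_rc_35_2 lc_e_rc_39_2 lc_e_rc_37_2 lc_e_rc_21_1 lc_e_Cert_tree lc_e_rc_28_3 lc_e_rc_28_3 lc_e_rc_13_1 lc_e_rc_37_2 lc_e_Cert_tree lc_e_rc_36_2 lc_e_Cert_tree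 lc_e_rc_34_0 lc_e_rc_39_2 lc_e_rc_21_1 lc_e_rc_28_3 lc_e_rc_13_1 lc_e_rc_21_1 lc_e_rc_35_2 lc_e_rc_4_1 lc_e_rc_13_1 lc_e_rc_21_1 lc_e_rc_37_2 lc_e_rc_37_2 lc_e_rc_39_2 lc_e_rc_34_0 lc_e_rc_39_2) (@D3.rec (fun _ => (Cert rels S Gen.e)) lc_e_rc_21_3 lc_e_rc_39_0 lc_e_rc_21_3 lc_e_rc_13_3 lc_e_rc_4_1 lc_e_rc_21_3 lc_e_rc_13_3 lc_e_rc_4_1 lc_e_rc_13_1 lc_e_Cert_tree lc_e_rc_35_2 lc_e_rc_21_3 lc_e_rc_39_2 lc_e_rc_37_2 lc_e_rc_4_1 lc_e_rc_39_2 lc_e_rc_35_2 lc_e_rc_39_2 lc_e_rc_37_2 lc_e_Cert_tree lc_e_rc_39_2 lc_e_rc_35_2 lc_e_Cert_tree lc_e_rc_39_2 lc_e_rc_34_0 lc_e_rc_39_2 lc_e_rc_36_2 lc_e_rc_39_2 lc_e_rc_35_2 lc_e_rc_38_2 lc_e_rc_28_3 lc_e_rc_39_2 lc_e_rc_21_1 lc_e_rc_28_3 lc_e_rc_39_2 lc_e_rc_35_2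 lc_e_Cert_tree lc_e_rc_36_2 lc_e_rc_28_3 lc_e_rc_39_2 lc_e_rc_21_1 lc_e_rc_28_3 lc_e_rc_13_1 lc_e_rc_21_1 lc_e_rc_35_2 lc_e_rc_37_2 lc_e_rc_28_3 lc_e_rc_39_2 lc_e_rc_37_2 lc_e_rc_39_2 lc_e_rc_4_1) (@D3.rec (fun _ => (Cert rels S Gen.e)) lc_e_rc_38_2 lc_e_rc_4_1 lc_e_rc_39_2 lc_e_rc_21_1 lc_e_rc_4_1 lc_e_rc_39_2 lc_e_Cert_tree lc_e_rc_39_2 lc_e_rc_35_2 lc_e_rc_38_2 lc_e_Cert_tree lc_e_rc_39_2 lc_e_Cert_tree lc_e_rc_34_0 lc_e_rc_39_2 lc_e_Cert_tree lc_e_rc_39_2 lc_e_rc_34_0 lc_e_rc_39_2 lc_e_rc_36_2 lc_e_rc_39_2 lc_e_rc_37_2 lc_e_rc_39_2 lc_e_rc_35_2 lc_e_Cert_tree lc_e_rc_36_2 lc_e_rc_28_3 lc_e_rc_39_2 lc_e_rc_21_1 lc_e_rc_28_3 lc_e_rc_13_1 lc_e_rc_21_1 lc_e_rc_35_2 lc_e_rc_35_2 lc_e_rc_37_0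 lc_e_rc_36_2 lc_e_Cert_tree lc_e_rc_34_0 lc_e_rc_39_2 lc_e_rc_21_1 lc_e_rc_28_3 lc_e_rc_13_1 lc_e_rc_21_1 lc_e_rc_35_2 lc_e_rc_4_1 lc_e_rc_13_1 lc_e_rc_21_1 lc_e_rc_28_1 lc_e_rc_38_2 lc_e_rc_28_3 lc_e_rc_39_2) (@D3.rec (fun _ => (Cert rels S Gen.e)) lc_e_rc_34_1 lc_e_rc_13_1 lc_e_rc_39_2 lc_e_rc_21_1 lc_e_Cert_tree lc_e_rc_4_1 lc_e_rc_4_1 lc_e_rc_39_2 lc_e_rc_21_1 lc_e_rc_4_1 lc_e_rc_13_1 lc_e_rc_21_1 lc_e_rc_35_2 lc_e_rc_4_1 lc_e_Cert_tree lc_e_rc_36_2 lc_e_Cert_tree lc_e_rc_39_2 lc_e_Cert_tree lc_e_rc_34_0 lc_e_rc_39_2 lc_e_Cert_tree lc_e_rc_34_0 lc_e_rc_39_2 lc_e_rc_36_2 lc_e_rc_39_2 lc_e_rc_35_2 lc_e_rc_34_0 lc_e_rc_39_2 lc_e_rc_36_2 lc_e_rc_39_2 lc_e_rc_37_2 lc_e_rc_39_2 lc_e_rc_38_2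 lc_e_rc_39_2 lc_e_rc_37_2 lc_e_rc_21_3 lc_e_rc_36_2 lc_e_Cert_tree lc_e_rc_34_0 lc_e_rc_39_2 lc_e_rc_21_1 lc_e_rc_28_3 lc_e_rc_13_1 lc_e_rc_21_1 lc_e_rc_35_2 lc_e_rc_4_1 lc_e_rc_13_1 lc_e_rc_21_1 lc_e_rc_37_2 lc_e_rc_13_3) (@D3.rec (fun _ => (Cert rels S Gen.e)) lc_e_rc_21_3 lc_e_rc_13_3 lc_e_rc_39_2 lc_e_rc_36_4 lc_e_rc_13_1 lc_e_rc_4_1 lc_e_rc_13_1 lc_e_rc_4_1 lc_e_rc_13_1 lc_e_rc_21_3 lc_e_Cert_tree lc_e_rc_34_0 lc_e_rc_21_3 lc_e_rc_21_1 lc_e_rc_21_3 lc_e_rc_13_1 lc_e_rc_39_2 lc_e_rc_39_0 lc_e_rc_4_1 lc_e_rc_39_2 lc_e_rc_39_0 lc_e_rc_38_2 lc_e_rc_13_3 lc_e_rc_34_0 lc_e_rc_39_2 lc_e_rc_4_1 lc_e_rc_21_1 lc_e_rc_4_1 lc_e_rc_13_1 lc_e_Cert_tree lc_e_rc_4_1 lc_e_rc_28_3 lc_e_rc_21_1 lc_e_rc_34_0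 lc_e_rc_37_2 lc_e_rc_34_0 lc_e_rc_37_2 lc_e_rc_28_3 lc_e_rc_39_2 lc_e_rc_34_0 lc_e_rc_28_3 lc_e_rc_37_2 lc_e_rc_37_2 lc_e_rc_34_0 lc_e_rc_37_2 lc_e_rc_4_1 lc_e_rc_35_2 lc_e_rc_38_2 lc_e_rc_28_3 lc_e_rc_35_2 lc_e_rc_39_2) (@D3.rec (fun _ => (Cert rels S Gen.e)) lc_e_rc_34_0 lc_e_rc_36_2 lc_e_rc_28_3 lc_e_rc_35_2 lc_e_rc_35_0 lc_e_rc_38_2 lc_e_rc_13_1 lc_e_rc_37_2 lc_e_rc_36_2 lc_e_rc_4_1 lc_e_rc_4_1 lc_e_rc_37_2 lc_e_rc_4_3 lc_e_rc_34_0 lc_e_rc_21_1 lc_e_Cert_tree lc_e_rc_28_3 lc_e_rc_35_2 lc_e_Cert_tree lc_e_rc_39_2 lc_e_Cert_tree lc_e_rc_39_0 lc_e_rc_34_0 lc_e_Cert_tree lc_e_rc_34_0 lc_e_rc_36_2 lc_e_rc_37_2 lc_e_rc_21_1 lc_e_rc_34_0 lc_e_rc_13_1 lc_e_rc_28_3 lc_e_rc_4_1 lc_e_rc_35_2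 lc_e_rc_34_0 lc_e_rc_36_2 lc_e_rc_4_1 lc_e_rc_37_2 lc_e_rc_37_2 lc_e_rc_28_3 lc_e_rc_35_2 lc_e_rc_28_3 lc_e_rc_4_1 lc_e_rc_4_1 lc_e_rc_35_2 lc_e_Cert_tree lc_e_rc_39_2 lc_e_rc_34_0 lc_e_rc_34_0 lc_e_rc_36_2 lc_e_rc_37_2 lc_e_rc_35_0) (@D3.rec (fun _ => (Cert rels S Gen.e)) lc_e_rc_4_1 lc_e_rc_35_2 lc_e_rc_38_2 lc_e_Cert_tree lc_e_rc_28_3 lc_e_rc_35_2 lc_e_rc_28_3 lc_e_rc_39_2 lc_e_rc_28_3 lc_e_rc_35_0 lc_e_rc_21_1 lc_e_Cert_tree lc_e_rc_4_1 lc_e_rc_4_1 lc_e_rc_4_1 lc_e_rc_34_0 lc_e_rc_35_2 lc_e_rc_35_2 lc_e_Cert_tree lc_e_rc_39_2 lc_e_rc_34_0 lc_e_rc_39_2 lc_e_rc_34_0 lc_e_rc_36_2 lc_e_rc_34_0 lc_e_rc_36_2 lc_e_rc_37_2 lc_e_rc_38_2 lc_e_Cert_tree lc_e_rc_35_0 lc_e_rc_4_1 lc_e_rc_4_1 lc_e_rc_21_1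 lc_e_rc_34_0 lc_e_rc_38_2 lc_e_rc_35_2 lc_e_rc_35_2 lc_e_rc_28_1 lc_e_rc_39_2 lc_e_rc_21_1 lc_e_rc_28_1 lc_e_rc_36_4 lc_e_rc_35_0 lc_e_rc_21_1 lc_e_rc_13_1 lc_e_rc_35_0 lc_e_rc_21_1 lc_e_rc_38_2 lc_e_rc_35_0 lc_e_rc_13_1 lc_e_rc_13_1) (@D3.rec (fun _ => (Cert rels S Gen.e)) lc_e_rc_13_1 lc_e_rc_34_0 lc_e_rc_36_4 lc_e_rc_35_2 lc_e_rc_4_1 lc_e_rc_4_1 lc_e_rc_38_2 lc_e_rc_35_2 lc_e_rc_38_2 lc_e_rc_39_2 lc_e_rc_39_2 lc_e_Cert_tree lc_e_rc_37_2 lc_e_rc_34_0 lc_e_rc_34_0 lc_e_rc_36_2 lc_e_rc_37_2 lc_e_rc_37_2 lc_e_Cert_tree lc_e_rc_38_2 lc_e_Cert_tree lc_e_rc_34_0 lc_e_rc_39_2 lc_e_rc_34_0 lc_e_rc_34_0 lc_e_rc_36_2 lc_e_rc_34_0 lc_e_rc_36_2 lc_e_rc_37_2 lc_e_rc_38_2 lc_e_rc_36_2 lc_e_rc_37_2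 lc_e_rc_38_2 lc_e_rc_4_1 lc_e_Cert_tree lc_e_rc_39_2 lc_e_rc_35_2 lc_e_rc_34_0 lc_e_rc_35_2 lc_e_rc_34_0 lc_e_rc_36_2 lc_e_rc_35_2 lc_e_rc_37_2 lc_e_rc_28_3 lc_e_rc_35_2 lc_e_rc_56_32 lc_e_rc_34_0 lc_e_rc_28_3 lc_e_rc_21_1 lc_e_rc_36_2 lc_e_rc_37_2) (@D3.rec (fun _ => (Cert rels S Gen.e)) lc_e_rc_35_2 lc_e_rc_4_1 lc_e_rc_21_1 lc_e_rc_21_1 lc_e_rc_28_3 lc_e_rc_35_2 lc_e_rc_37_2 lc_e_rc_39_2 lc_e_rc_21_1 lc_e_rc_35_2 lc_e_rc_4_1 lc_e_rc_35_2 lc_e_Cert_tree lc_e_rc_21_1 lc_e_rc_35_2 lc_e_rc_37_2 lc_e_rc_39_2 lc_e_rc_37_2 lc_e_rc_28_3 lc_e_rc_39_2 lc_e_rc_37_2 lc_e_rc_39_2 lc_e_rc_13_1 lc_e_rc_37_2 lc_e_Cert_tree lc_e_rc_21_1 lc_e_rc_35_2 lc_e_rc_4_3 lc_e_rc_39_2 lc_e_rc_35_2 lc_e_rc_21_3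 lc_e_Cert_tree lc_e_rc_39_2 lc_e_rc_34_0 lc_e_rc_39_2 lc_e_rc_37_2 lc_e_rc_28_3 lc_e_rc_39_2 lc_e_rc_28_5 lc_e_rc_39_2 lc_e_rc_35_2 lc_e_rc_38_2 lc_e_rc_28_3 lc_e_rc_39_2 lc_e_rc_21_1 lc_e_rc_28_3 lc_e_rc_39_2 lc_e_rc_13_1 lc_e_rc_13_1 lc_e_rc_36_4 lc_e_rc_13_3) (@D3.rec (fun _ => (Cert rels S Gen.e)) lc_e_rc_36_2 lc_e_rc_36_2 lc_e_rc_4_1 lc_e_rc_21_1 lc_e_rc_35_2 lc_e_rc_13_1 lc_e_rc_21_1 lc_e_Cert_tree lc_e_rc_13_1 lc_e_rc_13_1 lc_e_rc_34_0 lc_e_rc_37_2 lc_e_rc_35_2 lc_e_rc_39_2 lc_e_rc_21_1 lc_e_Cert_tree lc_e_Cert_tree lc_e_rc_34_0 lc_e_rc_37_2 lc_e_rc_35_2 lc_e_rc_37_2 lc_e_rc_35_2 lc_e_Cert_tree lc_e_rc_34_0 lc_e_rc_37_2 lc_e_rc_35_2 lc_e_rc_13_1 lc_e_rc_37_2 lc_e_rc_35_2 lc_e_rc_38_2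 lc_e_rc_37_2 lc_e_rc_39_2 lc_e_rc_34_0 lc_e_rc_37_2 lc_e_rc_34_0 lc_e_rc_37_2 lc_e_rc_37_2 lc_e_rc_35_2 lc_e_rc_38_2 lc_e_rc_37_2 lc_e_rc_36_2 lc_e_rc_38_2 lc_e_rc_37_2 lc_e_rc_28_3 lc_e_rc_39_2 lc_e_Cert_tree lc_e_rc_21_1 lc_e_rc_34_0 lc_e_rc_37_2 lc_e_rc_35_2 lc_e_rc_13_1) (@D3.rec (fun _ => (Cert rels S Gen.e)) lc_e_rc_37_2 lc_e_rc_37_2 lc_e_rc_35_2 lc_e_rc_38_2 lc_e_rc_37_2 lc_e_rc_39_2 lc_e_rc_13_1 lc_e_Cert_tree lc_e_rc_4_1 lc_e_rc_34_0 lc_e_rc_37_2 lc_e_rc_35_2 lc_e_rc_4_1 lc_e_rc_34_0 lc_e_rc_37_2 lc_e_rc_35_2 lc_e_Cert_tree lc_e_rc_21_1 lc_e_rc_37_2 lc_e_rc_35_2 lc_e_rc_38_2 lc_e_rc_37_2 lc_e_rc_39_2 lc_e_rc_36_2 lc_e_rc_38_2 lc_e_rc_37_2 lc_e_rc_35_2 lc_e_rc_39_2 lc_e_rc_35_2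 lc_e_rc_39_2 lc_e_rc_34_0 lc_e_rc_37_2 lc_e_rc_35_2 lc_e_rc_28_1 lc_e_rc_21_1 lc_e_rc_37_2 lc_e_rc_35_2 lc_e_rc_38_2 lc_e_rc_37_2 lc_e_rc_39_2 lc_e_rc_36_2 lc_e_rc_38_2 lc_e_rc_37_2 lc_e_rc_28_3 lc_e_rc_39_2 lc_e_rc_38_2 lc_e_rc_39_2 lc_e_Cert_tree lc_e_rc_13_1 lc_e_rc_34_0 lc_e_rc_37_2) (@D3.rec (fun _ => (Cert rels S Gen.e)) lc_e_rc_35_2 lc_e_Cert_tree lc_e_rc_4_1 lc_e_rc_37_2 lc_e_rc_35_2 lc_e_rc_38_2 lc_e_rc_37_2 lc_e_rc_39_2 lc_e_rc_28_3 lc_e_rc_37_2 lc_e_rc_35_2 lc_e_rc_38_2 lc_e_rc_37_2 lc_e_Cert_tree lc_e_rc_39_2 lc_e_rc_34_0 lc_e_rc_39_2 lc_e_rc_13_1 lc_e_rc_38_2 lc_e_rc_37_2 lc_e_rc_28_3 lc_e_rc_39_2 lc_e_rc_38_2 lc_e_rc_39_2 lc_e_rc_36_2 lc_e_rc_35_2 lc_e_rc_38_2 lc_e_rc_35_2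 lc_e_rc_39_2 lc_e_rc_55_76 lc_e_rc_28_3 lc_e_rc_39_2 lc_e_rc_28_3 lc_e_rc_37_2 lc_e_rc_35_2 lc_e_rc_38_2 lc_e_rc_37_2 lc_e_Cert_tree lc_e_rc_39_2 lc_e_rc_28_1 lc_e_rc_13_1 lc_e_rc_38_2 lc_e_rc_37_2 lc_e_rc_28_3 lc_e_rc_39_2 lc_e_rc_38_2 lc_e_rc_39_2 lc_e_rc_36_2 lc_e_rc_35_2 lc_e_rc_38_2 lc_e_rc_28_3) (@D3.rec (fun _ => (Cert rels S Gen.e)) lc_e_rc_39_2 lc_e_rc_21_1 lc_e_rc_28_3 lc_e_rc_39_2 lc_e_rc_34_0 lc_e_rc_37_2 lc_e_rc_35_2 lc_e_rc_36_0 lc_e_rc_13_1 lc_e_rc_4_1 lc_e_rc_37_2 lc_e_rc_35_2 lc_e_rc_38_2 lc_e_rc_37_2 lc_e_Cert_tree lc_e_rc_39_2 lc_e_rc_34_0 lc_e_rc_39_2 lc_e_rc_4_1 lc_e_rc_38_2 lc_e_rc_37_2 lc_e_rc_4_1 lc_e_rc_39_2 lc_e_rc_38_2 lc_e_rc_39_2 lc_e_rc_28_3 lc_e_rc_35_2 lc_e_rc_21_1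 lc_e_rc_38_2 lc_e_rc_37_2 lc_e_Cert_tree lc_e_rc_39_2 lc_e_rc_38_2 lc_e_Cert_tree lc_e_rc_39_2 lc_e_rc_34_0 lc_e_rc_39_2 lc_e_rc_36_2 lc_e_rc_39_2 lc_e_rc_35_2 lc_e_rc_13_1 lc_e_rc_35_2 lc_e_rc_38_2 lc_e_rc_28_3 lc_e_rc_39_2 lc_e_rc_21_1 lc_e_rc_28_3 lc_e_rc_39_2 lc_e_rc_37_2 lc_e_rc_35_2 lc_e_Cert_tree)
def ce_e_6 : D2 → D3 → (Cert rels S Gen.e) := @D2.rec (fun _ => D3 → (Cert rels S Gen.e)) (@D3.rec (fun _ => (Cert rels S Gen.e)) lc_e_rc_36_2 lc_e_rc_28_3 lc_e_rc_39_2 lc_e_rc_21_1 lc_e_rc_28_3 lc_e_rc_13_1 lc_e_rc_21_1 lc_e_rc_35_2 lc_e_rc_21_1 lc_e_Cert_tree lc_e_rc_4_1 lc_e_rc_35_2 lc_e_rc_38_2 lc_e_rc_21_1 lc_e_rc_34_0 lc_e_rc_38_0 lc_e_rc_35_2 lc_e_rc_28_3 lc_e_rc_13_1 lc_e_rc_37_2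 lc_e_rc_35_2 lc_e_rc_38_2 lc_e_rc_37_2 lc_e_rc_39_2 lc_e_rc_13_1 lc_e_Cert_tree lc_e_rc_4_1 lc_e_rc_34_0 lc_e_rc_37_2 lc_e_rc_35_2 lc_e_rc_4_1 lc_e_rc_4_1 lc_e_rc_34_0 lc_e_rc_37_2 lc_e_rc_35_2 lc_e_Cert_tree lc_e_rc_21_1 lc_e_rc_37_2 lc_e_rc_35_2 lc_e_rc_38_2 lc_e_rc_37_2 lc_e_rc_39_2 lc_e_rc_36_2 lc_e_rc_38_2 lc_e_rc_37_2 lc_e_rc_28_3 lc_e_rc_39_2 lc_e_rc_38_2 lc_e_rc_39_2 lc_e_Cert_tree lc_e_rc_13_1) (@D3.rec (fun _ => (Cert rels S Gen.e)) lc_e_rc_34_0 lc_e_rc_37_2 lc_e_rc_35_2 lc_e_rc_28_3 lc_e_rc_4_1 lc_e_rc_37_2 lc_e_rc_35_2 lc_e_rc_38_2 lc_e_rc_37_2 lc_e_rc_39_2 lc_e_rc_28_3 lc_e_rc_37_2 lc_e_rc_35_2 lc_e_rc_38_2 lc_e_rc_37_2 lc_e_Cert_tree lc_e_rc_39_2 lc_e_rc_34_0 lc_e_rc_39_2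 lc_e_rc_13_1 lc_e_rc_38_2 lc_e_rc_37_2 lc_e_rc_36_2 lc_e_rc_39_2 lc_e_rc_38_2 lc_e_rc_39_2 lc_e_rc_36_2 lc_e_rc_35_2 lc_e_rc_38_2 lc_e_rc_37_2 lc_e_rc_39_2 lc_e_rc_21_1 lc_e_rc_36_2 lc_e_rc_39_2 lc_e_rc_13_1 lc_e_rc_28_1 lc_e_rc_21_1 lc_e_rc_34_0 lc_e_rc_37_2 lc_e_rc_35_2 lc_e_rc_4_1 lc_e_rc_35_2 lc_e_rc_34_0 lc_e_rc_37_2 lc_e_rc_35_2 lc_e_Cert_tree lc_e_rc_21_1 lc_e_rc_37_2 lc_e_rc_35_2 lc_e_rc_37_2 lc_e_rc_37_2) (@D3.rec (fun _ => (Cert rels S Gen.e)) lc_e_rc_39_2 lc_e_rc_36_2 lc_e_rc_38_2 lc_e_rc_37_2 lc_e_rc_28_3 lc_e_rc_39_2 lc_e_rc_38_2 lc_e_rc_39_2 lc_e_Cert_tree lc_e_rc_35_2 lc_e_rc_34_0 lc_e_rc_37_2 lc_e_rc_35_2 lc_e_rc_37_2 lc_e_rc_4_1 lc_e_rc_37_2 lc_e_rc_35_2 lc_e_rc_38_2 lc_e_rc_37_2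 lc_e_rc_39_2 lc_e_rc_28_3 lc_e_rc_37_2 lc_e_rc_35_2 lc_e_rc_38_2 lc_e_rc_37_2 lc_e_Cert_tree lc_e_rc_39_2 lc_e_rc_34_0 lc_e_rc_39_2 lc_e_rc_13_1 lc_e_rc_38_2 lc_e_rc_37_2 lc_e_rc_28_3 lc_e_rc_39_2 lc_e_rc_38_2 lc_e_rc_39_2 lc_e_rc_36_2 lc_e_rc_35_2 lc_e_rc_38_2 lc_e_rc_28_3 lc_e_rc_39_2 lc_e_rc_21_1 lc_e_rc_28_3 lc_e_rc_39_2 lc_e_rc_34_0 lc_e_rc_37_2 lc_e_rc_35_2 lc_e_rc_13_1 lc_e_rc_28_3 lc_e_rc_37_2 lc_e_rc_35_2) (@D3.rec (fun _ => (Cert rels S Gen.e)) lc_e_rc_38_2 lc_e_rc_37_2 lc_e_Cert_tree lc_e_rc_39_2 lc_e_rc_28_3 lc_e_rc_4_1 lc_e_rc_38_2 lc_e_rc_37_2 lc_e_rc_4_1 lc_e_rc_39_2 lc_e_rc_38_2 lc_e_rc_39_2 lc_e_rc_28_3 lc_e_rc_35_2 lc_e_rc_21_1 lc_e_rc_38_2 lc_e_rc_37_2 lc_e_Cert_tree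 lc_e_rc_39_2 lc_e_rc_38_2 lc_e_Cert_tree lc_e_rc_39_2 lc_e_rc_34_0 lc_e_rc_39_2 lc_e_rc_36_2 lc_e_rc_39_2 lc_e_rc_35_2 lc_e_rc_13_1 lc_e_rc_35_2 lc_e_rc_38_2 lc_e_rc_37_2 lc_e_rc_39_2 lc_e_rc_21_1 lc_e_rc_36_2 lc_e_rc_39_2 lc_e_rc_37_2 lc_e_rc_35_2 lc_e_Cert_tree lc_e_rc_36_2 lc_e_rc_38_2 lc_e_rc_39_2 lc_e_rc_21_1 lc_e_rc_37_2 lc_e_rc_13_1 lc_e_rc_21_1 lc_e_rc_35_2 lc_e_rc_13_1 lc_e_rc_13_1 lc_e_rc_21_1 lc_e_rc_21_1 lc_e_rc_36_0) (@D3.rec (fun _ => (Cert rels S Gen.e)) lc_e_rc_21_1 lc_e_rc_35_0 lc_e_rc_28_1 lc_e_rc_28_1 lc_e_rc_37_2 lc_e_rc_35_2 lc_e_rc_36_2 lc_e_rc_37_2 lc_e_Cert_tree lc_e_rc_39_2 lc_e_rc_34_0 lc_e_rc_39_2 lc_e_rc_13_1 lc_e_rc_38_2 lc_e_rc_37_2 lc_e_rc_39_2 lc_e_rc_38_2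 lc_e_rc_39_2 lc_e_rc_36_2 lc_e_rc_35_2 lc_e_rc_38_2 lc_e_rc_28_3 lc_e_rc_39_2 lc_e_rc_21_1 lc_e_rc_28_3 lc_e_rc_39_2 lc_e_rc_34_0 lc_e_rc_37_2 lc_e_rc_35_2 lc_e_rc_13_1 lc_e_rc_37_2 lc_e_rc_35_2 lc_e_rc_38_2 lc_e_rc_37_2 lc_e_Cert_tree lc_e_rc_39_2 lc_e_rc_28_3 lc_e_rc_4_1 lc_e_rc_38_2 lc_e_rc_37_2 lc_e_rc_39_2 lc_e_rc_38_2 lc_e_rc_39_2 lc_e_rc_28_3 lc_e_rc_35_2 lc_e_rc_21_1 lc_e_rc_38_2 lc_e_rc_37_2 lc_e_Cert_tree lc_e_rc_39_2 lc_e_rc_38_2) (@D3.rec (fun _ => (Cert rels S Gen.e)) lc_e_Cert_tree lc_e_rc_39_2 lc_e_rc_34_0 lc_e_rc_39_2 lc_e_rc_36_2 lc_e_rc_39_2 lc_e_rc_35_2 lc_e_rc_13_1 lc_e_rc_35_2 lc_e_rc_38_2 lc_e_rc_4_1 lc_e_rc_39_2 lc_e_rc_4_1 lc_e_rc_4_1 lc_e_rc_39_2 lc_e_rc_37_2 lc_e_rc_35_2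 lc_e_Cert_tree lc_e_rc_36_2 lc_e_rc_28_3 lc_e_rc_39_2 lc_e_rc_21_1 lc_e_rc_28_3 lc_e_rc_13_1 lc_e_rc_21_1 lc_e_rc_13_1 lc_e_rc_13_1 lc_e_rc_37_2 lc_e_rc_35_2 lc_e_rc_38_2 lc_e_rc_37_2 lc_e_rc_39_2 lc_e_rc_28_3 lc_e_rc_35_2 lc_e_rc_4_1 lc_e_rc_38_2 lc_e_rc_37_2 lc_e_Cert_tree lc_e_rc_39_2 lc_e_rc_38_2 lc_e_Cert_tree lc_e_rc_39_2 lc_e_rc_34_0 lc_e_rc_39_2 lc_e_rc_35_2 lc_e_rc_4_1 lc_e_rc_4_1 lc_e_rc_38_2 lc_e_rc_4_1 lc_e_rc_39_2 lc_e_rc_21_1) (@D3.rec (fun _ => (Cert rels S Gen.e)) lc_e_rc_4_1 lc_e_rc_39_2 lc_e_Cert_tree lc_e_rc_28_3 lc_e_rc_35_2 lc_e_Cert_tree lc_e_rc_39_2 lc_e_rc_21_1 lc_e_rc_35_2 lc_e_rc_38_2 lc_e_Cert_tree lc_e_rc_39_2 lc_e_Cert_tree lc_e_rc_34_0 lc_e_rc_39_2 lc_e_Cert_tree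 lc_e_rc_39_2 lc_e_rc_34_0 lc_e_rc_39_2 lc_e_rc_36_2 lc_e_rc_39_2 lc_e_rc_35_2 lc_e_rc_37_2 lc_e_rc_39_2 lc_e_rc_35_2 lc_e_rc_13_1 lc_e_rc_35_2 lc_e_Cert_tree lc_e_rc_36_2 lc_e_rc_38_2 lc_e_rc_39_2 lc_e_rc_21_1 lc_e_rc_37_2 lc_e_rc_13_1 lc_e_rc_21_1 lc_e_rc_35_2 lc_e_rc_35_2 lc_e_Cert_tree lc_e_rc_36_2 lc_e_Cert_tree lc_e_rc_34_0 lc_e_rc_39_2 lc_e_rc_21_1 lc_e_rc_38_2 lc_e_rc_13_1 lc_e_rc_21_1 lc_e_rc_35_2 lc_e_rc_4_1 lc_e_rc_13_1 lc_e_rc_35_2 lc_e_Cert_tree) (@D3.rec (fun _ => (Cert rels S Gen.e)) lc_e_rc_28_3 lc_e_rc_21_1 lc_e_rc_13_1 lc_e_rc_4_1 lc_e_Cert_tree lc_e_rc_28_3 lc_e_rc_35_2 lc_e_rc_39_2 lc_e_rc_36_2 lc_e_rc_37_2 lc_e_rc_35_2 lc_e_Cert_tree lc_e_rc_35_0 lc_e_rc_35_0 lc_e_rc_4_1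 lc_e_rc_35_2 lc_e_Cert_tree lc_e_rc_35_2 lc_e_rc_56_11 lc_e_rc_34_0 lc_e_rc_38_0 lc_e_rc_38_2 lc_e_rc_35_0 lc_e_rc_36_2 lc_e_rc_35_0 lc_e_rc_13_1 lc_e_rc_39_0 lc_e_rc_35_0 lc_e_rc_21_1 lc_e_Cert_tree lc_e_rc_28_3 lc_e_rc_35_2 lc_e_rc_39_2 lc_e_rc_4_1 lc_e_rc_4_1 lc_e_rc_4_1 lc_e_Cert_tree lc_e_rc_4_1 lc_e_rc_21_1 lc_e_rc_13_1 lc_e_rc_34_0 lc_e_rc_38_2 lc_e_rc_35_2 lc_e_rc_35_2 lc_e_rc_39_0 lc_e_rc_39_2 lc_e_rc_39_0 lc_e_rc_35_2 lc_e_rc_37_2 lc_e_rc_21_1 lc_e_Cert_tree) (@D3.rec (fun _ => (Cert rels S Gen.e)) lc_e_rc_21_3 lc_e_rc_39_2 lc_e_rc_39_2 lc_e_rc_38_2 lc_e_Cert_tree lc_e_rc_38_2 lc_e_Cert_tree lc_e_rc_34_0 lc_e_rc_39_2 lc_e_rc_21_1 lc_e_rc_38_2 lc_e_rc_13_1 lc_e_rc_21_1 lc_e_rc_35_2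 lc_e_rc_4_1 lc_e_rc_13_1 lc_e_rc_35_2 lc_e_Cert_tree lc_e_rc_38_2 lc_e_rc_13_3 lc_e_rc_34_0 lc_e_rc_13_3 lc_e_Cert_tree lc_e_rc_34_0 lc_e_rc_37_0 lc_e_rc_39_2 lc_e_rc_35_2 lc_e_rc_13_1 lc_e_rc_21_1 lc_e_rc_35_2 lc_e_rc_4_1 lc_e_rc_13_1 lc_e_rc_35_2 lc_e_rc_4_1 lc_e_rc_13_1 lc_e_Cert_tree lc_e_rc_21_1 lc_e_rc_34_0 lc_e_rc_36_2 lc_e_Cert_tree lc_e_rc_35_2 lc_e_rc_34_0 lc_e_rc_35_2 lc_e_rc_34_0 lc_e_rc_34_0 lc_e_rc_37_2 lc_e_rc_35_2 lc_e_rc_37_2 lc_e_rc_36_2 lc_e_rc_36_2 lc_e_rc_37_2) (@D3.rec (fun _ => (Cert rels S Gen.e)) lc_e_rc_35_2 lc_e_rc_34_0 lc_e_rc_37_2 lc_e_rc_35_2 lc_e_rc_37_2 lc_e_rc_35_2 lc_e_rc_39_2 lc_e_rc_36_2 lc_e_rc_39_2 lc_e_rc_37_2 lc_e_rc_21_1 lc_e_rc_37_2 lc_e_rc_13_1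 lc_e_rc_38_2 lc_e_rc_37_2 lc_e_rc_35_2 lc_e_rc_39_2 lc_e_rc_38_2 lc_e_rc_39_2 lc_e_rc_36_2 lc_e_rc_35_2 lc_e_rc_38_2 lc_e_rc_35_2 lc_e_rc_39_2 lc_e_rc_21_1 lc_e_rc_39_2 lc_e_rc_39_2 lc_e_rc_34_0 lc_e_rc_37_2 lc_e_rc_35_2 lc_e_rc_21_1 lc_e_rc_37_2 lc_e_rc_35_2 lc_e_rc_35_2 lc_e_rc_28_3 lc_e_rc_39_2 lc_e_rc_39_2 lc_e_rc_39_2 lc_e_Cert_tree lc_e_rc_13_1 lc_e_rc_34_0 lc_e_rc_28_3 lc_e_rc_35_2 lc_e_rc_35_2 lc_e_rc_4_1 lc_e_rc_37_2 lc_e_rc_35_2 lc_e_rc_38_2 lc_e_rc_37_2 lc_e_rc_39_2 lc_e_rc_28_3) (@D3.rec (fun _ => (Cert rels S Gen.e)) lc_e_rc_37_2 lc_e_rc_35_2 lc_e_rc_37_2 lc_e_Cert_tree lc_e_rc_39_2 lc_e_rc_34_0 lc_e_rc_39_2 lc_e_rc_13_1 lc_e_rc_38_2 lc_e_rc_37_2 lc_e_rc_28_3 lc_e_rc_39_2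 lc_e_rc_38_2 lc_e_rc_39_2 lc_e_rc_35_2 lc_e_rc_38_2 lc_e_rc_28_3 lc_e_rc_39_2 lc_e_rc_21_1 lc_e_rc_28_3 lc_e_rc_55_58 lc_e_rc_39_2 lc_e_rc_39_2 lc_e_rc_28_3 lc_e_rc_37_2 lc_e_rc_35_2 lc_e_rc_38_2 lc_e_rc_37_2 lc_e_rc_39_2 lc_e_rc_13_1 lc_e_rc_38_2 lc_e_rc_37_2 lc_e_rc_28_3 lc_e_rc_39_2 lc_e_rc_35_2 lc_e_rc_39_2 lc_e_rc_36_2 lc_e_rc_35_2 lc_e_rc_39_2 lc_e_rc_39_2 lc_e_rc_39_2 lc_e_rc_34_0 lc_e_rc_37_2 lc_e_rc_35_2 lc_e_rc_13_1 lc_e_rc_4_1 lc_e_rc_37_2 lc_e_rc_35_2 lc_e_rc_35_0 lc_e_rc_37_2 lc_e_Cert_tree) (@D3.rec (fun _ => (Cert rels S Gen.e)) lc_e_rc_39_2 lc_e_rc_35_2 lc_e_rc_4_1 lc_e_rc_38_2 lc_e_rc_37_2 lc_e_rc_4_1 lc_e_rc_39_2 lc_e_rc_38_2 lc_e_rc_39_2 lc_e_rc_28_3 lc_e_rc_35_2 lc_e_rc_21_1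 lc_e_rc_38_2 lc_e_rc_37_2 lc_e_Cert_tree lc_e_rc_39_2 lc_e_rc_38_2 lc_e_Cert_tree lc_e_rc_39_2 lc_e_rc_34_0 lc_e_rc_39_2 lc_e_rc_36_2 lc_e_rc_39_2 lc_e_rc_13_1 lc_e_rc_35_2 lc_e_rc_38_2 lc_e_rc_28_3 lc_e_rc_39_2 lc_e_rc_21_1 lc_e_rc_28_3 lc_e_rc_39_2 lc_e_rc_37_2 lc_e_rc_35_2 lc_e_Cert_tree lc_e_rc_36_2 lc_e_rc_28_3 lc_e_rc_39_2 lc_e_rc_21_1 lc_e_rc_28_3 lc_e_rc_13_1 lc_e_rc_21_1 lc_e_rc_35_2 lc_e_rc_28_3 lc_e_rc_39_2 lc_e_rc_21_1 lc_e_rc_28_3 lc_e_rc_36_2 lc_e_rc_28_3 lc_e_rc_35_2 lc_e_rc_21_1 lc_e_rc_38_2) (@D3.rec (fun _ => (Cert rels S Gen.e)) lc_e_rc_37_2 lc_e_rc_28_3 lc_e_rc_39_2 lc_e_rc_38_2 lc_e_rc_39_2 lc_e_rc_13_1 lc_e_rc_35_2 lc_e_rc_38_2 lc_e_rc_28_3 lc_e_rc_39_2 lc_e_rc_21_1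 lc_e_rc_13_1 lc_e_rc_39_2 lc_e_rc_37_2 lc_e_rc_36_2 lc_e_rc_28_1 lc_e_rc_36_2 lc_e_rc_36_2 lc_e_rc_39_2 lc_e_rc_21_1 lc_e_rc_28_3 lc_e_rc_13_1 lc_e_rc_21_1 lc_e_rc_35_2 lc_e_rc_13_1 lc_e_rc_37_2 lc_e_rc_35_2 lc_e_rc_38_2 lc_e_rc_37_2 lc_e_rc_39_2 lc_e_rc_4_1 lc_e_rc_4_1 lc_e_rc_4_1 lc_e_rc_38_2 lc_e_rc_37_2 lc_e_Cert_tree lc_e_rc_39_2 lc_e_rc_38_2 lc_e_Cert_tree lc_e_rc_39_2 lc_e_rc_34_0 lc_e_rc_39_2 lc_e_rc_4_1 lc_e_rc_4_1 lc_e_rc_38_2 lc_e_rc_4_1 lc_e_rc_39_2 lc_e_rc_21_1 lc_e_rc_4_1 lc_e_rc_39_2 lc_e_Cert_tree) (@D3.rec (fun _ => (Cert rels S Gen.e)) lc_e_rc_28_3 lc_e_rc_35_2 lc_e_Cert_tree lc_e_rc_39_2 lc_e_rc_21_1 lc_e_rc_35_2 lc_e_rc_38_2 lc_e_Cert_tree lc_e_rc_39_2 lc_e_Cert_tree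 lc_e_rc_34_0 lc_e_rc_39_2 lc_e_Cert_tree lc_e_rc_39_2 lc_e_rc_34_0 lc_e_rc_39_2 lc_e_rc_36_2 lc_e_rc_39_2 lc_e_rc_37_2 lc_e_rc_39_2 lc_e_rc_13_1 lc_e_rc_35_2 lc_e_Cert_tree lc_e_rc_36_2 lc_e_rc_28_3 lc_e_rc_39_2 lc_e_rc_21_1 lc_e_rc_28_3 lc_e_rc_13_1 lc_e_rc_21_1 lc_e_rc_35_2 lc_e_rc_35_2 lc_e_Cert_tree lc_e_rc_36_2 lc_e_Cert_tree lc_e_rc_34_0 lc_e_rc_39_2 lc_e_rc_21_1 lc_e_rc_28_3 lc_e_rc_28_3 lc_e_rc_21_1 lc_e_rc_35_2 lc_e_rc_4_1 lc_e_rc_28_3 lc_e_rc_21_1 lc_e_Cert_tree lc_e_rc_34_0 lc_e_rc_37_2 lc_e_rc_35_2 lc_e_rc_4_1 lc_e_rc_37_2) (@D3.rec (fun _ => (Cert rels S Gen.e)) lc_e_rc_35_2 lc_e_rc_38_2 lc_e_rc_37_2 lc_e_rc_39_2 lc_e_rc_28_3 lc_e_rc_37_2 lc_e_rc_35_2 lc_e_rc_4_3 lc_e_rc_37_2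 lc_e_Cert_tree lc_e_rc_39_2 lc_e_rc_13_1 lc_e_rc_13_1 lc_e_rc_38_2 lc_e_rc_37_2 lc_e_rc_28_3 lc_e_rc_39_2 lc_e_rc_35_2 lc_e_rc_39_2 lc_e_rc_39_2 lc_e_rc_28_3 lc_e_rc_13_3 lc_e_rc_34_0 lc_e_rc_37_2 lc_e_rc_4_1 lc_e_rc_37_2 lc_e_rc_35_2 lc_e_rc_38_2 lc_e_rc_37_2 lc_e_rc_39_2 lc_e_rc_36_2 lc_e_rc_38_2 lc_e_rc_37_2 lc_e_rc_4_1 lc_e_rc_39_2 lc_e_rc_38_2 lc_e_rc_39_2 lc_e_rc_4_1 lc_e_rc_35_2 lc_e_rc_21_1 lc_e_rc_38_2 lc_e_rc_37_2 lc_e_Cert_tree lc_e_rc_39_2 lc_e_rc_38_2 lc_e_rc_4_3 lc_e_rc_39_2 lc_e_rc_34_0 lc_e_rc_39_2 lc_e_rc_36_2 lc_e_rc_39_2) (@D3.rec (fun _ => (Cert rels S Gen.e)) lc_e_rc_13_1 lc_e_rc_35_2 lc_e_rc_38_2 lc_e_rc_28_3 lc_e_rc_39_2 lc_e_rc_21_1 lc_e_rc_28_3 lc_e_rc_39_2 lc_e_rc_37_2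 lc_e_rc_35_2 lc_e_Cert_tree lc_e_rc_36_2 lc_e_rc_28_3 lc_e_rc_39_2 lc_e_rc_21_1 lc_e_rc_28_3 lc_e_rc_13_1 lc_e_rc_21_1 lc_e_rc_35_2 lc_e_rc_34_0 lc_e_rc_37_2 lc_e_rc_4_1 lc_e_rc_37_2 lc_e_rc_35_2 lc_e_rc_38_2 lc_e_rc_37_2 lc_e_rc_39_2 lc_e_rc_4_1 lc_e_rc_38_2 lc_e_rc_37_2 lc_e_rc_4_1 lc_e_rc_39_2 lc_e_rc_38_2 lc_e_rc_39_2 lc_e_rc_28_3 lc_e_rc_35_2 lc_e_rc_21_1 lc_e_rc_38_2 lc_e_rc_37_2 lc_e_Cert_tree lc_e_rc_39_2 lc_e_rc_38_2 lc_e_Cert_tree lc_e_rc_39_2 lc_e_rc_34_0 lc_e_rc_39_2 lc_e_rc_13_1 lc_e_rc_35_2 lc_e_rc_38_2 lc_e_rc_28_3 lc_e_rc_39_2) (@D3.rec (fun _ => (Cert rels S Gen.e)) lc_e_rc_21_1 lc_e_rc_28_3 lc_e_rc_39_2 lc_e_rc_37_2 lc_e_rc_35_2 lc_e_Cert_tree lc_e_rc_36_2 lc_e_rc_39_2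 lc_e_rc_28_3 lc_e_rc_13_1 lc_e_rc_21_1 lc_e_rc_35_2 lc_e_rc_28_3 lc_e_rc_37_2 lc_e_rc_38_2 lc_e_rc_4_1 lc_e_rc_4_1 lc_e_rc_4_1 lc_e_rc_38_2 lc_e_rc_37_2 lc_e_rc_28_3 lc_e_rc_39_2 lc_e_rc_38_2 lc_e_rc_39_2 lc_e_rc_4_1 lc_e_rc_4_1 lc_e_rc_38_2 lc_e_rc_4_1 lc_e_rc_39_2 lc_e_rc_21_1 lc_e_rc_4_1 lc_e_rc_39_2 lc_e_Cert_tree lc_e_rc_4_1 lc_e_rc_35_2 lc_e_Cert_tree lc_e_rc_39_2 lc_e_rc_21_1 lc_e_rc_35_2 lc_e_rc_38_2 lc_e_Cert_tree lc_e_rc_39_2 lc_e_Cert_tree lc_e_rc_34_0 lc_e_rc_39_2 lc_e_rc_4_3 lc_e_rc_39_2 lc_e_rc_34_0 lc_e_rc_39_2 lc_e_rc_36_2 lc_e_rc_39_2) (@D3.rec (fun _ => (Cert rels S Gen.e)) lc_e_rc_37_2 lc_e_rc_39_2 lc_e_rc_13_1 lc_e_rc_35_2 lc_e_Cert_tree lc_e_rc_36_2 lc_e_rc_28_3 lc_e_rc_39_2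 lc_e_rc_21_1 lc_e_rc_28_3 lc_e_rc_13_1 lc_e_rc_21_1 lc_e_rc_35_2 lc_e_rc_35_2 lc_e_Cert_tree lc_e_rc_36_2 lc_e_Cert_tree lc_e_rc_34_0 lc_e_rc_39_2 lc_e_rc_21_1 lc_e_rc_28_3 lc_e_rc_13_1 lc_e_rc_21_1 lc_e_rc_35_2 lc_e_rc_4_1 lc_e_rc_13_1 lc_e_rc_21_1 lc_e_rc_37_2 lc_e_rc_38_2 lc_e_rc_4_1 lc_e_rc_38_2 lc_e_rc_37_2 lc_e_rc_35_2 lc_e_rc_39_2 lc_e_rc_38_2 lc_e_rc_39_2 lc_e_rc_4_1 lc_e_rc_4_1 lc_e_rc_38_2 lc_e_rc_39_2 lc_e_rc_39_2 lc_e_Cert_tree lc_e_rc_28_3 lc_e_rc_35_2 lc_e_Cert_tree lc_e_rc_39_2 lc_e_rc_21_1 lc_e_rc_35_2 lc_e_rc_38_2 lc_e_Cert_tree lc_e_rc_39_2) (@D3.rec (fun _ => (Cert rels S Gen.e)) lc_e_Cert_tree lc_e_rc_34_0 lc_e_rc_39_2 lc_e_Cert_tree lc_e_rc_39_2 lc_e_rc_34_0 lc_e_rc_39_2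 lc_e_rc_39_2 lc_e_rc_13_1 lc_e_rc_35_2 lc_e_Cert_tree lc_e_rc_36_2 lc_e_rc_28_3 lc_e_rc_39_2 lc_e_rc_21_1 lc_e_rc_28_3 lc_e_rc_13_1 lc_e_rc_21_1 lc_e_rc_35_2 lc_e_Cert_tree lc_e_rc_36_2 lc_e_Cert_tree lc_e_rc_34_0 lc_e_rc_39_2 lc_e_rc_21_1 lc_e_rc_28_3 lc_e_rc_13_1 lc_e_rc_21_1 lc_e_rc_35_2 lc_e_rc_4_1 lc_e_rc_13_1 lc_e_rc_21_1 lc_e_rc_28_3 lc_e_rc_28_1 lc_e_rc_13_1 lc_e_rc_38_2 lc_e_Cert_tree lc_e_rc_4_1 lc_e_rc_4_1 lc_e_rc_13_1 lc_e_rc_4_1 lc_e_rc_4_1 lc_e_rc_4_1 lc_e_rc_38_2 lc_e_rc_28_3 lc_e_rc_39_2 lc_e_rc_28_3 lc_e_rc_13_1 lc_e_rc_39_2 lc_e_rc_4_1 lc_e_rc_4_1) (@D3.rec (fun _ => (Cert rels S Gen.e)) lc_e_Cert_tree lc_e_rc_4_1 lc_e_rc_4_1 lc_e_rc_39_2 lc_e_rc_21_1 lc_e_rc_4_1 lc_e_rc_13_1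 lc_e_rc_21_1 lc_e_rc_34_0 lc_e_rc_38_2 lc_e_rc_35_2 lc_e_rc_35_2 lc_e_Cert_tree lc_e_rc_39_2 lc_e_Cert_tree lc_e_rc_34_0 lc_e_rc_39_2 lc_e_rc_21_1 lc_e_rc_35_2 lc_e_Cert_tree lc_e_rc_36_2 lc_e_Cert_tree lc_e_rc_39_2 lc_e_Cert_tree lc_e_rc_34_0 lc_e_rc_39_2 lc_e_Cert_tree lc_e_rc_34_0 lc_e_rc_39_2 lc_e_rc_36_2 lc_e_rc_39_2 lc_e_rc_35_2 lc_e_rc_34_0 lc_e_rc_39_2 lc_e_rc_36_2 lc_e_rc_39_2 lc_e_rc_37_2 lc_e_rc_39_2 lc_e_rc_38_2 lc_e_rc_39_2 lc_e_rc_35_2 lc_e_Cert_tree lc_e_rc_36_2 lc_e_Cert_tree lc_e_rc_34_0 lc_e_rc_39_2 lc_e_rc_21_1 lc_e_rc_28_3 lc_e_rc_13_1 lc_e_rc_21_1 lc_e_rc_35_2) (@D3.rec (fun _ => (Cert rels S Gen.e)) lc_e_rc_4_1 lc_e_rc_13_1 lc_e_rc_21_1 lc_e_rc_4_3 lc_e_rc_37_2 lc_e_rc_39_0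 lc_e_rc_34_0 lc_e_rc_39_2 lc_e_Cert_tree lc_e_rc_34_0 lc_e_rc_38_2 lc_e_rc_39_2 lc_e_rc_35_2 lc_e_rc_13_1 lc_e_rc_36_2 lc_e_rc_13_3 lc_e_rc_4_1 lc_e_rc_13_1 lc_e_rc_13_3 lc_e_rc_4_1 lc_e_rc_13_1 lc_e_Cert_tree lc_e_rc_4_1 lc_e_rc_34_0 lc_e_rc_38_2 lc_e_rc_35_2 lc_e_rc_35_2 lc_e_rc_39_2 lc_e_rc_37_2 lc_e_rc_35_2 lc_e_Cert_tree lc_e_Cert_tree lc_e_rc_34_0 lc_e_rc_21_1 lc_e_rc_13_1 lc_e_rc_4_1 lc_e_Cert_tree lc_e_rc_35_2 lc_e_rc_38_2 lc_e_rc_34_0 lc_e_rc_13_3 lc_e_Cert_tree lc_e_rc_34_0 lc_e_rc_39_2 lc_e_rc_39_2 lc_e_rc_35_2 lc_e_rc_13_1 lc_e_rc_21_1 lc_e_rc_35_2 lc_e_rc_4_1 lc_e_rc_13_1) (@D3.rec (fun _ => (Cert rels S Gen.e)) lc_e_rc_21_1 lc_e_rc_4_1 lc_e_rc_13_1 lc_e_Cert_tree lc_e_rc_34_0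 lc_e_rc_13_1 lc_e_rc_35_2 lc_e_rc_4_1 lc_e_rc_4_1 lc_e_rc_4_1 lc_e_rc_4_1 lc_e_Cert_tree lc_e_Cert_tree lc_e_rc_34_0 lc_e_rc_21_1 lc_e_rc_13_1 lc_e_rc_4_1 lc_e_rc_38_2 lc_e_rc_35_2 lc_e_rc_4_1 lc_e_rc_38_2 lc_e_Cert_tree lc_e_rc_39_2 lc_e_rc_35_2 lc_e_rc_39_2 lc_e_rc_35_2 lc_e_rc_39_2 lc_e_rc_13_1 lc_e_rc_39_2 lc_e_rc_21_1 lc_e_Cert_tree lc_e_Cert_tree lc_e_rc_34_0 lc_e_rc_28_3 lc_e_rc_13_1 lc_e_rc_4_1 lc_e_rc_21_3 lc_e_rc_37_2 lc_e_Cert_tree lc_e_rc_34_0 lc_e_rc_21_3 lc_e_rc_39_2 lc_e_rc_34_0 lc_e_rc_39_2 lc_e_rc_39_2 lc_e_rc_21_3 lc_e_rc_39_2 lc_e_rc_13_1 lc_e_rc_21_3 lc_e_rc_4_1 lc_e_rc_38_0) (@D3.rec (fun _ => (Cert rels S Gen.e)) lc_e_rc_21_1 lc_e_rc_4_1 lc_e_rc_13_1 lc_e_Cert_tree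 lc_e_rc_21_3 lc_e_rc_21_3 lc_e_rc_21_3 lc_e_rc_21_3 lc_e_rc_37_2 lc_e_rc_4_1 lc_e_rc_4_1 lc_e_rc_34_0 lc_e_rc_39_2 lc_e_rc_39_2 lc_e_rc_4_1 lc_e_rc_39_2 lc_e_rc_21_1 lc_e_rc_4_1 lc_e_rc_39_2 lc_e_rc_39_2 lc_e_Cert_tree lc_e_rc_34_0 lc_e_rc_39_2 lc_e_rc_38_2 lc_e_rc_39_2 lc_e_rc_34_0 lc_e_rc_39_2 lc_e_rc_36_2 lc_e_rc_39_2 lc_e_rc_37_2 lc_e_rc_39_2 lc_e_Cert_tree lc_e_rc_36_2 lc_e_rc_28_3 lc_e_rc_39_2 lc_e_rc_21_1 lc_e_rc_28_3 lc_e_rc_13_1 lc_e_rc_21_1 lc_e_rc_35_2 lc_e_Cert_tree lc_e_rc_36_2 lc_e_Cert_tree lc_e_rc_34_0 lc_e_rc_39_2 lc_e_rc_21_1 lc_e_rc_28_3 lc_e_rc_13_1 lc_e_rc_21_1 lc_e_rc_35_2 lc_e_rc_4_1) (@D3.rec (fun _ => (Cert rels S Gen.e)) lc_e_rc_13_1 lc_e_rc_21_1 lc_e_rc_39_2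 lc_e_rc_21_1 lc_e_rc_28_3 lc_e_rc_39_2 lc_e_Cert_tree lc_e_rc_4_1 lc_e_rc_4_1 lc_e_rc_39_2 lc_e_rc_21_1 lc_e_rc_4_1 lc_e_rc_13_1 lc_e_rc_21_1 lc_e_rc_4_1 lc_e_Cert_tree lc_e_rc_34_0 lc_e_rc_39_2 lc_e_rc_36_2 lc_e_rc_39_2 lc_e_Cert_tree lc_e_rc_34_0 lc_e_rc_39_2 lc_e_Cert_tree lc_e_rc_34_0 lc_e_rc_39_2 lc_e_rc_36_2 lc_e_rc_39_2 lc_e_rc_35_2 lc_e_rc_34_0 lc_e_rc_39_2 lc_e_rc_36_2 lc_e_rc_39_2 lc_e_rc_37_2 lc_e_rc_39_2 lc_e_rc_38_2 lc_e_rc_39_2 lc_e_rc_28_3 lc_e_rc_36_2 lc_e_Cert_tree lc_e_rc_34_0 lc_e_rc_39_2 lc_e_rc_21_1 lc_e_rc_28_3 lc_e_rc_13_1 lc_e_rc_21_1 lc_e_rc_35_2 lc_e_rc_4_1 lc_e_rc_13_1 lc_e_rc_21_1 lc_e_rc_37_2) (@D3.rec (fun _ => (Cert rels S Gen.e)) lc_e_rc_37_0 lc_e_rc_37_0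 lc_e_Cert_tree lc_e_rc_34_0 lc_e_rc_39_2 lc_e_rc_39_2 lc_e_rc_35_2 lc_e_rc_13_1 lc_e_rc_21_1 lc_e_rc_35_2 lc_e_rc_4_1 lc_e_rc_13_1 lc_e_rc_21_1 lc_e_rc_4_1 lc_e_rc_13_1 lc_e_Cert_tree lc_e_rc_21_3 lc_e_rc_28_1 lc_e_rc_28_3 lc_e_rc_39_2 lc_e_rc_37_2 lc_e_rc_28_3 lc_e_rc_21_1 lc_e_rc_21_1 lc_e_rc_21_3 lc_e_rc_21_3 lc_e_rc_28_5 lc_e_Cert_tree lc_e_rc_34_0 lc_e_rc_39_2 lc_e_rc_21_1 lc_e_rc_4_1 lc_e_rc_13_1 lc_e_rc_21_1 lc_e_rc_35_2 lc_e_rc_4_1 lc_e_rc_13_1 lc_e_rc_35_2 lc_e_rc_4_1 lc_e_rc_28_1 lc_e_Cert_tree lc_e_rc_34_0 lc_e_rc_39_2 lc_e_Cert_tree lc_e_rc_34_0 lc_e_rc_39_2 lc_e_Cert_tree lc_e_rc_34_0 lc_e_rc_39_2 lc_e_rc_36_2 lc_e_rc_39_2) (@D3.rec (fun _ => (Cert rels S Gen.e)) lc_e_rc_35_2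 lc_e_Cert_tree lc_e_rc_34_0 lc_e_rc_39_2 lc_e_rc_21_1 lc_e_rc_39_2 lc_e_rc_35_2 lc_e_rc_37_2 lc_e_rc_36_2 lc_e_rc_35_2 lc_e_rc_36_2 lc_e_rc_39_2 lc_e_rc_37_2 lc_e_rc_36_2 lc_e_rc_38_2 lc_e_rc_39_2 lc_e_rc_39_2 lc_e_rc_37_2 lc_e_rc_38_2 lc_e_rc_21_3 lc_e_rc_36_4 lc_e_rc_34_0 lc_e_rc_39_2 lc_e_rc_39_2 lc_e_rc_35_2 lc_e_rc_13_1 lc_e_rc_21_1 lc_e_rc_35_2 lc_e_rc_4_1 lc_e_rc_13_1 lc_e_rc_21_1 lc_e_rc_4_1 lc_e_rc_13_1 lc_e_Cert_tree lc_e_rc_21_3 lc_e_rc_4_1 lc_e_rc_4_1 lc_e_rc_4_1 lc_e_rc_38_2 lc_e_Cert_tree lc_e_rc_34_0 lc_e_rc_39_2 lc_e_rc_13_1 lc_e_rc_39_2 lc_e_rc_4_1 lc_e_rc_39_2 lc_e_rc_39_0 lc_e_rc_35_0 lc_e_rc_39_0 lc_e_Cert_tree lc_e_rc_28_3) (@D3.rec (fun _ => (Cert rels S Gen.e)) lc_e_Cert_tree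 lc_e_rc_4_1 lc_e_rc_28_3 lc_e_rc_34_0 lc_e_rc_21_1 lc_e_rc_56_46 lc_e_rc_35_2 lc_e_rc_4_1 lc_e_rc_39_2 lc_e_rc_36_2 lc_e_rc_37_2 lc_e_rc_38_2 lc_e_rc_28_3 lc_e_rc_35_2 lc_e_rc_39_2 lc_e_rc_21_1 lc_e_rc_13_1 lc_e_rc_13_1 lc_e_rc_4_1 lc_e_rc_28_3 lc_e_rc_4_1 lc_e_rc_28_3 lc_e_rc_34_0 lc_e_rc_35_2 lc_e_rc_35_2 lc_e_Cert_tree lc_e_rc_39_2 lc_e_rc_4_1 lc_e_rc_34_0 lc_e_rc_39_2 lc_e_rc_34_0 lc_e_rc_34_0 lc_e_rc_35_2 lc_e_rc_37_2 lc_e_rc_38_2 lc_e_rc_35_2 lc_e_rc_4_1 lc_e_rc_39_2 lc_e_rc_36_2 lc_e_rc_37_2 lc_e_rc_4_1 lc_e_rc_35_2 lc_e_rc_35_2 lc_e_rc_39_2 lc_e_rc_4_1 lc_e_rc_4_1 lc_e_rc_39_2 lc_e_rc_34_0 lc_e_rc_39_2 lc_e_rc_36_2 lc_e_rc_36_2)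
def ce_e_7 : D2 → D3 → (Cert rels S Gen.e) := @D2.rec (fun _ => D3 → (Cert rels S Gen.e)) (@D3.rec (fun _ => (Cert rels S Gen.e)) lc_e_rc_37_2 lc_e_rc_38_2 lc_e_rc_35_0 lc_e_rc_35_0 lc_e_rc_4_1 lc_e_rc_4_1 lc_e_rc_34_0 lc_e_rc_35_2 lc_e_rc_35_2 lc_e_rc_35_2 lc_e_rc_39_2 lc_e_rc_28_3 lc_e_rc_39_2 lc_e_rc_37_2 lc_e_rc_34_0 lc_e_rc_35_2 lc_e_rc_4_1 lc_e_rc_4_1 lc_e_rc_35_2 lc_e_rc_39_2 lc_e_rc_39_2 lc_e_rc_34_0 lc_e_rc_39_2 lc_e_rc_35_2 lc_e_rc_39_2 lc_e_rc_36_2 lc_e_rc_37_2 lc_e_rc_56_18 lc_e_rc_37_2 lc_e_rc_38_2 lc_e_rc_34_0 lc_e_rc_35_2 lc_e_rc_4_1 lc_e_rc_4_1 lc_e_rc_38_2 lc_e_rc_35_2 lc_e_rc_38_2 lc_e_rc_36_4 lc_e_rc_39_2 lc_e_rc_28_1 lc_e_rc_39_2 lc_e_rc_21_1 lc_e_rc_28_1 lc_e_rc_13_1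 lc_e_rc_21_1 lc_e_rc_21_1 lc_e_rc_21_1 lc_e_rc_13_3 lc_e_rc_13_1 lc_e_rc_13_1 lc_e_rc_35_2) (@D3.rec (fun _ => (Cert rels S Gen.e)) lc_e_rc_36_4 lc_e_rc_39_2 lc_e_rc_4_1 lc_e_rc_38_2 lc_e_rc_28_3 lc_e_rc_39_2 lc_e_rc_39_2 lc_e_rc_34_0 lc_e_rc_39_2 lc_e_rc_36_2 lc_e_rc_36_2 lc_e_rc_37_2 lc_e_rc_34_0 lc_e_rc_39_2 lc_e_rc_34_0 lc_e_rc_35_2 lc_e_rc_39_2 lc_e_rc_36_2 lc_e_rc_37_2 lc_e_rc_36_2 lc_e_rc_37_2 lc_e_rc_38_2 lc_e_rc_37_2 lc_e_rc_38_2 lc_e_rc_34_0 lc_e_rc_4_1 lc_e_rc_35_2 lc_e_rc_35_2 lc_e_rc_4_1 lc_e_Cert_tree lc_e_rc_21_1 lc_e_rc_39_2 lc_e_rc_39_2 lc_e_rc_39_2 lc_e_Cert_tree lc_e_rc_21_1 lc_e_rc_39_2 lc_e_Cert_tree lc_e_rc_39_2 lc_e_rc_34_0 lc_e_rc_39_2 lc_e_rc_28_3 lc_e_rc_39_2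 lc_e_rc_39_2 lc_e_rc_39_2 lc_e_rc_28_3 lc_e_rc_39_2 lc_e_Cert_tree lc_e_rc_13_1 lc_e_rc_4_3 lc_e_rc_37_2) (@D3.rec (fun _ => (Cert rels S Gen.e)) lc_e_rc_34_0 lc_e_rc_39_2 lc_e_rc_4_1 lc_e_rc_39_2 lc_e_rc_28_5 lc_e_rc_39_2 lc_e_Cert_tree lc_e_rc_28_5 lc_e_rc_34_0 lc_e_rc_39_2 lc_e_rc_36_2 lc_e_rc_39_2 lc_e_rc_35_2 lc_e_rc_28_3 lc_e_rc_39_2 lc_e_rc_21_1 lc_e_rc_28_3 lc_e_rc_28_5 lc_e_rc_36_4 lc_e_rc_36_2 lc_e_rc_28_3 lc_e_rc_39_2 lc_e_rc_21_1 lc_e_rc_28_3 lc_e_rc_13_1 lc_e_rc_21_1 lc_e_rc_35_2 lc_e_rc_21_1 lc_e_rc_36_4 lc_e_rc_35_2 lc_e_rc_55_31 lc_e_Cert_tree lc_e_rc_34_0 lc_e_rc_37_2 lc_e_rc_35_2 lc_e_rc_37_2 lc_e_rc_35_2 lc_e_rc_34_0 lc_e_rc_34_0 lc_e_rc_37_2 lc_e_rc_37_2 lc_e_rc_35_2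 lc_e_rc_34_0 lc_e_rc_37_2 lc_e_rc_37_2 lc_e_rc_35_2 lc_e_rc_38_2 lc_e_rc_37_2 lc_e_rc_36_2 lc_e_rc_38_2 lc_e_rc_37_2) (@D3.rec (fun _ => (Cert rels S Gen.e)) lc_e_rc_35_2 lc_e_rc_39_2 lc_e_rc_37_2 lc_e_rc_28_3 lc_e_rc_37_2 lc_e_rc_38_2 lc_e_rc_13_1 lc_e_rc_38_2 lc_e_rc_37_2 lc_e_rc_35_2 lc_e_rc_36_2 lc_e_rc_35_2 lc_e_rc_34_0 lc_e_rc_37_2 lc_e_rc_35_2 lc_e_rc_28_1 lc_e_rc_21_1 lc_e_rc_37_2 lc_e_rc_35_2 lc_e_rc_38_2 lc_e_rc_37_2 lc_e_rc_39_2 lc_e_rc_36_2 lc_e_rc_38_2 lc_e_rc_37_2 lc_e_rc_28_3 lc_e_rc_39_2 lc_e_rc_38_2 lc_e_rc_39_2 lc_e_Cert_tree lc_e_rc_13_1 lc_e_rc_34_0 lc_e_rc_37_2 lc_e_rc_35_2 lc_e_Cert_tree lc_e_rc_4_1 lc_e_rc_37_2 lc_e_rc_35_2 lc_e_rc_39_2 lc_e_rc_28_3 lc_e_rc_37_2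 lc_e_rc_35_2 lc_e_rc_38_2 lc_e_rc_37_2 lc_e_Cert_tree lc_e_rc_39_2 lc_e_rc_34_0 lc_e_rc_39_2 lc_e_rc_13_1 lc_e_rc_38_2 lc_e_rc_37_2) (@D3.rec (fun _ => (Cert rels S Gen.e)) lc_e_rc_28_3 lc_e_rc_39_2 lc_e_rc_39_2 lc_e_rc_39_2 lc_e_rc_39_2 lc_e_rc_39_2 lc_e_rc_28_3 lc_e_rc_37_2 lc_e_rc_35_2 lc_e_rc_38_2 lc_e_rc_37_2 lc_e_Cert_tree lc_e_rc_39_2 lc_e_rc_28_1 lc_e_rc_13_1 lc_e_rc_38_2 lc_e_rc_37_2 lc_e_rc_28_3 lc_e_rc_39_2 lc_e_rc_38_2 lc_e_rc_39_2 lc_e_rc_36_2 lc_e_rc_35_2 lc_e_rc_38_2 lc_e_rc_28_3 lc_e_rc_39_2 lc_e_rc_21_1 lc_e_rc_28_3 lc_e_rc_39_2 lc_e_rc_34_0 lc_e_rc_37_2 lc_e_rc_35_2 lc_e_rc_37_2 lc_e_rc_13_1 lc_e_rc_4_1 lc_e_rc_37_2 lc_e_rc_35_2 lc_e_rc_38_2 lc_e_rc_37_2 lc_e_Cert_tree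 lc_e_rc_39_2 lc_e_rc_34_0 lc_e_rc_39_2 lc_e_rc_4_1 lc_e_rc_38_2 lc_e_rc_37_2 lc_e_rc_38_0 lc_e_rc_39_2 lc_e_rc_39_2 lc_e_rc_28_3 lc_e_rc_35_2) (@D3.rec (fun _ => (Cert rels S Gen.e)) lc_e_rc_21_1 lc_e_rc_38_2 lc_e_rc_37_2 lc_e_Cert_tree lc_e_rc_39_2 lc_e_rc_38_2 lc_e_Cert_tree lc_e_rc_39_2 lc_e_rc_34_0 lc_e_rc_39_2 lc_e_rc_36_2 lc_e_rc_39_2 lc_e_rc_35_2 lc_e_rc_13_1 lc_e_rc_35_2 lc_e_rc_38_2 lc_e_rc_35_2 lc_e_rc_39_2 lc_e_rc_34_0 lc_e_rc_28_3 lc_e_rc_39_2 lc_e_rc_37_2 lc_e_rc_35_2 lc_e_rc_36_2 lc_e_rc_36_2 lc_e_rc_39_2 lc_e_rc_39_2 lc_e_rc_35_2 lc_e_rc_13_3 lc_e_rc_56_60 lc_e_rc_28_3 lc_e_rc_35_2 lc_e_rc_21_1 lc_e_rc_38_2 lc_e_rc_37_2 lc_e_Cert_tree lc_e_rc_39_2 lc_e_rc_38_2 lc_e_Cert_tree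 lc_e_rc_39_2 lc_e_rc_34_0 lc_e_rc_39_2 lc_e_rc_35_2 lc_e_rc_13_1 lc_e_rc_35_2 lc_e_rc_38_2 lc_e_rc_28_3 lc_e_rc_39_2 lc_e_rc_21_1 lc_e_rc_28_3 lc_e_rc_39_2) (@D3.rec (fun _ => (Cert rels S Gen.e)) lc_e_rc_37_2 lc_e_rc_35_2 lc_e_Cert_tree lc_e_rc_36_2 lc_e_rc_28_3 lc_e_rc_39_2 lc_e_rc_21_1 lc_e_rc_28_3 lc_e_rc_13_1 lc_e_rc_21_1 lc_e_rc_35_2 lc_e_rc_13_1 lc_e_rc_37_2 lc_e_rc_35_2 lc_e_rc_38_2 lc_e_rc_37_2 lc_e_Cert_tree lc_e_rc_39_2 lc_e_rc_36_0 lc_e_rc_28_1 lc_e_rc_4_1 lc_e_rc_4_1 lc_e_rc_4_1 lc_e_rc_38_2 lc_e_rc_37_2 lc_e_Cert_tree lc_e_rc_39_2 lc_e_rc_38_2 lc_e_Cert_tree lc_e_rc_39_2 lc_e_rc_34_0 lc_e_rc_39_2 lc_e_rc_36_2 lc_e_rc_39_2 lc_e_rc_35_2 lc_e_rc_4_1 lc_e_rc_4_1 lc_e_rc_38_2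 lc_e_rc_4_1 lc_e_rc_39_2 lc_e_rc_28_1 lc_e_rc_4_1 lc_e_rc_39_2 lc_e_Cert_tree lc_e_rc_28_3 lc_e_rc_35_2 lc_e_Cert_tree lc_e_rc_39_2 lc_e_rc_21_1 lc_e_rc_35_2 lc_e_rc_38_2) (@D3.rec (fun _ => (Cert rels S Gen.e)) lc_e_Cert_tree lc_e_rc_39_2 lc_e_Cert_tree lc_e_rc_34_0 lc_e_rc_39_2 lc_e_Cert_tree lc_e_rc_39_2 lc_e_rc_34_0 lc_e_rc_39_2 lc_e_rc_36_2 lc_e_rc_39_2 lc_e_rc_35_2 lc_e_rc_37_2 lc_e_rc_39_2 lc_e_rc_35_2 lc_e_rc_13_1 lc_e_rc_35_2 lc_e_Cert_tree lc_e_rc_36_2 lc_e_rc_21_3 lc_e_rc_39_2 lc_e_rc_21_1 lc_e_rc_28_3 lc_e_rc_13_1 lc_e_rc_21_1 lc_e_rc_35_2 lc_e_rc_35_2 lc_e_rc_21_3 lc_e_rc_36_2 lc_e_Cert_tree lc_e_rc_34_0 lc_e_rc_39_2 lc_e_rc_21_1 lc_e_rc_28_3 lc_e_rc_13_1 lc_e_rc_21_1 lc_e_rc_35_2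 lc_e_rc_4_1 lc_e_rc_13_1 lc_e_rc_21_1 lc_e_rc_13_1 lc_e_rc_38_0 lc_e_rc_21_1 lc_e_rc_34_0 lc_e_rc_38_0 lc_e_rc_35_2 lc_e_rc_4_1 lc_e_rc_35_2 lc_e_rc_38_2 lc_e_Cert_tree lc_e_rc_21_1) (@D3.rec (fun _ => (Cert rels S Gen.e)) lc_e_rc_35_2 lc_e_rc_4_1 lc_e_rc_38_0 lc_e_rc_39_2 lc_e_rc_38_2 lc_e_rc_37_2 lc_e_rc_28_3 lc_e_rc_39_2 lc_e_rc_38_2 lc_e_rc_39_2 lc_e_Cert_tree lc_e_rc_35_2 lc_e_rc_34_0 lc_e_rc_37_2 lc_e_rc_35_2 lc_e_rc_38_2 lc_e_rc_4_1 lc_e_rc_37_2 lc_e_rc_35_2 lc_e_rc_38_2 lc_e_rc_37_2 lc_e_rc_39_2 lc_e_rc_28_3 lc_e_rc_37_2 lc_e_rc_35_2 lc_e_rc_38_2 lc_e_rc_37_2 lc_e_Cert_tree lc_e_rc_39_2 lc_e_rc_34_0 lc_e_rc_39_2 lc_e_rc_13_1 lc_e_rc_38_2 lc_e_rc_37_2 lc_e_rc_28_3 lc_e_rc_39_2 lc_e_rc_38_2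 lc_e_rc_39_2 lc_e_rc_36_2 lc_e_rc_35_2 lc_e_rc_38_2 lc_e_rc_28_3 lc_e_rc_39_2 lc_e_rc_21_1 lc_e_rc_28_3 lc_e_rc_39_2 lc_e_rc_34_0 lc_e_rc_37_2 lc_e_rc_35_2 lc_e_rc_21_1 lc_e_rc_28_3) (@D3.rec (fun _ => (Cert rels S Gen.e)) lc_e_rc_37_2 lc_e_rc_35_2 lc_e_rc_38_2 lc_e_rc_37_2 lc_e_Cert_tree lc_e_rc_39_2 lc_e_rc_28_3 lc_e_rc_36_2 lc_e_rc_38_2 lc_e_rc_37_2 lc_e_rc_4_1 lc_e_rc_39_2 lc_e_rc_38_2 lc_e_rc_39_2 lc_e_rc_28_3 lc_e_rc_35_2 lc_e_rc_21_1 lc_e_rc_38_2 lc_e_rc_37_2 lc_e_Cert_tree lc_e_rc_39_2 lc_e_rc_38_2 lc_e_Cert_tree lc_e_rc_39_2 lc_e_rc_34_0 lc_e_rc_39_2 lc_e_rc_36_2 lc_e_rc_39_2 lc_e_rc_35_2 lc_e_rc_13_1 lc_e_rc_35_2 lc_e_rc_38_2 lc_e_rc_37_2 lc_e_rc_39_2 lc_e_rc_21_1 lc_e_rc_36_2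 lc_e_rc_39_2 lc_e_rc_37_2 lc_e_rc_36_2 lc_e_rc_39_2 lc_e_rc_37_2 lc_e_rc_13_1 lc_e_rc_21_1 lc_e_rc_35_2 lc_e_rc_13_1 lc_e_rc_37_2 lc_e_rc_28_1 lc_e_rc_37_2 lc_e_rc_21_1 lc_e_rc_37_2 lc_e_rc_35_2) (@D3.rec (fun _ => (Cert rels S Gen.e)) lc_e_rc_37_2 lc_e_rc_37_2 lc_e_rc_39_2 lc_e_rc_35_2 lc_e_rc_37_2 lc_e_Cert_tree lc_e_rc_39_2 lc_e_rc_34_0 lc_e_rc_39_2 lc_e_rc_13_1 lc_e_rc_37_2 lc_e_rc_28_3 lc_e_rc_39_2 lc_e_rc_37_2 lc_e_rc_39_2 lc_e_rc_36_2 lc_e_rc_35_2 lc_e_rc_38_2 lc_e_rc_28_3 lc_e_rc_39_2 lc_e_rc_21_1 lc_e_rc_28_3 lc_e_rc_39_2 lc_e_rc_34_0 lc_e_rc_37_2 lc_e_rc_35_2 lc_e_rc_35_2 lc_e_rc_28_3 lc_e_rc_37_2 lc_e_rc_35_2 lc_e_rc_38_2 lc_e_rc_37_2 lc_e_Cert_tree lc_e_rc_39_2 lc_e_rc_37_2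 lc_e_rc_4_1 lc_e_rc_38_2 lc_e_rc_37_2 lc_e_rc_4_1 lc_e_rc_39_2 lc_e_rc_38_2 lc_e_rc_39_2 lc_e_rc_28_3 lc_e_rc_35_2 lc_e_rc_21_1 lc_e_rc_38_2 lc_e_rc_37_2 lc_e_Cert_tree lc_e_rc_39_2 lc_e_rc_38_2 lc_e_Cert_tree) (@D3.rec (fun _ => (Cert rels S Gen.e)) lc_e_rc_39_2 lc_e_rc_34_0 lc_e_rc_39_2 lc_e_rc_36_2 lc_e_rc_39_2 lc_e_rc_35_2 lc_e_rc_13_1 lc_e_rc_35_2 lc_e_rc_38_2 lc_e_rc_28_3 lc_e_rc_39_2 lc_e_rc_21_1 lc_e_rc_28_3 lc_e_rc_39_2 lc_e_rc_37_2 lc_e_rc_35_2 lc_e_Cert_tree lc_e_rc_36_2 lc_e_rc_28_3 lc_e_rc_39_2 lc_e_rc_21_1 lc_e_rc_28_3 lc_e_rc_13_1 lc_e_rc_21_1 lc_e_rc_35_2 lc_e_rc_13_1 lc_e_rc_37_2 lc_e_rc_35_2 lc_e_rc_38_2 lc_e_rc_37_2 lc_e_rc_39_2 lc_e_rc_28_3 lc_e_rc_35_2 lc_e_rc_4_1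 lc_e_rc_38_2 lc_e_rc_37_2 lc_e_Cert_tree lc_e_rc_39_2 lc_e_rc_38_2 lc_e_Cert_tree lc_e_rc_39_2 lc_e_rc_34_0 lc_e_rc_39_2 lc_e_rc_35_2 lc_e_rc_4_1 lc_e_rc_4_1 lc_e_rc_38_2 lc_e_rc_4_1 lc_e_rc_39_2 lc_e_rc_21_1 lc_e_rc_4_1) (@D3.rec (fun _ => (Cert rels S Gen.e)) lc_e_rc_39_2 lc_e_Cert_tree lc_e_rc_28_3 lc_e_rc_35_2 lc_e_Cert_tree lc_e_rc_39_2 lc_e_rc_21_1 lc_e_rc_35_2 lc_e_rc_38_2 lc_e_Cert_tree lc_e_rc_39_2 lc_e_Cert_tree lc_e_rc_34_0 lc_e_rc_39_2 lc_e_Cert_tree lc_e_rc_39_2 lc_e_rc_34_0 lc_e_rc_39_2 lc_e_rc_36_2 lc_e_rc_39_2 lc_e_rc_35_2 lc_e_rc_37_2 lc_e_rc_39_2 lc_e_rc_35_2 lc_e_rc_13_1 lc_e_rc_35_2 lc_e_Cert_tree lc_e_rc_36_2 lc_e_rc_38_2 lc_e_rc_39_2 lc_e_rc_21_1 lc_e_rc_37_2 lc_e_rc_13_1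 lc_e_rc_21_1 lc_e_rc_35_2 lc_e_rc_35_2 lc_e_Cert_tree lc_e_rc_36_2 lc_e_Cert_tree lc_e_rc_34_0 lc_e_rc_39_2 lc_e_rc_38_2 lc_e_rc_13_1 lc_e_rc_21_1 lc_e_rc_35_2 lc_e_rc_4_1 lc_e_rc_13_1 lc_e_rc_35_2 lc_e_rc_13_1 lc_e_rc_56_39 lc_e_rc_13_1) (@D3.rec (fun _ => (Cert rels S Gen.e)) lc_e_rc_21_1 lc_e_Cert_tree lc_e_rc_21_1 lc_e_rc_39_2 lc_e_rc_28_1 lc_e_rc_28_1 lc_e_rc_37_2 lc_e_Cert_tree lc_e_rc_39_2 lc_e_rc_36_2 lc_e_Cert_tree lc_e_rc_39_2 lc_e_rc_34_0 lc_e_rc_39_2 lc_e_rc_36_2 lc_e_rc_39_2 lc_e_rc_35_2 lc_e_rc_35_2 lc_e_rc_38_2 lc_e_rc_39_2 lc_e_rc_39_2 lc_e_rc_35_2 lc_e_Cert_tree lc_e_rc_36_2 lc_e_rc_28_3 lc_e_rc_39_2 lc_e_rc_21_1 lc_e_rc_28_3 lc_e_rc_13_1 lc_e_rc_21_1 lc_e_rc_37_2 lc_e_rc_35_2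 lc_e_rc_38_2 lc_e_rc_37_2 lc_e_rc_39_2 lc_e_rc_4_1 lc_e_rc_38_2 lc_e_rc_37_2 lc_e_Cert_tree lc_e_rc_39_2 lc_e_rc_38_2 lc_e_Cert_tree lc_e_rc_39_2 lc_e_rc_34_0 lc_e_rc_39_2 lc_e_rc_35_2 lc_e_rc_4_1 lc_e_rc_4_1 lc_e_rc_38_2 lc_e_rc_39_2 lc_e_rc_39_2) (@D3.rec (fun _ => (Cert rels S Gen.e)) lc_e_Cert_tree lc_e_rc_28_3 lc_e_rc_35_2 lc_e_Cert_tree lc_e_rc_39_2 lc_e_rc_21_1 lc_e_rc_35_2 lc_e_rc_38_2 lc_e_Cert_tree lc_e_rc_39_2 lc_e_Cert_tree lc_e_rc_34_0 lc_e_rc_39_2 lc_e_Cert_tree lc_e_rc_39_2 lc_e_rc_34_0 lc_e_rc_39_2 lc_e_rc_36_2 lc_e_rc_39_2 lc_e_rc_35_2 lc_e_rc_37_2 lc_e_rc_39_2 lc_e_rc_35_2 lc_e_rc_13_1 lc_e_rc_35_2 lc_e_Cert_tree lc_e_rc_36_2 lc_e_rc_4_1 lc_e_rc_39_2 lc_e_rc_4_1 lc_e_rc_4_1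 lc_e_rc_34_0 lc_e_rc_4_1 lc_e_rc_35_2 lc_e_Cert_tree lc_e_rc_36_2 lc_e_Cert_tree lc_e_rc_34_0 lc_e_rc_39_2 lc_e_rc_13_1 lc_e_rc_28_3 lc_e_rc_36_2 lc_e_rc_21_1 lc_e_rc_13_1 lc_e_rc_55_49 lc_e_rc_13_1 lc_e_rc_21_1 lc_e_rc_13_1 lc_e_rc_13_1 lc_e_rc_13_1 lc_e_rc_38_2) (@D3.rec (fun _ => (Cert rels S Gen.e)) lc_e_rc_37_2 lc_e_rc_4_3 lc_e_rc_39_2 lc_e_rc_38_2 lc_e_rc_39_2 lc_e_Cert_tree lc_e_rc_28_3 lc_e_rc_35_2 lc_e_Cert_tree lc_e_rc_39_2 lc_e_rc_4_1 lc_e_rc_4_1 lc_e_rc_38_2 lc_e_Cert_tree lc_e_rc_39_2 lc_e_Cert_tree lc_e_rc_34_0 lc_e_rc_39_2 lc_e_Cert_tree lc_e_rc_39_2 lc_e_rc_34_0 lc_e_rc_39_2 lc_e_rc_39_2 lc_e_rc_35_2 lc_e_rc_4_1 lc_e_rc_4_1 lc_e_Cert_tree lc_e_rc_4_1 lc_e_rc_4_1 lc_e_rc_39_2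 lc_e_rc_21_1 lc_e_rc_4_1 lc_e_rc_13_1 lc_e_rc_21_1 lc_e_rc_34_0 lc_e_rc_38_2 lc_e_rc_35_2 lc_e_rc_35_2 lc_e_Cert_tree lc_e_rc_39_2 lc_e_Cert_tree lc_e_rc_34_0 lc_e_rc_39_2 lc_e_rc_21_1 lc_e_rc_35_2 lc_e_Cert_tree lc_e_rc_36_2 lc_e_Cert_tree lc_e_rc_39_2 lc_e_Cert_tree lc_e_rc_34_0) (@D3.rec (fun _ => (Cert rels S Gen.e)) lc_e_rc_39_2 lc_e_Cert_tree lc_e_rc_34_0 lc_e_rc_39_2 lc_e_rc_36_2 lc_e_rc_39_2 lc_e_rc_35_2 lc_e_rc_34_0 lc_e_rc_39_2 lc_e_rc_36_2 lc_e_rc_39_2 lc_e_rc_35_2 lc_e_rc_37_2 lc_e_rc_39_2 lc_e_rc_35_2 lc_e_rc_38_2 lc_e_rc_39_2 lc_e_rc_35_2 lc_e_rc_35_2 lc_e_Cert_tree lc_e_rc_36_2 lc_e_Cert_tree lc_e_rc_34_0 lc_e_rc_39_2 lc_e_rc_21_1 lc_e_rc_38_2 lc_e_rc_13_1 lc_e_rc_21_1 lc_e_rc_35_2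 lc_e_rc_4_1 lc_e_rc_13_1 lc_e_rc_35_2 lc_e_Cert_tree lc_e_rc_37_2 lc_e_Cert_tree lc_e_rc_34_0 lc_e_rc_39_2 lc_e_Cert_tree lc_e_rc_34_0 lc_e_rc_39_2 lc_e_rc_39_2 lc_e_rc_35_2 lc_e_rc_13_1 lc_e_rc_21_1 lc_e_rc_35_2 lc_e_rc_4_1 lc_e_rc_13_1 lc_e_rc_35_2 lc_e_rc_4_1 lc_e_rc_13_1 lc_e_Cert_tree) (@D3.rec (fun _ => (Cert rels S Gen.e)) lc_e_rc_34_0 lc_e_rc_4_1 lc_e_rc_34_0 lc_e_rc_38_2 lc_e_rc_35_2 lc_e_rc_35_2 lc_e_rc_39_2 lc_e_rc_37_2 lc_e_rc_35_2 lc_e_Cert_tree lc_e_Cert_tree lc_e_rc_34_0 lc_e_rc_35_0 lc_e_rc_28_3 lc_e_rc_39_2 lc_e_rc_35_2 lc_e_rc_38_2 lc_e_rc_34_0 lc_e_rc_4_1 lc_e_rc_13_1 lc_e_rc_38_0 lc_e_rc_13_1 lc_e_rc_37_2 lc_e_rc_21_1 lc_e_rc_21_1 lc_e_rc_28_1 lc_e_rc_55_67 lc_e_rc_34_0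 lc_e_rc_38_2 lc_e_rc_35_2 lc_e_rc_35_2 lc_e_rc_39_2 lc_e_rc_4_1 lc_e_rc_4_1 lc_e_Cert_tree lc_e_Cert_tree lc_e_rc_34_0 lc_e_rc_21_1 lc_e_rc_13_1 lc_e_rc_4_1 lc_e_rc_38_2 lc_e_rc_35_2 lc_e_rc_37_2 lc_e_rc_38_2 lc_e_Cert_tree lc_e_rc_39_2 lc_e_rc_21_3 lc_e_rc_39_2 lc_e_rc_39_0 lc_e_rc_35_2 lc_e_rc_39_0) (@D3.rec (fun _ => (Cert rels S Gen.e)) lc_e_rc_35_2 lc_e_rc_21_1 lc_e_rc_21_3 lc_e_Cert_tree lc_e_rc_34_0 lc_e_rc_39_2 lc_e_rc_39_2 lc_e_rc_35_0 lc_e_Cert_tree lc_e_rc_38_2 lc_e_Cert_tree lc_e_rc_34_0 lc_e_rc_39_2 lc_e_Cert_tree lc_e_rc_34_0 lc_e_rc_39_2 lc_e_rc_39_2 lc_e_rc_35_2 lc_e_rc_13_1 lc_e_rc_21_1 lc_e_rc_35_2 lc_e_rc_4_1 lc_e_rc_13_1 lc_e_rc_35_2 lc_e_rc_4_1 lc_e_rc_13_1 lc_e_Cert_tree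 lc_e_rc_13_1 lc_e_rc_34_0 lc_e_rc_13_3 lc_e_rc_21_3 lc_e_rc_37_0 lc_e_rc_35_2 lc_e_rc_34_0 lc_e_rc_21_3 lc_e_rc_56_39 lc_e_rc_35_2 lc_e_rc_4_1 lc_e_rc_13_1 lc_e_rc_35_2 lc_e_rc_4_1 lc_e_rc_13_1 lc_e_Cert_tree lc_e_rc_4_1 lc_e_rc_4_1 lc_e_rc_34_0 lc_e_rc_34_0 lc_e_rc_36_2 lc_e_rc_37_2 lc_e_rc_35_2 lc_e_rc_38_2) (@D3.rec (fun _ => (Cert rels S Gen.e)) lc_e_rc_37_2 lc_e_rc_35_2 lc_e_rc_13_1 lc_e_rc_39_2 lc_e_rc_4_1 lc_e_rc_21_1 lc_e_rc_13_1 lc_e_rc_35_2 lc_e_rc_38_2 lc_e_rc_35_2 lc_e_rc_39_2 lc_e_rc_39_2 lc_e_rc_37_2 lc_e_rc_35_2 lc_e_rc_37_2 lc_e_rc_35_2 lc_e_rc_21_1 lc_e_rc_39_2 lc_e_rc_13_1 lc_e_rc_39_2 lc_e_rc_28_3 lc_e_rc_37_2 lc_e_rc_35_2 lc_e_rc_38_2 lc_e_rc_39_2 lc_e_rc_39_2 lc_e_rc_39_2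 lc_e_rc_34_0 lc_e_rc_35_2 lc_e_rc_13_1 lc_e_rc_35_2 lc_e_rc_35_2 lc_e_Cert_tree lc_e_rc_39_2 lc_e_rc_35_2 lc_e_rc_4_1 lc_e_rc_37_2 lc_e_rc_4_1 lc_e_rc_39_2 lc_e_rc_4_3 lc_e_rc_39_2 lc_e_rc_4_1 lc_e_rc_21_1 lc_e_rc_37_2 lc_e_Cert_tree lc_e_rc_39_2 lc_e_rc_39_2 lc_e_rc_34_0 lc_e_rc_39_2 lc_e_rc_36_2 lc_e_rc_39_2) (@D3.rec (fun _ => (Cert rels S Gen.e)) lc_e_rc_35_2 lc_e_rc_38_2 lc_e_rc_28_3 lc_e_rc_39_2 lc_e_rc_21_1 lc_e_rc_28_3 lc_e_rc_13_1 lc_e_rc_36_2 lc_e_rc_28_3 lc_e_rc_28_3 lc_e_rc_13_1 lc_e_rc_21_1 lc_e_rc_35_0 lc_e_rc_35_2 lc_e_rc_21_1 lc_e_rc_38_2 lc_e_rc_37_2 lc_e_rc_28_3 lc_e_rc_39_2 lc_e_rc_37_2 lc_e_rc_39_2 lc_e_rc_13_1 lc_e_rc_35_2 lc_e_rc_39_2 lc_e_rc_21_1 lc_e_rc_28_3 lc_e_rc_39_2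 lc_e_rc_36_2 lc_e_rc_56_18 lc_e_rc_28_3 lc_e_rc_37_2 lc_e_rc_35_2 lc_e_rc_37_2 lc_e_rc_39_2 lc_e_rc_4_1 lc_e_rc_37_2 lc_e_Cert_tree lc_e_rc_39_2 lc_e_rc_13_3 lc_e_Cert_tree lc_e_rc_39_2 lc_e_rc_34_0 lc_e_rc_39_2 lc_e_rc_4_1 lc_e_rc_4_1 lc_e_rc_38_2 lc_e_rc_4_1 lc_e_rc_39_2 lc_e_rc_4_1 lc_e_rc_39_2 lc_e_rc_21_1) (@D3.rec (fun _ => (Cert rels S Gen.e)) lc_e_rc_4_1 lc_e_Cert_tree lc_e_rc_39_2 lc_e_rc_21_1 lc_e_rc_35_2 lc_e_rc_38_2 lc_e_Cert_tree lc_e_rc_39_2 lc_e_Cert_tree lc_e_rc_34_0 lc_e_rc_39_2 lc_e_rc_39_2 lc_e_rc_34_0 lc_e_rc_39_2 lc_e_rc_36_2 lc_e_rc_39_2 lc_e_rc_37_2 lc_e_rc_39_2 lc_e_rc_13_1 lc_e_rc_35_2 lc_e_Cert_tree lc_e_rc_36_2 lc_e_rc_28_3 lc_e_rc_39_2 lc_e_rc_21_1 lc_e_rc_28_3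 lc_e_rc_13_1 lc_e_rc_21_1 lc_e_rc_35_2 lc_e_rc_35_2 lc_e_rc_35_2 lc_e_rc_36_2 lc_e_rc_35_2 lc_e_rc_34_0 lc_e_rc_39_2 lc_e_rc_21_1 lc_e_rc_28_3 lc_e_rc_13_1 lc_e_rc_21_1 lc_e_rc_35_2 lc_e_rc_4_1 lc_e_rc_13_1 lc_e_rc_21_1 lc_e_rc_21_1 lc_e_rc_28_3 lc_e_rc_13_1 lc_e_rc_21_1 lc_e_rc_35_2 lc_e_Cert_tree lc_e_rc_28_3 lc_e_rc_35_2) (@D3.rec (fun _ => (Cert rels S Gen.e)) lc_e_rc_34_0 lc_e_rc_39_2 lc_e_rc_21_1 lc_e_rc_35_2 lc_e_rc_38_2 lc_e_rc_28_3 lc_e_rc_39_2 lc_e_rc_34_0 lc_e_rc_13_3 lc_e_rc_39_2 lc_e_rc_37_2 lc_e_rc_36_2 lc_e_rc_21_3 lc_e_rc_36_2 lc_e_rc_28_3 lc_e_rc_39_2 lc_e_rc_37_2 lc_e_rc_28_3 lc_e_rc_21_1 lc_e_rc_21_1 lc_e_rc_21_3 lc_e_rc_39_2 lc_e_rc_13_3 lc_e_rc_38_0 lc_e_rc_36_2 lc_e_rc_36_2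 lc_e_rc_13_1 lc_e_rc_21_1 lc_e_rc_35_2 lc_e_rc_4_1 lc_e_rc_13_1 lc_e_rc_21_1 lc_e_rc_13_1 lc_e_rc_13_1 lc_e_rc_13_1 lc_e_rc_38_2 lc_e_rc_37_2 lc_e_rc_35_0 lc_e_rc_39_2 lc_e_rc_38_2 lc_e_rc_39_2 lc_e_rc_28_3 lc_e_rc_38_2 lc_e_rc_4_1 lc_e_rc_34_1 lc_e_rc_4_1 lc_e_rc_36_2 lc_e_rc_4_1 lc_e_rc_38_2 lc_e_Cert_tree lc_e_rc_39_2) (@D3.rec (fun _ => (Cert rels S Gen.e)) lc_e_Cert_tree lc_e_rc_34_0 lc_e_rc_39_2 lc_e_Cert_tree lc_e_rc_39_2 lc_e_rc_34_0 lc_e_rc_39_2 lc_e_rc_39_2 lc_e_rc_4_1 lc_e_rc_4_1 lc_e_Cert_tree lc_e_rc_4_1 lc_e_rc_4_1 lc_e_rc_39_2 lc_e_rc_21_1 lc_e_rc_4_1 lc_e_rc_13_1 lc_e_rc_21_1 lc_e_rc_4_1 lc_e_rc_34_0 lc_e_rc_36_2 lc_e_rc_35_2 lc_e_rc_35_2 lc_e_Cert_tree lc_e_rc_39_2 lc_e_Cert_tree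 lc_e_rc_34_0 lc_e_rc_39_2 lc_e_rc_21_1 lc_e_rc_35_2 lc_e_Cert_tree lc_e_rc_36_2 lc_e_Cert_tree lc_e_rc_39_2 lc_e_Cert_tree lc_e_rc_34_0 lc_e_rc_39_2 lc_e_Cert_tree lc_e_rc_34_0 lc_e_rc_39_2 lc_e_rc_36_2 lc_e_rc_39_2 lc_e_rc_35_2 lc_e_rc_34_0 lc_e_rc_39_2 lc_e_rc_36_2 lc_e_rc_39_2 lc_e_rc_37_2 lc_e_rc_39_2 lc_e_rc_38_2 lc_e_rc_39_2) (@D3.rec (fun _ => (Cert rels S Gen.e)) lc_e_rc_35_2 lc_e_Cert_tree lc_e_rc_36_2 lc_e_Cert_tree lc_e_rc_34_0 lc_e_rc_39_2 lc_e_rc_21_1 lc_e_rc_28_3 lc_e_rc_13_1 lc_e_rc_21_1 lc_e_rc_35_2 lc_e_rc_21_1 lc_e_rc_13_1 lc_e_rc_21_1 lc_e_rc_13_3 lc_e_rc_37_2 lc_e_Cert_tree lc_e_rc_34_0 lc_e_rc_39_2 lc_e_Cert_tree lc_e_rc_34_0 lc_e_rc_39_2 lc_e_rc_39_2 lc_e_rc_35_2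 lc_e_rc_28_3 lc_e_rc_21_1 lc_e_rc_35_2 lc_e_rc_4_1 lc_e_rc_28_3 lc_e_rc_21_1 lc_e_rc_4_1 lc_e_rc_35_2 lc_e_Cert_tree lc_e_rc_34_0 lc_e_rc_37_2 lc_e_rc_37_2 lc_e_rc_35_2 lc_e_rc_37_2 lc_e_rc_39_2 lc_e_rc_36_2 lc_e_rc_38_2 lc_e_rc_37_2 lc_e_rc_4_1 lc_e_rc_39_2 lc_e_rc_35_2 lc_e_rc_39_2 lc_e_rc_35_2 lc_e_rc_21_1 lc_e_rc_37_2 lc_e_Cert_tree lc_e_rc_39_2) (@D3.rec (fun _ => (Cert rels S Gen.e)) lc_e_rc_35_2 lc_e_rc_38_2 lc_e_rc_39_2 lc_e_rc_34_0 lc_e_rc_39_2 lc_e_rc_39_2 lc_e_rc_21_1 lc_e_rc_28_3 lc_e_rc_39_2 lc_e_rc_35_2 lc_e_rc_4_1 lc_e_rc_36_2 lc_e_rc_38_2 lc_e_rc_37_2 lc_e_rc_28_3 lc_e_rc_39_2 lc_e_rc_38_2 lc_e_rc_39_2 lc_e_rc_36_2 lc_e_rc_36_2 lc_e_rc_38_2 lc_e_rc_4_1 lc_e_rc_39_2 lc_e_rc_21_1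 lc_e_rc_4_1 lc_e_rc_39_2 lc_e_rc_39_0 lc_e_rc_4_3 lc_e_rc_39_2 lc_e_rc_21_1 lc_e_rc_35_2 lc_e_rc_38_2 lc_e_rc_13_1 lc_e_rc_39_2 lc_e_Cert_tree lc_e_rc_34_0 lc_e_rc_39_2 lc_e_rc_39_2 lc_e_rc_4_3 lc_e_rc_36_2 lc_e_rc_39_2 lc_e_rc_37_2 lc_e_rc_39_2 lc_e_rc_13_1 lc_e_rc_35_2 lc_e_Cert_tree lc_e_rc_36_2 lc_e_rc_28_3 lc_e_rc_39_2 lc_e_rc_21_1 lc_e_rc_28_3) (@D3.rec (fun _ => (Cert rels S Gen.e)) lc_e_rc_13_1 lc_e_rc_21_1 lc_e_rc_35_2 lc_e_rc_35_2 lc_e_Cert_tree lc_e_rc_34_0 lc_e_rc_39_2 lc_e_rc_21_1 lc_e_rc_28_3 lc_e_rc_13_1 lc_e_rc_21_1 lc_e_rc_35_2 lc_e_rc_4_1 lc_e_rc_13_1 lc_e_rc_21_1 lc_e_rc_37_2 lc_e_rc_38_2 lc_e_rc_4_1 lc_e_rc_4_1 lc_e_rc_38_2 lc_e_rc_37_2 lc_e_rc_28_3 lc_e_rc_39_2 lc_e_rc_38_2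 lc_e_rc_39_2 lc_e_rc_4_1 lc_e_rc_4_1 lc_e_rc_38_2 lc_e_rc_4_1 lc_e_rc_39_2 lc_e_rc_21_1 lc_e_rc_4_1 lc_e_rc_39_2 lc_e_rc_36_2 lc_e_rc_35_2 lc_e_Cert_tree lc_e_rc_39_2 lc_e_rc_21_1 lc_e_rc_35_2 lc_e_rc_38_2 lc_e_Cert_tree lc_e_rc_39_2 lc_e_Cert_tree lc_e_rc_34_0 lc_e_rc_39_2 lc_e_rc_37_2 lc_e_rc_39_2 lc_e_rc_34_0 lc_e_rc_39_2 lc_e_rc_39_2 lc_e_rc_13_1)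
def ce_e_8 : D2 → D3 → (Cert rels S Gen.e) := @D2.rec (fun _ => D3 → (Cert rels S Gen.e)) (@D3.rec (fun _ => (Cert rels S Gen.e)) lc_e_rc_35_2 lc_e_Cert_tree lc_e_rc_36_2 lc_e_rc_39_2 lc_e_rc_21_1 lc_e_rc_28_3 lc_e_rc_13_1 lc_e_rc_21_1 lc_e_rc_35_2 lc_e_rc_36_2 lc_e_rc_34_0 lc_e_rc_39_2 lc_e_rc_35_2 lc_e_rc_4_1 lc_e_rc_13_1 lc_e_rc_21_1 lc_e_rc_35_2 lc_e_rc_13_1 lc_e_Cert_tree lc_e_rc_4_1 lc_e_rc_35_2 lc_e_rc_4_1 lc_e_rc_4_1 lc_e_rc_4_1 lc_e_rc_38_2 lc_e_rc_28_3 lc_e_rc_39_2 lc_e_rc_21_1 lc_e_rc_28_3 lc_e_rc_39_2 lc_e_rc_4_1 lc_e_rc_4_1 lc_e_Cert_tree lc_e_rc_4_1 lc_e_rc_4_1 lc_e_rc_39_2 lc_e_rc_21_1 lc_e_rc_4_1 lc_e_rc_13_1 lc_e_rc_21_1 lc_e_rc_4_1 lc_e_rc_34_0 lc_e_rc_35_0 lc_e_rc_35_2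 lc_e_rc_56_25 lc_e_rc_39_2 lc_e_Cert_tree lc_e_rc_34_0 lc_e_rc_39_2 lc_e_rc_21_1 lc_e_rc_35_2) (@D3.rec (fun _ => (Cert rels S Gen.e)) lc_e_Cert_tree lc_e_rc_36_2 lc_e_rc_13_1 lc_e_rc_39_2 lc_e_Cert_tree lc_e_rc_34_0 lc_e_rc_39_2 lc_e_Cert_tree lc_e_rc_34_0 lc_e_rc_39_2 lc_e_rc_36_2 lc_e_rc_39_2 lc_e_rc_35_2 lc_e_rc_4_3 lc_e_rc_36_2 lc_e_rc_39_2 lc_e_rc_37_2 lc_e_rc_39_2 lc_e_rc_38_2 lc_e_rc_39_2 lc_e_rc_35_2 lc_e_Cert_tree lc_e_rc_36_2 lc_e_Cert_tree lc_e_rc_34_0 lc_e_rc_39_2 lc_e_rc_21_1 lc_e_rc_28_3 lc_e_rc_13_1 lc_e_rc_21_1 lc_e_rc_35_2 lc_e_rc_4_1 lc_e_rc_13_1 lc_e_rc_21_1 lc_e_rc_39_0 lc_e_rc_37_2 lc_e_Cert_tree lc_e_rc_34_0 lc_e_rc_39_2 lc_e_Cert_tree lc_e_rc_34_0 lc_e_rc_39_2 lc_e_rc_39_2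 lc_e_rc_35_2 lc_e_rc_13_1 lc_e_rc_21_1 lc_e_rc_35_2 lc_e_rc_4_1 lc_e_rc_13_1 lc_e_rc_21_1 lc_e_rc_4_1) (@D3.rec (fun _ => (Cert rels S Gen.e)) lc_e_rc_13_1 lc_e_Cert_tree lc_e_rc_13_1 lc_e_rc_38_2 lc_e_rc_4_1 lc_e_rc_4_1 lc_e_rc_38_2 lc_e_rc_37_2 lc_e_rc_39_2 lc_e_rc_4_3 lc_e_rc_39_2 lc_e_rc_4_1 lc_e_rc_4_1 lc_e_rc_4_1 lc_e_rc_39_2 lc_e_rc_34_0 lc_e_rc_36_4 lc_e_rc_35_2 lc_e_rc_35_2 lc_e_Cert_tree lc_e_rc_39_2 lc_e_rc_34_0 lc_e_rc_39_2 lc_e_rc_21_1 lc_e_rc_35_2 lc_e_Cert_tree lc_e_rc_36_2 lc_e_Cert_tree lc_e_rc_39_2 lc_e_Cert_tree lc_e_rc_34_0 lc_e_rc_39_2 lc_e_Cert_tree lc_e_rc_34_0 lc_e_rc_39_2 lc_e_rc_39_2 lc_e_rc_35_2 lc_e_rc_34_0 lc_e_rc_39_2 lc_e_rc_36_2 lc_e_rc_39_2 lc_e_rc_35_2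 lc_e_Cert_tree lc_e_rc_36_2 lc_e_Cert_tree lc_e_rc_34_0 lc_e_rc_39_2 lc_e_rc_21_1 lc_e_rc_28_3 lc_e_rc_13_1 lc_e_rc_21_1) (@D3.rec (fun _ => (Cert rels S Gen.e)) lc_e_rc_4_1 lc_e_rc_13_1 lc_e_rc_37_2 lc_e_rc_35_2 lc_e_rc_56_18 lc_e_rc_34_0 lc_e_rc_39_2 lc_e_Cert_tree lc_e_rc_34_0 lc_e_rc_39_2 lc_e_rc_39_2 lc_e_rc_35_2 lc_e_rc_13_1 lc_e_rc_21_1 lc_e_rc_35_2 lc_e_rc_4_1 lc_e_rc_13_1 lc_e_rc_21_1 lc_e_rc_4_1 lc_e_rc_13_1 lc_e_Cert_tree lc_e_rc_36_4 lc_e_rc_35_0 lc_e_rc_35_2 lc_e_rc_39_2 lc_e_rc_36_2 lc_e_rc_34_0 lc_e_rc_21_1 lc_e_rc_35_2 lc_e_rc_4_1 lc_e_rc_35_2 lc_e_rc_4_1 lc_e_rc_35_0 lc_e_rc_4_1 lc_e_rc_4_1 lc_e_Cert_tree lc_e_rc_4_1 lc_e_rc_28_3 lc_e_rc_39_2 lc_e_rc_37_2 lc_e_rc_28_3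 lc_e_rc_28_3 lc_e_rc_21_1 lc_e_rc_4_3 lc_e_rc_4_1 lc_e_Cert_tree lc_e_rc_4_1 lc_e_Cert_tree lc_e_rc_34_0 lc_e_rc_39_2 lc_e_rc_21_1) (@D3.rec (fun _ => (Cert rels S Gen.e)) lc_e_rc_4_1 lc_e_rc_13_1 lc_e_rc_21_1 lc_e_rc_4_1 lc_e_rc_13_1 lc_e_rc_38_2 lc_e_rc_35_2 lc_e_rc_37_2 lc_e_rc_38_2 lc_e_Cert_tree lc_e_rc_39_2 lc_e_Cert_tree lc_e_rc_39_2 lc_e_Cert_tree lc_e_rc_34_0 lc_e_rc_39_2 lc_e_Cert_tree lc_e_rc_34_0 lc_e_rc_39_2 lc_e_rc_35_2 lc_e_rc_39_2 lc_e_rc_35_2 lc_e_rc_35_2 lc_e_Cert_tree lc_e_rc_36_2 lc_e_Cert_tree lc_e_rc_34_0 lc_e_rc_39_2 lc_e_Cert_tree lc_e_rc_34_0 lc_e_rc_39_2 lc_e_Cert_tree lc_e_rc_34_0 lc_e_rc_39_2 lc_e_rc_36_2 lc_e_rc_39_2 lc_e_rc_35_2 lc_e_Cert_tree lc_e_rc_34_0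 lc_e_rc_39_2 lc_e_rc_21_1 lc_e_rc_39_2 lc_e_rc_35_2 lc_e_rc_37_2 lc_e_rc_36_2 lc_e_rc_35_2 lc_e_rc_35_2 lc_e_rc_39_2 lc_e_rc_37_2 lc_e_rc_36_2 lc_e_rc_38_2) (@D3.rec (fun _ => (Cert rels S Gen.e)) lc_e_rc_39_2 lc_e_rc_39_2 lc_e_rc_35_2 lc_e_rc_37_2 lc_e_Cert_tree lc_e_rc_34_0 lc_e_rc_39_2 lc_e_Cert_tree lc_e_rc_34_0 lc_e_rc_39_2 lc_e_rc_39_2 lc_e_rc_35_2 lc_e_rc_13_1 lc_e_rc_21_1 lc_e_rc_35_2 lc_e_rc_4_1 lc_e_rc_13_1 lc_e_rc_21_1 lc_e_rc_4_1 lc_e_rc_13_1 lc_e_Cert_tree lc_e_rc_4_3 lc_e_rc_21_3 lc_e_rc_35_2 lc_e_rc_39_2 lc_e_rc_38_0 lc_e_rc_21_3 lc_e_rc_34_0 lc_e_rc_21_3 lc_e_rc_28_3 lc_e_rc_4_1 lc_e_rc_35_2 lc_e_rc_4_1 lc_e_rc_21_3 lc_e_rc_37_2 lc_e_rc_4_1 lc_e_rc_4_1 lc_e_rc_34_0 lc_e_rc_38_2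 lc_e_rc_35_2 lc_e_rc_37_2 lc_e_rc_38_2 lc_e_rc_39_2 lc_e_rc_39_2 lc_e_Cert_tree lc_e_Cert_tree lc_e_rc_34_0 lc_e_rc_37_2 lc_e_rc_34_0 lc_e_rc_13_1 lc_e_rc_4_1) (@D3.rec (fun _ => (Cert rels S Gen.e)) lc_e_rc_13_1 lc_e_rc_34_0 lc_e_rc_38_0 lc_e_rc_35_0 lc_e_rc_4_3 lc_e_rc_34_0 lc_e_rc_39_2 lc_e_rc_37_0 lc_e_rc_35_2 lc_e_rc_4_1 lc_e_rc_13_1 lc_e_rc_21_1 lc_e_rc_4_1 lc_e_rc_13_1 lc_e_rc_37_2 lc_e_rc_4_1 lc_e_rc_13_3 lc_e_rc_34_0 lc_e_rc_35_2 lc_e_rc_35_2 lc_e_rc_39_2 lc_e_rc_4_1 lc_e_rc_37_2 lc_e_Cert_tree lc_e_rc_34_0 lc_e_Cert_tree lc_e_rc_34_0 lc_e_rc_13_1 lc_e_rc_4_1 lc_e_rc_38_2 lc_e_Cert_tree lc_e_rc_39_2 lc_e_rc_4_1 lc_e_Cert_tree lc_e_rc_39_2 lc_e_Cert_tree lc_e_rc_34_0 lc_e_rc_39_2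 lc_e_rc_35_2 lc_e_rc_39_2 lc_e_rc_13_1 lc_e_rc_39_2 lc_e_rc_4_1 lc_e_rc_13_1 lc_e_rc_21_3 lc_e_Cert_tree lc_e_rc_34_0 lc_e_Cert_tree lc_e_rc_34_0 lc_e_rc_13_1 lc_e_rc_4_1) (@D3.rec (fun _ => (Cert rels S Gen.e)) lc_e_rc_13_1 lc_e_rc_39_2 lc_e_rc_34_0 lc_e_rc_39_2 lc_e_rc_39_0 lc_e_rc_28_3 lc_e_rc_38_0 lc_e_rc_39_2 lc_e_rc_36_2 lc_e_rc_38_0 lc_e_rc_38_0 lc_e_Cert_tree lc_e_rc_4_1 lc_e_rc_4_1 lc_e_rc_34_0 lc_e_rc_21_3 lc_e_rc_28_1 lc_e_rc_4_1 lc_e_rc_21_1 lc_e_rc_4_1 lc_e_Cert_tree lc_e_rc_34_0 lc_e_rc_39_2 lc_e_rc_36_2 lc_e_rc_39_2 lc_e_rc_35_2 lc_e_rc_39_2 lc_e_rc_39_2 lc_e_rc_37_2 lc_e_rc_39_2 lc_e_rc_38_2 lc_e_rc_34_0 lc_e_rc_39_2 lc_e_rc_28_3 lc_e_rc_13_1 lc_e_rc_21_1 lc_e_rc_35_2 lc_e_rc_4_1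 lc_e_rc_13_1 lc_e_rc_21_1 lc_e_rc_4_3 lc_e_rc_34_0 lc_e_rc_39_2 lc_e_rc_38_2 lc_e_rc_34_0 lc_e_rc_39_2 lc_e_rc_39_2 lc_e_rc_35_2 lc_e_rc_13_1 lc_e_rc_21_1 lc_e_rc_21_3) (@D3.rec (fun _ => (Cert rels S Gen.e)) lc_e_rc_4_1 lc_e_rc_13_1 lc_e_rc_21_1 lc_e_rc_4_1 lc_e_rc_13_1 lc_e_Cert_tree lc_e_rc_21_1 lc_e_rc_35_2 lc_e_rc_34_0 lc_e_rc_39_2 lc_e_rc_4_1 lc_e_rc_21_1 lc_e_rc_4_1 lc_e_rc_4_1 lc_e_rc_13_1 lc_e_rc_21_1 lc_e_Cert_tree lc_e_rc_34_0 lc_e_rc_39_2 lc_e_rc_35_2 lc_e_rc_39_2 lc_e_Cert_tree lc_e_rc_34_0 lc_e_rc_39_2 lc_e_rc_4_1 lc_e_rc_39_2 lc_e_rc_35_2 lc_e_Cert_tree lc_e_rc_34_0 lc_e_rc_39_2 lc_e_rc_21_1 lc_e_rc_39_2 lc_e_rc_35_2 lc_e_rc_37_2 lc_e_rc_36_2 lc_e_rc_35_2 lc_e_rc_36_2 lc_e_rc_39_2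 lc_e_rc_37_2 lc_e_rc_36_2 lc_e_rc_38_2 lc_e_rc_39_2 lc_e_rc_28_3 lc_e_Cert_tree lc_e_rc_34_0 lc_e_rc_39_2 lc_e_rc_39_2 lc_e_rc_35_2 lc_e_rc_13_1 lc_e_rc_21_1 lc_e_rc_35_2) (@D3.rec (fun _ => (Cert rels S Gen.e)) lc_e_rc_4_1 lc_e_rc_13_1 lc_e_rc_21_1 lc_e_rc_4_1 lc_e_rc_13_1 lc_e_Cert_tree lc_e_rc_36_4 lc_e_rc_37_0 lc_e_rc_38_2 lc_e_Cert_tree lc_e_rc_34_0 lc_e_rc_39_2 lc_e_rc_39_2 lc_e_rc_35_2 lc_e_rc_35_2 lc_e_rc_4_1 lc_e_rc_13_1 lc_e_rc_21_1 lc_e_rc_4_1 lc_e_rc_13_1 lc_e_Cert_tree lc_e_rc_4_1 lc_e_Cert_tree lc_e_rc_34_0 lc_e_rc_4_3 lc_e_rc_21_3 lc_e_rc_38_2 lc_e_rc_28_3 lc_e_rc_37_2 lc_e_rc_35_0 lc_e_rc_21_3 lc_e_rc_21_1 lc_e_rc_35_0 lc_e_rc_4_3 lc_e_rc_38_2 lc_e_rc_21_3 lc_e_Cert_tree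 lc_e_rc_34_0 lc_e_rc_39_2 lc_e_rc_39_2 lc_e_rc_35_2 lc_e_rc_13_1 lc_e_rc_21_1 lc_e_rc_38_2 lc_e_rc_4_1 lc_e_rc_13_1 lc_e_rc_35_2 lc_e_rc_4_1 lc_e_rc_35_2 lc_e_Cert_tree lc_e_rc_38_2) (@D3.rec (fun _ => (Cert rels S Gen.e)) lc_e_rc_21_3 lc_e_Cert_tree lc_e_rc_34_0 lc_e_rc_39_2 lc_e_rc_36_2 lc_e_rc_39_2 lc_e_rc_35_2 lc_e_Cert_tree lc_e_rc_34_0 lc_e_rc_39_2 lc_e_rc_21_3 lc_e_rc_39_2 lc_e_rc_35_2 lc_e_Cert_tree lc_e_rc_34_0 lc_e_rc_39_2 lc_e_rc_21_1 lc_e_rc_39_2 lc_e_rc_35_2 lc_e_rc_37_2 lc_e_rc_39_2 lc_e_rc_35_2 lc_e_rc_34_0 lc_e_rc_39_2 lc_e_rc_13_1 lc_e_rc_39_2 lc_e_rc_35_2 lc_e_rc_21_1 lc_e_rc_21_1 lc_e_rc_35_2 lc_e_Cert_tree lc_e_rc_38_2 lc_e_rc_37_2 lc_e_rc_35_2 lc_e_rc_35_2 lc_e_rc_36_2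 lc_e_rc_38_2 lc_e_rc_37_2 lc_e_rc_39_2 lc_e_rc_39_2 lc_e_rc_4_1 lc_e_rc_39_2 lc_e_rc_28_3 lc_e_rc_39_2 lc_e_rc_35_2 lc_e_rc_4_1 lc_e_rc_4_1 lc_e_Cert_tree lc_e_rc_4_1 lc_e_rc_28_3 lc_e_rc_34_0) (@D3.rec (fun _ => (Cert rels S Gen.e)) lc_e_rc_38_2 lc_e_rc_4_3 lc_e_rc_34_0 lc_e_rc_39_2 lc_e_rc_4_1 lc_e_rc_39_0 lc_e_Cert_tree lc_e_rc_13_1 lc_e_rc_4_1 lc_e_rc_34_0 lc_e_rc_35_2 lc_e_rc_34_0 lc_e_rc_13_1 lc_e_rc_39_2 lc_e_rc_39_2 lc_e_rc_39_2 lc_e_rc_37_2 lc_e_rc_38_2 lc_e_rc_4_1 lc_e_rc_35_2 lc_e_rc_39_2 lc_e_rc_13_1 lc_e_rc_13_1 lc_e_rc_35_2 lc_e_rc_4_1 lc_e_rc_39_2 lc_e_rc_35_2 lc_e_rc_39_2 lc_e_rc_39_2 lc_e_rc_34_0 lc_e_rc_39_2 lc_e_rc_4_1 lc_e_rc_39_2 lc_e_rc_35_2 lc_e_rc_38_2 lc_e_rc_39_2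 lc_e_rc_4_1 lc_e_rc_37_2 lc_e_rc_4_1 lc_e_rc_39_2 lc_e_rc_39_2 lc_e_rc_4_1 lc_e_rc_35_2 lc_e_rc_39_2 lc_e_rc_37_2 lc_e_rc_37_2 lc_e_rc_38_2 lc_e_rc_21_3 lc_e_rc_4_1 lc_e_rc_4_1 lc_e_rc_35_2) (@D3.rec (fun _ => (Cert rels S Gen.e)) lc_e_rc_39_2 lc_e_rc_39_2 lc_e_rc_37_2 lc_e_rc_39_2 lc_e_rc_39_2 lc_e_rc_35_2 lc_e_rc_39_2 lc_e_rc_4_1 lc_e_rc_35_0 lc_e_rc_39_2 lc_e_rc_55_76 lc_e_rc_39_2 lc_e_rc_35_2 lc_e_rc_36_2 lc_e_rc_37_2 lc_e_rc_38_2 lc_e_rc_37_2 lc_e_rc_38_2 lc_e_rc_35_2 lc_e_rc_39_2 lc_e_rc_4_1 lc_e_rc_38_2 lc_e_rc_36_2 lc_e_rc_39_2 lc_e_rc_39_2 lc_e_rc_36_4 lc_e_rc_28_1 lc_e_rc_21_1 lc_e_rc_55_31 lc_e_rc_21_1 lc_e_rc_13_3 lc_e_rc_13_1 lc_e_rc_28_3 lc_e_rc_39_2 lc_e_rc_39_2 lc_e_rc_28_3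 lc_e_rc_39_2 lc_e_rc_21_1 lc_e_rc_28_3 lc_e_rc_35_2 lc_e_rc_39_2 lc_e_rc_36_2 lc_e_rc_35_2 lc_e_rc_39_2 lc_e_rc_28_3 lc_e_rc_35_2 lc_e_rc_37_2 lc_e_rc_37_2 lc_e_rc_38_2 lc_e_rc_38_2 lc_e_rc_34_0) (@D3.rec (fun _ => (Cert rels S Gen.e)) lc_e_rc_39_2 lc_e_rc_34_0 lc_e_rc_39_2 lc_e_rc_34_0 lc_e_rc_39_2 lc_e_rc_36_2 lc_e_rc_39_2 lc_e_rc_35_2 lc_e_rc_28_3 lc_e_rc_4_1 lc_e_rc_34_0 lc_e_rc_39_2 lc_e_rc_4_3 lc_e_rc_4_3 lc_e_rc_39_2 lc_e_rc_35_2 lc_e_rc_4_1 lc_e_rc_34_0 lc_e_rc_39_2 lc_e_rc_36_2 lc_e_rc_39_2 lc_e_rc_35_2 lc_e_rc_37_2 lc_e_rc_39_2 lc_e_rc_35_2 lc_e_rc_21_1 lc_e_rc_28_3 lc_e_rc_13_1 lc_e_rc_21_1 lc_e_rc_35_2 lc_e_rc_36_4 lc_e_rc_36_4 lc_e_rc_21_1 lc_e_rc_28_3 lc_e_rc_13_1 lc_e_rc_21_1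 lc_e_rc_35_2 lc_e_rc_4_1 lc_e_rc_13_1 lc_e_rc_21_1 lc_e_rc_34_0 lc_e_rc_37_2 lc_e_rc_35_2 lc_e_rc_37_2 lc_e_rc_28_3 lc_e_rc_37_2 lc_e_rc_13_1 lc_e_rc_38_2 lc_e_rc_37_2 lc_e_rc_35_2 lc_e_rc_36_2) (@D3.rec (fun _ => (Cert rels S Gen.e)) lc_e_rc_35_2 lc_e_rc_35_2 lc_e_rc_39_2 lc_e_rc_4_1 lc_e_rc_28_3 lc_e_rc_21_1 lc_e_rc_38_2 lc_e_rc_13_1 lc_e_rc_35_2 lc_e_rc_28_3 lc_e_rc_37_2 lc_e_rc_35_2 lc_e_rc_38_2 lc_e_rc_37_2 lc_e_Cert_tree lc_e_rc_39_2 lc_e_rc_28_1 lc_e_rc_13_1 lc_e_rc_38_2 lc_e_rc_37_2 lc_e_rc_28_3 lc_e_rc_39_2 lc_e_rc_38_2 lc_e_rc_39_2 lc_e_rc_38_2 lc_e_rc_39_2 lc_e_rc_28_3 lc_e_rc_4_1 lc_e_rc_34_0 lc_e_rc_37_2 lc_e_rc_35_2 lc_e_rc_38_2 lc_e_rc_13_1 lc_e_rc_4_1 lc_e_rc_37_2 lc_e_rc_35_2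 lc_e_rc_39_2 lc_e_rc_34_0 lc_e_rc_39_2 lc_e_rc_4_1 lc_e_rc_39_2 lc_e_rc_28_3 lc_e_rc_35_2 lc_e_rc_21_1 lc_e_rc_38_2 lc_e_rc_37_2 lc_e_Cert_tree lc_e_rc_39_2 lc_e_rc_39_2 lc_e_rc_34_0 lc_e_rc_39_2) (@D3.rec (fun _ => (Cert rels S Gen.e)) lc_e_rc_36_2 lc_e_rc_39_2 lc_e_rc_35_2 lc_e_rc_39_2 lc_e_rc_38_2 lc_e_rc_39_2 lc_e_rc_28_3 lc_e_rc_35_2 lc_e_rc_21_1 lc_e_rc_38_2 lc_e_rc_37_2 lc_e_Cert_tree lc_e_rc_39_2 lc_e_rc_38_2 lc_e_Cert_tree lc_e_rc_39_2 lc_e_rc_34_0 lc_e_rc_39_2 lc_e_rc_35_2 lc_e_rc_13_1 lc_e_rc_35_2 lc_e_rc_38_2 lc_e_rc_28_3 lc_e_rc_39_2 lc_e_rc_21_1 lc_e_rc_28_3 lc_e_rc_39_2 lc_e_rc_37_2 lc_e_rc_35_2 lc_e_rc_35_2 lc_e_rc_36_2 lc_e_rc_28_3 lc_e_rc_39_2 lc_e_rc_21_1 lc_e_rc_28_3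 lc_e_rc_13_1 lc_e_rc_21_1 lc_e_rc_35_2 lc_e_rc_13_1 lc_e_rc_37_2 lc_e_rc_35_2 lc_e_rc_38_2 lc_e_rc_37_2 lc_e_Cert_tree lc_e_rc_39_2 lc_e_rc_37_2 lc_e_rc_37_2 lc_e_rc_4_1 lc_e_rc_4_1 lc_e_rc_38_2 lc_e_rc_37_2) (@D3.rec (fun _ => (Cert rels S Gen.e)) lc_e_Cert_tree lc_e_rc_39_2 lc_e_rc_39_2 lc_e_rc_34_0 lc_e_rc_39_2 lc_e_rc_36_2 lc_e_rc_39_2 lc_e_rc_35_2 lc_e_rc_4_1 lc_e_rc_4_1 lc_e_rc_39_2 lc_e_rc_39_2 lc_e_rc_37_2 lc_e_rc_28_3 lc_e_rc_35_2 lc_e_Cert_tree lc_e_rc_39_2 lc_e_rc_21_1 lc_e_rc_35_2 lc_e_rc_38_2 lc_e_Cert_tree lc_e_rc_39_2 lc_e_Cert_tree lc_e_rc_34_0 lc_e_rc_39_2 lc_e_rc_39_2 lc_e_rc_34_0 lc_e_rc_39_2 lc_e_rc_36_2 lc_e_rc_39_2 lc_e_rc_35_2 lc_e_rc_37_2 lc_e_rc_39_2 lc_e_rc_35_2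 lc_e_rc_13_1 lc_e_rc_35_2 lc_e_rc_36_2 lc_e_rc_36_2 lc_e_rc_39_2 lc_e_rc_37_2 lc_e_rc_39_2 lc_e_rc_35_2 lc_e_rc_39_2 lc_e_rc_13_1 lc_e_rc_36_2 lc_e_rc_39_2 lc_e_rc_35_2 lc_e_rc_39_2 lc_e_Cert_tree lc_e_rc_28_3 lc_e_rc_35_2) (@D3.rec (fun _ => (Cert rels S Gen.e)) lc_e_Cert_tree lc_e_rc_39_2 lc_e_rc_21_1 lc_e_rc_35_2 lc_e_rc_38_2 lc_e_Cert_tree lc_e_rc_39_2 lc_e_Cert_tree lc_e_rc_34_0 lc_e_rc_39_2 lc_e_Cert_tree lc_e_rc_39_2 lc_e_rc_34_0 lc_e_rc_39_2 lc_e_rc_39_2 lc_e_rc_35_2 lc_e_rc_13_1 lc_e_rc_35_2 lc_e_Cert_tree lc_e_rc_36_2 lc_e_rc_28_3 lc_e_rc_39_2 lc_e_rc_21_1 lc_e_rc_28_3 lc_e_rc_13_1 lc_e_rc_21_1 lc_e_rc_35_2 lc_e_rc_35_2 lc_e_rc_13_3 lc_e_rc_36_2 lc_e_Cert_tree lc_e_rc_34_0 lc_e_rc_39_2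 lc_e_rc_21_1 lc_e_rc_28_3 lc_e_rc_13_1 lc_e_rc_21_1 lc_e_rc_35_2 lc_e_rc_4_1 lc_e_rc_13_1 lc_e_rc_21_1 lc_e_rc_13_1 lc_e_rc_13_1 lc_e_rc_13_1 lc_e_rc_38_2 lc_e_rc_37_2 lc_e_Cert_tree lc_e_rc_39_2 lc_e_rc_38_2 lc_e_Cert_tree lc_e_rc_39_2) (@D3.rec (fun _ => (Cert rels S Gen.e)) lc_e_rc_13_1 lc_e_rc_34_0 lc_e_rc_39_2 lc_e_rc_39_2 lc_e_rc_35_2 lc_e_Cert_tree lc_e_rc_4_1 lc_e_rc_4_1 lc_e_Cert_tree lc_e_rc_4_1 lc_e_rc_4_1 lc_e_rc_4_1 lc_e_rc_38_2 lc_e_Cert_tree lc_e_rc_39_2 lc_e_rc_4_3 lc_e_rc_34_0 lc_e_rc_39_2 lc_e_rc_39_2 lc_e_rc_34_0 lc_e_rc_39_2 lc_e_rc_36_2 lc_e_rc_39_2 lc_e_rc_35_2 lc_e_rc_37_2 lc_e_rc_39_2 lc_e_rc_35_2 lc_e_rc_4_1 lc_e_rc_4_1 lc_e_rc_21_3 lc_e_rc_4_1 lc_e_rc_39_2 lc_e_rc_38_0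 lc_e_rc_21_3 lc_e_rc_28_1 lc_e_rc_4_1 lc_e_rc_34_0 lc_e_rc_38_2 lc_e_rc_35_2 lc_e_rc_35_2 lc_e_Cert_tree lc_e_rc_39_2 lc_e_Cert_tree lc_e_rc_34_0 lc_e_rc_39_2 lc_e_rc_21_1 lc_e_rc_35_2 lc_e_Cert_tree lc_e_rc_36_2 lc_e_Cert_tree lc_e_rc_39_2) (@D3.rec (fun _ => (Cert rels S Gen.e)) lc_e_Cert_tree lc_e_rc_34_0 lc_e_rc_39_2 lc_e_Cert_tree lc_e_rc_34_0 lc_e_rc_39_2 lc_e_rc_36_2 lc_e_rc_39_2 lc_e_rc_35_2 lc_e_rc_34_0 lc_e_rc_39_2 lc_e_rc_36_2 lc_e_rc_39_2 lc_e_rc_35_2 lc_e_rc_37_2 lc_e_rc_39_2 lc_e_rc_35_2 lc_e_rc_38_2 lc_e_rc_39_2 lc_e_rc_35_2 lc_e_rc_28_1 lc_e_rc_21_3 lc_e_rc_36_2 lc_e_Cert_tree lc_e_rc_34_0 lc_e_rc_39_2 lc_e_rc_4_1 lc_e_rc_21_3 lc_e_rc_13_1 lc_e_rc_21_1 lc_e_rc_35_2 lc_e_rc_4_1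 lc_e_rc_13_1 lc_e_rc_21_1 lc_e_rc_37_2 lc_e_rc_34_0 lc_e_rc_38_2 lc_e_Cert_tree lc_e_rc_34_0 lc_e_rc_39_2 lc_e_rc_39_2 lc_e_rc_35_2 lc_e_rc_13_1 lc_e_rc_21_1 lc_e_rc_35_2 lc_e_rc_4_1 lc_e_rc_13_1 lc_e_rc_21_1 lc_e_rc_4_1 lc_e_rc_13_1 lc_e_Cert_tree) (@D3.rec (fun _ => (Cert rels S Gen.e)) lc_e_rc_13_1 lc_e_rc_38_0 lc_e_rc_38_2 lc_e_rc_21_1 lc_e_rc_35_2 lc_e_rc_38_0 lc_e_rc_39_2 lc_e_Cert_tree lc_e_rc_39_2 lc_e_rc_34_0 lc_e_rc_39_2 lc_e_rc_28_3 lc_e_rc_39_2 lc_e_rc_34_0 lc_e_rc_39_2 lc_e_rc_38_2 lc_e_rc_28_3 lc_e_rc_39_2 lc_e_rc_21_1 lc_e_rc_28_3 lc_e_rc_39_2 lc_e_rc_34_0 lc_e_rc_37_2 lc_e_rc_35_2 lc_e_rc_35_2 lc_e_rc_28_3 lc_e_rc_37_2 lc_e_rc_35_2 lc_e_rc_38_2 lc_e_rc_37_2 lc_e_Cert_tree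 lc_e_rc_39_2 lc_e_rc_38_2 lc_e_rc_36_2 lc_e_rc_38_2 lc_e_rc_37_2 lc_e_rc_4_1 lc_e_rc_39_2 lc_e_rc_38_2 lc_e_rc_39_2 lc_e_rc_28_3 lc_e_rc_35_2 lc_e_rc_21_1 lc_e_rc_38_2 lc_e_rc_37_2 lc_e_Cert_tree lc_e_rc_39_2 lc_e_rc_38_2 lc_e_rc_38_0 lc_e_rc_39_2 lc_e_rc_34_0) (@D3.rec (fun _ => (Cert rels S Gen.e)) lc_e_rc_39_2 lc_e_rc_36_2 lc_e_rc_39_2 lc_e_rc_35_2 lc_e_rc_13_1 lc_e_rc_35_2 lc_e_rc_38_2 lc_e_rc_38_0 lc_e_rc_39_2 lc_e_rc_21_1 lc_e_rc_28_3 lc_e_rc_39_2 lc_e_rc_37_2 lc_e_rc_35_2 lc_e_rc_36_2 lc_e_rc_28_3 lc_e_rc_39_2 lc_e_rc_28_3 lc_e_rc_13_1 lc_e_rc_21_1 lc_e_rc_35_2 lc_e_rc_13_1 lc_e_rc_37_2 lc_e_rc_35_2 lc_e_rc_38_2 lc_e_rc_37_2 lc_e_rc_39_2 lc_e_rc_28_3 lc_e_rc_35_2 lc_e_rc_36_2 lc_e_rc_38_2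 lc_e_rc_37_2 lc_e_Cert_tree lc_e_rc_39_2 lc_e_rc_38_2 lc_e_Cert_tree lc_e_rc_39_2 lc_e_rc_34_0 lc_e_rc_39_2 lc_e_rc_35_2 lc_e_rc_36_2 lc_e_rc_36_2 lc_e_rc_38_2 lc_e_rc_4_1 lc_e_rc_39_2 lc_e_rc_21_1 lc_e_rc_4_1 lc_e_rc_39_2 lc_e_rc_4_1 lc_e_rc_28_3 lc_e_rc_35_2) (@D3.rec (fun _ => (Cert rels S Gen.e)) lc_e_Cert_tree lc_e_rc_39_2 lc_e_rc_21_1 lc_e_rc_35_2 lc_e_rc_38_2 lc_e_Cert_tree lc_e_rc_39_2 lc_e_Cert_tree lc_e_rc_34_0 lc_e_rc_39_2 lc_e_rc_39_2 lc_e_rc_34_0 lc_e_rc_39_2 lc_e_rc_36_2 lc_e_rc_39_2 lc_e_rc_35_2 lc_e_rc_37_2 lc_e_rc_39_2 lc_e_rc_35_2 lc_e_rc_13_1 lc_e_rc_36_2 lc_e_rc_39_2 lc_e_rc_21_1 lc_e_rc_37_2 lc_e_rc_13_1 lc_e_rc_21_1 lc_e_rc_35_2 lc_e_rc_35_2 lc_e_rc_4_1 lc_e_rc_13_1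 lc_e_rc_35_2 lc_e_rc_56_32 lc_e_rc_13_1 lc_e_rc_37_2 lc_e_rc_34_1 lc_e_rc_39_2 lc_e_rc_39_2 lc_e_rc_37_2 lc_e_rc_4_1 lc_e_rc_39_2 lc_e_rc_37_2 lc_e_rc_39_2 lc_e_rc_39_2 lc_e_Cert_tree lc_e_rc_39_2 lc_e_rc_34_0 lc_e_rc_39_2 lc_e_rc_36_2 lc_e_rc_39_2 lc_e_rc_35_2 lc_e_rc_35_2) (@D3.rec (fun _ => (Cert rels S Gen.e)) lc_e_rc_28_3 lc_e_rc_39_2 lc_e_rc_21_1 lc_e_rc_28_3 lc_e_rc_39_2 lc_e_rc_35_2 lc_e_Cert_tree lc_e_rc_36_2 lc_e_rc_28_3 lc_e_rc_39_2 lc_e_rc_21_1 lc_e_rc_28_3 lc_e_rc_13_1 lc_e_rc_21_1 lc_e_rc_35_2 lc_e_rc_13_1 lc_e_rc_37_2 lc_e_rc_35_2 lc_e_rc_38_2 lc_e_rc_37_2 lc_e_rc_39_2 lc_e_rc_28_3 lc_e_rc_35_2 lc_e_rc_4_1 lc_e_rc_38_2 lc_e_rc_37_2 lc_e_Cert_tree lc_e_rc_39_2 lc_e_rc_38_2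 lc_e_Cert_tree lc_e_rc_39_2 lc_e_rc_34_0 lc_e_rc_39_2 lc_e_rc_37_2 lc_e_rc_4_1 lc_e_rc_4_1 lc_e_rc_38_2 lc_e_rc_4_1 lc_e_rc_39_2 lc_e_rc_13_3 lc_e_rc_4_1 lc_e_rc_39_2 lc_e_Cert_tree lc_e_rc_28_3 lc_e_rc_35_2 lc_e_Cert_tree lc_e_rc_39_2 lc_e_rc_21_1 lc_e_rc_35_2 lc_e_rc_38_2 lc_e_Cert_tree) (@D3.rec (fun _ => (Cert rels S Gen.e)) lc_e_rc_39_2 lc_e_Cert_tree lc_e_rc_34_0 lc_e_rc_39_2 lc_e_rc_37_2 lc_e_rc_39_2 lc_e_rc_34_0 lc_e_rc_39_2 lc_e_rc_36_2 lc_e_rc_39_2 lc_e_rc_35_2 lc_e_rc_37_2 lc_e_rc_39_2 lc_e_rc_35_2 lc_e_rc_13_1 lc_e_rc_35_2 lc_e_Cert_tree lc_e_rc_36_2 lc_e_rc_37_2 lc_e_rc_39_2 lc_e_rc_21_1 lc_e_rc_28_3 lc_e_rc_13_1 lc_e_rc_21_1 lc_e_rc_35_2 lc_e_rc_35_2 lc_e_Cert_tree lc_e_rc_36_2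 lc_e_Cert_tree lc_e_rc_34_0 lc_e_rc_39_2 lc_e_rc_21_1 lc_e_rc_28_3 lc_e_rc_13_1 lc_e_rc_21_1 lc_e_rc_35_2 lc_e_rc_4_1 lc_e_rc_13_1 lc_e_rc_21_1 lc_e_rc_21_1 lc_e_rc_13_1 lc_e_rc_13_1 lc_e_rc_13_1 lc_e_rc_38_2 lc_e_rc_37_2 lc_e_rc_28_3 lc_e_rc_39_2 lc_e_rc_38_2 lc_e_rc_39_2 lc_e_Cert_tree lc_e_rc_28_3) (@D3.rec (fun _ => (Cert rels S Gen.e)) lc_e_rc_35_2 lc_e_Cert_tree lc_e_rc_39_2 lc_e_rc_4_1 lc_e_rc_4_1 lc_e_rc_38_2 lc_e_Cert_tree lc_e_rc_39_2 lc_e_Cert_tree lc_e_rc_34_0 lc_e_rc_39_2 lc_e_Cert_tree lc_e_rc_39_2 lc_e_rc_34_0 lc_e_rc_39_2 lc_e_rc_39_2 lc_e_rc_35_2 lc_e_rc_4_1 lc_e_rc_4_1 lc_e_Cert_tree lc_e_rc_4_1 lc_e_rc_4_1 lc_e_rc_39_2 lc_e_rc_21_1 lc_e_rc_4_1 lc_e_rc_13_1 lc_e_rc_21_1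 lc_e_rc_35_2 lc_e_rc_34_0 lc_e_rc_38_2 lc_e_rc_35_2 lc_e_rc_35_2 lc_e_Cert_tree lc_e_rc_39_2 lc_e_Cert_tree lc_e_rc_34_0 lc_e_rc_39_2 lc_e_rc_21_1 lc_e_rc_35_2 lc_e_Cert_tree lc_e_rc_36_2 lc_e_Cert_tree lc_e_rc_39_2 lc_e_Cert_tree lc_e_rc_34_0 lc_e_rc_39_2 lc_e_Cert_tree lc_e_rc_34_0 lc_e_rc_39_2 lc_e_rc_36_2 lc_e_rc_39_2) (@D3.rec (fun _ => (Cert rels S Gen.e)) lc_e_rc_35_2 lc_e_rc_34_0 lc_e_rc_39_2 lc_e_rc_36_2 lc_e_rc_39_2 lc_e_rc_35_2 lc_e_rc_37_2 lc_e_rc_39_2 lc_e_rc_35_2 lc_e_rc_38_2 lc_e_rc_39_2 lc_e_rc_35_2 lc_e_rc_35_2 lc_e_Cert_tree lc_e_rc_36_2 lc_e_Cert_tree lc_e_rc_34_0 lc_e_rc_39_2 lc_e_rc_21_1 lc_e_rc_38_2 lc_e_rc_13_1 lc_e_rc_21_1 lc_e_rc_35_2 lc_e_rc_4_1 lc_e_rc_13_1 lc_e_rc_35_2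 lc_e_rc_37_2 lc_e_rc_34_0 lc_e_rc_39_2 lc_e_Cert_tree lc_e_rc_34_0 lc_e_rc_39_2 lc_e_rc_39_2 lc_e_rc_35_2 lc_e_rc_35_2 lc_e_rc_4_1 lc_e_rc_13_1 lc_e_rc_35_2 lc_e_rc_4_1 lc_e_rc_13_1 lc_e_rc_21_3 lc_e_rc_56_25 lc_e_rc_56_18 lc_e_rc_13_1 lc_e_Cert_tree lc_e_rc_21_1 lc_e_rc_34_0 lc_e_rc_39_2 lc_e_rc_4_3 lc_e_rc_28_1 lc_e_rc_39_2)
def ce_e_9 : D2 → D3 → (Cert rels S Gen.e) := @D2.rec (fun _ => D3 → (Cert rels S Gen.e)) (@D3.rec (fun _ => (Cert rels S Gen.e)) lc_e_rc_34_0 lc_e_rc_39_2 lc_e_rc_36_0 lc_e_rc_36_2 lc_e_rc_34_0 lc_e_rc_39_2 lc_e_rc_36_2 lc_e_rc_39_2 lc_e_rc_35_2 lc_e_rc_37_2 lc_e_rc_39_2 lc_e_rc_35_2 lc_e_rc_36_2 lc_e_rc_39_2 lc_e_rc_36_2 lc_e_rc_34_0 lc_e_rc_39_2 lc_e_rc_28_3 lc_e_rc_21_1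 lc_e_rc_13_1 lc_e_rc_13_1 lc_e_rc_38_2 lc_e_rc_37_2 lc_e_rc_36_2 lc_e_rc_39_2 lc_e_rc_38_2 lc_e_rc_39_2 lc_e_rc_4_1 lc_e_rc_4_1 lc_e_rc_38_2 lc_e_Cert_tree lc_e_rc_39_2 lc_e_rc_34_0 lc_e_rc_39_2 lc_e_Cert_tree lc_e_rc_39_2 lc_e_rc_34_0 lc_e_rc_39_2 lc_e_rc_39_2 lc_e_rc_35_2 lc_e_rc_4_1 lc_e_rc_4_1 lc_e_rc_4_1 lc_e_rc_39_2 lc_e_rc_34_0 lc_e_rc_38_2 lc_e_rc_35_2 lc_e_rc_35_2 lc_e_Cert_tree lc_e_rc_39_2 lc_e_rc_34_0) (@D3.rec (fun _ => (Cert rels S Gen.e)) lc_e_rc_39_2 lc_e_rc_21_1 lc_e_rc_35_2 lc_e_Cert_tree lc_e_rc_36_2 lc_e_Cert_tree lc_e_rc_39_2 lc_e_Cert_tree lc_e_rc_34_0 lc_e_rc_39_2 lc_e_rc_13_3 lc_e_rc_34_0 lc_e_rc_39_2 lc_e_rc_4_1 lc_e_rc_39_2 lc_e_rc_35_2 lc_e_rc_34_0 lc_e_rc_39_2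 lc_e_rc_36_2 lc_e_rc_39_2 lc_e_rc_35_2 lc_e_rc_37_2 lc_e_rc_39_2 lc_e_rc_35_2 lc_e_rc_38_2 lc_e_rc_39_2 lc_e_rc_35_2 lc_e_rc_35_2 lc_e_Cert_tree lc_e_rc_36_2 lc_e_Cert_tree lc_e_rc_34_0 lc_e_rc_39_2 lc_e_rc_4_1 lc_e_rc_4_1 lc_e_rc_35_2 lc_e_rc_4_1 lc_e_rc_39_2 lc_e_rc_37_2 lc_e_rc_37_2 lc_e_rc_38_2 lc_e_rc_34_0 lc_e_rc_39_2 lc_e_rc_35_2 lc_e_rc_34_0 lc_e_rc_39_2 lc_e_rc_39_2 lc_e_rc_39_2 lc_e_rc_13_1 lc_e_rc_13_1 lc_e_rc_39_2) (@D3.rec (fun _ => (Cert rels S Gen.e)) lc_e_rc_21_1 lc_e_rc_56_53 lc_e_rc_39_2 lc_e_rc_13_1 lc_e_Cert_tree lc_e_rc_13_1 lc_e_rc_13_1 lc_e_rc_37_0 lc_e_rc_13_1 lc_e_rc_13_1 lc_e_rc_13_1 lc_e_rc_38_2 lc_e_rc_37_2 lc_e_rc_39_2 lc_e_rc_13_1 lc_e_rc_36_2 lc_e_rc_39_2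 lc_e_rc_34_0 lc_e_rc_38_2 lc_e_rc_35_2 lc_e_rc_35_2 lc_e_Cert_tree lc_e_rc_39_2 lc_e_rc_34_0 lc_e_rc_39_2 lc_e_rc_4_1 lc_e_rc_4_1 lc_e_Cert_tree lc_e_rc_4_1 lc_e_Cert_tree lc_e_rc_39_2 lc_e_Cert_tree lc_e_rc_34_0 lc_e_rc_39_2 lc_e_rc_4_1 lc_e_rc_34_0 lc_e_rc_39_2 lc_e_rc_39_2 lc_e_rc_35_2 lc_e_rc_34_0 lc_e_rc_39_2 lc_e_rc_4_1 lc_e_rc_39_2 lc_e_rc_35_2 lc_e_rc_35_2 lc_e_rc_4_1 lc_e_Cert_tree lc_e_rc_4_1 lc_e_Cert_tree lc_e_rc_34_0 lc_e_rc_39_2) (@D3.rec (fun _ => (Cert rels S Gen.e)) lc_e_rc_21_1 lc_e_rc_4_1 lc_e_rc_13_1 lc_e_rc_21_1 lc_e_rc_4_1 lc_e_rc_13_1 lc_e_rc_38_2 lc_e_rc_35_2 lc_e_rc_37_2 lc_e_rc_38_2 lc_e_Cert_tree lc_e_rc_39_2 lc_e_Cert_tree lc_e_rc_39_2 lc_e_Cert_tree lc_e_rc_34_0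 lc_e_rc_39_2 lc_e_rc_36_4 lc_e_rc_34_0 lc_e_rc_39_2 lc_e_rc_35_2 lc_e_rc_39_2 lc_e_rc_35_2 lc_e_rc_35_2 lc_e_Cert_tree lc_e_rc_36_2 lc_e_Cert_tree lc_e_rc_34_0 lc_e_rc_39_2 lc_e_Cert_tree lc_e_rc_34_0 lc_e_rc_39_2 lc_e_Cert_tree lc_e_rc_34_0 lc_e_rc_39_2 lc_e_rc_36_2 lc_e_rc_39_2 lc_e_rc_35_2 lc_e_rc_36_4 lc_e_rc_34_0 lc_e_rc_39_2 lc_e_rc_21_1 lc_e_rc_39_2 lc_e_rc_35_2 lc_e_rc_37_2 lc_e_rc_36_2 lc_e_rc_35_2 lc_e_rc_36_2 lc_e_rc_39_2 lc_e_rc_35_2 lc_e_rc_37_2) (@D3.rec (fun _ => (Cert rels S Gen.e)) lc_e_rc_36_2 lc_e_rc_35_2 lc_e_rc_38_2 lc_e_rc_39_2 lc_e_rc_35_2 lc_e_rc_28_3 lc_e_rc_39_2 lc_e_rc_35_2 lc_e_Cert_tree lc_e_rc_37_2 lc_e_Cert_tree lc_e_rc_34_0 lc_e_rc_39_2 lc_e_Cert_tree lc_e_rc_34_0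 lc_e_rc_39_2 lc_e_rc_39_2 lc_e_rc_35_2 lc_e_rc_13_1 lc_e_rc_21_1 lc_e_rc_35_2 lc_e_rc_4_1 lc_e_rc_13_1 lc_e_rc_35_2 lc_e_rc_4_1 lc_e_rc_13_1 lc_e_Cert_tree lc_e_rc_37_2 lc_e_rc_34_0 lc_e_rc_39_2 lc_e_Cert_tree lc_e_rc_34_0 lc_e_rc_13_3 lc_e_rc_39_2 lc_e_rc_39_2 lc_e_Cert_tree lc_e_rc_34_0 lc_e_rc_39_2 lc_e_rc_4_1 lc_e_rc_39_2 lc_e_rc_56_18 lc_e_rc_35_2 lc_e_rc_4_1 lc_e_rc_13_1 lc_e_rc_35_2 lc_e_rc_4_1 lc_e_rc_13_1 lc_e_Cert_tree lc_e_rc_4_1 lc_e_rc_4_1 lc_e_rc_34_0) (@D3.rec (fun _ => (Cert rels S Gen.e)) lc_e_rc_38_2 lc_e_rc_35_2 lc_e_rc_37_2 lc_e_rc_38_2 lc_e_rc_39_2 lc_e_rc_39_2 lc_e_rc_39_2 lc_e_rc_36_2 lc_e_rc_34_0 lc_e_rc_21_1 lc_e_rc_34_0 lc_e_rc_37_2 lc_e_rc_36_2 lc_e_rc_38_2 lc_e_rc_35_2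 lc_e_rc_35_0 lc_e_rc_38_2 lc_e_rc_39_2 lc_e_rc_39_2 lc_e_Cert_tree lc_e_Cert_tree lc_e_rc_34_0 lc_e_Cert_tree lc_e_rc_34_0 lc_e_rc_4_1 lc_e_rc_37_2 lc_e_rc_38_2 lc_e_Cert_tree lc_e_rc_39_2 lc_e_rc_37_2 lc_e_rc_21_3 lc_e_rc_39_2 lc_e_Cert_tree lc_e_rc_34_0 lc_e_rc_39_2 lc_e_rc_4_1 lc_e_rc_38_2 lc_e_rc_39_0 lc_e_rc_35_2 lc_e_rc_13_1 lc_e_rc_35_2 lc_e_rc_35_0 lc_e_rc_39_2 lc_e_Cert_tree lc_e_rc_34_0 lc_e_rc_4_1 lc_e_rc_38_0 lc_e_Cert_tree lc_e_rc_34_0 lc_e_rc_21_3 lc_e_rc_13_3) (@D3.rec (fun _ => (Cert rels S Gen.e)) lc_e_rc_34_0 lc_e_rc_37_0 lc_e_rc_39_2 lc_e_rc_37_0 lc_e_rc_35_2 lc_e_rc_34_0 lc_e_rc_13_3 lc_e_rc_28_3 lc_e_rc_39_2 lc_e_rc_35_2 lc_e_rc_35_2 lc_e_rc_4_1 lc_e_rc_13_1 lc_e_rc_35_2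 lc_e_rc_4_1 lc_e_rc_13_1 lc_e_Cert_tree lc_e_rc_4_1 lc_e_rc_35_2 lc_e_rc_34_0 lc_e_rc_21_3 lc_e_rc_37_0 lc_e_rc_35_2 lc_e_rc_39_0 lc_e_rc_13_3 lc_e_rc_4_1 lc_e_rc_13_1 lc_e_rc_21_1 lc_e_rc_4_1 lc_e_rc_4_1 lc_e_rc_34_0 lc_e_rc_4_1 lc_e_rc_21_1 lc_e_rc_28_3 lc_e_rc_13_1 lc_e_rc_35_2 lc_e_rc_37_2 lc_e_rc_35_2 lc_e_rc_39_2 lc_e_rc_39_2 lc_e_rc_13_1 lc_e_rc_35_2 lc_e_rc_28_3 lc_e_rc_39_2 lc_e_rc_39_2 lc_e_rc_35_2 lc_e_rc_39_2 lc_e_Cert_tree lc_e_rc_39_2 lc_e_rc_39_2 lc_e_rc_34_0) (@D3.rec (fun _ => (Cert rels S Gen.e)) lc_e_rc_39_2 lc_e_rc_4_1 lc_e_rc_4_1 lc_e_rc_39_2 lc_e_rc_4_1 lc_e_rc_21_3 lc_e_rc_13_3 lc_e_rc_4_1 lc_e_rc_35_2 lc_e_rc_4_3 lc_e_rc_39_2 lc_e_Cert_tree lc_e_rc_34_0 lc_e_rc_39_2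 lc_e_rc_36_2 lc_e_rc_39_2 lc_e_rc_35_2 lc_e_rc_39_2 lc_e_rc_36_2 lc_e_rc_28_3 lc_e_rc_21_1 lc_e_rc_28_3 lc_e_rc_13_1 lc_e_rc_21_1 lc_e_rc_4_1 lc_e_rc_13_1 lc_e_rc_36_2 lc_e_rc_13_1 lc_e_rc_35_2 lc_e_rc_39_2 lc_e_rc_21_1 lc_e_rc_35_2 lc_e_rc_28_3 lc_e_rc_39_2 lc_e_rc_21_1 lc_e_rc_28_3 lc_e_rc_39_2 lc_e_rc_36_2 lc_e_rc_21_1 lc_e_rc_35_2 lc_e_rc_13_1 lc_e_rc_37_2 lc_e_rc_28_3 lc_e_rc_39_2 lc_e_rc_39_2 lc_e_rc_4_1 lc_e_Cert_tree lc_e_rc_39_2 lc_e_rc_34_0 lc_e_rc_39_2 lc_e_rc_13_3) (@D3.rec (fun _ => (Cert rels S Gen.e)) lc_e_rc_34_0 lc_e_rc_39_2 lc_e_rc_39_2 lc_e_rc_4_1 lc_e_rc_4_1 lc_e_rc_35_0 lc_e_rc_4_1 lc_e_rc_4_1 lc_e_rc_39_2 lc_e_rc_4_1 lc_e_rc_4_1 lc_e_rc_35_2 lc_e_rc_28_1 lc_e_rc_4_1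 lc_e_rc_34_0 lc_e_rc_39_2 lc_e_rc_21_1 lc_e_rc_35_2 lc_e_Cert_tree lc_e_rc_36_2 lc_e_rc_21_3 lc_e_rc_39_2 lc_e_Cert_tree lc_e_rc_34_0 lc_e_rc_39_2 lc_e_Cert_tree lc_e_rc_34_0 lc_e_rc_39_2 lc_e_rc_36_2 lc_e_rc_39_2 lc_e_rc_35_2 lc_e_rc_36_2 lc_e_rc_39_2 lc_e_rc_37_2 lc_e_rc_39_2 lc_e_rc_38_2 lc_e_rc_39_2 lc_e_rc_35_2 lc_e_rc_35_2 lc_e_rc_36_2 lc_e_Cert_tree lc_e_rc_34_0 lc_e_rc_39_2 lc_e_rc_21_1 lc_e_rc_28_3 lc_e_rc_13_1 lc_e_rc_21_1 lc_e_rc_35_2 lc_e_rc_13_1 lc_e_rc_21_1 lc_e_rc_37_2) (@D3.rec (fun _ => (Cert rels S Gen.e)) lc_e_rc_37_2 lc_e_rc_35_2 lc_e_rc_35_2 lc_e_rc_39_2 lc_e_rc_13_1 lc_e_rc_21_1 lc_e_rc_4_1 lc_e_rc_13_1 lc_e_rc_21_1 lc_e_rc_4_1 lc_e_rc_13_1 lc_e_Cert_tree lc_e_rc_13_1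 lc_e_rc_21_1 lc_e_rc_35_2 lc_e_rc_4_1 lc_e_rc_13_1 lc_e_rc_21_1 lc_e_rc_34_0 lc_e_rc_28_1 lc_e_rc_35_2 lc_e_rc_35_2 lc_e_rc_35_2 lc_e_rc_39_2 lc_e_rc_35_0 lc_e_rc_21_1 lc_e_rc_21_1 lc_e_Cert_tree lc_e_rc_36_2 lc_e_rc_28_3 lc_e_rc_39_2 lc_e_rc_37_2 lc_e_rc_28_3 lc_e_rc_28_1 lc_e_rc_21_1 lc_e_rc_4_1 lc_e_rc_39_2 lc_e_rc_4_3 lc_e_rc_21_3 lc_e_rc_38_2 lc_e_rc_28_3 lc_e_rc_37_2 lc_e_rc_35_0 lc_e_rc_21_3 lc_e_rc_21_1 lc_e_rc_35_0 lc_e_rc_4_1 lc_e_rc_21_3 lc_e_rc_39_2 lc_e_rc_38_0 lc_e_rc_36_2) (@D3.rec (fun _ => (Cert rels S Gen.e)) lc_e_rc_39_2 lc_e_rc_36_2 lc_e_rc_4_1 lc_e_rc_13_1 lc_e_rc_21_1 lc_e_rc_4_1 lc_e_rc_13_1 lc_e_Cert_tree lc_e_rc_36_2 lc_e_rc_13_1 lc_e_rc_13_1 lc_e_rc_36_2 lc_e_rc_13_1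 lc_e_rc_38_2 lc_e_rc_37_2 lc_e_rc_39_2 lc_e_rc_4_1 lc_e_rc_39_2 lc_e_rc_35_2 lc_e_rc_4_1 lc_e_rc_37_2 lc_e_rc_4_1 lc_e_rc_21_1 lc_e_rc_36_4 lc_e_rc_37_2 lc_e_rc_36_2 lc_e_Cert_tree lc_e_rc_4_1 lc_e_Cert_tree lc_e_rc_39_2 lc_e_Cert_tree lc_e_rc_34_0 lc_e_rc_39_2 lc_e_rc_36_2 lc_e_rc_34_0 lc_e_rc_39_2 lc_e_rc_39_2 lc_e_rc_35_2 lc_e_rc_34_0 lc_e_rc_39_2 lc_e_rc_4_1 lc_e_rc_39_2 lc_e_rc_4_1 lc_e_Cert_tree lc_e_rc_4_1 lc_e_Cert_tree lc_e_rc_34_0 lc_e_rc_39_2 lc_e_rc_21_1 lc_e_rc_4_1 lc_e_rc_13_1) (@D3.rec (fun _ => (Cert rels S Gen.e)) lc_e_rc_21_1 lc_e_rc_4_1 lc_e_rc_28_5 lc_e_rc_13_1 lc_e_rc_21_1 lc_e_rc_35_2 lc_e_rc_37_2 lc_e_rc_4_1 lc_e_Cert_tree lc_e_rc_39_2 lc_e_rc_36_0 lc_e_rc_39_2 lc_e_Cert_tree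 lc_e_rc_34_0 lc_e_rc_39_2 lc_e_Cert_tree lc_e_rc_34_0 lc_e_rc_39_2 lc_e_rc_35_2 lc_e_rc_39_2 lc_e_rc_35_2 lc_e_rc_35_2 lc_e_Cert_tree lc_e_rc_36_2 lc_e_Cert_tree lc_e_rc_34_0 lc_e_rc_39_2 lc_e_Cert_tree lc_e_rc_34_0 lc_e_rc_39_2 lc_e_Cert_tree lc_e_rc_34_0 lc_e_rc_39_2 lc_e_rc_36_2 lc_e_rc_39_2 lc_e_rc_35_2 lc_e_Cert_tree lc_e_rc_34_0 lc_e_rc_39_2 lc_e_rc_21_1 lc_e_rc_39_2 lc_e_rc_35_2 lc_e_rc_37_2 lc_e_rc_36_2 lc_e_rc_35_2 lc_e_rc_35_2 lc_e_rc_39_2 lc_e_rc_37_2 lc_e_rc_36_2 lc_e_rc_38_2 lc_e_rc_39_2) (@D3.rec (fun _ => (Cert rels S Gen.e)) lc_e_rc_39_2 lc_e_rc_21_3 lc_e_rc_37_2 lc_e_Cert_tree lc_e_rc_34_0 lc_e_rc_39_2 lc_e_Cert_tree lc_e_rc_34_0 lc_e_rc_39_2 lc_e_rc_39_2 lc_e_rc_35_2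 lc_e_rc_13_1 lc_e_rc_21_1 lc_e_rc_35_2 lc_e_rc_21_1 lc_e_rc_13_1 lc_e_rc_21_1 lc_e_rc_21_1 lc_e_rc_13_1 lc_e_Cert_tree lc_e_rc_13_3 lc_e_rc_28_3 lc_e_rc_34_0 lc_e_rc_39_2 lc_e_rc_39_2 lc_e_rc_35_2 lc_e_rc_28_1 lc_e_rc_34_0 lc_e_rc_39_2 lc_e_rc_28_3 lc_e_rc_39_2 lc_e_rc_35_2 lc_e_rc_35_2 lc_e_rc_4_1 lc_e_rc_38_2 lc_e_rc_21_1 lc_e_rc_4_1 lc_e_rc_35_2 lc_e_rc_38_0 lc_e_rc_4_1 lc_e_rc_4_1 lc_e_rc_34_0 lc_e_rc_38_0 lc_e_rc_37_2 lc_e_rc_28_3 lc_e_rc_39_2 lc_e_rc_39_2 lc_e_rc_39_2 lc_e_rc_21_1 lc_e_rc_4_1 lc_e_rc_39_2) (@D3.rec (fun _ => (Cert rels S Gen.e)) lc_e_rc_35_2 lc_e_rc_39_2 lc_e_rc_4_1 lc_e_rc_39_2 lc_e_Cert_tree lc_e_rc_34_0 lc_e_rc_39_2 lc_e_rc_39_2 lc_e_rc_39_2 lc_e_rc_39_2 lc_e_rc_21_1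 lc_e_rc_35_2 lc_e_rc_35_2 lc_e_rc_4_1 lc_e_rc_36_2 lc_e_rc_38_2 lc_e_rc_13_1 lc_e_rc_39_2 lc_e_rc_37_0 lc_e_rc_28_3 lc_e_rc_39_2 lc_e_rc_36_2 lc_e_rc_36_2 lc_e_rc_36_2 lc_e_rc_36_2 lc_e_rc_39_2 lc_e_rc_4_1 lc_e_rc_21_1 lc_e_rc_4_1 lc_e_rc_4_3 lc_e_rc_21_3 lc_e_rc_21_1 lc_e_rc_35_2 lc_e_Cert_tree lc_e_rc_36_2 lc_e_rc_39_2 lc_e_rc_28_3 lc_e_rc_21_3 lc_e_Cert_tree lc_e_rc_34_0 lc_e_rc_39_2 lc_e_rc_36_2 lc_e_rc_39_2 lc_e_rc_35_2 lc_e_rc_37_2 lc_e_rc_39_2 lc_e_rc_38_2 lc_e_rc_39_2 lc_e_rc_35_2 lc_e_rc_36_2 lc_e_rc_36_2) (@D3.rec (fun _ => (Cert rels S Gen.e)) lc_e_rc_34_0 lc_e_rc_39_2 lc_e_rc_28_3 lc_e_rc_13_1 lc_e_rc_21_1 lc_e_rc_35_2 lc_e_rc_4_1 lc_e_rc_13_1 lc_e_rc_21_1 lc_e_rc_34_0 lc_e_rc_39_2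 lc_e_rc_35_2 lc_e_rc_13_1 lc_e_rc_21_1 lc_e_rc_4_1 lc_e_rc_13_1 lc_e_rc_21_1 lc_e_rc_4_1 lc_e_rc_13_1 lc_e_rc_13_1 lc_e_rc_36_2 lc_e_rc_37_2 lc_e_rc_4_3 lc_e_rc_4_1 lc_e_rc_4_1 lc_e_rc_4_1 lc_e_rc_38_2 lc_e_rc_28_3 lc_e_rc_39_2 lc_e_rc_21_1 lc_e_rc_28_3 lc_e_rc_39_2 lc_e_rc_4_1 lc_e_rc_4_1 lc_e_rc_28_3 lc_e_rc_4_1 lc_e_rc_39_2 lc_e_rc_21_1 lc_e_rc_4_1 lc_e_rc_13_1 lc_e_rc_21_1 lc_e_rc_4_1 lc_e_rc_36_2 lc_e_rc_28_3 lc_e_rc_39_2 lc_e_rc_21_3 lc_e_rc_34_0 lc_e_rc_39_2 lc_e_rc_21_1 lc_e_rc_35_2 lc_e_Cert_tree) (@D3.rec (fun _ => (Cert rels S Gen.e)) lc_e_rc_36_2 lc_e_rc_28_3 lc_e_rc_39_2 lc_e_Cert_tree lc_e_rc_34_0 lc_e_rc_39_2 lc_e_Cert_tree lc_e_rc_34_0 lc_e_rc_39_2 lc_e_rc_39_2 lc_e_rc_35_2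 lc_e_rc_39_2 lc_e_rc_36_2 lc_e_rc_39_2 lc_e_rc_36_2 lc_e_Cert_tree lc_e_rc_34_0 lc_e_rc_39_2 lc_e_rc_21_1 lc_e_rc_35_2 lc_e_rc_4_1 lc_e_rc_13_1 lc_e_rc_21_1 lc_e_rc_39_2 lc_e_rc_35_2 lc_e_rc_4_1 lc_e_rc_13_1 lc_e_Cert_tree lc_e_rc_39_2 lc_e_rc_34_0 lc_e_rc_36_2 lc_e_rc_35_2 lc_e_rc_4_1 lc_e_rc_21_1 lc_e_rc_39_2 lc_e_rc_4_1 lc_e_rc_4_1 lc_e_Cert_tree lc_e_rc_4_1 lc_e_rc_28_3 lc_e_rc_39_2 lc_e_rc_37_2 lc_e_rc_28_3 lc_e_rc_36_0 lc_e_rc_21_1 lc_e_rc_35_2 lc_e_rc_4_1 lc_e_rc_28_3 lc_e_rc_4_1 lc_e_rc_4_3 lc_e_rc_34_0) (@D3.rec (fun _ => (Cert rels S Gen.e)) lc_e_rc_39_2 lc_e_rc_4_1 lc_e_rc_21_1 lc_e_rc_4_1 lc_e_rc_4_1 lc_e_rc_13_1 lc_e_rc_21_1 lc_e_rc_35_0 lc_e_Cert_tree lc_e_rc_36_2 lc_e_rc_4_3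 lc_e_rc_21_3 lc_e_Cert_tree lc_e_rc_34_0 lc_e_rc_39_2 lc_e_rc_35_2 lc_e_rc_39_2 lc_e_rc_35_2 lc_e_rc_35_2 lc_e_Cert_tree lc_e_rc_36_2 lc_e_Cert_tree lc_e_rc_34_0 lc_e_rc_39_2 lc_e_rc_28_3 lc_e_rc_28_3 lc_e_Cert_tree lc_e_rc_34_0 lc_e_rc_39_2 lc_e_rc_36_2 lc_e_rc_39_2 lc_e_rc_35_2 lc_e_Cert_tree lc_e_rc_34_0 lc_e_rc_39_2 lc_e_rc_21_1 lc_e_rc_39_2 lc_e_rc_35_2 lc_e_rc_37_2 lc_e_rc_36_2 lc_e_rc_35_2 lc_e_rc_37_2 lc_e_rc_36_2 lc_e_rc_38_2 lc_e_rc_39_2 lc_e_rc_39_2 lc_e_rc_37_2 lc_e_rc_37_2 lc_e_rc_13_3 lc_e_rc_34_0 lc_e_rc_39_2) (@D3.rec (fun _ => (Cert rels S Gen.e)) lc_e_Cert_tree lc_e_rc_34_0 lc_e_rc_39_2 lc_e_rc_39_2 lc_e_rc_35_2 lc_e_rc_13_1 lc_e_rc_21_1 lc_e_rc_35_2 lc_e_rc_4_1 lc_e_rc_13_1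 lc_e_rc_21_1 lc_e_rc_4_1 lc_e_rc_13_1 lc_e_Cert_tree lc_e_rc_36_4 lc_e_Cert_tree lc_e_rc_34_0 lc_e_rc_39_2 lc_e_rc_39_2 lc_e_rc_37_0 lc_e_Cert_tree lc_e_rc_34_0 lc_e_rc_39_2 lc_e_rc_37_0 lc_e_rc_39_2 lc_e_rc_35_2 lc_e_rc_35_2 lc_e_rc_4_1 lc_e_rc_13_1 lc_e_rc_21_1 lc_e_rc_4_1 lc_e_rc_13_1 lc_e_Cert_tree lc_e_rc_4_1 lc_e_Cert_tree lc_e_rc_34_0 lc_e_rc_37_2 lc_e_rc_4_1 lc_e_Cert_tree lc_e_rc_4_1 lc_e_rc_38_2 lc_e_rc_39_2 lc_e_rc_35_0 lc_e_rc_4_3 lc_e_rc_35_2 lc_e_rc_4_1 lc_e_rc_35_2 lc_e_rc_37_2 lc_e_rc_36_4 lc_e_Cert_tree lc_e_rc_39_2) (@D3.rec (fun _ => (Cert rels S Gen.e)) lc_e_Cert_tree lc_e_rc_39_2 lc_e_rc_34_0 lc_e_rc_39_2 lc_e_rc_39_2 lc_e_rc_35_2 lc_e_rc_35_2 lc_e_Cert_tree lc_e_rc_36_2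 lc_e_Cert_tree lc_e_rc_34_0 lc_e_rc_39_2 lc_e_Cert_tree lc_e_rc_34_0 lc_e_rc_39_2 lc_e_Cert_tree lc_e_rc_34_0 lc_e_rc_39_2 lc_e_rc_36_2 lc_e_rc_39_2 lc_e_rc_35_2 lc_e_rc_34_0 lc_e_rc_39_2 lc_e_rc_39_2 lc_e_rc_35_2 lc_e_rc_35_2 lc_e_rc_36_2 lc_e_rc_39_2 lc_e_rc_36_2 lc_e_rc_38_2 lc_e_rc_37_2 lc_e_Cert_tree lc_e_rc_34_0 lc_e_rc_39_2 lc_e_Cert_tree lc_e_rc_34_0 lc_e_rc_39_2 lc_e_rc_39_2 lc_e_rc_13_1 lc_e_rc_21_1 lc_e_rc_4_1 lc_e_rc_13_1 lc_e_rc_4_1 lc_e_rc_39_2 lc_e_rc_13_1 lc_e_rc_39_2 lc_e_rc_39_2 lc_e_rc_38_2 lc_e_rc_56_25 lc_e_rc_34_0 lc_e_rc_39_2) (@D3.rec (fun _ => (Cert rels S Gen.e)) lc_e_rc_39_2 lc_e_rc_39_2 lc_e_rc_35_2 lc_e_rc_4_1 lc_e_rc_13_1 lc_e_rc_21_1 lc_e_rc_4_1 lc_e_rc_13_1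 lc_e_rc_37_2 lc_e_rc_4_1 lc_e_rc_13_3 lc_e_rc_34_0 lc_e_rc_38_0 lc_e_rc_21_1 lc_e_rc_39_2 lc_e_rc_37_2 lc_e_rc_35_2 lc_e_rc_37_2 lc_e_rc_35_2 lc_e_Cert_tree lc_e_rc_39_2 lc_e_rc_35_2 lc_e_rc_4_1 lc_e_rc_35_0 lc_e_rc_55_58 lc_e_rc_4_1 lc_e_Cert_tree lc_e_rc_4_1 lc_e_Cert_tree lc_e_rc_34_0 lc_e_rc_39_2 lc_e_rc_38_2 lc_e_rc_28_3 lc_e_rc_37_2 lc_e_rc_35_0 lc_e_rc_4_3 lc_e_rc_28_3 lc_e_rc_35_0 lc_e_rc_4_3 lc_e_rc_37_2 lc_e_rc_4_1 lc_e_Cert_tree lc_e_rc_34_0 lc_e_rc_39_2 lc_e_Cert_tree lc_e_rc_34_0 lc_e_rc_39_2 lc_e_rc_39_2 lc_e_rc_13_1 lc_e_rc_21_1 lc_e_rc_4_1) (@D3.rec (fun _ => (Cert rels S Gen.e)) lc_e_rc_13_1 lc_e_rc_4_1 lc_e_rc_37_2 lc_e_rc_38_2 lc_e_Cert_tree lc_e_rc_39_2 lc_e_rc_4_1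 lc_e_Cert_tree lc_e_rc_39_2 lc_e_Cert_tree lc_e_rc_34_0 lc_e_rc_39_2 lc_e_Cert_tree lc_e_rc_34_0 lc_e_rc_39_2 lc_e_Cert_tree lc_e_rc_34_0 lc_e_rc_39_2 lc_e_rc_36_2 lc_e_rc_39_2 lc_e_rc_35_2 lc_e_rc_35_2 lc_e_rc_34_0 lc_e_rc_39_2 lc_e_rc_35_2 lc_e_rc_39_2 lc_e_rc_35_2 lc_e_rc_35_2 lc_e_rc_36_2 lc_e_rc_35_2 lc_e_Cert_tree lc_e_rc_37_2 lc_e_Cert_tree lc_e_rc_34_0 lc_e_rc_39_2 lc_e_Cert_tree lc_e_rc_34_0 lc_e_rc_39_2 lc_e_rc_36_2 lc_e_rc_39_2 lc_e_rc_35_2 lc_e_Cert_tree lc_e_rc_34_0 lc_e_rc_39_2 lc_e_rc_36_2 lc_e_rc_39_2 lc_e_rc_35_2 lc_e_Cert_tree lc_e_rc_34_0 lc_e_rc_39_2 lc_e_rc_21_1) (@D3.rec (fun _ => (Cert rels S Gen.e)) lc_e_rc_39_2 lc_e_rc_35_2 lc_e_rc_37_2 lc_e_rc_39_2 lc_e_rc_35_2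 lc_e_rc_34_0 lc_e_rc_39_2 lc_e_rc_13_1 lc_e_rc_39_2 lc_e_rc_35_2 lc_e_rc_21_1 lc_e_rc_21_1 lc_e_rc_35_2 lc_e_Cert_tree lc_e_rc_38_2 lc_e_rc_37_2 lc_e_rc_35_2 lc_e_rc_37_2 lc_e_rc_36_2 lc_e_rc_38_2 lc_e_rc_37_2 lc_e_rc_39_2 lc_e_rc_35_2 lc_e_rc_35_2 lc_e_rc_38_2 lc_e_rc_34_0 lc_e_rc_39_2 lc_e_rc_39_2 lc_e_rc_21_3 lc_e_rc_4_3 lc_e_rc_34_0 lc_e_rc_39_2 lc_e_rc_28_3 lc_e_rc_39_2 lc_e_rc_39_2 lc_e_rc_35_2 lc_e_rc_4_1 lc_e_rc_35_2 lc_e_rc_39_2 lc_e_rc_4_1 lc_e_rc_39_2 lc_e_Cert_tree lc_e_rc_4_1 lc_e_rc_4_1 lc_e_rc_34_0 lc_e_rc_21_3 lc_e_rc_35_2 lc_e_rc_21_3 lc_e_rc_28_1 lc_e_rc_37_2 lc_e_rc_38_2) (@D3.rec (fun _ => (Cert rels S Gen.e)) lc_e_rc_28_3 lc_e_rc_39_2 lc_e_rc_37_2 lc_e_rc_39_2 lc_e_rc_39_0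 lc_e_rc_34_0 lc_e_rc_35_0 lc_e_rc_34_0 lc_e_rc_4_1 lc_e_rc_37_0 lc_e_rc_4_1 lc_e_rc_13_1 lc_e_rc_4_1 lc_e_rc_36_2 lc_e_rc_28_3 lc_e_rc_39_2 lc_e_rc_39_2 lc_e_rc_28_3 lc_e_rc_38_2 lc_e_rc_34_0 lc_e_rc_39_0 lc_e_rc_34_0 lc_e_rc_28_3 lc_e_rc_39_2 lc_e_Cert_tree lc_e_rc_39_2 lc_e_Cert_tree lc_e_rc_34_0 lc_e_rc_39_2 lc_e_rc_35_2 lc_e_rc_4_1 lc_e_Cert_tree lc_e_rc_34_0 lc_e_rc_39_2 lc_e_Cert_tree lc_e_rc_34_0 lc_e_rc_39_2 lc_e_rc_39_2 lc_e_rc_13_1 lc_e_rc_39_2 lc_e_rc_4_1 lc_e_rc_13_1 lc_e_rc_4_1 lc_e_rc_13_1 lc_e_rc_39_2 lc_e_rc_34_0 lc_e_rc_28_3 lc_e_rc_34_0 lc_e_rc_28_3 lc_e_rc_4_1 lc_e_rc_35_2) (@D3.rec (fun _ => (Cert rels S Gen.e)) lc_e_Cert_tree lc_e_Cert_tree lc_e_rc_38_0 lc_e_rc_4_1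 lc_e_rc_34_0 lc_e_rc_4_1 lc_e_rc_21_1 lc_e_rc_34_0 lc_e_rc_39_2 lc_e_rc_21_1 lc_e_rc_39_2 lc_e_rc_36_2 lc_e_rc_35_2 lc_e_rc_38_2 lc_e_rc_39_2 lc_e_rc_35_2 lc_e_rc_21_3 lc_e_rc_13_1 lc_e_rc_21_1 lc_e_rc_4_1 lc_e_rc_13_1 lc_e_Cert_tree lc_e_rc_36_4 lc_e_rc_39_2 lc_e_rc_36_2 lc_e_rc_39_2 lc_e_rc_39_2 lc_e_rc_35_2 lc_e_rc_35_2 lc_e_rc_13_1 lc_e_rc_13_3 lc_e_rc_4_1 lc_e_rc_13_1 lc_e_Cert_tree lc_e_rc_4_1 lc_e_Cert_tree lc_e_rc_34_0 lc_e_rc_21_1 lc_e_rc_39_2 lc_e_rc_35_2 lc_e_rc_4_1 lc_e_rc_21_1 lc_e_rc_4_1 lc_e_rc_13_1 lc_e_Cert_tree lc_e_rc_34_0 lc_e_rc_4_3 lc_e_rc_28_3 lc_e_rc_35_2 lc_e_rc_39_2 lc_e_rc_35_2) (@D3.rec (fun _ => (Cert rels S Gen.e)) lc_e_rc_34_0 lc_e_rc_39_2 lc_e_rc_4_1 lc_e_rc_39_2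 lc_e_rc_28_3 lc_e_rc_28_3 lc_e_rc_35_2 lc_e_rc_34_0 lc_e_rc_39_2 lc_e_rc_13_1 lc_e_rc_39_2 lc_e_rc_35_2 lc_e_rc_21_1 lc_e_rc_21_1 lc_e_rc_35_2 lc_e_Cert_tree lc_e_rc_38_2 lc_e_rc_37_2 lc_e_rc_35_2 lc_e_rc_36_2 lc_e_rc_38_2 lc_e_rc_37_2 lc_e_rc_35_2 lc_e_rc_34_0 lc_e_rc_39_2 lc_e_rc_35_0 lc_e_rc_39_2 lc_e_rc_35_2 lc_e_rc_35_2 lc_e_rc_13_1 lc_e_rc_21_1 lc_e_rc_4_1 lc_e_rc_13_1 lc_e_Cert_tree lc_e_rc_4_1 lc_e_Cert_tree lc_e_rc_34_0 lc_e_rc_36_4 lc_e_rc_13_3 lc_e_rc_34_0 lc_e_rc_39_2 lc_e_rc_39_2 lc_e_rc_35_2 lc_e_rc_35_2 lc_e_Cert_tree lc_e_rc_4_1 lc_e_rc_13_1 lc_e_Cert_tree lc_e_rc_4_1 lc_e_Cert_tree lc_e_rc_34_0) (@D3.rec (fun _ => (Cert rels S Gen.e)) lc_e_Cert_tree lc_e_Cert_tree lc_e_rc_34_0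 lc_e_rc_36_2 lc_e_rc_13_1 lc_e_rc_4_3 lc_e_rc_35_2 lc_e_rc_38_2 lc_e_rc_35_0 lc_e_rc_21_3 lc_e_rc_37_2 lc_e_rc_35_0 lc_e_rc_4_3 lc_e_rc_39_2 lc_e_rc_13_1 lc_e_Cert_tree lc_e_rc_38_2 lc_e_rc_39_2 lc_e_rc_4_3 lc_e_rc_34_0 lc_e_rc_39_2 lc_e_rc_35_0 lc_e_rc_39_2 lc_e_rc_35_2 lc_e_rc_4_1 lc_e_rc_13_1 lc_e_rc_38_2 lc_e_rc_4_1 lc_e_rc_35_2 lc_e_Cert_tree lc_e_rc_13_1 lc_e_rc_4_1 lc_e_rc_34_0 lc_e_rc_39_2 lc_e_rc_35_2 lc_e_Cert_tree lc_e_rc_34_0 lc_e_rc_39_2 lc_e_rc_28_3 lc_e_rc_21_1 lc_e_rc_39_2 lc_e_rc_35_2 lc_e_rc_37_2 lc_e_rc_39_2 lc_e_rc_35_2 lc_e_Cert_tree lc_e_rc_34_0 lc_e_rc_39_2 lc_e_rc_38_2 lc_e_rc_39_2 lc_e_rc_35_2) (@D3.rec (fun _ => (Cert rels S Gen.e)) lc_e_rc_21_3 lc_e_rc_35_2 lc_e_rc_34_0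 lc_e_rc_39_2 lc_e_rc_13_1 lc_e_rc_39_2 lc_e_rc_35_2 lc_e_rc_21_1 lc_e_rc_21_1 lc_e_rc_35_2 lc_e_Cert_tree lc_e_rc_21_3 lc_e_rc_39_2 lc_e_rc_35_2 lc_e_rc_4_1 lc_e_rc_39_2 lc_e_rc_35_2 lc_e_rc_13_1 lc_e_rc_13_1 lc_e_rc_35_2 lc_e_rc_35_2 lc_e_rc_21_1 lc_e_rc_21_1 lc_e_rc_35_2 lc_e_Cert_tree lc_e_rc_34_0 lc_e_rc_38_2 lc_e_rc_35_2 lc_e_rc_35_2 lc_e_rc_35_0 lc_e_rc_35_2 lc_e_rc_35_2 lc_e_rc_28_3 lc_e_rc_34_0 lc_e_rc_4_1 lc_e_rc_13_3 lc_e_rc_34_0 lc_e_rc_39_2 lc_e_rc_13_1 lc_e_rc_38_2 lc_e_rc_28_5 lc_e_rc_39_2 lc_e_rc_13_1 lc_e_rc_39_2 lc_e_rc_39_2 lc_e_rc_39_2 lc_e_rc_36_2 lc_e_rc_35_2 lc_e_rc_38_2 lc_e_rc_38_2 lc_e_rc_39_2)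
def ce_e_10 : D2 → D3 → (Cert rels S Gen.e) := @D2.rec (fun _ => D3 → (Cert rels S Gen.e)) (@D3.rec (fun _ => (Cert rels S Gen.e)) lc_e_rc_4_1 lc_e_rc_4_1 lc_e_rc_39_2 lc_e_rc_39_2 lc_e_rc_37_2 lc_e_rc_39_2 lc_e_rc_13_3 lc_e_rc_39_2 lc_e_rc_4_3 lc_e_rc_21_3 lc_e_rc_35_2 lc_e_rc_37_2 lc_e_rc_38_2 lc_e_rc_37_2 lc_e_rc_36_2 lc_e_rc_39_2 lc_e_rc_39_2 lc_e_rc_36_2 lc_e_rc_21_1 lc_e_rc_28_3 lc_e_rc_21_1 lc_e_rc_28_3 lc_e_rc_13_1 lc_e_rc_21_1 lc_e_rc_35_2 lc_e_rc_35_2 lc_e_rc_36_2 lc_e_rc_38_2 lc_e_rc_36_2 lc_e_rc_39_2 lc_e_rc_35_2 lc_e_rc_36_2 lc_e_rc_39_2 lc_e_rc_35_2 lc_e_rc_36_2 lc_e_rc_39_2 lc_e_rc_35_2 lc_e_rc_37_2 lc_e_rc_39_2 lc_e_rc_35_2 lc_e_rc_13_1 lc_e_rc_39_2 lc_e_rc_35_2 lc_e_rc_4_3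 lc_e_rc_4_3 lc_e_rc_4_3 lc_e_rc_35_2 lc_e_rc_4_1 lc_e_rc_28_1 lc_e_rc_39_2 lc_e_rc_35_2) (@D3.rec (fun _ => (Cert rels S Gen.e)) lc_e_rc_37_2 lc_e_rc_39_2 lc_e_rc_35_2 lc_e_rc_38_2 lc_e_rc_39_2 lc_e_rc_35_2 lc_e_rc_28_3 lc_e_rc_13_1 lc_e_rc_21_1 lc_e_rc_35_2 lc_e_rc_13_1 lc_e_rc_21_1 lc_e_rc_36_4 lc_e_rc_39_2 lc_e_rc_36_4 lc_e_rc_13_1 lc_e_rc_21_1 lc_e_rc_35_2 lc_e_rc_4_1 lc_e_rc_13_1 lc_e_rc_21_1 lc_e_rc_4_1 lc_e_rc_13_1 lc_e_Cert_tree lc_e_rc_28_3 lc_e_rc_35_2 lc_e_rc_21_1 lc_e_rc_13_1 lc_e_rc_35_2 lc_e_rc_35_2 lc_e_rc_21_1 lc_e_rc_28_3 lc_e_rc_21_1 lc_e_rc_28_3 lc_e_rc_35_2 lc_e_rc_21_1 lc_e_rc_38_2 lc_e_rc_37_2 lc_e_Cert_tree lc_e_rc_39_2 lc_e_rc_38_2 lc_e_Cert_tree lc_e_rc_39_2 lc_e_rc_34_0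 lc_e_rc_39_2 lc_e_rc_35_2 lc_e_rc_38_2 lc_e_rc_39_2 lc_e_rc_21_1 lc_e_rc_28_3 lc_e_rc_37_2) (@D3.rec (fun _ => (Cert rels S Gen.e)) lc_e_rc_35_2 lc_e_rc_39_2 lc_e_rc_38_2 lc_e_rc_28_3 lc_e_rc_39_2 lc_e_rc_36_2 lc_e_rc_39_2 lc_e_rc_35_2 lc_e_rc_28_3 lc_e_rc_35_2 lc_e_Cert_tree lc_e_rc_39_2 lc_e_rc_37_2 lc_e_rc_39_2 lc_e_rc_13_3 lc_e_rc_34_0 lc_e_rc_39_2 lc_e_rc_36_2 lc_e_rc_39_2 lc_e_rc_35_2 lc_e_rc_37_2 lc_e_rc_39_2 lc_e_rc_35_2 lc_e_rc_39_2 lc_e_rc_37_2 lc_e_rc_28_3 lc_e_rc_35_2 lc_e_Cert_tree lc_e_rc_39_2 lc_e_rc_21_1 lc_e_rc_35_2 lc_e_rc_38_2 lc_e_Cert_tree lc_e_rc_39_2 lc_e_Cert_tree lc_e_rc_34_0 lc_e_rc_39_2 lc_e_Cert_tree lc_e_rc_39_2 lc_e_rc_34_0 lc_e_rc_39_2 lc_e_rc_39_2 lc_e_rc_35_2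 lc_e_rc_13_1 lc_e_rc_35_2 lc_e_rc_28_3 lc_e_rc_36_2 lc_e_rc_28_3 lc_e_rc_39_2 lc_e_rc_21_1 lc_e_rc_28_3) (@D3.rec (fun _ => (Cert rels S Gen.e)) lc_e_rc_13_1 lc_e_rc_21_1 lc_e_rc_35_2 lc_e_rc_36_2 lc_e_rc_37_2 lc_e_rc_13_1 lc_e_rc_21_1 lc_e_rc_4_1 lc_e_rc_13_1 lc_e_rc_21_1 lc_e_rc_13_1 lc_e_rc_13_1 lc_e_rc_38_2 lc_e_rc_37_2 lc_e_Cert_tree lc_e_rc_39_2 lc_e_rc_39_2 lc_e_rc_34_0 lc_e_rc_39_2 lc_e_rc_39_2 lc_e_rc_37_2 lc_e_rc_21_1 lc_e_rc_4_1 lc_e_rc_4_1 lc_e_rc_4_1 lc_e_rc_21_1 lc_e_rc_39_2 lc_e_rc_34_0 lc_e_rc_39_2 lc_e_rc_36_2 lc_e_rc_39_2 lc_e_rc_35_2 lc_e_rc_37_2 lc_e_rc_39_2 lc_e_rc_35_2 lc_e_rc_4_1 lc_e_rc_4_1 lc_e_rc_21_1 lc_e_rc_37_2 lc_e_rc_37_2 lc_e_rc_35_2 lc_e_Cert_tree lc_e_rc_39_2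 lc_e_rc_34_0 lc_e_rc_39_2 lc_e_rc_21_1 lc_e_rc_35_2 lc_e_Cert_tree lc_e_rc_36_2 lc_e_rc_37_2 lc_e_rc_39_2) (@D3.rec (fun _ => (Cert rels S Gen.e)) lc_e_rc_28_3 lc_e_rc_34_0 lc_e_rc_39_2 lc_e_rc_34_0 lc_e_rc_34_0 lc_e_rc_39_2 lc_e_rc_36_2 lc_e_rc_39_2 lc_e_rc_35_2 lc_e_rc_36_2 lc_e_rc_39_2 lc_e_rc_35_2 lc_e_rc_37_2 lc_e_rc_39_2 lc_e_rc_35_2 lc_e_rc_38_2 lc_e_rc_39_2 lc_e_rc_35_2 lc_e_rc_36_2 lc_e_rc_21_1 lc_e_rc_39_2 lc_e_rc_39_2 lc_e_rc_39_2 lc_e_rc_39_2 lc_e_rc_34_0 lc_e_rc_38_2 lc_e_rc_35_2 lc_e_rc_35_2 lc_e_Cert_tree lc_e_rc_39_2 lc_e_rc_36_2 lc_e_rc_34_0 lc_e_rc_39_2 lc_e_rc_21_1 lc_e_rc_35_2 lc_e_Cert_tree lc_e_rc_36_2 lc_e_Cert_tree lc_e_rc_39_2 lc_e_Cert_tree lc_e_rc_34_0 lc_e_rc_39_2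 lc_e_rc_28_3 lc_e_rc_34_0 lc_e_rc_39_2 lc_e_rc_39_2 lc_e_rc_35_2 lc_e_rc_34_0 lc_e_rc_39_2 lc_e_rc_36_2 lc_e_rc_39_2) (@D3.rec (fun _ => (Cert rels S Gen.e)) lc_e_rc_35_2 lc_e_rc_35_2 lc_e_rc_35_2 lc_e_rc_21_3 lc_e_rc_36_2 lc_e_Cert_tree lc_e_rc_34_0 lc_e_rc_39_2 lc_e_rc_21_1 lc_e_rc_28_3 lc_e_rc_13_1 lc_e_rc_21_1 lc_e_rc_35_2 lc_e_rc_4_1 lc_e_rc_13_1 lc_e_rc_21_1 lc_e_rc_37_2 lc_e_rc_13_3 lc_e_rc_13_3 lc_e_Cert_tree lc_e_rc_34_0 lc_e_rc_39_2 lc_e_rc_39_2 lc_e_rc_35_2 lc_e_rc_21_1 lc_e_rc_35_2 lc_e_rc_13_1 lc_e_rc_21_1 lc_e_rc_4_1 lc_e_rc_13_1 lc_e_Cert_tree lc_e_rc_37_2 lc_e_rc_13_1 lc_e_rc_13_1 lc_e_rc_13_3 lc_e_rc_13_1 lc_e_rc_13_1 lc_e_rc_13_1 lc_e_rc_38_2 lc_e_Cert_tree lc_e_rc_39_2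 lc_e_rc_37_0 lc_e_rc_34_0 lc_e_rc_39_2 lc_e_rc_39_2 lc_e_rc_34_0 lc_e_rc_39_2 lc_e_rc_13_1 lc_e_rc_39_2 lc_e_rc_35_2 lc_e_rc_4_1) (@D3.rec (fun _ => (Cert rels S Gen.e)) lc_e_rc_34_0 lc_e_rc_38_2 lc_e_rc_35_2 lc_e_rc_4_1 lc_e_Cert_tree lc_e_rc_4_1 lc_e_rc_56_32 lc_e_rc_34_0 lc_e_rc_39_2 lc_e_rc_37_2 lc_e_rc_4_1 lc_e_Cert_tree lc_e_rc_4_1 lc_e_rc_35_0 lc_e_rc_39_2 lc_e_rc_4_3 lc_e_rc_34_0 lc_e_rc_39_2 lc_e_rc_4_3 lc_e_rc_36_2 lc_e_rc_39_2 lc_e_rc_35_2 lc_e_rc_13_3 lc_e_rc_39_2 lc_e_rc_35_2 lc_e_rc_37_2 lc_e_rc_39_2 lc_e_rc_35_2 lc_e_rc_38_2 lc_e_rc_39_2 lc_e_rc_35_2 lc_e_rc_28_1 lc_e_rc_28_1 lc_e_rc_38_2 lc_e_rc_21_3 lc_e_rc_39_2 lc_e_rc_35_2 lc_e_rc_35_2 lc_e_rc_38_2 lc_e_rc_35_2 lc_e_rc_38_2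 lc_e_rc_38_2 lc_e_Cert_tree lc_e_rc_39_2 lc_e_Cert_tree lc_e_rc_39_2 lc_e_Cert_tree lc_e_rc_34_0 lc_e_rc_39_2 lc_e_rc_36_0 lc_e_rc_34_0) (@D3.rec (fun _ => (Cert rels S Gen.e)) lc_e_rc_39_2 lc_e_rc_35_2 lc_e_rc_39_2 lc_e_rc_35_2 lc_e_rc_35_2 lc_e_Cert_tree lc_e_rc_36_2 lc_e_Cert_tree lc_e_rc_34_0 lc_e_rc_39_2 lc_e_rc_35_0 lc_e_rc_34_0 lc_e_rc_39_2 lc_e_Cert_tree lc_e_rc_34_0 lc_e_rc_39_2 lc_e_rc_36_2 lc_e_rc_39_2 lc_e_rc_35_2 lc_e_rc_36_0 lc_e_rc_34_0 lc_e_rc_39_2 lc_e_rc_21_1 lc_e_rc_39_2 lc_e_rc_35_2 lc_e_rc_37_2 lc_e_rc_36_2 lc_e_rc_35_2 lc_e_rc_4_1 lc_e_rc_39_2 lc_e_rc_35_2 lc_e_rc_37_2 lc_e_rc_36_2 lc_e_rc_35_2 lc_e_rc_38_2 lc_e_rc_39_2 lc_e_rc_35_2 lc_e_rc_28_3 lc_e_rc_39_2 lc_e_rc_35_2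 lc_e_rc_28_1 lc_e_rc_4_1 lc_e_rc_21_3 lc_e_Cert_tree lc_e_rc_34_0 lc_e_rc_39_2 lc_e_rc_39_2 lc_e_rc_35_2 lc_e_rc_13_1 lc_e_rc_4_1 lc_e_rc_35_2) (@D3.rec (fun _ => (Cert rels S Gen.e)) lc_e_rc_13_1 lc_e_rc_13_1 lc_e_rc_21_1 lc_e_rc_4_1 lc_e_rc_13_1 lc_e_Cert_tree lc_e_rc_4_3 lc_e_rc_39_2 lc_e_rc_38_2 lc_e_Cert_tree lc_e_rc_34_0 lc_e_rc_39_2 lc_e_rc_39_2 lc_e_rc_35_2 lc_e_rc_35_2 lc_e_rc_4_1 lc_e_rc_13_1 lc_e_rc_21_1 lc_e_rc_4_1 lc_e_rc_13_1 lc_e_Cert_tree lc_e_rc_4_1 lc_e_rc_4_1 lc_e_rc_34_0 lc_e_rc_13_1 lc_e_rc_38_0 lc_e_rc_39_2 lc_e_rc_39_2 lc_e_rc_4_1 lc_e_rc_39_2 lc_e_rc_39_2 lc_e_rc_34_0 lc_e_rc_39_2 lc_e_rc_39_2 lc_e_rc_35_2 lc_e_rc_21_1 lc_e_rc_28_3 lc_e_rc_39_2 lc_e_rc_28_3 lc_e_rc_39_2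 lc_e_rc_28_3 lc_e_rc_13_1 lc_e_rc_21_1 lc_e_rc_35_2 lc_e_rc_37_2 lc_e_rc_35_2 lc_e_rc_38_2 lc_e_rc_37_2 lc_e_rc_39_2 lc_e_rc_28_3 lc_e_rc_35_2) (@D3.rec (fun _ => (Cert rels S Gen.e)) lc_e_rc_36_2 lc_e_rc_38_2 lc_e_rc_37_2 lc_e_Cert_tree lc_e_rc_39_2 lc_e_rc_38_2 lc_e_rc_39_2 lc_e_rc_34_0 lc_e_rc_39_2 lc_e_rc_38_2 lc_e_rc_36_2 lc_e_rc_4_1 lc_e_rc_38_2 lc_e_rc_39_2 lc_e_rc_38_0 lc_e_rc_4_1 lc_e_rc_39_2 lc_e_rc_28_3 lc_e_rc_35_2 lc_e_Cert_tree lc_e_rc_39_2 lc_e_rc_21_1 lc_e_rc_35_2 lc_e_rc_38_2 lc_e_rc_38_0 lc_e_rc_39_2 lc_e_rc_38_2 lc_e_rc_34_0 lc_e_rc_39_2 lc_e_rc_34_0 lc_e_rc_39_2 lc_e_rc_39_2 lc_e_rc_36_2 lc_e_rc_39_2 lc_e_rc_35_2 lc_e_rc_39_2 lc_e_rc_35_2 lc_e_rc_13_1 lc_e_rc_35_2 lc_e_rc_36_2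 lc_e_rc_4_1 lc_e_rc_39_2 lc_e_rc_39_2 lc_e_rc_38_2 lc_e_rc_21_1 lc_e_rc_35_2 lc_e_rc_28_3 lc_e_rc_35_2 lc_e_rc_38_2 lc_e_rc_13_1 lc_e_rc_21_1) (@D3.rec (fun _ => (Cert rels S Gen.e)) lc_e_rc_13_1 lc_e_rc_38_2 lc_e_rc_37_2 lc_e_rc_28_3 lc_e_rc_39_2 lc_e_rc_39_2 lc_e_rc_28_3 lc_e_rc_35_2 lc_e_Cert_tree lc_e_rc_39_2 lc_e_rc_36_2 lc_e_rc_36_2 lc_e_rc_38_2 lc_e_Cert_tree lc_e_rc_39_2 lc_e_Cert_tree lc_e_rc_34_0 lc_e_rc_39_2 lc_e_rc_39_2 lc_e_rc_34_0 lc_e_rc_39_2 lc_e_rc_39_2 lc_e_rc_35_2 lc_e_rc_36_2 lc_e_rc_36_2 lc_e_rc_39_2 lc_e_rc_21_1 lc_e_rc_4_1 lc_e_rc_13_1 lc_e_rc_21_1 lc_e_rc_35_2 lc_e_rc_39_2 lc_e_rc_35_2 lc_e_rc_35_2 lc_e_Cert_tree lc_e_rc_39_2 lc_e_Cert_tree lc_e_rc_34_0 lc_e_rc_39_2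 lc_e_rc_21_1 lc_e_Cert_tree lc_e_rc_36_2 lc_e_rc_36_0 lc_e_rc_39_2 lc_e_Cert_tree lc_e_rc_34_0 lc_e_rc_39_2 lc_e_Cert_tree lc_e_rc_34_0 lc_e_rc_39_2 lc_e_rc_36_2) (@D3.rec (fun _ => (Cert rels S Gen.e)) lc_e_rc_39_2 lc_e_rc_35_2 lc_e_rc_39_2 lc_e_rc_35_2 lc_e_rc_37_2 lc_e_rc_39_2 lc_e_rc_35_2 lc_e_rc_38_2 lc_e_rc_39_2 lc_e_rc_35_2 lc_e_rc_21_1 lc_e_rc_35_2 lc_e_rc_4_1 lc_e_rc_13_1 lc_e_rc_35_2 lc_e_rc_4_1 lc_e_rc_13_1 lc_e_rc_36_2 lc_e_rc_37_2 lc_e_rc_39_2 lc_e_rc_39_2 lc_e_rc_21_1 lc_e_rc_4_1 lc_e_rc_39_2 lc_e_rc_4_1 lc_e_rc_39_2 lc_e_rc_34_0 lc_e_rc_39_2 lc_e_rc_36_2 lc_e_rc_39_2 lc_e_rc_35_2 lc_e_rc_39_2 lc_e_rc_35_2 lc_e_rc_36_4 lc_e_rc_36_2 lc_e_rc_21_1 lc_e_rc_28_3 lc_e_rc_13_1 lc_e_rc_21_1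 lc_e_rc_35_2 lc_e_rc_36_4 lc_e_rc_36_2 lc_e_rc_21_3 lc_e_rc_34_0 lc_e_rc_39_2 lc_e_rc_21_1 lc_e_rc_28_3 lc_e_rc_13_1 lc_e_rc_21_1 lc_e_rc_35_2 lc_e_rc_4_1) (@D3.rec (fun _ => (Cert rels S Gen.e)) lc_e_rc_13_1 lc_e_rc_21_1 lc_e_rc_13_1 lc_e_rc_13_1 lc_e_rc_13_1 lc_e_rc_38_2 lc_e_rc_37_2 lc_e_rc_28_3 lc_e_rc_39_2 lc_e_rc_38_2 lc_e_rc_39_2 lc_e_rc_37_2 lc_e_rc_28_3 lc_e_rc_35_2 lc_e_Cert_tree lc_e_rc_39_2 lc_e_rc_4_1 lc_e_rc_4_1 lc_e_rc_38_2 lc_e_Cert_tree lc_e_rc_39_2 lc_e_rc_34_1 lc_e_rc_34_0 lc_e_rc_39_2 lc_e_rc_39_2 lc_e_rc_34_0 lc_e_rc_39_2 lc_e_rc_39_2 lc_e_rc_35_2 lc_e_rc_4_1 lc_e_rc_4_1 lc_e_rc_28_3 lc_e_rc_4_1 lc_e_rc_39_2 lc_e_rc_37_2 lc_e_rc_4_1 lc_e_rc_21_3 lc_e_rc_39_2 lc_e_rc_4_1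 lc_e_rc_34_0 lc_e_rc_37_2 lc_e_rc_35_2 lc_e_rc_35_2 lc_e_Cert_tree lc_e_rc_39_2 lc_e_Cert_tree lc_e_rc_34_0 lc_e_rc_39_2 lc_e_rc_21_1 lc_e_rc_35_2 lc_e_Cert_tree) (@D3.rec (fun _ => (Cert rels S Gen.e)) lc_e_rc_36_2 lc_e_rc_37_2 lc_e_rc_39_2 lc_e_rc_37_2 lc_e_rc_34_0 lc_e_rc_39_2 lc_e_Cert_tree lc_e_rc_34_0 lc_e_rc_39_2 lc_e_rc_28_3 lc_e_rc_39_2 lc_e_rc_35_2 lc_e_rc_39_2 lc_e_rc_36_2 lc_e_rc_39_2 lc_e_rc_35_2 lc_e_rc_37_2 lc_e_rc_39_2 lc_e_rc_35_2 lc_e_rc_39_2 lc_e_rc_35_2 lc_e_rc_35_2 lc_e_Cert_tree lc_e_rc_36_2 lc_e_Cert_tree lc_e_rc_34_0 lc_e_rc_39_2 lc_e_rc_39_2 lc_e_rc_37_2 lc_e_rc_21_1 lc_e_rc_35_2 lc_e_rc_4_1 lc_e_rc_13_1 lc_e_rc_21_1 lc_e_rc_37_2 lc_e_rc_34_0 lc_e_rc_39_2 lc_e_Cert_tree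 lc_e_rc_34_0 lc_e_rc_39_2 lc_e_rc_39_2 lc_e_rc_35_2 lc_e_rc_38_2 lc_e_rc_21_1 lc_e_rc_35_2 lc_e_rc_37_2 lc_e_rc_13_1 lc_e_rc_21_1 lc_e_rc_4_1 lc_e_rc_13_1 lc_e_rc_13_3) (@D3.rec (fun _ => (Cert rels S Gen.e)) lc_e_rc_21_1 lc_e_rc_37_2 lc_e_rc_13_1 lc_e_rc_13_1 lc_e_rc_35_2 lc_e_rc_13_1 lc_e_rc_13_1 lc_e_rc_13_1 lc_e_rc_38_2 lc_e_rc_28_3 lc_e_rc_39_2 lc_e_rc_21_1 lc_e_rc_28_3 lc_e_rc_39_2 lc_e_rc_34_0 lc_e_rc_38_2 lc_e_rc_35_2 lc_e_rc_35_2 lc_e_Cert_tree lc_e_rc_39_2 lc_e_Cert_tree lc_e_rc_34_0 lc_e_rc_39_2 lc_e_rc_4_1 lc_e_rc_4_1 lc_e_Cert_tree lc_e_rc_4_1 lc_e_Cert_tree lc_e_rc_39_2 lc_e_Cert_tree lc_e_rc_34_0 lc_e_rc_39_2 lc_e_Cert_tree lc_e_rc_34_0 lc_e_rc_39_2 lc_e_rc_39_2 lc_e_rc_35_2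 lc_e_rc_34_0 lc_e_rc_39_2 lc_e_rc_4_1 lc_e_rc_39_2 lc_e_rc_35_2 lc_e_rc_35_2 lc_e_rc_4_1 lc_e_Cert_tree lc_e_rc_4_1 lc_e_rc_4_3 lc_e_rc_34_0 lc_e_rc_39_2 lc_e_rc_21_1 lc_e_rc_4_1) (@D3.rec (fun _ => (Cert rels S Gen.e)) lc_e_rc_13_1 lc_e_rc_21_1 lc_e_rc_35_2 lc_e_rc_4_1 lc_e_rc_13_1 lc_e_rc_35_2 lc_e_rc_38_2 lc_e_rc_35_2 lc_e_rc_36_2 lc_e_rc_38_2 lc_e_Cert_tree lc_e_rc_39_2 lc_e_Cert_tree lc_e_rc_39_2 lc_e_Cert_tree lc_e_rc_34_0 lc_e_rc_39_2 lc_e_rc_21_1 lc_e_rc_34_0 lc_e_rc_39_2 lc_e_rc_35_2 lc_e_rc_39_2 lc_e_rc_35_2 lc_e_rc_35_2 lc_e_Cert_tree lc_e_rc_36_2 lc_e_Cert_tree lc_e_rc_34_0 lc_e_rc_39_2 lc_e_Cert_tree lc_e_rc_34_0 lc_e_rc_39_2 lc_e_Cert_tree lc_e_rc_34_0 lc_e_rc_39_2 lc_e_rc_36_2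 lc_e_rc_39_2 lc_e_rc_35_2 lc_e_rc_21_1 lc_e_rc_34_0 lc_e_rc_39_2 lc_e_rc_21_1 lc_e_rc_39_2 lc_e_rc_35_2 lc_e_rc_37_2 lc_e_rc_36_2 lc_e_rc_35_2 lc_e_rc_36_2 lc_e_rc_39_2 lc_e_rc_35_2 lc_e_rc_37_2) (@D3.rec (fun _ => (Cert rels S Gen.e)) lc_e_rc_36_2 lc_e_rc_35_2 lc_e_rc_38_2 lc_e_rc_39_2 lc_e_rc_35_2 lc_e_rc_28_3 lc_e_rc_39_2 lc_e_rc_35_2 lc_e_rc_37_2 lc_e_Cert_tree lc_e_rc_34_0 lc_e_rc_39_2 lc_e_Cert_tree lc_e_rc_34_0 lc_e_rc_39_2 lc_e_rc_39_2 lc_e_rc_35_2 lc_e_rc_21_1 lc_e_rc_35_2 lc_e_rc_4_1 lc_e_rc_13_1 lc_e_rc_35_2 lc_e_rc_4_1 lc_e_rc_13_1 lc_e_Cert_tree lc_e_rc_39_2 lc_e_rc_35_2 lc_e_Cert_tree lc_e_rc_34_0 lc_e_rc_39_2 lc_e_rc_39_2 lc_e_rc_35_2 lc_e_rc_35_2 lc_e_rc_4_1 lc_e_rc_13_1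 lc_e_rc_4_1 lc_e_rc_21_1 lc_e_rc_13_3 lc_e_rc_4_3 lc_e_rc_34_0 lc_e_rc_39_2 lc_e_rc_39_2 lc_e_rc_55_22 lc_e_rc_39_2 lc_e_rc_36_0 lc_e_rc_36_2 lc_e_rc_39_2 lc_e_rc_35_2 lc_e_rc_37_2 lc_e_rc_39_2 lc_e_rc_35_2) (@D3.rec (fun _ => (Cert rels S Gen.e)) lc_e_rc_39_2 lc_e_rc_35_2 lc_e_rc_28_3 lc_e_rc_39_2 lc_e_rc_13_1 lc_e_rc_13_1 lc_e_rc_38_2 lc_e_rc_37_2 lc_e_rc_39_2 lc_e_rc_35_0 lc_e_rc_35_0 lc_e_rc_39_2 lc_e_rc_4_1 lc_e_rc_4_1 lc_e_Cert_tree lc_e_rc_4_1 lc_e_Cert_tree lc_e_rc_39_2 lc_e_rc_34_0 lc_e_rc_39_2 lc_e_rc_39_2 lc_e_rc_35_2 lc_e_rc_34_0 lc_e_rc_39_2 lc_e_rc_4_1 lc_e_rc_39_2 lc_e_rc_35_2 lc_e_rc_35_2 lc_e_rc_4_1 lc_e_rc_4_1 lc_e_rc_38_2 lc_e_rc_35_2 lc_e_rc_38_2 lc_e_rc_38_2 lc_e_Cert_tree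 lc_e_rc_39_2 lc_e_Cert_tree lc_e_rc_39_2 lc_e_rc_34_0 lc_e_rc_39_2 lc_e_rc_39_2 lc_e_rc_35_2 lc_e_rc_35_2 lc_e_Cert_tree lc_e_rc_36_2 lc_e_Cert_tree lc_e_rc_34_0 lc_e_rc_39_2 lc_e_rc_4_3 lc_e_rc_34_0 lc_e_rc_39_2) (@D3.rec (fun _ => (Cert rels S Gen.e)) lc_e_rc_37_2 lc_e_rc_34_0 lc_e_rc_39_2 lc_e_rc_36_2 lc_e_rc_39_2 lc_e_rc_35_2 lc_e_rc_36_0 lc_e_rc_39_2 lc_e_rc_35_2 lc_e_rc_37_2 lc_e_rc_36_2 lc_e_rc_35_2 lc_e_rc_36_2 lc_e_rc_39_2 lc_e_rc_35_2 lc_e_rc_37_2 lc_e_rc_36_2 lc_e_rc_35_2 lc_e_rc_38_2 lc_e_rc_39_2 lc_e_rc_35_2 lc_e_rc_28_3 lc_e_rc_39_2 lc_e_rc_35_2 lc_e_rc_37_2 lc_e_rc_37_2 lc_e_rc_38_2 lc_e_rc_34_0 lc_e_rc_39_2 lc_e_rc_35_2 lc_e_rc_34_0 lc_e_rc_39_2 lc_e_rc_39_2 lc_e_rc_4_1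 lc_e_rc_39_2 lc_e_rc_39_2 lc_e_rc_39_2 lc_e_rc_39_2 lc_e_rc_39_2 lc_e_rc_39_2 lc_e_rc_39_2 lc_e_rc_37_2 lc_e_rc_34_0 lc_e_rc_39_0 lc_e_rc_4_3 lc_e_rc_13_1 lc_e_rc_36_0 lc_e_rc_13_1 lc_e_rc_39_2 lc_e_rc_37_2 lc_e_rc_13_1) (@D3.rec (fun _ => (Cert rels S Gen.e)) lc_e_Cert_tree lc_e_rc_13_1 lc_e_rc_38_2 lc_e_rc_39_2 lc_e_rc_13_1 lc_e_rc_37_2 lc_e_rc_13_1 lc_e_rc_36_2 lc_e_rc_38_2 lc_e_rc_35_2 lc_e_rc_35_0 lc_e_rc_38_2 lc_e_Cert_tree lc_e_rc_39_2 lc_e_Cert_tree lc_e_rc_39_2 lc_e_rc_34_0 lc_e_rc_39_2 lc_e_rc_39_2 lc_e_rc_35_2 lc_e_rc_4_1 lc_e_Cert_tree lc_e_rc_4_1 lc_e_Cert_tree lc_e_rc_34_0 lc_e_rc_39_2 lc_e_Cert_tree lc_e_rc_34_0 lc_e_rc_39_2 lc_e_rc_4_1 lc_e_rc_34_0 lc_e_rc_39_2 lc_e_rc_36_2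 lc_e_rc_39_2 lc_e_rc_35_2 lc_e_rc_4_1 lc_e_rc_39_2 lc_e_rc_35_2 lc_e_rc_35_2 lc_e_rc_4_1 lc_e_rc_39_2 lc_e_rc_35_2 lc_e_rc_4_1 lc_e_rc_35_2 lc_e_rc_28_3 lc_e_Cert_tree lc_e_rc_4_1 lc_e_Cert_tree lc_e_rc_34_0 lc_e_rc_39_2 lc_e_Cert_tree) (@D3.rec (fun _ => (Cert rels S Gen.e)) lc_e_rc_34_0 lc_e_rc_39_2 lc_e_rc_39_2 lc_e_rc_21_1 lc_e_rc_4_1 lc_e_rc_13_1 lc_e_rc_4_1 lc_e_rc_37_2 lc_e_rc_38_2 lc_e_Cert_tree lc_e_rc_39_2 lc_e_rc_37_2 lc_e_Cert_tree lc_e_rc_39_2 lc_e_Cert_tree lc_e_rc_34_0 lc_e_rc_39_2 lc_e_Cert_tree lc_e_rc_34_0 lc_e_rc_39_2 lc_e_rc_37_2 lc_e_rc_34_0 lc_e_rc_39_2 lc_e_rc_36_2 lc_e_rc_39_2 lc_e_rc_35_2 lc_e_rc_39_2 lc_e_rc_35_2 lc_e_rc_39_2 lc_e_rc_35_2 lc_e_rc_35_2 lc_e_rc_36_2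 lc_e_rc_35_2 lc_e_Cert_tree lc_e_rc_37_2 lc_e_Cert_tree lc_e_rc_34_0 lc_e_rc_39_2 lc_e_Cert_tree lc_e_rc_34_0 lc_e_rc_39_2 lc_e_rc_36_2 lc_e_rc_39_2 lc_e_rc_35_2 lc_e_Cert_tree lc_e_rc_34_0 lc_e_rc_39_2 lc_e_rc_36_2 lc_e_rc_39_2 lc_e_rc_35_2 lc_e_rc_37_2) (@D3.rec (fun _ => (Cert rels S Gen.e)) lc_e_rc_34_0 lc_e_rc_39_2 lc_e_rc_21_1 lc_e_rc_39_2 lc_e_rc_35_2 lc_e_rc_37_2 lc_e_rc_39_2 lc_e_rc_35_2 lc_e_rc_39_2 lc_e_rc_13_1 lc_e_rc_39_2 lc_e_rc_35_2 lc_e_rc_21_1 lc_e_rc_21_1 lc_e_rc_35_2 lc_e_Cert_tree lc_e_rc_38_2 lc_e_rc_37_2 lc_e_rc_35_2 lc_e_rc_28_3 lc_e_rc_13_1 lc_e_rc_36_2 lc_e_rc_35_2 lc_e_rc_38_2 lc_e_rc_37_2 lc_e_rc_35_2 lc_e_rc_28_3 lc_e_rc_39_2 lc_e_rc_35_2 lc_e_rc_35_0 lc_e_rc_21_1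 lc_e_rc_35_2 lc_e_Cert_tree lc_e_rc_34_0 lc_e_rc_39_2 lc_e_Cert_tree lc_e_rc_34_0 lc_e_rc_39_2 lc_e_rc_39_2 lc_e_rc_35_2 lc_e_Cert_tree lc_e_rc_34_0 lc_e_rc_39_2 lc_e_rc_28_3 lc_e_rc_39_2 lc_e_rc_35_2 lc_e_rc_35_2 lc_e_rc_4_1 lc_e_rc_13_1 lc_e_rc_35_2 lc_e_rc_4_1) (@D3.rec (fun _ => (Cert rels S Gen.e)) lc_e_rc_13_1 lc_e_Cert_tree lc_e_rc_4_1 lc_e_rc_35_0 lc_e_rc_34_0 lc_e_rc_37_2 lc_e_rc_39_2 lc_e_rc_39_2 lc_e_rc_13_3 lc_e_rc_35_2 lc_e_rc_34_0 lc_e_rc_35_2 lc_e_rc_34_0 lc_e_rc_39_2 lc_e_rc_13_1 lc_e_rc_39_2 lc_e_rc_35_2 lc_e_rc_39_2 lc_e_rc_36_4 lc_e_rc_21_1 lc_e_rc_4_1 lc_e_rc_13_1 lc_e_rc_38_2 lc_e_rc_4_1 lc_e_rc_4_1 lc_e_rc_34_0 lc_e_rc_37_2 lc_e_rc_38_2 lc_e_rc_28_3 lc_e_rc_39_2 lc_e_rc_37_2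 lc_e_rc_39_2 lc_e_rc_38_2 lc_e_rc_28_3 lc_e_rc_39_2 lc_e_rc_39_2 lc_e_Cert_tree lc_e_rc_34_0 lc_e_rc_34_0 lc_e_Cert_tree lc_e_rc_34_0 lc_e_rc_39_0 lc_e_rc_37_2 lc_e_rc_28_3 lc_e_rc_39_2 lc_e_Cert_tree lc_e_rc_34_0 lc_e_rc_39_2 lc_e_rc_37_2 lc_e_rc_4_1 lc_e_rc_21_3) (@D3.rec (fun _ => (Cert rels S Gen.e)) lc_e_Cert_tree lc_e_rc_34_0 lc_e_rc_39_2 lc_e_rc_39_2 lc_e_rc_4_1 lc_e_rc_38_2 lc_e_rc_38_0 lc_e_rc_35_2 lc_e_rc_13_1 lc_e_rc_35_0 lc_e_rc_39_2 lc_e_rc_38_0 lc_e_rc_34_0 lc_e_rc_28_3 lc_e_rc_37_2 lc_e_rc_34_0 lc_e_rc_13_1 lc_e_rc_13_3 lc_e_rc_28_3 lc_e_rc_37_0 lc_e_rc_28_3 lc_e_rc_35_2 lc_e_rc_35_2 lc_e_rc_28_3 lc_e_rc_35_2 lc_e_Cert_tree lc_e_rc_28_3 lc_e_rc_4_1 lc_e_rc_13_1 lc_e_Cert_tree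 lc_e_rc_4_1 lc_e_rc_37_2 lc_e_rc_34_0 lc_e_rc_37_0 lc_e_rc_37_0 lc_e_rc_4_1 lc_e_rc_4_1 lc_e_rc_35_2 lc_e_rc_35_2 lc_e_rc_39_2 lc_e_rc_28_3 lc_e_rc_28_3 lc_e_rc_39_2 lc_e_rc_34_0 lc_e_rc_39_2 lc_e_rc_39_2 lc_e_rc_4_1 lc_e_rc_4_1 lc_e_rc_21_3 lc_e_rc_4_3 lc_e_rc_36_2) (@D3.rec (fun _ => (Cert rels S Gen.e)) lc_e_rc_4_3 lc_e_rc_21_3 lc_e_Cert_tree lc_e_rc_34_0 lc_e_rc_39_2 lc_e_rc_36_2 lc_e_rc_39_2 lc_e_rc_35_2 lc_e_rc_39_2 lc_e_rc_35_2 lc_e_rc_35_2 lc_e_rc_21_1 lc_e_rc_21_1 lc_e_rc_13_1 lc_e_rc_4_1 lc_e_rc_36_2 lc_e_rc_35_2 lc_e_rc_13_1 lc_e_rc_21_1 lc_e_rc_39_2 lc_e_Cert_tree lc_e_rc_36_2 lc_e_rc_28_3 lc_e_rc_21_1 lc_e_rc_35_2 lc_e_rc_21_1 lc_e_rc_13_1 lc_e_rc_28_3 lc_e_rc_39_2 lc_e_rc_28_3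 lc_e_Cert_tree lc_e_rc_4_1 lc_e_rc_34_0 lc_e_rc_39_2 lc_e_rc_39_2 lc_e_rc_35_2 lc_e_rc_4_1 lc_e_rc_39_2 lc_e_rc_4_1 lc_e_rc_35_0 lc_e_rc_4_1 lc_e_rc_35_0 lc_e_rc_4_1 lc_e_rc_4_1 lc_e_Cert_tree lc_e_rc_36_2 lc_e_rc_28_1 lc_e_rc_35_2 lc_e_rc_39_2 lc_e_rc_35_2 lc_e_rc_35_2) (@D3.rec (fun _ => (Cert rels S Gen.e)) lc_e_Cert_tree lc_e_rc_36_2 lc_e_Cert_tree lc_e_rc_34_0 lc_e_rc_39_2 lc_e_rc_4_3 lc_e_rc_21_3 lc_e_Cert_tree lc_e_rc_34_0 lc_e_rc_39_2 lc_e_rc_36_2 lc_e_rc_39_2 lc_e_rc_35_2 lc_e_rc_34_0 lc_e_rc_39_2 lc_e_rc_21_1 lc_e_rc_39_2 lc_e_rc_35_2 lc_e_rc_37_2 lc_e_rc_36_2 lc_e_rc_35_2 lc_e_rc_37_2 lc_e_rc_36_2 lc_e_rc_38_2 lc_e_rc_39_2 lc_e_rc_39_2 lc_e_rc_37_2 lc_e_rc_35_2 lc_e_rc_35_2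 lc_e_rc_35_2 lc_e_rc_34_0 lc_e_rc_39_2 lc_e_rc_39_2 lc_e_rc_13_1 lc_e_rc_21_1 lc_e_rc_13_1 lc_e_rc_21_1 lc_e_rc_13_1 lc_e_rc_36_2 lc_e_rc_35_2 lc_e_rc_37_2 lc_e_rc_4_1 lc_e_rc_13_1 lc_e_rc_4_1 lc_e_rc_13_1 lc_e_rc_4_1 lc_e_rc_21_1 lc_e_rc_34_0 lc_e_rc_4_1 lc_e_rc_13_1 lc_e_rc_21_1) (@D3.rec (fun _ => (Cert rels S Gen.e)) lc_e_rc_4_1 lc_e_rc_13_1 lc_e_Cert_tree lc_e_rc_35_2 lc_e_rc_35_2 lc_e_Cert_tree lc_e_rc_39_2 lc_e_rc_35_2 lc_e_rc_39_2 lc_e_rc_35_0 lc_e_rc_4_1 lc_e_Cert_tree lc_e_rc_21_1 lc_e_Cert_tree lc_e_rc_34_0 lc_e_rc_39_2 lc_e_rc_38_2 lc_e_rc_28_3 lc_e_rc_37_2 lc_e_rc_35_0 lc_e_rc_4_1 lc_e_rc_28_1 lc_e_rc_35_0 lc_e_rc_4_1 lc_e_rc_13_1 lc_e_rc_4_3 lc_e_rc_35_2 lc_e_rc_38_2 lc_e_rc_35_0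 lc_e_rc_21_3 lc_e_rc_37_2 lc_e_rc_35_0 lc_e_rc_4_1 lc_e_rc_39_2 lc_e_rc_13_1 lc_e_Cert_tree lc_e_rc_56_25 lc_e_rc_21_3 lc_e_rc_55_76 lc_e_rc_4_1 lc_e_rc_36_2 lc_e_rc_13_3 lc_e_rc_4_1 lc_e_rc_13_1 lc_e_rc_13_3 lc_e_rc_4_1 lc_e_rc_13_3 lc_e_rc_34_0 lc_e_rc_36_2 lc_e_rc_13_1 lc_e_rc_36_2)
def ce_e_11 : D2 → D3 → (Cert rels S Gen.e) := @D2.rec (fun _ => D3 → (Cert rels S Gen.e)) (@D3.rec (fun _ => (Cert rels S Gen.e)) lc_e_Cert_tree lc_e_rc_13_1 lc_e_rc_38_2 lc_e_rc_39_2 lc_e_rc_35_0 lc_e_rc_4_1 lc_e_Cert_tree lc_e_rc_39_2 lc_e_rc_35_2 lc_e_rc_28_1 lc_e_rc_37_2 lc_e_rc_37_2 lc_e_rc_35_0 lc_e_rc_36_4 lc_e_rc_37_2 lc_e_Cert_tree lc_e_rc_36_2 lc_e_Cert_tree lc_e_rc_34_0 lc_e_rc_39_2 lc_e_Cert_tree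 lc_e_rc_34_0 lc_e_rc_39_2 lc_e_rc_37_2 lc_e_rc_34_0 lc_e_rc_39_2 lc_e_rc_36_2 lc_e_rc_39_2 lc_e_rc_35_2 lc_e_rc_35_0 lc_e_rc_39_2 lc_e_rc_35_2 lc_e_rc_35_2 lc_e_rc_36_2 lc_e_rc_39_2 lc_e_rc_4_1 lc_e_rc_21_3 lc_e_rc_4_1 lc_e_Cert_tree lc_e_rc_34_0 lc_e_rc_39_2 lc_e_Cert_tree lc_e_rc_34_0 lc_e_rc_39_2 lc_e_rc_39_2 lc_e_rc_35_2 lc_e_rc_13_1 lc_e_rc_21_1 lc_e_rc_4_1 lc_e_rc_37_2 lc_e_rc_13_1) (@D3.rec (fun _ => (Cert rels S Gen.e)) lc_e_rc_21_1 lc_e_rc_39_2 lc_e_rc_13_1 lc_e_Cert_tree lc_e_Cert_tree lc_e_rc_39_2 lc_e_rc_4_1 lc_e_Cert_tree lc_e_rc_13_3 lc_e_Cert_tree lc_e_rc_34_0 lc_e_rc_39_2 lc_e_rc_56_18 lc_e_rc_39_2 lc_e_Cert_tree lc_e_rc_34_0 lc_e_rc_39_2 lc_e_rc_36_2 lc_e_rc_39_2 lc_e_rc_35_2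 lc_e_rc_34_0 lc_e_rc_39_2 lc_e_rc_39_2 lc_e_rc_35_2 lc_e_rc_35_2 lc_e_rc_36_2 lc_e_rc_35_2 lc_e_Cert_tree lc_e_rc_37_2 lc_e_Cert_tree lc_e_rc_34_0 lc_e_rc_39_2 lc_e_Cert_tree lc_e_rc_34_0 lc_e_rc_39_2 lc_e_rc_36_2 lc_e_rc_39_2 lc_e_rc_35_2 lc_e_Cert_tree lc_e_rc_34_0 lc_e_rc_39_2 lc_e_rc_36_2 lc_e_rc_39_2 lc_e_rc_35_2 lc_e_Cert_tree lc_e_rc_34_0 lc_e_rc_39_2 lc_e_rc_21_1 lc_e_rc_39_2 lc_e_rc_35_2 lc_e_rc_37_2) (@D3.rec (fun _ => (Cert rels S Gen.e)) lc_e_rc_39_2 lc_e_rc_35_2 lc_e_rc_34_0 lc_e_rc_39_2 lc_e_rc_35_0 lc_e_rc_39_2 lc_e_rc_35_2 lc_e_rc_21_1 lc_e_rc_21_1 lc_e_rc_35_2 lc_e_Cert_tree lc_e_rc_38_2 lc_e_rc_37_2 lc_e_rc_35_2 lc_e_rc_36_2 lc_e_rc_36_2 lc_e_rc_37_2 lc_e_rc_39_2 lc_e_rc_4_3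 lc_e_rc_21_3 lc_e_rc_39_0 lc_e_rc_34_0 lc_e_rc_39_2 lc_e_rc_39_2 lc_e_rc_35_2 lc_e_rc_4_3 lc_e_rc_34_0 lc_e_rc_39_2 lc_e_rc_28_3 lc_e_rc_39_2 lc_e_rc_35_2 lc_e_rc_35_2 lc_e_rc_21_1 lc_e_rc_13_1 lc_e_rc_21_1 lc_e_rc_21_1 lc_e_rc_13_1 lc_e_Cert_tree lc_e_rc_21_1 lc_e_rc_35_0 lc_e_rc_34_0 lc_e_rc_13_3 lc_e_rc_35_0 lc_e_rc_39_2 lc_e_rc_35_2 lc_e_rc_35_2 lc_e_rc_28_1 lc_e_rc_39_2 lc_e_rc_35_2 lc_e_rc_38_0 lc_e_rc_35_2) (@D3.rec (fun _ => (Cert rels S Gen.e)) lc_e_rc_37_0 lc_e_rc_4_1 lc_e_rc_38_2 lc_e_rc_4_1 lc_e_rc_35_2 lc_e_rc_35_2 lc_e_rc_39_2 lc_e_rc_35_0 lc_e_rc_39_2 lc_e_rc_21_1 lc_e_rc_28_3 lc_e_rc_13_1 lc_e_rc_21_1 lc_e_rc_4_1 lc_e_rc_38_2 lc_e_rc_39_2 lc_e_rc_39_2 lc_e_rc_34_0 lc_e_rc_39_2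 lc_e_rc_39_2 lc_e_rc_35_2 lc_e_rc_21_1 lc_e_rc_38_2 lc_e_rc_39_2 lc_e_rc_13_3 lc_e_rc_36_2 lc_e_rc_39_2 lc_e_rc_21_1 lc_e_rc_39_2 lc_e_rc_35_2 lc_e_rc_36_2 lc_e_rc_39_2 lc_e_rc_4_1 lc_e_rc_21_1 lc_e_rc_4_3 lc_e_rc_4_3 lc_e_rc_35_2 lc_e_rc_35_2 lc_e_rc_36_2 lc_e_rc_34_0 lc_e_rc_39_2 lc_e_rc_28_3 lc_e_rc_39_2 lc_e_rc_35_2 lc_e_rc_37_2 lc_e_rc_34_0 lc_e_rc_39_2 lc_e_rc_21_1 lc_e_rc_39_2 lc_e_rc_35_2 lc_e_rc_37_2) (@D3.rec (fun _ => (Cert rels S Gen.e)) lc_e_rc_36_2 lc_e_rc_35_2 lc_e_rc_38_2 lc_e_rc_39_2 lc_e_rc_39_2 lc_e_rc_39_2 lc_e_rc_35_2 lc_e_rc_13_1 lc_e_rc_21_1 lc_e_rc_4_1 lc_e_rc_13_1 lc_e_Cert_tree lc_e_rc_35_2 lc_e_rc_13_1 lc_e_rc_4_1 lc_e_rc_13_1 lc_e_rc_4_1 lc_e_rc_36_2 lc_e_rc_28_1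 lc_e_rc_39_2 lc_e_rc_39_2 lc_e_rc_4_1 lc_e_Cert_tree lc_e_rc_4_1 lc_e_rc_28_3 lc_e_rc_39_2 lc_e_rc_37_2 lc_e_rc_28_3 lc_e_rc_39_2 lc_e_rc_35_2 lc_e_rc_4_1 lc_e_rc_37_2 lc_e_rc_28_3 lc_e_rc_13_1 lc_e_rc_21_1 lc_e_rc_4_1 lc_e_rc_4_1 lc_e_rc_13_1 lc_e_rc_21_1 lc_e_Cert_tree lc_e_rc_36_2 lc_e_rc_37_2 lc_e_rc_28_3 lc_e_rc_13_1 lc_e_rc_39_2 lc_e_rc_39_2 lc_e_rc_35_2 lc_e_Cert_tree lc_e_rc_36_2 lc_e_Cert_tree lc_e_rc_34_0) (@D3.rec (fun _ => (Cert rels S Gen.e)) lc_e_rc_39_2 lc_e_rc_28_3 lc_e_rc_34_0 lc_e_rc_39_2 lc_e_rc_36_2 lc_e_rc_39_2 lc_e_rc_35_2 lc_e_rc_13_1 lc_e_rc_34_0 lc_e_rc_39_2 lc_e_rc_39_2 lc_e_rc_35_2 lc_e_rc_35_2 lc_e_rc_36_2 lc_e_rc_34_0 lc_e_rc_39_2 lc_e_rc_39_2 lc_e_rc_35_2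 lc_e_rc_21_1 lc_e_rc_4_1 lc_e_rc_13_1 lc_e_Cert_tree lc_e_rc_35_2 lc_e_rc_4_1 lc_e_rc_13_3 lc_e_rc_34_0 lc_e_Cert_tree lc_e_rc_36_2 lc_e_rc_37_2 lc_e_rc_39_2 lc_e_rc_13_1 lc_e_rc_21_1 lc_e_rc_39_2 lc_e_rc_4_1 lc_e_Cert_tree lc_e_rc_4_1 lc_e_Cert_tree lc_e_rc_34_0 lc_e_rc_39_2 lc_e_rc_28_3 lc_e_rc_39_2 lc_e_rc_35_2 lc_e_rc_36_0 lc_e_rc_39_2 lc_e_rc_21_1 lc_e_rc_37_2 lc_e_rc_4_1 lc_e_rc_28_3 lc_e_rc_4_3 lc_e_rc_39_2 lc_e_rc_35_2) (@D3.rec (fun _ => (Cert rels S Gen.e)) lc_e_rc_4_1 lc_e_rc_21_1 lc_e_rc_4_1 lc_e_rc_13_1 lc_e_Cert_tree lc_e_Cert_tree lc_e_rc_34_0 lc_e_rc_39_2 lc_e_rc_13_1 lc_e_rc_4_3 lc_e_rc_35_2 lc_e_rc_34_0 lc_e_rc_39_2 lc_e_rc_35_2 lc_e_rc_39_2 lc_e_rc_35_2 lc_e_rc_35_2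 lc_e_rc_35_2 lc_e_Cert_tree lc_e_rc_37_2 lc_e_Cert_tree lc_e_rc_34_0 lc_e_rc_39_2 lc_e_Cert_tree lc_e_rc_34_0 lc_e_rc_39_2 lc_e_rc_36_2 lc_e_rc_39_2 lc_e_rc_35_2 lc_e_rc_21_1 lc_e_rc_28_3 lc_e_rc_35_2 lc_e_rc_37_2 lc_e_rc_34_0 lc_e_rc_39_2 lc_e_rc_21_1 lc_e_rc_39_2 lc_e_rc_35_2 lc_e_rc_37_2 lc_e_rc_39_2 lc_e_rc_35_2 lc_e_rc_34_0 lc_e_rc_39_2 lc_e_rc_13_1 lc_e_rc_39_2 lc_e_rc_35_2 lc_e_rc_21_1 lc_e_rc_21_1 lc_e_rc_35_2 lc_e_Cert_tree lc_e_rc_38_2) (@D3.rec (fun _ => (Cert rels S Gen.e)) lc_e_rc_37_2 lc_e_rc_35_2 lc_e_rc_38_2 lc_e_rc_37_2 lc_e_rc_39_2 lc_e_rc_36_2 lc_e_rc_36_2 lc_e_rc_38_2 lc_e_rc_13_3 lc_e_rc_39_2 lc_e_rc_35_2 lc_e_rc_4_3 lc_e_rc_34_0 lc_e_rc_39_2 lc_e_rc_28_3 lc_e_rc_39_2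 lc_e_rc_35_2 lc_e_rc_35_2 lc_e_rc_13_1 lc_e_rc_21_1 lc_e_rc_4_1 lc_e_rc_13_1 lc_e_Cert_tree lc_e_rc_4_1 lc_e_Cert_tree lc_e_rc_34_0 lc_e_rc_36_4 lc_e_rc_36_2 lc_e_rc_34_0 lc_e_rc_39_2 lc_e_rc_39_2 lc_e_rc_56_11 lc_e_rc_34_0 lc_e_rc_39_2 lc_e_rc_38_0 lc_e_rc_39_2 lc_e_rc_35_2 lc_e_rc_39_2 lc_e_rc_35_2 lc_e_rc_4_1 lc_e_rc_13_1 lc_e_rc_4_1 lc_e_Cert_tree lc_e_rc_34_0 lc_e_rc_21_1 lc_e_rc_4_1 lc_e_rc_34_0 lc_e_rc_36_2 lc_e_rc_37_2 lc_e_Cert_tree lc_e_rc_4_1) (@D3.rec (fun _ => (Cert rels S Gen.e)) lc_e_rc_34_0 lc_e_rc_39_2 lc_e_rc_35_0 lc_e_rc_4_3 lc_e_rc_37_2 lc_e_Cert_tree lc_e_rc_39_2 lc_e_rc_37_2 lc_e_Cert_tree lc_e_rc_39_2 lc_e_rc_34_0 lc_e_rc_39_2 lc_e_rc_34_0 lc_e_rc_39_2 lc_e_rc_36_2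 lc_e_rc_39_2 lc_e_rc_35_2 lc_e_rc_35_2 lc_e_Cert_tree lc_e_rc_37_2 lc_e_Cert_tree lc_e_rc_34_0 lc_e_rc_39_2 lc_e_Cert_tree lc_e_rc_34_0 lc_e_rc_39_2 lc_e_rc_36_2 lc_e_rc_39_2 lc_e_rc_35_2 lc_e_Cert_tree lc_e_rc_34_0 lc_e_rc_39_2 lc_e_rc_36_2 lc_e_rc_39_2 lc_e_rc_35_2 lc_e_rc_34_0 lc_e_rc_39_2 lc_e_rc_21_1 lc_e_rc_39_2 lc_e_rc_35_2 lc_e_rc_39_2 lc_e_rc_35_2 lc_e_rc_39_2 lc_e_rc_35_2 lc_e_rc_35_2 lc_e_rc_37_2 lc_e_rc_36_2 lc_e_rc_4_3 lc_e_rc_39_2 lc_e_rc_21_1 lc_e_rc_34_0) (@D3.rec (fun _ => (Cert rels S Gen.e)) lc_e_rc_39_2 lc_e_rc_39_2 lc_e_rc_4_3 lc_e_rc_34_0 lc_e_rc_39_2 lc_e_rc_28_3 lc_e_rc_39_2 lc_e_rc_4_1 lc_e_rc_13_1 lc_e_rc_4_1 lc_e_rc_37_0 lc_e_rc_4_3 lc_e_rc_39_2 lc_e_rc_39_2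 lc_e_rc_4_1 lc_e_rc_13_1 lc_e_rc_4_1 lc_e_rc_36_2 lc_e_rc_39_2 lc_e_rc_39_2 lc_e_Cert_tree lc_e_rc_39_2 lc_e_Cert_tree lc_e_rc_39_2 lc_e_rc_34_0 lc_e_rc_39_2 lc_e_rc_35_0 lc_e_rc_4_3 lc_e_Cert_tree lc_e_rc_4_1 lc_e_Cert_tree lc_e_rc_34_0 lc_e_rc_39_2 lc_e_Cert_tree lc_e_rc_34_0 lc_e_rc_39_2 lc_e_rc_39_2 lc_e_rc_35_2 lc_e_rc_38_2 lc_e_rc_35_0 lc_e_rc_4_3 lc_e_rc_37_2 lc_e_rc_35_0 lc_e_rc_4_3 lc_e_rc_39_2 lc_e_rc_13_1 lc_e_rc_35_2 lc_e_rc_35_2 lc_e_rc_38_2 lc_e_rc_34_0 lc_e_rc_39_2) (@D3.rec (fun _ => (Cert rels S Gen.e)) lc_e_rc_39_2 lc_e_rc_4_3 lc_e_rc_34_0 lc_e_rc_39_2 lc_e_rc_28_3 lc_e_rc_39_2 lc_e_rc_4_1 lc_e_rc_13_1 lc_e_rc_4_1 lc_e_rc_39_2 lc_e_Cert_tree lc_e_rc_34_0 lc_e_rc_39_2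 lc_e_Cert_tree lc_e_rc_13_3 lc_e_Cert_tree lc_e_rc_34_0 lc_e_rc_39_2 lc_e_Cert_tree lc_e_rc_34_0 lc_e_rc_39_2 lc_e_rc_36_2 lc_e_rc_39_2 lc_e_rc_35_2 lc_e_Cert_tree lc_e_rc_34_0 lc_e_rc_39_2 lc_e_rc_39_2 lc_e_rc_35_2 lc_e_rc_37_2 lc_e_rc_34_0 lc_e_rc_39_2 lc_e_rc_21_1 lc_e_rc_39_2 lc_e_rc_35_2 lc_e_rc_37_2 lc_e_rc_39_2 lc_e_rc_35_2 lc_e_rc_39_2 lc_e_rc_39_2 lc_e_rc_35_2 lc_e_rc_35_2 lc_e_rc_36_2 lc_e_rc_35_2 lc_e_rc_35_2 lc_e_rc_37_2 lc_e_rc_36_2 lc_e_Cert_tree lc_e_rc_34_0 lc_e_rc_39_2 lc_e_Cert_tree) (@D3.rec (fun _ => (Cert rels S Gen.e)) lc_e_rc_34_0 lc_e_rc_39_2 lc_e_rc_36_2 lc_e_rc_39_2 lc_e_rc_35_2 lc_e_Cert_tree lc_e_rc_34_0 lc_e_rc_39_2 lc_e_rc_28_3 lc_e_rc_21_1 lc_e_rc_39_2 lc_e_rc_35_2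 lc_e_rc_37_2 lc_e_rc_39_2 lc_e_rc_35_2 lc_e_Cert_tree lc_e_rc_34_0 lc_e_rc_39_2 lc_e_rc_36_2 lc_e_rc_39_2 lc_e_rc_35_2 lc_e_rc_37_2 lc_e_rc_36_2 lc_e_rc_35_2 lc_e_rc_34_0 lc_e_rc_39_2 lc_e_rc_13_1 lc_e_rc_39_2 lc_e_rc_35_2 lc_e_rc_21_1 lc_e_rc_21_1 lc_e_rc_35_2 lc_e_Cert_tree lc_e_rc_38_2 lc_e_rc_39_2 lc_e_rc_35_2 lc_e_rc_39_2 lc_e_rc_35_2 lc_e_rc_13_1 lc_e_rc_13_1 lc_e_rc_35_2 lc_e_rc_4_1 lc_e_rc_21_1 lc_e_rc_21_1 lc_e_rc_35_2 lc_e_Cert_tree lc_e_rc_34_0 lc_e_rc_38_2 lc_e_rc_35_2 lc_e_rc_37_2 lc_e_rc_37_2) (@D3.rec (fun _ => (Cert rels S Gen.e)) lc_e_rc_38_2 lc_e_rc_37_2 lc_e_rc_39_2 lc_e_rc_28_3 lc_e_rc_39_2 lc_e_rc_39_2 lc_e_rc_4_1 lc_e_rc_13_1 lc_e_rc_35_2 lc_e_rc_28_3 lc_e_Cert_tree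 lc_e_rc_35_2 lc_e_Cert_tree lc_e_rc_39_2 lc_e_rc_4_1 lc_e_rc_34_0 lc_e_rc_37_2 lc_e_rc_39_2 lc_e_rc_28_3 lc_e_rc_4_1 lc_e_rc_4_1 lc_e_rc_21_1 lc_e_rc_28_3 lc_e_rc_35_2 lc_e_Cert_tree lc_e_rc_34_0 lc_e_rc_39_2 lc_e_Cert_tree lc_e_rc_34_0 lc_e_rc_39_2 lc_e_rc_39_2 lc_e_rc_35_2 lc_e_rc_35_2 lc_e_rc_35_2 lc_e_rc_35_2 lc_e_rc_34_0 lc_e_rc_39_2 lc_e_rc_39_2 lc_e_rc_35_2 lc_e_rc_34_0 lc_e_rc_39_2 lc_e_rc_28_3 lc_e_rc_39_2 lc_e_rc_4_1 lc_e_rc_13_1 lc_e_rc_4_1 lc_e_rc_35_2 lc_e_rc_39_2 lc_e_rc_34_0 lc_e_rc_34_0 lc_e_rc_36_2) (@D3.rec (fun _ => (Cert rels S Gen.e)) lc_e_Cert_tree lc_e_rc_39_2 lc_e_rc_21_1 lc_e_rc_35_2 lc_e_rc_13_1 lc_e_rc_4_1 lc_e_Cert_tree lc_e_rc_34_0 lc_e_rc_36_2 lc_e_rc_35_2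 lc_e_rc_35_2 lc_e_rc_13_3 lc_e_rc_28_3 lc_e_rc_4_3 lc_e_rc_13_3 lc_e_rc_4_1 lc_e_Cert_tree lc_e_rc_34_0 lc_e_rc_38_2 lc_e_rc_38_2 lc_e_rc_34_0 lc_e_rc_28_3 lc_e_rc_35_2 lc_e_Cert_tree lc_e_rc_4_1 lc_e_rc_4_1 lc_e_rc_34_0 lc_e_rc_4_1 lc_e_rc_39_2 lc_e_rc_37_2 lc_e_rc_36_2 lc_e_rc_28_3 lc_e_rc_35_2 lc_e_rc_4_1 lc_e_rc_39_2 lc_e_rc_35_2 lc_e_rc_13_1 lc_e_rc_35_2 lc_e_rc_35_2 lc_e_rc_21_1 lc_e_rc_35_2 lc_e_Cert_tree lc_e_rc_34_0 lc_e_rc_35_0 lc_e_rc_39_2 lc_e_rc_35_2 lc_e_rc_13_3 lc_e_rc_39_2 lc_e_rc_35_2 lc_e_rc_13_1 lc_e_rc_4_1) (@D3.rec (fun _ => (Cert rels S Gen.e)) lc_e_Cert_tree lc_e_rc_34_0 lc_e_rc_13_1 lc_e_rc_4_1 lc_e_rc_34_0 lc_e_rc_36_2 lc_e_rc_36_4 lc_e_rc_13_3 lc_e_rc_39_2 lc_e_rc_35_2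 lc_e_rc_35_2 lc_e_Cert_tree lc_e_rc_34_0 lc_e_rc_4_1 lc_e_Cert_tree lc_e_rc_34_0 lc_e_rc_37_2 lc_e_rc_37_2 lc_e_rc_34_0 lc_e_rc_37_0 lc_e_rc_4_3 lc_e_rc_34_0 lc_e_rc_34_0 lc_e_rc_13_1 lc_e_rc_37_2 lc_e_rc_28_3 lc_e_rc_13_1 lc_e_rc_35_2 lc_e_rc_38_2 lc_e_rc_35_0 lc_e_rc_4_3 lc_e_rc_39_2 lc_e_rc_13_1 lc_e_Cert_tree lc_e_rc_4_1 lc_e_rc_4_1 lc_e_rc_34_0 lc_e_rc_39_2 lc_e_rc_4_3 lc_e_rc_35_0 lc_e_rc_39_2 lc_e_rc_35_2 lc_e_rc_13_3 lc_e_rc_39_2 lc_e_Cert_tree lc_e_Cert_tree lc_e_rc_13_3 lc_e_rc_34_0 lc_e_rc_35_2 lc_e_rc_34_0 lc_e_rc_13_1) (@D3.rec (fun _ => (Cert rels S Gen.e)) lc_e_rc_39_2 lc_e_rc_35_2 lc_e_rc_28_3 lc_e_rc_35_2 lc_e_rc_28_3 lc_e_rc_21_1 lc_e_rc_21_1 lc_e_rc_35_2 lc_e_Cert_tree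 lc_e_rc_39_2 lc_e_rc_35_2 lc_e_rc_28_3 lc_e_rc_34_0 lc_e_rc_13_1 lc_e_rc_39_2 lc_e_rc_39_2 lc_e_rc_35_2 lc_e_rc_35_2 lc_e_rc_4_1 lc_e_rc_39_2 lc_e_rc_35_2 lc_e_rc_13_1 lc_e_rc_13_1 lc_e_rc_35_2 lc_e_rc_38_2 lc_e_rc_21_1 lc_e_rc_35_2 lc_e_Cert_tree lc_e_rc_34_0 lc_e_rc_21_3 lc_e_rc_35_2 lc_e_rc_4_1 lc_e_rc_4_1 lc_e_rc_35_2 lc_e_rc_13_1 lc_e_rc_13_1 lc_e_rc_13_1 lc_e_rc_35_0 lc_e_rc_21_1 lc_e_rc_35_2 lc_e_rc_4_3 lc_e_rc_34_0 lc_e_rc_35_2 lc_e_rc_39_2 lc_e_rc_35_2 lc_e_rc_13_1 lc_e_rc_4_1 lc_e_rc_36_2 lc_e_rc_4_1 lc_e_rc_4_1 lc_e_rc_39_2) (@D3.rec (fun _ => (Cert rels S Gen.e)) lc_e_rc_4_3 lc_e_rc_21_1 lc_e_rc_35_2 lc_e_rc_13_1 lc_e_rc_55_22 lc_e_rc_38_2 lc_e_rc_36_2 lc_e_rc_36_2 lc_e_rc_21_1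 lc_e_rc_35_2 lc_e_rc_21_1 lc_e_rc_35_2 lc_e_rc_13_1 lc_e_rc_21_1 lc_e_rc_38_0 lc_e_rc_39_2 lc_e_rc_35_2 lc_e_rc_38_2 lc_e_rc_21_3 lc_e_rc_35_2 lc_e_rc_37_2 lc_e_rc_39_2 lc_e_rc_35_2 lc_e_rc_37_2 lc_e_rc_39_2 lc_e_rc_21_3 lc_e_rc_28_3 lc_e_rc_55_76 lc_e_rc_35_2 lc_e_rc_4_3 lc_e_rc_4_3 lc_e_rc_4_3 lc_e_rc_28_3 lc_e_rc_37_2 lc_e_rc_28_1 lc_e_rc_35_2 lc_e_rc_38_2 lc_e_rc_39_2 lc_e_rc_35_2 lc_e_rc_39_2 lc_e_rc_35_2 lc_e_Cert_tree lc_e_rc_21_1 lc_e_rc_13_1 lc_e_rc_21_1 lc_e_rc_13_1 lc_e_rc_56_39 lc_e_rc_36_4 lc_e_rc_13_3 lc_e_rc_4_1 lc_e_rc_13_1) (@D3.rec (fun _ => (Cert rels S Gen.e)) lc_e_rc_21_1 lc_e_rc_4_1 lc_e_rc_13_1 lc_e_rc_37_2 lc_e_rc_4_1 lc_e_rc_28_3 lc_e_rc_34_0 lc_e_Cert_tree lc_e_rc_39_2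 lc_e_rc_38_2 lc_e_Cert_tree lc_e_rc_39_2 lc_e_Cert_tree lc_e_rc_34_0 lc_e_rc_39_2 lc_e_rc_55_58 lc_e_rc_34_0 lc_e_rc_39_2 lc_e_rc_39_2 lc_e_rc_35_2 lc_e_rc_21_1 lc_e_rc_28_3 lc_e_rc_39_2 lc_e_rc_38_2 lc_e_rc_39_2 lc_e_rc_38_0 lc_e_rc_39_2 lc_e_rc_35_2 lc_e_rc_35_2 lc_e_rc_38_2 lc_e_rc_39_2 lc_e_rc_34_0 lc_e_rc_39_2 lc_e_rc_39_2 lc_e_rc_21_3 lc_e_rc_36_2 lc_e_rc_39_2 lc_e_rc_35_2 lc_e_rc_37_2 lc_e_rc_39_2 lc_e_rc_35_2 lc_e_rc_21_1 lc_e_rc_39_2 lc_e_rc_35_2 lc_e_rc_37_2 lc_e_rc_37_2 lc_e_Cert_tree lc_e_rc_39_2 lc_e_Cert_tree lc_e_rc_34_0 lc_e_rc_39_2) (@D3.rec (fun _ => (Cert rels S Gen.e)) lc_e_rc_21_1 lc_e_rc_35_2 lc_e_Cert_tree lc_e_rc_36_2 lc_e_Cert_tree lc_e_rc_39_2 lc_e_Cert_tree lc_e_rc_34_0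 lc_e_rc_39_2 lc_e_Cert_tree lc_e_rc_34_0 lc_e_rc_39_2 lc_e_rc_39_2 lc_e_rc_35_2 lc_e_rc_34_0 lc_e_rc_39_2 lc_e_rc_36_2 lc_e_rc_39_2 lc_e_rc_35_2 lc_e_rc_35_2 lc_e_rc_36_2 lc_e_rc_35_2 lc_e_rc_28_3 lc_e_rc_13_1 lc_e_rc_21_1 lc_e_rc_4_1 lc_e_rc_13_1 lc_e_rc_21_1 lc_e_rc_4_1 lc_e_rc_13_1 lc_e_rc_4_1 lc_e_rc_13_1 lc_e_rc_13_1 lc_e_rc_13_1 lc_e_rc_13_1 lc_e_rc_21_3 lc_e_rc_39_2 lc_e_rc_34_0 lc_e_rc_39_2 lc_e_rc_39_2 lc_e_rc_35_2 lc_e_rc_21_1 lc_e_Cert_tree lc_e_rc_4_1 lc_e_rc_28_3 lc_e_rc_28_3 lc_e_rc_39_2 lc_e_rc_35_2 lc_e_rc_37_2 lc_e_rc_39_2 lc_e_rc_35_2) (@D3.rec (fun _ => (Cert rels S Gen.e)) lc_e_rc_37_2 lc_e_rc_39_2 lc_e_rc_34_0 lc_e_rc_37_2 lc_e_Cert_tree lc_e_rc_37_2 lc_e_rc_37_2 lc_e_rc_39_2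 lc_e_rc_34_0 lc_e_rc_39_2 lc_e_rc_35_2 lc_e_rc_39_2 lc_e_rc_35_2 lc_e_Cert_tree lc_e_rc_36_2 lc_e_Cert_tree lc_e_rc_34_0 lc_e_rc_39_2 lc_e_rc_39_2 lc_e_rc_28_3 lc_e_rc_36_2 lc_e_rc_39_2 lc_e_rc_35_2 lc_e_rc_39_2 lc_e_rc_21_1 lc_e_rc_39_2 lc_e_rc_35_2 lc_e_rc_37_2 lc_e_rc_36_2 lc_e_rc_35_2 lc_e_rc_37_2 lc_e_rc_36_2 lc_e_rc_35_2 lc_e_rc_38_2 lc_e_rc_39_2 lc_e_rc_35_2 lc_e_rc_28_3 lc_e_rc_39_2 lc_e_rc_35_2 lc_e_rc_21_1 lc_e_rc_38_2 lc_e_rc_35_2 lc_e_rc_38_2 lc_e_rc_38_2 lc_e_Cert_tree lc_e_rc_39_2 lc_e_Cert_tree lc_e_rc_39_2 lc_e_rc_37_2 lc_e_rc_34_0 lc_e_rc_39_2) (@D3.rec (fun _ => (Cert rels S Gen.e)) lc_e_rc_35_0 lc_e_rc_39_2 lc_e_rc_35_2 lc_e_rc_35_2 lc_e_Cert_tree lc_e_rc_36_2 lc_e_Cert_tree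 lc_e_rc_34_0 lc_e_rc_39_2 lc_e_Cert_tree lc_e_rc_34_0 lc_e_rc_39_2 lc_e_rc_37_2 lc_e_rc_34_0 lc_e_rc_39_2 lc_e_rc_36_2 lc_e_rc_39_2 lc_e_rc_35_2 lc_e_rc_35_0 lc_e_rc_39_2 lc_e_rc_35_2 lc_e_rc_35_2 lc_e_rc_36_2 lc_e_rc_39_2 lc_e_rc_35_2 lc_e_rc_36_2 lc_e_rc_35_2 lc_e_rc_28_3 lc_e_rc_35_2 lc_e_rc_4_3 lc_e_rc_21_3 lc_e_Cert_tree lc_e_rc_34_0 lc_e_rc_39_2 lc_e_rc_39_2 lc_e_rc_35_2 lc_e_rc_21_1 lc_e_rc_35_2 lc_e_rc_13_1 lc_e_rc_21_1 lc_e_rc_4_1 lc_e_rc_13_1 lc_e_Cert_tree lc_e_rc_21_1 lc_e_rc_13_3 lc_e_rc_34_0 lc_e_rc_39_2 lc_e_rc_39_2 lc_e_rc_35_2 lc_e_rc_35_2 lc_e_rc_21_1) (@D3.rec (fun _ => (Cert rels S Gen.e)) lc_e_rc_13_1 lc_e_Cert_tree lc_e_rc_4_1 lc_e_rc_4_1 lc_e_rc_34_0 lc_e_rc_38_2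 lc_e_rc_37_2 lc_e_rc_13_1 lc_e_rc_13_3 lc_e_rc_13_1 lc_e_rc_13_3 lc_e_rc_37_2 lc_e_rc_4_3 lc_e_Cert_tree lc_e_rc_13_1 lc_e_rc_35_0 lc_e_rc_39_2 lc_e_rc_36_0 lc_e_rc_34_0 lc_e_rc_39_2 lc_e_rc_39_2 lc_e_rc_39_2 lc_e_rc_35_2 lc_e_rc_38_0 lc_e_rc_39_2 lc_e_rc_35_2 lc_e_rc_13_1 lc_e_rc_35_2 lc_e_rc_35_2 lc_e_rc_4_3 lc_e_Cert_tree lc_e_rc_39_2 lc_e_rc_13_3 lc_e_rc_4_1 lc_e_rc_4_3 lc_e_rc_34_0 lc_e_rc_39_2 lc_e_rc_4_3 lc_e_rc_39_2 lc_e_rc_35_2 lc_e_rc_37_2 lc_e_Cert_tree lc_e_rc_36_2 lc_e_Cert_tree lc_e_rc_34_0 lc_e_rc_39_2 lc_e_rc_39_2 lc_e_rc_4_3 lc_e_rc_36_2 lc_e_rc_39_2 lc_e_rc_35_2) (@D3.rec (fun _ => (Cert rels S Gen.e)) lc_e_rc_4_3 lc_e_rc_37_2 lc_e_rc_35_0 lc_e_rc_35_2 lc_e_rc_36_2 lc_e_rc_13_3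 lc_e_rc_35_2 lc_e_rc_38_2 lc_e_rc_39_2 lc_e_rc_35_2 lc_e_rc_35_0 lc_e_rc_39_2 lc_e_rc_35_2 lc_e_rc_28_1 lc_e_rc_39_2 lc_e_rc_35_2 lc_e_rc_35_2 lc_e_rc_35_0 lc_e_rc_38_2 lc_e_Cert_tree lc_e_rc_39_2 lc_e_rc_13_3 lc_e_Cert_tree lc_e_rc_39_2 lc_e_Cert_tree lc_e_rc_34_0 lc_e_rc_39_2 lc_e_rc_13_3 lc_e_rc_34_0 lc_e_rc_39_2 lc_e_rc_37_2 lc_e_rc_34_0 lc_e_rc_39_2 lc_e_rc_36_2 lc_e_rc_39_2 lc_e_rc_35_2 lc_e_rc_39_2 lc_e_rc_39_2 lc_e_rc_35_2 lc_e_rc_35_2 lc_e_rc_36_2 lc_e_rc_35_2 lc_e_Cert_tree lc_e_rc_37_2 lc_e_Cert_tree lc_e_rc_34_0 lc_e_rc_39_2 lc_e_Cert_tree lc_e_rc_34_0 lc_e_rc_39_2 lc_e_rc_36_2) (@D3.rec (fun _ => (Cert rels S Gen.e)) lc_e_rc_39_2 lc_e_rc_35_2 lc_e_rc_35_0 lc_e_rc_39_2 lc_e_rc_36_2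 lc_e_rc_39_2 lc_e_rc_35_2 lc_e_rc_37_2 lc_e_rc_34_0 lc_e_rc_39_2 lc_e_rc_21_1 lc_e_rc_39_2 lc_e_rc_35_2 lc_e_rc_37_2 lc_e_rc_39_2 lc_e_rc_35_2 lc_e_rc_39_2 lc_e_rc_39_2 lc_e_rc_35_2 lc_e_rc_21_1 lc_e_rc_21_1 lc_e_rc_35_2 lc_e_Cert_tree lc_e_rc_38_2 lc_e_rc_37_2 lc_e_rc_35_2 lc_e_rc_28_3 lc_e_rc_4_1 lc_e_rc_4_1 lc_e_rc_35_2 lc_e_rc_38_2 lc_e_rc_37_2 lc_e_rc_35_2 lc_e_rc_28_3 lc_e_rc_39_2 lc_e_rc_35_2 lc_e_rc_21_3 lc_e_rc_21_1 lc_e_rc_35_2 lc_e_rc_13_1 lc_e_rc_4_1 lc_e_rc_35_2 lc_e_Cert_tree lc_e_rc_34_0 lc_e_rc_39_2 lc_e_rc_28_3 lc_e_rc_39_2 lc_e_rc_35_2 lc_e_rc_35_2 lc_e_rc_28_1 lc_e_rc_13_1) (@D3.rec (fun _ => (Cert rels S Gen.e)) lc_e_rc_35_2 lc_e_rc_13_1 lc_e_rc_13_1 lc_e_Cert_tree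 lc_e_rc_4_1 lc_e_Cert_tree lc_e_rc_34_0 lc_e_rc_13_1 lc_e_rc_21_3 lc_e_rc_56_11 lc_e_rc_34_0 lc_e_rc_39_2 lc_e_rc_39_2 lc_e_rc_35_2 lc_e_rc_35_2 lc_e_rc_36_4 lc_e_rc_4_1 lc_e_rc_13_1 lc_e_Cert_tree lc_e_rc_4_1 lc_e_rc_4_1 lc_e_rc_34_0 lc_e_rc_39_2 lc_e_rc_35_2 lc_e_rc_4_1 lc_e_rc_39_2 lc_e_rc_35_2 lc_e_rc_35_2 lc_e_rc_21_1 lc_e_rc_35_2 lc_e_rc_28_3 lc_e_rc_35_2 lc_e_rc_13_1 lc_e_rc_21_1 lc_e_rc_38_2 lc_e_rc_37_2 lc_e_rc_36_2 lc_e_rc_39_2 lc_e_rc_38_2 lc_e_rc_39_2 lc_e_rc_28_3 lc_e_rc_35_2 lc_e_Cert_tree lc_e_rc_39_2 lc_e_rc_36_2 lc_e_rc_4_1 lc_e_rc_38_2 lc_e_rc_38_0 lc_e_rc_39_2 lc_e_rc_38_0 lc_e_rc_34_0) (@D3.rec (fun _ => (Cert rels S Gen.e)) lc_e_rc_39_2 lc_e_rc_39_2 lc_e_rc_39_2 lc_e_rc_35_2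 lc_e_rc_36_2 lc_e_rc_4_1 lc_e_rc_4_1 lc_e_rc_39_2 lc_e_rc_39_2 lc_e_rc_4_1 lc_e_rc_13_3 lc_e_rc_39_2 lc_e_rc_21_3 lc_e_rc_34_0 lc_e_rc_39_2 lc_e_rc_35_2 lc_e_rc_4_3 lc_e_rc_36_2 lc_e_rc_28_3 lc_e_rc_39_2 lc_e_rc_39_2 lc_e_rc_38_2 lc_e_rc_39_2 lc_e_rc_28_3 lc_e_rc_39_2 lc_e_rc_35_2 lc_e_rc_39_2 lc_e_rc_35_2 lc_e_rc_39_2 lc_e_rc_35_2 lc_e_rc_35_2 lc_e_rc_39_2 lc_e_rc_35_2 lc_e_rc_39_2 lc_e_rc_21_1 lc_e_rc_39_2 lc_e_rc_13_1 lc_e_rc_35_2 lc_e_rc_13_1 lc_e_rc_37_2 lc_e_rc_39_2 lc_e_rc_38_2 lc_e_rc_28_3 lc_e_rc_35_2 lc_e_rc_13_1 lc_e_rc_39_2 lc_e_Cert_tree lc_e_rc_34_0 lc_e_rc_39_2 lc_e_rc_36_2 lc_e_rc_35_2) (@D3.rec (fun _ => (Cert rels S Gen.e)) lc_e_rc_36_2 lc_e_rc_36_2 lc_e_rc_39_2 lc_e_rc_13_1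 lc_e_rc_34_0 lc_e_rc_39_2 lc_e_rc_21_1 lc_e_rc_34_0 lc_e_rc_39_2 lc_e_rc_39_2 lc_e_rc_35_2 lc_e_rc_36_2 lc_e_rc_39_2 lc_e_rc_35_2 lc_e_rc_35_2 lc_e_rc_13_1 lc_e_rc_21_1 lc_e_rc_35_2 lc_e_rc_13_1 lc_e_rc_35_2 lc_e_rc_35_2 lc_e_rc_35_2 lc_e_rc_35_0 lc_e_rc_13_1 lc_e_rc_39_2 lc_e_rc_36_2 lc_e_rc_34_0 lc_e_rc_39_2 lc_e_rc_21_1 lc_e_rc_34_0 lc_e_rc_39_2 lc_e_rc_4_1 lc_e_rc_39_2 lc_e_rc_35_2 lc_e_rc_34_0 lc_e_rc_39_2 lc_e_rc_39_2 lc_e_rc_34_0 lc_e_rc_39_2 lc_e_rc_39_2 lc_e_rc_35_2 lc_e_rc_38_2 lc_e_rc_34_0 lc_e_rc_39_2 lc_e_rc_21_1 lc_e_rc_39_2 lc_e_rc_35_2 lc_e_rc_37_2 lc_e_rc_36_2 lc_e_rc_35_2 lc_e_rc_35_2)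
def ce_e_12 : D2 → D3 → (Cert rels S Gen.e) := @D2.rec (fun _ => D3 → (Cert rels S Gen.e)) (@D3.rec (fun _ => (Cert rels S Gen.e)) lc_e_rc_38_2 lc_e_rc_39_2 lc_e_rc_35_2 lc_e_rc_28_3 lc_e_rc_35_2 lc_e_rc_4_1 lc_e_rc_13_1 lc_e_Cert_tree lc_e_rc_4_1 lc_e_rc_36_2 lc_e_rc_39_2 lc_e_rc_13_1 lc_e_rc_4_1 lc_e_rc_4_1 lc_e_rc_36_2 lc_e_rc_39_2 lc_e_rc_35_2 lc_e_rc_39_2 lc_e_rc_35_2 lc_e_rc_35_2 lc_e_rc_28_3 lc_e_rc_36_4 lc_e_rc_21_1 lc_e_rc_35_2 lc_e_rc_13_1 lc_e_rc_21_1 lc_e_rc_37_2 lc_e_rc_38_0 lc_e_rc_39_2 lc_e_rc_13_3 lc_e_rc_21_1 lc_e_rc_35_2 lc_e_rc_13_1 lc_e_rc_21_1 lc_e_rc_4_1 lc_e_rc_13_1 lc_e_rc_13_3 lc_e_rc_13_1 lc_e_rc_13_1 lc_e_rc_13_1 lc_e_rc_13_1 lc_e_rc_38_2 lc_e_rc_28_3 lc_e_rc_39_2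 lc_e_rc_28_3 lc_e_rc_39_2 lc_e_rc_37_2 lc_e_rc_37_2 lc_e_rc_35_2 lc_e_Cert_tree lc_e_rc_39_2) (@D3.rec (fun _ => (Cert rels S Gen.e)) lc_e_rc_13_1 lc_e_rc_34_0 lc_e_rc_39_2 lc_e_rc_4_1 lc_e_rc_4_1 lc_e_Cert_tree lc_e_rc_4_1 lc_e_rc_37_0 lc_e_rc_39_2 lc_e_rc_37_2 lc_e_rc_34_0 lc_e_rc_39_2 lc_e_rc_35_2 lc_e_rc_39_2 lc_e_rc_39_2 lc_e_rc_35_2 lc_e_rc_4_1 lc_e_rc_39_2 lc_e_rc_35_2 lc_e_rc_35_2 lc_e_rc_4_1 lc_e_rc_4_1 lc_e_rc_36_2 lc_e_rc_28_3 lc_e_rc_39_2 lc_e_rc_4_1 lc_e_rc_28_1 lc_e_rc_4_1 lc_e_rc_35_2 lc_e_rc_37_2 lc_e_Cert_tree lc_e_rc_39_2 lc_e_rc_35_2 lc_e_rc_39_2 lc_e_rc_35_2 lc_e_rc_34_0 lc_e_rc_39_2 lc_e_rc_13_3 lc_e_rc_34_0 lc_e_rc_39_2 lc_e_rc_35_2 lc_e_rc_39_2 lc_e_rc_35_2 lc_e_rc_35_2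 lc_e_Cert_tree lc_e_rc_36_2 lc_e_Cert_tree lc_e_rc_34_0 lc_e_rc_39_2 lc_e_rc_39_2 lc_e_rc_37_2) (@D3.rec (fun _ => (Cert rels S Gen.e)) lc_e_rc_39_2 lc_e_rc_36_2 lc_e_rc_39_2 lc_e_rc_35_2 lc_e_rc_13_1 lc_e_rc_34_0 lc_e_rc_39_2 lc_e_rc_21_1 lc_e_rc_39_2 lc_e_rc_35_2 lc_e_rc_28_3 lc_e_rc_28_3 lc_e_rc_35_2 lc_e_rc_35_2 lc_e_rc_37_2 lc_e_rc_36_2 lc_e_rc_35_2 lc_e_rc_39_2 lc_e_rc_35_2 lc_e_rc_28_3 lc_e_rc_35_2 lc_e_rc_37_2 lc_e_rc_34_0 lc_e_rc_39_2 lc_e_rc_36_2 lc_e_rc_34_0 lc_e_rc_39_2 lc_e_rc_39_2 lc_e_rc_35_2 lc_e_rc_35_2 lc_e_rc_39_2 lc_e_rc_21_1 lc_e_rc_35_0 lc_e_rc_21_1 lc_e_Cert_tree lc_e_rc_39_2 lc_e_rc_36_4 lc_e_rc_36_2 lc_e_rc_34_0 lc_e_rc_39_2 lc_e_rc_39_2 lc_e_rc_13_3 lc_e_rc_35_2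 lc_e_rc_39_2 lc_e_rc_39_2 lc_e_rc_13_1 lc_e_rc_13_1 lc_e_rc_4_1 lc_e_rc_37_2 lc_e_rc_13_1 lc_e_rc_35_2) (@D3.rec (fun _ => (Cert rels S Gen.e)) lc_e_rc_13_1 lc_e_rc_39_2 lc_e_rc_13_1 lc_e_Cert_tree lc_e_rc_13_1 lc_e_rc_37_0 lc_e_rc_39_2 lc_e_rc_21_1 lc_e_rc_28_3 lc_e_rc_13_1 lc_e_rc_21_1 lc_e_rc_35_2 lc_e_rc_38_2 lc_e_rc_35_2 lc_e_rc_38_2 lc_e_Cert_tree lc_e_rc_39_2 lc_e_rc_4_3 lc_e_rc_39_2 lc_e_Cert_tree lc_e_rc_34_0 lc_e_rc_39_2 lc_e_rc_13_3 lc_e_rc_34_0 lc_e_rc_39_2 lc_e_rc_39_2 lc_e_rc_35_2 lc_e_rc_4_1 lc_e_Cert_tree lc_e_rc_4_1 lc_e_Cert_tree lc_e_rc_34_0 lc_e_rc_39_2 lc_e_rc_35_2 lc_e_rc_34_0 lc_e_rc_39_2 lc_e_rc_21_1 lc_e_rc_34_0 lc_e_rc_39_2 lc_e_rc_36_2 lc_e_rc_39_2 lc_e_rc_35_2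 lc_e_rc_13_1 lc_e_rc_34_0 lc_e_rc_39_2 lc_e_rc_39_2 lc_e_rc_35_2 lc_e_rc_35_2 lc_e_rc_4_1 lc_e_rc_39_2 lc_e_rc_35_2) (@D3.rec (fun _ => (Cert rels S Gen.e)) lc_e_rc_4_1 lc_e_rc_35_2 lc_e_rc_28_3 lc_e_rc_4_1 lc_e_rc_4_3 lc_e_rc_34_0 lc_e_rc_39_2 lc_e_rc_13_1 lc_e_rc_4_3 lc_e_rc_39_2 lc_e_rc_35_2 lc_e_rc_13_1 lc_e_rc_21_1 lc_e_rc_35_2 lc_e_rc_4_1 lc_e_rc_13_1 lc_e_rc_35_2 lc_e_rc_4_1 lc_e_rc_13_1 lc_e_Cert_tree lc_e_rc_38_2 lc_e_Cert_tree lc_e_rc_39_2 lc_e_rc_36_2 lc_e_Cert_tree lc_e_rc_39_2 lc_e_Cert_tree lc_e_rc_34_0 lc_e_rc_39_2 lc_e_rc_21_3 lc_e_rc_34_0 lc_e_rc_39_2 lc_e_rc_37_2 lc_e_rc_34_0 lc_e_rc_39_2 lc_e_rc_36_2 lc_e_rc_39_2 lc_e_rc_35_2 lc_e_rc_39_2 lc_e_rc_39_2 lc_e_rc_35_2 lc_e_rc_35_2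 lc_e_rc_36_2 lc_e_rc_35_2 lc_e_Cert_tree lc_e_rc_37_2 lc_e_Cert_tree lc_e_rc_34_0 lc_e_rc_39_2 lc_e_Cert_tree lc_e_rc_34_0) (@D3.rec (fun _ => (Cert rels S Gen.e)) lc_e_rc_39_2 lc_e_rc_36_2 lc_e_rc_39_2 lc_e_rc_35_2 lc_e_rc_34_0 lc_e_rc_39_2 lc_e_rc_36_2 lc_e_rc_39_2 lc_e_rc_35_2 lc_e_rc_37_2 lc_e_rc_34_0 lc_e_rc_39_2 lc_e_rc_21_1 lc_e_rc_39_2 lc_e_rc_35_2 lc_e_rc_37_2 lc_e_rc_39_2 lc_e_rc_35_2 lc_e_rc_39_2 lc_e_rc_39_2 lc_e_rc_35_2 lc_e_rc_21_1 lc_e_rc_21_1 lc_e_rc_35_2 lc_e_Cert_tree lc_e_rc_38_2 lc_e_rc_37_2 lc_e_rc_35_2 lc_e_rc_28_3 lc_e_rc_36_2 lc_e_rc_35_2 lc_e_rc_38_2 lc_e_rc_37_2 lc_e_rc_35_2 lc_e_rc_28_3 lc_e_rc_39_2 lc_e_rc_35_2 lc_e_rc_28_3 lc_e_rc_21_1 lc_e_rc_34_0 lc_e_rc_39_2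 lc_e_rc_39_2 lc_e_rc_35_2 lc_e_Cert_tree lc_e_rc_34_0 lc_e_rc_39_2 lc_e_rc_28_3 lc_e_rc_39_2 lc_e_rc_35_2 lc_e_rc_35_2 lc_e_rc_35_2) (@D3.rec (fun _ => (Cert rels S Gen.e)) lc_e_rc_4_1 lc_e_rc_13_1 lc_e_Cert_tree lc_e_rc_4_1 lc_e_rc_35_2 lc_e_rc_34_0 lc_e_rc_35_2 lc_e_rc_34_0 lc_e_rc_39_2 lc_e_rc_39_2 lc_e_rc_35_2 lc_e_rc_35_2 lc_e_rc_21_1 lc_e_rc_4_1 lc_e_rc_39_2 lc_e_rc_21_3 lc_e_rc_36_0 lc_e_rc_36_2 lc_e_rc_36_2 lc_e_rc_35_2 lc_e_rc_39_2 lc_e_rc_35_2 lc_e_rc_35_2 lc_e_rc_13_3 lc_e_rc_13_1 lc_e_Cert_tree lc_e_rc_13_1 lc_e_rc_38_2 lc_e_rc_39_2 lc_e_rc_37_2 lc_e_rc_35_0 lc_e_rc_35_0 lc_e_rc_4_1 lc_e_rc_4_1 lc_e_Cert_tree lc_e_rc_4_1 lc_e_rc_34_0 lc_e_rc_39_2 lc_e_rc_34_0 lc_e_rc_39_2 lc_e_rc_36_2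 lc_e_rc_39_2 lc_e_rc_35_2 lc_e_rc_35_2 lc_e_rc_39_2 lc_e_rc_35_2 lc_e_rc_4_1 lc_e_rc_35_2 lc_e_rc_28_3 lc_e_rc_4_1 lc_e_rc_38_2) (@D3.rec (fun _ => (Cert rels S Gen.e)) lc_e_Cert_tree lc_e_rc_39_2 lc_e_rc_38_2 lc_e_Cert_tree lc_e_rc_39_2 lc_e_rc_34_0 lc_e_rc_39_2 lc_e_rc_34_0 lc_e_rc_39_2 lc_e_rc_36_2 lc_e_rc_39_2 lc_e_rc_35_2 lc_e_rc_35_2 lc_e_Cert_tree lc_e_rc_37_2 lc_e_Cert_tree lc_e_rc_34_0 lc_e_rc_39_2 lc_e_Cert_tree lc_e_rc_34_0 lc_e_rc_39_2 lc_e_rc_36_2 lc_e_rc_39_2 lc_e_rc_35_2 lc_e_rc_4_3 lc_e_rc_36_2 lc_e_rc_39_2 lc_e_rc_35_2 lc_e_rc_37_2 lc_e_rc_21_1 lc_e_rc_39_2 lc_e_rc_35_2 lc_e_rc_37_2 lc_e_rc_39_2 lc_e_rc_35_2 lc_e_rc_36_0 lc_e_rc_35_2 lc_e_rc_38_2 lc_e_rc_37_2 lc_e_rc_36_2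 lc_e_rc_28_3 lc_e_rc_37_2 lc_e_rc_36_2 lc_e_rc_35_2 lc_e_rc_4_1 lc_e_rc_37_2 lc_e_rc_35_2 lc_e_rc_28_3 lc_e_rc_39_2 lc_e_rc_35_2 lc_e_rc_36_4) (@D3.rec (fun _ => (Cert rels S Gen.e)) lc_e_rc_21_1 lc_e_rc_35_2 lc_e_rc_4_1 lc_e_rc_39_2 lc_e_rc_39_2 lc_e_rc_39_2 lc_e_rc_39_2 lc_e_rc_28_3 lc_e_rc_39_2 lc_e_rc_4_1 lc_e_Cert_tree lc_e_rc_4_3 lc_e_rc_38_2 lc_e_rc_13_1 lc_e_rc_39_2 lc_e_rc_4_3 lc_e_rc_37_2 lc_e_Cert_tree lc_e_rc_13_1 lc_e_Cert_tree lc_e_rc_34_0 lc_e_rc_39_2 lc_e_rc_38_2 lc_e_rc_38_2 lc_e_rc_13_1 lc_e_rc_37_2 lc_e_rc_13_1 lc_e_rc_38_2 lc_e_Cert_tree lc_e_rc_39_2 lc_e_rc_21_1 lc_e_Cert_tree lc_e_rc_39_2 lc_e_rc_34_0 lc_e_rc_39_2 lc_e_rc_34_0 lc_e_rc_39_2 lc_e_rc_36_2 lc_e_rc_39_2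 lc_e_rc_35_2 lc_e_rc_35_2 lc_e_Cert_tree lc_e_rc_4_1 lc_e_Cert_tree lc_e_rc_34_0 lc_e_rc_39_2 lc_e_Cert_tree lc_e_rc_34_0 lc_e_rc_39_2 lc_e_rc_36_2 lc_e_rc_39_2) (@D3.rec (fun _ => (Cert rels S Gen.e)) lc_e_rc_35_2 lc_e_rc_34_0 lc_e_rc_39_2 lc_e_rc_36_2 lc_e_rc_39_2 lc_e_rc_35_2 lc_e_rc_4_1 lc_e_rc_21_1 lc_e_rc_39_2 lc_e_rc_35_2 lc_e_rc_39_2 lc_e_rc_35_2 lc_e_rc_35_2 lc_e_rc_35_2 lc_e_rc_28_3 lc_e_rc_37_2 lc_e_rc_4_1 lc_e_rc_35_2 lc_e_rc_35_2 lc_e_rc_28_3 lc_e_rc_35_0 lc_e_Cert_tree lc_e_rc_34_0 lc_e_rc_39_2 lc_e_rc_34_0 lc_e_rc_39_2 lc_e_rc_39_2 lc_e_Cert_tree lc_e_rc_34_0 lc_e_rc_39_2 lc_e_rc_28_3 lc_e_rc_39_2 lc_e_rc_4_1 lc_e_rc_37_2 lc_e_Cert_tree lc_e_rc_39_2 lc_e_Cert_tree lc_e_rc_34_0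 lc_e_rc_39_2 lc_e_Cert_tree lc_e_rc_37_2 lc_e_Cert_tree lc_e_rc_34_0 lc_e_rc_39_2 lc_e_Cert_tree lc_e_rc_34_0 lc_e_rc_39_2 lc_e_rc_36_2 lc_e_rc_39_2 lc_e_rc_35_2 lc_e_rc_38_2) (@D3.rec (fun _ => (Cert rels S Gen.e)) lc_e_rc_34_0 lc_e_rc_39_2 lc_e_rc_36_2 lc_e_rc_39_2 lc_e_rc_35_2 lc_e_rc_39_2 lc_e_rc_21_1 lc_e_rc_39_2 lc_e_rc_35_2 lc_e_rc_37_2 lc_e_rc_39_2 lc_e_rc_35_2 lc_e_rc_35_2 lc_e_rc_35_2 lc_e_rc_36_2 lc_e_rc_35_2 lc_e_rc_35_2 lc_e_rc_37_2 lc_e_rc_36_2 lc_e_rc_28_3 lc_e_Cert_tree lc_e_rc_34_0 lc_e_rc_39_2 lc_e_Cert_tree lc_e_rc_34_0 lc_e_rc_39_2 lc_e_rc_36_2 lc_e_rc_39_2 lc_e_rc_35_2 lc_e_Cert_tree lc_e_rc_34_0 lc_e_rc_39_2 lc_e_rc_28_3 lc_e_rc_21_1 lc_e_rc_39_2 lc_e_rc_35_2 lc_e_rc_37_2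 lc_e_rc_39_2 lc_e_rc_35_2 lc_e_rc_38_2 lc_e_rc_34_0 lc_e_rc_39_2 lc_e_rc_36_2 lc_e_rc_39_2 lc_e_rc_35_2 lc_e_rc_37_2 lc_e_rc_36_2 lc_e_rc_35_2 lc_e_rc_39_2 lc_e_rc_13_1 lc_e_rc_39_2) (@D3.rec (fun _ => (Cert rels S Gen.e)) lc_e_rc_35_2 lc_e_rc_21_1 lc_e_rc_21_1 lc_e_rc_35_2 lc_e_Cert_tree lc_e_rc_38_2 lc_e_rc_39_2 lc_e_rc_35_2 lc_e_rc_28_3 lc_e_rc_35_2 lc_e_rc_13_1 lc_e_rc_13_1 lc_e_rc_35_2 lc_e_rc_13_3 lc_e_rc_21_1 lc_e_rc_21_1 lc_e_rc_35_2 lc_e_Cert_tree lc_e_rc_34_0 lc_e_rc_38_2 lc_e_rc_35_2 lc_e_rc_21_3 lc_e_rc_21_1 lc_e_rc_13_1 lc_e_rc_13_1 lc_e_rc_35_2 lc_e_rc_28_3 lc_e_rc_38_2 lc_e_rc_35_2 lc_e_Cert_tree lc_e_rc_21_1 lc_e_rc_35_2 lc_e_rc_35_0 lc_e_rc_35_0 lc_e_rc_35_0 lc_e_rc_37_2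 lc_e_rc_34_0 lc_e_rc_39_2 lc_e_rc_39_2 lc_e_rc_35_2 lc_e_rc_35_2 lc_e_rc_34_0 lc_e_rc_35_2 lc_e_rc_28_3 lc_e_rc_39_2 lc_e_rc_35_2 lc_e_rc_35_2 lc_e_rc_34_0 lc_e_rc_39_2 lc_e_rc_13_1 lc_e_rc_39_2) (@D3.rec (fun _ => (Cert rels S Gen.e)) lc_e_rc_37_0 lc_e_rc_35_2 lc_e_rc_28_3 lc_e_rc_35_2 lc_e_Cert_tree lc_e_rc_28_3 lc_e_rc_4_1 lc_e_rc_13_1 lc_e_Cert_tree lc_e_rc_4_1 lc_e_rc_35_0 lc_e_rc_34_0 lc_e_rc_35_0 lc_e_rc_39_2 lc_e_rc_35_2 lc_e_rc_37_2 lc_e_rc_36_4 lc_e_rc_4_1 lc_e_rc_4_1 lc_e_rc_37_2 lc_e_rc_39_2 lc_e_rc_28_3 lc_e_rc_37_2 lc_e_rc_39_2 lc_e_rc_39_0 lc_e_rc_35_0 lc_e_rc_34_0 lc_e_rc_34_0 lc_e_rc_35_2 lc_e_rc_37_2 lc_e_rc_4_1 lc_e_rc_28_3 lc_e_Cert_tree lc_e_rc_34_0 lc_e_rc_39_2 lc_e_rc_39_2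 lc_e_rc_35_2 lc_e_rc_4_1 lc_e_rc_4_1 lc_e_rc_38_0 lc_e_rc_34_0 lc_e_rc_39_2 lc_e_rc_28_3 lc_e_rc_39_2 lc_e_rc_4_1 lc_e_rc_39_2 lc_e_rc_35_2 lc_e_rc_35_2 lc_e_Cert_tree lc_e_rc_35_2 lc_e_Cert_tree) (@D3.rec (fun _ => (Cert rels S Gen.e)) lc_e_rc_39_2 lc_e_rc_35_2 lc_e_Cert_tree lc_e_rc_34_0 lc_e_rc_21_1 lc_e_rc_4_1 lc_e_rc_38_2 lc_e_rc_34_0 lc_e_rc_36_2 lc_e_rc_39_2 lc_e_rc_35_2 lc_e_rc_28_3 lc_e_rc_39_2 lc_e_rc_35_2 lc_e_rc_35_2 lc_e_rc_36_2 lc_e_rc_4_3 lc_e_rc_35_2 lc_e_rc_34_0 lc_e_rc_39_2 lc_e_rc_13_1 lc_e_rc_39_2 lc_e_rc_35_2 lc_e_rc_36_2 lc_e_rc_35_2 lc_e_Cert_tree lc_e_rc_36_2 lc_e_rc_39_2 lc_e_rc_21_1 lc_e_rc_39_2 lc_e_rc_34_0 lc_e_rc_39_2 lc_e_rc_35_2 lc_e_rc_21_1 lc_e_rc_21_1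 lc_e_Cert_tree lc_e_rc_13_1 lc_e_rc_28_3 lc_e_rc_35_2 lc_e_rc_34_0 lc_e_rc_39_2 lc_e_rc_36_2 lc_e_rc_39_2 lc_e_rc_35_2 lc_e_rc_35_2 lc_e_rc_4_1 lc_e_rc_4_1 lc_e_rc_35_2 lc_e_rc_34_0 lc_e_rc_39_2 lc_e_rc_35_2) (@D3.rec (fun _ => (Cert rels S Gen.e)) lc_e_rc_35_2 lc_e_rc_36_2 lc_e_rc_35_2 lc_e_Cert_tree lc_e_rc_37_2 lc_e_Cert_tree lc_e_rc_34_0 lc_e_rc_39_2 lc_e_Cert_tree lc_e_rc_34_0 lc_e_rc_39_2 lc_e_rc_36_2 lc_e_rc_39_2 lc_e_rc_35_2 lc_e_rc_13_1 lc_e_rc_4_3 lc_e_rc_35_2 lc_e_rc_34_0 lc_e_rc_39_2 lc_e_rc_21_1 lc_e_rc_39_2 lc_e_rc_35_2 lc_e_rc_37_2 lc_e_rc_39_2 lc_e_rc_35_2 lc_e_rc_39_2 lc_e_rc_35_2 lc_e_rc_21_1 lc_e_rc_21_1 lc_e_rc_35_2 lc_e_rc_36_2 lc_e_rc_38_2 lc_e_rc_37_2 lc_e_rc_35_2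 lc_e_rc_37_2 lc_e_rc_39_2 lc_e_rc_37_2 lc_e_rc_37_2 lc_e_rc_28_3 lc_e_rc_39_2 lc_e_rc_13_1 lc_e_rc_13_1 lc_e_rc_37_2 lc_e_rc_37_2 lc_e_rc_4_1 lc_e_rc_4_1 lc_e_rc_4_1 lc_e_rc_13_1 lc_e_rc_13_3 lc_e_rc_4_1 lc_e_rc_13_3) (@D3.rec (fun _ => (Cert rels S Gen.e)) lc_e_rc_34_0 lc_e_Cert_tree lc_e_rc_39_2 lc_e_Cert_tree lc_e_rc_39_2 lc_e_rc_34_0 lc_e_rc_39_2 lc_e_rc_35_0 lc_e_rc_4_1 lc_e_rc_34_0 lc_e_rc_39_2 lc_e_Cert_tree lc_e_rc_34_0 lc_e_rc_39_2 lc_e_rc_39_2 lc_e_rc_35_2 lc_e_rc_38_2 lc_e_rc_35_0 lc_e_rc_4_1 lc_e_rc_37_2 lc_e_rc_35_0 lc_e_rc_21_1 lc_e_rc_39_2 lc_e_rc_13_1 lc_e_rc_4_3 lc_e_rc_21_1 lc_e_rc_13_1 lc_e_rc_35_2 lc_e_rc_38_2 lc_e_rc_35_0 lc_e_rc_4_1 lc_e_rc_39_2 lc_e_rc_13_1 lc_e_Cert_tree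 lc_e_rc_56_53 lc_e_rc_13_3 lc_e_rc_34_0 lc_e_rc_39_2 lc_e_rc_35_2 lc_e_rc_4_1 lc_e_rc_4_1 lc_e_rc_36_2 lc_e_rc_4_1 lc_e_rc_36_2 lc_e_rc_39_2 lc_e_Cert_tree lc_e_rc_36_2 lc_e_rc_34_0 lc_e_rc_39_2 lc_e_rc_35_0 lc_e_rc_4_1) (@D3.rec (fun _ => (Cert rels S Gen.e)) lc_e_Cert_tree lc_e_rc_34_0 lc_e_rc_39_2 lc_e_rc_13_1 lc_e_rc_39_2 lc_e_rc_35_0 lc_e_rc_37_2 lc_e_rc_28_5 lc_e_Cert_tree lc_e_rc_37_2 lc_e_Cert_tree lc_e_rc_34_0 lc_e_rc_39_2 lc_e_Cert_tree lc_e_rc_34_0 lc_e_rc_39_2 lc_e_rc_36_2 lc_e_rc_39_2 lc_e_rc_35_2 lc_e_rc_38_2 lc_e_rc_34_0 lc_e_rc_39_2 lc_e_rc_36_2 lc_e_rc_39_2 lc_e_rc_35_2 lc_e_rc_35_0 lc_e_rc_21_1 lc_e_rc_39_2 lc_e_rc_35_2 lc_e_rc_39_2 lc_e_rc_35_2 lc_e_rc_4_3 lc_e_rc_35_2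 lc_e_Cert_tree lc_e_rc_36_2 lc_e_rc_38_2 lc_e_rc_21_3 lc_e_rc_4_1 lc_e_rc_34_0 lc_e_rc_39_2 lc_e_rc_39_2 lc_e_rc_35_2 lc_e_rc_4_3 lc_e_rc_34_0 lc_e_rc_39_2 lc_e_rc_28_3 lc_e_rc_39_2 lc_e_rc_35_2 lc_e_rc_35_2 lc_e_rc_38_2 lc_e_rc_13_1) (@D3.rec (fun _ => (Cert rels S Gen.e)) lc_e_rc_21_1 lc_e_rc_39_2 lc_e_rc_13_1 lc_e_Cert_tree lc_e_rc_4_1 lc_e_Cert_tree lc_e_rc_34_0 lc_e_Cert_tree lc_e_rc_34_0 lc_e_rc_39_2 lc_e_Cert_tree lc_e_rc_56_32 lc_e_Cert_tree lc_e_rc_34_0 lc_e_rc_39_2 lc_e_Cert_tree lc_e_rc_34_0 lc_e_rc_39_2 lc_e_rc_36_2 lc_e_rc_39_2 lc_e_rc_35_2 lc_e_rc_55_76 lc_e_rc_21_1 lc_e_rc_35_2 lc_e_rc_34_0 lc_e_rc_39_2 lc_e_rc_21_1 lc_e_rc_39_2 lc_e_rc_35_2 lc_e_rc_37_2 lc_e_rc_39_2 lc_e_rc_35_2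 lc_e_rc_39_2 lc_e_rc_35_2 lc_e_rc_35_2 lc_e_rc_4_3 lc_e_rc_35_2 lc_e_rc_37_2 lc_e_rc_36_2 lc_e_Cert_tree lc_e_rc_34_0 lc_e_rc_39_2 lc_e_Cert_tree lc_e_rc_34_0 lc_e_rc_39_2 lc_e_rc_36_2 lc_e_rc_39_2 lc_e_rc_35_2 lc_e_Cert_tree lc_e_rc_34_0 lc_e_rc_39_2) (@D3.rec (fun _ => (Cert rels S Gen.e)) lc_e_rc_28_3 lc_e_rc_21_1 lc_e_rc_39_2 lc_e_rc_35_2 lc_e_rc_37_2 lc_e_rc_39_2 lc_e_rc_35_2 lc_e_Cert_tree lc_e_rc_34_0 lc_e_rc_39_2 lc_e_rc_36_2 lc_e_rc_39_2 lc_e_rc_35_2 lc_e_rc_36_2 lc_e_rc_35_2 lc_e_rc_34_0 lc_e_rc_39_2 lc_e_rc_13_1 lc_e_rc_39_2 lc_e_rc_35_2 lc_e_rc_21_1 lc_e_rc_21_1 lc_e_rc_35_2 lc_e_Cert_tree lc_e_rc_38_2 lc_e_rc_39_2 lc_e_rc_35_2 lc_e_rc_39_2 lc_e_rc_35_2 lc_e_rc_37_2 lc_e_rc_39_2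 lc_e_rc_35_2 lc_e_rc_13_3 lc_e_rc_21_1 lc_e_rc_21_1 lc_e_rc_35_2 lc_e_rc_28_3 lc_e_rc_34_0 lc_e_rc_38_2 lc_e_rc_35_2 lc_e_rc_36_2 lc_e_rc_4_3 lc_e_rc_35_2 lc_e_rc_35_0 lc_e_rc_28_3 lc_e_rc_39_2 lc_e_rc_35_2 lc_e_rc_35_2 lc_e_rc_21_1 lc_e_rc_13_1 lc_e_rc_39_2) (@D3.rec (fun _ => (Cert rels S Gen.e)) lc_e_rc_35_2 lc_e_rc_35_2 lc_e_rc_28_3 lc_e_rc_35_2 lc_e_Cert_tree lc_e_rc_21_1 lc_e_rc_13_1 lc_e_Cert_tree lc_e_rc_21_1 lc_e_rc_35_0 lc_e_rc_34_0 lc_e_rc_13_3 lc_e_rc_35_2 lc_e_rc_35_2 lc_e_rc_35_2 lc_e_rc_35_2 lc_e_rc_4_1 lc_e_rc_4_3 lc_e_rc_39_2 lc_e_rc_39_2 lc_e_rc_35_2 lc_e_rc_13_1 lc_e_rc_21_1 lc_e_rc_39_2 lc_e_rc_35_2 lc_e_rc_35_2 lc_e_rc_39_2 lc_e_rc_35_2 lc_e_rc_35_2 lc_e_Cert_tree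 lc_e_rc_39_2 lc_e_rc_39_2 lc_e_rc_21_1 lc_e_rc_35_2 lc_e_rc_35_2 lc_e_rc_35_2 lc_e_Cert_tree lc_e_rc_4_3 lc_e_rc_35_2 lc_e_rc_39_2 lc_e_rc_39_2 lc_e_rc_35_2 lc_e_rc_39_2 lc_e_rc_34_1 lc_e_rc_39_2 lc_e_rc_39_2 lc_e_rc_35_2 lc_e_rc_21_1 lc_e_rc_35_2 lc_e_Cert_tree lc_e_rc_37_2) (@D3.rec (fun _ => (Cert rels S Gen.e)) lc_e_rc_35_2 lc_e_rc_35_2 lc_e_rc_35_2 lc_e_rc_13_1 lc_e_rc_35_0 lc_e_rc_4_1 lc_e_Cert_tree lc_e_rc_34_0 lc_e_rc_4_1 lc_e_Cert_tree lc_e_rc_36_2 lc_e_rc_28_1 lc_e_rc_35_2 lc_e_Cert_tree lc_e_rc_4_1 lc_e_Cert_tree lc_e_rc_34_0 lc_e_rc_39_2 lc_e_rc_28_3 lc_e_rc_39_2 lc_e_rc_35_2 lc_e_rc_35_2 lc_e_rc_37_2 lc_e_rc_37_2 lc_e_rc_35_2 lc_e_rc_13_1 lc_e_rc_21_1 lc_e_rc_4_1 lc_e_rc_13_1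 lc_e_Cert_tree lc_e_Cert_tree lc_e_rc_34_0 lc_e_rc_39_2 lc_e_rc_39_2 lc_e_rc_35_2 lc_e_rc_13_1 lc_e_rc_35_2 lc_e_rc_35_2 lc_e_rc_34_0 lc_e_rc_39_2 lc_e_rc_34_0 lc_e_rc_39_2 lc_e_rc_36_2 lc_e_rc_39_2 lc_e_rc_35_2 lc_e_rc_35_2 lc_e_rc_21_1 lc_e_rc_39_2 lc_e_rc_35_2 lc_e_rc_39_2 lc_e_rc_35_2) (@D3.rec (fun _ => (Cert rels S Gen.e)) lc_e_rc_13_1 lc_e_rc_39_2 lc_e_rc_35_2 lc_e_rc_35_2 lc_e_Cert_tree lc_e_rc_28_3 lc_e_rc_39_2 lc_e_rc_35_2 lc_e_rc_35_2 lc_e_Cert_tree lc_e_rc_4_1 lc_e_rc_35_0 lc_e_rc_34_0 lc_e_Cert_tree lc_e_rc_34_0 lc_e_rc_39_2 lc_e_rc_39_2 lc_e_rc_39_2 lc_e_rc_13_1 lc_e_rc_21_1 lc_e_Cert_tree lc_e_rc_4_1 lc_e_rc_34_0 lc_e_rc_39_2 lc_e_rc_34_0 lc_e_rc_39_2 lc_e_rc_39_2 lc_e_rc_35_2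 lc_e_rc_35_2 lc_e_rc_35_2 lc_e_rc_39_2 lc_e_rc_13_1 lc_e_Cert_tree lc_e_rc_36_2 lc_e_rc_35_2 lc_e_rc_35_2 lc_e_rc_35_2 lc_e_Cert_tree lc_e_rc_4_1 lc_e_rc_35_0 lc_e_rc_34_0 lc_e_Cert_tree lc_e_rc_34_0 lc_e_rc_39_2 lc_e_rc_39_2 lc_e_rc_35_2 lc_e_rc_13_1 lc_e_rc_35_2 lc_e_rc_39_2 lc_e_rc_35_2 lc_e_rc_35_2) (@D3.rec (fun _ => (Cert rels S Gen.e)) lc_e_Cert_tree lc_e_Cert_tree lc_e_rc_34_0 lc_e_rc_39_2 lc_e_Cert_tree lc_e_rc_34_0 lc_e_rc_39_2 lc_e_rc_39_2 lc_e_rc_35_2 lc_e_Cert_tree lc_e_rc_34_0 lc_e_rc_39_2 lc_e_rc_28_3 lc_e_rc_21_1 lc_e_rc_39_2 lc_e_rc_35_2 lc_e_rc_37_2 lc_e_rc_39_2 lc_e_rc_35_2 lc_e_rc_21_1 lc_e_rc_35_2 lc_e_rc_39_2 lc_e_rc_13_1 lc_e_rc_39_2 lc_e_rc_35_2 lc_e_rc_21_1 lc_e_rc_21_1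 lc_e_rc_35_2 lc_e_Cert_tree lc_e_rc_38_2 lc_e_rc_39_2 lc_e_rc_35_2 lc_e_rc_39_2 lc_e_rc_35_2 lc_e_rc_39_2 lc_e_rc_35_2 lc_e_Cert_tree lc_e_rc_21_1 lc_e_rc_35_2 lc_e_Cert_tree lc_e_rc_34_0 lc_e_rc_38_2 lc_e_rc_35_2 lc_e_rc_38_2 lc_e_rc_37_2 lc_e_rc_37_2 lc_e_rc_39_2 lc_e_rc_35_2 lc_e_rc_4_3 lc_e_rc_13_1 lc_e_rc_39_2) (@D3.rec (fun _ => (Cert rels S Gen.e)) lc_e_rc_35_2 lc_e_rc_35_2 lc_e_rc_28_3 lc_e_rc_35_2 lc_e_Cert_tree lc_e_rc_13_1 lc_e_rc_37_2 lc_e_rc_4_1 lc_e_Cert_tree lc_e_rc_34_0 lc_e_rc_28_3 lc_e_rc_34_1 lc_e_rc_34_0 lc_e_rc_13_1 lc_e_rc_38_2 lc_e_rc_39_2 lc_e_rc_35_2 lc_e_rc_39_2 lc_e_rc_35_2 lc_e_rc_39_2 lc_e_rc_35_2 lc_e_rc_4_1 lc_e_rc_35_2 lc_e_rc_35_2 lc_e_rc_34_0 lc_e_Cert_tree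 lc_e_rc_37_2 lc_e_rc_34_0 lc_e_rc_39_2 lc_e_rc_39_2 lc_e_rc_35_2 lc_e_rc_4_3 lc_e_rc_34_0 lc_e_rc_39_2 lc_e_Cert_tree lc_e_rc_39_2 lc_e_rc_34_0 lc_e_rc_39_2 lc_e_rc_36_2 lc_e_rc_39_2 lc_e_rc_35_2 lc_e_rc_39_2 lc_e_rc_35_2 lc_e_rc_39_2 lc_e_rc_35_2 lc_e_Cert_tree lc_e_rc_34_0 lc_e_rc_39_2 lc_e_Cert_tree lc_e_rc_34_0 lc_e_rc_39_2) (@D3.rec (fun _ => (Cert rels S Gen.e)) lc_e_rc_36_2 lc_e_rc_39_2 lc_e_rc_35_2 lc_e_rc_34_0 lc_e_rc_39_2 lc_e_rc_28_3 lc_e_rc_21_1 lc_e_rc_39_2 lc_e_rc_35_2 lc_e_rc_39_2 lc_e_rc_35_2 lc_e_rc_34_0 lc_e_rc_39_2 lc_e_rc_36_2 lc_e_rc_39_2 lc_e_rc_35_2 lc_e_rc_37_2 lc_e_rc_36_2 lc_e_rc_35_2 lc_e_rc_13_1 lc_e_rc_39_2 lc_e_rc_35_2 lc_e_rc_21_1 lc_e_rc_35_2 lc_e_rc_35_2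 lc_e_rc_35_2 lc_e_rc_39_2 lc_e_rc_37_2 lc_e_rc_4_3 lc_e_rc_39_2 lc_e_rc_28_3 lc_e_rc_39_2 lc_e_rc_13_1 lc_e_rc_13_1 lc_e_rc_39_2 lc_e_rc_28_3 lc_e_rc_4_1 lc_e_rc_4_1 lc_e_rc_4_1 lc_e_Cert_tree lc_e_rc_34_0 lc_e_rc_39_2 lc_e_rc_34_0 lc_e_rc_39_2 lc_e_rc_39_2 lc_e_rc_35_2 lc_e_rc_4_3 lc_e_Cert_tree lc_e_rc_34_0 lc_e_rc_39_2 lc_e_Cert_tree) (@D3.rec (fun _ => (Cert rels S Gen.e)) lc_e_rc_34_0 lc_e_rc_39_2 lc_e_rc_39_2 lc_e_rc_35_2 lc_e_Cert_tree lc_e_rc_34_0 lc_e_rc_39_2 lc_e_rc_28_3 lc_e_rc_39_2 lc_e_rc_35_2 lc_e_rc_35_2 lc_e_rc_38_2 lc_e_rc_35_0 lc_e_rc_21_1 lc_e_rc_39_2 lc_e_rc_34_1 lc_e_rc_4_1 lc_e_rc_35_2 lc_e_rc_39_2 lc_e_rc_39_2 lc_e_rc_4_3 lc_e_rc_13_1 lc_e_rc_39_2 lc_e_rc_35_2 lc_e_rc_28_3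 lc_e_rc_35_2 lc_e_Cert_tree lc_e_rc_34_0 lc_e_rc_39_2 lc_e_rc_39_2 lc_e_rc_35_2 lc_e_Cert_tree lc_e_rc_34_0 lc_e_rc_39_2 lc_e_Cert_tree lc_e_rc_34_0 lc_e_rc_39_2 lc_e_rc_39_2 lc_e_rc_35_2 lc_e_Cert_tree lc_e_rc_34_0 lc_e_rc_39_2 lc_e_rc_28_3 lc_e_rc_21_1 lc_e_rc_39_2 lc_e_rc_35_2 lc_e_rc_37_2 lc_e_rc_39_2 lc_e_rc_35_2 lc_e_rc_38_2 lc_e_rc_34_0) (@D3.rec (fun _ => (Cert rels S Gen.e)) lc_e_rc_39_2 lc_e_rc_39_2 lc_e_rc_35_2 lc_e_rc_35_2 lc_e_rc_39_2 lc_e_rc_13_1 lc_e_rc_39_2 lc_e_rc_35_2 lc_e_rc_21_1 lc_e_rc_21_1 lc_e_rc_35_2 lc_e_rc_38_2 lc_e_rc_39_2 lc_e_rc_35_2 lc_e_rc_35_2 lc_e_rc_35_2 lc_e_rc_35_2 lc_e_rc_37_2 lc_e_rc_36_2 lc_e_rc_13_3 lc_e_rc_38_2 lc_e_rc_37_2 lc_e_rc_34_0 lc_e_rc_39_2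 lc_e_rc_36_2 lc_e_rc_39_2 lc_e_rc_35_2 lc_e_rc_34_0 lc_e_rc_39_2 lc_e_rc_28_3 lc_e_rc_36_2 lc_e_rc_39_2 lc_e_rc_35_2 lc_e_rc_37_2 lc_e_rc_36_2 lc_e_rc_35_2 lc_e_rc_34_0 lc_e_rc_39_2 lc_e_rc_13_1 lc_e_rc_13_1 lc_e_rc_39_2 lc_e_rc_35_2 lc_e_rc_28_3 lc_e_rc_35_2 lc_e_rc_28_3 lc_e_rc_21_1 lc_e_rc_21_1 lc_e_rc_35_2 lc_e_Cert_tree lc_e_rc_38_2 lc_e_rc_39_2)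
def ce_e_13 : D2 → D3 → (Cert rels S Gen.e) := @D2.rec (fun _ => D3 → (Cert rels S Gen.e)) (@D3.rec (fun _ => (Cert rels S Gen.e)) lc_e_rc_35_2 lc_e_rc_28_3 lc_e_rc_34_0 lc_e_rc_39_2 lc_e_rc_13_1 lc_e_rc_39_2 lc_e_rc_35_2 lc_e_rc_36_2 lc_e_rc_35_2 lc_e_Cert_tree lc_e_rc_37_2 lc_e_rc_37_2 lc_e_rc_35_2 lc_e_rc_4_1 lc_e_rc_39_2 lc_e_rc_35_2 lc_e_rc_13_1 lc_e_rc_13_1 lc_e_rc_35_2 lc_e_rc_4_1 lc_e_rc_21_1 lc_e_rc_21_1 lc_e_rc_35_2 lc_e_Cert_tree lc_e_rc_34_0 lc_e_rc_39_2 lc_e_rc_35_2 lc_e_rc_35_2 lc_e_rc_13_1 lc_e_rc_13_1 lc_e_rc_13_1 lc_e_rc_4_1 lc_e_rc_21_1 lc_e_rc_35_2 lc_e_rc_4_3 lc_e_rc_34_0 lc_e_rc_35_2 lc_e_rc_37_2 lc_e_rc_28_3 lc_e_rc_39_2 lc_e_rc_39_2 lc_e_rc_35_2 lc_e_rc_34_0 lc_e_rc_34_0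 lc_e_rc_36_2 lc_e_rc_35_2 lc_e_rc_21_1 lc_e_rc_35_2 lc_e_rc_39_2 lc_e_Cert_tree lc_e_rc_34_0) (@D3.rec (fun _ => (Cert rels S Gen.e)) lc_e_rc_39_2 lc_e_rc_39_2 lc_e_rc_35_2 lc_e_rc_13_1 lc_e_rc_34_0 lc_e_rc_39_2 lc_e_rc_28_3 lc_e_rc_39_2 lc_e_rc_35_2 lc_e_rc_35_2 lc_e_rc_35_2 lc_e_rc_35_2 lc_e_rc_28_3 lc_e_rc_39_2 lc_e_rc_37_2 lc_e_rc_28_3 lc_e_rc_39_2 lc_e_rc_35_2 lc_e_rc_28_3 lc_e_rc_4_1 lc_e_rc_39_2 lc_e_rc_36_2 lc_e_rc_36_2 lc_e_rc_34_0 lc_e_rc_28_3 lc_e_rc_38_2 lc_e_rc_38_2 lc_e_rc_34_0 lc_e_rc_36_2 lc_e_rc_36_4 lc_e_rc_55_31 lc_e_rc_4_1 lc_e_rc_38_0 lc_e_rc_38_0 lc_e_rc_34_0 lc_e_rc_34_0 lc_e_rc_36_2 lc_e_rc_37_2 lc_e_rc_4_1 lc_e_rc_35_2 lc_e_rc_13_3 lc_e_rc_34_0 lc_e_rc_39_2 lc_e_rc_35_2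 lc_e_rc_39_2 lc_e_rc_35_2 lc_e_rc_38_2 lc_e_rc_37_2 lc_e_rc_37_2 lc_e_rc_34_0 lc_e_rc_36_2) (@D3.rec (fun _ => (Cert rels S Gen.e)) lc_e_rc_37_2 lc_e_rc_38_2 lc_e_rc_35_2 lc_e_Cert_tree lc_e_Cert_tree lc_e_rc_34_0 lc_e_rc_37_0 lc_e_rc_37_0 lc_e_rc_34_0 lc_e_rc_38_2 lc_e_rc_37_2 lc_e_rc_28_3 lc_e_rc_35_2 lc_e_Cert_tree lc_e_rc_39_2 lc_e_rc_13_1 lc_e_Cert_tree lc_e_rc_4_1 lc_e_rc_4_1 lc_e_rc_34_0 lc_e_rc_39_2 lc_e_rc_39_2 lc_e_rc_35_2 lc_e_rc_34_0 lc_e_rc_34_0 lc_e_rc_36_2 lc_e_rc_4_1 lc_e_rc_13_1 lc_e_rc_13_1 lc_e_rc_35_2 lc_e_rc_28_3 lc_e_rc_35_2 lc_e_rc_28_3 lc_e_rc_39_2 lc_e_rc_35_2 lc_e_rc_21_1 lc_e_rc_35_2 lc_e_Cert_tree lc_e_rc_34_0 lc_e_rc_35_2 lc_e_rc_35_2 lc_e_rc_21_1 lc_e_rc_36_2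 lc_e_rc_13_1 lc_e_rc_35_2 lc_e_rc_35_2 lc_e_rc_36_2 lc_e_rc_35_2 lc_e_rc_13_1 lc_e_rc_13_1 lc_e_rc_35_0) (@D3.rec (fun _ => (Cert rels S Gen.e)) lc_e_rc_39_2 lc_e_rc_35_2 lc_e_Cert_tree lc_e_rc_34_0 lc_e_rc_36_2 lc_e_rc_4_1 lc_e_rc_4_1 lc_e_rc_13_1 lc_e_rc_13_1 lc_e_rc_13_3 lc_e_rc_4_1 lc_e_rc_4_3 lc_e_rc_39_2 lc_e_rc_35_2 lc_e_rc_21_1 lc_e_rc_35_2 lc_e_rc_36_0 lc_e_rc_35_2 lc_e_rc_28_5 lc_e_rc_36_2 lc_e_rc_21_1 lc_e_rc_21_1 lc_e_rc_13_1 lc_e_rc_36_0 lc_e_rc_39_2 lc_e_rc_35_2 lc_e_rc_28_3 lc_e_rc_39_2 lc_e_rc_39_2 lc_e_rc_39_2 lc_e_rc_35_2 lc_e_rc_21_1 lc_e_rc_36_2 lc_e_rc_4_3 lc_e_rc_4_3 lc_e_rc_28_1 lc_e_rc_36_2 lc_e_rc_36_2 lc_e_rc_35_2 lc_e_rc_39_2 lc_e_rc_35_2 lc_e_rc_35_2 lc_e_Cert_tree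 lc_e_rc_56_46 lc_e_rc_34_0 lc_e_rc_13_1 lc_e_rc_4_1 lc_e_rc_36_4 lc_e_rc_4_1 lc_e_rc_13_1 lc_e_rc_38_2) (@D3.rec (fun _ => (Cert rels S Gen.e)) lc_e_rc_4_1 lc_e_rc_37_2 lc_e_rc_4_1 lc_e_rc_34_0 lc_e_rc_39_2 lc_e_rc_34_0 lc_e_rc_39_2 lc_e_rc_34_0 lc_e_rc_39_2 lc_e_rc_39_2 lc_e_rc_35_2 lc_e_rc_39_2 lc_e_rc_35_2 lc_e_rc_39_2 lc_e_rc_28_5 lc_e_rc_39_2 lc_e_rc_35_2 lc_e_rc_39_2 lc_e_rc_39_2 lc_e_rc_35_2 lc_e_rc_35_2 lc_e_rc_35_2 lc_e_rc_35_0 lc_e_rc_36_2 lc_e_rc_35_2 lc_e_rc_39_2 lc_e_rc_35_2 lc_e_rc_28_3 lc_e_Cert_tree lc_e_rc_37_2 lc_e_rc_34_0 lc_e_rc_39_2 lc_e_rc_13_3 lc_e_rc_34_0 lc_e_rc_39_2 lc_e_rc_35_2 lc_e_Cert_tree lc_e_rc_36_2 lc_e_Cert_tree lc_e_rc_34_0 lc_e_rc_39_2 lc_e_rc_34_0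 lc_e_rc_39_2 lc_e_Cert_tree lc_e_rc_34_0 lc_e_rc_39_2 lc_e_rc_36_2 lc_e_rc_39_2 lc_e_rc_35_2 lc_e_rc_13_1 lc_e_rc_34_0) (@D3.rec (fun _ => (Cert rels S Gen.e)) lc_e_rc_39_2 lc_e_rc_39_2 lc_e_rc_35_2 lc_e_rc_35_2 lc_e_rc_36_2 lc_e_rc_39_2 lc_e_rc_36_2 lc_e_rc_35_2 lc_e_rc_28_3 lc_e_rc_37_2 lc_e_rc_4_1 lc_e_rc_13_1 lc_e_rc_4_1 lc_e_rc_13_1 lc_e_rc_4_1 lc_e_rc_4_1 lc_e_Cert_tree lc_e_rc_13_1 lc_e_rc_21_3 lc_e_rc_39_2 lc_e_rc_35_2 lc_e_rc_35_2 lc_e_rc_34_0 lc_e_rc_39_2 lc_e_rc_35_2 lc_e_rc_28_3 lc_e_rc_28_3 lc_e_rc_35_2 lc_e_rc_39_2 lc_e_rc_28_3 lc_e_rc_39_2 lc_e_rc_35_2 lc_e_Cert_tree lc_e_rc_37_2 lc_e_rc_34_0 lc_e_rc_39_2 lc_e_rc_39_2 lc_e_rc_36_2 lc_e_rc_39_2 lc_e_rc_35_2 lc_e_rc_35_2 lc_e_rc_36_2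 lc_e_rc_35_2 lc_e_rc_34_0 lc_e_rc_39_2 lc_e_rc_34_0 lc_e_rc_39_2 lc_e_rc_36_2 lc_e_rc_39_2 lc_e_rc_35_2 lc_e_rc_35_2) (@D3.rec (fun _ => (Cert rels S Gen.e)) lc_e_rc_35_2 lc_e_rc_37_2 lc_e_rc_39_2 lc_e_rc_35_2 lc_e_rc_35_2 lc_e_rc_21_1 lc_e_rc_21_1 lc_e_rc_35_2 lc_e_rc_38_2 lc_e_rc_37_2 lc_e_rc_35_2 lc_e_rc_28_3 lc_e_rc_38_2 lc_e_rc_37_2 lc_e_rc_35_2 lc_e_rc_28_3 lc_e_rc_39_2 lc_e_rc_35_2 lc_e_rc_28_3 lc_e_rc_21_1 lc_e_rc_38_2 lc_e_Cert_tree lc_e_rc_39_2 lc_e_rc_4_1 lc_e_Cert_tree lc_e_rc_39_2 lc_e_Cert_tree lc_e_rc_34_0 lc_e_rc_39_2 lc_e_rc_38_2 lc_e_rc_34_0 lc_e_rc_39_2 lc_e_rc_35_0 lc_e_rc_36_2 lc_e_rc_39_2 lc_e_rc_35_2 lc_e_rc_4_3 lc_e_rc_35_2 lc_e_Cert_tree lc_e_rc_37_2 lc_e_Cert_tree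 lc_e_rc_34_0 lc_e_rc_39_2 lc_e_Cert_tree lc_e_rc_34_0 lc_e_rc_39_2 lc_e_rc_36_2 lc_e_rc_39_2 lc_e_rc_35_2 lc_e_rc_34_0 lc_e_rc_39_2) (@D3.rec (fun _ => (Cert rels S Gen.e)) lc_e_rc_36_2 lc_e_rc_39_2 lc_e_rc_35_2 lc_e_rc_35_0 lc_e_rc_21_1 lc_e_rc_39_2 lc_e_rc_35_2 lc_e_rc_39_2 lc_e_rc_35_2 lc_e_rc_28_5 lc_e_rc_35_2 lc_e_Cert_tree lc_e_rc_28_3 lc_e_rc_37_2 lc_e_rc_36_2 lc_e_rc_35_2 lc_e_rc_35_2 lc_e_rc_28_3 lc_e_rc_21_1 lc_e_rc_4_3 lc_e_rc_35_2 lc_e_rc_34_0 lc_e_rc_39_2 lc_e_rc_28_3 lc_e_rc_39_2 lc_e_rc_35_2 lc_e_rc_35_2 lc_e_rc_21_1 lc_e_rc_13_1 lc_e_Cert_tree lc_e_rc_4_1 lc_e_rc_35_0 lc_e_rc_34_0 lc_e_rc_21_1 lc_e_rc_39_2 lc_e_rc_35_2 lc_e_rc_35_2 lc_e_rc_36_4 lc_e_rc_13_3 lc_e_rc_21_1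 lc_e_rc_34_0 lc_e_rc_38_2 lc_e_Cert_tree lc_e_rc_39_2 lc_e_rc_38_2 lc_e_rc_13_1 lc_e_rc_13_3 lc_e_rc_13_3 lc_e_rc_37_2 lc_e_Cert_tree lc_e_rc_36_2) (@D3.rec (fun _ => (Cert rels S Gen.e)) lc_e_Cert_tree lc_e_rc_34_0 lc_e_rc_39_2 lc_e_rc_38_2 lc_e_rc_39_2 lc_e_rc_39_2 lc_e_rc_36_2 lc_e_rc_39_2 lc_e_rc_35_2 lc_e_rc_4_1 lc_e_rc_35_2 lc_e_rc_39_2 lc_e_rc_35_2 lc_e_rc_21_3 lc_e_Cert_tree lc_e_rc_39_2 lc_e_Cert_tree lc_e_rc_13_3 lc_e_Cert_tree lc_e_rc_34_0 lc_e_rc_39_2 lc_e_rc_39_2 lc_e_rc_4_3 lc_e_rc_36_2 lc_e_rc_39_2 lc_e_rc_35_2 lc_e_rc_35_2 lc_e_rc_35_2 lc_e_Cert_tree lc_e_rc_37_2 lc_e_rc_34_0 lc_e_rc_39_2 lc_e_rc_34_0 lc_e_rc_39_2 lc_e_rc_36_2 lc_e_rc_39_2 lc_e_rc_35_2 lc_e_rc_35_2 lc_e_rc_4_3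 lc_e_rc_37_2 lc_e_rc_39_2 lc_e_rc_35_2 lc_e_rc_4_3 lc_e_rc_38_2 lc_e_rc_35_0 lc_e_rc_4_1 lc_e_rc_21_3 lc_e_rc_36_2 lc_e_rc_37_2 lc_e_rc_35_2 lc_e_rc_35_0) (@D3.rec (fun _ => (Cert rels S Gen.e)) lc_e_rc_39_2 lc_e_rc_35_2 lc_e_rc_36_2 lc_e_rc_35_2 lc_e_rc_35_2 lc_e_rc_35_0 lc_e_Cert_tree lc_e_rc_39_2 lc_e_Cert_tree lc_e_rc_34_0 lc_e_rc_39_2 lc_e_Cert_tree lc_e_rc_28_5 lc_e_Cert_tree lc_e_rc_34_0 lc_e_rc_39_2 lc_e_Cert_tree lc_e_rc_34_0 lc_e_rc_39_2 lc_e_rc_36_2 lc_e_rc_39_2 lc_e_rc_35_2 lc_e_rc_38_2 lc_e_rc_39_2 lc_e_rc_36_2 lc_e_rc_39_2 lc_e_rc_35_2 lc_e_rc_39_2 lc_e_rc_21_1 lc_e_rc_39_2 lc_e_rc_35_2 lc_e_rc_37_2 lc_e_rc_39_2 lc_e_rc_35_2 lc_e_rc_35_2 lc_e_rc_35_2 lc_e_Cert_tree lc_e_rc_35_2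 lc_e_rc_37_2 lc_e_rc_36_2 lc_e_rc_28_3 lc_e_rc_34_0 lc_e_rc_39_2 lc_e_Cert_tree lc_e_rc_34_0 lc_e_rc_39_2 lc_e_rc_36_2 lc_e_rc_39_2 lc_e_rc_35_2 lc_e_Cert_tree lc_e_rc_34_0) (@D3.rec (fun _ => (Cert rels S Gen.e)) lc_e_rc_39_2 lc_e_rc_28_3 lc_e_rc_21_1 lc_e_rc_39_2 lc_e_rc_35_2 lc_e_rc_37_2 lc_e_rc_39_2 lc_e_rc_35_2 lc_e_rc_38_2 lc_e_rc_39_2 lc_e_rc_35_2 lc_e_rc_37_2 lc_e_rc_36_2 lc_e_rc_35_2 lc_e_rc_39_2 lc_e_rc_13_1 lc_e_rc_39_2 lc_e_rc_35_2 lc_e_rc_21_1 lc_e_rc_21_1 lc_e_rc_35_2 lc_e_Cert_tree lc_e_rc_38_2 lc_e_rc_39_2 lc_e_rc_35_2 lc_e_rc_28_3 lc_e_rc_35_2 lc_e_rc_35_2 lc_e_Cert_tree lc_e_rc_21_1 lc_e_rc_21_1 lc_e_rc_35_2 lc_e_rc_34_0 lc_e_rc_38_2 lc_e_rc_35_2 lc_e_rc_21_3 lc_e_rc_21_1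 lc_e_rc_4_1 lc_e_rc_4_1 lc_e_rc_35_2 lc_e_rc_28_3 lc_e_rc_38_2 lc_e_rc_35_2 lc_e_Cert_tree lc_e_rc_21_1 lc_e_rc_35_2 lc_e_rc_21_3 lc_e_rc_13_1 lc_e_rc_13_1 lc_e_rc_21_1 lc_e_rc_13_1) (@D3.rec (fun _ => (Cert rels S Gen.e)) lc_e_rc_35_2 lc_e_rc_34_0 lc_e_rc_39_2 lc_e_rc_13_1 lc_e_rc_39_2 lc_e_rc_35_2 lc_e_rc_35_2 lc_e_rc_28_3 lc_e_rc_35_2 lc_e_Cert_tree lc_e_rc_28_1 lc_e_rc_35_2 lc_e_Cert_tree lc_e_rc_4_1 lc_e_Cert_tree lc_e_rc_34_0 lc_e_rc_34_0 lc_e_rc_35_0 lc_e_rc_39_2 lc_e_rc_35_2 lc_e_rc_13_3 lc_e_rc_39_2 lc_e_rc_35_2 lc_e_rc_35_2 lc_e_rc_37_2 lc_e_rc_4_1 lc_e_rc_4_1 lc_e_rc_34_0 lc_e_rc_35_2 lc_e_rc_4_1 lc_e_rc_35_2 lc_e_rc_28_3 lc_e_rc_21_1 lc_e_rc_13_1 lc_e_rc_38_2 lc_e_rc_38_0 lc_e_rc_39_2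 lc_e_rc_39_2 lc_e_rc_21_1 lc_e_rc_39_2 lc_e_rc_21_3 lc_e_rc_34_0 lc_e_rc_39_2 lc_e_rc_4_1 lc_e_rc_38_0 lc_e_rc_4_1 lc_e_rc_39_2 lc_e_rc_39_2 lc_e_rc_39_2 lc_e_rc_39_2 lc_e_rc_35_2) (@D3.rec (fun _ => (Cert rels S Gen.e)) lc_e_rc_35_2 lc_e_rc_35_2 lc_e_rc_36_2 lc_e_rc_35_2 lc_e_rc_36_4 lc_e_rc_35_2 lc_e_rc_39_2 lc_e_rc_35_2 lc_e_rc_4_3 lc_e_rc_39_2 lc_e_rc_35_2 lc_e_rc_39_2 lc_e_rc_35_2 lc_e_rc_28_3 lc_e_rc_35_2 lc_e_rc_35_2 lc_e_rc_28_3 lc_e_rc_38_2 lc_e_Cert_tree lc_e_rc_38_2 lc_e_rc_39_2 lc_e_rc_39_2 lc_e_rc_13_1 lc_e_rc_39_2 lc_e_rc_35_2 lc_e_rc_13_1 lc_e_rc_39_2 lc_e_rc_21_1 lc_e_rc_36_2 lc_e_rc_13_3 lc_e_rc_34_0 lc_e_rc_39_2 lc_e_rc_39_2 lc_e_rc_35_2 lc_e_rc_38_2 lc_e_rc_39_2 lc_e_rc_21_3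 lc_e_rc_36_2 lc_e_rc_39_2 lc_e_rc_35_2 lc_e_rc_36_2 lc_e_rc_39_2 lc_e_rc_35_2 lc_e_rc_35_2 lc_e_rc_36_2 lc_e_rc_35_2 lc_e_rc_28_3 lc_e_rc_13_1 lc_e_rc_35_2 lc_e_rc_13_1 lc_e_Cert_tree) (@D3.rec (fun _ => (Cert rels S Gen.e)) lc_e_rc_36_4 lc_e_rc_55_58 lc_e_rc_37_2 lc_e_rc_39_2 lc_e_rc_35_2 lc_e_rc_39_2 lc_e_rc_39_2 lc_e_rc_35_2 lc_e_rc_36_2 lc_e_rc_35_2 lc_e_rc_39_2 lc_e_rc_35_2 lc_e_rc_13_1 lc_e_rc_39_2 lc_e_rc_35_2 lc_e_rc_35_2 lc_e_rc_39_2 lc_e_rc_39_2 lc_e_rc_35_2 lc_e_rc_21_1 lc_e_rc_35_2 lc_e_Cert_tree lc_e_rc_37_2 lc_e_rc_35_2 lc_e_rc_28_3 lc_e_rc_36_0 lc_e_rc_35_0 lc_e_rc_21_1 lc_e_rc_55_67 lc_e_rc_4_1 lc_e_rc_38_2 lc_e_rc_34_0 lc_e_rc_35_2 lc_e_rc_4_1 lc_e_rc_36_2 lc_e_rc_35_2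 lc_e_rc_35_2 lc_e_rc_36_4 lc_e_rc_21_1 lc_e_rc_13_1 lc_e_rc_13_1 lc_e_rc_13_1 lc_e_Cert_tree lc_e_rc_13_1 lc_e_rc_37_0 lc_e_rc_39_2 lc_e_rc_28_3 lc_e_rc_35_2 lc_e_rc_37_2 lc_e_Cert_tree lc_e_rc_37_2) (@D3.rec (fun _ => (Cert rels S Gen.e)) lc_e_rc_35_2 lc_e_rc_39_2 lc_e_rc_35_2 lc_e_rc_34_0 lc_e_rc_39_2 lc_e_rc_39_2 lc_e_rc_39_2 lc_e_rc_35_2 lc_e_rc_4_1 lc_e_Cert_tree lc_e_rc_4_1 lc_e_Cert_tree lc_e_rc_34_0 lc_e_rc_39_2 lc_e_rc_39_2 lc_e_rc_39_2 lc_e_rc_36_2 lc_e_rc_39_2 lc_e_rc_35_2 lc_e_rc_21_1 lc_e_rc_4_3 lc_e_rc_35_2 lc_e_rc_4_1 lc_e_rc_35_2 lc_e_rc_28_3 lc_e_rc_4_1 lc_e_rc_36_2 lc_e_rc_35_2 lc_e_rc_35_2 lc_e_rc_35_0 lc_e_Cert_tree lc_e_rc_39_2 lc_e_Cert_tree lc_e_rc_37_2 lc_e_Cert_tree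 lc_e_rc_34_0 lc_e_rc_39_2 lc_e_rc_37_2 lc_e_rc_37_2 lc_e_rc_37_2 lc_e_rc_36_2 lc_e_rc_39_2 lc_e_rc_35_2 lc_e_rc_39_2 lc_e_rc_39_2 lc_e_rc_35_2 lc_e_rc_35_2 lc_e_rc_39_2 lc_e_rc_35_2 lc_e_Cert_tree lc_e_rc_37_2) (@D3.rec (fun _ => (Cert rels S Gen.e)) lc_e_rc_34_0 lc_e_rc_39_2 lc_e_Cert_tree lc_e_rc_34_0 lc_e_rc_39_2 lc_e_rc_36_2 lc_e_rc_39_2 lc_e_rc_35_2 lc_e_rc_35_2 lc_e_rc_39_2 lc_e_rc_35_2 lc_e_rc_37_2 lc_e_rc_39_2 lc_e_rc_35_2 lc_e_rc_4_3 lc_e_rc_39_2 lc_e_rc_35_2 lc_e_rc_21_1 lc_e_rc_21_1 lc_e_rc_35_2 lc_e_Cert_tree lc_e_rc_28_3 lc_e_rc_35_2 lc_e_rc_28_3 lc_e_rc_37_2 lc_e_rc_35_2 lc_e_rc_28_3 lc_e_rc_35_2 lc_e_rc_4_1 lc_e_rc_21_1 lc_e_rc_39_2 lc_e_rc_36_4 lc_e_rc_36_2 lc_e_rc_28_3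 lc_e_rc_39_2 lc_e_rc_35_2 lc_e_rc_35_2 lc_e_rc_37_2 lc_e_Cert_tree lc_e_rc_28_1 lc_e_rc_34_0 lc_e_rc_36_2 lc_e_rc_39_2 lc_e_rc_36_4 lc_e_rc_37_2 lc_e_Cert_tree lc_e_rc_37_2 lc_e_rc_13_1 lc_e_rc_39_2 lc_e_rc_39_2 lc_e_Cert_tree) (@D3.rec (fun _ => (Cert rels S Gen.e)) lc_e_rc_13_1 lc_e_Cert_tree lc_e_rc_34_0 lc_e_rc_39_2 lc_e_rc_39_2 lc_e_rc_4_1 lc_e_rc_21_1 lc_e_rc_35_2 lc_e_rc_4_1 lc_e_rc_21_1 lc_e_rc_38_2 lc_e_Cert_tree lc_e_rc_39_2 lc_e_Cert_tree lc_e_rc_39_2 lc_e_Cert_tree lc_e_rc_34_0 lc_e_rc_39_2 lc_e_rc_21_1 lc_e_rc_37_2 lc_e_rc_35_0 lc_e_rc_34_0 lc_e_rc_39_2 lc_e_rc_36_2 lc_e_rc_39_2 lc_e_rc_35_2 lc_e_rc_13_3 lc_e_rc_39_2 lc_e_rc_35_2 lc_e_rc_35_2 lc_e_Cert_tree lc_e_rc_4_1 lc_e_Cert_tree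 lc_e_rc_34_0 lc_e_rc_39_2 lc_e_Cert_tree lc_e_rc_34_0 lc_e_rc_39_2 lc_e_rc_36_2 lc_e_rc_39_2 lc_e_rc_35_2 lc_e_rc_37_2 lc_e_rc_36_2 lc_e_rc_39_2 lc_e_rc_35_2 lc_e_rc_21_1 lc_e_rc_37_2 lc_e_rc_21_1 lc_e_rc_39_2 lc_e_rc_35_2 lc_e_rc_39_2) (@D3.rec (fun _ => (Cert rels S Gen.e)) lc_e_rc_35_2 lc_e_rc_13_1 lc_e_rc_39_2 lc_e_rc_35_2 lc_e_rc_35_2 lc_e_Cert_tree lc_e_rc_28_3 lc_e_rc_37_2 lc_e_rc_4_1 lc_e_rc_35_2 lc_e_rc_35_2 lc_e_rc_28_3 lc_e_rc_35_0 lc_e_rc_13_1 lc_e_rc_4_3 lc_e_rc_39_2 lc_e_rc_35_2 lc_e_rc_13_1 lc_e_rc_35_2 lc_e_rc_35_2 lc_e_rc_13_1 lc_e_rc_35_2 lc_e_rc_4_1 lc_e_rc_13_1 lc_e_Cert_tree lc_e_rc_4_1 lc_e_Cert_tree lc_e_rc_34_0 lc_e_Cert_tree lc_e_rc_39_2 lc_e_Cert_tree lc_e_rc_34_0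 lc_e_rc_39_2 lc_e_Cert_tree lc_e_rc_36_2 lc_e_Cert_tree lc_e_rc_34_0 lc_e_rc_39_2 lc_e_Cert_tree lc_e_rc_34_0 lc_e_rc_39_2 lc_e_rc_36_2 lc_e_rc_39_2 lc_e_rc_35_2 lc_e_rc_37_2 lc_e_rc_36_2 lc_e_rc_39_2 lc_e_rc_35_2 lc_e_rc_39_2 lc_e_rc_21_1 lc_e_rc_39_2) (@D3.rec (fun _ => (Cert rels S Gen.e)) lc_e_rc_35_2 lc_e_rc_37_2 lc_e_rc_39_2 lc_e_rc_35_2 lc_e_rc_35_2 lc_e_rc_35_2 lc_e_Cert_tree lc_e_rc_37_2 lc_e_rc_36_2 lc_e_rc_28_3 lc_e_rc_34_0 lc_e_rc_39_2 lc_e_rc_34_0 lc_e_rc_39_2 lc_e_rc_36_2 lc_e_rc_39_2 lc_e_rc_35_2 lc_e_Cert_tree lc_e_rc_34_0 lc_e_rc_39_2 lc_e_rc_28_3 lc_e_rc_21_1 lc_e_rc_39_2 lc_e_rc_35_2 lc_e_rc_37_2 lc_e_rc_39_2 lc_e_rc_35_2 lc_e_rc_36_2 lc_e_rc_39_2 lc_e_rc_35_2 lc_e_rc_36_2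 lc_e_rc_35_2 lc_e_rc_39_2 lc_e_rc_13_1 lc_e_rc_39_2 lc_e_rc_35_2 lc_e_rc_21_1 lc_e_rc_21_1 lc_e_rc_35_2 lc_e_Cert_tree lc_e_rc_38_2 lc_e_rc_39_2 lc_e_rc_35_2 lc_e_rc_28_3 lc_e_rc_35_2 lc_e_rc_35_2 lc_e_Cert_tree lc_e_rc_21_1 lc_e_rc_35_2 lc_e_Cert_tree lc_e_rc_34_0) (@D3.rec (fun _ => (Cert rels S Gen.e)) lc_e_rc_38_2 lc_e_rc_35_2 lc_e_rc_35_2 lc_e_rc_21_1 lc_e_rc_35_2 lc_e_rc_37_2 lc_e_rc_38_2 lc_e_rc_35_2 lc_e_Cert_tree lc_e_rc_21_1 lc_e_rc_37_2 lc_e_rc_35_0 lc_e_rc_13_1 lc_e_rc_28_3 lc_e_rc_39_2 lc_e_rc_35_2 lc_e_rc_35_2 lc_e_rc_34_0 lc_e_rc_39_2 lc_e_rc_13_1 lc_e_rc_39_2 lc_e_rc_35_2 lc_e_rc_35_2 lc_e_rc_28_3 lc_e_rc_35_2 lc_e_Cert_tree lc_e_rc_35_2 lc_e_rc_13_3 lc_e_rc_4_1 lc_e_rc_37_2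 lc_e_rc_34_0 lc_e_rc_39_2 lc_e_rc_35_2 lc_e_rc_35_2 lc_e_rc_38_0 lc_e_rc_35_2 lc_e_rc_35_2 lc_e_rc_37_2 lc_e_Cert_tree lc_e_rc_13_1 lc_e_Cert_tree lc_e_rc_34_0 lc_e_rc_39_2 lc_e_rc_38_2 lc_e_rc_35_0 lc_e_rc_35_0 lc_e_rc_4_1 lc_e_rc_13_1 lc_e_Cert_tree lc_e_rc_4_1 lc_e_rc_34_0) (@D3.rec (fun _ => (Cert rels S Gen.e)) lc_e_rc_39_2 lc_e_rc_36_2 lc_e_rc_39_2 lc_e_rc_35_2 lc_e_rc_39_2 lc_e_rc_35_2 lc_e_rc_39_2 lc_e_rc_35_2 lc_e_rc_28_3 lc_e_rc_35_2 lc_e_rc_35_2 lc_e_rc_28_3 lc_e_Cert_tree lc_e_rc_39_2 lc_e_Cert_tree lc_e_rc_34_0 lc_e_rc_39_2 lc_e_Cert_tree lc_e_rc_39_2 lc_e_rc_34_0 lc_e_rc_39_2 lc_e_rc_36_2 lc_e_rc_39_2 lc_e_rc_35_2 lc_e_rc_36_2 lc_e_rc_39_2 lc_e_rc_35_2 lc_e_rc_39_2 lc_e_rc_35_2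 lc_e_rc_28_3 lc_e_Cert_tree lc_e_rc_34_0 lc_e_rc_39_2 lc_e_rc_34_0 lc_e_rc_39_2 lc_e_rc_36_2 lc_e_rc_39_2 lc_e_rc_35_2 lc_e_rc_34_0 lc_e_rc_39_2 lc_e_rc_28_3 lc_e_rc_21_1 lc_e_rc_39_2 lc_e_rc_35_2 lc_e_rc_37_2 lc_e_rc_39_2 lc_e_rc_35_2 lc_e_rc_35_2 lc_e_rc_36_2 lc_e_rc_35_2 lc_e_rc_37_2) (@D3.rec (fun _ => (Cert rels S Gen.e)) lc_e_rc_21_1 lc_e_rc_35_2 lc_e_rc_38_2 lc_e_rc_39_2 lc_e_rc_35_2 lc_e_rc_28_3 lc_e_rc_38_2 lc_e_rc_37_2 lc_e_rc_36_4 lc_e_rc_21_1 lc_e_rc_37_2 lc_e_rc_36_2 lc_e_rc_28_3 lc_e_rc_4_1 lc_e_rc_35_2 lc_e_Cert_tree lc_e_rc_21_1 lc_e_rc_35_2 lc_e_rc_37_2 lc_e_rc_4_1 lc_e_rc_28_3 lc_e_Cert_tree lc_e_rc_4_1 lc_e_rc_34_0 lc_e_rc_39_2 lc_e_rc_39_2 lc_e_rc_4_3 lc_e_Cert_tree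 lc_e_rc_37_2 lc_e_Cert_tree lc_e_rc_34_0 lc_e_rc_39_2 lc_e_rc_34_0 lc_e_rc_39_2 lc_e_rc_39_2 lc_e_rc_35_2 lc_e_rc_38_2 lc_e_rc_38_2 lc_e_rc_13_1 lc_e_rc_21_3 lc_e_Cert_tree lc_e_rc_39_2 lc_e_Cert_tree lc_e_rc_34_0 lc_e_rc_39_2 lc_e_Cert_tree lc_e_rc_39_2 lc_e_rc_34_0 lc_e_rc_39_2 lc_e_rc_36_2 lc_e_rc_39_2) (@D3.rec (fun _ => (Cert rels S Gen.e)) lc_e_rc_35_2 lc_e_rc_36_2 lc_e_rc_39_2 lc_e_rc_35_2 lc_e_rc_39_2 lc_e_rc_35_2 lc_e_rc_39_2 lc_e_Cert_tree lc_e_rc_34_0 lc_e_rc_39_2 lc_e_rc_34_0 lc_e_rc_39_2 lc_e_rc_36_2 lc_e_rc_39_2 lc_e_rc_35_2 lc_e_rc_34_0 lc_e_rc_39_2 lc_e_rc_28_3 lc_e_rc_21_1 lc_e_rc_39_2 lc_e_rc_35_2 lc_e_rc_39_2 lc_e_rc_35_2 lc_e_rc_36_2 lc_e_rc_39_2 lc_e_rc_35_2 lc_e_rc_37_2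 lc_e_rc_36_2 lc_e_rc_35_2 lc_e_rc_35_2 lc_e_rc_21_1 lc_e_rc_35_2 lc_e_rc_35_2 lc_e_rc_28_3 lc_e_rc_13_3 lc_e_rc_13_1 lc_e_rc_37_2 lc_e_rc_35_2 lc_e_rc_28_3 lc_e_Cert_tree lc_e_rc_35_0 lc_e_rc_34_0 lc_e_rc_39_2 lc_e_rc_39_2 lc_e_rc_28_3 lc_e_rc_39_2 lc_e_rc_34_0 lc_e_rc_39_2 lc_e_rc_13_1 lc_e_rc_39_2 lc_e_rc_35_2) (@D3.rec (fun _ => (Cert rels S Gen.e)) lc_e_rc_28_3 lc_e_Cert_tree lc_e_rc_37_2 lc_e_Cert_tree lc_e_rc_34_0 lc_e_rc_39_2 lc_e_Cert_tree lc_e_rc_34_0 lc_e_rc_39_2 lc_e_rc_36_2 lc_e_rc_39_2 lc_e_rc_35_2 lc_e_Cert_tree lc_e_rc_34_0 lc_e_rc_39_2 lc_e_Cert_tree lc_e_rc_34_0 lc_e_rc_39_2 lc_e_rc_36_2 lc_e_rc_39_2 lc_e_rc_35_2 lc_e_rc_34_0 lc_e_rc_39_2 lc_e_rc_28_3 lc_e_rc_21_1 lc_e_rc_39_2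 lc_e_rc_35_2 lc_e_rc_37_2 lc_e_rc_39_2 lc_e_rc_35_2 lc_e_rc_39_2 lc_e_rc_36_2 lc_e_rc_39_2 lc_e_rc_35_2 lc_e_rc_37_2 lc_e_rc_36_2 lc_e_rc_35_2 lc_e_rc_35_2 lc_e_rc_21_1 lc_e_rc_21_1 lc_e_rc_35_2 lc_e_rc_38_2 lc_e_rc_39_2 lc_e_rc_35_2 lc_e_rc_28_3 lc_e_rc_35_2 lc_e_rc_37_2 lc_e_rc_36_2 lc_e_rc_4_1 lc_e_rc_38_2 lc_e_rc_37_2) (@D3.rec (fun _ => (Cert rels S Gen.e)) lc_e_rc_21_3 lc_e_rc_28_1 lc_e_Cert_tree lc_e_rc_34_0 lc_e_rc_39_2 lc_e_rc_36_2 lc_e_rc_39_2 lc_e_rc_35_2 lc_e_Cert_tree lc_e_rc_34_0 lc_e_rc_39_2 lc_e_rc_28_3 lc_e_rc_36_2 lc_e_rc_39_2 lc_e_rc_35_2 lc_e_rc_37_2 lc_e_rc_36_2 lc_e_rc_35_2 lc_e_rc_34_0 lc_e_rc_39_2 lc_e_rc_13_1 lc_e_rc_13_1 lc_e_rc_39_2 lc_e_rc_35_2 lc_e_rc_36_2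 lc_e_rc_35_2 lc_e_rc_28_3 lc_e_rc_21_1 lc_e_rc_21_1 lc_e_rc_35_2 lc_e_Cert_tree lc_e_rc_38_2 lc_e_rc_39_2 lc_e_rc_35_2 lc_e_rc_28_3 lc_e_rc_39_2 lc_e_rc_13_1 lc_e_rc_39_2 lc_e_rc_35_2 lc_e_rc_37_2 lc_e_rc_36_2 lc_e_rc_35_2 lc_e_Cert_tree lc_e_rc_37_2 lc_e_rc_37_2 lc_e_rc_35_2 lc_e_rc_28_3 lc_e_rc_35_2 lc_e_rc_13_1 lc_e_rc_13_1 lc_e_rc_35_2) (@D3.rec (fun _ => (Cert rels S Gen.e)) lc_e_rc_13_3 lc_e_rc_21_1 lc_e_rc_21_1 lc_e_rc_35_2 lc_e_Cert_tree lc_e_rc_34_0 lc_e_rc_39_2 lc_e_rc_35_2 lc_e_Cert_tree lc_e_rc_21_1 lc_e_rc_13_1 lc_e_rc_13_1 lc_e_rc_13_1 lc_e_rc_13_3 lc_e_rc_21_1 lc_e_rc_35_2 lc_e_Cert_tree lc_e_rc_4_3 lc_e_rc_34_0 lc_e_rc_35_2 lc_e_rc_21_3 lc_e_rc_13_1 lc_e_rc_28_5 lc_e_rc_13_1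 lc_e_rc_35_2 lc_e_Cert_tree lc_e_rc_36_0 lc_e_rc_36_2 lc_e_Cert_tree lc_e_Cert_tree lc_e_rc_34_0 lc_e_rc_35_0 lc_e_rc_38_2 lc_e_rc_35_0 lc_e_rc_13_1 lc_e_rc_35_2 lc_e_rc_28_3 lc_e_rc_39_2 lc_e_rc_35_2 lc_e_rc_35_0 lc_e_rc_13_1 lc_e_rc_35_2 lc_e_rc_28_3 lc_e_Cert_tree lc_e_rc_39_2 lc_e_rc_35_2 lc_e_rc_13_1 lc_e_Cert_tree lc_e_rc_39_2 lc_e_rc_35_2 lc_e_Cert_tree) (@D3.rec (fun _ => (Cert rels S Gen.e)) lc_e_rc_34_0 lc_e_rc_21_1 lc_e_rc_4_1 lc_e_rc_35_0 lc_e_rc_34_0 lc_e_rc_36_2 lc_e_rc_37_2 lc_e_rc_35_2 lc_e_rc_35_0 lc_e_rc_13_1 lc_e_rc_35_0 lc_e_rc_4_1 lc_e_rc_21_1 lc_e_rc_35_2 lc_e_rc_56_53 lc_e_rc_34_0 lc_e_rc_39_2 lc_e_rc_28_3 lc_e_rc_39_2 lc_e_rc_35_2 lc_e_rc_35_2 lc_e_rc_4_1 lc_e_rc_39_2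 lc_e_rc_28_3 lc_e_rc_39_2 lc_e_rc_35_2 lc_e_rc_28_3 lc_e_rc_39_2 lc_e_rc_37_2 lc_e_rc_34_0 lc_e_rc_34_0 lc_e_rc_39_2 lc_e_Cert_tree lc_e_Cert_tree lc_e_rc_34_0 lc_e_rc_36_2 lc_e_rc_39_2 lc_e_rc_35_2 lc_e_rc_35_2 lc_e_rc_36_2 lc_e_rc_35_2 lc_e_rc_39_2 lc_e_rc_35_2 lc_e_rc_13_1 lc_e_rc_35_2 lc_e_rc_35_2 lc_e_rc_34_0 lc_e_rc_39_2 lc_e_rc_39_2 lc_e_rc_21_1 lc_e_rc_39_2)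
def ce_e_14 : D2 → D3 → (Cert rels S Gen.e) := @D2.rec (fun _ => D3 → (Cert rels S Gen.e)) (@D3.rec (fun _ => (Cert rels S Gen.e)) lc_e_rc_35_2 lc_e_rc_21_1 lc_e_rc_34_0 lc_e_rc_39_2 lc_e_rc_35_2 lc_e_rc_36_2 lc_e_rc_39_2 lc_e_rc_35_2 lc_e_rc_39_2 lc_e_rc_35_2 lc_e_rc_39_2 lc_e_rc_35_2 lc_e_rc_37_2 lc_e_rc_36_2 lc_e_rc_34_0 lc_e_rc_39_2 lc_e_rc_34_0 lc_e_rc_39_2 lc_e_rc_39_2 lc_e_rc_35_2 lc_e_rc_34_0 lc_e_rc_39_2 lc_e_rc_28_3 lc_e_rc_21_1 lc_e_rc_39_2 lc_e_rc_35_2 lc_e_rc_37_2 lc_e_rc_39_2 lc_e_rc_35_2 lc_e_rc_13_1 lc_e_rc_35_2 lc_e_rc_13_1 lc_e_rc_39_2 lc_e_rc_35_2 lc_e_rc_21_1 lc_e_rc_21_1 lc_e_rc_35_2 lc_e_rc_37_2 lc_e_rc_39_2 lc_e_rc_35_2 lc_e_rc_35_2 lc_e_rc_21_1 lc_e_rc_35_2 lc_e_rc_39_2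 lc_e_rc_38_2 lc_e_rc_35_2 lc_e_rc_28_3 lc_e_rc_4_1 lc_e_rc_38_0 lc_e_Cert_tree lc_e_rc_34_0) (@D3.rec (fun _ => (Cert rels S Gen.e)) lc_e_rc_39_2 lc_e_rc_34_0 lc_e_rc_39_2 lc_e_rc_39_2 lc_e_rc_35_2 lc_e_rc_4_1 lc_e_rc_39_2 lc_e_rc_35_2 lc_e_Cert_tree lc_e_rc_34_0 lc_e_rc_39_2 lc_e_rc_39_2 lc_e_rc_35_2 lc_e_rc_35_2 lc_e_rc_38_2 lc_e_rc_35_0 lc_e_rc_4_1 lc_e_rc_39_2 lc_e_rc_13_1 lc_e_rc_4_3 lc_e_rc_4_1 lc_e_rc_13_1 lc_e_rc_36_4 lc_e_rc_35_2 lc_e_Cert_tree lc_e_rc_39_2 lc_e_rc_13_1 lc_e_Cert_tree lc_e_rc_4_1 lc_e_rc_13_3 lc_e_rc_34_0 lc_e_rc_4_1 lc_e_rc_35_2 lc_e_rc_4_1 lc_e_rc_34_0 lc_e_rc_39_2 lc_e_rc_39_2 lc_e_rc_35_2 lc_e_rc_4_1 lc_e_rc_34_0 lc_e_rc_39_2 lc_e_rc_39_2 lc_e_rc_35_2 lc_e_rc_21_1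 lc_e_rc_35_2 lc_e_rc_28_5 lc_e_rc_39_2 lc_e_Cert_tree lc_e_rc_34_0 lc_e_rc_39_2 lc_e_Cert_tree) (@D3.rec (fun _ => (Cert rels S Gen.e)) lc_e_rc_34_0 lc_e_rc_39_2 lc_e_rc_36_2 lc_e_rc_39_2 lc_e_rc_35_2 lc_e_rc_34_0 lc_e_rc_39_2 lc_e_rc_28_3 lc_e_rc_21_1 lc_e_rc_39_2 lc_e_rc_35_2 lc_e_rc_39_2 lc_e_rc_35_2 lc_e_rc_38_2 lc_e_rc_36_2 lc_e_rc_39_2 lc_e_rc_35_2 lc_e_rc_36_2 lc_e_rc_35_2 lc_e_rc_4_3 lc_e_rc_21_1 lc_e_rc_35_2 lc_e_Cert_tree lc_e_rc_35_2 lc_e_Cert_tree lc_e_rc_21_1 lc_e_rc_34_0 lc_e_rc_13_1 lc_e_rc_39_2 lc_e_rc_35_2 lc_e_rc_37_0 lc_e_rc_28_3 lc_e_rc_39_2 lc_e_rc_35_2 lc_e_rc_35_2 lc_e_rc_28_5 lc_e_rc_13_1 lc_e_rc_39_2 lc_e_rc_35_2 lc_e_rc_28_3 lc_e_rc_35_2 lc_e_Cert_tree lc_e_rc_39_2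 lc_e_rc_13_1 lc_e_Cert_tree lc_e_rc_4_1 lc_e_Cert_tree lc_e_rc_34_0 lc_e_rc_34_0 lc_e_Cert_tree lc_e_rc_34_0) (@D3.rec (fun _ => (Cert rels S Gen.e)) lc_e_rc_39_2 lc_e_rc_39_2 lc_e_rc_35_2 lc_e_Cert_tree lc_e_rc_34_0 lc_e_rc_39_2 lc_e_Cert_tree lc_e_rc_34_0 lc_e_rc_39_2 lc_e_rc_39_2 lc_e_rc_35_2 lc_e_rc_34_0 lc_e_rc_39_2 lc_e_rc_28_3 lc_e_rc_21_1 lc_e_rc_39_2 lc_e_rc_35_2 lc_e_rc_37_2 lc_e_rc_39_2 lc_e_rc_35_2 lc_e_rc_36_0 lc_e_rc_35_2 lc_e_rc_13_1 lc_e_rc_39_2 lc_e_rc_35_2 lc_e_rc_21_1 lc_e_rc_35_2 lc_e_rc_4_3 lc_e_rc_39_2 lc_e_rc_35_2 lc_e_rc_35_2 lc_e_rc_13_1 lc_e_rc_38_2 lc_e_rc_37_2 lc_e_rc_34_0 lc_e_rc_39_2 lc_e_rc_13_1 lc_e_rc_39_2 lc_e_rc_35_2 lc_e_rc_34_0 lc_e_rc_39_2 lc_e_rc_28_3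 lc_e_rc_36_2 lc_e_rc_39_2 lc_e_rc_35_2 lc_e_rc_36_2 lc_e_rc_35_2 lc_e_rc_34_0 lc_e_rc_39_2 lc_e_rc_13_1 lc_e_rc_13_1) (@D3.rec (fun _ => (Cert rels S Gen.e)) lc_e_rc_39_2 lc_e_rc_35_2 lc_e_rc_28_3 lc_e_rc_35_2 lc_e_rc_28_3 lc_e_rc_21_1 lc_e_rc_21_1 lc_e_rc_35_2 lc_e_Cert_tree lc_e_rc_38_2 lc_e_rc_39_2 lc_e_rc_35_2 lc_e_rc_28_3 lc_e_rc_34_0 lc_e_rc_39_2 lc_e_rc_13_1 lc_e_rc_39_2 lc_e_rc_35_2 lc_e_rc_36_2 lc_e_rc_35_2 lc_e_Cert_tree lc_e_rc_35_2 lc_e_rc_4_1 lc_e_rc_39_2 lc_e_rc_35_2 lc_e_rc_13_1 lc_e_rc_13_1 lc_e_rc_35_2 lc_e_rc_13_3 lc_e_rc_21_1 lc_e_rc_21_1 lc_e_rc_35_2 lc_e_rc_28_3 lc_e_rc_34_0 lc_e_rc_39_2 lc_e_rc_35_2 lc_e_rc_35_2 lc_e_rc_38_2 lc_e_rc_39_2 lc_e_rc_35_2 lc_e_rc_28_3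 lc_e_rc_21_1 lc_e_rc_35_2 lc_e_rc_13_1 lc_e_rc_35_2 lc_e_rc_35_2 lc_e_rc_21_1 lc_e_rc_35_2 lc_e_rc_28_3 lc_e_rc_35_2 lc_e_Cert_tree) (@D3.rec (fun _ => (Cert rels S Gen.e)) lc_e_rc_21_1 lc_e_rc_13_1 lc_e_rc_13_1 lc_e_rc_35_2 lc_e_Cert_tree lc_e_rc_39_2 lc_e_rc_35_2 lc_e_Cert_tree lc_e_rc_34_0 lc_e_rc_21_1 lc_e_rc_35_0 lc_e_rc_34_0 lc_e_rc_36_2 lc_e_rc_35_2 lc_e_rc_35_2 lc_e_rc_35_2 lc_e_rc_13_1 lc_e_Cert_tree lc_e_rc_35_2 lc_e_rc_35_2 lc_e_Cert_tree lc_e_rc_34_0 lc_e_rc_35_2 lc_e_rc_35_2 lc_e_Cert_tree lc_e_rc_34_0 lc_e_rc_35_2 lc_e_Cert_tree lc_e_rc_35_2 lc_e_rc_35_2 lc_e_rc_28_1 lc_e_rc_13_3 lc_e_rc_35_2 lc_e_rc_35_2 lc_e_Cert_tree lc_e_rc_35_2 lc_e_rc_35_2 lc_e_rc_34_0 lc_e_rc_36_2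 lc_e_rc_35_0 lc_e_rc_38_2 lc_e_rc_34_0 lc_e_rc_13_1 lc_e_rc_34_0 lc_e_rc_39_2 lc_e_rc_35_2 lc_e_rc_34_0 lc_e_rc_39_2 lc_e_rc_34_0 lc_e_rc_39_2 lc_e_rc_39_2) (@D3.rec (fun _ => (Cert rels S Gen.e)) lc_e_rc_35_2 lc_e_rc_35_2 lc_e_rc_35_2 lc_e_Cert_tree lc_e_rc_37_2 lc_e_rc_37_2 lc_e_rc_13_1 lc_e_Cert_tree lc_e_rc_36_2 lc_e_rc_34_0 lc_e_rc_34_0 lc_e_rc_39_2 lc_e_rc_39_2 lc_e_rc_35_2 lc_e_rc_35_2 lc_e_rc_35_2 lc_e_Cert_tree lc_e_rc_39_2 lc_e_rc_35_2 lc_e_rc_28_3 lc_e_rc_21_1 lc_e_rc_39_2 lc_e_rc_35_2 lc_e_rc_39_2 lc_e_rc_35_2 lc_e_rc_21_1 lc_e_rc_35_2 lc_e_Cert_tree lc_e_rc_35_2 lc_e_rc_35_2 lc_e_rc_35_2 lc_e_rc_34_1 lc_e_Cert_tree lc_e_rc_34_0 lc_e_rc_35_2 lc_e_rc_28_3 lc_e_rc_35_2 lc_e_Cert_tree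 lc_e_rc_34_0 lc_e_rc_13_1 lc_e_rc_34_0 lc_e_rc_39_2 lc_e_rc_39_2 lc_e_rc_35_2 lc_e_rc_35_2 lc_e_rc_13_1 lc_e_rc_21_3 lc_e_rc_34_0 lc_e_rc_39_2 lc_e_rc_39_2 lc_e_rc_35_2) (@D3.rec (fun _ => (Cert rels S Gen.e)) lc_e_rc_39_2 lc_e_rc_35_2 lc_e_rc_35_2 lc_e_Cert_tree lc_e_rc_13_3 lc_e_rc_34_1 lc_e_rc_34_0 lc_e_rc_37_2 lc_e_Cert_tree lc_e_rc_34_0 lc_e_rc_34_0 lc_e_rc_39_2 lc_e_rc_28_3 lc_e_rc_39_2 lc_e_rc_35_2 lc_e_rc_35_2 lc_e_rc_35_2 lc_e_Cert_tree lc_e_rc_35_2 lc_e_Cert_tree lc_e_rc_34_0 lc_e_rc_34_0 lc_e_rc_39_2 lc_e_rc_36_2 lc_e_rc_39_2 lc_e_rc_35_2 lc_e_rc_34_0 lc_e_rc_39_2 lc_e_rc_39_2 lc_e_rc_35_2 lc_e_rc_35_2 lc_e_rc_34_0 lc_e_rc_39_2 lc_e_rc_13_1 lc_e_rc_13_1 lc_e_rc_39_2 lc_e_rc_35_2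 lc_e_rc_35_2 lc_e_rc_28_3 lc_e_rc_21_1 lc_e_rc_21_1 lc_e_rc_35_2 lc_e_Cert_tree lc_e_rc_38_2 lc_e_rc_39_2 lc_e_rc_35_2 lc_e_rc_28_3 lc_e_rc_35_2 lc_e_rc_38_2 lc_e_rc_35_2 lc_e_rc_13_1) (@D3.rec (fun _ => (Cert rels S Gen.e)) lc_e_rc_35_2 lc_e_Cert_tree lc_e_rc_21_1 lc_e_rc_35_2 lc_e_rc_35_2 lc_e_rc_34_0 lc_e_rc_39_2 lc_e_rc_35_2 lc_e_rc_35_2 lc_e_rc_34_1 lc_e_rc_35_2 lc_e_rc_4_1 lc_e_rc_28_3 lc_e_rc_34_0 lc_e_rc_35_2 lc_e_rc_34_0 lc_e_rc_36_2 lc_e_rc_37_2 lc_e_rc_35_2 lc_e_Cert_tree lc_e_rc_35_2 lc_e_rc_13_1 lc_e_rc_35_2 lc_e_Cert_tree lc_e_rc_39_2 lc_e_rc_35_2 lc_e_Cert_tree lc_e_rc_34_0 lc_e_rc_37_2 lc_e_rc_37_2 lc_e_rc_35_0 lc_e_rc_34_0 lc_e_rc_36_2 lc_e_rc_13_1 lc_e_rc_38_2 lc_e_rc_35_2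 lc_e_rc_34_0 lc_e_rc_39_2 lc_e_rc_39_2 lc_e_rc_35_2 lc_e_rc_35_2 lc_e_rc_39_2 lc_e_rc_35_2 lc_e_rc_34_0 lc_e_rc_39_2 lc_e_rc_39_2 lc_e_rc_35_2 lc_e_rc_39_2 lc_e_rc_35_2 lc_e_rc_35_2 lc_e_rc_35_2) (@D3.rec (fun _ => (Cert rels S Gen.e)) lc_e_rc_34_0 lc_e_rc_39_2 lc_e_rc_36_2 lc_e_rc_39_2 lc_e_rc_35_2 lc_e_rc_34_0 lc_e_rc_39_2 lc_e_rc_28_3 lc_e_rc_36_2 lc_e_rc_39_2 lc_e_rc_35_2 lc_e_rc_37_2 lc_e_rc_36_2 lc_e_rc_35_2 lc_e_rc_13_1 lc_e_rc_13_1 lc_e_rc_39_2 lc_e_rc_35_2 lc_e_rc_28_3 lc_e_rc_28_3 lc_e_rc_21_1 lc_e_rc_35_2 lc_e_rc_35_2 lc_e_rc_28_3 lc_e_rc_13_1 lc_e_rc_39_2 lc_e_rc_35_2 lc_e_rc_36_2 lc_e_rc_35_2 lc_e_rc_37_2 lc_e_rc_35_2 lc_e_rc_13_1 lc_e_rc_35_2 lc_e_rc_35_2 lc_e_rc_39_2 lc_e_rc_13_1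 lc_e_rc_28_3 lc_e_rc_13_1 lc_e_rc_35_2 lc_e_rc_34_0 lc_e_rc_39_2 lc_e_rc_39_2 lc_e_rc_35_2 lc_e_rc_39_2 lc_e_rc_35_2 lc_e_rc_35_2 lc_e_rc_34_0 lc_e_rc_39_2 lc_e_rc_36_2 lc_e_rc_39_2 lc_e_rc_35_2) (@D3.rec (fun _ => (Cert rels S Gen.e)) lc_e_rc_34_0 lc_e_rc_39_2 lc_e_rc_39_2 lc_e_rc_35_2 lc_e_rc_35_2 lc_e_rc_34_0 lc_e_rc_39_2 lc_e_rc_13_1 lc_e_rc_39_2 lc_e_rc_35_2 lc_e_rc_35_2 lc_e_rc_28_3 lc_e_rc_35_2 lc_e_rc_28_3 lc_e_rc_39_2 lc_e_rc_13_1 lc_e_rc_4_1 lc_e_rc_13_1 lc_e_rc_39_2 lc_e_rc_35_2 lc_e_Cert_tree lc_e_rc_34_0 lc_e_rc_39_2 lc_e_rc_28_3 lc_e_rc_39_2 lc_e_rc_35_2 lc_e_rc_35_2 lc_e_rc_34_0 lc_e_rc_39_2 lc_e_rc_35_2 lc_e_rc_39_2 lc_e_rc_35_2 lc_e_rc_34_0 lc_e_rc_39_2 lc_e_rc_28_3 lc_e_rc_39_2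 lc_e_rc_35_2 lc_e_rc_35_2 lc_e_rc_34_0 lc_e_rc_39_2 lc_e_rc_28_3 lc_e_rc_13_1 lc_e_rc_39_2 lc_e_rc_35_2 lc_e_rc_36_2 lc_e_rc_35_2 lc_e_rc_28_3 lc_e_rc_21_1 lc_e_rc_21_1 lc_e_rc_35_2 lc_e_rc_38_2) (@D3.rec (fun _ => (Cert rels S Gen.e)) lc_e_rc_39_2 lc_e_rc_35_2 lc_e_rc_28_3 lc_e_rc_39_2 lc_e_rc_39_2 lc_e_rc_35_2 lc_e_rc_35_2 lc_e_rc_35_2 lc_e_rc_13_1 lc_e_rc_35_2 lc_e_rc_21_1 lc_e_rc_21_1 lc_e_rc_35_2 lc_e_rc_13_3 lc_e_rc_39_2 lc_e_rc_35_2 lc_e_rc_4_1 lc_e_rc_38_2 lc_e_rc_37_2 lc_e_rc_4_3 lc_e_rc_38_2 lc_e_rc_36_2 lc_e_rc_39_2 lc_e_rc_35_2 lc_e_rc_36_2 lc_e_rc_36_2 lc_e_rc_35_2 lc_e_rc_13_1 lc_e_rc_39_2 lc_e_rc_35_2 lc_e_rc_28_3 lc_e_rc_36_2 lc_e_rc_35_2 lc_e_Cert_tree lc_e_rc_37_2 lc_e_rc_37_2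 lc_e_rc_35_2 lc_e_rc_28_3 lc_e_rc_4_1 lc_e_rc_39_2 lc_e_rc_35_2 lc_e_rc_36_2 lc_e_rc_39_2 lc_e_rc_13_1 lc_e_rc_13_1 lc_e_rc_35_2 lc_e_rc_35_2 lc_e_rc_28_3 lc_e_rc_35_2 lc_e_rc_28_3 lc_e_rc_39_2) (@D3.rec (fun _ => (Cert rels S Gen.e)) lc_e_rc_35_2 lc_e_rc_21_1 lc_e_rc_21_1 lc_e_rc_35_2 lc_e_Cert_tree lc_e_rc_34_0 lc_e_rc_39_2 lc_e_rc_35_2 lc_e_rc_28_3 lc_e_rc_21_1 lc_e_rc_36_2 lc_e_rc_39_2 lc_e_rc_35_2 lc_e_rc_13_1 lc_e_rc_35_2 lc_e_rc_35_2 lc_e_Cert_tree lc_e_rc_34_0 lc_e_rc_37_2 lc_e_rc_35_2 lc_e_rc_4_1 lc_e_rc_35_2 lc_e_rc_13_1 lc_e_rc_13_1 lc_e_rc_4_1 lc_e_rc_21_1 lc_e_rc_35_2 lc_e_Cert_tree lc_e_rc_34_0 lc_e_rc_36_2 lc_e_rc_35_2 lc_e_rc_13_1 lc_e_rc_13_1 lc_e_rc_13_3 lc_e_rc_4_1 lc_e_rc_35_2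 lc_e_rc_4_3 lc_e_rc_39_2 lc_e_rc_36_2 lc_e_rc_39_2 lc_e_rc_21_1 lc_e_rc_34_0 lc_e_rc_39_2 lc_e_rc_21_1 lc_e_rc_39_2 lc_e_rc_35_2 lc_e_rc_35_2 lc_e_rc_35_0 lc_e_rc_13_1 lc_e_rc_39_2 lc_e_rc_35_2) (@D3.rec (fun _ => (Cert rels S Gen.e)) lc_e_rc_35_2 lc_e_rc_28_3 lc_e_rc_35_2 lc_e_Cert_tree lc_e_rc_28_3 lc_e_rc_21_1 lc_e_rc_28_3 lc_e_rc_39_2 lc_e_rc_35_2 lc_e_rc_37_2 lc_e_rc_36_2 lc_e_rc_35_2 lc_e_rc_38_2 lc_e_rc_35_2 lc_e_rc_38_2 lc_e_rc_36_2 lc_e_rc_37_2 lc_e_rc_13_1 lc_e_rc_34_0 lc_e_rc_34_0 lc_e_rc_35_2 lc_e_rc_38_2 lc_e_rc_34_0 lc_e_rc_34_0 lc_e_rc_36_2 lc_e_rc_35_2 lc_e_rc_35_2 lc_e_rc_36_2 lc_e_rc_36_2 lc_e_rc_13_1 lc_e_rc_13_1 lc_e_rc_35_0 lc_e_rc_35_2 lc_e_rc_28_3 lc_e_rc_39_2 lc_e_rc_35_2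 lc_e_rc_39_2 lc_e_rc_38_2 lc_e_rc_35_2 lc_e_Cert_tree lc_e_Cert_tree lc_e_rc_34_0 lc_e_rc_36_2 lc_e_rc_21_1 lc_e_rc_13_1 lc_e_Cert_tree lc_e_rc_36_2 lc_e_rc_13_1 lc_e_Cert_tree lc_e_rc_4_1 lc_e_Cert_tree) (@D3.rec (fun _ => (Cert rels S Gen.e)) lc_e_rc_34_0 lc_e_rc_36_2 lc_e_rc_4_1 lc_e_rc_13_1 lc_e_rc_35_2 lc_e_rc_36_0 lc_e_rc_36_0 lc_e_rc_13_3 lc_e_rc_38_2 lc_e_rc_4_3 lc_e_rc_36_2 lc_e_rc_37_2 lc_e_rc_35_2 lc_e_rc_34_0 lc_e_rc_4_1 lc_e_rc_4_1 lc_e_rc_13_1 lc_e_rc_37_2 lc_e_rc_39_2 lc_e_rc_35_2 lc_e_rc_39_2 lc_e_rc_35_2 lc_e_rc_39_2 lc_e_rc_35_2 lc_e_rc_35_2 lc_e_rc_28_3 lc_e_rc_34_0 lc_e_rc_35_2 lc_e_rc_35_2 lc_e_rc_36_4 lc_e_rc_35_2 lc_e_rc_28_3 lc_e_rc_35_0 lc_e_rc_21_1 lc_e_rc_34_0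 lc_e_rc_39_2 lc_e_rc_36_2 lc_e_rc_39_2 lc_e_rc_35_2 lc_e_rc_35_2 lc_e_rc_34_0 lc_e_rc_39_2 lc_e_rc_34_0 lc_e_rc_39_2 lc_e_rc_36_2 lc_e_rc_39_2 lc_e_rc_35_2 lc_e_rc_36_2 lc_e_rc_39_2 lc_e_rc_35_2 lc_e_rc_37_2) (@D3.rec (fun _ => (Cert rels S Gen.e)) lc_e_rc_34_0 lc_e_rc_39_2 lc_e_rc_21_1 lc_e_rc_39_2 lc_e_rc_35_2 lc_e_rc_39_2 lc_e_rc_35_2 lc_e_rc_39_2 lc_e_rc_39_2 lc_e_rc_35_2 lc_e_rc_35_2 lc_e_rc_28_3 lc_e_rc_36_2 lc_e_rc_35_2 lc_e_rc_28_3 lc_e_rc_21_1 lc_e_rc_4_1 lc_e_rc_4_1 lc_e_rc_34_0 lc_e_rc_39_2 lc_e_rc_35_2 lc_e_rc_35_2 lc_e_rc_28_3 lc_e_rc_39_2 lc_e_rc_35_2 lc_e_rc_28_3 lc_e_rc_35_2 lc_e_rc_35_2 lc_e_rc_34_0 lc_e_rc_39_2 lc_e_rc_36_2 lc_e_rc_39_2 lc_e_rc_35_2 lc_e_rc_35_2 lc_e_rc_36_2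 lc_e_rc_39_2 lc_e_rc_35_2 lc_e_rc_37_2 lc_e_rc_36_2 lc_e_rc_28_3 lc_e_rc_39_2 lc_e_rc_35_2 lc_e_rc_39_2 lc_e_rc_35_2 lc_e_rc_37_2 lc_e_rc_39_2 lc_e_rc_35_2 lc_e_rc_38_2 lc_e_rc_39_2 lc_e_rc_35_2 lc_e_rc_28_3) (@D3.rec (fun _ => (Cert rels S Gen.e)) lc_e_rc_21_1 lc_e_rc_35_2 lc_e_rc_38_2 lc_e_rc_35_2 lc_e_rc_35_2 lc_e_rc_21_1 lc_e_rc_38_2 lc_e_rc_35_2 lc_e_Cert_tree lc_e_rc_21_1 lc_e_rc_37_2 lc_e_rc_13_1 lc_e_Cert_tree lc_e_rc_39_2 lc_e_Cert_tree lc_e_rc_34_0 lc_e_rc_39_2 lc_e_Cert_tree lc_e_rc_13_3 lc_e_Cert_tree lc_e_rc_34_0 lc_e_rc_39_2 lc_e_rc_34_0 lc_e_rc_39_2 lc_e_rc_36_2 lc_e_rc_39_2 lc_e_rc_35_2 lc_e_rc_38_2 lc_e_rc_36_2 lc_e_rc_39_2 lc_e_rc_35_2 lc_e_rc_28_5 lc_e_rc_39_2 lc_e_rc_35_2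 lc_e_Cert_tree lc_e_rc_28_3 lc_e_rc_34_0 lc_e_rc_39_2 lc_e_rc_34_0 lc_e_rc_39_2 lc_e_rc_36_2 lc_e_rc_39_2 lc_e_rc_35_2 lc_e_rc_34_0 lc_e_rc_39_2 lc_e_rc_28_3 lc_e_rc_21_1 lc_e_rc_39_2 lc_e_rc_35_2 lc_e_rc_39_2 lc_e_rc_35_2) (@D3.rec (fun _ => (Cert rels S Gen.e)) lc_e_rc_36_2 lc_e_rc_39_2 lc_e_rc_35_2 lc_e_rc_37_2 lc_e_rc_36_2 lc_e_rc_35_2 lc_e_rc_34_0 lc_e_rc_21_1 lc_e_rc_35_2 lc_e_Cert_tree lc_e_rc_35_2 lc_e_rc_28_3 lc_e_rc_13_3 lc_e_Cert_tree lc_e_rc_34_0 lc_e_rc_21_1 lc_e_rc_37_2 lc_e_rc_36_2 lc_e_rc_28_3 lc_e_Cert_tree lc_e_rc_21_1 lc_e_rc_13_1 lc_e_rc_35_2 lc_e_rc_13_1 lc_e_rc_39_2 lc_e_rc_35_2 lc_e_rc_35_2 lc_e_rc_28_3 lc_e_rc_35_2 lc_e_Cert_tree lc_e_Cert_tree lc_e_rc_35_0 lc_e_rc_34_0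 lc_e_rc_35_2 lc_e_rc_36_4 lc_e_Cert_tree lc_e_rc_39_2 lc_e_rc_34_0 lc_e_rc_39_2 lc_e_rc_38_2 lc_e_rc_13_3 lc_e_Cert_tree lc_e_rc_37_2 lc_e_Cert_tree lc_e_rc_34_0 lc_e_rc_39_2 lc_e_rc_34_0 lc_e_rc_39_2 lc_e_rc_36_2 lc_e_rc_39_2 lc_e_rc_35_2) (@D3.rec (fun _ => (Cert rels S Gen.e)) lc_e_rc_39_2 lc_e_rc_35_2 lc_e_rc_4_1 lc_e_rc_39_2 lc_e_rc_35_2 lc_e_rc_13_1 lc_e_rc_21_3 lc_e_rc_35_2 lc_e_rc_21_3 lc_e_rc_34_0 lc_e_rc_39_2 lc_e_rc_34_0 lc_e_rc_39_2 lc_e_rc_34_0 lc_e_rc_39_2 lc_e_rc_36_2 lc_e_rc_39_2 lc_e_rc_35_2 lc_e_rc_35_2 lc_e_rc_35_2 lc_e_rc_39_2 lc_e_rc_35_2 lc_e_rc_4_3 lc_e_rc_21_3 lc_e_rc_34_0 lc_e_rc_39_2 lc_e_rc_39_2 lc_e_rc_35_2 lc_e_rc_39_2 lc_e_rc_35_2 lc_e_rc_37_2 lc_e_rc_39_2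 lc_e_rc_35_2 lc_e_rc_4_3 lc_e_rc_38_2 lc_e_rc_39_2 lc_e_rc_35_2 lc_e_rc_28_3 lc_e_rc_35_0 lc_e_rc_4_1 lc_e_rc_36_2 lc_e_rc_36_2 lc_e_rc_37_2 lc_e_Cert_tree lc_e_rc_35_2 lc_e_rc_37_2 lc_e_Cert_tree lc_e_Cert_tree lc_e_rc_34_0 lc_e_rc_39_2 lc_e_Cert_tree) (@D3.rec (fun _ => (Cert rels S Gen.e)) lc_e_rc_34_0 lc_e_rc_39_2 lc_e_rc_36_2 lc_e_rc_39_2 lc_e_rc_35_2 lc_e_rc_34_0 lc_e_rc_39_2 lc_e_Cert_tree lc_e_rc_34_0 lc_e_rc_39_2 lc_e_rc_36_2 lc_e_rc_39_2 lc_e_rc_35_2 lc_e_rc_34_0 lc_e_rc_39_2 lc_e_rc_28_3 lc_e_rc_21_1 lc_e_rc_39_2 lc_e_rc_35_2 lc_e_rc_37_2 lc_e_rc_39_2 lc_e_rc_35_2 lc_e_rc_39_2 lc_e_rc_35_2 lc_e_rc_37_2 lc_e_rc_36_2 lc_e_rc_35_2 lc_e_rc_35_2 lc_e_rc_21_1 lc_e_rc_35_2 lc_e_Cert_tree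 lc_e_rc_38_2 lc_e_rc_39_2 lc_e_rc_35_2 lc_e_rc_28_3 lc_e_rc_39_2 lc_e_rc_34_0 lc_e_rc_38_2 lc_e_rc_37_2 lc_e_rc_21_3 lc_e_rc_21_1 lc_e_rc_13_1 lc_e_rc_39_2 lc_e_rc_35_2 lc_e_Cert_tree lc_e_rc_34_0 lc_e_rc_39_2 lc_e_rc_39_2 lc_e_rc_35_2 lc_e_rc_37_2 lc_e_rc_36_2) (@D3.rec (fun _ => (Cert rels S Gen.e)) lc_e_rc_35_2 lc_e_rc_34_0 lc_e_rc_39_2 lc_e_rc_13_1 lc_e_rc_13_1 lc_e_rc_39_2 lc_e_rc_35_2 lc_e_rc_35_2 lc_e_rc_28_3 lc_e_rc_21_1 lc_e_rc_21_1 lc_e_rc_35_2 lc_e_Cert_tree lc_e_rc_38_2 lc_e_rc_39_2 lc_e_rc_35_2 lc_e_rc_28_3 lc_e_rc_39_2 lc_e_rc_35_2 lc_e_Cert_tree lc_e_rc_37_2 lc_e_rc_37_2 lc_e_rc_35_2 lc_e_rc_28_3 lc_e_rc_35_2 lc_e_rc_13_1 lc_e_rc_35_2 lc_e_Cert_tree lc_e_rc_21_1 lc_e_rc_21_1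 lc_e_rc_35_2 lc_e_rc_34_0 lc_e_rc_39_2 lc_e_rc_35_2 lc_e_Cert_tree lc_e_rc_21_1 lc_e_rc_13_1 lc_e_rc_34_0 lc_e_rc_21_1 lc_e_rc_35_2 lc_e_rc_28_3 lc_e_rc_35_2 lc_e_rc_28_3 lc_e_rc_28_3 lc_e_rc_4_1 lc_e_rc_35_2 lc_e_Cert_tree lc_e_rc_21_1 lc_e_rc_36_2 lc_e_Cert_tree lc_e_Cert_tree) (@D3.rec (fun _ => (Cert rels S Gen.e)) lc_e_rc_34_0 lc_e_rc_13_1 lc_e_rc_38_2 lc_e_rc_13_1 lc_e_rc_36_2 lc_e_rc_35_2 lc_e_Cert_tree lc_e_rc_4_1 lc_e_rc_39_2 lc_e_rc_35_2 lc_e_rc_13_1 lc_e_rc_13_1 lc_e_rc_35_2 lc_e_Cert_tree lc_e_rc_39_2 lc_e_rc_35_2 lc_e_Cert_tree lc_e_rc_34_0 lc_e_rc_35_2 lc_e_Cert_tree lc_e_rc_34_0 lc_e_rc_34_0 lc_e_rc_36_2 lc_e_rc_35_0 lc_e_rc_4_1 lc_e_rc_36_4 lc_e_rc_35_2 lc_e_rc_39_2 lc_e_rc_35_2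 lc_e_rc_36_0 lc_e_rc_36_2 lc_e_rc_39_2 lc_e_rc_35_2 lc_e_rc_39_2 lc_e_rc_35_2 lc_e_rc_35_2 lc_e_rc_35_2 lc_e_rc_28_3 lc_e_rc_36_0 lc_e_rc_36_2 lc_e_rc_38_0 lc_e_rc_38_2 lc_e_rc_39_2 lc_e_rc_35_2 lc_e_rc_35_2 lc_e_rc_55_67 lc_e_rc_35_2 lc_e_Cert_tree lc_e_rc_35_2 lc_e_rc_28_3 lc_e_rc_36_4) (@D3.rec (fun _ => (Cert rels S Gen.e)) lc_e_rc_21_1 lc_e_rc_38_2 lc_e_rc_34_0 lc_e_rc_39_2 lc_e_rc_35_2 lc_e_rc_36_2 lc_e_rc_35_2 lc_e_rc_13_1 lc_e_rc_36_2 lc_e_rc_37_2 lc_e_rc_21_1 lc_e_rc_39_2 lc_e_rc_35_2 lc_e_rc_35_2 lc_e_rc_38_2 lc_e_rc_13_1 lc_e_rc_35_2 lc_e_rc_37_0 lc_e_rc_35_2 lc_e_rc_37_0 lc_e_rc_35_2 lc_e_Cert_tree lc_e_rc_28_3 lc_e_rc_35_2 lc_e_rc_4_1 lc_e_Cert_tree lc_e_rc_34_0 lc_e_rc_36_4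 lc_e_rc_13_1 lc_e_rc_37_2 lc_e_rc_35_2 lc_e_rc_35_2 lc_e_rc_35_2 lc_e_Cert_tree lc_e_rc_36_2 lc_e_rc_28_3 lc_e_rc_35_2 lc_e_rc_35_2 lc_e_rc_36_2 lc_e_rc_36_0 lc_e_rc_35_2 lc_e_rc_35_2 lc_e_Cert_tree lc_e_rc_35_2 lc_e_Cert_tree lc_e_rc_34_0 lc_e_rc_35_2 lc_e_rc_34_0 lc_e_rc_21_1 lc_e_rc_38_0 lc_e_rc_13_1) (@D3.rec (fun _ => (Cert rels S Gen.e)) lc_e_rc_35_2 lc_e_Cert_tree lc_e_rc_13_1 lc_e_rc_34_0 lc_e_rc_39_2 lc_e_rc_39_2 lc_e_rc_35_2 lc_e_Cert_tree lc_e_rc_37_2 lc_e_Cert_tree lc_e_rc_34_0 lc_e_rc_39_2 lc_e_rc_37_0 lc_e_rc_37_2 lc_e_rc_36_2 lc_e_rc_39_2 lc_e_rc_35_2 lc_e_rc_35_2 lc_e_rc_35_2 lc_e_Cert_tree lc_e_rc_4_1 lc_e_rc_34_0 lc_e_rc_39_2 lc_e_rc_34_0 lc_e_rc_39_2 lc_e_rc_36_2 lc_e_rc_39_2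 lc_e_rc_35_2 lc_e_rc_35_2 lc_e_rc_35_2 lc_e_rc_39_2 lc_e_rc_35_2 lc_e_rc_21_1 lc_e_rc_4_3 lc_e_rc_28_3 lc_e_rc_35_2 lc_e_rc_28_3 lc_e_rc_36_2 lc_e_rc_37_2 lc_e_Cert_tree lc_e_rc_34_0 lc_e_rc_39_2 lc_e_rc_34_0 lc_e_rc_39_2 lc_e_Cert_tree lc_e_rc_34_0 lc_e_rc_39_2 lc_e_rc_36_2 lc_e_rc_39_2 lc_e_rc_35_2 lc_e_rc_37_2) (@D3.rec (fun _ => (Cert rels S Gen.e)) lc_e_rc_39_2 lc_e_rc_37_2 lc_e_rc_37_2 lc_e_rc_39_2 lc_e_rc_35_2 lc_e_rc_4_1 lc_e_rc_35_2 lc_e_Cert_tree lc_e_rc_39_2 lc_e_rc_39_2 lc_e_rc_28_3 lc_e_rc_34_0 lc_e_rc_39_2 lc_e_rc_39_2 lc_e_rc_35_2 lc_e_rc_34_0 lc_e_rc_39_2 lc_e_rc_28_3 lc_e_rc_39_2 lc_e_rc_35_2 lc_e_rc_37_2 lc_e_rc_39_2 lc_e_rc_35_2 lc_e_rc_35_2 lc_e_Cert_tree lc_e_rc_39_2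 lc_e_rc_35_2 lc_e_rc_28_3 lc_e_rc_4_3 lc_e_rc_35_2 lc_e_rc_13_3 lc_e_rc_21_1 lc_e_rc_21_1 lc_e_rc_34_0 lc_e_rc_35_2 lc_e_rc_28_3 lc_e_rc_21_1 lc_e_rc_35_2 lc_e_Cert_tree lc_e_rc_21_1 lc_e_rc_35_0 lc_e_rc_36_2 lc_e_rc_28_3 lc_e_rc_35_2 lc_e_Cert_tree lc_e_rc_37_2 lc_e_rc_34_0 lc_e_rc_4_1 lc_e_rc_34_0 lc_e_rc_39_2 lc_e_rc_39_2) (@D3.rec (fun _ => (Cert rels S Gen.e)) lc_e_rc_34_0 lc_e_rc_39_2 lc_e_Cert_tree lc_e_rc_34_0 lc_e_rc_39_2 lc_e_rc_39_2 lc_e_rc_35_2 lc_e_rc_35_2 lc_e_rc_37_2 lc_e_rc_21_1 lc_e_rc_13_1 lc_e_rc_39_2 lc_e_Cert_tree lc_e_rc_39_2 lc_e_Cert_tree lc_e_rc_34_0 lc_e_rc_39_2 lc_e_Cert_tree lc_e_rc_34_0 lc_e_rc_39_2 lc_e_Cert_tree lc_e_rc_34_0 lc_e_rc_39_2 lc_e_rc_36_2 lc_e_rc_39_2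 lc_e_rc_35_2 lc_e_rc_37_0 lc_e_rc_37_2 lc_e_rc_37_2 lc_e_rc_21_1 lc_e_rc_39_2 lc_e_rc_35_2 lc_e_rc_39_2 lc_e_rc_35_2 lc_e_rc_35_2 lc_e_rc_35_2 lc_e_Cert_tree lc_e_rc_28_3 lc_e_rc_34_0 lc_e_rc_39_2 lc_e_rc_34_0 lc_e_rc_39_2 lc_e_rc_36_2 lc_e_rc_39_2 lc_e_rc_35_2 lc_e_rc_37_2 lc_e_rc_34_0 lc_e_rc_39_2 lc_e_rc_21_1 lc_e_rc_39_2 lc_e_rc_35_2) (@D3.rec (fun _ => (Cert rels S Gen.e)) lc_e_rc_39_2 lc_e_rc_35_2 lc_e_rc_37_2 lc_e_rc_36_2 lc_e_rc_35_2 lc_e_rc_37_2 lc_e_rc_37_2 lc_e_rc_21_1 lc_e_rc_35_2 lc_e_Cert_tree lc_e_rc_35_2 lc_e_rc_28_3 lc_e_rc_35_2 lc_e_rc_35_2 lc_e_Cert_tree lc_e_Cert_tree lc_e_rc_34_0 lc_e_rc_4_1 lc_e_rc_37_2 lc_e_rc_35_2 lc_e_Cert_tree lc_e_rc_13_1 lc_e_rc_13_1 lc_e_rc_35_2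 lc_e_rc_35_2 lc_e_rc_35_2 lc_e_Cert_tree lc_e_rc_4_1 lc_e_Cert_tree lc_e_rc_34_0 lc_e_rc_39_0 lc_e_rc_34_0 lc_e_Cert_tree lc_e_rc_34_0 lc_e_rc_39_2 lc_e_Cert_tree lc_e_rc_34_0 lc_e_rc_39_2 lc_e_rc_36_2 lc_e_rc_39_2 lc_e_rc_35_2 lc_e_rc_34_0 lc_e_rc_39_2 lc_e_rc_34_0 lc_e_rc_39_2 lc_e_rc_36_2 lc_e_rc_39_2 lc_e_rc_35_2 lc_e_rc_34_0 lc_e_rc_39_2 lc_e_rc_28_3)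
def ce_e_15 : D2 → D3 → (Cert rels S Gen.e) := @D2.rec (fun _ => D3 → (Cert rels S Gen.e)) (@D3.rec (fun _ => (Cert rels S Gen.e)) lc_e_rc_21_1 lc_e_rc_39_2 lc_e_rc_35_2 lc_e_rc_37_2 lc_e_rc_39_2 lc_e_rc_35_2 lc_e_rc_37_2 lc_e_rc_36_2 lc_e_rc_35_2 lc_e_rc_35_2 lc_e_rc_21_1 lc_e_rc_35_2 lc_e_Cert_tree lc_e_rc_39_2 lc_e_rc_35_2 lc_e_rc_28_3 lc_e_Cert_tree lc_e_rc_39_2 lc_e_rc_34_0 lc_e_rc_37_2 lc_e_rc_39_2 lc_e_rc_21_1 lc_e_rc_36_2 lc_e_rc_39_2 lc_e_rc_35_2 lc_e_rc_28_3 lc_e_rc_36_2 lc_e_rc_39_2 lc_e_rc_35_2 lc_e_rc_36_2 lc_e_rc_35_2 lc_e_rc_34_0 lc_e_rc_39_2 lc_e_rc_13_1 lc_e_rc_13_1 lc_e_rc_39_2 lc_e_rc_35_2 lc_e_rc_36_2 lc_e_rc_35_2 lc_e_rc_28_3 lc_e_rc_21_1 lc_e_rc_21_1 lc_e_rc_35_2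 lc_e_Cert_tree lc_e_rc_38_2 lc_e_rc_39_2 lc_e_rc_35_2 lc_e_rc_28_3 lc_e_rc_36_2 lc_e_rc_35_2 lc_e_rc_37_2) (@D3.rec (fun _ => (Cert rels S Gen.e)) lc_e_rc_35_2 lc_e_rc_37_2 lc_e_rc_35_2 lc_e_rc_13_1 lc_e_rc_35_2 lc_e_Cert_tree lc_e_rc_21_1 lc_e_rc_35_2 lc_e_Cert_tree lc_e_rc_34_0 lc_e_rc_39_2 lc_e_rc_35_2 lc_e_Cert_tree lc_e_rc_21_1 lc_e_Cert_tree lc_e_rc_34_0 lc_e_rc_35_2 lc_e_rc_21_1 lc_e_rc_21_3 lc_e_rc_34_0 lc_e_rc_36_2 lc_e_rc_35_2 lc_e_rc_38_0 lc_e_Cert_tree lc_e_Cert_tree lc_e_Cert_tree lc_e_rc_34_0 lc_e_rc_13_1 lc_e_rc_37_2 lc_e_rc_35_2 lc_e_rc_28_3 lc_e_rc_35_2 lc_e_Cert_tree lc_e_rc_4_1 lc_e_rc_39_2 lc_e_rc_35_2 lc_e_rc_13_1 lc_e_rc_13_1 lc_e_rc_35_2 lc_e_Cert_tree lc_e_rc_39_2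 lc_e_rc_35_2 lc_e_Cert_tree lc_e_rc_34_0 lc_e_rc_21_1 lc_e_rc_36_2 lc_e_rc_35_2 lc_e_rc_38_0 lc_e_rc_34_0 lc_e_rc_39_2 lc_e_rc_34_0) (@D3.rec (fun _ => (Cert rels S Gen.e)) lc_e_rc_39_2 lc_e_rc_39_2 lc_e_rc_35_2 lc_e_rc_35_0 lc_e_rc_4_1 lc_e_rc_21_1 lc_e_rc_13_1 lc_e_rc_34_0 lc_e_rc_39_2 lc_e_rc_39_2 lc_e_rc_35_2 lc_e_rc_39_2 lc_e_rc_35_2 lc_e_rc_35_2 lc_e_rc_35_2 lc_e_rc_28_3 lc_e_rc_28_3 lc_e_Cert_tree lc_e_rc_34_0 lc_e_rc_39_2 lc_e_rc_34_0 lc_e_rc_39_2 lc_e_rc_36_2 lc_e_rc_39_2 lc_e_rc_35_2 lc_e_rc_34_0 lc_e_rc_39_2 lc_e_rc_36_2 lc_e_rc_39_2 lc_e_rc_35_2 lc_e_rc_39_2 lc_e_rc_35_2 lc_e_rc_36_2 lc_e_rc_35_2 lc_e_rc_35_2 lc_e_rc_28_3 lc_e_rc_34_0 lc_e_rc_39_2 lc_e_rc_36_2 lc_e_rc_39_2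 lc_e_rc_35_2 lc_e_rc_39_2 lc_e_rc_35_2 lc_e_rc_36_2 lc_e_rc_35_2 lc_e_rc_39_2 lc_e_rc_35_2 lc_e_rc_28_3 lc_e_rc_21_1 lc_e_rc_35_2 lc_e_rc_38_2) (@D3.rec (fun _ => (Cert rels S Gen.e)) lc_e_rc_39_2 lc_e_rc_35_2 lc_e_rc_28_3 lc_e_rc_35_2 lc_e_rc_28_3 lc_e_rc_35_2 lc_e_rc_39_2 lc_e_rc_35_2 lc_e_Cert_tree lc_e_rc_21_1 lc_e_rc_38_2 lc_e_rc_37_2 lc_e_rc_37_2 lc_e_Cert_tree lc_e_rc_35_2 lc_e_Cert_tree lc_e_Cert_tree lc_e_rc_34_0 lc_e_rc_38_2 lc_e_rc_35_2 lc_e_rc_34_0 lc_e_rc_39_2 lc_e_rc_39_2 lc_e_rc_35_2 lc_e_rc_4_3 lc_e_rc_34_0 lc_e_rc_39_2 lc_e_rc_34_0 lc_e_rc_39_2 lc_e_rc_39_2 lc_e_rc_35_2 lc_e_rc_28_3 lc_e_rc_39_2 lc_e_rc_35_2 lc_e_rc_35_2 lc_e_rc_38_2 lc_e_rc_28_3 lc_e_rc_34_0 lc_e_rc_39_2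 lc_e_rc_34_0 lc_e_rc_39_2 lc_e_rc_36_2 lc_e_rc_39_2 lc_e_rc_35_2 lc_e_rc_34_0 lc_e_rc_39_2 lc_e_rc_36_2 lc_e_rc_39_2 lc_e_rc_35_2 lc_e_rc_39_2 lc_e_rc_35_2) (@D3.rec (fun _ => (Cert rels S Gen.e)) lc_e_rc_37_2 lc_e_rc_36_2 lc_e_rc_35_2 lc_e_rc_35_2 lc_e_rc_39_2 lc_e_rc_21_1 lc_e_rc_34_0 lc_e_rc_39_2 lc_e_rc_36_2 lc_e_rc_39_2 lc_e_rc_35_2 lc_e_rc_28_3 lc_e_rc_36_2 lc_e_rc_39_2 lc_e_rc_35_2 lc_e_rc_37_2 lc_e_rc_36_2 lc_e_rc_35_2 lc_e_rc_13_1 lc_e_rc_39_2 lc_e_rc_35_2 lc_e_rc_36_2 lc_e_rc_35_2 lc_e_rc_28_3 lc_e_rc_21_1 lc_e_rc_35_2 lc_e_rc_35_2 lc_e_rc_28_3 lc_e_rc_37_2 lc_e_rc_36_2 lc_e_rc_35_2 lc_e_rc_37_2 lc_e_rc_35_2 lc_e_rc_28_3 lc_e_rc_35_2 lc_e_rc_13_3 lc_e_Cert_tree lc_e_rc_34_1 lc_e_rc_39_0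 lc_e_rc_37_2 lc_e_Cert_tree lc_e_rc_13_1 lc_e_Cert_tree lc_e_rc_34_0 lc_e_rc_39_2 lc_e_rc_28_3 lc_e_rc_28_3 lc_e_rc_39_2 lc_e_rc_21_1 lc_e_rc_13_1 lc_e_rc_39_2) (@D3.rec (fun _ => (Cert rels S Gen.e)) lc_e_rc_35_2 lc_e_rc_34_0 lc_e_rc_39_2 lc_e_Cert_tree lc_e_rc_34_0 lc_e_rc_39_2 lc_e_rc_36_2 lc_e_rc_39_2 lc_e_rc_35_2 lc_e_Cert_tree lc_e_rc_34_0 lc_e_rc_39_2 lc_e_rc_28_3 lc_e_rc_21_1 lc_e_rc_39_2 lc_e_rc_35_2 lc_e_rc_37_2 lc_e_rc_36_2 lc_e_rc_35_2 lc_e_rc_34_0 lc_e_rc_39_2 lc_e_rc_35_2 lc_e_rc_39_2 lc_e_rc_35_2 lc_e_rc_34_0 lc_e_rc_39_2 lc_e_rc_36_2 lc_e_rc_39_2 lc_e_rc_35_2 lc_e_rc_37_2 lc_e_rc_36_2 lc_e_rc_35_2 lc_e_rc_28_3 lc_e_rc_39_2 lc_e_rc_35_2 lc_e_rc_36_2 lc_e_rc_35_2 lc_e_rc_28_3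 lc_e_rc_21_1 lc_e_rc_21_1 lc_e_rc_35_2 lc_e_rc_38_2 lc_e_rc_39_2 lc_e_rc_35_2 lc_e_rc_28_3 lc_e_rc_35_2 lc_e_rc_37_2 lc_e_rc_36_2 lc_e_rc_35_2 lc_e_rc_37_2 lc_e_rc_37_2) (@D3.rec (fun _ => (Cert rels S Gen.e)) lc_e_rc_35_2 lc_e_rc_28_3 lc_e_rc_4_3 lc_e_rc_21_1 lc_e_rc_35_2 lc_e_rc_21_1 lc_e_rc_39_2 lc_e_rc_35_2 lc_e_Cert_tree lc_e_rc_28_1 lc_e_rc_38_2 lc_e_rc_37_2 lc_e_rc_38_2 lc_e_rc_28_3 lc_e_rc_13_1 lc_e_rc_28_1 lc_e_rc_34_0 lc_e_rc_39_2 lc_e_rc_28_3 lc_e_rc_36_2 lc_e_rc_39_2 lc_e_rc_35_2 lc_e_rc_37_2 lc_e_rc_36_2 lc_e_rc_35_2 lc_e_rc_34_0 lc_e_rc_39_2 lc_e_rc_13_1 lc_e_rc_13_1 lc_e_rc_39_2 lc_e_rc_35_2 lc_e_rc_36_2 lc_e_rc_35_2 lc_e_rc_28_3 lc_e_rc_37_2 lc_e_rc_36_2 lc_e_rc_35_2 lc_e_Cert_tree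 lc_e_rc_37_2 lc_e_rc_37_2 lc_e_rc_35_2 lc_e_rc_28_3 lc_e_rc_39_2 lc_e_rc_35_2 lc_e_rc_13_1 lc_e_rc_13_1 lc_e_rc_13_1 lc_e_rc_13_1 lc_e_rc_35_2 lc_e_Cert_tree lc_e_rc_36_2) (@D3.rec (fun _ => (Cert rels S Gen.e)) lc_e_rc_35_2 lc_e_rc_36_2 lc_e_rc_39_2 lc_e_rc_35_2 lc_e_rc_21_1 lc_e_rc_21_1 lc_e_rc_35_2 lc_e_Cert_tree lc_e_rc_34_0 lc_e_rc_39_2 lc_e_rc_35_2 lc_e_Cert_tree lc_e_rc_21_1 lc_e_rc_35_2 lc_e_rc_13_1 lc_e_rc_35_2 lc_e_rc_21_1 lc_e_rc_37_2 lc_e_rc_37_2 lc_e_rc_35_2 lc_e_Cert_tree lc_e_rc_34_0 lc_e_rc_37_2 lc_e_rc_35_2 lc_e_Cert_tree lc_e_rc_36_0 lc_e_rc_56_32 lc_e_rc_13_1 lc_e_rc_13_1 lc_e_rc_28_3 lc_e_rc_21_1 lc_e_rc_35_2 lc_e_Cert_tree lc_e_rc_21_3 lc_e_rc_34_0 lc_e_rc_36_2 lc_e_rc_35_2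 lc_e_Cert_tree lc_e_Cert_tree lc_e_rc_34_0 lc_e_rc_34_1 lc_e_rc_13_1 lc_e_rc_13_1 lc_e_rc_35_2 lc_e_Cert_tree lc_e_rc_34_0 lc_e_rc_38_2 lc_e_rc_34_0 lc_e_rc_13_1 lc_e_rc_37_2 lc_e_Cert_tree) (@D3.rec (fun _ => (Cert rels S Gen.e)) lc_e_Cert_tree lc_e_rc_34_0 lc_e_rc_38_2 lc_e_Cert_tree lc_e_Cert_tree lc_e_rc_34_0 lc_e_Cert_tree lc_e_rc_34_0 lc_e_rc_13_1 lc_e_rc_35_0 lc_e_rc_28_3 lc_e_rc_37_2 lc_e_rc_39_2 lc_e_rc_35_2 lc_e_rc_34_0 lc_e_rc_13_1 lc_e_rc_34_0 lc_e_rc_39_2 lc_e_Cert_tree lc_e_Cert_tree lc_e_rc_34_0 lc_e_rc_36_2 lc_e_rc_21_1 lc_e_rc_28_1 lc_e_rc_21_1 lc_e_rc_37_0 lc_e_rc_39_2 lc_e_rc_35_2 lc_e_rc_28_3 lc_e_rc_35_2 lc_e_Cert_tree lc_e_rc_28_3 lc_e_rc_39_2 lc_e_rc_35_2 lc_e_Cert_tree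 lc_e_Cert_tree lc_e_rc_34_0 lc_e_rc_34_0 lc_e_rc_36_2 lc_e_rc_35_2 lc_e_rc_35_2 lc_e_rc_4_3 lc_e_rc_39_2 lc_e_rc_35_2 lc_e_rc_35_2 lc_e_rc_39_2 lc_e_rc_35_2 lc_e_rc_39_2 lc_e_rc_35_2 lc_e_rc_35_2 lc_e_rc_35_2) (@D3.rec (fun _ => (Cert rels S Gen.e)) lc_e_rc_37_2 lc_e_rc_39_2 lc_e_rc_35_2 lc_e_rc_39_2 lc_e_rc_35_2 lc_e_rc_35_2 lc_e_rc_13_1 lc_e_rc_39_2 lc_e_rc_35_2 lc_e_rc_28_3 lc_e_rc_28_3 lc_e_rc_21_1 lc_e_rc_21_1 lc_e_rc_35_2 lc_e_rc_39_2 lc_e_rc_35_2 lc_e_rc_28_3 lc_e_rc_35_2 lc_e_rc_13_1 lc_e_rc_35_2 lc_e_rc_21_1 lc_e_rc_35_2 lc_e_rc_4_3 lc_e_rc_35_2 lc_e_rc_36_2 lc_e_rc_35_2 lc_e_rc_4_1 lc_e_rc_35_2 lc_e_rc_35_2 lc_e_rc_34_0 lc_e_rc_39_2 lc_e_rc_39_2 lc_e_rc_35_2 lc_e_rc_39_2 lc_e_rc_35_2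 lc_e_rc_35_2 lc_e_rc_35_2 lc_e_rc_34_0 lc_e_rc_39_2 lc_e_rc_39_2 lc_e_rc_35_2 lc_e_rc_35_2 lc_e_Cert_tree lc_e_rc_28_3 lc_e_rc_39_2 lc_e_rc_34_0 lc_e_rc_21_3 lc_e_rc_4_1 lc_e_rc_34_1 lc_e_rc_36_4 lc_e_Cert_tree) (@D3.rec (fun _ => (Cert rels S Gen.e)) lc_e_rc_34_0 lc_e_rc_38_2 lc_e_rc_35_0 lc_e_rc_34_0 lc_e_rc_36_2 lc_e_rc_39_2 lc_e_rc_35_2 lc_e_rc_35_2 lc_e_rc_28_3 lc_e_rc_39_2 lc_e_rc_35_2 lc_e_rc_35_2 lc_e_rc_35_2 lc_e_rc_21_1 lc_e_Cert_tree lc_e_rc_34_0 lc_e_rc_39_2 lc_e_rc_36_2 lc_e_rc_39_2 lc_e_rc_35_2 lc_e_rc_34_0 lc_e_rc_39_2 lc_e_rc_28_3 lc_e_rc_36_2 lc_e_rc_39_2 lc_e_rc_35_2 lc_e_rc_36_2 lc_e_rc_35_2 lc_e_rc_13_1 lc_e_rc_39_2 lc_e_rc_35_2 lc_e_rc_28_3 lc_e_rc_28_3 lc_e_rc_21_1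 lc_e_rc_35_2 lc_e_Cert_tree lc_e_rc_35_2 lc_e_rc_28_3 lc_e_rc_38_2 lc_e_rc_36_2 lc_e_rc_35_2 lc_e_Cert_tree lc_e_rc_35_2 lc_e_Cert_tree lc_e_rc_35_2 lc_e_rc_21_1 lc_e_rc_34_0 lc_e_rc_34_0 lc_e_rc_35_0 lc_e_rc_21_1 lc_e_rc_37_0) (@D3.rec (fun _ => (Cert rels S Gen.e)) lc_e_rc_28_3 lc_e_rc_35_2 lc_e_Cert_tree lc_e_rc_35_2 lc_e_rc_13_1 lc_e_rc_35_2 lc_e_Cert_tree lc_e_rc_35_2 lc_e_Cert_tree lc_e_rc_34_0 lc_e_rc_4_1 lc_e_Cert_tree lc_e_rc_34_0 lc_e_rc_34_0 lc_e_rc_36_2 lc_e_rc_4_3 lc_e_rc_34_0 lc_e_rc_39_2 lc_e_rc_28_3 lc_e_rc_39_2 lc_e_rc_35_2 lc_e_rc_35_2 lc_e_rc_34_0 lc_e_rc_39_2 lc_e_rc_39_2 lc_e_rc_35_2 lc_e_rc_34_0 lc_e_rc_39_2 lc_e_rc_28_3 lc_e_rc_39_2 lc_e_rc_35_2 lc_e_rc_35_2 lc_e_rc_28_3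 lc_e_rc_13_1 lc_e_rc_39_2 lc_e_rc_35_2 lc_e_rc_21_1 lc_e_rc_35_2 lc_e_rc_28_3 lc_e_rc_21_1 lc_e_rc_35_2 lc_e_Cert_tree lc_e_rc_39_2 lc_e_rc_35_2 lc_e_rc_28_3 lc_e_rc_36_0 lc_e_rc_21_1 lc_e_rc_13_1 lc_e_rc_35_2 lc_e_rc_34_1 lc_e_rc_35_2) (@D3.rec (fun _ => (Cert rels S Gen.e)) lc_e_rc_35_2 lc_e_rc_38_2 lc_e_rc_21_1 lc_e_rc_39_2 lc_e_rc_35_2 lc_e_rc_13_1 lc_e_rc_35_2 lc_e_rc_13_1 lc_e_rc_39_2 lc_e_rc_35_2 lc_e_rc_28_3 lc_e_rc_35_2 lc_e_rc_28_3 lc_e_rc_36_2 lc_e_rc_35_2 lc_e_Cert_tree lc_e_rc_35_2 lc_e_rc_28_3 lc_e_rc_4_1 lc_e_rc_39_2 lc_e_rc_35_2 lc_e_rc_13_1 lc_e_rc_13_1 lc_e_rc_13_1 lc_e_rc_13_1 lc_e_rc_13_1 lc_e_rc_35_2 lc_e_Cert_tree lc_e_rc_28_3 lc_e_rc_35_2 lc_e_rc_28_3 lc_e_rc_39_2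 lc_e_rc_35_2 lc_e_rc_21_1 lc_e_rc_21_1 lc_e_rc_35_2 lc_e_Cert_tree lc_e_rc_34_0 lc_e_rc_39_2 lc_e_rc_35_2 lc_e_rc_28_3 lc_e_rc_21_1 lc_e_rc_38_2 lc_e_rc_39_2 lc_e_rc_35_2 lc_e_rc_13_1 lc_e_rc_35_2 lc_e_rc_34_1 lc_e_rc_35_2 lc_e_rc_28_3 lc_e_rc_34_0) (@D3.rec (fun _ => (Cert rels S Gen.e)) lc_e_rc_4_1 lc_e_rc_35_2 lc_e_rc_13_1 lc_e_rc_13_1 lc_e_rc_34_1 lc_e_rc_21_1 lc_e_rc_35_2 lc_e_Cert_tree lc_e_rc_36_2 lc_e_rc_35_2 lc_e_rc_21_1 lc_e_rc_39_2 lc_e_rc_35_2 lc_e_rc_35_2 lc_e_rc_37_2 lc_e_Cert_tree lc_e_Cert_tree lc_e_rc_39_2 lc_e_rc_35_2 lc_e_Cert_tree lc_e_rc_34_0 lc_e_rc_13_1 lc_e_rc_13_1 lc_e_Cert_tree lc_e_rc_34_0 lc_e_rc_39_2 lc_e_Cert_tree lc_e_rc_34_0 lc_e_rc_36_2 lc_e_rc_36_2 lc_e_Cert_tree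 lc_e_rc_39_2 lc_e_rc_34_0 lc_e_Cert_tree lc_e_Cert_tree lc_e_rc_34_0 lc_e_rc_13_1 lc_e_rc_38_2 lc_e_rc_34_0 lc_e_rc_37_0 lc_e_rc_34_0 lc_e_rc_36_2 lc_e_rc_36_4 lc_e_rc_34_1 lc_e_rc_38_2 lc_e_rc_34_0 lc_e_rc_36_2 lc_e_rc_39_2 lc_e_rc_35_2 lc_e_rc_39_2 lc_e_rc_35_2) (@D3.rec (fun _ => (Cert rels S Gen.e)) lc_e_rc_39_2 lc_e_rc_35_2 lc_e_rc_35_2 lc_e_Cert_tree lc_e_rc_34_0 lc_e_rc_37_2 lc_e_Cert_tree lc_e_rc_39_2 lc_e_rc_34_0 lc_e_rc_28_3 lc_e_rc_39_2 lc_e_rc_35_2 lc_e_rc_35_2 lc_e_Cert_tree lc_e_rc_39_2 lc_e_rc_34_0 lc_e_rc_35_2 lc_e_rc_28_3 lc_e_rc_35_2 lc_e_rc_28_3 lc_e_rc_21_1 lc_e_rc_35_2 lc_e_Cert_tree lc_e_rc_35_2 lc_e_rc_28_3 lc_e_rc_35_2 lc_e_Cert_tree lc_e_rc_34_0 lc_e_rc_28_3 lc_e_rc_34_0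 lc_e_rc_13_1 lc_e_rc_39_2 lc_e_rc_35_2 lc_e_Cert_tree lc_e_rc_34_0 lc_e_rc_36_2 lc_e_rc_13_1 lc_e_rc_28_3 lc_e_rc_39_2 lc_e_rc_35_2 lc_e_rc_35_2 lc_e_rc_37_2 lc_e_rc_36_0 lc_e_rc_39_2 lc_e_rc_35_2 lc_e_rc_35_2 lc_e_rc_35_2 lc_e_Cert_tree lc_e_rc_28_3 lc_e_rc_34_0 lc_e_rc_34_0) (@D3.rec (fun _ => (Cert rels S Gen.e)) lc_e_rc_36_2 lc_e_rc_39_2 lc_e_rc_35_2 lc_e_rc_28_3 lc_e_rc_28_3 lc_e_rc_35_2 lc_e_Cert_tree lc_e_rc_28_3 lc_e_Cert_tree lc_e_rc_34_0 lc_e_rc_34_0 lc_e_rc_39_2 lc_e_rc_35_2 lc_e_rc_36_2 lc_e_rc_35_2 lc_e_rc_39_2 lc_e_rc_35_2 lc_e_rc_35_2 lc_e_Cert_tree lc_e_rc_28_3 lc_e_rc_39_2 lc_e_rc_35_2 lc_e_rc_13_1 lc_e_rc_13_1 lc_e_rc_35_2 lc_e_Cert_tree lc_e_rc_39_2 lc_e_rc_35_2 lc_e_rc_21_1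 lc_e_rc_35_2 lc_e_Cert_tree lc_e_rc_34_0 lc_e_rc_39_2 lc_e_rc_35_2 lc_e_rc_35_2 lc_e_rc_21_1 lc_e_rc_38_2 lc_e_rc_37_2 lc_e_rc_13_1 lc_e_rc_28_3 lc_e_rc_34_0 lc_e_rc_35_2 lc_e_rc_36_4 lc_e_rc_36_2 lc_e_rc_13_1 lc_e_Cert_tree lc_e_Cert_tree lc_e_rc_34_0 lc_e_Cert_tree lc_e_rc_13_1 lc_e_Cert_tree) (@D3.rec (fun _ => (Cert rels S Gen.e)) lc_e_rc_34_0 lc_e_rc_39_2 lc_e_Cert_tree lc_e_rc_34_0 lc_e_rc_36_2 lc_e_rc_36_2 lc_e_rc_37_2 lc_e_rc_36_2 lc_e_rc_39_2 lc_e_rc_35_2 lc_e_rc_35_2 lc_e_rc_28_3 lc_e_rc_35_2 lc_e_rc_39_2 lc_e_rc_35_2 lc_e_rc_35_2 lc_e_rc_35_2 lc_e_rc_28_3 lc_e_rc_36_2 lc_e_rc_39_2 lc_e_rc_35_2 lc_e_rc_36_2 lc_e_rc_36_2 lc_e_rc_35_2 lc_e_rc_13_1 lc_e_rc_39_2 lc_e_rc_35_2 lc_e_rc_28_3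 lc_e_rc_28_3 lc_e_rc_36_2 lc_e_rc_35_2 lc_e_rc_37_2 lc_e_rc_35_2 lc_e_rc_28_3 lc_e_rc_13_1 lc_e_rc_13_1 lc_e_rc_13_1 lc_e_rc_35_2 lc_e_rc_28_3 lc_e_rc_35_2 lc_e_rc_35_2 lc_e_rc_28_3 lc_e_rc_28_3 lc_e_rc_21_1 lc_e_rc_13_1 lc_e_rc_35_2 lc_e_rc_35_2 lc_e_rc_39_2 lc_e_rc_35_2 lc_e_rc_13_1 lc_e_rc_13_1) (@D3.rec (fun _ => (Cert rels S Gen.e)) lc_e_Cert_tree lc_e_rc_35_2 lc_e_rc_13_1 lc_e_rc_39_2 lc_e_rc_35_2 lc_e_rc_35_2 lc_e_rc_35_2 lc_e_rc_28_3 lc_e_rc_39_2 lc_e_rc_35_2 lc_e_rc_36_2 lc_e_rc_35_2 lc_e_rc_39_2 lc_e_rc_35_2 lc_e_rc_35_2 lc_e_rc_28_3 lc_e_rc_39_2 lc_e_rc_35_2 lc_e_rc_13_1 lc_e_rc_35_2 lc_e_rc_39_2 lc_e_rc_35_2 lc_e_rc_28_3 lc_e_rc_21_1 lc_e_rc_4_1 lc_e_rc_13_1 lc_e_rc_39_2 lc_e_rc_34_0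 lc_e_rc_39_2 lc_e_rc_13_1 lc_e_rc_39_2 lc_e_rc_35_2 lc_e_rc_35_2 lc_e_rc_28_3 lc_e_rc_35_2 lc_e_Cert_tree lc_e_rc_35_2 lc_e_rc_35_2 lc_e_rc_39_2 lc_e_rc_35_2 lc_e_rc_36_2 lc_e_rc_35_2 lc_e_rc_39_2 lc_e_rc_35_2 lc_e_rc_28_3 lc_e_rc_35_2 lc_e_rc_28_3 lc_e_rc_39_2 lc_e_rc_35_2 lc_e_rc_21_1 lc_e_rc_36_2) (@D3.rec (fun _ => (Cert rels S Gen.e)) lc_e_rc_28_3 lc_e_rc_13_1 lc_e_rc_35_2 lc_e_rc_37_2 lc_e_rc_36_2 lc_e_rc_36_2 lc_e_rc_39_2 lc_e_rc_35_2 lc_e_rc_21_1 lc_e_rc_21_1 lc_e_rc_35_2 lc_e_rc_28_3 lc_e_rc_39_2 lc_e_rc_35_2 lc_e_rc_28_3 lc_e_rc_21_1 lc_e_rc_35_2 lc_e_rc_35_2 lc_e_rc_38_2 lc_e_rc_13_1 lc_e_rc_4_1 lc_e_rc_21_1 lc_e_rc_35_2 lc_e_Cert_tree lc_e_rc_35_2 lc_e_rc_4_1 lc_e_rc_38_2 lc_e_rc_21_1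 lc_e_rc_36_2 lc_e_rc_35_2 lc_e_rc_36_2 lc_e_rc_35_2 lc_e_rc_28_3 lc_e_rc_13_1 lc_e_rc_35_2 lc_e_rc_35_2 lc_e_rc_35_2 lc_e_Cert_tree lc_e_rc_34_0 lc_e_rc_37_2 lc_e_rc_35_2 lc_e_rc_28_3 lc_e_rc_21_1 lc_e_rc_4_1 lc_e_rc_35_2 lc_e_rc_37_2 lc_e_rc_39_2 lc_e_rc_13_1 lc_e_rc_13_1 lc_e_rc_35_0 lc_e_rc_35_2) (@D3.rec (fun _ => (Cert rels S Gen.e)) lc_e_rc_28_3 lc_e_rc_39_2 lc_e_rc_35_2 lc_e_rc_39_2 lc_e_rc_35_2 lc_e_rc_21_1 lc_e_rc_35_2 lc_e_Cert_tree lc_e_Cert_tree lc_e_rc_34_0 lc_e_rc_36_2 lc_e_rc_35_2 lc_e_rc_28_3 lc_e_rc_21_1 lc_e_rc_13_1 lc_e_rc_36_2 lc_e_rc_35_2 lc_e_rc_35_2 lc_e_rc_38_2 lc_e_Cert_tree lc_e_rc_34_0 lc_e_rc_36_2 lc_e_rc_35_2 lc_e_rc_4_1 lc_e_rc_13_1 lc_e_Cert_tree lc_e_rc_21_1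 lc_e_rc_35_2 lc_e_Cert_tree lc_e_rc_34_0 lc_e_rc_36_2 lc_e_rc_13_1 lc_e_rc_21_1 lc_e_rc_38_2 lc_e_rc_39_2 lc_e_Cert_tree lc_e_rc_39_2 lc_e_rc_35_2 lc_e_rc_4_3 lc_e_rc_35_2 lc_e_rc_4_3 lc_e_rc_13_1 lc_e_rc_35_2 lc_e_Cert_tree lc_e_rc_39_2 lc_e_rc_35_2 lc_e_Cert_tree lc_e_rc_34_0 lc_e_rc_35_2 lc_e_rc_21_1 lc_e_rc_35_2) (@D3.rec (fun _ => (Cert rels S Gen.e)) lc_e_rc_39_2 lc_e_rc_38_2 lc_e_rc_38_2 lc_e_rc_36_2 lc_e_rc_36_2 lc_e_rc_13_1 lc_e_Cert_tree lc_e_rc_39_2 lc_e_rc_35_2 lc_e_rc_39_2 lc_e_Cert_tree lc_e_rc_38_2 lc_e_Cert_tree lc_e_Cert_tree lc_e_rc_34_0 lc_e_rc_13_3 lc_e_rc_34_0 lc_e_rc_36_2 lc_e_rc_34_0 lc_e_Cert_tree lc_e_Cert_tree lc_e_rc_34_0 lc_e_rc_34_0 lc_e_rc_36_2 lc_e_rc_35_2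 lc_e_rc_38_2 lc_e_rc_36_0 lc_e_rc_4_1 lc_e_rc_35_2 lc_e_rc_35_2 lc_e_rc_35_2 lc_e_rc_28_3 lc_e_rc_21_1 lc_e_rc_28_3 lc_e_rc_36_4 lc_e_rc_55_58 lc_e_rc_21_1 lc_e_rc_13_1 lc_e_rc_36_2 lc_e_rc_39_2 lc_e_rc_35_2 lc_e_rc_39_2 lc_e_rc_35_2 lc_e_rc_28_3 lc_e_rc_36_2 lc_e_rc_39_2 lc_e_rc_35_2 lc_e_rc_21_1 lc_e_rc_39_2 lc_e_rc_35_2 lc_e_rc_39_2) (@D3.rec (fun _ => (Cert rels S Gen.e)) lc_e_rc_35_2 lc_e_rc_36_2 lc_e_rc_35_2 lc_e_rc_39_2 lc_e_rc_36_2 lc_e_rc_39_2 lc_e_rc_35_2 lc_e_rc_21_1 lc_e_rc_35_2 lc_e_rc_35_2 lc_e_rc_28_3 lc_e_rc_4_3 lc_e_rc_35_2 lc_e_rc_21_1 lc_e_Cert_tree lc_e_rc_21_1 lc_e_rc_39_2 lc_e_rc_35_2 lc_e_rc_35_2 lc_e_rc_35_2 lc_e_rc_35_2 lc_e_rc_39_2 lc_e_rc_35_2 lc_e_rc_39_2 lc_e_rc_35_2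 lc_e_rc_36_2 lc_e_rc_35_2 lc_e_rc_28_3 lc_e_rc_37_2 lc_e_rc_36_4 lc_e_rc_35_2 lc_e_rc_35_2 lc_e_rc_38_2 lc_e_rc_39_2 lc_e_rc_35_2 lc_e_rc_28_3 lc_e_rc_39_2 lc_e_rc_35_2 lc_e_Cert_tree lc_e_rc_21_1 lc_e_rc_35_2 lc_e_rc_35_2 lc_e_rc_38_0 lc_e_rc_13_1 lc_e_Cert_tree lc_e_Cert_tree lc_e_rc_34_0 lc_e_rc_13_1 lc_e_rc_34_0 lc_e_rc_39_2 lc_e_Cert_tree) (@D3.rec (fun _ => (Cert rels S Gen.e)) lc_e_rc_34_0 lc_e_rc_39_2 lc_e_rc_36_2 lc_e_rc_39_2 lc_e_rc_35_2 lc_e_rc_34_0 lc_e_rc_39_2 lc_e_rc_34_0 lc_e_rc_39_2 lc_e_rc_36_2 lc_e_rc_39_2 lc_e_rc_35_2 lc_e_rc_28_3 lc_e_rc_39_2 lc_e_rc_35_2 lc_e_rc_39_2 lc_e_rc_35_2 lc_e_rc_38_2 lc_e_rc_37_2 lc_e_rc_36_2 lc_e_rc_35_2 lc_e_Cert_tree lc_e_rc_35_2 lc_e_rc_28_3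 lc_e_rc_34_0 lc_e_rc_21_1 lc_e_rc_39_2 lc_e_rc_35_2 lc_e_rc_36_2 lc_e_rc_39_2 lc_e_rc_35_2 lc_e_rc_37_2 lc_e_rc_36_2 lc_e_rc_35_2 lc_e_rc_13_1 lc_e_rc_39_2 lc_e_rc_35_2 lc_e_rc_28_3 lc_e_rc_35_2 lc_e_rc_28_3 lc_e_rc_21_1 lc_e_rc_35_2 lc_e_Cert_tree lc_e_rc_35_2 lc_e_rc_28_3 lc_e_rc_36_2 lc_e_rc_35_2 lc_e_Cert_tree lc_e_rc_37_2 lc_e_rc_35_2 lc_e_rc_28_3) (@D3.rec (fun _ => (Cert rels S Gen.e)) lc_e_rc_13_3 lc_e_rc_35_2 lc_e_Cert_tree lc_e_rc_34_0 lc_e_Cert_tree lc_e_rc_21_1 lc_e_rc_21_3 lc_e_rc_34_0 lc_e_rc_28_1 lc_e_rc_37_2 lc_e_Cert_tree lc_e_rc_21_1 lc_e_Cert_tree lc_e_rc_34_0 lc_e_rc_13_1 lc_e_Cert_tree lc_e_rc_13_1 lc_e_rc_13_1 lc_e_rc_35_2 lc_e_Cert_tree lc_e_rc_39_2 lc_e_rc_35_2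 lc_e_Cert_tree lc_e_rc_34_0 lc_e_rc_34_0 lc_e_rc_36_2 lc_e_rc_34_0 lc_e_rc_39_2 lc_e_rc_39_2 lc_e_rc_35_2 lc_e_rc_38_2 lc_e_Cert_tree lc_e_rc_34_0 lc_e_rc_39_2 lc_e_rc_34_0 lc_e_rc_39_2 lc_e_rc_39_2 lc_e_rc_35_2 lc_e_rc_4_1 lc_e_rc_39_2 lc_e_rc_35_2 lc_e_rc_39_2 lc_e_rc_35_2 lc_e_rc_4_1 lc_e_rc_13_1 lc_e_rc_35_2 lc_e_rc_21_3 lc_e_Cert_tree lc_e_rc_36_2 lc_e_rc_39_2 lc_e_rc_35_2) (@D3.rec (fun _ => (Cert rels S Gen.e)) lc_e_rc_39_2 lc_e_rc_35_2 lc_e_rc_28_3 lc_e_rc_39_2 lc_e_rc_35_2 lc_e_rc_39_2 lc_e_rc_35_2 lc_e_rc_4_3 lc_e_rc_35_2 lc_e_rc_21_3 lc_e_rc_36_2 lc_e_rc_39_2 lc_e_rc_35_2 lc_e_rc_35_2 lc_e_rc_35_2 lc_e_Cert_tree lc_e_rc_38_2 lc_e_rc_39_2 lc_e_rc_35_2 lc_e_rc_28_3 lc_e_rc_39_2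 lc_e_rc_35_2 lc_e_Cert_tree lc_e_rc_4_1 lc_e_rc_37_2 lc_e_rc_36_2 lc_e_Cert_tree lc_e_rc_34_0 lc_e_rc_38_2 lc_e_rc_34_0 lc_e_Cert_tree lc_e_rc_34_0 lc_e_rc_39_2 lc_e_rc_36_2 lc_e_rc_39_2 lc_e_rc_35_2 lc_e_Cert_tree lc_e_rc_34_0 lc_e_rc_39_2 lc_e_rc_28_3 lc_e_rc_21_1 lc_e_rc_39_2 lc_e_rc_35_2 lc_e_rc_36_2 lc_e_rc_35_2 lc_e_rc_35_2 lc_e_rc_39_2 lc_e_rc_35_2 lc_e_rc_34_0 lc_e_rc_39_2 lc_e_rc_28_3) (@D3.rec (fun _ => (Cert rels S Gen.e)) lc_e_rc_39_2 lc_e_rc_35_2 lc_e_rc_37_2 lc_e_rc_36_2 lc_e_rc_35_2 lc_e_rc_28_3 lc_e_rc_39_2 lc_e_rc_35_2 lc_e_rc_28_3 lc_e_rc_35_2 lc_e_rc_28_3 lc_e_rc_21_1 lc_e_rc_35_2 lc_e_Cert_tree lc_e_rc_38_2 lc_e_rc_39_2 lc_e_rc_35_2 lc_e_rc_28_3 lc_e_rc_35_2 lc_e_Cert_tree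 lc_e_rc_37_2 lc_e_rc_35_2 lc_e_rc_28_3 lc_e_rc_37_2 lc_e_rc_35_2 lc_e_rc_34_0 lc_e_rc_39_2 lc_e_rc_35_2 lc_e_Cert_tree lc_e_rc_21_1 lc_e_rc_38_2 lc_e_rc_21_3 lc_e_rc_13_1 lc_e_rc_13_1 lc_e_rc_35_2 lc_e_rc_34_0 lc_e_rc_39_2 lc_e_rc_39_2 lc_e_rc_35_2 lc_e_rc_35_2 lc_e_Cert_tree lc_e_rc_37_2 lc_e_rc_37_2 lc_e_rc_35_2 lc_e_rc_28_3 lc_e_rc_4_1 lc_e_rc_39_2 lc_e_rc_35_2 lc_e_rc_13_1 lc_e_rc_13_1 lc_e_rc_13_1) (@D3.rec (fun _ => (Cert rels S Gen.e)) lc_e_rc_35_2 lc_e_Cert_tree lc_e_rc_39_2 lc_e_rc_35_2 lc_e_rc_21_1 lc_e_rc_21_1 lc_e_rc_35_2 lc_e_Cert_tree lc_e_rc_34_0 lc_e_rc_39_2 lc_e_rc_35_2 lc_e_Cert_tree lc_e_rc_21_1 lc_e_rc_35_2 lc_e_Cert_tree lc_e_rc_34_0 lc_e_rc_37_2 lc_e_rc_35_2 lc_e_Cert_tree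 lc_e_rc_21_1 lc_e_rc_13_1 lc_e_rc_13_1 lc_e_rc_34_0 lc_e_rc_21_1 lc_e_rc_35_2 lc_e_rc_36_2 lc_e_rc_35_2 lc_e_Cert_tree lc_e_Cert_tree lc_e_rc_34_0 lc_e_rc_13_1 lc_e_rc_35_2 lc_e_rc_28_3 lc_e_rc_38_2 lc_e_rc_35_2 lc_e_Cert_tree lc_e_Cert_tree lc_e_rc_34_0 lc_e_rc_36_0 lc_e_Cert_tree lc_e_Cert_tree lc_e_rc_34_0 lc_e_Cert_tree lc_e_rc_34_0 lc_e_rc_35_0 lc_e_rc_36_2 lc_e_Cert_tree lc_e_rc_34_0 lc_e_rc_4_1 lc_e_rc_35_2 lc_e_rc_13_1)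
def ce_e_16 : D2 → D3 → (Cert rels S Gen.e) := @D2.rec (fun _ => D3 → (Cert rels S Gen.e)) (@D3.rec (fun _ => (Cert rels S Gen.e)) lc_e_rc_13_1 lc_e_Cert_tree lc_e_rc_34_0 lc_e_rc_39_2 lc_e_Cert_tree lc_e_rc_34_0 lc_e_rc_36_2 lc_e_rc_34_0 lc_e_rc_36_2 lc_e_rc_36_2 lc_e_rc_37_2 lc_e_rc_35_2 lc_e_rc_38_0 lc_e_rc_36_2 lc_e_rc_35_2 lc_e_rc_35_2 lc_e_rc_36_0 lc_e_rc_28_3 lc_e_rc_38_0 lc_e_Cert_tree lc_e_rc_39_2 lc_e_rc_28_3 lc_e_rc_38_2 lc_e_rc_34_0 lc_e_rc_36_4 lc_e_rc_21_1 lc_e_rc_37_0 lc_e_rc_39_2 lc_e_rc_13_1 lc_e_rc_37_2 lc_e_rc_35_2 lc_e_rc_35_2 lc_e_Cert_tree lc_e_rc_28_3 lc_e_rc_37_0 lc_e_Cert_tree lc_e_Cert_tree lc_e_rc_34_0 lc_e_rc_36_0 lc_e_rc_38_2 lc_e_rc_34_0 lc_e_rc_38_2 lc_e_rc_36_0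 lc_e_Cert_tree lc_e_rc_38_2 lc_e_rc_34_0 lc_e_rc_4_1 lc_e_rc_21_1 lc_e_rc_37_0 lc_e_rc_36_2 lc_e_Cert_tree) (@D3.rec (fun _ => (Cert rels S Gen.e)) lc_e_rc_34_0 lc_e_rc_38_2 lc_e_rc_38_2 lc_e_rc_34_0 lc_e_rc_36_2 lc_e_rc_34_0 lc_e_rc_39_2 lc_e_rc_39_2 lc_e_rc_35_2 lc_e_rc_35_2 lc_e_rc_34_0 lc_e_rc_39_2 lc_e_rc_34_0 lc_e_rc_39_2 lc_e_rc_36_2 lc_e_rc_39_2 lc_e_rc_35_2 lc_e_rc_37_0 lc_e_rc_37_2 lc_e_rc_39_2 lc_e_rc_35_2 lc_e_rc_36_4 lc_e_rc_28_3 lc_e_rc_34_0 lc_e_rc_39_2 lc_e_rc_39_2 lc_e_rc_35_2 lc_e_rc_39_2 lc_e_rc_35_2 lc_e_rc_39_2 lc_e_rc_35_2 lc_e_rc_37_2 lc_e_rc_35_2 lc_e_rc_28_3 lc_e_Cert_tree lc_e_Cert_tree lc_e_rc_34_0 lc_e_rc_39_2 lc_e_rc_36_2 lc_e_rc_39_2 lc_e_rc_35_2 lc_e_rc_39_2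 lc_e_rc_35_2 lc_e_rc_34_0 lc_e_rc_39_2 lc_e_rc_28_3 lc_e_rc_39_2 lc_e_rc_35_2 lc_e_rc_37_2 lc_e_rc_39_2 lc_e_rc_35_2) (@D3.rec (fun _ => (Cert rels S Gen.e)) lc_e_rc_4_1 lc_e_Cert_tree lc_e_rc_39_2 lc_e_rc_35_2 lc_e_rc_28_3 lc_e_rc_39_2 lc_e_rc_34_0 lc_e_rc_39_2 lc_e_rc_4_1 lc_e_rc_21_1 lc_e_rc_39_2 lc_e_rc_35_2 lc_e_rc_35_2 lc_e_rc_39_2 lc_e_rc_35_2 lc_e_rc_28_3 lc_e_rc_35_2 lc_e_Cert_tree lc_e_rc_39_2 lc_e_rc_35_2 lc_e_rc_28_3 lc_e_rc_37_2 lc_e_rc_34_0 lc_e_rc_35_2 lc_e_Cert_tree lc_e_rc_21_1 lc_e_rc_21_1 lc_e_rc_28_3 lc_e_Cert_tree lc_e_Cert_tree lc_e_rc_34_0 lc_e_Cert_tree lc_e_rc_35_2 lc_e_Cert_tree lc_e_rc_34_0 lc_e_rc_36_2 lc_e_rc_39_2 lc_e_rc_35_2 lc_e_rc_39_2 lc_e_rc_35_2 lc_e_rc_34_0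 lc_e_rc_39_2 lc_e_rc_28_3 lc_e_rc_39_2 lc_e_rc_35_2 lc_e_rc_35_2 lc_e_rc_37_2 lc_e_rc_39_2 lc_e_rc_34_0 lc_e_rc_39_2 lc_e_rc_34_0) (@D3.rec (fun _ => (Cert rels S Gen.e)) lc_e_rc_39_2 lc_e_rc_36_2 lc_e_rc_39_2 lc_e_rc_35_2 lc_e_rc_34_0 lc_e_rc_39_2 lc_e_rc_39_2 lc_e_rc_35_2 lc_e_rc_34_0 lc_e_rc_39_2 lc_e_rc_28_3 lc_e_rc_21_1 lc_e_rc_39_2 lc_e_rc_35_2 lc_e_rc_39_2 lc_e_rc_35_2 lc_e_rc_37_0 lc_e_rc_37_2 lc_e_rc_21_1 lc_e_rc_35_2 lc_e_Cert_tree lc_e_rc_35_2 lc_e_rc_28_3 lc_e_rc_28_1 lc_e_rc_34_0 lc_e_rc_39_2 lc_e_rc_39_2 lc_e_rc_35_2 lc_e_rc_39_2 lc_e_rc_35_2 lc_e_rc_37_2 lc_e_rc_36_2 lc_e_rc_35_2 lc_e_rc_37_2 lc_e_rc_39_2 lc_e_rc_35_2 lc_e_rc_21_1 lc_e_rc_35_2 lc_e_Cert_tree lc_e_rc_35_2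 lc_e_rc_28_3 lc_e_rc_35_2 lc_e_rc_37_2 lc_e_Cert_tree lc_e_rc_35_2 lc_e_Cert_tree lc_e_rc_34_0 lc_e_Cert_tree lc_e_rc_37_2 lc_e_rc_36_2 lc_e_rc_34_0) (@D3.rec (fun _ => (Cert rels S Gen.e)) lc_e_rc_34_0 lc_e_rc_34_0 lc_e_rc_37_2 lc_e_Cert_tree lc_e_rc_34_0 lc_e_Cert_tree lc_e_rc_34_0 lc_e_rc_37_2 lc_e_rc_34_0 lc_e_rc_36_2 lc_e_rc_34_0 lc_e_rc_39_2 lc_e_rc_36_2 lc_e_rc_39_2 lc_e_rc_35_2 lc_e_rc_34_0 lc_e_rc_39_2 lc_e_rc_28_3 lc_e_rc_21_1 lc_e_rc_39_2 lc_e_rc_35_2 lc_e_rc_36_2 lc_e_rc_35_2 lc_e_rc_39_2 lc_e_rc_35_2 lc_e_rc_28_3 lc_e_rc_39_2 lc_e_rc_35_2 lc_e_rc_36_2 lc_e_rc_35_2 lc_e_rc_28_3 lc_e_rc_39_2 lc_e_rc_35_2 lc_e_rc_28_3 lc_e_rc_28_3 lc_e_rc_21_1 lc_e_rc_35_2 lc_e_Cert_tree lc_e_rc_39_2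 lc_e_rc_35_2 lc_e_rc_28_3 lc_e_rc_37_2 lc_e_rc_35_2 lc_e_rc_37_2 lc_e_Cert_tree lc_e_rc_35_2 lc_e_rc_37_2 lc_e_rc_34_0 lc_e_rc_35_2 lc_e_Cert_tree lc_e_rc_21_1) (@D3.rec (fun _ => (Cert rels S Gen.e)) lc_e_rc_34_0 lc_e_rc_4_1 lc_e_rc_36_2 lc_e_rc_35_2 lc_e_rc_36_2 lc_e_rc_35_2 lc_e_rc_28_3 lc_e_rc_36_2 lc_e_rc_35_2 lc_e_Cert_tree lc_e_rc_35_2 lc_e_rc_28_3 lc_e_rc_4_1 lc_e_rc_39_2 lc_e_rc_35_2 lc_e_rc_13_1 lc_e_rc_13_1 lc_e_rc_13_1 lc_e_rc_13_1 lc_e_rc_35_2 lc_e_Cert_tree lc_e_rc_35_2 lc_e_rc_36_2 lc_e_rc_39_2 lc_e_rc_35_2 lc_e_rc_21_1 lc_e_rc_35_2 lc_e_Cert_tree lc_e_rc_34_0 lc_e_rc_39_2 lc_e_rc_35_2 lc_e_Cert_tree lc_e_rc_21_1 lc_e_rc_35_2 lc_e_rc_37_2 lc_e_Cert_tree lc_e_rc_13_1 lc_e_Cert_tree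 lc_e_rc_34_0 lc_e_rc_35_2 lc_e_Cert_tree lc_e_rc_37_2 lc_e_rc_34_0 lc_e_rc_36_2 lc_e_rc_35_2 lc_e_Cert_tree lc_e_Cert_tree lc_e_rc_34_0 lc_e_rc_13_1 lc_e_rc_34_0 lc_e_rc_37_2) (@D3.rec (fun _ => (Cert rels S Gen.e)) lc_e_rc_34_0 lc_e_Cert_tree lc_e_rc_34_0 lc_e_Cert_tree lc_e_rc_34_0 lc_e_rc_39_2 lc_e_rc_35_2 lc_e_Cert_tree lc_e_rc_34_0 lc_e_rc_4_1 lc_e_rc_35_2 lc_e_rc_13_1 lc_e_rc_13_1 lc_e_Cert_tree lc_e_rc_34_0 lc_e_rc_39_2 lc_e_Cert_tree lc_e_Cert_tree lc_e_rc_34_0 lc_e_rc_36_2 lc_e_rc_39_2 lc_e_rc_35_2 lc_e_rc_39_2 lc_e_rc_35_2 lc_e_rc_35_2 lc_e_rc_21_1 lc_e_rc_13_1 lc_e_rc_39_2 lc_e_rc_35_2 lc_e_rc_35_2 lc_e_rc_35_2 lc_e_rc_28_3 lc_e_rc_28_3 lc_e_Cert_tree lc_e_rc_34_0 lc_e_rc_36_2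 lc_e_rc_39_2 lc_e_rc_35_2 lc_e_rc_39_2 lc_e_rc_35_2 lc_e_rc_36_2 lc_e_rc_35_2 lc_e_rc_36_2 lc_e_rc_39_2 lc_e_rc_35_2 lc_e_rc_36_2 lc_e_rc_35_2 lc_e_rc_35_2 lc_e_rc_28_3 lc_e_rc_35_2 lc_e_rc_28_3) (@D3.rec (fun _ => (Cert rels S Gen.e)) lc_e_Cert_tree lc_e_rc_39_2 lc_e_rc_35_2 lc_e_rc_36_2 lc_e_rc_35_2 lc_e_rc_35_2 lc_e_rc_35_2 lc_e_rc_28_3 lc_e_rc_35_2 lc_e_rc_35_2 lc_e_rc_35_2 lc_e_rc_28_3 lc_e_rc_39_2 lc_e_rc_35_2 lc_e_Cert_tree lc_e_rc_21_1 lc_e_Cert_tree lc_e_rc_35_2 lc_e_Cert_tree lc_e_Cert_tree lc_e_rc_34_0 lc_e_rc_38_2 lc_e_Cert_tree lc_e_rc_34_0 lc_e_Cert_tree lc_e_rc_34_0 lc_e_rc_34_0 lc_e_rc_39_2 lc_e_rc_35_2 lc_e_rc_35_2 lc_e_rc_39_2 lc_e_rc_35_2 lc_e_rc_39_2 lc_e_rc_35_2 lc_e_rc_35_2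 lc_e_rc_28_3 lc_e_rc_35_2 lc_e_Cert_tree lc_e_rc_28_3 lc_e_rc_28_3 lc_e_rc_36_2 lc_e_rc_39_2 lc_e_rc_35_2 lc_e_rc_21_1 lc_e_rc_39_2 lc_e_rc_35_2 lc_e_rc_36_2 lc_e_rc_35_2 lc_e_rc_35_2 lc_e_rc_39_2 lc_e_rc_35_2) (@D3.rec (fun _ => (Cert rels S Gen.e)) lc_e_rc_37_2 lc_e_rc_36_2 lc_e_rc_35_2 lc_e_rc_35_2 lc_e_rc_28_3 lc_e_rc_37_2 lc_e_rc_35_2 lc_e_rc_39_2 lc_e_Cert_tree lc_e_rc_21_1 lc_e_rc_36_2 lc_e_rc_39_2 lc_e_rc_35_2 lc_e_rc_36_2 lc_e_rc_35_2 lc_e_rc_36_2 lc_e_rc_28_3 lc_e_rc_37_2 lc_e_rc_36_2 lc_e_rc_35_2 lc_e_rc_37_2 lc_e_rc_35_2 lc_e_rc_28_3 lc_e_rc_21_1 lc_e_rc_13_1 lc_e_rc_35_2 lc_e_rc_35_2 lc_e_rc_36_2 lc_e_rc_39_2 lc_e_rc_35_2 lc_e_rc_35_2 lc_e_rc_28_3 lc_e_Cert_tree lc_e_rc_21_1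 lc_e_rc_37_2 lc_e_rc_35_2 lc_e_rc_38_2 lc_e_rc_35_2 lc_e_Cert_tree lc_e_rc_35_2 lc_e_Cert_tree lc_e_rc_39_0 lc_e_Cert_tree lc_e_rc_34_0 lc_e_Cert_tree lc_e_Cert_tree lc_e_rc_34_0 lc_e_rc_34_0 lc_e_rc_35_2 lc_e_rc_28_3 lc_e_rc_21_1) (@D3.rec (fun _ => (Cert rels S Gen.e)) lc_e_rc_13_1 lc_e_rc_39_2 lc_e_rc_39_2 lc_e_rc_35_2 lc_e_rc_34_0 lc_e_rc_39_2 lc_e_rc_21_1 lc_e_rc_39_2 lc_e_rc_35_2 lc_e_rc_37_2 lc_e_rc_36_2 lc_e_rc_35_2 lc_e_rc_34_0 lc_e_rc_39_2 lc_e_rc_4_1 lc_e_rc_13_1 lc_e_rc_39_2 lc_e_rc_35_2 lc_e_rc_38_2 lc_e_rc_13_1 lc_e_rc_28_3 lc_e_rc_21_1 lc_e_rc_21_1 lc_e_rc_35_2 lc_e_Cert_tree lc_e_rc_37_2 lc_e_rc_35_2 lc_e_rc_35_2 lc_e_rc_39_2 lc_e_rc_35_2 lc_e_rc_35_2 lc_e_rc_36_2 lc_e_rc_35_2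 lc_e_rc_39_2 lc_e_rc_35_2 lc_e_rc_37_2 lc_e_rc_36_2 lc_e_rc_35_2 lc_e_rc_37_2 lc_e_rc_37_2 lc_e_rc_35_2 lc_e_rc_28_3 lc_e_rc_28_3 lc_e_rc_35_2 lc_e_rc_4_1 lc_e_rc_36_2 lc_e_rc_39_2 lc_e_rc_35_2 lc_e_rc_21_1 lc_e_rc_35_2 lc_e_rc_28_3) (@D3.rec (fun _ => (Cert rels S Gen.e)) lc_e_rc_39_2 lc_e_rc_35_2 lc_e_Cert_tree lc_e_rc_21_1 lc_e_rc_37_2 lc_e_rc_35_2 lc_e_rc_4_1 lc_e_rc_37_2 lc_e_rc_35_2 lc_e_Cert_tree lc_e_rc_28_1 lc_e_rc_21_1 lc_e_rc_35_2 lc_e_Cert_tree lc_e_rc_35_2 lc_e_Cert_tree lc_e_Cert_tree lc_e_rc_34_0 lc_e_rc_28_1 lc_e_rc_38_2 lc_e_rc_38_2 lc_e_rc_13_1 lc_e_rc_39_2 lc_e_rc_35_2 lc_e_rc_28_3 lc_e_rc_37_2 lc_e_rc_36_2 lc_e_rc_35_2 lc_e_Cert_tree lc_e_rc_37_2 lc_e_rc_35_2 lc_e_rc_28_3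 lc_e_rc_39_2 lc_e_rc_35_2 lc_e_rc_13_1 lc_e_rc_37_0 lc_e_rc_13_1 lc_e_rc_35_2 lc_e_rc_35_2 lc_e_rc_37_2 lc_e_rc_35_2 lc_e_rc_36_2 lc_e_rc_39_2 lc_e_rc_35_2 lc_e_rc_37_2 lc_e_rc_37_2 lc_e_rc_35_2 lc_e_Cert_tree lc_e_rc_34_0 lc_e_rc_37_2 lc_e_rc_35_2) (@D3.rec (fun _ => (Cert rels S Gen.e)) lc_e_Cert_tree lc_e_rc_21_1 lc_e_rc_35_2 lc_e_rc_13_1 lc_e_rc_13_1 lc_e_rc_13_1 lc_e_rc_13_1 lc_e_rc_13_1 lc_e_Cert_tree lc_e_rc_34_0 lc_e_rc_38_2 lc_e_rc_35_2 lc_e_rc_36_2 lc_e_rc_36_2 lc_e_rc_35_2 lc_e_rc_39_2 lc_e_Cert_tree lc_e_rc_21_1 lc_e_rc_35_2 lc_e_Cert_tree lc_e_Cert_tree lc_e_rc_34_0 lc_e_rc_36_2 lc_e_rc_35_2 lc_e_Cert_tree lc_e_Cert_tree lc_e_rc_34_0 lc_e_rc_13_1 lc_e_rc_35_2 lc_e_rc_28_3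 lc_e_rc_37_2 lc_e_rc_35_2 lc_e_Cert_tree lc_e_rc_4_3 lc_e_rc_34_0 lc_e_rc_35_2 lc_e_Cert_tree lc_e_Cert_tree lc_e_rc_34_0 lc_e_rc_38_2 lc_e_rc_13_1 lc_e_rc_13_1 lc_e_Cert_tree lc_e_rc_35_2 lc_e_Cert_tree lc_e_Cert_tree lc_e_rc_34_0 lc_e_rc_36_2 lc_e_Cert_tree lc_e_Cert_tree lc_e_rc_34_0) (@D3.rec (fun _ => (Cert rels S Gen.e)) lc_e_Cert_tree lc_e_rc_34_0 lc_e_rc_13_1 lc_e_rc_13_1 lc_e_Cert_tree lc_e_rc_34_0 lc_e_rc_13_1 lc_e_Cert_tree lc_e_Cert_tree lc_e_rc_34_0 lc_e_Cert_tree lc_e_rc_34_0 lc_e_rc_13_1 lc_e_Cert_tree lc_e_rc_34_0 lc_e_rc_34_0 lc_e_Cert_tree lc_e_rc_34_0 lc_e_rc_28_3 lc_e_rc_39_2 lc_e_Cert_tree lc_e_Cert_tree lc_e_rc_34_0 lc_e_rc_34_0 lc_e_rc_36_2 lc_e_Cert_tree lc_e_rc_35_2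 lc_e_rc_28_3 lc_e_rc_37_0 lc_e_rc_35_2 lc_e_Cert_tree lc_e_rc_35_2 lc_e_rc_34_0 lc_e_rc_35_2 lc_e_rc_39_2 lc_e_Cert_tree lc_e_rc_34_0 lc_e_rc_34_0 lc_e_rc_21_1 lc_e_rc_36_0 lc_e_rc_13_1 lc_e_rc_35_2 lc_e_rc_28_3 lc_e_rc_35_2 lc_e_rc_35_2 lc_e_rc_35_2 lc_e_rc_28_3 lc_e_rc_35_2 lc_e_rc_35_2 lc_e_rc_35_2 lc_e_rc_13_1) (@D3.rec (fun _ => (Cert rels S Gen.e)) lc_e_rc_35_2 lc_e_rc_28_3 lc_e_rc_35_2 lc_e_rc_21_1 lc_e_rc_35_2 lc_e_rc_37_2 lc_e_rc_35_2 lc_e_rc_35_2 lc_e_rc_21_1 lc_e_rc_13_1 lc_e_rc_37_2 lc_e_rc_35_2 lc_e_Cert_tree lc_e_rc_4_1 lc_e_rc_39_2 lc_e_rc_35_2 lc_e_rc_35_2 lc_e_rc_35_2 lc_e_rc_28_3 lc_e_rc_28_3 lc_e_rc_39_2 lc_e_rc_35_2 lc_e_rc_35_2 lc_e_Cert_tree lc_e_Cert_tree lc_e_rc_34_0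 lc_e_rc_21_1 lc_e_rc_4_1 lc_e_rc_13_1 lc_e_rc_34_0 lc_e_rc_36_2 lc_e_rc_36_2 lc_e_rc_35_2 lc_e_rc_28_3 lc_e_rc_28_3 lc_e_rc_35_2 lc_e_Cert_tree lc_e_rc_28_3 lc_e_rc_39_2 lc_e_rc_34_0 lc_e_rc_39_2 lc_e_rc_39_2 lc_e_rc_35_2 lc_e_rc_36_2 lc_e_rc_35_2 lc_e_rc_39_2 lc_e_rc_35_2 lc_e_rc_28_3 lc_e_rc_28_3 lc_e_rc_36_2 lc_e_rc_35_2) (@D3.rec (fun _ => (Cert rels S Gen.e)) lc_e_Cert_tree lc_e_rc_35_2 lc_e_rc_28_3 lc_e_rc_13_1 lc_e_rc_35_2 lc_e_Cert_tree lc_e_rc_28_3 lc_e_rc_35_2 lc_e_rc_35_2 lc_e_Cert_tree lc_e_rc_34_0 lc_e_rc_28_3 lc_e_rc_21_1 lc_e_Cert_tree lc_e_rc_35_2 lc_e_rc_21_1 lc_e_rc_34_0 lc_e_rc_34_0 lc_e_Cert_tree lc_e_rc_36_2 lc_e_rc_4_1 lc_e_Cert_tree lc_e_Cert_tree lc_e_rc_35_2 lc_e_Cert_tree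 lc_e_rc_34_0 lc_e_rc_13_1 lc_e_Cert_tree lc_e_rc_34_0 lc_e_Cert_tree lc_e_rc_34_0 lc_e_rc_36_2 lc_e_rc_34_0 lc_e_rc_36_2 lc_e_rc_36_2 lc_e_rc_4_3 lc_e_rc_39_2 lc_e_rc_35_2 lc_e_rc_28_3 lc_e_rc_35_2 lc_e_Cert_tree lc_e_rc_35_2 lc_e_rc_28_3 lc_e_rc_39_2 lc_e_rc_35_2 lc_e_rc_35_2 lc_e_rc_28_3 lc_e_rc_39_2 lc_e_rc_35_2 lc_e_rc_35_2 lc_e_rc_28_3) (@D3.rec (fun _ => (Cert rels S Gen.e)) lc_e_rc_35_2 lc_e_Cert_tree lc_e_rc_28_3 lc_e_rc_28_3 lc_e_rc_13_1 lc_e_rc_35_2 lc_e_Cert_tree lc_e_rc_4_1 lc_e_rc_39_2 lc_e_rc_35_2 lc_e_rc_35_2 lc_e_Cert_tree lc_e_rc_34_0 lc_e_rc_35_2 lc_e_rc_28_3 lc_e_rc_21_1 lc_e_rc_13_1 lc_e_rc_13_1 lc_e_rc_21_1 lc_e_rc_35_2 lc_e_Cert_tree lc_e_rc_35_2 lc_e_rc_35_2 lc_e_rc_13_1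 lc_e_rc_35_2 lc_e_Cert_tree lc_e_rc_35_2 lc_e_rc_28_3 lc_e_rc_39_2 lc_e_rc_35_2 lc_e_rc_35_2 lc_e_Cert_tree lc_e_rc_34_0 lc_e_rc_28_3 lc_e_rc_21_1 lc_e_rc_4_1 lc_e_rc_35_2 lc_e_rc_13_1 lc_e_rc_13_1 lc_e_rc_13_1 lc_e_rc_13_1 lc_e_rc_13_1 lc_e_Cert_tree lc_e_rc_34_0 lc_e_rc_28_3 lc_e_rc_39_2 lc_e_rc_35_2 lc_e_rc_39_2 lc_e_Cert_tree lc_e_rc_21_1 lc_e_rc_35_2) (@D3.rec (fun _ => (Cert rels S Gen.e)) lc_e_Cert_tree lc_e_Cert_tree lc_e_rc_34_0 lc_e_rc_36_2 lc_e_rc_35_2 lc_e_rc_28_3 lc_e_rc_21_1 lc_e_rc_13_1 lc_e_rc_39_2 lc_e_rc_35_2 lc_e_rc_35_2 lc_e_rc_28_3 lc_e_Cert_tree lc_e_rc_36_2 lc_e_rc_4_1 lc_e_rc_21_1 lc_e_rc_13_1 lc_e_Cert_tree lc_e_rc_35_2 lc_e_Cert_tree lc_e_rc_34_0 lc_e_rc_35_2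 lc_e_rc_38_2 lc_e_rc_34_0 lc_e_rc_34_0 lc_e_rc_39_2 lc_e_Cert_tree lc_e_rc_34_0 lc_e_rc_36_2 lc_e_rc_13_1 lc_e_Cert_tree lc_e_rc_34_0 lc_e_Cert_tree lc_e_rc_34_0 lc_e_rc_36_2 lc_e_rc_37_2 lc_e_rc_34_0 lc_e_rc_34_0 lc_e_rc_34_0 lc_e_rc_13_1 lc_e_rc_35_2 lc_e_rc_35_2 lc_e_rc_35_2 lc_e_Cert_tree lc_e_rc_28_3 lc_e_rc_34_0 lc_e_Cert_tree lc_e_rc_34_0 lc_e_rc_36_2 lc_e_rc_35_2 lc_e_rc_28_3) (@D3.rec (fun _ => (Cert rels S Gen.e)) lc_e_rc_35_2 lc_e_Cert_tree lc_e_rc_28_3 lc_e_rc_34_0 lc_e_rc_28_3 lc_e_rc_35_2 lc_e_rc_28_3 lc_e_rc_39_2 lc_e_rc_35_2 lc_e_rc_35_2 lc_e_Cert_tree lc_e_rc_34_0 lc_e_rc_35_2 lc_e_rc_21_1 lc_e_Cert_tree lc_e_rc_34_0 lc_e_rc_36_2 lc_e_rc_13_1 lc_e_rc_39_2 lc_e_Cert_tree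 lc_e_rc_34_0 lc_e_rc_36_2 lc_e_rc_37_2 lc_e_rc_28_3 lc_e_rc_35_2 lc_e_Cert_tree lc_e_rc_28_3 lc_e_rc_35_2 lc_e_rc_28_3 lc_e_Cert_tree lc_e_rc_34_0 lc_e_rc_21_1 lc_e_rc_36_2 lc_e_rc_36_2 lc_e_rc_35_2 lc_e_Cert_tree lc_e_rc_28_3 lc_e_rc_35_2 lc_e_Cert_tree lc_e_rc_34_0 lc_e_rc_21_1 lc_e_rc_34_0 lc_e_rc_36_2 lc_e_rc_35_2 lc_e_Cert_tree lc_e_rc_35_2 lc_e_rc_13_1 lc_e_rc_35_2 lc_e_Cert_tree lc_e_Cert_tree lc_e_rc_34_0) (@D3.rec (fun _ => (Cert rels S Gen.e)) lc_e_rc_21_1 lc_e_rc_35_2 lc_e_Cert_tree lc_e_rc_13_1 lc_e_rc_13_1 lc_e_Cert_tree lc_e_rc_34_0 lc_e_rc_39_2 lc_e_Cert_tree lc_e_rc_35_2 lc_e_Cert_tree lc_e_Cert_tree lc_e_rc_34_0 lc_e_rc_36_2 lc_e_rc_36_2 lc_e_rc_35_2 lc_e_rc_21_1 lc_e_rc_13_1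 lc_e_rc_36_2 lc_e_rc_37_2 lc_e_rc_34_0 lc_e_rc_34_0 lc_e_rc_34_0 lc_e_Cert_tree lc_e_rc_34_0 lc_e_rc_36_2 lc_e_Cert_tree lc_e_rc_34_0 lc_e_rc_37_2 lc_e_rc_36_2 lc_e_rc_35_2 lc_e_rc_28_3 lc_e_rc_21_1 lc_e_rc_35_2 lc_e_rc_35_2 lc_e_rc_28_3 lc_e_rc_28_3 lc_e_rc_21_1 lc_e_rc_36_2 lc_e_rc_35_2 lc_e_rc_36_2 lc_e_rc_36_2 lc_e_rc_28_3 lc_e_rc_13_1 lc_e_rc_35_2 lc_e_rc_28_3 lc_e_rc_35_2 lc_e_rc_35_2 lc_e_rc_28_3 lc_e_rc_35_2 lc_e_rc_28_3) (@D3.rec (fun _ => (Cert rels S Gen.e)) lc_e_rc_21_1 lc_e_rc_13_1 lc_e_rc_13_1 lc_e_rc_13_1 lc_e_rc_28_3 lc_e_rc_35_2 lc_e_rc_35_2 lc_e_Cert_tree lc_e_rc_21_1 lc_e_rc_21_1 lc_e_rc_13_1 lc_e_rc_35_2 lc_e_rc_13_1 lc_e_Cert_tree lc_e_Cert_tree lc_e_rc_34_0 lc_e_rc_35_2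 lc_e_Cert_tree lc_e_rc_35_2 lc_e_rc_28_3 lc_e_rc_21_1 lc_e_rc_35_2 lc_e_rc_35_2 lc_e_rc_28_3 lc_e_rc_35_2 lc_e_rc_28_3 lc_e_rc_21_1 lc_e_rc_35_2 lc_e_rc_13_1 lc_e_rc_28_3 lc_e_rc_39_2 lc_e_rc_35_2 lc_e_rc_21_1 lc_e_rc_13_1 lc_e_rc_39_2 lc_e_rc_35_2 lc_e_rc_13_1 lc_e_rc_35_2 lc_e_Cert_tree lc_e_rc_39_2 lc_e_rc_35_2 lc_e_Cert_tree lc_e_rc_34_0 lc_e_rc_21_1 lc_e_rc_36_2 lc_e_rc_35_2 lc_e_rc_36_2 lc_e_rc_28_3 lc_e_rc_35_2 lc_e_rc_35_2 lc_e_rc_28_3) (@D3.rec (fun _ => (Cert rels S Gen.e)) lc_e_rc_21_1 lc_e_rc_35_2 lc_e_rc_21_1 lc_e_rc_36_2 lc_e_rc_35_2 lc_e_rc_13_1 lc_e_rc_28_3 lc_e_rc_37_2 lc_e_rc_37_2 lc_e_rc_36_2 lc_e_rc_35_2 lc_e_rc_39_2 lc_e_rc_35_2 lc_e_rc_21_1 lc_e_rc_35_2 lc_e_Cert_tree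 lc_e_rc_21_1 lc_e_rc_35_2 lc_e_rc_28_3 lc_e_rc_21_1 lc_e_rc_13_1 lc_e_rc_38_2 lc_e_Cert_tree lc_e_rc_4_1 lc_e_rc_35_2 lc_e_Cert_tree lc_e_rc_34_0 lc_e_rc_38_2 lc_e_rc_35_2 lc_e_rc_37_2 lc_e_rc_35_2 lc_e_Cert_tree lc_e_rc_21_1 lc_e_rc_35_2 lc_e_rc_35_0 lc_e_rc_35_2 lc_e_Cert_tree lc_e_Cert_tree lc_e_rc_34_0 lc_e_rc_36_2 lc_e_rc_35_2 lc_e_rc_28_3 lc_e_rc_21_1 lc_e_rc_13_1 lc_e_rc_4_1 lc_e_rc_28_3 lc_e_rc_39_2 lc_e_rc_13_1 lc_e_Cert_tree lc_e_rc_21_1 lc_e_rc_39_2) (@D3.rec (fun _ => (Cert rels S Gen.e)) lc_e_rc_35_2 lc_e_rc_39_2 lc_e_Cert_tree lc_e_rc_38_2 lc_e_rc_21_1 lc_e_rc_35_2 lc_e_Cert_tree lc_e_Cert_tree lc_e_rc_34_0 lc_e_Cert_tree lc_e_rc_34_0 lc_e_rc_36_2 lc_e_rc_28_3 lc_e_rc_21_1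 lc_e_rc_13_1 lc_e_rc_4_1 lc_e_rc_36_2 lc_e_Cert_tree lc_e_rc_38_2 lc_e_rc_34_0 lc_e_rc_36_2 lc_e_rc_37_2 lc_e_Cert_tree lc_e_Cert_tree lc_e_rc_34_0 lc_e_Cert_tree lc_e_rc_34_0 lc_e_rc_36_2 lc_e_rc_38_2 lc_e_rc_34_0 lc_e_rc_35_2 lc_e_rc_35_2 lc_e_rc_4_3 lc_e_Cert_tree lc_e_rc_13_1 lc_e_Cert_tree lc_e_Cert_tree lc_e_rc_34_0 lc_e_rc_39_2 lc_e_Cert_tree lc_e_rc_34_0 lc_e_rc_21_1 lc_e_Cert_tree lc_e_rc_34_0 lc_e_rc_39_2 lc_e_Cert_tree lc_e_Cert_tree lc_e_rc_34_0 lc_e_rc_34_0 lc_e_rc_34_0 lc_e_rc_36_2) (@D3.rec (fun _ => (Cert rels S Gen.e)) lc_e_rc_21_1 lc_e_rc_34_0 lc_e_rc_34_0 lc_e_rc_36_0 lc_e_rc_28_3 lc_e_rc_21_1 lc_e_rc_13_1 lc_e_rc_39_2 lc_e_rc_35_2 lc_e_rc_35_2 lc_e_rc_28_3 lc_e_rc_36_2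 lc_e_rc_35_2 lc_e_rc_21_1 lc_e_rc_35_2 lc_e_rc_35_2 lc_e_rc_28_3 lc_e_rc_35_2 lc_e_rc_4_3 lc_e_rc_36_2 lc_e_rc_35_2 lc_e_rc_35_2 lc_e_Cert_tree lc_e_rc_21_1 lc_e_Cert_tree lc_e_rc_34_0 lc_e_rc_35_2 lc_e_rc_35_2 lc_e_rc_35_2 lc_e_rc_35_2 lc_e_rc_28_3 lc_e_rc_35_2 lc_e_Cert_tree lc_e_rc_37_2 lc_e_rc_28_3 lc_e_rc_35_0 lc_e_rc_39_2 lc_e_rc_35_2 lc_e_Cert_tree lc_e_rc_21_1 lc_e_rc_35_2 lc_e_Cert_tree lc_e_Cert_tree lc_e_rc_34_0 lc_e_rc_13_1 lc_e_rc_34_0 lc_e_Cert_tree lc_e_rc_34_0 lc_e_rc_36_2 lc_e_rc_39_2 lc_e_rc_35_2) (@D3.rec (fun _ => (Cert rels S Gen.e)) lc_e_rc_34_0 lc_e_rc_39_2 lc_e_rc_28_3 lc_e_rc_21_1 lc_e_rc_39_2 lc_e_rc_35_2 lc_e_rc_36_2 lc_e_rc_35_2 lc_e_rc_39_2 lc_e_rc_35_2 lc_e_rc_28_3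 lc_e_rc_39_2 lc_e_rc_35_2 lc_e_rc_37_2 lc_e_rc_36_2 lc_e_rc_35_2 lc_e_rc_35_2 lc_e_rc_28_3 lc_e_rc_35_2 lc_e_Cert_tree lc_e_rc_35_2 lc_e_rc_28_3 lc_e_Cert_tree lc_e_rc_37_2 lc_e_rc_35_2 lc_e_rc_28_3 lc_e_rc_34_0 lc_e_Cert_tree lc_e_rc_21_1 lc_e_rc_35_2 lc_e_rc_36_2 lc_e_rc_35_2 lc_e_Cert_tree lc_e_rc_37_2 lc_e_rc_35_2 lc_e_rc_28_3 lc_e_rc_13_1 lc_e_rc_13_1 lc_e_rc_35_2 lc_e_Cert_tree lc_e_rc_35_2 lc_e_rc_28_3 lc_e_rc_39_2 lc_e_rc_35_2 lc_e_rc_35_2 lc_e_Cert_tree lc_e_rc_34_0 lc_e_Cert_tree lc_e_rc_21_1 lc_e_rc_35_2 lc_e_Cert_tree) (@D3.rec (fun _ => (Cert rels S Gen.e)) lc_e_rc_34_0 lc_e_rc_35_2 lc_e_Cert_tree lc_e_rc_21_1 lc_e_Cert_tree lc_e_rc_21_3 lc_e_rc_34_0 lc_e_rc_36_2 lc_e_Cert_tree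 lc_e_rc_34_0 lc_e_rc_13_1 lc_e_Cert_tree lc_e_Cert_tree lc_e_rc_34_0 lc_e_Cert_tree lc_e_rc_34_0 lc_e_rc_34_0 lc_e_rc_13_1 lc_e_rc_13_1 lc_e_Cert_tree lc_e_rc_34_0 lc_e_rc_39_2 lc_e_Cert_tree lc_e_rc_34_0 lc_e_rc_36_2 lc_e_rc_36_2 lc_e_rc_39_2 lc_e_rc_35_2 lc_e_rc_35_2 lc_e_rc_34_0 lc_e_rc_39_2 lc_e_rc_36_2 lc_e_rc_39_2 lc_e_rc_35_2 lc_e_rc_39_2 lc_e_rc_35_2 lc_e_rc_35_2 lc_e_rc_4_1 lc_e_rc_35_2 lc_e_Cert_tree lc_e_rc_35_2 lc_e_rc_28_3 lc_e_rc_13_1 lc_e_Cert_tree lc_e_rc_34_0 lc_e_rc_36_2 lc_e_rc_35_2 lc_e_rc_35_2 lc_e_rc_28_3 lc_e_rc_35_2 lc_e_Cert_tree) (@D3.rec (fun _ => (Cert rels S Gen.e)) lc_e_rc_35_2 lc_e_rc_28_3 lc_e_Cert_tree lc_e_rc_36_2 lc_e_rc_35_2 lc_e_rc_28_3 lc_e_Cert_tree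 lc_e_rc_34_0 lc_e_rc_39_2 lc_e_rc_35_2 lc_e_Cert_tree lc_e_rc_21_1 lc_e_rc_35_2 lc_e_Cert_tree lc_e_rc_34_0 lc_e_rc_38_2 lc_e_Cert_tree lc_e_rc_34_0 lc_e_rc_34_0 lc_e_rc_39_2 lc_e_rc_28_3 lc_e_rc_21_1 lc_e_rc_39_2 lc_e_rc_35_2 lc_e_rc_37_2 lc_e_rc_36_2 lc_e_rc_35_2 lc_e_rc_34_0 lc_e_rc_39_2 lc_e_rc_39_2 lc_e_rc_35_2 lc_e_rc_28_3 lc_e_rc_21_1 lc_e_rc_35_2 lc_e_Cert_tree lc_e_rc_35_2 lc_e_rc_35_2 lc_e_rc_35_2 lc_e_rc_36_2 lc_e_rc_35_2 lc_e_rc_39_2 lc_e_rc_35_2 lc_e_rc_28_3 lc_e_rc_35_2 lc_e_Cert_tree lc_e_rc_37_2 lc_e_rc_35_2 lc_e_rc_28_3 lc_e_rc_28_3 lc_e_rc_35_2 lc_e_Cert_tree) (@D3.rec (fun _ => (Cert rels S Gen.e)) lc_e_rc_28_3 lc_e_rc_39_2 lc_e_rc_35_2 lc_e_rc_35_2 lc_e_Cert_tree lc_e_rc_34_0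 lc_e_rc_39_2 lc_e_rc_35_2 lc_e_Cert_tree lc_e_rc_21_1 lc_e_rc_38_2 lc_e_rc_34_0 lc_e_rc_35_2 lc_e_Cert_tree lc_e_rc_21_1 lc_e_rc_36_2 lc_e_rc_35_2 lc_e_Cert_tree lc_e_Cert_tree lc_e_rc_34_0 lc_e_rc_28_1 lc_e_rc_36_2 lc_e_rc_13_1 lc_e_rc_35_2 lc_e_rc_28_3 lc_e_rc_39_2 lc_e_rc_35_2 lc_e_rc_35_2 lc_e_Cert_tree lc_e_Cert_tree lc_e_rc_34_0 lc_e_rc_37_2 lc_e_rc_35_2 lc_e_Cert_tree lc_e_rc_21_1 lc_e_rc_4_1 lc_e_rc_35_2 lc_e_Cert_tree lc_e_rc_13_1 lc_e_rc_13_1 lc_e_rc_13_1 lc_e_Cert_tree lc_e_rc_34_0 lc_e_rc_39_2 lc_e_Cert_tree lc_e_rc_21_1 lc_e_rc_35_2 lc_e_rc_28_3 lc_e_Cert_tree lc_e_rc_34_0 lc_e_rc_36_2)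
def ce_e_17 : D2 → D3 → (Cert rels S Gen.e) := @D2.rec (fun _ => D3 → (Cert rels S Gen.e)) (@D3.rec (fun _ => (Cert rels S Gen.e)) lc_e_rc_35_2 lc_e_Cert_tree lc_e_Cert_tree lc_e_rc_34_0 lc_e_rc_13_1 lc_e_rc_34_0 lc_e_rc_34_0 lc_e_rc_36_2 lc_e_rc_35_2 lc_e_Cert_tree lc_e_Cert_tree lc_e_rc_34_0 lc_e_rc_36_0 lc_e_rc_36_2 lc_e_rc_35_2 lc_e_rc_37_2 lc_e_Cert_tree lc_e_rc_34_0 lc_e_Cert_tree lc_e_rc_34_0 lc_e_Cert_tree lc_e_rc_34_0 lc_e_Cert_tree lc_e_rc_34_0 lc_e_Cert_tree lc_e_rc_34_0 lc_e_rc_34_0 lc_e_rc_34_0 lc_e_rc_28_3 lc_e_rc_34_0 lc_e_rc_36_2 lc_e_rc_4_1 lc_e_rc_28_3 lc_e_rc_13_1 lc_e_Cert_tree lc_e_rc_34_0 lc_e_rc_36_2 lc_e_Cert_tree lc_e_rc_34_0 lc_e_rc_36_2 lc_e_rc_37_2 lc_e_rc_35_2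 lc_e_rc_36_0 lc_e_rc_28_3 lc_e_rc_39_2 lc_e_rc_34_0 lc_e_rc_13_1 lc_e_rc_21_1 lc_e_rc_38_0 lc_e_rc_34_0 lc_e_rc_38_0) (@D3.rec (fun _ => (Cert rels S Gen.e)) lc_e_rc_39_0 lc_e_rc_34_0 lc_e_rc_36_2 lc_e_rc_34_0 lc_e_rc_34_0 lc_e_rc_34_0 lc_e_rc_39_2 lc_e_rc_35_2 lc_e_rc_35_2 lc_e_rc_39_2 lc_e_rc_35_2 lc_e_rc_39_2 lc_e_rc_35_2 lc_e_rc_39_2 lc_e_rc_35_2 lc_e_rc_37_2 lc_e_rc_35_2 lc_e_rc_28_3 lc_e_rc_39_2 lc_e_rc_35_2 lc_e_rc_35_2 lc_e_rc_35_2 lc_e_Cert_tree lc_e_rc_35_2 lc_e_rc_28_3 lc_e_Cert_tree lc_e_rc_34_0 lc_e_rc_34_0 lc_e_rc_28_3 lc_e_rc_21_1 lc_e_rc_39_2 lc_e_rc_35_2 lc_e_rc_36_2 lc_e_rc_35_2 lc_e_rc_35_2 lc_e_rc_39_2 lc_e_rc_35_2 lc_e_rc_28_3 lc_e_rc_35_2 lc_e_Cert_tree lc_e_rc_39_2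 lc_e_rc_35_2 lc_e_rc_28_3 lc_e_rc_39_2 lc_e_rc_34_0 lc_e_rc_35_2 lc_e_Cert_tree lc_e_rc_21_1 lc_e_rc_4_1 lc_e_rc_35_2 lc_e_rc_28_3) (@D3.rec (fun _ => (Cert rels S Gen.e)) lc_e_rc_35_2 lc_e_Cert_tree lc_e_rc_35_2 lc_e_Cert_tree lc_e_rc_34_0 lc_e_rc_35_2 lc_e_Cert_tree lc_e_rc_21_1 lc_e_rc_36_2 lc_e_Cert_tree lc_e_Cert_tree lc_e_rc_34_0 lc_e_rc_34_0 lc_e_rc_34_0 lc_e_rc_34_0 lc_e_Cert_tree lc_e_rc_34_0 lc_e_rc_36_2 lc_e_rc_35_2 lc_e_rc_35_2 lc_e_rc_13_1 lc_e_rc_39_2 lc_e_rc_35_2 lc_e_rc_28_3 lc_e_rc_35_2 lc_e_Cert_tree lc_e_rc_28_3 lc_e_rc_39_2 lc_e_rc_35_2 lc_e_rc_28_3 lc_e_rc_21_1 lc_e_rc_39_2 lc_e_rc_35_2 lc_e_rc_36_2 lc_e_rc_35_2 lc_e_rc_39_2 lc_e_rc_35_2 lc_e_rc_35_2 lc_e_rc_39_2 lc_e_rc_35_2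 lc_e_rc_28_3 lc_e_rc_21_1 lc_e_rc_35_2 lc_e_Cert_tree lc_e_rc_35_2 lc_e_rc_28_3 lc_e_rc_37_2 lc_e_rc_35_2 lc_e_rc_34_0 lc_e_Cert_tree lc_e_rc_37_2) (@D3.rec (fun _ => (Cert rels S Gen.e)) lc_e_rc_35_2 lc_e_rc_35_2 lc_e_rc_37_2 lc_e_rc_35_2 lc_e_rc_28_3 lc_e_rc_37_2 lc_e_rc_35_2 lc_e_Cert_tree lc_e_rc_35_2 lc_e_Cert_tree lc_e_rc_34_0 lc_e_Cert_tree lc_e_rc_21_1 lc_e_rc_39_0 lc_e_rc_34_0 lc_e_Cert_tree lc_e_rc_37_2 lc_e_rc_34_0 lc_e_rc_36_2 lc_e_Cert_tree lc_e_rc_34_0 lc_e_rc_34_0 lc_e_Cert_tree lc_e_rc_34_0 lc_e_rc_36_2 lc_e_rc_36_2 lc_e_rc_28_3 lc_e_rc_21_1 lc_e_rc_39_2 lc_e_rc_35_2 lc_e_rc_36_2 lc_e_rc_35_2 lc_e_rc_39_2 lc_e_rc_35_2 lc_e_rc_35_2 lc_e_rc_28_3 lc_e_rc_21_1 lc_e_rc_35_2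 lc_e_Cert_tree lc_e_rc_35_2 lc_e_rc_35_2 lc_e_rc_35_2 lc_e_rc_28_3 lc_e_rc_28_3 lc_e_rc_35_2 lc_e_Cert_tree lc_e_rc_35_2 lc_e_rc_28_3 lc_e_rc_28_3 lc_e_rc_35_2 lc_e_Cert_tree) (@D3.rec (fun _ => (Cert rels S Gen.e)) lc_e_rc_28_3 lc_e_rc_35_2 lc_e_rc_35_2 lc_e_Cert_tree lc_e_rc_34_0 lc_e_rc_35_2 lc_e_Cert_tree lc_e_rc_21_1 lc_e_Cert_tree lc_e_rc_34_0 lc_e_Cert_tree lc_e_rc_36_2 lc_e_Cert_tree lc_e_Cert_tree lc_e_rc_34_0 lc_e_rc_35_2 lc_e_rc_28_3 lc_e_rc_35_2 lc_e_rc_36_2 lc_e_rc_39_2 lc_e_rc_35_2 lc_e_rc_35_2 lc_e_Cert_tree lc_e_rc_34_0 lc_e_Cert_tree lc_e_rc_21_1 lc_e_rc_4_1 lc_e_rc_35_2 lc_e_rc_13_1 lc_e_rc_13_1 lc_e_rc_13_1 lc_e_rc_13_1 lc_e_Cert_tree lc_e_rc_34_0 lc_e_rc_36_2 lc_e_rc_35_2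 lc_e_rc_39_2 lc_e_Cert_tree lc_e_rc_35_2 lc_e_Cert_tree lc_e_Cert_tree lc_e_rc_34_0 lc_e_rc_36_2 lc_e_rc_35_2 lc_e_Cert_tree lc_e_Cert_tree lc_e_rc_34_0 lc_e_rc_13_1 lc_e_Cert_tree lc_e_rc_34_0 lc_e_Cert_tree) (@D3.rec (fun _ => (Cert rels S Gen.e)) lc_e_rc_34_0 lc_e_rc_36_2 lc_e_Cert_tree lc_e_Cert_tree lc_e_rc_34_0 lc_e_rc_36_2 lc_e_rc_37_2 lc_e_rc_34_0 lc_e_rc_34_0 lc_e_rc_34_0 lc_e_rc_34_0 lc_e_rc_28_3 lc_e_rc_39_2 lc_e_Cert_tree lc_e_rc_34_0 lc_e_rc_4_1 lc_e_rc_28_3 lc_e_rc_13_1 lc_e_Cert_tree lc_e_rc_34_0 lc_e_Cert_tree lc_e_Cert_tree lc_e_rc_34_0 lc_e_rc_34_0 lc_e_rc_36_2 lc_e_rc_35_2 lc_e_rc_35_2 lc_e_Cert_tree lc_e_rc_28_3 lc_e_rc_28_1 lc_e_rc_35_2 lc_e_rc_28_3 lc_e_Cert_tree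 lc_e_rc_21_1 lc_e_rc_34_0 lc_e_rc_36_2 lc_e_rc_35_2 lc_e_rc_35_2 lc_e_Cert_tree lc_e_rc_35_2 lc_e_rc_35_2 lc_e_rc_36_2 lc_e_rc_35_2 lc_e_rc_35_2 lc_e_rc_28_3 lc_e_Cert_tree lc_e_rc_21_1 lc_e_Cert_tree lc_e_rc_34_0 lc_e_rc_35_2 lc_e_rc_36_2) (@D3.rec (fun _ => (Cert rels S Gen.e)) lc_e_rc_28_3 lc_e_rc_28_3 lc_e_Cert_tree lc_e_rc_21_1 lc_e_rc_28_3 lc_e_rc_35_2 lc_e_rc_28_3 lc_e_rc_21_1 lc_e_rc_35_2 lc_e_Cert_tree lc_e_Cert_tree lc_e_rc_34_0 lc_e_rc_13_1 lc_e_rc_34_0 lc_e_Cert_tree lc_e_rc_34_0 lc_e_rc_34_0 lc_e_rc_34_0 lc_e_rc_34_0 lc_e_rc_4_1 lc_e_rc_35_2 lc_e_rc_28_3 lc_e_rc_35_2 lc_e_rc_35_2 lc_e_Cert_tree lc_e_rc_28_3 lc_e_rc_35_2 lc_e_Cert_tree lc_e_rc_34_0 lc_e_rc_21_1 lc_e_rc_36_2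 lc_e_rc_35_2 lc_e_rc_21_1 lc_e_rc_35_2 lc_e_Cert_tree lc_e_rc_35_2 lc_e_rc_35_2 lc_e_rc_36_2 lc_e_rc_35_2 lc_e_rc_37_2 lc_e_rc_35_2 lc_e_rc_28_3 lc_e_Cert_tree lc_e_rc_21_1 lc_e_rc_35_2 lc_e_Cert_tree lc_e_rc_21_1 lc_e_Cert_tree lc_e_rc_34_0 lc_e_rc_36_2 lc_e_rc_35_2) (@D3.rec (fun _ => (Cert rels S Gen.e)) lc_e_rc_35_2 lc_e_rc_28_3 lc_e_rc_36_2 lc_e_rc_35_2 lc_e_rc_37_2 lc_e_rc_35_2 lc_e_rc_28_3 lc_e_rc_35_2 lc_e_Cert_tree lc_e_rc_21_1 lc_e_rc_21_1 lc_e_rc_13_1 lc_e_rc_28_3 lc_e_rc_36_2 lc_e_rc_35_2 lc_e_rc_39_2 lc_e_rc_35_2 lc_e_Cert_tree lc_e_rc_21_1 lc_e_Cert_tree lc_e_rc_34_0 lc_e_rc_13_1 lc_e_rc_35_2 lc_e_Cert_tree lc_e_rc_21_1 lc_e_Cert_tree lc_e_Cert_tree lc_e_rc_34_0 lc_e_Cert_tree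 lc_e_rc_34_0 lc_e_rc_34_0 lc_e_Cert_tree lc_e_rc_34_0 lc_e_rc_34_0 lc_e_rc_28_3 lc_e_rc_35_2 lc_e_rc_21_1 lc_e_rc_35_2 lc_e_rc_39_2 lc_e_rc_35_2 lc_e_rc_21_1 lc_e_rc_35_2 lc_e_rc_35_2 lc_e_rc_37_2 lc_e_rc_35_2 lc_e_rc_35_2 lc_e_rc_39_2 lc_e_rc_35_2 lc_e_rc_21_1 lc_e_rc_13_1 lc_e_rc_35_2) (@D3.rec (fun _ => (Cert rels S Gen.e)) lc_e_Cert_tree lc_e_rc_39_2 lc_e_rc_13_1 lc_e_rc_35_2 lc_e_rc_21_1 lc_e_rc_35_2 lc_e_Cert_tree lc_e_rc_34_0 lc_e_rc_35_2 lc_e_Cert_tree lc_e_rc_21_1 lc_e_rc_35_2 lc_e_rc_36_2 lc_e_rc_36_2 lc_e_rc_28_3 lc_e_rc_35_2 lc_e_rc_37_2 lc_e_rc_35_2 lc_e_rc_28_3 lc_e_rc_37_2 lc_e_rc_35_2 lc_e_Cert_tree lc_e_rc_21_1 lc_e_rc_35_2 lc_e_rc_28_3 lc_e_rc_4_1 lc_e_rc_36_2 lc_e_rc_39_2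 lc_e_rc_35_2 lc_e_rc_35_2 lc_e_Cert_tree lc_e_rc_21_1 lc_e_rc_35_2 lc_e_Cert_tree lc_e_Cert_tree lc_e_rc_34_0 lc_e_rc_13_1 lc_e_rc_35_2 lc_e_rc_35_2 lc_e_rc_35_2 lc_e_Cert_tree lc_e_Cert_tree lc_e_rc_34_0 lc_e_rc_34_0 lc_e_rc_35_2 lc_e_rc_34_0 lc_e_Cert_tree lc_e_Cert_tree lc_e_rc_34_0 lc_e_Cert_tree lc_e_rc_34_0) (@D3.rec (fun _ => (Cert rels S Gen.e)) lc_e_rc_34_0 lc_e_rc_35_2 lc_e_rc_35_2 lc_e_rc_37_2 lc_e_rc_35_2 lc_e_Cert_tree lc_e_rc_34_0 lc_e_rc_35_2 lc_e_Cert_tree lc_e_rc_21_1 lc_e_rc_35_2 lc_e_rc_13_1 lc_e_rc_35_2 lc_e_rc_38_2 lc_e_rc_37_2 lc_e_rc_36_2 lc_e_rc_35_2 lc_e_rc_39_2 lc_e_rc_39_0 lc_e_rc_37_2 lc_e_rc_35_2 lc_e_Cert_tree lc_e_Cert_tree lc_e_rc_34_0 lc_e_rc_35_2 lc_e_Cert_tree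 lc_e_Cert_tree lc_e_rc_34_0 lc_e_rc_13_1 lc_e_rc_28_3 lc_e_rc_13_1 lc_e_rc_35_2 lc_e_rc_37_0 lc_e_rc_13_1 lc_e_Cert_tree lc_e_Cert_tree lc_e_rc_34_0 lc_e_rc_38_2 lc_e_rc_36_2 lc_e_rc_35_2 lc_e_rc_36_2 lc_e_Cert_tree lc_e_Cert_tree lc_e_Cert_tree lc_e_rc_34_0 lc_e_rc_35_2 lc_e_Cert_tree lc_e_Cert_tree lc_e_rc_34_0 lc_e_Cert_tree lc_e_rc_34_0) (@D3.rec (fun _ => (Cert rels S Gen.e)) lc_e_rc_36_2 lc_e_Cert_tree lc_e_Cert_tree lc_e_rc_34_0 lc_e_Cert_tree lc_e_rc_34_0 lc_e_rc_4_1 lc_e_Cert_tree lc_e_rc_35_2 lc_e_Cert_tree lc_e_Cert_tree lc_e_rc_34_0 lc_e_Cert_tree lc_e_Cert_tree lc_e_rc_34_0 lc_e_Cert_tree lc_e_rc_34_0 lc_e_rc_38_2 lc_e_rc_21_1 lc_e_rc_34_0 lc_e_Cert_tree lc_e_rc_34_0 lc_e_rc_34_0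 lc_e_rc_36_2 lc_e_Cert_tree lc_e_rc_34_0 lc_e_rc_34_0 lc_e_Cert_tree lc_e_rc_34_0 lc_e_rc_28_3 lc_e_rc_34_0 lc_e_rc_36_2 lc_e_Cert_tree lc_e_rc_34_0 lc_e_Cert_tree lc_e_rc_34_0 lc_e_rc_36_2 lc_e_Cert_tree lc_e_rc_34_0 lc_e_rc_28_3 lc_e_rc_34_0 lc_e_rc_28_3 lc_e_rc_34_0 lc_e_rc_13_1 lc_e_rc_35_2 lc_e_Cert_tree lc_e_rc_34_0 lc_e_rc_34_0 lc_e_rc_36_2 lc_e_rc_21_1 lc_e_rc_34_0) (@D3.rec (fun _ => (Cert rels S Gen.e)) lc_e_Cert_tree lc_e_Cert_tree lc_e_rc_34_0 lc_e_rc_36_2 lc_e_rc_34_0 lc_e_rc_28_3 lc_e_rc_21_1 lc_e_rc_35_0 lc_e_rc_35_2 lc_e_rc_21_1 lc_e_rc_21_1 lc_e_rc_37_2 lc_e_rc_28_3 lc_e_rc_21_1 lc_e_rc_13_1 lc_e_rc_13_1 lc_e_rc_35_2 lc_e_rc_35_2 lc_e_rc_35_2 lc_e_Cert_tree lc_e_rc_21_1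 lc_e_rc_35_2 lc_e_rc_21_1 lc_e_rc_13_1 lc_e_Cert_tree lc_e_Cert_tree lc_e_rc_34_0 lc_e_rc_35_2 lc_e_Cert_tree lc_e_rc_35_2 lc_e_rc_28_3 lc_e_rc_21_1 lc_e_rc_21_1 lc_e_rc_35_2 lc_e_Cert_tree lc_e_rc_34_0 lc_e_Cert_tree lc_e_rc_34_0 lc_e_rc_13_1 lc_e_rc_37_2 lc_e_rc_28_3 lc_e_rc_21_1 lc_e_rc_35_2 lc_e_Cert_tree lc_e_rc_34_0 lc_e_rc_21_1 lc_e_rc_39_2 lc_e_rc_35_2 lc_e_rc_35_2 lc_e_Cert_tree lc_e_rc_4_1) (@D3.rec (fun _ => (Cert rels S Gen.e)) lc_e_rc_28_3 lc_e_rc_35_2 lc_e_Cert_tree lc_e_rc_28_3 lc_e_rc_35_2 lc_e_rc_35_2 lc_e_Cert_tree lc_e_rc_34_0 lc_e_rc_28_3 lc_e_rc_21_1 lc_e_rc_13_1 lc_e_Cert_tree lc_e_rc_34_0 lc_e_rc_35_2 lc_e_Cert_tree lc_e_Cert_tree lc_e_Cert_tree lc_e_rc_34_0 lc_e_rc_36_2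 lc_e_rc_21_1 lc_e_rc_13_1 lc_e_rc_34_0 lc_e_Cert_tree lc_e_rc_36_2 lc_e_rc_36_2 lc_e_rc_34_0 lc_e_Cert_tree lc_e_rc_34_0 lc_e_rc_34_0 lc_e_Cert_tree lc_e_rc_34_0 lc_e_rc_36_2 lc_e_Cert_tree lc_e_Cert_tree lc_e_rc_34_0 lc_e_rc_36_2 lc_e_rc_34_0 lc_e_rc_36_2 lc_e_rc_36_2 lc_e_rc_37_2 lc_e_rc_35_2 lc_e_rc_35_2 lc_e_Cert_tree lc_e_rc_35_2 lc_e_Cert_tree lc_e_rc_34_0 lc_e_rc_21_1 lc_e_rc_28_3 lc_e_rc_35_2 lc_e_Cert_tree lc_e_rc_28_3) (@D3.rec (fun _ => (Cert rels S Gen.e)) lc_e_rc_28_3 lc_e_rc_35_2 lc_e_Cert_tree lc_e_rc_39_2 lc_e_rc_35_2 lc_e_Cert_tree lc_e_rc_34_0 lc_e_rc_21_1 lc_e_rc_35_2 lc_e_rc_13_1 lc_e_Cert_tree lc_e_rc_34_0 lc_e_rc_35_2 lc_e_rc_39_2 lc_e_Cert_tree lc_e_rc_28_3 lc_e_Cert_tree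 lc_e_rc_34_0 lc_e_rc_28_3 lc_e_rc_21_1 lc_e_rc_13_1 lc_e_rc_35_2 lc_e_Cert_tree lc_e_rc_34_0 lc_e_Cert_tree lc_e_rc_35_2 lc_e_rc_35_2 lc_e_Cert_tree lc_e_rc_34_0 lc_e_rc_39_2 lc_e_rc_35_2 lc_e_rc_39_2 lc_e_Cert_tree lc_e_Cert_tree lc_e_Cert_tree lc_e_rc_34_0 lc_e_rc_36_2 lc_e_rc_21_1 lc_e_rc_13_1 lc_e_rc_4_1 lc_e_rc_28_3 lc_e_rc_13_1 lc_e_rc_13_1 lc_e_Cert_tree lc_e_rc_13_1 lc_e_Cert_tree lc_e_Cert_tree lc_e_rc_34_0 lc_e_rc_35_2 lc_e_rc_39_2 lc_e_Cert_tree) (@D3.rec (fun _ => (Cert rels S Gen.e)) lc_e_Cert_tree lc_e_Cert_tree lc_e_rc_34_0 lc_e_rc_35_2 lc_e_Cert_tree lc_e_Cert_tree lc_e_rc_34_0 lc_e_Cert_tree lc_e_rc_34_0 lc_e_rc_28_3 lc_e_rc_28_3 lc_e_rc_21_1 lc_e_rc_13_1 lc_e_rc_4_1 lc_e_rc_21_1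 lc_e_rc_21_1 lc_e_Cert_tree lc_e_rc_34_0 lc_e_rc_37_2 lc_e_Cert_tree lc_e_rc_34_0 lc_e_Cert_tree lc_e_rc_34_0 lc_e_rc_36_2 lc_e_Cert_tree lc_e_rc_34_0 lc_e_rc_36_2 lc_e_rc_37_2 lc_e_Cert_tree lc_e_rc_34_0 lc_e_rc_34_0 lc_e_rc_35_2 lc_e_rc_28_3 lc_e_rc_28_3 lc_e_Cert_tree lc_e_rc_34_0 lc_e_rc_21_1 lc_e_rc_36_2 lc_e_rc_34_0 lc_e_rc_36_2 lc_e_rc_39_2 lc_e_rc_35_2 lc_e_Cert_tree lc_e_rc_34_0 lc_e_rc_21_1 lc_e_rc_36_2 lc_e_rc_21_1 lc_e_rc_39_2 lc_e_rc_35_2 lc_e_rc_39_2 lc_e_Cert_tree) (@D3.rec (fun _ => (Cert rels S Gen.e)) lc_e_Cert_tree lc_e_Cert_tree lc_e_rc_34_0 lc_e_rc_36_2 lc_e_rc_21_1 lc_e_rc_13_1 lc_e_rc_34_0 lc_e_rc_36_2 lc_e_rc_37_2 lc_e_Cert_tree lc_e_rc_34_0 lc_e_rc_36_2 lc_e_rc_37_2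 lc_e_rc_35_2 lc_e_Cert_tree lc_e_rc_34_0 lc_e_rc_21_1 lc_e_rc_28_3 lc_e_rc_21_1 lc_e_Cert_tree lc_e_rc_34_0 lc_e_rc_36_2 lc_e_rc_13_1 lc_e_Cert_tree lc_e_rc_34_0 lc_e_rc_35_2 lc_e_Cert_tree lc_e_Cert_tree lc_e_rc_34_0 lc_e_rc_36_2 lc_e_rc_13_1 lc_e_rc_36_2 lc_e_Cert_tree lc_e_rc_34_0 lc_e_Cert_tree lc_e_rc_21_1 lc_e_Cert_tree lc_e_rc_34_0 lc_e_Cert_tree lc_e_rc_34_0 lc_e_rc_13_1 lc_e_Cert_tree lc_e_rc_34_0 lc_e_Cert_tree lc_e_rc_28_3 lc_e_Cert_tree lc_e_rc_34_0 lc_e_rc_36_2 lc_e_Cert_tree lc_e_Cert_tree lc_e_rc_34_0) (@D3.rec (fun _ => (Cert rels S Gen.e)) lc_e_rc_28_3 lc_e_Cert_tree lc_e_rc_34_0 lc_e_Cert_tree lc_e_rc_34_0 lc_e_rc_28_3 lc_e_rc_37_2 lc_e_rc_21_1 lc_e_rc_13_1 lc_e_rc_4_1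 lc_e_rc_34_0 lc_e_rc_34_0 lc_e_rc_36_2 lc_e_rc_28_3 lc_e_rc_21_1 lc_e_rc_13_1 lc_e_rc_21_1 lc_e_rc_28_3 lc_e_rc_21_1 lc_e_rc_21_1 lc_e_rc_13_1 lc_e_rc_21_1 lc_e_rc_37_2 lc_e_rc_37_2 lc_e_Cert_tree lc_e_rc_21_1 lc_e_rc_35_2 lc_e_rc_28_3 lc_e_rc_35_2 lc_e_rc_35_2 lc_e_Cert_tree lc_e_rc_21_1 lc_e_rc_35_2 lc_e_rc_21_1 lc_e_rc_13_1 lc_e_rc_13_1 lc_e_rc_28_3 lc_e_Cert_tree lc_e_rc_21_1 lc_e_Cert_tree lc_e_rc_21_1 lc_e_Cert_tree lc_e_rc_34_0 lc_e_rc_13_1 lc_e_rc_13_1 lc_e_rc_4_1 lc_e_Cert_tree lc_e_rc_34_0 lc_e_rc_34_0 lc_e_Cert_tree lc_e_rc_34_0) (@D3.rec (fun _ => (Cert rels S Gen.e)) lc_e_rc_21_1 lc_e_rc_21_1 lc_e_rc_13_1 lc_e_rc_37_2 lc_e_Cert_tree lc_e_rc_21_1 lc_e_rc_28_3 lc_e_rc_21_1 lc_e_rc_13_1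 lc_e_rc_28_3 lc_e_rc_35_2 lc_e_rc_21_1 lc_e_rc_39_2 lc_e_rc_21_1 lc_e_rc_13_1 lc_e_rc_4_1 lc_e_rc_35_2 lc_e_Cert_tree lc_e_rc_13_1 lc_e_Cert_tree lc_e_Cert_tree lc_e_rc_34_0 lc_e_rc_39_2 lc_e_Cert_tree lc_e_Cert_tree lc_e_rc_34_0 lc_e_rc_13_1 lc_e_rc_36_2 lc_e_rc_37_2 lc_e_Cert_tree lc_e_rc_21_1 lc_e_rc_38_2 lc_e_rc_35_2 lc_e_rc_21_1 lc_e_rc_13_1 lc_e_rc_28_3 lc_e_rc_21_1 lc_e_rc_35_2 lc_e_rc_35_2 lc_e_Cert_tree lc_e_rc_21_1 lc_e_rc_37_2 lc_e_rc_35_2 lc_e_rc_35_2 lc_e_Cert_tree lc_e_rc_39_2 lc_e_rc_21_1 lc_e_rc_35_2 lc_e_Cert_tree lc_e_Cert_tree lc_e_rc_34_0) (@D3.rec (fun _ => (Cert rels S Gen.e)) lc_e_rc_13_1 lc_e_rc_28_3 lc_e_rc_21_1 lc_e_rc_13_1 lc_e_rc_4_1 lc_e_rc_38_2 lc_e_Cert_tree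 lc_e_rc_34_0 lc_e_Cert_tree lc_e_rc_34_0 lc_e_Cert_tree lc_e_rc_21_1 lc_e_Cert_tree lc_e_Cert_tree lc_e_rc_34_0 lc_e_rc_13_1 lc_e_Cert_tree lc_e_rc_21_1 lc_e_rc_21_1 lc_e_Cert_tree lc_e_rc_34_0 lc_e_Cert_tree lc_e_rc_34_0 lc_e_rc_36_2 lc_e_rc_37_2 lc_e_rc_28_3 lc_e_rc_21_1 lc_e_rc_13_1 lc_e_rc_4_1 lc_e_rc_28_3 lc_e_rc_21_1 lc_e_Cert_tree lc_e_Cert_tree lc_e_rc_34_0 lc_e_rc_13_1 lc_e_rc_39_2 lc_e_Cert_tree lc_e_Cert_tree lc_e_Cert_tree lc_e_rc_34_0 lc_e_rc_21_1 lc_e_rc_56_46 lc_e_Cert_tree lc_e_Cert_tree lc_e_rc_34_0 lc_e_Cert_tree lc_e_rc_34_0 lc_e_rc_36_2 lc_e_Cert_tree lc_e_rc_34_0 lc_e_rc_21_1) (@D3.rec (fun _ => (Cert rels S Gen.e)) lc_e_rc_21_1 lc_e_rc_13_1 lc_e_rc_4_1 lc_e_Cert_tree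 lc_e_rc_34_0 lc_e_rc_36_2 lc_e_rc_37_2 lc_e_rc_34_0 lc_e_rc_34_0 lc_e_rc_34_0 lc_e_rc_35_2 lc_e_rc_34_0 lc_e_Cert_tree lc_e_rc_34_0 lc_e_rc_34_0 lc_e_Cert_tree lc_e_rc_34_0 lc_e_Cert_tree lc_e_rc_34_0 lc_e_Cert_tree lc_e_rc_34_0 lc_e_rc_34_0 lc_e_rc_36_2 lc_e_rc_21_1 lc_e_rc_35_2 lc_e_rc_28_3 lc_e_Cert_tree lc_e_rc_35_2 lc_e_rc_28_3 lc_e_rc_35_2 lc_e_rc_28_3 lc_e_Cert_tree lc_e_rc_21_1 lc_e_rc_35_2 lc_e_Cert_tree lc_e_rc_34_0 lc_e_rc_34_0 lc_e_rc_35_2 lc_e_rc_21_1 lc_e_rc_28_3 lc_e_Cert_tree lc_e_rc_21_1 lc_e_Cert_tree lc_e_rc_34_0 lc_e_rc_21_1 lc_e_rc_21_1 lc_e_rc_35_2 lc_e_Cert_tree lc_e_Cert_tree lc_e_rc_34_0 lc_e_rc_13_1) (@D3.rec (fun _ => (Cert rels S Gen.e)) lc_e_rc_34_0 lc_e_Cert_tree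 lc_e_rc_34_0 lc_e_rc_34_0 lc_e_rc_28_3 lc_e_rc_36_2 lc_e_rc_35_2 lc_e_rc_39_2 lc_e_rc_35_2 lc_e_rc_28_3 lc_e_rc_21_1 lc_e_rc_35_2 lc_e_Cert_tree lc_e_rc_35_2 lc_e_rc_35_2 lc_e_rc_35_2 lc_e_rc_28_3 lc_e_rc_35_2 lc_e_Cert_tree lc_e_rc_37_2 lc_e_rc_35_2 lc_e_rc_28_3 lc_e_rc_39_2 lc_e_rc_35_2 lc_e_Cert_tree lc_e_rc_34_0 lc_e_Cert_tree lc_e_rc_21_1 lc_e_rc_34_0 lc_e_rc_35_2 lc_e_Cert_tree lc_e_rc_21_1 lc_e_rc_36_2 lc_e_Cert_tree lc_e_rc_34_0 lc_e_rc_28_3 lc_e_rc_35_2 lc_e_Cert_tree lc_e_rc_34_0 lc_e_rc_35_2 lc_e_Cert_tree lc_e_rc_21_1 lc_e_rc_13_1 lc_e_rc_13_1 lc_e_Cert_tree lc_e_rc_34_0 lc_e_rc_39_2 lc_e_rc_35_2 lc_e_rc_39_2 lc_e_Cert_tree lc_e_Cert_tree) (@D3.rec (fun _ => (Cert rels S Gen.e))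 lc_e_Cert_tree lc_e_rc_34_0 lc_e_rc_36_2 lc_e_Cert_tree lc_e_rc_34_0 lc_e_rc_13_1 lc_e_Cert_tree lc_e_rc_21_3 lc_e_rc_34_0 lc_e_rc_36_2 lc_e_Cert_tree lc_e_Cert_tree lc_e_rc_34_0 lc_e_Cert_tree lc_e_rc_34_0 lc_e_rc_36_2 lc_e_rc_37_2 lc_e_rc_34_0 lc_e_Cert_tree lc_e_rc_34_0 lc_e_rc_34_0 lc_e_rc_34_0 lc_e_rc_28_3 lc_e_rc_36_2 lc_e_rc_13_1 lc_e_Cert_tree lc_e_rc_34_0 lc_e_Cert_tree lc_e_rc_34_0 lc_e_rc_36_2 lc_e_rc_37_2 lc_e_rc_35_2 lc_e_rc_28_3 lc_e_rc_39_2 lc_e_rc_35_2 lc_e_rc_36_2 lc_e_rc_35_2 lc_e_rc_35_2 lc_e_Cert_tree lc_e_rc_28_3 lc_e_rc_4_1 lc_e_Cert_tree lc_e_rc_34_0 lc_e_Cert_tree lc_e_rc_21_1 lc_e_rc_34_0 lc_e_rc_35_2 lc_e_rc_28_3 lc_e_rc_28_3 lc_e_rc_35_2 lc_e_Cert_tree) (@D3.rec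 (fun _ => (Cert rels S Gen.e)) lc_e_rc_34_0 lc_e_Cert_tree lc_e_rc_21_1 lc_e_rc_34_0 lc_e_rc_4_1 lc_e_rc_28_3 lc_e_rc_21_1 lc_e_Cert_tree lc_e_rc_34_0 lc_e_rc_35_2 lc_e_Cert_tree lc_e_Cert_tree lc_e_rc_34_0 lc_e_rc_13_1 lc_e_Cert_tree lc_e_rc_34_0 lc_e_rc_34_0 lc_e_rc_39_2 lc_e_rc_35_2 lc_e_rc_28_3 lc_e_rc_21_1 lc_e_rc_35_2 lc_e_Cert_tree lc_e_rc_37_2 lc_e_rc_35_2 lc_e_rc_35_2 lc_e_rc_39_2 lc_e_rc_35_2 lc_e_rc_35_2 lc_e_Cert_tree lc_e_rc_35_2 lc_e_rc_35_2 lc_e_Cert_tree lc_e_rc_34_0 lc_e_Cert_tree lc_e_rc_21_1 lc_e_rc_36_2 lc_e_rc_36_2 lc_e_rc_28_3 lc_e_rc_35_2 lc_e_Cert_tree lc_e_rc_35_2 lc_e_Cert_tree lc_e_rc_34_0 lc_e_rc_35_2 lc_e_Cert_tree lc_e_rc_21_1 lc_e_rc_35_2 lc_e_Cert_tree lc_e_rc_34_0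 lc_e_rc_35_2) (@D3.rec (fun _ => (Cert rels S Gen.e)) lc_e_rc_39_2 lc_e_Cert_tree lc_e_rc_28_3 lc_e_Cert_tree lc_e_rc_34_0 lc_e_rc_36_2 lc_e_rc_35_2 lc_e_Cert_tree lc_e_Cert_tree lc_e_rc_34_0 lc_e_rc_13_1 lc_e_rc_36_2 lc_e_Cert_tree lc_e_Cert_tree lc_e_rc_34_0 lc_e_Cert_tree lc_e_rc_34_0 lc_e_rc_34_0 lc_e_rc_36_2 lc_e_rc_35_2 lc_e_Cert_tree lc_e_rc_21_1 lc_e_rc_35_2 lc_e_Cert_tree lc_e_Cert_tree lc_e_rc_34_0 lc_e_Cert_tree lc_e_rc_34_0 lc_e_rc_36_2 lc_e_rc_35_2 lc_e_Cert_tree lc_e_Cert_tree lc_e_rc_34_0 lc_e_rc_13_1 lc_e_rc_4_1 lc_e_Cert_tree lc_e_rc_34_0 lc_e_rc_13_1 lc_e_Cert_tree lc_e_rc_28_3 lc_e_Cert_tree lc_e_rc_34_0 lc_e_rc_36_2 lc_e_Cert_tree lc_e_Cert_tree lc_e_rc_34_0 lc_e_rc_35_2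 lc_e_rc_28_3 lc_e_rc_21_1 lc_e_Cert_tree lc_e_rc_34_0) (@D3.rec (fun _ => (Cert rels S Gen.e)) lc_e_rc_28_3 lc_e_rc_37_2 lc_e_Cert_tree lc_e_Cert_tree lc_e_rc_34_0 lc_e_Cert_tree lc_e_rc_34_0 lc_e_rc_4_1 lc_e_rc_36_2 lc_e_rc_37_2 lc_e_Cert_tree lc_e_rc_34_0 lc_e_Cert_tree lc_e_rc_34_0 lc_e_rc_34_0 lc_e_rc_34_0 lc_e_rc_28_3 lc_e_rc_34_0 lc_e_rc_36_2 lc_e_rc_34_0 lc_e_rc_34_0 lc_e_rc_28_3 lc_e_rc_35_0 lc_e_rc_35_2 lc_e_Cert_tree lc_e_rc_34_0 lc_e_rc_34_0 lc_e_rc_35_2 lc_e_rc_37_2 lc_e_rc_35_2 lc_e_rc_28_3 lc_e_rc_35_2 lc_e_rc_35_2 lc_e_Cert_tree lc_e_rc_35_2 lc_e_rc_28_3 lc_e_Cert_tree lc_e_rc_35_2 lc_e_rc_28_3 lc_e_Cert_tree lc_e_rc_34_0 lc_e_Cert_tree lc_e_rc_21_1 lc_e_rc_34_0 lc_e_rc_28_3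 lc_e_rc_21_1 lc_e_rc_35_2 lc_e_Cert_tree lc_e_rc_35_2 lc_e_rc_35_2 lc_e_rc_28_3) (@D3.rec (fun _ => (Cert rels S Gen.e)) lc_e_rc_35_2 lc_e_Cert_tree lc_e_rc_35_2 lc_e_Cert_tree lc_e_rc_34_0 lc_e_rc_35_2 lc_e_Cert_tree lc_e_rc_21_1 lc_e_rc_36_2 lc_e_Cert_tree lc_e_Cert_tree lc_e_rc_34_0 lc_e_rc_28_3 lc_e_rc_21_1 lc_e_Cert_tree lc_e_rc_34_0 lc_e_Cert_tree lc_e_Cert_tree lc_e_rc_34_0 lc_e_rc_36_2 lc_e_Cert_tree lc_e_Cert_tree lc_e_rc_34_0 lc_e_rc_13_1 lc_e_rc_34_0 lc_e_rc_34_0 lc_e_rc_34_0 lc_e_rc_28_3 lc_e_rc_28_3 lc_e_rc_13_1 lc_e_rc_35_2 lc_e_rc_35_2 lc_e_Cert_tree lc_e_rc_34_0 lc_e_rc_21_1 lc_e_rc_35_2 lc_e_rc_28_3 lc_e_rc_21_1 lc_e_rc_35_2 lc_e_Cert_tree lc_e_rc_35_2 lc_e_rc_35_2 lc_e_rc_35_2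 lc_e_rc_28_3 lc_e_rc_35_2 lc_e_Cert_tree lc_e_rc_35_2 lc_e_rc_35_2 lc_e_Cert_tree lc_e_rc_34_0 lc_e_Cert_tree) (@D3.rec (fun _ => (Cert rels S Gen.e)) lc_e_rc_21_1 lc_e_rc_36_2 lc_e_Cert_tree lc_e_rc_34_0 lc_e_rc_28_3 lc_e_rc_28_3 lc_e_rc_37_2 lc_e_rc_28_3 lc_e_rc_21_1 lc_e_Cert_tree lc_e_Cert_tree lc_e_rc_34_0 lc_e_Cert_tree lc_e_Cert_tree lc_e_rc_34_0 lc_e_rc_36_2 lc_e_Cert_tree lc_e_rc_34_0 lc_e_rc_13_1 lc_e_rc_36_2 lc_e_Cert_tree lc_e_rc_34_0 lc_e_rc_36_2 lc_e_rc_34_0 lc_e_rc_28_3 lc_e_rc_34_0 lc_e_rc_36_2 lc_e_rc_28_3 lc_e_rc_21_1 lc_e_rc_35_2 lc_e_rc_37_2 lc_e_rc_35_2 lc_e_rc_35_2 lc_e_rc_35_2 lc_e_Cert_tree lc_e_rc_39_2 lc_e_rc_35_2 lc_e_rc_35_2 lc_e_Cert_tree lc_e_rc_34_0 lc_e_Cert_tree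 lc_e_rc_21_1 lc_e_rc_28_3 lc_e_rc_28_3 lc_e_rc_35_2 lc_e_Cert_tree lc_e_rc_34_0 lc_e_Cert_tree lc_e_rc_21_1 lc_e_rc_35_2 lc_e_Cert_tree)
def ce_e_18 : D2 → D3 → (Cert rels S Gen.e) := @D2.rec (fun _ => D3 → (Cert rels S Gen.e)) (@D3.rec (fun _ => (Cert rels S Gen.e)) lc_e_rc_34_0 lc_e_rc_35_2 lc_e_Cert_tree lc_e_Cert_tree lc_e_Cert_tree lc_e_rc_34_0 lc_e_rc_36_2 lc_e_Cert_tree lc_e_Cert_tree lc_e_rc_34_0 lc_e_rc_13_1 lc_e_rc_34_0 lc_e_rc_36_2 lc_e_rc_34_0 lc_e_rc_34_0 lc_e_rc_34_0 lc_e_Cert_tree lc_e_rc_21_1 lc_e_rc_36_2 lc_e_rc_35_2 lc_e_rc_39_2 lc_e_Cert_tree lc_e_Cert_tree lc_e_Cert_tree lc_e_rc_34_0 lc_e_Cert_tree lc_e_rc_34_0 lc_e_rc_13_1 lc_e_rc_4_1 lc_e_rc_39_2 lc_e_rc_35_2 lc_e_rc_13_1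 lc_e_Cert_tree lc_e_Cert_tree lc_e_Cert_tree lc_e_rc_34_0 lc_e_rc_36_2 lc_e_rc_36_2 lc_e_Cert_tree lc_e_Cert_tree lc_e_Cert_tree lc_e_rc_34_0 lc_e_Cert_tree lc_e_Cert_tree lc_e_rc_34_0 lc_e_Cert_tree lc_e_rc_34_0 lc_e_rc_36_2 lc_e_rc_37_2 lc_e_rc_28_3 lc_e_Cert_tree) (@D3.rec (fun _ => (Cert rels S Gen.e)) lc_e_rc_34_0 lc_e_Cert_tree lc_e_rc_34_0 lc_e_rc_4_1 lc_e_rc_34_0 lc_e_rc_34_0 lc_e_rc_36_2 lc_e_rc_34_0 lc_e_rc_34_0 lc_e_rc_36_2 lc_e_rc_28_3 lc_e_rc_28_3 lc_e_rc_13_1 lc_e_rc_35_2 lc_e_Cert_tree lc_e_rc_34_0 lc_e_rc_35_2 lc_e_Cert_tree lc_e_rc_34_0 lc_e_Cert_tree lc_e_rc_34_0 lc_e_rc_34_0 lc_e_rc_36_2 lc_e_rc_36_2 lc_e_rc_28_3 lc_e_Cert_tree lc_e_rc_34_0 lc_e_rc_21_1 lc_e_rc_28_3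 lc_e_rc_21_1 lc_e_Cert_tree lc_e_rc_34_0 lc_e_rc_13_1 lc_e_rc_35_2 lc_e_rc_35_2 lc_e_Cert_tree lc_e_rc_34_0 lc_e_Cert_tree lc_e_rc_21_1 lc_e_rc_36_2 lc_e_rc_28_3 lc_e_Cert_tree lc_e_rc_21_1 lc_e_Cert_tree lc_e_rc_34_0 lc_e_rc_13_1 lc_e_rc_34_0 lc_e_rc_4_1 lc_e_Cert_tree lc_e_rc_21_1 lc_e_rc_21_1) (@D3.rec (fun _ => (Cert rels S Gen.e)) lc_e_Cert_tree lc_e_rc_34_0 lc_e_rc_13_1 lc_e_rc_21_1 lc_e_rc_21_1 lc_e_rc_21_1 lc_e_rc_13_1 lc_e_Cert_tree lc_e_Cert_tree lc_e_rc_34_0 lc_e_Cert_tree lc_e_rc_34_0 lc_e_rc_4_1 lc_e_rc_34_0 lc_e_rc_28_3 lc_e_rc_36_2 lc_e_rc_35_2 lc_e_rc_28_3 lc_e_rc_21_1 lc_e_rc_35_2 lc_e_Cert_tree lc_e_rc_34_0 lc_e_rc_21_1 lc_e_Cert_tree lc_e_Cert_tree lc_e_rc_34_0 lc_e_rc_13_1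 lc_e_rc_35_2 lc_e_rc_35_2 lc_e_rc_35_2 lc_e_Cert_tree lc_e_rc_34_0 lc_e_Cert_tree lc_e_rc_21_1 lc_e_rc_36_2 lc_e_rc_37_2 lc_e_rc_35_2 lc_e_Cert_tree lc_e_rc_21_1 lc_e_Cert_tree lc_e_rc_34_0 lc_e_rc_13_1 lc_e_Cert_tree lc_e_Cert_tree lc_e_rc_34_0 lc_e_rc_34_0 lc_e_rc_35_2 lc_e_rc_37_2 lc_e_Cert_tree lc_e_rc_21_1 lc_e_rc_35_2) (@D3.rec (fun _ => (Cert rels S Gen.e)) lc_e_rc_35_2 lc_e_rc_35_2 lc_e_Cert_tree lc_e_rc_21_1 lc_e_Cert_tree lc_e_Cert_tree lc_e_rc_34_0 lc_e_rc_13_1 lc_e_rc_21_1 lc_e_rc_35_2 lc_e_rc_21_1 lc_e_rc_36_2 lc_e_Cert_tree lc_e_rc_39_2 lc_e_rc_21_1 lc_e_Cert_tree lc_e_rc_34_0 lc_e_rc_13_1 lc_e_Cert_tree lc_e_rc_34_0 lc_e_rc_4_1 lc_e_Cert_tree lc_e_Cert_tree lc_e_rc_34_0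 lc_e_Cert_tree lc_e_rc_34_0 lc_e_rc_34_0 lc_e_rc_34_0 lc_e_rc_28_3 lc_e_rc_34_0 lc_e_rc_36_2 lc_e_rc_35_2 lc_e_rc_28_3 lc_e_rc_35_2 lc_e_rc_35_2 lc_e_rc_35_2 lc_e_rc_35_2 lc_e_rc_35_2 lc_e_Cert_tree lc_e_rc_21_1 lc_e_rc_35_2 lc_e_Cert_tree lc_e_rc_35_2 lc_e_rc_13_1 lc_e_Cert_tree lc_e_Cert_tree lc_e_rc_34_0 lc_e_rc_21_1 lc_e_rc_21_1 lc_e_rc_28_3 lc_e_rc_35_2) (@D3.rec (fun _ => (Cert rels S Gen.e)) lc_e_Cert_tree lc_e_Cert_tree lc_e_rc_34_0 lc_e_rc_36_2 lc_e_Cert_tree lc_e_Cert_tree lc_e_rc_34_0 lc_e_rc_13_1 lc_e_rc_37_2 lc_e_rc_37_2 lc_e_Cert_tree lc_e_rc_21_1 lc_e_rc_28_3 lc_e_rc_35_2 lc_e_rc_35_2 lc_e_rc_21_1 lc_e_rc_35_2 lc_e_Cert_tree lc_e_Cert_tree lc_e_rc_34_0 lc_e_rc_13_1 lc_e_rc_35_2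 lc_e_rc_21_1 lc_e_rc_35_2 lc_e_rc_36_2 lc_e_rc_39_2 lc_e_rc_21_1 lc_e_rc_28_3 lc_e_Cert_tree lc_e_rc_34_0 lc_e_rc_13_1 lc_e_Cert_tree lc_e_Cert_tree lc_e_rc_34_0 lc_e_Cert_tree lc_e_rc_34_0 lc_e_rc_4_1 lc_e_rc_28_3 lc_e_Cert_tree lc_e_Cert_tree lc_e_rc_34_0 lc_e_Cert_tree lc_e_rc_34_0 lc_e_Cert_tree lc_e_rc_34_0 lc_e_rc_34_0 lc_e_rc_34_0 lc_e_rc_28_3 lc_e_rc_39_0 lc_e_rc_38_0 lc_e_rc_35_2) (@D3.rec (fun _ => (Cert rels S Gen.e)) lc_e_Cert_tree lc_e_Cert_tree lc_e_rc_34_0 lc_e_rc_36_2 lc_e_Cert_tree lc_e_Cert_tree lc_e_rc_34_0 lc_e_rc_13_1 lc_e_rc_28_3 lc_e_Cert_tree lc_e_rc_21_1 lc_e_rc_35_2 lc_e_rc_36_2 lc_e_Cert_tree lc_e_rc_37_2 lc_e_rc_21_1 lc_e_rc_35_2 lc_e_Cert_tree lc_e_Cert_tree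 lc_e_rc_34_0 lc_e_Cert_tree lc_e_rc_34_0 lc_e_Cert_tree lc_e_Cert_tree lc_e_rc_34_0 lc_e_Cert_tree lc_e_rc_34_0 lc_e_rc_4_1 lc_e_rc_21_1 lc_e_rc_35_2 lc_e_Cert_tree lc_e_rc_21_1 lc_e_rc_28_3 lc_e_Cert_tree lc_e_rc_34_0 lc_e_Cert_tree lc_e_rc_34_0 lc_e_rc_35_2 lc_e_rc_36_2 lc_e_Cert_tree lc_e_Cert_tree lc_e_Cert_tree lc_e_rc_34_0 lc_e_Cert_tree lc_e_rc_34_0 lc_e_Cert_tree lc_e_rc_34_0 lc_e_rc_36_2 lc_e_Cert_tree lc_e_Cert_tree lc_e_rc_34_0) (@D3.rec (fun _ => (Cert rels S Gen.e)) lc_e_Cert_tree lc_e_rc_34_0 lc_e_rc_36_2 lc_e_Cert_tree lc_e_rc_34_0 lc_e_rc_21_1 lc_e_Cert_tree lc_e_rc_34_0 lc_e_Cert_tree lc_e_rc_34_0 lc_e_Cert_tree lc_e_rc_34_0 lc_e_rc_28_3 lc_e_rc_34_0 lc_e_Cert_tree lc_e_Cert_tree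 lc_e_rc_34_0 lc_e_rc_34_0 lc_e_Cert_tree lc_e_rc_34_0 lc_e_Cert_tree lc_e_rc_34_0 lc_e_rc_36_2 lc_e_Cert_tree lc_e_rc_34_0 lc_e_rc_28_3 lc_e_rc_34_0 lc_e_rc_36_2 lc_e_rc_28_3 lc_e_rc_34_0 lc_e_rc_37_2 lc_e_rc_34_0 lc_e_rc_28_3 lc_e_rc_35_2 lc_e_rc_36_2 lc_e_rc_34_0 lc_e_Cert_tree lc_e_rc_34_0 lc_e_rc_28_3 lc_e_rc_36_2 lc_e_rc_34_0 lc_e_rc_13_1 lc_e_rc_35_2 lc_e_rc_28_3 lc_e_rc_35_2 lc_e_rc_4_1 lc_e_rc_21_1 lc_e_rc_13_1 lc_e_rc_39_2 lc_e_rc_34_0 lc_e_rc_28_3) (@D3.rec (fun _ => (Cert rels S Gen.e)) lc_e_rc_21_1 lc_e_Cert_tree lc_e_rc_34_0 lc_e_rc_34_0 lc_e_rc_13_1 lc_e_rc_21_1 lc_e_rc_13_1 lc_e_rc_21_1 lc_e_rc_21_1 lc_e_rc_13_1 lc_e_rc_13_1 lc_e_rc_21_1 lc_e_rc_28_1 lc_e_rc_56_39 lc_e_Cert_tree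 lc_e_rc_21_1 lc_e_Cert_tree lc_e_rc_35_2 lc_e_Cert_tree lc_e_Cert_tree lc_e_rc_34_0 lc_e_rc_13_1 lc_e_rc_21_1 lc_e_rc_13_1 lc_e_rc_4_1 lc_e_rc_34_0 lc_e_rc_34_0 lc_e_Cert_tree lc_e_rc_34_0 lc_e_rc_21_1 lc_e_rc_21_1 lc_e_rc_13_1 lc_e_rc_13_1 lc_e_rc_28_3 lc_e_Cert_tree lc_e_rc_34_0 lc_e_Cert_tree lc_e_rc_34_0 lc_e_rc_4_1 lc_e_rc_21_1 lc_e_rc_13_1 lc_e_Cert_tree lc_e_Cert_tree lc_e_rc_34_0 lc_e_rc_13_1 lc_e_rc_35_2 lc_e_Cert_tree lc_e_Cert_tree lc_e_rc_34_0 lc_e_Cert_tree lc_e_rc_21_1) (@D3.rec (fun _ => (Cert rels S Gen.e)) lc_e_Cert_tree lc_e_rc_34_0 lc_e_rc_35_2 lc_e_Cert_tree lc_e_Cert_tree lc_e_Cert_tree lc_e_rc_34_0 lc_e_rc_36_2 lc_e_rc_21_1 lc_e_rc_13_1 lc_e_Cert_tree lc_e_Cert_tree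 lc_e_rc_34_0 lc_e_rc_36_2 lc_e_Cert_tree lc_e_Cert_tree lc_e_rc_34_0 lc_e_Cert_tree lc_e_rc_34_0 lc_e_Cert_tree lc_e_rc_34_0 lc_e_rc_28_3 lc_e_rc_13_1 lc_e_rc_4_1 lc_e_rc_36_2 lc_e_rc_34_0 lc_e_rc_37_2 lc_e_rc_34_0 lc_e_rc_4_1 lc_e_rc_36_2 lc_e_rc_34_0 lc_e_rc_36_2 lc_e_rc_37_2 lc_e_Cert_tree lc_e_rc_34_0 lc_e_rc_34_0 lc_e_rc_13_1 lc_e_rc_35_2 lc_e_Cert_tree lc_e_Cert_tree lc_e_rc_34_0 lc_e_Cert_tree lc_e_Cert_tree lc_e_rc_34_0 lc_e_rc_13_1 lc_e_rc_35_2 lc_e_Cert_tree lc_e_rc_34_0 lc_e_rc_28_5 lc_e_rc_35_2 lc_e_Cert_tree) (@D3.rec (fun _ => (Cert rels S Gen.e)) lc_e_rc_34_0 lc_e_rc_39_2 lc_e_Cert_tree lc_e_Cert_tree lc_e_rc_34_0 lc_e_rc_13_1 lc_e_Cert_tree lc_e_rc_28_3 lc_e_Cert_tree lc_e_rc_34_0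 lc_e_rc_35_2 lc_e_Cert_tree lc_e_Cert_tree lc_e_rc_34_0 lc_e_rc_21_1 lc_e_Cert_tree lc_e_rc_34_0 lc_e_rc_21_1 lc_e_rc_13_1 lc_e_rc_4_1 lc_e_Cert_tree lc_e_Cert_tree lc_e_rc_34_0 lc_e_rc_36_2 lc_e_Cert_tree lc_e_rc_34_0 lc_e_rc_39_0 lc_e_Cert_tree lc_e_Cert_tree lc_e_rc_34_0 lc_e_rc_39_2 lc_e_Cert_tree lc_e_Cert_tree lc_e_Cert_tree lc_e_rc_34_0 lc_e_Cert_tree lc_e_rc_34_0 lc_e_Cert_tree lc_e_rc_34_0 lc_e_rc_28_3 lc_e_rc_37_2 lc_e_rc_13_1 lc_e_rc_4_1 lc_e_Cert_tree lc_e_rc_21_1 lc_e_Cert_tree lc_e_Cert_tree lc_e_Cert_tree lc_e_rc_34_0 lc_e_rc_28_3 lc_e_Cert_tree) (@D3.rec (fun _ => (Cert rels S Gen.e)) lc_e_rc_34_0 lc_e_Cert_tree lc_e_rc_34_0 lc_e_Cert_tree lc_e_Cert_tree lc_e_Cert_tree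 lc_e_rc_34_0 lc_e_Cert_tree lc_e_rc_34_0 lc_e_Cert_tree lc_e_rc_34_0 lc_e_rc_35_2 lc_e_Cert_tree lc_e_Cert_tree lc_e_rc_34_0 lc_e_Cert_tree lc_e_rc_34_0 lc_e_Cert_tree lc_e_rc_34_0 lc_e_rc_21_1 lc_e_rc_21_1 lc_e_rc_13_1 lc_e_rc_4_1 lc_e_Cert_tree lc_e_rc_34_0 lc_e_rc_34_0 lc_e_rc_34_0 lc_e_rc_34_0 lc_e_rc_35_2 lc_e_rc_37_2 lc_e_rc_34_0 lc_e_rc_36_2 lc_e_rc_21_1 lc_e_rc_21_1 lc_e_Cert_tree lc_e_rc_34_0 lc_e_rc_36_2 lc_e_rc_13_1 lc_e_rc_39_2 lc_e_Cert_tree lc_e_Cert_tree lc_e_rc_34_0 lc_e_rc_36_2 lc_e_rc_13_1 lc_e_rc_13_1 lc_e_rc_39_2 lc_e_Cert_tree lc_e_Cert_tree lc_e_Cert_tree lc_e_rc_34_0 lc_e_Cert_tree) (@D3.rec (fun _ => (Cert rels S Gen.e)) lc_e_rc_34_0 lc_e_Cert_tree lc_e_rc_34_0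 lc_e_rc_36_2 lc_e_rc_37_2 lc_e_rc_13_1 lc_e_rc_4_1 lc_e_rc_36_2 lc_e_rc_34_0 lc_e_rc_35_2 lc_e_Cert_tree lc_e_Cert_tree lc_e_rc_34_0 lc_e_rc_13_1 lc_e_rc_35_2 lc_e_rc_13_1 lc_e_Cert_tree lc_e_rc_34_0 lc_e_rc_28_3 lc_e_rc_4_1 lc_e_Cert_tree lc_e_rc_34_0 lc_e_rc_36_2 lc_e_Cert_tree lc_e_Cert_tree lc_e_rc_34_0 lc_e_Cert_tree lc_e_rc_34_0 lc_e_rc_28_3 lc_e_rc_4_1 lc_e_Cert_tree lc_e_rc_34_0 lc_e_Cert_tree lc_e_rc_34_0 lc_e_rc_13_1 lc_e_Cert_tree lc_e_rc_34_0 lc_e_Cert_tree lc_e_rc_34_0 lc_e_rc_4_1 lc_e_Cert_tree lc_e_rc_34_0 lc_e_Cert_tree lc_e_rc_34_0 lc_e_rc_38_2 lc_e_Cert_tree lc_e_rc_34_0 lc_e_rc_28_3 lc_e_Cert_tree lc_e_rc_34_0 lc_e_Cert_tree) (@D3.rec (fun _ => (Cert rels S Gen.e)) lc_e_rc_34_0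 lc_e_rc_35_0 lc_e_Cert_tree lc_e_rc_34_0 lc_e_Cert_tree lc_e_rc_34_0 lc_e_rc_35_0 lc_e_rc_28_3 lc_e_rc_13_1 lc_e_rc_4_1 lc_e_Cert_tree lc_e_rc_21_1 lc_e_rc_13_1 lc_e_rc_4_1 lc_e_rc_13_1 lc_e_rc_21_1 lc_e_rc_13_1 lc_e_rc_13_1 lc_e_rc_4_1 lc_e_Cert_tree lc_e_rc_21_1 lc_e_Cert_tree lc_e_Cert_tree lc_e_rc_34_0 lc_e_rc_13_1 lc_e_Cert_tree lc_e_rc_21_1 lc_e_Cert_tree lc_e_rc_21_1 lc_e_Cert_tree lc_e_rc_34_0 lc_e_rc_13_1 lc_e_rc_37_2 lc_e_rc_13_1 lc_e_rc_4_1 lc_e_Cert_tree lc_e_rc_21_1 lc_e_Cert_tree lc_e_rc_34_0 lc_e_rc_13_1 lc_e_Cert_tree lc_e_rc_34_0 lc_e_rc_13_1 lc_e_Cert_tree lc_e_rc_34_0 lc_e_rc_4_1 lc_e_rc_4_1 lc_e_rc_34_0 lc_e_Cert_tree lc_e_rc_34_0 lc_e_rc_13_1) (@D3.rec (fun _ => (Cert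 rels S Gen.e)) lc_e_rc_13_1 lc_e_rc_4_1 lc_e_rc_21_1 lc_e_Cert_tree lc_e_rc_34_0 lc_e_rc_13_1 lc_e_rc_21_1 lc_e_rc_13_1 lc_e_rc_4_1 lc_e_rc_21_1 lc_e_rc_21_1 lc_e_rc_13_1 lc_e_rc_21_1 lc_e_rc_13_1 lc_e_rc_4_1 lc_e_Cert_tree lc_e_rc_34_0 lc_e_Cert_tree lc_e_Cert_tree lc_e_rc_34_0 lc_e_rc_34_0 lc_e_Cert_tree lc_e_Cert_tree lc_e_rc_34_0 lc_e_Cert_tree lc_e_rc_34_0 lc_e_rc_4_1 lc_e_Cert_tree lc_e_rc_21_1 lc_e_Cert_tree lc_e_rc_34_0 lc_e_rc_13_1 lc_e_rc_21_1 lc_e_rc_21_1 lc_e_rc_13_1 lc_e_rc_4_1 lc_e_rc_21_1 lc_e_Cert_tree lc_e_Cert_tree lc_e_rc_21_1 lc_e_Cert_tree lc_e_rc_34_0 lc_e_rc_13_1 lc_e_rc_35_2 lc_e_Cert_tree lc_e_Cert_tree lc_e_Cert_tree lc_e_rc_34_0 lc_e_rc_21_1 lc_e_rc_13_1 lc_e_Cert_tree)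 (@D3.rec (fun _ => (Cert rels S Gen.e)) lc_e_Cert_tree lc_e_rc_34_0 lc_e_Cert_tree lc_e_rc_34_0 lc_e_rc_4_1 lc_e_rc_21_1 lc_e_rc_13_1 lc_e_rc_4_1 lc_e_rc_34_0 lc_e_rc_34_0 lc_e_Cert_tree lc_e_rc_34_0 lc_e_rc_13_1 lc_e_Cert_tree lc_e_rc_34_0 lc_e_Cert_tree lc_e_rc_34_0 lc_e_rc_4_1 lc_e_Cert_tree lc_e_rc_34_0 lc_e_rc_39_0 lc_e_rc_13_1 lc_e_Cert_tree lc_e_rc_34_0 lc_e_rc_36_2 lc_e_Cert_tree lc_e_rc_34_0 lc_e_rc_21_1 lc_e_rc_37_2 lc_e_rc_21_1 lc_e_rc_13_1 lc_e_rc_4_1 lc_e_rc_21_1 lc_e_rc_13_1 lc_e_Cert_tree lc_e_rc_34_0 lc_e_Cert_tree lc_e_rc_34_0 lc_e_rc_28_5 lc_e_Cert_tree lc_e_Cert_tree lc_e_rc_34_0 lc_e_Cert_tree lc_e_rc_34_0 lc_e_Cert_tree lc_e_rc_34_0 lc_e_rc_36_0 lc_e_rc_39_0 lc_e_rc_28_3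 lc_e_rc_34_0 lc_e_Cert_tree) (@D3.rec (fun _ => (Cert rels S Gen.e)) lc_e_rc_34_0 lc_e_rc_36_2 lc_e_Cert_tree lc_e_rc_34_0 lc_e_rc_21_1 lc_e_rc_34_0 lc_e_rc_13_1 lc_e_rc_13_1 lc_e_rc_4_1 lc_e_rc_34_0 lc_e_rc_37_2 lc_e_rc_34_0 lc_e_rc_34_0 lc_e_rc_34_0 lc_e_rc_34_0 lc_e_rc_36_2 lc_e_Cert_tree lc_e_rc_21_1 lc_e_rc_34_0 lc_e_rc_28_3 lc_e_rc_21_1 lc_e_rc_28_3 lc_e_rc_28_3 lc_e_Cert_tree lc_e_rc_34_0 lc_e_rc_13_1 lc_e_rc_34_0 lc_e_rc_28_3 lc_e_rc_21_1 lc_e_rc_13_1 lc_e_rc_35_0 lc_e_Cert_tree lc_e_rc_34_0 lc_e_rc_13_1 lc_e_rc_34_0 lc_e_rc_13_1 lc_e_rc_4_3 lc_e_rc_28_3 lc_e_Cert_tree lc_e_rc_34_0 lc_e_Cert_tree lc_e_rc_34_0 lc_e_rc_4_1 lc_e_rc_34_0 lc_e_rc_39_0 lc_e_rc_35_2 lc_e_rc_35_2 lc_e_rc_35_2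 lc_e_rc_35_2 lc_e_Cert_tree lc_e_rc_35_2) (@D3.rec (fun _ => (Cert rels S Gen.e)) lc_e_rc_35_2 lc_e_Cert_tree lc_e_rc_34_0 lc_e_Cert_tree lc_e_rc_21_1 lc_e_rc_28_3 lc_e_rc_35_2 lc_e_Cert_tree lc_e_rc_34_0 lc_e_rc_35_2 lc_e_Cert_tree lc_e_rc_21_1 lc_e_rc_39_2 lc_e_Cert_tree lc_e_Cert_tree lc_e_rc_34_0 lc_e_rc_36_2 lc_e_Cert_tree lc_e_rc_34_0 lc_e_rc_13_1 lc_e_rc_36_2 lc_e_Cert_tree lc_e_Cert_tree lc_e_rc_34_0 lc_e_rc_34_0 lc_e_rc_21_1 lc_e_Cert_tree lc_e_Cert_tree lc_e_rc_34_0 lc_e_rc_36_2 lc_e_Cert_tree lc_e_Cert_tree lc_e_rc_34_0 lc_e_rc_13_1 lc_e_rc_13_1 lc_e_Cert_tree lc_e_Cert_tree lc_e_rc_34_0 lc_e_rc_39_2 lc_e_Cert_tree lc_e_Cert_tree lc_e_Cert_tree lc_e_rc_34_0 lc_e_Cert_tree lc_e_rc_34_0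 lc_e_Cert_tree lc_e_rc_34_0 lc_e_rc_36_2 lc_e_rc_37_2 lc_e_Cert_tree lc_e_rc_34_0) (@D3.rec (fun _ => (Cert rels S Gen.e)) lc_e_rc_4_1 lc_e_Cert_tree lc_e_rc_34_0 lc_e_rc_36_2 lc_e_rc_37_2 lc_e_Cert_tree lc_e_rc_34_0 lc_e_rc_34_0 lc_e_rc_34_0 lc_e_rc_36_2 lc_e_rc_28_3 lc_e_rc_34_0 lc_e_rc_36_2 lc_e_rc_13_1 lc_e_rc_35_2 lc_e_rc_37_2 lc_e_Cert_tree lc_e_rc_34_0 lc_e_rc_34_0 lc_e_rc_35_2 lc_e_rc_35_2 lc_e_rc_21_1 lc_e_rc_35_2 lc_e_rc_39_2 lc_e_rc_13_1 lc_e_rc_35_2 lc_e_Cert_tree lc_e_rc_34_0 lc_e_rc_21_1 lc_e_Cert_tree lc_e_Cert_tree lc_e_rc_34_0 lc_e_Cert_tree lc_e_rc_34_0 lc_e_rc_13_1 lc_e_Cert_tree lc_e_rc_28_5 lc_e_rc_21_1 lc_e_Cert_tree lc_e_Cert_tree lc_e_rc_34_0 lc_e_Cert_tree lc_e_rc_34_0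 lc_e_rc_13_1 lc_e_Cert_tree lc_e_rc_21_1 lc_e_rc_13_1 lc_e_Cert_tree lc_e_rc_34_0 lc_e_Cert_tree lc_e_Cert_tree) (@D3.rec (fun _ => (Cert rels S Gen.e)) lc_e_rc_34_0 lc_e_Cert_tree lc_e_rc_34_0 lc_e_rc_4_1 lc_e_rc_34_0 lc_e_rc_35_2 lc_e_Cert_tree lc_e_rc_35_2 lc_e_rc_35_2 lc_e_Cert_tree lc_e_rc_34_0 lc_e_rc_35_2 lc_e_Cert_tree lc_e_rc_21_1 lc_e_rc_35_2 lc_e_Cert_tree lc_e_Cert_tree lc_e_Cert_tree lc_e_rc_34_0 lc_e_Cert_tree lc_e_Cert_tree lc_e_Cert_tree lc_e_rc_34_0 lc_e_rc_36_2 lc_e_Cert_tree lc_e_rc_34_0 lc_e_rc_13_1 lc_e_rc_37_2 lc_e_Cert_tree lc_e_rc_21_1 lc_e_Cert_tree lc_e_rc_34_0 lc_e_Cert_tree lc_e_Cert_tree lc_e_rc_34_0 lc_e_rc_36_2 lc_e_Cert_tree lc_e_Cert_tree lc_e_rc_34_0 lc_e_rc_13_1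 lc_e_Cert_tree lc_e_Cert_tree lc_e_rc_34_0 lc_e_rc_37_2 lc_e_Cert_tree lc_e_Cert_tree lc_e_rc_34_0 lc_e_rc_21_1 lc_e_Cert_tree lc_e_rc_34_0 lc_e_rc_28_3) (@D3.rec (fun _ => (Cert rels S Gen.e)) lc_e_Cert_tree lc_e_Cert_tree lc_e_rc_34_0 lc_e_Cert_tree lc_e_rc_34_0 lc_e_rc_4_1 lc_e_rc_34_0 lc_e_rc_34_0 lc_e_rc_34_0 lc_e_rc_28_3 lc_e_rc_38_2 lc_e_Cert_tree lc_e_Cert_tree lc_e_rc_34_0 lc_e_rc_13_1 lc_e_Cert_tree lc_e_rc_34_0 lc_e_Cert_tree lc_e_rc_34_0 lc_e_rc_36_2 lc_e_Cert_tree lc_e_rc_34_0 lc_e_rc_36_2 lc_e_rc_37_2 lc_e_Cert_tree lc_e_Cert_tree lc_e_rc_34_0 lc_e_Cert_tree lc_e_rc_34_0 lc_e_rc_4_1 lc_e_rc_36_2 lc_e_Cert_tree lc_e_rc_34_0 lc_e_Cert_tree lc_e_Cert_tree lc_e_rc_34_0 lc_e_rc_21_1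 lc_e_Cert_tree lc_e_rc_34_0 lc_e_rc_28_3 lc_e_Cert_tree lc_e_rc_34_0 lc_e_Cert_tree lc_e_rc_34_0 lc_e_rc_35_2 lc_e_rc_28_3 lc_e_rc_21_1 lc_e_rc_13_1 lc_e_Cert_tree lc_e_rc_34_0 lc_e_rc_21_1) (@D3.rec (fun _ => (Cert rels S Gen.e)) lc_e_rc_28_3 lc_e_Cert_tree lc_e_rc_34_0 lc_e_Cert_tree lc_e_rc_34_0 lc_e_Cert_tree lc_e_rc_34_0 lc_e_rc_21_1 lc_e_rc_34_0 lc_e_rc_36_2 lc_e_rc_34_0 lc_e_rc_28_3 lc_e_rc_28_3 lc_e_rc_35_2 lc_e_rc_37_0 lc_e_rc_34_0 lc_e_rc_28_1 lc_e_rc_28_3 lc_e_rc_21_1 lc_e_rc_28_3 lc_e_Cert_tree lc_e_rc_34_0 lc_e_Cert_tree lc_e_rc_21_1 lc_e_rc_34_0 lc_e_rc_28_3 lc_e_rc_21_1 lc_e_Cert_tree lc_e_rc_34_0 lc_e_Cert_tree lc_e_rc_34_0 lc_e_rc_13_1 lc_e_rc_35_2 lc_e_rc_35_2 lc_e_Cert_tree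 lc_e_rc_34_0 lc_e_Cert_tree lc_e_rc_21_1 lc_e_rc_21_1 lc_e_Cert_tree lc_e_rc_34_0 lc_e_Cert_tree lc_e_Cert_tree lc_e_rc_34_0 lc_e_rc_36_2 lc_e_Cert_tree lc_e_Cert_tree lc_e_rc_34_0 lc_e_rc_13_1 lc_e_rc_34_0 lc_e_rc_34_0) (@D3.rec (fun _ => (Cert rels S Gen.e)) lc_e_rc_21_1 lc_e_rc_13_1 lc_e_Cert_tree lc_e_rc_34_0 lc_e_Cert_tree lc_e_rc_34_0 lc_e_Cert_tree lc_e_rc_34_0 lc_e_rc_28_3 lc_e_Cert_tree lc_e_rc_34_0 lc_e_Cert_tree lc_e_rc_34_0 lc_e_rc_4_1 lc_e_rc_28_3 lc_e_rc_35_0 lc_e_rc_21_1 lc_e_rc_13_1 lc_e_rc_13_3 lc_e_Cert_tree lc_e_Cert_tree lc_e_rc_34_0 lc_e_rc_13_1 lc_e_rc_35_2 lc_e_rc_35_2 lc_e_rc_35_2 lc_e_Cert_tree lc_e_rc_34_0 lc_e_Cert_tree lc_e_rc_37_2 lc_e_rc_28_3 lc_e_rc_21_1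 lc_e_Cert_tree lc_e_rc_34_0 lc_e_Cert_tree lc_e_rc_28_3 lc_e_Cert_tree lc_e_rc_34_0 lc_e_rc_36_2 lc_e_Cert_tree lc_e_rc_34_0 lc_e_rc_13_1 lc_e_rc_34_0 lc_e_rc_21_1 lc_e_rc_35_2 lc_e_rc_28_3 lc_e_rc_35_2 lc_e_rc_13_1 lc_e_Cert_tree lc_e_rc_34_0 lc_e_rc_34_0) (@D3.rec (fun _ => (Cert rels S Gen.e)) lc_e_rc_36_2 lc_e_Cert_tree lc_e_rc_34_0 lc_e_Cert_tree lc_e_rc_34_0 lc_e_rc_36_2 lc_e_Cert_tree lc_e_rc_34_0 lc_e_rc_4_1 lc_e_rc_34_0 lc_e_rc_36_2 lc_e_rc_28_3 lc_e_rc_35_2 lc_e_rc_35_2 lc_e_rc_35_2 lc_e_rc_37_2 lc_e_Cert_tree lc_e_rc_37_2 lc_e_Cert_tree lc_e_Cert_tree lc_e_rc_34_0 lc_e_rc_39_2 lc_e_Cert_tree lc_e_Cert_tree lc_e_Cert_tree lc_e_rc_34_0 lc_e_rc_36_2 lc_e_Cert_tree lc_e_rc_34_0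 lc_e_rc_13_1 lc_e_rc_38_2 lc_e_rc_35_2 lc_e_Cert_tree lc_e_Cert_tree lc_e_rc_34_0 lc_e_Cert_tree lc_e_rc_34_0 lc_e_rc_13_1 lc_e_Cert_tree lc_e_Cert_tree lc_e_rc_34_0 lc_e_rc_36_2 lc_e_Cert_tree lc_e_Cert_tree lc_e_rc_34_0 lc_e_Cert_tree lc_e_rc_34_0 lc_e_Cert_tree lc_e_rc_34_0 lc_e_rc_28_3 lc_e_Cert_tree) (@D3.rec (fun _ => (Cert rels S Gen.e)) lc_e_rc_34_0 lc_e_Cert_tree lc_e_rc_34_0 lc_e_rc_4_1 lc_e_rc_4_3 lc_e_Cert_tree lc_e_rc_34_0 lc_e_rc_13_1 lc_e_rc_36_2 lc_e_Cert_tree lc_e_Cert_tree lc_e_Cert_tree lc_e_rc_34_0 lc_e_Cert_tree lc_e_rc_34_0 lc_e_Cert_tree lc_e_rc_34_0 lc_e_Cert_tree lc_e_rc_34_0 lc_e_rc_4_1 lc_e_rc_35_2 lc_e_rc_21_1 lc_e_Cert_tree lc_e_Cert_tree lc_e_Cert_tree lc_e_rc_34_0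 lc_e_Cert_tree lc_e_rc_34_0 lc_e_Cert_tree lc_e_rc_34_0 lc_e_rc_36_2 lc_e_Cert_tree lc_e_Cert_tree lc_e_rc_34_0 lc_e_Cert_tree lc_e_rc_34_0 lc_e_Cert_tree lc_e_rc_34_0 lc_e_rc_36_2 lc_e_Cert_tree lc_e_rc_34_0 lc_e_Cert_tree lc_e_rc_34_0 lc_e_rc_36_2 lc_e_Cert_tree lc_e_rc_34_0 lc_e_rc_21_1 lc_e_rc_36_2 lc_e_rc_35_2 lc_e_Cert_tree lc_e_rc_34_0) (@D3.rec (fun _ => (Cert rels S Gen.e)) lc_e_Cert_tree lc_e_rc_34_0 lc_e_rc_28_3 lc_e_rc_36_2 lc_e_rc_28_3 lc_e_rc_35_2 lc_e_rc_35_2 lc_e_rc_21_1 lc_e_rc_13_1 lc_e_rc_39_2 lc_e_rc_34_0 lc_e_rc_34_0 lc_e_rc_34_0 lc_e_rc_36_2 lc_e_rc_28_3 lc_e_rc_21_1 lc_e_rc_21_1 lc_e_Cert_tree lc_e_rc_34_0 lc_e_rc_13_1 lc_e_rc_21_1 lc_e_rc_13_1 lc_e_Cert_tree lc_e_rc_34_0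 lc_e_rc_4_1 lc_e_Cert_tree lc_e_rc_21_1 lc_e_Cert_tree lc_e_rc_34_0 lc_e_rc_36_2 lc_e_Cert_tree lc_e_rc_34_0 lc_e_rc_13_1 lc_e_Cert_tree lc_e_rc_21_1 lc_e_Cert_tree lc_e_rc_34_0 lc_e_rc_13_1 lc_e_Cert_tree lc_e_rc_34_0 lc_e_rc_4_1 lc_e_rc_28_3 lc_e_Cert_tree lc_e_rc_34_0 lc_e_rc_13_1 lc_e_rc_13_1 lc_e_Cert_tree lc_e_rc_34_0 lc_e_rc_4_1 lc_e_rc_13_1 lc_e_rc_13_1) (@D3.rec (fun _ => (Cert rels S Gen.e)) lc_e_rc_13_1 lc_e_rc_4_1 lc_e_Cert_tree lc_e_rc_34_0 lc_e_Cert_tree lc_e_rc_34_0 lc_e_Cert_tree lc_e_rc_34_0 lc_e_rc_21_1 lc_e_rc_35_2 lc_e_rc_28_1 lc_e_rc_21_1 lc_e_rc_13_1 lc_e_rc_38_2 lc_e_Cert_tree lc_e_rc_34_0 lc_e_rc_13_1 lc_e_Cert_tree lc_e_rc_34_0 lc_e_Cert_tree lc_e_rc_34_0 lc_e_rc_4_1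 lc_e_Cert_tree lc_e_rc_21_1 lc_e_Cert_tree lc_e_Cert_tree lc_e_rc_34_0 lc_e_rc_36_2 lc_e_Cert_tree lc_e_rc_34_0 lc_e_rc_13_1 lc_e_Cert_tree lc_e_rc_21_1 lc_e_Cert_tree lc_e_Cert_tree lc_e_rc_34_0 lc_e_rc_13_1 lc_e_Cert_tree lc_e_rc_34_0 lc_e_rc_4_1 lc_e_Cert_tree lc_e_rc_34_0 lc_e_rc_34_0 lc_e_rc_28_3 lc_e_Cert_tree lc_e_rc_21_1 lc_e_Cert_tree lc_e_rc_34_0 lc_e_rc_13_1 lc_e_Cert_tree lc_e_rc_21_1) (@D3.rec (fun _ => (Cert rels S Gen.e)) lc_e_Cert_tree lc_e_Cert_tree lc_e_rc_34_0 lc_e_rc_13_1 lc_e_Cert_tree lc_e_rc_34_0 lc_e_Cert_tree lc_e_rc_34_0 lc_e_rc_4_1 lc_e_rc_35_2 lc_e_rc_21_1 lc_e_rc_13_1 lc_e_Cert_tree lc_e_Cert_tree lc_e_rc_34_0 lc_e_rc_21_1 lc_e_rc_13_1 lc_e_Cert_tree lc_e_rc_34_0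 lc_e_rc_4_1 lc_e_Cert_tree lc_e_rc_34_0 lc_e_rc_28_3 lc_e_Cert_tree lc_e_rc_34_0 lc_e_rc_34_0 lc_e_rc_34_0 lc_e_rc_36_2 lc_e_rc_28_3 lc_e_rc_28_3 lc_e_rc_35_2 lc_e_rc_36_2 lc_e_rc_39_2 lc_e_rc_35_2 lc_e_rc_35_2 lc_e_Cert_tree lc_e_rc_35_2 lc_e_Cert_tree lc_e_Cert_tree lc_e_rc_34_0 lc_e_rc_13_1 lc_e_Cert_tree lc_e_Cert_tree lc_e_rc_34_0 lc_e_rc_35_2 lc_e_Cert_tree lc_e_Cert_tree lc_e_rc_34_0 lc_e_rc_34_0 lc_e_rc_13_1 lc_e_Cert_tree)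
def ce_e_19 : D2 → D3 → (Cert rels S Gen.e) := @D2.rec (fun _ => D3 → (Cert rels S Gen.e)) (@D3.rec (fun _ => (Cert rels S Gen.e)) lc_e_rc_28_3 lc_e_rc_28_3 lc_e_Cert_tree lc_e_Cert_tree lc_e_rc_34_0 lc_e_Cert_tree lc_e_rc_34_0 lc_e_rc_36_2 lc_e_rc_37_2 lc_e_Cert_tree lc_e_rc_34_0 lc_e_Cert_tree lc_e_rc_34_0 lc_e_rc_4_1 lc_e_rc_21_1 lc_e_Cert_tree lc_e_Cert_tree lc_e_rc_34_0 lc_e_rc_13_1 lc_e_rc_21_1 lc_e_rc_13_1 lc_e_rc_35_2 lc_e_rc_13_1 lc_e_Cert_tree lc_e_Cert_tree lc_e_rc_34_0 lc_e_Cert_tree lc_e_rc_34_0 lc_e_rc_4_1 lc_e_rc_21_1 lc_e_rc_13_1 lc_e_rc_36_2 lc_e_rc_21_1 lc_e_rc_21_1 lc_e_rc_13_1 lc_e_rc_21_1 lc_e_Cert_tree lc_e_rc_34_0 lc_e_rc_4_1 lc_e_Cert_tree lc_e_rc_34_0 lc_e_Cert_tree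 lc_e_rc_34_0 lc_e_Cert_tree lc_e_rc_34_0 lc_e_rc_21_1 lc_e_Cert_tree lc_e_rc_34_0 lc_e_Cert_tree lc_e_rc_34_0 lc_e_rc_36_2) (@D3.rec (fun _ => (Cert rels S Gen.e)) lc_e_rc_34_0 lc_e_rc_28_3 lc_e_rc_34_0 lc_e_rc_28_3 lc_e_rc_37_2 lc_e_rc_35_2 lc_e_rc_21_1 lc_e_rc_21_1 lc_e_Cert_tree lc_e_Cert_tree lc_e_rc_34_0 lc_e_Cert_tree lc_e_rc_34_0 lc_e_rc_36_2 lc_e_Cert_tree lc_e_rc_34_0 lc_e_Cert_tree lc_e_rc_34_0 lc_e_rc_4_1 lc_e_rc_21_1 lc_e_Cert_tree lc_e_rc_34_0 lc_e_rc_13_1 lc_e_Cert_tree lc_e_rc_28_3 lc_e_Cert_tree lc_e_rc_34_0 lc_e_rc_21_1 lc_e_rc_13_1 lc_e_Cert_tree lc_e_Cert_tree lc_e_rc_34_0 lc_e_Cert_tree lc_e_rc_34_0 lc_e_Cert_tree lc_e_rc_34_0 lc_e_Cert_tree lc_e_rc_34_0 lc_e_Cert_tree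 lc_e_rc_34_0 lc_e_rc_35_2 lc_e_Cert_tree lc_e_rc_34_0 lc_e_rc_28_3 lc_e_rc_13_1 lc_e_rc_35_2 lc_e_Cert_tree lc_e_rc_34_0 lc_e_rc_56_32 lc_e_rc_21_1 lc_e_Cert_tree) (@D3.rec (fun _ => (Cert rels S Gen.e)) lc_e_rc_34_0 lc_e_Cert_tree lc_e_rc_34_0 lc_e_Cert_tree lc_e_Cert_tree lc_e_Cert_tree lc_e_rc_34_0 lc_e_Cert_tree lc_e_rc_34_0 lc_e_Cert_tree lc_e_rc_34_0 lc_e_rc_36_2 lc_e_Cert_tree lc_e_rc_34_0 lc_e_Cert_tree lc_e_rc_34_0 lc_e_rc_28_3 lc_e_rc_21_1 lc_e_Cert_tree lc_e_rc_34_0 lc_e_Cert_tree lc_e_rc_34_0 lc_e_rc_36_2 lc_e_Cert_tree lc_e_rc_34_0 lc_e_rc_28_3 lc_e_rc_21_1 lc_e_rc_34_0 lc_e_rc_13_1 lc_e_Cert_tree lc_e_rc_34_0 lc_e_Cert_tree lc_e_rc_34_0 lc_e_rc_21_1 lc_e_rc_34_0 lc_e_rc_13_1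 lc_e_rc_35_2 lc_e_rc_34_0 lc_e_rc_34_0 lc_e_rc_36_2 lc_e_rc_28_3 lc_e_rc_34_0 lc_e_Cert_tree lc_e_rc_34_0 lc_e_rc_28_3 lc_e_rc_34_0 lc_e_rc_28_3 lc_e_rc_35_2 lc_e_rc_36_2 lc_e_rc_35_2 lc_e_rc_38_2) (@D3.rec (fun _ => (Cert rels S Gen.e)) lc_e_rc_35_2 lc_e_rc_28_3 lc_e_rc_21_1 lc_e_rc_35_2 lc_e_rc_39_2 lc_e_rc_34_0 lc_e_rc_13_1 lc_e_rc_36_2 lc_e_rc_35_2 lc_e_rc_4_1 lc_e_rc_13_1 lc_e_rc_39_2 lc_e_rc_39_2 lc_e_rc_4_1 lc_e_rc_4_1 lc_e_rc_21_1 lc_e_rc_28_3 lc_e_Cert_tree lc_e_rc_34_0 lc_e_rc_4_1 lc_e_rc_13_1 lc_e_rc_4_1 lc_e_rc_13_1 lc_e_rc_13_1 lc_e_rc_4_1 lc_e_rc_4_1 lc_e_rc_13_1 lc_e_rc_13_1 lc_e_rc_56_39 lc_e_Cert_tree lc_e_rc_34_0 lc_e_rc_13_1 lc_e_Cert_tree lc_e_rc_34_0 lc_e_rc_4_3 lc_e_Cert_tree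 lc_e_rc_34_0 lc_e_Cert_tree lc_e_rc_34_0 lc_e_rc_13_3 lc_e_rc_13_1 lc_e_rc_4_1 lc_e_Cert_tree lc_e_rc_34_0 lc_e_rc_13_1 lc_e_rc_13_1 lc_e_rc_4_1 lc_e_rc_4_1 lc_e_rc_21_1 lc_e_Cert_tree lc_e_rc_34_0) (@D3.rec (fun _ => (Cert rels S Gen.e)) lc_e_Cert_tree lc_e_rc_34_0 lc_e_rc_13_1 lc_e_rc_4_1 lc_e_Cert_tree lc_e_rc_34_0 lc_e_Cert_tree lc_e_rc_34_0 lc_e_rc_4_1 lc_e_Cert_tree lc_e_rc_34_0 lc_e_Cert_tree lc_e_rc_34_0 lc_e_rc_4_1 lc_e_Cert_tree lc_e_rc_34_0 lc_e_rc_13_1 lc_e_Cert_tree lc_e_rc_34_0 lc_e_rc_36_2 lc_e_Cert_tree lc_e_Cert_tree lc_e_rc_34_0 lc_e_Cert_tree lc_e_rc_34_0 lc_e_Cert_tree lc_e_rc_34_0 lc_e_rc_28_3 lc_e_rc_37_2 lc_e_rc_13_1 lc_e_rc_4_1 lc_e_Cert_tree lc_e_rc_34_0 lc_e_Cert_tree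 lc_e_rc_34_0 lc_e_rc_28_3 lc_e_Cert_tree lc_e_rc_34_0 lc_e_Cert_tree lc_e_rc_34_0 lc_e_rc_35_2 lc_e_Cert_tree lc_e_rc_34_0 lc_e_Cert_tree lc_e_rc_34_0 lc_e_rc_21_1 lc_e_rc_4_1 lc_e_rc_35_2 lc_e_rc_37_2 lc_e_rc_34_0 lc_e_rc_35_2) (@D3.rec (fun _ => (Cert rels S Gen.e)) lc_e_Cert_tree lc_e_rc_34_0 lc_e_rc_34_0 lc_e_Cert_tree lc_e_rc_34_0 lc_e_Cert_tree lc_e_rc_34_0 lc_e_rc_4_1 lc_e_Cert_tree lc_e_Cert_tree lc_e_rc_34_0 lc_e_rc_36_2 lc_e_rc_4_3 lc_e_Cert_tree lc_e_Cert_tree lc_e_rc_34_0 lc_e_Cert_tree lc_e_Cert_tree lc_e_rc_34_0 lc_e_Cert_tree lc_e_rc_34_0 lc_e_rc_4_1 lc_e_Cert_tree lc_e_rc_34_0 lc_e_rc_21_1 lc_e_Cert_tree lc_e_rc_34_0 lc_e_rc_21_1 lc_e_Cert_tree lc_e_rc_34_0 lc_e_Cert_tree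 lc_e_rc_34_0 lc_e_rc_13_1 lc_e_Cert_tree lc_e_rc_34_0 lc_e_rc_13_1 lc_e_rc_4_1 lc_e_Cert_tree lc_e_rc_34_0 lc_e_Cert_tree lc_e_rc_34_0 lc_e_rc_36_2 lc_e_Cert_tree lc_e_rc_34_0 lc_e_rc_39_0 lc_e_Cert_tree lc_e_rc_34_0 lc_e_Cert_tree lc_e_rc_34_0 lc_e_Cert_tree lc_e_Cert_tree) (@D3.rec (fun _ => (Cert rels S Gen.e)) lc_e_rc_34_0 lc_e_Cert_tree lc_e_rc_34_0 lc_e_Cert_tree lc_e_rc_34_0 lc_e_rc_35_2 lc_e_Cert_tree lc_e_rc_34_0 lc_e_Cert_tree lc_e_rc_34_0 lc_e_rc_21_1 lc_e_rc_28_3 lc_e_rc_4_1 lc_e_Cert_tree lc_e_rc_34_0 lc_e_rc_13_1 lc_e_Cert_tree lc_e_rc_34_0 lc_e_Cert_tree lc_e_rc_34_0 lc_e_Cert_tree lc_e_rc_34_0 lc_e_rc_21_1 lc_e_Cert_tree lc_e_rc_34_0 lc_e_Cert_tree lc_e_rc_34_0 lc_e_Cert_tree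 lc_e_rc_34_0 lc_e_Cert_tree lc_e_rc_34_0 lc_e_Cert_tree lc_e_rc_34_0 lc_e_Cert_tree lc_e_rc_34_0 lc_e_rc_39_2 lc_e_Cert_tree lc_e_rc_34_0 lc_e_rc_21_1 lc_e_Cert_tree lc_e_rc_34_0 lc_e_Cert_tree lc_e_rc_34_0 lc_e_Cert_tree lc_e_rc_34_0 lc_e_rc_34_0 lc_e_rc_13_1 lc_e_rc_13_1 lc_e_rc_4_1 lc_e_rc_34_0 lc_e_rc_36_2) (@D3.rec (fun _ => (Cert rels S Gen.e)) lc_e_rc_35_2 lc_e_rc_13_1 lc_e_rc_13_1 lc_e_Cert_tree lc_e_rc_34_0 lc_e_rc_36_2 lc_e_rc_4_1 lc_e_Cert_tree lc_e_Cert_tree lc_e_rc_34_0 lc_e_Cert_tree lc_e_rc_34_0 lc_e_rc_39_2 lc_e_rc_4_1 lc_e_rc_4_1 lc_e_Cert_tree lc_e_Cert_tree lc_e_rc_34_0 lc_e_Cert_tree lc_e_rc_34_0 lc_e_Cert_tree lc_e_rc_34_0 lc_e_rc_36_2 lc_e_Cert_tree lc_e_rc_34_0 lc_e_rc_36_2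 lc_e_Cert_tree lc_e_rc_34_0 lc_e_rc_21_1 lc_e_rc_37_2 lc_e_rc_4_1 lc_e_rc_36_2 lc_e_Cert_tree lc_e_rc_34_0 lc_e_Cert_tree lc_e_rc_34_0 lc_e_rc_4_1 lc_e_rc_13_1 lc_e_rc_4_1 lc_e_Cert_tree lc_e_rc_34_0 lc_e_rc_35_0 lc_e_Cert_tree lc_e_rc_34_0 lc_e_Cert_tree lc_e_rc_34_0 lc_e_Cert_tree lc_e_rc_34_0 lc_e_Cert_tree lc_e_rc_34_0 lc_e_rc_28_1) (@D3.rec (fun _ => (Cert rels S Gen.e)) lc_e_Cert_tree lc_e_rc_34_0 lc_e_Cert_tree lc_e_rc_34_0 lc_e_rc_21_1 lc_e_Cert_tree lc_e_rc_34_0 lc_e_Cert_tree lc_e_rc_34_0 lc_e_Cert_tree lc_e_rc_34_0 lc_e_Cert_tree lc_e_rc_34_0 lc_e_rc_13_1 lc_e_Cert_tree lc_e_rc_34_0 lc_e_rc_35_0 lc_e_Cert_tree lc_e_rc_34_0 lc_e_Cert_tree lc_e_rc_34_0 lc_e_rc_55_22 lc_e_Cert_tree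 lc_e_rc_34_0 lc_e_rc_34_0 lc_e_rc_13_1 lc_e_rc_28_1 lc_e_rc_4_1 lc_e_Cert_tree lc_e_rc_34_0 lc_e_rc_13_1 lc_e_rc_4_1 lc_e_rc_4_1 lc_e_rc_13_1 lc_e_rc_4_1 lc_e_rc_4_1 lc_e_Cert_tree lc_e_rc_34_0 lc_e_rc_13_1 lc_e_Cert_tree lc_e_rc_34_0 lc_e_Cert_tree lc_e_rc_34_0 lc_e_rc_4_1 lc_e_Cert_tree lc_e_rc_34_0 lc_e_rc_13_1 lc_e_Cert_tree lc_e_rc_34_0 lc_e_rc_13_1 lc_e_Cert_tree) (@D3.rec (fun _ => (Cert rels S Gen.e)) lc_e_rc_34_0 lc_e_rc_4_1 lc_e_rc_13_1 lc_e_rc_4_1 lc_e_Cert_tree lc_e_rc_34_0 lc_e_rc_56_32 lc_e_Cert_tree lc_e_rc_34_0 lc_e_rc_4_1 lc_e_Cert_tree lc_e_rc_34_0 lc_e_rc_4_1 lc_e_Cert_tree lc_e_rc_34_0 lc_e_Cert_tree lc_e_rc_34_0 lc_e_rc_4_1 lc_e_rc_4_1 lc_e_rc_13_1 lc_e_Cert_tree lc_e_rc_34_0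 lc_e_rc_4_1 lc_e_rc_13_1 lc_e_rc_4_1 lc_e_rc_13_1 lc_e_rc_13_1 lc_e_rc_4_1 lc_e_rc_13_1 lc_e_rc_4_1 lc_e_Cert_tree lc_e_rc_34_0 lc_e_Cert_tree lc_e_rc_34_0 lc_e_Cert_tree lc_e_rc_34_0 lc_e_rc_28_3 lc_e_Cert_tree lc_e_rc_34_0 lc_e_Cert_tree lc_e_rc_34_0 lc_e_Cert_tree lc_e_rc_34_0 lc_e_Cert_tree lc_e_rc_34_0 lc_e_rc_13_1 lc_e_Cert_tree lc_e_rc_34_0 lc_e_rc_4_1 lc_e_rc_55_58 lc_e_rc_13_1) (@D3.rec (fun _ => (Cert rels S Gen.e)) lc_e_rc_4_1 lc_e_rc_13_1 lc_e_Cert_tree lc_e_rc_34_0 lc_e_Cert_tree lc_e_rc_34_0 lc_e_rc_13_1 lc_e_Cert_tree lc_e_rc_34_0 lc_e_rc_4_1 lc_e_Cert_tree lc_e_Cert_tree lc_e_rc_34_0 lc_e_Cert_tree lc_e_rc_34_0 lc_e_Cert_tree lc_e_rc_34_0 lc_e_rc_13_1 lc_e_rc_4_1 lc_e_Cert_tree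 lc_e_rc_34_0 lc_e_Cert_tree lc_e_rc_34_0 lc_e_rc_36_2 lc_e_Cert_tree lc_e_rc_34_0 lc_e_rc_13_1 lc_e_rc_4_1 lc_e_Cert_tree lc_e_rc_34_0 lc_e_rc_4_1 lc_e_Cert_tree lc_e_rc_34_0 lc_e_Cert_tree lc_e_rc_34_0 lc_e_rc_28_3 lc_e_Cert_tree lc_e_rc_34_0 lc_e_rc_39_0 lc_e_rc_13_3 lc_e_Cert_tree lc_e_rc_34_0 lc_e_rc_21_1 lc_e_rc_37_2 lc_e_rc_34_0 lc_e_rc_13_1 lc_e_rc_21_1 lc_e_rc_13_1 lc_e_rc_4_1 lc_e_rc_13_1 lc_e_rc_4_1) (@D3.rec (fun _ => (Cert rels S Gen.e)) lc_e_Cert_tree lc_e_rc_34_0 lc_e_Cert_tree lc_e_rc_34_0 lc_e_rc_21_1 lc_e_Cert_tree lc_e_rc_34_0 lc_e_Cert_tree lc_e_rc_34_0 lc_e_rc_36_2 lc_e_Cert_tree lc_e_rc_34_0 lc_e_Cert_tree lc_e_rc_34_0 lc_e_rc_28_3 lc_e_rc_36_0 lc_e_rc_38_2 lc_e_rc_36_2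 lc_e_Cert_tree lc_e_rc_34_0 lc_e_rc_34_0 lc_e_rc_13_1 lc_e_rc_4_1 lc_e_rc_4_1 lc_e_rc_36_2 lc_e_Cert_tree lc_e_rc_34_0 lc_e_rc_13_1 lc_e_rc_35_2 lc_e_rc_13_1 lc_e_rc_28_5 lc_e_rc_55_22 lc_e_Cert_tree lc_e_rc_34_0 lc_e_rc_4_1 lc_e_rc_39_0 lc_e_rc_35_2 lc_e_rc_13_1 lc_e_rc_4_1 lc_e_rc_13_1 lc_e_Cert_tree lc_e_rc_34_0 lc_e_rc_4_1 lc_e_rc_4_1 lc_e_rc_4_1 lc_e_rc_35_2 lc_e_Cert_tree lc_e_rc_34_0 lc_e_Cert_tree lc_e_rc_34_0 lc_e_rc_21_1) (@D3.rec (fun _ => (Cert rels S Gen.e)) lc_e_rc_28_3 lc_e_rc_35_2 lc_e_rc_39_2 lc_e_Cert_tree lc_e_rc_21_1 lc_e_Cert_tree lc_e_Cert_tree lc_e_rc_34_0 lc_e_Cert_tree lc_e_Cert_tree lc_e_Cert_tree lc_e_rc_34_0 lc_e_rc_36_2 lc_e_Cert_tree lc_e_rc_34_0 lc_e_rc_13_1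 lc_e_rc_21_1 lc_e_Cert_tree lc_e_Cert_tree lc_e_rc_34_0 lc_e_rc_36_2 lc_e_Cert_tree lc_e_Cert_tree lc_e_rc_34_0 lc_e_rc_13_1 lc_e_Cert_tree lc_e_Cert_tree lc_e_rc_34_0 lc_e_Cert_tree lc_e_rc_34_0 lc_e_rc_28_3 lc_e_Cert_tree lc_e_rc_34_0 lc_e_rc_4_1 lc_e_rc_37_2 lc_e_Cert_tree lc_e_rc_34_0 lc_e_rc_34_0 lc_e_rc_28_3 lc_e_rc_13_1 lc_e_Cert_tree lc_e_rc_34_0 lc_e_Cert_tree lc_e_rc_34_0 lc_e_rc_36_2 lc_e_rc_37_2 lc_e_Cert_tree lc_e_rc_34_0 lc_e_Cert_tree lc_e_rc_34_0 lc_e_rc_4_1) (@D3.rec (fun _ => (Cert rels S Gen.e)) lc_e_Cert_tree lc_e_Cert_tree lc_e_rc_34_0 lc_e_Cert_tree lc_e_rc_34_0 lc_e_Cert_tree lc_e_Cert_tree lc_e_rc_34_0 lc_e_Cert_tree lc_e_rc_34_0 lc_e_Cert_tree lc_e_rc_34_0 lc_e_rc_36_2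 lc_e_Cert_tree lc_e_rc_34_0 lc_e_rc_36_2 lc_e_Cert_tree lc_e_rc_34_0 lc_e_rc_21_1 lc_e_rc_36_2 lc_e_Cert_tree lc_e_rc_34_0 lc_e_rc_28_3 lc_e_rc_34_0 lc_e_rc_36_2 lc_e_rc_37_2 lc_e_rc_34_0 lc_e_rc_36_2 lc_e_rc_28_3 lc_e_rc_28_3 lc_e_rc_35_2 lc_e_rc_13_1 lc_e_rc_39_2 lc_e_rc_34_0 lc_e_rc_36_2 lc_e_rc_35_2 lc_e_rc_13_1 lc_e_rc_36_4 lc_e_Cert_tree lc_e_rc_37_2 lc_e_Cert_tree lc_e_rc_34_0 lc_e_rc_13_1 lc_e_Cert_tree lc_e_rc_34_0 lc_e_Cert_tree lc_e_rc_34_0 lc_e_Cert_tree lc_e_rc_34_0 lc_e_rc_4_1 lc_e_Cert_tree) (@D3.rec (fun _ => (Cert rels S Gen.e)) lc_e_rc_34_0 lc_e_rc_37_2 lc_e_rc_13_1 lc_e_Cert_tree lc_e_rc_34_0 lc_e_Cert_tree lc_e_rc_34_0 lc_e_Cert_tree lc_e_rc_34_0 lc_e_rc_4_1 lc_e_Cert_tree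 lc_e_rc_34_0 lc_e_rc_13_1 lc_e_rc_4_1 lc_e_Cert_tree lc_e_rc_34_0 lc_e_Cert_tree lc_e_rc_34_0 lc_e_Cert_tree lc_e_rc_34_0 lc_e_Cert_tree lc_e_rc_34_0 lc_e_Cert_tree lc_e_rc_34_0 lc_e_Cert_tree lc_e_Cert_tree lc_e_Cert_tree lc_e_rc_34_0 lc_e_rc_36_2 lc_e_Cert_tree lc_e_Cert_tree lc_e_rc_34_0 lc_e_rc_13_1 lc_e_Cert_tree lc_e_rc_34_0 lc_e_Cert_tree lc_e_rc_34_0 lc_e_rc_34_0 lc_e_rc_13_1 lc_e_Cert_tree lc_e_rc_34_0 lc_e_Cert_tree lc_e_rc_34_0 lc_e_Cert_tree lc_e_rc_34_0 lc_e_rc_36_2 lc_e_rc_37_2 lc_e_Cert_tree lc_e_rc_34_0 lc_e_rc_4_1 lc_e_Cert_tree) (@D3.rec (fun _ => (Cert rels S Gen.e)) lc_e_Cert_tree lc_e_rc_34_0 lc_e_rc_13_1 lc_e_Cert_tree lc_e_rc_34_0 lc_e_Cert_tree lc_e_rc_34_0 lc_e_Cert_tree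 lc_e_rc_34_0 lc_e_rc_36_2 lc_e_Cert_tree lc_e_rc_34_0 lc_e_Cert_tree lc_e_rc_34_0 lc_e_rc_4_1 lc_e_Cert_tree lc_e_rc_34_0 lc_e_Cert_tree lc_e_rc_34_0 lc_e_rc_21_1 lc_e_Cert_tree lc_e_rc_34_0 lc_e_Cert_tree lc_e_rc_34_0 lc_e_rc_21_3 lc_e_rc_13_1 lc_e_Cert_tree lc_e_rc_34_0 lc_e_rc_21_1 lc_e_Cert_tree lc_e_rc_34_0 lc_e_Cert_tree lc_e_rc_34_0 lc_e_Cert_tree lc_e_rc_34_0 lc_e_rc_21_1 lc_e_rc_36_2 lc_e_rc_28_3 lc_e_rc_35_2 lc_e_Cert_tree lc_e_Cert_tree lc_e_rc_34_0 lc_e_Cert_tree lc_e_rc_34_0 lc_e_rc_4_1 lc_e_Cert_tree lc_e_rc_34_0 lc_e_Cert_tree lc_e_rc_34_0 lc_e_rc_36_2 lc_e_Cert_tree) (@D3.rec (fun _ => (Cert rels S Gen.e)) lc_e_rc_34_0 lc_e_rc_21_1 lc_e_rc_35_2 lc_e_Cert_tree lc_e_rc_34_0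 lc_e_Cert_tree lc_e_rc_34_0 lc_e_rc_36_2 lc_e_Cert_tree lc_e_rc_34_0 lc_e_rc_28_3 lc_e_rc_21_1 lc_e_Cert_tree lc_e_rc_34_0 lc_e_Cert_tree lc_e_rc_34_0 lc_e_Cert_tree lc_e_rc_34_0 lc_e_rc_13_1 lc_e_Cert_tree lc_e_rc_34_0 lc_e_rc_21_1 lc_e_Cert_tree lc_e_rc_34_0 lc_e_Cert_tree lc_e_rc_34_0 lc_e_rc_35_2 lc_e_rc_13_1 lc_e_rc_21_1 lc_e_rc_13_1 lc_e_rc_4_1 lc_e_rc_34_0 lc_e_rc_13_1 lc_e_rc_21_1 lc_e_Cert_tree lc_e_rc_34_0 lc_e_Cert_tree lc_e_rc_34_0 lc_e_rc_34_0 lc_e_rc_13_1 lc_e_rc_35_2 lc_e_rc_35_0 lc_e_rc_21_1 lc_e_rc_37_0 lc_e_rc_21_1 lc_e_rc_13_1 lc_e_rc_21_1 lc_e_Cert_tree lc_e_rc_34_0 lc_e_Cert_tree lc_e_rc_34_0) (@D3.rec (fun _ => (Cert rels S Gen.e)) lc_e_rc_13_1 lc_e_rc_21_1 lc_e_rc_13_1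 lc_e_Cert_tree lc_e_rc_34_0 lc_e_Cert_tree lc_e_rc_34_0 lc_e_rc_4_1 lc_e_Cert_tree lc_e_Cert_tree lc_e_Cert_tree lc_e_rc_34_0 lc_e_rc_36_2 lc_e_Cert_tree lc_e_rc_34_0 lc_e_rc_13_1 lc_e_rc_13_1 lc_e_Cert_tree lc_e_rc_34_0 lc_e_Cert_tree lc_e_rc_34_0 lc_e_Cert_tree lc_e_rc_34_0 lc_e_rc_13_1 lc_e_Cert_tree lc_e_rc_34_0 lc_e_Cert_tree lc_e_rc_34_0 lc_e_rc_4_1 lc_e_rc_28_3 lc_e_rc_13_1 lc_e_rc_4_1 lc_e_Cert_tree lc_e_rc_34_0 lc_e_Cert_tree lc_e_rc_34_0 lc_e_Cert_tree lc_e_rc_34_0 lc_e_rc_35_0 lc_e_Cert_tree lc_e_rc_34_0 lc_e_Cert_tree lc_e_rc_34_0 lc_e_rc_35_0 lc_e_rc_13_1 lc_e_rc_13_1 lc_e_rc_35_2 lc_e_rc_21_1 lc_e_Cert_tree lc_e_rc_34_0 lc_e_Cert_tree) (@D3.rec (fun _ => (Cert rels S Gen.e))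 lc_e_rc_34_0 lc_e_rc_4_1 lc_e_rc_38_2 lc_e_Cert_tree lc_e_Cert_tree lc_e_Cert_tree lc_e_rc_34_0 lc_e_rc_36_2 lc_e_Cert_tree lc_e_rc_34_0 lc_e_rc_13_1 lc_e_rc_38_2 lc_e_rc_13_1 lc_e_Cert_tree lc_e_rc_34_0 lc_e_Cert_tree lc_e_rc_34_0 lc_e_rc_28_5 lc_e_Cert_tree lc_e_rc_34_0 lc_e_rc_36_2 lc_e_Cert_tree lc_e_rc_34_0 lc_e_rc_4_1 lc_e_rc_37_2 lc_e_rc_13_1 lc_e_rc_13_1 lc_e_rc_35_2 lc_e_rc_36_2 lc_e_rc_4_1 lc_e_Cert_tree lc_e_rc_34_0 lc_e_rc_4_1 lc_e_rc_28_3 lc_e_Cert_tree lc_e_rc_34_0 lc_e_rc_36_2 lc_e_Cert_tree lc_e_rc_34_0 lc_e_rc_21_1 lc_e_Cert_tree lc_e_rc_34_0 lc_e_rc_28_3 lc_e_rc_28_3 lc_e_rc_35_2 lc_e_rc_39_2 lc_e_rc_36_4 lc_e_Cert_tree lc_e_rc_37_2 lc_e_Cert_tree lc_e_rc_34_0) (@D3.rec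 (fun _ => (Cert rels S Gen.e)) lc_e_rc_39_2 lc_e_Cert_tree lc_e_rc_34_0 lc_e_rc_34_0 lc_e_rc_13_1 lc_e_rc_35_2 lc_e_Cert_tree lc_e_rc_34_0 lc_e_Cert_tree lc_e_rc_34_0 lc_e_Cert_tree lc_e_rc_34_0 lc_e_rc_36_2 lc_e_rc_37_2 lc_e_Cert_tree lc_e_rc_34_0 lc_e_rc_4_1 lc_e_rc_13_1 lc_e_Cert_tree lc_e_Cert_tree lc_e_rc_34_0 lc_e_Cert_tree lc_e_rc_34_0 lc_e_Cert_tree lc_e_rc_34_0 lc_e_rc_4_1 lc_e_Cert_tree lc_e_rc_34_0 lc_e_Cert_tree lc_e_rc_34_0 lc_e_rc_36_2 lc_e_Cert_tree lc_e_rc_34_0 lc_e_Cert_tree lc_e_rc_34_0 lc_e_rc_35_2 lc_e_Cert_tree lc_e_rc_34_0 lc_e_Cert_tree lc_e_rc_34_0 lc_e_rc_28_3 lc_e_Cert_tree lc_e_rc_34_0 lc_e_Cert_tree lc_e_rc_34_0 lc_e_rc_4_3 lc_e_rc_35_2 lc_e_Cert_tree lc_e_rc_34_0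 lc_e_rc_4_1 lc_e_Cert_tree) (@D3.rec (fun _ => (Cert rels S Gen.e)) lc_e_Cert_tree lc_e_rc_34_0 lc_e_Cert_tree lc_e_rc_34_0 lc_e_Cert_tree lc_e_rc_34_0 lc_e_Cert_tree lc_e_rc_34_0 lc_e_Cert_tree lc_e_rc_34_0 lc_e_Cert_tree lc_e_rc_34_0 lc_e_rc_35_2 lc_e_rc_13_1 lc_e_Cert_tree lc_e_rc_34_0 lc_e_Cert_tree lc_e_rc_34_0 lc_e_Cert_tree lc_e_rc_34_0 lc_e_rc_36_2 lc_e_Cert_tree lc_e_rc_34_0 lc_e_rc_36_2 lc_e_Cert_tree lc_e_rc_34_0 lc_e_rc_21_1 lc_e_Cert_tree lc_e_rc_34_0 lc_e_Cert_tree lc_e_rc_34_0 lc_e_rc_36_2 lc_e_Cert_tree lc_e_rc_34_0 lc_e_rc_36_2 lc_e_Cert_tree lc_e_rc_34_0 lc_e_rc_28_3 lc_e_rc_21_1 lc_e_rc_13_3 lc_e_Cert_tree lc_e_rc_34_0 lc_e_Cert_tree lc_e_rc_34_0 lc_e_rc_28_3 lc_e_rc_21_1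 lc_e_rc_34_0 lc_e_rc_13_1 lc_e_rc_36_2 lc_e_rc_4_3 lc_e_Cert_tree) (@D3.rec (fun _ => (Cert rels S Gen.e)) lc_e_rc_34_0 lc_e_rc_34_0 lc_e_rc_13_1 lc_e_rc_35_2 lc_e_rc_35_2 lc_e_rc_39_2 lc_e_rc_39_2 lc_e_rc_21_1 lc_e_rc_13_1 lc_e_rc_28_3 lc_e_rc_21_1 lc_e_Cert_tree lc_e_rc_13_1 lc_e_Cert_tree lc_e_rc_34_0 lc_e_rc_4_1 lc_e_rc_13_1 lc_e_rc_4_1 lc_e_Cert_tree lc_e_rc_34_0 lc_e_Cert_tree lc_e_rc_34_0 lc_e_rc_13_1 lc_e_Cert_tree lc_e_rc_34_0 lc_e_rc_35_2 lc_e_Cert_tree lc_e_rc_34_0 lc_e_rc_4_1 lc_e_Cert_tree lc_e_rc_34_0 lc_e_rc_13_1 lc_e_Cert_tree lc_e_rc_34_0 lc_e_rc_4_1 lc_e_Cert_tree lc_e_rc_34_0 lc_e_rc_4_3 lc_e_Cert_tree lc_e_rc_34_0 lc_e_rc_4_1 lc_e_rc_4_1 lc_e_Cert_tree lc_e_rc_34_0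 lc_e_rc_4_1 lc_e_rc_4_1 lc_e_rc_4_1 lc_e_Cert_tree lc_e_rc_34_0 lc_e_Cert_tree lc_e_rc_34_0) (@D3.rec (fun _ => (Cert rels S Gen.e)) lc_e_rc_34_0 lc_e_rc_13_1 lc_e_rc_21_1 lc_e_rc_35_0 lc_e_rc_13_1 lc_e_rc_4_1 lc_e_rc_13_1 lc_e_Cert_tree lc_e_rc_34_0 lc_e_rc_4_1 lc_e_Cert_tree lc_e_rc_34_0 lc_e_Cert_tree lc_e_rc_34_0 lc_e_Cert_tree lc_e_rc_34_0 lc_e_rc_13_1 lc_e_Cert_tree lc_e_rc_34_0 lc_e_Cert_tree lc_e_rc_34_0 lc_e_rc_36_2 lc_e_rc_37_2 lc_e_Cert_tree lc_e_rc_34_0 lc_e_rc_4_1 lc_e_Cert_tree lc_e_rc_34_0 lc_e_rc_13_1 lc_e_Cert_tree lc_e_rc_34_0 lc_e_Cert_tree lc_e_rc_34_0 lc_e_rc_4_1 lc_e_Cert_tree lc_e_rc_34_0 lc_e_rc_21_1 lc_e_rc_34_0 lc_e_rc_36_2 lc_e_rc_28_3 lc_e_rc_35_2 lc_e_Cert_tree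 lc_e_rc_34_0 lc_e_rc_13_1 lc_e_Cert_tree lc_e_rc_34_0 lc_e_rc_4_1 lc_e_Cert_tree lc_e_rc_34_0 lc_e_rc_13_1 lc_e_Cert_tree) (@D3.rec (fun _ => (Cert rels S Gen.e)) lc_e_rc_34_0 lc_e_Cert_tree lc_e_rc_34_0 lc_e_rc_4_1 lc_e_Cert_tree lc_e_rc_34_0 lc_e_rc_35_2 lc_e_Cert_tree lc_e_rc_34_0 lc_e_rc_28_3 lc_e_rc_21_1 lc_e_rc_13_1 lc_e_rc_4_1 lc_e_Cert_tree lc_e_rc_34_0 lc_e_Cert_tree lc_e_rc_34_0 lc_e_rc_13_1 lc_e_rc_4_1 lc_e_Cert_tree lc_e_rc_34_0 lc_e_rc_28_3 lc_e_rc_34_0 lc_e_rc_13_1 lc_e_rc_35_2 lc_e_rc_34_0 lc_e_rc_28_3 lc_e_rc_28_3 lc_e_rc_35_2 lc_e_rc_36_2 lc_e_rc_13_1 lc_e_rc_38_2 lc_e_Cert_tree lc_e_rc_34_0 lc_e_rc_36_0 lc_e_Cert_tree lc_e_rc_34_0 lc_e_Cert_tree lc_e_rc_34_0 lc_e_rc_4_1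 lc_e_Cert_tree lc_e_rc_34_0 lc_e_rc_34_0 lc_e_rc_4_1 lc_e_rc_35_2 lc_e_Cert_tree lc_e_rc_34_0 lc_e_Cert_tree lc_e_rc_34_0 lc_e_rc_36_2 lc_e_rc_28_3) (@D3.rec (fun _ => (Cert rels S Gen.e)) lc_e_rc_21_1 lc_e_rc_13_1 lc_e_Cert_tree lc_e_rc_34_0 lc_e_rc_28_3 lc_e_rc_55_22 lc_e_Cert_tree lc_e_rc_34_0 lc_e_Cert_tree lc_e_rc_34_0 lc_e_rc_36_2 lc_e_Cert_tree lc_e_rc_34_0 lc_e_rc_21_1 lc_e_rc_37_2 lc_e_Cert_tree lc_e_rc_34_0 lc_e_Cert_tree lc_e_rc_34_0 lc_e_rc_28_3 lc_e_rc_13_1 lc_e_Cert_tree lc_e_rc_34_0 lc_e_Cert_tree lc_e_rc_34_0 lc_e_rc_4_1 lc_e_rc_13_1 lc_e_rc_21_1 lc_e_rc_56_46 lc_e_rc_4_1 lc_e_Cert_tree lc_e_rc_34_0 lc_e_Cert_tree lc_e_rc_34_0 lc_e_rc_37_2 lc_e_Cert_tree lc_e_rc_34_0 lc_e_rc_21_1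 lc_e_rc_13_1 lc_e_rc_4_1 lc_e_rc_21_1 lc_e_rc_13_1 lc_e_rc_13_1 lc_e_rc_4_1 lc_e_rc_13_1 lc_e_Cert_tree lc_e_rc_34_0 lc_e_Cert_tree lc_e_rc_34_0 lc_e_Cert_tree lc_e_rc_34_0) (@D3.rec (fun _ => (Cert rels S Gen.e)) lc_e_rc_21_1 lc_e_rc_34_0 lc_e_rc_13_1 lc_e_rc_21_1 lc_e_rc_34_0 lc_e_rc_34_0 lc_e_rc_28_3 lc_e_rc_38_2 lc_e_rc_35_2 lc_e_rc_28_3 lc_e_rc_35_2 lc_e_rc_21_1 lc_e_rc_35_2 lc_e_rc_39_2 lc_e_rc_13_1 lc_e_rc_13_1 lc_e_Cert_tree lc_e_rc_34_0 lc_e_Cert_tree lc_e_rc_34_0 lc_e_rc_36_2 lc_e_Cert_tree lc_e_rc_34_0 lc_e_rc_21_1 lc_e_Cert_tree lc_e_rc_34_0 lc_e_Cert_tree lc_e_rc_34_0 lc_e_rc_28_3 lc_e_rc_13_1 lc_e_Cert_tree lc_e_rc_34_0 lc_e_rc_35_0 lc_e_Cert_tree lc_e_rc_34_0 lc_e_rc_13_3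 lc_e_Cert_tree lc_e_rc_34_0 lc_e_rc_36_0 lc_e_rc_13_3 lc_e_Cert_tree lc_e_rc_34_0 lc_e_Cert_tree lc_e_rc_34_0 lc_e_rc_36_2 lc_e_Cert_tree lc_e_rc_34_0 lc_e_rc_28_3 lc_e_rc_34_0 lc_e_Cert_tree lc_e_rc_34_0) (@D3.rec (fun _ => (Cert rels S Gen.e)) lc_e_Cert_tree lc_e_rc_34_0 lc_e_rc_28_3 lc_e_rc_35_2 lc_e_rc_34_0 lc_e_rc_13_1 lc_e_rc_35_2 lc_e_rc_4_1 lc_e_rc_21_1 lc_e_Cert_tree lc_e_rc_34_0 lc_e_rc_13_3 lc_e_rc_13_1 lc_e_Cert_tree lc_e_rc_34_0 lc_e_rc_34_0 lc_e_Cert_tree lc_e_rc_34_0 lc_e_Cert_tree lc_e_rc_34_0 lc_e_Cert_tree lc_e_rc_34_0 lc_e_rc_36_2 lc_e_Cert_tree lc_e_rc_34_0 lc_e_Cert_tree lc_e_rc_34_0 lc_e_rc_28_3 lc_e_rc_21_1 lc_e_Cert_tree lc_e_rc_34_0 lc_e_rc_28_3 lc_e_rc_34_0 lc_e_rc_28_3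 lc_e_rc_13_1 lc_e_Cert_tree lc_e_Cert_tree lc_e_rc_34_0 lc_e_rc_36_2 lc_e_Cert_tree lc_e_rc_34_0 lc_e_rc_21_1 lc_e_rc_34_0 lc_e_rc_13_1 lc_e_rc_13_1 lc_e_rc_35_2 lc_e_rc_4_1 lc_e_Cert_tree lc_e_rc_34_0 lc_e_rc_21_1 lc_e_rc_34_0)
def ce_e_20 : D2 → D3 → (Cert rels S Gen.e) := @D2.rec (fun _ => D3 → (Cert rels S Gen.e)) (@D3.rec (fun _ => (Cert rels S Gen.e)) lc_e_rc_13_1 lc_e_rc_35_2 lc_e_rc_4_1 lc_e_rc_13_1 lc_e_rc_13_1 lc_e_rc_39_2 lc_e_rc_36_2 lc_e_rc_28_3 lc_e_rc_36_2 lc_e_rc_35_2 lc_e_rc_38_2 lc_e_rc_34_0 lc_e_rc_37_2 lc_e_rc_35_2 lc_e_rc_28_3 lc_e_rc_21_1 lc_e_rc_35_2 lc_e_rc_39_2 lc_e_rc_39_2 lc_e_rc_37_2 lc_e_rc_21_1 lc_e_rc_35_2 lc_e_rc_21_1 lc_e_rc_4_1 lc_e_rc_4_1 lc_e_rc_39_2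 lc_e_rc_4_1 lc_e_rc_4_1 lc_e_Cert_tree lc_e_rc_34_0 lc_e_rc_4_1 lc_e_rc_4_1 lc_e_rc_4_1 lc_e_rc_13_1 lc_e_rc_4_1 lc_e_Cert_tree lc_e_rc_34_0 lc_e_rc_21_1 lc_e_Cert_tree lc_e_rc_34_0 lc_e_rc_39_0 lc_e_Cert_tree lc_e_rc_34_0 lc_e_Cert_tree lc_e_rc_34_0 lc_e_rc_4_1 lc_e_Cert_tree lc_e_rc_34_0 lc_e_rc_4_1 lc_e_rc_4_1 lc_e_rc_13_1) (@D3.rec (fun _ => (Cert rels S Gen.e)) lc_e_Cert_tree lc_e_rc_34_0 lc_e_rc_34_0 lc_e_rc_4_1 lc_e_Cert_tree lc_e_rc_34_0 lc_e_Cert_tree lc_e_rc_34_0 lc_e_Cert_tree lc_e_rc_34_0 lc_e_Cert_tree lc_e_rc_34_0 lc_e_rc_35_2 lc_e_Cert_tree lc_e_rc_34_0 lc_e_rc_4_1 lc_e_Cert_tree lc_e_rc_34_0 lc_e_rc_28_3 lc_e_Cert_tree lc_e_rc_34_0 lc_e_Cert_tree lc_e_rc_34_0 lc_e_rc_35_2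 lc_e_Cert_tree lc_e_rc_34_0 lc_e_Cert_tree lc_e_rc_34_0 lc_e_rc_21_1 lc_e_rc_28_3 lc_e_rc_4_1 lc_e_Cert_tree lc_e_rc_34_0 lc_e_rc_35_2 lc_e_Cert_tree lc_e_rc_34_0 lc_e_rc_21_1 lc_e_Cert_tree lc_e_rc_34_0 lc_e_Cert_tree lc_e_rc_34_0 lc_e_rc_21_1 lc_e_Cert_tree lc_e_rc_34_0 lc_e_rc_34_0 lc_e_rc_13_1 lc_e_rc_35_2 lc_e_rc_28_3 lc_e_Cert_tree lc_e_rc_34_0 lc_e_rc_28_3) (@D3.rec (fun _ => (Cert rels S Gen.e)) lc_e_Cert_tree lc_e_rc_34_0 lc_e_Cert_tree lc_e_rc_34_0 lc_e_Cert_tree lc_e_rc_34_0 lc_e_Cert_tree lc_e_rc_34_0 lc_e_rc_36_2 lc_e_rc_37_2 lc_e_Cert_tree lc_e_rc_34_0 lc_e_Cert_tree lc_e_rc_34_0 lc_e_Cert_tree lc_e_rc_34_0 lc_e_Cert_tree lc_e_rc_34_0 lc_e_Cert_tree lc_e_rc_34_0 lc_e_Cert_tree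 lc_e_rc_34_0 lc_e_rc_13_1 lc_e_Cert_tree lc_e_rc_34_0 lc_e_rc_13_1 lc_e_Cert_tree lc_e_rc_34_0 lc_e_Cert_tree lc_e_rc_34_0 lc_e_rc_28_3 lc_e_rc_4_1 lc_e_rc_34_0 lc_e_rc_4_1 lc_e_Cert_tree lc_e_rc_34_0 lc_e_rc_36_2 lc_e_Cert_tree lc_e_rc_34_0 lc_e_rc_21_1 lc_e_Cert_tree lc_e_rc_34_0 lc_e_rc_28_3 lc_e_Cert_tree lc_e_rc_34_0 lc_e_Cert_tree lc_e_rc_34_0 lc_e_Cert_tree lc_e_rc_34_0 lc_e_Cert_tree lc_e_rc_34_0) (@D3.rec (fun _ => (Cert rels S Gen.e)) lc_e_Cert_tree lc_e_rc_34_0 lc_e_rc_39_2 lc_e_Cert_tree lc_e_rc_34_0 lc_e_rc_21_1 lc_e_rc_35_2 lc_e_Cert_tree lc_e_rc_34_0 lc_e_rc_34_0 lc_e_rc_13_1 lc_e_rc_21_1 lc_e_Cert_tree lc_e_rc_34_0 lc_e_rc_4_1 lc_e_Cert_tree lc_e_rc_34_0 lc_e_Cert_tree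 lc_e_rc_34_0 lc_e_Cert_tree lc_e_rc_34_0 lc_e_rc_13_1 lc_e_Cert_tree lc_e_rc_34_0 lc_e_rc_34_0 lc_e_Cert_tree lc_e_rc_34_0 lc_e_Cert_tree lc_e_rc_34_0 lc_e_Cert_tree lc_e_rc_34_0 lc_e_rc_28_3 lc_e_Cert_tree lc_e_rc_34_0 lc_e_rc_21_1 lc_e_rc_34_0 lc_e_rc_13_1 lc_e_Cert_tree lc_e_rc_34_0 lc_e_Cert_tree lc_e_rc_34_0 lc_e_rc_34_0 lc_e_rc_4_1 lc_e_rc_4_1 lc_e_rc_37_2 lc_e_rc_4_1 lc_e_rc_4_1 lc_e_Cert_tree lc_e_rc_34_0 lc_e_rc_21_1 lc_e_Cert_tree) (@D3.rec (fun _ => (Cert rels S Gen.e)) lc_e_rc_34_0 lc_e_Cert_tree lc_e_rc_34_0 lc_e_rc_35_2 lc_e_Cert_tree lc_e_rc_34_0 lc_e_rc_21_1 lc_e_Cert_tree lc_e_rc_34_0 lc_e_Cert_tree lc_e_rc_34_0 lc_e_rc_36_2 lc_e_Cert_tree lc_e_rc_34_0 lc_e_rc_36_2 lc_e_Cert_tree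 lc_e_rc_34_0 lc_e_rc_21_1 lc_e_Cert_tree lc_e_rc_34_0 lc_e_rc_21_1 lc_e_rc_34_0 lc_e_rc_13_1 lc_e_rc_21_1 lc_e_Cert_tree lc_e_rc_34_0 lc_e_Cert_tree lc_e_rc_34_0 lc_e_rc_21_1 lc_e_rc_34_0 lc_e_rc_35_0 lc_e_Cert_tree lc_e_rc_34_0 lc_e_Cert_tree lc_e_rc_34_0 lc_e_Cert_tree lc_e_rc_34_0 lc_e_rc_38_2 lc_e_rc_34_0 lc_e_rc_13_1 lc_e_Cert_tree lc_e_rc_34_0 lc_e_Cert_tree lc_e_rc_34_0 lc_e_Cert_tree lc_e_rc_34_0 lc_e_rc_34_0 lc_e_Cert_tree lc_e_rc_34_0 lc_e_Cert_tree lc_e_rc_34_0) (@D3.rec (fun _ => (Cert rels S Gen.e)) lc_e_rc_28_5 lc_e_rc_34_0 lc_e_rc_13_1 lc_e_Cert_tree lc_e_rc_34_0 lc_e_rc_34_0 lc_e_rc_13_1 lc_e_rc_34_0 lc_e_rc_35_0 lc_e_rc_13_1 lc_e_Cert_tree lc_e_rc_34_0 lc_e_rc_4_1 lc_e_rc_4_1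 lc_e_Cert_tree lc_e_rc_34_0 lc_e_rc_4_1 lc_e_Cert_tree lc_e_rc_34_0 lc_e_Cert_tree lc_e_rc_34_0 lc_e_rc_28_3 lc_e_Cert_tree lc_e_rc_34_0 lc_e_rc_4_1 lc_e_Cert_tree lc_e_rc_34_0 lc_e_rc_4_1 lc_e_Cert_tree lc_e_rc_34_0 lc_e_rc_13_1 lc_e_Cert_tree lc_e_rc_34_0 lc_e_rc_37_2 lc_e_Cert_tree lc_e_rc_34_0 lc_e_Cert_tree lc_e_rc_34_0 lc_e_rc_28_3 lc_e_rc_34_0 lc_e_Cert_tree lc_e_rc_34_0 lc_e_rc_4_1 lc_e_Cert_tree lc_e_rc_34_0 lc_e_rc_38_2 lc_e_rc_4_1 lc_e_rc_4_1 lc_e_rc_4_1 lc_e_rc_4_1 lc_e_Cert_tree) (@D3.rec (fun _ => (Cert rels S Gen.e)) lc_e_rc_34_0 lc_e_Cert_tree lc_e_rc_34_0 lc_e_Cert_tree lc_e_rc_34_0 lc_e_rc_28_3 lc_e_Cert_tree lc_e_rc_34_0 lc_e_Cert_tree lc_e_rc_34_0 lc_e_rc_34_0 lc_e_Cert_tree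 lc_e_rc_34_0 lc_e_rc_4_1 lc_e_Cert_tree lc_e_rc_34_0 lc_e_rc_28_3 lc_e_rc_36_0 lc_e_rc_4_1 lc_e_rc_4_1 lc_e_Cert_tree lc_e_rc_34_0 lc_e_Cert_tree lc_e_rc_34_0 lc_e_rc_4_1 lc_e_Cert_tree lc_e_rc_34_0 lc_e_rc_28_3 lc_e_Cert_tree lc_e_rc_34_0 lc_e_Cert_tree lc_e_rc_34_0 lc_e_rc_13_1 lc_e_Cert_tree lc_e_rc_34_0 lc_e_Cert_tree lc_e_rc_34_0 lc_e_rc_37_0 lc_e_rc_4_1 lc_e_Cert_tree lc_e_rc_34_0 lc_e_Cert_tree lc_e_rc_34_0 lc_e_rc_34_0 lc_e_rc_4_1 lc_e_Cert_tree lc_e_rc_34_0 lc_e_rc_28_3 lc_e_Cert_tree lc_e_rc_34_0 lc_e_rc_37_2) (@D3.rec (fun _ => (Cert rels S Gen.e)) lc_e_rc_34_0 lc_e_rc_13_1 lc_e_rc_35_2 lc_e_Cert_tree lc_e_rc_34_0 lc_e_rc_21_1 lc_e_rc_34_0 lc_e_rc_13_1 lc_e_rc_21_1 lc_e_rc_4_1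 lc_e_rc_13_1 lc_e_rc_4_1 lc_e_rc_4_1 lc_e_Cert_tree lc_e_rc_34_0 lc_e_rc_34_0 lc_e_rc_13_1 lc_e_rc_35_2 lc_e_Cert_tree lc_e_rc_34_0 lc_e_rc_36_2 lc_e_Cert_tree lc_e_rc_34_0 lc_e_Cert_tree lc_e_rc_34_0 lc_e_rc_34_0 lc_e_rc_55_58 lc_e_rc_4_1 lc_e_rc_34_0 lc_e_rc_4_1 lc_e_Cert_tree lc_e_rc_34_0 lc_e_rc_4_1 lc_e_rc_13_1 lc_e_rc_4_1 lc_e_rc_13_1 lc_e_rc_13_3 lc_e_Cert_tree lc_e_rc_34_0 lc_e_rc_21_1 lc_e_rc_35_2 lc_e_rc_39_2 lc_e_rc_4_1 lc_e_rc_56_46 lc_e_Cert_tree lc_e_rc_34_0 lc_e_rc_13_1 lc_e_Cert_tree lc_e_rc_34_0 lc_e_rc_34_0 lc_e_rc_13_1) (@D3.rec (fun _ => (Cert rels S Gen.e)) lc_e_rc_35_2 lc_e_rc_35_0 lc_e_rc_36_0 lc_e_Cert_tree lc_e_rc_34_0 lc_e_rc_13_1 lc_e_Cert_tree lc_e_rc_34_0 lc_e_rc_34_0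 lc_e_rc_13_1 lc_e_Cert_tree lc_e_rc_34_0 lc_e_Cert_tree lc_e_rc_34_0 lc_e_Cert_tree lc_e_rc_34_0 lc_e_rc_36_2 lc_e_rc_37_2 lc_e_Cert_tree lc_e_rc_34_0 lc_e_rc_4_1 lc_e_rc_13_1 lc_e_Cert_tree lc_e_rc_34_0 lc_e_Cert_tree lc_e_rc_34_0 lc_e_rc_28_3 lc_e_rc_37_2 lc_e_Cert_tree lc_e_rc_34_0 lc_e_Cert_tree lc_e_rc_34_0 lc_e_rc_4_1 lc_e_Cert_tree lc_e_rc_34_0 lc_e_Cert_tree lc_e_rc_34_0 lc_e_rc_35_2 lc_e_Cert_tree lc_e_rc_34_0 lc_e_rc_21_1 lc_e_Cert_tree lc_e_rc_34_0 lc_e_rc_21_1 lc_e_rc_34_0 lc_e_rc_36_2 lc_e_rc_28_3 lc_e_rc_35_2 lc_e_rc_4_1 lc_e_Cert_tree lc_e_rc_34_0) (@D3.rec (fun _ => (Cert rels S Gen.e)) lc_e_rc_36_2 lc_e_Cert_tree lc_e_rc_34_0 lc_e_rc_21_1 lc_e_rc_37_2 lc_e_Cert_tree lc_e_rc_34_0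 lc_e_rc_35_2 lc_e_Cert_tree lc_e_rc_34_0 lc_e_rc_28_3 lc_e_Cert_tree lc_e_rc_34_0 lc_e_Cert_tree lc_e_rc_34_0 lc_e_Cert_tree lc_e_rc_34_0 lc_e_Cert_tree lc_e_rc_34_0 lc_e_Cert_tree lc_e_rc_34_0 lc_e_rc_36_2 lc_e_Cert_tree lc_e_rc_34_0 lc_e_rc_36_2 lc_e_Cert_tree lc_e_rc_34_0 lc_e_rc_21_1 lc_e_rc_13_3 lc_e_Cert_tree lc_e_rc_34_0 lc_e_rc_28_3 lc_e_rc_21_1 lc_e_rc_34_0 lc_e_rc_13_1 lc_e_rc_28_3 lc_e_rc_34_0 lc_e_rc_13_1 lc_e_rc_35_2 lc_e_rc_28_3 lc_e_rc_37_2 lc_e_rc_35_2 lc_e_rc_35_2 lc_e_rc_39_2 lc_e_rc_13_1 lc_e_rc_13_1 lc_e_rc_4_1 lc_e_rc_21_1 lc_e_Cert_tree lc_e_rc_34_0 lc_e_rc_4_3) (@D3.rec (fun _ => (Cert rels S Gen.e)) lc_e_Cert_tree lc_e_rc_34_0 lc_e_rc_4_1 lc_e_Cert_tree lc_e_rc_34_0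 lc_e_Cert_tree lc_e_rc_34_0 lc_e_Cert_tree lc_e_rc_34_0 lc_e_Cert_tree lc_e_rc_34_0 lc_e_rc_37_2 lc_e_rc_4_1 lc_e_Cert_tree lc_e_rc_34_0 lc_e_Cert_tree lc_e_rc_34_0 lc_e_Cert_tree lc_e_rc_34_0 lc_e_Cert_tree lc_e_rc_34_0 lc_e_rc_4_1 lc_e_rc_34_0 lc_e_Cert_tree lc_e_rc_34_0 lc_e_Cert_tree lc_e_rc_34_0 lc_e_rc_34_0 lc_e_Cert_tree lc_e_rc_34_0 lc_e_rc_13_1 lc_e_Cert_tree lc_e_rc_34_0 lc_e_Cert_tree lc_e_rc_34_0 lc_e_Cert_tree lc_e_rc_34_0 lc_e_rc_36_2 lc_e_rc_37_2 lc_e_Cert_tree lc_e_rc_34_0 lc_e_Cert_tree lc_e_rc_34_0 lc_e_rc_4_1 lc_e_Cert_tree lc_e_rc_34_0 lc_e_Cert_tree lc_e_rc_34_0 lc_e_rc_35_0 lc_e_rc_28_3 lc_e_Cert_tree) (@D3.rec (fun _ => (Cert rels S Gen.e)) lc_e_rc_34_0 lc_e_rc_36_2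 lc_e_Cert_tree lc_e_rc_34_0 lc_e_rc_36_2 lc_e_Cert_tree lc_e_rc_34_0 lc_e_rc_21_1 lc_e_rc_35_0 lc_e_Cert_tree lc_e_rc_34_0 lc_e_rc_28_3 lc_e_Cert_tree lc_e_rc_34_0 lc_e_Cert_tree lc_e_rc_34_0 lc_e_rc_4_1 lc_e_Cert_tree lc_e_rc_34_0 lc_e_Cert_tree lc_e_rc_34_0 lc_e_Cert_tree lc_e_rc_34_0 lc_e_rc_21_1 lc_e_Cert_tree lc_e_rc_34_0 lc_e_rc_36_2 lc_e_Cert_tree lc_e_rc_34_0 lc_e_rc_28_3 lc_e_Cert_tree lc_e_rc_34_0 lc_e_Cert_tree lc_e_rc_34_0 lc_e_rc_36_4 lc_e_Cert_tree lc_e_rc_34_0 lc_e_Cert_tree lc_e_rc_34_0 lc_e_rc_28_3 lc_e_rc_34_0 lc_e_rc_4_1 lc_e_rc_34_0 lc_e_rc_13_1 lc_e_Cert_tree lc_e_rc_34_0 lc_e_Cert_tree lc_e_rc_34_0 lc_e_rc_34_0 lc_e_rc_13_1 lc_e_rc_21_1) (@D3.rec (fun _ => (Cert rels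 S Gen.e)) lc_e_rc_35_2 lc_e_rc_36_0 lc_e_Cert_tree lc_e_rc_34_0 lc_e_Cert_tree lc_e_rc_34_0 lc_e_rc_36_2 lc_e_Cert_tree lc_e_rc_34_0 lc_e_rc_28_3 lc_e_Cert_tree lc_e_rc_34_0 lc_e_Cert_tree lc_e_rc_34_0 lc_e_rc_21_1 lc_e_rc_34_0 lc_e_rc_38_2 lc_e_rc_38_0 lc_e_Cert_tree lc_e_rc_34_0 lc_e_Cert_tree lc_e_rc_34_0 lc_e_rc_21_1 lc_e_rc_34_0 lc_e_rc_38_2 lc_e_rc_56_32 lc_e_Cert_tree lc_e_rc_34_0 lc_e_Cert_tree lc_e_rc_34_0 lc_e_Cert_tree lc_e_rc_34_0 lc_e_rc_4_1 lc_e_rc_34_0 lc_e_rc_13_1 lc_e_Cert_tree lc_e_rc_34_0 lc_e_rc_34_0 lc_e_rc_4_3 lc_e_rc_21_1 lc_e_rc_13_1 lc_e_rc_4_1 lc_e_rc_4_1 lc_e_rc_13_1 lc_e_Cert_tree lc_e_rc_34_0 lc_e_rc_34_0 lc_e_rc_4_1 lc_e_rc_13_1 lc_e_rc_36_0 lc_e_rc_37_0)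 (@D3.rec (fun _ => (Cert rels S Gen.e)) lc_e_rc_35_0 lc_e_rc_13_1 lc_e_rc_4_1 lc_e_rc_13_1 lc_e_Cert_tree lc_e_rc_34_0 lc_e_Cert_tree lc_e_rc_34_0 lc_e_rc_4_1 lc_e_rc_13_1 lc_e_rc_4_1 lc_e_Cert_tree lc_e_rc_34_0 lc_e_Cert_tree lc_e_rc_34_0 lc_e_Cert_tree lc_e_rc_34_0 lc_e_Cert_tree lc_e_rc_34_0 lc_e_Cert_tree lc_e_rc_34_0 lc_e_rc_36_2 lc_e_Cert_tree lc_e_rc_34_0 lc_e_rc_4_1 lc_e_rc_4_1 lc_e_Cert_tree lc_e_rc_34_0 lc_e_Cert_tree lc_e_rc_34_0 lc_e_rc_35_2 lc_e_Cert_tree lc_e_rc_34_0 lc_e_rc_21_1 lc_e_Cert_tree lc_e_rc_34_0 lc_e_Cert_tree lc_e_rc_34_0 lc_e_rc_38_0 lc_e_rc_4_1 lc_e_Cert_tree lc_e_rc_34_0 lc_e_Cert_tree lc_e_rc_34_0 lc_e_rc_34_0 lc_e_rc_4_3 lc_e_Cert_tree lc_e_rc_34_0 lc_e_rc_34_0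 lc_e_rc_55_58 lc_e_rc_21_1) (@D3.rec (fun _ => (Cert rels S Gen.e)) lc_e_rc_4_1 lc_e_rc_35_2 lc_e_rc_13_1 lc_e_Cert_tree lc_e_rc_34_0 lc_e_Cert_tree lc_e_rc_34_0 lc_e_rc_13_1 lc_e_Cert_tree lc_e_rc_34_0 lc_e_Cert_tree lc_e_rc_34_0 lc_e_Cert_tree lc_e_rc_34_0 lc_e_rc_36_2 lc_e_rc_37_2 lc_e_Cert_tree lc_e_rc_34_0 lc_e_rc_13_1 lc_e_rc_13_1 lc_e_rc_4_1 lc_e_Cert_tree lc_e_rc_34_0 lc_e_Cert_tree lc_e_rc_34_0 lc_e_rc_13_1 lc_e_rc_13_1 lc_e_Cert_tree lc_e_rc_34_0 lc_e_rc_36_2 lc_e_Cert_tree lc_e_rc_34_0 lc_e_rc_21_1 lc_e_rc_35_2 lc_e_rc_4_1 lc_e_rc_4_1 lc_e_rc_4_3 lc_e_rc_36_2 lc_e_Cert_tree lc_e_rc_34_0 lc_e_rc_28_3 lc_e_rc_4_1 lc_e_Cert_tree lc_e_rc_34_0 lc_e_rc_28_3 lc_e_rc_21_1 lc_e_rc_34_0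 lc_e_rc_13_1 lc_e_rc_34_0 lc_e_rc_13_1 lc_e_rc_35_2) (@D3.rec (fun _ => (Cert rels S Gen.e)) lc_e_rc_35_2 lc_e_rc_39_2 lc_e_rc_38_2 lc_e_Cert_tree lc_e_rc_34_0 lc_e_rc_39_2 lc_e_Cert_tree lc_e_rc_34_0 lc_e_rc_39_2 lc_e_Cert_tree lc_e_rc_34_0 lc_e_rc_36_2 lc_e_rc_28_3 lc_e_rc_21_1 lc_e_rc_13_1 lc_e_rc_35_2 lc_e_Cert_tree lc_e_rc_34_0 lc_e_rc_36_2 lc_e_Cert_tree lc_e_rc_34_0 lc_e_rc_36_2 lc_e_Cert_tree lc_e_rc_34_0 lc_e_rc_21_1 lc_e_rc_37_2 lc_e_rc_38_2 lc_e_Cert_tree lc_e_rc_34_0 lc_e_rc_28_3 lc_e_rc_21_1 lc_e_Cert_tree lc_e_rc_34_0 lc_e_Cert_tree lc_e_rc_34_0 lc_e_Cert_tree lc_e_rc_34_0 lc_e_Cert_tree lc_e_rc_34_0 lc_e_Cert_tree lc_e_rc_34_0 lc_e_rc_35_2 lc_e_Cert_tree lc_e_rc_34_0 lc_e_rc_21_1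 lc_e_Cert_tree lc_e_rc_34_0 lc_e_rc_36_2 lc_e_Cert_tree lc_e_rc_34_0 lc_e_rc_28_3) (@D3.rec (fun _ => (Cert rels S Gen.e)) lc_e_rc_35_2 lc_e_Cert_tree lc_e_rc_34_0 lc_e_rc_34_0 lc_e_rc_13_1 lc_e_Cert_tree lc_e_rc_34_0 lc_e_rc_34_0 lc_e_rc_13_1 lc_e_rc_35_2 lc_e_rc_37_0 lc_e_Cert_tree lc_e_rc_34_0 lc_e_Cert_tree lc_e_rc_34_0 lc_e_Cert_tree lc_e_rc_34_0 lc_e_Cert_tree lc_e_rc_34_0 lc_e_Cert_tree lc_e_rc_34_0 lc_e_Cert_tree lc_e_rc_34_0 lc_e_rc_34_0 lc_e_rc_34_0 lc_e_rc_13_1 lc_e_rc_4_1 lc_e_Cert_tree lc_e_rc_34_0 lc_e_rc_36_2 lc_e_Cert_tree lc_e_rc_34_0 lc_e_rc_36_2 lc_e_Cert_tree lc_e_rc_34_0 lc_e_rc_21_1 lc_e_Cert_tree lc_e_rc_34_0 lc_e_rc_21_1 lc_e_rc_34_0 lc_e_rc_13_1 lc_e_Cert_tree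 lc_e_rc_34_0 lc_e_rc_36_2 lc_e_Cert_tree lc_e_rc_34_0 lc_e_rc_28_3 lc_e_rc_21_1 lc_e_Cert_tree lc_e_rc_34_0 lc_e_rc_28_3) (@D3.rec (fun _ => (Cert rels S Gen.e)) lc_e_rc_21_1 lc_e_rc_37_2 lc_e_rc_34_0 lc_e_rc_28_3 lc_e_rc_13_1 lc_e_Cert_tree lc_e_rc_21_1 lc_e_Cert_tree lc_e_rc_34_0 lc_e_rc_34_0 lc_e_rc_13_1 lc_e_rc_13_1 lc_e_rc_35_2 lc_e_rc_4_1 lc_e_rc_13_1 lc_e_rc_21_3 lc_e_rc_34_0 lc_e_rc_4_1 lc_e_rc_13_1 lc_e_rc_39_2 lc_e_rc_39_2 lc_e_Cert_tree lc_e_rc_36_2 lc_e_rc_34_0 lc_e_rc_4_1 lc_e_Cert_tree lc_e_rc_34_0 lc_e_rc_4_1 lc_e_rc_34_0 lc_e_Cert_tree lc_e_rc_34_0 lc_e_rc_4_1 lc_e_Cert_tree lc_e_rc_34_0 lc_e_rc_35_2 lc_e_Cert_tree lc_e_rc_34_0 lc_e_rc_35_2 lc_e_Cert_tree lc_e_rc_34_0 lc_e_rc_4_1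 lc_e_Cert_tree lc_e_rc_34_0 lc_e_rc_34_0 lc_e_rc_37_2 lc_e_Cert_tree lc_e_rc_34_0 lc_e_rc_37_0 lc_e_rc_34_0 lc_e_Cert_tree lc_e_rc_34_0) (@D3.rec (fun _ => (Cert rels S Gen.e)) lc_e_rc_34_0 lc_e_rc_4_1 lc_e_rc_13_1 lc_e_rc_21_1 lc_e_rc_4_1 lc_e_rc_13_1 lc_e_Cert_tree lc_e_rc_34_0 lc_e_Cert_tree lc_e_rc_34_0 lc_e_rc_35_2 lc_e_rc_34_0 lc_e_Cert_tree lc_e_rc_34_0 lc_e_rc_4_1 lc_e_Cert_tree lc_e_rc_34_0 lc_e_rc_36_2 lc_e_Cert_tree lc_e_rc_34_0 lc_e_rc_21_1 lc_e_rc_37_2 lc_e_Cert_tree lc_e_rc_34_0 lc_e_rc_28_3 lc_e_Cert_tree lc_e_rc_34_0 lc_e_rc_4_1 lc_e_Cert_tree lc_e_rc_34_0 lc_e_rc_37_2 lc_e_Cert_tree lc_e_rc_34_0 lc_e_rc_21_1 lc_e_rc_34_0 lc_e_rc_13_1 lc_e_rc_21_1 lc_e_rc_28_3 lc_e_rc_35_2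 lc_e_Cert_tree lc_e_rc_34_0 lc_e_rc_4_1 lc_e_Cert_tree lc_e_rc_34_0 lc_e_rc_28_3 lc_e_Cert_tree lc_e_rc_34_0 lc_e_rc_4_1 lc_e_Cert_tree lc_e_rc_34_0 lc_e_Cert_tree) (@D3.rec (fun _ => (Cert rels S Gen.e)) lc_e_rc_34_0 lc_e_rc_28_3 lc_e_Cert_tree lc_e_rc_34_0 lc_e_rc_28_3 lc_e_rc_35_2 lc_e_rc_34_0 lc_e_rc_13_1 lc_e_rc_13_1 lc_e_rc_4_1 lc_e_Cert_tree lc_e_rc_34_0 lc_e_Cert_tree lc_e_rc_34_0 lc_e_rc_28_3 lc_e_rc_4_1 lc_e_rc_34_0 lc_e_rc_13_1 lc_e_rc_35_2 lc_e_rc_4_1 lc_e_rc_13_1 lc_e_rc_21_1 lc_e_rc_28_3 lc_e_rc_21_1 lc_e_rc_13_1 lc_e_Cert_tree lc_e_rc_34_0 lc_e_rc_4_1 lc_e_Cert_tree lc_e_rc_34_0 lc_e_Cert_tree lc_e_rc_34_0 lc_e_rc_28_3 lc_e_Cert_tree lc_e_rc_34_0 lc_e_rc_36_2 lc_e_rc_4_1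 lc_e_rc_4_1 lc_e_rc_4_1 lc_e_rc_38_2 lc_e_Cert_tree lc_e_rc_34_0 lc_e_rc_36_2 lc_e_Cert_tree lc_e_rc_34_0 lc_e_rc_28_3 lc_e_rc_21_1 lc_e_rc_37_2 lc_e_Cert_tree lc_e_Cert_tree lc_e_rc_34_0) (@D3.rec (fun _ => (Cert rels S Gen.e)) lc_e_rc_39_2 lc_e_rc_56_46 lc_e_Cert_tree lc_e_rc_34_0 lc_e_rc_36_2 lc_e_Cert_tree lc_e_rc_34_0 lc_e_rc_28_3 lc_e_rc_21_1 lc_e_rc_37_2 lc_e_rc_34_0 lc_e_rc_13_1 lc_e_rc_21_1 lc_e_Cert_tree lc_e_rc_34_0 lc_e_rc_28_3 lc_e_rc_34_0 lc_e_rc_13_1 lc_e_rc_35_2 lc_e_rc_4_1 lc_e_Cert_tree lc_e_rc_34_0 lc_e_Cert_tree lc_e_rc_34_0 lc_e_rc_28_3 lc_e_rc_4_1 lc_e_rc_4_3 lc_e_rc_38_2 lc_e_Cert_tree lc_e_rc_34_0 lc_e_Cert_tree lc_e_rc_34_0 lc_e_rc_21_1 lc_e_rc_37_2 lc_e_rc_34_0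 lc_e_rc_13_1 lc_e_rc_21_1 lc_e_rc_4_1 lc_e_rc_39_2 lc_e_rc_4_1 lc_e_rc_4_1 lc_e_rc_4_1 lc_e_rc_34_0 lc_e_Cert_tree lc_e_rc_34_0 lc_e_rc_21_1 lc_e_rc_34_0 lc_e_rc_13_1 lc_e_rc_21_1 lc_e_rc_4_1 lc_e_rc_13_1) (@D3.rec (fun _ => (Cert rels S Gen.e)) lc_e_rc_13_1 lc_e_rc_21_1 lc_e_rc_37_2 lc_e_rc_38_2 lc_e_rc_35_2 lc_e_rc_21_1 lc_e_rc_39_2 lc_e_rc_35_2 lc_e_rc_36_2 lc_e_rc_35_2 lc_e_rc_37_2 lc_e_rc_13_1 lc_e_rc_35_2 lc_e_Cert_tree lc_e_rc_34_0 lc_e_Cert_tree lc_e_rc_34_0 lc_e_rc_28_3 lc_e_rc_21_1 lc_e_rc_34_0 lc_e_rc_13_1 lc_e_Cert_tree lc_e_rc_34_0 lc_e_rc_28_3 lc_e_rc_34_0 lc_e_rc_13_1 lc_e_rc_35_2 lc_e_rc_4_1 lc_e_Cert_tree lc_e_rc_34_0 lc_e_Cert_tree lc_e_rc_34_0 lc_e_rc_34_1 lc_e_Cert_tree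 lc_e_rc_34_0 lc_e_rc_28_3 lc_e_rc_36_0 lc_e_Cert_tree lc_e_rc_34_0 lc_e_rc_36_2 lc_e_Cert_tree lc_e_rc_34_0 lc_e_rc_28_3 lc_e_rc_36_2 lc_e_rc_34_0 lc_e_rc_13_1 lc_e_rc_35_2 lc_e_Cert_tree lc_e_rc_34_0 lc_e_rc_21_1 lc_e_rc_34_0) (@D3.rec (fun _ => (Cert rels S Gen.e)) lc_e_rc_13_1 lc_e_rc_13_1 lc_e_rc_35_2 lc_e_rc_4_1 lc_e_rc_13_1 lc_e_rc_13_1 lc_e_rc_39_2 lc_e_rc_13_1 lc_e_Cert_tree lc_e_rc_34_0 lc_e_rc_28_3 lc_e_rc_4_1 lc_e_rc_34_0 lc_e_Cert_tree lc_e_rc_34_0 lc_e_rc_35_2 lc_e_Cert_tree lc_e_rc_34_0 lc_e_rc_36_2 lc_e_Cert_tree lc_e_rc_34_0 lc_e_rc_28_3 lc_e_rc_35_2 lc_e_Cert_tree lc_e_rc_34_0 lc_e_rc_28_3 lc_e_rc_34_0 lc_e_rc_28_3 lc_e_rc_13_1 lc_e_Cert_tree lc_e_rc_28_3 lc_e_rc_34_0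 lc_e_rc_28_3 lc_e_rc_4_1 lc_e_rc_4_1 lc_e_Cert_tree lc_e_rc_34_0 lc_e_Cert_tree lc_e_rc_34_0 lc_e_rc_21_1 lc_e_rc_34_0 lc_e_rc_13_1 lc_e_rc_4_1 lc_e_rc_4_1 lc_e_rc_13_1 lc_e_rc_39_2 lc_e_rc_34_0 lc_e_rc_13_1 lc_e_rc_4_1 lc_e_rc_13_1 lc_e_rc_37_2) (@D3.rec (fun _ => (Cert rels S Gen.e)) lc_e_rc_4_1 lc_e_rc_4_1 lc_e_rc_13_1 lc_e_rc_13_1 lc_e_rc_37_2 lc_e_rc_35_2 lc_e_rc_39_2 lc_e_rc_28_3 lc_e_rc_21_1 lc_e_rc_39_2 lc_e_rc_21_1 lc_e_rc_35_2 lc_e_rc_21_1 lc_e_rc_13_1 lc_e_rc_21_1 lc_e_Cert_tree lc_e_rc_35_2 lc_e_rc_34_0 lc_e_Cert_tree lc_e_rc_34_0 lc_e_Cert_tree lc_e_rc_34_0 lc_e_rc_28_3 lc_e_Cert_tree lc_e_rc_34_0 lc_e_rc_34_0 lc_e_Cert_tree lc_e_rc_34_0 lc_e_rc_4_1 lc_e_rc_34_0 lc_e_Cert_tree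 lc_e_rc_34_0 lc_e_rc_28_3 lc_e_rc_34_0 lc_e_Cert_tree lc_e_rc_34_0 lc_e_Cert_tree lc_e_rc_34_0 lc_e_rc_35_2 lc_e_Cert_tree lc_e_rc_34_0 lc_e_rc_28_3 lc_e_Cert_tree lc_e_rc_34_0 lc_e_rc_21_1 lc_e_Cert_tree lc_e_rc_34_0 lc_e_Cert_tree lc_e_rc_34_0 lc_e_rc_21_1 lc_e_rc_35_2) (@D3.rec (fun _ => (Cert rels S Gen.e)) lc_e_Cert_tree lc_e_rc_34_0 lc_e_rc_34_0 lc_e_rc_13_1 lc_e_rc_21_1 lc_e_Cert_tree lc_e_rc_34_0 lc_e_rc_28_3 lc_e_rc_21_1 lc_e_rc_34_0 lc_e_rc_13_1 lc_e_Cert_tree lc_e_rc_34_0 lc_e_rc_37_2 lc_e_rc_34_0 lc_e_rc_13_1 lc_e_rc_34_0 lc_e_rc_4_1 lc_e_Cert_tree lc_e_rc_34_0 lc_e_rc_28_3 lc_e_Cert_tree lc_e_rc_34_0 lc_e_rc_28_3 lc_e_rc_34_0 lc_e_Cert_tree lc_e_rc_34_0 lc_e_rc_36_2 lc_e_Cert_tree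 lc_e_rc_34_0 lc_e_rc_36_2 lc_e_Cert_tree lc_e_rc_34_0 lc_e_Cert_tree lc_e_rc_34_0 lc_e_Cert_tree lc_e_rc_34_0 lc_e_Cert_tree lc_e_rc_34_0 lc_e_rc_37_0 lc_e_rc_34_0 lc_e_Cert_tree lc_e_rc_34_0 lc_e_rc_28_3 lc_e_rc_4_1 lc_e_rc_34_0 lc_e_rc_4_1 lc_e_Cert_tree lc_e_rc_34_0 lc_e_rc_28_3 lc_e_rc_34_0) (@D3.rec (fun _ => (Cert rels S Gen.e)) lc_e_rc_28_3 lc_e_Cert_tree lc_e_rc_34_0 lc_e_rc_28_3 lc_e_rc_21_1 lc_e_rc_34_0 lc_e_rc_13_1 lc_e_rc_34_0 lc_e_rc_13_1 lc_e_rc_55_31 lc_e_Cert_tree lc_e_rc_34_0 lc_e_rc_34_0 lc_e_Cert_tree lc_e_rc_34_0 lc_e_Cert_tree lc_e_rc_34_0 lc_e_rc_38_2 lc_e_Cert_tree lc_e_rc_34_0 lc_e_rc_21_1 lc_e_rc_39_2 lc_e_rc_34_0 lc_e_rc_13_1 lc_e_rc_21_1 lc_e_rc_34_0 lc_e_rc_4_1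 lc_e_rc_13_1 lc_e_Cert_tree lc_e_rc_34_0 lc_e_Cert_tree lc_e_rc_34_0 lc_e_rc_38_0 lc_e_Cert_tree lc_e_rc_34_0 lc_e_rc_34_0 lc_e_rc_4_1 lc_e_rc_34_0 lc_e_Cert_tree lc_e_rc_34_0 lc_e_rc_38_0 lc_e_Cert_tree lc_e_rc_34_0 lc_e_rc_28_3 lc_e_rc_34_0 lc_e_rc_28_3 lc_e_rc_34_0 lc_e_rc_13_1 lc_e_rc_4_1 lc_e_Cert_tree lc_e_rc_34_0) (@D3.rec (fun _ => (Cert rels S Gen.e)) lc_e_rc_34_0 lc_e_rc_34_0 lc_e_rc_13_1 lc_e_Cert_tree lc_e_rc_34_0 lc_e_rc_35_2 lc_e_Cert_tree lc_e_rc_34_0 lc_e_rc_36_4 lc_e_rc_35_2 lc_e_rc_34_0 lc_e_rc_13_1 lc_e_Cert_tree lc_e_rc_34_0 lc_e_rc_36_2 lc_e_Cert_tree lc_e_rc_34_0 lc_e_rc_28_3 lc_e_rc_21_1 lc_e_Cert_tree lc_e_rc_34_0 lc_e_rc_21_1 lc_e_rc_34_0 lc_e_rc_13_1 lc_e_rc_34_0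 lc_e_rc_13_1 lc_e_rc_4_1 lc_e_rc_13_1 lc_e_Cert_tree lc_e_rc_34_0 lc_e_rc_38_2 lc_e_rc_34_0 lc_e_rc_21_1 lc_e_rc_34_0 lc_e_Cert_tree lc_e_rc_34_0 lc_e_rc_38_2 lc_e_rc_34_0 lc_e_rc_13_1 lc_e_rc_4_1 lc_e_rc_34_0 lc_e_rc_34_0 lc_e_rc_34_0 lc_e_rc_34_0 lc_e_rc_34_0 lc_e_rc_13_1 lc_e_rc_34_0 lc_e_rc_4_1 lc_e_Cert_tree lc_e_rc_34_0 lc_e_Cert_tree)
def ce_e_21 : D2 → D3 → (Cert rels S Gen.e) := @D2.rec (fun _ => D3 → (Cert rels S Gen.e)) (@D3.rec (fun _ => (Cert rels S Gen.e)) lc_e_rc_34_0 lc_e_rc_28_3 lc_e_Cert_tree lc_e_rc_34_0 lc_e_rc_4_3 lc_e_rc_34_0 lc_e_rc_13_1 lc_e_Cert_tree lc_e_rc_34_0 lc_e_Cert_tree lc_e_rc_34_0 lc_e_rc_38_2 lc_e_rc_34_0 lc_e_Cert_tree lc_e_rc_34_0 lc_e_rc_35_2 lc_e_rc_34_0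 lc_e_rc_34_0 lc_e_rc_28_3 lc_e_rc_34_0 lc_e_rc_34_0 lc_e_rc_13_1 lc_e_Cert_tree lc_e_rc_34_0 lc_e_Cert_tree lc_e_rc_34_0 lc_e_rc_34_0 lc_e_rc_28_3 lc_e_Cert_tree lc_e_rc_34_0 lc_e_rc_34_0 lc_e_Cert_tree lc_e_rc_34_0 lc_e_rc_28_3 lc_e_rc_34_0 lc_e_rc_13_1 lc_e_Cert_tree lc_e_rc_34_0 lc_e_Cert_tree lc_e_rc_34_0 lc_e_rc_37_2 lc_e_rc_34_0 lc_e_rc_13_1 lc_e_rc_35_2 lc_e_Cert_tree lc_e_rc_34_0 lc_e_rc_13_1 lc_e_Cert_tree lc_e_rc_34_0 lc_e_rc_35_2 lc_e_Cert_tree) (@D3.rec (fun _ => (Cert rels S Gen.e)) lc_e_rc_34_0 lc_e_rc_38_2 lc_e_rc_34_0 lc_e_rc_13_1 lc_e_Cert_tree lc_e_rc_34_0 lc_e_rc_34_0 lc_e_rc_34_0 lc_e_rc_13_1 lc_e_rc_34_0 lc_e_rc_13_1 lc_e_rc_4_1 lc_e_rc_21_1 lc_e_rc_13_1 lc_e_rc_34_0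 lc_e_rc_13_1 lc_e_rc_4_1 lc_e_rc_13_1 lc_e_rc_4_1 lc_e_rc_34_0 lc_e_rc_4_1 lc_e_rc_13_1 lc_e_rc_35_0 lc_e_Cert_tree lc_e_rc_34_0 lc_e_rc_34_0 lc_e_rc_34_0 lc_e_rc_38_0 lc_e_Cert_tree lc_e_rc_34_0 lc_e_rc_35_2 lc_e_rc_4_1 lc_e_rc_34_0 lc_e_rc_13_1 lc_e_rc_35_2 lc_e_rc_35_0 lc_e_rc_34_0 lc_e_rc_13_3 lc_e_rc_34_0 lc_e_rc_4_1 lc_e_rc_37_2 lc_e_rc_13_1 lc_e_rc_21_1 lc_e_Cert_tree lc_e_rc_34_0 lc_e_rc_4_1 lc_e_Cert_tree lc_e_rc_34_0 lc_e_rc_36_2 lc_e_rc_35_0 lc_e_rc_21_1) (@D3.rec (fun _ => (Cert rels S Gen.e)) lc_e_rc_13_1 lc_e_Cert_tree lc_e_rc_34_0 lc_e_rc_36_2 lc_e_Cert_tree lc_e_rc_34_0 lc_e_rc_36_2 lc_e_Cert_tree lc_e_rc_34_0 lc_e_rc_21_1 lc_e_rc_37_2 lc_e_Cert_tree lc_e_rc_34_0 lc_e_rc_28_3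 lc_e_rc_4_1 lc_e_Cert_tree lc_e_rc_34_0 lc_e_rc_36_2 lc_e_Cert_tree lc_e_rc_34_0 lc_e_rc_21_1 lc_e_rc_4_1 lc_e_Cert_tree lc_e_rc_34_0 lc_e_rc_36_2 lc_e_Cert_tree lc_e_rc_34_0 lc_e_rc_21_1 lc_e_Cert_tree lc_e_rc_34_0 lc_e_rc_35_2 lc_e_Cert_tree lc_e_rc_34_0 lc_e_rc_28_3 lc_e_rc_21_1 lc_e_rc_34_0 lc_e_rc_13_1 lc_e_rc_34_0 lc_e_rc_13_1 lc_e_rc_21_1 lc_e_rc_28_3 lc_e_rc_35_2 lc_e_rc_35_2 lc_e_Cert_tree lc_e_rc_34_0 lc_e_rc_28_3 lc_e_rc_21_1 lc_e_rc_37_2 lc_e_rc_34_0 lc_e_rc_13_1 lc_e_rc_21_1) (@D3.rec (fun _ => (Cert rels S Gen.e)) lc_e_Cert_tree lc_e_rc_34_0 lc_e_rc_35_2 lc_e_rc_35_2 lc_e_rc_34_0 lc_e_rc_13_1 lc_e_Cert_tree lc_e_rc_34_0 lc_e_Cert_tree lc_e_rc_34_0 lc_e_rc_34_0 lc_e_Cert_tree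 lc_e_rc_34_0 lc_e_rc_36_2 lc_e_Cert_tree lc_e_rc_34_0 lc_e_rc_28_3 lc_e_rc_21_1 lc_e_Cert_tree lc_e_rc_34_0 lc_e_rc_21_1 lc_e_rc_13_3 lc_e_rc_34_0 lc_e_rc_13_1 lc_e_rc_35_2 lc_e_rc_34_0 lc_e_rc_13_1 lc_e_rc_13_1 lc_e_rc_35_2 lc_e_rc_4_1 lc_e_rc_13_1 lc_e_rc_4_1 lc_e_rc_13_1 lc_e_rc_39_2 lc_e_rc_39_2 lc_e_rc_13_1 lc_e_rc_13_1 lc_e_Cert_tree lc_e_rc_34_0 lc_e_rc_39_0 lc_e_Cert_tree lc_e_rc_34_0 lc_e_Cert_tree lc_e_rc_34_0 lc_e_rc_37_2 lc_e_rc_34_0 lc_e_rc_34_0 lc_e_Cert_tree lc_e_rc_34_0 lc_e_rc_28_3 lc_e_Cert_tree) (@D3.rec (fun _ => (Cert rels S Gen.e)) lc_e_rc_34_0 lc_e_rc_28_3 lc_e_rc_34_0 lc_e_rc_34_0 lc_e_Cert_tree lc_e_rc_34_0 lc_e_rc_28_3 lc_e_Cert_tree lc_e_rc_34_0 lc_e_rc_34_0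 lc_e_Cert_tree lc_e_rc_34_0 lc_e_rc_36_2 lc_e_Cert_tree lc_e_rc_34_0 lc_e_rc_36_2 lc_e_Cert_tree lc_e_rc_34_0 lc_e_rc_36_2 lc_e_Cert_tree lc_e_rc_34_0 lc_e_rc_21_1 lc_e_rc_37_2 lc_e_Cert_tree lc_e_rc_34_0 lc_e_rc_37_2 lc_e_Cert_tree lc_e_rc_34_0 lc_e_rc_28_3 lc_e_Cert_tree lc_e_rc_34_0 lc_e_Cert_tree lc_e_rc_34_0 lc_e_rc_28_3 lc_e_rc_35_0 lc_e_rc_37_2 lc_e_Cert_tree lc_e_rc_34_0 lc_e_rc_28_3 lc_e_rc_21_1 lc_e_Cert_tree lc_e_rc_34_0 lc_e_rc_28_3 lc_e_rc_21_1 lc_e_rc_34_0 lc_e_rc_13_1 lc_e_rc_35_0 lc_e_rc_34_0 lc_e_rc_13_1 lc_e_rc_35_2 lc_e_Cert_tree) (@D3.rec (fun _ => (Cert rels S Gen.e)) lc_e_rc_34_0 lc_e_rc_36_2 lc_e_Cert_tree lc_e_rc_34_0 lc_e_rc_28_3 lc_e_Cert_tree lc_e_rc_34_0 lc_e_Cert_tree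 lc_e_rc_34_0 lc_e_rc_28_3 lc_e_rc_34_0 lc_e_rc_13_1 lc_e_Cert_tree lc_e_rc_34_0 lc_e_rc_21_1 lc_e_rc_34_0 lc_e_rc_13_1 lc_e_rc_35_2 lc_e_Cert_tree lc_e_rc_34_0 lc_e_rc_28_3 lc_e_rc_34_0 lc_e_rc_36_4 lc_e_Cert_tree lc_e_rc_34_0 lc_e_rc_28_3 lc_e_rc_34_0 lc_e_rc_28_3 lc_e_rc_55_31 lc_e_Cert_tree lc_e_rc_4_1 lc_e_Cert_tree lc_e_rc_34_0 lc_e_rc_34_0 lc_e_rc_4_1 lc_e_rc_13_1 lc_e_rc_38_0 lc_e_Cert_tree lc_e_rc_34_0 lc_e_Cert_tree lc_e_rc_34_0 lc_e_rc_28_3 lc_e_rc_21_1 lc_e_rc_34_0 lc_e_rc_13_1 lc_e_rc_35_2 lc_e_Cert_tree lc_e_rc_34_0 lc_e_rc_34_0 lc_e_rc_4_3 lc_e_rc_13_1) (@D3.rec (fun _ => (Cert rels S Gen.e)) lc_e_rc_38_0 lc_e_Cert_tree lc_e_rc_34_0 lc_e_rc_34_0 lc_e_rc_13_1 lc_e_rc_4_1 lc_e_rc_55_58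 lc_e_rc_56_46 lc_e_rc_34_0 lc_e_Cert_tree lc_e_rc_34_0 lc_e_rc_34_0 lc_e_rc_4_1 lc_e_rc_34_0 lc_e_rc_4_1 lc_e_rc_13_1 lc_e_rc_4_1 lc_e_rc_4_1 lc_e_rc_34_0 lc_e_rc_4_1 lc_e_rc_36_0 lc_e_rc_39_2 lc_e_rc_4_1 lc_e_rc_4_1 lc_e_Cert_tree lc_e_rc_34_0 lc_e_Cert_tree lc_e_rc_34_0 lc_e_rc_4_1 lc_e_rc_34_0 lc_e_rc_34_0 lc_e_Cert_tree lc_e_rc_34_0 lc_e_rc_36_2 lc_e_Cert_tree lc_e_rc_34_0 lc_e_rc_36_2 lc_e_Cert_tree lc_e_rc_34_0 lc_e_rc_21_1 lc_e_Cert_tree lc_e_rc_34_0 lc_e_rc_28_3 lc_e_Cert_tree lc_e_rc_34_0 lc_e_Cert_tree lc_e_rc_34_0 lc_e_rc_28_3 lc_e_rc_35_2 lc_e_rc_34_0 lc_e_rc_13_1) (@D3.rec (fun _ => (Cert rels S Gen.e)) lc_e_Cert_tree lc_e_rc_34_0 lc_e_rc_34_0 lc_e_rc_13_1 lc_e_rc_34_0 lc_e_rc_34_0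 lc_e_rc_36_2 lc_e_rc_34_0 lc_e_rc_13_1 lc_e_rc_13_1 lc_e_rc_4_1 lc_e_Cert_tree lc_e_rc_34_0 lc_e_rc_34_0 lc_e_rc_13_1 lc_e_Cert_tree lc_e_rc_34_0 lc_e_rc_36_2 lc_e_Cert_tree lc_e_rc_34_0 lc_e_rc_36_2 lc_e_Cert_tree lc_e_rc_34_0 lc_e_rc_21_1 lc_e_rc_37_2 lc_e_Cert_tree lc_e_rc_34_0 lc_e_rc_28_3 lc_e_rc_21_3 lc_e_Cert_tree lc_e_rc_34_0 lc_e_Cert_tree lc_e_rc_34_0 lc_e_rc_28_3 lc_e_rc_21_1 lc_e_rc_4_1 lc_e_rc_34_0 lc_e_rc_13_1 lc_e_rc_34_0 lc_e_rc_13_1 lc_e_rc_35_2 lc_e_rc_37_0 lc_e_rc_37_2 lc_e_rc_34_0 lc_e_rc_13_1 lc_e_rc_13_1 lc_e_rc_34_0 lc_e_rc_13_1 lc_e_rc_13_1 lc_e_rc_35_2 lc_e_rc_4_1) (@D3.rec (fun _ => (Cert rels S Gen.e)) lc_e_rc_4_1 lc_e_rc_13_1 lc_e_rc_39_2 lc_e_rc_39_2 lc_e_rc_13_1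 lc_e_Cert_tree lc_e_rc_34_0 lc_e_rc_39_2 lc_e_Cert_tree lc_e_rc_34_0 lc_e_rc_28_3 lc_e_Cert_tree lc_e_rc_34_0 lc_e_rc_28_3 lc_e_rc_36_2 lc_e_rc_37_2 lc_e_rc_35_0 lc_e_rc_35_2 lc_e_rc_13_1 lc_e_Cert_tree lc_e_rc_34_0 lc_e_rc_28_3 lc_e_rc_21_1 lc_e_rc_37_2 lc_e_Cert_tree lc_e_rc_34_0 lc_e_rc_28_3 lc_e_rc_21_1 lc_e_rc_37_2 lc_e_rc_34_0 lc_e_rc_13_1 lc_e_rc_21_1 lc_e_rc_4_3 lc_e_rc_34_0 lc_e_rc_13_1 lc_e_rc_35_2 lc_e_Cert_tree lc_e_rc_34_0 lc_e_Cert_tree lc_e_rc_34_0 lc_e_rc_38_2 lc_e_rc_34_0 lc_e_rc_34_0 lc_e_Cert_tree lc_e_rc_34_0 lc_e_rc_35_0 lc_e_rc_35_2 lc_e_rc_34_0 lc_e_rc_13_1 lc_e_Cert_tree lc_e_rc_34_0) (@D3.rec (fun _ => (Cert rels S Gen.e)) lc_e_rc_38_0 lc_e_rc_36_2 lc_e_rc_34_0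 lc_e_rc_28_3 lc_e_rc_13_1 lc_e_Cert_tree lc_e_rc_34_0 lc_e_rc_4_1 lc_e_rc_34_0 lc_e_rc_4_1 lc_e_rc_13_1 lc_e_rc_37_0 lc_e_rc_34_0 lc_e_Cert_tree lc_e_rc_34_0 lc_e_Cert_tree lc_e_rc_34_0 lc_e_rc_28_3 lc_e_Cert_tree lc_e_rc_34_0 lc_e_rc_34_0 lc_e_rc_34_0 lc_e_rc_4_1 lc_e_Cert_tree lc_e_rc_34_0 lc_e_rc_38_2 lc_e_rc_21_1 lc_e_Cert_tree lc_e_rc_34_0 lc_e_rc_36_2 lc_e_rc_34_0 lc_e_rc_13_1 lc_e_rc_34_0 lc_e_rc_13_1 lc_e_rc_4_1 lc_e_Cert_tree lc_e_rc_34_0 lc_e_rc_28_3 lc_e_rc_21_1 lc_e_rc_34_0 lc_e_rc_28_3 lc_e_rc_13_1 lc_e_Cert_tree lc_e_rc_28_3 lc_e_rc_34_0 lc_e_rc_28_3 lc_e_rc_13_1 lc_e_rc_36_2 lc_e_rc_37_2 lc_e_rc_4_1 lc_e_rc_4_1) (@D3.rec (fun _ => (Cert rels S Gen.e)) lc_e_Cert_tree lc_e_rc_21_3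 lc_e_rc_34_0 lc_e_rc_37_2 lc_e_rc_34_0 lc_e_rc_4_1 lc_e_rc_4_1 lc_e_rc_13_1 lc_e_rc_39_2 lc_e_rc_4_1 lc_e_rc_4_1 lc_e_rc_13_1 lc_e_rc_34_0 lc_e_rc_34_0 lc_e_Cert_tree lc_e_rc_34_0 lc_e_rc_36_4 lc_e_rc_34_0 lc_e_rc_13_1 lc_e_rc_34_0 lc_e_rc_13_1 lc_e_Cert_tree lc_e_rc_34_0 lc_e_rc_35_2 lc_e_rc_34_0 lc_e_rc_34_0 lc_e_rc_13_1 lc_e_rc_34_0 lc_e_rc_4_1 lc_e_rc_13_1 lc_e_rc_34_0 lc_e_rc_34_0 lc_e_rc_13_1 lc_e_Cert_tree lc_e_rc_34_0 lc_e_rc_4_3 lc_e_Cert_tree lc_e_rc_34_0 lc_e_rc_28_3 lc_e_rc_21_1 lc_e_rc_37_2 lc_e_rc_34_0 lc_e_rc_13_1 lc_e_rc_21_1 lc_e_rc_34_0 lc_e_rc_13_1 lc_e_rc_35_2 lc_e_Cert_tree lc_e_rc_34_0 lc_e_rc_28_3 lc_e_Cert_tree) (@D3.rec (fun _ => (Cert rels S Gen.e)) lc_e_rc_34_0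 lc_e_rc_21_1 lc_e_rc_36_2 lc_e_rc_34_0 lc_e_rc_13_1 lc_e_rc_21_1 lc_e_rc_4_1 lc_e_rc_13_1 lc_e_rc_35_2 lc_e_Cert_tree lc_e_rc_34_0 lc_e_rc_28_3 lc_e_rc_34_0 lc_e_rc_13_1 lc_e_Cert_tree lc_e_rc_34_0 lc_e_rc_28_3 lc_e_Cert_tree lc_e_rc_34_0 lc_e_rc_28_3 lc_e_rc_34_0 lc_e_rc_13_1 lc_e_rc_34_0 lc_e_rc_13_1 lc_e_rc_13_1 lc_e_rc_4_1 lc_e_rc_4_1 lc_e_Cert_tree lc_e_rc_34_0 lc_e_rc_28_3 lc_e_rc_34_0 lc_e_rc_13_1 lc_e_rc_35_2 lc_e_rc_4_1 lc_e_rc_13_1 lc_e_rc_4_1 lc_e_rc_13_1 lc_e_rc_38_2 lc_e_Cert_tree lc_e_rc_34_0 lc_e_rc_28_3 lc_e_Cert_tree lc_e_rc_34_0 lc_e_rc_38_0 lc_e_rc_34_0 lc_e_rc_13_1 lc_e_rc_38_2 lc_e_Cert_tree lc_e_rc_34_0 lc_e_rc_37_2 lc_e_rc_4_3) (@D3.rec (fun _ => (Cert rels S Gen.e))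 lc_e_rc_37_2 lc_e_rc_35_2 lc_e_rc_4_1 lc_e_Cert_tree lc_e_rc_34_0 lc_e_rc_28_3 lc_e_rc_21_1 lc_e_rc_34_0 lc_e_rc_28_3 lc_e_rc_13_1 lc_e_Cert_tree lc_e_rc_35_2 lc_e_rc_34_0 lc_e_Cert_tree lc_e_rc_34_0 lc_e_rc_21_3 lc_e_Cert_tree lc_e_rc_34_0 lc_e_rc_28_3 lc_e_rc_36_2 lc_e_rc_37_2 lc_e_rc_34_0 lc_e_rc_13_1 lc_e_rc_13_1 lc_e_rc_21_1 lc_e_rc_35_2 lc_e_rc_21_1 lc_e_rc_4_1 lc_e_rc_13_1 lc_e_rc_34_0 lc_e_rc_13_1 lc_e_rc_35_2 lc_e_rc_4_1 lc_e_rc_21_1 lc_e_rc_13_1 lc_e_rc_36_2 lc_e_Cert_tree lc_e_rc_34_0 lc_e_rc_28_3 lc_e_rc_34_0 lc_e_rc_13_1 lc_e_rc_35_2 lc_e_rc_13_3 lc_e_Cert_tree lc_e_rc_34_0 lc_e_rc_21_1 lc_e_rc_34_0 lc_e_rc_13_1 lc_e_rc_13_1 lc_e_rc_21_1 lc_e_rc_4_1) (@D3.rec (fun _ => (Cert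 rels S Gen.e)) lc_e_rc_13_1 lc_e_rc_13_1 lc_e_rc_21_1 lc_e_rc_13_3 lc_e_rc_34_0 lc_e_rc_13_1 lc_e_rc_21_1 lc_e_rc_4_1 lc_e_rc_13_1 lc_e_rc_36_2 lc_e_rc_4_1 lc_e_rc_4_1 lc_e_rc_13_1 lc_e_rc_13_1 lc_e_rc_21_1 lc_e_rc_39_2 lc_e_rc_35_2 lc_e_rc_37_2 lc_e_Cert_tree lc_e_rc_34_0 lc_e_rc_28_3 lc_e_rc_34_0 lc_e_rc_13_1 lc_e_rc_13_1 lc_e_rc_4_1 lc_e_rc_34_0 lc_e_rc_13_1 lc_e_rc_4_1 lc_e_rc_21_1 lc_e_rc_35_2 lc_e_rc_34_0 lc_e_Cert_tree lc_e_rc_34_0 lc_e_rc_37_2 lc_e_rc_4_1 lc_e_rc_34_0 lc_e_rc_28_3 lc_e_rc_38_2 lc_e_Cert_tree lc_e_rc_34_0 lc_e_rc_36_2 lc_e_rc_34_0 lc_e_rc_13_1 lc_e_rc_13_1 lc_e_rc_36_2 lc_e_rc_35_2 lc_e_rc_4_1 lc_e_rc_13_1 lc_e_rc_39_2 lc_e_rc_34_0 lc_e_rc_13_1) (@D3.rec (fun _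 => (Cert rels S Gen.e)) lc_e_rc_4_1 lc_e_rc_21_3 lc_e_rc_13_1 lc_e_rc_13_1 lc_e_rc_39_2 lc_e_rc_4_1 lc_e_rc_4_1 lc_e_rc_13_1 lc_e_rc_13_1 lc_e_rc_4_1 lc_e_rc_34_0 lc_e_rc_13_1 lc_e_Cert_tree lc_e_rc_34_0 lc_e_rc_28_3 lc_e_rc_35_2 lc_e_Cert_tree lc_e_rc_34_0 lc_e_rc_37_2 lc_e_rc_35_0 lc_e_rc_34_0 lc_e_rc_13_1 lc_e_rc_13_1 lc_e_rc_39_0 lc_e_rc_34_0 lc_e_rc_28_3 lc_e_rc_35_2 lc_e_rc_4_1 lc_e_rc_4_1 lc_e_rc_21_1 lc_e_Cert_tree lc_e_rc_28_3 lc_e_rc_34_0 lc_e_rc_28_3 lc_e_rc_4_1 lc_e_Cert_tree lc_e_rc_34_0 lc_e_rc_34_0 lc_e_rc_13_1 lc_e_rc_4_1 lc_e_rc_4_1 lc_e_rc_13_1 lc_e_rc_4_1 lc_e_rc_4_1 lc_e_rc_13_1 lc_e_rc_4_1 lc_e_rc_4_1 lc_e_rc_4_1 lc_e_Cert_tree lc_e_rc_13_1 lc_e_rc_39_2) (@D3.rec (fun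 _ => (Cert rels S Gen.e)) lc_e_rc_21_1 lc_e_rc_13_1 lc_e_rc_21_1 lc_e_rc_13_1 lc_e_rc_35_2 lc_e_rc_34_0 lc_e_rc_34_0 lc_e_rc_34_0 lc_e_rc_28_3 lc_e_rc_34_0 lc_e_rc_34_0 lc_e_rc_34_0 lc_e_rc_13_1 lc_e_Cert_tree lc_e_rc_34_0 lc_e_rc_34_0 lc_e_rc_13_1 lc_e_rc_34_0 lc_e_rc_13_1 lc_e_rc_21_3 lc_e_rc_34_0 lc_e_rc_13_1 lc_e_Cert_tree lc_e_rc_34_0 lc_e_rc_38_2 lc_e_rc_34_0 lc_e_rc_13_1 lc_e_rc_21_1 lc_e_rc_34_0 lc_e_rc_4_1 lc_e_rc_13_1 lc_e_rc_34_0 lc_e_rc_13_1 lc_e_rc_13_1 lc_e_rc_4_1 lc_e_rc_34_0 lc_e_rc_55_40 lc_e_rc_4_1 lc_e_rc_34_0 lc_e_rc_28_3 lc_e_rc_34_0 lc_e_rc_28_3 lc_e_Cert_tree lc_e_rc_34_0 lc_e_rc_35_2 lc_e_rc_38_2 lc_e_rc_34_0 lc_e_rc_13_1 lc_e_Cert_tree lc_e_rc_34_0 lc_e_rc_38_2)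 (@D3.rec (fun _ => (Cert rels S Gen.e)) lc_e_rc_34_0 lc_e_Cert_tree lc_e_rc_34_0 lc_e_rc_38_2 lc_e_rc_34_0 lc_e_rc_13_1 lc_e_rc_34_0 lc_e_rc_55_40 lc_e_rc_34_0 lc_e_rc_13_1 lc_e_rc_4_1 lc_e_rc_21_1 lc_e_rc_34_0 lc_e_rc_13_1 lc_e_rc_13_1 lc_e_rc_4_1 lc_e_rc_4_1 lc_e_rc_21_1 lc_e_rc_28_3 lc_e_rc_55_58 lc_e_rc_34_0 lc_e_Cert_tree lc_e_rc_34_0 lc_e_rc_38_2 lc_e_rc_34_0 lc_e_rc_55_58 lc_e_rc_34_0 lc_e_rc_13_1 lc_e_rc_21_1 lc_e_rc_4_1 lc_e_rc_13_1 lc_e_rc_4_1 lc_e_rc_34_0 lc_e_rc_34_0 lc_e_rc_55_40 lc_e_rc_34_0 lc_e_rc_34_0 lc_e_rc_55_49 lc_e_rc_34_0 lc_e_rc_13_1 lc_e_rc_4_1 lc_e_rc_21_1 lc_e_rc_4_1 lc_e_rc_34_0 lc_e_rc_4_1 lc_e_Cert_tree lc_e_rc_34_0 lc_e_rc_28_3 lc_e_rc_35_2 lc_e_rc_34_0 lc_e_rc_13_1)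 (@D3.rec (fun _ => (Cert rels S Gen.e)) lc_e_rc_13_1 lc_e_rc_4_1 lc_e_Cert_tree lc_e_rc_34_0 lc_e_rc_4_1 lc_e_rc_21_1 lc_e_rc_34_0 lc_e_rc_28_3 lc_e_rc_13_1 lc_e_rc_34_0 lc_e_rc_13_1 lc_e_rc_4_1 lc_e_rc_4_1 lc_e_rc_4_1 lc_e_rc_34_0 lc_e_rc_13_1 lc_e_rc_34_0 lc_e_rc_13_1 lc_e_rc_4_1 lc_e_rc_21_1 lc_e_rc_34_0 lc_e_rc_34_0 lc_e_rc_13_1 lc_e_rc_34_0 lc_e_rc_13_1 lc_e_rc_4_1 lc_e_rc_21_1 lc_e_rc_34_0 lc_e_rc_34_0 lc_e_rc_13_1 lc_e_rc_34_0 lc_e_rc_13_1 lc_e_rc_4_1 lc_e_rc_21_1 lc_e_rc_4_1 lc_e_rc_21_1 lc_e_rc_34_0 lc_e_rc_34_0 lc_e_rc_4_1 lc_e_rc_34_0 lc_e_rc_34_0 lc_e_rc_13_1 lc_e_rc_4_1 lc_e_rc_21_1 lc_e_rc_34_0 lc_e_rc_34_0 lc_e_rc_37_2 lc_e_rc_4_3 lc_e_rc_4_1 lc_e_rc_13_1 lc_e_rc_39_2) (@D3.rec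 (fun _ => (Cert rels S Gen.e)) lc_e_Cert_tree lc_e_rc_34_0 lc_e_rc_38_2 lc_e_rc_34_0 lc_e_rc_55_31 lc_e_rc_34_0 lc_e_rc_55_22 lc_e_rc_13_3 lc_e_rc_21_1 lc_e_rc_34_0 lc_e_rc_4_1 lc_e_rc_21_1 lc_e_rc_4_1 lc_e_rc_21_1 lc_e_rc_4_1 lc_e_rc_35_2 lc_e_rc_21_1 lc_e_rc_4_1 lc_e_rc_4_1 lc_e_rc_4_1 lc_e_rc_13_1 lc_e_rc_34_0 lc_e_rc_34_0 lc_e_rc_4_1 lc_e_rc_13_1 lc_e_rc_35_0 lc_e_rc_37_2 lc_e_rc_4_1 lc_e_rc_56_25 lc_e_Cert_tree lc_e_rc_34_0 lc_e_rc_37_2 lc_e_Cert_tree lc_e_rc_34_0 lc_e_rc_35_0 lc_e_rc_21_1 lc_e_rc_37_2 lc_e_rc_13_3 lc_e_Cert_tree lc_e_rc_34_0 lc_e_rc_28_3 lc_e_rc_36_2 lc_e_rc_37_2 lc_e_Cert_tree lc_e_rc_34_0 lc_e_rc_28_3 lc_e_rc_21_1 lc_e_rc_37_2 lc_e_rc_34_0 lc_e_rc_13_1 lc_e_rc_21_1)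 (@D3.rec (fun _ => (Cert rels S Gen.e)) lc_e_rc_34_0 lc_e_rc_13_1 lc_e_rc_35_2 lc_e_Cert_tree lc_e_rc_34_0 lc_e_rc_39_2 lc_e_rc_55_49 lc_e_rc_37_2 lc_e_rc_34_0 lc_e_rc_13_1 lc_e_rc_37_2 lc_e_Cert_tree lc_e_rc_34_0 lc_e_rc_21_1 lc_e_rc_36_2 lc_e_rc_34_0 lc_e_rc_13_1 lc_e_rc_21_1 lc_e_Cert_tree lc_e_rc_34_0 lc_e_rc_28_3 lc_e_rc_35_2 lc_e_rc_34_0 lc_e_rc_28_3 lc_e_rc_13_1 lc_e_Cert_tree lc_e_rc_4_1 lc_e_rc_4_1 lc_e_rc_13_1 lc_e_rc_35_2 lc_e_rc_35_2 lc_e_rc_34_0 lc_e_rc_13_1 lc_e_rc_13_1 lc_e_rc_21_1 lc_e_rc_4_1 lc_e_rc_13_1 lc_e_rc_34_0 lc_e_rc_4_3 lc_e_rc_13_1 lc_e_rc_4_1 lc_e_Cert_tree lc_e_rc_34_0 lc_e_rc_34_0 lc_e_Cert_tree lc_e_rc_34_0 lc_e_rc_28_3 lc_e_rc_21_1 lc_e_rc_34_0 lc_e_rc_55_40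 lc_e_rc_13_1) (@D3.rec (fun _ => (Cert rels S Gen.e)) lc_e_rc_38_0 lc_e_rc_35_2 lc_e_rc_34_0 lc_e_rc_13_1 lc_e_rc_39_2 lc_e_rc_4_1 lc_e_rc_13_1 lc_e_rc_4_1 lc_e_rc_4_1 lc_e_rc_13_1 lc_e_rc_39_2 lc_e_rc_4_1 lc_e_rc_4_1 lc_e_rc_13_1 lc_e_rc_4_1 lc_e_Cert_tree lc_e_rc_34_0 lc_e_rc_28_3 lc_e_rc_34_0 lc_e_rc_34_0 lc_e_rc_55_58 lc_e_rc_34_0 lc_e_rc_13_1 lc_e_rc_34_0 lc_e_rc_13_1 lc_e_rc_34_0 lc_e_rc_13_1 lc_e_rc_35_2 lc_e_rc_34_0 lc_e_Cert_tree lc_e_rc_34_0 lc_e_rc_38_2 lc_e_Cert_tree lc_e_rc_34_0 lc_e_rc_28_3 lc_e_rc_36_2 lc_e_rc_4_1 lc_e_Cert_tree lc_e_rc_34_0 lc_e_rc_28_3 lc_e_rc_21_1 lc_e_rc_37_2 lc_e_rc_34_0 lc_e_rc_13_1 lc_e_rc_21_1 lc_e_Cert_tree lc_e_rc_34_0 lc_e_rc_38_2 lc_e_rc_37_2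 lc_e_rc_34_0 lc_e_rc_13_1) (@D3.rec (fun _ => (Cert rels S Gen.e)) lc_e_rc_38_2 lc_e_Cert_tree lc_e_rc_34_0 lc_e_rc_34_0 lc_e_rc_28_3 lc_e_rc_13_1 lc_e_rc_35_2 lc_e_rc_34_0 lc_e_rc_28_3 lc_e_rc_13_1 lc_e_Cert_tree lc_e_rc_34_0 lc_e_rc_13_1 lc_e_rc_13_1 lc_e_rc_36_2 lc_e_rc_35_2 lc_e_rc_4_1 lc_e_rc_13_1 lc_e_rc_4_1 lc_e_rc_21_1 lc_e_rc_13_1 lc_e_rc_38_2 lc_e_Cert_tree lc_e_rc_34_0 lc_e_rc_28_3 lc_e_rc_21_1 lc_e_rc_34_0 lc_e_rc_13_1 lc_e_rc_35_2 lc_e_rc_34_0 lc_e_rc_34_0 lc_e_rc_28_3 lc_e_rc_4_1 lc_e_rc_34_0 lc_e_rc_13_1 lc_e_rc_4_1 lc_e_rc_13_1 lc_e_rc_34_0 lc_e_rc_13_1 lc_e_rc_34_0 lc_e_rc_13_1 lc_e_rc_4_1 lc_e_rc_34_0 lc_e_rc_21_1 lc_e_Cert_tree lc_e_rc_34_0 lc_e_rc_34_0 lc_e_rc_4_1 lc_e_rc_13_1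 lc_e_Cert_tree lc_e_rc_34_0) (@D3.rec (fun _ => (Cert rels S Gen.e)) lc_e_rc_28_3 lc_e_rc_34_0 lc_e_rc_13_1 lc_e_rc_13_1 lc_e_rc_38_2 lc_e_rc_35_2 lc_e_rc_4_1 lc_e_rc_21_1 lc_e_rc_13_1 lc_e_rc_39_2 lc_e_rc_34_0 lc_e_rc_4_1 lc_e_rc_13_1 lc_e_rc_34_0 lc_e_rc_4_1 lc_e_rc_4_1 lc_e_rc_34_0 lc_e_rc_39_0 lc_e_rc_4_1 lc_e_rc_34_0 lc_e_rc_34_0 lc_e_Cert_tree lc_e_rc_34_0 lc_e_rc_28_3 lc_e_rc_36_2 lc_e_Cert_tree lc_e_rc_34_0 lc_e_rc_28_3 lc_e_rc_21_1 lc_e_rc_34_0 lc_e_rc_13_1 lc_e_rc_34_0 lc_e_rc_13_1 lc_e_rc_34_0 lc_e_rc_34_0 lc_e_rc_28_3 lc_e_rc_13_1 lc_e_rc_37_2 lc_e_rc_4_1 lc_e_rc_34_0 lc_e_rc_21_1 lc_e_rc_4_1 lc_e_rc_34_0 lc_e_Cert_tree lc_e_rc_34_0 lc_e_rc_28_3 lc_e_rc_36_2 lc_e_rc_35_2 lc_e_Cert_tree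 lc_e_rc_34_0 lc_e_rc_28_3) (@D3.rec (fun _ => (Cert rels S Gen.e)) lc_e_rc_21_1 lc_e_rc_37_2 lc_e_rc_34_0 lc_e_rc_13_1 lc_e_rc_21_1 lc_e_rc_34_0 lc_e_rc_13_1 lc_e_rc_35_2 lc_e_rc_34_0 lc_e_rc_34_0 lc_e_rc_28_3 lc_e_rc_21_1 lc_e_Cert_tree lc_e_rc_4_1 lc_e_rc_4_1 lc_e_rc_13_1 lc_e_rc_36_2 lc_e_rc_4_1 lc_e_rc_4_1 lc_e_rc_4_1 lc_e_rc_4_1 lc_e_rc_13_1 lc_e_rc_39_2 lc_e_rc_4_1 lc_e_rc_13_1 lc_e_rc_35_2 lc_e_Cert_tree lc_e_rc_34_0 lc_e_rc_28_3 lc_e_rc_34_0 lc_e_rc_13_1 lc_e_rc_34_0 lc_e_rc_13_1 lc_e_rc_13_1 lc_e_rc_35_0 lc_e_rc_35_2 lc_e_rc_37_2 lc_e_rc_13_3 lc_e_rc_34_0 lc_e_rc_28_3 lc_e_rc_35_2 lc_e_Cert_tree lc_e_rc_21_1 lc_e_rc_34_0 lc_e_rc_13_1 lc_e_rc_13_1 lc_e_rc_21_1 lc_e_rc_35_2 lc_e_rc_21_1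 lc_e_rc_4_1 lc_e_rc_13_1) (@D3.rec (fun _ => (Cert rels S Gen.e)) lc_e_rc_4_3 lc_e_rc_4_1 lc_e_rc_21_1 lc_e_rc_13_1 lc_e_rc_4_3 lc_e_Cert_tree lc_e_rc_34_0 lc_e_rc_34_0 lc_e_rc_13_1 lc_e_rc_34_0 lc_e_rc_13_1 lc_e_rc_13_1 lc_e_rc_4_1 lc_e_rc_34_0 lc_e_rc_13_1 lc_e_rc_13_1 lc_e_Cert_tree lc_e_rc_4_1 lc_e_rc_13_3 lc_e_rc_21_1 lc_e_Cert_tree lc_e_rc_34_0 lc_e_rc_21_1 lc_e_rc_13_1 lc_e_Cert_tree lc_e_rc_34_0 lc_e_rc_34_0 lc_e_rc_28_3 lc_e_rc_34_0 lc_e_rc_34_0 lc_e_rc_13_1 lc_e_rc_13_1 lc_e_rc_34_0 lc_e_rc_13_1 lc_e_rc_4_1 lc_e_rc_4_1 lc_e_rc_34_0 lc_e_rc_28_3 lc_e_rc_13_1 lc_e_rc_36_2 lc_e_rc_35_2 lc_e_rc_4_1 lc_e_rc_4_1 lc_e_rc_21_1 lc_e_Cert_tree lc_e_rc_28_3 lc_e_rc_34_0 lc_e_rc_28_3 lc_e_rc_4_1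 lc_e_rc_4_1 lc_e_rc_4_3) (@D3.rec (fun _ => (Cert rels S Gen.e)) lc_e_rc_13_1 lc_e_Cert_tree lc_e_rc_4_1 lc_e_rc_34_0 lc_e_rc_37_2 lc_e_rc_37_2 lc_e_rc_4_1 lc_e_rc_13_1 lc_e_rc_4_1 lc_e_rc_34_0 lc_e_rc_13_1 lc_e_rc_4_1 lc_e_rc_4_1 lc_e_rc_21_1 lc_e_rc_34_0 lc_e_rc_35_2 lc_e_rc_4_1 lc_e_rc_21_1 lc_e_rc_4_1 lc_e_rc_35_2 lc_e_rc_21_1 lc_e_rc_34_0 lc_e_rc_38_2 lc_e_rc_39_0 lc_e_rc_34_0 lc_e_rc_13_1 lc_e_rc_13_1 lc_e_rc_4_1 lc_e_rc_35_2 lc_e_rc_21_1 lc_e_rc_4_1 lc_e_rc_13_1 lc_e_rc_4_1 lc_e_rc_21_1 lc_e_rc_13_1 lc_e_rc_34_0 lc_e_rc_13_1 lc_e_rc_34_0 lc_e_rc_13_1 lc_e_rc_13_1 lc_e_rc_21_1 lc_e_rc_4_1 lc_e_rc_13_1 lc_e_rc_4_1 lc_e_rc_34_0 lc_e_rc_13_1 lc_e_rc_4_1 lc_e_rc_21_1 lc_e_rc_34_0 lc_e_rc_13_1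 lc_e_rc_34_0) (@D3.rec (fun _ => (Cert rels S Gen.e)) lc_e_rc_13_1 lc_e_rc_4_1 lc_e_rc_4_1 lc_e_rc_21_3 lc_e_rc_34_0 lc_e_rc_13_1 lc_e_rc_35_2 lc_e_rc_28_3 lc_e_rc_21_1 lc_e_rc_13_1 lc_e_rc_4_1 lc_e_rc_4_1 lc_e_rc_34_0 lc_e_rc_13_1 lc_e_rc_34_0 lc_e_rc_37_2 lc_e_rc_55_49 lc_e_rc_4_1 lc_e_rc_21_1 lc_e_rc_13_1 lc_e_rc_39_2 lc_e_rc_34_0 lc_e_rc_13_1 lc_e_rc_36_2 lc_e_rc_35_2 lc_e_rc_4_1 lc_e_rc_34_0 lc_e_rc_13_1 lc_e_rc_13_1 lc_e_rc_4_1 lc_e_rc_4_1 lc_e_Cert_tree lc_e_rc_35_2 lc_e_rc_34_0 lc_e_rc_34_0 lc_e_rc_34_0 lc_e_rc_13_1 lc_e_rc_13_1 lc_e_rc_36_2 lc_e_rc_35_2 lc_e_rc_36_2 lc_e_rc_4_1 lc_e_rc_4_1 lc_e_rc_21_1 lc_e_rc_13_1 lc_e_rc_13_1 lc_e_rc_13_1 lc_e_rc_4_1 lc_e_rc_4_1 lc_e_rc_21_1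 lc_e_rc_13_1)
def ce_e_22 : D2 → D3 → (Cert rels S Gen.e) := @D2.rec (fun _ => D3 → (Cert rels S Gen.e)) (@D3.rec (fun _ => (Cert rels S Gen.e)) lc_e_rc_37_2 lc_e_rc_4_1 lc_e_rc_4_1 lc_e_rc_21_1 lc_e_rc_13_1 lc_e_rc_34_0 lc_e_rc_13_1 lc_e_rc_28_3 lc_e_rc_21_1 lc_e_rc_13_1 lc_e_rc_34_0 lc_e_rc_13_1 lc_e_rc_4_1 lc_e_rc_21_3 lc_e_rc_13_1 lc_e_rc_13_1 lc_e_rc_21_1 lc_e_rc_4_1 lc_e_rc_4_1 lc_e_rc_13_1 lc_e_rc_4_1 lc_e_rc_13_1 lc_e_rc_4_1 lc_e_rc_13_1 lc_e_rc_4_1 lc_e_rc_4_1 lc_e_rc_13_1 lc_e_rc_13_1 lc_e_rc_39_2 lc_e_rc_34_0 lc_e_rc_13_1 lc_e_rc_4_1 lc_e_rc_4_1 lc_e_rc_21_1 lc_e_rc_4_1 lc_e_rc_21_1 lc_e_rc_4_1 lc_e_rc_35_2 lc_e_rc_35_2 lc_e_rc_34_0 lc_e_rc_13_1 lc_e_rc_4_1 lc_e_rc_21_1 lc_e_rc_13_1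 lc_e_rc_38_2 lc_e_rc_34_0 lc_e_rc_13_1 lc_e_rc_4_1 lc_e_rc_34_1 lc_e_rc_13_1 lc_e_rc_13_1) (@D3.rec (fun _ => (Cert rels S Gen.e)) lc_e_rc_36_2 lc_e_rc_39_2 lc_e_rc_4_1 lc_e_rc_13_1 lc_e_rc_4_1 lc_e_rc_4_1 lc_e_rc_4_1 lc_e_rc_13_1 lc_e_rc_4_1 lc_e_rc_4_1 lc_e_rc_4_1 lc_e_rc_28_3 lc_e_rc_21_1 lc_e_rc_34_0 lc_e_rc_13_1 lc_e_rc_13_1 lc_e_rc_34_0 lc_e_rc_13_1 lc_e_rc_13_1 lc_e_rc_38_2 lc_e_rc_39_0 lc_e_rc_13_1 lc_e_rc_4_1 lc_e_rc_21_1 lc_e_rc_55_31 lc_e_rc_4_1 lc_e_rc_21_1 lc_e_rc_35_2 lc_e_rc_37_2 lc_e_rc_21_1 lc_e_Cert_tree lc_e_rc_4_1 lc_e_Cert_tree lc_e_rc_21_1 lc_e_rc_34_0 lc_e_rc_28_3 lc_e_rc_34_0 lc_e_rc_4_1 lc_e_rc_4_1 lc_e_rc_4_1 lc_e_rc_4_1 lc_e_Cert_tree lc_e_rc_34_0 lc_e_rc_13_1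 lc_e_rc_13_1 lc_e_rc_13_1 lc_e_rc_4_1 lc_e_rc_21_1 lc_e_rc_4_1 lc_e_rc_21_1 lc_e_rc_34_0) (@D3.rec (fun _ => (Cert rels S Gen.e)) lc_e_rc_28_3 lc_e_rc_36_4 lc_e_rc_21_1 lc_e_rc_13_1 lc_e_rc_21_3 lc_e_rc_4_1 lc_e_rc_34_0 lc_e_rc_55_40 lc_e_rc_4_1 lc_e_rc_13_1 lc_e_rc_4_1 lc_e_rc_4_1 lc_e_rc_4_1 lc_e_rc_28_3 lc_e_rc_21_1 lc_e_rc_4_1 lc_e_rc_4_1 lc_e_rc_21_1 lc_e_rc_34_0 lc_e_rc_13_1 lc_e_rc_13_1 lc_e_rc_28_3 lc_e_rc_34_0 lc_e_rc_13_1 lc_e_rc_34_0 lc_e_rc_13_1 lc_e_rc_13_1 lc_e_rc_21_1 lc_e_rc_28_3 lc_e_rc_21_1 lc_e_rc_4_1 lc_e_rc_21_1 lc_e_rc_21_1 lc_e_rc_4_1 lc_e_rc_4_1 lc_e_rc_21_1 lc_e_rc_4_1 lc_e_rc_35_2 lc_e_rc_21_1 lc_e_rc_28_3 lc_e_rc_34_0 lc_e_rc_13_1 lc_e_rc_13_3 lc_e_rc_21_1 lc_e_rc_4_1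 lc_e_rc_13_1 lc_e_rc_4_1 lc_e_rc_4_1 lc_e_rc_21_1 lc_e_rc_13_1 lc_e_rc_21_1) (@D3.rec (fun _ => (Cert rels S Gen.e)) lc_e_rc_4_1 lc_e_rc_21_1 lc_e_rc_21_1 lc_e_rc_34_0 lc_e_rc_13_1 lc_e_rc_13_1 lc_e_rc_28_3 lc_e_rc_4_1 lc_e_rc_21_1 lc_e_rc_34_0 lc_e_rc_13_1 lc_e_rc_13_1 lc_e_rc_4_1 lc_e_rc_4_1 lc_e_rc_21_1 lc_e_rc_4_1 lc_e_rc_4_1 lc_e_rc_21_1 lc_e_rc_28_3 lc_e_rc_21_1 lc_e_rc_21_1 lc_e_rc_4_1 lc_e_rc_21_1 lc_e_rc_13_3 lc_e_rc_21_1 lc_e_rc_4_1 lc_e_rc_28_3 lc_e_rc_21_1 lc_e_rc_28_3 lc_e_rc_21_1 lc_e_rc_21_1 lc_e_rc_21_1 lc_e_rc_4_1 lc_e_rc_21_1 lc_e_rc_4_1 lc_e_rc_4_1 lc_e_rc_21_1 lc_e_rc_13_1 lc_e_rc_35_2 lc_e_rc_4_1 lc_e_rc_13_1 lc_e_rc_34_0 lc_e_rc_13_1 lc_e_rc_13_3 lc_e_rc_21_1 lc_e_rc_28_3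 lc_e_rc_21_1 lc_e_rc_13_3 lc_e_rc_4_1 lc_e_rc_34_1 lc_e_rc_13_1) (@D3.rec (fun _ => (Cert rels S Gen.e)) lc_e_rc_35_2 lc_e_rc_28_3 lc_e_rc_4_1 lc_e_rc_4_1 lc_e_rc_13_1 lc_e_rc_13_1 lc_e_rc_34_0 lc_e_rc_13_1 lc_e_rc_39_2 lc_e_rc_34_0 lc_e_rc_37_2 lc_e_rc_35_0 lc_e_rc_36_2 lc_e_rc_21_1 lc_e_rc_34_0 lc_e_rc_28_3 lc_e_rc_13_1 lc_e_Cert_tree lc_e_rc_37_2 lc_e_rc_34_0 lc_e_rc_13_1 lc_e_rc_13_1 lc_e_rc_36_2 lc_e_rc_35_2 lc_e_rc_21_1 lc_e_rc_4_1 lc_e_rc_13_1 lc_e_rc_4_1 lc_e_rc_21_1 lc_e_rc_13_1 lc_e_rc_37_2 lc_e_rc_34_0 lc_e_rc_13_1 lc_e_rc_13_1 lc_e_rc_4_1 lc_e_rc_4_1 lc_e_rc_13_1 lc_e_rc_34_0 lc_e_rc_13_1 lc_e_rc_13_1 lc_e_rc_35_2 lc_e_rc_4_1 lc_e_rc_13_1 lc_e_rc_34_0 lc_e_rc_13_1 lc_e_rc_13_1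 lc_e_Cert_tree lc_e_rc_4_1 lc_e_rc_4_1 lc_e_rc_21_1 lc_e_Cert_tree) (@D3.rec (fun _ => (Cert rels S Gen.e)) lc_e_rc_34_0 lc_e_rc_4_1 lc_e_rc_13_1 lc_e_rc_4_1 lc_e_rc_4_1 lc_e_rc_13_1 lc_e_rc_4_1 lc_e_rc_37_2 lc_e_rc_13_3 lc_e_rc_34_0 lc_e_rc_34_0 lc_e_rc_13_1 lc_e_rc_13_1 lc_e_rc_39_2 lc_e_rc_35_2 lc_e_rc_28_3 lc_e_rc_4_1 lc_e_rc_21_1 lc_e_rc_13_1 lc_e_rc_55_31 lc_e_rc_39_2 lc_e_rc_4_1 lc_e_rc_13_1 lc_e_rc_4_1 lc_e_rc_4_1 lc_e_rc_13_1 lc_e_rc_4_1 lc_e_rc_34_0 lc_e_rc_13_1 lc_e_rc_28_3 lc_e_rc_21_1 lc_e_rc_4_1 lc_e_rc_21_1 lc_e_rc_4_1 lc_e_rc_21_1 lc_e_rc_28_3 lc_e_rc_21_1 lc_e_rc_13_1 lc_e_rc_39_2 lc_e_rc_34_0 lc_e_rc_13_1 lc_e_rc_34_0 lc_e_rc_28_3 lc_e_rc_39_0 lc_e_rc_36_2 lc_e_rc_39_0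 lc_e_rc_34_0 lc_e_rc_13_1 lc_e_rc_13_1 lc_e_rc_38_2 lc_e_rc_21_1) (@D3.rec (fun _ => (Cert rels S Gen.e)) lc_e_rc_4_1 lc_e_rc_13_1 lc_e_rc_34_0 lc_e_rc_13_1 lc_e_rc_13_1 lc_e_rc_39_2 lc_e_rc_4_1 lc_e_rc_21_1 lc_e_rc_55_58 lc_e_rc_34_0 lc_e_rc_4_1 lc_e_rc_4_1 lc_e_rc_35_2 lc_e_rc_4_1 lc_e_rc_4_1 lc_e_rc_21_1 lc_e_Cert_tree lc_e_rc_34_0 lc_e_rc_4_1 lc_e_rc_4_1 lc_e_rc_21_1 lc_e_rc_13_1 lc_e_rc_13_1 lc_e_rc_35_2 lc_e_rc_4_1 lc_e_rc_4_1 lc_e_rc_4_1 lc_e_rc_21_1 lc_e_rc_13_1 lc_e_rc_34_0 lc_e_rc_13_1 lc_e_rc_13_1 lc_e_rc_38_2 lc_e_rc_35_2 lc_e_rc_28_3 lc_e_rc_21_1 lc_e_rc_13_1 lc_e_rc_39_2 lc_e_rc_4_1 lc_e_rc_21_1 lc_e_rc_4_1 lc_e_rc_13_1 lc_e_rc_28_3 lc_e_rc_21_1 lc_e_rc_4_1 lc_e_rc_21_1 lc_e_rc_21_1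 lc_e_Cert_tree lc_e_Cert_tree lc_e_rc_34_0 lc_e_rc_35_2) (@D3.rec (fun _ => (Cert rels S Gen.e)) lc_e_rc_34_0 lc_e_rc_13_1 lc_e_rc_28_3 lc_e_rc_4_1 lc_e_rc_21_1 lc_e_rc_13_1 lc_e_rc_13_1 lc_e_rc_34_1 lc_e_rc_4_1 lc_e_rc_21_1 lc_e_rc_13_1 lc_e_rc_34_0 lc_e_rc_28_3 lc_e_rc_13_1 lc_e_rc_34_0 lc_e_rc_13_1 lc_e_rc_13_1 lc_e_rc_4_1 lc_e_rc_4_1 lc_e_rc_21_1 lc_e_rc_4_1 lc_e_rc_4_1 lc_e_rc_21_1 lc_e_rc_55_22 lc_e_rc_34_0 lc_e_rc_28_3 lc_e_rc_13_1 lc_e_rc_35_2 lc_e_rc_34_0 lc_e_rc_13_1 lc_e_rc_13_1 lc_e_rc_4_1 lc_e_rc_35_2 lc_e_rc_21_1 lc_e_rc_4_1 lc_e_rc_13_1 lc_e_rc_4_1 lc_e_rc_21_1 lc_e_rc_13_1 lc_e_rc_4_1 lc_e_rc_4_1 lc_e_rc_21_1 lc_e_Cert_tree lc_e_rc_34_0 lc_e_rc_21_1 lc_e_rc_13_1 lc_e_rc_4_1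 lc_e_rc_13_1 lc_e_rc_4_1 lc_e_rc_34_0 lc_e_rc_13_1) (@D3.rec (fun _ => (Cert rels S Gen.e)) lc_e_rc_4_1 lc_e_rc_21_1 lc_e_rc_4_1 lc_e_rc_4_1 lc_e_rc_35_0 lc_e_rc_13_1 lc_e_rc_13_1 lc_e_rc_4_1 lc_e_rc_4_1 lc_e_rc_21_1 lc_e_Cert_tree lc_e_rc_35_2 lc_e_rc_34_0 lc_e_rc_37_2 lc_e_rc_4_1 lc_e_rc_4_1 lc_e_rc_21_1 lc_e_rc_13_1 lc_e_rc_13_1 lc_e_rc_13_1 lc_e_rc_4_1 lc_e_rc_37_2 lc_e_rc_4_1 lc_e_rc_13_1 lc_e_rc_4_1 lc_e_rc_4_1 lc_e_rc_21_1 lc_e_rc_13_1 lc_e_rc_34_0 lc_e_rc_35_2 lc_e_rc_21_1 lc_e_rc_4_1 lc_e_rc_4_1 lc_e_rc_21_1 lc_e_rc_4_1 lc_e_rc_35_2 lc_e_rc_21_1 lc_e_Cert_tree lc_e_rc_34_0 lc_e_rc_21_1 lc_e_Cert_tree lc_e_Cert_tree lc_e_rc_34_0 lc_e_rc_21_1 lc_e_rc_34_0 lc_e_rc_4_1 lc_e_rc_21_1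 lc_e_rc_28_3 lc_e_rc_4_1 lc_e_rc_21_1 lc_e_rc_4_1) (@D3.rec (fun _ => (Cert rels S Gen.e)) lc_e_rc_4_1 lc_e_rc_4_1 lc_e_rc_21_1 lc_e_rc_39_2 lc_e_rc_35_2 lc_e_rc_35_2 lc_e_rc_21_1 lc_e_Cert_tree lc_e_rc_4_1 lc_e_Cert_tree lc_e_rc_21_1 lc_e_rc_34_0 lc_e_rc_28_3 lc_e_rc_39_2 lc_e_rc_21_3 lc_e_rc_34_0 lc_e_rc_37_2 lc_e_rc_37_2 lc_e_rc_4_1 lc_e_rc_28_3 lc_e_rc_21_1 lc_e_rc_4_1 lc_e_rc_35_2 lc_e_rc_35_2 lc_e_rc_34_1 lc_e_rc_35_2 lc_e_rc_38_2 lc_e_rc_21_1 lc_e_rc_13_1 lc_e_rc_4_1 lc_e_rc_4_1 lc_e_rc_21_1 lc_e_rc_28_3 lc_e_rc_13_1 lc_e_rc_13_1 lc_e_rc_4_1 lc_e_rc_4_1 lc_e_rc_4_1 lc_e_rc_21_1 lc_e_rc_28_3 lc_e_rc_21_1 lc_e_rc_4_1 lc_e_rc_35_0 lc_e_rc_13_1 lc_e_rc_4_1 lc_e_rc_4_1 lc_e_rc_21_1 lc_e_rc_4_1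 lc_e_rc_35_0 lc_e_rc_21_1 lc_e_rc_4_1) (@D3.rec (fun _ => (Cert rels S Gen.e)) lc_e_rc_28_3 lc_e_rc_21_1 lc_e_rc_13_1 lc_e_rc_28_5 lc_e_rc_35_2 lc_e_rc_21_1 lc_e_rc_4_1 lc_e_rc_21_1 lc_e_rc_37_2 lc_e_rc_21_1 lc_e_rc_13_1 lc_e_rc_4_1 lc_e_rc_28_3 lc_e_rc_21_1 lc_e_rc_13_1 lc_e_rc_13_1 lc_e_rc_13_3 lc_e_rc_35_2 lc_e_rc_13_1 lc_e_rc_4_1 lc_e_rc_4_1 lc_e_rc_21_1 lc_e_Cert_tree lc_e_rc_4_1 lc_e_rc_34_0 lc_e_rc_4_1 lc_e_rc_28_1 lc_e_rc_21_1 lc_e_rc_13_1 lc_e_rc_13_1 lc_e_rc_55_40 lc_e_rc_4_1 lc_e_rc_35_2 lc_e_rc_4_1 lc_e_rc_4_1 lc_e_rc_34_0 lc_e_rc_21_1 lc_e_rc_4_1 lc_e_rc_4_1 lc_e_rc_21_1 lc_e_rc_37_2 lc_e_rc_13_1 lc_e_rc_4_1 lc_e_rc_4_1 lc_e_rc_21_1 lc_e_rc_21_1 lc_e_rc_4_1 lc_e_rc_21_1 lc_e_rc_37_0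 lc_e_rc_28_3 lc_e_rc_21_1) (@D3.rec (fun _ => (Cert rels S Gen.e)) lc_e_rc_4_1 lc_e_rc_4_1 lc_e_rc_4_1 lc_e_rc_13_1 lc_e_rc_4_1 lc_e_rc_4_1 lc_e_rc_28_5 lc_e_rc_13_1 lc_e_rc_4_1 lc_e_rc_13_1 lc_e_rc_4_1 lc_e_rc_21_1 lc_e_rc_4_1 lc_e_rc_4_1 lc_e_rc_13_1 lc_e_rc_39_2 lc_e_rc_4_1 lc_e_rc_28_1 lc_e_rc_21_1 lc_e_rc_28_3 lc_e_rc_21_1 lc_e_rc_13_1 lc_e_rc_13_1 lc_e_rc_4_1 lc_e_rc_4_1 lc_e_rc_13_1 lc_e_rc_13_1 lc_e_rc_4_1 lc_e_rc_4_1 lc_e_rc_4_1 lc_e_rc_4_1 lc_e_rc_36_2 lc_e_rc_36_0 lc_e_rc_28_1 lc_e_rc_21_1 lc_e_rc_28_3 lc_e_rc_4_1 lc_e_rc_21_1 lc_e_rc_55_22 lc_e_rc_13_1 lc_e_rc_34_1 lc_e_rc_28_3 lc_e_rc_21_1 lc_e_rc_21_1 lc_e_rc_4_1 lc_e_rc_21_1 lc_e_rc_21_3 lc_e_rc_13_1 lc_e_Cert_tree lc_e_rc_21_1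 lc_e_rc_34_0) (@D3.rec (fun _ => (Cert rels S Gen.e)) lc_e_rc_4_1 lc_e_rc_34_0 lc_e_rc_21_1 lc_e_rc_4_1 lc_e_rc_34_0 lc_e_rc_21_1 lc_e_rc_4_1 lc_e_rc_28_5 lc_e_rc_36_2 lc_e_rc_28_3 lc_e_rc_13_1 lc_e_rc_13_1 lc_e_rc_21_1 lc_e_rc_4_1 lc_e_rc_21_1 lc_e_rc_21_1 lc_e_rc_4_1 lc_e_rc_35_2 lc_e_rc_21_1 lc_e_rc_35_2 lc_e_rc_21_1 lc_e_rc_4_1 lc_e_rc_21_1 lc_e_rc_13_3 lc_e_rc_21_1 lc_e_rc_4_1 lc_e_rc_13_1 lc_e_rc_4_1 lc_e_rc_13_1 lc_e_rc_35_2 lc_e_rc_39_2 lc_e_rc_21_1 lc_e_rc_28_3 lc_e_rc_21_1 lc_e_rc_21_1 lc_e_rc_4_1 lc_e_rc_21_1 lc_e_rc_21_1 lc_e_rc_4_1 lc_e_rc_13_1 lc_e_rc_28_3 lc_e_rc_4_1 lc_e_rc_21_1 lc_e_rc_35_2 lc_e_rc_28_3 lc_e_rc_4_1 lc_e_rc_21_1 lc_e_rc_21_1 lc_e_rc_21_1 lc_e_rc_39_2 lc_e_rc_13_1)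 (@D3.rec (fun _ => (Cert rels S Gen.e)) lc_e_rc_4_1 lc_e_rc_28_3 lc_e_rc_13_1 lc_e_rc_35_0 lc_e_rc_36_2 lc_e_rc_13_1 lc_e_rc_21_3 lc_e_rc_4_1 lc_e_rc_13_1 lc_e_rc_21_1 lc_e_rc_35_2 lc_e_rc_21_1 lc_e_rc_28_3 lc_e_rc_4_1 lc_e_rc_13_1 lc_e_rc_21_1 lc_e_rc_21_1 lc_e_rc_21_1 lc_e_rc_4_3 lc_e_rc_13_1 lc_e_rc_37_2 lc_e_rc_35_2 lc_e_rc_38_2 lc_e_rc_4_1 lc_e_rc_28_3 lc_e_rc_21_1 lc_e_rc_13_1 lc_e_rc_37_2 lc_e_rc_4_1 lc_e_rc_13_1 lc_e_rc_35_0 lc_e_rc_4_1 lc_e_rc_4_1 lc_e_rc_21_1 lc_e_Cert_tree lc_e_rc_13_1 lc_e_rc_34_0 lc_e_rc_39_2 lc_e_rc_4_1 lc_e_rc_4_1 lc_e_rc_21_1 lc_e_rc_13_1 lc_e_rc_13_1 lc_e_rc_13_1 lc_e_rc_37_2 lc_e_rc_35_2 lc_e_rc_4_1 lc_e_rc_4_1 lc_e_rc_4_1 lc_e_rc_21_1 lc_e_rc_13_1) (@D3.rec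 (fun _ => (Cert rels S Gen.e)) lc_e_rc_13_3 lc_e_rc_4_1 lc_e_rc_21_1 lc_e_rc_37_2 lc_e_rc_13_1 lc_e_rc_4_1 lc_e_rc_36_2 lc_e_rc_35_2 lc_e_rc_4_1 lc_e_rc_4_1 lc_e_rc_4_1 lc_e_rc_21_1 lc_e_Cert_tree lc_e_rc_34_0 lc_e_rc_21_1 lc_e_Cert_tree lc_e_Cert_tree lc_e_rc_34_0 lc_e_rc_4_1 lc_e_rc_4_1 lc_e_rc_28_3 lc_e_rc_4_1 lc_e_rc_21_1 lc_e_rc_13_1 lc_e_rc_13_1 lc_e_rc_39_0 lc_e_rc_21_1 lc_e_rc_13_3 lc_e_rc_28_3 lc_e_rc_21_1 lc_e_rc_21_1 lc_e_rc_13_1 lc_e_rc_4_1 lc_e_rc_4_1 lc_e_rc_28_3 lc_e_rc_21_1 lc_e_rc_21_1 lc_e_rc_4_1 lc_e_rc_4_1 lc_e_rc_21_1 lc_e_rc_28_3 lc_e_rc_21_1 lc_e_rc_13_1 lc_e_rc_35_2 lc_e_rc_4_1 lc_e_rc_39_0 lc_e_rc_21_1 lc_e_rc_56_32 lc_e_rc_13_1 lc_e_rc_4_1 lc_e_rc_4_1) (@D3.rec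 (fun _ => (Cert rels S Gen.e)) lc_e_rc_21_1 lc_e_rc_13_1 lc_e_rc_13_1 lc_e_rc_4_1 lc_e_rc_35_0 lc_e_rc_21_1 lc_e_rc_21_1 lc_e_rc_13_1 lc_e_rc_4_1 lc_e_rc_28_3 lc_e_rc_21_1 lc_e_rc_4_1 lc_e_rc_21_1 lc_e_Cert_tree lc_e_Cert_tree lc_e_rc_34_0 lc_e_rc_4_1 lc_e_rc_4_1 lc_e_rc_4_1 lc_e_rc_21_1 lc_e_rc_21_1 lc_e_rc_35_2 lc_e_rc_13_1 lc_e_rc_4_1 lc_e_rc_35_0 lc_e_rc_21_1 lc_e_rc_28_3 lc_e_rc_4_1 lc_e_rc_21_1 lc_e_rc_13_1 lc_e_rc_13_1 lc_e_rc_37_0 lc_e_rc_35_2 lc_e_rc_21_1 lc_e_rc_13_1 lc_e_rc_21_1 lc_e_rc_37_0 lc_e_rc_4_1 lc_e_rc_13_1 lc_e_Cert_tree lc_e_rc_34_0 lc_e_rc_34_0 lc_e_rc_38_2 lc_e_rc_21_1 lc_e_rc_28_1 lc_e_rc_13_3 lc_e_rc_35_2 lc_e_rc_21_1 lc_e_rc_21_1 lc_e_rc_38_2 lc_e_rc_34_1) (@D3.rec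 (fun _ => (Cert rels S Gen.e)) lc_e_rc_39_2 lc_e_Cert_tree lc_e_rc_21_1 lc_e_rc_4_1 lc_e_rc_4_1 lc_e_rc_21_1 lc_e_rc_4_1 lc_e_rc_4_1 lc_e_rc_21_1 lc_e_rc_4_1 lc_e_rc_21_1 lc_e_rc_28_3 lc_e_rc_4_1 lc_e_rc_34_0 lc_e_rc_21_1 lc_e_rc_35_2 lc_e_rc_4_1 lc_e_rc_4_1 lc_e_rc_21_1 lc_e_rc_28_3 lc_e_rc_13_1 lc_e_rc_13_1 lc_e_rc_4_1 lc_e_rc_4_1 lc_e_rc_4_1 lc_e_rc_21_1 lc_e_Cert_tree lc_e_Cert_tree lc_e_rc_34_0 lc_e_rc_36_2 lc_e_rc_4_1 lc_e_rc_4_1 lc_e_rc_21_1 lc_e_rc_4_1 lc_e_rc_35_0 lc_e_rc_4_1 lc_e_rc_4_1 lc_e_rc_21_1 lc_e_Cert_tree lc_e_rc_4_1 lc_e_Cert_tree lc_e_rc_34_0 lc_e_rc_21_3 lc_e_rc_4_1 lc_e_rc_39_2 lc_e_rc_4_1 lc_e_rc_4_1 lc_e_rc_34_0 lc_e_rc_21_1 lc_e_rc_13_1 lc_e_rc_37_2) (@D3.rec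 (fun _ => (Cert rels S Gen.e)) lc_e_rc_38_2 lc_e_rc_13_1 lc_e_rc_4_1 lc_e_rc_13_3 lc_e_rc_21_1 lc_e_rc_38_2 lc_e_rc_4_1 lc_e_rc_34_1 lc_e_Cert_tree lc_e_Cert_tree lc_e_rc_34_0 lc_e_rc_13_1 lc_e_Cert_tree lc_e_rc_34_0 lc_e_rc_34_0 lc_e_rc_21_1 lc_e_rc_35_2 lc_e_rc_21_1 lc_e_rc_39_2 lc_e_rc_4_1 lc_e_rc_21_1 lc_e_rc_21_1 lc_e_rc_28_3 lc_e_rc_13_1 lc_e_Cert_tree lc_e_rc_21_1 lc_e_rc_34_0 lc_e_rc_4_1 lc_e_rc_34_0 lc_e_rc_21_1 lc_e_rc_37_2 lc_e_rc_35_2 lc_e_rc_13_1 lc_e_rc_56_39 lc_e_rc_56_39 lc_e_rc_35_2 lc_e_rc_21_1 lc_e_rc_4_1 lc_e_rc_21_1 lc_e_rc_4_1 lc_e_rc_36_2 lc_e_rc_4_1 lc_e_rc_4_1 lc_e_rc_21_1 lc_e_rc_21_1 lc_e_rc_13_1 lc_e_rc_4_1 lc_e_rc_36_2 lc_e_rc_4_1 lc_e_rc_4_1 lc_e_rc_13_1)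 (@D3.rec (fun _ => (Cert rels S Gen.e)) lc_e_rc_38_2 lc_e_rc_34_1 lc_e_rc_35_2 lc_e_rc_21_1 lc_e_rc_55_67 lc_e_rc_35_2 lc_e_rc_4_1 lc_e_rc_21_1 lc_e_rc_35_2 lc_e_rc_21_1 lc_e_rc_13_1 lc_e_rc_21_1 lc_e_rc_28_3 lc_e_rc_21_1 lc_e_rc_35_2 lc_e_rc_4_1 lc_e_rc_4_1 lc_e_rc_34_0 lc_e_rc_4_1 lc_e_rc_4_1 lc_e_rc_4_1 lc_e_rc_34_0 lc_e_rc_21_1 lc_e_rc_21_1 lc_e_rc_13_1 lc_e_rc_35_2 lc_e_rc_4_1 lc_e_rc_13_1 lc_e_rc_4_1 lc_e_rc_4_1 lc_e_rc_37_2 lc_e_rc_13_1 lc_e_rc_28_1 lc_e_rc_4_1 lc_e_rc_21_1 lc_e_rc_34_0 lc_e_rc_4_3 lc_e_rc_39_2 lc_e_rc_4_1 lc_e_rc_39_2 lc_e_rc_4_1 lc_e_rc_13_1 lc_e_rc_13_1 lc_e_rc_13_1 lc_e_rc_4_1 lc_e_rc_13_1 lc_e_rc_21_1 lc_e_rc_28_3 lc_e_rc_21_1 lc_e_rc_35_2 lc_e_rc_4_1) (@D3.rec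 (fun _ => (Cert rels S Gen.e)) lc_e_rc_36_2 lc_e_rc_34_0 lc_e_rc_35_0 lc_e_rc_28_3 lc_e_rc_35_2 lc_e_rc_21_1 lc_e_rc_21_1 lc_e_rc_37_2 lc_e_rc_21_1 lc_e_rc_13_1 lc_e_rc_21_1 lc_e_rc_21_3 lc_e_rc_39_2 lc_e_Cert_tree lc_e_rc_13_1 lc_e_rc_34_0 lc_e_rc_21_1 lc_e_rc_13_1 lc_e_rc_13_1 lc_e_rc_38_2 lc_e_rc_35_2 lc_e_rc_39_2 lc_e_rc_28_3 lc_e_rc_21_1 lc_e_rc_37_2 lc_e_rc_13_1 lc_e_rc_21_1 lc_e_rc_28_3 lc_e_rc_34_0 lc_e_rc_56_46 lc_e_rc_13_1 lc_e_rc_13_1 lc_e_rc_13_1 lc_e_rc_35_2 lc_e_rc_39_2 lc_e_rc_38_2 lc_e_rc_13_1 lc_e_rc_56_39 lc_e_rc_21_1 lc_e_rc_13_1 lc_e_rc_35_0 lc_e_rc_13_1 lc_e_rc_21_1 lc_e_rc_13_1 lc_e_rc_56_46 lc_e_rc_13_1 lc_e_rc_13_1 lc_e_rc_28_3 lc_e_rc_13_1 lc_e_rc_13_1 lc_e_rc_13_1)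 (@D3.rec (fun _ => (Cert rels S Gen.e)) lc_e_rc_13_1 lc_e_rc_35_2 lc_e_rc_35_2 lc_e_rc_28_3 lc_e_rc_21_1 lc_e_rc_37_2 lc_e_rc_35_2 lc_e_rc_13_1 lc_e_rc_35_0 lc_e_rc_35_2 lc_e_rc_21_1 lc_e_rc_35_2 lc_e_rc_4_1 lc_e_rc_21_1 lc_e_Cert_tree lc_e_rc_4_1 lc_e_Cert_tree lc_e_rc_34_0 lc_e_rc_13_1 lc_e_rc_4_1 lc_e_rc_4_1 lc_e_rc_4_1 lc_e_rc_4_1 lc_e_rc_21_1 lc_e_rc_21_1 lc_e_rc_13_1 lc_e_rc_35_2 lc_e_rc_13_1 lc_e_rc_4_1 lc_e_rc_4_1 lc_e_rc_21_1 lc_e_rc_21_1 lc_e_rc_21_1 lc_e_rc_35_2 lc_e_rc_4_1 lc_e_Cert_tree lc_e_Cert_tree lc_e_rc_34_0 lc_e_rc_13_1 lc_e_Cert_tree lc_e_rc_34_0 lc_e_rc_34_0 lc_e_rc_37_0 lc_e_rc_13_3 lc_e_rc_35_2 lc_e_rc_21_1 lc_e_rc_21_1 lc_e_rc_13_1 lc_e_rc_38_0 lc_e_rc_34_0 lc_e_rc_21_1)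 (@D3.rec (fun _ => (Cert rels S Gen.e)) lc_e_rc_39_2 lc_e_rc_21_1 lc_e_rc_35_2 lc_e_rc_4_1 lc_e_rc_13_1 lc_e_rc_13_1 lc_e_rc_37_2 lc_e_rc_21_1 lc_e_rc_39_2 lc_e_rc_21_1 lc_e_rc_21_1 lc_e_rc_39_0 lc_e_rc_38_2 lc_e_rc_21_1 lc_e_rc_4_1 lc_e_rc_4_1 lc_e_rc_4_1 lc_e_rc_21_1 lc_e_rc_28_1 lc_e_rc_13_3 lc_e_rc_21_1 lc_e_rc_13_1 lc_e_rc_21_1 lc_e_rc_13_1 lc_e_Cert_tree lc_e_rc_34_0 lc_e_rc_34_0 lc_e_rc_13_1 lc_e_rc_4_1 lc_e_rc_4_1 lc_e_rc_4_1 lc_e_rc_35_2 lc_e_rc_13_1 lc_e_rc_38_2 lc_e_rc_28_1 lc_e_rc_13_1 lc_e_rc_35_2 lc_e_rc_21_1 lc_e_rc_21_1 lc_e_rc_39_2 lc_e_rc_37_0 lc_e_rc_39_2 lc_e_rc_21_1 lc_e_rc_13_1 lc_e_rc_55_67 lc_e_rc_13_1 lc_e_Cert_tree lc_e_rc_34_0 lc_e_rc_35_2 lc_e_rc_4_1 lc_e_rc_34_0)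 (@D3.rec (fun _ => (Cert rels S Gen.e)) lc_e_rc_35_2 lc_e_rc_13_1 lc_e_Cert_tree lc_e_rc_39_2 lc_e_rc_34_0 lc_e_rc_21_1 lc_e_rc_4_1 lc_e_rc_13_1 lc_e_rc_13_1 lc_e_rc_21_1 lc_e_rc_35_2 lc_e_rc_4_1 lc_e_rc_39_2 lc_e_rc_4_1 lc_e_rc_4_1 lc_e_rc_21_1 lc_e_rc_13_1 lc_e_rc_13_1 lc_e_Cert_tree lc_e_rc_34_0 lc_e_rc_34_0 lc_e_rc_4_1 lc_e_rc_13_1 lc_e_rc_13_1 lc_e_Cert_tree lc_e_rc_34_0 lc_e_rc_21_3 lc_e_rc_34_0 lc_e_rc_39_2 lc_e_rc_13_1 lc_e_rc_39_2 lc_e_rc_4_1 lc_e_rc_13_1 lc_e_rc_4_1 lc_e_rc_21_1 lc_e_rc_37_2 lc_e_rc_13_1 lc_e_rc_21_1 lc_e_rc_13_1 lc_e_rc_13_1 lc_e_rc_4_3 lc_e_Cert_tree lc_e_rc_34_0 lc_e_rc_34_0 lc_e_Cert_tree lc_e_rc_34_0 lc_e_rc_13_1 lc_e_rc_13_1 lc_e_rc_13_1 lc_e_rc_21_1 lc_e_rc_21_1)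 (@D3.rec (fun _ => (Cert rels S Gen.e)) lc_e_rc_35_2 lc_e_rc_28_1 lc_e_Cert_tree lc_e_rc_13_1 lc_e_rc_34_0 lc_e_rc_21_1 lc_e_rc_13_1 lc_e_rc_13_1 lc_e_rc_56_39 lc_e_rc_28_1 lc_e_rc_13_1 lc_e_rc_35_2 lc_e_rc_4_1 lc_e_rc_13_1 lc_e_rc_36_2 lc_e_rc_13_1 lc_e_rc_13_1 lc_e_rc_13_1 lc_e_rc_35_2 lc_e_rc_13_1 lc_e_rc_13_1 lc_e_rc_13_1 lc_e_rc_35_2 lc_e_rc_38_2 lc_e_rc_21_1 lc_e_rc_13_1 lc_e_rc_13_1 lc_e_rc_4_1 lc_e_rc_4_1 lc_e_rc_35_2 lc_e_rc_13_1 lc_e_rc_13_1 lc_e_rc_4_1 lc_e_rc_13_1 lc_e_rc_13_1 lc_e_rc_39_2 lc_e_rc_13_1 lc_e_rc_13_1 lc_e_rc_13_1 lc_e_rc_13_1 lc_e_rc_13_1 lc_e_rc_21_1 lc_e_rc_38_2 lc_e_rc_56_32 lc_e_rc_21_1 lc_e_rc_28_3 lc_e_rc_37_2 lc_e_rc_13_1 lc_e_rc_4_1 lc_e_rc_34_0 lc_e_rc_13_1)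 (@D3.rec (fun _ => (Cert rels S Gen.e)) lc_e_rc_13_1 lc_e_rc_39_2 lc_e_rc_4_1 lc_e_rc_37_2 lc_e_rc_13_1 lc_e_rc_39_2 lc_e_rc_39_2 lc_e_rc_13_1 lc_e_rc_35_0 lc_e_rc_28_1 lc_e_rc_13_1 lc_e_rc_35_2 lc_e_rc_36_0 lc_e_rc_4_1 lc_e_rc_28_3 lc_e_rc_13_1 lc_e_Cert_tree lc_e_rc_34_0 lc_e_rc_39_2 lc_e_rc_34_0 lc_e_rc_21_1 lc_e_rc_13_1 lc_e_rc_4_1 lc_e_rc_4_1 lc_e_rc_4_1 lc_e_rc_4_1 lc_e_rc_21_1 lc_e_rc_35_2 lc_e_rc_13_1 lc_e_rc_4_1 lc_e_rc_35_2 lc_e_rc_13_1 lc_e_Cert_tree lc_e_rc_34_0 lc_e_rc_34_0 lc_e_Cert_tree lc_e_rc_34_0 lc_e_rc_39_2 lc_e_rc_34_0 lc_e_rc_37_0 lc_e_rc_34_0 lc_e_rc_21_1 lc_e_rc_38_0 lc_e_rc_13_1 lc_e_rc_39_2 lc_e_rc_35_2 lc_e_rc_13_1 lc_e_rc_39_2 lc_e_rc_13_1 lc_e_rc_21_1 lc_e_rc_13_1)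 (@D3.rec (fun _ => (Cert rels S Gen.e)) lc_e_rc_34_0 lc_e_rc_13_1 lc_e_rc_28_3 lc_e_rc_56_32 lc_e_Cert_tree lc_e_rc_34_0 lc_e_rc_13_1 lc_e_rc_13_1 lc_e_rc_4_1 lc_e_rc_13_1 lc_e_rc_13_1 lc_e_rc_34_0 lc_e_rc_35_2 lc_e_rc_13_1 lc_e_rc_39_2 lc_e_rc_34_0 lc_e_rc_13_1 lc_e_rc_13_1 lc_e_rc_13_1 lc_e_Cert_tree lc_e_rc_13_1 lc_e_rc_34_0 lc_e_rc_13_1 lc_e_rc_13_1 lc_e_rc_13_1 lc_e_rc_13_1 lc_e_rc_39_2 lc_e_Cert_tree lc_e_rc_34_0 lc_e_rc_13_1 lc_e_Cert_tree lc_e_rc_34_0 lc_e_rc_4_1 lc_e_rc_39_2 lc_e_rc_13_1 lc_e_rc_21_1 lc_e_rc_4_1 lc_e_rc_35_2 lc_e_Cert_tree lc_e_rc_34_0 lc_e_rc_34_0 lc_e_rc_39_2 lc_e_rc_13_1 lc_e_rc_35_2 lc_e_rc_34_0 lc_e_rc_13_1 lc_e_rc_37_0 lc_e_rc_13_1 lc_e_rc_13_1 lc_e_rc_13_1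 lc_e_rc_13_1) (@D3.rec (fun _ => (Cert rels S Gen.e)) lc_e_rc_38_2 lc_e_rc_13_1 lc_e_rc_13_1 lc_e_rc_13_1 lc_e_rc_13_1 lc_e_rc_13_1 lc_e_rc_39_2 lc_e_rc_13_1 lc_e_rc_13_1 lc_e_rc_4_3 lc_e_rc_21_3 lc_e_rc_13_1 lc_e_Cert_tree lc_e_rc_34_0 lc_e_rc_39_2 lc_e_rc_13_1 lc_e_rc_13_1 lc_e_rc_4_1 lc_e_rc_4_1 lc_e_rc_13_1 lc_e_Cert_tree lc_e_rc_34_0 lc_e_rc_34_0 lc_e_rc_38_0 lc_e_rc_13_1 lc_e_rc_21_1 lc_e_rc_13_1 lc_e_rc_13_1 lc_e_rc_39_0 lc_e_rc_39_2 lc_e_rc_13_1 lc_e_rc_34_0 lc_e_rc_13_1 lc_e_rc_13_1 lc_e_rc_13_1 lc_e_rc_13_1 lc_e_rc_34_0 lc_e_rc_56_32 lc_e_rc_34_0 lc_e_rc_34_0 lc_e_rc_13_1 lc_e_rc_35_0 lc_e_rc_13_1 lc_e_rc_34_0 lc_e_rc_21_1 lc_e_rc_34_0 lc_e_rc_13_1 lc_e_rc_13_1 lc_e_rc_13_1 lc_e_rc_34_0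 lc_e_rc_13_1)
def ce_e : Pt → (Cert rels S Gen.e) := @Pt.rec (fun _ => (Cert rels S Gen.e)) (@D1.rec (fun _ => D2 → D3 → (Cert rels S Gen.e)) ce_e_0 ce_e_1 ce_e_2 ce_e_3 ce_e_4 ce_e_5 ce_e_6 ce_e_7 ce_e_8 ce_e_9 ce_e_10 ce_e_11 ce_e_12 ce_e_13 ce_e_14 ce_e_15 ce_e_16 ce_e_17 ce_e_18 ce_e_19 ce_e_20 ce_e_21 ce_e_22)
def isSeed_e (p : Pt) : Bool := false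

end

end Cfsg.Agent.Helper28.S1689
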