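import Cfsg.Agent.Lib.Helper28.S1689.Tree

set_option autoImplicit false
set_option maxRecDepth 100000
set_option linter.all false

namespace Cfsg.Agent.Helper28.S1689

open Cfsg.Agent.Helper28
open Cfsg.Spor.Fi23 (Gen)

noncomputable section

def lv_f_0 : D2 → D3 → Nat := @D2.rec (fun _ => D3 → Nat) (@D3.rec (fun _ => Nat) 1 2 0 1 4 5 6 6 7 7 7 8 8 8 8 9 9 9 0 9 10 10 10 0 10 1 2 10 11 0 11 0 11 1 2 11 10 2 3 12 0 12 1 2 12 0 1 2 12 11 2) (@D3.rec (fun _ => Nat) 3 11 11 3 4 0 13 0 1 2 13 12 2 3 1 3 2 12 2 3 13 12 12 3 4 12 12 4 5 0 1 2 14 1 3 2 13 2 3 14 13 13 3 4 11 13 2 2 3 3 13) (@D3.rec (fun _ => Nat) 13 3 4 0 13 13 4 5 13 13 5 11 6 0 1 3 2 14 2 3 15 12 14 2 2 3 3 14 14 3 4 0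 14 14 4 5 0 12 12 14 14 14 4 3 5 4 14 14 4 5 0) (@D3.rec (fun _ => Nat) 1 14 14 5 12 6 14 14 0 6 12 7 1 3 2 13 15 2 2 3 3 15 15 3 4 16 0 0 13 13 15 15 15 4 3 5 4 15 15 4 5 0 1 15 15 5 13 6 1 2 3) (@D3.rec (fun _ => Nat) 2 13 13 13 15 15 15 15 4 4 5 5 0 15 15 5 0 6 0 1 15 15 15 0 6 13 7 15 0 15 0 1 7 13 13 14 16 2 2 3 3 3 0 14 14 16 16 16 4 3 5) (@D3.rec (fun _ => Nat) 4 16 16 4 5 0 0 1 1 2 3 2 14 14 14 16 16 16 16 4 4 5 5 0 16 16 5 0 6 0 1 16 16 16 0 6 14 7 2 2 2 4 3 3 3 3 14 14 14 14 16) (@D3.rec (fun _ => Nat) 16 16 16 6 5 0 7 0 6 0 1 16 16 0 6 0 1 7 0 1 16 16 16 0 16 0 1 7 14 14 16 0 1 16 0 0 1 14 14 14 15 0 15 15 17 17 17 4 4 3 16) (@D3.rec (fun _ => Nat) 5 5 4 1 2 3 2 15 15 15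 17 17 17 17 4 4 5 5 0 17 17 5 0 6 0 1 0 1 17 2 2 2 4 3 3 3 3 15 15 15 15 17 17 17 17 6 5 0 7 0 6) (@D3.rec (fun _ => Nat) 0 1 17 17 0 6 0 1 7 0 1 17 17 17 0 17 0 1 7 15 15 16 4 3 4 4 3 5 5 4 5 5 5 4 15 15 15 15 15 0 17 17 17 17 0 6 0 6 0 1 7) (@D3.rec (fun _ => Nat) 0 1 7 0 0 1 17 17 0 17 0 1 7 0 0 1 6 0 1 17 17 17 0 1 17 0 0 1 15 15 17 17 0 0 1 16 0 0 1 1 3 15 0 16 1 2 3 2 16 16 18) (@D3.rec (fun _ => Nat) 18 18 18 18 4 4 4 17 5 5 5 0 2 2 2 4 3 3 3 3 16 16 16 18 18 18 18 6 5 0 7 0 6 0 1 18 18 0 6 0 1 7 0 0 1 18 1 3 18 18 17) (@D3.rec (fun _ => Nat) 4 3 4 4 3 5 5 4 5 5 5 4 16 16 16 16 0 18 18 18 18 0 6 0 6 0 1 7 0 1 7 0 0 1 18 18 0 18 0 1 7 0 0 1 6 0 1 18 18 18 0) (@D3.rec (fun _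 => Nat) 1 18 0 0 1 16 16 18 17 17 5 5 4 4 15 4 4 4 6 6 6 5 5 5 5 5 5 0 16 16 0 16 0 1 18 18 0 18 0 18 0 1 8 0 1 7 0 0 1 6 9) (@D3.rec (fun _ => Nat) 0 0 1 18 0 0 1 1 18 18 18 0 1 18 0 0 1 6 0 0 1 1 3 7 7 1 18 18 18 0 0 1 17 0 0 1 1 3 16 0 0 1 1 3 17 0 1 1 15 2 1) (@D3.rec (fun _ => Nat) 2 2 17 2 2 2 4 3 3 3 17 17 19 19 19 19 19 19 6 6 5 0 18 7 7 0 6 0 1 18 4 3 4 4 3 5 5 4 5 5 4 17 17 17 0 19 19 19 19 0 6) (@D3.rec (fun _ => Nat) 0 6 0 1 7 0 1 7 0 0 1 19 19 0 19 0 1 7 0 0 1 6 0 0 1 1 3 19 19 16 19 2 3 19 18 18 5 5 4 4 16 4 4 4 6 6 6 5 5 5 5) (@D3.rec (fun _ => Nat) 5 0 17 17 0 17 0 1 19 19 0 19 0 19 0 1 8 0 1 7 0 0 1 6 9 0 0 1 19 0 0 1 1 19 19 19 0 1 19 0 0 1 6 0 0 1 1 3 7 7 1) (@D3.rec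 (fun _ => Nat) 19 19 19 0 0 1 18 0 0 1 1 3 17 17 19 19 18 18 18 6 16 6 6 5 6 16 6 16 6 6 5 0 7 7 7 7 6 0 7 7 0 6 0 1 0 0 1 0 0 1 6) (@D3.rec (fun _ => Nat) 19 0 19 0 1 19 0 1 19 0 0 1 6 8 0 0 1 7 0 0 1 1 3 7 7 0 0 1 1 3 19 19 0 1 0 1 19 15 19 19 19 0 0 1 18 0 0 1 1 3 7) (@D3.rec (fun _ => Nat) 7 0 1 1 8 8 2 8 19 19 0 0 1 1 3 18 0 1 1 9 2 0 1 1 18 16 18 2 1 16 16 17 2 2 3 3 18 19 4 3 4 3 5 4 5 4 18 18 0 20 20) (@D3.rec (fun _ => Nat) 20 20 20 20 0 6 6 0 6 0 1 19 7 0 7 0 1 7 0 0 1 22 19 19 5 5 4 17 4 4 4 6 6 5 5 5 5 0 18 18 0 18 0 1 20 20 0 20 0 20 0) (@D3.rec (fun _ => Nat) 1 8 0 1 7 0 0 1 6 9 0 0 1 20 0 0 1 1 3 20 20 20 0 1 20 0 0 1 6 0 0 1 1 3 7 7 0 1 1 3 20 17 20 2 3 20 0 17 20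 20 4) (@D3.rec (fun _ => Nat) 19 19 19 6 17 6 6 5 17 6 17 6 6 5 0 7 7 7 6 0 7 7 0 6 0 1 0 18 0 1 18 0 0 1 6 20 0 20 0 1 20 0 1 20 0 0 1 6 8 0 0) (@D3.rec (fun _ => Nat) 1 7 0 0 1 1 3 7 7 0 0 1 1 3 20 20 0 1 0 1 20 16 20 20 20 0 0 1 19 0 0 1 1 3 7 7 0 1 0 1 3 8 8 2 3 8 20 20 0 0 1) (@D3.rec (fun _ => Nat) 1 3 19 0 1 0 1 3 9 2 3 18 20 19 0 19 19 19 7 17 7 17 7 7 6 0 17 17 17 17 6 6 0 6 0 1 8 8 0 7 0 1 0 0 1 0 0 1 6 1 0) (@D3.rec (fun _ => Nat) 1 7 0 1 1 3 7 7 20 0 1 20 0 0 1 19 20 0 0 1 8 0 0 1 1 3 7 7 0 0 1 1 3 9 9 0 1 1 8 16 8 2 8 0 1 0 1 3 20 16 20) (@D3.rec (fun _ => Nat) 2 20 0 1 20 1 16 20 20 0 20 0 0 1 1 3 19 19 0 1 1 8 9 8 2 8 1 9 9 9 9 9 20 0 1 1 19 10 19 2 1 10 10 1 19 17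 19 0 17 19 17)
def lv_f_1 : D2 → D3 → Nat := @D2.rec (fun _ => D3 → Nat) (@D3.rec (fun _ => Nat) 17 18 18 20 3 3 4 4 19 0 20 20 5 4 4 4 6 5 5 5 0 19 0 19 0 1 21 21 21 0 21 21 0 21 0 1 8 0 8 0 1 7 0 0 1 6 20 0 9 0 1) (@D3.rec (fun _ => Nat) 9 0 0 1 23 0 0 1 1 3 21 23 20 20 20 18 6 6 5 18 6 6 5 0 7 7 6 0 7 7 0 6 0 1 19 0 19 0 1 19 0 0 1 6 21 0 21 0 1 21 0) (@D3.rec (fun _ => Nat) 1 21 0 0 1 6 8 0 0 1 7 0 0 1 1 3 7 7 0 0 1 1 3 21 21 0 1 0 1 3 21 6 21 2 3 21 21 0 0 1 20 0 0 1 1 3 7 7 0 1 0) (@D3.rec (fun _ => Nat) 1 3 8 18 8 2 3 8 1 3 21 18 21 2 3 21 0 18 21 21 4 1 2 3 18 18 21 21 20 0 20 20 20 18 7 18 7 7 6 0 18 18 18 6 6 0 6 0 1 8 8) (@D3.rec (fun _ => Nat) 0 7 0 1 0 7 0 1 7 0 0 1 6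 1 0 0 1 7 0 0 1 1 3 7 7 21 0 1 21 0 0 1 20 21 0 0 1 8 0 0 1 1 3 7 7 0 0 1 1 3 9) (@D3.rec (fun _ => Nat) 9 0 1 0 1 3 8 17 8 2 3 8 0 1 0 1 3 21 17 21 2 21 0 1 21 1 17 21 21 0 21 0 0 1 1 3 20 20 0 1 0 1 3 8 9 8 2 3 8 0 1) (@D3.rec (fun _ => Nat) 9 1 3 9 2 9 9 9 4 21 0 1 0 1 3 20 10 20 2 3 0 1 1 3 10 2 10 4 21 20 0 20 1 2 20 20 20 0 18 18 18 18 8 8 0 7 0 1 18 18 18) (@D3.rec (fun _ => Nat) 18 0 0 1 0 0 1 17 0 0 1 0 0 1 20 1 0 1 8 0 1 1 3 7 7 9 1 9 9 0 1 3 8 17 8 2 8 21 0 0 1 20 0 0 1 1 3 20 20 0 0) (@D3.rec (fun _ => Nat) 1 1 3 8 8 0 1 1 8 17 8 2 8 0 1 1 9 17 9 2 9 1 9 17 9 9 0 17 9 9 0 1 3 21 1 3 17 21 2 21 0 17 21 21 0 1 17 21 21 17 21) (@D3.rec (fun _ => Nat) 0 21 1 2 0 1 1 20 10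 20 2 20 1 9 10 9 9 17 10 9 9 10 10 10 10 1 20 11 20 0 11 20 11 11 18 20 0 1 3 18 18 0 19 19 21 4 4 5 5 0 20) (@D3.rec (fun _ => Nat) 0 1 21 21 6 5 6 5 0 7 6 0 7 0 6 0 1 20 0 1 20 0 0 1 6 22 22 0 22 0 1 22 0 22 0 1 22 0 0 1 6 8 0 1 8 0 0 1 7 0 0) (@D3.rec (fun _ => Nat) 1 1 3 7 7 21 0 1 9 0 0 1 24 0 0 1 1 3 22 24 0 1 0 1 3 22 6 22 2 3 22 0 21 21 21 19 7 7 6 0 19 6 6 0 6 0 1 8 8 0 7) (@D3.rec (fun _ => Nat) 0 1 7 0 7 0 1 7 0 0 1 6 0 1 0 0 1 7 0 0 1 1 3 7 7 22 0 1 22 0 0 1 21 22 0 0 1 8 0 0 1 1 3 7 7 0 0 1 1 3 9) (@D3.rec (fun _ => Nat) 9 0 1 0 1 3 8 7 8 2 3 8 0 1 0 1 3 22 7 22 2 3 22 0 1 3 22 1 3 7 22 2 3 22 0 7 22 22 4 0 0 1 1 3 21 21 0 1 0 1 3) (@D3.rec (fun _ => Nat) 8 19 8 2 3 8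 0 1 3 9 1 3 19 9 2 3 9 0 19 9 9 4 19 22 2 3 22 0 19 22 22 4 1 2 3 19 19 22 22 2 2 4 3 3 19 19 22 0 21 1 2) (@D3.rec (fun _ => Nat) 21 21 21 0 19 19 19 8 8 0 7 0 1 19 19 19 0 8 0 1 7 0 0 1 18 0 9 0 1 8 0 0 1 21 1 0 0 1 8 0 0 1 1 3 7 7 9 0 1 1 9) (@D3.rec (fun _ => Nat) 9 0 1 0 1 3 8 18 8 2 3 8 22 0 0 1 21 0 0 1 1 3 21 21 0 0 1 1 3 8 8 0 1 0 1 3 8 18 8 2 3 8 0 1 0 1 3 9 18 9 2) (@D3.rec (fun _ => Nat) 3 9 0 1 9 1 3 18 9 2 9 0 18 9 9 4 0 1 3 22 1 3 18 22 2 22 0 18 22 22 0 1 18 22 22 18 22 0 22 1 2 0 1 0 1 3 21 10 21 2 3) (@D3.rec (fun _ => Nat) 21 0 1 9 1 3 10 9 2 9 18 10 9 9 4 1 10 10 10 2 3 10 10 10 10 0 1 21 1 3 11 21 2 0 11 21 4 1 11 11 2 3 11 11 11 0 0 0 1 2 2) (@D3.rec (fun _ =>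 Nat) 3 21 21 0 21 0 1 19 19 19 19 0 0 1 0 0 1 6 19 19 0 1 0 1 18 0 1 1 3 18 18 1 0 1 21 0 1 1 3 21 21 8 1 8 8 0 1 3 8 18 8) (@D3.rec (fun _ => Nat) 2 8 9 18 9 9 1 18 9 2 9 0 18 9 9 0 0 1 1 3 21 21 0 1 1 21 18 21 2 21 0 1 1 10 18 10 2 10 1 9 18 9 9 104 18 9 9 1 11 18 11) (@D3.rec (fun _ => Nat) 11 0 18 11 11 18 10 10 0 10 1 103 102 102 0 1 3 18 22 2 22 18 22 2 3 0 18 22 22 1 2 3 18 22 1 18 22 0 22 18 0 22 1 2 2 1 21 11 21 21 91) (@D3.rec (fun _ => Nat) 11 21 21 11 10 10 18 10 18 18 11 10 11 12 21 0 1 87 91 92 0 1 2 3 19 1 2 20 20 22 5 5 0 6 0 6 0 1 21 0 0 1 6 22 22 7 6 0 6 0 6) (@D3.rec (fun _ => Nat) 0 1 8 0 7 0 1 7 0 1 7 0 0 1 6 0 0 1 7 0 0 1 1 3 7 7 23 0 23 0 1 23 0 0 1 22 23 0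 1 23 0 0 1 8 0 0 1 1 3 7 7) (@D3.rec (fun _ => Nat) 10 0 0 1 9 0 0 1 1 3 9 9 0 1 0 1 3 8 7 8 2 3 8 22 0 0 1 25 0 0 1 1 3 25 25 0 1 0 1 3 23 7 23 2 3 23 0 1 3 23 1) (@D3.rec (fun _ => Nat) 3 7 23 2 3 23 0 7 23 23 4 1 2 22 22 22 0 20 8 8 0 7 0 1 20 8 0 8 0 1 7 0 0 1 19 9 0 9 0 1 8 0 0 1 22 0 1 0 0 1 8) (@D3.rec (fun _ => Nat) 0 0 1 1 3 7 7 0 1 9 0 1 1 3 9 9 0 1 0 1 3 8 8 8 2 3 8 23 0 0 1 22 0 0 1 1 3 22 22 0 0 1 1 3 8 8 0 1 0 1 3)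
def lv_f_2 : D2 → D3 → Nat := @D2.rec (fun _ => D3 → Nat) (@D3.rec (fun _ => Nat) 8 8 8 2 3 8 0 1 0 1 3 9 9 9 2 3 9 0 1 3 9 1 3 8 9 2 3 9 0 8 9 9 4 1 23 1 8 23 2 23 0 8 23 23 4 1 8 23 2 23 8) (@D3.rec (fun _ => Nat) 23 2 0 8 23 23 4 1 2 3 8 8 23 23 0 1 0 1 3 22 20 22 2 3 22 0 1 3 9 1 3 20 9 2 3 9 0 20 9 9 4 1 3 20 10 2 3 10 20 10 2) (@D3.rec (fun _ => Nat) 3 3 0 20 10 10 4 1 2 3 20 20 10 10 0 20 23 23 4 1 2 3 20 20 23 23 2 2 4 3 3 20 20 23 22 4 4 4 103 20 20 0 1 2 2 3 22 22 0 22 0) (@D3.rec (fun _ => Nat) 1 20 20 20 0 9 0 1 8 0 0 1 6 0 1 0 0 1 19 0 0 1 1 3 19 19 1 0 0 1 22 0 0 1 1 3 22 22 8 0 1 1 8 8 0 1 0 1 3 8 19) (@D3.rec (fun _ => Nat) 8 2 3 8 9 0 1 9 19 9 9 0 1 3 9 1 3 19 9 2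 3 9 0 19 9 9 4 0 0 1 1 3 22 22 0 1 0 1 3 22 19 22 2 3 22 0 1 0 1 3 10) (@D3.rec (fun _ => Nat) 19 10 2 3 10 0 1 9 1 3 19 9 2 9 102 19 9 9 4 0 1 11 1 3 19 11 2 11 0 19 11 11 4 1 19 10 10 19 10 2 3 0 19 10 10 1 99 98 19 102 10) (@D3.rec (fun _ => Nat) 1 19 23 2 23 19 23 2 0 19 23 23 1 2 3 19 23 1 19 23 0 23 19 0 23 1 2 2 0 1 22 1 3 11 22 2 22 93 11 22 22 4 1 11 10 10 11 10 2 3 19) (@D3.rec (fun _ => Nat) 11 10 10 19 19 11 11 10 10 11 11 11 11 4 0 11 11 1 12 22 12 22 2 3 0 12 22 1 89 93 12 22 12 12 12 4 0 12 94 12 1 0 1 1 3 2 2 3 4 0 0) (@D3.rec (fun _ => Nat) 1 87 88 1 6 20 20 0 1 0 1 7 88 1 1 90 90 91 20 1 19 1 19 19 90 1 3 19 19 19 2 19 22 1 22 22 0 1 3 22 19 22 2 22 10 19 10 10 1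 19 9) (@D3.rec (fun _ => Nat) 2 9 103 19 9 9 0 11 19 10 100 19 102 10 1 101 99 19 103 0 1 1 22 19 22 2 22 1 22 19 22 22 1 10 19 10 10 104 19 10 10 19 10 10 103 10 19 11 11 0 11) (@D3.rec (fun _ => Nat) 1 101 100 19 97 0 11 1 98 1 19 23 2 0 19 23 23 19 0 19 23 23 4 1 110 3 19 23 2 2 110 109 19 19 23 19 0 23 1 2 108 1 110 2 12 22 22 91 22 19 11) (@D3.rec (fun _ => Nat) 19 0 1 1 4 5 2 3 21 21 0 23 6 0 6 0 1 7 0 1 7 0 0 1 6 0 0 1 1 3 7 7 23 23 0 8 0 7 0 1 8 0 1 7 0 0 1 20 9 0 1) (@D3.rec (fun _ => Nat) 8 0 0 1 23 0 0 1 8 0 0 1 1 3 7 7 0 1 1 3 9 9 0 1 0 1 3 8 8 8 2 3 8 24 0 1 24 0 0 1 23 0 0 1 1 3 23 23 24 0 0) (@D3.rec (fun _ => Nat) 1 8 0 0 1 1 3 8 8 0 1 0 1 3 8 8 8 2 3 8 0 0 1 1 3 9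 9 0 1 0 1 3 9 9 9 2 3 9 0 1 3 9 1 3 8 9 2 3 9 0 8) (@D3.rec (fun _ => Nat) 9 9 4 1 1 26 26 1 1 24 19 24 2 26 1 24 1 8 24 2 24 0 8 24 24 4 1 8 24 2 24 8 24 2 0 8 24 24 4 1 2 3 8 8 24 24 2 3 23 23 0) (@D3.rec (fun _ => Nat) 23 0 1 21 9 0 9 0 1 8 0 0 1 6 21 0 0 1 0 0 1 20 0 0 1 1 3 20 20 0 1 0 0 1 23 0 0 1 1 3 23 23 0 1 8 0 1 1 3 8 8) (@D3.rec (fun _ => Nat) 0 1 0 1 3 8 9 8 2 3 8 1 3 9 9 0 1 3 9 10 9 2 3 9 0 1 3 9 1 3 9 9 2 3 9 0 9 9 9 4 0 0 1 1 3 23 23 0 1 0 1) (@D3.rec (fun _ => Nat) 3 23 9 23 2 3 23 0 1 0 1 3 10 10 10 2 3 10 0 1 3 9 1 3 9 9 2 3 9 0 9 9 9 4 0 1 3 11 1 3 10 11 2 3 11 0 10 11 11 4 0) (@D3.rec (fun _ => Nat) 1 3 9 10 2 3 10 9 10 2 3 3 0 9 10 10 4 1 2 3 9 9 10 10 9 24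 24 9 24 0 9 24 24 1 2 3 9 9 24 24 9 24 0 9 24 24 9 0 9 24 24) (@D3.rec (fun _ => Nat) 1 2 3 9 9 24 24 2 2 4 3 3 9 9 24 0 1 3 23 1 3 21 23 2 3 23 0 21 23 23 4 1 3 21 10 2 3 10 21 10 2 3 3 0 21 10 10 4 1 2 3) (@D3.rec (fun _ => Nat) 21 21 10 10 21 11 2 3 0 21 11 11 4 0 21 11 11 4 4 0 5 1 2 3 21 21 11 11 2 2 4 3 3 21 21 11 1 2 3 21 21 24 24 2 2 4 3 3 21 21 24) (@D3.rec (fun _ => Nat) 23 4 4 4 5 102 5 5 21 21 21 101 21 21 1 3 2 2 3 4 0 23 0 1 23 0 90 1 6 0 1 0 0 1 7 0 0 1 1 92 92 93 1 20 0 1 1 20 20 0 1) (@D3.rec (fun _ => Nat) 0 1 3 20 20 20 2 20 23 0 1 1 23 23 0 1 0 1 3 23 20 23 2 3 23 10 0 1 10 20 10 10 0 1 3 9 1 3 20 9 2 3 9 101 20 9 9 4 1 20 11) (@D3.rec (fun _ => Nat) 11 0 11 0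 1 3 20 10 2 10 20 10 2 3 0 20 10 10 4 1 97 98 20 20 103 10 0 1 0 1 3 23 20 23 2 3 23 0 1 23 1 3 20 23 2 23 4 0 1 10 1) (@D3.rec (fun _ => Nat) 3 20 10 2 10 104 20 10 10 4 1 20 10 10 20 10 2 3 103 20 10 10 20 10 1 20 11 11 20 11 2 0 20 11 11 1 99 3 20 20 11 11 20 11 0 11 20 0 20 11 11) (@D3.rec (fun _ => Nat) 4 0 1 97 96 98 96 100 20 24 0 20 24 24 20 0 20 24 24 1 2 3 20 24 2 2 4 3 20 20 24 20 0 24 1 2 0 22 1 2 2 1 12 23 23 12 23 2 3 94 12) (@D3.rec (fun _ => Nat) 23 23 12 23 12 11 20 11 12 20 12 11 11 4 0 20 20 12 11 20 12 11 12 12 12 0 1 13 23 0 13 0 13 23 4 0 1 89 91 90 90 13 13 13 0 1 13 94 92 13 13)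
def lv_f_3 : D2 → D3 → Nat := @D2.rec (fun _ => D3 → Nat) (@D3.rec (fun _ => Nat) 0 1 3 20 2 2 4 0 1 89 1 8 21 1 9 1 89 91 90 21 20 20 20 20 20 92 20 2 23 20 23 1 2 101 10 20 10 20 10 1 101 20 102 105 102 20 102 1 23 20 23) (@D3.rec (fun _ => Nat) 23 20 23 23 20 12 12 98 12 101 11 98 101 1 99 109 1 97 20 24 20 0 20 24 24 1 108 112 20 24 102 1 107 3 24 24 2 112 113 111 20 0 24 106 1 110 2 93 23 20 1) (@D3.rec (fun _ => Nat) 4 20 3 4 22 0 22 0 1 24 0 7 0 1 7 0 0 1 21 8 0 0 1 24 0 0 1 1 3 7 7 0 1 0 1 3 8 20 8 2 3 8 24 0 24 0 1 9 0 1 8) (@D3.rec (fun _ => Nat) 0 0 1 6 0 0 1 21 0 0 1 1 3 21 21 0 0 1 24 0 0 1 1 3 24 24 0 1 1 3 8 8 0 1 0 1 3 8 9 8 2 3 8 0 1 3 9 10 9 2 3) (@D3.rec (fun _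 => Nat) 9 0 1 3 9 1 3 9 9 2 3 9 0 9 9 9 4 25 0 0 1 24 0 0 1 1 3 24 24 0 1 0 1 3 24 9 24 2 3 24 0 0 1 1 3 10 10 0 1 0 1) (@D3.rec (fun _ => Nat) 3 10 10 10 2 3 10 0 1 3 9 1 3 9 9 2 3 9 0 9 9 9 4 0 1 0 1 3 11 20 11 2 3 11 0 1 3 11 1 3 10 11 2 3 11 0 10 11 11 4 0) (@D3.rec (fun _ => Nat) 1 3 9 10 2 3 10 9 10 2 3 3 0 9 10 10 4 1 2 3 9 9 10 10 27 20 25 27 25 20 25 25 0 20 25 25 9 25 25 9 25 0 9 25 25 1 2 3 9 9 25) (@D3.rec (fun _ => Nat) 25 9 25 0 9 25 25 9 0 9 25 25 1 2 3 9 9 25 25 2 2 4 3 3 9 9 25 3 4 24 0 24 0 1 24 0 0 1 6 22 0 0 1 0 0 1 7 0 0 1 1) (@D3.rec (fun _ => Nat) 3 7 95 0 1 0 1 21 0 1 1 3 21 21 0 1 0 1 3 21 10 21 2 3 21 0 1 24 0 1 1 3 24 24 0 1 0 1 3 24 10 24 2 3 24 1 3 10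 10 0 1) (@D3.rec (fun _ => Nat) 3 10 11 10 2 3 10 0 1 3 9 1 3 10 9 2 3 9 0 10 9 9 4 19 11 2 3 11 1 3 11 11 2 3 11 0 11 11 11 4 0 1 3 10 10 2 3 10 10 10 2) (@D3.rec (fun _ => Nat) 3 3 0 10 10 10 4 1 2 3 10 10 10 10 0 1 0 1 3 24 11 24 2 3 24 0 1 3 24 1 3 10 24 2 3 24 0 10 24 24 4 0 1 3 10 1 3 11 10 2 3) (@D3.rec (fun _ => Nat) 10 0 11 10 10 4 0 1 3 10 10 2 3 10 10 10 2 3 3 0 10 10 10 4 1 2 3 10 10 10 10 0 1 3 11 11 2 3 11 11 11 2 3 3 0 11 11 11 4 1 2) (@D3.rec (fun _ => Nat) 3 11 11 11 11 1 10 11 2 3 0 10 11 11 4 10 0 10 11 11 4 4 0 5 1 2 3 10 10 11 11 2 2 4 3 3 10 10 11 0 25 10 0 25 1 2 3 10 25 2 2) (@D3.rec (fun _ => Nat) 4 3 3 10 10 25 10 0 25 1 2 3 10 25 0 10 1 2 3 10 25 2 2 4 3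 3 10 10 25 24 4 4 4 5 5 5 5 10 10 10 1 3 22 24 2 3 24 22 24 2 3) (@D3.rec (fun _ => Nat) 3 0 22 24 24 4 1 2 3 22 22 24 24 22 11 2 3 0 22 11 11 4 22 0 22 11 11 4 4 0 5 1 2 3 22 22 11 11 2 2 4 3 3 22 22 11 0 22 12 12 4) (@D3.rec (fun _ => Nat) 1 2 3 22 22 12 12 1 2 3 22 22 12 12 12 0 4 1 2 2 2 4 3 3 22 22 12 24 4 4 4 5 5 5 5 22 22 22 2 2 4 3 3 22 22 25 24 4 4 4 5) (@D3.rec (fun _ => Nat) 102 5 5 22 22 22 5 4 10 4 101 106 22 22 22 104 22 21 2 2 4 0 1 0 88 1 8 89 88 1 1 9 0 1 1 91 93 90 1 0 1 94 92 21 21 0 1 21 21 21 21) (@D3.rec (fun _ => Nat) 0 1 3 21 1 3 21 21 2 21 24 0 1 24 21 24 24 0 1 3 24 1 3 21 24 2 3 24 4 1 21 10 10 101 10 0 1 3 21 10 2 10 21 10 2 3 97 21 10 10 4) (@D3.rec (fun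 _ => Nat) 21 10 21 11 0 11 1 97 1 21 11 2 96 21 96 11 21 0 21 11 11 4 0 1 97 98 21 21 104 11 100 21 103 0 1 24 1 3 21 24 2 24 21 24 4 1 21 24 24 21 24) (@D3.rec (fun _ => Nat) 2 3 1 21 12 12 21 12 2 103 21 12 12 102 21 21 12 12 21 11 97 11 21 103 21 11 11 4 0 21 13 0 13 21 0 21 13 13 1 99 98 21 100 2 99 109 98 21 102 21 0) (@D3.rec (fun _ => Nat) 12 1 97 0 23 1 99 98 21 104 12 0 1 21 0 25 1 99 3 21 25 0 23 1 2 3 21 25 2 2 101 100 21 4 4 111 5 21 21 0 25 0 23 1 2 2 1 2 3 23 2) (@D3.rec (fun _ => Nat) 13 24 93 24 13 93 13 24 24 4 0 13 21 12 21 21 13 21 21 13 12 12 0 1 13 13 13 0 1 15 14 0 1 0 14 1 89 14 24 0 1 92 92 14 14 14 14 0 1 13 96) (@D3.rec (fun _ => Nat) 94 96 14 1 3 21 2 21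 21 0 1 8 22 9 91 0 21 92 21 0 25 111 1 110 112 25 2 110 25 21 107 1 110 21 4 5 0 23 0 1 23 0 0 1 22 25 0 1 8 0 0) (@D3.rec (fun _ => Nat) 1 6 0 0 1 1 3 22 22 0 0 1 1 3 25 25 0 1 0 1 3 8 21 8 2 3 8 0 1 3 9 1 3 21 9 2 3 9 0 21 9 9 4 25 0 1 25 0 0 1 6) (@D3.rec (fun _ => Nat) 0 0 1 7 0 0 1 1 3 7 7 0 1 1 3 22 22 0 1 0 1 3 22 10 22 2 3 22 0 1 1 3 25 25 0 1 0 1 3 25 10 25 2 3 25 0 1 3 10 11 10) (@D3.rec (fun _ => Nat) 2 3 10 0 1 3 9 1 3 10 9 2 3 9 0 10 9 9 4 1 3 11 11 2 3 11 0 11 11 11 4 0 1 3 10 10 2 3 10 10 10 2 3 3 0 10 10 10 4 1 2) (@D3.rec (fun _ => Nat) 3 10 10 10 10 0 0 1 1 3 25 25 0 1 0 1 3 25 11 25 2 3 25 0 1 3 25 1 3 10 25 2 3 25 0 10 25 25 4 0 1 0 1 3 10 21 10 2 3 10 0)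
def lv_f_4 : D2 → D3 → Nat := @D2.rec (fun _ => D3 → Nat) (@D3.rec (fun _ => Nat) 1 3 10 1 3 11 10 2 3 10 0 11 10 10 4 0 1 3 10 10 2 3 10 10 10 2 3 3 0 10 10 10 4 1 2 3 10 10 10 10 0 1 3 11 1 3 21 11 2 3 11) (@D3.rec (fun _ => Nat) 0 21 11 11 4 0 1 3 11 11 2 3 11 11 11 2 3 3 0 11 11 11 4 1 2 3 11 11 11 11 1 3 10 11 2 3 3 0 10 11 11 4 10 0 10 11 11 4 4 0 5) (@D3.rec (fun _ => Nat) 1 2 3 10 10 11 11 2 2 4 3 3 10 10 11 28 0 26 26 0 26 1 2 3 21 26 0 26 10 0 26 1 2 3 10 26 2 2 4 3 3 10 10 26 10 0 26 1 2 3 10) (@D3.rec (fun _ => Nat) 26 0 10 1 2 3 10 26 2 2 4 3 3 10 10 26 25 4 4 4 5 5 5 5 10 10 10 4 88 92 93 1 0 91 1 8 0 0 1 1 3 7 93 1 91 1 95 0 1 1 93) (@D3.rec (fun _ => Nat) 91 93 0 1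 0 1 3 91 11 95 2 3 95 93 1 22 1 93 22 22 0 1 3 22 12 22 2 3 22 1 22 1 11 22 2 3 22 0 11 22 22 4 1 3 25 25 0 1 3 25 12) (@D3.rec (fun _ => Nat) 25 2 3 25 0 1 3 25 1 3 11 25 2 3 25 0 11 25 25 4 20 10 2 3 10 1 3 12 10 2 3 10 0 12 10 10 4 0 1 3 11 10 2 3 10 11 10 2 3 3 0) (@D3.rec (fun _ => Nat) 11 10 10 4 1 2 3 11 11 10 10 99 20 101 11 4 12 11 2 3 0 12 11 11 4 1 2 3 12 12 11 11 1 3 11 11 2 3 3 0 11 11 11 4 11 0 11 11 11 4 4) (@D3.rec (fun _ => Nat) 0 5 1 2 3 11 11 11 11 2 2 4 3 3 11 11 11 0 1 3 25 1 3 12 25 2 3 25 0 12 25 25 4 0 1 3 11 25 2 3 25 11 25 2 3 3 0 11 25 25 4) (@D3.rec (fun _ => Nat) 1 2 3 11 11 25 25 0 1 3 12 12 2 3 12 12 12 2 3 3 0 12 12 12 4 1 2 3 12 12 12 12 1 11 11 2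 3 0 11 11 11 4 11 0 11 11 11 4 4 0 5) (@D3.rec (fun _ => Nat) 1 2 3 11 11 11 11 2 2 4 3 3 11 11 11 1 12 13 2 3 0 12 13 13 4 12 0 12 13 13 4 4 5 1 2 3 12 12 13 13 2 2 4 3 3 12 12 13 11 12 11) (@D3.rec (fun _ => Nat) 0 11 12 12 4 1 2 3 11 11 12 12 0 11 1 2 3 11 11 12 12 12 0 4 1 2 2 2 4 3 3 11 11 12 25 4 4 4 5 5 5 5 11 11 11 1 2 0 11 1 2) (@D3.rec (fun _ => Nat) 2 2 4 3 11 25 4 4 4 5 5 5 5 11 11 11 0 11 1 2 2 2 4 3 11 1 2 3 11 11 2 2 4 3 11 25 4 4 4 5 5 5 5 11 11 11 25 5 5 4 10) (@D3.rec (fun _ => Nat) 4 6 6 5 103 5 11 11 11 23 25 2 3 97 23 25 25 4 23 93 23 25 25 4 4 0 5 1 99 3 23 23 25 25 2 2 4 3 3 23 23 25 23 103 23 12 12 4 1 99 3) (@D3.rec (fun _ => Nat) 23 23 12 12 103 23 1 101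 3 23 23 12 12 12 0 4 1 2 2 2 4 3 3 23 23 12 102 4 4 4 5 5 5 5 23 23 23 1 95 3 23 23 13 13 2 2 4 3 3 23 23) (@D3.rec (fun _ => Nat) 13 2 2 4 3 3 23 0 23 13 13 0 13 1 2 15 2 25 4 4 4 5 5 5 5 23 23 23 25 5 5 4 11 4 105 6 5 5 5 23 23 23 25 4 4 4 5 105 5 5 23) (@D3.rec (fun _ => Nat) 23 23 5 4 11 4 6 100 5 5 102 23 23 23 104 23 23 22 22 93 1 8 89 1 90 93 97 92 1 89 90 93 1 93 22 1 22 22 22 1 22 2 22 22 2 1 22 25 0 1 3) (@D3.rec (fun _ => Nat) 2 22 25 2 3 4 22 12 97 12 1 22 11 2 22 11 22 105 22 11 11 4 0 22 11 22 0 13 1 95 22 12 22 96 22 104 12 96 22 98 0 24 1 97 98 22 102 12 0 1 98) (@D3.rec (fun _ => Nat) 22 22 102 1 22 25 25 22 25 2 22 25 22 4 0 22 12 101 12 22 101 22 12 12 22 102 12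 102 24 22 12 0 1 22 0 13 1 97 0 24 1 99 98 22 102 98 22 0 24 1 97) (@D3.rec (fun _ => Nat) 1 99 3 22 24 98 0 101 0 1 15 0 22 1 108 2 99 100 22 1 2 3 22 24 2 2 101 3 22 109 22 4 113 109 22 0 24 1 2 1 2 3 24 2 13 2 2 4 3 14 92) (@D3.rec (fun _ => Nat) 25 93 14 14 25 0 1 22 14 22 22 22 14 14 22 14 0 13 0 1 15 0 1 5 16 89 91 1 1 89 15 15 91 95 0 90 1 25 15 15 0 15 1 24 14 22 2 3 22 22 1) (@D3.rec (fun _ => Nat) 10 0 93 1 22 109 1 107 107 22 5 89 94 93 1 24 92 96 1 94 1 1 23 23 26 90 92 1 6 94 92 1 1 92 90 92 1 1 23 22 23 2 23 92 1 96 1 3 26 22 26) (@D3.rec (fun _ => Nat) 2 3 26 100 1 3 9 1 3 22 9 2 3 9 100 22 9 9 4 101 1 3 22 100 2 3 102 22 98 2 3 3 94 22 104 10 4 1 98 3 22 22 10 10 0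 0 1 8 90 0 1) (@D3.rec (fun _ => Nat) 1 92 7 7 0 1 1 3 9 9 0 1 0 1 3 90 11 92 2 94 92 0 1 3 23 12 23 2 3 23 1 23 1 11 23 2 23 0 11 23 23 4 0 1 3 26 12 26 2 3 26) (@D3.rec (fun _ => Nat) 0 1 3 26 1 3 11 26 2 3 26 0 11 26 26 4 1 3 12 10 2 3 10 0 12 10 10 4 0 1 3 11 10 2 3 10 11 10 2 3 3 0 11 10 10 4 1 2 3 11 11) (@D3.rec (fun _ => Nat) 10 10 12 11 2 3 3 0 12 11 11 4 1 2 3 12 12 11 11 1 3 11 11 2 3 3 0 11 11 11 4 11 0 11 11 11 4 4 0 5 1 2 3 11 11 11 11 2 2 4 3) (@D3.rec (fun _ => Nat) 3 11 11 11 0 1 0 1 3 26 22 26 2 3 26 0 1 3 26 1 3 12 26 2 3 26 0 12 26 26 4 0 1 3 11 26 2 3 26 11 26 2 3 3 0 11 26 26 4 1 2) (@D3.rec (fun _ => Nat) 3 11 11 26 26 0 1 3 12 1 3 22 12 2 3 12 0 22 12 12 4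 0 1 3 12 12 2 3 12 12 12 2 3 3 0 12 12 12 4 1 2 3 12 12 12 12 1 3 11 11 2)
def lv_f_5 : D2 → D3 → Nat := @D2.rec (fun _ => D3 → Nat) (@D3.rec (fun _ => Nat) 3 3 0 11 11 11 4 11 0 11 11 11 4 4 0 5 1 2 3 11 11 11 11 2 2 4 3 3 11 11 11 0 1 3 13 2 3 13 22 13 2 3 3 0 22 13 13 4 1 2 3) (@D3.rec (fun _ => Nat) 22 22 13 13 1 3 12 13 2 3 3 0 12 13 13 4 12 0 12 13 13 4 4 0 5 1 2 3 12 12 13 13 2 2 4 3 3 12 12 13 11 12 2 3 11 0 11 12 12 4 4) (@D3.rec (fun _ => Nat) 5 1 2 3 11 11 12 12 0 11 1 2 3 11 11 12 12 12 0 4 1 2 5 2 2 4 3 3 11 11 12 26 4 4 4 5 5 5 5 11 11 11 1 110 1 108 2 2 106 3 22) (@D3.rec (fun _ => Nat) 1 2 0 11 1 2 2 2 4 3 11 26 4 4 4 5 5 5 5 11 11 11 0 11 1 2 2 2 4 3 11 1 2 3 11 11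 2 2 4 3 11 26 4 4 4 5 5 5 5 11 11) (@D3.rec (fun _ => Nat) 11 26 5 5 4 22 4 6 6 5 5 5 11 11 11 90 1 91 1 90 1 3 93 2 0 1 91 91 13 93 1 93 1 12 96 2 3 0 12 95 4 93 1 3 13 23 2 3 23 0 13) (@D3.rec (fun _ => Nat) 4 12 23 23 12 23 0 12 23 23 4 1 2 3 12 12 23 23 2 3 1 3 13 26 2 3 26 93 13 26 26 4 0 1 3 12 26 2 3 26 12 26 2 3 3 0 12 26 26 4 1) (@D3.rec (fun _ => Nat) 97 3 12 12 26 26 21 12 4 13 12 2 3 0 13 12 12 4 1 2 3 13 13 12 12 1 3 12 11 2 3 3 0 12 11 11 4 12 0 12 11 11 4 4 0 5 1 2 3 12 12) (@D3.rec (fun _ => Nat) 11 11 2 2 4 3 3 12 12 11 99 21 21 101 13 13 0 13 13 13 4 1 2 3 13 13 13 13 2 2 4 3 3 13 13 13 12 12 2 3 12 0 12 12 12 4 4 5 1 2 3) (@D3.rec (fun _ => Nat) 12 12 12 12 0 12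 1 2 3 12 12 12 12 12 0 4 1 2 2 2 4 3 3 12 12 12 26 4 4 4 5 5 5 5 12 12 12 0 1 3 13 26 2 3 26 13 26 2 3 3 0) (@D3.rec (fun _ => Nat) 13 26 26 4 1 101 97 13 13 26 26 1 12 26 2 3 0 12 26 26 4 12 0 12 26 26 4 4 0 5 1 2 3 12 12 26 26 2 2 4 3 3 12 12 26 1 13 12 2 3 0) (@D3.rec (fun _ => Nat) 13 12 12 4 13 0 13 12 12 4 4 5 1 2 3 13 13 12 12 2 2 4 3 3 13 13 12 12 12 12 0 12 12 12 4 1 2 3 12 12 12 12 0 12 1 2 3 12 12 12 12) (@D3.rec (fun _ => Nat) 12 0 4 1 2 2 2 4 3 3 12 12 12 11 4 4 4 5 5 5 5 12 12 12 13 13 0 13 13 13 4 1 2 3 13 13 13 0 13 1 2 3 13 13 13 13 13 67 4 2 2) (@D3.rec (fun _ => Nat) 4 3 3 13 13 13 26 4 4 4 5 5 5 5 13 13 13 12 0 13 0 12 1 2 3 12 12 13 13 2 2 4 3 3 12 12 13 1 2 3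 12 12 2 2 4 3 3 12 0 12 13) (@D3.rec (fun _ => Nat) 13 0 13 1 2 15 2 26 4 4 4 5 5 5 5 12 12 12 26 5 5 4 11 4 6 6 5 5 5 12 12 12 2 1 2 3 12 2 26 4 4 5 5 12 26 5 5 4 22 4 6) (@D3.rec (fun _ => Nat) 6 5 5 5 12 12 12 1 2 3 12 2 26 4 4 5 5 12 13 2 2 4 3 3 12 12 26 4 4 5 5 12 26 5 5 4 11 4 6 6 5 5 5 12 12 12 26 26 6 104 6) (@D3.rec (fun _ => Nat) 6 6 102 106 7 105 105 12 12 12 24 26 4 97 24 24 26 26 97 24 24 26 26 26 0 4 1 2 2 101 3 3 24 24 26 4 4 4 5 5 5 5 24 24 24 103 24 24 13 13 2) (@D3.rec (fun _ => Nat) 99 3 3 24 24 13 24 24 2 101 103 3 24 0 24 13 13 0 13 1 2 15 2 4 4 4 5 5 5 5 24 24 24 102 5 5 4 12 4 6 6 5 5 5 24 24 24 2 93 3 3) (@D3.rec (fun _ => Nat) 24 24 14 4 4 4 5 5 5 5 24 24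 24 4 4 4 5 5 5 0 5 24 0 24 1 2 24 0 14 1 2 5 2 16 16 26 5 5 4 12 4 6 6 5 5 5 24 24 24 26 6) (@D3.rec (fun _ => Nat) 6 6 12 6 101 7 101 24 24 5 4 12 4 6 103 5 5 102 24 24 24 6 6 12 6 102 100 24 24 24 24 23 23 23 26 1 2 23 4 0 23 103 12 23 12 23 23 12 100 25 12) (@D3.rec (fun _ => Nat) 0 1 0 25 1 97 23 100 102 98 25 98 23 101 23 1 99 3 23 25 100 23 68 104 0 1 15 23 23 26 23 23 25 0 1 23 101 14 103 25 23 100 25 102 23 25 0 0 1 15 0) (@D3.rec (fun _ => Nat) 23 1 99 1 101 3 23 25 100 23 109 1 99 3 25 14 2 101 100 3 0 23 0 1 0 1 5 16 1 100 3 23 102 14 2 2 4 3 3 23 23 4 98 99 23 99 25 1 105 3 25) (@D3.rec (fun _ => Nat) 2 14 2 2 4 3 14 14 4 4 5 15 15 0 0 1 26 15 23 23 15 0 15 0 75 1 0 1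 5 16 1 6 7 91 91 91 97 0 16 92 1 1 25 23 23 4 31 23 23 1 23) (@D3.rec (fun _ => Nat) 23 98 98 2 3 23 27 4 100 2 3 2 3 3 23 10 4 102 23 23 10 10 101 2 3 3 23 102 4 23 100 4 4 0 5 94 23 23 102 11 2 100 3 3 23 23 11 0 1 1 94) (@D3.rec (fun _ => Nat) 8 8 90 0 1 90 0 1 3 92 13 94 2 96 94 1 1 12 92 2 94 12 1 13 24 2 24 0 13 24 24 4 12 24 12 24 0 12 24 24 1 2 3 12 12 1 3 13 27 2 3) (@D3.rec (fun _ => Nat) 27 0 13 27 27 4 0 1 3 12 27 2 3 12 27 2 3 3 0 12 27 27 4 1 100 102 12 12 27 27 13 12 2 3 3 0 13 12 12 4 1 2 3 13 13 12 12 1 3 12 11) (@D3.rec (fun _ => Nat) 2 3 3 0 12 11 11 4 12 0 12 11 11 4 4 0 5 1 2 3 12 12 11 11 2 2 4 3 3 12 12 11 13 0 13 13 13 4 4 5 1 2 3 13 13 13 13 2 2 4 3) (@D3.rec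 (fun _ => Nat) 3 13 13 13 12 12 2 3 3 12 0 12 12 12 4 4 0 5 1 2 3 12 12 104 12 0 12 1 2 3 12 12 12 12 12 0 4 1 2 5 2 2 4 3 3 12 12 12 27 4 4)
def lv_f_6 : D2 → D3 → Nat := @D2.rec (fun _ => D3 → Nat) (@D3.rec (fun _ => Nat) 4 5 5 5 5 12 12 12 0 1 3 27 1 3 23 27 2 3 27 100 23 27 27 4 0 1 3 13 27 2 3 27 13 27 2 3 3 0 13 27 27 4 1 2 3 13 13 27 27 1 3) (@D3.rec (fun _ => Nat) 12 27 2 3 3 0 12 27 27 4 12 0 12 27 27 4 4 0 5 1 2 3 12 12 27 27 2 2 102 104 3 12 12 27 99 1 3 23 12 2 3 12 23 12 2 3 3 0 23 12 12) (@D3.rec (fun _ => Nat) 4 1 2 3 23 23 12 12 1 3 13 12 2 3 3 0 13 12 12 4 13 0 13 12 12 4 4 0 5 1 2 3 13 13 12 12 2 2 4 3 3 13 13 12 12 12 2 3 12 0 12) (@D3.rec (fun _ => Nat) 12 12 4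 4 5 1 2 3 12 12 12 12 0 12 1 2 3 12 12 12 12 12 0 4 1 2 5 2 2 4 3 3 12 12 12 11 4 4 4 5 5 5 5 12 12 12 1 3 13 2 3) (@D3.rec (fun _ => Nat) 3 13 13 4 99 23 100 13 4 4 0 5 1 98 3 23 13 13 2 2 4 3 3 23 23 13 13 13 2 3 0 13 13 13 4 4 5 1 2 3 13 13 13 0 13 1 2 3 13 13 13) (@D3.rec (fun _ => Nat) 13 13 0 4 1 2 5 2 2 4 3 3 13 13 13 27 4 4 4 5 5 5 5 13 13 13 12 0 66 13 13 4 0 12 1 2 3 12 12 13 13 13 68 4 5 2 2 4 3 3 12) (@D3.rec (fun _ => Nat) 12 13 1 2 3 12 12 2 2 4 3 3 12 0 12 13 13 0 13 1 2 6 15 2 3 27 4 4 4 5 5 5 5 12 12 12 27 5 5 4 23 4 6 6 5 5 5 12 12 12 4) (@D3.rec (fun _ => Nat) 100 104 23 2 1 2 3 12 2 27 4 4 5 5 12 27 5 5 4 10 4 6 6 5 99 5 12 12 12 1 2 3 12 2 27 4 4 5 5 12 22 2 2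 4 3 3 12 12 27 4 4) (@D3.rec (fun _ => Nat) 5 5 12 27 5 5 4 23 4 6 6 5 5 5 12 12 12 27 27 6 23 6 6 23 6 23 6 7 109 7 7 7 7 12 12 12 92 90 2 1 93 14 93 13 13 0 13 96 4 1 99) (@D3.rec (fun _ => Nat) 94 14 24 2 0 14 4 1 14 0 13 0 1 2 3 13 77 24 24 2 2 4 3 100 100 98 4 14 27 2 3 95 14 27 27 4 14 27 1 3 13 27 2 3 3 0 13 27 27 4 13) (@D3.rec (fun _ => Nat) 0 13 27 4 4 0 5 1 100 3 13 13 27 27 2 99 96 3 98 13 27 22 12 14 0 14 12 12 4 1 2 3 14 14 12 12 2 2 3 14 12 13 12 2 3 13 0 13 12 12 4) (@D3.rec (fun _ => Nat) 4 5 1 2 3 13 13 12 12 0 13 1 2 3 13 13 12 12 12 0 4 1 2 2 2 4 3 3 13 13 12 97 4 4 4 5 5 5 5 13 13 13 109 101 22 22 103 0 14 1 2) (@D3.rec (fun _ => Nat) 3 14 14 13 13 2 2 4 3 3 14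 14 13 27 4 4 4 97 5 5 5 14 14 14 13 0 13 103 13 4 0 13 1 2 3 13 13 13 13 13 70 4 2 2 4 3 3 13 13 13 1) (@D3.rec (fun _ => Nat) 2 3 13 13 2 2 4 3 3 13 0 13 103 13 0 13 1 2 15 2 27 4 4 4 5 5 5 5 13 13 13 27 5 5 4 23 4 6 6 5 5 5 13 13 13 1 14 27 2 3 0) (@D3.rec (fun _ => Nat) 14 27 27 4 14 0 14 27 27 4 4 5 1 99 103 14 14 27 27 105 14 27 13 27 13 0 13 27 27 4 1 2 3 13 13 27 27 0 13 1 2 3 13 13 27 27 27 0 4 1 2) (@D3.rec (fun _ => Nat) 2 2 4 3 3 13 13 27 11 4 4 4 5 102 99 5 13 13 13 14 14 14 0 14 14 14 4 1 2 3 14 14 14 14 0 14 1 2 3 14 14 14 14 14 69 4 2 2 4 3 3) (@D3.rec (fun _ => Nat) 14 14 14 101 4 4 4 5 5 14 14 14 13 0 13 0 13 1 2 3 13 13 13 13 2 2 4 3 3 13 13 13 1 2 3 13 13 2 2 4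 3 3 13 0 13 13 13 0 13 1 2) (@D3.rec (fun _ => Nat) 15 2 12 4 4 4 5 5 5 5 13 13 13 12 5 5 4 12 4 6 6 5 5 5 13 13 13 0 101 1 2 3 14 14 15 15 2 2 4 3 15 1 2 3 14 14 2 2 4 3 3) (@D3.rec (fun _ => Nat) 14 66 14 15 15 0 15 64 27 4 4 4 5 5 5 5 14 14 27 5 5 4 23 4 6 6 5 5 5 14 14 14 0 13 1 2 1 2 3 13 13 2 2 4 3 3 13 13 14 27 4) (@D3.rec (fun _ => Nat) 4 4 5 5 5 5 13 13 14 2 2 4 3 3 13 0 13 27 4 4 4 5 5 5 0 5 13 0 13 1 2 13 0 14 1 2 5 2 16 16 27 5 5 4 12 4 6 6 5 5 5) (@D3.rec (fun _ => Nat) 13 13 13 27 27 6 104 6 6 105 6 12 6 7 7 7 7 7 107 13 13 13 27 14 2 2 4 3 27 27 5 4 23 6 5 69 27 27 6 23 6 6 23 6 23 6 7 107 104 7 7) (@D3.rec (fun _ => Nat) 7 13 13 13 14 2 2 4 3 27 27 5 4 12 6 5 13 14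 14 27 4 4 4 5 5 5 5 13 13 27 5 4 22 6 5 13 27 27 6 104 6 6 12 6 103 6 7 7 98 7 100) (@D3.rec (fun _ => Nat) 7 13 13 13 6 102 102 100 106 13 13 58 25 27 97 99 25 25 27 99 25 0 25 27 27 99 27 1 2 27 2 4 4 101 101 95 5 25 25 25 5 5 4 13 4 6 6 5 5 5 25) (@D3.rec (fun _ => Nat) 25 25 103 25 25 14 4 4 105 101 101 5 25 25 25 25 0 25 4 103 101 0 105 25 0 25 1 2 25 0 14 1 2 5 2 16 16 5 5 4 13 4 101 6 5 5 5 25 25 25 105) (@D3.rec (fun _ => Nat) 6 6 6 13 6 13 6 7 7 7 7 7 7 25 25 25 4 4 95 105 5 5 25 25 25 5 5 4 13 4 6 6 5 5 5 25 25 25 5 5 4 0 4 6 0 6 5 0 5 1 2) (@D3.rec (fun _ => Nat) 5 25 0 25 1 2 25 5 2 3 1 2 6 2 7 7 104 27 6 6 6 13 6 13 6 101 7 102 7 7 7 25 25 25 6 103 104 25 6 6 13 6 7 103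 7 7 102 25 25 25 13) (@D3.rec (fun _ => Nat) 102 25 25 58 24 1 26 26 26 1 15 1 97 3 26 24 100 26 98 24 26 98 15 2 99 100 3 24 70 24 100 104 1 5 16 26 26 26 1 27 26 102 24 26 102 26 102 0 24 1 1)
def lv_f_7 : D2 → D3 → Nat := @D2.rec (fun _ => D3 → Nat) (@D3.rec (fun _ => Nat) 5 16 1 99 3 24 15 2 105 100 3 24 24 101 15 2 104 3 15 4 101 0 100 1 2 1 5 1 6 7 63 2 100 3 15 15 4 4 4 100 5 99 5 24 24 99 26 2 103 3 15) (@D3.rec (fun _ => Nat) 4 4 5 15 15 15 5 0 16 1 1 5 0 24 78 1 74 1 5 1 6 7 27 6 92 91 1 26 98 96 98 4 24 28 102 102 4 4 4 0 5 24 24 11 102 24 11 57 104 4 4) (@D3.rec (fun _ => Nat) 0 5 24 24 102 24 106 100 0 4 1 2 5 94 104 24 24 104 4 4 104 100 5 5 24 24 24 96 1 91 1 1 14 92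 2 98 93 13 13 92 92 13 14 25 0 14 25 25 1 2 3) (@D3.rec (fun _ => Nat) 99 14 0 13 0 25 1 2 3 13 2 2 14 28 2 3 3 0 14 28 28 4 1 100 97 103 14 28 28 1 3 13 28 2 96 3 0 13 4 13 0 13 28 28 4 4 0 5 1 98 102) (@D3.rec (fun _ => Nat) 13 13 28 104 13 28 14 0 14 12 12 4 4 5 1 2 3 14 14 12 12 2 2 4 3 3 101 14 12 13 12 2 3 3 13 0 13 12 12 4 4 0 5 1 2 3 13 13 12 0 13) (@D3.rec (fun _ => Nat) 1 2 3 13 13 12 12 12 0 4 1 2 5 2 2 4 3 3 13 13 12 100 4 4 4 5 5 13 13 13 0 14 1 2 3 14 14 13 13 13 69 4 5 2 2 4 3 3 14 14 13) (@D3.rec (fun _ => Nat) 28 4 4 4 5 5 5 5 14 14 14 13 0 13 13 13 4 4 5 5 0 13 1 2 3 13 13 102 100 13 0 4 1 2 5 2 2 4 3 3 13 13 104 1 2 3 13 13 2 2 4) (@D3.rec (fun _ => Nat) 3 3 13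 0 13 102 13 0 13 1 2 6 15 2 3 28 4 4 4 5 5 5 5 13 13 13 28 5 5 4 98 4 6 6 5 5 5 13 13 13 99 1 3 24 28 2 3 28 2 3 3) (@D3.rec (fun _ => Nat) 24 28 28 4 98 100 24 24 28 28 1 3 14 28 2 3 3 0 14 28 28 4 14 0 14 28 28 4 4 0 5 1 2 3 14 14 28 28 2 2 4 98 3 105 14 28 13 28 2 3 13) (@D3.rec (fun _ => Nat) 0 13 28 28 4 4 5 1 2 3 13 13 28 28 0 13 1 2 3 13 13 28 28 28 0 4 1 2 5 2 2 100 104 3 13 13 28 11 4 102 106 13 13 13 99 14 2 3 3 101 24) (@D3.rec (fun _ => Nat) 14 14 4 24 14 4 4 0 5 1 3 24 24 14 14 2 2 4 3 3 24 24 14 14 14 2 3 14 0 14 14 14 4 4 5 1 2 3 14 14 14 14 0 14 1 2 3 14 14 14 14) (@D3.rec (fun _ => Nat) 14 0 4 1 2 5 2 2 4 3 3 14 14 14 13 4 4 4 5 5 5 5 14 14 14 13 0 68 13 13 4 0 13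 1 2 3 13 13 13 13 13 68 4 5 2 2 4 3 3 13 13) (@D3.rec (fun _ => Nat) 13 1 2 3 13 13 2 2 4 3 3 13 0 13 13 13 0 13 1 2 6 15 2 3 12 4 4 4 5 5 5 5 13 13 13 102 5 5 4 24 4 6 5 5 5 13 13 13 2 3 3) (@D3.rec (fun _ => Nat) 15 4 4 5 15 15 99 24 24 102 15 15 0 4 1 2 5 2 100 3 15 4 4 4 98 5 104 5 24 24 0 69 15 15 4 1 2 3 14 14 15 15 15 67 4 5 2 2 4 3 15) (@D3.rec (fun _ => Nat) 1 2 3 14 14 2 2 4 3 3 14 0 14 15 15 0 15 1 2 6 17 2 3 28 4 4 4 5 5 5 5 14 14 28 5 5 4 10 4 6 6 5 5 5 14 14 14 0 13 1 2) (@D3.rec (fun _ => Nat) 3 68 65 14 14 1 2 3 13 13 2 2 4 3 3 13 70 13 14 14 0 14 61 6 28 4 4 4 5 5 5 5 13 13 23 2 2 4 3 3 13 0 13 28 4 4 4 5 5 5 0) (@D3.rec (fun _ => Nat) 5 13 0 13 1 2 13 0 14 1 2 14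 5 2 3 16 16 3 28 5 5 4 24 4 6 6 5 5 5 13 13 13 28 28 6 24 6 6 24 6 24 6 7 7 7 7 7 7 13 13 13) (@D3.rec (fun _ => Nat) 10 28 23 2 2 4 3 28 28 5 4 62 6 5 28 28 6 98 6 6 6 103 99 97 13 13 13 23 2 2 4 3 28 28 5 4 24 6 5 13 23 23 28 4 4 4 5 5 5 5 13) (@D3.rec (fun _ => Nat) 13 28 5 4 101 6 5 13 28 28 6 24 6 6 24 6 24 6 7 7 7 7 7 7 13 13 13 28 108 28 7 7 6 24 6 6 24 8 104 108 7 7 7 13 13 56 15 1 98 94 15) (@D3.rec (fun _ => Nat) 0 74 1 76 1 1 2 2 4 3 96 99 99 4 4 98 102 98 100 98 15 101 15 28 4 15 28 14 2 3 14 28 4 4 5 1 3 98 14 28 28 14 1 3 14 14 28 0 4 1 2) (@D3.rec (fun _ => Nat) 2 100 100 3 14 14 28 4 98 98 102 104 0 15 1 2 3 15 15 14 14 2 2 3 15 15 14 4 15 14 0 14 13 4 1 3 14 14 13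 13 13 70 4 2 2 4 3 3 14 13 1) (@D3.rec (fun _ => Nat) 3 14 14 2 2 4 3 3 14 0 14 13 0 13 1 2 15 2 99 4 4 4 5 5 5 5 14 14 14 106 5 5 4 24 4 100 6 5 5 98 14 14 101 109 101 23 23 23 1 2 3) (@D3.rec (fun _ => Nat) 15 15 2 2 4 3 3 15 15 15 28 4 4 4 103 5 5 5 15 15 15 5 4 4 105 99 5 5 5 15 15 15 0 14 1 2 3 14 14 101 14 1 98 3 14 14 2 2 4 3 3) (@D3.rec (fun _ => Nat) 14 70 14 101 14 0 14 57 28 4 4 4 5 5 5 5 57 14 14 15 2 2 4 3 3 14 0 14 28 4 4 4 5 5 5 0 5 14 0 14 1 2 14 0 103 1 2 5 2 16 16) (@D3.rec (fun _ => Nat) 28 5 5 4 24 4 6 6 5 5 5 14 14 14 28 28 6 24 6 6 24 6 24 6 7 7 7 7 7 7 14 14 14 15 15 95 15 28 4 1 97 97 15 15 28 28 15 1 101 15 15) (@D3.rec (fun _ => Nat) 28 28 28 69 4 103 15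 15 28 15 14 1 99 3 14 14 28 28 2 2 4 3 3 14 14 28 1 14 14 2 2 4 3 3 14 0 14 28 28 1 2 28 2 12 4 4 4 5 101 5 5) (@D3.rec (fun _ => Nat) 14 14 14 12 5 13 4 100 101 97 99 5 14 14 14 0 0 15 1 2 3 15 15 14 14 2 2 4 3 3 15 15 14 1 3 15 15 2 2 4 3 3 15 69 15 14 14 0 14 69 101)
def lv_f_8 : D2 → D3 → Nat := @D2.rec (fun _ => D3 → Nat) (@D3.rec (fun _ => Nat) 4 4 4 5 5 5 15 15 15 5 24 4 5 15 15 15 14 1 1 3 14 14 2 2 4 3 3 14 14 14 13 4 4 4 5 5 5 5 14 14 14 105 2 2 3 3 14 0 14 13 4) (@D3.rec (fun _ => Nat) 4 4 5 5 5 0 5 14 0 14 1 2 14 14 1 2 5 2 16 16 13 5 5 4 13 4 6 6 5 5 5 14 14 14 104 103 6 107 6 6 13 6 13 6 7 7 7 7 7 7 14) (@D3.rec (fun _ => Nat) 14 14 1 101 2 2 4 3 3 15 15 28 4 4 5 15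 2 2 4 3 3 69 15 28 4 4 4 5 5 5 0 5 15 68 15 66 15 0 15 1 2 28 5 5 4 24 4 6 6 5 5) (@D3.rec (fun _ => Nat) 69 15 28 28 6 24 6 6 24 6 24 6 7 7 7 7 7 7 15 15 15 1 105 3 14 2 15 2 2 4 3 3 14 28 4 4 4 5 5 5 5 14 14 14 28 5 5 4 13 4 6) (@D3.rec (fun _ => Nat) 6 5 5 14 14 101 15 28 4 4 4 5 5 5 0 5 14 0 14 1 2 14 28 5 5 4 0 4 6 0 6 5 0 5 1 2 5 14 0 14 1 2 14 5 2 3 1 2 6 2 7) (@D3.rec (fun _ => Nat) 7 17 28 28 6 99 6 6 13 6 13 6 7 7 7 7 7 7 14 14 14 28 7 7 108 7 6 99 6 105 104 103 7 104 109 14 14 56 15 15 28 4 4 5 28 6 24 6 24 7 106) (@D3.rec (fun _ => Nat) 28 106 28 7 6 24 6 6 24 107 109 109 109 7 103 68 70 58 15 4 4 5 28 6 101 6 13 7 7 15 15 15 28 5 5 4 23 4 6 6 5 5 14 14 28 6 23 6 23 7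 7) (@D3.rec (fun _ => Nat) 28 7 99 7 6 13 6 100 98 100 98 7 14 14 56 102 104 97 26 26 26 0 26 1 2 26 28 99 99 2 28 14 4 103 95 97 5 26 26 26 6 14 6 6 99 6 14 6 97 7 7) (@D3.rec (fun _ => Nat) 95 7 7 26 26 26 26 26 14 4 101 103 5 26 26 26 26 0 26 1 75 101 0 103 1 2 105 26 0 26 1 2 26 5 2 3 1 2 6 2 7 7 6 6 14 6 14 6 101 101 7) (@D3.rec (fun _ => Nat) 101 7 7 26 26 26 7 7 7 6 14 6 14 6 14 105 8 8 7 7 7 26 26 0 4 4 101 103 5 5 5 26 26 26 6 6 6 14 6 14 6 7 7 105 7 7 7 26 26 26 6) (@D3.rec (fun _ => Nat) 6 6 0 6 1 2 6 101 0 7 1 2 7 7 0 7 1 2 7 6 2 3 0 26 1 2 26 7 2 3 26 7 7 3 28 2 6 6 7 7 6 6 14 14 6 101 104 102 26 26 56) (@D3.rec (fun _ => Nat) 7 6 14 6 14 102 102 26 26 58 14 0 25 28 27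 27 106 16 2 99 3 106 27 103 100 25 16 4 101 102 102 25 63 6 7 27 27 99 27 102 25 102 1 78 100 6 7 2 101 3 16) (@D3.rec (fun _ => Nat) 4 107 99 102 25 16 4 104 16 16 1 2 5 2 6 7 28 6 61 4 104 16 16 16 5 4 100 101 25 99 4 105 16 16 5 16 16 16 16 1 93 6 1 2 99 5 6 99 6 28 0) (@D3.rec (fun _ => Nat) 98 0 102 0 4 1 2 5 25 59 57 57 4 1 2 5 25 0 102 1 2 6 15 2 3 102 104 25 25 25 4 4 108 102 5 5 5 25 25 25 15 97 93 94 15 0 1 2 3 99 2) (@D3.rec (fun _ => Nat) 2 101 101 1 98 1 2 2 2 15 0 15 29 29 4 4 5 1 100 101 101 15 29 29 97 97 103 29 14 29 2 94 3 102 99 14 4 0 96 1 14 100 14 1 98 100 14 14 29 0 4) (@D3.rec (fun _ => Nat) 1 2 5 102 14 14 0 15 1 2 3 15 15 14 14 14 67 4 5 2 2 4 3 3 15 15 14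 97 4 4 4 107 5 103 5 101 103 15 14 0 14 13 13 4 4 98 5 0 1 2 3) (@D3.rec (fun _ => Nat) 14 14 13 0 4 1 2 5 2 2 3 14 1 2 3 14 14 2 2 4 3 3 14 0 14 13 0 13 1 2 6 15 2 3 100 4 4 4 5 5 5 14 14 14 5 4 14 14 1 2 3) (@D3.rec (fun _ => Nat) 15 15 2 2 4 3 3 15 69 15 15 15 0 15 60 6 29 4 4 4 5 5 5 5 15 15 15 29 5 5 4 22 4 6 6 5 5 5 15 15 15 0 14 1 2 3 14 14 100 102 14) (@D3.rec (fun _ => Nat) 4 68 4 5 5 1 2 3 14 14 2 2 4 3 3 14 0 14 102 0 102 1 2 6 16 2 3 29 4 4 4 5 5 5 14 14 24 2 2 4 3 3 14 0 14 29 4 4 4 5 5) (@D3.rec (fun _ => Nat) 5 0 5 14 0 14 1 2 14 0 102 1 2 14 5 2 3 16 16 3 29 5 5 4 104 4 6 6 5 5 5 14 14 14 29 6 6 6 106 6 98 6 7 7 7 7 7 7 14 14 14) (@D3.rec (fun _ => Nat) 101 2 3 3 25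 29 4 4 4 96 5 25 25 29 29 100 100 102 25 25 29 15 29 2 3 15 0 15 29 29 4 4 5 1 2 3 15 15 29 29 97 15 1 2 3 15 15 29 29 29 0) (@D3.rec (fun _ => Nat) 4 1 2 5 2 2 4 98 3 15 15 29 12 4 4 101 102 100 103 105 15 94 96 70 29 29 4 96 14 1 2 3 14 14 29 29 29 68 4 5 2 2 100 102 3 14 14 29 1 2 3) (@D3.rec (fun _ => Nat) 14 14 2 2 100 3 3 14 0 14 29 100 29 1 2 6 29 2 3 12 4 102 100 104 14 14 14 106 14 14 14 99 101 14 4 4 5 101 25 25 14 14 25 14 14 0 4 1 2 5 2) (@D3.rec (fun _ => Nat) 3 3 25 25 14 4 4 4 5 5 5 5 25 25 25 98 0 71 14 14 4 0 15 1 2 3 15 15 14 14 14 73 4 5 2 2 4 3 3 15 15 14 1 2 3 15 15 2 2 4 3) (@D3.rec (fun _ => Nat) 3 15 0 15 14 14 0 14 1 2 6 16 2 3 13 4 4 4 5 5 5 5 15 15 15 99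 5 5 4 10 4 105 6 5 5 5 15 15 15 98 0 14 1 2 3 70 70 14 14 1 2) (@D3.rec (fun _ => Nat) 3 14 14 2 2 4 3 3 14 68 14 14 14 0 14 68 6 13 4 4 4 5 5 5 5 14 14 14 24 2 2 4 3 3 14 0 14 13 4 4 4 5 5 5 0 5 14 0 14 1 2) (@D3.rec (fun _ => Nat) 14 0 14 1 2 14 5 2 3 16 16 3 102 5 5 4 25 4 6 6 5 5 5 14 14 14 104 25 6 6 25 6 25 6 7 7 7 7 14 14 14 4 4 5 15 15 69 4 5 15 101)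
def lv_f_9 : D2 → D3 → Nat := @D2.rec (fun _ => D3 → Nat) (@D3.rec (fun _ => Nat) 64 25 100 102 0 15 1 2 6 104 2 3 4 100 5 10 4 100 104 25 1 2 3 71 58 15 15 2 2 4 3 3 69 15 100 15 0 15 60 6 29 4 4 5 24 2 2 4 3 3 66) (@D3.rec (fun _ => Nat) 15 29 4 4 4 5 5 5 0 5 15 64 15 1 2 15 0 15 1 2 15 5 2 3 100 17 3 29 5 5 4 62 4 6 6 5 5 15 29 29 6 98 6 6 102 6 11 6 7 7 7) (@D3.rec (fun _ => Nat) 104 15 15 15 1 2 3 65 14 2 2 4 3 3 67 65 15 24 2 2 4 3 3 67 14 29 4 4 4 5 5 5 0 5 14 70 14 59 14 0 15 1 2 15 68 29 5 5 4 25 4) (@D3.rec (fun _ => Nat) 6 6 5 5 14 14 24 24 29 4 4 4 5 5 5 0 5 14 0 14 1 2 14 29 5 5 4 0 4 6 0 6 5 0 5 1 2 5 14 0 14 1 2 14 5 2 3 1 2 15 6) (@D3.rec (fun _ => Nat) 2 3 7 7 3 4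 17 17 29 29 6 25 6 6 25 6 25 6 7 7 7 7 7 7 14 14 14 29 109 29 7 25 7 25 7 6 25 6 25 25 6 25 8 8 108 7 7 7 14 14 56) (@D3.rec (fun _ => Nat) 24 24 29 4 4 5 29 6 100 6 104 99 99 24 24 29 4 4 5 29 6 25 6 25 7 108 24 24 24 29 5 5 4 103 4 6 6 5 5 14 14 29 6 6 101 7 7 29 105 29 7) (@D3.rec (fun _ => Nat) 25 7 25 7 6 25 6 25 25 6 25 8 104 8 7 7 7 14 14 67 8 8 8 8 25 102 108 103 9 9 101 16 1 75 97 4 4 98 98 101 100 16 16 16 29 15 4 15 15 29 72) (@D3.rec (fun _ => Nat) 4 2 100 3 100 29 15 15 2 3 3 15 0 15 1 2 29 2 4 102 105 102 100 15 96 104 1 3 16 16 2 2 3 3 16 16 14 4 16 16 1 3 15 15 14 2 3 3 72 15 14) (@D3.rec (fun _ => Nat) 0 14 71 99 4 4 4 5 5 5 15 2 3 3 0 15 99 4 4 4 5 5 5 0 5 15 0 15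 1 2 15 1 2 5 2 16 16 106 5 5 4 25 4 6 6 5 5 100 15 79 99) (@D3.rec (fun _ => Nat) 6 6 6 25 104 106 7 7 104 15 102 102 103 109 103 24 24 24 99 2 2 4 3 3 16 29 4 4 4 5 5 5 5 16 16 16 5 4 4 103 105 5 5 5 16 16 16 6 6 6 105) (@D3.rec (fun _ => Nat) 107 99 7 7 7 16 16 16 1 3 15 2 2 4 3 3 15 103 2 100 3 3 15 15 29 4 4 4 5 5 5 0 5 57 68 15 57 15 0 101 1 2 29 5 5 4 25 4 6 6 5) (@D3.rec (fun _ => Nat) 5 5 59 57 15 16 29 4 4 4 5 5 5 0 5 15 68 15 1 2 15 29 5 5 4 0 4 6 0 6 5 0 5 1 2 5 15 0 15 1 2 15 5 2 3 1 2 6 2 7 7) (@D3.rec (fun _ => Nat) 17 29 29 6 25 6 6 25 6 25 6 7 7 7 7 7 7 15 15 15 29 7 25 7 25 7 6 25 6 25 25 6 25 104 8 8 7 7 7 15 15 58 16 95 16 16 29 97 16 16 29) (@D3.rec (fun _ => Nat)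 16 16 99 101 16 71 16 29 29 71 16 16 15 15 2 101 3 3 15 15 29 13 4 4 4 99 5 15 15 15 15 13 4 4 4 101 5 5 15 0 15 1 2 15 104 2 29 29 13 5 4) (@D3.rec (fun _ => Nat) 14 4 101 95 5 5 15 15 15 14 14 6 101 103 97 99 101 15 15 1 1 3 16 16 2 2 4 3 3 16 16 16 99 4 4 4 5 5 5 16 16 16 2 3 3 16 71 16 99 4 4) (@D3.rec (fun _ => Nat) 4 5 5 5 0 5 16 71 16 71 16 16 1 2 5 4 25 4 5 5 16 16 16 25 6 16 16 16 15 107 2 3 3 15 15 106 4 4 4 5 5 5 5 15 15 15 14 5 5 4 14) (@D3.rec (fun _ => Nat) 4 6 5 5 15 15 15 107 4 4 5 5 15 0 15 1 80 15 14 5 5 4 0 4 6 6 5 0 5 1 2 5 15 0 15 1 2 15 5 2 3 6 2 7 7 17 104 103 6 105 6) (@D3.rec (fun _ => Nat) 6 14 6 14 6 7 7 7 7 7 7 15 15 15 106 7 104 7 110 7 6 14 6 108 14 6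 14 8 8 8 7 7 100 15 15 0 29 4 4 4 5 5 5 16 29 5 16 29 4 4 4) (@D3.rec (fun _ => Nat) 5 5 0 5 68 16 29 5 5 4 0 4 6 0 6 5 0 5 1 2 5 66 16 61 16 57 1 2 2 29 29 6 25 6 6 25 6 25 7 7 7 7 62 29 7 7 25 7 6 25 6) (@D3.rec (fun _ => Nat) 25 6 25 111 8 109 7 7 108 70 70 58 2 103 3 29 16 29 4 4 4 5 5 5 15 29 5 5 4 66 4 6 6 5 5 5 28 15 15 29 29 6 101 6 6 14 6 14 7 7 7) (@D3.rec (fun _ => Nat) 7 15 105 101 16 16 29 5 5 4 0 4 6 101 6 5 0 5 1 2 5 28 27 15 1 2 15 5 2 3 29 29 6 0 6 6 0 6 1 2 6 7 0 7 1 2 7 7 0 7 1) (@D3.rec (fun _ => Nat) 2 7 6 2 3 28 15 1 2 15 7 2 3 15 7 7 3 29 2 6 6 7 29 29 7 99 7 103 7 6 97 6 14 14 6 104 102 8 8 7 102 7 15 15 56 8 102 104 106 112 16) (@D3.rec (fun _ => Nat) 16 16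 29 5 29 108 7 25 106 8 109 100 103 104 16 16 5 29 7 101 6 14 14 100 16 16 16 24 16 29 29 6 24 6 6 24 6 24 7 7 7 7 15 29 7 24 6 24 24 100 14) (@D3.rec (fun _ => Nat) 8 96 100 98 0 101 27 97 27 1 2 2 101 101 15 6 101 95 97 27 27 27 7 103 7 6 101 6 15 99 8 97 7 7 27 27 104 27 15 6 105 103 27 27 27 99 27 97 1 99 99) (@D3.rec (fun _ => Nat) 0 101 1 2 6 2 3 0 27 1 2 27 7 2 3 27 105 7 3 2 6 6 7 15 6 15 15 6 15 103 105 101 7 101 27 27 0 8 8 15 8 15 8 15 8 99 9 9 9 9 0) (@D3.rec (fun _ => Nat) 27 27 0 1 6 6 6 103 103 105 7 7 7 27 27 27 7 7 6 15 6 15 15 6 103 8 103 7 7 7 27 27 58 7 7 6 0 6 0 1 2 6 25 2 3 103 0 103 1 2 8) (@D3.rec (fun _ => Nat) 2 3 0 104 1 2 7 6 2 3 7 6 6 3 1 2 27 7 2 3 27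 7 7 3 4 57 7 7 29 29 8 17 15 0 15 104 0 15 1 104 4 99 106 105 17 108 6 107 100 6 4)
def lv_f_10 : D2 → D3 → Nat := @D2.rec (fun _ => D3 → Nat) (@D3.rec (fun _ => Nat) 101 17 17 105 17 17 17 17 6 2 7 7 6 29 63 61 17 17 17 17 17 17 17 17 17 6 2 99 1 2 100 1 2 100 1 2 6 15 2 3 57 55 57 6 16 2 3 26 1 2 106) (@D3.rec (fun _ => Nat) 5 2 3 16 16 3 4 102 102 104 26 26 6 6 6 102 110 102 7 7 7 26 26 26 100 16 1 2 2 99 97 100 2 98 16 1 98 104 16 16 30 30 30 69 4 5 101 101 101 103 98) (@D3.rec (fun _ => Nat) 15 4 96 15 15 1 2 98 98 103 15 15 102 102 15 0 15 1 2 6 30 2 3 15 1 2 3 16 16 2 2 4 3 3 16 69 16 14 14 0 14 69 6 99 4 4 4 105 5 5 5) (@D3.rec (fun _ => Nat) 99 16 16 5 4 101 103 99 101 99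 100 1 2 3 15 15 14 72 4 98 5 1 100 2 2 3 3 0 15 1 2 6 16 2 3 100 4 15 2 2 4 3 3 0 15 101 4 4 4 5 5) (@D3.rec (fun _ => Nat) 5 0 5 15 0 15 1 2 15 1 2 14 5 2 3 16 16 3 5 4 4 5 15 15 25 2 2 4 3 3 68 66 16 30 4 4 4 5 5 5 0 5 16 71 16 60 16 0 15 1 2) (@D3.rec (fun _ => Nat) 15 69 30 5 5 4 23 4 6 6 5 5 5 16 16 16 30 6 6 6 23 6 23 6 7 7 7 7 16 16 16 1 2 3 72 15 2 2 4 3 3 67 68 15 102 0 102 6 61 6 7) (@D3.rec (fun _ => Nat) 25 2 2 4 3 3 15 65 15 30 4 4 4 5 5 5 0 5 15 1 2 15 1 2 106 5 2 3 17 17 3 30 5 4 4 5 5 15 25 25 30 4 4 4 5 5 5 0 5 15 27) (@D3.rec (fun _ => Nat) 15 1 2 15 30 5 5 4 0 4 6 0 6 5 0 5 1 2 5 15 29 15 1 2 15 5 2 3 1 2 104 6 2 3 7 7 3 4 17 17 30 6 6 6 102 6 104 6 7 7 7) (@D3.rec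 (fun _ => Nat) 7 7 7 15 15 15 7 7 7 6 104 6 106 6 100 8 8 8 7 7 7 15 15 56 101 4 4 5 26 26 30 96 4 96 5 26 26 30 98 100 100 26 26 26 95 71 30 30 4 95 16) (@D3.rec (fun _ => Nat) 1 2 3 16 16 30 30 96 4 5 2 2 4 3 16 16 30 99 96 16 16 2 2 4 3 3 16 0 16 30 30 30 1 2 6 2 3 14 4 4 100 98 98 99 16 16 104 100 103 105 107) (@D3.rec (fun _ => Nat) 96 98 102 70 70 30 96 96 15 15 2 2 98 3 3 15 70 15 30 0 30 70 6 13 4 100 97 104 99 15 15 2 2 4 3 3 15 0 15 13 4 4 100 100 99 100 5 15 0 15 1) (@D3.rec (fun _ => Nat) 2 15 100 30 98 2 3 30 30 3 100 108 15 15 15 15 15 99 16 16 4 5 99 103 26 16 0 16 1 2 6 2 3 4 4 101 5 26 26 26 5 5 4 10 4 100 6 101 5 5 26) (@D3.rec (fun _ => Nat) 26 26 105 100 1 2 3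 71 70 16 16 1 2 3 16 16 2 2 4 3 3 16 73 16 16 0 16 73 6 15 4 4 4 5 5 5 16 16 16 25 2 2 4 3 3 16 0 16 101 4 4) (@D3.rec (fun _ => Nat) 4 5 5 5 0 5 16 0 16 1 2 16 16 1 2 16 5 2 3 18 3 105 5 5 4 62 4 6 5 5 5 16 16 16 105 98 6 6 104 6 11 6 103 107 7 7 7 7 16 16 16) (@D3.rec (fun _ => Nat) 98 1 102 3 72 15 2 2 4 3 3 70 70 15 25 2 2 4 3 3 15 70 15 14 4 4 4 5 5 5 0 5 15 70 15 70 15 0 15 1 2 15 70 100 5 5 4 26 4 6 6) (@D3.rec (fun _ => Nat) 5 5 5 15 15 15 25 25 105 4 4 4 5 5 5 0 5 15 79 15 1 2 15 100 5 5 4 0 4 6 0 6 5 0 5 1 2 5 15 77 15 1 2 15 5 2 3 1 2 15 6) (@D3.rec (fun _ => Nat) 2 3 7 7 3 4 17 17 102 6 26 6 6 26 6 26 6 7 7 7 7 7 15 15 15 26 7 6 26 6 26 6 26 7 7 15 15 4 71 99 17 71 6 66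 100 1 2 17 5 2 3) (@D3.rec (fun _ => Nat) 98 3 4 11 2 2 4 3 3 69 58 17 30 4 4 4 5 5 0 5 60 16 105 102 1 2 17 64 30 5 25 25 30 4 4 4 5 5 0 5 62 16 30 5 5 4 0 4 6 0 6) (@D3.rec (fun _ => Nat) 5 0 5 1 2 5 16 63 16 5 2 3 1 2 17 6 2 3 7 7 3 4 102 19 30 30 6 98 6 6 104 6 60 7 7 30 7 105 7 6 103 103 25 2 2 4 3 3 61 30 4) (@D3.rec (fun _ => Nat) 4 4 5 5 5 5 62 58 25 25 30 4 4 4 5 5 0 5 61 15 30 5 5 4 0 4 6 0 6 5 0 5 1 2 5 15 61 15 59 1 2 16 2 3 64 30 30 6 26 6 6) (@D3.rec (fun _ => Nat) 26 6 26 7 7 7 15 107 25 25 25 30 5 5 4 0 4 6 0 6 5 0 5 1 2 5 15 1 2 15 5 2 3 30 30 6 0 6 6 0 6 1 2 6 7 0 7 1 2 7 7) (@D3.rec (fun _ => Nat) 0 7 1 2 7 6 2 3 15 1 2 15 7 2 3 15 7 7 3 4 30 2 3 6 6 3 4 7 7 4 5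 102 30 107 30 7 26 7 26 7 6 26 6 26 26 6 26 8 8 8 7) (@D3.rec (fun _ => Nat) 7 7 15 15 61 30 30 109 30 8 26 8 26 8 26 26 8 26 8 26 9 108 109 9 9 101 110 25 25 25 30 5 25 25 25 5 30 102 26 6 26 26 112 25 25 25 105 25 30 6 6) (@D3.rec (fun _ => Nat) 6 103 6 103 7 7 7 7 15 30 7 6 99 99 30 103 30 8 26 8 8 8 26 26 26 8 26 101 106 9 9 9 0 8 8 104 102 103 17 17 17 16 16 72 16 71 4 100 16 4 4) (@D3.rec (fun _ => Nat) 102 5 98 0 16 1 2 16 2 30 30 103 105 102 98 2 3 3 17 17 4 4 5 17 17 17 2 3 3 16 4 4 0 5 71 16 1 2 104 5 5 4 6 100 4 4 5 1 2 16 107) (@D3.rec (fun _ => Nat) 5 5 4 0 4 6 6 5 0 5 1 2 5 79 16 1 2 16 5 2 3 6 2 104 7 17 99 6 6 6 26 6 26 104 7 7 102 100 79 6 6 102 104 7 102 100 100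 102 107 103 105) (@D3.rec (fun _ => Nat) 25 25 25 99 4 4 4 5 5 5 17 5 5 4 67 4 103 6 5 5 5 69 17 17 6 6 6 103 103 105 7 7 7 17 17 17 6 6 6 107 105 107 7 7 7 17 17 58 2 3 4)
def lv_f_11 : D2 → D3 → Nat := @D2.rec (fun _ => D3 → Nat) (@D3.rec (fun _ => Nat) 4 4 5 5 5 16 4 4 110 103 5 5 16 16 30 5 5 4 0 4 6 0 6 5 0 5 1 2 5 55 63 16 57 1 2 2 30 30 6 26 6 6 26 6 26 6 7 7 7 7 7) (@D3.rec (fun _ => Nat) 7 57 56 16 105 17 30 5 5 4 0 4 6 6 5 0 5 1 2 5 29 16 70 16 5 2 3 30 30 6 0 6 6 0 6 1 2 6 7 0 7 1 2 7 7 0 7 1 2 7 6) (@D3.rec (fun _ => Nat) 2 3 28 16 1 2 16 7 2 3 16 7 7 3 2 6 6 7 30 30 7 26 7 26 7 6 26 6 26 26 6 26 107 8 8 7 7 7 16 16 60 30 8 26 8 26 8 26 8 26 26) (@D3.rec (fun _ => Nat)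 8 104 9 9 9 17 17 97 99 17 17 97 17 17 17 17 99 71 17 71 17 17 16 16 4 4 99 5 16 16 14 4 5 16 16 16 16 14 4 101 4 97 5 5 16 97 16 1 2 16 101) (@D3.rec (fun _ => Nat) 2 3 102 104 6 15 6 97 7 16 16 16 15 103 97 101 16 2 3 3 17 4 4 4 5 5 5 5 17 17 5 4 4 5 5 5 97 17 17 4 4 5 5 17 17 73 17 5 5 4 0) (@D3.rec (fun _ => Nat) 4 6 0 5 1 2 5 17 71 17 71 17 73 2 26 6 26 6 7 17 17 17 26 17 17 84 4 4 5 5 16 16 16 101 5 5 4 68 4 6 5 5 16 16 16 99 101 6 6 15 6) (@D3.rec (fun _ => Nat) 7 7 16 16 16 4 103 4 5 5 5 97 16 1 80 16 106 80 107 101 6 105 6 6 0 6 1 2 6 7 7 7 7 0 7 1 2 7 6 2 3 79 16 1 2 16 7 2 3 16 7) (@D3.rec (fun _ => Nat) 7 3 6 6 7 109 103 7 7 105 7 6 15 6 15 15 6 15 8 8 7 7 7 16 16 0 101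 8 103 8 109 8 15 8 101 15 8 110 15 9 9 9 104 84 80 80 82 1 30 5 5) (@D3.rec (fun _ => Nat) 63 4 6 5 30 17 17 30 5 5 0 4 105 6 1 2 5 60 30 30 6 0 6 6 0 6 1 2 6 7 0 7 1 2 7 0 7 1 2 7 2 3 61 17 61 30 2 30 30 7 26) (@D3.rec (fun _ => Nat) 7 26 6 26 6 26 26 108 8 7 8 8 26 8 109 102 9 104 4 107 17 17 5 5 68 4 6 5 30 30 6 68 6 6 63 6 68 6 7 7 7 7 7 7 28 16 30 30 7 101 7) (@D3.rec (fun _ => Nat) 105 6 15 6 15 15 102 8 7 109 17 105 17 30 30 6 106 6 6 0 6 1 2 6 7 105 7 106 7 7 0 7 1 2 7 6 2 3 30 29 16 7 2 3 7 7 3 30 0 30 7) (@D3.rec (fun _ => Nat) 0 7 1 2 7 6 0 6 0 1 2 6 14 2 3 104 0 8 1 2 8 30 2 3 0 7 1 2 7 6 2 3 7 6 6 3 30 16 7 2 3 16 7 7 3 4 54 7 7 30 30) (@D3.rec (fun _ => Nat) 8 30 8 97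 103 8 8 97 17 15 8 102 9 104 98 0 104 17 17 30 105 17 17 15 17 25 17 17 25 17 25 17 30 30 7 25 7 25 6 25 6 25 25 102 8 7 25 15 0 0 1) (@D3.rec (fun _ => Nat) 28 102 2 16 97 28 28 0 8 8 101 8 105 101 9 99 9 100 28 28 104 28 16 105 28 28 86 1 2 6 2 6 3 1 2 28 2 102 28 7 3 81 83 16 16 8 16 16 16 108 103) (@D3.rec (fun _ => Nat) 101 0 28 28 85 1 9 9 16 8 16 8 93 103 10 0 9 9 0 1 28 82 88 1 88 6 6 6 103 103 103 7 7 7 28 28 57 8 8 16 16 8 16 16 8 105 105 0 8 0 1) (@D3.rec (fun _ => Nat) 2 8 1 3 2 26 2 3 8 26 3 4 0 1 2 2 3 3 1 2 104 8 2 3 8 8 3 4 0 8 8 105 2 3 113 9 3 4 9 9 4 55 30 18 18 1 16 1 18 18 18) (@D3.rec (fun _ => Nat) 18 18 18 6 6 7 61 18 18 18 18 18 18 18 31 2 3 16 2 83 100 2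 79 16 16 3 81 59 57 100 17 3 4 6 2 3 7 7 3 17 17 4 5 104 104 27 6 6 6 106 104) (@D3.rec (fun _ => Nat) 106 7 7 92 27 27 87 17 17 104 102 106 101 69 17 31 98 31 69 6 101 16 16 96 16 31 2 3 103 101 105 100 16 102 16 1 2 16 98 2 3 31 31 3 2 2 3 3 17 69 17) (@D3.rec (fun _ => Nat) 99 4 4 4 5 5 5 0 5 101 69 17 69 17 0 16 1 2 16 69 5 4 4 101 5 99 101 17 101 103 101 101 100 2 2 3 3 74 16 74 6 102 4 4 5 1 2 16 109 2 83) (@D3.rec (fun _ => Nat) 17 17 3 4 4 4 5 5 0 5 1 2 16 5 5 4 0 4 6 5 1 2 5 16 1 2 16 5 2 3 6 2 3 7 7 3 4 17 17 6 26 26 31 4 4 4 5 5 5 0 5) (@D3.rec (fun _ => Nat) 62 60 17 31 5 5 4 0 4 6 0 6 5 0 5 1 2 5 17 62 17 58 1 2 104 2 3 65 31 6 6 6 24 6 24 6 7 7 7 7 17 17 17 7 7 24 6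 24 6 24 8) (@D3.rec (fun _ => Nat) 7 7 17 17 72 2 2 4 3 3 62 31 4 4 4 5 5 5 0 5 61 59 16 1 2 107 6 65 26 4 4 4 5 5 5 0 5 16 60 16 31 5 5 4 0 4 6 5 1 2 5) (@D3.rec (fun _ => Nat) 16 5 2 3 6 2 3 7 7 3 4 18 18 31 6 6 7 16 26 26 26 31 5 5 4 0 4 6 0 6 5 0 5 1 2 5 16 29 16 5 2 3 31 31 6 0 6 6 0 6 1) (@D3.rec (fun _ => Nat) 2 6 7 7 1 2 7 7 0 7 1 2 7 6 2 3 16 29 16 7 2 3 16 7 7 3 4 31 2 3 6 6 3 4 7 7 4 5 102 7 7 7 6 104 6 104 104 6 106 8 8) (@D3.rec (fun _ => Nat) 8 7 7 7 16 16 0 8 8 8 108 8 106 8 108 8 9 9 9 9 9 85 4 5 27 98 6 100 27 27 100 102 27 27 97 97 73 72 31 31 98 101 17 17 2 2 4 3 3 17 96) (@D3.rec (fun _ => Nat) 17 31 96 6 14 4 4 98 17 17 98 101 17 0 17 4 4 4 98 100 5 103 17 1 2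 17 31 31 2 3 3 102 102 101 17 103 107 96 98 100 102 72 72 98 98 98 16 70 16 14 4) (@D3.rec (fun _ => Nat) 4 100 100 99 0 5 101 70 16 70 16 1 2 31 70 99 99 106 101 16 4 4 4 102 105 101 102 5 16 99 16 1 2 16 106 4 102 106 102 102 5 16 80 16 1 2 16 100 2 3 100)
def lv_f_12 : D2 → D3 → Nat := @D2.rec (fun _ => D3 → Nat) (@D3.rec (fun _ => Nat) 96 100 3 4 102 16 16 16 16 83 16 6 101 27 1 2 16 2 3 3 87 4 101 5 27 27 6 6 11 6 102 102 101 104 27 27 27 102 100 2 2 4 3 3 72 16 2 2 4 3 3) (@D3.rec (fun _ => Nat) 78 78 17 101 4 4 4 5 5 5 0 5 80 17 75 17 1 2 16 75 101 5 4 4 5 5 17 17 26 4 4 4 5 5 5 0 5 17 80 17 1 2 17 103 5 5 4 0 4 6 5) (@D3.rec (fun _ => Nat) 5 1 2 5 17 101 17 1 2 17 5 2 3 16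 6 2 3 7 3 4 18 105 100 6 6 104 6 62 6 7 7 7 17 17 17 104 7 6 101 6 110 6 104 104 7 7 17 17 2 102 3) (@D3.rec (fun _ => Nat) 3 72 4 4 4 5 5 5 5 78 72 74 26 26 4 4 4 5 5 5 0 5 16 70 16 70 16 100 5 5 4 0 4 6 0 6 5 0 5 1 2 5 16 70 16 70 16 70 1 2 16) (@D3.rec (fun _ => Nat) 2 3 70 102 6 27 6 6 6 27 6 7 7 7 99 7 7 16 16 16 26 26 26 104 5 5 4 0 4 6 0 6 5 0 5 1 2 5 16 81 16 5 2 3 102 102 6 0 6 6 0) (@D3.rec (fun _ => Nat) 6 1 2 6 0 7 1 2 7 7 0 7 1 2 7 6 2 3 16 79 16 7 2 3 16 7 7 3 4 2 3 6 6 3 4 7 7 4 5 27 7 27 7 6 27 6 27 27 6 27 8) (@D3.rec (fun _ => Nat) 7 7 7 16 16 89 27 27 8 27 8 27 27 9 99 17 100 6 2 3 7 3 102 4 4 4 4 5 5 5 5 64 56 31 5 5 0 4 105 6 1 2 5 58 102 102 2 3 64 31 26) (@D3.rec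 (fun _ => Nat) 26 26 31 5 5 0 4 0 6 1 2 5 60 31 31 6 0 6 6 0 6 1 2 6 7 1 2 7 7 1 2 7 6 2 3 17 67 7 7 3 4 31 2 3 6 6 3 4 7 7 4) (@D3.rec (fun _ => Nat) 61 104 31 31 7 104 6 104 106 4 4 4 5 5 5 67 31 5 5 4 65 4 6 6 5 5 60 26 26 26 31 5 5 0 4 0 6 1 2 5 59 31 31 6 0 6 6 0 6 1 2) (@D3.rec (fun _ => Nat) 6 0 7 1 2 7 7 1 2 7 2 3 16 61 59 31 2 3 3 4 62 31 103 31 27 7 27 6 27 6 27 27 7 107 26 26 26 0 26 31 31 6 0 6 6 0 6 1 2 6 7) (@D3.rec (fun _ => Nat) 0 7 1 2 7 7 1 2 7 6 2 3 16 7 2 3 7 7 3 4 31 0 31 7 0 7 1 2 7 6 0 6 0 1 2 6 14 2 3 8 0 8 1 2 8 31 2 3 7 1 2) (@D3.rec (fun _ => Nat) 7 6 2 3 7 6 6 3 4 16 7 2 3 16 7 7 3 4 61 7 7 4 5 31 31 3 4 8 8 4 5 9 9 5 61 31 107 31 109 31 8 27 8 27 27 8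 27 27 8 27 27) (@D3.rec (fun _ => Nat) 8 27 27 27 8 27 9 108 9 9 9 0 9 27 8 27 8 102 102 104 26 26 31 26 26 26 101 27 27 108 26 26 26 110 26 103 26 7 7 6 101 6 103 101 8 7 101 27 9 8 8) (@D3.rec (fun _ => Nat) 27 27 27 0 33 102 105 107 1 18 18 17 73 17 17 4 103 5 79 100 1 2 17 2 3 4 4 5 80 18 67 4 5 18 81 4 4 5 17 0 4 1 2 5 76 2 101 6 104 4 5) (@D3.rec (fun _ => Nat) 107 2 3 106 103 6 103 6 6 0 6 1 2 6 103 7 7 0 7 1 2 7 6 2 3 79 17 7 2 3 79 103 7 3 6 105 7 6 27 27 104 102 104 8 103 100 107 105 107 26 26) (@D3.rec (fun _ => Nat) 60 109 107 5 5 67 4 6 5 67 6 6 64 6 67 6 105 105 7 7 7 7 69 18 18 6 6 6 105 105 105 7 7 7 18 18 60 8 8 8 109 107 9 9 4 5 5 62 4 6 5) (@D3.rec (fun _ => Nat)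 4 64 4 107 110 5 5 17 31 31 6 0 6 6 0 6 1 2 6 7 0 7 1 2 7 7 1 2 7 2 3 55 63 17 2 31 31 7 27 7 27 7 6 27 6 27 27 6 27 103 8) (@D3.rec (fun _ => Nat) 8 7 7 7 58 56 58 104 102 102 31 31 6 104 6 6 0 6 1 2 6 7 7 7 0 7 1 2 7 6 2 3 29 17 70 17 107 7 3 31 0 31 7 0 7 1 2 7 6 0 6) (@D3.rec (fun _ => Nat) 0 1 2 6 15 2 3 111 0 8 1 2 8 2 3 0 7 1 2 7 6 2 3 7 6 6 3 28 17 7 2 3 17 7 7 3 4 60 7 7 8 31 31 8 27 27 8 27 8 27 27) (@D3.rec (fun _ => Nat) 8 29 27 27 8 105 9 9 9 9 0 9 27 8 27 8 104 18 97 18 18 99 18 18 18 99 73 18 75 18 17 17 4 5 17 6 17 17 17 6 101 6 97 7 17 99 17 2 3 17 102) (@D3.rec (fun _ => Nat) 3 6 16 97 7 17 17 0 99 4 4 5 18 5 5 4 63 4 6 5 5 18 6 6 6 7 7 84 85 18 4 102 4 5 5 18 18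 75 103 6 0 6 1 2 6 7 1 2 7 2 3) (@D3.rec (fun _ => Nat) 18 73 18 75 18 27 27 6 27 7 86 18 0 4 68 4 5 5 17 17 106 101 99 6 101 6 68 6 7 7 17 17 17 101 7 6 16 7 17 17 84 6 103 6 105 6 7 7 99 17 80) (@D3.rec (fun _ => Nat) 17 108 0 103 7 105 7 105 7 6 0 6 99 1 2 6 15 2 3 8 8 7 1 2 7 6 2 3 7 6 6 3 81 17 2 3 17 7 3 79 0 7 7 8 99 105 8 8 8 16 16) (@D3.rec (fun _ => Nat) 8 16 16 16 8 9 9 9 9 0 80 82 90 1 9 105 9 16 8 101 16 10 102 108 84 31 31 63 6 61 6 7 106 18 31 31 105 6 1 2 6 105 7 2 3 31 0 31 7 0 7) (@D3.rec (fun _ => Nat) 1 2 7 0 6 0 1 2 6 2 3 0 8 1 2 8 31 2 3 1 2 7 2 3 3 59 61 31 31 8 27 27 8 27 27 27 106 8 105 18 68 18 68 6 61 6 7 31 0 31 7) (@D3.rec (fun _ => Nat) 103 7 68 7 6 66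 6 99 61 6 59 102 8 8 7 7 30 31 8 103 8 16 16 16 16 100 18 113 18 105 18 31 0 31 7 103 7 103 7 6 0 6 0 1 2 6 15 2 3 102 105) (@D3.rec (fun _ => Nat) 8 105 8 106 7 1 2 7 6 2 3 6 6 3 34 29 7 7 3 4 7 7 0 31 1 2 31 0 8 101 1 2 8 5 2 3 0 8 0 1 2 8 1 3 2 15 2 3 8 15 15)
def lv_f_13 : D2 → D3 → Nat := @D2.rec (fun _ => D3 → Nat) (@D3.rec (fun _ => Nat) 3 4 0 102 1 2 9 2 3 9 31 31 3 1 2 9 8 2 3 9 8 8 3 4 0 8 8 30 105 9 3 4 9 9 4 55 9 31 99 9 18 18 0 0 1 18 18 18 16 106 26) (@D3.rec (fun _ => Nat) 18 26 18 114 26 18 26 26 18 26 31 8 26 26 8 26 26 26 26 100 26 1 1 86 103 29 29 101 1 9 8 103 101 105 99 0 2 8 2 99 103 81 17 17 17 17 17 103 103 0 1) (@D3.rec (fun _ => Nat) 9 10 17 10 10 93 103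 105 106 1 1 8 8 8 106 105 105 9 9 0 17 17 17 0 0 1 1 27 2 3 27 2 2 3 3 27 3 4 0 27 4 5 1 2 3 4 2 3 8 3 4) (@D3.rec (fun _ => Nat) 8 8 4 0 1 113 3 104 9 4 59 9 19 19 19 19 19 19 8 63 19 19 19 19 32 3 104 17 102 17 17 102 59 102 83 4 6 6 3 7 7 102 104 5 27 104 8 8 108 104 106) (@D3.rec (fun _ => Nat) 9 94 28 71 18 98 103 71 103 71 18 98 71 17 17 32 3 102 100 17 102 17 98 2 3 98 3 4 4 4 0 5 101 71 71 18 5 5 4 0 4 0 6 101 0 5 1 2 5 99 71) (@D3.rec (fun _ => Nat) 101 71 18 71 1 2 2 3 71 6 99 101 99 99 101 97 4 4 5 74 17 74 104 4 5 108 2 3 100 81 18 18 5 5 0 4 6 1 2 5 5 2 3 102 6 100 6 1 2 6 7) (@D3.rec (fun _ => Nat) 7 6 2 3 17 105 2 3 7 7 3 4 6 6 3 4 7 7 4 81 27 27 27 32 5 5 4 0 4 6 0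 6 5 1 2 5 60 60 32 32 6 0 6 6 0 6 1 2 6 0 7) (@D3.rec (fun _ => Nat) 1 2 7 7 1 2 7 2 3 18 60 18 60 32 2 3 3 4 63 7 7 25 6 25 25 6 25 8 7 7 18 18 60 8 25 8 25 8 105 9 101 4 4 4 5 5 5 60 32 5 5) (@D3.rec (fun _ => Nat) 4 0 4 6 6 5 1 2 5 61 59 2 3 63 27 27 5 5 4 0 4 6 5 1 2 5 17 60 32 32 98 6 100 6 1 2 6 7 7 6 2 3 17 7 7 3 4 6 6 3 4) (@D3.rec (fun _ => Nat) 7 7 4 104 6 7 27 27 27 0 27 32 32 6 0 6 6 0 6 1 2 6 7 7 1 2 7 7 1 2 7 6 2 3 17 29 17 7 7 3 4 0 32 7 98 7 1 2 7 6 0) (@D3.rec (fun _ => Nat) 6 102 1 2 6 15 2 3 8 8 8 32 2 3 7 1 2 7 6 2 3 7 6 6 3 4 17 33 17 7 7 3 0 7 7 4 51 32 32 3 4 8 8 4 5 9 9 5 59 8 8) (@D3.rec (fun _ => Nat) 8 104 8 104 104 8 106 104 104 8 9 9 9 9 9 0 62 1 9 9 9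 108 8 106 8 10 10 105 6 28 98 100 28 28 97 97 97 72 100 103 79 78 18 4 4 4 98 5 18 98 18) (@D3.rec (fun _ => Nat) 98 18 98 100 18 1 2 18 4 98 5 101 18 2 3 3 4 101 18 107 98 101 105 72 74 100 98 105 98 103 99 17 72 17 4 100 99 1 2 5 101 72 17 72 2 3 72 99 102 101 17) (@D3.rec (fun _ => Nat) 4 102 106 104 5 17 99 17 2 3 108 6 102 104 106 104 17 80 17 2 3 17 100 3 4 102 4 5 108 17 17 85 18 101 2 3 3 6 103 105 100 4 4 4 5 5 5 77 4 4 4) (@D3.rec (fun _ => Nat) 5 5 5 0 5 78 80 18 103 5 5 4 0 4 6 5 1 2 5 80 18 74 2 3 75 103 6 6 7 18 27 27 5 5 4 0 4 6 5 5 1 2 5 18 80 18 5 2 3 104 103) (@D3.rec (fun _ => Nat) 98 6 6 99 6 1 2 6 7 7 7 6 2 3 18 101 18 97 2 3 18 7 3 4 6 3 4 7 4 83 100 7 6 106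 103 6 62 7 7 18 83 8 103 8 9 4 4 102 5 74 5) (@D3.rec (fun _ => Nat) 5 4 67 4 6 5 5 5 72 74 27 27 27 5 5 4 0 4 6 6 5 0 5 1 2 5 17 82 17 72 100 100 6 0 6 6 0 6 1 2 6 7 1 2 7 7 7 1 2 7 2) (@D3.rec (fun _ => Nat) 3 17 72 17 72 17 72 100 2 3 3 4 72 7 7 28 7 6 6 28 8 8 101 7 7 17 17 85 27 27 27 0 27 103 105 6 0 6 6 0 6 1 2 6 7 1 2 7 7 1 2) (@D3.rec (fun _ => Nat) 7 6 2 3 17 79 17 7 3 4 0 102 0 7 1 2 7 6 0 6 0 1 2 6 15 2 3 1 2 8 2 3 7 1 2 7 6 2 3 7 6 6 3 4 17 82 17 7 3 4 0) (@D3.rec (fun _ => Nat) 7 7 4 86 3 4 8 8 4 5 9 5 90 28 28 8 28 28 8 28 28 8 28 28 28 8 28 9 9 9 0 28 8 28 6 3 7 104 5 5 4 65 4 105 6 5 5 62 32 32 107) (@D3.rec (fun _ => Nat) 6 1 2 6 107 7 2 3 62 104 3 4 27 27 27 0 27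 32 32 0 6 1 2 6 1 2 7 2 3 62 32 0 32 107 7 1 2 7 65 6 106 1 2 6 66 2 3 8 2 3 7) (@D3.rec (fun _ => Nat) 2 3 6 6 3 4 7 7 4 61 32 3 4 8 8 4 5 9 9 32 106 5 5 38 4 6 5 32 32 6 67 6 36 6 62 6 7 7 7 62 27 27 27 0 27 32 32 0 6 1 2) (@D3.rec (fun _ => Nat) 6 1 2 7 2 3 61 32 0 32 0 7 1 2 7 32 6 0 1 2 6 2 3 1 2 8 32 2 3 7 2 3 3 4 60 62 32 3 4 4 5 103 32 103 28 28 28 8 28 28 28) (@D3.rec (fun _ => Nat) 28 112 107 27 0 27 27 0 27 1 2 27 32 0 32 7 0 7 1 2 7 31 6 0 1 2 6 15 2 3 8 1 2 8 32 2 3 7 6 2 3 6 6 3 4 7 7 3 52 7 7) (@D3.rec (fun _ => Nat) 4 5 32 0 32 1 2 32 8 0 8 0 1 2 8 5 2 3 32 8 0 1 2 8 1 3 2 15 2 3 8 15 15 3 4 9 1 2 9 32 2 3 9 32 32 3 4 9 8 2 3) (@D3.rec (fun _ => Nat) 9 8 8 3 4 0 8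 8 4 5 9 9 3 53 9 9 4 55 59 9 9 5 59 32 32 4 5 8 8 5 14 6 9 9 59 32 106 107 32 9 28 28 28 9 28 8 28 8 28 28 28) (@D3.rec (fun _ => Nat) 0 32 102 108 107 1 106 27 27 27 28 27 27 27 27 110 27 110 104 27 103 8 8 103 101 103 103 101 28 105 61 28 28 28 0 1 19 18 73 6 106 79 100 2 3 3 69 4 5 80 69)
def lv_f_14 : D2 → D3 → Nat := @D2.rec (fun _ => D3 → Nat) (@D3.rec (fun _ => Nat) 6 81 64 4 5 1 2 6 2 3 106 6 102 3 107 103 102 7 104 7 0 6 0 1 2 6 16 2 3 102 8 1 2 7 6 2 3 102 6 3 81 7 3 4 104 7 28 105 105 108 69) (@D3.rec (fun _ => Nat) 111 69 6 60 6 7 69 7 6 68 6 60 6 58 104 105 105 7 7 7 71 19 8 8 8 103 105 105 9 9 0 8 8 107 64 6 60 6 7 67 6 64 6 108 108 7 18 32 0 32 7) (@D3.rec (fun _ =>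 Nat) 0 7 1 2 7 65 6 0 1 2 6 2 3 8 1 2 8 2 3 7 2 3 7 3 54 63 58 32 32 32 8 28 28 8 28 8 28 28 8 28 28 8 105 9 9 9 9 0 60 104 104) (@D3.rec (fun _ => Nat) 106 107 102 32 106 32 7 104 7 106 7 0 6 0 1 2 6 16 2 3 8 8 1 2 7 2 3 7 6 3 31 18 111 7 0 32 1 2 32 0 8 0 1 2 8 2 3 0 8 0 1) (@D3.rec (fun _ => Nat) 2 8 1 3 2 16 2 3 8 16 16 3 4 0 111 1 2 9 2 3 9 3 1 2 9 8 2 3 9 8 8 3 4 0 8 8 30 104 9 3 49 9 9 4 9 32 9 30 28 28 9) (@D3.rec (fun _ => Nat) 8 30 28 28 8 30 30 28 0 103 10 0 1 19 97 19 87 19 19 75 19 0 18 6 18 85 18 18 6 101 99 7 18 102 18 3 105 0 8 99 82 84 1 102 4 5 101 6 79 6 61) (@D3.rec (fun _ => Nat) 6 7 7 19 6 6 7 7 84 83 79 6 102 6 7 19 19 103 7 0 1 2 6 2 3 2 3 7 3 19 75 19 75 0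 30 28 28 8 0 1 105 6 70 6 7 18 18 106 101 101 7) (@D3.rec (fun _ => Nat) 105 6 70 7 18 18 83 103 8 0 105 6 116 103 6 105 7 7 99 18 82 109 101 1 2 103 103 8 105 8 107 101 8 99 1 2 8 97 99 16 2 3 8 16 16 3 4 9 9 9 2) (@D3.rec (fun _ => Nat) 3 9 8 3 4 0 8 8 77 80 3 105 82 84 9 81 1 109 9 9 8 17 17 8 17 17 17 0 10 9 110 0 1 9 10 17 0 32 61 7 59 108 19 107 32 107 7 2 3 107 3) (@D3.rec (fun _ => Nat) 0 32 1 2 32 0 8 0 1 2 8 5 2 3 0 1 2 8 1 2 2 3 3 4 1 2 9 2 3 32 3 2 3 3 4 61 28 28 30 70 19 61 19 61 7 59 104 32 1 2 32) (@D3.rec (fun _ => Nat) 103 8 103 8 59 69 8 99 63 8 97 99 59 59 102 9 9 17 17 17 112 109 19 105 107 19 109 0 32 1 2 32 103 8 101 105 8 103 32 8 0 1 2 8 1 3 2 16 2 3 16) (@D3.rec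 (fun _ => Nat) 16 3 4 102 105 9 105 9 2 3 8 8 3 4 8 8 31 9 9 4 9 1 2 32 6 2 3 1 2 9 101 2 3 9 106 7 3 4 1 2 8 1 2 16 2 3 8 16 2 2 3) (@D3.rec (fun _ => Nat) 3 16 16 3 4 0 16 16 4 5 1 2 102 2 3 3 4 0 32 32 2 3 8 3 4 8 8 4 0 1 8 104 9 4 59 9 9 19 1 1 19 27 112 27 27 19 27 105 27 27 19) (@D3.rec (fun _ => Nat) 27 27 27 19 27 27 27 27 27 32 1 18 18 18 18 1 10 107 95 95 8 8 0 0 1 18 18 1 1 28 3 4 28 28 4 3 5 4 28 4 5 0 1 5 117 4 3 10 4 5 10) (@D3.rec (fun _ => Nat) 0 1 109 11 20 20 20 20 20 104 8 8 9 94 8 104 106 94 71 19 100 105 71 103 71 71 18 104 102 100 3 4 4 81 0 4 1 2 5 71 0 6 0 6 1 2 6 1 2 7 101) (@D3.rec (fun _ => Nat) 0 103 1 2 7 2 3 101 71 101 71 71 2 3 4 71 101 99 104 4 5 75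 76 106 6 100 3 81 104 6 1 2 6 7 6 2 3 7 3 4 104 7 100 6 16 2 3 6 6 3 4) (@D3.rec (fun _ => Nat) 102 3 7 7 4 81 8 8 4 5 9 82 28 28 28 0 28 33 33 6 0 6 66 6 1 2 6 7 1 2 7 7 2 3 60 60 115 33 0 7 1 2 7 65 6 0 1 2 6 2 3) (@D3.rec (fun _ => Nat) 1 2 8 33 2 3 7 2 3 7 3 4 19 61 0 63 33 3 4 4 5 61 8 26 26 8 28 26 26 8 9 9 0 26 8 5 5 37 4 6 5 33 33 6 98 6 39 6 1 2 6) (@D3.rec (fun _ => Nat) 7 7 7 2 3 61 63 3 4 0 28 98 6 33 6 1 2 6 7 7 2 3 18 60 0 33 100 7 102 6 64 2 3 7 6 6 3 4 7 7 4 8 8 4 9 9 8 28 0 28 28) (@D3.rec (fun _ => Nat) 0 28 1 2 28 0 33 7 98 7 1 2 7 31 6 0 1 2 6 16 2 3 8 8 33 2 3 7 2 3 7 6 6 3 4 18 50 7 7 4 54 1 2 33 8 98 8 100 8 5 2) (@D3.rec (fun _ => Nat) 3 30 8 104 1 2 8 106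 104 16 2 3 8 16 16 3 4 9 9 9 33 33 3 4 9 2 3 9 8 8 3 0 8 8 4 5 52 60 9 9 1 9 9 53 33 33 4 5 8 8 5) (@D3.rec (fun _ => Nat) 14 6 9 9 9 9 9 103 104 8 106 106 106 8 108 106 106 0 10 10 0 0 1 9 10 10 108 99 74 101 81 80 19 4 5 19 98 98 19 103 105 19 2 3 6 100 105 19 3 4 4) (@D3.rec (fun _ => Nat) 91 107 83 96 102 103 76 102 109 100 100 101 18 72 6 102 106 2 3 103 72 18 72 3 72 101 85 6 106 108 104 18 101 18 3 4 110 104 106 104 18 80 18 3 4 0 104 4 86 5 84) (@D3.rec (fun _ => Nat) 3 5 5 109 4 6 5 5 5 4 0 4 6 5 1 2 5 81 80 98 102 98 6 99 6 1 2 6 7 7 2 3 80 19 77 3 4 6 7 28 0 28 100 6 6 99 6 1 2 6 7) (@D3.rec (fun _ => Nat) 7 7 6 2 3 19 82 19 7 3 4 104 103 100 7 101 6 106 99 6 66 2 3 7 7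 6 3 4 19 105 19 99 3 82 7 4 89 8 4 5 9 8 106 103 8 9 0 8 74 4 5) (@D3.rec (fun _ => Nat) 102 6 6 99 6 64 6 7 7 7 76 76 28 28 28 0 28 6 102 6 6 0 6 1 2 6 7 7 7 1 2 7 2 3 18 80 18 72 102 102 104 7 1 2 7 6 103 6 1 2 6) (@D3.rec (fun _ => Nat) 2 3 8 2 3 7 7 2 3 7 3 4 18 72 18 81 83 72 100 3 4 5 8 8 29 8 8 105 9 0 84 84 28 0 28 28 0 28 1 2 28 104 104 107 7 1 2 7 80 6 107)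
def lv_f_15 : D2 → D3 → Nat := @D2.rec (fun _ => D3 → Nat) (@D3.rec (fun _ => Nat) 1 2 6 107 2 3 8 2 3 7 2 3 7 6 3 4 18 83 82 7 4 82 1 2 104 0 1 2 8 2 3 78 8 0 1 2 8 1 3 2 16 2 3 8 16 16 3 4 2 3 9) (@D3.rec (fun _ => Nat) 3 4 9 2 3 9 8 3 4 0 8 8 4 5 82 85 9 4 84 86 1 9 9 4 8 5 14 6 9 29 29 29 9 29 29 8 29 29 29 8 29 29 29 0 31 1 29 8 65 6 64) (@D3.rec (fun _ => Nat) 6 60 6 107 7 7 64 107 33 107 7 2 3 112 3 4 114 4 0 28 81 28 1 2 28 0 33 1 2 7 2 3 2 3 3 4 107 33 1 2 33 107 8 2 3 65 8 106 2 3 66) (@D3.rec (fun _ => Nat) 63 3 4 3 4 3 8 8 4 5 9 9 33 4 8 8 5 14 9 108 40 6 40 6 7 100 33 38 7 64 7 106 38 6 62 8 7 0 28 0 28 1 2 28 0 33 1 2 7 2 3) (@D3.rec (fun _ => Nat) 33 2 3 3 4 62 0 33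 1 2 33 0 1 2 8 109 2 3 34 34 8 1 3 2 2 3 3 4 33 2 3 33 3 4 3 4 4 5 62 33 4 5 5 15 101 29 29 29 29 29 29) (@D3.rec (fun _ => Nat) 29 108 110 28 0 28 1 2 28 28 0 28 0 1 2 28 105 2 3 102 33 1 2 33 31 8 1 2 8 5 2 3 31 31 8 1 3 2 16 2 3 16 16 3 4 9 33 2 3 33 33) (@D3.rec (fun _ => Nat) 3 4 8 8 3 4 8 8 4 5 9 9 9 9 5 54 102 33 105 1 2 33 6 2 3 32 9 0 1 2 9 1 3 2 7 2 3 9 111 7 3 4 32 8 1 2 16 2 3 8 16) (@D3.rec (fun _ => Nat) 2 2 3 3 16 16 3 4 0 16 16 4 5 10 2 3 10 33 33 3 4 107 33 35 4 5 8 8 3 4 8 8 4 5 0 1 8 8 5 15 6 9 9 9 9 61 9 9 58 33 33) (@D3.rec (fun _ => Nat) 5 15 6 10 10 63 6 15 7 11 109 33 29 29 104 29 63 29 29 29 0 1 28 28 28 28 106 28 112 104 28 101 101 103 29 29 99 0 1 81 3 4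 69 6 69 62 6 2 3 3 106) (@D3.rec (fun _ => Nat) 104 105 101 104 8 106 1 2 8 1 2 107 2 3 17 3 4 106 2 3 8 3 4 8 81 9 4 105 31 69 109 62 113 62 7 60 60 67 8 62 8 60 8 60 102 107 107 9 9 8 8) (@D3.rec (fun _ => Nat) 0 105 107 0 1 62 7 60 66 64 6 64 112 7 33 102 33 1 2 33 67 8 0 1 2 8 2 3 67 63 8 1 2 2 3 8 3 4 9 2 3 9 3 9 3 4 0 58 33 33 9) (@D3.rec (fun _ => Nat) 29 29 9 8 29 29 8 31 29 0 105 10 0 0 1 103 104 106 100 104 106 107 106 33 106 33 107 8 106 106 8 108 101 1 2 8 1 80 2 2 3 8 17 3 4 9 9 2 3 9 3) (@D3.rec (fun _ => Nat) 8 111 1 2 33 2 3 1 2 9 1 3 2 2 3 9 3 4 1 2 8 1 106 2 31 2 3 8 105 2 2 3 3 17 17 3 4 0 17 17 4 5 1 2 113 2 3 10 3 4 0) (@D3.rec (fun _ => Nat) 2 3 8 3 4 8 8 4 1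 8 30 102 9 9 9 33 10 31 31 29 0 31 31 29 62 31 29 0 1 1 20 85 85 20 77 0 1 19 84 19 82 8 103 99 82 90 1 104 6 103 7) (@D3.rec (fun _ => Nat) 81 6 70 7 83 8 8 9 0 79 79 6 104 7 20 82 105 1 3 2 2 3 8 3 4 3 4 0 92 81 1 31 31 29 0 1 9 109 103 6 70 7 19 103 103 105 105 8 61 0 0) (@D3.rec (fun _ => Nat) 1 101 8 108 108 105 8 104 9 0 86 107 107 2 3 105 9 107 9 103 105 8 99 2 3 8 99 103 17 3 4 0 17 17 4 5 10 9 3 110 0 8 4 1 9 109 10 109 10 18 18) (@D3.rec (fun _ => Nat) 0 18 18 107 1 1 10 1 2 33 61 61 111 107 33 105 3 4 1 2 33 6 2 3 1 2 9 1 2 2 3 7 3 4 1 2 2 3 2 3 3 4 4 5 2 3 3 4 33 3 4) (@D3.rec (fun _ => Nat) 4 31 31 63 20 63 61 61 105 33 2 3 105 9 105 61 63 8 99 61 99 103 61 61 102 18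 18 82 103 107 105 20 107 107 109 20 104 1 2 33 2 3 104 9 107 105 112 32 8 103 1) (@D3.rec (fun _ => Nat) 2 2 3 110 2 2 3 3 106 17 3 4 17 17 4 5 102 107 109 3 4 8 8 4 8 53 9 9 2 3 6 3 4 2 3 105 3 4 0 109 7 4 5 2 3 17 2 17 3 4 17) (@D3.rec (fun _ => Nat) 17 4 3 5 4 17 17 4 5 0 1 17 17 5 6 2 3 3 4 4 0 1 33 3 10 4 5 10 10 0 1 104 11 11 33 20 28 108 28 28 116 28 28 20 28 28 28 115 28 28 28) (@D3.rec (fun _ => Nat) 28 19 19 1 1 29 4 29 29 4 4 5 29 5 0 115 0 1 102 10 5 55 61 1 21 21 21 8 73 102 73 73 73 102 105 4 81 84 1 2 6 2 3 73 1 2 7 1 2 6 2) (@D3.rec (fun _ => Nat) 3 2 3 101 1 2 103 2 3 3 4 103 73 73 4 5 104 6 76 106 108 102 7 2 3 6 3 4 7 4 104 106 104 17 3 4 8 8 4 5 102 9 9 82 8 5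 14 6 0 29 29) (@D3.rec (fun _ => Nat) 0 29 1 2 29 108 34 66 7 1 2 7 66 63 6 2 3 8 34 2 3 7 3 4 60 61 107 34 1 2 8 111 2 3 68 65 8 1 3 2 2 3 8 3 4 2 3 9 34 3 4) (@D3.rec (fun _ => Nat) 9 3 4 0 4 5 61 52 1 34 4 5 5 14 6 9 29 27 27 8 29 29 27 0 0 1 37 6 37 6 7 34 0 34 39 7 100 7 108 39 6 2 3 8 7 3 4 4 1 2 29) (@D3.rec (fun _ => Nat) 98 7 33 33 6 2 3 7 3 4 1 2 34 104 106 8 66 59 3 4 8 8 4 9 9 8 8 60 9 56 29 0 29 1 2 29 29 80 29 83 1 2 29 2 3 1 2 34 33 8 98) (@D3.rec (fun _ => Nat) 98 8 5 2 3 101 33 8 1 101 2 2 3 8 109 17 3 4 9 9 34 3 4 9 3 0 8 8 4 5 9 9 6 2 3 32 9 100 9 102 9 7 7 3 4 32 32 8 105 104 2) (@D3.rec (fun _ => Nat) 3 8 103 104 17 17 3 4 0 17 17 4 5 10 10 0 34 36 4 5 9 3 0 8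 8 1 8 8 5 15 6 9 9 9 34 34 5 15 6 10 10 65 6 15 11 10 10 0 103 104 106)
def lv_f_16 : D2 → D3 → Nat := @D2.rec (fun _ => D3 → Nat) (@D3.rec (fun _ => Nat) 106 106 0 106 106 0 1 107 1 1 10 99 102 81 80 6 20 100 107 20 3 4 107 83 4 85 105 76 104 109 105 103 19 74 3 105 83 87 74 86 84 102 106 19 84 84 4 82 105 106 82) (@D3.rec (fun _ => Nat) 87 4 86 86 1 102 6 106 6 7 100 6 99 6 1 2 6 7 7 2 3 83 82 98 98 100 7 99 6 2 3 7 3 4 4 8 0 29 1 2 29 106 7 101 6 101 105 6 73 2 3) (@D3.rec (fun _ => Nat) 7 7 6 3 4 20 91 7 4 85 100 107 100 103 8 108 101 8 63 3 4 9 0 8 4 5 99 9 8 5 14 8 109 112 0 1 74 6 104 7 101 6 108 99 6 74 7 7 106 29 0) (@D3.rec (fun _ => Nat) 29 1 2 29 102 7 108 7 103 6 112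 1 2 6 2 3 8 7 2 3 7 3 4 19 85 82 102 102 108 8 107 2 3 8 107 8 2 3 8 3 4 3 9 9 3 4 0 4 5 86 82) (@D3.rec (fun _ => Nat) 83 83 104 5 15 8 0 9 0 1 0 29 1 2 29 85 29 87 1 2 29 2 3 105 105 110 108 8 2 3 80 80 8 111 101 2 3 8 104 3 4 9 3 4 9 3 4 0 8 4 5) (@D3.rec (fun _ => Nat) 82 9 2 3 1 3 2 2 3 9 3 4 80 80 8 1 83 2 2 3 8 2 2 3 3 17 3 4 0 17 17 4 5 3 4 4 3 4 0 8 4 5 0 1 8 8 5 15 95 85 9) (@D3.rec (fun _ => Nat) 108 10 108 6 15 30 30 30 113 30 30 30 30 30 88 30 30 30 0 1 60 7 60 6 58 107 7 109 34 110 3 4 113 4 15 1 2 29 81 29 2 3 1 2 34 2 3 3 4 3 4) (@D3.rec (fun _ => Nat) 4 109 34 2 3 108 3 4 63 104 3 4 63 61 4 5 4 8 8 5 15 9 34 15 10 61 15 40 7 39 102 34 38 8 62 108 38 8 62 9 1 2 29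 1 2 29 2 3 1 2 34) (@D3.rec (fun _ => Nat) 110 2 3 3 4 34 3 4 4 5 1 2 34 2 3 1 2 109 2 3 107 3 4 79 34 34 2 2 3 3 3 4 4 5 34 3 4 34 4 5 4 5 5 16 34 5 108 64 30 30 30) (@D3.rec (fun _ => Nat) 30 30 110 112 109 29 1 2 29 104 2 3 114 29 107 1 2 29 1 81 2 107 2 3 29 107 3 4 102 34 6 2 3 33 9 100 2 3 112 7 3 4 33 33 2 2 3 3 17 3 4) (@D3.rec (fun _ => Nat) 17 17 4 5 34 3 4 34 34 4 5 8 8 4 8 8 5 16 6 9 9 9 102 34 106 6 2 3 34 6 3 4 34 10 1 2 2 3 10 106 2 2 3 3 113 7 3 4 105 110 7) (@D3.rec (fun _ => Nat) 4 5 34 17 2 3 17 3 4 59 101 17 17 4 3 5 4 17 17 4 5 0 1 17 17 5 16 6 3 4 34 36 4 5 107 34 34 5 16 6 10 10 4 10 10 5 0 1 10 10 59) (@D3.rec (fun _ => Nat) 6 16 7 11 11 0 11 34 34 0 6 114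 7 10 106 63 7 65 16 30 30 30 0 0 1 29 29 29 29 104 29 112 0 101 101 30 99 99 1 81 4 71 60 73 3 4 102 103 104 103 2) (@D3.rec (fun _ => Nat) 3 2 3 102 3 4 18 4 5 3 4 8 4 9 62 109 62 60 60 60 64 8 62 8 60 60 60 102 107 64 1 1 60 60 66 64 8 64 114 109 34 102 34 2 3 64 9 1 2 2 3) (@D3.rec (fun _ => Nat) 9 3 4 64 62 8 2 3 3 4 0 4 5 10 3 4 0 0 4 1 34 34 10 32 30 0 32 30 0 30 0 1 0 1 1 103 103 106 106 104 106 104 102 111 34 109 106 104 9 106 106) (@D3.rec (fun _ => Nat) 110 9 105 101 2 3 8 2 80 3 3 4 60 18 4 5 10 3 2 3 34 3 4 2 3 10 2 2 3 3 3 4 0 4 5 2 3 2 107 3 33 3 4 62 104 4 3 5 4 18 18) (@D3.rec (fun _ => Nat) 4 5 0 1 18 18 5 6 2 3 3 4 4 1 3 4 10 4 10 10 62 102 11 0 64 32 30 0 1 32 30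 64 30 0 1 34 83 84 81 1 104 103 81 8 61 0 8 0 1 101 81) (@D3.rec (fun _ => Nat) 81 8 104 0 105 2 2 3 3 3 4 0 4 5 4 0 1 9 32 30 0 1 10 110 103 8 61 103 101 105 0 61 1 1 101 8 112 108 107 0 104 0 1 107 111 3 4 106 10 107 107) (@D3.rec (fun _ => Nat) 103 103 10 103 3 4 0 101 105 18 4 5 0 1 18 18 5 6 1 10 111 109 88 19 107 1 19 105 93 2 3 61 61 109 111 105 4 5 2 3 6 3 4 2 3 2 3 3 4 7 4) (@D3.rec (fun _ => Nat) 5 2 3 3 4 3 4 4 5 5 6 3 4 4 4 61 63 21 61 61 61 105 3 4 105 105 61 63 103 63 101 103 61 61 82 103 105 106 21 113 107 111 113 106 2 3 3 4 105 107 105) (@D3.rec (fun _ => Nat) 105 34 105 2 3 3 4 81 109 4 3 5 4 111 18 4 5 18 18 5 6 107 4 5 10 10 55 11 3 4 8 4 5 3 4 107 4 5 0 1 111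 9 5 6 3 4 18 18 4 5 18) (@D3.rec (fun _ => Nat) 18 4 4 5 5 18 18 5 0 6 0 1 18 18 6 7 3 4 5 0 1 34 10 5 55 10 59 1 104 112 29 29 29 116 29 29 21 112 29 29 115 29 30 101 30 30 6 105 0 0 1) (@D3.rec (fun _ => Nat) 1 63 62 22 73 73 83 2 3 3 4 2 3 2 3 3 4 3 103 2 3 3 4 5 5 14 107 106 104 3 4 8 4 9 106 102 105 18 4 5 8 8 5 15 6 108 6 15 1 2 30) (@D3.rec (fun _ => Nat) 88 30 84 1 2 30 2 3 113 35 113 64 8 110 2 3 79 64 62 8 3 4 9 35 3 4 0 4 5 109 2 3 9 102 3 4 82 65 63 8 2 2 3 3 3 4 0 4 5 3 4) (@D3.rec (fun _ => Nat) 0 35 4 5 4 5 0 1 5 15 61 35 5 15 6 15 0 30 30 28 63 30 28 0 1 1 39 7 39 102 35 1 2 35 41 8 104 108 40 8 3 4 9 4 64 2 3 102 35 35 8) (@D3.rec (fun _ => Nat) 3 4 4 2 3 104 106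 54 61 59 4 5 8 8 62 9 10 64 101 30 100 1 2 30 111 2 3 80 30 80 30 80 2 3 30 3 4 6 2 3 33 9 100 102 9 7 3 4 103 33 8) (@D3.rec (fun _ => Nat) 2 103 3 3 4 0 109 18 4 5 10 0 35 4 5 1 8 8 5 16 9 6 6 3 4 32 10 104 10 104 0 7 7 4 5 32 32 10 106 106 3 4 0 106 104 18 18 4 5 0 1)
def lv_f_17 : D2 → D3 → Nat := @D2.rec (fun _ => D3 → Nat) (@D3.rec (fun _ => Nat) 18 18 5 16 6 11 0 1 35 35 5 16 6 1 10 10 10 61 6 16 35 0 6 16 10 106 63 16 16 106 1 103 108 108 108 108 1 108 0 1 64 35 81 82 103 105 4 111 105 87 82) (@D3.rec (fun _ => Nat) 84 84 83 83 82 85 102 7 108 106 7 107 6 2 3 7 3 4 100 100 100 101 8 3 4 4 15 109 82 1 2 30 2 3 102 103 8 101 101 8 75 3 4 9 0 8 4 5 9 102 109) (@D3.rec (fun _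 => Nat) 103 8 113 101 0 75 4 5 1 8 5 15 110 15 88 113 115 1 76 104 105 109 8 108 101 8 64 109 30 112 1 2 30 2 3 108 8 108 108 8 111 2 3 8 3 4 9 3 0 4 5) (@D3.rec (fun _ => Nat) 104 110 108 3 4 8 110 8 3 4 0 4 5 9 0 4 5 0 1 5 16 114 10 0 1 1 108 1 2 30 2 3 85 30 110 89 2 3 30 3 4 106 109 108 109 9 3 4 82 82 8) (@D3.rec (fun _ => Nat) 111 103 3 4 0 102 4 5 4 0 4 1 8 5 16 3 4 2 2 3 3 3 4 110 4 5 80 80 2 83 3 3 4 0 4 3 5 4 18 4 5 0 1 18 18 5 16 6 4 110 4) (@D3.rec (fun _ => Nat) 0 1 10 5 0 1 96 106 16 87 92 110 31 31 109 31 31 31 31 88 31 31 0 0 1 60 62 8 60 109 113 109 4 5 16 2 3 83 30 3 4 2 3 3 4 4 5 4 16 113 3) (@D3.rec (fun _ => Nat) 4 112 4 5 65 104 4 5 63 63 5 16 6 16 10 63 16 0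 65 16 41 41 102 40 9 64 112 40 62 64 2 3 2 3 30 3 4 2 3 110 3 4 4 5 35 4 5 5 60 2 3) (@D3.rec (fun _ => Nat) 3 4 2 3 109 3 4 109 4 5 81 36 36 4 3 5 4 4 5 5 17 6 35 4 5 35 5 114 5 54 62 35 0 116 64 31 31 108 110 30 2 3 30 104 3 4 111 30 112 2 3) (@D3.rec (fun _ => Nat) 30 2 83 3 112 3 4 0 110 4 5 104 6 3 4 33 102 3 4 112 7 4 5 33 33 4 3 5 4 18 4 5 18 18 5 17 6 35 4 35 35 5 17 6 10 59 10 10 63 6 61) (@D3.rec (fun _ => Nat) 11 106 109 8 3 4 0 8 4 5 34 2 3 4 107 4 3 5 4 112 9 4 5 109 110 9 5 17 6 34 18 3 4 18 4 5 63 103 18 18 4 4 5 5 0 18 18 5 0 6 0) (@D3.rec (fun _ => Nat) 1 18 18 63 6 17 7 4 35 35 5 106 35 35 0 6 114 7 10 61 10 0 61 1 10 106 61 7 63 17 0 1 35 111 35 0 1 7 111 116 63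 63 62 65 17 31 101 0 1 1 104) (@D3.rec (fun _ => Nat) 30 30 0 1 101 62 62 62 4 5 104 105 108 105 3 4 3 4 104 4 5 19 5 6 4 10 83 64 113 62 62 62 62 62 62 60 62 60 62 35 62 62 66 64 60 66 108 35 104 35 3) (@D3.rec (fun _ => Nat) 4 63 10 2 3 3 4 0 4 5 65 63 0 3 4 4 5 0 1 5 6 0 4 1 1 61 35 0 0 31 0 1 31 31 0 1 0 1 1 35 103 106 110 106 106 101 111 102 111 35 105) (@D3.rec (fun _ => Nat) 106 107 10 112 108 112 62 110 103 3 4 62 3 82 4 4 5 62 19 5 6 3 4 0 4 5 3 4 62 4 3 5 4 4 5 0 1 5 6 3 4 3 103 4 33 4 5 62 106 4 4) (@D3.rec (fun _ => Nat) 5 5 0 19 19 5 62 6 0 1 19 19 6 7 3 4 4 62 35 4 62 10 51 1 31 0 1 105 31 64 0 1 106 105 83 0 63 1 87 1 103 81 81 0 106 1 105 4 3 5 4) (@D3.rec (fun _ =>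 Nat) 4 5 0 1 5 6 0 1 10 31 0 1 91 110 107 87 63 103 103 107 0 1 63 109 0 109 110 109 0 1 115 1 107 111 4 5 105 105 107 107 114 105 87 105 4 5 0 1 103 105 105) (@D3.rec (fun _ => Nat) 19 5 103 6 0 1 19 19 6 7 103 103 3 4 63 63 110 113 105 5 6 3 4 8 4 5 3 4 3 4 4 5 9 5 6 3 4 4 5 4 5 5 61 6 6 7 4 61 61 65 115) (@D3.rec (fun _ => Nat) 63 63 63 106 4 5 105 105 63 63 105 63 103 105 63 63 84 105 107 108 22 112 113 113 111 115 111 3 4 4 5 105 107 107 112 34 105 3 4 4 5 81 111 4 4 5 5 113 19 5 55) (@D3.rec (fun _ => Nat) 6 19 19 6 7 111 5 53 10 61 4 5 8 5 18 6 4 5 107 5 0 6 0 1 104 111 9 6 7 4 5 19 5 55 6 19 19 6 5 106 7 6 19 19 0 6 0 1 7 0 1) (@D3.rec (fun _ => Nat) 19 19 7 5 104 1 35 61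 60 61 30 107 30 114 106 30 114 30 63 31 0 83 1 1 3 4 4 3 4 3 4 4 5 3 5 15 15 106 108 106 4 5 8 16 106 102 106 19 5 16 6) (@D3.rec (fun _ => Nat) 106 6 16 92 16 2 3 88 31 86 2 3 31 3 4 107 112 63 9 112 3 4 81 65 63 0 4 5 0 36 4 5 1 5 16 109 3 4 0 102 4 5 79 67 65 63 4 3 5 4 4) (@D3.rec (fun _ => Nat) 5 0 1 5 16 6 4 5 0 1 36 5 16 5 0 1 62 16 36 0 16 16 16 1 31 29 65 29 0 1 36 39 39 102 36 2 3 40 9 104 112 40 62 4 5 58 3 4 102 35 35) (@D3.rec (fun _ => Nat) 54 4 5 60 3 4 106 108 56 59 59 5 60 6 10 60 62 103 31 100 2 3 31 113 3 4 82 31 82 31 80 3 4 0 4 5 6 3 4 35 10 100 102 0 7 4 5 103 35 50 3) (@D3.rec (fun _ => Nat) 107 4 4 5 0 1 111 19 5 17 6 1 36 5 17 10 59 17 8 8 4 5 34 11 104 0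 104 0 1 9 9 5 17 6 34 34 61 108 106 4 5 0 1 109 106 0 19 19 5 6 0) (@D3.rec (fun _ => Nat) 1 64 19 19 59 6 17 7 1 36 36 0 6 17 102 63 17 109 1 105 107 107 17 17 108 108 105 1 66 104 108 102 101 8 3 4 4 100 102 101 109 4 5 16 84 2 3 31 3 4 102) (@D3.rec (fun _ => Nat) 103 8 103 103 0 75 4 5 1 8 5 16 108 110 105 87 111 106 0 1 63 5 16 6 112 16 109 64 106 110 107 112 101 86 64 111 111 2 3 31 3 4 111 108 109 8 109 3 4 0 4) (@D3.rec (fun _ => Nat) 5 1 5 17 104 112 108 4 5 112 10 0 4 5 0 1 5 17 6 1 5 0 1 109 108 88 1 110 2 3 31 3 4 87 31 107 89 3 4 0 4 5 107 111 108 109 108 4 5 82 82)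
def lv_f_18 : D2 → D3 → Nat := @D2.rec (fun _ => D3 → Nat) (@D3.rec (fun _ => Nat) 0 109 111 4 5 0 1 104 5 17 6 108 1 85 82 17 4 5 4 3 5 4 4 5 110 5 108 6 82 82 3 83 4 4 5 0 1 4 4 5 5 0 19 5 0 6 0 1 19 104 19) (@D3.rec (fun _ => Nat) 108 6 17 7 110 0 1 87 83 1 17 89 110 108 32 107 32 32 89 32 0 0 1 1 60 60 60 60 113 107 5 17 6 3 4 83 0 4 5 3 4 4 5 5 17 6 17 110 4 5 107) (@D3.rec (fun _ => Nat) 5 17 6 65 106 5 6 63 63 61 6 17 7 61 17 1 17 41 41 104 40 60 64 112 40 60 64 3 4 3 4 0 4 5 3 4 114 4 5 5 62 6 36 5 60 60 3 4 4 5 3) (@D3.rec (fun _ => Nat) 4 109 4 5 109 5 108 6 81 36 36 4 4 5 5 5 56 6 6 18 7 36 5 102 36 0 113 59 64 0 1 66 32 107 110 3 4 106 4 5 113 31 112 3 4 31 0 3 83 4 110)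 (@D3.rec (fun _ => Nat) 4 5 0 1 106 5 18 6 104 8 4 5 35 102 4 5 114 9 5 18 6 35 35 4 4 5 5 19 5 61 6 19 19 61 6 18 7 36 36 36 0 6 63 10 104 63 63 63 108 108 8) (@D3.rec (fun _ => Nat) 4 5 0 1 8 5 18 6 36 4 5 104 4 4 5 5 110 9 5 107 6 110 110 9 0 6 18 7 36 103 4 5 19 5 61 6 61 103 19 19 6 5 0 7 103 6 0 1 19 19 0) (@D3.rec (fun _ => Nat) 6 0 1 7 0 1 19 106 19 61 7 18 18 104 36 36 0 61 36 109 36 114 1 7 113 114 0 1 61 63 63 60 65 18 1 105 36 0 116 1 106 115 115 103 65 64 106 67 18 101 0) (@D3.rec (fun _ => Nat) 1 31 0 116 1 62 62 62 5 6 115 105 108 116 4 5 4 5 102 5 83 6 20 6 7 85 86 64 115 62 62 62 62 64 64 62 62 62 62 62 62 66 66 60 66 108 36 106 0 4 5) (@D3.rec (fun _ => Nat) 64 0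 3 4 4 5 0 1 5 6 64 64 0 1 4 5 0 5 61 6 0 1 6 7 1 61 36 106 1 1 0 1 104 32 0 105 1 1 106 108 82 108 106 106 113 111 111 0 107 106 107) (@D3.rec (fun _ => Nat) 64 114 108 107 62 112 105 4 5 64 4 82 5 64 5 6 62 20 6 7 4 5 0 1 5 105 6 4 5 64 4 4 5 5 0 5 64 6 0 1 111 6 7 4 5 4 107 5 64 35 5) (@D3.rec (fun _ => Nat) 64 6 64 105 6 5 64 7 0 6 0 1 20 20 51 6 64 7 0 1 20 20 7 4 64 55 51 0 1 108 66 1 104 105 83 0 1 63 103 83 83 0 1 115 116 4 4 5 5 0 5) (@D3.rec (fun _ => Nat) 0 6 0 1 91 6 7 1 0 1 112 107 88 63 103 114 110 0 1 63 109 111 1 106 106 109 109 0 1 113 109 109 5 105 6 107 107 117 109 112 107 88 105 105 5 6 0 1 103 103 115) (@D3.rec (fun _ => Nat) 107 20 6 109 7 0 1 20 20 7 4 5 63 63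 113 110 114 6 7 4 5 8 5 18 6 4 5 4 5 5 61 6 9 6 7 4 5 5 63 6 5 61 6 6 63 7 7 61 63 117 63) (@D3.rec (fun _ => Nat) 63 63 106 5 19 6 107 116 63 65 105 65 103 117 63 84 105 116 108 108 108 112 106 116 113 111 109 4 5 5 113 6 107 109 114 110 36 107 4 5 5 55 6 83 111 6 5 57 7 6 113) (@D3.rec (fun _ => Nat) 20 0 6 57 7 20 20 7 60 104 5 104 6 10 74 6 19 7 5 105 6 116 6 0 1 7 0 1 104 110 11 7 5 6 20 61 6 57 7 20 20 0 6 81 6 106 7 7 20 0 20) (@D3.rec (fun _ => Nat) 63 1 7 0 1 0 1 20 20 60 104 114 108 87 0 1 4 5 16 4 5 4 5 5 16 6 16 16 106 108 108 5 17 6 86 109 115 107 20 106 6 17 7 90 17 17 3 4 90 32 86) (@D3.rec (fun _ => Nat) 3 4 0 4 5 107 112 64 0 110 4 5 81 63 64 0 1 5 17 6 1 37 5 17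 17 107 4 5 0 1 110 5 17 6 81 65 65 63 4 4 5 5 0 5 0 6 0 1 62 6 17) (@D3.rec (fun _ => Nat) 7 5 0 1 37 37 0 17 54 1 17 117 1 17 17 109 30 65 0 1 41 41 104 37 3 4 42 62 106 114 42 62 5 62 6 4 5 104 37 37 54 5 64 6 4 5 106 115 56 61 61) (@D3.rec (fun _ => Nat) 64 6 64 7 64 112 32 102 3 4 0 113 4 5 82 32 82 32 0 82 4 5 0 1 5 18 6 8 4 5 35 52 104 104 0 1 9 5 18 6 105 35 52 4 107 5 0 5 6 0 1) (@D3.rec (fun _ => Nat) 108 20 63 6 18 7 0 18 59 18 8 8 5 110 6 34 109 106 0 1 116 0 1 104 9 9 0 6 18 7 34 34 61 107 106 107 5 6 0 1 110 108 115 0 1 20 20 6 7 0 1) (@D3.rec (fun _ => Nat) 64 20 106 20 63 7 18 18 109 1 109 18 63 18 18 105 66 104 108 102 103 109 4 5 17 102 105 110 107 5 17 6 84 3 4 0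 4 5 112 105 86 103 111 0 1 65 5 17 6 87 17) (@D3.rec (fun _ => Nat) 110 114 107 88 110 109 115 0 1 65 108 6 17 7 17 66 106 110 109 105 107 87 66 106 111 3 4 0 4 5 111 110 111 90 111 4 5 0 1 5 18 6 109 106 114 110 5 6 110 0 86) (@D3.rec (fun _ => Nat) 1 5 0 6 0 1 6 18 7 111 1 109 108 110 3 4 4 5 87 32 0 109 91 4 5 0 1 5 18 6 110 113 110 113 110 5 110 6 84 84 0 1 111 111 0 5 88 6 0 1 106) (@D3.rec (fun _ => Nat) 84 6 18 7 18 5 112 6 4 4 5 5 109 5 110 6 110 6 108 7 82 82 4 88 5 0 5 0 6 0 1 6 5 0 7 0 6 0 1 20 88 6 0 1 7 0 1 20 110 20 108) (@D3.rec (fun _ => Nat) 7 18 18 1 93 107 89 104 110 88 109 90 0 1 0 1 62 64 62 62 106 116 6 18 7 4 5 85 0 1 5 18 6 4 5 5 18 6 6 18 7 110 5 18 6 112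 6 18 7 67 113) (@D3.rec (fun _ => Nat) 6 7 65 65 65 65 7 18 18 18 18 43 43 104 42 60 66 107 114 42 64 66 4 5 4 5 0 1 5 60 6 4 5 114 5 60 6 6 62 7 37 0 62 62 4 5 5 104 6 4 5) (@D3.rec (fun _ => Nat) 111 5 107 6 112 0 6 110 7 83 38 38 6 5 58 7 6 6 56 7 7 19 64 37 104 114 116 1 116 61 64 1 66 109 112 4 5 106 5 19 6 113 32 0 114 4 5 0 0 1 4)
def lv_f_19 : D2 → D3 → Nat := @D2.rec (fun _ => D3 → Nat) (@D3.rec (fun _ => Nat) 85 5 111 5 0 6 0 1 115 106 65 6 19 7 106 8 5 19 6 35 106 5 6 110 9 0 6 19 7 35 35 6 5 7 6 20 6 61 7 20 104 20 65 7 19 63 37 106 37 112 1) (@D3.rec (fun _ => Nat) 63 63 63 63 63 63 108 108 10 5 0 6 0 1 10 110 6 19 7 36 5 106 6 106 6 5 106 7 6 112 11 0 6 109 7 114 112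 106 11 0 1 7 19 110 36 105 5 105 6 20 6) (@D3.rec (fun _ => Nat) 63 7 65 105 20 20 0 6 107 6 0 1 7 105 7 0 0 1 20 0 20 0 1 7 0 63 1 0 1 20 106 20 65 63 19 19 19 0 0 1 63 111 37 111 116 106 109 115 1 65 63) (@D3.rec (fun _ => Nat) 63 62 65 65 19 0 115 1 115 105 113 109 65 105 103 110 103 1 116 1 64 64 64 6 7 113 116 107 114 5 104 6 5 104 6 104 88 6 85 7 21 7 64 113 64 64 64 64 64 64 62) (@D3.rec (fun _ => Nat) 64 62 64 64 66 62 66 62 68 110 104 106 0 1 5 75 6 65 0 1 4 5 0 5 63 6 0 1 104 6 7 64 0 65 0 1 5 62 6 0 1 6 63 7 0 1 7 1 106 107 1) (@D3.rec (fun _ => Nat) 106 82 103 108 105 113 108 111 113 112 0 1 112 115 107 64 111 112 64 112 64 110 107 64 5 6 64 5 84 64 6 66 6 7 64 21 7 5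 0 6 0 1 6 105 7 5 64 6 64 6 5) (@D3.rec (fun _ => Nat) 64 7 0 6 0 1 6 64 7 0 1 111 7 5 55 6 5 64 107 64 6 64 35 6 64 7 64 107 53 6 66 6 64 7 0 1 7 0 1 21 53 21 53 7 64 0 1 21 21 55 1) (@D3.rec (fun _ => Nat) 107 115 114 85 0 1 65 105 83 0 83 0 1 113 112 6 5 0 7 0 6 0 1 6 0 1 7 0 1 91 7 1 111 109 110 88 65 116 112 108 0 1 115 113 108 108 108 111 108 0 1) (@D3.rec (fun _ => Nat) 109 109 6 105 7 107 107 116 109 110 89 107 107 6 7 0 1 105 105 123 110 21 7 110 0 1 21 21 5 19 6 65 111 114 110 7 5 61 6 10 113 6 19 7 5 61 6 5 61 6 6) (@D3.rec (fun _ => Nat) 61 7 11 7 5 63 6 6 63 7 6 61 7 7 63 65 111 65 65 113 6 20 7 107 114 65 107 65 117 115 86 103 108 114 113 110 108 112 112 113 113 111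 113 5 59 6 6 108 7 114 114) (@D3.rec (fun _ => Nat) 112 36 109 87 5 57 6 6 55 7 83 111 0 6 59 6 59 7 7 110 104 21 63 1 7 57 21 21 6 106 7 10 76 7 20 20 6 107 7 114 7 0 1 106 0 1 106 112 11 6 7) (@D3.rec (fun _ => Nat) 21 63 7 57 64 21 0 21 65 1 8 83 7 114 108 9 21 1 21 65 0 1 1 21 1 5 17 6 5 6 5 6 6 17 7 17 17 108 118 111 6 18 7 109 113 111 21 108 7 18 18) (@D3.rec (fun _ => Nat) 92 18 18 4 5 90 33 0 88 4 5 0 1 5 18 6 107 114 65 0 1 112 5 18 6 81 65 0 65 0 1 6 18 7 38 38 0 18 18 107 5 0 6 0 1 108 112 0 6 18 7) (@D3.rec (fun _ => Nat) 81 67 65 67 65 6 5 0 7 0 6 0 1 6 0 1 7 0 1 64 7 18 18 56 1 38 116 1 18 56 18 105 18 67 1 41 41 104 4 5 42 62 120 111 64 42 64 6 60 7 5) (@D3.rec (fun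 _ => Nat) 62 6 104 37 56 37 56 6 62 7 5 108 6 116 113 58 61 62 61 62 7 62 112 0 102 4 5 0 1 109 5 19 6 82 84 82 0 108 1 82 0 5 0 6 0 1 105 6 19 7 8) (@D3.rec (fun _ => Nat) 5 107 6 37 52 104 106 118 0 1 9 0 6 19 7 105 52 37 52 5 109 105 6 0 1 6 7 0 1 108 61 21 61 7 19 19 1 19 19 10 10 0 6 110 7 36 106 106 0 1 114) (@D3.rec (fun _ => Nat) 0 1 106 11 106 11 0 1 7 19 19 36 36 63 109 105 108 107 6 7 0 1 115 108 113 0 1 66 21 21 7 0 1 66 21 106 21 61 19 19 19 107 65 19 108 110 110 111 109 5 18) (@D3.rec (fun _ => Nat) 6 108 116 116 109 6 18 7 88 4 5 0 1 5 18 6 117 105 87 105 0 117 0 1 65 87 6 18 7 18 116 114 109 89 117 109 113 0 1 65 110 7 18 18 66 108 106 111 107 105 117) (@D3.rec (fun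 _ => Nat) 88 66 111 111 4 5 0 1 5 114 6 109 118 113 94 111 0 5 6 0 1 6 19 7 109 106 114 112 6 7 110 0 1 88 6 0 1 7 0 1 7 19 111 111 108 108 110 4 5 5 108) (@D3.rec (fun _ => Nat) 6 87 0 0 1 109 91 0 5 0 6 0 1 111 6 19 7 112 115 113 112 113 111 6 112 7 84 0 84 0 1 113 0 113 0 1 6 90 7 0 1 117 84 7 19 19 111 6 112 7 6) (@D3.rec (fun _ => Nat) 5 110 7 108 6 109 6 112 7 112 7 117 84 84 5 0 89 0 6 0 1 6 0 1 7 0 1 6 0 6 0 1 7 0 1 7 0 0 1 107 21 88 7 0 95 1 0 1 21 114 21) (@D3.rec (fun _ => Nat) 111 19 19 107 111 88 90 110 105 0 1 1 62 62 62 62 118 112 7 19 5 19 6 85 0 1 6 19 7 5 19 6 6 19 7 7 19 114 6 19 7 112 7 19 67 111 7 65 63 65 63) (@D3.rec (fun _ => Nat) 19 19 19 19 43 43 106 42 62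 66 115 111 42 62 5 62 6 5 0 6 0 1 114 6 62 7 5 62 6 107 0 6 62 7 7 64 62 113 1 62 63 5 58 6 6 106 7 5 104 6 109) (@D3.rec (fun _ => Nat) 106 6 107 7 114 0 1 7 114 110 83 38 38 6 58 6 58 7 7 7 58 61 20 66 66 106 116 108 61 66 109 112 5 108 6 108 108 6 20 7 112 0 0 1 112 5 0 6 0 1 0) (@D3.rec (fun _ => Nat) 1 112 5 107 85 6 108 0 6 0 1 7 0 1 115 113 63 7 20 20 106 10 106 6 20 7 37 106 6 7 110 104 11 0 1 7 20 65 37 37 6 6 7 7 21 7 63 21 104 21 63) (@D3.rec (fun _ => Nat) 65 20 65 65 112 111 113 65 65 65 65 65 65 67 116 110 10 108 6 0 1 7 0 1 10 112 7 20 20 38 6 106 7 108 106 6 6 106 7 7 112 0 11 0 1 7 116 63 112 115 108) (@D3.rec (fun _ => Nat) 11 0 112 1 20 114 114 38 105 6 105 7 21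 7 63 63 107 0 21 0 21 0 1 8 107 7 0 0 1 9 111 105 0 0 1 1 21 0 1 21 0 1 0 63 1 65 1 21 109 65 63)
def lv_f_20 : D2 → D3 → Nat := @D2.rec (fun _ => D3 → Nat) (@D3.rec (fun _ => Nat) 65 65 20 67 20 20 1 0 1 63 111 106 109 117 104 109 115 111 65 65 62 105 67 117 1 114 105 105 112 18 64 64 7 114 111 6 106 7 6 106 7 115 88 7 85 22 64 108 64 64 66) (@D3.rec (fun _ => Nat) 66 64 64 64 68 62 68 62 114 106 108 0 1 6 75 7 66 0 1 5 64 6 0 1 6 63 7 0 1 106 7 66 0 1 66 0 1 6 64 7 0 1 7 63 0 1 106 107 115 82 105) (@D3.rec (fun _ => Nat) 115 105 111 115 114 0 114 0 1 110 109 66 114 66 113 66 114 64 110 64 107 66 6 7 66 6 84 66 7 66 66 7 64 22 6 0 1 7 0 1 7 107 114 6 66 7 66 6 68 6 66) (@D3.rec (fun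 _ => Nat) 7 0 1 7 0 1 116 7 66 0 1 108 6 57 7 6 66 109 66 7 66 37 7 66 66 107 53 8 68 7 66 66 9 0 1 0 1 22 53 22 53 66 1 22 109 113 112 85 0 1 105) (@D3.rec (fun _ => Nat) 0 85 0 1 85 0 1 6 0 6 0 1 7 0 1 7 0 1 7 0 1 0 1 93 111 109 110 89 114 0 1 115 113 108 108 121 111 111 0 1 118 111 7 107 116 109 110 117 90 121 109) (@D3.rec (fun _ => Nat) 7 0 1 118 110 108 22 110 1 22 6 20 7 112 6 63 7 10 114 7 20 20 6 63 7 6 63 7 7 63 11 6 65 7 7 65 7 63 63 65 65 115 119 7 21 118 114 67 114 115 86) (@D3.rec (fun _ => Nat) 107 115 110 111 110 108 117 112 111 115 111 6 59 7 7 112 114 112 112 38 109 87 6 57 7 7 57 64 83 0 116 69 1 8 59 7 59 59 9 113 104 22 65 59 22 7 116 106 12 76 76) (@D3.rec (fun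 _ => Nat) 21 21 117 7 107 107 0 1 111 1 111 120 7 22 63 59 64 64 22 71 1 22 65 8 83 109 115 22 65 1 6 18 7 6 7 6 7 7 18 18 18 18 115 109 7 19 111 22 108 19 19) (@D3.rec (fun _ => Nat) 19 92 19 5 19 6 92 0 0 1 88 0 5 0 6 0 1 105 6 19 7 109 111 0 66 0 1 108 112 0 6 19 7 83 0 65 0 1 66 0 1 7 19 19 113 1 19 19 120 6 0) (@D3.rec (fun _ => Nat) 1 7 0 1 114 112 0 1 7 19 19 83 65 67 65 67 65 6 0 6 0 1 7 0 1 7 0 1 105 7 0 56 1 0 1 64 19 19 19 106 116 116 111 19 85 43 43 106 5 109 6) (@D3.rec (fun _ => Nat) 44 62 122 113 64 44 64 7 64 6 66 7 114 39 58 39 56 7 66 6 110 7 58 63 66 63 66 66 113 0 1 106 0 5 0 6 0 1 107 111 0 6 20 7 84 84 84 0 1 109 84) (@D3.rec (fun _ => Nat) 0 1 6 0 1 7 0 1 107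 7 20 20 10 0 6 109 7 37 54 112 108 116 0 1 11 0 1 7 20 20 107 54 37 54 6 109 107 7 0 0 1 7 0 1 118 61 22 65 20 20 20) (@D3.rec (fun _ => Nat) 20 20 10 112 10 0 1 7 112 112 36 108 119 0 1 0 1 106 11 108 11 0 1 20 20 36 36 63 109 107 113 116 7 0 1 113 115 0 1 66 22 22 1 66 22 108 65 20 65 20 20) (@D3.rec (fun _ => Nat) 109 108 117 116 115 111 6 19 7 116 114 113 115 7 19 89 0 5 0 6 0 1 6 19 7 114 107 88 105 0 1 115 0 1 67 89 7 19 19 114 115 90 111 114 0 1 67 110 19 19 68) (@D3.rec (fun _ => Nat) 109 112 117 117 105 115 89 118 113 0 5 0 6 0 1 112 6 115 7 117 116 115 94 113 0 1 6 7 0 1 7 20 112 111 118 119 114 7 118 0 90 1 7 0 111 1 0 1 20 111 110) (@D3.rec (fun _ => Nat) 111 107 108 5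 112 6 6 110 7 89 0 1 0 1 110 113 86 0 1 6 0 1 7 0 1 112 113 7 20 20 115 108 108 113 112 119 113 7 116 86 0 1 86 0 1 113 0 1 113 0 0) (@D3.rec (fun _ => Nat) 1 7 91 0 1 115 86 20 20 111 107 7 114 6 108 6 112 7 108 7 113 7 112 113 114 84 84 6 0 1 90 0 1 7 0 1 7 0 1 0 1 8 0 1 7 0 0 1 9 0 0) (@D3.rec (fun _ => Nat) 1 105 0 0 1 1 107 22 89 0 95 1 113 1 22 109 117 20 119 86 107 112 1 18 64 66 64 112 20 6 20 7 87 0 1 7 20 20 6 20 7 7 20 20 112 7 20 20 20 67 67) (@D3.rec (fun _ => Nat) 67 20 20 20 45 118 44 62 111 109 113 66 6 62 7 6 0 1 7 0 1 107 7 62 62 6 62 7 109 0 1 7 62 64 64 64 63 106 64 6 60 7 7 106 116 6 106 7 109 108 7) (@D3.rec (fun _ => Nat) 114 112 121 0 112 1 112 114 85 40 8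 60 7 60 60 9 58 63 63 66 66 66 106 117 117 6 110 7 110 110 7 21 21 112 0 1 0 1 107 114 6 0 1 7 0 0 1 108 1 6 107) (@D3.rec (fun _ => Nat) 87 7 113 0 1 7 0 0 1 6 0 1 111 111 67 67 21 21 65 116 10 110 7 21 21 37 115 7 112 106 11 0 108 1 21 65 65 37 8 7 9 22 63 22 111 65 67 65 65 65 65) (@D3.rec (fun _ => Nat) 65 67 113 113 113 65 67 65 107 65 105 118 120 12 108 7 0 110 1 0 1 12 112 110 21 21 119 38 7 108 108 106 8 7 116 108 9 115 0 1 13 0 0 1 114 65 65 115 111 108 0) (@D3.rec (fun _ => Nat) 114 1 111 112 109 114 113 112 7 110 107 22 65 114 0 1 22 0 1 22 0 0 1 8 111 109 0 0 1 1 67 113 115 0 1 1 19 22 0 1 0 1 65 1 67 65 109 65 65 65 65) (@D3.rec (fun _ => Nat) 67 21 67 21 1 3 65 114 109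 113 106 107 111 64 107 107 105 94 7 106 7 114 115 113 90 87 66 113 66 64 68 64 64 64 116 108 115 0 1 7 77 77 67 0 1 6 65 7 0 1 106) (@D3.rec (fun _ => Nat) 7 65 0 1 108 66 0 107 1 0 1 7 64 64 0 1 65 1 113 84 105 113 115 107 113 114 0 1 112 0 1 114 66 112 66 116 66 112 66 66 66 116 66 66 7 66 7 86 66 66 68) (@D3.rec (fun _ => Nat) 68 7 0 114 1 0 1 115 116 116 7 66 66 8 68 7 66 66 9 0 1 110 0 1 108 66 1 108 7 57 7 66 66 118 66 66 37 66 112 55 55 8 68 68 66 66 0 1 1 23 55) (@D3.rec (fun _ => Nat) 55 0 1 107 0 1 85 0 113 1 0 1 8 0 1 7 0 115 1 9 0 1 0 1 0 1 1 93 119 111 111 90 1 117 116 110 114 121 113 1 118 119 118 91 123 1 110 23 7 21 7)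
def lv_f_21 : D2 → D3 → Nat := @D2.rec (fun _ => D3 → Nat) (@D3.rec (fun _ => Nat) 63 63 12 116 114 21 21 7 63 7 63 63 63 7 65 65 65 63 63 113 22 119 88 119 113 115 108 108 115 117 113 7 61 61 120 114 119 87 7 59 59 57 64 68 85 69 1 118 69 69 8) (@D3.rec (fun _ => Nat) 61 61 61 61 115 106 65 111 108 78 78 22 22 117 115 115 1 111 113 65 66 66 70 23 71 67 85 116 7 19 7 7 19 19 19 19 20 118 111 20 94 20 20 6 20 7 87 0 1 0 1) (@D3.rec (fun _ => Nat) 115 88 0 1 6 0 1 7 0 1 107 7 20 20 115 113 0 1 67 0 1 109 121 0 1 7 20 20 83 0 1 67 0 0 1 0 1 20 20 20 112 20 20 7 0 108 1 116 0 1 109) (@D3.rec (fun _ => Nat) 115 0 112 1 20 20 83 67 69 67 67 8 0 1 7 0 0 1 9 0 1 83 0 1 107 0 58 1 107 1 66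 20 20 20 111 43 106 6 111 7 44 64 113 66 66 66 62 7 64 64 39) (@D3.rec (fun _ => Nat) 58 58 58 64 7 110 110 63 64 64 115 0 1 114 0 1 6 0 1 7 0 1 108 111 0 1 7 21 21 84 84 84 0 109 1 105 84 0 0 1 7 0 0 1 0 1 107 21 21 21 10) (@D3.rec (fun _ => Nat) 0 1 7 109 113 39 54 112 110 108 0 1 11 0 1 21 21 21 121 54 54 54 7 117 117 107 0 0 1 1 1 119 63 63 21 21 21 12 112 12 0 0 1 122 112 112 38 108 0 1 1) (@D3.rec (fun _ => Nat) 108 13 108 0 1 21 109 38 65 123 107 120 1 113 1 68 23 68 110 67 21 21 114 114 115 118 7 20 114 115 20 90 0 1 6 0 1 7 0 1 7 20 20 121 89 119 0 0 1 0 1) (@D3.rec (fun _ => Nat) 67 89 20 20 91 113 1 119 20 119 117 113 107 90 118 110 0 1 6 0 1 7 0 1 107 7 115 115 115 117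 94 114 0 0 1 7 0 1 21 112 113 109 118 0 91 1 0 113 1 111 1) (@D3.rec (fun _ => Nat) 118 112 109 109 110 6 110 7 7 112 113 89 0 0 1 112 1 92 117 88 0 0 1 114 7 0 0 1 93 0 1 109 114 21 21 111 108 110 121 113 114 117 116 86 0 115 1 0 1 122 0) (@D3.rec (fun _ => Nat) 0 1 0 0 1 1 92 1 86 21 114 109 120 8 111 7 111 112 9 111 113 116 86 7 0 111 1 91 0 1 0 1 0 1 1 8 0 0 1 0 0 1 1 113 0 0 1 1 105 0 1) (@D3.rec (fun _ => Nat) 1 115 19 109 90 95 1 113 109 23 116 88 94 64 7 21 21 0 1 21 21 7 21 21 21 21 21 65 21 21 64 121 109 7 64 64 7 0 0 1 67 0 1 113 64 64 65 7 64 64 121) (@D3.rec (fun _ => Nat) 0 113 1 64 64 65 64 65 108 7 60 60 116 118 7 116 106 120 116 108 112 114 0 116 1 112 85 8 60 60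 60 60 63 63 63 68 68 114 7 108 108 124 110 115 22 22 67 114 0 0 1) (@D3.rec (fun _ => Nat) 116 1 114 7 0 91 1 0 0 1 1 110 109 7 108 87 111 0 0 1 6 0 0 1 1 113 7 1 115 65 65 67 22 22 67 69 12 110 108 22 22 111 113 123 111 110 0 116 1 110 67) (@D3.rec (fun _ => Nat) 67 67 69 8 109 67 67 67 67 109 67 67 67 69 110 115 67 107 12 110 110 0 112 1 1 115 112 22 22 119 115 118 118 108 8 114 117 65 111 0 1 0 0 1 1 3 65 65 67 109 110) (@D3.rec (fun _ => Nat) 112 1 111 113 113 112 112 116 118 112 115 107 116 0 111 1 23 0 0 1 0 0 1 1 111 117 109 0 1 0 1 67 20 67 115 1 20 0 1 1 67 67 67 67 67 64 69 22 112 2 110) (@D3.rec (fun _ => Nat) 111 120 107 110 112 91 120 116 115 90 111 64 64 114 111 0 1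 77 77 114 0 1 7 66 66 0 1 106 65 1 111 0 112 1 1 66 66 1 84 110 113 107 120 0 110 1 0 1 112 68 111) (@D3.rec (fun _ => Nat) 68 114 68 68 66 66 68 68 68 68 68 68 0 114 1 1 116 116 116 116 68 8 70 70 68 68 0 1 110 1 110 113 59 68 68 68 55 55 70 70 68 68 1 55 1 120 0 113 1 0 113) (@D3.rec (fun _ => Nat) 1 1 8 0 115 1 0 115 1 0 1 1 1 95 121 111 118 114 123 113 22 65 65 123 116 22 22 65 65 65 67 67 65 65 123 120 117 113 108 115 61 61 110 110 89 59 59 70 66 70 70) (@D3.rec (fun _ => Nat) 85 71 71 71 71 61 61 61 61 109 117 108 78 78 23 121 119 116 111 66 72 73 20 20 20 20 94 21 21 7 21 21 87 0 0 1 117 1 90 0 0 1 95 7 0 0 1 68 0 1 109) (@D3.rec (fun _ => Nat) 21 21 21 113 0 108 1 109 0 1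 111 115 0 114 1 21 21 21 85 0 0 1 0 0 1 1 1 21 21 21 114 0 109 1 110 1 109 0 112 1 21 85 67 67 8 0 0 1 0 0 1) (@D3.rec (fun _ => Nat) 1 111 0 1 85 1 115 58 1 109 109 66 21 21 115 7 111 114 64 66 66 68 68 60 60 120 112 112 68 113 0 1 114 0 0 1 106 7 0 0 1 108 0 1 110 120 0 0 1 22 22) (@D3.rec (fun _ => Nat) 22 86 86 0 114 1 107 0 0 1 1 0 0 1 1 3 1 115 22 22 22 22 12 0 0 1 119 115 112 56 112 112 1 0 1 22 22 56 56 115 112 0 1 0 1 9 63 22 22 12 114) (@D3.rec (fun _ => Nat) 114 0 0 1 1 113 122 114 114 114 117 1 116 120 1 107 116 68 22 115 21 91 0 113 1 7 0 115 1 0 1 21 21 90 0 0 1 1 1 91 21 117 117 114 0 113 1 107 7 0 0) (@D3.rec (fun _ => Nat) 1 93 0 1 109 114 115 113 96 0 0 1 1 1 115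 114 109 92 1 117 1 112 109 114 112 121 7 110 112 119 115 0 0 1 1 91 109 115 0 0 1 1 109 0 0 1 1 3 92 1 115) (@D3.rec (fun _ => Nat) 109 22 22 110 109 116 113 115 114 0 117 1 1 0 0 1 1 0 1 0 1 9 120 111 8 111 113 114 113 0 113 1 0 1 1 1 0 0 1 1 3 0 1 0 1 115 20 116 0 1 1) (@D3.rec (fun _ => Nat) 112 1 110 20 109 69 121 111 88 22 22 1 22 22 22 22 22 22 22 121 115 64 64 66 0 0 1 1 110 67 1 115 64 64 65 64 64 0 113 1 108 66 66 65 62 62 122 118 114 108 114) (@D3.rec (fun _ => Nat) 118 112 114 1 62 62 92 62 62 65 65 68 110 110 117 110 116 23 23 67 69 0 0 1 1 115 0 93 1 0 1 1 110 110 108 0 0 1 1 93 7 0 1 0 1 115 8 113 69 69 67)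
def lv_f_22 : D2 → D3 → Nat := @D2.rec (fun _ => D3 → Nat) (@D3.rec (fun _ => Nat) 109 23 67 67 69 119 110 23 23 111 111 110 114 1 111 110 110 67 67 69 67 67 67 109 67 69 67 117 107 115 110 114 1 112 111 111 23 122 120 116 108 115 113 67 67 0 1 0 1 1 3) (@D3.rec (fun _ => Nat) 2 110 67 67 115 109 118 115 118 114 116 116 109 0 113 1 0 0 1 1 101 0 1 0 1 113 113 109 111 0 1 69 1 69 21 67 21 1 67 67 112 114 93 118 112 112 116 117 66 66 113) (@D3.rec (fun _ => Nat) 1 79 79 116 114 1 67 67 1 113 113 114 1 66 66 116 116 109 0 112 1 1 68 113 68 68 68 68 68 68 68 68 70 110 1 116 121 121 118 116 70 70 68 68 1 112 122 68 68 57 57) (@D3.rec (fun _ => Nat) 70 70 68 0 115 1 119 1 115 0 115 1 116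 1 117 1 121 113 120 116 121 65 65 115 116 23 65 65 67 67 65 121 63 63 112 61 61 70 70 70 70 71 71 71 71 63 63 63 117 80 24) (@D3.rec (fun _ => Nat) 123 119 72 21 21 22 22 22 22 0 0 1 1 111 0 0 1 1 68 0 0 1 1 3 66 1 119 22 22 22 22 0 110 1 111 1 111 0 114 1 111 22 22 0 0 1 1 0 1 0 1) (@D3.rec (fun _ => Nat) 9 22 22 107 1 116 116 119 1 69 0 0 1 1 3 0 1 0 1 109 116 1 85 120 111 109 22 120 114 68 68 66 66 60 60 122 112 112 114 0 1 0 0 1 1 108 0 0 1 1 111) (@D3.rec (fun _ => Nat) 1 113 0 0 1 1 23 23 23 86 114 1 117 0 1 0 1 9 0 1 0 1 3 2 113 23 23 23 23 0 0 1 1 106 119 115 112 110 116 118 1 23 56 56 116 118 0 1 1 10 23) (@D3.rec (fun _ => Nat) 117 114 0 1 0 1 113 116 118 114 114 0 115 1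 0 117 1 1 22 22 0 1 120 1 0 111 1 107 0 0 1 1 94 90 1 112 124 117 115 0 1 0 1 98 114 112 112 110 112 112 110) (@D3.rec (fun _ => Nat) 121 115 0 1 1 91 112 0 1 0 1 111 9 116 0 1 0 1 3 92 92 2 113 111 23 116 113 109 113 115 116 122 1 117 0 1 0 1 100 0 1 1 10 120 111 121 114 119 1 113 1) (@D3.rec (fun _ => Nat) 0 1 0 1 3 2 0 1 111 1 115 21 116 1 110 21 114 69 115 23 23 23 23 23 23 111 66 66 67 0 1 0 1 112 67 113 66 67 67 66 66 113 1 113 67 62 62 120 117 108 116) (@D3.rec (fun _ => Nat) 62 62 92 62 65 65 112 110 116 117 117 24 69 69 71 0 1 1 119 93 1 93 1 113 114 0 1 0 1 93 8 0 1 116 9 1 115 67 69 69 111 24 69 71 69 71 115 110 24 113 113) (@D3.rec (fun _ => Nat) 119 114 115 112 71 69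 116 69 115 109 117 112 123 121 24 122 118 110 117 67 67 69 1 1 3 2 112 69 116 118 112 118 118 1 113 0 1 0 1 101 0 1 1 117 116 111 111 0 1 69 22) (@D3.rec (fun _ => Nat) 69 22 69 112 93 117 66 79 115 116 116 68 68 113 68 118 114 1 112 120 113 70 70 68 70 70 70 122 123 122 118 118 72 72 70 116 70 57 72 70 119 1 115 121 116 1 117 118 115 124 122) (@D3.rec (fun _ => Nat) 67 117 24 67 69 67 122 63 123 61 72 72 72 72 73 73 73 63 63 117 80 124 126 22 23 23 23 0 1 1 115 0 1 0 1 70 9 97 0 1 0 1 3 68 95 2 117 23 23 23 23) (@D3.rec (fun _ => Nat) 115 1 110 111 117 119 1 111 23 0 1 0 1 107 0 1 1 10 23 114 0 1 0 1 3 2 0 1 111 1 111 111 87 111 120 116 68 70 62 117 120 114 114 1 0 1 0 1 116 0 1)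 (@D3.rec (fun _ => Nat) 0 1 115 115 0 1 0 1 24 24 24 115 0 1 1 10 0 1 3 1 3 2 24 24 24 24 0 1 0 1 108 125 121 114 114 114 58 116 0 1 11 11 117 116 0 1 120 1 115 123 120) (@D3.rec (fun _ => Nat) 126 118 116 122 1 115 125 1 117 23 125 1 122 1 115 114 0 1 0 1 96 92 114 116 116 0 1 1 98 114 112 112 112 121 1 93 110 0 1 116 1 10 117 0 1 3 94 1 3 94 2) (@D3.rec (fun _ => Nat) 119 24 112 120 111 121 121 0 1 1 102 0 1 11 11 118 121 0 1 3 1 3 2 0 1 122 22 111 22 111 71 24 24 24 24 124 66 68 68 0 1 114 69 1 114 66 67 66 115 64 125) (@D3.rec (fun _ => Nat) 117 64 94 94 64 67 112 112 116 118 25 69 71 71 1 117 95 116 0 1 95 9 1 95 0 1 121 71 69 116 111 69 69 71 109 121 25 115 111 124 117 118 113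 121 125 113 69 69 69 2 118) (@D3.rec (fun _ => Nat) 118 115 0 1 101 1 103 0 1 115 115 115 113 1 71 23 69 122 68 81 117 117 116 69 68 111 116 123 70 70 70 70 119 120 125 72 70 70 59 72 126 121 116 122 122 122 67 121 67 69 65) (@D3.rec (fun _ => Nat) 63 72 72 72 73 73 65 126 24 24 24 1 115 0 1 70 1 10 97 0 1 3 68 1 3 95 2 24 24 24 24 116 117 113 0 1 1 107 0 1 11 11 0 1 3 1 3 2 0 1 113) (@D3.rec (fun _ => Nat) 113 111 119 70 68 62 121 120 121 116 0 1 116 1 0 1 115 1 0 1 1 25 25 0 1 11 11 0 1 3 2 2 25 25 0 1 119 1 108 123 124 121 112 116 58 112 1 12 112 0 1) (@D3.rec (fun _ => Nat) 119 122 122 121 118 123 120 24 127 125 114 0 1 96 92 1 120 0 1 98 98 114 121 0 1 11 117 11 118 0 1 3 94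 2 94 2 122 116 123 121 0 1 102 102 1 12 120 121 0 1 3) (@D3.rec (fun _ => Nat) 2 2 1 113 23 117 25 25 68 69 0 1 119 69 68 64 112 64 94 67 114 123 118 71 73 95 0 1 95 1 120 71 118 71 73 119 117 117 125 118 69 71 126 0 1 103 1 115 115 24 71) (@D3.rec (fun _ => Nat) 121 117 70 119 125 72 122 74 124 115 74 74 75 25 25 0 1 11 99 11 99 0 1 3 97 2 117 2 25 25 114 0 1 120 109 1 12 0 1 3 2 2 1 113 113 120 122 123 0 1 0) (@D3.rec (fun _ => Nat) 1 0 1 26 1 12 1 3 2 26 0 1 117 124 124 13 123 1 119 122 123 118 124 121 125 0 1 1 100 114 1 12 117 1 3 96 2 122 1 102 13 1 3 2 24 124 70 1 127 96 120) (@D3.rec (fun _ => Nat) 73 1 103 124 117 71 1 103 118 116 74 26 1 12 99 1 3 121 2 26 1 121 13 1 3 2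 115 124 1 1 1 13 2 1 123 126 120 1 103 13 121 104 2 104 2 13 102 119 2 124 2)
def lv_f : Pt → Nat := @Pt.rec (fun _ => Nat) (@D1.rec (fun _ => D2 → D3 → Nat) lv_f_0 lv_f_1 lv_f_2 lv_f_3 lv_f_4 lv_f_5 lv_f_6 lv_f_7 lv_f_8 lv_f_9 lv_f_10 lv_f_11 lv_f_12 lv_f_13 lv_f_14 lv_f_15 lv_f_16 lv_f_17 lv_f_18 lv_f_19 lv_f_20 lv_f_21 lv_f_22)
abbrev lc_f_Cert_tree : Cert rels S Gen.f := Cert.tree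
abbrev lc_f_rc_15_1 : Cert rels S Gen.f := rc_15_1
abbrev lc_f_rc_15_3 : Cert rels S Gen.f := rc_15_3
abbrev lc_f_rc_23_1 : Cert rels S Gen.f := rc_23_1
abbrev lc_f_rc_23_3 : Cert rels S Gen.f := rc_23_3
abbrev lc_f_rc_30_1 : Cert rels S Gen.f := rc_30_1
abbrev lc_f_rc_30_3 : Cert rels S Gen.f := rc_30_3
abbrev lc_f_rc_36_1 : Cert rels S Gen.f := rc_36_1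
abbrev lc_f_rc_36_3 : Cert rels S Gen.f := rc_36_3
abbrev lc_f_rc_36_5 : Cert rels S Gen.f := rc_36_5
abbrev lc_f_rc_42_0 : Cert rels S Gen.f := rc_42_0
abbrev lc_f_rc_42_2 : Cert rels S Gen.f := rc_42_2
abbrev lc_f_rc_43_0 : Cert rels S Gen.f := rc_43_0
abbrev lc_f_rc_43_1 : Cert rels S Gen.f := rc_43_1
abbrev lc_f_rc_44_0 : Cert rels S Gen.f := rc_44_0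
abbrev lc_f_rc_44_2 : Cert rels S Gen.f := rc_44_2
abbrev lc_f_rc_44_4 : Cert rels S Gen.f := rc_44_4
abbrev lc_f_rc_45_0 : Cert rels S Gen.f := rc_45_0
abbrev lc_f_rc_45_2 : Cert rels S Gen.f := rc_45_2
abbrev lc_f_rc_46_0 : Cert rels S Gen.f := rc_46_0
abbrev lc_f_rc_46_2 : Cert rels S Gen.f := rc_46_2
abbrev lc_f_rc_55_14 : Cert rels S Gen.f := rc_55_14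
abbrev lc_f_rc_55_23 : Cert rels S Gen.f := rc_55_23
abbrev lc_f_rc_55_32 : Cert rels S Gen.f := rc_55_32
abbrev lc_f_rc_55_5 : Cert rels S Gen.f := rc_55_5
abbrev lc_f_rc_55_50 : Cert rels S Gen.f := rc_55_50
abbrev lc_f_rc_55_59 : Cert rels S Gen.f := rc_55_59
abbrev lc_f_rc_55_68 : Cert rels S Gen.f := rc_55_68
abbrev lc_f_rc_55_86 : Cert rels S Gen.f := rc_55_86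
abbrev lc_f_rc_56_12 : Cert rels S Gen.f := rc_56_12
abbrev lc_f_rc_56_19 : Cert rels S Gen.f := rc_56_19
abbrev lc_f_rc_56_26 : Cert rels S Gen.f := rc_56_26
abbrev lc_f_rc_56_33 : Cert rels S Gen.f := rc_56_33
abbrev lc_f_rc_56_40 : Cert rels S Gen.f := rc_56_40
abbrev lc_f_rc_56_47 : Cert rels S Gen.f := rc_56_47
abbrev lc_f_rc_56_54 : Cert rels S Gen.f := rc_56_54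
abbrev lc_f_rc_6_1 : Cert rels S Gen.f := rc_6_1
abbrev lc_f_rc_6_3 : Cert rels S Gen.f := rc_6_3
abbrev lc_f_sc_5_0 : Cert rels S Gen.f := sc_5_0
def ce_f_0 : D2 → D3 → (Cert rels S Gen.f) := @D2.rec (fun _ => D3 → (Cert rels S Gen.f)) (@D3.rec (fun _ => (Cert rels S Gen.f)) lc_f_sc_5_0 lc_f_rc_45_2 lc_f_Cert_tree lc_f_rc_43_0 lc_f_rc_36_3 lc_f_rc_30_1 lc_f_rc_23_1 lc_f_rc_42_2 lc_f_rc_15_1 lc_f_rc_23_1 lc_f_rc_46_2 lc_f_rc_6_1 lc_f_rc_15_1 lc_f_rc_30_1 lc_f_rc_23_1 lc_f_rc_6_1 lc_f_rc_15_1 lc_f_rc_15_1 lc_f_Cert_tree lc_f_rc_30_1 lc_f_rc_6_1 lc_f_rc_6_1 lc_f_rc_23_1 lc_f_Cert_tree lc_f_rc_15_1 lc_f_rc_43_0 lc_f_rc_46_2 lc_f_rc_42_2 lc_f_rc_6_1 lc_f_Cert_tree lc_f_rc_6_1 lc_f_Cert_tree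 lc_f_rc_23_1 lc_f_rc_43_0 lc_f_rc_46_2 lc_f_rc_15_1 lc_f_rc_44_2 lc_f_rc_46_2 lc_f_rc_42_2 lc_f_rc_15_1 lc_f_Cert_tree lc_f_rc_6_1 lc_f_rc_43_0 lc_f_rc_46_2 lc_f_rc_6_1 lc_f_Cert_tree lc_f_rc_43_0 lc_f_rc_46_2 lc_f_rc_23_1 lc_f_rc_15_1 lc_f_rc_46_2) (@D3.rec (fun _ => (Cert rels S Gen.f)) lc_f_rc_42_2 lc_f_rc_45_2 lc_f_rc_44_2 lc_f_rc_42_2 lc_f_rc_30_1 lc_f_Cert_tree lc_f_rc_15_1 lc_f_Cert_tree lc_f_rc_43_0 lc_f_rc_46_2 lc_f_rc_6_1 lc_f_rc_6_1 lc_f_rc_46_2 lc_f_rc_42_2 lc_f_rc_43_0 lc_f_rc_43_1 lc_f_rc_46_2 lc_f_rc_23_1 lc_f_rc_46_2 lc_f_rc_42_2 lc_f_rc_30_1 lc_f_rc_15_1 lc_f_rc_15_1 lc_f_rc_42_2 lc_f_rc_30_1 lc_f_rc_45_2 lc_f_rc_42_2 lc_f_rc_30_1 lc_f_rc_23_1 lc_f_Cert_tree lc_f_rc_43_0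 lc_f_rc_46_2 lc_f_rc_15_1 lc_f_rc_43_0 lc_f_rc_43_1 lc_f_rc_46_2 lc_f_rc_6_1 lc_f_rc_46_2 lc_f_rc_42_2 lc_f_rc_6_1 lc_f_rc_6_1 lc_f_rc_6_1 lc_f_rc_42_2 lc_f_rc_30_1 lc_f_rc_36_3 lc_f_rc_30_1 lc_f_rc_42_2 lc_f_rc_46_2 lc_f_rc_46_2 lc_f_rc_42_2 lc_f_rc_23_1) (@D3.rec (fun _ => (Cert rels S Gen.f)) lc_f_rc_23_1 lc_f_rc_42_2 lc_f_rc_30_1 lc_f_Cert_tree lc_f_rc_15_1 lc_f_rc_42_2 lc_f_rc_30_1 lc_f_rc_23_1 lc_f_rc_42_2 lc_f_rc_44_2 lc_f_rc_23_1 lc_f_rc_36_3 lc_f_rc_15_1 lc_f_Cert_tree lc_f_rc_43_0 lc_f_rc_43_1 lc_f_rc_46_2 lc_f_rc_15_1 lc_f_rc_46_2 lc_f_rc_42_2 lc_f_rc_15_1 lc_f_rc_6_1 lc_f_rc_6_1 lc_f_rc_42_2 lc_f_rc_46_2 lc_f_rc_46_2 lc_f_rc_42_2 lc_f_rc_6_1 lc_f_rc_6_1 lc_f_rc_42_2 lc_f_rc_30_1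 lc_f_Cert_tree lc_f_rc_6_1 lc_f_rc_6_1 lc_f_rc_30_1 lc_f_rc_23_1 lc_f_Cert_tree lc_f_rc_36_3 lc_f_rc_36_3 lc_f_rc_30_1 lc_f_rc_42_2 lc_f_rc_30_1 lc_f_rc_46_2 lc_f_rc_42_2 lc_f_rc_42_2 lc_f_rc_30_1 lc_f_rc_23_1 lc_f_rc_42_2 lc_f_rc_30_1 lc_f_rc_23_1 lc_f_Cert_tree) (@D3.rec (fun _ => (Cert rels S Gen.f)) lc_f_rc_43_0 lc_f_rc_42_2 lc_f_rc_44_2 lc_f_rc_23_1 lc_f_rc_36_3 lc_f_rc_15_1 lc_f_rc_45_2 lc_f_rc_23_1 lc_f_Cert_tree lc_f_rc_15_1 lc_f_rc_23_1 lc_f_rc_6_1 lc_f_rc_43_0 lc_f_rc_43_1 lc_f_rc_46_2 lc_f_rc_15_1 lc_f_rc_15_1 lc_f_rc_42_2 lc_f_rc_46_2 lc_f_rc_46_2 lc_f_rc_42_2 lc_f_rc_15_1 lc_f_rc_15_1 lc_f_rc_42_2 lc_f_rc_30_1 lc_f_rc_23_1 lc_f_Cert_tree lc_f_Cert_tree lc_f_rc_6_1 lc_f_rc_6_1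 lc_f_rc_6_1 lc_f_rc_6_1 lc_f_rc_6_1 lc_f_rc_46_2 lc_f_rc_42_2 lc_f_rc_42_2 lc_f_rc_30_1 lc_f_rc_6_1 lc_f_rc_6_1 lc_f_rc_30_1 lc_f_rc_23_1 lc_f_Cert_tree lc_f_rc_43_0 lc_f_rc_6_1 lc_f_rc_6_1 lc_f_rc_23_1 lc_f_rc_6_1 lc_f_rc_15_1 lc_f_rc_43_0 lc_f_rc_45_2 lc_f_rc_43_1) (@D3.rec (fun _ => (Cert rels S Gen.f)) lc_f_rc_46_2 lc_f_rc_30_1 lc_f_rc_46_2 lc_f_rc_36_3 lc_f_rc_42_2 lc_f_rc_30_1 lc_f_rc_46_2 lc_f_rc_42_2 lc_f_rc_42_2 lc_f_rc_30_1 lc_f_rc_30_1 lc_f_rc_23_1 lc_f_Cert_tree lc_f_rc_42_2 lc_f_rc_44_2 lc_f_rc_23_1 lc_f_Cert_tree lc_f_rc_15_1 lc_f_Cert_tree lc_f_rc_43_0 lc_f_rc_44_2 lc_f_rc_45_2 lc_f_rc_23_1 lc_f_Cert_tree lc_f_rc_15_1 lc_f_rc_23_1 lc_f_rc_6_1 lc_f_rc_23_1 lc_f_Cert_tree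 lc_f_rc_15_1 lc_f_Cert_tree lc_f_rc_43_0 lc_f_rc_6_1 lc_f_rc_15_1 lc_f_rc_30_1 lc_f_rc_23_1 lc_f_rc_23_1 lc_f_rc_42_2 lc_f_rc_46_2 lc_f_rc_30_1 lc_f_rc_46_2 lc_f_rc_42_2 lc_f_Cert_tree lc_f_rc_15_1 lc_f_rc_15_1 lc_f_rc_15_1 lc_f_rc_15_1 lc_f_rc_15_1 lc_f_rc_46_2 lc_f_rc_42_2 lc_f_rc_42_2) (@D3.rec (fun _ => (Cert rels S Gen.f)) lc_f_rc_30_1 lc_f_rc_15_1 lc_f_rc_15_1 lc_f_rc_30_1 lc_f_rc_23_1 lc_f_Cert_tree lc_f_Cert_tree lc_f_rc_43_0 lc_f_rc_43_0 lc_f_rc_45_2 lc_f_rc_43_1 lc_f_rc_46_2 lc_f_rc_30_1 lc_f_rc_6_1 lc_f_rc_6_1 lc_f_rc_6_1 lc_f_rc_6_1 lc_f_rc_6_1 lc_f_rc_6_1 lc_f_rc_42_2 lc_f_rc_30_1 lc_f_rc_30_1 lc_f_rc_23_1 lc_f_Cert_tree lc_f_rc_6_1 lc_f_rc_6_1 lc_f_rc_23_1 lc_f_Cert_tree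 lc_f_rc_15_1 lc_f_Cert_tree lc_f_rc_43_0 lc_f_rc_6_1 lc_f_rc_6_1 lc_f_rc_23_1 lc_f_Cert_tree lc_f_rc_15_1 lc_f_rc_23_1 lc_f_rc_6_1 lc_f_rc_45_2 lc_f_rc_42_2 lc_f_rc_46_2 lc_f_rc_45_2 lc_f_rc_46_2 lc_f_rc_30_1 lc_f_rc_46_2 lc_f_rc_42_2 lc_f_rc_23_1 lc_f_rc_30_1 lc_f_rc_46_2 lc_f_rc_30_1 lc_f_rc_46_2) (@D3.rec (fun _ => (Cert rels S Gen.f)) lc_f_rc_42_2 lc_f_rc_46_2 lc_f_rc_30_1 lc_f_rc_30_1 lc_f_rc_23_1 lc_f_Cert_tree lc_f_rc_23_1 lc_f_Cert_tree lc_f_rc_15_1 lc_f_Cert_tree lc_f_rc_43_0 lc_f_rc_45_2 lc_f_rc_23_1 lc_f_Cert_tree lc_f_rc_15_1 lc_f_Cert_tree lc_f_rc_43_0 lc_f_rc_6_1 lc_f_Cert_tree lc_f_rc_43_0 lc_f_rc_44_2 lc_f_rc_45_2 lc_f_rc_23_1 lc_f_Cert_tree lc_f_rc_15_1 lc_f_Cert_tree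 lc_f_rc_43_0 lc_f_rc_6_1 lc_f_rc_15_1 lc_f_rc_30_1 lc_f_rc_15_1 lc_f_Cert_tree lc_f_rc_43_0 lc_f_rc_6_1 lc_f_Cert_tree lc_f_Cert_tree lc_f_rc_43_0 lc_f_rc_6_1 lc_f_rc_15_1 lc_f_rc_42_2 lc_f_rc_30_1 lc_f_Cert_tree lc_f_rc_23_1 lc_f_rc_23_1 lc_f_rc_23_1 lc_f_rc_23_1 lc_f_rc_23_1 lc_f_rc_30_1 lc_f_rc_46_2 lc_f_rc_42_2 lc_f_rc_56_26) (@D3.rec (fun _ => (Cert rels S Gen.f)) lc_f_rc_46_2 lc_f_rc_42_2 lc_f_rc_30_1 lc_f_rc_43_0 lc_f_rc_45_2 lc_f_rc_43_1 lc_f_rc_46_2 lc_f_rc_30_1 lc_f_rc_15_1 lc_f_rc_15_1 lc_f_rc_15_1 lc_f_rc_15_1 lc_f_rc_15_1 lc_f_rc_15_1 lc_f_rc_42_2 lc_f_rc_30_1 lc_f_rc_30_1 lc_f_rc_23_1 lc_f_Cert_tree lc_f_rc_15_1 lc_f_rc_15_1 lc_f_rc_23_1 lc_f_Cert_tree lc_f_rc_15_1 lc_f_Cert_tree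 lc_f_rc_43_0 lc_f_Cert_tree lc_f_rc_43_0 lc_f_rc_15_1 lc_f_rc_45_2 lc_f_rc_42_2 lc_f_rc_46_2 lc_f_rc_45_2 lc_f_rc_46_2 lc_f_rc_30_1 lc_f_rc_46_2 lc_f_rc_42_2 lc_f_rc_23_1 lc_f_rc_30_1 lc_f_rc_6_1 lc_f_rc_30_1 lc_f_rc_6_1 lc_f_rc_6_1 lc_f_rc_6_1 lc_f_rc_30_1 lc_f_rc_30_1 lc_f_rc_23_1 lc_f_Cert_tree lc_f_rc_23_1 lc_f_Cert_tree lc_f_rc_15_1) (@D3.rec (fun _ => (Cert rels S Gen.f)) lc_f_Cert_tree lc_f_rc_43_0 lc_f_rc_6_1 lc_f_rc_23_1 lc_f_Cert_tree lc_f_rc_15_1 lc_f_Cert_tree lc_f_rc_43_0 lc_f_rc_6_1 lc_f_Cert_tree lc_f_rc_43_0 lc_f_rc_6_1 lc_f_rc_6_1 lc_f_rc_23_1 lc_f_Cert_tree lc_f_rc_15_1 lc_f_Cert_tree lc_f_rc_43_0 lc_f_rc_6_1 lc_f_rc_15_1 lc_f_rc_30_1 lc_f_rc_44_2 lc_f_rc_45_2 lc_f_rc_46_2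 lc_f_rc_30_1 lc_f_rc_46_2 lc_f_rc_42_2 lc_f_rc_45_2 lc_f_rc_46_2 lc_f_rc_42_2 lc_f_rc_23_1 lc_f_rc_46_2 lc_f_rc_42_2 lc_f_rc_30_1 lc_f_rc_15_1 lc_f_rc_23_1 lc_f_rc_42_2 lc_f_rc_30_1 lc_f_rc_23_1 lc_f_Cert_tree lc_f_rc_46_2 lc_f_rc_30_1 lc_f_rc_30_1 lc_f_rc_42_2 lc_f_Cert_tree lc_f_rc_23_1 lc_f_Cert_tree lc_f_rc_15_1 lc_f_Cert_tree lc_f_rc_43_0 lc_f_rc_15_1) (@D3.rec (fun _ => (Cert rels S Gen.f)) lc_f_Cert_tree lc_f_rc_43_0 lc_f_rc_6_1 lc_f_Cert_tree lc_f_Cert_tree lc_f_rc_43_0 lc_f_rc_42_2 lc_f_rc_23_1 lc_f_Cert_tree lc_f_rc_15_1 lc_f_Cert_tree lc_f_rc_43_0 lc_f_rc_6_1 lc_f_Cert_tree lc_f_Cert_tree lc_f_rc_43_0 lc_f_rc_44_2 lc_f_Cert_tree lc_f_rc_43_0 lc_f_rc_23_1 lc_f_rc_45_2 lc_f_rc_15_1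 lc_f_Cert_tree lc_f_rc_43_0 lc_f_rc_6_1 lc_f_Cert_tree lc_f_Cert_tree lc_f_rc_43_0 lc_f_rc_6_1 lc_f_rc_15_1 lc_f_rc_36_5 lc_f_rc_6_1 lc_f_Cert_tree lc_f_Cert_tree lc_f_rc_43_0 lc_f_rc_44_2 lc_f_Cert_tree lc_f_Cert_tree lc_f_rc_43_0 lc_f_rc_43_0 lc_f_rc_43_1 lc_f_rc_6_1 lc_f_Cert_tree lc_f_rc_30_1 lc_f_rc_43_0 lc_f_rc_45_2 lc_f_rc_43_1 lc_f_rc_46_2 lc_f_rc_23_1 lc_f_rc_23_1 lc_f_rc_23_1) (@D3.rec (fun _ => (Cert rels S Gen.f)) lc_f_rc_23_1 lc_f_rc_30_1 lc_f_rc_23_1 lc_f_rc_23_1 lc_f_rc_46_2 lc_f_rc_42_2 lc_f_rc_30_1 lc_f_rc_46_2 lc_f_rc_42_2 lc_f_rc_30_1 lc_f_rc_23_1 lc_f_Cert_tree lc_f_rc_45_2 lc_f_rc_42_2 lc_f_rc_46_2 lc_f_rc_45_2 lc_f_rc_46_2 lc_f_rc_30_1 lc_f_rc_46_2 lc_f_rc_42_2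 lc_f_rc_30_1 lc_f_rc_15_1 lc_f_rc_30_1 lc_f_rc_15_1 lc_f_rc_15_1 lc_f_rc_15_1 lc_f_rc_30_1 lc_f_rc_30_1 lc_f_rc_23_1 lc_f_Cert_tree lc_f_rc_23_1 lc_f_Cert_tree lc_f_rc_15_1 lc_f_Cert_tree lc_f_rc_43_0 lc_f_rc_15_1 lc_f_rc_23_1 lc_f_Cert_tree lc_f_rc_15_1 lc_f_Cert_tree lc_f_rc_43_0 lc_f_rc_6_1 lc_f_Cert_tree lc_f_Cert_tree lc_f_rc_43_0 lc_f_rc_15_1 lc_f_rc_43_0 lc_f_rc_43_1 lc_f_rc_23_1 lc_f_rc_15_1 lc_f_rc_6_1) (@D3.rec (fun _ => (Cert rels S Gen.f)) lc_f_rc_45_2 lc_f_rc_46_2 lc_f_rc_30_1 lc_f_rc_46_2 lc_f_rc_42_2 lc_f_rc_45_2 lc_f_rc_46_2 lc_f_rc_42_2 lc_f_rc_23_1 lc_f_rc_46_2 lc_f_rc_42_2 lc_f_rc_30_1 lc_f_rc_23_1 lc_f_rc_42_2 lc_f_rc_30_1 lc_f_rc_23_1 lc_f_Cert_tree lc_f_rc_6_1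 lc_f_rc_30_1 lc_f_rc_30_1 lc_f_rc_42_2 lc_f_Cert_tree lc_f_rc_23_1 lc_f_Cert_tree lc_f_rc_15_1 lc_f_Cert_tree lc_f_rc_43_0 lc_f_rc_15_1 lc_f_Cert_tree lc_f_rc_43_0 lc_f_rc_6_1 lc_f_Cert_tree lc_f_Cert_tree lc_f_rc_43_0 lc_f_rc_42_2 lc_f_rc_23_1 lc_f_Cert_tree lc_f_rc_15_1 lc_f_Cert_tree lc_f_rc_43_0 lc_f_rc_6_1 lc_f_Cert_tree lc_f_Cert_tree lc_f_rc_43_0 lc_f_rc_44_2 lc_f_Cert_tree lc_f_rc_43_0 lc_f_rc_23_1 lc_f_rc_6_1 lc_f_rc_15_1 lc_f_Cert_tree) (@D3.rec (fun _ => (Cert rels S Gen.f)) lc_f_rc_43_0 lc_f_rc_6_1 lc_f_Cert_tree lc_f_Cert_tree lc_f_rc_43_0 lc_f_rc_6_1 lc_f_rc_15_1 lc_f_rc_36_5 lc_f_rc_42_2 lc_f_rc_44_2 lc_f_rc_45_2 lc_f_rc_46_2 lc_f_rc_42_2 lc_f_rc_23_1 lc_f_rc_36_3 lc_f_rc_46_2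 lc_f_rc_42_2 lc_f_rc_30_1 lc_f_rc_23_1 lc_f_rc_46_2 lc_f_rc_42_2 lc_f_rc_30_1 lc_f_rc_15_1 lc_f_rc_23_1 lc_f_rc_42_2 lc_f_rc_30_1 lc_f_rc_23_1 lc_f_Cert_tree lc_f_rc_42_2 lc_f_rc_23_1 lc_f_Cert_tree lc_f_rc_15_1 lc_f_Cert_tree lc_f_rc_43_0 lc_f_rc_30_1 lc_f_rc_42_2 lc_f_Cert_tree lc_f_rc_44_2 lc_f_Cert_tree lc_f_rc_15_1 lc_f_Cert_tree lc_f_rc_43_0 lc_f_rc_15_1 lc_f_Cert_tree lc_f_rc_43_0 lc_f_rc_6_1 lc_f_Cert_tree lc_f_Cert_tree lc_f_rc_43_0 lc_f_rc_44_2 lc_f_rc_6_1) (@D3.rec (fun _ => (Cert rels S Gen.f)) lc_f_Cert_tree lc_f_Cert_tree lc_f_rc_43_0 lc_f_rc_44_2 lc_f_Cert_tree lc_f_Cert_tree lc_f_rc_43_0 lc_f_rc_43_0 lc_f_rc_42_2 lc_f_rc_42_2 lc_f_rc_15_1 lc_f_Cert_tree lc_f_rc_43_0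 lc_f_rc_6_1 lc_f_Cert_tree lc_f_Cert_tree lc_f_rc_43_0 lc_f_rc_44_2 lc_f_Cert_tree lc_f_Cert_tree lc_f_rc_43_0 lc_f_rc_43_0 lc_f_rc_43_1 lc_f_rc_23_1 lc_f_rc_45_2 lc_f_rc_43_0 lc_f_rc_15_1 lc_f_rc_23_1 lc_f_rc_6_1 lc_f_Cert_tree lc_f_Cert_tree lc_f_rc_43_0 lc_f_rc_44_2 lc_f_Cert_tree lc_f_Cert_tree lc_f_rc_43_0 lc_f_rc_43_0 lc_f_rc_43_1 lc_f_rc_6_1 lc_f_Cert_tree lc_f_Cert_tree lc_f_rc_43_0 lc_f_rc_43_0 lc_f_rc_43_1 lc_f_rc_44_2 lc_f_Cert_tree lc_f_rc_43_0 lc_f_rc_43_0 lc_f_rc_36_3 lc_f_rc_42_2 lc_f_rc_43_0) (@D3.rec (fun _ => (Cert rels S Gen.f)) lc_f_rc_45_2 lc_f_rc_46_2 lc_f_rc_42_2 lc_f_rc_45_2 lc_f_rc_42_2 lc_f_rc_46_2 lc_f_rc_45_2 lc_f_rc_46_2 lc_f_rc_46_2 lc_f_rc_42_2 lc_f_rc_23_1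 lc_f_rc_30_1 lc_f_rc_30_1 lc_f_rc_23_1 lc_f_rc_23_1 lc_f_rc_30_1 lc_f_rc_23_1 lc_f_rc_30_1 lc_f_rc_42_2 lc_f_rc_30_1 lc_f_rc_23_1 lc_f_Cert_tree lc_f_rc_36_1 lc_f_rc_30_1 lc_f_rc_23_1 lc_f_Cert_tree lc_f_rc_15_1 lc_f_Cert_tree lc_f_rc_43_0 lc_f_rc_15_1 lc_f_rc_45_2 lc_f_rc_46_2 lc_f_rc_30_1 lc_f_rc_46_2 lc_f_rc_42_2 lc_f_rc_45_2 lc_f_rc_46_2 lc_f_rc_42_2 lc_f_rc_46_2 lc_f_rc_42_2 lc_f_rc_30_1 lc_f_rc_42_2 lc_f_rc_30_1 lc_f_rc_23_1 lc_f_Cert_tree lc_f_rc_15_1 lc_f_rc_30_1 lc_f_rc_30_1 lc_f_rc_42_2 lc_f_Cert_tree lc_f_rc_23_1) (@D3.rec (fun _ => (Cert rels S Gen.f)) lc_f_Cert_tree lc_f_rc_15_1 lc_f_Cert_tree lc_f_rc_43_0 lc_f_rc_15_1 lc_f_Cert_tree lc_f_rc_43_0 lc_f_rc_6_1 lc_f_Cert_tree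 lc_f_Cert_tree lc_f_rc_43_0 lc_f_rc_42_2 lc_f_rc_23_1 lc_f_Cert_tree lc_f_rc_15_1 lc_f_Cert_tree lc_f_rc_43_0 lc_f_rc_6_1 lc_f_Cert_tree lc_f_Cert_tree lc_f_rc_43_0 lc_f_rc_44_2 lc_f_Cert_tree lc_f_Cert_tree lc_f_rc_43_0 lc_f_rc_43_0 lc_f_rc_43_1 lc_f_rc_23_1 lc_f_rc_15_1 lc_f_rc_36_3 lc_f_rc_30_1 lc_f_rc_42_2 lc_f_rc_46_2 lc_f_rc_23_1 lc_f_rc_42_2 lc_f_rc_6_1 lc_f_rc_45_2 lc_f_rc_46_2 lc_f_rc_42_2 lc_f_rc_23_1 lc_f_rc_36_3 lc_f_rc_46_2 lc_f_rc_42_2 lc_f_rc_30_1 lc_f_rc_23_1 lc_f_rc_46_2 lc_f_rc_42_2 lc_f_rc_30_1 lc_f_rc_23_1 lc_f_rc_42_2 lc_f_rc_30_1) (@D3.rec (fun _ => (Cert rels S Gen.f)) lc_f_rc_23_1 lc_f_Cert_tree lc_f_rc_42_2 lc_f_rc_23_1 lc_f_Cert_tree lc_f_rc_15_1 lc_f_Cert_tree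 lc_f_rc_43_0 lc_f_rc_30_1 lc_f_rc_42_2 lc_f_Cert_tree lc_f_rc_44_2 lc_f_Cert_tree lc_f_rc_15_1 lc_f_Cert_tree lc_f_rc_43_0 lc_f_rc_15_1 lc_f_Cert_tree lc_f_rc_43_0 lc_f_rc_6_1 lc_f_Cert_tree lc_f_Cert_tree lc_f_rc_43_0 lc_f_rc_44_2 lc_f_rc_6_1 lc_f_Cert_tree lc_f_Cert_tree lc_f_rc_43_0 lc_f_rc_44_2 lc_f_Cert_tree lc_f_Cert_tree lc_f_rc_43_0 lc_f_rc_43_0 lc_f_rc_42_2 lc_f_rc_42_2 lc_f_rc_15_1 lc_f_Cert_tree lc_f_rc_43_0 lc_f_rc_6_1 lc_f_Cert_tree lc_f_Cert_tree lc_f_rc_43_0 lc_f_rc_44_2 lc_f_Cert_tree lc_f_Cert_tree lc_f_rc_43_0 lc_f_rc_43_0 lc_f_rc_43_1 lc_f_rc_23_1 lc_f_rc_45_2 lc_f_rc_43_0) (@D3.rec (fun _ => (Cert rels S Gen.f)) lc_f_rc_15_1 lc_f_rc_23_1 lc_f_rc_6_1 lc_f_Cert_tree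 lc_f_Cert_tree lc_f_rc_43_0 lc_f_rc_44_2 lc_f_Cert_tree lc_f_Cert_tree lc_f_rc_43_0 lc_f_rc_43_0 lc_f_rc_43_1 lc_f_rc_6_1 lc_f_rc_23_1 lc_f_rc_15_1 lc_f_rc_46_2 lc_f_rc_44_2 lc_f_rc_44_2 lc_f_rc_42_2 lc_f_rc_23_1 lc_f_rc_36_3 lc_f_rc_46_2 lc_f_rc_42_2 lc_f_rc_30_1 lc_f_rc_15_1 lc_f_rc_23_1 lc_f_rc_23_1 lc_f_rc_36_3 lc_f_rc_42_2 lc_f_rc_30_1 lc_f_rc_23_1 lc_f_Cert_tree lc_f_rc_15_1 lc_f_rc_23_1 lc_f_rc_42_2 lc_f_rc_30_1 lc_f_rc_23_1 lc_f_Cert_tree lc_f_rc_30_1 lc_f_rc_23_1 lc_f_Cert_tree lc_f_rc_15_1 lc_f_Cert_tree lc_f_rc_43_0 lc_f_Cert_tree lc_f_Cert_tree lc_f_rc_43_0 lc_f_Cert_tree lc_f_Cert_tree lc_f_rc_43_0 lc_f_rc_44_2) (@D3.rec (fun _ => (Cert rels S Gen.f)) lc_f_rc_45_2 lc_f_Cert_tree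 lc_f_rc_15_1 lc_f_Cert_tree lc_f_rc_43_0 lc_f_rc_15_1 lc_f_Cert_tree lc_f_rc_43_0 lc_f_rc_6_1 lc_f_Cert_tree lc_f_Cert_tree lc_f_rc_43_0 lc_f_rc_44_2 lc_f_rc_6_1 lc_f_Cert_tree lc_f_Cert_tree lc_f_rc_43_0 lc_f_rc_44_2 lc_f_Cert_tree lc_f_Cert_tree lc_f_rc_43_0 lc_f_rc_43_0 lc_f_rc_43_1 lc_f_rc_23_1 lc_f_rc_45_2 lc_f_Cert_tree lc_f_Cert_tree lc_f_rc_43_0 lc_f_rc_43_0 lc_f_rc_43_1 lc_f_rc_44_2 lc_f_rc_45_2 lc_f_Cert_tree lc_f_rc_43_0 lc_f_Cert_tree lc_f_rc_43_0 lc_f_rc_15_1 lc_f_rc_36_3 lc_f_rc_44_2 lc_f_rc_42_2 lc_f_rc_6_1 lc_f_Cert_tree lc_f_Cert_tree lc_f_rc_43_0 lc_f_rc_44_2 lc_f_Cert_tree lc_f_Cert_tree lc_f_rc_43_0 lc_f_rc_43_0 lc_f_rc_43_1 lc_f_rc_23_1) (@D3.rec (fun _ => (Cert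 rels S Gen.f)) lc_f_rc_45_2 lc_f_Cert_tree lc_f_rc_43_0 lc_f_rc_43_0 lc_f_rc_15_1 lc_f_rc_30_1 lc_f_rc_42_2 lc_f_rc_23_1 lc_f_rc_6_1 lc_f_rc_15_1 lc_f_Cert_tree lc_f_Cert_tree lc_f_rc_43_0 lc_f_rc_43_0 lc_f_rc_43_1 lc_f_rc_44_2 lc_f_Cert_tree lc_f_rc_43_0 lc_f_rc_43_0 lc_f_rc_36_3 lc_f_rc_42_2 lc_f_Cert_tree lc_f_rc_43_0 lc_f_rc_43_0 lc_f_rc_15_1 lc_f_rc_36_3 lc_f_rc_44_2 lc_f_rc_42_2 lc_f_rc_43_0 lc_f_rc_15_1 lc_f_rc_36_3 lc_f_rc_36_3 lc_f_rc_45_2 lc_f_rc_46_2 lc_f_rc_46_2 lc_f_rc_42_2 lc_f_rc_42_2 lc_f_rc_23_1 lc_f_rc_45_2 lc_f_rc_46_2 lc_f_rc_46_2 lc_f_rc_42_2 lc_f_rc_46_2 lc_f_rc_42_2 lc_f_rc_42_2 lc_f_rc_30_1 lc_f_rc_30_1 lc_f_rc_23_1 lc_f_Cert_tree lc_f_rc_30_1 lc_f_rc_23_1)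 (@D3.rec (fun _ => (Cert rels S Gen.f)) lc_f_rc_30_1 lc_f_rc_42_2 lc_f_rc_30_1 lc_f_rc_44_2 lc_f_Cert_tree lc_f_rc_30_1 lc_f_rc_23_1 lc_f_Cert_tree lc_f_rc_15_1 lc_f_Cert_tree lc_f_rc_43_0 lc_f_rc_30_1 lc_f_rc_23_1 lc_f_Cert_tree lc_f_rc_15_1 lc_f_Cert_tree lc_f_rc_43_0 lc_f_rc_6_1 lc_f_Cert_tree lc_f_Cert_tree lc_f_rc_43_0 lc_f_rc_44_2 lc_f_rc_42_2 lc_f_rc_15_1 lc_f_rc_45_2 lc_f_rc_46_2 lc_f_rc_42_2 lc_f_rc_36_3 lc_f_rc_46_2 lc_f_rc_42_2 lc_f_rc_30_1 lc_f_rc_46_2 lc_f_rc_42_2 lc_f_rc_30_1 lc_f_rc_42_2 lc_f_rc_30_1 lc_f_rc_23_1 lc_f_Cert_tree lc_f_rc_42_2 lc_f_rc_23_1 lc_f_Cert_tree lc_f_rc_15_1 lc_f_Cert_tree lc_f_rc_43_0 lc_f_rc_30_1 lc_f_rc_42_2 lc_f_Cert_tree lc_f_rc_44_2 lc_f_Cert_tree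 lc_f_rc_15_1 lc_f_Cert_tree) (@D3.rec (fun _ => (Cert rels S Gen.f)) lc_f_rc_43_0 lc_f_rc_15_1 lc_f_Cert_tree lc_f_rc_43_0 lc_f_rc_6_1 lc_f_Cert_tree lc_f_Cert_tree lc_f_rc_43_0 lc_f_rc_44_2 lc_f_rc_6_1 lc_f_Cert_tree lc_f_Cert_tree lc_f_rc_43_0 lc_f_rc_44_2 lc_f_Cert_tree lc_f_Cert_tree lc_f_rc_43_0 lc_f_rc_43_0 lc_f_rc_43_1 lc_f_rc_42_2 lc_f_rc_42_2 lc_f_rc_15_1 lc_f_Cert_tree lc_f_rc_43_0 lc_f_rc_6_1 lc_f_Cert_tree lc_f_Cert_tree lc_f_rc_43_0 lc_f_rc_44_2 lc_f_Cert_tree lc_f_Cert_tree lc_f_rc_43_0 lc_f_rc_43_0 lc_f_rc_43_1 lc_f_rc_23_1 lc_f_rc_45_2 lc_f_Cert_tree lc_f_rc_43_0 lc_f_rc_43_0 lc_f_rc_43_1 lc_f_rc_15_1 lc_f_rc_36_3 lc_f_rc_30_1 lc_f_rc_42_2 lc_f_rc_46_2 lc_f_rc_23_1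 lc_f_Cert_tree lc_f_rc_36_3 lc_f_rc_30_1 lc_f_rc_42_2 lc_f_rc_46_2) (@D3.rec (fun _ => (Cert rels S Gen.f)) lc_f_rc_44_2 lc_f_rc_44_2 lc_f_rc_42_2 lc_f_rc_23_1 lc_f_rc_36_3 lc_f_rc_46_2 lc_f_rc_42_2 lc_f_rc_30_1 lc_f_rc_23_1 lc_f_rc_23_1 lc_f_rc_36_3 lc_f_rc_42_2 lc_f_rc_30_1 lc_f_rc_23_1 lc_f_Cert_tree lc_f_rc_23_1 lc_f_rc_42_2 lc_f_rc_30_1 lc_f_rc_23_1 lc_f_Cert_tree lc_f_rc_30_1 lc_f_rc_23_1 lc_f_Cert_tree lc_f_rc_15_1 lc_f_Cert_tree lc_f_rc_43_0 lc_f_Cert_tree lc_f_rc_15_1 lc_f_Cert_tree lc_f_rc_43_0 lc_f_rc_6_1 lc_f_Cert_tree lc_f_Cert_tree lc_f_rc_43_0 lc_f_rc_44_2 lc_f_rc_45_2 lc_f_Cert_tree lc_f_rc_15_1 lc_f_Cert_tree lc_f_rc_43_0 lc_f_rc_15_1 lc_f_Cert_tree lc_f_rc_43_0 lc_f_rc_6_1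 lc_f_Cert_tree lc_f_Cert_tree lc_f_rc_43_0 lc_f_rc_44_2 lc_f_rc_6_1 lc_f_Cert_tree lc_f_Cert_tree) (@D3.rec (fun _ => (Cert rels S Gen.f)) lc_f_rc_43_0 lc_f_rc_44_2 lc_f_Cert_tree lc_f_Cert_tree lc_f_rc_43_0 lc_f_rc_43_0 lc_f_rc_43_1 lc_f_rc_23_1 lc_f_rc_45_2 lc_f_Cert_tree lc_f_Cert_tree lc_f_rc_43_0 lc_f_rc_43_0 lc_f_rc_43_1 lc_f_rc_44_2 lc_f_rc_45_2 lc_f_Cert_tree lc_f_rc_43_0 lc_f_Cert_tree lc_f_rc_43_0 lc_f_rc_15_1 lc_f_rc_36_3 lc_f_rc_44_2 lc_f_rc_42_2 lc_f_rc_6_1 lc_f_Cert_tree lc_f_Cert_tree lc_f_rc_43_0 lc_f_rc_44_2 lc_f_Cert_tree lc_f_Cert_tree lc_f_rc_43_0 lc_f_rc_43_0 lc_f_rc_43_1 lc_f_rc_23_1 lc_f_rc_45_2 lc_f_Cert_tree lc_f_rc_43_0 lc_f_Cert_tree lc_f_rc_43_0 lc_f_rc_43_1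 lc_f_rc_15_1 lc_f_rc_30_1 lc_f_rc_42_2 lc_f_rc_46_2 lc_f_rc_23_1 lc_f_rc_6_1 lc_f_rc_15_1 lc_f_Cert_tree lc_f_Cert_tree lc_f_rc_43_0) (@D3.rec (fun _ => (Cert rels S Gen.f)) lc_f_rc_43_0 lc_f_rc_43_1 lc_f_rc_44_2 lc_f_Cert_tree lc_f_rc_43_0 lc_f_Cert_tree lc_f_rc_43_0 lc_f_rc_43_1 lc_f_rc_36_3 lc_f_rc_42_2 lc_f_rc_46_2 lc_f_rc_6_1 lc_f_rc_23_1 lc_f_rc_23_1 lc_f_Cert_tree lc_f_rc_44_2 lc_f_rc_44_2 lc_f_rc_44_2 lc_f_rc_15_1 lc_f_rc_23_1 lc_f_rc_23_1 lc_f_rc_36_3 lc_f_rc_42_2 lc_f_rc_30_1 lc_f_rc_23_1 lc_f_Cert_tree lc_f_rc_15_1 lc_f_rc_30_1 lc_f_rc_23_1 lc_f_rc_36_3 lc_f_rc_30_1 lc_f_rc_23_1 lc_f_Cert_tree lc_f_rc_15_1 lc_f_Cert_tree lc_f_rc_43_0 lc_f_rc_30_1 lc_f_rc_23_1 lc_f_Cert_tree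 lc_f_rc_15_1 lc_f_Cert_tree lc_f_rc_43_0 lc_f_Cert_tree lc_f_Cert_tree lc_f_rc_43_0 lc_f_Cert_tree lc_f_Cert_tree lc_f_rc_43_0 lc_f_rc_44_2 lc_f_rc_43_0 lc_f_Cert_tree) (@D3.rec (fun _ => (Cert rels S Gen.f)) lc_f_rc_43_0 lc_f_rc_44_2 lc_f_Cert_tree lc_f_rc_43_0 lc_f_rc_43_0 lc_f_rc_43_1 lc_f_rc_23_1 lc_f_rc_45_2 lc_f_rc_15_1 lc_f_Cert_tree lc_f_rc_43_0 lc_f_rc_6_1 lc_f_Cert_tree lc_f_Cert_tree lc_f_rc_43_0 lc_f_rc_44_2 lc_f_rc_6_1 lc_f_Cert_tree lc_f_Cert_tree lc_f_rc_43_0 lc_f_rc_44_2 lc_f_Cert_tree lc_f_Cert_tree lc_f_rc_43_0 lc_f_rc_43_0 lc_f_rc_43_1 lc_f_rc_23_1 lc_f_rc_45_2 lc_f_Cert_tree lc_f_Cert_tree lc_f_rc_43_0 lc_f_rc_43_0 lc_f_rc_43_1 lc_f_rc_23_1 lc_f_rc_45_2 lc_f_Cert_tree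 lc_f_rc_43_0 lc_f_rc_43_0 lc_f_rc_15_1 lc_f_rc_36_3 lc_f_rc_30_1 lc_f_rc_42_2 lc_f_rc_23_1 lc_f_Cert_tree lc_f_rc_43_0 lc_f_Cert_tree lc_f_rc_43_0 lc_f_rc_43_1 lc_f_rc_15_1 lc_f_rc_36_3 lc_f_rc_44_2) (@D3.rec (fun _ => (Cert rels S Gen.f)) lc_f_rc_42_2 lc_f_rc_45_2 lc_f_Cert_tree lc_f_rc_43_0 lc_f_rc_6_1 lc_f_rc_43_0 lc_f_rc_36_3 lc_f_rc_15_1 lc_f_rc_15_1 lc_f_Cert_tree lc_f_rc_45_2 lc_f_Cert_tree lc_f_Cert_tree lc_f_rc_43_0 lc_f_rc_43_0 lc_f_rc_43_1 lc_f_rc_44_2 lc_f_rc_44_2 lc_f_Cert_tree lc_f_rc_43_0 lc_f_rc_43_0 lc_f_rc_15_1 lc_f_rc_36_3 lc_f_rc_30_1 lc_f_rc_42_2 lc_f_rc_23_1 lc_f_rc_43_0 lc_f_rc_6_1 lc_f_rc_15_1 lc_f_rc_15_1 lc_f_rc_30_1 lc_f_rc_42_2 lc_f_rc_6_1 lc_f_Cert_tree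 lc_f_rc_43_0 lc_f_rc_43_0 lc_f_rc_15_1 lc_f_rc_36_3 lc_f_rc_44_2 lc_f_rc_42_2 lc_f_rc_43_0 lc_f_rc_15_1 lc_f_rc_36_3 lc_f_rc_43_0 lc_f_rc_6_1 lc_f_rc_15_1 lc_f_rc_15_1 lc_f_Cert_tree lc_f_rc_36_3 lc_f_rc_42_2 lc_f_rc_6_1)
def ce_f_1 : D2 → D3 → (Cert rels S Gen.f) := @D2.rec (fun _ => D3 → (Cert rels S Gen.f)) (@D3.rec (fun _ => (Cert rels S Gen.f)) lc_f_rc_30_1 lc_f_rc_36_3 lc_f_rc_36_3 lc_f_rc_30_1 lc_f_rc_46_2 lc_f_rc_42_2 lc_f_rc_42_2 lc_f_rc_30_1 lc_f_rc_23_1 lc_f_Cert_tree lc_f_rc_42_2 lc_f_rc_23_1 lc_f_rc_46_2 lc_f_rc_42_2 lc_f_rc_42_2 lc_f_rc_30_1 lc_f_rc_42_2 lc_f_rc_30_1 lc_f_rc_30_1 lc_f_rc_23_1 lc_f_Cert_tree lc_f_rc_23_1 lc_f_Cert_tree lc_f_rc_15_1 lc_f_Cert_tree lc_f_rc_43_0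 lc_f_rc_42_2 lc_f_rc_30_1 lc_f_rc_45_2 lc_f_Cert_tree lc_f_rc_42_2 lc_f_rc_44_2 lc_f_Cert_tree lc_f_rc_15_1 lc_f_Cert_tree lc_f_rc_43_0 lc_f_rc_23_1 lc_f_Cert_tree lc_f_rc_15_1 lc_f_Cert_tree lc_f_rc_43_0 lc_f_rc_6_1 lc_f_Cert_tree lc_f_Cert_tree lc_f_rc_43_0 lc_f_rc_44_2 lc_f_rc_23_1 lc_f_Cert_tree lc_f_rc_15_1 lc_f_Cert_tree lc_f_rc_43_0) (@D3.rec (fun _ => (Cert rels S Gen.f)) lc_f_rc_6_1 lc_f_Cert_tree lc_f_Cert_tree lc_f_rc_43_0 lc_f_rc_44_2 lc_f_Cert_tree lc_f_Cert_tree lc_f_rc_43_0 lc_f_rc_43_0 lc_f_rc_43_1 lc_f_rc_44_2 lc_f_rc_45_2 lc_f_rc_44_2 lc_f_rc_44_2 lc_f_rc_42_2 lc_f_rc_36_3 lc_f_rc_46_2 lc_f_rc_42_2 lc_f_rc_30_1 lc_f_rc_36_3 lc_f_rc_42_2 lc_f_rc_30_1 lc_f_rc_23_1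 lc_f_Cert_tree lc_f_rc_42_2 lc_f_rc_30_1 lc_f_rc_23_1 lc_f_Cert_tree lc_f_rc_30_1 lc_f_rc_23_1 lc_f_Cert_tree lc_f_rc_15_1 lc_f_Cert_tree lc_f_rc_43_0 lc_f_rc_23_1 lc_f_Cert_tree lc_f_rc_15_1 lc_f_Cert_tree lc_f_rc_43_0 lc_f_rc_6_1 lc_f_Cert_tree lc_f_Cert_tree lc_f_rc_43_0 lc_f_rc_44_2 lc_f_rc_45_2 lc_f_Cert_tree lc_f_rc_15_1 lc_f_Cert_tree lc_f_rc_43_0 lc_f_rc_15_1 lc_f_Cert_tree) (@D3.rec (fun _ => (Cert rels S Gen.f)) lc_f_rc_43_0 lc_f_rc_6_1 lc_f_Cert_tree lc_f_Cert_tree lc_f_rc_43_0 lc_f_rc_44_2 lc_f_rc_6_1 lc_f_Cert_tree lc_f_Cert_tree lc_f_rc_43_0 lc_f_rc_44_2 lc_f_Cert_tree lc_f_Cert_tree lc_f_rc_43_0 lc_f_rc_43_0 lc_f_rc_43_1 lc_f_rc_23_1 lc_f_rc_45_2 lc_f_Cert_tree lc_f_Cert_tree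 lc_f_rc_43_0 lc_f_rc_43_0 lc_f_rc_43_1 lc_f_rc_44_2 lc_f_rc_45_2 lc_f_Cert_tree lc_f_rc_43_0 lc_f_Cert_tree lc_f_rc_43_0 lc_f_rc_43_1 lc_f_rc_15_1 lc_f_rc_36_3 lc_f_rc_44_2 lc_f_rc_42_2 lc_f_rc_46_2 lc_f_rc_42_2 lc_f_rc_6_1 lc_f_Cert_tree lc_f_Cert_tree lc_f_rc_43_0 lc_f_rc_44_2 lc_f_Cert_tree lc_f_Cert_tree lc_f_rc_43_0 lc_f_rc_43_0 lc_f_rc_43_1 lc_f_rc_23_1 lc_f_rc_45_2 lc_f_Cert_tree lc_f_rc_43_0 lc_f_Cert_tree) (@D3.rec (fun _ => (Cert rels S Gen.f)) lc_f_rc_43_0 lc_f_rc_43_1 lc_f_rc_15_1 lc_f_rc_36_3 lc_f_rc_30_1 lc_f_rc_42_2 lc_f_rc_46_2 lc_f_rc_23_1 lc_f_rc_43_0 lc_f_rc_43_1 lc_f_rc_6_1 lc_f_rc_15_1 lc_f_rc_15_1 lc_f_rc_42_2 lc_f_rc_46_2 lc_f_rc_15_1 lc_f_Cert_tree lc_f_rc_36_3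 lc_f_rc_30_1 lc_f_rc_42_2 lc_f_rc_46_2 lc_f_rc_43_0 lc_f_rc_45_2 lc_f_rc_43_1 lc_f_rc_30_1 lc_f_rc_46_2 lc_f_rc_42_2 lc_f_rc_46_2 lc_f_rc_23_1 lc_f_Cert_tree lc_f_rc_44_2 lc_f_rc_44_2 lc_f_rc_44_2 lc_f_rc_23_1 lc_f_rc_23_1 lc_f_rc_36_3 lc_f_rc_42_2 lc_f_rc_30_1 lc_f_rc_23_1 lc_f_Cert_tree lc_f_rc_30_1 lc_f_rc_23_1 lc_f_rc_36_3 lc_f_rc_30_1 lc_f_rc_23_1 lc_f_Cert_tree lc_f_rc_15_1 lc_f_Cert_tree lc_f_rc_43_0 lc_f_rc_30_1 lc_f_rc_23_1) (@D3.rec (fun _ => (Cert rels S Gen.f)) lc_f_Cert_tree lc_f_rc_15_1 lc_f_Cert_tree lc_f_rc_43_0 lc_f_Cert_tree lc_f_rc_15_1 lc_f_Cert_tree lc_f_rc_43_0 lc_f_rc_6_1 lc_f_Cert_tree lc_f_Cert_tree lc_f_rc_43_0 lc_f_rc_44_2 lc_f_rc_43_0 lc_f_Cert_tree lc_f_Cert_tree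 lc_f_rc_43_0 lc_f_rc_44_2 lc_f_Cert_tree lc_f_Cert_tree lc_f_rc_43_0 lc_f_rc_43_0 lc_f_rc_43_1 lc_f_rc_23_1 lc_f_rc_45_2 lc_f_rc_15_1 lc_f_Cert_tree lc_f_rc_43_0 lc_f_rc_6_1 lc_f_Cert_tree lc_f_Cert_tree lc_f_rc_43_0 lc_f_rc_44_2 lc_f_rc_6_1 lc_f_Cert_tree lc_f_Cert_tree lc_f_rc_43_0 lc_f_rc_44_2 lc_f_Cert_tree lc_f_Cert_tree lc_f_rc_43_0 lc_f_rc_43_0 lc_f_rc_43_1 lc_f_rc_23_1 lc_f_rc_45_2 lc_f_Cert_tree lc_f_Cert_tree lc_f_rc_43_0 lc_f_rc_43_0 lc_f_rc_43_1 lc_f_rc_23_1) (@D3.rec (fun _ => (Cert rels S Gen.f)) lc_f_rc_45_2 lc_f_Cert_tree lc_f_rc_43_0 lc_f_Cert_tree lc_f_rc_43_0 lc_f_rc_43_1 lc_f_rc_15_1 lc_f_rc_36_3 lc_f_rc_30_1 lc_f_rc_42_2 lc_f_rc_46_2 lc_f_rc_23_1 lc_f_Cert_tree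 lc_f_rc_43_0 lc_f_Cert_tree lc_f_rc_43_0 lc_f_rc_43_1 lc_f_rc_15_1 lc_f_rc_36_3 lc_f_rc_44_2 lc_f_rc_42_2 lc_f_rc_45_2 lc_f_Cert_tree lc_f_rc_43_0 lc_f_rc_6_1 lc_f_rc_43_0 lc_f_rc_36_3 lc_f_rc_15_1 lc_f_rc_15_1 lc_f_Cert_tree lc_f_rc_45_2 lc_f_Cert_tree lc_f_Cert_tree lc_f_rc_43_0 lc_f_rc_43_0 lc_f_rc_43_1 lc_f_rc_44_2 lc_f_rc_44_2 lc_f_Cert_tree lc_f_rc_43_0 lc_f_Cert_tree lc_f_rc_43_0 lc_f_rc_43_1 lc_f_rc_15_1 lc_f_rc_36_3 lc_f_rc_30_1 lc_f_rc_42_2 lc_f_rc_46_2 lc_f_rc_23_1 lc_f_Cert_tree lc_f_rc_43_0) (@D3.rec (fun _ => (Cert rels S Gen.f)) lc_f_rc_6_1 lc_f_rc_43_0 lc_f_rc_43_1 lc_f_rc_15_1 lc_f_rc_42_2 lc_f_rc_15_1 lc_f_rc_30_1 lc_f_rc_42_2 lc_f_rc_46_2 lc_f_rc_6_1 lc_f_Cert_tree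 lc_f_rc_43_0 lc_f_Cert_tree lc_f_rc_43_0 lc_f_rc_43_1 lc_f_rc_15_1 lc_f_rc_36_3 lc_f_rc_44_2 lc_f_rc_42_2 lc_f_rc_46_2 lc_f_Cert_tree lc_f_rc_43_0 lc_f_rc_43_0 lc_f_rc_43_1 lc_f_rc_15_1 lc_f_rc_42_2 lc_f_rc_36_3 lc_f_rc_46_2 lc_f_rc_30_1 lc_f_rc_15_1 lc_f_Cert_tree lc_f_rc_23_1 lc_f_rc_43_0 lc_f_rc_46_2 lc_f_rc_42_2 lc_f_rc_44_2 lc_f_rc_23_1 lc_f_Cert_tree lc_f_rc_15_1 lc_f_rc_30_1 lc_f_rc_23_1 lc_f_rc_36_3 lc_f_rc_30_1 lc_f_rc_23_1 lc_f_Cert_tree lc_f_rc_15_1 lc_f_Cert_tree lc_f_rc_43_0 lc_f_rc_15_1 lc_f_rc_42_2 lc_f_rc_30_1) (@D3.rec (fun _ => (Cert rels S Gen.f)) lc_f_rc_30_1 lc_f_Cert_tree lc_f_Cert_tree lc_f_rc_43_0 lc_f_Cert_tree lc_f_Cert_tree lc_f_rc_43_0 lc_f_rc_44_2 lc_f_Cert_tree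 lc_f_Cert_tree lc_f_rc_43_0 lc_f_Cert_tree lc_f_Cert_tree lc_f_rc_43_0 lc_f_rc_44_2 lc_f_rc_43_0 lc_f_Cert_tree lc_f_rc_43_0 lc_f_rc_44_2 lc_f_Cert_tree lc_f_rc_43_0 lc_f_rc_43_0 lc_f_rc_43_1 lc_f_rc_23_1 lc_f_rc_45_2 lc_f_rc_44_2 lc_f_rc_43_0 lc_f_rc_23_1 lc_f_rc_45_2 lc_f_Cert_tree lc_f_rc_43_0 lc_f_rc_43_1 lc_f_rc_15_1 lc_f_rc_36_3 lc_f_rc_30_1 lc_f_rc_42_2 lc_f_rc_23_1 lc_f_rc_6_1 lc_f_Cert_tree lc_f_Cert_tree lc_f_rc_43_0 lc_f_rc_44_2 lc_f_Cert_tree lc_f_Cert_tree lc_f_rc_43_0 lc_f_rc_43_0 lc_f_rc_43_1 lc_f_rc_23_1 lc_f_rc_45_2 lc_f_Cert_tree lc_f_Cert_tree) (@D3.rec (fun _ => (Cert rels S Gen.f)) lc_f_rc_43_0 lc_f_rc_43_0 lc_f_rc_43_1 lc_f_rc_23_1 lc_f_rc_45_2 lc_f_Cert_tree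 lc_f_rc_43_0 lc_f_rc_43_0 lc_f_rc_15_1 lc_f_rc_36_3 lc_f_rc_30_1 lc_f_rc_42_2 lc_f_rc_23_1 lc_f_Cert_tree lc_f_rc_43_0 lc_f_rc_43_0 lc_f_rc_15_1 lc_f_rc_36_3 lc_f_rc_30_1 lc_f_rc_42_2 lc_f_rc_23_1 lc_f_rc_43_0 lc_f_rc_6_1 lc_f_rc_36_3 lc_f_rc_15_1 lc_f_rc_15_1 lc_f_Cert_tree lc_f_rc_36_3 lc_f_rc_30_1 lc_f_rc_42_2 lc_f_Cert_tree lc_f_rc_43_0 lc_f_rc_43_1 lc_f_rc_6_1 lc_f_rc_43_0 lc_f_rc_43_1 lc_f_rc_36_3 lc_f_rc_15_1 lc_f_rc_42_2 lc_f_rc_15_1 lc_f_Cert_tree lc_f_rc_36_3 lc_f_rc_45_2 lc_f_rc_42_2 lc_f_Cert_tree lc_f_rc_43_0 lc_f_rc_6_1 lc_f_rc_6_1 lc_f_rc_6_1 lc_f_rc_23_1 lc_f_rc_23_1) (@D3.rec (fun _ => (Cert rels S Gen.f)) lc_f_Cert_tree lc_f_rc_15_1 lc_f_rc_43_0 lc_f_rc_45_2 lc_f_Cert_tree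 lc_f_rc_43_0 lc_f_rc_43_0 lc_f_rc_15_1 lc_f_rc_36_3 lc_f_rc_44_2 lc_f_rc_42_2 lc_f_rc_44_2 lc_f_rc_43_0 lc_f_rc_6_1 lc_f_rc_15_1 lc_f_rc_15_1 lc_f_rc_15_1 lc_f_rc_36_3 lc_f_rc_36_3 lc_f_rc_30_1 lc_f_rc_42_2 lc_f_rc_6_1 lc_f_rc_6_1 lc_f_rc_15_1 lc_f_rc_42_2 lc_f_rc_43_0 lc_f_rc_6_1 lc_f_rc_15_1 lc_f_rc_15_1 lc_f_Cert_tree lc_f_rc_36_3 lc_f_rc_42_2 lc_f_rc_6_1 lc_f_rc_30_1 lc_f_rc_6_1 lc_f_rc_6_1 lc_f_Cert_tree lc_f_rc_43_0 lc_f_rc_43_1 lc_f_rc_30_1 lc_f_rc_23_1 lc_f_Cert_tree lc_f_rc_36_3 lc_f_rc_36_3 lc_f_rc_30_1 lc_f_rc_42_2 lc_f_rc_30_1 lc_f_rc_30_1 lc_f_rc_23_1 lc_f_Cert_tree lc_f_rc_15_1) (@D3.rec (fun _ => (Cert rels S Gen.f)) lc_f_Cert_tree lc_f_rc_43_0 lc_f_rc_44_2 lc_f_rc_42_2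 lc_f_rc_42_2 lc_f_rc_30_1 lc_f_rc_30_1 lc_f_rc_23_1 lc_f_Cert_tree lc_f_rc_30_1 lc_f_rc_23_1 lc_f_Cert_tree lc_f_rc_23_1 lc_f_Cert_tree lc_f_rc_15_1 lc_f_Cert_tree lc_f_rc_43_0 lc_f_rc_15_1 lc_f_Cert_tree lc_f_rc_43_0 lc_f_rc_6_1 lc_f_Cert_tree lc_f_Cert_tree lc_f_rc_43_0 lc_f_rc_44_2 lc_f_rc_42_2 lc_f_rc_45_2 lc_f_Cert_tree lc_f_rc_15_1 lc_f_Cert_tree lc_f_rc_43_0 lc_f_rc_23_1 lc_f_Cert_tree lc_f_rc_15_1 lc_f_Cert_tree lc_f_rc_43_0 lc_f_rc_6_1 lc_f_Cert_tree lc_f_Cert_tree lc_f_rc_43_0 lc_f_rc_44_2 lc_f_rc_15_1 lc_f_Cert_tree lc_f_rc_43_0 lc_f_rc_6_1 lc_f_Cert_tree lc_f_Cert_tree lc_f_rc_43_0 lc_f_rc_44_2 lc_f_Cert_tree lc_f_Cert_tree) (@D3.rec (fun _ => (Cert rels S Gen.f)) lc_f_rc_43_0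 lc_f_rc_43_0 lc_f_rc_43_1 lc_f_rc_23_1 lc_f_rc_45_2 lc_f_rc_15_1 lc_f_Cert_tree lc_f_rc_43_0 lc_f_rc_6_1 lc_f_Cert_tree lc_f_Cert_tree lc_f_rc_43_0 lc_f_rc_36_5 lc_f_Cert_tree lc_f_Cert_tree lc_f_rc_43_0 lc_f_rc_43_0 lc_f_rc_43_1 lc_f_rc_44_2 lc_f_rc_45_2 lc_f_Cert_tree lc_f_rc_43_0 lc_f_Cert_tree lc_f_rc_43_0 lc_f_rc_43_1 lc_f_rc_15_1 lc_f_rc_36_3 lc_f_rc_44_2 lc_f_rc_42_2 lc_f_rc_46_2 lc_f_rc_45_2 lc_f_Cert_tree lc_f_rc_44_2 lc_f_rc_44_2 lc_f_rc_44_2 lc_f_rc_36_3 lc_f_rc_42_2 lc_f_rc_30_1 lc_f_rc_23_1 lc_f_Cert_tree lc_f_rc_36_3 lc_f_rc_30_1 lc_f_rc_23_1 lc_f_Cert_tree lc_f_rc_15_1 lc_f_Cert_tree lc_f_rc_43_0 lc_f_rc_30_1 lc_f_rc_23_1 lc_f_Cert_tree lc_f_rc_15_1) (@D3.rec (fun _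 => (Cert rels S Gen.f)) lc_f_Cert_tree lc_f_rc_43_0 lc_f_rc_23_1 lc_f_Cert_tree lc_f_rc_15_1 lc_f_Cert_tree lc_f_rc_43_0 lc_f_rc_6_1 lc_f_Cert_tree lc_f_Cert_tree lc_f_rc_43_0 lc_f_rc_44_2 lc_f_Cert_tree lc_f_rc_43_0 lc_f_Cert_tree lc_f_Cert_tree lc_f_rc_43_0 lc_f_rc_44_2 lc_f_Cert_tree lc_f_Cert_tree lc_f_rc_43_0 lc_f_rc_43_0 lc_f_rc_43_1 lc_f_rc_23_1 lc_f_rc_45_2 lc_f_rc_15_1 lc_f_Cert_tree lc_f_rc_43_0 lc_f_rc_6_1 lc_f_Cert_tree lc_f_Cert_tree lc_f_rc_43_0 lc_f_rc_44_2 lc_f_rc_6_1 lc_f_Cert_tree lc_f_Cert_tree lc_f_rc_43_0 lc_f_rc_44_2 lc_f_Cert_tree lc_f_Cert_tree lc_f_rc_43_0 lc_f_rc_43_0 lc_f_rc_43_1 lc_f_rc_23_1 lc_f_rc_45_2 lc_f_Cert_tree lc_f_Cert_tree lc_f_rc_43_0 lc_f_rc_43_0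 lc_f_rc_43_1 lc_f_rc_23_1) (@D3.rec (fun _ => (Cert rels S Gen.f)) lc_f_rc_45_2 lc_f_Cert_tree lc_f_rc_43_0 lc_f_Cert_tree lc_f_rc_43_0 lc_f_rc_43_1 lc_f_rc_15_1 lc_f_rc_36_3 lc_f_rc_30_1 lc_f_rc_42_2 lc_f_rc_46_2 lc_f_rc_23_1 lc_f_Cert_tree lc_f_rc_43_0 lc_f_Cert_tree lc_f_rc_43_0 lc_f_rc_43_1 lc_f_rc_15_1 lc_f_rc_36_3 lc_f_rc_44_2 lc_f_rc_42_2 lc_f_rc_46_2 lc_f_rc_45_2 lc_f_Cert_tree lc_f_rc_43_0 lc_f_rc_43_1 lc_f_rc_6_1 lc_f_rc_43_0 lc_f_rc_43_1 lc_f_rc_15_1 lc_f_rc_15_1 lc_f_rc_42_2 lc_f_rc_46_2 lc_f_rc_15_1 lc_f_Cert_tree lc_f_rc_36_3 lc_f_rc_45_2 lc_f_rc_30_1 lc_f_rc_46_2 lc_f_Cert_tree lc_f_Cert_tree lc_f_rc_43_0 lc_f_rc_43_0 lc_f_rc_43_1 lc_f_rc_44_2 lc_f_rc_44_2 lc_f_Cert_tree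 lc_f_rc_43_0 lc_f_Cert_tree lc_f_rc_43_0 lc_f_rc_43_1) (@D3.rec (fun _ => (Cert rels S Gen.f)) lc_f_rc_15_1 lc_f_rc_36_3 lc_f_rc_30_1 lc_f_rc_42_2 lc_f_rc_46_2 lc_f_rc_23_1 lc_f_Cert_tree lc_f_rc_43_0 lc_f_rc_43_1 lc_f_rc_6_1 lc_f_rc_43_0 lc_f_rc_43_1 lc_f_rc_15_1 lc_f_rc_15_1 lc_f_rc_42_2 lc_f_rc_46_2 lc_f_rc_15_1 lc_f_Cert_tree lc_f_rc_36_3 lc_f_rc_30_1 lc_f_rc_42_2 lc_f_rc_46_2 lc_f_rc_6_1 lc_f_rc_6_1 lc_f_rc_42_2 lc_f_rc_46_2 lc_f_rc_6_1 lc_f_Cert_tree lc_f_rc_15_1 lc_f_rc_15_1 lc_f_rc_15_1 lc_f_rc_46_2 lc_f_rc_43_0 lc_f_rc_45_2 lc_f_rc_43_1 lc_f_rc_30_1 lc_f_rc_46_2 lc_f_rc_42_2 lc_f_rc_46_2 lc_f_rc_45_2 lc_f_rc_42_2 lc_f_rc_45_2 lc_f_rc_30_1 lc_f_rc_46_2 lc_f_rc_23_1 lc_f_rc_30_1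 lc_f_rc_46_2 lc_f_Cert_tree lc_f_rc_23_1 lc_f_rc_43_0 lc_f_rc_46_2) (@D3.rec (fun _ => (Cert rels S Gen.f)) lc_f_rc_42_2 lc_f_rc_44_2 lc_f_rc_23_1 lc_f_Cert_tree lc_f_rc_30_1 lc_f_rc_23_1 lc_f_rc_36_3 lc_f_rc_30_1 lc_f_rc_23_1 lc_f_Cert_tree lc_f_rc_15_1 lc_f_Cert_tree lc_f_rc_43_0 lc_f_rc_42_2 lc_f_rc_30_1 lc_f_rc_30_1 lc_f_Cert_tree lc_f_rc_15_1 lc_f_Cert_tree lc_f_rc_43_0 lc_f_rc_6_1 lc_f_Cert_tree lc_f_Cert_tree lc_f_rc_43_0 lc_f_rc_44_2 lc_f_Cert_tree lc_f_rc_15_1 lc_f_Cert_tree lc_f_rc_43_0 lc_f_rc_6_1 lc_f_Cert_tree lc_f_Cert_tree lc_f_rc_43_0 lc_f_rc_44_2 lc_f_rc_43_0 lc_f_Cert_tree lc_f_Cert_tree lc_f_rc_43_0 lc_f_rc_44_2 lc_f_Cert_tree lc_f_Cert_tree lc_f_rc_43_0 lc_f_rc_43_0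 lc_f_rc_43_1 lc_f_rc_23_1 lc_f_rc_45_2 lc_f_rc_44_2 lc_f_Cert_tree lc_f_rc_43_0 lc_f_rc_43_0 lc_f_rc_23_1) (@D3.rec (fun _ => (Cert rels S Gen.f)) lc_f_rc_45_2 lc_f_Cert_tree lc_f_rc_43_0 lc_f_Cert_tree lc_f_rc_43_0 lc_f_rc_43_1 lc_f_rc_15_1 lc_f_rc_36_3 lc_f_rc_30_1 lc_f_rc_42_2 lc_f_rc_46_2 lc_f_rc_23_1 lc_f_rc_6_1 lc_f_Cert_tree lc_f_Cert_tree lc_f_rc_43_0 lc_f_rc_44_2 lc_f_Cert_tree lc_f_Cert_tree lc_f_rc_43_0 lc_f_rc_43_0 lc_f_rc_43_1 lc_f_rc_23_1 lc_f_rc_45_2 lc_f_Cert_tree lc_f_Cert_tree lc_f_rc_43_0 lc_f_rc_43_0 lc_f_rc_43_1 lc_f_rc_23_1 lc_f_rc_45_2 lc_f_Cert_tree lc_f_rc_43_0 lc_f_Cert_tree lc_f_rc_43_0 lc_f_rc_43_1 lc_f_rc_15_1 lc_f_rc_36_3 lc_f_rc_30_1 lc_f_rc_42_2 lc_f_rc_46_2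 lc_f_rc_23_1 lc_f_Cert_tree lc_f_rc_43_0 lc_f_Cert_tree lc_f_rc_43_0 lc_f_rc_43_1 lc_f_rc_15_1 lc_f_rc_36_3 lc_f_rc_30_1 lc_f_rc_42_2) (@D3.rec (fun _ => (Cert rels S Gen.f)) lc_f_rc_46_2 lc_f_rc_23_1 lc_f_Cert_tree lc_f_rc_43_0 lc_f_rc_6_1 lc_f_rc_43_0 lc_f_rc_43_1 lc_f_rc_36_3 lc_f_rc_15_1 lc_f_rc_42_2 lc_f_rc_15_1 lc_f_Cert_tree lc_f_rc_36_3 lc_f_rc_30_1 lc_f_rc_42_2 lc_f_rc_46_2 lc_f_Cert_tree lc_f_rc_43_0 lc_f_rc_43_1 lc_f_rc_6_1 lc_f_rc_43_0 lc_f_rc_43_1 lc_f_rc_36_3 lc_f_rc_15_1 lc_f_rc_42_2 lc_f_rc_15_1 lc_f_Cert_tree lc_f_rc_36_3 lc_f_rc_45_2 lc_f_rc_42_2 lc_f_Cert_tree lc_f_rc_43_0 lc_f_rc_6_1 lc_f_rc_6_1 lc_f_rc_6_1 lc_f_rc_23_1 lc_f_rc_23_1 lc_f_Cert_tree lc_f_rc_15_1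 lc_f_rc_43_0 lc_f_rc_45_2 lc_f_Cert_tree lc_f_rc_43_0 lc_f_Cert_tree lc_f_rc_43_0 lc_f_rc_43_1 lc_f_rc_15_1 lc_f_rc_36_3 lc_f_rc_44_2 lc_f_rc_42_2 lc_f_rc_46_2) (@D3.rec (fun _ => (Cert rels S Gen.f)) lc_f_rc_44_2 lc_f_Cert_tree lc_f_rc_43_0 lc_f_rc_6_1 lc_f_rc_43_0 lc_f_rc_43_1 lc_f_rc_15_1 lc_f_rc_15_1 lc_f_rc_42_2 lc_f_rc_15_1 lc_f_rc_36_3 lc_f_rc_36_3 lc_f_rc_30_1 lc_f_rc_42_2 lc_f_rc_46_2 lc_f_rc_43_0 lc_f_rc_6_1 lc_f_rc_6_1 lc_f_rc_23_1 lc_f_rc_42_2 lc_f_rc_30_1 lc_f_rc_15_1 lc_f_rc_15_1 lc_f_rc_42_2 lc_f_rc_46_2 lc_f_Cert_tree lc_f_rc_43_0 lc_f_rc_6_1 lc_f_rc_43_0 lc_f_rc_43_1 lc_f_rc_15_1 lc_f_rc_15_1 lc_f_rc_42_2 lc_f_Cert_tree lc_f_rc_36_3 lc_f_rc_42_2 lc_f_rc_46_2 lc_f_rc_43_0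 lc_f_rc_6_1 lc_f_rc_23_1 lc_f_rc_42_2 lc_f_rc_30_1 lc_f_rc_15_1 lc_f_rc_30_1 lc_f_rc_46_2 lc_f_Cert_tree lc_f_Cert_tree lc_f_Cert_tree lc_f_rc_43_0 lc_f_rc_46_2 lc_f_rc_46_2) (@D3.rec (fun _ => (Cert rels S Gen.f)) lc_f_rc_42_2 lc_f_rc_42_2 lc_f_rc_23_1 lc_f_Cert_tree lc_f_rc_15_1 lc_f_Cert_tree lc_f_rc_43_0 lc_f_rc_15_1 lc_f_rc_42_2 lc_f_rc_30_1 lc_f_rc_30_1 lc_f_Cert_tree lc_f_Cert_tree lc_f_rc_43_0 lc_f_Cert_tree lc_f_Cert_tree lc_f_rc_43_0 lc_f_rc_44_2 lc_f_rc_23_1 lc_f_rc_15_1 lc_f_Cert_tree lc_f_rc_43_0 lc_f_Cert_tree lc_f_rc_43_0 lc_f_rc_44_2 lc_f_Cert_tree lc_f_rc_43_0 lc_f_rc_43_0 lc_f_rc_43_1 lc_f_rc_23_1 lc_f_rc_45_2 lc_f_rc_43_0 lc_f_Cert_tree lc_f_rc_43_0 lc_f_rc_44_2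 lc_f_Cert_tree lc_f_rc_43_0 lc_f_rc_43_0 lc_f_rc_43_1 lc_f_rc_23_1 lc_f_rc_45_2 lc_f_rc_44_2 lc_f_rc_43_0 lc_f_rc_23_1 lc_f_rc_45_2 lc_f_Cert_tree lc_f_rc_43_0 lc_f_rc_43_1 lc_f_rc_15_1 lc_f_rc_36_3 lc_f_rc_30_1) (@D3.rec (fun _ => (Cert rels S Gen.f)) lc_f_rc_42_2 lc_f_rc_23_1 lc_f_rc_45_2 lc_f_rc_36_3 lc_f_rc_30_1 lc_f_rc_23_1 lc_f_rc_43_0 lc_f_rc_15_1 lc_f_rc_15_1 lc_f_rc_42_2 lc_f_rc_15_1 lc_f_Cert_tree lc_f_rc_36_3 lc_f_rc_30_1 lc_f_rc_42_2 lc_f_Cert_tree lc_f_Cert_tree lc_f_rc_43_0 lc_f_rc_43_0 lc_f_rc_43_1 lc_f_rc_23_1 lc_f_rc_45_2 lc_f_Cert_tree lc_f_rc_43_0 lc_f_rc_43_0 lc_f_rc_42_2 lc_f_rc_36_3 lc_f_rc_30_1 lc_f_rc_42_2 lc_f_rc_23_1 lc_f_Cert_tree lc_f_rc_43_0 lc_f_rc_43_0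 lc_f_rc_15_1 lc_f_rc_36_3 lc_f_rc_30_1 lc_f_rc_42_2 lc_f_rc_23_1 lc_f_rc_43_0 lc_f_rc_6_1 lc_f_rc_36_3 lc_f_rc_15_1 lc_f_rc_15_1 lc_f_rc_6_3 lc_f_rc_36_3 lc_f_rc_30_1 lc_f_rc_42_2 lc_f_rc_43_0 lc_f_rc_6_1 lc_f_rc_36_3 lc_f_rc_15_1) (@D3.rec (fun _ => (Cert rels S Gen.f)) lc_f_rc_15_1 lc_f_Cert_tree lc_f_rc_36_3 lc_f_rc_30_1 lc_f_rc_42_2 lc_f_rc_6_1 lc_f_rc_6_1 lc_f_rc_6_1 lc_f_Cert_tree lc_f_rc_15_1 lc_f_rc_43_0 lc_f_rc_36_1 lc_f_rc_36_1 lc_f_rc_6_3 lc_f_Cert_tree lc_f_rc_43_0 lc_f_rc_43_1 lc_f_rc_6_1 lc_f_rc_6_1 lc_f_rc_42_2 lc_f_rc_6_1 lc_f_rc_23_1 lc_f_rc_23_1 lc_f_rc_42_2 lc_f_rc_30_1 lc_f_Cert_tree lc_f_rc_36_3 lc_f_rc_15_1 lc_f_rc_42_2 lc_f_rc_43_0 lc_f_rc_45_2 lc_f_rc_43_1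 lc_f_rc_30_1 lc_f_rc_42_2 lc_f_rc_43_0 lc_f_rc_23_1 lc_f_rc_6_1 lc_f_Cert_tree lc_f_rc_6_1 lc_f_rc_30_1 lc_f_Cert_tree lc_f_rc_23_1 lc_f_rc_43_0 lc_f_rc_45_2 lc_f_rc_45_2 lc_f_rc_43_0 lc_f_rc_6_1 lc_f_rc_15_1 lc_f_rc_15_1 lc_f_rc_15_1 lc_f_rc_42_2) (@D3.rec (fun _ => (Cert rels S Gen.f)) lc_f_rc_36_3 lc_f_rc_44_2 lc_f_rc_42_2 lc_f_rc_6_1 lc_f_rc_6_1 lc_f_rc_6_1 lc_f_rc_15_1 lc_f_rc_15_1 lc_f_rc_36_3 lc_f_rc_36_3 lc_f_rc_30_1 lc_f_rc_42_2 lc_f_rc_6_1 lc_f_rc_6_1 lc_f_rc_6_1 lc_f_Cert_tree lc_f_rc_43_0 lc_f_rc_15_3 lc_f_rc_44_2 lc_f_rc_46_0 lc_f_Cert_tree lc_f_rc_43_0 lc_f_rc_42_2 lc_f_rc_30_1 lc_f_rc_23_1 lc_f_rc_43_0 lc_f_rc_46_2 lc_f_rc_36_3 lc_f_rc_30_1 lc_f_rc_42_2 lc_f_rc_30_1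 lc_f_rc_23_1 lc_f_Cert_tree lc_f_rc_23_1 lc_f_Cert_tree lc_f_rc_15_1 lc_f_Cert_tree lc_f_rc_43_0 lc_f_rc_6_1 lc_f_Cert_tree lc_f_Cert_tree lc_f_rc_43_0 lc_f_rc_44_2 lc_f_rc_44_2 lc_f_rc_44_2 lc_f_rc_30_1 lc_f_rc_23_1 lc_f_Cert_tree lc_f_rc_23_1 lc_f_Cert_tree lc_f_rc_15_1) (@D3.rec (fun _ => (Cert rels S Gen.f)) lc_f_Cert_tree lc_f_rc_43_0 lc_f_rc_23_1 lc_f_Cert_tree lc_f_rc_15_1 lc_f_Cert_tree lc_f_rc_43_0 lc_f_rc_15_1 lc_f_Cert_tree lc_f_rc_43_0 lc_f_rc_6_1 lc_f_Cert_tree lc_f_Cert_tree lc_f_rc_43_0 lc_f_rc_44_2 lc_f_Cert_tree lc_f_Cert_tree lc_f_rc_43_0 lc_f_rc_44_2 lc_f_Cert_tree lc_f_Cert_tree lc_f_rc_43_0 lc_f_rc_43_0 lc_f_rc_43_1 lc_f_rc_23_1 lc_f_rc_45_2 lc_f_rc_23_1 lc_f_Cert_tree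 lc_f_rc_15_1 lc_f_Cert_tree lc_f_rc_43_0 lc_f_rc_6_1 lc_f_Cert_tree lc_f_Cert_tree lc_f_rc_43_0 lc_f_rc_44_2 lc_f_rc_42_2 lc_f_Cert_tree lc_f_rc_43_0 lc_f_rc_6_1 lc_f_Cert_tree lc_f_Cert_tree lc_f_rc_43_0 lc_f_rc_44_2 lc_f_Cert_tree lc_f_Cert_tree lc_f_rc_43_0 lc_f_rc_43_0 lc_f_rc_43_1 lc_f_rc_23_1 lc_f_rc_45_2) (@D3.rec (fun _ => (Cert rels S Gen.f)) lc_f_rc_6_1 lc_f_Cert_tree lc_f_Cert_tree lc_f_rc_43_0 lc_f_rc_44_2 lc_f_Cert_tree lc_f_Cert_tree lc_f_rc_43_0 lc_f_rc_43_0 lc_f_rc_43_1 lc_f_rc_23_1 lc_f_rc_45_2 lc_f_Cert_tree lc_f_rc_43_0 lc_f_Cert_tree lc_f_rc_43_0 lc_f_rc_43_1 lc_f_rc_15_1 lc_f_rc_36_3 lc_f_rc_30_1 lc_f_rc_42_2 lc_f_rc_46_2 lc_f_rc_23_1 lc_f_rc_6_1 lc_f_Cert_tree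 lc_f_Cert_tree lc_f_rc_43_0 lc_f_rc_44_2 lc_f_Cert_tree lc_f_Cert_tree lc_f_rc_43_0 lc_f_rc_43_0 lc_f_rc_43_1 lc_f_rc_36_5 lc_f_rc_36_5 lc_f_Cert_tree lc_f_rc_43_0 lc_f_Cert_tree lc_f_rc_43_0 lc_f_rc_43_1 lc_f_rc_15_1 lc_f_rc_36_3 lc_f_rc_44_2 lc_f_rc_42_2 lc_f_rc_46_2 lc_f_rc_45_2 lc_f_Cert_tree lc_f_rc_43_0 lc_f_rc_43_1 lc_f_rc_6_1 lc_f_rc_43_0) (@D3.rec (fun _ => (Cert rels S Gen.f)) lc_f_rc_43_1 lc_f_rc_15_1 lc_f_rc_15_1 lc_f_rc_42_2 lc_f_rc_46_2 lc_f_rc_15_1 lc_f_Cert_tree lc_f_rc_36_3 lc_f_rc_45_2 lc_f_rc_42_2 lc_f_rc_46_2 lc_f_rc_43_0 lc_f_rc_46_2 lc_f_rc_42_2 lc_f_rc_44_2 lc_f_rc_23_1 lc_f_Cert_tree lc_f_rc_36_3 lc_f_rc_30_1 lc_f_rc_23_1 lc_f_Cert_tree lc_f_rc_15_1 lc_f_Cert_tree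 lc_f_rc_43_0 lc_f_rc_30_1 lc_f_rc_23_1 lc_f_Cert_tree lc_f_rc_15_1 lc_f_Cert_tree lc_f_rc_43_0 lc_f_rc_6_1 lc_f_Cert_tree lc_f_Cert_tree lc_f_rc_43_0 lc_f_rc_44_2 lc_f_rc_23_1 lc_f_Cert_tree lc_f_rc_15_1 lc_f_Cert_tree lc_f_rc_43_0 lc_f_rc_6_1 lc_f_Cert_tree lc_f_Cert_tree lc_f_rc_43_0 lc_f_rc_44_2 lc_f_Cert_tree lc_f_rc_43_0 lc_f_Cert_tree lc_f_Cert_tree lc_f_rc_43_0 lc_f_rc_44_2) (@D3.rec (fun _ => (Cert rels S Gen.f)) lc_f_Cert_tree lc_f_Cert_tree lc_f_rc_43_0 lc_f_rc_43_0 lc_f_rc_43_1 lc_f_rc_23_1 lc_f_rc_45_2 lc_f_Cert_tree lc_f_rc_43_0 lc_f_rc_44_2 lc_f_Cert_tree lc_f_rc_43_0 lc_f_rc_43_0 lc_f_rc_43_1 lc_f_rc_23_1 lc_f_rc_45_2 lc_f_Cert_tree lc_f_rc_43_0 lc_f_Cert_tree lc_f_rc_43_0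 lc_f_rc_43_1 lc_f_rc_15_1 lc_f_rc_36_3 lc_f_rc_30_1 lc_f_rc_42_2 lc_f_rc_46_2 lc_f_rc_23_1 lc_f_rc_6_1 lc_f_Cert_tree lc_f_Cert_tree lc_f_rc_43_0 lc_f_rc_44_2 lc_f_Cert_tree lc_f_Cert_tree lc_f_rc_43_0 lc_f_rc_43_0 lc_f_rc_43_1 lc_f_rc_23_1 lc_f_rc_45_2 lc_f_Cert_tree lc_f_Cert_tree lc_f_rc_43_0 lc_f_rc_43_0 lc_f_rc_43_1 lc_f_rc_23_1 lc_f_rc_45_2 lc_f_Cert_tree lc_f_rc_43_0 lc_f_Cert_tree lc_f_rc_43_0 lc_f_rc_43_1)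
def ce_f_2 : D2 → D3 → (Cert rels S Gen.f) := @D2.rec (fun _ => D3 → (Cert rels S Gen.f)) (@D3.rec (fun _ => (Cert rels S Gen.f)) lc_f_rc_15_1 lc_f_rc_36_3 lc_f_rc_30_1 lc_f_rc_42_2 lc_f_rc_46_2 lc_f_rc_23_1 lc_f_Cert_tree lc_f_rc_43_0 lc_f_Cert_tree lc_f_rc_43_0 lc_f_rc_43_1 lc_f_rc_15_1 lc_f_rc_36_3 lc_f_rc_30_1 lc_f_rc_42_2 lc_f_rc_46_2 lc_f_rc_23_1 lc_f_Cert_tree lc_f_rc_43_0 lc_f_rc_43_1 lc_f_rc_6_1 lc_f_rc_43_0 lc_f_rc_43_1 lc_f_rc_15_1 lc_f_rc_15_1 lc_f_rc_42_2 lc_f_rc_46_2 lc_f_rc_15_1 lc_f_Cert_tree lc_f_rc_36_3 lc_f_rc_30_1 lc_f_rc_42_2 lc_f_rc_46_2 lc_f_rc_43_0 lc_f_rc_6_1 lc_f_rc_43_0 lc_f_rc_15_1 lc_f_rc_15_1 lc_f_rc_42_2 lc_f_rc_15_1 lc_f_Cert_tree lc_f_rc_36_3 lc_f_rc_45_2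 lc_f_rc_42_2 lc_f_rc_46_2 lc_f_rc_43_0 lc_f_rc_6_1 lc_f_rc_6_1 lc_f_rc_42_2 lc_f_rc_6_1 lc_f_rc_23_1) (@D3.rec (fun _ => (Cert rels S Gen.f)) lc_f_rc_23_1 lc_f_rc_42_2 lc_f_Cert_tree lc_f_rc_15_1 lc_f_rc_15_1 lc_f_rc_30_1 lc_f_rc_46_2 lc_f_rc_43_0 lc_f_rc_45_2 lc_f_rc_43_1 lc_f_rc_30_1 lc_f_rc_46_2 lc_f_rc_30_1 lc_f_rc_30_1 lc_f_Cert_tree lc_f_rc_43_0 lc_f_Cert_tree lc_f_rc_43_0 lc_f_rc_43_1 lc_f_rc_15_1 lc_f_rc_36_3 lc_f_rc_44_2 lc_f_rc_42_2 lc_f_rc_46_2 lc_f_rc_44_2 lc_f_Cert_tree lc_f_rc_43_0 lc_f_rc_43_1 lc_f_rc_6_1 lc_f_rc_43_0 lc_f_rc_43_1 lc_f_rc_15_1 lc_f_rc_15_1 lc_f_rc_42_2 lc_f_rc_46_2 lc_f_rc_15_1 lc_f_Cert_tree lc_f_rc_36_3 lc_f_rc_30_1 lc_f_rc_42_2 lc_f_rc_46_2 lc_f_rc_43_0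 lc_f_rc_43_1 lc_f_rc_6_1 lc_f_rc_6_1 lc_f_rc_42_2 lc_f_rc_46_2 lc_f_rc_6_1 lc_f_rc_23_1 lc_f_rc_23_1 lc_f_rc_42_2) (@D3.rec (fun _ => (Cert rels S Gen.f)) lc_f_rc_30_1 lc_f_rc_46_2 lc_f_Cert_tree lc_f_rc_15_1 lc_f_rc_15_1 lc_f_rc_15_1 lc_f_rc_46_2 lc_f_rc_43_0 lc_f_rc_45_2 lc_f_rc_43_1 lc_f_rc_30_1 lc_f_rc_46_2 lc_f_rc_42_2 lc_f_rc_46_2 lc_f_Cert_tree lc_f_rc_6_1 lc_f_rc_6_1 lc_f_rc_6_1 lc_f_rc_46_2 lc_f_rc_43_0 lc_f_rc_45_2 lc_f_rc_43_1 lc_f_rc_30_1 lc_f_rc_15_1 lc_f_rc_15_1 lc_f_rc_15_1 lc_f_rc_45_2 lc_f_rc_42_2 lc_f_rc_45_2 lc_f_rc_30_1 lc_f_rc_46_2 lc_f_rc_23_1 lc_f_rc_30_1 lc_f_rc_46_2 lc_f_rc_44_2 lc_f_rc_45_2 lc_f_rc_30_1 lc_f_rc_46_2 lc_f_rc_15_3 lc_f_rc_15_1 lc_f_rc_23_1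 lc_f_Cert_tree lc_f_rc_43_0 lc_f_rc_46_2 lc_f_rc_46_2 lc_f_rc_42_2 lc_f_rc_42_2 lc_f_rc_23_1 lc_f_Cert_tree lc_f_rc_15_1 lc_f_Cert_tree) (@D3.rec (fun _ => (Cert rels S Gen.f)) lc_f_rc_43_0 lc_f_rc_42_2 lc_f_rc_30_1 lc_f_rc_30_1 lc_f_Cert_tree lc_f_rc_15_1 lc_f_Cert_tree lc_f_rc_43_0 lc_f_rc_6_1 lc_f_Cert_tree lc_f_Cert_tree lc_f_rc_43_0 lc_f_rc_44_2 lc_f_Cert_tree lc_f_rc_43_0 lc_f_Cert_tree lc_f_Cert_tree lc_f_rc_43_0 lc_f_rc_44_2 lc_f_Cert_tree lc_f_Cert_tree lc_f_rc_43_0 lc_f_rc_43_0 lc_f_rc_43_1 lc_f_rc_23_1 lc_f_rc_45_2 lc_f_rc_43_0 lc_f_Cert_tree lc_f_Cert_tree lc_f_rc_43_0 lc_f_rc_44_2 lc_f_Cert_tree lc_f_Cert_tree lc_f_rc_43_0 lc_f_rc_43_0 lc_f_rc_43_1 lc_f_rc_23_1 lc_f_rc_45_2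 lc_f_rc_44_2 lc_f_Cert_tree lc_f_rc_43_0 lc_f_rc_43_0 lc_f_rc_23_1 lc_f_rc_45_2 lc_f_Cert_tree lc_f_rc_43_0 lc_f_Cert_tree lc_f_rc_43_0 lc_f_rc_43_1 lc_f_rc_15_1 lc_f_rc_36_3) (@D3.rec (fun _ => (Cert rels S Gen.f)) lc_f_rc_30_1 lc_f_rc_42_2 lc_f_rc_46_2 lc_f_rc_23_1 lc_f_rc_45_2 lc_f_Cert_tree lc_f_rc_43_0 lc_f_rc_15_1 lc_f_rc_36_3 lc_f_rc_30_1 lc_f_rc_23_1 lc_f_Cert_tree lc_f_rc_43_0 lc_f_rc_43_1 lc_f_rc_6_1 lc_f_rc_43_0 lc_f_rc_43_1 lc_f_rc_15_1 lc_f_rc_15_1 lc_f_rc_42_2 lc_f_rc_46_2 lc_f_rc_15_1 lc_f_Cert_tree lc_f_rc_36_3 lc_f_rc_30_1 lc_f_rc_42_2 lc_f_rc_46_2 lc_f_Cert_tree lc_f_Cert_tree lc_f_rc_43_0 lc_f_rc_43_0 lc_f_rc_43_1 lc_f_rc_23_1 lc_f_rc_45_2 lc_f_Cert_tree lc_f_rc_43_0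 lc_f_Cert_tree lc_f_rc_43_0 lc_f_rc_43_1 lc_f_rc_42_2 lc_f_rc_36_3 lc_f_rc_30_1 lc_f_rc_42_2 lc_f_rc_46_2 lc_f_rc_23_1 lc_f_Cert_tree lc_f_rc_43_0 lc_f_Cert_tree lc_f_rc_43_0 lc_f_rc_43_1 lc_f_rc_15_1) (@D3.rec (fun _ => (Cert rels S Gen.f)) lc_f_rc_36_3 lc_f_rc_30_1 lc_f_rc_42_2 lc_f_rc_46_2 lc_f_rc_23_1 lc_f_Cert_tree lc_f_rc_43_0 lc_f_rc_6_1 lc_f_rc_43_0 lc_f_rc_43_1 lc_f_rc_36_3 lc_f_rc_15_1 lc_f_rc_42_2 lc_f_rc_15_1 lc_f_rc_42_2 lc_f_rc_36_3 lc_f_rc_30_1 lc_f_rc_42_2 lc_f_rc_46_2 lc_f_Cert_tree lc_f_rc_43_0 lc_f_rc_6_1 lc_f_rc_43_0 lc_f_rc_43_1 lc_f_rc_36_3 lc_f_rc_15_1 lc_f_rc_42_2 lc_f_rc_15_1 lc_f_Cert_tree lc_f_rc_36_3 lc_f_rc_30_1 lc_f_rc_42_2 lc_f_rc_46_2 lc_f_rc_43_0 lc_f_rc_6_1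 lc_f_rc_6_1 lc_f_rc_6_1 lc_f_rc_23_1 lc_f_rc_23_1 lc_f_rc_42_2 lc_f_rc_30_1 lc_f_Cert_tree lc_f_rc_36_3 lc_f_rc_15_1 lc_f_rc_15_1 lc_f_rc_43_0 lc_f_rc_15_3 lc_f_rc_15_3 lc_f_rc_46_2 lc_f_rc_46_0 lc_f_rc_46_2) (@D3.rec (fun _ => (Cert rels S Gen.f)) lc_f_rc_43_0 lc_f_rc_6_1 lc_f_rc_6_1 lc_f_rc_42_2 lc_f_rc_6_1 lc_f_rc_23_1 lc_f_rc_23_1 lc_f_rc_42_2 lc_f_Cert_tree lc_f_rc_36_3 lc_f_rc_15_1 lc_f_rc_42_2 lc_f_rc_43_0 lc_f_rc_45_2 lc_f_rc_43_1 lc_f_rc_30_1 lc_f_rc_42_2 lc_f_rc_43_0 lc_f_rc_23_1 lc_f_rc_6_1 lc_f_Cert_tree lc_f_rc_6_1 lc_f_rc_30_1 lc_f_Cert_tree lc_f_rc_23_1 lc_f_rc_43_0 lc_f_rc_45_2 lc_f_rc_45_2 lc_f_Cert_tree lc_f_rc_43_0 lc_f_rc_6_1 lc_f_rc_43_0 lc_f_rc_43_1 lc_f_rc_15_1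 lc_f_rc_15_1 lc_f_rc_42_2 lc_f_rc_15_1 lc_f_rc_42_2 lc_f_rc_36_3 lc_f_rc_44_2 lc_f_rc_42_2 lc_f_rc_46_2 lc_f_rc_43_0 lc_f_rc_6_1 lc_f_rc_6_1 lc_f_rc_6_1 lc_f_rc_23_1 lc_f_rc_23_1 lc_f_rc_42_2 lc_f_rc_30_1 lc_f_rc_15_1) (@D3.rec (fun _ => (Cert rels S Gen.f)) lc_f_rc_15_1 lc_f_rc_15_1 lc_f_rc_15_1 lc_f_rc_36_3 lc_f_rc_36_3 lc_f_rc_30_1 lc_f_rc_46_2 lc_f_rc_42_2 lc_f_rc_46_2 lc_f_rc_6_1 lc_f_rc_6_1 lc_f_rc_23_1 lc_f_rc_23_1 lc_f_rc_30_1 lc_f_Cert_tree lc_f_rc_15_1 lc_f_rc_46_2 lc_f_rc_43_0 lc_f_rc_6_1 lc_f_rc_6_1 lc_f_rc_23_1 lc_f_rc_23_1 lc_f_rc_42_2 lc_f_rc_30_1 lc_f_Cert_tree lc_f_rc_15_1 lc_f_rc_42_2 lc_f_rc_43_0 lc_f_rc_15_3 lc_f_rc_44_2 lc_f_rc_46_2 lc_f_rc_44_2 lc_f_rc_6_1 lc_f_rc_30_1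 lc_f_rc_23_1 lc_f_rc_30_1 lc_f_Cert_tree lc_f_rc_30_1 lc_f_rc_46_0 lc_f_rc_30_1 lc_f_rc_43_0 lc_f_Cert_tree lc_f_rc_43_0 lc_f_rc_43_0 lc_f_rc_43_1 lc_f_rc_46_2 lc_f_rc_46_2 lc_f_rc_42_2 lc_f_rc_30_1 lc_f_Cert_tree lc_f_Cert_tree) (@D3.rec (fun _ => (Cert rels S Gen.f)) lc_f_rc_43_0 lc_f_rc_30_1 lc_f_rc_15_1 lc_f_rc_43_0 lc_f_rc_44_2 lc_f_rc_23_1 lc_f_rc_15_1 lc_f_Cert_tree lc_f_rc_43_0 lc_f_Cert_tree lc_f_rc_43_0 lc_f_rc_44_2 lc_f_rc_44_2 lc_f_rc_43_0 lc_f_rc_43_0 lc_f_rc_42_2 lc_f_rc_44_2 lc_f_rc_46_0 lc_f_rc_23_1 lc_f_rc_43_0 lc_f_rc_36_3 lc_f_rc_43_0 lc_f_rc_23_1 lc_f_rc_45_2 lc_f_rc_45_2 lc_f_rc_43_0 lc_f_rc_43_1 lc_f_rc_15_1 lc_f_rc_36_3 lc_f_rc_30_1 lc_f_rc_42_2 lc_f_rc_23_1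 lc_f_rc_42_2 lc_f_rc_43_0 lc_f_rc_23_1 lc_f_rc_45_2 lc_f_Cert_tree lc_f_rc_43_0 lc_f_rc_43_1 lc_f_rc_15_1 lc_f_rc_36_3 lc_f_rc_30_1 lc_f_rc_42_2 lc_f_rc_23_1 lc_f_rc_45_2 lc_f_rc_36_3 lc_f_rc_30_1 lc_f_rc_23_1 lc_f_rc_43_0 lc_f_rc_15_1 lc_f_rc_15_1) (@D3.rec (fun _ => (Cert rels S Gen.f)) lc_f_rc_42_2 lc_f_rc_15_1 lc_f_rc_6_1 lc_f_rc_36_3 lc_f_rc_30_1 lc_f_rc_42_2 lc_f_Cert_tree lc_f_rc_30_1 lc_f_rc_23_1 lc_f_rc_23_1 lc_f_rc_36_3 lc_f_rc_15_1 lc_f_rc_6_3 lc_f_rc_15_1 lc_f_rc_43_0 lc_f_rc_36_1 lc_f_rc_36_1 lc_f_rc_30_1 lc_f_rc_6_1 lc_f_Cert_tree lc_f_rc_43_0 lc_f_rc_43_0 lc_f_rc_44_2 lc_f_rc_36_3 lc_f_rc_30_1 lc_f_rc_42_2 lc_f_rc_23_1 lc_f_rc_43_0 lc_f_rc_6_1 lc_f_rc_36_3 lc_f_rc_44_2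 lc_f_rc_42_2 lc_f_rc_43_0 lc_f_rc_6_1 lc_f_rc_36_3 lc_f_rc_15_1 lc_f_rc_15_1 lc_f_rc_6_3 lc_f_rc_36_3 lc_f_rc_30_1 lc_f_rc_42_2 lc_f_rc_6_1 lc_f_rc_6_1 lc_f_rc_6_1 lc_f_rc_6_3 lc_f_rc_15_1 lc_f_rc_6_1 lc_f_rc_6_1 lc_f_rc_6_1 lc_f_Cert_tree lc_f_rc_15_1) (@D3.rec (fun _ => (Cert rels S Gen.f)) lc_f_rc_43_0 lc_f_rc_36_1 lc_f_rc_36_3 lc_f_rc_30_1 lc_f_rc_6_3 lc_f_Cert_tree lc_f_rc_6_1 lc_f_rc_43_0 lc_f_rc_36_1 lc_f_rc_43_0 lc_f_rc_23_1 lc_f_rc_6_1 lc_f_rc_42_2 lc_f_Cert_tree lc_f_rc_6_1 lc_f_rc_6_1 lc_f_rc_6_1 lc_f_rc_30_1 lc_f_Cert_tree lc_f_rc_23_1 lc_f_rc_23_1 lc_f_rc_42_2 lc_f_rc_30_1 lc_f_rc_43_0 lc_f_rc_6_3 lc_f_rc_43_1 lc_f_rc_30_1 lc_f_rc_42_2 lc_f_rc_45_2 lc_f_rc_42_2 lc_f_rc_15_3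 lc_f_rc_6_3 lc_f_rc_23_1 lc_f_rc_15_1 lc_f_rc_15_1 lc_f_rc_30_1 lc_f_Cert_tree lc_f_rc_6_1 lc_f_rc_43_0 lc_f_rc_45_2 lc_f_rc_15_3 lc_f_rc_43_0 lc_f_rc_23_3 lc_f_rc_45_2 lc_f_rc_6_1 lc_f_rc_6_1 lc_f_rc_6_1 lc_f_rc_23_3 lc_f_rc_15_1 lc_f_rc_6_1 lc_f_rc_6_1) (@D3.rec (fun _ => (Cert rels S Gen.f)) lc_f_rc_15_1 lc_f_Cert_tree lc_f_rc_43_0 lc_f_rc_43_0 lc_f_rc_30_1 lc_f_rc_23_1 lc_f_rc_46_2 lc_f_rc_42_2 lc_f_rc_30_1 lc_f_rc_23_1 lc_f_Cert_tree lc_f_rc_30_1 lc_f_rc_23_1 lc_f_Cert_tree lc_f_rc_15_1 lc_f_Cert_tree lc_f_rc_43_0 lc_f_rc_15_1 lc_f_Cert_tree lc_f_rc_43_0 lc_f_rc_6_1 lc_f_Cert_tree lc_f_Cert_tree lc_f_rc_43_0 lc_f_rc_44_2 lc_f_Cert_tree lc_f_Cert_tree lc_f_rc_43_0 lc_f_rc_43_0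 lc_f_rc_43_1 lc_f_rc_23_1 lc_f_rc_45_2 lc_f_rc_44_2 lc_f_rc_23_1 lc_f_Cert_tree lc_f_rc_23_1 lc_f_Cert_tree lc_f_rc_15_1 lc_f_Cert_tree lc_f_rc_43_0 lc_f_rc_15_1 lc_f_Cert_tree lc_f_rc_43_0 lc_f_rc_6_1 lc_f_Cert_tree lc_f_Cert_tree lc_f_rc_43_0 lc_f_rc_44_2 lc_f_rc_15_1 lc_f_Cert_tree lc_f_rc_43_0) (@D3.rec (fun _ => (Cert rels S Gen.f)) lc_f_rc_6_1 lc_f_Cert_tree lc_f_Cert_tree lc_f_rc_43_0 lc_f_rc_44_2 lc_f_Cert_tree lc_f_Cert_tree lc_f_rc_43_0 lc_f_rc_44_2 lc_f_Cert_tree lc_f_Cert_tree lc_f_rc_43_0 lc_f_rc_43_0 lc_f_rc_43_1 lc_f_rc_23_1 lc_f_rc_45_2 lc_f_Cert_tree lc_f_rc_43_0 lc_f_rc_43_0 lc_f_rc_43_1 lc_f_rc_23_1 lc_f_rc_45_2 lc_f_Cert_tree lc_f_rc_43_0 lc_f_Cert_tree lc_f_rc_43_0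 lc_f_rc_43_1 lc_f_rc_15_1 lc_f_rc_36_3 lc_f_rc_30_1 lc_f_rc_42_2 lc_f_rc_46_2 lc_f_rc_23_1 lc_f_rc_42_2 lc_f_Cert_tree lc_f_rc_43_0 lc_f_rc_6_1 lc_f_Cert_tree lc_f_Cert_tree lc_f_rc_43_0 lc_f_rc_44_2 lc_f_Cert_tree lc_f_Cert_tree lc_f_rc_43_0 lc_f_rc_43_0 lc_f_rc_43_1 lc_f_rc_23_1 lc_f_rc_45_2 lc_f_rc_6_1 lc_f_Cert_tree lc_f_Cert_tree) (@D3.rec (fun _ => (Cert rels S Gen.f)) lc_f_rc_43_0 lc_f_rc_44_2 lc_f_Cert_tree lc_f_Cert_tree lc_f_rc_43_0 lc_f_rc_43_0 lc_f_rc_43_1 lc_f_rc_23_1 lc_f_rc_45_2 lc_f_Cert_tree lc_f_rc_43_0 lc_f_Cert_tree lc_f_rc_43_0 lc_f_rc_43_1 lc_f_rc_15_1 lc_f_rc_36_3 lc_f_rc_30_1 lc_f_rc_42_2 lc_f_rc_46_2 lc_f_rc_23_1 lc_f_Cert_tree lc_f_Cert_tree lc_f_rc_43_0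 lc_f_rc_43_0 lc_f_rc_43_1 lc_f_rc_23_1 lc_f_rc_45_2 lc_f_Cert_tree lc_f_rc_43_0 lc_f_Cert_tree lc_f_rc_43_0 lc_f_rc_43_1 lc_f_rc_15_1 lc_f_rc_36_3 lc_f_rc_30_1 lc_f_rc_42_2 lc_f_rc_46_2 lc_f_rc_23_1 lc_f_Cert_tree lc_f_rc_43_0 lc_f_rc_43_1 lc_f_rc_6_1 lc_f_rc_43_0 lc_f_rc_43_1 lc_f_rc_15_1 lc_f_rc_15_1 lc_f_rc_42_2 lc_f_rc_46_2 lc_f_rc_15_1 lc_f_Cert_tree lc_f_rc_36_3) (@D3.rec (fun _ => (Cert rels S Gen.f)) lc_f_rc_30_1 lc_f_rc_42_2 lc_f_rc_46_2 lc_f_rc_43_0 lc_f_rc_43_0 lc_f_rc_23_1 lc_f_rc_45_2 lc_f_rc_43_0 lc_f_rc_43_0 lc_f_rc_42_2 lc_f_rc_36_3 lc_f_rc_44_2 lc_f_rc_42_2 lc_f_rc_36_5 lc_f_rc_43_0 lc_f_rc_6_1 lc_f_rc_43_0 lc_f_rc_15_1 lc_f_rc_15_1 lc_f_rc_42_2 lc_f_rc_15_1 lc_f_Cert_tree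 lc_f_rc_36_3 lc_f_rc_45_2 lc_f_rc_42_2 lc_f_rc_46_2 lc_f_rc_43_0 lc_f_rc_6_1 lc_f_rc_6_1 lc_f_rc_42_2 lc_f_rc_6_1 lc_f_rc_23_1 lc_f_rc_23_1 lc_f_rc_42_2 lc_f_Cert_tree lc_f_rc_15_1 lc_f_rc_15_1 lc_f_rc_42_2 lc_f_rc_46_2 lc_f_rc_43_0 lc_f_rc_45_2 lc_f_rc_43_1 lc_f_rc_30_1 lc_f_rc_46_2 lc_f_rc_42_2 lc_f_rc_44_2 lc_f_rc_46_2 lc_f_rc_42_2 lc_f_rc_42_2 lc_f_rc_23_1 lc_f_Cert_tree) (@D3.rec (fun _ => (Cert rels S Gen.f)) lc_f_rc_15_1 lc_f_Cert_tree lc_f_rc_43_0 lc_f_rc_30_1 lc_f_rc_23_1 lc_f_Cert_tree lc_f_rc_15_1 lc_f_Cert_tree lc_f_rc_43_0 lc_f_rc_6_1 lc_f_Cert_tree lc_f_Cert_tree lc_f_rc_43_0 lc_f_rc_44_2 lc_f_rc_23_1 lc_f_Cert_tree lc_f_Cert_tree lc_f_rc_43_0 lc_f_Cert_tree lc_f_Cert_tree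 lc_f_rc_43_0 lc_f_rc_44_2 lc_f_Cert_tree lc_f_Cert_tree lc_f_rc_43_0 lc_f_rc_43_0 lc_f_rc_43_1 lc_f_rc_23_1 lc_f_rc_45_2 lc_f_Cert_tree lc_f_rc_43_0 lc_f_Cert_tree lc_f_Cert_tree lc_f_rc_43_0 lc_f_rc_44_2 lc_f_Cert_tree lc_f_Cert_tree lc_f_rc_43_0 lc_f_rc_43_0 lc_f_rc_43_1 lc_f_rc_23_1 lc_f_rc_45_2 lc_f_Cert_tree lc_f_rc_43_0 lc_f_rc_44_2 lc_f_Cert_tree lc_f_rc_43_0 lc_f_rc_43_0 lc_f_rc_43_1 lc_f_rc_23_1 lc_f_rc_45_2) (@D3.rec (fun _ => (Cert rels S Gen.f)) lc_f_Cert_tree lc_f_rc_43_0 lc_f_Cert_tree lc_f_rc_43_0 lc_f_rc_43_1 lc_f_rc_15_1 lc_f_rc_36_3 lc_f_rc_30_1 lc_f_rc_42_2 lc_f_rc_46_2 lc_f_rc_23_1 lc_f_rc_43_0 lc_f_rc_43_1 lc_f_rc_23_1 lc_f_rc_45_2 lc_f_Cert_tree lc_f_rc_43_0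 lc_f_rc_43_1 lc_f_rc_15_1 lc_f_rc_36_3 lc_f_rc_30_1 lc_f_rc_42_2 lc_f_rc_46_2 lc_f_rc_23_1 lc_f_Cert_tree lc_f_rc_43_0 lc_f_rc_43_1 lc_f_rc_6_1 lc_f_rc_43_0 lc_f_rc_43_1 lc_f_rc_15_1 lc_f_rc_15_1 lc_f_rc_42_2 lc_f_rc_46_2 lc_f_rc_15_1 lc_f_Cert_tree lc_f_rc_36_3 lc_f_rc_30_1 lc_f_rc_42_2 lc_f_rc_46_2 lc_f_Cert_tree lc_f_Cert_tree lc_f_rc_43_0 lc_f_rc_43_0 lc_f_rc_43_1 lc_f_rc_23_1 lc_f_rc_45_2 lc_f_Cert_tree lc_f_rc_43_0 lc_f_Cert_tree lc_f_rc_43_0) (@D3.rec (fun _ => (Cert rels S Gen.f)) lc_f_rc_43_1 lc_f_rc_42_2 lc_f_rc_36_3 lc_f_rc_30_1 lc_f_rc_42_2 lc_f_rc_46_2 lc_f_rc_23_1 lc_f_Cert_tree lc_f_rc_43_0 lc_f_Cert_tree lc_f_rc_43_0 lc_f_rc_43_1 lc_f_rc_15_1 lc_f_rc_36_3 lc_f_rc_30_1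 lc_f_rc_42_2 lc_f_rc_46_2 lc_f_rc_23_1 lc_f_Cert_tree lc_f_rc_43_0 lc_f_rc_43_1 lc_f_rc_6_1 lc_f_rc_43_0 lc_f_rc_43_1 lc_f_rc_15_1 lc_f_rc_15_1 lc_f_rc_42_2 lc_f_rc_46_2 lc_f_rc_15_1 lc_f_Cert_tree lc_f_rc_36_3 lc_f_rc_30_1 lc_f_rc_42_2 lc_f_rc_46_2 lc_f_Cert_tree lc_f_rc_43_0 lc_f_rc_43_1 lc_f_rc_6_1 lc_f_rc_43_0 lc_f_rc_43_1 lc_f_rc_15_1 lc_f_rc_15_1 lc_f_rc_42_2 lc_f_rc_46_2 lc_f_rc_15_1 lc_f_Cert_tree lc_f_rc_36_3 lc_f_rc_30_1 lc_f_rc_42_2 lc_f_rc_46_2 lc_f_Cert_tree) (@D3.rec (fun _ => (Cert rels S Gen.f)) lc_f_rc_43_0 lc_f_rc_43_1 lc_f_rc_6_1 lc_f_rc_6_1 lc_f_rc_42_2 lc_f_rc_46_2 lc_f_rc_6_1 lc_f_rc_23_1 lc_f_rc_23_1 lc_f_rc_42_2 lc_f_rc_30_1 lc_f_rc_46_2 lc_f_Cert_tree lc_f_rc_15_1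 lc_f_rc_15_1 lc_f_rc_15_1 lc_f_rc_46_2 lc_f_rc_43_0 lc_f_rc_45_2 lc_f_rc_43_1 lc_f_rc_30_1 lc_f_rc_46_2 lc_f_rc_42_2 lc_f_rc_46_2 lc_f_rc_6_1 lc_f_rc_6_1 lc_f_rc_6_1 lc_f_rc_23_1 lc_f_rc_23_1 lc_f_Cert_tree lc_f_rc_15_1 lc_f_rc_15_1 lc_f_rc_42_2 lc_f_rc_43_0 lc_f_rc_45_2 lc_f_rc_43_1 lc_f_rc_30_1 lc_f_rc_46_2 lc_f_rc_42_2 lc_f_rc_42_2 lc_f_rc_6_1 lc_f_rc_6_1 lc_f_Cert_tree lc_f_rc_6_1 lc_f_rc_6_1 lc_f_rc_6_1 lc_f_rc_30_1 lc_f_Cert_tree lc_f_rc_23_1 lc_f_rc_23_1 lc_f_rc_42_2) (@D3.rec (fun _ => (Cert rels S Gen.f)) lc_f_rc_43_0 lc_f_rc_45_2 lc_f_rc_43_1 lc_f_rc_30_1 lc_f_rc_15_1 lc_f_rc_30_1 lc_f_rc_30_1 lc_f_rc_45_2 lc_f_rc_42_2 lc_f_rc_45_2 lc_f_rc_30_1 lc_f_rc_46_2 lc_f_rc_23_1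 lc_f_rc_30_1 lc_f_rc_30_1 lc_f_Cert_tree lc_f_rc_43_0 lc_f_rc_43_1 lc_f_rc_6_1 lc_f_rc_43_0 lc_f_rc_43_1 lc_f_rc_15_1 lc_f_rc_15_1 lc_f_rc_42_2 lc_f_rc_46_2 lc_f_rc_15_1 lc_f_Cert_tree lc_f_rc_36_3 lc_f_rc_44_2 lc_f_rc_42_2 lc_f_rc_46_2 lc_f_rc_43_0 lc_f_rc_43_1 lc_f_rc_6_1 lc_f_rc_6_1 lc_f_rc_42_2 lc_f_rc_46_2 lc_f_rc_6_1 lc_f_rc_23_1 lc_f_rc_23_1 lc_f_rc_42_2 lc_f_rc_30_1 lc_f_rc_46_2 lc_f_Cert_tree lc_f_rc_15_1 lc_f_rc_15_1 lc_f_rc_15_1 lc_f_rc_46_2 lc_f_rc_43_0 lc_f_rc_45_2 lc_f_rc_43_1) (@D3.rec (fun _ => (Cert rels S Gen.f)) lc_f_rc_30_1 lc_f_rc_46_2 lc_f_rc_42_2 lc_f_rc_46_2 lc_f_rc_6_1 lc_f_rc_6_1 lc_f_rc_42_2 lc_f_rc_46_2 lc_f_Cert_tree lc_f_rc_6_1 lc_f_rc_6_1 lc_f_rc_6_1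 lc_f_rc_46_2 lc_f_Cert_tree lc_f_rc_23_1 lc_f_rc_23_1 lc_f_rc_23_1 lc_f_rc_30_1 lc_f_rc_46_2 lc_f_Cert_tree lc_f_rc_46_2 lc_f_rc_43_0 lc_f_rc_45_2 lc_f_rc_43_1 lc_f_rc_30_1 lc_f_rc_15_1 lc_f_rc_15_1 lc_f_rc_15_1 lc_f_rc_45_2 lc_f_rc_42_2 lc_f_rc_45_2 lc_f_rc_30_1 lc_f_rc_46_2 lc_f_rc_23_1 lc_f_rc_30_1 lc_f_rc_46_2 lc_f_rc_43_0 lc_f_rc_45_2 lc_f_rc_43_1 lc_f_rc_6_1 lc_f_rc_6_1 lc_f_rc_6_1 lc_f_rc_6_1 lc_f_rc_45_2 lc_f_rc_42_2 lc_f_rc_45_2 lc_f_rc_30_1 lc_f_rc_46_2 lc_f_rc_23_1 lc_f_rc_30_1 lc_f_rc_15_1) (@D3.rec (fun _ => (Cert rels S Gen.f)) lc_f_rc_44_2 lc_f_rc_45_2 lc_f_rc_30_1 lc_f_rc_46_2 lc_f_rc_45_2 lc_f_rc_15_3 lc_f_rc_23_1 lc_f_rc_46_2 lc_f_rc_15_1 lc_f_rc_23_1 lc_f_rc_42_2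 lc_f_rc_30_3 lc_f_rc_6_1 lc_f_rc_15_1 lc_f_rc_43_0 lc_f_rc_43_1 lc_f_rc_46_2 lc_f_rc_46_2 lc_f_rc_42_2 lc_f_rc_30_1 lc_f_Cert_tree lc_f_rc_15_1 lc_f_Cert_tree lc_f_rc_43_0 lc_f_rc_6_1 lc_f_Cert_tree lc_f_rc_15_3 lc_f_rc_43_0 lc_f_rc_44_2 lc_f_Cert_tree lc_f_rc_43_0 lc_f_Cert_tree lc_f_Cert_tree lc_f_rc_43_0 lc_f_rc_44_2 lc_f_Cert_tree lc_f_Cert_tree lc_f_rc_43_0 lc_f_rc_43_0 lc_f_rc_42_2 lc_f_rc_44_2 lc_f_rc_46_0 lc_f_rc_43_0 lc_f_rc_36_3 lc_f_Cert_tree lc_f_rc_43_0 lc_f_rc_43_0 lc_f_rc_23_1 lc_f_rc_45_2 lc_f_Cert_tree lc_f_rc_43_0) (@D3.rec (fun _ => (Cert rels S Gen.f)) lc_f_Cert_tree lc_f_rc_43_0 lc_f_rc_43_1 lc_f_rc_15_1 lc_f_rc_36_3 lc_f_rc_30_1 lc_f_rc_42_2 lc_f_rc_23_1 lc_f_rc_42_2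 lc_f_Cert_tree lc_f_rc_43_0 lc_f_rc_43_0 lc_f_rc_23_1 lc_f_rc_45_2 lc_f_Cert_tree lc_f_rc_43_0 lc_f_Cert_tree lc_f_rc_43_0 lc_f_rc_43_1 lc_f_rc_15_1 lc_f_rc_36_3 lc_f_rc_30_1 lc_f_rc_42_2 lc_f_rc_46_2 lc_f_rc_23_1 lc_f_rc_45_2 lc_f_Cert_tree lc_f_rc_43_0 lc_f_rc_15_1 lc_f_rc_36_3 lc_f_rc_30_1 lc_f_rc_23_1 lc_f_Cert_tree lc_f_rc_43_0 lc_f_rc_43_1 lc_f_rc_6_1 lc_f_rc_43_0 lc_f_rc_43_1 lc_f_rc_15_1 lc_f_rc_15_1 lc_f_rc_42_2 lc_f_rc_46_2 lc_f_rc_15_1 lc_f_rc_46_0 lc_f_rc_36_3 lc_f_rc_30_1 lc_f_rc_42_2 lc_f_rc_46_2 lc_f_rc_43_0 lc_f_rc_15_1 lc_f_rc_15_1) (@D3.rec (fun _ => (Cert rels S Gen.f)) lc_f_rc_15_1 lc_f_Cert_tree lc_f_rc_30_1 lc_f_Cert_tree lc_f_rc_43_0 lc_f_rc_43_1 lc_f_rc_6_1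 lc_f_rc_6_1 lc_f_rc_42_2 lc_f_rc_6_1 lc_f_rc_23_1 lc_f_rc_23_1 lc_f_rc_42_2 lc_f_rc_30_1 lc_f_Cert_tree lc_f_rc_15_1 lc_f_rc_15_1 lc_f_rc_15_1 lc_f_rc_46_2 lc_f_rc_43_0 lc_f_rc_15_3 lc_f_rc_15_3 lc_f_rc_30_1 lc_f_rc_46_2 lc_f_rc_42_2 lc_f_rc_46_2 lc_f_Cert_tree lc_f_rc_43_0 lc_f_Cert_tree lc_f_rc_43_0 lc_f_rc_43_1 lc_f_rc_44_2 lc_f_rc_36_3 lc_f_rc_30_1 lc_f_rc_42_2 lc_f_rc_46_2 lc_f_rc_23_1 lc_f_Cert_tree lc_f_rc_43_0 lc_f_rc_6_1 lc_f_rc_43_0 lc_f_rc_43_1 lc_f_rc_36_3 lc_f_rc_44_2 lc_f_rc_42_2 lc_f_rc_42_2 lc_f_rc_46_2 lc_f_Cert_tree lc_f_rc_43_0 lc_f_rc_6_1 lc_f_rc_43_0) (@D3.rec (fun _ => (Cert rels S Gen.f)) lc_f_rc_43_1 lc_f_rc_36_3 lc_f_rc_15_1 lc_f_rc_42_2 lc_f_rc_15_1 lc_f_rc_46_2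 lc_f_rc_36_3 lc_f_rc_30_1 lc_f_rc_42_2 lc_f_rc_46_2 lc_f_rc_43_0 lc_f_rc_6_1 lc_f_rc_6_1 lc_f_rc_6_1 lc_f_rc_23_1 lc_f_rc_23_1 lc_f_rc_42_2 lc_f_rc_30_1 lc_f_rc_46_0 lc_f_rc_36_3 lc_f_rc_15_1 lc_f_rc_15_1 lc_f_rc_46_2 lc_f_rc_46_2 lc_f_rc_43_0 lc_f_rc_6_1 lc_f_rc_6_1 lc_f_rc_6_1 lc_f_rc_23_1 lc_f_rc_23_1 lc_f_rc_42_2 lc_f_Cert_tree lc_f_rc_36_3 lc_f_rc_15_1 lc_f_rc_15_1 lc_f_rc_43_0 lc_f_rc_15_3 lc_f_rc_43_1 lc_f_rc_30_1 lc_f_rc_46_2 lc_f_rc_42_2 lc_f_rc_46_2 lc_f_rc_23_1 lc_f_rc_6_1 lc_f_Cert_tree lc_f_rc_6_1 lc_f_rc_30_1 lc_f_Cert_tree lc_f_rc_23_1 lc_f_rc_23_1 lc_f_rc_23_1) (@D3.rec (fun _ => (Cert rels S Gen.f)) lc_f_rc_30_1 lc_f_Cert_tree lc_f_rc_43_0 lc_f_rc_6_3 lc_f_rc_46_2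 lc_f_rc_46_0 lc_f_rc_15_3 lc_f_rc_45_2 lc_f_rc_23_1 lc_f_rc_6_1 lc_f_Cert_tree lc_f_rc_6_1 lc_f_rc_6_1 lc_f_rc_6_1 lc_f_rc_30_1 lc_f_Cert_tree lc_f_rc_23_1 lc_f_rc_23_1 lc_f_rc_42_2 lc_f_rc_43_0 lc_f_rc_45_2 lc_f_rc_43_1 lc_f_rc_30_1 lc_f_rc_42_2 lc_f_rc_45_2 lc_f_rc_42_2 lc_f_rc_45_2 lc_f_rc_30_1 lc_f_rc_23_1 lc_f_rc_15_1 lc_f_rc_15_1 lc_f_rc_30_1 lc_f_Cert_tree lc_f_rc_6_1 lc_f_rc_43_0 lc_f_rc_45_2 lc_f_Cert_tree lc_f_rc_36_5 lc_f_rc_43_0 lc_f_rc_45_2 lc_f_rc_45_2 lc_f_rc_43_0 lc_f_rc_6_1 lc_f_rc_6_1 lc_f_rc_6_1 lc_f_rc_23_1 lc_f_rc_23_1 lc_f_rc_42_2 lc_f_rc_30_1 lc_f_rc_23_3 lc_f_rc_15_1) (@D3.rec (fun _ => (Cert rels S Gen.f)) lc_f_rc_15_1 lc_f_rc_42_2 lc_f_rc_46_2 lc_f_rc_44_2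 lc_f_rc_6_1 lc_f_rc_6_1 lc_f_rc_6_1 lc_f_rc_6_1 lc_f_rc_30_1 lc_f_rc_23_1 lc_f_rc_23_1 lc_f_rc_23_1 lc_f_rc_23_1 lc_f_rc_30_1 lc_f_Cert_tree lc_f_rc_15_1 lc_f_rc_15_1 lc_f_rc_30_1 lc_f_rc_15_1 lc_f_rc_46_2 lc_f_rc_30_1 lc_f_rc_46_2 lc_f_rc_6_1 lc_f_rc_23_1 lc_f_rc_30_1 lc_f_Cert_tree lc_f_rc_43_0 lc_f_rc_6_1 lc_f_rc_6_1 lc_f_Cert_tree lc_f_rc_30_1 lc_f_Cert_tree lc_f_rc_23_1 lc_f_rc_42_2 lc_f_rc_30_1 lc_f_Cert_tree lc_f_rc_43_0 lc_f_rc_6_3 lc_f_rc_44_2 lc_f_rc_30_1 lc_f_rc_44_2 lc_f_rc_6_1 lc_f_rc_42_2 lc_f_rc_30_1 lc_f_Cert_tree lc_f_rc_43_0 lc_f_rc_23_1 lc_f_rc_46_0 lc_f_rc_45_2 lc_f_rc_42_2 lc_f_rc_44_2)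
def ce_f_3 : D2 → D3 → (Cert rels S Gen.f) := @D2.rec (fun _ => D3 → (Cert rels S Gen.f)) (@D3.rec (fun _ => (Cert rels S Gen.f)) lc_f_Cert_tree lc_f_rc_43_0 lc_f_rc_43_1 lc_f_rc_36_3 lc_f_rc_42_2 lc_f_rc_46_2 lc_f_rc_30_1 lc_f_Cert_tree lc_f_rc_43_0 lc_f_rc_30_3 lc_f_rc_43_0 lc_f_rc_44_2 lc_f_rc_23_1 lc_f_rc_43_0 lc_f_rc_44_2 lc_f_rc_43_0 lc_f_rc_44_2 lc_f_rc_45_2 lc_f_rc_23_1 lc_f_rc_30_1 lc_f_rc_44_2 lc_f_rc_36_3 lc_f_rc_36_3 lc_f_rc_30_1 lc_f_rc_23_1 lc_f_rc_42_2 lc_f_rc_15_1 lc_f_rc_42_2 lc_f_rc_42_2 lc_f_rc_36_3 lc_f_rc_30_1 lc_f_rc_43_0 lc_f_rc_42_2 lc_f_rc_6_1 lc_f_rc_30_1 lc_f_rc_23_1 lc_f_rc_23_1 lc_f_rc_15_1 lc_f_rc_15_1 lc_f_rc_43_0 lc_f_rc_36_1 lc_f_rc_30_1 lc_f_rc_36_1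 lc_f_rc_6_1 lc_f_rc_36_1 lc_f_rc_30_1 lc_f_rc_6_3 lc_f_rc_43_0 lc_f_rc_6_1 lc_f_rc_36_3 lc_f_rc_44_2) (@D3.rec (fun _ => (Cert rels S Gen.f)) lc_f_rc_44_2 lc_f_rc_6_1 lc_f_rc_6_1 lc_f_rc_6_1 lc_f_rc_6_1 lc_f_rc_6_1 lc_f_rc_6_1 lc_f_rc_6_1 lc_f_rc_15_1 lc_f_rc_45_2 lc_f_rc_6_1 lc_f_rc_23_3 lc_f_rc_46_2 lc_f_rc_43_0 lc_f_rc_36_1 lc_f_rc_6_3 lc_f_rc_43_0 lc_f_rc_15_3 lc_f_rc_15_1 lc_f_rc_15_1 lc_f_rc_30_1 lc_f_Cert_tree lc_f_rc_23_1 lc_f_rc_6_1 lc_f_rc_6_1 lc_f_rc_43_0 lc_f_rc_30_1 lc_f_rc_45_2 lc_f_rc_30_1 lc_f_rc_6_1 lc_f_rc_23_1 lc_f_rc_43_0 lc_f_rc_6_3 lc_f_rc_43_1 lc_f_rc_42_2 lc_f_rc_44_2 lc_f_rc_42_2 lc_f_rc_6_1 lc_f_rc_15_1 lc_f_rc_6_3 lc_f_rc_15_1 lc_f_Cert_tree lc_f_rc_15_1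 lc_f_rc_56_54 lc_f_rc_43_0 lc_f_rc_15_3 lc_f_rc_45_2 lc_f_rc_23_3 lc_f_rc_6_1 lc_f_rc_6_1 lc_f_rc_43_0) (@D3.rec (fun _ => (Cert rels S Gen.f)) lc_f_rc_23_1 lc_f_rc_36_3 lc_f_rc_42_2 lc_f_rc_30_1 lc_f_rc_23_1 lc_f_Cert_tree lc_f_rc_15_1 lc_f_Cert_tree lc_f_rc_43_0 lc_f_rc_42_2 lc_f_Cert_tree lc_f_rc_15_1 lc_f_Cert_tree lc_f_rc_43_0 lc_f_rc_6_1 lc_f_Cert_tree lc_f_Cert_tree lc_f_rc_43_0 lc_f_rc_36_3 lc_f_rc_6_1 lc_f_Cert_tree lc_f_Cert_tree lc_f_rc_43_0 lc_f_rc_42_2 lc_f_Cert_tree lc_f_Cert_tree lc_f_rc_43_0 lc_f_rc_43_0 lc_f_rc_43_1 lc_f_rc_23_1 lc_f_rc_45_2 lc_f_Cert_tree lc_f_rc_43_0 lc_f_Cert_tree lc_f_rc_43_0 lc_f_rc_43_1 lc_f_rc_15_1 lc_f_rc_36_3 lc_f_rc_30_1 lc_f_rc_42_2 lc_f_rc_46_2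 lc_f_rc_23_1 lc_f_rc_23_1 lc_f_Cert_tree lc_f_rc_15_1 lc_f_Cert_tree lc_f_rc_43_0 lc_f_rc_15_1 lc_f_Cert_tree lc_f_rc_43_0 lc_f_rc_6_1) (@D3.rec (fun _ => (Cert rels S Gen.f)) lc_f_Cert_tree lc_f_Cert_tree lc_f_rc_43_0 lc_f_rc_44_2 lc_f_Cert_tree lc_f_Cert_tree lc_f_rc_43_0 lc_f_rc_44_2 lc_f_Cert_tree lc_f_Cert_tree lc_f_rc_43_0 lc_f_rc_43_0 lc_f_rc_43_1 lc_f_rc_23_1 lc_f_rc_45_2 lc_f_Cert_tree lc_f_Cert_tree lc_f_rc_43_0 lc_f_rc_44_2 lc_f_Cert_tree lc_f_Cert_tree lc_f_rc_43_0 lc_f_rc_43_0 lc_f_rc_43_1 lc_f_rc_23_1 lc_f_rc_45_2 lc_f_Cert_tree lc_f_rc_43_0 lc_f_rc_43_0 lc_f_rc_43_1 lc_f_rc_23_1 lc_f_rc_45_2 lc_f_Cert_tree lc_f_rc_43_0 lc_f_Cert_tree lc_f_rc_43_0 lc_f_rc_43_1 lc_f_rc_15_1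 lc_f_rc_36_3 lc_f_rc_30_1 lc_f_rc_42_2 lc_f_rc_46_2 lc_f_rc_23_1 lc_f_Cert_tree lc_f_rc_43_0 lc_f_rc_43_1 lc_f_rc_15_1 lc_f_rc_36_3 lc_f_rc_30_1 lc_f_rc_42_2 lc_f_rc_46_2) (@D3.rec (fun _ => (Cert rels S Gen.f)) lc_f_rc_23_1 lc_f_Cert_tree lc_f_rc_43_0 lc_f_rc_43_1 lc_f_rc_6_1 lc_f_rc_43_0 lc_f_rc_43_1 lc_f_rc_15_1 lc_f_rc_15_1 lc_f_rc_42_2 lc_f_rc_46_2 lc_f_rc_15_1 lc_f_Cert_tree lc_f_rc_36_3 lc_f_rc_30_1 lc_f_rc_42_2 lc_f_rc_46_2 lc_f_rc_6_1 lc_f_Cert_tree lc_f_Cert_tree lc_f_rc_43_0 lc_f_rc_42_2 lc_f_Cert_tree lc_f_Cert_tree lc_f_rc_43_0 lc_f_rc_43_0 lc_f_rc_43_1 lc_f_rc_23_1 lc_f_rc_45_2 lc_f_Cert_tree lc_f_rc_43_0 lc_f_Cert_tree lc_f_rc_43_0 lc_f_rc_43_1 lc_f_rc_44_2 lc_f_rc_36_3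 lc_f_rc_30_1 lc_f_rc_42_2 lc_f_rc_46_2 lc_f_rc_23_1 lc_f_Cert_tree lc_f_Cert_tree lc_f_rc_43_0 lc_f_rc_43_0 lc_f_rc_43_1 lc_f_rc_23_1 lc_f_rc_45_2 lc_f_Cert_tree lc_f_rc_43_0 lc_f_Cert_tree lc_f_rc_43_0) (@D3.rec (fun _ => (Cert rels S Gen.f)) lc_f_rc_43_1 lc_f_rc_15_1 lc_f_rc_36_3 lc_f_rc_30_1 lc_f_rc_42_2 lc_f_rc_46_2 lc_f_rc_23_1 lc_f_Cert_tree lc_f_rc_43_0 lc_f_rc_43_1 lc_f_rc_6_1 lc_f_rc_43_0 lc_f_rc_43_1 lc_f_rc_15_1 lc_f_rc_15_1 lc_f_rc_42_2 lc_f_rc_46_2 lc_f_rc_15_1 lc_f_Cert_tree lc_f_rc_36_3 lc_f_rc_30_1 lc_f_rc_42_2 lc_f_rc_46_2 lc_f_Cert_tree lc_f_rc_43_0 lc_f_Cert_tree lc_f_rc_43_0 lc_f_rc_43_1 lc_f_rc_15_1 lc_f_rc_36_3 lc_f_rc_30_1 lc_f_rc_42_2 lc_f_rc_46_2 lc_f_rc_23_1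 lc_f_Cert_tree lc_f_rc_43_0 lc_f_rc_43_1 lc_f_rc_6_1 lc_f_rc_43_0 lc_f_rc_43_1 lc_f_rc_15_1 lc_f_rc_15_1 lc_f_rc_42_2 lc_f_rc_46_2 lc_f_rc_15_1 lc_f_Cert_tree lc_f_rc_36_3 lc_f_rc_30_1 lc_f_rc_42_2 lc_f_rc_46_2 lc_f_Cert_tree) (@D3.rec (fun _ => (Cert rels S Gen.f)) lc_f_rc_43_0 lc_f_rc_43_1 lc_f_rc_6_1 lc_f_rc_6_1 lc_f_rc_42_2 lc_f_rc_46_2 lc_f_rc_6_1 lc_f_rc_23_1 lc_f_rc_23_1 lc_f_rc_42_2 lc_f_rc_30_1 lc_f_rc_46_2 lc_f_Cert_tree lc_f_rc_15_1 lc_f_rc_15_1 lc_f_rc_15_1 lc_f_rc_46_2 lc_f_rc_43_0 lc_f_rc_45_2 lc_f_rc_43_1 lc_f_rc_30_1 lc_f_rc_46_2 lc_f_rc_42_2 lc_f_rc_46_2 lc_f_rc_15_1 lc_f_rc_36_3 lc_f_rc_23_1 lc_f_rc_23_1 lc_f_rc_6_1 lc_f_rc_36_3 lc_f_rc_44_2 lc_f_rc_42_2 lc_f_Cert_tree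 lc_f_rc_36_3 lc_f_rc_45_2 lc_f_rc_44_2 lc_f_rc_6_1 lc_f_rc_6_1 lc_f_rc_6_1 lc_f_rc_23_1 lc_f_rc_23_1 lc_f_Cert_tree lc_f_rc_15_1 lc_f_rc_15_1 lc_f_rc_42_2 lc_f_rc_43_0 lc_f_rc_45_2 lc_f_rc_43_1 lc_f_rc_30_1 lc_f_rc_46_2 lc_f_rc_42_2) (@D3.rec (fun _ => (Cert rels S Gen.f)) lc_f_rc_44_2 lc_f_rc_6_1 lc_f_rc_6_1 lc_f_Cert_tree lc_f_rc_6_1 lc_f_rc_6_1 lc_f_rc_6_1 lc_f_rc_30_1 lc_f_Cert_tree lc_f_rc_23_1 lc_f_rc_23_1 lc_f_rc_42_2 lc_f_rc_43_0 lc_f_rc_45_2 lc_f_rc_43_1 lc_f_rc_30_1 lc_f_rc_15_1 lc_f_rc_42_2 lc_f_rc_44_2 lc_f_rc_45_2 lc_f_rc_42_2 lc_f_rc_45_2 lc_f_rc_30_1 lc_f_rc_46_2 lc_f_rc_23_1 lc_f_rc_30_1 lc_f_rc_45_2 lc_f_rc_42_2 lc_f_rc_30_1 lc_f_rc_42_2 lc_f_Cert_tree lc_f_rc_15_1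 lc_f_Cert_tree lc_f_rc_43_0 lc_f_rc_6_1 lc_f_Cert_tree lc_f_Cert_tree lc_f_rc_43_0 lc_f_rc_44_2 lc_f_rc_23_1 lc_f_Cert_tree lc_f_Cert_tree lc_f_rc_43_0 lc_f_Cert_tree lc_f_Cert_tree lc_f_rc_43_0 lc_f_rc_44_2 lc_f_Cert_tree lc_f_Cert_tree lc_f_rc_43_0 lc_f_rc_43_0) (@D3.rec (fun _ => (Cert rels S Gen.f)) lc_f_rc_43_1 lc_f_rc_23_1 lc_f_rc_46_0 lc_f_Cert_tree lc_f_rc_43_0 lc_f_Cert_tree lc_f_rc_43_0 lc_f_rc_36_3 lc_f_Cert_tree lc_f_rc_43_0 lc_f_rc_43_0 lc_f_rc_43_1 lc_f_rc_23_1 lc_f_rc_45_2 lc_f_Cert_tree lc_f_rc_43_0 lc_f_Cert_tree lc_f_rc_43_0 lc_f_rc_43_1 lc_f_rc_15_1 lc_f_rc_30_1 lc_f_rc_30_1 lc_f_rc_42_2 lc_f_rc_46_2 lc_f_rc_23_1 lc_f_Cert_tree lc_f_rc_43_0 lc_f_rc_42_2 lc_f_Cert_tree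 lc_f_rc_43_0 lc_f_rc_43_0 lc_f_rc_43_1 lc_f_rc_23_1 lc_f_rc_45_2 lc_f_Cert_tree lc_f_rc_43_0 lc_f_Cert_tree lc_f_rc_43_0 lc_f_rc_43_1 lc_f_rc_15_1 lc_f_rc_36_3 lc_f_rc_30_1 lc_f_rc_42_2 lc_f_rc_46_2 lc_f_rc_23_1 lc_f_rc_43_0 lc_f_rc_43_1 lc_f_rc_23_1 lc_f_rc_45_2 lc_f_Cert_tree lc_f_rc_43_0) (@D3.rec (fun _ => (Cert rels S Gen.f)) lc_f_rc_43_1 lc_f_rc_15_1 lc_f_rc_36_3 lc_f_rc_30_1 lc_f_rc_42_2 lc_f_rc_46_2 lc_f_rc_23_1 lc_f_Cert_tree lc_f_rc_43_0 lc_f_rc_43_1 lc_f_rc_6_1 lc_f_rc_43_0 lc_f_rc_43_1 lc_f_rc_15_1 lc_f_rc_15_1 lc_f_rc_42_2 lc_f_rc_46_2 lc_f_rc_15_1 lc_f_Cert_tree lc_f_rc_36_3 lc_f_rc_30_1 lc_f_rc_42_2 lc_f_rc_46_2 lc_f_rc_36_3 lc_f_rc_30_1 lc_f_rc_42_2 lc_f_rc_46_2 lc_f_rc_23_1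 lc_f_rc_43_0 lc_f_rc_43_1 lc_f_rc_15_1 lc_f_rc_15_1 lc_f_rc_42_2 lc_f_rc_46_2 lc_f_rc_15_1 lc_f_Cert_tree lc_f_rc_36_3 lc_f_rc_30_1 lc_f_rc_42_2 lc_f_rc_46_2 lc_f_Cert_tree lc_f_rc_43_0 lc_f_rc_43_1 lc_f_rc_6_1 lc_f_rc_6_1 lc_f_rc_42_2 lc_f_rc_46_2 lc_f_rc_6_1 lc_f_rc_23_1 lc_f_rc_23_1 lc_f_rc_42_2) (@D3.rec (fun _ => (Cert rels S Gen.f)) lc_f_rc_30_1 lc_f_rc_46_2 lc_f_Cert_tree lc_f_rc_15_1 lc_f_rc_15_1 lc_f_rc_15_1 lc_f_rc_46_2 lc_f_rc_43_0 lc_f_rc_45_2 lc_f_rc_43_1 lc_f_rc_30_1 lc_f_rc_46_2 lc_f_rc_42_2 lc_f_rc_46_2 lc_f_Cert_tree lc_f_rc_43_0 lc_f_Cert_tree lc_f_rc_43_0 lc_f_rc_43_1 lc_f_rc_44_2 lc_f_rc_36_3 lc_f_rc_30_1 lc_f_rc_42_2 lc_f_rc_46_2 lc_f_rc_23_1 lc_f_Cert_tree lc_f_rc_43_0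 lc_f_rc_43_1 lc_f_rc_6_1 lc_f_rc_43_0 lc_f_rc_43_1 lc_f_rc_15_1 lc_f_rc_44_2 lc_f_rc_42_2 lc_f_rc_46_2 lc_f_rc_42_2 lc_f_Cert_tree lc_f_rc_36_3 lc_f_rc_30_1 lc_f_rc_42_2 lc_f_rc_46_2 lc_f_Cert_tree lc_f_rc_43_0 lc_f_rc_43_1 lc_f_rc_6_1 lc_f_rc_43_0 lc_f_rc_43_1 lc_f_rc_15_1 lc_f_rc_15_1 lc_f_rc_42_2 lc_f_rc_46_2) (@D3.rec (fun _ => (Cert rels S Gen.f)) lc_f_rc_15_1 lc_f_Cert_tree lc_f_rc_36_3 lc_f_rc_30_1 lc_f_rc_42_2 lc_f_rc_46_2 lc_f_Cert_tree lc_f_rc_43_0 lc_f_rc_43_1 lc_f_rc_6_1 lc_f_rc_6_1 lc_f_rc_42_2 lc_f_rc_46_2 lc_f_rc_6_1 lc_f_rc_23_1 lc_f_rc_23_1 lc_f_rc_42_2 lc_f_rc_30_1 lc_f_rc_46_2 lc_f_Cert_tree lc_f_rc_15_1 lc_f_rc_15_1 lc_f_rc_15_1 lc_f_rc_46_2 lc_f_rc_43_0 lc_f_rc_45_2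 lc_f_rc_43_1 lc_f_rc_30_1 lc_f_rc_46_2 lc_f_rc_42_2 lc_f_rc_46_2 lc_f_Cert_tree lc_f_rc_43_0 lc_f_rc_43_1 lc_f_rc_6_1 lc_f_rc_6_1 lc_f_rc_42_2 lc_f_rc_46_2 lc_f_rc_6_1 lc_f_rc_23_1 lc_f_rc_23_1 lc_f_rc_42_2 lc_f_rc_30_1 lc_f_rc_46_2 lc_f_Cert_tree lc_f_rc_15_1 lc_f_rc_15_1 lc_f_rc_15_1 lc_f_rc_46_2 lc_f_rc_43_0 lc_f_rc_45_2) (@D3.rec (fun _ => (Cert rels S Gen.f)) lc_f_rc_43_1 lc_f_rc_30_1 lc_f_rc_46_2 lc_f_rc_42_2 lc_f_rc_46_2 lc_f_rc_43_0 lc_f_rc_6_1 lc_f_rc_6_1 lc_f_rc_42_2 lc_f_rc_46_2 lc_f_Cert_tree lc_f_rc_6_1 lc_f_rc_6_1 lc_f_rc_6_1 lc_f_rc_46_2 lc_f_rc_30_1 lc_f_Cert_tree lc_f_rc_23_1 lc_f_rc_23_1 lc_f_rc_23_1 lc_f_rc_30_1 lc_f_rc_46_2 lc_f_Cert_tree lc_f_rc_46_2 lc_f_rc_43_0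 lc_f_rc_45_2 lc_f_rc_43_1 lc_f_rc_30_1 lc_f_rc_15_1 lc_f_rc_15_1 lc_f_rc_15_1 lc_f_rc_45_2 lc_f_rc_42_2 lc_f_rc_45_2 lc_f_rc_30_1 lc_f_rc_46_2 lc_f_rc_23_1 lc_f_rc_30_1 lc_f_rc_46_2 lc_f_Cert_tree lc_f_rc_6_1 lc_f_rc_30_1 lc_f_Cert_tree lc_f_rc_23_1 lc_f_rc_43_0 lc_f_rc_45_2 lc_f_rc_43_1 lc_f_rc_30_1 lc_f_rc_42_2 lc_f_rc_45_2 lc_f_rc_42_2) (@D3.rec (fun _ => (Cert rels S Gen.f)) lc_f_rc_45_2 lc_f_rc_30_1 lc_f_rc_46_2 lc_f_rc_23_1 lc_f_rc_30_1 lc_f_rc_42_2 lc_f_rc_6_1 lc_f_Cert_tree lc_f_rc_6_1 lc_f_rc_43_0 lc_f_rc_45_2 lc_f_rc_43_1 lc_f_rc_6_1 lc_f_rc_6_1 lc_f_Cert_tree lc_f_rc_42_2 lc_f_rc_43_0 lc_f_rc_45_2 lc_f_rc_43_1 lc_f_rc_30_1 lc_f_rc_42_2 lc_f_rc_45_2 lc_f_rc_42_2 lc_f_rc_45_2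 lc_f_rc_30_1 lc_f_rc_46_2 lc_f_rc_23_1 lc_f_rc_30_1 lc_f_rc_30_1 lc_f_rc_44_2 lc_f_rc_45_2 lc_f_rc_30_1 lc_f_rc_46_2 lc_f_rc_45_2 lc_f_rc_46_2 lc_f_rc_23_1 lc_f_rc_46_2 lc_f_rc_15_1 lc_f_rc_23_1 lc_f_rc_42_2 lc_f_rc_43_0 lc_f_rc_43_1 lc_f_rc_6_1 lc_f_rc_6_1 lc_f_rc_42_2 lc_f_rc_46_2 lc_f_rc_6_1 lc_f_rc_23_1 lc_f_rc_23_1 lc_f_rc_42_2 lc_f_rc_30_1) (@D3.rec (fun _ => (Cert rels S Gen.f)) lc_f_rc_46_2 lc_f_Cert_tree lc_f_rc_15_1 lc_f_rc_15_1 lc_f_rc_42_2 lc_f_rc_46_2 lc_f_rc_43_0 lc_f_rc_45_2 lc_f_rc_43_1 lc_f_rc_30_1 lc_f_rc_46_2 lc_f_rc_42_2 lc_f_rc_44_2 lc_f_rc_6_1 lc_f_rc_6_1 lc_f_rc_42_2 lc_f_rc_46_2 lc_f_Cert_tree lc_f_rc_6_1 lc_f_rc_6_1 lc_f_rc_6_1 lc_f_rc_46_2 lc_f_rc_30_1 lc_f_Cert_tree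 lc_f_rc_23_1 lc_f_rc_23_1 lc_f_rc_23_1 lc_f_rc_30_1 lc_f_rc_46_2 lc_f_Cert_tree lc_f_rc_46_2 lc_f_rc_43_0 lc_f_rc_45_2 lc_f_rc_43_1 lc_f_rc_30_1 lc_f_rc_15_1 lc_f_rc_15_1 lc_f_rc_15_1 lc_f_rc_45_2 lc_f_rc_42_2 lc_f_rc_45_2 lc_f_rc_30_1 lc_f_rc_46_2 lc_f_rc_23_1 lc_f_rc_30_1 lc_f_rc_46_2 lc_f_Cert_tree lc_f_rc_6_1 lc_f_rc_6_1 lc_f_rc_6_1 lc_f_rc_46_2) (@D3.rec (fun _ => (Cert rels S Gen.f)) lc_f_rc_43_0 lc_f_rc_45_2 lc_f_rc_43_1 lc_f_rc_6_1 lc_f_rc_6_1 lc_f_rc_6_1 lc_f_rc_6_1 lc_f_rc_43_0 lc_f_rc_45_2 lc_f_rc_43_1 lc_f_rc_30_1 lc_f_rc_23_1 lc_f_rc_23_1 lc_f_rc_30_1 lc_f_rc_23_1 lc_f_Cert_tree lc_f_rc_46_2 lc_f_rc_43_0 lc_f_rc_46_2 lc_f_rc_45_2 lc_f_rc_42_2 lc_f_rc_45_2 lc_f_rc_30_1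 lc_f_rc_46_2 lc_f_rc_23_1 lc_f_rc_30_1 lc_f_rc_15_1 lc_f_rc_44_2 lc_f_rc_45_2 lc_f_rc_30_1 lc_f_rc_46_2 lc_f_rc_45_2 lc_f_rc_46_2 lc_f_rc_23_1 lc_f_rc_46_2 lc_f_rc_15_1 lc_f_rc_23_1 lc_f_rc_42_2 lc_f_rc_45_2 lc_f_rc_42_2 lc_f_rc_45_2 lc_f_rc_30_1 lc_f_rc_46_2 lc_f_rc_23_1 lc_f_rc_6_1 lc_f_rc_6_1 lc_f_rc_15_1 lc_f_rc_45_2 lc_f_rc_30_1 lc_f_rc_46_2 lc_f_rc_45_2) (@D3.rec (fun _ => (Cert rels S Gen.f)) lc_f_rc_30_3 lc_f_rc_23_1 lc_f_rc_46_2 lc_f_rc_15_1 lc_f_rc_23_1 lc_f_rc_42_2 lc_f_rc_45_2 lc_f_rc_23_1 lc_f_rc_36_3 lc_f_rc_46_2 lc_f_rc_23_3 lc_f_rc_42_2 lc_f_rc_6_1 lc_f_rc_15_1 lc_f_rc_23_1 lc_f_rc_30_3 lc_f_rc_6_1 lc_f_rc_36_3 lc_f_rc_42_2 lc_f_rc_46_2 lc_f_rc_30_1 lc_f_Cert_tree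 lc_f_rc_43_0 lc_f_Cert_tree lc_f_rc_30_3 lc_f_rc_43_0 lc_f_rc_44_2 lc_f_rc_30_1 lc_f_rc_6_1 lc_f_rc_43_0 lc_f_rc_43_0 lc_f_rc_44_2 lc_f_Cert_tree lc_f_rc_43_0 lc_f_rc_43_0 lc_f_rc_44_2 lc_f_rc_45_2 lc_f_rc_44_2 lc_f_rc_43_0 lc_f_Cert_tree lc_f_rc_43_0 lc_f_rc_23_3 lc_f_rc_44_2 lc_f_rc_44_2 lc_f_rc_36_3 lc_f_Cert_tree lc_f_rc_43_0 lc_f_rc_15_1 lc_f_rc_36_3 lc_f_rc_30_1 lc_f_rc_23_1) (@D3.rec (fun _ => (Cert rels S Gen.f)) lc_f_Cert_tree lc_f_rc_43_0 lc_f_rc_43_1 lc_f_rc_6_1 lc_f_rc_43_0 lc_f_rc_43_1 lc_f_rc_15_1 lc_f_rc_15_1 lc_f_rc_42_2 lc_f_rc_15_1 lc_f_rc_42_2 lc_f_Cert_tree lc_f_rc_43_0 lc_f_rc_15_1 lc_f_rc_36_3 lc_f_rc_30_1 lc_f_rc_23_1 lc_f_Cert_tree lc_f_rc_43_0 lc_f_rc_43_1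 lc_f_rc_6_1 lc_f_rc_43_0 lc_f_rc_43_1 lc_f_rc_15_1 lc_f_rc_15_1 lc_f_rc_42_2 lc_f_rc_46_2 lc_f_rc_15_1 lc_f_rc_46_2 lc_f_rc_43_0 lc_f_rc_15_1 lc_f_rc_15_1 lc_f_rc_15_1 lc_f_rc_45_2 lc_f_rc_30_1 lc_f_Cert_tree lc_f_rc_43_0 lc_f_rc_43_1 lc_f_rc_6_1 lc_f_rc_6_1 lc_f_rc_42_2 lc_f_rc_6_1 lc_f_rc_23_1 lc_f_rc_23_1 lc_f_rc_42_2 lc_f_rc_30_1 lc_f_rc_46_0 lc_f_rc_15_1 lc_f_rc_15_1 lc_f_rc_15_1 lc_f_rc_46_2) (@D3.rec (fun _ => (Cert rels S Gen.f)) lc_f_rc_46_2 lc_f_rc_46_2 lc_f_rc_23_1 lc_f_rc_23_1 lc_f_Cert_tree lc_f_rc_15_1 lc_f_rc_43_0 lc_f_rc_15_3 lc_f_rc_43_0 lc_f_rc_6_1 lc_f_rc_6_1 lc_f_rc_42_2 lc_f_rc_36_3 lc_f_rc_6_1 lc_f_rc_45_2 lc_f_rc_6_1 lc_f_rc_30_1 lc_f_Cert_tree lc_f_rc_23_1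 lc_f_rc_23_1 lc_f_rc_23_1 lc_f_rc_30_1 lc_f_Cert_tree lc_f_rc_43_0 lc_f_rc_46_0 lc_f_rc_6_3 lc_f_rc_30_1 lc_f_rc_15_1 lc_f_rc_46_0 lc_f_rc_15_1 lc_f_rc_15_3 lc_f_rc_30_1 lc_f_rc_46_2 lc_f_Cert_tree lc_f_rc_43_0 lc_f_rc_6_1 lc_f_rc_43_0 lc_f_rc_43_1 lc_f_rc_36_3 lc_f_rc_44_2 lc_f_rc_42_2 lc_f_rc_44_2 lc_f_rc_36_3 lc_f_rc_42_2 lc_f_rc_46_2 lc_f_rc_43_0 lc_f_rc_6_1 lc_f_rc_6_1 lc_f_rc_6_1 lc_f_rc_23_1 lc_f_rc_44_2) (@D3.rec (fun _ => (Cert rels S Gen.f)) lc_f_rc_42_2 lc_f_rc_30_1 lc_f_rc_43_0 lc_f_rc_6_1 lc_f_rc_6_1 lc_f_rc_6_1 lc_f_rc_23_1 lc_f_rc_23_1 lc_f_rc_42_2 lc_f_rc_45_2 lc_f_rc_36_3 lc_f_rc_15_1 lc_f_rc_15_1 lc_f_rc_46_2 lc_f_rc_30_1 lc_f_rc_46_2 lc_f_rc_42_2 lc_f_rc_46_2 lc_f_rc_23_1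 lc_f_rc_6_1 lc_f_rc_45_2 lc_f_rc_6_1 lc_f_rc_30_1 lc_f_rc_46_0 lc_f_rc_23_1 lc_f_rc_23_1 lc_f_rc_23_1 lc_f_rc_30_1 lc_f_Cert_tree lc_f_rc_23_1 lc_f_rc_6_1 lc_f_Cert_tree lc_f_rc_6_1 lc_f_rc_30_1 lc_f_Cert_tree lc_f_rc_23_1 lc_f_rc_23_1 lc_f_rc_23_1 lc_f_rc_43_0 lc_f_rc_6_3 lc_f_rc_46_2 lc_f_rc_30_1 lc_f_rc_45_2 lc_f_rc_42_2 lc_f_rc_23_3 lc_f_rc_36_1 lc_f_rc_15_3 lc_f_rc_30_1 lc_f_rc_45_2 lc_f_rc_30_1 lc_f_Cert_tree) (@D3.rec (fun _ => (Cert rels S Gen.f)) lc_f_rc_6_1 lc_f_rc_43_0 lc_f_rc_36_1 lc_f_Cert_tree lc_f_rc_36_5 lc_f_rc_43_0 lc_f_rc_23_1 lc_f_rc_23_1 lc_f_rc_30_1 lc_f_rc_46_0 lc_f_rc_30_1 lc_f_Cert_tree lc_f_rc_43_0 lc_f_rc_30_1 lc_f_Cert_tree lc_f_rc_6_1 lc_f_rc_43_0 lc_f_rc_30_1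 lc_f_rc_43_1 lc_f_rc_30_1 lc_f_rc_6_1 lc_f_Cert_tree lc_f_rc_36_5 lc_f_rc_43_0 lc_f_rc_45_2 lc_f_rc_43_1 lc_f_rc_30_1 lc_f_rc_42_2 lc_f_rc_45_2 lc_f_rc_42_2 lc_f_rc_6_3 lc_f_rc_42_2 lc_f_rc_23_1 lc_f_rc_45_2 lc_f_rc_30_1 lc_f_rc_45_2 lc_f_rc_23_1 lc_f_rc_15_1 lc_f_rc_15_1 lc_f_Cert_tree lc_f_rc_15_1 lc_f_Cert_tree lc_f_rc_36_5 lc_f_rc_43_0 lc_f_rc_45_2 lc_f_rc_45_2 lc_f_rc_43_0 lc_f_rc_45_2 lc_f_rc_43_1 lc_f_rc_46_2 lc_f_rc_45_2) (@D3.rec (fun _ => (Cert rels S Gen.f)) lc_f_rc_6_1 lc_f_rc_6_1 lc_f_rc_23_3 lc_f_rc_6_1 lc_f_rc_30_1 lc_f_rc_6_3 lc_f_rc_23_1 lc_f_rc_23_1 lc_f_rc_42_2 lc_f_rc_30_1 lc_f_Cert_tree lc_f_rc_6_1 lc_f_rc_6_1 lc_f_rc_6_1 lc_f_rc_6_1 lc_f_rc_30_1 lc_f_rc_42_2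 lc_f_rc_23_1 lc_f_rc_23_1 lc_f_rc_30_1 lc_f_rc_23_1 lc_f_rc_30_1 lc_f_Cert_tree lc_f_rc_43_0 lc_f_rc_23_1 lc_f_rc_42_2 lc_f_rc_30_1 lc_f_Cert_tree lc_f_rc_43_0 lc_f_rc_44_2 lc_f_rc_6_1 lc_f_Cert_tree lc_f_rc_43_0 lc_f_Cert_tree lc_f_rc_42_2 lc_f_rc_43_0 lc_f_rc_6_3 lc_f_rc_30_1 lc_f_rc_44_2 lc_f_Cert_tree lc_f_rc_43_0 lc_f_rc_46_0 lc_f_rc_23_1 lc_f_rc_6_1 lc_f_rc_42_2 lc_f_rc_46_2 lc_f_rc_23_1 lc_f_Cert_tree lc_f_rc_43_0 lc_f_rc_44_2 lc_f_rc_23_1) (@D3.rec (fun _ => (Cert rels S Gen.f)) lc_f_rc_45_2 lc_f_rc_23_1 lc_f_rc_45_2 lc_f_rc_43_0 lc_f_rc_43_1 lc_f_rc_15_1 lc_f_rc_42_2 lc_f_rc_36_3 lc_f_rc_36_3 lc_f_Cert_tree lc_f_rc_43_0 lc_f_rc_44_2 lc_f_rc_30_1 lc_f_rc_44_2 lc_f_rc_42_2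 lc_f_Cert_tree lc_f_rc_45_2 lc_f_rc_45_2 lc_f_rc_15_1 lc_f_Cert_tree lc_f_rc_15_1 lc_f_rc_15_3 lc_f_rc_43_0 lc_f_rc_23_1 lc_f_rc_23_1 lc_f_rc_6_1 lc_f_rc_42_2 lc_f_rc_6_1 lc_f_rc_45_2 lc_f_rc_23_1 lc_f_rc_23_3 lc_f_rc_43_0 lc_f_rc_6_3 lc_f_rc_23_1 lc_f_rc_30_1 lc_f_rc_23_1 lc_f_Cert_tree lc_f_rc_15_1 lc_f_Cert_tree lc_f_rc_43_0 lc_f_rc_6_1 lc_f_Cert_tree lc_f_Cert_tree lc_f_rc_43_0 lc_f_rc_44_2 lc_f_rc_15_1 lc_f_Cert_tree lc_f_rc_43_0 lc_f_rc_6_1 lc_f_Cert_tree lc_f_Cert_tree) (@D3.rec (fun _ => (Cert rels S Gen.f)) lc_f_rc_43_0 lc_f_rc_44_2 lc_f_Cert_tree lc_f_Cert_tree lc_f_rc_43_0 lc_f_rc_43_0 lc_f_rc_43_1 lc_f_rc_36_3 lc_f_rc_36_3 lc_f_Cert_tree lc_f_Cert_tree lc_f_rc_43_0 lc_f_rc_43_0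 lc_f_rc_43_1 lc_f_rc_42_2 lc_f_rc_42_2 lc_f_Cert_tree lc_f_rc_43_0 lc_f_Cert_tree lc_f_rc_43_0 lc_f_rc_43_1 lc_f_rc_15_1 lc_f_rc_36_3 lc_f_rc_30_1 lc_f_rc_42_2 lc_f_rc_46_2 lc_f_rc_23_1 lc_f_Cert_tree lc_f_rc_43_0 lc_f_rc_43_1 lc_f_rc_6_1 lc_f_rc_43_0 lc_f_rc_43_1 lc_f_rc_36_3 lc_f_rc_15_1 lc_f_rc_42_2 lc_f_rc_46_2 lc_f_rc_15_1 lc_f_Cert_tree lc_f_rc_36_3 lc_f_rc_30_1 lc_f_rc_42_2 lc_f_rc_46_2 lc_f_rc_15_1 lc_f_Cert_tree lc_f_rc_43_0 lc_f_rc_6_1 lc_f_Cert_tree lc_f_Cert_tree lc_f_rc_43_0 lc_f_rc_44_2) (@D3.rec (fun _ => (Cert rels S Gen.f)) lc_f_Cert_tree lc_f_Cert_tree lc_f_rc_43_0 lc_f_rc_44_2 lc_f_Cert_tree lc_f_Cert_tree lc_f_rc_43_0 lc_f_rc_43_0 lc_f_rc_43_1 lc_f_rc_23_1 lc_f_rc_45_2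 lc_f_Cert_tree lc_f_rc_43_0 lc_f_rc_43_0 lc_f_rc_43_1 lc_f_rc_23_1 lc_f_rc_45_2 lc_f_Cert_tree lc_f_rc_43_0 lc_f_Cert_tree lc_f_rc_43_0 lc_f_rc_43_1 lc_f_rc_15_1 lc_f_rc_30_1 lc_f_rc_30_1 lc_f_rc_42_2 lc_f_rc_46_2 lc_f_rc_23_1 lc_f_Cert_tree lc_f_rc_43_0 lc_f_rc_43_0 lc_f_rc_43_1 lc_f_rc_23_1 lc_f_rc_45_2 lc_f_Cert_tree lc_f_rc_43_0 lc_f_Cert_tree lc_f_rc_43_0 lc_f_rc_43_1 lc_f_rc_15_1 lc_f_rc_36_3 lc_f_rc_30_1 lc_f_rc_42_2 lc_f_rc_46_2 lc_f_rc_23_1 lc_f_Cert_tree lc_f_rc_43_0 lc_f_rc_43_1 lc_f_rc_15_1 lc_f_rc_36_3 lc_f_rc_30_1) (@D3.rec (fun _ => (Cert rels S Gen.f)) lc_f_rc_42_2 lc_f_rc_46_2 lc_f_rc_23_1 lc_f_Cert_tree lc_f_rc_43_0 lc_f_rc_43_1 lc_f_rc_6_1 lc_f_rc_43_0 lc_f_rc_43_1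 lc_f_rc_15_1 lc_f_rc_15_1 lc_f_rc_42_2 lc_f_rc_46_2 lc_f_rc_15_1 lc_f_Cert_tree lc_f_rc_36_3 lc_f_rc_30_1 lc_f_rc_42_2 lc_f_rc_46_2 lc_f_rc_43_0 lc_f_rc_43_1 lc_f_rc_15_1 lc_f_rc_15_1 lc_f_rc_42_2 lc_f_rc_46_2 lc_f_rc_15_1 lc_f_Cert_tree lc_f_rc_36_3 lc_f_rc_30_1 lc_f_rc_42_2 lc_f_rc_46_2 lc_f_Cert_tree lc_f_rc_43_0 lc_f_rc_43_1 lc_f_rc_6_1 lc_f_rc_6_1 lc_f_rc_42_2 lc_f_rc_46_2 lc_f_rc_6_1 lc_f_rc_23_1 lc_f_rc_23_1 lc_f_rc_42_2 lc_f_rc_30_1 lc_f_rc_46_2 lc_f_Cert_tree lc_f_rc_15_1 lc_f_rc_15_1 lc_f_rc_15_1 lc_f_rc_46_2 lc_f_rc_43_0 lc_f_rc_45_2) (@D3.rec (fun _ => (Cert rels S Gen.f)) lc_f_rc_43_1 lc_f_rc_30_1 lc_f_rc_46_2 lc_f_rc_42_2 lc_f_rc_46_2 lc_f_Cert_tree lc_f_Cert_tree lc_f_rc_43_0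 lc_f_rc_43_0 lc_f_rc_43_1 lc_f_rc_42_2 lc_f_rc_42_2 lc_f_Cert_tree lc_f_rc_43_0 lc_f_Cert_tree lc_f_rc_43_0 lc_f_rc_43_1 lc_f_rc_44_2 lc_f_rc_36_3 lc_f_rc_30_1 lc_f_rc_42_2 lc_f_rc_46_2 lc_f_rc_23_1 lc_f_Cert_tree lc_f_rc_43_0 lc_f_rc_43_1 lc_f_rc_6_1 lc_f_rc_43_0 lc_f_rc_43_1 lc_f_rc_15_1 lc_f_rc_44_2 lc_f_rc_42_2 lc_f_rc_46_2 lc_f_rc_44_2 lc_f_Cert_tree lc_f_rc_36_3 lc_f_rc_30_1 lc_f_rc_42_2 lc_f_rc_46_2 lc_f_Cert_tree lc_f_rc_43_0 lc_f_Cert_tree lc_f_rc_43_0 lc_f_rc_43_1 lc_f_rc_15_1 lc_f_rc_36_3 lc_f_rc_30_1 lc_f_rc_42_2 lc_f_rc_46_2 lc_f_rc_23_1 lc_f_Cert_tree)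
def ce_f_4 : D2 → D3 → (Cert rels S Gen.f) := @D2.rec (fun _ => D3 → (Cert rels S Gen.f)) (@D3.rec (fun _ => (Cert rels S Gen.f)) lc_f_rc_43_0 lc_f_rc_43_1 lc_f_rc_6_1 lc_f_rc_43_0 lc_f_rc_43_1 lc_f_rc_15_1 lc_f_rc_15_1 lc_f_rc_42_2 lc_f_rc_46_2 lc_f_rc_15_1 lc_f_Cert_tree lc_f_rc_36_3 lc_f_rc_30_1 lc_f_rc_42_2 lc_f_rc_46_2 lc_f_Cert_tree lc_f_rc_43_0 lc_f_rc_43_1 lc_f_rc_6_1 lc_f_rc_6_1 lc_f_rc_42_2 lc_f_rc_46_2 lc_f_rc_6_1 lc_f_rc_23_1 lc_f_rc_23_1 lc_f_rc_42_2 lc_f_rc_30_1 lc_f_rc_46_2 lc_f_Cert_tree lc_f_rc_15_1 lc_f_rc_15_1 lc_f_rc_15_1 lc_f_rc_46_2 lc_f_rc_43_0 lc_f_rc_45_2 lc_f_rc_43_1 lc_f_rc_30_1 lc_f_rc_46_2 lc_f_rc_42_2 lc_f_rc_46_2 lc_f_Cert_tree lc_f_rc_43_0 lc_f_rc_43_1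 lc_f_rc_6_1 lc_f_rc_43_0 lc_f_rc_43_1 lc_f_rc_36_3 lc_f_rc_15_1 lc_f_rc_42_2 lc_f_rc_46_2 lc_f_rc_15_1) (@D3.rec (fun _ => (Cert rels S Gen.f)) lc_f_Cert_tree lc_f_rc_36_3 lc_f_rc_30_1 lc_f_rc_42_2 lc_f_rc_46_2 lc_f_Cert_tree lc_f_rc_43_0 lc_f_rc_43_1 lc_f_rc_6_1 lc_f_rc_6_1 lc_f_rc_42_2 lc_f_rc_46_2 lc_f_rc_6_1 lc_f_rc_23_1 lc_f_rc_23_1 lc_f_rc_42_2 lc_f_rc_30_1 lc_f_rc_46_2 lc_f_Cert_tree lc_f_rc_15_1 lc_f_rc_15_1 lc_f_rc_15_1 lc_f_rc_46_2 lc_f_rc_43_0 lc_f_rc_45_2 lc_f_rc_43_1 lc_f_rc_30_1 lc_f_rc_46_2 lc_f_rc_42_2 lc_f_rc_46_2 lc_f_rc_43_0 lc_f_rc_43_1 lc_f_rc_6_1 lc_f_rc_6_1 lc_f_rc_42_2 lc_f_rc_30_1 lc_f_rc_46_2 lc_f_Cert_tree lc_f_rc_6_1 lc_f_rc_6_1 lc_f_rc_6_1 lc_f_rc_46_2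 lc_f_rc_30_1 lc_f_Cert_tree lc_f_rc_23_1 lc_f_rc_23_1 lc_f_rc_23_1 lc_f_rc_30_1 lc_f_rc_46_2 lc_f_Cert_tree lc_f_rc_46_2) (@D3.rec (fun _ => (Cert rels S Gen.f)) lc_f_rc_43_0 lc_f_rc_45_2 lc_f_rc_43_1 lc_f_rc_30_1 lc_f_rc_15_1 lc_f_rc_15_1 lc_f_rc_15_1 lc_f_rc_45_2 lc_f_rc_42_2 lc_f_rc_45_2 lc_f_rc_30_1 lc_f_rc_46_2 lc_f_rc_23_1 lc_f_rc_30_1 lc_f_rc_46_2 lc_f_rc_15_1 lc_f_Cert_tree lc_f_rc_23_1 lc_f_rc_6_1 lc_f_Cert_tree lc_f_rc_45_2 lc_f_rc_43_0 lc_f_rc_45_2 lc_f_rc_43_1 lc_f_rc_36_3 lc_f_rc_45_2 lc_f_Cert_tree lc_f_rc_6_1 lc_f_rc_30_1 lc_f_Cert_tree lc_f_rc_23_1 lc_f_rc_43_0 lc_f_rc_45_2 lc_f_rc_43_1 lc_f_rc_30_1 lc_f_rc_42_2 lc_f_rc_45_2 lc_f_rc_42_2 lc_f_rc_45_2 lc_f_rc_30_1 lc_f_rc_46_2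 lc_f_rc_23_1 lc_f_rc_30_1 lc_f_rc_45_2 lc_f_rc_6_1 lc_f_Cert_tree lc_f_rc_6_1 lc_f_rc_43_0 lc_f_rc_45_2 lc_f_rc_43_1 lc_f_rc_6_1) (@D3.rec (fun _ => (Cert rels S Gen.f)) lc_f_rc_6_1 lc_f_Cert_tree lc_f_rc_42_2 lc_f_rc_43_0 lc_f_rc_45_2 lc_f_rc_43_1 lc_f_rc_30_1 lc_f_rc_42_2 lc_f_rc_45_2 lc_f_rc_42_2 lc_f_rc_45_2 lc_f_rc_30_1 lc_f_rc_46_2 lc_f_rc_23_1 lc_f_rc_30_1 lc_f_rc_45_2 lc_f_rc_44_2 lc_f_rc_45_2 lc_f_rc_30_1 lc_f_rc_46_2 lc_f_rc_45_2 lc_f_rc_46_2 lc_f_rc_23_1 lc_f_rc_46_2 lc_f_rc_15_1 lc_f_rc_23_1 lc_f_rc_42_2 lc_f_rc_30_1 lc_f_rc_56_12 lc_f_rc_56_54 lc_f_rc_42_2 lc_f_rc_43_0 lc_f_Cert_tree lc_f_rc_30_3 lc_f_rc_43_0 lc_f_rc_44_2 lc_f_Cert_tree lc_f_Cert_tree lc_f_rc_43_0 lc_f_rc_43_0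 lc_f_rc_43_1 lc_f_rc_23_1 lc_f_rc_30_1 lc_f_rc_43_0 lc_f_rc_44_2 lc_f_rc_43_0 lc_f_rc_15_3 lc_f_Cert_tree lc_f_rc_43_0 lc_f_rc_43_0 lc_f_rc_15_3) (@D3.rec (fun _ => (Cert rels S Gen.f)) lc_f_rc_44_2 lc_f_rc_45_2 lc_f_Cert_tree lc_f_rc_43_0 lc_f_Cert_tree lc_f_rc_43_0 lc_f_rc_43_1 lc_f_rc_46_0 lc_f_rc_30_1 lc_f_rc_30_1 lc_f_rc_42_2 lc_f_rc_46_2 lc_f_rc_23_1 lc_f_rc_45_2 lc_f_rc_43_0 lc_f_rc_44_2 lc_f_rc_43_0 lc_f_rc_45_2 lc_f_rc_36_3 lc_f_rc_36_3 lc_f_Cert_tree lc_f_rc_43_0 lc_f_rc_43_1 lc_f_rc_15_1 lc_f_rc_30_1 lc_f_rc_30_1 lc_f_rc_42_2 lc_f_rc_46_2 lc_f_rc_23_1 lc_f_rc_43_0 lc_f_rc_6_1 lc_f_rc_43_0 lc_f_rc_15_1 lc_f_rc_15_1 lc_f_rc_42_2 lc_f_rc_46_2 lc_f_rc_15_1 lc_f_Cert_tree lc_f_rc_36_3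 lc_f_rc_30_1 lc_f_rc_42_2 lc_f_rc_46_2 lc_f_rc_43_0 lc_f_rc_43_1 lc_f_rc_42_2 lc_f_rc_42_2 lc_f_Cert_tree lc_f_rc_43_0 lc_f_rc_43_1 lc_f_rc_15_1 lc_f_rc_36_3) (@D3.rec (fun _ => (Cert rels S Gen.f)) lc_f_rc_30_1 lc_f_rc_42_2 lc_f_rc_46_2 lc_f_rc_23_1 lc_f_Cert_tree lc_f_rc_43_0 lc_f_rc_43_1 lc_f_rc_6_1 lc_f_rc_43_0 lc_f_rc_43_1 lc_f_rc_15_1 lc_f_rc_15_1 lc_f_rc_42_2 lc_f_rc_46_2 lc_f_rc_15_1 lc_f_Cert_tree lc_f_rc_36_3 lc_f_rc_30_1 lc_f_rc_42_2 lc_f_rc_46_2 lc_f_rc_36_3 lc_f_rc_30_1 lc_f_rc_42_2 lc_f_rc_46_2 lc_f_rc_23_1 lc_f_rc_43_0 lc_f_rc_43_1 lc_f_rc_15_1 lc_f_rc_15_1 lc_f_rc_42_2 lc_f_rc_46_2 lc_f_rc_15_1 lc_f_Cert_tree lc_f_rc_36_3 lc_f_rc_30_1 lc_f_rc_42_2 lc_f_rc_46_2 lc_f_Cert_tree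 lc_f_rc_43_0 lc_f_rc_43_1 lc_f_rc_6_1 lc_f_rc_6_1 lc_f_rc_42_2 lc_f_rc_46_2 lc_f_rc_6_1 lc_f_rc_23_1 lc_f_rc_23_1 lc_f_rc_42_2 lc_f_rc_30_1 lc_f_rc_46_2 lc_f_Cert_tree) (@D3.rec (fun _ => (Cert rels S Gen.f)) lc_f_rc_15_1 lc_f_rc_15_1 lc_f_rc_15_1 lc_f_rc_46_2 lc_f_rc_43_0 lc_f_rc_45_2 lc_f_rc_43_1 lc_f_rc_30_1 lc_f_rc_46_2 lc_f_rc_42_2 lc_f_rc_46_2 lc_f_rc_36_1 lc_f_rc_36_3 lc_f_rc_45_2 lc_f_rc_42_2 lc_f_rc_46_2 lc_f_rc_23_1 lc_f_rc_23_1 lc_f_rc_42_2 lc_f_rc_46_2 lc_f_Cert_tree lc_f_rc_15_1 lc_f_rc_15_1 lc_f_rc_15_1 lc_f_rc_46_2 lc_f_rc_43_0 lc_f_rc_45_2 lc_f_rc_43_1 lc_f_rc_30_1 lc_f_rc_46_2 lc_f_rc_42_2 lc_f_rc_46_2 lc_f_rc_43_0 lc_f_rc_43_1 lc_f_rc_6_1 lc_f_rc_6_1 lc_f_rc_42_2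 lc_f_rc_30_1 lc_f_rc_46_2 lc_f_Cert_tree lc_f_rc_6_1 lc_f_rc_6_1 lc_f_rc_6_1 lc_f_rc_46_2 lc_f_rc_30_1 lc_f_Cert_tree lc_f_rc_23_1 lc_f_rc_23_1 lc_f_rc_23_1 lc_f_rc_30_1 lc_f_rc_46_2) (@D3.rec (fun _ => (Cert rels S Gen.f)) lc_f_Cert_tree lc_f_rc_46_2 lc_f_rc_43_0 lc_f_rc_45_2 lc_f_rc_43_1 lc_f_rc_30_1 lc_f_rc_15_1 lc_f_rc_15_1 lc_f_rc_15_1 lc_f_rc_45_2 lc_f_rc_42_2 lc_f_rc_45_2 lc_f_rc_30_1 lc_f_rc_46_2 lc_f_rc_23_1 lc_f_rc_30_1 lc_f_rc_46_2 lc_f_Cert_tree lc_f_rc_43_0 lc_f_rc_43_1 lc_f_rc_6_1 lc_f_rc_43_0 lc_f_rc_43_1 lc_f_rc_15_1 lc_f_rc_44_2 lc_f_rc_42_2 lc_f_rc_46_2 lc_f_rc_44_2 lc_f_Cert_tree lc_f_rc_36_3 lc_f_rc_30_1 lc_f_rc_42_2 lc_f_rc_46_2 lc_f_Cert_tree lc_f_rc_43_0 lc_f_rc_43_1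 lc_f_rc_6_1 lc_f_rc_6_1 lc_f_rc_42_2 lc_f_rc_46_2 lc_f_rc_6_1 lc_f_rc_23_1 lc_f_rc_44_2 lc_f_rc_42_2 lc_f_rc_30_1 lc_f_rc_46_2 lc_f_Cert_tree lc_f_rc_15_1 lc_f_rc_44_2 lc_f_rc_44_2 lc_f_rc_46_2) (@D3.rec (fun _ => (Cert rels S Gen.f)) lc_f_rc_43_0 lc_f_rc_45_2 lc_f_rc_43_1 lc_f_rc_30_1 lc_f_rc_46_2 lc_f_rc_42_2 lc_f_rc_44_2 lc_f_Cert_tree lc_f_rc_43_0 lc_f_rc_43_1 lc_f_rc_6_1 lc_f_rc_6_1 lc_f_rc_42_2 lc_f_rc_46_2 lc_f_rc_6_1 lc_f_rc_23_1 lc_f_rc_23_1 lc_f_rc_42_2 lc_f_rc_30_1 lc_f_rc_46_2 lc_f_Cert_tree lc_f_rc_15_1 lc_f_rc_15_1 lc_f_rc_15_1 lc_f_rc_46_2 lc_f_rc_43_0 lc_f_rc_45_2 lc_f_rc_43_1 lc_f_rc_30_1 lc_f_rc_46_2 lc_f_rc_42_2 lc_f_rc_46_2 lc_f_rc_43_0 lc_f_rc_6_1 lc_f_rc_6_1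 lc_f_rc_42_2 lc_f_rc_46_2 lc_f_Cert_tree lc_f_rc_6_1 lc_f_rc_6_1 lc_f_rc_6_1 lc_f_rc_46_2 lc_f_rc_30_1 lc_f_Cert_tree lc_f_rc_23_1 lc_f_rc_23_1 lc_f_rc_23_1 lc_f_rc_30_1 lc_f_rc_46_2 lc_f_Cert_tree lc_f_rc_46_2) (@D3.rec (fun _ => (Cert rels S Gen.f)) lc_f_rc_43_0 lc_f_rc_45_2 lc_f_rc_43_1 lc_f_rc_30_1 lc_f_rc_15_1 lc_f_rc_15_1 lc_f_rc_15_1 lc_f_rc_45_2 lc_f_rc_42_2 lc_f_rc_45_2 lc_f_rc_30_1 lc_f_rc_46_2 lc_f_rc_23_1 lc_f_rc_30_1 lc_f_rc_46_2 lc_f_rc_43_0 lc_f_rc_6_1 lc_f_rc_6_1 lc_f_rc_42_2 lc_f_rc_46_2 lc_f_Cert_tree lc_f_rc_6_1 lc_f_rc_6_1 lc_f_rc_6_1 lc_f_rc_46_2 lc_f_rc_30_1 lc_f_Cert_tree lc_f_rc_23_1 lc_f_rc_23_1 lc_f_rc_23_1 lc_f_rc_30_1 lc_f_rc_46_2 lc_f_rc_46_2 lc_f_rc_43_0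 lc_f_rc_45_2 lc_f_rc_43_1 lc_f_rc_30_1 lc_f_rc_15_1 lc_f_rc_15_1 lc_f_rc_15_1 lc_f_rc_45_2 lc_f_rc_42_2 lc_f_rc_45_2 lc_f_rc_30_1 lc_f_rc_46_2 lc_f_rc_23_1 lc_f_rc_30_1 lc_f_rc_46_2 lc_f_rc_15_1 lc_f_rc_15_1 lc_f_rc_6_1) (@D3.rec (fun _ => (Cert rels S Gen.f)) lc_f_Cert_tree lc_f_rc_6_1 lc_f_rc_6_1 lc_f_rc_6_1 lc_f_rc_46_2 lc_f_rc_43_0 lc_f_rc_45_2 lc_f_rc_43_1 lc_f_rc_6_1 lc_f_rc_6_1 lc_f_rc_6_1 lc_f_rc_6_1 lc_f_Cert_tree lc_f_rc_42_2 lc_f_rc_43_0 lc_f_rc_45_2 lc_f_rc_43_1 lc_f_rc_30_1 lc_f_rc_23_1 lc_f_rc_23_1 lc_f_rc_30_1 lc_f_rc_23_1 lc_f_Cert_tree lc_f_rc_46_2 lc_f_rc_43_0 lc_f_rc_46_2 lc_f_rc_45_2 lc_f_rc_42_2 lc_f_rc_45_2 lc_f_rc_30_1 lc_f_rc_46_2 lc_f_rc_23_1 lc_f_rc_30_1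 lc_f_rc_15_1 lc_f_rc_44_2 lc_f_rc_45_2 lc_f_rc_30_1 lc_f_rc_46_2 lc_f_rc_45_2 lc_f_rc_46_2 lc_f_rc_23_1 lc_f_rc_46_2 lc_f_rc_15_1 lc_f_rc_23_1 lc_f_rc_42_2 lc_f_rc_43_0 lc_f_rc_45_2 lc_f_Cert_tree lc_f_rc_42_2 lc_f_rc_43_0 lc_f_rc_45_2) (@D3.rec (fun _ => (Cert rels S Gen.f)) lc_f_rc_45_2 lc_f_rc_42_2 lc_f_rc_45_2 lc_f_rc_30_1 lc_f_rc_23_1 lc_f_rc_44_2 lc_f_rc_45_2 lc_f_rc_30_1 lc_f_rc_46_2 lc_f_rc_45_2 lc_f_rc_46_2 lc_f_rc_23_1 lc_f_rc_46_2 lc_f_rc_15_1 lc_f_rc_23_1 lc_f_rc_42_2 lc_f_Cert_tree lc_f_rc_6_1 lc_f_rc_43_0 lc_f_rc_45_2 lc_f_rc_45_2 lc_f_rc_42_2 lc_f_rc_45_2 lc_f_rc_30_1 lc_f_rc_23_1 lc_f_rc_43_0 lc_f_rc_45_2 lc_f_rc_43_1 lc_f_rc_42_2 lc_f_rc_46_2 lc_f_rc_45_2 lc_f_rc_42_2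 lc_f_rc_45_2 lc_f_rc_30_1 lc_f_rc_23_1 lc_f_rc_44_2 lc_f_rc_45_2 lc_f_rc_30_1 lc_f_rc_46_2 lc_f_rc_45_2 lc_f_rc_46_2 lc_f_rc_23_1 lc_f_rc_46_2 lc_f_rc_15_1 lc_f_rc_23_1 lc_f_rc_42_2 lc_f_rc_44_2 lc_f_rc_45_2 lc_f_rc_46_2 lc_f_rc_23_1 lc_f_rc_36_3) (@D3.rec (fun _ => (Cert rels S Gen.f)) lc_f_rc_46_2 lc_f_rc_23_1 lc_f_rc_46_2 lc_f_rc_15_1 lc_f_rc_56_12 lc_f_rc_42_2 lc_f_rc_6_1 lc_f_rc_15_1 lc_f_rc_23_1 lc_f_rc_6_1 lc_f_rc_6_1 lc_f_rc_42_2 lc_f_rc_46_2 lc_f_rc_23_1 lc_f_rc_6_1 lc_f_rc_6_1 lc_f_rc_6_1 lc_f_rc_46_2 lc_f_rc_30_1 lc_f_rc_30_1 lc_f_rc_23_1 lc_f_rc_23_1 lc_f_rc_42_2 lc_f_rc_30_1 lc_f_rc_46_2 lc_f_Cert_tree lc_f_rc_46_2 lc_f_rc_43_0 lc_f_rc_23_1 lc_f_rc_43_1 lc_f_rc_30_1 lc_f_rc_15_1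 lc_f_rc_42_2 lc_f_rc_44_2 lc_f_rc_45_2 lc_f_rc_42_2 lc_f_rc_45_2 lc_f_rc_30_1 lc_f_rc_46_2 lc_f_rc_23_1 lc_f_rc_30_1 lc_f_rc_44_2 lc_f_rc_6_1 lc_f_rc_45_2 lc_f_rc_6_1 lc_f_rc_6_1 lc_f_rc_6_1 lc_f_rc_46_2 lc_f_rc_43_0 lc_f_rc_44_2 lc_f_rc_43_1) (@D3.rec (fun _ => (Cert rels S Gen.f)) lc_f_rc_6_1 lc_f_rc_6_1 lc_f_rc_6_1 lc_f_rc_6_1 lc_f_rc_45_2 lc_f_rc_36_3 lc_f_rc_43_0 lc_f_rc_44_2 lc_f_rc_43_1 lc_f_rc_30_1 lc_f_rc_23_1 lc_f_rc_23_1 lc_f_rc_30_1 lc_f_rc_23_1 lc_f_Cert_tree lc_f_rc_46_2 lc_f_rc_43_0 lc_f_rc_46_2 lc_f_rc_45_2 lc_f_rc_42_2 lc_f_rc_45_2 lc_f_rc_30_1 lc_f_rc_46_2 lc_f_rc_23_1 lc_f_rc_30_1 lc_f_rc_15_1 lc_f_rc_44_2 lc_f_rc_45_2 lc_f_rc_30_1 lc_f_rc_46_2 lc_f_rc_45_2 lc_f_rc_46_2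 lc_f_rc_23_1 lc_f_rc_46_2 lc_f_rc_15_1 lc_f_rc_23_1 lc_f_rc_42_2 lc_f_rc_43_0 lc_f_rc_6_3 lc_f_rc_43_1 lc_f_rc_6_1 lc_f_rc_6_1 lc_f_rc_6_1 lc_f_rc_6_1 lc_f_rc_45_2 lc_f_rc_42_2 lc_f_rc_45_2 lc_f_rc_30_1 lc_f_rc_46_2 lc_f_rc_23_1 lc_f_rc_6_1) (@D3.rec (fun _ => (Cert rels S Gen.f)) lc_f_rc_6_1 lc_f_rc_45_2 lc_f_rc_42_2 lc_f_rc_45_2 lc_f_rc_30_1 lc_f_rc_46_2 lc_f_rc_23_1 lc_f_Cert_tree lc_f_rc_30_1 lc_f_rc_30_1 lc_f_rc_23_1 lc_f_Cert_tree lc_f_rc_30_1 lc_f_rc_43_0 lc_f_rc_46_2 lc_f_rc_44_2 lc_f_rc_46_2 lc_f_rc_15_1 lc_f_rc_45_2 lc_f_rc_30_1 lc_f_rc_46_2 lc_f_rc_45_2 lc_f_rc_46_2 lc_f_rc_23_1 lc_f_rc_46_2 lc_f_rc_15_1 lc_f_rc_23_1 lc_f_rc_42_2 lc_f_rc_42_2 lc_f_rc_45_2 lc_f_rc_46_2 lc_f_rc_23_1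 lc_f_rc_36_3 lc_f_rc_46_2 lc_f_rc_42_2 lc_f_rc_46_2 lc_f_rc_15_1 lc_f_rc_23_1 lc_f_rc_42_2 lc_f_rc_6_1 lc_f_rc_15_1 lc_f_rc_23_1 lc_f_rc_6_1 lc_f_rc_45_2 lc_f_rc_30_1 lc_f_rc_46_2 lc_f_rc_45_2 lc_f_rc_30_3 lc_f_rc_23_1 lc_f_rc_46_2 lc_f_rc_15_1) (@D3.rec (fun _ => (Cert rels S Gen.f)) lc_f_rc_23_1 lc_f_rc_6_1 lc_f_rc_45_2 lc_f_rc_23_1 lc_f_rc_36_3 lc_f_rc_46_2 lc_f_rc_23_1 lc_f_rc_23_3 lc_f_rc_15_1 lc_f_rc_23_1 lc_f_rc_23_3 lc_f_rc_6_1 lc_f_rc_15_1 lc_f_rc_23_1 lc_f_rc_23_3 lc_f_rc_6_1 lc_f_rc_15_1 lc_f_rc_36_3 lc_f_rc_36_3 lc_f_rc_6_3 lc_f_rc_43_0 lc_f_rc_44_2 lc_f_rc_30_3 lc_f_rc_43_0 lc_f_rc_6_1 lc_f_rc_44_2 lc_f_rc_23_1 lc_f_rc_6_1 lc_f_rc_43_0 lc_f_rc_44_2 lc_f_rc_44_2 lc_f_rc_23_3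 lc_f_rc_43_0 lc_f_rc_6_3 lc_f_rc_45_2 lc_f_rc_43_0 lc_f_rc_15_1 lc_f_rc_15_1 lc_f_rc_15_1 lc_f_rc_43_0 lc_f_rc_6_1 lc_f_rc_42_2 lc_f_rc_23_1 lc_f_rc_23_1 lc_f_rc_42_2 lc_f_rc_43_0 lc_f_rc_15_1 lc_f_rc_15_1 lc_f_Cert_tree lc_f_rc_43_0 lc_f_rc_43_1) (@D3.rec (fun _ => (Cert rels S Gen.f)) lc_f_rc_42_2 lc_f_rc_23_1 lc_f_rc_15_1 lc_f_rc_42_2 lc_f_rc_30_1 lc_f_rc_46_2 lc_f_rc_23_1 lc_f_rc_23_1 lc_f_rc_45_2 lc_f_rc_15_1 lc_f_rc_43_0 lc_f_rc_6_1 lc_f_rc_6_1 lc_f_rc_42_2 lc_f_rc_6_1 lc_f_rc_6_1 lc_f_rc_30_1 lc_f_rc_46_0 lc_f_rc_23_1 lc_f_rc_23_1 lc_f_rc_23_1 lc_f_rc_30_1 lc_f_Cert_tree lc_f_rc_15_1 lc_f_rc_15_1 lc_f_rc_30_1 lc_f_Cert_tree lc_f_rc_23_1 lc_f_rc_43_0 lc_f_rc_36_1 lc_f_rc_15_1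 lc_f_rc_15_1 lc_f_rc_6_1 lc_f_rc_23_1 lc_f_rc_6_1 lc_f_rc_45_2 lc_f_rc_6_1 lc_f_rc_36_1 lc_f_rc_6_1 lc_f_rc_45_2 lc_f_Cert_tree lc_f_rc_36_5 lc_f_rc_43_0 lc_f_rc_23_1 lc_f_rc_23_1 lc_f_rc_30_1 lc_f_rc_46_0 lc_f_rc_30_1 lc_f_Cert_tree lc_f_rc_43_0 lc_f_rc_6_3) (@D3.rec (fun _ => (Cert rels S Gen.f)) lc_f_rc_23_1 lc_f_rc_30_1 lc_f_rc_45_2 lc_f_rc_43_0 lc_f_rc_6_1 lc_f_rc_6_1 lc_f_rc_6_1 lc_f_rc_23_1 lc_f_rc_44_2 lc_f_rc_42_2 lc_f_rc_23_1 lc_f_rc_6_1 lc_f_rc_30_1 lc_f_rc_30_1 lc_f_Cert_tree lc_f_rc_23_1 lc_f_rc_6_1 lc_f_rc_45_2 lc_f_rc_6_1 lc_f_rc_30_1 lc_f_rc_45_2 lc_f_rc_23_1 lc_f_rc_23_1 lc_f_rc_23_1 lc_f_rc_30_1 lc_f_rc_45_2 lc_f_rc_6_1 lc_f_rc_6_3 lc_f_rc_36_5 lc_f_rc_30_1 lc_f_rc_30_1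 lc_f_Cert_tree lc_f_rc_43_0 lc_f_rc_30_1 lc_f_Cert_tree lc_f_rc_6_1 lc_f_rc_43_0 lc_f_rc_46_0 lc_f_Cert_tree lc_f_rc_36_5 lc_f_rc_43_0 lc_f_rc_23_1 lc_f_rc_23_1 lc_f_rc_30_1 lc_f_rc_45_2 lc_f_rc_30_1 lc_f_rc_23_1 lc_f_Cert_tree lc_f_rc_36_5 lc_f_rc_43_0 lc_f_rc_23_1) (@D3.rec (fun _ => (Cert rels S Gen.f)) lc_f_rc_43_0 lc_f_rc_30_1 lc_f_rc_43_1 lc_f_rc_42_2 lc_f_rc_46_2 lc_f_rc_30_1 lc_f_Cert_tree lc_f_rc_6_3 lc_f_Cert_tree lc_f_rc_43_0 lc_f_rc_44_2 lc_f_Cert_tree lc_f_rc_42_2 lc_f_rc_43_0 lc_f_rc_6_3 lc_f_rc_42_2 lc_f_rc_42_2 lc_f_rc_6_1 lc_f_rc_23_1 lc_f_rc_43_0 lc_f_rc_45_2 lc_f_rc_43_1 lc_f_rc_42_2 lc_f_rc_46_2 lc_f_rc_45_2 lc_f_rc_42_2 lc_f_rc_23_1 lc_f_rc_30_1 lc_f_rc_23_1 lc_f_rc_15_1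 lc_f_rc_15_1 lc_f_rc_23_1 lc_f_rc_23_1 lc_f_rc_15_1 lc_f_rc_23_1 lc_f_Cert_tree lc_f_rc_15_1 lc_f_rc_43_0 lc_f_rc_45_2 lc_f_rc_43_0 lc_f_rc_45_2 lc_f_rc_43_1 lc_f_rc_46_2 lc_f_rc_45_2 lc_f_rc_36_3 lc_f_rc_45_2 lc_f_rc_42_2 lc_f_rc_45_2 lc_f_rc_46_2 lc_f_rc_6_1 lc_f_rc_44_4) (@D3.rec (fun _ => (Cert rels S Gen.f)) lc_f_rc_6_1 lc_f_rc_44_4 lc_f_rc_42_2 lc_f_rc_30_1 lc_f_rc_44_2 lc_f_Cert_tree lc_f_rc_43_0 lc_f_rc_6_1 lc_f_rc_6_1 lc_f_rc_6_1 lc_f_rc_30_1 lc_f_rc_42_2 lc_f_rc_42_2 lc_f_rc_46_2 lc_f_rc_30_1 lc_f_rc_23_1 lc_f_Cert_tree lc_f_rc_30_1 lc_f_Cert_tree lc_f_rc_43_0 lc_f_rc_44_2 lc_f_Cert_tree lc_f_rc_43_0 lc_f_rc_44_2 lc_f_rc_45_2 lc_f_rc_15_1 lc_f_rc_44_2 lc_f_rc_43_0 lc_f_rc_43_0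 lc_f_rc_6_1 lc_f_rc_42_2 lc_f_rc_46_2 lc_f_rc_30_1 lc_f_rc_23_1 lc_f_Cert_tree lc_f_rc_46_2 lc_f_rc_43_0 lc_f_rc_44_2 lc_f_rc_6_1 lc_f_rc_23_1 lc_f_Cert_tree lc_f_rc_46_2 lc_f_rc_43_0 lc_f_rc_44_2 lc_f_rc_45_2 lc_f_rc_23_1 lc_f_rc_42_2 lc_f_rc_30_1 lc_f_rc_15_1 lc_f_rc_30_1 lc_f_rc_43_0) (@D3.rec (fun _ => (Cert rels S Gen.f)) lc_f_rc_44_2 lc_f_Cert_tree lc_f_rc_45_2 lc_f_rc_43_0 lc_f_rc_23_1 lc_f_rc_55_5 lc_f_rc_43_0 lc_f_rc_15_1 lc_f_rc_45_2 lc_f_rc_30_1 lc_f_rc_23_1 lc_f_rc_6_1 lc_f_rc_6_1 lc_f_rc_6_1 lc_f_rc_43_0 lc_f_rc_6_1 lc_f_rc_44_2 lc_f_rc_15_1 lc_f_rc_43_0 lc_f_rc_30_3 lc_f_rc_43_0 lc_f_rc_43_0 lc_f_rc_23_1 lc_f_rc_45_2 lc_f_rc_6_1 lc_f_rc_23_1 lc_f_rc_42_0 lc_f_rc_43_0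 lc_f_rc_44_2 lc_f_rc_44_2 lc_f_rc_44_2 lc_f_rc_43_0 lc_f_rc_43_0 lc_f_rc_44_2 lc_f_rc_44_2 lc_f_rc_45_2 lc_f_rc_43_0 lc_f_rc_43_0 lc_f_rc_15_1 lc_f_rc_36_3 lc_f_rc_44_2 lc_f_rc_42_2 lc_f_rc_36_3 lc_f_rc_30_3 lc_f_rc_43_0 lc_f_rc_23_3 lc_f_rc_43_0 lc_f_rc_43_1 lc_f_rc_15_1 lc_f_rc_36_3 lc_f_rc_44_2) (@D3.rec (fun _ => (Cert rels S Gen.f)) lc_f_rc_42_2 lc_f_rc_46_2 lc_f_rc_42_2 lc_f_rc_23_3 lc_f_rc_43_0 lc_f_rc_43_1 lc_f_rc_6_1 lc_f_rc_43_0 lc_f_rc_43_1 lc_f_rc_36_3 lc_f_rc_15_1 lc_f_rc_42_2 lc_f_rc_46_2 lc_f_rc_15_1 lc_f_rc_45_2 lc_f_rc_36_3 lc_f_rc_30_1 lc_f_rc_42_2 lc_f_rc_46_2 lc_f_rc_44_2 lc_f_rc_43_0 lc_f_rc_43_1 lc_f_rc_6_1 lc_f_rc_44_2 lc_f_rc_42_2 lc_f_rc_46_2 lc_f_rc_45_2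 lc_f_rc_23_1 lc_f_rc_44_2 lc_f_rc_42_2 lc_f_rc_30_1 lc_f_rc_46_2 lc_f_rc_6_1 lc_f_rc_36_3 lc_f_rc_45_2 lc_f_rc_15_1 lc_f_rc_46_2 lc_f_rc_43_0 lc_f_rc_36_1 lc_f_rc_43_1 lc_f_rc_36_3 lc_f_rc_36_3 lc_f_rc_42_2 lc_f_rc_46_2 lc_f_Cert_tree lc_f_Cert_tree lc_f_rc_43_0 lc_f_rc_44_2 lc_f_rc_15_1 lc_f_Cert_tree lc_f_rc_43_0) (@D3.rec (fun _ => (Cert rels S Gen.f)) lc_f_rc_43_0 lc_f_rc_30_1 lc_f_rc_23_1 lc_f_rc_45_2 lc_f_Cert_tree lc_f_rc_43_0 lc_f_rc_43_0 lc_f_rc_43_1 lc_f_rc_23_1 lc_f_rc_45_2 lc_f_Cert_tree lc_f_rc_43_0 lc_f_Cert_tree lc_f_rc_43_0 lc_f_rc_43_1 lc_f_rc_44_2 lc_f_rc_30_1 lc_f_rc_15_3 lc_f_rc_42_2 lc_f_rc_30_1 lc_f_rc_45_2 lc_f_Cert_tree lc_f_rc_43_0 lc_f_rc_43_1 lc_f_rc_15_1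 lc_f_rc_30_1 lc_f_rc_30_1 lc_f_rc_42_2 lc_f_rc_46_2 lc_f_rc_23_1 lc_f_rc_43_0 lc_f_rc_6_1 lc_f_rc_43_0 lc_f_rc_15_1 lc_f_rc_15_1 lc_f_rc_42_2 lc_f_rc_15_1 lc_f_Cert_tree lc_f_rc_36_3 lc_f_rc_30_1 lc_f_rc_42_2 lc_f_rc_46_2 lc_f_Cert_tree lc_f_rc_43_0 lc_f_rc_43_1 lc_f_rc_15_1 lc_f_rc_36_3 lc_f_rc_30_1 lc_f_rc_42_2 lc_f_rc_46_2 lc_f_rc_23_1) (@D3.rec (fun _ => (Cert rels S Gen.f)) lc_f_Cert_tree lc_f_rc_43_0 lc_f_rc_43_1 lc_f_rc_6_1 lc_f_rc_43_0 lc_f_rc_43_1 lc_f_rc_15_1 lc_f_rc_15_1 lc_f_rc_42_2 lc_f_rc_46_2 lc_f_rc_15_1 lc_f_Cert_tree lc_f_rc_36_3 lc_f_rc_30_1 lc_f_rc_42_2 lc_f_rc_46_2 lc_f_rc_43_0 lc_f_rc_43_1 lc_f_rc_15_1 lc_f_rc_15_1 lc_f_rc_42_2 lc_f_rc_46_2 lc_f_rc_15_1 lc_f_Cert_tree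 lc_f_rc_36_3 lc_f_rc_30_1 lc_f_rc_42_2 lc_f_rc_46_2 lc_f_Cert_tree lc_f_rc_43_0 lc_f_rc_43_1 lc_f_rc_6_1 lc_f_rc_6_1 lc_f_rc_42_2 lc_f_rc_46_2 lc_f_rc_6_1 lc_f_rc_23_1 lc_f_rc_23_1 lc_f_rc_42_2 lc_f_rc_30_1 lc_f_rc_46_2 lc_f_Cert_tree lc_f_rc_15_1 lc_f_rc_15_1 lc_f_rc_15_1 lc_f_rc_46_2 lc_f_rc_43_0 lc_f_rc_45_2 lc_f_rc_43_1 lc_f_rc_30_1 lc_f_rc_46_2) (@D3.rec (fun _ => (Cert rels S Gen.f)) lc_f_rc_42_2 lc_f_rc_46_2 lc_f_rc_23_1 lc_f_rc_23_1 lc_f_rc_42_2 lc_f_rc_30_1 lc_f_rc_46_2 lc_f_Cert_tree lc_f_rc_15_1 lc_f_rc_15_1 lc_f_rc_15_1 lc_f_rc_46_2 lc_f_rc_43_0 lc_f_rc_45_2 lc_f_rc_43_1 lc_f_rc_30_1 lc_f_rc_46_2 lc_f_rc_42_2 lc_f_rc_46_2 lc_f_rc_43_0 lc_f_rc_43_1 lc_f_rc_6_1 lc_f_rc_6_1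 lc_f_rc_42_2 lc_f_rc_30_1 lc_f_rc_46_2 lc_f_Cert_tree lc_f_rc_6_1 lc_f_rc_6_1 lc_f_rc_6_1 lc_f_rc_46_2 lc_f_rc_30_1 lc_f_Cert_tree lc_f_rc_23_1 lc_f_rc_23_1 lc_f_rc_23_1 lc_f_rc_30_1 lc_f_rc_46_2 lc_f_Cert_tree lc_f_rc_46_2 lc_f_rc_43_0 lc_f_rc_45_2 lc_f_rc_43_1 lc_f_rc_30_1 lc_f_rc_15_1 lc_f_rc_15_1 lc_f_rc_15_1 lc_f_rc_45_2 lc_f_rc_42_2 lc_f_rc_45_2 lc_f_rc_30_1) (@D3.rec (fun _ => (Cert rels S Gen.f)) lc_f_rc_46_2 lc_f_rc_23_1 lc_f_rc_30_1 lc_f_rc_46_2 lc_f_Cert_tree lc_f_rc_43_0 lc_f_Cert_tree lc_f_rc_43_0 lc_f_rc_43_1 lc_f_rc_15_1 lc_f_rc_36_3 lc_f_rc_44_2 lc_f_rc_42_2 lc_f_rc_46_2 lc_f_rc_42_2 lc_f_Cert_tree lc_f_rc_43_0 lc_f_rc_43_1 lc_f_rc_6_1 lc_f_rc_43_0 lc_f_rc_43_1 lc_f_rc_15_1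 lc_f_rc_44_2 lc_f_rc_42_2 lc_f_rc_46_2 lc_f_rc_44_2 lc_f_Cert_tree lc_f_rc_36_3 lc_f_rc_30_1 lc_f_rc_42_2 lc_f_rc_46_2 lc_f_Cert_tree lc_f_rc_43_0 lc_f_rc_43_1 lc_f_rc_6_1 lc_f_rc_6_1 lc_f_rc_42_2 lc_f_rc_46_2 lc_f_rc_6_1 lc_f_rc_23_1 lc_f_rc_44_2 lc_f_rc_42_2 lc_f_rc_30_1 lc_f_rc_46_2 lc_f_Cert_tree lc_f_rc_15_1 lc_f_rc_44_2 lc_f_rc_44_2 lc_f_rc_46_2 lc_f_rc_43_0 lc_f_rc_45_2) (@D3.rec (fun _ => (Cert rels S Gen.f)) lc_f_rc_43_1 lc_f_rc_30_1 lc_f_rc_46_2 lc_f_rc_42_2 lc_f_rc_44_2 lc_f_Cert_tree lc_f_rc_43_0 lc_f_rc_43_1 lc_f_rc_6_1 lc_f_rc_43_0 lc_f_rc_43_1 lc_f_rc_36_3 lc_f_rc_15_1 lc_f_rc_42_2 lc_f_rc_46_2 lc_f_rc_15_1 lc_f_Cert_tree lc_f_rc_36_3 lc_f_rc_30_1 lc_f_rc_42_2 lc_f_rc_46_2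 lc_f_Cert_tree lc_f_rc_43_0 lc_f_rc_43_1 lc_f_rc_6_1 lc_f_rc_6_1 lc_f_rc_42_2 lc_f_rc_46_2 lc_f_rc_6_1 lc_f_rc_23_1 lc_f_rc_23_1 lc_f_rc_42_2 lc_f_rc_30_1 lc_f_rc_46_2 lc_f_Cert_tree lc_f_rc_15_1 lc_f_rc_15_1 lc_f_rc_15_1 lc_f_rc_46_2 lc_f_rc_43_0 lc_f_rc_45_2 lc_f_rc_43_1 lc_f_rc_30_1 lc_f_rc_46_2 lc_f_rc_42_2 lc_f_rc_46_2 lc_f_rc_43_0 lc_f_rc_43_1 lc_f_rc_6_1 lc_f_rc_6_1 lc_f_rc_42_2)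
def ce_f_5 : D2 → D3 → (Cert rels S Gen.f) := @D2.rec (fun _ => D3 → (Cert rels S Gen.f)) (@D3.rec (fun _ => (Cert rels S Gen.f)) lc_f_rc_30_1 lc_f_rc_46_2 lc_f_Cert_tree lc_f_rc_6_1 lc_f_rc_6_1 lc_f_rc_6_1 lc_f_rc_46_2 lc_f_rc_30_1 lc_f_Cert_tree lc_f_rc_23_1 lc_f_rc_23_1 lc_f_rc_23_1 lc_f_rc_30_1 lc_f_rc_46_2 lc_f_Cert_tree lc_f_rc_46_2 lc_f_rc_43_0 lc_f_rc_45_2 lc_f_rc_43_1 lc_f_rc_30_1 lc_f_rc_15_1 lc_f_rc_15_1 lc_f_rc_15_1 lc_f_rc_45_2 lc_f_rc_42_2 lc_f_rc_45_2 lc_f_rc_30_1 lc_f_rc_46_2 lc_f_rc_23_1 lc_f_rc_30_1 lc_f_rc_46_2 lc_f_Cert_tree lc_f_rc_43_0 lc_f_rc_43_1 lc_f_rc_6_1 lc_f_rc_42_2 lc_f_rc_46_2 lc_f_rc_6_1 lc_f_rc_23_1 lc_f_rc_23_1 lc_f_rc_42_2 lc_f_rc_30_1 lc_f_rc_46_2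 lc_f_Cert_tree lc_f_rc_36_3 lc_f_rc_15_1 lc_f_rc_15_1 lc_f_rc_46_2 lc_f_rc_43_0 lc_f_rc_45_2 lc_f_rc_43_1) (@D3.rec (fun _ => (Cert rels S Gen.f)) lc_f_rc_36_3 lc_f_rc_36_3 lc_f_rc_42_2 lc_f_rc_46_2 lc_f_rc_43_0 lc_f_rc_43_1 lc_f_rc_6_1 lc_f_rc_6_1 lc_f_rc_42_2 lc_f_rc_30_1 lc_f_rc_46_2 lc_f_Cert_tree lc_f_rc_6_1 lc_f_rc_6_1 lc_f_rc_6_1 lc_f_rc_46_2 lc_f_rc_30_1 lc_f_Cert_tree lc_f_rc_23_1 lc_f_rc_23_1 lc_f_rc_23_1 lc_f_rc_30_1 lc_f_rc_46_2 lc_f_Cert_tree lc_f_rc_46_2 lc_f_rc_43_0 lc_f_rc_45_2 lc_f_rc_43_1 lc_f_rc_30_1 lc_f_rc_15_1 lc_f_rc_15_1 lc_f_rc_15_1 lc_f_rc_45_2 lc_f_rc_42_2 lc_f_rc_45_2 lc_f_rc_30_1 lc_f_rc_46_2 lc_f_rc_23_1 lc_f_rc_30_1 lc_f_rc_46_2 lc_f_rc_15_1 lc_f_rc_15_1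 lc_f_rc_42_2 lc_f_rc_46_2 lc_f_rc_6_1 lc_f_Cert_tree lc_f_rc_6_1 lc_f_rc_6_1 lc_f_rc_6_1 lc_f_rc_30_1 lc_f_rc_46_2) (@D3.rec (fun _ => (Cert rels S Gen.f)) lc_f_rc_46_2 lc_f_rc_43_0 lc_f_rc_45_2 lc_f_rc_43_1 lc_f_rc_6_1 lc_f_rc_6_1 lc_f_rc_6_1 lc_f_rc_6_1 lc_f_Cert_tree lc_f_rc_42_2 lc_f_rc_43_0 lc_f_rc_45_2 lc_f_rc_43_1 lc_f_rc_30_1 lc_f_rc_23_1 lc_f_rc_23_1 lc_f_rc_30_1 lc_f_rc_23_1 lc_f_Cert_tree lc_f_rc_46_2 lc_f_rc_43_0 lc_f_rc_46_2 lc_f_rc_42_2 lc_f_rc_45_2 lc_f_rc_42_2 lc_f_rc_45_2 lc_f_rc_30_1 lc_f_rc_46_2 lc_f_rc_23_1 lc_f_rc_30_1 lc_f_rc_15_1 lc_f_rc_44_2 lc_f_rc_45_2 lc_f_rc_30_1 lc_f_rc_46_2 lc_f_rc_45_2 lc_f_rc_46_2 lc_f_rc_23_1 lc_f_rc_46_2 lc_f_rc_15_1 lc_f_rc_23_1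 lc_f_rc_42_2 lc_f_rc_43_0 lc_f_rc_15_1 lc_f_rc_43_0 lc_f_rc_15_3 lc_f_rc_45_2 lc_f_rc_42_2 lc_f_rc_45_2 lc_f_rc_30_1 lc_f_rc_23_1) (@D3.rec (fun _ => (Cert rels S Gen.f)) lc_f_rc_43_0 lc_f_rc_45_2 lc_f_Cert_tree lc_f_rc_42_2 lc_f_rc_43_0 lc_f_rc_45_2 lc_f_rc_45_2 lc_f_rc_42_2 lc_f_rc_45_2 lc_f_rc_30_1 lc_f_rc_23_1 lc_f_rc_44_2 lc_f_rc_45_2 lc_f_rc_30_1 lc_f_rc_46_2 lc_f_rc_45_2 lc_f_rc_46_2 lc_f_rc_23_1 lc_f_rc_46_2 lc_f_rc_15_1 lc_f_rc_23_1 lc_f_rc_42_2 lc_f_Cert_tree lc_f_rc_6_1 lc_f_rc_43_0 lc_f_rc_45_2 lc_f_rc_45_2 lc_f_rc_42_2 lc_f_rc_45_2 lc_f_rc_30_1 lc_f_rc_23_1 lc_f_rc_43_0 lc_f_rc_45_2 lc_f_rc_43_1 lc_f_rc_42_2 lc_f_rc_46_2 lc_f_rc_45_2 lc_f_rc_42_2 lc_f_rc_45_2 lc_f_rc_30_1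 lc_f_rc_23_1 lc_f_rc_44_2 lc_f_rc_45_2 lc_f_rc_30_1 lc_f_rc_46_2 lc_f_rc_45_2 lc_f_rc_46_2 lc_f_rc_23_1 lc_f_rc_46_2 lc_f_rc_15_1 lc_f_rc_23_1) (@D3.rec (fun _ => (Cert rels S Gen.f)) lc_f_rc_42_2 lc_f_rc_45_2 lc_f_rc_45_2 lc_f_rc_46_2 lc_f_rc_23_1 lc_f_rc_44_2 lc_f_rc_46_2 lc_f_rc_23_1 lc_f_rc_46_2 lc_f_rc_15_1 lc_f_rc_23_1 lc_f_rc_42_2 lc_f_rc_6_1 lc_f_rc_15_1 lc_f_rc_23_1 lc_f_rc_30_3 lc_f_rc_43_0 lc_f_rc_46_2 lc_f_rc_43_0 lc_f_rc_30_1 lc_f_rc_43_0 lc_f_rc_43_1 lc_f_rc_46_2 lc_f_rc_42_2 lc_f_Cert_tree lc_f_rc_43_0 lc_f_rc_44_2 lc_f_rc_44_2 lc_f_rc_30_1 lc_f_rc_15_3 lc_f_rc_43_0 lc_f_rc_6_1 lc_f_rc_43_0 lc_f_rc_15_1 lc_f_rc_23_1 lc_f_rc_42_2 lc_f_rc_46_2 lc_f_Cert_tree lc_f_rc_36_3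 lc_f_rc_42_2 lc_f_rc_46_2 lc_f_rc_46_2 lc_f_rc_43_0 lc_f_rc_43_1 lc_f_rc_15_1 lc_f_rc_15_1 lc_f_rc_42_2 lc_f_rc_46_2 lc_f_rc_15_1 lc_f_Cert_tree lc_f_rc_36_3) (@D3.rec (fun _ => (Cert rels S Gen.f)) lc_f_rc_46_2 lc_f_rc_6_1 lc_f_rc_6_1 lc_f_rc_6_1 lc_f_rc_23_1 lc_f_rc_23_1 lc_f_Cert_tree lc_f_rc_15_1 lc_f_rc_15_1 lc_f_rc_15_1 lc_f_rc_46_2 lc_f_rc_43_0 lc_f_rc_45_2 lc_f_rc_43_1 lc_f_rc_42_2 lc_f_rc_46_2 lc_f_rc_42_2 lc_f_rc_46_2 lc_f_rc_42_2 lc_f_rc_46_2 lc_f_rc_43_0 lc_f_rc_43_1 lc_f_rc_15_1 lc_f_rc_15_1 lc_f_rc_42_2 lc_f_rc_46_2 lc_f_rc_15_1 lc_f_rc_30_1 lc_f_rc_36_3 lc_f_rc_30_1 lc_f_rc_42_2 lc_f_rc_46_2 lc_f_Cert_tree lc_f_rc_43_0 lc_f_rc_43_1 lc_f_rc_6_1 lc_f_rc_6_1 lc_f_rc_42_2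 lc_f_rc_46_2 lc_f_rc_6_1 lc_f_rc_23_1 lc_f_rc_15_1 lc_f_rc_42_2 lc_f_rc_30_1 lc_f_rc_46_2 lc_f_Cert_tree lc_f_rc_15_1 lc_f_rc_15_1 lc_f_rc_15_1 lc_f_rc_46_2 lc_f_rc_43_0) (@D3.rec (fun _ => (Cert rels S Gen.f)) lc_f_rc_46_2 lc_f_rc_43_1 lc_f_rc_30_1 lc_f_rc_46_2 lc_f_rc_42_2 lc_f_rc_46_2 lc_f_rc_36_3 lc_f_rc_42_2 lc_f_rc_46_2 lc_f_rc_23_1 lc_f_rc_23_1 lc_f_rc_42_2 lc_f_rc_46_2 lc_f_Cert_tree lc_f_rc_15_1 lc_f_rc_15_1 lc_f_rc_15_1 lc_f_rc_46_2 lc_f_rc_43_0 lc_f_rc_45_2 lc_f_rc_43_1 lc_f_rc_30_1 lc_f_rc_46_2 lc_f_rc_42_2 lc_f_rc_46_2 lc_f_rc_43_0 lc_f_rc_43_1 lc_f_rc_6_1 lc_f_rc_6_1 lc_f_rc_42_2 lc_f_rc_30_1 lc_f_rc_46_2 lc_f_Cert_tree lc_f_rc_6_1 lc_f_rc_6_1 lc_f_rc_6_1 lc_f_rc_46_2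 lc_f_rc_30_1 lc_f_Cert_tree lc_f_rc_23_1 lc_f_rc_23_1 lc_f_rc_23_1 lc_f_rc_30_1 lc_f_rc_46_2 lc_f_Cert_tree lc_f_rc_46_2 lc_f_rc_43_0 lc_f_rc_45_2 lc_f_rc_43_1 lc_f_rc_30_1 lc_f_rc_15_1) (@D3.rec (fun _ => (Cert rels S Gen.f)) lc_f_rc_15_1 lc_f_rc_15_1 lc_f_rc_45_2 lc_f_rc_42_2 lc_f_rc_45_2 lc_f_rc_30_1 lc_f_rc_46_2 lc_f_rc_23_1 lc_f_rc_30_1 lc_f_rc_46_2 lc_f_rc_36_1 lc_f_rc_30_1 lc_f_rc_46_2 lc_f_rc_45_2 lc_f_rc_46_2 lc_f_rc_30_1 lc_f_Cert_tree lc_f_rc_23_1 lc_f_rc_23_1 lc_f_rc_23_1 lc_f_rc_46_2 lc_f_rc_43_0 lc_f_rc_45_2 lc_f_rc_43_1 lc_f_rc_30_1 lc_f_rc_15_1 lc_f_rc_15_1 lc_f_rc_15_1 lc_f_rc_45_2 lc_f_rc_42_2 lc_f_rc_45_2 lc_f_rc_30_1 lc_f_rc_46_2 lc_f_rc_23_1 lc_f_rc_30_1 lc_f_rc_46_2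 lc_f_rc_15_1 lc_f_rc_15_1 lc_f_rc_42_2 lc_f_rc_46_2 lc_f_rc_6_1 lc_f_Cert_tree lc_f_rc_6_1 lc_f_rc_6_1 lc_f_rc_6_1 lc_f_rc_30_1 lc_f_rc_46_2 lc_f_rc_46_2 lc_f_rc_43_0 lc_f_rc_45_2 lc_f_rc_43_1) (@D3.rec (fun _ => (Cert rels S Gen.f)) lc_f_rc_6_1 lc_f_rc_6_1 lc_f_rc_6_1 lc_f_rc_6_1 lc_f_Cert_tree lc_f_rc_42_2 lc_f_rc_43_0 lc_f_rc_45_2 lc_f_rc_43_1 lc_f_rc_30_1 lc_f_rc_23_1 lc_f_rc_23_1 lc_f_rc_30_1 lc_f_rc_23_1 lc_f_Cert_tree lc_f_rc_46_2 lc_f_rc_43_0 lc_f_rc_46_2 lc_f_rc_45_2 lc_f_rc_42_2 lc_f_rc_45_2 lc_f_rc_30_1 lc_f_rc_46_2 lc_f_rc_23_1 lc_f_rc_30_1 lc_f_rc_15_1 lc_f_rc_44_2 lc_f_rc_45_2 lc_f_rc_30_1 lc_f_rc_46_2 lc_f_rc_45_2 lc_f_rc_46_2 lc_f_rc_23_1 lc_f_rc_46_2 lc_f_rc_15_1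 lc_f_rc_23_1 lc_f_rc_42_2 lc_f_Cert_tree lc_f_rc_43_0 lc_f_rc_43_1 lc_f_rc_6_1 lc_f_rc_6_1 lc_f_rc_42_2 lc_f_rc_46_2 lc_f_rc_6_1 lc_f_rc_23_1 lc_f_rc_44_2 lc_f_rc_42_2 lc_f_rc_30_1 lc_f_rc_46_2 lc_f_Cert_tree) (@D3.rec (fun _ => (Cert rels S Gen.f)) lc_f_rc_15_1 lc_f_rc_44_2 lc_f_rc_15_1 lc_f_rc_46_2 lc_f_rc_43_0 lc_f_rc_6_3 lc_f_rc_56_40 lc_f_rc_30_1 lc_f_rc_46_2 lc_f_rc_42_2 lc_f_rc_46_2 lc_f_rc_43_0 lc_f_rc_6_1 lc_f_rc_6_1 lc_f_rc_42_2 lc_f_rc_46_2 lc_f_Cert_tree lc_f_rc_6_1 lc_f_rc_6_1 lc_f_rc_6_1 lc_f_rc_46_2 lc_f_rc_30_1 lc_f_Cert_tree lc_f_rc_23_1 lc_f_rc_44_2 lc_f_rc_23_1 lc_f_rc_30_1 lc_f_rc_46_2 lc_f_Cert_tree lc_f_rc_46_2 lc_f_rc_43_0 lc_f_rc_45_2 lc_f_rc_43_1 lc_f_rc_30_1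 lc_f_rc_15_1 lc_f_rc_44_2 lc_f_rc_44_2 lc_f_rc_45_2 lc_f_rc_42_2 lc_f_rc_45_2 lc_f_rc_30_1 lc_f_rc_46_2 lc_f_rc_23_1 lc_f_rc_30_1 lc_f_rc_44_2 lc_f_rc_43_0 lc_f_rc_6_1 lc_f_rc_6_1 lc_f_rc_42_2 lc_f_rc_46_2 lc_f_Cert_tree) (@D3.rec (fun _ => (Cert rels S Gen.f)) lc_f_rc_6_1 lc_f_rc_6_1 lc_f_rc_6_1 lc_f_rc_46_2 lc_f_rc_30_1 lc_f_Cert_tree lc_f_rc_23_1 lc_f_rc_23_1 lc_f_rc_23_1 lc_f_rc_30_1 lc_f_rc_46_2 lc_f_rc_46_2 lc_f_rc_43_0 lc_f_rc_45_2 lc_f_rc_43_1 lc_f_rc_30_1 lc_f_rc_15_1 lc_f_rc_15_1 lc_f_rc_15_1 lc_f_rc_45_2 lc_f_rc_42_2 lc_f_rc_45_2 lc_f_rc_30_1 lc_f_rc_46_2 lc_f_rc_23_1 lc_f_rc_30_1 lc_f_rc_46_2 lc_f_rc_15_1 lc_f_rc_15_1 lc_f_rc_6_1 lc_f_Cert_tree lc_f_rc_6_1 lc_f_rc_6_1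 lc_f_rc_6_1 lc_f_rc_46_2 lc_f_rc_43_0 lc_f_rc_45_2 lc_f_rc_43_1 lc_f_rc_6_1 lc_f_rc_6_1 lc_f_rc_6_1 lc_f_rc_6_1 lc_f_Cert_tree lc_f_rc_42_2 lc_f_rc_43_0 lc_f_rc_45_2 lc_f_rc_43_1 lc_f_rc_30_1 lc_f_rc_23_1 lc_f_rc_23_1 lc_f_rc_30_1) (@D3.rec (fun _ => (Cert rels S Gen.f)) lc_f_rc_23_1 lc_f_Cert_tree lc_f_rc_46_2 lc_f_rc_43_0 lc_f_rc_46_2 lc_f_rc_45_2 lc_f_rc_42_2 lc_f_rc_45_2 lc_f_rc_30_1 lc_f_rc_46_2 lc_f_rc_23_1 lc_f_rc_30_1 lc_f_rc_15_1 lc_f_rc_44_2 lc_f_rc_45_2 lc_f_rc_30_1 lc_f_rc_46_2 lc_f_rc_45_2 lc_f_rc_46_2 lc_f_rc_23_1 lc_f_rc_46_2 lc_f_rc_15_1 lc_f_rc_23_1 lc_f_rc_42_2 lc_f_rc_15_1 lc_f_rc_15_1 lc_f_Cert_tree lc_f_rc_6_1 lc_f_rc_6_1 lc_f_rc_6_1 lc_f_rc_46_2 lc_f_rc_43_0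 lc_f_rc_45_2 lc_f_rc_43_1 lc_f_rc_6_1 lc_f_rc_6_1 lc_f_rc_6_1 lc_f_Cert_tree lc_f_rc_42_2 lc_f_rc_43_0 lc_f_rc_45_2 lc_f_rc_43_1 lc_f_rc_30_1 lc_f_rc_23_1 lc_f_rc_23_1 lc_f_rc_30_1 lc_f_rc_23_1 lc_f_rc_15_1 lc_f_rc_46_2 lc_f_rc_45_2 lc_f_rc_42_2) (@D3.rec (fun _ => (Cert rels S Gen.f)) lc_f_rc_45_2 lc_f_rc_30_1 lc_f_rc_46_2 lc_f_rc_23_1 lc_f_rc_30_1 lc_f_rc_15_1 lc_f_rc_44_2 lc_f_rc_45_2 lc_f_rc_30_1 lc_f_rc_46_2 lc_f_rc_45_2 lc_f_rc_46_2 lc_f_rc_23_1 lc_f_rc_46_2 lc_f_rc_15_1 lc_f_rc_23_1 lc_f_rc_42_2 lc_f_rc_15_1 lc_f_Cert_tree lc_f_rc_15_1 lc_f_Cert_tree lc_f_rc_6_1 lc_f_rc_43_0 lc_f_rc_45_2 lc_f_rc_43_1 lc_f_rc_6_1 lc_f_rc_6_1 lc_f_rc_6_1 lc_f_rc_6_1 lc_f_rc_45_2 lc_f_rc_42_2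 lc_f_rc_45_2 lc_f_rc_30_1 lc_f_rc_46_2 lc_f_rc_23_1 lc_f_rc_6_1 lc_f_rc_6_1 lc_f_rc_43_0 lc_f_rc_45_2 lc_f_rc_43_1 lc_f_rc_42_2 lc_f_rc_46_2 lc_f_rc_45_2 lc_f_rc_42_2 lc_f_rc_45_2 lc_f_rc_30_1 lc_f_rc_46_2 lc_f_rc_23_1 lc_f_Cert_tree lc_f_rc_30_1 lc_f_rc_30_1) (@D3.rec (fun _ => (Cert rels S Gen.f)) lc_f_rc_23_1 lc_f_Cert_tree lc_f_rc_30_1 lc_f_rc_43_0 lc_f_rc_46_2 lc_f_rc_44_2 lc_f_rc_46_2 lc_f_rc_44_2 lc_f_rc_45_2 lc_f_rc_30_1 lc_f_rc_46_2 lc_f_rc_45_2 lc_f_rc_46_2 lc_f_rc_23_1 lc_f_rc_46_2 lc_f_rc_15_1 lc_f_rc_23_1 lc_f_rc_42_2 lc_f_rc_44_2 lc_f_rc_45_2 lc_f_rc_46_2 lc_f_rc_23_1 lc_f_rc_36_3 lc_f_rc_46_2 lc_f_rc_23_1 lc_f_rc_46_2 lc_f_rc_15_1 lc_f_rc_23_1 lc_f_rc_42_2 lc_f_rc_6_1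 lc_f_rc_15_1 lc_f_rc_23_1 lc_f_rc_45_2 lc_f_rc_43_0 lc_f_rc_45_2 lc_f_rc_43_1 lc_f_rc_46_2 lc_f_rc_45_2 lc_f_rc_44_2 lc_f_rc_45_2 lc_f_rc_30_1 lc_f_rc_45_2 lc_f_rc_23_1 lc_f_rc_15_1 lc_f_rc_42_2 lc_f_rc_45_2 lc_f_rc_46_2 lc_f_rc_23_1 lc_f_rc_36_3 lc_f_rc_46_2 lc_f_rc_23_1) (@D3.rec (fun _ => (Cert rels S Gen.f)) lc_f_rc_46_2 lc_f_rc_15_1 lc_f_rc_23_1 lc_f_rc_42_2 lc_f_rc_6_1 lc_f_rc_15_1 lc_f_rc_23_1 lc_f_rc_43_0 lc_f_rc_45_2 lc_f_rc_43_1 lc_f_rc_6_1 lc_f_rc_45_2 lc_f_rc_6_1 lc_f_rc_45_2 lc_f_rc_30_1 lc_f_rc_45_2 lc_f_rc_23_1 lc_f_rc_15_1 lc_f_rc_36_3 lc_f_rc_45_2 lc_f_rc_42_2 lc_f_rc_45_2 lc_f_rc_30_1 lc_f_rc_46_2 lc_f_rc_23_1 lc_f_rc_46_2 lc_f_rc_44_2 lc_f_rc_45_2 lc_f_rc_30_1 lc_f_rc_45_2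 lc_f_rc_23_1 lc_f_rc_15_1 lc_f_rc_44_2 lc_f_rc_45_2 lc_f_rc_46_2 lc_f_rc_23_1 lc_f_rc_36_3 lc_f_rc_46_2 lc_f_rc_23_1 lc_f_rc_46_2 lc_f_rc_15_1 lc_f_rc_23_1 lc_f_rc_42_2 lc_f_rc_6_1 lc_f_rc_15_1 lc_f_rc_23_1 lc_f_rc_44_2 lc_f_rc_44_2 lc_f_rc_23_1 lc_f_rc_6_1 lc_f_rc_46_2) (@D3.rec (fun _ => (Cert rels S Gen.f)) lc_f_rc_15_1 lc_f_rc_42_2 lc_f_rc_23_3 lc_f_rc_42_2 lc_f_rc_6_1 lc_f_rc_15_1 lc_f_rc_42_2 lc_f_rc_6_1 lc_f_rc_15_1 lc_f_rc_30_1 lc_f_rc_6_1 lc_f_rc_6_1 lc_f_rc_46_2 lc_f_rc_23_1 lc_f_rc_6_1 lc_f_rc_6_1 lc_f_rc_6_1 lc_f_rc_6_1 lc_f_rc_30_1 lc_f_rc_30_1 lc_f_rc_23_1 lc_f_rc_42_2 lc_f_rc_44_2 lc_f_rc_44_2 lc_f_Cert_tree lc_f_rc_46_2 lc_f_rc_43_0 lc_f_rc_46_2 lc_f_rc_42_2 lc_f_rc_23_1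 lc_f_rc_30_1 lc_f_rc_46_2 lc_f_rc_23_1 lc_f_rc_30_1 lc_f_rc_44_2 lc_f_rc_45_2 lc_f_rc_30_1 lc_f_rc_46_2 lc_f_rc_45_2 lc_f_rc_46_2 lc_f_rc_23_1 lc_f_rc_46_2 lc_f_rc_15_1 lc_f_rc_23_1 lc_f_rc_42_2 lc_f_rc_45_2 lc_f_rc_6_1 lc_f_rc_6_1 lc_f_rc_6_1 lc_f_rc_6_1 lc_f_rc_42_2) (@D3.rec (fun _ => (Cert rels S Gen.f)) lc_f_rc_44_2 lc_f_rc_30_1 lc_f_rc_46_2 lc_f_rc_23_1 lc_f_rc_6_1 lc_f_rc_6_1 lc_f_rc_42_2 lc_f_rc_46_2 lc_f_rc_42_2 lc_f_rc_44_2 lc_f_rc_45_2 lc_f_rc_46_2 lc_f_rc_23_1 lc_f_Cert_tree lc_f_rc_30_1 lc_f_rc_30_1 lc_f_rc_23_1 lc_f_Cert_tree lc_f_rc_30_1 lc_f_rc_43_0 lc_f_rc_46_2 lc_f_rc_44_2 lc_f_rc_46_2 lc_f_rc_45_2 lc_f_rc_30_1 lc_f_rc_46_2 lc_f_rc_45_2 lc_f_rc_46_2 lc_f_rc_23_1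 lc_f_rc_46_2 lc_f_rc_15_1 lc_f_rc_23_1 lc_f_rc_42_2 lc_f_rc_44_2 lc_f_rc_45_2 lc_f_rc_46_2 lc_f_rc_23_1 lc_f_rc_36_3 lc_f_rc_46_2 lc_f_rc_23_1 lc_f_rc_46_2 lc_f_rc_15_1 lc_f_rc_23_1 lc_f_rc_42_2 lc_f_rc_6_1 lc_f_rc_15_1 lc_f_rc_23_1 lc_f_rc_42_2 lc_f_rc_6_3 lc_f_rc_30_1 lc_f_rc_46_2) (@D3.rec (fun _ => (Cert rels S Gen.f)) lc_f_rc_23_1 lc_f_rc_6_1 lc_f_rc_6_1 lc_f_rc_45_2 lc_f_rc_30_1 lc_f_rc_46_2 lc_f_rc_45_2 lc_f_rc_46_2 lc_f_rc_23_1 lc_f_rc_46_2 lc_f_rc_15_1 lc_f_rc_23_1 lc_f_rc_6_1 lc_f_rc_45_2 lc_f_rc_30_1 lc_f_rc_46_2 lc_f_rc_45_2 lc_f_rc_46_2 lc_f_rc_23_1 lc_f_Cert_tree lc_f_rc_46_2 lc_f_rc_15_1 lc_f_Cert_tree lc_f_rc_23_1 lc_f_rc_43_0 lc_f_rc_46_2 lc_f_rc_42_2 lc_f_Cert_tree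 lc_f_rc_30_1 lc_f_rc_43_0 lc_f_rc_46_2 lc_f_rc_44_2 lc_f_rc_46_2 lc_f_rc_45_2 lc_f_rc_44_2 lc_f_rc_42_2 lc_f_rc_45_2 lc_f_rc_46_2 lc_f_rc_23_1 lc_f_rc_36_3 lc_f_rc_46_2 lc_f_rc_23_1 lc_f_rc_46_2 lc_f_rc_15_1 lc_f_rc_23_1 lc_f_rc_42_2 lc_f_rc_6_1 lc_f_rc_15_1 lc_f_rc_23_1 lc_f_rc_44_2 lc_f_rc_46_2) (@D3.rec (fun _ => (Cert rels S Gen.f)) lc_f_rc_15_1 lc_f_rc_23_1 lc_f_rc_36_3 lc_f_rc_42_2 lc_f_rc_23_3 lc_f_rc_6_1 lc_f_rc_23_3 lc_f_rc_6_1 lc_f_rc_15_1 lc_f_rc_45_2 lc_f_rc_23_1 lc_f_rc_6_1 lc_f_rc_46_2 lc_f_rc_23_1 lc_f_rc_23_3 lc_f_rc_15_1 lc_f_rc_23_1 lc_f_rc_23_3 lc_f_rc_6_1 lc_f_rc_15_1 lc_f_rc_23_1 lc_f_rc_23_1 lc_f_rc_15_1 lc_f_rc_23_1 lc_f_rc_23_1 lc_f_rc_46_2 lc_f_rc_45_2 lc_f_rc_6_1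 lc_f_rc_15_1 lc_f_rc_30_1 lc_f_rc_6_1 lc_f_rc_30_1 lc_f_rc_30_1 lc_f_rc_23_1 lc_f_rc_15_1 lc_f_rc_43_0 lc_f_rc_42_2 lc_f_rc_30_1 lc_f_rc_30_1 lc_f_Cert_tree lc_f_rc_30_1 lc_f_rc_45_2 lc_f_rc_23_1 lc_f_rc_15_1 lc_f_rc_15_1 lc_f_rc_6_1 lc_f_rc_6_1 lc_f_rc_6_1 lc_f_rc_6_1 lc_f_rc_36_5 lc_f_rc_30_1) (@D3.rec (fun _ => (Cert rels S Gen.f)) lc_f_Cert_tree lc_f_rc_43_0 lc_f_Cert_tree lc_f_rc_36_5 lc_f_rc_43_0 lc_f_rc_23_1 lc_f_rc_15_1 lc_f_rc_23_1 lc_f_rc_45_2 lc_f_rc_30_1 lc_f_rc_6_1 lc_f_rc_23_1 lc_f_rc_6_1 lc_f_rc_45_2 lc_f_rc_23_1 lc_f_rc_43_0 lc_f_rc_30_1 lc_f_rc_43_1 lc_f_rc_42_2 lc_f_rc_46_2 lc_f_rc_30_1 lc_f_rc_23_1 lc_f_rc_6_1 lc_f_rc_46_0 lc_f_Cert_tree lc_f_rc_43_0 lc_f_rc_44_2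 lc_f_rc_23_1 lc_f_rc_23_1 lc_f_rc_6_1 lc_f_rc_30_1 lc_f_rc_30_1 lc_f_rc_36_5 lc_f_Cert_tree lc_f_rc_43_0 lc_f_rc_30_1 lc_f_rc_45_2 lc_f_rc_6_1 lc_f_rc_45_2 lc_f_rc_36_5 lc_f_rc_30_1 lc_f_rc_45_2 lc_f_rc_36_5 lc_f_rc_6_3 lc_f_rc_42_2 lc_f_rc_46_2 lc_f_Cert_tree lc_f_Cert_tree lc_f_rc_43_0 lc_f_rc_44_2 lc_f_Cert_tree) (@D3.rec (fun _ => (Cert rels S Gen.f)) lc_f_rc_42_2 lc_f_rc_43_0 lc_f_rc_23_1 lc_f_rc_43_0 lc_f_rc_30_1 lc_f_rc_43_1 lc_f_rc_42_2 lc_f_rc_46_2 lc_f_rc_30_1 lc_f_rc_23_1 lc_f_rc_6_1 lc_f_rc_43_0 lc_f_rc_30_1 lc_f_rc_43_1 lc_f_rc_46_2 lc_f_rc_36_3 lc_f_rc_42_2 lc_f_rc_42_2 lc_f_rc_42_2 lc_f_rc_46_2 lc_f_Cert_tree lc_f_rc_46_2 lc_f_Cert_tree lc_f_rc_43_0 lc_f_Cert_tree lc_f_rc_43_0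 lc_f_rc_44_2 lc_f_rc_45_2 lc_f_rc_43_0 lc_f_rc_42_0 lc_f_rc_43_1 lc_f_rc_46_2 lc_f_rc_23_1 lc_f_rc_36_3 lc_f_rc_45_2 lc_f_rc_42_2 lc_f_rc_45_2 lc_f_rc_30_1 lc_f_rc_46_2 lc_f_rc_23_1 lc_f_rc_46_2 lc_f_rc_30_1 lc_f_rc_36_1 lc_f_rc_36_1 lc_f_rc_15_1 lc_f_rc_42_0 lc_f_rc_23_1 lc_f_rc_43_0 lc_f_rc_23_1 lc_f_rc_43_1 lc_f_rc_15_1) (@D3.rec (fun _ => (Cert rels S Gen.f)) lc_f_rc_45_2 lc_f_rc_6_1 lc_f_rc_45_2 lc_f_rc_42_2 lc_f_rc_45_2 lc_f_rc_46_2 lc_f_rc_36_3 lc_f_rc_36_3 lc_f_rc_45_2 lc_f_rc_46_2 lc_f_rc_46_2 lc_f_rc_42_2 lc_f_rc_46_2 lc_f_Cert_tree lc_f_Cert_tree lc_f_rc_43_0 lc_f_rc_44_2 lc_f_rc_6_1 lc_f_rc_42_2 lc_f_rc_46_2 lc_f_rc_23_1 lc_f_Cert_tree lc_f_rc_46_2 lc_f_Cert_tree lc_f_rc_46_2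 lc_f_rc_43_0 lc_f_Cert_tree lc_f_rc_43_0 lc_f_rc_44_2 lc_f_rc_45_2 lc_f_rc_43_0 lc_f_rc_44_2 lc_f_rc_45_2 lc_f_rc_46_2 lc_f_rc_30_1 lc_f_rc_46_2 lc_f_rc_23_1 lc_f_Cert_tree lc_f_rc_46_2 lc_f_rc_46_2 lc_f_rc_43_0 lc_f_rc_43_0 lc_f_rc_44_2 lc_f_rc_30_1 lc_f_rc_23_1 lc_f_rc_30_1 lc_f_rc_56_26 lc_f_rc_30_1 lc_f_rc_23_1 lc_f_rc_43_0 lc_f_rc_44_2) (@D3.rec (fun _ => (Cert rels S Gen.f)) lc_f_rc_42_2 lc_f_rc_30_3 lc_f_rc_23_3 lc_f_rc_42_2 lc_f_rc_46_2 lc_f_rc_36_3 lc_f_rc_30_1 lc_f_rc_46_2 lc_f_rc_23_3 lc_f_rc_42_2 lc_f_rc_46_2 lc_f_rc_42_2 lc_f_rc_30_1 lc_f_rc_46_2 lc_f_rc_36_3 lc_f_rc_15_1 lc_f_rc_46_2 lc_f_rc_45_2 lc_f_rc_36_3 lc_f_rc_36_3 lc_f_rc_42_2 lc_f_rc_46_2 lc_f_rc_44_2 lc_f_rc_42_2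 lc_f_rc_30_1 lc_f_rc_46_2 lc_f_rc_6_1 lc_f_rc_44_2 lc_f_rc_46_2 lc_f_rc_23_1 lc_f_rc_44_2 lc_f_rc_30_1 lc_f_rc_46_2 lc_f_Cert_tree lc_f_rc_46_2 lc_f_rc_6_1 lc_f_rc_36_3 lc_f_rc_36_3 lc_f_rc_45_2 lc_f_rc_15_1 lc_f_rc_42_2 lc_f_rc_36_1 lc_f_rc_30_1 lc_f_rc_46_2 lc_f_rc_23_1 lc_f_rc_36_3 lc_f_rc_46_2 lc_f_Cert_tree lc_f_rc_43_0 lc_f_rc_43_0 lc_f_rc_46_0) (@D3.rec (fun _ => (Cert rels S Gen.f)) lc_f_rc_23_1 lc_f_rc_45_2 lc_f_rc_30_1 lc_f_Cert_tree lc_f_rc_43_0 lc_f_rc_30_1 lc_f_Cert_tree lc_f_rc_43_0 lc_f_rc_43_1 lc_f_rc_46_2 lc_f_rc_30_1 lc_f_rc_15_3 lc_f_rc_42_2 lc_f_rc_42_2 lc_f_rc_46_2 lc_f_rc_43_0 lc_f_rc_43_0 lc_f_rc_15_1 lc_f_rc_44_2 lc_f_rc_42_2 lc_f_rc_36_3 lc_f_rc_36_3 lc_f_rc_43_0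 lc_f_rc_15_1 lc_f_rc_15_1 lc_f_rc_42_2 lc_f_rc_15_1 lc_f_Cert_tree lc_f_rc_36_3 lc_f_rc_30_1 lc_f_rc_42_2 lc_f_rc_46_2 lc_f_rc_6_1 lc_f_rc_6_1 lc_f_rc_23_1 lc_f_rc_23_1 lc_f_Cert_tree lc_f_rc_15_1 lc_f_rc_15_1 lc_f_rc_15_1 lc_f_rc_43_0 lc_f_rc_45_2 lc_f_rc_43_1 lc_f_rc_42_2 lc_f_rc_46_2 lc_f_rc_43_0 lc_f_rc_43_1 lc_f_rc_15_1 lc_f_rc_15_1 lc_f_rc_42_2 lc_f_rc_46_2) (@D3.rec (fun _ => (Cert rels S Gen.f)) lc_f_rc_15_1 lc_f_Cert_tree lc_f_rc_36_3 lc_f_rc_30_1 lc_f_rc_42_2 lc_f_rc_46_2 lc_f_Cert_tree lc_f_rc_43_0 lc_f_rc_43_1 lc_f_rc_6_1 lc_f_rc_6_1 lc_f_rc_42_2 lc_f_rc_46_2 lc_f_rc_23_1 lc_f_rc_15_1 lc_f_rc_42_2 lc_f_rc_30_1 lc_f_rc_46_2 lc_f_Cert_tree lc_f_rc_15_1 lc_f_rc_15_1 lc_f_rc_15_1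 lc_f_rc_46_2 lc_f_rc_43_0 lc_f_rc_15_3 lc_f_rc_45_2 lc_f_rc_30_1 lc_f_rc_46_2 lc_f_rc_42_2 lc_f_rc_46_2 lc_f_rc_23_1 lc_f_rc_23_1 lc_f_rc_42_2 lc_f_rc_30_1 lc_f_rc_46_2 lc_f_Cert_tree lc_f_rc_15_1 lc_f_rc_15_1 lc_f_rc_15_1 lc_f_rc_46_2 lc_f_rc_43_0 lc_f_rc_45_2 lc_f_rc_43_1 lc_f_rc_30_1 lc_f_rc_46_2 lc_f_rc_42_2 lc_f_rc_46_2 lc_f_rc_43_0 lc_f_rc_43_1 lc_f_rc_6_1 lc_f_rc_6_1) (@D3.rec (fun _ => (Cert rels S Gen.f)) lc_f_rc_42_2 lc_f_rc_30_1 lc_f_rc_46_2 lc_f_Cert_tree lc_f_rc_6_1 lc_f_rc_6_1 lc_f_rc_6_1 lc_f_rc_46_2 lc_f_rc_30_1 lc_f_Cert_tree lc_f_rc_23_1 lc_f_rc_23_1 lc_f_rc_23_1 lc_f_rc_30_1 lc_f_rc_46_2 lc_f_Cert_tree lc_f_rc_46_2 lc_f_rc_43_0 lc_f_rc_45_2 lc_f_rc_43_1 lc_f_rc_30_1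 lc_f_rc_15_1 lc_f_rc_15_1 lc_f_rc_15_1 lc_f_rc_45_2 lc_f_rc_42_2 lc_f_rc_45_2 lc_f_rc_30_1 lc_f_rc_46_2 lc_f_rc_23_1 lc_f_rc_30_1 lc_f_rc_46_2 lc_f_rc_30_1 lc_f_Cert_tree lc_f_rc_23_1 lc_f_rc_23_1 lc_f_rc_23_1 lc_f_rc_30_1 lc_f_rc_46_2 lc_f_rc_46_2 lc_f_rc_43_0 lc_f_rc_45_2 lc_f_rc_43_1 lc_f_rc_30_1 lc_f_rc_15_1 lc_f_rc_15_1 lc_f_rc_15_1 lc_f_rc_45_2 lc_f_rc_42_2 lc_f_rc_45_2 lc_f_rc_30_1) (@D3.rec (fun _ => (Cert rels S Gen.f)) lc_f_rc_46_2 lc_f_rc_23_1 lc_f_rc_30_1 lc_f_rc_46_2 lc_f_rc_15_1 lc_f_rc_15_1 lc_f_rc_42_2 lc_f_rc_30_1 lc_f_rc_46_2 lc_f_rc_6_1 lc_f_Cert_tree lc_f_rc_6_1 lc_f_rc_6_1 lc_f_rc_6_1 lc_f_rc_30_1 lc_f_rc_46_2 lc_f_Cert_tree lc_f_rc_46_2 lc_f_rc_43_0 lc_f_rc_45_2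 lc_f_rc_43_1 lc_f_rc_6_1 lc_f_rc_6_1 lc_f_rc_45_2 lc_f_rc_6_1 lc_f_Cert_tree lc_f_rc_42_2 lc_f_rc_43_0 lc_f_rc_45_2 lc_f_rc_43_1 lc_f_rc_30_1 lc_f_rc_23_1 lc_f_rc_23_1 lc_f_rc_30_1 lc_f_rc_23_1 lc_f_Cert_tree lc_f_rc_46_2 lc_f_rc_43_0 lc_f_rc_46_2 lc_f_rc_42_2 lc_f_rc_45_2 lc_f_rc_42_2 lc_f_rc_45_2 lc_f_rc_30_1 lc_f_rc_46_2 lc_f_rc_23_1 lc_f_rc_30_1 lc_f_rc_15_1 lc_f_rc_44_2 lc_f_rc_45_2 lc_f_rc_30_1)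
def ce_f_6 : D2 → D3 → (Cert rels S Gen.f) := @D2.rec (fun _ => D3 → (Cert rels S Gen.f)) (@D3.rec (fun _ => (Cert rels S Gen.f)) lc_f_rc_46_2 lc_f_rc_45_2 lc_f_rc_46_2 lc_f_rc_23_1 lc_f_rc_46_2 lc_f_rc_15_1 lc_f_rc_23_1 lc_f_rc_42_2 lc_f_Cert_tree lc_f_rc_43_0 lc_f_rc_43_1 lc_f_rc_42_2 lc_f_rc_43_0 lc_f_rc_43_1 lc_f_rc_36_3 lc_f_rc_15_1 lc_f_rc_42_2 lc_f_rc_46_2 lc_f_rc_15_1 lc_f_rc_45_0 lc_f_rc_36_3 lc_f_rc_45_2 lc_f_rc_30_1 lc_f_rc_46_2 lc_f_Cert_tree lc_f_rc_43_0 lc_f_rc_43_1 lc_f_rc_6_1 lc_f_rc_6_1 lc_f_rc_42_2 lc_f_rc_46_2 lc_f_rc_6_1 lc_f_rc_23_1 lc_f_rc_44_2 lc_f_rc_42_2 lc_f_rc_30_1 lc_f_rc_46_2 lc_f_Cert_tree lc_f_rc_15_1 lc_f_rc_44_2 lc_f_rc_15_1 lc_f_rc_46_2 lc_f_rc_43_0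 lc_f_rc_45_2 lc_f_rc_43_1 lc_f_rc_30_1 lc_f_rc_46_2 lc_f_rc_42_2 lc_f_rc_46_2 lc_f_rc_43_0 lc_f_rc_43_1) (@D3.rec (fun _ => (Cert rels S Gen.f)) lc_f_rc_6_1 lc_f_rc_6_1 lc_f_rc_42_2 lc_f_rc_30_1 lc_f_rc_46_2 lc_f_Cert_tree lc_f_rc_6_1 lc_f_rc_6_1 lc_f_rc_6_1 lc_f_rc_46_2 lc_f_rc_30_1 lc_f_Cert_tree lc_f_rc_23_1 lc_f_rc_44_2 lc_f_rc_23_1 lc_f_rc_30_1 lc_f_rc_46_2 lc_f_Cert_tree lc_f_rc_46_2 lc_f_rc_43_0 lc_f_rc_45_2 lc_f_rc_43_1 lc_f_rc_30_1 lc_f_rc_15_1 lc_f_rc_45_2 lc_f_rc_44_2 lc_f_rc_45_2 lc_f_rc_42_2 lc_f_rc_23_1 lc_f_rc_45_2 lc_f_rc_46_2 lc_f_rc_23_1 lc_f_rc_30_1 lc_f_rc_45_2 lc_f_rc_23_3 lc_f_rc_43_0 lc_f_rc_43_1 lc_f_rc_6_1 lc_f_rc_6_1 lc_f_rc_42_2 lc_f_rc_46_2 lc_f_rc_6_1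 lc_f_rc_23_1 lc_f_rc_23_1 lc_f_rc_42_2 lc_f_rc_30_1 lc_f_rc_46_2 lc_f_Cert_tree lc_f_rc_36_3 lc_f_rc_15_1 lc_f_rc_15_1) (@D3.rec (fun _ => (Cert rels S Gen.f)) lc_f_rc_46_2 lc_f_rc_43_0 lc_f_rc_45_2 lc_f_rc_43_1 lc_f_rc_36_3 lc_f_rc_36_3 lc_f_rc_42_2 lc_f_rc_46_2 lc_f_rc_43_0 lc_f_rc_43_1 lc_f_rc_6_1 lc_f_rc_6_1 lc_f_rc_42_2 lc_f_rc_30_1 lc_f_rc_46_2 lc_f_Cert_tree lc_f_rc_6_1 lc_f_rc_6_1 lc_f_rc_6_1 lc_f_rc_46_2 lc_f_rc_30_1 lc_f_Cert_tree lc_f_rc_23_1 lc_f_rc_23_1 lc_f_rc_23_1 lc_f_rc_30_1 lc_f_rc_46_2 lc_f_Cert_tree lc_f_rc_46_2 lc_f_rc_43_0 lc_f_rc_45_2 lc_f_rc_43_1 lc_f_rc_30_1 lc_f_rc_15_1 lc_f_rc_15_1 lc_f_rc_15_1 lc_f_rc_45_2 lc_f_rc_42_2 lc_f_rc_45_2 lc_f_rc_30_1 lc_f_rc_46_2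 lc_f_rc_23_1 lc_f_rc_30_1 lc_f_rc_46_2 lc_f_rc_15_1 lc_f_rc_15_1 lc_f_rc_42_2 lc_f_rc_46_2 lc_f_rc_6_1 lc_f_Cert_tree lc_f_rc_6_1) (@D3.rec (fun _ => (Cert rels S Gen.f)) lc_f_rc_6_1 lc_f_rc_6_1 lc_f_rc_30_1 lc_f_rc_46_2 lc_f_rc_46_2 lc_f_rc_43_0 lc_f_rc_45_2 lc_f_rc_43_1 lc_f_rc_6_1 lc_f_rc_6_1 lc_f_rc_6_1 lc_f_rc_6_1 lc_f_Cert_tree lc_f_rc_42_2 lc_f_rc_43_0 lc_f_rc_45_2 lc_f_rc_43_1 lc_f_rc_30_1 lc_f_rc_23_1 lc_f_rc_23_1 lc_f_rc_30_1 lc_f_rc_23_1 lc_f_Cert_tree lc_f_rc_46_2 lc_f_rc_43_0 lc_f_rc_46_2 lc_f_rc_42_2 lc_f_rc_45_2 lc_f_rc_42_2 lc_f_rc_45_2 lc_f_rc_30_1 lc_f_rc_46_2 lc_f_rc_23_1 lc_f_rc_30_1 lc_f_rc_15_1 lc_f_rc_44_2 lc_f_rc_45_2 lc_f_rc_30_1 lc_f_rc_46_2 lc_f_rc_45_2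 lc_f_rc_46_2 lc_f_rc_23_1 lc_f_rc_46_2 lc_f_rc_15_1 lc_f_rc_23_1 lc_f_rc_42_2 lc_f_rc_43_0 lc_f_rc_43_1 lc_f_rc_6_1 lc_f_rc_42_2 lc_f_rc_30_1) (@D3.rec (fun _ => (Cert rels S Gen.f)) lc_f_rc_46_2 lc_f_rc_6_1 lc_f_rc_6_1 lc_f_rc_46_2 lc_f_rc_36_3 lc_f_rc_23_1 lc_f_rc_45_2 lc_f_rc_23_1 lc_f_rc_30_1 lc_f_rc_46_2 lc_f_Cert_tree lc_f_rc_46_2 lc_f_rc_43_0 lc_f_rc_36_3 lc_f_rc_43_1 lc_f_rc_36_3 lc_f_rc_15_1 lc_f_rc_15_1 lc_f_rc_45_2 lc_f_rc_42_2 lc_f_rc_45_2 lc_f_rc_30_1 lc_f_rc_46_2 lc_f_rc_23_1 lc_f_rc_36_3 lc_f_rc_46_2 lc_f_rc_15_1 lc_f_rc_15_1 lc_f_rc_42_2 lc_f_rc_46_2 lc_f_Cert_tree lc_f_rc_6_1 lc_f_rc_6_1 lc_f_rc_6_1 lc_f_rc_30_1 lc_f_rc_46_2 lc_f_rc_46_2 lc_f_rc_43_0 lc_f_rc_45_2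 lc_f_rc_43_1 lc_f_rc_6_1 lc_f_rc_6_1 lc_f_rc_6_1 lc_f_Cert_tree lc_f_rc_42_2 lc_f_rc_43_0 lc_f_rc_45_2 lc_f_rc_43_1 lc_f_rc_30_1 lc_f_rc_23_1 lc_f_rc_23_1) (@D3.rec (fun _ => (Cert rels S Gen.f)) lc_f_rc_30_1 lc_f_rc_23_1 lc_f_Cert_tree lc_f_rc_46_2 lc_f_rc_43_0 lc_f_rc_46_2 lc_f_rc_42_2 lc_f_rc_45_2 lc_f_rc_42_2 lc_f_rc_45_2 lc_f_rc_30_1 lc_f_rc_46_2 lc_f_rc_23_1 lc_f_rc_30_1 lc_f_rc_15_1 lc_f_rc_44_2 lc_f_rc_45_2 lc_f_rc_30_1 lc_f_rc_46_2 lc_f_rc_45_2 lc_f_rc_46_2 lc_f_rc_23_1 lc_f_rc_46_2 lc_f_rc_15_1 lc_f_rc_23_1 lc_f_rc_42_2 lc_f_rc_15_1 lc_f_Cert_tree lc_f_rc_15_1 lc_f_rc_15_1 lc_f_rc_15_1 lc_f_rc_46_2 lc_f_Cert_tree lc_f_rc_6_1 lc_f_rc_43_0 lc_f_rc_45_2 lc_f_rc_43_1 lc_f_rc_6_1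 lc_f_rc_6_1 lc_f_rc_6_1 lc_f_rc_6_1 lc_f_rc_6_1 lc_f_rc_15_1 lc_f_rc_46_2 lc_f_rc_42_2 lc_f_rc_45_2 lc_f_rc_42_2 lc_f_rc_45_2 lc_f_rc_30_1 lc_f_rc_46_2 lc_f_rc_23_1) (@D3.rec (fun _ => (Cert rels S Gen.f)) lc_f_rc_6_1 lc_f_rc_6_1 lc_f_rc_43_0 lc_f_rc_45_2 lc_f_rc_43_1 lc_f_rc_42_2 lc_f_rc_46_2 lc_f_rc_45_2 lc_f_rc_42_2 lc_f_rc_45_2 lc_f_rc_30_1 lc_f_rc_46_2 lc_f_rc_23_1 lc_f_Cert_tree lc_f_rc_30_1 lc_f_rc_30_1 lc_f_rc_23_1 lc_f_Cert_tree lc_f_rc_30_1 lc_f_rc_43_0 lc_f_rc_46_2 lc_f_rc_42_2 lc_f_rc_44_2 lc_f_rc_46_2 lc_f_rc_42_2 lc_f_rc_44_2 lc_f_rc_45_2 lc_f_rc_30_1 lc_f_rc_46_2 lc_f_rc_45_2 lc_f_rc_46_2 lc_f_rc_23_1 lc_f_rc_46_2 lc_f_rc_15_1 lc_f_rc_23_1 lc_f_rc_42_2 lc_f_rc_45_2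 lc_f_rc_45_2 lc_f_rc_46_2 lc_f_rc_23_1 lc_f_rc_44_2 lc_f_rc_46_2 lc_f_rc_23_1 lc_f_rc_46_2 lc_f_rc_15_1 lc_f_rc_23_1 lc_f_rc_42_2 lc_f_rc_6_1 lc_f_rc_15_1 lc_f_rc_23_1 lc_f_rc_30_1) (@D3.rec (fun _ => (Cert rels S Gen.f)) lc_f_rc_42_0 lc_f_rc_23_1 lc_f_rc_15_1 lc_f_rc_45_2 lc_f_rc_43_0 lc_f_rc_45_2 lc_f_rc_43_1 lc_f_rc_46_2 lc_f_rc_45_2 lc_f_rc_44_2 lc_f_rc_45_2 lc_f_rc_30_1 lc_f_rc_45_2 lc_f_rc_23_1 lc_f_rc_15_1 lc_f_rc_42_2 lc_f_rc_45_2 lc_f_rc_46_2 lc_f_rc_23_1 lc_f_rc_36_3 lc_f_rc_46_2 lc_f_rc_23_1 lc_f_rc_46_2 lc_f_rc_15_1 lc_f_rc_42_0 lc_f_rc_42_2 lc_f_rc_6_1 lc_f_rc_15_1 lc_f_rc_23_1 lc_f_rc_43_0 lc_f_rc_45_2 lc_f_rc_43_1 lc_f_rc_6_1 lc_f_rc_45_2 lc_f_rc_6_1 lc_f_rc_45_2 lc_f_rc_30_1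 lc_f_rc_45_2 lc_f_rc_23_1 lc_f_rc_15_1 lc_f_rc_36_3 lc_f_rc_45_2 lc_f_rc_42_2 lc_f_rc_45_2 lc_f_rc_30_1 lc_f_rc_46_2 lc_f_rc_23_1 lc_f_rc_46_2 lc_f_rc_44_2 lc_f_rc_45_2 lc_f_rc_30_1) (@D3.rec (fun _ => (Cert rels S Gen.f)) lc_f_rc_45_2 lc_f_rc_23_1 lc_f_rc_15_1 lc_f_rc_45_2 lc_f_rc_45_2 lc_f_rc_46_2 lc_f_rc_23_1 lc_f_rc_44_2 lc_f_rc_46_2 lc_f_rc_23_1 lc_f_rc_46_2 lc_f_rc_15_1 lc_f_rc_23_1 lc_f_rc_42_2 lc_f_rc_6_1 lc_f_rc_15_1 lc_f_rc_23_1 lc_f_rc_45_2 lc_f_rc_45_2 lc_f_rc_23_1 lc_f_rc_45_2 lc_f_rc_46_2 lc_f_rc_15_1 lc_f_rc_23_1 lc_f_rc_23_1 lc_f_rc_46_2 lc_f_rc_42_2 lc_f_rc_15_1 lc_f_rc_45_2 lc_f_rc_42_2 lc_f_rc_6_1 lc_f_rc_15_1 lc_f_rc_42_2 lc_f_rc_6_1 lc_f_rc_15_1 lc_f_rc_30_1 lc_f_rc_46_0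 lc_f_rc_36_3 lc_f_rc_42_2 lc_f_rc_43_0 lc_f_rc_23_1 lc_f_rc_15_1 lc_f_rc_46_2 lc_f_rc_6_1 lc_f_rc_23_1 lc_f_Cert_tree lc_f_rc_15_1 lc_f_rc_23_1 lc_f_rc_46_2 lc_f_rc_43_0 lc_f_rc_42_2) (@D3.rec (fun _ => (Cert rels S Gen.f)) lc_f_rc_30_1 lc_f_rc_23_1 lc_f_rc_23_1 lc_f_rc_42_2 lc_f_Cert_tree lc_f_rc_15_1 lc_f_rc_46_2 lc_f_rc_43_0 lc_f_rc_46_2 lc_f_Cert_tree lc_f_rc_23_1 lc_f_Cert_tree lc_f_rc_43_0 lc_f_rc_45_2 lc_f_rc_43_1 lc_f_rc_15_1 lc_f_rc_46_2 lc_f_rc_15_1 lc_f_rc_15_1 lc_f_rc_45_2 lc_f_rc_42_2 lc_f_rc_45_2 lc_f_rc_30_1 lc_f_rc_44_2 lc_f_rc_55_32 lc_f_rc_46_2 lc_f_rc_46_2 lc_f_rc_23_1 lc_f_rc_15_1 lc_f_rc_42_2 lc_f_rc_46_2 lc_f_rc_30_1 lc_f_rc_15_1 lc_f_rc_15_1 lc_f_rc_15_1 lc_f_rc_46_2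 lc_f_rc_46_2 lc_f_rc_46_2 lc_f_rc_43_0 lc_f_rc_43_1 lc_f_rc_6_1 lc_f_rc_6_1 lc_f_rc_42_2 lc_f_rc_30_1 lc_f_rc_46_2 lc_f_Cert_tree lc_f_rc_6_1 lc_f_rc_6_1 lc_f_rc_6_1 lc_f_rc_46_2 lc_f_rc_30_1) (@D3.rec (fun _ => (Cert rels S Gen.f)) lc_f_Cert_tree lc_f_rc_23_1 lc_f_rc_23_1 lc_f_rc_30_1 lc_f_rc_46_2 lc_f_Cert_tree lc_f_rc_46_2 lc_f_rc_43_0 lc_f_rc_45_2 lc_f_rc_43_1 lc_f_rc_30_1 lc_f_rc_15_1 lc_f_rc_15_1 lc_f_rc_15_1 lc_f_rc_42_2 lc_f_rc_46_2 lc_f_rc_44_2 lc_f_rc_46_2 lc_f_rc_6_1 lc_f_rc_30_1 lc_f_rc_46_2 lc_f_rc_46_2 lc_f_rc_46_2 lc_f_rc_30_1 lc_f_Cert_tree lc_f_rc_23_1 lc_f_rc_23_1 lc_f_rc_23_1 lc_f_rc_46_2 lc_f_rc_43_0 lc_f_rc_45_2 lc_f_rc_43_1 lc_f_rc_30_1 lc_f_rc_15_1 lc_f_rc_15_1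 lc_f_rc_15_1 lc_f_rc_45_2 lc_f_rc_42_2 lc_f_rc_46_2 lc_f_rc_30_1 lc_f_rc_46_2 lc_f_rc_15_1 lc_f_rc_15_1 lc_f_rc_42_2 lc_f_rc_46_2 lc_f_rc_6_1 lc_f_Cert_tree lc_f_rc_6_1 lc_f_rc_6_1 lc_f_rc_6_1 lc_f_rc_30_1) (@D3.rec (fun _ => (Cert rels S Gen.f)) lc_f_rc_46_2 lc_f_rc_46_2 lc_f_rc_43_0 lc_f_rc_45_2 lc_f_rc_43_1 lc_f_rc_6_1 lc_f_rc_6_1 lc_f_rc_6_1 lc_f_rc_6_1 lc_f_Cert_tree lc_f_rc_42_2 lc_f_rc_43_0 lc_f_rc_45_2 lc_f_rc_43_1 lc_f_rc_30_1 lc_f_rc_23_1 lc_f_rc_23_1 lc_f_rc_30_1 lc_f_rc_23_1 lc_f_Cert_tree lc_f_rc_46_2 lc_f_rc_43_0 lc_f_rc_46_2 lc_f_rc_45_2 lc_f_rc_42_2 lc_f_rc_45_2 lc_f_rc_30_1 lc_f_rc_46_2 lc_f_rc_23_1 lc_f_rc_30_1 lc_f_rc_15_1 lc_f_rc_46_2 lc_f_rc_45_2 lc_f_rc_30_1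 lc_f_rc_46_2 lc_f_rc_45_2 lc_f_rc_46_2 lc_f_rc_23_1 lc_f_rc_46_2 lc_f_rc_15_1 lc_f_rc_23_1 lc_f_rc_42_2 lc_f_rc_36_1 lc_f_rc_36_1 lc_f_rc_23_1 lc_f_rc_30_1 lc_f_rc_46_2 lc_f_Cert_tree lc_f_rc_42_2 lc_f_rc_43_0 lc_f_rc_45_2) (@D3.rec (fun _ => (Cert rels S Gen.f)) lc_f_rc_43_1 lc_f_rc_30_1 lc_f_rc_23_1 lc_f_rc_23_1 lc_f_rc_23_1 lc_f_rc_45_2 lc_f_rc_42_2 lc_f_rc_45_2 lc_f_rc_30_1 lc_f_rc_46_2 lc_f_rc_23_1 lc_f_rc_30_1 lc_f_rc_15_1 lc_f_rc_44_2 lc_f_rc_45_2 lc_f_rc_30_1 lc_f_rc_46_2 lc_f_rc_30_1 lc_f_rc_46_2 lc_f_rc_23_1 lc_f_rc_46_2 lc_f_rc_15_1 lc_f_rc_23_1 lc_f_rc_42_2 lc_f_rc_15_1 lc_f_Cert_tree lc_f_rc_15_1 lc_f_rc_6_3 lc_f_rc_15_1 lc_f_rc_46_2 lc_f_Cert_tree lc_f_rc_6_1 lc_f_rc_43_0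 lc_f_rc_45_2 lc_f_rc_43_1 lc_f_rc_6_1 lc_f_rc_6_1 lc_f_rc_6_1 lc_f_rc_6_1 lc_f_rc_6_1 lc_f_rc_15_1 lc_f_rc_46_2 lc_f_rc_45_2 lc_f_rc_42_2 lc_f_rc_45_2 lc_f_rc_30_1 lc_f_rc_46_2 lc_f_rc_23_1 lc_f_rc_6_1 lc_f_rc_6_1 lc_f_rc_43_0) (@D3.rec (fun _ => (Cert rels S Gen.f)) lc_f_rc_45_2 lc_f_rc_43_1 lc_f_rc_42_2 lc_f_rc_46_2 lc_f_rc_45_2 lc_f_rc_42_2 lc_f_rc_45_2 lc_f_rc_30_1 lc_f_rc_46_2 lc_f_rc_23_1 lc_f_Cert_tree lc_f_rc_30_1 lc_f_rc_6_3 lc_f_rc_23_1 lc_f_Cert_tree lc_f_rc_30_1 lc_f_rc_43_0 lc_f_rc_46_2 lc_f_rc_44_2 lc_f_rc_46_2 lc_f_rc_15_1 lc_f_rc_45_2 lc_f_rc_30_1 lc_f_rc_46_2 lc_f_rc_45_2 lc_f_rc_46_2 lc_f_rc_23_1 lc_f_rc_46_2 lc_f_rc_15_1 lc_f_rc_23_1 lc_f_rc_42_2 lc_f_rc_23_1 lc_f_rc_45_2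 lc_f_rc_46_2 lc_f_rc_23_1 lc_f_rc_36_3 lc_f_rc_46_2 lc_f_rc_23_1 lc_f_rc_46_2 lc_f_rc_15_1 lc_f_rc_23_1 lc_f_rc_42_2 lc_f_rc_6_1 lc_f_rc_15_1 lc_f_rc_23_1 lc_f_rc_43_0 lc_f_rc_6_1 lc_f_rc_6_1 lc_f_rc_42_2 lc_f_rc_46_2 lc_f_Cert_tree) (@D3.rec (fun _ => (Cert rels S Gen.f)) lc_f_rc_6_1 lc_f_rc_6_1 lc_f_rc_42_2 lc_f_rc_46_2 lc_f_rc_30_1 lc_f_Cert_tree lc_f_rc_23_1 lc_f_rc_44_2 lc_f_rc_23_1 lc_f_rc_30_1 lc_f_rc_46_2 lc_f_rc_46_2 lc_f_rc_43_0 lc_f_rc_23_3 lc_f_rc_45_2 lc_f_rc_30_1 lc_f_rc_15_1 lc_f_rc_15_1 lc_f_rc_15_1 lc_f_rc_15_3 lc_f_rc_30_1 lc_f_rc_46_2 lc_f_rc_15_1 lc_f_rc_15_1 lc_f_rc_6_1 lc_f_Cert_tree lc_f_rc_6_1 lc_f_rc_6_1 lc_f_rc_23_1 lc_f_rc_46_2 lc_f_rc_43_0 lc_f_rc_45_2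 lc_f_rc_43_1 lc_f_rc_6_1 lc_f_rc_6_1 lc_f_rc_6_1 lc_f_rc_6_1 lc_f_Cert_tree lc_f_rc_42_2 lc_f_rc_43_0 lc_f_rc_45_2 lc_f_rc_43_1 lc_f_rc_30_1 lc_f_rc_23_1 lc_f_rc_23_1 lc_f_rc_23_1 lc_f_rc_23_1 lc_f_Cert_tree lc_f_rc_46_2 lc_f_rc_43_0 lc_f_rc_46_2) (@D3.rec (fun _ => (Cert rels S Gen.f)) lc_f_rc_45_2 lc_f_rc_42_2 lc_f_rc_45_2 lc_f_rc_30_1 lc_f_rc_46_2 lc_f_rc_23_1 lc_f_rc_30_1 lc_f_rc_44_2 lc_f_rc_44_2 lc_f_rc_45_2 lc_f_rc_30_1 lc_f_rc_46_2 lc_f_rc_45_2 lc_f_rc_6_3 lc_f_rc_15_3 lc_f_rc_46_2 lc_f_rc_15_1 lc_f_rc_23_1 lc_f_rc_42_2 lc_f_rc_15_1 lc_f_rc_15_1 lc_f_rc_6_1 lc_f_Cert_tree lc_f_rc_6_1 lc_f_rc_6_1 lc_f_rc_6_1 lc_f_rc_46_2 lc_f_rc_43_0 lc_f_rc_45_2 lc_f_rc_43_1 lc_f_rc_6_1 lc_f_rc_6_1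 lc_f_rc_6_1 lc_f_rc_6_1 lc_f_Cert_tree lc_f_rc_42_2 lc_f_rc_43_0 lc_f_rc_45_2 lc_f_rc_43_1 lc_f_rc_30_1 lc_f_rc_23_1 lc_f_rc_23_1 lc_f_rc_30_1 lc_f_rc_23_1 lc_f_rc_36_3 lc_f_rc_46_2 lc_f_rc_45_2 lc_f_rc_42_2 lc_f_rc_45_2 lc_f_rc_30_1 lc_f_rc_46_2) (@D3.rec (fun _ => (Cert rels S Gen.f)) lc_f_rc_23_1 lc_f_rc_30_1 lc_f_rc_15_1 lc_f_rc_15_3 lc_f_rc_45_2 lc_f_rc_30_1 lc_f_rc_46_2 lc_f_rc_46_2 lc_f_rc_46_2 lc_f_rc_15_1 lc_f_rc_23_1 lc_f_rc_42_2 lc_f_rc_15_1 lc_f_Cert_tree lc_f_rc_15_1 lc_f_Cert_tree lc_f_rc_6_1 lc_f_rc_43_0 lc_f_rc_45_2 lc_f_rc_43_1 lc_f_rc_6_1 lc_f_rc_6_1 lc_f_rc_6_1 lc_f_rc_6_1 lc_f_rc_45_2 lc_f_rc_42_2 lc_f_rc_45_2 lc_f_rc_30_1 lc_f_rc_46_2 lc_f_rc_23_1 lc_f_rc_6_1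 lc_f_rc_6_1 lc_f_rc_43_0 lc_f_rc_45_2 lc_f_rc_43_1 lc_f_rc_42_2 lc_f_rc_46_2 lc_f_rc_45_2 lc_f_rc_42_2 lc_f_rc_45_2 lc_f_rc_30_1 lc_f_rc_46_2 lc_f_rc_23_1 lc_f_Cert_tree lc_f_rc_30_1 lc_f_rc_30_1 lc_f_rc_23_1 lc_f_Cert_tree lc_f_rc_30_1 lc_f_rc_43_0 lc_f_rc_46_2) (@D3.rec (fun _ => (Cert rels S Gen.f)) lc_f_rc_44_2 lc_f_rc_46_2 lc_f_rc_15_1 lc_f_rc_45_2 lc_f_rc_30_1 lc_f_rc_46_2 lc_f_rc_45_2 lc_f_rc_46_2 lc_f_rc_23_1 lc_f_rc_46_2 lc_f_rc_15_1 lc_f_rc_23_1 lc_f_rc_42_2 lc_f_rc_42_2 lc_f_rc_45_2 lc_f_rc_46_2 lc_f_rc_23_1 lc_f_rc_36_3 lc_f_rc_46_2 lc_f_rc_23_1 lc_f_rc_46_2 lc_f_rc_15_1 lc_f_rc_23_1 lc_f_rc_42_2 lc_f_rc_6_1 lc_f_rc_15_1 lc_f_rc_23_1 lc_f_Cert_tree lc_f_rc_45_2 lc_f_rc_43_0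 lc_f_rc_45_2 lc_f_rc_43_1 lc_f_rc_6_1 lc_f_rc_6_1 lc_f_rc_6_1 lc_f_rc_6_1 lc_f_rc_45_2 lc_f_rc_42_2 lc_f_rc_45_2 lc_f_rc_46_2 lc_f_rc_6_1 lc_f_rc_43_0 lc_f_rc_45_2 lc_f_rc_43_1 lc_f_rc_42_2 lc_f_rc_46_2 lc_f_rc_45_2 lc_f_rc_42_2 lc_f_rc_45_2 lc_f_rc_30_1 lc_f_rc_46_2) (@D3.rec (fun _ => (Cert rels S Gen.f)) lc_f_rc_23_1 lc_f_rc_15_1 lc_f_rc_30_1 lc_f_rc_30_1 lc_f_rc_23_1 lc_f_Cert_tree lc_f_rc_30_1 lc_f_rc_6_3 lc_f_rc_44_2 lc_f_rc_45_2 lc_f_rc_30_1 lc_f_rc_46_2 lc_f_rc_45_2 lc_f_rc_46_2 lc_f_rc_23_1 lc_f_rc_46_2 lc_f_rc_15_1 lc_f_rc_23_1 lc_f_rc_42_2 lc_f_rc_45_2 lc_f_rc_46_2 lc_f_rc_23_1 lc_f_rc_36_3 lc_f_rc_46_2 lc_f_rc_23_1 lc_f_rc_46_2 lc_f_rc_15_1 lc_f_rc_23_1 lc_f_rc_42_2 lc_f_rc_6_1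 lc_f_rc_15_1 lc_f_rc_23_1 lc_f_Cert_tree lc_f_rc_15_1 lc_f_rc_43_0 lc_f_rc_45_2 lc_f_rc_43_0 lc_f_rc_45_2 lc_f_rc_43_1 lc_f_rc_6_1 lc_f_rc_6_1 lc_f_rc_45_2 lc_f_rc_42_2 lc_f_rc_45_2 lc_f_rc_30_1 lc_f_rc_46_2 lc_f_rc_23_1 lc_f_rc_6_1 lc_f_rc_6_1 lc_f_rc_6_1 lc_f_rc_45_2) (@D3.rec (fun _ => (Cert rels S Gen.f)) lc_f_rc_30_1 lc_f_rc_46_2 lc_f_rc_45_2 lc_f_rc_46_2 lc_f_rc_23_1 lc_f_rc_46_2 lc_f_rc_15_1 lc_f_rc_23_1 lc_f_rc_36_3 lc_f_rc_45_2 lc_f_rc_42_2 lc_f_rc_45_2 lc_f_rc_30_1 lc_f_rc_46_2 lc_f_rc_23_1 lc_f_Cert_tree lc_f_rc_46_2 lc_f_rc_44_2 lc_f_rc_45_2 lc_f_rc_30_1 lc_f_rc_46_2 lc_f_rc_45_2 lc_f_rc_46_2 lc_f_rc_23_1 lc_f_Cert_tree lc_f_rc_46_2 lc_f_rc_15_1 lc_f_Cert_tree lc_f_rc_23_1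 lc_f_rc_43_0 lc_f_rc_46_2 lc_f_rc_42_2 lc_f_Cert_tree lc_f_rc_30_1 lc_f_rc_43_0 lc_f_rc_46_2 lc_f_rc_44_2 lc_f_rc_46_2 lc_f_rc_45_2 lc_f_rc_44_2 lc_f_rc_44_2 lc_f_rc_45_2 lc_f_rc_46_2 lc_f_rc_23_1 lc_f_rc_36_3 lc_f_rc_46_2 lc_f_rc_23_1 lc_f_rc_46_2 lc_f_rc_15_1 lc_f_rc_23_1 lc_f_rc_42_2) (@D3.rec (fun _ => (Cert rels S Gen.f)) lc_f_rc_6_1 lc_f_rc_15_1 lc_f_rc_23_1 lc_f_rc_44_2 lc_f_rc_44_2 lc_f_rc_23_1 lc_f_rc_42_2 lc_f_rc_46_2 lc_f_rc_15_1 lc_f_rc_42_2 lc_f_rc_23_1 lc_f_rc_36_3 lc_f_rc_42_2 lc_f_rc_15_1 lc_f_rc_23_1 lc_f_rc_42_2 lc_f_rc_6_1 lc_f_rc_15_1 lc_f_rc_42_2 lc_f_rc_6_1 lc_f_rc_15_1 lc_f_rc_30_1 lc_f_rc_6_1 lc_f_rc_36_3 lc_f_rc_45_2 lc_f_rc_42_2 lc_f_rc_45_2 lc_f_rc_46_2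 lc_f_rc_44_2 lc_f_rc_42_2 lc_f_rc_45_2 lc_f_rc_23_1 lc_f_rc_36_3 lc_f_rc_23_1 lc_f_rc_15_1 lc_f_rc_6_1 lc_f_rc_44_2 lc_f_rc_42_2 lc_f_rc_23_1 lc_f_rc_36_3 lc_f_rc_46_2 lc_f_rc_15_1 lc_f_rc_23_1 lc_f_rc_23_1 lc_f_rc_36_3 lc_f_rc_42_2 lc_f_rc_15_1 lc_f_rc_46_2 lc_f_rc_42_2 lc_f_rc_6_1 lc_f_rc_15_1) (@D3.rec (fun _ => (Cert rels S Gen.f)) lc_f_rc_42_2 lc_f_rc_6_1 lc_f_rc_15_1 lc_f_rc_30_1 lc_f_rc_6_1 lc_f_rc_45_2 lc_f_rc_42_2 lc_f_rc_45_2 lc_f_rc_46_2 lc_f_rc_6_1 lc_f_rc_6_1 lc_f_rc_45_2 lc_f_rc_23_1 lc_f_rc_6_1 lc_f_rc_23_1 lc_f_rc_15_1 lc_f_rc_6_1 lc_f_rc_36_3 lc_f_rc_36_3 lc_f_rc_44_2 lc_f_rc_45_2 lc_f_rc_30_1 lc_f_rc_46_2 lc_f_rc_45_2 lc_f_rc_46_2 lc_f_rc_23_1 lc_f_rc_46_2 lc_f_rc_15_1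 lc_f_rc_23_1 lc_f_rc_23_1 lc_f_rc_45_2 lc_f_rc_23_1 lc_f_rc_36_3 lc_f_rc_23_1 lc_f_rc_15_1 lc_f_rc_6_1 lc_f_rc_44_2 lc_f_rc_44_2 lc_f_rc_23_1 lc_f_rc_15_1 lc_f_rc_46_2 lc_f_rc_15_1 lc_f_rc_23_1 lc_f_rc_23_1 lc_f_rc_23_3 lc_f_rc_42_2 lc_f_rc_15_1 lc_f_rc_23_1 lc_f_rc_23_3 lc_f_rc_6_1 lc_f_rc_45_2) (@D3.rec (fun _ => (Cert rels S Gen.f)) lc_f_rc_42_2 lc_f_rc_6_1 lc_f_rc_15_1 lc_f_rc_30_1 lc_f_rc_6_1 lc_f_rc_23_3 lc_f_rc_23_3 lc_f_rc_23_3 lc_f_rc_45_2 lc_f_rc_6_1 lc_f_rc_15_1 lc_f_rc_15_1 lc_f_rc_6_1 lc_f_rc_6_1 lc_f_rc_23_1 lc_f_rc_46_2 lc_f_rc_23_1 lc_f_rc_6_1 lc_f_rc_6_1 lc_f_rc_46_2 lc_f_rc_23_1 lc_f_Cert_tree lc_f_rc_30_1 lc_f_rc_44_2 lc_f_rc_44_2 lc_f_rc_30_1 lc_f_rc_44_2 lc_f_rc_43_0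 lc_f_rc_46_2 lc_f_rc_44_2 lc_f_rc_46_2 lc_f_rc_30_1 lc_f_rc_46_2 lc_f_rc_30_1 lc_f_rc_46_2 lc_f_rc_6_1 lc_f_rc_46_2 lc_f_rc_15_1 lc_f_rc_23_1 lc_f_rc_42_2 lc_f_rc_45_2 lc_f_rc_46_2 lc_f_rc_23_1 lc_f_rc_36_3 lc_f_rc_46_2 lc_f_rc_23_1 lc_f_rc_46_2 lc_f_rc_15_1 lc_f_rc_23_1 lc_f_rc_42_2 lc_f_rc_6_1) (@D3.rec (fun _ => (Cert rels S Gen.f)) lc_f_rc_15_1 lc_f_rc_23_1 lc_f_rc_46_2 lc_f_rc_23_1 lc_f_rc_6_1 lc_f_rc_6_1 lc_f_rc_30_1 lc_f_rc_46_2 lc_f_rc_23_1 lc_f_rc_46_2 lc_f_rc_45_2 lc_f_rc_46_2 lc_f_rc_15_1 lc_f_rc_23_1 lc_f_rc_6_1 lc_f_rc_23_1 lc_f_Cert_tree lc_f_rc_46_2 lc_f_rc_46_2 lc_f_rc_46_2 lc_f_rc_6_1 lc_f_Cert_tree lc_f_rc_46_2 lc_f_rc_15_1 lc_f_Cert_tree lc_f_rc_23_1 lc_f_rc_43_0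 lc_f_rc_46_2 lc_f_rc_42_2 lc_f_Cert_tree lc_f_rc_30_1 lc_f_rc_43_0 lc_f_rc_46_2 lc_f_rc_44_2 lc_f_rc_46_2 lc_f_rc_45_2 lc_f_rc_44_2 lc_f_rc_45_2 lc_f_rc_46_2 lc_f_rc_23_1 lc_f_rc_36_3 lc_f_rc_46_2 lc_f_rc_45_2 lc_f_rc_46_2 lc_f_rc_15_1 lc_f_rc_23_1 lc_f_rc_42_2 lc_f_rc_6_1 lc_f_rc_15_1 lc_f_rc_23_1 lc_f_rc_44_2) (@D3.rec (fun _ => (Cert rels S Gen.f)) lc_f_rc_23_1 lc_f_rc_46_2 lc_f_rc_15_1 lc_f_rc_23_1 lc_f_rc_23_1 lc_f_rc_36_3 lc_f_rc_42_2 lc_f_rc_15_1 lc_f_rc_23_1 lc_f_rc_42_2 lc_f_rc_6_1 lc_f_rc_15_1 lc_f_rc_42_2 lc_f_rc_6_1 lc_f_rc_15_1 lc_f_rc_30_1 lc_f_rc_30_1 lc_f_rc_46_2 lc_f_rc_6_3 lc_f_rc_30_3 lc_f_rc_23_1 lc_f_rc_46_2 lc_f_rc_15_1 lc_f_rc_23_1 lc_f_rc_6_1 lc_f_rc_45_2 lc_f_rc_46_2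 lc_f_rc_23_1 lc_f_rc_6_1 lc_f_rc_46_2 lc_f_rc_23_1 lc_f_rc_46_2 lc_f_rc_15_1 lc_f_rc_23_1 lc_f_rc_42_2 lc_f_rc_6_1 lc_f_rc_15_1 lc_f_rc_23_1 lc_f_rc_45_2 lc_f_rc_46_2 lc_f_rc_23_1 lc_f_Cert_tree lc_f_rc_46_2 lc_f_rc_23_1 lc_f_Cert_tree lc_f_rc_46_2 lc_f_rc_15_1 lc_f_Cert_tree lc_f_rc_23_1 lc_f_rc_43_0 lc_f_rc_46_2) (@D3.rec (fun _ => (Cert rels S Gen.f)) lc_f_rc_42_2 lc_f_rc_6_1 lc_f_Cert_tree lc_f_rc_15_1 lc_f_rc_43_0 lc_f_rc_46_2 lc_f_rc_23_1 lc_f_rc_44_2 lc_f_rc_46_2 lc_f_rc_42_2 lc_f_rc_43_0 lc_f_rc_46_2 lc_f_rc_44_2 lc_f_rc_46_2 lc_f_rc_45_2 lc_f_rc_46_2 lc_f_rc_6_3 lc_f_rc_44_2 lc_f_rc_23_1 lc_f_rc_46_2 lc_f_rc_15_1 lc_f_rc_23_1 lc_f_rc_23_1 lc_f_rc_36_3 lc_f_rc_42_2 lc_f_rc_45_2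 lc_f_rc_23_1 lc_f_rc_23_3 lc_f_rc_6_1 lc_f_rc_15_1 lc_f_rc_42_2 lc_f_rc_6_1 lc_f_rc_15_1 lc_f_rc_30_1 lc_f_rc_6_1 lc_f_rc_23_3 lc_f_rc_23_3 lc_f_rc_6_1 lc_f_rc_23_1 lc_f_rc_15_1 lc_f_rc_23_1 lc_f_rc_23_1 lc_f_rc_15_1 lc_f_rc_46_2 lc_f_rc_6_1 lc_f_rc_15_1 lc_f_rc_6_1 lc_f_rc_6_1 lc_f_rc_15_1 lc_f_rc_30_1 lc_f_rc_30_1) (@D3.rec (fun _ => (Cert rels S Gen.f)) lc_f_rc_15_1 lc_f_rc_6_1 lc_f_rc_15_1 lc_f_rc_30_3 lc_f_rc_23_1 lc_f_rc_43_0 lc_f_rc_36_5 lc_f_rc_6_1 lc_f_rc_46_2 lc_f_rc_43_0 lc_f_rc_44_2 lc_f_rc_43_0 lc_f_rc_30_1 lc_f_rc_43_1 lc_f_rc_46_2 lc_f_rc_23_1 lc_f_rc_30_1 lc_f_rc_15_1 lc_f_rc_36_5 lc_f_rc_6_1 lc_f_rc_6_1 lc_f_rc_30_1 lc_f_rc_36_3 lc_f_rc_42_2 lc_f_rc_42_2 lc_f_rc_42_2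 lc_f_rc_46_2 lc_f_rc_23_1 lc_f_rc_6_1 lc_f_rc_46_2 lc_f_rc_36_3 lc_f_rc_15_3 lc_f_rc_43_0 lc_f_rc_44_2 lc_f_rc_45_2 lc_f_rc_36_5 lc_f_rc_36_5 lc_f_rc_46_2 lc_f_rc_43_0 lc_f_rc_23_1 lc_f_rc_36_5 lc_f_rc_45_2 lc_f_rc_42_2 lc_f_rc_46_2 lc_f_rc_45_2 lc_f_rc_46_2 lc_f_rc_6_3 lc_f_Cert_tree lc_f_rc_46_2 lc_f_rc_43_0 lc_f_rc_43_0)
def ce_f_7 : D2 → D3 → (Cert rels S Gen.f) := @D2.rec (fun _ => D3 → (Cert rels S Gen.f)) (@D3.rec (fun _ => (Cert rels S Gen.f)) lc_f_rc_44_2 lc_f_rc_45_2 lc_f_rc_43_0 lc_f_rc_30_1 lc_f_rc_43_1 lc_f_rc_46_2 lc_f_rc_36_3 lc_f_rc_42_2 lc_f_rc_30_1 lc_f_rc_42_2 lc_f_rc_46_2 lc_f_rc_23_1 lc_f_rc_46_2 lc_f_rc_42_0 lc_f_rc_6_1 lc_f_rc_42_2 lc_f_rc_36_5 lc_f_rc_46_2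 lc_f_rc_36_3 lc_f_rc_46_2 lc_f_rc_46_2 lc_f_Cert_tree lc_f_rc_46_2 lc_f_rc_43_0 lc_f_rc_46_2 lc_f_rc_43_0 lc_f_rc_44_2 lc_f_rc_43_0 lc_f_rc_44_2 lc_f_rc_45_2 lc_f_rc_6_1 lc_f_rc_42_2 lc_f_rc_36_5 lc_f_rc_46_2 lc_f_rc_36_3 lc_f_rc_36_3 lc_f_rc_45_2 lc_f_rc_30_1 lc_f_rc_46_2 lc_f_rc_36_1 lc_f_rc_46_2 lc_f_rc_36_1 lc_f_rc_46_2 lc_f_rc_15_1 lc_f_rc_23_1 lc_f_rc_36_1 lc_f_rc_23_1 lc_f_rc_42_2 lc_f_rc_23_1 lc_f_rc_46_2 lc_f_rc_6_1) (@D3.rec (fun _ => (Cert rels S Gen.f)) lc_f_rc_45_2 lc_f_rc_46_2 lc_f_rc_46_2 lc_f_rc_36_3 lc_f_rc_30_1 lc_f_rc_46_2 lc_f_rc_46_2 lc_f_Cert_tree lc_f_rc_46_2 lc_f_rc_43_0 lc_f_rc_43_0 lc_f_rc_44_2 lc_f_Cert_tree lc_f_rc_46_2 lc_f_rc_46_2 lc_f_rc_43_0 lc_f_rc_42_2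 lc_f_rc_43_0 lc_f_rc_44_2 lc_f_rc_43_0 lc_f_rc_44_2 lc_f_rc_45_2 lc_f_rc_44_2 lc_f_rc_45_2 lc_f_rc_56_26 lc_f_rc_46_2 lc_f_rc_43_0 lc_f_rc_36_5 lc_f_rc_46_2 lc_f_rc_23_3 lc_f_rc_46_2 lc_f_rc_46_2 lc_f_rc_36_3 lc_f_rc_30_1 lc_f_rc_30_1 lc_f_rc_46_2 lc_f_rc_46_2 lc_f_rc_30_1 lc_f_rc_46_2 lc_f_Cert_tree lc_f_rc_46_2 lc_f_rc_36_3 lc_f_rc_36_3 lc_f_rc_15_1 lc_f_rc_46_2 lc_f_rc_36_3 lc_f_rc_46_2 lc_f_rc_15_3 lc_f_rc_44_2 lc_f_rc_30_1 lc_f_rc_46_2) (@D3.rec (fun _ => (Cert rels S Gen.f)) lc_f_Cert_tree lc_f_rc_46_2 lc_f_rc_6_1 lc_f_rc_6_1 lc_f_rc_46_2 lc_f_rc_23_1 lc_f_rc_23_3 lc_f_rc_46_2 lc_f_Cert_tree lc_f_rc_46_2 lc_f_rc_43_0 lc_f_rc_46_2 lc_f_rc_42_2 lc_f_rc_6_1 lc_f_rc_30_3 lc_f_rc_23_1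 lc_f_rc_36_3 lc_f_rc_46_2 lc_f_rc_30_1 lc_f_rc_46_2 lc_f_rc_36_1 lc_f_rc_36_1 lc_f_rc_23_1 lc_f_rc_46_2 lc_f_rc_36_3 lc_f_rc_23_1 lc_f_rc_36_3 lc_f_rc_6_3 lc_f_rc_43_0 lc_f_rc_36_3 lc_f_rc_43_0 lc_f_rc_43_0 lc_f_rc_15_1 lc_f_rc_46_2 lc_f_rc_42_2 lc_f_rc_42_2 lc_f_rc_36_3 lc_f_rc_6_1 lc_f_rc_23_1 lc_f_rc_23_1 lc_f_rc_36_3 lc_f_rc_15_1 lc_f_rc_23_1 lc_f_rc_23_1 lc_f_Cert_tree lc_f_rc_15_1 lc_f_rc_15_1 lc_f_rc_15_1 lc_f_rc_43_0 lc_f_rc_45_2 lc_f_rc_43_1) (@D3.rec (fun _ => (Cert rels S Gen.f)) lc_f_rc_15_3 lc_f_rc_46_2 lc_f_Cert_tree lc_f_rc_23_1 lc_f_Cert_tree lc_f_rc_23_1 lc_f_rc_43_0 lc_f_rc_45_2 lc_f_rc_43_1 lc_f_rc_15_1 lc_f_rc_45_2 lc_f_rc_42_2 lc_f_rc_23_1 lc_f_rc_15_1 lc_f_rc_42_2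 lc_f_rc_30_1 lc_f_rc_46_2 lc_f_Cert_tree lc_f_rc_15_1 lc_f_rc_15_1 lc_f_rc_15_1 lc_f_rc_46_2 lc_f_rc_43_0 lc_f_rc_46_2 lc_f_rc_44_4 lc_f_rc_45_0 lc_f_rc_46_2 lc_f_rc_42_2 lc_f_rc_46_2 lc_f_rc_43_0 lc_f_rc_43_1 lc_f_rc_6_1 lc_f_rc_6_1 lc_f_rc_42_2 lc_f_rc_6_3 lc_f_rc_46_2 lc_f_Cert_tree lc_f_rc_6_1 lc_f_rc_46_2 lc_f_rc_30_1 lc_f_Cert_tree lc_f_rc_23_1 lc_f_rc_15_1 lc_f_rc_23_1 lc_f_rc_30_1 lc_f_rc_46_2 lc_f_Cert_tree lc_f_rc_46_2 lc_f_rc_43_0 lc_f_rc_6_3 lc_f_rc_45_2) (@D3.rec (fun _ => (Cert rels S Gen.f)) lc_f_rc_30_1 lc_f_rc_15_1 lc_f_rc_15_1 lc_f_rc_46_2 lc_f_rc_30_1 lc_f_rc_46_2 lc_f_rc_30_1 lc_f_Cert_tree lc_f_rc_23_1 lc_f_rc_23_1 lc_f_rc_23_1 lc_f_rc_30_1 lc_f_rc_46_2 lc_f_rc_46_2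 lc_f_rc_43_0 lc_f_rc_45_2 lc_f_rc_43_1 lc_f_rc_30_1 lc_f_rc_15_1 lc_f_rc_15_1 lc_f_rc_15_1 lc_f_rc_45_2 lc_f_rc_42_2 lc_f_rc_45_2 lc_f_rc_30_1 lc_f_rc_46_2 lc_f_rc_23_1 lc_f_rc_30_1 lc_f_rc_46_2 lc_f_rc_15_1 lc_f_rc_15_1 lc_f_rc_42_2 lc_f_rc_30_1 lc_f_rc_46_2 lc_f_rc_6_1 lc_f_Cert_tree lc_f_rc_6_1 lc_f_rc_6_1 lc_f_rc_6_1 lc_f_rc_30_1 lc_f_rc_46_2 lc_f_Cert_tree lc_f_rc_46_2 lc_f_rc_43_0 lc_f_rc_45_2 lc_f_rc_43_1 lc_f_rc_6_1 lc_f_rc_6_1 lc_f_rc_6_1 lc_f_Cert_tree lc_f_rc_42_2) (@D3.rec (fun _ => (Cert rels S Gen.f)) lc_f_rc_43_0 lc_f_rc_45_2 lc_f_rc_43_1 lc_f_rc_30_1 lc_f_rc_23_1 lc_f_rc_23_1 lc_f_rc_30_1 lc_f_rc_23_1 lc_f_Cert_tree lc_f_rc_46_2 lc_f_rc_43_0 lc_f_rc_46_2 lc_f_rc_42_2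 lc_f_rc_45_2 lc_f_rc_42_2 lc_f_rc_45_2 lc_f_rc_30_1 lc_f_rc_46_2 lc_f_rc_23_1 lc_f_rc_30_1 lc_f_rc_15_1 lc_f_rc_44_2 lc_f_rc_45_2 lc_f_rc_30_1 lc_f_rc_46_2 lc_f_rc_46_2 lc_f_rc_46_2 lc_f_rc_15_1 lc_f_rc_23_1 lc_f_rc_42_2 lc_f_Cert_tree lc_f_rc_42_2 lc_f_rc_43_0 lc_f_rc_45_2 lc_f_rc_43_1 lc_f_rc_30_1 lc_f_rc_23_1 lc_f_rc_23_1 lc_f_rc_30_1 lc_f_rc_23_1 lc_f_rc_15_3 lc_f_rc_46_2 lc_f_rc_42_2 lc_f_rc_45_2 lc_f_rc_42_2 lc_f_rc_45_2 lc_f_rc_30_1 lc_f_rc_46_2 lc_f_rc_23_1 lc_f_rc_30_1 lc_f_rc_15_1) (@D3.rec (fun _ => (Cert rels S Gen.f)) lc_f_rc_44_2 lc_f_rc_45_2 lc_f_rc_30_1 lc_f_rc_46_2 lc_f_rc_45_2 lc_f_rc_46_2 lc_f_rc_23_1 lc_f_rc_46_2 lc_f_rc_15_1 lc_f_rc_23_1 lc_f_rc_42_2 lc_f_rc_15_1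 lc_f_Cert_tree lc_f_rc_15_1 lc_f_rc_15_1 lc_f_rc_15_1 lc_f_rc_30_1 lc_f_rc_46_2 lc_f_rc_23_1 lc_f_rc_46_2 lc_f_Cert_tree lc_f_rc_6_1 lc_f_rc_43_0 lc_f_rc_45_2 lc_f_rc_43_1 lc_f_rc_6_1 lc_f_rc_6_1 lc_f_rc_6_1 lc_f_rc_45_2 lc_f_rc_6_1 lc_f_Cert_tree lc_f_rc_46_2 lc_f_rc_43_0 lc_f_rc_46_2 lc_f_rc_42_2 lc_f_rc_45_2 lc_f_rc_42_2 lc_f_rc_45_2 lc_f_rc_30_1 lc_f_rc_46_2 lc_f_rc_23_1 lc_f_rc_6_1 lc_f_rc_46_2 lc_f_rc_43_0 lc_f_rc_45_2 lc_f_rc_43_1 lc_f_rc_42_2 lc_f_rc_46_2 lc_f_rc_45_2 lc_f_rc_42_2 lc_f_rc_45_2) (@D3.rec (fun _ => (Cert rels S Gen.f)) lc_f_rc_30_1 lc_f_rc_46_2 lc_f_rc_23_1 lc_f_Cert_tree lc_f_rc_30_1 lc_f_rc_45_2 lc_f_rc_23_1 lc_f_Cert_tree lc_f_rc_30_1 lc_f_rc_43_0 lc_f_rc_46_2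 lc_f_rc_42_2 lc_f_rc_44_2 lc_f_rc_46_2 lc_f_rc_42_2 lc_f_rc_15_1 lc_f_rc_45_2 lc_f_rc_30_1 lc_f_rc_46_2 lc_f_rc_45_2 lc_f_rc_46_2 lc_f_rc_23_1 lc_f_rc_46_2 lc_f_rc_15_1 lc_f_rc_23_1 lc_f_rc_42_2 lc_f_rc_23_1 lc_f_rc_45_2 lc_f_rc_46_2 lc_f_rc_23_1 lc_f_rc_30_1 lc_f_rc_46_2 lc_f_rc_23_1 lc_f_rc_46_2 lc_f_rc_15_1 lc_f_rc_23_1 lc_f_rc_42_2 lc_f_rc_6_1 lc_f_rc_15_1 lc_f_rc_23_1 lc_f_rc_45_0 lc_f_rc_43_0 lc_f_rc_43_1 lc_f_rc_6_1 lc_f_rc_44_2 lc_f_rc_42_2 lc_f_rc_46_2 lc_f_rc_42_2 lc_f_rc_42_2 lc_f_rc_30_1 lc_f_rc_46_2) (@D3.rec (fun _ => (Cert rels S Gen.f)) lc_f_rc_36_3 lc_f_rc_15_1 lc_f_rc_30_1 lc_f_rc_46_2 lc_f_rc_15_1 lc_f_rc_45_0 lc_f_rc_36_3 lc_f_rc_36_3 lc_f_rc_30_1 lc_f_rc_30_1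 lc_f_rc_43_0 lc_f_rc_43_1 lc_f_rc_6_1 lc_f_rc_6_1 lc_f_rc_42_2 lc_f_rc_30_1 lc_f_rc_46_2 lc_f_Cert_tree lc_f_rc_6_1 lc_f_rc_6_1 lc_f_rc_42_2 lc_f_rc_46_2 lc_f_rc_30_1 lc_f_Cert_tree lc_f_rc_23_1 lc_f_rc_44_2 lc_f_rc_23_1 lc_f_rc_30_1 lc_f_rc_46_2 lc_f_Cert_tree lc_f_rc_46_2 lc_f_rc_43_0 lc_f_rc_45_2 lc_f_rc_43_1 lc_f_rc_30_1 lc_f_rc_15_1 lc_f_rc_15_1 lc_f_rc_15_1 lc_f_rc_45_2 lc_f_rc_42_2 lc_f_rc_45_2 lc_f_rc_15_3 lc_f_rc_46_2 lc_f_rc_45_0 lc_f_rc_30_1 lc_f_rc_46_2 lc_f_rc_15_1 lc_f_rc_15_1 lc_f_rc_42_2 lc_f_rc_46_2 lc_f_rc_6_1) (@D3.rec (fun _ => (Cert rels S Gen.f)) lc_f_Cert_tree lc_f_rc_6_1 lc_f_rc_6_1 lc_f_rc_23_1 lc_f_rc_30_1 lc_f_rc_46_2 lc_f_rc_46_2 lc_f_rc_43_0 lc_f_rc_45_2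 lc_f_rc_43_1 lc_f_rc_6_1 lc_f_rc_6_1 lc_f_rc_6_1 lc_f_rc_6_1 lc_f_Cert_tree lc_f_rc_42_2 lc_f_rc_43_0 lc_f_rc_45_2 lc_f_rc_43_1 lc_f_rc_30_1 lc_f_rc_23_1 lc_f_rc_23_1 lc_f_rc_30_1 lc_f_rc_23_1 lc_f_Cert_tree lc_f_rc_46_2 lc_f_rc_43_0 lc_f_rc_46_2 lc_f_rc_42_2 lc_f_rc_45_2 lc_f_rc_42_2 lc_f_rc_23_3 lc_f_rc_45_2 lc_f_rc_46_2 lc_f_rc_23_1 lc_f_rc_30_1 lc_f_rc_45_2 lc_f_rc_44_2 lc_f_rc_46_2 lc_f_rc_46_2 lc_f_rc_46_2 lc_f_rc_15_1 lc_f_rc_23_1 lc_f_rc_42_2 lc_f_rc_15_3 lc_f_rc_6_1 lc_f_rc_42_2 lc_f_rc_30_1 lc_f_rc_46_2 lc_f_rc_45_2 lc_f_rc_6_1) (@D3.rec (fun _ => (Cert rels S Gen.f)) lc_f_rc_6_1 lc_f_rc_6_1 lc_f_rc_46_2 lc_f_rc_23_1 lc_f_rc_23_1 lc_f_rc_30_1 lc_f_rc_46_2 lc_f_Cert_tree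 lc_f_rc_46_2 lc_f_rc_43_0 lc_f_rc_43_1 lc_f_rc_36_3 lc_f_rc_36_3 lc_f_rc_15_1 lc_f_rc_15_1 lc_f_rc_45_2 lc_f_rc_42_2 lc_f_rc_45_2 lc_f_rc_30_1 lc_f_rc_46_2 lc_f_rc_23_1 lc_f_rc_36_3 lc_f_rc_46_2 lc_f_rc_15_1 lc_f_rc_15_1 lc_f_rc_42_2 lc_f_rc_46_2 lc_f_rc_6_1 lc_f_Cert_tree lc_f_rc_6_1 lc_f_rc_6_1 lc_f_rc_6_1 lc_f_rc_30_1 lc_f_rc_46_2 lc_f_rc_46_2 lc_f_rc_43_0 lc_f_rc_45_2 lc_f_rc_43_1 lc_f_rc_6_1 lc_f_rc_6_1 lc_f_rc_6_1 lc_f_rc_6_1 lc_f_Cert_tree lc_f_rc_42_2 lc_f_rc_43_0 lc_f_rc_45_2 lc_f_rc_43_1 lc_f_rc_30_1 lc_f_rc_23_1 lc_f_rc_23_1 lc_f_rc_30_1) (@D3.rec (fun _ => (Cert rels S Gen.f)) lc_f_rc_23_1 lc_f_Cert_tree lc_f_rc_46_2 lc_f_rc_43_0 lc_f_rc_46_2 lc_f_rc_42_2 lc_f_rc_45_2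 lc_f_rc_42_2 lc_f_rc_45_2 lc_f_rc_30_1 lc_f_rc_46_2 lc_f_rc_23_1 lc_f_rc_30_1 lc_f_rc_15_1 lc_f_rc_44_2 lc_f_rc_45_2 lc_f_rc_30_1 lc_f_rc_46_2 lc_f_rc_45_2 lc_f_rc_46_2 lc_f_rc_23_1 lc_f_rc_46_2 lc_f_rc_15_1 lc_f_rc_23_1 lc_f_rc_42_2 lc_f_rc_15_1 lc_f_Cert_tree lc_f_rc_36_3 lc_f_rc_15_1 lc_f_rc_15_1 lc_f_rc_46_2 lc_f_Cert_tree lc_f_rc_6_1 lc_f_rc_43_0 lc_f_rc_45_2 lc_f_rc_43_1 lc_f_rc_6_1 lc_f_rc_6_1 lc_f_rc_6_1 lc_f_rc_6_1 lc_f_rc_6_1 lc_f_rc_36_3 lc_f_rc_46_2 lc_f_rc_42_2 lc_f_rc_45_2 lc_f_rc_42_2 lc_f_rc_45_2 lc_f_rc_30_1 lc_f_rc_46_2 lc_f_rc_23_1 lc_f_rc_6_1) (@D3.rec (fun _ => (Cert rels S Gen.f)) lc_f_rc_6_1 lc_f_rc_43_0 lc_f_rc_45_2 lc_f_rc_43_1 lc_f_rc_42_2 lc_f_rc_46_2 lc_f_rc_45_2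 lc_f_rc_42_2 lc_f_rc_45_2 lc_f_rc_30_1 lc_f_rc_46_2 lc_f_rc_23_1 lc_f_Cert_tree lc_f_rc_30_1 lc_f_rc_30_1 lc_f_rc_23_1 lc_f_Cert_tree lc_f_rc_30_1 lc_f_rc_43_0 lc_f_rc_46_2 lc_f_rc_42_2 lc_f_rc_44_2 lc_f_rc_46_2 lc_f_rc_42_2 lc_f_rc_15_1 lc_f_rc_45_2 lc_f_rc_30_1 lc_f_rc_46_2 lc_f_rc_45_2 lc_f_rc_46_2 lc_f_rc_23_1 lc_f_rc_46_2 lc_f_rc_15_1 lc_f_rc_23_1 lc_f_rc_42_2 lc_f_rc_44_2 lc_f_rc_45_2 lc_f_rc_46_2 lc_f_rc_23_1 lc_f_rc_44_2 lc_f_rc_46_2 lc_f_rc_46_2 lc_f_rc_15_1 lc_f_rc_23_1 lc_f_rc_42_2 lc_f_rc_6_1 lc_f_rc_15_1 lc_f_rc_23_1 lc_f_rc_42_2 lc_f_rc_30_1 lc_f_rc_46_2) (@D3.rec (fun _ => (Cert rels S Gen.f)) lc_f_rc_6_1 lc_f_rc_30_1 lc_f_rc_46_2 lc_f_rc_46_2 lc_f_rc_6_1 lc_f_rc_6_1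 lc_f_rc_36_3 lc_f_rc_30_1 lc_f_rc_23_1 lc_f_rc_45_2 lc_f_rc_30_1 lc_f_rc_23_1 lc_f_Cert_tree lc_f_rc_46_2 lc_f_rc_43_0 lc_f_rc_46_2 lc_f_rc_42_2 lc_f_rc_42_2 lc_f_rc_36_3 lc_f_rc_46_2 lc_f_rc_15_1 lc_f_rc_45_2 lc_f_rc_30_1 lc_f_rc_46_2 lc_f_rc_36_5 lc_f_rc_46_2 lc_f_rc_23_1 lc_f_rc_46_2 lc_f_rc_15_1 lc_f_rc_23_1 lc_f_Cert_tree lc_f_rc_15_1 lc_f_rc_15_1 lc_f_rc_15_1 lc_f_rc_46_2 lc_f_rc_43_0 lc_f_rc_45_2 lc_f_rc_43_1 lc_f_rc_6_1 lc_f_rc_6_1 lc_f_rc_6_1 lc_f_rc_6_1 lc_f_rc_6_1 lc_f_rc_6_3 lc_f_rc_46_2 lc_f_rc_42_2 lc_f_rc_45_2 lc_f_rc_42_2 lc_f_rc_45_2 lc_f_rc_46_2 lc_f_rc_6_1) (@D3.rec (fun _ => (Cert rels S Gen.f)) lc_f_rc_43_0 lc_f_rc_45_2 lc_f_rc_43_1 lc_f_rc_42_2 lc_f_rc_46_2 lc_f_rc_45_2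 lc_f_rc_42_2 lc_f_rc_45_2 lc_f_rc_30_1 lc_f_rc_46_2 lc_f_rc_23_1 lc_f_Cert_tree lc_f_rc_30_1 lc_f_rc_30_1 lc_f_rc_23_1 lc_f_Cert_tree lc_f_rc_30_1 lc_f_rc_43_0 lc_f_rc_46_2 lc_f_rc_42_2 lc_f_rc_44_2 lc_f_rc_46_2 lc_f_rc_42_2 lc_f_rc_44_2 lc_f_rc_45_2 lc_f_rc_30_1 lc_f_rc_46_2 lc_f_rc_45_2 lc_f_rc_46_2 lc_f_rc_23_1 lc_f_rc_46_2 lc_f_rc_15_1 lc_f_rc_23_1 lc_f_rc_42_2 lc_f_rc_45_2 lc_f_rc_46_2 lc_f_rc_23_1 lc_f_rc_36_3 lc_f_rc_46_2 lc_f_rc_23_1 lc_f_rc_46_2 lc_f_rc_15_1 lc_f_rc_23_1 lc_f_rc_42_2 lc_f_rc_6_1 lc_f_rc_15_1 lc_f_rc_23_1 lc_f_Cert_tree lc_f_rc_15_1 lc_f_rc_43_0 lc_f_rc_45_2) (@D3.rec (fun _ => (Cert rels S Gen.f)) lc_f_rc_43_1 lc_f_rc_30_1 lc_f_rc_6_3 lc_f_rc_15_1 lc_f_rc_15_1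 lc_f_rc_43_0 lc_f_rc_45_2 lc_f_rc_43_1 lc_f_rc_6_1 lc_f_rc_6_1 lc_f_rc_45_2 lc_f_rc_42_2 lc_f_rc_45_2 lc_f_rc_30_1 lc_f_rc_46_2 lc_f_rc_23_1 lc_f_rc_15_1 lc_f_rc_6_1 lc_f_rc_6_1 lc_f_rc_6_1 lc_f_Cert_tree lc_f_rc_6_1 lc_f_rc_30_3 lc_f_rc_42_2 lc_f_rc_6_1 lc_f_rc_45_2 lc_f_rc_30_1 lc_f_rc_46_2 lc_f_rc_45_2 lc_f_rc_46_2 lc_f_rc_23_1 lc_f_rc_46_2 lc_f_rc_15_1 lc_f_rc_23_1 lc_f_rc_36_3 lc_f_rc_45_2 lc_f_rc_42_2 lc_f_rc_45_2 lc_f_rc_30_1 lc_f_rc_46_2 lc_f_rc_23_1 lc_f_Cert_tree lc_f_rc_46_2 lc_f_rc_44_2 lc_f_rc_45_2 lc_f_rc_30_1 lc_f_rc_46_2 lc_f_rc_45_2 lc_f_rc_46_2 lc_f_rc_23_1 lc_f_Cert_tree) (@D3.rec (fun _ => (Cert rels S Gen.f)) lc_f_rc_46_2 lc_f_rc_15_1 lc_f_Cert_tree lc_f_rc_23_1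 lc_f_rc_43_0 lc_f_rc_46_2 lc_f_rc_42_2 lc_f_Cert_tree lc_f_rc_30_1 lc_f_rc_43_0 lc_f_rc_46_2 lc_f_rc_42_2 lc_f_rc_44_2 lc_f_rc_46_2 lc_f_rc_42_2 lc_f_rc_45_2 lc_f_rc_44_2 lc_f_rc_42_2 lc_f_rc_45_2 lc_f_rc_45_2 lc_f_rc_46_2 lc_f_rc_23_1 lc_f_rc_44_2 lc_f_rc_46_2 lc_f_rc_23_1 lc_f_rc_46_2 lc_f_rc_15_1 lc_f_rc_23_1 lc_f_rc_42_2 lc_f_rc_6_1 lc_f_rc_15_1 lc_f_rc_23_1 lc_f_rc_45_2 lc_f_rc_45_2 lc_f_rc_23_1 lc_f_rc_45_2 lc_f_rc_46_2 lc_f_rc_15_1 lc_f_rc_23_1 lc_f_rc_23_1 lc_f_rc_44_2 lc_f_rc_42_2 lc_f_rc_15_1 lc_f_rc_23_1 lc_f_rc_42_2 lc_f_rc_6_1 lc_f_rc_15_1 lc_f_rc_42_2 lc_f_rc_6_1 lc_f_rc_15_1 lc_f_rc_30_1) (@D3.rec (fun _ => (Cert rels S Gen.f)) lc_f_rc_36_3 lc_f_rc_6_1 lc_f_rc_36_3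 lc_f_rc_45_2 lc_f_rc_42_2 lc_f_rc_45_2 lc_f_rc_46_2 lc_f_rc_44_2 lc_f_rc_42_2 lc_f_rc_45_2 lc_f_rc_23_1 lc_f_rc_6_1 lc_f_rc_23_1 lc_f_rc_15_1 lc_f_rc_44_2 lc_f_rc_42_2 lc_f_rc_23_1 lc_f_rc_42_0 lc_f_rc_46_2 lc_f_rc_15_1 lc_f_rc_42_2 lc_f_rc_23_1 lc_f_rc_42_0 lc_f_rc_56_40 lc_f_rc_6_1 lc_f_rc_15_1 lc_f_rc_30_1 lc_f_rc_36_3 lc_f_rc_45_2 lc_f_rc_42_2 lc_f_rc_45_2 lc_f_rc_46_2 lc_f_rc_6_1 lc_f_rc_6_1 lc_f_rc_45_2 lc_f_rc_23_1 lc_f_rc_6_1 lc_f_rc_23_1 lc_f_rc_15_1 lc_f_rc_6_1 lc_f_rc_36_3 lc_f_rc_36_3 lc_f_rc_44_2 lc_f_rc_45_2 lc_f_rc_30_1 lc_f_rc_46_2 lc_f_rc_45_2 lc_f_rc_46_2 lc_f_rc_23_1 lc_f_rc_46_2 lc_f_rc_15_1) (@D3.rec (fun _ => (Cert rels S Gen.f)) lc_f_rc_23_1 lc_f_rc_23_1 lc_f_rc_45_2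 lc_f_rc_23_1 lc_f_rc_23_3 lc_f_rc_23_1 lc_f_rc_15_1 lc_f_rc_6_1 lc_f_rc_45_2 lc_f_rc_45_2 lc_f_rc_23_1 lc_f_rc_45_2 lc_f_rc_46_2 lc_f_rc_15_1 lc_f_rc_23_1 lc_f_rc_23_1 lc_f_rc_46_2 lc_f_rc_42_2 lc_f_rc_15_1 lc_f_rc_23_1 lc_f_rc_42_2 lc_f_rc_6_1 lc_f_rc_15_1 lc_f_rc_42_2 lc_f_rc_6_1 lc_f_rc_15_1 lc_f_rc_30_1 lc_f_rc_23_1 lc_f_rc_45_2 lc_f_rc_46_2 lc_f_rc_15_1 lc_f_rc_42_2 lc_f_rc_6_1 lc_f_rc_15_1 lc_f_rc_15_1 lc_f_rc_42_2 lc_f_rc_36_3 lc_f_rc_6_1 lc_f_rc_45_2 lc_f_rc_15_3 lc_f_rc_6_1 lc_f_rc_15_1 lc_f_rc_30_1 lc_f_rc_6_1 lc_f_rc_15_1 lc_f_rc_15_1 lc_f_rc_23_1 lc_f_rc_43_0 lc_f_rc_36_3 lc_f_rc_30_1 lc_f_rc_23_1) (@D3.rec (fun _ => (Cert rels S Gen.f)) lc_f_Cert_tree lc_f_rc_42_2 lc_f_rc_43_0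 lc_f_rc_46_2 lc_f_rc_43_0 lc_f_rc_43_0 lc_f_rc_45_2 lc_f_rc_42_2 lc_f_rc_45_2 lc_f_rc_30_1 lc_f_rc_44_2 lc_f_rc_45_2 lc_f_rc_44_2 lc_f_rc_45_2 lc_f_rc_30_1 lc_f_rc_45_2 lc_f_rc_15_3 lc_f_rc_46_2 lc_f_rc_30_1 lc_f_rc_46_0 lc_f_rc_30_1 lc_f_rc_45_2 lc_f_rc_23_1 lc_f_rc_23_1 lc_f_rc_46_2 lc_f_rc_15_1 lc_f_rc_15_1 lc_f_rc_15_1 lc_f_rc_42_2 lc_f_rc_46_2 lc_f_rc_6_1 lc_f_rc_6_1 lc_f_rc_30_1 lc_f_rc_46_2 lc_f_rc_46_2 lc_f_rc_43_0 lc_f_rc_43_1 lc_f_rc_30_1 lc_f_rc_6_1 lc_f_rc_6_1 lc_f_rc_6_1 lc_f_rc_42_2 lc_f_rc_43_0 lc_f_rc_43_1 lc_f_rc_30_1 lc_f_rc_23_1 lc_f_rc_23_1 lc_f_Cert_tree lc_f_rc_46_2 lc_f_rc_43_0 lc_f_rc_46_2) (@D3.rec (fun _ => (Cert rels S Gen.f)) lc_f_rc_42_2 lc_f_rc_46_2 lc_f_rc_44_2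 lc_f_rc_46_2 lc_f_rc_23_1 lc_f_rc_30_1 lc_f_rc_15_1 lc_f_rc_46_2 lc_f_rc_45_2 lc_f_rc_46_2 lc_f_rc_45_2 lc_f_rc_15_3 lc_f_Cert_tree lc_f_rc_42_2 lc_f_rc_43_0 lc_f_rc_45_2 lc_f_rc_43_1 lc_f_rc_30_1 lc_f_rc_23_1 lc_f_rc_23_1 lc_f_rc_23_1 lc_f_rc_45_2 lc_f_rc_42_2 lc_f_rc_46_2 lc_f_rc_23_1 lc_f_rc_30_1 lc_f_rc_15_1 lc_f_rc_46_2 lc_f_rc_42_2 lc_f_rc_15_1 lc_f_Cert_tree lc_f_rc_15_1 lc_f_rc_15_1 lc_f_rc_46_2 lc_f_rc_43_0 lc_f_rc_43_1 lc_f_rc_6_1 lc_f_rc_6_1 lc_f_rc_6_1 lc_f_rc_6_1 lc_f_rc_6_1 lc_f_rc_36_3 lc_f_rc_46_2 lc_f_rc_45_2 lc_f_rc_42_2 lc_f_rc_45_2 lc_f_rc_30_1 lc_f_rc_46_2 lc_f_rc_6_1 lc_f_rc_6_1 lc_f_rc_43_0) (@D3.rec (fun _ => (Cert rels S Gen.f)) lc_f_rc_43_1 lc_f_rc_42_2 lc_f_rc_46_2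 lc_f_rc_45_2 lc_f_rc_42_2 lc_f_rc_45_2 lc_f_rc_30_1 lc_f_rc_46_2 lc_f_rc_23_1 lc_f_Cert_tree lc_f_rc_30_1 lc_f_rc_23_1 lc_f_Cert_tree lc_f_rc_30_1 lc_f_rc_43_0 lc_f_rc_46_2 lc_f_rc_44_2 lc_f_rc_46_2 lc_f_rc_46_2 lc_f_rc_45_2 lc_f_rc_30_1 lc_f_rc_46_2 lc_f_rc_45_2 lc_f_rc_46_2 lc_f_rc_23_1 lc_f_rc_46_2 lc_f_rc_15_1 lc_f_rc_23_1 lc_f_rc_42_2 lc_f_rc_30_1 lc_f_rc_45_2 lc_f_rc_46_2 lc_f_rc_23_1 lc_f_rc_36_3 lc_f_rc_46_2 lc_f_rc_23_1 lc_f_rc_46_2 lc_f_rc_15_1 lc_f_rc_23_1 lc_f_rc_42_2 lc_f_rc_6_1 lc_f_rc_15_1 lc_f_rc_55_32 lc_f_rc_36_1 lc_f_rc_45_2 lc_f_rc_15_1 lc_f_rc_23_1 lc_f_rc_36_1 lc_f_rc_43_0 lc_f_rc_45_2 lc_f_rc_43_1) (@D3.rec (fun _ => (Cert rels S Gen.f)) lc_f_rc_42_2 lc_f_rc_46_2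 lc_f_rc_45_2 lc_f_rc_42_2 lc_f_rc_45_2 lc_f_rc_30_1 lc_f_rc_46_2 lc_f_rc_23_1 lc_f_rc_30_1 lc_f_rc_23_1 lc_f_rc_15_1 lc_f_rc_45_2 lc_f_rc_30_1 lc_f_rc_46_2 lc_f_rc_23_3 lc_f_rc_46_2 lc_f_rc_23_1 lc_f_rc_46_2 lc_f_rc_15_1 lc_f_rc_23_1 lc_f_rc_42_2 lc_f_rc_46_2 lc_f_rc_23_1 lc_f_rc_46_2 lc_f_rc_30_3 lc_f_rc_30_1 lc_f_rc_15_1 lc_f_rc_23_1 lc_f_rc_42_2 lc_f_rc_6_1 lc_f_rc_15_1 lc_f_rc_23_1 lc_f_Cert_tree lc_f_rc_15_1 lc_f_rc_43_0 lc_f_rc_45_2 lc_f_rc_43_1 lc_f_rc_15_1 lc_f_rc_15_1 lc_f_rc_45_2 lc_f_rc_15_1 lc_f_rc_43_0 lc_f_rc_45_2 lc_f_rc_43_1 lc_f_rc_6_1 lc_f_rc_6_1 lc_f_rc_45_2 lc_f_rc_42_2 lc_f_rc_45_2 lc_f_rc_30_1 lc_f_rc_46_2) (@D3.rec (fun _ => (Cert rels S Gen.f)) lc_f_rc_23_1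 lc_f_rc_30_1 lc_f_rc_6_1 lc_f_rc_45_2 lc_f_rc_6_1 lc_f_Cert_tree lc_f_rc_6_1 lc_f_rc_6_3 lc_f_rc_6_1 lc_f_rc_45_2 lc_f_rc_30_1 lc_f_rc_46_2 lc_f_rc_45_2 lc_f_rc_46_2 lc_f_rc_23_1 lc_f_rc_46_2 lc_f_rc_30_3 lc_f_rc_23_1 lc_f_rc_6_1 lc_f_rc_36_3 lc_f_rc_45_2 lc_f_rc_42_2 lc_f_rc_45_2 lc_f_rc_30_1 lc_f_rc_46_2 lc_f_rc_23_1 lc_f_Cert_tree lc_f_rc_46_2 lc_f_rc_15_1 lc_f_rc_45_2 lc_f_rc_30_1 lc_f_rc_46_2 lc_f_rc_45_2 lc_f_rc_46_2 lc_f_rc_23_1 lc_f_Cert_tree lc_f_rc_46_2 lc_f_rc_15_1 lc_f_Cert_tree lc_f_rc_23_1 lc_f_rc_43_0 lc_f_rc_46_2 lc_f_rc_42_2 lc_f_Cert_tree lc_f_rc_6_3 lc_f_rc_43_0 lc_f_rc_46_2 lc_f_rc_44_2 lc_f_rc_46_2 lc_f_rc_45_2 lc_f_rc_44_2) (@D3.rec (fun _ => (Cert rels S Gen.f))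 lc_f_rc_42_2 lc_f_rc_45_2 lc_f_rc_46_2 lc_f_rc_23_1 lc_f_rc_36_3 lc_f_rc_46_2 lc_f_rc_23_1 lc_f_rc_46_2 lc_f_rc_15_1 lc_f_rc_23_1 lc_f_rc_42_2 lc_f_rc_6_1 lc_f_rc_15_1 lc_f_rc_23_1 lc_f_rc_30_1 lc_f_rc_23_1 lc_f_rc_23_1 lc_f_rc_36_3 lc_f_rc_46_2 lc_f_rc_15_1 lc_f_rc_23_1 lc_f_rc_23_1 lc_f_rc_36_3 lc_f_rc_42_2 lc_f_rc_15_1 lc_f_rc_23_1 lc_f_rc_42_2 lc_f_rc_6_1 lc_f_rc_15_1 lc_f_rc_42_2 lc_f_rc_6_1 lc_f_rc_15_1 lc_f_rc_30_1 lc_f_rc_15_1 lc_f_rc_6_1 lc_f_rc_15_1 lc_f_rc_6_1 lc_f_rc_42_2 lc_f_rc_46_2 lc_f_rc_43_0 lc_f_rc_23_1 lc_f_rc_23_3 lc_f_rc_6_1 lc_f_rc_6_1 lc_f_rc_42_2 lc_f_rc_42_2 lc_f_rc_42_2 lc_f_rc_43_0 lc_f_rc_45_2 lc_f_rc_30_1 lc_f_rc_23_1) (@D3.rec (fun _ => (Cert rels S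 Gen.f)) lc_f_rc_23_1 lc_f_rc_30_1 lc_f_rc_23_1 lc_f_rc_36_3 lc_f_rc_46_2 lc_f_rc_46_2 lc_f_rc_23_1 lc_f_rc_30_1 lc_f_rc_15_1 lc_f_rc_42_2 lc_f_rc_6_1 lc_f_rc_43_0 lc_f_rc_46_2 lc_f_rc_43_1 lc_f_rc_6_1 lc_f_rc_6_1 lc_f_rc_23_1 lc_f_rc_23_1 lc_f_rc_45_2 lc_f_rc_42_2 lc_f_rc_45_2 lc_f_rc_30_1 lc_f_rc_46_2 lc_f_rc_23_1 lc_f_rc_6_1 lc_f_rc_6_1 lc_f_rc_43_0 lc_f_rc_42_2 lc_f_rc_46_2 lc_f_rc_45_2 lc_f_rc_42_2 lc_f_rc_45_2 lc_f_rc_30_1 lc_f_rc_46_2 lc_f_rc_23_1 lc_f_Cert_tree lc_f_rc_30_1 lc_f_rc_23_1 lc_f_rc_23_1 lc_f_rc_43_0 lc_f_rc_46_2 lc_f_rc_23_1 lc_f_rc_46_2 lc_f_rc_15_1 lc_f_rc_45_2 lc_f_rc_30_1 lc_f_rc_46_2 lc_f_rc_45_2 lc_f_rc_42_2 lc_f_rc_23_1 lc_f_rc_46_2) (@D3.rec (fun _ => (Cert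 rels S Gen.f)) lc_f_rc_15_1 lc_f_rc_23_1 lc_f_rc_42_2 lc_f_rc_42_2 lc_f_rc_45_2 lc_f_rc_36_3 lc_f_rc_46_2 lc_f_rc_56_12 lc_f_rc_15_3 lc_f_rc_6_3 lc_f_rc_15_3 lc_f_rc_42_2 lc_f_rc_6_1 lc_f_rc_15_1 lc_f_rc_23_1 lc_f_Cert_tree lc_f_Cert_tree lc_f_rc_6_1 lc_f_rc_43_0 lc_f_rc_45_2 lc_f_rc_43_1 lc_f_rc_6_1 lc_f_rc_6_1 lc_f_rc_6_1 lc_f_rc_6_1 lc_f_rc_45_2 lc_f_rc_42_2 lc_f_rc_45_2 lc_f_rc_30_1 lc_f_rc_46_2 lc_f_rc_23_1 lc_f_rc_6_1 lc_f_rc_6_1 lc_f_rc_43_0 lc_f_rc_43_1 lc_f_rc_42_2 lc_f_rc_46_2 lc_f_rc_45_2 lc_f_rc_42_2 lc_f_rc_45_2 lc_f_rc_30_1 lc_f_rc_46_2 lc_f_rc_23_1 lc_f_rc_30_1 lc_f_rc_30_1 lc_f_rc_30_1 lc_f_rc_23_1 lc_f_Cert_tree lc_f_rc_30_1 lc_f_rc_36_3 lc_f_rc_44_2)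
def ce_f_8 : D2 → D3 → (Cert rels S Gen.f) := @D2.rec (fun _ => D3 → (Cert rels S Gen.f)) (@D3.rec (fun _ => (Cert rels S Gen.f)) lc_f_rc_45_2 lc_f_rc_30_1 lc_f_rc_46_2 lc_f_rc_46_2 lc_f_rc_23_1 lc_f_rc_46_2 lc_f_rc_15_1 lc_f_rc_23_1 lc_f_rc_42_2 lc_f_rc_46_2 lc_f_rc_36_3 lc_f_rc_46_2 lc_f_rc_42_2 lc_f_rc_6_1 lc_f_rc_15_1 lc_f_rc_23_1 lc_f_rc_15_1 lc_f_rc_43_0 lc_f_rc_43_0 lc_f_rc_43_1 lc_f_rc_6_1 lc_f_rc_6_1 lc_f_rc_45_2 lc_f_rc_42_2 lc_f_rc_45_2 lc_f_rc_30_1 lc_f_rc_46_2 lc_f_rc_23_1 lc_f_rc_6_1 lc_f_rc_6_1 lc_f_rc_6_1 lc_f_rc_45_2 lc_f_rc_30_1 lc_f_rc_46_2 lc_f_rc_45_2 lc_f_rc_46_2 lc_f_rc_23_1 lc_f_rc_46_2 lc_f_rc_15_1 lc_f_rc_23_1 lc_f_rc_6_1 lc_f_rc_23_1 lc_f_rc_45_2 lc_f_rc_42_2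 lc_f_rc_30_1 lc_f_rc_46_2 lc_f_rc_23_1 lc_f_Cert_tree lc_f_rc_46_2 lc_f_rc_23_1 lc_f_rc_45_2) (@D3.rec (fun _ => (Cert rels S Gen.f)) lc_f_rc_30_1 lc_f_rc_46_2 lc_f_rc_45_2 lc_f_rc_46_2 lc_f_rc_23_1 lc_f_Cert_tree lc_f_rc_46_2 lc_f_rc_15_1 lc_f_Cert_tree lc_f_rc_23_1 lc_f_rc_43_0 lc_f_rc_46_2 lc_f_rc_42_2 lc_f_rc_30_1 lc_f_rc_43_0 lc_f_rc_46_2 lc_f_rc_44_2 lc_f_rc_46_2 lc_f_rc_45_2 lc_f_rc_44_2 lc_f_rc_42_2 lc_f_rc_45_2 lc_f_rc_46_2 lc_f_rc_23_1 lc_f_rc_36_3 lc_f_rc_46_2 lc_f_rc_23_1 lc_f_rc_46_2 lc_f_rc_15_1 lc_f_rc_23_1 lc_f_rc_42_2 lc_f_rc_6_1 lc_f_rc_15_1 lc_f_rc_23_1 lc_f_rc_44_2 lc_f_rc_15_3 lc_f_rc_23_1 lc_f_rc_45_2 lc_f_rc_46_2 lc_f_rc_15_1 lc_f_rc_23_1 lc_f_rc_23_1 lc_f_rc_36_3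 lc_f_rc_42_2 lc_f_rc_15_1 lc_f_rc_23_1 lc_f_rc_42_2 lc_f_rc_6_1 lc_f_rc_15_1 lc_f_rc_42_2 lc_f_rc_6_1) (@D3.rec (fun _ => (Cert rels S Gen.f)) lc_f_rc_15_1 lc_f_rc_30_1 lc_f_rc_43_0 lc_f_rc_36_3 lc_f_rc_45_2 lc_f_rc_42_2 lc_f_rc_45_2 lc_f_rc_30_1 lc_f_rc_46_2 lc_f_rc_6_1 lc_f_rc_6_1 lc_f_rc_6_1 lc_f_rc_45_2 lc_f_rc_46_2 lc_f_rc_46_2 lc_f_rc_36_3 lc_f_rc_45_2 lc_f_rc_42_2 lc_f_rc_45_2 lc_f_rc_30_1 lc_f_rc_46_2 lc_f_rc_23_3 lc_f_rc_46_2 lc_f_rc_44_2 lc_f_rc_45_2 lc_f_rc_30_1 lc_f_rc_46_2 lc_f_rc_45_2 lc_f_rc_46_2 lc_f_rc_23_1 lc_f_Cert_tree lc_f_rc_46_2 lc_f_rc_15_1 lc_f_rc_30_3 lc_f_rc_23_1 lc_f_rc_6_3 lc_f_rc_42_2 lc_f_Cert_tree lc_f_rc_30_1 lc_f_rc_43_0 lc_f_rc_46_2 lc_f_rc_42_2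 lc_f_rc_45_2 lc_f_rc_46_2 lc_f_rc_23_1 lc_f_rc_36_3 lc_f_rc_46_2 lc_f_rc_23_1 lc_f_rc_46_2 lc_f_rc_15_1 lc_f_rc_23_1) (@D3.rec (fun _ => (Cert rels S Gen.f)) lc_f_rc_6_1 lc_f_rc_15_1 lc_f_rc_44_2 lc_f_rc_42_2 lc_f_rc_23_1 lc_f_rc_36_3 lc_f_rc_46_2 lc_f_rc_15_1 lc_f_rc_23_1 lc_f_rc_23_1 lc_f_rc_36_3 lc_f_rc_42_2 lc_f_rc_15_1 lc_f_rc_23_1 lc_f_rc_42_2 lc_f_rc_6_1 lc_f_rc_15_1 lc_f_rc_42_2 lc_f_rc_6_1 lc_f_rc_15_1 lc_f_rc_30_1 lc_f_rc_43_0 lc_f_rc_23_1 lc_f_rc_43_1 lc_f_rc_15_1 lc_f_rc_45_2 lc_f_rc_6_1 lc_f_rc_45_2 lc_f_rc_42_2 lc_f_rc_45_2 lc_f_rc_30_1 lc_f_rc_46_2 lc_f_rc_6_1 lc_f_rc_6_1 lc_f_rc_45_2 lc_f_rc_30_1 lc_f_rc_46_2 lc_f_rc_45_2 lc_f_rc_46_2 lc_f_rc_23_1 lc_f_rc_46_2 lc_f_rc_15_1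 lc_f_rc_23_1 lc_f_rc_6_1 lc_f_rc_6_1 lc_f_rc_45_2 lc_f_rc_46_2 lc_f_rc_23_1 lc_f_rc_6_1 lc_f_rc_46_2 lc_f_rc_23_1) (@D3.rec (fun _ => (Cert rels S Gen.f)) lc_f_rc_46_2 lc_f_rc_15_1 lc_f_rc_23_1 lc_f_rc_6_1 lc_f_rc_15_1 lc_f_rc_36_3 lc_f_rc_36_3 lc_f_rc_44_2 lc_f_rc_45_2 lc_f_rc_30_1 lc_f_rc_46_2 lc_f_rc_45_2 lc_f_rc_46_2 lc_f_rc_23_1 lc_f_Cert_tree lc_f_rc_46_2 lc_f_rc_15_1 lc_f_Cert_tree lc_f_rc_23_1 lc_f_rc_43_0 lc_f_rc_46_2 lc_f_rc_46_2 lc_f_rc_23_1 lc_f_rc_45_2 lc_f_rc_46_2 lc_f_rc_23_1 lc_f_Cert_tree lc_f_rc_46_2 lc_f_rc_23_1 lc_f_Cert_tree lc_f_rc_46_2 lc_f_rc_15_1 lc_f_Cert_tree lc_f_rc_23_1 lc_f_rc_43_0 lc_f_rc_46_2 lc_f_rc_42_2 lc_f_rc_6_1 lc_f_Cert_tree lc_f_rc_15_1 lc_f_rc_43_0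 lc_f_rc_46_2 lc_f_rc_23_1 lc_f_rc_44_2 lc_f_rc_46_2 lc_f_rc_42_2 lc_f_rc_43_0 lc_f_rc_46_2 lc_f_rc_44_2 lc_f_rc_46_2 lc_f_rc_45_2) (@D3.rec (fun _ => (Cert rels S Gen.f)) lc_f_rc_46_2 lc_f_rc_45_2 lc_f_rc_44_2 lc_f_rc_44_2 lc_f_rc_23_1 lc_f_rc_23_3 lc_f_rc_46_2 lc_f_rc_15_1 lc_f_rc_23_1 lc_f_rc_23_1 lc_f_rc_36_3 lc_f_rc_42_2 lc_f_rc_15_1 lc_f_rc_23_1 lc_f_rc_42_2 lc_f_rc_6_1 lc_f_rc_15_1 lc_f_rc_42_2 lc_f_rc_6_1 lc_f_rc_15_1 lc_f_rc_30_1 lc_f_rc_44_2 lc_f_rc_15_1 lc_f_rc_23_1 lc_f_rc_42_2 lc_f_rc_42_2 lc_f_rc_6_1 lc_f_rc_23_3 lc_f_rc_15_1 lc_f_rc_42_2 lc_f_rc_23_3 lc_f_rc_23_3 lc_f_rc_6_1 lc_f_rc_23_3 lc_f_rc_44_4 lc_f_rc_6_1 lc_f_rc_15_1 lc_f_rc_15_1 lc_f_rc_36_3 lc_f_rc_36_3 lc_f_rc_44_2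 lc_f_rc_45_2 lc_f_rc_46_2 lc_f_rc_46_2 lc_f_rc_44_2 lc_f_rc_23_1 lc_f_rc_36_3 lc_f_rc_15_1 lc_f_rc_23_1 lc_f_rc_15_1 lc_f_rc_42_2) (@D3.rec (fun _ => (Cert rels S Gen.f)) lc_f_rc_44_2 lc_f_rc_46_2 lc_f_rc_44_2 lc_f_rc_15_1 lc_f_rc_6_1 lc_f_rc_15_1 lc_f_rc_15_1 lc_f_rc_42_2 lc_f_rc_36_3 lc_f_rc_6_1 lc_f_rc_42_0 lc_f_rc_45_2 lc_f_rc_6_1 lc_f_rc_15_1 lc_f_rc_44_4 lc_f_rc_23_1 lc_f_rc_6_1 lc_f_rc_23_1 lc_f_rc_6_1 lc_f_rc_45_2 lc_f_rc_46_2 lc_f_rc_46_2 lc_f_rc_6_1 lc_f_rc_23_1 lc_f_rc_23_3 lc_f_rc_15_1 lc_f_rc_23_1 lc_f_rc_15_1 lc_f_rc_6_1 lc_f_rc_36_3 lc_f_rc_30_1 lc_f_rc_46_2 lc_f_rc_42_2 lc_f_rc_45_2 lc_f_rc_46_2 lc_f_rc_23_1 lc_f_rc_36_3 lc_f_rc_46_2 lc_f_rc_23_1 lc_f_rc_46_2 lc_f_rc_15_1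 lc_f_rc_23_1 lc_f_rc_6_1 lc_f_rc_15_1 lc_f_rc_30_1 lc_f_rc_23_1 lc_f_rc_36_3 lc_f_rc_15_1 lc_f_rc_36_3 lc_f_rc_15_1 lc_f_rc_6_1) (@D3.rec (fun _ => (Cert rels S Gen.f)) lc_f_rc_23_1 lc_f_rc_15_1 lc_f_rc_45_2 lc_f_rc_23_1 lc_f_rc_6_1 lc_f_rc_30_1 lc_f_rc_42_2 lc_f_rc_46_2 lc_f_rc_30_3 lc_f_rc_45_2 lc_f_rc_45_2 lc_f_rc_30_1 lc_f_rc_6_1 lc_f_rc_15_1 lc_f_rc_15_1 lc_f_rc_23_3 lc_f_rc_23_3 lc_f_rc_46_2 lc_f_rc_23_1 lc_f_rc_6_1 lc_f_rc_15_1 lc_f_Cert_tree lc_f_rc_23_1 lc_f_rc_43_0 lc_f_rc_46_2 lc_f_rc_42_2 lc_f_rc_44_2 lc_f_rc_46_2 lc_f_rc_44_2 lc_f_rc_46_2 lc_f_rc_45_2 lc_f_rc_36_3 lc_f_rc_46_2 lc_f_rc_46_2 lc_f_rc_6_1 lc_f_rc_46_2 lc_f_rc_42_2 lc_f_rc_6_1 lc_f_rc_15_1 lc_f_rc_23_1 lc_f_rc_23_1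 lc_f_rc_36_3 lc_f_rc_46_2 lc_f_rc_15_1 lc_f_rc_15_3 lc_f_rc_23_1 lc_f_rc_36_3 lc_f_rc_42_2 lc_f_rc_45_2 lc_f_rc_23_1 lc_f_rc_42_2) (@D3.rec (fun _ => (Cert rels S Gen.f)) lc_f_rc_23_1 lc_f_rc_15_1 lc_f_rc_42_2 lc_f_rc_6_1 lc_f_rc_15_1 lc_f_rc_30_1 lc_f_rc_23_1 lc_f_rc_6_1 lc_f_rc_6_1 lc_f_rc_46_2 lc_f_rc_30_1 lc_f_rc_46_2 lc_f_rc_42_2 lc_f_rc_6_1 lc_f_rc_15_1 lc_f_rc_23_1 lc_f_rc_15_1 lc_f_Cert_tree lc_f_rc_23_1 lc_f_rc_43_0 lc_f_rc_30_1 lc_f_rc_6_1 lc_f_Cert_tree lc_f_rc_6_1 lc_f_rc_43_0 lc_f_rc_46_2 lc_f_rc_6_1 lc_f_rc_6_1 lc_f_Cert_tree lc_f_rc_15_1 lc_f_rc_43_0 lc_f_rc_46_2 lc_f_rc_23_1 lc_f_rc_44_2 lc_f_rc_46_2 lc_f_rc_42_2 lc_f_rc_43_0 lc_f_rc_46_2 lc_f_rc_44_2 lc_f_rc_46_2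 lc_f_rc_45_2 lc_f_rc_46_2 lc_f_rc_46_2 lc_f_rc_15_1 lc_f_rc_23_1 lc_f_rc_23_1 lc_f_rc_36_3 lc_f_rc_42_2 lc_f_rc_45_2 lc_f_rc_46_2 lc_f_rc_42_2) (@D3.rec (fun _ => (Cert rels S Gen.f)) lc_f_rc_45_2 lc_f_rc_15_1 lc_f_rc_42_2 lc_f_rc_6_1 lc_f_rc_15_1 lc_f_rc_30_1 lc_f_rc_15_1 lc_f_rc_23_1 lc_f_rc_42_2 lc_f_rc_6_1 lc_f_rc_15_1 lc_f_rc_15_1 lc_f_rc_23_1 lc_f_rc_42_2 lc_f_rc_36_3 lc_f_rc_23_1 lc_f_rc_15_1 lc_f_rc_42_2 lc_f_rc_6_1 lc_f_rc_15_1 lc_f_rc_30_1 lc_f_rc_6_1 lc_f_rc_15_1 lc_f_Cert_tree lc_f_rc_23_1 lc_f_rc_46_2 lc_f_rc_6_3 lc_f_rc_23_3 lc_f_rc_15_1 lc_f_rc_23_1 lc_f_rc_42_2 lc_f_rc_6_1 lc_f_rc_15_1 lc_f_rc_23_1 lc_f_rc_23_1 lc_f_rc_46_2 lc_f_rc_15_1 lc_f_rc_23_1 lc_f_rc_23_1 lc_f_rc_6_1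 lc_f_rc_42_2 lc_f_rc_15_1 lc_f_rc_23_1 lc_f_rc_23_3 lc_f_rc_6_1 lc_f_rc_15_1 lc_f_rc_42_2 lc_f_rc_6_1 lc_f_rc_15_1 lc_f_rc_30_1 lc_f_rc_23_1) (@D3.rec (fun _ => (Cert rels S Gen.f)) lc_f_rc_46_2 lc_f_rc_15_1 lc_f_Cert_tree lc_f_rc_23_1 lc_f_rc_43_0 lc_f_rc_46_2 lc_f_rc_42_2 lc_f_rc_15_1 lc_f_Cert_tree lc_f_rc_23_1 lc_f_rc_43_0 lc_f_rc_46_2 lc_f_rc_42_2 lc_f_rc_6_1 lc_f_Cert_tree lc_f_rc_15_1 lc_f_rc_43_0 lc_f_rc_46_2 lc_f_rc_42_2 lc_f_rc_44_2 lc_f_rc_46_2 lc_f_rc_42_2 lc_f_Cert_tree lc_f_rc_6_1 lc_f_rc_43_0 lc_f_rc_46_2 lc_f_rc_15_1 lc_f_rc_23_1 lc_f_rc_46_2 lc_f_rc_42_2 lc_f_rc_30_1 lc_f_rc_45_2 lc_f_rc_46_2 lc_f_rc_42_2 lc_f_rc_44_2 lc_f_rc_46_2 lc_f_rc_45_2 lc_f_rc_46_2 lc_f_rc_46_2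 lc_f_rc_23_1 lc_f_rc_6_1 lc_f_rc_15_1 lc_f_rc_30_1 lc_f_rc_23_1 lc_f_rc_42_2 lc_f_rc_6_1 lc_f_rc_42_2 lc_f_rc_15_1 lc_f_rc_6_1 lc_f_rc_15_1 lc_f_rc_30_3) (@D3.rec (fun _ => (Cert rels S Gen.f)) lc_f_rc_15_1 lc_f_rc_6_1 lc_f_rc_15_1 lc_f_rc_15_1 lc_f_rc_30_1 lc_f_rc_6_1 lc_f_rc_30_1 lc_f_rc_6_1 lc_f_rc_15_1 lc_f_rc_6_1 lc_f_rc_42_2 lc_f_Cert_tree lc_f_rc_15_1 lc_f_rc_44_2 lc_f_rc_46_2 lc_f_rc_6_1 lc_f_rc_6_3 lc_f_rc_45_2 lc_f_rc_42_2 lc_f_rc_36_1 lc_f_rc_46_2 lc_f_rc_30_3 lc_f_rc_15_1 lc_f_rc_36_1 lc_f_rc_46_2 lc_f_rc_6_1 lc_f_rc_36_3 lc_f_rc_46_2 lc_f_rc_46_2 lc_f_rc_42_2 lc_f_rc_46_2 lc_f_rc_23_1 lc_f_rc_30_3 lc_f_rc_44_2 lc_f_rc_45_2 lc_f_rc_46_2 lc_f_rc_46_2 lc_f_rc_46_2 lc_f_rc_46_2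 lc_f_rc_46_2 lc_f_rc_46_2 lc_f_rc_42_0 lc_f_rc_43_0 lc_f_rc_42_2 lc_f_rc_23_1 lc_f_rc_44_2 lc_f_rc_45_2 lc_f_rc_42_2 lc_f_rc_42_2 lc_f_rc_46_2 lc_f_rc_36_3) (@D3.rec (fun _ => (Cert rels S Gen.f)) lc_f_rc_46_2 lc_f_rc_46_2 lc_f_rc_36_1 lc_f_rc_46_2 lc_f_rc_23_1 lc_f_rc_6_1 lc_f_rc_46_2 lc_f_rc_46_2 lc_f_rc_30_1 lc_f_rc_46_2 lc_f_rc_43_0 lc_f_rc_46_2 lc_f_rc_44_2 lc_f_rc_46_2 lc_f_rc_44_2 lc_f_rc_45_2 lc_f_rc_23_1 lc_f_rc_45_2 lc_f_rc_6_1 lc_f_rc_46_2 lc_f_rc_42_2 lc_f_rc_36_3 lc_f_rc_30_1 lc_f_rc_46_2 lc_f_rc_46_2 lc_f_rc_46_2 lc_f_rc_36_1 lc_f_rc_36_1 lc_f_rc_15_1 lc_f_rc_46_2 lc_f_rc_46_2 lc_f_rc_46_2 lc_f_rc_30_1 lc_f_rc_6_1 lc_f_rc_46_2 lc_f_rc_30_1 lc_f_rc_46_2 lc_f_rc_23_1 lc_f_rc_30_1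 lc_f_rc_43_0 lc_f_rc_36_3 lc_f_rc_44_2 lc_f_rc_43_0 lc_f_rc_46_2 lc_f_rc_46_2 lc_f_rc_44_2 lc_f_rc_44_2 lc_f_rc_6_1 lc_f_rc_45_2 lc_f_rc_45_2 lc_f_Cert_tree) (@D3.rec (fun _ => (Cert rels S Gen.f)) lc_f_rc_46_2 lc_f_Cert_tree lc_f_rc_46_2 lc_f_Cert_tree lc_f_rc_46_2 lc_f_rc_43_0 lc_f_rc_46_2 lc_f_rc_42_2 lc_f_rc_36_3 lc_f_rc_23_1 lc_f_rc_15_3 lc_f_rc_15_3 lc_f_rc_46_2 lc_f_rc_43_0 lc_f_rc_46_2 lc_f_rc_42_2 lc_f_rc_6_1 lc_f_Cert_tree lc_f_rc_30_1 lc_f_rc_43_0 lc_f_rc_46_2 lc_f_rc_42_2 lc_f_rc_44_2 lc_f_rc_46_2 lc_f_rc_42_2 lc_f_rc_6_1 lc_f_rc_23_3 lc_f_rc_15_1 lc_f_rc_23_1 lc_f_rc_36_3 lc_f_rc_23_1 lc_f_rc_46_2 lc_f_rc_36_1 lc_f_rc_45_2 lc_f_rc_15_1 lc_f_rc_23_1 lc_f_rc_42_2 lc_f_rc_6_1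 lc_f_rc_36_3 lc_f_rc_23_1 lc_f_rc_23_1 lc_f_rc_36_3 lc_f_rc_36_3 lc_f_rc_36_3 lc_f_rc_23_1 lc_f_Cert_tree lc_f_rc_43_0 lc_f_rc_45_2 lc_f_rc_43_1 lc_f_rc_6_1 lc_f_rc_45_2) (@D3.rec (fun _ => (Cert rels S Gen.f)) lc_f_rc_42_2 lc_f_rc_44_2 lc_f_rc_46_2 lc_f_rc_43_0 lc_f_rc_6_3 lc_f_rc_43_0 lc_f_rc_45_2 lc_f_rc_45_2 lc_f_rc_42_2 lc_f_rc_30_1 lc_f_Cert_tree lc_f_rc_23_1 lc_f_rc_15_1 lc_f_rc_23_1 lc_f_rc_30_1 lc_f_rc_46_2 lc_f_rc_46_2 lc_f_rc_43_0 lc_f_rc_46_2 lc_f_rc_44_4 lc_f_rc_45_0 lc_f_rc_15_1 lc_f_rc_15_1 lc_f_rc_15_1 lc_f_rc_45_2 lc_f_rc_46_2 lc_f_rc_46_2 lc_f_rc_46_2 lc_f_rc_15_1 lc_f_rc_6_1 lc_f_rc_42_2 lc_f_rc_6_3 lc_f_rc_46_2 lc_f_rc_45_2 lc_f_rc_44_4 lc_f_rc_6_1 lc_f_rc_46_2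 lc_f_Cert_tree lc_f_rc_46_2 lc_f_rc_43_0 lc_f_rc_6_1 lc_f_rc_46_0 lc_f_rc_42_2 lc_f_rc_43_0 lc_f_rc_6_3 lc_f_rc_45_2 lc_f_rc_30_1 lc_f_rc_23_1 lc_f_rc_23_1 lc_f_Cert_tree lc_f_rc_46_2) (@D3.rec (fun _ => (Cert rels S Gen.f)) lc_f_rc_43_0 lc_f_rc_46_2 lc_f_rc_42_2 lc_f_rc_46_2 lc_f_rc_23_1 lc_f_rc_30_1 lc_f_Cert_tree lc_f_rc_42_2 lc_f_rc_43_0 lc_f_rc_45_2 lc_f_rc_43_1 lc_f_rc_30_1 lc_f_rc_23_1 lc_f_rc_23_1 lc_f_rc_30_1 lc_f_rc_23_1 lc_f_rc_36_3 lc_f_rc_46_2 lc_f_rc_42_2 lc_f_rc_45_2 lc_f_rc_42_2 lc_f_rc_45_2 lc_f_rc_30_1 lc_f_rc_46_2 lc_f_rc_23_1 lc_f_rc_30_1 lc_f_rc_15_1 lc_f_rc_45_2 lc_f_rc_45_2 lc_f_rc_30_1 lc_f_rc_46_2 lc_f_rc_30_1 lc_f_rc_46_2 lc_f_rc_44_2 lc_f_rc_46_2 lc_f_rc_23_3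 lc_f_rc_46_2 lc_f_rc_42_2 lc_f_rc_15_1 lc_f_Cert_tree lc_f_rc_15_1 lc_f_rc_15_1 lc_f_rc_15_1 lc_f_rc_30_1 lc_f_rc_46_2 lc_f_rc_45_2 lc_f_rc_46_2 lc_f_Cert_tree lc_f_rc_43_0 lc_f_rc_45_2 lc_f_rc_43_1) (@D3.rec (fun _ => (Cert rels S Gen.f)) lc_f_rc_6_1 lc_f_rc_6_1 lc_f_rc_6_1 lc_f_Cert_tree lc_f_rc_46_2 lc_f_rc_43_0 lc_f_rc_46_2 lc_f_rc_42_2 lc_f_rc_45_2 lc_f_rc_42_2 lc_f_rc_46_2 lc_f_rc_6_1 lc_f_rc_43_0 lc_f_rc_45_2 lc_f_rc_43_1 lc_f_rc_42_2 lc_f_rc_46_2 lc_f_rc_45_2 lc_f_rc_42_2 lc_f_rc_45_2 lc_f_rc_30_1 lc_f_rc_46_2 lc_f_rc_23_1 lc_f_Cert_tree lc_f_rc_30_1 lc_f_rc_23_1 lc_f_Cert_tree lc_f_rc_30_1 lc_f_rc_43_0 lc_f_rc_46_2 lc_f_rc_42_2 lc_f_rc_44_2 lc_f_rc_46_2 lc_f_rc_42_2 lc_f_rc_44_2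 lc_f_rc_45_2 lc_f_rc_30_1 lc_f_rc_46_2 lc_f_rc_46_2 lc_f_rc_23_1 lc_f_rc_46_2 lc_f_rc_15_1 lc_f_rc_23_1 lc_f_rc_42_2 lc_f_rc_46_2 lc_f_rc_46_2 lc_f_rc_6_1 lc_f_rc_15_1 lc_f_rc_43_0 lc_f_rc_45_2 lc_f_rc_43_1) (@D3.rec (fun _ => (Cert rels S Gen.f)) lc_f_rc_42_2 lc_f_rc_46_2 lc_f_rc_45_2 lc_f_rc_42_2 lc_f_rc_45_2 lc_f_rc_30_1 lc_f_rc_46_2 lc_f_rc_23_1 lc_f_rc_15_3 lc_f_rc_30_1 lc_f_rc_30_1 lc_f_rc_23_1 lc_f_Cert_tree lc_f_rc_30_1 lc_f_rc_30_3 lc_f_rc_42_2 lc_f_rc_15_1 lc_f_rc_45_2 lc_f_rc_30_1 lc_f_rc_46_2 lc_f_rc_45_2 lc_f_rc_46_2 lc_f_rc_23_1 lc_f_rc_46_2 lc_f_rc_15_1 lc_f_rc_23_1 lc_f_rc_42_2 lc_f_rc_42_2 lc_f_rc_45_2 lc_f_rc_46_2 lc_f_rc_23_1 lc_f_rc_36_3 lc_f_rc_46_2 lc_f_rc_23_1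 lc_f_rc_46_2 lc_f_rc_15_1 lc_f_rc_23_1 lc_f_rc_42_2 lc_f_rc_6_1 lc_f_rc_15_1 lc_f_rc_23_1 lc_f_Cert_tree lc_f_rc_15_1 lc_f_rc_43_0 lc_f_rc_45_2 lc_f_rc_43_1 lc_f_rc_15_1 lc_f_rc_15_1 lc_f_rc_6_3 lc_f_rc_45_2 lc_f_rc_15_1) (@D3.rec (fun _ => (Cert rels S Gen.f)) lc_f_rc_23_1 lc_f_rc_6_1 lc_f_rc_46_2 lc_f_rc_23_1 lc_f_rc_42_2 lc_f_rc_43_0 lc_f_rc_45_2 lc_f_rc_43_1 lc_f_rc_6_1 lc_f_rc_6_1 lc_f_rc_45_2 lc_f_rc_42_2 lc_f_rc_45_2 lc_f_rc_30_1 lc_f_rc_46_2 lc_f_rc_23_1 lc_f_Cert_tree lc_f_rc_6_1 lc_f_rc_6_1 lc_f_Cert_tree lc_f_rc_46_2 lc_f_rc_43_0 lc_f_rc_46_2 lc_f_rc_42_2 lc_f_rc_6_1 lc_f_rc_46_2 lc_f_rc_42_2 lc_f_rc_6_1 lc_f_rc_45_2 lc_f_rc_30_1 lc_f_rc_46_2 lc_f_rc_46_2 lc_f_rc_23_1 lc_f_rc_46_2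 lc_f_rc_23_1 lc_f_rc_6_1 lc_f_rc_36_3 lc_f_rc_45_2 lc_f_rc_42_2 lc_f_rc_45_2 lc_f_rc_30_1 lc_f_rc_46_2 lc_f_rc_23_1 lc_f_Cert_tree lc_f_rc_46_2 lc_f_rc_15_1 lc_f_rc_45_2 lc_f_rc_30_1 lc_f_rc_46_2 lc_f_rc_45_2 lc_f_rc_46_2) (@D3.rec (fun _ => (Cert rels S Gen.f)) lc_f_rc_23_1 lc_f_Cert_tree lc_f_rc_46_2 lc_f_rc_15_1 lc_f_Cert_tree lc_f_rc_23_1 lc_f_rc_43_0 lc_f_rc_46_2 lc_f_rc_42_2 lc_f_Cert_tree lc_f_rc_46_2 lc_f_rc_43_0 lc_f_rc_46_2 lc_f_rc_42_2 lc_f_rc_44_2 lc_f_rc_46_2 lc_f_rc_42_2 lc_f_rc_45_2 lc_f_rc_44_2 lc_f_rc_42_2 lc_f_rc_42_2 lc_f_rc_45_2 lc_f_rc_46_2 lc_f_rc_23_1 lc_f_rc_23_3 lc_f_rc_46_2 lc_f_rc_23_1 lc_f_rc_46_2 lc_f_rc_15_1 lc_f_rc_23_1 lc_f_rc_42_2 lc_f_rc_6_1 lc_f_rc_15_1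 lc_f_rc_23_1 lc_f_rc_23_1 lc_f_rc_23_1 lc_f_rc_46_2 lc_f_rc_15_1 lc_f_rc_30_1 lc_f_rc_23_1 lc_f_rc_30_1 lc_f_rc_42_2 lc_f_rc_15_1 lc_f_rc_23_1 lc_f_rc_42_2 lc_f_rc_6_1 lc_f_rc_15_1 lc_f_rc_42_2 lc_f_rc_6_1 lc_f_rc_15_1 lc_f_rc_30_1) (@D3.rec (fun _ => (Cert rels S Gen.f)) lc_f_rc_45_0 lc_f_rc_42_2 lc_f_rc_30_1 lc_f_rc_46_2 lc_f_rc_6_1 lc_f_rc_44_2 lc_f_rc_46_2 lc_f_rc_30_1 lc_f_rc_46_2 lc_f_rc_23_3 lc_f_rc_46_2 lc_f_rc_36_3 lc_f_rc_36_3 lc_f_rc_30_1 lc_f_rc_30_1 lc_f_rc_23_1 lc_f_rc_15_1 lc_f_rc_46_2 lc_f_rc_23_1 lc_f_rc_36_3 lc_f_rc_30_1 lc_f_rc_15_1 lc_f_rc_15_1 lc_f_rc_42_2 lc_f_rc_46_2 lc_f_rc_6_1 lc_f_Cert_tree lc_f_rc_6_1 lc_f_rc_6_1 lc_f_rc_42_2 lc_f_rc_30_1 lc_f_rc_46_2 lc_f_rc_46_2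 lc_f_rc_43_0 lc_f_rc_45_2 lc_f_rc_43_1 lc_f_rc_6_1 lc_f_rc_6_1 lc_f_rc_42_2 lc_f_rc_42_2 lc_f_rc_6_3 lc_f_rc_42_2 lc_f_rc_43_0 lc_f_rc_45_2 lc_f_rc_43_1 lc_f_rc_30_1 lc_f_rc_23_1 lc_f_rc_23_1 lc_f_rc_30_1 lc_f_rc_23_1 lc_f_Cert_tree) (@D3.rec (fun _ => (Cert rels S Gen.f)) lc_f_rc_46_2 lc_f_rc_43_0 lc_f_rc_46_2 lc_f_rc_42_2 lc_f_rc_45_2 lc_f_rc_42_2 lc_f_rc_45_2 lc_f_rc_6_3 lc_f_rc_46_2 lc_f_rc_23_1 lc_f_rc_30_1 lc_f_rc_15_1 lc_f_rc_44_2 lc_f_rc_45_2 lc_f_rc_46_2 lc_f_rc_55_68 lc_f_rc_15_3 lc_f_rc_15_3 lc_f_rc_45_0 lc_f_rc_46_2 lc_f_rc_42_2 lc_f_rc_15_1 lc_f_rc_44_4 lc_f_rc_36_3 lc_f_rc_15_1 lc_f_rc_42_2 lc_f_rc_46_2 lc_f_rc_44_4 lc_f_rc_6_1 lc_f_rc_43_0 lc_f_rc_45_2 lc_f_rc_43_1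 lc_f_rc_6_1 lc_f_rc_6_1 lc_f_rc_23_1 lc_f_rc_30_1 lc_f_rc_23_1 lc_f_rc_36_3 lc_f_rc_46_2 lc_f_rc_42_2 lc_f_rc_45_2 lc_f_rc_42_2 lc_f_rc_23_3 lc_f_rc_45_2 lc_f_rc_46_2 lc_f_rc_23_1 lc_f_rc_6_1 lc_f_rc_6_1 lc_f_rc_43_0 lc_f_rc_45_2 lc_f_rc_43_1) (@D3.rec (fun _ => (Cert rels S Gen.f)) lc_f_rc_42_2 lc_f_rc_46_2 lc_f_rc_45_2 lc_f_rc_42_2 lc_f_rc_15_1 lc_f_rc_30_1 lc_f_rc_46_2 lc_f_rc_23_1 lc_f_Cert_tree lc_f_rc_30_1 lc_f_rc_23_1 lc_f_rc_45_2 lc_f_rc_30_1 lc_f_rc_43_0 lc_f_rc_46_2 lc_f_rc_42_2 lc_f_rc_30_1 lc_f_rc_46_2 lc_f_rc_42_2 lc_f_rc_15_1 lc_f_rc_46_2 lc_f_rc_46_2 lc_f_rc_6_3 lc_f_rc_46_2 lc_f_rc_15_1 lc_f_rc_23_1 lc_f_rc_42_2 lc_f_rc_23_1 lc_f_rc_6_1 lc_f_rc_15_1 lc_f_rc_23_1 lc_f_rc_15_3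 lc_f_rc_46_2 lc_f_rc_6_1 lc_f_rc_30_1 lc_f_rc_46_2 lc_f_rc_46_2 lc_f_rc_45_2 lc_f_rc_6_1 lc_f_rc_6_1 lc_f_rc_6_1 lc_f_rc_6_1 lc_f_rc_23_1 lc_f_rc_30_1 lc_f_rc_23_1 lc_f_Cert_tree lc_f_rc_46_2 lc_f_rc_43_0 lc_f_rc_46_2 lc_f_rc_42_2 lc_f_rc_42_2) (@D3.rec (fun _ => (Cert rels S Gen.f)) lc_f_rc_30_1 lc_f_rc_46_2 lc_f_rc_23_1 lc_f_rc_36_3 lc_f_rc_15_1 lc_f_rc_45_2 lc_f_rc_30_1 lc_f_rc_46_2 lc_f_rc_45_2 lc_f_rc_46_2 lc_f_rc_23_1 lc_f_rc_46_2 lc_f_rc_15_1 lc_f_rc_23_1 lc_f_rc_36_3 lc_f_rc_46_2 lc_f_Cert_tree lc_f_rc_36_3 lc_f_rc_15_1 lc_f_rc_15_1 lc_f_rc_46_2 lc_f_Cert_tree lc_f_rc_6_1 lc_f_rc_43_0 lc_f_rc_45_2 lc_f_rc_43_1 lc_f_rc_6_1 lc_f_rc_6_1 lc_f_rc_6_1 lc_f_rc_6_1 lc_f_rc_6_1 lc_f_rc_6_3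 lc_f_rc_46_2 lc_f_rc_42_2 lc_f_rc_45_2 lc_f_rc_42_2 lc_f_rc_45_2 lc_f_rc_30_1 lc_f_rc_46_2 lc_f_rc_23_1 lc_f_rc_6_1 lc_f_rc_6_1 lc_f_rc_43_0 lc_f_rc_45_2 lc_f_rc_43_1 lc_f_rc_42_2 lc_f_rc_46_2 lc_f_rc_45_2 lc_f_rc_42_2 lc_f_rc_45_2 lc_f_rc_30_1) (@D3.rec (fun _ => (Cert rels S Gen.f)) lc_f_rc_46_2 lc_f_rc_23_1 lc_f_Cert_tree lc_f_rc_30_1 lc_f_rc_30_1 lc_f_rc_23_1 lc_f_Cert_tree lc_f_rc_30_1 lc_f_rc_43_0 lc_f_rc_46_2 lc_f_rc_42_2 lc_f_rc_44_2 lc_f_rc_46_2 lc_f_rc_42_2 lc_f_rc_15_1 lc_f_rc_45_2 lc_f_rc_30_1 lc_f_rc_46_2 lc_f_rc_45_2 lc_f_rc_46_2 lc_f_rc_23_1 lc_f_rc_46_2 lc_f_rc_15_1 lc_f_rc_23_1 lc_f_rc_42_2 lc_f_rc_23_1 lc_f_rc_45_2 lc_f_rc_46_2 lc_f_rc_23_1 lc_f_rc_36_3 lc_f_rc_46_2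 lc_f_rc_44_2 lc_f_rc_46_2 lc_f_rc_15_1 lc_f_rc_23_1 lc_f_rc_42_2 lc_f_rc_6_1 lc_f_rc_15_1 lc_f_rc_23_1 lc_f_rc_23_1 lc_f_Cert_tree lc_f_rc_15_1 lc_f_rc_43_0 lc_f_rc_45_2 lc_f_rc_43_1 lc_f_rc_30_1 lc_f_rc_36_3 lc_f_rc_15_1 lc_f_rc_15_1 lc_f_rc_43_0 lc_f_rc_45_2) (@D3.rec (fun _ => (Cert rels S Gen.f)) lc_f_rc_43_1 lc_f_rc_6_1 lc_f_rc_6_1 lc_f_rc_45_2 lc_f_rc_42_2 lc_f_rc_45_2 lc_f_rc_30_1 lc_f_rc_46_2 lc_f_rc_23_1 lc_f_rc_30_1 lc_f_rc_6_1 lc_f_rc_6_1 lc_f_rc_6_1 lc_f_Cert_tree lc_f_rc_6_1 lc_f_rc_36_3 lc_f_rc_42_2 lc_f_rc_6_1 lc_f_rc_45_2 lc_f_rc_30_1 lc_f_rc_46_2 lc_f_rc_45_2 lc_f_rc_46_2 lc_f_rc_23_1 lc_f_rc_46_2 lc_f_rc_15_1 lc_f_rc_23_1 lc_f_rc_6_1 lc_f_rc_36_3 lc_f_rc_45_2 lc_f_rc_42_2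 lc_f_rc_45_2 lc_f_rc_30_1 lc_f_rc_46_2 lc_f_rc_23_1 lc_f_Cert_tree lc_f_rc_46_2 lc_f_rc_23_1 lc_f_rc_45_2 lc_f_rc_30_1 lc_f_rc_46_2 lc_f_rc_45_2 lc_f_rc_46_2 lc_f_rc_23_1 lc_f_Cert_tree lc_f_rc_46_2 lc_f_rc_15_1 lc_f_Cert_tree lc_f_rc_23_1 lc_f_rc_43_0 lc_f_rc_46_2) (@D3.rec (fun _ => (Cert rels S Gen.f)) lc_f_rc_42_2 lc_f_Cert_tree lc_f_rc_30_1 lc_f_rc_43_0 lc_f_rc_46_2 lc_f_rc_42_2 lc_f_rc_44_2 lc_f_rc_46_2 lc_f_rc_42_2 lc_f_rc_45_2 lc_f_rc_44_2 lc_f_rc_42_2 lc_f_rc_44_2 lc_f_rc_45_2 lc_f_rc_46_2 lc_f_rc_23_1 lc_f_rc_44_2 lc_f_rc_46_2 lc_f_rc_23_1 lc_f_rc_46_2 lc_f_rc_15_1 lc_f_rc_23_1 lc_f_rc_42_2 lc_f_rc_6_1 lc_f_rc_15_1 lc_f_rc_23_1 lc_f_rc_46_2 lc_f_rc_45_2 lc_f_rc_46_2 lc_f_rc_15_1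 lc_f_rc_23_1 lc_f_rc_23_1 lc_f_rc_44_2 lc_f_rc_42_2 lc_f_rc_42_2 lc_f_rc_6_1 lc_f_rc_15_1 lc_f_rc_42_2 lc_f_rc_6_1 lc_f_rc_15_1 lc_f_rc_30_1 lc_f_rc_30_1 lc_f_rc_46_2 lc_f_rc_46_2 lc_f_rc_6_1 lc_f_rc_6_1 lc_f_rc_6_3 lc_f_rc_46_2 lc_f_rc_42_2 lc_f_rc_6_1 lc_f_rc_36_3)
def ce_f_9 : D2 → D3 → (Cert rels S Gen.f) := @D2.rec (fun _ => D3 → (Cert rels S Gen.f)) (@D3.rec (fun _ => (Cert rels S Gen.f)) lc_f_rc_23_1 lc_f_rc_30_1 lc_f_rc_45_2 lc_f_rc_46_2 lc_f_Cert_tree lc_f_rc_30_1 lc_f_rc_43_0 lc_f_rc_46_2 lc_f_rc_42_2 lc_f_rc_23_1 lc_f_rc_46_2 lc_f_rc_42_2 lc_f_rc_46_2 lc_f_rc_36_3 lc_f_rc_46_2 lc_f_rc_36_3 lc_f_rc_46_2 lc_f_rc_46_2 lc_f_rc_46_2 lc_f_rc_15_1 lc_f_rc_43_0 lc_f_rc_45_2 lc_f_rc_43_1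 lc_f_rc_30_1 lc_f_rc_6_1 lc_f_rc_15_1 lc_f_rc_15_1 lc_f_rc_45_2 lc_f_rc_42_2 lc_f_rc_45_2 lc_f_rc_30_1 lc_f_rc_46_2 lc_f_rc_6_3 lc_f_rc_6_1 lc_f_rc_45_2 lc_f_rc_6_1 lc_f_Cert_tree lc_f_rc_6_1 lc_f_rc_30_3 lc_f_rc_42_2 lc_f_rc_6_1 lc_f_rc_45_2 lc_f_rc_46_2 lc_f_rc_46_2 lc_f_rc_36_3 lc_f_rc_45_2 lc_f_rc_42_2 lc_f_rc_45_2 lc_f_rc_30_1 lc_f_rc_46_2 lc_f_rc_23_1) (@D3.rec (fun _ => (Cert rels S Gen.f)) lc_f_rc_46_2 lc_f_rc_44_2 lc_f_rc_45_2 lc_f_rc_30_1 lc_f_rc_46_2 lc_f_rc_45_2 lc_f_rc_46_2 lc_f_rc_23_1 lc_f_Cert_tree lc_f_rc_46_2 lc_f_rc_15_1 lc_f_rc_15_1 lc_f_rc_23_1 lc_f_rc_43_0 lc_f_rc_46_2 lc_f_rc_42_2 lc_f_Cert_tree lc_f_rc_30_1 lc_f_rc_43_0 lc_f_rc_46_2 lc_f_rc_42_2 lc_f_rc_44_2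 lc_f_rc_46_2 lc_f_rc_42_2 lc_f_rc_45_2 lc_f_rc_44_2 lc_f_rc_42_2 lc_f_rc_42_2 lc_f_rc_45_2 lc_f_rc_46_2 lc_f_rc_23_1 lc_f_rc_6_1 lc_f_rc_46_2 lc_f_rc_23_1 lc_f_rc_46_2 lc_f_rc_15_1 lc_f_rc_23_1 lc_f_rc_15_1 lc_f_rc_44_2 lc_f_rc_42_2 lc_f_rc_23_1 lc_f_rc_6_1 lc_f_rc_46_2 lc_f_rc_15_1 lc_f_rc_23_1 lc_f_rc_23_1 lc_f_rc_36_3 lc_f_rc_42_2 lc_f_rc_23_1 lc_f_rc_42_2 lc_f_rc_15_1) (@D3.rec (fun _ => (Cert rels S Gen.f)) lc_f_rc_42_2 lc_f_rc_6_1 lc_f_rc_15_1 lc_f_rc_30_1 lc_f_rc_43_0 lc_f_rc_45_2 lc_f_rc_43_1 lc_f_rc_15_1 lc_f_rc_15_1 lc_f_rc_45_2 lc_f_rc_42_2 lc_f_rc_45_2 lc_f_rc_30_1 lc_f_rc_46_2 lc_f_rc_23_1 lc_f_rc_6_3 lc_f_rc_15_1 lc_f_rc_36_3 lc_f_rc_45_2 lc_f_rc_42_2 lc_f_rc_45_2 lc_f_rc_30_1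 lc_f_rc_46_2 lc_f_rc_36_3 lc_f_rc_6_1 lc_f_rc_6_1 lc_f_rc_45_2 lc_f_rc_30_1 lc_f_rc_46_2 lc_f_rc_45_2 lc_f_rc_46_2 lc_f_rc_23_1 lc_f_Cert_tree lc_f_rc_46_2 lc_f_rc_15_1 lc_f_rc_23_1 lc_f_rc_23_1 lc_f_rc_6_3 lc_f_rc_6_1 lc_f_Cert_tree lc_f_rc_6_1 lc_f_rc_43_0 lc_f_rc_46_2 lc_f_rc_6_1 lc_f_rc_36_3 lc_f_rc_6_1 lc_f_rc_45_2 lc_f_rc_46_2 lc_f_rc_23_1 lc_f_rc_6_1 lc_f_rc_46_2) (@D3.rec (fun _ => (Cert rels S Gen.f)) lc_f_rc_23_1 lc_f_rc_46_2 lc_f_rc_15_1 lc_f_rc_23_1 lc_f_rc_6_1 lc_f_rc_15_1 lc_f_rc_36_3 lc_f_rc_36_3 lc_f_rc_44_2 lc_f_rc_45_2 lc_f_rc_30_1 lc_f_rc_46_2 lc_f_rc_45_2 lc_f_rc_46_2 lc_f_rc_23_1 lc_f_Cert_tree lc_f_rc_46_2 lc_f_rc_15_1 lc_f_Cert_tree lc_f_rc_23_1 lc_f_rc_43_0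 lc_f_rc_46_2 lc_f_rc_46_2 lc_f_rc_23_1 lc_f_rc_45_2 lc_f_rc_46_2 lc_f_rc_23_1 lc_f_Cert_tree lc_f_rc_46_2 lc_f_rc_23_1 lc_f_Cert_tree lc_f_rc_46_2 lc_f_rc_15_1 lc_f_Cert_tree lc_f_rc_23_1 lc_f_rc_43_0 lc_f_rc_46_2 lc_f_rc_42_2 lc_f_rc_6_1 lc_f_Cert_tree lc_f_rc_15_1 lc_f_rc_43_0 lc_f_rc_46_2 lc_f_rc_23_1 lc_f_rc_44_2 lc_f_rc_46_2 lc_f_rc_42_2 lc_f_rc_43_0 lc_f_rc_46_2 lc_f_rc_42_2 lc_f_rc_44_2) (@D3.rec (fun _ => (Cert rels S Gen.f)) lc_f_rc_46_2 lc_f_rc_42_2 lc_f_rc_45_2 lc_f_rc_46_2 lc_f_rc_42_2 lc_f_rc_30_1 lc_f_rc_45_2 lc_f_rc_36_5 lc_f_rc_45_2 lc_f_rc_45_2 lc_f_rc_23_1 lc_f_rc_45_2 lc_f_rc_46_2 lc_f_rc_15_1 lc_f_rc_23_1 lc_f_rc_23_1 lc_f_rc_44_2 lc_f_rc_42_2 lc_f_rc_15_1 lc_f_rc_23_1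 lc_f_rc_42_2 lc_f_rc_6_1 lc_f_rc_15_1 lc_f_rc_42_2 lc_f_rc_6_1 lc_f_rc_15_1 lc_f_rc_30_1 lc_f_rc_23_1 lc_f_rc_15_3 lc_f_rc_45_2 lc_f_rc_15_1 lc_f_rc_23_1 lc_f_rc_23_1 lc_f_rc_45_2 lc_f_rc_42_2 lc_f_rc_6_1 lc_f_rc_15_1 lc_f_rc_15_1 lc_f_rc_30_1 lc_f_rc_23_1 lc_f_rc_42_2 lc_f_rc_36_3 lc_f_rc_6_1 lc_f_rc_15_1 lc_f_rc_56_19 lc_f_rc_6_1 lc_f_rc_15_1 lc_f_rc_30_1 lc_f_rc_6_1 lc_f_rc_15_1 lc_f_rc_15_1) (@D3.rec (fun _ => (Cert rels S Gen.f)) lc_f_rc_36_3 lc_f_rc_36_3 lc_f_rc_44_2 lc_f_rc_45_2 lc_f_rc_46_2 lc_f_rc_46_2 lc_f_rc_44_2 lc_f_rc_23_1 lc_f_rc_42_0 lc_f_rc_15_1 lc_f_rc_23_1 lc_f_rc_15_1 lc_f_rc_30_1 lc_f_rc_36_3 lc_f_rc_36_3 lc_f_rc_6_1 lc_f_rc_45_2 lc_f_rc_46_2 lc_f_rc_46_2 lc_f_rc_6_1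 lc_f_rc_23_1 lc_f_rc_6_1 lc_f_rc_15_1 lc_f_rc_23_1 lc_f_rc_6_1 lc_f_rc_6_1 lc_f_rc_36_3 lc_f_rc_30_1 lc_f_rc_46_2 lc_f_rc_42_2 lc_f_rc_45_2 lc_f_rc_46_2 lc_f_rc_23_1 lc_f_rc_23_3 lc_f_rc_46_2 lc_f_rc_23_1 lc_f_rc_46_2 lc_f_rc_15_1 lc_f_rc_23_1 lc_f_rc_6_1 lc_f_rc_15_1 lc_f_rc_30_1 lc_f_rc_23_1 lc_f_rc_15_1 lc_f_rc_46_2 lc_f_rc_15_1 lc_f_rc_6_1 lc_f_rc_23_1 lc_f_rc_45_2 lc_f_rc_46_2 lc_f_rc_15_1) (@D3.rec (fun _ => (Cert rels S Gen.f)) lc_f_rc_23_1 lc_f_rc_23_1 lc_f_rc_46_2 lc_f_rc_42_2 lc_f_rc_6_1 lc_f_rc_15_1 lc_f_rc_15_1 lc_f_rc_30_1 lc_f_rc_23_1 lc_f_rc_42_2 lc_f_rc_36_3 lc_f_rc_6_1 lc_f_rc_45_2 lc_f_rc_42_2 lc_f_rc_6_1 lc_f_rc_15_1 lc_f_rc_30_1 lc_f_rc_6_1 lc_f_rc_15_1 lc_f_rc_23_1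 lc_f_rc_6_1 lc_f_rc_6_1 lc_f_rc_15_1 lc_f_rc_30_1 lc_f_rc_30_1 lc_f_rc_23_3 lc_f_rc_45_2 lc_f_rc_23_1 lc_f_rc_6_1 lc_f_rc_30_1 lc_f_rc_15_3 lc_f_rc_23_1 lc_f_rc_43_0 lc_f_rc_30_1 lc_f_rc_44_2 lc_f_rc_45_2 lc_f_rc_30_1 lc_f_rc_45_2 lc_f_rc_46_2 lc_f_rc_46_0 lc_f_rc_44_2 lc_f_rc_42_2 lc_f_rc_30_1 lc_f_rc_23_1 lc_f_rc_23_1 lc_f_rc_15_1 lc_f_rc_46_2 lc_f_rc_6_1 lc_f_rc_6_1 lc_f_rc_6_1 lc_f_rc_36_3) (@D3.rec (fun _ => (Cert rels S Gen.f)) lc_f_rc_46_2 lc_f_rc_42_2 lc_f_rc_44_2 lc_f_rc_46_2 lc_f_rc_46_2 lc_f_rc_6_1 lc_f_rc_42_2 lc_f_rc_46_2 lc_f_rc_42_2 lc_f_rc_30_1 lc_f_rc_46_2 lc_f_rc_23_1 lc_f_Cert_tree lc_f_rc_30_1 lc_f_rc_43_0 lc_f_rc_46_2 lc_f_rc_44_2 lc_f_rc_46_2 lc_f_rc_46_2 lc_f_rc_45_2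 lc_f_rc_6_3 lc_f_rc_46_2 lc_f_rc_45_2 lc_f_rc_23_1 lc_f_rc_23_3 lc_f_rc_46_2 lc_f_rc_43_0 lc_f_rc_43_1 lc_f_rc_42_2 lc_f_rc_46_2 lc_f_rc_45_2 lc_f_rc_42_2 lc_f_rc_30_1 lc_f_rc_46_2 lc_f_rc_23_1 lc_f_rc_30_1 lc_f_rc_23_1 lc_f_rc_46_2 lc_f_rc_23_1 lc_f_rc_42_2 lc_f_rc_43_0 lc_f_rc_43_1 lc_f_rc_15_1 lc_f_rc_15_1 lc_f_rc_15_1 lc_f_rc_42_2 lc_f_rc_30_1 lc_f_rc_46_2 lc_f_rc_30_1 lc_f_rc_6_1 lc_f_rc_6_1) (@D3.rec (fun _ => (Cert rels S Gen.f)) lc_f_Cert_tree lc_f_rc_6_1 lc_f_rc_36_3 lc_f_rc_6_1 lc_f_rc_45_2 lc_f_rc_30_1 lc_f_rc_46_2 lc_f_rc_45_2 lc_f_rc_46_2 lc_f_rc_46_2 lc_f_rc_6_1 lc_f_rc_42_2 lc_f_rc_30_1 lc_f_rc_46_2 lc_f_Cert_tree lc_f_rc_46_2 lc_f_rc_23_1 lc_f_rc_45_2 lc_f_rc_30_1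 lc_f_rc_46_2 lc_f_rc_45_2 lc_f_rc_46_2 lc_f_rc_23_1 lc_f_Cert_tree lc_f_rc_46_2 lc_f_rc_15_1 lc_f_Cert_tree lc_f_rc_23_1 lc_f_rc_43_0 lc_f_rc_46_2 lc_f_rc_42_2 lc_f_rc_43_0 lc_f_rc_46_2 lc_f_rc_44_2 lc_f_rc_46_2 lc_f_rc_45_2 lc_f_rc_44_2 lc_f_rc_30_1 lc_f_rc_45_2 lc_f_rc_46_2 lc_f_rc_23_1 lc_f_rc_36_3 lc_f_rc_46_2 lc_f_rc_23_1 lc_f_rc_46_2 lc_f_rc_15_1 lc_f_rc_23_1 lc_f_rc_42_2 lc_f_rc_15_1 lc_f_rc_42_2 lc_f_rc_42_2) (@D3.rec (fun _ => (Cert rels S Gen.f)) lc_f_rc_46_2 lc_f_rc_15_1 lc_f_rc_23_1 lc_f_rc_36_3 lc_f_rc_23_3 lc_f_rc_42_2 lc_f_rc_6_1 lc_f_rc_15_1 lc_f_rc_15_3 lc_f_rc_6_1 lc_f_rc_42_2 lc_f_rc_15_3 lc_f_rc_23_3 lc_f_rc_46_2 lc_f_rc_45_2 lc_f_rc_6_1 lc_f_rc_15_1 lc_f_rc_23_1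 lc_f_rc_45_2 lc_f_rc_45_2 lc_f_rc_42_2 lc_f_rc_45_2 lc_f_rc_30_1 lc_f_rc_46_2 lc_f_rc_46_2 lc_f_rc_15_1 lc_f_rc_45_2 lc_f_rc_30_1 lc_f_rc_46_2 lc_f_rc_45_2 lc_f_rc_46_2 lc_f_rc_23_1 lc_f_rc_46_2 lc_f_rc_15_1 lc_f_rc_23_1 lc_f_rc_42_2 lc_f_rc_46_2 lc_f_rc_23_1 lc_f_rc_46_2 lc_f_rc_6_3 lc_f_rc_23_3 lc_f_rc_15_1 lc_f_rc_23_1 lc_f_rc_42_2 lc_f_rc_6_1 lc_f_rc_15_1 lc_f_rc_23_1 lc_f_rc_15_1 lc_f_rc_23_1 lc_f_rc_42_2 lc_f_rc_23_3) (@D3.rec (fun _ => (Cert rels S Gen.f)) lc_f_rc_46_2 lc_f_rc_30_3 lc_f_rc_6_1 lc_f_rc_15_1 lc_f_rc_42_2 lc_f_rc_6_1 lc_f_rc_15_1 lc_f_rc_30_1 lc_f_rc_43_0 lc_f_rc_43_1 lc_f_rc_15_1 lc_f_rc_45_2 lc_f_rc_42_2 lc_f_rc_45_2 lc_f_rc_30_1 lc_f_rc_46_2 lc_f_rc_15_1 lc_f_rc_46_2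 lc_f_rc_42_2 lc_f_rc_45_2 lc_f_rc_30_1 lc_f_rc_46_2 lc_f_rc_23_1 lc_f_rc_6_1 lc_f_rc_6_1 lc_f_rc_45_2 lc_f_rc_30_1 lc_f_rc_46_2 lc_f_rc_45_2 lc_f_rc_46_2 lc_f_rc_23_1 lc_f_Cert_tree lc_f_rc_46_2 lc_f_rc_15_1 lc_f_rc_36_3 lc_f_rc_23_1 lc_f_rc_6_3 lc_f_rc_6_1 lc_f_Cert_tree lc_f_rc_42_2 lc_f_rc_43_0 lc_f_rc_46_2 lc_f_rc_6_1 lc_f_rc_45_2 lc_f_rc_46_2 lc_f_rc_23_1 lc_f_rc_6_1 lc_f_rc_46_2 lc_f_rc_23_1 lc_f_rc_46_2 lc_f_rc_15_1) (@D3.rec (fun _ => (Cert rels S Gen.f)) lc_f_rc_23_1 lc_f_rc_42_2 lc_f_rc_6_1 lc_f_rc_30_3 lc_f_rc_23_1 lc_f_rc_36_3 lc_f_rc_15_1 lc_f_rc_45_2 lc_f_rc_30_1 lc_f_rc_46_2 lc_f_rc_45_2 lc_f_rc_46_2 lc_f_rc_23_1 lc_f_Cert_tree lc_f_rc_46_2 lc_f_rc_15_1 lc_f_rc_36_3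 lc_f_rc_23_1 lc_f_rc_43_0 lc_f_rc_46_2 lc_f_rc_46_2 lc_f_rc_42_2 lc_f_rc_45_2 lc_f_rc_46_2 lc_f_rc_23_1 lc_f_Cert_tree lc_f_rc_46_2 lc_f_rc_23_1 lc_f_Cert_tree lc_f_rc_46_2 lc_f_rc_15_1 lc_f_Cert_tree lc_f_rc_23_1 lc_f_rc_43_0 lc_f_rc_46_2 lc_f_rc_42_2 lc_f_rc_6_1 lc_f_Cert_tree lc_f_rc_15_1 lc_f_rc_43_0 lc_f_rc_46_2 lc_f_rc_23_1 lc_f_rc_44_2 lc_f_rc_46_2 lc_f_rc_42_2 lc_f_rc_43_0 lc_f_rc_46_2 lc_f_rc_44_2 lc_f_rc_46_2 lc_f_rc_45_2 lc_f_rc_46_2) (@D3.rec (fun _ => (Cert rels S Gen.f)) lc_f_rc_45_2 lc_f_rc_44_2 lc_f_rc_44_2 lc_f_rc_23_1 lc_f_rc_36_3 lc_f_rc_46_2 lc_f_rc_15_1 lc_f_rc_23_1 lc_f_rc_23_1 lc_f_rc_36_3 lc_f_rc_42_2 lc_f_rc_15_1 lc_f_rc_23_1 lc_f_rc_42_2 lc_f_rc_6_1 lc_f_rc_15_1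 lc_f_rc_42_2 lc_f_rc_6_1 lc_f_rc_15_1 lc_f_rc_30_1 lc_f_rc_30_1 lc_f_rc_15_1 lc_f_rc_23_1 lc_f_rc_23_1 lc_f_rc_36_3 lc_f_rc_42_2 lc_f_rc_6_1 lc_f_rc_36_3 lc_f_rc_15_1 lc_f_rc_30_1 lc_f_rc_23_1 lc_f_rc_42_2 lc_f_rc_36_3 lc_f_rc_30_1 lc_f_rc_15_1 lc_f_rc_42_2 lc_f_rc_6_1 lc_f_rc_15_1 lc_f_rc_30_1 lc_f_rc_6_1 lc_f_rc_15_1 lc_f_rc_15_1 lc_f_rc_6_1 lc_f_rc_15_1 lc_f_rc_6_1 lc_f_rc_6_1 lc_f_rc_42_2 lc_f_rc_46_2 lc_f_rc_23_1 lc_f_rc_6_1 lc_f_rc_42_2) (@D3.rec (fun _ => (Cert rels S Gen.f)) lc_f_rc_42_2 lc_f_rc_46_2 lc_f_rc_36_5 lc_f_rc_46_2 lc_f_rc_23_1 lc_f_rc_30_1 lc_f_rc_30_1 lc_f_rc_23_1 lc_f_rc_30_1 lc_f_rc_36_3 lc_f_rc_23_1 lc_f_rc_42_2 lc_f_rc_6_1 lc_f_rc_6_1 lc_f_rc_42_2 lc_f_rc_46_0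 lc_f_rc_30_1 lc_f_rc_46_2 lc_f_rc_23_1 lc_f_rc_6_1 lc_f_rc_23_1 lc_f_rc_6_1 lc_f_rc_45_2 lc_f_rc_30_1 lc_f_rc_46_2 lc_f_rc_42_2 lc_f_rc_46_2 lc_f_rc_23_1 lc_f_rc_6_1 lc_f_rc_23_1 lc_f_rc_46_2 lc_f_rc_23_1 lc_f_rc_45_2 lc_f_rc_30_1 lc_f_rc_46_2 lc_f_rc_42_2 lc_f_rc_23_1 lc_f_rc_46_2 lc_f_rc_15_1 lc_f_Cert_tree lc_f_rc_23_1 lc_f_rc_43_0 lc_f_rc_46_2 lc_f_rc_42_2 lc_f_rc_45_0 lc_f_rc_46_2 lc_f_rc_23_1 lc_f_rc_44_2 lc_f_rc_42_2 lc_f_rc_45_2 lc_f_rc_23_1) (@D3.rec (fun _ => (Cert rels S Gen.f)) lc_f_rc_36_3 lc_f_rc_46_2 lc_f_rc_46_2 lc_f_rc_6_1 lc_f_rc_23_1 lc_f_rc_42_2 lc_f_rc_6_1 lc_f_rc_15_1 lc_f_rc_23_1 lc_f_rc_36_3 lc_f_rc_36_3 lc_f_rc_42_2 lc_f_rc_6_1 lc_f_rc_15_3 lc_f_rc_23_1 lc_f_rc_6_3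 lc_f_rc_23_1 lc_f_rc_6_1 lc_f_rc_15_1 lc_f_rc_43_0 lc_f_rc_43_0 lc_f_rc_43_1 lc_f_rc_6_1 lc_f_rc_6_1 lc_f_rc_45_2 lc_f_rc_42_2 lc_f_rc_45_2 lc_f_rc_30_1 lc_f_rc_46_2 lc_f_rc_23_1 lc_f_rc_6_1 lc_f_rc_6_1 lc_f_rc_44_2 lc_f_rc_45_2 lc_f_rc_30_1 lc_f_rc_46_2 lc_f_rc_46_2 lc_f_rc_23_1 lc_f_rc_46_2 lc_f_rc_15_1 lc_f_rc_23_1 lc_f_rc_6_1 lc_f_rc_42_2 lc_f_rc_30_1 lc_f_rc_46_2 lc_f_rc_23_1 lc_f_rc_30_1 lc_f_rc_46_2 lc_f_rc_44_2 lc_f_rc_45_2 lc_f_rc_30_1) (@D3.rec (fun _ => (Cert rels S Gen.f)) lc_f_rc_46_2 lc_f_rc_45_2 lc_f_rc_46_2 lc_f_rc_23_1 lc_f_Cert_tree lc_f_rc_46_2 lc_f_rc_15_1 lc_f_rc_23_1 lc_f_rc_23_1 lc_f_rc_30_1 lc_f_rc_42_2 lc_f_rc_30_1 lc_f_rc_43_0 lc_f_rc_46_2 lc_f_rc_46_2 lc_f_rc_23_1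 lc_f_rc_36_3 lc_f_rc_46_2 lc_f_rc_23_1 lc_f_rc_42_2 lc_f_rc_6_1 lc_f_rc_15_1 lc_f_rc_23_1 lc_f_rc_36_3 lc_f_rc_42_2 lc_f_rc_6_1 lc_f_rc_15_1 lc_f_rc_30_1 lc_f_rc_15_1 lc_f_rc_30_1 lc_f_rc_42_2 lc_f_rc_30_1 lc_f_rc_46_2 lc_f_rc_23_1 lc_f_rc_6_1 lc_f_rc_30_1 lc_f_rc_45_2 lc_f_rc_30_1 lc_f_rc_46_2 lc_f_rc_45_2 lc_f_rc_46_2 lc_f_rc_23_1 lc_f_rc_46_2 lc_f_rc_15_1 lc_f_rc_23_1 lc_f_rc_6_1 lc_f_rc_6_1 lc_f_rc_45_2 lc_f_rc_46_2 lc_f_rc_23_1 lc_f_rc_6_1) (@D3.rec (fun _ => (Cert rels S Gen.f)) lc_f_rc_46_2 lc_f_rc_46_2 lc_f_rc_23_1 lc_f_rc_42_2 lc_f_rc_6_1 lc_f_rc_15_1 lc_f_rc_23_1 lc_f_rc_23_1 lc_f_rc_30_1 lc_f_rc_46_2 lc_f_rc_23_1 lc_f_rc_46_2 lc_f_rc_15_1 lc_f_Cert_tree lc_f_rc_23_1 lc_f_rc_43_0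 lc_f_rc_30_1 lc_f_rc_46_2 lc_f_rc_42_2 lc_f_rc_45_2 lc_f_rc_46_2 lc_f_rc_23_1 lc_f_Cert_tree lc_f_rc_46_2 lc_f_rc_23_1 lc_f_rc_46_2 lc_f_rc_15_1 lc_f_Cert_tree lc_f_rc_23_1 lc_f_rc_43_0 lc_f_rc_46_2 lc_f_rc_42_2 lc_f_rc_6_1 lc_f_Cert_tree lc_f_rc_15_1 lc_f_rc_43_0 lc_f_rc_46_2 lc_f_rc_23_1 lc_f_rc_44_2 lc_f_rc_46_2 lc_f_rc_42_2 lc_f_rc_44_2 lc_f_rc_46_2 lc_f_rc_45_2 lc_f_rc_46_2 lc_f_rc_45_2 lc_f_rc_44_2 lc_f_rc_44_2 lc_f_rc_23_1 lc_f_rc_23_1 lc_f_rc_46_2) (@D3.rec (fun _ => (Cert rels S Gen.f)) lc_f_rc_15_1 lc_f_rc_23_1 lc_f_rc_23_1 lc_f_rc_36_3 lc_f_rc_42_2 lc_f_rc_15_1 lc_f_rc_23_1 lc_f_rc_42_2 lc_f_rc_6_1 lc_f_rc_15_1 lc_f_rc_42_2 lc_f_rc_6_1 lc_f_rc_15_1 lc_f_rc_30_1 lc_f_rc_30_1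 lc_f_rc_15_1 lc_f_rc_44_2 lc_f_rc_23_1 lc_f_rc_44_2 lc_f_rc_42_2 lc_f_rc_6_1 lc_f_rc_15_1 lc_f_rc_15_1 lc_f_rc_45_2 lc_f_rc_23_1 lc_f_rc_42_2 lc_f_rc_36_3 lc_f_rc_6_1 lc_f_rc_15_1 lc_f_rc_42_2 lc_f_rc_6_1 lc_f_rc_15_1 lc_f_rc_30_1 lc_f_rc_6_1 lc_f_rc_15_1 lc_f_Cert_tree lc_f_rc_6_1 lc_f_rc_45_2 lc_f_rc_30_1 lc_f_rc_46_2 lc_f_rc_45_2 lc_f_rc_46_2 lc_f_rc_46_2 lc_f_rc_6_1 lc_f_rc_42_2 lc_f_rc_46_2 lc_f_rc_36_3 lc_f_rc_44_2 lc_f_rc_45_2 lc_f_rc_30_1 lc_f_rc_46_2) (@D3.rec (fun _ => (Cert rels S Gen.f)) lc_f_rc_45_2 lc_f_rc_46_2 lc_f_Cert_tree lc_f_rc_46_2 lc_f_rc_15_1 lc_f_rc_46_2 lc_f_rc_42_2 lc_f_rc_45_2 lc_f_rc_46_2 lc_f_rc_23_1 lc_f_Cert_tree lc_f_rc_46_2 lc_f_rc_23_1 lc_f_Cert_tree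 lc_f_rc_46_2 lc_f_rc_15_1 lc_f_Cert_tree lc_f_rc_23_1 lc_f_rc_43_0 lc_f_rc_46_2 lc_f_rc_42_2 lc_f_rc_36_1 lc_f_rc_15_1 lc_f_rc_15_3 lc_f_rc_23_1 lc_f_rc_6_3 lc_f_rc_43_0 lc_f_rc_46_2 lc_f_rc_46_2 lc_f_rc_44_2 lc_f_rc_42_2 lc_f_rc_23_1 lc_f_rc_36_3 lc_f_rc_46_2 lc_f_rc_15_1 lc_f_rc_23_1 lc_f_rc_23_1 lc_f_rc_36_3 lc_f_rc_15_1 lc_f_rc_23_1 lc_f_rc_6_1 lc_f_rc_15_1 lc_f_rc_30_1 lc_f_rc_44_2 lc_f_rc_15_1 lc_f_rc_23_1 lc_f_rc_36_3 lc_f_rc_42_2 lc_f_rc_6_1 lc_f_rc_15_1 lc_f_rc_15_1) (@D3.rec (fun _ => (Cert rels S Gen.f)) lc_f_rc_23_1 lc_f_rc_42_2 lc_f_rc_36_3 lc_f_rc_6_1 lc_f_rc_15_1 lc_f_rc_46_2 lc_f_rc_6_1 lc_f_rc_15_1 lc_f_rc_45_2 lc_f_rc_42_2 lc_f_rc_46_2 lc_f_rc_23_1 lc_f_rc_42_2 lc_f_rc_23_1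 lc_f_rc_46_2 lc_f_rc_15_1 lc_f_rc_6_1 lc_f_rc_6_1 lc_f_rc_45_2 lc_f_rc_30_1 lc_f_rc_46_2 lc_f_rc_45_2 lc_f_rc_46_2 lc_f_rc_46_2 lc_f_rc_6_1 lc_f_rc_23_1 lc_f_rc_45_2 lc_f_rc_46_2 lc_f_rc_23_1 lc_f_rc_36_3 lc_f_rc_46_2 lc_f_rc_23_1 lc_f_rc_46_2 lc_f_rc_15_1 lc_f_rc_23_1 lc_f_rc_42_2 lc_f_rc_23_1 lc_f_rc_15_1 lc_f_rc_23_1 lc_f_rc_6_1 lc_f_rc_6_1 lc_f_rc_23_1 lc_f_rc_23_3 lc_f_rc_46_2 lc_f_rc_15_1 lc_f_rc_23_1 lc_f_rc_23_1 lc_f_rc_6_1 lc_f_rc_15_1 lc_f_rc_23_1 lc_f_rc_6_1) (@D3.rec (fun _ => (Cert rels S Gen.f)) lc_f_rc_15_1 lc_f_rc_6_1 lc_f_rc_42_0 lc_f_rc_42_2 lc_f_rc_30_1 lc_f_rc_46_2 lc_f_rc_42_2 lc_f_rc_45_2 lc_f_rc_46_2 lc_f_rc_23_1 lc_f_Cert_tree lc_f_rc_46_2 lc_f_rc_23_1 lc_f_rc_42_2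 lc_f_rc_46_2 lc_f_rc_15_1 lc_f_Cert_tree lc_f_rc_23_1 lc_f_rc_43_0 lc_f_rc_46_2 lc_f_rc_42_2 lc_f_rc_23_1 lc_f_rc_15_3 lc_f_rc_15_1 lc_f_rc_43_0 lc_f_rc_46_2 lc_f_rc_23_1 lc_f_rc_44_2 lc_f_rc_46_2 lc_f_rc_42_2 lc_f_rc_30_1 lc_f_rc_23_1 lc_f_rc_23_1 lc_f_Cert_tree lc_f_rc_46_2 lc_f_rc_15_1 lc_f_Cert_tree lc_f_rc_23_1 lc_f_rc_43_0 lc_f_rc_46_2 lc_f_rc_42_2 lc_f_rc_15_1 lc_f_Cert_tree lc_f_rc_23_1 lc_f_rc_43_0 lc_f_rc_46_2 lc_f_rc_42_2 lc_f_rc_6_1 lc_f_Cert_tree lc_f_rc_15_1 lc_f_rc_43_0) (@D3.rec (fun _ => (Cert rels S Gen.f)) lc_f_rc_46_2 lc_f_rc_42_2 lc_f_rc_44_2 lc_f_rc_46_2 lc_f_rc_42_2 lc_f_rc_23_1 lc_f_rc_6_1 lc_f_rc_43_0 lc_f_rc_46_2 lc_f_rc_15_1 lc_f_rc_23_1 lc_f_rc_46_2 lc_f_rc_42_2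 lc_f_rc_30_1 lc_f_rc_45_2 lc_f_rc_46_2 lc_f_rc_42_2 lc_f_rc_23_1 lc_f_rc_46_2 lc_f_rc_45_2 lc_f_rc_46_2 lc_f_rc_46_2 lc_f_rc_23_1 lc_f_rc_44_2 lc_f_rc_15_1 lc_f_rc_45_2 lc_f_rc_23_1 lc_f_rc_23_3 lc_f_rc_42_2 lc_f_rc_6_1 lc_f_rc_30_3 lc_f_rc_15_1 lc_f_rc_30_1 lc_f_rc_23_1 lc_f_rc_42_2 lc_f_rc_23_3 lc_f_rc_46_0 lc_f_rc_15_1 lc_f_rc_42_2 lc_f_rc_6_1 lc_f_rc_42_2 lc_f_rc_30_1 lc_f_rc_6_1 lc_f_rc_15_1 lc_f_rc_15_1 lc_f_rc_6_1 lc_f_rc_23_3 lc_f_rc_23_3 lc_f_rc_23_3 lc_f_rc_6_1 lc_f_rc_36_3) (@D3.rec (fun _ => (Cert rels S Gen.f)) lc_f_rc_30_1 lc_f_rc_46_2 lc_f_rc_42_2 lc_f_rc_46_2 lc_f_rc_44_2 lc_f_rc_42_0 lc_f_rc_15_1 lc_f_rc_23_1 lc_f_rc_45_2 lc_f_rc_15_1 lc_f_rc_6_1 lc_f_rc_23_3 lc_f_rc_6_1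 lc_f_rc_23_3 lc_f_rc_30_1 lc_f_rc_6_1 lc_f_rc_46_2 lc_f_rc_23_1 lc_f_rc_15_1 lc_f_rc_45_2 lc_f_rc_6_1 lc_f_rc_15_1 lc_f_rc_30_1 lc_f_rc_46_2 lc_f_rc_30_1 lc_f_rc_46_2 lc_f_rc_23_1 lc_f_rc_30_1 lc_f_rc_30_1 lc_f_rc_42_2 lc_f_rc_44_2 lc_f_rc_23_1 lc_f_rc_36_3 lc_f_rc_46_2 lc_f_rc_15_1 lc_f_rc_36_3 lc_f_rc_23_1 lc_f_rc_46_2 lc_f_rc_15_1 lc_f_rc_23_1 lc_f_rc_6_1 lc_f_rc_15_1 lc_f_rc_6_1 lc_f_rc_30_1 lc_f_rc_15_1 lc_f_rc_36_3 lc_f_rc_6_1 lc_f_rc_15_1 lc_f_rc_36_3 lc_f_rc_46_2 lc_f_rc_42_2) (@D3.rec (fun _ => (Cert rels S Gen.f)) lc_f_rc_30_1 lc_f_rc_15_1 lc_f_rc_45_2 lc_f_rc_45_2 lc_f_Cert_tree lc_f_rc_6_3 lc_f_rc_23_1 lc_f_rc_44_2 lc_f_rc_15_1 lc_f_rc_43_0 lc_f_rc_46_2 lc_f_rc_46_2 lc_f_rc_46_2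 lc_f_rc_55_86 lc_f_rc_36_3 lc_f_rc_42_2 lc_f_rc_6_1 lc_f_rc_46_2 lc_f_rc_6_1 lc_f_rc_6_1 lc_f_rc_15_1 lc_f_rc_30_1 lc_f_rc_23_1 lc_f_rc_36_3 lc_f_rc_42_2 lc_f_rc_15_1 lc_f_rc_15_3 lc_f_rc_42_2 lc_f_rc_36_3 lc_f_rc_46_2 lc_f_rc_42_2 lc_f_rc_46_2 lc_f_rc_15_1 lc_f_rc_30_1 lc_f_rc_6_1 lc_f_rc_15_1 lc_f_rc_45_2 lc_f_rc_23_1 lc_f_rc_6_1 lc_f_rc_42_2 lc_f_rc_36_5 lc_f_rc_6_3 lc_f_rc_6_1 lc_f_rc_15_1 lc_f_rc_30_1 lc_f_rc_6_3 lc_f_rc_15_1 lc_f_rc_30_3 lc_f_rc_43_0 lc_f_rc_30_1 lc_f_rc_44_2) (@D3.rec (fun _ => (Cert rels S Gen.f)) lc_f_Cert_tree lc_f_rc_6_1 lc_f_rc_43_0 lc_f_rc_46_2 lc_f_rc_44_2 lc_f_rc_46_2 lc_f_rc_42_2 lc_f_Cert_tree lc_f_rc_6_1 lc_f_rc_43_0 lc_f_rc_46_2 lc_f_rc_15_1 lc_f_rc_23_1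 lc_f_rc_46_2 lc_f_rc_42_2 lc_f_rc_30_1 lc_f_rc_30_3 lc_f_rc_46_2 lc_f_rc_42_2 lc_f_rc_46_2 lc_f_rc_45_2 lc_f_rc_46_2 lc_f_rc_42_2 lc_f_rc_15_1 lc_f_rc_15_1 lc_f_rc_30_1 lc_f_rc_23_1 lc_f_rc_42_2 lc_f_rc_36_3 lc_f_rc_46_2 lc_f_rc_30_1 lc_f_rc_46_2 lc_f_rc_15_1 lc_f_rc_30_1 lc_f_rc_6_1 lc_f_rc_15_1 lc_f_Cert_tree lc_f_rc_15_1 lc_f_rc_42_2 lc_f_rc_6_1 lc_f_rc_6_1 lc_f_rc_15_1 lc_f_rc_15_1 lc_f_rc_23_1 lc_f_rc_30_1 lc_f_rc_44_2 lc_f_rc_15_1 lc_f_rc_30_1 lc_f_rc_6_1 lc_f_rc_30_1 lc_f_Cert_tree) (@D3.rec (fun _ => (Cert rels S Gen.f)) lc_f_rc_6_1 lc_f_rc_23_1 lc_f_Cert_tree lc_f_rc_43_0 lc_f_rc_15_1 lc_f_rc_23_1 lc_f_rc_42_2 lc_f_rc_15_1 lc_f_rc_6_3 lc_f_rc_23_3 lc_f_rc_6_1 lc_f_rc_15_1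 lc_f_rc_42_2 lc_f_rc_6_1 lc_f_rc_15_1 lc_f_rc_30_1 lc_f_rc_15_1 lc_f_rc_23_1 lc_f_rc_6_1 lc_f_rc_15_1 lc_f_rc_15_1 lc_f_rc_30_1 lc_f_rc_23_1 lc_f_rc_42_2 lc_f_rc_6_1 lc_f_rc_15_1 lc_f_rc_42_2 lc_f_rc_6_1 lc_f_rc_15_1 lc_f_rc_30_1 lc_f_rc_6_1 lc_f_rc_15_1 lc_f_rc_6_1 lc_f_rc_23_1 lc_f_rc_42_2 lc_f_rc_6_1 lc_f_Cert_tree lc_f_rc_15_1 lc_f_Cert_tree lc_f_rc_43_0 lc_f_rc_46_2 lc_f_rc_42_2 lc_f_rc_44_2 lc_f_rc_46_2 lc_f_rc_42_2 lc_f_rc_30_1 lc_f_Cert_tree lc_f_rc_15_1 lc_f_rc_43_0 lc_f_rc_46_2 lc_f_rc_42_2) (@D3.rec (fun _ => (Cert rels S Gen.f)) lc_f_rc_46_2 lc_f_rc_42_2 lc_f_Cert_tree lc_f_rc_30_1 lc_f_rc_43_0 lc_f_rc_46_2 lc_f_rc_15_1 lc_f_rc_23_1 lc_f_rc_46_2 lc_f_rc_42_2 lc_f_rc_30_1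 lc_f_rc_45_2 lc_f_rc_46_2 lc_f_rc_42_2 lc_f_rc_43_0 lc_f_rc_46_2 lc_f_rc_6_1 lc_f_rc_15_1 lc_f_rc_46_2 lc_f_rc_42_2 lc_f_rc_15_1 lc_f_rc_23_1 lc_f_rc_23_1 lc_f_rc_42_2 lc_f_rc_30_1 lc_f_rc_30_3 lc_f_rc_46_2 lc_f_rc_42_2 lc_f_rc_45_2 lc_f_rc_44_2 lc_f_rc_46_2 lc_f_rc_36_5 lc_f_rc_30_1 lc_f_Cert_tree lc_f_rc_42_2 lc_f_rc_30_1 lc_f_Cert_tree lc_f_rc_46_2 lc_f_rc_43_0 lc_f_rc_30_1 lc_f_rc_46_2 lc_f_rc_46_2 lc_f_rc_46_2 lc_f_rc_46_2 lc_f_rc_46_2 lc_f_rc_42_2 lc_f_rc_45_2 lc_f_rc_30_3 lc_f_rc_46_2 lc_f_rc_45_2 lc_f_rc_46_2)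
def ce_f_10 : D2 → D3 → (Cert rels S Gen.f) := @D2.rec (fun _ => D3 → (Cert rels S Gen.f)) (@D3.rec (fun _ => (Cert rels S Gen.f)) lc_f_rc_46_2 lc_f_rc_30_1 lc_f_rc_46_2 lc_f_rc_42_0 lc_f_rc_30_1 lc_f_rc_6_1 lc_f_rc_23_1 lc_f_rc_30_1 lc_f_rc_44_2 lc_f_rc_46_2 lc_f_rc_45_2 lc_f_rc_46_2 lc_f_rc_45_2 lc_f_rc_23_1 lc_f_rc_30_1 lc_f_rc_6_1 lc_f_rc_46_2 lc_f_rc_30_1 lc_f_rc_23_1 lc_f_rc_30_1 lc_f_rc_23_1 lc_f_rc_30_1 lc_f_rc_15_1 lc_f_rc_23_1 lc_f_rc_42_2 lc_f_rc_44_2 lc_f_rc_46_2 lc_f_rc_6_1 lc_f_rc_43_0 lc_f_rc_46_2 lc_f_rc_6_1 lc_f_rc_43_0 lc_f_rc_46_2 lc_f_rc_6_3 lc_f_rc_43_0 lc_f_rc_46_2 lc_f_rc_42_2 lc_f_rc_44_2 lc_f_rc_46_2 lc_f_rc_42_2 lc_f_rc_23_1 lc_f_rc_15_3 lc_f_rc_15_3 lc_f_rc_42_2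 lc_f_rc_6_1 lc_f_rc_46_2 lc_f_rc_42_2 lc_f_rc_6_1 lc_f_rc_43_0 lc_f_rc_46_2 lc_f_rc_36_5) (@D3.rec (fun _ => (Cert rels S Gen.f)) lc_f_rc_44_2 lc_f_rc_46_2 lc_f_rc_42_2 lc_f_rc_45_2 lc_f_rc_44_2 lc_f_rc_42_2 lc_f_rc_30_1 lc_f_rc_15_1 lc_f_rc_6_1 lc_f_rc_23_3 lc_f_rc_15_1 lc_f_rc_23_1 lc_f_rc_15_1 lc_f_rc_23_1 lc_f_rc_42_2 lc_f_rc_23_1 lc_f_rc_46_2 lc_f_rc_45_2 lc_f_rc_6_1 lc_f_rc_15_1 lc_f_rc_42_2 lc_f_rc_6_1 lc_f_rc_36_3 lc_f_rc_30_1 lc_f_rc_6_1 lc_f_rc_23_1 lc_f_rc_43_0 lc_f_rc_45_2 lc_f_rc_42_2 lc_f_rc_44_2 lc_f_rc_6_1 lc_f_rc_6_3 lc_f_rc_45_2 lc_f_rc_44_2 lc_f_rc_42_2 lc_f_rc_43_0 lc_f_rc_30_1 lc_f_rc_6_3 lc_f_rc_30_1 lc_f_rc_23_1 lc_f_rc_23_1 lc_f_rc_30_1 lc_f_rc_23_1 lc_f_rc_36_3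 lc_f_rc_46_2 lc_f_rc_42_2 lc_f_rc_45_2 lc_f_rc_46_2 lc_f_rc_45_0 lc_f_rc_46_2 lc_f_rc_44_2) (@D3.rec (fun _ => (Cert rels S Gen.f)) lc_f_rc_15_1 lc_f_rc_46_2 lc_f_rc_46_2 lc_f_rc_6_1 lc_f_rc_6_1 lc_f_rc_43_0 lc_f_rc_46_2 lc_f_rc_6_3 lc_f_rc_30_1 lc_f_rc_45_0 lc_f_rc_42_2 lc_f_rc_46_2 lc_f_rc_45_2 lc_f_rc_46_2 lc_f_rc_23_1 lc_f_Cert_tree lc_f_rc_30_1 lc_f_rc_43_0 lc_f_rc_46_2 lc_f_rc_42_2 lc_f_rc_44_2 lc_f_rc_46_2 lc_f_rc_42_2 lc_f_rc_23_1 lc_f_rc_43_0 lc_f_rc_45_2 lc_f_rc_43_1 lc_f_rc_42_2 lc_f_rc_46_2 lc_f_rc_45_2 lc_f_rc_42_2 lc_f_rc_45_2 lc_f_rc_30_1 lc_f_rc_46_2 lc_f_rc_23_1 lc_f_rc_30_1 lc_f_rc_30_1 lc_f_rc_30_1 lc_f_rc_23_1 lc_f_Cert_tree lc_f_rc_30_1 lc_f_rc_36_3 lc_f_rc_42_2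 lc_f_rc_45_2 lc_f_rc_45_2 lc_f_rc_30_1 lc_f_rc_46_2 lc_f_rc_30_1 lc_f_rc_46_2 lc_f_rc_23_1 lc_f_rc_46_2) (@D3.rec (fun _ => (Cert rels S Gen.f)) lc_f_rc_15_1 lc_f_rc_23_1 lc_f_rc_42_2 lc_f_rc_46_2 lc_f_rc_46_2 lc_f_rc_44_2 lc_f_rc_46_2 lc_f_rc_23_3 lc_f_rc_46_2 lc_f_rc_15_3 lc_f_rc_44_2 lc_f_rc_43_0 lc_f_rc_45_2 lc_f_rc_43_1 lc_f_rc_15_1 lc_f_rc_15_1 lc_f_rc_15_1 lc_f_rc_6_1 lc_f_rc_46_2 lc_f_rc_46_2 lc_f_rc_42_2 lc_f_rc_43_0 lc_f_rc_44_2 lc_f_rc_45_2 lc_f_rc_42_2 lc_f_rc_30_1 lc_f_rc_46_2 lc_f_Cert_tree lc_f_rc_6_1 lc_f_rc_43_0 lc_f_rc_46_2 lc_f_rc_42_2 lc_f_rc_6_1 lc_f_rc_46_2 lc_f_rc_42_2 lc_f_rc_44_2 lc_f_rc_46_2 lc_f_rc_6_1 lc_f_rc_45_2 lc_f_rc_42_2 lc_f_rc_45_2 lc_f_rc_30_1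 lc_f_rc_46_2 lc_f_Cert_tree lc_f_rc_46_2 lc_f_rc_46_0 lc_f_rc_45_2 lc_f_rc_30_1 lc_f_rc_46_2 lc_f_rc_45_2 lc_f_rc_46_2) (@D3.rec (fun _ => (Cert rels S Gen.f)) lc_f_rc_23_1 lc_f_Cert_tree lc_f_rc_46_2 lc_f_rc_15_1 lc_f_Cert_tree lc_f_rc_23_1 lc_f_rc_43_0 lc_f_rc_46_2 lc_f_rc_42_2 lc_f_rc_43_0 lc_f_rc_46_2 lc_f_rc_42_2 lc_f_rc_44_2 lc_f_rc_46_2 lc_f_rc_42_2 lc_f_rc_45_2 lc_f_rc_44_2 lc_f_rc_42_2 lc_f_rc_46_2 lc_f_rc_23_1 lc_f_rc_46_2 lc_f_rc_23_1 lc_f_rc_15_1 lc_f_rc_6_1 lc_f_rc_36_3 lc_f_rc_45_2 lc_f_rc_42_2 lc_f_rc_45_2 lc_f_rc_30_1 lc_f_rc_46_2 lc_f_rc_30_1 lc_f_rc_36_1 lc_f_rc_46_2 lc_f_rc_15_1 lc_f_rc_45_2 lc_f_rc_30_1 lc_f_rc_46_2 lc_f_rc_45_2 lc_f_rc_46_2 lc_f_rc_23_1 lc_f_Cert_tree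 lc_f_rc_46_2 lc_f_rc_15_1 lc_f_rc_23_1 lc_f_rc_23_1 lc_f_rc_6_1 lc_f_rc_42_2 lc_f_Cert_tree lc_f_rc_30_1 lc_f_rc_43_0 lc_f_rc_46_2) (@D3.rec (fun _ => (Cert rels S Gen.f)) lc_f_rc_42_2 lc_f_rc_36_3 lc_f_rc_42_2 lc_f_rc_45_2 lc_f_rc_46_2 lc_f_rc_23_1 lc_f_rc_36_3 lc_f_rc_46_2 lc_f_rc_23_1 lc_f_rc_46_2 lc_f_rc_15_1 lc_f_rc_23_1 lc_f_rc_42_2 lc_f_rc_6_1 lc_f_rc_15_1 lc_f_rc_23_1 lc_f_rc_42_2 lc_f_rc_23_1 lc_f_rc_46_2 lc_f_rc_15_1 lc_f_rc_23_1 lc_f_rc_23_1 lc_f_rc_36_3 lc_f_rc_42_2 lc_f_rc_23_1 lc_f_rc_42_2 lc_f_rc_15_1 lc_f_rc_42_2 lc_f_rc_6_1 lc_f_rc_15_1 lc_f_rc_30_1 lc_f_rc_43_0 lc_f_rc_45_2 lc_f_rc_43_1 lc_f_rc_23_1 lc_f_rc_15_1 lc_f_rc_45_2 lc_f_rc_42_2 lc_f_rc_45_2 lc_f_rc_30_1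 lc_f_rc_46_2 lc_f_rc_30_1 lc_f_rc_6_1 lc_f_rc_15_1 lc_f_rc_6_3 lc_f_Cert_tree lc_f_rc_46_2 lc_f_rc_23_1 lc_f_rc_30_3 lc_f_rc_42_2 lc_f_rc_42_2) (@D3.rec (fun _ => (Cert rels S Gen.f)) lc_f_rc_6_1 lc_f_rc_45_2 lc_f_rc_42_2 lc_f_rc_45_2 lc_f_rc_30_1 lc_f_rc_46_2 lc_f_rc_23_1 lc_f_rc_36_3 lc_f_rc_6_1 lc_f_rc_6_1 lc_f_rc_45_2 lc_f_rc_30_1 lc_f_rc_46_2 lc_f_rc_45_2 lc_f_rc_46_2 lc_f_rc_23_1 lc_f_Cert_tree lc_f_rc_46_2 lc_f_rc_23_1 lc_f_rc_43_0 lc_f_rc_46_2 lc_f_rc_6_1 lc_f_rc_43_0 lc_f_rc_46_2 lc_f_rc_30_3 lc_f_rc_44_2 lc_f_rc_46_2 lc_f_rc_42_2 lc_f_rc_6_1 lc_f_rc_6_1 lc_f_rc_42_2 lc_f_rc_6_1 lc_f_rc_46_2 lc_f_rc_23_1 lc_f_rc_46_2 lc_f_rc_23_1 lc_f_rc_42_2 lc_f_rc_23_1 lc_f_rc_36_3 lc_f_rc_36_3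 lc_f_rc_15_1 lc_f_rc_45_2 lc_f_rc_30_1 lc_f_rc_46_2 lc_f_rc_45_2 lc_f_rc_46_2 lc_f_rc_23_1 lc_f_Cert_tree lc_f_rc_46_2 lc_f_rc_15_1 lc_f_rc_23_3) (@D3.rec (fun _ => (Cert rels S Gen.f)) lc_f_rc_23_1 lc_f_rc_43_0 lc_f_rc_46_2 lc_f_rc_46_2 lc_f_rc_42_2 lc_f_rc_45_2 lc_f_rc_46_2 lc_f_rc_23_1 lc_f_Cert_tree lc_f_rc_46_2 lc_f_rc_23_1 lc_f_Cert_tree lc_f_rc_46_2 lc_f_rc_15_1 lc_f_Cert_tree lc_f_rc_23_1 lc_f_rc_43_0 lc_f_rc_46_2 lc_f_rc_42_2 lc_f_rc_6_1 lc_f_rc_23_3 lc_f_rc_15_1 lc_f_rc_43_0 lc_f_rc_46_2 lc_f_rc_23_1 lc_f_rc_44_2 lc_f_rc_46_2 lc_f_rc_42_2 lc_f_rc_43_0 lc_f_rc_46_2 lc_f_rc_6_1 lc_f_rc_44_2 lc_f_rc_46_2 lc_f_rc_42_2 lc_f_rc_45_2 lc_f_rc_46_2 lc_f_rc_42_2 lc_f_rc_30_1 lc_f_rc_45_2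 lc_f_rc_36_5 lc_f_rc_44_2 lc_f_rc_23_1 lc_f_rc_46_2 lc_f_rc_15_1 lc_f_rc_6_1 lc_f_rc_23_1 lc_f_rc_23_3 lc_f_rc_42_2 lc_f_rc_15_1 lc_f_rc_23_1 lc_f_rc_42_2) (@D3.rec (fun _ => (Cert rels S Gen.f)) lc_f_rc_6_1 lc_f_rc_15_1 lc_f_rc_42_2 lc_f_rc_6_1 lc_f_rc_15_1 lc_f_rc_30_1 lc_f_rc_15_1 lc_f_rc_23_1 lc_f_rc_42_2 lc_f_rc_6_1 lc_f_rc_23_3 lc_f_rc_15_1 lc_f_rc_46_2 lc_f_rc_42_2 lc_f_rc_30_1 lc_f_rc_6_1 lc_f_rc_15_1 lc_f_rc_42_2 lc_f_rc_6_1 lc_f_rc_15_1 lc_f_rc_30_1 lc_f_rc_6_1 lc_f_rc_15_1 lc_f_rc_15_1 lc_f_rc_46_2 lc_f_rc_30_1 lc_f_rc_46_2 lc_f_rc_46_2 lc_f_rc_6_1 lc_f_rc_6_1 lc_f_rc_44_2 lc_f_rc_23_3 lc_f_rc_46_2 lc_f_rc_46_2 lc_f_rc_42_2 lc_f_rc_23_1 lc_f_rc_36_3 lc_f_rc_30_1 lc_f_rc_15_1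 lc_f_rc_46_2 lc_f_rc_15_1 lc_f_rc_15_1 lc_f_rc_23_1 lc_f_rc_36_3 lc_f_rc_44_2 lc_f_rc_36_3 lc_f_rc_15_1 lc_f_rc_42_2 lc_f_rc_46_2 lc_f_rc_44_2 lc_f_rc_6_1) (@D3.rec (fun _ => (Cert rels S Gen.f)) lc_f_rc_43_0 lc_f_rc_45_2 lc_f_rc_43_1 lc_f_rc_6_1 lc_f_rc_6_1 lc_f_rc_42_2 lc_f_rc_42_2 lc_f_rc_6_3 lc_f_rc_46_2 lc_f_rc_42_2 lc_f_rc_45_2 lc_f_rc_42_2 lc_f_rc_45_2 lc_f_rc_46_2 lc_f_rc_23_1 lc_f_rc_6_1 lc_f_rc_42_2 lc_f_rc_45_2 lc_f_rc_44_4 lc_f_rc_42_2 lc_f_rc_46_2 lc_f_rc_45_2 lc_f_rc_42_2 lc_f_rc_45_2 lc_f_rc_30_1 lc_f_rc_46_2 lc_f_rc_23_1 lc_f_Cert_tree lc_f_rc_30_1 lc_f_rc_30_1 lc_f_rc_23_1 lc_f_rc_30_1 lc_f_rc_43_0 lc_f_rc_46_2 lc_f_rc_42_2 lc_f_rc_46_2 lc_f_rc_42_2 lc_f_rc_15_1 lc_f_rc_45_2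 lc_f_rc_46_2 lc_f_rc_6_3 lc_f_rc_6_3 lc_f_rc_6_3 lc_f_rc_6_3 lc_f_rc_23_1 lc_f_rc_42_2 lc_f_rc_15_3 lc_f_rc_23_1 lc_f_rc_45_0 lc_f_rc_46_2 lc_f_rc_23_1) (@D3.rec (fun _ => (Cert rels S Gen.f)) lc_f_rc_15_1 lc_f_rc_42_2 lc_f_rc_6_1 lc_f_rc_30_1 lc_f_rc_36_3 lc_f_rc_44_2 lc_f_rc_45_2 lc_f_rc_44_4 lc_f_rc_6_1 lc_f_rc_6_1 lc_f_rc_45_2 lc_f_rc_42_2 lc_f_rc_15_3 lc_f_rc_30_1 lc_f_rc_46_2 lc_f_rc_23_1 lc_f_rc_30_1 lc_f_rc_6_1 lc_f_rc_23_1 lc_f_Cert_tree lc_f_rc_30_1 lc_f_rc_36_3 lc_f_rc_42_2 lc_f_rc_6_1 lc_f_rc_46_2 lc_f_rc_46_2 lc_f_rc_44_2 lc_f_rc_46_2 lc_f_rc_45_0 lc_f_rc_23_1 lc_f_rc_6_1 lc_f_rc_45_2 lc_f_rc_42_2 lc_f_rc_45_2 lc_f_rc_30_1 lc_f_rc_46_2 lc_f_rc_23_1 lc_f_Cert_tree lc_f_rc_46_2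 lc_f_rc_23_1 lc_f_rc_30_1 lc_f_rc_46_2 lc_f_rc_30_1 lc_f_rc_46_2 lc_f_rc_6_3 lc_f_rc_45_2 lc_f_rc_46_2 lc_f_rc_15_1 lc_f_Cert_tree lc_f_rc_23_1 lc_f_rc_43_0) (@D3.rec (fun _ => (Cert rels S Gen.f)) lc_f_rc_46_2 lc_f_rc_42_2 lc_f_rc_46_2 lc_f_rc_42_2 lc_f_rc_15_1 lc_f_rc_46_2 lc_f_rc_42_2 lc_f_rc_30_1 lc_f_rc_44_2 lc_f_rc_42_2 lc_f_rc_6_3 lc_f_rc_30_3 lc_f_rc_6_1 lc_f_rc_15_1 lc_f_rc_23_1 lc_f_rc_6_1 lc_f_rc_15_1 lc_f_rc_46_2 lc_f_rc_6_1 lc_f_rc_6_1 lc_f_rc_46_2 lc_f_rc_42_2 lc_f_rc_45_2 lc_f_rc_46_2 lc_f_rc_6_1 lc_f_rc_6_1 lc_f_Cert_tree lc_f_rc_30_1 lc_f_rc_43_0 lc_f_rc_46_2 lc_f_rc_42_2 lc_f_rc_46_2 lc_f_rc_42_2 lc_f_rc_30_1 lc_f_rc_46_2 lc_f_rc_45_2 lc_f_rc_46_2 lc_f_rc_15_1 lc_f_rc_23_1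 lc_f_rc_36_3 lc_f_rc_45_2 lc_f_rc_46_2 lc_f_rc_23_1 lc_f_rc_36_3 lc_f_rc_46_2 lc_f_rc_15_1 lc_f_rc_46_2 lc_f_rc_45_2 lc_f_rc_23_1 lc_f_rc_42_2 lc_f_rc_6_1) (@D3.rec (fun _ => (Cert rels S Gen.f)) lc_f_rc_15_1 lc_f_rc_23_1 lc_f_rc_30_3 lc_f_rc_46_0 lc_f_rc_43_0 lc_f_rc_45_2 lc_f_rc_43_1 lc_f_rc_30_1 lc_f_rc_36_3 lc_f_rc_15_1 lc_f_rc_15_1 lc_f_rc_43_0 lc_f_rc_45_2 lc_f_rc_43_1 lc_f_rc_6_1 lc_f_rc_6_1 lc_f_rc_45_2 lc_f_rc_42_2 lc_f_rc_45_2 lc_f_rc_30_1 lc_f_rc_46_2 lc_f_rc_23_1 lc_f_rc_30_1 lc_f_rc_6_1 lc_f_rc_6_1 lc_f_Cert_tree lc_f_rc_6_1 lc_f_rc_6_3 lc_f_rc_42_2 lc_f_rc_6_1 lc_f_rc_45_2 lc_f_rc_30_1 lc_f_rc_46_2 lc_f_rc_46_2 lc_f_rc_23_1 lc_f_rc_46_2 lc_f_rc_15_1 lc_f_rc_23_1 lc_f_rc_6_1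 lc_f_rc_36_3 lc_f_rc_45_2 lc_f_rc_42_2 lc_f_rc_45_2 lc_f_rc_30_1 lc_f_rc_46_2 lc_f_rc_23_1 lc_f_Cert_tree lc_f_rc_46_2 lc_f_rc_45_2 lc_f_rc_45_2 lc_f_rc_30_1) (@D3.rec (fun _ => (Cert rels S Gen.f)) lc_f_rc_46_2 lc_f_rc_45_2 lc_f_rc_46_2 lc_f_rc_23_1 lc_f_Cert_tree lc_f_rc_46_2 lc_f_rc_15_1 lc_f_Cert_tree lc_f_rc_23_1 lc_f_rc_43_0 lc_f_rc_46_2 lc_f_rc_42_2 lc_f_rc_30_1 lc_f_rc_43_0 lc_f_rc_46_2 lc_f_rc_42_2 lc_f_rc_44_2 lc_f_rc_46_2 lc_f_rc_42_2 lc_f_rc_44_2 lc_f_rc_42_2 lc_f_rc_23_3 lc_f_rc_45_2 lc_f_rc_46_2 lc_f_rc_23_1 lc_f_rc_30_1 lc_f_rc_46_2 lc_f_rc_46_2 lc_f_rc_15_1 lc_f_rc_23_1 lc_f_rc_42_2 lc_f_rc_6_1 lc_f_rc_15_1 lc_f_rc_23_1 lc_f_rc_42_2 lc_f_rc_30_1 lc_f_rc_46_2 lc_f_rc_15_1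 lc_f_rc_23_1 lc_f_rc_23_1 lc_f_rc_36_3 lc_f_rc_42_2 lc_f_rc_44_2 lc_f_rc_30_1 lc_f_rc_42_2 lc_f_rc_6_1 lc_f_rc_15_1 lc_f_rc_42_2 lc_f_rc_6_1 lc_f_rc_15_1 lc_f_rc_30_1) (@D3.rec (fun _ => (Cert rels S Gen.f)) lc_f_rc_44_2 lc_f_rc_43_0 lc_f_rc_6_1 lc_f_rc_43_1 lc_f_rc_30_1 lc_f_rc_15_1 lc_f_rc_45_2 lc_f_rc_42_2 lc_f_rc_45_2 lc_f_rc_30_1 lc_f_rc_46_2 lc_f_rc_23_1 lc_f_rc_30_1 lc_f_rc_15_1 lc_f_rc_36_3 lc_f_rc_45_2 lc_f_rc_42_2 lc_f_rc_45_2 lc_f_rc_30_1 lc_f_rc_46_2 lc_f_rc_23_1 lc_f_rc_36_3 lc_f_rc_6_1 lc_f_rc_6_1 lc_f_rc_45_2 lc_f_rc_30_1 lc_f_rc_46_2 lc_f_rc_45_2 lc_f_rc_46_2 lc_f_rc_23_1 lc_f_Cert_tree lc_f_rc_46_2 lc_f_rc_15_1 lc_f_rc_23_1 lc_f_rc_23_1 lc_f_rc_30_1 lc_f_rc_6_1 lc_f_Cert_tree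 lc_f_rc_6_1 lc_f_rc_43_0 lc_f_rc_46_2 lc_f_rc_6_1 lc_f_rc_36_3 lc_f_rc_44_2 lc_f_rc_45_2 lc_f_rc_46_2 lc_f_rc_23_1 lc_f_rc_6_1 lc_f_rc_46_2 lc_f_rc_23_1 lc_f_rc_46_2) (@D3.rec (fun _ => (Cert rels S Gen.f)) lc_f_rc_15_1 lc_f_rc_23_1 lc_f_rc_42_2 lc_f_rc_6_1 lc_f_rc_15_1 lc_f_rc_23_1 lc_f_rc_36_3 lc_f_rc_36_3 lc_f_rc_30_1 lc_f_rc_45_2 lc_f_rc_30_1 lc_f_rc_46_2 lc_f_rc_45_2 lc_f_rc_46_2 lc_f_rc_23_1 lc_f_Cert_tree lc_f_rc_46_2 lc_f_rc_15_1 lc_f_rc_23_3 lc_f_rc_23_1 lc_f_rc_43_0 lc_f_rc_46_2 lc_f_rc_46_2 lc_f_rc_44_2 lc_f_rc_45_2 lc_f_rc_46_2 lc_f_rc_23_1 lc_f_Cert_tree lc_f_rc_46_2 lc_f_rc_23_1 lc_f_Cert_tree lc_f_rc_46_2 lc_f_rc_15_1 lc_f_Cert_tree lc_f_rc_23_1 lc_f_rc_43_0 lc_f_rc_46_2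 lc_f_rc_42_2 lc_f_rc_6_1 lc_f_rc_15_3 lc_f_rc_15_1 lc_f_rc_43_0 lc_f_rc_46_2 lc_f_rc_23_1 lc_f_rc_44_2 lc_f_rc_46_2 lc_f_rc_42_2 lc_f_rc_43_0 lc_f_rc_46_2 lc_f_rc_42_2 lc_f_rc_44_2) (@D3.rec (fun _ => (Cert rels S Gen.f)) lc_f_rc_46_2 lc_f_rc_42_2 lc_f_rc_45_2 lc_f_rc_46_2 lc_f_rc_42_2 lc_f_rc_30_1 lc_f_rc_45_2 lc_f_rc_36_5 lc_f_rc_46_2 lc_f_rc_23_1 lc_f_rc_45_2 lc_f_rc_46_2 lc_f_rc_15_1 lc_f_rc_23_1 lc_f_rc_23_1 lc_f_rc_44_2 lc_f_rc_42_2 lc_f_rc_23_1 lc_f_rc_42_2 lc_f_rc_6_1 lc_f_rc_15_1 lc_f_rc_42_2 lc_f_rc_6_1 lc_f_rc_15_1 lc_f_rc_30_1 lc_f_rc_45_2 lc_f_rc_42_2 lc_f_rc_6_1 lc_f_rc_15_1 lc_f_rc_15_1 lc_f_rc_23_1 lc_f_rc_42_2 lc_f_rc_36_3 lc_f_rc_6_1 lc_f_rc_15_1 lc_f_rc_6_1 lc_f_rc_15_1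 lc_f_rc_46_2 lc_f_rc_55_32 lc_f_rc_30_3 lc_f_rc_6_1 lc_f_rc_46_2 lc_f_rc_42_2 lc_f_rc_42_2 lc_f_rc_46_2 lc_f_rc_43_0 lc_f_rc_46_2 lc_f_rc_42_2 lc_f_rc_44_2 lc_f_rc_46_2 lc_f_rc_42_2) (@D3.rec (fun _ => (Cert rels S Gen.f)) lc_f_rc_44_2 lc_f_rc_42_2 lc_f_rc_30_1 lc_f_rc_36_3 lc_f_rc_45_2 lc_f_rc_42_2 lc_f_rc_45_2 lc_f_rc_30_1 lc_f_rc_46_2 lc_f_rc_36_1 lc_f_rc_6_1 lc_f_rc_15_1 lc_f_rc_6_1 lc_f_rc_45_2 lc_f_rc_30_1 lc_f_rc_46_2 lc_f_rc_45_2 lc_f_rc_46_2 lc_f_Cert_tree lc_f_rc_46_2 lc_f_rc_15_1 lc_f_rc_6_1 lc_f_rc_23_1 lc_f_rc_46_2 lc_f_rc_43_0 lc_f_rc_46_2 lc_f_rc_6_1 lc_f_rc_30_3 lc_f_rc_42_2 lc_f_rc_46_2 lc_f_rc_36_3 lc_f_rc_36_3 lc_f_rc_44_2 lc_f_rc_45_2 lc_f_rc_30_1 lc_f_rc_46_2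 lc_f_rc_45_2 lc_f_rc_46_2 lc_f_Cert_tree lc_f_rc_46_2 lc_f_rc_15_3 lc_f_rc_46_2 lc_f_rc_42_2 lc_f_rc_45_2 lc_f_rc_46_2 lc_f_rc_23_1 lc_f_Cert_tree lc_f_rc_46_2 lc_f_rc_23_1 lc_f_Cert_tree lc_f_rc_46_2) (@D3.rec (fun _ => (Cert rels S Gen.f)) lc_f_rc_15_1 lc_f_Cert_tree lc_f_rc_23_1 lc_f_rc_43_0 lc_f_rc_46_2 lc_f_rc_42_2 lc_f_rc_15_1 lc_f_rc_36_3 lc_f_rc_23_1 lc_f_rc_44_2 lc_f_rc_46_2 lc_f_rc_42_2 lc_f_rc_43_0 lc_f_rc_46_2 lc_f_rc_42_2 lc_f_rc_44_2 lc_f_rc_46_2 lc_f_rc_42_2 lc_f_rc_45_2 lc_f_rc_46_2 lc_f_rc_42_2 lc_f_rc_30_1 lc_f_rc_46_2 lc_f_rc_36_5 lc_f_rc_44_2 lc_f_rc_42_2 lc_f_rc_23_1 lc_f_rc_15_1 lc_f_rc_46_2 lc_f_rc_15_1 lc_f_rc_23_1 lc_f_rc_23_1 lc_f_rc_6_1 lc_f_rc_23_1 lc_f_rc_15_1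 lc_f_rc_44_2 lc_f_rc_23_1 lc_f_rc_42_2 lc_f_rc_42_2 lc_f_rc_15_1 lc_f_rc_42_2 lc_f_rc_45_2 lc_f_rc_15_1 lc_f_rc_45_2 lc_f_rc_42_2 lc_f_rc_45_2 lc_f_rc_30_1 lc_f_rc_46_2 lc_f_rc_15_1 lc_f_rc_15_1 lc_f_rc_45_2) (@D3.rec (fun _ => (Cert rels S Gen.f)) lc_f_rc_30_1 lc_f_rc_46_2 lc_f_rc_45_2 lc_f_rc_46_2 lc_f_rc_23_1 lc_f_rc_46_2 lc_f_rc_15_3 lc_f_rc_6_3 lc_f_rc_36_3 lc_f_rc_36_3 lc_f_rc_6_1 lc_f_rc_45_2 lc_f_rc_30_1 lc_f_rc_46_2 lc_f_rc_45_2 lc_f_rc_46_2 lc_f_Cert_tree lc_f_rc_46_2 lc_f_rc_6_3 lc_f_rc_6_1 lc_f_rc_23_1 lc_f_rc_45_2 lc_f_rc_46_2 lc_f_rc_23_1 lc_f_Cert_tree lc_f_rc_46_2 lc_f_rc_23_1 lc_f_Cert_tree lc_f_rc_46_2 lc_f_rc_15_1 lc_f_Cert_tree lc_f_rc_23_1 lc_f_rc_43_0 lc_f_rc_46_2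 lc_f_rc_42_2 lc_f_rc_15_1 lc_f_rc_6_3 lc_f_rc_23_1 lc_f_rc_6_3 lc_f_rc_43_0 lc_f_rc_46_2 lc_f_rc_6_1 lc_f_rc_46_2 lc_f_rc_42_2 lc_f_rc_36_1 lc_f_rc_6_1 lc_f_rc_6_1 lc_f_rc_23_1 lc_f_rc_6_1 lc_f_rc_46_2 lc_f_rc_15_1) (@D3.rec (fun _ => (Cert rels S Gen.f)) lc_f_rc_23_1 lc_f_rc_23_1 lc_f_rc_6_1 lc_f_rc_23_1 lc_f_rc_6_1 lc_f_rc_15_1 lc_f_rc_6_1 lc_f_rc_45_2 lc_f_rc_36_3 lc_f_rc_30_1 lc_f_rc_46_2 lc_f_rc_42_2 lc_f_rc_45_2 lc_f_rc_46_2 lc_f_rc_23_1 lc_f_Cert_tree lc_f_rc_46_2 lc_f_rc_23_1 lc_f_Cert_tree lc_f_rc_46_2 lc_f_rc_15_1 lc_f_Cert_tree lc_f_rc_23_1 lc_f_rc_43_0 lc_f_rc_46_2 lc_f_rc_42_2 lc_f_rc_15_1 lc_f_rc_43_0 lc_f_rc_46_2 lc_f_rc_23_1 lc_f_rc_44_2 lc_f_rc_46_2 lc_f_rc_42_2 lc_f_rc_30_1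 lc_f_rc_23_1 lc_f_rc_23_1 lc_f_Cert_tree lc_f_rc_46_2 lc_f_rc_15_1 lc_f_Cert_tree lc_f_rc_23_1 lc_f_rc_43_0 lc_f_rc_46_2 lc_f_rc_42_2 lc_f_rc_15_1 lc_f_Cert_tree lc_f_rc_23_1 lc_f_rc_43_0 lc_f_rc_46_2 lc_f_rc_42_2 lc_f_rc_6_1) (@D3.rec (fun _ => (Cert rels S Gen.f)) lc_f_Cert_tree lc_f_rc_15_1 lc_f_rc_43_0 lc_f_rc_46_2 lc_f_rc_42_2 lc_f_rc_44_2 lc_f_rc_46_2 lc_f_rc_42_2 lc_f_rc_6_1 lc_f_rc_43_0 lc_f_rc_46_2 lc_f_rc_15_1 lc_f_rc_23_1 lc_f_rc_46_2 lc_f_rc_42_2 lc_f_rc_30_1 lc_f_rc_45_2 lc_f_rc_46_2 lc_f_rc_42_2 lc_f_rc_30_1 lc_f_rc_44_2 lc_f_rc_46_2 lc_f_rc_42_2 lc_f_rc_45_2 lc_f_rc_46_2 lc_f_rc_42_2 lc_f_rc_30_1 lc_f_rc_46_2 lc_f_rc_42_2 lc_f_rc_30_1 lc_f_rc_23_1 lc_f_rc_30_1 lc_f_rc_23_1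 lc_f_rc_45_2 lc_f_rc_45_2 lc_f_rc_15_1 lc_f_rc_23_1 lc_f_rc_23_1 lc_f_rc_45_2 lc_f_rc_42_2 lc_f_rc_6_1 lc_f_rc_15_1 lc_f_rc_15_1 lc_f_rc_30_1 lc_f_rc_23_1 lc_f_rc_42_2 lc_f_rc_36_3 lc_f_rc_6_1 lc_f_rc_15_1 lc_f_rc_42_2 lc_f_rc_6_1) (@D3.rec (fun _ => (Cert rels S Gen.f)) lc_f_rc_15_1 lc_f_rc_30_1 lc_f_rc_6_1 lc_f_rc_15_1 lc_f_rc_6_3 lc_f_rc_15_1 lc_f_rc_23_1 lc_f_rc_6_1 lc_f_rc_42_2 lc_f_rc_6_1 lc_f_rc_15_1 lc_f_rc_15_1 lc_f_rc_6_1 lc_f_rc_6_1 lc_f_rc_15_1 lc_f_rc_15_1 lc_f_rc_15_1 lc_f_rc_30_1 lc_f_rc_30_1 lc_f_rc_30_1 lc_f_rc_6_1 lc_f_rc_23_3 lc_f_rc_45_2 lc_f_rc_6_1 lc_f_rc_30_1 lc_f_rc_15_3 lc_f_rc_6_1 lc_f_rc_36_3 lc_f_rc_30_1 lc_f_rc_46_2 lc_f_rc_42_2 lc_f_rc_46_2 lc_f_rc_36_3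 lc_f_rc_30_1 lc_f_rc_46_2 lc_f_rc_46_2 lc_f_rc_23_1 lc_f_rc_23_3 lc_f_rc_23_1 lc_f_rc_6_1 lc_f_rc_15_1 lc_f_rc_30_1 lc_f_rc_6_1 lc_f_rc_30_1 lc_f_rc_46_2 lc_f_rc_23_1 lc_f_rc_30_1 lc_f_rc_30_1 lc_f_rc_44_2 lc_f_rc_23_1 lc_f_rc_46_2) (@D3.rec (fun _ => (Cert rels S Gen.f)) lc_f_rc_15_1 lc_f_rc_46_0 lc_f_rc_23_1 lc_f_rc_23_3 lc_f_rc_15_1 lc_f_rc_23_1 lc_f_rc_6_1 lc_f_rc_15_1 lc_f_rc_6_1 lc_f_rc_30_1 lc_f_rc_15_1 lc_f_rc_6_1 lc_f_rc_46_2 lc_f_rc_46_2 lc_f_rc_15_1 lc_f_rc_45_2 lc_f_rc_23_1 lc_f_rc_6_1 lc_f_rc_30_1 lc_f_rc_42_2 lc_f_rc_6_1 lc_f_rc_15_1 lc_f_rc_42_2 lc_f_rc_30_1 lc_f_rc_36_3 lc_f_rc_30_1 lc_f_rc_30_1 lc_f_rc_15_1 lc_f_rc_45_2 lc_f_rc_30_1 lc_f_rc_6_1 lc_f_rc_30_1 lc_f_Cert_tree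 lc_f_rc_6_1 lc_f_rc_30_1 lc_f_rc_23_3 lc_f_rc_36_3 lc_f_rc_6_1 lc_f_rc_42_2 lc_f_rc_46_2 lc_f_rc_30_1 lc_f_rc_15_1 lc_f_rc_15_1 lc_f_rc_30_1 lc_f_rc_6_1 lc_f_rc_36_3 lc_f_rc_46_2 lc_f_rc_46_2 lc_f_rc_46_2 lc_f_rc_30_1 lc_f_rc_46_2) (@D3.rec (fun _ => (Cert rels S Gen.f)) lc_f_rc_6_3 lc_f_rc_46_2 lc_f_rc_42_0 lc_f_Cert_tree lc_f_rc_23_1 lc_f_rc_43_0 lc_f_rc_46_2 lc_f_rc_42_2 lc_f_rc_46_2 lc_f_rc_44_2 lc_f_rc_44_2 lc_f_rc_6_3 lc_f_rc_6_3 lc_f_rc_46_2 lc_f_rc_46_2 lc_f_rc_42_2 lc_f_rc_30_1 lc_f_rc_46_2 lc_f_rc_23_1 lc_f_rc_46_2 lc_f_rc_30_1 lc_f_rc_46_2 lc_f_rc_46_2 lc_f_rc_23_1 lc_f_rc_42_2 lc_f_rc_23_1 lc_f_rc_42_2 lc_f_rc_30_1 lc_f_rc_46_2 lc_f_rc_15_1 lc_f_rc_30_1 lc_f_rc_46_2 lc_f_Cert_tree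 lc_f_rc_46_2 lc_f_rc_30_1 lc_f_rc_6_1 lc_f_rc_43_0 lc_f_rc_46_2 lc_f_rc_30_1 lc_f_rc_45_2 lc_f_rc_46_2 lc_f_rc_46_2 lc_f_rc_46_2 lc_f_rc_6_3 lc_f_rc_30_1 lc_f_rc_46_2 lc_f_rc_46_2 lc_f_rc_43_0 lc_f_rc_46_2 lc_f_rc_46_2 lc_f_rc_30_3) (@D3.rec (fun _ => (Cert rels S Gen.f)) lc_f_rc_45_2 lc_f_rc_46_2 lc_f_rc_23_1 lc_f_Cert_tree lc_f_rc_46_2 lc_f_rc_23_1 lc_f_rc_46_2 lc_f_rc_15_1 lc_f_Cert_tree lc_f_rc_23_1 lc_f_rc_43_0 lc_f_rc_46_2 lc_f_rc_42_2 lc_f_rc_6_1 lc_f_rc_15_1 lc_f_rc_43_0 lc_f_rc_46_2 lc_f_rc_23_1 lc_f_rc_44_2 lc_f_rc_46_2 lc_f_rc_42_2 lc_f_rc_44_2 lc_f_rc_46_2 lc_f_rc_30_3 lc_f_rc_46_2 lc_f_rc_45_2 lc_f_rc_42_2 lc_f_rc_23_1 lc_f_rc_46_2 lc_f_rc_15_1 lc_f_rc_23_1 lc_f_rc_23_1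 lc_f_rc_36_3 lc_f_rc_15_1 lc_f_rc_23_1 lc_f_rc_15_1 lc_f_rc_15_3 lc_f_rc_42_2 lc_f_rc_30_1 lc_f_rc_6_1 lc_f_rc_15_1 lc_f_rc_42_2 lc_f_rc_42_2 lc_f_rc_6_1 lc_f_rc_44_2 lc_f_rc_42_2 lc_f_rc_46_2 lc_f_rc_36_3 lc_f_rc_36_1 lc_f_rc_23_3 lc_f_rc_15_3) (@D3.rec (fun _ => (Cert rels S Gen.f)) lc_f_rc_6_1 lc_f_rc_15_1 lc_f_rc_30_1 lc_f_rc_45_2 lc_f_rc_45_2 lc_f_rc_30_1 lc_f_rc_46_2 lc_f_rc_45_2 lc_f_rc_46_2 lc_f_rc_46_2 lc_f_rc_46_2 lc_f_rc_45_2 lc_f_rc_46_2 lc_f_rc_23_1 lc_f_rc_36_3 lc_f_rc_46_2 lc_f_rc_30_1 lc_f_rc_46_2 lc_f_rc_15_1 lc_f_rc_23_1 lc_f_rc_42_2 lc_f_rc_36_1 lc_f_rc_15_1 lc_f_rc_23_1 lc_f_rc_15_1 lc_f_rc_23_1 lc_f_rc_42_2 lc_f_rc_15_1 lc_f_rc_6_3 lc_f_rc_23_3 lc_f_rc_6_1 lc_f_rc_15_1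 lc_f_rc_42_2 lc_f_rc_6_1 lc_f_rc_15_1 lc_f_rc_30_1 lc_f_rc_6_1 lc_f_rc_15_1 lc_f_rc_42_2 lc_f_rc_45_2 lc_f_rc_23_3 lc_f_rc_15_3 lc_f_rc_6_1 lc_f_rc_15_1 lc_f_rc_30_1 lc_f_rc_6_1 lc_f_rc_15_1 lc_f_rc_23_1 lc_f_rc_42_2 lc_f_rc_46_2 lc_f_rc_45_2)
def ce_f_11 : D2 → D3 → (Cert rels S Gen.f) := @D2.rec (fun _ => D3 → (Cert rels S Gen.f)) (@D3.rec (fun _ => (Cert rels S Gen.f)) lc_f_rc_30_1 lc_f_rc_46_2 lc_f_rc_45_2 lc_f_rc_46_2 lc_f_rc_46_2 lc_f_rc_15_1 lc_f_rc_30_1 lc_f_rc_46_2 lc_f_rc_43_1 lc_f_rc_42_2 lc_f_rc_23_1 lc_f_rc_46_2 lc_f_rc_23_1 lc_f_rc_6_1 lc_f_rc_6_1 lc_f_rc_45_2 lc_f_rc_46_2 lc_f_rc_23_1 lc_f_Cert_tree lc_f_rc_46_2 lc_f_rc_23_1 lc_f_Cert_tree lc_f_rc_46_2 lc_f_rc_15_1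 lc_f_Cert_tree lc_f_rc_23_1 lc_f_rc_43_0 lc_f_rc_46_2 lc_f_rc_42_2 lc_f_rc_15_1 lc_f_rc_15_1 lc_f_rc_23_1 lc_f_rc_6_3 lc_f_rc_43_0 lc_f_rc_46_2 lc_f_rc_46_2 lc_f_rc_6_1 lc_f_rc_6_1 lc_f_rc_23_1 lc_f_rc_6_1 lc_f_rc_46_2 lc_f_rc_15_1 lc_f_rc_23_1 lc_f_rc_23_1 lc_f_rc_6_1 lc_f_rc_42_2 lc_f_rc_15_1 lc_f_rc_23_1 lc_f_rc_42_2 lc_f_rc_6_1 lc_f_rc_15_1) (@D3.rec (fun _ => (Cert rels S Gen.f)) lc_f_rc_42_2 lc_f_rc_6_1 lc_f_rc_30_3 lc_f_rc_30_1 lc_f_rc_42_0 lc_f_rc_46_2 lc_f_rc_42_2 lc_f_rc_45_2 lc_f_rc_46_2 lc_f_rc_23_1 lc_f_Cert_tree lc_f_rc_46_2 lc_f_rc_23_1 lc_f_rc_46_2 lc_f_rc_15_1 lc_f_Cert_tree lc_f_rc_23_1 lc_f_rc_43_0 lc_f_rc_46_2 lc_f_rc_42_2 lc_f_rc_23_3 lc_f_rc_15_1 lc_f_rc_46_2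 lc_f_rc_23_1 lc_f_rc_44_2 lc_f_rc_46_2 lc_f_rc_42_2 lc_f_rc_44_2 lc_f_rc_44_2 lc_f_rc_23_1 lc_f_Cert_tree lc_f_rc_46_2 lc_f_rc_15_1 lc_f_Cert_tree lc_f_rc_23_1 lc_f_rc_43_0 lc_f_rc_46_2 lc_f_rc_42_2 lc_f_rc_15_1 lc_f_Cert_tree lc_f_rc_23_1 lc_f_rc_43_0 lc_f_rc_46_2 lc_f_rc_42_2 lc_f_rc_6_1 lc_f_Cert_tree lc_f_rc_15_1 lc_f_rc_43_0 lc_f_rc_46_2 lc_f_rc_42_2 lc_f_rc_44_2) (@D3.rec (fun _ => (Cert rels S Gen.f)) lc_f_rc_46_2 lc_f_rc_42_2 lc_f_rc_15_1 lc_f_rc_6_1 lc_f_rc_43_0 lc_f_rc_46_2 lc_f_rc_15_1 lc_f_rc_23_1 lc_f_rc_46_2 lc_f_rc_42_2 lc_f_rc_30_1 lc_f_rc_45_2 lc_f_rc_46_2 lc_f_rc_42_2 lc_f_rc_46_2 lc_f_rc_45_2 lc_f_rc_46_2 lc_f_rc_46_2 lc_f_rc_44_2 lc_f_rc_44_2 lc_f_rc_15_1 lc_f_rc_23_1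 lc_f_rc_23_1 lc_f_rc_36_3 lc_f_rc_42_2 lc_f_rc_6_1 lc_f_rc_15_1 lc_f_rc_15_1 lc_f_rc_30_1 lc_f_rc_23_1 lc_f_rc_42_2 lc_f_rc_36_3 lc_f_rc_56_26 lc_f_rc_15_1 lc_f_rc_42_2 lc_f_rc_6_1 lc_f_rc_15_1 lc_f_rc_30_1 lc_f_rc_6_1 lc_f_rc_15_1 lc_f_rc_15_1 lc_f_rc_42_2 lc_f_rc_15_1 lc_f_rc_23_1 lc_f_rc_42_2 lc_f_rc_36_3 lc_f_rc_6_1 lc_f_rc_36_3 lc_f_rc_15_1 lc_f_rc_30_1 lc_f_rc_23_1) (@D3.rec (fun _ => (Cert rels S Gen.f)) lc_f_rc_30_1 lc_f_rc_30_1 lc_f_rc_15_1 lc_f_rc_6_1 lc_f_rc_30_1 lc_f_rc_6_1 lc_f_rc_6_1 lc_f_rc_30_1 lc_f_rc_42_2 lc_f_rc_23_1 lc_f_rc_6_1 lc_f_rc_45_2 lc_f_rc_23_1 lc_f_rc_6_1 lc_f_rc_23_1 lc_f_rc_46_2 lc_f_rc_46_2 lc_f_rc_23_1 lc_f_rc_23_1 lc_f_rc_30_1 lc_f_rc_42_2 lc_f_rc_23_1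 lc_f_rc_23_1 lc_f_rc_6_1 lc_f_rc_30_1 lc_f_rc_46_2 lc_f_rc_42_2 lc_f_rc_46_2 lc_f_rc_23_1 lc_f_rc_6_1 lc_f_rc_6_1 lc_f_rc_46_2 lc_f_rc_42_2 lc_f_rc_23_1 lc_f_rc_15_1 lc_f_rc_23_1 lc_f_rc_46_2 lc_f_rc_42_2 lc_f_rc_23_1 lc_f_rc_15_1 lc_f_rc_46_2 lc_f_rc_30_1 lc_f_rc_23_1 lc_f_rc_42_2 lc_f_rc_6_1 lc_f_rc_44_2 lc_f_rc_15_1 lc_f_rc_43_0 lc_f_rc_46_2 lc_f_rc_23_1 lc_f_rc_45_0) (@D3.rec (fun _ => (Cert rels S Gen.f)) lc_f_rc_46_2 lc_f_rc_42_2 lc_f_rc_42_2 lc_f_rc_46_2 lc_f_rc_23_1 lc_f_rc_36_3 lc_f_rc_42_2 lc_f_rc_46_2 lc_f_rc_42_2 lc_f_rc_6_1 lc_f_rc_15_1 lc_f_rc_30_1 lc_f_rc_36_3 lc_f_rc_6_1 lc_f_rc_46_2 lc_f_rc_23_3 lc_f_rc_6_1 lc_f_rc_42_2 lc_f_rc_30_1 lc_f_rc_46_2 lc_f_rc_6_1 lc_f_rc_45_2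 lc_f_rc_30_1 lc_f_rc_46_2 lc_f_rc_45_2 lc_f_rc_46_2 lc_f_rc_23_1 lc_f_rc_46_2 lc_f_rc_23_1 lc_f_rc_6_1 lc_f_rc_46_2 lc_f_rc_23_1 lc_f_rc_46_2 lc_f_rc_15_1 lc_f_rc_23_1 lc_f_rc_42_2 lc_f_rc_6_1 lc_f_rc_15_1 lc_f_rc_23_1 lc_f_rc_30_1 lc_f_rc_46_2 lc_f_rc_23_1 lc_f_rc_46_2 lc_f_rc_15_1 lc_f_rc_23_1 lc_f_rc_46_2 lc_f_rc_46_2 lc_f_rc_45_2 lc_f_rc_46_2 lc_f_rc_23_1 lc_f_Cert_tree) (@D3.rec (fun _ => (Cert rels S Gen.f)) lc_f_rc_46_2 lc_f_rc_46_2 lc_f_Cert_tree lc_f_rc_23_1 lc_f_rc_43_0 lc_f_rc_46_2 lc_f_rc_42_2 lc_f_rc_6_1 lc_f_rc_15_1 lc_f_rc_15_1 lc_f_rc_23_1 lc_f_rc_23_1 lc_f_rc_36_3 lc_f_rc_46_2 lc_f_rc_23_1 lc_f_rc_23_1 lc_f_rc_36_3 lc_f_rc_42_2 lc_f_rc_42_2 lc_f_rc_6_1 lc_f_rc_15_1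 lc_f_rc_30_1 lc_f_rc_36_3 lc_f_rc_6_1 lc_f_rc_15_1 lc_f_rc_15_1 lc_f_rc_30_1 lc_f_rc_46_2 lc_f_rc_23_1 lc_f_rc_46_2 lc_f_rc_15_1 lc_f_rc_23_1 lc_f_rc_6_1 lc_f_rc_46_0 lc_f_rc_45_2 lc_f_rc_46_2 lc_f_rc_23_1 lc_f_rc_30_1 lc_f_rc_46_2 lc_f_rc_46_2 lc_f_rc_23_1 lc_f_rc_42_2 lc_f_rc_6_1 lc_f_rc_15_1 lc_f_rc_23_1 lc_f_rc_44_2 lc_f_rc_44_2 lc_f_rc_46_2 lc_f_rc_23_1 lc_f_rc_6_1 lc_f_rc_42_2) (@D3.rec (fun _ => (Cert rels S Gen.f)) lc_f_rc_42_2 lc_f_rc_42_2 lc_f_rc_6_1 lc_f_rc_15_1 lc_f_rc_30_1 lc_f_rc_23_1 lc_f_rc_36_3 lc_f_rc_46_2 lc_f_rc_15_1 lc_f_rc_23_1 lc_f_rc_42_2 lc_f_rc_36_1 lc_f_rc_15_1 lc_f_rc_43_0 lc_f_rc_23_1 lc_f_rc_23_1 lc_f_rc_6_3 lc_f_rc_30_1 lc_f_rc_15_1 lc_f_rc_44_2 lc_f_rc_23_1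 lc_f_rc_36_3 lc_f_rc_46_2 lc_f_rc_15_1 lc_f_Cert_tree lc_f_rc_23_1 lc_f_rc_43_0 lc_f_rc_46_2 lc_f_rc_42_2 lc_f_rc_15_1 lc_f_rc_23_1 lc_f_rc_42_2 lc_f_rc_6_1 lc_f_Cert_tree lc_f_rc_15_1 lc_f_rc_43_0 lc_f_rc_46_2 lc_f_rc_42_2 lc_f_rc_44_2 lc_f_rc_46_2 lc_f_rc_42_2 lc_f_rc_23_1 lc_f_rc_6_1 lc_f_rc_43_0 lc_f_rc_46_2 lc_f_rc_15_1 lc_f_rc_23_1 lc_f_rc_46_2 lc_f_rc_42_2 lc_f_rc_30_1 lc_f_rc_45_2) (@D3.rec (fun _ => (Cert rels S Gen.f)) lc_f_rc_46_2 lc_f_rc_42_2 lc_f_rc_45_2 lc_f_rc_46_2 lc_f_rc_46_2 lc_f_rc_30_3 lc_f_rc_30_1 lc_f_rc_15_1 lc_f_rc_23_1 lc_f_rc_23_1 lc_f_rc_42_2 lc_f_rc_6_1 lc_f_rc_15_1 lc_f_rc_15_1 lc_f_rc_30_1 lc_f_rc_23_1 lc_f_rc_42_2 lc_f_rc_36_3 lc_f_rc_15_1 lc_f_rc_42_2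 lc_f_rc_6_1 lc_f_rc_15_1 lc_f_rc_30_1 lc_f_rc_6_1 lc_f_rc_15_1 lc_f_Cert_tree lc_f_rc_30_1 lc_f_rc_6_1 lc_f_rc_23_1 lc_f_rc_15_1 lc_f_rc_45_2 lc_f_rc_42_2 lc_f_rc_6_1 lc_f_rc_6_1 lc_f_rc_23_1 lc_f_rc_15_1 lc_f_rc_15_1 lc_f_rc_46_2 lc_f_rc_23_1 lc_f_rc_6_1 lc_f_rc_15_1 lc_f_rc_6_1 lc_f_rc_42_2 lc_f_rc_15_3 lc_f_rc_23_1 lc_f_rc_6_1 lc_f_rc_23_1 lc_f_rc_43_0 lc_f_rc_42_2 lc_f_rc_45_2 lc_f_rc_46_2) (@D3.rec (fun _ => (Cert rels S Gen.f)) lc_f_rc_42_2 lc_f_rc_46_2 lc_f_rc_46_2 lc_f_rc_42_2 lc_f_rc_42_2 lc_f_rc_30_1 lc_f_rc_46_2 lc_f_rc_42_2 lc_f_rc_45_2 lc_f_rc_46_2 lc_f_Cert_tree lc_f_rc_46_2 lc_f_rc_30_1 lc_f_rc_46_2 lc_f_rc_43_0 lc_f_rc_46_2 lc_f_rc_42_2 lc_f_rc_15_1 lc_f_rc_44_2 lc_f_rc_42_2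 lc_f_rc_23_1 lc_f_Cert_tree lc_f_rc_46_2 lc_f_rc_15_1 lc_f_Cert_tree lc_f_rc_23_1 lc_f_rc_43_0 lc_f_rc_46_2 lc_f_rc_42_2 lc_f_rc_15_1 lc_f_Cert_tree lc_f_rc_23_1 lc_f_rc_43_0 lc_f_rc_46_2 lc_f_rc_42_2 lc_f_Cert_tree lc_f_rc_15_1 lc_f_rc_43_0 lc_f_rc_46_2 lc_f_rc_42_2 lc_f_rc_46_2 lc_f_rc_42_2 lc_f_rc_6_1 lc_f_rc_15_1 lc_f_rc_15_3 lc_f_rc_44_2 lc_f_rc_46_2 lc_f_rc_44_2 lc_f_rc_44_2 lc_f_rc_15_1 lc_f_rc_23_1) (@D3.rec (fun _ => (Cert rels S Gen.f)) lc_f_rc_23_1 lc_f_rc_36_3 lc_f_rc_6_1 lc_f_rc_15_1 lc_f_rc_15_1 lc_f_rc_30_1 lc_f_rc_23_1 lc_f_rc_46_0 lc_f_rc_15_1 lc_f_rc_6_1 lc_f_rc_15_1 lc_f_rc_6_1 lc_f_rc_15_1 lc_f_rc_15_1 lc_f_rc_6_1 lc_f_rc_23_3 lc_f_rc_6_1 lc_f_rc_23_3 lc_f_rc_46_2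 lc_f_rc_42_2 lc_f_rc_30_1 lc_f_rc_6_1 lc_f_rc_45_2 lc_f_rc_46_2 lc_f_rc_36_3 lc_f_rc_46_2 lc_f_rc_46_2 lc_f_rc_42_2 lc_f_rc_30_1 lc_f_rc_23_1 lc_f_rc_23_1 lc_f_rc_36_3 lc_f_rc_46_2 lc_f_rc_15_1 lc_f_rc_42_2 lc_f_rc_23_1 lc_f_rc_36_3 lc_f_rc_42_2 lc_f_rc_15_1 lc_f_rc_23_1 lc_f_rc_42_2 lc_f_rc_6_1 lc_f_rc_15_1 lc_f_rc_42_2 lc_f_rc_46_2 lc_f_rc_15_1 lc_f_rc_23_1 lc_f_rc_6_1 lc_f_rc_15_1 lc_f_rc_45_2 lc_f_rc_23_1) (@D3.rec (fun _ => (Cert rels S Gen.f)) lc_f_rc_23_3 lc_f_rc_6_1 lc_f_rc_15_1 lc_f_rc_15_1 lc_f_rc_30_1 lc_f_rc_23_1 lc_f_rc_46_0 lc_f_rc_15_1 lc_f_rc_6_1 lc_f_rc_42_0 lc_f_rc_23_1 lc_f_rc_30_3 lc_f_rc_30_1 lc_f_rc_42_2 lc_f_rc_44_2 lc_f_rc_23_1 lc_f_rc_42_2 lc_f_rc_46_2 lc_f_rc_15_1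 lc_f_Cert_tree lc_f_rc_23_1 lc_f_rc_43_0 lc_f_rc_46_2 lc_f_rc_42_2 lc_f_rc_15_1 lc_f_rc_42_2 lc_f_rc_23_1 lc_f_rc_46_2 lc_f_rc_42_2 lc_f_rc_6_1 lc_f_Cert_tree lc_f_rc_15_1 lc_f_rc_43_0 lc_f_rc_46_2 lc_f_rc_42_2 lc_f_rc_44_2 lc_f_rc_46_2 lc_f_rc_42_2 lc_f_rc_46_2 lc_f_rc_46_2 lc_f_rc_15_1 lc_f_rc_23_1 lc_f_rc_46_2 lc_f_rc_42_2 lc_f_rc_45_2 lc_f_rc_46_2 lc_f_rc_42_2 lc_f_rc_30_1 lc_f_Cert_tree lc_f_rc_30_1 lc_f_rc_15_1) (@D3.rec (fun _ => (Cert rels S Gen.f)) lc_f_Cert_tree lc_f_rc_23_1 lc_f_rc_43_0 lc_f_rc_46_2 lc_f_rc_42_2 lc_f_rc_6_1 lc_f_Cert_tree lc_f_rc_15_1 lc_f_Cert_tree lc_f_rc_43_0 lc_f_rc_46_2 lc_f_rc_42_2 lc_f_rc_44_2 lc_f_rc_46_2 lc_f_rc_42_2 lc_f_rc_30_1 lc_f_Cert_tree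 lc_f_rc_15_1 lc_f_rc_43_0 lc_f_rc_46_2 lc_f_rc_42_2 lc_f_rc_30_1 lc_f_rc_46_2 lc_f_rc_42_2 lc_f_Cert_tree lc_f_rc_6_1 lc_f_rc_43_0 lc_f_rc_46_2 lc_f_rc_15_1 lc_f_rc_23_1 lc_f_rc_46_2 lc_f_rc_42_2 lc_f_rc_30_1 lc_f_rc_45_2 lc_f_rc_46_2 lc_f_rc_42_2 lc_f_rc_46_2 lc_f_rc_6_1 lc_f_rc_15_1 lc_f_rc_46_2 lc_f_rc_42_2 lc_f_rc_15_1 lc_f_rc_23_1 lc_f_rc_23_1 lc_f_rc_42_2 lc_f_rc_30_1 lc_f_rc_15_1 lc_f_rc_46_2 lc_f_rc_42_2 lc_f_rc_23_1 lc_f_rc_23_1) (@D3.rec (fun _ => (Cert rels S Gen.f)) lc_f_rc_46_2 lc_f_rc_23_1 lc_f_rc_15_1 lc_f_rc_45_2 lc_f_rc_42_2 lc_f_rc_42_2 lc_f_rc_6_1 lc_f_rc_15_1 lc_f_rc_36_5 lc_f_rc_30_1 lc_f_rc_30_1 lc_f_rc_42_2 lc_f_rc_30_1 lc_f_rc_42_2 lc_f_rc_46_2 lc_f_Cert_tree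 lc_f_rc_6_1 lc_f_rc_46_2 lc_f_rc_30_1 lc_f_rc_44_2 lc_f_rc_6_1 lc_f_rc_23_1 lc_f_rc_30_1 lc_f_rc_42_2 lc_f_rc_23_1 lc_f_rc_30_1 lc_f_rc_30_1 lc_f_rc_15_1 lc_f_rc_23_1 lc_f_rc_23_1 lc_f_rc_30_1 lc_f_rc_42_2 lc_f_rc_42_2 lc_f_rc_44_2 lc_f_rc_15_1 lc_f_rc_36_3 lc_f_rc_23_1 lc_f_rc_46_2 lc_f_rc_6_1 lc_f_rc_15_1 lc_f_rc_15_1 lc_f_rc_30_1 lc_f_rc_46_2 lc_f_rc_46_0 lc_f_rc_15_1 lc_f_rc_6_1 lc_f_rc_36_3 lc_f_rc_46_2 lc_f_Cert_tree lc_f_Cert_tree lc_f_rc_43_0) (@D3.rec (fun _ => (Cert rels S Gen.f)) lc_f_rc_30_1 lc_f_rc_43_1 lc_f_rc_46_2 lc_f_rc_36_3 lc_f_rc_6_1 lc_f_rc_6_1 lc_f_rc_15_1 lc_f_Cert_tree lc_f_rc_42_2 lc_f_rc_15_1 lc_f_rc_15_3 lc_f_rc_30_1 lc_f_rc_45_0 lc_f_rc_6_1 lc_f_rc_30_1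 lc_f_rc_6_1 lc_f_rc_30_1 lc_f_rc_36_1 lc_f_rc_6_1 lc_f_rc_23_1 lc_f_rc_45_2 lc_f_rc_30_1 lc_f_rc_6_1 lc_f_rc_30_1 lc_f_rc_6_1 lc_f_rc_15_1 lc_f_rc_36_3 lc_f_rc_43_0 lc_f_rc_46_2 lc_f_rc_23_1 lc_f_rc_46_2 lc_f_rc_46_2 lc_f_rc_42_2 lc_f_rc_43_0 lc_f_rc_46_2 lc_f_rc_6_1 lc_f_rc_46_2 lc_f_rc_46_2 lc_f_rc_15_1 lc_f_rc_23_1 lc_f_rc_42_2 lc_f_rc_23_1 lc_f_rc_30_3 lc_f_rc_15_1 lc_f_rc_15_1 lc_f_rc_15_1 lc_f_rc_42_2 lc_f_rc_30_1 lc_f_rc_23_1 lc_f_rc_30_1 lc_f_rc_6_1) (@D3.rec (fun _ => (Cert rels S Gen.f)) lc_f_rc_30_1 lc_f_Cert_tree lc_f_rc_6_1 lc_f_rc_23_1 lc_f_rc_23_1 lc_f_rc_43_0 lc_f_rc_15_1 lc_f_rc_30_1 lc_f_rc_6_1 lc_f_rc_6_1 lc_f_rc_15_1 lc_f_rc_30_1 lc_f_rc_6_3 lc_f_rc_44_2 lc_f_rc_30_1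 lc_f_Cert_tree lc_f_rc_6_1 lc_f_rc_23_1 lc_f_Cert_tree lc_f_rc_43_0 lc_f_rc_6_1 lc_f_rc_30_1 lc_f_rc_23_3 lc_f_rc_43_0 lc_f_rc_44_2 lc_f_rc_6_1 lc_f_rc_15_1 lc_f_rc_42_2 lc_f_rc_30_1 lc_f_rc_15_1 lc_f_rc_6_3 lc_f_rc_6_1 lc_f_rc_15_1 lc_f_rc_30_1 lc_f_rc_6_1 lc_f_rc_15_1 lc_f_rc_6_1 lc_f_rc_15_1 lc_f_rc_6_1 lc_f_rc_15_1 lc_f_rc_15_1 lc_f_rc_15_1 lc_f_rc_42_2 lc_f_rc_30_1 lc_f_rc_30_1 lc_f_rc_30_1 lc_f_rc_45_2 lc_f_Cert_tree lc_f_rc_42_2 lc_f_Cert_tree lc_f_rc_43_0) (@D3.rec (fun _ => (Cert rels S Gen.f)) lc_f_rc_46_2 lc_f_rc_15_1 lc_f_rc_43_0 lc_f_rc_43_1 lc_f_rc_46_2 lc_f_rc_23_1 lc_f_rc_46_2 lc_f_rc_42_2 lc_f_rc_30_1 lc_f_rc_44_2 lc_f_rc_42_2 lc_f_rc_30_1 lc_f_Cert_tree lc_f_rc_43_0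 lc_f_rc_46_2 lc_f_rc_46_2 lc_f_rc_42_2 lc_f_rc_42_2 lc_f_rc_43_0 lc_f_rc_46_2 lc_f_rc_30_1 lc_f_rc_15_1 lc_f_rc_46_2 lc_f_rc_42_2 lc_f_rc_23_1 lc_f_rc_23_1 lc_f_rc_42_2 lc_f_rc_30_1 lc_f_Cert_tree lc_f_rc_46_2 lc_f_rc_42_2 lc_f_rc_6_1 lc_f_rc_46_2 lc_f_rc_42_2 lc_f_rc_6_1 lc_f_rc_15_1 lc_f_rc_42_2 lc_f_rc_30_1 lc_f_rc_23_1 lc_f_rc_42_2 lc_f_rc_30_1 lc_f_rc_15_1 lc_f_rc_45_2 lc_f_rc_46_2 lc_f_rc_36_5 lc_f_rc_43_0 lc_f_rc_46_2 lc_f_rc_43_0 lc_f_rc_30_1 lc_f_rc_23_1 lc_f_rc_30_1) (@D3.rec (fun _ => (Cert rels S Gen.f)) lc_f_rc_15_1 lc_f_rc_23_1 lc_f_rc_42_2 lc_f_rc_45_2 lc_f_rc_46_2 lc_f_rc_46_2 lc_f_rc_30_1 lc_f_rc_42_2 lc_f_rc_23_1 lc_f_rc_42_2 lc_f_rc_23_1 lc_f_rc_42_2 lc_f_rc_15_1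 lc_f_rc_23_1 lc_f_rc_44_2 lc_f_rc_46_2 lc_f_rc_42_2 lc_f_rc_6_1 lc_f_rc_46_2 lc_f_rc_42_2 lc_f_rc_44_2 lc_f_rc_46_2 lc_f_rc_23_3 lc_f_rc_45_2 lc_f_rc_44_2 lc_f_rc_42_2 lc_f_rc_30_1 lc_f_rc_23_1 lc_f_rc_15_3 lc_f_rc_45_2 lc_f_rc_6_1 lc_f_rc_42_2 lc_f_rc_30_1 lc_f_rc_44_2 lc_f_rc_46_2 lc_f_rc_42_2 lc_f_rc_45_2 lc_f_rc_46_2 lc_f_rc_42_2 lc_f_rc_45_2 lc_f_rc_42_2 lc_f_rc_30_1 lc_f_rc_23_1 lc_f_rc_15_1 lc_f_rc_6_1 lc_f_rc_15_1 lc_f_rc_6_1 lc_f_rc_15_1 lc_f_rc_42_2 lc_f_rc_36_1 lc_f_rc_23_1) (@D3.rec (fun _ => (Cert rels S Gen.f)) lc_f_rc_15_3 lc_f_rc_6_1 lc_f_rc_15_1 lc_f_rc_56_47 lc_f_rc_6_1 lc_f_rc_15_1 lc_f_rc_44_2 lc_f_rc_42_2 lc_f_rc_46_2 lc_f_rc_6_3 lc_f_rc_6_3 lc_f_rc_6_3 lc_f_rc_45_0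 lc_f_rc_30_1 lc_f_rc_30_1 lc_f_rc_30_1 lc_f_rc_45_2 lc_f_rc_30_1 lc_f_rc_36_3 lc_f_rc_42_2 lc_f_rc_46_2 lc_f_rc_15_1 lc_f_rc_15_1 lc_f_rc_6_3 lc_f_rc_6_1 lc_f_rc_6_1 lc_f_rc_46_2 lc_f_rc_42_2 lc_f_rc_42_2 lc_f_rc_45_2 lc_f_rc_46_2 lc_f_rc_15_3 lc_f_rc_46_2 lc_f_rc_46_2 lc_f_rc_23_1 lc_f_rc_43_0 lc_f_rc_46_2 lc_f_rc_42_2 lc_f_rc_44_2 lc_f_rc_46_2 lc_f_rc_42_2 lc_f_rc_44_2 lc_f_rc_44_2 lc_f_rc_42_2 lc_f_rc_45_2 lc_f_rc_42_2 lc_f_rc_30_1 lc_f_rc_46_2 lc_f_rc_23_1 lc_f_rc_36_1 lc_f_rc_46_2) (@D3.rec (fun _ => (Cert rels S Gen.f)) lc_f_rc_44_2 lc_f_rc_45_2 lc_f_rc_30_1 lc_f_rc_46_2 lc_f_rc_45_2 lc_f_rc_46_2 lc_f_rc_23_1 lc_f_Cert_tree lc_f_rc_46_2 lc_f_rc_30_1 lc_f_rc_23_1 lc_f_rc_23_1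 lc_f_rc_30_1 lc_f_rc_42_2 lc_f_Cert_tree lc_f_rc_30_1 lc_f_rc_43_0 lc_f_rc_46_2 lc_f_rc_42_2 lc_f_rc_36_3 lc_f_rc_46_2 lc_f_rc_23_1 lc_f_rc_46_2 lc_f_rc_44_2 lc_f_rc_23_1 lc_f_rc_15_1 lc_f_rc_46_2 lc_f_rc_23_1 lc_f_rc_44_2 lc_f_rc_46_2 lc_f_rc_46_2 lc_f_rc_56_19 lc_f_rc_45_2 lc_f_rc_45_2 lc_f_rc_42_2 lc_f_rc_30_1 lc_f_rc_46_2 lc_f_rc_30_1 lc_f_rc_15_1 lc_f_rc_6_1 lc_f_rc_42_2 lc_f_rc_6_3 lc_f_rc_30_1 lc_f_rc_46_2 lc_f_rc_46_2 lc_f_rc_43_0 lc_f_rc_46_2 lc_f_rc_6_1 lc_f_rc_30_3 lc_f_rc_46_2 lc_f_rc_30_3) (@D3.rec (fun _ => (Cert rels S Gen.f)) lc_f_rc_6_1 lc_f_rc_6_1 lc_f_rc_42_2 lc_f_rc_45_2 lc_f_rc_30_1 lc_f_rc_46_2 lc_f_rc_45_2 lc_f_rc_46_2 lc_f_Cert_tree lc_f_rc_46_2 lc_f_rc_43_0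 lc_f_rc_46_2 lc_f_rc_46_2 lc_f_rc_45_2 lc_f_rc_46_2 lc_f_rc_23_1 lc_f_Cert_tree lc_f_rc_46_2 lc_f_rc_46_2 lc_f_rc_23_1 lc_f_rc_43_0 lc_f_rc_46_2 lc_f_rc_42_2 lc_f_rc_15_1 lc_f_rc_43_0 lc_f_rc_46_2 lc_f_rc_23_1 lc_f_rc_44_2 lc_f_rc_46_2 lc_f_rc_42_2 lc_f_rc_44_2 lc_f_rc_46_2 lc_f_rc_42_2 lc_f_rc_45_2 lc_f_rc_46_2 lc_f_rc_42_2 lc_f_rc_30_1 lc_f_rc_45_2 lc_f_rc_36_5 lc_f_rc_23_1 lc_f_rc_36_3 lc_f_rc_36_3 lc_f_rc_15_1 lc_f_rc_45_2 lc_f_rc_30_1 lc_f_rc_46_2 lc_f_rc_45_2 lc_f_rc_46_2 lc_f_rc_23_1 lc_f_Cert_tree lc_f_rc_46_2) (@D3.rec (fun _ => (Cert rels S Gen.f)) lc_f_rc_6_1 lc_f_rc_6_1 lc_f_rc_46_2 lc_f_rc_42_2 lc_f_rc_45_2 lc_f_rc_46_2 lc_f_rc_23_1 lc_f_Cert_tree lc_f_rc_46_2 lc_f_rc_23_1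 lc_f_Cert_tree lc_f_rc_46_2 lc_f_rc_15_1 lc_f_Cert_tree lc_f_rc_23_1 lc_f_rc_43_0 lc_f_rc_46_2 lc_f_rc_42_2 lc_f_rc_15_1 lc_f_rc_6_1 lc_f_rc_23_1 lc_f_rc_6_1 lc_f_rc_43_0 lc_f_rc_46_2 lc_f_rc_30_1 lc_f_rc_46_2 lc_f_rc_42_2 lc_f_rc_36_5 lc_f_rc_44_2 lc_f_rc_23_1 lc_f_rc_46_2 lc_f_rc_15_1 lc_f_rc_23_1 lc_f_rc_23_1 lc_f_rc_36_3 lc_f_rc_42_2 lc_f_rc_23_1 lc_f_rc_42_2 lc_f_rc_15_1 lc_f_rc_42_2 lc_f_rc_6_1 lc_f_rc_15_1 lc_f_rc_30_1 lc_f_rc_23_1 lc_f_rc_42_2 lc_f_rc_15_1 lc_f_rc_15_1 lc_f_rc_23_1 lc_f_rc_42_2 lc_f_rc_36_3 lc_f_rc_42_2) (@D3.rec (fun _ => (Cert rels S Gen.f)) lc_f_rc_15_1 lc_f_rc_30_1 lc_f_rc_6_1 lc_f_rc_15_1 lc_f_rc_6_1 lc_f_rc_45_2 lc_f_rc_42_2 lc_f_rc_45_2 lc_f_rc_30_1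 lc_f_rc_46_2 lc_f_rc_36_1 lc_f_rc_6_1 lc_f_rc_45_2 lc_f_rc_30_1 lc_f_rc_46_2 lc_f_rc_45_2 lc_f_rc_46_2 lc_f_rc_23_1 lc_f_Cert_tree lc_f_rc_46_2 lc_f_rc_15_1 lc_f_rc_15_3 lc_f_rc_15_1 lc_f_rc_43_0 lc_f_rc_46_2 lc_f_rc_30_1 lc_f_rc_42_2 lc_f_rc_30_3 lc_f_rc_6_1 lc_f_rc_45_2 lc_f_rc_30_1 lc_f_rc_46_2 lc_f_rc_45_2 lc_f_rc_46_2 lc_f_rc_23_1 lc_f_Cert_tree lc_f_rc_46_2 lc_f_rc_23_1 lc_f_rc_6_3 lc_f_rc_6_1 lc_f_rc_6_1 lc_f_rc_45_2 lc_f_rc_46_2 lc_f_rc_23_1 lc_f_Cert_tree lc_f_rc_46_2 lc_f_rc_46_2 lc_f_rc_23_1 lc_f_rc_43_0 lc_f_rc_46_2 lc_f_rc_42_2) (@D3.rec (fun _ => (Cert rels S Gen.f)) lc_f_rc_23_1 lc_f_rc_44_2 lc_f_rc_46_2 lc_f_rc_42_2 lc_f_rc_44_2 lc_f_rc_46_2 lc_f_rc_42_2 lc_f_rc_45_2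 lc_f_rc_46_2 lc_f_rc_42_2 lc_f_rc_30_1 lc_f_rc_6_1 lc_f_rc_42_2 lc_f_rc_6_1 lc_f_rc_23_1 lc_f_rc_42_2 lc_f_rc_42_2 lc_f_rc_30_1 lc_f_rc_36_3 lc_f_rc_30_1 lc_f_rc_46_2 lc_f_rc_42_2 lc_f_rc_45_2 lc_f_rc_46_2 lc_f_rc_23_1 lc_f_Cert_tree lc_f_rc_46_2 lc_f_rc_23_1 lc_f_Cert_tree lc_f_rc_46_2 lc_f_rc_15_1 lc_f_Cert_tree lc_f_rc_23_1 lc_f_rc_43_0 lc_f_rc_46_2 lc_f_rc_42_2 lc_f_rc_15_1 lc_f_rc_46_2 lc_f_rc_23_1 lc_f_rc_44_2 lc_f_rc_46_2 lc_f_rc_42_2 lc_f_rc_44_2 lc_f_rc_44_2 lc_f_rc_23_1 lc_f_Cert_tree lc_f_rc_46_2 lc_f_rc_15_1 lc_f_Cert_tree lc_f_rc_23_1 lc_f_rc_43_0) (@D3.rec (fun _ => (Cert rels S Gen.f)) lc_f_rc_46_2 lc_f_rc_42_2 lc_f_rc_15_1 lc_f_rc_23_1 lc_f_rc_43_0 lc_f_rc_46_2 lc_f_rc_42_2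 lc_f_rc_6_1 lc_f_Cert_tree lc_f_rc_15_1 lc_f_rc_43_0 lc_f_rc_46_2 lc_f_rc_42_2 lc_f_rc_44_2 lc_f_rc_46_2 lc_f_rc_42_2 lc_f_rc_6_1 lc_f_rc_46_2 lc_f_rc_15_1 lc_f_rc_23_1 lc_f_rc_46_2 lc_f_rc_42_2 lc_f_rc_30_1 lc_f_rc_45_2 lc_f_rc_46_2 lc_f_rc_42_2 lc_f_rc_30_1 lc_f_rc_44_2 lc_f_rc_46_2 lc_f_rc_42_2 lc_f_rc_45_2 lc_f_rc_46_2 lc_f_rc_42_2 lc_f_rc_30_1 lc_f_rc_46_2 lc_f_rc_42_2 lc_f_rc_30_1 lc_f_rc_23_1 lc_f_rc_30_1 lc_f_rc_15_1 lc_f_rc_23_1 lc_f_rc_42_2 lc_f_rc_6_1 lc_f_rc_15_1 lc_f_rc_15_1 lc_f_rc_30_1 lc_f_rc_6_1 lc_f_rc_42_2 lc_f_rc_23_3 lc_f_rc_6_1 lc_f_rc_15_1) (@D3.rec (fun _ => (Cert rels S Gen.f)) lc_f_rc_42_2 lc_f_rc_6_1 lc_f_rc_15_1 lc_f_rc_30_1 lc_f_rc_6_1 lc_f_rc_15_1 lc_f_Cert_tree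 lc_f_rc_6_1 lc_f_rc_15_1 lc_f_rc_42_2 lc_f_rc_45_2 lc_f_rc_6_1 lc_f_rc_23_3 lc_f_rc_15_1 lc_f_rc_15_3 lc_f_rc_30_1 lc_f_rc_6_1 lc_f_rc_15_1 lc_f_rc_30_1 lc_f_rc_6_1 lc_f_rc_30_1 lc_f_rc_15_3 lc_f_rc_46_2 lc_f_rc_42_2 lc_f_rc_6_1 lc_f_rc_46_2 lc_f_rc_42_2 lc_f_rc_6_1 lc_f_rc_23_1 lc_f_rc_36_3 lc_f_rc_46_2 lc_f_rc_15_1 lc_f_rc_15_1 lc_f_rc_23_1 lc_f_rc_45_2 lc_f_rc_44_2 lc_f_rc_30_1 lc_f_rc_36_3 lc_f_rc_42_2 lc_f_rc_44_2 lc_f_rc_42_0 lc_f_rc_6_1 lc_f_rc_6_1 lc_f_rc_6_1 lc_f_rc_45_2 lc_f_rc_42_2 lc_f_rc_45_2 lc_f_rc_30_1 lc_f_rc_46_2 lc_f_rc_23_1 lc_f_rc_30_1) (@D3.rec (fun _ => (Cert rels S Gen.f)) lc_f_rc_6_1 lc_f_rc_42_2 lc_f_rc_46_2 lc_f_rc_42_2 lc_f_rc_6_1 lc_f_rc_45_2 lc_f_rc_46_2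 lc_f_rc_46_2 lc_f_rc_23_1 lc_f_rc_6_1 lc_f_rc_44_4 lc_f_rc_42_2 lc_f_rc_23_1 lc_f_Cert_tree lc_f_rc_46_2 lc_f_rc_45_2 lc_f_rc_30_1 lc_f_rc_46_2 lc_f_rc_36_3 lc_f_rc_6_3 lc_f_rc_46_2 lc_f_rc_6_3 lc_f_rc_23_1 lc_f_rc_43_0 lc_f_rc_46_2 lc_f_rc_42_2 lc_f_rc_30_1 lc_f_rc_42_2 lc_f_rc_46_2 lc_f_rc_42_2 lc_f_rc_42_2 lc_f_rc_6_3 lc_f_rc_23_3 lc_f_rc_6_3 lc_f_rc_23_1 lc_f_rc_46_2 lc_f_rc_30_1 lc_f_rc_30_1 lc_f_rc_42_0 lc_f_rc_6_1 lc_f_rc_6_1 lc_f_rc_23_1 lc_f_rc_30_1 lc_f_rc_45_2 lc_f_rc_44_4 lc_f_rc_46_2 lc_f_rc_23_1 lc_f_rc_36_3 lc_f_rc_6_1 lc_f_rc_6_1 lc_f_rc_30_1) (@D3.rec (fun _ => (Cert rels S Gen.f)) lc_f_rc_46_2 lc_f_rc_30_1 lc_f_rc_46_2 lc_f_rc_44_2 lc_f_Cert_tree lc_f_rc_46_2 lc_f_rc_45_0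 lc_f_rc_23_1 lc_f_rc_23_1 lc_f_rc_30_1 lc_f_rc_6_1 lc_f_rc_43_0 lc_f_rc_46_2 lc_f_rc_42_2 lc_f_rc_36_3 lc_f_rc_15_1 lc_f_rc_46_2 lc_f_rc_30_3 lc_f_rc_46_2 lc_f_rc_23_1 lc_f_rc_45_2 lc_f_rc_30_1 lc_f_rc_46_2 lc_f_rc_42_2 lc_f_rc_56_26 lc_f_rc_15_1 lc_f_rc_15_1 lc_f_rc_46_2 lc_f_rc_15_1 lc_f_rc_45_2 lc_f_rc_23_1 lc_f_rc_43_0 lc_f_rc_46_2 lc_f_rc_46_2 lc_f_rc_15_1 lc_f_rc_46_2 lc_f_rc_46_2 lc_f_rc_15_1 lc_f_rc_6_3 lc_f_rc_46_2 lc_f_rc_42_2 lc_f_rc_6_1 lc_f_rc_42_2 lc_f_rc_15_1 lc_f_rc_43_0 lc_f_rc_46_2 lc_f_rc_23_1 lc_f_rc_45_2 lc_f_rc_46_2 lc_f_rc_42_2 lc_f_rc_15_1)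
def ce_f_12 : D2 → D3 → (Cert rels S Gen.f) := @D2.rec (fun _ => D3 → (Cert rels S Gen.f)) (@D3.rec (fun _ => (Cert rels S Gen.f)) lc_f_rc_6_1 lc_f_rc_15_1 lc_f_rc_42_2 lc_f_rc_30_1 lc_f_rc_42_2 lc_f_rc_6_1 lc_f_rc_15_1 lc_f_rc_30_1 lc_f_rc_6_1 lc_f_rc_15_3 lc_f_rc_6_1 lc_f_rc_42_2 lc_f_rc_46_2 lc_f_rc_6_1 lc_f_rc_43_0 lc_f_rc_46_2 lc_f_rc_42_2 lc_f_rc_46_2 lc_f_rc_42_2 lc_f_rc_42_2 lc_f_rc_23_1 lc_f_rc_46_2 lc_f_rc_46_2 lc_f_rc_42_2 lc_f_rc_15_1 lc_f_rc_23_1 lc_f_rc_46_2 lc_f_rc_23_1 lc_f_rc_36_3 lc_f_rc_42_2 lc_f_rc_15_1 lc_f_rc_15_3 lc_f_rc_46_2 lc_f_rc_45_2 lc_f_rc_6_1 lc_f_rc_15_1 lc_f_rc_30_1 lc_f_rc_46_0 lc_f_rc_42_2 lc_f_rc_45_2 lc_f_rc_42_2 lc_f_rc_45_2 lc_f_rc_30_1 lc_f_rc_46_2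 lc_f_rc_30_1 lc_f_rc_15_1 lc_f_rc_45_2 lc_f_rc_42_2 lc_f_rc_45_2 lc_f_rc_30_1 lc_f_rc_46_2) (@D3.rec (fun _ => (Cert rels S Gen.f)) lc_f_rc_15_1 lc_f_rc_6_3 lc_f_rc_6_1 lc_f_rc_6_1 lc_f_rc_45_2 lc_f_rc_30_1 lc_f_rc_46_2 lc_f_rc_45_2 lc_f_rc_46_2 lc_f_rc_23_1 lc_f_Cert_tree lc_f_rc_46_2 lc_f_rc_23_1 lc_f_rc_23_1 lc_f_rc_30_1 lc_f_rc_6_1 lc_f_rc_43_0 lc_f_rc_46_2 lc_f_rc_6_1 lc_f_rc_6_3 lc_f_rc_42_2 lc_f_rc_46_2 lc_f_rc_23_1 lc_f_rc_46_2 lc_f_rc_23_1 lc_f_rc_42_2 lc_f_rc_15_1 lc_f_rc_23_1 lc_f_rc_36_3 lc_f_rc_45_2 lc_f_rc_30_1 lc_f_rc_46_2 lc_f_rc_45_2 lc_f_rc_46_2 lc_f_rc_23_1 lc_f_Cert_tree lc_f_rc_46_2 lc_f_rc_15_1 lc_f_rc_23_3 lc_f_rc_23_1 lc_f_rc_43_0 lc_f_rc_46_2 lc_f_rc_46_2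 lc_f_rc_15_1 lc_f_rc_45_2 lc_f_rc_46_2 lc_f_rc_23_1 lc_f_Cert_tree lc_f_rc_46_2 lc_f_rc_46_2 lc_f_rc_15_1) (@D3.rec (fun _ => (Cert rels S Gen.f)) lc_f_rc_23_1 lc_f_rc_43_0 lc_f_rc_46_2 lc_f_rc_42_2 lc_f_rc_6_1 lc_f_rc_42_2 lc_f_rc_15_1 lc_f_rc_43_0 lc_f_rc_46_2 lc_f_rc_23_1 lc_f_rc_44_2 lc_f_rc_46_2 lc_f_rc_42_2 lc_f_rc_42_2 lc_f_rc_44_2 lc_f_rc_46_2 lc_f_rc_42_2 lc_f_rc_46_2 lc_f_rc_42_2 lc_f_rc_30_1 lc_f_rc_36_5 lc_f_rc_42_2 lc_f_rc_30_1 lc_f_rc_46_2 lc_f_rc_15_1 lc_f_rc_23_1 lc_f_rc_23_1 lc_f_rc_30_1 lc_f_rc_42_2 lc_f_rc_42_2 lc_f_rc_15_1 lc_f_rc_42_2 lc_f_rc_6_1 lc_f_rc_15_1 lc_f_rc_30_1 lc_f_rc_45_2 lc_f_rc_42_2 lc_f_rc_6_1 lc_f_rc_36_3 lc_f_rc_15_1 lc_f_rc_45_2 lc_f_rc_42_2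 lc_f_rc_45_2 lc_f_rc_30_1 lc_f_rc_6_1 lc_f_rc_15_1 lc_f_rc_6_1 lc_f_rc_15_1 lc_f_rc_42_2 lc_f_rc_30_3 lc_f_rc_30_1) (@D3.rec (fun _ => (Cert rels S Gen.f)) lc_f_rc_46_2 lc_f_rc_46_2 lc_f_rc_45_2 lc_f_rc_30_1 lc_f_rc_46_2 lc_f_rc_45_2 lc_f_rc_46_2 lc_f_rc_23_1 lc_f_rc_46_2 lc_f_rc_56_33 lc_f_rc_23_1 lc_f_rc_36_1 lc_f_rc_36_3 lc_f_rc_36_3 lc_f_rc_45_2 lc_f_rc_30_1 lc_f_rc_46_2 lc_f_rc_45_2 lc_f_rc_46_2 lc_f_rc_23_1 lc_f_Cert_tree lc_f_rc_46_2 lc_f_rc_15_1 lc_f_rc_23_1 lc_f_rc_23_1 lc_f_rc_46_2 lc_f_rc_6_1 lc_f_rc_44_2 lc_f_rc_45_2 lc_f_rc_46_2 lc_f_rc_23_1 lc_f_Cert_tree lc_f_rc_46_2 lc_f_rc_23_1 lc_f_Cert_tree lc_f_rc_46_2 lc_f_rc_15_1 lc_f_Cert_tree lc_f_rc_23_1 lc_f_rc_43_0 lc_f_rc_46_2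 lc_f_rc_42_2 lc_f_rc_6_1 lc_f_rc_15_1 lc_f_rc_15_1 lc_f_rc_23_1 lc_f_rc_23_1 lc_f_rc_36_3 lc_f_rc_43_0 lc_f_rc_46_2 lc_f_rc_6_1) (@D3.rec (fun _ => (Cert rels S Gen.f)) lc_f_rc_46_2 lc_f_rc_42_2 lc_f_rc_30_1 lc_f_rc_46_2 lc_f_rc_23_1 lc_f_rc_6_1 lc_f_rc_46_2 lc_f_rc_15_1 lc_f_rc_23_1 lc_f_rc_6_1 lc_f_rc_42_2 lc_f_rc_15_1 lc_f_rc_23_1 lc_f_rc_42_2 lc_f_rc_44_2 lc_f_rc_15_1 lc_f_rc_42_2 lc_f_rc_6_1 lc_f_rc_15_1 lc_f_rc_30_1 lc_f_rc_36_3 lc_f_rc_30_1 lc_f_rc_46_2 lc_f_rc_30_3 lc_f_rc_45_2 lc_f_rc_46_2 lc_f_rc_23_1 lc_f_Cert_tree lc_f_rc_46_2 lc_f_rc_23_1 lc_f_Cert_tree lc_f_rc_46_2 lc_f_rc_15_1 lc_f_Cert_tree lc_f_rc_23_1 lc_f_rc_43_0 lc_f_rc_46_2 lc_f_rc_42_2 lc_f_rc_15_1 lc_f_rc_46_2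 lc_f_rc_23_1 lc_f_rc_44_2 lc_f_rc_46_2 lc_f_rc_42_2 lc_f_rc_44_2 lc_f_rc_46_2 lc_f_rc_23_1 lc_f_Cert_tree lc_f_rc_46_2 lc_f_rc_15_1 lc_f_Cert_tree) (@D3.rec (fun _ => (Cert rels S Gen.f)) lc_f_rc_23_1 lc_f_rc_43_0 lc_f_rc_46_2 lc_f_rc_42_2 lc_f_Cert_tree lc_f_rc_23_1 lc_f_rc_43_0 lc_f_rc_46_2 lc_f_rc_42_2 lc_f_rc_6_1 lc_f_Cert_tree lc_f_rc_15_1 lc_f_rc_43_0 lc_f_rc_46_2 lc_f_rc_42_2 lc_f_rc_44_2 lc_f_rc_46_2 lc_f_rc_42_2 lc_f_rc_6_1 lc_f_rc_46_2 lc_f_rc_15_1 lc_f_rc_23_1 lc_f_rc_46_2 lc_f_rc_42_2 lc_f_rc_30_1 lc_f_rc_45_2 lc_f_rc_46_2 lc_f_rc_42_2 lc_f_rc_30_1 lc_f_rc_46_2 lc_f_rc_42_2 lc_f_rc_45_2 lc_f_rc_46_2 lc_f_rc_42_2 lc_f_rc_30_1 lc_f_rc_46_2 lc_f_rc_42_2 lc_f_rc_30_1 lc_f_rc_23_1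 lc_f_rc_23_1 lc_f_rc_23_1 lc_f_rc_45_2 lc_f_rc_42_2 lc_f_rc_6_1 lc_f_rc_15_1 lc_f_rc_15_1 lc_f_rc_30_1 lc_f_rc_23_1 lc_f_rc_42_2 lc_f_rc_36_3 lc_f_rc_42_2) (@D3.rec (fun _ => (Cert rels S Gen.f)) lc_f_rc_6_1 lc_f_rc_15_1 lc_f_rc_30_1 lc_f_rc_6_1 lc_f_rc_15_1 lc_f_rc_15_1 lc_f_rc_36_3 lc_f_rc_6_1 lc_f_rc_6_1 lc_f_rc_15_1 lc_f_rc_15_1 lc_f_rc_36_3 lc_f_rc_30_1 lc_f_rc_6_1 lc_f_rc_36_3 lc_f_rc_6_1 lc_f_rc_23_1 lc_f_rc_44_2 lc_f_rc_46_2 lc_f_rc_42_2 lc_f_rc_46_2 lc_f_rc_42_2 lc_f_rc_44_2 lc_f_rc_30_1 lc_f_rc_45_2 lc_f_rc_30_1 lc_f_rc_46_2 lc_f_rc_45_2 lc_f_rc_46_2 lc_f_rc_23_1 lc_f_rc_46_2 lc_f_rc_15_1 lc_f_rc_6_1 lc_f_rc_42_2 lc_f_rc_45_2 lc_f_rc_46_2 lc_f_Cert_tree lc_f_rc_46_2 lc_f_rc_30_1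 lc_f_rc_46_2 lc_f_rc_43_0 lc_f_rc_46_2 lc_f_rc_42_2 lc_f_rc_15_1 lc_f_rc_36_3 lc_f_rc_6_1 lc_f_rc_46_2 lc_f_rc_42_2 lc_f_rc_23_3 lc_f_rc_42_2 lc_f_rc_36_3) (@D3.rec (fun _ => (Cert rels S Gen.f)) lc_f_rc_30_1 lc_f_rc_46_2 lc_f_rc_42_2 lc_f_rc_45_2 lc_f_rc_46_2 lc_f_Cert_tree lc_f_rc_46_2 lc_f_Cert_tree lc_f_rc_46_2 lc_f_rc_43_0 lc_f_rc_46_2 lc_f_rc_42_2 lc_f_rc_15_3 lc_f_rc_44_2 lc_f_rc_42_2 lc_f_rc_23_1 lc_f_Cert_tree lc_f_rc_46_2 lc_f_rc_15_1 lc_f_Cert_tree lc_f_rc_23_1 lc_f_rc_43_0 lc_f_rc_46_2 lc_f_rc_42_2 lc_f_rc_23_1 lc_f_rc_43_0 lc_f_rc_46_2 lc_f_rc_42_2 lc_f_rc_15_1 lc_f_rc_43_0 lc_f_rc_46_2 lc_f_rc_42_2 lc_f_rc_44_2 lc_f_rc_46_2 lc_f_rc_42_2 lc_f_rc_15_1 lc_f_rc_30_3 lc_f_rc_45_2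 lc_f_rc_46_2 lc_f_rc_42_2 lc_f_rc_30_1 lc_f_rc_44_2 lc_f_rc_46_2 lc_f_rc_42_2 lc_f_rc_45_2 lc_f_rc_46_2 lc_f_rc_42_2 lc_f_rc_30_1 lc_f_rc_46_2 lc_f_rc_42_2 lc_f_rc_30_1) (@D3.rec (fun _ => (Cert rels S Gen.f)) lc_f_rc_36_1 lc_f_rc_6_1 lc_f_rc_44_2 lc_f_rc_44_2 lc_f_rc_23_1 lc_f_rc_42_2 lc_f_rc_15_1 lc_f_rc_30_1 lc_f_rc_42_0 lc_f_rc_45_2 lc_f_rc_30_1 lc_f_rc_46_2 lc_f_rc_45_2 lc_f_rc_46_2 lc_f_rc_46_2 lc_f_rc_15_1 lc_f_rc_42_2 lc_f_rc_45_2 lc_f_rc_46_2 lc_f_rc_23_1 lc_f_rc_42_0 lc_f_rc_46_2 lc_f_rc_23_1 lc_f_rc_46_2 lc_f_rc_23_1 lc_f_rc_42_2 lc_f_rc_15_3 lc_f_rc_36_3 lc_f_rc_30_1 lc_f_rc_46_2 lc_f_rc_42_2 lc_f_rc_45_2 lc_f_rc_46_2 lc_f_Cert_tree lc_f_rc_46_2 lc_f_Cert_tree lc_f_rc_46_2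 lc_f_rc_43_0 lc_f_rc_46_2 lc_f_rc_42_2 lc_f_rc_6_3 lc_f_rc_30_1 lc_f_rc_23_1 lc_f_rc_23_1 lc_f_Cert_tree lc_f_rc_46_2 lc_f_rc_15_1 lc_f_Cert_tree lc_f_rc_23_1 lc_f_rc_43_0 lc_f_rc_46_2) (@D3.rec (fun _ => (Cert rels S Gen.f)) lc_f_rc_42_2 lc_f_Cert_tree lc_f_rc_23_1 lc_f_rc_43_0 lc_f_rc_46_2 lc_f_rc_42_2 lc_f_rc_15_1 lc_f_rc_43_0 lc_f_rc_46_2 lc_f_rc_42_2 lc_f_rc_46_2 lc_f_rc_42_2 lc_f_rc_15_1 lc_f_rc_6_3 lc_f_rc_30_1 lc_f_rc_44_2 lc_f_rc_46_2 lc_f_rc_42_2 lc_f_rc_42_2 lc_f_rc_30_1 lc_f_rc_36_1 lc_f_rc_23_1 lc_f_rc_23_3 lc_f_rc_6_1 lc_f_rc_23_1 lc_f_rc_23_1 lc_f_rc_6_1 lc_f_rc_6_1 lc_f_rc_15_1 lc_f_rc_15_1 lc_f_rc_30_1 lc_f_rc_23_1 lc_f_rc_6_1 lc_f_rc_46_0 lc_f_rc_30_1 lc_f_rc_46_2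 lc_f_rc_23_1 lc_f_Cert_tree lc_f_rc_30_1 lc_f_rc_42_2 lc_f_rc_44_2 lc_f_rc_23_1 lc_f_Cert_tree lc_f_rc_46_2 lc_f_rc_15_1 lc_f_Cert_tree lc_f_rc_23_1 lc_f_rc_43_0 lc_f_rc_46_2 lc_f_rc_42_2 lc_f_rc_15_1) (@D3.rec (fun _ => (Cert rels S Gen.f)) lc_f_Cert_tree lc_f_rc_23_1 lc_f_rc_43_0 lc_f_rc_46_2 lc_f_rc_42_2 lc_f_rc_15_1 lc_f_rc_43_0 lc_f_rc_46_2 lc_f_rc_42_2 lc_f_rc_44_2 lc_f_rc_46_2 lc_f_rc_42_2 lc_f_rc_15_1 lc_f_rc_23_1 lc_f_rc_46_2 lc_f_rc_42_2 lc_f_rc_45_2 lc_f_rc_46_2 lc_f_rc_42_2 lc_f_rc_30_1 lc_f_rc_30_1 lc_f_Cert_tree lc_f_rc_30_1 lc_f_rc_15_1 lc_f_Cert_tree lc_f_rc_23_1 lc_f_rc_43_0 lc_f_rc_46_2 lc_f_rc_42_2 lc_f_rc_6_1 lc_f_Cert_tree lc_f_rc_15_1 lc_f_Cert_tree lc_f_rc_43_0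 lc_f_rc_46_2 lc_f_rc_42_2 lc_f_rc_44_2 lc_f_rc_46_2 lc_f_rc_42_2 lc_f_rc_6_1 lc_f_Cert_tree lc_f_rc_15_1 lc_f_rc_43_0 lc_f_rc_46_2 lc_f_rc_42_2 lc_f_rc_44_2 lc_f_rc_46_2 lc_f_rc_42_2 lc_f_rc_6_1 lc_f_rc_43_0 lc_f_rc_46_2) (@D3.rec (fun _ => (Cert rels S Gen.f)) lc_f_rc_15_1 lc_f_rc_23_1 lc_f_rc_46_2 lc_f_rc_42_2 lc_f_rc_30_1 lc_f_rc_45_2 lc_f_rc_46_2 lc_f_rc_42_2 lc_f_rc_30_1 lc_f_rc_6_1 lc_f_rc_15_1 lc_f_rc_46_2 lc_f_rc_42_2 lc_f_rc_15_1 lc_f_rc_23_1 lc_f_rc_23_1 lc_f_rc_42_2 lc_f_rc_30_1 lc_f_rc_6_3 lc_f_rc_46_2 lc_f_rc_42_2 lc_f_rc_30_1 lc_f_rc_23_1 lc_f_rc_44_2 lc_f_rc_44_2 lc_f_rc_42_2 lc_f_rc_30_1 lc_f_rc_46_2 lc_f_rc_42_2 lc_f_rc_30_1 lc_f_rc_23_1 lc_f_rc_42_2 lc_f_rc_30_1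 lc_f_rc_23_1 lc_f_rc_15_1 lc_f_rc_15_1 lc_f_rc_45_2 lc_f_rc_23_1 lc_f_rc_23_3 lc_f_rc_42_2 lc_f_rc_6_1 lc_f_rc_15_1 lc_f_rc_15_1 lc_f_rc_30_1 lc_f_rc_23_1 lc_f_rc_42_2 lc_f_rc_36_3 lc_f_rc_6_1 lc_f_rc_6_1 lc_f_rc_15_1 lc_f_rc_15_1) (@D3.rec (fun _ => (Cert rels S Gen.f)) lc_f_rc_15_1 lc_f_rc_42_2 lc_f_rc_30_1 lc_f_rc_36_3 lc_f_rc_30_1 lc_f_rc_30_1 lc_f_rc_6_1 lc_f_rc_15_1 lc_f_rc_30_1 lc_f_rc_6_1 lc_f_rc_30_1 lc_f_Cert_tree lc_f_rc_6_1 lc_f_rc_6_1 lc_f_rc_6_1 lc_f_rc_15_1 lc_f_rc_30_1 lc_f_rc_23_3 lc_f_rc_36_3 lc_f_rc_6_1 lc_f_rc_46_2 lc_f_rc_30_1 lc_f_rc_44_2 lc_f_rc_46_2 lc_f_rc_23_1 lc_f_rc_30_1 lc_f_rc_15_1 lc_f_rc_6_1 lc_f_rc_42_2 lc_f_rc_6_1 lc_f_rc_23_1 lc_f_rc_30_1 lc_f_rc_15_1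 lc_f_rc_6_1 lc_f_rc_23_1 lc_f_rc_30_1 lc_f_rc_42_2 lc_f_rc_15_1 lc_f_rc_23_1 lc_f_rc_6_1 lc_f_rc_46_0 lc_f_rc_15_1 lc_f_rc_30_1 lc_f_rc_42_2 lc_f_rc_15_1 lc_f_rc_6_1 lc_f_rc_46_0 lc_f_rc_42_2 lc_f_rc_30_1 lc_f_rc_6_1 lc_f_rc_30_1) (@D3.rec (fun _ => (Cert rels S Gen.f)) lc_f_rc_46_2 lc_f_rc_42_2 lc_f_rc_30_1 lc_f_Cert_tree lc_f_rc_46_0 lc_f_rc_15_1 lc_f_rc_42_2 lc_f_rc_36_3 lc_f_rc_43_0 lc_f_rc_46_2 lc_f_rc_42_2 lc_f_rc_15_1 lc_f_rc_30_1 lc_f_rc_6_1 lc_f_rc_46_2 lc_f_rc_46_2 lc_f_rc_6_3 lc_f_rc_42_2 lc_f_rc_6_1 lc_f_rc_46_2 lc_f_rc_43_0 lc_f_rc_46_2 lc_f_rc_23_1 lc_f_rc_46_2 lc_f_rc_42_2 lc_f_rc_30_1 lc_f_rc_46_2 lc_f_rc_46_2 lc_f_rc_23_1 lc_f_rc_46_2 lc_f_rc_30_1 lc_f_rc_46_2 lc_f_rc_42_2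 lc_f_rc_23_1 lc_f_rc_23_1 lc_f_rc_30_1 lc_f_rc_46_2 lc_f_rc_46_2 lc_f_rc_15_1 lc_f_Cert_tree lc_f_rc_46_2 lc_f_rc_43_0 lc_f_rc_46_2 lc_f_rc_42_2 lc_f_rc_36_3 lc_f_rc_46_2 lc_f_rc_6_1 lc_f_rc_46_2 lc_f_rc_36_3 lc_f_rc_46_2 lc_f_rc_42_2) (@D3.rec (fun _ => (Cert rels S Gen.f)) lc_f_rc_15_3 lc_f_rc_46_2 lc_f_rc_42_2 lc_f_rc_6_1 lc_f_rc_15_3 lc_f_rc_23_1 lc_f_rc_36_3 lc_f_rc_46_2 lc_f_rc_15_1 lc_f_Cert_tree lc_f_rc_23_1 lc_f_rc_43_0 lc_f_rc_46_2 lc_f_rc_42_2 lc_f_rc_6_3 lc_f_rc_23_1 lc_f_rc_42_2 lc_f_Cert_tree lc_f_rc_15_1 lc_f_rc_43_0 lc_f_rc_46_2 lc_f_rc_42_2 lc_f_rc_44_2 lc_f_rc_46_2 lc_f_rc_42_2 lc_f_rc_46_2 lc_f_rc_15_1 lc_f_rc_23_1 lc_f_rc_46_2 lc_f_rc_42_2 lc_f_rc_30_1 lc_f_rc_44_2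 lc_f_rc_46_2 lc_f_rc_42_2 lc_f_rc_46_2 lc_f_rc_30_3 lc_f_rc_23_1 lc_f_rc_15_1 lc_f_rc_30_1 lc_f_rc_23_1 lc_f_rc_42_2 lc_f_rc_44_2 lc_f_rc_30_1 lc_f_rc_6_1 lc_f_rc_42_2 lc_f_rc_44_2 lc_f_rc_46_2 lc_f_rc_23_3 lc_f_rc_15_3 lc_f_rc_6_1 lc_f_rc_15_1) (@D3.rec (fun _ => (Cert rels S Gen.f)) lc_f_rc_30_1 lc_f_rc_36_1 lc_f_rc_42_0 lc_f_rc_45_2 lc_f_rc_46_2 lc_f_rc_36_3 lc_f_rc_46_2 lc_f_rc_46_2 lc_f_rc_42_2 lc_f_rc_36_3 lc_f_rc_46_2 lc_f_rc_15_1 lc_f_rc_42_0 lc_f_rc_23_1 lc_f_rc_36_3 lc_f_rc_42_2 lc_f_rc_30_1 lc_f_rc_30_1 lc_f_rc_42_2 lc_f_rc_6_1 lc_f_rc_15_1 lc_f_rc_42_2 lc_f_rc_46_2 lc_f_rc_15_1 lc_f_rc_30_1 lc_f_rc_6_1 lc_f_rc_15_1 lc_f_rc_42_2 lc_f_rc_36_3 lc_f_rc_15_1 lc_f_rc_6_3 lc_f_rc_6_1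 lc_f_rc_15_1 lc_f_rc_30_1 lc_f_rc_6_1 lc_f_rc_15_1 lc_f_rc_6_3 lc_f_rc_6_1 lc_f_rc_15_1 lc_f_rc_30_1 lc_f_rc_46_2 lc_f_rc_23_3 lc_f_rc_6_1 lc_f_rc_30_1 lc_f_rc_46_2 lc_f_rc_45_2 lc_f_rc_46_2 lc_f_rc_42_0 lc_f_rc_46_2 lc_f_rc_46_2 lc_f_rc_42_2) (@D3.rec (fun _ => (Cert rels S Gen.f)) lc_f_rc_23_1 lc_f_rc_42_2 lc_f_rc_46_2 lc_f_rc_6_3 lc_f_rc_46_2 lc_f_rc_23_1 lc_f_rc_42_2 lc_f_rc_23_1 lc_f_rc_6_1 lc_f_rc_6_1 lc_f_rc_23_1 lc_f_Cert_tree lc_f_rc_46_2 lc_f_rc_15_1 lc_f_Cert_tree lc_f_rc_23_1 lc_f_rc_43_0 lc_f_rc_46_2 lc_f_rc_42_2 lc_f_rc_15_1 lc_f_Cert_tree lc_f_rc_23_1 lc_f_rc_43_0 lc_f_rc_46_2 lc_f_rc_42_2 lc_f_rc_15_1 lc_f_rc_43_0 lc_f_rc_46_2 lc_f_rc_42_2 lc_f_rc_46_2 lc_f_rc_42_2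 lc_f_rc_15_1 lc_f_rc_15_1 lc_f_rc_30_1 lc_f_rc_46_2 lc_f_rc_6_1 lc_f_rc_6_1 lc_f_rc_15_1 lc_f_rc_23_1 lc_f_rc_23_1 lc_f_rc_6_1 lc_f_rc_42_2 lc_f_rc_6_1 lc_f_rc_15_1 lc_f_rc_15_1 lc_f_rc_30_1 lc_f_rc_23_1 lc_f_rc_42_2 lc_f_rc_6_1 lc_f_rc_56_47 lc_f_rc_15_1) (@D3.rec (fun _ => (Cert rels S Gen.f)) lc_f_rc_42_2 lc_f_rc_6_1 lc_f_rc_15_1 lc_f_rc_30_1 lc_f_rc_6_1 lc_f_rc_15_1 lc_f_rc_23_1 lc_f_rc_42_0 lc_f_rc_42_0 lc_f_rc_46_2 lc_f_rc_44_2 lc_f_rc_44_2 lc_f_rc_23_1 lc_f_rc_30_1 lc_f_rc_46_2 lc_f_rc_15_1 lc_f_Cert_tree lc_f_rc_23_1 lc_f_rc_43_0 lc_f_rc_46_2 lc_f_rc_42_2 lc_f_rc_15_1 lc_f_rc_23_1 lc_f_rc_42_2 lc_f_Cert_tree lc_f_rc_15_1 lc_f_rc_43_0 lc_f_rc_46_2 lc_f_rc_42_2 lc_f_rc_44_2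 lc_f_rc_46_2 lc_f_rc_42_2 lc_f_rc_46_2 lc_f_rc_15_1 lc_f_rc_46_2 lc_f_rc_30_1 lc_f_rc_56_40 lc_f_rc_46_2 lc_f_rc_42_2 lc_f_rc_44_2 lc_f_Cert_tree lc_f_rc_44_2 lc_f_rc_15_1 lc_f_Cert_tree lc_f_rc_23_1 lc_f_rc_43_0 lc_f_rc_46_2 lc_f_rc_42_2 lc_f_rc_6_1 lc_f_Cert_tree lc_f_rc_15_1) (@D3.rec (fun _ => (Cert rels S Gen.f)) lc_f_Cert_tree lc_f_rc_43_0 lc_f_rc_46_2 lc_f_rc_42_2 lc_f_rc_44_2 lc_f_rc_46_2 lc_f_rc_42_2 lc_f_rc_45_2 lc_f_Cert_tree lc_f_rc_15_1 lc_f_rc_43_0 lc_f_rc_46_2 lc_f_rc_42_2 lc_f_rc_46_2 lc_f_rc_42_2 lc_f_Cert_tree lc_f_rc_6_1 lc_f_rc_43_0 lc_f_rc_46_2 lc_f_rc_15_1 lc_f_rc_23_1 lc_f_rc_46_2 lc_f_rc_42_2 lc_f_rc_30_1 lc_f_rc_45_2 lc_f_rc_46_2 lc_f_rc_42_2 lc_f_rc_46_2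 lc_f_rc_6_1 lc_f_rc_15_1 lc_f_rc_46_2 lc_f_rc_42_2 lc_f_rc_15_1 lc_f_rc_23_1 lc_f_rc_23_1 lc_f_rc_42_2 lc_f_rc_30_1 lc_f_rc_15_1 lc_f_rc_46_2 lc_f_rc_42_2 lc_f_rc_46_2 lc_f_rc_44_2 lc_f_rc_15_1 lc_f_rc_15_1 lc_f_rc_30_1 lc_f_rc_23_1 lc_f_rc_42_2 lc_f_rc_36_3 lc_f_rc_6_1 lc_f_rc_15_1 lc_f_rc_15_1) (@D3.rec (fun _ => (Cert rels S Gen.f)) lc_f_rc_15_1 lc_f_rc_36_5 lc_f_rc_30_1 lc_f_rc_23_1 lc_f_rc_30_1 lc_f_rc_55_23 lc_f_rc_15_1 lc_f_rc_30_1 lc_f_rc_6_1 lc_f_rc_30_1 lc_f_Cert_tree lc_f_rc_15_1 lc_f_rc_23_1 lc_f_rc_6_1 lc_f_rc_36_3 lc_f_rc_30_1 lc_f_rc_30_3 lc_f_rc_6_1 lc_f_rc_46_2 lc_f_rc_23_1 lc_f_rc_6_1 lc_f_rc_46_2 lc_f_rc_23_1 lc_f_rc_23_1 lc_f_rc_46_2 lc_f_rc_46_2 lc_f_rc_23_1 lc_f_rc_23_1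 lc_f_rc_36_3 lc_f_rc_30_1 lc_f_rc_23_1 lc_f_rc_6_1 lc_f_rc_46_2 lc_f_rc_42_2 lc_f_rc_23_1 lc_f_rc_42_2 lc_f_rc_30_1 lc_f_rc_15_1 lc_f_rc_23_1 lc_f_rc_23_1 lc_f_rc_23_1 lc_f_rc_42_2 lc_f_rc_46_2 lc_f_rc_42_2 lc_f_rc_6_1 lc_f_rc_46_2 lc_f_rc_15_1 lc_f_rc_46_2 lc_f_rc_42_2 lc_f_rc_30_1 lc_f_rc_46_2) (@D3.rec (fun _ => (Cert rels S Gen.f)) lc_f_rc_42_2 lc_f_rc_42_2 lc_f_rc_36_3 lc_f_rc_6_1 lc_f_rc_30_1 lc_f_rc_6_1 lc_f_rc_15_1 lc_f_Cert_tree lc_f_rc_23_1 lc_f_rc_30_1 lc_f_rc_46_2 lc_f_rc_46_2 lc_f_rc_6_1 lc_f_rc_45_2 lc_f_rc_46_2 lc_f_rc_23_1 lc_f_rc_30_1 lc_f_rc_46_2 lc_f_rc_46_2 lc_f_rc_23_1 lc_f_rc_42_2 lc_f_rc_23_1 lc_f_rc_15_1 lc_f_rc_23_1 lc_f_rc_42_2 lc_f_rc_15_1 lc_f_rc_42_2 lc_f_rc_30_3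 lc_f_rc_30_3 lc_f_rc_30_1 lc_f_rc_23_1 lc_f_rc_36_3 lc_f_rc_46_2 lc_f_rc_23_1 lc_f_rc_42_2 lc_f_rc_15_1 lc_f_rc_23_1 lc_f_rc_46_2 lc_f_rc_36_3 lc_f_rc_46_2 lc_f_Cert_tree lc_f_rc_23_1 lc_f_rc_43_0 lc_f_rc_46_2 lc_f_rc_42_2 lc_f_rc_42_2 lc_f_rc_43_0 lc_f_rc_46_2 lc_f_rc_42_2 lc_f_rc_46_2 lc_f_rc_42_2) (@D3.rec (fun _ => (Cert rels S Gen.f)) lc_f_rc_6_1 lc_f_rc_15_1 lc_f_rc_15_1 lc_f_rc_23_1 lc_f_rc_30_1 lc_f_rc_30_1 lc_f_rc_23_1 lc_f_rc_42_2 lc_f_rc_36_3 lc_f_rc_30_1 lc_f_rc_23_1 lc_f_rc_15_1 lc_f_Cert_tree lc_f_rc_23_1 lc_f_rc_36_3 lc_f_rc_46_2 lc_f_rc_23_1 lc_f_rc_42_2 lc_f_rc_15_1 lc_f_rc_23_1 lc_f_rc_15_1 lc_f_rc_44_2 lc_f_rc_30_1 lc_f_rc_46_2 lc_f_rc_6_3 lc_f_rc_23_1 lc_f_rc_30_1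 lc_f_rc_42_2 lc_f_rc_42_2 lc_f_rc_42_2 lc_f_rc_6_1 lc_f_rc_15_1 lc_f_rc_30_1 lc_f_rc_30_1 lc_f_rc_42_2 lc_f_rc_42_2 lc_f_rc_6_1 lc_f_rc_30_1 lc_f_rc_6_1 lc_f_rc_15_1 lc_f_rc_15_1 lc_f_rc_15_1 lc_f_rc_36_3 lc_f_rc_23_1 lc_f_rc_36_3 lc_f_rc_42_2 lc_f_rc_15_1 lc_f_rc_42_2 lc_f_rc_46_2 lc_f_rc_15_1 lc_f_rc_23_1) (@D3.rec (fun _ => (Cert rels S Gen.f)) lc_f_rc_30_1 lc_f_rc_23_1 lc_f_Cert_tree lc_f_rc_30_1 lc_f_rc_15_1 lc_f_rc_30_1 lc_f_rc_23_1 lc_f_rc_36_3 lc_f_rc_42_2 lc_f_rc_6_1 lc_f_Cert_tree lc_f_rc_15_1 lc_f_rc_36_3 lc_f_rc_43_0 lc_f_rc_46_2 lc_f_rc_42_2 lc_f_rc_44_2 lc_f_rc_46_2 lc_f_rc_42_2 lc_f_rc_15_1 lc_f_rc_42_2 lc_f_rc_6_1 lc_f_rc_43_0 lc_f_rc_46_2 lc_f_rc_15_1 lc_f_rc_23_1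 lc_f_rc_46_2 lc_f_rc_42_2 lc_f_rc_30_1 lc_f_rc_45_2 lc_f_rc_46_2 lc_f_rc_42_2 lc_f_rc_46_2 lc_f_rc_6_1 lc_f_rc_46_2 lc_f_rc_42_2 lc_f_rc_15_1 lc_f_rc_23_1 lc_f_rc_42_2 lc_f_rc_23_1 lc_f_Cert_tree lc_f_rc_46_2 lc_f_rc_42_2 lc_f_rc_46_2 lc_f_rc_44_2 lc_f_rc_42_2 lc_f_rc_15_1 lc_f_rc_42_2 lc_f_rc_6_1 lc_f_rc_15_1 lc_f_rc_15_1) (@D3.rec (fun _ => (Cert rels S Gen.f)) lc_f_rc_15_1 lc_f_rc_42_2 lc_f_rc_30_1 lc_f_rc_23_1 lc_f_rc_30_1 lc_f_rc_15_1 lc_f_rc_30_1 lc_f_rc_6_1 lc_f_rc_30_1 lc_f_Cert_tree lc_f_rc_23_1 lc_f_rc_23_1 lc_f_rc_30_1 lc_f_rc_43_0 lc_f_rc_6_1 lc_f_rc_23_1 lc_f_rc_15_1 lc_f_rc_6_1 lc_f_rc_6_1 lc_f_rc_23_1 lc_f_rc_15_1 lc_f_rc_6_1 lc_f_rc_42_2 lc_f_rc_44_2 lc_f_rc_44_2 lc_f_rc_44_2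 lc_f_rc_42_2 lc_f_rc_45_2 lc_f_rc_46_2 lc_f_rc_36_3 lc_f_rc_42_2 lc_f_rc_42_2 lc_f_rc_6_3 lc_f_rc_30_1 lc_f_rc_44_2 lc_f_rc_44_2 lc_f_rc_36_3 lc_f_rc_46_2 lc_f_rc_43_0 lc_f_rc_46_2 lc_f_rc_42_2 lc_f_rc_46_2 lc_f_rc_42_2 lc_f_rc_46_2 lc_f_rc_42_2 lc_f_rc_44_2 lc_f_Cert_tree lc_f_rc_44_2 lc_f_rc_15_1 lc_f_Cert_tree lc_f_rc_23_1) (@D3.rec (fun _ => (Cert rels S Gen.f)) lc_f_rc_43_0 lc_f_rc_46_2 lc_f_rc_42_2 lc_f_Cert_tree lc_f_rc_15_1 lc_f_Cert_tree lc_f_rc_43_0 lc_f_rc_46_2 lc_f_rc_42_2 lc_f_rc_46_2 lc_f_rc_42_2 lc_f_Cert_tree lc_f_rc_15_1 lc_f_rc_43_0 lc_f_rc_46_2 lc_f_rc_42_2 lc_f_rc_44_2 lc_f_rc_46_2 lc_f_rc_42_2 lc_f_rc_43_0 lc_f_rc_46_2 lc_f_rc_15_1 lc_f_rc_46_2 lc_f_rc_42_2 lc_f_rc_42_2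 lc_f_rc_6_1 lc_f_rc_30_1 lc_f_rc_44_2 lc_f_rc_44_2 lc_f_rc_15_1 lc_f_rc_30_1 lc_f_rc_23_1 lc_f_rc_6_1 lc_f_rc_15_1 lc_f_rc_15_1 lc_f_rc_30_1 lc_f_rc_42_2 lc_f_rc_6_1 lc_f_rc_6_1 lc_f_rc_23_1 lc_f_rc_30_1 lc_f_rc_30_1 lc_f_rc_36_3 lc_f_rc_46_2 lc_f_rc_36_3 lc_f_rc_42_2 lc_f_rc_42_2 lc_f_rc_30_1 lc_f_Cert_tree lc_f_rc_30_1 lc_f_rc_15_1) (@D3.rec (fun _ => (Cert rels S Gen.f)) lc_f_rc_30_1 lc_f_rc_23_1 lc_f_rc_36_3 lc_f_rc_42_2 lc_f_rc_6_1 lc_f_rc_44_4 lc_f_rc_15_1 lc_f_rc_36_3 lc_f_rc_36_3 lc_f_rc_42_2 lc_f_rc_36_3 lc_f_rc_30_1 lc_f_rc_15_1 lc_f_rc_42_2 lc_f_rc_6_1 lc_f_rc_15_1 lc_f_rc_46_0 lc_f_rc_23_1 lc_f_rc_15_1 lc_f_rc_42_2 lc_f_rc_6_1 lc_f_rc_15_1 lc_f_rc_15_1 lc_f_rc_42_2 lc_f_rc_30_1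 lc_f_rc_42_2 lc_f_rc_15_1 lc_f_rc_56_33 lc_f_rc_23_1 lc_f_rc_46_2 lc_f_rc_42_2 lc_f_rc_42_2 lc_f_Cert_tree lc_f_rc_44_2 lc_f_rc_15_1 lc_f_rc_42_2 lc_f_rc_23_1 lc_f_rc_46_2 lc_f_rc_42_2 lc_f_rc_6_1 lc_f_Cert_tree lc_f_rc_15_1 lc_f_Cert_tree lc_f_rc_43_0 lc_f_rc_46_2 lc_f_rc_42_2 lc_f_rc_36_3 lc_f_rc_46_2 lc_f_rc_42_2 lc_f_rc_30_1 lc_f_rc_36_3) (@D3.rec (fun _ => (Cert rels S Gen.f)) lc_f_rc_15_1 lc_f_rc_46_2 lc_f_rc_42_2 lc_f_rc_46_2 lc_f_rc_6_1 lc_f_rc_43_0 lc_f_rc_46_2 lc_f_rc_15_1 lc_f_rc_23_1 lc_f_rc_46_2 lc_f_rc_42_2 lc_f_rc_45_2 lc_f_rc_46_2 lc_f_rc_42_2 lc_f_rc_6_1 lc_f_rc_46_2 lc_f_rc_23_1 lc_f_rc_23_1 lc_f_rc_42_2 lc_f_rc_30_1 lc_f_rc_46_2 lc_f_rc_42_2 lc_f_Cert_tree lc_f_rc_30_1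 lc_f_rc_43_0 lc_f_rc_46_2 lc_f_rc_42_2 lc_f_Cert_tree lc_f_rc_15_1 lc_f_rc_45_2 lc_f_rc_43_0 lc_f_rc_46_2 lc_f_rc_42_2 lc_f_rc_44_2 lc_f_rc_46_2 lc_f_rc_42_2 lc_f_Cert_tree lc_f_rc_6_1 lc_f_Cert_tree lc_f_rc_43_0 lc_f_rc_46_2 lc_f_rc_15_1 lc_f_rc_43_0 lc_f_rc_43_1 lc_f_rc_46_2 lc_f_rc_23_1 lc_f_rc_46_2 lc_f_rc_42_2 lc_f_rc_30_1 lc_f_rc_45_2 lc_f_rc_44_2)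
def ce_f_13 : D2 → D3 → (Cert rels S Gen.f) := @D2.rec (fun _ => D3 → (Cert rels S Gen.f)) (@D3.rec (fun _ => (Cert rels S Gen.f)) lc_f_rc_42_2 lc_f_rc_30_1 lc_f_Cert_tree lc_f_rc_30_1 lc_f_rc_43_0 lc_f_rc_46_2 lc_f_rc_15_1 lc_f_rc_46_2 lc_f_rc_42_2 lc_f_rc_30_1 lc_f_rc_30_1 lc_f_rc_30_1 lc_f_rc_42_2 lc_f_rc_43_0 lc_f_rc_46_2 lc_f_rc_6_1 lc_f_rc_15_1 lc_f_rc_46_2 lc_f_rc_42_2 lc_f_rc_30_1 lc_f_rc_23_1 lc_f_rc_23_1 lc_f_rc_42_2 lc_f_rc_30_1 lc_f_Cert_tree lc_f_rc_46_2 lc_f_rc_42_2 lc_f_rc_46_0 lc_f_rc_6_1 lc_f_rc_15_1 lc_f_rc_42_2 lc_f_rc_30_1 lc_f_rc_23_1 lc_f_rc_42_2 lc_f_rc_30_1 lc_f_rc_15_1 lc_f_rc_42_2 lc_f_rc_23_1 lc_f_rc_46_2 lc_f_rc_30_1 lc_f_rc_46_2 lc_f_rc_36_5 lc_f_Cert_tree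 lc_f_Cert_tree lc_f_rc_43_0 lc_f_rc_42_2 lc_f_rc_23_1 lc_f_rc_42_2 lc_f_rc_46_2 lc_f_rc_6_1 lc_f_rc_23_1) (@D3.rec (fun _ => (Cert rels S Gen.f)) lc_f_rc_23_1 lc_f_rc_30_1 lc_f_rc_42_2 lc_f_rc_6_1 lc_f_rc_15_1 lc_f_rc_15_1 lc_f_rc_23_1 lc_f_rc_23_1 lc_f_rc_23_1 lc_f_rc_36_3 lc_f_rc_46_2 lc_f_rc_15_1 lc_f_rc_30_1 lc_f_rc_46_2 lc_f_rc_6_1 lc_f_rc_30_1 lc_f_rc_15_1 lc_f_rc_30_1 lc_f_rc_30_1 lc_f_rc_42_2 lc_f_rc_46_2 lc_f_rc_43_0 lc_f_rc_43_0 lc_f_rc_45_2 lc_f_rc_45_0 lc_f_rc_6_1 lc_f_rc_23_1 lc_f_rc_42_2 lc_f_rc_43_0 lc_f_rc_30_1 lc_f_rc_30_1 lc_f_rc_6_1 lc_f_rc_30_1 lc_f_rc_45_2 lc_f_rc_36_1 lc_f_Cert_tree lc_f_rc_46_2 lc_f_rc_23_1 lc_f_rc_46_2 lc_f_rc_42_2 lc_f_rc_46_2 lc_f_rc_23_1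 lc_f_rc_15_1 lc_f_rc_15_1 lc_f_rc_46_2 lc_f_rc_42_2 lc_f_rc_30_1 lc_f_rc_15_1 lc_f_rc_42_2 lc_f_Cert_tree lc_f_rc_43_0) (@D3.rec (fun _ => (Cert rels S Gen.f)) lc_f_rc_44_2 lc_f_rc_30_1 lc_f_rc_6_1 lc_f_rc_6_1 lc_f_rc_23_1 lc_f_rc_15_1 lc_f_rc_44_2 lc_f_rc_44_2 lc_f_rc_6_1 lc_f_rc_43_0 lc_f_rc_43_0 lc_f_rc_6_1 lc_f_rc_15_1 lc_f_rc_30_1 lc_f_rc_45_2 lc_f_rc_15_1 lc_f_rc_30_1 lc_f_rc_6_1 lc_f_rc_30_1 lc_f_Cert_tree lc_f_rc_15_1 lc_f_rc_46_2 lc_f_rc_42_2 lc_f_Cert_tree lc_f_Cert_tree lc_f_rc_43_0 lc_f_rc_43_0 lc_f_rc_15_1 lc_f_rc_46_2 lc_f_rc_42_2 lc_f_rc_30_1 lc_f_rc_42_2 lc_f_rc_46_2 lc_f_rc_46_2 lc_f_rc_42_2 lc_f_rc_23_1 lc_f_rc_42_2 lc_f_rc_30_1 lc_f_Cert_tree lc_f_rc_36_3 lc_f_rc_30_1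 lc_f_rc_23_1 lc_f_rc_43_0 lc_f_rc_46_2 lc_f_rc_42_2 lc_f_rc_30_1 lc_f_rc_46_2 lc_f_rc_42_2 lc_f_rc_15_1 lc_f_rc_42_2 lc_f_rc_30_1) (@D3.rec (fun _ => (Cert rels S Gen.f)) lc_f_rc_23_1 lc_f_rc_42_2 lc_f_rc_30_1 lc_f_Cert_tree lc_f_rc_43_0 lc_f_rc_6_1 lc_f_rc_42_2 lc_f_rc_30_3 lc_f_rc_15_1 lc_f_rc_30_1 lc_f_rc_23_1 lc_f_rc_30_1 lc_f_rc_46_2 lc_f_rc_42_2 lc_f_rc_23_1 lc_f_rc_42_2 lc_f_rc_15_1 lc_f_rc_23_1 lc_f_rc_46_2 lc_f_rc_30_1 lc_f_rc_23_1 lc_f_rc_23_1 lc_f_rc_15_1 lc_f_rc_30_1 lc_f_rc_44_2 lc_f_rc_42_2 lc_f_rc_45_2 lc_f_rc_6_1 lc_f_rc_30_1 lc_f_rc_45_2 lc_f_rc_42_2 lc_f_rc_6_1 lc_f_rc_30_1 lc_f_rc_46_2 lc_f_rc_44_2 lc_f_rc_30_1 lc_f_rc_45_2 lc_f_rc_46_2 lc_f_rc_42_2 lc_f_rc_46_2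 lc_f_rc_42_2 lc_f_rc_42_2 lc_f_rc_44_2 lc_f_rc_23_1 lc_f_rc_36_3 lc_f_rc_15_1 lc_f_rc_6_1 lc_f_rc_15_1 lc_f_rc_46_2 lc_f_rc_23_1 lc_f_rc_15_3) (@D3.rec (fun _ => (Cert rels S Gen.f)) lc_f_rc_6_1 lc_f_rc_15_1 lc_f_rc_23_1 lc_f_rc_36_1 lc_f_rc_46_2 lc_f_rc_45_0 lc_f_rc_6_3 lc_f_rc_23_1 lc_f_rc_46_2 lc_f_rc_30_1 lc_f_rc_42_2 lc_f_rc_46_2 lc_f_rc_36_3 lc_f_rc_15_1 lc_f_rc_6_1 lc_f_rc_6_1 lc_f_rc_42_2 lc_f_rc_46_2 lc_f_rc_23_3 lc_f_rc_46_2 lc_f_rc_6_3 lc_f_rc_23_1 lc_f_rc_44_2 lc_f_rc_46_2 lc_f_rc_42_2 lc_f_rc_46_2 lc_f_rc_42_2 lc_f_rc_30_1 lc_f_rc_30_1 lc_f_rc_46_2 lc_f_Cert_tree lc_f_rc_46_2 lc_f_rc_42_2 lc_f_rc_23_1 lc_f_rc_46_2 lc_f_rc_46_2 lc_f_rc_45_2 lc_f_rc_46_2 lc_f_rc_23_1 lc_f_Cert_tree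 lc_f_rc_46_2 lc_f_Cert_tree lc_f_rc_46_2 lc_f_rc_44_2 lc_f_Cert_tree lc_f_rc_23_1 lc_f_rc_43_0 lc_f_rc_46_2 lc_f_rc_42_2 lc_f_rc_30_1 lc_f_rc_15_1) (@D3.rec (fun _ => (Cert rels S Gen.f)) lc_f_rc_46_2 lc_f_rc_23_1 lc_f_rc_23_1 lc_f_rc_36_1 lc_f_rc_43_0 lc_f_rc_46_2 lc_f_rc_46_2 lc_f_rc_42_2 lc_f_rc_30_1 lc_f_rc_23_1 lc_f_rc_44_2 lc_f_rc_46_2 lc_f_rc_46_2 lc_f_rc_6_3 lc_f_rc_46_2 lc_f_rc_46_2 lc_f_rc_30_1 lc_f_rc_46_2 lc_f_rc_46_2 lc_f_rc_30_1 lc_f_rc_15_1 lc_f_rc_6_1 lc_f_rc_30_3 lc_f_rc_46_2 lc_f_rc_42_2 lc_f_rc_23_1 lc_f_rc_46_2 lc_f_rc_42_2 lc_f_rc_44_2 lc_f_rc_6_3 lc_f_rc_6_1 lc_f_rc_42_2 lc_f_rc_45_2 lc_f_rc_46_2 lc_f_Cert_tree lc_f_rc_46_2 lc_f_rc_46_2 lc_f_rc_43_0 lc_f_rc_46_2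 lc_f_rc_42_2 lc_f_rc_44_2 lc_f_rc_46_2 lc_f_rc_42_2 lc_f_rc_6_1 lc_f_rc_46_2 lc_f_rc_30_1 lc_f_rc_23_1 lc_f_rc_43_0 lc_f_rc_46_2 lc_f_rc_42_2 lc_f_rc_42_2) (@D3.rec (fun _ => (Cert rels S Gen.f)) lc_f_rc_42_2 lc_f_rc_44_2 lc_f_rc_46_2 lc_f_rc_42_2 lc_f_rc_15_1 lc_f_rc_15_3 lc_f_rc_46_2 lc_f_rc_42_2 lc_f_rc_45_2 lc_f_rc_46_2 lc_f_rc_42_2 lc_f_rc_30_1 lc_f_rc_45_2 lc_f_rc_46_2 lc_f_rc_42_2 lc_f_rc_30_1 lc_f_rc_46_2 lc_f_rc_42_2 lc_f_rc_30_1 lc_f_rc_23_1 lc_f_rc_36_3 lc_f_rc_30_1 lc_f_rc_46_2 lc_f_rc_42_2 lc_f_rc_45_2 lc_f_rc_46_2 lc_f_rc_23_1 lc_f_Cert_tree lc_f_rc_46_2 lc_f_rc_23_1 lc_f_Cert_tree lc_f_rc_46_2 lc_f_rc_23_1 lc_f_rc_43_0 lc_f_rc_46_2 lc_f_rc_42_2 lc_f_rc_6_1 lc_f_rc_6_1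 lc_f_rc_44_2 lc_f_rc_44_2 lc_f_rc_23_1 lc_f_Cert_tree lc_f_rc_46_2 lc_f_rc_15_1 lc_f_Cert_tree lc_f_rc_23_1 lc_f_rc_43_0 lc_f_rc_46_2 lc_f_rc_42_2 lc_f_Cert_tree lc_f_rc_23_1) (@D3.rec (fun _ => (Cert rels S Gen.f)) lc_f_rc_43_0 lc_f_rc_46_2 lc_f_rc_42_2 lc_f_rc_15_1 lc_f_rc_43_0 lc_f_rc_46_2 lc_f_rc_42_2 lc_f_rc_46_2 lc_f_rc_42_2 lc_f_rc_15_1 lc_f_rc_6_1 lc_f_rc_30_1 lc_f_rc_30_1 lc_f_rc_44_2 lc_f_rc_46_2 lc_f_rc_42_2 lc_f_rc_42_2 lc_f_rc_30_1 lc_f_rc_36_5 lc_f_rc_23_1 lc_f_rc_42_2 lc_f_rc_15_1 lc_f_rc_15_1 lc_f_rc_30_1 lc_f_rc_23_1 lc_f_rc_42_2 lc_f_rc_36_3 lc_f_rc_42_2 lc_f_rc_15_1 lc_f_rc_30_1 lc_f_rc_6_1 lc_f_rc_15_1 lc_f_rc_36_3 lc_f_rc_42_2 lc_f_rc_15_1 lc_f_rc_15_1 lc_f_rc_23_1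 lc_f_rc_30_1 lc_f_rc_45_2 lc_f_rc_30_1 lc_f_rc_15_3 lc_f_rc_45_2 lc_f_rc_30_1 lc_f_rc_46_2 lc_f_rc_45_2 lc_f_rc_46_2 lc_f_rc_46_2 lc_f_rc_30_1 lc_f_rc_6_1 lc_f_rc_45_2 lc_f_rc_46_2) (@D3.rec (fun _ => (Cert rels S Gen.f)) lc_f_rc_23_1 lc_f_Cert_tree lc_f_rc_46_2 lc_f_rc_23_1 lc_f_rc_46_2 lc_f_rc_23_1 lc_f_rc_43_0 lc_f_rc_46_2 lc_f_rc_42_2 lc_f_rc_15_1 lc_f_rc_15_3 lc_f_rc_46_2 lc_f_rc_42_2 lc_f_rc_23_1 lc_f_rc_30_1 lc_f_rc_6_1 lc_f_rc_45_2 lc_f_rc_46_2 lc_f_rc_23_1 lc_f_Cert_tree lc_f_rc_46_2 lc_f_rc_46_2 lc_f_rc_23_1 lc_f_rc_43_0 lc_f_rc_46_2 lc_f_rc_42_2 lc_f_rc_23_1 lc_f_rc_6_3 lc_f_rc_6_1 lc_f_rc_6_1 lc_f_rc_36_3 lc_f_rc_46_2 lc_f_rc_45_0 lc_f_rc_23_1 lc_f_rc_43_0 lc_f_rc_46_2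 lc_f_rc_42_2 lc_f_rc_42_2 lc_f_rc_42_2 lc_f_rc_44_2 lc_f_rc_46_2 lc_f_rc_42_2 lc_f_rc_30_1 lc_f_rc_45_2 lc_f_rc_46_2 lc_f_rc_42_2 lc_f_rc_30_1 lc_f_rc_45_2 lc_f_rc_46_2 lc_f_rc_42_2 lc_f_rc_30_1) (@D3.rec (fun _ => (Cert rels S Gen.f)) lc_f_rc_46_2 lc_f_rc_42_2 lc_f_rc_30_1 lc_f_rc_15_3 lc_f_rc_42_2 lc_f_rc_30_1 lc_f_rc_30_1 lc_f_rc_46_2 lc_f_rc_23_1 lc_f_Cert_tree lc_f_rc_30_1 lc_f_rc_44_2 lc_f_rc_44_2 lc_f_rc_23_1 lc_f_Cert_tree lc_f_rc_46_2 lc_f_rc_15_1 lc_f_Cert_tree lc_f_rc_23_1 lc_f_rc_43_0 lc_f_rc_46_2 lc_f_rc_42_2 lc_f_rc_15_1 lc_f_rc_23_1 lc_f_rc_43_0 lc_f_rc_46_2 lc_f_rc_42_2 lc_f_rc_15_1 lc_f_rc_43_0 lc_f_rc_46_2 lc_f_rc_42_2 lc_f_rc_44_2 lc_f_rc_46_2 lc_f_rc_42_2 lc_f_rc_15_1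 lc_f_rc_46_2 lc_f_rc_30_1 lc_f_rc_45_2 lc_f_rc_46_2 lc_f_rc_42_2 lc_f_rc_30_1 lc_f_Cert_tree lc_f_rc_44_2 lc_f_rc_15_1 lc_f_rc_36_3 lc_f_rc_23_1 lc_f_rc_43_0 lc_f_rc_46_2 lc_f_rc_42_2 lc_f_rc_6_1 lc_f_Cert_tree) (@D3.rec (fun _ => (Cert rels S Gen.f)) lc_f_rc_15_1 lc_f_rc_30_3 lc_f_rc_43_0 lc_f_rc_46_2 lc_f_rc_42_2 lc_f_rc_44_2 lc_f_rc_46_2 lc_f_rc_42_2 lc_f_rc_6_1 lc_f_rc_15_1 lc_f_rc_42_2 lc_f_rc_44_2 lc_f_rc_46_2 lc_f_rc_42_2 lc_f_rc_6_1 lc_f_rc_43_0 lc_f_rc_46_2 lc_f_rc_15_1 lc_f_rc_23_1 lc_f_rc_46_2 lc_f_rc_42_2 lc_f_rc_30_1 lc_f_rc_45_2 lc_f_rc_46_2 lc_f_rc_42_2 lc_f_rc_30_1 lc_f_rc_6_1 lc_f_rc_6_1 lc_f_rc_15_1 lc_f_rc_23_1 lc_f_rc_23_1 lc_f_rc_42_2 lc_f_Cert_tree lc_f_rc_46_2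 lc_f_rc_42_2 lc_f_rc_30_1 lc_f_rc_23_1 lc_f_rc_44_2 lc_f_rc_44_2 lc_f_rc_42_2 lc_f_rc_30_1 lc_f_rc_46_2 lc_f_rc_42_2 lc_f_rc_30_1 lc_f_rc_23_1 lc_f_rc_42_2 lc_f_rc_30_1 lc_f_rc_23_1 lc_f_rc_6_1 lc_f_rc_6_1 lc_f_rc_15_1) (@D3.rec (fun _ => (Cert rels S Gen.f)) lc_f_rc_42_2 lc_f_rc_36_3 lc_f_rc_6_1 lc_f_rc_30_1 lc_f_rc_15_1 lc_f_rc_15_1 lc_f_rc_36_1 lc_f_rc_30_1 lc_f_rc_6_1 lc_f_rc_30_1 lc_f_rc_6_1 lc_f_rc_15_1 lc_f_rc_30_1 lc_f_rc_6_1 lc_f_rc_30_1 lc_f_Cert_tree lc_f_rc_36_1 lc_f_rc_43_0 lc_f_rc_6_1 lc_f_rc_15_1 lc_f_rc_30_1 lc_f_rc_46_2 lc_f_rc_6_1 lc_f_rc_23_3 lc_f_rc_30_1 lc_f_rc_6_1 lc_f_rc_30_1 lc_f_rc_45_2 lc_f_rc_42_2 lc_f_rc_6_1 lc_f_rc_23_3 lc_f_rc_30_1 lc_f_rc_23_1 lc_f_rc_15_1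 lc_f_rc_45_2 lc_f_rc_44_2 lc_f_rc_46_2 lc_f_rc_30_1 lc_f_rc_44_2 lc_f_rc_6_1 lc_f_rc_42_2 lc_f_rc_6_3 lc_f_rc_6_1 lc_f_rc_45_2 lc_f_rc_30_1 lc_f_rc_46_2 lc_f_rc_46_2 lc_f_rc_46_2 lc_f_rc_23_1 lc_f_rc_46_2 lc_f_rc_6_1) (@D3.rec (fun _ => (Cert rels S Gen.f)) lc_f_rc_6_3 lc_f_rc_23_1 lc_f_rc_46_2 lc_f_rc_15_1 lc_f_rc_23_1 lc_f_rc_43_0 lc_f_rc_46_2 lc_f_rc_46_2 lc_f_rc_46_2 lc_f_rc_46_2 lc_f_rc_42_2 lc_f_rc_6_3 lc_f_rc_23_1 lc_f_rc_46_2 lc_f_rc_42_2 lc_f_rc_42_2 lc_f_rc_30_1 lc_f_rc_42_2 lc_f_rc_30_1 lc_f_rc_30_1 lc_f_rc_46_2 lc_f_rc_46_2 lc_f_rc_15_1 lc_f_rc_23_1 lc_f_rc_36_1 lc_f_rc_42_2 lc_f_rc_42_2 lc_f_rc_23_1 lc_f_rc_46_2 lc_f_rc_15_1 lc_f_rc_45_0 lc_f_rc_23_1 lc_f_rc_46_2 lc_f_rc_6_1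 lc_f_rc_46_2 lc_f_rc_46_2 lc_f_rc_46_2 lc_f_rc_43_0 lc_f_rc_46_2 lc_f_rc_42_2 lc_f_rc_46_2 lc_f_rc_23_1 lc_f_rc_23_1 lc_f_rc_36_3 lc_f_rc_46_2 lc_f_rc_42_2 lc_f_rc_30_1 lc_f_rc_15_1 lc_f_rc_42_2 lc_f_rc_15_1 lc_f_rc_30_1) (@D3.rec (fun _ => (Cert rels S Gen.f)) lc_f_rc_46_2 lc_f_rc_46_2 lc_f_rc_45_2 lc_f_rc_15_1 lc_f_rc_42_2 lc_f_rc_15_1 lc_f_rc_46_2 lc_f_rc_23_1 lc_f_rc_46_2 lc_f_rc_42_2 lc_f_rc_23_1 lc_f_rc_42_2 lc_f_rc_15_1 lc_f_rc_15_1 lc_f_rc_15_1 lc_f_rc_15_1 lc_f_rc_6_1 lc_f_rc_46_2 lc_f_rc_15_1 lc_f_rc_46_2 lc_f_rc_42_2 lc_f_rc_30_1 lc_f_rc_46_2 lc_f_rc_42_2 lc_f_rc_30_1 lc_f_rc_30_1 lc_f_rc_30_1 lc_f_rc_23_1 lc_f_rc_42_0 lc_f_rc_6_1 lc_f_rc_15_1 lc_f_rc_15_1 lc_f_rc_6_1 lc_f_rc_23_1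 lc_f_rc_46_2 lc_f_rc_42_2 lc_f_rc_42_2 lc_f_rc_42_2 lc_f_rc_6_1 lc_f_rc_23_1 lc_f_rc_44_2 lc_f_rc_45_2 lc_f_rc_30_1 lc_f_rc_46_2 lc_f_rc_45_2 lc_f_rc_46_2 lc_f_rc_46_2 lc_f_rc_36_1 lc_f_rc_45_2 lc_f_rc_30_1 lc_f_rc_46_2) (@D3.rec (fun _ => (Cert rels S Gen.f)) lc_f_rc_45_2 lc_f_rc_46_2 lc_f_rc_23_1 lc_f_Cert_tree lc_f_rc_46_2 lc_f_rc_46_2 lc_f_rc_46_2 lc_f_rc_6_1 lc_f_rc_30_3 lc_f_rc_45_2 lc_f_rc_46_2 lc_f_rc_23_1 lc_f_Cert_tree lc_f_rc_46_2 lc_f_rc_46_2 lc_f_rc_23_1 lc_f_rc_43_0 lc_f_rc_46_2 lc_f_rc_42_2 lc_f_rc_46_2 lc_f_rc_23_1 lc_f_rc_36_3 lc_f_rc_46_2 lc_f_rc_42_2 lc_f_rc_30_1 lc_f_rc_42_2 lc_f_rc_23_1 lc_f_rc_42_2 lc_f_rc_42_2 lc_f_rc_30_1 lc_f_rc_30_1 lc_f_rc_46_2 lc_f_rc_45_2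 lc_f_rc_46_2 lc_f_rc_23_1 lc_f_Cert_tree lc_f_rc_46_2 lc_f_rc_46_2 lc_f_rc_15_1 lc_f_rc_23_1 lc_f_rc_43_0 lc_f_rc_46_2 lc_f_rc_42_2 lc_f_rc_15_1 lc_f_rc_46_2 lc_f_rc_23_1 lc_f_rc_44_2 lc_f_rc_46_2 lc_f_rc_42_2 lc_f_rc_6_3 lc_f_rc_42_2) (@D3.rec (fun _ => (Cert rels S Gen.f)) lc_f_rc_36_3 lc_f_rc_46_2 lc_f_rc_15_1 lc_f_rc_36_3 lc_f_rc_23_1 lc_f_rc_43_0 lc_f_rc_46_2 lc_f_rc_42_2 lc_f_rc_42_2 lc_f_rc_15_1 lc_f_rc_42_2 lc_f_rc_44_2 lc_f_rc_46_2 lc_f_rc_42_2 lc_f_rc_6_1 lc_f_rc_46_2 lc_f_rc_15_1 lc_f_rc_44_2 lc_f_rc_46_2 lc_f_rc_42_2 lc_f_rc_30_1 lc_f_rc_46_2 lc_f_rc_42_2 lc_f_rc_30_1 lc_f_rc_46_2 lc_f_rc_42_2 lc_f_rc_30_1 lc_f_rc_42_2 lc_f_rc_30_1 lc_f_rc_23_1 lc_f_rc_36_3 lc_f_rc_42_2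 lc_f_rc_15_1 lc_f_rc_30_1 lc_f_rc_36_3 lc_f_rc_42_2 lc_f_rc_30_1 lc_f_rc_15_1 lc_f_rc_30_1 lc_f_rc_15_1 lc_f_rc_15_1 lc_f_rc_6_1 lc_f_rc_36_3 lc_f_rc_15_1 lc_f_rc_6_1 lc_f_rc_30_1 lc_f_rc_46_2 lc_f_rc_42_2 lc_f_rc_46_2 lc_f_rc_46_2 lc_f_rc_45_2) (@D3.rec (fun _ => (Cert rels S Gen.f)) lc_f_rc_46_2 lc_f_rc_23_1 lc_f_rc_30_3 lc_f_rc_46_2 lc_f_rc_46_2 lc_f_rc_15_1 lc_f_rc_23_1 lc_f_rc_42_2 lc_f_rc_15_1 lc_f_rc_23_1 lc_f_rc_36_3 lc_f_rc_30_1 lc_f_rc_46_2 lc_f_rc_45_2 lc_f_rc_46_2 lc_f_rc_23_1 lc_f_Cert_tree lc_f_rc_46_2 lc_f_rc_23_1 lc_f_rc_46_2 lc_f_rc_15_1 lc_f_Cert_tree lc_f_rc_23_1 lc_f_rc_43_0 lc_f_rc_46_2 lc_f_rc_42_2 lc_f_rc_15_1 lc_f_rc_23_1 lc_f_rc_23_1 lc_f_rc_46_2 lc_f_rc_44_2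 lc_f_rc_46_2 lc_f_rc_23_1 lc_f_Cert_tree lc_f_rc_46_2 lc_f_rc_15_1 lc_f_Cert_tree lc_f_rc_23_1 lc_f_rc_43_0 lc_f_rc_46_2 lc_f_rc_42_2 lc_f_rc_23_1 lc_f_rc_43_0 lc_f_rc_46_2 lc_f_rc_42_2 lc_f_rc_6_1 lc_f_rc_15_1 lc_f_rc_43_0 lc_f_rc_46_2 lc_f_rc_42_2 lc_f_rc_46_2) (@D3.rec (fun _ => (Cert rels S Gen.f)) lc_f_rc_42_2 lc_f_rc_6_1 lc_f_rc_15_1 lc_f_rc_15_1 lc_f_rc_23_1 lc_f_rc_30_1 lc_f_rc_42_2 lc_f_rc_44_2 lc_f_rc_46_2 lc_f_rc_42_2 lc_f_rc_42_2 lc_f_rc_30_1 lc_f_rc_23_1 lc_f_rc_15_1 lc_f_rc_23_1 lc_f_rc_6_1 lc_f_rc_42_2 lc_f_rc_15_1 lc_f_rc_42_2 lc_f_rc_36_3 lc_f_rc_15_1 lc_f_rc_42_2 lc_f_rc_44_2 lc_f_rc_15_1 lc_f_rc_30_1 lc_f_rc_6_1 lc_f_rc_15_1 lc_f_rc_30_3 lc_f_rc_30_1 lc_f_rc_46_2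 lc_f_rc_23_1 lc_f_Cert_tree lc_f_rc_30_1 lc_f_rc_44_2 lc_f_rc_30_3 lc_f_rc_23_1 lc_f_Cert_tree lc_f_rc_46_2 lc_f_rc_15_1 lc_f_Cert_tree lc_f_rc_23_1 lc_f_rc_43_0 lc_f_rc_46_2 lc_f_rc_42_2 lc_f_rc_23_1 lc_f_rc_43_0 lc_f_rc_46_2 lc_f_rc_42_2 lc_f_rc_15_1 lc_f_rc_43_0 lc_f_rc_46_2) (@D3.rec (fun _ => (Cert rels S Gen.f)) lc_f_rc_42_2 lc_f_rc_44_2 lc_f_rc_46_2 lc_f_rc_42_2 lc_f_rc_15_1 lc_f_rc_46_2 lc_f_rc_30_1 lc_f_rc_46_2 lc_f_rc_42_2 lc_f_rc_30_1 lc_f_Cert_tree lc_f_rc_46_2 lc_f_Cert_tree lc_f_rc_23_1 lc_f_rc_43_0 lc_f_rc_46_2 lc_f_rc_42_2 lc_f_rc_6_1 lc_f_Cert_tree lc_f_rc_15_1 lc_f_Cert_tree lc_f_rc_43_0 lc_f_rc_46_2 lc_f_rc_42_2 lc_f_rc_44_2 lc_f_rc_46_2 lc_f_rc_42_2 lc_f_rc_43_0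 lc_f_rc_46_2 lc_f_rc_42_2 lc_f_rc_46_2 lc_f_rc_42_2 lc_f_rc_6_1 lc_f_rc_43_0 lc_f_rc_46_2 lc_f_rc_15_1 lc_f_rc_23_1 lc_f_rc_46_2 lc_f_rc_42_2 lc_f_rc_30_1 lc_f_rc_45_2 lc_f_rc_46_2 lc_f_rc_42_2 lc_f_rc_30_1 lc_f_rc_6_1 lc_f_rc_46_2 lc_f_rc_15_1 lc_f_rc_23_1 lc_f_rc_42_2 lc_f_rc_30_1 lc_f_Cert_tree) (@D3.rec (fun _ => (Cert rels S Gen.f)) lc_f_rc_46_2 lc_f_rc_42_2 lc_f_rc_30_1 lc_f_rc_23_1 lc_f_rc_42_2 lc_f_rc_30_1 lc_f_rc_46_2 lc_f_rc_42_2 lc_f_rc_30_1 lc_f_rc_23_1 lc_f_rc_30_1 lc_f_rc_23_1 lc_f_rc_15_1 lc_f_rc_30_1 lc_f_rc_23_1 lc_f_rc_42_2 lc_f_rc_36_3 lc_f_rc_6_1 lc_f_rc_6_1 lc_f_rc_15_1 lc_f_rc_15_1 lc_f_rc_15_1 lc_f_rc_42_2 lc_f_rc_30_1 lc_f_rc_36_3 lc_f_rc_30_1 lc_f_rc_30_1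 lc_f_rc_30_1 lc_f_rc_6_1 lc_f_rc_30_1 lc_f_Cert_tree lc_f_rc_6_1 lc_f_rc_6_1 lc_f_rc_15_1 lc_f_rc_46_2 lc_f_rc_42_2 lc_f_rc_42_2 lc_f_rc_44_2 lc_f_rc_45_2 lc_f_rc_46_2 lc_f_rc_23_1 lc_f_rc_42_2 lc_f_rc_46_2 lc_f_rc_42_2 lc_f_rc_46_2 lc_f_rc_23_1 lc_f_rc_42_2 lc_f_rc_15_1 lc_f_rc_44_2 lc_f_rc_42_2 lc_f_rc_36_3) (@D3.rec (fun _ => (Cert rels S Gen.f)) lc_f_rc_46_2 lc_f_rc_43_0 lc_f_rc_46_2 lc_f_rc_42_2 lc_f_rc_46_2 lc_f_rc_42_2 lc_f_rc_46_2 lc_f_rc_42_2 lc_f_rc_23_3 lc_f_rc_36_3 lc_f_rc_42_2 lc_f_rc_30_1 lc_f_rc_30_1 lc_f_rc_46_2 lc_f_rc_23_1 lc_f_Cert_tree lc_f_rc_30_1 lc_f_rc_44_2 lc_f_rc_44_2 lc_f_Cert_tree lc_f_rc_46_2 lc_f_rc_43_0 lc_f_rc_46_2 lc_f_rc_42_2 lc_f_rc_43_0 lc_f_rc_46_2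 lc_f_rc_42_2 lc_f_rc_46_2 lc_f_rc_42_2 lc_f_rc_30_1 lc_f_rc_44_2 lc_f_Cert_tree lc_f_rc_44_2 lc_f_rc_6_3 lc_f_rc_23_1 lc_f_rc_43_0 lc_f_rc_46_2 lc_f_rc_42_2 lc_f_rc_42_0 lc_f_rc_15_1 lc_f_rc_36_1 lc_f_rc_43_0 lc_f_rc_46_2 lc_f_rc_42_2 lc_f_rc_42_0 lc_f_rc_46_2 lc_f_rc_42_2 lc_f_rc_42_2 lc_f_rc_46_2 lc_f_rc_42_2 lc_f_rc_15_1) (@D3.rec (fun _ => (Cert rels S Gen.f)) lc_f_rc_46_2 lc_f_rc_42_2 lc_f_rc_45_2 lc_f_rc_46_2 lc_f_rc_42_2 lc_f_rc_30_1 lc_f_rc_46_2 lc_f_rc_42_2 lc_f_rc_30_1 lc_f_rc_36_1 lc_f_rc_44_2 lc_f_rc_42_2 lc_f_rc_30_1 lc_f_rc_46_2 lc_f_rc_42_2 lc_f_rc_30_1 lc_f_rc_23_1 lc_f_rc_42_2 lc_f_rc_30_1 lc_f_rc_44_2 lc_f_rc_46_2 lc_f_rc_45_2 lc_f_rc_46_2 lc_f_rc_23_1 lc_f_rc_46_2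 lc_f_rc_46_2 lc_f_rc_42_2 lc_f_rc_44_2 lc_f_rc_44_2 lc_f_rc_23_1 lc_f_rc_42_0 lc_f_rc_46_2 lc_f_rc_15_1 lc_f_rc_23_1 lc_f_rc_44_2 lc_f_rc_42_2 lc_f_rc_23_1 lc_f_rc_42_2 lc_f_rc_42_2 lc_f_rc_30_1 lc_f_rc_30_1 lc_f_rc_46_2 lc_f_rc_23_1 lc_f_Cert_tree lc_f_rc_30_1 lc_f_rc_42_2 lc_f_rc_44_2 lc_f_Cert_tree lc_f_rc_46_2 lc_f_rc_43_0 lc_f_rc_46_2) (@D3.rec (fun _ => (Cert rels S Gen.f)) lc_f_rc_42_2 lc_f_rc_43_0 lc_f_rc_46_2 lc_f_rc_42_2 lc_f_rc_46_2 lc_f_rc_42_2 lc_f_rc_30_1 lc_f_rc_30_1 lc_f_Cert_tree lc_f_rc_30_1 lc_f_Cert_tree lc_f_rc_23_1 lc_f_rc_43_0 lc_f_rc_46_2 lc_f_rc_42_2 lc_f_rc_36_3 lc_f_rc_15_1 lc_f_Cert_tree lc_f_rc_43_0 lc_f_rc_46_2 lc_f_rc_42_2 lc_f_rc_46_2 lc_f_rc_42_2 lc_f_rc_43_0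 lc_f_rc_46_2 lc_f_rc_42_2 lc_f_rc_44_2 lc_f_rc_46_2 lc_f_rc_42_2 lc_f_rc_15_1 lc_f_rc_46_2 lc_f_rc_42_2 lc_f_rc_42_2 lc_f_rc_30_1 lc_f_rc_15_3 lc_f_rc_30_3 lc_f_rc_44_2 lc_f_rc_42_2 lc_f_rc_30_1 lc_f_rc_30_1 lc_f_rc_23_1 lc_f_rc_15_1 lc_f_rc_23_1 lc_f_rc_23_3 lc_f_rc_30_1 lc_f_rc_23_1 lc_f_rc_6_1 lc_f_rc_6_1 lc_f_rc_15_1 lc_f_rc_15_1 lc_f_rc_42_2) (@D3.rec (fun _ => (Cert rels S Gen.f)) lc_f_rc_30_1 lc_f_rc_6_1 lc_f_rc_42_0 lc_f_rc_23_1 lc_f_Cert_tree lc_f_rc_30_1 lc_f_rc_15_1 lc_f_Cert_tree lc_f_rc_23_1 lc_f_rc_43_0 lc_f_rc_46_2 lc_f_rc_42_2 lc_f_rc_42_2 lc_f_Cert_tree lc_f_rc_44_2 lc_f_rc_15_1 lc_f_Cert_tree lc_f_rc_23_1 lc_f_rc_43_0 lc_f_rc_46_2 lc_f_rc_42_2 lc_f_rc_36_3 lc_f_rc_15_1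 lc_f_Cert_tree lc_f_rc_43_0 lc_f_rc_46_2 lc_f_rc_42_2 lc_f_rc_36_3 lc_f_rc_46_2 lc_f_rc_42_2 lc_f_rc_15_1 lc_f_rc_43_0 lc_f_rc_46_2 lc_f_rc_42_2 lc_f_rc_44_2 lc_f_rc_46_2 lc_f_rc_42_2 lc_f_rc_15_1 lc_f_rc_23_1 lc_f_rc_46_2 lc_f_rc_42_2 lc_f_rc_45_2 lc_f_rc_46_2 lc_f_rc_42_2 lc_f_rc_30_1 lc_f_rc_23_1 lc_f_rc_23_1 lc_f_rc_42_2 lc_f_rc_15_1 lc_f_rc_46_2 lc_f_rc_42_2) (@D3.rec (fun _ => (Cert rels S Gen.f)) lc_f_rc_30_1 lc_f_rc_23_1 lc_f_rc_15_1 lc_f_Cert_tree lc_f_rc_30_1 lc_f_rc_43_0 lc_f_rc_46_2 lc_f_rc_42_2 lc_f_rc_6_1 lc_f_Cert_tree lc_f_rc_15_1 lc_f_Cert_tree lc_f_rc_43_0 lc_f_rc_46_2 lc_f_rc_42_2 lc_f_rc_44_2 lc_f_rc_46_2 lc_f_rc_42_2 lc_f_rc_36_3 lc_f_rc_6_1 lc_f_Cert_tree lc_f_rc_43_0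 lc_f_rc_46_2 lc_f_rc_15_1 lc_f_rc_43_0 lc_f_rc_43_1 lc_f_rc_46_2 lc_f_rc_23_1 lc_f_rc_46_2 lc_f_rc_42_2 lc_f_rc_30_1 lc_f_rc_45_2 lc_f_rc_44_2 lc_f_rc_42_2 lc_f_rc_30_1 lc_f_rc_6_1 lc_f_rc_43_0 lc_f_rc_46_2 lc_f_rc_15_1 lc_f_rc_44_2 lc_f_rc_46_2 lc_f_rc_42_2 lc_f_rc_30_1 lc_f_rc_44_2 lc_f_rc_44_2 lc_f_rc_42_2 lc_f_rc_30_1 lc_f_rc_6_1 lc_f_rc_15_1 lc_f_rc_46_2 lc_f_rc_42_2) (@D3.rec (fun _ => (Cert rels S Gen.f)) lc_f_rc_30_1 lc_f_rc_23_1 lc_f_rc_23_1 lc_f_rc_42_2 lc_f_rc_30_1 lc_f_Cert_tree lc_f_rc_46_2 lc_f_rc_42_2 lc_f_rc_30_1 lc_f_rc_23_1 lc_f_rc_15_1 lc_f_rc_15_1 lc_f_rc_42_2 lc_f_rc_23_1 lc_f_rc_23_1 lc_f_rc_42_2 lc_f_rc_30_1 lc_f_rc_15_1 lc_f_rc_6_3 lc_f_rc_42_2 lc_f_rc_30_1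 lc_f_rc_23_1 lc_f_rc_15_1 lc_f_rc_44_2 lc_f_rc_42_2 lc_f_rc_30_1 lc_f_rc_23_1 lc_f_rc_42_2 lc_f_rc_30_1 lc_f_rc_23_1 lc_f_rc_36_3 lc_f_rc_15_1 lc_f_rc_30_1 lc_f_rc_23_1 lc_f_rc_23_1 lc_f_rc_15_1 lc_f_rc_42_0 lc_f_rc_15_1 lc_f_rc_42_2 lc_f_rc_6_1 lc_f_rc_15_1 lc_f_rc_42_2 lc_f_rc_30_1 lc_f_rc_30_1 lc_f_rc_6_1 lc_f_rc_6_1 lc_f_rc_15_1 lc_f_rc_30_1 lc_f_rc_46_2 lc_f_rc_42_2 lc_f_rc_30_1) (@D3.rec (fun _ => (Cert rels S Gen.f)) lc_f_Cert_tree lc_f_rc_42_0 lc_f_rc_15_3 lc_f_rc_30_1 lc_f_rc_46_2 lc_f_rc_43_0 lc_f_rc_6_1 lc_f_rc_42_2 lc_f_rc_23_1 lc_f_rc_42_2 lc_f_rc_46_2 lc_f_rc_15_1 lc_f_rc_23_1 lc_f_rc_42_2 lc_f_rc_6_1 lc_f_rc_6_1 lc_f_rc_15_1 lc_f_rc_45_2 lc_f_rc_6_1 lc_f_rc_23_1 lc_f_rc_30_1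 lc_f_rc_15_1 lc_f_rc_6_1 lc_f_rc_30_1 lc_f_rc_42_2 lc_f_rc_30_1 lc_f_rc_30_1 lc_f_rc_42_2 lc_f_rc_46_2 lc_f_rc_30_3 lc_f_rc_46_0 lc_f_rc_46_2 lc_f_rc_30_1 lc_f_rc_23_1 lc_f_Cert_tree lc_f_rc_43_0 lc_f_rc_46_2 lc_f_rc_15_1 lc_f_rc_42_2 lc_f_rc_42_2 lc_f_rc_15_1 lc_f_rc_46_2 lc_f_rc_46_0 lc_f_rc_46_2 lc_f_rc_42_2 lc_f_rc_42_2 lc_f_rc_36_3 lc_f_rc_46_2 lc_f_rc_42_2 lc_f_rc_23_1 lc_f_rc_30_1)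
def ce_f_14 : D2 → D3 → (Cert rels S Gen.f) := @D2.rec (fun _ => D3 → (Cert rels S Gen.f)) (@D3.rec (fun _ => (Cert rels S Gen.f)) lc_f_rc_42_2 lc_f_rc_23_1 lc_f_rc_30_1 lc_f_rc_46_2 lc_f_rc_42_2 lc_f_rc_43_0 lc_f_rc_46_2 lc_f_rc_42_2 lc_f_rc_46_2 lc_f_rc_42_2 lc_f_rc_36_3 lc_f_rc_42_2 lc_f_rc_30_1 lc_f_rc_42_2 lc_f_rc_36_3 lc_f_rc_30_1 lc_f_rc_36_3 lc_f_rc_23_1 lc_f_rc_36_3 lc_f_rc_42_2 lc_f_Cert_tree lc_f_rc_15_1 lc_f_Cert_tree lc_f_rc_43_0 lc_f_rc_46_2 lc_f_rc_42_2 lc_f_rc_44_2 lc_f_rc_46_2 lc_f_rc_42_2 lc_f_rc_44_2 lc_f_rc_42_2 lc_f_rc_43_0 lc_f_rc_46_2 lc_f_rc_15_1 lc_f_rc_23_1 lc_f_rc_46_2 lc_f_rc_42_2 lc_f_rc_30_1 lc_f_rc_46_2 lc_f_rc_42_2 lc_f_rc_46_2 lc_f_rc_23_1 lc_f_rc_42_2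 lc_f_rc_30_1 lc_f_rc_46_2 lc_f_rc_42_2 lc_f_rc_30_1 lc_f_rc_56_54 lc_f_rc_30_1 lc_f_rc_6_1 lc_f_rc_30_1) (@D3.rec (fun _ => (Cert rels S Gen.f)) lc_f_rc_46_2 lc_f_rc_36_3 lc_f_rc_46_2 lc_f_rc_36_3 lc_f_rc_42_2 lc_f_rc_42_2 lc_f_rc_36_3 lc_f_rc_42_2 lc_f_rc_6_1 lc_f_rc_44_0 lc_f_rc_15_1 lc_f_rc_36_3 lc_f_rc_42_2 lc_f_rc_36_3 lc_f_rc_36_3 lc_f_rc_30_1 lc_f_rc_42_2 lc_f_rc_6_1 lc_f_rc_15_1 lc_f_rc_30_1 lc_f_rc_46_0 lc_f_rc_15_1 lc_f_rc_6_1 lc_f_rc_15_1 lc_f_rc_30_1 lc_f_rc_45_2 lc_f_rc_15_1 lc_f_rc_30_1 lc_f_rc_6_1 lc_f_rc_30_1 lc_f_Cert_tree lc_f_rc_6_1 lc_f_rc_30_1 lc_f_rc_6_1 lc_f_rc_45_2 lc_f_rc_46_2 lc_f_rc_36_3 lc_f_rc_42_2 lc_f_rc_42_2 lc_f_rc_42_2 lc_f_rc_23_1 lc_f_rc_44_4 lc_f_rc_42_2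 lc_f_rc_15_3 lc_f_rc_6_3 lc_f_rc_42_2 lc_f_rc_30_1 lc_f_rc_6_1 lc_f_Cert_tree lc_f_rc_6_1 lc_f_rc_15_1) (@D3.rec (fun _ => (Cert rels S Gen.f)) lc_f_Cert_tree lc_f_rc_23_1 lc_f_rc_43_0 lc_f_rc_46_2 lc_f_rc_42_2 lc_f_rc_42_0 lc_f_rc_15_1 lc_f_Cert_tree lc_f_rc_43_0 lc_f_rc_46_2 lc_f_rc_42_2 lc_f_rc_46_2 lc_f_rc_42_2 lc_f_rc_15_1 lc_f_rc_43_0 lc_f_rc_46_2 lc_f_rc_42_2 lc_f_rc_46_2 lc_f_rc_42_2 lc_f_rc_15_1 lc_f_rc_46_2 lc_f_rc_42_2 lc_f_rc_30_1 lc_f_rc_42_2 lc_f_rc_15_1 lc_f_rc_30_1 lc_f_rc_23_1 lc_f_rc_15_1 lc_f_rc_6_1 lc_f_rc_42_2 lc_f_rc_15_1 lc_f_rc_30_1 lc_f_rc_23_1 lc_f_rc_42_2 lc_f_rc_6_1 lc_f_rc_6_1 lc_f_rc_15_1 lc_f_rc_15_1 lc_f_rc_15_1 lc_f_rc_30_1 lc_f_rc_23_1 lc_f_rc_30_1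 lc_f_rc_15_1 lc_f_rc_15_1 lc_f_rc_30_1 lc_f_rc_6_1 lc_f_rc_30_1 lc_f_Cert_tree lc_f_rc_23_1 lc_f_rc_36_1 lc_f_rc_42_0) (@D3.rec (fun _ => (Cert rels S Gen.f)) lc_f_rc_46_2 lc_f_rc_46_2 lc_f_rc_46_0 lc_f_rc_23_1 lc_f_rc_44_2 lc_f_rc_44_2 lc_f_rc_15_1 lc_f_rc_6_3 lc_f_rc_23_1 lc_f_rc_46_2 lc_f_rc_42_2 lc_f_Cert_tree lc_f_rc_15_1 lc_f_Cert_tree lc_f_rc_43_0 lc_f_rc_46_2 lc_f_rc_42_2 lc_f_rc_36_3 lc_f_rc_46_2 lc_f_rc_42_2 lc_f_rc_15_1 lc_f_rc_42_2 lc_f_rc_43_0 lc_f_rc_46_2 lc_f_rc_15_1 lc_f_rc_46_2 lc_f_rc_42_2 lc_f_rc_30_1 lc_f_rc_46_2 lc_f_rc_42_2 lc_f_rc_46_2 lc_f_rc_15_1 lc_f_rc_6_3 lc_f_rc_42_2 lc_f_Cert_tree lc_f_rc_44_2 lc_f_rc_43_0 lc_f_rc_46_2 lc_f_rc_15_1 lc_f_Cert_tree lc_f_rc_15_1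 lc_f_Cert_tree lc_f_rc_43_0 lc_f_rc_46_2 lc_f_rc_42_2 lc_f_rc_46_2 lc_f_rc_42_2 lc_f_Cert_tree lc_f_rc_6_1 lc_f_Cert_tree lc_f_rc_43_0) (@D3.rec (fun _ => (Cert rels S Gen.f)) lc_f_rc_46_2 lc_f_rc_15_1 lc_f_rc_43_0 lc_f_rc_43_1 lc_f_rc_46_2 lc_f_rc_23_1 lc_f_rc_46_2 lc_f_rc_42_2 lc_f_rc_30_1 lc_f_rc_45_2 lc_f_rc_44_2 lc_f_rc_42_2 lc_f_rc_30_1 lc_f_Cert_tree lc_f_rc_46_2 lc_f_rc_43_0 lc_f_rc_46_2 lc_f_rc_15_1 lc_f_rc_46_2 lc_f_rc_42_2 lc_f_rc_30_1 lc_f_rc_42_2 lc_f_rc_43_0 lc_f_rc_46_2 lc_f_rc_6_1 lc_f_rc_15_1 lc_f_rc_46_2 lc_f_rc_42_2 lc_f_rc_30_1 lc_f_rc_23_1 lc_f_rc_23_1 lc_f_rc_42_2 lc_f_rc_30_1 lc_f_Cert_tree lc_f_rc_46_2 lc_f_rc_42_2 lc_f_rc_46_0 lc_f_rc_36_3 lc_f_rc_15_1 lc_f_rc_42_2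 lc_f_rc_15_3 lc_f_rc_23_1 lc_f_rc_42_2 lc_f_rc_30_1 lc_f_rc_42_2 lc_f_rc_23_1 lc_f_rc_15_1 lc_f_rc_36_5 lc_f_rc_30_1 lc_f_rc_23_1 lc_f_rc_30_1) (@D3.rec (fun _ => (Cert rels S Gen.f)) lc_f_rc_6_1 lc_f_rc_15_1 lc_f_rc_15_1 lc_f_rc_15_1 lc_f_rc_30_1 lc_f_rc_46_2 lc_f_rc_36_5 lc_f_rc_30_1 lc_f_Cert_tree lc_f_rc_6_1 lc_f_rc_30_1 lc_f_Cert_tree lc_f_rc_43_0 lc_f_rc_6_1 lc_f_rc_46_2 lc_f_rc_23_1 lc_f_rc_45_2 lc_f_rc_30_1 lc_f_rc_23_1 lc_f_rc_23_1 lc_f_rc_30_1 lc_f_Cert_tree lc_f_rc_23_1 lc_f_rc_42_2 lc_f_rc_30_1 lc_f_rc_45_2 lc_f_rc_15_1 lc_f_rc_30_1 lc_f_rc_42_2 lc_f_rc_23_1 lc_f_rc_46_0 lc_f_rc_30_1 lc_f_rc_6_1 lc_f_rc_30_1 lc_f_rc_15_1 lc_f_rc_42_2 lc_f_rc_23_1 lc_f_Cert_tree lc_f_rc_30_1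 lc_f_rc_30_1 lc_f_rc_45_2 lc_f_rc_45_2 lc_f_rc_43_0 lc_f_rc_36_3 lc_f_rc_46_2 lc_f_rc_42_2 lc_f_rc_36_3 lc_f_rc_46_2 lc_f_rc_36_3 lc_f_rc_23_1 lc_f_rc_30_1) (@D3.rec (fun _ => (Cert rels S Gen.f)) lc_f_rc_42_2 lc_f_rc_42_2 lc_f_rc_42_2 lc_f_rc_30_1 lc_f_rc_15_1 lc_f_rc_42_2 lc_f_rc_15_1 lc_f_rc_30_1 lc_f_rc_42_0 lc_f_rc_36_3 lc_f_rc_36_3 lc_f_rc_23_1 lc_f_rc_36_3 lc_f_rc_42_2 lc_f_rc_42_2 lc_f_rc_15_1 lc_f_rc_30_1 lc_f_rc_36_3 lc_f_rc_42_2 lc_f_Cert_tree lc_f_rc_43_0 lc_f_rc_46_2 lc_f_rc_42_2 lc_f_rc_46_2 lc_f_rc_42_2 lc_f_rc_46_2 lc_f_rc_42_2 lc_f_rc_30_1 lc_f_rc_42_2 lc_f_rc_6_1 lc_f_rc_15_1 lc_f_rc_15_1 lc_f_rc_30_1 lc_f_Cert_tree lc_f_rc_36_5 lc_f_rc_30_1 lc_f_rc_23_1 lc_f_rc_30_1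 lc_f_Cert_tree lc_f_rc_43_0 lc_f_rc_23_1 lc_f_rc_23_1 lc_f_rc_46_2 lc_f_rc_42_2 lc_f_rc_42_2 lc_f_rc_15_1 lc_f_rc_30_1 lc_f_rc_36_3 lc_f_rc_30_1 lc_f_rc_30_1 lc_f_rc_42_2) (@D3.rec (fun _ => (Cert rels S Gen.f)) lc_f_rc_30_1 lc_f_rc_42_2 lc_f_rc_36_3 lc_f_rc_30_1 lc_f_rc_6_1 lc_f_rc_15_1 lc_f_rc_30_1 lc_f_rc_42_2 lc_f_rc_30_1 lc_f_Cert_tree lc_f_rc_36_3 lc_f_rc_15_1 lc_f_rc_15_1 lc_f_rc_36_3 lc_f_rc_42_2 lc_f_rc_36_3 lc_f_rc_15_1 lc_f_rc_30_1 lc_f_rc_46_2 lc_f_rc_15_1 lc_f_rc_30_1 lc_f_rc_36_3 lc_f_rc_44_2 lc_f_rc_43_0 lc_f_rc_46_2 lc_f_rc_42_2 lc_f_rc_30_1 lc_f_rc_15_1 lc_f_rc_30_1 lc_f_rc_42_2 lc_f_rc_36_3 lc_f_rc_6_3 lc_f_rc_6_1 lc_f_rc_36_3 lc_f_rc_43_0 lc_f_rc_46_2 lc_f_rc_15_1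 lc_f_rc_36_3 lc_f_rc_46_2 lc_f_rc_23_1 lc_f_rc_46_2 lc_f_rc_42_2 lc_f_rc_30_1 lc_f_rc_45_2 lc_f_rc_44_2 lc_f_rc_42_2 lc_f_rc_30_1 lc_f_rc_15_1 lc_f_rc_30_1 lc_f_rc_6_1 lc_f_rc_46_2) (@D3.rec (fun _ => (Cert rels S Gen.f)) lc_f_rc_42_2 lc_f_rc_30_1 lc_f_rc_23_1 lc_f_rc_42_2 lc_f_rc_30_1 lc_f_Cert_tree lc_f_rc_46_2 lc_f_rc_42_2 lc_f_rc_46_0 lc_f_rc_23_1 lc_f_rc_42_2 lc_f_rc_15_1 lc_f_rc_6_1 lc_f_rc_23_1 lc_f_rc_42_2 lc_f_rc_23_1 lc_f_rc_43_0 lc_f_rc_44_2 lc_f_rc_15_1 lc_f_rc_30_1 lc_f_rc_6_1 lc_f_rc_15_1 lc_f_rc_15_1 lc_f_rc_30_1 lc_f_rc_46_2 lc_f_rc_42_2 lc_f_rc_30_1 lc_f_Cert_tree lc_f_rc_30_1 lc_f_rc_6_1 lc_f_rc_44_2 lc_f_Cert_tree lc_f_rc_43_0 lc_f_rc_44_2 lc_f_rc_6_1 lc_f_rc_6_1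 lc_f_Cert_tree lc_f_rc_44_2 lc_f_rc_36_3 lc_f_rc_42_2 lc_f_rc_36_3 lc_f_rc_6_3 lc_f_rc_42_2 lc_f_rc_44_4 lc_f_rc_44_2 lc_f_rc_46_2 lc_f_rc_42_2 lc_f_rc_46_2 lc_f_rc_42_2 lc_f_rc_6_1 lc_f_rc_42_2) (@D3.rec (fun _ => (Cert rels S Gen.f)) lc_f_Cert_tree lc_f_rc_44_2 lc_f_rc_43_0 lc_f_rc_46_2 lc_f_rc_30_1 lc_f_Cert_tree lc_f_rc_15_1 lc_f_Cert_tree lc_f_rc_43_0 lc_f_rc_46_2 lc_f_rc_42_2 lc_f_rc_44_2 lc_f_rc_46_2 lc_f_rc_42_2 lc_f_Cert_tree lc_f_rc_43_0 lc_f_rc_46_2 lc_f_rc_15_1 lc_f_rc_43_0 lc_f_rc_46_2 lc_f_rc_46_2 lc_f_rc_42_2 lc_f_rc_42_2 lc_f_rc_30_1 lc_f_rc_43_0 lc_f_rc_46_2 lc_f_rc_15_1 lc_f_rc_46_2 lc_f_rc_42_2 lc_f_rc_44_2 lc_f_rc_42_2 lc_f_rc_46_2 lc_f_rc_42_2 lc_f_rc_42_2 lc_f_rc_30_1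 lc_f_rc_23_1 lc_f_rc_30_1 lc_f_rc_15_1 lc_f_rc_36_5 lc_f_rc_23_1 lc_f_rc_23_1 lc_f_rc_30_1 lc_f_rc_42_2 lc_f_rc_36_3 lc_f_rc_42_2 lc_f_rc_36_3 lc_f_rc_30_1 lc_f_rc_30_1 lc_f_rc_43_0 lc_f_rc_46_2 lc_f_rc_42_2) (@D3.rec (fun _ => (Cert rels S Gen.f)) lc_f_rc_30_1 lc_f_rc_15_1 lc_f_rc_30_1 lc_f_rc_42_2 lc_f_rc_36_3 lc_f_rc_6_1 lc_f_rc_6_1 lc_f_rc_36_3 lc_f_rc_36_3 lc_f_rc_15_1 lc_f_rc_36_3 lc_f_rc_46_2 lc_f_rc_36_3 lc_f_rc_30_1 lc_f_rc_30_1 lc_f_rc_15_1 lc_f_rc_6_1 lc_f_rc_15_1 lc_f_rc_46_2 lc_f_rc_42_2 lc_f_rc_6_1 lc_f_rc_6_3 lc_f_rc_15_1 lc_f_rc_6_3 lc_f_rc_23_1 lc_f_rc_23_1 lc_f_rc_46_0 lc_f_Cert_tree lc_f_rc_46_2 lc_f_rc_43_0 lc_f_rc_46_2 lc_f_rc_46_2 lc_f_rc_30_3 lc_f_rc_15_1 lc_f_rc_42_2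 lc_f_rc_46_2 lc_f_rc_42_2 lc_f_rc_46_2 lc_f_rc_36_3 lc_f_rc_6_1 lc_f_Cert_tree lc_f_rc_43_0 lc_f_rc_46_2 lc_f_rc_15_1 lc_f_rc_43_0 lc_f_rc_43_1 lc_f_rc_46_2 lc_f_rc_36_3 lc_f_rc_46_2 lc_f_rc_42_2 lc_f_rc_36_3) (@D3.rec (fun _ => (Cert rels S Gen.f)) lc_f_rc_44_2 lc_f_rc_42_2 lc_f_rc_30_1 lc_f_rc_30_1 lc_f_rc_46_2 lc_f_rc_15_1 lc_f_rc_46_2 lc_f_rc_6_1 lc_f_rc_46_2 lc_f_rc_42_2 lc_f_rc_23_1 lc_f_rc_23_1 lc_f_rc_42_2 lc_f_rc_30_1 lc_f_rc_46_2 lc_f_rc_42_2 lc_f_rc_30_1 lc_f_rc_23_1 lc_f_rc_42_2 lc_f_rc_30_1 lc_f_rc_42_2 lc_f_rc_43_0 lc_f_rc_46_2 lc_f_rc_42_2 lc_f_rc_44_2 lc_f_rc_46_2 lc_f_rc_42_2 lc_f_rc_43_0 lc_f_rc_46_2 lc_f_rc_15_1 lc_f_rc_46_2 lc_f_rc_46_2 lc_f_rc_42_2 lc_f_rc_30_1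 lc_f_rc_15_3 lc_f_rc_46_2 lc_f_rc_42_2 lc_f_rc_30_1 lc_f_rc_43_0 lc_f_rc_46_2 lc_f_rc_6_1 lc_f_rc_43_0 lc_f_rc_46_2 lc_f_rc_15_1 lc_f_rc_46_2 lc_f_rc_42_2 lc_f_rc_30_1 lc_f_rc_30_1 lc_f_rc_42_2 lc_f_rc_46_2 lc_f_rc_46_2) (@D3.rec (fun _ => (Cert rels S Gen.f)) lc_f_rc_42_2 lc_f_rc_23_1 lc_f_rc_23_1 lc_f_rc_42_2 lc_f_rc_30_1 lc_f_Cert_tree lc_f_rc_45_2 lc_f_rc_36_3 lc_f_rc_30_1 lc_f_rc_23_1 lc_f_rc_43_0 lc_f_rc_46_2 lc_f_rc_30_1 lc_f_rc_46_2 lc_f_rc_42_2 lc_f_rc_42_2 lc_f_rc_30_1 lc_f_Cert_tree lc_f_rc_30_1 lc_f_rc_42_2 lc_f_rc_46_2 lc_f_rc_42_2 lc_f_rc_15_1 lc_f_rc_42_2 lc_f_rc_30_1 lc_f_rc_23_1 lc_f_rc_42_2 lc_f_rc_30_1 lc_f_Cert_tree lc_f_rc_43_0 lc_f_rc_42_2 lc_f_rc_23_3 lc_f_rc_15_1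 lc_f_rc_30_1 lc_f_rc_23_1 lc_f_rc_42_2 lc_f_rc_30_1 lc_f_rc_46_2 lc_f_rc_43_0 lc_f_rc_43_0 lc_f_rc_23_1 lc_f_rc_15_1 lc_f_rc_6_1 lc_f_rc_23_1 lc_f_rc_23_1 lc_f_rc_23_1 lc_f_rc_36_3 lc_f_rc_30_1 lc_f_rc_15_1 lc_f_rc_15_1 lc_f_rc_15_1) (@D3.rec (fun _ => (Cert rels S Gen.f)) lc_f_rc_23_1 lc_f_rc_23_1 lc_f_rc_23_1 lc_f_rc_30_1 lc_f_rc_30_1 lc_f_rc_23_1 lc_f_rc_30_1 lc_f_rc_30_1 lc_f_rc_42_2 lc_f_rc_44_2 lc_f_rc_43_0 lc_f_rc_15_1 lc_f_rc_15_1 lc_f_rc_46_2 lc_f_rc_42_2 lc_f_rc_43_0 lc_f_rc_44_2 lc_f_rc_6_1 lc_f_rc_6_1 lc_f_rc_23_1 lc_f_rc_6_1 lc_f_rc_30_1 lc_f_Cert_tree lc_f_Cert_tree lc_f_rc_43_0 lc_f_rc_15_1 lc_f_rc_46_2 lc_f_rc_43_0 lc_f_rc_43_0 lc_f_rc_15_1 lc_f_rc_42_2 lc_f_rc_30_1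 lc_f_rc_42_2 lc_f_rc_30_1 lc_f_rc_46_2 lc_f_rc_42_2 lc_f_rc_42_2 lc_f_rc_30_1 lc_f_rc_36_3 lc_f_rc_30_1 lc_f_rc_23_1 lc_f_Cert_tree lc_f_rc_43_0 lc_f_rc_23_1 lc_f_rc_15_1 lc_f_rc_30_1 lc_f_rc_42_2 lc_f_rc_15_1 lc_f_rc_30_1 lc_f_rc_23_1 lc_f_rc_30_1) (@D3.rec (fun _ => (Cert rels S Gen.f)) lc_f_Cert_tree lc_f_rc_43_0 lc_f_rc_6_1 lc_f_rc_30_1 lc_f_rc_23_1 lc_f_rc_15_1 lc_f_rc_30_1 lc_f_rc_30_1 lc_f_rc_15_1 lc_f_rc_23_1 lc_f_rc_46_2 lc_f_rc_42_2 lc_f_rc_42_2 lc_f_rc_6_1 lc_f_rc_6_1 lc_f_rc_56_54 lc_f_rc_30_1 lc_f_rc_23_1 lc_f_rc_46_2 lc_f_rc_46_2 lc_f_rc_46_2 lc_f_rc_15_3 lc_f_rc_23_1 lc_f_rc_6_1 lc_f_rc_36_1 lc_f_rc_30_1 lc_f_rc_15_1 lc_f_rc_23_1 lc_f_rc_23_3 lc_f_rc_46_2 lc_f_rc_42_2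 lc_f_rc_30_1 lc_f_rc_30_1 lc_f_rc_45_2 lc_f_Cert_tree lc_f_rc_46_2 lc_f_rc_43_0 lc_f_rc_46_2 lc_f_rc_42_2 lc_f_rc_46_2 lc_f_Cert_tree lc_f_rc_46_2 lc_f_Cert_tree lc_f_rc_23_1 lc_f_rc_43_0 lc_f_rc_46_2 lc_f_rc_42_2 lc_f_rc_43_0 lc_f_rc_46_2 lc_f_rc_42_2 lc_f_rc_44_2) (@D3.rec (fun _ => (Cert rels S Gen.f)) lc_f_Cert_tree lc_f_rc_46_2 lc_f_rc_43_0 lc_f_rc_46_2 lc_f_rc_42_2 lc_f_rc_46_2 lc_f_rc_42_2 lc_f_rc_46_2 lc_f_rc_15_1 lc_f_rc_15_1 lc_f_rc_23_1 lc_f_rc_42_2 lc_f_rc_46_2 lc_f_rc_42_2 lc_f_rc_30_1 lc_f_rc_23_1 lc_f_rc_46_2 lc_f_rc_46_2 lc_f_rc_30_3 lc_f_rc_46_2 lc_f_rc_42_2 lc_f_rc_36_1 lc_f_rc_30_1 lc_f_rc_30_3 lc_f_rc_42_2 lc_f_rc_44_2 lc_f_rc_42_2 lc_f_rc_23_1 lc_f_rc_23_1 lc_f_rc_46_2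 lc_f_rc_43_0 lc_f_rc_46_2 lc_f_rc_42_2 lc_f_rc_42_2 lc_f_rc_44_2 lc_f_rc_46_2 lc_f_rc_42_2 lc_f_rc_46_2 lc_f_rc_42_2 lc_f_rc_30_1 lc_f_rc_30_3 lc_f_rc_42_2 lc_f_rc_30_1 lc_f_rc_42_2 lc_f_rc_44_2 lc_f_rc_46_2 lc_f_rc_42_2 lc_f_rc_45_2 lc_f_rc_46_2 lc_f_rc_42_2 lc_f_rc_30_1) (@D3.rec (fun _ => (Cert rels S Gen.f)) lc_f_rc_30_1 lc_f_rc_42_2 lc_f_rc_46_2 lc_f_rc_42_2 lc_f_rc_30_1 lc_f_rc_23_1 lc_f_rc_46_2 lc_f_rc_42_2 lc_f_rc_30_1 lc_f_rc_23_1 lc_f_rc_30_1 lc_f_rc_15_1 lc_f_rc_30_1 lc_f_rc_46_2 lc_f_rc_23_1 lc_f_Cert_tree lc_f_rc_30_1 lc_f_rc_44_2 lc_f_rc_44_2 lc_f_rc_23_1 lc_f_Cert_tree lc_f_rc_46_2 lc_f_rc_42_2 lc_f_rc_23_1 lc_f_rc_43_0 lc_f_rc_46_2 lc_f_rc_42_2 lc_f_rc_23_1 lc_f_rc_43_0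 lc_f_rc_46_2 lc_f_rc_42_2 lc_f_rc_42_2 lc_f_rc_46_2 lc_f_rc_42_2 lc_f_rc_6_1 lc_f_rc_30_1 lc_f_rc_15_3 lc_f_rc_44_2 lc_f_Cert_tree lc_f_rc_23_1 lc_f_rc_43_0 lc_f_rc_46_2 lc_f_rc_42_2 lc_f_rc_42_0 lc_f_rc_15_1 lc_f_Cert_tree lc_f_rc_43_0 lc_f_rc_46_2 lc_f_rc_42_2 lc_f_rc_46_2 lc_f_rc_42_2) (@D3.rec (fun _ => (Cert rels S Gen.f)) lc_f_rc_43_0 lc_f_rc_46_2 lc_f_rc_42_2 lc_f_rc_44_2 lc_f_rc_46_2 lc_f_rc_42_2 lc_f_rc_15_1 lc_f_rc_46_2 lc_f_rc_42_2 lc_f_rc_30_1 lc_f_rc_42_2 lc_f_rc_30_1 lc_f_rc_15_1 lc_f_rc_15_3 lc_f_Cert_tree lc_f_rc_30_3 lc_f_rc_44_2 lc_f_rc_42_2 lc_f_rc_30_1 lc_f_rc_30_1 lc_f_rc_23_1 lc_f_rc_36_1 lc_f_rc_42_2 lc_f_rc_15_1 lc_f_rc_15_1 lc_f_rc_15_1 lc_f_rc_36_5 lc_f_rc_30_1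 lc_f_rc_23_1 lc_f_rc_30_1 lc_f_rc_30_1 lc_f_rc_30_1 lc_f_Cert_tree lc_f_rc_15_1 lc_f_rc_30_1 lc_f_rc_45_2 lc_f_rc_46_2 lc_f_rc_15_3 lc_f_rc_46_2 lc_f_rc_46_2 lc_f_rc_42_2 lc_f_rc_6_1 lc_f_rc_6_1 lc_f_rc_23_1 lc_f_rc_36_3 lc_f_rc_46_2 lc_f_rc_23_3 lc_f_rc_23_1 lc_f_rc_43_0 lc_f_rc_46_2 lc_f_rc_42_2) (@D3.rec (fun _ => (Cert rels S Gen.f)) lc_f_rc_23_1 lc_f_rc_42_2 lc_f_rc_42_2 lc_f_rc_46_2 lc_f_rc_42_2 lc_f_rc_30_1 lc_f_rc_23_1 lc_f_rc_42_2 lc_f_rc_30_1 lc_f_Cert_tree lc_f_rc_30_1 lc_f_rc_36_3 lc_f_rc_46_2 lc_f_rc_36_3 lc_f_rc_23_1 lc_f_rc_43_0 lc_f_rc_46_2 lc_f_rc_42_2 lc_f_rc_42_2 lc_f_rc_42_2 lc_f_rc_46_2 lc_f_rc_42_2 lc_f_rc_30_1 lc_f_rc_23_3 lc_f_Cert_tree lc_f_rc_6_1 lc_f_rc_46_2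 lc_f_rc_42_2 lc_f_rc_46_2 lc_f_rc_42_2 lc_f_rc_42_0 lc_f_rc_46_2 lc_f_rc_42_2 lc_f_rc_30_1 lc_f_rc_45_2 lc_f_rc_46_2 lc_f_rc_42_2 lc_f_rc_30_1 lc_f_rc_46_2 lc_f_rc_42_2 lc_f_rc_30_1 lc_f_rc_46_2 lc_f_rc_42_2 lc_f_rc_30_1 lc_f_rc_42_2 lc_f_rc_30_1 lc_f_rc_30_1 lc_f_rc_23_1 lc_f_Cert_tree lc_f_rc_30_1 lc_f_rc_15_1) (@D3.rec (fun _ => (Cert rels S Gen.f)) lc_f_Cert_tree lc_f_rc_23_1 lc_f_rc_43_0 lc_f_rc_46_2 lc_f_rc_42_2 lc_f_Cert_tree lc_f_rc_44_2 lc_f_rc_15_1 lc_f_rc_36_3 lc_f_rc_23_1 lc_f_rc_43_0 lc_f_rc_46_2 lc_f_rc_42_2 lc_f_rc_36_3 lc_f_rc_15_1 lc_f_Cert_tree lc_f_rc_43_0 lc_f_rc_46_2 lc_f_rc_42_2 lc_f_rc_36_3 lc_f_rc_46_2 lc_f_rc_42_2 lc_f_rc_15_1 lc_f_rc_42_2 lc_f_rc_44_2 lc_f_rc_46_2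 lc_f_rc_42_2 lc_f_rc_15_1 lc_f_rc_46_2 lc_f_rc_42_2 lc_f_rc_30_1 lc_f_rc_45_2 lc_f_rc_46_2 lc_f_rc_42_2 lc_f_rc_30_1 lc_f_rc_15_1 lc_f_rc_15_1 lc_f_rc_46_2 lc_f_rc_42_2 lc_f_rc_30_1 lc_f_rc_23_1 lc_f_rc_43_0 lc_f_rc_46_2 lc_f_rc_15_1 lc_f_rc_6_1 lc_f_rc_36_3 lc_f_rc_15_1 lc_f_rc_46_2 lc_f_rc_42_2 lc_f_rc_44_2 lc_f_rc_46_2) (@D3.rec (fun _ => (Cert rels S Gen.f)) lc_f_rc_42_2 lc_f_rc_36_3 lc_f_rc_6_1 lc_f_rc_30_3 lc_f_rc_43_0 lc_f_rc_46_2 lc_f_rc_15_1 lc_f_rc_30_3 lc_f_rc_30_3 lc_f_rc_23_1 lc_f_rc_46_2 lc_f_rc_42_2 lc_f_rc_30_1 lc_f_rc_45_2 lc_f_rc_44_2 lc_f_rc_42_2 lc_f_rc_30_1 lc_f_rc_6_1 lc_f_rc_15_1 lc_f_rc_30_1 lc_f_rc_44_2 lc_f_rc_44_2 lc_f_rc_42_2 lc_f_rc_30_1 lc_f_rc_6_1 lc_f_rc_46_2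 lc_f_rc_42_2 lc_f_rc_30_1 lc_f_rc_23_1 lc_f_rc_23_1 lc_f_rc_42_2 lc_f_Cert_tree lc_f_rc_46_2 lc_f_rc_42_2 lc_f_rc_30_1 lc_f_rc_23_1 lc_f_rc_23_1 lc_f_rc_36_1 lc_f_rc_23_1 lc_f_rc_42_2 lc_f_rc_43_0 lc_f_rc_42_2 lc_f_rc_30_1 lc_f_rc_15_1 lc_f_rc_44_2 lc_f_rc_42_2 lc_f_rc_30_1 lc_f_rc_23_1 lc_f_rc_42_2 lc_f_rc_30_1 lc_f_rc_23_1) (@D3.rec (fun _ => (Cert rels S Gen.f)) lc_f_rc_36_3 lc_f_rc_15_1 lc_f_rc_30_1 lc_f_rc_23_1 lc_f_rc_6_1 lc_f_rc_15_1 lc_f_rc_30_1 lc_f_rc_36_1 lc_f_rc_45_2 lc_f_rc_6_1 lc_f_rc_42_2 lc_f_rc_30_1 lc_f_rc_15_1 lc_f_rc_30_1 lc_f_rc_46_2 lc_f_rc_42_2 lc_f_rc_30_1 lc_f_Cert_tree lc_f_rc_6_1 lc_f_rc_30_1 lc_f_Cert_tree lc_f_Cert_tree lc_f_rc_43_0 lc_f_rc_44_2 lc_f_rc_6_1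 lc_f_rc_30_1 lc_f_rc_6_1 lc_f_rc_46_2 lc_f_rc_42_2 lc_f_rc_6_1 lc_f_rc_46_2 lc_f_rc_46_2 lc_f_rc_6_1 lc_f_rc_46_2 lc_f_rc_42_2 lc_f_rc_23_1 lc_f_rc_46_0 lc_f_rc_30_1 lc_f_rc_30_1 lc_f_rc_30_3 lc_f_rc_45_0 lc_f_rc_23_1 lc_f_rc_46_2 lc_f_rc_42_2 lc_f_rc_42_2 lc_f_rc_46_0 lc_f_rc_15_1 lc_f_rc_30_1 lc_f_rc_42_2 lc_f_rc_30_1 lc_f_rc_30_1) (@D3.rec (fun _ => (Cert rels S Gen.f)) lc_f_rc_45_2 lc_f_rc_42_0 lc_f_rc_15_1 lc_f_rc_46_2 lc_f_rc_42_2 lc_f_rc_15_1 lc_f_rc_23_1 lc_f_rc_46_2 lc_f_rc_30_1 lc_f_rc_42_2 lc_f_rc_55_23 lc_f_rc_46_2 lc_f_rc_23_1 lc_f_rc_46_2 lc_f_rc_42_2 lc_f_rc_15_3 lc_f_rc_23_1 lc_f_rc_46_2 lc_f_rc_42_2 lc_f_rc_15_1 lc_f_rc_23_1 lc_f_rc_30_1 lc_f_rc_42_2 lc_f_rc_42_2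 lc_f_rc_23_1 lc_f_rc_30_1 lc_f_rc_45_2 lc_f_rc_42_2 lc_f_rc_15_1 lc_f_rc_45_2 lc_f_rc_15_1 lc_f_rc_15_1 lc_f_rc_15_1 lc_f_rc_30_1 lc_f_rc_42_2 lc_f_rc_30_1 lc_f_rc_42_2 lc_f_rc_15_1 lc_f_rc_30_1 lc_f_rc_30_1 lc_f_rc_6_1 lc_f_rc_46_2 lc_f_rc_15_1 lc_f_rc_42_2 lc_f_rc_30_1 lc_f_Cert_tree lc_f_rc_30_3 lc_f_rc_30_1 lc_f_rc_45_2 lc_f_rc_23_1 lc_f_rc_15_1) (@D3.rec (fun _ => (Cert rels S Gen.f)) lc_f_rc_42_2 lc_f_rc_45_2 lc_f_rc_46_2 lc_f_rc_36_3 lc_f_rc_46_2 lc_f_rc_46_2 lc_f_rc_42_2 lc_f_rc_45_2 lc_f_rc_46_2 lc_f_rc_23_1 lc_f_Cert_tree lc_f_rc_46_2 lc_f_rc_46_2 lc_f_rc_23_1 lc_f_rc_43_0 lc_f_rc_46_2 lc_f_rc_42_2 lc_f_rc_46_2 lc_f_rc_46_2 lc_f_rc_44_2 lc_f_rc_42_0 lc_f_rc_36_3 lc_f_rc_46_2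 lc_f_rc_36_3 lc_f_rc_23_1 lc_f_rc_43_0 lc_f_rc_46_2 lc_f_rc_42_2 lc_f_rc_42_2 lc_f_rc_42_2 lc_f_rc_46_2 lc_f_rc_42_2 lc_f_rc_46_0 lc_f_rc_30_1 lc_f_rc_42_2 lc_f_rc_42_2 lc_f_rc_30_1 lc_f_rc_42_2 lc_f_rc_30_1 lc_f_rc_23_1 lc_f_Cert_tree lc_f_rc_30_1 lc_f_rc_36_3 lc_f_rc_46_2 lc_f_rc_15_1 lc_f_rc_36_3 lc_f_rc_23_1 lc_f_rc_43_0 lc_f_rc_46_2 lc_f_rc_42_2 lc_f_rc_42_2) (@D3.rec (fun _ => (Cert rels S Gen.f)) lc_f_rc_15_1 lc_f_rc_42_2 lc_f_rc_44_2 lc_f_rc_46_2 lc_f_rc_42_2 lc_f_rc_15_1 lc_f_rc_46_2 lc_f_rc_30_1 lc_f_rc_46_2 lc_f_rc_42_2 lc_f_rc_30_1 lc_f_rc_36_3 lc_f_rc_44_2 lc_f_rc_36_3 lc_f_rc_42_2 lc_f_rc_36_3 lc_f_rc_15_1 lc_f_rc_36_1 lc_f_rc_36_3 lc_f_rc_42_2 lc_f_rc_30_1 lc_f_rc_46_2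 lc_f_rc_42_2 lc_f_rc_15_1 lc_f_rc_30_1 lc_f_rc_46_2 lc_f_rc_42_2 lc_f_rc_30_1 lc_f_rc_6_1 lc_f_rc_15_3 lc_f_rc_15_1 lc_f_rc_46_2 lc_f_rc_42_2 lc_f_rc_15_1 lc_f_rc_42_2 lc_f_rc_30_1 lc_f_rc_30_1 lc_f_rc_42_2 lc_f_rc_30_1 lc_f_rc_23_1 lc_f_rc_30_1 lc_f_rc_15_1 lc_f_rc_46_2 lc_f_rc_36_3 lc_f_rc_30_1 lc_f_rc_30_1 lc_f_Cert_tree lc_f_rc_6_1 lc_f_rc_36_3 lc_f_rc_46_2 lc_f_rc_42_2) (@D3.rec (fun _ => (Cert rels S Gen.f)) lc_f_rc_6_1 lc_f_rc_46_2 lc_f_rc_15_1 lc_f_rc_36_3 lc_f_rc_23_1 lc_f_rc_30_3 lc_f_rc_42_2 lc_f_rc_42_2 lc_f_rc_15_1 lc_f_rc_42_2 lc_f_rc_15_1 lc_f_rc_30_1 lc_f_rc_30_1 lc_f_rc_46_2 lc_f_rc_23_1 lc_f_Cert_tree lc_f_rc_30_1 lc_f_rc_23_1 lc_f_rc_36_3 lc_f_rc_46_2 lc_f_rc_15_1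 lc_f_Cert_tree lc_f_rc_23_1 lc_f_rc_43_0 lc_f_rc_46_2 lc_f_rc_42_2 lc_f_rc_23_1 lc_f_rc_42_2 lc_f_rc_15_1 lc_f_rc_43_0 lc_f_rc_46_2 lc_f_rc_42_2 lc_f_rc_46_2 lc_f_rc_42_2 lc_f_rc_15_1 lc_f_rc_23_1 lc_f_rc_30_1 lc_f_rc_46_2 lc_f_rc_36_3 lc_f_rc_46_2 lc_f_rc_36_3 lc_f_rc_23_1 lc_f_rc_43_0 lc_f_rc_46_2 lc_f_rc_42_2 lc_f_rc_6_1 lc_f_rc_36_3 lc_f_rc_15_1 lc_f_rc_43_0 lc_f_rc_46_2 lc_f_rc_42_2) (@D3.rec (fun _ => (Cert rels S Gen.f)) lc_f_rc_46_2 lc_f_rc_42_2 lc_f_rc_42_2 lc_f_rc_46_2 lc_f_rc_42_2 lc_f_rc_6_1 lc_f_rc_15_1 lc_f_rc_46_2 lc_f_rc_42_2 lc_f_rc_30_1 lc_f_rc_42_2 lc_f_rc_30_1 lc_f_rc_6_1 lc_f_rc_15_1 lc_f_rc_15_1 lc_f_rc_30_1 lc_f_rc_23_1 lc_f_rc_23_1 lc_f_rc_44_2 lc_f_rc_42_2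 lc_f_rc_30_1 lc_f_rc_23_1 lc_f_rc_15_1 lc_f_rc_42_2 lc_f_rc_36_3 lc_f_rc_15_1 lc_f_rc_30_1 lc_f_rc_44_2 lc_f_rc_30_1 lc_f_Cert_tree lc_f_rc_23_1 lc_f_rc_36_1 lc_f_rc_23_1 lc_f_Cert_tree lc_f_rc_30_1 lc_f_rc_15_1 lc_f_Cert_tree lc_f_rc_23_1 lc_f_rc_43_0 lc_f_rc_46_2 lc_f_rc_42_2 lc_f_rc_36_3 lc_f_rc_46_2 lc_f_rc_44_2 lc_f_rc_23_1 lc_f_rc_43_0 lc_f_rc_46_2 lc_f_rc_42_2 lc_f_rc_36_3 lc_f_rc_15_1 lc_f_rc_15_3)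
def ce_f_15 : D2 → D3 → (Cert rels S Gen.f) := @D2.rec (fun _ => D3 → (Cert rels S Gen.f)) (@D3.rec (fun _ => (Cert rels S Gen.f)) lc_f_rc_43_0 lc_f_rc_46_2 lc_f_rc_42_2 lc_f_rc_36_3 lc_f_rc_46_2 lc_f_rc_42_2 lc_f_rc_42_2 lc_f_rc_46_2 lc_f_rc_42_2 lc_f_rc_15_1 lc_f_rc_46_2 lc_f_rc_42_2 lc_f_rc_30_1 lc_f_rc_46_2 lc_f_rc_42_2 lc_f_rc_30_1 lc_f_rc_15_1 lc_f_rc_15_1 lc_f_rc_36_3 lc_f_rc_42_2 lc_f_rc_30_1 lc_f_rc_23_1 lc_f_rc_43_0 lc_f_rc_46_2 lc_f_rc_42_2 lc_f_Cert_tree lc_f_rc_43_0 lc_f_rc_46_2 lc_f_rc_42_2 lc_f_rc_46_2 lc_f_rc_42_2 lc_f_rc_36_3 lc_f_rc_6_1 lc_f_Cert_tree lc_f_rc_43_0 lc_f_rc_46_2 lc_f_rc_15_1 lc_f_rc_43_0 lc_f_rc_43_1 lc_f_rc_46_2 lc_f_rc_23_1 lc_f_rc_46_2 lc_f_rc_42_2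 lc_f_rc_30_1 lc_f_rc_45_2 lc_f_rc_44_2 lc_f_rc_42_2 lc_f_rc_30_1 lc_f_rc_46_2 lc_f_rc_42_2 lc_f_rc_30_1) (@D3.rec (fun _ => (Cert rels S Gen.f)) lc_f_rc_42_2 lc_f_rc_30_1 lc_f_rc_6_1 lc_f_rc_46_2 lc_f_rc_42_2 lc_f_rc_30_1 lc_f_rc_23_1 lc_f_rc_42_2 lc_f_rc_30_1 lc_f_Cert_tree lc_f_rc_46_2 lc_f_rc_42_2 lc_f_rc_30_1 lc_f_rc_23_1 lc_f_rc_30_1 lc_f_rc_23_1 lc_f_rc_42_2 lc_f_rc_30_1 lc_f_rc_23_1 lc_f_rc_36_1 lc_f_rc_43_0 lc_f_rc_42_2 lc_f_rc_30_1 lc_f_rc_30_1 lc_f_rc_30_1 lc_f_rc_23_1 lc_f_rc_36_3 lc_f_rc_15_1 lc_f_rc_23_1 lc_f_rc_42_2 lc_f_rc_30_1 lc_f_rc_36_3 lc_f_rc_30_1 lc_f_rc_6_1 lc_f_rc_6_1 lc_f_rc_6_1 lc_f_rc_15_1 lc_f_rc_15_1 lc_f_rc_15_1 lc_f_rc_30_1 lc_f_rc_46_2 lc_f_rc_42_2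 lc_f_rc_44_2 lc_f_Cert_tree lc_f_rc_30_3 lc_f_rc_43_0 lc_f_rc_6_1 lc_f_rc_42_2 lc_f_rc_42_2 lc_f_rc_46_2 lc_f_rc_46_0) (@D3.rec (fun _ => (Cert rels S Gen.f)) lc_f_rc_23_1 lc_f_rc_36_3 lc_f_rc_42_2 lc_f_rc_46_2 lc_f_rc_42_2 lc_f_rc_42_2 lc_f_rc_30_1 lc_f_rc_44_4 lc_f_rc_44_2 lc_f_rc_46_2 lc_f_rc_42_2 lc_f_rc_46_2 lc_f_rc_42_2 lc_f_rc_6_3 lc_f_rc_42_2 lc_f_rc_30_1 lc_f_rc_6_3 lc_f_rc_30_1 lc_f_Cert_tree lc_f_rc_30_1 lc_f_rc_30_1 lc_f_rc_23_1 lc_f_rc_43_0 lc_f_rc_46_2 lc_f_rc_42_2 lc_f_Cert_tree lc_f_rc_44_2 lc_f_rc_43_0 lc_f_rc_46_2 lc_f_rc_42_2 lc_f_rc_46_2 lc_f_rc_42_2 lc_f_rc_46_2 lc_f_rc_42_2 lc_f_rc_42_2 lc_f_rc_30_1 lc_f_rc_6_3 lc_f_rc_44_2 lc_f_rc_43_0 lc_f_rc_46_2 lc_f_rc_30_1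 lc_f_rc_6_3 lc_f_rc_42_2 lc_f_rc_46_2 lc_f_rc_42_2 lc_f_rc_44_0 lc_f_rc_15_1 lc_f_rc_46_2 lc_f_rc_46_2 lc_f_rc_42_2 lc_f_rc_42_0) (@D3.rec (fun _ => (Cert rels S Gen.f)) lc_f_rc_44_2 lc_f_rc_42_2 lc_f_rc_30_1 lc_f_rc_42_2 lc_f_rc_30_1 lc_f_rc_42_2 lc_f_rc_46_2 lc_f_rc_42_2 lc_f_rc_30_1 lc_f_rc_23_1 lc_f_rc_42_2 lc_f_rc_30_1 lc_f_rc_42_2 lc_f_rc_30_1 lc_f_rc_42_2 lc_f_rc_30_1 lc_f_rc_23_1 lc_f_rc_36_3 lc_f_rc_30_1 lc_f_rc_6_1 lc_f_rc_45_2 lc_f_rc_46_2 lc_f_rc_46_2 lc_f_rc_42_2 lc_f_rc_42_2 lc_f_rc_23_3 lc_f_rc_44_2 lc_f_rc_45_2 lc_f_rc_23_1 lc_f_rc_45_2 lc_f_rc_42_2 lc_f_rc_44_2 lc_f_rc_15_1 lc_f_rc_42_2 lc_f_rc_44_2 lc_f_rc_42_2 lc_f_rc_30_1 lc_f_Cert_tree lc_f_rc_30_1 lc_f_Cert_tree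 lc_f_rc_23_1 lc_f_rc_43_0 lc_f_rc_46_2 lc_f_rc_42_2 lc_f_Cert_tree lc_f_rc_44_2 lc_f_rc_43_0 lc_f_rc_46_2 lc_f_rc_42_2 lc_f_rc_46_2 lc_f_rc_42_2) (@D3.rec (fun _ => (Cert rels S Gen.f)) lc_f_rc_44_2 lc_f_rc_46_2 lc_f_rc_42_2 lc_f_rc_42_2 lc_f_rc_30_1 lc_f_rc_30_3 lc_f_Cert_tree lc_f_rc_30_1 lc_f_rc_43_0 lc_f_rc_46_2 lc_f_rc_42_2 lc_f_Cert_tree lc_f_rc_43_0 lc_f_rc_46_2 lc_f_rc_42_2 lc_f_rc_6_3 lc_f_rc_46_2 lc_f_rc_42_2 lc_f_rc_30_1 lc_f_rc_36_3 lc_f_rc_15_1 lc_f_rc_43_0 lc_f_rc_43_1 lc_f_rc_46_2 lc_f_rc_46_2 lc_f_rc_42_2 lc_f_rc_42_2 lc_f_rc_30_1 lc_f_rc_44_2 lc_f_rc_46_2 lc_f_rc_42_2 lc_f_rc_44_2 lc_f_rc_42_2 lc_f_rc_30_1 lc_f_rc_42_2 lc_f_rc_30_1 lc_f_rc_30_1 lc_f_rc_23_1 lc_f_rc_15_3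 lc_f_rc_42_2 lc_f_rc_30_1 lc_f_rc_23_1 lc_f_rc_23_1 lc_f_rc_36_3 lc_f_rc_15_1 lc_f_rc_30_1 lc_f_rc_6_1 lc_f_rc_6_1 lc_f_rc_23_1 lc_f_rc_15_1 lc_f_rc_46_2) (@D3.rec (fun _ => (Cert rels S Gen.f)) lc_f_rc_42_2 lc_f_rc_6_3 lc_f_rc_6_1 lc_f_rc_15_1 lc_f_Cert_tree lc_f_rc_23_1 lc_f_rc_43_0 lc_f_rc_46_2 lc_f_rc_42_2 lc_f_rc_6_1 lc_f_Cert_tree lc_f_rc_15_1 lc_f_Cert_tree lc_f_rc_43_0 lc_f_rc_46_2 lc_f_rc_23_1 lc_f_rc_44_2 lc_f_rc_46_2 lc_f_rc_42_2 lc_f_rc_6_3 lc_f_rc_46_2 lc_f_rc_43_0 lc_f_rc_46_2 lc_f_rc_46_2 lc_f_rc_36_3 lc_f_rc_15_1 lc_f_rc_43_0 lc_f_rc_46_2 lc_f_rc_42_2 lc_f_rc_44_2 lc_f_rc_46_2 lc_f_rc_42_2 lc_f_rc_30_1 lc_f_rc_36_3 lc_f_rc_15_1 lc_f_rc_43_0 lc_f_rc_43_1 lc_f_rc_46_2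 lc_f_rc_36_3 lc_f_rc_46_2 lc_f_rc_42_2 lc_f_rc_36_3 lc_f_rc_44_2 lc_f_rc_42_2 lc_f_rc_30_1 lc_f_rc_15_1 lc_f_rc_23_1 lc_f_rc_46_2 lc_f_rc_42_2 lc_f_rc_45_2 lc_f_rc_44_2) (@D3.rec (fun _ => (Cert rels S Gen.f)) lc_f_rc_42_2 lc_f_rc_30_1 lc_f_rc_23_1 lc_f_rc_23_1 lc_f_rc_42_2 lc_f_rc_30_1 lc_f_rc_46_2 lc_f_rc_42_2 lc_f_rc_30_1 lc_f_rc_23_1 lc_f_rc_23_1 lc_f_rc_42_2 lc_f_rc_42_2 lc_f_rc_30_1 lc_f_rc_23_1 lc_f_rc_15_1 lc_f_rc_44_4 lc_f_rc_15_1 lc_f_rc_42_2 lc_f_rc_43_0 lc_f_rc_46_2 lc_f_rc_42_2 lc_f_rc_44_2 lc_f_rc_46_2 lc_f_rc_42_2 lc_f_rc_36_3 lc_f_rc_6_1 lc_f_Cert_tree lc_f_rc_43_0 lc_f_rc_46_2 lc_f_rc_15_1 lc_f_rc_43_0 lc_f_rc_43_1 lc_f_rc_46_2 lc_f_rc_23_1 lc_f_rc_46_2 lc_f_rc_42_2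 lc_f_rc_30_1 lc_f_rc_15_3 lc_f_rc_46_2 lc_f_rc_42_2 lc_f_rc_30_1 lc_f_rc_36_3 lc_f_rc_6_1 lc_f_rc_43_0 lc_f_rc_46_2 lc_f_rc_15_1 lc_f_rc_46_2 lc_f_rc_42_2 lc_f_rc_30_1 lc_f_rc_30_1) (@D3.rec (fun _ => (Cert rels S Gen.f)) lc_f_rc_42_2 lc_f_rc_46_2 lc_f_rc_46_2 lc_f_rc_42_2 lc_f_rc_23_1 lc_f_rc_23_1 lc_f_rc_42_2 lc_f_rc_30_1 lc_f_Cert_tree lc_f_rc_45_2 lc_f_rc_36_3 lc_f_rc_30_1 lc_f_rc_23_1 lc_f_rc_6_1 lc_f_rc_46_2 lc_f_rc_42_2 lc_f_rc_30_1 lc_f_rc_44_2 lc_f_rc_44_2 lc_f_rc_42_2 lc_f_rc_30_1 lc_f_rc_46_2 lc_f_rc_44_2 lc_f_rc_36_5 lc_f_rc_30_1 lc_f_rc_23_1 lc_f_rc_15_1 lc_f_rc_15_1 lc_f_rc_42_2 lc_f_rc_30_1 lc_f_rc_23_1 lc_f_rc_42_2 lc_f_rc_30_1 lc_f_rc_23_1 lc_f_Cert_tree lc_f_rc_43_0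 lc_f_rc_42_2 lc_f_rc_30_1 lc_f_rc_23_1 lc_f_rc_36_3 lc_f_rc_15_1 lc_f_rc_15_1 lc_f_rc_15_1 lc_f_rc_42_2 lc_f_rc_30_1 lc_f_rc_30_3 lc_f_rc_30_1 lc_f_rc_23_1 lc_f_rc_23_1 lc_f_rc_42_2 lc_f_rc_44_2) (@D3.rec (fun _ => (Cert rels S Gen.f)) lc_f_rc_23_1 lc_f_rc_36_3 lc_f_rc_15_1 lc_f_rc_30_1 lc_f_rc_23_1 lc_f_rc_36_3 lc_f_rc_15_1 lc_f_rc_23_1 lc_f_rc_6_1 lc_f_rc_23_1 lc_f_rc_30_1 lc_f_rc_30_1 lc_f_rc_46_2 lc_f_rc_42_2 lc_f_rc_44_0 lc_f_rc_15_1 lc_f_rc_36_3 lc_f_rc_46_2 lc_f_rc_30_1 lc_f_rc_23_1 lc_f_Cert_tree lc_f_rc_43_0 lc_f_rc_23_1 lc_f_rc_15_1 lc_f_rc_23_1 lc_f_rc_6_1 lc_f_rc_15_1 lc_f_rc_15_1 lc_f_rc_46_2 lc_f_rc_6_1 lc_f_rc_30_1 lc_f_rc_30_1 lc_f_rc_30_1 lc_f_rc_30_1 lc_f_rc_30_1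 lc_f_rc_23_1 lc_f_rc_30_1 lc_f_Cert_tree lc_f_rc_43_0 lc_f_rc_6_1 lc_f_rc_42_2 lc_f_rc_30_1 lc_f_rc_46_2 lc_f_rc_42_2 lc_f_rc_36_3 lc_f_rc_30_1 lc_f_rc_42_2 lc_f_rc_46_2 lc_f_rc_42_2 lc_f_rc_42_2 lc_f_rc_36_3) (@D3.rec (fun _ => (Cert rels S Gen.f)) lc_f_rc_42_2 lc_f_rc_36_3 lc_f_rc_30_1 lc_f_rc_36_3 lc_f_rc_42_2 lc_f_rc_36_3 lc_f_rc_43_0 lc_f_rc_46_2 lc_f_rc_15_1 lc_f_rc_43_0 lc_f_rc_46_2 lc_f_rc_36_3 lc_f_rc_46_2 lc_f_rc_42_2 lc_f_rc_44_2 lc_f_rc_42_2 lc_f_rc_30_1 lc_f_rc_44_2 lc_f_rc_46_2 lc_f_rc_42_2 lc_f_rc_23_1 lc_f_rc_42_2 lc_f_rc_30_1 lc_f_rc_42_2 lc_f_rc_30_1 lc_f_rc_42_2 lc_f_rc_30_1 lc_f_rc_42_2 lc_f_rc_36_5 lc_f_rc_23_1 lc_f_rc_15_1 lc_f_rc_30_1 lc_f_rc_6_1 lc_f_rc_36_3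 lc_f_rc_42_2 lc_f_rc_36_3 lc_f_rc_36_3 lc_f_rc_6_1 lc_f_rc_6_1 lc_f_rc_36_3 lc_f_rc_15_1 lc_f_rc_36_3 lc_f_rc_30_1 lc_f_rc_30_1 lc_f_rc_36_3 lc_f_rc_42_2 lc_f_rc_42_2 lc_f_rc_6_1 lc_f_rc_30_1 lc_f_rc_6_1 lc_f_rc_30_1) (@D3.rec (fun _ => (Cert rels S Gen.f)) lc_f_Cert_tree lc_f_rc_45_2 lc_f_rc_30_1 lc_f_Cert_tree lc_f_rc_43_0 lc_f_rc_36_3 lc_f_rc_42_2 lc_f_rc_36_3 lc_f_rc_30_1 lc_f_rc_36_3 lc_f_rc_42_2 lc_f_rc_44_4 lc_f_rc_15_3 lc_f_rc_30_1 lc_f_rc_15_1 lc_f_rc_45_2 lc_f_rc_6_1 lc_f_rc_43_0 lc_f_rc_46_2 lc_f_rc_42_2 lc_f_rc_42_0 lc_f_rc_15_1 lc_f_Cert_tree lc_f_rc_43_0 lc_f_rc_46_2 lc_f_rc_42_2 lc_f_rc_46_2 lc_f_rc_42_2 lc_f_rc_30_1 lc_f_rc_36_3 lc_f_rc_15_1 lc_f_rc_43_0 lc_f_rc_46_2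 lc_f_rc_46_2 lc_f_rc_42_2 lc_f_rc_30_1 lc_f_rc_42_2 lc_f_rc_30_1 lc_f_rc_15_1 lc_f_rc_46_2 lc_f_rc_42_2 lc_f_rc_30_1 lc_f_rc_42_2 lc_f_rc_30_1 lc_f_rc_42_2 lc_f_rc_30_1 lc_f_Cert_tree lc_f_rc_23_1 lc_f_rc_15_1 lc_f_rc_42_2 lc_f_rc_15_1) (@D3.rec (fun _ => (Cert rels S Gen.f)) lc_f_rc_30_1 lc_f_rc_23_1 lc_f_rc_30_1 lc_f_rc_6_1 lc_f_rc_15_1 lc_f_rc_15_1 lc_f_rc_30_1 lc_f_rc_36_5 lc_f_rc_30_1 lc_f_Cert_tree lc_f_rc_15_1 lc_f_rc_30_1 lc_f_Cert_tree lc_f_Cert_tree lc_f_rc_43_0 lc_f_rc_36_1 lc_f_rc_30_1 lc_f_rc_46_2 lc_f_rc_42_0 lc_f_rc_46_2 lc_f_rc_46_0 lc_f_rc_46_0 lc_f_rc_23_1 lc_f_rc_23_1 lc_f_rc_46_2 lc_f_rc_15_1 lc_f_rc_6_3 lc_f_rc_15_1 lc_f_rc_6_1 lc_f_rc_23_1 lc_f_rc_42_2 lc_f_rc_46_2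 lc_f_rc_6_3 lc_f_rc_43_0 lc_f_rc_46_2 lc_f_rc_15_1 lc_f_rc_43_0 lc_f_rc_23_1 lc_f_rc_46_2 lc_f_rc_46_2 lc_f_rc_42_2 lc_f_rc_30_1 lc_f_rc_44_2 lc_f_rc_42_2 lc_f_rc_30_1 lc_f_rc_15_1 lc_f_rc_30_1 lc_f_rc_46_2 lc_f_rc_42_2 lc_f_rc_30_1 lc_f_rc_42_2) (@D3.rec (fun _ => (Cert rels S Gen.f)) lc_f_rc_42_2 lc_f_rc_6_3 lc_f_rc_43_0 lc_f_rc_46_2 lc_f_rc_23_1 lc_f_rc_46_2 lc_f_rc_42_2 lc_f_rc_43_0 lc_f_rc_46_2 lc_f_rc_15_1 lc_f_rc_43_0 lc_f_rc_43_1 lc_f_rc_46_2 lc_f_rc_46_2 lc_f_rc_42_2 lc_f_rc_30_1 lc_f_rc_42_2 lc_f_rc_30_1 lc_f_rc_43_0 lc_f_rc_46_2 lc_f_rc_6_1 lc_f_rc_43_0 lc_f_rc_44_2 lc_f_rc_46_2 lc_f_rc_36_3 lc_f_rc_46_2 lc_f_rc_42_2 lc_f_rc_30_1 lc_f_rc_30_1 lc_f_rc_42_2 lc_f_rc_46_2 lc_f_rc_46_2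 lc_f_rc_42_2 lc_f_rc_23_1 lc_f_rc_23_1 lc_f_rc_42_2 lc_f_rc_30_1 lc_f_Cert_tree lc_f_rc_45_2 lc_f_rc_36_3 lc_f_rc_30_1 lc_f_rc_23_1 lc_f_rc_43_0 lc_f_rc_46_2 lc_f_rc_6_1 lc_f_rc_46_2 lc_f_rc_42_2 lc_f_rc_30_1 lc_f_rc_42_2 lc_f_rc_30_1 lc_f_Cert_tree) (@D3.rec (fun _ => (Cert rels S Gen.f)) lc_f_rc_46_2 lc_f_rc_42_2 lc_f_rc_15_1 lc_f_rc_42_2 lc_f_rc_30_1 lc_f_rc_23_1 lc_f_rc_42_2 lc_f_rc_30_1 lc_f_rc_43_0 lc_f_rc_42_2 lc_f_rc_30_1 lc_f_rc_36_3 lc_f_rc_15_1 lc_f_rc_42_2 lc_f_rc_30_1 lc_f_rc_30_1 lc_f_rc_30_1 lc_f_rc_46_2 lc_f_rc_36_5 lc_f_rc_30_1 lc_f_Cert_tree lc_f_rc_15_1 lc_f_rc_15_1 lc_f_rc_15_1 lc_f_rc_36_3 lc_f_rc_46_2 lc_f_rc_42_2 lc_f_Cert_tree lc_f_rc_43_0 lc_f_rc_43_0 lc_f_rc_30_1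 lc_f_rc_45_0 lc_f_rc_45_2 lc_f_rc_30_1 lc_f_rc_30_1 lc_f_Cert_tree lc_f_rc_43_0 lc_f_rc_30_1 lc_f_rc_45_2 lc_f_rc_15_1 lc_f_rc_45_2 lc_f_rc_30_1 lc_f_rc_30_1 lc_f_rc_30_1 lc_f_rc_45_2 lc_f_rc_45_2 lc_f_rc_43_0 lc_f_rc_36_3 lc_f_rc_42_2 lc_f_rc_36_3 lc_f_rc_42_2) (@D3.rec (fun _ => (Cert rels S Gen.f)) lc_f_rc_36_3 lc_f_rc_42_2 lc_f_rc_36_3 lc_f_rc_30_1 lc_f_rc_36_3 lc_f_rc_15_1 lc_f_rc_30_1 lc_f_rc_30_1 lc_f_Cert_tree lc_f_rc_30_1 lc_f_rc_36_3 lc_f_rc_42_2 lc_f_rc_36_3 lc_f_rc_30_1 lc_f_rc_15_1 lc_f_rc_30_1 lc_f_rc_36_3 lc_f_rc_43_0 lc_f_rc_43_1 lc_f_rc_46_2 lc_f_rc_46_2 lc_f_rc_42_2 lc_f_rc_30_1 lc_f_rc_42_2 lc_f_rc_30_1 lc_f_rc_42_2 lc_f_rc_30_1 lc_f_Cert_tree lc_f_rc_36_1 lc_f_rc_23_1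 lc_f_rc_43_0 lc_f_rc_46_2 lc_f_rc_36_5 lc_f_rc_30_1 lc_f_Cert_tree lc_f_rc_43_0 lc_f_rc_44_2 lc_f_rc_15_1 lc_f_rc_36_3 lc_f_rc_42_2 lc_f_rc_46_2 lc_f_rc_30_1 lc_f_rc_15_1 lc_f_rc_36_3 lc_f_rc_42_2 lc_f_rc_36_3 lc_f_rc_36_3 lc_f_rc_30_1 lc_f_rc_42_2 lc_f_Cert_tree lc_f_Cert_tree) (@D3.rec (fun _ => (Cert rels S Gen.f)) lc_f_rc_43_0 lc_f_rc_44_2 lc_f_rc_15_1 lc_f_rc_6_1 lc_f_rc_23_1 lc_f_rc_36_3 lc_f_rc_30_1 lc_f_rc_46_2 lc_f_rc_30_1 lc_f_Cert_tree lc_f_rc_23_1 lc_f_rc_44_2 lc_f_rc_44_2 lc_f_rc_46_2 lc_f_rc_42_2 lc_f_rc_30_1 lc_f_rc_15_1 lc_f_rc_36_3 lc_f_rc_30_1 lc_f_rc_6_3 lc_f_rc_30_1 lc_f_rc_6_1 lc_f_rc_46_2 lc_f_rc_46_2 lc_f_rc_42_2 lc_f_rc_30_1 lc_f_rc_46_2 lc_f_rc_6_1 lc_f_rc_23_1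 lc_f_rc_42_2 lc_f_rc_30_1 lc_f_Cert_tree lc_f_rc_45_2 lc_f_rc_36_3 lc_f_rc_30_1 lc_f_rc_23_1 lc_f_rc_30_1 lc_f_rc_6_1 lc_f_rc_42_2 lc_f_rc_6_3 lc_f_Cert_tree lc_f_rc_42_2 lc_f_rc_30_1 lc_f_rc_43_0 lc_f_rc_44_2 lc_f_rc_44_2 lc_f_rc_30_1 lc_f_rc_6_3 lc_f_rc_6_1 lc_f_rc_15_1 lc_f_rc_15_1) (@D3.rec (fun _ => (Cert rels S Gen.f)) lc_f_Cert_tree lc_f_rc_46_2 lc_f_rc_42_2 lc_f_rc_45_2 lc_f_rc_43_0 lc_f_rc_43_0 lc_f_rc_44_2 lc_f_rc_43_0 lc_f_rc_46_2 lc_f_rc_30_1 lc_f_rc_36_3 lc_f_rc_30_1 lc_f_rc_15_3 lc_f_rc_46_2 lc_f_rc_30_1 lc_f_rc_15_3 lc_f_rc_42_2 lc_f_rc_30_1 lc_f_rc_43_0 lc_f_rc_46_2 lc_f_rc_42_2 lc_f_rc_44_2 lc_f_rc_46_2 lc_f_rc_42_2 lc_f_rc_43_0 lc_f_rc_46_2 lc_f_rc_15_1 lc_f_rc_43_0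 lc_f_rc_46_2 lc_f_rc_46_2 lc_f_rc_42_2 lc_f_rc_46_2 lc_f_rc_42_2 lc_f_rc_30_1 lc_f_rc_43_0 lc_f_rc_46_2 lc_f_rc_46_2 lc_f_rc_42_2 lc_f_rc_46_2 lc_f_rc_42_2 lc_f_rc_42_2 lc_f_rc_30_1 lc_f_rc_30_1 lc_f_rc_23_1 lc_f_rc_46_2 lc_f_rc_42_2 lc_f_rc_42_2 lc_f_rc_30_1 lc_f_rc_42_2 lc_f_rc_42_2 lc_f_rc_30_1) (@D3.rec (fun _ => (Cert rels S Gen.f)) lc_f_rc_30_1 lc_f_rc_36_5 lc_f_rc_15_1 lc_f_rc_23_1 lc_f_rc_23_1 lc_f_rc_42_2 lc_f_rc_36_3 lc_f_rc_30_1 lc_f_rc_44_2 lc_f_rc_42_2 lc_f_rc_46_2 lc_f_rc_42_2 lc_f_rc_30_1 lc_f_rc_15_1 lc_f_rc_42_2 lc_f_rc_30_1 lc_f_rc_6_1 lc_f_rc_6_1 lc_f_rc_46_2 lc_f_rc_36_3 lc_f_rc_46_2 lc_f_rc_6_3 lc_f_rc_30_1 lc_f_rc_23_1 lc_f_rc_30_3 lc_f_rc_15_1 lc_f_rc_46_2 lc_f_rc_23_1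 lc_f_rc_23_1 lc_f_rc_15_1 lc_f_rc_23_3 lc_f_rc_15_1 lc_f_rc_23_3 lc_f_rc_23_3 lc_f_rc_23_1 lc_f_rc_30_1 lc_f_rc_42_2 lc_f_rc_43_0 lc_f_rc_46_2 lc_f_rc_46_2 lc_f_rc_46_2 lc_f_rc_42_2 lc_f_rc_44_4 lc_f_rc_15_1 lc_f_rc_44_4 lc_f_rc_46_2 lc_f_rc_6_3 lc_f_rc_36_3 lc_f_rc_6_1 lc_f_rc_23_3 lc_f_rc_43_0) (@D3.rec (fun _ => (Cert rels S Gen.f)) lc_f_rc_46_2 lc_f_rc_46_2 lc_f_rc_42_2 lc_f_rc_6_1 lc_f_rc_42_2 lc_f_rc_46_2 lc_f_rc_46_2 lc_f_rc_42_2 lc_f_rc_6_1 lc_f_rc_44_2 lc_f_rc_42_2 lc_f_rc_30_1 lc_f_rc_45_2 lc_f_rc_44_2 lc_f_rc_30_1 lc_f_rc_23_1 lc_f_rc_30_1 lc_f_rc_46_2 lc_f_rc_6_3 lc_f_rc_42_2 lc_f_rc_30_1 lc_f_rc_23_1 lc_f_rc_42_2 lc_f_rc_30_1 lc_f_rc_42_2 lc_f_rc_23_1 lc_f_rc_42_2 lc_f_rc_30_1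 lc_f_rc_46_2 lc_f_rc_42_2 lc_f_rc_46_2 lc_f_rc_42_2 lc_f_rc_30_1 lc_f_rc_46_2 lc_f_rc_42_2 lc_f_rc_6_1 lc_f_rc_42_2 lc_f_rc_30_1 lc_f_Cert_tree lc_f_rc_23_3 lc_f_rc_42_2 lc_f_rc_30_1 lc_f_rc_23_1 lc_f_rc_46_2 lc_f_rc_42_2 lc_f_rc_15_1 lc_f_rc_46_2 lc_f_rc_15_1 lc_f_rc_42_2 lc_f_rc_30_1 lc_f_rc_42_2) (@D3.rec (fun _ => (Cert rels S Gen.f)) lc_f_rc_30_1 lc_f_rc_46_2 lc_f_rc_42_2 lc_f_rc_42_2 lc_f_rc_30_1 lc_f_rc_23_1 lc_f_rc_36_3 lc_f_rc_30_1 lc_f_rc_23_1 lc_f_Cert_tree lc_f_rc_43_0 lc_f_rc_36_3 lc_f_rc_44_2 lc_f_rc_23_1 lc_f_rc_15_1 lc_f_rc_46_2 lc_f_rc_42_2 lc_f_rc_42_2 lc_f_rc_30_1 lc_f_rc_30_1 lc_f_Cert_tree lc_f_rc_43_0 lc_f_rc_42_2 lc_f_rc_42_2 lc_f_rc_15_1 lc_f_rc_30_1 lc_f_rc_23_1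 lc_f_rc_42_2 lc_f_rc_30_1 lc_f_Cert_tree lc_f_rc_43_0 lc_f_rc_23_3 lc_f_rc_30_1 lc_f_rc_30_1 lc_f_rc_44_2 lc_f_rc_30_1 lc_f_rc_15_1 lc_f_rc_6_1 lc_f_rc_23_1 lc_f_rc_23_1 lc_f_rc_15_1 lc_f_rc_15_1 lc_f_rc_15_1 lc_f_rc_15_1 lc_f_rc_23_1 lc_f_rc_23_1 lc_f_rc_30_1 lc_f_rc_23_1 lc_f_rc_42_2 lc_f_rc_23_1 lc_f_rc_42_2) (@D3.rec (fun _ => (Cert rels S Gen.f)) lc_f_rc_42_2 lc_f_rc_15_1 lc_f_rc_46_2 lc_f_rc_43_0 lc_f_rc_43_0 lc_f_rc_15_1 lc_f_rc_30_1 lc_f_rc_46_2 lc_f_rc_42_2 lc_f_rc_42_2 lc_f_rc_30_1 lc_f_rc_30_1 lc_f_rc_44_2 lc_f_rc_23_1 lc_f_Cert_tree lc_f_rc_15_1 lc_f_Cert_tree lc_f_rc_43_0 lc_f_rc_36_3 lc_f_rc_30_1 lc_f_rc_23_1 lc_f_rc_36_3 lc_f_rc_36_3 lc_f_rc_43_0 lc_f_rc_30_1 lc_f_rc_15_1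 lc_f_rc_23_1 lc_f_rc_42_2 lc_f_rc_46_2 lc_f_rc_15_1 lc_f_rc_23_1 lc_f_rc_42_2 lc_f_rc_23_1 lc_f_rc_30_1 lc_f_rc_23_1 lc_f_rc_30_1 lc_f_rc_45_2 lc_f_rc_15_1 lc_f_rc_43_0 lc_f_rc_46_2 lc_f_rc_42_2 lc_f_rc_46_2 lc_f_rc_42_2 lc_f_rc_46_2 lc_f_rc_43_0 lc_f_rc_46_2 lc_f_rc_42_2 lc_f_rc_43_0 lc_f_rc_46_2 lc_f_rc_42_2 lc_f_rc_46_2) (@D3.rec (fun _ => (Cert rels S Gen.f)) lc_f_rc_42_2 lc_f_rc_46_2 lc_f_rc_42_2 lc_f_rc_46_2 lc_f_rc_43_0 lc_f_rc_46_2 lc_f_rc_42_2 lc_f_rc_46_2 lc_f_rc_42_2 lc_f_rc_42_2 lc_f_rc_30_1 lc_f_rc_15_1 lc_f_rc_15_1 lc_f_rc_23_1 lc_f_rc_30_1 lc_f_rc_23_1 lc_f_rc_30_3 lc_f_rc_42_2 lc_f_rc_42_2 lc_f_rc_36_3 lc_f_rc_44_2 lc_f_rc_36_3 lc_f_rc_42_2 lc_f_rc_46_2 lc_f_rc_42_2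 lc_f_rc_46_2 lc_f_rc_42_2 lc_f_rc_30_1 lc_f_rc_42_2 lc_f_rc_30_1 lc_f_rc_36_3 lc_f_rc_36_3 lc_f_rc_36_3 lc_f_rc_44_2 lc_f_rc_42_2 lc_f_rc_30_1 lc_f_rc_46_2 lc_f_rc_42_2 lc_f_rc_30_1 lc_f_rc_23_1 lc_f_rc_42_2 lc_f_rc_42_2 lc_f_rc_30_1 lc_f_rc_15_1 lc_f_rc_30_1 lc_f_rc_23_1 lc_f_rc_36_3 lc_f_rc_15_1 lc_f_Cert_tree lc_f_rc_30_1 lc_f_rc_15_1) (@D3.rec (fun _ => (Cert rels S Gen.f)) lc_f_Cert_tree lc_f_rc_23_1 lc_f_rc_43_0 lc_f_rc_46_2 lc_f_rc_42_2 lc_f_rc_6_3 lc_f_rc_44_2 lc_f_rc_42_2 lc_f_rc_23_1 lc_f_rc_43_0 lc_f_rc_46_2 lc_f_rc_42_2 lc_f_rc_30_1 lc_f_rc_36_3 lc_f_rc_42_2 lc_f_rc_46_2 lc_f_rc_42_2 lc_f_rc_42_2 lc_f_rc_44_2 lc_f_rc_46_2 lc_f_rc_42_2 lc_f_rc_30_1 lc_f_rc_42_2 lc_f_rc_30_1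 lc_f_rc_30_1 lc_f_rc_30_1 lc_f_rc_23_3 lc_f_rc_30_1 lc_f_rc_43_0 lc_f_rc_46_2 lc_f_rc_42_2 lc_f_rc_15_3 lc_f_rc_46_2 lc_f_rc_42_2 lc_f_rc_30_1 lc_f_rc_36_3 lc_f_rc_15_1 lc_f_rc_43_0 lc_f_rc_43_1 lc_f_rc_46_2 lc_f_rc_46_2 lc_f_rc_42_2 lc_f_rc_30_1 lc_f_rc_42_2 lc_f_rc_30_1 lc_f_rc_46_2 lc_f_rc_42_2 lc_f_rc_30_1 lc_f_rc_44_2 lc_f_rc_42_2 lc_f_rc_30_1) (@D3.rec (fun _ => (Cert rels S Gen.f)) lc_f_rc_30_1 lc_f_rc_42_2 lc_f_rc_30_1 lc_f_Cert_tree lc_f_rc_30_1 lc_f_rc_23_1 lc_f_rc_15_3 lc_f_rc_23_1 lc_f_rc_43_0 lc_f_rc_42_2 lc_f_rc_30_1 lc_f_rc_23_1 lc_f_rc_23_1 lc_f_rc_36_3 lc_f_rc_15_1 lc_f_rc_30_1 lc_f_rc_15_1 lc_f_rc_15_1 lc_f_rc_15_1 lc_f_rc_30_1 lc_f_rc_46_2 lc_f_rc_36_5 lc_f_rc_30_1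 lc_f_Cert_tree lc_f_Cert_tree lc_f_rc_43_0 lc_f_rc_45_2 lc_f_rc_46_2 lc_f_rc_15_3 lc_f_rc_42_2 lc_f_rc_42_2 lc_f_rc_23_1 lc_f_Cert_tree lc_f_rc_6_1 lc_f_rc_45_2 lc_f_rc_23_1 lc_f_rc_46_2 lc_f_rc_42_2 lc_f_rc_6_1 lc_f_rc_46_2 lc_f_rc_42_2 lc_f_rc_46_2 lc_f_rc_42_2 lc_f_rc_42_2 lc_f_rc_30_1 lc_f_rc_42_2 lc_f_rc_30_1 lc_f_rc_30_1 lc_f_rc_43_0 lc_f_rc_46_2 lc_f_rc_42_2) (@D3.rec (fun _ => (Cert rels S Gen.f)) lc_f_rc_46_2 lc_f_rc_42_2 lc_f_rc_30_1 lc_f_rc_36_3 lc_f_rc_42_2 lc_f_rc_46_2 lc_f_rc_42_2 lc_f_rc_30_1 lc_f_rc_42_2 lc_f_rc_30_1 lc_f_rc_43_0 lc_f_rc_46_2 lc_f_rc_42_2 lc_f_rc_6_3 lc_f_rc_6_3 lc_f_rc_30_1 lc_f_rc_42_0 lc_f_rc_36_3 lc_f_rc_42_2 lc_f_rc_30_1 lc_f_rc_46_2 lc_f_rc_42_2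 lc_f_rc_30_1 lc_f_rc_42_2 lc_f_rc_30_1 lc_f_rc_42_2 lc_f_rc_30_1 lc_f_rc_36_3 lc_f_rc_30_1 lc_f_rc_36_3 lc_f_rc_15_1 lc_f_Cert_tree lc_f_rc_23_1 lc_f_rc_43_0 lc_f_rc_46_2 lc_f_rc_42_2 lc_f_rc_6_1 lc_f_rc_30_1 lc_f_rc_15_1 lc_f_rc_6_3 lc_f_rc_43_0 lc_f_rc_46_2 lc_f_rc_23_1 lc_f_rc_46_2 lc_f_rc_42_2 lc_f_rc_43_0 lc_f_rc_46_2 lc_f_rc_15_1 lc_f_rc_36_3 lc_f_rc_15_1 lc_f_rc_30_1) (@D3.rec (fun _ => (Cert rels S Gen.f)) lc_f_rc_46_2 lc_f_rc_42_2 lc_f_rc_44_2 lc_f_rc_46_2 lc_f_rc_42_2 lc_f_rc_6_1 lc_f_rc_36_3 lc_f_rc_15_1 lc_f_rc_43_0 lc_f_rc_44_0 lc_f_rc_46_2 lc_f_rc_46_2 lc_f_rc_42_2 lc_f_rc_30_1 lc_f_rc_6_1 lc_f_rc_44_2 lc_f_rc_42_2 lc_f_rc_30_1 lc_f_rc_15_1 lc_f_rc_30_1 lc_f_rc_44_2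 lc_f_rc_42_2 lc_f_rc_30_1 lc_f_rc_30_1 lc_f_rc_42_2 lc_f_Cert_tree lc_f_rc_46_2 lc_f_rc_42_2 lc_f_rc_30_1 lc_f_rc_23_1 lc_f_rc_42_2 lc_f_rc_30_1 lc_f_rc_44_2 lc_f_rc_46_2 lc_f_rc_42_2 lc_f_rc_36_3 lc_f_rc_6_1 lc_f_rc_46_2 lc_f_rc_15_1 lc_f_rc_6_1 lc_f_rc_30_1 lc_f_rc_45_2 lc_f_rc_46_2 lc_f_rc_42_2 lc_f_rc_30_1 lc_f_rc_30_1 lc_f_rc_36_3 lc_f_rc_6_1 lc_f_rc_42_2 lc_f_rc_30_3 lc_f_rc_46_2) (@D3.rec (fun _ => (Cert rels S Gen.f)) lc_f_rc_42_2 lc_f_rc_30_1 lc_f_rc_44_0 lc_f_rc_42_2 lc_f_rc_23_1 lc_f_rc_23_1 lc_f_rc_42_2 lc_f_rc_30_1 lc_f_Cert_tree lc_f_rc_45_2 lc_f_rc_36_3 lc_f_rc_30_1 lc_f_rc_23_1 lc_f_rc_6_1 lc_f_rc_30_1 lc_f_Cert_tree lc_f_rc_44_2 lc_f_rc_36_5 lc_f_rc_30_1 lc_f_rc_23_1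 lc_f_rc_6_1 lc_f_rc_42_2 lc_f_Cert_tree lc_f_rc_23_1 lc_f_rc_42_2 lc_f_rc_43_0 lc_f_rc_42_2 lc_f_rc_30_1 lc_f_rc_23_1 lc_f_rc_36_3 lc_f_rc_15_1 lc_f_rc_42_2 lc_f_rc_44_2 lc_f_rc_30_1 lc_f_rc_42_2 lc_f_rc_44_2 lc_f_rc_23_1 lc_f_rc_36_3 lc_f_rc_15_1 lc_f_rc_30_1 lc_f_rc_23_1 lc_f_rc_36_3 lc_f_rc_15_1 lc_f_rc_23_1 lc_f_rc_23_1 lc_f_rc_6_1 lc_f_rc_30_1 lc_f_Cert_tree lc_f_rc_36_1 lc_f_rc_45_2 lc_f_rc_46_2)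
def ce_f_16 : D2 → D3 → (Cert rels S Gen.f) := @D2.rec (fun _ => D3 → (Cert rels S Gen.f)) (@D3.rec (fun _ => (Cert rels S Gen.f)) lc_f_rc_42_2 lc_f_rc_30_1 lc_f_Cert_tree lc_f_rc_46_2 lc_f_rc_42_2 lc_f_Cert_tree lc_f_rc_43_0 lc_f_rc_6_1 lc_f_rc_43_0 lc_f_rc_43_0 lc_f_rc_44_2 lc_f_rc_42_2 lc_f_rc_42_2 lc_f_rc_46_2 lc_f_rc_6_3 lc_f_rc_42_2 lc_f_rc_30_1 lc_f_rc_30_1 lc_f_rc_45_0 lc_f_rc_30_1 lc_f_rc_42_2 lc_f_rc_30_1 lc_f_rc_30_1 lc_f_rc_15_1 lc_f_rc_30_1 lc_f_rc_45_2 lc_f_rc_15_1 lc_f_rc_30_1 lc_f_rc_15_1 lc_f_rc_42_2 lc_f_rc_15_1 lc_f_rc_30_1 lc_f_rc_30_1 lc_f_rc_46_2 lc_f_rc_42_2 lc_f_rc_30_1 lc_f_rc_45_2 lc_f_rc_45_2 lc_f_rc_23_1 lc_f_rc_45_0 lc_f_rc_45_2 lc_f_rc_44_4 lc_f_rc_30_1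 lc_f_rc_15_1 lc_f_rc_45_2 lc_f_rc_45_2 lc_f_rc_30_1 lc_f_rc_23_1 lc_f_rc_45_2 lc_f_rc_30_1 lc_f_rc_30_1) (@D3.rec (fun _ => (Cert rels S Gen.f)) lc_f_rc_45_0 lc_f_rc_30_1 lc_f_rc_45_2 lc_f_rc_45_2 lc_f_rc_43_0 lc_f_rc_36_3 lc_f_rc_46_2 lc_f_rc_44_2 lc_f_rc_42_2 lc_f_rc_42_2 lc_f_rc_36_3 lc_f_rc_46_2 lc_f_rc_36_3 lc_f_rc_23_1 lc_f_rc_43_0 lc_f_rc_46_2 lc_f_rc_42_2 lc_f_rc_42_2 lc_f_rc_42_2 lc_f_rc_46_2 lc_f_rc_42_2 lc_f_rc_30_1 lc_f_rc_30_1 lc_f_rc_36_3 lc_f_rc_46_2 lc_f_rc_36_3 lc_f_rc_42_2 lc_f_rc_36_3 lc_f_rc_42_2 lc_f_rc_46_2 lc_f_rc_42_2 lc_f_rc_30_1 lc_f_rc_42_2 lc_f_rc_30_1 lc_f_rc_30_1 lc_f_rc_30_1 lc_f_Cert_tree lc_f_rc_23_1 lc_f_rc_43_0 lc_f_rc_46_2 lc_f_rc_42_2 lc_f_rc_44_2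 lc_f_rc_42_2 lc_f_rc_36_3 lc_f_rc_15_1 lc_f_rc_23_3 lc_f_rc_44_4 lc_f_rc_42_2 lc_f_rc_36_3 lc_f_rc_46_2 lc_f_rc_42_2) (@D3.rec (fun _ => (Cert rels S Gen.f)) lc_f_rc_15_1 lc_f_rc_30_1 lc_f_rc_46_2 lc_f_rc_42_2 lc_f_rc_30_1 lc_f_rc_15_1 lc_f_rc_36_3 lc_f_rc_42_2 lc_f_rc_30_1 lc_f_rc_23_1 lc_f_rc_44_4 lc_f_rc_44_2 lc_f_rc_36_3 lc_f_rc_36_3 lc_f_rc_15_1 lc_f_rc_46_2 lc_f_rc_36_3 lc_f_rc_30_1 lc_f_rc_30_1 lc_f_rc_42_2 lc_f_rc_30_1 lc_f_rc_30_1 lc_f_Cert_tree lc_f_rc_42_2 lc_f_rc_30_1 lc_f_rc_23_1 lc_f_rc_42_2 lc_f_rc_30_1 lc_f_rc_30_1 lc_f_rc_23_1 lc_f_rc_36_3 lc_f_rc_30_1 lc_f_rc_6_1 lc_f_rc_23_1 lc_f_Cert_tree lc_f_rc_43_0 lc_f_rc_46_2 lc_f_rc_42_2 lc_f_rc_30_3 lc_f_rc_42_2 lc_f_rc_36_3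 lc_f_rc_15_1 lc_f_rc_44_2 lc_f_rc_36_3 lc_f_rc_42_2 lc_f_rc_36_3 lc_f_rc_15_1 lc_f_rc_30_1 lc_f_rc_6_3 lc_f_rc_30_1 lc_f_Cert_tree) (@D3.rec (fun _ => (Cert rels S Gen.f)) lc_f_rc_23_1 lc_f_rc_43_0 lc_f_rc_46_2 lc_f_rc_42_2 lc_f_rc_36_3 lc_f_rc_23_1 lc_f_rc_44_2 lc_f_rc_42_2 lc_f_rc_36_3 lc_f_rc_15_1 lc_f_rc_15_1 lc_f_rc_43_0 lc_f_rc_46_2 lc_f_rc_42_2 lc_f_rc_46_2 lc_f_rc_42_2 lc_f_rc_42_2 lc_f_rc_15_1 lc_f_rc_46_2 lc_f_rc_42_2 lc_f_rc_30_1 lc_f_rc_42_2 lc_f_rc_30_1 lc_f_rc_15_1 lc_f_rc_36_1 lc_f_rc_23_1 lc_f_rc_36_3 lc_f_rc_42_2 lc_f_rc_44_2 lc_f_rc_42_2 lc_f_rc_44_2 lc_f_rc_46_2 lc_f_rc_42_2 lc_f_rc_6_1 lc_f_rc_44_2 lc_f_rc_15_1 lc_f_rc_46_2 lc_f_rc_42_2 lc_f_rc_30_1 lc_f_rc_42_2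 lc_f_rc_30_1 lc_f_rc_42_2 lc_f_rc_6_1 lc_f_rc_30_1 lc_f_rc_42_2 lc_f_rc_30_1 lc_f_Cert_tree lc_f_rc_30_1 lc_f_rc_23_1 lc_f_rc_42_0 lc_f_rc_36_1) (@D3.rec (fun _ => (Cert rels S Gen.f)) lc_f_rc_30_1 lc_f_rc_36_1 lc_f_rc_44_2 lc_f_rc_23_1 lc_f_rc_36_3 lc_f_rc_30_1 lc_f_Cert_tree lc_f_rc_23_1 lc_f_Cert_tree lc_f_rc_43_0 lc_f_Cert_tree lc_f_rc_23_1 lc_f_rc_43_0 lc_f_rc_46_2 lc_f_rc_42_2 lc_f_rc_23_1 lc_f_rc_15_1 lc_f_rc_15_1 lc_f_rc_43_0 lc_f_rc_46_2 lc_f_rc_23_1 lc_f_rc_46_2 lc_f_rc_42_2 lc_f_rc_36_3 lc_f_rc_42_2 lc_f_rc_6_1 lc_f_rc_44_2 lc_f_rc_42_2 lc_f_rc_46_2 lc_f_rc_42_2 lc_f_rc_30_1 lc_f_rc_36_3 lc_f_rc_15_1 lc_f_rc_45_0 lc_f_rc_30_3 lc_f_rc_46_2 lc_f_rc_42_2 lc_f_rc_30_1 lc_f_rc_36_3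 lc_f_rc_42_2 lc_f_rc_30_1 lc_f_rc_30_1 lc_f_rc_42_2 lc_f_rc_30_1 lc_f_rc_30_1 lc_f_rc_42_2 lc_f_rc_30_1 lc_f_Cert_tree lc_f_rc_42_2 lc_f_rc_30_1 lc_f_rc_23_1) (@D3.rec (fun _ => (Cert rels S Gen.f)) lc_f_rc_23_1 lc_f_rc_30_1 lc_f_rc_46_2 lc_f_rc_42_2 lc_f_rc_43_0 lc_f_rc_43_1 lc_f_rc_46_2 lc_f_rc_46_2 lc_f_rc_42_2 lc_f_rc_30_1 lc_f_rc_42_2 lc_f_rc_30_1 lc_f_rc_30_1 lc_f_rc_36_3 lc_f_rc_6_1 lc_f_rc_43_0 lc_f_rc_42_2 lc_f_rc_46_2 lc_f_rc_46_2 lc_f_rc_42_2 lc_f_rc_30_1 lc_f_rc_42_2 lc_f_rc_46_2 lc_f_rc_46_2 lc_f_rc_42_2 lc_f_rc_23_1 lc_f_rc_42_2 lc_f_rc_30_1 lc_f_Cert_tree lc_f_rc_45_2 lc_f_rc_36_3 lc_f_rc_30_1 lc_f_rc_23_1 lc_f_rc_42_2 lc_f_rc_30_1 lc_f_rc_30_1 lc_f_rc_42_2 lc_f_rc_30_1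 lc_f_Cert_tree lc_f_rc_42_2 lc_f_rc_30_1 lc_f_rc_23_1 lc_f_Cert_tree lc_f_rc_43_0 lc_f_rc_42_2 lc_f_rc_30_1 lc_f_rc_23_1 lc_f_rc_36_3 lc_f_rc_36_5 lc_f_rc_23_1 lc_f_rc_30_1) (@D3.rec (fun _ => (Cert rels S Gen.f)) lc_f_rc_44_0 lc_f_rc_23_1 lc_f_rc_6_1 lc_f_rc_15_1 lc_f_rc_23_1 lc_f_rc_46_2 lc_f_rc_42_2 lc_f_rc_45_2 lc_f_rc_15_3 lc_f_rc_6_1 lc_f_rc_6_1 lc_f_rc_15_1 lc_f_rc_15_1 lc_f_rc_15_1 lc_f_rc_6_3 lc_f_rc_46_2 lc_f_rc_30_1 lc_f_rc_23_1 lc_f_Cert_tree lc_f_rc_43_0 lc_f_rc_36_3 lc_f_rc_42_2 lc_f_rc_36_3 lc_f_rc_42_2 lc_f_rc_36_3 lc_f_rc_46_2 lc_f_rc_30_1 lc_f_rc_46_2 lc_f_rc_30_1 lc_f_rc_6_3 lc_f_rc_42_2 lc_f_rc_30_1 lc_f_rc_23_3 lc_f_rc_30_1 lc_f_rc_36_3 lc_f_rc_43_0 lc_f_rc_46_2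 lc_f_rc_42_2 lc_f_rc_30_1 lc_f_rc_23_1 lc_f_rc_46_2 lc_f_rc_42_2 lc_f_rc_43_0 lc_f_rc_46_2 lc_f_rc_30_1 lc_f_rc_46_2 lc_f_rc_42_2 lc_f_rc_42_2 lc_f_rc_30_1 lc_f_rc_42_2 lc_f_rc_30_1) (@D3.rec (fun _ => (Cert rels S Gen.f)) lc_f_rc_30_1 lc_f_rc_6_3 lc_f_rc_42_2 lc_f_rc_46_2 lc_f_rc_42_2 lc_f_rc_15_3 lc_f_rc_42_2 lc_f_rc_30_1 lc_f_rc_44_0 lc_f_rc_15_3 lc_f_rc_42_2 lc_f_rc_30_1 lc_f_rc_45_2 lc_f_rc_44_2 lc_f_rc_30_1 lc_f_rc_23_1 lc_f_rc_30_1 lc_f_rc_42_2 lc_f_rc_30_1 lc_f_rc_23_1 lc_f_rc_36_3 lc_f_rc_30_1 lc_f_rc_44_2 lc_f_rc_36_3 lc_f_rc_30_1 lc_f_rc_44_4 lc_f_rc_23_1 lc_f_rc_46_2 lc_f_rc_42_2 lc_f_rc_6_3 lc_f_rc_23_3 lc_f_rc_15_1 lc_f_rc_45_2 lc_f_rc_42_2 lc_f_rc_45_2 lc_f_rc_46_2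 lc_f_rc_15_1 lc_f_rc_30_1 lc_f_rc_30_1 lc_f_rc_30_1 lc_f_rc_43_0 lc_f_rc_46_2 lc_f_rc_42_2 lc_f_rc_43_0 lc_f_rc_46_2 lc_f_rc_23_1 lc_f_rc_46_2 lc_f_rc_42_2 lc_f_rc_43_0 lc_f_rc_46_2 lc_f_rc_46_2) (@D3.rec (fun _ => (Cert rels S Gen.f)) lc_f_rc_44_2 lc_f_rc_46_2 lc_f_rc_42_2 lc_f_rc_42_2 lc_f_rc_30_1 lc_f_rc_44_2 lc_f_rc_42_2 lc_f_rc_30_1 lc_f_rc_30_1 lc_f_rc_23_1 lc_f_rc_43_0 lc_f_rc_46_2 lc_f_rc_42_2 lc_f_rc_46_2 lc_f_rc_42_2 lc_f_rc_43_0 lc_f_rc_46_2 lc_f_rc_30_1 lc_f_rc_46_2 lc_f_rc_42_2 lc_f_rc_15_3 lc_f_rc_42_2 lc_f_rc_30_1 lc_f_rc_23_1 lc_f_rc_30_1 lc_f_rc_36_3 lc_f_rc_42_2 lc_f_rc_46_2 lc_f_rc_46_2 lc_f_rc_42_2 lc_f_rc_42_2 lc_f_rc_30_1 lc_f_rc_30_1 lc_f_rc_23_1 lc_f_rc_44_2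 lc_f_rc_42_2 lc_f_rc_30_1 lc_f_rc_42_2 lc_f_rc_30_1 lc_f_rc_23_1 lc_f_rc_30_1 lc_f_rc_23_1 lc_f_rc_23_1 lc_f_rc_36_3 lc_f_rc_44_2 lc_f_rc_23_1 lc_f_rc_30_1 lc_f_rc_36_3 lc_f_rc_42_2 lc_f_rc_6_1 lc_f_rc_23_1) (@D3.rec (fun _ => (Cert rels S Gen.f)) lc_f_rc_15_1 lc_f_rc_46_2 lc_f_rc_6_3 lc_f_rc_6_1 lc_f_rc_6_1 lc_f_rc_15_1 lc_f_rc_43_0 lc_f_rc_46_2 lc_f_rc_23_1 lc_f_rc_23_1 lc_f_rc_46_2 lc_f_rc_42_2 lc_f_rc_6_3 lc_f_rc_6_1 lc_f_rc_6_1 lc_f_rc_43_0 lc_f_rc_46_2 lc_f_rc_15_1 lc_f_rc_43_0 lc_f_rc_23_3 lc_f_rc_46_2 lc_f_rc_23_1 lc_f_rc_46_2 lc_f_rc_42_2 lc_f_rc_30_1 lc_f_rc_46_2 lc_f_rc_42_2 lc_f_rc_30_1 lc_f_rc_6_3 lc_f_rc_46_2 lc_f_rc_44_2 lc_f_rc_46_2 lc_f_rc_42_2 lc_f_rc_36_3 lc_f_rc_15_1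 lc_f_rc_6_3 lc_f_rc_46_2 lc_f_rc_42_2 lc_f_rc_6_1 lc_f_rc_46_2 lc_f_rc_42_2 lc_f_rc_30_1 lc_f_rc_30_1 lc_f_rc_36_3 lc_f_rc_42_2 lc_f_rc_46_2 lc_f_rc_46_2 lc_f_rc_42_2 lc_f_rc_44_2 lc_f_rc_42_2 lc_f_rc_30_1) (@D3.rec (fun _ => (Cert rels S Gen.f)) lc_f_rc_45_2 lc_f_rc_44_2 lc_f_rc_30_1 lc_f_rc_23_1 lc_f_rc_23_1 lc_f_rc_42_2 lc_f_rc_30_1 lc_f_rc_45_2 lc_f_rc_42_2 lc_f_rc_30_1 lc_f_rc_23_1 lc_f_rc_23_1 lc_f_rc_42_2 lc_f_rc_30_1 lc_f_rc_42_2 lc_f_rc_30_1 lc_f_rc_23_1 lc_f_rc_36_3 lc_f_rc_15_1 lc_f_rc_42_2 lc_f_rc_30_1 lc_f_rc_23_1 lc_f_rc_46_2 lc_f_rc_15_1 lc_f_rc_46_2 lc_f_rc_23_1 lc_f_rc_46_2 lc_f_rc_42_2 lc_f_rc_30_1 lc_f_rc_46_2 lc_f_rc_42_2 lc_f_rc_30_1 lc_f_rc_36_3 lc_f_rc_6_1 lc_f_rc_43_0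 lc_f_rc_46_2 lc_f_rc_46_2 lc_f_rc_42_2 lc_f_rc_30_1 lc_f_rc_44_2 lc_f_rc_42_2 lc_f_rc_46_2 lc_f_rc_46_2 lc_f_rc_42_2 lc_f_rc_23_1 lc_f_rc_23_1 lc_f_rc_42_2 lc_f_rc_30_1 lc_f_rc_46_2 lc_f_rc_15_3 lc_f_rc_42_2) (@D3.rec (fun _ => (Cert rels S Gen.f)) lc_f_rc_30_1 lc_f_rc_23_1 lc_f_rc_36_3 lc_f_rc_15_1 lc_f_rc_46_2 lc_f_rc_42_2 lc_f_rc_15_1 lc_f_rc_42_2 lc_f_rc_30_1 lc_f_rc_36_3 lc_f_rc_45_2 lc_f_rc_42_2 lc_f_rc_30_1 lc_f_rc_46_2 lc_f_rc_42_2 lc_f_rc_42_2 lc_f_rc_30_1 lc_f_rc_23_1 lc_f_rc_36_3 lc_f_rc_30_1 lc_f_rc_23_1 lc_f_Cert_tree lc_f_rc_43_0 lc_f_rc_36_3 lc_f_rc_44_2 lc_f_rc_23_1 lc_f_rc_36_3 lc_f_rc_15_1 lc_f_rc_42_2 lc_f_rc_30_1 lc_f_rc_44_2 lc_f_rc_36_5 lc_f_rc_30_1 lc_f_rc_23_1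 lc_f_rc_46_2 lc_f_rc_42_2 lc_f_rc_44_2 lc_f_rc_23_1 lc_f_rc_36_3 lc_f_rc_15_1 lc_f_rc_15_1 lc_f_rc_15_1 lc_f_rc_30_1 lc_f_rc_42_2 lc_f_rc_30_1 lc_f_rc_23_1 lc_f_Cert_tree lc_f_rc_43_0 lc_f_rc_30_1 lc_f_rc_23_1 lc_f_rc_36_3) (@D3.rec (fun _ => (Cert rels S Gen.f)) lc_f_rc_15_1 lc_f_rc_23_1 lc_f_rc_6_1 lc_f_rc_15_1 lc_f_rc_30_1 lc_f_Cert_tree lc_f_rc_23_1 lc_f_rc_44_2 lc_f_rc_44_2 lc_f_Cert_tree lc_f_rc_15_1 lc_f_rc_23_1 lc_f_rc_6_1 lc_f_rc_23_1 lc_f_rc_45_2 lc_f_rc_36_3 lc_f_rc_6_1 lc_f_rc_36_3 lc_f_rc_30_1 lc_f_rc_46_2 lc_f_rc_30_1 lc_f_rc_23_1 lc_f_Cert_tree lc_f_Cert_tree lc_f_rc_43_0 lc_f_rc_30_1 lc_f_rc_15_1 lc_f_rc_30_1 lc_f_rc_6_1 lc_f_rc_15_1 lc_f_rc_15_1 lc_f_rc_6_1 lc_f_Cert_tree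 lc_f_rc_30_1 lc_f_rc_30_1 lc_f_rc_23_1 lc_f_rc_30_1 lc_f_rc_23_1 lc_f_rc_43_0 lc_f_rc_30_1 lc_f_rc_30_1 lc_f_rc_46_2 lc_f_rc_42_2 lc_f_rc_36_3 lc_f_rc_42_2 lc_f_rc_30_1 lc_f_rc_6_3 lc_f_rc_36_3 lc_f_rc_36_3 lc_f_rc_46_0 lc_f_rc_46_2) (@D3.rec (fun _ => (Cert rels S Gen.f)) lc_f_rc_42_2 lc_f_rc_46_2 lc_f_rc_42_2 lc_f_rc_36_3 lc_f_rc_42_2 lc_f_rc_30_1 lc_f_rc_36_3 lc_f_rc_30_1 lc_f_rc_23_1 lc_f_rc_42_2 lc_f_rc_30_1 lc_f_rc_42_2 lc_f_rc_30_1 lc_f_rc_30_1 lc_f_rc_23_1 lc_f_rc_15_1 lc_f_rc_42_2 lc_f_rc_36_3 lc_f_rc_30_1 lc_f_rc_30_1 lc_f_rc_6_1 lc_f_rc_6_1 lc_f_rc_36_3 lc_f_rc_30_1 lc_f_rc_30_1 lc_f_rc_36_3 lc_f_rc_23_1 lc_f_rc_36_3 lc_f_rc_42_2 lc_f_rc_36_3 lc_f_rc_43_0 lc_f_rc_43_0 lc_f_rc_36_3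 lc_f_rc_30_1 lc_f_rc_30_1 lc_f_rc_36_3 lc_f_rc_30_1 lc_f_rc_30_1 lc_f_rc_15_3 lc_f_rc_15_1 lc_f_rc_15_1 lc_f_rc_46_2 lc_f_rc_42_2 lc_f_rc_46_2 lc_f_rc_42_2 lc_f_rc_45_2 lc_f_rc_15_1 lc_f_rc_43_0 lc_f_rc_46_2 lc_f_rc_46_2 lc_f_rc_42_2) (@D3.rec (fun _ => (Cert rels S Gen.f)) lc_f_rc_30_1 lc_f_rc_42_2 lc_f_rc_30_1 lc_f_rc_30_1 lc_f_rc_36_3 lc_f_rc_30_1 lc_f_rc_46_2 lc_f_rc_42_2 lc_f_rc_42_2 lc_f_rc_30_1 lc_f_Cert_tree lc_f_rc_30_1 lc_f_rc_23_1 lc_f_rc_30_1 lc_f_rc_42_2 lc_f_rc_30_1 lc_f_Cert_tree lc_f_Cert_tree lc_f_rc_30_1 lc_f_rc_43_0 lc_f_rc_42_2 lc_f_rc_44_2 lc_f_rc_30_1 lc_f_rc_36_5 lc_f_rc_30_1 lc_f_Cert_tree lc_f_rc_15_1 lc_f_rc_15_1 lc_f_Cert_tree lc_f_rc_42_2 lc_f_Cert_tree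 lc_f_rc_43_0 lc_f_Cert_tree lc_f_rc_43_0 lc_f_rc_43_0 lc_f_rc_36_1 lc_f_rc_44_0 lc_f_rc_46_0 lc_f_rc_44_0 lc_f_rc_46_0 lc_f_rc_55_68 lc_f_rc_6_3 lc_f_rc_45_2 lc_f_rc_6_3 lc_f_rc_23_1 lc_f_rc_6_3 lc_f_rc_15_1 lc_f_rc_23_1 lc_f_rc_15_1 lc_f_rc_23_1 lc_f_rc_23_1) (@D3.rec (fun _ => (Cert rels S Gen.f)) lc_f_rc_23_1 lc_f_rc_30_1 lc_f_rc_42_0 lc_f_rc_6_3 lc_f_rc_46_2 lc_f_rc_42_2 lc_f_rc_30_1 lc_f_rc_46_2 lc_f_rc_46_2 lc_f_rc_42_2 lc_f_rc_42_2 lc_f_rc_30_1 lc_f_rc_36_3 lc_f_rc_44_2 lc_f_rc_30_1 lc_f_rc_23_1 lc_f_rc_30_1 lc_f_rc_42_2 lc_f_rc_46_2 lc_f_rc_42_2 lc_f_rc_30_1 lc_f_rc_42_2 lc_f_rc_30_1 lc_f_rc_46_2 lc_f_rc_42_2 lc_f_rc_30_1 lc_f_rc_42_2 lc_f_rc_46_2 lc_f_rc_46_2 lc_f_rc_42_2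 lc_f_rc_42_2 lc_f_rc_30_1 lc_f_Cert_tree lc_f_rc_30_1 lc_f_rc_23_1 lc_f_rc_46_2 lc_f_rc_42_2 lc_f_rc_46_2 lc_f_rc_46_2 lc_f_rc_42_2 lc_f_rc_36_3 lc_f_rc_42_2 lc_f_rc_30_1 lc_f_rc_36_3 lc_f_rc_44_2 lc_f_rc_46_2 lc_f_rc_42_2 lc_f_rc_42_2 lc_f_rc_30_1 lc_f_rc_23_1 lc_f_rc_36_3) (@D3.rec (fun _ => (Cert rels S Gen.f)) lc_f_rc_30_1 lc_f_rc_23_1 lc_f_Cert_tree lc_f_rc_43_0 lc_f_rc_36_3 lc_f_rc_44_2 lc_f_rc_23_1 lc_f_rc_15_1 lc_f_rc_46_2 lc_f_rc_42_2 lc_f_rc_42_2 lc_f_rc_30_1 lc_f_rc_30_1 lc_f_rc_43_0 lc_f_rc_42_2 lc_f_rc_30_1 lc_f_rc_15_1 lc_f_rc_30_1 lc_f_rc_42_2 lc_f_rc_30_1 lc_f_rc_36_3 lc_f_rc_36_3 lc_f_rc_30_1 lc_f_Cert_tree lc_f_rc_36_3 lc_f_rc_46_2 lc_f_rc_42_2 lc_f_Cert_tree lc_f_rc_43_0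 lc_f_rc_15_1 lc_f_rc_15_1 lc_f_rc_30_1 lc_f_rc_46_2 lc_f_Cert_tree lc_f_rc_43_0 lc_f_rc_44_2 lc_f_rc_45_2 lc_f_rc_45_2 lc_f_rc_23_1 lc_f_rc_43_0 lc_f_rc_36_3 lc_f_rc_36_3 lc_f_rc_36_3 lc_f_rc_30_1 lc_f_rc_42_2 lc_f_Cert_tree lc_f_rc_30_1 lc_f_Cert_tree lc_f_rc_43_0 lc_f_rc_6_1 lc_f_rc_30_1) (@D3.rec (fun _ => (Cert rels S Gen.f)) lc_f_rc_36_3 lc_f_rc_30_1 lc_f_rc_30_1 lc_f_Cert_tree lc_f_rc_30_1 lc_f_rc_42_2 lc_f_rc_46_2 lc_f_rc_46_2 lc_f_rc_42_2 lc_f_rc_42_2 lc_f_rc_30_1 lc_f_Cert_tree lc_f_rc_30_1 lc_f_rc_23_1 lc_f_rc_30_1 lc_f_Cert_tree lc_f_rc_43_0 lc_f_rc_44_2 lc_f_rc_46_2 lc_f_rc_42_2 lc_f_Cert_tree lc_f_rc_43_0 lc_f_rc_44_2 lc_f_rc_23_1 lc_f_rc_36_3 lc_f_rc_30_1 lc_f_rc_46_2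 lc_f_rc_42_2 lc_f_rc_42_2 lc_f_rc_42_0 lc_f_Cert_tree lc_f_rc_23_1 lc_f_rc_43_0 lc_f_rc_43_0 lc_f_rc_44_2 lc_f_rc_30_1 lc_f_rc_30_1 lc_f_rc_23_1 lc_f_rc_6_3 lc_f_Cert_tree lc_f_rc_23_1 lc_f_Cert_tree lc_f_rc_43_0 lc_f_rc_44_2 lc_f_rc_6_1 lc_f_rc_42_2 lc_f_rc_30_1 lc_f_rc_36_3 lc_f_rc_30_1 lc_f_rc_42_0 lc_f_rc_45_2) (@D3.rec (fun _ => (Cert rels S Gen.f)) lc_f_rc_23_1 lc_f_rc_36_3 lc_f_rc_6_1 lc_f_rc_6_1 lc_f_rc_42_2 lc_f_rc_30_1 lc_f_Cert_tree lc_f_rc_6_1 lc_f_rc_30_1 lc_f_rc_36_3 lc_f_rc_30_1 lc_f_rc_23_1 lc_f_Cert_tree lc_f_rc_43_0 lc_f_rc_42_2 lc_f_rc_44_2 lc_f_rc_23_1 lc_f_rc_15_1 lc_f_rc_43_0 lc_f_rc_44_2 lc_f_rc_6_3 lc_f_rc_44_2 lc_f_rc_15_1 lc_f_rc_15_1 lc_f_rc_45_2 lc_f_rc_43_0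 lc_f_rc_46_2 lc_f_rc_45_2 lc_f_rc_23_3 lc_f_rc_46_2 lc_f_rc_42_2 lc_f_rc_30_1 lc_f_rc_23_1 lc_f_rc_30_1 lc_f_rc_15_3 lc_f_rc_15_3 lc_f_rc_30_1 lc_f_rc_23_1 lc_f_rc_46_2 lc_f_rc_42_2 lc_f_rc_46_2 lc_f_rc_42_2 lc_f_rc_30_1 lc_f_rc_46_2 lc_f_rc_42_2 lc_f_rc_46_2 lc_f_rc_42_2 lc_f_rc_42_2 lc_f_rc_30_1 lc_f_rc_42_2 lc_f_rc_30_1) (@D3.rec (fun _ => (Cert rels S Gen.f)) lc_f_rc_23_1 lc_f_rc_46_2 lc_f_rc_42_2 lc_f_rc_42_2 lc_f_rc_30_1 lc_f_rc_42_2 lc_f_rc_30_1 lc_f_rc_30_1 lc_f_rc_23_1 lc_f_rc_23_1 lc_f_rc_15_1 lc_f_rc_42_2 lc_f_rc_30_1 lc_f_rc_30_1 lc_f_rc_30_1 lc_f_rc_46_2 lc_f_rc_23_1 lc_f_rc_30_1 lc_f_rc_42_2 lc_f_rc_30_1 lc_f_rc_23_1 lc_f_rc_44_2 lc_f_rc_42_2 lc_f_rc_30_1 lc_f_rc_42_2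 lc_f_rc_42_0 lc_f_rc_23_1 lc_f_rc_6_1 lc_f_rc_6_3 lc_f_rc_30_1 lc_f_rc_6_3 lc_f_rc_30_1 lc_f_rc_23_1 lc_f_rc_15_1 lc_f_rc_23_1 lc_f_rc_23_1 lc_f_rc_30_1 lc_f_rc_23_3 lc_f_rc_15_1 lc_f_rc_44_2 lc_f_rc_23_3 lc_f_rc_30_1 lc_f_rc_23_1 lc_f_rc_23_1 lc_f_rc_46_2 lc_f_rc_42_2 lc_f_rc_42_2 lc_f_rc_30_1 lc_f_rc_46_2 lc_f_rc_44_4 lc_f_rc_46_2) (@D3.rec (fun _ => (Cert rels S Gen.f)) lc_f_rc_23_1 lc_f_rc_36_3 lc_f_rc_23_3 lc_f_rc_46_2 lc_f_rc_42_2 lc_f_rc_42_2 lc_f_rc_30_1 lc_f_rc_30_1 lc_f_rc_15_1 lc_f_rc_46_2 lc_f_rc_42_2 lc_f_rc_42_2 lc_f_rc_30_1 lc_f_rc_15_1 lc_f_rc_44_2 lc_f_rc_30_1 lc_f_rc_23_1 lc_f_rc_45_2 lc_f_rc_44_2 lc_f_rc_23_1 lc_f_rc_15_1 lc_f_rc_15_1 lc_f_rc_30_1 lc_f_rc_23_1 lc_f_rc_42_2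 lc_f_rc_30_1 lc_f_rc_36_3 lc_f_rc_30_1 lc_f_rc_42_2 lc_f_rc_30_1 lc_f_rc_42_2 lc_f_rc_30_1 lc_f_rc_23_1 lc_f_rc_42_2 lc_f_rc_30_1 lc_f_rc_30_1 lc_f_rc_30_1 lc_f_rc_23_1 lc_f_Cert_tree lc_f_rc_43_0 lc_f_rc_23_3 lc_f_rc_30_1 lc_f_rc_23_1 lc_f_rc_15_1 lc_f_rc_42_2 lc_f_rc_30_1 lc_f_rc_15_1 lc_f_rc_15_1 lc_f_rc_30_1 lc_f_rc_23_1 lc_f_rc_46_2) (@D3.rec (fun _ => (Cert rels S Gen.f)) lc_f_rc_42_2 lc_f_rc_42_2 lc_f_rc_30_1 lc_f_rc_30_1 lc_f_rc_23_1 lc_f_rc_36_3 lc_f_rc_44_2 lc_f_rc_23_1 lc_f_Cert_tree lc_f_rc_15_1 lc_f_Cert_tree lc_f_rc_43_0 lc_f_rc_45_2 lc_f_rc_23_1 lc_f_rc_15_1 lc_f_rc_6_1 lc_f_rc_42_2 lc_f_rc_30_1 lc_f_rc_23_1 lc_f_Cert_tree lc_f_rc_43_0 lc_f_rc_42_2 lc_f_rc_30_1 lc_f_rc_23_1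 lc_f_rc_36_3 lc_f_rc_30_1 lc_f_rc_36_3 lc_f_rc_43_0 lc_f_rc_30_1 lc_f_rc_36_3 lc_f_rc_15_1 lc_f_rc_23_1 lc_f_rc_30_1 lc_f_rc_15_1 lc_f_rc_15_1 lc_f_rc_15_1 lc_f_rc_23_1 lc_f_rc_45_2 lc_f_rc_23_1 lc_f_rc_30_1 lc_f_rc_30_1 lc_f_rc_23_1 lc_f_rc_15_1 lc_f_rc_36_3 lc_f_rc_46_2 lc_f_rc_30_1 lc_f_rc_30_1 lc_f_rc_45_2 lc_f_Cert_tree lc_f_Cert_tree lc_f_rc_43_0) (@D3.rec (fun _ => (Cert rels S Gen.f)) lc_f_rc_43_0 lc_f_rc_36_3 lc_f_rc_36_3 lc_f_rc_23_1 lc_f_rc_46_2 lc_f_rc_23_1 lc_f_rc_15_1 lc_f_rc_46_2 lc_f_rc_42_2 lc_f_rc_42_2 lc_f_rc_30_1 lc_f_rc_46_2 lc_f_rc_42_2 lc_f_rc_46_2 lc_f_rc_42_2 lc_f_rc_42_2 lc_f_rc_30_1 lc_f_rc_42_2 lc_f_rc_42_2 lc_f_rc_46_2 lc_f_rc_42_2 lc_f_rc_42_2 lc_f_rc_30_1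 lc_f_rc_23_1 lc_f_rc_23_1 lc_f_rc_36_3 lc_f_rc_36_3 lc_f_rc_42_2 lc_f_rc_36_3 lc_f_rc_42_2 lc_f_rc_30_1 lc_f_rc_42_2 lc_f_rc_30_1 lc_f_rc_30_1 lc_f_rc_42_2 lc_f_rc_42_2 lc_f_rc_36_3 lc_f_rc_36_3 lc_f_rc_30_1 lc_f_rc_23_1 lc_f_rc_42_2 lc_f_rc_30_1 lc_f_rc_23_1 lc_f_rc_36_3 lc_f_rc_15_1 lc_f_rc_44_4 lc_f_rc_15_1 lc_f_rc_23_1 lc_f_rc_43_0 lc_f_rc_46_2 lc_f_rc_42_2) (@D3.rec (fun _ => (Cert rels S Gen.f)) lc_f_rc_15_3 lc_f_rc_15_1 lc_f_rc_23_1 lc_f_rc_43_0 lc_f_rc_46_2 lc_f_rc_23_1 lc_f_rc_46_2 lc_f_rc_42_2 lc_f_rc_30_1 lc_f_rc_30_1 lc_f_rc_6_1 lc_f_rc_45_2 lc_f_rc_42_2 lc_f_rc_45_0 lc_f_rc_46_2 lc_f_rc_42_2 lc_f_rc_30_3 lc_f_rc_30_1 lc_f_rc_36_3 lc_f_rc_30_1 lc_f_rc_42_2 lc_f_rc_30_1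 lc_f_rc_30_1 lc_f_rc_44_2 lc_f_rc_42_2 lc_f_rc_30_1 lc_f_Cert_tree lc_f_rc_30_1 lc_f_rc_23_1 lc_f_rc_23_3 lc_f_rc_46_2 lc_f_rc_42_2 lc_f_rc_30_1 lc_f_rc_30_1 lc_f_rc_42_2 lc_f_rc_30_1 lc_f_rc_6_1 lc_f_rc_30_1 lc_f_rc_36_3 lc_f_rc_30_1 lc_f_rc_42_2 lc_f_rc_46_2 lc_f_rc_46_2 lc_f_rc_42_2 lc_f_rc_42_2 lc_f_rc_30_1 lc_f_Cert_tree lc_f_rc_30_1 lc_f_rc_23_1 lc_f_rc_42_2 lc_f_rc_30_1) (@D3.rec (fun _ => (Cert rels S Gen.f)) lc_f_Cert_tree lc_f_rc_42_2 lc_f_rc_30_1 lc_f_rc_23_1 lc_f_rc_30_1 lc_f_rc_23_1 lc_f_Cert_tree lc_f_rc_43_0 lc_f_rc_23_1 lc_f_rc_36_3 lc_f_rc_30_3 lc_f_rc_44_2 lc_f_rc_23_1 lc_f_rc_36_3 lc_f_rc_15_1 lc_f_rc_23_1 lc_f_Cert_tree lc_f_rc_15_1 lc_f_rc_15_1 lc_f_rc_15_1 lc_f_rc_36_3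 lc_f_rc_46_2 lc_f_rc_42_2 lc_f_Cert_tree lc_f_rc_43_0 lc_f_rc_43_0 lc_f_rc_45_2 lc_f_rc_42_2 lc_f_rc_15_3 lc_f_rc_6_3 lc_f_rc_23_1 lc_f_rc_43_0 lc_f_rc_46_2 lc_f_rc_42_2 lc_f_rc_46_2 lc_f_rc_42_2 lc_f_rc_6_3 lc_f_rc_6_1 lc_f_rc_6_1 lc_f_rc_30_1 lc_f_rc_42_2 lc_f_rc_30_1 lc_f_rc_30_1 lc_f_rc_30_1 lc_f_rc_36_3 lc_f_rc_46_2 lc_f_rc_42_2 lc_f_rc_6_3 lc_f_rc_30_1 lc_f_rc_36_3 lc_f_rc_30_1) (@D3.rec (fun _ => (Cert rels S Gen.f)) lc_f_rc_42_2 lc_f_rc_30_1 lc_f_rc_30_1 lc_f_rc_46_2 lc_f_rc_42_2 lc_f_rc_30_1 lc_f_rc_30_1 lc_f_rc_36_3 lc_f_rc_36_3 lc_f_rc_36_3 lc_f_rc_30_1 lc_f_rc_23_1 lc_f_rc_42_2 lc_f_rc_30_1 lc_f_rc_36_3 lc_f_rc_30_1 lc_f_rc_30_1 lc_f_rc_44_2 lc_f_rc_45_2 lc_f_rc_15_1 lc_f_rc_23_1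 lc_f_rc_43_0 lc_f_rc_46_2 lc_f_rc_23_1 lc_f_rc_6_1 lc_f_rc_46_2 lc_f_rc_42_2 lc_f_rc_30_1 lc_f_rc_6_1 lc_f_rc_30_1 lc_f_rc_15_1 lc_f_rc_15_1 lc_f_rc_46_2 lc_f_rc_42_2 lc_f_rc_30_1 lc_f_rc_42_2 lc_f_rc_30_1 lc_f_rc_44_2 lc_f_rc_46_2 lc_f_rc_42_2 lc_f_rc_36_3 lc_f_rc_15_1 lc_f_rc_30_1 lc_f_rc_6_1 lc_f_rc_30_1 lc_f_rc_46_2 lc_f_rc_42_2 lc_f_rc_30_1 lc_f_rc_6_1 lc_f_rc_36_3 lc_f_rc_30_1) (@D3.rec (fun _ => (Cert rels S Gen.f)) lc_f_rc_46_2 lc_f_rc_46_2 lc_f_rc_42_2 lc_f_rc_42_2 lc_f_rc_30_1 lc_f_Cert_tree lc_f_rc_6_1 lc_f_rc_44_2 lc_f_rc_30_1 lc_f_rc_23_1 lc_f_rc_30_1 lc_f_Cert_tree lc_f_rc_42_2 lc_f_rc_30_1 lc_f_rc_23_1 lc_f_rc_43_0 lc_f_rc_42_2 lc_f_rc_30_1 lc_f_rc_23_1 lc_f_rc_36_3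 lc_f_rc_30_1 lc_f_rc_45_2 lc_f_rc_46_2 lc_f_rc_42_2 lc_f_rc_30_1 lc_f_rc_36_3 lc_f_rc_6_1 lc_f_rc_6_3 lc_f_rc_30_1 lc_f_rc_30_1 lc_f_Cert_tree lc_f_rc_46_2 lc_f_rc_42_2 lc_f_rc_30_1 lc_f_rc_23_1 lc_f_rc_30_1 lc_f_rc_36_3 lc_f_rc_6_1 lc_f_rc_46_2 lc_f_rc_42_2 lc_f_rc_42_2 lc_f_rc_30_1 lc_f_Cert_tree lc_f_rc_46_2 lc_f_rc_42_2 lc_f_rc_23_1 lc_f_rc_36_3 lc_f_rc_30_1 lc_f_rc_23_1 lc_f_Cert_tree lc_f_rc_43_0)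
def ce_f_17 : D2 → D3 → (Cert rels S Gen.f) := @D2.rec (fun _ => D3 → (Cert rels S Gen.f)) (@D3.rec (fun _ => (Cert rels S Gen.f)) lc_f_rc_36_3 lc_f_rc_44_2 lc_f_rc_23_1 lc_f_rc_36_3 lc_f_rc_15_1 lc_f_rc_6_1 lc_f_Cert_tree lc_f_rc_43_0 lc_f_rc_42_2 lc_f_rc_44_2 lc_f_rc_23_1 lc_f_rc_36_3 lc_f_rc_15_1 lc_f_rc_43_0 lc_f_rc_42_2 lc_f_rc_44_2 lc_f_rc_30_1 lc_f_rc_36_3 lc_f_rc_15_1 lc_f_rc_23_1 lc_f_rc_44_2 lc_f_Cert_tree lc_f_rc_15_1 lc_f_rc_23_1 lc_f_rc_23_1 lc_f_rc_45_2 lc_f_rc_36_3 lc_f_rc_15_1 lc_f_rc_30_1 lc_f_rc_44_2 lc_f_rc_43_0 lc_f_rc_36_1 lc_f_rc_6_1 lc_f_rc_46_2 lc_f_rc_42_2 lc_f_rc_36_3 lc_f_rc_43_0 lc_f_rc_46_2 lc_f_Cert_tree lc_f_rc_43_0 lc_f_rc_36_3 lc_f_rc_44_2 lc_f_rc_30_1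 lc_f_rc_30_1 lc_f_rc_44_2 lc_f_rc_30_1 lc_f_rc_30_1 lc_f_rc_45_0 lc_f_rc_30_1 lc_f_rc_45_0 lc_f_rc_23_1) (@D3.rec (fun _ => (Cert rels S Gen.f)) lc_f_rc_45_0 lc_f_rc_45_2 lc_f_rc_45_2 lc_f_rc_45_0 lc_f_rc_23_1 lc_f_rc_45_0 lc_f_rc_36_3 lc_f_rc_42_2 lc_f_rc_44_2 lc_f_rc_44_0 lc_f_rc_42_2 lc_f_rc_44_2 lc_f_rc_42_2 lc_f_rc_46_2 lc_f_rc_42_2 lc_f_rc_30_1 lc_f_rc_42_2 lc_f_rc_30_1 lc_f_rc_36_3 lc_f_rc_42_2 lc_f_rc_36_3 lc_f_rc_36_3 lc_f_rc_30_1 lc_f_rc_42_2 lc_f_rc_30_1 lc_f_rc_30_1 lc_f_rc_36_3 lc_f_rc_44_0 lc_f_rc_42_2 lc_f_rc_43_0 lc_f_rc_46_2 lc_f_rc_23_1 lc_f_rc_46_2 lc_f_rc_42_2 lc_f_rc_46_2 lc_f_rc_36_3 lc_f_rc_15_1 lc_f_rc_23_3 lc_f_rc_46_2 lc_f_rc_30_1 lc_f_rc_46_2 lc_f_rc_42_2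 lc_f_rc_30_1 lc_f_rc_30_1 lc_f_Cert_tree lc_f_rc_42_2 lc_f_rc_30_1 lc_f_rc_23_1 lc_f_rc_30_1 lc_f_rc_44_4 lc_f_rc_15_3) (@D3.rec (fun _ => (Cert rels S Gen.f)) lc_f_rc_36_3 lc_f_rc_30_1 lc_f_rc_6_1 lc_f_rc_30_1 lc_f_Cert_tree lc_f_rc_36_3 lc_f_rc_30_1 lc_f_rc_23_1 lc_f_rc_43_0 lc_f_rc_30_1 lc_f_rc_23_1 lc_f_rc_36_3 lc_f_rc_6_1 lc_f_rc_23_1 lc_f_rc_15_3 lc_f_rc_6_1 lc_f_rc_6_1 lc_f_rc_43_0 lc_f_rc_46_2 lc_f_rc_36_3 lc_f_rc_6_1 lc_f_rc_44_2 lc_f_rc_15_1 lc_f_rc_46_2 lc_f_rc_42_2 lc_f_rc_30_1 lc_f_rc_42_2 lc_f_rc_15_1 lc_f_rc_42_2 lc_f_rc_23_1 lc_f_rc_43_0 lc_f_rc_46_2 lc_f_rc_23_1 lc_f_rc_46_2 lc_f_rc_42_2 lc_f_rc_44_2 lc_f_rc_42_2 lc_f_rc_46_2 lc_f_rc_44_0 lc_f_rc_15_1 lc_f_rc_15_1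 lc_f_rc_46_2 lc_f_rc_42_2 lc_f_rc_30_1 lc_f_rc_42_2 lc_f_rc_30_1 lc_f_rc_30_1 lc_f_rc_42_2 lc_f_Cert_tree lc_f_rc_30_1 lc_f_rc_23_1) (@D3.rec (fun _ => (Cert rels S Gen.f)) lc_f_rc_42_2 lc_f_rc_6_3 lc_f_rc_44_2 lc_f_rc_42_2 lc_f_rc_30_1 lc_f_rc_6_1 lc_f_rc_15_3 lc_f_rc_30_1 lc_f_rc_42_2 lc_f_rc_30_1 lc_f_Cert_tree lc_f_rc_30_1 lc_f_rc_23_1 lc_f_rc_23_1 lc_f_Cert_tree lc_f_rc_30_1 lc_f_rc_23_1 lc_f_Cert_tree lc_f_rc_43_0 lc_f_rc_23_1 lc_f_rc_36_3 lc_f_rc_15_1 lc_f_rc_23_1 lc_f_Cert_tree lc_f_rc_43_0 lc_f_rc_43_0 lc_f_rc_30_3 lc_f_rc_43_0 lc_f_rc_46_2 lc_f_rc_23_1 lc_f_rc_46_2 lc_f_rc_42_2 lc_f_rc_46_2 lc_f_rc_15_1 lc_f_rc_55_23 lc_f_rc_15_1 lc_f_rc_46_2 lc_f_rc_42_2 lc_f_rc_30_1 lc_f_rc_42_2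 lc_f_rc_30_1 lc_f_rc_42_2 lc_f_rc_44_2 lc_f_rc_15_3 lc_f_rc_15_3 lc_f_rc_30_1 lc_f_rc_42_2 lc_f_rc_30_1 lc_f_rc_30_1 lc_f_rc_36_3 lc_f_rc_30_1) (@D3.rec (fun _ => (Cert rels S Gen.f)) lc_f_rc_46_2 lc_f_rc_42_2 lc_f_rc_42_2 lc_f_rc_30_1 lc_f_Cert_tree lc_f_rc_36_3 lc_f_rc_30_1 lc_f_rc_23_1 lc_f_rc_30_1 lc_f_Cert_tree lc_f_rc_30_1 lc_f_rc_43_0 lc_f_rc_30_1 lc_f_rc_23_1 lc_f_rc_36_3 lc_f_rc_42_2 lc_f_rc_30_1 lc_f_rc_42_2 lc_f_rc_46_2 lc_f_rc_46_2 lc_f_rc_42_2 lc_f_rc_42_2 lc_f_rc_30_1 lc_f_rc_15_3 lc_f_rc_30_1 lc_f_rc_23_1 lc_f_rc_30_1 lc_f_rc_36_3 lc_f_rc_46_2 lc_f_rc_46_2 lc_f_rc_42_2 lc_f_rc_42_2 lc_f_rc_30_1 lc_f_Cert_tree lc_f_rc_46_2 lc_f_rc_42_2 lc_f_rc_42_2 lc_f_rc_30_1 lc_f_rc_36_3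 lc_f_rc_30_1 lc_f_rc_23_1 lc_f_Cert_tree lc_f_rc_43_0 lc_f_rc_42_2 lc_f_rc_44_2 lc_f_rc_23_1 lc_f_rc_36_3 lc_f_rc_15_1 lc_f_rc_30_1 lc_f_rc_44_0 lc_f_rc_30_1) (@D3.rec (fun _ => (Cert rels S Gen.f)) lc_f_Cert_tree lc_f_rc_43_0 lc_f_rc_30_1 lc_f_rc_23_1 lc_f_Cert_tree lc_f_rc_43_0 lc_f_rc_36_1 lc_f_rc_45_0 lc_f_rc_23_1 lc_f_rc_6_1 lc_f_rc_23_3 lc_f_rc_6_3 lc_f_rc_46_2 lc_f_rc_30_1 lc_f_rc_44_2 lc_f_rc_6_1 lc_f_rc_6_1 lc_f_rc_15_1 lc_f_rc_30_1 lc_f_rc_30_1 lc_f_rc_30_1 lc_f_rc_42_2 lc_f_Cert_tree lc_f_Cert_tree lc_f_rc_43_0 lc_f_rc_36_3 lc_f_rc_36_3 lc_f_rc_30_1 lc_f_rc_30_1 lc_f_rc_46_2 lc_f_rc_23_3 lc_f_rc_6_3 lc_f_rc_30_1 lc_f_rc_23_1 lc_f_rc_36_3 lc_f_rc_46_2 lc_f_rc_42_2 lc_f_rc_42_2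 lc_f_rc_30_1 lc_f_rc_42_2 lc_f_rc_30_1 lc_f_rc_46_2 lc_f_rc_42_2 lc_f_rc_42_2 lc_f_rc_30_1 lc_f_rc_30_1 lc_f_rc_23_1 lc_f_rc_30_1 lc_f_rc_36_3 lc_f_rc_15_3 lc_f_rc_42_2) (@D3.rec (fun _ => (Cert rels S Gen.f)) lc_f_rc_30_1 lc_f_rc_30_1 lc_f_rc_30_1 lc_f_rc_23_1 lc_f_rc_30_1 lc_f_rc_15_3 lc_f_rc_30_1 lc_f_rc_23_1 lc_f_rc_45_2 lc_f_rc_30_1 lc_f_rc_23_1 lc_f_rc_36_3 lc_f_rc_15_1 lc_f_rc_36_3 lc_f_rc_30_1 lc_f_rc_44_4 lc_f_rc_23_1 lc_f_Cert_tree lc_f_rc_45_2 lc_f_rc_30_1 lc_f_rc_6_3 lc_f_rc_6_3 lc_f_rc_23_3 lc_f_rc_45_2 lc_f_rc_30_1 lc_f_rc_30_1 lc_f_rc_15_1 lc_f_rc_30_1 lc_f_rc_36_3 lc_f_rc_23_1 lc_f_rc_46_2 lc_f_rc_42_2 lc_f_rc_46_2 lc_f_rc_42_2 lc_f_rc_30_1 lc_f_rc_42_2 lc_f_rc_30_1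 lc_f_rc_46_2 lc_f_rc_42_2 lc_f_rc_46_2 lc_f_rc_42_2 lc_f_rc_30_1 lc_f_rc_30_1 lc_f_rc_23_1 lc_f_rc_42_2 lc_f_rc_30_1 lc_f_rc_23_1 lc_f_rc_23_1 lc_f_rc_46_2 lc_f_rc_46_2 lc_f_rc_42_2) (@D3.rec (fun _ => (Cert rels S Gen.f)) lc_f_rc_42_2 lc_f_rc_30_1 lc_f_rc_46_2 lc_f_rc_42_2 lc_f_rc_46_2 lc_f_rc_42_2 lc_f_rc_30_1 lc_f_rc_15_3 lc_f_rc_30_1 lc_f_rc_23_1 lc_f_rc_46_2 lc_f_rc_42_2 lc_f_rc_30_1 lc_f_rc_46_2 lc_f_rc_42_2 lc_f_rc_42_2 lc_f_rc_30_1 lc_f_rc_30_1 lc_f_rc_23_1 lc_f_rc_23_1 lc_f_rc_36_3 lc_f_rc_15_1 lc_f_rc_42_2 lc_f_rc_30_1 lc_f_rc_23_1 lc_f_rc_44_2 lc_f_rc_23_1 lc_f_rc_6_1 lc_f_rc_23_1 lc_f_rc_36_3 lc_f_rc_36_3 lc_f_rc_44_2 lc_f_Cert_tree lc_f_rc_23_1 lc_f_rc_30_1 lc_f_rc_6_1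 lc_f_rc_23_1 lc_f_rc_55_59 lc_f_rc_15_3 lc_f_rc_15_1 lc_f_rc_46_2 lc_f_rc_42_2 lc_f_rc_30_1 lc_f_rc_23_1 lc_f_rc_42_2 lc_f_rc_30_1 lc_f_rc_23_3 lc_f_rc_6_1 lc_f_rc_15_3 lc_f_rc_46_2 lc_f_rc_42_2) (@D3.rec (fun _ => (Cert rels S Gen.f)) lc_f_rc_15_1 lc_f_rc_46_2 lc_f_rc_23_3 lc_f_rc_42_2 lc_f_rc_6_1 lc_f_rc_42_2 lc_f_rc_30_1 lc_f_Cert_tree lc_f_rc_6_1 lc_f_rc_30_1 lc_f_rc_23_1 lc_f_rc_6_3 lc_f_rc_46_2 lc_f_rc_42_2 lc_f_rc_30_1 lc_f_rc_36_3 lc_f_rc_6_3 lc_f_rc_42_2 lc_f_rc_30_1 lc_f_rc_6_1 lc_f_rc_42_2 lc_f_rc_30_1 lc_f_rc_23_1 lc_f_rc_42_2 lc_f_rc_30_1 lc_f_rc_46_2 lc_f_rc_42_2 lc_f_rc_42_2 lc_f_rc_30_1 lc_f_rc_44_2 lc_f_rc_30_1 lc_f_rc_23_1 lc_f_rc_45_2 lc_f_rc_44_2 lc_f_rc_23_1 lc_f_rc_36_3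 lc_f_rc_15_1 lc_f_rc_42_2 lc_f_rc_30_1 lc_f_rc_42_2 lc_f_rc_44_2 lc_f_rc_23_1 lc_f_rc_36_3 lc_f_rc_15_1 lc_f_rc_42_2 lc_f_rc_36_3 lc_f_rc_30_1 lc_f_rc_23_1 lc_f_rc_36_3 lc_f_rc_15_1 lc_f_rc_36_3) (@D3.rec (fun _ => (Cert rels S Gen.f)) lc_f_rc_23_1 lc_f_rc_23_3 lc_f_rc_46_2 lc_f_rc_23_1 lc_f_rc_42_2 lc_f_rc_30_1 lc_f_Cert_tree lc_f_rc_42_2 lc_f_rc_30_1 lc_f_rc_23_1 lc_f_rc_36_3 lc_f_rc_46_2 lc_f_rc_42_2 lc_f_rc_30_1 lc_f_rc_46_2 lc_f_rc_46_2 lc_f_rc_42_2 lc_f_rc_42_2 lc_f_rc_30_1 lc_f_rc_23_1 lc_f_rc_42_2 lc_f_rc_30_1 lc_f_rc_23_1 lc_f_rc_42_0 lc_f_rc_15_3 lc_f_rc_30_1 lc_f_rc_23_1 lc_f_rc_36_3 lc_f_rc_15_1 lc_f_rc_30_1 lc_f_rc_15_1 lc_f_rc_42_2 lc_f_rc_30_1 lc_f_rc_15_1 lc_f_rc_30_1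 lc_f_rc_23_1 lc_f_rc_30_1 lc_f_rc_46_2 lc_f_rc_46_2 lc_f_rc_42_2 lc_f_rc_42_2 lc_f_rc_30_1 lc_f_rc_30_1 lc_f_rc_23_1 lc_f_Cert_tree lc_f_rc_36_3 lc_f_rc_44_2 lc_f_rc_23_1 lc_f_Cert_tree lc_f_rc_15_1 lc_f_Cert_tree) (@D3.rec (fun _ => (Cert rels S Gen.f)) lc_f_rc_43_0 lc_f_rc_45_2 lc_f_rc_23_1 lc_f_rc_30_1 lc_f_rc_15_1 lc_f_rc_23_1 lc_f_rc_6_1 lc_f_rc_30_1 lc_f_rc_42_2 lc_f_rc_44_2 lc_f_rc_23_1 lc_f_rc_15_3 lc_f_rc_44_2 lc_f_rc_44_2 lc_f_Cert_tree lc_f_rc_15_1 lc_f_rc_23_1 lc_f_rc_6_1 lc_f_rc_15_1 lc_f_rc_36_3 lc_f_rc_30_1 lc_f_Cert_tree lc_f_rc_36_3 lc_f_rc_43_0 lc_f_rc_23_1 lc_f_rc_45_2 lc_f_rc_36_3 lc_f_rc_6_1 lc_f_rc_36_3 lc_f_rc_30_1 lc_f_Cert_tree lc_f_rc_43_0 lc_f_rc_44_2 lc_f_rc_15_1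 lc_f_rc_15_1 lc_f_Cert_tree lc_f_rc_43_0 lc_f_rc_6_1 lc_f_rc_45_2 lc_f_rc_30_1 lc_f_rc_36_3 lc_f_rc_30_1 lc_f_rc_36_3 lc_f_rc_30_1 lc_f_rc_42_2 lc_f_rc_23_1 lc_f_rc_42_2 lc_f_Cert_tree lc_f_rc_43_0 lc_f_rc_43_0 lc_f_rc_30_1) (@D3.rec (fun _ => (Cert rels S Gen.f)) lc_f_rc_6_1 lc_f_rc_23_1 lc_f_Cert_tree lc_f_rc_43_0 lc_f_rc_23_1 lc_f_rc_46_2 lc_f_rc_23_1 lc_f_rc_42_2 lc_f_rc_30_1 lc_f_rc_23_1 lc_f_rc_23_1 lc_f_rc_46_2 lc_f_rc_6_3 lc_f_rc_23_1 lc_f_rc_42_2 lc_f_rc_30_1 lc_f_rc_42_2 lc_f_rc_30_1 lc_f_rc_42_2 lc_f_rc_30_1 lc_f_rc_23_1 lc_f_rc_44_2 lc_f_rc_23_1 lc_f_rc_15_1 lc_f_rc_30_1 lc_f_rc_30_1 lc_f_rc_6_3 lc_f_rc_23_1 lc_f_rc_15_1 lc_f_rc_42_2 lc_f_rc_30_1 lc_f_rc_23_1 lc_f_rc_23_1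 lc_f_rc_6_1 lc_f_rc_30_1 lc_f_rc_36_3 lc_f_rc_23_1 lc_f_rc_30_1 lc_f_rc_15_1 lc_f_rc_44_2 lc_f_rc_30_1 lc_f_rc_23_1 lc_f_rc_42_2 lc_f_rc_30_1 lc_f_rc_36_3 lc_f_rc_23_1 lc_f_rc_15_1 lc_f_rc_42_2 lc_f_rc_42_2 lc_f_rc_44_2 lc_f_rc_42_2) (@D3.rec (fun _ => (Cert rels S Gen.f)) lc_f_rc_30_1 lc_f_rc_45_2 lc_f_rc_30_1 lc_f_rc_46_2 lc_f_rc_42_2 lc_f_rc_42_2 lc_f_rc_30_1 lc_f_Cert_tree lc_f_rc_30_1 lc_f_rc_23_1 lc_f_rc_42_2 lc_f_rc_30_1 lc_f_Cert_tree lc_f_rc_42_2 lc_f_rc_30_1 lc_f_rc_30_1 lc_f_rc_23_1 lc_f_Cert_tree lc_f_rc_43_0 lc_f_rc_23_1 lc_f_rc_15_1 lc_f_Cert_tree lc_f_rc_30_1 lc_f_rc_43_0 lc_f_rc_43_0 lc_f_rc_36_3 lc_f_rc_44_2 lc_f_Cert_tree lc_f_Cert_tree lc_f_rc_42_2 lc_f_Cert_tree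 lc_f_rc_43_0 lc_f_rc_15_1 lc_f_rc_23_1 lc_f_Cert_tree lc_f_rc_43_0 lc_f_Cert_tree lc_f_rc_43_0 lc_f_rc_43_0 lc_f_rc_44_2 lc_f_rc_36_1 lc_f_rc_46_0 lc_f_rc_15_1 lc_f_rc_44_0 lc_f_rc_46_0 lc_f_rc_15_3 lc_f_rc_6_3 lc_f_rc_45_2 lc_f_rc_6_3 lc_f_rc_30_1 lc_f_rc_42_2) (@D3.rec (fun _ => (Cert rels S Gen.f)) lc_f_rc_30_1 lc_f_rc_23_1 lc_f_rc_30_1 lc_f_rc_44_2 lc_f_rc_23_1 lc_f_rc_23_3 lc_f_rc_36_3 lc_f_rc_6_3 lc_f_rc_42_2 lc_f_rc_42_2 lc_f_rc_30_1 lc_f_rc_36_3 lc_f_rc_42_2 lc_f_rc_23_1 lc_f_rc_30_1 lc_f_rc_30_1 lc_f_rc_23_1 lc_f_rc_30_1 lc_f_rc_44_2 lc_f_rc_23_1 lc_f_rc_15_1 lc_f_rc_42_2 lc_f_rc_30_1 lc_f_Cert_tree lc_f_rc_30_1 lc_f_rc_23_1 lc_f_rc_42_2 lc_f_rc_30_1 lc_f_rc_36_3 lc_f_rc_46_2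 lc_f_rc_42_2 lc_f_rc_42_2 lc_f_rc_30_1 lc_f_rc_30_1 lc_f_rc_23_1 lc_f_Cert_tree lc_f_rc_43_0 lc_f_rc_23_1 lc_f_rc_15_1 lc_f_rc_42_2 lc_f_rc_30_1 lc_f_rc_42_2 lc_f_rc_15_3 lc_f_rc_30_1 lc_f_rc_36_3 lc_f_rc_30_1 lc_f_rc_23_1 lc_f_rc_30_1 lc_f_rc_44_2 lc_f_rc_42_2 lc_f_rc_30_1) (@D3.rec (fun _ => (Cert rels S Gen.f)) lc_f_rc_30_1 lc_f_rc_23_1 lc_f_Cert_tree lc_f_rc_36_3 lc_f_rc_44_2 lc_f_rc_23_1 lc_f_rc_30_1 lc_f_rc_15_1 lc_f_Cert_tree lc_f_rc_43_0 lc_f_rc_45_2 lc_f_rc_23_1 lc_f_rc_15_1 lc_f_rc_6_1 lc_f_rc_42_2 lc_f_rc_30_1 lc_f_rc_30_1 lc_f_rc_36_3 lc_f_rc_44_2 lc_f_rc_30_1 lc_f_rc_36_3 lc_f_rc_30_1 lc_f_rc_36_3 lc_f_rc_43_0 lc_f_rc_46_2 lc_f_Cert_tree lc_f_rc_43_0 lc_f_rc_15_3 lc_f_rc_15_1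 lc_f_rc_42_2 lc_f_Cert_tree lc_f_rc_43_0 lc_f_rc_30_1 lc_f_rc_30_1 lc_f_rc_30_1 lc_f_Cert_tree lc_f_rc_23_1 lc_f_rc_43_0 lc_f_rc_36_3 lc_f_rc_43_0 lc_f_rc_6_1 lc_f_rc_42_2 lc_f_rc_30_1 lc_f_Cert_tree lc_f_rc_36_3 lc_f_rc_43_0 lc_f_rc_36_3 lc_f_rc_46_2 lc_f_rc_42_2 lc_f_rc_42_2 lc_f_rc_30_1) (@D3.rec (fun _ => (Cert rels S Gen.f)) lc_f_rc_30_1 lc_f_rc_23_1 lc_f_Cert_tree lc_f_rc_43_0 lc_f_rc_23_1 lc_f_rc_15_1 lc_f_Cert_tree lc_f_rc_43_0 lc_f_rc_44_2 lc_f_rc_46_2 lc_f_Cert_tree lc_f_rc_43_0 lc_f_rc_15_1 lc_f_rc_23_1 lc_f_rc_46_2 lc_f_rc_23_3 lc_f_rc_23_1 lc_f_rc_44_2 lc_f_rc_23_1 lc_f_rc_23_1 lc_f_Cert_tree lc_f_rc_43_0 lc_f_rc_15_1 lc_f_rc_15_1 lc_f_Cert_tree lc_f_rc_55_23 lc_f_rc_30_1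 lc_f_rc_23_1 lc_f_Cert_tree lc_f_rc_43_0 lc_f_rc_42_0 lc_f_rc_43_0 lc_f_rc_44_2 lc_f_rc_6_3 lc_f_rc_30_1 lc_f_rc_23_1 lc_f_rc_42_0 lc_f_rc_45_2 lc_f_rc_23_1 lc_f_rc_42_2 lc_f_rc_42_2 lc_f_rc_42_0 lc_f_rc_15_1 lc_f_rc_30_1 lc_f_rc_30_1 lc_f_rc_23_1 lc_f_Cert_tree lc_f_rc_43_0 lc_f_rc_30_1 lc_f_rc_23_1 lc_f_rc_36_3) (@D3.rec (fun _ => (Cert rels S Gen.f)) lc_f_rc_44_2 lc_f_rc_23_1 lc_f_rc_30_1 lc_f_rc_15_1 lc_f_Cert_tree lc_f_rc_43_0 lc_f_rc_44_2 lc_f_rc_23_1 lc_f_rc_15_1 lc_f_rc_6_1 lc_f_rc_45_2 lc_f_rc_45_2 lc_f_rc_42_2 lc_f_rc_30_1 lc_f_rc_23_1 lc_f_rc_15_1 lc_f_rc_30_1 lc_f_rc_30_1 lc_f_rc_23_1 lc_f_rc_23_1 lc_f_rc_15_1 lc_f_rc_42_2 lc_f_rc_30_1 lc_f_rc_42_2 lc_f_rc_30_1 lc_f_rc_23_1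 lc_f_rc_42_2 lc_f_rc_30_1 lc_f_rc_42_2 lc_f_rc_30_1 lc_f_rc_30_1 lc_f_rc_23_1 lc_f_rc_30_1 lc_f_rc_23_1 lc_f_rc_15_1 lc_f_rc_42_2 lc_f_rc_30_1 lc_f_rc_30_1 lc_f_rc_23_1 lc_f_rc_30_1 lc_f_rc_23_1 lc_f_rc_23_1 lc_f_rc_30_1 lc_f_rc_15_1 lc_f_rc_15_1 lc_f_rc_6_1 lc_f_rc_30_1 lc_f_rc_36_3 lc_f_rc_15_1 lc_f_rc_30_1 lc_f_rc_23_1) (@D3.rec (fun _ => (Cert rels S Gen.f)) lc_f_rc_23_1 lc_f_rc_23_1 lc_f_rc_15_1 lc_f_rc_36_5 lc_f_rc_30_1 lc_f_rc_23_1 lc_f_rc_42_0 lc_f_rc_23_1 lc_f_rc_15_1 lc_f_rc_30_1 lc_f_rc_30_1 lc_f_rc_23_1 lc_f_rc_30_1 lc_f_rc_23_1 lc_f_rc_15_1 lc_f_rc_6_1 lc_f_rc_23_1 lc_f_rc_30_1 lc_f_rc_42_2 lc_f_rc_30_1 lc_f_rc_23_1 lc_f_rc_45_2 lc_f_rc_44_2 lc_f_rc_23_3 lc_f_rc_6_3 lc_f_rc_30_1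 lc_f_rc_15_1 lc_f_rc_42_2 lc_f_rc_30_1 lc_f_rc_30_1 lc_f_rc_23_1 lc_f_rc_42_2 lc_f_rc_44_4 lc_f_rc_23_1 lc_f_rc_15_1 lc_f_rc_30_1 lc_f_rc_23_3 lc_f_rc_42_2 lc_f_rc_30_1 lc_f_rc_30_1 lc_f_rc_23_1 lc_f_rc_30_1 lc_f_rc_15_1 lc_f_rc_42_2 lc_f_rc_30_1 lc_f_rc_30_1 lc_f_rc_23_1 lc_f_rc_15_1 lc_f_rc_44_2 lc_f_rc_23_1 lc_f_rc_30_1) (@D3.rec (fun _ => (Cert rels S Gen.f)) lc_f_rc_15_1 lc_f_rc_45_2 lc_f_rc_23_1 lc_f_rc_15_1 lc_f_rc_6_1 lc_f_rc_23_1 lc_f_rc_23_1 lc_f_rc_36_3 lc_f_rc_30_1 lc_f_rc_36_3 lc_f_rc_30_1 lc_f_rc_23_1 lc_f_rc_30_1 lc_f_rc_23_1 lc_f_rc_36_3 lc_f_rc_15_1 lc_f_rc_30_1 lc_f_rc_23_1 lc_f_rc_23_1 lc_f_rc_23_1 lc_f_Cert_tree lc_f_rc_15_1 lc_f_Cert_tree lc_f_rc_43_0 lc_f_rc_15_1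 lc_f_rc_30_1 lc_f_rc_23_1 lc_f_rc_15_1 lc_f_rc_6_1 lc_f_rc_30_1 lc_f_rc_23_1 lc_f_rc_15_1 lc_f_rc_23_1 lc_f_rc_30_1 lc_f_rc_15_1 lc_f_rc_46_2 lc_f_rc_30_1 lc_f_rc_30_1 lc_f_rc_23_1 lc_f_rc_36_3 lc_f_rc_23_1 lc_f_rc_15_1 lc_f_rc_45_2 lc_f_rc_23_1 lc_f_Cert_tree lc_f_rc_15_1 lc_f_Cert_tree lc_f_rc_43_0 lc_f_rc_6_1 lc_f_Cert_tree lc_f_rc_43_0) (@D3.rec (fun _ => (Cert rels S Gen.f)) lc_f_rc_23_1 lc_f_rc_15_1 lc_f_rc_6_1 lc_f_rc_23_1 lc_f_rc_45_2 lc_f_rc_43_0 lc_f_rc_44_2 lc_f_rc_36_3 lc_f_rc_36_3 lc_f_rc_45_2 lc_f_rc_30_1 lc_f_rc_42_0 lc_f_rc_15_1 lc_f_rc_42_0 lc_f_rc_30_1 lc_f_rc_30_1 lc_f_rc_15_3 lc_f_rc_30_1 lc_f_rc_30_1 lc_f_rc_30_1 lc_f_Cert_tree lc_f_rc_30_3 lc_f_rc_43_0 lc_f_rc_43_0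 lc_f_rc_42_2 lc_f_rc_30_1 lc_f_rc_30_1 lc_f_rc_42_2 lc_f_rc_30_1 lc_f_rc_42_2 lc_f_rc_30_1 lc_f_rc_30_1 lc_f_rc_23_1 lc_f_rc_42_2 lc_f_rc_23_1 lc_f_rc_36_3 lc_f_rc_23_1 lc_f_rc_42_2 lc_f_rc_23_1 lc_f_rc_46_2 lc_f_rc_30_1 lc_f_rc_23_1 lc_f_rc_30_1 lc_f_rc_36_3 lc_f_rc_23_1 lc_f_rc_23_1 lc_f_rc_42_2 lc_f_rc_44_2 lc_f_rc_23_1 lc_f_rc_36_3 lc_f_rc_15_1) (@D3.rec (fun _ => (Cert rels S Gen.f)) lc_f_rc_45_0 lc_f_rc_15_1 lc_f_rc_23_1 lc_f_rc_15_1 lc_f_rc_30_1 lc_f_rc_46_2 lc_f_rc_42_2 lc_f_rc_15_3 lc_f_rc_15_1 lc_f_rc_46_2 lc_f_rc_46_2 lc_f_rc_42_2 lc_f_rc_30_1 lc_f_rc_42_2 lc_f_rc_30_1 lc_f_rc_30_3 lc_f_rc_23_3 lc_f_rc_45_2 lc_f_rc_30_1 lc_f_rc_46_2 lc_f_rc_42_2 lc_f_rc_30_1 lc_f_rc_30_3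 lc_f_rc_42_2 lc_f_rc_30_1 lc_f_Cert_tree lc_f_rc_30_1 lc_f_rc_23_1 lc_f_Cert_tree lc_f_rc_42_2 lc_f_rc_30_1 lc_f_rc_23_1 lc_f_rc_43_0 lc_f_rc_23_1 lc_f_rc_36_3 lc_f_rc_30_1 lc_f_rc_42_2 lc_f_rc_30_1 lc_f_Cert_tree lc_f_rc_42_2 lc_f_rc_30_1 lc_f_rc_23_1 lc_f_rc_15_3 lc_f_rc_42_2 lc_f_rc_30_1 lc_f_rc_36_3 lc_f_rc_46_2 lc_f_rc_42_2 lc_f_rc_42_2 lc_f_rc_30_1 lc_f_rc_30_1) (@D3.rec (fun _ => (Cert rels S Gen.f)) lc_f_rc_23_1 lc_f_Cert_tree lc_f_rc_43_0 lc_f_rc_23_1 lc_f_rc_36_3 lc_f_rc_15_1 lc_f_rc_30_1 lc_f_rc_23_1 lc_f_Cert_tree lc_f_rc_43_0 lc_f_rc_44_2 lc_f_rc_23_1 lc_f_rc_36_3 lc_f_rc_23_1 lc_f_Cert_tree lc_f_rc_43_0 lc_f_rc_30_1 lc_f_rc_23_1 lc_f_rc_44_2 lc_f_Cert_tree lc_f_rc_23_1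 lc_f_rc_15_1 lc_f_rc_30_1 lc_f_rc_43_0 lc_f_rc_15_1 lc_f_rc_15_1 lc_f_rc_30_1 lc_f_rc_46_2 lc_f_Cert_tree lc_f_rc_43_0 lc_f_rc_44_2 lc_f_rc_45_2 lc_f_rc_30_1 lc_f_rc_6_3 lc_f_rc_42_2 lc_f_rc_46_2 lc_f_rc_42_2 lc_f_rc_6_1 lc_f_rc_30_1 lc_f_rc_30_1 lc_f_rc_15_1 lc_f_rc_6_1 lc_f_rc_15_1 lc_f_rc_30_1 lc_f_rc_23_1 lc_f_rc_36_3 lc_f_rc_42_2 lc_f_rc_30_1 lc_f_rc_30_1 lc_f_rc_42_2 lc_f_rc_30_1) (@D3.rec (fun _ => (Cert rels S Gen.f)) lc_f_rc_36_3 lc_f_rc_30_1 lc_f_rc_23_1 lc_f_rc_36_3 lc_f_rc_42_2 lc_f_rc_30_1 lc_f_rc_23_1 lc_f_rc_23_1 lc_f_rc_30_1 lc_f_rc_36_3 lc_f_rc_30_1 lc_f_rc_23_1 lc_f_rc_30_1 lc_f_rc_15_1 lc_f_rc_30_1 lc_f_rc_44_2 lc_f_rc_45_2 lc_f_rc_45_2 lc_f_rc_15_1 lc_f_rc_23_1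 lc_f_rc_46_2 lc_f_rc_42_2 lc_f_rc_30_1 lc_f_rc_6_1 lc_f_rc_42_2 lc_f_rc_30_1 lc_f_rc_30_1 lc_f_rc_6_1 lc_f_rc_42_2 lc_f_rc_15_1 lc_f_rc_15_1 lc_f_rc_42_2 lc_f_rc_30_1 lc_f_Cert_tree lc_f_rc_30_1 lc_f_rc_23_1 lc_f_rc_46_2 lc_f_rc_42_2 lc_f_rc_30_1 lc_f_rc_36_3 lc_f_rc_30_1 lc_f_rc_42_2 lc_f_rc_30_1 lc_f_Cert_tree lc_f_rc_42_2 lc_f_rc_30_1 lc_f_rc_23_1 lc_f_rc_6_1 lc_f_rc_30_1 lc_f_rc_36_3 lc_f_rc_42_2) (@D3.rec (fun _ => (Cert rels S Gen.f)) lc_f_rc_23_1 lc_f_rc_30_1 lc_f_rc_30_1 lc_f_rc_23_1 lc_f_Cert_tree lc_f_rc_43_0 lc_f_rc_6_1 lc_f_rc_44_2 lc_f_rc_23_1 lc_f_rc_36_3 lc_f_rc_15_1 lc_f_rc_43_0 lc_f_rc_44_2 lc_f_rc_23_1 lc_f_rc_36_3 lc_f_rc_30_1 lc_f_rc_36_3 lc_f_rc_23_1 lc_f_rc_46_2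 lc_f_rc_42_2 lc_f_rc_30_1 lc_f_rc_23_1 lc_f_rc_36_3 lc_f_rc_6_1 lc_f_rc_30_1 lc_f_Cert_tree lc_f_rc_23_1 lc_f_Cert_tree lc_f_rc_43_0 lc_f_rc_42_2 lc_f_rc_30_1 lc_f_rc_23_1 lc_f_rc_36_3 lc_f_rc_15_1 lc_f_rc_42_2 lc_f_rc_30_1 lc_f_rc_36_3 lc_f_rc_46_2 lc_f_rc_42_2 lc_f_rc_30_1 lc_f_rc_23_1 lc_f_Cert_tree lc_f_rc_43_0 lc_f_rc_42_0 lc_f_rc_23_1 lc_f_Cert_tree lc_f_rc_36_3 lc_f_rc_44_2 lc_f_rc_23_1 lc_f_rc_15_1 lc_f_Cert_tree) (@D3.rec (fun _ => (Cert rels S Gen.f)) lc_f_rc_43_0 lc_f_rc_36_3 lc_f_rc_45_2 lc_f_rc_23_1 lc_f_rc_30_1 lc_f_rc_15_1 lc_f_rc_23_1 lc_f_rc_6_1 lc_f_rc_43_0 lc_f_rc_44_2 lc_f_rc_44_2 lc_f_Cert_tree lc_f_rc_15_1 lc_f_rc_23_1 lc_f_rc_45_2 lc_f_rc_36_3 lc_f_rc_30_1 lc_f_rc_6_3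 lc_f_rc_43_0 lc_f_rc_30_3 lc_f_rc_36_3 lc_f_rc_44_4 lc_f_rc_15_1 lc_f_rc_42_2 lc_f_rc_46_2 lc_f_rc_42_2 lc_f_rc_15_3 lc_f_rc_43_0 lc_f_rc_30_1 lc_f_rc_36_3 lc_f_rc_44_2 lc_f_rc_46_2 lc_f_rc_46_2 lc_f_rc_30_1 lc_f_rc_42_2 lc_f_rc_30_1 lc_f_rc_30_1 lc_f_rc_42_2 lc_f_rc_30_1 lc_f_rc_30_1 lc_f_rc_44_0 lc_f_rc_30_1 lc_f_rc_23_1 lc_f_rc_36_3 lc_f_rc_46_2 lc_f_rc_46_2 lc_f_rc_42_2 lc_f_rc_30_1 lc_f_rc_42_2 lc_f_rc_30_1 lc_f_rc_30_1) (@D3.rec (fun _ => (Cert rels S Gen.f)) lc_f_rc_42_2 lc_f_rc_30_1 lc_f_rc_23_3 lc_f_rc_30_1 lc_f_Cert_tree lc_f_rc_46_2 lc_f_rc_30_1 lc_f_rc_23_1 lc_f_rc_43_0 lc_f_rc_30_1 lc_f_rc_23_1 lc_f_rc_36_3 lc_f_rc_15_1 lc_f_rc_36_5 lc_f_rc_30_1 lc_f_rc_15_3 lc_f_rc_30_1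 lc_f_rc_30_3 lc_f_Cert_tree lc_f_rc_43_0 lc_f_rc_42_0 lc_f_rc_23_1 lc_f_rc_36_3 lc_f_rc_15_1 lc_f_rc_6_1 lc_f_rc_23_1 lc_f_rc_30_3 lc_f_rc_46_2 lc_f_rc_42_2 lc_f_rc_15_1 lc_f_rc_46_0 lc_f_rc_23_1 lc_f_rc_30_1 lc_f_rc_15_1 lc_f_rc_23_1 lc_f_rc_42_2 lc_f_rc_23_1 lc_f_rc_46_2 lc_f_rc_42_2 lc_f_rc_30_1 lc_f_rc_42_2 lc_f_rc_30_1 lc_f_rc_15_1 lc_f_rc_30_1 lc_f_rc_6_1 lc_f_rc_30_1 lc_f_rc_15_1 lc_f_rc_42_2 lc_f_rc_30_1 lc_f_Cert_tree lc_f_rc_30_1) (@D3.rec (fun _ => (Cert rels S Gen.f)) lc_f_rc_23_1 lc_f_rc_43_0 lc_f_rc_23_1 lc_f_rc_36_3 lc_f_rc_30_1 lc_f_rc_6_3 lc_f_rc_15_1 lc_f_rc_30_1 lc_f_rc_23_1 lc_f_rc_30_1 lc_f_rc_23_1 lc_f_Cert_tree lc_f_rc_30_1 lc_f_rc_23_1 lc_f_Cert_tree lc_f_rc_43_0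 lc_f_rc_23_1 lc_f_rc_36_3 lc_f_rc_15_1 lc_f_rc_43_0 lc_f_rc_23_1 lc_f_Cert_tree lc_f_rc_43_0 lc_f_rc_15_1 lc_f_rc_44_0 lc_f_rc_36_3 lc_f_rc_43_0 lc_f_rc_46_2 lc_f_rc_46_2 lc_f_rc_42_2 lc_f_rc_30_1 lc_f_rc_42_2 lc_f_rc_30_1 lc_f_rc_23_1 lc_f_rc_15_1 lc_f_rc_15_1 lc_f_rc_15_1 lc_f_rc_42_2 lc_f_rc_30_1 lc_f_Cert_tree lc_f_rc_30_1 lc_f_rc_23_1 lc_f_rc_30_1 lc_f_rc_46_2 lc_f_rc_15_3 lc_f_rc_30_1 lc_f_rc_15_3 lc_f_rc_30_1 lc_f_rc_23_1 lc_f_rc_42_2 lc_f_rc_30_1)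
def ce_f_18 : D2 → D3 → (Cert rels S Gen.f) := @D2.rec (fun _ => D3 → (Cert rels S Gen.f)) (@D3.rec (fun _ => (Cert rels S Gen.f)) lc_f_Cert_tree lc_f_rc_23_3 lc_f_rc_36_5 lc_f_rc_30_1 lc_f_rc_23_1 lc_f_Cert_tree lc_f_rc_43_0 lc_f_rc_46_2 lc_f_rc_23_1 lc_f_rc_36_3 lc_f_rc_15_1 lc_f_rc_44_0 lc_f_rc_43_0 lc_f_rc_36_3 lc_f_rc_6_1 lc_f_rc_23_1 lc_f_rc_30_1 lc_f_rc_23_1 lc_f_rc_46_2 lc_f_rc_42_2 lc_f_rc_42_2 lc_f_rc_30_1 lc_f_rc_30_1 lc_f_rc_23_1 lc_f_rc_6_3 lc_f_rc_23_1 lc_f_rc_15_3 lc_f_rc_15_1 lc_f_rc_42_2 lc_f_rc_30_1 lc_f_rc_42_2 lc_f_rc_46_2 lc_f_rc_30_1 lc_f_rc_30_1 lc_f_rc_23_1 lc_f_Cert_tree lc_f_rc_43_0 lc_f_rc_42_2 lc_f_rc_30_1 lc_f_rc_30_1 lc_f_rc_23_1 lc_f_Cert_tree lc_f_rc_44_2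 lc_f_rc_23_1 lc_f_Cert_tree lc_f_rc_15_1 lc_f_Cert_tree lc_f_rc_43_0 lc_f_rc_44_2 lc_f_rc_30_1 lc_f_rc_23_1) (@D3.rec (fun _ => (Cert rels S Gen.f)) lc_f_rc_42_2 lc_f_rc_15_1 lc_f_rc_23_1 lc_f_rc_6_1 lc_f_rc_44_2 lc_f_Cert_tree lc_f_rc_43_0 lc_f_rc_23_1 lc_f_rc_36_3 lc_f_rc_43_0 lc_f_rc_30_1 lc_f_rc_30_1 lc_f_rc_15_1 lc_f_rc_6_3 lc_f_rc_30_1 lc_f_rc_44_2 lc_f_rc_6_1 lc_f_rc_30_1 lc_f_rc_30_3 lc_f_rc_46_2 lc_f_Cert_tree lc_f_Cert_tree lc_f_rc_43_0 lc_f_rc_43_0 lc_f_rc_30_1 lc_f_rc_30_1 lc_f_rc_36_3 lc_f_rc_23_1 lc_f_rc_30_1 lc_f_rc_30_3 lc_f_rc_23_1 lc_f_rc_36_3 lc_f_rc_15_1 lc_f_rc_42_2 lc_f_rc_30_1 lc_f_rc_42_2 lc_f_Cert_tree lc_f_rc_30_1 lc_f_rc_23_1 lc_f_rc_42_2 lc_f_rc_30_1 lc_f_rc_30_1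 lc_f_rc_23_1 lc_f_rc_23_1 lc_f_rc_36_3 lc_f_rc_15_1 lc_f_rc_36_3 lc_f_rc_15_3 lc_f_rc_30_1 lc_f_rc_23_1 lc_f_rc_36_1) (@D3.rec (fun _ => (Cert rels S Gen.f)) lc_f_rc_23_1 lc_f_rc_36_3 lc_f_rc_15_1 lc_f_rc_23_1 lc_f_rc_23_1 lc_f_rc_23_1 lc_f_rc_15_1 lc_f_rc_30_1 lc_f_rc_23_1 lc_f_rc_30_1 lc_f_rc_15_1 lc_f_rc_23_1 lc_f_rc_6_1 lc_f_rc_45_2 lc_f_rc_30_1 lc_f_rc_43_0 lc_f_rc_42_2 lc_f_rc_6_3 lc_f_rc_23_1 lc_f_rc_30_1 lc_f_rc_45_2 lc_f_rc_36_3 lc_f_rc_23_1 lc_f_rc_30_1 lc_f_rc_23_1 lc_f_rc_30_1 lc_f_rc_15_1 lc_f_rc_42_2 lc_f_rc_30_1 lc_f_rc_42_2 lc_f_rc_30_1 lc_f_Cert_tree lc_f_rc_30_1 lc_f_rc_23_1 lc_f_rc_42_2 lc_f_rc_30_1 lc_f_rc_15_3 lc_f_rc_30_1 lc_f_rc_23_1 lc_f_rc_23_1 lc_f_rc_30_1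 lc_f_rc_15_1 lc_f_rc_44_2 lc_f_rc_23_1 lc_f_rc_36_3 lc_f_rc_36_3 lc_f_rc_42_2 lc_f_rc_30_1 lc_f_rc_30_1 lc_f_rc_23_1 lc_f_rc_42_2) (@D3.rec (fun _ => (Cert rels S Gen.f)) lc_f_rc_30_1 lc_f_rc_23_1 lc_f_rc_30_1 lc_f_rc_23_1 lc_f_rc_30_1 lc_f_rc_23_1 lc_f_rc_15_3 lc_f_rc_15_1 lc_f_rc_23_1 lc_f_rc_42_2 lc_f_rc_23_1 lc_f_rc_42_2 lc_f_rc_30_1 lc_f_rc_30_1 lc_f_rc_23_1 lc_f_rc_23_1 lc_f_rc_30_1 lc_f_rc_15_1 lc_f_rc_15_1 lc_f_rc_23_1 lc_f_rc_6_1 lc_f_rc_44_2 lc_f_rc_23_1 lc_f_rc_15_3 lc_f_rc_44_2 lc_f_Cert_tree lc_f_rc_36_3 lc_f_rc_36_3 lc_f_rc_30_1 lc_f_Cert_tree lc_f_rc_43_0 lc_f_rc_42_2 lc_f_rc_30_1 lc_f_rc_6_3 lc_f_rc_15_3 lc_f_rc_42_2 lc_f_rc_30_1 lc_f_rc_23_1 lc_f_rc_30_1 lc_f_rc_23_1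 lc_f_rc_23_3 lc_f_rc_6_1 lc_f_rc_15_3 lc_f_rc_42_2 lc_f_rc_30_1 lc_f_rc_23_1 lc_f_Cert_tree lc_f_rc_42_2 lc_f_rc_23_3 lc_f_rc_30_1 lc_f_rc_6_1) (@D3.rec (fun _ => (Cert rels S Gen.f)) lc_f_rc_30_1 lc_f_rc_23_1 lc_f_Cert_tree lc_f_rc_43_0 lc_f_rc_42_2 lc_f_rc_23_1 lc_f_rc_36_3 lc_f_rc_15_1 lc_f_rc_30_1 lc_f_rc_42_2 lc_f_rc_30_1 lc_f_rc_23_1 lc_f_rc_30_1 lc_f_rc_42_2 lc_f_rc_30_1 lc_f_rc_23_1 lc_f_rc_42_2 lc_f_rc_30_1 lc_f_rc_23_1 lc_f_rc_36_3 lc_f_rc_15_1 lc_f_rc_42_2 lc_f_rc_23_1 lc_f_rc_42_2 lc_f_rc_30_1 lc_f_rc_30_1 lc_f_rc_23_1 lc_f_rc_44_2 lc_f_rc_23_1 lc_f_rc_30_1 lc_f_rc_15_1 lc_f_rc_45_2 lc_f_rc_23_1 lc_f_rc_30_1 lc_f_rc_15_1 lc_f_rc_23_1 lc_f_rc_6_1 lc_f_rc_44_2 lc_f_rc_44_2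 lc_f_rc_44_2 lc_f_Cert_tree lc_f_rc_15_1 lc_f_rc_36_3 lc_f_rc_23_1 lc_f_rc_45_2 lc_f_rc_36_3 lc_f_rc_36_3 lc_f_rc_30_1 lc_f_rc_30_1 lc_f_rc_42_2 lc_f_rc_42_2) (@D3.rec (fun _ => (Cert rels S Gen.f)) lc_f_rc_30_1 lc_f_rc_23_1 lc_f_Cert_tree lc_f_rc_43_0 lc_f_rc_30_1 lc_f_rc_23_1 lc_f_rc_36_3 lc_f_rc_15_1 lc_f_rc_30_1 lc_f_rc_30_1 lc_f_rc_23_1 lc_f_rc_15_1 lc_f_rc_42_2 lc_f_rc_30_1 lc_f_rc_30_1 lc_f_rc_23_1 lc_f_rc_23_1 lc_f_rc_30_1 lc_f_rc_23_1 lc_f_rc_6_3 lc_f_rc_15_1 lc_f_rc_23_1 lc_f_rc_15_3 lc_f_rc_23_1 lc_f_Cert_tree lc_f_rc_15_1 lc_f_rc_23_1 lc_f_rc_6_1 lc_f_rc_23_1 lc_f_rc_15_1 lc_f_rc_30_1 lc_f_rc_23_1 lc_f_rc_15_1 lc_f_rc_23_1 lc_f_rc_30_1 lc_f_rc_15_1 lc_f_rc_23_1 lc_f_rc_42_2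 lc_f_rc_46_2 lc_f_rc_30_1 lc_f_rc_30_1 lc_f_rc_23_1 lc_f_Cert_tree lc_f_rc_23_1 lc_f_rc_42_2 lc_f_rc_15_1 lc_f_Cert_tree lc_f_rc_43_0 lc_f_rc_45_2 lc_f_rc_23_1 lc_f_Cert_tree) (@D3.rec (fun _ => (Cert rels S Gen.f)) lc_f_rc_15_1 lc_f_Cert_tree lc_f_rc_43_0 lc_f_rc_6_1 lc_f_Cert_tree lc_f_rc_43_0 lc_f_rc_23_1 lc_f_rc_36_1 lc_f_rc_15_1 lc_f_rc_23_1 lc_f_rc_6_1 lc_f_rc_15_1 lc_f_rc_30_1 lc_f_rc_44_0 lc_f_rc_44_2 lc_f_rc_44_2 lc_f_Cert_tree lc_f_rc_36_3 lc_f_rc_44_2 lc_f_rc_15_1 lc_f_rc_15_1 lc_f_rc_44_2 lc_f_rc_43_0 lc_f_rc_6_1 lc_f_rc_45_2 lc_f_rc_30_1 lc_f_Cert_tree lc_f_rc_43_0 lc_f_rc_30_1 lc_f_rc_36_3 lc_f_rc_30_1 lc_f_rc_36_3 lc_f_rc_30_1 lc_f_rc_42_2 lc_f_rc_43_0 lc_f_rc_44_2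 lc_f_rc_6_1 lc_f_Cert_tree lc_f_rc_44_2 lc_f_rc_43_0 lc_f_rc_42_0 lc_f_rc_42_0 lc_f_rc_15_3 lc_f_rc_30_1 lc_f_rc_42_2 lc_f_rc_30_1 lc_f_rc_15_1 lc_f_rc_42_2 lc_f_rc_46_2 lc_f_rc_23_1 lc_f_Cert_tree) (@D3.rec (fun _ => (Cert rels S Gen.f)) lc_f_rc_43_0 lc_f_rc_6_1 lc_f_Cert_tree lc_f_rc_44_2 lc_f_rc_43_0 lc_f_rc_23_1 lc_f_rc_15_1 lc_f_rc_23_1 lc_f_rc_23_1 lc_f_rc_15_1 lc_f_rc_43_0 lc_f_rc_23_1 lc_f_rc_23_1 lc_f_rc_43_0 lc_f_rc_30_1 lc_f_rc_23_1 lc_f_rc_30_1 lc_f_rc_23_1 lc_f_rc_44_2 lc_f_rc_23_1 lc_f_rc_30_1 lc_f_rc_15_1 lc_f_rc_23_1 lc_f_rc_15_1 lc_f_rc_6_1 lc_f_rc_44_2 lc_f_rc_6_1 lc_f_rc_30_1 lc_f_rc_15_3 lc_f_rc_23_1 lc_f_rc_23_1 lc_f_rc_15_1 lc_f_rc_15_1 lc_f_rc_30_1 lc_f_rc_23_1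 lc_f_rc_30_1 lc_f_rc_15_1 lc_f_rc_23_1 lc_f_rc_6_1 lc_f_rc_23_1 lc_f_rc_15_1 lc_f_rc_42_2 lc_f_rc_23_1 lc_f_rc_30_1 lc_f_rc_15_1 lc_f_rc_15_1 lc_f_rc_44_2 lc_f_rc_42_2 lc_f_Cert_tree lc_f_rc_30_1 lc_f_rc_23_1) (@D3.rec (fun _ => (Cert rels S Gen.f)) lc_f_rc_30_1 lc_f_Cert_tree lc_f_rc_42_2 lc_f_rc_30_1 lc_f_rc_30_1 lc_f_rc_23_1 lc_f_Cert_tree lc_f_rc_43_0 lc_f_rc_23_1 lc_f_rc_15_1 lc_f_rc_36_5 lc_f_rc_23_1 lc_f_Cert_tree lc_f_rc_43_0 lc_f_rc_30_1 lc_f_rc_23_1 lc_f_Cert_tree lc_f_rc_23_1 lc_f_rc_30_1 lc_f_rc_15_1 lc_f_Cert_tree lc_f_rc_43_0 lc_f_rc_15_1 lc_f_rc_6_1 lc_f_rc_43_0 lc_f_rc_36_3 lc_f_rc_44_2 lc_f_rc_42_0 lc_f_rc_43_0 lc_f_rc_43_0 lc_f_Cert_tree lc_f_rc_43_0 lc_f_rc_23_1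 lc_f_rc_23_1 lc_f_Cert_tree lc_f_rc_30_1 lc_f_rc_43_0 lc_f_rc_43_0 lc_f_rc_42_0 lc_f_rc_23_1 lc_f_rc_30_3 lc_f_rc_44_0 lc_f_rc_23_1 lc_f_rc_46_2 lc_f_rc_42_2 lc_f_rc_23_1 lc_f_rc_30_1 lc_f_Cert_tree lc_f_rc_23_1 lc_f_rc_42_2 lc_f_rc_30_1) (@D3.rec (fun _ => (Cert rels S Gen.f)) lc_f_rc_36_3 lc_f_rc_44_2 lc_f_rc_30_1 lc_f_rc_30_1 lc_f_rc_30_1 lc_f_rc_42_0 lc_f_rc_44_2 lc_f_rc_30_1 lc_f_rc_23_1 lc_f_rc_30_1 lc_f_rc_30_1 lc_f_rc_30_1 lc_f_rc_23_1 lc_f_rc_36_1 lc_f_rc_23_1 lc_f_rc_15_1 lc_f_rc_23_1 lc_f_rc_23_1 lc_f_rc_15_1 lc_f_rc_6_1 lc_f_rc_30_1 lc_f_rc_23_1 lc_f_Cert_tree lc_f_rc_43_0 lc_f_rc_23_1 lc_f_rc_36_3 lc_f_rc_15_1 lc_f_rc_30_1 lc_f_rc_23_1 lc_f_rc_30_1 lc_f_rc_42_2 lc_f_rc_30_1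 lc_f_rc_30_1 lc_f_rc_23_1 lc_f_Cert_tree lc_f_rc_23_1 lc_f_rc_30_1 lc_f_rc_15_1 lc_f_Cert_tree lc_f_rc_43_0 lc_f_rc_23_1 lc_f_rc_15_1 lc_f_rc_6_1 lc_f_rc_30_1 lc_f_rc_23_1 lc_f_rc_30_1 lc_f_rc_42_2 lc_f_rc_23_1 lc_f_rc_42_2 lc_f_rc_30_1 lc_f_rc_23_1) (@D3.rec (fun _ => (Cert rels S Gen.f)) lc_f_rc_30_1 lc_f_rc_15_1 lc_f_rc_23_1 lc_f_rc_36_1 lc_f_rc_30_1 lc_f_rc_23_1 lc_f_rc_36_3 lc_f_rc_23_1 lc_f_Cert_tree lc_f_rc_15_1 lc_f_Cert_tree lc_f_rc_43_0 lc_f_rc_45_2 lc_f_rc_23_1 lc_f_rc_30_1 lc_f_rc_15_1 lc_f_rc_23_1 lc_f_rc_6_1 lc_f_Cert_tree lc_f_rc_43_0 lc_f_rc_23_1 lc_f_rc_15_1 lc_f_rc_6_1 lc_f_rc_30_1 lc_f_rc_36_3 lc_f_rc_36_3 lc_f_rc_36_3 lc_f_Cert_tree lc_f_rc_43_0 lc_f_rc_44_2 lc_f_rc_46_2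 lc_f_rc_43_0 lc_f_rc_36_1 lc_f_rc_36_1 lc_f_rc_23_1 lc_f_Cert_tree lc_f_rc_43_0 lc_f_rc_15_1 lc_f_rc_6_1 lc_f_rc_42_2 lc_f_rc_23_1 lc_f_Cert_tree lc_f_rc_43_0 lc_f_rc_43_1 lc_f_rc_46_2 lc_f_rc_42_2 lc_f_rc_30_1 lc_f_rc_30_1 lc_f_rc_23_1 lc_f_Cert_tree lc_f_rc_23_1) (@D3.rec (fun _ => (Cert rels S Gen.f)) lc_f_Cert_tree lc_f_rc_15_1 lc_f_Cert_tree lc_f_rc_43_0 lc_f_rc_15_1 lc_f_rc_15_1 lc_f_rc_6_1 lc_f_rc_43_0 lc_f_Cert_tree lc_f_rc_43_0 lc_f_rc_30_1 lc_f_rc_23_1 lc_f_rc_30_1 lc_f_rc_15_1 lc_f_rc_23_1 lc_f_rc_42_2 lc_f_rc_43_1 lc_f_Cert_tree lc_f_rc_43_0 lc_f_rc_6_1 lc_f_rc_23_1 lc_f_rc_15_3 lc_f_rc_43_0 lc_f_rc_6_1 lc_f_rc_30_1 lc_f_rc_6_3 lc_f_rc_15_1 lc_f_Cert_tree lc_f_rc_43_0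 lc_f_rc_42_0 lc_f_rc_23_1 lc_f_rc_44_2 lc_f_rc_23_1 lc_f_rc_36_3 lc_f_rc_15_1 lc_f_rc_23_1 lc_f_rc_42_0 lc_f_rc_55_14 lc_f_rc_23_1 lc_f_rc_42_2 lc_f_rc_23_1 lc_f_rc_15_1 lc_f_rc_23_1 lc_f_rc_36_3 lc_f_rc_23_1 lc_f_rc_15_1 lc_f_Cert_tree lc_f_rc_43_0 lc_f_rc_23_1 lc_f_rc_36_3 lc_f_rc_55_23) (@D3.rec (fun _ => (Cert rels S Gen.f)) lc_f_rc_23_1 lc_f_rc_23_1 lc_f_rc_15_1 lc_f_rc_36_3 lc_f_rc_6_1 lc_f_Cert_tree lc_f_rc_43_0 lc_f_rc_44_2 lc_f_rc_15_1 lc_f_rc_6_1 lc_f_rc_30_1 lc_f_rc_23_1 lc_f_rc_15_1 lc_f_rc_6_1 lc_f_rc_43_1 lc_f_rc_42_2 lc_f_rc_42_0 lc_f_rc_15_1 lc_f_rc_6_1 lc_f_rc_30_1 lc_f_rc_23_1 lc_f_rc_30_1 lc_f_rc_23_1 lc_f_rc_36_3 lc_f_rc_15_1 lc_f_rc_30_1 lc_f_rc_23_1 lc_f_rc_30_1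 lc_f_rc_23_1 lc_f_rc_23_1 lc_f_rc_36_3 lc_f_rc_15_1 lc_f_rc_23_1 lc_f_rc_15_1 lc_f_rc_6_1 lc_f_rc_30_1 lc_f_rc_23_1 lc_f_rc_23_1 lc_f_rc_30_1 lc_f_rc_15_1 lc_f_rc_23_1 lc_f_rc_36_3 lc_f_rc_15_1 lc_f_rc_15_1 lc_f_rc_23_1 lc_f_rc_6_1 lc_f_rc_6_1 lc_f_rc_36_3 lc_f_rc_30_1 lc_f_rc_36_3 lc_f_rc_15_1) (@D3.rec (fun _ => (Cert rels S Gen.f)) lc_f_rc_15_1 lc_f_rc_6_1 lc_f_rc_23_1 lc_f_rc_23_1 lc_f_rc_36_3 lc_f_rc_15_1 lc_f_rc_23_1 lc_f_rc_46_0 lc_f_rc_6_1 lc_f_rc_23_1 lc_f_rc_23_1 lc_f_rc_15_1 lc_f_rc_23_1 lc_f_rc_43_1 lc_f_rc_6_1 lc_f_rc_30_1 lc_f_rc_36_3 lc_f_rc_36_5 lc_f_rc_30_3 lc_f_rc_36_3 lc_f_rc_30_3 lc_f_rc_42_0 lc_f_rc_30_3 lc_f_rc_30_1 lc_f_rc_43_1 lc_f_rc_30_1 lc_f_rc_15_3 lc_f_rc_30_1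 lc_f_rc_23_1 lc_f_rc_23_1 lc_f_rc_36_3 lc_f_rc_15_1 lc_f_rc_23_1 lc_f_rc_23_1 lc_f_rc_43_1 lc_f_rc_15_3 lc_f_rc_23_1 lc_f_rc_30_1 lc_f_rc_30_1 lc_f_rc_23_1 lc_f_rc_23_1 lc_f_rc_30_1 lc_f_rc_15_1 lc_f_rc_42_2 lc_f_rc_30_1 lc_f_rc_30_1 lc_f_rc_23_1 lc_f_rc_36_3 lc_f_rc_23_1 lc_f_rc_15_1 lc_f_rc_23_3) (@D3.rec (fun _ => (Cert rels S Gen.f)) lc_f_rc_23_1 lc_f_Cert_tree lc_f_rc_15_1 lc_f_rc_23_1 lc_f_rc_6_1 lc_f_rc_23_1 lc_f_rc_15_1 lc_f_rc_6_1 lc_f_rc_36_3 lc_f_rc_23_1 lc_f_rc_23_1 lc_f_rc_46_0 lc_f_rc_15_1 lc_f_rc_23_1 lc_f_rc_36_3 lc_f_rc_15_1 lc_f_rc_23_1 lc_f_rc_6_1 lc_f_rc_23_1 lc_f_rc_36_3 lc_f_rc_15_1 lc_f_rc_43_1 lc_f_rc_15_1 lc_f_Cert_tree lc_f_rc_43_0 lc_f_rc_6_1 lc_f_Cert_tree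 lc_f_rc_43_0 lc_f_rc_30_1 lc_f_rc_36_5 lc_f_rc_15_1 lc_f_rc_6_1 lc_f_rc_23_1 lc_f_rc_15_1 lc_f_rc_23_1 lc_f_rc_30_1 lc_f_rc_15_1 lc_f_rc_23_1 lc_f_rc_6_1 lc_f_rc_30_1 lc_f_rc_42_2 lc_f_Cert_tree lc_f_rc_23_1 lc_f_rc_42_0 lc_f_rc_15_1 lc_f_rc_23_1 lc_f_rc_15_1 lc_f_rc_6_1 lc_f_rc_23_1 lc_f_Cert_tree lc_f_rc_15_1) (@D3.rec (fun _ => (Cert rels S Gen.f)) lc_f_rc_23_3 lc_f_rc_43_0 lc_f_rc_6_1 lc_f_Cert_tree lc_f_rc_43_0 lc_f_Cert_tree lc_f_rc_43_0 lc_f_rc_15_1 lc_f_rc_6_1 lc_f_rc_45_2 lc_f_rc_42_2 lc_f_rc_6_3 lc_f_rc_45_2 lc_f_rc_23_1 lc_f_Cert_tree lc_f_rc_43_0 lc_f_rc_30_1 lc_f_rc_23_1 lc_f_rc_36_3 lc_f_rc_30_1 lc_f_rc_23_1 lc_f_rc_30_1 lc_f_rc_23_1 lc_f_rc_23_1 lc_f_rc_36_3 lc_f_rc_15_1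 lc_f_rc_23_1 lc_f_rc_30_1 lc_f_rc_23_1 lc_f_rc_15_1 lc_f_rc_23_1 lc_f_rc_23_1 lc_f_rc_36_3 lc_f_rc_15_1 lc_f_rc_44_4 lc_f_rc_36_5 lc_f_rc_42_2 lc_f_rc_30_1 lc_f_rc_23_1 lc_f_rc_42_2 lc_f_rc_15_1 lc_f_rc_23_1 lc_f_rc_6_1 lc_f_rc_15_1 lc_f_rc_30_1 lc_f_rc_42_2 lc_f_rc_42_2 lc_f_rc_30_1 lc_f_rc_15_3 lc_f_rc_15_1 lc_f_rc_23_1) (@D3.rec (fun _ => (Cert rels S Gen.f)) lc_f_rc_42_2 lc_f_rc_30_1 lc_f_Cert_tree lc_f_rc_30_1 lc_f_rc_23_1 lc_f_rc_6_3 lc_f_rc_23_3 lc_f_rc_30_1 lc_f_Cert_tree lc_f_rc_23_3 lc_f_rc_30_1 lc_f_rc_23_1 lc_f_rc_42_2 lc_f_rc_36_5 lc_f_rc_23_1 lc_f_Cert_tree lc_f_rc_43_0 lc_f_rc_23_1 lc_f_rc_36_3 lc_f_rc_15_1 lc_f_rc_43_0 lc_f_rc_44_2 lc_f_rc_23_1 lc_f_rc_36_3 lc_f_rc_23_1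 lc_f_rc_30_3 lc_f_rc_30_1 lc_f_rc_23_1 lc_f_Cert_tree lc_f_rc_43_0 lc_f_rc_36_5 lc_f_rc_23_1 lc_f_rc_36_3 lc_f_rc_15_1 lc_f_rc_15_3 lc_f_rc_42_2 lc_f_rc_23_1 lc_f_rc_30_1 lc_f_rc_42_2 lc_f_rc_30_1 lc_f_rc_30_1 lc_f_rc_23_1 lc_f_Cert_tree lc_f_rc_23_1 lc_f_Cert_tree lc_f_rc_15_1 lc_f_Cert_tree lc_f_rc_43_0 lc_f_rc_36_3 lc_f_rc_15_1 lc_f_rc_23_1) (@D3.rec (fun _ => (Cert rels S Gen.f)) lc_f_rc_6_1 lc_f_rc_23_1 lc_f_Cert_tree lc_f_rc_43_0 lc_f_rc_44_2 lc_f_rc_44_2 lc_f_Cert_tree lc_f_rc_23_1 lc_f_rc_36_3 lc_f_rc_43_0 lc_f_rc_30_1 lc_f_rc_44_2 lc_f_rc_43_0 lc_f_rc_15_1 lc_f_rc_42_2 lc_f_rc_44_2 lc_f_rc_15_1 lc_f_rc_42_2 lc_f_Cert_tree lc_f_rc_43_0 lc_f_rc_45_2 lc_f_rc_23_1 lc_f_rc_6_3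 lc_f_rc_44_2 lc_f_rc_42_2 lc_f_rc_30_1 lc_f_rc_6_1 lc_f_rc_36_3 lc_f_rc_23_1 lc_f_rc_30_1 lc_f_rc_23_1 lc_f_rc_30_1 lc_f_rc_23_1 lc_f_rc_30_1 lc_f_rc_15_1 lc_f_rc_30_1 lc_f_rc_23_1 lc_f_rc_23_1 lc_f_rc_42_2 lc_f_rc_23_1 lc_f_rc_30_1 lc_f_rc_23_1 lc_f_rc_30_1 lc_f_rc_15_1 lc_f_rc_30_1 lc_f_rc_23_1 lc_f_rc_15_1 lc_f_rc_42_0 lc_f_rc_23_1 lc_f_rc_30_1 lc_f_rc_23_1) (@D3.rec (fun _ => (Cert rels S Gen.f)) lc_f_rc_30_1 lc_f_rc_15_1 lc_f_rc_23_1 lc_f_rc_6_1 lc_f_rc_45_2 lc_f_rc_23_1 lc_f_rc_15_1 lc_f_rc_23_1 lc_f_rc_42_2 lc_f_rc_30_1 lc_f_Cert_tree lc_f_rc_42_2 lc_f_rc_30_1 lc_f_rc_23_1 lc_f_rc_42_2 lc_f_rc_6_1 lc_f_rc_42_0 lc_f_rc_23_1 lc_f_Cert_tree lc_f_rc_30_1 lc_f_rc_30_1 lc_f_rc_23_1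 lc_f_Cert_tree lc_f_rc_43_0 lc_f_rc_23_1 lc_f_rc_36_3 lc_f_rc_15_1 lc_f_rc_42_2 lc_f_rc_30_1 lc_f_rc_23_1 lc_f_rc_30_1 lc_f_rc_36_3 lc_f_rc_42_2 lc_f_rc_23_1 lc_f_Cert_tree lc_f_rc_43_0 lc_f_rc_30_1 lc_f_rc_23_1 lc_f_rc_36_3 lc_f_rc_15_1 lc_f_rc_30_1 lc_f_rc_23_1 lc_f_rc_30_1 lc_f_rc_30_1 lc_f_rc_30_1 lc_f_rc_23_1 lc_f_Cert_tree lc_f_rc_23_1 lc_f_rc_15_1 lc_f_Cert_tree lc_f_rc_43_0) (@D3.rec (fun _ => (Cert rels S Gen.f)) lc_f_rc_6_1 lc_f_rc_23_1 lc_f_rc_30_1 lc_f_rc_15_1 lc_f_rc_23_1 lc_f_rc_6_1 lc_f_Cert_tree lc_f_rc_23_1 lc_f_rc_36_3 lc_f_rc_30_1 lc_f_rc_42_2 lc_f_rc_30_1 lc_f_rc_23_1 lc_f_rc_6_3 lc_f_rc_15_1 lc_f_rc_30_1 lc_f_rc_42_2 lc_f_rc_23_1 lc_f_Cert_tree lc_f_rc_43_0 lc_f_rc_42_2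 lc_f_Cert_tree lc_f_rc_43_0 lc_f_rc_44_2 lc_f_rc_30_1 lc_f_rc_23_1 lc_f_Cert_tree lc_f_rc_15_1 lc_f_rc_23_1 lc_f_rc_6_1 lc_f_rc_42_2 lc_f_rc_23_1 lc_f_rc_30_1 lc_f_rc_42_0 lc_f_rc_23_1 lc_f_rc_46_0 lc_f_rc_23_1 lc_f_rc_15_1 lc_f_Cert_tree lc_f_rc_43_0 lc_f_rc_23_1 lc_f_rc_6_3 lc_f_rc_46_0 lc_f_Cert_tree lc_f_rc_43_0 lc_f_rc_45_2 lc_f_rc_23_1 lc_f_rc_15_1 lc_f_rc_6_1 lc_f_Cert_tree lc_f_rc_43_0) (@D3.rec (fun _ => (Cert rels S Gen.f)) lc_f_rc_30_1 lc_f_rc_23_1 lc_f_rc_36_3 lc_f_rc_15_1 lc_f_rc_23_1 lc_f_rc_6_1 lc_f_rc_15_1 lc_f_rc_30_1 lc_f_rc_6_3 lc_f_rc_43_0 lc_f_rc_30_3 lc_f_rc_30_1 lc_f_rc_30_1 lc_f_rc_42_2 lc_f_rc_46_2 lc_f_rc_44_0 lc_f_rc_42_2 lc_f_rc_30_1 lc_f_rc_23_1 lc_f_rc_30_1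 lc_f_rc_30_1 lc_f_rc_44_0 lc_f_rc_30_1 lc_f_rc_23_1 lc_f_rc_36_3 lc_f_rc_30_1 lc_f_rc_30_1 lc_f_rc_23_1 lc_f_rc_15_1 lc_f_rc_23_1 lc_f_rc_36_3 lc_f_rc_15_1 lc_f_rc_46_2 lc_f_rc_42_2 lc_f_rc_30_1 lc_f_Cert_tree lc_f_rc_30_1 lc_f_rc_23_1 lc_f_rc_42_2 lc_f_rc_30_1 lc_f_rc_15_3 lc_f_rc_30_1 lc_f_rc_42_0 lc_f_Cert_tree lc_f_rc_43_0 lc_f_rc_46_2 lc_f_rc_23_1 lc_f_rc_36_3 lc_f_rc_15_1 lc_f_rc_6_1 lc_f_rc_23_1) (@D3.rec (fun _ => (Cert rels S Gen.f)) lc_f_rc_23_1 lc_f_rc_6_3 lc_f_rc_36_5 lc_f_rc_15_3 lc_f_rc_23_1 lc_f_rc_15_3 lc_f_rc_30_3 lc_f_Cert_tree lc_f_rc_43_0 lc_f_rc_23_1 lc_f_rc_44_4 lc_f_rc_15_1 lc_f_rc_23_1 lc_f_rc_6_1 lc_f_rc_30_1 lc_f_rc_23_1 lc_f_rc_23_1 lc_f_rc_42_2 lc_f_rc_30_1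 lc_f_rc_55_68 lc_f_rc_42_0 lc_f_rc_15_1 lc_f_rc_15_1 lc_f_rc_36_3 lc_f_rc_23_1 lc_f_rc_42_2 lc_f_rc_30_1 lc_f_Cert_tree lc_f_rc_30_1 lc_f_rc_23_1 lc_f_rc_30_1 lc_f_rc_45_2 lc_f_rc_30_1 lc_f_rc_36_3 lc_f_rc_15_1 lc_f_rc_30_1 lc_f_rc_23_1 lc_f_Cert_tree lc_f_rc_43_0 lc_f_rc_23_1 lc_f_rc_36_3 lc_f_rc_15_1 lc_f_rc_15_1 lc_f_rc_42_2 lc_f_rc_30_3 lc_f_rc_30_1 lc_f_rc_23_1 lc_f_rc_15_1 lc_f_rc_42_2 lc_f_Cert_tree lc_f_rc_36_3) (@D3.rec (fun _ => (Cert rels S Gen.f)) lc_f_rc_43_0 lc_f_rc_23_1 lc_f_Cert_tree lc_f_rc_15_1 lc_f_Cert_tree lc_f_rc_43_0 lc_f_rc_15_1 lc_f_rc_23_1 lc_f_rc_6_1 lc_f_rc_44_2 lc_f_rc_43_0 lc_f_rc_6_1 lc_f_rc_44_0 lc_f_rc_23_1 lc_f_rc_42_2 lc_f_rc_30_1 lc_f_rc_30_1 lc_f_rc_23_1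 lc_f_rc_30_1 lc_f_rc_23_1 lc_f_Cert_tree lc_f_rc_15_1 lc_f_rc_30_1 lc_f_rc_30_1 lc_f_rc_23_1 lc_f_Cert_tree lc_f_rc_43_0 lc_f_rc_23_1 lc_f_rc_36_3 lc_f_rc_15_1 lc_f_rc_42_2 lc_f_rc_15_1 lc_f_rc_30_1 lc_f_rc_44_2 lc_f_rc_30_1 lc_f_rc_23_1 lc_f_rc_30_1 lc_f_rc_15_1 lc_f_rc_42_2 lc_f_rc_23_1 lc_f_Cert_tree lc_f_rc_43_0 lc_f_rc_15_1 lc_f_rc_36_5 lc_f_Cert_tree lc_f_rc_23_1 lc_f_rc_36_3 lc_f_rc_15_1 lc_f_Cert_tree lc_f_rc_43_0 lc_f_rc_23_1) (@D3.rec (fun _ => (Cert rels S Gen.f)) lc_f_rc_30_1 lc_f_rc_15_1 lc_f_rc_23_1 lc_f_rc_6_1 lc_f_rc_30_1 lc_f_rc_23_1 lc_f_rc_15_1 lc_f_rc_15_1 lc_f_rc_42_2 lc_f_rc_30_1 lc_f_rc_30_1 lc_f_rc_23_1 lc_f_rc_44_2 lc_f_rc_23_1 lc_f_rc_15_3 lc_f_rc_15_1 lc_f_rc_23_1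 lc_f_rc_15_1 lc_f_rc_23_1 lc_f_rc_6_1 lc_f_rc_42_2 lc_f_rc_23_1 lc_f_rc_30_1 lc_f_rc_46_2 lc_f_rc_23_1 lc_f_Cert_tree lc_f_rc_23_1 lc_f_Cert_tree lc_f_rc_15_1 lc_f_Cert_tree lc_f_rc_43_0 lc_f_rc_30_1 lc_f_rc_23_1 lc_f_Cert_tree lc_f_rc_23_1 lc_f_Cert_tree lc_f_rc_15_1 lc_f_Cert_tree lc_f_rc_43_0 lc_f_rc_23_1 lc_f_rc_30_1 lc_f_rc_15_1 lc_f_Cert_tree lc_f_rc_43_0 lc_f_rc_6_1 lc_f_Cert_tree lc_f_rc_43_0 lc_f_rc_44_2 lc_f_rc_36_1 lc_f_rc_15_1 lc_f_rc_23_1) (@D3.rec (fun _ => (Cert rels S Gen.f)) lc_f_rc_6_1 lc_f_rc_15_1 lc_f_rc_30_1 lc_f_rc_43_0 lc_f_rc_15_1 lc_f_rc_44_2 lc_f_rc_30_1 lc_f_rc_44_2 lc_f_rc_15_1 lc_f_rc_23_3 lc_f_rc_46_2 lc_f_rc_46_2 lc_f_Cert_tree lc_f_rc_43_0 lc_f_Cert_tree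 lc_f_rc_43_0 lc_f_rc_23_1 lc_f_rc_23_1 lc_f_rc_30_1 lc_f_rc_15_1 lc_f_rc_23_1 lc_f_rc_42_2 lc_f_rc_15_1 lc_f_rc_23_1 lc_f_rc_6_1 lc_f_rc_30_1 lc_f_rc_23_1 lc_f_rc_23_1 lc_f_Cert_tree lc_f_rc_43_0 lc_f_rc_23_1 lc_f_rc_36_3 lc_f_rc_15_1 lc_f_rc_30_1 lc_f_rc_23_1 lc_f_rc_23_1 lc_f_rc_36_3 lc_f_rc_15_1 lc_f_rc_15_1 lc_f_rc_23_1 lc_f_rc_6_1 lc_f_rc_36_5 lc_f_rc_23_1 lc_f_rc_36_3 lc_f_rc_15_1 lc_f_rc_36_1 lc_f_rc_15_1 lc_f_rc_23_1 lc_f_rc_6_1 lc_f_rc_15_1 lc_f_rc_36_1) (@D3.rec (fun _ => (Cert rels S Gen.f)) lc_f_rc_15_1 lc_f_rc_6_1 lc_f_rc_23_1 lc_f_rc_30_1 lc_f_rc_15_1 lc_f_rc_23_1 lc_f_rc_6_1 lc_f_rc_15_1 lc_f_rc_30_1 lc_f_rc_42_2 lc_f_rc_46_2 lc_f_rc_23_1 lc_f_rc_15_1 lc_f_rc_23_1 lc_f_rc_23_1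 lc_f_rc_30_1 lc_f_rc_15_1 lc_f_rc_30_1 lc_f_rc_36_3 lc_f_rc_15_1 lc_f_rc_23_1 lc_f_rc_6_1 lc_f_rc_30_1 lc_f_rc_23_1 lc_f_rc_30_1 lc_f_rc_23_1 lc_f_Cert_tree lc_f_rc_43_0 lc_f_rc_23_1 lc_f_rc_36_3 lc_f_rc_15_1 lc_f_rc_30_1 lc_f_rc_23_1 lc_f_rc_30_1 lc_f_rc_23_1 lc_f_rc_36_3 lc_f_rc_15_1 lc_f_rc_15_1 lc_f_rc_23_1 lc_f_rc_6_1 lc_f_rc_44_2 lc_f_Cert_tree lc_f_rc_36_3 lc_f_rc_30_1 lc_f_rc_30_1 lc_f_rc_23_1 lc_f_rc_23_1 lc_f_rc_15_3 lc_f_rc_15_1 lc_f_rc_30_1 lc_f_rc_23_1) (@D3.rec (fun _ => (Cert rels S Gen.f)) lc_f_rc_30_1 lc_f_rc_23_1 lc_f_rc_46_0 lc_f_rc_15_1 lc_f_rc_45_2 lc_f_Cert_tree lc_f_rc_15_1 lc_f_rc_23_1 lc_f_rc_6_1 lc_f_rc_30_1 lc_f_rc_23_1 lc_f_rc_15_1 lc_f_rc_30_1 lc_f_rc_23_1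 lc_f_rc_36_3 lc_f_rc_23_1 lc_f_rc_15_1 lc_f_rc_15_1 lc_f_rc_23_1 lc_f_rc_6_1 lc_f_rc_6_1 lc_f_rc_15_1 lc_f_rc_23_1 lc_f_rc_44_2 lc_f_rc_46_2 lc_f_rc_15_1 lc_f_rc_44_2 lc_f_rc_43_0 lc_f_rc_30_1 lc_f_rc_30_1 lc_f_rc_42_2 lc_f_rc_43_0 lc_f_rc_46_2 lc_f_rc_23_1 lc_f_rc_30_1 lc_f_rc_30_1 lc_f_rc_23_1 lc_f_rc_30_1 lc_f_rc_23_1 lc_f_rc_36_3 lc_f_rc_15_1 lc_f_rc_30_1 lc_f_rc_6_1 lc_f_Cert_tree lc_f_rc_30_1 lc_f_rc_30_1 lc_f_rc_23_1 lc_f_Cert_tree lc_f_Cert_tree lc_f_rc_43_0 lc_f_rc_30_1)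
def ce_f_19 : D2 → D3 → (Cert rels S Gen.f) := @D2.rec (fun _ => D3 → (Cert rels S Gen.f)) (@D3.rec (fun _ => (Cert rels S Gen.f)) lc_f_rc_30_1 lc_f_rc_23_1 lc_f_rc_6_1 lc_f_rc_23_1 lc_f_Cert_tree lc_f_rc_15_1 lc_f_Cert_tree lc_f_rc_43_0 lc_f_rc_44_2 lc_f_rc_23_1 lc_f_rc_42_2 lc_f_rc_15_1 lc_f_rc_23_1 lc_f_rc_6_1 lc_f_rc_23_1 lc_f_rc_30_1 lc_f_rc_23_1 lc_f_rc_36_3 lc_f_rc_15_1 lc_f_rc_23_1 lc_f_rc_44_2 lc_f_rc_23_1 lc_f_rc_15_1 lc_f_rc_42_0 lc_f_rc_23_1 lc_f_Cert_tree lc_f_rc_15_1 lc_f_rc_23_1 lc_f_rc_6_1 lc_f_rc_23_1 lc_f_rc_15_1 lc_f_rc_30_1 lc_f_rc_23_1 lc_f_rc_23_1 lc_f_rc_15_1 lc_f_rc_23_1 lc_f_rc_15_1 lc_f_rc_23_1 lc_f_rc_6_1 lc_f_rc_23_1 lc_f_rc_36_1 lc_f_rc_15_1 lc_f_rc_23_1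 lc_f_rc_6_1 lc_f_rc_15_1 lc_f_rc_23_1 lc_f_rc_44_2 lc_f_rc_30_3 lc_f_rc_15_1 lc_f_rc_44_2 lc_f_rc_43_0) (@D3.rec (fun _ => (Cert rels S Gen.f)) lc_f_rc_36_3 lc_f_rc_30_1 lc_f_rc_36_3 lc_f_rc_30_1 lc_f_rc_30_1 lc_f_rc_36_1 lc_f_rc_23_1 lc_f_rc_23_1 lc_f_rc_30_1 lc_f_rc_23_1 lc_f_Cert_tree lc_f_rc_15_1 lc_f_Cert_tree lc_f_rc_43_0 lc_f_rc_23_1 lc_f_rc_36_3 lc_f_rc_15_1 lc_f_rc_23_1 lc_f_rc_6_1 lc_f_rc_23_1 lc_f_rc_23_1 lc_f_rc_44_0 lc_f_rc_15_1 lc_f_rc_42_2 lc_f_rc_30_1 lc_f_rc_23_1 lc_f_rc_6_3 lc_f_rc_23_1 lc_f_rc_15_1 lc_f_rc_30_1 lc_f_rc_23_1 lc_f_Cert_tree lc_f_rc_15_1 lc_f_rc_23_1 lc_f_rc_6_1 lc_f_rc_30_3 lc_f_rc_23_1 lc_f_rc_44_2 lc_f_rc_15_1 lc_f_Cert_tree lc_f_rc_43_0 lc_f_rc_6_1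 lc_f_rc_15_1 lc_f_rc_30_1 lc_f_rc_15_1 lc_f_rc_30_1 lc_f_rc_23_1 lc_f_rc_46_0 lc_f_rc_15_1 lc_f_rc_23_1 lc_f_rc_15_1) (@D3.rec (fun _ => (Cert rels S Gen.f)) lc_f_rc_23_1 lc_f_rc_6_1 lc_f_rc_15_1 lc_f_rc_42_2 lc_f_rc_30_1 lc_f_rc_42_2 lc_f_Cert_tree lc_f_rc_23_1 lc_f_rc_46_2 lc_f_rc_15_1 lc_f_Cert_tree lc_f_rc_43_0 lc_f_rc_15_1 lc_f_rc_23_1 lc_f_rc_6_1 lc_f_Cert_tree lc_f_Cert_tree lc_f_rc_43_0 lc_f_rc_23_1 lc_f_Cert_tree lc_f_rc_15_1 lc_f_Cert_tree lc_f_rc_43_0 lc_f_rc_6_1 lc_f_Cert_tree lc_f_rc_23_1 lc_f_rc_43_0 lc_f_Cert_tree lc_f_rc_43_0 lc_f_rc_15_1 lc_f_rc_23_1 lc_f_rc_6_1 lc_f_rc_15_1 lc_f_rc_23_1 lc_f_rc_6_1 lc_f_rc_15_1 lc_f_rc_42_2 lc_f_Cert_tree lc_f_Cert_tree lc_f_rc_43_0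 lc_f_rc_30_1 lc_f_rc_23_1 lc_f_rc_6_1 lc_f_rc_46_0 lc_f_rc_44_2 lc_f_rc_36_3 lc_f_rc_36_1 lc_f_rc_30_1 lc_f_rc_43_0 lc_f_rc_36_1 lc_f_rc_30_1) (@D3.rec (fun _ => (Cert rels S Gen.f)) lc_f_rc_42_2 lc_f_rc_30_1 lc_f_rc_23_1 lc_f_rc_42_2 lc_f_rc_46_2 lc_f_Cert_tree lc_f_rc_44_2 lc_f_rc_43_0 lc_f_rc_44_2 lc_f_rc_42_0 lc_f_rc_6_3 lc_f_rc_45_2 lc_f_rc_46_2 lc_f_rc_23_1 lc_f_rc_42_2 lc_f_rc_23_1 lc_f_rc_30_1 lc_f_rc_43_0 lc_f_rc_6_1 lc_f_rc_43_0 lc_f_rc_15_1 lc_f_rc_6_1 lc_f_rc_15_1 lc_f_rc_15_1 lc_f_rc_6_1 lc_f_rc_42_0 lc_f_rc_44_2 lc_f_rc_55_59 lc_f_rc_42_2 lc_f_rc_23_1 lc_f_rc_36_3 lc_f_rc_15_1 lc_f_rc_23_1 lc_f_rc_36_3 lc_f_rc_15_1 lc_f_rc_23_1 lc_f_rc_30_1 lc_f_rc_15_1 lc_f_rc_23_1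 lc_f_rc_6_1 lc_f_rc_15_1 lc_f_rc_6_1 lc_f_rc_30_1 lc_f_rc_23_3 lc_f_rc_15_1 lc_f_rc_15_1 lc_f_rc_6_1 lc_f_rc_6_1 lc_f_rc_23_1 lc_f_rc_15_1 lc_f_rc_23_1) (@D3.rec (fun _ => (Cert rels S Gen.f)) lc_f_rc_6_1 lc_f_rc_15_1 lc_f_rc_15_1 lc_f_rc_6_1 lc_f_rc_23_1 lc_f_rc_42_2 lc_f_rc_15_1 lc_f_rc_23_1 lc_f_rc_6_1 lc_f_rc_30_1 lc_f_rc_45_2 lc_f_rc_23_1 lc_f_Cert_tree lc_f_rc_43_0 lc_f_rc_23_1 lc_f_rc_36_3 lc_f_rc_15_1 lc_f_rc_23_1 lc_f_Cert_tree lc_f_rc_43_0 lc_f_rc_30_1 lc_f_rc_23_1 lc_f_Cert_tree lc_f_rc_23_1 lc_f_rc_30_1 lc_f_rc_15_1 lc_f_Cert_tree lc_f_rc_43_0 lc_f_rc_23_1 lc_f_rc_15_1 lc_f_rc_6_1 lc_f_rc_23_1 lc_f_Cert_tree lc_f_rc_15_1 lc_f_Cert_tree lc_f_rc_43_0 lc_f_rc_23_1 lc_f_rc_36_3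 lc_f_rc_15_1 lc_f_Cert_tree lc_f_rc_43_0 lc_f_rc_15_1 lc_f_rc_23_1 lc_f_rc_6_1 lc_f_Cert_tree lc_f_rc_43_0 lc_f_rc_6_1 lc_f_rc_43_0 lc_f_rc_30_1 lc_f_rc_42_2 lc_f_rc_43_0) (@D3.rec (fun _ => (Cert rels S Gen.f)) lc_f_rc_23_1 lc_f_rc_42_0 lc_f_rc_23_1 lc_f_rc_23_1 lc_f_rc_46_2 lc_f_rc_30_1 lc_f_rc_23_1 lc_f_rc_15_3 lc_f_rc_30_1 lc_f_rc_23_1 lc_f_Cert_tree lc_f_rc_43_0 lc_f_rc_44_2 lc_f_rc_36_5 lc_f_rc_30_1 lc_f_rc_30_1 lc_f_rc_42_2 lc_f_rc_6_1 lc_f_rc_42_2 lc_f_rc_15_1 lc_f_rc_23_1 lc_f_rc_15_3 lc_f_rc_23_1 lc_f_rc_42_2 lc_f_rc_23_1 lc_f_rc_15_1 lc_f_rc_23_1 lc_f_rc_23_1 lc_f_rc_23_1 lc_f_rc_42_2 lc_f_rc_15_1 lc_f_rc_23_1 lc_f_rc_15_1 lc_f_rc_6_1 lc_f_rc_15_1 lc_f_rc_15_1 lc_f_rc_6_1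 lc_f_rc_23_1 lc_f_Cert_tree lc_f_rc_15_1 lc_f_Cert_tree lc_f_rc_43_0 lc_f_rc_15_1 lc_f_rc_36_3 lc_f_rc_6_1 lc_f_rc_23_1 lc_f_rc_30_1 lc_f_rc_15_1 lc_f_rc_23_1 lc_f_rc_30_1 lc_f_rc_23_1) (@D3.rec (fun _ => (Cert rels S Gen.f)) lc_f_rc_36_3 lc_f_rc_23_1 lc_f_Cert_tree lc_f_rc_15_1 lc_f_Cert_tree lc_f_rc_43_0 lc_f_rc_15_1 lc_f_rc_23_1 lc_f_rc_6_1 lc_f_Cert_tree lc_f_rc_43_0 lc_f_rc_30_1 lc_f_rc_6_1 lc_f_rc_23_1 lc_f_rc_30_1 lc_f_rc_15_1 lc_f_rc_23_1 lc_f_rc_42_2 lc_f_rc_23_1 lc_f_rc_46_2 lc_f_rc_15_1 lc_f_rc_23_1 lc_f_rc_23_1 lc_f_rc_15_1 lc_f_rc_23_1 lc_f_rc_6_1 lc_f_rc_15_1 lc_f_rc_23_1 lc_f_rc_42_2 lc_f_rc_23_1 lc_f_rc_42_2 lc_f_rc_15_1 lc_f_rc_23_1 lc_f_rc_15_1 lc_f_Cert_tree lc_f_rc_43_0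 lc_f_rc_6_1 lc_f_Cert_tree lc_f_rc_43_0 lc_f_rc_23_1 lc_f_rc_30_1 lc_f_rc_15_1 lc_f_rc_23_1 lc_f_rc_6_1 lc_f_rc_15_1 lc_f_Cert_tree lc_f_rc_43_0 lc_f_rc_15_1 lc_f_rc_6_1 lc_f_rc_36_3 lc_f_rc_43_0) (@D3.rec (fun _ => (Cert rels S Gen.f)) lc_f_rc_44_2 lc_f_rc_46_2 lc_f_rc_42_0 lc_f_rc_15_1 lc_f_Cert_tree lc_f_rc_43_0 lc_f_rc_6_1 lc_f_rc_30_1 lc_f_rc_23_1 lc_f_Cert_tree lc_f_rc_15_1 lc_f_Cert_tree lc_f_rc_43_0 lc_f_rc_42_2 lc_f_rc_42_2 lc_f_rc_30_1 lc_f_rc_23_1 lc_f_Cert_tree lc_f_rc_23_1 lc_f_Cert_tree lc_f_rc_15_1 lc_f_Cert_tree lc_f_rc_43_0 lc_f_rc_15_1 lc_f_Cert_tree lc_f_rc_43_0 lc_f_rc_6_1 lc_f_Cert_tree lc_f_rc_43_0 lc_f_rc_15_1 lc_f_rc_6_1 lc_f_rc_43_0 lc_f_rc_36_1 lc_f_rc_44_0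 lc_f_rc_46_2 lc_f_rc_30_3 lc_f_rc_6_1 lc_f_rc_44_2 lc_f_rc_42_2 lc_f_rc_36_5 lc_f_Cert_tree lc_f_rc_43_0 lc_f_rc_6_3 lc_f_rc_23_1 lc_f_rc_23_1 lc_f_rc_36_3 lc_f_rc_15_1 lc_f_rc_23_1 lc_f_rc_6_1 lc_f_Cert_tree lc_f_rc_43_0) (@D3.rec (fun _ => (Cert rels S Gen.f)) lc_f_rc_15_1 lc_f_rc_23_1 lc_f_rc_15_1 lc_f_rc_36_3 lc_f_rc_6_1 lc_f_rc_15_1 lc_f_rc_23_1 lc_f_rc_15_1 lc_f_rc_15_1 lc_f_rc_6_3 lc_f_rc_23_1 lc_f_rc_15_1 lc_f_rc_23_1 lc_f_rc_15_1 lc_f_rc_6_1 lc_f_Cert_tree lc_f_rc_43_0 lc_f_rc_15_1 lc_f_rc_23_1 lc_f_rc_15_1 lc_f_rc_6_3 lc_f_rc_15_1 lc_f_rc_6_1 lc_f_rc_6_3 lc_f_Cert_tree lc_f_rc_43_0 lc_f_rc_23_1 lc_f_rc_6_1 lc_f_rc_23_1 lc_f_rc_36_3 lc_f_rc_15_1 lc_f_rc_6_1 lc_f_rc_23_3 lc_f_rc_44_4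 lc_f_rc_23_3 lc_f_rc_6_1 lc_f_rc_23_1 lc_f_rc_36_3 lc_f_rc_15_1 lc_f_rc_23_1 lc_f_rc_36_3 lc_f_rc_15_1 lc_f_rc_23_1 lc_f_rc_6_1 lc_f_rc_23_1 lc_f_rc_36_3 lc_f_rc_15_1 lc_f_rc_23_1 lc_f_rc_36_3 lc_f_rc_15_1 lc_f_rc_15_1) (@D3.rec (fun _ => (Cert rels S Gen.f)) lc_f_rc_23_1 lc_f_rc_6_1 lc_f_rc_15_1 lc_f_rc_6_1 lc_f_rc_23_1 lc_f_rc_42_2 lc_f_rc_15_1 lc_f_rc_15_1 lc_f_rc_23_1 lc_f_rc_6_1 lc_f_rc_15_1 lc_f_rc_23_1 lc_f_rc_6_1 lc_f_rc_6_1 lc_f_rc_15_1 lc_f_rc_15_1 lc_f_rc_30_1 lc_f_rc_6_1 lc_f_rc_6_1 lc_f_rc_6_3 lc_f_rc_15_1 lc_f_rc_23_1 lc_f_rc_6_1 lc_f_rc_15_1 lc_f_rc_46_0 lc_f_rc_15_1 lc_f_rc_15_1 lc_f_rc_6_1 lc_f_rc_46_2 lc_f_rc_42_2 lc_f_rc_23_1 lc_f_rc_36_3 lc_f_rc_42_2 lc_f_rc_30_1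 lc_f_rc_23_1 lc_f_rc_30_3 lc_f_rc_15_1 lc_f_rc_42_0 lc_f_rc_42_0 lc_f_rc_15_1 lc_f_rc_30_3 lc_f_rc_15_3 lc_f_rc_36_3 lc_f_rc_23_1 lc_f_rc_36_3 lc_f_rc_15_1 lc_f_rc_15_1 lc_f_rc_36_3 lc_f_rc_6_1 lc_f_rc_30_1 lc_f_rc_30_1) (@D3.rec (fun _ => (Cert rels S Gen.f)) lc_f_rc_30_1 lc_f_rc_15_1 lc_f_rc_30_3 lc_f_rc_23_3 lc_f_rc_23_1 lc_f_rc_36_3 lc_f_rc_15_1 lc_f_rc_15_1 lc_f_rc_23_1 lc_f_rc_6_1 lc_f_rc_42_2 lc_f_rc_42_2 lc_f_Cert_tree lc_f_rc_23_1 lc_f_rc_46_2 lc_f_rc_15_1 lc_f_rc_23_1 lc_f_rc_15_1 lc_f_rc_6_1 lc_f_rc_30_1 lc_f_rc_30_1 lc_f_rc_15_1 lc_f_rc_23_3 lc_f_rc_43_0 lc_f_rc_6_1 lc_f_rc_15_1 lc_f_rc_15_1 lc_f_rc_6_1 lc_f_rc_15_1 lc_f_rc_23_1 lc_f_rc_6_1 lc_f_rc_15_1 lc_f_rc_23_1 lc_f_rc_6_1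 lc_f_rc_15_1 lc_f_rc_30_1 lc_f_rc_15_1 lc_f_rc_23_1 lc_f_rc_6_1 lc_f_rc_42_2 lc_f_rc_6_1 lc_f_Cert_tree lc_f_rc_43_0 lc_f_rc_36_3 lc_f_Cert_tree lc_f_rc_43_0 lc_f_rc_23_1 lc_f_rc_15_1 lc_f_rc_6_1 lc_f_rc_15_1 lc_f_rc_6_1) (@D3.rec (fun _ => (Cert rels S Gen.f)) lc_f_rc_15_1 lc_f_rc_23_1 lc_f_rc_6_1 lc_f_rc_15_1 lc_f_rc_23_1 lc_f_rc_44_2 lc_f_Cert_tree lc_f_rc_15_1 lc_f_rc_23_3 lc_f_rc_43_0 lc_f_rc_15_1 lc_f_rc_23_1 lc_f_rc_6_1 lc_f_rc_45_2 lc_f_rc_30_1 lc_f_rc_6_1 lc_f_rc_15_1 lc_f_rc_43_0 lc_f_rc_6_1 lc_f_rc_15_1 lc_f_Cert_tree lc_f_rc_43_0 lc_f_rc_43_0 lc_f_rc_6_1 lc_f_rc_43_0 lc_f_rc_23_1 lc_f_rc_36_3 lc_f_rc_15_1 lc_f_rc_23_1 lc_f_rc_15_1 lc_f_rc_23_1 lc_f_rc_15_1 lc_f_rc_15_1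 lc_f_rc_23_1 lc_f_rc_6_1 lc_f_rc_30_1 lc_f_rc_42_2 lc_f_rc_15_1 lc_f_rc_6_1 lc_f_rc_46_2 lc_f_rc_15_1 lc_f_rc_23_1 lc_f_rc_6_1 lc_f_rc_43_0 lc_f_rc_42_2 lc_f_rc_42_2 lc_f_rc_15_1 lc_f_rc_23_1 lc_f_rc_6_1 lc_f_rc_15_1 lc_f_rc_30_1) (@D3.rec (fun _ => (Cert rels S Gen.f)) lc_f_rc_15_1 lc_f_rc_42_2 lc_f_rc_46_2 lc_f_rc_30_1 lc_f_rc_23_1 lc_f_rc_30_1 lc_f_rc_23_1 lc_f_Cert_tree lc_f_rc_30_1 lc_f_rc_30_1 lc_f_rc_23_1 lc_f_Cert_tree lc_f_rc_43_0 lc_f_rc_23_1 lc_f_rc_36_3 lc_f_rc_15_1 lc_f_rc_23_1 lc_f_rc_30_1 lc_f_rc_23_1 lc_f_Cert_tree lc_f_rc_43_0 lc_f_rc_15_3 lc_f_rc_23_1 lc_f_rc_36_3 lc_f_rc_15_1 lc_f_rc_42_2 lc_f_rc_23_1 lc_f_Cert_tree lc_f_rc_15_1 lc_f_Cert_tree lc_f_rc_43_0 lc_f_rc_15_1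 lc_f_rc_23_1 lc_f_rc_6_1 lc_f_rc_44_2 lc_f_rc_44_2 lc_f_Cert_tree lc_f_rc_23_1 lc_f_rc_30_1 lc_f_rc_15_1 lc_f_rc_23_1 lc_f_Cert_tree lc_f_rc_15_1 lc_f_Cert_tree lc_f_rc_43_0 lc_f_rc_44_2 lc_f_rc_36_5 lc_f_Cert_tree lc_f_rc_15_1 lc_f_rc_23_1 lc_f_rc_6_1) (@D3.rec (fun _ => (Cert rels S Gen.f)) lc_f_rc_30_1 lc_f_rc_23_1 lc_f_rc_42_2 lc_f_rc_15_1 lc_f_rc_23_1 lc_f_rc_30_1 lc_f_rc_23_1 lc_f_Cert_tree lc_f_rc_23_1 lc_f_Cert_tree lc_f_rc_15_1 lc_f_Cert_tree lc_f_rc_43_0 lc_f_rc_15_1 lc_f_Cert_tree lc_f_rc_43_0 lc_f_rc_6_1 lc_f_Cert_tree lc_f_rc_43_0 lc_f_rc_30_1 lc_f_rc_6_1 lc_f_rc_15_1 lc_f_rc_30_1 lc_f_rc_36_3 lc_f_rc_43_0 lc_f_rc_44_2 lc_f_rc_44_2 lc_f_rc_43_0 lc_f_rc_30_1 lc_f_rc_30_1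 lc_f_rc_42_2 lc_f_rc_44_2 lc_f_rc_46_2 lc_f_rc_46_2 lc_f_rc_43_0 lc_f_rc_23_1 lc_f_rc_15_1 lc_f_rc_30_1 lc_f_rc_30_1 lc_f_rc_23_1 lc_f_rc_23_1 lc_f_rc_36_3 lc_f_rc_55_59 lc_f_rc_23_1 lc_f_rc_42_2 lc_f_rc_15_1 lc_f_rc_23_1 lc_f_rc_15_1 lc_f_rc_23_1 lc_f_rc_6_1 lc_f_rc_23_1) (@D3.rec (fun _ => (Cert rels S Gen.f)) lc_f_rc_42_2 lc_f_rc_15_1 lc_f_rc_15_1 lc_f_rc_23_1 lc_f_rc_36_3 lc_f_rc_15_1 lc_f_rc_23_1 lc_f_rc_15_1 lc_f_rc_23_1 lc_f_rc_6_1 lc_f_rc_23_1 lc_f_rc_44_4 lc_f_rc_15_1 lc_f_rc_6_1 lc_f_rc_42_0 lc_f_rc_15_1 lc_f_rc_23_1 lc_f_rc_30_1 lc_f_rc_15_1 lc_f_rc_23_1 lc_f_rc_6_1 lc_f_rc_15_1 lc_f_rc_30_1 lc_f_Cert_tree lc_f_rc_30_1 lc_f_rc_30_1 lc_f_rc_23_1 lc_f_Cert_tree lc_f_rc_43_0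 lc_f_rc_42_2 lc_f_rc_23_1 lc_f_rc_36_3 lc_f_rc_15_1 lc_f_rc_42_2 lc_f_rc_30_3 lc_f_rc_23_1 lc_f_Cert_tree lc_f_rc_44_2 lc_f_rc_43_0 lc_f_rc_23_1 lc_f_Cert_tree lc_f_rc_23_1 lc_f_Cert_tree lc_f_rc_15_1 lc_f_Cert_tree lc_f_rc_43_0 lc_f_rc_46_0 lc_f_rc_15_1 lc_f_rc_23_1 lc_f_rc_6_1 lc_f_rc_30_1) (@D3.rec (fun _ => (Cert rels S Gen.f)) lc_f_rc_23_1 lc_f_rc_36_3 lc_f_rc_15_1 lc_f_rc_23_1 lc_f_rc_30_1 lc_f_rc_23_1 lc_f_rc_46_0 lc_f_rc_46_2 lc_f_Cert_tree lc_f_rc_43_0 lc_f_rc_23_1 lc_f_Cert_tree lc_f_rc_15_1 lc_f_rc_23_1 lc_f_rc_6_1 lc_f_rc_23_1 lc_f_rc_42_2 lc_f_rc_15_1 lc_f_rc_23_1 lc_f_rc_23_1 lc_f_rc_23_1 lc_f_rc_6_3 lc_f_rc_15_1 lc_f_Cert_tree lc_f_rc_43_0 lc_f_rc_15_1 lc_f_rc_6_1 lc_f_Cert_tree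 lc_f_rc_43_0 lc_f_rc_23_1 lc_f_rc_30_1 lc_f_rc_15_1 lc_f_rc_23_1 lc_f_rc_6_1 lc_f_rc_15_1 lc_f_rc_30_1 lc_f_rc_43_0 lc_f_rc_30_1 lc_f_rc_42_2 lc_f_rc_30_1 lc_f_rc_23_1 lc_f_Cert_tree lc_f_rc_15_1 lc_f_rc_23_1 lc_f_rc_6_1 lc_f_rc_23_1 lc_f_rc_46_0 lc_f_rc_15_1 lc_f_Cert_tree lc_f_rc_43_0 lc_f_rc_42_2) (@D3.rec (fun _ => (Cert rels S Gen.f)) lc_f_Cert_tree lc_f_rc_43_0 lc_f_rc_44_2 lc_f_rc_23_1 lc_f_rc_44_4 lc_f_rc_15_1 lc_f_Cert_tree lc_f_rc_43_0 lc_f_rc_6_1 lc_f_rc_15_1 lc_f_rc_30_1 lc_f_rc_23_1 lc_f_rc_15_1 lc_f_rc_23_1 lc_f_rc_23_1 lc_f_rc_44_0 lc_f_rc_15_1 lc_f_rc_23_1 lc_f_rc_15_1 lc_f_rc_6_1 lc_f_Cert_tree lc_f_rc_43_0 lc_f_rc_43_0 lc_f_rc_23_1 lc_f_rc_46_0 lc_f_Cert_tree lc_f_rc_43_0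 lc_f_rc_42_2 lc_f_rc_23_1 lc_f_rc_15_1 lc_f_rc_6_1 lc_f_Cert_tree lc_f_rc_43_0 lc_f_rc_23_1 lc_f_rc_15_1 lc_f_rc_23_1 lc_f_rc_6_1 lc_f_rc_15_1 lc_f_rc_6_1 lc_f_rc_15_1 lc_f_rc_42_2 lc_f_rc_15_1 lc_f_rc_23_1 lc_f_rc_46_2 lc_f_rc_36_3 lc_f_rc_15_1 lc_f_rc_42_0 lc_f_rc_42_0 lc_f_rc_30_1 lc_f_rc_23_1 lc_f_rc_36_3) (@D3.rec (fun _ => (Cert rels S Gen.f)) lc_f_rc_15_1 lc_f_rc_42_0 lc_f_rc_43_0 lc_f_rc_45_0 lc_f_rc_23_1 lc_f_rc_15_1 lc_f_rc_23_1 lc_f_rc_6_1 lc_f_rc_46_2 lc_f_rc_30_1 lc_f_rc_23_1 lc_f_Cert_tree lc_f_rc_43_0 lc_f_rc_23_1 lc_f_rc_36_3 lc_f_rc_15_1 lc_f_rc_46_2 lc_f_rc_42_0 lc_f_rc_15_3 lc_f_rc_23_1 lc_f_Cert_tree lc_f_rc_46_2 lc_f_Cert_tree lc_f_rc_43_0 lc_f_rc_23_1 lc_f_rc_30_1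 lc_f_rc_15_1 lc_f_rc_23_1 lc_f_rc_6_1 lc_f_rc_30_1 lc_f_rc_6_3 lc_f_rc_30_1 lc_f_rc_15_1 lc_f_rc_23_1 lc_f_rc_43_0 lc_f_rc_23_1 lc_f_rc_30_3 lc_f_Cert_tree lc_f_rc_43_0 lc_f_rc_15_1 lc_f_rc_23_1 lc_f_rc_6_1 lc_f_rc_15_1 lc_f_rc_30_1 lc_f_rc_15_1 lc_f_rc_15_1 lc_f_rc_36_1 lc_f_rc_45_0 lc_f_rc_36_1 lc_f_rc_15_1 lc_f_rc_44_2) (@D3.rec (fun _ => (Cert rels S Gen.f)) lc_f_rc_23_1 lc_f_rc_6_1 lc_f_rc_45_2 lc_f_rc_30_1 lc_f_rc_30_1 lc_f_rc_23_1 lc_f_Cert_tree lc_f_rc_43_0 lc_f_rc_23_1 lc_f_rc_36_3 lc_f_rc_15_1 lc_f_rc_42_0 lc_f_rc_46_2 lc_f_rc_23_1 lc_f_rc_15_3 lc_f_rc_23_1 lc_f_Cert_tree lc_f_rc_23_1 lc_f_rc_15_1 lc_f_Cert_tree lc_f_rc_43_0 lc_f_rc_15_1 lc_f_rc_23_1 lc_f_rc_6_1 lc_f_rc_30_1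 lc_f_rc_15_1 lc_f_rc_15_1 lc_f_rc_44_2 lc_f_rc_15_1 lc_f_rc_6_1 lc_f_rc_15_1 lc_f_Cert_tree lc_f_rc_43_0 lc_f_rc_36_1 lc_f_rc_15_1 lc_f_Cert_tree lc_f_rc_43_0 lc_f_rc_6_1 lc_f_Cert_tree lc_f_rc_43_0 lc_f_rc_6_1 lc_f_rc_15_1 lc_f_rc_23_1 lc_f_rc_6_1 lc_f_rc_44_0 lc_f_rc_46_2 lc_f_rc_30_1 lc_f_rc_30_1 lc_f_rc_23_1 lc_f_rc_23_1 lc_f_rc_36_3) (@D3.rec (fun _ => (Cert rels S Gen.f)) lc_f_rc_15_1 lc_f_rc_30_1 lc_f_Cert_tree lc_f_Cert_tree lc_f_rc_43_0 lc_f_rc_30_1 lc_f_rc_23_1 lc_f_Cert_tree lc_f_rc_23_1 lc_f_Cert_tree lc_f_rc_15_1 lc_f_Cert_tree lc_f_rc_43_0 lc_f_rc_44_2 lc_f_rc_15_1 lc_f_rc_23_1 lc_f_rc_6_1 lc_f_rc_15_1 lc_f_rc_30_1 lc_f_rc_45_2 lc_f_rc_36_3 lc_f_rc_15_1 lc_f_rc_44_2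 lc_f_rc_15_1 lc_f_rc_44_0 lc_f_rc_6_1 lc_f_rc_23_1 lc_f_Cert_tree lc_f_rc_15_1 lc_f_Cert_tree lc_f_rc_43_0 lc_f_rc_23_1 lc_f_Cert_tree lc_f_rc_15_1 lc_f_Cert_tree lc_f_rc_43_0 lc_f_rc_15_1 lc_f_rc_36_3 lc_f_rc_6_1 lc_f_Cert_tree lc_f_rc_43_0 lc_f_rc_44_2 lc_f_rc_23_1 lc_f_rc_6_1 lc_f_rc_15_1 lc_f_rc_30_1 lc_f_rc_36_1 lc_f_rc_15_1 lc_f_rc_23_1 lc_f_rc_6_1 lc_f_rc_30_1) (@D3.rec (fun _ => (Cert rels S Gen.f)) lc_f_rc_23_1 lc_f_rc_15_3 lc_f_rc_23_1 lc_f_rc_44_4 lc_f_rc_15_1 lc_f_rc_23_1 lc_f_rc_15_1 lc_f_rc_23_1 lc_f_rc_6_1 lc_f_rc_15_1 lc_f_rc_6_1 lc_f_rc_45_2 lc_f_rc_23_1 lc_f_rc_15_1 lc_f_rc_23_1 lc_f_Cert_tree lc_f_rc_23_1 lc_f_Cert_tree lc_f_rc_15_1 lc_f_Cert_tree lc_f_rc_43_0 lc_f_rc_15_1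 lc_f_Cert_tree lc_f_rc_43_0 lc_f_rc_6_1 lc_f_Cert_tree lc_f_rc_43_0 lc_f_rc_23_1 lc_f_Cert_tree lc_f_rc_15_1 lc_f_Cert_tree lc_f_rc_43_0 lc_f_rc_15_1 lc_f_Cert_tree lc_f_rc_43_0 lc_f_rc_6_1 lc_f_Cert_tree lc_f_Cert_tree lc_f_rc_43_0 lc_f_rc_44_2 lc_f_rc_15_1 lc_f_rc_30_1 lc_f_rc_6_1 lc_f_Cert_tree lc_f_rc_23_1 lc_f_rc_43_0 lc_f_Cert_tree lc_f_rc_43_0 lc_f_rc_23_1 lc_f_rc_56_33 lc_f_rc_6_1) (@D3.rec (fun _ => (Cert rels S Gen.f)) lc_f_rc_6_3 lc_f_rc_6_1 lc_f_rc_15_1 lc_f_rc_23_1 lc_f_rc_15_1 lc_f_rc_23_3 lc_f_rc_46_2 lc_f_rc_23_1 lc_f_rc_30_3 lc_f_Cert_tree lc_f_rc_43_0 lc_f_rc_43_0 lc_f_rc_15_1 lc_f_rc_15_1 lc_f_rc_23_1 lc_f_rc_6_1 lc_f_rc_44_4 lc_f_rc_30_3 lc_f_rc_6_1 lc_f_rc_15_1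 lc_f_rc_23_1 lc_f_rc_36_3 lc_f_rc_15_1 lc_f_rc_15_1 lc_f_Cert_tree lc_f_rc_43_0 lc_f_rc_15_1 lc_f_rc_23_1 lc_f_rc_6_1 lc_f_rc_23_1 lc_f_rc_36_3 lc_f_rc_15_1 lc_f_rc_15_1 lc_f_rc_23_1 lc_f_rc_6_1 lc_f_rc_6_1 lc_f_rc_15_1 lc_f_rc_44_2 lc_f_rc_15_1 lc_f_rc_23_1 lc_f_rc_6_1 lc_f_rc_23_3 lc_f_rc_6_1 lc_f_rc_15_1 lc_f_rc_6_1 lc_f_rc_23_3 lc_f_rc_6_1 lc_f_rc_15_1 lc_f_rc_23_1 lc_f_rc_6_1 lc_f_rc_15_1) (@D3.rec (fun _ => (Cert rels S Gen.f)) lc_f_rc_6_1 lc_f_rc_15_1 lc_f_rc_42_2 lc_f_rc_46_2 lc_f_rc_15_1 lc_f_rc_6_1 lc_f_rc_15_1 lc_f_rc_15_1 lc_f_rc_23_1 lc_f_rc_6_1 lc_f_rc_44_2 lc_f_rc_42_2 lc_f_rc_6_1 lc_f_rc_15_1 lc_f_rc_23_1 lc_f_rc_36_3 lc_f_rc_15_1 lc_f_rc_23_1 lc_f_Cert_tree lc_f_rc_15_1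 lc_f_Cert_tree lc_f_rc_43_0 lc_f_rc_44_2 lc_f_rc_15_1 lc_f_rc_23_1 lc_f_rc_6_1 lc_f_rc_23_1 lc_f_rc_36_3 lc_f_rc_15_1 lc_f_rc_30_3 lc_f_Cert_tree lc_f_rc_15_1 lc_f_rc_23_1 lc_f_rc_6_1 lc_f_rc_6_1 lc_f_rc_15_1 lc_f_rc_23_1 lc_f_rc_44_2 lc_f_rc_43_0 lc_f_rc_30_1 lc_f_rc_36_1 lc_f_rc_23_1 lc_f_rc_36_3 lc_f_rc_15_1 lc_f_rc_15_1 lc_f_rc_23_1 lc_f_rc_6_1 lc_f_rc_23_1 lc_f_rc_46_0 lc_f_rc_15_1 lc_f_rc_42_0) (@D3.rec (fun _ => (Cert rels S Gen.f)) lc_f_rc_46_2 lc_f_rc_15_1 lc_f_rc_23_1 lc_f_rc_6_1 lc_f_rc_15_1 lc_f_Cert_tree lc_f_rc_43_0 lc_f_rc_6_1 lc_f_rc_6_3 lc_f_rc_30_1 lc_f_rc_23_1 lc_f_rc_15_1 lc_f_rc_6_1 lc_f_rc_23_1 lc_f_rc_46_2 lc_f_rc_15_1 lc_f_rc_23_1 lc_f_rc_15_1 lc_f_rc_6_1 lc_f_rc_6_1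 lc_f_rc_15_1 lc_f_rc_23_1 lc_f_rc_6_1 lc_f_rc_15_1 lc_f_rc_23_1 lc_f_rc_23_1 lc_f_rc_30_1 lc_f_rc_36_5 lc_f_rc_42_2 lc_f_rc_46_2 lc_f_rc_15_1 lc_f_rc_42_2 lc_f_rc_23_1 lc_f_rc_23_3 lc_f_rc_15_1 lc_f_rc_30_1 lc_f_rc_36_3 lc_f_rc_15_1 lc_f_rc_23_1 lc_f_rc_6_1 lc_f_rc_42_2 lc_f_Cert_tree lc_f_Cert_tree lc_f_rc_43_0 lc_f_rc_6_1 lc_f_rc_23_1 lc_f_Cert_tree lc_f_rc_15_1 lc_f_Cert_tree lc_f_rc_43_0 lc_f_Cert_tree) (@D3.rec (fun _ => (Cert rels S Gen.f)) lc_f_rc_43_0 lc_f_rc_46_0 lc_f_rc_23_1 lc_f_rc_30_1 lc_f_rc_23_1 lc_f_rc_15_1 lc_f_rc_30_1 lc_f_Cert_tree lc_f_rc_15_1 lc_f_Cert_tree lc_f_rc_43_0 lc_f_rc_6_1 lc_f_Cert_tree lc_f_rc_43_0 lc_f_rc_44_2 lc_f_rc_44_2 lc_f_rc_23_1 lc_f_rc_6_1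 lc_f_rc_15_1 lc_f_rc_30_1 lc_f_rc_15_1 lc_f_rc_23_1 lc_f_rc_42_2 lc_f_rc_15_1 lc_f_rc_23_1 lc_f_rc_6_1 lc_f_rc_15_1 lc_f_rc_23_1 lc_f_rc_15_1 lc_f_rc_6_1 lc_f_rc_42_0 lc_f_rc_44_2 lc_f_rc_15_1 lc_f_Cert_tree lc_f_rc_43_0 lc_f_rc_6_1 lc_f_rc_15_1 lc_f_rc_23_1 lc_f_rc_15_1 lc_f_rc_6_1 lc_f_rc_23_1 lc_f_rc_15_1 lc_f_rc_15_1 lc_f_rc_6_1 lc_f_rc_15_1 lc_f_rc_6_1 lc_f_rc_15_1 lc_f_rc_15_1 lc_f_rc_23_1 lc_f_rc_6_1 lc_f_rc_15_1) (@D3.rec (fun _ => (Cert rels S Gen.f)) lc_f_rc_23_1 lc_f_rc_6_1 lc_f_rc_15_1 lc_f_rc_23_1 lc_f_rc_45_2 lc_f_rc_44_2 lc_f_rc_36_5 lc_f_rc_30_1 lc_f_rc_36_1 lc_f_rc_30_1 lc_f_rc_42_2 lc_f_rc_23_1 lc_f_rc_42_2 lc_f_rc_42_2 lc_f_rc_55_59 lc_f_rc_15_1 lc_f_rc_23_1 lc_f_rc_42_2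 lc_f_rc_15_1 lc_f_Cert_tree lc_f_rc_43_0 lc_f_rc_6_1 lc_f_Cert_tree lc_f_rc_43_0 lc_f_rc_15_1 lc_f_rc_36_3 lc_f_rc_6_1 lc_f_rc_15_1 lc_f_rc_30_1 lc_f_rc_15_1 lc_f_rc_15_1 lc_f_rc_23_1 lc_f_rc_6_1 lc_f_rc_23_1 lc_f_rc_15_1 lc_f_rc_23_1 lc_f_rc_15_1 lc_f_rc_23_1 lc_f_rc_15_1 lc_f_rc_6_1 lc_f_rc_30_1 lc_f_Cert_tree lc_f_rc_15_1 lc_f_Cert_tree lc_f_rc_43_0 lc_f_rc_6_1 lc_f_rc_43_1 lc_f_rc_23_1 lc_f_rc_30_3 lc_f_rc_6_3 lc_f_rc_23_1) (@D3.rec (fun _ => (Cert rels S Gen.f)) lc_f_rc_6_1 lc_f_Cert_tree lc_f_rc_30_3 lc_f_rc_43_0 lc_f_rc_6_1 lc_f_rc_43_0 lc_f_rc_30_1 lc_f_rc_6_1 lc_f_rc_23_1 lc_f_rc_15_1 lc_f_rc_23_1 lc_f_rc_6_1 lc_f_rc_15_1 lc_f_rc_6_1 lc_f_rc_15_1 lc_f_rc_6_1 lc_f_rc_23_1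 lc_f_Cert_tree lc_f_rc_44_2 lc_f_Cert_tree lc_f_rc_15_1 lc_f_Cert_tree lc_f_rc_43_0 lc_f_rc_15_1 lc_f_rc_23_1 lc_f_rc_6_1 lc_f_Cert_tree lc_f_Cert_tree lc_f_rc_43_0 lc_f_rc_6_1 lc_f_rc_45_0 lc_f_rc_30_1 lc_f_Cert_tree lc_f_Cert_tree lc_f_rc_43_0 lc_f_rc_43_0 lc_f_rc_15_1 lc_f_Cert_tree lc_f_rc_43_0 lc_f_rc_6_1 lc_f_Cert_tree lc_f_rc_43_0 lc_f_Cert_tree lc_f_rc_15_1 lc_f_rc_43_0 lc_f_rc_23_1 lc_f_rc_43_0 lc_f_rc_6_1 lc_f_rc_6_3 lc_f_rc_23_1 lc_f_rc_6_1)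
def ce_f_20 : D2 → D3 → (Cert rels S Gen.f) := @D2.rec (fun _ => D3 → (Cert rels S Gen.f)) (@D3.rec (fun _ => (Cert rels S Gen.f)) lc_f_rc_15_1 lc_f_rc_23_1 lc_f_rc_6_1 lc_f_rc_15_1 lc_f_rc_15_1 lc_f_rc_46_2 lc_f_rc_43_0 lc_f_Cert_tree lc_f_rc_43_0 lc_f_rc_42_2 lc_f_rc_30_1 lc_f_rc_44_2 lc_f_rc_42_0 lc_f_rc_44_2 lc_f_rc_36_1 lc_f_rc_30_3 lc_f_rc_30_1 lc_f_rc_42_0 lc_f_rc_42_0 lc_f_rc_46_2 lc_f_rc_23_1 lc_f_rc_36_1 lc_f_rc_23_1 lc_f_rc_6_1 lc_f_rc_43_0 lc_f_rc_45_0 lc_f_rc_45_2 lc_f_rc_23_1 lc_f_rc_30_1 lc_f_rc_36_3 lc_f_rc_6_1 lc_f_rc_6_1 lc_f_rc_6_1 lc_f_rc_44_2 lc_f_rc_15_3 lc_f_rc_15_1 lc_f_rc_36_3 lc_f_rc_6_1 lc_f_rc_15_1 lc_f_rc_36_3 lc_f_rc_6_1 lc_f_rc_44_2 lc_f_rc_23_1 lc_f_rc_6_1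 lc_f_rc_15_1 lc_f_rc_6_1 lc_f_rc_15_1 lc_f_rc_30_1 lc_f_rc_6_1 lc_f_rc_6_1 lc_f_rc_15_1) (@D3.rec (fun _ => (Cert rels S Gen.f)) lc_f_rc_6_1 lc_f_rc_15_1 lc_f_rc_6_1 lc_f_rc_6_1 lc_f_rc_15_1 lc_f_rc_23_1 lc_f_rc_6_1 lc_f_rc_15_1 lc_f_rc_30_1 lc_f_rc_45_2 lc_f_rc_15_1 lc_f_Cert_tree lc_f_rc_43_0 lc_f_rc_15_1 lc_f_rc_23_1 lc_f_rc_6_1 lc_f_rc_15_1 lc_f_Cert_tree lc_f_rc_43_0 lc_f_rc_23_1 lc_f_rc_36_3 lc_f_rc_15_1 lc_f_Cert_tree lc_f_rc_43_0 lc_f_rc_15_1 lc_f_rc_23_1 lc_f_rc_6_1 lc_f_Cert_tree lc_f_rc_43_0 lc_f_rc_30_1 lc_f_rc_6_1 lc_f_rc_15_1 lc_f_Cert_tree lc_f_rc_43_0 lc_f_rc_6_1 lc_f_Cert_tree lc_f_rc_43_0 lc_f_rc_15_1 lc_f_rc_23_1 lc_f_rc_6_1 lc_f_Cert_tree lc_f_rc_43_0 lc_f_rc_6_1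 lc_f_rc_15_1 lc_f_Cert_tree lc_f_rc_43_0 lc_f_rc_42_2 lc_f_rc_42_2 lc_f_rc_43_0 lc_f_rc_23_1 lc_f_rc_30_1) (@D3.rec (fun _ => (Cert rels S Gen.f)) lc_f_rc_43_0 lc_f_rc_23_1 lc_f_rc_30_1 lc_f_rc_43_1 lc_f_rc_42_2 lc_f_Cert_tree lc_f_rc_44_2 lc_f_Cert_tree lc_f_rc_43_0 lc_f_rc_44_2 lc_f_rc_42_2 lc_f_rc_42_2 lc_f_rc_43_0 lc_f_rc_23_1 lc_f_rc_42_2 lc_f_rc_42_2 lc_f_rc_43_0 lc_f_rc_23_1 lc_f_rc_15_3 lc_f_rc_15_1 lc_f_rc_15_1 lc_f_rc_23_1 lc_f_rc_15_1 lc_f_rc_6_1 lc_f_rc_15_1 lc_f_rc_15_1 lc_f_rc_15_1 lc_f_rc_23_1 lc_f_rc_6_1 lc_f_rc_15_1 lc_f_rc_30_1 lc_f_rc_6_1 lc_f_rc_6_1 lc_f_rc_6_1 lc_f_rc_15_1 lc_f_Cert_tree lc_f_rc_43_0 lc_f_rc_6_1 lc_f_Cert_tree lc_f_rc_43_0 lc_f_rc_6_1 lc_f_rc_15_1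 lc_f_rc_36_5 lc_f_rc_15_1 lc_f_rc_23_1 lc_f_rc_6_1 lc_f_rc_15_1 lc_f_rc_23_1 lc_f_rc_45_2 lc_f_rc_15_1 lc_f_rc_23_1) (@D3.rec (fun _ => (Cert rels S Gen.f)) lc_f_rc_15_1 lc_f_Cert_tree lc_f_rc_43_0 lc_f_rc_6_1 lc_f_Cert_tree lc_f_rc_43_0 lc_f_rc_42_2 lc_f_rc_6_1 lc_f_rc_15_1 lc_f_Cert_tree lc_f_rc_43_0 lc_f_rc_30_1 lc_f_rc_15_1 lc_f_rc_23_1 lc_f_rc_6_1 lc_f_rc_15_1 lc_f_rc_23_1 lc_f_rc_15_1 lc_f_rc_23_1 lc_f_rc_6_1 lc_f_rc_15_1 lc_f_rc_15_1 lc_f_rc_6_1 lc_f_rc_15_1 lc_f_rc_6_1 lc_f_rc_15_1 lc_f_rc_23_1 lc_f_rc_15_1 lc_f_rc_23_1 lc_f_rc_6_1 lc_f_rc_15_1 lc_f_rc_30_1 lc_f_rc_6_1 lc_f_Cert_tree lc_f_rc_43_0 lc_f_Cert_tree lc_f_rc_43_0 lc_f_rc_15_1 lc_f_rc_23_1 lc_f_rc_6_1 lc_f_rc_15_1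 lc_f_rc_6_1 lc_f_rc_43_0 lc_f_rc_6_1 lc_f_rc_44_2 lc_f_rc_42_0 lc_f_rc_42_0 lc_f_rc_6_1 lc_f_Cert_tree lc_f_rc_43_0 lc_f_rc_23_1) (@D3.rec (fun _ => (Cert rels S Gen.f)) lc_f_Cert_tree lc_f_rc_15_1 lc_f_Cert_tree lc_f_rc_43_0 lc_f_rc_6_1 lc_f_Cert_tree lc_f_rc_43_0 lc_f_rc_23_1 lc_f_Cert_tree lc_f_rc_15_1 lc_f_Cert_tree lc_f_rc_43_0 lc_f_rc_15_1 lc_f_Cert_tree lc_f_rc_43_0 lc_f_rc_6_1 lc_f_Cert_tree lc_f_rc_43_0 lc_f_rc_6_1 lc_f_Cert_tree lc_f_rc_43_0 lc_f_Cert_tree lc_f_rc_43_0 lc_f_rc_23_1 lc_f_rc_15_1 lc_f_rc_23_1 lc_f_rc_46_2 lc_f_rc_15_1 lc_f_rc_44_2 lc_f_Cert_tree lc_f_rc_43_0 lc_f_rc_44_2 lc_f_rc_15_1 lc_f_rc_15_1 lc_f_rc_36_3 lc_f_rc_23_1 lc_f_rc_15_1 lc_f_rc_30_1 lc_f_Cert_tree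 lc_f_rc_43_0 lc_f_rc_15_1 lc_f_rc_15_1 lc_f_rc_6_1 lc_f_rc_15_1 lc_f_rc_15_1 lc_f_rc_15_1 lc_f_rc_45_2 lc_f_rc_15_3 lc_f_rc_15_1 lc_f_rc_6_1 lc_f_rc_55_50) (@D3.rec (fun _ => (Cert rels S Gen.f)) lc_f_rc_6_1 lc_f_Cert_tree lc_f_rc_43_0 lc_f_rc_15_1 lc_f_rc_6_3 lc_f_rc_42_2 lc_f_rc_6_1 lc_f_rc_43_1 lc_f_rc_43_0 lc_f_rc_15_1 lc_f_rc_15_1 lc_f_rc_23_1 lc_f_rc_6_1 lc_f_rc_44_4 lc_f_rc_15_1 lc_f_rc_36_3 lc_f_rc_6_1 lc_f_rc_15_1 lc_f_rc_42_2 lc_f_rc_6_1 lc_f_rc_15_1 lc_f_rc_30_1 lc_f_rc_15_1 lc_f_rc_23_1 lc_f_rc_6_1 lc_f_rc_15_1 lc_f_rc_23_1 lc_f_rc_6_1 lc_f_rc_6_1 lc_f_rc_15_1 lc_f_rc_6_1 lc_f_rc_15_1 lc_f_rc_23_1 lc_f_rc_6_1 lc_f_rc_6_1 lc_f_rc_15_1 lc_f_rc_6_1 lc_f_rc_15_1 lc_f_rc_30_1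 lc_f_rc_6_1 lc_f_rc_6_1 lc_f_rc_43_1 lc_f_rc_15_3 lc_f_rc_6_1 lc_f_rc_15_1 lc_f_rc_6_1 lc_f_rc_15_3 lc_f_rc_6_1 lc_f_rc_15_3 lc_f_rc_46_2 lc_f_rc_15_1) (@D3.rec (fun _ => (Cert rels S Gen.f)) lc_f_rc_30_1 lc_f_rc_43_1 lc_f_rc_42_2 lc_f_rc_23_1 lc_f_rc_43_1 lc_f_rc_23_1 lc_f_rc_43_1 lc_f_rc_42_0 lc_f_rc_15_3 lc_f_rc_43_1 lc_f_rc_36_3 lc_f_rc_15_1 lc_f_rc_36_3 lc_f_rc_6_1 lc_f_rc_6_1 lc_f_rc_15_1 lc_f_rc_44_4 lc_f_rc_30_1 lc_f_rc_30_1 lc_f_rc_6_1 lc_f_rc_15_1 lc_f_rc_30_1 lc_f_rc_15_1 lc_f_rc_23_1 lc_f_rc_6_1 lc_f_rc_6_1 lc_f_rc_15_1 lc_f_rc_23_1 lc_f_rc_23_1 lc_f_Cert_tree lc_f_rc_42_2 lc_f_rc_23_3 lc_f_rc_43_0 lc_f_rc_15_1 lc_f_rc_23_1 lc_f_rc_6_1 lc_f_rc_15_1 lc_f_rc_30_1 lc_f_rc_6_1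 lc_f_rc_15_1 lc_f_rc_30_1 lc_f_rc_6_1 lc_f_rc_15_1 lc_f_rc_6_1 lc_f_rc_6_1 lc_f_rc_6_1 lc_f_rc_6_3 lc_f_rc_30_1 lc_f_rc_6_1 lc_f_rc_15_1 lc_f_rc_30_1) (@D3.rec (fun _ => (Cert rels S Gen.f)) lc_f_rc_6_1 lc_f_rc_15_1 lc_f_rc_46_0 lc_f_rc_6_1 lc_f_rc_15_1 lc_f_rc_30_1 lc_f_Cert_tree lc_f_rc_43_0 lc_f_rc_15_3 lc_f_rc_43_0 lc_f_rc_36_5 lc_f_rc_23_3 lc_f_rc_6_1 lc_f_rc_6_1 lc_f_rc_15_1 lc_f_rc_6_1 lc_f_rc_15_1 lc_f_rc_23_1 lc_f_rc_15_1 lc_f_rc_23_3 lc_f_rc_43_0 lc_f_rc_6_1 lc_f_rc_15_1 lc_f_rc_6_1 lc_f_rc_15_1 lc_f_rc_15_3 lc_f_rc_55_59 lc_f_rc_6_1 lc_f_rc_6_1 lc_f_rc_43_0 lc_f_rc_15_1 lc_f_rc_23_1 lc_f_rc_6_1 lc_f_rc_15_1 lc_f_rc_6_1 lc_f_rc_15_1 lc_f_rc_6_1 lc_f_rc_6_1 lc_f_rc_15_1 lc_f_rc_30_1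 lc_f_rc_42_2 lc_f_rc_46_2 lc_f_rc_15_3 lc_f_rc_46_2 lc_f_rc_6_1 lc_f_rc_15_1 lc_f_rc_15_1 lc_f_rc_6_1 lc_f_rc_15_1 lc_f_rc_6_1 lc_f_rc_15_1) (@D3.rec (fun _ => (Cert rels S Gen.f)) lc_f_rc_42_2 lc_f_rc_23_1 lc_f_rc_46_2 lc_f_rc_23_1 lc_f_rc_36_3 lc_f_rc_15_1 lc_f_rc_23_1 lc_f_Cert_tree lc_f_Cert_tree lc_f_rc_43_0 lc_f_rc_30_1 lc_f_Cert_tree lc_f_rc_23_1 lc_f_Cert_tree lc_f_rc_15_1 lc_f_Cert_tree lc_f_rc_43_0 lc_f_rc_23_1 lc_f_rc_15_1 lc_f_rc_23_1 lc_f_rc_6_1 lc_f_rc_15_1 lc_f_rc_42_2 lc_f_Cert_tree lc_f_rc_15_1 lc_f_Cert_tree lc_f_rc_43_0 lc_f_rc_44_2 lc_f_rc_23_1 lc_f_Cert_tree lc_f_rc_15_1 lc_f_rc_23_1 lc_f_rc_6_1 lc_f_rc_23_1 lc_f_Cert_tree lc_f_rc_15_1 lc_f_Cert_tree lc_f_rc_43_0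 lc_f_rc_6_1 lc_f_Cert_tree lc_f_rc_43_0 lc_f_rc_6_1 lc_f_rc_15_1 lc_f_rc_30_1 lc_f_rc_45_2 lc_f_rc_43_0 lc_f_rc_30_1 lc_f_rc_42_2 lc_f_rc_23_3 lc_f_rc_15_1 lc_f_Cert_tree) (@D3.rec (fun _ => (Cert rels S Gen.f)) lc_f_rc_43_0 lc_f_rc_6_1 lc_f_Cert_tree lc_f_rc_43_0 lc_f_rc_42_2 lc_f_rc_15_1 lc_f_Cert_tree lc_f_rc_43_0 lc_f_rc_6_1 lc_f_rc_15_1 lc_f_rc_30_1 lc_f_rc_23_1 lc_f_rc_46_2 lc_f_rc_15_1 lc_f_rc_23_1 lc_f_rc_6_1 lc_f_rc_15_1 lc_f_rc_23_1 lc_f_Cert_tree lc_f_rc_15_1 lc_f_Cert_tree lc_f_rc_43_0 lc_f_rc_15_1 lc_f_Cert_tree lc_f_rc_43_0 lc_f_rc_6_1 lc_f_Cert_tree lc_f_rc_43_0 lc_f_rc_44_2 lc_f_rc_6_1 lc_f_Cert_tree lc_f_rc_23_1 lc_f_rc_43_0 lc_f_Cert_tree lc_f_rc_43_0 lc_f_rc_23_1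 lc_f_rc_6_1 lc_f_rc_15_1 lc_f_rc_42_2 lc_f_rc_30_1 lc_f_rc_44_2 lc_f_rc_44_2 lc_f_rc_23_3 lc_f_rc_46_2 lc_f_rc_30_3 lc_f_rc_15_1 lc_f_rc_6_1 lc_f_rc_23_1 lc_f_rc_23_1 lc_f_rc_36_3 lc_f_rc_15_1) (@D3.rec (fun _ => (Cert rels S Gen.f)) lc_f_rc_15_1 lc_f_rc_23_1 lc_f_rc_15_3 lc_f_rc_44_2 lc_f_rc_23_1 lc_f_rc_6_1 lc_f_rc_15_1 lc_f_rc_6_1 lc_f_rc_15_1 lc_f_rc_15_1 lc_f_rc_23_1 lc_f_rc_6_1 lc_f_rc_15_3 lc_f_rc_15_1 lc_f_rc_23_1 lc_f_rc_6_1 lc_f_rc_15_1 lc_f_rc_6_1 lc_f_rc_15_1 lc_f_rc_15_1 lc_f_rc_23_1 lc_f_rc_6_1 lc_f_rc_6_1 lc_f_rc_15_1 lc_f_rc_23_1 lc_f_rc_6_1 lc_f_rc_15_1 lc_f_rc_6_1 lc_f_rc_42_2 lc_f_Cert_tree lc_f_rc_43_0 lc_f_rc_30_1 lc_f_Cert_tree lc_f_rc_23_1 lc_f_Cert_tree lc_f_rc_15_1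 lc_f_Cert_tree lc_f_rc_43_0 lc_f_rc_44_2 lc_f_rc_42_2 lc_f_Cert_tree lc_f_rc_15_1 lc_f_rc_23_1 lc_f_rc_6_1 lc_f_rc_23_1 lc_f_rc_42_2 lc_f_rc_15_1 lc_f_Cert_tree lc_f_rc_43_0 lc_f_rc_44_2 lc_f_rc_15_1) (@D3.rec (fun _ => (Cert rels S Gen.f)) lc_f_Cert_tree lc_f_rc_43_0 lc_f_rc_15_1 lc_f_Cert_tree lc_f_rc_43_0 lc_f_rc_6_1 lc_f_Cert_tree lc_f_rc_43_0 lc_f_rc_46_0 lc_f_rc_6_1 lc_f_rc_15_1 lc_f_rc_30_1 lc_f_rc_23_1 lc_f_Cert_tree lc_f_rc_15_1 lc_f_rc_36_3 lc_f_rc_6_1 lc_f_rc_15_1 lc_f_rc_23_1 lc_f_rc_45_2 lc_f_rc_23_1 lc_f_rc_46_2 lc_f_Cert_tree lc_f_rc_43_0 lc_f_rc_15_1 lc_f_Cert_tree lc_f_rc_43_0 lc_f_rc_6_1 lc_f_rc_15_1 lc_f_rc_30_1 lc_f_rc_15_1 lc_f_rc_23_1 lc_f_rc_6_1 lc_f_rc_15_1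 lc_f_rc_15_1 lc_f_rc_15_1 lc_f_rc_23_1 lc_f_rc_6_1 lc_f_Cert_tree lc_f_Cert_tree lc_f_rc_43_0 lc_f_rc_6_1 lc_f_Cert_tree lc_f_rc_43_0 lc_f_rc_6_3 lc_f_rc_23_1 lc_f_rc_6_1 lc_f_rc_15_1 lc_f_rc_6_1 lc_f_rc_15_1 lc_f_rc_42_2) (@D3.rec (fun _ => (Cert rels S Gen.f)) lc_f_rc_42_2 lc_f_rc_46_2 lc_f_rc_23_1 lc_f_rc_15_3 lc_f_rc_15_1 lc_f_Cert_tree lc_f_rc_43_0 lc_f_rc_6_1 lc_f_rc_15_1 lc_f_rc_30_1 lc_f_rc_15_1 lc_f_rc_23_1 lc_f_rc_15_3 lc_f_Cert_tree lc_f_rc_43_0 lc_f_Cert_tree lc_f_rc_43_0 lc_f_rc_23_1 lc_f_rc_15_1 lc_f_rc_23_1 lc_f_rc_6_1 lc_f_Cert_tree lc_f_rc_43_0 lc_f_rc_6_1 lc_f_rc_15_1 lc_f_rc_15_1 lc_f_rc_6_1 lc_f_rc_15_1 lc_f_rc_15_1 lc_f_rc_23_1 lc_f_rc_15_3 lc_f_rc_55_23 lc_f_rc_6_1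 lc_f_Cert_tree lc_f_rc_43_0 lc_f_rc_30_1 lc_f_rc_36_1 lc_f_Cert_tree lc_f_rc_43_0 lc_f_rc_23_1 lc_f_rc_15_1 lc_f_rc_6_1 lc_f_rc_43_0 lc_f_rc_15_1 lc_f_rc_6_1 lc_f_rc_15_1 lc_f_rc_6_1 lc_f_rc_6_1 lc_f_rc_15_1 lc_f_rc_15_1 lc_f_rc_46_2) (@D3.rec (fun _ => (Cert rels S Gen.f)) lc_f_rc_23_1 lc_f_rc_15_1 lc_f_rc_23_3 lc_f_rc_46_2 lc_f_rc_6_3 lc_f_rc_44_0 lc_f_rc_15_1 lc_f_rc_23_1 lc_f_rc_6_1 lc_f_rc_44_2 lc_f_rc_30_1 lc_f_rc_30_3 lc_f_rc_6_3 lc_f_rc_6_1 lc_f_rc_15_1 lc_f_rc_23_1 lc_f_Cert_tree lc_f_rc_23_1 lc_f_Cert_tree lc_f_rc_15_1 lc_f_Cert_tree lc_f_rc_43_0 lc_f_rc_15_1 lc_f_rc_23_1 lc_f_rc_6_1 lc_f_rc_46_2 lc_f_rc_15_1 lc_f_rc_23_1 lc_f_rc_15_1 lc_f_Cert_tree lc_f_rc_43_0 lc_f_rc_46_2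 lc_f_Cert_tree lc_f_rc_43_0 lc_f_rc_15_1 lc_f_rc_23_1 lc_f_rc_6_1 lc_f_rc_15_1 lc_f_rc_30_1 lc_f_rc_44_4 lc_f_rc_23_1 lc_f_rc_15_1 lc_f_rc_30_1 lc_f_rc_55_23 lc_f_Cert_tree lc_f_rc_43_0 lc_f_rc_6_1 lc_f_rc_15_1 lc_f_rc_6_1 lc_f_rc_15_1 lc_f_rc_6_1) (@D3.rec (fun _ => (Cert rels S Gen.f)) lc_f_rc_56_47 lc_f_rc_45_0 lc_f_rc_6_3 lc_f_rc_44_2 lc_f_rc_23_1 lc_f_rc_44_2 lc_f_rc_15_1 lc_f_rc_6_3 lc_f_rc_30_1 lc_f_Cert_tree lc_f_rc_23_1 lc_f_Cert_tree lc_f_rc_15_1 lc_f_Cert_tree lc_f_rc_43_0 lc_f_rc_44_2 lc_f_rc_15_1 lc_f_rc_42_2 lc_f_rc_6_1 lc_f_rc_55_59 lc_f_rc_46_2 lc_f_rc_15_1 lc_f_rc_23_1 lc_f_rc_15_1 lc_f_Cert_tree lc_f_rc_43_0 lc_f_rc_15_1 lc_f_rc_6_1 lc_f_Cert_tree lc_f_rc_43_0 lc_f_rc_6_1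 lc_f_rc_15_1 lc_f_rc_44_2 lc_f_rc_36_1 lc_f_rc_15_3 lc_f_rc_15_3 lc_f_rc_15_1 lc_f_rc_6_1 lc_f_rc_6_1 lc_f_Cert_tree lc_f_rc_36_1 lc_f_rc_43_0 lc_f_rc_6_1 lc_f_Cert_tree lc_f_rc_23_1 lc_f_rc_43_0 lc_f_Cert_tree lc_f_rc_43_0 lc_f_rc_6_1 lc_f_rc_15_1 lc_f_rc_23_1) (@D3.rec (fun _ => (Cert rels S Gen.f)) lc_f_rc_15_1 lc_f_rc_44_2 lc_f_rc_42_2 lc_f_rc_23_1 lc_f_rc_42_2 lc_f_rc_15_1 lc_f_rc_15_1 lc_f_rc_45_2 lc_f_rc_6_1 lc_f_rc_15_1 lc_f_Cert_tree lc_f_rc_43_0 lc_f_Cert_tree lc_f_rc_43_0 lc_f_rc_44_2 lc_f_rc_30_1 lc_f_rc_23_1 lc_f_Cert_tree lc_f_rc_43_0 lc_f_rc_15_1 lc_f_Cert_tree lc_f_rc_43_0 lc_f_rc_6_1 lc_f_Cert_tree lc_f_rc_43_0 lc_f_rc_36_1 lc_f_rc_45_2 lc_f_rc_6_1 lc_f_rc_15_1 lc_f_rc_30_1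 lc_f_rc_23_3 lc_f_rc_30_1 lc_f_rc_42_2 lc_f_rc_15_1 lc_f_rc_45_2 lc_f_rc_15_1 lc_f_rc_15_1 lc_f_rc_6_1 lc_f_rc_6_3 lc_f_rc_15_1 lc_f_Cert_tree lc_f_rc_43_0 lc_f_rc_6_1 lc_f_Cert_tree lc_f_rc_43_0 lc_f_rc_15_1 lc_f_Cert_tree lc_f_rc_43_0 lc_f_rc_23_3 lc_f_Cert_tree lc_f_Cert_tree) (@D3.rec (fun _ => (Cert rels S Gen.f)) lc_f_rc_43_0 lc_f_rc_6_1 lc_f_rc_15_1 lc_f_Cert_tree lc_f_rc_43_0 lc_f_rc_44_2 lc_f_rc_15_1 lc_f_rc_6_1 lc_f_rc_15_1 lc_f_rc_36_1 lc_f_rc_42_2 lc_f_rc_6_1 lc_f_rc_15_1 lc_f_rc_23_1 lc_f_rc_36_3 lc_f_rc_15_1 lc_f_rc_23_1 lc_f_rc_15_1 lc_f_rc_23_1 lc_f_rc_6_1 lc_f_rc_46_0 lc_f_rc_6_1 lc_f_rc_15_1 lc_f_rc_15_3 lc_f_rc_36_3 lc_f_rc_15_1 lc_f_rc_6_1 lc_f_rc_15_1 lc_f_Cert_tree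 lc_f_rc_43_0 lc_f_rc_15_1 lc_f_Cert_tree lc_f_rc_43_0 lc_f_rc_6_1 lc_f_Cert_tree lc_f_rc_43_0 lc_f_rc_6_1 lc_f_Cert_tree lc_f_rc_43_0 lc_f_Cert_tree lc_f_rc_43_0 lc_f_rc_15_1 lc_f_Cert_tree lc_f_rc_43_0 lc_f_rc_6_1 lc_f_Cert_tree lc_f_Cert_tree lc_f_rc_43_0 lc_f_rc_6_1 lc_f_Cert_tree lc_f_Cert_tree) (@D3.rec (fun _ => (Cert rels S Gen.f)) lc_f_rc_43_0 lc_f_rc_44_2 lc_f_Cert_tree lc_f_Cert_tree lc_f_rc_43_0 lc_f_rc_43_0 lc_f_rc_23_1 lc_f_rc_6_1 lc_f_rc_15_1 lc_f_Cert_tree lc_f_rc_23_1 lc_f_rc_43_0 lc_f_rc_23_1 lc_f_rc_43_0 lc_f_rc_15_1 lc_f_rc_36_1 lc_f_rc_15_1 lc_f_rc_6_1 lc_f_rc_55_5 lc_f_rc_30_3 lc_f_rc_36_1 lc_f_rc_30_1 lc_f_rc_43_0 lc_f_rc_36_3 lc_f_rc_6_1 lc_f_rc_6_1 lc_f_rc_15_1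 lc_f_rc_44_4 lc_f_rc_6_1 lc_f_rc_15_1 lc_f_rc_23_1 lc_f_rc_6_1 lc_f_rc_6_1 lc_f_Cert_tree lc_f_rc_43_0 lc_f_rc_6_1 lc_f_rc_15_1 lc_f_rc_30_1 lc_f_rc_15_1 lc_f_rc_23_1 lc_f_rc_6_1 lc_f_rc_6_1 lc_f_rc_15_1 lc_f_rc_6_1 lc_f_rc_44_2 lc_f_rc_6_1 lc_f_rc_15_1 lc_f_rc_30_1 lc_f_rc_6_1 lc_f_rc_6_1 lc_f_rc_15_1) (@D3.rec (fun _ => (Cert rels S Gen.f)) lc_f_rc_6_1 lc_f_rc_6_1 lc_f_rc_15_1 lc_f_rc_46_2 lc_f_rc_6_1 lc_f_rc_15_3 lc_f_rc_6_1 lc_f_rc_15_1 lc_f_rc_44_2 lc_f_rc_15_1 lc_f_rc_44_4 lc_f_rc_6_1 lc_f_rc_15_1 lc_f_rc_23_1 lc_f_rc_6_1 lc_f_rc_15_1 lc_f_Cert_tree lc_f_rc_43_0 lc_f_rc_6_1 lc_f_Cert_tree lc_f_rc_43_0 lc_f_rc_36_5 lc_f_rc_6_1 lc_f_rc_15_1 lc_f_rc_30_1 lc_f_rc_15_1 lc_f_rc_36_3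 lc_f_rc_6_1 lc_f_rc_15_1 lc_f_Cert_tree lc_f_rc_43_0 lc_f_rc_6_1 lc_f_rc_15_1 lc_f_rc_23_1 lc_f_rc_6_1 lc_f_rc_15_1 lc_f_rc_23_1 lc_f_rc_36_5 lc_f_rc_36_1 lc_f_rc_15_1 lc_f_rc_36_3 lc_f_rc_6_1 lc_f_rc_6_1 lc_f_rc_15_1 lc_f_rc_46_0 lc_f_rc_15_1 lc_f_rc_23_1 lc_f_rc_6_1 lc_f_rc_15_1 lc_f_rc_23_1 lc_f_rc_6_1) (@D3.rec (fun _ => (Cert rels S Gen.f)) lc_f_rc_30_3 lc_f_rc_6_1 lc_f_rc_15_3 lc_f_Cert_tree lc_f_rc_30_3 lc_f_rc_43_0 lc_f_rc_36_3 lc_f_rc_36_1 lc_f_rc_15_1 lc_f_rc_6_1 lc_f_rc_15_1 lc_f_rc_23_1 lc_f_rc_6_1 lc_f_rc_15_1 lc_f_rc_30_1 lc_f_rc_6_1 lc_f_rc_6_1 lc_f_rc_15_1 lc_f_rc_23_1 lc_f_rc_6_1 lc_f_rc_15_1 lc_f_rc_23_1 lc_f_rc_30_1 lc_f_rc_56_47 lc_f_rc_43_0 lc_f_rc_15_1 lc_f_rc_15_3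 lc_f_rc_6_1 lc_f_rc_15_1 lc_f_rc_36_3 lc_f_rc_6_1 lc_f_rc_15_1 lc_f_rc_30_1 lc_f_rc_42_2 lc_f_Cert_tree lc_f_rc_43_0 lc_f_Cert_tree lc_f_rc_43_0 lc_f_rc_44_2 lc_f_rc_43_0 lc_f_rc_15_1 lc_f_Cert_tree lc_f_rc_43_0 lc_f_rc_6_1 lc_f_Cert_tree lc_f_Cert_tree lc_f_rc_43_0 lc_f_rc_42_2 lc_f_rc_43_0 lc_f_rc_15_1 lc_f_rc_30_1) (@D3.rec (fun _ => (Cert rels S Gen.f)) lc_f_rc_15_1 lc_f_rc_6_1 lc_f_rc_44_2 lc_f_Cert_tree lc_f_rc_43_0 lc_f_rc_6_1 lc_f_Cert_tree lc_f_Cert_tree lc_f_rc_43_0 lc_f_rc_44_2 lc_f_Cert_tree lc_f_rc_43_0 lc_f_rc_30_1 lc_f_rc_44_2 lc_f_rc_15_1 lc_f_rc_30_1 lc_f_rc_6_1 lc_f_rc_15_1 lc_f_rc_30_1 lc_f_rc_15_3 lc_f_rc_15_1 lc_f_rc_42_2 lc_f_rc_6_1 lc_f_rc_15_1 lc_f_rc_30_1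 lc_f_rc_6_1 lc_f_rc_45_0 lc_f_rc_6_1 lc_f_rc_15_1 lc_f_rc_23_1 lc_f_rc_6_1 lc_f_Cert_tree lc_f_rc_36_5 lc_f_rc_43_0 lc_f_rc_6_1 lc_f_rc_15_1 lc_f_rc_23_1 lc_f_rc_6_1 lc_f_rc_15_1 lc_f_rc_6_1 lc_f_rc_6_1 lc_f_rc_6_1 lc_f_rc_6_1 lc_f_rc_6_1 lc_f_rc_6_3 lc_f_rc_23_1 lc_f_rc_6_1 lc_f_rc_15_1 lc_f_rc_23_1 lc_f_rc_6_1 lc_f_rc_15_1) (@D3.rec (fun _ => (Cert rels S Gen.f)) lc_f_rc_15_1 lc_f_rc_23_1 lc_f_rc_45_2 lc_f_rc_36_3 lc_f_rc_42_2 lc_f_rc_23_1 lc_f_rc_45_2 lc_f_rc_42_2 lc_f_rc_42_0 lc_f_rc_23_1 lc_f_rc_15_1 lc_f_rc_15_3 lc_f_rc_23_1 lc_f_rc_15_1 lc_f_rc_23_1 lc_f_rc_6_1 lc_f_Cert_tree lc_f_rc_44_2 lc_f_rc_43_0 lc_f_Cert_tree lc_f_rc_43_0 lc_f_rc_6_1 lc_f_rc_15_1 lc_f_rc_36_5 lc_f_rc_6_1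 lc_f_rc_15_1 lc_f_rc_23_1 lc_f_rc_6_1 lc_f_rc_6_1 lc_f_rc_15_1 lc_f_rc_15_1 lc_f_rc_23_1 lc_f_rc_15_1 lc_f_rc_6_1 lc_f_rc_42_2 lc_f_rc_30_1 lc_f_rc_6_1 lc_f_rc_6_3 lc_f_Cert_tree lc_f_rc_43_0 lc_f_rc_6_1 lc_f_Cert_tree lc_f_Cert_tree lc_f_rc_43_0 lc_f_rc_36_3 lc_f_rc_15_1 lc_f_rc_23_1 lc_f_rc_30_3 lc_f_rc_6_3 lc_f_rc_30_1 lc_f_Cert_tree) (@D3.rec (fun _ => (Cert rels S Gen.f)) lc_f_rc_44_2 lc_f_rc_43_0 lc_f_rc_30_1 lc_f_rc_36_1 lc_f_rc_30_3 lc_f_rc_36_1 lc_f_rc_42_0 lc_f_rc_43_0 lc_f_rc_6_1 lc_f_rc_56_40 lc_f_rc_30_1 lc_f_rc_6_1 lc_f_rc_6_1 lc_f_rc_45_2 lc_f_Cert_tree lc_f_rc_43_0 lc_f_rc_15_1 lc_f_Cert_tree lc_f_rc_43_0 lc_f_rc_6_1 lc_f_Cert_tree lc_f_Cert_tree lc_f_rc_43_0 lc_f_rc_6_1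 lc_f_rc_45_0 lc_f_rc_30_1 lc_f_Cert_tree lc_f_Cert_tree lc_f_rc_43_0 lc_f_rc_43_0 lc_f_rc_30_1 lc_f_rc_45_0 lc_f_rc_6_3 lc_f_Cert_tree lc_f_rc_43_0 lc_f_rc_43_0 lc_f_rc_36_3 lc_f_rc_6_1 lc_f_Cert_tree lc_f_rc_43_0 lc_f_Cert_tree lc_f_rc_43_0 lc_f_rc_6_1 lc_f_rc_43_0 lc_f_rc_15_1 lc_f_rc_23_1 lc_f_rc_42_0 lc_f_rc_15_1 lc_f_rc_6_1 lc_f_rc_15_1 lc_f_rc_23_1) (@D3.rec (fun _ => (Cert rels S Gen.f)) lc_f_rc_6_1 lc_f_rc_6_1 lc_f_rc_15_1 lc_f_rc_15_1 lc_f_rc_43_0 lc_f_rc_43_1 lc_f_rc_42_0 lc_f_rc_42_0 lc_f_rc_42_2 lc_f_rc_44_2 lc_f_rc_30_3 lc_f_rc_45_2 lc_f_rc_42_2 lc_f_rc_15_1 lc_f_rc_23_1 lc_f_rc_30_1 lc_f_rc_30_1 lc_f_rc_6_3 lc_f_rc_6_1 lc_f_rc_15_1 lc_f_rc_6_1 lc_f_rc_55_50 lc_f_rc_36_3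 lc_f_rc_44_2 lc_f_rc_15_1 lc_f_rc_6_1 lc_f_rc_6_1 lc_f_rc_15_1 lc_f_rc_6_1 lc_f_rc_6_1 lc_f_rc_6_1 lc_f_rc_15_1 lc_f_rc_30_1 lc_f_rc_6_1 lc_f_rc_42_2 lc_f_rc_23_1 lc_f_rc_45_2 lc_f_Cert_tree lc_f_rc_43_0 lc_f_rc_6_1 lc_f_rc_15_1 lc_f_rc_30_1 lc_f_rc_6_1 lc_f_Cert_tree lc_f_rc_43_0 lc_f_rc_15_1 lc_f_rc_23_1 lc_f_rc_6_1 lc_f_Cert_tree lc_f_rc_43_0 lc_f_rc_42_2) (@D3.rec (fun _ => (Cert rels S Gen.f)) lc_f_rc_6_1 lc_f_rc_15_1 lc_f_Cert_tree lc_f_rc_43_0 lc_f_rc_30_1 lc_f_rc_6_1 lc_f_Cert_tree lc_f_rc_30_3 lc_f_rc_43_0 lc_f_Cert_tree lc_f_rc_43_0 lc_f_rc_6_1 lc_f_rc_15_1 lc_f_rc_30_1 lc_f_Cert_tree lc_f_rc_43_0 lc_f_rc_6_1 lc_f_rc_43_0 lc_f_rc_30_3 lc_f_rc_15_1 lc_f_rc_30_1 lc_f_rc_30_3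 lc_f_rc_36_3 lc_f_rc_30_1 lc_f_rc_30_3 lc_f_rc_15_1 lc_f_Cert_tree lc_f_rc_43_0 lc_f_rc_44_2 lc_f_Cert_tree lc_f_rc_43_0 lc_f_rc_23_1 lc_f_rc_23_1 lc_f_rc_23_1 lc_f_rc_15_1 lc_f_rc_42_2 lc_f_rc_23_1 lc_f_rc_15_1 lc_f_rc_15_1 lc_f_rc_30_1 lc_f_rc_6_1 lc_f_rc_6_1 lc_f_rc_15_1 lc_f_rc_30_1 lc_f_rc_6_1 lc_f_rc_6_1 lc_f_rc_6_1 lc_f_rc_6_1 lc_f_rc_15_1 lc_f_rc_30_1 lc_f_rc_6_1) (@D3.rec (fun _ => (Cert rels S Gen.f)) lc_f_rc_15_1 lc_f_rc_6_1 lc_f_Cert_tree lc_f_rc_30_3 lc_f_rc_43_0 lc_f_Cert_tree lc_f_rc_43_0 lc_f_rc_6_1 lc_f_rc_15_1 lc_f_rc_42_2 lc_f_rc_6_1 lc_f_rc_15_1 lc_f_rc_6_1 lc_f_rc_15_1 lc_f_rc_23_1 lc_f_rc_6_1 lc_f_rc_15_1 lc_f_rc_30_1 lc_f_rc_6_1 lc_f_Cert_tree lc_f_rc_43_0 lc_f_rc_44_2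 lc_f_Cert_tree lc_f_rc_43_0 lc_f_rc_30_1 lc_f_rc_6_1 lc_f_rc_43_0 lc_f_rc_15_1 lc_f_rc_6_1 lc_f_rc_15_1 lc_f_rc_6_1 lc_f_rc_15_1 lc_f_rc_30_1 lc_f_rc_15_3 lc_f_rc_15_1 lc_f_rc_6_1 lc_f_rc_6_1 lc_f_rc_6_1 lc_f_rc_56_33 lc_f_rc_15_1 lc_f_rc_30_1 lc_f_rc_6_1 lc_f_rc_15_1 lc_f_rc_30_1 lc_f_rc_6_1 lc_f_rc_15_1 lc_f_Cert_tree lc_f_rc_43_0 lc_f_rc_43_0 lc_f_rc_6_1 lc_f_rc_15_1) (@D3.rec (fun _ => (Cert rels S Gen.f)) lc_f_rc_6_1 lc_f_Cert_tree lc_f_rc_43_0 lc_f_rc_15_1 lc_f_Cert_tree lc_f_rc_43_0 lc_f_rc_6_1 lc_f_Cert_tree lc_f_rc_30_3 lc_f_rc_43_0 lc_f_Cert_tree lc_f_rc_43_0 lc_f_rc_15_1 lc_f_Cert_tree lc_f_rc_43_0 lc_f_rc_6_1 lc_f_Cert_tree lc_f_rc_42_2 lc_f_rc_43_0 lc_f_rc_6_1 lc_f_Cert_tree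 lc_f_rc_43_0 lc_f_Cert_tree lc_f_rc_43_0 lc_f_Cert_tree lc_f_rc_43_0 lc_f_rc_43_0 lc_f_rc_15_1 lc_f_rc_23_1 lc_f_rc_15_1 lc_f_rc_30_1 lc_f_rc_6_1 lc_f_rc_43_0 lc_f_rc_15_3 lc_f_rc_15_1 lc_f_rc_15_1 lc_f_rc_44_0 lc_f_rc_23_1 lc_f_rc_15_1 lc_f_rc_43_0 lc_f_rc_23_1 lc_f_rc_23_1 lc_f_rc_23_1 lc_f_rc_6_1 lc_f_rc_15_3 lc_f_rc_43_0 lc_f_rc_46_2 lc_f_rc_6_1 lc_f_rc_6_1 lc_f_rc_15_1 lc_f_rc_6_1)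
def ce_f_21 : D2 → D3 → (Cert rels S Gen.f) := @D2.rec (fun _ => D3 → (Cert rels S Gen.f)) (@D3.rec (fun _ => (Cert rels S Gen.f)) lc_f_rc_15_1 lc_f_rc_30_1 lc_f_rc_6_1 lc_f_rc_15_1 lc_f_rc_55_59 lc_f_rc_6_1 lc_f_rc_15_1 lc_f_rc_6_1 lc_f_rc_15_1 lc_f_rc_6_1 lc_f_rc_15_1 lc_f_rc_30_1 lc_f_rc_6_1 lc_f_rc_6_1 lc_f_rc_15_1 lc_f_rc_30_1 lc_f_rc_6_1 lc_f_rc_6_1 lc_f_rc_15_1 lc_f_rc_36_3 lc_f_rc_6_1 lc_f_rc_30_1 lc_f_rc_6_1 lc_f_rc_44_4 lc_f_rc_23_1 lc_f_rc_36_3 lc_f_rc_30_3 lc_f_rc_23_1 lc_f_rc_42_0 lc_f_rc_42_0 lc_f_rc_36_3 lc_f_rc_6_1 lc_f_rc_15_1 lc_f_rc_30_1 lc_f_rc_15_3 lc_f_rc_15_1 lc_f_rc_15_3 lc_f_rc_15_1 lc_f_rc_6_1 lc_f_rc_15_1 lc_f_rc_30_1 lc_f_rc_6_1 lc_f_rc_15_1 lc_f_rc_23_1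 lc_f_rc_15_1 lc_f_rc_23_3 lc_f_rc_43_0 lc_f_rc_6_1 lc_f_rc_15_1 lc_f_rc_30_1 lc_f_rc_6_1) (@D3.rec (fun _ => (Cert rels S Gen.f)) lc_f_rc_15_1 lc_f_rc_30_1 lc_f_rc_6_1 lc_f_rc_15_1 lc_f_rc_6_1 lc_f_rc_15_1 lc_f_rc_6_1 lc_f_rc_6_1 lc_f_rc_15_1 lc_f_rc_6_1 lc_f_rc_15_1 lc_f_rc_6_1 lc_f_rc_23_1 lc_f_rc_15_1 lc_f_rc_45_2 lc_f_rc_45_2 lc_f_rc_43_0 lc_f_rc_43_1 lc_f_rc_43_1 lc_f_rc_6_1 lc_f_rc_6_1 lc_f_rc_15_1 lc_f_rc_23_1 lc_f_rc_6_1 lc_f_rc_15_1 lc_f_rc_6_1 lc_f_rc_6_1 lc_f_rc_45_2 lc_f_rc_6_1 lc_f_rc_15_1 lc_f_rc_6_1 lc_f_rc_6_1 lc_f_rc_6_1 lc_f_rc_15_1 lc_f_rc_42_2 lc_f_rc_46_2 lc_f_rc_6_1 lc_f_rc_23_1 lc_f_rc_23_1 lc_f_rc_6_1 lc_f_rc_15_1 lc_f_rc_15_1 lc_f_rc_46_2 lc_f_rc_15_1 lc_f_rc_23_1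 lc_f_rc_6_1 lc_f_rc_23_3 lc_f_Cert_tree lc_f_rc_43_0 lc_f_Cert_tree lc_f_rc_43_0) (@D3.rec (fun _ => (Cert rels S Gen.f)) lc_f_rc_44_2 lc_f_rc_15_1 lc_f_Cert_tree lc_f_rc_43_0 lc_f_rc_15_1 lc_f_Cert_tree lc_f_rc_43_0 lc_f_rc_6_1 lc_f_Cert_tree lc_f_rc_43_0 lc_f_rc_30_1 lc_f_rc_6_1 lc_f_rc_15_1 lc_f_rc_30_1 lc_f_rc_15_3 lc_f_rc_23_1 lc_f_Cert_tree lc_f_rc_43_0 lc_f_rc_6_1 lc_f_Cert_tree lc_f_rc_43_0 lc_f_rc_44_2 lc_f_rc_55_59 lc_f_Cert_tree lc_f_rc_43_0 lc_f_rc_6_1 lc_f_rc_15_1 lc_f_rc_30_1 lc_f_rc_15_1 lc_f_Cert_tree lc_f_rc_43_0 lc_f_rc_6_1 lc_f_Cert_tree lc_f_Cert_tree lc_f_rc_43_0 lc_f_Cert_tree lc_f_rc_43_0 lc_f_rc_6_1 lc_f_rc_15_1 lc_f_rc_42_2 lc_f_rc_44_2 lc_f_rc_42_2 lc_f_rc_46_2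 lc_f_rc_6_1 lc_f_Cert_tree lc_f_rc_30_3 lc_f_rc_43_0 lc_f_rc_44_2 lc_f_Cert_tree lc_f_rc_43_0 lc_f_rc_30_3) (@D3.rec (fun _ => (Cert rels S Gen.f)) lc_f_rc_15_3 lc_f_Cert_tree lc_f_rc_30_3 lc_f_rc_43_0 lc_f_rc_6_1 lc_f_rc_15_1 lc_f_rc_15_1 lc_f_rc_23_1 lc_f_rc_6_1 lc_f_rc_15_1 lc_f_rc_6_1 lc_f_rc_15_1 lc_f_Cert_tree lc_f_rc_43_0 lc_f_rc_6_1 lc_f_Cert_tree lc_f_Cert_tree lc_f_rc_43_0 lc_f_rc_6_1 lc_f_Cert_tree lc_f_rc_43_0 lc_f_rc_42_0 lc_f_Cert_tree lc_f_rc_43_0 lc_f_rc_23_1 lc_f_Cert_tree lc_f_rc_15_1 lc_f_rc_43_0 lc_f_rc_55_59 lc_f_rc_43_0 lc_f_rc_15_1 lc_f_rc_6_1 lc_f_rc_15_1 lc_f_rc_46_2 lc_f_rc_42_2 lc_f_rc_6_1 lc_f_rc_15_1 lc_f_rc_15_1 lc_f_rc_45_2 lc_f_rc_6_1 lc_f_rc_6_1 lc_f_rc_15_1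 lc_f_rc_44_2 lc_f_rc_15_1 lc_f_rc_30_1 lc_f_rc_6_1 lc_f_rc_6_1 lc_f_rc_6_1 lc_f_rc_15_1 lc_f_rc_30_1 lc_f_rc_6_1) (@D3.rec (fun _ => (Cert rels S Gen.f)) lc_f_rc_15_1 lc_f_rc_30_1 lc_f_rc_6_1 lc_f_rc_6_1 lc_f_rc_6_1 lc_f_rc_15_1 lc_f_rc_30_1 lc_f_rc_6_1 lc_f_rc_15_1 lc_f_rc_6_1 lc_f_rc_15_1 lc_f_Cert_tree lc_f_rc_43_0 lc_f_rc_46_0 lc_f_Cert_tree lc_f_rc_43_0 lc_f_rc_15_1 lc_f_Cert_tree lc_f_rc_43_0 lc_f_rc_6_1 lc_f_Cert_tree lc_f_rc_43_0 lc_f_rc_44_2 lc_f_rc_15_1 lc_f_Cert_tree lc_f_rc_43_0 lc_f_rc_6_1 lc_f_rc_15_1 lc_f_rc_30_1 lc_f_rc_15_1 lc_f_rc_23_1 lc_f_rc_6_1 lc_f_Cert_tree lc_f_rc_44_2 lc_f_rc_43_0 lc_f_rc_44_2 lc_f_rc_6_1 lc_f_Cert_tree lc_f_Cert_tree lc_f_rc_43_0 lc_f_rc_6_1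 lc_f_Cert_tree lc_f_Cert_tree lc_f_rc_43_0 lc_f_Cert_tree lc_f_rc_43_0 lc_f_rc_23_1 lc_f_rc_6_1 lc_f_rc_15_1 lc_f_rc_42_2 lc_f_rc_15_1) (@D3.rec (fun _ => (Cert rels S Gen.f)) lc_f_Cert_tree lc_f_rc_43_0 lc_f_rc_6_1 lc_f_rc_15_1 lc_f_rc_44_0 lc_f_rc_6_1 lc_f_rc_15_1 lc_f_rc_45_2 lc_f_rc_45_2 lc_f_rc_30_1 lc_f_Cert_tree lc_f_rc_43_0 lc_f_rc_6_1 lc_f_Cert_tree lc_f_rc_43_0 lc_f_rc_6_1 lc_f_rc_15_1 lc_f_rc_42_2 lc_f_rc_15_1 lc_f_rc_15_1 lc_f_rc_30_1 lc_f_rc_6_1 lc_f_rc_6_1 lc_f_rc_6_1 lc_f_rc_43_0 lc_f_rc_30_1 lc_f_Cert_tree lc_f_Cert_tree lc_f_rc_43_0 lc_f_rc_43_0 lc_f_rc_43_0 lc_f_rc_15_1 lc_f_rc_15_1 lc_f_rc_6_1 lc_f_rc_6_1 lc_f_rc_15_1 lc_f_rc_46_2 lc_f_rc_15_1 lc_f_rc_23_1 lc_f_rc_6_1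 lc_f_Cert_tree lc_f_Cert_tree lc_f_rc_43_0 lc_f_rc_23_3 lc_f_rc_15_1 lc_f_rc_30_1 lc_f_rc_6_1 lc_f_rc_15_1 lc_f_Cert_tree lc_f_rc_43_0 lc_f_rc_43_0) (@D3.rec (fun _ => (Cert rels S Gen.f)) lc_f_rc_15_1 lc_f_rc_6_1 lc_f_rc_15_1 lc_f_Cert_tree lc_f_rc_43_0 lc_f_rc_6_1 lc_f_rc_43_0 lc_f_rc_6_1 lc_f_rc_6_1 lc_f_rc_23_1 lc_f_rc_15_1 lc_f_rc_15_1 lc_f_rc_43_0 lc_f_rc_36_1 lc_f_rc_43_0 lc_f_rc_15_1 lc_f_rc_6_1 lc_f_rc_6_1 lc_f_rc_6_1 lc_f_rc_6_1 lc_f_rc_6_1 lc_f_rc_15_1 lc_f_rc_23_1 lc_f_rc_46_2 lc_f_rc_46_2 lc_f_rc_46_2 lc_f_rc_6_1 lc_f_rc_15_1 lc_f_rc_44_2 lc_f_rc_36_3 lc_f_rc_6_1 lc_f_rc_15_1 lc_f_Cert_tree lc_f_rc_43_0 lc_f_rc_15_1 lc_f_Cert_tree lc_f_rc_43_0 lc_f_rc_6_1 lc_f_Cert_tree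 lc_f_rc_43_0 lc_f_rc_6_1 lc_f_rc_15_1 lc_f_rc_30_1 lc_f_rc_15_1 lc_f_rc_15_1 lc_f_rc_15_1 lc_f_Cert_tree lc_f_Cert_tree lc_f_rc_43_0 lc_f_Cert_tree lc_f_rc_43_0) (@D3.rec (fun _ => (Cert rels S Gen.f)) lc_f_rc_6_1 lc_f_rc_15_1 lc_f_rc_6_1 lc_f_rc_15_1 lc_f_rc_6_1 lc_f_rc_36_3 lc_f_rc_43_0 lc_f_rc_23_1 lc_f_rc_6_1 lc_f_rc_46_0 lc_f_rc_46_0 lc_f_rc_44_2 lc_f_rc_15_1 lc_f_rc_6_1 lc_f_rc_46_2 lc_f_rc_56_40 lc_f_Cert_tree lc_f_rc_43_0 lc_f_rc_15_1 lc_f_Cert_tree lc_f_rc_43_0 lc_f_rc_6_1 lc_f_Cert_tree lc_f_rc_43_0 lc_f_rc_36_1 lc_f_rc_6_1 lc_f_rc_15_1 lc_f_rc_6_1 lc_f_rc_23_1 lc_f_rc_15_1 lc_f_rc_23_3 lc_f_rc_56_47 lc_f_Cert_tree lc_f_Cert_tree lc_f_rc_43_0 lc_f_rc_6_1 lc_f_Cert_tree lc_f_rc_43_0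 lc_f_rc_6_1 lc_f_rc_15_1 lc_f_rc_45_0 lc_f_rc_42_2 lc_f_rc_23_1 lc_f_Cert_tree lc_f_rc_15_1 lc_f_rc_43_0 lc_f_Cert_tree lc_f_rc_15_1 lc_f_rc_43_0 lc_f_rc_23_1 lc_f_rc_43_0) (@D3.rec (fun _ => (Cert rels S Gen.f)) lc_f_rc_15_1 lc_f_rc_46_0 lc_f_rc_23_1 lc_f_rc_36_1 lc_f_rc_15_1 lc_f_rc_15_1 lc_f_rc_42_2 lc_f_rc_6_1 lc_f_rc_6_1 lc_f_rc_15_1 lc_f_rc_46_2 lc_f_rc_6_1 lc_f_Cert_tree lc_f_Cert_tree lc_f_rc_43_0 lc_f_rc_36_1 lc_f_rc_43_0 lc_f_rc_46_2 lc_f_rc_43_0 lc_f_rc_6_1 lc_f_Cert_tree lc_f_Cert_tree lc_f_rc_43_0 lc_f_rc_42_2 lc_f_rc_6_1 lc_f_Cert_tree lc_f_Cert_tree lc_f_rc_43_0 lc_f_rc_6_1 lc_f_Cert_tree lc_f_rc_43_0 lc_f_rc_36_1 lc_f_rc_45_2 lc_f_rc_6_1 lc_f_rc_15_1 lc_f_rc_36_5 lc_f_rc_15_1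 lc_f_rc_30_3 lc_f_rc_23_3 lc_f_rc_46_0 lc_f_rc_45_2 lc_f_rc_23_3 lc_f_rc_46_2 lc_f_rc_6_1 lc_f_Cert_tree lc_f_rc_42_2 lc_f_rc_43_0 lc_f_Cert_tree lc_f_rc_43_0 lc_f_rc_6_1 lc_f_Cert_tree) (@D3.rec (fun _ => (Cert rels S Gen.f)) lc_f_Cert_tree lc_f_rc_43_0 lc_f_Cert_tree lc_f_Cert_tree lc_f_rc_43_0 lc_f_rc_43_0 lc_f_rc_6_1 lc_f_rc_43_0 lc_f_rc_6_1 lc_f_rc_6_1 lc_f_rc_55_32 lc_f_rc_42_2 lc_f_rc_15_1 lc_f_rc_15_1 lc_f_rc_30_3 lc_f_rc_6_1 lc_f_rc_46_0 lc_f_rc_30_1 lc_f_rc_6_1 lc_f_rc_36_3 lc_f_rc_46_0 lc_f_rc_15_3 lc_f_rc_6_1 lc_f_rc_6_1 lc_f_Cert_tree lc_f_rc_30_3 lc_f_rc_43_0 lc_f_rc_6_1 lc_f_Cert_tree lc_f_rc_43_0 lc_f_Cert_tree lc_f_rc_43_0 lc_f_Cert_tree lc_f_rc_43_0 lc_f_rc_43_0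 lc_f_rc_6_1 lc_f_Cert_tree lc_f_Cert_tree lc_f_rc_43_0 lc_f_Cert_tree lc_f_Cert_tree lc_f_rc_43_0 lc_f_rc_43_0 lc_f_rc_30_1 lc_f_Cert_tree lc_f_Cert_tree lc_f_rc_43_0 lc_f_rc_43_0 lc_f_rc_23_1 lc_f_Cert_tree lc_f_rc_43_0) (@D3.rec (fun _ => (Cert rels S Gen.f)) lc_f_rc_43_0 lc_f_rc_56_47 lc_f_rc_36_3 lc_f_rc_30_1 lc_f_rc_6_1 lc_f_rc_6_1 lc_f_rc_43_0 lc_f_rc_15_1 lc_f_rc_36_1 lc_f_rc_6_1 lc_f_rc_15_1 lc_f_rc_15_1 lc_f_rc_15_1 lc_f_rc_6_1 lc_f_rc_6_1 lc_f_rc_15_1 lc_f_rc_30_1 lc_f_Cert_tree lc_f_rc_43_0 lc_f_rc_6_1 lc_f_rc_15_1 lc_f_rc_6_1 lc_f_rc_15_1 lc_f_rc_30_1 lc_f_rc_6_1 lc_f_rc_6_1 lc_f_rc_15_1 lc_f_rc_6_1 lc_f_rc_6_1 lc_f_rc_15_1 lc_f_rc_6_1 lc_f_rc_15_3 lc_f_rc_55_50 lc_f_rc_6_1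 lc_f_rc_15_1 lc_f_rc_30_1 lc_f_rc_6_1 lc_f_Cert_tree lc_f_Cert_tree lc_f_rc_43_0 lc_f_rc_44_2 lc_f_Cert_tree lc_f_rc_43_0 lc_f_rc_30_1 lc_f_rc_6_1 lc_f_rc_15_1 lc_f_rc_30_1 lc_f_rc_6_1 lc_f_rc_15_1 lc_f_rc_30_1 lc_f_rc_23_3) (@D3.rec (fun _ => (Cert rels S Gen.f)) lc_f_Cert_tree lc_f_rc_36_5 lc_f_rc_43_0 lc_f_rc_6_1 lc_f_rc_15_1 lc_f_rc_23_1 lc_f_rc_6_1 lc_f_rc_15_1 lc_f_rc_42_2 lc_f_rc_6_1 lc_f_rc_15_1 lc_f_rc_30_1 lc_f_rc_23_3 lc_f_rc_15_1 lc_f_rc_6_1 lc_f_rc_43_0 lc_f_rc_30_1 lc_f_rc_23_3 lc_f_rc_44_2 lc_f_rc_30_1 lc_f_rc_30_3 lc_f_rc_43_0 lc_f_Cert_tree lc_f_rc_44_2 lc_f_rc_43_0 lc_f_rc_36_1 lc_f_rc_6_1 lc_f_rc_6_1 lc_f_rc_15_1 lc_f_rc_30_1 lc_f_rc_6_1 lc_f_rc_15_1 lc_f_rc_30_1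 lc_f_rc_6_1 lc_f_rc_15_1 lc_f_rc_6_1 lc_f_rc_15_1 lc_f_rc_45_2 lc_f_rc_6_1 lc_f_rc_15_1 lc_f_rc_30_1 lc_f_rc_23_3 lc_f_rc_15_1 lc_f_rc_45_2 lc_f_rc_6_1 lc_f_rc_15_1 lc_f_rc_30_1 lc_f_rc_6_1 lc_f_Cert_tree lc_f_Cert_tree lc_f_rc_43_0) (@D3.rec (fun _ => (Cert rels S Gen.f)) lc_f_rc_42_2 lc_f_rc_43_0 lc_f_rc_6_1 lc_f_rc_6_1 lc_f_Cert_tree lc_f_rc_42_2 lc_f_rc_43_0 lc_f_Cert_tree lc_f_Cert_tree lc_f_rc_43_0 lc_f_rc_43_0 lc_f_rc_42_2 lc_f_rc_46_0 lc_f_rc_6_1 lc_f_rc_42_2 lc_f_rc_6_1 lc_f_rc_44_2 lc_f_Cert_tree lc_f_Cert_tree lc_f_rc_43_0 lc_f_rc_44_2 lc_f_Cert_tree lc_f_Cert_tree lc_f_rc_43_0 lc_f_rc_43_0 lc_f_rc_30_1 lc_f_rc_23_1 lc_f_rc_43_0 lc_f_rc_44_2 lc_f_rc_6_1 lc_f_rc_15_1 lc_f_rc_30_1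 lc_f_rc_6_1 lc_f_rc_23_1 lc_f_rc_15_1 lc_f_rc_30_1 lc_f_rc_6_1 lc_f_rc_15_1 lc_f_rc_36_3 lc_f_rc_6_1 lc_f_rc_15_1 lc_f_rc_44_0 lc_f_rc_15_3 lc_f_rc_15_1 lc_f_rc_6_3 lc_f_rc_45_2 lc_f_Cert_tree lc_f_rc_46_2 lc_f_rc_43_0 lc_f_rc_42_2 lc_f_rc_6_1) (@D3.rec (fun _ => (Cert rels S Gen.f)) lc_f_rc_15_1 lc_f_rc_15_1 lc_f_rc_23_1 lc_f_rc_6_1 lc_f_rc_46_2 lc_f_rc_15_1 lc_f_rc_23_1 lc_f_rc_6_1 lc_f_rc_15_1 lc_f_rc_23_1 lc_f_rc_6_1 lc_f_rc_6_1 lc_f_rc_15_1 lc_f_rc_15_1 lc_f_rc_36_3 lc_f_rc_46_2 lc_f_rc_30_1 lc_f_rc_23_1 lc_f_rc_6_1 lc_f_rc_15_1 lc_f_rc_30_1 lc_f_Cert_tree lc_f_rc_15_1 lc_f_rc_43_0 lc_f_rc_43_0 lc_f_rc_6_1 lc_f_rc_15_1 lc_f_rc_6_1 lc_f_rc_23_1 lc_f_rc_15_1 lc_f_rc_15_3 lc_f_rc_15_1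 lc_f_rc_44_4 lc_f_rc_30_1 lc_f_rc_6_1 lc_f_rc_42_2 lc_f_rc_45_2 lc_f_rc_30_1 lc_f_rc_6_1 lc_f_Cert_tree lc_f_rc_43_0 lc_f_Cert_tree lc_f_Cert_tree lc_f_rc_43_0 lc_f_rc_43_0 lc_f_rc_43_1 lc_f_rc_6_1 lc_f_rc_15_1 lc_f_rc_23_1 lc_f_rc_44_2 lc_f_rc_15_1) (@D3.rec (fun _ => (Cert rels S Gen.f)) lc_f_rc_44_2 lc_f_rc_43_0 lc_f_rc_44_2 lc_f_rc_15_1 lc_f_rc_44_2 lc_f_rc_36_1 lc_f_rc_36_1 lc_f_rc_43_0 lc_f_rc_43_0 lc_f_rc_36_5 lc_f_rc_56_40 lc_f_rc_15_1 lc_f_rc_23_3 lc_f_Cert_tree lc_f_rc_42_2 lc_f_rc_43_0 lc_f_rc_6_1 lc_f_Cert_tree lc_f_Cert_tree lc_f_rc_43_0 lc_f_Cert_tree lc_f_Cert_tree lc_f_rc_43_0 lc_f_rc_43_0 lc_f_rc_45_0 lc_f_rc_46_2 lc_f_rc_30_1 lc_f_Cert_tree lc_f_rc_43_0 lc_f_Cert_tree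 lc_f_rc_43_0 lc_f_rc_15_1 lc_f_rc_36_3 lc_f_rc_30_1 lc_f_rc_42_0 lc_f_rc_43_0 lc_f_rc_36_3 lc_f_Cert_tree lc_f_rc_43_0 lc_f_rc_43_0 lc_f_rc_6_1 lc_f_rc_15_1 lc_f_rc_6_1 lc_f_rc_6_1 lc_f_rc_15_1 lc_f_rc_6_1 lc_f_rc_6_1 lc_f_rc_6_1 lc_f_rc_55_32 lc_f_rc_42_2 lc_f_rc_44_2) (@D3.rec (fun _ => (Cert rels S Gen.f)) lc_f_rc_42_2 lc_f_rc_44_0 lc_f_rc_23_1 lc_f_rc_55_32 lc_f_rc_30_1 lc_f_rc_6_3 lc_f_rc_15_3 lc_f_rc_15_3 lc_f_rc_15_1 lc_f_rc_6_1 lc_f_rc_15_1 lc_f_rc_6_1 lc_f_rc_15_1 lc_f_rc_42_2 lc_f_rc_45_2 lc_f_Cert_tree lc_f_rc_43_0 lc_f_rc_6_1 lc_f_rc_15_1 lc_f_rc_42_2 lc_f_Cert_tree lc_f_rc_43_0 lc_f_rc_6_1 lc_f_rc_15_1 lc_f_rc_30_1 lc_f_Cert_tree lc_f_rc_43_0 lc_f_rc_30_1 lc_f_rc_6_1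 lc_f_rc_43_0 lc_f_rc_30_1 lc_f_Cert_tree lc_f_rc_42_2 lc_f_rc_43_0 lc_f_rc_43_0 lc_f_rc_6_1 lc_f_rc_15_1 lc_f_rc_43_0 lc_f_rc_6_1 lc_f_rc_45_2 lc_f_rc_36_3 lc_f_rc_15_1 lc_f_rc_15_1 lc_f_Cert_tree lc_f_rc_42_2 lc_f_rc_43_0 lc_f_Cert_tree lc_f_rc_43_0 lc_f_rc_23_1 lc_f_rc_15_1 lc_f_rc_55_32) (@D3.rec (fun _ => (Cert rels S Gen.f)) lc_f_rc_6_1 lc_f_rc_42_2 lc_f_rc_15_1 lc_f_rc_30_1 lc_f_rc_6_1 lc_f_rc_15_1 lc_f_rc_6_1 lc_f_rc_15_1 lc_f_rc_6_1 lc_f_rc_15_1 lc_f_rc_6_1 lc_f_rc_23_1 lc_f_Cert_tree lc_f_rc_15_1 lc_f_rc_43_0 lc_f_rc_43_0 lc_f_rc_15_3 lc_f_rc_23_1 lc_f_rc_15_1 lc_f_rc_42_0 lc_f_rc_6_1 lc_f_rc_6_1 lc_f_rc_15_1 lc_f_rc_30_1 lc_f_rc_6_1 lc_f_rc_15_1 lc_f_Cert_tree lc_f_rc_43_0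 lc_f_rc_44_2 lc_f_rc_43_0 lc_f_rc_15_1 lc_f_rc_6_1 lc_f_rc_6_1 lc_f_rc_6_1 lc_f_rc_15_1 lc_f_rc_6_1 lc_f_rc_6_1 lc_f_rc_15_1 lc_f_rc_6_1 lc_f_rc_15_1 lc_f_rc_6_1 lc_f_rc_23_1 lc_f_rc_43_0 lc_f_rc_6_1 lc_f_rc_43_0 lc_f_rc_15_1 lc_f_Cert_tree lc_f_rc_46_2 lc_f_rc_43_0 lc_f_Cert_tree lc_f_rc_15_1) (@D3.rec (fun _ => (Cert rels S Gen.f)) lc_f_rc_43_0 lc_f_rc_43_0 lc_f_rc_6_1 lc_f_Cert_tree lc_f_rc_42_2 lc_f_rc_43_0 lc_f_Cert_tree lc_f_rc_15_1 lc_f_rc_43_0 lc_f_Cert_tree lc_f_rc_43_0 lc_f_rc_43_0 lc_f_rc_43_0 lc_f_rc_6_1 lc_f_rc_23_3 lc_f_rc_15_1 lc_f_rc_15_3 lc_f_rc_15_1 lc_f_rc_30_1 lc_f_rc_23_1 lc_f_rc_6_1 lc_f_rc_6_1 lc_f_rc_30_1 lc_f_rc_15_1 lc_f_rc_15_1 lc_f_rc_6_1 lc_f_rc_23_1 lc_f_rc_6_1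 lc_f_rc_6_1 lc_f_rc_15_1 lc_f_rc_6_1 lc_f_rc_15_1 lc_f_rc_6_1 lc_f_rc_23_1 lc_f_rc_30_1 lc_f_rc_23_1 lc_f_rc_44_4 lc_f_rc_36_3 lc_f_rc_43_1 lc_f_rc_42_0 lc_f_rc_6_1 lc_f_rc_30_1 lc_f_rc_6_1 lc_f_rc_23_1 lc_f_rc_6_1 lc_f_rc_6_1 lc_f_rc_15_1 lc_f_rc_30_1 lc_f_rc_6_1 lc_f_rc_15_1 lc_f_rc_23_1) (@D3.rec (fun _ => (Cert rels S Gen.f)) lc_f_rc_6_1 lc_f_rc_15_1 lc_f_rc_30_1 lc_f_rc_6_1 lc_f_rc_15_1 lc_f_rc_6_1 lc_f_rc_15_1 lc_f_rc_6_1 lc_f_rc_23_1 lc_f_rc_45_2 lc_f_rc_15_3 lc_f_rc_23_1 lc_f_rc_6_1 lc_f_rc_23_1 lc_f_rc_6_1 lc_f_rc_30_1 lc_f_rc_23_1 lc_f_rc_6_1 lc_f_rc_6_1 lc_f_rc_6_1 lc_f_rc_15_1 lc_f_rc_6_1 lc_f_rc_6_1 lc_f_rc_6_1 lc_f_rc_15_1 lc_f_rc_46_2 lc_f_rc_6_1 lc_f_rc_6_1 lc_f_rc_15_1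 lc_f_rc_6_1 lc_f_rc_15_1 lc_f_rc_30_1 lc_f_rc_6_1 lc_f_Cert_tree lc_f_Cert_tree lc_f_rc_43_0 lc_f_rc_44_2 lc_f_rc_43_0 lc_f_rc_6_1 lc_f_Cert_tree lc_f_Cert_tree lc_f_rc_43_0 lc_f_rc_15_1 lc_f_rc_6_1 lc_f_Cert_tree lc_f_Cert_tree lc_f_rc_43_0 lc_f_rc_44_2 lc_f_Cert_tree lc_f_rc_43_0 lc_f_rc_30_1) (@D3.rec (fun _ => (Cert rels S Gen.f)) lc_f_rc_6_1 lc_f_rc_15_1 lc_f_rc_42_2 lc_f_rc_6_1 lc_f_Cert_tree lc_f_rc_30_3 lc_f_rc_43_0 lc_f_rc_44_2 lc_f_Cert_tree lc_f_rc_43_0 lc_f_rc_44_2 lc_f_rc_23_3 lc_f_Cert_tree lc_f_rc_44_2 lc_f_rc_43_0 lc_f_rc_6_1 lc_f_rc_15_1 lc_f_rc_42_2 lc_f_rc_6_1 lc_f_Cert_tree lc_f_Cert_tree lc_f_rc_43_0 lc_f_Cert_tree lc_f_Cert_tree lc_f_rc_43_0 lc_f_rc_43_0 lc_f_rc_43_0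 lc_f_rc_6_1 lc_f_rc_15_1 lc_f_rc_46_2 lc_f_rc_46_2 lc_f_Cert_tree lc_f_rc_42_0 lc_f_rc_43_0 lc_f_rc_42_2 lc_f_rc_43_0 lc_f_rc_15_1 lc_f_Cert_tree lc_f_rc_15_1 lc_f_rc_43_0 lc_f_rc_6_1 lc_f_rc_6_1 lc_f_rc_15_1 lc_f_rc_6_1 lc_f_rc_6_1 lc_f_Cert_tree lc_f_Cert_tree lc_f_rc_43_0 lc_f_Cert_tree lc_f_Cert_tree lc_f_rc_43_0) (@D3.rec (fun _ => (Cert rels S Gen.f)) lc_f_rc_43_0 lc_f_rc_30_1 lc_f_Cert_tree lc_f_rc_43_0 lc_f_rc_23_1 lc_f_rc_43_0 lc_f_rc_56_47 lc_f_rc_6_1 lc_f_rc_43_0 lc_f_rc_55_32 lc_f_rc_42_2 lc_f_rc_6_1 lc_f_rc_6_1 lc_f_rc_15_1 lc_f_rc_15_3 lc_f_rc_6_1 lc_f_rc_15_1 lc_f_rc_46_0 lc_f_rc_6_1 lc_f_rc_6_1 lc_f_rc_15_1 lc_f_rc_6_1 lc_f_rc_15_1 lc_f_rc_6_1 lc_f_rc_15_1 lc_f_rc_23_3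 lc_f_rc_15_1 lc_f_rc_30_1 lc_f_rc_6_1 lc_f_rc_15_1 lc_f_Cert_tree lc_f_rc_43_0 lc_f_rc_42_2 lc_f_Cert_tree lc_f_Cert_tree lc_f_rc_43_0 lc_f_rc_44_2 lc_f_rc_6_1 lc_f_Cert_tree lc_f_Cert_tree lc_f_rc_43_0 lc_f_rc_46_2 lc_f_Cert_tree lc_f_rc_43_0 lc_f_rc_44_2 lc_f_rc_23_1 lc_f_Cert_tree lc_f_Cert_tree lc_f_rc_43_0 lc_f_rc_6_1 lc_f_rc_15_1) (@D3.rec (fun _ => (Cert rels S Gen.f)) lc_f_rc_42_2 lc_f_rc_6_1 lc_f_rc_15_1 lc_f_Cert_tree lc_f_rc_46_2 lc_f_rc_43_0 lc_f_rc_44_2 lc_f_Cert_tree lc_f_Cert_tree lc_f_rc_43_0 lc_f_rc_43_0 lc_f_Cert_tree lc_f_Cert_tree lc_f_rc_43_0 lc_f_rc_43_0 lc_f_rc_43_1 lc_f_rc_43_0 lc_f_rc_44_2 lc_f_rc_6_1 lc_f_rc_23_1 lc_f_rc_15_1 lc_f_rc_46_2 lc_f_rc_6_1 lc_f_Cert_tree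 lc_f_Cert_tree lc_f_rc_43_0 lc_f_rc_15_1 lc_f_rc_15_1 lc_f_rc_6_1 lc_f_rc_6_1 lc_f_rc_45_2 lc_f_rc_45_2 lc_f_rc_43_0 lc_f_Cert_tree lc_f_rc_43_0 lc_f_rc_6_1 lc_f_rc_15_1 lc_f_rc_6_1 lc_f_rc_15_1 lc_f_rc_42_2 lc_f_rc_46_2 lc_f_Cert_tree lc_f_rc_43_0 lc_f_Cert_tree lc_f_rc_43_0 lc_f_rc_36_3 lc_f_rc_6_1 lc_f_rc_6_1 lc_f_rc_15_1 lc_f_rc_6_1 lc_f_rc_15_1) (@D3.rec (fun _ => (Cert rels S Gen.f)) lc_f_rc_30_1 lc_f_Cert_tree lc_f_Cert_tree lc_f_rc_43_0 lc_f_rc_43_0 lc_f_rc_30_1 lc_f_rc_30_1 lc_f_rc_23_1 lc_f_rc_15_1 lc_f_rc_46_2 lc_f_rc_6_1 lc_f_rc_43_0 lc_f_rc_6_1 lc_f_rc_6_1 lc_f_rc_43_0 lc_f_rc_23_1 lc_f_rc_15_1 lc_f_rc_6_1 lc_f_rc_6_1 lc_f_rc_46_2 lc_f_rc_6_1 lc_f_rc_6_1 lc_f_Cert_tree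 lc_f_rc_42_2 lc_f_rc_43_0 lc_f_rc_6_1 lc_f_Cert_tree lc_f_rc_42_2 lc_f_rc_43_0 lc_f_Cert_tree lc_f_rc_43_0 lc_f_rc_6_1 lc_f_rc_15_1 lc_f_rc_6_1 lc_f_Cert_tree lc_f_Cert_tree lc_f_rc_43_0 lc_f_rc_43_0 lc_f_rc_43_0 lc_f_rc_6_1 lc_f_rc_6_1 lc_f_rc_46_0 lc_f_rc_15_1 lc_f_rc_56_40 lc_f_Cert_tree lc_f_rc_55_50 lc_f_rc_43_0 lc_f_rc_42_2 lc_f_rc_6_1 lc_f_Cert_tree lc_f_Cert_tree) (@D3.rec (fun _ => (Cert rels S Gen.f)) lc_f_rc_43_0 lc_f_rc_46_0 lc_f_Cert_tree lc_f_rc_43_0 lc_f_rc_36_1 lc_f_rc_15_1 lc_f_rc_15_1 lc_f_rc_45_0 lc_f_rc_6_1 lc_f_Cert_tree lc_f_Cert_tree lc_f_rc_43_0 lc_f_rc_43_0 lc_f_rc_43_0 lc_f_rc_23_1 lc_f_rc_46_0 lc_f_rc_30_1 lc_f_rc_6_1 lc_f_rc_43_0 lc_f_rc_15_1 lc_f_rc_43_0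 lc_f_rc_46_0 lc_f_rc_36_1 lc_f_rc_46_0 lc_f_rc_43_0 lc_f_rc_23_1 lc_f_rc_6_1 lc_f_rc_46_2 lc_f_rc_46_2 lc_f_rc_15_1 lc_f_rc_15_1 lc_f_Cert_tree lc_f_Cert_tree lc_f_rc_43_0 lc_f_rc_43_0 lc_f_rc_46_2 lc_f_rc_36_1 lc_f_rc_42_2 lc_f_Cert_tree lc_f_Cert_tree lc_f_rc_43_0 lc_f_rc_43_0 lc_f_rc_42_2 lc_f_Cert_tree lc_f_Cert_tree lc_f_rc_43_0 lc_f_rc_43_0 lc_f_rc_43_1 lc_f_rc_6_1 lc_f_rc_43_0 lc_f_rc_46_2) (@D3.rec (fun _ => (Cert rels S Gen.f)) lc_f_rc_45_2 lc_f_rc_6_1 lc_f_rc_23_1 lc_f_rc_55_32 lc_f_rc_36_1 lc_f_rc_23_1 lc_f_rc_43_1 lc_f_rc_46_0 lc_f_rc_15_1 lc_f_Cert_tree lc_f_rc_15_1 lc_f_rc_43_0 lc_f_rc_43_0 lc_f_Cert_tree lc_f_Cert_tree lc_f_rc_43_0 lc_f_rc_43_0 lc_f_Cert_tree lc_f_rc_43_0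 lc_f_Cert_tree lc_f_rc_43_0 lc_f_rc_36_3 lc_f_rc_23_1 lc_f_rc_15_1 lc_f_rc_6_1 lc_f_rc_43_1 lc_f_rc_46_0 lc_f_rc_15_1 lc_f_rc_43_1 lc_f_Cert_tree lc_f_rc_15_1 lc_f_rc_43_0 lc_f_Cert_tree lc_f_rc_43_0 lc_f_rc_43_0 lc_f_rc_43_0 lc_f_Cert_tree lc_f_Cert_tree lc_f_rc_43_0 lc_f_rc_43_0 lc_f_rc_43_1 lc_f_Cert_tree lc_f_rc_43_0 lc_f_Cert_tree lc_f_rc_43_0 lc_f_rc_15_1 lc_f_rc_36_3 lc_f_rc_45_0 lc_f_Cert_tree lc_f_rc_43_0 lc_f_rc_43_0) (@D3.rec (fun _ => (Cert rels S Gen.f)) lc_f_rc_6_3 lc_f_rc_43_0 lc_f_rc_44_2 lc_f_rc_36_3 lc_f_rc_15_1 lc_f_rc_44_2 lc_f_rc_36_1 lc_f_rc_15_1 lc_f_rc_6_1 lc_f_rc_6_1 lc_f_rc_15_1 lc_f_rc_43_0 lc_f_rc_6_1 lc_f_rc_23_1 lc_f_rc_6_1 lc_f_rc_15_1 lc_f_rc_6_1 lc_f_rc_23_1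 lc_f_rc_6_1 lc_f_rc_30_1 lc_f_rc_23_1 lc_f_rc_6_1 lc_f_rc_15_1 lc_f_rc_30_1 lc_f_Cert_tree lc_f_Cert_tree lc_f_rc_43_0 lc_f_rc_43_0 lc_f_rc_42_2 lc_f_rc_44_2 lc_f_rc_43_0 lc_f_rc_44_2 lc_f_rc_6_1 lc_f_rc_23_1 lc_f_rc_15_1 lc_f_rc_6_1 lc_f_rc_30_1 lc_f_Cert_tree lc_f_rc_43_1 lc_f_rc_43_0 lc_f_rc_36_3 lc_f_rc_6_1 lc_f_rc_15_1 lc_f_rc_6_1 lc_f_rc_6_1 lc_f_rc_30_1 lc_f_rc_30_1 lc_f_rc_23_1 lc_f_rc_36_3 lc_f_rc_15_1 lc_f_rc_44_2) (@D3.rec (fun _ => (Cert rels S Gen.f)) lc_f_rc_42_0 lc_f_rc_15_1 lc_f_rc_44_2 lc_f_rc_43_0 lc_f_rc_6_1 lc_f_rc_15_1 lc_f_rc_42_2 lc_f_rc_6_1 lc_f_rc_23_1 lc_f_rc_15_1 lc_f_rc_6_1 lc_f_rc_6_1 lc_f_rc_6_1 lc_f_rc_30_1 lc_f_rc_15_3 lc_f_rc_55_32 lc_f_rc_46_0 lc_f_rc_6_1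 lc_f_rc_23_1 lc_f_rc_15_1 lc_f_rc_30_1 lc_f_Cert_tree lc_f_Cert_tree lc_f_rc_43_0 lc_f_rc_43_0 lc_f_rc_42_2 lc_f_Cert_tree lc_f_rc_15_1 lc_f_rc_43_0 lc_f_Cert_tree lc_f_rc_43_0 lc_f_rc_43_0 lc_f_rc_44_2 lc_f_rc_44_2 lc_f_rc_42_2 lc_f_Cert_tree lc_f_Cert_tree lc_f_rc_43_0 lc_f_rc_43_0 lc_f_rc_30_1 lc_f_rc_23_1 lc_f_Cert_tree lc_f_rc_43_0 lc_f_Cert_tree lc_f_rc_43_0 lc_f_rc_15_1 lc_f_rc_15_1 lc_f_rc_44_2 lc_f_rc_6_1 lc_f_rc_23_1 lc_f_rc_15_1)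
def ce_f_22 : D2 → D3 → (Cert rels S Gen.f) := @D2.rec (fun _ => D3 → (Cert rels S Gen.f)) (@D3.rec (fun _ => (Cert rels S Gen.f)) lc_f_rc_30_1 lc_f_rc_6_1 lc_f_rc_6_1 lc_f_rc_23_1 lc_f_rc_15_1 lc_f_rc_23_3 lc_f_rc_15_1 lc_f_rc_6_1 lc_f_rc_23_1 lc_f_rc_15_1 lc_f_rc_46_2 lc_f_rc_15_1 lc_f_rc_46_2 lc_f_rc_43_0 lc_f_rc_46_2 lc_f_rc_15_1 lc_f_rc_46_2 lc_f_rc_6_1 lc_f_rc_6_1 lc_f_rc_15_1 lc_f_rc_6_1 lc_f_rc_15_1 lc_f_rc_6_1 lc_f_rc_15_1 lc_f_rc_6_1 lc_f_rc_6_1 lc_f_rc_15_1 lc_f_rc_44_2 lc_f_rc_30_1 lc_f_rc_23_3 lc_f_rc_15_1 lc_f_rc_15_3 lc_f_rc_43_0 lc_f_rc_23_1 lc_f_rc_6_1 lc_f_rc_23_1 lc_f_rc_6_1 lc_f_rc_30_1 lc_f_rc_30_3 lc_f_rc_44_4 lc_f_rc_15_1 lc_f_rc_45_2 lc_f_rc_23_1 lc_f_rc_15_1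 lc_f_rc_30_1 lc_f_Cert_tree lc_f_rc_43_0 lc_f_Cert_tree lc_f_rc_43_0 lc_f_rc_43_0 lc_f_rc_43_1) (@D3.rec (fun _ => (Cert rels S Gen.f)) lc_f_rc_42_2 lc_f_rc_44_2 lc_f_rc_6_1 lc_f_rc_15_1 lc_f_rc_23_3 lc_f_rc_44_2 lc_f_rc_23_1 lc_f_rc_15_1 lc_f_rc_44_0 lc_f_rc_36_1 lc_f_rc_42_0 lc_f_rc_15_3 lc_f_rc_23_1 lc_f_Cert_tree lc_f_rc_55_32 lc_f_rc_43_0 lc_f_Cert_tree lc_f_Cert_tree lc_f_rc_43_0 lc_f_rc_43_0 lc_f_rc_46_2 lc_f_Cert_tree lc_f_rc_43_0 lc_f_Cert_tree lc_f_rc_43_0 lc_f_rc_45_0 lc_f_rc_23_1 lc_f_rc_15_1 lc_f_rc_42_2 lc_f_Cert_tree lc_f_rc_43_0 lc_f_rc_6_1 lc_f_rc_43_0 lc_f_rc_23_1 lc_f_rc_36_3 lc_f_rc_15_1 lc_f_rc_6_1 lc_f_rc_43_0 lc_f_rc_6_1 lc_f_rc_6_1 lc_f_rc_43_0 lc_f_rc_15_3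 lc_f_rc_15_1 lc_f_rc_42_2 lc_f_rc_45_2 lc_f_rc_43_0 lc_f_rc_30_1 lc_f_rc_23_1 lc_f_rc_6_1 lc_f_rc_23_1 lc_f_rc_45_2) (@D3.rec (fun _ => (Cert rels S Gen.f)) lc_f_rc_43_0 lc_f_rc_6_1 lc_f_rc_23_1 lc_f_rc_15_1 lc_f_rc_42_0 lc_f_rc_43_0 lc_f_rc_6_1 lc_f_rc_15_1 lc_f_rc_43_0 lc_f_rc_43_0 lc_f_rc_43_1 lc_f_rc_43_1 lc_f_rc_43_0 lc_f_rc_6_1 lc_f_rc_23_1 lc_f_rc_15_1 lc_f_rc_15_1 lc_f_rc_23_1 lc_f_Cert_tree lc_f_rc_15_1 lc_f_rc_43_0 lc_f_rc_43_0 lc_f_rc_6_1 lc_f_rc_15_1 lc_f_rc_6_1 lc_f_rc_15_1 lc_f_rc_6_1 lc_f_rc_23_1 lc_f_rc_6_1 lc_f_rc_23_1 lc_f_rc_6_1 lc_f_rc_23_1 lc_f_rc_6_1 lc_f_rc_30_3 lc_f_rc_43_0 lc_f_rc_23_1 lc_f_rc_30_3 lc_f_rc_30_1 lc_f_rc_23_1 lc_f_rc_15_1 lc_f_rc_6_1 lc_f_rc_15_1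 lc_f_rc_6_1 lc_f_rc_23_1 lc_f_rc_43_0 lc_f_rc_15_1 lc_f_rc_15_1 lc_f_rc_6_1 lc_f_rc_23_1 lc_f_rc_6_1 lc_f_rc_23_1) (@D3.rec (fun _ => (Cert rels S Gen.f)) lc_f_rc_6_1 lc_f_rc_23_1 lc_f_rc_6_1 lc_f_Cert_tree lc_f_rc_15_1 lc_f_rc_43_0 lc_f_rc_30_3 lc_f_rc_43_0 lc_f_rc_23_1 lc_f_Cert_tree lc_f_rc_15_1 lc_f_rc_43_0 lc_f_rc_30_3 lc_f_rc_43_0 lc_f_rc_23_1 lc_f_rc_43_0 lc_f_rc_30_1 lc_f_rc_23_1 lc_f_rc_30_1 lc_f_rc_23_1 lc_f_rc_30_1 lc_f_rc_6_1 lc_f_rc_23_1 lc_f_rc_15_1 lc_f_rc_23_1 lc_f_rc_6_1 lc_f_rc_6_1 lc_f_rc_23_1 lc_f_rc_6_1 lc_f_rc_23_1 lc_f_rc_6_1 lc_f_rc_30_3 lc_f_rc_6_1 lc_f_rc_23_1 lc_f_rc_43_1 lc_f_rc_6_1 lc_f_rc_23_1 lc_f_rc_15_1 lc_f_rc_30_1 lc_f_rc_6_1 lc_f_rc_15_1 lc_f_rc_6_1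 lc_f_rc_15_1 lc_f_rc_6_1 lc_f_rc_23_1 lc_f_rc_6_1 lc_f_rc_23_1 lc_f_rc_6_1 lc_f_rc_23_1 lc_f_rc_6_1 lc_f_rc_15_1) (@D3.rec (fun _ => (Cert rels S Gen.f)) lc_f_rc_42_2 lc_f_rc_30_1 lc_f_rc_6_1 lc_f_rc_6_1 lc_f_rc_15_1 lc_f_rc_6_1 lc_f_rc_6_1 lc_f_rc_15_1 lc_f_rc_42_2 lc_f_Cert_tree lc_f_Cert_tree lc_f_rc_43_0 lc_f_rc_43_0 lc_f_rc_42_0 lc_f_Cert_tree lc_f_Cert_tree lc_f_rc_43_0 lc_f_rc_43_0 lc_f_rc_44_2 lc_f_Cert_tree lc_f_Cert_tree lc_f_rc_43_0 lc_f_rc_43_0 lc_f_rc_43_1 lc_f_rc_44_2 lc_f_rc_43_0 lc_f_rc_43_0 lc_f_rc_6_1 lc_f_rc_23_1 lc_f_rc_15_1 lc_f_rc_46_2 lc_f_Cert_tree lc_f_rc_15_1 lc_f_rc_43_0 lc_f_rc_44_2 lc_f_rc_43_0 lc_f_rc_15_1 lc_f_Cert_tree lc_f_rc_15_1 lc_f_rc_43_0 lc_f_rc_46_2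 lc_f_rc_6_1 lc_f_rc_15_1 lc_f_Cert_tree lc_f_Cert_tree lc_f_rc_43_0 lc_f_rc_43_0 lc_f_Cert_tree lc_f_rc_43_0 lc_f_Cert_tree lc_f_rc_43_0) (@D3.rec (fun _ => (Cert rels S Gen.f)) lc_f_rc_36_3 lc_f_rc_6_1 lc_f_rc_15_1 lc_f_rc_42_0 lc_f_rc_43_0 lc_f_rc_44_2 lc_f_rc_15_3 lc_f_rc_23_3 lc_f_rc_43_0 lc_f_rc_6_1 lc_f_Cert_tree lc_f_Cert_tree lc_f_rc_43_0 lc_f_rc_43_0 lc_f_rc_43_1 lc_f_Cert_tree lc_f_rc_43_0 lc_f_Cert_tree lc_f_rc_43_0 lc_f_rc_30_1 lc_f_rc_45_0 lc_f_rc_43_0 lc_f_rc_15_1 lc_f_rc_15_1 lc_f_rc_43_0 lc_f_rc_46_2 lc_f_rc_6_1 lc_f_rc_15_3 lc_f_rc_15_1 lc_f_rc_6_1 lc_f_rc_23_1 lc_f_rc_6_1 lc_f_rc_23_1 lc_f_rc_6_1 lc_f_rc_23_1 lc_f_rc_30_1 lc_f_rc_23_1 lc_f_rc_15_1 lc_f_rc_42_0 lc_f_Cert_tree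 lc_f_rc_43_0 lc_f_Cert_tree lc_f_Cert_tree lc_f_rc_43_0 lc_f_rc_43_0 lc_f_rc_44_2 lc_f_Cert_tree lc_f_Cert_tree lc_f_rc_43_0 lc_f_rc_43_0 lc_f_rc_44_2) (@D3.rec (fun _ => (Cert rels S Gen.f)) lc_f_rc_43_0 lc_f_rc_46_0 lc_f_Cert_tree lc_f_Cert_tree lc_f_rc_43_0 lc_f_rc_43_0 lc_f_rc_6_1 lc_f_rc_23_1 lc_f_rc_15_1 lc_f_rc_6_1 lc_f_rc_46_2 lc_f_rc_43_0 lc_f_rc_46_2 lc_f_Cert_tree lc_f_rc_43_0 lc_f_Cert_tree lc_f_rc_43_0 lc_f_rc_36_3 lc_f_Cert_tree lc_f_rc_43_0 lc_f_Cert_tree lc_f_rc_43_0 lc_f_rc_43_1 lc_f_rc_42_2 lc_f_rc_44_2 lc_f_rc_6_1 lc_f_rc_6_1 lc_f_rc_23_1 lc_f_rc_15_1 lc_f_Cert_tree lc_f_Cert_tree lc_f_rc_43_0 lc_f_rc_43_0 lc_f_rc_36_3 lc_f_rc_30_1 lc_f_rc_23_1 lc_f_rc_15_1 lc_f_rc_6_1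 lc_f_rc_46_0 lc_f_rc_23_1 lc_f_rc_43_0 lc_f_rc_6_1 lc_f_rc_6_1 lc_f_rc_23_1 lc_f_rc_45_0 lc_f_rc_23_1 lc_f_Cert_tree lc_f_rc_43_0 lc_f_rc_43_0 lc_f_rc_36_3 lc_f_rc_6_1) (@D3.rec (fun _ => (Cert rels S Gen.f)) lc_f_rc_36_3 lc_f_rc_15_1 lc_f_Cert_tree lc_f_rc_43_0 lc_f_Cert_tree lc_f_rc_43_0 lc_f_rc_15_1 lc_f_rc_36_5 lc_f_rc_30_1 lc_f_rc_23_1 lc_f_rc_15_1 lc_f_Cert_tree lc_f_rc_15_1 lc_f_rc_43_0 lc_f_Cert_tree lc_f_rc_15_1 lc_f_rc_43_0 lc_f_rc_43_0 lc_f_rc_6_1 lc_f_rc_23_1 lc_f_Cert_tree lc_f_rc_43_0 lc_f_rc_30_1 lc_f_rc_43_0 lc_f_Cert_tree lc_f_rc_15_1 lc_f_rc_43_0 lc_f_rc_36_3 lc_f_Cert_tree lc_f_Cert_tree lc_f_rc_43_0 lc_f_rc_43_0 lc_f_rc_46_0 lc_f_rc_46_0 lc_f_rc_43_0 lc_f_rc_36_1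 lc_f_rc_30_1 lc_f_rc_23_1 lc_f_rc_15_1 lc_f_Cert_tree lc_f_rc_43_0 lc_f_Cert_tree lc_f_rc_43_0 lc_f_rc_30_1 lc_f_rc_46_0 lc_f_rc_42_2 lc_f_rc_46_0 lc_f_rc_30_1 lc_f_rc_36_1 lc_f_rc_46_2 lc_f_rc_46_2) (@D3.rec (fun _ => (Cert rels S Gen.f)) lc_f_rc_30_1 lc_f_rc_23_1 lc_f_Cert_tree lc_f_rc_43_0 lc_f_rc_43_0 lc_f_rc_15_1 lc_f_rc_46_2 lc_f_Cert_tree lc_f_rc_43_0 lc_f_Cert_tree lc_f_rc_43_0 lc_f_rc_15_1 lc_f_rc_36_3 lc_f_rc_46_2 lc_f_Cert_tree lc_f_rc_43_0 lc_f_Cert_tree lc_f_rc_43_0 lc_f_rc_43_1 lc_f_rc_15_1 lc_f_rc_30_1 lc_f_rc_42_2 lc_f_rc_46_2 lc_f_rc_15_1 lc_f_rc_6_1 lc_f_rc_30_1 lc_f_rc_23_1 lc_f_rc_15_1 lc_f_rc_42_2 lc_f_rc_30_1 lc_f_rc_23_1 lc_f_rc_30_3 lc_f_rc_43_0 lc_f_rc_23_1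 lc_f_Cert_tree lc_f_rc_43_0 lc_f_Cert_tree lc_f_rc_43_0 lc_f_rc_46_2 lc_f_Cert_tree lc_f_rc_43_0 lc_f_rc_43_0 lc_f_rc_36_3 lc_f_rc_23_1 lc_f_rc_30_3 lc_f_rc_30_1 lc_f_rc_23_1 lc_f_rc_30_3 lc_f_rc_43_0 lc_f_rc_23_1 lc_f_rc_43_0) (@D3.rec (fun _ => (Cert rels S Gen.f)) lc_f_Cert_tree lc_f_rc_43_0 lc_f_Cert_tree lc_f_rc_43_0 lc_f_rc_43_1 lc_f_rc_42_2 lc_f_Cert_tree lc_f_rc_43_0 lc_f_rc_42_2 lc_f_rc_43_0 lc_f_rc_23_1 lc_f_rc_36_3 lc_f_rc_15_1 lc_f_rc_43_0 lc_f_rc_46_2 lc_f_rc_6_1 lc_f_rc_23_1 lc_f_rc_15_1 lc_f_rc_15_1 lc_f_rc_6_1 lc_f_rc_23_1 lc_f_rc_6_1 lc_f_rc_6_1 lc_f_rc_23_1 lc_f_rc_6_1 lc_f_rc_23_1 lc_f_rc_6_1 lc_f_rc_23_1 lc_f_rc_15_1 lc_f_Cert_tree lc_f_rc_43_0 lc_f_Cert_tree lc_f_rc_43_0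 lc_f_rc_15_1 lc_f_rc_15_1 lc_f_rc_44_2 lc_f_rc_6_1 lc_f_rc_6_1 lc_f_rc_23_1 lc_f_rc_6_1 lc_f_rc_23_1 lc_f_rc_36_5 lc_f_rc_43_0 lc_f_rc_42_2 lc_f_rc_6_1 lc_f_rc_6_1 lc_f_rc_23_1 lc_f_rc_36_1 lc_f_rc_15_1 lc_f_rc_23_1 lc_f_rc_42_0) (@D3.rec (fun _ => (Cert rels S Gen.f)) lc_f_rc_6_1 lc_f_rc_23_1 lc_f_rc_15_1 lc_f_rc_6_1 lc_f_rc_6_1 lc_f_rc_23_1 lc_f_rc_43_1 lc_f_rc_23_1 lc_f_rc_15_3 lc_f_rc_23_1 lc_f_rc_15_1 lc_f_rc_6_1 lc_f_rc_6_1 lc_f_rc_23_1 lc_f_rc_15_1 lc_f_Cert_tree lc_f_rc_43_0 lc_f_rc_43_0 lc_f_rc_43_0 lc_f_rc_6_1 lc_f_rc_43_0 lc_f_rc_23_1 lc_f_rc_43_0 lc_f_rc_44_2 lc_f_rc_46_0 lc_f_Cert_tree lc_f_rc_43_0 lc_f_Cert_tree lc_f_rc_43_0 lc_f_rc_30_1 lc_f_rc_15_1 lc_f_Cert_tree lc_f_rc_43_0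 lc_f_rc_30_1 lc_f_rc_6_1 lc_f_rc_43_0 lc_f_rc_23_1 lc_f_rc_6_1 lc_f_rc_6_1 lc_f_rc_23_1 lc_f_rc_15_1 lc_f_rc_15_1 lc_f_rc_6_1 lc_f_rc_6_1 lc_f_rc_23_1 lc_f_rc_23_1 lc_f_rc_15_3 lc_f_rc_23_1 lc_f_rc_6_1 lc_f_rc_30_1 lc_f_rc_23_1) (@D3.rec (fun _ => (Cert rels S Gen.f)) lc_f_rc_42_0 lc_f_rc_46_2 lc_f_rc_15_3 lc_f_rc_15_1 lc_f_rc_6_1 lc_f_rc_6_1 lc_f_rc_15_1 lc_f_rc_6_1 lc_f_rc_44_2 lc_f_rc_15_1 lc_f_rc_15_3 lc_f_rc_23_1 lc_f_rc_42_2 lc_f_rc_30_3 lc_f_rc_15_1 lc_f_rc_42_2 lc_f_rc_15_3 lc_f_rc_23_1 lc_f_rc_23_1 lc_f_rc_6_1 lc_f_rc_23_1 lc_f_rc_15_1 lc_f_rc_43_0 lc_f_rc_43_0 lc_f_rc_43_1 lc_f_rc_42_2 lc_f_rc_15_1 lc_f_rc_6_1 lc_f_rc_42_2 lc_f_rc_23_1 lc_f_rc_45_2 lc_f_rc_23_1 lc_f_rc_30_3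 lc_f_rc_43_0 lc_f_rc_23_1 lc_f_Cert_tree lc_f_rc_43_0 lc_f_Cert_tree lc_f_rc_43_0 lc_f_rc_46_2 lc_f_Cert_tree lc_f_rc_43_0 lc_f_rc_43_0 lc_f_rc_23_1 lc_f_rc_15_1 lc_f_rc_23_1 lc_f_rc_15_1 lc_f_Cert_tree lc_f_rc_43_0 lc_f_rc_6_1 lc_f_rc_6_1) (@D3.rec (fun _ => (Cert rels S Gen.f)) lc_f_rc_6_1 lc_f_rc_23_1 lc_f_rc_23_1 lc_f_rc_30_1 lc_f_rc_6_1 lc_f_rc_23_1 lc_f_rc_6_1 lc_f_rc_6_1 lc_f_rc_30_1 lc_f_rc_23_1 lc_f_rc_15_1 lc_f_rc_6_1 lc_f_rc_23_1 lc_f_rc_42_2 lc_f_rc_6_1 lc_f_rc_23_1 lc_f_rc_15_3 lc_f_rc_43_0 lc_f_rc_23_1 lc_f_rc_30_1 lc_f_rc_23_1 lc_f_rc_6_1 lc_f_rc_23_1 lc_f_rc_6_1 lc_f_rc_6_1 lc_f_rc_6_1 lc_f_rc_15_1 lc_f_rc_30_3 lc_f_rc_30_3 lc_f_rc_36_1 lc_f_rc_42_0 lc_f_rc_23_1 lc_f_rc_6_1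 lc_f_rc_23_1 lc_f_rc_6_1 lc_f_rc_15_1 lc_f_rc_6_1 lc_f_rc_6_1 lc_f_rc_6_1 lc_f_rc_15_1 lc_f_rc_45_0 lc_f_rc_43_0 lc_f_rc_23_1 lc_f_rc_36_3 lc_f_rc_42_2 lc_f_rc_43_0 lc_f_rc_23_1 lc_f_rc_36_3 lc_f_rc_36_1 lc_f_rc_44_0 lc_f_rc_56_40) (@D3.rec (fun _ => (Cert rels S Gen.f)) lc_f_rc_23_1 lc_f_rc_43_1 lc_f_rc_15_1 lc_f_rc_6_1 lc_f_rc_6_1 lc_f_rc_15_1 lc_f_rc_6_3 lc_f_rc_23_1 lc_f_rc_46_2 lc_f_rc_6_1 lc_f_rc_6_1 lc_f_rc_23_1 lc_f_rc_15_1 lc_f_rc_6_1 lc_f_rc_6_1 lc_f_rc_23_1 lc_f_rc_6_1 lc_f_rc_6_1 lc_f_rc_15_1 lc_f_rc_23_3 lc_f_rc_15_1 lc_f_rc_46_0 lc_f_rc_43_1 lc_f_rc_6_1 lc_f_rc_6_1 lc_f_rc_23_1 lc_f_rc_15_1 lc_f_Cert_tree lc_f_rc_43_0 lc_f_rc_43_0 lc_f_rc_6_3 lc_f_Cert_tree lc_f_rc_43_0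 lc_f_Cert_tree lc_f_rc_43_0 lc_f_rc_15_1 lc_f_rc_36_3 lc_f_rc_30_1 lc_f_Cert_tree lc_f_rc_43_0 lc_f_Cert_tree lc_f_rc_43_0 lc_f_rc_43_1 lc_f_rc_15_1 lc_f_rc_46_2 lc_f_rc_42_2 lc_f_rc_42_0 lc_f_rc_6_1 lc_f_rc_6_1 lc_f_rc_23_1 lc_f_rc_15_1) (@D3.rec (fun _ => (Cert rels S Gen.f)) lc_f_rc_15_3 lc_f_rc_43_0 lc_f_rc_23_1 lc_f_rc_15_1 lc_f_rc_15_3 lc_f_rc_23_3 lc_f_rc_43_0 lc_f_rc_15_1 lc_f_rc_6_1 lc_f_Cert_tree lc_f_rc_43_0 lc_f_Cert_tree lc_f_rc_43_0 lc_f_rc_36_3 lc_f_Cert_tree lc_f_rc_43_0 lc_f_rc_43_0 lc_f_rc_36_3 lc_f_rc_6_1 lc_f_rc_44_2 lc_f_Cert_tree lc_f_rc_43_0 lc_f_Cert_tree lc_f_rc_43_0 lc_f_rc_43_1 lc_f_rc_42_2 lc_f_Cert_tree lc_f_rc_43_0 lc_f_rc_30_1 lc_f_rc_43_0 lc_f_rc_23_1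 lc_f_rc_46_2 lc_f_rc_6_1 lc_f_rc_46_2 lc_f_rc_30_1 lc_f_rc_23_1 lc_f_rc_6_1 lc_f_rc_6_1 lc_f_rc_6_1 lc_f_rc_36_5 lc_f_rc_30_1 lc_f_rc_23_1 lc_f_rc_15_1 lc_f_rc_43_0 lc_f_Cert_tree lc_f_rc_43_0 lc_f_Cert_tree lc_f_rc_43_0 lc_f_rc_6_3 lc_f_Cert_tree lc_f_rc_43_0) (@D3.rec (fun _ => (Cert rels S Gen.f)) lc_f_Cert_tree lc_f_rc_43_0 lc_f_rc_46_2 lc_f_rc_46_0 lc_f_Cert_tree lc_f_rc_43_0 lc_f_Cert_tree lc_f_rc_43_0 lc_f_rc_6_1 lc_f_rc_6_1 lc_f_rc_23_1 lc_f_rc_46_2 lc_f_Cert_tree lc_f_rc_43_0 lc_f_rc_43_0 lc_f_rc_36_3 lc_f_Cert_tree lc_f_rc_43_0 lc_f_rc_43_1 lc_f_rc_43_0 lc_f_rc_43_1 lc_f_rc_42_2 lc_f_rc_15_1 lc_f_rc_6_1 lc_f_rc_6_1 lc_f_rc_23_1 lc_f_Cert_tree lc_f_rc_43_0 lc_f_Cert_tree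 lc_f_rc_43_0 lc_f_rc_15_1 lc_f_rc_44_0 lc_f_rc_30_1 lc_f_rc_23_1 lc_f_rc_15_1 lc_f_rc_23_1 lc_f_rc_6_1 lc_f_rc_23_1 lc_f_Cert_tree lc_f_rc_43_0 lc_f_rc_6_1 lc_f_rc_23_1 lc_f_rc_36_1 lc_f_rc_23_1 lc_f_Cert_tree lc_f_rc_43_0 lc_f_rc_36_1 lc_f_rc_43_0 lc_f_rc_23_1 lc_f_rc_6_1 lc_f_rc_36_5) (@D3.rec (fun _ => (Cert rels S Gen.f)) lc_f_rc_45_2 lc_f_rc_23_1 lc_f_rc_23_1 lc_f_rc_42_2 lc_f_rc_43_0 lc_f_rc_23_1 lc_f_rc_42_2 lc_f_rc_43_0 lc_f_rc_23_1 lc_f_rc_6_1 lc_f_rc_42_2 lc_f_rc_43_0 lc_f_rc_46_2 lc_f_rc_43_0 lc_f_rc_23_1 lc_f_rc_43_0 lc_f_Cert_tree lc_f_rc_43_0 lc_f_Cert_tree lc_f_rc_43_0 lc_f_rc_15_1 lc_f_rc_15_1 lc_f_rc_43_0 lc_f_rc_23_1 lc_f_rc_30_1 lc_f_Cert_tree lc_f_rc_43_0 lc_f_rc_43_0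 lc_f_rc_30_1 lc_f_rc_43_0 lc_f_rc_43_0 lc_f_rc_46_2 lc_f_rc_23_1 lc_f_rc_42_0 lc_f_rc_43_0 lc_f_rc_6_1 lc_f_rc_46_2 lc_f_Cert_tree lc_f_rc_43_0 lc_f_rc_15_3 lc_f_rc_43_0 lc_f_rc_36_3 lc_f_rc_15_1 lc_f_Cert_tree lc_f_rc_43_0 lc_f_rc_43_1 lc_f_rc_6_1 lc_f_rc_43_0 lc_f_rc_43_1 lc_f_rc_30_1 lc_f_rc_42_2) (@D3.rec (fun _ => (Cert rels S Gen.f)) lc_f_rc_42_0 lc_f_rc_15_1 lc_f_rc_23_1 lc_f_rc_30_1 lc_f_rc_23_1 lc_f_rc_42_2 lc_f_rc_36_3 lc_f_Cert_tree lc_f_rc_43_0 lc_f_rc_43_0 lc_f_rc_46_2 lc_f_Cert_tree lc_f_rc_43_0 lc_f_rc_6_1 lc_f_rc_23_1 lc_f_rc_36_3 lc_f_rc_30_3 lc_f_Cert_tree lc_f_rc_43_0 lc_f_rc_43_1 lc_f_rc_43_0 lc_f_rc_43_1 lc_f_rc_42_2 lc_f_Cert_tree lc_f_rc_43_0 lc_f_rc_30_1 lc_f_rc_6_1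 lc_f_rc_6_1 lc_f_rc_23_1 lc_f_rc_23_1 lc_f_rc_6_1 lc_f_rc_6_1 lc_f_rc_15_1 lc_f_rc_6_1 lc_f_rc_15_1 lc_f_rc_46_2 lc_f_rc_6_1 lc_f_rc_6_1 lc_f_rc_23_1 lc_f_Cert_tree lc_f_rc_43_0 lc_f_rc_6_1 lc_f_rc_6_1 lc_f_rc_43_0 lc_f_rc_23_1 lc_f_rc_15_1 lc_f_rc_6_1 lc_f_rc_23_1 lc_f_rc_43_1 lc_f_rc_23_1 lc_f_rc_46_0) (@D3.rec (fun _ => (Cert rels S Gen.f)) lc_f_rc_23_1 lc_f_rc_6_1 lc_f_rc_6_1 lc_f_rc_23_1 lc_f_rc_15_1 lc_f_rc_6_1 lc_f_rc_23_1 lc_f_rc_23_1 lc_f_rc_15_3 lc_f_rc_23_1 lc_f_rc_15_1 lc_f_rc_6_1 lc_f_rc_6_1 lc_f_rc_23_1 lc_f_rc_43_0 lc_f_rc_42_2 lc_f_rc_6_1 lc_f_rc_46_0 lc_f_Cert_tree lc_f_rc_43_0 lc_f_rc_6_1 lc_f_rc_6_1 lc_f_rc_43_0 lc_f_rc_23_1 lc_f_Cert_tree lc_f_rc_43_0 lc_f_rc_30_3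 lc_f_rc_15_1 lc_f_rc_6_1 lc_f_rc_30_1 lc_f_rc_23_1 lc_f_rc_15_1 lc_f_rc_6_1 lc_f_rc_6_1 lc_f_rc_23_1 lc_f_rc_30_3 lc_f_rc_15_1 lc_f_rc_23_1 lc_f_rc_23_1 lc_f_rc_15_1 lc_f_rc_30_3 lc_f_rc_6_3 lc_f_rc_15_1 lc_f_rc_56_47 lc_f_rc_23_1 lc_f_rc_42_0 lc_f_rc_6_1 lc_f_rc_6_1 lc_f_rc_23_1 lc_f_rc_42_2 lc_f_rc_15_1) (@D3.rec (fun _ => (Cert rels S Gen.f)) lc_f_rc_23_3 lc_f_rc_23_1 lc_f_Cert_tree lc_f_rc_43_0 lc_f_rc_46_2 lc_f_rc_43_0 lc_f_rc_46_2 lc_f_Cert_tree lc_f_rc_43_0 lc_f_rc_42_0 lc_f_rc_15_3 lc_f_rc_15_1 lc_f_rc_23_1 lc_f_rc_43_0 lc_f_rc_15_1 lc_f_rc_23_1 lc_f_rc_6_1 lc_f_rc_30_1 lc_f_rc_15_1 lc_f_rc_15_1 lc_f_rc_36_1 lc_f_rc_42_0 lc_f_rc_23_1 lc_f_rc_6_1 lc_f_rc_15_1 lc_f_rc_45_2 lc_f_rc_23_1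 lc_f_rc_44_4 lc_f_rc_6_1 lc_f_rc_15_1 lc_f_rc_15_1 lc_f_rc_15_1 lc_f_rc_30_3 lc_f_rc_36_1 lc_f_rc_42_0 lc_f_rc_6_1 lc_f_rc_15_1 lc_f_rc_15_1 lc_f_rc_15_1 lc_f_rc_15_1 lc_f_rc_45_0 lc_f_rc_15_1 lc_f_rc_42_2 lc_f_rc_42_2 lc_f_rc_44_0 lc_f_rc_56_40 lc_f_rc_15_1 lc_f_rc_46_2 lc_f_rc_15_1 lc_f_rc_15_1 lc_f_rc_15_1) (@D3.rec (fun _ => (Cert rels S Gen.f)) lc_f_rc_15_1 lc_f_rc_6_1 lc_f_rc_6_1 lc_f_rc_23_1 lc_f_rc_6_1 lc_f_rc_15_1 lc_f_rc_15_1 lc_f_rc_15_1 lc_f_rc_6_1 lc_f_rc_6_1 lc_f_rc_23_1 lc_f_rc_43_0 lc_f_rc_44_2 lc_f_Cert_tree lc_f_rc_43_0 lc_f_rc_6_1 lc_f_rc_43_0 lc_f_rc_36_3 lc_f_rc_30_1 lc_f_Cert_tree lc_f_rc_43_0 lc_f_rc_43_1 lc_f_rc_6_1 lc_f_rc_43_0 lc_f_rc_43_1 lc_f_rc_15_1 lc_f_rc_42_2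 lc_f_rc_15_1 lc_f_rc_6_1 lc_f_rc_6_1 lc_f_rc_23_1 lc_f_rc_15_3 lc_f_rc_15_3 lc_f_rc_23_3 lc_f_Cert_tree lc_f_rc_43_0 lc_f_rc_43_0 lc_f_rc_15_1 lc_f_Cert_tree lc_f_rc_43_0 lc_f_rc_6_1 lc_f_rc_23_1 lc_f_Cert_tree lc_f_rc_43_0 lc_f_rc_43_1 lc_f_rc_43_0 lc_f_rc_43_1 lc_f_rc_42_2 lc_f_Cert_tree lc_f_rc_43_0 lc_f_rc_23_1) (@D3.rec (fun _ => (Cert rels S Gen.f)) lc_f_rc_46_2 lc_f_rc_23_1 lc_f_rc_42_2 lc_f_rc_15_1 lc_f_rc_15_1 lc_f_rc_15_1 lc_f_rc_44_4 lc_f_rc_30_1 lc_f_rc_42_0 lc_f_rc_23_1 lc_f_Cert_tree lc_f_rc_43_0 lc_f_rc_46_0 lc_f_rc_43_0 lc_f_Cert_tree lc_f_rc_43_0 lc_f_rc_46_2 lc_f_rc_43_0 lc_f_Cert_tree lc_f_rc_43_0 lc_f_rc_43_0 lc_f_rc_15_1 lc_f_rc_6_1 lc_f_Cert_tree lc_f_rc_43_0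 lc_f_rc_6_1 lc_f_rc_23_1 lc_f_Cert_tree lc_f_rc_43_0 lc_f_rc_43_1 lc_f_rc_42_2 lc_f_rc_42_2 lc_f_rc_15_1 lc_f_rc_6_1 lc_f_Cert_tree lc_f_rc_43_0 lc_f_rc_36_3 lc_f_rc_43_0 lc_f_rc_23_1 lc_f_rc_6_1 lc_f_rc_44_0 lc_f_rc_46_2 lc_f_rc_23_1 lc_f_rc_42_0 lc_f_rc_15_1 lc_f_rc_42_0 lc_f_rc_43_0 lc_f_rc_23_1 lc_f_rc_42_2 lc_f_Cert_tree lc_f_rc_43_0) (@D3.rec (fun _ => (Cert rels S Gen.f)) lc_f_rc_36_1 lc_f_rc_15_1 lc_f_rc_43_0 lc_f_rc_45_2 lc_f_rc_15_3 lc_f_rc_42_2 lc_f_rc_42_2 lc_f_rc_15_1 lc_f_rc_15_1 lc_f_rc_46_2 lc_f_rc_42_2 lc_f_Cert_tree lc_f_rc_43_0 lc_f_rc_6_1 lc_f_rc_6_1 lc_f_rc_43_0 lc_f_rc_46_2 lc_f_Cert_tree lc_f_rc_43_0 lc_f_rc_6_1 lc_f_rc_23_1 lc_f_rc_23_1 lc_f_rc_6_3 lc_f_Cert_tree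 lc_f_rc_43_0 lc_f_rc_6_1 lc_f_rc_15_1 lc_f_rc_23_1 lc_f_rc_23_1 lc_f_Cert_tree lc_f_rc_43_0 lc_f_rc_43_1 lc_f_rc_6_1 lc_f_rc_42_2 lc_f_rc_23_1 lc_f_rc_42_2 lc_f_rc_15_1 lc_f_rc_23_1 lc_f_rc_15_1 lc_f_rc_36_3 lc_f_Cert_tree lc_f_rc_43_0 lc_f_rc_46_2 lc_f_rc_46_2 lc_f_rc_43_0 lc_f_rc_23_1 lc_f_rc_15_1 lc_f_rc_15_1 lc_f_Cert_tree lc_f_rc_43_0 lc_f_rc_43_1) (@D3.rec (fun _ => (Cert rels S Gen.f)) lc_f_rc_42_2 lc_f_rc_42_2 lc_f_rc_43_0 lc_f_rc_15_1 lc_f_rc_23_1 lc_f_rc_23_1 lc_f_rc_15_1 lc_f_rc_15_1 lc_f_rc_15_1 lc_f_rc_6_1 lc_f_Cert_tree lc_f_rc_43_0 lc_f_rc_30_1 lc_f_rc_15_1 lc_f_rc_15_1 lc_f_rc_15_1 lc_f_rc_45_2 lc_f_rc_15_1 lc_f_rc_6_1 lc_f_rc_15_1 lc_f_rc_15_1 lc_f_rc_56_33 lc_f_rc_23_1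 lc_f_rc_15_1 lc_f_rc_6_1 lc_f_rc_15_1 lc_f_Cert_tree lc_f_rc_43_0 lc_f_rc_23_1 lc_f_rc_43_0 lc_f_rc_30_3 lc_f_rc_15_1 lc_f_rc_23_1 lc_f_rc_15_1 lc_f_rc_15_1 lc_f_rc_23_1 lc_f_rc_15_1 lc_f_rc_56_40 lc_f_rc_6_3 lc_f_rc_30_1 lc_f_rc_15_1 lc_f_rc_6_1 lc_f_rc_42_2 lc_f_Cert_tree lc_f_rc_43_0 lc_f_rc_46_2 lc_f_rc_43_0 lc_f_rc_6_3 lc_f_rc_23_1 lc_f_rc_15_1 lc_f_rc_15_1) (@D3.rec (fun _ => (Cert rels S Gen.f)) lc_f_rc_42_2 lc_f_rc_42_0 lc_f_rc_15_1 lc_f_rc_42_2 lc_f_rc_15_1 lc_f_rc_15_1 lc_f_rc_46_2 lc_f_rc_15_1 lc_f_rc_6_3 lc_f_rc_42_2 lc_f_rc_15_1 lc_f_rc_6_1 lc_f_rc_15_1 lc_f_rc_15_1 lc_f_rc_6_1 lc_f_Cert_tree lc_f_rc_43_0 lc_f_rc_6_1 lc_f_rc_6_1 lc_f_rc_23_1 lc_f_rc_23_1 lc_f_Cert_tree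 lc_f_rc_43_0 lc_f_rc_43_1 lc_f_rc_6_1 lc_f_rc_42_2 lc_f_rc_55_23 lc_f_rc_42_2 lc_f_rc_15_1 lc_f_rc_6_1 lc_f_rc_56_33 lc_f_Cert_tree lc_f_rc_43_0 lc_f_rc_36_3 lc_f_rc_23_1 lc_f_rc_43_0 lc_f_rc_23_1 lc_f_Cert_tree lc_f_rc_43_0 lc_f_rc_43_1 lc_f_rc_42_2 lc_f_rc_42_2 lc_f_rc_43_0 lc_f_rc_15_1 lc_f_rc_23_1 lc_f_rc_56_40 lc_f_rc_15_1 lc_f_rc_42_0 lc_f_Cert_tree lc_f_rc_43_0 lc_f_Cert_tree) (@D3.rec (fun _ => (Cert rels S Gen.f)) lc_f_rc_43_0 lc_f_Cert_tree lc_f_rc_43_0 lc_f_rc_15_1 lc_f_rc_43_0 lc_f_rc_23_1 lc_f_rc_43_0 lc_f_rc_43_1 lc_f_rc_42_2 lc_f_rc_15_1 lc_f_Cert_tree lc_f_rc_43_0 lc_f_rc_36_3 lc_f_rc_15_1 lc_f_rc_46_2 lc_f_rc_15_1 lc_f_rc_15_1 lc_f_rc_43_0 lc_f_rc_15_1 lc_f_rc_15_1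 lc_f_rc_56_33 lc_f_rc_6_1 lc_f_rc_15_1 lc_f_rc_46_2 lc_f_rc_15_1 lc_f_Cert_tree lc_f_rc_43_0 lc_f_rc_43_0 lc_f_rc_23_1 lc_f_rc_15_1 lc_f_rc_43_0 lc_f_rc_23_1 lc_f_rc_23_1 lc_f_rc_43_0 lc_f_rc_43_1 lc_f_rc_23_1 lc_f_rc_42_2 lc_f_rc_15_1 lc_f_rc_43_0 lc_f_rc_46_2 lc_f_rc_15_1 lc_f_rc_43_0 lc_f_rc_43_1 lc_f_rc_42_2 lc_f_rc_15_1 lc_f_rc_6_1 lc_f_rc_15_1 lc_f_rc_43_0 lc_f_rc_43_0 lc_f_rc_15_1 lc_f_rc_56_33) (@D3.rec (fun _ => (Cert rels S Gen.f)) lc_f_rc_15_1 lc_f_rc_43_0 lc_f_rc_23_3 lc_f_rc_56_40 lc_f_rc_30_1 lc_f_rc_15_1 lc_f_rc_43_0 lc_f_rc_15_1 lc_f_rc_42_2 lc_f_rc_43_0 lc_f_rc_15_1 lc_f_rc_15_1 lc_f_rc_43_0 lc_f_rc_23_1 lc_f_rc_23_1 lc_f_rc_43_0 lc_f_rc_43_1 lc_f_rc_42_0 lc_f_rc_42_2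 lc_f_rc_15_1 lc_f_rc_43_0 lc_f_rc_30_1 lc_f_rc_15_1 lc_f_rc_43_0 lc_f_rc_43_1 lc_f_rc_42_2 lc_f_rc_15_1 lc_f_rc_15_1 lc_f_rc_43_0 lc_f_rc_43_0 lc_f_rc_43_0 lc_f_rc_15_1 lc_f_rc_42_2 lc_f_rc_43_0 lc_f_rc_55_68 lc_f_rc_15_1 lc_f_rc_43_1 lc_f_rc_43_0 lc_f_rc_46_0 lc_f_rc_15_1 lc_f_rc_6_1 lc_f_rc_23_1 lc_f_rc_42_2 lc_f_rc_15_1 lc_f_rc_42_2 lc_f_rc_15_1 lc_f_rc_46_2 lc_f_rc_15_1 lc_f_rc_42_2 lc_f_rc_6_1 lc_f_rc_42_2)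
def ce_f : Pt → (Cert rels S Gen.f) := @Pt.rec (fun _ => (Cert rels S Gen.f)) (@D1.rec (fun _ => D2 → D3 → (Cert rels S Gen.f)) ce_f_0 ce_f_1 ce_f_2 ce_f_3 ce_f_4 ce_f_5 ce_f_6 ce_f_7 ce_f_8 ce_f_9 ce_f_10 ce_f_11 ce_f_12 ce_f_13 ce_f_14 ce_f_15 ce_f_16 ce_f_17 ce_f_18 ce_f_19 ce_f_20 ce_f_21 ce_f_22)
def isSeed_f (p : Pt) : Bool := false

end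

end Cfsg.Agent.Helper28.S1689
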