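import Cfsg.Agent.Lib.Helper28.S1689.Tree

set_option autoImplicit false
set_option maxRecDepth 100000
set_option linter.all false

namespace Cfsg.Agent.Helper28.S1689

open Cfsg.Agent.Helper28
open Cfsg.Spor.Fi23 (Gen)

noncomputable section

def lv_g_0 : D2 → D3 → Nat := @D2.rec (fun _ => D3 → Nat) (@D3.rec (fun _ => Nat) 1 0 1 3 4 5 6 6 7 7 7 8 8 8 8 9 9 9 9 9 10 10 10 10 10 0 10 10 11 11 11 11 11 0 11 11 1 2 11 12 12 12 0 12 12 12 0 12 12 1 2) (@D3.rec (fun _ => Nat) 12 11 2 3 12 13 13 13 0 13 13 1 2 13 0 15 13 1 2 13 13 12 2 3 13 12 3 4 13 14 0 14 14 0 16 14 1 2 14 14 13 2 3 14 0 1 3 2 16 16 13) (@D3.rec (fun _ => Nat) 2 3 14 14 13 3 4 14 13 4 5 5 14 15 0 17 15 1 2 15 15 0 1 3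 2 17 17 14 2 3 15 15 14 3 4 15 1 3 2 14 2 2 3 3 17 15 14 3 4 15 15) (@D3.rec (fun _ => Nat) 0 14 4 5 5 15 14 5 5 6 6 15 0 18 16 0 1 3 2 18 18 15 2 3 16 16 16 1 3 2 15 2 2 3 3 18 16 15 3 4 16 16 0 15 4 5 5 16 12 15 2) (@D3.rec (fun _ => Nat) 2 3 3 3 15 15 4 3 5 4 16 16 16 15 4 5 5 16 16 0 1 15 5 5 6 6 16 15 15 6 6 12 7 7 7 0 1 3 2 19 19 19 1 3 2 16 2 2 3 3 19) (@D3.rec (fun _ => Nat) 17 16 3 4 17 17 17 0 13 16 2 2 3 3 3 16 16 4 3 5 4 17 17 17 16 4 5 5 17 17 0 1 16 5 5 6 6 17 0 13 13 16 16 4 4 3 5 5 5 4 16) (@D3.rec (fun _ => Nat) 16 4 4 5 5 5 17 17 17 17 0 16 5 5 6 6 0 17 17 0 1 16 16 16 6 6 13 7 7 7 16 16 0 7 7 7 13 8 8 8 0 1 3 2 17 2 2 3 3 3 20) (@D3.rec (fun _ => Nat) 20 20 20 14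 17 2 2 3 3 3 17 17 4 3 5 4 18 18 18 17 4 5 5 18 18 0 18 0 1 0 14 14 17 17 4 4 3 5 5 5 4 17 17 4 4 5 5 5 18 18 18) (@D3.rec (fun _ => Nat) 18 0 17 5 5 6 6 0 18 18 0 1 17 17 17 6 6 14 7 7 7 1 3 2 14 14 14 17 17 17 4 4 4 4 5 5 5 5 5 5 17 17 6 5 5 7 7 6 6 0 18) (@D3.rec (fun _ => Nat) 18 0 18 18 18 0 1 17 17 6 6 0 7 7 7 0 1 18 0 1 17 17 17 0 7 7 7 14 8 8 8 17 17 17 0 1 8 8 14 14 8 9 1 2 15 18 2 2 3 3 18) (@D3.rec (fun _ => Nat) 18 4 4 3 5 5 4 21 21 21 19 21 0 15 15 18 18 4 4 3 5 5 4 18 18 4 4 5 5 5 19 19 19 19 0 18 5 5 6 6 0 19 19 19 0 1 0 21 1 18 1) (@D3.rec (fun _ => Nat) 3 2 15 15 15 18 18 18 4 4 4 4 5 5 5 5 5 18 18 6 5 5 7 7 6 6 0 19 19 0 19 19 19 0 1 18 18 6 6 0 7 7 7 0 1 19 0 1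 18 18 18) (@D3.rec (fun _ => Nat) 0 7 7 7 15 8 8 8 2 2 3 3 3 15 15 15 15 15 18 18 18 18 6 6 6 6 5 5 7 7 7 6 6 0 18 18 18 6 6 6 6 0 7 7 0 7 7 7 0 1 19) (@D3.rec (fun _ => Nat) 19 19 0 1 19 19 0 0 1 18 18 18 0 7 7 7 0 1 8 8 0 0 10 1 18 0 1 18 18 18 18 0 1 8 8 15 15 8 9 18 18 0 0 18 1 9 15 15 15 15 16) (@D3.rec (fun _ => Nat) 19 2 3 0 16 16 19 19 4 3 5 4 19 19 19 4 4 4 5 5 5 5 22 22 20 22 20 20 0 1 3 2 16 16 16 19 19 19 4 4 4 5 5 5 5 19 19 6 5 5 7) (@D3.rec (fun _ => Nat) 7 6 6 0 20 20 0 20 20 20 0 1 19 19 6 6 0 7 7 7 0 1 20 20 0 0 22 1 19 0 1 3 22 19 2 2 3 3 3 16 16 16 16 16 19 19 19 19 6 6 6) (@D3.rec (fun _ => Nat) 5 5 7 7 7 6 6 0 19 19 19 6 6 6 6 0 7 7 0 7 7 7 0 1 20 20 20 0 1 20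 20 0 0 1 19 19 19 0 7 7 7 0 1 8 8 0 0 10 1 19 0) (@D3.rec (fun _ => Nat) 1 19 19 19 19 0 1 8 8 16 16 8 9 9 9 9 4 4 3 5 5 5 5 4 16 16 16 16 16 16 16 16 19 19 19 19 19 19 6 6 6 6 6 0 7 7 0 7 7 0 1) (@D3.rec (fun _ => Nat) 19 19 19 19 0 8 8 0 7 7 7 0 1 9 9 9 0 1 8 8 0 0 10 1 19 20 20 0 0 20 1 19 20 0 20 0 1 0 1 19 19 19 19 0 1 8 8 0 0 10 1) (@D3.rec (fun _ => Nat) 7 9 0 0 1 1 3 19 1 19 19 19 0 0 19 1 9 16 16 16 18 19 0 0 1 0 1 3 16 16 16 17 0 17 20 3 4 1 3 2 17 17 20 20 4 4 5 5 5 20 20) (@D3.rec (fun _ => Nat) 20 6 6 5 5 7 7 7 6 6 0 23 21 23 21 21 0 21 21 21 0 1 2 2 3 3 3 17 17 17 17 20 20 20 6 6 5 5 7 7 7 6 6 0 20 20 20 6 6 6 6) (@D3.rec (fun _ => Nat) 0 7 7 0 7 7 7 0 1 21 21 21 0 1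 21 21 0 0 21 1 20 20 20 0 7 7 7 0 1 8 8 0 0 10 1 20 21 0 0 23 1 0 1 3 23 20 1 3 20 2 3) (@D3.rec (fun _ => Nat) 4 4 3 5 5 5 5 4 17 17 17 17 17 17 17 20 20 20 20 20 6 6 6 6 6 0 7 7 7 0 7 7 7 0 1 20 20 20 20 0 8 8 0 7 7 7 0 1 9 9 9) (@D3.rec (fun _ => Nat) 0 1 8 8 0 0 10 1 20 21 21 0 0 21 1 20 21 0 21 0 1 0 1 20 20 20 20 0 1 8 8 0 0 10 1 7 9 0 9 0 11 1 1 3 11 20 1 20 20 20 0) (@D3.rec (fun _ => Nat) 0 20 1 9 17 9 17 9 17 19 9 10 10 4 4 4 4 4 5 5 5 5 5 5 5 5 17 17 17 17 17 17 17 17 17 0 20 20 20 20 20 0 8 8 0 7 7 0 1 0 9) (@D3.rec (fun _ => Nat) 0 1 8 0 0 10 1 20 20 20 0 20 20 20 0 1 8 8 8 0 1 8 8 0 0 10 1 7 9 9 0 0 11 1 20 9 0 0 1 0 1 3 20 21 0 21 0 21 1 0 1) (@D3.rec (fun _ => Nat)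 3 20 21 0 1 0 0 1 20 1 20 20 20 0 0 20 1 7 9 0 0 1 0 1 3 8 0 1 1 20 20 2 20 20 0 0 1 0 1 3 17 17 19 0 1 0 1 1 3 2 17)
def lv_g_1 : D2 → D3 → Nat := @D2.rec (fun _ => D3 → Nat) (@D3.rec (fun _ => Nat) 17 0 18 1 2 18 23 4 5 5 2 2 3 3 18 18 21 21 6 5 5 7 7 6 6 0 21 21 21 21 6 6 6 6 6 0 7 7 7 7 0 7 7 7 0 1 24 24 22 22 0) (@D3.rec (fun _ => Nat) 22 22 22 0 1 22 22 0 0 22 1 21 4 4 3 5 5 5 4 18 18 18 18 18 21 21 21 21 6 6 6 6 6 0 7 7 7 7 0 7 7 7 0 1 21 21 21 21 0 8 8) (@D3.rec (fun _ => Nat) 0 7 7 7 0 1 9 9 9 0 1 8 8 0 0 10 1 21 22 22 0 0 22 1 21 22 0 22 0 22 1 0 1 3 22 21 21 21 21 0 1 8 8 0 0 10 1 7 9 0 9) (@D3.rec (fun _ => Nat) 0 11 1 0 1 3 11 21 0 24 1 0 1 3 24 21 1 3 21 2 3 17 21 2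 3 3 21 4 4 4 4 4 4 5 5 5 5 5 5 5 18 18 18 18 18 18 18 18 0 21 21) (@D3.rec (fun _ => Nat) 21 21 21 0 8 8 8 0 7 7 7 0 1 0 9 9 0 1 8 8 0 0 10 1 21 21 21 0 21 21 21 0 1 8 8 8 0 1 8 8 0 0 10 1 7 9 9 0 0 11 1) (@D3.rec (fun _ => Nat) 21 9 0 9 0 11 1 0 1 3 11 21 22 0 22 0 22 1 0 1 3 21 22 0 1 0 0 1 21 1 21 21 21 0 0 21 1 7 9 0 9 0 11 1 0 1 3 11 8 10 0) (@D3.rec (fun _ => Nat) 1 0 12 1 3 21 21 2 3 21 21 0 21 0 21 1 0 1 3 21 10 18 18 10 18 20 20 20 11 6 6 6 17 6 6 6 5 5 7 7 7 7 7 7 7 6 6 0 18 18 18) (@D3.rec (fun _ => Nat) 18 18 18 0 18 18 0 1 21 21 0 21 21 0 1 0 8 0 1 8 0 0 10 1 7 1 0 1 21 9 0 11 1 0 1 3 21 21 21 21 0 1 21 21 0 0 21 1 7 10 10) (@D3.rec (fun _ => Nat) 0 0 12 1 9 9 0 0 1 0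 1 3 8 11 0 0 1 0 1 3 21 0 1 0 1 21 1 3 21 2 22 0 22 1 0 22 0 1 3 21 1 3 21 2 22 0 0 1 21 0 1) (@D3.rec (fun _ => Nat) 1 21 16 21 21 0 0 1 0 1 3 8 0 1 0 1 9 1 3 9 2 1 21 21 21 0 1 0 1 1 3 2 18 20 0 1 1 17 2 3 18 1 2 19 2 3 19 22 5 5 6) (@D3.rec (fun _ => Nat) 6 0 4 3 5 4 19 19 19 22 22 22 6 6 6 6 0 7 7 0 7 7 7 0 1 22 22 22 22 22 0 8 8 8 8 0 7 7 7 0 1 9 9 0 9 9 9 0 1 8 8) (@D3.rec (fun _ => Nat) 0 0 10 1 24 25 25 0 23 23 23 0 1 23 23 0 0 23 1 22 23 0 23 0 23 1 0 1 3 23 22 4 4 4 4 5 5 5 5 5 19 19 19 19 19 19 0 22 22 22 22) (@D3.rec (fun _ => Nat) 22 0 8 8 8 8 0 7 7 7 0 1 9 0 9 9 0 1 8 8 0 0 10 1 22 22 22 0 22 22 22 0 1 8 8 8 0 1 8 8 0 0 10 1 7 9 9 0 0 11 1) (@D3.rec (fun _ => Nat) 22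 9 0 9 0 11 1 0 1 3 11 22 23 0 23 0 23 1 0 1 3 23 22 23 0 23 1 0 23 0 1 3 23 22 1 3 22 2 3 22 22 0 0 22 1 7 9 0 9 0 11) (@D3.rec (fun _ => Nat) 1 0 1 3 11 8 10 0 12 1 0 12 0 1 3 12 22 1 3 22 2 3 0 1 3 25 22 1 3 22 2 3 18 22 2 3 3 22 4 0 18 22 4 4 5 106 22 6 6 18 6) (@D3.rec (fun _ => Nat) 6 6 5 5 7 7 7 7 7 7 6 6 0 19 19 19 19 19 19 0 19 19 19 0 1 22 22 22 0 22 22 22 0 1 0 8 8 0 1 8 8 0 0 10 1 7 1 9 0 0 1) (@D3.rec (fun _ => Nat) 22 9 0 9 0 11 1 0 1 3 11 22 22 22 22 0 1 22 22 0 0 22 1 7 10 10 0 0 12 1 9 9 0 9 0 11 1 0 1 3 11 8 11 0 11 0 13 1 0 1 3) (@D3.rec (fun _ => Nat) 13 22 10 0 1 0 12 0 1 3 22 1 3 22 2 3 23 0 23 1 0 23 0 1 3 22 1 3 22 2 23 0 0 1 22 0 1 1 22 17 22 22 0 22 0 22 1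 0 1 3 22) (@D3.rec (fun _ => Nat) 8 10 0 1 0 12 0 1 3 9 1 3 9 2 3 0 1 22 1 3 13 22 2 22 4 22 0 1 0 22 0 1 3 1 3 2 3 19 19 19 21 11 21 21 21 12 6 6 18 6 18) (@D3.rec (fun _ => Nat) 6 6 6 6 6 6 0 7 7 7 7 7 7 0 7 7 0 1 19 19 19 0 19 0 1 19 0 0 19 1 7 0 22 0 1 22 0 0 22 1 7 1 0 1 9 9 0 11 1 0 1) (@D3.rec (fun _ => Nat) 3 8 24 0 1 22 0 0 1 3 22 1 3 22 2 22 22 0 0 22 1 8 22 0 0 1 94 1 93 8 10 0 0 1 0 1 3 9 0 1 0 1 9 1 96 97 2 0 1 0 1) (@D3.rec (fun _ => Nat) 22 1 3 22 2 0 1 22 1 22 17 22 2 22 23 0 23 0 1 3 22 0 1 3 23 1 3 22 2 17 22 2 3 22 0 0 1 1 22 0 1 22 17 22 101 0 1 0 1 9 1) (@D3.rec (fun _ => Nat) 89 9 2 0 1 10 1 10 91 2 93 93 22 0 1 1 89 2 89 21 1 18 18 4 5 19 2 3 20 3 4 20 20 23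 23 6 6 0 7 7 7 0 1 4 4 5 5 5 20 20 20) (@D3.rec (fun _ => Nat) 20 0 23 23 23 23 0 8 8 0 7 7 7 0 1 9 9 0 1 8 8 0 0 10 1 25 23 23 23 23 0 23 23 23 0 1 8 8 0 8 8 8 0 1 8 8 0 0 10 1 7) (@D3.rec (fun _ => Nat) 9 9 9 0 1 9 9 0 0 11 1 25 9 0 9 0 11 1 0 1 3 11 23 26 26 24 0 1 24 24 0 0 24 1 23 24 0 24 0 24 1 0 1 3 24 23 24 0 24 1 0) (@D3.rec (fun _ => Nat) 24 0 1 3 24 23 1 3 23 2 3 19 6 6 6 5 5 7 7 7 7 6 6 0 20 20 20 20 20 0 20 20 20 0 1 23 23 23 23 0 23 23 23 0 1 8 0 8 8 0 1) (@D3.rec (fun _ => Nat) 8 8 0 0 10 1 7 9 0 1 9 0 0 11 1 23 9 0 9 0 11 1 0 1 3 11 23 23 23 23 0 1 23 23 0 0 23 1 7 10 10 0 0 12 1 9 9 0 9 0 11)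
def lv_g_2 : D2 → D3 → Nat := @D2.rec (fun _ => D3 → Nat) (@D3.rec (fun _ => Nat) 1 0 1 3 11 8 11 0 11 0 13 1 0 1 3 13 23 10 0 12 1 0 12 0 1 3 12 23 1 3 23 2 3 0 1 0 0 1 3 23 1 3 23 2 3 0 0 1 3 23 0) (@D3.rec (fun _ => Nat) 1 3 1 3 23 2 3 7 23 2 3 3 23 4 23 0 23 0 23 1 0 1 3 23 8 10 0 12 1 0 12 0 1 3 12 9 1 3 9 2 3 0 13 0 1 3 13 23 0 1 3) (@D3.rec (fun _ => Nat) 13 13 1 3 23 2 3 19 23 2 3 3 23 4 1 3 23 2 3 19 23 2 3 3 23 4 0 19 23 4 4 5 5 23 1 105 19 19 4 5 104 6 19 6 19 6 6 6 6 6 6) (@D3.rec (fun _ => Nat) 0 7 7 7 7 7 7 0 7 7 7 0 1 20 0 20 20 0 1 20 20 0 0 20 1 7 0 23 23 0 1 23 23 0 0 23 1 7 1 10 0 0 1 9 9 0 9 0 11 1 0) (@D3.rec (fun _ => Nat) 1 3 11 8 25 11 0 1 0 1 23 10 0 12 1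 0 12 0 1 3 12 23 1 3 23 2 3 23 23 0 0 25 1 8 23 0 23 0 23 1 103 1 101 23 8 10 0 10 0 12 1) (@D3.rec (fun _ => Nat) 0 1 3 12 9 10 0 1 0 12 0 1 3 9 1 102 95 2 3 11 0 1 0 13 0 1 3 23 1 3 23 2 3 0 0 1 23 0 1 3 13 1 3 23 2 18 23 2 3 23 4) (@D3.rec (fun _ => Nat) 0 0 1 3 23 0 1 3 1 3 23 2 18 23 2 3 23 0 0 1 1 23 0 1 23 18 23 101 23 0 1 0 23 0 1 3 9 1 91 9 2 3 0 0 1 10 0 1 3 13 1) (@D3.rec (fun _ => Nat) 3 10 2 93 2 95 3 95 4 1 23 23 2 3 14 23 23 0 0 1 0 1 3 23 1 3 2 91 2 91 3 4 20 20 22 22 12 22 22 22 0 8 19 19 8 8 19 19 8 8 8) (@D3.rec (fun _ => Nat) 0 7 7 90 1 9 9 9 0 9 0 1 88 90 88 88 1 7 20 0 1 0 1 9 20 90 20 1 92 1 92 92 1 0 1 8 23 95 23 1 92 1 93 8 9 0 1 91 0 94 1) (@D3.rec (fun _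 => Nat) 3 95 1 96 95 2 1 23 0 1 1 3 23 2 18 23 2 102 23 23 0 0 1 96 1 93 10 0 1 92 1 9 0 1 0 1 11 1 92 93 2 0 1 10 1 95 0 1 23 1 23) (@D3.rec (fun _ => Nat) 18 23 2 3 23 1 23 18 23 0 0 1 3 1 3 23 2 0 1 3 23 2 3 18 23 2 3 23 103 18 23 4 5 0 1 0 1 23 18 23 1 18 23 101 0 1 10 1 10 1 11) (@D3.rec (fun _ => Nat) 91 1 89 19 19 4 20 3 4 21 21 4 5 5 21 21 0 24 24 0 7 7 7 0 1 8 8 0 0 10 1 26 6 5 5 7 7 6 6 0 21 21 0 21 21 21 0 1 24 24 0) (@D3.rec (fun _ => Nat) 24 24 24 0 1 8 8 0 1 8 8 0 0 10 1 7 9 0 0 11 1 26 9 0 9 0 11 1 0 1 3 11 26 24 24 0 24 24 24 0 1 24 24 0 0 24 1 7 10 10 10) (@D3.rec (fun _ => Nat) 0 1 10 10 0 0 12 1 9 9 0 9 0 11 1 0 1 3 11 8 11 11 0 0 13 1 26 11 0 11 0 13 1 0 1 3 13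 24 10 0 12 1 0 12 0 1 3 12 24 1 3) (@D3.rec (fun _ => Nat) 24 2 3 0 0 1 24 0 0 1 0 1 3 24 0 1 0 0 1 3 24 1 3 24 2 3 0 0 1 3 24 0 1 3 1 3 24 2 3 7 24 2 3 3 24 4 20 6 6 6 6) (@D3.rec (fun _ => Nat) 6 6 0 7 7 7 7 7 0 7 7 7 0 1 21 21 21 0 21 21 0 1 21 21 0 0 23 1 7 24 0 24 24 0 1 24 24 0 0 26 1 7 10 0 1 10 0 0 12 1 9) (@D3.rec (fun _ => Nat) 9 0 9 0 11 1 0 1 3 11 8 0 13 1 26 11 0 13 1 0 1 3 13 24 10 0 12 1 0 12 0 1 3 12 24 1 3 24 2 3 24 24 0 0 26 1 8 24 0 24 0) (@D3.rec (fun _ => Nat) 24 1 0 1 3 24 8 10 0 10 0 12 1 0 1 3 12 9 10 0 12 1 0 12 0 1 3 12 9 1 3 9 2 3 11 0 13 1 0 13 0 1 3 13 24 1 3 24 2 3 11) (@D3.rec (fun _ => Nat) 0 13 0 1 3 13 24 0 1 3 13 13 1 3 24 2 3 8 24 2 3 3 24 4 0 1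 24 0 1 1 3 24 2 8 24 2 3 3 24 4 0 1 1 3 24 2 0 1 3 24 2) (@D3.rec (fun _ => Nat) 8 24 2 3 3 24 4 0 8 24 4 4 5 5 24 24 0 24 1 0 24 0 1 3 24 9 1 3 9 2 3 0 13 0 1 3 13 10 0 1 3 13 13 1 3 10 2 3 20 10 2) (@D3.rec (fun _ => Nat) 3 3 10 4 0 1 3 14 1 3 24 2 3 1 3 24 2 3 3 14 14 20 24 2 3 3 24 4 0 20 24 4 4 5 5 24 20 24 2 3 3 24 4 0 20 24 4 4 5 5 24) (@D3.rec (fun _ => Nat) 1 105 20 20 24 24 4 4 5 105 5 6 7 104 20 8 8 20 20 8 8 8 8 0 7 7 7 92 1 9 0 9 9 0 1 8 8 0 90 90 1 7 0 1 21 0 0 1 9 21 0) (@D3.rec (fun _ => Nat) 21 0 21 1 94 1 94 94 1 24 0 0 1 8 24 0 24 0 24 1 92 1 94 24 8 9 10 0 1 0 1 9 10 0 12 1 0 12 0 1 3 12 9 1 104 103 2 3 0 0 1) (@D3.rec (fun _ => Nat) 24 1 24 11 0 13 0 1 3 24 0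 1 3 13 1 3 24 2 3 19 24 2 100 3 24 4 24 0 24 0 24 1 95 1 3 24 10 24 0 1 0 24 93 1 91 9 95 12 0 1 0) (@D3.rec (fun _ => Nat) 14 0 1 3 11 1 3 95 2 3 0 0 1 10 0 1 3 13 1 97 103 2 98 4 0 0 1 24 0 1 3 1 3 24 2 19 24 2 3 3 24 4 0 1 1 24 0 1 3 24 2) (@D3.rec (fun _ => Nat) 3 14 19 24 2 24 4 24 0 1 1 3 24 2 0 1 3 24 2 19 24 2 3 24 101 19 24 4 5 0 1 0 1 24 19 24 1 3 19 24 99 0 0 1 10 0 1 3 24 1 89) (@D3.rec (fun _ => Nat) 10 2 89 4 0 1 1 11 0 1 3 11 2 3 14 96 2 93 93 4 92 95 24 24 4 5 0 0 1 1 0 1 3 2 3 24 89 2 91 4 90 21 23 23 23 0 23 23 23 23 1)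
def lv_g_3 : D2 → D3 → Nat := @D2.rec (fun _ => D3 → Nat) (@D3.rec (fun _ => Nat) 8 20 8 20 20 20 20 8 0 8 87 1 9 0 1 88 1 8 88 21 1 9 94 1 91 21 92 92 10 94 1 95 91 1 93 92 1 94 2 19 24 102 1 24 2 100 24 91 1 94 1) (@D3.rec (fun _ => Nat) 10 92 1 10 96 1 93 1 91 1 99 1 24 19 24 4 19 24 0 1 0 1 3 24 2 19 24 2 102 24 1 19 24 2 24 4 19 24 4 4 0 1 24 1 19 24 99 1 11 97 91) (@D3.rec (fun _ => Nat) 20 20 21 4 5 5 22 22 0 5 5 6 6 0 22 22 22 0 1 25 25 25 0 1 8 8 0 0 10 1 7 9 0 9 0 11 1 0 1 3 11 27 6 6 6 6 0 7 7 0 7) (@D3.rec (fun _ => Nat) 7 7 0 1 22 22 0 1 22 22 0 0 24 1 7 25 25 0 1 25 25 0 0 27 1 7 10 0 0 12 1 9 9 0 9 0 11 1 0 1 3 11 8 11 0 13 1 0 1 3 13) (@D3.rec (fun _ => Nat) 27 10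 0 12 1 0 12 0 1 3 12 27 1 3 25 2 3 25 25 25 0 1 25 25 0 0 27 1 8 25 0 25 0 25 1 0 1 3 25 8 10 10 0 0 12 1 9 10 0 10 0) (@D3.rec (fun _ => Nat) 12 1 0 1 3 12 9 10 0 12 1 0 12 0 1 3 12 9 1 3 9 2 3 11 0 11 0 13 1 0 1 3 13 27 11 0 13 1 0 13 0 1 3 13 25 1 3 25 2 3 11) (@D3.rec (fun _ => Nat) 0 13 0 1 3 13 25 0 1 3 13 13 1 3 25 2 3 8 25 2 3 3 27 4 1 0 1 25 1 0 1 25 1 3 25 2 0 1 25 0 1 1 3 25 2 8 25 2 3 3 25) (@D3.rec (fun _ => Nat) 4 0 1 1 3 25 2 0 1 3 25 2 8 25 2 3 3 25 4 0 8 25 4 4 5 5 25 21 8 8 8 8 8 0 7 7 7 0 1 9 9 9 0 9 9 0 1 8 8 0 0) (@D3.rec (fun _ => Nat) 8 1 7 22 0 22 0 1 22 0 0 22 1 9 22 0 22 0 24 1 0 1 3 24 8 25 0 1 25 0 0 27 1 8 25 0 25 0 27 1 0 1 3 25 8 0 12 1 9 10 0) (@D3.rec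 (fun _ => Nat) 12 1 0 1 3 12 9 10 0 12 1 0 12 0 1 3 12 9 1 3 9 2 3 0 1 3 13 25 0 13 0 1 3 13 25 1 3 25 2 3 11 0 13 0 1 3 13 25 0 1 3) (@D3.rec (fun _ => Nat) 13 13 1 3 25 2 3 9 25 2 3 3 27 4 25 0 25 0 25 1 0 1 3 25 10 25 0 25 1 0 25 0 1 3 25 9 1 3 9 2 3 12 0 14 1 0 14 0 1 3 14) (@D3.rec (fun _ => Nat) 11 1 3 11 2 3 11 0 13 0 1 3 13 10 0 1 3 13 13 1 3 10 2 3 9 10 2 3 3 10 4 13 0 15 0 1 3 15 25 0 1 3 15 15 1 3 25 2 3 10 25) (@D3.rec (fun _ => Nat) 2 3 3 27 4 0 0 1 3 14 1 3 25 2 3 0 1 3 25 2 3 3 14 14 9 25 2 3 3 25 4 0 9 25 4 4 5 5 25 1 25 0 1 25 9 25 2 3 25 0 9) (@D3.rec (fun _ => Nat) 25 4 4 5 5 25 0 1 25 9 25 2 3 25 1 3 9 25 2 3 25 0 9 25 4 4 5 5 25 1 3 9 9 25 25 4 4 5 5 5 0 25 0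 1 3 25 10 0 1 3 25) (@D3.rec (fun _ => Nat) 25 1 3 10 2 3 21 10 2 3 3 10 4 0 1 3 14 1 3 11 2 3 0 1 3 11 2 3 3 14 14 21 11 2 3 3 11 4 0 21 11 4 4 5 5 11 1 3 25 2 3) (@D3.rec (fun _ => Nat) 21 25 2 3 3 25 4 21 25 2 3 3 25 4 4 5 5 0 15 0 21 25 4 4 5 5 25 1 3 21 21 25 25 4 4 5 5 5 0 21 25 4 4 5 5 25 1 103 21 21 25) (@D3.rec (fun _ => Nat) 25 4 4 5 5 5 106 21 21 21 6 6 7 102 107 6 104 21 21 21 21 8 0 8 8 89 1 8 8 90 0 1 9 0 91 1 8 88 90 9 90 90 1 1 9 22 0 1 96 1 93) (@D3.rec (fun _ => Nat) 22 92 22 1 0 22 94 1 96 94 10 25 0 1 94 1 10 25 95 25 1 0 25 100 1 102 25 9 94 0 0 1 93 1 97 11 0 13 96 1 3 97 0 1 3 13 1 94 96 2 3) (@D3.rec (fun _ => Nat) 96 4 0 1 1 25 20 25 0 0 1 3 1 3 25 2 0 1 3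 25 2 3 14 20 25 2 100 3 25 4 4 102 25 25 0 1 0 25 95 1 92 10 90 2 91 0 94 1 10 94 1) (@D3.rec (fun _ => Nat) 99 25 0 0 1 11 0 1 3 1 98 99 2 2 92 98 97 4 0 1 1 97 0 1 102 99 2 3 14 0 1 1 25 0 1 3 25 2 20 25 2 3 25 20 25 4 4 100 25 0 1) (@D3.rec (fun _ => Nat) 25 20 25 1 3 20 25 2 3 25 4 5 0 0 1 25 20 25 2 3 25 1 3 20 25 2 3 25 101 20 25 4 5 103 20 25 4 5 0 1 25 1 3 20 25 99 20 25 2 3 101) (@D3.rec (fun _ => Nat) 0 1 1 11 0 1 91 11 2 3 25 0 1 12 95 1 3 95 2 3 95 4 5 0 94 96 25 4 0 1 0 1 89 1 3 91 2 3 4 5 0 90 90 24 24 24 24 24 0 1 24) (@D3.rec (fun _ => Nat) 24 24 27 21 10 21 21 21 21 21 0 1 11 1 10 22 11 22 0 1 25 1 20 25 2 25 20 25 25 0 1 20 25 21 22 5 5 6 6 0 23 23 23 0 1 6 6 0 7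 7 7) (@D3.rec (fun _ => Nat) 0 1 23 23 0 0 23 1 7 26 26 0 0 26 1 7 9 0 9 0 11 1 0 1 3 11 8 10 0 12 1 0 12 0 1 3 12 28 1 3 28 2 3 8 8 0 7 7 7 0 1) (@D3.rec (fun _ => Nat) 9 9 0 1 8 8 0 0 8 1 7 23 0 0 25 1 9 23 0 23 0 25 1 0 1 3 25 8 26 0 0 28 1 8 26 0 26 0 28 1 0 1 3 26 8 10 0 12 1 0 1) (@D3.rec (fun _ => Nat) 3 12 9 10 0 12 1 0 12 0 1 3 12 9 1 3 9 2 3 0 13 0 1 3 13 28 1 3 26 2 3 11 0 13 0 1 3 13 28 0 1 3 13 13 1 3 26 2 3 9 26) (@D3.rec (fun _ => Nat) 2 3 3 28 4 26 26 0 0 26 1 10 26 0 26 0 26 1 0 1 3 26 10 26 0 26 1 0 26 0 1 3 26 9 1 3 9 2 3 12 0 12 0 14 1 0 1 3 14 11 12)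
def lv_g_4 : D2 → D3 → Nat := @D2.rec (fun _ => D3 → Nat) (@D3.rec (fun _ => Nat) 0 14 1 0 14 0 1 3 14 11 1 3 11 2 3 11 0 13 0 1 3 13 10 0 1 3 13 13 1 3 10 2 3 9 10 2 3 3 10 4 13 0 15 1 0 15 0 1 3 15 26) (@D3.rec (fun _ => Nat) 1 3 26 2 3 13 0 15 0 1 3 15 26 0 1 3 15 15 1 3 26 2 3 10 26 2 3 3 28 4 0 14 0 1 3 14 14 1 3 26 2 3 0 1 3 26 2 3 3 14 14) (@D3.rec (fun _ => Nat) 9 26 2 3 3 26 4 0 9 26 4 4 5 5 26 26 1 26 26 1 26 20 26 2 3 26 1 26 0 1 26 9 26 2 3 26 0 9 26 4 4 5 5 26 0 1 26 9 26 2 3) (@D3.rec (fun _ => Nat) 26 1 3 9 26 2 3 26 0 9 26 4 4 5 5 26 1 3 9 9 26 26 4 4 5 5 5 22 8 8 8 95 8 8 91 1 8 8 91 93 8 1 93 97 89 93 1 9 0 93 93) (@D3.rec (fun _ => Nat) 1 8 9 0 9 0 9 1 0 1 3 94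 8 23 95 1 93 23 1 97 23 0 23 1 0 1 95 23 93 0 1 0 0 1 3 25 93 1 3 97 2 3 95 26 1 10 26 0 28 1 0) (@D3.rec (fun _ => Nat) 1 3 26 10 26 0 28 1 0 26 0 1 3 26 9 1 3 9 2 3 97 1 3 14 99 0 14 0 1 3 14 11 1 3 11 2 3 11 0 13 0 1 3 13 10 0 1 3 13 13 1) (@D3.rec (fun _ => Nat) 3 10 2 3 10 10 2 3 3 10 4 1 3 26 2 3 0 1 3 15 1 3 26 2 3 11 26 2 3 3 26 4 0 14 0 1 3 14 14 1 3 26 2 3 0 1 3 26 2 3 3) (@D3.rec (fun _ => Nat) 14 14 10 26 2 3 3 28 4 0 10 26 4 4 5 5 26 26 0 26 1 0 26 0 1 3 26 10 1 3 10 2 3 26 0 26 0 1 3 26 10 0 1 3 26 26 1 3 10 2 3) (@D3.rec (fun _ => Nat) 10 10 2 3 3 10 4 12 0 14 0 1 3 14 11 0 1 3 14 14 1 3 11 2 3 11 11 2 3 3 11 4 0 0 1 3 14 1 3 11 2 3 0 1 3 11 2 3 3 14 14) (@D3.rec (fun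 _ => Nat) 10 11 2 3 3 11 4 0 10 11 4 4 5 5 11 0 0 1 3 15 1 3 26 2 3 0 1 3 26 2 3 3 15 11 26 2 3 3 26 4 0 11 26 4 4 5 5 26 0 1 0) (@D3.rec (fun _ => Nat) 1 3 26 2 3 10 26 2 3 3 26 4 1 3 10 26 2 3 3 26 4 4 5 5 0 15 0 10 26 4 4 5 5 26 1 3 10 10 26 26 4 4 5 5 5 10 26 1 3 10 26) (@D3.rec (fun _ => Nat) 0 10 26 4 5 1 3 10 10 26 26 4 4 5 5 5 1 3 10 26 0 10 26 4 5 10 26 2 3 3 0 10 26 4 5 1 3 10 10 26 26 4 4 5 5 5 2 3 3 10 10) (@D3.rec (fun _ => Nat) 10 26 26 6 6 6 7 7 7 97 1 3 26 1 3 11 2 3 93 1 3 11 2 3 3 26 26 22 11 2 3 3 11 4 100 22 11 4 4 5 5 11 101 1 3 97 2 3 22 97 2) (@D3.rec (fun _ => Nat) 3 3 12 4 1 99 22 99 2 3 3 12 4 4 5 5 0 15 101 22 12 4 4 5 5 12 1 3 22 22 12 12 4 4 5 5 5 22 26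 2 3 3 26 4 95 22 26 4 4 5 5) (@D3.rec (fun _ => Nat) 26 95 22 26 4 4 5 5 5 26 26 4 4 0 5 1 2 1 3 22 22 26 26 4 4 5 5 5 2 106 3 22 22 22 26 26 6 6 6 7 7 107 1 105 22 22 26 26 4 4 5) (@D3.rec (fun _ => Nat) 5 5 103 22 22 22 26 26 6 6 6 7 102 7 6 104 104 22 22 22 91 1 10 89 9 1 10 90 90 1 90 90 90 90 99 94 96 1 91 92 92 95 94 1 95 0 96 1 26 97 26) (@D3.rec (fun _ => Nat) 93 98 1 95 26 96 0 1 1 95 0 100 1 3 96 2 0 1 100 101 2 3 14 100 4 0 1 26 21 26 0 1 0 1 3 26 2 2 98 26 1 3 21 26 2 3 26 4 5 0 4) (@D3.rec (fun _ => Nat) 100 100 26 0 93 1 12 97 1 94 92 1 99 99 26 0 1 1 97 0 1 98 99 2 0 1 101 1 3 100 4 5 0 0 1 26 21 26 1 3 21 26 2 3 26 4 5 1 3 21 26) (@D3.rec (fun _ => Nat) 21 26 2 3 3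 4 5 26 4 0 1 1 3 21 26 21 26 4 5 21 26 2 3 3 108 21 26 4 5 4 109 21 26 6 0 1 3 21 26 21 26 2 3 107 21 104 23 26 4 91 1) (@D3.rec (fun _ => Nat) 12 1 91 91 4 5 0 1 93 94 95 2 3 3 4 94 5 102 4 0 1 26 0 1 28 1 89 91 93 2 3 3 4 91 5 4 92 1 25 25 25 25 0 1 94 22 22 10 22 22 93) (@D3.rec (fun _ => Nat) 1 11 10 0 106 1 21 26 1 22 23 23 6 6 92 94 92 96 98 1 98 98 1 96 7 7 7 90 1 92 91 90 94 90 1 7 96 94 1 100 1 94 92 27 92 27 96 27 1 94 1) (@D3.rec (fun _ => Nat) 3 27 8 10 100 12 1 98 12 98 1 3 12 100 1 3 96 2 3 101 100 13 94 1 3 13 29 96 1 3 13 13 1 3 29 2 3 21 29 2 3 3 27 4 8 8 0 1 8 8 90) (@D3.rec (fun _ => Nat) 94 8 1 22 9 0 0 9 1 8 9 90 9 0 9 1 0 1 92 92 8 24 0 26 1 0 1 3 26 9 0 1 0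 0 1 3 92 1 3 94 2 98 27 0 29 1 0 1 3 27 10) (@D3.rec (fun _ => Nat) 27 0 29 1 0 27 0 1 3 27 9 1 3 9 2 3 0 14 0 1 3 14 11 1 3 11 2 3 11 0 13 0 1 3 13 98 0 1 3 13 13 1 3 10 2 3 10 10 2 3 3) (@D3.rec (fun _ => Nat) 10 4 0 1 3 15 15 1 3 27 2 3 11 27 2 3 3 29 4 0 14 0 1 3 14 14 1 3 27 2 3 0 1 3 27 2 3 3 14 14 10 27 2 3 3 29 4 0 10 27 4) (@D3.rec (fun _ => Nat) 4 5 5 27 27 0 27 0 27 1 0 1 3 27 10 27 0 27 1 0 27 0 1 3 27 10 1 3 10 2 3 27 0 27 0 1 3 27 10 0 1 3 27 27 1 3 10 2 3 10 10) (@D3.rec (fun _ => Nat) 2 3 3 10 4 12 0 14 1 0 14 0 1 3 14 11 1 3 11 2 3 12 0 14 0 1 3 14 11 0 1 3 14 14 1 3 11 2 3 11 11 2 3 3 11 4 0 14 0 1 3)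
def lv_g_5 : D2 → D3 → Nat := @D2.rec (fun _ => D3 → Nat) (@D3.rec (fun _ => Nat) 14 14 1 3 11 2 3 0 1 3 11 2 3 3 14 14 10 11 2 3 3 11 4 0 10 11 4 4 5 5 11 13 0 15 1 3 15 27 0 1 3 15 15 1 3 27 2 3 21 27 2) (@D3.rec (fun _ => Nat) 3 3 27 4 0 15 0 1 3 15 15 1 3 27 2 3 0 1 3 27 2 3 3 15 15 11 27 2 3 3 27 4 0 11 27 4 4 5 5 27 0 1 3 15 0 1 3 27 2 3 3) (@D3.rec (fun _ => Nat) 15 10 27 2 3 3 27 4 1 3 10 27 2 3 3 27 4 4 5 5 0 15 15 0 10 27 4 4 5 5 27 1 3 10 10 27 27 4 4 5 5 5 21 27 21 27 108 21 27 4 5) (@D3.rec (fun _ => Nat) 10 27 1 3 10 27 0 10 27 4 5 1 3 10 10 27 27 4 4 5 5 5 1 3 10 27 0 10 27 4 5 10 27 2 3 3 0 10 27 4 5 1 3 10 10 27 27 4 4 5 5) (@D3.rec (fun _ => Nat) 5 2 3 3 10 10 10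 27 27 6 6 6 7 7 7 10 89 9 91 9 91 9 93 93 11 91 91 1 93 95 93 1 92 0 1 3 92 1 3 2 95 24 0 24 0 1 93 24 93 1 101) (@D3.rec (fun _ => Nat) 95 0 1 95 0 1 1 3 95 2 3 11 99 2 3 3 99 4 95 27 0 27 0 1 3 27 10 1 95 10 2 3 27 0 27 0 1 3 27 10 0 1 3 27 27 1 3 10 2 3 11) (@D3.rec (fun _ => Nat) 10 2 3 3 10 4 97 2 3 0 1 3 14 1 3 11 2 3 12 93 2 101 3 95 4 0 14 0 1 3 14 14 1 3 11 2 3 0 1 3 101 2 3 3 14 14 11 11 2 3 3) (@D3.rec (fun _ => Nat) 11 4 0 11 11 4 4 5 5 11 2 3 3 27 4 0 1 3 27 2 3 12 27 2 3 3 27 4 0 12 27 4 4 5 5 27 0 1 3 15 0 1 3 27 2 3 3 15 11 27 2) (@D3.rec (fun _ => Nat) 3 3 29 4 1 3 11 27 2 3 3 27 4 4 5 5 0 15 0 11 27 4 4 5 5 27 1 3 11 11 27 27 4 4 5 5 5 27 0 27 0 1 3 27 12 0 1 3 27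 27 1) (@D3.rec (fun _ => Nat) 3 12 2 3 12 12 2 101 3 12 4 0 0 1 3 27 1 3 11 2 3 0 1 3 11 2 3 3 27 27 11 11 2 3 3 11 4 0 11 11 4 4 5 5 11 0 0 1 3 16 1) (@D3.rec (fun _ => Nat) 3 13 2 3 0 1 3 13 2 3 3 16 12 13 2 3 3 13 4 0 12 103 4 4 103 5 13 0 1 0 1 3 12 2 3 11 12 2 3 3 12 4 1 3 11 12 2 3 3 12 4) (@D3.rec (fun _ => Nat) 4 5 5 0 15 0 11 12 4 4 5 5 12 1 3 11 11 12 12 4 4 5 5 5 0 1 1 3 27 2 3 12 27 2 3 27 4 1 3 12 27 2 3 3 27 4 4 5 5 0 12) (@D3.rec (fun _ => Nat) 27 4 4 5 5 27 1 3 12 12 27 27 4 4 5 5 5 0 1 27 1 3 11 27 2 3 3 27 4 0 11 27 4 4 5 5 27 11 27 2 3 3 0 11 27 4 4 5 5 5 27) (@D3.rec (fun _ => Nat) 27 4 4 0 5 1 2 1 3 11 11 27 27 4 4 5 5 5 2 3 3 11 11 11 27 27 6 6 6 7 7 7 0 11 27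 2 3 0 1 3 11 27 4 5 2 3 3 11 11 11 27) (@D3.rec (fun _ => Nat) 27 6 6 6 7 7 7 11 27 2 3 0 1 3 11 27 4 5 11 0 11 27 4 4 5 5 1 3 11 27 4 5 2 3 3 11 11 11 27 27 6 6 6 7 7 7 4 4 107 106 106) (@D3.rec (fun _ => Nat) 11 11 27 29 6 6 6 7 7 7 97 2 3 2 3 3 12 4 2 97 3 12 4 4 5 5 0 27 23 12 4 4 5 5 12 100 23 23 12 12 4 4 5 5 5 2 99 3 99 4 23) (@D3.rec (fun _ => Nat) 99 4 4 5 5 13 97 95 23 101 4 4 5 5 5 13 13 4 4 0 5 1 2 101 23 23 13 13 4 4 5 5 5 2 103 3 23 23 23 13 13 6 6 6 7 7 7 23 27 4 4) (@D3.rec (fun _ => Nat) 5 5 27 95 23 23 27 27 4 4 5 5 5 93 23 23 27 27 4 4 4 5 5 5 0 5 5 27 27 0 6 1 2 29 2 2 105 3 23 23 23 27 27 6 6 6 7 7 7 4 108) (@D3.rec (fun _ => Nat) 23 23 23 23 27 6 6 7 104 103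 23 23 23 27 27 6 6 6 7 7 7 101 23 23 23 6 6 102 104 7 106 23 101 96 1 96 93 98 100 27 98 1 101 98 1 100 102 2 1 102 4) (@D3.rec (fun _ => Nat) 104 0 1 3 22 27 0 1 27 1 3 2 3 27 108 22 27 2 3 3 4 103 5 27 4 0 1 109 93 1 99 94 96 99 0 100 1 99 1 3 98 1 3 2 100 3 102 4 0 1 1) (@D3.rec (fun _ => Nat) 3 22 27 22 27 2 3 3 4 5 4 22 27 2 3 22 24 27 4 4 5 5 4 0 27 0 1 27 22 27 2 3 4 22 110 24 27 4 4 5 5 22 27 4 101 1 3 22 27 2 3) (@D3.rec (fun _ => Nat) 107 22 102 24 27 4 113 24 104 24 27 91 91 97 4 0 1 93 4 4 96 5 5 4 96 0 93 0 1 98 0 1 29 91 4 4 93 5 5 4 92 0 1 23 23 23 12 23 23 32 1) (@D3.rec (fun _ => Nat) 23 28 28 98 28 96 2 3 13 100 13 98 13 13 98 2 3 2 96 3 98 4 101 102 14 14 94 2 3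 94 2 3 3 14 14 2 3 3 28 4 22 28 4 4 5 5 28 10 90 94 10) (@D3.rec (fun _ => Nat) 1 23 9 9 90 9 11 0 11 1 0 1 95 94 10 92 0 0 1 91 1 94 0 0 1 3 94 1 3 96 2 98 0 1 0 1 1 3 94 2 11 102 2 94 98 0 28 0 1 3 28) (@D3.rec (fun _ => Nat) 10 1 3 10 2 3 28 0 28 0 1 96 28 0 1 3 28 28 1 3 10 2 3 11 10 2 96 3 10 4 0 1 3 14 14 1 3 11 2 3 12 11 2 3 3 11 4 0 14 0 1) (@D3.rec (fun _ => Nat) 3 14 14 1 3 98 2 3 0 1 3 11 2 3 3 14 14 11 11 2 3 3 100 4 0 11 102 4 4 102 5 11 0 1 3 28 2 3 3 15 12 28 2 3 3 30 4 0 12 28 4) (@D3.rec (fun _ => Nat) 4 5 5 28 0 1 3 15 15 0 1 3 28 2 3 3 15 15 11 28 2 3 3 30 4 1 3 11 28 2 3 3 28 4 4 5 5 0 15 15 0 11 28 4 4 5 5 28 1 3 11)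
def lv_g_6 : D2 → D3 → Nat := @D2.rec (fun _ => D3 → Nat) (@D3.rec (fun _ => Nat) 11 28 28 4 4 5 5 5 28 0 28 1 100 28 100 1 3 28 12 1 3 12 2 3 28 0 28 0 1 3 28 12 0 1 3 28 28 1 3 12 2 3 12 12 2 3 3 12 4 0 28) (@D3.rec (fun _ => Nat) 0 1 3 28 28 1 3 11 2 3 0 1 3 11 2 3 3 28 28 11 11 2 3 3 11 4 0 11 11 4 4 100 5 11 14 0 16 0 1 3 16 13 97 1 3 16 16 1 3 13 2) (@D3.rec (fun _ => Nat) 3 22 13 2 3 3 13 4 0 16 0 1 3 16 16 1 3 13 2 3 0 1 3 13 2 3 3 16 16 12 13 2 3 3 13 4 0 12 13 4 4 5 5 13 0 1 3 15 0 1 3) (@D3.rec (fun _ => Nat) 12 2 3 3 15 11 12 2 3 3 12 4 1 3 11 12 2 3 3 12 4 4 5 5 0 15 15 0 11 12 4 4 5 5 12 1 3 11 11 104 12 4 4 5 5 5 99 17 1 3 17) (@D3.rec (fun _ => Nat) 17 28 2 3 1 3 28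 2 3 3 17 17 22 28 2 3 28 4 100 22 28 4 4 5 5 28 0 1 3 17 1 3 28 2 3 3 17 12 28 2 3 28 4 1 3 12 28 2 3 3 28) (@D3.rec (fun _ => Nat) 4 4 5 5 0 17 17 0 12 28 4 4 5 5 28 1 3 12 12 28 28 4 4 5 5 5 0 1 3 28 2 3 1 3 11 28 2 3 3 28 4 4 5 5 16 0 11 28 4 4 5) (@D3.rec (fun _ => Nat) 5 28 11 28 2 3 3 0 11 28 4 4 5 5 5 28 28 4 4 0 5 5 1 2 16 1 3 11 11 28 28 4 4 5 5 5 2 3 3 11 11 11 28 28 6 6 6 7 7 7 22) (@D3.rec (fun _ => Nat) 28 4 103 0 11 28 2 3 0 1 3 11 28 4 5 2 3 3 11 11 11 28 28 6 6 6 114 7 7 11 28 2 3 0 1 3 11 28 4 5 11 0 11 28 4 4 5 5 1 3 11) (@D3.rec (fun _ => Nat) 28 4 5 2 3 3 11 11 11 28 28 6 6 6 7 7 7 4 4 5 5 5 11 105 105 108 11 28 28 28 6 6 6 7 7 7 10 92 93 92 94 95 91 98 96 1 3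 2 94 94 2) (@D3.rec (fun _ => Nat) 94 0 1 95 1 101 95 13 97 1 102 1 12 95 2 3 3 95 4 0 12 99 4 4 5 5 97 0 1 3 28 1 99 12 2 3 95 4 98 28 97 1 3 28 28 1 3 11 2 3 98) (@D3.rec (fun _ => Nat) 1 3 2 95 3 28 28 12 11 2 3 3 11 4 102 11 4 4 100 5 11 99 4 0 1 3 99 2 3 13 95 2 101 3 101 4 95 13 4 103 99 0 1 3 15 100 1 3 97 2 3) (@D3.rec (fun _ => Nat) 3 15 12 98 2 3 3 12 4 1 3 12 101 2 3 3 99 4 4 5 5 0 15 0 12 12 4 4 5 5 12 1 3 12 12 12 99 4 4 5 5 5 4 4 5 5 28 1 3 13 28) (@D3.rec (fun _ => Nat) 2 3 3 28 4 0 13 28 4 4 5 5 28 1 97 13 13 28 28 4 4 5 5 5 0 1 3 28 2 3 1 3 12 28 2 3 3 28 4 4 5 5 0 12 28 4 4 5 5 28 12) (@D3.rec (fun _ => Nat) 28 2 3 3 0 12 28 4 4 5 5 5 28 28 4 4 0 5 1 2 1 3 12 12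 28 28 4 4 5 5 5 2 3 3 12 12 12 28 28 6 6 6 7 7 7 93 0 1 3 28 1) (@D3.rec (fun _ => Nat) 3 12 2 3 97 1 3 12 2 3 3 28 13 12 2 99 3 12 4 4 101 12 94 1 94 1 3 12 2 3 12 12 2 3 3 12 4 1 99 12 12 2 3 3 12 4 4 105 5 0 28) (@D3.rec (fun _ => Nat) 0 12 12 4 4 5 5 12 1 3 104 12 12 12 4 4 5 5 5 0 1 0 1 3 97 2 3 13 13 2 3 3 13 4 1 3 13 99 2 3 3 13 4 4 5 5 0 13 101 4 4) (@D3.rec (fun _ => Nat) 5 5 13 1 103 13 13 103 4 103 105 5 98 1 101 1 3 12 13 2 3 3 13 4 0 12 13 4 4 5 5 13 12 103 2 3 3 0 12 13 4 4 5 5 5 101 13 4 4 0 5) (@D3.rec (fun _ => Nat) 1 2 1 3 12 12 13 13 4 4 5 5 5 2 3 3 12 12 12 13 13 6 6 6 7 7 7 1 28 13 28 2 3 3 28 4 0 13 28 4 28 13 28 2 3 3 0 13 28 4 4) (@D3.rec (fun _ => Nat) 5 5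 5 28 28 4 4 5 1 3 13 13 28 28 4 4 5 5 2 3 3 13 13 13 28 28 6 6 6 7 7 7 1 3 12 28 12 28 2 3 3 0 12 28 4 4 5 5 28 1 3) (@D3.rec (fun _ => Nat) 12 12 28 28 4 4 5 5 12 0 12 28 4 4 5 5 5 1 3 12 12 28 28 4 4 4 5 5 5 0 5 5 28 28 0 6 1 2 28 2 2 3 3 12 12 12 28 28 6 6 6) (@D3.rec (fun _ => Nat) 7 7 7 4 4 112 106 5 12 12 12 12 12 28 28 28 6 6 6 7 7 7 1 12 0 12 28 4 1 2 3 12 12 28 6 7 4 4 5 5 5 12 101 99 103 12 28 28 30 6 6) (@D3.rec (fun _ => Nat) 6 7 7 7 12 106 12 28 4 1 2 3 12 12 28 6 7 111 12 1 3 12 12 28 28 4 4 5 5 2 3 12 12 28 6 7 4 4 5 103 102 12 12 12 12 12 28 28 28 6 6) (@D3.rec (fun _ => Nat) 6 7 7 7 12 28 8 8 8 9 9 104 99 4 4 4 95 5 13 4 95 99 97 13 13 4 4 0 5 1 96 24 24 13 13 4 4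 5 5 5 104 103 24 24 24 13 13 6 6 6 7) (@D3.rec (fun _ => Nat) 7 7 4 99 101 99 24 24 97 99 4 4 99 5 5 97 99 99 24 101 4 4 4 5 5 5 0 5 5 99 14 0 6 1 2 14 2 103 103 24 24 24 97 14 6 6 6 7 7 7 4) (@D3.rec (fun _ => Nat) 105 105 24 24 24 24 24 14 14 14 6 6 6 7 7 7 24 24 28 28 4 4 5 5 5 105 105 24 24 24 28 28 6 6 6 7 7 7 95 105 24 24 24 28 28 28 6 6 6 0 6) (@D3.rec (fun _ => Nat) 6 7 7 7 0 7 7 1 2 7 0 28 1 2 30 2 30 4 103 103 24 24 24 24 24 28 28 28 6 6 6 7 102 7 24 28 8 104 103 24 24 24 28 28 6 6 6 102 7 7 24) (@D3.rec (fun _ => Nat) 8 104 102 9 24 0 98 100 102 0 1 23 28 2 3 109 1 3 2 3 3 4 23 25 28 4 4 105 5 5 4 28 0 1 28 94 94 96 0 1 100 2 98 3 2 3 4 104 100 0 0)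
def lv_g_7 : D2 → D3 → Nat := @D2.rec (fun _ => D3 → Nat) (@D3.rec (fun _ => Nat) 1 102 23 28 2 3 23 25 28 4 4 5 5 4 23 25 28 4 25 25 28 4 4 0 5 0 1 0 1 28 23 23 28 4 100 25 110 23 25 28 28 4 4 101 5 2 3 25 28 4 25) (@D3.rec (fun _ => Nat) 104 25 28 104 25 25 106 97 93 94 0 1 4 4 96 0 5 0 1 0 1 100 1 7 4 4 95 1 29 29 29 98 96 4 14 14 102 98 100 14 14 102 100 4 4 102 98 103 104 102 102) (@D3.rec (fun _ => Nat) 15 15 94 104 4 106 4 4 5 5 0 15 15 4 4 5 5 29 23 23 29 29 4 4 5 5 5 10 92 10 94 94 0 1 93 1 95 98 0 1 1 94 0 1 1 3 94 2 13 96 2) (@D3.rec (fun _ => Nat) 3 100 1 0 1 94 12 100 2 94 102 12 0 1 3 29 29 1 3 12 2 3 95 12 2 101 3 12 4 0 29 0 1 96 29 29 1 98 98 0 1 3 11 2 96 3 29 29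 12 11 2) (@D3.rec (fun _ => Nat) 100 3 4 4 96 11 0 1 3 13 2 3 3 16 13 13 2 3 3 13 4 0 13 13 4 4 5 5 13 0 1 3 15 15 0 1 3 96 2 96 3 15 15 12 98 2 100 3 4 1 3) (@D3.rec (fun _ => Nat) 12 12 2 3 3 98 4 4 5 5 0 15 15 0 12 100 4 4 5 5 100 1 102 12 12 102 4 102 102 100 1 3 13 29 2 3 3 29 4 4 5 5 17 0 13 29 4 4 5 5 29) (@D3.rec (fun _ => Nat) 1 3 13 13 29 29 4 4 5 5 5 0 1 3 29 2 3 3 16 16 1 3 12 29 2 3 3 29 4 4 5 5 0 16 16 0 12 29 4 4 5 5 29 12 29 2 3 3 0 12 29) (@D3.rec (fun _ => Nat) 4 4 5 5 5 29 29 4 4 0 5 5 1 2 16 1 3 12 12 29 29 4 4 5 5 5 2 104 3 12 12 12 29 29 6 6 6 7 7 7 29 100 29 101 1 3 29 12 102 29 29) (@D3.rec (fun _ => Nat) 101 12 2 3 12 2 3 3 12 4 0 29 0 1 3 29 29 1 3 12 2 3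 0 1 3 12 2 3 3 29 29 13 12 2 3 3 12 4 0 99 12 4 4 105 5 12 0 1 3 29 0) (@D3.rec (fun _ => Nat) 1 3 12 2 3 3 29 12 12 2 3 3 12 4 1 3 12 12 2 3 3 12 4 4 5 5 0 29 31 0 12 12 4 4 5 5 12 1 12 12 4 100 102 5 16 1 3 16 16 1 3) (@D3.rec (fun _ => Nat) 96 2 3 97 2 3 3 16 16 23 2 3 3 13 4 100 23 13 4 4 5 5 13 0 1 3 16 0 1 3 13 2 3 3 16 13 13 2 3 3 13 4 1 3 13 13 2 3 3 13 4) (@D3.rec (fun _ => Nat) 4 5 5 0 16 16 0 13 13 4 4 5 5 13 1 3 13 13 13 13 4 4 5 5 5 0 1 3 13 2 3 1 3 12 13 2 3 3 13 4 4 5 5 16 0 12 13 4 4 5 5) (@D3.rec (fun _ => Nat) 13 12 13 2 3 3 0 12 13 4 4 5 5 5 98 13 4 4 0 5 5 1 2 16 1 3 12 12 102 13 4 4 5 5 5 2 104 3 12 12 12 104 6 6 6 7 7 7 101 17 17) (@D3.rec (fun _ => Nat) 2 3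 3 17 29 4 2 109 3 29 4 4 5 5 0 17 17 23 29 4 29 102 23 23 29 29 4 4 103 5 1 3 29 2 3 13 29 2 3 3 29 4 4 5 5 17 0 13 29 4 29) (@D3.rec (fun _ => Nat) 13 29 2 3 3 0 13 29 4 4 5 5 5 29 29 4 4 0 5 5 1 2 17 1 3 13 13 29 29 4 4 5 5 2 3 3 13 13 13 29 29 6 6 6 105 7 7 1 3 12 29) (@D3.rec (fun _ => Nat) 2 3 3 29 4 12 29 2 3 3 0 12 29 4 4 5 5 5 29 29 4 4 5 5 1 3 12 12 29 29 4 4 5 5 12 0 12 29 4 4 5 5 5 1 3 12 12 29 29 4 4) (@D3.rec (fun _ => Nat) 4 5 5 5 0 5 5 29 29 0 6 6 1 2 7 29 2 3 2 3 3 12 12 12 29 29 6 6 6 7 7 7 4 4 5 5 5 12 12 12 12 12 29 29 31 6 6 6 7 7 7) (@D3.rec (fun _ => Nat) 23 1 12 0 12 29 4 1 2 3 12 12 29 6 4 4 102 100 102 12 12 29 6 6 101 7 7 12 0 12 29 4 1 2 3 12 12 29 6 7 0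 12 1 3 12 12 29 29 4 4 5) (@D3.rec (fun _ => Nat) 5 2 3 12 12 29 6 7 4 4 5 5 5 12 12 12 12 12 29 29 29 6 6 6 7 7 7 4 4 4 103 109 12 103 102 105 113 29 29 29 8 8 8 9 9 9 97 98 2 96 99) (@D3.rec (fun _ => Nat) 1 95 14 95 13 13 0 13 97 4 4 5 1 96 94 102 4 4 5 100 98 1 103 2 3 97 4 97 95 29 99 2 95 3 29 13 2 3 3 12 4 104 13 2 3 3 4 100 97 0 29) (@D3.rec (fun _ => Nat) 100 12 4 4 5 5 12 102 12 4 98 100 1 3 14 101 2 3 3 101 4 95 14 4 99 101 99 14 101 98 1 3 2 3 13 2 3 3 99 4 4 5 5 0 13 102 4 4 5 13 13) (@D3.rec (fun _ => Nat) 2 3 3 0 13 105 4 4 5 5 5 101 4 4 0 5 1 2 1 3 13 13 13 101 4 4 5 5 5 2 98 3 104 96 13 100 102 6 6 6 7 7 7 4 4 5 5 5 14 29 2) (@D3.rec (fun _ => Nat) 3 3 0 14 29 4 4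 5 5 29 1 97 14 14 29 29 4 4 5 5 5 97 14 14 29 29 6 6 6 7 7 7 1 3 13 29 2 3 3 29 4 13 29 2 3 3 0 13 29 4 4) (@D3.rec (fun _ => Nat) 5 5 5 29 29 4 4 5 1 3 13 13 29 29 4 4 5 5 5 13 0 13 29 4 4 5 5 5 1 3 13 13 29 29 4 4 4 5 5 5 0 5 5 29 29 0 6 1 2 29 2) (@D3.rec (fun _ => Nat) 2 3 3 13 13 13 29 29 6 6 6 7 7 7 4 4 103 98 5 13 13 13 13 13 29 29 31 6 6 6 7 7 7 95 95 1 3 2 3 14 14 2 99 3 14 4 96 14 2 3 3) (@D3.rec (fun _ => Nat) 14 4 4 96 5 4 105 101 14 107 96 13 13 2 3 3 13 4 0 13 13 4 4 97 5 13 13 98 101 0 13 13 4 4 5 100 5 13 4 0 105 1 2 1 3 104 13 13 13 4 4) (@D3.rec (fun _ => Nat) 5 5 5 2 104 105 106 13 13 6 6 6 7 7 7 1 1 3 14 97 2 3 3 99 4 0 14 99 4 4 5 5 15 14 2 3 3 0 14 99 4 4 5 5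 5 99 15 4 4 5 1)
def lv_g_8 : D2 → D3 → Nat := @D2.rec (fun _ => D3 → Nat) (@D3.rec (fun _ => Nat) 103 14 14 101 4 4 103 5 5 105 14 14 6 101 103 107 100 13 13 2 3 3 0 13 14 4 4 5 5 14 1 3 13 13 99 14 4 4 99 5 5 13 0 13 4 4 5 104 5 1 3) (@D3.rec (fun _ => Nat) 13 13 105 14 4 4 4 5 5 5 0 5 5 103 0 6 1 2 14 2 2 3 3 13 13 13 97 14 6 6 6 7 7 7 4 4 102 106 5 13 13 13 13 13 14 14 105 6 6 6 7) (@D3.rec (fun _ => Nat) 7 7 14 29 0 14 29 4 4 5 29 1 3 14 29 14 0 14 29 4 4 5 5 1 3 14 14 29 29 4 4 4 5 5 5 5 5 29 29 69 6 2 3 3 14 14 14 29 29 6 6) (@D3.rec (fun _ => Nat) 7 7 4 4 105 105 5 14 14 14 14 14 29 29 29 6 6 6 7 7 7 13 29 2 3 0 13 0 13 29 4 4 5 1 3 13 13 29 29 4 4 5 5 5 2 3 3 13 13 13 29)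 (@D3.rec (fun _ => Nat) 29 6 6 7 7 0 13 1 3 13 13 29 29 4 4 4 5 5 5 0 5 5 2 3 3 13 13 13 29 29 29 6 6 6 0 6 6 7 7 7 0 7 7 1 2 7 0 29 1 2 29) (@D3.rec (fun _ => Nat) 2 29 4 4 5 105 5 13 13 13 13 13 29 29 29 6 6 6 7 7 7 4 104 103 108 110 13 13 13 13 29 29 8 8 8 9 9 104 0 13 1 3 13 29 4 5 5 13 13 29 6) (@D3.rec (fun _ => Nat) 4 4 4 107 110 109 101 99 105 29 29 29 8 8 8 9 9 104 13 108 13 29 4 5 103 13 13 29 6 106 13 13 2 3 3 13 13 13 31 29 6 6 7 7 4 5 102 13 13 29 6) (@D3.rec (fun _ => Nat) 4 100 101 102 13 13 13 29 29 8 8 8 9 9 9 8 8 4 97 5 95 97 95 99 99 97 14 6 1 98 14 25 25 14 6 6 6 95 7 7 104 104 105 25 25 25 25 25 14 14 14) (@D3.rec (fun _ => Nat) 6 6 6 7 7 7 99 99 25 25 99 6 6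 97 99 7 95 97 101 0 99 6 6 6 0 6 6 97 7 7 0 7 101 1 2 7 99 101 1 2 17 2 103 25 25 25 25 25 95 97 15) (@D3.rec (fun _ => Nat) 6 6 6 7 7 7 103 105 103 25 25 25 25 25 25 97 15 15 8 8 8 9 9 9 25 25 29 29 6 6 6 7 7 7 105 105 25 25 25 25 25 29 29 29 6 6 6 7 7 7 101) (@D3.rec (fun _ => Nat) 103 25 25 25 0 25 25 29 29 29 103 29 29 6 6 6 0 6 6 1 2 6 7 7 0 7 7 1 2 7 7 31 2 3 1 2 7 2 31 103 25 25 25 25 25 37 8 8 104 102 9) (@D3.rec (fun _ => Nat) 101 25 25 25 25 8 8 104 9 9 27 8 25 1 100 102 1 100 26 29 4 2 3 4 4 5 26 26 29 4 4 105 5 1 29 96 96 1 102 4 100 4 0 104 1 1 102 24 29 4 26) (@D3.rec (fun _ => Nat) 26 29 4 4 5 26 26 29 26 26 0 6 1 2 1 29 1 7 24 24 29 108 26 26 106 24 29 6 103 4 26 29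 26 26 104 109 106 26 26 95 93 1 0 6 101 1 1 1 7 6 30) (@D3.rec (fun _ => Nat) 30 15 15 98 98 0 15 15 100 105 105 104 104 0 16 16 104 4 4 0 5 5 1 2 16 4 4 5 5 5 24 24 30 30 6 6 6 7 7 7 96 1 97 1 0 1 14 96 2 3 95) (@D3.rec (fun _ => Nat) 103 4 103 13 1 13 96 102 13 0 1 3 12 2 3 3 30 95 12 2 101 3 12 4 12 4 103 12 0 1 94 30 30 100 1 96 96 30 30 13 100 1 3 13 12 2 3 3 4 96 96) (@D3.rec (fun _ => Nat) 0 30 30 4 104 96 1 3 14 13 2 3 3 13 4 4 5 5 16 0 14 13 4 4 5 5 100 1 97 103 14 101 102 4 4 5 5 103 0 1 3 96 2 96 3 16 16 1 13 98 2) (@D3.rec (fun _ => Nat) 3 3 4 98 98 0 16 16 0 13 4 100 13 13 2 3 3 0 13 100 4 4 5 5 5 100 4 4 0 5 5 1 2 16 1 102 13 13 102 4 4 100 5 100 104 13 100 102 14 30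 2) (@D3.rec (fun _ => Nat) 3 3 0 14 30 4 4 5 5 5 30 30 4 4 5 5 1 3 14 14 30 30 4 4 5 5 5 2 99 3 14 109 14 30 30 6 6 6 108 7 7 1 3 13 30 2 3 3 30 4 4) (@D3.rec (fun _ => Nat) 104 5 5 17 17 13 30 2 3 3 0 13 30 4 4 5 5 5 30 4 4 0 5 5 1 2 17 1 3 13 13 30 4 4 5 5 13 0 13 30 4 4 5 5 5 1 3 13 13 30 30) (@D3.rec (fun _ => Nat) 4 4 4 5 5 5 0 5 5 30 30 0 6 6 1 2 7 30 2 3 2 102 3 13 13 13 30 30 6 6 6 7 7 7 4 108 110 13 13 13 13 13 30 30 30 6 6 6 7 7 7) (@D3.rec (fun _ => Nat) 30 101 30 30 101 2 3 100 102 30 30 100 102 14 4 14 4 4 106 5 14 0 1 3 30 0 1 3 14 2 100 3 30 14 14 2 99 3 14 4 1 3 14 14 2 3 3 14 4 4 100) (@D3.rec (fun _ => Nat) 5 94 30 32 0 99 14 4 4 100 5 14 1 101 101 14 14 4 103 105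 5 96 1 3 13 2 3 1 3 13 13 2 3 3 13 4 4 5 5 32 0 13 13 4 4 5 5 13 13 13 2) (@D3.rec (fun _ => Nat) 3 3 0 13 13 4 4 5 5 5 13 4 4 0 5 5 1 2 30 1 13 13 4 4 106 5 5 6 98 100 106 18 18 2 3 3 18 2 3 3 98 4 99 4 4 5 5 96 18 18 24) (@D3.rec (fun _ => Nat) 4 4 5 5 15 100 24 24 15 15 4 4 5 5 5 0 1 3 15 2 3 1 3 14 15 2 3 3 15 4 4 5 5 18 0 14 15 4 4 5 5 15 14 15 2 3 3 0 14 15 4) (@D3.rec (fun _ => Nat) 4 5 5 5 15 15 4 4 0 5 5 1 2 18 1 3 14 14 15 15 4 4 5 5 5 2 101 3 105 14 14 103 15 6 6 6 7 7 7 0 1 3 13 14 2 3 3 98 4 13 14) (@D3.rec (fun _ => Nat) 2 3 3 0 13 14 4 4 5 5 5 98 14 4 4 5 5 1 3 13 13 102 14 4 4 5 5 5 13 0 13 14 4 4 5 5 5 1 3 13 13 14 14 4 4 4 5 5 5 0 5) (@D3.rec (fun _ => Nat) 5 100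 100 0 6 6 1 2 7 14 2 3 2 104 3 13 13 13 102 104 6 6 6 7 7 7 4 104 106 13 13 13 13 13 106 6 6 6 7 7 104 99 101 19 4 4 5 5 19 30 4)
def lv_g_9 : D2 → D3 → Nat := @D2.rec (fun _ => D3 → Nat) (@D3.rec (fun _ => Nat) 109 109 30 30 4 4 0 5 5 1 2 19 24 30 102 24 24 30 6 105 14 30 2 3 3 30 4 0 14 30 4 4 5 5 30 30 4 4 5 5 1 3 14 30 14 0 14 30 4 4 5) (@D3.rec (fun _ => Nat) 5 1 3 14 14 30 30 4 4 4 5 5 5 0 5 5 30 30 0 6 6 1 2 7 30 2 3 2 3 3 14 14 14 30 30 6 6 7 4 4 104 100 5 14 14 14 14 14 30 30 6) (@D3.rec (fun _ => Nat) 6 105 7 7 13 30 2 3 3 0 68 30 4 4 5 5 30 13 0 13 30 4 4 5 5 1 3 13 13 30 30 4 4 4 5 5 5 5 5 30 30 70 6 6 7 2 3 3 13 13 13) (@D3.rec (fun _ => Nat) 30 30 6 6 7 7 0 13 1 3 13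 13 30 30 4 4 4 5 5 5 0 5 5 2 3 3 13 13 13 30 30 30 6 6 6 0 6 6 7 7 7 0 7 7 1 2 7 0 30 30 1) (@D3.rec (fun _ => Nat) 2 6 30 2 3 7 30 3 4 4 5 5 5 13 13 13 13 13 30 30 32 6 6 6 7 7 7 4 4 4 5 110 5 5 5 13 13 13 13 109 109 102 30 30 30 8 8 8 9 9 9) (@D3.rec (fun _ => Nat) 0 13 1 3 13 30 4 101 100 13 13 8 8 106 13 1 100 13 30 4 5 5 13 13 6 1 3 13 13 2 102 3 13 13 13 30 30 6 6 7 7 4 5 13 13 30 6 4 4 4 5) (@D3.rec (fun _ => Nat) 5 5 104 102 13 101 102 13 101 13 103 30 30 30 8 8 8 9 9 9 103 104 106 105 102 30 30 30 8 8 8 103 15 103 1 96 96 102 4 104 6 98 98 105 4 95 95 97 99 4 95) (@D3.rec (fun _ => Nat) 95 100 4 4 5 13 99 106 100 4 4 5 97 5 100 100 1 2 102 13 4 4 98 5 98 100 15 2 3 3 101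 15 4 4 101 5 101 15 101 101 14 2 3 3 4 14 4 4 5 5 99) (@D3.rec (fun _ => Nat) 4 4 5 1 3 98 14 104 101 4 5 14 4 4 107 5 1 3 14 14 106 104 4 4 4 5 5 5 0 5 5 0 6 1 2 14 2 2 98 3 14 98 14 14 104 6 6 6 7 7 4) (@D3.rec (fun _ => Nat) 98 102 104 98 100 102 6 6 6 7 7 104 6 6 6 7 7 7 15 99 15 30 4 4 5 1 99 15 15 30 30 4 4 5 5 5 99 15 15 30 30 6 6 6 7 7 7 15 15 15 30) (@D3.rec (fun _ => Nat) 30 30 6 6 6 7 7 7 14 2 3 105 14 30 4 4 5 30 14 30 4 4 5 5 1 3 14 14 30 30 4 4 4 5 5 5 5 5 30 30 70 6 2 3 3 14 104 14 30 30 6) (@D3.rec (fun _ => Nat) 6 6 7 7 7 14 1 3 14 14 30 30 4 4 4 5 5 5 0 5 5 2 3 3 14 14 14 30 30 30 6 6 6 0 6 6 7 7 7 0 7 7 1 2 7 106 30 1 2 30 2) (@D3.rec (fun _ => Nat) 30 4 4 5 104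 5 14 14 14 14 14 30 30 30 6 6 6 7 7 7 4 104 106 101 100 5 14 14 14 106 14 14 14 30 30 30 8 8 8 9 9 104 95 2 3 3 4 4 99 99 14) (@D3.rec (fun _ => Nat) 96 96 4 4 105 99 5 14 4 96 103 101 96 96 14 14 4 4 97 5 14 1 3 102 14 14 4 97 5 99 98 1 3 14 14 14 4 4 5 97 5 0 100 5 1 2 14 2 2 102 100) (@D3.rec (fun _ => Nat) 105 104 14 6 6 6 95 7 7 105 107 101 14 14 6 6 6 7 7 15 15 2 3 3 99 15 99 4 4 5 5 99 1 101 15 15 99 4 4 5 5 5 15 4 4 5 98 5 1 101 15) (@D3.rec (fun _ => Nat) 15 101 101 4 4 4 103 5 5 5 5 101 69 6 103 15 15 15 6 6 101 103 7 15 15 103 101 101 100 14 14 4 4 5 5 1 3 14 14 100 15 4 4 103 5 5 2 3 3 14 14) (@D3.rec (fun _ => Nat) 14 99 6 6 99 101 7 1 14 14 4 4 5 101 5 0 103 5 2 3 3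 14 14 14 99 101 6 6 6 0 6 6 7 7 7 0 7 7 1 2 7 1 2 17 2 100 4 4 5 105 5) (@D3.rec (fun _ => Nat) 14 14 14 14 14 97 99 109 6 6 6 7 7 7 4 105 102 105 108 5 14 14 14 106 14 14 14 97 15 103 8 8 8 9 9 9 1 3 15 15 30 30 4 5 2 3 15 1 3 15 15) (@D3.rec (fun _ => Nat) 30 30 4 4 5 5 2 3 3 15 15 15 30 30 30 6 6 6 69 6 6 7 7 7 7 7 0 30 72 4 4 5 108 5 15 15 15 15 30 30 6 6 7 4 107 104 107 104 107 105 15) (@D3.rec (fun _ => Nat) 105 106 103 30 30 30 8 8 8 9 9 106 14 30 4 1 14 1 104 14 14 30 30 4 5 2 3 3 14 14 14 30 30 6 6 6 7 7 7 4 4 5 107 5 14 14 14 14 30 30 6) (@D3.rec (fun _ => Nat) 6 7 1 103 14 14 2 3 3 14 14 14 32 30 30 6 6 6 0 6 6 7 7 7 0 7 7 1 2 7 4 4 5 5 5 14 14 14 0 14 14 30 30 30 0 30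 32 6 6 6 0) (@D3.rec (fun _ => Nat) 6 6 1 2 6 7 7 0 7 7 1 2 7 7 30 2 3 1 2 7 2 30 4 4 102 105 5 105 102 14 14 14 14 14 14 14 36 30 30 8 8 8 9 9 9 14 30 8 8 1 3) (@D3.rec (fun _ => Nat) 14 14 2 3 4 4 107 108 30 101 30 30 8 8 14 14 108 4 100 103 14 14 14 30 107 104 14 14 14 4 4 5 105 5 14 14 14 14 32 30 6 6 7 4 100 102 14 14 14 30 14) (@D3.rec (fun _ => Nat) 14 30 8 8 8 6 97 95 95 99 97 101 97 17 26 26 15 6 6 95 7 99 101 105 103 26 26 26 26 15 15 8 8 8 9 9 9 99 26 26 101 6 99 103 7 97 101 99 97 103 1) (@D3.rec (fun _ => Nat) 6 6 0 6 1 2 6 99 99 99 7 99 1 2 101 99 103 2 105 99 99 2 103 26 26 26 26 26 26 97 103 8 8 8 9 9 9 105 105 26 26 26 26 26 26 97 16 16 8 8 8) (@D3.rec (fun _ => Nat)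 9 9 9 0 26 26 26 30 30 30 6 6 6 7 7 7 103 103 26 26 26 26 26 26 36 30 30 8 8 8 102 9 9 103 105 26 26 26 26 0 26 26 1 2 26 36 30 30 103 30 30) (@D3.rec (fun _ => Nat) 105 30 8 8 0 8 8 1 2 8 8 103 2 3 0 9 9 1 2 9 104 32 2 3 9 9 32 3 6 2 7 28 26 8 28 8 8 28 60 102 27 30 4 4 27 6 106 1 100 104 25)
def lv_g_10 : D2 → D3 → Nat := @D2.rec (fun _ => D3 → Nat) (@D3.rec (fun _ => Nat) 30 27 27 6 27 27 27 27 1 2 30 2 101 6 25 25 108 27 27 27 108 109 27 27 27 1 97 6 0 31 31 0 16 16 0 100 100 1 2 16 100 106 102 104 1 2 17 104 0 6 6) (@D3.rec (fun _ => Nat) 1 2 7 31 2 3 17 6 6 6 7 7 25 25 25 31 31 31 6 6 6 7 7 7 1 104 15 97 101 4 99 102 96 1 100 100 14 2 3 3 14 4 4 5 5 31 14 4 101 101 1) (@D3.rec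 (fun _ => Nat) 96 94 31 98 96 0 31 31 13 2 3 3 4 4 99 98 5 0 98 98 1 2 31 104 15 98 2 3 3 0 15 15 4 4 5 5 5 15 98 4 4 5 5 1 99 101 15 105 100 4 4) (@D3.rec (fun _ => Nat) 5 5 103 99 103 6 6 7 7 101 1 14 96 2 3 3 4 96 96 17 17 102 98 99 14 4 4 98 5 0 98 104 1 2 17 1 14 102 105 14 14 4 4 5 5 1 100 14 14 100 100) (@D3.rec (fun _ => Nat) 4 4 4 100 101 5 0 5 5 0 6 6 1 2 7 14 2 3 102 14 14 6 100 100 15 0 15 31 4 4 5 5 5 1 3 15 15 31 31 4 4 4 5 5 5 5 5 31 31 69 6) (@D3.rec (fun _ => Nat) 6 7 2 105 3 15 101 15 31 31 6 6 6 107 7 7 4 107 99 15 109 15 105 15 31 31 6 6 110 7 7 14 31 2 3 3 0 14 31 4 4 5 5 5 31 4 4 104 5 5 18) (@D3.rec (fun _ => Nat) 100 98 14 31 4 4 5 5 5 1 3 14 14 31 31 4 4 4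 5 0 5 5 0 6 6 1 2 7 31 2 3 2 3 14 14 6 6 7 105 14 1 3 14 14 31 31 4 4 4 5 5) (@D3.rec (fun _ => Nat) 5 0 5 5 2 3 3 14 14 14 31 31 31 6 6 6 0 6 6 7 7 7 0 7 7 1 2 7 0 31 31 1 2 6 31 2 3 7 31 3 4 100 102 14 14 14 14 14 31 31 31) (@D3.rec (fun _ => Nat) 6 6 6 7 7 7 102 110 104 14 14 14 14 14 14 31 31 31 8 8 8 9 9 9 31 101 102 31 99 103 4 100 100 31 31 101 102 14 14 14 4 104 106 5 1 3 14 2 3 1 3) (@D3.rec (fun _ => Nat) 97 14 2 3 3 14 4 101 102 31 0 97 14 4 99 101 14 14 2 3 3 99 97 14 4 4 102 100 5 14 14 4 96 100 5 96 31 1 99 99 14 14 4 101 102 5 14 6 103 105 100) (@D3.rec (fun _ => Nat) 96 14 2 3 3 4 14 2 3 3 0 14 14 4 4 5 5 5 14 4 4 5 5 1 14 14 4 4 5 5 5 101 101 14 4 4 5 5 5 1 14 14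 14 14 4 4 4 104 5 5 0) (@D3.rec (fun _ => Nat) 5 5 6 6 1 2 7 14 2 98 6 6 100 102 7 100 102 18 4 4 5 18 4 4 5 98 4 4 98 5 5 98 18 25 25 4 4 97 5 5 100 102 25 25 25 104 15 6 6 6 97) (@D3.rec (fun _ => Nat) 7 7 1 3 15 15 2 3 3 15 4 15 15 2 3 3 0 15 15 4 4 5 5 5 15 4 4 5 5 1 3 15 15 15 4 4 97 5 5 105 103 15 98 4 4 5 5 5 1 3 15) (@D3.rec (fun _ => Nat) 15 15 15 4 4 4 5 97 5 0 5 5 15 0 6 6 1 2 7 2 3 2 104 3 15 15 15 15 6 6 6 99 7 7 4 103 104 103 105 105 15 15 103 105 100 6 6 6 7 7 104) (@D3.rec (fun _ => Nat) 1 98 98 2 3 3 99 70 98 4 4 5 5 98 14 102 14 15 4 4 5 5 5 1 3 14 14 15 15 4 4 4 5 5 5 5 5 98 98 68 6 6 7 2 102 3 14 14 14 102 102) (@D3.rec (fun _ => Nat) 6 6 6 7 7 7 107 107 1 3 14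 14 15 15 4 4 4 5 5 5 0 5 5 2 3 3 14 14 14 104 102 15 6 6 6 0 6 6 7 7 7 0 7 7 1 2 7 104 100 104 1) (@D3.rec (fun _ => Nat) 2 6 17 2 3 7 100 3 4 105 104 104 14 14 14 14 14 104 100 6 6 6 7 7 7 106 108 14 14 14 14 14 14 8 8 9 108 101 19 4 4 5 5 107 31 0 6 6 1 2 7) (@D3.rec (fun _ => Nat) 2 3 19 25 103 71 31 4 4 5 5 31 1 3 15 15 31 31 4 4 5 5 31 31 69 6 6 7 2 3 103 15 1 3 15 15 31 31 4 4 5 5 2 3 3 15 15 15 31 31 31) (@D3.rec (fun _ => Nat) 6 6 6 0 6 6 7 7 7 1 2 7 0 31 31 1 2 6 31 2 3 7 31 3 4 4 5 100 5 15 15 15 15 31 6 4 104 105 106 15 8 8 102 107 14 31 4 4 5 1 3) (@D3.rec (fun _ => Nat) 70 60 31 31 4 4 5 5 108 14 1 3 14 14 31 31 4 4 5 5 2 3 3 14 14 14 31 31 31 6 6 6 70 6 6 7 7 7 7 0 31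 31 63 6 7 4 4 5 5 5 14) (@D3.rec (fun _ => Nat) 14 14 14 31 6 6 7 1 3 14 14 2 3 3 14 14 14 33 31 31 6 6 6 0 6 6 7 0 7 7 1 2 7 4 4 5 5 5 14 14 14 0 14 14 31 31 31 0 31 33 6) (@D3.rec (fun _ => Nat) 6 6 0 6 6 1 2 6 7 0 7 7 1 2 7 7 31 2 3 7 1 2 31 7 2 3 8 31 3 4 9 31 4 4 4 5 5 5 5 5 14 14 14 14 14 14 14 35 31 33 8) (@D3.rec (fun _ => Nat) 8 8 9 9 9 6 6 6 6 106 101 106 101 14 101 101 104 103 109 102 31 31 31 8 8 8 1 3 14 14 2 3 106 14 14 102 4 4 5 14 14 14 2 104 3 14 14 14 4 100 102) (@D3.rec (fun _ => Nat) 14 14 14 14 31 31 6 6 7 4 100 14 14 14 6 6 6 101 99 100 102 104 14 99 103 14 105 31 31 31 8 8 8 106 104 31 31 103 98 100 100 97 97 97 99 97 100 4 101 100 102) (@D3.rec (fun _ => Nat)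 4 4 100 98 5 103 99 5 102 14 2 14 6 100 98 16 4 4 99 5 16 16 4 101 5 97 15 4 4 5 15 15 4 4 5 5 72 6 2 100 3 100 104 6 15 15 4 0 100 5 2) (@D3.rec (fun _ => Nat) 3 3 15 15 15 100 102 6 6 6 0 6 6 7 7 0 7 7 1 2 7 1 2 102 2 100 4 104 100 100 98 15 98 98 102 6 6 7 7 100 104 98 100 8 8 9 104 101 6 6 6) (@D3.rec (fun _ => Nat) 7 7 7 16 99 16 16 31 31 4 5 99 99 16 16 16 31 31 6 6 6 7 7 7 16 16 16 31 31 31 6 6 6 7 7 7 108 16 16 31 31 31 8 8 8 9 9 104 15 4 103)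
def lv_g_11 : D2 → D3 → Nat := @D2.rec (fun _ => D3 → Nat) (@D3.rec (fun _ => Nat) 15 15 31 31 4 5 15 15 31 31 4 4 5 5 2 3 3 15 15 15 31 31 31 6 6 6 72 6 6 7 7 7 7 103 31 59 4 4 5 104 5 59 102 15 104 15 31 31 31 6 6) (@D3.rec (fun _ => Nat) 6 7 7 7 15 15 2 3 3 15 15 15 31 31 6 6 6 0 6 6 7 7 7 7 1 2 7 4 4 5 5 5 15 15 15 0 15 15 31 31 31 106 31 31 6 6 6 0 6 6 1) (@D3.rec (fun _ => Nat) 2 6 7 7 0 7 7 1 2 7 7 31 2 3 105 106 2 31 4 4 105 104 5 106 5 15 15 15 15 15 15 15 35 31 31 8 8 8 9 9 9 6 103 108 101 100 15 15 15 105 15) (@D3.rec (fun _ => Nat) 15 31 31 8 8 95 97 4 4 99 5 107 101 101 100 98 4 105 105 96 5 105 99 98 15 15 15 4 99 5 2 104 6 99 97 99 101 2 102 15 15 6 6 6 97 97 7 99 99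 7 1) (@D3.rec (fun _ => Nat) 2 103 17 2 102 105 108 6 6 97 7 7 101 15 8 8 9 16 4 4 5 101 16 16 97 99 4 4 5 5 101 16 16 6 6 6 103 7 7 16 16 4 4 103 5 98 5 102 101 16 16) (@D3.rec (fun _ => Nat) 16 101 6 6 71 6 6 103 107 105 7 7 7 61 16 16 16 16 6 103 108 7 16 99 99 101 15 15 4 4 103 5 5 2 3 3 15 15 15 103 6 6 101 103 7 4 4 5 15 15 15) (@D3.rec (fun _ => Nat) 101 6 99 105 7 15 15 15 6 6 6 101 7 97 101 7 1 106 4 4 5 5 5 15 15 15 0 15 15 97 99 107 6 6 6 0 6 6 1 2 6 99 7 99 7 7 1 2 7 7 100) (@D3.rec (fun _ => Nat) 2 3 104 2 102 4 4 103 5 105 5 15 15 15 15 15 15 15 97 107 8 8 8 9 9 9 6 107 105 105 108 105 15 15 109 15 15 106 15 99 107 8 8 8 9 9 9 86 2 3 3) (@D3.rec (fun _ => Nat) 16 16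 31 6 4 16 16 2 3 3 16 16 31 31 71 6 6 7 4 4 5 5 5 16 16 16 71 16 16 31 31 31 0 31 31 6 6 68 6 6 61 6 7 7 7 1 2 4 4 107 102) (@D3.rec (fun _ => Nat) 5 108 102 103 16 16 16 31 31 8 107 105 111 105 31 31 8 8 15 31 15 15 103 104 15 15 31 6 4 4 5 5 5 15 15 15 15 15 31 31 33 6 6 6 7 7 4 4 98 105 5) (@D3.rec (fun _ => Nat) 105 15 15 15 15 15 35 31 8 109 15 15 15 4 4 5 5 5 15 15 15 0 15 15 33 31 31 31 31 6 6 6 0 6 6 1 2 6 7 7 7 1 2 7 31 2 3 4 4 4 104) (@D3.rec (fun _ => Nat) 5 5 0 5 5 15 15 15 15 0 15 15 1 2 15 35 31 31 103 31 33 1 2 33 8 8 0 8 8 1 2 8 8 7 2 3 9 9 1 2 9 9 31 2 3 9 9 31 3 6 2) (@D3.rec (fun _ => Nat) 7 6 102 103 103 100 15 15 15 15 15 37 31 8 8 8 2 106 15 4 31 15 15 15 106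 107 109 15 15 15 15 15 4 4 102 105 5 105 15 15 15 15 15 35 31 8 15 15 15 31 58) (@D3.rec (fun _ => Nat) 99 97 101 27 8 97 97 99 103 27 27 27 27 16 16 8 8 8 9 9 9 97 27 8 103 103 9 101 8 1 2 2 107 97 99 99 104 103 99 2 101 101 97 27 27 27 29 27 27 103 8) (@D3.rec (fun _ => Nat) 8 8 9 9 9 0 107 105 27 27 27 27 27 101 17 105 10 10 10 86 104 104 102 84 1 27 27 27 31 31 31 8 8 8 9 9 9 103 27 27 27 27 29 27 27 31 8 8 103 27 0) (@D3.rec (fun _ => Nat) 27 27 0 29 27 1 2 27 27 2 3 27 35 103 31 103 31 105 105 8 8 1 2 8 103 2 3 8 8 105 3 1 2 9 33 2 3 9 33 3 4 9 8 29 29 58 29 60 28 28 28) (@D3.rec (fun _ => Nat) 28 28 28 106 2 31 26 28 28 28 109 107 28 28 1 2 32 1 2 17 1 2 102 96 2 3 17 104 85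 32 2 3 85 1 2 6 32 2 3 32 3 4 18 6 6 7 26 26 26 32 32) (@D3.rec (fun _ => Nat) 32 8 8 8 9 9 87 98 100 14 4 4 99 5 5 14 4 4 5 98 102 96 96 32 98 1 2 32 14 4 4 98 5 4 99 0 98 5 1 2 98 14 2 98 99 16 4 4 99 5 5) (@D3.rec (fun _ => Nat) 1 105 16 16 96 98 4 4 4 5 5 5 5 5 96 96 69 6 6 7 99 101 103 6 6 7 7 101 6 6 7 101 100 100 15 4 4 98 5 98 102 18 15 15 4 0 100 5 1 2 108) (@D3.rec (fun _ => Nat) 98 2 3 103 15 15 100 100 4 4 0 5 5 102 102 15 15 15 102 6 0 6 6 102 0 106 7 1 2 7 1 2 6 100 2 3 7 98 3 15 99 16 1 3 16 16 32 32 4 4 4) (@D3.rec (fun _ => Nat) 5 5 5 2 3 3 16 16 16 32 32 32 6 6 6 71 6 6 7 7 7 7 0 32 32 62 6 7 4 103 105 16 101 16 103 16 32 32 6 6 110 7 7 107 101 103 16 109 16 105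 32) (@D3.rec (fun _ => Nat) 8 8 108 9 9 104 15 32 4 4 5 1 3 15 15 32 32 4 4 4 5 5 5 68 6 6 108 7 98 100 15 15 32 32 4 4 4 5 5 5 2 3 3 15 15 15 32 6 0 6 6) (@D3.rec (fun _ => Nat) 7 1 2 7 1 2 6 32 2 3 7 32 3 4 15 15 6 7 106 15 15 2 3 3 15 15 15 32 32 32 6 6 6 0 6 6 7 7 7 1 2 7 4 4 100 5 5 15 15 15 0) (@D3.rec (fun _ => Nat) 15 15 32 32 0 32 32 6 6 6 0 6 6 1 2 6 7 7 7 1 2 7 7 32 2 3 7 1 2 32 7 2 3 8 32 3 4 9 32 102 102 104 15 15 15 15 15 15 15 34 32) (@D3.rec (fun _ => Nat) 32 8 8 8 9 9 9 106 104 106 103 15 15 15 15 15 32 32 32 8 8 8 101 32 101 100 100 32 101 102 16 6 106 102 16 2 3 3 16 4 16 2 3 3 97 97 16 4 4 101 101) (@D3.rec (fun _ => Nat) 5 16 101 102 1 99 99 16 101 100 4 4 106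 105 5 99 99 101 16 16 4 103 102 96 102 5 16 6 96 101 96 16 6 101 102 103 107 98 100 4 4 97 5 15 4 4 5 102 5 1 15) (@D3.rec (fun _ => Nat) 15 15 15 4 4 4 104 105 5 5 5 108 6 6 7 6 6 6 7 7 101 104 101 15 15 4 4 4 101 107 5 106 5 5 15 15 15 6 6 6 6 100 106 104 100 7 7 1 2 7 6)
def lv_g_12 : D2 → D3 → Nat := @D2.rec (fun _ => D3 → Nat) (@D3.rec (fun _ => Nat) 17 2 100 7 6 100 106 7 100 20 4 5 4 5 106 6 6 98 7 102 20 26 6 6 99 7 100 26 26 26 102 102 6 6 97 7 104 2 3 103 71 17 4 4 5 100 99 16 98 4 4) (@D3.rec (fun _ => Nat) 5 5 5 1 3 16 16 96 17 4 4 4 97 5 5 5 104 6 6 7 2 3 16 16 6 6 97 7 104 101 16 16 98 103 4 4 4 5 97 5 0 5 5 2 3 3 16 16 16 17 6) (@D3.rec (fun _ => Nat) 6 0 6 6 101 99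 7 0 97 7 1 2 7 102 1 2 6 2 3 7 3 4 106 106 104 16 16 16 16 100 6 6 101 7 7 109 104 103 105 105 107 107 16 103 8 8 9 108 100 98 4) (@D3.rec (fun _ => Nat) 4 5 100 70 73 100 100 4 4 5 5 5 104 104 104 15 15 16 16 4 4 4 5 5 5 5 5 2 3 3 15 15 15 102 102 16 6 6 6 70 6 6 7 106 7 7 7 7 0 100 102) (@D3.rec (fun _ => Nat) 63 6 7 4 103 103 104 103 15 15 15 102 102 98 6 6 6 7 7 7 106 107 104 2 3 3 15 15 15 105 104 16 6 6 6 0 6 6 7 7 7 1 2 7 4 4 105 5 5 15 15) (@D3.rec (fun _ => Nat) 15 0 15 15 108 104 104 104 16 6 6 6 0 6 6 1 2 6 7 7 7 1 2 7 7 98 2 3 7 104 104 104 2 3 8 98 3 4 9 101 105 106 107 15 15 15 15 15 15 15 107) (@D3.rec (fun _ => Nat) 8 8 8 9 9 9 102 15 15 15 15 15 100 8 6 6 32 1 2 6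 2 3 3 4 105 71 73 32 32 4 4 5 5 2 3 3 16 16 32 32 69 6 6 7 32 32 62 6 7 4 109) (@D3.rec (fun _ => Nat) 16 16 2 3 3 16 16 32 32 68 6 6 7 4 4 5 5 5 16 16 16 0 16 16 32 110 32 32 6 73 6 6 1 2 6 7 7 32 2 3 7 1 2 32 102 2 3 8 32 3 4) (@D3.rec (fun _ => Nat) 9 32 4 4 5 104 16 16 16 101 70 15 32 32 4 5 2 3 3 69 70 60 32 32 6 6 7 106 15 15 2 3 3 15 15 32 32 67 6 6 7 4 4 5 5 5 15 15 15 68 15) (@D3.rec (fun _ => Nat) 15 32 32 0 32 34 6 72 6 6 61 6 7 7 7 1 2 32 70 8 9 4 4 4 5 5 5 15 15 15 15 15 8 2 3 3 15 15 15 4 4 5 5 5 15 15 15 0 15 15 34) (@D3.rec (fun _ => Nat) 32 32 0 32 32 6 0 6 6 1 2 6 7 1 2 7 32 2 3 7 4 4 4 5 5 5 0 5 5 15 15 15 15 0 15 15 1 2 15 34 32 32 0 32 34 1 2 32 8 0 8) (@D3.rec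 (fun _ => Nat) 8 1 2 8 8 7 2 3 8 9 1 2 9 9 32 2 3 9 9 32 3 4 9 6 2 3 32 7 3 4 8 32 4 5 9 6 6 6 6 6 104 101 7 7 7 7 105 101 15 15 101) (@D3.rec (fun _ => Nat) 104 15 15 101 15 104 36 34 32 8 8 8 104 103 106 101 106 32 32 2 3 15 4 108 15 15 6 101 15 4 109 104 15 15 15 15 15 102 102 15 15 15 15 15 32 8 15 99 100 106 102) (@D3.rec (fun _ => Nat) 15 101 103 15 104 32 32 32 69 98 99 97 97 100 104 104 6 6 98 100 106 100 7 105 100 17 17 4 101 5 17 17 6 105 97 16 16 4 5 16 16 72 6 6 7 74 4 106 16 16 6) (@D3.rec (fun _ => Nat) 1 2 106 4 4 102 5 5 101 16 16 0 16 16 100 102 107 6 6 0 6 6 1 2 6 7 7 1 2 7 7 102 2 3 2 102 106 102 100 100 100 8 8 102 100 8 8 8 8 9 9) (@D3.rec (fun _ => Nat) 106 17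 17 101 101 17 17 32 6 99 101 17 17 17 17 17 32 32 32 6 6 6 7 7 7 107 17 17 32 32 32 8 8 8 9 9 9 108 17 17 32 32 8 8 16 107 105 16 16 32 6) (@D3.rec (fun _ => Nat) 16 16 16 32 32 6 6 7 4 4 5 5 5 59 16 16 66 16 16 32 32 32 110 32 32 6 70 6 6 59 6 7 7 7 103 4 4 5 102 5 104 5 61 104 59 104 104 16 106 34 32) (@D3.rec (fun _ => Nat) 32 8 8 8 9 9 9 16 16 16 4 4 5 5 5 16 16 16 0 16 16 32 32 32 6 6 70 6 6 1 2 6 7 7 7 7 32 2 3 4 4 4 113 5 5 108 5 5 16 16 16) (@D3.rec (fun _ => Nat) 16 0 16 16 1 2 16 34 32 32 111 32 32 108 32 8 8 0 8 8 1 2 8 8 108 2 3 9 9 1 2 9 9 32 2 3 9 9 32 3 107 6 6 103 106 104 7 106 16 16 16) (@D3.rec (fun _ => Nat) 16 16 16 16 16 36 32 32 8 8 8 103 110 16 16 16 32 100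 4 101 5 105 102 98 99 6 103 105 96 104 99 98 16 6 99 106 99 99 99 104 16 16 6 6 97 97 7 99 103 7 2) (@D3.rec (fun _ => Nat) 104 104 104 8 8 97 9 103 8 17 17 4 5 104 101 17 17 17 99 6 6 7 97 17 17 6 6 103 7 7 17 17 17 6 6 103 7 104 102 103 17 17 71 17 17 105 71 6 6 74 6) (@D3.rec (fun _ => Nat) 103 105 103 7 7 17 17 17 17 8 108 105 9 16 16 16 6 6 105 7 4 4 5 5 16 16 16 16 105 6 103 105 7 4 5 16 16 8 103 105 9 16 16 16 16 16 6 6 101 7 105) (@D3.rec (fun _ => Nat) 7 4 4 4 103 5 5 5 5 16 16 16 16 0 16 16 1 2 16 99 107 8 105 8 8 1 2 8 8 101 2 3 101 9 99 9 9 2 3 9 9 100 3 104 6 6 105 7 16 16 16) (@D3.rec (fun _ => Nat) 16 16 16 16 16 107 109 8 8 8 9 9 9 0 99 107 107 16 16 109 16 103 10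 10 10 4 4 5 5 17 17 32 17 17 4 4 5 5 71 17 17 32 32 62 6 4 4 4 109 5 5) (@D3.rec (fun _ => Nat) 0 5 5 17 17 17 65 17 17 61 17 32 32 107 32 32 1 2 32 66 8 8 63 8 59 9 9 2 6 107 102 108 110 102 105 17 32 105 32 16 16 16 101 103 16 16 32 4 4 4 98) (@D3.rec (fun _ => Nat) 5 5 5 5 28 16 16 16 16 16 16 34 32 34 8 8 9 6 100 105 16 16 16 16 16 36 16 16 16 16 16 4 4 4 102 5 5 5 5 30 16 16 16 0 16 16 1 2 16 34 32) (@D3.rec (fun _ => Nat) 32 32 32 32 8 29 8 8 1 2 8 107 2 3 9 9 32 2 3 9 32 3 6 6 0 6 6 103 102 103 103 7 7 1 2 7 16 16 16 0 16 16 0 18 16 1 2 16 16 7 2)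
def lv_g_13 : D2 → D3 → Nat := @D2.rec (fun _ => D3 → Nat) (@D3.rec (fun _ => Nat) 3 16 34 36 105 32 34 105 32 32 6 2 3 30 8 8 1 2 8 8 105 2 3 8 8 7 3 9 32 2 3 9 32 3 4 9 34 8 103 100 16 16 16 32 58 16 16 16 16 106 108) (@D3.rec (fun _ => Nat) 114 105 110 16 16 16 16 16 16 16 6 100 105 103 16 16 16 16 16 36 16 60 0 99 28 103 107 99 102 105 28 17 10 10 10 8 103 2 99 101 103 99 28 28 30 30 28 10 10 10 0) (@D3.rec (fun _ => Nat) 1 103 28 28 28 28 103 103 103 88 86 28 28 28 32 32 32 8 8 8 28 30 30 28 32 60 107 1 2 28 1 3 2 30 30 2 3 28 28 3 105 28 108 105 105 32 113 10 2 3 10) (@D3.rec (fun _ => Nat) 103 3 4 10 59 2 3 34 3 4 11 4 30 29 29 29 29 29 108 27 29 109 29 29 2 108 33 2 2 98 3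 18 104 33 3 85 102 2 3 33 3 33 4 104 5 8 27 27 33 33 33) (@D3.rec (fun _ => Nat) 8 8 9 99 100 4 4 100 105 5 5 6 100 98 102 2 104 4 100 5 6 100 1 2 100 2 98 100 17 17 4 4 101 99 5 5 102 105 101 17 17 98 98 6 6 6 69 6 6 7 7) (@D3.rec (fun _ => Nat) 7 7 7 7 98 98 64 6 7 101 6 6 7 99 8 99 16 16 4 98 5 106 16 16 6 1 2 106 2 108 98 3 101 105 16 16 100 0 6 6 1 2 7 102 102 16 16 0 16 16 106) (@D3.rec (fun _ => Nat) 6 1 2 6 104 1 2 106 100 2 3 7 104 2 3 8 100 3 4 9 99 17 17 2 3 3 68 17 17 33 33 33 6 68 6 6 7 7 4 4 105 5 5 17 17 17 67 17 17 33 33) (@D3.rec (fun _ => Nat) 0 33 33 6 71 6 6 62 6 7 7 7 7 1 2 33 69 8 9 105 107 101 17 99 101 17 103 33 8 8 108 9 9 109 103 17 105 17 33 8 8 108 65 16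 33 33 4 5 2 3 3) (@D3.rec (fun _ => Nat) 67 16 16 33 33 6 70 6 6 7 7 63 6 7 102 102 102 105 16 16 16 33 6 67 6 6 7 7 4 4 5 5 16 16 0 16 16 33 6 1 2 6 7 33 2 3 7 100 2 3 8) (@D3.rec (fun _ => Nat) 33 3 4 33 16 8 106 107 16 16 16 4 4 98 5 5 16 16 16 0 16 16 33 33 0 33 33 6 29 6 6 1 2 6 7 7 7 33 2 3 7 4 4 100 100 100 0 5 5 16 16) (@D3.rec (fun _ => Nat) 16 16 0 16 16 1 2 16 33 33 33 1 2 33 8 29 8 8 1 2 8 8 7 2 3 8 9 9 9 33 2 3 9 33 3 4 9 6 2 3 33 7 3 4 8 33 4 5 9 107 102) (@D3.rec (fun _ => Nat) 102 110 16 16 16 16 16 16 16 16 35 33 33 8 8 8 9 0 106 104 101 105 16 16 16 33 33 33 101 101 99 33 103 105 16 4 4 5 4 4 104 105 5 97 97 99 16 4 101 103 5) (@D3.rec (fun _ => Nat) 101 100 4 105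 100 98 103 5 101 16 6 103 109 98 102 98 101 106 102 107 98 4 101 99 5 16 16 4 4 104 103 5 100 5 16 16 6 106 6 6 102 102 7 7 107 6 103 6 6 101 104) (@D3.rec (fun _ => Nat) 104 16 6 6 6 99 106 7 101 7 16 16 16 6 6 6 100 104 106 102 7 7 2 3 7 8 104 109 8 101 104 110 6 6 100 6 102 27 6 8 4 103 73 60 100 100 4 5 100 17 17) (@D3.rec (fun _ => Nat) 98 98 4 4 4 5 5 5 2 3 3 17 17 17 98 6 102 6 6 99 7 7 104 6 7 4 17 17 6 7 106 104 106 104 17 17 17 100 6 6 0 6 6 7 99 7 1 2 7 4 4) (@D3.rec (fun _ => Nat) 5 5 106 17 17 0 17 17 17 6 6 1 2 6 101 101 7 1 2 101 7 2 3 7 2 3 8 3 4 9 106 106 106 17 17 17 17 8 8 9 9 103 105 108 8 100 102 98 4 5 104) (@D3.rec (fun _ => Nat) 101 72 72 62 100 6 6 6 7 7 104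 109 104 102 104 16 16 16 102 17 6 6 6 70 6 6 7 7 7 7 4 4 105 5 5 103 16 16 68 16 16 104 102 102 17 6 6 70 6 6 65) (@D3.rec (fun _ => Nat) 6 7 101 7 7 7 7 1 2 104 70 8 9 105 105 103 100 105 16 16 104 107 8 8 8 9 9 9 107 107 112 107 107 4 4 105 5 5 16 16 16 0 16 16 105 104 104 17 6 99 6) (@D3.rec (fun _ => Nat) 6 1 2 6 7 7 7 2 3 7 4 4 107 107 104 5 5 16 16 16 16 0 16 16 1 2 16 106 104 100 104 106 8 79 8 8 1 2 8 8 100 2 3 8 9 9 9 2 3 9 9) (@D3.rec (fun _ => Nat) 100 3 4 9 106 106 106 3 4 8 4 5 9 99 101 107 107 101 16 16 16 16 16 16 16 16 102 102 8 8 8 16 16 16 2 3 3 4 109 105 69 65 60 33 33 6 6 7 4 4 5) (@D3.rec (fun _ => Nat) 5 63 17 17 33 33 62 6 7 33 66 8 104 107 106 17 17 4 4 5 5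 73 17 17 109 33 33 64 6 7 4 4 4 5 5 107 5 5 17 17 17 63 17 17 1 2 17 33 108 33 8) (@D3.rec (fun _ => Nat) 63 8 100 2 3 8 33 3 4 9 2 3 33 102 3 4 8 33 4 6 17 103 109 72 63 33 6 4 4 98 5 5 64 64 62 60 33 33 6 7 108 108 16 16 16 4 4 5 5 68 16) (@D3.rec (fun _ => Nat) 16 0 33 33 63 6 7 4 4 4 5 5 0 5 5 16 16 16 65 16 16 63 16 0 33 35 1 2 33 8 63 8 61 8 9 9 2 3 33 66 8 6 6 6 101 7 101 16 16 16 16) (@D3.rec (fun _ => Nat) 16 4 4 110 5 5 16 16 16 0 16 16 4 4 4 100 5 5 0 5 5 16 16 16 0 16 16 1 2 16 33 0 33 33 1 2 33 8 1 2 8 7 2 3 8 33 2 3 9 33 3) (@D3.rec (fun _ => Nat) 4 9 6 6 6 0 6 6 106 7 7 7 0 7 7 1 2 7 16 16 16 0 16 16 0 18 16 1 2 16 16 7 2 3 16 35 100 33 35 1 2 33 33 6 2 3 33 8 1 2 8)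 (@D3.rec (fun _ => Nat) 8 7 2 3 8 8 7 3 4 8 33 2 3 9 33 3 4 9 9 33 4 5 9 8 3 4 33 9 4 5 5 10 33 5 11 6 6 6 6 104 99 97 7 7 101 104 99 104 16 16 103) (@D3.rec (fun _ => Nat) 16 104 35 33 33 63 4 16 16 16 16 109 106 106 16 16 16 16 16 16 16 102 16 16 16 16 16 16 99 100 104 101 103 112 102 67 101 100 99 104 6 98 106 104 100 102 18 18 6 105 18)
def lv_g_14 : D2 → D3 → Nat := @D2.rec (fun _ => D3 → Nat) (@D3.rec (fun _ => Nat) 18 101 17 17 6 66 17 17 61 6 17 17 2 3 4 4 103 103 5 5 103 102 100 0 17 17 1 2 17 102 104 79 8 8 1 2 8 8 2 3 9 2 3 9 102 3 100 8 8 18 18) (@D3.rec (fun _ => Nat) 18 101 103 18 18 33 101 101 69 18 18 18 18 18 33 33 33 8 8 8 9 9 113 18 18 33 33 33 8 8 8 111 18 33 107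 113 17 17 33 17 17 17 17 33 33 6 7 4 4 4 5) (@D3.rec (fun _ => Nat) 5 5 109 5 5 59 57 102 67 17 17 61 17 33 113 33 33 110 33 8 65 8 8 59 9 9 9 6 6 6 7 104 104 7 106 59 104 104 58 104 104 17 35 33 33 8 8 8 9 17 17) (@D3.rec (fun _ => Nat) 17 17 17 4 4 4 115 5 5 5 5 17 17 17 65 17 17 1 2 17 33 33 29 8 8 70 8 8 2 3 9 9 33 3 6 6 110 6 6 108 111 104 111 7 7 108 7 17 17 17 0) (@D3.rec (fun _ => Nat) 17 17 0 17 17 1 2 17 17 108 2 3 17 33 35 109 33 33 113 33 33 108 28 8 8 1 2 8 8 111 2 3 8 8 108 3 9 33 2 3 9 33 3 4 33 6 103 106 106 106 7) (@D3.rec (fun _ => Nat) 17 17 17 17 17 17 17 17 17 33 33 33 62 97 6 101 101 102 101 105 103 105 101 17 101 101 99 101 108 17 8 8 99 101 9 107 103 103 105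 8 99 103 105 18 18 6 101 103 18 18 18) (@D3.rec (fun _ => Nat) 18 103 6 7 99 18 8 8 9 9 18 18 18 18 6 107 7 103 105 18 73 18 18 63 18 63 8 8 75 101 107 101 9 9 108 18 18 18 8 0 17 17 17 17 6 105 7 4 4 5 5) (@D3.rec (fun _ => Nat) 17 17 17 8 105 107 9 6 17 8 17 17 17 17 17 17 8 8 105 9 9 6 6 109 6 6 103 105 7 7 7 17 17 17 107 17 17 17 17 1 2 17 17 102 2 3 17 106 109 8 105) (@D3.rec (fun _ => Nat) 8 8 2 3 8 8 102 3 105 9 99 105 9 9 3 103 0 6 105 7 17 17 17 17 17 17 17 17 107 10 10 10 0 1 103 17 4 4 5 5 18 18 18 4 4 5 5 64 18 33 62) (@D3.rec (fun _ => Nat) 6 6 0 6 6 107 109 104 109 7 7 1 2 7 102 65 18 18 65 18 65 18 61 18 98 33 33 109 33 2 3 63 8 63 8 9 104 104 18 17 17 17 17 103 109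 17 6 6 101 6 6) (@D3.rec (fun _ => Nat) 98 98 7 7 7 30 30 17 17 17 17 17 17 17 35 35 8 17 17 17 17 17 17 17 17 17 17 6 6 103 6 6 103 102 107 7 7 7 30 30 17 29 17 17 0 17 17 1 2 17 105) (@D3.rec (fun _ => Nat) 2 3 17 35 33 33 33 8 29 8 105 2 3 8 107 3 9 33 3 4 33 103 6 6 1 2 6 103 103 102 105 103 7 102 6 2 3 7 30 17 17 0 17 1 2 17 17 1 3 2 19) (@D3.rec (fun _ => Nat) 19 103 2 3 17 17 7 3 4 17 110 35 35 105 33 105 33 33 8 3 30 10 2 3 10 105 3 4 10 56 9 33 3 4 11 33 4 17 58 0 17 106 112 110 112 110 105 17 114 17 17) (@D3.rec (fun _ => Nat) 110 17 17 17 105 114 17 17 17 1 86 31 29 31 29 106 1 29 29 29 29 29 29 33 59 31 31 113 111 2 3 29 2 2 3 3 31 29 3 4 29 29 59 107 29 105 109 3 4 10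 4) (@D3.rec (fun _ => Nat) 5 57 3 4 30 30 30 30 30 34 104 3 34 5 28 34 34 10 103 106 6 6 102 105 7 100 102 6 100 2 3 100 102 103 18 18 71 6 6 7 103 103 101 103 69 18 18 98 98 102 6) (@D3.rec (fun _ => Nat) 6 6 71 6 6 64 6 7 7 7 7 7 98 71 8 9 8 99 17 17 6 107 108 17 17 2 3 110 102 102 109 17 17 106 1 2 6 2 3 7 104 106 17 17 1 2 17 104 2 3 8) (@D3.rec (fun _ => Nat) 2 3 102 3 4 9 104 3 4 8 4 9 103 109 18 18 18 4 4 107 5 5 66 62 69 18 18 34 0 34 34 6 62 6 7 7 4 4 105 107 0 5 5 18 18 99 64 18 18 62 18) (@D3.rec (fun _ => Nat) 111 34 34 1 2 34 8 62 8 8 60 8 9 9 9 9 2 3 34 65 8 9 105 101 103 18 99 101 103 18 34 8 8 105 18 103 106 62 64 34 6 4 4 5 5 5 72 63 64 17 17) (@D3.rec (fun _ => Nat)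 34 34 6 61 6 7 7 65 8 100 102 102 104 17 17 66 17 17 34 6 62 6 7 7 4 4 5 5 17 17 1 2 17 8 100 2 3 8 34 3 4 102 3 4 34 4 17 106 106 108 17) (@D3.rec (fun _ => Nat) 17 17 107 17 17 4 4 100 98 100 0 5 5 17 17 17 29 17 17 1 2 17 34 34 1 2 34 8 29 8 8 115 2 3 8 9 9 34 3 4 9 0 6 6 111 100 102 100 102 1 2) (@D3.rec (fun _ => Nat) 7 17 17 17 31 17 17 17 17 1 2 17 17 7 2 3 17 34 34 34 6 2 3 34 8 31 8 8 100 2 3 8 7 3 4 8 9 9 34 3 0 34 4 9 8 3 4 34 9 4 5) (@D3.rec (fun _ => Nat) 5 10 34 5 113 104 104 109 105 17 17 17 17 17 17 17 17 17 34 34 34 10 0 1 106 106 105 4 5 4 103 101 5 99 6 101 104 103 102 6 105 101 98 105 105 18 103 105 98 102 98) (@D3.rec (fun _ => Nat) 103 104 104 101 6 99 99 17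 6 6 103 103 7 100 17 17 6 104 6 101 104 108 106 100 109 104 110 103 17 6 6 100 106 7 103 7 17 8 8 8 102 104 106 107 9 108 3 104 109 108 104) (@D3.rec (fun _ => Nat) 104 101 105 67 75 100 6 105 101 78 18 18 98 6 80 6 6 7 7 4 4 5 5 18 18 104 18 18 100 6 106 6 101 7 7 106 8 18 8 108 108 112 106 104 105 18 18 0 18 18 100) (@D3.rec (fun _ => Nat) 6 6 1 2 6 7 101 7 2 3 7 4 4 5 5 106 106 18 18 18 1 2 18 8 8 2 3 8 103 101 9 2 3 9 3 4 9 3 4 8 4 106 18 18 18 8 8 99 105 102 6) (@D3.rec (fun _ => Nat) 106 102 107 72 75 62 74 104 6 6 7 7 110 106 112 110 111 104 102 102 105 17 17 70 17 17 102 18 6 99 6 6 72 6 7 7 7 7 4 4 105 105 0 5 5 103 103 105 70 17 17) (@D3.rec (fun _ => Nat) 63 17 104 104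 104 8 8 65 8 8 72 8 9 105 9 9 9 9 2 3 72 8 105 107 105 105 17 8 8 8 9 9 110 109 109 110 110 112 106 109 107 4 4 106 106 106 5 5 17 17 17)
def lv_g_15 : D2 → D3 → Nat := @D2.rec (fun _ => D3 → Nat) (@D3.rec (fun _ => Nat) 99 17 17 1 2 17 106 106 104 8 99 8 8 2 3 8 9 9 9 3 4 9 105 6 6 101 104 107 104 106 7 17 17 17 79 17 17 99 17 17 1 2 17 17 100 2 3 17 106 106 104) (@D3.rec (fun _ => Nat) 106 106 8 79 8 8 2 3 8 8 100 3 4 8 9 9 3 4 9 9 94 104 4 106 4 5 5 10 5 99 101 105 106 101 103 17 97 17 17 17 17 17 17 17 102 89 17 3 109 111 65) (@D3.rec (fun _ => Nat) 60 60 58 34 34 6 7 4 4 5 5 62 18 34 60 8 34 64 104 104 111 113 73 18 18 4 4 109 5 5 64 18 109 34 62 8 6 6 109 6 6 7 7 114 7 18 18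 18 65 18 102) (@D3.rec (fun _ => Nat) 2 3 18 112 34 61 102 3 4 8 34 4 3 4 104 4 63 5 34 18 103 103 63 61 34 4 4 98 98 5 5 66 64 62 60 34 8 108 110 17 17 70 17 17 4 4 0 5 5 63 17) (@D3.rec (fun _ => Nat) 1 2 34 61 8 9 6 6 110 6 6 101 0 7 7 1 2 7 17 17 17 65 17 17 63 17 61 17 1 2 34 2 3 34 61 8 61 8 9 3 4 34 64 63 6 101 101 103 99 17 17) (@D3.rec (fun _ => Nat) 17 4 4 109 108 110 0 5 5 17 17 17 17 0 17 17 1 2 17 6 6 0 6 6 102 102 0 7 7 1 2 7 17 17 17 110 17 17 1 2 17 7 2 3 17 34 1 2 34 6 2) (@D3.rec (fun _ => Nat) 3 34 113 2 3 8 7 3 4 8 34 3 34 4 5 9 6 6 6 0 6 6 1 2 6 106 104 101 100 7 7 0 99 7 1 2 7 7 6 2 3 7 17 17 0 17 1 2 17 17 1) (@D3.rec (fun _ => Nat) 3 2 19 19 7 2 3 17 17 7 3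 4 17 36 100 34 34 8 2 3 34 34 8 3 4 34 107 2 3 10 9 3 4 10 10 61 9 4 5 5 10 34 3 34 4 5 34 5 11 8 4) (@D3.rec (fun _ => Nat) 5 5 34 9 5 5 63 6 10 34 8 8 99 105 102 103 104 17 103 112 104 63 17 112 106 17 17 17 17 17 17 17 17 17 101 116 104 107 67 98 106 100 19 19 19 18 18 61 18 78 18) (@D3.rec (fun _ => Nat) 3 6 6 104 106 7 81 104 106 100 100 1 2 18 2 3 18 106 81 8 2 3 8 3 9 3 4 106 102 19 19 19 19 101 103 19 101 66 71 19 19 19 19 19 34 34 34 8 8 109 19) (@D3.rec (fun _ => Nat) 19 34 34 34 62 111 113 18 18 18 18 18 34 8 6 6 6 114 6 6 7 7 104 111 7 7 111 7 104 59 57 104 104 61 18 18 59 18 34 113 34 34 110 8 59 8 8 9 6 6 7) (@D3.rec (fun _ => Nat) 106 106 7 60 106 60 58 106 106 18 34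 34 34 10 60 18 18 18 18 18 18 18 6 6 6 6 107 102 7 7 7 7 18 31 18 18 101 18 18 65 18 18 2 3 18 34 34 31 8 8 63) (@D3.rec (fun _ => Nat) 3 34 109 6 6 112 6 115 111 113 111 106 106 111 7 7 108 7 30 18 18 107 18 18 1 2 18 18 1 101 2 18 18 109 2 3 18 18 110 3 4 18 107 34 34 113 34 34 108 34 34) (@D3.rec (fun _ => Nat) 30 10 2 3 10 111 3 4 60 115 11 34 3 34 4 8 105 108 108 106 9 18 18 18 18 18 18 18 64 0 103 105 105 101 105 107 111 101 101 99 104 104 18 8 99 103 102 19 19 103 105) (@D3.rec (fun _ => Nat) 19 19 19 8 9 87 19 8 8 19 19 19 19 8 107 9 105 67 108 19 63 19 19 75 19 75 8 8 107 9 0 108 19 19 19 0 1 18 18 18 18 8 105 6 6 7 18 18 18 8 18) (@D3.rec (fun _ => Nat) 85 18 18 18 18 18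 18 18 8 8 9 6 6 105 6 105 108 7 7 7 18 18 18 105 18 18 18 18 2 3 18 18 103 3 4 18 109 10 101 10 10 3 105 0 1 8 107 9 84 18 18) (@D3.rec (fun _ => Nat) 18 18 18 18 0 84 1 113 6 6 7 19 19 6 6 7 62 19 110 6 6 1 2 6 100 109 111 110 104 109 7 2 3 7 67 102 63 19 65 19 63 19 61 19 100 34 113 34 3 61 10) (@D3.rec (fun _ => Nat) 63 109 110 18 18 18 111 18 6 6 101 6 100 100 7 7 30 34 18 18 18 18 18 18 36 18 18 18 18 18 18 18 18 18 18 18 18 105 6 6 108 6 102 102 105 7 7 32 36 109 107) (@D3.rec (fun _ => Nat) 18 31 18 1 3 2 18 18 105 2 3 18 107 3 4 18 34 34 34 36 10 107 3 4 111 11 34 4 105 8 2 3 8 105 104 105 105 9 104 8 3 4 9 32 18 1 2 2 3 18 2) (@D3.rec (fun _ => Nat) 2 3 3 20 18 105 3 4 18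 18 58 9 4 5 18 111 34 107 34 107 34 0 8 36 3 4 10 107 4 5 57 34 4 34 1 18 112 108 112 108 18 114 18 18 111 18 106 18 105 111 18) (@D3.rec (fun _ => Nat) 18 30 30 113 107 3 4 4 3 5 4 30 4 109 5 30 30 61 107 4 61 5 5 59 31 31 31 104 108 6 104 102 104 102 3 102 102 104 69 19 19 71 6 7 100 104 105 69 103 107 64) (@D3.rec (fun _ => Nat) 19 100 102 8 103 8 8 66 8 71 8 9 9 9 71 8 18 18 108 18 3 103 106 104 18 2 3 8 3 4 108 18 106 2 3 18 106 3 4 8 3 102 4 9 4 83 5 10 101 103 110) (@D3.rec (fun _ => Nat) 19 19 69 19 19 4 4 105 107 0 5 5 68 64 62 64 19 35 1 2 35 8 62 8 9 9 6 6 109 105 107 1 2 7 99 19 19 66 99 101 64 19 19 62 19 111 35 35 2 3 35) (@D3.rec (fun _ => Nat) 8 62 8 8 62 8 9 9 62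 3 4 35 63 67 10 107 101 101 103 19 99 101 103 19 35 62 105 105 66 62 35 4 4 4 5 5 5 5 74 65 63 63 18 35 8 61 8 65 66 102 102) (@D3.rec (fun _ => Nat) 102 110 18 18 18 64 18 8 62 8 100 6 6 7 18 18 100 2 3 18 100 3 4 35 4 106 4 5 35 18 106 104 106 0 106 110 18 18 18 18 104 18 18 104 18 0 6 6 100 102 100) (@D3.rec (fun _ => Nat) 100 100 1 2 7 18 18 18 101 18 18 31 18 18 103 2 3 18 35 35 2 3 35 8 35 8 112 3 4 8 35 4 1 2 6 102 111 100 102 102 102 6 2 3 7 109 18 18 18 18 31) (@D3.rec (fun _ => Nat) 18 18 18 18 102 2 3 18 18 7 3 4 18 35 35 35 8 3 4 35 10 35 10 102 3 0 9 4 53 5 10 35 1 35 8 4 105 5 35 9 5 5 61 6 35 109 104 104 111 107 18)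
def lv_g_16 : D2 → D3 → Nat := @D2.rec (fun _ => D3 → Nat) (@D3.rec (fun _ => Nat) 18 18 18 18 18 18 0 35 0 62 1 6 6 104 102 102 103 110 107 103 100 108 104 111 100 107 101 101 18 6 103 102 108 102 107 103 104 108 109 110 105 8 8 102 112 108 105 109 18 8 106) (@D3.rec (fun _ => Nat) 104 103 105 108 104 103 103 62 77 102 105 102 80 80 80 19 19 100 6 80 6 7 7 4 4 5 5 19 19 104 19 8 107 8 106 19 110 110 114 110 114 106 100 106 106 19 19 19 1 2 19) (@D3.rec (fun _ => Nat) 8 8 2 3 8 9 9 3 4 9 6 6 7 108 101 19 19 19 2 3 19 8 8 3 4 8 3 4 4 91 5 103 19 19 19 87 104 104 103 106 105 105 66 64 76 76 8 8 108 110 112) (@D3.rec (fun _ => Nat) 114 115 110 111 104 104 104 106 105 105 18 101 18 18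 70 18 106 8 101 8 8 72 8 9 9 9 6 6 107 103 1 2 7 103 107 107 65 18 18 70 18 106 8 8 72 8 8 72 8 9 9) (@D3.rec (fun _ => Nat) 9 9 3 72 68 107 18 10 10 85 110 112 107 109 114 109 114 110 110 112 109 111 109 6 6 109 107 108 106 7 110 18 18 18 18 101 18 18 2 3 18 108 106 106 8 103 8 8 3 4 8) (@D3.rec (fun _ => Nat) 9 4 105 6 106 99 101 106 109 102 108 7 101 18 18 99 99 18 81 18 18 109 101 18 18 2 3 18 18 102 3 4 18 108 108 108 84 10 10 3 4 10 10 0 104 4 86 5 95 11 4) (@D3.rec (fun _ => Nat) 108 5 5 90 6 99 105 107 113 101 103 99 18 18 18 18 18 104 18 89 109 115 66 64 60 35 8 6 6 7 62 19 35 64 66 110 106 111 109 109 66 19 115 6 6 111 7 64 19 115 35) (@D3.rec (fun _ => Nat) 64 6 6 111 6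 7 110 7 19 19 63 19 102 3 4 19 113 102 4 61 5 35 4 5 104 5 63 105 110 63 6 6 100 100 7 66 64 64 62 35 108 108 112 70 18 18 65 18 108 6 6) (@D3.rec (fun _ => Nat) 1 2 7 63 18 2 3 35 63 8 109 6 6 110 6 109 103 1 2 7 2 3 7 101 18 18 67 65 18 18 63 18 63 18 2 3 35 3 4 35 62 10 64 63 4 5 5 64 103 101 101) (@D3.rec (fun _ => Nat) 18 18 6 6 109 112 108 110 110 1 2 7 18 18 18 114 18 18 108 18 18 1 2 18 18 2 3 18 6 6 1 2 6 102 102 1 2 7 6 2 3 7 18 18 79 111 18 18 2 3 18) (@D3.rec (fun _ => Nat) 7 3 4 18 2 3 35 8 3 4 35 113 3 54 9 4 5 5 10 35 35 5 8 8 8 1 2 8 8 2 3 8 106 104 102 101 102 9 106 1 108 2 99 9 8 2 3 9 9 8 3) (@D3.rec (fun _ => Nat) 4 9 18 1 2 103 2 3 18 106 111 2 2 3 3 20 18 9 3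 4 18 18 63 9 4 5 5 18 102 35 8 3 4 35 35 8 4 5 5 35 110 3 55 9 4 57 5 61 9 5 5) (@D3.rec (fun _ => Nat) 61 6 10 35 35 5 35 10 5 5 6 6 35 11 11 6 61 63 7 101 101 112 103 110 65 18 112 108 18 18 18 18 18 18 18 103 103 109 69 100 102 20 20 19 63 19 19 6 106 7 81) (@D3.rec (fun _ => Nat) 106 102 102 2 3 19 3 4 19 83 10 3 4 4 20 20 20 103 20 101 64 62 20 20 20 20 20 35 35 20 62 0 111 19 19 19 19 19 35 6 6 6 6 113 6 7 7 111 104 113 7) (@D3.rec (fun _ => Nat) 7 110 7 104 57 56 104 104 65 19 19 61 19 35 112 35 35 10 65 60 8 8 9 106 110 9 106 60 58 106 106 62 35 0 62 19 19 19 19 19 19 19 6 6 6 6 105 104 102 106 7) (@D3.rec (fun _ => Nat) 7 7 7 19 31 19 19 103 19 19 63 19 19 3 4 19 35 35 111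 8 8 112 8 113 111 105 112 111 105 106 110 9 9 107 9 30 19 106 19 19 2 3 19 19 2 103 3 19 19 111 3) (@D3.rec (fun _ => Nat) 4 19 19 62 115 4 5 19 107 35 107 35 110 0 35 10 3 51 115 4 5 35 35 8 103 108 108 108 0 19 19 19 19 19 64 1 103 103 107 109 20 105 20 20 20 8 85 20 85 110 20) (@D3.rec (fun _ => Nat) 20 20 20 8 103 112 67 110 20 77 20 20 65 20 77 10 0 1 114 20 20 0 1 19 19 19 19 6 7 19 19 19 84 86 19 19 19 19 19 19 19 10 82 8 8 107 8 108 107 9 9) (@D3.rec (fun _ => Nat) 9 19 82 19 107 19 19 19 19 3 4 19 19 0 107 4 5 19 90 1 8 107 84 19 19 90 19 19 1 105 6 7 20 20 6 7 64 20 111 8 2 3 8 100 111 113 110 111 9 3 4) (@D3.rec (fun _ => Nat) 9 65 107 63 20 67 20 65 20 63 20 102 35 115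 63 65 19 19 19 103 19 8 103 8 102 9 9 36 19 19 19 19 19 19 19 19 19 19 19 19 19 19 19 19 105 8 109 8 102 105 9) (@D3.rec (fun _ => Nat) 9 36 107 109 19 36 19 2 2 3 3 19 19 105 3 4 19 109 4 5 19 35 36 10 107 4 5 35 105 8 3 4 8 104 105 107 105 9 104 0 8 4 5 9 36 19 2 3 4 19 4) (@D3.rec (fun _ => Nat) 3 5 4 19 19 105 4 5 5 19 19 58 9 5 6 19 111 107 35 104 0 1 4 61 5 107 5 57 35 19 108 114 110 19 114 112 19 19 101 106 104 113 4 5 4 4 5 5 5 109 59) (@D3.rec (fun _ => Nat) 61 5 63 32 102 104 107 71 20 73 8 100 105 64 107 71 20 102 8 105 8 73 73 8 73 64 19 19 106 108 19 3 4 4 106 19 106 3 4 19 105 4 83 5 10 5 87 85 110 103 111) (@D3.rec (fun _ => Nat) 110 112 68 71 20 20 64 20 6 6 105 106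 109 1 2 7 99 64 62 62 62 20 36 2 3 36 8 62 8 6 111 107 109 2 3 7 101 101 20 20 66 64 99 103 62 20 20 62 20 112 36) (@D3.rec (fun _ => Nat) 36 3 4 36 63 10 10 0 65 62 61 4 5 5 61 65 107 101 103 105 20 101 103 105 64 0 105 112 62 6 6 100 6 6 7 7 7 65 63 63 61 19 36 61 63 64 102 110 19 19 19) (@D3.rec (fun _ => Nat) 62 19 62 100 6 7 19 19 102 3 4 19 104 4 5 36 106 5 109 108 113 106 106 108 1 2 111 80 19 19 19 19 106 19 19 110 19 1 2 6 102 102 100 102 102 2 3 7 19 19 19) (@D3.rec (fun _ => Nat) 103 19 19 35 19 19 110 3 4 19 36 36 3 4 36 50 112 4 56 5 36 106 2 3 8 102 115 104 104 104 104 8 3 4 9 109 19 54 19 19 37 19 19 19 19 102 3 4 19 19 0)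
def lv_g_17 : D2 → D3 → Nat := @D2.rec (fun _ => D3 → Nat) (@D3.rec (fun _ => Nat) 9 4 5 5 19 36 36 0 8 4 107 5 36 62 104 1 9 5 55 55 10 5 111 105 109 11 6 63 7 106 106 111 107 19 19 19 64 19 19 0 1 1 107 102 101 101 100 109 105 108 107) (@D3.rec (fun _ => Nat) 110 103 107 106 102 106 103 105 62 103 105 80 84 82 20 8 82 8 6 6 7 20 20 107 20 108 108 20 111 114 110 114 112 112 106 107 107 20 20 20 2 3 20 8 8 3 4 8 4 6 7) (@D3.rec (fun _ => Nat) 108 105 20 20 20 3 4 20 86 4 85 5 5 91 114 20 20 88 104 104 105 107 107 66 76 76 64 110 116 112 110 112 111 113 109 106 106 104 107 105 19 101 19 19 72 19 8 105 8 74 8) (@D3.rec (fun _ => Nat) 6 107 2 3 7 105 107 107 72 19 19 61 19 10 10 83 10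 10 87 74 65 65 86 107 87 84 110 108 110 116 110 116 112 108 111 112 110 109 109 113 106 6 109 111 108 108 106 7 110 19 19) (@D3.rec (fun _ => Nat) 19 19 103 19 19 3 4 19 106 10 84 84 4 84 5 107 8 109 106 101 105 108 112 111 108 9 103 19 101 99 19 85 19 19 111 105 19 19 3 4 19 19 0 106 4 5 5 19 108 108 85) (@D3.rec (fun _ => Nat) 10 87 4 86 5 86 1 5 86 6 89 7 101 105 107 103 105 99 19 19 19 106 19 104 90 109 60 60 60 36 6 7 62 20 62 112 111 113 113 66 20 113 6 113 7 64 20 115 64 8 115) (@D3.rec (fun _ => Nat) 8 9 109 9 20 20 63 20 104 4 5 5 20 114 104 5 63 5 106 108 110 63 6 104 100 7 66 64 64 62 110 110 65 19 19 63 19 110 6 2 3 7 63 19 3 4 36 62 63 111 8) (@D3.rec (fun _ => Nat) 109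 8 109 105 2 3 9 3 4 9 101 19 19 67 65 19 19 63 19 63 63 19 3 4 36 4 5 5 64 64 66 5 5 6 66 103 101 6 110 112 108 110 112 2 3 7 19 19 19 101 19) (@D3.rec (fun _ => Nat) 19 110 19 19 2 3 19 19 3 4 19 8 2 3 8 104 2 3 9 8 3 4 9 19 19 81 111 19 19 3 4 19 9 4 5 5 19 3 4 8 4 5 5 36 115 56 9 5 5 56 6) (@D3.rec (fun _ => Nat) 36 8 8 2 3 8 8 3 4 8 106 102 102 9 2 105 3 101 9 8 3 4 9 9 8 4 5 5 9 19 2 3 105 3 4 19 106 111 4 3 5 4 19 19 106 9 4 5 5 19 19) (@D3.rec (fun _ => Nat) 63 9 5 5 6 6 19 102 10 4 5 5 10 5 5 6 6 36 102 57 11 5 57 63 11 11 6 60 61 7 36 62 10 10 6 6 16 7 7 7 11 7 61 65 8 103 103 112 65 65 19) (@D3.rec (fun _ => Nat) 19 19 19 112 103 21 21 20 61 20 20 8 104 9 83 104 102 102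 3 4 20 4 5 20 83 4 5 21 21 21 103 21 103 64 21 21 21 21 21 1 107 20 20 20 20 20 8 8 8 8 114) (@D3.rec (fun _ => Nat) 8 9 9 113 106 110 9 9 107 9 105 59 58 106 104 61 20 20 61 61 20 36 112 0 60 61 8 8 9 108 108 0 108 62 60 62 105 62 115 1 20 20 20 20 20 20 20 8 8 8 8) (@D3.rec (fun _ => Nat) 107 104 107 105 9 9 9 9 20 37 20 20 105 20 20 65 20 20 4 5 20 112 8 8 107 8 106 105 105 108 111 108 106 107 9 9 0 107 9 37 20 106 20 20 3 4 20 20 3 103 4) (@D3.rec (fun _ => Nat) 20 20 20 113 4 5 5 20 20 62 107 5 6 20 109 36 109 110 1 37 51 117 5 115 110 107 0 1 20 20 20 68 21 105 21 21 21 83 86 85 112 21 21 21 21 84 105 112 67 112 21) (@D3.rec (fun _ => Nat) 77 21 21 0 65 21 77 83 1 114 21 108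 1 20 20 20 20 8 9 20 20 85 20 20 20 20 20 20 20 89 20 88 8 8 105 8 107 109 9 9 9 20 84 20 107 20 20 90 20 20 20) (@D3.rec (fun _ => Nat) 4 5 107 20 20 0 1 5 6 20 20 20 113 8 9 21 21 8 9 64 21 113 8 3 4 8 102 108 111 108 113 9 4 5 9 65 104 63 21 65 21 65 65 21 63 21 102 111 63 20 20) (@D3.rec (fun _ => Nat) 20 105 20 8 103 8 102 9 9 36 20 20 20 20 20 20 20 20 20 20 20 20 20 20 20 20 20 107 8 110 8 105 107 9 9 38 111 111 20 38 20 4 3 5 4 20 20 107 4 5 5) (@D3.rec (fun _ => Nat) 20 107 5 6 20 36 55 38 109 5 113 10 4 5 5 10 107 107 107 105 106 11 106 0 1 10 5 6 11 38 20 4 5 5 20 4 4 5 5 5 20 20 105 5 5 6 6 59 20 20 60) (@D3.rec (fun _ => Nat) 11 6 7 109 106 0 1 5 61 106 110 20 112 112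 20 108 106 103 5 6 5 7 61 61 71 21 73 104 103 71 107 62 21 107 73 69 69 20 20 108 104 20 4 5 108 20 108 4 5 5 20) (@D3.rec (fun _ => Nat) 5 86 83 88 105 110 109 110 109 66 66 21 21 64 21 6 106 107 109 2 3 7 101 66 64 62 64 21 37 3 4 37 62 63 64 8 110 107 106 3 4 9 101 103 21 21 68 66 101 103 64) (@D3.rec (fun _ => Nat) 21 21 0 64 64 21 114 37 37 0 4 5 5 63 63 54 1 65 5 5 6 63 65 0 101 103 105 101 103 64 1 110 64 6 6 100 6 7 7 7 67 65 65 63 20 65 66 102 107 20 20) (@D3.rec (fun _ => Nat) 20 64 20 64 106 8 9 20 20 106 4 5 5 20 106 5 108 109 108 102 106 106 108 2 3 106 80 20 20 20 20 106 20 20 109 20 2 3 8 102 102 102 102 102 3 4 9 20 20 20 103) (@D3.rec (fun _ => Nat) 20 20 37 20 20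 52 104 4 5 5 20 106 4 107 5 104 5 56 111 3 4 8 104 111 104 104 104 104 0 8 4 5 5 9 109 20 54 20 20 37 20 20 62 20 20 20 104 4 5 20 20) (@D3.rec (fun _ => Nat) 0 1 9 5 5 6 6 20 111 1 10 5 113 105 11 55 55 10 16 113 109 7 105 105 20 20 20 0 1 105 62 104 85 85 84 21 84 6 7 21 21 106 21 108 111 112 112 116 114 106 108) (@D3.rec (fun _ => Nat) 108 109 21 21 21 3 4 21 109 4 87 5 8 9 109 110 21 21 21 87 4 5 5 21 5 89 21 106 105 107 109 68 78 78 66 108 112 112 111 113 110 108 106 106 107 107 20 105 20 20 63) (@D3.rec (fun _ => Nat) 20 87 84 70 8 107 3 4 9 107 84 109 72 20 20 85 63 65 20 84 83 88 83 70 66 86 86 110 110 112 116 112 106 105 108 109 110 111 108 111 108 108 8 109 108 109 109 108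 9 114 20)
def lv_g_18 : D2 → D3 → Nat := @D2.rec (fun _ => D3 → Nat) (@D3.rec (fun _ => Nat) 20 20 20 105 20 20 84 4 5 5 20 108 84 85 5 85 107 8 109 108 103 107 112 110 109 108 108 9 103 20 107 103 20 86 20 20 86 108 107 20 20 20 4 5 5 20 20 0 1 114 5) (@D3.rec (fun _ => Nat) 5 6 6 20 110 86 85 5 88 88 87 7 90 8 103 107 103 101 20 106 20 104 91 91 109 66 66 62 8 9 64 66 21 109 108 111 114 66 21 109 8 112 9 66 66 21 117 8 115 8 9) (@D3.rec (fun _ => Nat) 112 110 9 21 21 65 21 104 5 5 6 6 21 104 63 16 110 107 65 8 104 102 9 66 66 66 64 108 107 65 20 20 63 20 108 8 3 4 9 65 65 20 4 5 5 64 109 8 109 8 111) (@D3.rec (fun _ => Nat) 105 3 4 9 4 5 5 9 103 20 20 67 65 20 20 65 64 20 65 65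 20 4 5 5 5 5 6 64 66 6 113 66 103 8 110 110 110 3 4 9 20 20 20 103 20 20 20 112 20 20 3) (@D3.rec (fun _ => Nat) 4 20 20 0 4 5 5 20 8 3 4 8 104 3 4 9 8 4 5 5 9 20 20 81 111 20 20 4 5 56 20 9 5 5 6 6 20 4 10 5 5 6 6 11 11 6 58 7 10 10 3) (@D3.rec (fun _ => Nat) 4 10 10 104 4 5 5 10 106 104 11 3 107 4 103 11 10 4 5 5 11 11 10 5 5 6 6 11 20 3 4 105 4 5 57 20 108 116 4 4 5 5 5 20 106 20 106 65 11 5 5) (@D3.rec (fun _ => Nat) 6 6 63 20 20 65 11 11 6 6 7 7 7 104 10 5 5 6 10 10 6 6 115 7 7 7 11 63 59 11 7 61 63 8 109 12 7 7 7 113 8 8 8 114 8 63 114 67 9 103 106) (@D3.rec (fun _ => Nat) 67 114 20 20 115 22 22 21 63 21 21 8 104 9 85 104 104 102 4 5 5 21 5 6 21 85 5 22 22 22 103 22 114 64 22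 22 22 22 22 107 21 21 21 21 21 8 8 8 8 109 8) (@D3.rec (fun _ => Nat) 9 9 108 106 112 9 9 0 109 9 106 59 58 62 112 106 107 67 67 21 21 62 63 21 117 111 1 10 111 112 105 0 1 108 107 60 60 64 21 21 21 21 21 21 21 8 8 8 8 107 107) (@D3.rec (fun _ => Nat) 105 109 9 9 9 9 21 37 21 21 105 21 21 21 65 21 21 5 6 21 112 10 10 115 109 109 10 107 107 105 110 107 111 108 108 109 109 11 11 0 1 116 11 37 21 106 21 21 21 4 5) (@D3.rec (fun _ => Nat) 53 21 21 4 110 5 5 21 21 21 21 64 113 5 5 6 6 21 21 64 107 6 7 109 109 37 104 107 0 1 21 107 22 109 22 22 85 22 110 22 22 22 87 22 116 112 69 112 22 22 67) (@D3.rec (fun _ => Nat) 79 22 22 0 1 67 22 85 110 110 21 21 21 21 8 9 21 21 90 21 21 21 88 21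 21 21 21 21 89 21 10 10 105 105 10 107 107 11 11 11 21 85 21 21 113 21 21 90 21 21 21) (@D3.rec (fun _ => Nat) 21 5 6 109 21 21 0 1 6 7 107 8 9 22 22 8 9 66 22 113 10 4 5 5 10 104 108 111 108 112 110 11 5 6 11 65 104 65 65 22 67 67 22 67 67 22 65 104 21 21 21) (@D3.rec (fun _ => Nat) 114 21 10 108 105 10 104 11 11 38 21 21 21 21 21 21 21 21 21 21 21 21 21 106 21 21 21 111 10 110 110 10 107 107 11 11 38 105 111 21 38 38 21 4 4 5 5 5 21 21 107) (@D3.rec (fun _ => Nat) 5 5 6 6 21 107 6 7 55 106 113 110 10 5 5 6 6 10 107 107 118 116 116 108 0 11 113 0 1 10 6 7 38 21 5 5 6 6 21 6 5 5 7 7 6 6 21 21 107 107 6) (@D3.rec (fun _ => Nat) 6 59 7 7 59 21 60 11 7 108 1 114 106 103 6 61 62 22 66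 109 105 73 107 62 64 22 66 67 21 21 108 106 106 21 5 111 21 108 5 5 6 6 21 87 86 105 109 108 113 113 66) (@D3.rec (fun _ => Nat) 64 22 22 62 22 8 109 111 108 3 4 9 101 64 64 64 63 64 64 22 0 4 5 5 63 8 114 107 107 0 4 5 5 9 103 105 22 22 66 64 103 105 105 64 65 22 22 0 1 64 64) (@D3.rec (fun _ => Nat) 22 114 114 0 1 5 5 6 65 56 67 6 16 65 67 1 103 105 103 66 109 64 8 8 106 8 9 106 9 65 65 65 63 63 21 64 111 109 21 21 21 64 64 21 106 8 9 21 21 106 5) (@D3.rec (fun _ => Nat) 5 6 6 21 106 113 110 102 106 106 107 3 4 108 82 105 21 21 21 21 111 21 21 0 111 111 21 3 4 8 104 104 104 104 104 104 4 5 5 9 21 21 21 105 21 21 21 37 21 21 52) (@D3.rec (fun _ => Nat) 112 5 5 6 6 21 5 107 102 58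 113 4 5 5 10 106 109 106 106 106 118 106 0 1 10 5 5 6 6 11 111 21 56 21 21 21 39 21 21 64 21 21 21 21 0 106 5 6 21 21 0) (@D3.rec (fun _ => Nat) 1 11 11 6 6 7 7 57 10 17 113 105 57 107 105 21 1 105 62 105 86 86 84 22 84 8 9 22 22 108 108 22 110 111 111 116 114 108 112 109 110 22 22 22 109 4 5 5 22 5 89) (@D3.rec (fun _ => Nat) 8 9 113 108 22 22 22 22 88 5 5 6 6 22 91 110 111 109 111 68 66 78 66 110 109 115 111 112 108 108 108 105 109 107 21 107 21 21 87 63 65 21 84 8 109 4 5 9 109 109 88) (@D3.rec (fun _ => Nat) 84 63 90 21 21 90 63 65 21 88 85 67 68 110 112 114 114 108 106 110 110 109 108 113 108 108 0 108 108 115 8 107 110 111 109 110 110 9 107 21 21 85 21 21 21 110 90 21 21 91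 5) (@D3.rec (fun _ => Nat) 5 6 6 21 86 110 112 10 107 110 103 107 107 112 110 114 109 110 110 11 105 21 107 105 21 21 87 87 21 21 87 109 107 107 21 21 21 21 0 5 5 6 6 89 21 21 0 1 110 6 6) (@D3.rec (fun _ => Nat) 7 7 88 89 90 89 8 91 91 9 103 101 106 92 104 92 109 62 62 62 8 9 64 64 22 110 110 110 109 111 66 66 22 109 8 112 112 9 66 66 22 10 108 112 10 11 114 110 11 22 22) (@D3.rec (fun _ => Nat) 65 22 106 106 6 6 7 7 65 105 103 109 65 8 106 106 9 66 66 66 66 64 108 109 65 21 21 0 63 65 21 108 8 4 5 5 9 65 65 21 5 5 6 64 111 10 112 111 10 113 107) (@D3.rec (fun _ => Nat) 4 5 5 11 5 5 6 6 11 103 21 21 65 65 66 21 21 65 66 21 65 65 68 5 5 6 6 109 7 66 68 109 68 8 112 112 106 4 5 5 9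 21 115 21 21 103 21 21 21 0 114)
def lv_g_19 : D2 → D3 → Nat := @D2.rec (fun _ => D3 → Nat) (@D3.rec (fun _ => Nat) 21 21 4 5 5 21 21 0 1 5 5 6 6 21 10 4 5 5 10 106 4 5 11 10 5 5 6 6 11 21 21 83 113 21 21 5 6 58 21 11 11 6 6 7 7 7 10 10 6 6 112) (@D3.rec (fun _ => Nat) 7 7 11 7 58 8 10 10 4 5 5 10 10 110 5 5 6 6 10 108 104 104 11 4 107 5 5 103 11 10 5 5 6 6 11 11 10 10 6 6 110 7 7 7 21 4 5 57 112 5 6) (@D3.rec (fun _ => Nat) 59 21 117 116 6 5 5 7 7 6 6 64 21 106 21 117 106 65 11 11 6 6 64 7 7 59 65 21 65 11 11 7 7 7 8 8 8 12 6 106 7 12 7 7 7 8 8 8 111 59 13) (@D3.rec (fun _ => Nat) 8 62 63 63 9 8 8 116 8 9 115 9 9 110 63 116 106 67 111 107 23 23 22 63 22 22 10 117 11 85 85 115 109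 104 115 5 5 6 6 22 6 7 23 23 23 112 23 112 66 23 23) (@D3.rec (fun _ => Nat) 23 23 114 22 22 22 22 22 22 10 10 10 10 111 109 109 10 11 11 118 110 106 106 109 113 11 11 0 1 114 11 108 106 61 60 60 114 111 115 107 63 63 63 22 22 63 63 0 1 107 62) (@D3.rec (fun _ => Nat) 22 22 22 22 22 22 22 22 10 10 10 62 10 107 107 105 108 11 11 11 11 11 22 22 39 22 22 107 22 22 22 22 67 22 22 6 7 109 114 10 10 117 114 109 10 107 107 107 105 112 109) (@D3.rec (fun _ => Nat) 109 112 108 120 108 0 114 109 11 11 0 1 114 39 39 22 108 53 22 22 22 22 5 6 53 22 22 5 5 111 109 6 6 22 22 109 22 22 64 109 106 6 6 7 7 22 64 116 7 104 0) (@D3.rec (fun _ => Nat) 1 23 116 23 23 93 23 112 23 23 23 23 89 23 114 114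 67 69 111 109 23 23 111 67 67 85 23 23 0 1 67 107 22 22 22 22 22 10 11 22 22 91 22 22 22 22 22 22 22 22 91) (@D3.rec (fun _ => Nat) 10 10 116 107 10 109 109 11 11 22 87 22 22 117 22 22 90 22 22 22 22 6 7 112 22 0 1 7 111 115 10 11 23 10 11 66 112 115 10 5 5 6 6 10 104 104 116 110 113 115 118) (@D3.rec (fun _ => Nat) 110 11 6 7 65 65 113 65 65 23 67 67 23 67 67 22 22 22 110 10 116 110 10 116 11 38 22 22 22 22 22 22 22 106 22 22 22 22 106 22 106 22 22 112 110 10 114 112 10 116 116) (@D3.rec (fun _ => Nat) 11 40 105 107 109 111 22 40 40 22 6 5 5 7 7 6 6 22 22 107 107 6 6 63 7 7 114 7 116 112 12 6 6 7 7 7 116 107 116 114 114 111 0 1 113 0 1 12 7 40 22) (@D3.rec (fun _ => Nat) 6 6 7 7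 64 6 6 6 6 61 7 7 7 7 108 22 116 108 7 7 8 61 62 13 90 64 66 23 109 116 64 110 64 66 23 71 67 22 22 111 115 106 22 109 22 108 6 6 7 7 86) (@D3.rec (fun _ => Nat) 88 105 105 110 108 111 115 115 68 66 23 23 0 64 66 23 8 107 112 109 0 4 5 5 9 103 66 65 66 64 64 66 66 23 1 5 5 6 65 10 109 116 119 109 0 1 5 5 6 6 11) (@D3.rec (fun _ => Nat) 103 105 105 23 23 66 66 65 103 103 117 105 0 66 65 62 23 23 0 1 66 66 67 116 0 1 6 17 7 65 67 65 67 103 66 109 66 8 108 8 9 106 9 67 67 67 67 65 67 22 66) (@D3.rec (fun _ => Nat) 66 113 112 22 22 22 22 66 66 22 108 108 10 11 22 22 108 108 6 6 7 7 113 105 104 108 108 108 0 4 5 5 113 82 103 22 22 22 89 22 22 112 109 22 22 0 1 113 111 22 4) (@D3.rec (fun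 _ => Nat) 5 5 10 104 104 104 104 118 104 104 5 5 6 6 11 22 22 22 22 105 22 22 22 22 54 39 22 22 54 104 106 6 6 7 7 58 18 107 56 113 5 5 6 6 10 106 106 106 106 106 116) (@D3.rec (fun _ => Nat) 118 0 1 10 10 6 6 18 7 7 107 107 22 56 22 22 22 22 39 22 22 64 22 22 22 22 0 1 106 6 7 22 0 1 11 11 7 7 8 57 107 107 57 105 106 64 112 87 87 86 86) (@D3.rec (fun _ => Nat) 23 8 9 23 23 108 108 23 111 108 113 113 111 110 110 115 118 112 110 23 23 23 23 111 5 5 6 6 23 111 10 11 111 110 23 23 23 23 89 6 6 7 7 91 115 116 109 113 68 70 68) (@D3.rec (fun _ => Nat) 68 68 110 109 113 110 112 0 110 110 115 111 107 109 109 22 22 115 22 22 88 65 67 22 86 10 112 5 6 11 109 109 92 89 65 90 90 22 22 92 65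 67 67 88 68 68 110 112 108 108 114) (@D3.rec (fun _ => Nat) 117 108 108 110 0 112 108 108 110 113 115 110 0 1 115 110 113 10 109 113 110 113 111 110 110 11 113 111 22 22 86 22 22 22 22 109 110 91 22 22 91 6 6 7 7 87 87 112 112 10 109) (@D3.rec (fun _ => Nat) 110 110 105 105 109 109 114 112 114 111 118 116 105 22 109 109 105 105 22 22 89 88 88 89 22 22 88 111 110 115 109 89 22 22 0 22 22 106 0 1 6 6 7 7 90 91 22 0 1 111 7) (@D3.rec (fun _ => Nat) 7 8 89 90 90 90 9 92 92 106 111 93 116 68 68 64 10 11 66 68 112 111 113 115 111 109 68 68 23 109 109 10 116 114 11 68 68 10 116 112 10 11 114 116 23 23 67 106 106 7 7) (@D3.rec (fun _ => Nat) 8 65 107 105 116 67 10 106 106 11 68 68 68 68 108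 110 113 65 67 22 22 0 1 65 67 22 107 110 10 5 5 6 6 11 67 67 66 6 108 7 66 109 104 10 114 112 10 109 113 119 5) (@D3.rec (fun _ => Nat) 5 6 6 11 6 6 110 7 7 7 105 22 22 67 66 67 66 22 22 67 66 66 67 68 68 6 7 7 66 68 10 112 108 110 112 5 5 6 6 11 22 22 117 0 22 105 105 22 22 0 22) (@D3.rec (fun _ => Nat) 115 1 114 107 22 22 5 5 6 6 0 22 22 0 1 6 6 7 7 7 10 5 5 6 6 10 118 5 6 11 10 10 6 6 110 7 7 7 22 22 83 118 22 22 6 7 58 11 11 7 7) (@D3.rec (fun _ => Nat) 7 8 8 8 12 7 7 8 8 13 8 60 60 9 12 12 5 5 6 6 108 12 12 111 6 6 7 7 7 108 106 106 13 5 5 107 6 6 117 13 12 12 6 6 108 7 7 7 13 12 12) (@D3.rec (fun _ => Nat) 7 7 7 110 8 8 8 22 5 6 57 114 6 7 59 115 111 115 6 6 6 6 64 7 7 7 7 7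 66 22 117 108 115 108 67 67 13 13 110 7 7 65 8 61 65 61 67 13 13 13 8)
def lv_g_20 : D2 → D3 → Nat := @D2.rec (fun _ => D3 → Nat) (@D3.rec (fun _ => Nat) 8 8 9 65 9 9 111 7 63 8 12 8 8 8 9 9 115 9 61 9 63 63 65 9 108 9 112 112 116 69 24 23 65 10 115 87 87 113 115 109 113 6 6 7 7 7 24 24 24 110 66) (@D3.rec (fun _ => Nat) 24 24 24 112 23 23 23 23 10 10 10 10 113 116 111 10 11 11 115 114 110 117 107 0 114 112 11 11 0 1 114 117 108 60 61 60 63 115 111 113 112 64 69 69 23 64 1 109 23 23 23) (@D3.rec (fun _ => Nat) 23 23 23 23 10 10 10 10 64 10 107 109 109 107 108 108 11 11 11 11 23 23 39 23 23 107 23 23 23 23 23 67 23 7 116 111 117 12 12 110 112 111 118 111 109 115 109 114 111 118 109)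 (@D3.rec (fun _ => Nat) 118 110 0 115 117 0 1 114 116 13 0 1 39 39 23 110 55 23 23 23 23 6 7 55 23 6 6 115 109 7 7 7 23 23 109 23 66 109 106 7 7 8 66 114 1 24 114 24 24 93 109) (@D3.rec (fun _ => Nat) 112 24 24 94 24 24 89 113 114 69 69 87 119 111 111 24 24 111 69 69 87 24 0 1 23 23 23 23 10 23 92 23 23 23 23 23 23 23 23 91 12 12 114 107 116 109 13 23 87 23 23) (@D3.rec (fun _ => Nat) 117 23 92 23 23 23 7 116 0 1 116 111 10 10 120 110 12 6 6 7 7 7 106 106 112 114 110 111 112 114 7 67 67 111 67 67 69 69 69 69 23 23 12 114 110 114 116 40 23 23 23) (@D3.rec (fun _ => Nat) 23 23 108 23 23 23 23 108 23 108 23 114 110 12 112 112 112 114 121 40 105 107 111 109 23 40 40 57 6 6 6 6 63 7 7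 7 7 7 23 114 109 7 7 8 112 114 112 112 7 7 7) (@D3.rec (fun _ => Nat) 8 8 112 114 109 109 113 0 1 0 1 12 40 7 7 8 64 64 8 8 83 7 7 9 9 8 108 114 8 61 64 66 24 109 114 64 110 64 66 66 69 69 23 115 113 108 111 7 7 8 88) (@D3.rec (fun _ => Nat) 107 89 107 110 111 111 110 115 115 0 66 68 64 66 24 24 0 1 64 66 24 10 109 109 119 109 0 1 5 5 6 6 11 105 105 66 65 63 66 66 65 66 66 65 6 18 7 65 10 116 112) (@D3.rec (fun _ => Nat) 0 114 118 0 1 6 6 18 7 7 7 105 105 107 107 24 24 66 67 66 67 64 119 105 0 115 117 0 1 66 67 67 56 24 0 1 66 69 69 116 1 7 67 69 67 114 66 10 108 108 10) (@D3.rec (fun _ => Nat) 11 108 11 67 67 67 67 65 65 66 66 111 110 23 23 23 23 66 66 108 108 10 23 108 108 7 7 8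 115 106 116 106 104 108 108 115 108 0 1 5 5 6 6 111 84 105 23 23 82 23 23) (@D3.rec (fun _ => Nat) 23 84 115 111 89 23 23 0 1 111 113 113 5 5 6 6 10 106 106 114 106 116 118 106 6 6 19 7 7 107 23 23 23 23 117 23 23 23 23 23 54 39 23 54 106 108 7 7 8 60 58) (@D3.rec (fun _ => Nat) 112 105 109 115 6 6 108 7 7 7 115 106 117 117 108 116 0 1 12 12 7 7 19 8 109 113 23 58 23 23 23 23 41 23 66 23 23 23 0 1 117 7 0 1 13 13 8 59 59 115 107) (@D3.rec (fun _ => Nat) 107 106 64 115 88 88 86 86 24 10 11 24 24 115 110 111 112 110 110 115 113 111 115 112 113 116 112 110 24 24 111 24 24 111 6 6 7 7 113 10 115 110 24 24 24 90 7 7 8 91 113) (@D3.rec (fun _ => Nat) 114 111 113 68 68 68 68 115 113 111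 110 117 115 111 0 1 115 110 113 111 119 111 111 23 23 90 110 23 23 90 65 67 86 86 10 110 6 7 117 117 91 94 65 92 90 92 23 92 67 67 70) (@D3.rec (fun _ => Nat) 93 70 110 110 114 110 110 113 115 115 108 0 109 112 1 115 117 110 0 115 110 0 113 115 0 1 112 113 110 117 10 108 109 113 111 114 111 117 118 115 113 87 23 23 87 23 23 110 23 23 23) (@D3.rec (fun _ => Nat) 109 108 92 23 93 7 7 8 88 88 88 118 114 109 109 112 112 105 105 117 112 119 112 113 116 107 23 109 109 90 107 107 90 23 23 90 89 89 91 23 89 114 112 109 123 109 109 91 23 23 106) (@D3.rec (fun _ => Nat) 0 1 23 110 0 0 1 7 7 8 92 91 91 0 1 109 8 90 91 91 91 93 113 94 114 64 64 10 66 112 113 111 113 115 111 68 68 68 116 111 10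 114 116 68 12 114 114 114 114 122 108) (@D3.rec (fun _ => Nat) 8 67 116 105 112 10 115 108 68 68 68 68 115 110 113 65 65 0 23 23 0 1 65 67 67 109 109 10 6 6 112 7 7 7 67 66 66 7 8 111 106 12 121 112 111 115 111 117 6 6 7) (@D3.rec (fun _ => Nat) 7 7 7 7 7 112 8 8 116 23 67 68 67 68 68 23 68 68 68 70 70 70 7 10 117 112 110 114 6 6 7 7 7 23 23 0 114 114 1 23 116 107 93 23 23 23 92 1 116 116 114) (@D3.rec (fun _ => Nat) 23 23 6 6 0 7 7 7 0 1 23 0 1 7 7 7 8 8 8 12 6 6 7 7 7 116 6 7 12 12 7 7 7 112 8 8 8 23 85 118 23 7 60 13 13 13 8 8 8 9 60) (@D3.rec (fun _ => Nat) 9 9 12 8 8 9 9 107 9 60 60 12 12 6 6 7 7 7 110 12 116 7 7 7 8 8 112 117 117 117 6 6 109 7 7 7 115 12 12 114 7 7 7 110 8 8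 8 12 12 12 8) (@D3.rec (fun _ => Nat) 8 116 8 9 9 9 9 6 7 59 59 7 61 115 111 113 8 8 65 7 7 7 64 9 9 9 8 8 66 66 61 115 108 114 67 67 67 13 13 109 8 66 61 67 61 61 13 13 9 9 9) (@D3.rec (fun _ => Nat) 65 10 65 10 63 8 9 9 9 9 10 114 109 64 64 111 112 118 87 87 115 111 113 7 7 8 25 25 68 25 24 24 24 24 12 12 12 12 110 114 111 114 13 13 106 114 108 115 115 0 1) (@D3.rec (fun _ => Nat) 114 113 13 0 1 115 121 108 65 62 65 113 113 113 112 65 65 65 24 24 24 24 24 24 24 12 12 64 12 12 64 109 109 117 111 118 110 13 13 13 13 24 24 24 41 24 116 24 24 24 24) (@D3.rec (fun _ => Nat) 24 114 111 114 114 12 112 117 118 116 114 111 109 116 113 116 111 115 113 117 0 1 116 0 1 114 0 1 41 41 110 55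 55 24 24 24 7 55 7 7 7 113 111 109 8 8 24 117 66 117 116) (@D3.rec (fun _ => Nat) 8 25 95 115 112 89 25 25 25 94 25 91 119 111 87 69 69 113 87 113 115 113 25 115 69 87 0 1 24 24 24 24 93 24 24 24 24 24 24 93 12 119 116 89 24 92 24 1 114 113 114)
def lv_g_21 : D2 → D3 → Nat := @D2.rec (fun _ => D3 → Nat) (@D3.rec (fun _ => Nat) 112 116 7 7 7 8 8 114 113 114 116 115 114 67 67 67 67 69 69 24 117 114 24 24 24 110 24 24 24 110 108 112 112 112 120 114 119 109 113 111 109 42 57 59 8 8 65 7 7 7 9) (@D3.rec (fun _ => Nat) 9 9 8 8 112 116 8 117 114 8 8 9 9 114 117 109 0 1 1 8 66 66 83 8 8 8 9 116 66 68 109 66 68 68 69 69 120 111 8 88 90 107 107 113 111 111 117 111 0 117 117) (@D3.rec (fun _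 => Nat) 1 68 68 0 66 66 0 25 25 0 1 66 68 68 10 117 109 0 114 116 0 1 6 6 19 7 7 7 115 105 66 68 67 67 65 66 66 68 67 67 7 8 90 114 116 109 0 1 116 0 1) (@D3.rec (fun _ => Nat) 7 7 7 19 8 8 105 105 117 118 25 68 67 64 68 67 67 58 117 119 0 1 115 0 1 67 67 58 67 0 1 69 69 69 83 112 10 110 110 10 11 108 69 69 69 69 69 68 68 68 24) (@D3.rec (fun _ => Nat) 24 24 24 68 116 110 110 118 111 8 115 115 118 114 106 0 108 108 0 113 115 0 1 6 6 110 7 7 7 84 105 24 24 24 84 92 24 24 24 84 113 111 111 91 24 0 1 121 113 58 6) (@D3.rec (fun _ => Nat) 6 111 7 7 7 118 119 114 116 106 116 106 7 7 20 8 109 112 24 24 24 24 115 24 24 24 24 24 56 56 56 118 108 8 60 58 105 109 114 7 7 7 110 8 8 8 120 116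 117 116 0) (@D3.rec (fun _ => Nat) 1 12 12 8 20 107 111 115 58 24 24 24 66 24 0 1 116 1 13 59 115 117 118 115 89 89 88 88 10 25 117 113 112 91 117 110 89 115 117 111 115 112 111 116 112 25 25 25 111 25 113) (@D3.rec (fun _ => Nat) 7 7 8 113 118 25 91 8 93 119 118 70 70 70 115 115 109 0 112 112 0 113 114 0 1 113 112 113 117 118 117 24 24 24 92 110 24 92 69 88 88 88 7 115 93 94 92 90 92 95 94) (@D3.rec (fun _ => Nat) 69 70 70 88 110 117 110 116 121 115 119 110 110 110 0 1 113 114 117 115 110 114 0 1 113 112 115 0 1 115 0 1 112 116 119 117 108 108 117 113 110 117 116 115 113 113 88 24 88 24 24) (@D3.rec (fun _ => Nat) 24 112 24 24 111 111 93 93 8 89 89 90 116 114 109 120 112 112 115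 112 110 118 121 119 111 111 91 120 107 91 24 91 90 91 90 114 114 112 111 119 111 93 93 111 24 110 0 116 1 108 0) (@D3.rec (fun _ => Nat) 0 1 0 1 8 92 93 92 92 1 92 92 94 70 114 113 113 115 117 70 70 116 111 114 116 122 114 122 115 117 119 70 70 115 115 113 67 67 69 0 1 24 0 1 69 69 68 119 109 106 7) (@D3.rec (fun _ => Nat) 7 7 112 8 8 8 68 68 8 120 106 106 117 111 116 118 116 7 7 7 8 8 8 8 114 9 116 69 68 68 68 68 68 68 68 70 70 116 114 110 110 7 7 7 8 8 8 24 24 107 93) (@D3.rec (fun _ => Nat) 1 116 24 114 115 107 91 24 24 93 108 92 108 120 116 24 7 7 7 0 1 8 8 0 97 8 1 0 1 8 8 8 9 9 9 9 7 7 7 8 8 108 7 12 12 12 8 8 118 8 9) (@D3.rec (fun _ => Nat) 9 9 9 85 13 13 109 9 9 9 62 10 62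 10 9 9 62 62 7 7 7 8 8 110 114 8 8 9 9 112 116 7 7 7 111 8 8 112 14 14 114 8 8 116 65 8 9 9 9 14 14) (@D3.rec (fun _ => Nat) 9 116 9 9 9 10 10 109 10 7 59 59 121 111 111 110 8 8 8 67 8 8 66 66 9 9 9 9 68 9 68 63 68 63 121 69 69 15 109 67 63 63 15 10 10 65 67 11 111 65 9) (@D3.rec (fun _ => Nat) 10 11 109 65 109 113 89 116 115 8 26 25 25 12 12 12 113 124 114 116 13 115 116 115 113 117 0 1 115 0 1 120 110 65 65 118 113 66 25 25 25 25 12 12 12 66 12 66 120 118 116) (@D3.rec (fun _ => Nat) 109 114 116 110 13 13 25 25 25 25 25 25 121 116 114 115 117 120 118 116 109 114 113 115 117 115 115 0 1 0 1 1 41 57 57 25 8 8 122 109 9 9 115 116 95 113 115 116 89 26 26) (@D3.rec (fun _ => Nat) 96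 91 115 111 117 89 71 113 89 113 115 113 89 1 25 25 25 25 25 25 123 117 118 8 8 9 9 111 114 117 69 69 71 71 116 116 25 110 25 108 118 112 112 114 114 111 111 59 59 59 59) (@D3.rec (fun _ => Nat) 8 8 8 8 8 9 9 9 9 114 117 114 9 9 10 121 114 109 1 66 85 10 68 68 71 71 91 123 109 115 115 113 115 115 110 0 1 117 68 68 67 0 1 66 66 68 0 1 26 0 1) (@D3.rec (fun _ => Nat) 68 68 67 113 118 111 0 1 114 0 1 7 7 7 20 8 8 8 113 113 107 66 67 67 65 65 67 67 67 90 8 114 116 0 1 0 1 8 8 20 9 118 118 116 68 69 69 60 69 69 60) (@D3.rec (fun _ => Nat) 60 69 117 0 1 0 1 69 58 69 85 1 71 71 12 118 110 110 115 69 69 68 68 25 25 121 110 112 111 117 115 115 112 117 108 0 1 119 117 117 0 1 113 0 1 7 7 7 110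 8 8) (@D3.rec (fun _ => Nat) 114 86 107 25 25 84 91 25 25 86 86 121 113 91 91 105 0 1 121 115 60 107 7 7 7 111 8 8 8 117 114 114 117 8 21 109 114 25 25 25 25 25 56 25 56 114 117 60 107 119 114) (@D3.rec (fun _ => Nat) 118 8 8 110 110 8 9 9 9 116 114 116 1 14 21 109 25 1 117 90 88 115 114 114 92 115 112 115 89 115 117 114 113 115 26 26 113 113 118 8 117 121 70 117 114 114 0 1 117 112 112) (@D3.rec (fun _ => Nat) 0 1 114 0 1 120 115 115 117 25 25 92 92 92 88 88 88 93 96 92 94 95 90 72 72 121 114 117 115 120 119 110 110 0 115 111 1 115 116 116 0 0 1 120 115 0 0 98 1 0 1) (@D3.rec (fun _ => Nat) 117 118 119 117 115 118 110 119 112 117 115 89 89 25 25 112 112 25 120 25 111 111 90 90 116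 116 122 114 112 119 111 92 118 92 92 93 116 114 116 111 114 122 93 111 93 113 97 113 110 0 118) (@D3.rec (fun _ => Nat) 1 0 1 0 1 1 93 93 93 116 115 115 70 70 119 116 118 116 115 70 70 117 115 115 67 69 0 97 68 1 0 1 69 69 68 119 106 8 8 116 8 9 9 68 116 108 120 113 113 116 8) (@D3.rec (fun _ => Nat) 8 9 9 114 70 70 70 70 70 70 70 72 112 112 8 8 8 9 9 9 115 25 114 94 108 93 113 117 92 25 94 110 93 110 116 8 8 0 97 8 1 9 0 9 99 9 1 1 9 9 9)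
def lv_g_22 : D2 → D3 → Nat := @D2.rec (fun _ => D3 → Nat) (@D3.rec (fun _ => Nat) 9 10 10 10 10 8 8 9 9 110 14 14 9 116 9 9 9 10 10 10 15 109 10 10 62 11 62 62 62 8 8 9 118 9 9 9 10 122 114 8 8 9 9 112 112 14 116 9 114 65 9) (@D3.rec (fun _ => Nat) 65 9 10 10 14 10 10 10 11 118 11 61 61 118 113 112 10 10 67 67 10 9 66 9 66 11 11 11 99 10 68 63 68 63 68 63 69 109 63 11 66 114 115 11 118 112 118 115 26 26 14) (@D3.rec (fun _ => Nat) 113 121 116 116 114 116 115 115 0 1 1 122 67 116 115 26 26 26 14 14 66 66 116 118 114 116 15 15 26 26 26 26 26 121 115 116 115 121 118 116 117 115 117 117 0 1 1 57 57 9 9) (@D3.rec (fun _ => Nat) 119 111 10 115 116 91 27 96 27 120 117 89 122 89 115 115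 26 26 26 26 26 121 118 9 9 10 116 117 69 69 71 121 122 114 112 113 113 61 61 61 61 10 10 9 9 11 11 10 117 10 11) (@D3.rec (fun _ => Nat) 119 116 85 71 71 116 115 113 113 113 108 0 116 1 70 69 0 0 1 68 70 0 0 69 1 0 1 70 70 69 92 115 117 0 1 0 1 8 8 21 8 9 9 115 117 68 68 69 67 69 67) (@D3.rec (fun _ => Nat) 114 69 92 114 0 1 1 9 21 118 69 69 60 60 69 69 60 69 60 69 85 0 1 1 69 85 71 120 112 71 71 70 70 26 26 120 112 112 114 121 117 114 118 0 108 1 117 117 0 116 1) (@D3.rec (fun _ => Nat) 0 1 8 8 115 112 9 9 116 116 26 86 92 26 86 26 86 117 119 93 113 93 107 115 1 113 60 60 107 8 8 113 113 8 9 9 9 108 116 118 22 118 26 26 26 26 26 58 58 114 116) (@D3.rec (fun _ => Nat) 122 120 9 112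 9 112 9 10 10 10 118 115 114 93 118 115 91 117 124 113 27 118 27 113 116 114 0 1 110 112 0 92 96 1 0 1 125 115 117 26 94 26 94 98 90 90 97 90 72 115 117) (@D3.rec (fun _ => Nat) 122 121 108 0 115 110 1 118 0 116 0 1 100 1 122 0 117 0 98 1 1 96 1 117 117 122 119 117 120 118 112 123 90 115 26 120 26 114 113 26 113 113 113 92 116 119 115 121 93 113 93) (@D3.rec (fun _ => Nat) 116 116 114 113 114 116 114 95 119 95 113 97 115 120 1 0 1 1 94 116 115 72 119 116 120 72 116 115 115 71 0 71 97 70 1 1 71 70 70 115 108 9 114 9 10 117 108 121 118 118 9) (@D3.rec (fun _ => Nat) 70 70 70 70 70 70 112 112 9 9 9 10 10 10 117 117 95 119 94 115 93 119 117 94 110 9 0 9 97 9 1 10 99 10 1 99 10 10 10 10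 10 11 11 11 64 11 9 9 10 123 110) (@D3.rec (fun _ => Nat) 14 10 10 10 11 109 11 64 64 64 9 9 10 10 11 122 9 9 10 114 114 114 122 67 10 67 10 11 11 11 116 61 111 109 113 10 69 10 69 10 10 68 68 11 11 11 101 11 70 65 70) (@D3.rec (fun _ => Nat) 65 70 65 114 116 117 27 117 115 118 116 117 115 1 118 27 14 68 14 118 118 116 118 15 27 27 27 122 121 122 126 118 119 117 115 1 59 10 118 11 115 91 118 28 118 91 119 120 27 27 27) (@D3.rec (fun _ => Nat) 120 10 11 121 71 73 123 114 121 113 61 61 61 61 10 10 10 11 11 117 11 119 126 73 117 115 115 115 0 116 1 69 0 69 0 1 107 1 70 0 70 0 69 1 1 93 1 70 69 69 92) (@D3.rec (fun _ => Nat) 115 0 117 1 1 9 22 9 10 115 68 115 68 118 69 67 67 116 92 1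 71 62 71 62 71 109 71 62 71 62 71 87 1 87 120 112 71 70 27 123 120 114 114 118 116 0 118 118 1 117 0) (@D3.rec (fun _ => Nat) 119 119 1 1 9 117 9 112 10 118 116 93 27 88 88 117 120 93 120 93 107 115 120 62 117 109 9 119 9 113 9 10 10 10 108 116 27 27 27 58 115 116 125 120 10 121 10 112 10 11 11) (@D3.rec (fun _ => Nat) 122 118 118 117 94 116 120 91 117 123 28 123 116 0 116 1 119 0 114 94 98 1 1 118 116 27 94 94 98 90 92 124 117 122 118 110 1 114 0 1 0 100 1 121 0 100 1 0 100 1 98) (@D3.rec (fun _ => Nat) 120 120 121 121 117 123 121 27 120 114 113 27 122 115 113 127 124 121 118 118 113 116 116 120 95 121 99 122 99 115 1 113 72 122 122 72 116 116 117 71 99 70 1 119 70 71 70 119 10 123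 124) (@D3.rec (fun _ => Nat) 125 72 72 72 72 72 114 10 10 10 11 11 119 117 117 95 117 108 10 99 10 1 99 10 11 101 11 11 11 11 11 12 64 12 64 10 11 118 11 64 10 11 11 124 10 11 116 118 114 67 11) (@D3.rec (fun _ => Nat) 63 120 12 69 12 69 12 11 68 13 13 101 101 70 65 70 65 122 28 114 121 122 116 121 118 28 16 122 116 17 28 28 119 120 125 119 115 59 11 119 125 29 122 120 28 28 119 11 126 71 119) (@D3.rec (fun _ => Nat) 121 63 63 63 12 11 13 128 120 115 115 120 1 71 0 1 0 109 1 72 0 71 1 0 71 1 93 72 71 94 94 117 1 10 117 70 70 117 71 69 117 116 71 62 71 62 71 119 71 62 71) (@D3.rec (fun _ => Nat) 87 87 122 73 72 28 121 120 123 116 116 116 1 120 117 121 1 118 10 117 114 11 120 28 88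 127 119 118 95 116 119 117 62 118 10 121 10 115 10 11 11 123 110 121 28 28 60 117 123 11 123) (@D3.rec (fun _ => Nat) 11 12 120 120 116 115 123 123 29 118 1 116 94 98 1 94 122 28 96 98 98 119 122 116 0 100 1 102 1 120 0 100 1 98 1 98 121 113 122 121 28 124 117 115 124 115 127 120 121 118 119) (@D3.rec (fun _ => Nat) 116 118 97 122 99 124 116 124 118 118 73 119 72 72 119 121 121 72 72 72 122 11 11 12 117 120 11 99 11 101 12 12 12 66 13 66 11 119 11 11 113 118 128 12 71 12 70 13 101 72 67) (@D3.rec (fun _ => Nat) 123 121 119 16 118 120 114 121 122 120 63 63 12 122 118 71 0 122 1 109 1 72 0 71 1 95 1 95 71 94 123 122 70 122 120 69 117 73 64 73 117 119 64 73 89 119 121 124 121 118 123)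 (@D3.rec (fun _ => Nat) 123 11 119 120 90 126 95 120 123 120 11 123 11 12 122 117 121 123 12 124 127 120 114 123 122 127 96 96 100 121 0 102 1 0 102 1 100 124 124 119 112 120 119 116 101 122 116 121 72 74 12) (@D3.rec (fun _ => Nat) 117 101 12 13 66 119 71 14 100 121 65 118 0 118 1 0 73 1 95 96 72 122 117 64 73 117 89 123 121 118 119 121 121 125 12 119 120 104 100 101 1 1 100 121 118 123 1 1 103 117 122)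
def lv_g : Pt → Nat := @Pt.rec (fun _ => Nat) (@D1.rec (fun _ => D2 → D3 → Nat) lv_g_0 lv_g_1 lv_g_2 lv_g_3 lv_g_4 lv_g_5 lv_g_6 lv_g_7 lv_g_8 lv_g_9 lv_g_10 lv_g_11 lv_g_12 lv_g_13 lv_g_14 lv_g_15 lv_g_16 lv_g_17 lv_g_18 lv_g_19 lv_g_20 lv_g_21 lv_g_22)
abbrev lc_g_Cert_tree : Cert rels S Gen.g := Cert.tree
abbrev lc_g_rc_16_1 : Cert rels S Gen.g := rc_16_1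
abbrev lc_g_rc_16_3 : Cert rels S Gen.g := rc_16_3
abbrev lc_g_rc_24_1 : Cert rels S Gen.g := rc_24_1
abbrev lc_g_rc_24_3 : Cert rels S Gen.g := rc_24_3
abbrev lc_g_rc_31_1 : Cert rels S Gen.g := rc_31_1
abbrev lc_g_rc_31_3 : Cert rels S Gen.g := rc_31_3
abbrev lc_g_rc_37_1 : Cert rels S Gen.g := rc_37_1
abbrev lc_g_rc_37_3 : Cert rels S Gen.g := rc_37_3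
abbrev lc_g_rc_44_1 : Cert rels S Gen.g := rc_44_1
abbrev lc_g_rc_44_3 : Cert rels S Gen.g := rc_44_3
abbrev lc_g_rc_44_5 : Cert rels S Gen.g := rc_44_5
abbrev lc_g_rc_47_0 : Cert rels S Gen.g := rc_47_0
abbrev lc_g_rc_47_2 : Cert rels S Gen.g := rc_47_2
abbrev lc_g_rc_48_0 : Cert rels S Gen.g := rc_48_0
abbrev lc_g_rc_48_1 : Cert rels S Gen.g := rc_48_1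
abbrev lc_g_rc_49_0 : Cert rels S Gen.g := rc_49_0
abbrev lc_g_rc_49_2 : Cert rels S Gen.g := rc_49_2
abbrev lc_g_rc_49_4 : Cert rels S Gen.g := rc_49_4
abbrev lc_g_rc_50_0 : Cert rels S Gen.g := rc_50_0
abbrev lc_g_rc_50_2 : Cert rels S Gen.g := rc_50_2
abbrev lc_g_rc_7_1 : Cert rels S Gen.g := rc_7_1
abbrev lc_g_rc_7_3 : Cert rels S Gen.g := rc_7_3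
abbrev lc_g_sc_6_0 : Cert rels S Gen.g := sc_6_0
def ce_g_0 : D2 → D3 → (Cert rels S Gen.g) := @D2.rec (fun _ => D3 → (Cert rels S Gen.g)) (@D3.rec (fun _ => (Cert rels S Gen.g)) lc_g_sc_6_0 lc_g_Cert_tree lc_g_rc_48_0 lc_g_rc_44_3 lc_g_rc_37_1 lc_g_rc_31_1 lc_g_rc_24_1 lc_g_rc_47_2 lc_g_rc_16_1 lc_g_rc_24_1 lc_g_rc_50_2 lc_g_rc_7_1 lc_g_rc_16_1 lc_g_rc_31_1 lc_g_rc_24_1 lc_g_rc_7_1 lc_g_rc_16_1 lc_g_rc_16_1 lc_g_rc_37_1 lc_g_rc_31_1 lc_g_rc_7_1 lc_g_rc_7_1 lc_g_rc_24_1 lc_g_rc_16_1 lc_g_rc_16_1 lc_g_Cert_tree lc_g_rc_37_1 lc_g_rc_47_2 lc_g_rc_7_1 lc_g_rc_7_1 lc_g_rc_7_1 lc_g_rc_24_1 lc_g_rc_24_1 lc_g_Cert_tree lc_g_rc_16_1 lc_g_rc_16_1 lc_g_rc_48_0 lc_g_rc_50_2 lc_g_rc_47_2 lc_g_rc_16_1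 lc_g_rc_7_1 lc_g_rc_7_1 lc_g_Cert_tree lc_g_rc_7_1 lc_g_rc_7_1 lc_g_rc_31_1 lc_g_Cert_tree lc_g_rc_24_1 lc_g_rc_24_1 lc_g_rc_48_0 lc_g_rc_50_2) (@D3.rec (fun _ => (Cert rels S Gen.g)) lc_g_rc_16_1 lc_g_rc_49_2 lc_g_rc_50_2 lc_g_rc_47_2 lc_g_rc_31_1 lc_g_rc_16_1 lc_g_rc_16_1 lc_g_rc_7_1 lc_g_Cert_tree lc_g_rc_7_1 lc_g_rc_7_1 lc_g_rc_48_0 lc_g_rc_50_2 lc_g_rc_7_1 lc_g_Cert_tree lc_g_rc_44_5 lc_g_rc_31_1 lc_g_rc_48_0 lc_g_rc_50_2 lc_g_rc_24_1 lc_g_rc_31_1 lc_g_rc_16_1 lc_g_rc_50_2 lc_g_rc_47_2 lc_g_rc_31_1 lc_g_rc_49_2 lc_g_rc_47_2 lc_g_rc_31_1 lc_g_rc_24_1 lc_g_rc_16_1 lc_g_Cert_tree lc_g_rc_16_1 lc_g_rc_16_1 lc_g_Cert_tree lc_g_rc_7_1 lc_g_rc_7_1 lc_g_rc_48_0 lc_g_rc_50_2 lc_g_rc_7_1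 lc_g_rc_7_1 lc_g_rc_7_1 lc_g_rc_50_2 lc_g_rc_47_2 lc_g_rc_7_1 lc_g_Cert_tree lc_g_rc_48_0 lc_g_rc_48_1 lc_g_rc_50_2 lc_g_rc_50_2 lc_g_rc_44_5 lc_g_rc_24_1) (@D3.rec (fun _ => (Cert rels S Gen.g)) lc_g_rc_50_2 lc_g_rc_47_2 lc_g_rc_31_1 lc_g_rc_37_1 lc_g_rc_16_1 lc_g_rc_47_2 lc_g_rc_31_1 lc_g_rc_24_1 lc_g_rc_47_2 lc_g_rc_31_1 lc_g_rc_24_1 lc_g_rc_37_1 lc_g_rc_16_1 lc_g_rc_24_1 lc_g_Cert_tree lc_g_rc_16_1 lc_g_rc_16_1 lc_g_rc_48_0 lc_g_rc_50_2 lc_g_rc_16_1 lc_g_rc_16_1 lc_g_Cert_tree lc_g_rc_48_0 lc_g_rc_48_1 lc_g_rc_50_2 lc_g_rc_7_1 lc_g_rc_7_1 lc_g_rc_7_1 lc_g_rc_50_2 lc_g_rc_47_2 lc_g_rc_7_1 lc_g_rc_7_1 lc_g_rc_7_1 lc_g_rc_47_2 lc_g_rc_31_1 lc_g_rc_24_1 lc_g_rc_48_0 lc_g_rc_48_1 lc_g_rc_50_2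 lc_g_rc_31_1 lc_g_rc_47_2 lc_g_rc_50_2 lc_g_rc_50_2 lc_g_rc_47_2 lc_g_rc_50_2 lc_g_rc_47_2 lc_g_rc_24_1 lc_g_rc_47_2 lc_g_rc_31_1 lc_g_rc_24_1 lc_g_rc_37_1) (@D3.rec (fun _ => (Cert rels S Gen.g)) lc_g_Cert_tree lc_g_rc_47_2 lc_g_rc_31_1 lc_g_rc_24_1 lc_g_rc_37_1 lc_g_rc_16_1 lc_g_rc_49_2 lc_g_rc_24_1 lc_g_rc_37_1 lc_g_rc_16_1 lc_g_rc_24_1 lc_g_rc_7_1 lc_g_Cert_tree lc_g_rc_24_1 lc_g_rc_24_1 lc_g_Cert_tree lc_g_rc_48_0 lc_g_rc_48_1 lc_g_rc_50_2 lc_g_rc_16_1 lc_g_rc_16_1 lc_g_rc_16_1 lc_g_rc_50_2 lc_g_rc_47_2 lc_g_rc_16_1 lc_g_rc_24_1 lc_g_rc_16_1 lc_g_rc_48_0 lc_g_rc_48_1 lc_g_rc_50_2 lc_g_rc_7_1 lc_g_rc_47_2 lc_g_rc_50_2 lc_g_rc_50_2 lc_g_rc_47_2 lc_g_rc_7_1 lc_g_rc_7_1 lc_g_rc_7_1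 lc_g_rc_47_2 lc_g_rc_31_1 lc_g_rc_24_1 lc_g_rc_7_1 lc_g_Cert_tree lc_g_rc_7_1 lc_g_rc_31_1 lc_g_rc_24_1 lc_g_rc_37_1 lc_g_rc_16_1 lc_g_rc_44_3 lc_g_rc_37_1 lc_g_rc_47_2) (@D3.rec (fun _ => (Cert rels S Gen.g)) lc_g_rc_50_2 lc_g_rc_31_1 lc_g_rc_50_2 lc_g_rc_47_2 lc_g_rc_47_2 lc_g_rc_31_1 lc_g_rc_50_2 lc_g_rc_47_2 lc_g_rc_47_2 lc_g_rc_31_1 lc_g_rc_50_2 lc_g_rc_24_1 lc_g_rc_47_2 lc_g_rc_47_2 lc_g_rc_31_1 lc_g_rc_24_1 lc_g_rc_37_1 lc_g_rc_16_1 lc_g_rc_24_1 lc_g_Cert_tree lc_g_rc_48_0 lc_g_rc_49_2 lc_g_rc_24_1 lc_g_rc_37_1 lc_g_rc_16_1 lc_g_rc_24_1 lc_g_rc_7_1 lc_g_rc_24_1 lc_g_rc_49_2 lc_g_rc_16_1 lc_g_rc_24_1 lc_g_rc_44_3 lc_g_rc_7_1 lc_g_rc_16_1 lc_g_rc_31_1 lc_g_Cert_tree lc_g_rc_48_0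 lc_g_rc_48_1 lc_g_rc_50_2 lc_g_rc_31_1 lc_g_rc_24_1 lc_g_rc_24_1 lc_g_rc_48_0 lc_g_rc_48_1 lc_g_rc_50_2 lc_g_rc_16_1 lc_g_rc_47_2 lc_g_rc_50_2 lc_g_rc_50_2 lc_g_rc_47_2 lc_g_rc_16_1) (@D3.rec (fun _ => (Cert rels S Gen.g)) lc_g_rc_16_1 lc_g_rc_16_1 lc_g_rc_47_2 lc_g_rc_31_1 lc_g_rc_24_1 lc_g_rc_16_1 lc_g_rc_24_1 lc_g_Cert_tree lc_g_rc_7_1 lc_g_rc_7_1 lc_g_rc_47_2 lc_g_rc_50_2 lc_g_rc_31_1 lc_g_rc_50_2 lc_g_rc_47_2 lc_g_rc_7_1 lc_g_rc_7_1 lc_g_rc_50_2 lc_g_rc_47_2 lc_g_rc_47_2 lc_g_rc_31_1 lc_g_rc_7_1 lc_g_rc_24_1 lc_g_rc_7_1 lc_g_rc_7_1 lc_g_rc_31_1 lc_g_rc_24_1 lc_g_rc_37_1 lc_g_rc_16_1 lc_g_rc_24_1 lc_g_Cert_tree lc_g_rc_48_0 lc_g_rc_7_1 lc_g_rc_24_1 lc_g_rc_37_1 lc_g_rc_16_1 lc_g_rc_24_1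 lc_g_rc_7_1 lc_g_Cert_tree lc_g_rc_44_3 lc_g_rc_44_3 lc_g_rc_47_2 lc_g_rc_37_1 lc_g_rc_31_1 lc_g_rc_50_2 lc_g_rc_47_2 lc_g_rc_24_1 lc_g_rc_50_2 lc_g_rc_47_2 lc_g_rc_31_1 lc_g_rc_50_2) (@D3.rec (fun _ => (Cert rels S Gen.g)) lc_g_rc_47_2 lc_g_rc_47_2 lc_g_rc_31_1 lc_g_rc_31_1 lc_g_rc_24_1 lc_g_rc_37_1 lc_g_rc_24_1 lc_g_rc_50_2 lc_g_rc_16_1 lc_g_rc_24_1 lc_g_Cert_tree lc_g_rc_49_2 lc_g_rc_24_1 lc_g_rc_37_1 lc_g_rc_16_1 lc_g_rc_24_1 lc_g_Cert_tree lc_g_rc_7_1 lc_g_rc_16_1 lc_g_Cert_tree lc_g_rc_48_0 lc_g_rc_49_2 lc_g_rc_24_1 lc_g_rc_49_2 lc_g_rc_16_1 lc_g_rc_24_1 lc_g_rc_44_3 lc_g_rc_7_1 lc_g_rc_16_1 lc_g_rc_31_1 lc_g_rc_16_1 lc_g_rc_24_1 lc_g_Cert_tree lc_g_rc_7_1 lc_g_rc_16_1 lc_g_rc_31_1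 lc_g_rc_24_1 lc_g_rc_7_1 lc_g_rc_16_1 lc_g_rc_47_2 lc_g_Cert_tree lc_g_rc_48_0 lc_g_rc_48_1 lc_g_rc_50_2 lc_g_rc_24_1 lc_g_rc_47_2 lc_g_rc_50_2 lc_g_rc_31_1 lc_g_rc_50_2 lc_g_rc_47_2 lc_g_rc_37_1) (@D3.rec (fun _ => (Cert rels S Gen.g)) lc_g_rc_31_1 lc_g_rc_24_1 lc_g_rc_31_1 lc_g_rc_16_1 lc_g_rc_16_1 lc_g_rc_47_2 lc_g_rc_50_2 lc_g_rc_31_1 lc_g_rc_50_2 lc_g_rc_47_2 lc_g_rc_16_1 lc_g_rc_16_1 lc_g_rc_50_2 lc_g_rc_47_2 lc_g_rc_47_2 lc_g_rc_31_1 lc_g_rc_16_1 lc_g_rc_24_1 lc_g_rc_16_1 lc_g_rc_16_1 lc_g_rc_31_1 lc_g_rc_24_1 lc_g_rc_37_1 lc_g_rc_16_1 lc_g_rc_24_1 lc_g_Cert_tree lc_g_rc_31_1 lc_g_Cert_tree lc_g_rc_48_0 lc_g_Cert_tree lc_g_rc_7_1 lc_g_rc_7_1 lc_g_rc_7_1 lc_g_rc_7_1 lc_g_rc_31_1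 lc_g_rc_50_2 lc_g_rc_47_2 lc_g_rc_24_1 lc_g_rc_50_2 lc_g_rc_47_2 lc_g_rc_31_1 lc_g_rc_7_1 lc_g_rc_7_1 lc_g_rc_47_2 lc_g_rc_31_1 lc_g_rc_31_1 lc_g_rc_24_1 lc_g_rc_37_1 lc_g_rc_24_1 lc_g_rc_7_1 lc_g_rc_16_1) (@D3.rec (fun _ => (Cert rels S Gen.g)) lc_g_rc_24_1 lc_g_Cert_tree lc_g_rc_7_1 lc_g_rc_24_1 lc_g_rc_37_1 lc_g_rc_16_1 lc_g_rc_24_1 lc_g_Cert_tree lc_g_rc_7_1 lc_g_rc_16_1 lc_g_Cert_tree lc_g_rc_48_0 lc_g_rc_7_1 lc_g_rc_24_1 lc_g_rc_7_1 lc_g_rc_16_1 lc_g_rc_24_1 lc_g_rc_7_1 lc_g_rc_7_1 lc_g_rc_16_1 lc_g_rc_31_1 lc_g_rc_48_0 lc_g_rc_48_1 lc_g_rc_50_2 lc_g_rc_31_1 lc_g_rc_50_2 lc_g_rc_44_3 lc_g_rc_31_1 lc_g_rc_50_2 lc_g_rc_47_2 lc_g_rc_24_1 lc_g_rc_50_2 lc_g_rc_47_2 lc_g_rc_31_1 lc_g_rc_16_1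 lc_g_rc_24_1 lc_g_rc_47_2 lc_g_rc_31_1 lc_g_rc_24_1 lc_g_rc_37_1 lc_g_rc_50_2 lc_g_rc_31_1 lc_g_rc_31_1 lc_g_rc_24_1 lc_g_rc_37_1 lc_g_rc_24_1 lc_g_rc_37_1 lc_g_rc_16_1 lc_g_rc_24_1 lc_g_Cert_tree lc_g_rc_16_1) (@D3.rec (fun _ => (Cert rels S Gen.g)) lc_g_rc_24_1 lc_g_Cert_tree lc_g_rc_7_1 lc_g_rc_16_1 lc_g_rc_31_1 lc_g_Cert_tree lc_g_rc_48_0 lc_g_rc_24_1 lc_g_rc_49_2 lc_g_rc_16_1 lc_g_rc_24_1 lc_g_Cert_tree lc_g_rc_7_1 lc_g_rc_16_1 lc_g_rc_31_1 lc_g_Cert_tree lc_g_rc_48_0 lc_g_rc_7_1 lc_g_Cert_tree lc_g_rc_48_0 lc_g_rc_49_2 lc_g_rc_16_1 lc_g_rc_24_1 lc_g_Cert_tree lc_g_rc_7_1 lc_g_rc_16_1 lc_g_rc_31_1 lc_g_rc_24_1 lc_g_rc_7_1 lc_g_rc_16_1 lc_g_rc_47_2 lc_g_rc_7_1 lc_g_rc_16_1 lc_g_rc_31_1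 lc_g_Cert_tree lc_g_rc_48_0 lc_g_rc_7_1 lc_g_rc_16_1 lc_g_rc_16_1 lc_g_rc_31_1 lc_g_rc_47_2 lc_g_rc_7_1 lc_g_rc_48_0 lc_g_rc_50_2 lc_g_rc_24_1 lc_g_rc_24_1 lc_g_rc_47_2 lc_g_rc_50_2 lc_g_rc_50_2 lc_g_rc_47_2 lc_g_rc_24_1) (@D3.rec (fun _ => (Cert rels S Gen.g)) lc_g_rc_24_1 lc_g_rc_31_1 lc_g_rc_50_2 lc_g_rc_47_2 lc_g_rc_50_2 lc_g_rc_47_2 lc_g_rc_31_1 lc_g_rc_37_1 lc_g_rc_44_5 lc_g_rc_31_1 lc_g_rc_31_1 lc_g_rc_37_1 lc_g_Cert_tree lc_g_rc_16_1 lc_g_rc_16_1 lc_g_rc_16_1 lc_g_rc_16_1 lc_g_rc_31_1 lc_g_rc_50_2 lc_g_rc_47_2 lc_g_rc_50_2 lc_g_rc_47_2 lc_g_rc_31_1 lc_g_rc_16_1 lc_g_rc_16_1 lc_g_rc_47_2 lc_g_rc_31_1 lc_g_rc_31_1 lc_g_rc_24_1 lc_g_rc_37_1 lc_g_rc_24_1 lc_g_rc_16_1 lc_g_rc_16_1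 lc_g_rc_24_1 lc_g_Cert_tree lc_g_rc_16_1 lc_g_rc_24_1 lc_g_rc_37_1 lc_g_rc_16_1 lc_g_rc_24_1 lc_g_Cert_tree lc_g_rc_7_1 lc_g_rc_16_1 lc_g_rc_31_1 lc_g_Cert_tree lc_g_rc_48_0 lc_g_Cert_tree lc_g_rc_44_5 lc_g_rc_48_0 lc_g_rc_16_1 lc_g_rc_48_0) (@D3.rec (fun _ => (Cert rels S Gen.g)) lc_g_rc_48_1 lc_g_rc_50_2 lc_g_rc_31_1 lc_g_rc_7_1 lc_g_rc_7_1 lc_g_rc_31_1 lc_g_rc_7_1 lc_g_rc_7_1 lc_g_rc_24_1 lc_g_rc_50_2 lc_g_rc_47_2 lc_g_rc_31_1 lc_g_rc_24_1 lc_g_rc_47_2 lc_g_rc_31_1 lc_g_rc_24_1 lc_g_rc_37_1 lc_g_rc_7_1 lc_g_rc_31_1 lc_g_rc_31_1 lc_g_rc_24_1 lc_g_rc_37_1 lc_g_rc_24_1 lc_g_rc_37_1 lc_g_rc_16_1 lc_g_rc_24_1 lc_g_Cert_tree lc_g_rc_16_1 lc_g_rc_24_1 lc_g_Cert_tree lc_g_rc_7_1 lc_g_rc_16_1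 lc_g_rc_31_1 lc_g_Cert_tree lc_g_rc_48_0 lc_g_rc_24_1 lc_g_rc_7_1 lc_g_rc_16_1 lc_g_rc_24_1 lc_g_Cert_tree lc_g_rc_7_1 lc_g_rc_16_1 lc_g_rc_31_1 lc_g_Cert_tree lc_g_rc_48_0 lc_g_rc_7_1 lc_g_Cert_tree lc_g_rc_48_0 lc_g_rc_7_1 lc_g_rc_16_1 lc_g_rc_24_1) (@D3.rec (fun _ => (Cert rels S Gen.g)) lc_g_Cert_tree lc_g_rc_7_1 lc_g_rc_16_1 lc_g_rc_31_1 lc_g_rc_24_1 lc_g_rc_7_1 lc_g_rc_16_1 lc_g_rc_47_2 lc_g_rc_47_2 lc_g_rc_50_2 lc_g_rc_31_1 lc_g_rc_50_2 lc_g_rc_47_2 lc_g_rc_24_1 lc_g_rc_37_1 lc_g_rc_31_1 lc_g_rc_50_2 lc_g_rc_31_1 lc_g_rc_24_1 lc_g_rc_31_1 lc_g_rc_50_2 lc_g_rc_31_1 lc_g_rc_16_1 lc_g_rc_24_1 lc_g_rc_47_2 lc_g_rc_31_1 lc_g_rc_24_1 lc_g_rc_37_1 lc_g_rc_31_1 lc_g_rc_24_1 lc_g_rc_37_1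 lc_g_rc_16_1 lc_g_rc_24_1 lc_g_Cert_tree lc_g_rc_31_1 lc_g_rc_47_2 lc_g_rc_37_1 lc_g_rc_24_1 lc_g_rc_37_1 lc_g_rc_16_1 lc_g_rc_24_1 lc_g_Cert_tree lc_g_rc_16_1 lc_g_rc_24_1 lc_g_Cert_tree lc_g_rc_7_1 lc_g_rc_16_1 lc_g_rc_31_1 lc_g_Cert_tree lc_g_rc_48_0 lc_g_rc_7_1) (@D3.rec (fun _ => (Cert rels S Gen.g)) lc_g_rc_16_1 lc_g_rc_31_1 lc_g_Cert_tree lc_g_rc_48_0 lc_g_rc_7_1 lc_g_rc_16_1 lc_g_Cert_tree lc_g_Cert_tree lc_g_rc_48_0 lc_g_rc_47_2 lc_g_rc_16_1 lc_g_rc_24_1 lc_g_Cert_tree lc_g_rc_7_1 lc_g_rc_16_1 lc_g_rc_31_1 lc_g_Cert_tree lc_g_rc_48_0 lc_g_rc_7_1 lc_g_rc_16_1 lc_g_Cert_tree lc_g_Cert_tree lc_g_rc_44_5 lc_g_rc_48_0 lc_g_rc_49_2 lc_g_Cert_tree lc_g_rc_48_0 lc_g_rc_24_1 lc_g_rc_7_1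 lc_g_rc_16_1 lc_g_rc_31_1 lc_g_Cert_tree lc_g_rc_48_0 lc_g_rc_7_1 lc_g_rc_16_1 lc_g_rc_16_1 lc_g_rc_31_1 lc_g_rc_47_2 lc_g_rc_7_1 lc_g_rc_7_1 lc_g_rc_16_1 lc_g_Cert_tree lc_g_Cert_tree lc_g_rc_47_2 lc_g_rc_48_0 lc_g_rc_7_1 lc_g_rc_7_1 lc_g_rc_16_1 lc_g_rc_37_1 lc_g_rc_44_3 lc_g_rc_31_1) (@D3.rec (fun _ => (Cert rels S Gen.g)) lc_g_rc_31_1 lc_g_rc_50_2 lc_g_rc_47_2 lc_g_Cert_tree lc_g_rc_24_1 lc_g_rc_24_1 lc_g_rc_24_1 lc_g_rc_24_1 lc_g_rc_50_2 lc_g_rc_47_2 lc_g_rc_47_2 lc_g_rc_31_1 lc_g_rc_31_1 lc_g_rc_24_1 lc_g_rc_24_1 lc_g_rc_50_2 lc_g_rc_47_2 lc_g_rc_31_1 lc_g_rc_47_2 lc_g_rc_31_1 lc_g_rc_24_1 lc_g_rc_37_1 lc_g_rc_47_2 lc_g_rc_44_5 lc_g_rc_31_1 lc_g_rc_37_1 lc_g_rc_16_1 lc_g_rc_37_1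 lc_g_Cert_tree lc_g_rc_48_0 lc_g_rc_48_1 lc_g_rc_50_2 lc_g_rc_31_1 lc_g_rc_16_1 lc_g_rc_16_1 lc_g_rc_31_1 lc_g_rc_16_1 lc_g_rc_16_1 lc_g_rc_50_2 lc_g_rc_47_2 lc_g_rc_31_1 lc_g_rc_47_2 lc_g_rc_31_1 lc_g_rc_24_1 lc_g_rc_37_1 lc_g_rc_16_1 lc_g_rc_31_1 lc_g_rc_31_1 lc_g_rc_24_1 lc_g_rc_37_1 lc_g_rc_24_1) (@D3.rec (fun _ => (Cert rels S Gen.g)) lc_g_rc_37_1 lc_g_rc_16_1 lc_g_rc_24_1 lc_g_Cert_tree lc_g_rc_16_1 lc_g_rc_24_1 lc_g_Cert_tree lc_g_rc_7_1 lc_g_rc_16_1 lc_g_rc_31_1 lc_g_Cert_tree lc_g_rc_48_0 lc_g_rc_24_1 lc_g_rc_16_1 lc_g_rc_16_1 lc_g_rc_24_1 lc_g_Cert_tree lc_g_rc_7_1 lc_g_rc_16_1 lc_g_rc_31_1 lc_g_Cert_tree lc_g_rc_48_0 lc_g_rc_7_1 lc_g_rc_16_1 lc_g_Cert_tree lc_g_Cert_tree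 lc_g_rc_44_5 lc_g_rc_48_0 lc_g_rc_16_1 lc_g_Cert_tree lc_g_rc_48_0 lc_g_rc_48_1 lc_g_rc_50_2 lc_g_rc_24_1 lc_g_rc_47_2 lc_g_rc_50_2 lc_g_rc_31_1 lc_g_rc_50_2 lc_g_rc_47_2 lc_g_rc_24_1 lc_g_rc_37_1 lc_g_rc_31_1 lc_g_rc_7_1 lc_g_rc_31_1 lc_g_rc_24_1 lc_g_rc_31_1 lc_g_rc_7_1 lc_g_rc_31_1 lc_g_rc_24_1 lc_g_rc_47_2 lc_g_rc_31_1) (@D3.rec (fun _ => (Cert rels S Gen.g)) lc_g_rc_24_1 lc_g_rc_37_1 lc_g_rc_31_1 lc_g_rc_24_1 lc_g_rc_37_1 lc_g_rc_16_1 lc_g_rc_24_1 lc_g_Cert_tree lc_g_rc_31_1 lc_g_rc_47_2 lc_g_rc_37_1 lc_g_rc_24_1 lc_g_rc_37_1 lc_g_rc_16_1 lc_g_rc_24_1 lc_g_Cert_tree lc_g_rc_16_1 lc_g_rc_24_1 lc_g_Cert_tree lc_g_rc_7_1 lc_g_rc_16_1 lc_g_rc_31_1 lc_g_Cert_tree lc_g_rc_48_0 lc_g_rc_7_1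 lc_g_rc_16_1 lc_g_rc_31_1 lc_g_Cert_tree lc_g_rc_48_0 lc_g_rc_7_1 lc_g_rc_16_1 lc_g_Cert_tree lc_g_Cert_tree lc_g_rc_48_0 lc_g_rc_47_2 lc_g_rc_16_1 lc_g_rc_24_1 lc_g_Cert_tree lc_g_rc_7_1 lc_g_rc_16_1 lc_g_rc_31_1 lc_g_Cert_tree lc_g_rc_48_0 lc_g_rc_7_1 lc_g_rc_16_1 lc_g_Cert_tree lc_g_Cert_tree lc_g_rc_44_5 lc_g_rc_48_0 lc_g_rc_7_1 lc_g_Cert_tree) (@D3.rec (fun _ => (Cert rels S Gen.g)) lc_g_rc_48_0 lc_g_rc_24_1 lc_g_rc_7_1 lc_g_rc_16_1 lc_g_rc_31_1 lc_g_Cert_tree lc_g_rc_48_0 lc_g_rc_7_1 lc_g_rc_16_1 lc_g_rc_16_1 lc_g_rc_31_1 lc_g_rc_47_2 lc_g_rc_7_1 lc_g_rc_24_1 lc_g_rc_16_1 lc_g_rc_50_2 lc_g_rc_31_1 lc_g_rc_50_2 lc_g_rc_47_2 lc_g_rc_24_1 lc_g_rc_37_1 lc_g_rc_50_2 lc_g_rc_47_2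 lc_g_rc_31_1 lc_g_rc_16_1 lc_g_rc_24_1 lc_g_rc_24_1 lc_g_rc_37_1 lc_g_rc_44_3 lc_g_rc_31_1 lc_g_rc_24_1 lc_g_rc_37_1 lc_g_rc_16_1 lc_g_rc_24_1 lc_g_rc_47_2 lc_g_rc_31_1 lc_g_rc_24_1 lc_g_rc_37_1 lc_g_rc_31_1 lc_g_rc_24_1 lc_g_rc_37_1 lc_g_rc_16_1 lc_g_rc_24_1 lc_g_Cert_tree lc_g_rc_37_1 lc_g_rc_24_1 lc_g_Cert_tree lc_g_rc_16_1 lc_g_rc_31_1 lc_g_Cert_tree lc_g_rc_48_0) (@D3.rec (fun _ => (Cert rels S Gen.g)) lc_g_rc_49_2 lc_g_rc_37_1 lc_g_rc_16_1 lc_g_rc_47_2 lc_g_Cert_tree lc_g_rc_16_1 lc_g_rc_24_1 lc_g_Cert_tree lc_g_rc_7_1 lc_g_rc_16_1 lc_g_rc_31_1 lc_g_Cert_tree lc_g_rc_48_0 lc_g_rc_7_1 lc_g_rc_16_1 lc_g_rc_31_1 lc_g_Cert_tree lc_g_rc_48_0 lc_g_rc_7_1 lc_g_rc_16_1 lc_g_Cert_tree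 lc_g_Cert_tree lc_g_rc_44_5 lc_g_rc_48_0 lc_g_rc_47_2 lc_g_rc_7_1 lc_g_rc_16_1 lc_g_Cert_tree lc_g_Cert_tree lc_g_rc_47_2 lc_g_rc_48_0 lc_g_rc_49_2 lc_g_rc_7_1 lc_g_Cert_tree lc_g_rc_24_1 lc_g_Cert_tree lc_g_rc_48_0 lc_g_Cert_tree lc_g_rc_48_0 lc_g_rc_47_2 lc_g_rc_7_1 lc_g_rc_16_1 lc_g_rc_31_1 lc_g_Cert_tree lc_g_rc_48_0 lc_g_rc_7_1 lc_g_rc_16_1 lc_g_Cert_tree lc_g_Cert_tree lc_g_rc_44_5 lc_g_rc_48_0) (@D3.rec (fun _ => (Cert rels S Gen.g)) lc_g_rc_49_2 lc_g_rc_7_1 lc_g_Cert_tree lc_g_Cert_tree lc_g_rc_48_0 lc_g_rc_48_0 lc_g_rc_48_1 lc_g_rc_24_1 lc_g_rc_48_0 lc_g_rc_16_1 lc_g_rc_7_1 lc_g_rc_16_1 lc_g_Cert_tree lc_g_Cert_tree lc_g_rc_47_2 lc_g_rc_48_0 lc_g_rc_7_1 lc_g_rc_7_1 lc_g_rc_16_1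 lc_g_rc_37_1 lc_g_rc_44_3 lc_g_rc_7_1 lc_g_Cert_tree lc_g_Cert_tree lc_g_rc_48_0 lc_g_Cert_tree lc_g_rc_48_0 lc_g_rc_48_1 lc_g_rc_7_1 lc_g_rc_16_1 lc_g_rc_47_2 lc_g_rc_37_1 lc_g_Cert_tree lc_g_rc_31_1 lc_g_rc_31_1 lc_g_rc_47_2 lc_g_rc_31_1 lc_g_rc_48_0 lc_g_rc_48_1 lc_g_rc_50_2 lc_g_rc_24_1 lc_g_rc_24_1 lc_g_rc_24_1 lc_g_rc_24_1 lc_g_rc_47_2 lc_g_rc_31_1 lc_g_rc_31_1 lc_g_rc_24_1 lc_g_rc_37_1 lc_g_rc_31_1 lc_g_rc_24_1) (@D3.rec (fun _ => (Cert rels S Gen.g)) lc_g_rc_31_1 lc_g_rc_47_2 lc_g_rc_31_1 lc_g_rc_24_1 lc_g_rc_37_1 lc_g_rc_31_1 lc_g_rc_24_1 lc_g_rc_37_1 lc_g_rc_16_1 lc_g_rc_24_1 lc_g_Cert_tree lc_g_rc_31_1 lc_g_rc_47_2 lc_g_rc_47_2 lc_g_rc_16_1 lc_g_rc_37_1 lc_g_Cert_tree lc_g_rc_7_1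 lc_g_rc_16_1 lc_g_rc_37_1 lc_g_Cert_tree lc_g_rc_48_0 lc_g_rc_47_2 lc_g_rc_50_2 lc_g_rc_31_1 lc_g_rc_50_2 lc_g_rc_47_2 lc_g_rc_37_1 lc_g_rc_31_1 lc_g_rc_16_1 lc_g_rc_31_1 lc_g_rc_31_1 lc_g_rc_16_1 lc_g_rc_31_1 lc_g_rc_47_2 lc_g_rc_31_1 lc_g_rc_24_1 lc_g_rc_37_1 lc_g_rc_31_1 lc_g_rc_24_1 lc_g_rc_37_1 lc_g_rc_16_1 lc_g_rc_24_1 lc_g_Cert_tree lc_g_rc_31_1 lc_g_rc_47_2 lc_g_rc_37_1 lc_g_rc_24_1 lc_g_rc_37_1 lc_g_rc_16_1 lc_g_rc_24_1) (@D3.rec (fun _ => (Cert rels S Gen.g)) lc_g_Cert_tree lc_g_rc_16_1 lc_g_rc_24_1 lc_g_Cert_tree lc_g_rc_7_1 lc_g_rc_16_1 lc_g_rc_31_1 lc_g_Cert_tree lc_g_rc_48_0 lc_g_rc_7_1 lc_g_rc_16_1 lc_g_rc_31_1 lc_g_Cert_tree lc_g_rc_48_0 lc_g_rc_7_1 lc_g_rc_16_1 lc_g_Cert_tree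 lc_g_Cert_tree lc_g_rc_47_2 lc_g_rc_48_0 lc_g_rc_47_2 lc_g_rc_16_1 lc_g_rc_24_1 lc_g_Cert_tree lc_g_rc_7_1 lc_g_rc_16_1 lc_g_rc_31_1 lc_g_Cert_tree lc_g_rc_48_0 lc_g_rc_7_1 lc_g_rc_16_1 lc_g_Cert_tree lc_g_Cert_tree lc_g_rc_44_5 lc_g_rc_48_0 lc_g_rc_16_1 lc_g_rc_7_1 lc_g_Cert_tree lc_g_Cert_tree lc_g_rc_16_1 lc_g_rc_48_0 lc_g_Cert_tree lc_g_rc_48_0 lc_g_rc_48_1 lc_g_rc_50_2 lc_g_rc_24_1 lc_g_rc_48_0 lc_g_rc_48_1 lc_g_rc_31_1 lc_g_rc_47_2 lc_g_rc_50_2) (@D3.rec (fun _ => (Cert rels S Gen.g)) lc_g_rc_31_1 lc_g_rc_50_2 lc_g_rc_47_2 lc_g_rc_24_1 lc_g_rc_37_1 lc_g_rc_50_2 lc_g_rc_47_2 lc_g_rc_31_1 lc_g_rc_24_1 lc_g_rc_24_1 lc_g_rc_37_1 lc_g_rc_44_3 lc_g_rc_31_1 lc_g_rc_24_1 lc_g_rc_37_1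 lc_g_rc_24_1 lc_g_rc_47_2 lc_g_rc_31_1 lc_g_rc_24_1 lc_g_rc_37_1 lc_g_rc_31_1 lc_g_rc_24_1 lc_g_rc_37_1 lc_g_rc_16_1 lc_g_rc_24_1 lc_g_Cert_tree lc_g_rc_37_1 lc_g_rc_16_1 lc_g_rc_24_1 lc_g_Cert_tree lc_g_rc_7_1 lc_g_rc_16_1 lc_g_rc_31_1 lc_g_Cert_tree lc_g_rc_48_0 lc_g_rc_49_2 lc_g_rc_37_1 lc_g_rc_16_1 lc_g_rc_47_2 lc_g_Cert_tree lc_g_rc_16_1 lc_g_rc_24_1 lc_g_Cert_tree lc_g_rc_7_1 lc_g_rc_16_1 lc_g_rc_31_1 lc_g_Cert_tree lc_g_rc_48_0 lc_g_rc_7_1 lc_g_rc_16_1 lc_g_rc_31_1) (@D3.rec (fun _ => (Cert rels S Gen.g)) lc_g_Cert_tree lc_g_rc_48_0 lc_g_rc_7_1 lc_g_rc_16_1 lc_g_Cert_tree lc_g_Cert_tree lc_g_rc_44_5 lc_g_rc_48_0 lc_g_rc_47_2 lc_g_rc_7_1 lc_g_rc_16_1 lc_g_Cert_tree lc_g_Cert_tree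 lc_g_rc_47_2 lc_g_rc_48_0 lc_g_rc_49_2 lc_g_rc_7_1 lc_g_Cert_tree lc_g_rc_24_1 lc_g_Cert_tree lc_g_rc_48_0 lc_g_Cert_tree lc_g_rc_48_0 lc_g_rc_47_2 lc_g_rc_7_1 lc_g_rc_16_1 lc_g_rc_31_1 lc_g_Cert_tree lc_g_rc_48_0 lc_g_rc_7_1 lc_g_rc_16_1 lc_g_Cert_tree lc_g_Cert_tree lc_g_rc_44_5 lc_g_rc_48_0 lc_g_rc_49_2 lc_g_rc_7_1 lc_g_Cert_tree lc_g_rc_24_1 lc_g_Cert_tree lc_g_rc_16_1 lc_g_rc_48_0 lc_g_rc_48_0 lc_g_rc_48_1 lc_g_rc_50_2 lc_g_rc_24_1 lc_g_rc_48_0 lc_g_rc_16_1 lc_g_rc_7_1 lc_g_rc_16_1 lc_g_Cert_tree) (@D3.rec (fun _ => (Cert rels S Gen.g)) lc_g_Cert_tree lc_g_rc_47_2 lc_g_rc_48_0 lc_g_rc_7_1 lc_g_rc_7_1 lc_g_rc_24_1 lc_g_rc_16_1 lc_g_rc_16_1 lc_g_rc_37_1 lc_g_rc_44_3 lc_g_rc_50_2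 lc_g_rc_7_1 lc_g_rc_24_1 lc_g_rc_24_1 lc_g_rc_37_1 lc_g_rc_50_2 lc_g_rc_47_2 lc_g_rc_31_1 lc_g_rc_16_1 lc_g_rc_24_1 lc_g_rc_24_1 lc_g_rc_50_2 lc_g_rc_47_2 lc_g_rc_31_1 lc_g_rc_24_1 lc_g_rc_37_1 lc_g_rc_16_1 lc_g_rc_31_1 lc_g_rc_24_1 lc_g_rc_47_2 lc_g_rc_44_3 lc_g_rc_24_1 lc_g_rc_37_1 lc_g_rc_16_1 lc_g_rc_24_1 lc_g_Cert_tree lc_g_rc_47_2 lc_g_rc_24_1 lc_g_rc_37_1 lc_g_rc_16_1 lc_g_rc_24_1 lc_g_Cert_tree lc_g_rc_37_1 lc_g_rc_24_1 lc_g_Cert_tree lc_g_rc_16_1 lc_g_rc_31_1 lc_g_Cert_tree lc_g_rc_48_0 lc_g_Cert_tree lc_g_rc_31_1) (@D3.rec (fun _ => (Cert rels S Gen.g)) lc_g_Cert_tree lc_g_rc_48_0 lc_g_rc_16_1 lc_g_Cert_tree lc_g_Cert_tree lc_g_rc_44_5 lc_g_rc_48_0 lc_g_rc_49_2 lc_g_rc_16_1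 lc_g_rc_49_2 lc_g_Cert_tree lc_g_rc_7_1 lc_g_rc_16_1 lc_g_rc_49_2 lc_g_Cert_tree lc_g_rc_48_0 lc_g_rc_7_1 lc_g_rc_16_1 lc_g_rc_31_1 lc_g_Cert_tree lc_g_rc_48_0 lc_g_rc_7_1 lc_g_rc_16_1 lc_g_Cert_tree lc_g_Cert_tree lc_g_rc_44_5 lc_g_rc_48_0 lc_g_rc_49_2 lc_g_rc_7_1 lc_g_rc_16_1 lc_g_Cert_tree lc_g_Cert_tree lc_g_rc_44_5 lc_g_rc_48_0 lc_g_rc_49_2 lc_g_rc_7_1 lc_g_Cert_tree lc_g_Cert_tree lc_g_rc_48_0 lc_g_Cert_tree lc_g_rc_48_0 lc_g_rc_48_1 lc_g_rc_47_2 lc_g_rc_7_1 lc_g_Cert_tree lc_g_rc_24_1 lc_g_Cert_tree lc_g_rc_16_1 lc_g_rc_48_0 lc_g_Cert_tree lc_g_rc_48_0) (@D3.rec (fun _ => (Cert rels S Gen.g)) lc_g_rc_48_1 lc_g_rc_49_2 lc_g_rc_7_1 lc_g_Cert_tree lc_g_rc_48_0 lc_g_Cert_tree lc_g_Cert_tree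 lc_g_rc_48_0 lc_g_rc_16_1 lc_g_rc_48_0 lc_g_rc_49_2 lc_g_rc_7_1 lc_g_rc_16_1 lc_g_Cert_tree lc_g_Cert_tree lc_g_rc_47_2 lc_g_rc_48_0 lc_g_rc_49_2 lc_g_rc_7_1 lc_g_Cert_tree lc_g_Cert_tree lc_g_rc_48_0 lc_g_Cert_tree lc_g_rc_48_0 lc_g_rc_48_1 lc_g_rc_24_1 lc_g_Cert_tree lc_g_rc_48_0 lc_g_rc_48_0 lc_g_rc_16_1 lc_g_rc_31_1 lc_g_rc_47_2 lc_g_rc_7_1 lc_g_rc_7_1 lc_g_Cert_tree lc_g_Cert_tree lc_g_rc_48_0 lc_g_Cert_tree lc_g_rc_48_0 lc_g_rc_48_1 lc_g_rc_7_1 lc_g_rc_16_1 lc_g_rc_44_5 lc_g_Cert_tree lc_g_rc_48_0 lc_g_Cert_tree lc_g_rc_48_0 lc_g_rc_48_0 lc_g_rc_48_1 lc_g_rc_47_2 lc_g_rc_7_1)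
def ce_g_1 : D2 → D3 → (Cert rels S Gen.g) := @D2.rec (fun _ => D3 → (Cert rels S Gen.g)) (@D3.rec (fun _ => (Cert rels S Gen.g)) lc_g_rc_31_1 lc_g_Cert_tree lc_g_rc_37_1 lc_g_rc_48_0 lc_g_rc_50_2 lc_g_rc_44_3 lc_g_rc_44_5 lc_g_rc_31_1 lc_g_rc_24_1 lc_g_rc_37_1 lc_g_rc_47_2 lc_g_rc_50_2 lc_g_rc_50_2 lc_g_rc_47_2 lc_g_rc_24_1 lc_g_rc_31_1 lc_g_rc_24_1 lc_g_rc_31_1 lc_g_rc_31_1 lc_g_rc_24_1 lc_g_rc_37_1 lc_g_rc_24_1 lc_g_rc_37_1 lc_g_rc_16_1 lc_g_rc_24_1 lc_g_Cert_tree lc_g_rc_47_2 lc_g_rc_31_1 lc_g_rc_49_2 lc_g_rc_37_1 lc_g_rc_31_1 lc_g_rc_24_1 lc_g_rc_37_1 lc_g_rc_16_1 lc_g_rc_24_1 lc_g_Cert_tree lc_g_rc_24_1 lc_g_rc_37_1 lc_g_rc_16_1 lc_g_rc_24_1 lc_g_Cert_tree lc_g_rc_7_1 lc_g_rc_16_1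 lc_g_rc_31_1 lc_g_Cert_tree lc_g_rc_48_0 lc_g_rc_24_1 lc_g_rc_31_1 lc_g_rc_16_1 lc_g_rc_47_2 lc_g_Cert_tree) (@D3.rec (fun _ => (Cert rels S Gen.g)) lc_g_rc_7_1 lc_g_rc_16_1 lc_g_rc_37_1 lc_g_Cert_tree lc_g_rc_48_0 lc_g_rc_7_1 lc_g_rc_16_1 lc_g_Cert_tree lc_g_Cert_tree lc_g_rc_47_2 lc_g_rc_48_0 lc_g_rc_49_2 lc_g_rc_31_1 lc_g_rc_50_2 lc_g_rc_47_2 lc_g_rc_37_1 lc_g_rc_50_2 lc_g_rc_47_2 lc_g_rc_31_1 lc_g_rc_37_1 lc_g_rc_44_3 lc_g_rc_31_1 lc_g_rc_24_1 lc_g_rc_37_1 lc_g_rc_47_2 lc_g_rc_31_1 lc_g_rc_24_1 lc_g_rc_37_1 lc_g_rc_31_1 lc_g_rc_24_1 lc_g_rc_37_1 lc_g_rc_16_1 lc_g_rc_24_1 lc_g_Cert_tree lc_g_rc_24_1 lc_g_rc_37_1 lc_g_rc_16_1 lc_g_rc_24_1 lc_g_Cert_tree lc_g_rc_7_1 lc_g_rc_16_1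 lc_g_rc_31_1 lc_g_Cert_tree lc_g_rc_48_0 lc_g_rc_49_2 lc_g_rc_37_1 lc_g_rc_16_1 lc_g_rc_47_2 lc_g_Cert_tree lc_g_rc_16_1 lc_g_rc_24_1) (@D3.rec (fun _ => (Cert rels S Gen.g)) lc_g_Cert_tree lc_g_rc_7_1 lc_g_rc_16_1 lc_g_rc_31_1 lc_g_Cert_tree lc_g_rc_48_0 lc_g_rc_7_1 lc_g_rc_16_1 lc_g_rc_31_1 lc_g_Cert_tree lc_g_rc_48_0 lc_g_rc_7_1 lc_g_rc_16_1 lc_g_Cert_tree lc_g_Cert_tree lc_g_rc_44_5 lc_g_rc_48_0 lc_g_rc_47_2 lc_g_rc_7_1 lc_g_rc_16_1 lc_g_Cert_tree lc_g_Cert_tree lc_g_rc_47_2 lc_g_rc_48_0 lc_g_rc_49_2 lc_g_rc_7_1 lc_g_Cert_tree lc_g_rc_24_1 lc_g_Cert_tree lc_g_rc_16_1 lc_g_rc_48_0 lc_g_Cert_tree lc_g_rc_48_0 lc_g_rc_48_1 lc_g_rc_50_2 lc_g_rc_47_2 lc_g_rc_7_1 lc_g_rc_16_1 lc_g_rc_31_1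 lc_g_Cert_tree lc_g_rc_48_0 lc_g_rc_7_1 lc_g_rc_16_1 lc_g_Cert_tree lc_g_Cert_tree lc_g_rc_44_5 lc_g_rc_48_0 lc_g_rc_49_2 lc_g_rc_7_1 lc_g_Cert_tree lc_g_rc_24_1) (@D3.rec (fun _ => (Cert rels S Gen.g)) lc_g_Cert_tree lc_g_rc_16_1 lc_g_rc_48_0 lc_g_Cert_tree lc_g_rc_48_0 lc_g_rc_48_1 lc_g_rc_50_2 lc_g_rc_24_1 lc_g_Cert_tree lc_g_rc_7_1 lc_g_rc_48_0 lc_g_Cert_tree lc_g_rc_48_0 lc_g_rc_48_1 lc_g_rc_16_1 lc_g_rc_16_1 lc_g_rc_48_0 lc_g_rc_48_1 lc_g_rc_31_1 lc_g_rc_47_2 lc_g_rc_50_2 lc_g_rc_44_3 lc_g_rc_37_1 lc_g_rc_47_2 lc_g_rc_31_1 lc_g_rc_50_2 lc_g_rc_47_2 lc_g_rc_50_2 lc_g_rc_24_1 lc_g_rc_37_1 lc_g_rc_50_2 lc_g_rc_47_2 lc_g_rc_31_1 lc_g_rc_24_1 lc_g_rc_24_1 lc_g_rc_50_2 lc_g_rc_47_2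 lc_g_rc_31_1 lc_g_rc_24_1 lc_g_rc_37_1 lc_g_rc_31_1 lc_g_rc_24_1 lc_g_rc_47_2 lc_g_rc_44_3 lc_g_rc_24_1 lc_g_rc_37_1 lc_g_rc_16_1 lc_g_rc_24_1 lc_g_Cert_tree lc_g_rc_47_2 lc_g_rc_24_1) (@D3.rec (fun _ => (Cert rels S Gen.g)) lc_g_rc_37_1 lc_g_rc_16_1 lc_g_rc_24_1 lc_g_Cert_tree lc_g_rc_37_1 lc_g_rc_16_1 lc_g_rc_24_1 lc_g_Cert_tree lc_g_rc_7_1 lc_g_rc_16_1 lc_g_rc_31_1 lc_g_Cert_tree lc_g_rc_48_0 lc_g_Cert_tree lc_g_rc_16_1 lc_g_rc_31_1 lc_g_Cert_tree lc_g_rc_48_0 lc_g_rc_7_1 lc_g_rc_16_1 lc_g_Cert_tree lc_g_Cert_tree lc_g_rc_44_5 lc_g_rc_48_0 lc_g_rc_49_2 lc_g_rc_16_1 lc_g_rc_49_2 lc_g_Cert_tree lc_g_rc_7_1 lc_g_rc_16_1 lc_g_rc_49_2 lc_g_Cert_tree lc_g_rc_48_0 lc_g_rc_7_1 lc_g_rc_16_1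 lc_g_rc_31_1 lc_g_Cert_tree lc_g_rc_48_0 lc_g_rc_7_1 lc_g_rc_16_1 lc_g_Cert_tree lc_g_Cert_tree lc_g_rc_44_5 lc_g_rc_48_0 lc_g_rc_49_2 lc_g_rc_7_1 lc_g_rc_16_1 lc_g_Cert_tree lc_g_Cert_tree lc_g_rc_44_5 lc_g_rc_48_0) (@D3.rec (fun _ => (Cert rels S Gen.g)) lc_g_rc_49_2 lc_g_rc_7_1 lc_g_Cert_tree lc_g_rc_24_1 lc_g_Cert_tree lc_g_rc_16_1 lc_g_rc_48_0 lc_g_Cert_tree lc_g_rc_48_0 lc_g_rc_48_1 lc_g_rc_50_2 lc_g_rc_47_2 lc_g_rc_7_1 lc_g_Cert_tree lc_g_rc_24_1 lc_g_Cert_tree lc_g_rc_16_1 lc_g_rc_48_0 lc_g_Cert_tree lc_g_rc_48_0 lc_g_rc_48_1 lc_g_rc_49_2 lc_g_rc_7_1 lc_g_Cert_tree lc_g_rc_48_0 lc_g_Cert_tree lc_g_Cert_tree lc_g_rc_48_0 lc_g_rc_16_1 lc_g_rc_48_0 lc_g_rc_49_2 lc_g_rc_7_1 lc_g_rc_16_1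 lc_g_Cert_tree lc_g_Cert_tree lc_g_rc_47_2 lc_g_rc_48_0 lc_g_rc_49_2 lc_g_rc_7_1 lc_g_Cert_tree lc_g_rc_24_1 lc_g_Cert_tree lc_g_rc_16_1 lc_g_rc_48_0 lc_g_Cert_tree lc_g_rc_48_0 lc_g_rc_48_1 lc_g_rc_50_2 lc_g_rc_24_1 lc_g_rc_7_1 lc_g_Cert_tree) (@D3.rec (fun _ => (Cert rels S Gen.g)) lc_g_rc_48_0 lc_g_Cert_tree lc_g_rc_24_1 lc_g_rc_48_0 lc_g_rc_48_1 lc_g_rc_16_1 lc_g_rc_31_1 lc_g_rc_47_2 lc_g_rc_50_2 lc_g_rc_7_1 lc_g_rc_7_1 lc_g_Cert_tree lc_g_rc_24_1 lc_g_Cert_tree lc_g_rc_16_1 lc_g_rc_48_0 lc_g_Cert_tree lc_g_rc_48_0 lc_g_rc_48_1 lc_g_rc_50_2 lc_g_rc_7_1 lc_g_rc_7_1 lc_g_rc_24_1 lc_g_rc_24_1 lc_g_rc_16_1 lc_g_rc_16_1 lc_g_rc_44_5 lc_g_rc_50_2 lc_g_rc_31_1 lc_g_rc_16_1 lc_g_rc_24_1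 lc_g_rc_24_1 lc_g_rc_44_3 lc_g_rc_50_2 lc_g_rc_47_2 lc_g_rc_31_1 lc_g_rc_24_1 lc_g_rc_37_1 lc_g_rc_16_1 lc_g_rc_31_1 lc_g_rc_24_1 lc_g_rc_47_2 lc_g_rc_31_1 lc_g_rc_24_1 lc_g_rc_37_1 lc_g_rc_16_1 lc_g_rc_24_1 lc_g_Cert_tree lc_g_rc_16_1 lc_g_rc_47_2 lc_g_rc_31_1) (@D3.rec (fun _ => (Cert rels S Gen.g)) lc_g_rc_31_1 lc_g_rc_47_2 lc_g_rc_24_1 lc_g_Cert_tree lc_g_rc_16_1 lc_g_rc_31_1 lc_g_Cert_tree lc_g_rc_48_0 lc_g_rc_47_2 lc_g_rc_24_1 lc_g_Cert_tree lc_g_rc_16_1 lc_g_rc_24_1 lc_g_Cert_tree lc_g_rc_48_0 lc_g_Cert_tree lc_g_rc_31_1 lc_g_Cert_tree lc_g_rc_48_0 lc_g_rc_16_1 lc_g_Cert_tree lc_g_Cert_tree lc_g_rc_44_5 lc_g_rc_48_0 lc_g_rc_49_2 lc_g_rc_48_0 lc_g_Cert_tree lc_g_rc_48_0 lc_g_rc_49_2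 lc_g_rc_24_1 lc_g_Cert_tree lc_g_rc_16_1 lc_g_rc_48_0 lc_g_Cert_tree lc_g_rc_48_0 lc_g_rc_48_1 lc_g_rc_24_1 lc_g_rc_7_1 lc_g_rc_16_1 lc_g_rc_49_2 lc_g_Cert_tree lc_g_rc_48_0 lc_g_rc_7_1 lc_g_rc_16_1 lc_g_Cert_tree lc_g_Cert_tree lc_g_rc_31_1 lc_g_rc_48_0 lc_g_rc_49_2 lc_g_rc_7_1 lc_g_rc_16_1) (@D3.rec (fun _ => (Cert rels S Gen.g)) lc_g_Cert_tree lc_g_Cert_tree lc_g_rc_44_5 lc_g_rc_48_0 lc_g_rc_49_2 lc_g_rc_7_1 lc_g_Cert_tree lc_g_Cert_tree lc_g_rc_48_0 lc_g_Cert_tree lc_g_rc_48_0 lc_g_rc_48_1 lc_g_rc_24_1 lc_g_rc_7_1 lc_g_Cert_tree lc_g_Cert_tree lc_g_rc_48_0 lc_g_Cert_tree lc_g_rc_48_0 lc_g_rc_48_1 lc_g_rc_49_2 lc_g_Cert_tree lc_g_rc_48_0 lc_g_Cert_tree lc_g_rc_48_0 lc_g_rc_16_1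 lc_g_rc_48_0 lc_g_rc_48_1 lc_g_rc_49_2 lc_g_rc_47_2 lc_g_rc_7_1 lc_g_Cert_tree lc_g_rc_7_1 lc_g_rc_48_0 lc_g_Cert_tree lc_g_rc_24_1 lc_g_Cert_tree lc_g_rc_48_0 lc_g_rc_48_1 lc_g_rc_16_1 lc_g_rc_48_0 lc_g_rc_48_1 lc_g_rc_49_2 lc_g_rc_47_2 lc_g_rc_16_1 lc_g_Cert_tree lc_g_Cert_tree lc_g_rc_48_0 lc_g_rc_7_1 lc_g_Cert_tree lc_g_rc_48_0) (@D3.rec (fun _ => (Cert rels S Gen.g)) lc_g_rc_48_0 lc_g_rc_16_1 lc_g_rc_44_3 lc_g_rc_49_2 lc_g_rc_7_1 lc_g_Cert_tree lc_g_Cert_tree lc_g_rc_48_0 lc_g_Cert_tree lc_g_rc_48_0 lc_g_rc_48_1 lc_g_rc_24_1 lc_g_Cert_tree lc_g_rc_48_0 lc_g_Cert_tree lc_g_rc_48_0 lc_g_rc_16_1 lc_g_rc_48_0 lc_g_rc_48_1 lc_g_rc_31_1 lc_g_rc_47_2 lc_g_rc_48_0 lc_g_rc_7_1 lc_g_rc_16_1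 lc_g_rc_47_2 lc_g_Cert_tree lc_g_rc_48_0 lc_g_Cert_tree lc_g_rc_48_0 lc_g_rc_48_0 lc_g_rc_48_1 lc_g_rc_47_2 lc_g_rc_7_1 lc_g_rc_31_1 lc_g_Cert_tree lc_g_rc_48_0 lc_g_rc_48_0 lc_g_rc_44_3 lc_g_rc_47_2 lc_g_rc_31_1 lc_g_rc_24_1 lc_g_rc_48_0 lc_g_rc_50_2 lc_g_rc_47_2 lc_g_rc_50_2 lc_g_rc_47_2 lc_g_rc_44_3 lc_g_rc_47_2 lc_g_rc_24_1 lc_g_rc_37_1 lc_g_rc_16_1) (@D3.rec (fun _ => (Cert rels S Gen.g)) lc_g_rc_24_1 lc_g_Cert_tree lc_g_rc_50_2 lc_g_rc_47_2 lc_g_rc_47_2 lc_g_rc_31_1 lc_g_rc_31_1 lc_g_rc_24_1 lc_g_rc_37_1 lc_g_rc_31_1 lc_g_rc_24_1 lc_g_rc_37_1 lc_g_rc_24_1 lc_g_rc_37_1 lc_g_rc_16_1 lc_g_rc_24_1 lc_g_Cert_tree lc_g_rc_16_1 lc_g_rc_24_1 lc_g_Cert_tree lc_g_rc_7_1 lc_g_rc_16_1 lc_g_rc_31_1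 lc_g_Cert_tree lc_g_rc_48_0 lc_g_rc_47_2 lc_g_rc_49_2 lc_g_rc_37_1 lc_g_rc_16_1 lc_g_rc_49_2 lc_g_Cert_tree lc_g_rc_24_1 lc_g_rc_37_1 lc_g_rc_16_1 lc_g_rc_24_1 lc_g_Cert_tree lc_g_rc_7_1 lc_g_rc_16_1 lc_g_rc_31_1 lc_g_Cert_tree lc_g_rc_48_0 lc_g_rc_16_1 lc_g_rc_24_1 lc_g_Cert_tree lc_g_rc_7_1 lc_g_rc_16_1 lc_g_rc_31_1 lc_g_Cert_tree lc_g_rc_48_0 lc_g_rc_7_1 lc_g_rc_16_1) (@D3.rec (fun _ => (Cert rels S Gen.g)) lc_g_Cert_tree lc_g_Cert_tree lc_g_rc_44_5 lc_g_rc_48_0 lc_g_rc_49_2 lc_g_rc_16_1 lc_g_rc_24_1 lc_g_Cert_tree lc_g_rc_7_1 lc_g_rc_16_1 lc_g_rc_31_1 lc_g_Cert_tree lc_g_rc_48_0 lc_g_rc_7_1 lc_g_rc_16_1 lc_g_Cert_tree lc_g_Cert_tree lc_g_rc_47_2 lc_g_rc_48_0 lc_g_rc_49_2 lc_g_rc_7_1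 lc_g_Cert_tree lc_g_rc_24_1 lc_g_Cert_tree lc_g_rc_16_1 lc_g_rc_48_0 lc_g_Cert_tree lc_g_rc_48_0 lc_g_rc_48_1 lc_g_rc_50_2 lc_g_rc_49_2 lc_g_rc_37_1 lc_g_rc_50_2 lc_g_rc_47_2 lc_g_rc_31_1 lc_g_rc_50_2 lc_g_rc_47_2 lc_g_rc_31_1 lc_g_rc_24_1 lc_g_rc_37_1 lc_g_rc_47_2 lc_g_rc_44_3 lc_g_rc_24_1 lc_g_rc_37_1 lc_g_rc_16_1 lc_g_rc_24_1 lc_g_Cert_tree lc_g_rc_47_2 lc_g_rc_24_1 lc_g_rc_37_1 lc_g_rc_16_1) (@D3.rec (fun _ => (Cert rels S Gen.g)) lc_g_rc_24_1 lc_g_Cert_tree lc_g_rc_24_1 lc_g_rc_37_1 lc_g_rc_16_1 lc_g_rc_24_1 lc_g_Cert_tree lc_g_rc_7_1 lc_g_rc_16_1 lc_g_rc_31_1 lc_g_Cert_tree lc_g_rc_48_0 lc_g_rc_24_1 lc_g_Cert_tree lc_g_rc_16_1 lc_g_rc_31_1 lc_g_Cert_tree lc_g_rc_48_0 lc_g_rc_7_1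 lc_g_rc_16_1 lc_g_Cert_tree lc_g_Cert_tree lc_g_rc_44_5 lc_g_rc_48_0 lc_g_rc_49_2 lc_g_rc_16_1 lc_g_rc_49_2 lc_g_Cert_tree lc_g_rc_7_1 lc_g_rc_16_1 lc_g_rc_49_2 lc_g_Cert_tree lc_g_rc_48_0 lc_g_rc_7_1 lc_g_rc_16_1 lc_g_rc_31_1 lc_g_Cert_tree lc_g_rc_48_0 lc_g_rc_7_1 lc_g_rc_16_1 lc_g_Cert_tree lc_g_Cert_tree lc_g_rc_44_5 lc_g_rc_48_0 lc_g_rc_49_2 lc_g_rc_7_1 lc_g_rc_16_1 lc_g_Cert_tree lc_g_Cert_tree lc_g_rc_44_5 lc_g_rc_48_0) (@D3.rec (fun _ => (Cert rels S Gen.g)) lc_g_rc_49_2 lc_g_rc_7_1 lc_g_Cert_tree lc_g_rc_24_1 lc_g_Cert_tree lc_g_rc_16_1 lc_g_rc_48_0 lc_g_Cert_tree lc_g_rc_48_0 lc_g_rc_48_1 lc_g_rc_50_2 lc_g_rc_47_2 lc_g_rc_7_1 lc_g_Cert_tree lc_g_rc_24_1 lc_g_Cert_tree lc_g_rc_16_1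 lc_g_rc_48_0 lc_g_Cert_tree lc_g_rc_48_0 lc_g_rc_48_1 lc_g_rc_50_2 lc_g_rc_49_2 lc_g_rc_7_1 lc_g_Cert_tree lc_g_rc_7_1 lc_g_rc_48_0 lc_g_Cert_tree lc_g_rc_24_1 lc_g_Cert_tree lc_g_rc_48_0 lc_g_rc_48_1 lc_g_rc_16_1 lc_g_rc_16_1 lc_g_rc_48_0 lc_g_rc_48_1 lc_g_rc_49_2 lc_g_rc_47_2 lc_g_rc_50_2 lc_g_rc_7_1 lc_g_rc_16_1 lc_g_Cert_tree lc_g_Cert_tree lc_g_rc_47_2 lc_g_rc_48_0 lc_g_rc_49_2 lc_g_rc_7_1 lc_g_Cert_tree lc_g_rc_24_1 lc_g_Cert_tree lc_g_rc_16_1) (@D3.rec (fun _ => (Cert rels S Gen.g)) lc_g_rc_48_0 lc_g_Cert_tree lc_g_rc_48_0 lc_g_rc_48_1 lc_g_rc_50_2 lc_g_rc_24_1 lc_g_rc_7_1 lc_g_Cert_tree lc_g_rc_7_1 lc_g_rc_48_0 lc_g_Cert_tree lc_g_rc_24_1 lc_g_Cert_tree lc_g_rc_48_0 lc_g_rc_48_1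 lc_g_rc_16_1 lc_g_rc_16_1 lc_g_rc_48_0 lc_g_rc_48_1 lc_g_rc_31_1 lc_g_rc_47_2 lc_g_rc_50_2 lc_g_Cert_tree lc_g_rc_48_0 lc_g_rc_48_1 lc_g_rc_7_1 lc_g_rc_7_1 lc_g_rc_48_0 lc_g_rc_48_1 lc_g_rc_16_1 lc_g_rc_47_2 lc_g_rc_50_2 lc_g_rc_44_3 lc_g_rc_37_1 lc_g_rc_47_2 lc_g_rc_31_1 lc_g_rc_50_2 lc_g_rc_47_2 lc_g_rc_50_2 lc_g_Cert_tree lc_g_rc_44_3 lc_g_rc_47_2 lc_g_rc_31_1 lc_g_rc_50_2 lc_g_rc_24_1 lc_g_rc_24_3 lc_g_rc_50_2 lc_g_rc_24_1 lc_g_rc_24_1 lc_g_rc_44_3 lc_g_rc_50_2) (@D3.rec (fun _ => (Cert rels S Gen.g)) lc_g_rc_47_2 lc_g_rc_31_1 lc_g_rc_24_1 lc_g_rc_37_1 lc_g_rc_31_1 lc_g_rc_24_1 lc_g_rc_47_2 lc_g_rc_31_1 lc_g_rc_24_1 lc_g_rc_37_1 lc_g_rc_16_1 lc_g_rc_24_1 lc_g_Cert_tree lc_g_rc_47_2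 lc_g_rc_31_1 lc_g_rc_31_1 lc_g_rc_47_2 lc_g_rc_16_1 lc_g_rc_24_1 lc_g_Cert_tree lc_g_rc_7_1 lc_g_rc_16_1 lc_g_rc_31_1 lc_g_Cert_tree lc_g_rc_48_0 lc_g_rc_47_2 lc_g_rc_16_1 lc_g_rc_24_1 lc_g_Cert_tree lc_g_rc_7_1 lc_g_rc_16_1 lc_g_rc_24_1 lc_g_Cert_tree lc_g_rc_48_0 lc_g_Cert_tree lc_g_rc_16_1 lc_g_rc_31_1 lc_g_Cert_tree lc_g_rc_48_0 lc_g_rc_7_1 lc_g_rc_16_1 lc_g_Cert_tree lc_g_Cert_tree lc_g_rc_44_5 lc_g_rc_48_0 lc_g_rc_49_2 lc_g_rc_48_0 lc_g_rc_16_1 lc_g_Cert_tree lc_g_Cert_tree lc_g_rc_48_0) (@D3.rec (fun _ => (Cert rels S Gen.g)) lc_g_rc_49_2 lc_g_rc_7_1 lc_g_Cert_tree lc_g_rc_24_1 lc_g_Cert_tree lc_g_rc_16_1 lc_g_rc_48_0 lc_g_Cert_tree lc_g_rc_48_0 lc_g_rc_48_1 lc_g_rc_50_2 lc_g_rc_24_1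 lc_g_rc_7_1 lc_g_rc_16_1 lc_g_rc_49_2 lc_g_Cert_tree lc_g_rc_48_0 lc_g_rc_7_1 lc_g_rc_16_1 lc_g_Cert_tree lc_g_Cert_tree lc_g_rc_31_1 lc_g_rc_48_0 lc_g_rc_49_2 lc_g_rc_7_1 lc_g_rc_16_1 lc_g_Cert_tree lc_g_Cert_tree lc_g_rc_44_5 lc_g_rc_48_0 lc_g_rc_49_2 lc_g_rc_7_1 lc_g_Cert_tree lc_g_rc_24_1 lc_g_Cert_tree lc_g_rc_16_1 lc_g_rc_48_0 lc_g_Cert_tree lc_g_rc_48_0 lc_g_rc_48_1 lc_g_rc_50_2 lc_g_rc_24_1 lc_g_rc_7_1 lc_g_Cert_tree lc_g_rc_24_1 lc_g_Cert_tree lc_g_rc_16_1 lc_g_rc_48_0 lc_g_Cert_tree lc_g_rc_48_0 lc_g_rc_48_1) (@D3.rec (fun _ => (Cert rels S Gen.g)) lc_g_rc_50_2 lc_g_rc_49_2 lc_g_rc_7_1 lc_g_Cert_tree lc_g_rc_48_0 lc_g_Cert_tree lc_g_rc_24_1 lc_g_Cert_tree lc_g_rc_48_0 lc_g_rc_48_1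 lc_g_rc_16_1 lc_g_rc_48_0 lc_g_rc_48_1 lc_g_rc_49_2 lc_g_rc_47_2 lc_g_rc_50_2 lc_g_rc_7_1 lc_g_Cert_tree lc_g_rc_7_1 lc_g_rc_48_0 lc_g_Cert_tree lc_g_rc_24_1 lc_g_Cert_tree lc_g_rc_48_0 lc_g_rc_48_1 lc_g_rc_16_1 lc_g_rc_48_0 lc_g_rc_48_1 lc_g_rc_49_2 lc_g_rc_47_2 lc_g_rc_16_1 lc_g_Cert_tree lc_g_Cert_tree lc_g_rc_48_0 lc_g_rc_7_1 lc_g_Cert_tree lc_g_rc_48_0 lc_g_rc_48_0 lc_g_rc_16_1 lc_g_rc_44_3 lc_g_rc_49_2 lc_g_rc_7_1 lc_g_Cert_tree lc_g_rc_24_1 lc_g_Cert_tree lc_g_rc_16_1 lc_g_rc_48_0 lc_g_Cert_tree lc_g_rc_48_0 lc_g_rc_48_1 lc_g_rc_50_2) (@D3.rec (fun _ => (Cert rels S Gen.g)) lc_g_rc_24_1 lc_g_rc_7_1 lc_g_Cert_tree lc_g_rc_48_0 lc_g_Cert_tree lc_g_rc_24_1 lc_g_Cert_tree lc_g_rc_48_0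 lc_g_rc_48_1 lc_g_rc_16_1 lc_g_rc_48_0 lc_g_rc_48_1 lc_g_rc_31_1 lc_g_rc_47_2 lc_g_rc_50_2 lc_g_Cert_tree lc_g_rc_48_0 lc_g_rc_7_1 lc_g_rc_48_0 lc_g_rc_48_1 lc_g_rc_31_1 lc_g_rc_16_1 lc_g_rc_47_2 lc_g_rc_47_2 lc_g_rc_50_2 lc_g_rc_7_1 lc_g_Cert_tree lc_g_rc_48_0 lc_g_Cert_tree lc_g_rc_24_1 lc_g_Cert_tree lc_g_rc_48_0 lc_g_rc_48_1 lc_g_rc_48_0 lc_g_rc_48_1 lc_g_rc_47_2 lc_g_rc_50_2 lc_g_rc_7_1 lc_g_rc_7_1 lc_g_rc_24_1 lc_g_rc_24_1 lc_g_rc_31_1 lc_g_rc_16_1 lc_g_rc_31_1 lc_g_rc_50_2 lc_g_rc_37_1 lc_g_rc_16_1 lc_g_rc_31_1 lc_g_rc_24_1 lc_g_rc_24_1 lc_g_rc_44_3) (@D3.rec (fun _ => (Cert rels S Gen.g)) lc_g_rc_47_2 lc_g_rc_31_1 lc_g_rc_24_1 lc_g_rc_37_1 lc_g_rc_16_1 lc_g_rc_24_1 lc_g_Cert_tree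 lc_g_rc_16_1 lc_g_rc_47_2 lc_g_rc_31_1 lc_g_rc_31_1 lc_g_rc_37_1 lc_g_rc_24_1 lc_g_Cert_tree lc_g_rc_16_1 lc_g_rc_31_1 lc_g_Cert_tree lc_g_rc_48_0 lc_g_rc_24_1 lc_g_rc_16_1 lc_g_rc_31_1 lc_g_Cert_tree lc_g_rc_31_1 lc_g_Cert_tree lc_g_rc_48_0 lc_g_rc_16_1 lc_g_Cert_tree lc_g_Cert_tree lc_g_rc_47_2 lc_g_rc_48_0 lc_g_rc_49_2 lc_g_Cert_tree lc_g_rc_24_1 lc_g_Cert_tree lc_g_rc_48_0 lc_g_rc_16_1 lc_g_Cert_tree lc_g_Cert_tree lc_g_rc_47_2 lc_g_rc_48_0 lc_g_rc_49_2 lc_g_rc_48_0 lc_g_Cert_tree lc_g_rc_48_0 lc_g_rc_49_2 lc_g_rc_24_1 lc_g_Cert_tree lc_g_rc_16_1 lc_g_rc_48_0 lc_g_Cert_tree lc_g_rc_48_0) (@D3.rec (fun _ => (Cert rels S Gen.g)) lc_g_rc_48_1 lc_g_rc_24_1 lc_g_rc_44_5 lc_g_Cert_tree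 lc_g_rc_48_0 lc_g_rc_24_1 lc_g_Cert_tree lc_g_Cert_tree lc_g_rc_48_0 lc_g_rc_48_1 lc_g_rc_16_1 lc_g_rc_48_0 lc_g_rc_48_1 lc_g_rc_24_1 lc_g_rc_47_2 lc_g_rc_7_1 lc_g_rc_16_1 lc_g_Cert_tree lc_g_Cert_tree lc_g_rc_47_2 lc_g_rc_48_0 lc_g_rc_49_2 lc_g_rc_7_1 lc_g_Cert_tree lc_g_Cert_tree lc_g_rc_48_0 lc_g_rc_24_3 lc_g_rc_48_0 lc_g_rc_16_3 lc_g_rc_24_1 lc_g_rc_7_1 lc_g_Cert_tree lc_g_Cert_tree lc_g_rc_48_0 lc_g_Cert_tree lc_g_rc_48_0 lc_g_rc_48_1 lc_g_rc_24_1 lc_g_Cert_tree lc_g_rc_48_0 lc_g_Cert_tree lc_g_rc_48_0 lc_g_rc_16_1 lc_g_rc_48_0 lc_g_rc_49_2 lc_g_rc_49_2 lc_g_rc_47_2 lc_g_Cert_tree lc_g_rc_48_0 lc_g_Cert_tree lc_g_rc_48_0) (@D3.rec (fun _ => (Cert rels S Gen.g)) lc_g_rc_16_1 lc_g_rc_48_0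 lc_g_rc_48_1 lc_g_rc_49_2 lc_g_rc_47_2 lc_g_Cert_tree lc_g_rc_48_0 lc_g_rc_7_1 lc_g_rc_48_0 lc_g_rc_16_1 lc_g_rc_44_3 lc_g_rc_49_2 lc_g_rc_47_2 lc_g_rc_31_1 lc_g_rc_16_1 lc_g_Cert_tree lc_g_rc_7_1 lc_g_Cert_tree lc_g_rc_48_0 lc_g_rc_48_1 lc_g_rc_7_1 lc_g_Cert_tree lc_g_rc_48_0 lc_g_rc_48_1 lc_g_rc_31_1 lc_g_rc_48_0 lc_g_rc_48_1 lc_g_rc_16_1 lc_g_rc_47_2 lc_g_rc_44_3 lc_g_rc_49_2 lc_g_rc_47_2 lc_g_rc_31_1 lc_g_rc_47_2 lc_g_Cert_tree lc_g_Cert_tree lc_g_rc_48_0 lc_g_rc_48_0 lc_g_rc_7_1 lc_g_Cert_tree lc_g_rc_48_0 lc_g_rc_24_1 lc_g_rc_44_3 lc_g_rc_16_1 lc_g_rc_7_3 lc_g_Cert_tree lc_g_rc_48_0 lc_g_Cert_tree lc_g_rc_48_0 lc_g_rc_16_1 lc_g_rc_48_0) (@D3.rec (fun _ => (Cert rels S Gen.g))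 lc_g_rc_44_1 lc_g_rc_31_1 lc_g_rc_47_2 lc_g_Cert_tree lc_g_rc_48_0 lc_g_rc_7_1 lc_g_rc_48_0 lc_g_rc_16_1 lc_g_rc_47_2 lc_g_rc_47_2 lc_g_rc_49_2 lc_g_rc_37_1 lc_g_rc_7_1 lc_g_Cert_tree lc_g_rc_48_0 lc_g_rc_48_0 lc_g_rc_47_2 lc_g_rc_47_2 lc_g_rc_31_1 lc_g_rc_24_1 lc_g_rc_48_0 lc_g_rc_16_1 lc_g_rc_44_3 lc_g_rc_31_1 lc_g_rc_24_1 lc_g_rc_44_3 lc_g_rc_50_2 lc_g_rc_47_2 lc_g_rc_31_1 lc_g_rc_47_2 lc_g_rc_31_1 lc_g_rc_24_1 lc_g_rc_47_2 lc_g_rc_24_1 lc_g_rc_47_2 lc_g_rc_16_1 lc_g_rc_24_1 lc_g_Cert_tree lc_g_rc_7_1 lc_g_rc_16_1 lc_g_rc_31_1 lc_g_Cert_tree lc_g_rc_48_0 lc_g_rc_47_2 lc_g_rc_31_1 lc_g_rc_31_1 lc_g_rc_24_1 lc_g_rc_37_1 lc_g_rc_24_1 lc_g_rc_37_1 lc_g_rc_16_1) (@D3.rec (fun _ => (Cert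 rels S Gen.g)) lc_g_rc_24_1 lc_g_Cert_tree lc_g_rc_24_1 lc_g_rc_37_1 lc_g_rc_16_1 lc_g_rc_24_1 lc_g_Cert_tree lc_g_rc_16_1 lc_g_rc_24_1 lc_g_Cert_tree lc_g_rc_7_1 lc_g_rc_16_1 lc_g_rc_31_1 lc_g_Cert_tree lc_g_rc_48_0 lc_g_rc_16_1 lc_g_rc_31_1 lc_g_Cert_tree lc_g_rc_48_0 lc_g_rc_7_1 lc_g_rc_16_1 lc_g_Cert_tree lc_g_Cert_tree lc_g_rc_44_5 lc_g_rc_48_0 lc_g_rc_49_2 lc_g_rc_24_1 lc_g_rc_47_2 lc_g_rc_16_1 lc_g_rc_49_2 lc_g_Cert_tree lc_g_rc_7_1 lc_g_rc_16_1 lc_g_rc_49_2 lc_g_Cert_tree lc_g_rc_48_0 lc_g_rc_16_1 lc_g_rc_24_1 lc_g_Cert_tree lc_g_rc_7_1 lc_g_rc_16_1 lc_g_rc_31_1 lc_g_Cert_tree lc_g_rc_48_0 lc_g_rc_7_1 lc_g_rc_16_1 lc_g_Cert_tree lc_g_Cert_tree lc_g_rc_44_5 lc_g_rc_48_0 lc_g_rc_49_2)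 (@D3.rec (fun _ => (Cert rels S Gen.g)) lc_g_rc_7_1 lc_g_rc_16_1 lc_g_rc_31_1 lc_g_Cert_tree lc_g_rc_48_0 lc_g_rc_7_1 lc_g_rc_16_1 lc_g_Cert_tree lc_g_Cert_tree lc_g_rc_44_5 lc_g_rc_48_0 lc_g_rc_49_2 lc_g_rc_7_1 lc_g_Cert_tree lc_g_rc_24_1 lc_g_Cert_tree lc_g_rc_16_1 lc_g_rc_48_0 lc_g_Cert_tree lc_g_rc_48_0 lc_g_rc_48_1 lc_g_rc_50_2 lc_g_rc_49_2 lc_g_rc_7_1 lc_g_rc_16_1 lc_g_rc_24_1 lc_g_Cert_tree lc_g_rc_48_0 lc_g_rc_7_1 lc_g_rc_31_1 lc_g_Cert_tree lc_g_Cert_tree lc_g_rc_31_1 lc_g_rc_48_0 lc_g_rc_47_2 lc_g_rc_7_1 lc_g_Cert_tree lc_g_rc_24_1 lc_g_Cert_tree lc_g_rc_16_1 lc_g_rc_48_0 lc_g_Cert_tree lc_g_rc_48_0 lc_g_rc_48_1 lc_g_rc_50_2 lc_g_rc_49_2 lc_g_rc_7_1 lc_g_Cert_tree lc_g_rc_7_1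 lc_g_rc_48_0 lc_g_Cert_tree) (@D3.rec (fun _ => (Cert rels S Gen.g)) lc_g_rc_24_1 lc_g_Cert_tree lc_g_rc_48_0 lc_g_rc_48_1 lc_g_rc_16_1 lc_g_rc_16_1 lc_g_rc_48_0 lc_g_rc_48_1 lc_g_rc_49_2 lc_g_rc_47_2 lc_g_rc_50_2 lc_g_rc_44_3 lc_g_rc_50_2 lc_g_rc_47_2 lc_g_rc_31_1 lc_g_rc_24_1 lc_g_rc_37_1 lc_g_rc_47_2 lc_g_rc_31_1 lc_g_rc_24_1 lc_g_rc_37_1 lc_g_rc_16_1 lc_g_rc_24_1 lc_g_Cert_tree lc_g_rc_31_1 lc_g_rc_24_1 lc_g_rc_47_2 lc_g_rc_16_1 lc_g_rc_24_1 lc_g_Cert_tree lc_g_rc_7_1 lc_g_rc_16_1 lc_g_rc_31_1 lc_g_Cert_tree lc_g_rc_48_0 lc_g_rc_24_1 lc_g_rc_47_2 lc_g_rc_16_1 lc_g_rc_24_1 lc_g_Cert_tree lc_g_rc_7_1 lc_g_rc_16_1 lc_g_rc_24_1 lc_g_Cert_tree lc_g_rc_48_0 lc_g_rc_24_1 lc_g_Cert_tree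 lc_g_rc_16_1 lc_g_rc_31_1 lc_g_Cert_tree lc_g_rc_48_0) (@D3.rec (fun _ => (Cert rels S Gen.g)) lc_g_rc_7_1 lc_g_rc_16_1 lc_g_Cert_tree lc_g_Cert_tree lc_g_rc_44_5 lc_g_rc_48_0 lc_g_rc_49_2 lc_g_rc_31_1 lc_g_Cert_tree lc_g_rc_48_0 lc_g_rc_16_1 lc_g_Cert_tree lc_g_Cert_tree lc_g_rc_44_5 lc_g_rc_48_0 lc_g_rc_49_2 lc_g_rc_7_1 lc_g_Cert_tree lc_g_rc_24_1 lc_g_Cert_tree lc_g_rc_16_1 lc_g_rc_48_0 lc_g_Cert_tree lc_g_rc_48_0 lc_g_rc_48_1 lc_g_rc_50_2 lc_g_rc_24_1 lc_g_rc_7_1 lc_g_rc_16_1 lc_g_rc_49_2 lc_g_Cert_tree lc_g_rc_48_0 lc_g_rc_7_1 lc_g_rc_16_1 lc_g_Cert_tree lc_g_Cert_tree lc_g_rc_31_1 lc_g_rc_48_0 lc_g_rc_49_2 lc_g_rc_7_1 lc_g_rc_16_1 lc_g_Cert_tree lc_g_Cert_tree lc_g_rc_44_5 lc_g_rc_48_0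 lc_g_rc_49_2 lc_g_rc_7_1 lc_g_Cert_tree lc_g_rc_24_1 lc_g_Cert_tree lc_g_rc_16_1)
def ce_g_2 : D2 → D3 → (Cert rels S Gen.g) := @D2.rec (fun _ => D3 → (Cert rels S Gen.g)) (@D3.rec (fun _ => (Cert rels S Gen.g)) lc_g_rc_48_0 lc_g_Cert_tree lc_g_rc_48_0 lc_g_rc_48_1 lc_g_rc_50_2 lc_g_rc_24_1 lc_g_rc_7_1 lc_g_Cert_tree lc_g_rc_24_1 lc_g_Cert_tree lc_g_rc_16_1 lc_g_rc_48_0 lc_g_Cert_tree lc_g_rc_48_0 lc_g_rc_48_1 lc_g_rc_50_2 lc_g_rc_49_2 lc_g_rc_7_1 lc_g_Cert_tree lc_g_rc_7_1 lc_g_rc_48_0 lc_g_Cert_tree lc_g_rc_24_1 lc_g_Cert_tree lc_g_rc_48_0 lc_g_rc_48_1 lc_g_rc_16_1 lc_g_rc_16_1 lc_g_rc_48_0 lc_g_rc_48_1 lc_g_rc_49_2 lc_g_rc_47_2 lc_g_rc_50_2 lc_g_Cert_tree lc_g_rc_48_0 lc_g_Cert_tree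 lc_g_Cert_tree lc_g_rc_48_0 lc_g_rc_48_1 lc_g_rc_16_1 lc_g_rc_48_0 lc_g_rc_48_1 lc_g_rc_49_2 lc_g_rc_47_2 lc_g_rc_50_2 lc_g_Cert_tree lc_g_Cert_tree lc_g_rc_48_0 lc_g_rc_48_1 lc_g_rc_7_1 lc_g_Cert_tree) (@D3.rec (fun _ => (Cert rels S Gen.g)) lc_g_rc_48_0 lc_g_rc_48_1 lc_g_rc_48_0 lc_g_rc_48_1 lc_g_rc_16_1 lc_g_rc_47_2 lc_g_rc_50_2 lc_g_rc_44_3 lc_g_rc_49_2 lc_g_rc_47_2 lc_g_rc_31_1 lc_g_rc_50_2 lc_g_rc_31_1 lc_g_rc_50_2 lc_g_rc_7_1 lc_g_Cert_tree lc_g_rc_24_1 lc_g_Cert_tree lc_g_rc_16_1 lc_g_rc_48_0 lc_g_Cert_tree lc_g_rc_48_0 lc_g_rc_48_1 lc_g_rc_50_2 lc_g_rc_24_1 lc_g_rc_7_1 lc_g_Cert_tree lc_g_rc_7_1 lc_g_rc_48_0 lc_g_Cert_tree lc_g_rc_24_1 lc_g_Cert_tree lc_g_rc_48_0 lc_g_rc_48_1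 lc_g_rc_16_1 lc_g_rc_16_1 lc_g_rc_48_0 lc_g_rc_48_1 lc_g_rc_31_1 lc_g_rc_47_2 lc_g_rc_50_2 lc_g_Cert_tree lc_g_rc_7_1 lc_g_Cert_tree lc_g_rc_48_0 lc_g_rc_48_1 lc_g_rc_7_1 lc_g_rc_7_1 lc_g_Cert_tree lc_g_rc_48_0 lc_g_rc_48_1) (@D3.rec (fun _ => (Cert rels S Gen.g)) lc_g_rc_31_1 lc_g_rc_24_1 lc_g_rc_48_0 lc_g_rc_48_1 lc_g_rc_16_1 lc_g_rc_47_2 lc_g_rc_50_2 lc_g_rc_44_3 lc_g_rc_37_1 lc_g_rc_47_2 lc_g_rc_31_1 lc_g_rc_50_2 lc_g_rc_47_2 lc_g_rc_50_2 lc_g_rc_48_0 lc_g_rc_48_1 lc_g_rc_7_1 lc_g_rc_47_2 lc_g_rc_50_2 lc_g_rc_16_1 lc_g_rc_16_1 lc_g_rc_47_2 lc_g_rc_31_1 lc_g_rc_50_2 lc_g_rc_16_1 lc_g_rc_50_2 lc_g_Cert_tree lc_g_rc_44_3 lc_g_rc_47_2 lc_g_rc_31_1 lc_g_rc_50_2 lc_g_rc_24_1 lc_g_rc_50_2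 lc_g_rc_50_2 lc_g_rc_48_0 lc_g_rc_24_3 lc_g_rc_31_1 lc_g_rc_50_2 lc_g_rc_24_1 lc_g_rc_16_1 lc_g_rc_16_3 lc_g_rc_31_1 lc_g_rc_24_1 lc_g_rc_24_1 lc_g_rc_44_3 lc_g_rc_47_2 lc_g_rc_31_1 lc_g_rc_24_1 lc_g_rc_37_1 lc_g_rc_16_1 lc_g_rc_24_1) (@D3.rec (fun _ => (Cert rels S Gen.g)) lc_g_Cert_tree lc_g_rc_47_2 lc_g_rc_31_1 lc_g_rc_31_1 lc_g_rc_37_1 lc_g_rc_16_1 lc_g_rc_24_1 lc_g_Cert_tree lc_g_rc_7_1 lc_g_rc_16_1 lc_g_rc_31_1 lc_g_Cert_tree lc_g_rc_48_0 lc_g_rc_31_1 lc_g_Cert_tree lc_g_rc_16_1 lc_g_rc_31_1 lc_g_Cert_tree lc_g_rc_48_0 lc_g_rc_7_1 lc_g_rc_16_1 lc_g_Cert_tree lc_g_Cert_tree lc_g_rc_47_2 lc_g_rc_48_0 lc_g_rc_49_2 lc_g_Cert_tree lc_g_rc_16_1 lc_g_rc_24_1 lc_g_Cert_tree lc_g_rc_48_0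 lc_g_rc_7_1 lc_g_rc_16_1 lc_g_Cert_tree lc_g_Cert_tree lc_g_rc_47_2 lc_g_rc_48_0 lc_g_rc_49_2 lc_g_rc_48_0 lc_g_rc_16_1 lc_g_Cert_tree lc_g_Cert_tree lc_g_rc_48_0 lc_g_rc_49_2 lc_g_rc_7_1 lc_g_Cert_tree lc_g_rc_24_1 lc_g_Cert_tree lc_g_rc_16_1 lc_g_rc_48_0 lc_g_Cert_tree) (@D3.rec (fun _ => (Cert rels S Gen.g)) lc_g_rc_48_0 lc_g_rc_48_1 lc_g_rc_50_2 lc_g_rc_24_1 lc_g_rc_44_5 lc_g_rc_24_1 lc_g_Cert_tree lc_g_rc_48_0 lc_g_Cert_tree lc_g_rc_48_0 lc_g_rc_24_1 lc_g_rc_7_1 lc_g_Cert_tree lc_g_rc_7_1 lc_g_rc_48_0 lc_g_Cert_tree lc_g_rc_24_1 lc_g_Cert_tree lc_g_rc_48_0 lc_g_rc_48_1 lc_g_rc_16_1 lc_g_rc_16_1 lc_g_rc_48_0 lc_g_rc_48_1 lc_g_rc_24_1 lc_g_rc_47_2 lc_g_rc_50_2 lc_g_rc_7_1 lc_g_rc_16_1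 lc_g_Cert_tree lc_g_Cert_tree lc_g_rc_44_5 lc_g_rc_48_0 lc_g_rc_49_2 lc_g_rc_7_1 lc_g_Cert_tree lc_g_rc_24_1 lc_g_Cert_tree lc_g_rc_31_1 lc_g_rc_48_0 lc_g_rc_37_3 lc_g_rc_48_0 lc_g_rc_31_3 lc_g_rc_31_1 lc_g_rc_24_1 lc_g_rc_7_1 lc_g_Cert_tree lc_g_rc_24_1 lc_g_Cert_tree lc_g_rc_16_1 lc_g_rc_48_0) (@D3.rec (fun _ => (Cert rels S Gen.g)) lc_g_Cert_tree lc_g_rc_48_0 lc_g_rc_48_1 lc_g_rc_50_2 lc_g_rc_24_1 lc_g_rc_7_1 lc_g_Cert_tree lc_g_rc_48_0 lc_g_Cert_tree lc_g_rc_24_1 lc_g_Cert_tree lc_g_rc_48_0 lc_g_rc_48_1 lc_g_rc_16_1 lc_g_rc_48_0 lc_g_rc_47_2 lc_g_rc_49_2 lc_g_rc_47_2 lc_g_rc_50_2 lc_g_rc_7_1 lc_g_Cert_tree lc_g_rc_48_0 lc_g_Cert_tree lc_g_rc_24_1 lc_g_Cert_tree lc_g_rc_48_0 lc_g_rc_48_1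 lc_g_rc_16_1 lc_g_rc_48_0 lc_g_rc_48_1 lc_g_rc_49_2 lc_g_rc_47_2 lc_g_rc_50_2 lc_g_Cert_tree lc_g_Cert_tree lc_g_rc_48_0 lc_g_rc_7_1 lc_g_Cert_tree lc_g_rc_48_0 lc_g_rc_48_1 lc_g_rc_31_1 lc_g_rc_48_0 lc_g_rc_48_1 lc_g_rc_16_1 lc_g_rc_47_2 lc_g_rc_44_3 lc_g_rc_49_2 lc_g_rc_47_2 lc_g_rc_50_2 lc_g_rc_31_1 lc_g_rc_50_2) (@D3.rec (fun _ => (Cert rels S Gen.g)) lc_g_Cert_tree lc_g_Cert_tree lc_g_rc_48_0 lc_g_rc_48_1 lc_g_rc_7_1 lc_g_Cert_tree lc_g_rc_48_0 lc_g_rc_48_1 lc_g_rc_48_0 lc_g_rc_48_1 lc_g_rc_16_1 lc_g_rc_47_2 lc_g_rc_44_3 lc_g_rc_49_2 lc_g_rc_47_2 lc_g_rc_31_1 lc_g_rc_47_2 lc_g_Cert_tree lc_g_Cert_tree lc_g_rc_48_0 lc_g_rc_48_0 lc_g_rc_7_1 lc_g_Cert_tree lc_g_rc_48_0 lc_g_rc_24_1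 lc_g_rc_44_3 lc_g_rc_16_1 lc_g_rc_31_1 lc_g_rc_7_1 lc_g_Cert_tree lc_g_rc_48_0 lc_g_Cert_tree lc_g_rc_24_1 lc_g_Cert_tree lc_g_rc_48_0 lc_g_rc_48_1 lc_g_rc_16_1 lc_g_rc_48_0 lc_g_rc_44_1 lc_g_rc_31_1 lc_g_rc_47_2 lc_g_rc_50_2 lc_g_Cert_tree lc_g_Cert_tree lc_g_rc_48_0 lc_g_rc_7_1 lc_g_Cert_tree lc_g_rc_48_0 lc_g_rc_48_1 lc_g_rc_31_1 lc_g_rc_48_0) (@D3.rec (fun _ => (Cert rels S Gen.g)) lc_g_rc_48_1 lc_g_rc_16_1 lc_g_rc_47_2 lc_g_rc_47_2 lc_g_rc_47_2 lc_g_rc_49_2 lc_g_rc_50_2 lc_g_rc_37_1 lc_g_rc_50_2 lc_g_rc_48_0 lc_g_rc_7_1 lc_g_rc_24_1 lc_g_rc_47_2 lc_g_rc_31_1 lc_g_rc_37_1 lc_g_rc_16_1 lc_g_rc_50_2 lc_g_Cert_tree lc_g_Cert_tree lc_g_rc_48_0 lc_g_Cert_tree lc_g_rc_48_0 lc_g_rc_48_1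 lc_g_rc_31_1 lc_g_rc_48_0 lc_g_rc_48_1 lc_g_rc_47_2 lc_g_rc_47_2 lc_g_rc_47_2 lc_g_rc_31_1 lc_g_rc_50_2 lc_g_rc_50_2 lc_g_rc_7_1 lc_g_rc_31_1 lc_g_rc_24_1 lc_g_rc_31_1 lc_g_rc_37_1 lc_g_rc_31_1 lc_g_rc_24_1 lc_g_rc_31_1 lc_g_Cert_tree lc_g_rc_16_1 lc_g_rc_16_1 lc_g_rc_31_1 lc_g_rc_47_2 lc_g_rc_31_1 lc_g_rc_24_1 lc_g_rc_44_3 lc_g_rc_31_1 lc_g_rc_37_1 lc_g_rc_24_1) (@D3.rec (fun _ => (Cert rels S Gen.g)) lc_g_Cert_tree lc_g_rc_16_1 lc_g_rc_31_1 lc_g_rc_31_1 lc_g_rc_48_0 lc_g_rc_24_1 lc_g_rc_16_1 lc_g_rc_37_1 lc_g_Cert_tree lc_g_rc_31_1 lc_g_Cert_tree lc_g_rc_48_0 lc_g_rc_16_1 lc_g_rc_44_3 lc_g_rc_44_1 lc_g_rc_47_2 lc_g_rc_48_0 lc_g_rc_49_2 lc_g_rc_24_1 lc_g_Cert_tree lc_g_rc_48_0 lc_g_Cert_tree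 lc_g_rc_48_0 lc_g_rc_49_2 lc_g_rc_24_1 lc_g_rc_49_2 lc_g_rc_16_1 lc_g_rc_48_0 lc_g_rc_37_3 lc_g_rc_48_0 lc_g_rc_47_2 lc_g_rc_49_2 lc_g_rc_48_0 lc_g_Cert_tree lc_g_rc_48_0 lc_g_rc_49_2 lc_g_rc_24_1 lc_g_rc_16_3 lc_g_rc_16_1 lc_g_rc_48_0 lc_g_rc_16_1 lc_g_rc_48_0 lc_g_rc_24_1 lc_g_rc_24_1 lc_g_rc_49_2 lc_g_Cert_tree lc_g_rc_48_0 lc_g_rc_37_1 lc_g_Cert_tree lc_g_rc_49_2 lc_g_rc_48_0) (@D3.rec (fun _ => (Cert rels S Gen.g)) lc_g_rc_48_1 lc_g_rc_49_2 lc_g_rc_48_0 lc_g_rc_49_2 lc_g_rc_49_2 lc_g_rc_47_2 lc_g_rc_48_0 lc_g_rc_24_1 lc_g_Cert_tree lc_g_rc_48_0 lc_g_rc_48_0 lc_g_rc_48_1 lc_g_rc_16_1 lc_g_rc_47_2 lc_g_rc_44_3 lc_g_rc_24_1 lc_g_rc_47_2 lc_g_rc_7_1 lc_g_rc_47_2 lc_g_rc_7_1 lc_g_Cert_tree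 lc_g_Cert_tree lc_g_rc_48_0 lc_g_rc_24_1 lc_g_rc_48_0 lc_g_rc_24_3 lc_g_rc_24_1 lc_g_Cert_tree lc_g_rc_48_0 lc_g_rc_24_1 lc_g_rc_48_0 lc_g_rc_16_1 lc_g_Cert_tree lc_g_rc_48_0 lc_g_Cert_tree lc_g_rc_48_0 lc_g_rc_16_1 lc_g_rc_48_0 lc_g_rc_49_2 lc_g_rc_49_2 lc_g_rc_47_2 lc_g_Cert_tree lc_g_rc_48_0 lc_g_rc_7_1 lc_g_rc_48_0 lc_g_rc_49_2 lc_g_Cert_tree lc_g_rc_48_0 lc_g_rc_7_1 lc_g_rc_48_0 lc_g_rc_16_1) (@D3.rec (fun _ => (Cert rels S Gen.g)) lc_g_rc_44_3 lc_g_rc_49_2 lc_g_rc_47_2 lc_g_rc_31_1 lc_g_rc_47_2 lc_g_rc_48_0 lc_g_rc_7_1 lc_g_rc_44_3 lc_g_rc_16_1 lc_g_Cert_tree lc_g_Cert_tree lc_g_rc_48_0 lc_g_rc_48_1 lc_g_rc_48_0 lc_g_rc_48_1 lc_g_rc_7_1 lc_g_rc_47_2 lc_g_Cert_tree lc_g_rc_48_0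 lc_g_rc_48_1 lc_g_rc_24_1 lc_g_rc_47_2 lc_g_rc_31_1 lc_g_rc_44_3 lc_g_rc_16_1 lc_g_rc_47_2 lc_g_rc_31_1 lc_g_rc_47_2 lc_g_rc_7_3 lc_g_rc_44_3 lc_g_rc_47_2 lc_g_rc_31_1 lc_g_rc_24_1 lc_g_Cert_tree lc_g_rc_48_0 lc_g_Cert_tree lc_g_rc_48_0 lc_g_rc_7_1 lc_g_rc_7_1 lc_g_rc_7_1 lc_g_rc_48_0 lc_g_rc_24_1 lc_g_rc_24_1 lc_g_rc_7_3 lc_g_Cert_tree lc_g_rc_48_0 lc_g_rc_7_1 lc_g_rc_48_0 lc_g_rc_16_1 lc_g_rc_48_0 lc_g_rc_7_1) (@D3.rec (fun _ => (Cert rels S Gen.g)) lc_g_rc_47_2 lc_g_rc_48_0 lc_g_rc_47_2 lc_g_rc_7_1 lc_g_rc_31_1 lc_g_rc_24_1 lc_g_rc_44_3 lc_g_rc_47_2 lc_g_rc_31_1 lc_g_rc_24_1 lc_g_rc_31_1 lc_g_rc_31_1 lc_g_rc_24_1 lc_g_rc_37_1 lc_g_rc_16_1 lc_g_rc_24_1 lc_g_Cert_tree lc_g_rc_16_1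 lc_g_rc_24_1 lc_g_Cert_tree lc_g_rc_7_1 lc_g_rc_16_1 lc_g_rc_31_1 lc_g_Cert_tree lc_g_rc_48_0 lc_g_rc_7_1 lc_g_rc_16_1 lc_g_Cert_tree lc_g_Cert_tree lc_g_rc_44_5 lc_g_rc_48_0 lc_g_rc_44_5 lc_g_rc_31_1 lc_g_rc_24_1 lc_g_rc_37_1 lc_g_rc_24_1 lc_g_rc_37_1 lc_g_rc_16_1 lc_g_rc_24_1 lc_g_Cert_tree lc_g_rc_16_1 lc_g_rc_24_1 lc_g_Cert_tree lc_g_rc_7_1 lc_g_rc_16_1 lc_g_rc_31_1 lc_g_Cert_tree lc_g_rc_48_0 lc_g_rc_16_1 lc_g_rc_24_1 lc_g_Cert_tree) (@D3.rec (fun _ => (Cert rels S Gen.g)) lc_g_rc_7_1 lc_g_rc_16_1 lc_g_rc_24_1 lc_g_Cert_tree lc_g_rc_48_0 lc_g_rc_16_1 lc_g_rc_31_1 lc_g_Cert_tree lc_g_rc_48_0 lc_g_rc_7_1 lc_g_rc_16_1 lc_g_Cert_tree lc_g_Cert_tree lc_g_rc_44_5 lc_g_rc_48_0 lc_g_rc_49_2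 lc_g_rc_16_1 lc_g_Cert_tree lc_g_Cert_tree lc_g_rc_44_5 lc_g_rc_48_0 lc_g_rc_49_2 lc_g_rc_7_1 lc_g_Cert_tree lc_g_rc_24_1 lc_g_Cert_tree lc_g_rc_16_1 lc_g_rc_48_0 lc_g_Cert_tree lc_g_rc_48_0 lc_g_rc_48_1 lc_g_rc_50_2 lc_g_rc_24_1 lc_g_rc_47_2 lc_g_rc_24_1 lc_g_Cert_tree lc_g_rc_7_1 lc_g_rc_16_1 lc_g_rc_49_2 lc_g_Cert_tree lc_g_rc_48_0 lc_g_rc_7_1 lc_g_rc_16_1 lc_g_Cert_tree lc_g_Cert_tree lc_g_rc_37_1 lc_g_rc_48_0 lc_g_rc_49_2 lc_g_rc_7_1 lc_g_rc_16_1 lc_g_rc_31_1) (@D3.rec (fun _ => (Cert rels S Gen.g)) lc_g_Cert_tree lc_g_rc_48_0 lc_g_rc_7_1 lc_g_rc_16_1 lc_g_Cert_tree lc_g_Cert_tree lc_g_rc_44_5 lc_g_rc_48_0 lc_g_rc_49_2 lc_g_rc_7_1 lc_g_Cert_tree lc_g_rc_24_1 lc_g_Cert_tree lc_g_rc_16_1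 lc_g_rc_48_0 lc_g_Cert_tree lc_g_rc_48_0 lc_g_rc_48_1 lc_g_rc_50_2 lc_g_rc_24_1 lc_g_rc_7_1 lc_g_rc_16_1 lc_g_Cert_tree lc_g_Cert_tree lc_g_rc_44_5 lc_g_rc_48_0 lc_g_rc_44_5 lc_g_rc_7_1 lc_g_Cert_tree lc_g_rc_24_1 lc_g_Cert_tree lc_g_rc_16_1 lc_g_rc_48_0 lc_g_Cert_tree lc_g_rc_48_0 lc_g_rc_48_1 lc_g_rc_50_2 lc_g_rc_49_2 lc_g_rc_7_1 lc_g_Cert_tree lc_g_rc_7_1 lc_g_rc_48_0 lc_g_Cert_tree lc_g_rc_24_1 lc_g_Cert_tree lc_g_rc_48_0 lc_g_rc_48_1 lc_g_rc_16_1 lc_g_rc_16_1 lc_g_rc_48_0 lc_g_rc_48_1) (@D3.rec (fun _ => (Cert rels S Gen.g)) lc_g_rc_49_2 lc_g_rc_47_2 lc_g_rc_50_2 lc_g_Cert_tree lc_g_Cert_tree lc_g_rc_48_0 lc_g_rc_49_2 lc_g_Cert_tree lc_g_Cert_tree lc_g_rc_48_0 lc_g_Cert_tree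 lc_g_rc_48_0 lc_g_rc_48_1 lc_g_rc_47_2 lc_g_Cert_tree lc_g_rc_48_0 lc_g_Cert_tree lc_g_Cert_tree lc_g_rc_48_0 lc_g_rc_48_1 lc_g_rc_16_1 lc_g_rc_48_0 lc_g_rc_48_1 lc_g_rc_49_2 lc_g_rc_47_2 lc_g_rc_50_2 lc_g_Cert_tree lc_g_Cert_tree lc_g_rc_48_0 lc_g_rc_48_1 lc_g_rc_7_1 lc_g_Cert_tree lc_g_rc_48_0 lc_g_rc_48_1 lc_g_rc_48_0 lc_g_rc_48_1 lc_g_rc_16_1 lc_g_rc_47_2 lc_g_rc_50_2 lc_g_rc_44_3 lc_g_rc_49_2 lc_g_rc_47_2 lc_g_rc_31_1 lc_g_rc_50_2 lc_g_rc_47_2 lc_g_rc_50_2 lc_g_rc_44_3 lc_g_rc_47_2 lc_g_rc_31_1 lc_g_rc_24_1 lc_g_rc_37_1) (@D3.rec (fun _ => (Cert rels S Gen.g)) lc_g_rc_16_1 lc_g_rc_24_1 lc_g_Cert_tree lc_g_rc_31_1 lc_g_rc_24_1 lc_g_rc_37_1 lc_g_rc_16_1 lc_g_rc_24_1 lc_g_Cert_tree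 lc_g_rc_7_1 lc_g_rc_16_1 lc_g_rc_31_1 lc_g_Cert_tree lc_g_rc_48_0 lc_g_rc_24_1 lc_g_rc_31_1 lc_g_rc_24_1 lc_g_Cert_tree lc_g_rc_16_1 lc_g_rc_31_1 lc_g_Cert_tree lc_g_rc_48_0 lc_g_rc_7_1 lc_g_rc_16_1 lc_g_Cert_tree lc_g_Cert_tree lc_g_rc_44_5 lc_g_rc_48_0 lc_g_rc_49_2 lc_g_rc_24_1 lc_g_Cert_tree lc_g_rc_16_1 lc_g_rc_24_1 lc_g_Cert_tree lc_g_rc_48_0 lc_g_rc_7_1 lc_g_rc_16_1 lc_g_Cert_tree lc_g_Cert_tree lc_g_rc_44_5 lc_g_rc_48_0 lc_g_rc_49_2 lc_g_rc_31_1 lc_g_Cert_tree lc_g_rc_48_0 lc_g_rc_16_1 lc_g_Cert_tree lc_g_Cert_tree lc_g_rc_44_5 lc_g_rc_48_0 lc_g_rc_49_2) (@D3.rec (fun _ => (Cert rels S Gen.g)) lc_g_rc_7_1 lc_g_Cert_tree lc_g_rc_24_1 lc_g_Cert_tree lc_g_rc_16_1 lc_g_rc_48_0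 lc_g_Cert_tree lc_g_rc_48_0 lc_g_rc_48_1 lc_g_rc_50_2 lc_g_rc_24_1 lc_g_Cert_tree lc_g_rc_44_5 lc_g_rc_48_0 lc_g_rc_44_5 lc_g_rc_24_1 lc_g_Cert_tree lc_g_rc_16_1 lc_g_rc_48_0 lc_g_Cert_tree lc_g_rc_48_0 lc_g_rc_48_1 lc_g_rc_50_2 lc_g_rc_24_1 lc_g_rc_7_1 lc_g_Cert_tree lc_g_rc_7_1 lc_g_rc_48_0 lc_g_Cert_tree lc_g_rc_24_1 lc_g_Cert_tree lc_g_rc_48_0 lc_g_rc_48_1 lc_g_rc_16_1 lc_g_rc_16_1 lc_g_rc_48_0 lc_g_rc_48_1 lc_g_rc_24_1 lc_g_rc_47_2 lc_g_rc_50_2 lc_g_rc_7_1 lc_g_rc_16_1 lc_g_Cert_tree lc_g_Cert_tree lc_g_rc_44_5 lc_g_rc_48_0 lc_g_rc_49_2 lc_g_rc_7_1 lc_g_Cert_tree lc_g_rc_24_1 lc_g_Cert_tree) (@D3.rec (fun _ => (Cert rels S Gen.g)) lc_g_rc_31_1 lc_g_rc_48_0 lc_g_Cert_tree lc_g_rc_48_0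 lc_g_rc_48_1 lc_g_rc_31_1 lc_g_rc_24_1 lc_g_rc_7_1 lc_g_Cert_tree lc_g_rc_24_1 lc_g_Cert_tree lc_g_rc_16_1 lc_g_rc_48_0 lc_g_Cert_tree lc_g_rc_48_0 lc_g_rc_48_1 lc_g_rc_50_2 lc_g_rc_24_1 lc_g_rc_7_1 lc_g_Cert_tree lc_g_rc_7_1 lc_g_rc_48_0 lc_g_Cert_tree lc_g_rc_24_1 lc_g_Cert_tree lc_g_rc_48_0 lc_g_rc_48_1 lc_g_rc_16_1 lc_g_rc_16_1 lc_g_rc_48_0 lc_g_rc_48_1 lc_g_rc_31_1 lc_g_rc_47_2 lc_g_rc_50_2 lc_g_rc_7_1 lc_g_Cert_tree lc_g_rc_7_1 lc_g_rc_48_0 lc_g_Cert_tree lc_g_rc_24_1 lc_g_Cert_tree lc_g_rc_48_0 lc_g_rc_48_1 lc_g_rc_16_1 lc_g_rc_16_1 lc_g_rc_48_0 lc_g_rc_48_1 lc_g_rc_49_2 lc_g_rc_47_2 lc_g_rc_50_2 lc_g_rc_16_1) (@D3.rec (fun _ => (Cert rels S Gen.g)) lc_g_Cert_tree lc_g_rc_7_1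 lc_g_Cert_tree lc_g_rc_48_0 lc_g_rc_48_1 lc_g_rc_7_1 lc_g_rc_7_1 lc_g_Cert_tree lc_g_rc_48_0 lc_g_rc_48_1 lc_g_rc_31_1 lc_g_rc_24_1 lc_g_rc_48_0 lc_g_rc_48_1 lc_g_rc_16_1 lc_g_rc_47_2 lc_g_rc_50_2 lc_g_rc_44_3 lc_g_rc_49_2 lc_g_rc_47_2 lc_g_rc_31_1 lc_g_rc_50_2 lc_g_rc_31_1 lc_g_rc_50_2 lc_g_Cert_tree lc_g_rc_48_0 lc_g_rc_7_1 lc_g_Cert_tree lc_g_rc_48_0 lc_g_rc_48_0 lc_g_rc_48_1 lc_g_rc_16_1 lc_g_rc_47_2 lc_g_rc_44_3 lc_g_rc_49_2 lc_g_rc_47_2 lc_g_rc_31_1 lc_g_rc_50_2 lc_g_rc_47_2 lc_g_rc_50_2 lc_g_Cert_tree lc_g_rc_48_0 lc_g_rc_48_0 lc_g_rc_48_1 lc_g_rc_7_1 lc_g_rc_47_2 lc_g_Cert_tree lc_g_rc_48_0 lc_g_rc_48_1 lc_g_rc_24_1 lc_g_rc_47_2) (@D3.rec (fun _ => (Cert rels S Gen.g)) lc_g_rc_16_1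 lc_g_rc_16_1 lc_g_rc_47_2 lc_g_rc_31_1 lc_g_rc_50_2 lc_g_rc_31_1 lc_g_rc_50_2 lc_g_Cert_tree lc_g_rc_44_3 lc_g_rc_37_1 lc_g_rc_31_1 lc_g_rc_50_2 lc_g_rc_24_1 lc_g_rc_50_2 lc_g_rc_31_1 lc_g_rc_7_1 lc_g_Cert_tree lc_g_rc_7_1 lc_g_rc_48_0 lc_g_Cert_tree lc_g_rc_24_1 lc_g_Cert_tree lc_g_rc_48_0 lc_g_rc_48_1 lc_g_rc_16_1 lc_g_rc_16_1 lc_g_rc_48_0 lc_g_rc_48_1 lc_g_rc_31_1 lc_g_rc_47_2 lc_g_rc_50_2 lc_g_Cert_tree lc_g_rc_7_1 lc_g_Cert_tree lc_g_rc_48_0 lc_g_rc_48_1 lc_g_rc_7_1 lc_g_rc_7_1 lc_g_Cert_tree lc_g_rc_48_0 lc_g_rc_48_1 lc_g_rc_31_1 lc_g_rc_24_1 lc_g_rc_48_0 lc_g_rc_48_1 lc_g_rc_16_1 lc_g_rc_47_2 lc_g_rc_50_2 lc_g_rc_44_3 lc_g_rc_37_1 lc_g_rc_47_2) (@D3.rec (fun _ => (Cert rels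 S Gen.g)) lc_g_rc_31_1 lc_g_rc_50_2 lc_g_rc_47_2 lc_g_rc_50_2 lc_g_Cert_tree lc_g_rc_48_0 lc_g_rc_48_1 lc_g_rc_7_1 lc_g_rc_48_0 lc_g_rc_48_1 lc_g_rc_7_1 lc_g_rc_47_2 lc_g_rc_50_2 lc_g_rc_48_0 lc_g_rc_48_1 lc_g_rc_24_1 lc_g_rc_47_2 lc_g_rc_31_1 lc_g_rc_50_2 lc_g_rc_37_1 lc_g_rc_31_1 lc_g_rc_16_1 lc_g_rc_16_1 lc_g_rc_47_2 lc_g_rc_31_1 lc_g_rc_50_2 lc_g_rc_16_1 lc_g_rc_50_2 lc_g_Cert_tree lc_g_rc_44_3 lc_g_rc_47_2 lc_g_rc_31_1 lc_g_rc_50_2 lc_g_rc_24_1 lc_g_rc_50_2 lc_g_rc_50_2 lc_g_rc_7_1 lc_g_rc_7_1 lc_g_rc_47_2 lc_g_rc_31_1 lc_g_rc_50_2 lc_g_rc_7_1 lc_g_rc_50_2 lc_g_Cert_tree lc_g_rc_16_1 lc_g_rc_16_1 lc_g_rc_31_1 lc_g_rc_50_2 lc_g_rc_24_1 lc_g_rc_50_2 lc_g_rc_16_1) (@D3.rec (fun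 _ => (Cert rels S Gen.g)) lc_g_rc_48_0 lc_g_rc_16_3 lc_g_rc_31_1 lc_g_rc_50_2 lc_g_rc_31_1 lc_g_rc_50_2 lc_g_rc_24_1 lc_g_rc_50_2 lc_g_rc_16_1 lc_g_rc_37_3 lc_g_rc_47_2 lc_g_rc_16_1 lc_g_rc_7_1 lc_g_rc_31_3 lc_g_rc_31_1 lc_g_rc_47_2 lc_g_rc_31_1 lc_g_rc_24_1 lc_g_rc_44_3 lc_g_rc_31_1 lc_g_rc_37_1 lc_g_rc_16_1 lc_g_rc_24_1 lc_g_Cert_tree lc_g_rc_7_1 lc_g_rc_16_1 lc_g_rc_31_1 lc_g_rc_31_1 lc_g_rc_48_0 lc_g_rc_37_1 lc_g_Cert_tree lc_g_rc_16_1 lc_g_rc_31_1 lc_g_Cert_tree lc_g_rc_48_0 lc_g_rc_7_1 lc_g_rc_16_1 lc_g_Cert_tree lc_g_rc_44_1 lc_g_rc_47_2 lc_g_rc_48_0 lc_g_rc_49_2 lc_g_Cert_tree lc_g_rc_48_0 lc_g_rc_16_1 lc_g_Cert_tree lc_g_Cert_tree lc_g_rc_48_0 lc_g_rc_49_2 lc_g_rc_7_1 lc_g_Cert_tree)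 (@D3.rec (fun _ => (Cert rels S Gen.g)) lc_g_rc_24_1 lc_g_Cert_tree lc_g_rc_16_1 lc_g_rc_48_0 lc_g_rc_37_3 lc_g_rc_48_0 lc_g_rc_47_2 lc_g_rc_49_2 lc_g_rc_48_0 lc_g_rc_16_1 lc_g_Cert_tree lc_g_Cert_tree lc_g_rc_48_0 lc_g_rc_49_2 lc_g_rc_7_1 lc_g_Cert_tree lc_g_rc_16_1 lc_g_Cert_tree lc_g_rc_16_1 lc_g_rc_48_0 lc_g_rc_31_1 lc_g_rc_48_0 lc_g_rc_37_1 lc_g_rc_49_2 lc_g_rc_24_1 lc_g_rc_49_2 lc_g_rc_24_1 lc_g_Cert_tree lc_g_rc_48_0 lc_g_Cert_tree lc_g_rc_48_0 lc_g_rc_24_1 lc_g_rc_7_1 lc_g_Cert_tree lc_g_rc_7_1 lc_g_rc_48_0 lc_g_Cert_tree lc_g_rc_24_1 lc_g_Cert_tree lc_g_rc_48_0 lc_g_rc_48_1 lc_g_rc_16_1 lc_g_rc_16_1 lc_g_rc_48_0 lc_g_rc_49_2 lc_g_rc_47_2 lc_g_rc_47_2 lc_g_rc_50_2 lc_g_Cert_tree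 lc_g_Cert_tree lc_g_rc_48_0) (@D3.rec (fun _ => (Cert rels S Gen.g)) lc_g_rc_16_1 lc_g_rc_48_0 lc_g_rc_24_1 lc_g_rc_16_1 lc_g_Cert_tree lc_g_rc_7_1 lc_g_Cert_tree lc_g_rc_48_0 lc_g_rc_48_1 lc_g_rc_7_1 lc_g_Cert_tree lc_g_rc_48_0 lc_g_rc_48_1 lc_g_rc_31_1 lc_g_rc_48_0 lc_g_rc_48_1 lc_g_rc_16_1 lc_g_rc_47_2 lc_g_rc_50_2 lc_g_rc_44_3 lc_g_rc_24_1 lc_g_rc_47_2 lc_g_rc_31_1 lc_g_rc_50_2 lc_g_rc_47_2 lc_g_rc_50_2 lc_g_rc_7_1 lc_g_Cert_tree lc_g_rc_24_1 lc_g_Cert_tree lc_g_rc_47_2 lc_g_rc_48_0 lc_g_rc_37_3 lc_g_rc_48_0 lc_g_rc_48_1 lc_g_rc_47_2 lc_g_rc_24_1 lc_g_rc_7_1 lc_g_Cert_tree lc_g_rc_48_0 lc_g_Cert_tree lc_g_rc_47_2 lc_g_rc_37_3 lc_g_rc_48_0 lc_g_rc_31_3 lc_g_rc_16_1 lc_g_rc_31_3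 lc_g_rc_7_1 lc_g_Cert_tree lc_g_rc_48_0 lc_g_Cert_tree) (@D3.rec (fun _ => (Cert rels S Gen.g)) lc_g_rc_24_1 lc_g_Cert_tree lc_g_rc_48_0 lc_g_rc_48_1 lc_g_rc_16_1 lc_g_rc_48_0 lc_g_rc_48_1 lc_g_rc_49_2 lc_g_rc_47_2 lc_g_rc_50_2 lc_g_Cert_tree lc_g_Cert_tree lc_g_rc_48_0 lc_g_rc_7_1 lc_g_Cert_tree lc_g_rc_48_0 lc_g_rc_48_1 lc_g_rc_31_1 lc_g_rc_48_0 lc_g_rc_49_2 lc_g_rc_49_2 lc_g_rc_47_2 lc_g_rc_31_1 lc_g_rc_50_2 lc_g_Cert_tree lc_g_Cert_tree lc_g_rc_48_0 lc_g_rc_7_1 lc_g_Cert_tree lc_g_rc_48_0 lc_g_rc_48_1 lc_g_rc_48_0 lc_g_rc_48_1 lc_g_rc_16_1 lc_g_rc_47_2 lc_g_rc_44_3 lc_g_rc_49_2 lc_g_rc_47_2 lc_g_rc_31_1 lc_g_rc_50_2 lc_g_rc_47_2 lc_g_rc_50_2 lc_g_Cert_tree lc_g_rc_48_0 lc_g_rc_48_0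 lc_g_rc_7_1 lc_g_Cert_tree lc_g_rc_48_0 lc_g_rc_48_1 lc_g_rc_24_1 lc_g_rc_47_2) (@D3.rec (fun _ => (Cert rels S Gen.g)) lc_g_rc_31_1 lc_g_rc_37_1 lc_g_rc_44_3 lc_g_rc_16_1 lc_g_rc_47_2 lc_g_rc_31_1 lc_g_rc_50_2 lc_g_rc_31_1 lc_g_Cert_tree lc_g_rc_48_0 lc_g_rc_48_0 lc_g_rc_48_1 lc_g_rc_7_1 lc_g_rc_47_2 lc_g_Cert_tree lc_g_rc_48_0 lc_g_rc_48_1 lc_g_rc_24_1 lc_g_rc_47_2 lc_g_rc_44_3 lc_g_rc_16_1 lc_g_rc_47_2 lc_g_rc_31_1 lc_g_rc_47_2 lc_g_rc_31_1 lc_g_rc_44_3 lc_g_rc_47_2 lc_g_rc_31_1 lc_g_rc_24_1 lc_g_Cert_tree lc_g_rc_48_0 lc_g_Cert_tree lc_g_rc_48_0 lc_g_rc_7_1 lc_g_rc_7_1 lc_g_rc_7_1 lc_g_rc_48_0 lc_g_rc_48_1 lc_g_rc_24_1 lc_g_rc_24_1 lc_g_rc_31_1 lc_g_Cert_tree lc_g_Cert_tree lc_g_rc_48_0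 lc_g_rc_7_1 lc_g_Cert_tree lc_g_rc_48_0 lc_g_rc_48_1 lc_g_rc_31_1 lc_g_rc_48_0 lc_g_rc_44_1) (@D3.rec (fun _ => (Cert rels S Gen.g)) lc_g_rc_16_1 lc_g_rc_47_2 lc_g_rc_44_1 lc_g_rc_50_2 lc_g_Cert_tree lc_g_rc_48_0 lc_g_rc_48_0 lc_g_rc_7_1 lc_g_Cert_tree lc_g_rc_48_0 lc_g_rc_48_1 lc_g_rc_24_1 lc_g_rc_47_2 lc_g_rc_31_1 lc_g_rc_37_1 lc_g_rc_24_3 lc_g_rc_47_2 lc_g_rc_49_2 lc_g_rc_37_1 lc_g_rc_50_2 lc_g_rc_49_2 lc_g_rc_49_2 lc_g_rc_7_1 lc_g_rc_24_1 lc_g_rc_31_1 lc_g_rc_37_1 lc_g_Cert_tree lc_g_Cert_tree lc_g_rc_48_0 lc_g_rc_48_0 lc_g_Cert_tree lc_g_rc_48_0 lc_g_rc_48_1 lc_g_rc_47_2 lc_g_rc_31_1 lc_g_rc_37_1 lc_g_rc_47_2 lc_g_rc_47_2 lc_g_rc_31_1 lc_g_rc_50_2 lc_g_rc_16_3 lc_g_rc_7_1 lc_g_rc_44_5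 lc_g_rc_31_1 lc_g_rc_37_1 lc_g_Cert_tree lc_g_rc_24_1 lc_g_rc_16_1 lc_g_rc_24_1 lc_g_rc_47_2 lc_g_rc_48_0)
def ce_g_3 : D2 → D3 → (Cert rels S Gen.g) := @D2.rec (fun _ => D3 → (Cert rels S Gen.g)) (@D3.rec (fun _ => (Cert rels S Gen.g)) lc_g_rc_24_1 lc_g_rc_16_1 lc_g_rc_16_1 lc_g_rc_37_1 lc_g_rc_44_3 lc_g_rc_31_1 lc_g_rc_31_1 lc_g_rc_37_1 lc_g_Cert_tree lc_g_rc_31_1 lc_g_rc_16_1 lc_g_rc_48_0 lc_g_rc_24_1 lc_g_Cert_tree lc_g_rc_48_0 lc_g_rc_44_1 lc_g_rc_48_0 lc_g_rc_49_2 lc_g_rc_47_2 lc_g_rc_31_1 lc_g_rc_48_0 lc_g_rc_49_2 lc_g_rc_49_2 lc_g_rc_48_0 lc_g_rc_49_2 lc_g_rc_24_1 lc_g_rc_37_1 lc_g_rc_47_2 lc_g_rc_49_2 lc_g_rc_16_1 lc_g_rc_48_0 lc_g_rc_24_1 lc_g_rc_24_3 lc_g_rc_48_0 lc_g_rc_49_2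 lc_g_rc_49_2 lc_g_rc_48_0 lc_g_rc_49_2 lc_g_rc_47_2 lc_g_rc_44_3 lc_g_rc_24_1 lc_g_rc_7_1 lc_g_rc_48_0 lc_g_rc_24_1 lc_g_rc_47_2 lc_g_rc_7_3 lc_g_rc_16_1 lc_g_rc_7_3 lc_g_rc_48_0 lc_g_rc_24_1 lc_g_rc_48_0) (@D3.rec (fun _ => (Cert rels S Gen.g)) lc_g_rc_16_1 lc_g_rc_24_1 lc_g_rc_48_0 lc_g_rc_7_1 lc_g_rc_49_2 lc_g_rc_48_0 lc_g_rc_49_2 lc_g_rc_48_0 lc_g_rc_49_2 lc_g_rc_48_0 lc_g_rc_31_1 lc_g_rc_48_0 lc_g_rc_7_1 lc_g_rc_44_3 lc_g_rc_16_1 lc_g_rc_31_1 lc_g_rc_7_1 lc_g_rc_7_1 lc_g_Cert_tree lc_g_rc_48_0 lc_g_Cert_tree lc_g_rc_48_0 lc_g_rc_48_1 lc_g_rc_7_1 lc_g_rc_47_2 lc_g_rc_7_1 lc_g_rc_7_1 lc_g_rc_47_2 lc_g_rc_47_2 lc_g_rc_7_1 lc_g_rc_48_0 lc_g_rc_24_1 lc_g_rc_24_1 lc_g_rc_47_2 lc_g_rc_47_2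 lc_g_rc_31_1 lc_g_rc_44_3 lc_g_rc_47_2 lc_g_rc_31_1 lc_g_rc_24_1 lc_g_Cert_tree lc_g_rc_48_0 lc_g_rc_16_1 lc_g_rc_48_0 lc_g_rc_24_1 lc_g_rc_7_1 lc_g_rc_31_1 lc_g_rc_48_0 lc_g_rc_7_1 lc_g_rc_24_3 lc_g_rc_47_2) (@D3.rec (fun _ => (Cert rels S Gen.g)) lc_g_rc_24_1 lc_g_rc_37_1 lc_g_rc_44_3 lc_g_rc_31_1 lc_g_rc_24_1 lc_g_rc_37_1 lc_g_rc_16_1 lc_g_rc_24_1 lc_g_Cert_tree lc_g_rc_24_1 lc_g_rc_37_1 lc_g_rc_16_1 lc_g_rc_24_1 lc_g_Cert_tree lc_g_rc_7_1 lc_g_rc_16_1 lc_g_rc_31_1 lc_g_Cert_tree lc_g_rc_48_0 lc_g_rc_7_1 lc_g_rc_16_1 lc_g_rc_31_1 lc_g_Cert_tree lc_g_rc_48_0 lc_g_rc_7_1 lc_g_rc_16_1 lc_g_Cert_tree lc_g_Cert_tree lc_g_rc_44_5 lc_g_rc_48_0 lc_g_rc_49_2 lc_g_rc_7_1 lc_g_Cert_tree lc_g_rc_24_1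 lc_g_Cert_tree lc_g_rc_16_1 lc_g_rc_48_0 lc_g_Cert_tree lc_g_rc_48_0 lc_g_rc_48_1 lc_g_rc_50_2 lc_g_rc_44_5 lc_g_rc_24_1 lc_g_rc_37_1 lc_g_rc_16_1 lc_g_rc_24_1 lc_g_Cert_tree lc_g_rc_16_1 lc_g_rc_24_1 lc_g_Cert_tree lc_g_rc_7_1) (@D3.rec (fun _ => (Cert rels S Gen.g)) lc_g_rc_16_1 lc_g_rc_31_1 lc_g_Cert_tree lc_g_rc_48_0 lc_g_rc_16_1 lc_g_rc_31_1 lc_g_Cert_tree lc_g_rc_48_0 lc_g_rc_7_1 lc_g_rc_16_1 lc_g_Cert_tree lc_g_Cert_tree lc_g_rc_44_5 lc_g_rc_48_0 lc_g_rc_49_2 lc_g_rc_16_1 lc_g_rc_24_1 lc_g_Cert_tree lc_g_rc_48_0 lc_g_rc_7_1 lc_g_rc_16_1 lc_g_Cert_tree lc_g_Cert_tree lc_g_rc_44_5 lc_g_rc_48_0 lc_g_rc_49_2 lc_g_rc_16_1 lc_g_Cert_tree lc_g_Cert_tree lc_g_rc_44_5 lc_g_rc_48_0 lc_g_rc_49_2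 lc_g_rc_7_1 lc_g_Cert_tree lc_g_rc_24_1 lc_g_Cert_tree lc_g_rc_16_1 lc_g_rc_48_0 lc_g_Cert_tree lc_g_rc_48_0 lc_g_rc_48_1 lc_g_rc_50_2 lc_g_rc_24_1 lc_g_rc_24_1 lc_g_Cert_tree lc_g_rc_16_1 lc_g_rc_48_0 lc_g_Cert_tree lc_g_rc_48_0 lc_g_rc_48_1 lc_g_rc_50_2) (@D3.rec (fun _ => (Cert rels S Gen.g)) lc_g_rc_24_1 lc_g_rc_7_1 lc_g_Cert_tree lc_g_rc_7_1 lc_g_rc_48_0 lc_g_Cert_tree lc_g_rc_24_1 lc_g_Cert_tree lc_g_rc_48_0 lc_g_rc_48_1 lc_g_rc_16_1 lc_g_rc_16_1 lc_g_rc_48_0 lc_g_rc_48_1 lc_g_rc_24_1 lc_g_rc_47_2 lc_g_rc_50_2 lc_g_rc_7_1 lc_g_rc_47_2 lc_g_rc_31_1 lc_g_Cert_tree lc_g_rc_48_0 lc_g_rc_7_1 lc_g_rc_16_1 lc_g_Cert_tree lc_g_Cert_tree lc_g_rc_44_5 lc_g_rc_48_0 lc_g_rc_49_2 lc_g_rc_7_1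 lc_g_Cert_tree lc_g_rc_24_1 lc_g_Cert_tree lc_g_rc_37_1 lc_g_rc_48_0 lc_g_Cert_tree lc_g_rc_48_0 lc_g_rc_48_1 lc_g_rc_37_1 lc_g_rc_24_1 lc_g_rc_7_1 lc_g_rc_16_1 lc_g_Cert_tree lc_g_Cert_tree lc_g_rc_44_5 lc_g_rc_48_0 lc_g_rc_49_2 lc_g_rc_7_1 lc_g_Cert_tree lc_g_rc_24_1 lc_g_Cert_tree) (@D3.rec (fun _ => (Cert rels S Gen.g)) lc_g_rc_16_1 lc_g_rc_48_0 lc_g_Cert_tree lc_g_rc_48_0 lc_g_rc_48_1 lc_g_rc_50_2 lc_g_rc_24_1 lc_g_rc_7_1 lc_g_Cert_tree lc_g_rc_7_1 lc_g_rc_48_0 lc_g_Cert_tree lc_g_rc_24_1 lc_g_Cert_tree lc_g_rc_48_0 lc_g_rc_48_1 lc_g_rc_16_1 lc_g_rc_16_1 lc_g_rc_48_0 lc_g_rc_48_1 lc_g_rc_31_1 lc_g_rc_47_2 lc_g_rc_50_2 lc_g_rc_7_1 lc_g_Cert_tree lc_g_rc_24_1 lc_g_Cert_tree lc_g_rc_16_1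 lc_g_rc_48_0 lc_g_Cert_tree lc_g_rc_48_0 lc_g_rc_48_1 lc_g_rc_50_2 lc_g_rc_44_5 lc_g_rc_7_1 lc_g_Cert_tree lc_g_rc_7_1 lc_g_rc_48_0 lc_g_Cert_tree lc_g_rc_24_1 lc_g_Cert_tree lc_g_rc_48_0 lc_g_rc_48_1 lc_g_rc_16_1 lc_g_rc_16_1 lc_g_rc_48_0 lc_g_rc_48_1 lc_g_rc_49_2 lc_g_rc_47_2 lc_g_rc_50_2 lc_g_rc_16_1) (@D3.rec (fun _ => (Cert rels S Gen.g)) lc_g_Cert_tree lc_g_rc_7_1 lc_g_Cert_tree lc_g_rc_48_0 lc_g_rc_48_1 lc_g_rc_7_1 lc_g_rc_7_1 lc_g_Cert_tree lc_g_rc_48_0 lc_g_rc_48_1 lc_g_rc_31_1 lc_g_rc_24_1 lc_g_rc_48_0 lc_g_rc_48_1 lc_g_rc_16_1 lc_g_rc_47_2 lc_g_rc_50_2 lc_g_rc_44_3 lc_g_rc_49_2 lc_g_rc_47_2 lc_g_rc_31_1 lc_g_rc_50_2 lc_g_rc_44_5 lc_g_rc_50_2 lc_g_rc_48_0 lc_g_Cert_tree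 lc_g_rc_48_0 lc_g_rc_24_1 lc_g_rc_48_0 lc_g_Cert_tree lc_g_rc_48_0 lc_g_rc_47_2 lc_g_rc_48_0 lc_g_rc_48_1 lc_g_rc_49_2 lc_g_rc_47_2 lc_g_Cert_tree lc_g_rc_48_0 lc_g_rc_7_1 lc_g_Cert_tree lc_g_rc_48_0 lc_g_rc_48_0 lc_g_rc_48_1 lc_g_rc_16_1 lc_g_rc_47_2 lc_g_rc_44_3 lc_g_rc_49_2 lc_g_rc_47_2 lc_g_rc_31_1 lc_g_rc_50_2 lc_g_rc_47_2) (@D3.rec (fun _ => (Cert rels S Gen.g)) lc_g_rc_50_2 lc_g_Cert_tree lc_g_rc_48_0 lc_g_rc_48_0 lc_g_rc_48_1 lc_g_rc_7_1 lc_g_rc_47_2 lc_g_Cert_tree lc_g_rc_48_0 lc_g_rc_48_1 lc_g_rc_24_1 lc_g_rc_47_2 lc_g_rc_16_1 lc_g_rc_16_1 lc_g_rc_47_2 lc_g_rc_31_1 lc_g_rc_50_2 lc_g_rc_47_2 lc_g_rc_50_2 lc_g_Cert_tree lc_g_rc_44_3 lc_g_rc_47_2 lc_g_rc_31_1 lc_g_rc_50_2 lc_g_rc_24_1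 lc_g_rc_50_2 lc_g_rc_49_2 lc_g_rc_44_3 lc_g_rc_31_1 lc_g_rc_24_1 lc_g_rc_37_1 lc_g_rc_16_1 lc_g_rc_24_1 lc_g_Cert_tree lc_g_rc_7_1 lc_g_rc_16_1 lc_g_rc_31_1 lc_g_Cert_tree lc_g_rc_48_0 lc_g_rc_24_1 lc_g_rc_37_1 lc_g_rc_24_1 lc_g_Cert_tree lc_g_rc_16_1 lc_g_rc_31_1 lc_g_Cert_tree lc_g_rc_48_0 lc_g_rc_7_1 lc_g_rc_16_1 lc_g_Cert_tree lc_g_Cert_tree) (@D3.rec (fun _ => (Cert rels S Gen.g)) lc_g_rc_47_2 lc_g_rc_48_0 lc_g_rc_49_2 lc_g_rc_24_1 lc_g_Cert_tree lc_g_rc_31_1 lc_g_Cert_tree lc_g_rc_48_0 lc_g_rc_16_1 lc_g_Cert_tree lc_g_Cert_tree lc_g_rc_47_2 lc_g_rc_48_0 lc_g_rc_49_2 lc_g_rc_7_1 lc_g_Cert_tree lc_g_rc_24_1 lc_g_Cert_tree lc_g_rc_16_1 lc_g_rc_48_0 lc_g_Cert_tree lc_g_rc_48_0 lc_g_rc_48_1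 lc_g_rc_50_2 lc_g_rc_24_1 lc_g_rc_31_1 lc_g_Cert_tree lc_g_rc_48_0 lc_g_rc_16_1 lc_g_Cert_tree lc_g_Cert_tree lc_g_rc_44_5 lc_g_rc_48_0 lc_g_rc_49_2 lc_g_rc_7_1 lc_g_Cert_tree lc_g_rc_16_1 lc_g_Cert_tree lc_g_rc_16_1 lc_g_rc_48_0 lc_g_Cert_tree lc_g_rc_48_0 lc_g_rc_48_1 lc_g_rc_49_2 lc_g_rc_24_1 lc_g_Cert_tree lc_g_rc_44_5 lc_g_rc_48_0 lc_g_rc_49_2 lc_g_rc_24_1 lc_g_Cert_tree) (@D3.rec (fun _ => (Cert rels S Gen.g)) lc_g_rc_16_1 lc_g_rc_48_0 lc_g_Cert_tree lc_g_rc_48_0 lc_g_rc_48_1 lc_g_rc_50_2 lc_g_rc_24_1 lc_g_rc_7_1 lc_g_Cert_tree lc_g_rc_7_1 lc_g_rc_48_0 lc_g_Cert_tree lc_g_rc_24_1 lc_g_Cert_tree lc_g_rc_48_0 lc_g_rc_48_1 lc_g_rc_16_1 lc_g_rc_16_1 lc_g_rc_48_0 lc_g_rc_48_1 lc_g_rc_31_1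 lc_g_rc_47_2 lc_g_rc_50_2 lc_g_Cert_tree lc_g_rc_48_0 lc_g_rc_48_1 lc_g_rc_50_2 lc_g_rc_47_2 lc_g_Cert_tree lc_g_rc_24_1 lc_g_Cert_tree lc_g_rc_48_0 lc_g_rc_48_1 lc_g_rc_16_1 lc_g_rc_16_1 lc_g_rc_48_0 lc_g_rc_48_1 lc_g_rc_24_1 lc_g_rc_47_2 lc_g_rc_50_2 lc_g_rc_16_1 lc_g_Cert_tree lc_g_rc_7_1 lc_g_Cert_tree lc_g_rc_48_0 lc_g_rc_48_1 lc_g_rc_7_1 lc_g_rc_7_1 lc_g_Cert_tree lc_g_rc_48_0 lc_g_rc_48_1) (@D3.rec (fun _ => (Cert rels S Gen.g)) lc_g_rc_31_1 lc_g_rc_24_1 lc_g_rc_48_0 lc_g_rc_48_1 lc_g_rc_16_1 lc_g_rc_47_2 lc_g_rc_50_2 lc_g_rc_44_3 lc_g_rc_24_1 lc_g_rc_47_2 lc_g_rc_31_1 lc_g_rc_50_2 lc_g_rc_44_5 lc_g_rc_50_2 lc_g_rc_7_1 lc_g_Cert_tree lc_g_rc_24_1 lc_g_Cert_tree lc_g_rc_47_2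 lc_g_rc_48_0 lc_g_Cert_tree lc_g_rc_48_0 lc_g_rc_48_1 lc_g_rc_47_2 lc_g_rc_24_1 lc_g_rc_7_1 lc_g_Cert_tree lc_g_rc_7_1 lc_g_rc_48_0 lc_g_Cert_tree lc_g_rc_47_2 lc_g_Cert_tree lc_g_rc_48_0 lc_g_rc_48_1 lc_g_rc_31_1 lc_g_rc_16_1 lc_g_rc_48_0 lc_g_rc_48_1 lc_g_rc_31_1 lc_g_rc_47_2 lc_g_rc_50_2 lc_g_rc_7_1 lc_g_Cert_tree lc_g_rc_7_1 lc_g_rc_48_0 lc_g_Cert_tree lc_g_rc_24_1 lc_g_Cert_tree lc_g_rc_48_0 lc_g_rc_48_1 lc_g_rc_16_1) (@D3.rec (fun _ => (Cert rels S Gen.g)) lc_g_rc_16_1 lc_g_rc_48_0 lc_g_rc_48_1 lc_g_rc_31_1 lc_g_rc_47_2 lc_g_rc_50_2 lc_g_rc_16_1 lc_g_Cert_tree lc_g_rc_7_1 lc_g_Cert_tree lc_g_rc_48_0 lc_g_rc_48_1 lc_g_rc_7_1 lc_g_rc_7_1 lc_g_Cert_tree lc_g_rc_48_0 lc_g_rc_48_1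 lc_g_rc_31_1 lc_g_rc_24_1 lc_g_rc_48_0 lc_g_rc_48_1 lc_g_rc_16_1 lc_g_rc_47_2 lc_g_rc_50_2 lc_g_rc_44_3 lc_g_rc_37_1 lc_g_rc_47_2 lc_g_rc_31_1 lc_g_rc_50_2 lc_g_rc_47_2 lc_g_rc_50_2 lc_g_rc_16_1 lc_g_Cert_tree lc_g_rc_7_1 lc_g_Cert_tree lc_g_rc_48_0 lc_g_rc_48_1 lc_g_rc_7_1 lc_g_rc_7_1 lc_g_Cert_tree lc_g_rc_48_0 lc_g_rc_48_1 lc_g_rc_31_1 lc_g_rc_24_1 lc_g_rc_48_0 lc_g_rc_48_1 lc_g_rc_16_1 lc_g_rc_47_2 lc_g_rc_50_2 lc_g_rc_44_3 lc_g_rc_49_2) (@D3.rec (fun _ => (Cert rels S Gen.g)) lc_g_rc_47_2 lc_g_rc_31_1 lc_g_rc_50_2 lc_g_rc_44_5 lc_g_rc_50_2 lc_g_Cert_tree lc_g_Cert_tree lc_g_rc_48_0 lc_g_rc_48_1 lc_g_rc_7_1 lc_g_rc_48_0 lc_g_rc_48_1 lc_g_rc_7_1 lc_g_rc_47_2 lc_g_rc_50_2 lc_g_Cert_tree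 lc_g_rc_48_0 lc_g_rc_48_1 lc_g_rc_24_1 lc_g_rc_47_2 lc_g_rc_31_1 lc_g_rc_50_2 lc_g_rc_37_1 lc_g_rc_31_1 lc_g_rc_16_1 lc_g_rc_16_1 lc_g_rc_47_2 lc_g_rc_31_1 lc_g_rc_50_2 lc_g_rc_31_1 lc_g_rc_50_2 lc_g_Cert_tree lc_g_rc_44_3 lc_g_rc_37_1 lc_g_rc_31_1 lc_g_rc_50_2 lc_g_rc_24_1 lc_g_rc_50_2 lc_g_rc_31_1 lc_g_rc_48_0 lc_g_rc_7_1 lc_g_Cert_tree lc_g_rc_48_0 lc_g_rc_24_1 lc_g_rc_16_1 lc_g_rc_16_1 lc_g_rc_47_2 lc_g_rc_31_1 lc_g_rc_47_2 lc_g_Cert_tree lc_g_rc_44_3) (@D3.rec (fun _ => (Cert rels S Gen.g)) lc_g_rc_47_2 lc_g_rc_31_1 lc_g_rc_50_2 lc_g_rc_24_1 lc_g_rc_50_2 lc_g_rc_47_2 lc_g_Cert_tree lc_g_rc_48_0 lc_g_rc_7_1 lc_g_rc_7_1 lc_g_rc_7_1 lc_g_rc_47_2 lc_g_rc_31_1 lc_g_rc_7_1 lc_g_rc_48_0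 lc_g_rc_48_1 lc_g_rc_24_1 lc_g_rc_24_1 lc_g_rc_47_2 lc_g_rc_31_1 lc_g_rc_47_2 lc_g_Cert_tree lc_g_rc_16_1 lc_g_rc_37_1 lc_g_rc_31_1 lc_g_rc_50_2 lc_g_rc_24_1 lc_g_rc_50_2 lc_g_rc_31_1 lc_g_rc_48_0 lc_g_rc_48_1 lc_g_rc_31_1 lc_g_rc_50_2 lc_g_rc_37_1 lc_g_rc_37_1 lc_g_rc_24_1 lc_g_rc_50_2 lc_g_rc_16_1 lc_g_rc_24_1 lc_g_rc_47_2 lc_g_Cert_tree lc_g_rc_7_1 lc_g_Cert_tree lc_g_rc_48_0 lc_g_rc_48_1 lc_g_rc_7_1 lc_g_rc_7_1 lc_g_Cert_tree lc_g_rc_48_0 lc_g_rc_48_1 lc_g_rc_31_1) (@D3.rec (fun _ => (Cert rels S Gen.g)) lc_g_rc_24_1 lc_g_rc_48_0 lc_g_rc_48_1 lc_g_rc_16_1 lc_g_rc_47_2 lc_g_rc_50_2 lc_g_rc_44_3 lc_g_rc_37_1 lc_g_rc_47_2 lc_g_rc_31_1 lc_g_rc_50_2 lc_g_rc_47_2 lc_g_rc_50_2 lc_g_Cert_tree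 lc_g_rc_48_0 lc_g_rc_48_1 lc_g_rc_7_1 lc_g_rc_48_0 lc_g_rc_48_1 lc_g_rc_7_1 lc_g_rc_47_2 lc_g_rc_50_2 lc_g_Cert_tree lc_g_rc_48_0 lc_g_rc_48_1 lc_g_rc_24_1 lc_g_rc_47_2 lc_g_rc_31_1 lc_g_rc_50_2 lc_g_rc_37_1 lc_g_rc_31_1 lc_g_rc_16_1 lc_g_rc_16_1 lc_g_rc_47_2 lc_g_rc_31_1 lc_g_rc_50_2 lc_g_rc_16_1 lc_g_rc_50_2 lc_g_Cert_tree lc_g_rc_44_3 lc_g_rc_47_2 lc_g_rc_31_1 lc_g_rc_50_2 lc_g_rc_24_1 lc_g_rc_50_2 lc_g_rc_50_2 lc_g_rc_48_0 lc_g_rc_48_1 lc_g_rc_7_1 lc_g_rc_47_2 lc_g_rc_50_2) (@D3.rec (fun _ => (Cert rels S Gen.g)) lc_g_rc_7_1 lc_g_rc_7_1 lc_g_rc_47_2 lc_g_rc_31_1 lc_g_rc_50_2 lc_g_rc_7_1 lc_g_rc_50_2 lc_g_rc_24_1 lc_g_rc_24_1 lc_g_rc_47_2 lc_g_rc_31_1 lc_g_rc_50_2 lc_g_rc_24_1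 lc_g_rc_31_1 lc_g_rc_50_2 lc_g_rc_37_1 lc_g_rc_50_2 lc_g_Cert_tree lc_g_rc_37_1 lc_g_Cert_tree lc_g_rc_16_1 lc_g_rc_16_1 lc_g_rc_31_1 lc_g_rc_50_2 lc_g_rc_24_1 lc_g_rc_50_2 lc_g_rc_16_1 lc_g_rc_48_0 lc_g_rc_48_1 lc_g_rc_31_1 lc_g_rc_50_2 lc_g_rc_31_1 lc_g_rc_50_2 lc_g_rc_24_1 lc_g_rc_50_2 lc_g_rc_16_1 lc_g_rc_24_1 lc_g_rc_47_2 lc_g_Cert_tree lc_g_rc_7_1 lc_g_rc_7_1 lc_g_rc_31_1 lc_g_rc_50_2 lc_g_rc_24_1 lc_g_rc_50_2 lc_g_rc_7_1 lc_g_rc_48_0 lc_g_rc_31_3 lc_g_rc_31_1 lc_g_rc_16_1 lc_g_rc_31_1) (@D3.rec (fun _ => (Cert rels S Gen.g)) lc_g_rc_16_1 lc_g_rc_24_1 lc_g_rc_50_2 lc_g_rc_16_1 lc_g_rc_24_1 lc_g_rc_47_2 lc_g_rc_37_1 lc_g_rc_24_1 lc_g_rc_37_1 lc_g_rc_31_1 lc_g_rc_16_1 lc_g_rc_47_2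 lc_g_rc_7_1 lc_g_rc_24_3 lc_g_rc_47_2 lc_g_rc_7_1 lc_g_rc_31_3 lc_g_rc_37_1 lc_g_rc_44_3 lc_g_rc_31_1 lc_g_rc_31_1 lc_g_rc_37_1 lc_g_Cert_tree lc_g_rc_16_1 lc_g_rc_31_1 lc_g_rc_16_3 lc_g_rc_48_0 lc_g_rc_7_1 lc_g_rc_16_1 lc_g_rc_31_1 lc_g_Cert_tree lc_g_rc_48_0 lc_g_rc_16_1 lc_g_Cert_tree lc_g_rc_44_1 lc_g_rc_48_0 lc_g_rc_49_2 lc_g_rc_7_1 lc_g_rc_44_3 lc_g_rc_24_1 lc_g_rc_44_1 lc_g_rc_47_2 lc_g_rc_48_0 lc_g_rc_48_0 lc_g_rc_49_2 lc_g_rc_24_1 lc_g_Cert_tree lc_g_rc_48_0 lc_g_rc_49_2 lc_g_rc_48_0 lc_g_rc_49_2) (@D3.rec (fun _ => (Cert rels S Gen.g)) lc_g_rc_7_1 lc_g_rc_49_2 lc_g_rc_7_1 lc_g_rc_48_0 lc_g_Cert_tree lc_g_rc_24_1 lc_g_rc_37_3 lc_g_rc_48_0 lc_g_rc_24_3 lc_g_rc_49_2 lc_g_rc_49_2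 lc_g_rc_16_1 lc_g_Cert_tree lc_g_rc_48_0 lc_g_rc_31_1 lc_g_rc_48_0 lc_g_rc_24_1 lc_g_rc_7_1 lc_g_rc_31_3 lc_g_rc_7_1 lc_g_rc_48_0 lc_g_Cert_tree lc_g_rc_16_1 lc_g_rc_31_1 lc_g_rc_48_0 lc_g_rc_37_1 lc_g_rc_16_1 lc_g_rc_16_1 lc_g_rc_37_1 lc_g_Cert_tree lc_g_Cert_tree lc_g_rc_48_0 lc_g_rc_37_1 lc_g_rc_48_0 lc_g_rc_31_1 lc_g_rc_16_1 lc_g_Cert_tree lc_g_rc_7_1 lc_g_rc_37_3 lc_g_rc_48_0 lc_g_rc_48_1 lc_g_rc_49_2 lc_g_Cert_tree lc_g_rc_48_0 lc_g_rc_48_1 lc_g_rc_31_1 lc_g_rc_48_0 lc_g_rc_49_2 lc_g_rc_49_2 lc_g_rc_47_2 lc_g_rc_50_2) (@D3.rec (fun _ => (Cert rels S Gen.g)) lc_g_rc_49_2 lc_g_rc_50_2 lc_g_Cert_tree lc_g_rc_48_0 lc_g_rc_48_0 lc_g_rc_16_1 lc_g_rc_44_3 lc_g_rc_24_1 lc_g_Cert_tree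 lc_g_Cert_tree lc_g_rc_48_0 lc_g_rc_48_1 lc_g_rc_48_0 lc_g_rc_48_1 lc_g_rc_7_1 lc_g_rc_47_2 lc_g_Cert_tree lc_g_rc_48_0 lc_g_rc_48_1 lc_g_rc_16_1 lc_g_rc_47_2 lc_g_rc_31_1 lc_g_rc_37_1 lc_g_rc_16_1 lc_g_rc_16_1 lc_g_rc_47_2 lc_g_rc_31_1 lc_g_rc_50_2 lc_g_rc_16_1 lc_g_rc_50_2 lc_g_rc_50_2 lc_g_rc_31_1 lc_g_rc_49_2 lc_g_rc_7_1 lc_g_Cert_tree lc_g_rc_48_0 lc_g_Cert_tree lc_g_rc_47_2 lc_g_rc_37_3 lc_g_rc_48_0 lc_g_rc_37_1 lc_g_rc_16_1 lc_g_rc_7_1 lc_g_rc_47_2 lc_g_rc_24_1 lc_g_Cert_tree lc_g_rc_24_3 lc_g_rc_48_0 lc_g_rc_7_1 lc_g_rc_47_2 lc_g_rc_48_0) (@D3.rec (fun _ => (Cert rels S Gen.g)) lc_g_rc_47_2 lc_g_rc_49_2 lc_g_Cert_tree lc_g_Cert_tree lc_g_rc_48_0 lc_g_rc_7_1 lc_g_Cert_tree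 lc_g_rc_48_0 lc_g_rc_48_1 lc_g_rc_48_0 lc_g_rc_31_1 lc_g_rc_31_1 lc_g_rc_47_2 lc_g_rc_47_2 lc_g_rc_49_2 lc_g_rc_31_1 lc_g_rc_49_2 lc_g_rc_50_2 lc_g_Cert_tree lc_g_rc_48_0 lc_g_rc_48_0 lc_g_rc_37_1 lc_g_Cert_tree lc_g_rc_48_0 lc_g_rc_50_2 lc_g_rc_50_0 lc_g_rc_47_2 lc_g_rc_31_1 lc_g_rc_37_1 lc_g_Cert_tree lc_g_rc_48_0 lc_g_rc_48_0 lc_g_rc_7_1 lc_g_Cert_tree lc_g_rc_48_0 lc_g_rc_48_1 lc_g_rc_24_1 lc_g_rc_47_2 lc_g_rc_44_3 lc_g_rc_16_1 lc_g_rc_47_2 lc_g_rc_31_1 lc_g_rc_47_2 lc_g_rc_44_3 lc_g_rc_47_2 lc_g_rc_31_1 lc_g_rc_50_2 lc_g_rc_31_1 lc_g_rc_47_2 lc_g_Cert_tree lc_g_rc_48_0) (@D3.rec (fun _ => (Cert rels S Gen.g)) lc_g_rc_7_1 lc_g_rc_7_1 lc_g_rc_7_1 lc_g_rc_48_0 lc_g_rc_48_1 lc_g_rc_24_1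 lc_g_rc_24_1 lc_g_rc_47_2 lc_g_rc_31_1 lc_g_rc_47_2 lc_g_rc_31_1 lc_g_rc_37_1 lc_g_Cert_tree lc_g_Cert_tree lc_g_rc_48_0 lc_g_rc_7_1 lc_g_rc_7_1 lc_g_rc_7_1 lc_g_rc_47_2 lc_g_rc_31_1 lc_g_rc_7_1 lc_g_rc_48_0 lc_g_rc_48_1 lc_g_rc_24_1 lc_g_rc_24_1 lc_g_rc_47_2 lc_g_rc_31_1 lc_g_rc_47_2 lc_g_rc_31_1 lc_g_rc_44_3 lc_g_rc_47_2 lc_g_rc_31_1 lc_g_rc_24_1 lc_g_rc_47_2 lc_g_rc_31_1 lc_g_rc_49_2 lc_g_rc_24_1 lc_g_rc_16_1 lc_g_Cert_tree lc_g_rc_48_0 lc_g_rc_16_1 lc_g_rc_48_0 lc_g_rc_48_1 lc_g_rc_24_1 lc_g_rc_7_1 lc_g_rc_31_1 lc_g_rc_31_1 lc_g_rc_31_1 lc_g_rc_47_2 lc_g_rc_50_2 lc_g_rc_24_1) (@D3.rec (fun _ => (Cert rels S Gen.g)) lc_g_Cert_tree lc_g_rc_48_0 lc_g_rc_48_0 lc_g_rc_7_1 lc_g_Cert_tree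 lc_g_rc_48_0 lc_g_rc_44_1 lc_g_rc_24_1 lc_g_rc_47_2 lc_g_rc_31_1 lc_g_rc_37_1 lc_g_Cert_tree lc_g_rc_48_0 lc_g_rc_7_1 lc_g_rc_24_3 lc_g_rc_48_0 lc_g_rc_48_1 lc_g_rc_7_3 lc_g_rc_47_2 lc_g_rc_31_1 lc_g_rc_37_1 lc_g_rc_31_1 lc_g_rc_37_1 lc_g_Cert_tree lc_g_rc_50_0 lc_g_rc_24_1 lc_g_rc_31_1 lc_g_rc_37_1 lc_g_Cert_tree lc_g_rc_48_0 lc_g_Cert_tree lc_g_rc_48_0 lc_g_rc_47_2 lc_g_rc_48_0 lc_g_rc_48_1 lc_g_rc_47_2 lc_g_rc_47_2 lc_g_rc_31_1 lc_g_rc_31_1 lc_g_rc_37_1 lc_g_Cert_tree lc_g_rc_50_0 lc_g_rc_47_2 lc_g_rc_7_1 lc_g_rc_44_5 lc_g_rc_50_2 lc_g_rc_24_1 lc_g_rc_37_1 lc_g_Cert_tree lc_g_rc_48_0 lc_g_rc_16_1) (@D3.rec (fun _ => (Cert rels S Gen.g)) lc_g_rc_16_1 lc_g_rc_24_1 lc_g_rc_49_2 lc_g_rc_24_1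 lc_g_rc_24_1 lc_g_rc_16_1 lc_g_rc_16_1 lc_g_rc_47_2 lc_g_rc_37_1 lc_g_rc_37_1 lc_g_Cert_tree lc_g_rc_48_0 lc_g_rc_31_1 lc_g_rc_48_0 lc_g_rc_49_2 lc_g_rc_37_1 lc_g_rc_49_2 lc_g_rc_31_1 lc_g_Cert_tree lc_g_rc_48_0 lc_g_rc_16_1 lc_g_rc_48_0 lc_g_rc_24_1 lc_g_rc_7_1 lc_g_rc_47_2 lc_g_rc_7_1 lc_g_rc_24_1 lc_g_rc_47_2 lc_g_rc_49_2 lc_g_Cert_tree lc_g_rc_48_0 lc_g_rc_16_1 lc_g_rc_16_1 lc_g_rc_24_1 lc_g_rc_31_1 lc_g_rc_24_1 lc_g_rc_37_1 lc_g_rc_16_1 lc_g_rc_24_1 lc_g_Cert_tree lc_g_rc_7_1 lc_g_rc_16_1 lc_g_rc_24_1 lc_g_Cert_tree lc_g_rc_48_0 lc_g_rc_16_1 lc_g_rc_24_1 lc_g_Cert_tree lc_g_rc_7_1 lc_g_rc_16_1 lc_g_rc_31_1) (@D3.rec (fun _ => (Cert rels S Gen.g)) lc_g_Cert_tree lc_g_rc_48_0 lc_g_rc_7_1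 lc_g_rc_16_1 lc_g_Cert_tree lc_g_Cert_tree lc_g_rc_47_2 lc_g_rc_48_0 lc_g_rc_49_2 lc_g_rc_7_1 lc_g_rc_16_1 lc_g_Cert_tree lc_g_Cert_tree lc_g_rc_47_2 lc_g_rc_48_0 lc_g_rc_49_2 lc_g_rc_7_1 lc_g_Cert_tree lc_g_rc_24_1 lc_g_Cert_tree lc_g_rc_16_1 lc_g_rc_48_0 lc_g_Cert_tree lc_g_rc_48_0 lc_g_rc_48_1 lc_g_rc_50_2 lc_g_rc_24_1 lc_g_rc_7_1 lc_g_Cert_tree lc_g_rc_7_1 lc_g_rc_48_0 lc_g_Cert_tree lc_g_rc_24_1 lc_g_Cert_tree lc_g_rc_48_0 lc_g_rc_48_1 lc_g_rc_16_1 lc_g_rc_16_1 lc_g_rc_48_0 lc_g_rc_48_1 lc_g_rc_49_2 lc_g_rc_47_2 lc_g_rc_50_2 lc_g_rc_16_1 lc_g_rc_24_1 lc_g_Cert_tree lc_g_rc_7_1 lc_g_rc_16_1 lc_g_rc_31_1 lc_g_Cert_tree lc_g_rc_48_0) (@D3.rec (fun _ => (Cert rels S Gen.g)) lc_g_rc_16_1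 lc_g_rc_31_1 lc_g_Cert_tree lc_g_rc_48_0 lc_g_rc_7_1 lc_g_rc_16_1 lc_g_Cert_tree lc_g_Cert_tree lc_g_rc_47_2 lc_g_rc_48_0 lc_g_rc_49_2 lc_g_rc_16_1 lc_g_Cert_tree lc_g_Cert_tree lc_g_rc_44_5 lc_g_rc_48_0 lc_g_rc_49_2 lc_g_rc_7_1 lc_g_Cert_tree lc_g_rc_24_1 lc_g_Cert_tree lc_g_rc_16_1 lc_g_rc_48_0 lc_g_Cert_tree lc_g_rc_48_0 lc_g_rc_48_1 lc_g_rc_50_2 lc_g_rc_24_1 lc_g_rc_16_1 lc_g_Cert_tree lc_g_Cert_tree lc_g_rc_44_5 lc_g_rc_48_0 lc_g_rc_49_2 lc_g_rc_7_1 lc_g_Cert_tree lc_g_rc_16_1 lc_g_Cert_tree lc_g_rc_16_1 lc_g_rc_48_0 lc_g_Cert_tree lc_g_rc_48_0 lc_g_rc_48_1 lc_g_rc_49_2 lc_g_rc_24_1 lc_g_rc_24_1 lc_g_Cert_tree lc_g_rc_16_1 lc_g_rc_48_0 lc_g_Cert_tree lc_g_rc_48_0) (@D3.rec (fun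 _ => (Cert rels S Gen.g)) lc_g_rc_48_1 lc_g_rc_50_2 lc_g_rc_24_1 lc_g_rc_7_1 lc_g_Cert_tree lc_g_rc_7_1 lc_g_rc_48_0 lc_g_Cert_tree lc_g_rc_24_1 lc_g_Cert_tree lc_g_rc_48_0 lc_g_rc_48_1 lc_g_rc_16_1 lc_g_rc_16_1 lc_g_rc_48_0 lc_g_rc_48_1 lc_g_rc_31_1 lc_g_rc_47_2 lc_g_rc_50_2 lc_g_Cert_tree lc_g_rc_24_1 lc_g_Cert_tree lc_g_rc_48_0 lc_g_rc_48_1 lc_g_rc_16_1 lc_g_rc_16_1 lc_g_rc_48_0 lc_g_rc_48_1 lc_g_rc_24_1 lc_g_rc_47_2 lc_g_rc_50_2 lc_g_rc_16_1 lc_g_Cert_tree lc_g_rc_7_1 lc_g_Cert_tree lc_g_rc_48_0 lc_g_rc_48_1 lc_g_rc_7_1 lc_g_rc_7_1 lc_g_Cert_tree lc_g_rc_48_0 lc_g_rc_48_1 lc_g_rc_31_1 lc_g_rc_24_1 lc_g_rc_48_0 lc_g_rc_48_1 lc_g_rc_16_1 lc_g_rc_47_2 lc_g_rc_50_2 lc_g_rc_44_3 lc_g_rc_24_1)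 (@D3.rec (fun _ => (Cert rels S Gen.g)) lc_g_rc_47_2 lc_g_rc_31_1 lc_g_rc_50_2 lc_g_rc_44_5 lc_g_rc_50_2 lc_g_rc_7_1 lc_g_rc_49_2 lc_g_Cert_tree lc_g_Cert_tree lc_g_rc_47_2 lc_g_rc_48_0 lc_g_rc_49_2 lc_g_rc_7_1 lc_g_Cert_tree lc_g_rc_24_1 lc_g_Cert_tree lc_g_rc_47_2 lc_g_rc_48_0 lc_g_Cert_tree lc_g_rc_48_0 lc_g_rc_48_1 lc_g_rc_47_2 lc_g_rc_24_1 lc_g_rc_7_1 lc_g_Cert_tree lc_g_rc_7_1 lc_g_rc_48_0 lc_g_Cert_tree lc_g_rc_47_2 lc_g_Cert_tree lc_g_rc_48_0 lc_g_rc_48_1 lc_g_rc_37_1 lc_g_rc_16_1 lc_g_rc_48_0 lc_g_rc_48_1 lc_g_rc_31_1 lc_g_rc_47_2 lc_g_rc_50_2 lc_g_rc_7_1 lc_g_Cert_tree lc_g_rc_24_1 lc_g_Cert_tree lc_g_rc_16_1 lc_g_rc_48_0 lc_g_Cert_tree lc_g_rc_48_0 lc_g_rc_48_1 lc_g_rc_50_2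 lc_g_rc_24_1 lc_g_rc_7_1)
def ce_g_4 : D2 → D3 → (Cert rels S Gen.g) := @D2.rec (fun _ => D3 → (Cert rels S Gen.g)) (@D3.rec (fun _ => (Cert rels S Gen.g)) lc_g_Cert_tree lc_g_rc_7_1 lc_g_rc_48_0 lc_g_Cert_tree lc_g_rc_24_1 lc_g_Cert_tree lc_g_rc_48_0 lc_g_rc_48_1 lc_g_rc_16_1 lc_g_rc_16_1 lc_g_rc_48_0 lc_g_rc_48_1 lc_g_rc_31_1 lc_g_rc_47_2 lc_g_rc_50_2 lc_g_rc_16_1 lc_g_Cert_tree lc_g_rc_7_1 lc_g_Cert_tree lc_g_rc_48_0 lc_g_rc_48_1 lc_g_rc_7_1 lc_g_rc_7_1 lc_g_Cert_tree lc_g_rc_48_0 lc_g_rc_48_1 lc_g_rc_31_1 lc_g_rc_24_1 lc_g_rc_48_0 lc_g_rc_48_1 lc_g_rc_16_1 lc_g_rc_47_2 lc_g_rc_50_2 lc_g_rc_44_3 lc_g_rc_37_1 lc_g_rc_47_2 lc_g_rc_31_1 lc_g_rc_50_2 lc_g_rc_47_2 lc_g_rc_50_2 lc_g_rc_7_1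 lc_g_Cert_tree lc_g_rc_7_1 lc_g_rc_48_0 lc_g_Cert_tree lc_g_rc_24_1 lc_g_Cert_tree lc_g_rc_48_0 lc_g_rc_48_1 lc_g_rc_16_1 lc_g_rc_47_2) (@D3.rec (fun _ => (Cert rels S Gen.g)) lc_g_rc_48_0 lc_g_rc_48_1 lc_g_rc_49_2 lc_g_rc_47_2 lc_g_rc_50_2 lc_g_rc_16_1 lc_g_Cert_tree lc_g_rc_7_1 lc_g_Cert_tree lc_g_rc_48_0 lc_g_rc_48_1 lc_g_rc_7_1 lc_g_rc_7_1 lc_g_Cert_tree lc_g_rc_48_0 lc_g_rc_48_1 lc_g_rc_31_1 lc_g_rc_24_1 lc_g_rc_48_0 lc_g_rc_48_1 lc_g_rc_16_1 lc_g_rc_47_2 lc_g_rc_50_2 lc_g_rc_44_3 lc_g_rc_49_2 lc_g_rc_47_2 lc_g_rc_31_1 lc_g_rc_50_2 lc_g_rc_44_5 lc_g_rc_50_2 lc_g_Cert_tree lc_g_rc_16_1 lc_g_Cert_tree lc_g_rc_48_0 lc_g_rc_48_1 lc_g_rc_7_1 lc_g_rc_7_1 lc_g_rc_48_0 lc_g_rc_48_1 lc_g_rc_7_1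 lc_g_rc_47_2 lc_g_rc_50_2 lc_g_Cert_tree lc_g_rc_48_0 lc_g_rc_48_1 lc_g_rc_24_1 lc_g_rc_47_2 lc_g_rc_31_1 lc_g_rc_50_2 lc_g_rc_37_1 lc_g_rc_31_1) (@D3.rec (fun _ => (Cert rels S Gen.g)) lc_g_rc_16_1 lc_g_rc_16_1 lc_g_rc_47_2 lc_g_rc_31_1 lc_g_rc_50_2 lc_g_rc_47_2 lc_g_rc_50_2 lc_g_Cert_tree lc_g_rc_44_3 lc_g_rc_47_2 lc_g_rc_31_1 lc_g_rc_50_2 lc_g_rc_24_1 lc_g_rc_50_2 lc_g_rc_49_2 lc_g_rc_16_1 lc_g_rc_48_0 lc_g_rc_24_1 lc_g_rc_7_1 lc_g_rc_48_0 lc_g_rc_49_2 lc_g_rc_44_3 lc_g_rc_49_2 lc_g_rc_47_2 lc_g_rc_31_1 lc_g_rc_49_2 lc_g_rc_48_0 lc_g_rc_7_1 lc_g_Cert_tree lc_g_rc_48_0 lc_g_rc_24_1 lc_g_rc_16_1 lc_g_rc_16_1 lc_g_rc_47_2 lc_g_rc_31_1 lc_g_rc_47_2 lc_g_Cert_tree lc_g_rc_44_3 lc_g_rc_47_2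 lc_g_rc_31_1 lc_g_rc_50_2 lc_g_rc_24_1 lc_g_rc_50_2 lc_g_rc_49_2 lc_g_Cert_tree lc_g_rc_48_0 lc_g_rc_7_1 lc_g_rc_7_1 lc_g_rc_7_1 lc_g_rc_47_2 lc_g_rc_31_1) (@D3.rec (fun _ => (Cert rels S Gen.g)) lc_g_rc_7_1 lc_g_rc_48_0 lc_g_rc_48_1 lc_g_rc_24_1 lc_g_rc_24_1 lc_g_rc_47_2 lc_g_rc_31_1 lc_g_rc_47_2 lc_g_Cert_tree lc_g_rc_16_1 lc_g_rc_47_2 lc_g_rc_31_1 lc_g_rc_50_2 lc_g_rc_24_1 lc_g_rc_50_2 lc_g_rc_49_2 lc_g_rc_48_0 lc_g_rc_48_1 lc_g_rc_31_1 lc_g_rc_50_2 lc_g_rc_49_2 lc_g_rc_49_2 lc_g_rc_24_1 lc_g_rc_50_2 lc_g_rc_16_1 lc_g_rc_24_1 lc_g_rc_47_2 lc_g_rc_31_1 lc_g_rc_24_1 lc_g_rc_37_1 lc_g_rc_24_1 lc_g_rc_16_3 lc_g_rc_16_1 lc_g_rc_31_1 lc_g_rc_16_3 lc_g_rc_48_0 lc_g_rc_7_1 lc_g_rc_16_1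 lc_g_rc_50_0 lc_g_rc_50_2 lc_g_rc_47_2 lc_g_rc_48_0 lc_g_rc_24_1 lc_g_rc_31_3 lc_g_rc_16_3 lc_g_rc_44_1 lc_g_rc_48_0 lc_g_rc_16_1 lc_g_Cert_tree lc_g_rc_44_1 lc_g_rc_47_2) (@D3.rec (fun _ => (Cert rels S Gen.g)) lc_g_rc_48_0 lc_g_rc_49_2 lc_g_rc_7_1 lc_g_Cert_tree lc_g_rc_24_1 lc_g_Cert_tree lc_g_rc_16_1 lc_g_rc_48_0 lc_g_Cert_tree lc_g_rc_48_0 lc_g_rc_48_1 lc_g_rc_50_2 lc_g_rc_24_1 lc_g_rc_24_1 lc_g_rc_31_1 lc_g_rc_48_0 lc_g_rc_49_2 lc_g_rc_47_2 lc_g_rc_48_0 lc_g_rc_24_1 lc_g_rc_24_1 lc_g_Cert_tree lc_g_rc_16_1 lc_g_rc_48_0 lc_g_Cert_tree lc_g_rc_48_0 lc_g_rc_16_3 lc_g_rc_50_2 lc_g_rc_49_2 lc_g_Cert_tree lc_g_rc_48_0 lc_g_Cert_tree lc_g_Cert_tree lc_g_rc_48_0 lc_g_rc_48_1 lc_g_rc_16_1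 lc_g_rc_50_0 lc_g_rc_48_0 lc_g_rc_48_1 lc_g_rc_31_1 lc_g_rc_47_2 lc_g_rc_50_2 lc_g_rc_16_3 lc_g_rc_47_2 lc_g_rc_48_0 lc_g_rc_49_2 lc_g_rc_16_1 lc_g_Cert_tree lc_g_rc_16_1 lc_g_rc_48_0 lc_g_Cert_tree) (@D3.rec (fun _ => (Cert rels S Gen.g)) lc_g_rc_48_0 lc_g_rc_48_1 lc_g_rc_49_2 lc_g_rc_24_1 lc_g_rc_7_1 lc_g_Cert_tree lc_g_rc_7_1 lc_g_rc_48_0 lc_g_Cert_tree lc_g_rc_16_1 lc_g_Cert_tree lc_g_rc_48_0 lc_g_rc_48_1 lc_g_rc_16_1 lc_g_rc_16_1 lc_g_rc_48_0 lc_g_rc_48_1 lc_g_rc_31_1 lc_g_rc_47_2 lc_g_rc_50_2 lc_g_rc_31_1 lc_g_rc_48_0 lc_g_rc_48_1 lc_g_rc_50_2 lc_g_rc_16_3 lc_g_Cert_tree lc_g_rc_24_1 lc_g_Cert_tree lc_g_rc_48_0 lc_g_rc_48_1 lc_g_rc_16_1 lc_g_rc_16_1 lc_g_rc_48_0 lc_g_rc_48_1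 lc_g_rc_31_1 lc_g_rc_47_2 lc_g_rc_50_2 lc_g_rc_16_1 lc_g_Cert_tree lc_g_rc_7_1 lc_g_Cert_tree lc_g_rc_48_0 lc_g_rc_48_1 lc_g_rc_7_1 lc_g_rc_7_1 lc_g_Cert_tree lc_g_rc_48_0 lc_g_rc_48_1 lc_g_rc_31_1 lc_g_rc_24_1 lc_g_rc_48_0) (@D3.rec (fun _ => (Cert rels S Gen.g)) lc_g_rc_48_1 lc_g_rc_16_1 lc_g_rc_47_2 lc_g_rc_50_2 lc_g_rc_44_3 lc_g_rc_37_1 lc_g_rc_47_2 lc_g_rc_31_1 lc_g_rc_50_2 lc_g_rc_47_2 lc_g_rc_50_2 lc_g_rc_48_0 lc_g_rc_48_1 lc_g_rc_49_2 lc_g_rc_47_2 lc_g_rc_50_2 lc_g_Cert_tree lc_g_rc_48_0 lc_g_rc_48_1 lc_g_rc_24_1 lc_g_rc_48_0 lc_g_rc_48_1 lc_g_rc_16_1 lc_g_rc_47_2 lc_g_rc_50_2 lc_g_rc_44_3 lc_g_rc_24_1 lc_g_rc_47_2 lc_g_rc_31_1 lc_g_rc_50_2 lc_g_rc_47_2 lc_g_rc_50_2 lc_g_Cert_tree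 lc_g_rc_16_1 lc_g_Cert_tree lc_g_rc_48_0 lc_g_rc_48_1 lc_g_rc_7_1 lc_g_rc_7_1 lc_g_rc_48_0 lc_g_rc_48_1 lc_g_rc_7_1 lc_g_rc_47_2 lc_g_rc_50_2 lc_g_Cert_tree lc_g_rc_48_0 lc_g_rc_48_1 lc_g_rc_16_1 lc_g_rc_47_2 lc_g_rc_31_1 lc_g_rc_50_2) (@D3.rec (fun _ => (Cert rels S Gen.g)) lc_g_rc_37_1 lc_g_rc_31_1 lc_g_rc_16_1 lc_g_rc_16_1 lc_g_rc_47_2 lc_g_rc_31_1 lc_g_rc_50_2 lc_g_rc_16_1 lc_g_rc_50_2 lc_g_Cert_tree lc_g_rc_44_3 lc_g_rc_47_2 lc_g_rc_31_1 lc_g_rc_50_2 lc_g_rc_24_1 lc_g_rc_50_2 lc_g_rc_49_2 lc_g_rc_7_1 lc_g_Cert_tree lc_g_rc_7_1 lc_g_rc_48_0 lc_g_Cert_tree lc_g_rc_47_2 lc_g_Cert_tree lc_g_rc_48_0 lc_g_rc_48_1 lc_g_rc_47_2 lc_g_rc_16_1 lc_g_rc_48_0 lc_g_rc_48_1 lc_g_rc_31_1 lc_g_rc_47_2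 lc_g_rc_50_2 lc_g_rc_16_1 lc_g_Cert_tree lc_g_rc_7_1 lc_g_Cert_tree lc_g_rc_48_0 lc_g_rc_48_1 lc_g_rc_7_1 lc_g_rc_7_1 lc_g_Cert_tree lc_g_rc_48_0 lc_g_rc_48_1 lc_g_rc_49_2 lc_g_rc_49_2 lc_g_rc_48_0 lc_g_rc_48_1 lc_g_rc_16_1 lc_g_rc_47_2 lc_g_rc_50_2) (@D3.rec (fun _ => (Cert rels S Gen.g)) lc_g_rc_44_3 lc_g_rc_37_1 lc_g_rc_47_2 lc_g_rc_31_1 lc_g_rc_50_2 lc_g_rc_47_2 lc_g_rc_50_2 lc_g_rc_16_1 lc_g_Cert_tree lc_g_rc_7_1 lc_g_Cert_tree lc_g_rc_48_0 lc_g_rc_48_1 lc_g_rc_7_1 lc_g_rc_7_1 lc_g_Cert_tree lc_g_rc_48_0 lc_g_rc_48_1 lc_g_rc_31_1 lc_g_rc_24_1 lc_g_rc_48_0 lc_g_rc_48_1 lc_g_rc_16_1 lc_g_rc_47_2 lc_g_rc_50_2 lc_g_rc_44_3 lc_g_rc_37_1 lc_g_rc_47_2 lc_g_rc_31_1 lc_g_rc_50_2 lc_g_rc_47_2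 lc_g_rc_50_2 lc_g_Cert_tree lc_g_Cert_tree lc_g_rc_48_0 lc_g_rc_48_1 lc_g_rc_7_1 lc_g_rc_48_0 lc_g_rc_48_1 lc_g_rc_7_1 lc_g_rc_47_2 lc_g_rc_50_2 lc_g_Cert_tree lc_g_rc_48_0 lc_g_rc_48_1 lc_g_rc_24_1 lc_g_rc_47_2 lc_g_rc_31_1 lc_g_rc_50_2 lc_g_rc_37_1 lc_g_rc_31_1) (@D3.rec (fun _ => (Cert rels S Gen.g)) lc_g_rc_16_1 lc_g_rc_16_1 lc_g_rc_47_2 lc_g_rc_31_1 lc_g_rc_50_2 lc_g_rc_16_1 lc_g_rc_50_2 lc_g_Cert_tree lc_g_rc_44_3 lc_g_rc_47_2 lc_g_rc_31_1 lc_g_rc_50_2 lc_g_rc_24_1 lc_g_rc_50_2 lc_g_rc_50_2 lc_g_Cert_tree lc_g_Cert_tree lc_g_rc_48_0 lc_g_rc_48_1 lc_g_rc_7_1 lc_g_rc_48_0 lc_g_rc_48_1 lc_g_rc_7_1 lc_g_rc_47_2 lc_g_rc_50_2 lc_g_Cert_tree lc_g_rc_48_0 lc_g_rc_48_1 lc_g_rc_24_1 lc_g_rc_47_2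 lc_g_rc_31_1 lc_g_rc_50_2 lc_g_rc_31_1 lc_g_rc_16_1 lc_g_rc_16_1 lc_g_rc_47_2 lc_g_rc_31_1 lc_g_rc_50_2 lc_g_rc_47_2 lc_g_rc_50_2 lc_g_Cert_tree lc_g_rc_44_3 lc_g_rc_47_2 lc_g_rc_31_1 lc_g_rc_50_2 lc_g_rc_24_1 lc_g_rc_50_2 lc_g_rc_47_2 lc_g_Cert_tree lc_g_rc_48_0 lc_g_Cert_tree) (@D3.rec (fun _ => (Cert rels S Gen.g)) lc_g_rc_48_0 lc_g_rc_48_1 lc_g_rc_7_1 lc_g_rc_47_2 lc_g_rc_50_2 lc_g_rc_7_1 lc_g_rc_7_1 lc_g_rc_47_2 lc_g_rc_31_1 lc_g_rc_50_2 lc_g_rc_7_1 lc_g_rc_50_2 lc_g_rc_48_0 lc_g_rc_48_1 lc_g_rc_24_1 lc_g_rc_24_1 lc_g_rc_47_2 lc_g_rc_31_1 lc_g_rc_50_2 lc_g_rc_47_2 lc_g_rc_31_1 lc_g_rc_50_2 lc_g_rc_37_1 lc_g_rc_50_2 lc_g_Cert_tree lc_g_rc_37_1 lc_g_Cert_tree lc_g_rc_16_1 lc_g_rc_37_1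 lc_g_rc_31_1 lc_g_rc_50_2 lc_g_rc_24_1 lc_g_rc_50_2 lc_g_rc_31_1 lc_g_rc_48_0 lc_g_rc_48_1 lc_g_rc_31_1 lc_g_rc_50_2 lc_g_rc_37_1 lc_g_rc_37_1 lc_g_rc_24_1 lc_g_rc_50_2 lc_g_rc_16_1 lc_g_rc_24_1 lc_g_rc_47_2 lc_g_rc_7_1 lc_g_rc_7_1 lc_g_rc_48_0 lc_g_rc_48_1 lc_g_rc_24_1 lc_g_rc_24_1) (@D3.rec (fun _ => (Cert rels S Gen.g)) lc_g_Cert_tree lc_g_rc_16_1 lc_g_rc_47_2 lc_g_rc_31_1 lc_g_rc_24_1 lc_g_rc_48_0 lc_g_rc_48_1 lc_g_rc_31_1 lc_g_rc_50_2 lc_g_rc_49_2 lc_g_rc_47_2 lc_g_rc_24_1 lc_g_rc_50_2 lc_g_rc_16_1 lc_g_rc_24_1 lc_g_rc_47_2 lc_g_rc_48_0 lc_g_rc_48_1 lc_g_rc_7_1 lc_g_rc_7_1 lc_g_Cert_tree lc_g_rc_7_1 lc_g_rc_7_1 lc_g_rc_31_1 lc_g_rc_24_1 lc_g_rc_31_1 lc_g_rc_31_1 lc_g_rc_47_2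 lc_g_rc_31_1 lc_g_rc_50_2 lc_g_Cert_tree lc_g_rc_24_1 lc_g_rc_47_2 lc_g_rc_31_1 lc_g_rc_24_1 lc_g_rc_48_0 lc_g_rc_48_1 lc_g_rc_31_1 lc_g_rc_16_1 lc_g_rc_37_1 lc_g_rc_37_1 lc_g_rc_24_1 lc_g_rc_50_2 lc_g_rc_16_1 lc_g_rc_24_1 lc_g_rc_47_2 lc_g_rc_47_2 lc_g_rc_31_1 lc_g_rc_50_2 lc_g_rc_24_1 lc_g_rc_37_1) (@D3.rec (fun _ => (Cert rels S Gen.g)) lc_g_rc_31_1 lc_g_rc_24_1 lc_g_rc_49_2 lc_g_rc_16_1 lc_g_rc_24_1 lc_g_rc_47_2 lc_g_rc_7_1 lc_g_rc_16_1 lc_g_rc_47_2 lc_g_rc_24_3 lc_g_rc_48_0 lc_g_rc_48_1 lc_g_rc_7_1 lc_g_rc_48_0 lc_g_rc_48_1 lc_g_rc_7_1 lc_g_rc_47_2 lc_g_rc_50_2 lc_g_rc_31_3 lc_g_rc_48_0 lc_g_rc_48_1 lc_g_rc_24_1 lc_g_rc_47_2 lc_g_rc_31_1 lc_g_rc_50_2 lc_g_rc_37_1 lc_g_rc_31_1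 lc_g_rc_16_1 lc_g_rc_16_1 lc_g_rc_47_2 lc_g_rc_31_1 lc_g_rc_50_2 lc_g_rc_16_1 lc_g_rc_50_2 lc_g_rc_16_1 lc_g_rc_44_3 lc_g_rc_47_2 lc_g_rc_31_1 lc_g_rc_50_2 lc_g_rc_24_1 lc_g_rc_50_2 lc_g_rc_50_2 lc_g_rc_16_1 lc_g_rc_48_0 lc_g_rc_48_1 lc_g_rc_7_1 lc_g_rc_47_2 lc_g_rc_50_2 lc_g_rc_7_1 lc_g_rc_37_1 lc_g_rc_47_2) (@D3.rec (fun _ => (Cert rels S Gen.g)) lc_g_rc_31_1 lc_g_rc_50_2 lc_g_rc_7_1 lc_g_rc_50_2 lc_g_rc_48_0 lc_g_rc_7_1 lc_g_rc_24_1 lc_g_rc_24_1 lc_g_rc_47_2 lc_g_rc_31_1 lc_g_rc_50_2 lc_g_rc_24_1 lc_g_rc_31_1 lc_g_rc_50_2 lc_g_rc_37_1 lc_g_rc_50_2 lc_g_Cert_tree lc_g_rc_37_1 lc_g_rc_44_1 lc_g_rc_16_1 lc_g_rc_16_1 lc_g_rc_31_1 lc_g_rc_50_2 lc_g_rc_24_1 lc_g_rc_50_2 lc_g_rc_16_1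 lc_g_rc_48_0 lc_g_rc_48_1 lc_g_rc_31_1 lc_g_rc_50_2 lc_g_rc_31_1 lc_g_rc_50_2 lc_g_rc_24_1 lc_g_rc_50_2 lc_g_rc_16_1 lc_g_rc_24_1 lc_g_rc_47_2 lc_g_rc_7_1 lc_g_rc_7_1 lc_g_rc_47_2 lc_g_rc_31_1 lc_g_rc_50_2 lc_g_rc_7_1 lc_g_rc_50_2 lc_g_rc_24_1 lc_g_rc_7_1 lc_g_rc_7_1 lc_g_rc_31_1 lc_g_rc_50_2 lc_g_rc_24_1 lc_g_rc_50_2) (@D3.rec (fun _ => (Cert rels S Gen.g)) lc_g_rc_7_1 lc_g_rc_7_1 lc_g_rc_24_1 lc_g_rc_24_1 lc_g_rc_31_1 lc_g_rc_50_2 lc_g_rc_24_1 lc_g_rc_37_1 lc_g_rc_50_2 lc_g_rc_31_1 lc_g_rc_24_1 lc_g_rc_37_1 lc_g_rc_50_2 lc_g_Cert_tree lc_g_rc_50_2 lc_g_rc_48_0 lc_g_rc_50_2 lc_g_rc_48_0 lc_g_rc_48_1 lc_g_rc_31_1 lc_g_rc_16_1 lc_g_rc_31_1 lc_g_rc_16_1 lc_g_rc_24_1 lc_g_rc_50_2 lc_g_rc_16_1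 lc_g_rc_24_1 lc_g_rc_47_2 lc_g_rc_47_2 lc_g_rc_47_2 lc_g_rc_50_2 lc_g_rc_24_1 lc_g_rc_37_1 lc_g_rc_31_1 lc_g_rc_24_1 lc_g_rc_31_1 lc_g_rc_16_1 lc_g_rc_24_1 lc_g_rc_47_2 lc_g_rc_7_1 lc_g_rc_16_1 lc_g_rc_47_2 lc_g_rc_48_0 lc_g_rc_31_3 lc_g_rc_7_1 lc_g_rc_7_1 lc_g_rc_7_1 lc_g_rc_7_1 lc_g_rc_24_1 lc_g_rc_50_2 lc_g_rc_16_1) (@D3.rec (fun _ => (Cert rels S Gen.g)) lc_g_rc_24_1 lc_g_rc_47_2 lc_g_rc_24_3 lc_g_rc_24_1 lc_g_rc_37_1 lc_g_rc_31_1 lc_g_rc_24_1 lc_g_rc_31_1 lc_g_rc_16_1 lc_g_rc_24_1 lc_g_rc_47_2 lc_g_rc_7_1 lc_g_rc_50_2 lc_g_rc_47_2 lc_g_rc_7_1 lc_g_rc_24_3 lc_g_rc_24_3 lc_g_rc_47_2 lc_g_rc_37_1 lc_g_rc_37_1 lc_g_rc_16_1 lc_g_rc_48_0 lc_g_rc_16_1 lc_g_rc_7_1 lc_g_rc_24_1 lc_g_rc_48_0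 lc_g_rc_49_2 lc_g_rc_50_2 lc_g_rc_44_1 lc_g_rc_48_0 lc_g_rc_7_1 lc_g_rc_47_2 lc_g_rc_44_1 lc_g_rc_47_2 lc_g_rc_31_1 lc_g_rc_7_1 lc_g_rc_49_2 lc_g_rc_48_0 lc_g_rc_49_2 lc_g_rc_49_2 lc_g_rc_37_1 lc_g_rc_24_3 lc_g_rc_37_3 lc_g_rc_48_0 lc_g_rc_7_3 lc_g_Cert_tree lc_g_rc_31_1 lc_g_rc_48_0 lc_g_rc_16_1 lc_g_rc_31_3 lc_g_rc_7_1) (@D3.rec (fun _ => (Cert rels S Gen.g)) lc_g_rc_24_3 lc_g_rc_47_2 lc_g_rc_48_0 lc_g_rc_47_2 lc_g_rc_16_1 lc_g_rc_37_1 lc_g_Cert_tree lc_g_rc_48_0 lc_g_rc_48_0 lc_g_rc_37_1 lc_g_Cert_tree lc_g_rc_31_3 lc_g_rc_48_0 lc_g_rc_48_1 lc_g_rc_37_3 lc_g_rc_47_2 lc_g_Cert_tree lc_g_rc_48_0 lc_g_rc_50_0 lc_g_rc_50_0 lc_g_rc_47_2 lc_g_rc_31_1 lc_g_rc_37_1 lc_g_rc_31_1 lc_g_rc_50_2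 lc_g_Cert_tree lc_g_rc_48_0 lc_g_rc_16_1 lc_g_rc_16_1 lc_g_rc_16_1 lc_g_Cert_tree lc_g_rc_48_0 lc_g_Cert_tree lc_g_rc_48_0 lc_g_rc_48_1 lc_g_rc_7_1 lc_g_rc_47_2 lc_g_rc_47_2 lc_g_rc_31_1 lc_g_rc_7_1 lc_g_rc_48_0 lc_g_rc_48_1 lc_g_rc_24_1 lc_g_rc_16_1 lc_g_rc_47_2 lc_g_rc_31_1 lc_g_rc_16_1 lc_g_rc_31_1 lc_g_rc_37_1 lc_g_Cert_tree lc_g_rc_50_2) (@D3.rec (fun _ => (Cert rels S Gen.g)) lc_g_rc_24_1 lc_g_rc_31_1 lc_g_rc_16_1 lc_g_Cert_tree lc_g_rc_37_3 lc_g_rc_48_0 lc_g_rc_7_1 lc_g_rc_37_3 lc_g_rc_48_0 lc_g_rc_37_1 lc_g_rc_16_1 lc_g_rc_48_0 lc_g_rc_50_0 lc_g_rc_47_2 lc_g_rc_49_2 lc_g_Cert_tree lc_g_rc_48_0 lc_g_rc_48_0 lc_g_rc_31_1 lc_g_Cert_tree lc_g_rc_48_0 lc_g_rc_31_3 lc_g_rc_31_3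 lc_g_rc_47_2 lc_g_Cert_tree lc_g_rc_48_0 lc_g_rc_47_2 lc_g_rc_48_0 lc_g_rc_48_1 lc_g_rc_50_0 lc_g_rc_31_1 lc_g_rc_37_1 lc_g_Cert_tree lc_g_Cert_tree lc_g_rc_48_0 lc_g_rc_7_1 lc_g_rc_7_1 lc_g_rc_7_1 lc_g_rc_48_0 lc_g_rc_48_1 lc_g_rc_24_1 lc_g_rc_24_1 lc_g_rc_47_2 lc_g_rc_31_1 lc_g_rc_47_2 lc_g_rc_31_1 lc_g_rc_24_1 lc_g_rc_48_0 lc_g_rc_48_1 lc_g_rc_24_1 lc_g_rc_7_1) (@D3.rec (fun _ => (Cert rels S Gen.g)) lc_g_rc_31_1 lc_g_rc_31_1 lc_g_rc_47_2 lc_g_rc_31_1 lc_g_rc_50_2 lc_g_rc_31_1 lc_g_rc_37_1 lc_g_rc_49_2 lc_g_rc_37_1 lc_g_Cert_tree lc_g_rc_48_0 lc_g_rc_48_0 lc_g_rc_48_1 lc_g_rc_24_1 lc_g_rc_7_1 lc_g_rc_7_1 lc_g_rc_7_1 lc_g_rc_31_1 lc_g_rc_24_1 lc_g_rc_31_1 lc_g_rc_31_1 lc_g_rc_47_2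 lc_g_rc_31_1 lc_g_rc_50_2 lc_g_rc_7_1 lc_g_rc_24_1 lc_g_rc_47_2 lc_g_rc_31_1 lc_g_rc_24_1 lc_g_rc_24_1 lc_g_rc_16_1 lc_g_rc_24_1 lc_g_rc_24_1 lc_g_rc_16_1 lc_g_Cert_tree lc_g_rc_48_0 lc_g_rc_48_1 lc_g_rc_16_1 lc_g_rc_16_1 lc_g_rc_31_1 lc_g_rc_7_1 lc_g_rc_47_2 lc_g_rc_50_2 lc_g_rc_16_3 lc_g_rc_37_1 lc_g_rc_7_3 lc_g_rc_44_3 lc_g_rc_47_2 lc_g_rc_50_2 lc_g_rc_44_1 lc_g_rc_48_0) (@D3.rec (fun _ => (Cert rels S Gen.g)) lc_g_rc_7_1 lc_g_rc_48_0 lc_g_rc_44_1 lc_g_rc_44_1 lc_g_rc_31_1 lc_g_rc_37_1 lc_g_Cert_tree lc_g_rc_48_0 lc_g_rc_49_2 lc_g_rc_49_2 lc_g_rc_49_2 lc_g_rc_47_2 lc_g_rc_31_1 lc_g_rc_50_2 lc_g_rc_31_1 lc_g_rc_31_1 lc_g_rc_37_1 lc_g_rc_47_2 lc_g_rc_37_1 lc_g_Cert_tree lc_g_rc_48_0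 lc_g_rc_37_1 lc_g_Cert_tree lc_g_rc_48_0 lc_g_rc_49_2 lc_g_rc_48_0 lc_g_rc_7_3 lc_g_rc_31_1 lc_g_rc_37_1 lc_g_rc_47_2 lc_g_rc_31_1 lc_g_rc_50_2 lc_g_rc_31_1 lc_g_rc_50_2 lc_g_rc_37_1 lc_g_rc_37_1 lc_g_rc_50_2 lc_g_rc_48_0 lc_g_rc_7_1 lc_g_rc_24_1 lc_g_rc_47_2 lc_g_rc_50_2 lc_g_Cert_tree lc_g_rc_48_0 lc_g_rc_49_2 lc_g_rc_24_1 lc_g_rc_24_1 lc_g_rc_31_1 lc_g_rc_16_1 lc_g_rc_31_1 lc_g_rc_7_1) (@D3.rec (fun _ => (Cert rels S Gen.g)) lc_g_rc_48_0 lc_g_rc_37_1 lc_g_rc_49_2 lc_g_Cert_tree lc_g_rc_31_3 lc_g_rc_48_0 lc_g_rc_16_1 lc_g_rc_16_1 lc_g_rc_48_0 lc_g_rc_31_1 lc_g_rc_24_1 lc_g_rc_37_1 lc_g_rc_16_1 lc_g_rc_24_1 lc_g_rc_24_1 lc_g_rc_7_1 lc_g_rc_16_1 lc_g_rc_16_1 lc_g_rc_31_1 lc_g_rc_48_0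 lc_g_rc_31_1 lc_g_rc_24_3 lc_g_rc_48_0 lc_g_rc_31_3 lc_g_rc_7_1 lc_g_rc_16_1 lc_g_rc_31_1 lc_g_rc_37_1 lc_g_rc_48_0 lc_g_rc_37_1 lc_g_rc_31_1 lc_g_rc_44_1 lc_g_rc_44_1 lc_g_rc_16_3 lc_g_rc_48_0 lc_g_rc_49_2 lc_g_rc_49_2 lc_g_rc_49_2 lc_g_rc_48_0 lc_g_rc_16_1 lc_g_rc_48_0 lc_g_rc_49_2 lc_g_rc_49_2 lc_g_rc_7_1 lc_g_rc_31_1 lc_g_rc_24_1 lc_g_rc_24_1 lc_g_rc_16_1 lc_g_rc_48_0 lc_g_rc_16_1 lc_g_rc_48_0) (@D3.rec (fun _ => (Cert rels S Gen.g)) lc_g_rc_48_1 lc_g_rc_49_2 lc_g_rc_24_1 lc_g_rc_7_1 lc_g_rc_24_1 lc_g_rc_7_1 lc_g_rc_48_0 lc_g_rc_37_1 lc_g_rc_24_1 lc_g_rc_7_1 lc_g_rc_48_0 lc_g_rc_48_1 lc_g_rc_16_1 lc_g_rc_16_1 lc_g_rc_48_0 lc_g_rc_48_1 lc_g_rc_31_1 lc_g_rc_47_2 lc_g_rc_50_2 lc_g_rc_16_1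 lc_g_rc_44_1 lc_g_rc_7_1 lc_g_rc_7_3 lc_g_rc_48_0 lc_g_rc_48_1 lc_g_rc_7_1 lc_g_rc_7_1 lc_g_rc_24_3 lc_g_rc_48_0 lc_g_rc_48_1 lc_g_rc_31_1 lc_g_rc_24_1 lc_g_rc_48_0 lc_g_rc_48_1 lc_g_rc_16_1 lc_g_rc_47_2 lc_g_rc_50_2 lc_g_rc_44_3 lc_g_rc_49_2 lc_g_rc_47_2 lc_g_rc_31_1 lc_g_rc_50_2 lc_g_rc_49_2 lc_g_rc_50_2 lc_g_rc_16_1 lc_g_rc_31_1 lc_g_Cert_tree lc_g_rc_48_0 lc_g_rc_7_1 lc_g_rc_16_1 lc_g_rc_24_1) (@D3.rec (fun _ => (Cert rels S Gen.g)) lc_g_rc_47_2 lc_g_rc_47_2 lc_g_rc_48_0 lc_g_rc_49_2 lc_g_rc_16_1 lc_g_Cert_tree lc_g_Cert_tree lc_g_rc_47_2 lc_g_rc_48_0 lc_g_rc_49_2 lc_g_rc_7_1 lc_g_rc_44_1 lc_g_rc_24_1 lc_g_Cert_tree lc_g_rc_16_1 lc_g_rc_48_0 lc_g_Cert_tree lc_g_rc_48_0 lc_g_rc_44_1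 lc_g_rc_50_2 lc_g_rc_24_1 lc_g_rc_24_1 lc_g_Cert_tree lc_g_rc_16_1 lc_g_rc_48_0 lc_g_Cert_tree lc_g_rc_48_0 lc_g_rc_48_1 lc_g_rc_50_2 lc_g_rc_24_1 lc_g_Cert_tree lc_g_rc_48_0 lc_g_Cert_tree lc_g_Cert_tree lc_g_rc_48_0 lc_g_rc_48_1 lc_g_rc_49_2 lc_g_rc_48_0 lc_g_rc_48_1 lc_g_rc_16_3 lc_g_rc_47_2 lc_g_rc_31_1 lc_g_rc_16_1 lc_g_Cert_tree lc_g_rc_16_1 lc_g_rc_48_0 lc_g_Cert_tree lc_g_rc_48_0 lc_g_rc_48_1 lc_g_rc_49_2 lc_g_rc_24_1) (@D3.rec (fun _ => (Cert rels S Gen.g)) lc_g_rc_7_1 lc_g_Cert_tree lc_g_rc_7_1 lc_g_rc_48_0 lc_g_Cert_tree lc_g_rc_16_1 lc_g_Cert_tree lc_g_rc_48_0 lc_g_rc_48_1 lc_g_rc_16_1 lc_g_rc_16_1 lc_g_rc_48_0 lc_g_rc_48_1 lc_g_rc_31_1 lc_g_rc_47_2 lc_g_rc_50_2 lc_g_Cert_tree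 lc_g_rc_24_1 lc_g_Cert_tree lc_g_rc_48_0 lc_g_rc_48_1 lc_g_rc_16_1 lc_g_rc_16_1 lc_g_rc_48_0 lc_g_rc_48_1 lc_g_rc_31_1 lc_g_rc_47_2 lc_g_rc_50_2 lc_g_rc_16_1 lc_g_Cert_tree lc_g_rc_7_1 lc_g_Cert_tree lc_g_rc_48_0 lc_g_rc_48_1 lc_g_rc_7_1 lc_g_rc_7_1 lc_g_Cert_tree lc_g_rc_48_0 lc_g_rc_48_1 lc_g_rc_31_1 lc_g_rc_24_1 lc_g_rc_48_0 lc_g_rc_48_1 lc_g_rc_16_1 lc_g_rc_47_2 lc_g_rc_50_2 lc_g_rc_44_3 lc_g_rc_37_1 lc_g_rc_47_2 lc_g_rc_31_1 lc_g_rc_50_2) (@D3.rec (fun _ => (Cert rels S Gen.g)) lc_g_rc_47_2 lc_g_rc_50_2 lc_g_Cert_tree lc_g_rc_48_0 lc_g_rc_48_1 lc_g_rc_31_1 lc_g_rc_24_1 lc_g_rc_48_0 lc_g_rc_48_1 lc_g_rc_16_1 lc_g_rc_47_2 lc_g_rc_50_2 lc_g_rc_44_3 lc_g_rc_24_1 lc_g_rc_47_2 lc_g_rc_31_1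 lc_g_rc_50_2 lc_g_rc_44_5 lc_g_rc_50_2 lc_g_Cert_tree lc_g_rc_16_1 lc_g_Cert_tree lc_g_rc_48_0 lc_g_rc_48_1 lc_g_rc_7_1 lc_g_rc_7_1 lc_g_rc_48_0 lc_g_rc_48_1 lc_g_rc_7_1 lc_g_rc_47_2 lc_g_rc_50_2 lc_g_Cert_tree lc_g_rc_48_0 lc_g_rc_48_1 lc_g_rc_16_1 lc_g_rc_47_2 lc_g_rc_31_1 lc_g_rc_50_2 lc_g_rc_37_1 lc_g_rc_31_1 lc_g_rc_16_1 lc_g_rc_16_1 lc_g_rc_47_2 lc_g_rc_31_1 lc_g_rc_50_2 lc_g_rc_16_1 lc_g_rc_50_2 lc_g_Cert_tree lc_g_rc_44_3 lc_g_rc_47_2 lc_g_rc_31_1) (@D3.rec (fun _ => (Cert rels S Gen.g)) lc_g_rc_50_2 lc_g_rc_24_1 lc_g_rc_50_2 lc_g_rc_49_2 lc_g_rc_7_1 lc_g_Cert_tree lc_g_rc_24_1 lc_g_Cert_tree lc_g_rc_49_2 lc_g_rc_48_0 lc_g_Cert_tree lc_g_rc_48_0 lc_g_rc_48_1 lc_g_rc_49_2 lc_g_rc_24_1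 lc_g_rc_7_1 lc_g_Cert_tree lc_g_rc_7_1 lc_g_rc_48_0 lc_g_Cert_tree lc_g_rc_47_2 lc_g_Cert_tree lc_g_rc_48_0 lc_g_rc_48_1 lc_g_rc_47_2 lc_g_rc_16_1 lc_g_rc_48_0 lc_g_rc_48_1 lc_g_rc_31_1 lc_g_rc_47_2 lc_g_rc_50_2 lc_g_rc_16_1 lc_g_Cert_tree lc_g_rc_7_1 lc_g_Cert_tree lc_g_rc_48_0 lc_g_rc_48_1 lc_g_rc_7_1 lc_g_rc_7_1 lc_g_Cert_tree lc_g_rc_48_0 lc_g_rc_48_1 lc_g_rc_49_2 lc_g_rc_49_2 lc_g_rc_48_0 lc_g_rc_48_1 lc_g_rc_16_1 lc_g_rc_47_2 lc_g_rc_50_2 lc_g_rc_44_3 lc_g_rc_37_1) (@D3.rec (fun _ => (Cert rels S Gen.g)) lc_g_rc_47_2 lc_g_rc_31_1 lc_g_rc_50_2 lc_g_rc_47_2 lc_g_rc_50_2 lc_g_rc_7_1 lc_g_Cert_tree lc_g_rc_7_1 lc_g_rc_48_0 lc_g_Cert_tree lc_g_rc_24_1 lc_g_Cert_tree lc_g_rc_48_0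 lc_g_rc_48_1 lc_g_rc_16_1 lc_g_rc_16_1 lc_g_rc_48_0 lc_g_rc_48_1 lc_g_rc_31_1 lc_g_rc_47_2 lc_g_rc_50_2 lc_g_rc_16_1 lc_g_Cert_tree lc_g_rc_7_1 lc_g_Cert_tree lc_g_rc_48_0 lc_g_rc_48_1 lc_g_rc_7_1 lc_g_rc_7_1 lc_g_Cert_tree lc_g_rc_48_0 lc_g_rc_48_1 lc_g_rc_31_1 lc_g_rc_24_1 lc_g_rc_48_0 lc_g_rc_48_1 lc_g_rc_16_1 lc_g_rc_47_2 lc_g_rc_50_2 lc_g_rc_44_3 lc_g_rc_37_1 lc_g_rc_47_2 lc_g_rc_31_1 lc_g_rc_50_2 lc_g_rc_47_2 lc_g_rc_50_2 lc_g_Cert_tree lc_g_rc_16_1 lc_g_Cert_tree lc_g_rc_48_0 lc_g_rc_48_1)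
def ce_g_5 : D2 → D3 → (Cert rels S Gen.g) := @D2.rec (fun _ => D3 → (Cert rels S Gen.g)) (@D3.rec (fun _ => (Cert rels S Gen.g)) lc_g_rc_7_1 lc_g_rc_7_1 lc_g_rc_48_0 lc_g_rc_48_1 lc_g_rc_7_1 lc_g_rc_47_2 lc_g_rc_50_2 lc_g_Cert_tree lc_g_rc_48_0 lc_g_rc_48_1 lc_g_rc_24_1 lc_g_rc_47_2 lc_g_rc_31_1 lc_g_rc_50_2 lc_g_rc_37_1 lc_g_rc_31_1 lc_g_rc_16_1 lc_g_rc_16_1 lc_g_rc_47_2 lc_g_rc_31_1 lc_g_rc_50_2 lc_g_rc_16_1 lc_g_rc_50_2 lc_g_Cert_tree lc_g_rc_44_3 lc_g_rc_47_2 lc_g_rc_31_1 lc_g_rc_50_2 lc_g_rc_24_1 lc_g_rc_50_2 lc_g_rc_50_2 lc_g_rc_16_1 lc_g_Cert_tree lc_g_rc_7_1 lc_g_rc_48_0 lc_g_rc_48_1 lc_g_rc_7_1 lc_g_rc_7_1 lc_g_Cert_tree lc_g_rc_48_0 lc_g_rc_48_1 lc_g_rc_31_1 lc_g_rc_24_1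 lc_g_rc_48_0 lc_g_rc_48_1 lc_g_rc_49_2 lc_g_rc_47_2 lc_g_rc_50_2 lc_g_rc_44_3 lc_g_rc_49_2 lc_g_rc_47_2) (@D3.rec (fun _ => (Cert rels S Gen.g)) lc_g_rc_31_1 lc_g_rc_50_2 lc_g_rc_49_2 lc_g_rc_50_2 lc_g_Cert_tree lc_g_rc_16_1 lc_g_Cert_tree lc_g_rc_48_0 lc_g_rc_48_1 lc_g_rc_7_1 lc_g_rc_7_1 lc_g_rc_48_0 lc_g_rc_48_1 lc_g_rc_7_1 lc_g_rc_47_2 lc_g_rc_50_2 lc_g_Cert_tree lc_g_rc_48_0 lc_g_rc_48_1 lc_g_rc_24_1 lc_g_rc_47_2 lc_g_rc_31_1 lc_g_rc_50_2 lc_g_rc_37_1 lc_g_rc_31_1 lc_g_rc_16_1 lc_g_rc_16_1 lc_g_rc_47_2 lc_g_rc_31_1 lc_g_rc_50_2 lc_g_rc_47_2 lc_g_rc_50_2 lc_g_Cert_tree lc_g_rc_44_3 lc_g_rc_47_2 lc_g_rc_31_1 lc_g_rc_50_2 lc_g_rc_24_1 lc_g_rc_50_2 lc_g_rc_49_2 lc_g_Cert_tree lc_g_rc_48_0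 lc_g_rc_48_1 lc_g_rc_16_1 lc_g_Cert_tree lc_g_rc_48_0 lc_g_rc_48_1 lc_g_rc_7_1 lc_g_rc_47_2 lc_g_rc_31_1 lc_g_rc_50_2) (@D3.rec (fun _ => (Cert rels S Gen.g)) lc_g_rc_7_1 lc_g_rc_7_1 lc_g_rc_7_1 lc_g_rc_47_2 lc_g_rc_31_1 lc_g_rc_50_2 lc_g_rc_7_1 lc_g_rc_50_2 lc_g_rc_48_0 lc_g_rc_48_1 lc_g_rc_24_1 lc_g_rc_24_1 lc_g_rc_47_2 lc_g_rc_31_1 lc_g_rc_50_2 lc_g_rc_47_2 lc_g_rc_31_1 lc_g_rc_50_2 lc_g_rc_37_1 lc_g_rc_50_2 lc_g_Cert_tree lc_g_rc_37_1 lc_g_rc_44_5 lc_g_Cert_tree lc_g_rc_16_1 lc_g_rc_47_2 lc_g_rc_31_1 lc_g_rc_50_2 lc_g_rc_24_1 lc_g_rc_50_2 lc_g_rc_49_2 lc_g_rc_48_0 lc_g_rc_48_1 lc_g_rc_31_1 lc_g_rc_50_2 lc_g_rc_49_2 lc_g_rc_49_2 lc_g_rc_24_1 lc_g_rc_50_2 lc_g_rc_16_1 lc_g_rc_24_1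 lc_g_rc_47_2 lc_g_rc_44_3 lc_g_rc_24_1 lc_g_rc_44_3 lc_g_rc_49_2 lc_g_rc_16_1 lc_g_rc_44_3 lc_g_rc_49_2 lc_g_rc_31_1 lc_g_rc_24_1) (@D3.rec (fun _ => (Cert rels S Gen.g)) lc_g_rc_7_1 lc_g_rc_7_1 lc_g_rc_48_0 lc_g_rc_48_1 lc_g_rc_24_1 lc_g_rc_24_1 lc_g_Cert_tree lc_g_rc_16_1 lc_g_rc_47_2 lc_g_rc_31_1 lc_g_rc_24_1 lc_g_rc_48_0 lc_g_rc_48_1 lc_g_rc_31_1 lc_g_rc_50_2 lc_g_rc_49_2 lc_g_rc_49_2 lc_g_rc_24_1 lc_g_rc_50_2 lc_g_rc_16_1 lc_g_rc_24_1 lc_g_rc_47_2 lc_g_rc_48_0 lc_g_rc_48_1 lc_g_rc_7_1 lc_g_rc_7_1 lc_g_Cert_tree lc_g_rc_7_1 lc_g_rc_7_1 lc_g_rc_31_1 lc_g_rc_24_1 lc_g_rc_31_1 lc_g_rc_31_1 lc_g_rc_47_2 lc_g_rc_31_1 lc_g_rc_50_2 lc_g_Cert_tree lc_g_rc_24_1 lc_g_rc_47_2 lc_g_rc_31_1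 lc_g_rc_24_1 lc_g_rc_48_0 lc_g_rc_48_1 lc_g_rc_31_1 lc_g_rc_16_1 lc_g_rc_49_2 lc_g_rc_49_2 lc_g_rc_24_1 lc_g_rc_50_2 lc_g_rc_16_1 lc_g_rc_24_1) (@D3.rec (fun _ => (Cert rels S Gen.g)) lc_g_rc_47_2 lc_g_rc_47_2 lc_g_rc_31_1 lc_g_rc_50_2 lc_g_rc_24_1 lc_g_rc_37_1 lc_g_rc_31_1 lc_g_rc_24_1 lc_g_rc_49_2 lc_g_rc_16_1 lc_g_rc_24_1 lc_g_rc_47_2 lc_g_rc_7_1 lc_g_rc_16_1 lc_g_rc_47_2 lc_g_rc_16_1 lc_g_rc_7_1 lc_g_rc_7_1 lc_g_rc_50_2 lc_g_rc_24_1 lc_g_rc_50_0 lc_g_rc_16_1 lc_g_rc_50_2 lc_g_rc_50_2 lc_g_rc_24_1 lc_g_rc_44_1 lc_g_rc_31_1 lc_g_rc_48_0 lc_g_rc_31_3 lc_g_rc_50_2 lc_g_rc_50_2 lc_g_rc_48_0 lc_g_rc_44_1 lc_g_Cert_tree lc_g_rc_48_0 lc_g_rc_48_1 lc_g_rc_50_2 lc_g_rc_48_0 lc_g_rc_48_1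 lc_g_rc_47_2 lc_g_rc_44_1 lc_g_rc_50_2 lc_g_Cert_tree lc_g_rc_24_1 lc_g_Cert_tree lc_g_rc_48_0 lc_g_rc_49_2 lc_g_rc_16_1 lc_g_rc_49_2 lc_g_rc_48_0 lc_g_rc_31_1) (@D3.rec (fun _ => (Cert rels S Gen.g)) lc_g_rc_16_3 lc_g_Cert_tree lc_g_rc_48_0 lc_g_rc_7_1 lc_g_Cert_tree lc_g_rc_48_0 lc_g_rc_48_0 lc_g_rc_48_1 lc_g_rc_31_1 lc_g_rc_47_2 lc_g_rc_50_2 lc_g_rc_31_1 lc_g_rc_37_1 lc_g_rc_47_2 lc_g_rc_31_1 lc_g_rc_50_2 lc_g_rc_47_2 lc_g_rc_50_2 lc_g_rc_16_3 lc_g_rc_49_2 lc_g_Cert_tree lc_g_rc_16_1 lc_g_Cert_tree lc_g_rc_48_0 lc_g_rc_48_1 lc_g_rc_16_1 lc_g_rc_16_1 lc_g_rc_48_0 lc_g_rc_37_3 lc_g_rc_31_1 lc_g_rc_47_2 lc_g_rc_50_2 lc_g_rc_7_1 lc_g_Cert_tree lc_g_rc_7_1 lc_g_Cert_tree lc_g_rc_48_0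 lc_g_rc_48_1 lc_g_rc_7_1 lc_g_rc_7_1 lc_g_Cert_tree lc_g_rc_48_0 lc_g_rc_48_1 lc_g_rc_16_1 lc_g_rc_16_1 lc_g_rc_48_0 lc_g_rc_48_1 lc_g_rc_16_1 lc_g_rc_47_2 lc_g_rc_50_2 lc_g_rc_44_3) (@D3.rec (fun _ => (Cert rels S Gen.g)) lc_g_rc_37_1 lc_g_rc_47_2 lc_g_rc_31_1 lc_g_rc_50_2 lc_g_rc_47_2 lc_g_rc_50_2 lc_g_rc_31_1 lc_g_rc_47_2 lc_g_rc_50_2 lc_g_Cert_tree lc_g_rc_48_0 lc_g_rc_48_1 lc_g_rc_24_1 lc_g_rc_48_0 lc_g_rc_48_1 lc_g_rc_16_1 lc_g_rc_47_2 lc_g_rc_50_2 lc_g_rc_44_3 lc_g_rc_31_1 lc_g_rc_47_2 lc_g_rc_24_1 lc_g_rc_50_2 lc_g_rc_37_1 lc_g_rc_50_2 lc_g_Cert_tree lc_g_rc_16_1 lc_g_Cert_tree lc_g_rc_48_0 lc_g_rc_48_1 lc_g_rc_7_1 lc_g_rc_7_1 lc_g_rc_48_0 lc_g_rc_48_1 lc_g_rc_7_1 lc_g_rc_47_2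 lc_g_rc_50_2 lc_g_Cert_tree lc_g_rc_48_0 lc_g_rc_48_1 lc_g_rc_50_0 lc_g_rc_47_2 lc_g_rc_31_1 lc_g_rc_50_2 lc_g_rc_37_1 lc_g_rc_31_1 lc_g_rc_16_1 lc_g_rc_16_1 lc_g_rc_47_2 lc_g_rc_31_1 lc_g_rc_50_2) (@D3.rec (fun _ => (Cert rels S Gen.g)) lc_g_rc_16_1 lc_g_rc_50_2 lc_g_Cert_tree lc_g_rc_44_3 lc_g_rc_47_2 lc_g_rc_31_1 lc_g_rc_50_2 lc_g_rc_24_1 lc_g_rc_50_2 lc_g_rc_50_2 lc_g_rc_47_2 lc_g_rc_31_1 lc_g_rc_50_2 lc_g_rc_49_2 lc_g_rc_50_2 lc_g_Cert_tree lc_g_rc_48_0 lc_g_rc_48_1 lc_g_rc_16_1 lc_g_rc_47_2 lc_g_rc_50_2 lc_g_rc_16_1 lc_g_rc_16_1 lc_g_rc_47_2 lc_g_rc_31_1 lc_g_rc_50_2 lc_g_rc_16_1 lc_g_rc_50_2 lc_g_Cert_tree lc_g_rc_44_3 lc_g_rc_47_2 lc_g_rc_31_1 lc_g_rc_50_2 lc_g_rc_24_1 lc_g_rc_50_2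 lc_g_rc_49_2 lc_g_Cert_tree lc_g_rc_48_0 lc_g_rc_48_1 lc_g_rc_16_1 lc_g_Cert_tree lc_g_rc_48_0 lc_g_rc_48_1 lc_g_rc_7_1 lc_g_rc_47_2 lc_g_rc_31_1 lc_g_rc_50_2 lc_g_rc_7_1 lc_g_rc_7_1 lc_g_rc_7_1 lc_g_rc_47_2) (@D3.rec (fun _ => (Cert rels S Gen.g)) lc_g_rc_31_1 lc_g_rc_50_2 lc_g_rc_7_1 lc_g_rc_50_2 lc_g_rc_48_0 lc_g_rc_48_1 lc_g_rc_24_1 lc_g_rc_16_1 lc_g_rc_47_2 lc_g_rc_31_1 lc_g_rc_50_2 lc_g_rc_16_1 lc_g_rc_31_1 lc_g_rc_50_2 lc_g_rc_37_1 lc_g_rc_50_2 lc_g_Cert_tree lc_g_rc_37_1 lc_g_Cert_tree lc_g_rc_16_1 lc_g_rc_16_1 lc_g_rc_31_1 lc_g_rc_50_2 lc_g_rc_24_1 lc_g_rc_50_2 lc_g_rc_16_1 lc_g_rc_48_0 lc_g_rc_48_1 lc_g_rc_31_1 lc_g_rc_50_2 lc_g_rc_49_2 lc_g_rc_49_2 lc_g_rc_24_1 lc_g_rc_50_2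 lc_g_rc_16_1 lc_g_rc_24_1 lc_g_rc_47_2 lc_g_rc_16_1 lc_g_Cert_tree lc_g_rc_7_1 lc_g_Cert_tree lc_g_rc_48_0 lc_g_rc_48_1 lc_g_rc_7_1 lc_g_rc_7_1 lc_g_Cert_tree lc_g_rc_48_0 lc_g_rc_48_1 lc_g_rc_49_2 lc_g_rc_49_2 lc_g_rc_48_0) (@D3.rec (fun _ => (Cert rels S Gen.g)) lc_g_rc_48_1 lc_g_rc_16_1 lc_g_rc_47_2 lc_g_rc_50_2 lc_g_rc_44_3 lc_g_rc_37_1 lc_g_rc_47_2 lc_g_rc_16_3 lc_g_rc_50_2 lc_g_rc_47_2 lc_g_rc_50_2 lc_g_Cert_tree lc_g_Cert_tree lc_g_rc_48_0 lc_g_rc_48_1 lc_g_rc_7_1 lc_g_rc_48_0 lc_g_rc_48_1 lc_g_rc_7_1 lc_g_rc_47_2 lc_g_rc_50_2 lc_g_Cert_tree lc_g_rc_48_0 lc_g_rc_48_1 lc_g_rc_24_1 lc_g_rc_47_2 lc_g_rc_31_1 lc_g_rc_50_2 lc_g_rc_49_2 lc_g_rc_49_2 lc_g_rc_16_1 lc_g_rc_16_1 lc_g_rc_47_2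 lc_g_rc_31_1 lc_g_rc_50_2 lc_g_rc_16_1 lc_g_rc_50_2 lc_g_Cert_tree lc_g_rc_44_3 lc_g_rc_47_2 lc_g_rc_31_1 lc_g_rc_50_2 lc_g_rc_24_1 lc_g_rc_50_2 lc_g_rc_50_2 lc_g_Cert_tree lc_g_Cert_tree lc_g_rc_48_0 lc_g_rc_48_1 lc_g_rc_7_1 lc_g_rc_48_0) (@D3.rec (fun _ => (Cert rels S Gen.g)) lc_g_rc_48_1 lc_g_rc_7_1 lc_g_rc_47_2 lc_g_rc_50_2 lc_g_Cert_tree lc_g_rc_48_0 lc_g_rc_48_1 lc_g_rc_24_1 lc_g_rc_47_2 lc_g_rc_31_1 lc_g_rc_50_2 lc_g_rc_31_1 lc_g_rc_16_1 lc_g_rc_16_1 lc_g_rc_47_2 lc_g_rc_31_1 lc_g_rc_50_2 lc_g_rc_16_1 lc_g_rc_50_2 lc_g_Cert_tree lc_g_rc_44_3 lc_g_rc_16_3 lc_g_rc_31_1 lc_g_rc_50_2 lc_g_rc_31_1 lc_g_rc_50_2 lc_g_rc_50_2 lc_g_Cert_tree lc_g_rc_48_0 lc_g_Cert_tree lc_g_rc_48_0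 lc_g_rc_48_1 lc_g_rc_7_1 lc_g_rc_47_2 lc_g_rc_50_2 lc_g_rc_7_1 lc_g_rc_7_1 lc_g_rc_47_2 lc_g_rc_31_1 lc_g_rc_50_2 lc_g_rc_7_1 lc_g_rc_50_2 lc_g_rc_48_0 lc_g_rc_48_1 lc_g_rc_24_1 lc_g_rc_24_1 lc_g_rc_47_2 lc_g_rc_31_1 lc_g_rc_50_2 lc_g_rc_24_1 lc_g_rc_31_1) (@D3.rec (fun _ => (Cert rels S Gen.g)) lc_g_rc_50_2 lc_g_rc_37_1 lc_g_rc_50_2 lc_g_Cert_tree lc_g_rc_37_1 lc_g_Cert_tree lc_g_rc_16_1 lc_g_rc_16_1 lc_g_rc_31_1 lc_g_rc_50_2 lc_g_rc_24_1 lc_g_rc_50_2 lc_g_rc_16_1 lc_g_rc_48_0 lc_g_rc_48_1 lc_g_rc_31_1 lc_g_rc_50_2 lc_g_rc_31_1 lc_g_rc_50_2 lc_g_rc_24_1 lc_g_rc_50_2 lc_g_rc_16_1 lc_g_rc_24_1 lc_g_rc_47_2 lc_g_Cert_tree lc_g_rc_48_0 lc_g_rc_48_0 lc_g_rc_48_1 lc_g_rc_7_1 lc_g_rc_47_2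 lc_g_rc_50_2 lc_g_rc_7_1 lc_g_rc_7_1 lc_g_rc_47_2 lc_g_rc_50_2 lc_g_rc_7_1 lc_g_rc_50_2 lc_g_rc_48_0 lc_g_rc_48_1 lc_g_rc_24_1 lc_g_rc_24_1 lc_g_rc_47_2 lc_g_rc_31_1 lc_g_rc_50_2 lc_g_rc_47_2 lc_g_rc_31_1 lc_g_rc_50_2 lc_g_rc_37_1 lc_g_rc_50_2 lc_g_Cert_tree lc_g_rc_16_1) (@D3.rec (fun _ => (Cert rels S Gen.g)) lc_g_rc_47_2 lc_g_rc_31_1 lc_g_rc_50_2 lc_g_rc_24_1 lc_g_rc_50_2 lc_g_rc_47_2 lc_g_rc_48_0 lc_g_rc_48_1 lc_g_rc_31_1 lc_g_rc_50_2 lc_g_rc_49_2 lc_g_rc_47_2 lc_g_rc_24_1 lc_g_rc_50_2 lc_g_rc_16_1 lc_g_rc_24_1 lc_g_rc_47_2 lc_g_Cert_tree lc_g_rc_48_0 lc_g_rc_16_1 lc_g_rc_48_0 lc_g_rc_48_1 lc_g_rc_7_1 lc_g_rc_7_1 lc_g_rc_47_2 lc_g_rc_31_1 lc_g_rc_50_2 lc_g_rc_7_1 lc_g_rc_50_2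 lc_g_Cert_tree lc_g_rc_7_1 lc_g_rc_7_1 lc_g_rc_31_1 lc_g_rc_50_2 lc_g_rc_24_1 lc_g_rc_50_2 lc_g_rc_7_1 lc_g_rc_31_1 lc_g_rc_31_1 lc_g_rc_47_2 lc_g_rc_31_1 lc_g_rc_50_2 lc_g_Cert_tree lc_g_rc_24_1 lc_g_rc_47_2 lc_g_rc_31_1 lc_g_rc_50_2 lc_g_rc_24_1 lc_g_rc_37_1 lc_g_rc_50_2 lc_g_rc_49_2) (@D3.rec (fun _ => (Cert rels S Gen.g)) lc_g_rc_49_2 lc_g_rc_37_1 lc_g_rc_50_2 lc_g_Cert_tree lc_g_rc_50_2 lc_g_rc_48_0 lc_g_rc_50_2 lc_g_rc_48_0 lc_g_rc_48_1 lc_g_rc_31_1 lc_g_rc_16_1 lc_g_rc_37_1 lc_g_rc_37_1 lc_g_rc_24_1 lc_g_rc_50_2 lc_g_rc_16_1 lc_g_rc_24_1 lc_g_rc_47_2 lc_g_rc_47_2 lc_g_rc_31_1 lc_g_rc_50_2 lc_g_rc_24_1 lc_g_rc_37_1 lc_g_rc_31_1 lc_g_rc_24_1 lc_g_rc_37_1 lc_g_rc_16_1 lc_g_rc_24_1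 lc_g_rc_47_2 lc_g_rc_7_1 lc_g_rc_16_1 lc_g_rc_47_2 lc_g_Cert_tree lc_g_rc_31_1 lc_g_rc_31_1 lc_g_rc_47_2 lc_g_rc_50_2 lc_g_Cert_tree lc_g_rc_48_0 lc_g_rc_48_1 lc_g_rc_31_1 lc_g_rc_49_2 lc_g_rc_24_1 lc_g_rc_16_1 lc_g_rc_47_2 lc_g_rc_31_1 lc_g_rc_50_2 lc_g_rc_24_1 lc_g_rc_37_1 lc_g_rc_31_1 lc_g_rc_24_1) (@D3.rec (fun _ => (Cert rels S Gen.g)) lc_g_rc_49_2 lc_g_rc_16_1 lc_g_rc_24_1 lc_g_rc_47_2 lc_g_rc_7_1 lc_g_rc_16_1 lc_g_rc_47_2 lc_g_rc_7_1 lc_g_rc_7_1 lc_g_rc_47_2 lc_g_rc_50_2 lc_g_Cert_tree lc_g_rc_48_0 lc_g_rc_48_1 lc_g_rc_7_1 lc_g_rc_7_1 lc_g_rc_24_1 lc_g_rc_16_1 lc_g_rc_37_1 lc_g_Cert_tree lc_g_rc_44_3 lc_g_rc_47_2 lc_g_rc_31_1 lc_g_rc_50_2 lc_g_rc_24_1 lc_g_rc_50_2 lc_g_rc_48_0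 lc_g_rc_48_1 lc_g_rc_31_1 lc_g_rc_49_2 lc_g_rc_24_1 lc_g_rc_16_1 lc_g_rc_47_2 lc_g_rc_31_1 lc_g_rc_50_2 lc_g_rc_24_1 lc_g_rc_37_1 lc_g_rc_31_1 lc_g_rc_24_1 lc_g_rc_37_1 lc_g_rc_16_1 lc_g_rc_24_1 lc_g_rc_47_2 lc_g_rc_7_1 lc_g_rc_16_1 lc_g_rc_47_2 lc_g_rc_31_1 lc_g_rc_50_2 lc_g_rc_50_2 lc_g_rc_24_1 lc_g_rc_47_0) (@D3.rec (fun _ => (Cert rels S Gen.g)) lc_g_rc_16_1 lc_g_rc_44_3 lc_g_rc_16_1 lc_g_rc_50_0 lc_g_rc_7_1 lc_g_rc_16_1 lc_g_rc_47_2 lc_g_rc_7_1 lc_g_rc_16_1 lc_g_rc_31_1 lc_g_rc_24_3 lc_g_rc_47_2 lc_g_rc_50_2 lc_g_rc_47_2 lc_g_rc_31_1 lc_g_rc_50_2 lc_g_rc_7_1 lc_g_rc_50_2 lc_g_rc_47_2 lc_g_rc_24_3 lc_g_rc_50_2 lc_g_rc_24_1 lc_g_rc_31_1 lc_g_rc_50_2 lc_g_rc_37_1 lc_g_rc_50_2 lc_g_Cert_tree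 lc_g_rc_37_1 lc_g_rc_16_1 lc_g_rc_16_1 lc_g_rc_31_1 lc_g_rc_50_2 lc_g_rc_24_1 lc_g_rc_50_2 lc_g_rc_16_1 lc_g_rc_16_1 lc_g_rc_31_1 lc_g_rc_50_2 lc_g_rc_31_1 lc_g_rc_50_2 lc_g_rc_24_1 lc_g_rc_50_2 lc_g_rc_16_1 lc_g_rc_24_1 lc_g_rc_47_2 lc_g_rc_47_2 lc_g_rc_16_1 lc_g_rc_50_2 lc_g_rc_7_1 lc_g_rc_50_2 lc_g_rc_7_1) (@D3.rec (fun _ => (Cert rels S Gen.g)) lc_g_rc_37_1 lc_g_rc_31_1 lc_g_rc_50_2 lc_g_rc_24_1 lc_g_rc_50_2 lc_g_rc_7_1 lc_g_rc_7_1 lc_g_rc_49_2 lc_g_rc_24_1 lc_g_rc_24_1 lc_g_rc_31_1 lc_g_rc_50_2 lc_g_rc_24_1 lc_g_rc_37_1 lc_g_rc_50_2 lc_g_rc_31_1 lc_g_rc_24_1 lc_g_rc_37_1 lc_g_rc_50_2 lc_g_Cert_tree lc_g_rc_50_2 lc_g_rc_48_0 lc_g_rc_50_2 lc_g_rc_44_1 lc_g_rc_31_1 lc_g_rc_16_1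 lc_g_rc_31_1 lc_g_rc_16_1 lc_g_rc_24_1 lc_g_rc_50_2 lc_g_rc_16_1 lc_g_rc_24_1 lc_g_rc_47_2 lc_g_rc_47_2 lc_g_rc_16_3 lc_g_rc_50_2 lc_g_rc_24_1 lc_g_rc_37_1 lc_g_rc_31_1 lc_g_rc_24_1 lc_g_rc_31_1 lc_g_rc_16_1 lc_g_rc_24_1 lc_g_rc_47_2 lc_g_rc_7_1 lc_g_rc_16_1 lc_g_rc_47_2 lc_g_rc_7_1 lc_g_rc_7_1 lc_g_rc_31_1 lc_g_rc_50_2) (@D3.rec (fun _ => (Cert rels S Gen.g)) lc_g_rc_24_1 lc_g_rc_50_2 lc_g_rc_7_1 lc_g_rc_24_1 lc_g_rc_7_1 lc_g_rc_7_1 lc_g_rc_7_1 lc_g_rc_7_1 lc_g_rc_24_1 lc_g_rc_50_2 lc_g_rc_16_1 lc_g_rc_24_1 lc_g_rc_47_2 lc_g_rc_7_1 lc_g_rc_31_1 lc_g_rc_24_1 lc_g_rc_31_1 lc_g_rc_24_1 lc_g_rc_24_1 lc_g_rc_37_1 lc_g_rc_50_2 lc_g_rc_16_1 lc_g_rc_24_1 lc_g_rc_24_1 lc_g_Cert_tree lc_g_rc_50_2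 lc_g_rc_47_2 lc_g_rc_37_1 lc_g_rc_31_1 lc_g_Cert_tree lc_g_rc_50_2 lc_g_rc_48_0 lc_g_rc_50_2 lc_g_rc_49_2 lc_g_rc_50_2 lc_g_rc_47_2 lc_g_rc_24_3 lc_g_rc_50_2 lc_g_rc_24_1 lc_g_rc_37_1 lc_g_rc_31_1 lc_g_rc_24_1 lc_g_rc_31_1 lc_g_rc_16_1 lc_g_rc_24_1 lc_g_rc_47_2 lc_g_rc_7_1 lc_g_rc_16_1 lc_g_rc_47_2 lc_g_rc_50_2 lc_g_rc_47_2) (@D3.rec (fun _ => (Cert rels S Gen.g)) lc_g_rc_16_1 lc_g_rc_24_1 lc_g_rc_37_1 lc_g_rc_44_3 lc_g_rc_16_1 lc_g_rc_7_1 lc_g_rc_16_1 lc_g_rc_7_1 lc_g_rc_24_3 lc_g_rc_24_3 lc_g_rc_24_1 lc_g_rc_7_1 lc_g_rc_7_1 lc_g_rc_24_1 lc_g_rc_7_1 lc_g_rc_16_1 lc_g_rc_24_1 lc_g_rc_47_2 lc_g_rc_7_1 lc_g_rc_16_1 lc_g_rc_47_2 lc_g_rc_50_2 lc_g_rc_16_1 lc_g_rc_24_1 lc_g_rc_24_1 lc_g_rc_7_1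 lc_g_rc_47_2 lc_g_rc_50_2 lc_g_rc_50_0 lc_g_rc_31_1 lc_g_rc_24_3 lc_g_rc_31_1 lc_g_rc_47_0 lc_g_rc_31_1 lc_g_rc_48_0 lc_g_rc_37_1 lc_g_rc_16_3 lc_g_rc_47_0 lc_g_rc_50_0 lc_g_rc_16_1 lc_g_rc_49_2 lc_g_rc_48_0 lc_g_rc_31_3 lc_g_rc_31_1 lc_g_rc_48_0 lc_g_rc_16_1 lc_g_rc_47_2 lc_g_rc_47_2 lc_g_rc_48_0 lc_g_rc_7_3 lc_g_rc_31_1) (@D3.rec (fun _ => (Cert rels S Gen.g)) lc_g_rc_48_1 lc_g_Cert_tree lc_g_rc_48_0 lc_g_rc_48_1 lc_g_rc_24_1 lc_g_rc_16_1 lc_g_Cert_tree lc_g_rc_48_0 lc_g_rc_16_1 lc_g_rc_48_0 lc_g_rc_48_1 lc_g_rc_47_2 lc_g_rc_31_1 lc_g_rc_7_1 lc_g_rc_16_3 lc_g_rc_31_1 lc_g_rc_16_1 lc_g_rc_47_2 lc_g_rc_31_1 lc_g_rc_50_2 lc_g_rc_31_1 lc_g_rc_7_3 lc_g_rc_37_1 lc_g_rc_16_1 lc_g_rc_37_1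 lc_g_Cert_tree lc_g_rc_48_0 lc_g_rc_7_3 lc_g_rc_37_3 lc_g_rc_48_0 lc_g_rc_44_1 lc_g_rc_16_1 lc_g_rc_7_3 lc_g_rc_50_2 lc_g_Cert_tree lc_g_rc_47_0 lc_g_rc_48_0 lc_g_rc_31_3 lc_g_rc_48_0 lc_g_rc_48_1 lc_g_rc_7_1 lc_g_rc_48_0 lc_g_rc_48_1 lc_g_rc_47_2 lc_g_rc_7_3 lc_g_rc_50_2 lc_g_rc_50_2 lc_g_rc_37_1 lc_g_Cert_tree lc_g_rc_48_0 lc_g_rc_48_0) (@D3.rec (fun _ => (Cert rels S Gen.g)) lc_g_rc_48_1 lc_g_rc_24_1 lc_g_rc_7_1 lc_g_rc_31_1 lc_g_rc_31_1 lc_g_rc_47_2 lc_g_rc_31_1 lc_g_rc_50_2 lc_g_rc_31_1 lc_g_rc_24_1 lc_g_rc_24_1 lc_g_rc_31_1 lc_g_rc_7_1 lc_g_rc_47_2 lc_g_rc_50_2 lc_g_rc_37_1 lc_g_rc_44_3 lc_g_rc_47_2 lc_g_rc_31_1 lc_g_rc_50_2 lc_g_rc_37_1 lc_g_rc_50_2 lc_g_rc_37_1 lc_g_Cert_tree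 lc_g_rc_49_2 lc_g_Cert_tree lc_g_rc_48_0 lc_g_rc_49_2 lc_g_rc_31_1 lc_g_rc_7_1 lc_g_rc_47_2 lc_g_rc_50_2 lc_g_rc_24_1 lc_g_rc_37_1 lc_g_rc_7_1 lc_g_rc_44_3 lc_g_rc_47_2 lc_g_rc_31_1 lc_g_rc_50_2 lc_g_rc_24_1 lc_g_rc_50_2 lc_g_rc_31_1 lc_g_rc_49_2 lc_g_rc_24_1 lc_g_rc_37_3 lc_g_rc_48_0 lc_g_rc_48_1 lc_g_rc_16_1 lc_g_rc_16_1 lc_g_rc_47_2 lc_g_rc_50_2) (@D3.rec (fun _ => (Cert rels S Gen.g)) lc_g_rc_31_1 lc_g_rc_37_1 lc_g_rc_37_1 lc_g_rc_44_3 lc_g_rc_7_1 lc_g_rc_50_2 lc_g_rc_7_1 lc_g_rc_44_5 lc_g_rc_7_3 lc_g_rc_50_2 lc_g_rc_50_2 lc_g_rc_44_1 lc_g_rc_50_2 lc_g_rc_24_1 lc_g_rc_37_1 lc_g_Cert_tree lc_g_rc_48_0 lc_g_rc_50_2 lc_g_rc_31_1 lc_g_rc_50_2 lc_g_rc_47_2 lc_g_rc_37_1 lc_g_rc_50_2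 lc_g_rc_37_1 lc_g_rc_37_1 lc_g_Cert_tree lc_g_rc_49_2 lc_g_Cert_tree lc_g_rc_48_0 lc_g_rc_50_2 lc_g_Cert_tree lc_g_rc_48_0 lc_g_rc_49_2 lc_g_rc_50_2 lc_g_rc_31_1 lc_g_rc_50_2 lc_g_rc_50_2 lc_g_rc_37_1 lc_g_rc_50_2 lc_g_rc_37_1 lc_g_rc_50_2 lc_g_Cert_tree lc_g_rc_48_0 lc_g_rc_31_1 lc_g_rc_24_1 lc_g_rc_31_1 lc_g_rc_37_1 lc_g_rc_31_1 lc_g_rc_24_1 lc_g_rc_44_1 lc_g_rc_48_0) (@D3.rec (fun _ => (Cert rels S Gen.g)) lc_g_rc_47_2 lc_g_rc_7_1 lc_g_rc_24_1 lc_g_rc_24_1 lc_g_rc_16_1 lc_g_rc_16_1 lc_g_rc_47_2 lc_g_rc_50_2 lc_g_rc_7_1 lc_g_rc_24_1 lc_g_rc_7_1 lc_g_rc_37_1 lc_g_rc_31_1 lc_g_rc_24_1 lc_g_rc_7_1 lc_g_rc_47_2 lc_g_rc_50_2 lc_g_rc_47_2 lc_g_rc_37_3 lc_g_rc_50_2 lc_g_rc_31_3 lc_g_rc_50_2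 lc_g_rc_16_1 lc_g_rc_44_1 lc_g_rc_7_1 lc_g_rc_7_1 lc_g_rc_7_3 lc_g_rc_47_2 lc_g_rc_50_2 lc_g_rc_24_3 lc_g_rc_47_2 lc_g_rc_31_1 lc_g_rc_50_2 lc_g_rc_37_1 lc_g_rc_31_1 lc_g_rc_47_2 lc_g_rc_31_1 lc_g_rc_50_2 lc_g_rc_16_1 lc_g_rc_50_2 lc_g_rc_44_3 lc_g_rc_49_2 lc_g_rc_31_1 lc_g_rc_50_2 lc_g_rc_24_1 lc_g_rc_50_2 lc_g_rc_49_2 lc_g_rc_16_1 lc_g_rc_50_2 lc_g_rc_50_2 lc_g_rc_47_2) (@D3.rec (fun _ => (Cert rels S Gen.g)) lc_g_rc_48_0 lc_g_rc_49_2 lc_g_rc_7_1 lc_g_rc_24_1 lc_g_rc_31_1 lc_g_rc_16_1 lc_g_rc_24_1 lc_g_Cert_tree lc_g_rc_16_1 lc_g_rc_48_0 lc_g_Cert_tree lc_g_rc_48_0 lc_g_rc_44_1 lc_g_rc_50_2 lc_g_rc_24_1 lc_g_rc_44_1 lc_g_Cert_tree lc_g_Cert_tree lc_g_rc_48_0 lc_g_rc_44_1 lc_g_rc_48_0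 lc_g_rc_31_1 lc_g_Cert_tree lc_g_Cert_tree lc_g_rc_48_0 lc_g_rc_48_1 lc_g_rc_50_2 lc_g_rc_48_0 lc_g_rc_48_1 lc_g_rc_16_3 lc_g_rc_47_2 lc_g_rc_47_2 lc_g_Cert_tree lc_g_rc_48_0 lc_g_Cert_tree lc_g_rc_48_0 lc_g_rc_48_0 lc_g_rc_48_1 lc_g_rc_49_2 lc_g_rc_47_2 lc_g_rc_31_1 lc_g_rc_31_3 lc_g_rc_47_2 lc_g_rc_31_1 lc_g_rc_37_1 lc_g_Cert_tree lc_g_rc_16_1 lc_g_Cert_tree lc_g_rc_48_0 lc_g_rc_48_1 lc_g_rc_16_1) (@D3.rec (fun _ => (Cert rels S Gen.g)) lc_g_rc_16_1 lc_g_rc_48_0 lc_g_rc_48_1 lc_g_rc_31_1 lc_g_rc_47_2 lc_g_rc_50_2 lc_g_rc_7_1 lc_g_Cert_tree lc_g_rc_7_1 lc_g_Cert_tree lc_g_rc_48_0 lc_g_rc_24_3 lc_g_rc_7_1 lc_g_Cert_tree lc_g_rc_48_0 lc_g_rc_48_1 lc_g_rc_16_1 lc_g_rc_16_1 lc_g_rc_48_0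 lc_g_rc_48_1 lc_g_rc_16_1 lc_g_rc_47_2 lc_g_rc_50_2 lc_g_rc_44_3 lc_g_rc_37_1 lc_g_rc_47_2 lc_g_rc_37_1 lc_g_rc_50_2 lc_g_rc_47_2 lc_g_rc_50_2 lc_g_Cert_tree lc_g_rc_48_0 lc_g_rc_48_1 lc_g_rc_31_1 lc_g_rc_24_1 lc_g_rc_48_0 lc_g_rc_48_1 lc_g_rc_16_1 lc_g_rc_47_2 lc_g_rc_50_2 lc_g_rc_44_3 lc_g_rc_37_1 lc_g_rc_47_2 lc_g_rc_31_1 lc_g_rc_50_2 lc_g_rc_47_2 lc_g_rc_50_2 lc_g_Cert_tree lc_g_rc_16_1 lc_g_Cert_tree lc_g_rc_48_0) (@D3.rec (fun _ => (Cert rels S Gen.g)) lc_g_rc_48_1 lc_g_rc_7_1 lc_g_rc_7_1 lc_g_rc_48_0 lc_g_rc_48_1 lc_g_rc_7_1 lc_g_rc_47_2 lc_g_rc_50_2 lc_g_Cert_tree lc_g_rc_48_0 lc_g_rc_48_1 lc_g_rc_24_1 lc_g_rc_47_2 lc_g_rc_31_1 lc_g_rc_50_2 lc_g_rc_37_1 lc_g_rc_31_1 lc_g_rc_16_1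 lc_g_rc_16_1 lc_g_rc_47_2 lc_g_rc_31_1 lc_g_rc_50_2 lc_g_rc_16_1 lc_g_rc_50_2 lc_g_Cert_tree lc_g_rc_44_3 lc_g_rc_24_3 lc_g_rc_31_1 lc_g_rc_50_2 lc_g_rc_16_3 lc_g_rc_50_2 lc_g_rc_50_2 lc_g_Cert_tree lc_g_rc_48_0 lc_g_rc_48_1 lc_g_rc_16_1 lc_g_rc_47_2 lc_g_rc_31_1 lc_g_rc_50_2 lc_g_rc_31_1 lc_g_rc_16_1 lc_g_rc_16_1 lc_g_rc_47_2 lc_g_rc_31_1 lc_g_rc_50_2 lc_g_rc_16_1 lc_g_rc_50_2 lc_g_Cert_tree lc_g_rc_44_3 lc_g_rc_47_2 lc_g_rc_31_1) (@D3.rec (fun _ => (Cert rels S Gen.g)) lc_g_rc_50_2 lc_g_rc_24_1 lc_g_rc_50_2 lc_g_rc_49_2 lc_g_Cert_tree lc_g_rc_48_0 lc_g_rc_48_1 lc_g_rc_16_1 lc_g_rc_16_1 lc_g_Cert_tree lc_g_rc_48_0 lc_g_rc_48_1 lc_g_rc_7_1 lc_g_rc_47_2 lc_g_rc_31_1 lc_g_rc_50_2 lc_g_rc_7_1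 lc_g_rc_7_1 lc_g_rc_7_1 lc_g_rc_7_1 lc_g_rc_47_2 lc_g_rc_31_1 lc_g_rc_50_2 lc_g_rc_7_1 lc_g_rc_50_2 lc_g_rc_48_0 lc_g_rc_48_1 lc_g_rc_24_1 lc_g_rc_16_1 lc_g_rc_47_2 lc_g_rc_31_1 lc_g_rc_50_2 lc_g_rc_16_1 lc_g_rc_31_1 lc_g_rc_50_2 lc_g_rc_37_1 lc_g_rc_50_2 lc_g_Cert_tree lc_g_rc_37_1 lc_g_rc_44_5 lc_g_Cert_tree lc_g_rc_16_1 lc_g_rc_16_1 lc_g_rc_31_1 lc_g_rc_50_2 lc_g_rc_24_1 lc_g_rc_50_2 lc_g_rc_16_1 lc_g_rc_48_0 lc_g_rc_48_1 lc_g_rc_31_1)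
def ce_g_6 : D2 → D3 → (Cert rels S Gen.g) := @D2.rec (fun _ => D3 → (Cert rels S Gen.g)) (@D3.rec (fun _ => (Cert rels S Gen.g)) lc_g_rc_50_2 lc_g_rc_49_2 lc_g_rc_49_2 lc_g_rc_24_1 lc_g_rc_50_2 lc_g_rc_16_1 lc_g_rc_24_1 lc_g_rc_47_2 lc_g_rc_24_1 lc_g_Cert_tree lc_g_rc_7_1 lc_g_rc_48_0 lc_g_rc_49_4 lc_g_rc_24_1 lc_g_rc_49_4 lc_g_rc_48_0 lc_g_rc_48_1 lc_g_rc_49_2 lc_g_rc_16_1 lc_g_rc_48_0 lc_g_rc_48_1 lc_g_rc_31_1 lc_g_rc_47_2 lc_g_rc_50_2 lc_g_rc_16_1 lc_g_Cert_tree lc_g_rc_7_1 lc_g_Cert_tree lc_g_rc_48_0 lc_g_rc_48_1 lc_g_rc_7_1 lc_g_rc_7_1 lc_g_Cert_tree lc_g_rc_48_0 lc_g_rc_48_1 lc_g_rc_49_2 lc_g_rc_49_2 lc_g_rc_48_0 lc_g_rc_48_1 lc_g_rc_16_1 lc_g_rc_47_2 lc_g_rc_50_2 lc_g_rc_44_3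 lc_g_rc_37_1 lc_g_rc_47_2 lc_g_rc_31_1 lc_g_rc_50_2 lc_g_rc_47_2 lc_g_rc_50_2 lc_g_Cert_tree lc_g_rc_16_1) (@D3.rec (fun _ => (Cert rels S Gen.g)) lc_g_Cert_tree lc_g_rc_48_0 lc_g_rc_48_1 lc_g_rc_7_1 lc_g_rc_7_1 lc_g_rc_48_0 lc_g_rc_48_1 lc_g_rc_7_1 lc_g_rc_47_2 lc_g_rc_50_2 lc_g_Cert_tree lc_g_rc_48_0 lc_g_rc_48_1 lc_g_rc_24_1 lc_g_rc_47_2 lc_g_rc_31_1 lc_g_rc_50_2 lc_g_rc_49_2 lc_g_rc_49_2 lc_g_rc_16_1 lc_g_rc_16_1 lc_g_rc_47_2 lc_g_rc_31_1 lc_g_rc_50_2 lc_g_rc_16_1 lc_g_rc_50_2 lc_g_Cert_tree lc_g_rc_44_3 lc_g_rc_47_2 lc_g_rc_31_1 lc_g_rc_50_2 lc_g_rc_16_3 lc_g_rc_50_2 lc_g_rc_50_2 lc_g_rc_16_1 lc_g_Cert_tree lc_g_rc_7_1 lc_g_Cert_tree lc_g_rc_48_0 lc_g_rc_48_1 lc_g_rc_7_1 lc_g_rc_7_1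 lc_g_rc_7_3 lc_g_rc_48_0 lc_g_rc_48_1 lc_g_rc_31_1 lc_g_rc_24_1 lc_g_rc_48_0 lc_g_rc_48_1 lc_g_rc_16_1 lc_g_rc_47_2) (@D3.rec (fun _ => (Cert rels S Gen.g)) lc_g_rc_50_2 lc_g_rc_44_3 lc_g_rc_37_1 lc_g_rc_47_2 lc_g_rc_31_1 lc_g_rc_50_2 lc_g_rc_47_2 lc_g_rc_50_2 lc_g_Cert_tree lc_g_rc_16_1 lc_g_Cert_tree lc_g_rc_48_0 lc_g_rc_48_1 lc_g_rc_7_1 lc_g_rc_7_1 lc_g_rc_48_0 lc_g_rc_48_1 lc_g_rc_7_1 lc_g_rc_47_2 lc_g_rc_50_2 lc_g_Cert_tree lc_g_rc_48_0 lc_g_rc_48_1 lc_g_rc_24_1 lc_g_rc_47_2 lc_g_rc_31_1 lc_g_rc_50_2 lc_g_rc_37_1 lc_g_rc_31_1 lc_g_rc_16_1 lc_g_rc_16_1 lc_g_rc_47_2 lc_g_rc_31_1 lc_g_rc_50_2 lc_g_rc_16_1 lc_g_rc_50_2 lc_g_Cert_tree lc_g_rc_44_3 lc_g_rc_47_2 lc_g_rc_31_1 lc_g_rc_50_2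 lc_g_rc_24_1 lc_g_rc_50_2 lc_g_rc_50_2 lc_g_Cert_tree lc_g_rc_48_0 lc_g_rc_48_1 lc_g_rc_16_1 lc_g_Cert_tree lc_g_rc_48_0 lc_g_rc_48_1) (@D3.rec (fun _ => (Cert rels S Gen.g)) lc_g_rc_7_1 lc_g_rc_47_2 lc_g_rc_31_1 lc_g_rc_50_2 lc_g_rc_7_1 lc_g_rc_7_1 lc_g_rc_7_1 lc_g_rc_47_2 lc_g_rc_31_1 lc_g_rc_50_2 lc_g_rc_7_1 lc_g_rc_50_2 lc_g_rc_48_0 lc_g_rc_48_1 lc_g_rc_24_1 lc_g_rc_24_1 lc_g_rc_47_2 lc_g_rc_31_1 lc_g_rc_50_2 lc_g_rc_24_1 lc_g_rc_31_1 lc_g_rc_50_2 lc_g_rc_37_1 lc_g_rc_50_2 lc_g_Cert_tree lc_g_rc_37_1 lc_g_rc_44_5 lc_g_Cert_tree lc_g_rc_16_1 lc_g_rc_16_1 lc_g_rc_31_1 lc_g_rc_50_2 lc_g_rc_24_1 lc_g_rc_50_2 lc_g_rc_16_1 lc_g_rc_48_0 lc_g_rc_48_1 lc_g_rc_31_1 lc_g_rc_50_2 lc_g_rc_31_1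 lc_g_rc_50_2 lc_g_rc_24_1 lc_g_rc_50_2 lc_g_rc_16_1 lc_g_rc_24_1 lc_g_rc_47_2 lc_g_rc_44_3 lc_g_rc_16_1 lc_g_rc_48_0 lc_g_rc_48_1 lc_g_rc_7_1) (@D3.rec (fun _ => (Cert rels S Gen.g)) lc_g_rc_7_1 lc_g_rc_7_1 lc_g_rc_47_2 lc_g_rc_50_2 lc_g_rc_48_0 lc_g_rc_48_1 lc_g_rc_24_1 lc_g_rc_47_2 lc_g_rc_31_1 lc_g_rc_50_2 lc_g_rc_37_1 lc_g_rc_31_1 lc_g_rc_44_3 lc_g_rc_49_2 lc_g_rc_47_2 lc_g_rc_50_2 lc_g_rc_49_2 lc_g_rc_50_2 lc_g_rc_37_1 lc_g_rc_44_3 lc_g_rc_49_2 lc_g_rc_31_1 lc_g_rc_50_2 lc_g_rc_24_1 lc_g_rc_50_2 lc_g_rc_49_2 lc_g_Cert_tree lc_g_rc_48_0 lc_g_rc_48_1 lc_g_rc_16_1 lc_g_rc_48_0 lc_g_rc_48_1 lc_g_rc_7_1 lc_g_rc_47_2 lc_g_rc_31_1 lc_g_rc_50_2 lc_g_rc_7_1 lc_g_rc_7_1 lc_g_rc_7_1 lc_g_rc_47_2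 lc_g_rc_50_2 lc_g_rc_7_1 lc_g_rc_50_2 lc_g_rc_48_0 lc_g_rc_48_1 lc_g_rc_24_1 lc_g_rc_24_1 lc_g_rc_47_2 lc_g_rc_31_1 lc_g_rc_50_2 lc_g_rc_47_2) (@D3.rec (fun _ => (Cert rels S Gen.g)) lc_g_rc_31_1 lc_g_rc_50_2 lc_g_rc_37_1 lc_g_rc_50_2 lc_g_Cert_tree lc_g_rc_37_1 lc_g_rc_44_5 lc_g_Cert_tree lc_g_rc_16_1 lc_g_rc_47_2 lc_g_rc_31_1 lc_g_rc_50_2 lc_g_rc_24_1 lc_g_rc_50_2 lc_g_rc_49_2 lc_g_rc_48_0 lc_g_rc_48_1 lc_g_rc_31_1 lc_g_rc_50_2 lc_g_rc_49_2 lc_g_rc_49_2 lc_g_rc_24_1 lc_g_rc_50_2 lc_g_rc_16_1 lc_g_rc_24_1 lc_g_rc_47_2 lc_g_Cert_tree lc_g_rc_48_0 lc_g_rc_48_1 lc_g_rc_16_1 lc_g_rc_47_2 lc_g_rc_50_2 lc_g_rc_48_0 lc_g_rc_48_1 lc_g_rc_7_1 lc_g_rc_7_1 lc_g_rc_47_2 lc_g_rc_31_1 lc_g_rc_50_2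 lc_g_rc_7_1 lc_g_rc_31_1 lc_g_rc_50_2 lc_g_rc_37_1 lc_g_rc_50_2 lc_g_rc_7_1 lc_g_Cert_tree lc_g_rc_7_1 lc_g_rc_7_1 lc_g_rc_31_1 lc_g_rc_50_2 lc_g_rc_24_1) (@D3.rec (fun _ => (Cert rels S Gen.g)) lc_g_rc_50_2 lc_g_rc_7_1 lc_g_rc_31_1 lc_g_rc_31_1 lc_g_rc_47_2 lc_g_rc_31_1 lc_g_rc_50_2 lc_g_Cert_tree lc_g_rc_24_1 lc_g_rc_47_2 lc_g_rc_31_1 lc_g_rc_50_2 lc_g_rc_24_1 lc_g_rc_37_1 lc_g_rc_50_2 lc_g_rc_49_2 lc_g_rc_49_2 lc_g_rc_37_1 lc_g_rc_50_2 lc_g_Cert_tree lc_g_rc_50_2 lc_g_rc_47_2 lc_g_rc_48_0 lc_g_rc_50_2 lc_g_rc_47_2 lc_g_rc_48_0 lc_g_rc_48_1 lc_g_rc_31_1 lc_g_rc_16_1 lc_g_rc_49_2 lc_g_rc_49_2 lc_g_rc_24_1 lc_g_rc_50_2 lc_g_rc_16_1 lc_g_rc_24_1 lc_g_rc_47_2 lc_g_rc_47_2 lc_g_rc_31_1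 lc_g_rc_50_2 lc_g_rc_24_1 lc_g_rc_37_1 lc_g_rc_31_1 lc_g_rc_24_1 lc_g_rc_49_2 lc_g_rc_16_1 lc_g_rc_24_1 lc_g_rc_47_2 lc_g_rc_7_1 lc_g_rc_16_1 lc_g_rc_47_2 lc_g_rc_44_3) (@D3.rec (fun _ => (Cert rels S Gen.g)) lc_g_rc_49_2 lc_g_rc_24_1 lc_g_rc_37_3 lc_g_Cert_tree lc_g_rc_31_1 lc_g_rc_31_1 lc_g_rc_47_2 lc_g_rc_50_2 lc_g_Cert_tree lc_g_rc_48_0 lc_g_rc_48_1 lc_g_rc_31_1 lc_g_rc_49_2 lc_g_rc_24_1 lc_g_rc_16_1 lc_g_rc_47_2 lc_g_rc_31_1 lc_g_rc_50_2 lc_g_rc_24_1 lc_g_rc_37_1 lc_g_rc_31_1 lc_g_rc_24_1 lc_g_rc_49_2 lc_g_rc_16_1 lc_g_rc_24_1 lc_g_rc_47_2 lc_g_rc_7_1 lc_g_rc_16_1 lc_g_rc_47_2 lc_g_rc_7_1 lc_g_rc_7_1 lc_g_rc_47_2 lc_g_rc_50_2 lc_g_Cert_tree lc_g_rc_48_0 lc_g_rc_48_1 lc_g_rc_7_1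 lc_g_rc_7_1 lc_g_rc_24_1 lc_g_rc_16_1 lc_g_rc_37_1 lc_g_Cert_tree lc_g_rc_44_3 lc_g_rc_47_2 lc_g_rc_31_1 lc_g_rc_50_2 lc_g_rc_24_1 lc_g_rc_50_2 lc_g_rc_48_0 lc_g_rc_48_1 lc_g_rc_31_1) (@D3.rec (fun _ => (Cert rels S Gen.g)) lc_g_rc_49_2 lc_g_rc_24_1 lc_g_rc_16_1 lc_g_rc_47_2 lc_g_rc_31_1 lc_g_rc_50_2 lc_g_rc_24_1 lc_g_rc_37_1 lc_g_rc_31_1 lc_g_rc_24_1 lc_g_rc_49_2 lc_g_rc_16_1 lc_g_rc_24_1 lc_g_rc_47_2 lc_g_rc_7_1 lc_g_rc_16_1 lc_g_rc_47_2 lc_g_rc_31_1 lc_g_rc_50_2 lc_g_rc_24_1 lc_g_rc_37_1 lc_g_rc_50_2 lc_g_rc_16_1 lc_g_rc_47_0 lc_g_rc_24_1 lc_g_rc_50_2 lc_g_rc_44_3 lc_g_rc_16_1 lc_g_rc_24_1 lc_g_rc_47_2 lc_g_rc_7_1 lc_g_rc_16_1 lc_g_rc_47_2 lc_g_rc_7_1 lc_g_rc_16_1 lc_g_rc_31_1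 lc_g_rc_24_1 lc_g_rc_50_2 lc_g_rc_50_0 lc_g_rc_50_0 lc_g_rc_7_1 lc_g_rc_31_3 lc_g_rc_50_2 lc_g_rc_31_3 lc_g_rc_24_3 lc_g_rc_48_0 lc_g_rc_48_1 lc_g_rc_47_2 lc_g_rc_24_3 lc_g_rc_44_3 lc_g_rc_47_2) (@D3.rec (fun _ => (Cert rels S Gen.g)) lc_g_rc_44_3 lc_g_Cert_tree lc_g_rc_48_0 lc_g_rc_24_1 lc_g_rc_48_0 lc_g_rc_31_1 lc_g_rc_50_2 lc_g_rc_31_1 lc_g_rc_37_1 lc_g_rc_48_0 lc_g_rc_49_2 lc_g_rc_48_0 lc_g_rc_16_1 lc_g_rc_37_1 lc_g_rc_47_2 lc_g_rc_31_1 lc_g_rc_50_2 lc_g_rc_47_2 lc_g_rc_50_2 lc_g_Cert_tree lc_g_rc_44_3 lc_g_rc_47_2 lc_g_rc_31_1 lc_g_rc_50_2 lc_g_rc_24_1 lc_g_rc_50_2 lc_g_rc_50_2 lc_g_Cert_tree lc_g_rc_48_0 lc_g_rc_48_1 lc_g_rc_16_1 lc_g_rc_48_0 lc_g_rc_37_3 lc_g_rc_16_1 lc_g_rc_47_2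 lc_g_rc_50_2 lc_g_rc_47_2 lc_g_rc_50_2 lc_g_rc_37_3 lc_g_rc_16_1 lc_g_rc_37_3 lc_g_rc_48_0 lc_g_rc_48_1 lc_g_rc_7_1 lc_g_rc_7_1 lc_g_rc_48_0 lc_g_rc_48_1 lc_g_rc_7_1 lc_g_rc_47_2 lc_g_rc_50_2 lc_g_rc_50_0) (@D3.rec (fun _ => (Cert rels S Gen.g)) lc_g_rc_48_0 lc_g_rc_48_1 lc_g_rc_47_2 lc_g_rc_7_3 lc_g_rc_50_2 lc_g_rc_16_1 lc_g_rc_16_1 lc_g_rc_16_1 lc_g_rc_16_1 lc_g_rc_47_2 lc_g_rc_31_1 lc_g_rc_50_2 lc_g_rc_16_1 lc_g_rc_50_2 lc_g_rc_16_3 lc_g_rc_47_2 lc_g_rc_31_1 lc_g_rc_50_2 lc_g_rc_16_3 lc_g_rc_50_2 lc_g_rc_50_2 lc_g_rc_50_2 lc_g_rc_50_2 lc_g_Cert_tree lc_g_rc_48_0 lc_g_rc_48_1 lc_g_rc_16_3 lc_g_rc_47_2 lc_g_rc_50_2 lc_g_rc_16_1 lc_g_rc_31_1 lc_g_rc_47_2 lc_g_rc_24_3 lc_g_rc_50_2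 lc_g_rc_24_3 lc_g_rc_50_2 lc_g_rc_31_1 lc_g_rc_44_3 lc_g_rc_50_2 lc_g_rc_50_2 lc_g_rc_47_2 lc_g_Cert_tree lc_g_rc_48_0 lc_g_rc_48_1 lc_g_rc_16_1 lc_g_rc_37_1 lc_g_rc_48_0 lc_g_rc_48_1 lc_g_rc_49_2 lc_g_rc_47_2 lc_g_rc_31_1) (@D3.rec (fun _ => (Cert rels S Gen.g)) lc_g_rc_50_2 lc_g_rc_7_1 lc_g_rc_7_1 lc_g_rc_49_2 lc_g_rc_47_2 lc_g_rc_31_1 lc_g_rc_50_2 lc_g_rc_7_1 lc_g_rc_50_2 lc_g_rc_48_0 lc_g_rc_48_1 lc_g_rc_24_1 lc_g_rc_50_0 lc_g_rc_47_2 lc_g_rc_31_1 lc_g_rc_50_2 lc_g_rc_7_3 lc_g_rc_31_1 lc_g_rc_50_2 lc_g_rc_37_1 lc_g_rc_50_2 lc_g_Cert_tree lc_g_rc_37_1 lc_g_Cert_tree lc_g_rc_16_1 lc_g_rc_16_1 lc_g_rc_31_1 lc_g_rc_50_2 lc_g_rc_24_1 lc_g_rc_50_2 lc_g_rc_16_1 lc_g_rc_48_0 lc_g_rc_48_1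 lc_g_rc_31_1 lc_g_rc_50_2 lc_g_rc_31_1 lc_g_rc_44_5 lc_g_rc_24_1 lc_g_rc_50_2 lc_g_rc_16_1 lc_g_rc_24_1 lc_g_rc_47_2 lc_g_rc_31_1 lc_g_rc_50_2 lc_g_rc_24_1 lc_g_rc_50_2 lc_g_rc_49_2 lc_g_rc_48_0 lc_g_rc_48_1 lc_g_rc_24_1 lc_g_rc_16_1) (@D3.rec (fun _ => (Cert rels S Gen.g)) lc_g_rc_47_2 lc_g_rc_31_1 lc_g_rc_50_2 lc_g_rc_16_1 lc_g_rc_50_2 lc_g_Cert_tree lc_g_rc_16_1 lc_g_rc_16_1 lc_g_rc_31_1 lc_g_rc_50_2 lc_g_rc_24_1 lc_g_rc_50_2 lc_g_rc_16_1 lc_g_rc_48_0 lc_g_rc_37_1 lc_g_rc_31_1 lc_g_rc_50_2 lc_g_rc_49_2 lc_g_rc_49_2 lc_g_rc_24_1 lc_g_rc_50_2 lc_g_rc_16_1 lc_g_rc_24_1 lc_g_rc_47_2 lc_g_Cert_tree lc_g_rc_48_0 lc_g_rc_48_1 lc_g_rc_7_1 lc_g_rc_47_2 lc_g_rc_50_2 lc_g_rc_48_0 lc_g_rc_48_1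 lc_g_rc_7_1 lc_g_rc_7_1 lc_g_rc_47_2 lc_g_rc_31_1 lc_g_rc_50_2 lc_g_rc_7_1 lc_g_rc_31_1 lc_g_rc_50_2 lc_g_rc_37_1 lc_g_rc_50_2 lc_g_Cert_tree lc_g_rc_7_1 lc_g_rc_7_1 lc_g_rc_31_1 lc_g_rc_50_2 lc_g_rc_24_1 lc_g_rc_50_2 lc_g_rc_7_1 lc_g_rc_31_1) (@D3.rec (fun _ => (Cert rels S Gen.g)) lc_g_rc_16_1 lc_g_rc_47_2 lc_g_rc_31_1 lc_g_rc_50_2 lc_g_Cert_tree lc_g_rc_24_1 lc_g_rc_16_1 lc_g_rc_31_1 lc_g_rc_50_2 lc_g_rc_24_1 lc_g_rc_37_1 lc_g_rc_50_2 lc_g_rc_16_1 lc_g_rc_16_1 lc_g_rc_37_1 lc_g_rc_50_2 lc_g_Cert_tree lc_g_rc_50_2 lc_g_rc_48_0 lc_g_rc_50_2 lc_g_rc_48_0 lc_g_rc_48_1 lc_g_rc_31_1 lc_g_rc_16_1 lc_g_rc_16_1 lc_g_rc_16_1 lc_g_rc_24_1 lc_g_rc_50_2 lc_g_rc_16_1 lc_g_rc_24_1 lc_g_rc_47_2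 lc_g_rc_47_2 lc_g_rc_31_1 lc_g_rc_50_2 lc_g_rc_24_1 lc_g_rc_37_1 lc_g_rc_31_1 lc_g_rc_24_1 lc_g_rc_49_2 lc_g_rc_16_1 lc_g_rc_24_1 lc_g_rc_47_2 lc_g_rc_7_1 lc_g_rc_16_1 lc_g_rc_47_2 lc_g_rc_16_3 lc_g_Cert_tree lc_g_rc_48_0 lc_g_rc_48_1 lc_g_rc_7_1 lc_g_rc_48_0) (@D3.rec (fun _ => (Cert rels S Gen.g)) lc_g_rc_48_1 lc_g_rc_7_1 lc_g_rc_47_2 lc_g_rc_50_2 lc_g_rc_31_3 lc_g_rc_48_0 lc_g_rc_48_1 lc_g_rc_24_1 lc_g_rc_47_2 lc_g_rc_31_1 lc_g_rc_50_2 lc_g_rc_49_2 lc_g_rc_16_1 lc_g_rc_16_1 lc_g_rc_47_2 lc_g_rc_7_3 lc_g_rc_50_2 lc_g_rc_16_1 lc_g_rc_50_2 lc_g_rc_50_2 lc_g_rc_16_3 lc_g_rc_50_2 lc_g_rc_31_1 lc_g_rc_48_0 lc_g_rc_16_1 lc_g_rc_48_0 lc_g_rc_48_1 lc_g_rc_7_1 lc_g_rc_47_2 lc_g_rc_50_2 lc_g_rc_7_1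 lc_g_rc_7_1 lc_g_rc_47_2 lc_g_rc_31_1 lc_g_rc_50_2 lc_g_rc_7_1 lc_g_rc_50_2 lc_g_rc_48_0 lc_g_rc_47_2 lc_g_rc_24_1 lc_g_rc_24_1 lc_g_rc_47_2 lc_g_rc_31_1 lc_g_rc_50_2 lc_g_rc_24_1 lc_g_rc_31_1 lc_g_rc_50_2 lc_g_rc_7_3 lc_g_rc_50_2 lc_g_Cert_tree lc_g_rc_49_2) (@D3.rec (fun _ => (Cert rels S Gen.g)) lc_g_Cert_tree lc_g_rc_16_1 lc_g_rc_16_1 lc_g_rc_31_1 lc_g_rc_50_2 lc_g_rc_24_1 lc_g_rc_50_2 lc_g_rc_16_1 lc_g_rc_48_0 lc_g_rc_48_1 lc_g_rc_16_3 lc_g_rc_50_2 lc_g_rc_31_1 lc_g_rc_50_2 lc_g_rc_24_1 lc_g_rc_50_2 lc_g_rc_16_1 lc_g_rc_24_1 lc_g_rc_47_2 lc_g_Cert_tree lc_g_rc_48_0 lc_g_Cert_tree lc_g_rc_48_0 lc_g_rc_48_1 lc_g_rc_7_1 lc_g_rc_47_2 lc_g_rc_50_2 lc_g_rc_7_1 lc_g_rc_7_1 lc_g_rc_47_2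 lc_g_rc_31_1 lc_g_rc_50_2 lc_g_rc_7_1 lc_g_rc_50_2 lc_g_rc_48_0 lc_g_rc_48_1 lc_g_rc_24_1 lc_g_rc_24_1 lc_g_rc_47_2 lc_g_rc_31_1 lc_g_rc_50_2 lc_g_rc_24_1 lc_g_rc_31_1 lc_g_rc_50_2 lc_g_rc_37_1 lc_g_rc_50_2 lc_g_Cert_tree lc_g_rc_16_1 lc_g_rc_37_1 lc_g_rc_31_1 lc_g_rc_50_2) (@D3.rec (fun _ => (Cert rels S Gen.g)) lc_g_rc_24_1 lc_g_rc_50_2 lc_g_rc_16_1 lc_g_rc_48_0 lc_g_rc_16_3 lc_g_rc_31_1 lc_g_rc_50_2 lc_g_rc_16_3 lc_g_rc_50_2 lc_g_rc_31_1 lc_g_rc_50_2 lc_g_rc_47_2 lc_g_rc_24_1 lc_g_rc_48_0 lc_g_rc_47_0 lc_g_rc_48_0 lc_g_rc_48_1 lc_g_rc_7_1 lc_g_rc_7_1 lc_g_rc_47_2 lc_g_rc_31_1 lc_g_rc_50_2 lc_g_rc_7_1 lc_g_rc_50_2 lc_g_Cert_tree lc_g_rc_7_1 lc_g_rc_7_1 lc_g_rc_31_1 lc_g_rc_50_2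 lc_g_rc_24_1 lc_g_rc_50_2 lc_g_rc_7_1 lc_g_rc_31_1 lc_g_rc_47_0 lc_g_rc_47_2 lc_g_rc_31_1 lc_g_rc_50_2 lc_g_Cert_tree lc_g_rc_24_1 lc_g_rc_24_1 lc_g_rc_31_1 lc_g_rc_50_2 lc_g_rc_24_1 lc_g_rc_37_1 lc_g_rc_50_2 lc_g_rc_7_3 lc_g_rc_24_1 lc_g_rc_37_1 lc_g_rc_50_2 lc_g_Cert_tree lc_g_rc_50_2) (@D3.rec (fun _ => (Cert rels S Gen.g)) lc_g_rc_48_0 lc_g_rc_50_2 lc_g_rc_48_0 lc_g_rc_48_1 lc_g_rc_31_1 lc_g_rc_16_1 lc_g_rc_31_1 lc_g_rc_16_1 lc_g_rc_24_1 lc_g_rc_50_2 lc_g_rc_16_1 lc_g_rc_24_1 lc_g_rc_47_2 lc_g_rc_47_2 lc_g_rc_31_1 lc_g_rc_50_2 lc_g_rc_24_1 lc_g_rc_37_1 lc_g_rc_31_1 lc_g_rc_24_1 lc_g_rc_31_1 lc_g_rc_16_1 lc_g_rc_24_1 lc_g_rc_47_2 lc_g_rc_7_1 lc_g_rc_16_1 lc_g_rc_47_2 lc_g_rc_48_0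 lc_g_rc_16_1 lc_g_rc_7_1 lc_g_rc_7_1 lc_g_rc_47_2 lc_g_rc_31_1 lc_g_rc_50_2 lc_g_rc_7_1 lc_g_rc_50_2 lc_g_Cert_tree lc_g_rc_7_1 lc_g_rc_7_1 lc_g_rc_50_2 lc_g_rc_7_1 lc_g_rc_31_1 lc_g_rc_31_1 lc_g_rc_47_2 lc_g_rc_31_1 lc_g_rc_50_2 lc_g_Cert_tree lc_g_rc_24_1 lc_g_rc_47_2 lc_g_rc_31_1 lc_g_rc_50_2) (@D3.rec (fun _ => (Cert rels S Gen.g)) lc_g_rc_24_1 lc_g_rc_37_1 lc_g_rc_50_2 lc_g_rc_49_2 lc_g_rc_49_2 lc_g_rc_37_1 lc_g_rc_50_2 lc_g_rc_50_2 lc_g_rc_48_0 lc_g_rc_48_1 lc_g_rc_31_1 lc_g_rc_16_1 lc_g_rc_49_2 lc_g_rc_47_2 lc_g_rc_24_1 lc_g_rc_50_2 lc_g_rc_16_1 lc_g_rc_24_1 lc_g_rc_47_2 lc_g_rc_31_1 lc_g_rc_50_2 lc_g_rc_24_1 lc_g_rc_37_1 lc_g_rc_31_1 lc_g_rc_24_1 lc_g_rc_49_2 lc_g_rc_16_1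 lc_g_rc_24_1 lc_g_rc_47_2 lc_g_rc_7_1 lc_g_rc_16_1 lc_g_rc_47_2 lc_g_rc_48_0 lc_g_rc_48_1 lc_g_rc_16_1 lc_g_rc_16_1 lc_g_rc_7_1 lc_g_rc_7_1 lc_g_rc_47_2 lc_g_rc_31_1 lc_g_rc_50_2 lc_g_Cert_tree lc_g_rc_7_1 lc_g_rc_7_1 lc_g_rc_31_1 lc_g_rc_50_2 lc_g_rc_24_1 lc_g_rc_50_2 lc_g_rc_7_1 lc_g_rc_48_0 lc_g_rc_48_1) (@D3.rec (fun _ => (Cert rels S Gen.g)) lc_g_rc_7_1 lc_g_rc_7_1 lc_g_rc_7_1 lc_g_rc_7_1 lc_g_rc_24_1 lc_g_rc_50_2 lc_g_rc_16_1 lc_g_rc_24_1 lc_g_rc_37_1 lc_g_Cert_tree lc_g_rc_44_3 lc_g_rc_47_2 lc_g_rc_31_1 lc_g_rc_50_2 lc_g_rc_24_1 lc_g_rc_37_1 lc_g_rc_50_2 lc_g_rc_48_0 lc_g_rc_48_1 lc_g_rc_31_1 lc_g_rc_24_1 lc_g_rc_49_2 lc_g_rc_49_2 lc_g_rc_24_1 lc_g_rc_37_1 lc_g_rc_50_2 lc_g_rc_16_1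 lc_g_rc_24_1 lc_g_rc_24_1 lc_g_Cert_tree lc_g_rc_50_2 lc_g_rc_47_2 lc_g_rc_49_2 lc_g_rc_49_2 lc_g_Cert_tree lc_g_rc_50_2 lc_g_rc_48_0 lc_g_rc_50_2 lc_g_rc_49_2 lc_g_rc_50_2 lc_g_rc_47_2 lc_g_rc_31_1 lc_g_rc_50_2 lc_g_rc_24_1 lc_g_rc_37_1 lc_g_rc_31_1 lc_g_rc_24_1 lc_g_rc_37_1 lc_g_rc_16_1 lc_g_rc_24_1 lc_g_rc_47_2) (@D3.rec (fun _ => (Cert rels S Gen.g)) lc_g_rc_7_1 lc_g_rc_16_1 lc_g_rc_47_2 lc_g_rc_31_1 lc_g_rc_50_2 lc_g_rc_49_4 lc_g_rc_44_3 lc_g_rc_50_2 lc_g_rc_16_1 lc_g_rc_24_1 lc_g_rc_24_1 lc_g_rc_37_1 lc_g_rc_44_3 lc_g_rc_16_1 lc_g_rc_24_1 lc_g_rc_47_2 lc_g_rc_7_1 lc_g_rc_16_1 lc_g_rc_47_2 lc_g_rc_7_1 lc_g_rc_16_1 lc_g_rc_31_1 lc_g_rc_48_0 lc_g_rc_37_1 lc_g_Cert_tree lc_g_rc_44_3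 lc_g_rc_47_2 lc_g_rc_50_2 lc_g_rc_48_0 lc_g_rc_47_2 lc_g_rc_31_1 lc_g_rc_24_1 lc_g_rc_37_1 lc_g_rc_24_1 lc_g_rc_16_1 lc_g_rc_7_1 lc_g_rc_31_1 lc_g_rc_50_2 lc_g_rc_24_1 lc_g_rc_37_1 lc_g_rc_50_2 lc_g_rc_16_1 lc_g_rc_24_1 lc_g_rc_44_3 lc_g_rc_50_2 lc_g_rc_44_3 lc_g_rc_16_1 lc_g_rc_24_1 lc_g_rc_31_1 lc_g_rc_7_1 lc_g_rc_16_1) (@D3.rec (fun _ => (Cert rels S Gen.g)) lc_g_rc_47_2 lc_g_rc_7_1 lc_g_rc_16_1 lc_g_rc_31_1 lc_g_rc_7_1 lc_g_rc_31_3 lc_g_rc_7_1 lc_g_rc_7_1 lc_g_rc_50_2 lc_g_rc_48_0 lc_g_rc_47_2 lc_g_rc_31_1 lc_g_rc_24_1 lc_g_rc_7_1 lc_g_rc_24_1 lc_g_rc_16_1 lc_g_rc_7_1 lc_g_rc_7_1 lc_g_rc_47_2 lc_g_rc_48_0 lc_g_rc_48_1 lc_g_rc_44_3 lc_g_rc_50_2 lc_g_rc_31_1 lc_g_rc_50_2 lc_g_rc_24_1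 lc_g_rc_50_2 lc_g_rc_16_1 lc_g_rc_24_1 lc_g_rc_47_2 lc_g_rc_31_1 lc_g_rc_24_1 lc_g_rc_37_1 lc_g_rc_24_1 lc_g_rc_16_1 lc_g_rc_7_1 lc_g_rc_31_1 lc_g_rc_50_2 lc_g_rc_24_1 lc_g_rc_24_3 lc_g_rc_24_3 lc_g_rc_16_1 lc_g_rc_24_1 lc_g_rc_24_1 lc_g_rc_37_1 lc_g_rc_44_3 lc_g_rc_16_1 lc_g_rc_24_1 lc_g_rc_47_2 lc_g_rc_7_1 lc_g_rc_16_1) (@D3.rec (fun _ => (Cert rels S Gen.g)) lc_g_rc_47_2 lc_g_rc_7_1 lc_g_rc_16_1 lc_g_rc_31_1 lc_g_rc_7_1 lc_g_rc_7_1 lc_g_rc_7_1 lc_g_rc_16_1 lc_g_rc_31_1 lc_g_rc_7_1 lc_g_rc_31_1 lc_g_rc_16_3 lc_g_rc_50_2 lc_g_rc_50_2 lc_g_rc_31_1 lc_g_rc_50_2 lc_g_rc_7_3 lc_g_rc_50_2 lc_g_rc_7_1 lc_g_rc_50_2 lc_g_rc_16_3 lc_g_rc_31_3 lc_g_rc_50_2 lc_g_rc_31_1 lc_g_rc_24_1 lc_g_rc_37_1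 lc_g_rc_50_2 lc_g_Cert_tree lc_g_rc_50_2 lc_g_rc_48_0 lc_g_rc_50_2 lc_g_rc_31_1 lc_g_rc_16_1 lc_g_rc_31_1 lc_g_rc_16_1 lc_g_rc_24_1 lc_g_rc_50_2 lc_g_rc_16_1 lc_g_rc_24_1 lc_g_rc_47_2 lc_g_rc_16_1 lc_g_rc_16_1 lc_g_rc_24_1 lc_g_rc_37_1 lc_g_rc_31_1 lc_g_rc_24_1 lc_g_rc_31_1 lc_g_rc_16_1 lc_g_rc_24_1 lc_g_rc_47_2 lc_g_rc_7_1) (@D3.rec (fun _ => (Cert rels S Gen.g)) lc_g_rc_16_1 lc_g_rc_47_2 lc_g_rc_50_2 lc_g_rc_16_1 lc_g_rc_50_2 lc_g_rc_50_2 lc_g_rc_7_1 lc_g_rc_7_1 lc_g_rc_49_2 lc_g_rc_50_2 lc_g_rc_24_1 lc_g_rc_50_2 lc_g_rc_49_2 lc_g_rc_24_1 lc_g_rc_47_2 lc_g_rc_7_1 lc_g_rc_7_1 lc_g_rc_50_2 lc_g_rc_24_1 lc_g_rc_50_2 lc_g_rc_24_1 lc_g_rc_37_1 lc_g_rc_50_2 lc_g_rc_16_1 lc_g_rc_24_1 lc_g_rc_24_1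 lc_g_Cert_tree lc_g_rc_50_2 lc_g_rc_47_2 lc_g_rc_49_2 lc_g_rc_31_1 lc_g_Cert_tree lc_g_rc_50_2 lc_g_rc_48_0 lc_g_rc_50_2 lc_g_rc_49_2 lc_g_rc_50_2 lc_g_rc_44_1 lc_g_rc_50_2 lc_g_rc_24_1 lc_g_rc_37_1 lc_g_rc_31_1 lc_g_rc_49_2 lc_g_rc_31_1 lc_g_rc_16_1 lc_g_rc_24_1 lc_g_rc_47_2 lc_g_rc_7_1 lc_g_rc_16_1 lc_g_rc_47_2 lc_g_rc_50_2) (@D3.rec (fun _ => (Cert rels S Gen.g)) lc_g_rc_24_1 lc_g_rc_16_3 lc_g_rc_16_1 lc_g_rc_24_1 lc_g_rc_24_1 lc_g_rc_37_1 lc_g_rc_44_3 lc_g_rc_16_1 lc_g_rc_24_1 lc_g_rc_47_2 lc_g_rc_7_1 lc_g_rc_16_1 lc_g_rc_47_2 lc_g_rc_7_1 lc_g_rc_16_1 lc_g_rc_31_1 lc_g_rc_7_1 lc_g_rc_7_1 lc_g_rc_7_1 lc_g_rc_7_1 lc_g_rc_24_1 lc_g_rc_50_2 lc_g_rc_16_1 lc_g_rc_24_1 lc_g_rc_47_2 lc_g_rc_24_3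 lc_g_rc_31_3 lc_g_rc_24_1 lc_g_rc_7_1 lc_g_rc_7_1 lc_g_rc_24_1 lc_g_rc_7_1 lc_g_rc_16_1 lc_g_rc_24_1 lc_g_rc_47_2 lc_g_rc_7_1 lc_g_rc_16_1 lc_g_rc_47_2 lc_g_rc_7_1 lc_g_rc_31_3 lc_g_rc_24_1 lc_g_rc_37_1 lc_g_rc_31_1 lc_g_rc_24_1 lc_g_rc_37_1 lc_g_rc_31_1 lc_g_rc_16_1 lc_g_rc_24_1 lc_g_rc_24_1 lc_g_Cert_tree lc_g_rc_50_2) (@D3.rec (fun _ => (Cert rels S Gen.g)) lc_g_rc_47_2 lc_g_rc_7_1 lc_g_rc_16_1 lc_g_rc_16_1 lc_g_Cert_tree lc_g_rc_24_1 lc_g_rc_47_2 lc_g_rc_48_0 lc_g_rc_50_2 lc_g_rc_47_2 lc_g_Cert_tree lc_g_rc_37_1 lc_g_rc_48_0 lc_g_rc_50_2 lc_g_rc_49_2 lc_g_rc_50_2 lc_g_rc_49_2 lc_g_rc_50_2 lc_g_rc_50_0 lc_g_rc_24_3 lc_g_rc_16_1 lc_g_rc_24_1 lc_g_rc_24_1 lc_g_rc_37_1 lc_g_rc_44_3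 lc_g_rc_16_1 lc_g_rc_24_1 lc_g_rc_47_2 lc_g_rc_7_1 lc_g_rc_16_1 lc_g_rc_47_2 lc_g_rc_7_1 lc_g_rc_47_2 lc_g_rc_31_1 lc_g_rc_7_1 lc_g_rc_7_1 lc_g_rc_7_1 lc_g_rc_24_3 lc_g_rc_50_2 lc_g_rc_16_1 lc_g_rc_24_1 lc_g_rc_24_1 lc_g_rc_16_1 lc_g_rc_24_1 lc_g_rc_7_1 lc_g_rc_16_1 lc_g_rc_47_2 lc_g_rc_50_2 lc_g_rc_16_1 lc_g_rc_31_1 lc_g_rc_31_1) (@D3.rec (fun _ => (Cert rels S Gen.g)) lc_g_rc_31_1 lc_g_rc_50_0 lc_g_rc_7_3 lc_g_rc_37_1 lc_g_rc_24_1 lc_g_Cert_tree lc_g_rc_49_2 lc_g_rc_16_1 lc_g_rc_7_3 lc_g_Cert_tree lc_g_rc_48_0 lc_g_rc_31_1 lc_g_rc_16_1 lc_g_rc_47_2 lc_g_rc_50_2 lc_g_rc_7_3 lc_g_rc_48_0 lc_g_rc_48_1 lc_g_rc_47_2 lc_g_rc_31_1 lc_g_rc_50_2 lc_g_rc_31_1 lc_g_rc_37_1 lc_g_rc_44_3 lc_g_rc_16_1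 lc_g_rc_31_1 lc_g_rc_50_2 lc_g_rc_7_3 lc_g_rc_37_1 lc_g_rc_50_2 lc_g_rc_37_1 lc_g_rc_16_1 lc_g_Cert_tree lc_g_rc_48_0 lc_g_rc_16_1 lc_g_rc_31_1 lc_g_rc_16_1 lc_g_rc_7_3 lc_g_Cert_tree lc_g_rc_48_0 lc_g_rc_31_1 lc_g_rc_47_2 lc_g_rc_7_1 lc_g_rc_50_2 lc_g_rc_47_2 lc_g_rc_50_2 lc_g_rc_50_2 lc_g_rc_16_1 lc_g_rc_7_3 lc_g_Cert_tree lc_g_Cert_tree)
def ce_g_7 : D2 → D3 → (Cert rels S Gen.g) := @D2.rec (fun _ => D3 → (Cert rels S Gen.g)) (@D3.rec (fun _ => (Cert rels S Gen.g)) lc_g_rc_48_0 lc_g_rc_47_2 lc_g_rc_31_1 lc_g_rc_7_1 lc_g_rc_47_2 lc_g_rc_50_2 lc_g_rc_37_1 lc_g_rc_44_3 lc_g_rc_47_2 lc_g_rc_31_1 lc_g_rc_50_2 lc_g_rc_24_1 lc_g_rc_50_2 lc_g_rc_24_1 lc_g_rc_37_1 lc_g_rc_44_3 lc_g_rc_7_1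 lc_g_rc_50_2 lc_g_rc_44_5 lc_g_rc_50_2 lc_g_rc_50_2 lc_g_rc_37_1 lc_g_rc_50_2 lc_g_Cert_tree lc_g_rc_50_2 lc_g_Cert_tree lc_g_rc_48_0 lc_g_Cert_tree lc_g_rc_48_0 lc_g_rc_49_2 lc_g_rc_37_1 lc_g_rc_44_3 lc_g_rc_7_1 lc_g_rc_50_2 lc_g_rc_7_1 lc_g_rc_44_5 lc_g_rc_7_1 lc_g_rc_44_3 lc_g_rc_50_2 lc_g_rc_31_1 lc_g_rc_50_2 lc_g_rc_24_1 lc_g_rc_50_2 lc_g_rc_37_3 lc_g_rc_24_1 lc_g_rc_47_2 lc_g_rc_50_2 lc_g_rc_16_1 lc_g_rc_16_1 lc_g_rc_50_2 lc_g_rc_44_5) (@D3.rec (fun _ => (Cert rels S Gen.g)) lc_g_rc_37_1 lc_g_rc_50_2 lc_g_rc_7_1 lc_g_rc_7_1 lc_g_rc_31_1 lc_g_rc_50_2 lc_g_rc_7_3 lc_g_rc_24_1 lc_g_rc_50_2 lc_g_rc_37_1 lc_g_Cert_tree lc_g_rc_48_0 lc_g_rc_37_1 lc_g_rc_50_2 lc_g_rc_47_2 lc_g_Cert_tree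 lc_g_rc_50_2 lc_g_Cert_tree lc_g_rc_48_0 lc_g_Cert_tree lc_g_rc_48_0 lc_g_rc_50_2 lc_g_rc_48_0 lc_g_rc_49_2 lc_g_rc_37_1 lc_g_rc_50_2 lc_g_rc_24_1 lc_g_rc_48_0 lc_g_rc_7_1 lc_g_rc_24_1 lc_g_rc_24_1 lc_g_rc_50_2 lc_g_rc_50_2 lc_g_rc_50_2 lc_g_rc_7_1 lc_g_rc_7_1 lc_g_rc_50_2 lc_g_rc_49_2 lc_g_rc_50_2 lc_g_rc_37_1 lc_g_rc_31_1 lc_g_rc_24_3 lc_g_rc_50_2 lc_g_rc_50_2 lc_g_rc_50_2 lc_g_rc_47_2 lc_g_rc_50_2 lc_g_rc_16_1 lc_g_rc_16_1 lc_g_rc_44_1 lc_g_rc_50_2) (@D3.rec (fun _ => (Cert rels S Gen.g)) lc_g_rc_7_1 lc_g_rc_7_1 lc_g_rc_7_3 lc_g_rc_31_3 lc_g_rc_50_2 lc_g_rc_31_3 lc_g_rc_31_1 lc_g_rc_50_2 lc_g_rc_37_1 lc_g_rc_50_2 lc_g_Cert_tree lc_g_rc_37_1 lc_g_rc_47_2 lc_g_rc_31_1 lc_g_rc_50_2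 lc_g_rc_24_1 lc_g_rc_50_2 lc_g_rc_16_1 lc_g_rc_44_3 lc_g_rc_44_3 lc_g_rc_49_2 lc_g_rc_49_2 lc_g_rc_24_1 lc_g_rc_50_2 lc_g_rc_16_1 lc_g_rc_24_1 lc_g_rc_47_2 lc_g_rc_24_1 lc_g_rc_50_2 lc_g_rc_16_1 lc_g_rc_7_1 lc_g_rc_24_3 lc_g_Cert_tree lc_g_rc_48_0 lc_g_rc_24_1 lc_g_rc_48_0 lc_g_rc_44_3 lc_g_rc_24_3 lc_g_Cert_tree lc_g_rc_48_0 lc_g_rc_48_0 lc_g_rc_31_1 lc_g_Cert_tree lc_g_rc_48_0 lc_g_rc_48_0 lc_g_rc_48_1 lc_g_rc_50_2 lc_g_rc_47_2 lc_g_rc_31_1 lc_g_rc_37_1 lc_g_rc_47_2) (@D3.rec (fun _ => (Cert rels S Gen.g)) lc_g_rc_31_1 lc_g_rc_47_2 lc_g_rc_48_0 lc_g_Cert_tree lc_g_rc_48_0 lc_g_rc_24_1 lc_g_rc_16_1 lc_g_rc_31_3 lc_g_rc_47_2 lc_g_rc_31_1 lc_g_rc_44_3 lc_g_rc_44_3 lc_g_Cert_tree lc_g_rc_48_0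 lc_g_rc_48_1 lc_g_rc_16_1 lc_g_rc_16_1 lc_g_rc_48_0 lc_g_rc_48_1 lc_g_rc_16_1 lc_g_rc_47_2 lc_g_rc_50_2 lc_g_rc_44_3 lc_g_rc_37_1 lc_g_rc_47_2 lc_g_rc_16_3 lc_g_rc_50_2 lc_g_rc_47_2 lc_g_rc_50_2 lc_g_Cert_tree lc_g_rc_7_1 lc_g_Cert_tree lc_g_rc_48_0 lc_g_rc_16_3 lc_g_rc_7_1 lc_g_rc_7_1 lc_g_rc_48_0 lc_g_rc_31_1 lc_g_rc_50_2 lc_g_Cert_tree lc_g_rc_48_0 lc_g_rc_48_1 lc_g_rc_24_1 lc_g_rc_47_2 lc_g_rc_7_1 lc_g_rc_50_2 lc_g_rc_16_1 lc_g_rc_16_1 lc_g_rc_16_1 lc_g_rc_16_1 lc_g_rc_47_2) (@D3.rec (fun _ => (Cert rels S Gen.g)) lc_g_rc_37_1 lc_g_rc_50_2 lc_g_rc_50_2 lc_g_rc_50_2 lc_g_rc_47_0 lc_g_rc_50_2 lc_g_Cert_tree lc_g_rc_48_0 lc_g_rc_48_1 lc_g_rc_24_1 lc_g_rc_47_2 lc_g_rc_31_1 lc_g_rc_50_2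 lc_g_rc_31_1 lc_g_rc_16_1 lc_g_rc_16_1 lc_g_rc_47_2 lc_g_rc_31_1 lc_g_rc_50_2 lc_g_rc_16_1 lc_g_rc_50_2 lc_g_Cert_tree lc_g_rc_44_3 lc_g_rc_47_2 lc_g_rc_31_1 lc_g_rc_50_2 lc_g_rc_24_1 lc_g_rc_50_2 lc_g_rc_50_2 lc_g_Cert_tree lc_g_rc_48_0 lc_g_rc_48_1 lc_g_rc_16_1 lc_g_rc_16_1 lc_g_Cert_tree lc_g_rc_48_0 lc_g_rc_48_1 lc_g_rc_7_1 lc_g_rc_47_2 lc_g_rc_49_2 lc_g_rc_50_2 lc_g_rc_7_1 lc_g_rc_7_1 lc_g_rc_7_1 lc_g_rc_7_1 lc_g_rc_47_2 lc_g_rc_49_2 lc_g_rc_50_2 lc_g_rc_50_2 lc_g_rc_48_0 lc_g_rc_48_1) (@D3.rec (fun _ => (Cert rels S Gen.g)) lc_g_rc_24_1 lc_g_rc_24_1 lc_g_rc_47_2 lc_g_rc_31_1 lc_g_rc_50_2 lc_g_rc_16_3 lc_g_rc_31_1 lc_g_rc_50_2 lc_g_rc_37_1 lc_g_rc_50_2 lc_g_Cert_tree lc_g_rc_37_1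 lc_g_rc_44_5 lc_g_Cert_tree lc_g_rc_16_1 lc_g_rc_24_3 lc_g_rc_31_1 lc_g_rc_50_2 lc_g_rc_24_1 lc_g_rc_50_2 lc_g_rc_50_2 lc_g_rc_48_0 lc_g_rc_44_3 lc_g_rc_31_1 lc_g_rc_50_2 lc_g_rc_50_2 lc_g_rc_50_2 lc_g_rc_37_1 lc_g_rc_16_3 lc_g_rc_44_5 lc_g_rc_48_0 lc_g_rc_48_1 lc_g_rc_24_1 lc_g_rc_16_1 lc_g_rc_47_2 lc_g_rc_31_1 lc_g_rc_50_2 lc_g_rc_16_1 lc_g_rc_31_1 lc_g_rc_50_2 lc_g_rc_37_1 lc_g_rc_50_2 lc_g_rc_44_5 lc_g_Cert_tree lc_g_rc_16_1 lc_g_rc_16_1 lc_g_rc_31_1 lc_g_rc_50_2 lc_g_rc_24_1 lc_g_rc_50_2 lc_g_rc_16_1) (@D3.rec (fun _ => (Cert rels S Gen.g)) lc_g_rc_48_0 lc_g_rc_48_1 lc_g_rc_31_1 lc_g_rc_50_2 lc_g_rc_49_2 lc_g_rc_49_2 lc_g_rc_24_1 lc_g_rc_50_2 lc_g_rc_16_1 lc_g_rc_24_1 lc_g_rc_47_2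 lc_g_Cert_tree lc_g_rc_48_0 lc_g_rc_48_1 lc_g_rc_7_1 lc_g_rc_47_2 lc_g_rc_31_1 lc_g_rc_50_2 lc_g_rc_24_1 lc_g_rc_16_1 lc_g_rc_48_0 lc_g_rc_48_1 lc_g_rc_7_1 lc_g_rc_7_1 lc_g_rc_47_2 lc_g_rc_31_1 lc_g_rc_50_2 lc_g_rc_7_1 lc_g_rc_31_1 lc_g_rc_50_2 lc_g_rc_37_1 lc_g_rc_50_2 lc_g_Cert_tree lc_g_rc_7_1 lc_g_rc_7_1 lc_g_Cert_tree lc_g_rc_7_1 lc_g_rc_7_1 lc_g_rc_31_1 lc_g_rc_50_2 lc_g_rc_24_1 lc_g_rc_50_2 lc_g_rc_7_1 lc_g_rc_31_1 lc_g_rc_16_1 lc_g_rc_47_2 lc_g_rc_31_1 lc_g_rc_50_2 lc_g_Cert_tree lc_g_rc_24_1 lc_g_rc_16_1) (@D3.rec (fun _ => (Cert rels S Gen.g)) lc_g_rc_31_1 lc_g_rc_50_2 lc_g_rc_24_1 lc_g_rc_37_1 lc_g_rc_50_2 lc_g_rc_16_1 lc_g_rc_16_1 lc_g_rc_37_1 lc_g_rc_50_2 lc_g_Cert_tree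 lc_g_rc_50_2 lc_g_rc_47_2 lc_g_rc_48_0 lc_g_rc_50_2 lc_g_rc_47_2 lc_g_rc_48_0 lc_g_rc_48_1 lc_g_rc_31_1 lc_g_rc_16_1 lc_g_rc_16_1 lc_g_rc_16_1 lc_g_rc_24_1 lc_g_rc_50_2 lc_g_rc_16_1 lc_g_rc_24_1 lc_g_rc_47_2 lc_g_rc_47_2 lc_g_rc_37_1 lc_g_rc_50_2 lc_g_rc_24_1 lc_g_rc_37_1 lc_g_rc_31_1 lc_g_rc_24_1 lc_g_rc_49_2 lc_g_rc_16_1 lc_g_rc_24_1 lc_g_rc_47_2 lc_g_rc_7_1 lc_g_rc_16_1 lc_g_rc_47_2 lc_g_rc_16_1 lc_g_rc_49_0 lc_g_rc_24_1 lc_g_rc_49_0 lc_g_rc_48_0 lc_g_rc_48_1 lc_g_rc_7_1 lc_g_rc_7_1 lc_g_rc_49_4 lc_g_rc_24_1 lc_g_rc_24_1) (@D3.rec (fun _ => (Cert rels S Gen.g)) lc_g_rc_49_4 lc_g_rc_16_1 lc_g_rc_47_2 lc_g_rc_50_2 lc_g_rc_37_1 lc_g_rc_47_2 lc_g_rc_31_1 lc_g_rc_50_2 lc_g_rc_47_2 lc_g_rc_50_2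 lc_g_Cert_tree lc_g_rc_16_1 lc_g_Cert_tree lc_g_rc_48_0 lc_g_rc_48_1 lc_g_rc_7_1 lc_g_rc_7_1 lc_g_rc_48_0 lc_g_rc_48_1 lc_g_rc_7_1 lc_g_rc_47_2 lc_g_rc_50_2 lc_g_Cert_tree lc_g_rc_48_0 lc_g_rc_48_1 lc_g_rc_24_1 lc_g_rc_47_2 lc_g_rc_31_1 lc_g_rc_50_2 lc_g_rc_49_2 lc_g_rc_49_2 lc_g_rc_16_1 lc_g_rc_16_1 lc_g_rc_47_2 lc_g_rc_31_1 lc_g_rc_50_2 lc_g_rc_16_1 lc_g_rc_50_2 lc_g_Cert_tree lc_g_rc_16_3 lc_g_rc_47_2 lc_g_rc_31_1 lc_g_rc_50_2 lc_g_rc_16_3 lc_g_rc_50_2 lc_g_rc_50_2 lc_g_Cert_tree lc_g_rc_48_0 lc_g_rc_48_1 lc_g_rc_16_1 lc_g_Cert_tree) (@D3.rec (fun _ => (Cert rels S Gen.g)) lc_g_rc_48_0 lc_g_rc_48_1 lc_g_rc_7_1 lc_g_rc_47_2 lc_g_rc_31_1 lc_g_rc_50_2 lc_g_rc_7_1 lc_g_rc_7_1 lc_g_rc_7_1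 lc_g_rc_47_2 lc_g_rc_31_1 lc_g_rc_50_2 lc_g_rc_7_1 lc_g_rc_50_2 lc_g_rc_48_0 lc_g_rc_48_1 lc_g_rc_24_1 lc_g_rc_24_1 lc_g_rc_47_2 lc_g_rc_31_1 lc_g_rc_50_2 lc_g_rc_24_1 lc_g_rc_31_1 lc_g_rc_50_2 lc_g_rc_37_1 lc_g_rc_50_2 lc_g_Cert_tree lc_g_rc_49_2 lc_g_rc_44_5 lc_g_Cert_tree lc_g_rc_16_1 lc_g_rc_16_1 lc_g_rc_31_1 lc_g_rc_50_2 lc_g_rc_24_1 lc_g_rc_50_2 lc_g_rc_16_1 lc_g_rc_48_0 lc_g_rc_50_2 lc_g_rc_50_2 lc_g_rc_50_2 lc_g_rc_7_3 lc_g_rc_16_3 lc_g_rc_47_2 lc_g_rc_16_1 lc_g_rc_48_0 lc_g_rc_48_1 lc_g_rc_7_1 lc_g_rc_7_1 lc_g_rc_48_0 lc_g_rc_48_1) (@D3.rec (fun _ => (Cert rels S Gen.g)) lc_g_rc_7_1 lc_g_rc_47_2 lc_g_rc_50_2 lc_g_rc_7_3 lc_g_rc_47_2 lc_g_rc_31_1 lc_g_rc_50_2 lc_g_rc_37_1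 lc_g_rc_31_1 lc_g_rc_44_3 lc_g_rc_47_2 lc_g_rc_31_1 lc_g_rc_50_2 lc_g_rc_16_1 lc_g_rc_50_2 lc_g_rc_44_1 lc_g_rc_44_3 lc_g_rc_47_2 lc_g_rc_31_1 lc_g_rc_50_2 lc_g_rc_24_1 lc_g_rc_50_2 lc_g_rc_50_2 lc_g_Cert_tree lc_g_rc_48_0 lc_g_rc_48_1 lc_g_rc_16_1 lc_g_Cert_tree lc_g_rc_48_0 lc_g_rc_48_1 lc_g_rc_7_1 lc_g_rc_47_2 lc_g_rc_31_1 lc_g_rc_50_2 lc_g_rc_7_1 lc_g_rc_7_1 lc_g_rc_7_1 lc_g_rc_47_2 lc_g_rc_31_1 lc_g_rc_50_2 lc_g_rc_7_1 lc_g_rc_50_2 lc_g_rc_48_0 lc_g_rc_48_1 lc_g_rc_24_1 lc_g_rc_24_1 lc_g_rc_47_2 lc_g_rc_31_1 lc_g_rc_50_2 lc_g_rc_24_1 lc_g_rc_31_1) (@D3.rec (fun _ => (Cert rels S Gen.g)) lc_g_rc_50_2 lc_g_rc_37_1 lc_g_rc_50_2 lc_g_Cert_tree lc_g_rc_37_1 lc_g_rc_44_5 lc_g_Cert_tree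 lc_g_rc_16_1 lc_g_rc_16_1 lc_g_rc_31_1 lc_g_rc_50_2 lc_g_rc_24_1 lc_g_rc_50_2 lc_g_rc_16_1 lc_g_rc_48_0 lc_g_rc_48_1 lc_g_rc_31_1 lc_g_rc_50_2 lc_g_rc_31_1 lc_g_rc_50_2 lc_g_rc_24_1 lc_g_rc_50_2 lc_g_rc_16_1 lc_g_rc_24_1 lc_g_rc_47_2 lc_g_Cert_tree lc_g_rc_48_0 lc_g_rc_48_1 lc_g_rc_16_1 lc_g_rc_47_2 lc_g_rc_50_2 lc_g_rc_48_0 lc_g_rc_48_1 lc_g_rc_7_1 lc_g_rc_7_1 lc_g_rc_47_2 lc_g_rc_31_1 lc_g_rc_50_2 lc_g_rc_7_1 lc_g_rc_31_1 lc_g_rc_50_2 lc_g_rc_37_1 lc_g_rc_50_2 lc_g_rc_7_1 lc_g_Cert_tree lc_g_rc_7_1 lc_g_rc_7_1 lc_g_rc_31_1 lc_g_rc_50_2 lc_g_rc_24_1 lc_g_rc_50_2) (@D3.rec (fun _ => (Cert rels S Gen.g)) lc_g_rc_7_1 lc_g_rc_31_1 lc_g_rc_31_1 lc_g_rc_47_2 lc_g_rc_31_1 lc_g_rc_50_2 lc_g_Cert_tree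 lc_g_rc_24_1 lc_g_rc_24_1 lc_g_rc_31_1 lc_g_rc_50_2 lc_g_rc_24_1 lc_g_rc_37_1 lc_g_rc_50_2 lc_g_rc_49_2 lc_g_rc_24_1 lc_g_rc_37_1 lc_g_rc_50_2 lc_g_Cert_tree lc_g_rc_50_2 lc_g_rc_47_2 lc_g_rc_48_0 lc_g_rc_50_2 lc_g_rc_47_2 lc_g_rc_48_0 lc_g_rc_48_1 lc_g_rc_31_1 lc_g_rc_16_1 lc_g_rc_31_1 lc_g_rc_16_1 lc_g_rc_24_1 lc_g_rc_50_2 lc_g_rc_16_1 lc_g_rc_24_1 lc_g_rc_47_2 lc_g_rc_47_2 lc_g_rc_44_3 lc_g_rc_50_2 lc_g_rc_24_1 lc_g_rc_37_1 lc_g_rc_31_1 lc_g_rc_50_2 lc_g_rc_16_1 lc_g_rc_24_1 lc_g_rc_47_2 lc_g_rc_7_1 lc_g_rc_16_1 lc_g_rc_47_2 lc_g_rc_44_3 lc_g_rc_16_1 lc_g_rc_16_1) (@D3.rec (fun _ => (Cert rels S Gen.g)) lc_g_rc_47_2 lc_g_rc_31_1 lc_g_rc_50_2 lc_g_rc_7_1 lc_g_rc_7_1 lc_g_rc_50_2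 lc_g_rc_47_2 lc_g_rc_7_3 lc_g_rc_50_2 lc_g_rc_24_1 lc_g_rc_31_1 lc_g_rc_50_2 lc_g_rc_37_1 lc_g_rc_50_2 lc_g_Cert_tree lc_g_rc_37_1 lc_g_rc_44_5 lc_g_rc_44_3 lc_g_rc_49_2 lc_g_rc_50_2 lc_g_rc_49_2 lc_g_rc_37_1 lc_g_rc_44_3 lc_g_rc_44_3 lc_g_rc_49_2 lc_g_rc_49_2 lc_g_rc_24_1 lc_g_rc_50_2 lc_g_rc_37_3 lc_g_rc_24_1 lc_g_rc_48_0 lc_g_rc_48_1 lc_g_rc_16_1 lc_g_rc_47_2 lc_g_rc_50_2 lc_g_rc_7_1 lc_g_rc_7_1 lc_g_rc_47_2 lc_g_rc_31_1 lc_g_rc_50_2 lc_g_rc_7_1 lc_g_rc_31_1 lc_g_rc_50_2 lc_g_rc_37_1 lc_g_rc_50_2 lc_g_rc_7_1 lc_g_Cert_tree lc_g_rc_7_1 lc_g_rc_7_1 lc_g_rc_50_2 lc_g_rc_7_1) (@D3.rec (fun _ => (Cert rels S Gen.g)) lc_g_rc_31_1 lc_g_rc_31_1 lc_g_rc_47_2 lc_g_rc_31_1 lc_g_rc_50_2 lc_g_Cert_tree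 lc_g_rc_24_1 lc_g_rc_47_2 lc_g_rc_31_1 lc_g_rc_50_2 lc_g_rc_24_1 lc_g_rc_37_1 lc_g_rc_50_2 lc_g_rc_49_2 lc_g_rc_49_2 lc_g_rc_37_1 lc_g_rc_50_2 lc_g_Cert_tree lc_g_rc_50_2 lc_g_rc_47_2 lc_g_rc_48_0 lc_g_rc_50_2 lc_g_rc_47_2 lc_g_rc_48_0 lc_g_rc_48_1 lc_g_rc_31_1 lc_g_rc_16_1 lc_g_rc_49_2 lc_g_rc_49_2 lc_g_rc_24_1 lc_g_rc_50_2 lc_g_rc_16_1 lc_g_rc_24_1 lc_g_rc_47_2 lc_g_rc_31_1 lc_g_rc_50_2 lc_g_rc_24_1 lc_g_rc_37_1 lc_g_rc_31_1 lc_g_rc_24_1 lc_g_rc_49_2 lc_g_rc_16_1 lc_g_rc_24_1 lc_g_rc_47_2 lc_g_rc_7_1 lc_g_rc_16_1 lc_g_rc_47_2 lc_g_rc_48_0 lc_g_rc_48_1 lc_g_rc_16_1 lc_g_rc_16_1) (@D3.rec (fun _ => (Cert rels S Gen.g)) lc_g_rc_47_2 lc_g_rc_31_1 lc_g_rc_50_2 lc_g_rc_16_1 lc_g_rc_50_2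 lc_g_rc_7_1 lc_g_rc_7_1 lc_g_rc_47_2 lc_g_rc_31_1 lc_g_rc_50_2 lc_g_Cert_tree lc_g_rc_7_1 lc_g_rc_7_1 lc_g_rc_31_1 lc_g_rc_50_2 lc_g_rc_24_1 lc_g_rc_37_1 lc_g_rc_50_2 lc_g_rc_7_1 lc_g_rc_7_1 lc_g_rc_37_1 lc_g_rc_50_2 lc_g_rc_50_2 lc_g_rc_47_2 lc_g_rc_48_0 lc_g_rc_48_1 lc_g_rc_7_1 lc_g_rc_7_1 lc_g_rc_7_1 lc_g_rc_7_1 lc_g_rc_24_1 lc_g_rc_50_2 lc_g_rc_16_1 lc_g_rc_24_1 lc_g_rc_37_1 lc_g_Cert_tree lc_g_rc_44_3 lc_g_rc_47_2 lc_g_rc_31_1 lc_g_rc_50_2 lc_g_rc_24_1 lc_g_rc_37_1 lc_g_rc_50_2 lc_g_rc_48_0 lc_g_rc_48_1 lc_g_rc_31_1 lc_g_rc_24_1 lc_g_rc_49_2 lc_g_rc_49_2 lc_g_rc_24_1 lc_g_rc_37_1) (@D3.rec (fun _ => (Cert rels S Gen.g)) lc_g_rc_50_2 lc_g_rc_16_1 lc_g_rc_24_1 lc_g_rc_24_1 lc_g_Cert_tree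 lc_g_rc_50_2 lc_g_rc_47_2 lc_g_rc_49_2 lc_g_rc_49_2 lc_g_Cert_tree lc_g_rc_50_2 lc_g_rc_47_2 lc_g_rc_48_0 lc_g_rc_50_2 lc_g_rc_47_2 lc_g_rc_49_2 lc_g_rc_50_2 lc_g_rc_47_2 lc_g_rc_47_2 lc_g_rc_31_1 lc_g_rc_50_2 lc_g_rc_24_1 lc_g_rc_37_1 lc_g_rc_31_1 lc_g_rc_24_1 lc_g_rc_49_2 lc_g_rc_16_1 lc_g_rc_24_1 lc_g_rc_47_2 lc_g_rc_7_1 lc_g_rc_16_1 lc_g_rc_47_2 lc_g_rc_31_1 lc_g_rc_50_2 lc_g_rc_24_1 lc_g_rc_37_1 lc_g_rc_50_2 lc_g_rc_16_1 lc_g_rc_24_1 lc_g_rc_24_1 lc_g_rc_37_1 lc_g_rc_44_3 lc_g_rc_16_1 lc_g_rc_24_1 lc_g_rc_44_5 lc_g_rc_7_1 lc_g_rc_16_1 lc_g_rc_47_2 lc_g_rc_7_1 lc_g_rc_16_1 lc_g_rc_31_1) (@D3.rec (fun _ => (Cert rels S Gen.g)) lc_g_rc_44_3 lc_g_rc_48_0 lc_g_rc_37_1 lc_g_Cert_tree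 lc_g_rc_44_3 lc_g_rc_47_2 lc_g_rc_50_2 lc_g_rc_48_0 lc_g_rc_47_2 lc_g_rc_31_1 lc_g_rc_24_1 lc_g_rc_37_1 lc_g_rc_24_1 lc_g_rc_16_1 lc_g_rc_31_1 lc_g_rc_50_2 lc_g_rc_50_2 lc_g_rc_44_3 lc_g_rc_24_1 lc_g_rc_16_1 lc_g_rc_44_3 lc_g_rc_47_2 lc_g_rc_16_1 lc_g_rc_47_2 lc_g_rc_7_1 lc_g_rc_16_1 lc_g_rc_31_1 lc_g_rc_7_1 lc_g_Cert_tree lc_g_rc_7_1 lc_g_rc_7_1 lc_g_rc_50_2 lc_g_rc_48_0 lc_g_rc_47_2 lc_g_rc_31_1 lc_g_rc_24_1 lc_g_rc_7_1 lc_g_rc_24_1 lc_g_rc_16_1 lc_g_rc_7_1 lc_g_Cert_tree lc_g_rc_47_2 lc_g_rc_48_0 lc_g_rc_48_1 lc_g_rc_44_3 lc_g_rc_50_2 lc_g_rc_31_1 lc_g_rc_50_2 lc_g_rc_24_1 lc_g_rc_50_2 lc_g_rc_16_1) (@D3.rec (fun _ => (Cert rels S Gen.g)) lc_g_rc_24_1 lc_g_rc_47_2 lc_g_rc_31_1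 lc_g_rc_24_1 lc_g_rc_37_1 lc_g_rc_24_1 lc_g_rc_16_1 lc_g_rc_7_1 lc_g_rc_31_1 lc_g_rc_50_2 lc_g_rc_24_1 lc_g_rc_37_1 lc_g_rc_50_2 lc_g_rc_16_1 lc_g_rc_24_1 lc_g_rc_24_1 lc_g_rc_37_1 lc_g_rc_44_3 lc_g_rc_16_1 lc_g_rc_24_1 lc_g_rc_47_2 lc_g_rc_7_1 lc_g_rc_16_1 lc_g_rc_47_2 lc_g_rc_7_1 lc_g_rc_16_1 lc_g_rc_31_1 lc_g_rc_24_1 lc_g_rc_37_1 lc_g_rc_50_2 lc_g_rc_37_1 lc_g_rc_31_3 lc_g_rc_7_1 lc_g_rc_24_3 lc_g_rc_24_3 lc_g_rc_44_3 lc_g_rc_49_2 lc_g_rc_7_1 lc_g_rc_16_1 lc_g_rc_47_2 lc_g_rc_7_1 lc_g_rc_16_1 lc_g_rc_31_1 lc_g_rc_7_1 lc_g_rc_31_1 lc_g_rc_37_1 lc_g_rc_31_1 lc_g_rc_37_1 lc_g_rc_47_2 lc_g_rc_44_3 lc_g_rc_49_2) (@D3.rec (fun _ => (Cert rels S Gen.g)) lc_g_rc_48_0 lc_g_rc_37_1 lc_g_rc_16_1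 lc_g_rc_37_1 lc_g_rc_7_1 lc_g_rc_24_1 lc_g_Cert_tree lc_g_rc_16_1 lc_g_rc_47_2 lc_g_rc_31_1 lc_g_rc_50_2 lc_g_rc_50_2 lc_g_rc_48_0 lc_g_rc_49_2 lc_g_rc_31_1 lc_g_rc_50_2 lc_g_rc_24_1 lc_g_rc_50_2 lc_g_rc_16_1 lc_g_rc_31_1 lc_g_rc_37_1 lc_g_rc_48_0 lc_g_rc_49_4 lc_g_rc_47_2 lc_g_rc_50_2 lc_g_rc_47_2 lc_g_rc_50_2 lc_g_rc_47_0 lc_g_rc_31_3 lc_g_rc_16_1 lc_g_rc_37_3 lc_g_rc_47_2 lc_g_rc_16_3 lc_g_rc_50_2 lc_g_rc_7_1 lc_g_rc_7_1 lc_g_rc_47_2 lc_g_rc_31_1 lc_g_rc_50_2 lc_g_rc_7_1 lc_g_rc_50_2 lc_g_rc_7_1 lc_g_rc_24_1 lc_g_rc_47_2 lc_g_rc_31_1 lc_g_rc_50_2 lc_g_rc_50_2 lc_g_rc_48_0 lc_g_rc_7_3 lc_g_Cert_tree lc_g_rc_16_1) (@D3.rec (fun _ => (Cert rels S Gen.g)) lc_g_rc_7_3 lc_g_rc_16_1 lc_g_rc_31_1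 lc_g_rc_50_2 lc_g_rc_24_1 lc_g_rc_50_2 lc_g_rc_16_1 lc_g_rc_16_3 lc_g_rc_31_1 lc_g_rc_50_2 lc_g_rc_7_3 lc_g_rc_16_3 lc_g_rc_48_0 lc_g_rc_48_1 lc_g_rc_24_1 lc_g_rc_37_1 lc_g_rc_47_2 lc_g_rc_31_1 lc_g_rc_50_2 lc_g_rc_16_3 lc_g_rc_50_2 lc_g_rc_31_1 lc_g_rc_16_1 lc_g_rc_50_2 lc_g_rc_16_1 lc_g_rc_50_2 lc_g_rc_47_2 lc_g_rc_50_2 lc_g_rc_50_2 lc_g_rc_37_1 lc_g_rc_48_0 lc_g_rc_48_1 lc_g_rc_47_2 lc_g_rc_50_2 lc_g_rc_7_1 lc_g_rc_47_2 lc_g_rc_31_1 lc_g_rc_50_2 lc_g_rc_49_2 lc_g_rc_31_1 lc_g_rc_50_2 lc_g_rc_37_1 lc_g_rc_50_2 lc_g_Cert_tree lc_g_rc_7_1 lc_g_rc_7_1 lc_g_rc_31_1 lc_g_rc_50_2 lc_g_rc_50_2 lc_g_rc_7_1 lc_g_rc_31_1) (@D3.rec (fun _ => (Cert rels S Gen.g)) lc_g_rc_47_2 lc_g_rc_31_1 lc_g_rc_50_2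 lc_g_Cert_tree lc_g_rc_24_1 lc_g_rc_16_3 lc_g_rc_31_1 lc_g_rc_50_2 lc_g_rc_24_1 lc_g_rc_37_1 lc_g_rc_50_2 lc_g_rc_7_3 lc_g_rc_37_1 lc_g_rc_50_2 lc_g_Cert_tree lc_g_rc_50_2 lc_g_rc_48_0 lc_g_rc_50_2 lc_g_rc_48_0 lc_g_rc_48_1 lc_g_rc_31_1 lc_g_rc_16_1 lc_g_rc_31_1 lc_g_rc_44_5 lc_g_rc_24_1 lc_g_rc_50_2 lc_g_rc_16_1 lc_g_rc_24_1 lc_g_rc_47_2 lc_g_rc_47_2 lc_g_rc_49_2 lc_g_rc_50_2 lc_g_rc_16_3 lc_g_rc_37_1 lc_g_rc_31_1 lc_g_rc_16_3 lc_g_rc_50_2 lc_g_rc_16_1 lc_g_rc_24_1 lc_g_rc_47_2 lc_g_rc_7_1 lc_g_rc_16_1 lc_g_rc_47_2 lc_g_rc_24_1 lc_g_rc_50_2 lc_g_rc_16_1 lc_g_rc_24_1 lc_g_rc_47_2 lc_g_rc_31_1 lc_g_rc_16_1 lc_g_rc_47_2) (@D3.rec (fun _ => (Cert rels S Gen.g)) lc_g_rc_31_1 lc_g_rc_50_2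 lc_g_Cert_tree lc_g_rc_24_1 lc_g_rc_16_1 lc_g_rc_31_1 lc_g_rc_50_2 lc_g_rc_24_1 lc_g_rc_50_2 lc_g_rc_16_1 lc_g_rc_48_0 lc_g_rc_37_1 lc_g_rc_31_1 lc_g_rc_16_1 lc_g_rc_16_1 lc_g_rc_16_1 lc_g_rc_24_1 lc_g_rc_50_2 lc_g_rc_16_1 lc_g_rc_24_1 lc_g_rc_47_2 lc_g_rc_50_2 lc_g_rc_24_1 lc_g_rc_31_1 lc_g_rc_24_1 lc_g_rc_49_2 lc_g_rc_16_1 lc_g_rc_24_1 lc_g_rc_47_2 lc_g_rc_7_1 lc_g_rc_16_1 lc_g_rc_47_2 lc_g_rc_48_0 lc_g_rc_48_1 lc_g_rc_16_1 lc_g_rc_7_1 lc_g_rc_47_2 lc_g_rc_31_1 lc_g_rc_50_2 lc_g_rc_16_1 lc_g_rc_50_2 lc_g_rc_7_1 lc_g_rc_7_1 lc_g_rc_47_2 lc_g_rc_31_1 lc_g_rc_50_2 lc_g_Cert_tree lc_g_rc_7_1 lc_g_rc_7_1 lc_g_rc_31_1 lc_g_rc_50_2) (@D3.rec (fun _ => (Cert rels S Gen.g)) lc_g_rc_24_1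 lc_g_rc_37_1 lc_g_rc_50_2 lc_g_rc_7_1 lc_g_rc_7_1 lc_g_rc_37_1 lc_g_rc_50_2 lc_g_rc_50_2 lc_g_rc_48_0 lc_g_rc_48_1 lc_g_rc_7_1 lc_g_rc_7_1 lc_g_rc_7_1 lc_g_rc_7_1 lc_g_rc_24_1 lc_g_rc_50_2 lc_g_rc_16_1 lc_g_rc_24_1 lc_g_rc_47_2 lc_g_rc_37_1 lc_g_Cert_tree lc_g_rc_44_3 lc_g_rc_16_1 lc_g_rc_31_1 lc_g_rc_50_2 lc_g_rc_24_1 lc_g_rc_37_1 lc_g_rc_50_2 lc_g_rc_48_0 lc_g_rc_48_1 lc_g_rc_31_1 lc_g_rc_24_1 lc_g_rc_16_1 lc_g_rc_16_1 lc_g_rc_24_1 lc_g_rc_37_1 lc_g_rc_50_2 lc_g_rc_16_1 lc_g_rc_24_1 lc_g_rc_24_1 lc_g_Cert_tree lc_g_rc_50_2 lc_g_rc_47_2 lc_g_rc_16_1 lc_g_rc_16_1 lc_g_Cert_tree lc_g_rc_50_2 lc_g_rc_48_0 lc_g_rc_50_2 lc_g_rc_16_1 lc_g_rc_50_2) (@D3.rec (fun _ => (Cert rels S Gen.g))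 lc_g_rc_47_2 lc_g_rc_31_1 lc_g_rc_50_2 lc_g_rc_24_1 lc_g_rc_37_1 lc_g_rc_31_1 lc_g_rc_24_1 lc_g_rc_16_1 lc_g_rc_16_1 lc_g_rc_24_1 lc_g_rc_47_2 lc_g_rc_7_1 lc_g_rc_16_1 lc_g_rc_47_2 lc_g_rc_31_1 lc_g_rc_50_2 lc_g_rc_50_0 lc_g_rc_49_2 lc_g_rc_50_2 lc_g_rc_16_1 lc_g_rc_24_1 lc_g_rc_24_1 lc_g_rc_37_1 lc_g_rc_44_3 lc_g_rc_16_1 lc_g_rc_24_1 lc_g_rc_44_5 lc_g_rc_7_1 lc_g_rc_16_1 lc_g_rc_47_2 lc_g_rc_7_1 lc_g_rc_16_1 lc_g_rc_31_1 lc_g_rc_16_3 lc_g_rc_31_3 lc_g_rc_48_0 lc_g_rc_48_1 lc_g_rc_47_2 lc_g_rc_50_2 lc_g_rc_7_1 lc_g_rc_7_1 lc_g_rc_47_2 lc_g_rc_31_1 lc_g_rc_50_2 lc_g_rc_7_1 lc_g_rc_50_2 lc_g_rc_37_1 lc_g_rc_24_1 lc_g_rc_47_2 lc_g_rc_31_1 lc_g_rc_50_2) (@D3.rec (fun _ => (Cert rels S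 Gen.g)) lc_g_rc_24_1 lc_g_rc_31_1 lc_g_rc_50_2 lc_g_rc_47_2 lc_g_rc_50_2 lc_g_rc_50_2 lc_g_rc_16_1 lc_g_rc_7_3 lc_g_rc_16_1 lc_g_rc_24_1 lc_g_rc_16_1 lc_g_rc_7_1 lc_g_rc_7_1 lc_g_rc_47_2 lc_g_rc_31_1 lc_g_rc_50_2 lc_g_rc_7_1 lc_g_rc_50_2 lc_g_Cert_tree lc_g_rc_7_1 lc_g_rc_7_1 lc_g_rc_31_1 lc_g_rc_50_2 lc_g_rc_7_3 lc_g_rc_50_2 lc_g_rc_7_1 lc_g_rc_31_1 lc_g_rc_7_3 lc_g_rc_50_2 lc_g_Cert_tree lc_g_rc_24_1 lc_g_rc_24_1 lc_g_rc_31_1 lc_g_rc_50_2 lc_g_rc_24_1 lc_g_rc_7_3 lc_g_rc_50_2 lc_g_rc_24_1 lc_g_rc_50_2 lc_g_Cert_tree lc_g_rc_7_3 lc_g_rc_48_0 lc_g_rc_50_2 lc_g_rc_48_0 lc_g_rc_48_1 lc_g_rc_7_3 lc_g_rc_16_1 lc_g_rc_31_1 lc_g_rc_16_1 lc_g_rc_24_1 lc_g_rc_50_2) (@D3.rec (fun _ => (Cert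 rels S Gen.g)) lc_g_rc_16_1 lc_g_rc_24_1 lc_g_rc_47_2 lc_g_rc_47_2 lc_g_rc_16_3 lc_g_rc_16_3 lc_g_rc_16_3 lc_g_rc_24_1 lc_g_rc_31_1 lc_g_rc_16_1 lc_g_rc_24_1 lc_g_rc_47_2 lc_g_rc_7_1 lc_g_rc_16_1 lc_g_rc_47_2 lc_g_rc_48_0 lc_g_rc_48_0 lc_g_rc_48_1 lc_g_rc_7_1 lc_g_rc_24_1 lc_g_rc_47_2 lc_g_rc_31_1 lc_g_rc_50_2 lc_g_rc_7_1 lc_g_rc_50_2 lc_g_Cert_tree lc_g_rc_7_1 lc_g_rc_37_1 lc_g_rc_31_1 lc_g_rc_50_2 lc_g_rc_24_1 lc_g_rc_50_2 lc_g_rc_7_1 lc_g_rc_31_1 lc_g_rc_47_2 lc_g_rc_31_1 lc_g_rc_50_2 lc_g_Cert_tree lc_g_rc_24_1 lc_g_rc_37_1 lc_g_rc_31_1 lc_g_rc_50_2 lc_g_rc_24_1 lc_g_rc_37_1 lc_g_rc_50_2 lc_g_rc_31_1 lc_g_rc_24_1 lc_g_rc_37_1 lc_g_rc_50_2 lc_g_rc_50_2 lc_g_rc_48_0)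
def ce_g_8 : D2 → D3 → (Cert rels S Gen.g) := @D2.rec (fun _ => D3 → (Cert rels S Gen.g)) (@D3.rec (fun _ => (Cert rels S Gen.g)) lc_g_rc_44_3 lc_g_rc_31_1 lc_g_rc_16_1 lc_g_rc_47_2 lc_g_rc_24_1 lc_g_rc_50_2 lc_g_rc_7_3 lc_g_rc_24_1 lc_g_rc_47_2 lc_g_rc_16_3 lc_g_rc_37_1 lc_g_rc_31_1 lc_g_rc_47_2 lc_g_rc_31_1 lc_g_rc_50_2 lc_g_rc_24_1 lc_g_rc_37_1 lc_g_rc_16_1 lc_g_rc_7_1 lc_g_rc_47_2 lc_g_rc_31_1 lc_g_rc_50_2 lc_g_Cert_tree lc_g_rc_7_1 lc_g_rc_7_1 lc_g_rc_31_1 lc_g_rc_50_2 lc_g_rc_24_1 lc_g_rc_50_2 lc_g_rc_7_1 lc_g_rc_48_0 lc_g_rc_48_1 lc_g_rc_7_1 lc_g_rc_7_1 lc_g_rc_49_2 lc_g_rc_7_1 lc_g_rc_24_1 lc_g_rc_50_2 lc_g_rc_49_2 lc_g_rc_24_1 lc_g_rc_47_2 lc_g_rc_37_1 lc_g_Cert_tree lc_g_rc_44_3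 lc_g_rc_31_1 lc_g_rc_50_2 lc_g_rc_24_1 lc_g_rc_7_3 lc_g_rc_50_2 lc_g_rc_48_0 lc_g_rc_48_1) (@D3.rec (fun _ => (Cert rels S Gen.g)) lc_g_rc_31_1 lc_g_rc_24_1 lc_g_rc_16_1 lc_g_rc_24_1 lc_g_rc_24_1 lc_g_rc_37_1 lc_g_rc_50_2 lc_g_rc_16_1 lc_g_rc_24_1 lc_g_rc_24_1 lc_g_Cert_tree lc_g_rc_50_2 lc_g_rc_47_2 lc_g_rc_7_3 lc_g_Cert_tree lc_g_rc_50_2 lc_g_rc_48_0 lc_g_rc_50_2 lc_g_rc_49_2 lc_g_rc_50_2 lc_g_rc_47_2 lc_g_rc_31_1 lc_g_rc_50_2 lc_g_rc_24_1 lc_g_rc_37_1 lc_g_rc_31_1 lc_g_rc_49_2 lc_g_rc_31_1 lc_g_rc_16_1 lc_g_rc_24_1 lc_g_rc_47_2 lc_g_rc_7_1 lc_g_rc_16_1 lc_g_rc_47_2 lc_g_rc_31_1 lc_g_rc_50_2 lc_g_rc_31_1 lc_g_rc_49_4 lc_g_rc_50_2 lc_g_rc_16_1 lc_g_rc_24_1 lc_g_rc_24_1 lc_g_rc_37_1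 lc_g_rc_44_3 lc_g_rc_16_1 lc_g_rc_24_1 lc_g_rc_37_3 lc_g_rc_7_1 lc_g_rc_16_1 lc_g_rc_47_2 lc_g_rc_7_1) (@D3.rec (fun _ => (Cert rels S Gen.g)) lc_g_rc_16_1 lc_g_rc_31_1 lc_g_rc_16_1 lc_g_rc_16_1 lc_g_Cert_tree lc_g_rc_7_1 lc_g_rc_7_1 lc_g_rc_31_1 lc_g_rc_50_2 lc_g_rc_50_2 lc_g_rc_7_1 lc_g_rc_48_0 lc_g_rc_48_1 lc_g_rc_7_1 lc_g_rc_7_1 lc_g_rc_37_1 lc_g_Cert_tree lc_g_rc_44_3 lc_g_rc_47_2 lc_g_rc_31_1 lc_g_rc_50_2 lc_g_rc_37_1 lc_g_rc_50_2 lc_g_rc_48_0 lc_g_rc_48_1 lc_g_rc_31_1 lc_g_rc_24_1 lc_g_rc_49_2 lc_g_rc_49_2 lc_g_rc_24_1 lc_g_rc_37_1 lc_g_rc_50_2 lc_g_rc_16_1 lc_g_rc_24_1 lc_g_rc_24_1 lc_g_rc_50_2 lc_g_rc_47_2 lc_g_rc_49_2 lc_g_rc_49_2 lc_g_rc_24_3 lc_g_rc_50_2 lc_g_rc_47_2 lc_g_rc_31_1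 lc_g_rc_50_2 lc_g_rc_24_1 lc_g_rc_37_1 lc_g_rc_31_1 lc_g_rc_24_1 lc_g_rc_49_2 lc_g_rc_16_1 lc_g_rc_24_1) (@D3.rec (fun _ => (Cert rels S Gen.g)) lc_g_rc_7_1 lc_g_rc_16_1 lc_g_rc_31_1 lc_g_rc_50_2 lc_g_rc_31_1 lc_g_rc_24_3 lc_g_rc_50_2 lc_g_rc_16_1 lc_g_rc_24_1 lc_g_rc_24_1 lc_g_rc_37_1 lc_g_rc_44_3 lc_g_rc_16_1 lc_g_rc_24_1 lc_g_rc_31_1 lc_g_rc_7_1 lc_g_rc_16_1 lc_g_rc_47_2 lc_g_rc_7_1 lc_g_rc_16_1 lc_g_rc_31_1 lc_g_rc_16_1 lc_g_rc_16_1 lc_g_rc_47_2 lc_g_rc_50_2 lc_g_Cert_tree lc_g_rc_7_1 lc_g_Cert_tree lc_g_rc_7_1 lc_g_rc_7_1 lc_g_rc_31_1 lc_g_rc_50_2 lc_g_rc_50_2 lc_g_rc_48_0 lc_g_rc_48_1 lc_g_rc_7_1 lc_g_rc_7_1 lc_g_rc_7_1 lc_g_rc_7_1 lc_g_rc_24_1 lc_g_rc_50_2 lc_g_rc_16_1 lc_g_rc_24_1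 lc_g_rc_47_2 lc_g_rc_47_2 lc_g_rc_31_1 lc_g_rc_50_2 lc_g_rc_24_1 lc_g_rc_7_1 lc_g_rc_7_1 lc_g_rc_24_1) (@D3.rec (fun _ => (Cert rels S Gen.g)) lc_g_rc_7_1 lc_g_rc_16_1 lc_g_rc_24_1 lc_g_rc_7_1 lc_g_rc_16_1 lc_g_Cert_tree lc_g_rc_47_2 lc_g_rc_48_0 lc_g_rc_48_1 lc_g_rc_44_3 lc_g_rc_50_2 lc_g_rc_31_1 lc_g_rc_50_2 lc_g_rc_24_1 lc_g_rc_37_1 lc_g_rc_50_2 lc_g_rc_16_1 lc_g_rc_24_1 lc_g_rc_24_1 lc_g_Cert_tree lc_g_rc_50_2 lc_g_rc_47_2 lc_g_rc_47_2 lc_g_rc_31_1 lc_g_rc_50_2 lc_g_rc_24_1 lc_g_rc_37_1 lc_g_rc_31_1 lc_g_rc_24_1 lc_g_rc_49_2 lc_g_rc_49_2 lc_g_rc_16_1 lc_g_rc_24_1 lc_g_rc_24_1 lc_g_Cert_tree lc_g_rc_50_2 lc_g_rc_47_2 lc_g_rc_7_1 lc_g_rc_16_1 lc_g_rc_16_1 lc_g_Cert_tree lc_g_rc_24_1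 lc_g_rc_47_2 lc_g_rc_48_0 lc_g_rc_50_2 lc_g_rc_47_2 lc_g_Cert_tree lc_g_rc_49_2 lc_g_rc_48_0 lc_g_rc_50_2 lc_g_rc_49_2) (@D3.rec (fun _ => (Cert rels S Gen.g)) lc_g_rc_50_2 lc_g_rc_49_2 lc_g_rc_31_1 lc_g_rc_50_2 lc_g_rc_24_1 lc_g_rc_24_3 lc_g_rc_50_2 lc_g_rc_16_1 lc_g_rc_24_1 lc_g_rc_24_1 lc_g_rc_37_1 lc_g_rc_44_3 lc_g_rc_16_1 lc_g_rc_24_1 lc_g_rc_47_2 lc_g_rc_7_1 lc_g_rc_16_1 lc_g_rc_47_2 lc_g_rc_7_1 lc_g_rc_16_1 lc_g_rc_31_1 lc_g_rc_50_2 lc_g_rc_24_3 lc_g_rc_37_1 lc_g_rc_44_3 lc_g_rc_47_2 lc_g_rc_7_1 lc_g_rc_16_1 lc_g_rc_16_1 lc_g_rc_31_1 lc_g_rc_7_1 lc_g_rc_16_1 lc_g_rc_7_1 lc_g_rc_16_1 lc_g_rc_31_1 lc_g_rc_7_1 lc_g_rc_31_1 lc_g_rc_16_3 lc_g_Cert_tree lc_g_rc_47_2 lc_g_rc_48_0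 lc_g_rc_48_1 lc_g_rc_50_2 lc_g_rc_50_2 lc_g_rc_31_1 lc_g_rc_24_1 lc_g_rc_37_1 lc_g_rc_16_1 lc_g_rc_24_1 lc_g_rc_16_1 lc_g_rc_7_1) (@D3.rec (fun _ => (Cert rels S Gen.g)) lc_g_rc_24_1 lc_g_rc_37_1 lc_g_rc_50_2 lc_g_rc_37_1 lc_g_rc_7_1 lc_g_rc_31_1 lc_g_rc_44_3 lc_g_rc_24_1 lc_g_rc_50_0 lc_g_rc_7_1 lc_g_rc_16_1 lc_g_rc_47_2 lc_g_rc_7_1 lc_g_rc_16_1 lc_g_rc_31_1 lc_g_rc_7_1 lc_g_rc_31_1 lc_g_rc_24_1 lc_g_rc_7_1 lc_g_rc_31_3 lc_g_rc_7_1 lc_g_rc_7_1 lc_g_rc_31_1 lc_g_rc_24_1 lc_g_rc_24_3 lc_g_rc_16_1 lc_g_rc_24_1 lc_g_rc_16_1 lc_g_rc_7_1 lc_g_rc_7_1 lc_g_rc_31_1 lc_g_rc_50_2 lc_g_rc_47_2 lc_g_rc_31_1 lc_g_rc_50_2 lc_g_rc_24_1 lc_g_rc_47_2 lc_g_rc_50_2 lc_g_rc_44_5 lc_g_rc_31_1 lc_g_rc_16_1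 lc_g_rc_24_1 lc_g_rc_7_1 lc_g_rc_16_1 lc_g_rc_31_1 lc_g_rc_24_1 lc_g_rc_24_3 lc_g_rc_16_1 lc_g_rc_24_1 lc_g_rc_16_1 lc_g_rc_7_1) (@D3.rec (fun _ => (Cert rels S Gen.g)) lc_g_rc_24_1 lc_g_rc_50_2 lc_g_rc_50_2 lc_g_rc_47_0 lc_g_rc_7_1 lc_g_rc_31_1 lc_g_rc_24_1 lc_g_rc_7_1 lc_g_rc_24_1 lc_g_rc_7_1 lc_g_rc_16_1 lc_g_rc_31_1 lc_g_rc_7_1 lc_g_rc_31_1 lc_g_rc_37_1 lc_g_rc_7_1 lc_g_rc_31_1 lc_g_rc_50_2 lc_g_rc_50_2 lc_g_rc_47_2 lc_g_rc_7_1 lc_g_rc_37_1 lc_g_rc_47_0 lc_g_rc_44_3 lc_g_rc_50_2 lc_g_rc_50_2 lc_g_rc_31_1 lc_g_rc_50_2 lc_g_rc_48_0 lc_g_rc_50_2 lc_g_rc_49_2 lc_g_rc_37_1 lc_g_rc_31_1 lc_g_rc_31_1 lc_g_rc_16_1 lc_g_rc_24_1 lc_g_rc_47_2 lc_g_rc_7_1 lc_g_rc_16_1 lc_g_rc_47_2 lc_g_rc_16_1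 lc_g_rc_16_1 lc_g_rc_16_1 lc_g_rc_16_1 lc_g_rc_24_1 lc_g_rc_24_1 lc_g_rc_37_1 lc_g_rc_44_3 lc_g_rc_16_1 lc_g_rc_24_1 lc_g_rc_47_2) (@D3.rec (fun _ => (Cert rels S Gen.g)) lc_g_rc_7_1 lc_g_rc_16_1 lc_g_rc_47_2 lc_g_rc_7_1 lc_g_rc_16_1 lc_g_rc_31_1 lc_g_rc_50_2 lc_g_rc_50_2 lc_g_rc_7_1 lc_g_rc_7_1 lc_g_rc_50_2 lc_g_rc_24_1 lc_g_rc_47_2 lc_g_rc_49_2 lc_g_rc_50_2 lc_g_rc_47_2 lc_g_rc_7_1 lc_g_rc_7_1 lc_g_rc_47_0 lc_g_Cert_tree lc_g_rc_50_2 lc_g_rc_16_1 lc_g_rc_24_1 lc_g_rc_24_1 lc_g_Cert_tree lc_g_rc_50_2 lc_g_rc_47_2 lc_g_rc_16_1 lc_g_rc_16_1 lc_g_rc_16_1 lc_g_Cert_tree lc_g_rc_24_1 lc_g_rc_50_2 lc_g_rc_48_0 lc_g_rc_50_2 lc_g_rc_47_2 lc_g_rc_7_1 lc_g_rc_50_2 lc_g_rc_48_0 lc_g_rc_50_2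 lc_g_rc_49_2 lc_g_rc_50_2 lc_g_rc_50_2 lc_g_rc_16_1 lc_g_rc_24_1 lc_g_rc_24_1 lc_g_rc_37_1 lc_g_rc_44_3 lc_g_rc_49_2 lc_g_rc_50_2 lc_g_rc_47_2) (@D3.rec (fun _ => (Cert rels S Gen.g)) lc_g_rc_7_1 lc_g_rc_16_1 lc_g_rc_47_2 lc_g_rc_7_1 lc_g_rc_16_1 lc_g_rc_31_1 lc_g_rc_24_1 lc_g_rc_24_1 lc_g_rc_44_3 lc_g_rc_7_1 lc_g_rc_16_1 lc_g_rc_16_1 lc_g_rc_24_1 lc_g_rc_24_1 lc_g_rc_47_2 lc_g_rc_49_2 lc_g_rc_16_1 lc_g_rc_24_1 lc_g_rc_7_1 lc_g_rc_16_1 lc_g_rc_31_1 lc_g_rc_7_1 lc_g_rc_31_1 lc_g_rc_37_1 lc_g_rc_24_1 lc_g_rc_7_1 lc_g_rc_24_1 lc_g_rc_7_1 lc_g_rc_16_1 lc_g_rc_24_1 lc_g_rc_47_2 lc_g_rc_7_1 lc_g_rc_16_1 lc_g_rc_47_2 lc_g_rc_50_0 lc_g_rc_24_3 lc_g_rc_16_1 lc_g_rc_24_1 lc_g_rc_24_1 lc_g_rc_7_1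 lc_g_rc_7_1 lc_g_rc_16_1 lc_g_rc_24_1 lc_g_rc_7_1 lc_g_rc_7_1 lc_g_rc_16_1 lc_g_rc_47_2 lc_g_rc_7_1 lc_g_rc_16_1 lc_g_rc_31_1 lc_g_rc_7_1) (@D3.rec (fun _ => (Cert rels S Gen.g)) lc_g_rc_24_3 lc_g_rc_16_1 lc_g_rc_24_1 lc_g_rc_24_1 lc_g_Cert_tree lc_g_rc_37_1 lc_g_rc_44_3 lc_g_rc_16_1 lc_g_rc_24_1 lc_g_rc_24_1 lc_g_rc_24_3 lc_g_rc_37_1 lc_g_rc_47_2 lc_g_rc_7_1 lc_g_rc_16_1 lc_g_rc_16_1 lc_g_Cert_tree lc_g_rc_24_1 lc_g_rc_47_2 lc_g_rc_48_0 lc_g_rc_50_2 lc_g_rc_47_2 lc_g_rc_7_1 lc_g_rc_7_1 lc_g_Cert_tree lc_g_rc_16_1 lc_g_rc_16_1 lc_g_rc_48_0 lc_g_rc_50_2 lc_g_rc_47_2 lc_g_rc_31_1 lc_g_rc_49_2 lc_g_rc_50_2 lc_g_rc_47_2 lc_g_rc_48_0 lc_g_rc_50_2 lc_g_rc_49_2 lc_g_rc_50_2 lc_g_rc_49_2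 lc_g_rc_47_2 lc_g_rc_7_1 lc_g_rc_16_1 lc_g_rc_31_1 lc_g_rc_24_1 lc_g_rc_24_1 lc_g_rc_49_2 lc_g_rc_7_1 lc_g_rc_31_1 lc_g_rc_47_2 lc_g_rc_7_3 lc_g_rc_37_1) (@D3.rec (fun _ => (Cert rels S Gen.g)) lc_g_rc_50_2 lc_g_rc_7_1 lc_g_rc_16_1 lc_g_rc_16_1 lc_g_rc_31_1 lc_g_rc_16_1 lc_g_rc_31_1 lc_g_rc_50_0 lc_g_rc_31_1 lc_g_rc_37_1 lc_g_rc_44_5 lc_g_rc_37_1 lc_g_rc_16_1 lc_g_rc_48_0 lc_g_rc_50_2 lc_g_rc_50_2 lc_g_rc_48_0 lc_g_rc_47_2 lc_g_rc_44_3 lc_g_rc_16_1 lc_g_rc_50_2 lc_g_rc_47_2 lc_g_rc_50_2 lc_g_rc_31_1 lc_g_rc_50_2 lc_g_rc_50_2 lc_g_rc_44_5 lc_g_rc_50_2 lc_g_rc_16_1 lc_g_rc_37_1 lc_g_rc_50_2 lc_g_rc_7_3 lc_g_rc_50_2 lc_g_rc_48_0 lc_g_rc_16_1 lc_g_rc_50_2 lc_g_rc_47_0 lc_g_rc_48_0 lc_g_rc_47_2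 lc_g_rc_50_2 lc_g_rc_47_2 lc_g_rc_50_2 lc_g_Cert_tree lc_g_rc_16_1 lc_g_rc_48_0 lc_g_rc_48_0 lc_g_rc_47_2 lc_g_rc_44_3 lc_g_rc_7_1 lc_g_rc_50_2 lc_g_rc_44_5) (@D3.rec (fun _ => (Cert rels S Gen.g)) lc_g_rc_50_2 lc_g_rc_50_2 lc_g_rc_24_1 lc_g_rc_50_2 lc_g_rc_24_1 lc_g_rc_44_5 lc_g_rc_50_2 lc_g_rc_7_1 lc_g_rc_31_1 lc_g_rc_50_2 lc_g_Cert_tree lc_g_rc_50_2 lc_g_rc_48_0 lc_g_rc_50_2 lc_g_rc_48_0 lc_g_rc_49_2 lc_g_rc_48_0 lc_g_rc_49_2 lc_g_rc_47_2 lc_g_rc_50_2 lc_g_rc_7_1 lc_g_rc_7_1 lc_g_rc_31_1 lc_g_rc_50_2 lc_g_rc_7_1 lc_g_rc_50_2 lc_g_rc_31_1 lc_g_rc_24_1 lc_g_rc_37_3 lc_g_rc_50_2 lc_g_rc_16_1 lc_g_rc_16_1 lc_g_rc_31_1 lc_g_rc_50_2 lc_g_rc_47_0 lc_g_rc_44_1 lc_g_rc_7_1 lc_g_rc_24_1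 lc_g_rc_31_1 lc_g_rc_37_1 lc_g_rc_37_1 lc_g_rc_48_0 lc_g_Cert_tree lc_g_rc_50_2 lc_g_rc_50_2 lc_g_rc_48_0 lc_g_rc_48_0 lc_g_rc_48_0 lc_g_rc_49_2 lc_g_rc_49_2 lc_g_rc_24_1) (@D3.rec (fun _ => (Cert rels S Gen.g)) lc_g_rc_24_1 lc_g_rc_7_1 lc_g_rc_7_1 lc_g_rc_49_2 lc_g_rc_50_2 lc_g_Cert_tree lc_g_rc_37_1 lc_g_rc_47_2 lc_g_rc_47_2 lc_g_rc_16_3 lc_g_rc_16_1 lc_g_rc_16_1 lc_g_rc_50_2 lc_g_Cert_tree lc_g_rc_7_1 lc_g_rc_7_1 lc_g_rc_24_3 lc_g_rc_37_1 lc_g_rc_50_2 lc_g_Cert_tree lc_g_rc_50_2 lc_g_rc_47_2 lc_g_rc_48_0 lc_g_rc_50_2 lc_g_rc_47_2 lc_g_rc_24_1 lc_g_rc_50_2 lc_g_rc_16_1 lc_g_rc_24_1 lc_g_rc_47_2 lc_g_rc_24_1 lc_g_rc_44_3 lc_g_rc_24_1 lc_g_rc_49_2 lc_g_rc_16_1 lc_g_rc_24_1 lc_g_rc_47_2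 lc_g_rc_7_1 lc_g_rc_16_1 lc_g_rc_47_2 lc_g_rc_37_1 lc_g_rc_48_0 lc_g_rc_37_1 lc_g_rc_48_0 lc_g_Cert_tree lc_g_rc_48_0 lc_g_rc_16_1 lc_g_rc_37_1 lc_g_rc_47_2 lc_g_rc_31_1 lc_g_rc_49_4) (@D3.rec (fun _ => (Cert rels S Gen.g)) lc_g_rc_44_3 lc_g_rc_31_1 lc_g_rc_50_2 lc_g_rc_7_1 lc_g_rc_48_0 lc_g_rc_24_1 lc_g_rc_37_1 lc_g_rc_44_3 lc_g_rc_16_1 lc_g_Cert_tree lc_g_rc_48_0 lc_g_rc_48_1 lc_g_rc_24_1 lc_g_rc_47_2 lc_g_rc_31_1 lc_g_rc_50_2 lc_g_rc_16_1 lc_g_rc_44_3 lc_g_rc_16_1 lc_g_rc_47_2 lc_g_rc_7_3 lc_g_rc_50_2 lc_g_rc_16_1 lc_g_rc_50_2 lc_g_rc_47_2 lc_g_rc_50_2 lc_g_rc_16_3 lc_g_rc_50_2 lc_g_Cert_tree lc_g_rc_48_0 lc_g_rc_7_3 lc_g_rc_16_1 lc_g_rc_7_1 lc_g_rc_49_4 lc_g_rc_48_0 lc_g_rc_37_1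 lc_g_rc_47_2 lc_g_rc_7_1 lc_g_rc_7_1 lc_g_rc_7_1 lc_g_rc_50_2 lc_g_rc_48_0 lc_g_rc_48_1 lc_g_rc_24_1 lc_g_rc_24_1 lc_g_rc_47_2 lc_g_rc_31_1 lc_g_rc_50_2 lc_g_rc_50_2 lc_g_rc_7_1 lc_g_rc_50_2) (@D3.rec (fun _ => (Cert rels S Gen.g)) lc_g_Cert_tree lc_g_rc_16_1 lc_g_rc_47_2 lc_g_rc_50_2 lc_g_rc_49_4 lc_g_rc_47_0 lc_g_rc_48_0 lc_g_rc_48_1 lc_g_rc_24_1 lc_g_rc_24_1 lc_g_rc_47_2 lc_g_rc_31_1 lc_g_rc_50_2 lc_g_rc_24_1 lc_g_rc_31_1 lc_g_rc_50_2 lc_g_rc_37_1 lc_g_rc_50_2 lc_g_rc_44_5 lc_g_Cert_tree lc_g_rc_16_1 lc_g_rc_16_1 lc_g_rc_31_1 lc_g_rc_50_2 lc_g_rc_24_1 lc_g_rc_50_2 lc_g_rc_50_2 lc_g_rc_48_0 lc_g_rc_49_4 lc_g_rc_44_3 lc_g_rc_50_2 lc_g_rc_31_1 lc_g_rc_50_2 lc_g_rc_24_1 lc_g_rc_50_2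 lc_g_rc_16_1 lc_g_rc_24_1 lc_g_rc_50_2 lc_g_Cert_tree lc_g_rc_48_0 lc_g_rc_48_1 lc_g_rc_7_3 lc_g_rc_47_2 lc_g_rc_49_2 lc_g_rc_50_2 lc_g_rc_24_1 lc_g_rc_16_1 lc_g_rc_48_0 lc_g_rc_7_1 lc_g_rc_7_1 lc_g_rc_47_2) (@D3.rec (fun _ => (Cert rels S Gen.g)) lc_g_rc_31_1 lc_g_rc_50_2 lc_g_rc_50_2 lc_g_rc_49_2 lc_g_rc_50_2 lc_g_Cert_tree lc_g_rc_7_1 lc_g_rc_7_1 lc_g_Cert_tree lc_g_rc_7_1 lc_g_rc_50_2 lc_g_rc_50_2 lc_g_rc_31_1 lc_g_rc_31_1 lc_g_rc_47_2 lc_g_rc_31_1 lc_g_rc_50_2 lc_g_Cert_tree lc_g_rc_24_1 lc_g_rc_16_3 lc_g_rc_31_1 lc_g_rc_50_2 lc_g_rc_24_1 lc_g_rc_37_1 lc_g_rc_50_2 lc_g_rc_50_2 lc_g_rc_37_1 lc_g_rc_50_2 lc_g_Cert_tree lc_g_rc_50_2 lc_g_rc_47_2 lc_g_rc_48_0 lc_g_rc_50_2 lc_g_rc_47_2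 lc_g_rc_48_0 lc_g_rc_44_3 lc_g_rc_31_1 lc_g_rc_16_1 lc_g_rc_50_2 lc_g_rc_24_1 lc_g_rc_50_2 lc_g_rc_37_1 lc_g_rc_24_1 lc_g_rc_44_5 lc_g_rc_50_2 lc_g_rc_31_1 lc_g_rc_37_1 lc_g_rc_47_2 lc_g_rc_31_1 lc_g_rc_16_1 lc_g_rc_47_2) (@D3.rec (fun _ => (Cert rels S Gen.g)) lc_g_rc_31_1 lc_g_rc_50_2 lc_g_Cert_tree lc_g_rc_24_1 lc_g_rc_16_1 lc_g_rc_31_1 lc_g_rc_50_2 lc_g_rc_24_1 lc_g_rc_37_1 lc_g_rc_50_2 lc_g_rc_16_1 lc_g_rc_16_1 lc_g_rc_37_1 lc_g_rc_50_2 lc_g_rc_50_2 lc_g_rc_47_2 lc_g_rc_48_0 lc_g_rc_48_1 lc_g_rc_31_1 lc_g_rc_16_1 lc_g_rc_16_1 lc_g_rc_16_1 lc_g_rc_24_1 lc_g_rc_50_2 lc_g_rc_16_1 lc_g_rc_24_1 lc_g_rc_47_2 lc_g_rc_47_2 lc_g_rc_49_4 lc_g_rc_50_2 lc_g_rc_24_1 lc_g_rc_37_1 lc_g_rc_31_1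 lc_g_rc_24_1 lc_g_rc_49_2 lc_g_rc_16_1 lc_g_rc_24_1 lc_g_rc_47_2 lc_g_rc_44_5 lc_g_rc_16_1 lc_g_rc_47_2 lc_g_rc_48_0 lc_g_rc_48_1 lc_g_rc_16_1 lc_g_rc_7_1 lc_g_rc_47_2 lc_g_rc_31_1 lc_g_rc_50_2 lc_g_rc_7_1 lc_g_rc_31_1 lc_g_rc_50_2) (@D3.rec (fun _ => (Cert rels S Gen.g)) lc_g_rc_24_1 lc_g_rc_37_1 lc_g_rc_50_2 lc_g_rc_24_1 lc_g_rc_16_1 lc_g_rc_7_1 lc_g_rc_7_1 lc_g_rc_47_2 lc_g_rc_31_1 lc_g_rc_50_2 lc_g_Cert_tree lc_g_rc_7_1 lc_g_rc_7_1 lc_g_rc_31_1 lc_g_rc_50_2 lc_g_rc_24_1 lc_g_rc_37_1 lc_g_rc_50_2 lc_g_rc_7_1 lc_g_rc_37_1 lc_g_rc_50_2 lc_g_Cert_tree lc_g_rc_50_2 lc_g_rc_47_2 lc_g_rc_48_0 lc_g_rc_50_2 lc_g_rc_7_1 lc_g_rc_48_0 lc_g_rc_48_1 lc_g_rc_7_1 lc_g_rc_7_1 lc_g_rc_7_1 lc_g_rc_24_1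 lc_g_rc_50_2 lc_g_rc_24_1 lc_g_rc_47_2 lc_g_rc_37_1 lc_g_Cert_tree lc_g_rc_44_3 lc_g_rc_16_1 lc_g_rc_31_1 lc_g_rc_50_2 lc_g_rc_24_1 lc_g_rc_37_1 lc_g_rc_50_2 lc_g_rc_48_0 lc_g_rc_48_1 lc_g_rc_31_1 lc_g_rc_24_1 lc_g_rc_16_1 lc_g_rc_16_1) (@D3.rec (fun _ => (Cert rels S Gen.g)) lc_g_rc_24_1 lc_g_rc_37_1 lc_g_rc_50_2 lc_g_rc_16_1 lc_g_rc_24_1 lc_g_rc_24_1 lc_g_Cert_tree lc_g_rc_50_2 lc_g_rc_47_2 lc_g_rc_16_1 lc_g_rc_16_1 lc_g_Cert_tree lc_g_rc_50_2 lc_g_rc_47_2 lc_g_rc_48_0 lc_g_rc_50_2 lc_g_rc_47_2 lc_g_rc_16_1 lc_g_rc_50_2 lc_g_rc_47_2 lc_g_rc_47_2 lc_g_rc_24_3 lc_g_rc_50_2 lc_g_rc_24_1 lc_g_rc_37_1 lc_g_rc_31_1 lc_g_rc_24_1 lc_g_rc_16_1 lc_g_rc_16_1 lc_g_rc_24_1 lc_g_rc_47_2 lc_g_rc_7_1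 lc_g_rc_16_1 lc_g_rc_47_2 lc_g_rc_50_2 lc_g_rc_37_1 lc_g_rc_50_2 lc_g_rc_16_1 lc_g_rc_24_1 lc_g_rc_24_1 lc_g_rc_37_1 lc_g_rc_44_3 lc_g_rc_16_1 lc_g_rc_24_1 lc_g_rc_47_2 lc_g_rc_7_1 lc_g_rc_16_1 lc_g_rc_47_2 lc_g_rc_7_1 lc_g_rc_16_1 lc_g_rc_31_1) (@D3.rec (fun _ => (Cert rels S Gen.g)) lc_g_rc_16_1 lc_g_rc_49_0 lc_g_rc_24_1 lc_g_rc_24_1 lc_g_rc_49_0 lc_g_rc_47_2 lc_g_rc_50_2 lc_g_rc_49_4 lc_g_rc_50_2 lc_g_rc_24_1 lc_g_rc_24_1 lc_g_rc_49_4 lc_g_rc_50_2 lc_g_rc_16_1 lc_g_rc_50_2 lc_g_rc_47_2 lc_g_rc_31_1 lc_g_rc_50_2 lc_g_rc_16_3 lc_g_rc_50_2 lc_g_rc_50_2 lc_g_Cert_tree lc_g_rc_48_0 lc_g_rc_48_1 lc_g_rc_16_1 lc_g_Cert_tree lc_g_rc_48_0 lc_g_rc_48_1 lc_g_rc_7_1 lc_g_rc_47_2 lc_g_rc_49_4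 lc_g_rc_50_2 lc_g_rc_7_1 lc_g_rc_7_1 lc_g_rc_7_1 lc_g_rc_47_2 lc_g_rc_44_5 lc_g_rc_50_2 lc_g_rc_7_1 lc_g_rc_50_2 lc_g_rc_48_0 lc_g_rc_48_1 lc_g_rc_24_1 lc_g_rc_24_1 lc_g_rc_47_2 lc_g_rc_31_1 lc_g_rc_50_2 lc_g_rc_24_1 lc_g_rc_31_1 lc_g_rc_50_2 lc_g_rc_49_4) (@D3.rec (fun _ => (Cert rels S Gen.g)) lc_g_rc_50_2 lc_g_rc_7_1 lc_g_rc_49_2 lc_g_rc_44_5 lc_g_Cert_tree lc_g_rc_7_3 lc_g_rc_16_1 lc_g_rc_31_1 lc_g_rc_50_2 lc_g_rc_49_4 lc_g_rc_50_2 lc_g_rc_16_1 lc_g_rc_48_0 lc_g_rc_16_3 lc_g_rc_16_3 lc_g_rc_31_1 lc_g_rc_50_2 lc_g_rc_50_2 lc_g_rc_7_3 lc_g_rc_16_3 lc_g_rc_47_2 lc_g_rc_24_1 lc_g_rc_48_0 lc_g_rc_48_1 lc_g_rc_16_1 lc_g_rc_47_2 lc_g_rc_50_2 lc_g_rc_48_0 lc_g_rc_48_1 lc_g_rc_7_1 lc_g_rc_7_1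 lc_g_rc_47_2 lc_g_rc_31_1 lc_g_rc_50_2 lc_g_rc_7_1 lc_g_rc_31_1 lc_g_rc_50_2 lc_g_rc_37_1 lc_g_rc_50_2 lc_g_rc_44_5 lc_g_Cert_tree lc_g_rc_7_1 lc_g_rc_7_1 lc_g_rc_31_1 lc_g_rc_50_2 lc_g_rc_24_1 lc_g_rc_50_2 lc_g_rc_7_1 lc_g_rc_31_1 lc_g_rc_31_1 lc_g_rc_47_2) (@D3.rec (fun _ => (Cert rels S Gen.g)) lc_g_rc_31_1 lc_g_rc_50_2 lc_g_Cert_tree lc_g_rc_24_1 lc_g_rc_24_1 lc_g_rc_31_1 lc_g_rc_50_2 lc_g_rc_24_1 lc_g_rc_37_1 lc_g_rc_50_2 lc_g_rc_24_1 lc_g_rc_37_1 lc_g_rc_50_2 lc_g_Cert_tree lc_g_rc_50_2 lc_g_rc_47_2 lc_g_rc_48_0 lc_g_rc_50_2 lc_g_rc_47_2 lc_g_rc_48_0 lc_g_rc_16_1 lc_g_rc_16_1 lc_g_rc_24_1 lc_g_rc_50_2 lc_g_rc_16_1 lc_g_rc_24_1 lc_g_rc_47_2 lc_g_rc_47_2 lc_g_rc_31_1 lc_g_rc_7_3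 lc_g_rc_24_1 lc_g_rc_16_1 lc_g_rc_16_1 lc_g_rc_47_2 lc_g_rc_31_1 lc_g_rc_50_2 lc_g_rc_7_1 lc_g_rc_47_2 lc_g_rc_31_1 lc_g_rc_50_2 lc_g_rc_7_1 lc_g_rc_50_2 lc_g_rc_50_2 lc_g_rc_31_1 lc_g_rc_50_2 lc_g_rc_37_1 lc_g_rc_50_2 lc_g_rc_49_2 lc_g_rc_37_1 lc_g_rc_44_5 lc_g_rc_44_3) (@D3.rec (fun _ => (Cert rels S Gen.g)) lc_g_rc_31_1 lc_g_rc_50_2 lc_g_rc_24_1 lc_g_rc_50_2 lc_g_rc_16_1 lc_g_rc_44_1 lc_g_rc_44_3 lc_g_rc_44_3 lc_g_rc_31_1 lc_g_rc_50_2 lc_g_rc_24_1 lc_g_rc_50_2 lc_g_rc_16_1 lc_g_rc_24_1 lc_g_rc_47_2 lc_g_Cert_tree lc_g_rc_48_0 lc_g_rc_48_1 lc_g_rc_16_1 lc_g_rc_47_2 lc_g_rc_50_2 lc_g_rc_48_0 lc_g_rc_48_1 lc_g_rc_7_1 lc_g_rc_7_1 lc_g_rc_47_2 lc_g_rc_31_1 lc_g_rc_50_2 lc_g_rc_7_1 lc_g_rc_31_1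 lc_g_rc_50_2 lc_g_rc_37_1 lc_g_rc_50_2 lc_g_rc_7_1 lc_g_Cert_tree lc_g_rc_7_1 lc_g_rc_7_1 lc_g_rc_31_1 lc_g_rc_50_2 lc_g_rc_24_1 lc_g_rc_50_2 lc_g_rc_7_1 lc_g_rc_31_1 lc_g_rc_31_1 lc_g_rc_47_2 lc_g_rc_31_1 lc_g_rc_50_2 lc_g_Cert_tree lc_g_rc_24_1 lc_g_rc_24_1 lc_g_rc_31_1) (@D3.rec (fun _ => (Cert rels S Gen.g)) lc_g_rc_50_2 lc_g_rc_24_1 lc_g_rc_37_1 lc_g_rc_50_2 lc_g_rc_31_1 lc_g_rc_24_1 lc_g_rc_37_1 lc_g_rc_50_2 lc_g_Cert_tree lc_g_rc_50_2 lc_g_rc_47_2 lc_g_rc_48_0 lc_g_rc_50_2 lc_g_rc_47_2 lc_g_rc_48_0 lc_g_rc_48_1 lc_g_rc_31_1 lc_g_rc_16_1 lc_g_rc_31_1 lc_g_rc_16_1 lc_g_rc_24_1 lc_g_rc_50_2 lc_g_rc_16_1 lc_g_rc_24_1 lc_g_rc_47_2 lc_g_rc_47_2 lc_g_rc_31_1 lc_g_rc_50_2 lc_g_rc_44_3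 lc_g_rc_37_1 lc_g_rc_31_1 lc_g_rc_16_3 lc_g_rc_31_1 lc_g_rc_16_1 lc_g_rc_24_1 lc_g_rc_47_2 lc_g_rc_7_1 lc_g_rc_16_1 lc_g_rc_47_2 lc_g_Cert_tree lc_g_rc_48_0 lc_g_rc_48_1 lc_g_rc_16_1 lc_g_rc_16_1 lc_g_rc_47_2 lc_g_rc_31_1 lc_g_rc_50_2 lc_g_rc_16_1 lc_g_rc_50_2 lc_g_rc_7_1 lc_g_rc_7_1) (@D3.rec (fun _ => (Cert rels S Gen.g)) lc_g_rc_47_2 lc_g_rc_31_1 lc_g_rc_50_2 lc_g_Cert_tree lc_g_rc_7_1 lc_g_rc_7_1 lc_g_rc_31_1 lc_g_rc_50_2 lc_g_rc_24_1 lc_g_rc_37_1 lc_g_rc_50_2 lc_g_rc_49_2 lc_g_rc_7_1 lc_g_rc_37_1 lc_g_rc_50_2 lc_g_rc_50_2 lc_g_rc_47_2 lc_g_rc_48_0 lc_g_rc_48_1 lc_g_rc_7_1 lc_g_rc_7_1 lc_g_rc_31_1 lc_g_rc_7_1 lc_g_rc_24_1 lc_g_rc_50_2 lc_g_rc_16_1 lc_g_rc_24_1 lc_g_rc_47_2 lc_g_rc_37_1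 lc_g_Cert_tree lc_g_rc_44_3 lc_g_rc_47_2 lc_g_rc_31_1 lc_g_rc_50_2 lc_g_rc_24_1 lc_g_rc_37_1 lc_g_rc_50_2 lc_g_rc_48_0 lc_g_rc_48_1 lc_g_rc_31_1 lc_g_rc_24_1 lc_g_rc_31_1 lc_g_rc_24_1 lc_g_rc_24_1 lc_g_rc_37_1 lc_g_rc_50_2 lc_g_rc_16_1 lc_g_rc_24_1 lc_g_rc_24_1 lc_g_Cert_tree lc_g_rc_50_2) (@D3.rec (fun _ => (Cert rels S Gen.g)) lc_g_rc_47_2 lc_g_rc_49_2 lc_g_rc_50_2 lc_g_Cert_tree lc_g_rc_50_2 lc_g_rc_47_2 lc_g_rc_48_0 lc_g_rc_50_2 lc_g_rc_47_2 lc_g_rc_49_2 lc_g_rc_50_2 lc_g_rc_47_2 lc_g_rc_47_2 lc_g_rc_44_3 lc_g_rc_50_2 lc_g_rc_24_1 lc_g_rc_37_1 lc_g_rc_31_1 lc_g_rc_7_3 lc_g_rc_50_2 lc_g_rc_16_1 lc_g_rc_24_1 lc_g_rc_47_2 lc_g_rc_7_1 lc_g_rc_16_1 lc_g_rc_47_2 lc_g_rc_50_2 lc_g_rc_24_1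 lc_g_rc_50_2 lc_g_rc_16_1 lc_g_rc_24_1 lc_g_rc_24_1 lc_g_rc_37_1 lc_g_rc_44_3 lc_g_rc_24_1 lc_g_rc_7_1 lc_g_rc_16_1 lc_g_rc_47_2 lc_g_rc_7_1 lc_g_rc_16_1 lc_g_rc_37_1 lc_g_rc_44_3 lc_g_rc_50_2 lc_g_rc_16_1 lc_g_rc_31_1 lc_g_rc_50_2 lc_g_rc_37_1 lc_g_rc_50_2 lc_g_rc_7_1 lc_g_rc_7_1 lc_g_rc_50_2)
def ce_g_9 : D2 → D3 → (Cert rels S Gen.g) := @D2.rec (fun _ => D3 → (Cert rels S Gen.g)) (@D3.rec (fun _ => (Cert rels S Gen.g)) lc_g_rc_7_3 lc_g_rc_7_3 lc_g_rc_24_1 lc_g_rc_24_1 lc_g_rc_37_1 lc_g_rc_50_2 lc_g_Cert_tree lc_g_rc_50_2 lc_g_rc_47_2 lc_g_rc_48_0 lc_g_rc_50_2 lc_g_rc_47_2 lc_g_rc_44_3 lc_g_rc_49_2 lc_g_rc_37_1 lc_g_rc_44_3 lc_g_rc_44_3 lc_g_rc_49_2 lc_g_rc_24_1 lc_g_rc_47_2 lc_g_rc_16_1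 lc_g_rc_16_1 lc_g_rc_47_2 lc_g_rc_31_1 lc_g_rc_50_2 lc_g_rc_16_1 lc_g_rc_50_2 lc_g_Cert_tree lc_g_rc_7_1 lc_g_rc_7_1 lc_g_rc_31_1 lc_g_rc_50_2 lc_g_rc_37_1 lc_g_rc_50_2 lc_g_rc_7_1 lc_g_rc_7_1 lc_g_rc_37_1 lc_g_rc_50_2 lc_g_rc_50_2 lc_g_rc_47_2 lc_g_rc_48_0 lc_g_rc_48_1 lc_g_rc_7_1 lc_g_rc_7_1 lc_g_rc_37_1 lc_g_Cert_tree lc_g_rc_44_3 lc_g_rc_47_2 lc_g_rc_31_1 lc_g_rc_50_2 lc_g_rc_37_1) (@D3.rec (fun _ => (Cert rels S Gen.g)) lc_g_rc_50_2 lc_g_rc_48_0 lc_g_rc_48_1 lc_g_rc_31_1 lc_g_rc_24_1 lc_g_rc_49_2 lc_g_rc_49_2 lc_g_rc_24_1 lc_g_rc_37_1 lc_g_rc_50_2 lc_g_rc_16_1 lc_g_rc_24_1 lc_g_rc_24_1 lc_g_Cert_tree lc_g_rc_50_2 lc_g_rc_47_2 lc_g_rc_49_2 lc_g_rc_49_2 lc_g_Cert_tree lc_g_rc_50_2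 lc_g_rc_47_2 lc_g_rc_48_0 lc_g_rc_50_2 lc_g_rc_47_2 lc_g_rc_49_2 lc_g_rc_50_2 lc_g_rc_47_2 lc_g_rc_47_2 lc_g_rc_31_1 lc_g_rc_50_2 lc_g_rc_24_1 lc_g_rc_37_1 lc_g_rc_31_1 lc_g_rc_24_1 lc_g_rc_49_2 lc_g_rc_16_1 lc_g_rc_24_1 lc_g_rc_16_1 lc_g_rc_31_1 lc_g_rc_50_2 lc_g_rc_50_0 lc_g_rc_24_1 lc_g_rc_50_2 lc_g_rc_16_1 lc_g_rc_24_1 lc_g_rc_24_1 lc_g_rc_37_1 lc_g_rc_44_3 lc_g_rc_24_1 lc_g_rc_47_2 lc_g_rc_16_1) (@D3.rec (fun _ => (Cert rels S Gen.g)) lc_g_rc_47_2 lc_g_rc_7_1 lc_g_rc_16_1 lc_g_rc_31_1 lc_g_rc_16_1 lc_g_rc_16_1 lc_g_rc_47_2 lc_g_rc_31_1 lc_g_rc_50_2 lc_g_Cert_tree lc_g_rc_16_1 lc_g_rc_16_1 lc_g_rc_31_1 lc_g_rc_50_2 lc_g_rc_24_1 lc_g_rc_50_2 lc_g_rc_16_1 lc_g_rc_7_1 lc_g_Cert_tree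 lc_g_rc_7_1 lc_g_rc_7_1 lc_g_rc_31_1 lc_g_rc_50_2 lc_g_rc_37_1 lc_g_rc_50_2 lc_g_rc_48_0 lc_g_rc_48_1 lc_g_rc_7_1 lc_g_rc_7_1 lc_g_rc_7_1 lc_g_rc_7_1 lc_g_rc_24_1 lc_g_rc_37_1 lc_g_rc_50_2 lc_g_rc_16_1 lc_g_rc_24_1 lc_g_rc_24_1 lc_g_rc_50_2 lc_g_rc_47_2 lc_g_rc_7_1 lc_g_rc_7_1 lc_g_rc_44_3 lc_g_rc_50_2 lc_g_rc_47_2 lc_g_rc_47_2 lc_g_rc_47_2 lc_g_rc_31_1 lc_g_rc_50_2 lc_g_rc_24_1 lc_g_rc_7_1 lc_g_rc_7_1) (@D3.rec (fun _ => (Cert rels S Gen.g)) lc_g_rc_24_1 lc_g_rc_7_1 lc_g_rc_16_1 lc_g_rc_24_1 lc_g_rc_7_1 lc_g_rc_16_1 lc_g_Cert_tree lc_g_rc_47_2 lc_g_rc_48_0 lc_g_rc_48_1 lc_g_rc_44_3 lc_g_rc_50_2 lc_g_rc_31_1 lc_g_rc_50_2 lc_g_rc_24_1 lc_g_rc_37_1 lc_g_rc_50_2 lc_g_rc_16_1 lc_g_rc_24_1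 lc_g_rc_24_1 lc_g_Cert_tree lc_g_rc_50_2 lc_g_rc_47_2 lc_g_rc_47_2 lc_g_rc_31_1 lc_g_rc_50_2 lc_g_rc_24_1 lc_g_rc_37_1 lc_g_rc_31_1 lc_g_rc_24_1 lc_g_rc_49_2 lc_g_rc_49_2 lc_g_rc_16_1 lc_g_rc_24_1 lc_g_rc_24_1 lc_g_Cert_tree lc_g_rc_50_2 lc_g_rc_47_2 lc_g_rc_7_1 lc_g_rc_16_1 lc_g_rc_16_1 lc_g_Cert_tree lc_g_rc_24_1 lc_g_rc_47_2 lc_g_rc_48_0 lc_g_rc_50_2 lc_g_rc_47_2 lc_g_Cert_tree lc_g_rc_49_2 lc_g_rc_47_2 lc_g_rc_48_0) (@D3.rec (fun _ => (Cert rels S Gen.g)) lc_g_rc_50_2 lc_g_rc_47_2 lc_g_rc_49_2 lc_g_rc_50_2 lc_g_rc_47_2 lc_g_rc_31_1 lc_g_rc_49_2 lc_g_rc_47_2 lc_g_rc_31_1 lc_g_rc_50_2 lc_g_rc_24_1 lc_g_rc_37_1 lc_g_rc_50_2 lc_g_rc_16_1 lc_g_rc_24_1 lc_g_rc_24_1 lc_g_rc_37_1 lc_g_rc_44_3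 lc_g_rc_16_1 lc_g_rc_24_1 lc_g_rc_44_5 lc_g_rc_7_1 lc_g_rc_16_1 lc_g_rc_47_2 lc_g_rc_7_1 lc_g_rc_16_1 lc_g_rc_31_1 lc_g_rc_24_1 lc_g_rc_37_1 lc_g_rc_50_2 lc_g_rc_16_1 lc_g_rc_31_1 lc_g_rc_24_1 lc_g_rc_50_2 lc_g_rc_47_2 lc_g_rc_7_1 lc_g_rc_16_1 lc_g_rc_16_1 lc_g_rc_31_1 lc_g_rc_47_2 lc_g_rc_44_3 lc_g_rc_37_1 lc_g_rc_7_1 lc_g_rc_16_1 lc_g_rc_47_2 lc_g_rc_7_1 lc_g_rc_16_1 lc_g_rc_31_1 lc_g_rc_7_1 lc_g_rc_31_1 lc_g_rc_37_1) (@D3.rec (fun _ => (Cert rels S Gen.g)) lc_g_Cert_tree lc_g_rc_47_2 lc_g_rc_48_0 lc_g_rc_48_1 lc_g_rc_50_2 lc_g_rc_50_2 lc_g_rc_31_1 lc_g_rc_37_1 lc_g_rc_44_3 lc_g_rc_16_1 lc_g_rc_24_1 lc_g_rc_16_1 lc_g_rc_31_1 lc_g_rc_37_3 lc_g_rc_7_1 lc_g_rc_48_0 lc_g_rc_24_3 lc_g_rc_7_1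 lc_g_rc_7_1 lc_g_rc_31_1 lc_g_rc_24_1 lc_g_rc_37_1 lc_g_rc_16_1 lc_g_rc_24_1 lc_g_rc_7_1 lc_g_rc_48_0 lc_g_rc_48_1 lc_g_rc_31_1 lc_g_rc_50_2 lc_g_rc_47_2 lc_g_rc_24_3 lc_g_rc_50_2 lc_g_rc_24_1 lc_g_rc_47_2 lc_g_rc_50_2 lc_g_rc_47_2 lc_g_rc_31_1 lc_g_rc_16_1 lc_g_rc_24_1 lc_g_rc_7_1 lc_g_rc_16_1 lc_g_rc_31_1 lc_g_rc_24_1 lc_g_rc_16_1 lc_g_rc_24_1 lc_g_rc_16_1 lc_g_rc_7_1 lc_g_rc_24_1 lc_g_rc_37_1 lc_g_rc_50_2 lc_g_rc_16_1) (@D3.rec (fun _ => (Cert rels S Gen.g)) lc_g_rc_24_1 lc_g_rc_24_1 lc_g_rc_37_1 lc_g_rc_24_3 lc_g_rc_7_1 lc_g_rc_47_0 lc_g_rc_50_2 lc_g_rc_31_1 lc_g_rc_50_2 lc_g_rc_24_1 lc_g_rc_24_3 lc_g_rc_7_1 lc_g_rc_16_1 lc_g_rc_47_2 lc_g_rc_7_1 lc_g_rc_16_1 lc_g_rc_31_1 lc_g_rc_7_1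 lc_g_rc_31_1 lc_g_rc_37_1 lc_g_rc_24_3 lc_g_rc_24_3 lc_g_rc_24_3 lc_g_rc_49_2 lc_g_rc_50_0 lc_g_rc_7_1 lc_g_rc_16_1 lc_g_rc_49_2 lc_g_rc_7_1 lc_g_rc_31_1 lc_g_rc_37_1 lc_g_rc_7_1 lc_g_rc_24_1 lc_g_rc_7_3 lc_g_rc_48_0 lc_g_rc_49_2 lc_g_rc_31_1 lc_g_rc_50_0 lc_g_rc_50_2 lc_g_rc_24_3 lc_g_rc_16_1 lc_g_rc_37_1 lc_g_rc_47_0 lc_g_rc_50_2 lc_g_rc_50_2 lc_g_rc_37_1 lc_g_rc_50_2 lc_g_rc_37_3 lc_g_rc_50_2 lc_g_rc_50_2 lc_g_rc_16_3) (@D3.rec (fun _ => (Cert rels S Gen.g)) lc_g_rc_47_2 lc_g_rc_44_3 lc_g_rc_31_1 lc_g_rc_50_2 lc_g_rc_50_2 lc_g_rc_7_1 lc_g_rc_7_1 lc_g_rc_7_1 lc_g_rc_7_3 lc_g_rc_31_1 lc_g_rc_50_2 lc_g_rc_24_1 lc_g_rc_7_3 lc_g_rc_50_2 lc_g_rc_47_2 lc_g_rc_50_2 lc_g_rc_48_0 lc_g_rc_50_2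 lc_g_rc_7_3 lc_g_rc_31_1 lc_g_rc_24_1 lc_g_rc_50_2 lc_g_rc_7_3 lc_g_rc_24_1 lc_g_rc_44_3 lc_g_rc_7_3 lc_g_rc_31_1 lc_g_rc_47_2 lc_g_rc_31_1 lc_g_rc_50_2 lc_g_rc_44_3 lc_g_rc_24_1 lc_g_rc_31_1 lc_g_rc_50_2 lc_g_rc_31_1 lc_g_rc_50_2 lc_g_rc_50_2 lc_g_rc_16_1 lc_g_rc_50_2 lc_g_rc_50_2 lc_g_rc_16_1 lc_g_rc_47_2 lc_g_rc_31_1 lc_g_rc_50_2 lc_g_rc_50_2 lc_g_rc_7_1 lc_g_rc_31_1 lc_g_rc_50_2 lc_g_rc_37_1 lc_g_rc_50_2 lc_g_rc_50_2) (@D3.rec (fun _ => (Cert rels S Gen.g)) lc_g_rc_37_1 lc_g_rc_50_2 lc_g_rc_50_2 lc_g_rc_48_0 lc_g_rc_48_1 lc_g_rc_7_1 lc_g_rc_7_1 lc_g_rc_7_1 lc_g_rc_7_1 lc_g_rc_50_2 lc_g_rc_47_2 lc_g_rc_44_3 lc_g_rc_31_1 lc_g_rc_50_2 lc_g_rc_16_3 lc_g_rc_50_2 lc_g_rc_48_0 lc_g_rc_48_1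 lc_g_rc_31_1 lc_g_rc_24_1 lc_g_rc_7_1 lc_g_rc_16_3 lc_g_rc_24_1 lc_g_rc_37_1 lc_g_rc_50_2 lc_g_rc_16_1 lc_g_rc_24_1 lc_g_rc_24_1 lc_g_Cert_tree lc_g_rc_50_2 lc_g_rc_47_2 lc_g_Cert_tree lc_g_rc_50_2 lc_g_rc_48_0 lc_g_rc_50_2 lc_g_rc_49_2 lc_g_rc_50_2 lc_g_rc_47_2 lc_g_rc_49_2 lc_g_rc_50_2 lc_g_rc_24_1 lc_g_rc_37_1 lc_g_rc_31_1 lc_g_rc_24_1 lc_g_rc_50_2 lc_g_rc_16_1 lc_g_rc_24_1 lc_g_rc_47_2 lc_g_rc_16_1 lc_g_rc_47_2 lc_g_rc_50_2) (@D3.rec (fun _ => (Cert rels S Gen.g)) lc_g_rc_50_2 lc_g_rc_44_3 lc_g_rc_16_3 lc_g_rc_50_2 lc_g_rc_7_3 lc_g_rc_16_3 lc_g_rc_7_1 lc_g_rc_16_1 lc_g_rc_47_2 lc_g_rc_7_1 lc_g_rc_16_1 lc_g_rc_16_3 lc_g_rc_16_1 lc_g_rc_24_1 lc_g_rc_47_2 lc_g_rc_7_1 lc_g_rc_16_1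 lc_g_rc_47_2 lc_g_rc_37_1 lc_g_rc_31_3 lc_g_rc_44_3 lc_g_rc_16_1 lc_g_rc_31_1 lc_g_rc_50_2 lc_g_rc_50_2 lc_g_rc_48_0 lc_g_rc_24_1 lc_g_rc_31_1 lc_g_rc_24_1 lc_g_rc_16_1 lc_g_rc_16_1 lc_g_rc_24_1 lc_g_rc_50_2 lc_g_rc_16_1 lc_g_rc_24_1 lc_g_rc_47_2 lc_g_rc_50_2 lc_g_rc_24_1 lc_g_rc_31_1 lc_g_rc_24_1 lc_g_rc_16_1 lc_g_rc_16_1 lc_g_rc_24_1 lc_g_rc_47_2 lc_g_rc_7_1 lc_g_rc_16_1 lc_g_rc_47_2 lc_g_rc_16_1 lc_g_rc_24_1 lc_g_rc_44_3 lc_g_rc_16_1) (@D3.rec (fun _ => (Cert rels S Gen.g)) lc_g_rc_24_1 lc_g_rc_47_2 lc_g_rc_7_1 lc_g_rc_16_1 lc_g_rc_47_2 lc_g_rc_7_1 lc_g_rc_16_1 lc_g_rc_31_1 lc_g_rc_16_1 lc_g_rc_47_2 lc_g_rc_50_2 lc_g_rc_37_1 lc_g_rc_16_1 lc_g_rc_16_1 lc_g_rc_31_1 lc_g_rc_50_2 lc_g_rc_50_2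 lc_g_rc_16_1 lc_g_rc_7_1 lc_g_rc_7_1 lc_g_rc_31_1 lc_g_rc_50_2 lc_g_rc_24_1 lc_g_rc_50_2 lc_g_rc_48_0 lc_g_rc_48_1 lc_g_rc_7_1 lc_g_rc_7_1 lc_g_rc_7_1 lc_g_rc_7_1 lc_g_rc_24_1 lc_g_rc_37_1 lc_g_rc_50_2 lc_g_rc_16_1 lc_g_rc_24_1 lc_g_rc_24_1 lc_g_rc_50_2 lc_g_rc_47_2 lc_g_rc_7_1 lc_g_rc_7_1 lc_g_rc_44_3 lc_g_rc_50_2 lc_g_rc_47_2 lc_g_rc_31_1 lc_g_rc_50_2 lc_g_rc_24_1 lc_g_rc_24_3 lc_g_rc_7_1 lc_g_rc_7_1 lc_g_rc_7_1 lc_g_rc_16_1) (@D3.rec (fun _ => (Cert rels S Gen.g)) lc_g_rc_24_1 lc_g_rc_47_2 lc_g_rc_7_1 lc_g_rc_16_1 lc_g_rc_47_2 lc_g_rc_47_2 lc_g_rc_48_0 lc_g_rc_48_1 lc_g_rc_44_3 lc_g_rc_50_2 lc_g_rc_31_1 lc_g_rc_16_1 lc_g_rc_24_1 lc_g_rc_37_1 lc_g_rc_50_2 lc_g_rc_16_1 lc_g_rc_24_1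 lc_g_rc_24_1 lc_g_Cert_tree lc_g_rc_50_2 lc_g_rc_47_2 lc_g_rc_47_2 lc_g_rc_31_1 lc_g_rc_50_2 lc_g_rc_24_1 lc_g_rc_37_1 lc_g_rc_31_1 lc_g_rc_24_1 lc_g_rc_16_1 lc_g_rc_16_1 lc_g_rc_16_1 lc_g_rc_24_1 lc_g_rc_24_1 lc_g_Cert_tree lc_g_rc_50_2 lc_g_rc_47_2 lc_g_rc_7_1 lc_g_rc_16_1 lc_g_rc_16_1 lc_g_Cert_tree lc_g_rc_24_1 lc_g_rc_47_2 lc_g_rc_48_0 lc_g_rc_50_2 lc_g_rc_47_2 lc_g_rc_37_1 lc_g_rc_16_1 lc_g_rc_48_0 lc_g_rc_50_2 lc_g_rc_16_1 lc_g_rc_50_2) (@D3.rec (fun _ => (Cert rels S Gen.g)) lc_g_rc_16_1 lc_g_rc_31_1 lc_g_rc_50_2 lc_g_rc_24_1 lc_g_rc_37_1 lc_g_rc_50_2 lc_g_rc_16_1 lc_g_rc_24_1 lc_g_rc_24_1 lc_g_rc_37_1 lc_g_rc_44_3 lc_g_rc_16_1 lc_g_rc_24_1 lc_g_rc_47_2 lc_g_rc_7_1 lc_g_rc_16_1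 lc_g_rc_47_2 lc_g_rc_7_1 lc_g_rc_16_1 lc_g_rc_31_1 lc_g_rc_50_2 lc_g_rc_31_1 lc_g_rc_49_2 lc_g_rc_47_0 lc_g_rc_49_2 lc_g_rc_47_2 lc_g_rc_7_1 lc_g_rc_16_1 lc_g_rc_16_1 lc_g_rc_31_1 lc_g_rc_24_1 lc_g_rc_24_1 lc_g_rc_47_2 lc_g_rc_7_1 lc_g_rc_16_1 lc_g_rc_47_2 lc_g_rc_7_1 lc_g_rc_16_1 lc_g_rc_31_1 lc_g_rc_7_1 lc_g_rc_31_1 lc_g_rc_44_1 lc_g_rc_47_2 lc_g_rc_47_2 lc_g_rc_31_1 lc_g_rc_50_2 lc_g_rc_50_2 lc_g_rc_50_2 lc_g_rc_24_1 lc_g_rc_50_2 lc_g_rc_7_1) (@D3.rec (fun _ => (Cert rels S Gen.g)) lc_g_rc_37_1 lc_g_rc_50_2 lc_g_rc_31_1 lc_g_rc_50_2 lc_g_rc_16_1 lc_g_rc_37_1 lc_g_rc_50_2 lc_g_rc_24_1 lc_g_rc_50_2 lc_g_rc_50_2 lc_g_rc_16_1 lc_g_rc_31_3 lc_g_rc_31_1 lc_g_rc_50_2 lc_g_rc_7_1 lc_g_rc_7_1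 lc_g_rc_31_1 lc_g_rc_50_2 lc_g_rc_31_1 lc_g_rc_50_2 lc_g_rc_7_1 lc_g_rc_48_0 lc_g_rc_48_1 lc_g_rc_49_4 lc_g_rc_7_1 lc_g_rc_7_1 lc_g_rc_50_2 lc_g_rc_50_2 lc_g_rc_47_2 lc_g_rc_47_2 lc_g_rc_7_3 lc_g_rc_48_0 lc_g_rc_48_1 lc_g_rc_31_1 lc_g_rc_24_1 lc_g_rc_24_1 lc_g_rc_24_1 lc_g_rc_50_2 lc_g_rc_16_1 lc_g_rc_37_1 lc_g_rc_24_1 lc_g_Cert_tree lc_g_rc_7_3 lc_g_rc_47_2 lc_g_rc_48_0 lc_g_rc_50_2 lc_g_rc_49_2 lc_g_rc_50_2 lc_g_rc_47_2 lc_g_rc_7_3 lc_g_rc_49_4) (@D3.rec (fun _ => (Cert rels S Gen.g)) lc_g_rc_49_4 lc_g_rc_7_3 lc_g_rc_31_1 lc_g_rc_16_1 lc_g_rc_24_1 lc_g_rc_47_2 lc_g_rc_7_1 lc_g_rc_16_1 lc_g_rc_47_2 lc_g_rc_16_3 lc_g_rc_16_3 lc_g_rc_24_1 lc_g_rc_16_1 lc_g_rc_24_1 lc_g_rc_7_1 lc_g_rc_16_1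 lc_g_rc_47_2 lc_g_rc_7_1 lc_g_rc_16_1 lc_g_rc_16_1 lc_g_rc_7_1 lc_g_rc_47_2 lc_g_rc_31_1 lc_g_rc_50_2 lc_g_rc_44_3 lc_g_rc_7_1 lc_g_rc_37_1 lc_g_rc_31_1 lc_g_rc_50_2 lc_g_rc_24_1 lc_g_rc_50_2 lc_g_rc_47_2 lc_g_rc_48_0 lc_g_rc_44_3 lc_g_rc_7_1 lc_g_rc_7_1 lc_g_rc_47_2 lc_g_rc_24_1 lc_g_rc_50_2 lc_g_rc_16_1 lc_g_rc_24_1 lc_g_rc_47_2 lc_g_rc_44_3 lc_g_rc_31_1 lc_g_rc_50_2 lc_g_rc_24_1 lc_g_rc_49_2 lc_g_rc_50_2 lc_g_rc_48_0 lc_g_rc_44_3 lc_g_rc_31_1) (@D3.rec (fun _ => (Cert rels S Gen.g)) lc_g_rc_24_1 lc_g_rc_49_2 lc_g_rc_47_2 lc_g_rc_24_1 lc_g_rc_37_1 lc_g_rc_50_2 lc_g_rc_7_3 lc_g_rc_24_1 lc_g_rc_24_1 lc_g_rc_50_2 lc_g_rc_47_2 lc_g_rc_47_0 lc_g_rc_37_1 lc_g_rc_50_2 lc_g_rc_50_2 lc_g_rc_24_1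 lc_g_rc_37_1 lc_g_rc_31_1 lc_g_rc_24_1 lc_g_rc_47_2 lc_g_rc_49_2 lc_g_rc_7_3 lc_g_rc_47_2 lc_g_rc_37_1 lc_g_rc_44_3 lc_g_rc_50_2 lc_g_rc_31_3 lc_g_rc_16_3 lc_g_rc_47_2 lc_g_rc_7_1 lc_g_rc_7_1 lc_g_rc_31_1 lc_g_rc_50_2 lc_g_rc_24_1 lc_g_rc_50_2 lc_g_rc_48_0 lc_g_rc_48_1 lc_g_rc_7_1 lc_g_rc_7_1 lc_g_rc_16_1 lc_g_rc_7_1 lc_g_rc_24_1 lc_g_rc_50_2 lc_g_rc_37_1 lc_g_rc_24_1 lc_g_rc_47_2 lc_g_rc_47_2 lc_g_rc_31_1 lc_g_rc_50_2 lc_g_rc_24_1 lc_g_rc_7_1) (@D3.rec (fun _ => (Cert rels S Gen.g)) lc_g_rc_7_1 lc_g_rc_50_2 lc_g_rc_24_1 lc_g_rc_47_2 lc_g_rc_49_2 lc_g_rc_50_2 lc_g_rc_47_2 lc_g_rc_48_0 lc_g_rc_44_3 lc_g_rc_50_2 lc_g_rc_24_1 lc_g_rc_50_2 lc_g_rc_16_1 lc_g_rc_7_3 lc_g_rc_24_1 lc_g_Cert_tree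 lc_g_rc_24_3 lc_g_rc_47_2 lc_g_rc_47_2 lc_g_rc_31_1 lc_g_rc_50_2 lc_g_rc_24_1 lc_g_rc_37_1 lc_g_rc_31_1 lc_g_rc_49_2 lc_g_rc_24_3 lc_g_rc_16_1 lc_g_rc_24_1 lc_g_rc_24_1 lc_g_Cert_tree lc_g_rc_50_2 lc_g_rc_47_2 lc_g_rc_7_1 lc_g_rc_16_1 lc_g_rc_16_1 lc_g_Cert_tree lc_g_rc_24_1 lc_g_rc_47_2 lc_g_rc_48_0 lc_g_rc_50_2 lc_g_rc_47_2 lc_g_rc_48_0 lc_g_rc_50_2 lc_g_rc_49_2 lc_g_rc_50_2 lc_g_rc_50_2 lc_g_rc_31_1 lc_g_rc_50_2 lc_g_rc_24_1 lc_g_rc_24_3 lc_g_rc_50_2) (@D3.rec (fun _ => (Cert rels S Gen.g)) lc_g_rc_16_1 lc_g_rc_24_1 lc_g_rc_24_1 lc_g_rc_37_1 lc_g_rc_44_3 lc_g_rc_49_2 lc_g_rc_50_2 lc_g_rc_24_3 lc_g_rc_7_1 lc_g_rc_16_1 lc_g_rc_47_2 lc_g_rc_7_1 lc_g_rc_16_1 lc_g_rc_31_1 lc_g_rc_50_2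 lc_g_rc_24_3 lc_g_rc_37_1 lc_g_rc_44_1 lc_g_rc_37_1 lc_g_rc_47_2 lc_g_rc_7_1 lc_g_rc_16_1 lc_g_rc_16_1 lc_g_rc_24_1 lc_g_rc_24_1 lc_g_rc_24_1 lc_g_rc_47_2 lc_g_rc_49_2 lc_g_rc_16_1 lc_g_rc_37_3 lc_g_rc_7_1 lc_g_rc_16_1 lc_g_rc_31_1 lc_g_rc_7_1 lc_g_rc_31_1 lc_g_rc_37_1 lc_g_rc_48_0 lc_g_rc_48_1 lc_g_rc_7_1 lc_g_rc_7_1 lc_g_rc_7_1 lc_g_rc_7_1 lc_g_rc_50_2 lc_g_rc_47_2 lc_g_rc_47_2 lc_g_rc_50_2 lc_g_rc_47_2 lc_g_rc_48_0 lc_g_rc_48_1 lc_g_rc_44_3 lc_g_rc_50_2) (@D3.rec (fun _ => (Cert rels S Gen.g)) lc_g_rc_31_1 lc_g_rc_50_2 lc_g_rc_37_1 lc_g_rc_50_2 lc_g_rc_50_2 lc_g_rc_47_2 lc_g_rc_47_2 lc_g_rc_31_1 lc_g_rc_50_2 lc_g_rc_24_1 lc_g_rc_37_1 lc_g_rc_31_1 lc_g_rc_24_1 lc_g_rc_49_2 lc_g_rc_49_2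 lc_g_rc_16_1 lc_g_rc_24_1 lc_g_rc_24_1 lc_g_rc_31_1 lc_g_rc_50_2 lc_g_rc_47_2 lc_g_rc_16_1 lc_g_rc_16_1 lc_g_rc_24_1 lc_g_rc_47_2 lc_g_rc_47_2 lc_g_Cert_tree lc_g_rc_49_2 lc_g_rc_7_3 lc_g_rc_31_1 lc_g_rc_50_2 lc_g_rc_24_1 lc_g_rc_47_2 lc_g_rc_50_2 lc_g_rc_16_1 lc_g_rc_24_1 lc_g_rc_24_1 lc_g_rc_37_1 lc_g_rc_16_1 lc_g_rc_24_1 lc_g_rc_7_1 lc_g_rc_16_1 lc_g_rc_7_1 lc_g_rc_50_2 lc_g_rc_31_1 lc_g_rc_49_4 lc_g_rc_50_2 lc_g_rc_50_2 lc_g_rc_7_1 lc_g_rc_31_1 lc_g_rc_16_1) (@D3.rec (fun _ => (Cert rels S Gen.g)) lc_g_rc_47_2 lc_g_rc_44_3 lc_g_rc_47_2 lc_g_rc_7_1 lc_g_rc_16_1 lc_g_rc_47_2 lc_g_rc_7_1 lc_g_rc_16_1 lc_g_rc_31_1 lc_g_rc_7_1 lc_g_rc_31_1 lc_g_rc_24_1 lc_g_rc_16_1 lc_g_rc_16_1 lc_g_rc_50_2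 lc_g_rc_48_0 lc_g_rc_7_1 lc_g_rc_48_0 lc_g_rc_37_1 lc_g_rc_7_1 lc_g_rc_7_1 lc_g_rc_31_1 lc_g_rc_7_1 lc_g_rc_50_2 lc_g_rc_47_2 lc_g_rc_47_2 lc_g_rc_31_1 lc_g_rc_50_2 lc_g_rc_24_1 lc_g_rc_7_1 lc_g_rc_7_1 lc_g_rc_24_1 lc_g_rc_7_1 lc_g_rc_16_1 lc_g_rc_24_1 lc_g_rc_47_2 lc_g_rc_7_1 lc_g_rc_16_1 lc_g_rc_47_2 lc_g_rc_31_1 lc_g_rc_50_2 lc_g_rc_24_1 lc_g_rc_24_3 lc_g_rc_50_2 lc_g_rc_16_1 lc_g_rc_24_1 lc_g_rc_24_1 lc_g_rc_7_1 lc_g_rc_16_1 lc_g_rc_24_1 lc_g_rc_7_1) (@D3.rec (fun _ => (Cert rels S Gen.g)) lc_g_rc_16_1 lc_g_rc_7_1 lc_g_rc_48_0 lc_g_rc_44_3 lc_g_rc_31_1 lc_g_rc_50_2 lc_g_rc_47_2 lc_g_rc_31_1 lc_g_rc_50_2 lc_g_rc_24_1 lc_g_rc_47_2 lc_g_rc_50_2 lc_g_rc_44_5 lc_g_rc_37_1 lc_g_rc_31_1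 lc_g_rc_16_1 lc_g_rc_24_1 lc_g_rc_24_1 lc_g_Cert_tree lc_g_rc_50_2 lc_g_rc_47_2 lc_g_rc_7_1 lc_g_rc_16_1 lc_g_rc_16_1 lc_g_Cert_tree lc_g_rc_24_1 lc_g_rc_47_2 lc_g_rc_48_0 lc_g_rc_50_2 lc_g_rc_47_2 lc_g_rc_31_1 lc_g_rc_50_2 lc_g_rc_24_1 lc_g_rc_37_1 lc_g_rc_50_2 lc_g_rc_16_1 lc_g_rc_24_1 lc_g_rc_24_1 lc_g_Cert_tree lc_g_rc_37_1 lc_g_rc_44_3 lc_g_rc_16_1 lc_g_rc_24_1 lc_g_rc_24_1 lc_g_Cert_tree lc_g_rc_49_2 lc_g_rc_44_5 lc_g_rc_7_1 lc_g_rc_16_1 lc_g_rc_16_1 lc_g_Cert_tree) (@D3.rec (fun _ => (Cert rels S Gen.g)) lc_g_rc_24_1 lc_g_rc_47_2 lc_g_rc_48_0 lc_g_rc_50_2 lc_g_rc_47_2 lc_g_rc_7_1 lc_g_rc_7_1 lc_g_Cert_tree lc_g_rc_16_1 lc_g_rc_16_1 lc_g_rc_48_0 lc_g_rc_50_2 lc_g_rc_47_2 lc_g_rc_31_1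 lc_g_rc_49_2 lc_g_rc_50_2 lc_g_rc_47_2 lc_g_rc_48_0 lc_g_rc_50_2 lc_g_rc_49_2 lc_g_rc_50_2 lc_g_rc_49_2 lc_g_rc_24_1 lc_g_rc_50_2 lc_g_rc_50_0 lc_g_rc_50_0 lc_g_rc_24_1 lc_g_rc_24_3 lc_g_rc_24_3 lc_g_rc_7_1 lc_g_rc_16_1 lc_g_rc_16_1 lc_g_rc_31_1 lc_g_rc_24_1 lc_g_rc_24_1 lc_g_rc_47_2 lc_g_rc_49_2 lc_g_rc_16_1 lc_g_rc_24_1 lc_g_rc_7_1 lc_g_rc_16_1 lc_g_rc_31_1 lc_g_rc_7_1 lc_g_rc_31_1 lc_g_rc_37_1 lc_g_rc_7_1 lc_g_rc_7_1 lc_g_rc_7_1 lc_g_rc_31_1 lc_g_rc_48_0 lc_g_rc_48_1) (@D3.rec (fun _ => (Cert rels S Gen.g)) lc_g_rc_31_1 lc_g_rc_50_2 lc_g_rc_47_2 lc_g_rc_50_2 lc_g_rc_24_1 lc_g_rc_37_1 lc_g_rc_37_1 lc_g_rc_49_2 lc_g_rc_7_1 lc_g_rc_24_1 lc_g_rc_7_1 lc_g_rc_16_1 lc_g_rc_7_1 lc_g_rc_31_1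 lc_g_rc_31_1 lc_g_rc_7_1 lc_g_rc_47_2 lc_g_rc_24_1 lc_g_rc_49_4 lc_g_rc_50_2 lc_g_rc_7_1 lc_g_rc_16_1 lc_g_rc_31_1 lc_g_rc_7_1 lc_g_rc_37_3 lc_g_rc_7_1 lc_g_rc_24_1 lc_g_rc_31_1 lc_g_rc_31_1 lc_g_rc_31_1 lc_g_rc_50_2 lc_g_rc_24_1 lc_g_rc_24_3 lc_g_rc_50_2 lc_g_rc_16_1 lc_g_rc_24_1 lc_g_rc_24_1 lc_g_rc_50_2 lc_g_rc_16_1 lc_g_rc_49_2 lc_g_rc_7_1 lc_g_rc_16_1 lc_g_rc_7_1 lc_g_rc_24_1 lc_g_rc_50_2 lc_g_rc_16_1 lc_g_rc_7_1 lc_g_rc_16_1 lc_g_rc_31_1 lc_g_rc_7_1 lc_g_rc_47_2) (@D3.rec (fun _ => (Cert rels S Gen.g)) lc_g_rc_31_1 lc_g_rc_31_1 lc_g_rc_7_1 lc_g_rc_31_1 lc_g_rc_37_1 lc_g_rc_47_2 lc_g_rc_7_3 lc_g_rc_37_1 lc_g_rc_47_0 lc_g_rc_44_3 lc_g_rc_47_0 lc_g_rc_50_2 lc_g_rc_50_2 lc_g_rc_49_2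 lc_g_rc_37_1 lc_g_rc_44_3 lc_g_rc_47_2 lc_g_rc_16_1 lc_g_rc_47_2 lc_g_rc_50_2 lc_g_rc_16_1 lc_g_rc_31_1 lc_g_rc_16_1 lc_g_rc_37_1 lc_g_rc_16_1 lc_g_rc_16_1 lc_g_rc_24_1 lc_g_rc_24_1 lc_g_rc_47_2 lc_g_rc_16_1 lc_g_rc_24_1 lc_g_rc_7_1 lc_g_rc_16_1 lc_g_rc_31_1 lc_g_rc_7_1 lc_g_rc_31_1 lc_g_rc_37_1 lc_g_rc_50_2 lc_g_rc_7_1 lc_g_rc_7_1 lc_g_rc_7_1 lc_g_rc_47_2 lc_g_rc_50_2 lc_g_rc_16_1 lc_g_rc_31_1 lc_g_rc_7_1 lc_g_rc_47_0 lc_g_rc_31_1 lc_g_rc_31_1 lc_g_rc_47_0 lc_g_rc_48_0) (@D3.rec (fun _ => (Cert rels S Gen.g)) lc_g_rc_16_1 lc_g_rc_16_1 lc_g_Cert_tree lc_g_rc_24_1 lc_g_rc_48_0 lc_g_rc_50_2 lc_g_rc_47_2 lc_g_rc_16_1 lc_g_rc_50_2 lc_g_rc_49_2 lc_g_rc_16_1 lc_g_rc_50_2 lc_g_rc_48_0 lc_g_rc_50_2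 lc_g_rc_50_2 lc_g_rc_50_2 lc_g_rc_24_1 lc_g_rc_50_2 lc_g_rc_7_1 lc_g_rc_7_1 lc_g_rc_7_1 lc_g_rc_50_2 lc_g_rc_37_1 lc_g_rc_16_1 lc_g_rc_16_1 lc_g_rc_31_1 lc_g_rc_24_1 lc_g_rc_24_1 lc_g_rc_47_2 lc_g_rc_50_2 lc_g_rc_24_1 lc_g_rc_7_1 lc_g_rc_16_1 lc_g_rc_31_1 lc_g_rc_7_1 lc_g_rc_31_1 lc_g_rc_37_1 lc_g_rc_24_1 lc_g_rc_44_3 lc_g_rc_7_1 lc_g_rc_7_1 lc_g_rc_16_1 lc_g_rc_16_1 lc_g_rc_24_1 lc_g_rc_31_1 lc_g_rc_50_2 lc_g_rc_16_1 lc_g_rc_31_1 lc_g_rc_7_1 lc_g_rc_31_1 lc_g_rc_37_1) (@D3.rec (fun _ => (Cert rels S Gen.g)) lc_g_rc_7_1 lc_g_rc_24_1 lc_g_rc_37_1 lc_g_Cert_tree lc_g_rc_16_1 lc_g_rc_24_1 lc_g_rc_7_1 lc_g_rc_16_1 lc_g_rc_24_1 lc_g_rc_7_1 lc_g_rc_7_1 lc_g_rc_16_1 lc_g_rc_47_2 lc_g_rc_7_1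 lc_g_rc_16_1 lc_g_rc_31_1 lc_g_rc_50_0 lc_g_rc_47_2 lc_g_rc_7_1 lc_g_rc_16_1 lc_g_rc_16_1 lc_g_rc_31_1 lc_g_rc_24_1 lc_g_rc_24_1 lc_g_rc_49_2 lc_g_rc_16_1 lc_g_rc_24_1 lc_g_rc_7_1 lc_g_rc_16_1 lc_g_rc_31_1 lc_g_rc_47_2 lc_g_rc_31_1 lc_g_rc_37_1 lc_g_rc_7_1 lc_g_rc_24_3 lc_g_rc_7_1 lc_g_rc_16_1 lc_g_rc_16_1 lc_g_rc_31_1 lc_g_Cert_tree lc_g_rc_24_1 lc_g_rc_24_1 lc_g_rc_48_0 lc_g_rc_50_2 lc_g_rc_47_2 lc_g_rc_49_2 lc_g_rc_16_1 lc_g_rc_16_1 lc_g_rc_7_1 lc_g_rc_24_1 lc_g_rc_24_1) (@D3.rec (fun _ => (Cert rels S Gen.g)) lc_g_rc_24_3 lc_g_rc_47_2 lc_g_rc_7_1 lc_g_rc_7_1 lc_g_Cert_tree lc_g_rc_16_1 lc_g_rc_16_1 lc_g_rc_48_0 lc_g_rc_50_2 lc_g_rc_47_2 lc_g_rc_31_1 lc_g_rc_37_1 lc_g_rc_50_2 lc_g_rc_47_2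 lc_g_Cert_tree lc_g_rc_7_1 lc_g_rc_7_1 lc_g_rc_48_0 lc_g_rc_50_2 lc_g_rc_16_1 lc_g_rc_7_3 lc_g_rc_24_1 lc_g_rc_50_2 lc_g_rc_47_2 lc_g_rc_31_1 lc_g_rc_37_1 lc_g_rc_49_2 lc_g_rc_47_2 lc_g_rc_49_2 lc_g_rc_50_2 lc_g_rc_50_2 lc_g_rc_44_5 lc_g_rc_31_1 lc_g_rc_37_1 lc_g_rc_44_5 lc_g_rc_31_1 lc_g_rc_37_1 lc_g_rc_50_2 lc_g_rc_31_3 lc_g_rc_7_3 lc_g_rc_50_2 lc_g_rc_16_1 lc_g_rc_50_2 lc_g_rc_50_2 lc_g_rc_50_2 lc_g_rc_50_2 lc_g_rc_37_1 lc_g_rc_48_0 lc_g_rc_50_0 lc_g_rc_47_0 lc_g_rc_50_2)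
def ce_g_10 : D2 → D3 → (Cert rels S Gen.g) := @D2.rec (fun _ => D3 → (Cert rels S Gen.g)) (@D3.rec (fun _ => (Cert rels S Gen.g)) lc_g_rc_7_1 lc_g_rc_31_1 lc_g_rc_50_2 lc_g_rc_24_1 lc_g_rc_31_1 lc_g_rc_50_2 lc_g_rc_24_1 lc_g_rc_31_1 lc_g_rc_48_0 lc_g_rc_50_2 lc_g_rc_47_2 lc_g_rc_50_2 lc_g_rc_49_2 lc_g_rc_49_2 lc_g_rc_31_1 lc_g_rc_50_2 lc_g_rc_7_1 lc_g_rc_31_1 lc_g_rc_24_1 lc_g_rc_31_1 lc_g_rc_7_1 lc_g_rc_50_2 lc_g_rc_16_1 lc_g_rc_24_1 lc_g_rc_44_5 lc_g_rc_48_0 lc_g_rc_44_3 lc_g_rc_49_2 lc_g_Cert_tree lc_g_rc_24_1 lc_g_rc_47_2 lc_g_Cert_tree lc_g_rc_7_1 lc_g_rc_7_1 lc_g_Cert_tree lc_g_rc_50_2 lc_g_rc_7_1 lc_g_rc_48_0 lc_g_rc_50_2 lc_g_rc_47_2 lc_g_rc_16_3 lc_g_rc_37_1 lc_g_rc_16_1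 lc_g_rc_37_3 lc_g_rc_48_0 lc_g_rc_50_2 lc_g_rc_7_1 lc_g_rc_24_3 lc_g_Cert_tree lc_g_rc_50_2 lc_g_rc_47_2) (@D3.rec (fun _ => (Cert rels S Gen.g)) lc_g_rc_48_0 lc_g_rc_50_2 lc_g_rc_47_2 lc_g_rc_24_1 lc_g_rc_50_2 lc_g_rc_47_2 lc_g_rc_31_1 lc_g_rc_16_1 lc_g_rc_24_1 lc_g_rc_47_2 lc_g_rc_16_1 lc_g_rc_47_2 lc_g_rc_44_3 lc_g_rc_24_1 lc_g_rc_44_3 lc_g_rc_16_1 lc_g_rc_24_1 lc_g_rc_47_2 lc_g_rc_7_1 lc_g_rc_16_1 lc_g_rc_47_2 lc_g_rc_7_1 lc_g_rc_16_1 lc_g_rc_31_1 lc_g_rc_48_0 lc_g_rc_24_3 lc_g_rc_24_1 lc_g_rc_49_4 lc_g_rc_44_3 lc_g_rc_31_1 lc_g_rc_50_2 lc_g_rc_7_1 lc_g_rc_44_3 lc_g_rc_48_0 lc_g_rc_44_3 lc_g_rc_49_0 lc_g_rc_24_1 lc_g_rc_47_2 lc_g_rc_31_1 lc_g_rc_50_2 lc_g_rc_24_1 lc_g_rc_31_1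 lc_g_rc_50_2 lc_g_rc_37_1 lc_g_rc_50_2 lc_g_rc_47_2 lc_g_rc_16_1 lc_g_rc_50_2 lc_g_rc_7_1 lc_g_rc_7_3 lc_g_rc_48_0) (@D3.rec (fun _ => (Cert rels S Gen.g)) lc_g_rc_37_1 lc_g_rc_47_2 lc_g_rc_16_1 lc_g_rc_37_1 lc_g_rc_47_2 lc_g_Cert_tree lc_g_rc_7_1 lc_g_rc_7_1 lc_g_rc_31_1 lc_g_rc_47_2 lc_g_rc_31_1 lc_g_rc_50_2 lc_g_rc_31_1 lc_g_rc_50_2 lc_g_rc_47_0 lc_g_rc_31_1 lc_g_rc_50_2 lc_g_Cert_tree lc_g_rc_50_2 lc_g_rc_7_1 lc_g_rc_48_0 lc_g_rc_50_2 lc_g_rc_47_2 lc_g_rc_50_2 lc_g_rc_31_1 lc_g_rc_31_1 lc_g_rc_47_2 lc_g_rc_31_1 lc_g_rc_50_2 lc_g_Cert_tree lc_g_rc_24_1 lc_g_rc_24_1 lc_g_rc_31_1 lc_g_rc_50_2 lc_g_rc_24_1 lc_g_rc_37_1 lc_g_rc_50_2 lc_g_rc_31_1 lc_g_rc_50_2 lc_g_rc_37_1 lc_g_rc_50_2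 lc_g_rc_50_2 lc_g_rc_47_2 lc_g_rc_48_0 lc_g_rc_49_4 lc_g_rc_44_3 lc_g_rc_16_1 lc_g_rc_24_1 lc_g_rc_50_2 lc_g_rc_24_1 lc_g_rc_50_2) (@D3.rec (fun _ => (Cert rels S Gen.g)) lc_g_rc_16_1 lc_g_rc_24_1 lc_g_rc_50_2 lc_g_rc_50_2 lc_g_rc_50_2 lc_g_rc_16_1 lc_g_rc_24_1 lc_g_rc_7_1 lc_g_rc_16_1 lc_g_rc_16_3 lc_g_rc_48_0 lc_g_rc_16_1 lc_g_rc_7_3 lc_g_rc_47_2 lc_g_rc_31_1 lc_g_rc_50_2 lc_g_rc_50_2 lc_g_rc_49_2 lc_g_rc_50_2 lc_g_rc_24_1 lc_g_rc_16_1 lc_g_rc_44_3 lc_g_rc_31_1 lc_g_rc_44_3 lc_g_rc_7_1 lc_g_rc_31_1 lc_g_rc_50_2 lc_g_rc_49_2 lc_g_rc_50_2 lc_g_Cert_tree lc_g_rc_50_2 lc_g_rc_24_1 lc_g_rc_48_0 lc_g_rc_50_2 lc_g_rc_7_1 lc_g_rc_48_0 lc_g_rc_7_1 lc_g_rc_7_1 lc_g_rc_47_0 lc_g_rc_44_3 lc_g_rc_47_2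 lc_g_rc_31_1 lc_g_rc_50_2 lc_g_rc_37_1 lc_g_rc_50_2 lc_g_rc_48_0 lc_g_rc_44_3 lc_g_rc_31_1 lc_g_rc_24_1 lc_g_rc_31_1 lc_g_rc_50_2) (@D3.rec (fun _ => (Cert rels S Gen.g)) lc_g_rc_24_1 lc_g_rc_37_1 lc_g_rc_50_2 lc_g_rc_49_2 lc_g_rc_16_3 lc_g_rc_24_1 lc_g_Cert_tree lc_g_rc_50_2 lc_g_rc_47_2 lc_g_Cert_tree lc_g_rc_50_2 lc_g_rc_47_2 lc_g_rc_48_0 lc_g_rc_50_2 lc_g_rc_47_2 lc_g_rc_49_2 lc_g_rc_50_2 lc_g_rc_47_2 lc_g_rc_50_2 lc_g_rc_24_1 lc_g_rc_31_1 lc_g_rc_24_1 lc_g_rc_47_2 lc_g_rc_47_2 lc_g_rc_37_1 lc_g_Cert_tree lc_g_rc_44_3 lc_g_rc_16_1 lc_g_rc_31_1 lc_g_rc_50_2 lc_g_rc_24_1 lc_g_rc_37_1 lc_g_rc_50_2 lc_g_rc_48_0 lc_g_rc_48_1 lc_g_rc_31_1 lc_g_rc_24_1 lc_g_rc_16_1 lc_g_rc_16_1 lc_g_rc_24_1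 lc_g_rc_37_1 lc_g_rc_50_2 lc_g_rc_16_1 lc_g_rc_24_1 lc_g_rc_24_1 lc_g_rc_50_2 lc_g_rc_47_2 lc_g_rc_16_1 lc_g_rc_16_1 lc_g_rc_44_3 lc_g_rc_50_2) (@D3.rec (fun _ => (Cert rels S Gen.g)) lc_g_rc_47_2 lc_g_rc_47_2 lc_g_rc_47_2 lc_g_rc_37_1 lc_g_rc_50_2 lc_g_rc_24_1 lc_g_rc_24_3 lc_g_rc_31_1 lc_g_rc_24_1 lc_g_rc_16_1 lc_g_rc_16_1 lc_g_rc_24_1 lc_g_rc_47_2 lc_g_rc_7_1 lc_g_rc_16_1 lc_g_rc_47_2 lc_g_rc_50_2 lc_g_rc_49_4 lc_g_rc_49_4 lc_g_rc_16_1 lc_g_rc_37_1 lc_g_rc_24_1 lc_g_rc_50_2 lc_g_rc_44_3 lc_g_rc_24_1 lc_g_rc_47_2 lc_g_rc_16_1 lc_g_rc_47_2 lc_g_rc_50_2 lc_g_rc_16_1 lc_g_rc_31_1 lc_g_rc_16_1 lc_g_rc_7_1 lc_g_rc_47_2 lc_g_rc_31_1 lc_g_rc_50_2 lc_g_Cert_tree lc_g_rc_16_1 lc_g_rc_7_1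 lc_g_rc_31_1 lc_g_rc_50_2 lc_g_rc_24_1 lc_g_rc_37_1 lc_g_rc_50_2 lc_g_rc_7_1 lc_g_rc_37_1 lc_g_rc_50_2 lc_g_rc_24_1 lc_g_rc_50_2 lc_g_rc_47_2 lc_g_rc_24_1) (@D3.rec (fun _ => (Cert rels S Gen.g)) lc_g_rc_31_1 lc_g_rc_49_4 lc_g_rc_7_1 lc_g_rc_7_1 lc_g_rc_31_1 lc_g_rc_50_2 lc_g_rc_24_1 lc_g_rc_37_1 lc_g_rc_50_2 lc_g_rc_48_0 lc_g_rc_48_1 lc_g_rc_7_1 lc_g_rc_7_1 lc_g_rc_7_1 lc_g_rc_7_1 lc_g_rc_24_1 lc_g_rc_37_1 lc_g_rc_50_2 lc_g_rc_24_1 lc_g_Cert_tree lc_g_rc_50_2 lc_g_rc_47_2 lc_g_Cert_tree lc_g_rc_50_2 lc_g_rc_47_2 lc_g_rc_48_0 lc_g_rc_50_2 lc_g_rc_47_2 lc_g_rc_7_1 lc_g_rc_50_2 lc_g_rc_47_2 lc_g_rc_47_2 lc_g_rc_50_2 lc_g_rc_24_1 lc_g_rc_7_1 lc_g_rc_24_1 lc_g_rc_47_2 lc_g_rc_47_2 lc_g_rc_49_2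 lc_g_rc_47_2 lc_g_rc_48_0 lc_g_rc_48_1 lc_g_rc_44_3 lc_g_rc_50_2 lc_g_rc_31_1 lc_g_rc_16_1 lc_g_rc_24_1 lc_g_rc_37_1 lc_g_rc_50_2 lc_g_rc_16_1 lc_g_rc_24_1) (@D3.rec (fun _ => (Cert rels S Gen.g)) lc_g_rc_24_1 lc_g_Cert_tree lc_g_rc_50_2 lc_g_rc_47_2 lc_g_rc_47_2 lc_g_rc_31_1 lc_g_rc_50_2 lc_g_rc_24_1 lc_g_rc_37_1 lc_g_rc_31_1 lc_g_rc_24_1 lc_g_rc_16_1 lc_g_rc_16_1 lc_g_rc_16_1 lc_g_rc_24_1 lc_g_rc_24_1 lc_g_Cert_tree lc_g_rc_50_2 lc_g_rc_47_2 lc_g_rc_7_1 lc_g_rc_16_1 lc_g_rc_16_1 lc_g_Cert_tree lc_g_rc_24_1 lc_g_rc_47_2 lc_g_rc_48_0 lc_g_rc_50_2 lc_g_rc_47_2 lc_g_Cert_tree lc_g_rc_16_1 lc_g_rc_47_2 lc_g_rc_48_0 lc_g_rc_50_2 lc_g_rc_47_2 lc_g_rc_16_1 lc_g_rc_50_2 lc_g_rc_47_2 lc_g_rc_31_1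 lc_g_rc_16_1 lc_g_rc_47_2 lc_g_rc_50_2 lc_g_rc_7_3 lc_g_rc_24_3 lc_g_rc_16_1 lc_g_rc_24_1 lc_g_rc_24_1 lc_g_rc_37_1 lc_g_rc_44_3 lc_g_rc_16_1 lc_g_rc_24_1 lc_g_rc_47_2) (@D3.rec (fun _ => (Cert rels S Gen.g)) lc_g_rc_7_1 lc_g_rc_16_1 lc_g_rc_47_2 lc_g_rc_7_1 lc_g_rc_16_1 lc_g_rc_31_1 lc_g_rc_24_3 lc_g_rc_50_2 lc_g_rc_16_3 lc_g_rc_7_1 lc_g_rc_16_1 lc_g_rc_16_1 lc_g_rc_24_1 lc_g_rc_24_1 lc_g_rc_47_2 lc_g_rc_7_1 lc_g_rc_16_1 lc_g_rc_47_2 lc_g_rc_7_1 lc_g_rc_16_1 lc_g_rc_31_1 lc_g_rc_7_1 lc_g_rc_31_1 lc_g_rc_37_1 lc_g_rc_16_1 lc_g_rc_49_0 lc_g_rc_50_2 lc_g_rc_24_1 lc_g_rc_49_0 lc_g_rc_50_2 lc_g_rc_50_2 lc_g_rc_44_1 lc_g_rc_50_2 lc_g_rc_24_1 lc_g_rc_47_2 lc_g_rc_49_0 lc_g_rc_50_2 lc_g_rc_16_1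 lc_g_rc_31_1 lc_g_rc_50_2 lc_g_rc_50_2 lc_g_rc_49_4 lc_g_rc_16_3 lc_g_rc_47_2 lc_g_rc_48_0 lc_g_rc_48_1 lc_g_rc_16_1 lc_g_rc_47_2 lc_g_rc_50_2 lc_g_rc_48_0 lc_g_rc_48_1) (@D3.rec (fun _ => (Cert rels S Gen.g)) lc_g_rc_24_1 lc_g_rc_7_1 lc_g_rc_47_2 lc_g_rc_31_1 lc_g_rc_50_2 lc_g_rc_7_1 lc_g_rc_50_2 lc_g_rc_49_0 lc_g_rc_50_2 lc_g_rc_47_2 lc_g_Cert_tree lc_g_rc_44_3 lc_g_rc_7_1 lc_g_rc_50_2 lc_g_rc_49_0 lc_g_rc_50_2 lc_g_rc_7_1 lc_g_rc_31_1 lc_g_rc_47_2 lc_g_rc_31_1 lc_g_rc_50_2 lc_g_rc_49_2 lc_g_rc_7_3 lc_g_rc_24_1 lc_g_rc_31_1 lc_g_rc_50_2 lc_g_rc_49_4 lc_g_rc_49_4 lc_g_rc_50_2 lc_g_rc_31_1 lc_g_rc_24_1 lc_g_rc_50_2 lc_g_rc_7_1 lc_g_rc_50_2 lc_g_rc_47_2 lc_g_rc_50_2 lc_g_rc_47_2 lc_g_rc_48_0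 lc_g_rc_7_3 lc_g_rc_7_3 lc_g_rc_31_1 lc_g_rc_16_1 lc_g_rc_50_2 lc_g_rc_49_4 lc_g_rc_50_2 lc_g_rc_47_2 lc_g_rc_31_1 lc_g_rc_47_2 lc_g_rc_49_4 lc_g_rc_7_3 lc_g_rc_24_1) (@D3.rec (fun _ => (Cert rels S Gen.g)) lc_g_rc_44_3 lc_g_rc_16_1 lc_g_rc_47_2 lc_g_rc_31_1 lc_g_rc_50_2 lc_g_rc_50_2 lc_g_rc_7_1 lc_g_rc_47_2 lc_g_rc_31_1 lc_g_rc_50_2 lc_g_Cert_tree lc_g_rc_7_1 lc_g_rc_7_1 lc_g_rc_31_1 lc_g_rc_50_2 lc_g_rc_24_1 lc_g_rc_37_1 lc_g_rc_50_2 lc_g_rc_7_1 lc_g_rc_37_1 lc_g_rc_50_2 lc_g_rc_50_2 lc_g_rc_47_2 lc_g_rc_48_0 lc_g_rc_7_1 lc_g_rc_7_1 lc_g_rc_24_1 lc_g_rc_50_2 lc_g_rc_16_1 lc_g_rc_24_1 lc_g_rc_47_2 lc_g_rc_50_2 lc_g_rc_48_0 lc_g_rc_47_2 lc_g_rc_31_1 lc_g_rc_50_2 lc_g_rc_24_1 lc_g_rc_37_1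 lc_g_rc_50_2 lc_g_rc_48_0 lc_g_rc_31_1 lc_g_rc_24_1 lc_g_rc_31_1 lc_g_rc_24_1 lc_g_rc_24_1 lc_g_rc_37_1 lc_g_rc_50_2 lc_g_rc_16_1 lc_g_rc_24_1 lc_g_rc_24_1 lc_g_Cert_tree) (@D3.rec (fun _ => (Cert rels S Gen.g)) lc_g_rc_50_2 lc_g_rc_47_2 lc_g_rc_50_2 lc_g_rc_47_2 lc_g_rc_48_0 lc_g_rc_50_2 lc_g_rc_47_2 lc_g_rc_49_2 lc_g_rc_50_2 lc_g_rc_31_1 lc_g_rc_24_1 lc_g_rc_47_2 lc_g_rc_24_1 lc_g_rc_16_1 lc_g_rc_47_2 lc_g_rc_50_2 lc_g_rc_31_1 lc_g_rc_16_1 lc_g_rc_31_1 lc_g_rc_50_2 lc_g_rc_50_2 lc_g_rc_7_1 lc_g_rc_31_1 lc_g_rc_50_2 lc_g_rc_50_2 lc_g_rc_50_2 lc_g_rc_37_1 lc_g_rc_50_2 lc_g_rc_49_2 lc_g_rc_50_2 lc_g_rc_47_2 lc_g_rc_50_2 lc_g_rc_47_2 lc_g_rc_44_3 lc_g_rc_44_3 lc_g_rc_24_1 lc_g_rc_50_2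 lc_g_rc_7_1 lc_g_rc_24_1 lc_g_rc_47_2 lc_g_rc_44_1 lc_g_rc_50_2 lc_g_rc_24_1 lc_g_rc_44_3 lc_g_rc_44_3 lc_g_rc_16_1 lc_g_rc_31_1 lc_g_rc_16_1 lc_g_rc_24_1 lc_g_rc_47_2 lc_g_rc_24_1) (@D3.rec (fun _ => (Cert rels S Gen.g)) lc_g_rc_16_1 lc_g_rc_47_2 lc_g_rc_48_0 lc_g_rc_48_1 lc_g_rc_16_1 lc_g_rc_16_1 lc_g_rc_47_2 lc_g_rc_31_1 lc_g_rc_50_2 lc_g_rc_16_1 lc_g_rc_50_2 lc_g_rc_7_1 lc_g_rc_7_1 lc_g_rc_47_2 lc_g_rc_31_1 lc_g_rc_50_2 lc_g_Cert_tree lc_g_rc_7_1 lc_g_rc_7_1 lc_g_rc_31_1 lc_g_rc_50_2 lc_g_rc_24_1 lc_g_rc_37_1 lc_g_rc_50_2 lc_g_rc_7_1 lc_g_rc_37_1 lc_g_rc_50_2 lc_g_rc_50_2 lc_g_rc_47_2 lc_g_rc_48_0 lc_g_rc_48_1 lc_g_rc_7_1 lc_g_rc_7_1 lc_g_rc_7_1 lc_g_rc_24_1 lc_g_rc_50_2 lc_g_rc_7_3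 lc_g_rc_24_1 lc_g_rc_47_2 lc_g_rc_37_1 lc_g_rc_49_4 lc_g_rc_44_3 lc_g_rc_49_2 lc_g_rc_31_1 lc_g_rc_50_2 lc_g_rc_24_1 lc_g_rc_37_1 lc_g_rc_50_2 lc_g_rc_48_0 lc_g_rc_48_1 lc_g_rc_31_1) (@D3.rec (fun _ => (Cert rels S Gen.g)) lc_g_rc_24_1 lc_g_rc_31_1 lc_g_rc_24_1 lc_g_rc_24_1 lc_g_rc_37_1 lc_g_rc_50_2 lc_g_rc_16_1 lc_g_rc_31_1 lc_g_rc_24_1 lc_g_Cert_tree lc_g_rc_50_2 lc_g_rc_47_2 lc_g_rc_31_1 lc_g_Cert_tree lc_g_rc_50_2 lc_g_rc_47_2 lc_g_rc_48_0 lc_g_rc_50_2 lc_g_rc_47_2 lc_g_rc_50_2 lc_g_rc_47_2 lc_g_rc_47_2 lc_g_rc_24_3 lc_g_rc_50_2 lc_g_rc_24_1 lc_g_rc_37_1 lc_g_rc_31_1 lc_g_rc_31_1 lc_g_rc_16_1 lc_g_rc_24_1 lc_g_rc_47_2 lc_g_rc_16_3 lc_g_rc_16_1 lc_g_rc_47_2 lc_g_rc_50_2 lc_g_rc_37_1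 lc_g_rc_44_1 lc_g_rc_44_3 lc_g_rc_24_1 lc_g_rc_50_2 lc_g_rc_37_1 lc_g_rc_44_3 lc_g_rc_7_1 lc_g_rc_16_3 lc_g_rc_16_3 lc_g_rc_7_1 lc_g_rc_16_1 lc_g_rc_47_2 lc_g_rc_7_1 lc_g_rc_16_1 lc_g_rc_37_1) (@D3.rec (fun _ => (Cert rels S Gen.g)) lc_g_rc_48_0 lc_g_rc_44_3 lc_g_rc_49_2 lc_g_rc_47_2 lc_g_rc_31_1 lc_g_rc_50_2 lc_g_rc_44_3 lc_g_rc_37_1 lc_g_rc_16_1 lc_g_rc_31_1 lc_g_rc_50_2 lc_g_rc_24_1 lc_g_rc_50_2 lc_g_rc_50_2 lc_g_rc_7_1 lc_g_rc_49_4 lc_g_rc_7_1 lc_g_rc_7_1 lc_g_rc_31_1 lc_g_rc_50_2 lc_g_rc_24_1 lc_g_rc_37_1 lc_g_rc_50_2 lc_g_rc_48_0 lc_g_rc_48_1 lc_g_rc_7_1 lc_g_rc_7_1 lc_g_rc_7_1 lc_g_rc_7_1 lc_g_rc_24_1 lc_g_rc_37_1 lc_g_rc_50_2 lc_g_rc_16_1 lc_g_rc_24_1 lc_g_rc_24_1 lc_g_rc_50_2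 lc_g_rc_47_2 lc_g_rc_49_2 lc_g_rc_50_2 lc_g_rc_44_3 lc_g_rc_50_2 lc_g_rc_47_2 lc_g_rc_47_2 lc_g_rc_47_2 lc_g_rc_44_3 lc_g_rc_50_2 lc_g_rc_24_1 lc_g_rc_7_1 lc_g_rc_7_1 lc_g_rc_49_2 lc_g_rc_50_2) (@D3.rec (fun _ => (Cert rels S Gen.g)) lc_g_rc_16_1 lc_g_rc_24_1 lc_g_rc_47_2 lc_g_rc_7_1 lc_g_rc_16_1 lc_g_rc_47_2 lc_g_rc_37_3 lc_g_rc_37_1 lc_g_rc_48_0 lc_g_rc_48_1 lc_g_rc_44_3 lc_g_rc_50_2 lc_g_rc_47_2 lc_g_rc_50_2 lc_g_rc_24_1 lc_g_rc_37_1 lc_g_rc_50_2 lc_g_rc_16_1 lc_g_rc_24_1 lc_g_rc_24_1 lc_g_Cert_tree lc_g_rc_50_2 lc_g_rc_47_2 lc_g_rc_47_2 lc_g_rc_31_1 lc_g_rc_50_2 lc_g_rc_24_1 lc_g_rc_37_1 lc_g_rc_31_1 lc_g_rc_7_3 lc_g_rc_37_1 lc_g_rc_31_1 lc_g_rc_16_1 lc_g_rc_24_1 lc_g_rc_24_1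 lc_g_Cert_tree lc_g_rc_50_2 lc_g_rc_47_2 lc_g_rc_7_1 lc_g_rc_16_1 lc_g_rc_16_1 lc_g_Cert_tree lc_g_rc_24_1 lc_g_rc_47_2 lc_g_rc_48_0 lc_g_rc_50_2 lc_g_rc_47_2 lc_g_rc_16_1 lc_g_rc_50_2 lc_g_rc_16_1 lc_g_rc_48_0) (@D3.rec (fun _ => (Cert rels S Gen.g)) lc_g_rc_50_2 lc_g_rc_47_2 lc_g_rc_49_2 lc_g_rc_50_2 lc_g_rc_47_2 lc_g_rc_31_1 lc_g_rc_50_2 lc_g_rc_47_2 lc_g_rc_50_2 lc_g_rc_7_3 lc_g_rc_37_1 lc_g_rc_50_2 lc_g_rc_16_1 lc_g_rc_24_1 lc_g_rc_24_1 lc_g_rc_37_1 lc_g_rc_44_3 lc_g_rc_7_3 lc_g_rc_31_3 lc_g_rc_7_1 lc_g_rc_16_1 lc_g_rc_47_2 lc_g_rc_7_1 lc_g_rc_16_1 lc_g_rc_31_1 lc_g_rc_37_1 lc_g_rc_24_1 lc_g_rc_7_1 lc_g_rc_16_1 lc_g_rc_16_1 lc_g_rc_24_1 lc_g_rc_24_1 lc_g_rc_47_2 lc_g_rc_7_1 lc_g_rc_16_1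 lc_g_rc_7_1 lc_g_rc_24_3 lc_g_rc_50_2 lc_g_rc_16_1 lc_g_rc_37_1 lc_g_rc_50_2 lc_g_rc_50_2 lc_g_rc_47_2 lc_g_rc_7_3 lc_g_rc_24_1 lc_g_Cert_tree lc_g_rc_50_2 lc_g_rc_47_2 lc_g_rc_48_0 lc_g_rc_50_2 lc_g_rc_47_2) (@D3.rec (fun _ => (Cert rels S Gen.g)) lc_g_rc_50_2 lc_g_rc_47_2 lc_g_rc_31_1 lc_g_rc_44_3 lc_g_rc_37_1 lc_g_rc_44_3 lc_g_rc_16_1 lc_g_rc_31_1 lc_g_rc_50_2 lc_g_rc_24_1 lc_g_rc_50_2 lc_g_rc_16_1 lc_g_rc_48_0 lc_g_rc_48_1 lc_g_rc_7_1 lc_g_rc_7_1 lc_g_rc_7_1 lc_g_rc_7_1 lc_g_rc_37_1 lc_g_rc_50_2 lc_g_rc_50_2 lc_g_rc_47_2 lc_g_rc_7_1 lc_g_rc_7_1 lc_g_rc_44_3 lc_g_rc_50_2 lc_g_rc_47_2 lc_g_rc_47_2 lc_g_rc_47_2 lc_g_rc_50_2 lc_g_rc_49_4 lc_g_rc_47_2 lc_g_rc_48_0 lc_g_rc_48_1 lc_g_rc_44_3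 lc_g_rc_50_2 lc_g_rc_31_1 lc_g_rc_50_2 lc_g_rc_37_1 lc_g_rc_50_2 lc_g_rc_50_2 lc_g_rc_47_2 lc_g_rc_47_2 lc_g_rc_31_1 lc_g_rc_50_2 lc_g_rc_24_1 lc_g_rc_37_1 lc_g_rc_31_1 lc_g_rc_24_1 lc_g_rc_49_2 lc_g_rc_49_2) (@D3.rec (fun _ => (Cert rels S Gen.g)) lc_g_rc_16_1 lc_g_rc_24_1 lc_g_rc_24_1 lc_g_Cert_tree lc_g_rc_50_2 lc_g_rc_47_2 lc_g_rc_16_1 lc_g_rc_24_1 lc_g_rc_47_2 lc_g_rc_48_0 lc_g_rc_50_2 lc_g_rc_47_2 lc_g_Cert_tree lc_g_rc_49_2 lc_g_rc_47_2 lc_g_rc_48_0 lc_g_rc_50_2 lc_g_rc_47_2 lc_g_rc_49_2 lc_g_rc_50_2 lc_g_rc_47_2 lc_g_rc_31_1 lc_g_rc_49_2 lc_g_rc_47_2 lc_g_rc_31_1 lc_g_rc_50_2 lc_g_rc_24_1 lc_g_rc_24_3 lc_g_rc_50_2 lc_g_rc_16_1 lc_g_rc_24_1 lc_g_rc_24_1 lc_g_rc_37_1 lc_g_rc_24_1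 lc_g_rc_16_1 lc_g_rc_50_2 lc_g_rc_47_2 lc_g_rc_44_3 lc_g_rc_47_2 lc_g_rc_16_1 lc_g_rc_16_1 lc_g_rc_31_1 lc_g_rc_37_1 lc_g_rc_49_4 lc_g_rc_16_1 lc_g_rc_16_1 lc_g_rc_31_1 lc_g_rc_50_2 lc_g_rc_50_2 lc_g_rc_48_0 lc_g_rc_48_1) (@D3.rec (fun _ => (Cert rels S Gen.g)) lc_g_rc_31_1 lc_g_rc_7_3 lc_g_rc_16_1 lc_g_rc_16_1 lc_g_rc_24_1 lc_g_rc_50_2 lc_g_rc_24_1 lc_g_rc_47_2 lc_g_rc_37_3 lc_g_rc_7_1 lc_g_rc_48_0 lc_g_rc_48_1 lc_g_rc_7_1 lc_g_rc_7_1 lc_g_rc_31_1 lc_g_rc_7_1 lc_g_rc_37_1 lc_g_rc_50_2 lc_g_rc_50_2 lc_g_rc_47_2 lc_g_rc_47_2 lc_g_rc_31_1 lc_g_rc_50_2 lc_g_rc_24_1 lc_g_rc_7_1 lc_g_rc_7_1 lc_g_rc_24_1 lc_g_rc_7_1 lc_g_rc_7_1 lc_g_rc_16_1 lc_g_rc_24_1 lc_g_rc_24_1 lc_g_rc_44_3 lc_g_rc_50_2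 lc_g_rc_47_2 lc_g_rc_16_1 lc_g_rc_24_1 lc_g_rc_47_2 lc_g_rc_47_2 lc_g_Cert_tree lc_g_rc_7_1 lc_g_rc_47_2 lc_g_rc_31_3 lc_g_rc_47_2 lc_g_rc_31_1 lc_g_rc_31_1 lc_g_rc_50_2 lc_g_rc_24_1 lc_g_rc_37_1 lc_g_rc_50_2 lc_g_rc_16_1) (@D3.rec (fun _ => (Cert rels S Gen.g)) lc_g_rc_24_1 lc_g_rc_24_1 lc_g_rc_7_1 lc_g_rc_24_1 lc_g_rc_7_1 lc_g_rc_16_1 lc_g_rc_7_1 lc_g_rc_48_0 lc_g_rc_48_1 lc_g_rc_31_1 lc_g_rc_50_2 lc_g_rc_47_2 lc_g_rc_31_1 lc_g_rc_50_2 lc_g_rc_24_1 lc_g_rc_47_2 lc_g_rc_50_2 lc_g_rc_44_5 lc_g_rc_37_1 lc_g_rc_31_1 lc_g_rc_16_1 lc_g_rc_24_1 lc_g_rc_24_1 lc_g_Cert_tree lc_g_rc_50_2 lc_g_rc_47_2 lc_g_rc_16_1 lc_g_Cert_tree lc_g_rc_24_1 lc_g_rc_47_2 lc_g_rc_48_0 lc_g_rc_50_2 lc_g_rc_47_2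 lc_g_rc_31_1 lc_g_rc_50_2 lc_g_rc_24_1 lc_g_rc_37_1 lc_g_rc_50_2 lc_g_rc_16_1 lc_g_rc_24_1 lc_g_rc_24_1 lc_g_Cert_tree lc_g_rc_37_1 lc_g_rc_44_3 lc_g_rc_16_1 lc_g_rc_24_1 lc_g_rc_24_1 lc_g_Cert_tree lc_g_rc_49_2 lc_g_rc_44_5 lc_g_rc_7_1) (@D3.rec (fun _ => (Cert rels S Gen.g)) lc_g_rc_16_1 lc_g_rc_16_1 lc_g_Cert_tree lc_g_rc_24_1 lc_g_rc_47_2 lc_g_rc_48_0 lc_g_rc_50_2 lc_g_rc_47_2 lc_g_rc_7_1 lc_g_Cert_tree lc_g_rc_16_1 lc_g_rc_16_1 lc_g_rc_48_0 lc_g_rc_50_2 lc_g_rc_47_2 lc_g_rc_31_1 lc_g_rc_49_2 lc_g_rc_50_2 lc_g_rc_47_2 lc_g_rc_31_1 lc_g_rc_48_0 lc_g_rc_50_2 lc_g_rc_47_2 lc_g_rc_49_2 lc_g_rc_50_2 lc_g_rc_47_2 lc_g_rc_31_1 lc_g_rc_49_2 lc_g_rc_47_2 lc_g_rc_31_1 lc_g_rc_24_1 lc_g_rc_47_2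 lc_g_rc_24_1 lc_g_rc_37_1 lc_g_rc_50_2 lc_g_rc_16_1 lc_g_rc_24_1 lc_g_rc_24_1 lc_g_rc_50_2 lc_g_rc_47_2 lc_g_rc_7_1 lc_g_rc_16_1 lc_g_rc_16_1 lc_g_rc_31_1 lc_g_rc_24_1 lc_g_rc_24_1 lc_g_rc_47_2 lc_g_rc_49_2 lc_g_rc_16_1 lc_g_rc_44_5 lc_g_rc_7_1) (@D3.rec (fun _ => (Cert rels S Gen.g)) lc_g_rc_16_1 lc_g_rc_31_1 lc_g_rc_7_1 lc_g_rc_31_1 lc_g_rc_37_1 lc_g_rc_16_1 lc_g_rc_24_1 lc_g_rc_50_2 lc_g_rc_47_2 lc_g_rc_24_3 lc_g_rc_24_3 lc_g_rc_24_3 lc_g_rc_24_3 lc_g_rc_7_1 lc_g_rc_24_1 lc_g_rc_24_3 lc_g_rc_24_3 lc_g_rc_50_2 lc_g_rc_37_1 lc_g_rc_47_0 lc_g_rc_7_1 lc_g_rc_16_1 lc_g_rc_49_2 lc_g_rc_7_1 lc_g_rc_31_1 lc_g_rc_37_1 lc_g_rc_48_0 lc_g_rc_48_1 lc_g_rc_31_1 lc_g_rc_50_2 lc_g_rc_47_2 lc_g_rc_50_2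 lc_g_rc_31_1 lc_g_rc_31_1 lc_g_rc_7_1 lc_g_rc_24_3 lc_g_rc_24_1 lc_g_rc_37_1 lc_g_rc_24_1 lc_g_rc_7_1 lc_g_rc_16_1 lc_g_rc_31_1 lc_g_rc_47_2 lc_g_rc_31_1 lc_g_rc_50_2 lc_g_rc_24_1 lc_g_rc_31_1 lc_g_rc_31_1 lc_g_rc_50_2 lc_g_rc_7_1 lc_g_rc_24_3) (@D3.rec (fun _ => (Cert rels S Gen.g)) lc_g_rc_16_1 lc_g_rc_24_1 lc_g_rc_24_1 lc_g_rc_50_2 lc_g_rc_16_1 lc_g_rc_49_2 lc_g_rc_7_1 lc_g_rc_16_1 lc_g_rc_7_1 lc_g_rc_24_1 lc_g_rc_7_1 lc_g_rc_7_1 lc_g_rc_16_1 lc_g_rc_31_1 lc_g_rc_16_1 lc_g_rc_24_1 lc_g_rc_24_1 lc_g_rc_16_1 lc_g_rc_49_2 lc_g_rc_49_4 lc_g_rc_50_2 lc_g_rc_50_0 lc_g_rc_47_2 lc_g_rc_50_2 lc_g_rc_50_0 lc_g_rc_31_1 lc_g_rc_31_1 lc_g_rc_7_1 lc_g_rc_16_1 lc_g_rc_49_2 lc_g_rc_7_1 lc_g_rc_31_1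 lc_g_rc_37_1 lc_g_rc_24_3 lc_g_rc_24_1 lc_g_rc_7_1 lc_g_rc_16_1 lc_g_rc_7_1 lc_g_rc_37_3 lc_g_rc_50_2 lc_g_rc_50_2 lc_g_rc_37_3 lc_g_rc_50_2 lc_g_rc_31_1 lc_g_rc_50_2 lc_g_rc_50_2 lc_g_rc_50_2 lc_g_rc_50_2 lc_g_rc_7_1 lc_g_rc_7_3 lc_g_rc_7_3) (@D3.rec (fun _ => (Cert rels S Gen.g)) lc_g_rc_24_1 lc_g_rc_50_2 lc_g_rc_44_3 lc_g_rc_47_0 lc_g_rc_24_1 lc_g_rc_49_4 lc_g_rc_7_3 lc_g_rc_47_2 lc_g_rc_50_2 lc_g_rc_49_2 lc_g_rc_50_2 lc_g_rc_24_1 lc_g_rc_24_1 lc_g_rc_7_3 lc_g_rc_50_2 lc_g_rc_44_3 lc_g_rc_31_1 lc_g_rc_50_2 lc_g_rc_31_1 lc_g_rc_50_2 lc_g_rc_31_1 lc_g_rc_24_1 lc_g_rc_50_2 lc_g_rc_50_2 lc_g_rc_47_2 lc_g_rc_50_2 lc_g_rc_16_1 lc_g_rc_31_1 lc_g_rc_50_2 lc_g_rc_50_2 lc_g_rc_7_1 lc_g_rc_7_1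 lc_g_rc_37_1 lc_g_rc_50_2 lc_g_rc_50_2 lc_g_rc_47_2 lc_g_rc_44_3 lc_g_rc_50_2 lc_g_rc_47_2 lc_g_rc_7_1 lc_g_rc_50_2 lc_g_rc_7_1 lc_g_rc_7_1 lc_g_rc_47_2 lc_g_rc_44_3 lc_g_rc_50_2 lc_g_rc_50_2 lc_g_Cert_tree lc_g_rc_24_3 lc_g_rc_47_2 lc_g_rc_47_2) (@D3.rec (fun _ => (Cert rels S Gen.g)) lc_g_rc_31_1 lc_g_rc_50_2 lc_g_rc_24_1 lc_g_rc_37_1 lc_g_rc_31_1 lc_g_rc_7_1 lc_g_rc_24_3 lc_g_rc_16_1 lc_g_rc_24_1 lc_g_rc_24_1 lc_g_Cert_tree lc_g_rc_50_2 lc_g_rc_47_2 lc_g_rc_16_1 lc_g_rc_16_1 lc_g_Cert_tree lc_g_rc_24_1 lc_g_rc_47_2 lc_g_rc_48_0 lc_g_rc_50_2 lc_g_rc_47_2 lc_g_rc_48_0 lc_g_rc_50_2 lc_g_rc_49_2 lc_g_rc_50_2 lc_g_rc_50_2 lc_g_rc_50_2 lc_g_rc_49_2 lc_g_rc_50_2 lc_g_rc_44_3 lc_g_rc_24_1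 lc_g_rc_24_1 lc_g_rc_50_2 lc_g_rc_7_3 lc_g_rc_7_3 lc_g_rc_16_1 lc_g_rc_47_2 lc_g_rc_16_1 lc_g_rc_31_1 lc_g_rc_44_3 lc_g_rc_50_2 lc_g_rc_49_2 lc_g_rc_7_3 lc_g_rc_7_1 lc_g_rc_16_1 lc_g_rc_7_1 lc_g_rc_7_3 lc_g_rc_16_3 lc_g_rc_7_1 lc_g_rc_16_1 lc_g_rc_47_2) (@D3.rec (fun _ => (Cert rels S Gen.g)) lc_g_rc_7_1 lc_g_rc_16_1 lc_g_rc_31_1 lc_g_rc_47_2 lc_g_rc_37_1 lc_g_rc_44_3 lc_g_rc_50_2 lc_g_rc_31_1 lc_g_rc_16_1 lc_g_rc_50_2 lc_g_rc_47_2 lc_g_rc_31_1 lc_g_rc_24_1 lc_g_rc_24_1 lc_g_rc_37_1 lc_g_rc_31_1 lc_g_rc_24_1 lc_g_rc_16_1 lc_g_rc_16_1 lc_g_rc_24_1 lc_g_rc_47_2 lc_g_rc_7_1 lc_g_rc_16_1 lc_g_rc_47_2 lc_g_rc_16_1 lc_g_rc_24_1 lc_g_rc_44_3 lc_g_rc_16_1 lc_g_rc_24_1 lc_g_rc_47_2 lc_g_rc_7_1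 lc_g_rc_16_1 lc_g_rc_47_2 lc_g_rc_7_1 lc_g_rc_16_1 lc_g_rc_31_1 lc_g_rc_37_3 lc_g_rc_16_1 lc_g_rc_24_1 lc_g_rc_7_1 lc_g_rc_16_1 lc_g_rc_47_2 lc_g_rc_7_1 lc_g_rc_16_1 lc_g_rc_31_1 lc_g_rc_7_1 lc_g_rc_31_1 lc_g_rc_44_1 lc_g_rc_16_1 lc_g_rc_50_2 lc_g_rc_37_1)
def ce_g_11 : D2 → D3 → (Cert rels S Gen.g) := @D2.rec (fun _ => D3 → (Cert rels S Gen.g)) (@D3.rec (fun _ => (Cert rels S Gen.g)) lc_g_rc_16_1 lc_g_rc_16_1 lc_g_rc_16_1 lc_g_rc_16_1 lc_g_rc_50_2 lc_g_rc_47_2 lc_g_rc_7_1 lc_g_rc_7_1 lc_g_rc_7_1 lc_g_rc_7_1 lc_g_rc_24_1 lc_g_rc_50_2 lc_g_rc_24_1 lc_g_rc_47_2 lc_g_rc_47_2 lc_g_rc_31_1 lc_g_rc_50_2 lc_g_rc_24_1 lc_g_rc_7_1 lc_g_rc_7_1 lc_g_rc_7_1 lc_g_rc_7_1 lc_g_rc_7_1 lc_g_rc_16_1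 lc_g_rc_24_1 lc_g_rc_24_1 lc_g_rc_44_3 lc_g_rc_50_2 lc_g_rc_47_2 lc_g_rc_16_1 lc_g_rc_24_1 lc_g_rc_47_2 lc_g_rc_47_2 lc_g_rc_37_1 lc_g_rc_7_1 lc_g_rc_7_3 lc_g_rc_31_1 lc_g_rc_50_2 lc_g_rc_24_1 lc_g_rc_37_1 lc_g_rc_50_2 lc_g_rc_31_3 lc_g_rc_7_1 lc_g_rc_24_1 lc_g_rc_24_3 lc_g_rc_7_1 lc_g_rc_16_1 lc_g_rc_7_1 lc_g_rc_7_1 lc_g_rc_7_1 lc_g_rc_16_1) (@D3.rec (fun _ => (Cert rels S Gen.g)) lc_g_rc_47_2 lc_g_rc_7_1 lc_g_rc_16_1 lc_g_rc_31_1 lc_g_rc_31_1 lc_g_rc_50_2 lc_g_rc_47_2 lc_g_rc_31_1 lc_g_rc_50_2 lc_g_rc_24_1 lc_g_rc_47_2 lc_g_rc_50_2 lc_g_rc_47_2 lc_g_rc_31_1 lc_g_rc_16_1 lc_g_rc_24_1 lc_g_rc_24_1 lc_g_Cert_tree lc_g_rc_50_2 lc_g_rc_47_2 lc_g_rc_16_1 lc_g_rc_16_1 lc_g_rc_24_1 lc_g_rc_47_2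 lc_g_rc_48_0 lc_g_rc_50_2 lc_g_rc_47_2 lc_g_rc_31_1 lc_g_rc_50_2 lc_g_rc_24_1 lc_g_rc_37_1 lc_g_rc_50_2 lc_g_rc_16_1 lc_g_rc_24_1 lc_g_rc_24_1 lc_g_Cert_tree lc_g_rc_37_1 lc_g_rc_44_3 lc_g_rc_16_1 lc_g_rc_24_1 lc_g_rc_24_1 lc_g_rc_47_2 lc_g_rc_16_1 lc_g_rc_47_2 lc_g_rc_7_1 lc_g_rc_16_1 lc_g_rc_16_1 lc_g_Cert_tree lc_g_rc_24_1 lc_g_rc_47_2 lc_g_rc_48_0) (@D3.rec (fun _ => (Cert rels S Gen.g)) lc_g_rc_50_2 lc_g_rc_47_2 lc_g_rc_7_1 lc_g_rc_7_1 lc_g_Cert_tree lc_g_rc_16_1 lc_g_rc_16_1 lc_g_rc_48_0 lc_g_rc_50_2 lc_g_rc_47_2 lc_g_rc_31_1 lc_g_rc_16_1 lc_g_rc_50_2 lc_g_rc_47_2 lc_g_rc_37_1 lc_g_rc_37_1 lc_g_rc_50_2 lc_g_rc_16_1 lc_g_rc_24_1 lc_g_rc_50_2 lc_g_rc_50_0 lc_g_rc_37_1 lc_g_rc_24_1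 lc_g_rc_37_1 lc_g_rc_47_2 lc_g_rc_7_1 lc_g_rc_16_1 lc_g_rc_16_1 lc_g_rc_31_1 lc_g_rc_24_1 lc_g_rc_24_1 lc_g_rc_47_2 lc_g_rc_49_2 lc_g_rc_16_1 lc_g_rc_47_2 lc_g_rc_7_1 lc_g_rc_16_1 lc_g_rc_31_1 lc_g_rc_7_1 lc_g_rc_31_1 lc_g_rc_37_1 lc_g_rc_47_2 lc_g_rc_31_1 lc_g_rc_50_2 lc_g_rc_31_1 lc_g_rc_49_2 lc_g_rc_7_1 lc_g_rc_16_1 lc_g_rc_16_1 lc_g_rc_49_2 lc_g_rc_24_1) (@D3.rec (fun _ => (Cert rels S Gen.g)) lc_g_rc_31_1 lc_g_rc_7_1 lc_g_rc_16_1 lc_g_rc_7_1 lc_g_rc_31_1 lc_g_rc_47_2 lc_g_rc_50_2 lc_g_rc_31_1 lc_g_rc_50_2 lc_g_rc_24_1 lc_g_rc_50_2 lc_g_rc_31_3 lc_g_rc_24_1 lc_g_rc_31_3 lc_g_rc_16_1 lc_g_rc_50_2 lc_g_rc_50_2 lc_g_rc_16_1 lc_g_rc_16_1 lc_g_rc_50_2 lc_g_rc_47_2 lc_g_rc_31_3 lc_g_rc_47_2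 lc_g_rc_50_2 lc_g_rc_7_1 lc_g_rc_7_1 lc_g_rc_7_1 lc_g_rc_50_2 lc_g_rc_50_2 lc_g_rc_47_2 lc_g_rc_47_2 lc_g_rc_50_2 lc_g_rc_47_2 lc_g_rc_7_3 lc_g_rc_47_2 lc_g_rc_50_2 lc_g_rc_24_3 lc_g_rc_47_2 lc_g_rc_49_4 lc_g_rc_37_1 lc_g_rc_31_1 lc_g_rc_16_1 lc_g_rc_24_1 lc_g_rc_47_2 lc_g_rc_31_1 lc_g_rc_37_1 lc_g_rc_16_1 lc_g_rc_44_3 lc_g_rc_50_2 lc_g_rc_47_2 lc_g_rc_48_0) (@D3.rec (fun _ => (Cert rels S Gen.g)) lc_g_rc_50_2 lc_g_rc_24_3 lc_g_rc_49_2 lc_g_rc_50_2 lc_g_rc_50_2 lc_g_rc_50_2 lc_g_rc_31_3 lc_g_rc_16_1 lc_g_rc_47_2 lc_g_rc_50_2 lc_g_rc_16_1 lc_g_rc_31_1 lc_g_rc_24_1 lc_g_rc_16_1 lc_g_rc_7_1 lc_g_rc_16_1 lc_g_rc_7_1 lc_g_rc_7_1 lc_g_rc_31_1 lc_g_rc_50_2 lc_g_rc_50_2 lc_g_rc_44_3 lc_g_rc_7_1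 lc_g_rc_7_1 lc_g_rc_49_2 lc_g_rc_47_0 lc_g_rc_24_1 lc_g_rc_50_2 lc_g_rc_24_1 lc_g_rc_47_2 lc_g_rc_50_2 lc_g_rc_24_1 lc_g_rc_7_1 lc_g_rc_16_1 lc_g_rc_24_1 lc_g_rc_47_2 lc_g_rc_16_1 lc_g_rc_16_1 lc_g_rc_47_2 lc_g_rc_44_3 lc_g_rc_50_2 lc_g_rc_24_1 lc_g_rc_50_2 lc_g_rc_24_1 lc_g_rc_24_1 lc_g_rc_50_2 lc_g_rc_47_2 lc_g_rc_16_1 lc_g_rc_50_2 lc_g_rc_24_1 lc_g_rc_37_1) (@D3.rec (fun _ => (Cert rels S Gen.g)) lc_g_rc_31_1 lc_g_rc_50_2 lc_g_rc_24_1 lc_g_rc_24_1 lc_g_rc_31_1 lc_g_rc_50_2 lc_g_rc_47_2 lc_g_rc_49_2 lc_g_rc_7_3 lc_g_rc_7_3 lc_g_rc_24_1 lc_g_rc_47_2 lc_g_rc_47_2 lc_g_rc_37_1 lc_g_rc_24_1 lc_g_rc_24_1 lc_g_rc_37_1 lc_g_rc_44_3 lc_g_rc_47_2 lc_g_rc_50_2 lc_g_rc_44_5 lc_g_rc_31_1 lc_g_rc_47_2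 lc_g_rc_31_3 lc_g_rc_7_3 lc_g_rc_16_3 lc_g_rc_7_1 lc_g_rc_7_1 lc_g_rc_24_1 lc_g_rc_50_2 lc_g_rc_47_2 lc_g_rc_24_1 lc_g_rc_47_2 lc_g_rc_47_2 lc_g_rc_31_1 lc_g_rc_50_2 lc_g_rc_24_1 lc_g_rc_7_1 lc_g_rc_7_1 lc_g_rc_31_1 lc_g_rc_24_1 lc_g_rc_47_2 lc_g_rc_37_1 lc_g_rc_50_2 lc_g_rc_47_2 lc_g_rc_31_1 lc_g_rc_50_2 lc_g_rc_50_2 lc_g_rc_24_1 lc_g_rc_7_1 lc_g_rc_7_1) (@D3.rec (fun _ => (Cert rels S Gen.g)) lc_g_rc_37_1 lc_g_rc_47_2 lc_g_rc_50_2 lc_g_rc_16_1 lc_g_rc_31_1 lc_g_rc_24_1 lc_g_rc_47_2 lc_g_rc_50_2 lc_g_rc_16_1 lc_g_rc_24_1 lc_g_rc_47_2 lc_g_rc_49_2 lc_g_rc_16_1 lc_g_rc_31_1 lc_g_rc_7_3 lc_g_rc_47_2 lc_g_rc_48_0 lc_g_rc_31_3 lc_g_rc_31_1 lc_g_rc_50_2 lc_g_rc_24_1 lc_g_rc_37_1 lc_g_rc_50_2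 lc_g_rc_16_1 lc_g_rc_24_1 lc_g_rc_24_1 lc_g_Cert_tree lc_g_rc_37_1 lc_g_rc_44_3 lc_g_rc_49_2 lc_g_rc_50_2 lc_g_rc_37_1 lc_g_rc_7_1 lc_g_rc_16_1 lc_g_rc_16_1 lc_g_Cert_tree lc_g_rc_24_1 lc_g_rc_47_2 lc_g_rc_48_0 lc_g_rc_50_2 lc_g_rc_47_2 lc_g_rc_31_1 lc_g_rc_7_1 lc_g_rc_47_2 lc_g_rc_16_1 lc_g_rc_16_1 lc_g_rc_48_0 lc_g_rc_50_2 lc_g_rc_47_2 lc_g_rc_31_1 lc_g_rc_37_3) (@D3.rec (fun _ => (Cert rels S Gen.g)) lc_g_rc_50_2 lc_g_rc_47_2 lc_g_rc_44_1 lc_g_rc_50_2 lc_g_rc_50_2 lc_g_rc_24_1 lc_g_rc_50_2 lc_g_rc_7_1 lc_g_rc_24_1 lc_g_rc_24_3 lc_g_rc_47_2 lc_g_rc_7_1 lc_g_rc_16_1 lc_g_rc_16_1 lc_g_rc_31_1 lc_g_rc_24_1 lc_g_rc_24_1 lc_g_rc_47_2 lc_g_rc_50_2 lc_g_rc_16_3 lc_g_rc_7_1 lc_g_rc_16_1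 lc_g_rc_31_1 lc_g_rc_7_1 lc_g_rc_31_1 lc_g_rc_37_1 lc_g_rc_47_2 lc_g_rc_24_1 lc_g_rc_31_1 lc_g_rc_24_3 lc_g_rc_49_2 lc_g_rc_44_1 lc_g_rc_7_1 lc_g_rc_7_1 lc_g_rc_47_0 lc_g_rc_16_1 lc_g_rc_16_1 lc_g_rc_50_2 lc_g_rc_24_1 lc_g_rc_50_2 lc_g_rc_24_3 lc_g_rc_7_1 lc_g_rc_31_1 lc_g_rc_37_1 lc_g_rc_7_1 lc_g_rc_24_1 lc_g_rc_37_1 lc_g_rc_16_1 lc_g_rc_47_2 lc_g_rc_31_1 lc_g_rc_50_2) (@D3.rec (fun _ => (Cert rels S Gen.g)) lc_g_rc_7_1 lc_g_rc_7_1 lc_g_rc_7_1 lc_g_rc_47_2 lc_g_rc_50_2 lc_g_rc_31_1 lc_g_rc_50_2 lc_g_rc_47_2 lc_g_rc_31_1 lc_g_rc_50_2 lc_g_rc_47_2 lc_g_rc_50_2 lc_g_rc_37_1 lc_g_rc_31_1 lc_g_rc_31_1 lc_g_rc_50_2 lc_g_rc_47_2 lc_g_rc_47_2 lc_g_rc_31_1 lc_g_rc_50_2 lc_g_rc_24_1 lc_g_rc_37_1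 lc_g_rc_50_2 lc_g_rc_16_1 lc_g_rc_24_1 lc_g_rc_24_1 lc_g_rc_37_1 lc_g_rc_37_1 lc_g_rc_44_3 lc_g_rc_16_1 lc_g_rc_24_1 lc_g_rc_24_1 lc_g_Cert_tree lc_g_rc_49_2 lc_g_rc_47_2 lc_g_rc_16_1 lc_g_rc_16_1 lc_g_rc_44_3 lc_g_rc_24_1 lc_g_rc_47_2 lc_g_rc_7_3 lc_g_rc_47_2 lc_g_rc_16_1 lc_g_rc_16_1 lc_g_rc_47_2 lc_g_rc_48_0 lc_g_rc_50_2 lc_g_rc_24_1 lc_g_rc_50_2 lc_g_rc_37_1 lc_g_rc_49_4) (@D3.rec (fun _ => (Cert rels S Gen.g)) lc_g_rc_24_1 lc_g_rc_47_2 lc_g_rc_44_3 lc_g_rc_37_1 lc_g_rc_16_1 lc_g_rc_31_1 lc_g_rc_24_1 lc_g_rc_7_1 lc_g_rc_16_1 lc_g_rc_7_1 lc_g_rc_31_1 lc_g_rc_7_1 lc_g_rc_47_0 lc_g_rc_44_3 lc_g_rc_7_1 lc_g_rc_16_1 lc_g_rc_7_1 lc_g_rc_31_1 lc_g_rc_16_1 lc_g_rc_16_1 lc_g_rc_31_1 lc_g_rc_7_1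 lc_g_rc_37_3 lc_g_rc_50_2 lc_g_rc_7_1 lc_g_rc_7_1 lc_g_rc_31_1 lc_g_rc_47_2 lc_g_rc_31_1 lc_g_rc_50_2 lc_g_rc_24_1 lc_g_rc_37_1 lc_g_rc_50_2 lc_g_rc_16_1 lc_g_rc_24_1 lc_g_rc_24_1 lc_g_rc_7_1 lc_g_rc_7_1 lc_g_rc_16_1 lc_g_rc_24_1 lc_g_rc_44_5 lc_g_rc_7_1 lc_g_rc_16_1 lc_g_rc_47_2 lc_g_rc_7_1 lc_g_rc_16_1 lc_g_rc_24_1 lc_g_rc_50_2 lc_g_rc_49_4 lc_g_rc_50_0 lc_g_rc_24_1) (@D3.rec (fun _ => (Cert rels S Gen.g)) lc_g_rc_24_3 lc_g_rc_7_1 lc_g_rc_16_1 lc_g_rc_16_1 lc_g_rc_31_1 lc_g_rc_24_1 lc_g_rc_49_2 lc_g_rc_16_1 lc_g_rc_7_1 lc_g_rc_44_3 lc_g_rc_24_1 lc_g_rc_31_1 lc_g_rc_31_1 lc_g_rc_31_1 lc_g_rc_50_2 lc_g_rc_24_1 lc_g_rc_37_1 lc_g_rc_50_2 lc_g_rc_16_1 lc_g_rc_24_1 lc_g_rc_24_1 lc_g_Cert_tree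 lc_g_rc_50_2 lc_g_rc_50_2 lc_g_rc_16_1 lc_g_rc_47_2 lc_g_rc_49_2 lc_g_rc_37_1 lc_g_rc_47_2 lc_g_rc_7_1 lc_g_rc_16_1 lc_g_rc_16_1 lc_g_Cert_tree lc_g_rc_24_1 lc_g_rc_47_2 lc_g_rc_48_0 lc_g_rc_50_2 lc_g_rc_47_2 lc_g_rc_7_1 lc_g_rc_16_1 lc_g_rc_16_1 lc_g_rc_48_0 lc_g_rc_50_2 lc_g_rc_47_2 lc_g_rc_47_2 lc_g_rc_50_2 lc_g_rc_47_2 lc_g_rc_24_1 lc_g_rc_37_1 lc_g_rc_50_2 lc_g_rc_31_1) (@D3.rec (fun _ => (Cert rels S Gen.g)) lc_g_rc_24_1 lc_g_rc_24_1 lc_g_Cert_tree lc_g_rc_50_2 lc_g_rc_47_2 lc_g_rc_7_1 lc_g_rc_16_1 lc_g_rc_16_1 lc_g_rc_31_1 lc_g_Cert_tree lc_g_rc_24_1 lc_g_rc_24_1 lc_g_rc_48_0 lc_g_rc_50_2 lc_g_rc_47_2 lc_g_rc_49_2 lc_g_rc_16_1 lc_g_rc_16_1 lc_g_rc_31_1 lc_g_rc_24_1 lc_g_rc_44_5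 lc_g_rc_48_0 lc_g_rc_50_2 lc_g_rc_44_5 lc_g_rc_7_1 lc_g_rc_7_1 lc_g_Cert_tree lc_g_rc_16_1 lc_g_rc_16_1 lc_g_rc_48_0 lc_g_rc_50_2 lc_g_rc_47_2 lc_g_rc_31_1 lc_g_rc_49_2 lc_g_rc_50_2 lc_g_rc_47_2 lc_g_rc_7_1 lc_g_rc_7_1 lc_g_rc_48_0 lc_g_rc_50_2 lc_g_rc_16_1 lc_g_rc_31_1 lc_g_rc_24_1 lc_g_rc_50_2 lc_g_rc_47_2 lc_g_rc_31_1 lc_g_rc_37_1 lc_g_rc_49_2 lc_g_rc_47_2 lc_g_rc_49_2 lc_g_rc_50_2) (@D3.rec (fun _ => (Cert rels S Gen.g)) lc_g_rc_50_2 lc_g_rc_24_1 lc_g_rc_47_2 lc_g_rc_7_3 lc_g_rc_44_3 lc_g_rc_50_2 lc_g_rc_7_1 lc_g_rc_16_1 lc_g_rc_47_2 lc_g_rc_31_1 lc_g_rc_31_1 lc_g_rc_50_2 lc_g_rc_31_1 lc_g_rc_7_1 lc_g_rc_31_1 lc_g_rc_37_1 lc_g_rc_47_2 lc_g_rc_7_1 lc_g_rc_31_1 lc_g_rc_50_2 lc_g_rc_7_1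 lc_g_rc_24_1 lc_g_rc_31_1 lc_g_rc_47_2 lc_g_rc_7_1 lc_g_rc_31_1 lc_g_rc_50_2 lc_g_rc_16_1 lc_g_rc_24_1 lc_g_rc_24_1 lc_g_rc_31_1 lc_g_rc_47_2 lc_g_rc_24_1 lc_g_rc_50_2 lc_g_rc_50_0 lc_g_rc_50_0 lc_g_rc_24_1 lc_g_rc_24_3 lc_g_rc_7_1 lc_g_rc_16_1 lc_g_rc_16_1 lc_g_rc_31_1 lc_g_rc_24_1 lc_g_rc_49_2 lc_g_rc_16_1 lc_g_rc_7_1 lc_g_rc_47_2 lc_g_rc_50_2 lc_g_rc_37_1 lc_g_rc_37_1 lc_g_rc_16_1) (@D3.rec (fun _ => (Cert rels S Gen.g)) lc_g_rc_31_1 lc_g_rc_50_2 lc_g_rc_50_2 lc_g_rc_47_2 lc_g_rc_16_1 lc_g_rc_7_1 lc_g_rc_31_1 lc_g_rc_37_1 lc_g_rc_16_1 lc_g_rc_16_1 lc_g_rc_24_1 lc_g_rc_31_1 lc_g_rc_31_1 lc_g_rc_16_1 lc_g_rc_31_1 lc_g_rc_7_1 lc_g_rc_31_1 lc_g_rc_37_1 lc_g_rc_7_1 lc_g_rc_24_1 lc_g_rc_37_1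 lc_g_rc_50_2 lc_g_rc_7_1 lc_g_rc_31_1 lc_g_rc_16_3 lc_g_rc_7_3 lc_g_rc_37_1 lc_g_rc_7_3 lc_g_rc_16_1 lc_g_rc_48_0 lc_g_rc_50_2 lc_g_rc_50_2 lc_g_rc_7_1 lc_g_rc_47_2 lc_g_rc_50_2 lc_g_rc_50_2 lc_g_rc_49_2 lc_g_rc_50_2 lc_g_rc_50_2 lc_g_rc_50_2 lc_g_rc_50_2 lc_g_rc_50_2 lc_g_rc_50_2 lc_g_rc_16_1 lc_g_rc_16_1 lc_g_rc_16_1 lc_g_rc_44_5 lc_g_rc_31_1 lc_g_rc_24_1 lc_g_rc_24_1 lc_g_rc_7_1) (@D3.rec (fun _ => (Cert rels S Gen.g)) lc_g_rc_31_1 lc_g_rc_37_1 lc_g_rc_7_1 lc_g_rc_24_1 lc_g_rc_37_1 lc_g_Cert_tree lc_g_rc_37_1 lc_g_rc_44_3 lc_g_rc_7_1 lc_g_rc_7_1 lc_g_rc_16_1 lc_g_rc_16_1 lc_g_rc_37_1 lc_g_rc_7_1 lc_g_rc_16_1 lc_g_rc_37_1 lc_g_rc_7_1 lc_g_rc_24_1 lc_g_rc_37_1 lc_g_rc_16_3 lc_g_rc_37_1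 lc_g_rc_24_1 lc_g_rc_7_1 lc_g_rc_31_1 lc_g_rc_48_0 lc_g_rc_7_1 lc_g_rc_16_1 lc_g_rc_24_1 lc_g_rc_7_1 lc_g_rc_16_1 lc_g_rc_24_1 lc_g_rc_7_1 lc_g_rc_16_1 lc_g_rc_31_1 lc_g_rc_7_1 lc_g_rc_31_1 lc_g_rc_37_1 lc_g_rc_47_2 lc_g_rc_7_1 lc_g_rc_16_1 lc_g_rc_16_1 lc_g_rc_16_1 lc_g_rc_44_5 lc_g_rc_31_1 lc_g_rc_31_1 lc_g_rc_31_1 lc_g_rc_31_1 lc_g_rc_37_1 lc_g_rc_7_1 lc_g_rc_7_1 lc_g_Cert_tree) (@D3.rec (fun _ => (Cert rels S Gen.g)) lc_g_rc_16_1 lc_g_rc_16_1 lc_g_Cert_tree lc_g_rc_44_5 lc_g_rc_31_1 lc_g_rc_48_0 lc_g_rc_50_2 lc_g_rc_24_1 lc_g_rc_31_1 lc_g_rc_50_2 lc_g_rc_47_2 lc_g_rc_31_1 lc_g_rc_49_2 lc_g_rc_16_1 lc_g_rc_16_1 lc_g_rc_7_1 lc_g_rc_24_1 lc_g_rc_24_3 lc_g_rc_7_3 lc_g_rc_7_1 lc_g_rc_7_1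 lc_g_rc_48_0 lc_g_rc_50_2 lc_g_rc_16_1 lc_g_rc_37_1 lc_g_rc_50_2 lc_g_rc_47_2 lc_g_rc_31_1 lc_g_rc_37_1 lc_g_rc_37_1 lc_g_rc_47_2 lc_g_rc_48_0 lc_g_rc_50_2 lc_g_rc_7_1 lc_g_rc_16_1 lc_g_rc_50_2 lc_g_rc_47_2 lc_g_rc_31_1 lc_g_rc_24_1 lc_g_rc_47_2 lc_g_rc_31_1 lc_g_rc_37_1 lc_g_rc_50_2 lc_g_rc_50_2 lc_g_rc_44_5 lc_g_rc_31_3 lc_g_rc_50_2 lc_g_rc_7_1 lc_g_rc_31_1 lc_g_rc_24_1 lc_g_rc_31_1) (@D3.rec (fun _ => (Cert rels S Gen.g)) lc_g_rc_16_1 lc_g_rc_24_1 lc_g_rc_44_5 lc_g_rc_7_3 lc_g_rc_50_2 lc_g_rc_49_2 lc_g_rc_31_1 lc_g_rc_44_5 lc_g_rc_24_1 lc_g_rc_44_5 lc_g_rc_7_1 lc_g_rc_7_1 lc_g_rc_16_1 lc_g_rc_24_1 lc_g_rc_48_0 lc_g_rc_50_2 lc_g_rc_47_2 lc_g_rc_48_0 lc_g_rc_50_2 lc_g_rc_7_1 lc_g_rc_48_0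 lc_g_rc_50_2 lc_g_rc_37_1 lc_g_rc_24_3 lc_g_rc_50_2 lc_g_rc_47_2 lc_g_rc_31_1 lc_g_rc_16_3 lc_g_rc_16_1 lc_g_rc_7_1 lc_g_rc_50_2 lc_g_rc_47_2 lc_g_rc_37_1 lc_g_rc_48_0 lc_g_rc_50_2 lc_g_rc_47_2 lc_g_rc_24_1 lc_g_rc_50_2 lc_g_rc_47_2 lc_g_rc_24_1 lc_g_rc_47_2 lc_g_rc_31_1 lc_g_rc_24_1 lc_g_rc_16_1 lc_g_rc_47_2 lc_g_rc_16_1 lc_g_rc_7_1 lc_g_rc_44_3 lc_g_rc_24_1 lc_g_rc_7_1 lc_g_rc_16_1) (@D3.rec (fun _ => (Cert rels S Gen.g)) lc_g_rc_47_2 lc_g_rc_7_1 lc_g_rc_16_1 lc_g_rc_31_1 lc_g_rc_7_1 lc_g_rc_31_1 lc_g_rc_16_3 lc_g_rc_44_3 lc_g_rc_50_2 lc_g_rc_24_1 lc_g_rc_31_1 lc_g_rc_50_2 lc_g_rc_7_1 lc_g_rc_37_1 lc_g_rc_50_2 lc_g_rc_31_1 lc_g_rc_37_1 lc_g_rc_50_2 lc_g_rc_50_2 lc_g_rc_31_1 lc_g_rc_7_1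 lc_g_rc_37_1 lc_g_rc_50_2 lc_g_rc_16_1 lc_g_rc_50_2 lc_g_rc_48_0 lc_g_rc_50_2 lc_g_rc_7_1 lc_g_rc_47_2 lc_g_rc_31_1 lc_g_rc_50_2 lc_g_rc_47_2 lc_g_rc_50_2 lc_g_rc_50_2 lc_g_rc_50_2 lc_g_Cert_tree lc_g_rc_50_2 lc_g_rc_47_2 lc_g_rc_48_0 lc_g_rc_50_2 lc_g_rc_7_1 lc_g_rc_49_2 lc_g_rc_50_2 lc_g_rc_31_1 lc_g_rc_44_1 lc_g_rc_44_3 lc_g_rc_31_1 lc_g_rc_50_2 lc_g_rc_37_3 lc_g_rc_37_1 lc_g_rc_50_2) (@D3.rec (fun _ => (Cert rels S Gen.g)) lc_g_rc_48_0 lc_g_rc_49_4 lc_g_rc_31_1 lc_g_rc_24_1 lc_g_rc_31_1 lc_g_rc_50_2 lc_g_rc_24_1 lc_g_rc_37_1 lc_g_rc_50_2 lc_g_rc_16_1 lc_g_rc_24_1 lc_g_rc_24_1 lc_g_rc_50_2 lc_g_rc_47_2 lc_g_rc_7_3 lc_g_rc_50_2 lc_g_rc_44_3 lc_g_rc_50_2 lc_g_rc_47_2 lc_g_rc_47_2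 lc_g_rc_50_2 lc_g_rc_44_3 lc_g_rc_50_2 lc_g_rc_16_1 lc_g_rc_24_1 lc_g_rc_7_1 lc_g_rc_16_1 lc_g_rc_7_3 lc_g_rc_7_1 lc_g_rc_16_1 lc_g_rc_7_1 lc_g_rc_7_3 lc_g_rc_49_2 lc_g_rc_7_3 lc_g_rc_16_1 lc_g_rc_31_1 lc_g_rc_50_2 lc_g_rc_49_2 lc_g_rc_50_2 lc_g_rc_50_2 lc_g_rc_24_1 lc_g_rc_24_1 lc_g_rc_7_1 lc_g_rc_7_1 lc_g_rc_50_2 lc_g_Cert_tree lc_g_rc_50_2 lc_g_rc_47_2 lc_g_rc_48_0 lc_g_rc_50_2 lc_g_rc_16_3) (@D3.rec (fun _ => (Cert rels S Gen.g)) lc_g_rc_7_1 lc_g_rc_50_2 lc_g_rc_47_2 lc_g_rc_44_1 lc_g_rc_44_3 lc_g_rc_50_2 lc_g_rc_31_1 lc_g_rc_50_2 lc_g_rc_37_1 lc_g_rc_50_2 lc_g_Cert_tree lc_g_rc_50_2 lc_g_rc_47_2 lc_g_rc_44_3 lc_g_rc_50_2 lc_g_rc_24_1 lc_g_rc_37_1 lc_g_rc_31_1 lc_g_rc_50_2 lc_g_rc_24_1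 lc_g_Cert_tree lc_g_rc_50_2 lc_g_rc_47_2 lc_g_rc_50_2 lc_g_Cert_tree lc_g_rc_31_1 lc_g_rc_47_2 lc_g_rc_48_0 lc_g_rc_50_2 lc_g_rc_47_2 lc_g_rc_48_0 lc_g_rc_50_2 lc_g_rc_47_2 lc_g_rc_16_3 lc_g_rc_50_2 lc_g_rc_47_2 lc_g_rc_31_1 lc_g_rc_50_2 lc_g_rc_47_2 lc_g_rc_24_1 lc_g_rc_49_2 lc_g_rc_47_2 lc_g_rc_48_0 lc_g_rc_48_1 lc_g_rc_44_3 lc_g_rc_50_2 lc_g_rc_31_1 lc_g_rc_16_1 lc_g_rc_24_1 lc_g_rc_37_1 lc_g_rc_50_2) (@D3.rec (fun _ => (Cert rels S Gen.g)) lc_g_rc_24_1 lc_g_rc_50_2 lc_g_rc_47_2 lc_g_rc_47_2 lc_g_rc_31_1 lc_g_rc_50_2 lc_g_rc_24_1 lc_g_rc_37_1 lc_g_rc_31_1 lc_g_rc_24_1 lc_g_rc_16_1 lc_g_rc_16_1 lc_g_rc_16_1 lc_g_rc_24_1 lc_g_rc_24_1 lc_g_rc_44_3 lc_g_rc_50_2 lc_g_rc_47_2 lc_g_rc_16_1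 lc_g_rc_24_1 lc_g_rc_47_2 lc_g_rc_47_2 lc_g_Cert_tree lc_g_rc_16_1 lc_g_rc_47_2 lc_g_rc_31_3 lc_g_rc_47_2 lc_g_rc_31_1 lc_g_rc_50_2 lc_g_rc_37_1 lc_g_rc_37_1 lc_g_rc_16_1 lc_g_rc_7_1 lc_g_rc_24_1 lc_g_rc_24_3 lc_g_rc_44_3 lc_g_rc_24_1 lc_g_rc_47_2 lc_g_rc_16_1 lc_g_rc_47_2 lc_g_rc_7_1 lc_g_rc_16_1 lc_g_rc_31_1 lc_g_rc_50_2 lc_g_rc_49_4 lc_g_rc_24_3 lc_g_rc_16_1 lc_g_rc_50_2 lc_g_rc_24_1 lc_g_rc_16_3 lc_g_rc_47_2) (@D3.rec (fun _ => (Cert rels S Gen.g)) lc_g_rc_16_1 lc_g_rc_31_1 lc_g_rc_7_1 lc_g_rc_31_1 lc_g_rc_37_1 lc_g_rc_49_2 lc_g_rc_16_1 lc_g_rc_7_1 lc_g_rc_31_1 lc_g_rc_50_2 lc_g_rc_50_2 lc_g_rc_48_0 lc_g_rc_48_1 lc_g_rc_16_1 lc_g_rc_16_1 lc_g_rc_7_1 lc_g_rc_7_1 lc_g_rc_24_1 lc_g_rc_37_1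 lc_g_rc_50_2 lc_g_rc_24_1 lc_g_rc_50_2 lc_g_rc_47_2 lc_g_rc_44_3 lc_g_rc_50_2 lc_g_rc_47_2 lc_g_rc_37_3 lc_g_rc_47_2 lc_g_rc_37_1 lc_g_rc_49_4 lc_g_rc_7_1 lc_g_rc_7_1 lc_g_rc_7_1 lc_g_rc_7_1 lc_g_rc_24_1 lc_g_rc_37_1 lc_g_rc_50_2 lc_g_rc_24_1 lc_g_rc_50_2 lc_g_rc_47_2 lc_g_rc_47_2 lc_g_rc_31_1 lc_g_rc_50_2 lc_g_rc_24_1 lc_g_rc_7_1 lc_g_rc_7_1 lc_g_rc_7_1 lc_g_rc_24_1 lc_g_Cert_tree lc_g_rc_50_2 lc_g_rc_47_2) (@D3.rec (fun _ => (Cert rels S Gen.g)) lc_g_rc_47_2 lc_g_rc_48_0 lc_g_rc_50_2 lc_g_rc_47_2 lc_g_rc_48_0 lc_g_rc_50_2 lc_g_rc_47_2 lc_g_rc_7_1 lc_g_rc_50_2 lc_g_rc_47_2 lc_g_rc_31_1 lc_g_rc_7_1 lc_g_rc_47_2 lc_g_rc_50_2 lc_g_rc_24_1 lc_g_rc_7_1 lc_g_rc_47_2 lc_g_rc_31_1 lc_g_rc_7_1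 lc_g_rc_31_1 lc_g_rc_50_2 lc_g_rc_47_2 lc_g_rc_31_1 lc_g_rc_50_2 lc_g_rc_24_1 lc_g_rc_47_2 lc_g_rc_50_2 lc_g_rc_47_2 lc_g_rc_37_1 lc_g_rc_31_1 lc_g_rc_16_1 lc_g_rc_24_1 lc_g_rc_24_1 lc_g_Cert_tree lc_g_rc_50_2 lc_g_rc_47_2 lc_g_rc_16_1 lc_g_rc_24_1 lc_g_rc_47_2 lc_g_rc_48_0 lc_g_rc_50_2 lc_g_rc_47_2 lc_g_rc_31_1 lc_g_rc_50_2 lc_g_rc_7_3 lc_g_rc_37_1 lc_g_rc_50_2 lc_g_rc_16_1 lc_g_rc_24_1 lc_g_rc_24_1 lc_g_Cert_tree) (@D3.rec (fun _ => (Cert rels S Gen.g)) lc_g_rc_37_1 lc_g_rc_44_3 lc_g_rc_16_1 lc_g_rc_24_1 lc_g_Cert_tree lc_g_rc_16_1 lc_g_rc_47_2 lc_g_rc_7_1 lc_g_rc_16_1 lc_g_rc_16_1 lc_g_Cert_tree lc_g_rc_24_1 lc_g_rc_47_2 lc_g_rc_48_0 lc_g_rc_50_2 lc_g_rc_47_2 lc_g_rc_7_1 lc_g_rc_16_1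 lc_g_rc_16_1 lc_g_rc_48_0 lc_g_rc_50_2 lc_g_rc_47_2 lc_g_rc_31_1 lc_g_rc_16_1 lc_g_rc_50_2 lc_g_rc_47_2 lc_g_rc_31_1 lc_g_rc_48_0 lc_g_rc_50_2 lc_g_rc_47_2 lc_g_rc_49_2 lc_g_rc_50_2 lc_g_rc_47_2 lc_g_rc_31_1 lc_g_rc_16_1 lc_g_rc_47_2 lc_g_rc_31_1 lc_g_rc_24_1 lc_g_rc_47_2 lc_g_rc_16_1 lc_g_rc_7_3 lc_g_rc_24_3 lc_g_rc_7_1 lc_g_rc_16_1 lc_g_rc_16_1 lc_g_rc_31_1 lc_g_rc_24_1 lc_g_rc_24_1 lc_g_rc_47_2 lc_g_rc_49_2 lc_g_rc_16_1) (@D3.rec (fun _ => (Cert rels S Gen.g)) lc_g_rc_47_2 lc_g_rc_7_1 lc_g_rc_16_1 lc_g_rc_31_1 lc_g_rc_7_1 lc_g_rc_31_1 lc_g_rc_37_1 lc_g_rc_31_1 lc_g_rc_24_3 lc_g_rc_16_3 lc_g_rc_31_1 lc_g_rc_7_1 lc_g_rc_16_1 lc_g_rc_16_1 lc_g_rc_24_1 lc_g_rc_31_1 lc_g_rc_7_1 lc_g_rc_16_1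 lc_g_rc_49_2 lc_g_rc_7_1 lc_g_rc_31_1 lc_g_rc_37_1 lc_g_rc_50_2 lc_g_rc_47_2 lc_g_rc_50_2 lc_g_rc_50_2 lc_g_rc_24_3 lc_g_rc_47_2 lc_g_rc_50_2 lc_g_rc_16_3 lc_g_rc_31_1 lc_g_rc_47_2 lc_g_rc_50_2 lc_g_rc_24_1 lc_g_rc_16_1 lc_g_rc_47_2 lc_g_rc_31_1 lc_g_rc_50_2 lc_g_rc_16_1 lc_g_rc_50_2 lc_g_rc_7_1 lc_g_rc_47_2 lc_g_rc_31_1 lc_g_rc_50_2 lc_g_rc_49_2 lc_g_rc_44_3 lc_g_rc_7_1 lc_g_rc_31_1 lc_g_rc_50_2 lc_g_rc_49_0 lc_g_rc_49_0) (@D3.rec (fun _ => (Cert rels S Gen.g)) lc_g_rc_50_2 lc_g_rc_7_1 lc_g_rc_50_2 lc_g_rc_7_3 lc_g_rc_48_0 lc_g_rc_49_2 lc_g_rc_50_2 lc_g_rc_7_1 lc_g_rc_50_2 lc_g_rc_7_3 lc_g_rc_31_1 lc_g_rc_50_2 lc_g_rc_24_1 lc_g_rc_24_1 lc_g_rc_50_2 lc_g_rc_7_3 lc_g_rc_44_3 lc_g_rc_7_3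 lc_g_rc_31_1 lc_g_rc_24_1 lc_g_rc_50_2 lc_g_rc_49_4 lc_g_rc_50_2 lc_g_rc_31_1 lc_g_rc_50_2 lc_g_rc_47_2 lc_g_rc_31_1 lc_g_rc_47_2 lc_g_rc_50_2 lc_g_rc_24_1 lc_g_rc_7_1 lc_g_rc_31_1 lc_g_rc_47_2 lc_g_rc_50_2 lc_g_rc_24_1 lc_g_rc_50_2 lc_g_rc_31_1 lc_g_rc_44_3 lc_g_rc_44_3 lc_g_rc_31_1 lc_g_rc_50_2 lc_g_rc_47_2 lc_g_rc_50_2 lc_g_rc_7_1 lc_g_rc_31_1 lc_g_rc_50_2 lc_g_rc_24_1 lc_g_rc_7_3 lc_g_rc_50_2 lc_g_rc_48_0 lc_g_rc_7_1) (@D3.rec (fun _ => (Cert rels S Gen.g)) lc_g_rc_7_1 lc_g_rc_7_1 lc_g_rc_7_1 lc_g_rc_24_1 lc_g_rc_37_1 lc_g_rc_50_2 lc_g_rc_16_1 lc_g_rc_16_1 lc_g_rc_24_1 lc_g_rc_50_2 lc_g_rc_47_2 lc_g_rc_31_3 lc_g_rc_50_2 lc_g_rc_47_2 lc_g_rc_47_2 lc_g_rc_16_1 lc_g_rc_24_1 lc_g_rc_47_2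 lc_g_rc_16_1 lc_g_rc_47_2 lc_g_rc_49_2 lc_g_rc_49_0 lc_g_rc_50_2 lc_g_rc_47_2 lc_g_rc_50_2 lc_g_rc_24_1 lc_g_rc_37_1 lc_g_rc_50_2 lc_g_rc_16_1 lc_g_rc_24_1 lc_g_rc_24_1 lc_g_rc_16_3 lc_g_rc_50_2 lc_g_rc_47_2 lc_g_rc_37_1 lc_g_rc_31_1 lc_g_rc_31_1 lc_g_rc_24_1 lc_g_rc_24_1 lc_g_rc_50_2 lc_g_rc_47_2 lc_g_rc_24_1 lc_g_rc_16_1 lc_g_rc_16_1 lc_g_rc_24_3 lc_g_rc_24_1 lc_g_rc_47_2 lc_g_rc_48_0 lc_g_rc_50_2 lc_g_rc_47_2 lc_g_rc_47_2)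
def ce_g_12 : D2 → D3 → (Cert rels S Gen.g) := @D2.rec (fun _ => D3 → (Cert rels S Gen.g)) (@D3.rec (fun _ => (Cert rels S Gen.g)) lc_g_rc_49_2 lc_g_rc_50_2 lc_g_rc_37_1 lc_g_rc_31_1 lc_g_rc_47_2 lc_g_rc_24_1 lc_g_rc_37_1 lc_g_rc_31_1 lc_g_rc_31_1 lc_g_rc_16_1 lc_g_rc_50_2 lc_g_rc_47_2 lc_g_rc_50_2 lc_g_rc_47_2 lc_g_rc_24_3 lc_g_rc_50_2 lc_g_rc_47_2 lc_g_rc_50_2 lc_g_rc_47_2 lc_g_rc_7_1 lc_g_rc_31_1 lc_g_rc_44_3 lc_g_rc_24_1 lc_g_rc_47_2 lc_g_rc_50_2 lc_g_rc_47_2 lc_g_rc_50_2 lc_g_rc_24_1 lc_g_rc_44_3 lc_g_rc_44_3 lc_g_rc_16_1 lc_g_rc_16_1 lc_g_rc_16_1 lc_g_rc_47_2 lc_g_rc_50_2 lc_g_rc_16_1 lc_g_rc_37_1 lc_g_rc_47_2 lc_g_rc_50_2 lc_g_rc_49_2 lc_g_rc_44_3 lc_g_rc_16_1 lc_g_rc_31_1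 lc_g_rc_50_2 lc_g_rc_50_2 lc_g_rc_50_2 lc_g_rc_44_1 lc_g_rc_7_1 lc_g_rc_47_2 lc_g_rc_31_1 lc_g_rc_50_2) (@D3.rec (fun _ => (Cert rels S Gen.g)) lc_g_rc_24_1 lc_g_rc_37_1 lc_g_rc_50_2 lc_g_rc_48_0 lc_g_rc_48_1 lc_g_rc_7_1 lc_g_rc_7_1 lc_g_rc_31_1 lc_g_rc_7_1 lc_g_rc_24_1 lc_g_rc_37_1 lc_g_rc_50_2 lc_g_rc_31_1 lc_g_rc_24_1 lc_g_rc_50_2 lc_g_rc_47_2 lc_g_rc_7_3 lc_g_rc_50_2 lc_g_rc_47_2 lc_g_rc_47_2 lc_g_rc_47_2 lc_g_rc_50_2 lc_g_rc_24_1 lc_g_rc_7_1 lc_g_rc_24_1 lc_g_rc_47_2 lc_g_rc_50_2 lc_g_rc_47_2 lc_g_rc_37_1 lc_g_rc_7_3 lc_g_rc_44_3 lc_g_rc_50_2 lc_g_rc_47_2 lc_g_rc_49_2 lc_g_rc_24_1 lc_g_rc_37_1 lc_g_rc_50_2 lc_g_rc_16_1 lc_g_rc_47_2 lc_g_rc_24_1 lc_g_Cert_tree lc_g_rc_50_2 lc_g_rc_47_2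 lc_g_rc_47_2 lc_g_rc_31_1 lc_g_rc_50_2 lc_g_rc_24_1 lc_g_rc_37_1 lc_g_rc_31_1 lc_g_rc_31_1 lc_g_rc_16_1) (@D3.rec (fun _ => (Cert rels S Gen.g)) lc_g_rc_24_1 lc_g_Cert_tree lc_g_rc_50_2 lc_g_rc_47_2 lc_g_rc_31_1 lc_g_rc_31_1 lc_g_rc_16_1 lc_g_Cert_tree lc_g_rc_50_2 lc_g_rc_47_2 lc_g_rc_48_0 lc_g_rc_50_2 lc_g_rc_47_2 lc_g_rc_7_1 lc_g_rc_48_0 lc_g_rc_50_2 lc_g_rc_47_2 lc_g_rc_50_2 lc_g_rc_47_2 lc_g_rc_31_1 lc_g_rc_47_2 lc_g_rc_50_2 lc_g_rc_31_1 lc_g_rc_24_3 lc_g_rc_7_3 lc_g_rc_24_1 lc_g_rc_24_1 lc_g_rc_37_1 lc_g_rc_44_3 lc_g_rc_7_1 lc_g_rc_16_1 lc_g_rc_47_2 lc_g_rc_50_2 lc_g_rc_16_1 lc_g_rc_31_1 lc_g_rc_49_4 lc_g_rc_44_3 lc_g_rc_44_3 lc_g_rc_37_1 lc_g_rc_50_2 lc_g_rc_37_1 lc_g_rc_24_1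 lc_g_rc_47_2 lc_g_rc_7_1 lc_g_rc_7_1 lc_g_rc_16_1 lc_g_rc_7_1 lc_g_rc_24_3 lc_g_rc_44_3 lc_g_rc_49_2 lc_g_rc_31_1) (@D3.rec (fun _ => (Cert rels S Gen.g)) lc_g_rc_50_2 lc_g_rc_50_2 lc_g_rc_47_2 lc_g_rc_31_1 lc_g_rc_37_1 lc_g_rc_31_1 lc_g_rc_50_2 lc_g_rc_24_1 lc_g_rc_50_2 lc_g_rc_16_1 lc_g_rc_24_1 lc_g_rc_47_2 lc_g_rc_37_1 lc_g_rc_37_1 lc_g_rc_49_4 lc_g_rc_7_1 lc_g_rc_7_1 lc_g_rc_7_1 lc_g_rc_7_1 lc_g_rc_24_1 lc_g_rc_37_1 lc_g_rc_50_2 lc_g_rc_16_1 lc_g_rc_24_1 lc_g_rc_24_1 lc_g_rc_50_2 lc_g_rc_47_2 lc_g_rc_47_2 lc_g_rc_31_1 lc_g_rc_50_2 lc_g_rc_24_1 lc_g_rc_7_1 lc_g_rc_7_1 lc_g_rc_49_2 lc_g_rc_37_1 lc_g_rc_7_1 lc_g_rc_16_1 lc_g_rc_24_1 lc_g_rc_24_1 lc_g_rc_31_1 lc_g_rc_50_2 lc_g_rc_47_2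 lc_g_rc_7_1 lc_g_rc_24_1 lc_g_rc_16_1 lc_g_rc_24_1 lc_g_rc_47_2 lc_g_rc_47_2 lc_g_Cert_tree lc_g_rc_50_2 lc_g_rc_16_1) (@D3.rec (fun _ => (Cert rels S Gen.g)) lc_g_rc_37_1 lc_g_rc_47_2 lc_g_rc_31_1 lc_g_rc_50_2 lc_g_rc_49_2 lc_g_rc_24_1 lc_g_rc_50_2 lc_g_rc_16_1 lc_g_rc_24_1 lc_g_rc_7_1 lc_g_rc_7_1 lc_g_rc_16_1 lc_g_rc_50_2 lc_g_rc_31_1 lc_g_rc_7_1 lc_g_rc_16_1 lc_g_rc_47_2 lc_g_rc_7_1 lc_g_rc_16_1 lc_g_rc_31_1 lc_g_rc_37_3 lc_g_rc_47_2 lc_g_rc_37_1 lc_g_rc_47_2 lc_g_rc_31_1 lc_g_rc_50_2 lc_g_rc_24_1 lc_g_rc_47_2 lc_g_rc_50_2 lc_g_rc_24_1 lc_g_rc_47_2 lc_g_rc_50_2 lc_g_rc_16_1 lc_g_rc_24_1 lc_g_rc_24_1 lc_g_Cert_tree lc_g_rc_50_2 lc_g_rc_47_2 lc_g_rc_16_1 lc_g_rc_24_1 lc_g_rc_47_2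 lc_g_rc_48_0 lc_g_rc_50_2 lc_g_rc_47_2 lc_g_rc_31_1 lc_g_rc_50_2 lc_g_rc_7_3 lc_g_rc_37_1 lc_g_rc_50_2 lc_g_rc_16_1 lc_g_rc_24_1) (@D3.rec (fun _ => (Cert rels S Gen.g)) lc_g_rc_24_1 lc_g_Cert_tree lc_g_rc_37_1 lc_g_rc_44_3 lc_g_rc_7_1 lc_g_rc_7_3 lc_g_rc_44_3 lc_g_rc_50_2 lc_g_rc_47_2 lc_g_rc_7_1 lc_g_rc_16_1 lc_g_rc_16_1 lc_g_Cert_tree lc_g_rc_24_1 lc_g_rc_47_2 lc_g_rc_48_0 lc_g_rc_50_2 lc_g_rc_47_2 lc_g_rc_7_1 lc_g_rc_16_1 lc_g_rc_16_1 lc_g_rc_48_0 lc_g_rc_50_2 lc_g_rc_47_2 lc_g_rc_31_1 lc_g_rc_31_1 lc_g_rc_50_2 lc_g_rc_47_2 lc_g_rc_31_1 lc_g_rc_16_1 lc_g_rc_16_1 lc_g_rc_16_1 lc_g_rc_50_2 lc_g_rc_47_2 lc_g_rc_31_1 lc_g_rc_50_2 lc_g_rc_47_2 lc_g_rc_31_1 lc_g_rc_24_1 lc_g_rc_49_2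 lc_g_rc_7_3 lc_g_rc_37_1 lc_g_rc_37_3 lc_g_rc_7_1 lc_g_rc_16_1 lc_g_rc_16_1 lc_g_rc_31_1 lc_g_rc_24_1 lc_g_rc_24_1 lc_g_rc_47_2 lc_g_rc_44_1) (@D3.rec (fun _ => (Cert rels S Gen.g)) lc_g_rc_7_1 lc_g_rc_16_1 lc_g_rc_31_1 lc_g_rc_7_1 lc_g_rc_31_1 lc_g_rc_37_1 lc_g_rc_49_4 lc_g_rc_7_1 lc_g_rc_7_1 lc_g_rc_16_1 lc_g_rc_16_1 lc_g_rc_24_1 lc_g_rc_31_1 lc_g_rc_7_1 lc_g_rc_50_2 lc_g_rc_47_2 lc_g_rc_47_2 lc_g_rc_48_0 lc_g_rc_50_2 lc_g_rc_47_2 lc_g_rc_50_2 lc_g_rc_47_2 lc_g_rc_47_2 lc_g_rc_31_1 lc_g_rc_37_1 lc_g_rc_44_3 lc_g_rc_7_1 lc_g_rc_16_1 lc_g_rc_16_1 lc_g_rc_24_1 lc_g_rc_50_2 lc_g_rc_24_1 lc_g_rc_47_2 lc_g_rc_47_2 lc_g_rc_31_1 lc_g_rc_50_2 lc_g_rc_7_1 lc_g_rc_7_1 lc_g_rc_7_1 lc_g_rc_7_1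 lc_g_rc_44_3 lc_g_rc_50_2 lc_g_rc_47_2 lc_g_rc_47_2 lc_g_rc_7_1 lc_g_rc_47_2 lc_g_rc_31_3 lc_g_rc_47_2 lc_g_rc_31_1 lc_g_rc_50_2 lc_g_rc_49_4) (@D3.rec (fun _ => (Cert rels S Gen.g)) lc_g_rc_31_1 lc_g_rc_50_2 lc_g_rc_47_2 lc_g_rc_31_1 lc_g_rc_50_2 lc_g_rc_47_2 lc_g_rc_50_2 lc_g_rc_37_1 lc_g_rc_31_1 lc_g_rc_44_3 lc_g_rc_50_2 lc_g_rc_47_2 lc_g_rc_47_2 lc_g_rc_31_1 lc_g_rc_50_2 lc_g_rc_24_1 lc_g_rc_37_1 lc_g_rc_50_2 lc_g_rc_16_1 lc_g_rc_24_1 lc_g_rc_24_1 lc_g_Cert_tree lc_g_rc_37_1 lc_g_rc_44_3 lc_g_rc_24_1 lc_g_rc_7_3 lc_g_rc_49_2 lc_g_rc_47_2 lc_g_rc_16_1 lc_g_rc_44_3 lc_g_rc_24_1 lc_g_rc_47_2 lc_g_rc_48_0 lc_g_rc_50_2 lc_g_rc_47_2 lc_g_rc_16_1 lc_g_rc_47_2 lc_g_rc_49_2 lc_g_rc_50_2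 lc_g_rc_47_2 lc_g_rc_31_1 lc_g_rc_48_0 lc_g_rc_50_2 lc_g_rc_47_2 lc_g_rc_7_1 lc_g_rc_50_2 lc_g_rc_47_2 lc_g_rc_31_1 lc_g_rc_49_2 lc_g_rc_47_2 lc_g_rc_31_1) (@D3.rec (fun _ => (Cert rels S Gen.g)) lc_g_rc_24_1 lc_g_rc_47_2 lc_g_rc_24_1 lc_g_rc_50_2 lc_g_rc_24_1 lc_g_rc_44_3 lc_g_rc_16_1 lc_g_rc_31_1 lc_g_rc_24_1 lc_g_rc_49_2 lc_g_rc_31_1 lc_g_rc_16_1 lc_g_rc_31_1 lc_g_rc_16_1 lc_g_rc_50_2 lc_g_rc_47_2 lc_g_rc_47_2 lc_g_rc_31_1 lc_g_rc_50_2 lc_g_rc_44_3 lc_g_rc_37_1 lc_g_rc_7_3 lc_g_rc_24_1 lc_g_rc_16_1 lc_g_rc_24_1 lc_g_rc_47_2 lc_g_rc_47_2 lc_g_rc_37_3 lc_g_rc_31_1 lc_g_rc_7_1 lc_g_rc_47_2 lc_g_rc_31_1 lc_g_rc_50_2 lc_g_rc_7_1 lc_g_rc_7_1 lc_g_rc_37_1 lc_g_rc_31_1 lc_g_rc_44_3 lc_g_rc_50_2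 lc_g_rc_47_2 lc_g_rc_47_2 lc_g_rc_31_1 lc_g_rc_50_2 lc_g_rc_24_1 lc_g_rc_37_1 lc_g_rc_50_2 lc_g_rc_16_1 lc_g_rc_24_1 lc_g_rc_24_1 lc_g_rc_44_3 lc_g_rc_7_1) (@D3.rec (fun _ => (Cert rels S Gen.g)) lc_g_rc_7_1 lc_g_rc_24_1 lc_g_rc_24_1 lc_g_Cert_tree lc_g_rc_7_1 lc_g_rc_44_5 lc_g_rc_16_1 lc_g_rc_44_3 lc_g_rc_24_1 lc_g_rc_47_2 lc_g_rc_7_3 lc_g_rc_47_2 lc_g_rc_16_1 lc_g_rc_47_2 lc_g_rc_31_1 lc_g_rc_48_0 lc_g_rc_50_2 lc_g_rc_47_2 lc_g_rc_44_3 lc_g_rc_31_1 lc_g_rc_24_1 lc_g_rc_24_1 lc_g_rc_37_1 lc_g_rc_50_2 lc_g_rc_24_1 lc_g_rc_24_1 lc_g_rc_50_2 lc_g_rc_7_1 lc_g_rc_16_1 lc_g_rc_16_1 lc_g_rc_31_1 lc_g_rc_24_1 lc_g_rc_7_1 lc_g_rc_47_2 lc_g_rc_31_1 lc_g_rc_50_2 lc_g_rc_24_1 lc_g_rc_31_1 lc_g_rc_31_1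 lc_g_rc_31_1 lc_g_rc_50_2 lc_g_rc_24_1 lc_g_rc_37_1 lc_g_rc_50_2 lc_g_rc_16_1 lc_g_rc_24_1 lc_g_rc_24_1 lc_g_Cert_tree lc_g_rc_50_2 lc_g_rc_50_2 lc_g_rc_16_1) (@D3.rec (fun _ => (Cert rels S Gen.g)) lc_g_rc_47_2 lc_g_rc_49_2 lc_g_Cert_tree lc_g_rc_37_1 lc_g_rc_47_2 lc_g_rc_16_1 lc_g_Cert_tree lc_g_rc_24_1 lc_g_rc_47_2 lc_g_rc_48_0 lc_g_rc_50_2 lc_g_rc_47_2 lc_g_rc_16_1 lc_g_rc_48_0 lc_g_rc_50_2 lc_g_rc_47_2 lc_g_rc_47_2 lc_g_rc_50_2 lc_g_rc_47_2 lc_g_rc_31_1 lc_g_rc_24_1 lc_g_rc_37_1 lc_g_rc_50_2 lc_g_rc_16_1 lc_g_rc_24_1 lc_g_rc_24_1 lc_g_Cert_tree lc_g_rc_50_2 lc_g_rc_47_2 lc_g_rc_7_1 lc_g_rc_16_1 lc_g_rc_16_1 lc_g_rc_31_1 lc_g_Cert_tree lc_g_rc_24_1 lc_g_rc_24_1 lc_g_rc_48_0 lc_g_rc_50_2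 lc_g_rc_47_2 lc_g_rc_49_2 lc_g_rc_16_1 lc_g_rc_16_1 lc_g_Cert_tree lc_g_rc_24_1 lc_g_rc_44_5 lc_g_rc_48_0 lc_g_rc_50_2 lc_g_rc_47_2 lc_g_rc_7_1 lc_g_Cert_tree lc_g_rc_16_1) (@D3.rec (fun _ => (Cert rels S Gen.g)) lc_g_rc_16_1 lc_g_rc_48_0 lc_g_rc_50_2 lc_g_rc_47_2 lc_g_rc_31_1 lc_g_rc_49_2 lc_g_rc_50_2 lc_g_rc_47_2 lc_g_rc_31_1 lc_g_rc_7_1 lc_g_rc_48_0 lc_g_rc_50_2 lc_g_rc_16_1 lc_g_rc_31_1 lc_g_rc_24_1 lc_g_rc_50_2 lc_g_rc_47_2 lc_g_rc_31_1 lc_g_rc_37_1 lc_g_rc_49_2 lc_g_rc_47_2 lc_g_rc_31_1 lc_g_rc_24_1 lc_g_rc_49_2 lc_g_rc_50_2 lc_g_rc_47_2 lc_g_rc_49_2 lc_g_rc_50_2 lc_g_rc_47_2 lc_g_rc_31_1 lc_g_rc_24_1 lc_g_rc_47_2 lc_g_rc_31_1 lc_g_rc_24_1 lc_g_rc_16_1 lc_g_rc_16_1 lc_g_rc_24_1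 lc_g_rc_24_1 lc_g_rc_50_2 lc_g_rc_47_2 lc_g_rc_50_0 lc_g_rc_49_2 lc_g_rc_16_1 lc_g_rc_31_1 lc_g_rc_24_1 lc_g_rc_47_2 lc_g_rc_24_1 lc_g_rc_7_1 lc_g_rc_7_1 lc_g_rc_16_1 lc_g_rc_50_2) (@D3.rec (fun _ => (Cert rels S Gen.g)) lc_g_rc_44_3 lc_g_rc_47_2 lc_g_rc_31_1 lc_g_rc_47_2 lc_g_rc_31_1 lc_g_rc_31_1 lc_g_rc_50_2 lc_g_rc_16_1 lc_g_rc_49_2 lc_g_rc_7_1 lc_g_rc_31_1 lc_g_rc_37_1 lc_g_rc_24_3 lc_g_rc_24_3 lc_g_rc_24_3 lc_g_rc_24_1 lc_g_rc_24_1 lc_g_rc_7_1 lc_g_rc_16_1 lc_g_rc_47_2 lc_g_rc_50_2 lc_g_rc_31_1 lc_g_rc_50_2 lc_g_rc_31_1 lc_g_rc_24_1 lc_g_rc_31_1 lc_g_rc_24_1 lc_g_rc_7_1 lc_g_rc_47_2 lc_g_rc_50_2 lc_g_rc_7_1 lc_g_rc_31_1 lc_g_rc_16_1 lc_g_rc_24_1 lc_g_rc_24_1 lc_g_rc_31_1 lc_g_rc_47_2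 lc_g_rc_7_1 lc_g_rc_7_1 lc_g_rc_7_1 lc_g_rc_16_1 lc_g_rc_16_1 lc_g_rc_31_1 lc_g_rc_24_1 lc_g_rc_16_1 lc_g_rc_7_1 lc_g_rc_47_2 lc_g_rc_49_2 lc_g_rc_49_4 lc_g_rc_50_0 lc_g_rc_7_1) (@D3.rec (fun _ => (Cert rels S Gen.g)) lc_g_rc_50_2 lc_g_rc_50_0 lc_g_rc_31_1 lc_g_rc_37_1 lc_g_rc_50_0 lc_g_rc_7_1 lc_g_rc_16_1 lc_g_rc_49_2 lc_g_rc_44_3 lc_g_rc_50_2 lc_g_rc_16_3 lc_g_rc_50_2 lc_g_rc_50_2 lc_g_rc_16_3 lc_g_rc_24_3 lc_g_rc_16_1 lc_g_rc_24_1 lc_g_rc_47_2 lc_g_rc_47_0 lc_g_rc_50_2 lc_g_rc_24_1 lc_g_rc_50_2 lc_g_rc_47_2 lc_g_rc_50_2 lc_g_rc_24_3 lc_g_rc_44_3 lc_g_rc_50_2 lc_g_rc_50_2 lc_g_rc_50_2 lc_g_rc_47_2 lc_g_rc_37_1 lc_g_rc_31_1 lc_g_rc_47_2 lc_g_rc_7_3 lc_g_rc_50_2 lc_g_rc_16_1 lc_g_rc_16_1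 lc_g_rc_50_2 lc_g_rc_47_2 lc_g_rc_7_1 lc_g_rc_7_1 lc_g_rc_31_1 lc_g_rc_50_2 lc_g_rc_47_2 lc_g_rc_47_2 lc_g_rc_37_1 lc_g_rc_50_2 lc_g_rc_7_1 lc_g_rc_47_2 lc_g_rc_50_2 lc_g_rc_47_2) (@D3.rec (fun _ => (Cert rels S Gen.g)) lc_g_rc_48_0 lc_g_rc_50_2 lc_g_rc_37_1 lc_g_rc_31_1 lc_g_rc_50_2 lc_g_rc_7_3 lc_g_rc_37_1 lc_g_rc_50_2 lc_g_rc_16_1 lc_g_rc_24_1 lc_g_rc_24_1 lc_g_Cert_tree lc_g_rc_37_1 lc_g_rc_44_3 lc_g_rc_49_2 lc_g_rc_7_1 lc_g_rc_31_1 lc_g_rc_16_1 lc_g_rc_16_1 lc_g_Cert_tree lc_g_rc_24_1 lc_g_rc_47_2 lc_g_rc_48_0 lc_g_rc_50_2 lc_g_rc_47_2 lc_g_rc_16_1 lc_g_rc_16_1 lc_g_rc_48_0 lc_g_rc_50_2 lc_g_rc_47_2 lc_g_rc_31_1 lc_g_rc_37_1 lc_g_rc_50_2 lc_g_rc_47_2 lc_g_rc_50_2 lc_g_rc_7_3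 lc_g_rc_50_2 lc_g_rc_50_2 lc_g_rc_31_1 lc_g_rc_24_1 lc_g_rc_7_3 lc_g_rc_16_1 lc_g_rc_31_1 lc_g_rc_50_2 lc_g_rc_50_2 lc_g_rc_7_1 lc_g_rc_7_1 lc_g_rc_16_1 lc_g_rc_31_1 lc_g_rc_7_1 lc_g_rc_31_1) (@D3.rec (fun _ => (Cert rels S Gen.g)) lc_g_rc_44_1 lc_g_rc_31_1 lc_g_rc_50_2 lc_g_rc_37_3 lc_g_rc_47_2 lc_g_rc_47_2 lc_g_rc_50_2 lc_g_rc_31_1 lc_g_rc_47_2 lc_g_rc_31_1 lc_g_rc_31_1 lc_g_rc_16_1 lc_g_rc_24_1 lc_g_rc_24_1 lc_g_rc_37_1 lc_g_rc_44_3 lc_g_rc_16_1 lc_g_rc_24_1 lc_g_rc_47_2 lc_g_rc_7_1 lc_g_rc_16_1 lc_g_rc_47_2 lc_g_rc_7_1 lc_g_rc_16_1 lc_g_rc_31_1 lc_g_rc_7_1 lc_g_rc_16_1 lc_g_rc_24_1 lc_g_rc_7_1 lc_g_rc_16_1 lc_g_rc_47_2 lc_g_rc_7_1 lc_g_rc_16_1 lc_g_rc_31_1 lc_g_rc_7_1 lc_g_rc_31_1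 lc_g_rc_37_1 lc_g_rc_50_2 lc_g_rc_16_1 lc_g_rc_31_1 lc_g_rc_7_1 lc_g_rc_16_1 lc_g_rc_7_1 lc_g_rc_31_1 lc_g_rc_16_1 lc_g_rc_7_3 lc_g_rc_37_1 lc_g_rc_16_1 lc_g_rc_16_1 lc_g_rc_16_1 lc_g_rc_47_2) (@D3.rec (fun _ => (Cert rels S Gen.g)) lc_g_rc_24_1 lc_g_rc_7_1 lc_g_rc_7_1 lc_g_rc_7_1 lc_g_rc_7_1 lc_g_rc_24_1 lc_g_rc_47_2 lc_g_rc_47_2 lc_g_rc_31_1 lc_g_rc_50_2 lc_g_rc_24_1 lc_g_rc_37_1 lc_g_rc_50_2 lc_g_rc_16_1 lc_g_rc_24_1 lc_g_rc_24_1 lc_g_rc_44_3 lc_g_rc_7_1 lc_g_rc_7_1 lc_g_rc_16_1 lc_g_rc_7_1 lc_g_rc_7_1 lc_g_rc_47_2 lc_g_rc_7_1 lc_g_rc_7_1 lc_g_rc_16_1 lc_g_rc_44_3 lc_g_rc_24_1 lc_g_rc_47_2 lc_g_rc_7_3 lc_g_rc_47_2 lc_g_rc_16_1 lc_g_rc_47_2 lc_g_rc_31_1 lc_g_rc_37_1 lc_g_rc_24_1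 lc_g_rc_50_2 lc_g_rc_16_1 lc_g_rc_37_1 lc_g_rc_24_1 lc_g_rc_37_1 lc_g_rc_47_2 lc_g_rc_7_1 lc_g_rc_16_1 lc_g_rc_31_3 lc_g_rc_31_1 lc_g_rc_7_1 lc_g_rc_24_1 lc_g_rc_24_3 lc_g_rc_49_2 lc_g_rc_16_1) (@D3.rec (fun _ => (Cert rels S Gen.g)) lc_g_rc_7_1 lc_g_rc_7_1 lc_g_rc_16_1 lc_g_rc_31_1 lc_g_rc_7_1 lc_g_rc_31_1 lc_g_rc_37_1 lc_g_rc_24_1 lc_g_rc_31_1 lc_g_rc_31_1 lc_g_rc_31_1 lc_g_rc_50_2 lc_g_rc_24_1 lc_g_rc_37_1 lc_g_rc_50_2 lc_g_rc_16_1 lc_g_rc_24_1 lc_g_rc_24_1 lc_g_Cert_tree lc_g_rc_50_2 lc_g_rc_50_2 lc_g_rc_16_1 lc_g_rc_49_2 lc_g_rc_47_2 lc_g_rc_16_1 lc_g_rc_16_1 lc_g_rc_44_3 lc_g_rc_24_1 lc_g_rc_47_2 lc_g_rc_48_0 lc_g_rc_50_2 lc_g_rc_47_2 lc_g_rc_16_1 lc_g_rc_16_1 lc_g_rc_47_2 lc_g_rc_31_1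 lc_g_rc_47_2 lc_g_rc_50_2 lc_g_rc_47_2 lc_g_rc_24_1 lc_g_rc_37_1 lc_g_rc_50_2 lc_g_rc_7_3 lc_g_rc_24_1 lc_g_rc_24_1 lc_g_rc_47_2 lc_g_rc_50_2 lc_g_rc_47_2 lc_g_rc_7_1 lc_g_rc_16_1 lc_g_rc_16_1) (@D3.rec (fun _ => (Cert rels S Gen.g)) lc_g_rc_31_1 lc_g_Cert_tree lc_g_rc_24_1 lc_g_rc_24_1 lc_g_rc_48_0 lc_g_rc_50_2 lc_g_rc_47_2 lc_g_rc_49_2 lc_g_rc_16_1 lc_g_rc_16_1 lc_g_rc_49_4 lc_g_rc_24_1 lc_g_rc_47_2 lc_g_rc_50_2 lc_g_rc_47_2 lc_g_rc_7_1 lc_g_rc_7_1 lc_g_Cert_tree lc_g_rc_16_1 lc_g_rc_16_1 lc_g_rc_48_0 lc_g_rc_50_2 lc_g_rc_47_2 lc_g_rc_31_1 lc_g_rc_49_2 lc_g_rc_50_2 lc_g_rc_47_2 lc_g_rc_7_1 lc_g_rc_7_1 lc_g_rc_48_0 lc_g_rc_50_2 lc_g_rc_16_1 lc_g_rc_31_1 lc_g_rc_24_1 lc_g_rc_50_2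 lc_g_rc_47_2 lc_g_rc_31_1 lc_g_rc_37_1 lc_g_rc_16_1 lc_g_rc_47_2 lc_g_rc_37_1 lc_g_rc_24_1 lc_g_rc_47_2 lc_g_rc_37_3 lc_g_rc_37_3 lc_g_rc_37_1 lc_g_rc_47_2 lc_g_rc_37_1 lc_g_rc_7_1 lc_g_rc_16_1 lc_g_rc_16_1) (@D3.rec (fun _ => (Cert rels S Gen.g)) lc_g_rc_16_1 lc_g_rc_47_2 lc_g_rc_31_1 lc_g_rc_24_1 lc_g_rc_31_1 lc_g_rc_50_2 lc_g_rc_16_1 lc_g_rc_49_2 lc_g_rc_7_1 lc_g_rc_31_1 lc_g_rc_37_1 lc_g_rc_31_1 lc_g_rc_16_3 lc_g_rc_7_1 lc_g_rc_16_1 lc_g_rc_16_1 lc_g_rc_7_1 lc_g_rc_50_2 lc_g_rc_50_2 lc_g_rc_24_1 lc_g_rc_47_2 lc_g_rc_31_3 lc_g_rc_44_3 lc_g_rc_24_1 lc_g_rc_50_2 lc_g_rc_47_2 lc_g_rc_16_1 lc_g_rc_16_1 lc_g_rc_50_0 lc_g_rc_44_5 lc_g_rc_50_2 lc_g_rc_16_1 lc_g_rc_7_1 lc_g_rc_47_2 lc_g_rc_7_3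 lc_g_rc_31_3 lc_g_rc_31_1 lc_g_rc_50_2 lc_g_rc_50_2 lc_g_rc_50_2 lc_g_rc_37_1 lc_g_rc_44_3 lc_g_rc_16_1 lc_g_rc_47_2 lc_g_rc_50_2 lc_g_rc_50_2 lc_g_rc_16_1 lc_g_rc_50_2 lc_g_rc_7_1 lc_g_rc_31_1 lc_g_rc_50_2) (@D3.rec (fun _ => (Cert rels S Gen.g)) lc_g_rc_31_1 lc_g_rc_37_3 lc_g_rc_24_3 lc_g_rc_16_1 lc_g_rc_31_1 lc_g_rc_7_1 lc_g_rc_31_1 lc_g_rc_37_1 lc_g_rc_7_1 lc_g_rc_7_1 lc_g_rc_7_1 lc_g_rc_50_2 lc_g_rc_47_2 lc_g_rc_16_1 lc_g_rc_50_2 lc_g_rc_24_1 lc_g_rc_7_1 lc_g_rc_7_1 lc_g_rc_50_2 lc_g_rc_24_1 lc_g_rc_47_2 lc_g_rc_47_2 lc_g_rc_44_3 lc_g_rc_24_1 lc_g_rc_7_1 lc_g_rc_16_1 lc_g_rc_47_2 lc_g_rc_16_1 lc_g_rc_16_1 lc_g_rc_31_1 lc_g_rc_24_1 lc_g_rc_47_2 lc_g_rc_50_2 lc_g_rc_24_1 lc_g_rc_47_2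 lc_g_rc_24_1 lc_g_rc_47_2 lc_g_rc_37_1 lc_g_rc_37_1 lc_g_rc_31_1 lc_g_rc_24_1 lc_g_rc_24_1 lc_g_rc_31_1 lc_g_rc_37_1 lc_g_rc_44_3 lc_g_rc_37_1 lc_g_rc_24_1 lc_g_rc_24_1 lc_g_rc_47_2 lc_g_rc_31_1 lc_g_rc_47_2) (@D3.rec (fun _ => (Cert rels S Gen.g)) lc_g_rc_50_2 lc_g_rc_24_1 lc_g_rc_24_1 lc_g_rc_47_2 lc_g_rc_31_1 lc_g_rc_31_1 lc_g_rc_24_1 lc_g_rc_24_1 lc_g_rc_47_2 lc_g_rc_31_1 lc_g_rc_44_5 lc_g_rc_47_0 lc_g_rc_37_1 lc_g_rc_24_1 lc_g_rc_7_1 lc_g_rc_7_1 lc_g_rc_24_1 lc_g_rc_47_2 lc_g_rc_50_2 lc_g_rc_47_2 lc_g_rc_31_1 lc_g_rc_50_2 lc_g_rc_37_1 lc_g_rc_50_2 lc_g_rc_24_1 lc_g_rc_24_1 lc_g_rc_7_1 lc_g_rc_7_1 lc_g_rc_37_1 lc_g_rc_47_2 lc_g_rc_50_2 lc_g_rc_16_1 lc_g_rc_31_1 lc_g_rc_50_2 lc_g_rc_47_2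 lc_g_rc_24_1 lc_g_rc_7_1 lc_g_rc_31_1 lc_g_rc_16_3 lc_g_rc_31_1 lc_g_rc_37_1 lc_g_rc_16_1 lc_g_rc_24_1 lc_g_rc_24_1 lc_g_rc_50_2 lc_g_rc_50_2 lc_g_rc_16_1 lc_g_rc_47_2 lc_g_rc_50_2 lc_g_rc_16_1 lc_g_rc_37_1) (@D3.rec (fun _ => (Cert rels S Gen.g)) lc_g_rc_31_1 lc_g_rc_24_1 lc_g_rc_37_1 lc_g_rc_50_2 lc_g_rc_7_1 lc_g_rc_24_1 lc_g_rc_24_1 lc_g_rc_50_2 lc_g_rc_47_2 lc_g_rc_7_1 lc_g_rc_16_1 lc_g_rc_16_1 lc_g_rc_31_1 lc_g_Cert_tree lc_g_rc_24_1 lc_g_rc_24_1 lc_g_rc_48_0 lc_g_rc_50_2 lc_g_rc_47_2 lc_g_rc_50_2 lc_g_rc_37_1 lc_g_rc_7_1 lc_g_rc_16_3 lc_g_rc_16_1 lc_g_rc_16_1 lc_g_rc_48_0 lc_g_rc_50_2 lc_g_rc_47_2 lc_g_rc_31_1 lc_g_rc_44_3 lc_g_rc_50_2 lc_g_rc_47_2 lc_g_rc_50_2 lc_g_rc_7_1 lc_g_rc_50_2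 lc_g_rc_16_1 lc_g_rc_31_1 lc_g_rc_50_2 lc_g_rc_47_2 lc_g_rc_31_1 lc_g_rc_37_1 lc_g_rc_50_2 lc_g_rc_47_2 lc_g_rc_50_2 lc_g_rc_24_1 lc_g_rc_47_2 lc_g_rc_7_1 lc_g_rc_47_2 lc_g_rc_7_1 lc_g_rc_16_1 lc_g_rc_16_1) (@D3.rec (fun _ => (Cert rels S Gen.g)) lc_g_rc_16_1 lc_g_rc_47_2 lc_g_rc_31_1 lc_g_rc_24_1 lc_g_rc_31_1 lc_g_rc_7_1 lc_g_rc_31_1 lc_g_rc_7_1 lc_g_rc_31_1 lc_g_rc_37_1 lc_g_rc_7_1 lc_g_rc_24_1 lc_g_rc_37_1 lc_g_Cert_tree lc_g_rc_44_1 lc_g_rc_37_1 lc_g_rc_24_3 lc_g_rc_7_1 lc_g_rc_7_1 lc_g_rc_47_0 lc_g_rc_16_1 lc_g_rc_37_1 lc_g_rc_7_1 lc_g_rc_24_1 lc_g_rc_37_1 lc_g_rc_31_1 lc_g_rc_50_2 lc_g_rc_37_1 lc_g_rc_50_2 lc_g_rc_7_1 lc_g_rc_7_1 lc_g_rc_47_2 lc_g_rc_31_1 lc_g_rc_31_1 lc_g_rc_31_1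 lc_g_rc_50_2 lc_g_rc_37_1 lc_g_rc_50_2 lc_g_rc_37_1 lc_g_rc_50_2 lc_g_rc_50_2 lc_g_rc_37_1 lc_g_rc_47_2 lc_g_rc_16_1 lc_g_rc_47_2 lc_g_rc_24_1 lc_g_rc_37_1 lc_g_rc_50_2 lc_g_rc_37_3 lc_g_rc_24_1 lc_g_rc_24_1) (@D3.rec (fun _ => (Cert rels S Gen.g)) lc_g_Cert_tree lc_g_rc_50_2 lc_g_rc_47_2 lc_g_rc_16_1 lc_g_rc_16_1 lc_g_rc_31_1 lc_g_rc_47_2 lc_g_rc_24_1 lc_g_rc_24_1 lc_g_rc_37_1 lc_g_rc_47_2 lc_g_rc_16_1 lc_g_rc_16_1 lc_g_rc_47_2 lc_g_rc_24_1 lc_g_rc_47_2 lc_g_rc_48_0 lc_g_rc_50_2 lc_g_rc_47_2 lc_g_rc_44_3 lc_g_rc_16_1 lc_g_rc_16_1 lc_g_rc_16_3 lc_g_rc_47_2 lc_g_rc_7_3 lc_g_rc_16_1 lc_g_rc_31_1 lc_g_rc_50_2 lc_g_rc_24_1 lc_g_rc_50_2 lc_g_rc_49_2 lc_g_rc_49_4 lc_g_rc_44_3 lc_g_rc_37_3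 lc_g_rc_50_2 lc_g_rc_31_1 lc_g_rc_7_1 lc_g_rc_7_1 lc_g_rc_7_1 lc_g_rc_24_1 lc_g_rc_31_1 lc_g_rc_31_1 lc_g_rc_31_1 lc_g_rc_50_2 lc_g_rc_7_1 lc_g_rc_7_1 lc_g_rc_47_2 lc_g_rc_24_1 lc_g_rc_37_1 lc_g_rc_50_2 lc_g_rc_49_4) (@D3.rec (fun _ => (Cert rels S Gen.g)) lc_g_rc_24_1 lc_g_rc_24_1 lc_g_rc_50_2 lc_g_rc_47_2 lc_g_rc_44_3 lc_g_rc_16_1 lc_g_rc_16_1 lc_g_rc_31_1 lc_g_rc_24_1 lc_g_rc_24_1 lc_g_rc_7_1 lc_g_rc_49_2 lc_g_rc_16_1 lc_g_rc_44_5 lc_g_rc_7_1 lc_g_rc_16_1 lc_g_rc_7_1 lc_g_rc_24_1 lc_g_rc_50_2 lc_g_rc_44_3 lc_g_rc_7_1 lc_g_rc_16_1 lc_g_rc_16_1 lc_g_rc_47_2 lc_g_rc_31_1 lc_g_rc_50_2 lc_g_rc_16_1 lc_g_rc_24_1 lc_g_rc_24_1 lc_g_rc_31_1 lc_g_rc_47_2 lc_g_rc_24_1 lc_g_rc_37_1 lc_g_rc_50_2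 lc_g_rc_31_1 lc_g_rc_24_1 lc_g_rc_24_1 lc_g_rc_50_2 lc_g_rc_47_2 lc_g_rc_44_3 lc_g_rc_16_1 lc_g_rc_16_1 lc_g_rc_31_1 lc_g_Cert_tree lc_g_rc_24_1 lc_g_rc_24_1 lc_g_rc_48_0 lc_g_rc_50_2 lc_g_rc_50_2 lc_g_rc_49_2 lc_g_rc_16_1) (@D3.rec (fun _ => (Cert rels S Gen.g)) lc_g_rc_16_1 lc_g_rc_49_2 lc_g_rc_49_2 lc_g_rc_47_2 lc_g_rc_7_1 lc_g_rc_44_3 lc_g_rc_16_1 lc_g_rc_16_1 lc_g_rc_48_0 lc_g_rc_50_2 lc_g_rc_47_2 lc_g_rc_49_2 lc_g_rc_50_2 lc_g_rc_47_2 lc_g_rc_7_1 lc_g_rc_16_1 lc_g_rc_47_2 lc_g_rc_50_2 lc_g_rc_47_2 lc_g_rc_31_1 lc_g_rc_49_2 lc_g_rc_47_2 lc_g_rc_24_1 lc_g_rc_24_1 lc_g_Cert_tree lc_g_rc_50_2 lc_g_rc_47_2 lc_g_rc_31_1 lc_g_rc_31_1 lc_g_rc_7_3 lc_g_rc_31_1 lc_g_rc_24_1 lc_g_rc_47_2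 lc_g_rc_48_0 lc_g_rc_50_2 lc_g_rc_47_2 lc_g_rc_7_1 lc_g_rc_7_1 lc_g_rc_16_1 lc_g_Cert_tree lc_g_rc_16_1 lc_g_rc_16_1 lc_g_Cert_tree lc_g_rc_44_5 lc_g_rc_31_1 lc_g_rc_48_0 lc_g_rc_50_2 lc_g_rc_24_1 lc_g_rc_31_1 lc_g_rc_49_2 lc_g_rc_50_2)
def ce_g_13 : D2 → D3 → (Cert rels S Gen.g) := @D2.rec (fun _ => D3 → (Cert rels S Gen.g)) (@D3.rec (fun _ => (Cert rels S Gen.g)) lc_g_rc_47_2 lc_g_rc_31_1 lc_g_rc_49_2 lc_g_rc_50_2 lc_g_rc_31_1 lc_g_rc_16_1 lc_g_rc_16_1 lc_g_rc_31_1 lc_g_rc_47_2 lc_g_rc_47_2 lc_g_rc_49_2 lc_g_rc_50_2 lc_g_rc_47_2 lc_g_rc_44_3 lc_g_rc_7_1 lc_g_rc_7_1 lc_g_rc_48_0 lc_g_rc_50_2 lc_g_rc_16_1 lc_g_rc_31_1 lc_g_rc_37_3 lc_g_rc_50_2 lc_g_rc_47_2 lc_g_rc_31_1 lc_g_rc_37_1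 lc_g_rc_50_2 lc_g_rc_47_2 lc_g_rc_7_1 lc_g_rc_16_1 lc_g_rc_50_2 lc_g_rc_47_2 lc_g_rc_31_1 lc_g_rc_24_1 lc_g_rc_47_2 lc_g_rc_31_1 lc_g_rc_37_1 lc_g_rc_44_5 lc_g_rc_50_2 lc_g_rc_7_3 lc_g_rc_50_2 lc_g_rc_50_2 lc_g_rc_47_2 lc_g_rc_37_1 lc_g_rc_37_1 lc_g_rc_16_1 lc_g_rc_47_2 lc_g_rc_24_1 lc_g_rc_47_2 lc_g_rc_50_2 lc_g_rc_7_1 lc_g_rc_7_1) (@D3.rec (fun _ => (Cert rels S Gen.g)) lc_g_rc_7_1 lc_g_rc_31_1 lc_g_rc_7_1 lc_g_rc_7_1 lc_g_rc_16_1 lc_g_rc_16_1 lc_g_rc_24_1 lc_g_rc_24_1 lc_g_rc_24_1 lc_g_rc_47_2 lc_g_rc_24_1 lc_g_rc_47_2 lc_g_rc_31_1 lc_g_rc_49_2 lc_g_rc_7_1 lc_g_rc_16_1 lc_g_rc_16_1 lc_g_rc_47_2 lc_g_rc_31_1 lc_g_rc_50_2 lc_g_rc_50_2 lc_g_rc_37_1 lc_g_Cert_tree lc_g_rc_37_1 lc_g_rc_31_1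 lc_g_rc_16_1 lc_g_rc_37_1 lc_g_rc_37_1 lc_g_rc_44_1 lc_g_rc_16_1 lc_g_rc_16_1 lc_g_rc_16_1 lc_g_rc_7_1 lc_g_rc_24_1 lc_g_rc_37_1 lc_g_rc_37_1 lc_g_rc_7_3 lc_g_rc_50_2 lc_g_rc_47_2 lc_g_rc_50_2 lc_g_rc_50_2 lc_g_rc_50_2 lc_g_rc_16_1 lc_g_rc_16_1 lc_g_rc_50_2 lc_g_rc_44_5 lc_g_rc_31_1 lc_g_rc_7_1 lc_g_rc_24_1 lc_g_rc_37_1 lc_g_Cert_tree) (@D3.rec (fun _ => (Cert rels S Gen.g)) lc_g_rc_48_0 lc_g_rc_44_1 lc_g_rc_7_1 lc_g_rc_7_1 lc_g_rc_24_1 lc_g_rc_16_1 lc_g_rc_7_1 lc_g_rc_24_1 lc_g_rc_37_1 lc_g_rc_49_4 lc_g_rc_44_3 lc_g_rc_7_1 lc_g_rc_16_1 lc_g_rc_31_1 lc_g_rc_7_1 lc_g_rc_16_1 lc_g_rc_31_1 lc_g_rc_7_1 lc_g_rc_31_1 lc_g_rc_37_1 lc_g_rc_16_1 lc_g_rc_50_2 lc_g_rc_44_5 lc_g_rc_37_1 lc_g_rc_37_1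 lc_g_rc_7_1 lc_g_rc_7_3 lc_g_rc_48_0 lc_g_rc_50_2 lc_g_rc_16_1 lc_g_rc_48_0 lc_g_rc_48_1 lc_g_rc_50_2 lc_g_rc_50_2 lc_g_rc_44_5 lc_g_rc_50_2 lc_g_rc_47_2 lc_g_rc_31_1 lc_g_rc_37_1 lc_g_rc_47_2 lc_g_rc_37_1 lc_g_rc_24_1 lc_g_rc_7_1 lc_g_rc_16_1 lc_g_rc_7_1 lc_g_rc_31_1 lc_g_rc_7_3 lc_g_rc_7_1 lc_g_rc_50_2 lc_g_rc_47_2 lc_g_rc_31_1) (@D3.rec (fun _ => (Cert rels S Gen.g)) lc_g_rc_37_1 lc_g_rc_47_2 lc_g_rc_31_1 lc_g_rc_37_1 lc_g_rc_31_3 lc_g_rc_50_2 lc_g_rc_47_2 lc_g_rc_16_1 lc_g_rc_47_2 lc_g_rc_31_1 lc_g_rc_24_1 lc_g_rc_31_1 lc_g_rc_50_2 lc_g_rc_44_5 lc_g_rc_24_1 lc_g_rc_44_5 lc_g_rc_16_1 lc_g_rc_24_1 lc_g_rc_16_1 lc_g_rc_47_2 lc_g_rc_24_1 lc_g_rc_7_1 lc_g_rc_16_1 lc_g_rc_31_1 lc_g_rc_50_2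 lc_g_rc_37_3 lc_g_rc_49_2 lc_g_rc_50_2 lc_g_rc_50_2 lc_g_rc_50_2 lc_g_rc_47_2 lc_g_rc_24_1 lc_g_rc_16_1 lc_g_rc_7_1 lc_g_rc_47_2 lc_g_rc_44_1 lc_g_rc_24_3 lc_g_rc_50_2 lc_g_rc_47_2 lc_g_rc_24_1 lc_g_rc_47_2 lc_g_rc_47_2 lc_g_rc_31_1 lc_g_rc_44_1 lc_g_rc_37_1 lc_g_rc_16_1 lc_g_rc_7_1 lc_g_rc_44_3 lc_g_rc_7_1 lc_g_rc_16_1 lc_g_rc_49_2) (@D3.rec (fun _ => (Cert rels S Gen.g)) lc_g_rc_7_1 lc_g_rc_31_1 lc_g_rc_24_1 lc_g_rc_24_1 lc_g_rc_50_2 lc_g_rc_37_1 lc_g_rc_50_2 lc_g_rc_24_1 lc_g_rc_16_1 lc_g_rc_50_2 lc_g_rc_47_2 lc_g_rc_50_2 lc_g_rc_37_1 lc_g_rc_50_2 lc_g_rc_7_3 lc_g_rc_50_2 lc_g_rc_16_3 lc_g_rc_50_2 lc_g_rc_50_2 lc_g_rc_47_2 lc_g_rc_47_2 lc_g_rc_16_1 lc_g_rc_48_0 lc_g_rc_50_2 lc_g_rc_7_1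 lc_g_rc_50_2 lc_g_rc_37_1 lc_g_rc_31_1 lc_g_rc_44_3 lc_g_rc_50_2 lc_g_rc_37_1 lc_g_rc_50_2 lc_g_rc_37_3 lc_g_rc_31_1 lc_g_rc_50_2 lc_g_rc_47_2 lc_g_rc_7_3 lc_g_rc_50_2 lc_g_rc_44_3 lc_g_rc_37_1 lc_g_rc_31_1 lc_g_rc_31_1 lc_g_rc_50_2 lc_g_rc_16_1 lc_g_rc_24_1 lc_g_rc_24_1 lc_g_rc_31_1 lc_g_rc_50_2 lc_g_rc_47_2 lc_g_rc_7_1 lc_g_rc_16_1) (@D3.rec (fun _ => (Cert rels S Gen.g)) lc_g_rc_16_1 lc_g_rc_24_1 lc_g_rc_47_2 lc_g_rc_47_2 lc_g_rc_44_3 lc_g_rc_50_2 lc_g_rc_37_1 lc_g_rc_47_2 lc_g_rc_31_1 lc_g_rc_50_2 lc_g_rc_7_1 lc_g_rc_16_1 lc_g_rc_7_1 lc_g_rc_7_3 lc_g_rc_7_1 lc_g_rc_50_2 lc_g_rc_16_1 lc_g_rc_16_1 lc_g_rc_50_2 lc_g_rc_50_2 lc_g_rc_47_2 lc_g_rc_7_3 lc_g_rc_7_1 lc_g_rc_7_1 lc_g_rc_47_2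 lc_g_rc_48_0 lc_g_rc_50_2 lc_g_rc_37_1 lc_g_rc_50_2 lc_g_rc_31_1 lc_g_rc_50_2 lc_g_rc_47_2 lc_g_rc_44_3 lc_g_rc_50_2 lc_g_rc_47_2 lc_g_rc_50_2 lc_g_rc_50_2 lc_g_Cert_tree lc_g_rc_50_2 lc_g_rc_47_2 lc_g_rc_48_0 lc_g_rc_50_2 lc_g_rc_47_2 lc_g_rc_7_3 lc_g_rc_50_2 lc_g_rc_24_1 lc_g_rc_24_1 lc_g_Cert_tree lc_g_rc_37_1 lc_g_rc_44_3 lc_g_rc_7_1) (@D3.rec (fun _ => (Cert rels S Gen.g)) lc_g_rc_47_2 lc_g_rc_48_0 lc_g_rc_50_2 lc_g_rc_47_2 lc_g_rc_37_3 lc_g_rc_48_0 lc_g_rc_50_2 lc_g_rc_37_1 lc_g_rc_31_1 lc_g_rc_50_2 lc_g_rc_47_2 lc_g_rc_31_1 lc_g_rc_49_2 lc_g_rc_50_2 lc_g_rc_47_2 lc_g_rc_31_1 lc_g_rc_50_2 lc_g_rc_47_2 lc_g_rc_31_1 lc_g_rc_24_1 lc_g_rc_49_2 lc_g_rc_31_1 lc_g_rc_50_2 lc_g_rc_47_2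 lc_g_rc_31_1 lc_g_rc_50_2 lc_g_rc_44_3 lc_g_rc_47_2 lc_g_rc_50_2 lc_g_rc_47_2 lc_g_rc_37_1 lc_g_rc_31_1 lc_g_rc_24_1 lc_g_rc_44_3 lc_g_rc_50_2 lc_g_rc_47_2 lc_g_rc_47_2 lc_g_rc_47_2 lc_g_rc_31_1 lc_g_rc_50_2 lc_g_rc_37_3 lc_g_rc_37_1 lc_g_rc_50_2 lc_g_rc_16_1 lc_g_rc_24_1 lc_g_rc_24_1 lc_g_rc_44_1 lc_g_rc_37_1 lc_g_rc_44_3 lc_g_rc_24_1 lc_g_rc_24_1) (@D3.rec (fun _ => (Cert rels S Gen.g)) lc_g_Cert_tree lc_g_rc_16_1 lc_g_rc_47_2 lc_g_rc_16_1 lc_g_rc_44_3 lc_g_rc_24_1 lc_g_rc_47_2 lc_g_rc_7_1 lc_g_rc_47_2 lc_g_rc_16_1 lc_g_rc_47_2 lc_g_rc_31_1 lc_g_rc_31_1 lc_g_rc_48_0 lc_g_rc_50_2 lc_g_rc_47_2 lc_g_rc_44_3 lc_g_rc_31_1 lc_g_rc_24_1 lc_g_rc_37_1 lc_g_rc_37_1 lc_g_rc_16_1 lc_g_rc_16_1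 lc_g_rc_7_1 lc_g_rc_7_1 lc_g_rc_24_1 lc_g_rc_24_3 lc_g_rc_47_2 lc_g_rc_16_1 lc_g_rc_31_1 lc_g_rc_7_1 lc_g_rc_31_1 lc_g_rc_37_1 lc_g_rc_16_3 lc_g_rc_24_3 lc_g_rc_16_1 lc_g_rc_16_3 lc_g_rc_31_1 lc_g_rc_49_2 lc_g_rc_31_1 lc_g_rc_37_1 lc_g_rc_49_2 lc_g_rc_44_3 lc_g_rc_16_1 lc_g_rc_7_1 lc_g_rc_7_1 lc_g_rc_50_2 lc_g_rc_47_2 lc_g_rc_47_2 lc_g_rc_31_1 lc_g_rc_50_2) (@D3.rec (fun _ => (Cert rels S Gen.g)) lc_g_rc_44_3 lc_g_rc_16_1 lc_g_rc_16_1 lc_g_rc_7_1 lc_g_rc_7_1 lc_g_rc_24_1 lc_g_rc_44_3 lc_g_rc_50_2 lc_g_rc_47_2 lc_g_rc_47_2 lc_g_rc_47_2 lc_g_rc_31_3 lc_g_rc_47_2 lc_g_rc_31_1 lc_g_rc_37_3 lc_g_rc_47_0 lc_g_rc_49_4 lc_g_rc_49_4 lc_g_rc_24_1 lc_g_rc_7_1 lc_g_rc_7_1 lc_g_rc_7_1 lc_g_rc_24_1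 lc_g_rc_44_3 lc_g_rc_50_2 lc_g_rc_47_2 lc_g_rc_47_2 lc_g_rc_47_2 lc_g_rc_31_1 lc_g_rc_50_2 lc_g_rc_37_1 lc_g_rc_50_2 lc_g_rc_24_1 lc_g_rc_24_1 lc_g_Cert_tree lc_g_rc_7_1 lc_g_rc_7_1 lc_g_rc_7_1 lc_g_rc_47_2 lc_g_rc_48_0 lc_g_rc_50_2 lc_g_rc_47_2 lc_g_rc_31_1 lc_g_rc_7_1 lc_g_rc_50_2 lc_g_rc_47_2 lc_g_rc_31_1 lc_g_rc_49_2 lc_g_rc_50_2 lc_g_rc_47_2 lc_g_rc_31_1) (@D3.rec (fun _ => (Cert rels S Gen.g)) lc_g_rc_7_1 lc_g_rc_47_2 lc_g_rc_31_1 lc_g_rc_7_1 lc_g_rc_24_1 lc_g_rc_31_1 lc_g_rc_49_2 lc_g_rc_16_3 lc_g_rc_24_1 lc_g_rc_31_1 lc_g_rc_31_1 lc_g_rc_31_1 lc_g_rc_50_2 lc_g_rc_7_3 lc_g_rc_37_1 lc_g_rc_50_2 lc_g_rc_16_1 lc_g_rc_24_1 lc_g_rc_24_1 lc_g_Cert_tree lc_g_rc_50_2 lc_g_rc_50_2 lc_g_rc_16_1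 lc_g_rc_49_2 lc_g_Cert_tree lc_g_rc_37_1 lc_g_rc_47_2 lc_g_rc_16_1 lc_g_rc_44_3 lc_g_rc_24_1 lc_g_rc_47_2 lc_g_rc_48_0 lc_g_rc_50_2 lc_g_rc_47_2 lc_g_rc_16_1 lc_g_rc_47_2 lc_g_rc_31_1 lc_g_rc_47_2 lc_g_rc_50_2 lc_g_rc_47_2 lc_g_rc_31_1 lc_g_rc_37_1 lc_g_rc_50_2 lc_g_rc_16_1 lc_g_rc_44_5 lc_g_rc_7_3 lc_g_Cert_tree lc_g_rc_50_2 lc_g_rc_47_2 lc_g_rc_7_1 lc_g_rc_16_1) (@D3.rec (fun _ => (Cert rels S Gen.g)) lc_g_rc_16_1 lc_g_rc_31_1 lc_g_Cert_tree lc_g_rc_24_1 lc_g_rc_24_1 lc_g_rc_48_0 lc_g_rc_50_2 lc_g_rc_47_2 lc_g_rc_49_2 lc_g_rc_16_1 lc_g_rc_47_2 lc_g_rc_48_0 lc_g_rc_50_2 lc_g_rc_47_2 lc_g_rc_7_1 lc_g_rc_44_3 lc_g_rc_16_1 lc_g_rc_16_1 lc_g_rc_48_0 lc_g_rc_50_2 lc_g_rc_47_2 lc_g_rc_31_1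 lc_g_rc_49_2 lc_g_rc_50_2 lc_g_rc_47_2 lc_g_rc_31_1 lc_g_rc_7_1 lc_g_rc_16_1 lc_g_rc_31_1 lc_g_rc_24_1 lc_g_rc_50_2 lc_g_rc_47_2 lc_g_rc_37_1 lc_g_rc_16_1 lc_g_rc_47_2 lc_g_rc_31_1 lc_g_rc_24_1 lc_g_rc_49_2 lc_g_rc_50_2 lc_g_rc_47_2 lc_g_rc_49_2 lc_g_rc_50_2 lc_g_rc_47_2 lc_g_rc_31_1 lc_g_rc_24_1 lc_g_rc_47_2 lc_g_rc_31_1 lc_g_rc_24_1 lc_g_rc_16_1 lc_g_rc_7_1 lc_g_rc_16_1) (@D3.rec (fun _ => (Cert rels S Gen.g)) lc_g_rc_7_3 lc_g_rc_7_1 lc_g_rc_7_1 lc_g_rc_16_1 lc_g_rc_16_1 lc_g_rc_16_1 lc_g_rc_47_2 lc_g_rc_31_1 lc_g_rc_24_1 lc_g_rc_31_1 lc_g_rc_50_2 lc_g_rc_16_1 lc_g_rc_49_2 lc_g_rc_7_1 lc_g_rc_31_1 lc_g_rc_37_1 lc_g_rc_37_1 lc_g_Cert_tree lc_g_rc_31_1 lc_g_rc_24_3 lc_g_rc_49_2 lc_g_rc_31_1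 lc_g_rc_7_1 lc_g_rc_16_1 lc_g_rc_16_1 lc_g_rc_7_1 lc_g_rc_16_1 lc_g_rc_49_2 lc_g_rc_16_1 lc_g_rc_24_1 lc_g_rc_7_1 lc_g_rc_49_2 lc_g_rc_7_1 lc_g_rc_24_1 lc_g_rc_16_1 lc_g_rc_31_1 lc_g_rc_50_2 lc_g_rc_50_2 lc_g_rc_31_1 lc_g_rc_50_2 lc_g_rc_24_1 lc_g_rc_24_1 lc_g_rc_50_2 lc_g_rc_49_2 lc_g_rc_44_3 lc_g_rc_44_3 lc_g_rc_7_1 lc_g_rc_50_2 lc_g_rc_50_2 lc_g_rc_50_2 lc_g_rc_47_2) (@D3.rec (fun _ => (Cert rels S Gen.g)) lc_g_rc_24_1 lc_g_rc_24_1 lc_g_rc_50_2 lc_g_rc_24_1 lc_g_rc_24_1 lc_g_rc_47_2 lc_g_rc_24_1 lc_g_rc_47_2 lc_g_rc_50_2 lc_g_rc_31_1 lc_g_rc_47_2 lc_g_rc_50_2 lc_g_rc_16_3 lc_g_rc_50_2 lc_g_rc_16_3 lc_g_rc_7_1 lc_g_rc_31_1 lc_g_rc_31_3 lc_g_rc_31_1 lc_g_rc_31_1 lc_g_rc_50_2 lc_g_rc_50_2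 lc_g_rc_7_1 lc_g_rc_50_2 lc_g_rc_47_2 lc_g_rc_7_1 lc_g_rc_7_1 lc_g_rc_24_1 lc_g_rc_50_2 lc_g_rc_16_1 lc_g_rc_16_1 lc_g_rc_24_1 lc_g_rc_16_1 lc_g_rc_47_2 lc_g_rc_7_1 lc_g_rc_7_1 lc_g_rc_24_1 lc_g_rc_24_1 lc_g_rc_50_2 lc_g_rc_47_2 lc_g_rc_16_1 lc_g_rc_24_1 lc_g_rc_47_2 lc_g_rc_47_2 lc_g_rc_31_3 lc_g_rc_47_2 lc_g_rc_37_1 lc_g_rc_16_1 lc_g_rc_47_2 lc_g_rc_44_3 lc_g_rc_44_3) (@D3.rec (fun _ => (Cert rels S Gen.g)) lc_g_rc_50_2 lc_g_rc_50_2 lc_g_rc_24_1 lc_g_rc_50_2 lc_g_rc_47_2 lc_g_rc_24_1 lc_g_rc_24_1 lc_g_rc_47_2 lc_g_rc_24_1 lc_g_rc_47_2 lc_g_rc_37_1 lc_g_rc_44_3 lc_g_rc_47_2 lc_g_rc_24_1 lc_g_rc_47_2 lc_g_rc_47_2 lc_g_rc_24_1 lc_g_rc_16_1 lc_g_rc_16_1 lc_g_rc_24_3 lc_g_rc_47_2 lc_g_rc_31_1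 lc_g_rc_50_2 lc_g_rc_47_2 lc_g_rc_31_1 lc_g_rc_31_1 lc_g_rc_37_1 lc_g_rc_47_0 lc_g_rc_31_1 lc_g_rc_44_1 lc_g_rc_24_1 lc_g_rc_47_0 lc_g_rc_47_2 lc_g_rc_47_2 lc_g_rc_44_3 lc_g_rc_47_2 lc_g_rc_37_1 lc_g_rc_44_3 lc_g_rc_47_2 lc_g_rc_16_1 lc_g_rc_50_2 lc_g_rc_49_2 lc_g_rc_31_1 lc_g_rc_37_1 lc_g_rc_31_1 lc_g_rc_50_2 lc_g_rc_50_2 lc_g_rc_47_2 lc_g_rc_47_2 lc_g_rc_7_1 lc_g_rc_7_1) (@D3.rec (fun _ => (Cert rels S Gen.g)) lc_g_rc_47_2 lc_g_rc_47_2 lc_g_rc_24_1 lc_g_rc_37_1 lc_g_rc_50_2 lc_g_rc_24_1 lc_g_rc_50_2 lc_g_rc_47_2 lc_g_rc_47_2 lc_g_rc_31_1 lc_g_rc_50_2 lc_g_rc_24_1 lc_g_rc_7_1 lc_g_rc_7_1 lc_g_rc_50_2 lc_g_rc_24_1 lc_g_rc_7_3 lc_g_rc_50_2 lc_g_rc_47_2 lc_g_rc_50_2 lc_g_rc_47_2 lc_g_rc_47_2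 lc_g_rc_7_3 lc_g_rc_47_2 lc_g_rc_31_1 lc_g_rc_50_2 lc_g_rc_24_1 lc_g_rc_7_1 lc_g_rc_47_2 lc_g_rc_31_1 lc_g_rc_7_1 lc_g_rc_37_1 lc_g_rc_16_1 lc_g_rc_7_3 lc_g_rc_24_1 lc_g_rc_47_2 lc_g_rc_50_2 lc_g_rc_50_2 lc_g_rc_16_1 lc_g_rc_24_1 lc_g_Cert_tree lc_g_rc_50_2 lc_g_rc_47_2 lc_g_rc_16_1 lc_g_rc_50_2 lc_g_rc_47_2 lc_g_rc_48_0 lc_g_rc_50_2 lc_g_rc_47_2 lc_g_rc_31_1 lc_g_rc_50_2) (@D3.rec (fun _ => (Cert rels S Gen.g)) lc_g_rc_37_1 lc_g_rc_50_2 lc_g_rc_7_3 lc_g_rc_24_1 lc_g_rc_24_1 lc_g_Cert_tree lc_g_rc_37_1 lc_g_rc_44_3 lc_g_rc_47_2 lc_g_rc_16_1 lc_g_rc_47_2 lc_g_rc_48_0 lc_g_rc_50_2 lc_g_rc_47_2 lc_g_rc_50_2 lc_g_rc_50_2 lc_g_rc_16_1 lc_g_rc_48_0 lc_g_rc_50_2 lc_g_rc_7_1 lc_g_rc_31_1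 lc_g_rc_50_2 lc_g_rc_47_2 lc_g_rc_31_1 lc_g_rc_50_2 lc_g_rc_47_2 lc_g_rc_31_1 lc_g_rc_47_2 lc_g_rc_31_1 lc_g_rc_24_1 lc_g_rc_37_1 lc_g_rc_24_3 lc_g_rc_7_3 lc_g_rc_31_1 lc_g_rc_24_1 lc_g_rc_24_1 lc_g_rc_47_2 lc_g_rc_16_1 lc_g_rc_31_1 lc_g_rc_31_1 lc_g_rc_37_1 lc_g_rc_50_2 lc_g_rc_37_1 lc_g_rc_37_3 lc_g_rc_7_1 lc_g_rc_16_1 lc_g_rc_50_2 lc_g_rc_50_2 lc_g_rc_50_2 lc_g_rc_47_2 lc_g_rc_16_3) (@D3.rec (fun _ => (Cert rels S Gen.g)) lc_g_rc_50_2 lc_g_rc_24_1 lc_g_rc_31_1 lc_g_rc_31_1 lc_g_rc_50_2 lc_g_rc_16_1 lc_g_rc_24_1 lc_g_rc_47_2 lc_g_rc_16_1 lc_g_rc_47_2 lc_g_rc_37_1 lc_g_rc_47_2 lc_g_rc_37_1 lc_g_rc_44_3 lc_g_rc_50_2 lc_g_rc_24_1 lc_g_rc_7_1 lc_g_rc_7_1 lc_g_rc_24_1 lc_g_rc_7_1 lc_g_rc_16_1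 lc_g_rc_24_1 lc_g_rc_24_1 lc_g_rc_44_3 lc_g_rc_50_2 lc_g_rc_47_2 lc_g_rc_16_1 lc_g_rc_24_1 lc_g_rc_47_2 lc_g_rc_47_2 lc_g_rc_31_1 lc_g_rc_50_2 lc_g_rc_49_2 lc_g_rc_37_1 lc_g_rc_50_2 lc_g_rc_44_3 lc_g_rc_24_1 lc_g_rc_24_1 lc_g_rc_31_1 lc_g_rc_7_1 lc_g_rc_7_1 lc_g_rc_50_2 lc_g_rc_44_3 lc_g_rc_50_2 lc_g_rc_7_1 lc_g_rc_7_1 lc_g_rc_16_1 lc_g_rc_24_1 lc_g_rc_24_1 lc_g_rc_47_2 lc_g_rc_31_1) (@D3.rec (fun _ => (Cert rels S Gen.g)) lc_g_rc_47_2 lc_g_rc_7_1 lc_g_rc_24_1 lc_g_rc_16_1 lc_g_rc_47_2 lc_g_rc_31_1 lc_g_rc_31_1 lc_g_rc_48_0 lc_g_rc_50_2 lc_g_rc_16_1 lc_g_rc_44_3 lc_g_rc_31_1 lc_g_rc_24_1 lc_g_rc_16_1 lc_g_rc_50_2 lc_g_rc_24_1 lc_g_rc_44_3 lc_g_rc_16_1 lc_g_rc_24_1 lc_g_rc_7_1 lc_g_rc_16_1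 lc_g_rc_44_1 lc_g_rc_7_1 lc_g_rc_16_1 lc_g_rc_31_1 lc_g_rc_7_1 lc_g_rc_31_1 lc_g_rc_37_1 lc_g_rc_49_2 lc_g_rc_37_3 lc_g_rc_49_0 lc_g_rc_47_2 lc_g_rc_50_2 lc_g_rc_31_1 lc_g_rc_50_2 lc_g_rc_24_1 lc_g_rc_37_1 lc_g_rc_50_2 lc_g_rc_16_1 lc_g_rc_24_1 lc_g_rc_24_1 lc_g_Cert_tree lc_g_rc_50_2 lc_g_rc_50_2 lc_g_rc_24_1 lc_g_rc_47_2 lc_g_rc_50_2 lc_g_rc_50_2 lc_g_rc_16_1 lc_g_rc_44_3 lc_g_rc_24_1) (@D3.rec (fun _ => (Cert rels S Gen.g)) lc_g_rc_47_2 lc_g_rc_48_0 lc_g_rc_50_2 lc_g_rc_47_2 lc_g_rc_16_1 lc_g_rc_47_2 lc_g_rc_31_1 lc_g_rc_50_2 lc_g_rc_47_2 lc_g_rc_31_1 lc_g_rc_37_1 lc_g_rc_50_2 lc_g_rc_37_1 lc_g_rc_7_3 lc_g_rc_16_1 lc_g_rc_50_2 lc_g_rc_47_2 lc_g_rc_7_1 lc_g_rc_16_1 lc_g_rc_16_1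 lc_g_rc_31_1 lc_g_Cert_tree lc_g_rc_24_1 lc_g_rc_24_1 lc_g_rc_48_0 lc_g_rc_50_2 lc_g_rc_47_2 lc_g_rc_7_1 lc_g_rc_24_1 lc_g_rc_24_1 lc_g_rc_50_2 lc_g_rc_16_1 lc_g_rc_7_1 lc_g_rc_44_3 lc_g_rc_16_1 lc_g_rc_16_1 lc_g_rc_48_0 lc_g_rc_50_2 lc_g_rc_47_2 lc_g_rc_31_1 lc_g_rc_44_3 lc_g_rc_50_2 lc_g_rc_47_2 lc_g_rc_31_1 lc_g_rc_7_1 lc_g_rc_16_1 lc_g_rc_31_1 lc_g_rc_50_2 lc_g_rc_47_2 lc_g_rc_31_1 lc_g_rc_37_1) (@D3.rec (fun _ => (Cert rels S Gen.g)) lc_g_rc_50_2 lc_g_rc_47_2 lc_g_rc_31_1 lc_g_rc_24_1 lc_g_rc_16_1 lc_g_rc_31_1 lc_g_rc_16_1 lc_g_rc_47_2 lc_g_rc_31_1 lc_g_rc_24_1 lc_g_rc_31_1 lc_g_rc_24_1 lc_g_rc_16_1 lc_g_rc_49_2 lc_g_rc_50_2 lc_g_rc_37_3 lc_g_rc_24_3 lc_g_rc_7_1 lc_g_rc_7_1 lc_g_rc_16_1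 lc_g_rc_16_1 lc_g_rc_16_1 lc_g_rc_47_2 lc_g_rc_31_1 lc_g_rc_24_1 lc_g_rc_31_1 lc_g_rc_31_1 lc_g_rc_47_0 lc_g_rc_7_1 lc_g_rc_31_1 lc_g_rc_37_1 lc_g_rc_7_1 lc_g_rc_7_1 lc_g_rc_16_1 lc_g_rc_50_2 lc_g_rc_47_2 lc_g_rc_47_2 lc_g_rc_31_1 lc_g_rc_47_2 lc_g_rc_37_1 lc_g_rc_44_3 lc_g_rc_44_1 lc_g_rc_7_1 lc_g_rc_24_1 lc_g_rc_16_1 lc_g_rc_24_1 lc_g_rc_47_2 lc_g_rc_47_2 lc_g_rc_31_1 lc_g_rc_50_2 lc_g_rc_37_1) (@D3.rec (fun _ => (Cert rels S Gen.g)) lc_g_rc_50_2 lc_g_rc_44_3 lc_g_rc_7_1 lc_g_rc_7_1 lc_g_rc_7_1 lc_g_rc_47_2 lc_g_rc_16_1 lc_g_rc_47_2 lc_g_rc_31_1 lc_g_rc_47_2 lc_g_rc_31_3 lc_g_rc_31_1 lc_g_rc_7_3 lc_g_rc_47_2 lc_g_rc_7_1 lc_g_rc_31_1 lc_g_rc_31_1 lc_g_rc_31_1 lc_g_rc_50_2 lc_g_rc_37_1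 lc_g_rc_50_2 lc_g_rc_44_3 lc_g_rc_50_2 lc_g_rc_50_2 lc_g_rc_7_3 lc_g_rc_37_1 lc_g_rc_47_2 lc_g_rc_16_3 lc_g_rc_47_2 lc_g_rc_31_1 lc_g_rc_24_1 lc_g_rc_37_1 lc_g_rc_50_2 lc_g_rc_24_1 lc_g_rc_24_1 lc_g_rc_7_3 lc_g_rc_50_2 lc_g_rc_47_2 lc_g_rc_16_1 lc_g_rc_16_1 lc_g_rc_31_1 lc_g_rc_47_2 lc_g_rc_24_1 lc_g_rc_24_1 lc_g_rc_48_0 lc_g_rc_50_2 lc_g_rc_47_2 lc_g_rc_47_2 lc_g_rc_7_3 lc_g_rc_47_2 lc_g_rc_16_1) (@D3.rec (fun _ => (Cert rels S Gen.g)) lc_g_rc_44_3 lc_g_rc_47_2 lc_g_rc_7_1 lc_g_rc_50_2 lc_g_rc_47_2 lc_g_rc_31_1 lc_g_rc_49_2 lc_g_rc_47_2 lc_g_rc_31_1 lc_g_rc_24_1 lc_g_rc_50_2 lc_g_rc_47_2 lc_g_rc_49_2 lc_g_rc_7_1 lc_g_rc_47_2 lc_g_rc_31_1 lc_g_rc_24_1 lc_g_rc_47_2 lc_g_rc_31_1 lc_g_rc_24_1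 lc_g_rc_31_1 lc_g_rc_49_2 lc_g_rc_49_2 lc_g_rc_37_1 lc_g_rc_16_1 lc_g_rc_31_1 lc_g_rc_47_2 lc_g_rc_31_1 lc_g_rc_50_2 lc_g_rc_16_1 lc_g_rc_37_1 lc_g_rc_50_2 lc_g_rc_47_0 lc_g_rc_16_3 lc_g_rc_37_1 lc_g_rc_7_3 lc_g_rc_24_1 lc_g_rc_47_2 lc_g_rc_47_2 lc_g_rc_31_1 lc_g_rc_37_3 lc_g_rc_50_2 lc_g_rc_24_1 lc_g_rc_31_1 lc_g_rc_31_1 lc_g_rc_31_1 lc_g_rc_50_2 lc_g_rc_37_1 lc_g_rc_50_2 lc_g_rc_44_3 lc_g_rc_7_1) (@D3.rec (fun _ => (Cert rels S Gen.g)) lc_g_rc_7_1 lc_g_Cert_tree lc_g_rc_37_1 lc_g_rc_47_2 lc_g_rc_7_3 lc_g_rc_47_2 lc_g_rc_31_1 lc_g_rc_24_1 lc_g_rc_37_1 lc_g_rc_50_2 lc_g_rc_24_1 lc_g_rc_24_1 lc_g_Cert_tree lc_g_rc_50_2 lc_g_rc_47_2 lc_g_rc_16_1 lc_g_rc_16_1 lc_g_rc_31_1 lc_g_rc_44_3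 lc_g_rc_24_1 lc_g_rc_24_1 lc_g_rc_37_1 lc_g_rc_7_1 lc_g_Cert_tree lc_g_rc_24_1 lc_g_rc_44_5 lc_g_rc_48_0 lc_g_rc_50_2 lc_g_rc_47_2 lc_g_rc_16_1 lc_g_rc_7_3 lc_g_rc_47_2 lc_g_rc_7_3 lc_g_rc_31_1 lc_g_rc_31_1 lc_g_rc_24_1 lc_g_rc_50_2 lc_g_rc_47_2 lc_g_rc_49_2 lc_g_rc_44_3 lc_g_rc_24_1 lc_g_rc_24_1 lc_g_rc_24_1 lc_g_rc_50_2 lc_g_rc_49_2 lc_g_rc_24_1 lc_g_rc_7_1 lc_g_rc_7_1 lc_g_rc_16_1 lc_g_rc_16_1 lc_g_rc_47_2) (@D3.rec (fun _ => (Cert rels S Gen.g)) lc_g_rc_31_1 lc_g_rc_31_1 lc_g_rc_50_2 lc_g_rc_37_3 lc_g_rc_37_1 lc_g_rc_50_2 lc_g_rc_16_1 lc_g_rc_24_1 lc_g_rc_24_1 lc_g_Cert_tree lc_g_rc_31_1 lc_g_rc_47_2 lc_g_rc_24_1 lc_g_rc_37_1 lc_g_rc_50_2 lc_g_rc_7_1 lc_g_rc_24_1 lc_g_rc_24_1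 lc_g_Cert_tree lc_g_rc_50_2 lc_g_rc_47_2 lc_g_rc_16_1 lc_g_rc_16_1 lc_g_rc_31_1 lc_g_Cert_tree lc_g_rc_24_1 lc_g_rc_24_1 lc_g_rc_48_0 lc_g_rc_50_2 lc_g_rc_50_2 lc_g_rc_16_1 lc_g_Cert_tree lc_g_rc_49_2 lc_g_rc_49_2 lc_g_rc_48_0 lc_g_rc_50_2 lc_g_rc_47_2 lc_g_rc_16_1 lc_g_rc_48_0 lc_g_rc_50_2 lc_g_rc_47_2 lc_g_rc_49_2 lc_g_rc_50_2 lc_g_rc_47_2 lc_g_rc_31_1 lc_g_rc_47_2 lc_g_rc_50_2 lc_g_rc_47_2 lc_g_rc_31_1 lc_g_rc_49_2 lc_g_rc_47_2) (@D3.rec (fun _ => (Cert rels S Gen.g)) lc_g_rc_31_1 lc_g_rc_24_1 lc_g_rc_16_1 lc_g_rc_24_1 lc_g_rc_24_1 lc_g_Cert_tree lc_g_rc_50_2 lc_g_rc_47_2 lc_g_rc_31_1 lc_g_rc_16_1 lc_g_rc_16_1 lc_g_rc_31_1 lc_g_Cert_tree lc_g_rc_24_1 lc_g_rc_47_2 lc_g_rc_48_0 lc_g_rc_50_2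 lc_g_rc_47_2 lc_g_rc_7_1 lc_g_rc_7_1 lc_g_rc_16_1 lc_g_Cert_tree lc_g_rc_16_1 lc_g_rc_16_1 lc_g_Cert_tree lc_g_rc_44_5 lc_g_rc_31_1 lc_g_rc_48_0 lc_g_rc_50_2 lc_g_rc_24_1 lc_g_rc_31_1 lc_g_rc_49_2 lc_g_rc_50_2 lc_g_rc_47_2 lc_g_rc_31_1 lc_g_rc_50_2 lc_g_rc_24_1 lc_g_rc_16_1 lc_g_rc_16_1 lc_g_rc_48_0 lc_g_rc_50_2 lc_g_rc_47_2 lc_g_rc_49_2 lc_g_rc_49_2 lc_g_rc_50_2 lc_g_rc_47_2 lc_g_rc_49_2 lc_g_rc_7_1 lc_g_rc_48_0 lc_g_rc_50_2 lc_g_rc_16_1) (@D3.rec (fun _ => (Cert rels S Gen.g)) lc_g_rc_31_1 lc_g_rc_24_1 lc_g_rc_50_2 lc_g_rc_47_2 lc_g_rc_31_1 lc_g_rc_37_1 lc_g_rc_50_2 lc_g_rc_47_2 lc_g_rc_31_1 lc_g_rc_24_1 lc_g_rc_16_1 lc_g_rc_50_2 lc_g_rc_47_2 lc_g_rc_31_1 lc_g_rc_24_1 lc_g_rc_47_2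 lc_g_rc_31_1 lc_g_rc_24_1 lc_g_rc_37_1 lc_g_rc_47_2 lc_g_rc_31_1 lc_g_rc_24_1 lc_g_rc_16_1 lc_g_rc_50_2 lc_g_rc_47_2 lc_g_rc_31_1 lc_g_rc_24_1 lc_g_rc_47_2 lc_g_rc_31_1 lc_g_rc_24_1 lc_g_rc_37_1 lc_g_rc_16_1 lc_g_rc_49_2 lc_g_rc_24_1 lc_g_rc_7_1 lc_g_rc_16_1 lc_g_rc_31_1 lc_g_rc_24_1 lc_g_rc_47_2 lc_g_rc_49_4 lc_g_rc_49_2 lc_g_rc_49_2 lc_g_rc_31_1 lc_g_rc_31_1 lc_g_rc_7_1 lc_g_rc_44_3 lc_g_rc_50_2 lc_g_rc_7_1 lc_g_rc_50_2 lc_g_rc_47_2 lc_g_rc_31_1) (@D3.rec (fun _ => (Cert rels S Gen.g)) lc_g_rc_37_1 lc_g_rc_37_3 lc_g_rc_7_1 lc_g_rc_16_1 lc_g_rc_49_2 lc_g_rc_7_3 lc_g_rc_50_2 lc_g_rc_47_2 lc_g_rc_24_1 lc_g_rc_47_2 lc_g_rc_50_2 lc_g_rc_7_1 lc_g_rc_24_1 lc_g_rc_37_1 lc_g_rc_7_1 lc_g_rc_16_1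 lc_g_rc_16_1 lc_g_rc_24_1 lc_g_rc_24_1 lc_g_rc_24_1 lc_g_rc_47_2 lc_g_rc_7_1 lc_g_rc_7_1 lc_g_rc_16_1 lc_g_rc_16_1 lc_g_rc_47_2 lc_g_rc_31_1 lc_g_rc_50_2 lc_g_rc_50_2 lc_g_rc_49_4 lc_g_rc_7_1 lc_g_rc_47_2 lc_g_rc_31_1 lc_g_rc_7_1 lc_g_rc_31_1 lc_g_rc_44_3 lc_g_rc_16_3 lc_g_rc_50_0 lc_g_rc_16_3 lc_g_rc_16_1 lc_g_rc_47_2 lc_g_rc_50_2 lc_g_rc_16_1 lc_g_rc_49_4 lc_g_rc_50_0 lc_g_rc_31_3 lc_g_rc_47_2 lc_g_rc_50_2 lc_g_rc_47_2 lc_g_rc_16_1 lc_g_rc_37_1)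
def ce_g_14 : D2 → D3 → (Cert rels S Gen.g) := @D2.rec (fun _ => D3 → (Cert rels S Gen.g)) (@D3.rec (fun _ => (Cert rels S Gen.g)) lc_g_rc_44_3 lc_g_rc_16_1 lc_g_rc_16_1 lc_g_rc_16_1 lc_g_rc_47_2 lc_g_rc_31_1 lc_g_rc_7_1 lc_g_rc_7_1 lc_g_rc_31_1 lc_g_rc_47_2 lc_g_rc_50_2 lc_g_rc_50_2 lc_g_rc_50_2 lc_g_rc_47_2 lc_g_rc_37_1 lc_g_rc_50_2 lc_g_rc_37_1 lc_g_rc_7_3 lc_g_rc_50_2 lc_g_rc_47_2 lc_g_rc_37_1 lc_g_rc_31_1 lc_g_rc_31_1 lc_g_Cert_tree lc_g_rc_24_1 lc_g_rc_24_1 lc_g_rc_48_0 lc_g_rc_50_2 lc_g_rc_47_2 lc_g_rc_50_2 lc_g_rc_37_1 lc_g_rc_44_3 lc_g_rc_16_1 lc_g_rc_16_1 lc_g_rc_48_0 lc_g_rc_50_2 lc_g_rc_47_2 lc_g_rc_31_1 lc_g_rc_50_2 lc_g_rc_47_2 lc_g_rc_16_1 lc_g_rc_50_2 lc_g_rc_47_2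 lc_g_rc_31_1 lc_g_rc_50_2 lc_g_rc_47_2 lc_g_rc_31_1 lc_g_rc_7_1 lc_g_rc_31_1 lc_g_rc_24_1 lc_g_rc_31_1) (@D3.rec (fun _ => (Cert rels S Gen.g)) lc_g_rc_31_1 lc_g_rc_31_1 lc_g_rc_50_2 lc_g_rc_50_2 lc_g_rc_50_2 lc_g_rc_47_2 lc_g_rc_31_1 lc_g_rc_47_2 lc_g_rc_44_3 lc_g_rc_16_1 lc_g_rc_16_1 lc_g_rc_24_1 lc_g_rc_24_1 lc_g_rc_47_2 lc_g_rc_7_1 lc_g_rc_16_1 lc_g_rc_47_2 lc_g_rc_7_1 lc_g_rc_16_1 lc_g_rc_31_1 lc_g_rc_7_1 lc_g_rc_31_1 lc_g_rc_7_1 lc_g_rc_16_1 lc_g_rc_31_1 lc_g_rc_7_1 lc_g_rc_16_1 lc_g_rc_49_2 lc_g_rc_7_1 lc_g_rc_31_1 lc_g_rc_37_1 lc_g_rc_7_1 lc_g_rc_16_1 lc_g_rc_7_1 lc_g_rc_7_3 lc_g_rc_7_3 lc_g_rc_16_1 lc_g_rc_16_1 lc_g_rc_16_1 lc_g_rc_24_1 lc_g_rc_24_1 lc_g_rc_7_1 lc_g_rc_7_1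 lc_g_rc_7_1 lc_g_rc_7_1 lc_g_rc_47_2 lc_g_rc_31_1 lc_g_rc_24_1 lc_g_rc_37_1 lc_g_rc_50_2 lc_g_rc_16_1) (@D3.rec (fun _ => (Cert rels S Gen.g)) lc_g_rc_24_1 lc_g_rc_24_1 lc_g_rc_49_4 lc_g_rc_50_2 lc_g_rc_47_2 lc_g_rc_37_1 lc_g_rc_16_1 lc_g_rc_31_1 lc_g_rc_47_2 lc_g_rc_24_1 lc_g_rc_24_1 lc_g_rc_37_1 lc_g_rc_7_1 lc_g_rc_16_1 lc_g_rc_7_1 lc_g_rc_7_1 lc_g_rc_7_1 lc_g_rc_50_2 lc_g_rc_7_1 lc_g_rc_16_1 lc_g_rc_16_1 lc_g_rc_47_2 lc_g_rc_31_1 lc_g_rc_7_3 lc_g_rc_31_1 lc_g_rc_31_1 lc_g_rc_37_1 lc_g_rc_16_1 lc_g_rc_24_1 lc_g_rc_47_2 lc_g_rc_16_1 lc_g_rc_37_3 lc_g_rc_37_1 lc_g_rc_47_2 lc_g_rc_37_1 lc_g_rc_7_1 lc_g_rc_31_1 lc_g_rc_16_1 lc_g_rc_31_3 lc_g_rc_31_1 lc_g_rc_7_1 lc_g_rc_31_1 lc_g_rc_50_2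 lc_g_rc_16_1 lc_g_rc_7_1 lc_g_rc_7_1 lc_g_rc_31_1 lc_g_rc_37_1 lc_g_rc_37_1 lc_g_rc_16_1 lc_g_rc_24_1) (@D3.rec (fun _ => (Cert rels S Gen.g)) lc_g_rc_24_1 lc_g_rc_31_1 lc_g_rc_47_2 lc_g_rc_24_1 lc_g_rc_37_1 lc_g_rc_50_2 lc_g_rc_16_1 lc_g_rc_24_1 lc_g_rc_24_1 lc_g_rc_50_2 lc_g_rc_47_2 lc_g_rc_16_1 lc_g_rc_16_1 lc_g_rc_31_1 lc_g_rc_7_1 lc_g_rc_24_1 lc_g_rc_24_1 lc_g_rc_48_0 lc_g_rc_50_2 lc_g_rc_50_2 lc_g_rc_16_1 lc_g_rc_49_2 lc_g_rc_44_3 lc_g_rc_16_1 lc_g_rc_16_1 lc_g_rc_50_2 lc_g_rc_47_2 lc_g_rc_31_1 lc_g_rc_50_2 lc_g_rc_47_2 lc_g_rc_16_1 lc_g_rc_31_1 lc_g_rc_49_2 lc_g_rc_47_2 lc_g_rc_24_1 lc_g_rc_24_1 lc_g_rc_16_3 lc_g_rc_50_2 lc_g_rc_47_2 lc_g_rc_7_3 lc_g_rc_7_3 lc_g_rc_31_1 lc_g_rc_49_4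 lc_g_rc_24_1 lc_g_rc_47_2 lc_g_rc_50_2 lc_g_rc_47_2 lc_g_rc_7_1 lc_g_rc_7_1 lc_g_rc_16_1 lc_g_Cert_tree) (@D3.rec (fun _ => (Cert rels S Gen.g)) lc_g_rc_16_1 lc_g_rc_16_1 lc_g_Cert_tree lc_g_rc_47_2 lc_g_rc_31_1 lc_g_rc_48_0 lc_g_rc_50_2 lc_g_rc_24_1 lc_g_rc_31_1 lc_g_rc_49_2 lc_g_rc_50_2 lc_g_rc_47_2 lc_g_rc_31_1 lc_g_rc_49_2 lc_g_rc_50_2 lc_g_rc_7_3 lc_g_rc_16_1 lc_g_rc_16_1 lc_g_rc_50_2 lc_g_rc_47_2 lc_g_rc_49_2 lc_g_rc_50_2 lc_g_rc_44_3 lc_g_rc_7_1 lc_g_rc_7_1 lc_g_rc_48_0 lc_g_rc_50_2 lc_g_rc_16_1 lc_g_rc_31_1 lc_g_rc_47_2 lc_g_rc_50_2 lc_g_rc_47_2 lc_g_rc_31_1 lc_g_rc_37_1 lc_g_rc_50_2 lc_g_rc_47_2 lc_g_rc_7_1 lc_g_rc_16_1 lc_g_rc_50_2 lc_g_rc_47_2 lc_g_rc_31_1 lc_g_rc_24_1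 lc_g_rc_47_2 lc_g_rc_31_1 lc_g_rc_47_2 lc_g_rc_47_2 lc_g_rc_37_3 lc_g_rc_47_2 lc_g_rc_37_3 lc_g_rc_37_1 lc_g_rc_31_1) (@D3.rec (fun _ => (Cert rels S Gen.g)) lc_g_rc_7_1 lc_g_rc_16_1 lc_g_rc_16_1 lc_g_rc_16_1 lc_g_rc_16_1 lc_g_rc_50_2 lc_g_rc_47_2 lc_g_rc_31_1 lc_g_rc_37_1 lc_g_rc_7_1 lc_g_rc_16_1 lc_g_rc_49_2 lc_g_rc_16_1 lc_g_rc_50_2 lc_g_rc_47_2 lc_g_rc_24_1 lc_g_rc_44_3 lc_g_rc_44_3 lc_g_rc_24_1 lc_g_rc_16_1 lc_g_rc_24_3 lc_g_rc_37_1 lc_g_rc_7_1 lc_g_rc_7_1 lc_g_rc_31_1 lc_g_rc_37_1 lc_g_rc_50_2 lc_g_rc_31_1 lc_g_rc_7_3 lc_g_rc_47_2 lc_g_rc_16_1 lc_g_rc_31_1 lc_g_rc_7_1 lc_g_rc_7_1 lc_g_rc_31_1 lc_g_rc_31_1 lc_g_rc_31_1 lc_g_rc_31_1 lc_g_rc_24_3 lc_g_rc_31_1 lc_g_rc_31_1 lc_g_rc_37_1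 lc_g_rc_44_1 lc_g_rc_7_1 lc_g_rc_7_1 lc_g_rc_47_2 lc_g_rc_37_1 lc_g_rc_31_1 lc_g_rc_24_1 lc_g_rc_24_1 lc_g_rc_7_1) (@D3.rec (fun _ => (Cert rels S Gen.g)) lc_g_rc_7_1 lc_g_rc_37_1 lc_g_rc_47_2 lc_g_rc_31_1 lc_g_rc_50_2 lc_g_rc_24_1 lc_g_rc_16_1 lc_g_rc_31_1 lc_g_rc_31_1 lc_g_rc_37_1 lc_g_rc_24_1 lc_g_rc_24_1 lc_g_rc_50_2 lc_g_rc_50_2 lc_g_rc_47_2 lc_g_rc_24_1 lc_g_rc_31_1 lc_g_rc_37_1 lc_g_rc_44_3 lc_g_rc_31_1 lc_g_rc_24_1 lc_g_rc_24_1 lc_g_rc_24_1 lc_g_rc_31_1 lc_g_rc_47_2 lc_g_rc_24_1 lc_g_rc_47_2 lc_g_rc_31_1 lc_g_rc_44_3 lc_g_rc_24_1 lc_g_rc_24_1 lc_g_rc_31_1 lc_g_rc_31_1 lc_g_rc_37_1 lc_g_rc_47_2 lc_g_rc_31_1 lc_g_rc_24_1 lc_g_rc_31_1 lc_g_rc_37_1 lc_g_Cert_tree lc_g_rc_24_1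 lc_g_rc_24_1 lc_g_rc_7_1 lc_g_rc_7_1 lc_g_rc_47_2 lc_g_rc_16_1 lc_g_rc_31_1 lc_g_rc_37_1 lc_g_rc_50_2 lc_g_rc_50_2 lc_g_rc_47_2) (@D3.rec (fun _ => (Cert rels S Gen.g)) lc_g_rc_24_1 lc_g_rc_24_1 lc_g_rc_7_1 lc_g_rc_31_1 lc_g_rc_16_3 lc_g_rc_31_1 lc_g_rc_37_1 lc_g_rc_47_2 lc_g_rc_31_1 lc_g_rc_37_1 lc_g_rc_16_1 lc_g_rc_16_1 lc_g_rc_31_1 lc_g_rc_24_1 lc_g_rc_24_1 lc_g_rc_50_2 lc_g_rc_16_1 lc_g_rc_31_1 lc_g_rc_37_1 lc_g_rc_31_1 lc_g_rc_37_1 lc_g_rc_24_1 lc_g_rc_24_1 lc_g_rc_37_1 lc_g_rc_50_2 lc_g_rc_47_2 lc_g_rc_31_1 lc_g_rc_31_1 lc_g_rc_24_1 lc_g_rc_47_2 lc_g_rc_47_2 lc_g_rc_7_1 lc_g_rc_7_1 lc_g_rc_16_1 lc_g_rc_37_1 lc_g_rc_16_1 lc_g_rc_16_1 lc_g_rc_47_2 lc_g_rc_31_1 lc_g_rc_48_0 lc_g_rc_50_2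 lc_g_rc_24_1 lc_g_rc_31_1 lc_g_rc_37_1 lc_g_rc_50_2 lc_g_rc_47_2 lc_g_rc_31_1 lc_g_rc_37_1 lc_g_rc_47_2 lc_g_rc_7_1 lc_g_rc_31_1) (@D3.rec (fun _ => (Cert rels S Gen.g)) lc_g_rc_16_1 lc_g_rc_31_1 lc_g_rc_50_2 lc_g_rc_47_2 lc_g_rc_31_1 lc_g_rc_37_1 lc_g_rc_50_2 lc_g_rc_47_2 lc_g_rc_7_1 lc_g_rc_7_1 lc_g_rc_50_2 lc_g_rc_24_3 lc_g_rc_24_1 lc_g_rc_37_1 lc_g_rc_47_2 lc_g_rc_16_3 lc_g_Cert_tree lc_g_rc_47_2 lc_g_rc_7_1 lc_g_rc_31_1 lc_g_rc_7_1 lc_g_rc_16_1 lc_g_rc_16_1 lc_g_rc_16_1 lc_g_rc_50_2 lc_g_rc_47_2 lc_g_rc_31_1 lc_g_rc_37_1 lc_g_rc_31_1 lc_g_rc_7_1 lc_g_rc_24_1 lc_g_rc_37_1 lc_g_Cert_tree lc_g_rc_48_0 lc_g_rc_44_1 lc_g_rc_7_1 lc_g_rc_37_1 lc_g_rc_50_2 lc_g_rc_50_2 lc_g_rc_47_2 lc_g_rc_7_1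 lc_g_rc_31_1 lc_g_rc_47_2 lc_g_rc_37_1 lc_g_rc_50_2 lc_g_rc_50_2 lc_g_rc_47_2 lc_g_rc_37_1 lc_g_rc_50_2 lc_g_rc_47_2 lc_g_rc_16_1) (@D3.rec (fun _ => (Cert rels S Gen.g)) lc_g_rc_24_1 lc_g_rc_24_1 lc_g_Cert_tree lc_g_rc_50_2 lc_g_rc_47_2 lc_g_rc_31_1 lc_g_rc_50_2 lc_g_rc_49_2 lc_g_rc_47_2 lc_g_rc_24_1 lc_g_rc_47_2 lc_g_rc_48_0 lc_g_rc_50_2 lc_g_rc_47_2 lc_g_rc_31_1 lc_g_rc_44_1 lc_g_rc_16_1 lc_g_rc_16_1 lc_g_rc_31_1 lc_g_rc_31_1 lc_g_rc_37_1 lc_g_rc_24_1 lc_g_rc_37_1 lc_g_rc_31_1 lc_g_rc_49_2 lc_g_rc_16_1 lc_g_rc_16_1 lc_g_rc_50_2 lc_g_rc_47_2 lc_g_rc_50_2 lc_g_rc_47_2 lc_g_rc_7_1 lc_g_rc_16_1 lc_g_rc_16_3 lc_g_rc_31_1 lc_g_rc_31_1 lc_g_rc_50_2 lc_g_rc_50_2 lc_g_rc_47_2 lc_g_rc_24_1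 lc_g_rc_24_1 lc_g_rc_31_1 lc_g_rc_47_2 lc_g_rc_50_2 lc_g_rc_7_3 lc_g_rc_7_1 lc_g_rc_24_1 lc_g_rc_24_1 lc_g_rc_44_3 lc_g_rc_50_2 lc_g_rc_47_2) (@D3.rec (fun _ => (Cert rels S Gen.g)) lc_g_rc_49_4 lc_g_rc_50_2 lc_g_rc_24_1 lc_g_rc_47_2 lc_g_rc_47_2 lc_g_rc_37_1 lc_g_rc_50_2 lc_g_rc_16_1 lc_g_rc_16_1 lc_g_rc_16_1 lc_g_rc_47_2 lc_g_rc_31_1 lc_g_rc_24_1 lc_g_rc_31_1 lc_g_rc_50_2 lc_g_rc_16_1 lc_g_rc_7_1 lc_g_rc_16_1 lc_g_rc_50_2 lc_g_rc_47_2 lc_g_rc_7_1 lc_g_rc_16_1 lc_g_rc_16_1 lc_g_rc_24_1 lc_g_rc_24_1 lc_g_rc_24_1 lc_g_rc_47_2 lc_g_rc_24_1 lc_g_rc_24_1 lc_g_rc_44_3 lc_g_rc_50_2 lc_g_rc_47_2 lc_g_rc_31_1 lc_g_rc_31_1 lc_g_rc_37_1 lc_g_rc_24_1 lc_g_rc_47_2 lc_g_rc_47_2 lc_g_rc_37_1 lc_g_rc_50_2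 lc_g_rc_16_1 lc_g_rc_37_1 lc_g_rc_16_1 lc_g_rc_16_1 lc_g_Cert_tree lc_g_rc_47_2 lc_g_rc_31_1 lc_g_rc_48_0 lc_g_rc_50_2 lc_g_rc_24_1 lc_g_rc_49_2) (@D3.rec (fun _ => (Cert rels S Gen.g)) lc_g_rc_50_2 lc_g_rc_47_2 lc_g_rc_31_1 lc_g_rc_50_2 lc_g_rc_16_1 lc_g_rc_16_1 lc_g_rc_49_2 lc_g_rc_7_1 lc_g_rc_50_2 lc_g_rc_16_1 lc_g_rc_47_2 lc_g_rc_50_2 lc_g_rc_47_2 lc_g_rc_31_1 lc_g_rc_50_2 lc_g_rc_47_2 lc_g_rc_31_1 lc_g_rc_49_2 lc_g_rc_47_2 lc_g_rc_31_1 lc_g_rc_49_2 lc_g_rc_44_3 lc_g_rc_24_1 lc_g_rc_47_2 lc_g_rc_48_0 lc_g_rc_50_2 lc_g_rc_47_2 lc_g_rc_31_1 lc_g_rc_31_1 lc_g_rc_31_1 lc_g_rc_7_3 lc_g_rc_31_1 lc_g_rc_47_2 lc_g_rc_7_3 lc_g_rc_49_2 lc_g_rc_50_2 lc_g_rc_47_2 lc_g_rc_31_1 lc_g_rc_37_1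 lc_g_rc_7_1 lc_g_rc_7_1 lc_g_Cert_tree lc_g_rc_16_1 lc_g_rc_48_0 lc_g_rc_50_2 lc_g_rc_16_1 lc_g_rc_16_1 lc_g_rc_48_0 lc_g_rc_48_1 lc_g_rc_50_2 lc_g_rc_50_2) (@D3.rec (fun _ => (Cert rels S Gen.g)) lc_g_rc_44_5 lc_g_rc_31_1 lc_g_rc_50_2 lc_g_rc_47_2 lc_g_rc_31_1 lc_g_rc_37_1 lc_g_rc_50_2 lc_g_rc_47_2 lc_g_rc_31_1 lc_g_rc_24_1 lc_g_rc_7_1 lc_g_rc_50_2 lc_g_rc_7_1 lc_g_rc_31_1 lc_g_rc_16_1 lc_g_rc_47_2 lc_g_rc_47_2 lc_g_rc_47_2 lc_g_rc_50_2 lc_g_rc_47_2 lc_g_rc_50_2 lc_g_rc_7_1 lc_g_rc_50_2 lc_g_rc_47_2 lc_g_rc_31_1 lc_g_rc_37_3 lc_g_rc_47_2 lc_g_rc_31_1 lc_g_rc_37_1 lc_g_rc_16_1 lc_g_rc_47_2 lc_g_rc_16_1 lc_g_rc_47_2 lc_g_rc_31_1 lc_g_rc_24_1 lc_g_rc_47_2 lc_g_rc_31_1 lc_g_rc_50_2 lc_g_rc_37_1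 lc_g_Cert_tree lc_g_rc_24_1 lc_g_rc_7_1 lc_g_rc_7_1 lc_g_rc_49_2 lc_g_rc_7_1 lc_g_rc_7_1 lc_g_rc_31_3 lc_g_rc_7_1 lc_g_rc_16_1 lc_g_rc_16_1 lc_g_rc_16_1) (@D3.rec (fun _ => (Cert rels S Gen.g)) lc_g_rc_24_1 lc_g_rc_24_1 lc_g_rc_24_1 lc_g_rc_31_1 lc_g_rc_31_1 lc_g_rc_24_1 lc_g_rc_16_1 lc_g_rc_50_2 lc_g_rc_47_2 lc_g_rc_48_0 lc_g_rc_44_3 lc_g_rc_16_1 lc_g_rc_16_1 lc_g_rc_50_2 lc_g_rc_47_2 lc_g_rc_37_3 lc_g_rc_48_0 lc_g_rc_7_1 lc_g_rc_7_1 lc_g_rc_24_1 lc_g_rc_7_1 lc_g_rc_16_1 lc_g_rc_37_1 lc_g_rc_37_1 lc_g_rc_7_1 lc_g_rc_16_1 lc_g_rc_50_2 lc_g_rc_31_3 lc_g_rc_7_3 lc_g_rc_50_2 lc_g_rc_47_2 lc_g_rc_16_1 lc_g_rc_47_2 lc_g_rc_50_2 lc_g_rc_50_2 lc_g_rc_47_2 lc_g_rc_50_2 lc_g_rc_47_2 lc_g_rc_47_2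 lc_g_rc_31_1 lc_g_rc_24_1 lc_g_rc_37_1 lc_g_rc_37_1 lc_g_rc_24_1 lc_g_rc_16_1 lc_g_rc_31_1 lc_g_rc_7_3 lc_g_rc_47_2 lc_g_rc_31_1 lc_g_rc_24_1 lc_g_rc_31_1) (@D3.rec (fun _ => (Cert rels S Gen.g)) lc_g_rc_37_1 lc_g_rc_16_1 lc_g_rc_47_2 lc_g_rc_31_1 lc_g_rc_24_1 lc_g_rc_16_1 lc_g_rc_31_1 lc_g_rc_31_1 lc_g_rc_16_1 lc_g_rc_7_1 lc_g_rc_24_3 lc_g_rc_47_2 lc_g_rc_47_2 lc_g_rc_37_1 lc_g_rc_7_1 lc_g_rc_7_1 lc_g_rc_16_1 lc_g_rc_24_1 lc_g_rc_24_1 lc_g_rc_31_3 lc_g_rc_50_2 lc_g_rc_47_2 lc_g_rc_24_1 lc_g_rc_16_1 lc_g_rc_47_2 lc_g_rc_37_1 lc_g_rc_7_3 lc_g_rc_47_2 lc_g_rc_7_1 lc_g_rc_50_2 lc_g_rc_47_2 lc_g_rc_31_1 lc_g_rc_37_1 lc_g_rc_44_5 lc_g_rc_47_2 lc_g_rc_50_2 lc_g_rc_44_3 lc_g_rc_50_2 lc_g_rc_47_2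 lc_g_rc_47_2 lc_g_rc_37_1 lc_g_rc_7_3 lc_g_rc_7_1 lc_g_rc_50_2 lc_g_rc_31_1 lc_g_rc_37_1 lc_g_rc_44_3 lc_g_rc_44_3 lc_g_rc_50_2 lc_g_rc_16_3 lc_g_rc_7_1) (@D3.rec (fun _ => (Cert rels S Gen.g)) lc_g_rc_16_1 lc_g_rc_16_1 lc_g_rc_24_1 lc_g_rc_24_1 lc_g_rc_47_2 lc_g_rc_31_1 lc_g_rc_47_2 lc_g_rc_7_1 lc_g_rc_16_1 lc_g_rc_16_1 lc_g_rc_47_2 lc_g_rc_31_1 lc_g_rc_50_2 lc_g_rc_44_3 lc_g_rc_31_1 lc_g_rc_24_1 lc_g_rc_7_1 lc_g_rc_50_2 lc_g_rc_16_1 lc_g_rc_16_1 lc_g_rc_47_2 lc_g_rc_37_1 lc_g_rc_31_1 lc_g_rc_7_1 lc_g_rc_7_1 lc_g_rc_50_2 lc_g_rc_47_2 lc_g_rc_47_2 lc_g_rc_37_1 lc_g_rc_50_2 lc_g_rc_37_3 lc_g_rc_50_2 lc_g_rc_50_2 lc_g_rc_16_3 lc_g_rc_48_0 lc_g_rc_50_2 lc_g_rc_47_2 lc_g_rc_50_2 lc_g_rc_47_2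 lc_g_rc_31_1 lc_g_rc_37_1 lc_g_rc_7_3 lc_g_rc_24_1 lc_g_rc_24_1 lc_g_rc_48_0 lc_g_rc_50_2 lc_g_rc_47_2 lc_g_rc_49_2 lc_g_rc_50_2 lc_g_rc_47_2 lc_g_rc_31_1) (@D3.rec (fun _ => (Cert rels S Gen.g)) lc_g_rc_50_2 lc_g_rc_47_2 lc_g_rc_50_2 lc_g_rc_47_2 lc_g_rc_31_1 lc_g_rc_24_1 lc_g_rc_50_2 lc_g_rc_47_2 lc_g_rc_31_1 lc_g_rc_24_1 lc_g_rc_31_1 lc_g_rc_16_1 lc_g_rc_49_2 lc_g_rc_49_2 lc_g_rc_24_1 lc_g_rc_31_1 lc_g_rc_31_1 lc_g_rc_31_1 lc_g_rc_50_2 lc_g_rc_47_2 lc_g_rc_37_1 lc_g_rc_50_2 lc_g_rc_44_1 lc_g_rc_24_1 lc_g_rc_44_1 lc_g_rc_50_2 lc_g_rc_50_2 lc_g_rc_49_2 lc_g_Cert_tree lc_g_rc_37_1 lc_g_rc_47_2 lc_g_rc_47_2 lc_g_rc_7_1 lc_g_rc_47_2 lc_g_rc_31_1 lc_g_rc_31_1 lc_g_rc_37_1 lc_g_rc_50_2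 lc_g_rc_31_1 lc_g_rc_37_3 lc_g_Cert_tree lc_g_rc_50_2 lc_g_rc_47_2 lc_g_rc_16_1 lc_g_rc_16_1 lc_g_rc_44_1 lc_g_rc_44_1 lc_g_rc_24_1 lc_g_rc_24_1 lc_g_rc_37_1 lc_g_rc_47_2) (@D3.rec (fun _ => (Cert rels S Gen.g)) lc_g_rc_49_4 lc_g_rc_24_1 lc_g_rc_47_2 lc_g_rc_48_0 lc_g_rc_50_2 lc_g_rc_47_2 lc_g_rc_16_1 lc_g_rc_24_1 lc_g_rc_47_2 lc_g_rc_31_1 lc_g_rc_7_1 lc_g_rc_31_1 lc_g_rc_31_1 lc_g_rc_31_1 lc_g_rc_37_1 lc_g_rc_24_1 lc_g_rc_50_2 lc_g_rc_47_2 lc_g_rc_49_2 lc_g_rc_44_3 lc_g_rc_24_1 lc_g_rc_16_1 lc_g_rc_37_1 lc_g_rc_16_1 lc_g_rc_16_1 lc_g_rc_16_1 lc_g_rc_7_1 lc_g_rc_7_1 lc_g_rc_7_1 lc_g_rc_31_1 lc_g_rc_49_2 lc_g_rc_31_1 lc_g_rc_37_1 lc_g_rc_24_3 lc_g_rc_16_1 lc_g_rc_7_1 lc_g_rc_47_0 lc_g_rc_47_2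 lc_g_rc_44_3 lc_g_rc_7_1 lc_g_rc_47_2 lc_g_rc_31_1 lc_g_rc_50_2 lc_g_rc_24_1 lc_g_rc_37_1 lc_g_rc_50_2 lc_g_rc_44_1 lc_g_rc_16_1 lc_g_rc_44_1 lc_g_rc_16_1 lc_g_rc_16_1) (@D3.rec (fun _ => (Cert rels S Gen.g)) lc_g_rc_7_1 lc_g_rc_7_1 lc_g_rc_47_2 lc_g_rc_16_3 lc_g_rc_47_2 lc_g_rc_31_1 lc_g_rc_31_1 lc_g_rc_44_3 lc_g_rc_31_1 lc_g_rc_31_1 lc_g_rc_50_2 lc_g_rc_49_4 lc_g_rc_50_2 lc_g_rc_24_1 lc_g_rc_24_1 lc_g_rc_44_3 lc_g_rc_7_1 lc_g_rc_7_1 lc_g_rc_7_1 lc_g_rc_47_2 lc_g_rc_7_3 lc_g_rc_47_2 lc_g_rc_31_1 lc_g_rc_31_1 lc_g_rc_37_1 lc_g_rc_50_2 lc_g_rc_50_2 lc_g_rc_47_2 lc_g_rc_24_1 lc_g_rc_24_1 lc_g_rc_48_0 lc_g_rc_50_2 lc_g_rc_7_1 lc_g_rc_31_1 lc_g_rc_49_2 lc_g_rc_50_2 lc_g_rc_47_2 lc_g_rc_31_1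 lc_g_rc_7_1 lc_g_rc_47_2 lc_g_rc_31_1 lc_g_rc_50_2 lc_g_rc_47_2 lc_g_rc_31_1 lc_g_rc_7_1 lc_g_rc_31_1 lc_g_rc_31_1 lc_g_rc_47_2 lc_g_rc_49_2 lc_g_rc_50_2 lc_g_rc_16_1) (@D3.rec (fun _ => (Cert rels S Gen.g)) lc_g_rc_24_1 lc_g_rc_24_1 lc_g_rc_44_3 lc_g_rc_31_1 lc_g_rc_47_2 lc_g_rc_37_1 lc_g_rc_50_2 lc_g_rc_7_3 lc_g_rc_44_5 lc_g_rc_7_3 lc_g_Cert_tree lc_g_rc_50_2 lc_g_rc_47_2 lc_g_rc_16_1 lc_g_rc_16_1 lc_g_rc_31_1 lc_g_rc_37_1 lc_g_rc_24_1 lc_g_rc_24_1 lc_g_rc_48_0 lc_g_rc_50_2 lc_g_rc_50_2 lc_g_rc_16_1 lc_g_rc_49_2 lc_g_rc_48_0 lc_g_rc_50_2 lc_g_rc_47_2 lc_g_rc_16_1 lc_g_rc_50_2 lc_g_rc_47_2 lc_g_rc_31_1 lc_g_rc_24_1 lc_g_rc_50_2 lc_g_rc_47_2 lc_g_rc_31_1 lc_g_rc_31_1 lc_g_rc_37_1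 lc_g_rc_49_2 lc_g_rc_47_2 lc_g_rc_31_1 lc_g_rc_24_1 lc_g_Cert_tree lc_g_rc_50_2 lc_g_rc_47_2 lc_g_rc_49_4 lc_g_rc_44_5 lc_g_rc_16_1 lc_g_rc_50_2 lc_g_rc_7_3 lc_g_rc_48_0 lc_g_rc_50_2) (@D3.rec (fun _ => (Cert rels S Gen.g)) lc_g_rc_47_2 lc_g_rc_7_1 lc_g_rc_7_1 lc_g_rc_16_1 lc_g_rc_37_1 lc_g_rc_16_1 lc_g_rc_16_1 lc_g_rc_47_2 lc_g_rc_31_1 lc_g_rc_48_0 lc_g_rc_50_2 lc_g_rc_24_1 lc_g_rc_31_1 lc_g_rc_49_2 lc_g_rc_50_2 lc_g_rc_47_2 lc_g_rc_31_1 lc_g_rc_50_2 lc_g_rc_16_1 lc_g_rc_49_2 lc_g_rc_49_2 lc_g_rc_50_2 lc_g_rc_47_2 lc_g_rc_49_2 lc_g_rc_7_1 lc_g_rc_50_2 lc_g_rc_16_1 lc_g_rc_31_1 lc_g_rc_49_2 lc_g_rc_50_2 lc_g_rc_47_2 lc_g_rc_37_1 lc_g_rc_50_2 lc_g_rc_47_2 lc_g_rc_31_1 lc_g_rc_24_1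 lc_g_rc_7_1 lc_g_rc_37_1 lc_g_rc_24_1 lc_g_rc_47_2 lc_g_Cert_tree lc_g_rc_47_2 lc_g_rc_31_1 lc_g_rc_16_1 lc_g_rc_50_2 lc_g_rc_47_2 lc_g_rc_31_1 lc_g_rc_24_1 lc_g_rc_47_2 lc_g_rc_31_1 lc_g_rc_24_1) (@D3.rec (fun _ => (Cert rels S Gen.g)) lc_g_rc_37_1 lc_g_rc_16_1 lc_g_rc_49_2 lc_g_rc_24_1 lc_g_rc_7_1 lc_g_rc_16_1 lc_g_rc_31_1 lc_g_rc_37_3 lc_g_rc_24_1 lc_g_rc_7_1 lc_g_rc_16_1 lc_g_rc_16_1 lc_g_rc_16_1 lc_g_rc_16_1 lc_g_rc_50_2 lc_g_rc_47_2 lc_g_rc_31_1 lc_g_rc_37_1 lc_g_rc_7_1 lc_g_rc_16_1 lc_g_rc_49_2 lc_g_rc_37_1 lc_g_Cert_tree lc_g_rc_48_0 lc_g_rc_31_3 lc_g_rc_24_3 lc_g_rc_37_1 lc_g_rc_50_2 lc_g_rc_47_2 lc_g_rc_50_2 lc_g_rc_24_1 lc_g_rc_24_1 lc_g_rc_47_2 lc_g_rc_50_2 lc_g_rc_47_2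 lc_g_rc_16_1 lc_g_rc_16_3 lc_g_rc_31_1 lc_g_rc_31_1 lc_g_rc_47_2 lc_g_rc_49_4 lc_g_rc_44_5 lc_g_rc_50_2 lc_g_rc_37_1 lc_g_rc_16_1 lc_g_rc_47_2 lc_g_rc_7_1 lc_g_rc_31_1 lc_g_rc_7_1 lc_g_rc_31_1 lc_g_rc_31_1) (@D3.rec (fun _ => (Cert rels S Gen.g)) lc_g_rc_44_1 lc_g_rc_37_1 lc_g_rc_37_1 lc_g_rc_24_1 lc_g_rc_47_2 lc_g_rc_16_1 lc_g_rc_7_3 lc_g_rc_7_1 lc_g_rc_24_1 lc_g_rc_47_2 lc_g_rc_24_1 lc_g_rc_16_1 lc_g_rc_47_2 lc_g_rc_16_1 lc_g_rc_7_1 lc_g_rc_7_1 lc_g_rc_47_2 lc_g_rc_24_1 lc_g_rc_47_2 lc_g_rc_24_1 lc_g_rc_24_1 lc_g_rc_31_1 lc_g_rc_37_1 lc_g_rc_44_3 lc_g_rc_47_0 lc_g_rc_44_3 lc_g_rc_47_0 lc_g_rc_31_1 lc_g_rc_50_2 lc_g_rc_47_2 lc_g_rc_47_2 lc_g_rc_24_1 lc_g_rc_24_1 lc_g_rc_31_1 lc_g_rc_24_1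 lc_g_rc_31_1 lc_g_rc_47_2 lc_g_rc_47_2 lc_g_rc_31_1 lc_g_rc_31_1 lc_g_rc_24_1 lc_g_rc_16_1 lc_g_rc_31_1 lc_g_rc_37_1 lc_g_rc_31_1 lc_g_rc_37_1 lc_g_rc_47_2 lc_g_rc_31_1 lc_g_rc_37_1 lc_g_rc_47_0 lc_g_rc_47_0) (@D3.rec (fun _ => (Cert rels S Gen.g)) lc_g_rc_44_3 lc_g_rc_44_3 lc_g_rc_50_2 lc_g_rc_31_1 lc_g_rc_31_1 lc_g_rc_50_2 lc_g_rc_47_2 lc_g_rc_16_1 lc_g_rc_50_2 lc_g_rc_44_3 lc_g_rc_7_1 lc_g_rc_7_1 lc_g_rc_50_2 lc_g_rc_24_1 lc_g_rc_44_3 lc_g_rc_50_2 lc_g_rc_47_2 lc_g_rc_47_2 lc_g_rc_47_2 lc_g_rc_31_1 lc_g_rc_50_2 lc_g_rc_37_1 lc_g_rc_50_2 lc_g_rc_24_1 lc_g_rc_24_1 lc_g_rc_31_1 lc_g_rc_7_1 lc_g_rc_7_1 lc_g_rc_7_1 lc_g_rc_47_2 lc_g_rc_31_1 lc_g_rc_47_2 lc_g_rc_16_1 lc_g_rc_31_1 lc_g_rc_31_1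 lc_g_rc_7_3 lc_g_rc_31_1 lc_g_rc_24_1 lc_g_rc_31_1 lc_g_rc_7_1 lc_g_rc_7_1 lc_g_rc_7_1 lc_g_rc_37_1 lc_g_rc_31_1 lc_g_rc_24_1 lc_g_rc_24_1 lc_g_rc_24_1 lc_g_Cert_tree lc_g_rc_50_2 lc_g_rc_50_2 lc_g_rc_50_2) (@D3.rec (fun _ => (Cert rels S Gen.g)) lc_g_rc_16_1 lc_g_rc_47_2 lc_g_rc_48_0 lc_g_rc_50_2 lc_g_rc_47_2 lc_g_rc_16_1 lc_g_rc_7_1 lc_g_rc_31_1 lc_g_rc_50_2 lc_g_rc_47_2 lc_g_rc_31_1 lc_g_rc_37_1 lc_g_rc_50_2 lc_g_rc_50_2 lc_g_rc_47_2 lc_g_rc_37_1 lc_g_rc_7_3 lc_g_rc_31_1 lc_g_rc_24_1 lc_g_rc_24_1 lc_g_rc_48_0 lc_g_rc_50_2 lc_g_rc_47_2 lc_g_rc_16_1 lc_g_rc_31_1 lc_g_rc_50_2 lc_g_rc_47_2 lc_g_rc_31_1 lc_g_rc_7_1 lc_g_rc_16_1 lc_g_rc_31_1 lc_g_rc_50_2 lc_g_rc_47_2 lc_g_rc_37_1 lc_g_rc_47_2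 lc_g_rc_31_1 lc_g_rc_24_1 lc_g_rc_47_2 lc_g_rc_31_1 lc_g_rc_24_1 lc_g_rc_31_1 lc_g_rc_37_3 lc_g_rc_31_1 lc_g_rc_24_1 lc_g_rc_31_1 lc_g_rc_31_1 lc_g_rc_37_1 lc_g_rc_44_3 lc_g_rc_37_1 lc_g_rc_31_1 lc_g_rc_47_2) (@D3.rec (fun _ => (Cert rels S Gen.g)) lc_g_rc_37_1 lc_g_rc_31_1 lc_g_rc_7_3 lc_g_rc_24_1 lc_g_rc_24_1 lc_g_rc_31_1 lc_g_rc_44_3 lc_g_rc_7_1 lc_g_rc_16_1 lc_g_rc_47_2 lc_g_rc_16_1 lc_g_rc_31_1 lc_g_rc_47_0 lc_g_rc_37_1 lc_g_rc_7_1 lc_g_rc_49_2 lc_g_rc_50_2 lc_g_rc_24_1 lc_g_rc_37_1 lc_g_rc_50_2 lc_g_rc_47_2 lc_g_rc_24_1 lc_g_rc_24_1 lc_g_rc_44_3 lc_g_rc_7_1 lc_g_rc_7_1 lc_g_rc_24_1 lc_g_rc_7_1 lc_g_rc_16_1 lc_g_rc_44_3 lc_g_rc_24_1 lc_g_rc_47_2 lc_g_rc_50_2 lc_g_rc_47_2 lc_g_rc_16_1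 lc_g_rc_47_2 lc_g_rc_31_1 lc_g_rc_31_1 lc_g_rc_37_1 lc_g_rc_50_2 lc_g_rc_31_1 lc_g_rc_50_2 lc_g_Cert_tree lc_g_rc_50_2 lc_g_rc_47_2 lc_g_rc_44_1 lc_g_rc_16_1 lc_g_rc_50_2 lc_g_rc_24_1 lc_g_rc_24_1 lc_g_rc_24_1) (@D3.rec (fun _ => (Cert rels S Gen.g)) lc_g_rc_31_1 lc_g_rc_7_1 lc_g_rc_24_1 lc_g_rc_50_2 lc_g_rc_16_1 lc_g_rc_7_1 lc_g_rc_16_1 lc_g_rc_24_1 lc_g_rc_47_2 lc_g_rc_31_1 lc_g_rc_44_3 lc_g_rc_31_1 lc_g_rc_7_1 lc_g_rc_24_1 lc_g_rc_31_1 lc_g_rc_31_1 lc_g_rc_37_1 lc_g_rc_24_1 lc_g_rc_50_2 lc_g_rc_47_2 lc_g_rc_31_1 lc_g_rc_24_1 lc_g_rc_16_1 lc_g_rc_37_1 lc_g_rc_24_1 lc_g_rc_16_1 lc_g_rc_31_1 lc_g_rc_7_1 lc_g_rc_31_1 lc_g_rc_37_1 lc_g_rc_24_1 lc_g_rc_37_1 lc_g_rc_47_2 lc_g_rc_49_2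 lc_g_rc_50_2 lc_g_rc_7_3 lc_g_rc_49_0 lc_g_rc_50_2 lc_g_rc_16_1 lc_g_rc_50_2 lc_g_rc_50_2 lc_g_rc_37_1 lc_g_rc_50_2 lc_g_rc_37_1 lc_g_rc_24_1 lc_g_rc_37_1 lc_g_rc_50_2 lc_g_rc_47_2 lc_g_rc_16_1 lc_g_rc_16_1 lc_g_rc_31_1)
def ce_g_15 : D2 → D3 → (Cert rels S Gen.g) := @D2.rec (fun _ => D3 → (Cert rels S Gen.g)) (@D3.rec (fun _ => (Cert rels S Gen.g)) lc_g_rc_37_1 lc_g_rc_24_1 lc_g_rc_24_1 lc_g_rc_48_0 lc_g_rc_50_2 lc_g_rc_50_2 lc_g_rc_24_1 lc_g_rc_50_2 lc_g_rc_16_1 lc_g_rc_16_1 lc_g_rc_50_2 lc_g_rc_47_2 lc_g_rc_31_1 lc_g_rc_50_2 lc_g_rc_47_2 lc_g_rc_31_1 lc_g_rc_31_1 lc_g_rc_31_1 lc_g_rc_37_1 lc_g_rc_47_2 lc_g_rc_31_1 lc_g_rc_24_1 lc_g_rc_37_1 lc_g_rc_50_2 lc_g_rc_47_2 lc_g_rc_49_2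 lc_g_rc_24_1 lc_g_rc_37_1 lc_g_rc_44_3 lc_g_rc_31_3 lc_g_rc_47_2 lc_g_rc_7_1 lc_g_rc_7_1 lc_g_rc_16_1 lc_g_rc_37_1 lc_g_rc_16_1 lc_g_rc_16_1 lc_g_rc_44_3 lc_g_rc_47_2 lc_g_rc_31_1 lc_g_rc_48_0 lc_g_rc_50_2 lc_g_rc_24_1 lc_g_rc_31_1 lc_g_rc_37_1 lc_g_rc_50_2 lc_g_rc_47_2 lc_g_rc_31_1 lc_g_rc_24_1 lc_g_rc_24_1 lc_g_rc_31_1) (@D3.rec (fun _ => (Cert rels S Gen.g)) lc_g_rc_16_1 lc_g_rc_31_1 lc_g_rc_7_1 lc_g_rc_50_2 lc_g_rc_16_1 lc_g_rc_31_1 lc_g_rc_50_2 lc_g_rc_47_2 lc_g_rc_31_1 lc_g_rc_37_1 lc_g_rc_50_2 lc_g_rc_47_2 lc_g_rc_31_1 lc_g_rc_24_1 lc_g_rc_31_1 lc_g_rc_37_1 lc_g_rc_47_2 lc_g_rc_31_1 lc_g_rc_24_1 lc_g_rc_37_1 lc_g_rc_16_1 lc_g_rc_16_1 lc_g_rc_31_1 lc_g_rc_31_1 lc_g_rc_31_1 lc_g_rc_24_1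 lc_g_rc_37_1 lc_g_rc_16_1 lc_g_rc_24_1 lc_g_rc_49_2 lc_g_rc_50_2 lc_g_rc_7_1 lc_g_rc_47_0 lc_g_rc_7_1 lc_g_rc_7_1 lc_g_rc_7_1 lc_g_rc_16_1 lc_g_rc_16_1 lc_g_rc_16_1 lc_g_rc_16_1 lc_g_rc_50_2 lc_g_rc_47_2 lc_g_rc_31_1 lc_g_rc_37_1 lc_g_rc_37_3 lc_g_rc_16_1 lc_g_rc_7_1 lc_g_rc_47_2 lc_g_rc_47_2 lc_g_rc_50_2 lc_g_rc_47_2) (@D3.rec (fun _ => (Cert rels S Gen.g)) lc_g_rc_24_1 lc_g_rc_37_1 lc_g_rc_7_1 lc_g_rc_24_1 lc_g_rc_47_2 lc_g_rc_47_2 lc_g_rc_31_1 lc_g_rc_37_1 lc_g_rc_50_2 lc_g_rc_50_2 lc_g_rc_47_2 lc_g_rc_37_1 lc_g_rc_7_1 lc_g_rc_47_2 lc_g_rc_16_1 lc_g_rc_31_1 lc_g_rc_49_2 lc_g_rc_44_3 lc_g_rc_7_3 lc_g_rc_7_3 lc_g_rc_7_1 lc_g_rc_7_1 lc_g_rc_31_1 lc_g_rc_31_1 lc_g_rc_47_2 lc_g_rc_37_1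 lc_g_rc_50_2 lc_g_rc_7_3 lc_g_rc_50_2 lc_g_rc_47_2 lc_g_rc_37_1 lc_g_rc_50_2 lc_g_rc_7_3 lc_g_rc_47_2 lc_g_rc_16_3 lc_g_rc_31_1 lc_g_rc_24_1 lc_g_rc_24_1 lc_g_rc_7_3 lc_g_rc_50_2 lc_g_rc_47_2 lc_g_rc_24_1 lc_g_rc_47_2 lc_g_rc_7_3 lc_g_rc_47_2 lc_g_rc_16_1 lc_g_rc_16_1 lc_g_rc_31_1 lc_g_rc_44_3 lc_g_rc_24_1 lc_g_rc_7_1) (@D3.rec (fun _ => (Cert rels S Gen.g)) lc_g_rc_50_2 lc_g_rc_47_2 lc_g_rc_31_1 lc_g_rc_7_3 lc_g_rc_49_2 lc_g_rc_31_3 lc_g_rc_7_1 lc_g_rc_47_2 lc_g_rc_31_1 lc_g_rc_24_1 lc_g_rc_47_2 lc_g_rc_31_1 lc_g_rc_47_2 lc_g_rc_31_1 lc_g_rc_7_1 lc_g_rc_31_1 lc_g_rc_44_3 lc_g_rc_37_1 lc_g_rc_49_2 lc_g_rc_47_2 lc_g_rc_49_2 lc_g_rc_50_2 lc_g_rc_37_1 lc_g_rc_16_1 lc_g_rc_47_2 lc_g_rc_37_1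 lc_g_rc_50_2 lc_g_rc_37_1 lc_g_rc_50_2 lc_g_rc_50_2 lc_g_rc_47_2 lc_g_rc_31_1 lc_g_rc_37_1 lc_g_rc_16_3 lc_g_rc_37_1 lc_g_rc_47_2 lc_g_rc_31_1 lc_g_rc_31_3 lc_g_rc_50_2 lc_g_rc_24_1 lc_g_rc_24_1 lc_g_rc_31_1 lc_g_rc_31_1 lc_g_rc_47_2 lc_g_rc_37_1 lc_g_rc_50_2 lc_g_Cert_tree lc_g_rc_50_2 lc_g_rc_47_2 lc_g_rc_37_1 lc_g_rc_7_1) (@D3.rec (fun _ => (Cert rels S Gen.g)) lc_g_rc_48_0 lc_g_rc_50_2 lc_g_rc_47_2 lc_g_rc_7_3 lc_g_rc_31_1 lc_g_rc_24_1 lc_g_rc_24_1 lc_g_rc_24_1 lc_g_rc_47_0 lc_g_rc_50_2 lc_g_rc_47_2 lc_g_rc_49_2 lc_g_Cert_tree lc_g_rc_24_1 lc_g_rc_47_2 lc_g_rc_48_0 lc_g_rc_50_2 lc_g_rc_47_2 lc_g_rc_16_1 lc_g_rc_16_1 lc_g_rc_16_1 lc_g_rc_31_1 lc_g_rc_47_2 lc_g_rc_31_1 lc_g_rc_37_1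 lc_g_rc_24_1 lc_g_rc_37_1 lc_g_rc_31_1 lc_g_rc_48_0 lc_g_rc_50_2 lc_g_rc_47_2 lc_g_rc_50_2 lc_g_rc_47_2 lc_g_rc_49_2 lc_g_rc_24_1 lc_g_rc_31_1 lc_g_rc_31_1 lc_g_rc_24_1 lc_g_rc_24_1 lc_g_rc_47_2 lc_g_rc_31_1 lc_g_rc_24_1 lc_g_rc_44_3 lc_g_rc_47_0 lc_g_rc_24_1 lc_g_rc_50_2 lc_g_rc_7_1 lc_g_rc_7_1 lc_g_rc_24_1 lc_g_rc_16_1 lc_g_rc_50_2) (@D3.rec (fun _ => (Cert rels S Gen.g)) lc_g_rc_47_2 lc_g_rc_37_1 lc_g_rc_50_2 lc_g_rc_7_1 lc_g_rc_31_1 lc_g_rc_50_2 lc_g_Cert_tree lc_g_rc_50_2 lc_g_rc_47_2 lc_g_rc_7_1 lc_g_rc_16_1 lc_g_rc_16_1 lc_g_rc_24_1 lc_g_Cert_tree lc_g_rc_24_1 lc_g_rc_24_1 lc_g_rc_48_0 lc_g_rc_50_2 lc_g_rc_47_2 lc_g_rc_24_1 lc_g_rc_24_1 lc_g_Cert_tree lc_g_rc_50_2 lc_g_rc_47_2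 lc_g_rc_7_1 lc_g_rc_7_1 lc_g_Cert_tree lc_g_rc_24_1 lc_g_rc_47_2 lc_g_rc_48_0 lc_g_rc_50_2 lc_g_rc_47_2 lc_g_rc_16_1 lc_g_rc_16_1 lc_g_rc_16_1 lc_g_rc_7_3 lc_g_rc_47_2 lc_g_rc_31_1 lc_g_rc_48_0 lc_g_rc_50_2 lc_g_rc_24_1 lc_g_rc_49_2 lc_g_rc_50_2 lc_g_rc_47_2 lc_g_rc_31_1 lc_g_rc_16_1 lc_g_rc_48_0 lc_g_rc_50_2 lc_g_rc_49_2 lc_g_rc_49_2 lc_g_rc_50_2) (@D3.rec (fun _ => (Cert rels S Gen.g)) lc_g_rc_47_2 lc_g_rc_49_2 lc_g_rc_16_1 lc_g_rc_50_2 lc_g_rc_47_2 lc_g_rc_31_1 lc_g_rc_50_2 lc_g_rc_47_2 lc_g_rc_31_1 lc_g_rc_24_1 lc_g_rc_49_2 lc_g_rc_47_2 lc_g_rc_49_2 lc_g_rc_31_1 lc_g_rc_24_1 lc_g_rc_16_1 lc_g_rc_16_1 lc_g_rc_16_1 lc_g_rc_31_1 lc_g_Cert_tree lc_g_rc_24_1 lc_g_rc_47_2 lc_g_rc_48_0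 lc_g_rc_50_2 lc_g_rc_47_2 lc_g_rc_37_1 lc_g_rc_31_1 lc_g_rc_49_2 lc_g_rc_37_1 lc_g_rc_16_1 lc_g_rc_16_1 lc_g_Cert_tree lc_g_rc_49_2 lc_g_rc_31_1 lc_g_rc_48_0 lc_g_rc_50_2 lc_g_rc_47_2 lc_g_rc_31_1 lc_g_rc_49_2 lc_g_rc_50_2 lc_g_rc_47_2 lc_g_rc_31_1 lc_g_rc_7_1 lc_g_rc_7_1 lc_g_Cert_tree lc_g_rc_16_1 lc_g_rc_48_0 lc_g_rc_50_2 lc_g_rc_16_1 lc_g_rc_16_1 lc_g_rc_48_0) (@D3.rec (fun _ => (Cert rels S Gen.g)) lc_g_rc_48_1 lc_g_rc_50_2 lc_g_rc_50_2 lc_g_rc_44_5 lc_g_rc_24_1 lc_g_rc_50_2 lc_g_rc_47_2 lc_g_rc_31_1 lc_g_rc_37_1 lc_g_rc_50_2 lc_g_rc_47_2 lc_g_rc_31_1 lc_g_rc_24_1 lc_g_rc_7_1 lc_g_rc_50_2 lc_g_rc_16_1 lc_g_rc_16_1 lc_g_rc_24_1 lc_g_rc_50_2 lc_g_rc_47_2 lc_g_rc_49_2 lc_g_rc_49_2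 lc_g_rc_50_2 lc_g_rc_47_2 lc_g_rc_31_1 lc_g_rc_24_1 lc_g_rc_24_1 lc_g_rc_50_2 lc_g_rc_47_2 lc_g_rc_31_1 lc_g_rc_24_1 lc_g_rc_47_2 lc_g_rc_31_1 lc_g_rc_24_1 lc_g_rc_37_1 lc_g_rc_24_1 lc_g_rc_47_2 lc_g_rc_31_1 lc_g_rc_24_1 lc_g_rc_37_1 lc_g_rc_16_1 lc_g_rc_16_1 lc_g_rc_47_2 lc_g_rc_47_2 lc_g_rc_31_1 lc_g_rc_37_1 lc_g_rc_49_2 lc_g_rc_24_1 lc_g_rc_7_1 lc_g_rc_47_2 lc_g_rc_31_1) (@D3.rec (fun _ => (Cert rels S Gen.g)) lc_g_rc_24_1 lc_g_rc_37_1 lc_g_rc_16_1 lc_g_rc_31_1 lc_g_rc_24_1 lc_g_rc_37_1 lc_g_rc_24_3 lc_g_rc_24_1 lc_g_rc_7_1 lc_g_rc_24_1 lc_g_rc_31_1 lc_g_rc_31_1 lc_g_rc_50_2 lc_g_rc_24_3 lc_g_rc_50_2 lc_g_rc_7_1 lc_g_rc_7_1 lc_g_rc_50_2 lc_g_rc_31_1 lc_g_rc_7_3 lc_g_rc_31_1 lc_g_rc_37_1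 lc_g_rc_24_1 lc_g_rc_31_3 lc_g_rc_24_1 lc_g_rc_7_1 lc_g_rc_16_1 lc_g_rc_16_1 lc_g_rc_24_1 lc_g_rc_24_1 lc_g_rc_31_1 lc_g_rc_16_1 lc_g_rc_50_2 lc_g_rc_47_2 lc_g_rc_31_1 lc_g_rc_16_1 lc_g_rc_31_1 lc_g_rc_7_1 lc_g_rc_31_1 lc_g_rc_50_0 lc_g_rc_49_4 lc_g_rc_31_1 lc_g_rc_50_2 lc_g_rc_50_2 lc_g_rc_47_2 lc_g_rc_16_1 lc_g_rc_16_1 lc_g_rc_31_1 lc_g_rc_7_1 lc_g_rc_44_3 lc_g_rc_50_2) (@D3.rec (fun _ => (Cert rels S Gen.g)) lc_g_rc_47_2 lc_g_rc_50_2 lc_g_rc_47_2 lc_g_rc_37_1 lc_g_rc_44_3 lc_g_rc_47_2 lc_g_rc_37_1 lc_g_rc_37_1 lc_g_rc_44_3 lc_g_rc_44_3 lc_g_rc_31_1 lc_g_rc_48_0 lc_g_rc_50_2 lc_g_rc_24_1 lc_g_rc_50_2 lc_g_rc_47_2 lc_g_rc_31_1 lc_g_rc_37_1 lc_g_rc_50_2 lc_g_rc_16_1 lc_g_rc_50_2 lc_g_rc_47_2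 lc_g_rc_31_1 lc_g_rc_47_2 lc_g_rc_31_1 lc_g_rc_47_2 lc_g_rc_31_1 lc_g_rc_24_1 lc_g_rc_47_2 lc_g_rc_24_1 lc_g_rc_24_1 lc_g_rc_31_1 lc_g_rc_47_2 lc_g_rc_50_2 lc_g_rc_50_2 lc_g_rc_50_2 lc_g_rc_47_2 lc_g_rc_7_1 lc_g_rc_50_2 lc_g_rc_16_1 lc_g_rc_16_1 lc_g_rc_24_1 lc_g_rc_31_1 lc_g_rc_31_1 lc_g_rc_7_1 lc_g_rc_16_1 lc_g_rc_49_2 lc_g_rc_7_1 lc_g_rc_31_1 lc_g_rc_7_1 lc_g_rc_16_1) (@D3.rec (fun _ => (Cert rels S Gen.g)) lc_g_rc_37_1 lc_g_rc_7_1 lc_g_rc_16_1 lc_g_rc_49_2 lc_g_rc_7_3 lc_g_rc_7_3 lc_g_rc_7_3 lc_g_rc_16_1 lc_g_rc_31_1 lc_g_rc_24_1 lc_g_rc_24_1 lc_g_rc_7_1 lc_g_rc_7_1 lc_g_rc_31_1 lc_g_rc_16_1 lc_g_rc_24_1 lc_g_rc_24_1 lc_g_rc_16_3 lc_g_rc_50_2 lc_g_rc_47_2 lc_g_rc_16_1 lc_g_rc_16_1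 lc_g_rc_31_1 lc_g_rc_7_1 lc_g_rc_24_1 lc_g_rc_47_2 lc_g_rc_50_2 lc_g_rc_47_2 lc_g_rc_31_1 lc_g_rc_37_1 lc_g_rc_16_1 lc_g_rc_44_1 lc_g_rc_31_1 lc_g_rc_37_1 lc_g_rc_24_1 lc_g_rc_31_1 lc_g_rc_37_1 lc_g_rc_31_1 lc_g_rc_16_1 lc_g_rc_7_1 lc_g_rc_7_1 lc_g_rc_7_1 lc_g_rc_50_2 lc_g_rc_31_1 lc_g_rc_24_1 lc_g_rc_31_1 lc_g_rc_37_1 lc_g_rc_37_1 lc_g_rc_16_1 lc_g_rc_47_2 lc_g_rc_16_1) (@D3.rec (fun _ => (Cert rels S Gen.g)) lc_g_rc_37_3 lc_g_rc_24_1 lc_g_rc_31_1 lc_g_rc_7_1 lc_g_rc_31_1 lc_g_rc_37_1 lc_g_rc_16_1 lc_g_rc_47_2 lc_g_rc_31_1 lc_g_rc_37_1 lc_g_rc_7_1 lc_g_rc_16_1 lc_g_rc_7_1 lc_g_rc_37_1 lc_g_rc_24_1 lc_g_rc_7_1 lc_g_rc_16_1 lc_g_rc_16_1 lc_g_rc_24_1 lc_g_rc_24_1 lc_g_rc_24_1 lc_g_rc_47_2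 lc_g_rc_24_1 lc_g_rc_24_1 lc_g_rc_50_2 lc_g_rc_47_2 lc_g_rc_7_3 lc_g_rc_24_1 lc_g_rc_31_1 lc_g_rc_24_1 lc_g_rc_47_2 lc_g_rc_47_2 lc_g_rc_16_1 lc_g_rc_37_1 lc_g_rc_16_1 lc_g_rc_16_1 lc_g_rc_47_0 lc_g_rc_47_2 lc_g_rc_31_1 lc_g_rc_7_1 lc_g_rc_24_1 lc_g_rc_31_1 lc_g_rc_50_2 lc_g_rc_47_2 lc_g_rc_31_1 lc_g_rc_16_1 lc_g_rc_49_2 lc_g_rc_50_2 lc_g_rc_16_1 lc_g_rc_31_1 lc_g_rc_7_1) (@D3.rec (fun _ => (Cert rels S Gen.g)) lc_g_rc_47_2 lc_g_rc_49_2 lc_g_rc_49_4 lc_g_rc_24_1 lc_g_rc_47_2 lc_g_rc_16_3 lc_g_rc_47_2 lc_g_rc_7_3 lc_g_rc_7_3 lc_g_rc_7_3 lc_g_rc_49_4 lc_g_rc_47_2 lc_g_rc_31_1 lc_g_rc_50_2 lc_g_rc_47_2 lc_g_rc_31_1 lc_g_rc_50_2 lc_g_rc_31_1 lc_g_rc_37_1 lc_g_rc_7_1 lc_g_rc_7_1 lc_g_rc_31_3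 lc_g_rc_16_1 lc_g_rc_16_1 lc_g_rc_48_0 lc_g_rc_50_2 lc_g_rc_16_1 lc_g_rc_16_1 lc_g_rc_48_0 lc_g_rc_31_1 lc_g_rc_50_2 lc_g_rc_50_2 lc_g_rc_47_2 lc_g_rc_44_3 lc_g_rc_50_2 lc_g_rc_47_2 lc_g_rc_31_1 lc_g_rc_37_1 lc_g_rc_50_2 lc_g_rc_47_2 lc_g_rc_31_1 lc_g_rc_24_1 lc_g_rc_49_2 lc_g_rc_50_2 lc_g_rc_7_1 lc_g_rc_16_1 lc_g_rc_16_1 lc_g_rc_16_1 lc_g_rc_24_1 lc_g_rc_49_2 lc_g_rc_49_2) (@D3.rec (fun _ => (Cert rels S Gen.g)) lc_g_rc_50_2 lc_g_rc_7_1 lc_g_rc_50_2 lc_g_rc_47_2 lc_g_rc_31_1 lc_g_rc_50_2 lc_g_rc_47_2 lc_g_rc_31_1 lc_g_rc_24_3 lc_g_rc_16_3 lc_g_rc_7_1 lc_g_rc_16_1 lc_g_rc_47_2 lc_g_rc_47_2 lc_g_rc_31_1 lc_g_rc_31_1 lc_g_rc_37_3 lc_g_rc_50_2 lc_g_rc_47_2 lc_g_rc_49_2 lc_g_rc_37_1 lc_g_rc_16_1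 lc_g_rc_16_1 lc_g_rc_16_1 lc_g_rc_16_1 lc_g_rc_50_2 lc_g_rc_47_2 lc_g_rc_37_1 lc_g_rc_37_1 lc_g_Cert_tree lc_g_rc_31_1 lc_g_rc_44_3 lc_g_rc_47_0 lc_g_rc_31_1 lc_g_rc_31_1 lc_g_rc_37_1 lc_g_rc_47_0 lc_g_rc_31_1 lc_g_rc_31_1 lc_g_rc_31_1 lc_g_rc_31_1 lc_g_rc_31_1 lc_g_rc_31_1 lc_g_rc_31_1 lc_g_rc_31_1 lc_g_rc_31_1 lc_g_rc_31_1 lc_g_rc_7_1 lc_g_rc_7_1 lc_g_rc_37_1 lc_g_rc_44_3) (@D3.rec (fun _ => (Cert rels S Gen.g)) lc_g_rc_24_1 lc_g_rc_24_1 lc_g_rc_7_1 lc_g_rc_31_1 lc_g_rc_37_1 lc_g_rc_44_3 lc_g_rc_31_1 lc_g_rc_31_1 lc_g_rc_37_1 lc_g_rc_31_1 lc_g_rc_24_1 lc_g_rc_24_1 lc_g_rc_50_2 lc_g_rc_31_1 lc_g_rc_31_1 lc_g_rc_37_1 lc_g_rc_44_5 lc_g_rc_24_1 lc_g_rc_47_2 lc_g_rc_31_1 lc_g_rc_24_1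 lc_g_rc_24_1 lc_g_rc_31_1 lc_g_rc_44_3 lc_g_rc_31_1 lc_g_rc_24_1 lc_g_rc_31_1 lc_g_rc_37_1 lc_g_rc_31_1 lc_g_rc_37_1 lc_g_Cert_tree lc_g_rc_50_2 lc_g_rc_47_2 lc_g_rc_31_1 lc_g_rc_37_1 lc_g_Cert_tree lc_g_rc_48_0 lc_g_rc_31_1 lc_g_rc_24_1 lc_g_rc_24_1 lc_g_rc_7_1 lc_g_rc_31_1 lc_g_rc_31_1 lc_g_rc_50_2 lc_g_rc_47_2 lc_g_rc_47_2 lc_g_rc_24_1 lc_g_rc_31_1 lc_g_rc_31_1 lc_g_rc_37_1 lc_g_rc_37_1) (@D3.rec (fun _ => (Cert rels S Gen.g)) lc_g_rc_44_3 lc_g_rc_16_1 lc_g_rc_16_1 lc_g_rc_47_2 lc_g_rc_31_1 lc_g_rc_24_1 lc_g_rc_31_1 lc_g_rc_31_1 lc_g_rc_31_1 lc_g_rc_37_1 lc_g_rc_37_1 lc_g_rc_24_1 lc_g_rc_47_2 lc_g_rc_37_1 lc_g_rc_47_2 lc_g_rc_31_1 lc_g_rc_44_3 lc_g_rc_47_2 lc_g_rc_31_1 lc_g_rc_31_1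 lc_g_rc_7_1 lc_g_rc_7_1 lc_g_rc_16_1 lc_g_rc_37_1 lc_g_rc_16_1 lc_g_rc_16_1 lc_g_rc_50_2 lc_g_rc_47_2 lc_g_rc_50_2 lc_g_rc_47_2 lc_g_rc_31_1 lc_g_rc_37_1 lc_g_rc_37_1 lc_g_rc_47_2 lc_g_rc_31_1 lc_g_rc_24_1 lc_g_rc_47_2 lc_g_rc_7_1 lc_g_rc_44_3 lc_g_rc_24_1 lc_g_rc_37_1 lc_g_rc_47_2 lc_g_rc_24_1 lc_g_Cert_tree lc_g_rc_48_0 lc_g_rc_31_1 lc_g_rc_31_1 lc_g_rc_37_1 lc_g_rc_24_1 lc_g_rc_16_1 lc_g_rc_16_1) (@D3.rec (fun _ => (Cert rels S Gen.g)) lc_g_rc_16_1 lc_g_rc_50_2 lc_g_rc_47_2 lc_g_rc_37_1 lc_g_Cert_tree lc_g_rc_44_3 lc_g_rc_48_0 lc_g_rc_7_3 lc_g_rc_50_2 lc_g_rc_47_2 lc_g_rc_47_2 lc_g_rc_31_1 lc_g_rc_47_2 lc_g_rc_50_2 lc_g_rc_47_2 lc_g_rc_47_2 lc_g_rc_37_1 lc_g_rc_31_1 lc_g_rc_16_3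 lc_g_rc_24_1 lc_g_rc_47_2 lc_g_rc_48_0 lc_g_rc_50_2 lc_g_rc_47_2 lc_g_rc_49_2 lc_g_rc_50_2 lc_g_rc_7_1 lc_g_rc_16_3 lc_g_rc_50_2 lc_g_rc_50_2 lc_g_rc_47_2 lc_g_rc_50_2 lc_g_rc_47_2 lc_g_rc_31_1 lc_g_rc_31_1 lc_g_rc_50_2 lc_g_rc_37_1 lc_g_rc_16_1 lc_g_rc_31_1 lc_g_rc_47_2 lc_g_rc_37_1 lc_g_rc_31_1 lc_g_rc_31_1 lc_g_rc_24_1 lc_g_rc_50_2 lc_g_rc_16_1 lc_g_rc_16_3 lc_g_rc_49_2 lc_g_rc_47_2 lc_g_rc_7_1 lc_g_rc_31_1) (@D3.rec (fun _ => (Cert rels S Gen.g)) lc_g_rc_31_1 lc_g_rc_16_1 lc_g_rc_7_1 lc_g_rc_24_1 lc_g_rc_24_1 lc_g_rc_47_2 lc_g_rc_7_3 lc_g_rc_31_1 lc_g_rc_24_1 lc_g_rc_47_2 lc_g_rc_44_3 lc_g_rc_47_2 lc_g_rc_50_2 lc_g_rc_16_1 lc_g_rc_47_2 lc_g_rc_31_1 lc_g_rc_37_1 lc_g_rc_7_1 lc_g_rc_16_1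 lc_g_rc_16_1 lc_g_rc_50_2 lc_g_rc_47_2 lc_g_rc_31_1 lc_g_rc_24_1 lc_g_rc_7_1 lc_g_rc_16_1 lc_g_rc_50_2 lc_g_rc_7_1 lc_g_rc_7_1 lc_g_rc_16_1 lc_g_rc_16_1 lc_g_rc_16_1 lc_g_rc_24_1 lc_g_rc_24_1 lc_g_rc_24_1 lc_g_rc_31_1 lc_g_rc_47_2 lc_g_rc_44_3 lc_g_rc_24_1 lc_g_rc_47_2 lc_g_rc_50_2 lc_g_rc_47_2 lc_g_rc_37_1 lc_g_rc_31_1 lc_g_rc_37_1 lc_g_rc_47_2 lc_g_rc_31_1 lc_g_rc_37_1 lc_g_rc_7_1 lc_g_rc_24_1 lc_g_rc_31_1) (@D3.rec (fun _ => (Cert rels S Gen.g)) lc_g_rc_16_1 lc_g_rc_37_1 lc_g_rc_16_1 lc_g_rc_48_0 lc_g_rc_48_1 lc_g_rc_50_2 lc_g_rc_50_2 lc_g_rc_47_2 lc_g_rc_47_2 lc_g_rc_50_2 lc_g_rc_47_2 lc_g_rc_31_1 lc_g_rc_50_2 lc_g_rc_47_2 lc_g_rc_31_1 lc_g_rc_24_1 lc_g_rc_7_1 lc_g_rc_16_1 lc_g_rc_49_2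 lc_g_rc_7_1 lc_g_rc_31_1 lc_g_rc_50_2 lc_g_rc_47_2 lc_g_rc_31_1 lc_g_rc_16_1 lc_g_rc_24_1 lc_g_rc_49_2 lc_g_rc_31_1 lc_g_rc_44_3 lc_g_rc_47_2 lc_g_rc_50_2 lc_g_rc_47_2 lc_g_rc_31_1 lc_g_rc_31_1 lc_g_rc_37_1 lc_g_rc_7_3 lc_g_rc_47_2 lc_g_rc_31_1 lc_g_rc_7_3 lc_g_rc_50_2 lc_g_rc_47_2 lc_g_rc_31_1 lc_g_rc_24_1 lc_g_rc_37_1 lc_g_rc_7_1 lc_g_rc_48_0 lc_g_rc_50_2 lc_g_rc_50_2 lc_g_rc_47_2 lc_g_rc_16_1 lc_g_rc_47_2) (@D3.rec (fun _ => (Cert rels S Gen.g)) lc_g_rc_50_2 lc_g_rc_50_2 lc_g_rc_47_2 lc_g_rc_50_2 lc_g_rc_47_2 lc_g_rc_31_1 lc_g_rc_47_2 lc_g_rc_31_1 lc_g_rc_24_1 lc_g_rc_37_1 lc_g_rc_37_1 lc_g_rc_47_2 lc_g_rc_31_1 lc_g_rc_24_1 lc_g_rc_16_1 lc_g_rc_16_1 lc_g_rc_7_1 lc_g_rc_47_2 lc_g_rc_16_1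 lc_g_rc_47_2 lc_g_rc_49_2 lc_g_Cert_tree lc_g_rc_47_2 lc_g_rc_7_3 lc_g_rc_47_2 lc_g_rc_31_1 lc_g_rc_24_1 lc_g_rc_47_2 lc_g_rc_31_1 lc_g_rc_37_1 lc_g_rc_16_1 lc_g_rc_16_1 lc_g_rc_31_1 lc_g_rc_49_2 lc_g_rc_48_0 lc_g_rc_31_1 lc_g_rc_7_1 lc_g_rc_7_1 lc_g_rc_50_2 lc_g_rc_7_1 lc_g_rc_7_1 lc_g_rc_16_1 lc_g_rc_16_1 lc_g_rc_16_1 lc_g_rc_24_1 lc_g_rc_24_1 lc_g_rc_7_1 lc_g_rc_37_1 lc_g_rc_31_3 lc_g_rc_7_1 lc_g_rc_16_1) (@D3.rec (fun _ => (Cert rels S Gen.g)) lc_g_rc_50_2 lc_g_rc_16_1 lc_g_rc_50_2 lc_g_rc_37_1 lc_g_rc_7_3 lc_g_rc_47_2 lc_g_rc_31_1 lc_g_rc_50_2 lc_g_rc_47_2 lc_g_rc_47_2 lc_g_rc_31_1 lc_g_rc_50_2 lc_g_rc_31_1 lc_g_rc_24_1 lc_g_rc_37_1 lc_g_rc_16_1 lc_g_rc_24_1 lc_g_rc_31_1 lc_g_rc_37_1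 lc_g_rc_31_1 lc_g_rc_24_1 lc_g_rc_37_1 lc_g_rc_37_1 lc_g_rc_37_1 lc_g_rc_31_1 lc_g_rc_16_1 lc_g_rc_24_1 lc_g_rc_24_3 lc_g_rc_37_1 lc_g_rc_47_2 lc_g_rc_24_1 lc_g_rc_31_1 lc_g_rc_47_0 lc_g_rc_31_1 lc_g_rc_47_2 lc_g_rc_31_1 lc_g_rc_31_1 lc_g_rc_44_3 lc_g_rc_44_1 lc_g_rc_50_2 lc_g_rc_50_2 lc_g_rc_50_2 lc_g_rc_47_2 lc_g_rc_31_1 lc_g_rc_37_1 lc_g_rc_37_1 lc_g_rc_44_3 lc_g_rc_24_1 lc_g_rc_37_1 lc_g_rc_7_1 lc_g_rc_31_1) (@D3.rec (fun _ => (Cert rels S Gen.g)) lc_g_rc_47_2 lc_g_rc_50_2 lc_g_rc_16_1 lc_g_rc_7_1 lc_g_rc_24_1 lc_g_rc_16_1 lc_g_rc_16_1 lc_g_rc_24_1 lc_g_rc_47_2 lc_g_rc_44_3 lc_g_rc_31_1 lc_g_rc_7_1 lc_g_rc_16_1 lc_g_rc_24_1 lc_g_rc_31_1 lc_g_rc_24_1 lc_g_rc_16_1 lc_g_rc_16_1 lc_g_rc_47_2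 lc_g_rc_7_1 lc_g_rc_47_2 lc_g_rc_37_1 lc_g_rc_24_1 lc_g_rc_37_3 lc_g_rc_50_2 lc_g_rc_50_2 lc_g_rc_47_2 lc_g_rc_31_1 lc_g_rc_47_2 lc_g_rc_31_1 lc_g_rc_37_1 lc_g_rc_24_1 lc_g_rc_31_3 lc_g_rc_50_2 lc_g_rc_47_2 lc_g_rc_31_1 lc_g_rc_50_2 lc_g_rc_47_2 lc_g_rc_31_1 lc_g_rc_24_1 lc_g_rc_47_2 lc_g_rc_7_1 lc_g_rc_31_1 lc_g_rc_16_1 lc_g_rc_31_1 lc_g_rc_24_1 lc_g_rc_37_1 lc_g_rc_16_1 lc_g_rc_49_2 lc_g_rc_50_2 lc_g_rc_49_2) (@D3.rec (fun _ => (Cert rels S Gen.g)) lc_g_rc_24_1 lc_g_rc_24_1 lc_g_rc_31_1 lc_g_rc_31_1 lc_g_rc_47_2 lc_g_rc_37_1 lc_g_rc_50_2 lc_g_rc_47_2 lc_g_rc_50_2 lc_g_Cert_tree lc_g_rc_50_2 lc_g_rc_47_2 lc_g_rc_31_1 lc_g_rc_37_1 lc_g_rc_7_1 lc_g_rc_37_1 lc_g_rc_50_2 lc_g_rc_49_2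 lc_g_rc_48_0 lc_g_rc_50_2 lc_g_rc_47_2 lc_g_rc_31_1 lc_g_rc_7_1 lc_g_rc_31_1 lc_g_rc_37_1 lc_g_rc_24_1 lc_g_rc_50_2 lc_g_rc_47_2 lc_g_rc_49_4 lc_g_rc_31_1 lc_g_rc_47_2 lc_g_rc_48_0 lc_g_rc_50_2 lc_g_rc_47_2 lc_g_rc_44_1 lc_g_rc_16_1 lc_g_rc_16_1 lc_g_rc_31_1 lc_g_rc_44_1 lc_g_rc_50_2 lc_g_rc_37_1 lc_g_rc_24_1 lc_g_rc_31_1 lc_g_rc_37_1 lc_g_rc_31_1 lc_g_rc_50_2 lc_g_rc_47_2 lc_g_rc_49_2 lc_g_rc_50_2 lc_g_rc_47_2 lc_g_rc_49_2) (@D3.rec (fun _ => (Cert rels S Gen.g)) lc_g_rc_31_1 lc_g_rc_7_1 lc_g_rc_31_1 lc_g_rc_37_1 lc_g_rc_31_1 lc_g_rc_24_1 lc_g_rc_24_1 lc_g_rc_37_1 lc_g_rc_31_3 lc_g_rc_47_2 lc_g_rc_31_1 lc_g_rc_24_1 lc_g_rc_44_3 lc_g_rc_44_5 lc_g_rc_16_1 lc_g_rc_49_4 lc_g_rc_7_1 lc_g_rc_16_1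 lc_g_rc_16_1 lc_g_rc_16_1 lc_g_rc_7_1 lc_g_rc_7_1 lc_g_rc_31_1 lc_g_rc_37_1 lc_g_rc_49_2 lc_g_rc_44_3 lc_g_rc_7_1 lc_g_rc_7_1 lc_g_rc_44_1 lc_g_rc_31_1 lc_g_rc_7_1 lc_g_rc_24_1 lc_g_rc_37_1 lc_g_rc_50_2 lc_g_rc_24_1 lc_g_rc_24_1 lc_g_rc_50_2 lc_g_rc_47_2 lc_g_rc_31_1 lc_g_rc_37_1 lc_g_rc_16_1 lc_g_rc_37_1 lc_g_rc_16_1 lc_g_rc_7_1 lc_g_rc_31_1 lc_g_rc_16_3 lc_g_rc_31_1 lc_g_rc_24_1 lc_g_rc_31_1 lc_g_rc_50_2 lc_g_rc_50_2) (@D3.rec (fun _ => (Cert rels S Gen.g)) lc_g_rc_50_2 lc_g_rc_7_3 lc_g_rc_31_1 lc_g_rc_24_1 lc_g_rc_24_1 lc_g_rc_37_1 lc_g_rc_7_1 lc_g_rc_31_1 lc_g_rc_7_3 lc_g_rc_31_1 lc_g_rc_44_3 lc_g_rc_50_2 lc_g_rc_47_2 lc_g_rc_47_2 lc_g_rc_24_1 lc_g_rc_31_1 lc_g_rc_49_2 lc_g_rc_50_2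 lc_g_rc_47_2 lc_g_rc_31_1 lc_g_rc_50_2 lc_g_rc_47_2 lc_g_rc_31_1 lc_g_rc_7_1 lc_g_rc_31_1 lc_g_rc_7_3 lc_g_rc_31_1 lc_g_rc_37_1 lc_g_rc_7_1 lc_g_rc_37_1 lc_g_rc_49_2 lc_g_rc_47_2 lc_g_rc_50_2 lc_g_Cert_tree lc_g_rc_50_2 lc_g_rc_16_3 lc_g_rc_7_1 lc_g_rc_16_1 lc_g_rc_16_1 lc_g_rc_24_1 lc_g_rc_44_3 lc_g_rc_24_1 lc_g_rc_24_1 lc_g_rc_50_2 lc_g_rc_47_2 lc_g_Cert_tree lc_g_rc_50_2 lc_g_rc_47_2 lc_g_rc_47_2 lc_g_rc_7_3 lc_g_rc_31_1) (@D3.rec (fun _ => (Cert rels S Gen.g)) lc_g_rc_50_2 lc_g_rc_7_3 lc_g_rc_48_0 lc_g_rc_50_2 lc_g_rc_47_2 lc_g_rc_16_1 lc_g_rc_16_1 lc_g_rc_16_1 lc_g_rc_7_1 lc_g_rc_47_2 lc_g_rc_31_1 lc_g_rc_37_1 lc_g_rc_24_1 lc_g_rc_31_1 lc_g_rc_24_1 lc_g_rc_50_2 lc_g_rc_47_2 lc_g_rc_31_1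 lc_g_rc_16_1 lc_g_rc_49_2 lc_g_rc_50_2 lc_g_rc_47_2 lc_g_rc_49_2 lc_g_rc_31_1 lc_g_rc_7_1 lc_g_rc_37_1 lc_g_rc_7_3 lc_g_rc_47_2 lc_g_rc_31_1 lc_g_rc_24_1 lc_g_rc_49_2 lc_g_rc_31_1 lc_g_rc_48_0 lc_g_rc_50_2 lc_g_rc_47_2 lc_g_rc_47_2 lc_g_rc_50_2 lc_g_rc_50_2 lc_g_rc_16_1 lc_g_rc_7_3 lc_g_rc_31_1 lc_g_rc_49_2 lc_g_rc_50_2 lc_g_rc_47_2 lc_g_rc_31_1 lc_g_rc_31_1 lc_g_rc_7_1 lc_g_rc_7_1 lc_g_rc_16_1 lc_g_rc_16_1 lc_g_rc_37_1) (@D3.rec (fun _ => (Cert rels S Gen.g)) lc_g_rc_16_1 lc_g_rc_16_1 lc_g_rc_50_2 lc_g_rc_47_2 lc_g_rc_49_2 lc_g_rc_50_2 lc_g_rc_47_2 lc_g_rc_31_1 lc_g_rc_37_1 lc_g_rc_50_2 lc_g_rc_47_2 lc_g_rc_31_1 lc_g_rc_24_1 lc_g_rc_7_1 lc_g_rc_16_1 lc_g_rc_49_2 lc_g_rc_50_2 lc_g_rc_47_2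 lc_g_rc_31_1 lc_g_rc_24_1 lc_g_rc_7_1 lc_g_rc_7_1 lc_g_rc_37_1 lc_g_rc_50_2 lc_g_rc_47_2 lc_g_Cert_tree lc_g_rc_47_2 lc_g_rc_31_1 lc_g_rc_24_1 lc_g_rc_37_1 lc_g_rc_16_1 lc_g_rc_47_2 lc_g_rc_48_0 lc_g_rc_49_2 lc_g_rc_47_2 lc_g_rc_31_1 lc_g_rc_7_3 lc_g_rc_37_1 lc_g_rc_16_1 lc_g_rc_31_1 lc_g_rc_24_1 lc_g_rc_37_1 lc_g_rc_7_1 lc_g_rc_24_1 lc_g_rc_24_1 lc_g_rc_7_1 lc_g_rc_31_1 lc_g_rc_37_1 lc_g_rc_50_2 lc_g_rc_24_1 lc_g_rc_16_1)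
def ce_g_16 : D2 → D3 → (Cert rels S Gen.g) := @D2.rec (fun _ => D3 → (Cert rels S Gen.g)) (@D3.rec (fun _ => (Cert rels S Gen.g)) lc_g_rc_16_1 lc_g_rc_16_1 lc_g_rc_16_1 lc_g_rc_50_2 lc_g_rc_47_2 lc_g_rc_37_1 lc_g_Cert_tree lc_g_rc_16_1 lc_g_Cert_tree lc_g_rc_44_3 lc_g_rc_48_0 lc_g_rc_47_2 lc_g_rc_47_2 lc_g_rc_37_1 lc_g_rc_44_1 lc_g_rc_24_1 lc_g_rc_31_1 lc_g_rc_31_1 lc_g_rc_49_4 lc_g_rc_37_3 lc_g_rc_7_1 lc_g_rc_37_3 lc_g_rc_24_1 lc_g_rc_37_1 lc_g_rc_31_1 lc_g_rc_31_1 lc_g_rc_16_1 lc_g_rc_31_1 lc_g_rc_7_1 lc_g_rc_47_2 lc_g_rc_24_1 lc_g_rc_24_1 lc_g_rc_49_4 lc_g_rc_31_1 lc_g_rc_24_1 lc_g_rc_31_1 lc_g_rc_31_1 lc_g_rc_37_1 lc_g_rc_37_1 lc_g_rc_47_0 lc_g_rc_47_0 lc_g_rc_31_1 lc_g_rc_31_1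 lc_g_rc_31_1 lc_g_rc_44_3 lc_g_rc_44_5 lc_g_rc_31_1 lc_g_rc_44_5 lc_g_rc_31_1 lc_g_rc_31_1 lc_g_rc_31_1) (@D3.rec (fun _ => (Cert rels S Gen.g)) lc_g_rc_37_1 lc_g_rc_37_1 lc_g_rc_37_1 lc_g_rc_37_1 lc_g_rc_37_1 lc_g_rc_37_1 lc_g_rc_50_2 lc_g_rc_31_1 lc_g_rc_44_3 lc_g_rc_16_1 lc_g_rc_37_1 lc_g_rc_31_1 lc_g_rc_37_1 lc_g_rc_50_2 lc_g_rc_37_1 lc_g_rc_7_1 lc_g_rc_7_1 lc_g_rc_7_1 lc_g_rc_47_2 lc_g_rc_50_2 lc_g_rc_47_2 lc_g_rc_31_1 lc_g_rc_31_1 lc_g_rc_37_1 lc_g_rc_50_2 lc_g_rc_50_2 lc_g_rc_47_2 lc_g_rc_24_1 lc_g_rc_24_1 lc_g_rc_31_1 lc_g_rc_7_1 lc_g_rc_31_1 lc_g_rc_44_3 lc_g_rc_31_1 lc_g_rc_31_1 lc_g_rc_31_1 lc_g_rc_7_1 lc_g_rc_7_1 lc_g_rc_7_1 lc_g_rc_16_1 lc_g_rc_7_1 lc_g_rc_37_1 lc_g_rc_44_1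 lc_g_rc_37_1 lc_g_rc_24_1 lc_g_rc_31_1 lc_g_rc_24_1 lc_g_rc_24_1 lc_g_rc_48_0 lc_g_rc_50_2 lc_g_rc_50_2) (@D3.rec (fun _ => (Cert rels S Gen.g)) lc_g_rc_16_1 lc_g_rc_31_1 lc_g_rc_50_2 lc_g_rc_47_2 lc_g_rc_31_1 lc_g_rc_31_1 lc_g_rc_37_1 lc_g_rc_47_2 lc_g_rc_31_1 lc_g_rc_24_1 lc_g_rc_50_2 lc_g_rc_47_2 lc_g_rc_47_2 lc_g_rc_37_1 lc_g_rc_44_3 lc_g_rc_31_1 lc_g_rc_24_1 lc_g_rc_31_1 lc_g_rc_50_2 lc_g_rc_47_2 lc_g_rc_31_1 lc_g_rc_31_1 lc_g_rc_37_1 lc_g_rc_47_2 lc_g_rc_31_1 lc_g_rc_24_1 lc_g_rc_47_2 lc_g_rc_31_1 lc_g_rc_31_1 lc_g_rc_44_3 lc_g_rc_37_1 lc_g_rc_47_0 lc_g_rc_47_2 lc_g_rc_31_1 lc_g_rc_37_1 lc_g_rc_16_1 lc_g_rc_37_1 lc_g_rc_44_3 lc_g_rc_37_1 lc_g_rc_44_3 lc_g_rc_24_1 lc_g_rc_24_1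 lc_g_rc_24_1 lc_g_rc_24_1 lc_g_rc_24_1 lc_g_rc_44_1 lc_g_rc_16_1 lc_g_rc_31_1 lc_g_rc_47_0 lc_g_rc_50_2 lc_g_rc_7_1) (@D3.rec (fun _ => (Cert rels S Gen.g)) lc_g_rc_7_1 lc_g_rc_16_1 lc_g_rc_50_2 lc_g_rc_50_2 lc_g_rc_37_1 lc_g_rc_24_1 lc_g_rc_37_1 lc_g_rc_44_3 lc_g_rc_37_1 lc_g_rc_50_2 lc_g_rc_31_1 lc_g_rc_37_1 lc_g_rc_24_1 lc_g_rc_24_1 lc_g_rc_50_2 lc_g_rc_7_1 lc_g_rc_24_1 lc_g_rc_16_1 lc_g_rc_50_2 lc_g_rc_47_2 lc_g_rc_31_1 lc_g_rc_50_2 lc_g_rc_31_1 lc_g_rc_31_1 lc_g_rc_37_1 lc_g_rc_24_1 lc_g_rc_50_2 lc_g_rc_47_2 lc_g_rc_31_1 lc_g_rc_44_3 lc_g_rc_48_0 lc_g_rc_50_2 lc_g_rc_47_2 lc_g_rc_50_2 lc_g_rc_31_1 lc_g_rc_16_1 lc_g_rc_24_1 lc_g_rc_24_1 lc_g_rc_31_1 lc_g_rc_44_3 lc_g_rc_31_1 lc_g_rc_16_3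 lc_g_rc_7_1 lc_g_rc_31_1 lc_g_rc_24_1 lc_g_rc_31_1 lc_g_rc_37_1 lc_g_rc_44_3 lc_g_rc_24_1 lc_g_rc_24_1 lc_g_rc_37_1) (@D3.rec (fun _ => (Cert rels S Gen.g)) lc_g_rc_24_1 lc_g_rc_37_1 lc_g_rc_47_2 lc_g_rc_24_1 lc_g_rc_31_1 lc_g_rc_31_1 lc_g_rc_37_1 lc_g_rc_24_1 lc_g_rc_37_1 lc_g_rc_44_3 lc_g_rc_44_1 lc_g_rc_50_2 lc_g_rc_7_3 lc_g_rc_50_2 lc_g_rc_16_1 lc_g_rc_7_3 lc_g_rc_16_1 lc_g_rc_49_0 lc_g_rc_49_2 lc_g_rc_50_2 lc_g_rc_24_1 lc_g_rc_16_1 lc_g_rc_50_2 lc_g_rc_50_2 lc_g_rc_47_2 lc_g_rc_47_0 lc_g_rc_37_1 lc_g_rc_44_3 lc_g_rc_37_1 lc_g_rc_47_2 lc_g_rc_7_1 lc_g_rc_16_1 lc_g_rc_16_1 lc_g_rc_47_2 lc_g_rc_31_1 lc_g_rc_37_1 lc_g_rc_24_1 lc_g_rc_31_1 lc_g_rc_50_2 lc_g_rc_47_2 lc_g_rc_31_1 lc_g_rc_31_1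 lc_g_rc_16_1 lc_g_rc_31_1 lc_g_rc_31_1 lc_g_rc_16_1 lc_g_rc_31_1 lc_g_rc_37_1 lc_g_rc_47_2 lc_g_rc_31_1 lc_g_rc_24_1) (@D3.rec (fun _ => (Cert rels S Gen.g)) lc_g_rc_37_1 lc_g_rc_31_1 lc_g_rc_37_1 lc_g_rc_47_2 lc_g_rc_31_1 lc_g_rc_49_2 lc_g_rc_50_2 lc_g_rc_37_1 lc_g_rc_47_2 lc_g_rc_44_3 lc_g_rc_37_1 lc_g_rc_31_1 lc_g_rc_7_1 lc_g_rc_7_1 lc_g_rc_7_1 lc_g_rc_44_3 lc_g_rc_37_1 lc_g_rc_16_1 lc_g_rc_37_1 lc_g_rc_16_1 lc_g_rc_16_1 lc_g_rc_49_2 lc_g_rc_50_2 lc_g_rc_50_2 lc_g_rc_47_2 lc_g_rc_50_2 lc_g_rc_47_2 lc_g_rc_31_1 lc_g_rc_37_1 lc_g_rc_37_1 lc_g_rc_47_2 lc_g_rc_31_1 lc_g_rc_24_1 lc_g_rc_24_1 lc_g_rc_31_1 lc_g_rc_31_1 lc_g_rc_7_1 lc_g_rc_31_1 lc_g_rc_37_1 lc_g_rc_47_2 lc_g_rc_31_1 lc_g_rc_24_1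 lc_g_rc_37_1 lc_g_Cert_tree lc_g_rc_31_3 lc_g_rc_31_1 lc_g_rc_44_3 lc_g_rc_37_1 lc_g_rc_16_1 lc_g_rc_37_1 lc_g_rc_31_1) (@D3.rec (fun _ => (Cert rels S Gen.g)) lc_g_rc_37_1 lc_g_rc_24_1 lc_g_rc_37_1 lc_g_rc_16_1 lc_g_rc_24_1 lc_g_rc_50_2 lc_g_rc_7_1 lc_g_rc_31_1 lc_g_rc_16_1 lc_g_rc_7_1 lc_g_rc_7_1 lc_g_rc_50_2 lc_g_rc_16_1 lc_g_rc_16_1 lc_g_rc_16_1 lc_g_rc_50_2 lc_g_rc_47_2 lc_g_rc_37_3 lc_g_rc_37_1 lc_g_rc_16_1 lc_g_rc_50_2 lc_g_rc_16_3 lc_g_rc_37_1 lc_g_rc_16_1 lc_g_rc_37_1 lc_g_rc_47_2 lc_g_rc_31_1 lc_g_rc_50_2 lc_g_rc_47_2 lc_g_rc_47_2 lc_g_rc_37_1 lc_g_rc_31_1 lc_g_rc_49_2 lc_g_rc_24_3 lc_g_rc_37_1 lc_g_rc_16_1 lc_g_rc_7_3 lc_g_rc_16_1 lc_g_rc_7_1 lc_g_rc_7_1 lc_g_rc_31_1 lc_g_rc_47_2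 lc_g_rc_16_1 lc_g_rc_50_2 lc_g_rc_47_2 lc_g_rc_7_3 lc_g_rc_47_2 lc_g_rc_37_1 lc_g_rc_31_1 lc_g_rc_24_1 lc_g_rc_49_2) (@D3.rec (fun _ => (Cert rels S Gen.g)) lc_g_rc_31_1 lc_g_rc_24_1 lc_g_rc_47_2 lc_g_rc_7_3 lc_g_rc_47_2 lc_g_rc_47_2 lc_g_rc_7_3 lc_g_rc_31_1 lc_g_rc_16_1 lc_g_rc_47_2 lc_g_rc_37_1 lc_g_rc_31_1 lc_g_rc_7_1 lc_g_rc_47_2 lc_g_rc_31_1 lc_g_rc_24_1 lc_g_rc_16_3 lc_g_rc_7_1 lc_g_rc_31_1 lc_g_rc_44_3 lc_g_rc_37_1 lc_g_rc_49_2 lc_g_rc_31_1 lc_g_rc_37_1 lc_g_rc_31_1 lc_g_rc_37_1 lc_g_rc_44_1 lc_g_rc_50_2 lc_g_rc_16_3 lc_g_rc_37_1 lc_g_rc_50_2 lc_g_rc_47_2 lc_g_rc_50_2 lc_g_rc_50_2 lc_g_rc_47_2 lc_g_rc_31_1 lc_g_rc_37_1 lc_g_rc_31_1 lc_g_rc_31_1 lc_g_rc_49_2 lc_g_rc_44_3 lc_g_rc_50_2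 lc_g_rc_7_3 lc_g_rc_24_1 lc_g_rc_24_1 lc_g_rc_24_1 lc_g_rc_31_1 lc_g_rc_47_2 lc_g_rc_31_1 lc_g_rc_50_2 lc_g_rc_47_2) (@D3.rec (fun _ => (Cert rels S Gen.g)) lc_g_rc_48_0 lc_g_rc_50_2 lc_g_rc_47_2 lc_g_rc_37_1 lc_g_rc_31_1 lc_g_rc_50_2 lc_g_rc_47_2 lc_g_rc_49_2 lc_g_rc_31_1 lc_g_rc_24_1 lc_g_rc_44_3 lc_g_rc_24_1 lc_g_rc_47_2 lc_g_rc_50_2 lc_g_rc_47_2 lc_g_rc_31_3 lc_g_rc_50_2 lc_g_rc_48_0 lc_g_rc_50_2 lc_g_rc_47_2 lc_g_rc_50_2 lc_g_rc_47_2 lc_g_rc_31_1 lc_g_rc_37_1 lc_g_rc_16_1 lc_g_rc_16_1 lc_g_rc_47_2 lc_g_rc_31_1 lc_g_rc_50_2 lc_g_rc_47_2 lc_g_rc_37_1 lc_g_rc_31_1 lc_g_rc_31_1 lc_g_rc_24_1 lc_g_rc_50_2 lc_g_rc_47_2 lc_g_rc_49_2 lc_g_rc_47_2 lc_g_rc_31_1 lc_g_rc_24_1 lc_g_rc_16_3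 lc_g_rc_24_1 lc_g_rc_31_3 lc_g_rc_37_1 lc_g_rc_31_1 lc_g_rc_24_1 lc_g_rc_37_1 lc_g_rc_44_1 lc_g_rc_24_1 lc_g_rc_7_1 lc_g_rc_50_2) (@D3.rec (fun _ => (Cert rels S Gen.g)) lc_g_rc_16_1 lc_g_rc_50_2 lc_g_rc_50_2 lc_g_rc_47_2 lc_g_rc_7_1 lc_g_rc_16_1 lc_g_rc_31_1 lc_g_rc_50_2 lc_g_rc_7_1 lc_g_rc_48_0 lc_g_rc_50_2 lc_g_rc_47_2 lc_g_rc_7_1 lc_g_rc_7_1 lc_g_rc_16_1 lc_g_rc_7_3 lc_g_rc_16_1 lc_g_rc_16_1 lc_g_rc_49_2 lc_g_rc_24_1 lc_g_rc_24_1 lc_g_rc_48_0 lc_g_rc_50_2 lc_g_rc_24_1 lc_g_rc_31_1 lc_g_rc_50_2 lc_g_rc_47_2 lc_g_rc_47_2 lc_g_rc_24_1 lc_g_rc_47_2 lc_g_rc_48_0 lc_g_rc_50_2 lc_g_rc_47_2 lc_g_rc_7_1 lc_g_rc_7_1 lc_g_rc_48_0 lc_g_rc_50_2 lc_g_rc_47_2 lc_g_rc_49_2 lc_g_rc_50_2 lc_g_rc_47_2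 lc_g_rc_31_1 lc_g_rc_16_1 lc_g_rc_16_1 lc_g_rc_7_1 lc_g_rc_16_1 lc_g_rc_50_2 lc_g_rc_47_2 lc_g_rc_50_2 lc_g_rc_47_2 lc_g_rc_31_1) (@D3.rec (fun _ => (Cert rels S Gen.g)) lc_g_rc_50_2 lc_g_rc_47_2 lc_g_rc_31_1 lc_g_rc_24_1 lc_g_rc_50_2 lc_g_rc_47_2 lc_g_rc_49_2 lc_g_rc_50_2 lc_g_rc_47_2 lc_g_rc_31_1 lc_g_rc_24_1 lc_g_rc_16_1 lc_g_rc_47_2 lc_g_rc_16_1 lc_g_rc_47_2 lc_g_rc_31_1 lc_g_rc_24_1 lc_g_rc_37_1 lc_g_rc_16_1 lc_g_rc_49_2 lc_g_rc_49_2 lc_g_rc_24_1 lc_g_rc_16_1 lc_g_rc_16_1 lc_g_rc_31_1 lc_g_rc_48_0 lc_g_rc_50_2 lc_g_rc_47_2 lc_g_rc_31_1 lc_g_rc_50_2 lc_g_rc_47_2 lc_g_rc_31_1 lc_g_rc_37_1 lc_g_rc_31_1 lc_g_rc_31_1 lc_g_rc_50_2 lc_g_rc_50_2 lc_g_rc_16_1 lc_g_rc_24_1 lc_g_rc_48_0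 lc_g_rc_31_1 lc_g_rc_50_2 lc_g_rc_50_2 lc_g_rc_47_2 lc_g_rc_24_1 lc_g_rc_50_2 lc_g_rc_47_2 lc_g_rc_31_1 lc_g_rc_37_1 lc_g_rc_50_2 lc_g_rc_47_2) (@D3.rec (fun _ => (Cert rels S Gen.g)) lc_g_rc_31_1 lc_g_rc_24_1 lc_g_rc_7_1 lc_g_rc_48_0 lc_g_rc_50_2 lc_g_rc_7_1 lc_g_rc_50_2 lc_g_rc_47_2 lc_g_rc_16_1 lc_g_rc_7_1 lc_g_rc_7_1 lc_g_rc_47_2 lc_g_rc_50_2 lc_g_rc_50_2 lc_g_rc_47_2 lc_g_rc_50_2 lc_g_rc_47_2 lc_g_rc_24_1 lc_g_rc_47_2 lc_g_rc_31_1 lc_g_rc_24_1 lc_g_rc_37_1 lc_g_rc_37_1 lc_g_rc_47_2 lc_g_rc_31_1 lc_g_rc_24_1 lc_g_rc_37_1 lc_g_rc_16_1 lc_g_rc_16_3 lc_g_rc_16_1 lc_g_rc_24_1 lc_g_rc_47_2 lc_g_rc_31_1 lc_g_rc_24_1 lc_g_rc_49_2 lc_g_rc_47_2 lc_g_rc_31_1 lc_g_rc_24_1 lc_g_rc_37_1 lc_g_rc_16_1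 lc_g_rc_24_1 lc_g_rc_47_2 lc_g_rc_24_1 lc_g_rc_47_2 lc_g_rc_31_1 lc_g_rc_16_1 lc_g_rc_37_1 lc_g_rc_7_3 lc_g_rc_31_1 lc_g_rc_24_1 lc_g_rc_37_1) (@D3.rec (fun _ => (Cert rels S Gen.g)) lc_g_rc_16_1 lc_g_rc_24_1 lc_g_rc_7_1 lc_g_rc_16_1 lc_g_rc_49_2 lc_g_rc_37_1 lc_g_rc_24_1 lc_g_rc_31_1 lc_g_rc_24_1 lc_g_rc_37_1 lc_g_rc_16_1 lc_g_rc_24_1 lc_g_rc_7_1 lc_g_rc_24_1 lc_g_rc_37_1 lc_g_rc_24_1 lc_g_rc_24_1 lc_g_rc_37_1 lc_g_rc_31_1 lc_g_rc_16_1 lc_g_rc_31_1 lc_g_rc_7_3 lc_g_rc_37_1 lc_g_rc_7_1 lc_g_rc_31_1 lc_g_rc_31_1 lc_g_rc_37_1 lc_g_rc_31_1 lc_g_rc_7_1 lc_g_rc_16_1 lc_g_rc_16_1 lc_g_rc_24_1 lc_g_rc_37_1 lc_g_rc_16_1 lc_g_rc_50_2 lc_g_rc_24_1 lc_g_rc_37_1 lc_g_rc_7_1 lc_g_rc_24_1 lc_g_rc_31_1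 lc_g_rc_37_1 lc_g_rc_50_2 lc_g_rc_31_1 lc_g_rc_16_1 lc_g_rc_47_2 lc_g_rc_31_1 lc_g_rc_31_1 lc_g_rc_47_2 lc_g_rc_44_3 lc_g_rc_31_1 lc_g_rc_37_1) (@D3.rec (fun _ => (Cert rels S Gen.g)) lc_g_rc_44_5 lc_g_rc_44_3 lc_g_rc_47_2 lc_g_rc_50_2 lc_g_rc_47_2 lc_g_rc_31_1 lc_g_rc_47_2 lc_g_rc_31_1 lc_g_rc_24_1 lc_g_rc_7_1 lc_g_rc_31_1 lc_g_rc_47_2 lc_g_rc_31_1 lc_g_rc_31_1 lc_g_rc_24_1 lc_g_rc_24_1 lc_g_rc_47_2 lc_g_rc_50_2 lc_g_rc_31_1 lc_g_rc_47_2 lc_g_rc_7_1 lc_g_rc_7_1 lc_g_rc_16_1 lc_g_rc_16_1 lc_g_rc_31_1 lc_g_rc_37_1 lc_g_rc_24_1 lc_g_rc_7_1 lc_g_rc_16_1 lc_g_rc_16_1 lc_g_rc_37_1 lc_g_Cert_tree lc_g_rc_16_3 lc_g_rc_31_1 lc_g_rc_31_1 lc_g_rc_24_1 lc_g_rc_31_1 lc_g_rc_31_1 lc_g_rc_7_1 lc_g_rc_16_1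 lc_g_rc_16_1 lc_g_rc_24_1 lc_g_rc_47_2 lc_g_rc_24_3 lc_g_rc_47_2 lc_g_rc_16_1 lc_g_rc_16_1 lc_g_rc_7_1 lc_g_rc_31_1 lc_g_rc_7_1 lc_g_rc_47_2) (@D3.rec (fun _ => (Cert rels S Gen.g)) lc_g_rc_31_1 lc_g_rc_7_1 lc_g_rc_31_1 lc_g_rc_31_1 lc_g_rc_37_1 lc_g_rc_16_1 lc_g_rc_44_1 lc_g_rc_47_2 lc_g_rc_37_1 lc_g_rc_31_1 lc_g_rc_37_1 lc_g_rc_31_1 lc_g_rc_24_1 lc_g_rc_16_1 lc_g_rc_24_1 lc_g_rc_7_1 lc_g_rc_7_1 lc_g_rc_37_1 lc_g_rc_31_1 lc_g_rc_24_1 lc_g_rc_16_1 lc_g_rc_31_1 lc_g_rc_31_1 lc_g_rc_47_2 lc_g_rc_24_1 lc_g_rc_37_1 lc_g_rc_47_2 lc_g_rc_31_1 lc_g_rc_37_1 lc_g_rc_47_2 lc_g_rc_37_1 lc_g_rc_37_1 lc_g_rc_16_1 lc_g_Cert_tree lc_g_rc_24_1 lc_g_rc_7_1 lc_g_rc_16_1 lc_g_rc_16_1 lc_g_rc_24_1 lc_g_rc_24_1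 lc_g_rc_31_1 lc_g_rc_47_2 lc_g_rc_31_1 lc_g_rc_24_1 lc_g_rc_47_2 lc_g_rc_47_2 lc_g_rc_49_4 lc_g_rc_24_1 lc_g_rc_24_1 lc_g_rc_47_2 lc_g_rc_31_1) (@D3.rec (fun _ => (Cert rels S Gen.g)) lc_g_rc_47_2 lc_g_rc_31_1 lc_g_rc_31_1 lc_g_rc_16_1 lc_g_rc_37_1 lc_g_rc_16_1 lc_g_rc_16_1 lc_g_rc_50_2 lc_g_rc_50_2 lc_g_rc_47_2 lc_g_rc_7_1 lc_g_rc_31_1 lc_g_rc_37_1 lc_g_rc_47_2 lc_g_rc_31_1 lc_g_rc_24_1 lc_g_rc_16_1 lc_g_rc_7_1 lc_g_rc_50_2 lc_g_rc_47_2 lc_g_rc_31_1 lc_g_rc_16_3 lc_g_rc_31_1 lc_g_rc_16_1 lc_g_rc_7_3 lc_g_rc_47_2 lc_g_rc_16_1 lc_g_rc_50_2 lc_g_rc_49_2 lc_g_rc_47_2 lc_g_rc_24_1 lc_g_rc_31_1 lc_g_rc_37_1 lc_g_rc_50_2 lc_g_rc_24_1 lc_g_rc_37_1 lc_g_rc_7_1 lc_g_rc_44_3 lc_g_rc_16_1 lc_g_rc_16_1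 lc_g_rc_50_2 lc_g_rc_47_2 lc_g_rc_16_1 lc_g_rc_16_1 lc_g_rc_50_2 lc_g_rc_31_1 lc_g_rc_47_2 lc_g_rc_50_2 lc_g_rc_47_2 lc_g_rc_50_2 lc_g_rc_47_2) (@D3.rec (fun _ => (Cert rels S Gen.g)) lc_g_rc_31_1 lc_g_rc_24_1 lc_g_rc_37_1 lc_g_rc_37_1 lc_g_rc_16_3 lc_g_rc_31_1 lc_g_rc_24_1 lc_g_rc_16_1 lc_g_rc_50_2 lc_g_rc_7_1 lc_g_rc_24_1 lc_g_rc_16_1 lc_g_rc_31_1 lc_g_Cert_tree lc_g_rc_7_3 lc_g_rc_7_1 lc_g_rc_47_2 lc_g_rc_44_3 lc_g_rc_24_1 lc_g_rc_31_1 lc_g_rc_37_1 lc_g_rc_16_1 lc_g_rc_49_2 lc_g_rc_37_1 lc_g_rc_31_3 lc_g_rc_50_2 lc_g_rc_49_2 lc_g_rc_49_2 lc_g_Cert_tree lc_g_rc_16_1 lc_g_rc_16_1 lc_g_rc_16_1 lc_g_rc_50_2 lc_g_rc_47_2 lc_g_rc_31_1 lc_g_rc_48_0 lc_g_rc_37_1 lc_g_rc_37_1 lc_g_rc_37_1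 lc_g_rc_44_1 lc_g_rc_7_1 lc_g_rc_44_3 lc_g_rc_24_1 lc_g_rc_31_1 lc_g_rc_31_1 lc_g_rc_37_1 lc_g_rc_44_3 lc_g_rc_37_1 lc_g_rc_44_3 lc_g_rc_16_1 lc_g_rc_31_1) (@D3.rec (fun _ => (Cert rels S Gen.g)) lc_g_rc_24_1 lc_g_rc_31_1 lc_g_rc_31_1 lc_g_rc_37_1 lc_g_rc_16_1 lc_g_rc_16_1 lc_g_rc_24_1 lc_g_rc_50_2 lc_g_rc_47_2 lc_g_rc_24_1 lc_g_rc_31_1 lc_g_rc_37_1 lc_g_rc_44_3 lc_g_rc_24_1 lc_g_rc_31_1 lc_g_rc_37_1 lc_g_Cert_tree lc_g_rc_48_0 lc_g_rc_16_3 lc_g_rc_47_2 lc_g_rc_37_1 lc_g_Cert_tree lc_g_rc_48_0 lc_g_rc_31_1 lc_g_rc_24_1 lc_g_rc_31_1 lc_g_rc_31_1 lc_g_rc_47_2 lc_g_rc_31_1 lc_g_rc_31_1 lc_g_rc_37_1 lc_g_rc_24_1 lc_g_rc_44_3 lc_g_rc_37_1 lc_g_rc_16_1 lc_g_rc_16_1 lc_g_rc_50_2 lc_g_rc_47_2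 lc_g_rc_31_1 lc_g_rc_37_1 lc_g_rc_24_1 lc_g_rc_37_1 lc_g_rc_44_3 lc_g_rc_47_2 lc_g_rc_31_1 lc_g_rc_44_3 lc_g_rc_31_1 lc_g_rc_44_1 lc_g_rc_47_2 lc_g_rc_31_1 lc_g_rc_37_1) (@D3.rec (fun _ => (Cert rels S Gen.g)) lc_g_rc_24_1 lc_g_rc_7_1 lc_g_rc_24_1 lc_g_rc_16_1 lc_g_rc_47_2 lc_g_rc_16_1 lc_g_rc_16_1 lc_g_rc_50_2 lc_g_rc_47_2 lc_g_rc_47_2 lc_g_rc_31_1 lc_g_rc_24_1 lc_g_rc_37_1 lc_g_Cert_tree lc_g_rc_37_1 lc_g_rc_31_1 lc_g_rc_24_1 lc_g_rc_16_1 lc_g_rc_44_3 lc_g_rc_48_0 lc_g_rc_37_1 lc_g_rc_37_1 lc_g_rc_37_1 lc_g_rc_16_1 lc_g_rc_16_1 lc_g_rc_24_1 lc_g_rc_50_2 lc_g_rc_47_2 lc_g_rc_48_0 lc_g_rc_31_1 lc_g_rc_47_2 lc_g_rc_31_1 lc_g_rc_24_1 lc_g_rc_47_2 lc_g_rc_47_2 lc_g_rc_31_1 lc_g_rc_31_1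 lc_g_rc_24_1 lc_g_rc_24_3 lc_g_rc_47_2 lc_g_rc_50_2 lc_g_rc_47_2 lc_g_rc_31_1 lc_g_rc_50_2 lc_g_rc_7_1 lc_g_rc_16_3 lc_g_rc_16_1 lc_g_rc_24_3 lc_g_rc_31_1 lc_g_rc_47_2 lc_g_rc_31_1) (@D3.rec (fun _ => (Cert rels S Gen.g)) lc_g_rc_24_1 lc_g_rc_31_1 lc_g_rc_7_1 lc_g_rc_37_1 lc_g_rc_16_1 lc_g_rc_47_2 lc_g_rc_47_2 lc_g_rc_31_1 lc_g_rc_24_1 lc_g_rc_24_1 lc_g_rc_16_1 lc_g_rc_24_1 lc_g_rc_16_1 lc_g_rc_31_1 lc_g_rc_24_1 lc_g_rc_37_1 lc_g_rc_24_1 lc_g_rc_31_1 lc_g_rc_47_2 lc_g_rc_47_2 lc_g_rc_24_1 lc_g_rc_47_2 lc_g_rc_47_2 lc_g_rc_31_1 lc_g_rc_16_1 lc_g_rc_31_1 lc_g_rc_24_1 lc_g_rc_37_1 lc_g_rc_16_1 lc_g_rc_16_1 lc_g_rc_50_2 lc_g_rc_47_2 lc_g_rc_24_1 lc_g_rc_16_1 lc_g_rc_7_1 lc_g_rc_7_1 lc_g_rc_16_1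 lc_g_rc_16_1 lc_g_rc_16_1 lc_g_rc_24_1 lc_g_rc_24_1 lc_g_rc_31_1 lc_g_rc_37_1 lc_g_rc_24_1 lc_g_rc_50_2 lc_g_rc_47_2 lc_g_rc_7_3 lc_g_rc_31_1 lc_g_rc_37_1 lc_g_rc_37_1 lc_g_rc_31_1) (@D3.rec (fun _ => (Cert rels S Gen.g)) lc_g_rc_24_1 lc_g_rc_37_1 lc_g_rc_24_1 lc_g_rc_50_2 lc_g_rc_16_1 lc_g_rc_37_1 lc_g_rc_16_1 lc_g_rc_47_2 lc_g_rc_50_2 lc_g_rc_50_2 lc_g_rc_47_2 lc_g_rc_50_2 lc_g_rc_47_2 lc_g_rc_50_2 lc_g_rc_47_2 lc_g_rc_31_1 lc_g_rc_24_1 lc_g_rc_16_1 lc_g_rc_31_1 lc_g_rc_24_1 lc_g_rc_16_1 lc_g_rc_16_1 lc_g_rc_31_1 lc_g_rc_24_1 lc_g_rc_50_2 lc_g_rc_31_1 lc_g_rc_37_1 lc_g_rc_49_2 lc_g_rc_47_2 lc_g_rc_31_1 lc_g_rc_47_2 lc_g_rc_31_1 lc_g_rc_24_1 lc_g_rc_44_3 lc_g_rc_37_1 lc_g_rc_31_1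 lc_g_rc_47_2 lc_g_rc_24_1 lc_g_rc_31_1 lc_g_Cert_tree lc_g_rc_47_2 lc_g_rc_31_1 lc_g_rc_24_1 lc_g_rc_16_1 lc_g_rc_37_1 lc_g_rc_7_1 lc_g_rc_50_2 lc_g_rc_47_2 lc_g_rc_31_1 lc_g_rc_24_1 lc_g_rc_50_2) (@D3.rec (fun _ => (Cert rels S Gen.g)) lc_g_rc_47_2 lc_g_rc_47_2 lc_g_rc_31_1 lc_g_rc_50_2 lc_g_rc_24_1 lc_g_rc_47_2 lc_g_rc_31_1 lc_g_rc_24_1 lc_g_rc_37_1 lc_g_rc_16_1 lc_g_rc_24_1 lc_g_rc_31_1 lc_g_rc_31_1 lc_g_rc_24_1 lc_g_rc_16_1 lc_g_rc_7_1 lc_g_rc_16_1 lc_g_rc_16_1 lc_g_rc_24_1 lc_g_rc_44_5 lc_g_Cert_tree lc_g_rc_48_0 lc_g_rc_31_1 lc_g_rc_24_1 lc_g_rc_37_1 lc_g_rc_49_2 lc_g_rc_37_1 lc_g_rc_37_1 lc_g_rc_16_1 lc_g_rc_37_1 lc_g_rc_7_1 lc_g_rc_7_1 lc_g_rc_7_1 lc_g_rc_7_1 lc_g_rc_16_1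 lc_g_rc_7_1 lc_g_rc_24_1 lc_g_rc_16_1 lc_g_rc_24_1 lc_g_rc_7_1 lc_g_rc_7_1 lc_g_rc_7_1 lc_g_rc_31_1 lc_g_rc_37_1 lc_g_rc_47_2 lc_g_rc_31_1 lc_g_rc_31_1 lc_g_rc_37_1 lc_g_rc_37_1 lc_g_rc_24_1 lc_g_rc_31_1) (@D3.rec (fun _ => (Cert rels S Gen.g)) lc_g_rc_24_1 lc_g_rc_37_1 lc_g_rc_37_1 lc_g_rc_24_1 lc_g_rc_37_1 lc_g_rc_37_1 lc_g_rc_44_3 lc_g_rc_50_2 lc_g_rc_50_2 lc_g_rc_50_2 lc_g_rc_31_1 lc_g_rc_37_1 lc_g_rc_44_1 lc_g_rc_24_1 lc_g_rc_37_1 lc_g_rc_44_1 lc_g_rc_31_1 lc_g_rc_16_1 lc_g_rc_7_1 lc_g_rc_24_1 lc_g_rc_16_1 lc_g_rc_24_1 lc_g_rc_44_3 lc_g_rc_24_1 lc_g_rc_24_1 lc_g_rc_31_1 lc_g_rc_16_1 lc_g_rc_31_1 lc_g_rc_37_1 lc_g_rc_44_3 lc_g_rc_31_1 lc_g_rc_47_2 lc_g_rc_31_1 lc_g_rc_31_1 lc_g_rc_44_5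 lc_g_rc_31_1 lc_g_rc_31_3 lc_g_rc_47_2 lc_g_rc_31_1 lc_g_rc_24_1 lc_g_rc_44_3 lc_g_rc_31_1 lc_g_rc_24_1 lc_g_rc_37_1 lc_g_rc_16_1 lc_g_rc_37_1 lc_g_rc_16_1 lc_g_rc_37_1 lc_g_rc_49_4 lc_g_rc_50_2 lc_g_rc_7_1) (@D3.rec (fun _ => (Cert rels S Gen.g)) lc_g_rc_49_2 lc_g_rc_50_2 lc_g_rc_24_1 lc_g_rc_24_1 lc_g_rc_24_1 lc_g_rc_24_1 lc_g_rc_31_1 lc_g_rc_47_2 lc_g_rc_50_2 lc_g_rc_47_2 lc_g_rc_47_2 lc_g_rc_49_4 lc_g_rc_50_2 lc_g_rc_48_0 lc_g_rc_50_2 lc_g_rc_47_2 lc_g_rc_31_1 lc_g_rc_31_1 lc_g_rc_37_1 lc_g_rc_7_1 lc_g_rc_37_1 lc_g_rc_31_1 lc_g_rc_49_2 lc_g_rc_50_2 lc_g_rc_47_2 lc_g_rc_49_2 lc_g_rc_37_1 lc_g_rc_31_1 lc_g_rc_24_1 lc_g_rc_47_2 lc_g_rc_50_2 lc_g_rc_47_2 lc_g_rc_49_4 lc_g_rc_50_2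 lc_g_rc_47_2 lc_g_rc_31_1 lc_g_rc_47_2 lc_g_rc_50_2 lc_g_rc_16_1 lc_g_rc_16_1 lc_g_rc_47_2 lc_g_rc_31_1 lc_g_rc_50_2 lc_g_rc_7_1 lc_g_rc_37_1 lc_g_rc_31_1 lc_g_rc_37_1 lc_g_rc_31_1 lc_g_rc_24_1 lc_g_rc_16_1 lc_g_rc_49_2) (@D3.rec (fun _ => (Cert rels S Gen.g)) lc_g_rc_49_2 lc_g_rc_47_2 lc_g_rc_31_1 lc_g_rc_24_1 lc_g_rc_16_3 lc_g_rc_24_1 lc_g_rc_37_1 lc_g_Cert_tree lc_g_rc_31_3 lc_g_rc_37_1 lc_g_rc_31_1 lc_g_rc_31_1 lc_g_rc_24_1 lc_g_rc_37_1 lc_g_rc_44_3 lc_g_rc_44_5 lc_g_rc_49_4 lc_g_rc_7_1 lc_g_rc_16_1 lc_g_rc_31_1 lc_g_rc_16_1 lc_g_rc_7_1 lc_g_rc_31_1 lc_g_rc_37_1 lc_g_rc_44_3 lc_g_Cert_tree lc_g_rc_7_1 lc_g_rc_16_1 lc_g_rc_37_1 lc_g_rc_24_1 lc_g_rc_24_1 lc_g_rc_44_3 lc_g_rc_50_2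 lc_g_rc_47_2 lc_g_rc_24_1 lc_g_rc_47_2 lc_g_rc_47_2 lc_g_rc_31_1 lc_g_rc_37_1 lc_g_rc_31_1 lc_g_rc_37_1 lc_g_rc_31_1 lc_g_rc_7_1 lc_g_rc_31_1 lc_g_rc_47_0 lc_g_rc_31_1 lc_g_rc_50_2 lc_g_rc_7_3 lc_g_rc_31_1 lc_g_rc_24_1 lc_g_rc_31_1) (@D3.rec (fun _ => (Cert rels S Gen.g)) lc_g_rc_37_1 lc_g_rc_31_1 lc_g_rc_24_3 lc_g_rc_50_2 lc_g_rc_47_2 lc_g_rc_31_1 lc_g_rc_31_1 lc_g_rc_37_1 lc_g_rc_50_2 lc_g_rc_47_2 lc_g_rc_31_1 lc_g_rc_24_1 lc_g_rc_7_3 lc_g_rc_31_1 lc_g_rc_37_1 lc_g_rc_7_1 lc_g_rc_31_1 lc_g_rc_37_1 lc_g_rc_49_2 lc_g_rc_50_2 lc_g_rc_7_1 lc_g_rc_49_4 lc_g_rc_50_2 lc_g_rc_50_2 lc_g_rc_48_0 lc_g_rc_50_2 lc_g_rc_7_1 lc_g_rc_7_1 lc_g_rc_7_1 lc_g_rc_16_1 lc_g_rc_16_1 lc_g_rc_24_1 lc_g_rc_50_2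 lc_g_rc_24_1 lc_g_rc_31_1 lc_g_rc_7_3 lc_g_rc_47_2 lc_g_rc_48_0 lc_g_rc_50_2 lc_g_rc_47_2 lc_g_rc_50_2 lc_g_rc_16_1 lc_g_rc_31_1 lc_g_rc_7_3 lc_g_rc_31_1 lc_g_rc_50_2 lc_g_rc_47_2 lc_g_rc_31_1 lc_g_rc_16_1 lc_g_rc_16_1 lc_g_rc_16_1) (@D3.rec (fun _ => (Cert rels S Gen.g)) lc_g_rc_7_1 lc_g_rc_50_2 lc_g_rc_47_2 lc_g_rc_37_1 lc_g_rc_31_1 lc_g_rc_37_1 lc_g_rc_7_3 lc_g_rc_47_2 lc_g_rc_31_1 lc_g_rc_24_1 lc_g_rc_16_1 lc_g_rc_49_2 lc_g_rc_47_2 lc_g_rc_31_1 lc_g_rc_24_1 lc_g_rc_44_3 lc_g_rc_7_3 lc_g_rc_31_1 lc_g_rc_24_1 lc_g_rc_37_1 lc_g_rc_49_2 lc_g_rc_7_3 lc_g_rc_50_2 lc_g_rc_47_2 lc_g_rc_31_1 lc_g_rc_50_2 lc_g_rc_7_1 lc_g_rc_16_1 lc_g_rc_31_1 lc_g_rc_31_1 lc_g_rc_37_1 lc_g_rc_50_2 lc_g_rc_47_2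 lc_g_rc_31_1 lc_g_rc_24_1 lc_g_rc_50_2 lc_g_rc_7_1 lc_g_rc_24_1 lc_g_rc_16_1 lc_g_rc_16_1 lc_g_rc_37_1 lc_g_rc_16_1 lc_g_rc_16_1 lc_g_rc_50_2 lc_g_rc_47_2 lc_g_rc_50_2 lc_g_rc_47_2 lc_g_rc_31_1 lc_g_rc_24_1 lc_g_rc_37_1 lc_g_Cert_tree)
def ce_g_17 : D2 → D3 → (Cert rels S Gen.g) := @D2.rec (fun _ => D3 → (Cert rels S Gen.g)) (@D3.rec (fun _ => (Cert rels S Gen.g)) lc_g_rc_47_2 lc_g_rc_31_1 lc_g_rc_24_1 lc_g_rc_37_1 lc_g_rc_16_1 lc_g_rc_7_1 lc_g_rc_16_1 lc_g_Cert_tree lc_g_rc_47_2 lc_g_rc_31_1 lc_g_rc_7_3 lc_g_rc_37_1 lc_g_rc_16_1 lc_g_rc_44_3 lc_g_rc_24_1 lc_g_rc_48_0 lc_g_rc_31_1 lc_g_rc_37_1 lc_g_rc_16_1 lc_g_rc_37_1 lc_g_rc_31_1 lc_g_rc_37_1 lc_g_rc_7_3 lc_g_rc_7_3 lc_g_rc_7_1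 lc_g_rc_37_1 lc_g_rc_24_1 lc_g_rc_37_1 lc_g_rc_31_1 lc_g_rc_37_1 lc_g_rc_44_3 lc_g_rc_7_1 lc_g_rc_31_1 lc_g_rc_16_1 lc_g_rc_16_1 lc_g_rc_16_1 lc_g_rc_44_1 lc_g_rc_50_2 lc_g_rc_47_2 lc_g_Cert_tree lc_g_rc_48_0 lc_g_rc_48_0 lc_g_rc_37_1 lc_g_rc_37_3 lc_g_rc_37_3 lc_g_rc_31_1 lc_g_rc_31_1 lc_g_rc_49_0 lc_g_rc_31_1 lc_g_rc_44_5 lc_g_rc_44_5) (@D3.rec (fun _ => (Cert rels S Gen.g)) lc_g_rc_44_3 lc_g_rc_37_1 lc_g_rc_37_1 lc_g_rc_37_1 lc_g_rc_37_1 lc_g_rc_37_1 lc_g_rc_37_1 lc_g_rc_44_3 lc_g_rc_47_2 lc_g_rc_37_1 lc_g_rc_44_3 lc_g_rc_37_1 lc_g_rc_7_1 lc_g_rc_37_1 lc_g_rc_7_1 lc_g_rc_31_1 lc_g_rc_7_3 lc_g_rc_31_1 lc_g_rc_50_2 lc_g_rc_47_2 lc_g_rc_47_2 lc_g_rc_24_1 lc_g_rc_31_1 lc_g_rc_44_3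 lc_g_rc_31_1 lc_g_rc_47_2 lc_g_rc_37_1 lc_g_rc_37_1 lc_g_rc_16_1 lc_g_rc_16_1 lc_g_rc_7_1 lc_g_rc_24_1 lc_g_rc_7_1 lc_g_rc_7_1 lc_g_rc_47_2 lc_g_rc_37_1 lc_g_rc_44_3 lc_g_rc_31_1 lc_g_rc_24_1 lc_g_rc_31_1 lc_g_rc_50_2 lc_g_rc_47_2 lc_g_rc_31_1 lc_g_rc_31_1 lc_g_rc_37_1 lc_g_rc_47_2 lc_g_rc_31_1 lc_g_rc_24_1 lc_g_rc_31_1 lc_g_rc_47_2 lc_g_rc_31_1) (@D3.rec (fun _ => (Cert rels S Gen.g)) lc_g_rc_47_2 lc_g_rc_44_3 lc_g_rc_47_2 lc_g_rc_31_1 lc_g_rc_37_1 lc_g_rc_47_2 lc_g_rc_31_1 lc_g_rc_24_1 lc_g_rc_16_1 lc_g_rc_31_1 lc_g_rc_44_3 lc_g_rc_37_1 lc_g_rc_37_1 lc_g_rc_24_1 lc_g_rc_16_1 lc_g_rc_47_2 lc_g_rc_37_1 lc_g_rc_16_1 lc_g_rc_44_1 lc_g_rc_47_2 lc_g_rc_31_1 lc_g_rc_37_1 lc_g_rc_24_1 lc_g_rc_24_1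 lc_g_rc_24_1 lc_g_rc_31_1 lc_g_rc_44_1 lc_g_rc_50_2 lc_g_rc_16_1 lc_g_rc_7_1 lc_g_rc_7_1 lc_g_rc_7_1 lc_g_rc_24_1 lc_g_rc_16_1 lc_g_rc_7_1 lc_g_rc_37_1 lc_g_rc_44_3 lc_g_rc_47_2 lc_g_rc_37_1 lc_g_rc_16_1 lc_g_rc_31_1 lc_g_rc_37_1 lc_g_rc_24_1 lc_g_rc_31_1 lc_g_rc_50_2 lc_g_rc_31_1 lc_g_rc_31_1 lc_g_rc_31_1 lc_g_rc_37_1 lc_g_rc_50_2 lc_g_rc_24_1) (@D3.rec (fun _ => (Cert rels S Gen.g)) lc_g_rc_47_2 lc_g_rc_47_2 lc_g_rc_50_2 lc_g_rc_47_2 lc_g_rc_31_1 lc_g_rc_16_1 lc_g_rc_37_1 lc_g_rc_31_1 lc_g_rc_24_1 lc_g_rc_31_1 lc_g_rc_37_1 lc_g_rc_44_3 lc_g_rc_24_1 lc_g_rc_24_1 lc_g_rc_37_1 lc_g_rc_44_3 lc_g_rc_24_1 lc_g_rc_37_1 lc_g_rc_44_3 lc_g_rc_24_1 lc_g_rc_47_2 lc_g_rc_24_1 lc_g_rc_44_1 lc_g_rc_37_1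 lc_g_rc_37_1 lc_g_rc_44_3 lc_g_rc_44_1 lc_g_rc_31_1 lc_g_rc_50_2 lc_g_rc_24_1 lc_g_rc_24_3 lc_g_rc_16_1 lc_g_rc_16_1 lc_g_rc_24_1 lc_g_rc_16_1 lc_g_rc_50_2 lc_g_rc_50_2 lc_g_rc_24_1 lc_g_rc_31_1 lc_g_rc_16_1 lc_g_rc_50_2 lc_g_rc_47_2 lc_g_rc_31_1 lc_g_rc_50_2 lc_g_rc_47_2 lc_g_rc_44_3 lc_g_rc_37_1 lc_g_rc_31_1 lc_g_rc_7_1 lc_g_rc_16_1 lc_g_rc_16_1) (@D3.rec (fun _ => (Cert rels S Gen.g)) lc_g_rc_50_2 lc_g_rc_47_2 lc_g_rc_37_1 lc_g_rc_31_1 lc_g_rc_37_1 lc_g_rc_47_2 lc_g_rc_31_1 lc_g_rc_24_1 lc_g_rc_31_1 lc_g_rc_37_1 lc_g_rc_44_3 lc_g_rc_44_3 lc_g_rc_31_1 lc_g_rc_24_1 lc_g_rc_37_1 lc_g_rc_47_2 lc_g_rc_31_1 lc_g_rc_44_1 lc_g_rc_50_2 lc_g_rc_50_2 lc_g_rc_7_1 lc_g_rc_37_1 lc_g_rc_16_1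 lc_g_rc_50_0 lc_g_rc_47_2 lc_g_rc_24_1 lc_g_rc_7_1 lc_g_rc_7_1 lc_g_rc_50_2 lc_g_rc_50_2 lc_g_rc_16_1 lc_g_rc_37_1 lc_g_rc_16_1 lc_g_rc_16_1 lc_g_rc_50_2 lc_g_rc_7_1 lc_g_rc_50_2 lc_g_rc_47_2 lc_g_rc_47_2 lc_g_rc_31_1 lc_g_rc_24_1 lc_g_rc_37_1 lc_g_Cert_tree lc_g_rc_37_1 lc_g_rc_31_1 lc_g_rc_24_1 lc_g_rc_37_1 lc_g_rc_16_1 lc_g_rc_31_1 lc_g_rc_37_1 lc_g_rc_31_1) (@D3.rec (fun _ => (Cert rels S Gen.g)) lc_g_rc_37_1 lc_g_rc_44_1 lc_g_rc_31_1 lc_g_rc_44_3 lc_g_rc_37_1 lc_g_rc_44_3 lc_g_rc_48_0 lc_g_rc_37_1 lc_g_rc_50_2 lc_g_rc_24_1 lc_g_rc_16_1 lc_g_rc_31_1 lc_g_rc_24_1 lc_g_rc_31_1 lc_g_rc_37_1 lc_g_rc_7_1 lc_g_rc_31_1 lc_g_rc_50_2 lc_g_rc_16_1 lc_g_rc_16_1 lc_g_rc_50_2 lc_g_rc_47_2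 lc_g_rc_47_2 lc_g_rc_31_3 lc_g_rc_31_1 lc_g_rc_16_3 lc_g_rc_37_1 lc_g_rc_31_1 lc_g_rc_31_1 lc_g_rc_49_2 lc_g_rc_47_2 lc_g_rc_31_1 lc_g_rc_31_1 lc_g_rc_24_1 lc_g_rc_37_1 lc_g_rc_16_1 lc_g_rc_16_1 lc_g_rc_7_1 lc_g_rc_7_1 lc_g_rc_47_2 lc_g_rc_47_2 lc_g_rc_24_1 lc_g_rc_47_2 lc_g_rc_24_1 lc_g_rc_31_1 lc_g_rc_31_1 lc_g_rc_24_1 lc_g_rc_31_1 lc_g_rc_37_1 lc_g_rc_47_2 lc_g_rc_24_1) (@D3.rec (fun _ => (Cert rels S Gen.g)) lc_g_rc_31_1 lc_g_rc_31_1 lc_g_rc_7_3 lc_g_rc_24_1 lc_g_rc_16_1 lc_g_rc_47_2 lc_g_rc_31_1 lc_g_rc_24_1 lc_g_rc_7_1 lc_g_rc_31_1 lc_g_rc_24_1 lc_g_rc_37_1 lc_g_rc_16_1 lc_g_rc_7_3 lc_g_rc_31_1 lc_g_rc_37_1 lc_g_rc_44_1 lc_g_rc_37_1 lc_g_rc_37_1 lc_g_rc_44_1 lc_g_rc_16_3 lc_g_rc_31_1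 lc_g_rc_47_2 lc_g_rc_7_3 lc_g_rc_31_1 lc_g_rc_31_1 lc_g_rc_47_2 lc_g_rc_31_1 lc_g_rc_37_1 lc_g_rc_24_1 lc_g_rc_50_2 lc_g_rc_7_3 lc_g_rc_24_1 lc_g_rc_24_1 lc_g_rc_31_1 lc_g_rc_44_3 lc_g_rc_47_2 lc_g_rc_50_2 lc_g_rc_47_2 lc_g_rc_50_2 lc_g_rc_47_2 lc_g_rc_31_1 lc_g_rc_31_1 lc_g_rc_24_1 lc_g_rc_47_2 lc_g_rc_31_1 lc_g_rc_24_1 lc_g_rc_31_3 lc_g_rc_37_1 lc_g_rc_50_2 lc_g_rc_47_2) (@D3.rec (fun _ => (Cert rels S Gen.g)) lc_g_rc_16_3 lc_g_rc_31_1 lc_g_rc_50_2 lc_g_rc_24_1 lc_g_rc_50_2 lc_g_rc_47_2 lc_g_rc_31_1 lc_g_rc_47_2 lc_g_rc_31_1 lc_g_rc_24_1 lc_g_rc_50_2 lc_g_rc_16_1 lc_g_rc_16_1 lc_g_rc_50_2 lc_g_rc_47_2 lc_g_rc_50_2 lc_g_rc_47_2 lc_g_rc_31_1 lc_g_rc_24_1 lc_g_rc_24_1 lc_g_rc_31_1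 lc_g_rc_16_1 lc_g_rc_47_2 lc_g_rc_31_1 lc_g_rc_24_1 lc_g_rc_31_1 lc_g_rc_24_1 lc_g_rc_37_1 lc_g_rc_16_3 lc_g_rc_37_1 lc_g_rc_37_1 lc_g_rc_24_1 lc_g_rc_37_1 lc_g_rc_24_1 lc_g_rc_31_1 lc_g_rc_7_1 lc_g_rc_16_1 lc_g_rc_47_2 lc_g_rc_16_1 lc_g_rc_16_1 lc_g_rc_50_2 lc_g_rc_7_1 lc_g_rc_31_1 lc_g_rc_50_2 lc_g_rc_47_2 lc_g_rc_31_1 lc_g_rc_7_1 lc_g_rc_7_1 lc_g_rc_16_1 lc_g_rc_24_1 lc_g_rc_16_1) (@D3.rec (fun _ => (Cert rels S Gen.g)) lc_g_rc_16_1 lc_g_rc_50_2 lc_g_rc_24_1 lc_g_rc_24_1 lc_g_rc_50_2 lc_g_rc_47_2 lc_g_rc_31_1 lc_g_rc_37_1 lc_g_rc_47_2 lc_g_rc_31_1 lc_g_rc_24_1 lc_g_rc_47_2 lc_g_rc_50_2 lc_g_rc_47_2 lc_g_rc_31_1 lc_g_rc_7_1 lc_g_rc_50_2 lc_g_rc_47_2 lc_g_rc_31_1 lc_g_rc_50_2 lc_g_rc_47_2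 lc_g_rc_31_1 lc_g_rc_24_1 lc_g_rc_16_1 lc_g_rc_16_1 lc_g_rc_7_1 lc_g_rc_16_1 lc_g_rc_50_2 lc_g_rc_47_2 lc_g_rc_47_2 lc_g_rc_31_1 lc_g_rc_24_1 lc_g_rc_47_2 lc_g_rc_31_1 lc_g_rc_24_1 lc_g_rc_37_1 lc_g_rc_16_1 lc_g_rc_47_2 lc_g_rc_31_1 lc_g_rc_47_2 lc_g_rc_31_1 lc_g_rc_24_1 lc_g_rc_37_1 lc_g_rc_16_1 lc_g_rc_16_1 lc_g_rc_16_1 lc_g_rc_31_1 lc_g_rc_24_1 lc_g_rc_37_1 lc_g_rc_16_1 lc_g_rc_24_1) (@D3.rec (fun _ => (Cert rels S Gen.g)) lc_g_rc_24_1 lc_g_rc_16_1 lc_g_rc_47_2 lc_g_rc_50_2 lc_g_rc_47_2 lc_g_rc_31_1 lc_g_rc_37_1 lc_g_rc_47_2 lc_g_rc_31_1 lc_g_rc_24_1 lc_g_rc_37_1 lc_g_rc_31_1 lc_g_rc_16_3 lc_g_rc_31_1 lc_g_rc_50_2 lc_g_rc_44_1 lc_g_rc_47_2 lc_g_rc_16_1 lc_g_rc_31_1 lc_g_rc_24_1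 lc_g_rc_47_2 lc_g_rc_31_1 lc_g_rc_24_1 lc_g_rc_37_1 lc_g_rc_47_2 lc_g_rc_31_1 lc_g_rc_24_1 lc_g_rc_37_1 lc_g_rc_16_1 lc_g_rc_7_1 lc_g_rc_50_2 lc_g_rc_47_2 lc_g_rc_31_1 lc_g_rc_47_2 lc_g_rc_31_1 lc_g_rc_24_1 lc_g_rc_31_1 lc_g_rc_7_1 lc_g_rc_50_2 lc_g_rc_47_2 lc_g_rc_47_2 lc_g_rc_31_1 lc_g_rc_50_2 lc_g_rc_24_1 lc_g_rc_37_1 lc_g_rc_47_2 lc_g_rc_31_1 lc_g_rc_24_1 lc_g_rc_37_1 lc_g_rc_16_1 lc_g_rc_24_1) (@D3.rec (fun _ => (Cert rels S Gen.g)) lc_g_rc_31_1 lc_g_rc_31_1 lc_g_rc_24_1 lc_g_rc_37_1 lc_g_rc_16_1 lc_g_rc_24_1 lc_g_rc_7_1 lc_g_rc_31_1 lc_g_rc_47_2 lc_g_rc_31_1 lc_g_rc_24_1 lc_g_rc_37_1 lc_g_rc_31_1 lc_g_rc_24_1 lc_g_rc_37_1 lc_g_rc_16_1 lc_g_rc_24_1 lc_g_rc_7_1 lc_g_rc_24_1 lc_g_rc_37_1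 lc_g_rc_31_1 lc_g_rc_37_1 lc_g_rc_16_1 lc_g_rc_37_1 lc_g_rc_24_1 lc_g_rc_37_1 lc_g_rc_24_1 lc_g_rc_24_1 lc_g_rc_37_1 lc_g_rc_31_1 lc_g_rc_49_2 lc_g_rc_31_3 lc_g_rc_24_1 lc_g_rc_37_1 lc_g_rc_16_1 lc_g_rc_24_1 lc_g_rc_44_3 lc_g_rc_7_1 lc_g_rc_16_1 lc_g_rc_31_1 lc_g_rc_24_1 lc_g_rc_31_1 lc_g_rc_37_1 lc_g_rc_31_1 lc_g_rc_47_2 lc_g_rc_24_1 lc_g_rc_37_1 lc_g_rc_7_1 lc_g_rc_47_2 lc_g_rc_24_1 lc_g_rc_37_1) (@D3.rec (fun _ => (Cert rels S Gen.g)) lc_g_rc_7_1 lc_g_rc_24_1 lc_g_rc_16_1 lc_g_rc_24_1 lc_g_rc_24_1 lc_g_rc_31_1 lc_g_rc_24_1 lc_g_rc_31_1 lc_g_rc_47_2 lc_g_rc_24_1 lc_g_rc_24_1 lc_g_rc_31_1 lc_g_rc_49_2 lc_g_rc_24_1 lc_g_rc_37_1 lc_g_rc_16_1 lc_g_rc_47_2 lc_g_rc_47_2 lc_g_rc_47_2 lc_g_rc_31_1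 lc_g_rc_24_1 lc_g_rc_31_1 lc_g_rc_24_1 lc_g_rc_16_1 lc_g_rc_31_1 lc_g_rc_31_1 lc_g_rc_37_1 lc_g_rc_24_1 lc_g_rc_31_1 lc_g_rc_47_2 lc_g_rc_47_2 lc_g_rc_24_1 lc_g_rc_24_1 lc_g_rc_7_1 lc_g_rc_16_1 lc_g_rc_16_1 lc_g_rc_24_1 lc_g_rc_37_1 lc_g_rc_16_1 lc_g_rc_48_0 lc_g_rc_16_3 lc_g_rc_24_1 lc_g_rc_47_2 lc_g_rc_31_1 lc_g_rc_37_1 lc_g_rc_24_1 lc_g_rc_16_1 lc_g_rc_16_1 lc_g_rc_47_2 lc_g_rc_31_1 lc_g_rc_16_3) (@D3.rec (fun _ => (Cert rels S Gen.g)) lc_g_rc_31_1 lc_g_rc_16_1 lc_g_rc_31_1 lc_g_rc_7_1 lc_g_rc_47_2 lc_g_rc_24_1 lc_g_rc_31_1 lc_g_rc_37_1 lc_g_rc_7_1 lc_g_rc_24_1 lc_g_rc_44_1 lc_g_rc_31_1 lc_g_rc_37_1 lc_g_rc_47_2 lc_g_rc_47_2 lc_g_rc_31_1 lc_g_rc_24_1 lc_g_rc_37_1 lc_g_rc_37_1 lc_g_rc_24_1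 lc_g_rc_16_1 lc_g_rc_16_1 lc_g_rc_31_1 lc_g_Cert_tree lc_g_rc_24_1 lc_g_rc_37_1 lc_g_rc_31_1 lc_g_rc_37_1 lc_g_rc_37_1 lc_g_rc_49_2 lc_g_rc_24_1 lc_g_Cert_tree lc_g_rc_16_1 lc_g_rc_24_1 lc_g_rc_31_1 lc_g_rc_37_1 lc_g_rc_44_5 lc_g_rc_31_1 lc_g_rc_7_1 lc_g_rc_48_0 lc_g_rc_7_1 lc_g_rc_16_1 lc_g_rc_16_1 lc_g_rc_24_1 lc_g_rc_31_1 lc_g_rc_37_1 lc_g_rc_24_1 lc_g_rc_31_1 lc_g_rc_47_2 lc_g_rc_31_1 lc_g_rc_31_1) (@D3.rec (fun _ => (Cert rels S Gen.g)) lc_g_rc_50_2 lc_g_rc_24_1 lc_g_rc_50_2 lc_g_rc_49_2 lc_g_rc_47_2 lc_g_rc_31_1 lc_g_rc_37_1 lc_g_rc_24_1 lc_g_rc_16_1 lc_g_rc_37_1 lc_g_rc_16_1 lc_g_rc_16_1 lc_g_rc_44_3 lc_g_rc_50_2 lc_g_rc_47_2 lc_g_rc_31_1 lc_g_rc_24_1 lc_g_rc_37_1 lc_g_rc_31_1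 lc_g_rc_24_1 lc_g_rc_16_1 lc_g_rc_16_3 lc_g_rc_31_1 lc_g_rc_37_1 lc_g_rc_50_0 lc_g_rc_24_1 lc_g_rc_24_1 lc_g_rc_47_2 lc_g_rc_47_2 lc_g_rc_44_3 lc_g_rc_16_3 lc_g_rc_50_2 lc_g_rc_47_2 lc_g_rc_16_3 lc_g_rc_24_1 lc_g_rc_37_1 lc_g_Cert_tree lc_g_rc_24_1 lc_g_rc_16_1 lc_g_rc_37_1 lc_g_rc_7_1 lc_g_rc_44_3 lc_g_rc_16_1 lc_g_rc_16_1 lc_g_rc_47_2 lc_g_rc_31_1 lc_g_rc_24_1 lc_g_rc_16_1 lc_g_rc_47_2 lc_g_rc_47_2 lc_g_rc_31_1) (@D3.rec (fun _ => (Cert rels S Gen.g)) lc_g_rc_50_2 lc_g_rc_24_1 lc_g_rc_47_2 lc_g_rc_16_3 lc_g_rc_31_1 lc_g_rc_24_1 lc_g_rc_37_1 lc_g_rc_16_1 lc_g_rc_24_1 lc_g_rc_31_1 lc_g_rc_16_3 lc_g_rc_24_1 lc_g_rc_16_1 lc_g_rc_7_1 lc_g_rc_16_1 lc_g_rc_7_1 lc_g_rc_31_1 lc_g_rc_37_1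 lc_g_rc_48_0 lc_g_rc_31_1 lc_g_rc_37_1 lc_g_rc_31_1 lc_g_rc_37_1 lc_g_rc_16_3 lc_g_rc_50_2 lc_g_rc_7_3 lc_g_Cert_tree lc_g_rc_48_0 lc_g_rc_16_1 lc_g_rc_16_1 lc_g_rc_50_2 lc_g_rc_44_3 lc_g_rc_31_1 lc_g_rc_31_1 lc_g_rc_31_1 lc_g_rc_37_1 lc_g_rc_24_1 lc_g_rc_44_3 lc_g_rc_37_1 lc_g_rc_37_1 lc_g_rc_16_1 lc_g_rc_47_2 lc_g_rc_31_1 lc_g_rc_37_1 lc_g_rc_24_1 lc_g_rc_44_3 lc_g_rc_24_1 lc_g_rc_24_1 lc_g_rc_24_1 lc_g_rc_16_3 lc_g_rc_47_2) (@D3.rec (fun _ => (Cert rels S Gen.g)) lc_g_rc_31_1 lc_g_rc_24_1 lc_g_rc_37_1 lc_g_Cert_tree lc_g_rc_24_1 lc_g_rc_16_1 lc_g_rc_37_1 lc_g_rc_24_1 lc_g_rc_48_0 lc_g_rc_31_1 lc_g_rc_47_2 lc_g_rc_16_3 lc_g_rc_48_0 lc_g_rc_47_2 lc_g_rc_31_1 lc_g_rc_37_1 lc_g_rc_24_1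 lc_g_rc_31_1 lc_g_rc_24_1 lc_g_rc_24_1 lc_g_rc_37_1 lc_g_rc_37_1 lc_g_rc_16_1 lc_g_rc_16_1 lc_g_rc_16_1 lc_g_rc_50_2 lc_g_rc_47_2 lc_g_rc_24_1 lc_g_rc_37_1 lc_g_rc_24_3 lc_g_rc_16_1 lc_g_rc_24_1 lc_g_rc_31_1 lc_g_rc_37_1 lc_g_rc_7_1 lc_g_rc_24_1 lc_g_rc_44_1 lc_g_rc_47_2 lc_g_rc_24_1 lc_g_rc_37_1 lc_g_rc_16_1 lc_g_rc_7_1 lc_g_rc_37_1 lc_g_rc_16_1 lc_g_rc_31_1 lc_g_rc_24_1 lc_g_rc_16_1 lc_g_rc_50_0 lc_g_rc_50_2 lc_g_rc_24_1 lc_g_rc_47_2) (@D3.rec (fun _ => (Cert rels S Gen.g)) lc_g_rc_31_1 lc_g_rc_24_1 lc_g_rc_50_2 lc_g_rc_16_1 lc_g_rc_24_1 lc_g_Cert_tree lc_g_rc_48_0 lc_g_rc_24_1 lc_g_rc_16_1 lc_g_rc_7_1 lc_g_rc_16_1 lc_g_rc_50_2 lc_g_rc_7_3 lc_g_rc_31_1 lc_g_rc_24_1 lc_g_rc_16_1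 lc_g_rc_24_1 lc_g_rc_31_1 lc_g_rc_24_1 lc_g_rc_24_1 lc_g_rc_16_1 lc_g_rc_24_3 lc_g_rc_31_1 lc_g_rc_47_2 lc_g_rc_31_1 lc_g_rc_24_1 lc_g_rc_24_1 lc_g_rc_7_1 lc_g_rc_24_3 lc_g_rc_16_1 lc_g_rc_31_1 lc_g_rc_24_1 lc_g_rc_31_1 lc_g_rc_24_1 lc_g_rc_16_1 lc_g_rc_47_2 lc_g_rc_47_2 lc_g_rc_31_1 lc_g_rc_24_1 lc_g_rc_47_2 lc_g_rc_24_1 lc_g_rc_24_1 lc_g_rc_31_1 lc_g_rc_16_1 lc_g_rc_16_1 lc_g_rc_7_1 lc_g_rc_31_1 lc_g_rc_16_3 lc_g_rc_37_1 lc_g_rc_31_1 lc_g_rc_37_1) (@D3.rec (fun _ => (Cert rels S Gen.g)) lc_g_rc_24_1 lc_g_rc_24_1 lc_g_rc_16_1 lc_g_rc_31_1 lc_g_rc_31_1 lc_g_rc_24_1 lc_g_rc_31_1 lc_g_rc_24_1 lc_g_rc_16_1 lc_g_rc_31_1 lc_g_rc_16_1 lc_g_rc_24_1 lc_g_rc_50_2 lc_g_rc_24_1 lc_g_rc_16_1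 lc_g_rc_7_1 lc_g_rc_7_1 lc_g_rc_7_1 lc_g_rc_16_1 lc_g_rc_16_1 lc_g_rc_24_1 lc_g_rc_16_1 lc_g_rc_24_1 lc_g_rc_31_1 lc_g_rc_31_1 lc_g_rc_37_1 lc_g_rc_16_1 lc_g_rc_50_2 lc_g_rc_31_1 lc_g_rc_7_3 lc_g_rc_24_1 lc_g_rc_47_2 lc_g_rc_37_3 lc_g_rc_24_1 lc_g_rc_16_1 lc_g_rc_31_1 lc_g_rc_7_1 lc_g_rc_7_1 lc_g_rc_16_1 lc_g_rc_31_1 lc_g_rc_24_1 lc_g_rc_50_2 lc_g_rc_47_2 lc_g_rc_47_2 lc_g_rc_31_1 lc_g_rc_50_2 lc_g_rc_24_1 lc_g_rc_50_2 lc_g_rc_31_1 lc_g_rc_24_1 lc_g_rc_37_1) (@D3.rec (fun _ => (Cert rels S Gen.g)) lc_g_rc_16_1 lc_g_rc_7_3 lc_g_rc_24_1 lc_g_rc_16_1 lc_g_rc_7_1 lc_g_rc_24_1 lc_g_rc_24_1 lc_g_rc_37_1 lc_g_rc_50_2 lc_g_rc_37_1 lc_g_rc_7_1 lc_g_rc_24_1 lc_g_rc_31_1 lc_g_rc_24_1 lc_g_rc_37_1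 lc_g_rc_16_1 lc_g_rc_44_3 lc_g_rc_24_1 lc_g_rc_24_1 lc_g_rc_24_1 lc_g_rc_44_5 lc_g_rc_16_1 lc_g_rc_24_1 lc_g_Cert_tree lc_g_rc_48_0 lc_g_rc_31_1 lc_g_rc_24_1 lc_g_rc_16_1 lc_g_rc_7_1 lc_g_rc_31_1 lc_g_rc_7_1 lc_g_rc_31_1 lc_g_rc_24_1 lc_g_rc_37_1 lc_g_rc_16_1 lc_g_rc_47_2 lc_g_rc_31_1 lc_g_rc_31_1 lc_g_rc_24_1 lc_g_rc_37_1 lc_g_rc_24_1 lc_g_rc_16_1 lc_g_rc_47_2 lc_g_rc_24_1 lc_g_rc_37_1 lc_g_rc_16_1 lc_g_rc_24_1 lc_g_rc_31_1 lc_g_rc_7_1 lc_g_rc_16_1 lc_g_rc_24_1) (@D3.rec (fun _ => (Cert rels S Gen.g)) lc_g_rc_24_1 lc_g_rc_16_1 lc_g_rc_7_1 lc_g_rc_24_1 lc_g_rc_50_0 lc_g_Cert_tree lc_g_rc_48_0 lc_g_rc_37_1 lc_g_rc_37_1 lc_g_rc_49_2 lc_g_rc_7_1 lc_g_rc_7_1 lc_g_rc_7_1 lc_g_rc_7_1 lc_g_rc_24_1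 lc_g_rc_7_1 lc_g_rc_7_1 lc_g_rc_24_1 lc_g_rc_37_1 lc_g_rc_31_1 lc_g_rc_37_1 lc_g_rc_37_1 lc_g_rc_44_3 lc_g_rc_24_1 lc_g_rc_50_2 lc_g_rc_31_1 lc_g_rc_50_2 lc_g_rc_37_1 lc_g_rc_49_4 lc_g_rc_24_1 lc_g_rc_44_1 lc_g_rc_44_1 lc_g_rc_24_1 lc_g_rc_44_3 lc_g_rc_24_1 lc_g_rc_47_2 lc_g_rc_24_1 lc_g_rc_31_1 lc_g_rc_24_1 lc_g_rc_50_2 lc_g_rc_7_3 lc_g_rc_24_1 lc_g_rc_31_1 lc_g_rc_37_1 lc_g_rc_24_1 lc_g_rc_24_1 lc_g_rc_47_2 lc_g_rc_31_1 lc_g_rc_24_1 lc_g_rc_37_1 lc_g_rc_16_1) (@D3.rec (fun _ => (Cert rels S Gen.g)) lc_g_rc_37_1 lc_g_rc_16_1 lc_g_rc_37_1 lc_g_rc_16_1 lc_g_rc_37_1 lc_g_rc_50_2 lc_g_rc_7_1 lc_g_rc_50_2 lc_g_rc_16_1 lc_g_rc_24_1 lc_g_rc_24_1 lc_g_rc_24_1 lc_g_rc_31_1 lc_g_rc_44_1 lc_g_rc_47_2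 lc_g_rc_47_2 lc_g_rc_49_4 lc_g_rc_50_2 lc_g_rc_50_2 lc_g_rc_50_2 lc_g_rc_47_2 lc_g_rc_31_1 lc_g_rc_31_1 lc_g_rc_47_2 lc_g_rc_31_1 lc_g_rc_37_1 lc_g_rc_31_1 lc_g_rc_24_1 lc_g_rc_49_2 lc_g_rc_47_2 lc_g_rc_31_1 lc_g_rc_24_1 lc_g_rc_31_1 lc_g_rc_31_1 lc_g_rc_37_1 lc_g_rc_31_1 lc_g_rc_16_1 lc_g_rc_47_2 lc_g_rc_7_3 lc_g_rc_47_2 lc_g_rc_31_1 lc_g_rc_24_1 lc_g_rc_50_2 lc_g_rc_16_1 lc_g_rc_16_1 lc_g_rc_16_1 lc_g_rc_50_2 lc_g_rc_47_2 lc_g_rc_7_1 lc_g_rc_31_1 lc_g_rc_31_1) (@D3.rec (fun _ => (Cert rels S Gen.g)) lc_g_rc_24_1 lc_g_rc_37_1 lc_g_Cert_tree lc_g_rc_24_1 lc_g_rc_31_1 lc_g_rc_16_1 lc_g_rc_16_1 lc_g_rc_24_1 lc_g_rc_49_2 lc_g_Cert_tree lc_g_rc_31_1 lc_g_rc_24_1 lc_g_rc_37_1 lc_g_rc_16_3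 lc_g_rc_37_1 lc_g_rc_24_1 lc_g_rc_48_0 lc_g_rc_37_1 lc_g_rc_24_1 lc_g_rc_37_1 lc_g_rc_24_1 lc_g_rc_44_1 lc_g_rc_31_1 lc_g_Cert_tree lc_g_rc_16_1 lc_g_rc_31_1 lc_g_rc_37_1 lc_g_rc_31_1 lc_g_rc_37_1 lc_g_rc_31_1 lc_g_rc_48_0 lc_g_rc_16_1 lc_g_rc_31_1 lc_g_rc_24_1 lc_g_rc_47_2 lc_g_rc_50_2 lc_g_rc_47_2 lc_g_rc_47_2 lc_g_rc_31_1 lc_g_rc_31_1 lc_g_rc_47_2 lc_g_rc_31_1 lc_g_rc_37_1 lc_g_rc_31_1 lc_g_rc_24_1 lc_g_rc_37_1 lc_g_rc_47_2 lc_g_rc_47_2 lc_g_rc_7_3 lc_g_rc_47_2 lc_g_rc_31_1) (@D3.rec (fun _ => (Cert rels S Gen.g)) lc_g_rc_37_1 lc_g_rc_31_1 lc_g_rc_24_1 lc_g_rc_37_1 lc_g_rc_7_3 lc_g_rc_31_1 lc_g_rc_24_1 lc_g_rc_24_1 lc_g_rc_37_1 lc_g_rc_7_3 lc_g_rc_31_1 lc_g_rc_24_1 lc_g_rc_37_1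 lc_g_rc_16_1 lc_g_rc_31_1 lc_g_rc_37_1 lc_g_rc_37_1 lc_g_rc_50_2 lc_g_rc_16_1 lc_g_rc_24_1 lc_g_rc_50_2 lc_g_rc_50_2 lc_g_rc_50_2 lc_g_rc_50_2 lc_g_rc_47_2 lc_g_rc_7_1 lc_g_rc_7_1 lc_g_rc_7_1 lc_g_rc_16_1 lc_g_rc_16_1 lc_g_rc_24_1 lc_g_rc_50_2 lc_g_rc_31_1 lc_g_rc_37_1 lc_g_rc_7_3 lc_g_rc_24_1 lc_g_rc_50_2 lc_g_rc_47_2 lc_g_rc_31_1 lc_g_rc_16_1 lc_g_rc_31_1 lc_g_rc_47_2 lc_g_rc_31_1 lc_g_rc_37_1 lc_g_rc_47_2 lc_g_rc_31_1 lc_g_rc_24_1 lc_g_rc_16_1 lc_g_rc_16_1 lc_g_rc_16_1 lc_g_rc_7_1) (@D3.rec (fun _ => (Cert rels S Gen.g)) lc_g_rc_50_2 lc_g_rc_47_2 lc_g_rc_31_1 lc_g_rc_24_1 lc_g_rc_37_1 lc_g_rc_37_1 lc_g_rc_24_1 lc_g_rc_31_1 lc_g_rc_24_1 lc_g_rc_37_1 lc_g_rc_16_1 lc_g_rc_31_1 lc_g_rc_31_1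 lc_g_rc_7_3 lc_g_rc_37_1 lc_g_rc_24_3 lc_g_rc_37_1 lc_g_rc_37_1 lc_g_rc_24_3 lc_g_rc_47_2 lc_g_rc_31_1 lc_g_rc_24_1 lc_g_rc_44_1 lc_g_rc_7_1 lc_g_rc_31_1 lc_g_rc_37_1 lc_g_rc_24_1 lc_g_rc_37_1 lc_g_Cert_tree lc_g_rc_47_2 lc_g_rc_31_1 lc_g_rc_24_1 lc_g_rc_37_1 lc_g_rc_16_1 lc_g_rc_7_1 lc_g_rc_7_1 lc_g_rc_37_1 lc_g_rc_16_1 lc_g_rc_16_1 lc_g_rc_31_1 lc_g_rc_24_1 lc_g_rc_16_1 lc_g_rc_44_1 lc_g_rc_50_2 lc_g_rc_24_1 lc_g_rc_47_2 lc_g_rc_24_1 lc_g_rc_31_1 lc_g_rc_24_1 lc_g_rc_16_1 lc_g_rc_24_1) (@D3.rec (fun _ => (Cert rels S Gen.g)) lc_g_Cert_tree lc_g_rc_48_0 lc_g_rc_31_1 lc_g_rc_24_1 lc_g_rc_37_1 lc_g_rc_16_1 lc_g_rc_24_1 lc_g_rc_7_1 lc_g_rc_31_1 lc_g_rc_48_0 lc_g_rc_31_1 lc_g_rc_37_1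 lc_g_rc_7_3 lc_g_rc_7_3 lc_g_rc_37_1 lc_g_rc_16_1 lc_g_rc_31_1 lc_g_rc_37_1 lc_g_rc_44_3 lc_g_rc_7_3 lc_g_rc_44_1 lc_g_rc_31_1 lc_g_rc_44_1 lc_g_rc_44_1 lc_g_rc_16_1 lc_g_rc_16_1 lc_g_rc_50_2 lc_g_Cert_tree lc_g_rc_48_0 lc_g_rc_47_2 lc_g_rc_47_2 lc_g_rc_47_2 lc_g_rc_37_1 lc_g_rc_31_1 lc_g_rc_37_1 lc_g_rc_31_1 lc_g_rc_31_1 lc_g_rc_47_2 lc_g_rc_31_1 lc_g_rc_31_1 lc_g_rc_37_1 lc_g_rc_44_3 lc_g_rc_24_1 lc_g_rc_47_2 lc_g_rc_16_1 lc_g_rc_31_1 lc_g_rc_24_1 lc_g_rc_31_1 lc_g_rc_37_1 lc_g_rc_16_1 lc_g_rc_31_1) (@D3.rec (fun _ => (Cert rels S Gen.g)) lc_g_rc_47_2 lc_g_rc_44_3 lc_g_rc_47_2 lc_g_rc_31_1 lc_g_rc_37_1 lc_g_rc_47_2 lc_g_rc_31_1 lc_g_rc_24_1 lc_g_rc_31_1 lc_g_rc_31_1 lc_g_rc_24_1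 lc_g_rc_37_1 lc_g_rc_31_1 lc_g_rc_24_1 lc_g_rc_16_1 lc_g_rc_50_0 lc_g_rc_47_2 lc_g_rc_24_1 lc_g_rc_37_1 lc_g_rc_16_1 lc_g_rc_31_1 lc_g_rc_24_1 lc_g_rc_37_1 lc_g_rc_16_1 lc_g_rc_37_1 lc_g_rc_50_0 lc_g_rc_47_2 lc_g_rc_31_1 lc_g_rc_31_1 lc_g_rc_50_2 lc_g_rc_37_1 lc_g_rc_24_1 lc_g_rc_31_1 lc_g_rc_37_1 lc_g_rc_24_1 lc_g_rc_16_1 lc_g_rc_7_1 lc_g_rc_7_1 lc_g_rc_24_1 lc_g_rc_31_1 lc_g_rc_31_3 lc_g_rc_7_1 lc_g_rc_47_2 lc_g_rc_31_1 lc_g_rc_37_1 lc_g_rc_31_1 lc_g_rc_47_2 lc_g_rc_37_1 lc_g_rc_31_1 lc_g_rc_37_1 lc_g_rc_50_2) (@D3.rec (fun _ => (Cert rels S Gen.g)) lc_g_rc_24_1 lc_g_rc_44_3 lc_g_rc_24_1 lc_g_rc_50_2 lc_g_rc_31_1 lc_g_rc_47_0 lc_g_rc_47_2 lc_g_rc_31_1 lc_g_rc_24_1 lc_g_rc_47_0 lc_g_rc_44_1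 lc_g_rc_37_1 lc_g_rc_31_1 lc_g_rc_24_1 lc_g_rc_37_1 lc_g_rc_37_1 lc_g_rc_24_1 lc_g_rc_47_2 lc_g_rc_16_1 lc_g_rc_44_3 lc_g_rc_44_3 lc_g_rc_24_3 lc_g_rc_44_3 lc_g_rc_24_1 lc_g_rc_24_1 lc_g_rc_37_1 lc_g_rc_37_1 lc_g_rc_50_2 lc_g_rc_50_2 lc_g_rc_16_3 lc_g_rc_31_1 lc_g_rc_24_3 lc_g_rc_16_1 lc_g_rc_24_1 lc_g_rc_31_1 lc_g_rc_44_3 lc_g_rc_16_3 lc_g_rc_16_3 lc_g_rc_16_3 lc_g_rc_37_1 lc_g_rc_50_2 lc_g_rc_24_1 lc_g_rc_31_1 lc_g_rc_50_2 lc_g_rc_16_1 lc_g_rc_31_1 lc_g_rc_49_4 lc_g_rc_50_2 lc_g_rc_24_1 lc_g_rc_24_1 lc_g_rc_16_1)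
def ce_g_18 : D2 → D3 → (Cert rels S Gen.g) := @D2.rec (fun _ => D3 → (Cert rels S Gen.g)) (@D3.rec (fun _ => (Cert rels S Gen.g)) lc_g_rc_16_1 lc_g_rc_50_2 lc_g_rc_47_2 lc_g_rc_31_1 lc_g_rc_24_1 lc_g_rc_37_1 lc_g_rc_37_1 lc_g_rc_31_1 lc_g_rc_24_1 lc_g_rc_37_1 lc_g_rc_16_1 lc_g_rc_37_1 lc_g_rc_24_1 lc_g_rc_37_1 lc_g_rc_37_1 lc_g_rc_24_1 lc_g_rc_31_1 lc_g_rc_24_1 lc_g_rc_50_2 lc_g_rc_16_1 lc_g_rc_24_1 lc_g_rc_31_1 lc_g_rc_16_1 lc_g_rc_24_1 lc_g_rc_47_0 lc_g_rc_24_1 lc_g_rc_47_2 lc_g_rc_16_1 lc_g_rc_7_1 lc_g_rc_7_1 lc_g_rc_16_1 lc_g_rc_7_1 lc_g_rc_16_1 lc_g_rc_31_1 lc_g_rc_24_1 lc_g_rc_16_1 lc_g_rc_50_0 lc_g_rc_7_1 lc_g_rc_31_1 lc_g_rc_50_2 lc_g_rc_24_1 lc_g_rc_47_2 lc_g_rc_31_1 lc_g_rc_24_1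 lc_g_rc_37_1 lc_g_rc_16_1 lc_g_rc_24_1 lc_g_Cert_tree lc_g_rc_48_0 lc_g_rc_16_1 lc_g_rc_24_1) (@D3.rec (fun _ => (Cert rels S Gen.g)) lc_g_rc_37_1 lc_g_rc_16_1 lc_g_rc_24_1 lc_g_rc_7_1 lc_g_rc_37_1 lc_g_rc_37_1 lc_g_rc_44_1 lc_g_rc_37_1 lc_g_rc_7_3 lc_g_rc_37_1 lc_g_rc_50_2 lc_g_rc_31_1 lc_g_rc_31_1 lc_g_rc_47_2 lc_g_rc_31_1 lc_g_rc_37_1 lc_g_rc_31_1 lc_g_rc_31_1 lc_g_rc_16_1 lc_g_rc_50_2 lc_g_rc_50_2 lc_g_rc_47_2 lc_g_rc_47_2 lc_g_rc_24_1 lc_g_rc_31_1 lc_g_rc_31_1 lc_g_rc_37_1 lc_g_rc_24_1 lc_g_rc_31_1 lc_g_rc_24_1 lc_g_rc_24_1 lc_g_rc_31_1 lc_g_rc_16_1 lc_g_rc_16_1 lc_g_rc_16_1 lc_g_rc_31_1 lc_g_rc_16_1 lc_g_rc_47_2 lc_g_rc_24_1 lc_g_rc_31_3 lc_g_rc_31_1 lc_g_rc_16_3 lc_g_rc_24_1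 lc_g_rc_24_1 lc_g_rc_31_1 lc_g_rc_16_1 lc_g_rc_37_1 lc_g_rc_31_1 lc_g_rc_31_1 lc_g_rc_24_1 lc_g_rc_24_1) (@D3.rec (fun _ => (Cert rels S Gen.g)) lc_g_rc_37_3 lc_g_rc_16_3 lc_g_rc_16_1 lc_g_rc_24_1 lc_g_rc_24_1 lc_g_rc_24_1 lc_g_rc_16_1 lc_g_rc_31_1 lc_g_rc_24_1 lc_g_rc_37_1 lc_g_rc_16_1 lc_g_rc_24_1 lc_g_rc_7_1 lc_g_rc_37_1 lc_g_rc_31_1 lc_g_rc_44_3 lc_g_rc_44_1 lc_g_rc_16_3 lc_g_rc_24_1 lc_g_rc_31_1 lc_g_rc_31_1 lc_g_rc_37_1 lc_g_rc_24_1 lc_g_rc_47_2 lc_g_rc_24_1 lc_g_rc_31_1 lc_g_rc_16_1 lc_g_rc_24_3 lc_g_rc_7_3 lc_g_rc_24_1 lc_g_rc_31_1 lc_g_rc_37_1 lc_g_rc_44_3 lc_g_rc_24_1 lc_g_rc_24_3 lc_g_rc_31_1 lc_g_rc_47_2 lc_g_rc_31_1 lc_g_rc_24_1 lc_g_rc_24_1 lc_g_rc_31_1 lc_g_rc_16_1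 lc_g_rc_31_1 lc_g_rc_24_1 lc_g_rc_37_1 lc_g_rc_37_1 lc_g_rc_24_1 lc_g_rc_31_1 lc_g_rc_31_1 lc_g_rc_24_1 lc_g_rc_7_3) (@D3.rec (fun _ => (Cert rels S Gen.g)) lc_g_rc_31_1 lc_g_rc_47_2 lc_g_rc_31_1 lc_g_rc_24_1 lc_g_rc_31_1 lc_g_rc_24_1 lc_g_rc_37_1 lc_g_rc_16_1 lc_g_rc_16_1 lc_g_rc_16_1 lc_g_rc_24_1 lc_g_rc_50_2 lc_g_rc_47_2 lc_g_rc_50_2 lc_g_rc_24_1 lc_g_rc_24_1 lc_g_rc_31_1 lc_g_rc_16_1 lc_g_rc_16_1 lc_g_rc_24_1 lc_g_rc_7_1 lc_g_rc_31_1 lc_g_rc_24_1 lc_g_rc_37_1 lc_g_rc_24_1 lc_g_rc_37_1 lc_g_rc_24_1 lc_g_rc_37_1 lc_g_rc_31_1 lc_g_rc_24_1 lc_g_rc_7_1 lc_g_rc_47_2 lc_g_rc_31_1 lc_g_rc_31_1 lc_g_rc_16_1 lc_g_rc_7_3 lc_g_rc_31_1 lc_g_rc_47_2 lc_g_rc_31_1 lc_g_rc_24_1 lc_g_rc_7_1 lc_g_rc_7_1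 lc_g_rc_16_1 lc_g_rc_24_1 lc_g_rc_16_1 lc_g_rc_24_1 lc_g_rc_16_1 lc_g_rc_16_1 lc_g_rc_24_1 lc_g_rc_31_1 lc_g_rc_47_2) (@D3.rec (fun _ => (Cert rels S Gen.g)) lc_g_rc_31_1 lc_g_rc_31_1 lc_g_rc_37_1 lc_g_Cert_tree lc_g_rc_31_1 lc_g_rc_24_1 lc_g_rc_37_1 lc_g_rc_16_1 lc_g_rc_31_1 lc_g_rc_47_2 lc_g_rc_31_1 lc_g_rc_24_1 lc_g_rc_31_1 lc_g_rc_47_2 lc_g_rc_31_1 lc_g_rc_24_1 lc_g_rc_47_2 lc_g_rc_31_1 lc_g_rc_24_1 lc_g_rc_37_1 lc_g_rc_16_1 lc_g_rc_16_1 lc_g_rc_24_1 lc_g_rc_7_1 lc_g_rc_31_1 lc_g_rc_50_2 lc_g_rc_24_1 lc_g_rc_31_1 lc_g_rc_24_1 lc_g_rc_31_1 lc_g_rc_16_1 lc_g_rc_31_1 lc_g_rc_24_1 lc_g_rc_37_1 lc_g_rc_16_1 lc_g_rc_24_1 lc_g_rc_7_1 lc_g_rc_31_1 lc_g_rc_31_1 lc_g_rc_24_1 lc_g_rc_37_1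 lc_g_rc_16_1 lc_g_rc_24_1 lc_g_rc_24_1 lc_g_rc_37_1 lc_g_rc_24_1 lc_g_rc_16_1 lc_g_rc_31_1 lc_g_rc_31_1 lc_g_rc_31_1 lc_g_rc_47_2) (@D3.rec (fun _ => (Cert rels S Gen.g)) lc_g_rc_31_1 lc_g_rc_24_1 lc_g_rc_37_1 lc_g_rc_47_2 lc_g_rc_31_1 lc_g_rc_24_1 lc_g_rc_37_1 lc_g_rc_16_1 lc_g_rc_37_1 lc_g_rc_31_1 lc_g_rc_24_1 lc_g_rc_47_2 lc_g_rc_44_1 lc_g_rc_31_1 lc_g_rc_31_1 lc_g_rc_24_1 lc_g_rc_47_2 lc_g_rc_31_1 lc_g_rc_24_1 lc_g_rc_37_1 lc_g_rc_16_1 lc_g_rc_24_1 lc_g_rc_31_1 lc_g_rc_24_1 lc_g_rc_37_1 lc_g_rc_16_1 lc_g_rc_24_1 lc_g_rc_7_1 lc_g_rc_7_1 lc_g_rc_47_2 lc_g_rc_31_1 lc_g_rc_24_1 lc_g_rc_31_1 lc_g_rc_24_1 lc_g_rc_31_1 lc_g_rc_16_1 lc_g_rc_24_1 lc_g_rc_37_3 lc_g_rc_47_2 lc_g_rc_31_1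 lc_g_rc_31_1 lc_g_rc_24_1 lc_g_rc_37_1 lc_g_rc_24_1 lc_g_rc_47_2 lc_g_rc_16_1 lc_g_rc_24_1 lc_g_rc_47_2 lc_g_rc_31_1 lc_g_rc_24_1 lc_g_rc_37_1) (@D3.rec (fun _ => (Cert rels S Gen.g)) lc_g_rc_16_1 lc_g_rc_24_1 lc_g_rc_31_1 lc_g_rc_7_1 lc_g_rc_16_1 lc_g_rc_24_1 lc_g_rc_24_1 lc_g_rc_37_1 lc_g_rc_16_1 lc_g_rc_24_1 lc_g_rc_7_1 lc_g_rc_16_1 lc_g_rc_31_1 lc_g_rc_37_1 lc_g_rc_31_1 lc_g_rc_24_1 lc_g_rc_37_1 lc_g_rc_24_1 lc_g_rc_24_1 lc_g_rc_37_1 lc_g_rc_16_1 lc_g_rc_24_1 lc_g_rc_16_3 lc_g_rc_7_1 lc_g_rc_16_1 lc_g_rc_31_1 lc_g_rc_37_1 lc_g_rc_37_1 lc_g_rc_31_1 lc_g_rc_24_1 lc_g_rc_31_1 lc_g_rc_37_1 lc_g_rc_31_1 lc_g_rc_47_2 lc_g_rc_31_3 lc_g_rc_24_1 lc_g_rc_7_1 lc_g_rc_16_1 lc_g_rc_31_1 lc_g_rc_24_1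 lc_g_rc_7_1 lc_g_rc_16_1 lc_g_rc_47_2 lc_g_rc_24_1 lc_g_rc_47_2 lc_g_rc_31_1 lc_g_rc_16_1 lc_g_rc_44_1 lc_g_rc_50_2 lc_g_rc_24_1 lc_g_rc_47_0) (@D3.rec (fun _ => (Cert rels S Gen.g)) lc_g_rc_24_1 lc_g_rc_7_1 lc_g_rc_7_1 lc_g_rc_24_1 lc_g_rc_49_2 lc_g_rc_24_1 lc_g_rc_16_1 lc_g_rc_24_1 lc_g_rc_24_1 lc_g_rc_16_1 lc_g_rc_16_1 lc_g_rc_24_1 lc_g_rc_24_1 lc_g_rc_16_1 lc_g_rc_31_1 lc_g_rc_24_1 lc_g_rc_31_1 lc_g_rc_24_1 lc_g_rc_31_1 lc_g_rc_24_1 lc_g_rc_37_1 lc_g_rc_16_1 lc_g_rc_24_1 lc_g_rc_16_1 lc_g_rc_7_1 lc_g_rc_37_1 lc_g_rc_37_1 lc_g_rc_31_1 lc_g_rc_37_1 lc_g_rc_24_1 lc_g_rc_24_1 lc_g_rc_16_1 lc_g_rc_47_2 lc_g_rc_31_1 lc_g_rc_24_1 lc_g_rc_16_1 lc_g_rc_16_1 lc_g_rc_24_1 lc_g_rc_7_1 lc_g_rc_24_1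 lc_g_rc_16_1 lc_g_rc_47_2 lc_g_rc_24_1 lc_g_rc_37_1 lc_g_rc_16_1 lc_g_rc_16_1 lc_g_rc_31_1 lc_g_rc_31_1 lc_g_rc_37_1 lc_g_rc_7_1 lc_g_rc_24_1) (@D3.rec (fun _ => (Cert rels S Gen.g)) lc_g_rc_31_1 lc_g_rc_37_1 lc_g_rc_24_1 lc_g_rc_47_2 lc_g_rc_31_1 lc_g_rc_24_1 lc_g_rc_37_1 lc_g_Cert_tree lc_g_rc_24_1 lc_g_rc_16_1 lc_g_rc_44_1 lc_g_rc_24_1 lc_g_rc_31_1 lc_g_rc_37_1 lc_g_rc_7_3 lc_g_rc_24_1 lc_g_rc_44_5 lc_g_rc_24_1 lc_g_rc_31_1 lc_g_rc_16_1 lc_g_rc_24_1 lc_g_rc_31_1 lc_g_rc_16_1 lc_g_rc_7_1 lc_g_rc_7_1 lc_g_rc_24_3 lc_g_rc_48_0 lc_g_rc_37_1 lc_g_rc_24_1 lc_g_rc_7_1 lc_g_rc_49_2 lc_g_Cert_tree lc_g_rc_48_0 lc_g_rc_24_1 lc_g_rc_50_0 lc_g_rc_24_1 lc_g_rc_44_1 lc_g_rc_47_2 lc_g_rc_16_1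 lc_g_rc_24_1 lc_g_rc_16_1 lc_g_rc_31_1 lc_g_rc_31_1 lc_g_rc_37_1 lc_g_rc_16_1 lc_g_rc_47_2 lc_g_rc_31_1 lc_g_rc_37_1 lc_g_rc_24_1 lc_g_rc_24_1 lc_g_rc_50_2) (@D3.rec (fun _ => (Cert rels S Gen.g)) lc_g_rc_50_2 lc_g_rc_49_2 lc_g_rc_31_1 lc_g_rc_24_1 lc_g_rc_37_1 lc_g_rc_16_1 lc_g_rc_16_1 lc_g_rc_31_1 lc_g_rc_24_1 lc_g_rc_16_1 lc_g_rc_44_3 lc_g_rc_50_2 lc_g_rc_24_1 lc_g_rc_47_2 lc_g_rc_24_1 lc_g_rc_16_1 lc_g_rc_24_1 lc_g_rc_24_1 lc_g_rc_16_1 lc_g_rc_7_1 lc_g_rc_31_1 lc_g_rc_24_1 lc_g_rc_37_1 lc_g_rc_16_3 lc_g_rc_24_1 lc_g_rc_37_1 lc_g_rc_16_1 lc_g_rc_47_0 lc_g_rc_24_1 lc_g_rc_47_0 lc_g_rc_44_3 lc_g_rc_16_3 lc_g_rc_49_2 lc_g_rc_24_1 lc_g_rc_47_2 lc_g_rc_24_1 lc_g_rc_37_1 lc_g_rc_16_1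 lc_g_rc_24_1 lc_g_Cert_tree lc_g_rc_48_0 lc_g_rc_48_1 lc_g_rc_7_1 lc_g_rc_31_1 lc_g_rc_7_1 lc_g_rc_44_3 lc_g_rc_16_1 lc_g_rc_24_1 lc_g_rc_16_1 lc_g_rc_31_1 lc_g_rc_24_1) (@D3.rec (fun _ => (Cert rels S Gen.g)) lc_g_rc_31_1 lc_g_rc_16_1 lc_g_rc_24_1 lc_g_rc_31_1 lc_g_rc_44_3 lc_g_rc_24_1 lc_g_rc_37_1 lc_g_rc_24_1 lc_g_rc_50_2 lc_g_rc_16_1 lc_g_rc_24_1 lc_g_rc_37_3 lc_g_rc_31_1 lc_g_rc_24_1 lc_g_rc_37_1 lc_g_rc_16_1 lc_g_rc_24_1 lc_g_rc_7_1 lc_g_rc_16_1 lc_g_rc_24_1 lc_g_rc_24_1 lc_g_rc_16_1 lc_g_rc_7_1 lc_g_rc_16_1 lc_g_rc_37_1 lc_g_rc_37_1 lc_g_rc_44_5 lc_g_rc_7_3 lc_g_Cert_tree lc_g_rc_48_0 lc_g_rc_16_1 lc_g_rc_7_3 lc_g_rc_24_1 lc_g_rc_37_3 lc_g_rc_24_1 lc_g_rc_37_1 lc_g_rc_37_1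 lc_g_rc_16_1 lc_g_rc_24_1 lc_g_rc_47_2 lc_g_rc_24_1 lc_g_rc_37_1 lc_g_rc_50_2 lc_g_rc_16_1 lc_g_rc_50_2 lc_g_rc_24_1 lc_g_rc_31_1 lc_g_rc_31_1 lc_g_rc_24_1 lc_g_rc_47_2 lc_g_rc_31_1) (@D3.rec (fun _ => (Cert rels S Gen.g)) lc_g_rc_37_1 lc_g_rc_16_1 lc_g_rc_24_1 lc_g_Cert_tree lc_g_rc_48_0 lc_g_rc_16_1 lc_g_rc_7_1 lc_g_rc_24_1 lc_g_rc_16_3 lc_g_rc_16_3 lc_g_rc_47_2 lc_g_rc_24_1 lc_g_rc_37_1 lc_g_rc_16_1 lc_g_rc_24_1 lc_g_rc_16_1 lc_g_rc_16_1 lc_g_rc_24_1 lc_g_rc_50_0 lc_g_rc_7_1 lc_g_rc_24_1 lc_g_rc_16_1 lc_g_rc_24_1 lc_g_rc_50_2 lc_g_rc_24_1 lc_g_rc_47_2 lc_g_rc_16_1 lc_g_rc_24_1 lc_g_rc_31_1 lc_g_rc_7_1 lc_g_rc_24_1 lc_g_rc_37_1 lc_g_rc_24_1 lc_g_rc_37_1 lc_g_rc_16_1 lc_g_rc_24_1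 lc_g_rc_44_3 lc_g_rc_16_1 lc_g_rc_24_1 lc_g_rc_7_1 lc_g_rc_7_1 lc_g_rc_50_0 lc_g_rc_24_1 lc_g_rc_16_1 lc_g_rc_44_3 lc_g_rc_16_1 lc_g_rc_24_1 lc_g_rc_31_1 lc_g_rc_24_1 lc_g_rc_50_2 lc_g_rc_16_1) (@D3.rec (fun _ => (Cert rels S Gen.g)) lc_g_rc_24_1 lc_g_rc_24_1 lc_g_rc_16_1 lc_g_rc_24_1 lc_g_rc_7_1 lc_g_rc_16_1 lc_g_Cert_tree lc_g_rc_48_0 lc_g_rc_16_1 lc_g_rc_7_1 lc_g_rc_44_3 lc_g_rc_24_1 lc_g_rc_16_1 lc_g_rc_7_1 lc_g_rc_16_1 lc_g_rc_24_1 lc_g_rc_16_1 lc_g_rc_16_1 lc_g_rc_7_1 lc_g_rc_31_1 lc_g_rc_24_1 lc_g_rc_31_1 lc_g_rc_24_1 lc_g_rc_37_1 lc_g_rc_16_1 lc_g_rc_31_1 lc_g_rc_24_1 lc_g_rc_31_1 lc_g_rc_24_1 lc_g_rc_37_3 lc_g_rc_16_3 lc_g_rc_16_1 lc_g_rc_24_1 lc_g_rc_16_1 lc_g_rc_7_1 lc_g_rc_47_2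 lc_g_rc_24_1 lc_g_rc_24_1 lc_g_rc_31_1 lc_g_rc_16_1 lc_g_rc_24_1 lc_g_rc_47_2 lc_g_rc_16_1 lc_g_rc_16_1 lc_g_rc_24_1 lc_g_rc_7_1 lc_g_rc_7_1 lc_g_rc_37_1 lc_g_rc_31_1 lc_g_rc_37_1 lc_g_rc_16_1) (@D3.rec (fun _ => (Cert rels S Gen.g)) lc_g_rc_47_2 lc_g_rc_7_1 lc_g_rc_24_1 lc_g_rc_31_1 lc_g_rc_37_1 lc_g_rc_16_1 lc_g_rc_24_1 lc_g_rc_16_1 lc_g_rc_7_1 lc_g_rc_24_1 lc_g_rc_24_1 lc_g_rc_16_1 lc_g_rc_24_1 lc_g_rc_16_1 lc_g_rc_7_1 lc_g_rc_7_1 lc_g_rc_7_1 lc_g_rc_16_1 lc_g_rc_24_1 lc_g_rc_16_1 lc_g_rc_24_1 lc_g_rc_31_1 lc_g_rc_31_1 lc_g_rc_7_1 lc_g_rc_16_1 lc_g_rc_37_1 lc_g_rc_7_1 lc_g_rc_7_1 lc_g_rc_24_1 lc_g_rc_24_1 lc_g_rc_37_1 lc_g_rc_16_1 lc_g_rc_24_1 lc_g_rc_24_1 lc_g_rc_16_1 lc_g_rc_7_1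 lc_g_rc_24_1 lc_g_rc_31_1 lc_g_rc_31_1 lc_g_rc_24_1 lc_g_rc_24_1 lc_g_rc_31_1 lc_g_rc_16_1 lc_g_rc_47_2 lc_g_rc_31_1 lc_g_rc_31_1 lc_g_rc_24_1 lc_g_rc_37_1 lc_g_rc_24_1 lc_g_rc_16_1 lc_g_rc_50_2) (@D3.rec (fun _ => (Cert rels S Gen.g)) lc_g_rc_24_1 lc_g_rc_37_1 lc_g_rc_16_1 lc_g_rc_24_1 lc_g_rc_7_1 lc_g_rc_24_1 lc_g_rc_16_1 lc_g_rc_7_1 lc_g_rc_37_1 lc_g_rc_50_2 lc_g_rc_24_1 lc_g_rc_7_1 lc_g_rc_16_1 lc_g_rc_24_1 lc_g_rc_37_1 lc_g_rc_16_1 lc_g_rc_24_1 lc_g_rc_7_1 lc_g_rc_24_1 lc_g_rc_44_5 lc_g_rc_50_0 lc_g_rc_44_3 lc_g_rc_48_1 lc_g_rc_24_1 lc_g_Cert_tree lc_g_rc_7_1 lc_g_rc_44_5 lc_g_Cert_tree lc_g_rc_48_0 lc_g_rc_24_1 lc_g_rc_16_1 lc_g_rc_7_1 lc_g_rc_24_1 lc_g_rc_16_1 lc_g_rc_24_1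 lc_g_rc_37_1 lc_g_rc_16_1 lc_g_rc_24_1 lc_g_rc_7_1 lc_g_rc_31_1 lc_g_rc_24_1 lc_g_rc_37_1 lc_g_rc_24_1 lc_g_rc_37_1 lc_g_rc_16_1 lc_g_rc_24_1 lc_g_rc_16_1 lc_g_rc_7_1 lc_g_rc_24_1 lc_g_rc_47_2 lc_g_rc_16_1) (@D3.rec (fun _ => (Cert rels S Gen.g)) lc_g_rc_24_1 lc_g_rc_44_3 lc_g_rc_7_1 lc_g_rc_16_1 lc_g_rc_24_1 lc_g_rc_7_1 lc_g_rc_16_1 lc_g_rc_16_1 lc_g_rc_7_1 lc_g_rc_24_1 lc_g_rc_48_0 lc_g_rc_7_1 lc_g_rc_7_1 lc_g_rc_44_1 lc_g_rc_37_1 lc_g_rc_47_2 lc_g_rc_50_2 lc_g_rc_24_1 lc_g_rc_50_2 lc_g_rc_16_1 lc_g_rc_24_1 lc_g_rc_31_1 lc_g_rc_24_1 lc_g_rc_24_1 lc_g_rc_47_2 lc_g_rc_16_1 lc_g_rc_24_1 lc_g_rc_24_1 lc_g_rc_24_1 lc_g_rc_16_1 lc_g_rc_24_1 lc_g_rc_24_1 lc_g_rc_37_1 lc_g_rc_16_1 lc_g_rc_37_1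 lc_g_rc_44_5 lc_g_rc_16_1 lc_g_rc_47_2 lc_g_rc_24_1 lc_g_rc_37_1 lc_g_rc_16_1 lc_g_rc_24_1 lc_g_rc_7_1 lc_g_rc_16_1 lc_g_rc_50_2 lc_g_rc_37_1 lc_g_rc_7_3 lc_g_rc_7_1 lc_g_rc_16_1 lc_g_rc_16_1 lc_g_rc_24_1) (@D3.rec (fun _ => (Cert rels S Gen.g)) lc_g_rc_24_1 lc_g_rc_31_1 lc_g_rc_37_1 lc_g_rc_44_1 lc_g_rc_24_1 lc_g_rc_31_1 lc_g_rc_49_4 lc_g_rc_49_4 lc_g_rc_7_3 lc_g_rc_47_2 lc_g_rc_31_1 lc_g_rc_24_1 lc_g_rc_47_2 lc_g_rc_47_2 lc_g_rc_24_1 lc_g_rc_31_1 lc_g_rc_37_1 lc_g_rc_24_1 lc_g_rc_31_1 lc_g_rc_16_1 lc_g_Cert_tree lc_g_rc_31_1 lc_g_rc_24_1 lc_g_rc_37_1 lc_g_rc_37_1 lc_g_rc_24_1 lc_g_rc_31_1 lc_g_rc_24_1 lc_g_rc_47_2 lc_g_Cert_tree lc_g_rc_31_1 lc_g_rc_24_1 lc_g_rc_37_1 lc_g_rc_16_1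 lc_g_rc_16_1 lc_g_rc_31_1 lc_g_rc_24_1 lc_g_rc_16_1 lc_g_rc_50_2 lc_g_rc_47_2 lc_g_rc_31_1 lc_g_rc_24_1 lc_g_rc_37_1 lc_g_rc_24_1 lc_g_rc_31_1 lc_g_rc_16_1 lc_g_rc_24_1 lc_g_Cert_tree lc_g_rc_48_0 lc_g_rc_16_1 lc_g_rc_24_1) (@D3.rec (fun _ => (Cert rels S Gen.g)) lc_g_rc_7_1 lc_g_rc_24_1 lc_g_rc_16_1 lc_g_Cert_tree lc_g_rc_48_0 lc_g_rc_24_1 lc_g_rc_37_1 lc_g_rc_24_1 lc_g_rc_37_1 lc_g_rc_37_1 lc_g_rc_31_1 lc_g_rc_24_1 lc_g_rc_44_3 lc_g_rc_31_1 lc_g_rc_47_2 lc_g_rc_48_0 lc_g_rc_31_1 lc_g_rc_37_1 lc_g_rc_37_1 lc_g_rc_31_3 lc_g_rc_16_1 lc_g_rc_24_1 lc_g_rc_47_2 lc_g_rc_31_1 lc_g_rc_16_1 lc_g_rc_31_1 lc_g_rc_31_1 lc_g_rc_50_2 lc_g_rc_24_1 lc_g_rc_47_2 lc_g_rc_24_1 lc_g_rc_31_1 lc_g_rc_24_1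 lc_g_rc_31_1 lc_g_rc_16_1 lc_g_rc_47_2 lc_g_rc_7_1 lc_g_rc_24_1 lc_g_rc_47_2 lc_g_rc_24_1 lc_g_rc_37_1 lc_g_rc_24_1 lc_g_rc_31_1 lc_g_rc_16_1 lc_g_rc_31_1 lc_g_rc_24_1 lc_g_rc_16_1 lc_g_rc_16_1 lc_g_rc_24_1 lc_g_rc_31_1 lc_g_rc_24_1) (@D3.rec (fun _ => (Cert rels S Gen.g)) lc_g_rc_37_1 lc_g_rc_16_1 lc_g_rc_24_1 lc_g_rc_7_1 lc_g_rc_37_1 lc_g_rc_16_1 lc_g_rc_16_1 lc_g_rc_24_1 lc_g_rc_24_3 lc_g_rc_50_2 lc_g_rc_50_2 lc_g_rc_47_2 lc_g_rc_31_1 lc_g_rc_24_1 lc_g_rc_7_1 lc_g_rc_31_1 lc_g_rc_16_1 lc_g_rc_24_1 lc_g_rc_16_1 lc_g_rc_31_1 lc_g_rc_7_3 lc_g_rc_31_1 lc_g_rc_37_1 lc_g_Cert_tree lc_g_rc_24_1 lc_g_rc_37_1 lc_g_rc_16_1 lc_g_rc_47_2 lc_g_rc_31_1 lc_g_rc_24_1 lc_g_rc_31_1 lc_g_rc_37_1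 lc_g_rc_47_2 lc_g_rc_24_1 lc_g_rc_37_1 lc_g_rc_44_3 lc_g_rc_31_1 lc_g_rc_24_1 lc_g_rc_37_1 lc_g_rc_16_1 lc_g_rc_16_1 lc_g_rc_24_1 lc_g_rc_16_1 lc_g_rc_31_1 lc_g_rc_50_2 lc_g_rc_24_1 lc_g_rc_47_2 lc_g_rc_24_1 lc_g_rc_16_1 lc_g_rc_24_1 lc_g_rc_31_1) (@D3.rec (fun _ => (Cert rels S Gen.g)) lc_g_rc_31_1 lc_g_rc_24_1 lc_g_rc_37_1 lc_g_rc_16_1 lc_g_rc_24_1 lc_g_rc_7_1 lc_g_rc_37_1 lc_g_rc_7_3 lc_g_rc_44_5 lc_g_rc_31_1 lc_g_rc_24_3 lc_g_rc_31_1 lc_g_rc_24_1 lc_g_rc_37_1 lc_g_rc_16_1 lc_g_rc_44_1 lc_g_rc_44_1 lc_g_rc_24_1 lc_g_rc_37_1 lc_g_rc_44_1 lc_g_rc_44_5 lc_g_rc_24_1 lc_g_Cert_tree lc_g_rc_48_0 lc_g_rc_31_1 lc_g_rc_24_1 lc_g_rc_37_1 lc_g_rc_16_1 lc_g_rc_24_1 lc_g_rc_7_1 lc_g_rc_31_1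 lc_g_rc_7_1 lc_g_rc_31_1 lc_g_rc_16_1 lc_g_rc_24_1 lc_g_rc_16_1 lc_g_rc_24_1 lc_g_rc_16_1 lc_g_rc_24_1 lc_g_rc_31_1 lc_g_rc_24_1 lc_g_rc_50_2 lc_g_rc_16_1 lc_g_rc_24_1 lc_g_Cert_tree lc_g_rc_31_1 lc_g_rc_24_1 lc_g_rc_16_1 lc_g_rc_7_1 lc_g_rc_16_1 lc_g_Cert_tree) (@D3.rec (fun _ => (Cert rels S Gen.g)) lc_g_rc_48_0 lc_g_rc_24_1 lc_g_rc_37_1 lc_g_rc_16_1 lc_g_rc_24_1 lc_g_rc_7_1 lc_g_rc_16_1 lc_g_rc_24_1 lc_g_rc_37_1 lc_g_rc_44_3 lc_g_rc_7_3 lc_g_rc_7_3 lc_g_rc_31_1 lc_g_rc_44_1 lc_g_rc_44_1 lc_g_rc_16_1 lc_g_rc_48_0 lc_g_rc_31_1 lc_g_rc_24_1 lc_g_rc_31_1 lc_g_rc_31_1 lc_g_rc_37_1 lc_g_rc_31_1 lc_g_rc_24_1 lc_g_rc_37_1 lc_g_rc_31_1 lc_g_rc_24_1 lc_g_rc_24_1 lc_g_rc_37_1 lc_g_rc_24_1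 lc_g_rc_44_3 lc_g_rc_16_1 lc_g_rc_16_1 lc_g_rc_16_1 lc_g_rc_16_1 lc_g_rc_37_1 lc_g_rc_31_1 lc_g_rc_24_1 lc_g_rc_44_1 lc_g_rc_31_1 lc_g_rc_49_2 lc_g_rc_47_2 lc_g_rc_24_1 lc_g_rc_37_1 lc_g_rc_37_1 lc_g_rc_31_1 lc_g_rc_24_1 lc_g_rc_37_1 lc_g_rc_16_1 lc_g_rc_37_1 lc_g_rc_24_1) (@D3.rec (fun _ => (Cert rels S Gen.g)) lc_g_rc_24_1 lc_g_rc_16_1 lc_g_rc_24_1 lc_g_rc_47_0 lc_g_rc_24_1 lc_g_rc_47_2 lc_g_rc_16_1 lc_g_rc_24_1 lc_g_rc_16_1 lc_g_rc_24_1 lc_g_rc_37_1 lc_g_rc_16_1 lc_g_rc_24_1 lc_g_rc_7_1 lc_g_rc_31_1 lc_g_rc_37_1 lc_g_rc_44_1 lc_g_rc_16_1 lc_g_rc_16_1 lc_g_rc_31_1 lc_g_rc_31_1 lc_g_rc_37_1 lc_g_rc_16_1 lc_g_rc_31_1 lc_g_rc_24_1 lc_g_rc_24_1 lc_g_rc_31_1 lc_g_rc_24_1 lc_g_rc_7_1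 lc_g_rc_24_1 lc_g_rc_31_1 lc_g_rc_49_4 lc_g_rc_50_2 lc_g_rc_37_1 lc_g_rc_47_2 lc_g_rc_31_1 lc_g_rc_24_1 lc_g_rc_37_1 lc_g_rc_37_1 lc_g_rc_24_1 lc_g_rc_50_2 lc_g_rc_16_1 lc_g_rc_24_1 lc_g_rc_24_1 lc_g_rc_24_1 lc_g_rc_31_1 lc_g_rc_24_1 lc_g_rc_16_1 lc_g_rc_24_1 lc_g_rc_47_0 lc_g_rc_37_1) (@D3.rec (fun _ => (Cert rels S Gen.g)) lc_g_rc_37_1 lc_g_rc_31_1 lc_g_rc_31_1 lc_g_rc_16_1 lc_g_rc_24_1 lc_g_rc_50_2 lc_g_rc_16_1 lc_g_rc_24_1 lc_g_rc_7_1 lc_g_rc_50_0 lc_g_rc_37_1 lc_g_rc_31_1 lc_g_rc_24_1 lc_g_rc_24_1 lc_g_rc_7_1 lc_g_rc_31_1 lc_g_rc_31_1 lc_g_rc_24_1 lc_g_rc_47_0 lc_g_rc_31_1 lc_g_rc_37_1 lc_g_rc_44_3 lc_g_rc_16_3 lc_g_rc_31_1 lc_g_rc_24_1 lc_g_rc_37_1 lc_g_Cert_tree lc_g_rc_24_1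 lc_g_rc_37_1 lc_g_rc_47_2 lc_g_rc_24_1 lc_g_rc_24_1 lc_g_rc_31_1 lc_g_rc_37_3 lc_g_rc_50_2 lc_g_rc_24_1 lc_g_rc_50_2 lc_g_rc_16_1 lc_g_rc_7_1 lc_g_rc_24_1 lc_g_rc_16_1 lc_g_rc_24_1 lc_g_rc_50_2 lc_g_rc_24_1 lc_g_rc_47_2 lc_g_rc_24_1 lc_g_rc_50_2 lc_g_rc_16_1 lc_g_rc_24_1 lc_g_rc_44_3 lc_g_rc_24_1) (@D3.rec (fun _ => (Cert rels S Gen.g)) lc_g_rc_37_1 lc_g_rc_16_1 lc_g_rc_24_1 lc_g_rc_7_1 lc_g_rc_31_1 lc_g_rc_44_3 lc_g_rc_16_1 lc_g_rc_16_1 lc_g_rc_24_1 lc_g_rc_16_1 lc_g_rc_31_1 lc_g_rc_24_1 lc_g_rc_37_1 lc_g_rc_24_1 lc_g_rc_16_1 lc_g_rc_16_1 lc_g_rc_24_1 lc_g_rc_16_1 lc_g_rc_24_1 lc_g_rc_7_1 lc_g_rc_31_1 lc_g_rc_7_1 lc_g_rc_31_1 lc_g_rc_31_1 lc_g_rc_24_1 lc_g_rc_16_1 lc_g_rc_24_1 lc_g_rc_31_1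 lc_g_rc_16_1 lc_g_rc_24_1 lc_g_rc_50_0 lc_g_rc_7_1 lc_g_rc_24_1 lc_g_rc_37_1 lc_g_rc_24_1 lc_g_rc_50_2 lc_g_rc_16_1 lc_g_rc_24_1 lc_g_Cert_tree lc_g_rc_24_1 lc_g_rc_37_1 lc_g_rc_16_1 lc_g_rc_24_1 lc_g_rc_37_3 lc_g_rc_7_1 lc_g_rc_16_1 lc_g_Cert_tree lc_g_rc_48_0 lc_g_rc_37_3 lc_g_rc_16_1 lc_g_rc_24_1) (@D3.rec (fun _ => (Cert rels S Gen.g)) lc_g_rc_7_1 lc_g_rc_16_1 lc_g_rc_24_1 lc_g_rc_7_1 lc_g_rc_7_3 lc_g_rc_7_3 lc_g_rc_47_2 lc_g_rc_24_1 lc_g_rc_47_2 lc_g_rc_50_2 lc_g_rc_37_1 lc_g_rc_37_1 lc_g_rc_50_2 lc_g_rc_50_2 lc_g_rc_47_0 lc_g_rc_24_1 lc_g_rc_49_4 lc_g_rc_24_1 lc_g_rc_31_1 lc_g_rc_16_1 lc_g_rc_24_1 lc_g_rc_16_1 lc_g_rc_16_1 lc_g_rc_24_1 lc_g_rc_7_1 lc_g_rc_16_1 lc_g_rc_24_1 lc_g_rc_24_1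 lc_g_rc_16_1 lc_g_rc_31_3 lc_g_rc_24_1 lc_g_rc_47_2 lc_g_rc_16_1 lc_g_rc_16_1 lc_g_rc_24_1 lc_g_rc_24_1 lc_g_rc_37_1 lc_g_rc_16_1 lc_g_rc_16_1 lc_g_rc_24_1 lc_g_rc_7_1 lc_g_rc_24_1 lc_g_rc_24_1 lc_g_rc_16_1 lc_g_rc_16_1 lc_g_rc_16_1 lc_g_rc_7_3 lc_g_rc_24_1 lc_g_rc_7_1 lc_g_rc_16_1 lc_g_rc_16_1) (@D3.rec (fun _ => (Cert rels S Gen.g)) lc_g_rc_16_1 lc_g_rc_7_1 lc_g_rc_24_1 lc_g_rc_37_1 lc_g_rc_16_1 lc_g_rc_24_1 lc_g_rc_7_1 lc_g_rc_16_1 lc_g_rc_24_1 lc_g_rc_50_0 lc_g_rc_37_1 lc_g_rc_24_1 lc_g_rc_16_1 lc_g_rc_24_1 lc_g_rc_24_1 lc_g_rc_37_1 lc_g_rc_16_1 lc_g_rc_24_1 lc_g_rc_47_2 lc_g_rc_16_1 lc_g_rc_24_1 lc_g_rc_7_1 lc_g_rc_31_1 lc_g_rc_24_1 lc_g_rc_31_1 lc_g_rc_31_1 lc_g_rc_37_1 lc_g_Cert_tree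 lc_g_rc_24_1 lc_g_rc_47_2 lc_g_rc_16_1 lc_g_rc_31_1 lc_g_rc_24_1 lc_g_rc_31_1 lc_g_rc_24_1 lc_g_rc_37_1 lc_g_rc_16_1 lc_g_rc_16_1 lc_g_rc_24_1 lc_g_rc_7_1 lc_g_rc_24_1 lc_g_rc_37_1 lc_g_rc_24_1 lc_g_rc_31_1 lc_g_rc_31_1 lc_g_rc_24_1 lc_g_rc_47_2 lc_g_rc_37_1 lc_g_rc_16_1 lc_g_rc_31_1 lc_g_rc_24_1) (@D3.rec (fun _ => (Cert rels S Gen.g)) lc_g_rc_31_1 lc_g_rc_24_1 lc_g_rc_37_1 lc_g_rc_16_1 lc_g_rc_24_1 lc_g_rc_37_1 lc_g_rc_16_1 lc_g_rc_24_1 lc_g_rc_7_1 lc_g_rc_31_1 lc_g_rc_24_1 lc_g_rc_16_1 lc_g_rc_50_2 lc_g_rc_24_1 lc_g_rc_47_2 lc_g_rc_24_1 lc_g_rc_16_1 lc_g_rc_16_1 lc_g_rc_24_1 lc_g_rc_7_1 lc_g_rc_7_1 lc_g_rc_16_1 lc_g_rc_24_1 lc_g_rc_24_1 lc_g_rc_37_1 lc_g_rc_24_1 lc_g_rc_24_1 lc_g_rc_16_1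 lc_g_rc_31_1 lc_g_rc_31_1 lc_g_rc_47_2 lc_g_rc_24_1 lc_g_rc_50_2 lc_g_rc_24_1 lc_g_rc_31_1 lc_g_rc_31_1 lc_g_rc_31_1 lc_g_rc_31_1 lc_g_rc_24_1 lc_g_rc_37_1 lc_g_rc_16_1 lc_g_rc_7_1 lc_g_rc_7_1 lc_g_rc_7_1 lc_g_rc_16_1 lc_g_rc_31_1 lc_g_rc_24_1 lc_g_rc_16_1 lc_g_rc_24_1 lc_g_Cert_tree lc_g_rc_31_1)
def ce_g_19 : D2 → D3 → (Cert rels S Gen.g) := @D2.rec (fun _ => D3 → (Cert rels S Gen.g)) (@D3.rec (fun _ => (Cert rels S Gen.g)) lc_g_rc_31_1 lc_g_rc_31_1 lc_g_rc_31_1 lc_g_rc_24_1 lc_g_rc_37_1 lc_g_rc_16_1 lc_g_rc_37_1 lc_g_Cert_tree lc_g_rc_48_0 lc_g_rc_24_1 lc_g_rc_37_1 lc_g_rc_16_1 lc_g_rc_24_1 lc_g_rc_7_1 lc_g_rc_24_1 lc_g_rc_31_1 lc_g_rc_24_1 lc_g_rc_37_1 lc_g_rc_16_1 lc_g_rc_24_1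 lc_g_rc_31_1 lc_g_rc_24_1 lc_g_rc_16_1 lc_g_rc_31_1 lc_g_rc_24_1 lc_g_rc_37_1 lc_g_rc_16_1 lc_g_rc_24_1 lc_g_rc_7_1 lc_g_rc_24_1 lc_g_rc_16_1 lc_g_rc_31_1 lc_g_rc_44_3 lc_g_rc_24_1 lc_g_rc_16_1 lc_g_rc_24_1 lc_g_rc_16_1 lc_g_rc_24_1 lc_g_rc_7_1 lc_g_rc_24_1 lc_g_rc_37_1 lc_g_rc_16_1 lc_g_rc_24_1 lc_g_rc_7_1 lc_g_rc_16_1 lc_g_rc_31_1 lc_g_rc_24_1 lc_g_rc_37_1 lc_g_rc_16_1 lc_g_rc_24_1 lc_g_rc_31_3) (@D3.rec (fun _ => (Cert rels S Gen.g)) lc_g_rc_16_1 lc_g_rc_31_1 lc_g_rc_24_1 lc_g_rc_31_1 lc_g_rc_31_1 lc_g_rc_47_2 lc_g_rc_24_1 lc_g_rc_24_1 lc_g_rc_31_1 lc_g_rc_24_1 lc_g_rc_37_1 lc_g_rc_16_1 lc_g_rc_24_1 lc_g_rc_44_3 lc_g_rc_24_1 lc_g_rc_37_1 lc_g_rc_16_1 lc_g_rc_24_1 lc_g_rc_7_1 lc_g_rc_24_1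 lc_g_rc_24_1 lc_g_rc_37_1 lc_g_rc_16_1 lc_g_rc_31_1 lc_g_rc_44_1 lc_g_rc_24_1 lc_g_rc_37_1 lc_g_rc_24_1 lc_g_rc_16_1 lc_g_rc_31_1 lc_g_rc_24_1 lc_g_rc_37_1 lc_g_rc_16_1 lc_g_rc_24_1 lc_g_rc_7_1 lc_g_rc_16_1 lc_g_rc_24_1 lc_g_rc_37_1 lc_g_rc_16_1 lc_g_rc_24_1 lc_g_rc_47_2 lc_g_rc_7_1 lc_g_rc_16_1 lc_g_rc_31_1 lc_g_rc_16_1 lc_g_rc_31_1 lc_g_rc_24_1 lc_g_rc_37_1 lc_g_rc_44_5 lc_g_rc_24_1 lc_g_rc_16_1) (@D3.rec (fun _ => (Cert rels S Gen.g)) lc_g_rc_24_1 lc_g_rc_7_1 lc_g_rc_44_1 lc_g_rc_31_1 lc_g_rc_31_1 lc_g_rc_24_1 lc_g_rc_37_1 lc_g_rc_24_1 lc_g_rc_37_1 lc_g_rc_16_1 lc_g_rc_24_1 lc_g_rc_44_3 lc_g_rc_16_1 lc_g_rc_24_1 lc_g_rc_7_1 lc_g_rc_50_0 lc_g_rc_24_1 lc_g_rc_24_1 lc_g_rc_24_1 lc_g_rc_37_1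 lc_g_rc_16_1 lc_g_rc_24_1 lc_g_rc_31_1 lc_g_rc_7_1 lc_g_rc_16_1 lc_g_rc_24_1 lc_g_rc_24_1 lc_g_rc_7_1 lc_g_rc_16_1 lc_g_rc_16_1 lc_g_rc_24_1 lc_g_rc_7_1 lc_g_rc_16_1 lc_g_rc_31_1 lc_g_rc_7_1 lc_g_rc_16_1 lc_g_rc_47_2 lc_g_rc_37_1 lc_g_rc_24_1 lc_g_rc_7_1 lc_g_rc_31_1 lc_g_rc_24_1 lc_g_rc_7_1 lc_g_rc_16_1 lc_g_rc_31_1 lc_g_rc_7_1 lc_g_rc_16_1 lc_g_rc_47_2 lc_g_rc_37_1 lc_g_rc_47_2 lc_g_rc_31_1) (@D3.rec (fun _ => (Cert rels S Gen.g)) lc_g_rc_47_2 lc_g_rc_31_1 lc_g_rc_24_1 lc_g_rc_37_1 lc_g_rc_50_2 lc_g_rc_7_1 lc_g_rc_16_1 lc_g_rc_49_2 lc_g_rc_47_2 lc_g_rc_7_1 lc_g_rc_44_3 lc_g_rc_50_2 lc_g_rc_50_2 lc_g_rc_24_1 lc_g_rc_47_2 lc_g_rc_16_1 lc_g_rc_50_2 lc_g_rc_31_1 lc_g_rc_7_1 lc_g_rc_44_3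 lc_g_rc_16_1 lc_g_rc_7_1 lc_g_rc_16_1 lc_g_rc_16_1 lc_g_rc_7_1 lc_g_rc_7_1 lc_g_rc_16_1 lc_g_rc_49_2 lc_g_rc_7_1 lc_g_rc_24_1 lc_g_rc_31_1 lc_g_rc_50_0 lc_g_rc_31_3 lc_g_rc_37_1 lc_g_rc_47_2 lc_g_rc_24_1 lc_g_rc_37_1 lc_g_rc_16_1 lc_g_rc_24_1 lc_g_rc_7_1 lc_g_rc_16_1 lc_g_rc_7_1 lc_g_rc_31_1 lc_g_rc_37_1 lc_g_rc_16_1 lc_g_rc_16_1 lc_g_rc_7_1 lc_g_rc_47_2 lc_g_rc_24_1 lc_g_rc_16_1 lc_g_rc_24_1) (@D3.rec (fun _ => (Cert rels S Gen.g)) lc_g_rc_7_1 lc_g_rc_16_1 lc_g_rc_47_2 lc_g_rc_7_1 lc_g_rc_24_1 lc_g_rc_47_2 lc_g_rc_16_1 lc_g_rc_24_1 lc_g_rc_7_1 lc_g_rc_31_1 lc_g_rc_37_1 lc_g_rc_24_1 lc_g_rc_37_1 lc_g_rc_24_1 lc_g_rc_24_1 lc_g_rc_37_1 lc_g_rc_16_1 lc_g_rc_24_1 lc_g_rc_37_1 lc_g_rc_50_2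 lc_g_rc_31_1 lc_g_rc_24_1 lc_g_rc_47_2 lc_g_rc_31_1 lc_g_rc_31_1 lc_g_rc_16_1 lc_g_rc_24_1 lc_g_Cert_tree lc_g_rc_48_0 lc_g_rc_47_2 lc_g_rc_7_1 lc_g_rc_24_1 lc_g_rc_44_1 lc_g_rc_16_1 lc_g_rc_24_1 lc_g_rc_44_1 lc_g_rc_24_1 lc_g_rc_7_3 lc_g_rc_47_2 lc_g_rc_24_1 lc_g_rc_47_2 lc_g_rc_16_1 lc_g_rc_24_1 lc_g_rc_7_1 lc_g_rc_16_1 lc_g_rc_24_1 lc_g_rc_7_1 lc_g_Cert_tree lc_g_rc_48_0 lc_g_rc_24_1 lc_g_rc_47_2) (@D3.rec (fun _ => (Cert rels S Gen.g)) lc_g_rc_24_1 lc_g_rc_16_1 lc_g_rc_24_1 lc_g_rc_31_1 lc_g_rc_37_1 lc_g_rc_16_1 lc_g_rc_37_1 lc_g_rc_7_1 lc_g_rc_31_1 lc_g_rc_24_1 lc_g_rc_37_1 lc_g_rc_44_3 lc_g_rc_16_1 lc_g_rc_31_1 lc_g_rc_24_1 lc_g_rc_50_2 lc_g_rc_50_2 lc_g_rc_24_1 lc_g_rc_37_1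 lc_g_rc_16_1 lc_g_rc_24_1 lc_g_rc_7_1 lc_g_rc_24_1 lc_g_rc_16_1 lc_g_rc_24_1 lc_g_rc_16_1 lc_g_rc_24_1 lc_g_rc_24_1 lc_g_rc_24_1 lc_g_rc_50_2 lc_g_rc_16_1 lc_g_rc_24_1 lc_g_rc_16_1 lc_g_rc_7_1 lc_g_rc_16_1 lc_g_rc_16_1 lc_g_rc_7_1 lc_g_rc_31_1 lc_g_rc_37_1 lc_g_rc_16_1 lc_g_rc_24_1 lc_g_rc_31_1 lc_g_rc_50_0 lc_g_rc_37_1 lc_g_rc_7_1 lc_g_rc_24_1 lc_g_rc_37_1 lc_g_rc_16_1 lc_g_rc_24_1 lc_g_rc_44_3 lc_g_rc_24_1) (@D3.rec (fun _ => (Cert rels S Gen.g)) lc_g_rc_37_1 lc_g_rc_24_1 lc_g_rc_50_2 lc_g_rc_50_0 lc_g_rc_24_1 lc_g_Cert_tree lc_g_rc_50_2 lc_g_rc_37_1 lc_g_rc_7_1 lc_g_rc_16_1 lc_g_Cert_tree lc_g_rc_48_0 lc_g_rc_47_2 lc_g_rc_24_1 lc_g_rc_31_1 lc_g_rc_16_1 lc_g_rc_24_1 lc_g_rc_47_2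 lc_g_rc_24_1 lc_g_rc_16_1 lc_g_rc_16_1 lc_g_rc_24_1 lc_g_rc_24_1 lc_g_rc_16_1 lc_g_rc_24_1 lc_g_rc_7_1 lc_g_rc_16_1 lc_g_rc_24_1 lc_g_rc_37_1 lc_g_rc_24_1 lc_g_rc_44_1 lc_g_rc_16_1 lc_g_rc_24_1 lc_g_rc_16_1 lc_g_rc_24_1 lc_g_rc_7_3 lc_g_rc_7_1 lc_g_rc_16_1 lc_g_rc_24_1 lc_g_rc_31_1 lc_g_rc_44_5 lc_g_rc_16_1 lc_g_rc_24_1 lc_g_rc_7_1 lc_g_rc_16_1 lc_g_rc_7_1 lc_g_rc_16_1 lc_g_rc_49_2 lc_g_rc_7_1 lc_g_rc_49_2 lc_g_Cert_tree) (@D3.rec (fun _ => (Cert rels S Gen.g)) lc_g_rc_48_0 lc_g_rc_16_1 lc_g_rc_44_3 lc_g_rc_16_1 lc_g_rc_24_1 lc_g_rc_7_3 lc_g_rc_7_1 lc_g_rc_31_1 lc_g_rc_24_1 lc_g_rc_47_2 lc_g_rc_16_1 lc_g_rc_24_1 lc_g_rc_50_2 lc_g_rc_7_1 lc_g_rc_44_5 lc_g_rc_31_1 lc_g_rc_31_1 lc_g_rc_37_1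 lc_g_rc_37_3 lc_g_rc_16_3 lc_g_rc_16_1 lc_g_rc_24_1 lc_g_rc_7_1 lc_g_rc_16_1 lc_g_rc_37_1 lc_g_rc_31_1 lc_g_rc_7_1 lc_g_rc_16_1 lc_g_Cert_tree lc_g_rc_48_0 lc_g_rc_7_1 lc_g_rc_16_3 lc_g_rc_24_1 lc_g_rc_47_2 lc_g_rc_16_1 lc_g_rc_24_1 lc_g_rc_7_1 lc_g_rc_16_1 lc_g_rc_7_1 lc_g_rc_7_1 lc_g_rc_16_1 lc_g_rc_50_0 lc_g_rc_16_1 lc_g_rc_24_1 lc_g_rc_24_1 lc_g_rc_50_2 lc_g_rc_16_1 lc_g_rc_24_1 lc_g_rc_7_1 lc_g_rc_16_1 lc_g_rc_31_3) (@D3.rec (fun _ => (Cert rels S Gen.g)) lc_g_rc_16_1 lc_g_rc_24_1 lc_g_rc_44_3 lc_g_rc_37_1 lc_g_rc_7_1 lc_g_rc_16_1 lc_g_rc_24_1 lc_g_rc_7_1 lc_g_rc_16_1 lc_g_rc_16_1 lc_g_rc_24_1 lc_g_rc_16_1 lc_g_rc_24_1 lc_g_rc_7_3 lc_g_rc_7_1 lc_g_rc_16_1 lc_g_rc_31_1 lc_g_rc_16_1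 lc_g_rc_24_1 lc_g_rc_7_1 lc_g_rc_16_1 lc_g_rc_16_1 lc_g_rc_7_1 lc_g_rc_50_2 lc_g_rc_7_1 lc_g_Cert_tree lc_g_rc_48_0 lc_g_rc_7_1 lc_g_rc_31_3 lc_g_rc_37_1 lc_g_rc_16_1 lc_g_rc_7_1 lc_g_rc_7_1 lc_g_rc_16_1 lc_g_rc_7_1 lc_g_rc_7_1 lc_g_rc_44_3 lc_g_rc_37_1 lc_g_rc_16_1 lc_g_rc_24_1 lc_g_rc_37_1 lc_g_rc_16_1 lc_g_rc_24_1 lc_g_rc_7_1 lc_g_rc_24_1 lc_g_rc_37_1 lc_g_rc_50_2 lc_g_rc_44_3 lc_g_rc_37_1 lc_g_rc_49_2 lc_g_rc_50_2) (@D3.rec (fun _ => (Cert rels S Gen.g)) lc_g_rc_24_1 lc_g_rc_7_1 lc_g_rc_16_1 lc_g_rc_7_1 lc_g_rc_24_1 lc_g_rc_47_2 lc_g_rc_44_1 lc_g_rc_16_1 lc_g_rc_24_1 lc_g_rc_7_1 lc_g_rc_16_1 lc_g_rc_24_1 lc_g_rc_7_1 lc_g_rc_7_1 lc_g_rc_16_1 lc_g_rc_16_1 lc_g_rc_37_1 lc_g_rc_7_1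 lc_g_rc_24_1 lc_g_rc_16_1 lc_g_rc_7_3 lc_g_rc_37_1 lc_g_rc_7_1 lc_g_rc_7_3 lc_g_rc_7_1 lc_g_rc_16_1 lc_g_rc_16_1 lc_g_rc_7_1 lc_g_rc_16_1 lc_g_rc_7_1 lc_g_rc_7_1 lc_g_rc_7_1 lc_g_rc_24_1 lc_g_rc_16_1 lc_g_rc_24_1 lc_g_rc_24_1 lc_g_rc_31_1 lc_g_rc_31_1 lc_g_rc_7_1 lc_g_rc_16_1 lc_g_rc_24_1 lc_g_rc_7_1 lc_g_rc_16_1 lc_g_rc_24_1 lc_g_rc_7_1 lc_g_rc_16_1 lc_g_rc_44_3 lc_g_rc_37_1 lc_g_rc_7_1 lc_g_rc_37_1 lc_g_rc_49_4) (@D3.rec (fun _ => (Cert rels S Gen.g)) lc_g_rc_7_1 lc_g_rc_16_1 lc_g_rc_31_1 lc_g_rc_44_1 lc_g_rc_31_1 lc_g_rc_31_3 lc_g_rc_16_1 lc_g_rc_16_1 lc_g_rc_24_1 lc_g_rc_7_1 lc_g_rc_31_1 lc_g_rc_24_1 lc_g_rc_37_1 lc_g_rc_24_1 lc_g_rc_37_1 lc_g_rc_16_1 lc_g_rc_24_1 lc_g_rc_16_1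 lc_g_rc_7_1 lc_g_rc_24_1 lc_g_rc_50_2 lc_g_rc_16_1 lc_g_rc_24_1 lc_g_rc_31_1 lc_g_rc_7_1 lc_g_rc_16_1 lc_g_rc_49_2 lc_g_rc_7_1 lc_g_rc_50_0 lc_g_rc_24_1 lc_g_rc_7_1 lc_g_rc_16_1 lc_g_rc_24_1 lc_g_rc_7_1 lc_g_rc_16_1 lc_g_rc_31_1 lc_g_rc_50_0 lc_g_rc_24_1 lc_g_rc_50_0 lc_g_rc_44_3 lc_g_rc_47_2 lc_g_rc_44_5 lc_g_Cert_tree lc_g_rc_48_0 lc_g_rc_44_5 lc_g_Cert_tree lc_g_rc_48_0 lc_g_rc_16_1 lc_g_rc_7_1 lc_g_rc_16_1 lc_g_rc_7_1) (@D3.rec (fun _ => (Cert rels S Gen.g)) lc_g_rc_16_1 lc_g_rc_24_1 lc_g_rc_7_1 lc_g_rc_16_1 lc_g_rc_24_1 lc_g_rc_24_1 lc_g_rc_37_1 lc_g_rc_16_1 lc_g_rc_24_1 lc_g_rc_47_2 lc_g_rc_16_1 lc_g_rc_24_1 lc_g_rc_7_1 lc_g_rc_16_1 lc_g_rc_31_1 lc_g_rc_7_1 lc_g_rc_49_2 lc_g_rc_31_1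 lc_g_rc_7_1 lc_g_rc_16_1 lc_g_rc_7_1 lc_g_rc_16_1 lc_g_rc_7_1 lc_g_rc_7_1 lc_g_rc_50_2 lc_g_rc_24_1 lc_g_rc_50_2 lc_g_rc_16_1 lc_g_rc_31_1 lc_g_rc_49_4 lc_g_rc_31_1 lc_g_rc_44_1 lc_g_rc_16_1 lc_g_rc_24_1 lc_g_rc_7_1 lc_g_rc_31_1 lc_g_rc_24_1 lc_g_rc_16_1 lc_g_rc_7_1 lc_g_rc_50_2 lc_g_rc_44_3 lc_g_rc_37_1 lc_g_rc_7_1 lc_g_rc_44_5 lc_g_rc_7_1 lc_g_rc_24_1 lc_g_rc_16_1 lc_g_rc_24_1 lc_g_rc_7_1 lc_g_rc_16_1 lc_g_rc_24_1) (@D3.rec (fun _ => (Cert rels S Gen.g)) lc_g_rc_16_1 lc_g_rc_37_1 lc_g_rc_50_2 lc_g_rc_7_3 lc_g_rc_24_1 lc_g_rc_31_1 lc_g_rc_24_1 lc_g_rc_16_1 lc_g_rc_31_1 lc_g_rc_31_1 lc_g_rc_31_1 lc_g_rc_37_1 lc_g_Cert_tree lc_g_rc_24_1 lc_g_rc_47_2 lc_g_rc_16_1 lc_g_rc_24_1 lc_g_rc_50_2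 lc_g_rc_24_1 lc_g_rc_50_2 lc_g_Cert_tree lc_g_rc_31_1 lc_g_rc_24_1 lc_g_rc_37_1 lc_g_rc_16_1 lc_g_rc_47_2 lc_g_rc_24_1 lc_g_rc_44_1 lc_g_rc_16_1 lc_g_rc_24_1 lc_g_rc_31_1 lc_g_rc_16_1 lc_g_rc_24_1 lc_g_rc_7_1 lc_g_rc_48_0 lc_g_rc_24_1 lc_g_rc_37_1 lc_g_rc_24_1 lc_g_rc_31_1 lc_g_rc_16_1 lc_g_rc_44_3 lc_g_rc_31_1 lc_g_rc_50_0 lc_g_rc_24_1 lc_g_Cert_tree lc_g_rc_48_0 lc_g_rc_24_1 lc_g_rc_37_1 lc_g_rc_16_1 lc_g_rc_24_1 lc_g_rc_7_1) (@D3.rec (fun _ => (Cert rels S Gen.g)) lc_g_rc_31_1 lc_g_rc_24_1 lc_g_rc_37_1 lc_g_rc_16_1 lc_g_rc_24_1 lc_g_rc_50_2 lc_g_rc_24_1 lc_g_rc_47_2 lc_g_rc_24_1 lc_g_rc_37_1 lc_g_rc_44_1 lc_g_rc_24_1 lc_g_Cert_tree lc_g_rc_16_1 lc_g_rc_24_1 lc_g_rc_31_1 lc_g_rc_7_1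 lc_g_rc_16_1 lc_g_Cert_tree lc_g_rc_48_0 lc_g_rc_7_1 lc_g_rc_16_1 lc_g_rc_24_1 lc_g_rc_24_1 lc_g_Cert_tree lc_g_rc_48_0 lc_g_rc_24_1 lc_g_rc_44_3 lc_g_rc_31_1 lc_g_rc_31_1 lc_g_rc_47_2 lc_g_rc_31_1 lc_g_rc_50_2 lc_g_rc_37_1 lc_g_rc_50_2 lc_g_rc_24_1 lc_g_rc_16_1 lc_g_rc_31_1 lc_g_rc_31_1 lc_g_rc_24_1 lc_g_rc_24_1 lc_g_rc_37_1 lc_g_rc_16_1 lc_g_rc_24_1 lc_g_rc_47_2 lc_g_rc_16_1 lc_g_rc_24_1 lc_g_rc_16_1 lc_g_rc_24_1 lc_g_rc_7_1 lc_g_rc_24_1) (@D3.rec (fun _ => (Cert rels S Gen.g)) lc_g_rc_47_2 lc_g_rc_47_2 lc_g_rc_49_4 lc_g_rc_24_1 lc_g_rc_47_2 lc_g_rc_16_1 lc_g_rc_24_1 lc_g_rc_16_1 lc_g_rc_24_1 lc_g_rc_7_1 lc_g_rc_24_1 lc_g_rc_37_1 lc_g_rc_16_1 lc_g_rc_7_1 lc_g_rc_7_1 lc_g_rc_16_1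 lc_g_rc_24_1 lc_g_rc_37_1 lc_g_rc_16_1 lc_g_rc_24_1 lc_g_rc_7_1 lc_g_rc_16_1 lc_g_rc_31_1 lc_g_rc_49_2 lc_g_rc_31_1 lc_g_rc_31_1 lc_g_rc_24_1 lc_g_rc_50_2 lc_g_Cert_tree lc_g_rc_31_1 lc_g_rc_24_1 lc_g_rc_37_1 lc_g_rc_49_2 lc_g_rc_31_1 lc_g_rc_44_1 lc_g_rc_24_1 lc_g_rc_16_1 lc_g_rc_24_1 lc_g_rc_50_2 lc_g_rc_31_1 lc_g_rc_37_1 lc_g_rc_24_1 lc_g_rc_7_3 lc_g_rc_16_1 lc_g_rc_37_1 lc_g_Cert_tree lc_g_rc_48_0 lc_g_rc_44_3 lc_g_rc_37_1 lc_g_rc_7_1 lc_g_rc_31_1) (@D3.rec (fun _ => (Cert rels S Gen.g)) lc_g_rc_24_1 lc_g_rc_37_1 lc_g_rc_16_1 lc_g_rc_24_1 lc_g_rc_37_1 lc_g_rc_24_1 lc_g_rc_47_2 lc_g_rc_50_2 lc_g_rc_24_1 lc_g_rc_37_1 lc_g_rc_24_1 lc_g_rc_37_1 lc_g_rc_16_1 lc_g_rc_24_1 lc_g_rc_7_1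 lc_g_rc_24_1 lc_g_rc_16_1 lc_g_rc_16_1 lc_g_rc_24_1 lc_g_rc_24_1 lc_g_rc_24_1 lc_g_rc_50_2 lc_g_rc_16_1 lc_g_rc_24_1 lc_g_rc_47_2 lc_g_rc_16_1 lc_g_rc_7_1 lc_g_rc_16_1 lc_g_rc_24_1 lc_g_rc_31_1 lc_g_rc_44_5 lc_g_rc_16_1 lc_g_rc_24_1 lc_g_rc_7_1 lc_g_rc_16_1 lc_g_rc_24_1 lc_g_rc_44_3 lc_g_rc_7_3 lc_g_rc_37_1 lc_g_rc_31_1 lc_g_rc_24_1 lc_g_rc_37_1 lc_g_rc_16_1 lc_g_rc_24_1 lc_g_rc_7_1 lc_g_rc_24_1 lc_g_rc_50_0 lc_g_rc_16_1 lc_g_rc_24_1 lc_g_rc_44_3 lc_g_rc_44_5) (@D3.rec (fun _ => (Cert rels S Gen.g)) lc_g_rc_48_1 lc_g_Cert_tree lc_g_rc_48_0 lc_g_rc_24_1 lc_g_rc_37_1 lc_g_rc_16_1 lc_g_rc_24_1 lc_g_rc_44_3 lc_g_rc_7_1 lc_g_rc_16_1 lc_g_rc_24_1 lc_g_rc_31_1 lc_g_rc_16_1 lc_g_rc_24_1 lc_g_rc_24_1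 lc_g_rc_16_1 lc_g_rc_16_1 lc_g_rc_24_1 lc_g_rc_16_1 lc_g_rc_7_1 lc_g_rc_16_1 lc_g_rc_24_1 lc_g_rc_16_1 lc_g_rc_24_1 lc_g_rc_7_1 lc_g_rc_16_1 lc_g_Cert_tree lc_g_rc_48_0 lc_g_rc_24_1 lc_g_rc_16_1 lc_g_rc_7_1 lc_g_rc_7_1 lc_g_Cert_tree lc_g_rc_48_0 lc_g_rc_16_1 lc_g_rc_24_1 lc_g_rc_7_1 lc_g_rc_16_1 lc_g_rc_7_1 lc_g_rc_16_1 lc_g_rc_24_1 lc_g_rc_16_1 lc_g_rc_24_1 lc_g_rc_44_1 lc_g_rc_49_2 lc_g_rc_16_1 lc_g_rc_44_3 lc_g_rc_24_1 lc_g_rc_31_1 lc_g_rc_24_1 lc_g_rc_31_1) (@D3.rec (fun _ => (Cert rels S Gen.g)) lc_g_rc_16_1 lc_g_rc_24_1 lc_g_rc_16_1 lc_g_rc_16_1 lc_g_rc_24_1 lc_g_rc_16_1 lc_g_rc_24_1 lc_g_rc_7_1 lc_g_rc_16_1 lc_g_rc_16_1 lc_g_rc_24_1 lc_g_rc_37_1 lc_g_rc_31_3 lc_g_rc_31_3 lc_g_rc_44_3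 lc_g_rc_48_0 lc_g_rc_7_3 lc_g_rc_37_3 lc_g_rc_50_2 lc_g_rc_24_1 lc_g_rc_47_2 lc_g_rc_16_1 lc_g_rc_24_1 lc_g_rc_16_1 lc_g_rc_24_1 lc_g_rc_37_1 lc_g_rc_16_1 lc_g_rc_24_1 lc_g_rc_7_1 lc_g_rc_16_1 lc_g_rc_16_1 lc_g_rc_7_1 lc_g_rc_16_1 lc_g_rc_24_1 lc_g_rc_16_1 lc_g_rc_24_1 lc_g_rc_7_1 lc_g_rc_16_1 lc_g_rc_24_1 lc_g_rc_16_1 lc_g_rc_24_1 lc_g_rc_7_1 lc_g_rc_16_1 lc_g_rc_31_1 lc_g_rc_44_1 lc_g_rc_7_3 lc_g_rc_16_1 lc_g_rc_24_1 lc_g_rc_31_1 lc_g_rc_37_1 lc_g_rc_16_1) (@D3.rec (fun _ => (Cert rels S Gen.g)) lc_g_rc_37_1 lc_g_rc_7_1 lc_g_rc_49_2 lc_g_rc_31_1 lc_g_rc_44_1 lc_g_rc_31_1 lc_g_rc_31_1 lc_g_Cert_tree lc_g_rc_24_1 lc_g_rc_37_1 lc_g_rc_48_0 lc_g_rc_44_1 lc_g_rc_16_1 lc_g_rc_24_1 lc_g_rc_50_2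 lc_g_rc_24_1 lc_g_rc_47_2 lc_g_rc_24_1 lc_g_rc_16_1 lc_g_rc_24_1 lc_g_rc_37_1 lc_g_rc_16_1 lc_g_rc_24_1 lc_g_rc_7_1 lc_g_rc_31_1 lc_g_rc_16_1 lc_g_rc_49_2 lc_g_rc_24_1 lc_g_rc_16_1 lc_g_rc_7_1 lc_g_rc_16_1 lc_g_rc_24_1 lc_g_rc_7_1 lc_g_rc_50_0 lc_g_rc_16_1 lc_g_rc_31_3 lc_g_rc_44_1 lc_g_rc_7_1 lc_g_rc_16_1 lc_g_rc_50_2 lc_g_rc_7_1 lc_g_rc_16_1 lc_g_rc_31_1 lc_g_rc_50_0 lc_g_rc_31_1 lc_g_rc_24_1 lc_g_rc_31_1 lc_g_rc_31_1 lc_g_rc_31_1 lc_g_rc_44_3 lc_g_rc_37_1) (@D3.rec (fun _ => (Cert rels S Gen.g)) lc_g_rc_49_2 lc_g_rc_24_1 lc_g_rc_37_1 lc_g_rc_37_1 lc_g_Cert_tree lc_g_rc_44_3 lc_g_rc_24_1 lc_g_rc_37_1 lc_g_rc_31_1 lc_g_rc_37_1 lc_g_rc_50_2 lc_g_rc_37_1 lc_g_Cert_tree lc_g_rc_48_0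 lc_g_rc_50_2 lc_g_rc_37_1 lc_g_rc_47_2 lc_g_rc_16_1 lc_g_rc_31_1 lc_g_rc_47_2 lc_g_rc_37_1 lc_g_rc_16_1 lc_g_rc_24_1 lc_g_rc_16_1 lc_g_rc_24_1 lc_g_rc_7_1 lc_g_rc_31_1 lc_g_rc_16_1 lc_g_rc_16_1 lc_g_rc_24_1 lc_g_rc_31_1 lc_g_rc_24_1 lc_g_rc_50_2 lc_g_rc_16_1 lc_g_rc_24_1 lc_g_rc_7_3 lc_g_rc_48_1 lc_g_rc_50_2 lc_g_rc_7_1 lc_g_rc_16_1 lc_g_rc_44_3 lc_g_rc_16_1 lc_g_rc_24_1 lc_g_rc_7_1 lc_g_rc_16_1 lc_g_rc_24_1 lc_g_rc_47_2 lc_g_rc_16_1 lc_g_rc_24_1 lc_g_rc_7_1 lc_g_rc_31_1) (@D3.rec (fun _ => (Cert rels S Gen.g)) lc_g_rc_24_1 lc_g_rc_16_1 lc_g_rc_24_1 lc_g_rc_37_1 lc_g_rc_16_1 lc_g_rc_24_1 lc_g_rc_16_1 lc_g_rc_24_1 lc_g_rc_16_3 lc_g_rc_16_1 lc_g_rc_16_3 lc_g_rc_7_3 lc_g_rc_24_1 lc_g_rc_16_1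 lc_g_rc_24_1 lc_g_rc_37_1 lc_g_rc_24_1 lc_g_rc_37_1 lc_g_rc_16_1 lc_g_rc_24_1 lc_g_rc_7_1 lc_g_rc_16_1 lc_g_rc_24_1 lc_g_rc_7_1 lc_g_rc_7_1 lc_g_rc_16_1 lc_g_rc_24_1 lc_g_rc_24_1 lc_g_rc_50_2 lc_g_rc_50_0 lc_g_rc_24_1 lc_g_rc_47_2 lc_g_rc_16_1 lc_g_rc_24_1 lc_g_Cert_tree lc_g_rc_7_1 lc_g_rc_16_1 lc_g_rc_24_1 lc_g_Cert_tree lc_g_rc_48_0 lc_g_rc_16_1 lc_g_rc_24_1 lc_g_rc_7_1 lc_g_rc_16_1 lc_g_rc_24_1 lc_g_rc_37_3 lc_g_rc_7_1 lc_g_Cert_tree lc_g_rc_48_0 lc_g_rc_7_3 lc_g_rc_7_1) (@D3.rec (fun _ => (Cert rels S Gen.g)) lc_g_rc_16_1 lc_g_rc_7_1 lc_g_rc_16_1 lc_g_rc_24_1 lc_g_rc_37_1 lc_g_rc_47_2 lc_g_rc_50_2 lc_g_rc_24_1 lc_g_rc_50_2 lc_g_rc_50_2 lc_g_rc_49_2 lc_g_rc_24_3 lc_g_rc_49_4 lc_g_rc_16_1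 lc_g_rc_24_1 lc_g_rc_7_1 lc_g_rc_16_1 lc_g_rc_7_1 lc_g_rc_7_1 lc_g_rc_16_1 lc_g_rc_24_1 lc_g_rc_16_1 lc_g_rc_49_4 lc_g_rc_7_3 lc_g_rc_24_1 lc_g_rc_47_0 lc_g_rc_16_1 lc_g_rc_24_1 lc_g_rc_7_1 lc_g_rc_24_1 lc_g_rc_37_1 lc_g_rc_16_1 lc_g_rc_7_3 lc_g_rc_37_1 lc_g_rc_7_1 lc_g_rc_7_1 lc_g_rc_16_1 lc_g_rc_16_1 lc_g_rc_7_3 lc_g_rc_24_1 lc_g_rc_7_1 lc_g_rc_7_1 lc_g_rc_31_1 lc_g_rc_7_3 lc_g_rc_7_1 lc_g_rc_7_1 lc_g_rc_7_1 lc_g_rc_16_1 lc_g_rc_24_1 lc_g_rc_7_1 lc_g_rc_16_1) (@D3.rec (fun _ => (Cert rels S Gen.g)) lc_g_rc_7_1 lc_g_rc_16_1 lc_g_rc_24_1 lc_g_rc_37_1 lc_g_rc_49_2 lc_g_rc_7_1 lc_g_rc_16_1 lc_g_rc_16_1 lc_g_rc_24_1 lc_g_rc_7_1 lc_g_rc_16_1 lc_g_rc_24_1 lc_g_rc_7_1 lc_g_rc_16_1 lc_g_rc_31_3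 lc_g_rc_37_1 lc_g_rc_49_2 lc_g_rc_31_1 lc_g_rc_37_1 lc_g_rc_16_1 lc_g_rc_37_1 lc_g_Cert_tree lc_g_rc_48_0 lc_g_rc_16_1 lc_g_rc_24_1 lc_g_rc_7_1 lc_g_rc_31_3 lc_g_rc_37_1 lc_g_rc_16_1 lc_g_rc_24_1 lc_g_rc_37_1 lc_g_rc_16_1 lc_g_rc_24_1 lc_g_rc_7_1 lc_g_rc_7_1 lc_g_rc_16_1 lc_g_rc_24_1 lc_g_rc_24_1 lc_g_rc_16_1 lc_g_rc_31_1 lc_g_rc_47_2 lc_g_rc_44_3 lc_g_rc_50_2 lc_g_rc_16_1 lc_g_rc_16_1 lc_g_rc_47_2 lc_g_rc_7_1 lc_g_rc_44_3 lc_g_rc_37_1 lc_g_rc_49_2 lc_g_rc_24_1) (@D3.rec (fun _ => (Cert rels S Gen.g)) lc_g_rc_37_1 lc_g_rc_16_1 lc_g_rc_24_1 lc_g_rc_7_1 lc_g_rc_16_1 lc_g_rc_24_1 lc_g_rc_7_1 lc_g_rc_7_1 lc_g_rc_16_1 lc_g_rc_31_1 lc_g_rc_24_1 lc_g_rc_16_1 lc_g_rc_7_1 lc_g_rc_24_1 lc_g_rc_50_2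 lc_g_rc_16_1 lc_g_rc_24_1 lc_g_rc_16_1 lc_g_rc_7_1 lc_g_rc_7_1 lc_g_rc_16_1 lc_g_rc_24_1 lc_g_rc_7_1 lc_g_rc_16_1 lc_g_rc_24_1 lc_g_rc_24_1 lc_g_rc_31_1 lc_g_rc_31_1 lc_g_rc_47_2 lc_g_rc_50_2 lc_g_rc_16_1 lc_g_rc_44_1 lc_g_rc_31_3 lc_g_rc_24_3 lc_g_rc_44_5 lc_g_rc_24_1 lc_g_rc_37_1 lc_g_rc_16_1 lc_g_rc_24_1 lc_g_rc_7_1 lc_g_rc_7_1 lc_g_rc_7_1 lc_g_rc_50_0 lc_g_Cert_tree lc_g_rc_24_1 lc_g_rc_31_1 lc_g_rc_37_1 lc_g_rc_24_1 lc_g_rc_24_1 lc_g_Cert_tree lc_g_rc_31_1) (@D3.rec (fun _ => (Cert rels S Gen.g)) lc_g_rc_44_3 lc_g_rc_48_0 lc_g_rc_44_3 lc_g_rc_31_1 lc_g_rc_31_1 lc_g_rc_16_1 lc_g_rc_24_1 lc_g_rc_37_1 lc_g_rc_16_1 lc_g_rc_24_1 lc_g_Cert_tree lc_g_rc_7_1 lc_g_rc_16_1 lc_g_Cert_tree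 lc_g_rc_48_0 lc_g_rc_16_1 lc_g_rc_24_1 lc_g_rc_7_1 lc_g_rc_16_1 lc_g_rc_31_1 lc_g_rc_16_1 lc_g_rc_24_1 lc_g_rc_37_1 lc_g_rc_16_1 lc_g_rc_24_1 lc_g_rc_7_1 lc_g_rc_49_4 lc_g_rc_24_1 lc_g_rc_16_1 lc_g_rc_7_1 lc_g_rc_24_1 lc_g_rc_37_1 lc_g_rc_16_1 lc_g_rc_24_1 lc_g_rc_50_2 lc_g_rc_7_1 lc_g_rc_16_1 lc_g_rc_31_1 lc_g_rc_16_1 lc_g_rc_7_1 lc_g_rc_24_1 lc_g_rc_44_3 lc_g_rc_16_1 lc_g_rc_7_1 lc_g_rc_16_1 lc_g_rc_7_1 lc_g_rc_16_1 lc_g_rc_16_1 lc_g_rc_24_1 lc_g_rc_7_1 lc_g_rc_16_1) (@D3.rec (fun _ => (Cert rels S Gen.g)) lc_g_rc_31_1 lc_g_rc_7_1 lc_g_rc_16_1 lc_g_rc_47_2 lc_g_rc_24_1 lc_g_rc_16_1 lc_g_rc_31_1 lc_g_rc_16_1 lc_g_rc_47_2 lc_g_rc_31_1 lc_g_rc_47_2 lc_g_rc_24_1 lc_g_rc_47_2 lc_g_rc_50_2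 lc_g_rc_16_1 lc_g_rc_16_1 lc_g_rc_24_1 lc_g_rc_37_1 lc_g_rc_16_1 lc_g_rc_24_1 lc_g_rc_44_1 lc_g_rc_7_1 lc_g_rc_16_1 lc_g_rc_24_1 lc_g_rc_16_1 lc_g_rc_24_1 lc_g_rc_7_1 lc_g_rc_16_1 lc_g_rc_31_1 lc_g_rc_16_1 lc_g_rc_16_1 lc_g_rc_24_1 lc_g_rc_7_1 lc_g_rc_24_1 lc_g_rc_37_1 lc_g_rc_24_1 lc_g_rc_16_1 lc_g_rc_24_1 lc_g_rc_49_2 lc_g_rc_7_1 lc_g_rc_24_1 lc_g_rc_37_1 lc_g_rc_16_1 lc_g_rc_24_1 lc_g_rc_7_1 lc_g_rc_7_1 lc_g_rc_16_1 lc_g_rc_31_1 lc_g_rc_7_1 lc_g_rc_16_1 lc_g_rc_24_1) (@D3.rec (fun _ => (Cert rels S Gen.g)) lc_g_rc_7_1 lc_g_rc_16_1 lc_g_rc_31_1 lc_g_rc_24_1 lc_g_rc_7_1 lc_g_rc_16_1 lc_g_rc_47_2 lc_g_rc_7_1 lc_g_rc_24_1 lc_g_rc_16_1 lc_g_rc_24_1 lc_g_rc_44_5 lc_g_rc_16_1 lc_g_rc_7_1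 lc_g_rc_16_1 lc_g_rc_44_1 lc_g_rc_31_1 lc_g_rc_44_5 lc_g_rc_24_1 lc_g_rc_37_1 lc_g_rc_16_1 lc_g_rc_24_1 lc_g_rc_37_3 lc_g_rc_16_1 lc_g_rc_24_1 lc_g_rc_7_1 lc_g_rc_16_1 lc_g_rc_31_1 lc_g_rc_24_1 lc_g_rc_7_1 lc_g_rc_48_0 lc_g_rc_24_1 lc_g_rc_50_0 lc_g_rc_16_1 lc_g_rc_16_1 lc_g_rc_31_1 lc_g_rc_16_1 lc_g_rc_24_1 lc_g_rc_37_3 lc_g_rc_7_1 lc_g_rc_16_1 lc_g_rc_24_1 lc_g_rc_7_1 lc_g_rc_16_1 lc_g_rc_16_1 lc_g_rc_24_1 lc_g_rc_7_1 lc_g_rc_7_1 lc_g_rc_16_1 lc_g_rc_31_1 lc_g_rc_7_1)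
def ce_g_20 : D2 → D3 → (Cert rels S Gen.g) := @D2.rec (fun _ => D3 → (Cert rels S Gen.g)) (@D3.rec (fun _ => (Cert rels S Gen.g)) lc_g_rc_16_1 lc_g_rc_47_2 lc_g_rc_7_1 lc_g_rc_16_1 lc_g_rc_16_1 lc_g_rc_50_2 lc_g_rc_44_3 lc_g_rc_31_1 lc_g_rc_44_3 lc_g_rc_47_2 lc_g_rc_31_1 lc_g_rc_7_1 lc_g_rc_16_1 lc_g_rc_47_2 lc_g_rc_7_1 lc_g_rc_24_1 lc_g_rc_44_3 lc_g_rc_50_2 lc_g_rc_50_2 lc_g_rc_50_2 lc_g_rc_24_1 lc_g_rc_47_2 lc_g_rc_24_1 lc_g_rc_7_1 lc_g_rc_44_3 lc_g_rc_50_2 lc_g_rc_50_2 lc_g_rc_24_1 lc_g_rc_31_1 lc_g_rc_37_1 lc_g_rc_7_1 lc_g_rc_7_1 lc_g_rc_7_1 lc_g_rc_7_1 lc_g_rc_49_2 lc_g_rc_16_1 lc_g_rc_24_1 lc_g_rc_44_5 lc_g_rc_7_3 lc_g_rc_37_1 lc_g_rc_47_2 lc_g_rc_16_1 lc_g_rc_24_1 lc_g_rc_7_1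 lc_g_rc_16_1 lc_g_rc_7_1 lc_g_rc_16_1 lc_g_rc_37_1 lc_g_rc_7_1 lc_g_rc_16_1 lc_g_rc_16_1) (@D3.rec (fun _ => (Cert rels S Gen.g)) lc_g_rc_7_1 lc_g_rc_16_1 lc_g_rc_7_1 lc_g_rc_47_2 lc_g_rc_16_1 lc_g_rc_24_1 lc_g_rc_7_1 lc_g_rc_16_1 lc_g_rc_24_1 lc_g_rc_37_1 lc_g_rc_16_1 lc_g_rc_24_1 lc_g_rc_31_1 lc_g_rc_48_1 lc_g_rc_37_1 lc_g_rc_7_1 lc_g_rc_16_1 lc_g_rc_24_1 lc_g_rc_47_2 lc_g_rc_44_3 lc_g_rc_37_1 lc_g_rc_49_2 lc_g_rc_31_1 lc_g_Cert_tree lc_g_rc_50_2 lc_g_rc_31_3 lc_g_rc_7_1 lc_g_rc_16_1 lc_g_Cert_tree lc_g_rc_48_0 lc_g_rc_47_2 lc_g_rc_50_0 lc_g_rc_24_1 lc_g_rc_47_2 lc_g_rc_7_1 lc_g_rc_16_1 lc_g_rc_24_1 lc_g_rc_50_0 lc_g_rc_24_1 lc_g_rc_47_2 lc_g_rc_44_5 lc_g_rc_24_1 lc_g_rc_7_1 lc_g_rc_16_1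 lc_g_rc_7_1 lc_g_rc_16_1 lc_g_rc_48_0 lc_g_rc_31_1 lc_g_rc_24_1 lc_g_rc_24_1 lc_g_rc_31_1) (@D3.rec (fun _ => (Cert rels S Gen.g)) lc_g_rc_16_1 lc_g_rc_37_1 lc_g_rc_7_1 lc_g_rc_16_1 lc_g_rc_24_1 lc_g_rc_37_1 lc_g_rc_16_1 lc_g_rc_24_1 lc_g_rc_31_1 lc_g_rc_7_1 lc_g_rc_31_1 lc_g_rc_37_1 lc_g_rc_16_1 lc_g_rc_24_1 lc_g_rc_24_1 lc_g_rc_50_2 lc_g_rc_16_1 lc_g_rc_24_1 lc_g_rc_7_1 lc_g_rc_16_1 lc_g_rc_16_1 lc_g_rc_24_1 lc_g_rc_16_1 lc_g_rc_7_1 lc_g_rc_16_1 lc_g_rc_16_1 lc_g_rc_16_1 lc_g_rc_24_1 lc_g_rc_7_1 lc_g_rc_16_1 lc_g_rc_31_1 lc_g_rc_7_1 lc_g_rc_7_1 lc_g_rc_7_1 lc_g_rc_50_0 lc_g_rc_37_1 lc_g_rc_37_1 lc_g_rc_7_1 lc_g_rc_16_1 lc_g_rc_31_1 lc_g_rc_50_0 lc_g_rc_16_1 lc_g_rc_47_0 lc_g_rc_50_2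 lc_g_rc_37_1 lc_g_rc_16_3 lc_g_rc_7_3 lc_g_rc_44_3 lc_g_rc_47_2 lc_g_rc_50_0 lc_g_rc_37_1) (@D3.rec (fun _ => (Cert rels S Gen.g)) lc_g_rc_47_0 lc_g_rc_24_1 lc_g_Cert_tree lc_g_rc_50_0 lc_g_rc_50_0 lc_g_Cert_tree lc_g_rc_48_0 lc_g_rc_50_2 lc_g_rc_50_2 lc_g_rc_7_1 lc_g_Cert_tree lc_g_rc_48_0 lc_g_rc_16_1 lc_g_rc_24_1 lc_g_rc_7_1 lc_g_rc_24_3 lc_g_rc_24_1 lc_g_rc_16_1 lc_g_rc_24_1 lc_g_rc_7_1 lc_g_rc_16_1 lc_g_rc_16_1 lc_g_rc_7_1 lc_g_rc_16_1 lc_g_rc_7_1 lc_g_rc_16_1 lc_g_rc_24_1 lc_g_rc_44_3 lc_g_rc_24_1 lc_g_rc_7_1 lc_g_rc_16_1 lc_g_rc_31_1 lc_g_rc_7_1 lc_g_rc_16_1 lc_g_rc_24_1 lc_g_rc_7_1 lc_g_rc_16_1 lc_g_rc_16_1 lc_g_rc_24_1 lc_g_rc_7_1 lc_g_rc_16_1 lc_g_rc_7_1 lc_g_rc_7_1 lc_g_rc_49_2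 lc_g_rc_48_0 lc_g_rc_7_1 lc_g_rc_44_3 lc_g_rc_7_1 lc_g_rc_16_1 lc_g_rc_7_3 lc_g_rc_44_1) (@D3.rec (fun _ => (Cert rels S Gen.g)) lc_g_rc_37_1 lc_g_rc_16_1 lc_g_rc_24_1 lc_g_rc_16_3 lc_g_rc_7_1 lc_g_rc_16_1 lc_g_rc_24_1 lc_g_rc_44_1 lc_g_rc_37_1 lc_g_rc_16_1 lc_g_rc_37_1 lc_g_rc_47_2 lc_g_rc_50_2 lc_g_rc_24_1 lc_g_rc_7_1 lc_g_rc_7_1 lc_g_rc_16_1 lc_g_rc_24_1 lc_g_rc_7_1 lc_g_rc_16_1 lc_g_rc_24_1 lc_g_rc_7_1 lc_g_Cert_tree lc_g_rc_48_0 lc_g_rc_16_1 lc_g_rc_24_1 lc_g_rc_7_1 lc_g_rc_16_1 lc_g_rc_7_1 lc_g_rc_7_1 lc_g_rc_16_1 lc_g_rc_7_1 lc_g_rc_16_1 lc_g_rc_16_1 lc_g_rc_24_1 lc_g_rc_7_1 lc_g_rc_16_1 lc_g_rc_31_1 lc_g_rc_7_1 lc_g_rc_16_1 lc_g_rc_7_1 lc_g_rc_16_1 lc_g_rc_44_3 lc_g_rc_16_1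 lc_g_rc_16_1 lc_g_rc_16_1 lc_g_rc_7_1 lc_g_rc_7_1 lc_g_rc_16_1 lc_g_rc_7_1 lc_g_rc_16_1) (@D3.rec (fun _ => (Cert rels S Gen.g)) lc_g_rc_50_0 lc_g_rc_7_1 lc_g_rc_16_1 lc_g_rc_7_1 lc_g_rc_16_1 lc_g_rc_7_1 lc_g_rc_7_1 lc_g_rc_48_1 lc_g_Cert_tree lc_g_rc_48_0 lc_g_rc_50_2 lc_g_rc_37_1 lc_g_rc_7_1 lc_g_rc_7_1 lc_g_rc_50_2 lc_g_rc_44_5 lc_g_rc_7_1 lc_g_rc_16_1 lc_g_rc_24_1 lc_g_rc_7_1 lc_g_rc_16_1 lc_g_rc_31_1 lc_g_rc_16_1 lc_g_rc_24_1 lc_g_rc_49_4 lc_g_rc_7_3 lc_g_rc_44_5 lc_g_rc_49_2 lc_g_rc_50_2 lc_g_rc_7_3 lc_g_rc_7_1 lc_g_rc_16_1 lc_g_rc_24_1 lc_g_rc_24_1 lc_g_rc_7_1 lc_g_rc_16_1 lc_g_rc_7_1 lc_g_rc_16_1 lc_g_rc_31_1 lc_g_rc_7_1 lc_g_rc_7_1 lc_g_rc_16_1 lc_g_rc_7_1 lc_g_rc_50_0 lc_g_rc_16_1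 lc_g_rc_7_3 lc_g_rc_49_4 lc_g_rc_7_1 lc_g_rc_7_1 lc_g_rc_7_1 lc_g_rc_16_1) (@D3.rec (fun _ => (Cert rels S Gen.g)) lc_g_rc_7_1 lc_g_rc_24_1 lc_g_rc_24_1 lc_g_rc_7_1 lc_g_rc_24_1 lc_g_rc_31_1 lc_g_rc_16_1 lc_g_rc_24_1 lc_g_rc_7_1 lc_g_rc_47_2 lc_g_rc_7_1 lc_g_rc_44_3 lc_g_rc_24_1 lc_g_rc_7_1 lc_g_rc_44_3 lc_g_rc_16_1 lc_g_rc_37_3 lc_g_rc_37_1 lc_g_rc_16_1 lc_g_rc_7_1 lc_g_rc_16_1 lc_g_rc_24_1 lc_g_rc_37_3 lc_g_rc_7_1 lc_g_rc_7_1 lc_g_rc_7_1 lc_g_rc_16_1 lc_g_rc_31_1 lc_g_rc_24_1 lc_g_rc_37_1 lc_g_rc_16_1 lc_g_rc_24_1 lc_g_rc_47_2 lc_g_rc_16_1 lc_g_rc_24_1 lc_g_rc_7_1 lc_g_rc_16_1 lc_g_rc_31_1 lc_g_rc_7_1 lc_g_rc_49_2 lc_g_rc_24_1 lc_g_rc_7_1 lc_g_rc_16_1 lc_g_rc_7_1 lc_g_rc_49_2 lc_g_rc_50_0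 lc_g_rc_16_1 lc_g_rc_31_1 lc_g_rc_7_1 lc_g_rc_16_1 lc_g_rc_31_1) (@D3.rec (fun _ => (Cert rels S Gen.g)) lc_g_rc_7_1 lc_g_rc_16_1 lc_g_rc_37_1 lc_g_rc_50_0 lc_g_rc_16_1 lc_g_rc_31_1 lc_g_rc_44_5 lc_g_Cert_tree lc_g_rc_48_0 lc_g_Cert_tree lc_g_rc_48_0 lc_g_rc_7_1 lc_g_rc_7_1 lc_g_rc_7_1 lc_g_rc_16_1 lc_g_rc_7_1 lc_g_rc_16_1 lc_g_rc_24_1 lc_g_rc_16_1 lc_g_rc_24_1 lc_g_rc_44_3 lc_g_rc_7_1 lc_g_rc_16_1 lc_g_rc_7_1 lc_g_rc_16_1 lc_g_rc_7_1 lc_g_rc_16_1 lc_g_rc_49_2 lc_g_rc_7_1 lc_g_rc_7_1 lc_g_rc_16_1 lc_g_rc_24_1 lc_g_rc_7_1 lc_g_rc_37_3 lc_g_rc_49_4 lc_g_rc_16_1 lc_g_rc_44_1 lc_g_rc_7_1 lc_g_rc_16_1 lc_g_rc_31_1 lc_g_rc_31_1 lc_g_rc_24_1 lc_g_rc_7_1 lc_g_rc_47_0 lc_g_rc_44_3 lc_g_rc_16_1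 lc_g_rc_49_2 lc_g_rc_7_1 lc_g_rc_16_1 lc_g_rc_7_1 lc_g_rc_16_1) (@D3.rec (fun _ => (Cert rels S Gen.g)) lc_g_rc_24_1 lc_g_rc_24_1 lc_g_rc_37_1 lc_g_rc_24_1 lc_g_rc_50_2 lc_g_rc_7_3 lc_g_rc_44_1 lc_g_rc_31_1 lc_g_rc_24_1 lc_g_Cert_tree lc_g_rc_31_1 lc_g_rc_37_1 lc_g_rc_31_1 lc_g_rc_37_1 lc_g_rc_16_1 lc_g_rc_37_1 lc_g_Cert_tree lc_g_rc_48_0 lc_g_rc_16_1 lc_g_rc_24_1 lc_g_rc_7_1 lc_g_rc_16_1 lc_g_rc_24_1 lc_g_rc_50_2 lc_g_rc_47_0 lc_g_rc_24_1 lc_g_Cert_tree lc_g_rc_48_0 lc_g_rc_24_1 lc_g_rc_37_1 lc_g_rc_16_1 lc_g_rc_24_1 lc_g_rc_7_1 lc_g_rc_24_1 lc_g_rc_47_2 lc_g_rc_16_1 lc_g_rc_24_1 lc_g_rc_37_1 lc_g_rc_7_1 lc_g_rc_16_1 lc_g_rc_24_1 lc_g_rc_7_1 lc_g_rc_16_1 lc_g_rc_24_1 lc_g_rc_24_1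 lc_g_rc_44_3 lc_g_rc_31_1 lc_g_rc_47_2 lc_g_rc_7_1 lc_g_rc_37_3 lc_g_rc_44_5) (@D3.rec (fun _ => (Cert rels S Gen.g)) lc_g_Cert_tree lc_g_rc_50_0 lc_g_rc_50_0 lc_g_Cert_tree lc_g_rc_48_0 lc_g_rc_16_1 lc_g_rc_24_1 lc_g_rc_44_3 lc_g_rc_7_1 lc_g_rc_16_1 lc_g_rc_31_1 lc_g_rc_24_1 lc_g_rc_37_1 lc_g_rc_16_1 lc_g_rc_24_1 lc_g_rc_7_1 lc_g_rc_16_1 lc_g_rc_24_1 lc_g_rc_50_2 lc_g_rc_16_1 lc_g_rc_24_1 lc_g_rc_47_2 lc_g_rc_50_2 lc_g_rc_24_1 lc_g_Cert_tree lc_g_rc_44_1 lc_g_rc_47_2 lc_g_Cert_tree lc_g_rc_48_0 lc_g_rc_7_1 lc_g_rc_16_1 lc_g_rc_24_1 lc_g_rc_31_1 lc_g_rc_7_1 lc_g_Cert_tree lc_g_rc_48_0 lc_g_rc_7_1 lc_g_rc_16_1 lc_g_rc_24_1 lc_g_rc_31_1 lc_g_rc_48_0 lc_g_rc_31_1 lc_g_rc_47_2 lc_g_rc_50_2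 lc_g_rc_50_2 lc_g_rc_49_2 lc_g_rc_7_1 lc_g_rc_24_1 lc_g_rc_24_1 lc_g_rc_37_1 lc_g_rc_16_1) (@D3.rec (fun _ => (Cert rels S Gen.g)) lc_g_rc_16_1 lc_g_rc_24_1 lc_g_rc_7_1 lc_g_rc_16_1 lc_g_rc_24_1 lc_g_rc_7_1 lc_g_rc_16_1 lc_g_rc_7_1 lc_g_rc_16_1 lc_g_rc_16_1 lc_g_rc_24_1 lc_g_rc_16_1 lc_g_rc_49_4 lc_g_rc_16_1 lc_g_rc_24_1 lc_g_rc_7_1 lc_g_rc_16_1 lc_g_rc_7_1 lc_g_rc_16_1 lc_g_rc_16_1 lc_g_rc_24_1 lc_g_rc_7_1 lc_g_rc_7_1 lc_g_rc_16_1 lc_g_rc_24_1 lc_g_rc_7_1 lc_g_rc_16_1 lc_g_rc_7_1 lc_g_rc_44_1 lc_g_rc_31_1 lc_g_rc_44_3 lc_g_rc_31_1 lc_g_rc_37_1 lc_g_rc_31_3 lc_g_rc_37_1 lc_g_rc_49_2 lc_g_rc_24_1 lc_g_Cert_tree lc_g_rc_48_0 lc_g_rc_24_1 lc_g_rc_37_1 lc_g_rc_16_1 lc_g_rc_24_1 lc_g_rc_49_2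 lc_g_rc_24_1 lc_g_rc_37_1 lc_g_rc_24_1 lc_g_rc_24_1 lc_g_rc_44_3 lc_g_rc_31_1 lc_g_rc_16_1) (@D3.rec (fun _ => (Cert rels S Gen.g)) lc_g_rc_37_1 lc_g_rc_37_1 lc_g_rc_44_3 lc_g_rc_24_1 lc_g_rc_47_2 lc_g_rc_7_1 lc_g_rc_16_1 lc_g_Cert_tree lc_g_rc_48_0 lc_g_rc_44_3 lc_g_rc_16_1 lc_g_rc_37_3 lc_g_rc_24_1 lc_g_rc_37_1 lc_g_rc_16_1 lc_g_rc_24_1 lc_g_rc_7_1 lc_g_rc_16_1 lc_g_rc_24_1 lc_g_rc_50_2 lc_g_rc_24_1 lc_g_rc_50_2 lc_g_rc_50_2 lc_g_rc_24_1 lc_g_rc_16_1 lc_g_rc_24_1 lc_g_rc_44_3 lc_g_rc_7_1 lc_g_rc_16_1 lc_g_rc_24_1 lc_g_rc_16_1 lc_g_rc_24_1 lc_g_rc_7_1 lc_g_rc_16_1 lc_g_rc_49_2 lc_g_rc_16_1 lc_g_rc_24_1 lc_g_rc_7_1 lc_g_rc_16_1 lc_g_rc_31_1 lc_g_rc_24_1 lc_g_rc_7_1 lc_g_rc_7_1 lc_g_rc_16_1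 lc_g_rc_16_1 lc_g_rc_24_1 lc_g_rc_7_1 lc_g_rc_16_1 lc_g_rc_7_1 lc_g_rc_16_1 lc_g_rc_24_1) (@D3.rec (fun _ => (Cert rels S Gen.g)) lc_g_rc_47_2 lc_g_rc_50_2 lc_g_rc_44_3 lc_g_rc_37_1 lc_g_rc_16_1 lc_g_rc_24_1 lc_g_rc_7_3 lc_g_rc_7_1 lc_g_rc_16_1 lc_g_rc_31_1 lc_g_rc_49_4 lc_g_rc_24_1 lc_g_rc_16_3 lc_g_rc_7_3 lc_g_rc_24_1 lc_g_rc_47_2 lc_g_Cert_tree lc_g_rc_48_0 lc_g_rc_16_1 lc_g_rc_24_1 lc_g_rc_7_1 lc_g_rc_16_1 lc_g_rc_24_1 lc_g_rc_7_1 lc_g_rc_47_2 lc_g_rc_44_3 lc_g_rc_7_1 lc_g_rc_16_1 lc_g_rc_16_1 lc_g_rc_24_1 lc_g_rc_7_1 lc_g_rc_16_1 lc_g_rc_7_1 lc_g_rc_7_1 lc_g_rc_16_1 lc_g_rc_7_1 lc_g_rc_16_1 lc_g_rc_7_1 lc_g_Cert_tree lc_g_rc_48_0 lc_g_rc_49_2 lc_g_rc_7_1 lc_g_Cert_tree lc_g_rc_48_0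 lc_g_rc_7_1 lc_g_rc_16_1 lc_g_rc_7_1 lc_g_rc_7_1 lc_g_rc_16_1 lc_g_rc_49_2 lc_g_rc_24_1) (@D3.rec (fun _ => (Cert rels S Gen.g)) lc_g_rc_24_1 lc_g_rc_16_1 lc_g_rc_7_1 lc_g_rc_7_3 lc_g_rc_16_1 lc_g_rc_24_1 lc_g_rc_16_1 lc_g_rc_24_1 lc_g_rc_7_1 lc_g_rc_16_1 lc_g_rc_7_1 lc_g_rc_7_1 lc_g_rc_16_1 lc_g_rc_16_3 lc_g_rc_16_1 lc_g_rc_24_1 lc_g_rc_16_1 lc_g_rc_24_1 lc_g_rc_37_1 lc_g_rc_7_3 lc_g_rc_37_1 lc_g_rc_50_2 lc_g_rc_50_2 lc_g_rc_37_1 lc_g_rc_47_2 lc_g_rc_50_2 lc_g_rc_16_1 lc_g_rc_24_1 lc_g_rc_16_1 lc_g_rc_24_1 lc_g_rc_16_1 lc_g_rc_7_1 lc_g_rc_16_1 lc_g_rc_24_1 lc_g_rc_16_1 lc_g_rc_24_1 lc_g_rc_7_1 lc_g_rc_16_1 lc_g_rc_24_1 lc_g_rc_7_1 lc_g_rc_16_3 lc_g_rc_16_1 lc_g_rc_7_1 lc_g_rc_16_1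 lc_g_rc_7_1 lc_g_rc_16_1 lc_g_rc_7_1 lc_g_rc_16_1 lc_g_rc_7_1 lc_g_rc_16_1 lc_g_rc_44_1) (@D3.rec (fun _ => (Cert rels S Gen.g)) lc_g_rc_49_4 lc_g_rc_24_1 lc_g_rc_16_1 lc_g_rc_16_1 lc_g_rc_37_1 lc_g_rc_7_1 lc_g_rc_16_1 lc_g_rc_49_2 lc_g_rc_44_3 lc_g_rc_37_1 lc_g_rc_31_1 lc_g_rc_37_1 lc_g_rc_7_3 lc_g_rc_31_1 lc_g_Cert_tree lc_g_rc_48_0 lc_g_rc_47_2 lc_g_rc_37_1 lc_g_rc_47_2 lc_g_rc_16_1 lc_g_rc_16_3 lc_g_rc_16_1 lc_g_rc_24_1 lc_g_rc_16_1 lc_g_rc_24_1 lc_g_rc_47_2 lc_g_rc_7_3 lc_g_rc_7_1 lc_g_rc_16_1 lc_g_rc_37_1 lc_g_rc_7_1 lc_g_rc_16_1 lc_g_rc_24_1 lc_g_rc_47_2 lc_g_rc_7_1 lc_g_rc_49_2 lc_g_rc_16_1 lc_g_rc_7_1 lc_g_rc_16_1 lc_g_rc_7_3 lc_g_rc_50_0 lc_g_rc_7_1 lc_g_rc_7_1 lc_g_rc_16_1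 lc_g_rc_24_1 lc_g_rc_44_1 lc_g_rc_7_1 lc_g_rc_16_1 lc_g_rc_7_1 lc_g_rc_16_1 lc_g_rc_31_1) (@D3.rec (fun _ => (Cert rels S Gen.g)) lc_g_rc_16_1 lc_g_rc_31_1 lc_g_rc_44_1 lc_g_rc_44_1 lc_g_rc_37_1 lc_g_rc_16_1 lc_g_rc_16_1 lc_g_rc_47_2 lc_g_rc_49_2 lc_g_rc_50_2 lc_g_rc_37_1 lc_g_Cert_tree lc_g_rc_37_1 lc_g_rc_44_1 lc_g_rc_48_0 lc_g_rc_44_3 lc_g_rc_50_0 lc_g_rc_37_1 lc_g_Cert_tree lc_g_rc_50_2 lc_g_rc_37_1 lc_g_Cert_tree lc_g_rc_50_2 lc_g_rc_50_2 lc_g_Cert_tree lc_g_rc_48_0 lc_g_rc_49_2 lc_g_rc_50_2 lc_g_rc_16_1 lc_g_rc_47_0 lc_g_rc_7_1 lc_g_rc_31_1 lc_g_rc_37_1 lc_g_rc_16_1 lc_g_rc_47_2 lc_g_rc_24_1 lc_g_rc_16_1 lc_g_rc_24_1 lc_g_rc_7_3 lc_g_rc_7_3 lc_g_rc_24_1 lc_g_rc_47_2 lc_g_rc_7_1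 lc_g_rc_16_1 lc_g_rc_24_1 lc_g_rc_16_1 lc_g_rc_24_1 lc_g_rc_7_3 lc_g_rc_7_1 lc_g_rc_16_1 lc_g_rc_31_1) (@D3.rec (fun _ => (Cert rels S Gen.g)) lc_g_rc_24_1 lc_g_rc_37_3 lc_g_rc_16_1 lc_g_rc_7_1 lc_g_rc_16_1 lc_g_rc_7_1 lc_g_rc_16_1 lc_g_rc_7_1 lc_g_rc_16_1 lc_g_rc_24_1 lc_g_rc_7_3 lc_g_rc_24_1 lc_g_rc_16_1 lc_g_rc_31_1 lc_g_rc_37_1 lc_g_rc_16_1 lc_g_rc_24_1 lc_g_rc_16_1 lc_g_rc_24_1 lc_g_rc_16_1 lc_g_rc_7_3 lc_g_rc_24_1 lc_g_rc_16_1 lc_g_rc_16_3 lc_g_rc_44_5 lc_g_rc_16_1 lc_g_rc_7_1 lc_g_rc_16_1 lc_g_rc_24_1 lc_g_rc_37_1 lc_g_rc_16_1 lc_g_rc_24_1 lc_g_rc_47_0 lc_g_rc_7_1 lc_g_rc_16_1 lc_g_rc_24_1 lc_g_rc_7_1 lc_g_rc_16_1 lc_g_rc_24_1 lc_g_rc_7_1 lc_g_rc_16_1 lc_g_rc_48_1 lc_g_rc_24_1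 lc_g_rc_50_2 lc_g_rc_16_1 lc_g_rc_16_1 lc_g_rc_31_1 lc_g_rc_47_2 lc_g_rc_7_1 lc_g_rc_16_1 lc_g_rc_24_1) (@D3.rec (fun _ => (Cert rels S Gen.g)) lc_g_Cert_tree lc_g_rc_48_0 lc_g_rc_7_1 lc_g_rc_7_3 lc_g_Cert_tree lc_g_Cert_tree lc_g_rc_48_0 lc_g_rc_7_1 lc_g_rc_16_1 lc_g_rc_7_1 lc_g_rc_16_1 lc_g_rc_16_1 lc_g_rc_37_1 lc_g_Cert_tree lc_g_rc_48_0 lc_g_rc_37_3 lc_g_rc_7_1 lc_g_rc_7_1 lc_g_rc_16_1 lc_g_rc_47_2 lc_g_rc_50_2 lc_g_rc_24_1 lc_g_rc_49_2 lc_g_rc_24_3 lc_g_rc_49_4 lc_g_rc_7_1 lc_g_rc_16_1 lc_g_rc_7_1 lc_g_rc_7_1 lc_g_rc_16_1 lc_g_rc_24_1 lc_g_rc_49_4 lc_g_rc_31_1 lc_g_rc_7_3 lc_g_rc_24_1 lc_g_rc_7_1 lc_g_rc_16_1 lc_g_rc_31_1 lc_g_rc_7_3 lc_g_rc_37_1 lc_g_rc_7_1 lc_g_rc_50_2 lc_g_rc_7_3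 lc_g_rc_7_1 lc_g_rc_7_1 lc_g_rc_44_3 lc_g_rc_16_1 lc_g_rc_31_1 lc_g_rc_37_1 lc_g_rc_16_1 lc_g_rc_16_1) (@D3.rec (fun _ => (Cert rels S Gen.g)) lc_g_rc_7_1 lc_g_rc_7_1 lc_g_rc_49_2 lc_g_rc_24_1 lc_g_rc_49_2 lc_g_rc_7_1 lc_g_rc_16_3 lc_g_rc_16_1 lc_g_rc_7_1 lc_g_rc_16_1 lc_g_rc_31_1 lc_g_rc_7_1 lc_g_rc_49_4 lc_g_rc_37_1 lc_g_rc_49_2 lc_g_rc_16_1 lc_g_rc_37_1 lc_g_Cert_tree lc_g_rc_7_1 lc_g_rc_16_1 lc_g_Cert_tree lc_g_rc_48_0 lc_g_rc_7_1 lc_g_rc_16_1 lc_g_rc_31_1 lc_g_rc_16_1 lc_g_rc_37_1 lc_g_rc_7_1 lc_g_rc_16_1 lc_g_rc_24_1 lc_g_rc_7_1 lc_g_rc_7_1 lc_g_rc_16_1 lc_g_rc_31_1 lc_g_rc_7_1 lc_g_rc_16_1 lc_g_rc_24_1 lc_g_rc_31_1 lc_g_rc_47_2 lc_g_rc_16_1 lc_g_rc_24_1 lc_g_rc_7_1 lc_g_rc_16_3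 lc_g_rc_16_1 lc_g_rc_50_0 lc_g_rc_7_3 lc_g_rc_44_3 lc_g_rc_49_2 lc_g_rc_16_1 lc_g_rc_24_1 lc_g_rc_7_1) (@D3.rec (fun _ => (Cert rels S Gen.g)) lc_g_rc_16_1 lc_g_rc_31_1 lc_g_rc_7_1 lc_g_rc_16_1 lc_g_rc_31_1 lc_g_rc_24_1 lc_g_rc_7_1 lc_g_rc_16_1 lc_g_rc_50_0 lc_g_rc_7_1 lc_g_rc_16_1 lc_g_rc_24_1 lc_g_rc_7_1 lc_g_rc_16_1 lc_g_rc_31_1 lc_g_rc_7_1 lc_g_rc_7_1 lc_g_rc_16_1 lc_g_rc_24_1 lc_g_rc_7_1 lc_g_rc_16_1 lc_g_rc_24_1 lc_g_rc_31_1 lc_g_rc_7_1 lc_g_rc_44_1 lc_g_rc_37_3 lc_g_rc_37_1 lc_g_rc_44_5 lc_g_rc_16_1 lc_g_rc_24_1 lc_g_rc_7_1 lc_g_rc_16_1 lc_g_rc_31_1 lc_g_rc_16_1 lc_g_rc_7_1 lc_g_Cert_tree lc_g_rc_47_0 lc_g_rc_50_0 lc_g_rc_48_0 lc_g_rc_24_1 lc_g_rc_49_2 lc_g_rc_37_1 lc_g_rc_50_2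 lc_g_rc_7_1 lc_g_rc_24_1 lc_g_rc_31_1 lc_g_rc_37_3 lc_g_rc_48_0 lc_g_rc_44_1 lc_g_rc_49_2 lc_g_rc_47_2) (@D3.rec (fun _ => (Cert rels S Gen.g)) lc_g_rc_16_1 lc_g_rc_7_1 lc_g_rc_16_1 lc_g_rc_24_1 lc_g_Cert_tree lc_g_rc_7_1 lc_g_rc_16_1 lc_g_rc_31_1 lc_g_Cert_tree lc_g_rc_48_0 lc_g_rc_7_1 lc_g_Cert_tree lc_g_rc_48_0 lc_g_rc_7_1 lc_g_rc_16_1 lc_g_rc_31_1 lc_g_rc_7_1 lc_g_rc_16_1 lc_g_rc_47_2 lc_g_rc_7_1 lc_g_rc_16_1 lc_g_rc_24_1 lc_g_rc_7_1 lc_g_rc_16_1 lc_g_rc_31_1 lc_g_rc_49_4 lc_g_rc_16_1 lc_g_rc_7_1 lc_g_rc_16_1 lc_g_rc_24_1 lc_g_rc_7_1 lc_g_rc_16_1 lc_g_rc_31_1 lc_g_rc_24_1 lc_g_rc_7_1 lc_g_rc_16_1 lc_g_rc_47_2 lc_g_rc_7_1 lc_g_rc_16_1 lc_g_rc_7_1 lc_g_rc_7_1 lc_g_rc_7_1 lc_g_rc_7_1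 lc_g_rc_7_1 lc_g_rc_16_1 lc_g_rc_31_1 lc_g_rc_7_1 lc_g_rc_16_1 lc_g_rc_47_2 lc_g_rc_7_1 lc_g_rc_16_1) (@D3.rec (fun _ => (Cert rels S Gen.g)) lc_g_rc_16_1 lc_g_rc_50_2 lc_g_rc_31_1 lc_g_rc_16_1 lc_g_rc_47_2 lc_g_rc_24_1 lc_g_rc_50_2 lc_g_rc_47_2 lc_g_rc_50_2 lc_g_rc_24_1 lc_g_rc_50_2 lc_g_rc_7_1 lc_g_rc_7_1 lc_g_rc_16_1 lc_g_rc_24_1 lc_g_rc_7_1 lc_g_rc_16_1 lc_g_rc_31_1 lc_g_rc_24_1 lc_g_rc_7_1 lc_g_rc_44_3 lc_g_rc_7_1 lc_g_rc_16_1 lc_g_rc_31_1 lc_g_rc_7_1 lc_g_rc_16_1 lc_g_rc_47_2 lc_g_rc_7_1 lc_g_rc_7_1 lc_g_rc_50_2 lc_g_rc_16_1 lc_g_rc_24_1 lc_g_rc_37_3 lc_g_rc_7_1 lc_g_rc_16_1 lc_g_rc_31_1 lc_g_rc_49_2 lc_g_rc_16_1 lc_g_rc_24_1 lc_g_rc_37_3 lc_g_rc_7_1 lc_g_rc_16_1 lc_g_rc_31_1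 lc_g_rc_24_1 lc_g_rc_7_1 lc_g_rc_16_1 lc_g_rc_47_2 lc_g_rc_7_1 lc_g_rc_16_1 lc_g_rc_31_1 lc_g_rc_7_1) (@D3.rec (fun _ => (Cert rels S Gen.g)) lc_g_rc_16_1 lc_g_rc_7_3 lc_g_rc_47_2 lc_g_rc_7_1 lc_g_rc_24_1 lc_g_rc_16_1 lc_g_rc_50_2 lc_g_rc_16_1 lc_g_rc_7_1 lc_g_rc_16_1 lc_g_rc_31_1 lc_g_rc_7_1 lc_g_rc_7_1 lc_g_rc_50_2 lc_g_rc_37_1 lc_g_rc_37_3 lc_g_rc_16_1 lc_g_rc_24_1 lc_g_rc_47_0 lc_g_rc_7_1 lc_g_rc_16_1 lc_g_rc_31_1 lc_g_rc_24_1 lc_g_rc_7_1 lc_g_rc_16_1 lc_g_rc_31_1 lc_g_rc_7_1 lc_g_rc_16_1 lc_g_rc_16_1 lc_g_rc_31_1 lc_g_rc_31_1 lc_g_rc_37_1 lc_g_rc_16_1 lc_g_rc_16_1 lc_g_rc_7_1 lc_g_rc_16_1 lc_g_rc_37_1 lc_g_rc_7_1 lc_g_rc_16_1 lc_g_rc_37_3 lc_g_rc_7_1 lc_g_rc_16_1 lc_g_rc_7_1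 lc_g_rc_7_1 lc_g_rc_16_1 lc_g_rc_24_1 lc_g_rc_7_1 lc_g_rc_16_1 lc_g_rc_7_1 lc_g_rc_16_1 lc_g_rc_50_2) (@D3.rec (fun _ => (Cert rels S Gen.g)) lc_g_rc_7_1 lc_g_rc_7_1 lc_g_rc_16_1 lc_g_rc_16_1 lc_g_rc_31_1 lc_g_rc_47_2 lc_g_rc_50_2 lc_g_rc_7_1 lc_g_rc_24_1 lc_g_rc_50_2 lc_g_rc_7_1 lc_g_rc_47_2 lc_g_rc_31_1 lc_g_rc_16_1 lc_g_rc_24_1 lc_g_rc_31_1 lc_g_rc_31_1 lc_g_rc_37_1 lc_g_rc_7_1 lc_g_rc_16_1 lc_g_rc_50_0 lc_g_rc_16_1 lc_g_rc_7_1 lc_g_rc_7_1 lc_g_rc_16_1 lc_g_rc_7_1 lc_g_rc_7_1 lc_g_rc_16_1 lc_g_rc_7_1 lc_g_rc_7_1 lc_g_rc_7_1 lc_g_rc_16_1 lc_g_rc_31_1 lc_g_rc_7_1 lc_g_rc_16_1 lc_g_rc_24_1 lc_g_rc_7_1 lc_g_rc_16_1 lc_g_rc_31_1 lc_g_rc_47_2 lc_g_rc_16_1 lc_g_rc_50_2 lc_g_rc_7_1 lc_g_rc_16_1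 lc_g_rc_31_1 lc_g_rc_16_1 lc_g_rc_44_5 lc_g_rc_49_2 lc_g_rc_49_2 lc_g_Cert_tree lc_g_rc_48_0) (@D3.rec (fun _ => (Cert rels S Gen.g)) lc_g_rc_50_2 lc_g_rc_44_5 lc_g_rc_7_1 lc_g_Cert_tree lc_g_rc_48_0 lc_g_rc_50_0 lc_g_rc_49_0 lc_g_rc_31_1 lc_g_rc_24_1 lc_g_rc_7_1 lc_g_rc_16_1 lc_g_rc_50_0 lc_g_rc_16_1 lc_g_rc_31_1 lc_g_rc_44_5 lc_g_rc_16_1 lc_g_rc_7_1 lc_g_rc_7_1 lc_g_rc_7_1 lc_g_rc_24_1 lc_g_rc_31_1 lc_g_rc_7_1 lc_g_rc_16_1 lc_g_rc_37_1 lc_g_rc_7_1 lc_g_rc_16_1 lc_g_rc_24_1 lc_g_rc_44_3 lc_g_rc_7_1 lc_g_rc_16_1 lc_g_rc_24_1 lc_g_rc_16_1 lc_g_rc_37_1 lc_g_rc_16_3 lc_g_rc_7_3 lc_g_rc_44_1 lc_g_rc_24_1 lc_g_rc_7_1 lc_g_rc_16_1 lc_g_rc_31_1 lc_g_rc_7_1 lc_g_rc_7_1 lc_g_rc_16_1 lc_g_rc_31_1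 lc_g_rc_7_1 lc_g_rc_7_1 lc_g_rc_7_1 lc_g_rc_7_1 lc_g_rc_16_1 lc_g_rc_31_1 lc_g_rc_7_1) (@D3.rec (fun _ => (Cert rels S Gen.g)) lc_g_rc_16_1 lc_g_rc_50_0 lc_g_rc_16_1 lc_g_rc_44_5 lc_g_rc_31_3 lc_g_rc_7_1 lc_g_rc_16_1 lc_g_rc_24_3 lc_g_rc_16_1 lc_g_rc_44_3 lc_g_rc_50_2 lc_g_rc_50_2 lc_g_rc_47_0 lc_g_rc_47_2 lc_g_rc_47_2 lc_g_rc_50_0 lc_g_rc_16_1 lc_g_rc_47_0 lc_g_rc_49_2 lc_g_rc_49_2 lc_g_Cert_tree lc_g_rc_48_0 lc_g_rc_49_2 lc_g_Cert_tree lc_g_rc_48_0 lc_g_rc_50_2 lc_g_Cert_tree lc_g_rc_48_0 lc_g_rc_7_1 lc_g_rc_16_1 lc_g_rc_37_3 lc_g_rc_16_1 lc_g_rc_31_1 lc_g_rc_7_1 lc_g_rc_16_1 lc_g_rc_7_1 lc_g_rc_7_1 lc_g_rc_7_1 lc_g_rc_7_1 lc_g_rc_16_1 lc_g_rc_31_1 lc_g_rc_44_3 lc_g_rc_16_1 lc_g_rc_37_3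 lc_g_rc_7_1 lc_g_rc_16_1 lc_g_rc_7_1 lc_g_rc_44_3 lc_g_rc_7_1 lc_g_rc_16_1 lc_g_rc_50_2) (@D3.rec (fun _ => (Cert rels S Gen.g)) lc_g_rc_7_1 lc_g_rc_7_1 lc_g_rc_16_1 lc_g_rc_7_3 lc_g_rc_44_1 lc_g_rc_37_1 lc_g_rc_7_1 lc_g_rc_16_1 lc_g_rc_31_1 lc_g_rc_24_1 lc_g_rc_7_1 lc_g_rc_16_1 lc_g_rc_50_2 lc_g_rc_44_1 lc_g_rc_47_2 lc_g_rc_7_1 lc_g_rc_16_1 lc_g_rc_37_1 lc_g_rc_24_1 lc_g_rc_50_2 lc_g_rc_7_3 lc_g_rc_24_1 lc_g_rc_7_1 lc_g_rc_7_3 lc_g_rc_7_1 lc_g_rc_16_1 lc_g_Cert_tree lc_g_rc_48_0 lc_g_rc_7_1 lc_g_rc_16_1 lc_g_rc_31_1 lc_g_rc_7_1 lc_g_rc_7_1 lc_g_rc_7_1 lc_g_rc_7_1 lc_g_rc_16_1 lc_g_rc_31_1 lc_g_rc_7_1 lc_g_rc_16_1 lc_g_rc_7_1 lc_g_rc_7_1 lc_g_rc_24_1 lc_g_rc_16_1 lc_g_rc_7_1 lc_g_rc_7_1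 lc_g_rc_7_1 lc_g_rc_7_1 lc_g_rc_48_0 lc_g_rc_50_2 lc_g_rc_16_1 lc_g_rc_50_2)
def ce_g_21 : D2 → D3 → (Cert rels S Gen.g) := @D2.rec (fun _ => D3 → (Cert rels S Gen.g)) (@D3.rec (fun _ => (Cert rels S Gen.g)) lc_g_rc_16_1 lc_g_rc_49_4 lc_g_rc_7_1 lc_g_rc_16_1 lc_g_rc_31_1 lc_g_rc_7_1 lc_g_rc_16_1 lc_g_rc_24_1 lc_g_rc_7_3 lc_g_rc_50_2 lc_g_rc_7_3 lc_g_rc_50_2 lc_g_rc_50_2 lc_g_rc_7_1 lc_g_rc_16_1 lc_g_rc_31_1 lc_g_rc_7_1 lc_g_rc_7_1 lc_g_rc_16_1 lc_g_rc_7_1 lc_g_rc_16_3 lc_g_rc_16_1 lc_g_rc_16_1 lc_g_rc_16_1 lc_g_rc_7_1 lc_g_rc_47_2 lc_g_rc_7_1 lc_g_rc_31_1 lc_g_rc_7_1 lc_g_rc_50_2 lc_g_rc_47_2 lc_g_rc_44_3 lc_g_rc_16_1 lc_g_rc_31_1 lc_g_rc_16_3 lc_g_rc_16_1 lc_g_rc_24_1 lc_g_rc_16_1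 lc_g_rc_37_3 lc_g_rc_24_3 lc_g_rc_44_3 lc_g_rc_7_1 lc_g_rc_16_1 lc_g_rc_37_1 lc_g_rc_16_1 lc_g_rc_24_1 lc_g_rc_50_2 lc_g_rc_7_1 lc_g_rc_16_1 lc_g_rc_31_1 lc_g_rc_7_1) (@D3.rec (fun _ => (Cert rels S Gen.g)) lc_g_rc_16_1 lc_g_rc_31_1 lc_g_rc_7_1 lc_g_rc_16_1 lc_g_rc_49_2 lc_g_rc_49_2 lc_g_rc_7_1 lc_g_rc_16_1 lc_g_rc_16_1 lc_g_rc_7_1 lc_g_rc_16_1 lc_g_rc_7_1 lc_g_rc_24_1 lc_g_rc_16_1 lc_g_rc_50_0 lc_g_rc_16_1 lc_g_Cert_tree lc_g_rc_48_0 lc_g_rc_48_0 lc_g_rc_7_1 lc_g_rc_7_1 lc_g_rc_16_1 lc_g_rc_24_1 lc_g_rc_7_1 lc_g_rc_16_1 lc_g_rc_7_1 lc_g_rc_7_1 lc_g_rc_49_2 lc_g_rc_7_1 lc_g_rc_16_1 lc_g_rc_48_0 lc_g_rc_7_1 lc_g_rc_7_1 lc_g_rc_16_1 lc_g_rc_31_1 lc_g_rc_31_1 lc_g_rc_16_3 lc_g_rc_49_2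 lc_g_rc_7_1 lc_g_rc_7_1 lc_g_rc_16_1 lc_g_rc_16_1 lc_g_rc_24_1 lc_g_rc_31_1 lc_g_rc_24_1 lc_g_rc_49_2 lc_g_rc_48_0 lc_g_rc_44_5 lc_g_Cert_tree lc_g_rc_31_1 lc_g_rc_44_3) (@D3.rec (fun _ => (Cert rels S Gen.g)) lc_g_rc_48_0 lc_g_rc_16_1 lc_g_rc_37_1 lc_g_Cert_tree lc_g_rc_16_1 lc_g_rc_37_1 lc_g_Cert_tree lc_g_rc_7_1 lc_g_rc_16_1 lc_g_Cert_tree lc_g_rc_48_0 lc_g_rc_7_1 lc_g_rc_16_1 lc_g_rc_31_1 lc_g_rc_7_1 lc_g_rc_44_3 lc_g_rc_24_1 lc_g_Cert_tree lc_g_rc_49_4 lc_g_rc_49_4 lc_g_Cert_tree lc_g_rc_48_0 lc_g_rc_16_1 lc_g_rc_24_1 lc_g_rc_44_3 lc_g_rc_7_1 lc_g_rc_16_1 lc_g_rc_31_1 lc_g_rc_50_2 lc_g_rc_24_1 lc_g_rc_47_2 lc_g_rc_7_1 lc_g_rc_16_1 lc_g_rc_31_1 lc_g_rc_24_1 lc_g_rc_7_1 lc_g_rc_16_1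 lc_g_rc_7_1 lc_g_rc_16_1 lc_g_rc_24_1 lc_g_rc_31_1 lc_g_rc_47_2 lc_g_rc_47_2 lc_g_rc_37_3 lc_g_rc_48_1 lc_g_rc_37_3 lc_g_Cert_tree lc_g_rc_48_0 lc_g_rc_50_0 lc_g_Cert_tree lc_g_rc_48_0) (@D3.rec (fun _ => (Cert rels S Gen.g)) lc_g_rc_7_1 lc_g_rc_16_1 lc_g_rc_31_1 lc_g_rc_24_1 lc_g_rc_7_1 lc_g_rc_16_1 lc_g_rc_16_1 lc_g_rc_24_1 lc_g_rc_24_1 lc_g_rc_7_3 lc_g_rc_7_1 lc_g_rc_16_1 lc_g_rc_24_1 lc_g_rc_50_2 lc_g_rc_7_1 lc_g_rc_16_1 lc_g_rc_31_1 lc_g_rc_37_3 lc_g_rc_50_2 lc_g_rc_50_2 lc_g_Cert_tree lc_g_rc_48_0 lc_g_rc_47_2 lc_g_Cert_tree lc_g_rc_48_0 lc_g_rc_7_1 lc_g_rc_16_1 lc_g_rc_16_1 lc_g_rc_24_1 lc_g_Cert_tree lc_g_rc_48_0 lc_g_rc_7_1 lc_g_rc_16_1 lc_g_rc_24_1 lc_g_rc_37_1 lc_g_rc_49_2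 lc_g_rc_16_1 lc_g_rc_16_1 lc_g_rc_24_1 lc_g_rc_7_1 lc_g_rc_7_1 lc_g_rc_16_1 lc_g_rc_7_1 lc_g_rc_16_1 lc_g_rc_31_1 lc_g_rc_7_1 lc_g_rc_7_1 lc_g_rc_7_1 lc_g_rc_16_1 lc_g_rc_31_1 lc_g_rc_7_1) (@D3.rec (fun _ => (Cert rels S Gen.g)) lc_g_rc_16_1 lc_g_rc_31_1 lc_g_rc_7_1 lc_g_rc_7_1 lc_g_rc_7_1 lc_g_rc_16_1 lc_g_rc_31_1 lc_g_rc_16_3 lc_g_rc_7_3 lc_g_rc_7_1 lc_g_rc_16_1 lc_g_rc_47_0 lc_g_rc_44_3 lc_g_rc_49_2 lc_g_rc_37_1 lc_g_Cert_tree lc_g_rc_16_1 lc_g_rc_37_1 lc_g_Cert_tree lc_g_rc_49_2 lc_g_rc_49_2 lc_g_Cert_tree lc_g_rc_48_0 lc_g_rc_16_1 lc_g_rc_24_1 lc_g_rc_50_2 lc_g_rc_7_1 lc_g_rc_16_1 lc_g_rc_31_1 lc_g_rc_16_1 lc_g_rc_24_1 lc_g_rc_7_1 lc_g_rc_24_1 lc_g_rc_31_1 lc_g_rc_24_1 lc_g_rc_50_0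 lc_g_rc_7_1 lc_g_rc_16_1 lc_g_rc_37_1 lc_g_rc_24_1 lc_g_rc_44_3 lc_g_rc_16_1 lc_g_rc_31_1 lc_g_rc_24_1 lc_g_rc_7_1 lc_g_Cert_tree lc_g_rc_48_0 lc_g_rc_16_3 lc_g_rc_16_1 lc_g_rc_31_1 lc_g_rc_16_1) (@D3.rec (fun _ => (Cert rels S Gen.g)) lc_g_rc_24_1 lc_g_rc_7_1 lc_g_rc_7_1 lc_g_rc_16_1 lc_g_rc_31_1 lc_g_rc_24_1 lc_g_rc_7_3 lc_g_rc_50_2 lc_g_rc_50_2 lc_g_rc_31_1 lc_g_rc_50_2 lc_g_rc_16_1 lc_g_rc_7_1 lc_g_rc_16_1 lc_g_rc_24_1 lc_g_rc_7_1 lc_g_rc_50_2 lc_g_rc_47_2 lc_g_rc_7_1 lc_g_rc_16_1 lc_g_rc_31_1 lc_g_rc_7_1 lc_g_rc_49_2 lc_g_rc_7_1 lc_g_rc_16_1 lc_g_rc_31_1 lc_g_rc_7_1 lc_g_rc_16_1 lc_g_rc_16_1 lc_g_rc_31_1 lc_g_rc_7_1 lc_g_rc_24_3 lc_g_rc_16_1 lc_g_rc_7_1 lc_g_rc_7_1 lc_g_rc_16_1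 lc_g_rc_24_1 lc_g_rc_16_1 lc_g_rc_47_2 lc_g_rc_7_1 lc_g_rc_16_1 lc_g_rc_31_1 lc_g_rc_24_1 lc_g_rc_7_1 lc_g_rc_16_1 lc_g_rc_47_2 lc_g_rc_24_3 lc_g_rc_49_2 lc_g_rc_49_4 lc_g_rc_49_2 lc_g_Cert_tree) (@D3.rec (fun _ => (Cert rels S Gen.g)) lc_g_rc_48_0 lc_g_rc_7_1 lc_g_rc_16_1 lc_g_rc_7_1 lc_g_rc_16_1 lc_g_rc_47_2 lc_g_rc_48_0 lc_g_rc_48_0 lc_g_rc_7_1 lc_g_rc_7_1 lc_g_rc_16_1 lc_g_rc_7_1 lc_g_rc_7_1 lc_g_rc_7_1 lc_g_Cert_tree lc_g_rc_48_0 lc_g_rc_49_2 lc_g_rc_48_0 lc_g_rc_7_1 lc_g_rc_7_1 lc_g_rc_49_2 lc_g_rc_50_2 lc_g_rc_16_1 lc_g_rc_49_2 lc_g_rc_7_1 lc_g_rc_16_1 lc_g_rc_7_1 lc_g_rc_16_1 lc_g_rc_7_1 lc_g_rc_7_1 lc_g_rc_16_3 lc_g_rc_16_1 lc_g_rc_24_1 lc_g_rc_50_2 lc_g_rc_7_3 lc_g_rc_37_1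 lc_g_rc_7_3 lc_g_rc_50_2 lc_g_rc_7_3 lc_g_rc_24_1 lc_g_rc_50_2 lc_g_rc_16_1 lc_g_rc_47_2 lc_g_rc_24_1 lc_g_rc_16_1 lc_g_rc_7_1 lc_g_rc_16_1 lc_g_rc_31_1 lc_g_rc_24_1 lc_g_rc_7_1 lc_g_rc_16_1) (@D3.rec (fun _ => (Cert rels S Gen.g)) lc_g_rc_7_1 lc_g_rc_16_1 lc_g_rc_7_1 lc_g_rc_16_1 lc_g_rc_16_3 lc_g_rc_7_1 lc_g_rc_7_1 lc_g_rc_7_1 lc_g_rc_7_1 lc_g_rc_50_0 lc_g_rc_24_1 lc_g_rc_7_1 lc_g_rc_16_1 lc_g_rc_7_1 lc_g_rc_49_2 lc_g_rc_16_1 lc_g_rc_44_5 lc_g_Cert_tree lc_g_rc_16_1 lc_g_rc_37_1 lc_g_Cert_tree lc_g_rc_50_2 lc_g_rc_44_5 lc_g_Cert_tree lc_g_rc_48_0 lc_g_rc_47_2 lc_g_rc_16_1 lc_g_rc_50_2 lc_g_rc_24_1 lc_g_rc_24_1 lc_g_rc_7_3 lc_g_rc_7_1 lc_g_rc_16_1 lc_g_rc_31_1 lc_g_rc_47_2 lc_g_rc_48_0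 lc_g_rc_7_1 lc_g_rc_16_1 lc_g_rc_7_1 lc_g_rc_16_1 lc_g_rc_24_1 lc_g_rc_47_2 lc_g_rc_7_1 lc_g_rc_44_1 lc_g_rc_16_1 lc_g_rc_16_1 lc_g_rc_7_1 lc_g_rc_16_1 lc_g_rc_16_1 lc_g_rc_24_1 lc_g_rc_7_1) (@D3.rec (fun _ => (Cert rels S Gen.g)) lc_g_rc_7_1 lc_g_rc_16_1 lc_g_rc_31_1 lc_g_rc_37_1 lc_g_rc_16_1 lc_g_rc_50_0 lc_g_rc_44_1 lc_g_rc_16_1 lc_g_rc_16_3 lc_g_rc_16_1 lc_g_rc_49_2 lc_g_rc_50_2 lc_g_rc_50_2 lc_g_rc_37_1 lc_g_Cert_tree lc_g_rc_48_0 lc_g_rc_37_1 lc_g_rc_37_1 lc_g_rc_48_0 lc_g_rc_50_0 lc_g_rc_16_1 lc_g_rc_47_0 lc_g_Cert_tree lc_g_rc_48_0 lc_g_rc_50_2 lc_g_rc_16_1 lc_g_rc_44_5 lc_g_Cert_tree lc_g_rc_48_0 lc_g_rc_50_2 lc_g_Cert_tree lc_g_rc_48_0 lc_g_rc_49_2 lc_g_rc_24_1 lc_g_rc_16_1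 lc_g_rc_44_3 lc_g_rc_16_1 lc_g_rc_37_1 lc_g_rc_24_1 lc_g_rc_16_1 lc_g_rc_50_0 lc_g_rc_24_1 lc_g_rc_50_2 lc_g_rc_44_1 lc_g_rc_16_1 lc_g_rc_31_1 lc_g_rc_24_1 lc_g_rc_7_1 lc_g_rc_16_1 lc_g_rc_7_1 lc_g_rc_16_1) (@D3.rec (fun _ => (Cert rels S Gen.g)) lc_g_rc_31_1 lc_g_rc_24_1 lc_g_rc_7_1 lc_g_rc_16_1 lc_g_rc_16_1 lc_g_rc_31_1 lc_g_rc_7_1 lc_g_rc_7_1 lc_g_rc_7_1 lc_g_rc_7_1 lc_g_rc_16_1 lc_g_rc_24_1 lc_g_rc_24_1 lc_g_rc_49_2 lc_g_rc_37_1 lc_g_rc_7_1 lc_g_rc_16_1 lc_g_rc_31_1 lc_g_rc_24_1 lc_g_rc_7_3 lc_g_rc_49_2 lc_g_rc_16_1 lc_g_rc_16_1 lc_g_rc_16_1 lc_g_rc_16_1 lc_g_rc_31_1 lc_g_rc_37_1 lc_g_rc_16_1 lc_g_rc_16_1 lc_g_rc_47_0 lc_g_rc_7_1 lc_g_rc_16_1 lc_g_rc_7_1 lc_g_rc_16_1 lc_g_rc_7_1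 lc_g_rc_7_1 lc_g_rc_37_1 lc_g_rc_31_1 lc_g_rc_24_1 lc_g_rc_16_1 lc_g_rc_16_1 lc_g_rc_16_1 lc_g_rc_31_1 lc_g_rc_31_1 lc_g_rc_7_1 lc_g_rc_7_3 lc_g_Cert_tree lc_g_rc_47_2 lc_g_rc_48_0 lc_g_rc_47_0 lc_g_Cert_tree) (@D3.rec (fun _ => (Cert rels S Gen.g)) lc_g_Cert_tree lc_g_rc_48_0 lc_g_Cert_tree lc_g_rc_48_0 lc_g_rc_7_1 lc_g_rc_7_1 lc_g_rc_7_1 lc_g_rc_16_1 lc_g_rc_50_2 lc_g_rc_48_0 lc_g_rc_7_1 lc_g_rc_16_1 lc_g_rc_24_1 lc_g_rc_7_1 lc_g_rc_16_3 lc_g_rc_16_1 lc_g_rc_31_1 lc_g_rc_37_1 lc_g_rc_7_3 lc_g_rc_7_1 lc_g_rc_16_1 lc_g_rc_50_2 lc_g_rc_16_1 lc_g_rc_50_2 lc_g_rc_50_2 lc_g_rc_24_1 lc_g_rc_16_1 lc_g_rc_16_1 lc_g_rc_49_2 lc_g_rc_50_2 lc_g_rc_24_1 lc_g_rc_7_1 lc_g_rc_16_1 lc_g_rc_7_1 lc_g_rc_49_4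 lc_g_rc_49_4 lc_g_rc_7_1 lc_g_rc_16_1 lc_g_rc_37_1 lc_g_Cert_tree lc_g_rc_48_0 lc_g_rc_7_1 lc_g_Cert_tree lc_g_rc_48_0 lc_g_rc_7_1 lc_g_rc_16_1 lc_g_rc_31_1 lc_g_rc_24_3 lc_g_rc_16_1 lc_g_rc_37_1 lc_g_rc_7_1) (@D3.rec (fun _ => (Cert rels S Gen.g)) lc_g_rc_16_1 lc_g_rc_31_1 lc_g_rc_24_1 lc_g_rc_7_1 lc_g_rc_16_1 lc_g_rc_47_2 lc_g_rc_7_1 lc_g_rc_16_1 lc_g_rc_47_2 lc_g_rc_24_3 lc_g_rc_16_1 lc_g_rc_31_1 lc_g_rc_16_3 lc_g_rc_16_1 lc_g_rc_50_2 lc_g_rc_50_2 lc_g_rc_49_4 lc_g_rc_7_1 lc_g_rc_16_1 lc_g_rc_31_1 lc_g_rc_7_1 lc_g_rc_16_1 lc_g_rc_7_1 lc_g_rc_16_1 lc_g_rc_7_3 lc_g_rc_7_1 lc_g_rc_24_1 lc_g_rc_7_1 lc_g_rc_16_1 lc_g_rc_31_1 lc_g_rc_7_1 lc_g_rc_16_1 lc_g_rc_31_1 lc_g_rc_7_1 lc_g_rc_16_1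 lc_g_rc_7_1 lc_g_rc_16_1 lc_g_rc_50_0 lc_g_rc_48_0 lc_g_rc_16_1 lc_g_rc_31_1 lc_g_rc_7_1 lc_g_rc_16_1 lc_g_rc_31_1 lc_g_rc_7_1 lc_g_rc_16_1 lc_g_rc_47_2 lc_g_rc_16_1 lc_g_rc_16_1 lc_g_rc_31_1 lc_g_rc_7_3) (@D3.rec (fun _ => (Cert rels S Gen.g)) lc_g_rc_48_0 lc_g_rc_47_2 lc_g_rc_7_1 lc_g_rc_49_2 lc_g_rc_49_2 lc_g_rc_37_1 lc_g_rc_50_2 lc_g_rc_7_1 lc_g_rc_31_1 lc_g_rc_37_3 lc_g_rc_31_3 lc_g_rc_37_1 lc_g_rc_47_2 lc_g_rc_16_1 lc_g_rc_16_1 lc_g_rc_7_1 lc_g_rc_7_1 lc_g_rc_16_1 lc_g_rc_31_1 lc_g_Cert_tree lc_g_rc_48_0 lc_g_rc_7_1 lc_g_rc_16_1 lc_g_Cert_tree lc_g_rc_44_3 lc_g_rc_47_2 lc_g_rc_48_0 lc_g_Cert_tree lc_g_rc_48_0 lc_g_rc_7_1 lc_g_rc_16_1 lc_g_rc_47_2 lc_g_rc_7_1 lc_g_rc_24_1 lc_g_rc_16_1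 lc_g_rc_50_2 lc_g_rc_7_1 lc_g_rc_16_1 lc_g_rc_31_1 lc_g_rc_7_1 lc_g_rc_16_1 lc_g_rc_37_1 lc_g_rc_7_1 lc_g_rc_7_1 lc_g_rc_16_1 lc_g_rc_31_1 lc_g_rc_7_1 lc_g_rc_16_1 lc_g_rc_7_3 lc_g_rc_47_2 lc_g_rc_7_1) (@D3.rec (fun _ => (Cert rels S Gen.g)) lc_g_rc_24_1 lc_g_rc_16_1 lc_g_rc_50_2 lc_g_rc_7_1 lc_g_rc_7_1 lc_g_rc_16_1 lc_g_rc_37_1 lc_g_rc_7_1 lc_g_rc_16_1 lc_g_rc_50_2 lc_g_rc_7_1 lc_g_rc_7_1 lc_g_rc_16_1 lc_g_rc_16_1 lc_g_rc_24_1 lc_g_rc_50_2 lc_g_rc_31_1 lc_g_rc_24_1 lc_g_rc_7_1 lc_g_rc_16_1 lc_g_rc_31_1 lc_g_rc_7_1 lc_g_rc_16_1 lc_g_rc_16_1 lc_g_rc_44_3 lc_g_rc_7_1 lc_g_rc_16_1 lc_g_rc_7_1 lc_g_rc_24_1 lc_g_rc_16_1 lc_g_rc_50_2 lc_g_rc_7_1 lc_g_rc_16_1 lc_g_rc_31_1 lc_g_rc_24_1 lc_g_rc_7_1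 lc_g_rc_16_1 lc_g_rc_44_5 lc_g_rc_7_1 lc_g_rc_16_1 lc_g_rc_37_3 lc_g_rc_7_1 lc_g_rc_16_1 lc_g_rc_44_3 lc_g_rc_24_1 lc_g_rc_47_2 lc_g_rc_7_1 lc_g_rc_16_1 lc_g_rc_50_2 lc_g_rc_7_1 lc_g_rc_16_1) (@D3.rec (fun _ => (Cert rels S Gen.g)) lc_g_rc_7_1 lc_g_rc_44_3 lc_g_rc_24_1 lc_g_rc_16_1 lc_g_rc_50_2 lc_g_rc_7_1 lc_g_rc_7_1 lc_g_rc_16_1 lc_g_rc_16_1 lc_g_rc_7_1 lc_g_rc_7_1 lc_g_rc_16_1 lc_g_rc_24_3 lc_g_rc_50_2 lc_g_rc_44_5 lc_g_rc_37_3 lc_g_rc_7_1 lc_g_rc_16_1 lc_g_rc_31_1 lc_g_rc_24_1 lc_g_rc_7_1 lc_g_rc_16_1 lc_g_rc_16_1 lc_g_rc_31_1 lc_g_rc_7_1 lc_g_rc_16_1 lc_g_rc_47_2 lc_g_rc_7_1 lc_g_rc_7_1 lc_g_rc_24_1 lc_g_rc_16_1 lc_g_rc_16_1 lc_g_rc_37_1 lc_g_rc_31_1 lc_g_rc_16_1 lc_g_rc_7_1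 lc_g_rc_16_1 lc_g_rc_7_1 lc_g_rc_50_2 lc_g_rc_7_1 lc_g_rc_7_1 lc_g_rc_16_1 lc_g_rc_7_1 lc_g_rc_7_1 lc_g_rc_16_1 lc_g_rc_7_1 lc_g_rc_7_1 lc_g_rc_7_1 lc_g_rc_16_1 lc_g_rc_44_3 lc_g_rc_50_2) (@D3.rec (fun _ => (Cert rels S Gen.g)) lc_g_rc_7_1 lc_g_rc_16_1 lc_g_rc_44_3 lc_g_rc_16_1 lc_g_rc_31_1 lc_g_rc_31_1 lc_g_rc_7_1 lc_g_rc_16_1 lc_g_rc_16_1 lc_g_rc_7_1 lc_g_rc_7_1 lc_g_rc_7_1 lc_g_rc_16_1 lc_g_rc_7_1 lc_g_rc_16_1 lc_g_rc_7_1 lc_g_rc_44_3 lc_g_rc_24_3 lc_g_rc_16_1 lc_g_rc_49_4 lc_g_rc_7_1 lc_g_rc_47_0 lc_g_rc_16_1 lc_g_rc_44_5 lc_g_rc_49_2 lc_g_rc_16_1 lc_g_Cert_tree lc_g_rc_48_0 lc_g_rc_44_5 lc_g_Cert_tree lc_g_rc_48_0 lc_g_rc_16_1 lc_g_rc_50_0 lc_g_rc_16_1 lc_g_rc_7_1 lc_g_rc_16_3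 lc_g_rc_16_1 lc_g_rc_7_1 lc_g_rc_7_1 lc_g_rc_31_1 lc_g_rc_7_1 lc_g_rc_16_1 lc_g_rc_7_1 lc_g_rc_16_1 lc_g_rc_31_1 lc_g_rc_24_1 lc_g_rc_7_1 lc_g_rc_16_1 lc_g_rc_16_3 lc_g_rc_7_3 lc_g_rc_47_2) (@D3.rec (fun _ => (Cert rels S Gen.g)) lc_g_rc_50_2 lc_g_rc_49_2 lc_g_rc_49_2 lc_g_rc_31_1 lc_g_rc_7_1 lc_g_rc_16_1 lc_g_rc_7_1 lc_g_rc_16_1 lc_g_rc_7_1 lc_g_rc_16_1 lc_g_rc_7_1 lc_g_rc_24_1 lc_g_rc_24_3 lc_g_rc_16_1 lc_g_rc_16_1 lc_g_rc_16_3 lc_g_rc_31_1 lc_g_rc_24_1 lc_g_rc_16_1 lc_g_rc_47_0 lc_g_rc_47_0 lc_g_rc_47_2 lc_g_rc_16_1 lc_g_rc_47_2 lc_g_rc_16_3 lc_g_rc_16_1 lc_g_rc_49_2 lc_g_Cert_tree lc_g_rc_48_0 lc_g_Cert_tree lc_g_rc_48_0 lc_g_rc_48_0 lc_g_rc_7_1 lc_g_rc_7_1 lc_g_rc_16_1 lc_g_rc_7_1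 lc_g_rc_7_1 lc_g_rc_16_1 lc_g_rc_24_1 lc_g_rc_16_1 lc_g_rc_7_1 lc_g_rc_24_1 lc_g_rc_44_3 lc_g_rc_50_2 lc_g_rc_7_1 lc_g_rc_50_2 lc_g_rc_7_3 lc_g_rc_50_2 lc_g_rc_37_1 lc_g_rc_7_1 lc_g_rc_16_1) (@D3.rec (fun _ => (Cert rels S Gen.g)) lc_g_rc_16_1 lc_g_rc_7_1 lc_g_rc_50_2 lc_g_rc_16_1 lc_g_rc_49_2 lc_g_rc_24_1 lc_g_rc_7_1 lc_g_rc_16_1 lc_g_rc_16_1 lc_g_rc_50_2 lc_g_rc_7_3 lc_g_rc_44_3 lc_g_rc_7_1 lc_g_rc_48_0 lc_g_rc_7_1 lc_g_rc_16_1 lc_g_rc_7_1 lc_g_rc_16_1 lc_g_rc_7_1 lc_g_rc_24_1 lc_g_rc_16_3 lc_g_rc_24_3 lc_g_rc_16_1 lc_g_rc_7_1 lc_g_rc_16_1 lc_g_rc_7_1 lc_g_rc_24_1 lc_g_rc_50_2 lc_g_rc_50_2 lc_g_rc_16_1 lc_g_rc_7_1 lc_g_rc_16_1 lc_g_rc_7_1 lc_g_rc_24_1 lc_g_rc_16_3 lc_g_rc_24_1 lc_g_rc_16_1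 lc_g_rc_48_1 lc_g_rc_7_1 lc_g_rc_50_2 lc_g_rc_24_3 lc_g_rc_16_1 lc_g_rc_16_3 lc_g_rc_24_1 lc_g_rc_16_1 lc_g_rc_44_3 lc_g_rc_31_1 lc_g_rc_31_1 lc_g_rc_7_1 lc_g_rc_16_1 lc_g_rc_50_2) (@D3.rec (fun _ => (Cert rels S Gen.g)) lc_g_rc_7_1 lc_g_rc_16_1 lc_g_rc_31_1 lc_g_rc_7_1 lc_g_rc_16_1 lc_g_rc_7_1 lc_g_rc_16_1 lc_g_rc_7_1 lc_g_rc_24_1 lc_g_rc_49_2 lc_g_rc_16_1 lc_g_rc_24_1 lc_g_rc_7_1 lc_g_rc_24_1 lc_g_rc_7_1 lc_g_rc_31_1 lc_g_rc_24_1 lc_g_rc_50_0 lc_g_rc_48_0 lc_g_rc_7_1 lc_g_rc_16_1 lc_g_rc_7_1 lc_g_rc_7_1 lc_g_rc_7_1 lc_g_rc_16_1 lc_g_rc_31_1 lc_g_rc_7_1 lc_g_rc_16_1 lc_g_rc_16_1 lc_g_rc_7_1 lc_g_rc_48_0 lc_g_rc_31_1 lc_g_rc_37_3 lc_g_rc_24_1 lc_g_rc_37_1 lc_g_Cert_tree lc_g_rc_48_0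 lc_g_rc_44_3 lc_g_rc_7_1 lc_g_rc_16_1 lc_g_rc_37_1 lc_g_Cert_tree lc_g_rc_48_0 lc_g_rc_7_1 lc_g_rc_16_1 lc_g_rc_37_1 lc_g_Cert_tree lc_g_rc_48_0 lc_g_rc_7_1 lc_g_Cert_tree lc_g_rc_48_0) (@D3.rec (fun _ => (Cert rels S Gen.g)) lc_g_rc_7_1 lc_g_rc_16_1 lc_g_rc_31_1 lc_g_rc_49_4 lc_g_rc_49_4 lc_g_rc_31_1 lc_g_Cert_tree lc_g_rc_48_0 lc_g_rc_49_4 lc_g_Cert_tree lc_g_rc_48_0 lc_g_rc_7_1 lc_g_rc_16_1 lc_g_rc_31_1 lc_g_rc_24_1 lc_g_rc_7_1 lc_g_rc_16_1 lc_g_rc_47_2 lc_g_rc_50_2 lc_g_rc_50_2 lc_g_rc_31_1 lc_g_rc_24_1 lc_g_rc_7_1 lc_g_rc_16_1 lc_g_rc_16_1 lc_g_rc_31_1 lc_g_rc_7_1 lc_g_rc_7_1 lc_g_rc_16_1 lc_g_rc_24_1 lc_g_rc_47_2 lc_g_rc_24_1 lc_g_rc_31_1 lc_g_Cert_tree lc_g_rc_48_0 lc_g_Cert_tree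 lc_g_rc_48_0 lc_g_rc_7_1 lc_g_rc_16_1 lc_g_rc_16_1 lc_g_rc_7_1 lc_g_rc_16_1 lc_g_rc_7_3 lc_g_rc_49_2 lc_g_rc_7_1 lc_g_rc_16_1 lc_g_rc_31_1 lc_g_rc_50_2 lc_g_rc_7_1 lc_g_rc_16_1 lc_g_rc_16_1) (@D3.rec (fun _ => (Cert rels S Gen.g)) lc_g_rc_31_1 lc_g_rc_31_1 lc_g_rc_50_2 lc_g_Cert_tree lc_g_rc_48_0 lc_g_Cert_tree lc_g_rc_48_0 lc_g_rc_7_1 lc_g_rc_7_1 lc_g_rc_16_1 lc_g_rc_24_1 lc_g_rc_48_0 lc_g_rc_7_1 lc_g_rc_16_1 lc_g_rc_7_1 lc_g_rc_16_1 lc_g_rc_16_1 lc_g_rc_31_1 lc_g_rc_24_3 lc_g_rc_7_1 lc_g_rc_16_1 lc_g_rc_7_1 lc_g_rc_16_1 lc_g_rc_7_1 lc_g_rc_16_1 lc_g_rc_16_3 lc_g_rc_16_1 lc_g_rc_31_1 lc_g_rc_49_2 lc_g_rc_7_1 lc_g_rc_50_2 lc_g_rc_47_2 lc_g_rc_50_0 lc_g_rc_49_2 lc_g_rc_37_1 lc_g_Cert_tree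 lc_g_rc_48_0 lc_g_rc_16_3 lc_g_rc_7_3 lc_g_rc_47_2 lc_g_Cert_tree lc_g_rc_48_0 lc_g_rc_49_2 lc_g_Cert_tree lc_g_rc_48_0 lc_g_rc_7_1 lc_g_rc_16_1 lc_g_rc_31_1 lc_g_rc_24_1 lc_g_rc_7_1 lc_g_rc_16_1) (@D3.rec (fun _ => (Cert rels S Gen.g)) lc_g_rc_47_2 lc_g_rc_7_1 lc_g_rc_16_1 lc_g_rc_7_1 lc_g_rc_31_1 lc_g_rc_16_1 lc_g_rc_50_0 lc_g_rc_7_1 lc_g_rc_16_1 lc_g_rc_16_1 lc_g_rc_31_1 lc_g_rc_24_3 lc_g_rc_16_1 lc_g_rc_16_1 lc_g_rc_31_1 lc_g_rc_37_1 lc_g_Cert_tree lc_g_rc_48_0 lc_g_rc_31_1 lc_g_rc_24_1 lc_g_rc_16_1 lc_g_rc_31_1 lc_g_rc_7_1 lc_g_rc_16_1 lc_g_rc_31_1 lc_g_rc_24_1 lc_g_rc_7_1 lc_g_rc_16_1 lc_g_rc_47_2 lc_g_rc_50_2 lc_g_rc_50_2 lc_g_rc_50_2 lc_g_rc_16_1 lc_g_rc_7_1 lc_g_rc_16_1 lc_g_rc_50_2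 lc_g_rc_16_1 lc_g_rc_7_1 lc_g_rc_16_1 lc_g_rc_7_1 lc_g_rc_16_1 lc_g_rc_7_1 lc_g_rc_7_1 lc_g_rc_24_1 lc_g_rc_16_1 lc_g_rc_49_2 lc_g_rc_16_3 lc_g_rc_7_1 lc_g_rc_16_1 lc_g_rc_31_3 lc_g_rc_16_1) (@D3.rec (fun _ => (Cert rels S Gen.g)) lc_g_rc_49_2 lc_g_rc_7_1 lc_g_rc_16_1 lc_g_rc_16_1 lc_g_rc_31_1 lc_g_rc_47_2 lc_g_rc_7_1 lc_g_rc_24_1 lc_g_rc_16_1 lc_g_rc_49_4 lc_g_rc_49_2 lc_g_rc_7_1 lc_g_rc_48_0 lc_g_rc_7_1 lc_g_rc_7_1 lc_g_rc_47_2 lc_g_rc_7_1 lc_g_rc_48_0 lc_g_rc_7_1 lc_g_rc_7_1 lc_g_rc_7_1 lc_g_rc_16_1 lc_g_rc_16_1 lc_g_rc_31_1 lc_g_rc_50_2 lc_g_rc_50_2 lc_g_rc_16_1 lc_g_rc_50_2 lc_g_rc_24_1 lc_g_rc_50_2 lc_g_rc_7_3 lc_g_rc_16_1 lc_g_rc_16_1 lc_g_rc_24_1 lc_g_rc_7_1 lc_g_rc_16_1 lc_g_rc_16_1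 lc_g_rc_31_1 lc_g_rc_16_3 lc_g_rc_7_1 lc_g_rc_24_1 lc_g_rc_24_1 lc_g_rc_7_1 lc_g_rc_16_1 lc_g_rc_44_5 lc_g_rc_49_2 lc_g_Cert_tree lc_g_rc_48_0 lc_g_rc_50_2 lc_g_rc_16_1 lc_g_rc_44_5) (@D3.rec (fun _ => (Cert rels S Gen.g)) lc_g_Cert_tree lc_g_rc_48_0 lc_g_rc_44_5 lc_g_Cert_tree lc_g_rc_48_0 lc_g_rc_24_1 lc_g_rc_16_1 lc_g_rc_49_4 lc_g_rc_50_2 lc_g_rc_7_1 lc_g_rc_16_1 lc_g_rc_16_1 lc_g_rc_31_1 lc_g_rc_7_1 lc_g_rc_7_1 lc_g_rc_16_1 lc_g_rc_24_1 lc_g_rc_7_1 lc_g_rc_7_1 lc_g_rc_7_1 lc_g_rc_7_1 lc_g_rc_16_1 lc_g_rc_37_1 lc_g_rc_7_1 lc_g_rc_16_1 lc_g_rc_24_1 lc_g_rc_50_0 lc_g_rc_50_0 lc_g_rc_49_2 lc_g_rc_37_1 lc_g_rc_16_1 lc_g_rc_47_0 lc_g_rc_50_2 lc_g_Cert_tree lc_g_rc_37_1 lc_g_rc_37_1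 lc_g_rc_48_0 lc_g_rc_47_2 lc_g_rc_16_3 lc_g_rc_16_1 lc_g_Cert_tree lc_g_Cert_tree lc_g_rc_48_0 lc_g_rc_24_3 lc_g_rc_16_1 lc_g_Cert_tree lc_g_Cert_tree lc_g_rc_44_1 lc_g_rc_48_0 lc_g_Cert_tree lc_g_rc_48_0) (@D3.rec (fun _ => (Cert rels S Gen.g)) lc_g_rc_47_0 lc_g_rc_31_1 lc_g_rc_24_1 lc_g_rc_16_1 lc_g_rc_47_2 lc_g_rc_24_1 lc_g_rc_16_1 lc_g_rc_24_1 lc_g_rc_16_1 lc_g_rc_16_1 lc_g_rc_16_1 lc_g_rc_16_1 lc_g_rc_7_1 lc_g_rc_7_1 lc_g_rc_16_1 lc_g_rc_16_1 lc_g_rc_31_1 lc_g_rc_7_1 lc_g_rc_16_3 lc_g_rc_24_1 lc_g_rc_16_1 lc_g_rc_44_1 lc_g_rc_7_1 lc_g_rc_16_1 lc_g_rc_7_1 lc_g_rc_49_2 lc_g_rc_24_1 lc_g_rc_16_1 lc_g_rc_50_2 lc_g_rc_16_1 lc_g_rc_16_1 lc_g_rc_16_1 lc_g_rc_24_1 lc_g_rc_16_1 lc_g_rc_7_1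 lc_g_rc_7_1 lc_g_rc_7_1 lc_g_rc_16_1 lc_g_rc_48_1 lc_g_rc_31_1 lc_g_rc_47_2 lc_g_rc_16_1 lc_g_rc_7_1 lc_g_rc_24_1 lc_g_rc_31_1 lc_g_rc_16_1 lc_g_rc_31_3 lc_g_rc_47_0 lc_g_rc_50_2 lc_g_Cert_tree lc_g_rc_16_1) (@D3.rec (fun _ => (Cert rels S Gen.g)) lc_g_rc_48_0 lc_g_Cert_tree lc_g_rc_48_0 lc_g_Cert_tree lc_g_rc_48_0 lc_g_rc_48_0 lc_g_rc_7_1 lc_g_rc_16_1 lc_g_rc_7_1 lc_g_rc_16_3 lc_g_rc_16_1 lc_g_rc_44_3 lc_g_rc_7_1 lc_g_rc_24_1 lc_g_rc_24_1 lc_g_rc_16_1 lc_g_rc_31_1 lc_g_rc_24_1 lc_g_rc_50_2 lc_g_rc_7_1 lc_g_rc_24_1 lc_g_rc_7_1 lc_g_rc_16_1 lc_g_rc_49_4 lc_g_rc_7_1 lc_g_rc_16_1 lc_g_Cert_tree lc_g_rc_31_3 lc_g_rc_37_1 lc_g_rc_48_0 lc_g_Cert_tree lc_g_rc_48_0 lc_g_rc_7_1 lc_g_rc_24_1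 lc_g_rc_16_1 lc_g_rc_24_3 lc_g_rc_16_1 lc_g_rc_7_1 lc_g_rc_16_1 lc_g_rc_7_3 lc_g_rc_47_2 lc_g_rc_7_1 lc_g_rc_16_1 lc_g_rc_7_1 lc_g_rc_24_3 lc_g_rc_16_1 lc_g_rc_31_1 lc_g_rc_24_1 lc_g_rc_50_2 lc_g_rc_16_1 lc_g_rc_7_1) (@D3.rec (fun _ => (Cert rels S Gen.g)) lc_g_rc_16_1 lc_g_rc_7_1 lc_g_rc_7_1 lc_g_rc_44_3 lc_g_rc_7_1 lc_g_rc_16_1 lc_g_rc_47_2 lc_g_rc_7_1 lc_g_rc_24_1 lc_g_rc_16_1 lc_g_rc_7_1 lc_g_rc_7_1 lc_g_rc_16_1 lc_g_rc_31_1 lc_g_rc_7_1 lc_g_rc_16_1 lc_g_rc_47_2 lc_g_rc_7_1 lc_g_rc_24_1 lc_g_rc_16_1 lc_g_rc_47_2 lc_g_rc_16_1 lc_g_rc_47_0 lc_g_rc_16_3 lc_g_rc_44_1 lc_g_rc_7_1 lc_g_rc_50_2 lc_g_rc_47_2 lc_g_rc_16_1 lc_g_rc_7_1 lc_g_rc_7_3 lc_g_rc_16_1 lc_g_rc_37_1 lc_g_rc_37_1 lc_g_rc_7_1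 lc_g_rc_7_1 lc_g_rc_16_1 lc_g_Cert_tree lc_g_rc_7_3 lc_g_rc_47_2 lc_g_rc_48_0 lc_g_rc_7_1 lc_g_Cert_tree lc_g_rc_24_1 lc_g_rc_44_3 lc_g_rc_16_1 lc_g_rc_48_0 lc_g_rc_48_0 lc_g_rc_7_1 lc_g_rc_24_1 lc_g_rc_16_1)
def ce_g_22 : D2 → D3 → (Cert rels S Gen.g) := @D2.rec (fun _ => D3 → (Cert rels S Gen.g)) (@D3.rec (fun _ => (Cert rels S Gen.g)) lc_g_rc_50_2 lc_g_rc_7_1 lc_g_rc_7_1 lc_g_rc_24_1 lc_g_rc_16_1 lc_g_rc_7_1 lc_g_rc_16_1 lc_g_rc_7_1 lc_g_rc_24_1 lc_g_rc_16_1 lc_g_rc_7_1 lc_g_rc_16_1 lc_g_rc_7_1 lc_g_rc_50_2 lc_g_rc_24_1 lc_g_rc_16_1 lc_g_rc_50_2 lc_g_rc_7_1 lc_g_rc_7_1 lc_g_rc_16_1 lc_g_rc_7_1 lc_g_rc_7_3 lc_g_rc_7_1 lc_g_rc_16_1 lc_g_rc_7_1 lc_g_rc_7_1 lc_g_rc_16_1 lc_g_rc_16_1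 lc_g_rc_31_1 lc_g_rc_7_1 lc_g_rc_16_1 lc_g_rc_7_1 lc_g_rc_24_3 lc_g_rc_24_1 lc_g_rc_7_1 lc_g_rc_24_1 lc_g_rc_7_1 lc_g_rc_31_1 lc_g_rc_24_1 lc_g_rc_7_1 lc_g_rc_16_1 lc_g_rc_7_1 lc_g_rc_24_1 lc_g_rc_16_1 lc_g_rc_50_2 lc_g_rc_7_1 lc_g_rc_16_1 lc_g_rc_7_1 lc_g_rc_44_3 lc_g_rc_16_1 lc_g_rc_16_1) (@D3.rec (fun _ => (Cert rels S Gen.g)) lc_g_rc_24_1 lc_g_rc_50_2 lc_g_rc_7_1 lc_g_rc_16_1 lc_g_rc_7_1 lc_g_rc_7_1 lc_g_rc_7_1 lc_g_rc_16_1 lc_g_rc_16_1 lc_g_rc_16_3 lc_g_rc_7_1 lc_g_rc_7_1 lc_g_rc_24_1 lc_g_rc_24_3 lc_g_rc_16_1 lc_g_rc_16_1 lc_g_rc_7_1 lc_g_rc_16_1 lc_g_rc_16_1 lc_g_rc_31_1 lc_g_rc_47_2 lc_g_rc_7_1 lc_g_rc_7_1 lc_g_rc_24_1 lc_g_rc_16_1 lc_g_rc_7_1 lc_g_rc_24_1 lc_g_rc_16_1 lc_g_rc_7_3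 lc_g_rc_7_1 lc_g_rc_7_1 lc_g_rc_7_1 lc_g_rc_24_1 lc_g_rc_24_1 lc_g_rc_16_1 lc_g_rc_16_1 lc_g_rc_7_1 lc_g_rc_50_2 lc_g_rc_7_1 lc_g_rc_7_1 lc_g_rc_7_1 lc_g_rc_16_3 lc_g_rc_16_1 lc_g_rc_16_1 lc_g_rc_47_2 lc_g_rc_44_1 lc_g_rc_31_1 lc_g_rc_24_1 lc_g_rc_7_1 lc_g_rc_24_1 lc_g_rc_7_1) (@D3.rec (fun _ => (Cert rels S Gen.g)) lc_g_rc_44_3 lc_g_rc_31_1 lc_g_rc_24_1 lc_g_rc_16_1 lc_g_rc_47_2 lc_g_rc_50_2 lc_g_rc_44_5 lc_g_rc_16_1 lc_g_Cert_tree lc_g_rc_48_0 lc_g_rc_48_0 lc_g_rc_16_1 lc_g_rc_7_1 lc_g_rc_16_3 lc_g_rc_24_1 lc_g_rc_7_1 lc_g_rc_7_1 lc_g_rc_24_1 lc_g_rc_7_1 lc_g_rc_16_1 lc_g_rc_16_1 lc_g_rc_7_1 lc_g_rc_50_0 lc_g_rc_16_1 lc_g_rc_49_2 lc_g_rc_7_3 lc_g_rc_7_1 lc_g_rc_24_1 lc_g_rc_7_1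 lc_g_rc_24_1 lc_g_rc_7_1 lc_g_rc_24_1 lc_g_rc_7_1 lc_g_rc_31_1 lc_g_rc_24_3 lc_g_rc_24_1 lc_g_rc_31_3 lc_g_rc_31_1 lc_g_rc_24_1 lc_g_rc_16_1 lc_g_rc_16_1 lc_g_rc_16_1 lc_g_rc_31_1 lc_g_rc_24_1 lc_g_Cert_tree lc_g_rc_48_0 lc_g_rc_48_0 lc_g_rc_7_1 lc_g_rc_24_1 lc_g_rc_7_1 lc_g_rc_24_1) (@D3.rec (fun _ => (Cert rels S Gen.g)) lc_g_rc_31_1 lc_g_rc_24_1 lc_g_rc_7_1 lc_g_rc_50_2 lc_g_rc_16_1 lc_g_rc_16_1 lc_g_rc_7_1 lc_g_rc_7_1 lc_g_rc_24_1 lc_g_rc_24_1 lc_g_rc_16_1 lc_g_rc_16_1 lc_g_rc_31_1 lc_g_rc_7_1 lc_g_rc_24_1 lc_g_rc_50_2 lc_g_rc_7_1 lc_g_rc_24_1 lc_g_rc_7_1 lc_g_rc_24_1 lc_g_rc_7_1 lc_g_rc_31_1 lc_g_rc_24_1 lc_g_rc_7_1 lc_g_rc_24_1 lc_g_rc_7_1 lc_g_rc_31_1 lc_g_rc_24_1 lc_g_rc_7_1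 lc_g_rc_24_1 lc_g_rc_7_1 lc_g_rc_31_1 lc_g_rc_31_1 lc_g_rc_24_1 lc_g_rc_44_3 lc_g_rc_31_1 lc_g_rc_24_1 lc_g_rc_31_1 lc_g_rc_31_1 lc_g_rc_7_1 lc_g_rc_16_1 lc_g_rc_7_1 lc_g_rc_16_1 lc_g_rc_7_1 lc_g_rc_24_1 lc_g_rc_7_1 lc_g_rc_24_1 lc_g_rc_7_1 lc_g_rc_24_1 lc_g_rc_7_1 lc_g_rc_16_1) (@D3.rec (fun _ => (Cert rels S Gen.g)) lc_g_rc_37_1 lc_g_rc_31_1 lc_g_rc_7_1 lc_g_rc_7_1 lc_g_rc_16_1 lc_g_rc_24_1 lc_g_rc_7_1 lc_g_rc_16_1 lc_g_rc_47_2 lc_g_rc_24_1 lc_g_rc_47_0 lc_g_Cert_tree lc_g_rc_47_0 lc_g_rc_48_0 lc_g_rc_7_1 lc_g_rc_16_1 lc_g_Cert_tree lc_g_Cert_tree lc_g_rc_48_0 lc_g_rc_7_1 lc_g_rc_16_1 lc_g_Cert_tree lc_g_Cert_tree lc_g_rc_37_1 lc_g_rc_48_0 lc_g_Cert_tree lc_g_rc_48_0 lc_g_rc_7_1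 lc_g_rc_24_1 lc_g_rc_16_1 lc_g_rc_31_1 lc_g_rc_49_4 lc_g_rc_49_4 lc_g_Cert_tree lc_g_rc_48_0 lc_g_Cert_tree lc_g_rc_48_0 lc_g_rc_7_1 lc_g_rc_16_1 lc_g_rc_16_1 lc_g_rc_47_2 lc_g_rc_7_1 lc_g_rc_16_1 lc_g_rc_50_2 lc_g_rc_50_2 lc_g_rc_16_1 lc_g_rc_31_1 lc_g_rc_7_1 lc_g_rc_7_1 lc_g_rc_24_1 lc_g_rc_16_1) (@D3.rec (fun _ => (Cert rels S Gen.g)) lc_g_rc_49_2 lc_g_rc_7_1 lc_g_rc_16_1 lc_g_rc_31_1 lc_g_Cert_tree lc_g_rc_48_0 lc_g_rc_48_0 lc_g_rc_7_1 lc_g_rc_7_1 lc_g_rc_50_2 lc_g_rc_7_1 lc_g_rc_16_1 lc_g_rc_16_1 lc_g_rc_31_1 lc_g_rc_47_2 lc_g_rc_7_1 lc_g_rc_7_1 lc_g_rc_24_1 lc_g_rc_31_1 lc_g_rc_16_1 lc_g_rc_31_1 lc_g_Cert_tree lc_g_rc_48_0 lc_g_rc_48_0 lc_g_rc_7_1 lc_g_rc_16_1 lc_g_rc_7_1 lc_g_rc_16_1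 lc_g_rc_16_1 lc_g_rc_7_1 lc_g_rc_24_1 lc_g_rc_7_1 lc_g_rc_24_1 lc_g_rc_7_1 lc_g_rc_24_1 lc_g_rc_31_1 lc_g_rc_24_1 lc_g_rc_16_1 lc_g_rc_47_2 lc_g_rc_16_1 lc_g_rc_16_1 lc_g_rc_49_2 lc_g_rc_48_0 lc_g_Cert_tree lc_g_rc_44_3 lc_g_rc_48_0 lc_g_rc_50_2 lc_g_rc_16_1 lc_g_Cert_tree lc_g_rc_47_2 lc_g_rc_48_0) (@D3.rec (fun _ => (Cert rels S Gen.g)) lc_g_Cert_tree lc_g_rc_48_0 lc_g_rc_7_1 lc_g_rc_16_1 lc_g_rc_44_3 lc_g_rc_31_1 lc_g_rc_7_1 lc_g_rc_24_1 lc_g_rc_16_1 lc_g_rc_16_1 lc_g_rc_7_1 lc_g_rc_7_1 lc_g_rc_16_1 lc_g_rc_7_1 lc_g_rc_7_1 lc_g_rc_24_1 lc_g_rc_16_1 lc_g_rc_49_0 lc_g_rc_31_1 lc_g_rc_7_1 lc_g_rc_24_1 lc_g_rc_16_1 lc_g_rc_16_1 lc_g_rc_47_2 lc_g_rc_48_0 lc_g_rc_24_1 lc_g_rc_7_1 lc_g_rc_24_1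 lc_g_rc_16_1 lc_g_rc_7_1 lc_g_rc_16_1 lc_g_rc_16_1 lc_g_rc_31_1 lc_g_rc_47_2 lc_g_rc_7_1 lc_g_rc_24_1 lc_g_rc_16_1 lc_g_rc_50_2 lc_g_rc_50_2 lc_g_rc_24_1 lc_g_rc_7_1 lc_g_rc_16_1 lc_g_rc_7_1 lc_g_rc_24_1 lc_g_rc_7_1 lc_g_rc_24_1 lc_g_rc_7_1 lc_g_rc_7_1 lc_g_rc_24_1 lc_g_rc_16_1 lc_g_rc_16_1) (@D3.rec (fun _ => (Cert rels S Gen.g)) lc_g_rc_37_1 lc_g_rc_16_1 lc_g_rc_7_1 lc_g_rc_16_3 lc_g_rc_24_1 lc_g_rc_16_1 lc_g_rc_16_1 lc_g_rc_7_1 lc_g_rc_7_1 lc_g_rc_24_1 lc_g_rc_16_1 lc_g_rc_16_1 lc_g_rc_16_1 lc_g_rc_16_1 lc_g_rc_24_1 lc_g_rc_16_1 lc_g_rc_16_1 lc_g_rc_50_2 lc_g_rc_31_1 lc_g_rc_24_1 lc_g_rc_7_1 lc_g_rc_24_1 lc_g_rc_24_1 lc_g_rc_16_1 lc_g_rc_44_5 lc_g_rc_16_1 lc_g_Cert_tree lc_g_rc_48_0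 lc_g_rc_50_2 lc_g_rc_16_1 lc_g_Cert_tree lc_g_rc_31_3 lc_g_rc_31_1 lc_g_rc_48_0 lc_g_Cert_tree lc_g_rc_48_0 lc_g_rc_31_1 lc_g_rc_24_1 lc_g_rc_16_1 lc_g_rc_7_1 lc_g_rc_7_1 lc_g_rc_24_1 lc_g_rc_31_1 lc_g_rc_31_1 lc_g_rc_7_1 lc_g_rc_16_1 lc_g_rc_7_1 lc_g_rc_16_1 lc_g_rc_7_1 lc_g_rc_50_0 lc_g_rc_16_1) (@D3.rec (fun _ => (Cert rels S Gen.g)) lc_g_rc_44_5 lc_g_rc_24_1 lc_g_rc_50_2 lc_g_Cert_tree lc_g_rc_16_1 lc_g_rc_50_0 lc_g_rc_48_0 lc_g_rc_31_1 lc_g_Cert_tree lc_g_rc_24_1 lc_g_Cert_tree lc_g_rc_48_0 lc_g_rc_7_1 lc_g_rc_48_0 lc_g_rc_31_1 lc_g_Cert_tree lc_g_rc_24_1 lc_g_Cert_tree lc_g_rc_44_1 lc_g_rc_48_0 lc_g_rc_48_0 lc_g_rc_7_1 lc_g_rc_48_0 lc_g_rc_16_1 lc_g_rc_31_1 lc_g_rc_31_3 lc_g_rc_24_1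 lc_g_rc_16_1 lc_g_rc_24_1 lc_g_rc_31_1 lc_g_rc_24_1 lc_g_rc_31_1 lc_g_rc_7_1 lc_g_rc_24_1 lc_g_rc_7_1 lc_g_rc_16_3 lc_g_rc_24_1 lc_g_rc_16_1 lc_g_rc_50_2 lc_g_rc_7_1 lc_g_rc_31_1 lc_g_rc_24_1 lc_g_rc_16_1 lc_g_rc_7_1 lc_g_rc_7_1 lc_g_rc_31_1 lc_g_rc_31_1 lc_g_rc_31_1 lc_g_rc_7_1 lc_g_rc_24_1 lc_g_rc_7_1) (@D3.rec (fun _ => (Cert rels S Gen.g)) lc_g_rc_31_1 lc_g_rc_7_1 lc_g_rc_24_1 lc_g_rc_16_1 lc_g_rc_16_1 lc_g_rc_47_2 lc_g_rc_37_3 lc_g_rc_7_1 lc_g_rc_31_1 lc_g_rc_24_1 lc_g_rc_24_1 lc_g_rc_31_3 lc_g_rc_16_1 lc_g_rc_44_3 lc_g_rc_48_0 lc_g_Cert_tree lc_g_rc_48_0 lc_g_rc_48_0 lc_g_rc_7_1 lc_g_rc_31_1 lc_g_rc_24_1 lc_g_rc_7_1 lc_g_rc_31_1 lc_g_rc_24_1 lc_g_rc_37_1 lc_g_rc_7_1 lc_g_rc_16_3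 lc_g_rc_24_1 lc_g_rc_16_1 lc_g_rc_7_1 lc_g_Cert_tree lc_g_rc_24_1 lc_g_rc_31_3 lc_g_rc_16_1 lc_g_rc_48_0 lc_g_rc_48_0 lc_g_rc_7_1 lc_g_rc_7_1 lc_g_rc_24_1 lc_g_rc_16_3 lc_g_rc_24_1 lc_g_rc_7_1 lc_g_rc_50_2 lc_g_rc_16_1 lc_g_rc_7_1 lc_g_rc_16_3 lc_g_rc_24_1 lc_g_rc_47_2 lc_g_rc_16_3 lc_g_rc_24_1 lc_g_rc_7_1) (@D3.rec (fun _ => (Cert rels S Gen.g)) lc_g_rc_7_1 lc_g_rc_24_1 lc_g_rc_16_1 lc_g_rc_7_1 lc_g_rc_7_1 lc_g_rc_24_1 lc_g_rc_44_1 lc_g_rc_24_1 lc_g_rc_7_1 lc_g_rc_24_1 lc_g_rc_16_1 lc_g_rc_7_1 lc_g_rc_7_1 lc_g_rc_24_1 lc_g_rc_16_1 lc_g_rc_50_0 lc_g_rc_16_3 lc_g_rc_48_0 lc_g_rc_16_1 lc_g_rc_47_2 lc_g_rc_7_1 lc_g_rc_24_1 lc_g_rc_16_3 lc_g_rc_7_1 lc_g_rc_7_3 lc_g_rc_7_1 lc_g_Cert_tree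 lc_g_rc_24_1 lc_g_rc_16_1 lc_g_rc_16_1 lc_g_rc_48_0 lc_g_rc_7_1 lc_g_rc_7_1 lc_g_rc_7_1 lc_g_rc_48_0 lc_g_rc_44_3 lc_g_rc_24_1 lc_g_rc_7_1 lc_g_rc_7_1 lc_g_rc_24_1 lc_g_rc_16_1 lc_g_rc_16_1 lc_g_rc_7_1 lc_g_rc_7_1 lc_g_rc_24_1 lc_g_rc_24_1 lc_g_rc_7_1 lc_g_rc_24_1 lc_g_rc_7_1 lc_g_rc_31_1 lc_g_rc_24_1) (@D3.rec (fun _ => (Cert rels S Gen.g)) lc_g_rc_7_1 lc_g_rc_7_1 lc_g_rc_7_1 lc_g_rc_16_1 lc_g_rc_7_1 lc_g_rc_50_2 lc_g_rc_7_1 lc_g_rc_7_1 lc_g_rc_7_1 lc_g_rc_16_1 lc_g_rc_7_1 lc_g_rc_24_1 lc_g_rc_7_1 lc_g_rc_7_1 lc_g_rc_16_1 lc_g_rc_44_1 lc_g_rc_7_1 lc_g_rc_24_1 lc_g_rc_7_1 lc_g_rc_16_3 lc_g_rc_24_1 lc_g_rc_16_1 lc_g_rc_16_3 lc_g_rc_7_1 lc_g_rc_7_1 lc_g_rc_16_1 lc_g_rc_16_1 lc_g_rc_7_1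 lc_g_rc_16_1 lc_g_rc_7_1 lc_g_rc_47_2 lc_g_rc_7_1 lc_g_rc_31_1 lc_g_rc_50_2 lc_g_rc_24_1 lc_g_rc_7_1 lc_g_rc_7_1 lc_g_rc_24_1 lc_g_rc_16_1 lc_g_rc_16_1 lc_g_rc_7_1 lc_g_rc_7_1 lc_g_rc_24_1 lc_g_rc_7_1 lc_g_rc_7_1 lc_g_rc_24_1 lc_g_rc_16_1 lc_g_rc_16_1 lc_g_rc_7_1 lc_g_rc_7_1 lc_g_rc_7_1) (@D3.rec (fun _ => (Cert rels S Gen.g)) lc_g_rc_7_1 lc_g_rc_24_1 lc_g_rc_24_1 lc_g_rc_44_1 lc_g_rc_24_1 lc_g_rc_24_1 lc_g_rc_7_1 lc_g_rc_44_3 lc_g_rc_31_1 lc_g_rc_24_1 lc_g_rc_16_1 lc_g_rc_31_1 lc_g_rc_24_1 lc_g_rc_48_0 lc_g_rc_24_1 lc_g_rc_7_1 lc_g_rc_7_1 lc_g_rc_7_1 lc_g_rc_24_1 lc_g_rc_31_1 lc_g_rc_24_1 lc_g_rc_49_2 lc_g_rc_24_1 lc_g_rc_7_1 lc_g_rc_7_1 lc_g_rc_7_1 lc_g_rc_16_1 lc_g_rc_31_3 lc_g_rc_37_3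 lc_g_rc_37_3 lc_g_rc_44_3 lc_g_rc_24_1 lc_g_rc_31_1 lc_g_rc_24_1 lc_g_rc_31_3 lc_g_rc_48_0 lc_g_rc_7_1 lc_g_rc_7_1 lc_g_rc_44_1 lc_g_rc_16_1 lc_g_rc_31_1 lc_g_rc_7_1 lc_g_rc_24_1 lc_g_rc_7_1 lc_g_rc_31_1 lc_g_rc_7_1 lc_g_rc_24_1 lc_g_rc_37_1 lc_g_rc_7_1 lc_g_rc_7_1 lc_g_rc_16_1) (@D3.rec (fun _ => (Cert rels S Gen.g)) lc_g_rc_31_3 lc_g_rc_7_1 lc_g_rc_16_1 lc_g_rc_31_3 lc_g_rc_7_1 lc_g_rc_16_1 lc_g_rc_31_1 lc_g_rc_37_1 lc_g_rc_50_2 lc_g_rc_24_1 lc_g_rc_7_1 lc_g_rc_24_1 lc_g_rc_31_1 lc_g_rc_7_1 lc_g_rc_7_1 lc_g_rc_24_1 lc_g_rc_7_1 lc_g_rc_7_1 lc_g_rc_16_1 lc_g_rc_24_1 lc_g_rc_16_1 lc_g_rc_37_1 lc_g_rc_44_3 lc_g_rc_7_1 lc_g_rc_31_1 lc_g_rc_24_1 lc_g_rc_16_1 lc_g_rc_31_1 lc_g_Cert_tree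 lc_g_rc_16_1 lc_g_rc_48_0 lc_g_rc_7_1 lc_g_Cert_tree lc_g_rc_24_1 lc_g_Cert_tree lc_g_rc_48_0 lc_g_rc_50_2 lc_g_rc_48_0 lc_g_rc_7_1 lc_g_Cert_tree lc_g_rc_24_1 lc_g_Cert_tree lc_g_rc_16_1 lc_g_rc_48_0 lc_g_rc_48_0 lc_g_rc_31_1 lc_g_rc_48_0 lc_g_rc_7_1 lc_g_rc_7_1 lc_g_rc_24_1 lc_g_rc_16_1) (@D3.rec (fun _ => (Cert rels S Gen.g)) lc_g_rc_49_4 lc_g_Cert_tree lc_g_rc_24_1 lc_g_rc_48_0 lc_g_rc_48_0 lc_g_rc_7_1 lc_g_rc_7_1 lc_g_rc_16_1 lc_g_rc_7_1 lc_g_rc_50_2 lc_g_rc_7_1 lc_g_rc_24_1 lc_g_rc_16_1 lc_g_rc_47_0 lc_g_rc_7_1 lc_g_rc_7_1 lc_g_rc_24_1 lc_g_rc_16_1 lc_g_rc_7_1 lc_g_rc_48_0 lc_g_rc_7_1 lc_g_rc_7_1 lc_g_rc_24_1 lc_g_rc_31_1 lc_g_rc_16_1 lc_g_rc_44_1 lc_g_rc_7_1 lc_g_rc_7_1 lc_g_rc_7_1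 lc_g_rc_24_1 lc_g_rc_24_1 lc_g_rc_16_1 lc_g_rc_48_0 lc_g_rc_7_1 lc_g_rc_31_1 lc_g_rc_24_1 lc_g_rc_7_1 lc_g_rc_7_1 lc_g_rc_7_1 lc_g_rc_24_1 lc_g_rc_31_1 lc_g_rc_24_1 lc_g_rc_16_1 lc_g_rc_16_3 lc_g_rc_47_0 lc_g_Cert_tree lc_g_rc_24_1 lc_g_rc_47_2 lc_g_rc_48_0 lc_g_rc_31_1 lc_g_Cert_tree) (@D3.rec (fun _ => (Cert rels S Gen.g)) lc_g_rc_24_1 lc_g_rc_16_1 lc_g_rc_48_0 lc_g_rc_48_0 lc_g_rc_7_1 lc_g_rc_7_1 lc_g_rc_24_1 lc_g_rc_16_1 lc_g_rc_7_1 lc_g_rc_31_1 lc_g_rc_24_1 lc_g_rc_7_1 lc_g_rc_7_1 lc_g_rc_7_1 lc_g_rc_24_1 lc_g_rc_16_1 lc_g_rc_47_0 lc_g_rc_7_1 lc_g_rc_31_1 lc_g_rc_24_1 lc_g_rc_24_1 lc_g_rc_16_1 lc_g_rc_50_0 lc_g_rc_7_1 lc_g_rc_31_1 lc_g_rc_24_1 lc_g_rc_7_1 lc_g_rc_24_3 lc_g_rc_24_1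 lc_g_rc_16_1 lc_g_rc_16_1 lc_g_rc_7_1 lc_g_rc_7_1 lc_g_rc_24_1 lc_g_rc_16_1 lc_g_rc_24_1 lc_g_rc_7_1 lc_g_rc_7_1 lc_g_rc_16_1 lc_g_rc_7_1 lc_g_rc_16_1 lc_g_rc_24_1 lc_g_rc_37_3 lc_g_rc_24_1 lc_g_rc_7_1 lc_g_rc_16_3 lc_g_rc_7_1 lc_g_rc_24_1 lc_g_rc_24_1 lc_g_rc_16_1 lc_g_rc_7_1) (@D3.rec (fun _ => (Cert rels S Gen.g)) lc_g_rc_49_4 lc_g_rc_24_1 lc_g_rc_24_1 lc_g_rc_31_1 lc_g_rc_7_1 lc_g_rc_24_1 lc_g_rc_31_1 lc_g_rc_7_1 lc_g_rc_24_1 lc_g_rc_44_3 lc_g_rc_7_1 lc_g_rc_31_1 lc_g_rc_31_1 lc_g_Cert_tree lc_g_rc_24_1 lc_g_rc_48_0 lc_g_rc_31_1 lc_g_Cert_tree lc_g_rc_24_1 lc_g_rc_31_3 lc_g_rc_31_1 lc_g_rc_48_0 lc_g_rc_48_0 lc_g_rc_44_3 lc_g_rc_31_1 lc_g_rc_7_1 lc_g_rc_7_1 lc_g_rc_24_1 lc_g_rc_31_1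 lc_g_rc_7_1 lc_g_rc_7_1 lc_g_rc_16_1 lc_g_rc_24_1 lc_g_rc_31_1 lc_g_rc_16_1 lc_g_rc_24_1 lc_g_rc_48_0 lc_g_rc_31_3 lc_g_Cert_tree lc_g_rc_48_0 lc_g_Cert_tree lc_g_rc_16_1 lc_g_rc_48_0 lc_g_rc_31_3 lc_g_Cert_tree lc_g_rc_7_1 lc_g_rc_48_0 lc_g_Cert_tree lc_g_rc_44_1 lc_g_rc_48_0 lc_g_rc_16_1) (@D3.rec (fun _ => (Cert rels S Gen.g)) lc_g_rc_44_1 lc_g_rc_37_3 lc_g_rc_37_3 lc_g_rc_44_3 lc_g_rc_24_1 lc_g_rc_44_1 lc_g_rc_31_1 lc_g_rc_7_1 lc_g_rc_31_1 lc_g_rc_24_1 lc_g_rc_16_1 lc_g_rc_16_1 lc_g_rc_24_1 lc_g_rc_16_3 lc_g_rc_24_1 lc_g_rc_44_3 lc_g_rc_31_1 lc_g_rc_37_3 lc_g_rc_31_1 lc_g_rc_31_1 lc_g_rc_24_1 lc_g_rc_24_1 lc_g_rc_16_1 lc_g_rc_31_3 lc_g_rc_24_1 lc_g_rc_31_1 lc_g_rc_7_1 lc_g_rc_44_3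 lc_g_rc_24_1 lc_g_rc_24_1 lc_g_rc_48_0 lc_g_rc_37_1 lc_g_rc_16_1 lc_g_rc_47_2 lc_g_rc_16_1 lc_g_rc_16_1 lc_g_rc_24_1 lc_g_rc_16_3 lc_g_rc_24_1 lc_g_rc_7_1 lc_g_rc_7_1 lc_g_rc_7_1 lc_g_rc_48_0 lc_g_rc_24_1 lc_g_rc_24_1 lc_g_rc_16_1 lc_g_rc_7_1 lc_g_rc_37_1 lc_g_rc_7_1 lc_g_rc_47_2 lc_g_rc_16_1) (@D3.rec (fun _ => (Cert rels S Gen.g)) lc_g_rc_24_1 lc_g_rc_7_1 lc_g_rc_7_1 lc_g_rc_24_1 lc_g_rc_16_1 lc_g_rc_7_1 lc_g_rc_24_1 lc_g_rc_7_1 lc_g_rc_7_1 lc_g_rc_24_1 lc_g_rc_16_1 lc_g_rc_7_1 lc_g_rc_31_3 lc_g_rc_24_1 lc_g_rc_47_2 lc_g_rc_16_1 lc_g_rc_24_1 lc_g_rc_50_0 lc_g_rc_7_1 lc_g_rc_7_1 lc_g_rc_7_1 lc_g_rc_48_0 lc_g_rc_24_1 lc_g_rc_24_1 lc_g_rc_16_1 lc_g_rc_7_1 lc_g_rc_7_1 lc_g_rc_16_1 lc_g_rc_7_1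 lc_g_rc_7_1 lc_g_rc_24_1 lc_g_rc_16_1 lc_g_rc_7_1 lc_g_rc_7_1 lc_g_rc_24_1 lc_g_rc_7_1 lc_g_rc_16_1 lc_g_rc_31_3 lc_g_rc_7_1 lc_g_rc_7_1 lc_g_rc_7_1 lc_g_rc_16_1 lc_g_rc_16_1 lc_g_rc_16_1 lc_g_rc_7_1 lc_g_rc_16_1 lc_g_rc_24_1 lc_g_rc_16_3 lc_g_rc_24_1 lc_g_rc_7_1 lc_g_rc_7_1) (@D3.rec (fun _ => (Cert rels S Gen.g)) lc_g_rc_16_1 lc_g_rc_44_5 lc_g_rc_7_1 lc_g_rc_7_1 lc_g_rc_7_1 lc_g_rc_24_1 lc_g_rc_24_1 lc_g_rc_16_1 lc_g_rc_7_1 lc_g_rc_16_1 lc_g_rc_7_1 lc_g_rc_16_3 lc_g_rc_24_1 lc_g_rc_16_1 lc_g_rc_16_1 lc_g_rc_7_1 lc_g_rc_7_1 lc_g_rc_31_3 lc_g_rc_16_1 lc_g_rc_50_2 lc_g_rc_37_3 lc_g_rc_44_3 lc_g_rc_24_1 lc_g_rc_31_3 lc_g_rc_24_3 lc_g_rc_16_1 lc_g_rc_7_1 lc_g_rc_31_1 lc_g_rc_24_1 lc_g_rc_16_1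 lc_g_rc_16_1 lc_g_rc_16_1 lc_g_rc_31_3 lc_g_rc_37_3 lc_g_rc_47_0 lc_g_rc_44_5 lc_g_rc_16_1 lc_g_rc_16_1 lc_g_rc_16_1 lc_g_rc_16_1 lc_g_rc_37_1 lc_g_rc_16_1 lc_g_rc_31_1 lc_g_rc_37_1 lc_g_rc_16_1 lc_g_rc_16_1 lc_g_rc_37_3 lc_g_rc_16_1 lc_g_rc_16_1 lc_g_rc_16_1 lc_g_rc_50_2) (@D3.rec (fun _ => (Cert rels S Gen.g)) lc_g_rc_49_4 lc_g_rc_24_1 lc_g_rc_7_1 lc_g_rc_24_1 lc_g_rc_7_1 lc_g_rc_16_1 lc_g_rc_16_1 lc_g_rc_16_1 lc_g_rc_37_1 lc_g_rc_31_3 lc_g_rc_24_1 lc_g_rc_16_1 lc_g_rc_48_0 lc_g_rc_7_1 lc_g_Cert_tree lc_g_rc_48_0 lc_g_Cert_tree lc_g_rc_16_1 lc_g_rc_48_0 lc_g_rc_7_1 lc_g_Cert_tree lc_g_rc_7_1 lc_g_rc_48_0 lc_g_Cert_tree lc_g_rc_24_1 lc_g_rc_48_0 lc_g_rc_31_1 lc_g_rc_16_1 lc_g_rc_7_1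 lc_g_rc_7_1 lc_g_rc_24_1 lc_g_rc_24_1 lc_g_rc_48_0 lc_g_rc_7_1 lc_g_rc_24_1 lc_g_rc_7_1 lc_g_rc_24_1 lc_g_rc_16_1 lc_g_rc_16_1 lc_g_rc_7_1 lc_g_rc_16_1 lc_g_rc_24_1 lc_g_rc_7_1 lc_g_rc_7_1 lc_g_rc_7_1 lc_g_rc_24_1 lc_g_rc_24_1 lc_g_rc_48_0 lc_g_rc_16_1 lc_g_rc_24_1 lc_g_rc_7_1) (@D3.rec (fun _ => (Cert rels S Gen.g)) lc_g_rc_7_1 lc_g_rc_24_1 lc_g_rc_37_1 lc_g_rc_16_1 lc_g_rc_16_1 lc_g_rc_16_1 lc_g_rc_31_3 lc_g_rc_31_3 lc_g_rc_44_3 lc_g_rc_24_1 lc_g_rc_24_1 lc_g_rc_47_2 lc_g_rc_48_0 lc_g_rc_24_1 lc_g_rc_31_1 lc_g_rc_31_3 lc_g_rc_48_0 lc_g_rc_24_1 lc_g_rc_7_1 lc_g_rc_31_1 lc_g_rc_24_1 lc_g_rc_16_1 lc_g_rc_44_5 lc_g_rc_16_1 lc_g_rc_7_1 lc_g_rc_49_0 lc_g_rc_24_1 lc_g_rc_50_2 lc_g_rc_7_1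 lc_g_rc_24_1 lc_g_rc_44_3 lc_g_rc_24_1 lc_g_rc_16_1 lc_g_rc_24_1 lc_g_rc_7_1 lc_g_rc_31_1 lc_g_rc_7_1 lc_g_rc_24_1 lc_g_rc_24_1 lc_g_rc_16_1 lc_g_rc_7_1 lc_g_rc_50_2 lc_g_rc_24_1 lc_g_rc_37_3 lc_g_rc_16_1 lc_g_rc_16_1 lc_g_rc_16_1 lc_g_rc_24_1 lc_g_rc_44_1 lc_g_rc_16_1 lc_g_rc_37_3) (@D3.rec (fun _ => (Cert rels S Gen.g)) lc_g_rc_7_1 lc_g_rc_16_1 lc_g_rc_47_2 lc_g_rc_49_4 lc_g_rc_24_1 lc_g_rc_37_1 lc_g_rc_47_0 lc_g_rc_16_1 lc_g_rc_16_1 lc_g_rc_31_1 lc_g_rc_48_0 lc_g_rc_44_5 lc_g_rc_7_1 lc_g_rc_7_1 lc_g_rc_48_0 lc_g_rc_24_1 lc_g_rc_50_2 lc_g_rc_16_1 lc_g_rc_24_1 lc_g_rc_7_1 lc_g_rc_24_1 lc_g_rc_24_1 lc_g_rc_49_2 lc_g_rc_16_1 lc_g_Cert_tree lc_g_rc_16_1 lc_g_rc_48_0 lc_g_rc_24_1 lc_g_rc_48_0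 lc_g_rc_31_3 lc_g_Cert_tree lc_g_rc_7_1 lc_g_rc_48_0 lc_g_rc_7_1 lc_g_rc_48_0 lc_g_rc_24_1 lc_g_rc_37_3 lc_g_rc_47_2 lc_g_rc_16_1 lc_g_rc_16_1 lc_g_rc_16_1 lc_g_rc_37_3 lc_g_rc_16_1 lc_g_rc_24_1 lc_g_rc_16_1 lc_g_rc_24_1 lc_g_rc_16_1 lc_g_rc_24_1 lc_g_rc_16_1 lc_g_rc_37_3 lc_g_rc_31_3) (@D3.rec (fun _ => (Cert rels S Gen.g)) lc_g_rc_31_1 lc_g_rc_24_1 lc_g_rc_16_1 lc_g_rc_47_2 lc_g_rc_24_1 lc_g_rc_44_3 lc_g_rc_16_1 lc_g_rc_16_1 lc_g_rc_47_0 lc_g_rc_24_1 lc_g_rc_16_1 lc_g_rc_44_3 lc_g_rc_7_1 lc_g_rc_16_1 lc_g_rc_37_1 lc_g_rc_50_2 lc_g_rc_49_4 lc_g_rc_16_1 lc_g_rc_7_1 lc_g_rc_16_1 lc_g_rc_50_0 lc_g_rc_16_1 lc_g_rc_7_1 lc_g_rc_16_1 lc_g_rc_31_3 lc_g_rc_31_3 lc_g_rc_16_1 lc_g_rc_7_1 lc_g_rc_7_1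 lc_g_rc_16_1 lc_g_rc_16_1 lc_g_rc_16_1 lc_g_rc_7_1 lc_g_rc_16_1 lc_g_rc_16_1 lc_g_rc_7_1 lc_g_rc_16_1 lc_g_rc_16_1 lc_g_rc_16_1 lc_g_rc_16_1 lc_g_rc_24_3 lc_g_rc_24_1 lc_g_rc_44_5 lc_g_rc_16_1 lc_g_rc_7_1 lc_g_rc_7_1 lc_g_rc_16_1 lc_g_rc_16_1 lc_g_rc_24_1 lc_g_rc_16_1 lc_g_rc_16_1) (@D3.rec (fun _ => (Cert rels S Gen.g)) lc_g_rc_50_0 lc_g_rc_44_3 lc_g_rc_16_1 lc_g_rc_16_1 lc_g_rc_16_1 lc_g_rc_37_3 lc_g_rc_47_0 lc_g_rc_16_1 lc_g_rc_16_1 lc_g_rc_37_1 lc_g_rc_16_1 lc_g_rc_24_1 lc_g_rc_16_1 lc_g_rc_16_1 lc_g_rc_31_3 lc_g_rc_16_1 lc_g_Cert_tree lc_g_rc_50_2 lc_g_rc_48_0 lc_g_rc_24_1 lc_g_rc_48_0 lc_g_rc_16_1 lc_g_Cert_tree lc_g_rc_7_1 lc_g_rc_48_0 lc_g_rc_7_1 lc_g_rc_48_0 lc_g_rc_24_1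 lc_g_rc_16_1 lc_g_rc_7_1 lc_g_rc_47_2 lc_g_rc_37_3 lc_g_rc_7_1 lc_g_rc_31_1 lc_g_rc_24_1 lc_g_rc_16_1 lc_g_rc_24_1 lc_g_rc_16_1 lc_g_rc_24_1 lc_g_rc_7_1 lc_g_rc_47_2 lc_g_rc_24_1 lc_g_rc_16_1 lc_g_rc_16_1 lc_g_rc_7_1 lc_g_rc_24_1 lc_g_rc_47_2 lc_g_rc_44_3 lc_g_rc_31_1 lc_g_rc_24_1 lc_g_rc_16_1) (@D3.rec (fun _ => (Cert rels S Gen.g)) lc_g_rc_31_3 lc_g_rc_16_1 lc_g_rc_37_1 lc_g_rc_16_1 lc_g_rc_16_1 lc_g_rc_49_0 lc_g_rc_16_1 lc_g_rc_37_1 lc_g_rc_44_3 lc_g_rc_50_2 lc_g_rc_16_1 lc_g_rc_37_3 lc_g_rc_7_1 lc_g_rc_16_1 lc_g_rc_50_2 lc_g_rc_47_0 lc_g_rc_49_2 lc_g_rc_16_1 lc_g_rc_16_1 lc_g_rc_7_1 lc_g_rc_16_1 lc_g_rc_24_1 lc_g_rc_16_1 lc_g_rc_16_1 lc_g_rc_16_1 lc_g_rc_44_5 lc_g_rc_24_1 lc_g_rc_16_1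 lc_g_rc_24_1 lc_g_rc_49_2 lc_g_Cert_tree lc_g_rc_24_1 lc_g_rc_48_0 lc_g_Cert_tree lc_g_rc_16_1 lc_g_rc_48_0 lc_g_rc_7_1 lc_g_rc_47_2 lc_g_rc_16_1 lc_g_rc_24_1 lc_g_rc_24_3 lc_g_rc_16_1 lc_g_rc_49_2 lc_g_rc_31_1 lc_g_rc_16_1 lc_g_rc_50_2 lc_g_rc_31_3 lc_g_rc_24_1 lc_g_rc_16_1 lc_g_rc_16_1 lc_g_rc_16_1) (@D3.rec (fun _ => (Cert rels S Gen.g)) lc_g_rc_16_1 lc_g_rc_16_1 lc_g_rc_16_1 lc_g_rc_16_1 lc_g_rc_16_1 lc_g_rc_47_2 lc_g_rc_16_1 lc_g_rc_16_1 lc_g_rc_37_1 lc_g_rc_44_3 lc_g_rc_16_1 lc_g_rc_49_4 lc_g_Cert_tree lc_g_rc_50_2 lc_g_rc_48_0 lc_g_Cert_tree lc_g_rc_16_1 lc_g_rc_48_0 lc_g_rc_24_1 lc_g_rc_16_1 lc_g_rc_16_1 lc_g_rc_31_1 lc_g_rc_31_1 lc_g_rc_16_1 lc_g_rc_16_1 lc_g_rc_24_1 lc_g_rc_16_1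 lc_g_rc_50_2 lc_g_rc_31_3 lc_g_rc_50_2 lc_g_rc_16_1 lc_g_rc_16_1 lc_g_rc_44_3 lc_g_rc_16_1 lc_g_rc_16_1 lc_g_rc_16_1 lc_g_rc_44_1 lc_g_rc_24_3 lc_g_rc_16_1 lc_g_rc_37_3 lc_g_rc_48_0 lc_g_rc_48_0 lc_g_rc_16_1 lc_g_rc_44_3 lc_g_rc_16_1 lc_g_rc_16_1 lc_g_rc_48_0 lc_g_rc_48_0 lc_g_rc_24_1 lc_g_rc_50_2 lc_g_rc_31_1)
def ce_g : Pt → (Cert rels S Gen.g) := @Pt.rec (fun _ => (Cert rels S Gen.g)) (@D1.rec (fun _ => D2 → D3 → (Cert rels S Gen.g)) ce_g_0 ce_g_1 ce_g_2 ce_g_3 ce_g_4 ce_g_5 ce_g_6 ce_g_7 ce_g_8 ce_g_9 ce_g_10 ce_g_11 ce_g_12 ce_g_13 ce_g_14 ce_g_15 ce_g_16 ce_g_17 ce_g_18 ce_g_19 ce_g_20 ce_g_21 ce_g_22)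
def isSeed_g (p : Pt) : Bool := false

end

end Cfsg.Agent.Helper28.S1689
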