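import Cfsg.Agent.Lib.Helper28.S1689.Tree

set_option autoImplicit false
set_option maxRecDepth 100000
set_option linter.all false

namespace Cfsg.Agent.Helper28.S1689

open Cfsg.Agent.Helper28
open Cfsg.Spor.Fi23 (Gen)

noncomputable section

def lv_h_0 : D2 → D3 → Nat := @D2.rec (fun _ => D3 → Nat) (@D3.rec (fun _ => Nat) 1 2 3 4 5 0 0 1 0 1 7 0 1 7 8 1 8 9 8 0 9 10 9 9 0 9 0 1 10 10 0 10 0 10 0 1 10 0 1 11 11 0 11 0 1 0 11 0 1 11 0) (@D3.rec (fun _ => Nat) 1 11 0 1 10 12 0 0 12 0 1 12 0 1 0 1 0 12 0 1 11 12 0 1 11 0 1 11 11 0 13 0 1 0 1 0 13 0 1 12 13 0 1 12 0 0 1 0 0 1 13) (@D3.rec (fun _ => Nat) 0 1 3 12 0 1 12 12 1 12 12 12 12 0 0 1 0 14 0 1 13 0 0 1 0 0 1 14 0 1 3 13 0 1 13 13 0 1 0 0 1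 0 0 1 1 3 0 1 4 4 4) (@D3.rec (fun _ => Nat) 13 1 13 13 13 13 13 13 13 13 13 13 0 1 0 0 0 1 0 0 1 15 0 1 3 14 14 0 1 0 0 1 0 0 1 1 3 0 1 4 4 4 14 1 14 14 14 14 0 0 1) (@D3.rec (fun _ => Nat) 0 13 0 1 1 0 0 1 1 4 13 4 4 1 5 5 5 5 5 5 14 14 14 14 14 14 14 14 14 14 14 14 14 14 0 0 0 1 0 14 0 1 0 1 0 0 1 0 0 1 1) (@D3.rec (fun _ => Nat) 3 0 1 4 4 4 15 15 0 0 1 0 14 0 1 1 0 0 1 1 4 14 4 4 1 5 5 5 5 5 5 15 15 15 15 15 15 15 0 1 0 1 0 14 0 1 14 0 1 14 0) (@D3.rec (fun _ => Nat) 1 1 5 14 5 5 14 14 5 5 5 6 6 6 6 6 6 6 6 6 6 15 15 15 15 15 15 15 15 0 15 15 15 15 15 0 15 15 71 1 16 0 1 0 0 1 0 15 0 1 15) (@D3.rec (fun _ => Nat) 0 1 15 0 0 1 0 15 0 1 1 0 0 1 1 4 15 4 4 1 5 5 5 5 5 5 0 16 16 0 1 0 1 0 15 0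 1 15 0 1 15 0 1 1 5 15 5 5 15 15 5) (@D3.rec (fun _ => Nat) 5 5 6 6 6 6 6 6 6 6 6 6 16 16 16 16 16 16 16 16 0 0 1 0 15 0 1 15 0 1 15 0 1 15 15 69 1 3 15 15 1 6 15 6 6 15 15 6 6 6 15) (@D3.rec (fun _ => Nat) 15 15 6 6 14 6 6 7 7 7 7 7 7 7 0 7 7 7 7 7 7 16 16 16 16 16 0 16 16 69 1 16 16 0 16 16 16 71 16 0 1 72 17 0 0 0 1 0 0 1 1) (@D3.rec (fun _ => Nat) 0 16 0 1 0 1 16 0 1 3 16 16 0 1 0 1 0 16 0 1 0 1 16 0 1 1 5 16 5 5 16 16 5 5 5 6 6 6 6 6 6 6 6 0 6 6 0 1 17 17 0) (@D3.rec (fun _ => Nat) 1 0 16 0 1 16 0 1 16 0 1 16 73 1 3 16 16 1 6 16 6 6 16 16 6 6 6 16 16 16 6 6 15 6 6 7 7 7 7 7 7 7 0 7 7 7 7 7 7 17 17) (@D3.rec (fun _ => Nat) 17 17 17 0 17 17 0 1 1 0 16 0 1 16 16 0 1 16 16 0 1 16 16 72 1 3 16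 16 3 70 4 16 16 16 16 7 7 16 16 7 7 7 16 16 16 7 7 0 7 7 16) (@D3.rec (fun _ => Nat) 16 0 16 16 7 15 7 15 7 7 8 8 8 8 8 0 8 8 8 69 8 0 1 8 8 8 8 8 17 17 0 17 17 17 71 17 0 1 70 17 73 17 0 1 17 74 17 76 0 1 20) (@D3.rec (fun _ => Nat) 18 0 1 0 1 0 1 0 0 1 1 3 17 0 1 0 1 17 1 3 17 17 1 3 4 4 17 17 17 0 1 0 17 0 1 17 0 1 0 1 17 1 3 17 17 1 6 17 6 6 17) (@D3.rec (fun _ => Nat) 17 6 6 6 17 17 17 6 6 0 6 6 7 7 7 7 7 7 7 0 7 7 7 0 7 0 1 7 7 0 0 1 17 18 1 0 17 0 1 17 17 0 1 17 17 0 1 17 73 1 3) (@D3.rec (fun _ => Nat) 17 17 3 69 4 17 17 17 17 7 7 17 17 7 7 7 17 17 17 7 7 0 7 7 17 17 0 17 17 7 16 7 16 7 7 8 8 8 8 8 0 8 8 8 0 8 0 1 8 8 8) (@D3.rec (fun _ => Nat) 8 8 18 18 0 18 18 18 0 18 0 1 68 0 1 17 17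 0 1 17 17 0 1 17 17 17 75 0 1 3 17 17 17 72 1 3 17 17 3 70 4 17 17 17 4 68 5 17 0 17 17) (@D3.rec (fun _ => Nat) 17 17 8 8 8 17 17 17 8 8 0 8 8 17 17 0 17 17 8 69 8 0 1 8 8 17 0 17 0 1 17 17 16 8 16 16 8 16 16 8 9 9 0 9 9 9 69 9 0 1 9) (@D3.rec (fun _ => Nat) 9 66 9 67 9 0 1 9 9 9 18 71 18 0 1 18 70 18 72 0 1 74 18 76 18 0 0 1 74 76 1 21 21 0 0 1 3 0 1 0 0 1 0 1 1 4 15 4 4 0 1) (@D3.rec (fun _ => Nat) 18 1 3 18 18 3 4 4 18 18 18 17 4 4 5 5 5 18 18 0 18 18 1 0 18 0 1 18 0 1 18 0 1 18 1 3 18 18 3 4 4 18 18 18 18 7 7 18 18 7 7) (@D3.rec (fun _ => Nat) 7 18 18 18 7 7 0 7 7 18 18 0 18 18 7 0 7 0 1 7 7 8 8 8 8 8 0 8 8 8 0 8 0 1 8 8 0 8 0 1 8 0 0 1 18 8 0 1 0 1 18) (@D3.rec (fun _ => Nat) 18 0 1 18 18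 0 1 18 18 75 0 1 3 18 18 75 1 3 18 18 3 71 4 18 18 18 4 69 67 5 18 18 0 18 18 18 18 8 8 8 18 18 18 8 8 0 8 8 18 18 0) (@D3.rec (fun _ => Nat) 18 18 8 0 8 0 1 8 8 18 0 18 0 1 18 18 17 8 17 17 8 17 17 8 9 9 0 9 9 9 0 9 0 1 9 9 66 9 0 0 1 9 0 1 18 9 9 9 19 0 19) (@D3.rec (fun _ => Nat) 0 1 19 70 19 0 0 1 0 1 18 69 1 18 18 0 1 18 18 18 77 0 1 3 18 18 18 0 77 1 3 73 4 18 18 18 3 72 4 18 18 18 4 70 5 18 0 18 18 5 70) (@D3.rec (fun _ => Nat) 68 6 0 18 0 1 18 18 18 18 18 9 9 0 9 9 18 18 0 18 18 9 71 9 0 1 9 9 18 72 18 0 1 18 18 66 9 69 9 0 0 1 9 0 18 0 0 1 18 0 0) (@D3.rec (fun _ => Nat) 1 18 17 17 9 17 17 17 9 17 17 10 71 10 0 1 10 10 68 10 70 10 0 0 1 10 66 10 69 10 0 1 10 72 19 74 19 0 0 1 72 72 1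 76 19 78 78 0 1 1 76)
def lv_h_1 : D2 → D3 → Nat := @D2.rec (fun _ => D3 → Nat) (@D3.rec (fun _ => Nat) 17 22 0 22 0 1 1 4 4 4 1 0 0 1 1 5 1 5 16 5 5 16 16 5 5 5 1 3 19 19 3 4 4 19 19 19 4 4 5 5 5 19 19 0 19 19 18 18 5 5 5) (@D3.rec (fun _ => Nat) 6 6 0 6 6 19 0 19 0 1 19 19 19 0 1 19 0 1 19 0 1 3 19 19 1 3 19 19 3 4 4 19 19 19 4 4 72 5 5 19 19 0 19 19 19 19 8 8 8 19 19) (@D3.rec (fun _ => Nat) 19 8 8 0 8 8 19 19 0 19 19 8 0 8 0 1 8 8 19 0 19 0 1 19 19 0 8 0 0 1 8 0 0 1 7 8 9 9 0 9 9 9 0 9 0 1 9 9 0 9 0) (@D3.rec (fun _ => Nat) 0 1 9 0 0 1 19 9 0 1 9 0 0 1 19 9 0 1 0 1 19 0 0 1 19 19 1 19 19 19 0 1 19 19 75 0 1 3 19 19 0 75 1 3 71 4 19 19 19 3 71) (@D3.rec (fun _ => Nat) 4 19 19 19 4 69 67 5 19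 19 0 19 19 5 65 65 68 6 19 0 19 0 1 19 19 19 19 19 9 9 0 9 9 19 19 0 19 19 9 0 9 0 1 9 9 19 0 19 0 1 19) (@D3.rec (fun _ => Nat) 19 64 9 0 0 1 9 0 0 1 7 9 0 19 0 0 1 19 0 0 1 19 18 18 9 18 18 18 9 18 18 10 0 10 0 1 10 10 66 10 0 0 1 10 0 0 1 19 10 71 64) (@D3.rec (fun _ => Nat) 10 0 1 0 1 10 0 1 19 10 70 20 0 0 1 20 0 0 1 19 70 70 0 1 0 1 1 19 19 19 19 77 19 0 1 3 19 19 19 0 77 1 3 73 4 19 19 19 0 1 78) (@D3.rec (fun _ => Nat) 18 4 73 5 19 0 19 19 4 70 5 19 0 19 19 5 70 69 6 0 19 0 1 19 19 6 68 68 7 71 0 1 19 0 0 1 19 19 19 0 19 19 10 71 10 0 1 10 10 19 72) (@D3.rec (fun _ => Nat) 19 0 1 19 19 66 10 68 10 0 0 1 10 66 19 70 19 0 0 1 19 64 10 69 69 10 0 1 0 1 0 0 1 19 0 1 0 0 1 19 0 1 0 1 18 18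 18 18 10 18 18) (@D3.rec (fun _ => Nat) 18 18 18 18 68 11 70 11 0 0 1 11 68 11 72 68 11 0 1 0 1 66 11 69 1 72 20 74 74 0 1 1 72 18 76 76 78 0 1 18 18 23 0 1 0 1 5 5 5 5 5) (@D3.rec (fun _ => Nat) 5 5 0 1 1 6 17 6 6 17 6 6 17 17 6 6 6 17 17 17 6 6 0 6 6 3 4 4 20 20 20 4 4 5 5 5 20 20 0 20 20 5 5 5 6 6 0 6 6 20 0) (@D3.rec (fun _ => Nat) 20 0 1 20 20 19 19 19 6 6 0 6 6 7 0 7 0 1 7 7 0 20 0 0 1 20 0 0 1 7 20 20 0 1 20 0 1 3 20 20 1 3 4 4 20 20 20 3 4 4 20) (@D3.rec (fun _ => Nat) 20 20 4 4 71 5 5 20 20 0 20 20 5 5 68 0 6 6 20 0 20 0 1 20 20 20 20 20 9 9 0 9 9 20 20 0 20 20 9 0 9 0 1 9 9 20 0 20 0 1 20) (@D3.rec (fun _ => Nat) 20 0 9 0 0 1 9 0 0 1 7 9 60 20 59 0 1 20 0 0 1 7 20 55 0 1 9 0 1 0 0 1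 58 9 0 1 0 1 8 10 0 10 0 1 10 10 0 10 0 0 1) (@D3.rec (fun _ => Nat) 10 0 0 1 20 10 0 0 1 10 0 1 0 0 1 20 10 0 1 0 1 20 0 0 1 20 10 0 1 0 1 20 0 0 1 8 20 1 20 0 1 1 20 20 20 103 20 20 77 20 0) (@D3.rec (fun _ => Nat) 1 3 20 20 0 77 1 3 73 4 20 20 20 1 77 19 4 71 73 5 20 20 0 20 20 4 71 69 5 20 20 0 20 20 5 67 67 69 6 20 0 20 0 1 20 20 6 65 65 65 67) (@D3.rec (fun _ => Nat) 7 0 20 0 0 1 20 0 0 1 67 20 20 20 0 20 20 10 0 10 0 1 10 10 20 0 20 0 1 20 20 66 10 0 0 1 10 0 0 1 7 10 66 20 0 0 1 20 0 0 1) (@D3.rec (fun _ => Nat) 7 20 64 64 10 0 1 0 0 1 10 0 1 0 1 8 63 0 1 20 0 1 0 0 1 20 0 1 0 1 19 19 19 19 10 19 19 19 19 19 19 68 11 0 0 1 11 0 0 1 20) (@D3.rec (fun _ => Nat) 11 68 68 11 0 1 0 0 1 11 0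 1 0 1 20 60 66 11 0 1 10 0 1 1 20 72 72 21 0 1 0 0 1 0 1 1 20 72 72 0 1 20 1 19 20 22 20 0 20 79 0) (@D3.rec (fun _ => Nat) 1 3 75 4 20 20 20 0 1 79 19 4 73 5 20 0 20 20 0 1 19 5 74 71 6 0 20 0 1 20 20 5 72 71 6 0 20 0 1 20 20 6 69 69 7 73 0 1 20 0 0) (@D3.rec (fun _ => Nat) 1 20 7 70 70 70 71 0 0 1 20 0 1 0 1 20 74 20 0 1 20 20 68 11 70 11 94 93 1 11 68 20 74 20 0 0 1 20 68 11 70 68 11 96 1 95 1 66 20 68 72) (@D3.rec (fun _ => Nat) 20 0 1 0 1 66 66 11 71 71 102 100 1 1 67 0 1 0 0 1 20 0 0 1 18 0 1 0 1 0 0 1 9 1 19 19 19 19 19 71 19 19 19 19 19 70 12 72 72 12 89) (@D3.rec (fun _ => Nat) 1 93 1 72 68 12 70 70 91 1 19 1 68 74 74 74 87 1 19 19 78 80 1 19 19 24 0 1 20 1 6 6 6 6 6 6 6 6 6 6 0 6 6 1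 7 18 7 7 18 18 7) (@D3.rec (fun _ => Nat) 7 7 18 18 7 7 7 18 18 18 7 7 0 7 7 18 0 18 18 7 0 7 0 1 7 7 4 4 5 5 5 21 21 0 21 21 5 5 5 6 6 0 6 6 21 0 21 0 1 21 21) (@D3.rec (fun _ => Nat) 6 6 0 6 6 7 0 7 0 1 7 7 0 21 0 0 1 21 0 0 1 7 21 20 20 68 20 20 7 62 7 0 1 7 7 60 8 61 0 1 8 0 0 1 7 8 57 0 1 21 0) (@D3.rec (fun _ => Nat) 1 0 0 1 56 21 0 1 0 1 8 21 0 1 3 21 21 1 3 4 4 21 21 21 20 4 4 71 5 5 21 21 0 21 21 4 4 71 5 5 21 21 0 21 21 5 5 67 0 6 6) (@D3.rec (fun _ => Nat) 21 0 21 0 1 21 21 0 6 6 0 65 0 1 7 7 0 21 0 0 1 21 0 0 1 7 21 21 21 0 21 21 10 0 10 0 1 10 10 21 0 21 0 1 21 21 0 10 0 0 1)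
def lv_h_2 : D2 → D3 → Nat := @D2.rec (fun _ => D3 → Nat) (@D3.rec (fun _ => Nat) 10 0 0 1 7 10 0 21 0 0 1 21 0 0 1 7 21 0 0 1 10 0 1 0 0 1 8 10 0 1 0 1 8 60 21 59 0 0 1 21 0 1 0 1 8 61 0 0 1 10 0) (@D3.rec (fun _ => Nat) 0 1 0 1 0 1 60 0 0 1 8 9 1 9 0 11 0 0 1 11 0 0 1 21 11 0 0 1 11 0 1 0 0 1 21 11 0 1 0 1 21 0 1 0 0 1 21 11 0 0 1) (@D3.rec (fun _ => Nat) 10 21 0 1 0 1 21 0 0 1 8 21 1 21 0 1 0 1 21 0 0 1 9 21 1 21 0 1 1 9 21 9 0 21 106 1 21 21 21 21 104 0 21 77 0 1 3 73 4 21 21) (@D3.rec (fun _ => Nat) 21 1 78 20 4 71 73 5 21 21 0 21 21 20 5 71 74 71 6 21 0 21 0 1 21 21 5 67 67 69 6 21 0 21 0 1 21 21 6 65 67 67 67 7 0 21 0 0 1 21 0) (@D3.rec (fun _ => Nat) 0 1 67 21 7 63 63 65 65 65 67 0 0 1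 21 0 1 0 0 1 65 21 0 1 0 1 65 21 0 21 0 1 21 21 66 11 0 0 1 11 97 101 1 7 11 66 21 0 0 1 21) (@D3.rec (fun _ => Nat) 0 0 1 7 21 64 66 11 0 1 0 0 1 11 102 1 103 1 8 68 64 21 0 1 0 0 1 21 0 1 0 1 8 62 64 64 11 0 0 1 11 0 1 0 1 105 106 1 9 1 9) (@D3.rec (fun _ => Nat) 61 0 0 1 21 0 0 1 0 1 0 1 0 0 1 9 1 20 20 20 20 20 0 20 20 20 20 20 68 68 12 0 1 0 0 1 12 91 1 95 1 21 68 70 66 12 0 0 1 11 0) (@D3.rec (fun _ => Nat) 1 0 1 93 1 20 21 1 21 66 66 0 1 11 11 1 21 72 72 72 0 0 1 21 0 1 1 89 1 20 21 21 72 0 1 21 23 20 20 0 23 0 21 0 1 80 79 1 20 4 75) (@D3.rec (fun _ => Nat) 5 21 88 21 21 0 1 20 5 75 73 6 0 21 90 1 21 21 1 20 6 73 71 7 0 0 1 21 94 90 1 21 6 69 71 7 73 0 1 21 92 93 1 21 7 71 67 69 73 0 0)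 (@D3.rec (fun _ => Nat) 1 21 94 1 95 1 70 70 70 71 0 1 0 1 104 103 1 18 1 68 21 74 21 90 91 1 21 68 12 70 70 12 68 21 71 72 21 98 1 95 1 70 66 12 68 68 66 66 21 72 72) (@D3.rec (fun _ => Nat) 100 103 1 10 1 66 66 68 71 67 0 0 1 0 1 0 1 63 0 1 0 1 19 0 0 1 71 1 108 1 1 11 72 20 20 75 20 20 20 20 70 20 20 20 72 70 13 74 93 70 68) (@D3.rec (fun _ => Nat) 72 74 76 78 20 20 0 1 21 21 21 7 7 7 7 7 7 7 7 7 7 7 0 7 7 7 0 7 0 1 7 7 19 8 8 19 19 8 8 8 19 19 19 8 8 0 8 8 19 19 19) (@D3.rec (fun _ => Nat) 8 8 0 8 8 19 0 19 19 8 0 8 0 1 8 8 0 19 0 1 19 19 0 8 0 0 1 8 0 0 1 7 8 5 5 5 6 6 0 6 6 22 0 22 0 1 22 22 6 6 0) (@D3.rec (fun _ => Nat) 6 6 7 0 7 0 1 7 7 0 22 0 0 1 22 0 0 1 7 22 7 0 7 0 1 7 7 0 8 0 0 1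 8 0 0 1 7 8 0 0 1 22 0 1 0 0 1 8 22 0 1) (@D3.rec (fun _ => Nat) 0 1 8 21 66 21 21 8 62 8 0 0 1 8 58 9 59 0 0 1 9 0 1 0 1 8 61 0 0 1 22 0 0 1 0 1 0 1 62 0 0 1 8 9 1 9 0 1 3 4 4) (@D3.rec (fun _ => Nat) 22 22 22 21 4 4 73 5 5 22 22 0 22 22 21 21 5 5 73 0 6 6 22 0 22 0 1 22 22 5 5 69 0 6 6 22 0 22 0 1 22 22 0 6 6 0 69 0 1 7 7) (@D3.rec (fun _ => Nat) 0 22 0 0 1 22 0 0 1 7 22 0 1 7 7 0 0 1 67 0 0 1 7 8 0 0 1 22 0 1 0 0 1 8 22 0 1 0 1 8 22 0 22 0 1 22 22 0 11 0 0) (@D3.rec (fun _ => Nat) 1 11 0 0 1 7 11 0 22 0 0 1 22 0 0 1 7 22 0 0 1 11 0 1 0 0 1 8 11 0 1 0 1 8 0 0 1 22 0 1 0 0 1 8 22 0 1 0 1 8 66) (@D3.rec (fun _ => Nat) 0 1 0 0 1 9 11 0 0 1 11 9 0 1 0 1 9 0 0 1 8 9 1 9 58 60 22 57 59 0 1 0 1 0 0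 1 9 9 1 9 61 59 0 1 0 1 0 0 1 0 1) (@D3.rec (fun _ => Nat) 0 0 1 9 60 1 60 0 1 1 9 10 9 0 10 0 0 1 12 0 1 0 0 1 22 12 0 1 0 1 22 0 1 0 0 1 22 12 0 0 1 11 22 0 1 0 1 22 0 0 1) (@D3.rec (fun _ => Nat) 21 22 1 22 0 0 1 22 0 1 0 1 22 0 1 0 1 11 22 11 68 0 0 1 9 22 1 22 0 1 1 9 22 9 0 22 0 0 1 10 22 1 22 0 1 1 10 22 10 0 22) (@D3.rec (fun _ => Nat) 103 1 10 22 10 22 10 0 10 0 1 22 22 104 0 1 79 79 1 21 4 73 75 5 22 22 90 22 22 21 5 73 75 73 6 22 0 22 92 1 22 22 21 6 73 71 73 71 7 0 22) (@D3.rec (fun _ => Nat) 0 0 1 22 96 92 1 22 6 67 69 69 71 7 0 22 0 0 1 22 92 94 1 69 22 7 65 67 67 71 67 69 0 0 1 22 0 1 0 0 1 67 22 94 1 101 1 69 63 65 65) (@D3.rec (fun _ => Nat) 67 67 67 67 0 1 0 0 1 22 0 0 1 12 0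 1 0 1 65 107 106 1 19 67 1 67 68 22 0 0 1 22 0 0 1 7 22 66 68 12 0 1 95 91 1 12 8 68 68 22 0) (@D3.rec (fun _ => Nat) 1 0 0 1 22 0 1 0 1 8 66 70 66 12 0 0 1 12 95 1 93 1 9 9 66 66 66 22 0 0 1 0 1 0 1 0 0 1 10 9 1 9 64 64 66 66 0 0 1 0 1) (@D3.rec (fun _ => Nat) 12 12 105 99 1 1 10 10 61 63 0 1 0 1 0 0 1 0 1 0 0 1 11 1 0 1 1 11 65 21 21 0 21 21 21 21 0 1 21 21 21 70 72 70 13 0 0 1 12 91 1) (@D3.rec (fun _ => Nat) 95 1 22 22 72 68 70 68 0 0 1 0 1 12 12 91 1 21 1 22 0 22 68 1 12 12 12 74 74 74 0 0 1 1 22 24 89 1 21 22 0 0 1 2 22 24 21 21 0 1 24)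
def lv_h_3 : D2 → D3 → Nat := @D2.rec (fun _ => D3 → Nat) (@D3.rec (fun _ => Nat) 0 0 1 0 1 81 21 21 5 76 75 6 1 21 6 74 75 7 1 20 21 7 72 72 73 1 92 1 7 71 71 75 1 69 69 72 75 1 1 69 72 72 73 73 1 19 1 70 22 92 91) (@D3.rec (fun _ => Nat) 22 70 70 13 73 68 22 96 97 68 68 68 68 102 101 10 68 68 65 67 62 0 1 0 1 102 108 1 68 1 64 0 0 1 1 20 1 1 109 69 73 21 21 68 21 21 21 74 70 72 76) (@D3.rec (fun _ => Nat) 21 21 1 22 22 22 22 22 22 8 8 8 8 8 8 8 0 8 8 8 8 0 8 8 8 0 8 0 1 8 8 0 8 0 0 1 8 0 0 1 22 8 20 20 9 9 9 20 20 20 9) (@D3.rec (fun _ => Nat) 9 0 9 9 20 0 20 20 9 0 9 0 1 9 9 20 0 20 20 9 0 9 0 1 9 9 0 20 0 1 20 20 0 9 0 0 1 9 0 0 1 7 9 0 0 1 20 0 0 1 7) (@D3.rec (fun _ => Nat) 20 0 0 1 9 0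 1 0 0 1 8 9 0 1 0 1 8 6 6 0 6 6 7 0 7 0 1 7 7 0 23 0 0 1 23 0 0 1 7 23 7 0 7 0 1 7 7 0 8 0 0) (@D3.rec (fun _ => Nat) 1 8 0 0 1 7 8 0 0 1 23 0 1 0 0 1 8 23 0 1 0 1 8 0 8 0 0 1 8 0 0 1 21 8 0 0 1 9 0 1 0 0 1 8 9 0 1 0 1 8 0) (@D3.rec (fun _ => Nat) 0 1 0 0 1 9 23 0 0 1 20 9 0 1 0 1 9 0 0 1 8 9 1 9 22 66 68 22 9 60 62 9 0 1 0 1 58 60 10 59 61 0 1 0 1 0 0 1 9 9 1) (@D3.rec (fun _ => Nat) 9 59 61 0 1 0 1 0 0 1 0 1 0 0 1 9 60 1 60 0 1 1 9 10 9 0 10 1 22 4 4 73 5 5 23 23 0 23 23 22 22 5 5 73 0 6 6 23 0 23 0) (@D3.rec (fun _ => Nat) 1 23 23 22 22 0 6 6 0 71 0 1 7 7 73 23 74 0 1 23 0 0 1 7 23 0 6 6 0 69 0 1 7 7 0 23 0 0 1 23 0 0 1 7 23 0 1 7 7 0 0) (@D3.rec (fun _ => Nat) 1 67 0 0 1 7 8 0 0 1 23 0 1 0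 0 1 8 23 0 1 0 1 8 0 0 1 21 8 0 1 0 0 1 8 67 0 1 0 1 8 0 0 1 0 0 1 69 23 0 0 1) (@D3.rec (fun _ => Nat) 12 9 0 1 0 1 9 0 0 1 20 9 1 9 0 23 0 0 1 23 0 0 1 7 23 0 0 1 12 0 1 0 0 1 8 12 0 1 0 1 8 0 0 1 23 0 1 0 0 1 8) (@D3.rec (fun _ => Nat) 23 0 1 0 1 8 68 0 1 0 0 1 9 12 0 0 1 12 9 0 1 0 1 9 0 0 1 22 9 1 9 67 0 1 0 0 1 9 23 0 0 1 67 9 0 1 0 1 9 0 0) (@D3.rec (fun _ => Nat) 1 10 9 1 9 66 0 0 1 10 0 1 0 1 10 0 0 1 0 1 12 10 12 68 0 0 1 9 10 1 10 0 1 1 9 10 9 0 10 60 62 0 59 61 0 0 1 11 1 0 1) (@D3.rec (fun _ => Nat) 1 11 10 11 0 10 0 59 61 0 0 1 10 1 0 1 0 0 1 2 1 0 1 1 10 60 10 0 62 0 1 10 11 10 11 10 0 10 0 1 0 1 0 0 1 23 13 0 0 1 12) (@D3.rec (fun _ => Nat) 23 0 1 0 1 23 0 0 1 22 23 1 23 0 0 1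 23 0 1 0 1 23 0 0 1 0 1 12 23 12 70 0 0 1 22 23 1 23 0 1 1 22 23 22 0 23 0 1 0 1 23) (@D3.rec (fun _ => Nat) 0 0 1 10 23 1 23 0 0 1 20 23 1 12 23 12 57 12 57 0 1 1 10 23 10 0 23 0 1 10 23 10 23 10 0 10 0 1 0 1 1 11 23 11 0 23 105 1 11 23 11) (@D3.rec (fun _ => Nat) 23 11 0 11 0 1 11 11 11 104 11 1 11 0 1 23 106 0 1 80 22 22 5 73 76 75 6 23 88 23 22 6 74 71 74 73 7 0 23 0 90 1 23 22 7 74 72 69 72 72 71) (@D3.rec (fun _ => Nat) 76 0 1 23 0 1 94 92 1 23 7 65 67 69 71 69 69 0 0 1 23 0 1 100 96 1 67 23 69 65 69 65 67 69 67 69 0 1 0 0 1 23 0 0 1 13 102 1 104 1 67) (@D3.rec (fun _ => Nat) 74 67 63 63 65 65 67 67 67 0 0 1 0 1 0 1 0 0 1 0 1 13 13 98 104 1 20 65 1 65 67 67 67 70 68 23 0 1 92 95 1 23 1 1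 8 66 68 68 13 94 97) (@D3.rec (fun _ => Nat) 1 13 70 73 66 23 0 0 1 98 1 101 1 1 22 9 1 9 68 64 66 66 0 96 1 101 1 13 13 68 68 66 66 0 0 1 0 1 105 99 1 10 1 1 1 10 10 20 10 0 64) (@D3.rec (fun _ => Nat) 64 66 66 0 1 105 107 1 2 1 13 13 13 0 61 63 0 0 1 66 1 0 1 0 0 1 2 1 101 1 1 11 11 1 109 101 69 74 0 22 22 0 1 22 22 22 0 0 1 12 22) (@D3.rec (fun _ => Nat) 72 70 70 101 0 91 1 99 1 13 13 0 70 68 68 0 1 93 1 2 1 13 13 13 22 1 13 13 13 13 0 74 74 0 1 89 1 2 23 23 25 22 1 1 2 23 3 3 23 25 22) (@D3.rec (fun _ => Nat) 78 1 25 0 1 0 1 1 82 22 22 6 21 22 7 21 22 21 67 67 69 63 102 104 1 1 1 1 21 72 75 22 22 22 23 23 23 23 23 23 23 23 79 23 23 9 9 9 9 9 0) (@D3.rec (fun _ => Nat) 9 9 9 75 9 0 1 9 9 9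 0 9 0 1 9 9 0 9 0 0 1 9 0 0 1 23 9 0 0 1 9 0 1 0 0 1 23 9 0 1 0 1 23 21 21 21 10 10 0 10 10) (@D3.rec (fun _ => Nat) 21 0 21 21 10 0 10 0 1 10 10 0 21 0 1 21 21 73 10 74 0 1 10 0 0 1 7 10 0 21 0 1 21 21 0 10 0 0 1 10 0 0 1 7 10 0 0 1 21 0 0) (@D3.rec (fun _ => Nat) 1 7 21 0 0 1 10 0 1 0 0 1 8 10 0 1 0 1 8 0 1 0 0 1 8 21 0 1 0 1 8 0 0 1 0 0 1 58 10 0 0 1 21 9 0 1 0 1 9 0 0) (@D3.rec (fun _ => Nat) 1 21 9 1 9 7 0 7 0 1 7 7 0 8 0 0 1 8 0 0 1 7 8 0 0 1 24 0 1 0 0 1 8 24 0 1 0 1 8 0 8 0 0 1 8 0 0 1 22 8 0)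
def lv_h_4 : D2 → D3 → Nat := @D2.rec (fun _ => D3 → Nat) (@D3.rec (fun _ => Nat) 0 1 9 0 1 0 0 1 8 9 0 1 0 1 8 0 0 1 0 0 1 9 24 0 0 1 21 9 0 1 0 1 9 0 0 1 23 9 1 9 0 0 1 9 0 1 0 0 1 22 9) (@D3.rec (fun _ => Nat) 0 1 0 1 22 0 0 1 0 0 1 9 10 0 0 1 21 9 0 1 0 1 9 0 0 1 10 9 1 9 0 1 0 0 1 21 10 0 1 0 1 10 0 0 1 0 1 21 10 21 0) (@D3.rec (fun _ => Nat) 0 0 1 9 10 1 10 0 1 1 9 10 9 0 10 23 66 68 10 62 64 0 0 1 11 1 58 60 0 59 61 0 0 1 11 1 0 1 1 11 10 11 0 10 0 59 61 0 0 1 10) (@D3.rec (fun _ => Nat) 1 0 1 0 0 1 2 1 0 1 1 10 58 10 0 60 0 1 10 11 10 11 10 0 10 0 1 23 23 23 5 5 75 93 91 93 24 0 24 0 1 24 23 23 91 6 6 0 73 93 1) (@D3.rec (fun _ => Nat) 95 95 77 24 76 0 1 24 0 0 1 7 24 93 23 23 93 1 7 7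 0 0 1 71 0 95 1 7 95 73 24 80 0 0 1 8 24 0 1 0 1 8 0 1 7 7 0 0 1 71 0) (@D3.rec (fun _ => Nat) 0 1 7 99 0 0 1 24 0 1 0 0 1 8 24 0 1 0 1 8 0 0 1 22 8 0 1 0 0 1 8 69 0 1 0 1 8 0 0 1 0 0 1 69 24 0 0 1 13 9 0) (@D3.rec (fun _ => Nat) 1 0 1 9 0 0 1 8 9 1 9 0 1 0 1 22 0 0 1 9 0 1 0 1 9 0 0 1 21 9 1 9 0 1 0 0 1 68 67 0 1 0 1 58 0 0 1 0 1 13 10) (@D3.rec (fun _ => Nat) 13 68 0 0 1 21 10 1 10 0 1 1 21 10 21 0 10 0 0 1 24 0 1 0 0 1 8 24 0 1 0 1 8 68 0 1 0 0 1 9 13 0 0 1 13 9 0 1 0 1 9) (@D3.rec (fun _ => Nat) 0 0 1 23 9 1 9 69 0 1 0 0 1 9 24 0 0 1 67 9 0 1 0 1 9 0 0 1 23 9 1 9 68 0 0 1 10 0 1 0 1 10 0 0 1 0 1 13 10 13 68) (@D3.rec (fun _ => Nat) 0 0 1 23 10 1 10 0 1 1 23 10 23 0 10 69 0 0 1 10 0 1 0 1 10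 0 0 1 0 1 65 10 59 0 0 1 10 10 1 10 0 1 1 10 10 10 0 10 66 66 0) (@D3.rec (fun _ => Nat) 0 1 0 1 11 0 0 1 10 11 1 11 0 1 0 0 1 2 11 1 13 11 13 57 13 68 0 1 1 10 11 10 0 11 0 1 10 11 10 11 10 0 10 0 1 60 60 0 1 59 59) (@D3.rec (fun _ => Nat) 0 1 1 11 11 0 1 11 11 11 11 11 0 11 0 1 0 1 59 59 0 1 1 11 11 0 0 1 2 12 0 1 1 5 3 0 1 11 60 11 60 11 0 11 0 1 1 11 12 11 11) (@D3.rec (fun _ => Nat) 0 11 0 11 0 1 11 0 1 0 0 1 24 0 1 0 1 24 95 0 1 0 1 13 24 13 70 0 0 1 23 24 1 24 0 1 1 23 24 23 0 24 99 0 1 0 1 24 0 0 1) (@D3.rec (fun _ => Nat) 23 24 1 24 99 1 0 0 1 2 24 1 13 24 13 70 13 70 0 1 1 23 24 23 0 24 0 1 23 24 23 24 23 0 23 0 1 0 0 1 21 24 1 24 0 1 1 11 24 11 0) (@D3.rec (fun _ => Nat) 24 0 1 1 21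 24 21 21 0 13 24 13 68 13 57 13 70 0 1 11 24 11 24 11 0 11 0 1 1 11 24 11 11 0 105 108 11 107 1 11 0 1 105 1 12 24 12 24 12 0 12) (@D3.rec (fun _ => Nat) 0 1 12 12 12 103 12 100 12 0 1 12 0 1 12 0 1 1 81 23 23 6 75 75 90 23 7 75 73 71 78 1 92 1 23 73 71 71 69 72 102 1 100 92 1 67 69 69 69 0 1) (@D3.rec (fun _ => Nat) 1 98 93 1 14 69 69 65 67 67 69 0 0 1 1 1 0 100 1 97 1 14 14 72 67 0 65 65 67 67 67 67 0 0 1 0 1 1 21 1 0 1 106 106 1 2 1 14 14 14 67) (@D3.rec (fun _ => Nat) 21 67 67 70 96 91 24 92 97 1 68 68 0 14 14 69 68 100 99 0 100 1 99 1 0 66 66 0 1 2 14 14 14 0 68 68 100 106 0 1 107 105 1 2 1 12 12 0 1 66 66) (@D3.rec (fun _ => Nat) 0 0 1 2 12 5 3 14 14 14 14 0 1 63 63 1 1 102 72 0 0 1 2 12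 108 1 1 5 3 13 73 111 103 74 0 0 1 23 23 0 0 1 13 23 0 0 1 1 13 91 72) (@D3.rec (fun _ => Nat) 70 91 1 2 14 14 14 93 1 70 93 1 2 24 5 3 3 14 14 14 14 14 14 14 14 87 1 76 91 1 2 24 5 3 3 24 24 26 24 3 3 75 4 24 26 0 1 22 1 22 23) (@D3.rec (fun _ => Nat) 23 22 23 22 65 68 67 67 107 0 24 24 24 24 24 24 24 94 24 24 24 94 24 24 10 10 92 10 10 10 77 10 94 1 10 10 10 74 10 96 96 1 10 0 10 0 0 1 10 0 0) (@D3.rec (fun _ => Nat) 1 24 10 0 0 1 10 0 1 0 0 1 24 10 0 1 0 1 24 0 0 1 0 0 1 24 10 0 0 1 22 24 0 1 0 1 24 0 0 1 22 24 1 24 22 0 22 22 90 0 88) (@D3.rec (fun _ => Nat) 92 1 90 92 0 22 0 1 22 22 75 92 76 0 1 92 0 94 1 7 92 75 0 1 22 0 0 1 7 22 77 92 72 0 0 1 92 0 1 94 1 8 0 0 1 22 0 0 1 7 22) (@D3.rec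 (fun _ => Nat) 0 0 1 96 0 1 0 0 1 8 98 0 1 0 1 8 0 1 0 0 1 8 22 0 1 0 1 8 0 0 1 0 0 1 71 100 0 0 1 22 9 0 1 0 1 9 0 0 1 8 9) (@D3.rec (fun _ => Nat) 1 9 0 0 1 22 9 0 1 0 1 9 0 0 1 22 9 1 9 0 1 0 0 1 22 69 0 1 0 1 71 0 0 1 0 1 22 10 22 0 0 0 1 22 10 1 10 0 1 1 22) (@D3.rec (fun _ => Nat) 10 22 0 10 0 8 0 0 1 8 0 0 1 23 8 0 0 1 9 0 1 0 0 1 8 9 0 1 0 1 8 0 0 1 0 0 1 9 25 0 0 1 22 9 0 1 0 1 9 0 0) (@D3.rec (fun _ => Nat) 1 24 9 1 9 0 0 1 9 0 1 0 0 1 23 9 0 1 0 1 23 0 0 1 0 0 1 9 10 0 0 1 22 9 0 1 0 1 9 0 0 1 24 9 1 9 0 1 0 0 1)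
def lv_h_5 : D2 → D3 → Nat := @D2.rec (fun _ => D3 → Nat) (@D3.rec (fun _ => Nat) 22 10 0 1 0 1 10 0 0 1 0 1 22 10 22 0 0 0 1 24 10 1 10 0 1 1 24 10 24 0 10 0 0 1 0 1 23 10 0 0 1 22 23 0 1 0 1 23 0 0 1) (@D3.rec (fun _ => Nat) 10 23 1 23 0 1 0 0 1 22 10 0 1 0 1 10 0 0 1 0 1 22 10 22 0 0 0 1 10 10 1 10 0 1 1 10 10 10 0 10 0 0 1 11 0 0 1 0 1 22 11) (@D3.rec (fun _ => Nat) 0 0 0 1 10 11 1 11 0 1 0 0 1 2 11 1 22 11 22 0 22 0 1 0 1 1 10 11 10 0 11 0 1 10 11 10 11 10 0 10 0 1 66 68 62 62 106 1 1 11 11) (@D3.rec (fun _ => Nat) 60 60 0 1 61 61 0 1 1 11 11 0 1 11 11 11 11 11 0 11 0 1 0 1 61 61 0 1 1 11 11 0 0 1 2 12 0 1 1 5 3 0 1 11 60 11 60 11 0 11 0) (@D3.rec (fun _ => Nat) 1 1 11 12 11 11 0 11 0 11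 0 1 11 0 1 89 75 77 25 76 0 1 93 1 0 92 1 71 95 7 75 25 80 0 0 1 8 0 1 1 95 23 0 1 0 93 1 8 69 95 1) (@D3.rec (fun _ => Nat) 8 71 73 25 76 78 0 1 0 1 9 0 0 1 8 9 1 95 1 23 0 1 0 0 1 8 69 93 1 97 1 8 0 0 1 0 0 1 71 25 0 0 1 14 9 0 1 0 1 9 0) (@D3.rec (fun _ => Nat) 0 1 9 9 1 9 1 1 23 0 0 1 9 0 1 0 1 9 0 93 1 99 9 1 9 0 1 0 0 1 68 69 0 1 0 1 71 0 0 1 0 1 14 10 14 70 0 0 1 9 10) (@D3.rec (fun _ => Nat) 1 10 0 1 1 9 10 9 0 10 1 22 23 1 23 0 0 1 0 1 10 0 0 1 22 10 1 10 0 1 1 22 10 22 0 10 0 0 1 69 0 0 1 0 1 68 56 58 0 0 1) (@D3.rec (fun _ => Nat) 22 56 1 58 0 1 0 0 1 2 11 1 14 11 14 55 14 70 0 1 1 22 11 22 0 11 0 1 22 11 22 11 22 0 22 0 1 69 0 1 0 0 1 9 25 0 0 1 69 9 0) (@D3.rec (fun _ => Nat) 1 0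 1 9 96 98 1 24 9 1 9 70 0 0 1 10 0 1 0 1 10 0 0 1 0 1 14 10 14 70 0 0 1 24 10 1 10 0 1 1 24 10 24 0 10 69 0 0 1 10 0) (@D3.rec (fun _ => Nat) 1 0 1 10 0 0 1 0 1 69 10 59 0 0 1 24 10 1 10 0 1 1 24 10 24 0 10 70 68 0 0 1 0 1 11 0 0 1 24 11 1 11 0 1 0 0 1 2 11 1 14) (@D3.rec (fun _ => Nat) 11 14 70 14 70 0 1 1 24 11 24 0 11 0 1 24 11 24 11 24 0 24 0 1 67 67 0 1 0 1 11 0 0 1 11 1 11 0 1 0 0 1 2 11 1 67 11 67 57 0 1) (@D3.rec (fun _ => Nat) 1 12 11 12 58 11 0 1 12 11 12 11 12 0 12 0 1 0 68 68 0 1 0 0 1 2 12 1 12 0 1 1 11 12 11 56 12 0 0 1 2 12 0 1 1 5 12 3 3 0 14) (@D3.rec (fun _ => Nat) 12 14 57 14 55 14 70 0 1 11 12 11 12 11 0 11 0 1 1 11 12 11 11 0 11 0 11 0 1 11 0 1 62 0 0 1 12 61 0 1 13 13 13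 13 1 13 12 13 13 0 13) (@D3.rec (fun _ => Nat) 0 13 0 1 13 0 1 0 0 1 57 61 0 1 12 12 12 12 0 0 1 1 5 13 3 55 0 1 6 6 6 4 1 12 62 12 12 0 12 0 12 0 1 12 0 1 12 13 12 12 104) (@D3.rec (fun _ => Nat) 12 1 12 1 12 0 1 0 1 22 1 1 25 1 24 25 1 25 1 95 25 1 14 25 14 72 14 72 1 1 24 25 24 0 25 1 24 25 24 25 24 0 24 0 1 1 97 25 1 25 1) (@D3.rec (fun _ => Nat) 1 24 25 24 0 25 2 25 1 1 99 25 3 3 0 14 25 14 70 14 72 14 72 1 24 25 24 25 24 0 24 0 1 1 24 25 24 24 0 24 0 24 0 1 24 0 1 1 1 22 25) (@D3.rec (fun _ => Nat) 22 0 25 1 12 25 12 25 12 0 12 0 1 1 22 25 22 25 22 22 0 22 22 0 22 0 1 14 70 14 57 14 57 14 72 1 12 25 12 12 0 12 0 12 0 1 12 0 1 25 106) (@D3.rec (fun _ => Nat) 101 107 102 1 102 12 102 0 1 13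 13 13 103 13 102 13 0 1 13 0 1 13 13 13 101 13 1 0 1 22 1 23 101 67 67 71 1 98 15 15 0 65 65 70 69 0 1 1 100 1 15) (@D3.rec (fun _ => Nat) 15 15 0 1 65 65 0 69 69 0 1 1 2 1 22 0 0 1 2 12 5 3 3 15 15 15 15 73 96 93 0 0 1 15 15 0 100 99 0 1 2 0 1 1 2 12 3 15 15 15 0) (@D3.rec (fun _ => Nat) 1 106 106 0 0 1 2 12 5 3 12 0 0 1 13 0 1 1 5 13 3 57 6 4 15 15 15 15 0 0 1 13 109 0 0 1 1 5 13 3 22 6 6 6 4 0 1 0 0 1 59) (@D3.rec (fun _ => Nat) 24 0 0 1 1 14 0 1 1 14 14 2 25 3 15 15 15 25 5 25 3 3 74 6 4 4 15 15 15 15 15 15 15 25 5 25 3 3 77 6 4 4 5 28 1 23 23 23 23 23 23) (@D3.rec (fun _ => Nat) 1 1 1 1 25 1 1 25 1 1 25 1 23 25 1 1 25 1 100 25 1 25 1 1 23 25 1 1 25 1 1 23 25 23 0 1 23 25 1 25 1 1 23 25 23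 0 25 0 23 94 1) (@D3.rec (fun _ => Nat) 23 23 77 78 88 1 78 0 1 23 0 94 1 7 23 77 74 0 92 1 94 1 74 0 0 1 23 0 1 96 1 8 75 81 72 74 0 1 93 1 0 96 1 8 9 0 1 0 0 1 8) (@D3.rec (fun _ => Nat) 23 0 1 0 1 8 0 0 1 0 94 1 71 0 0 1 23 9 0 1 98 1 9 102 100 1 94 9 1 9 0 0 1 23 9 0 1 0 1 9 0 0 1 9 9 1 9 0 1 0 0) (@D3.rec (fun _ => Nat) 1 23 69 0 1 98 1 71 0 0 1 0 1 23 10 23 0 0 0 1 9 10 1 10 0 1 1 94 10 99 0 10 0 0 1 0 1 23 10 0 0 0 1 23 10 1 10 0 1 1 23) (@D3.rec (fun _ => Nat) 10 23 0 10 0 0 1 23 69 0 0 1 0 1 23 69 23 0 0 0 1 23 58 1 71 0 1 0 0 1 2 11 1 23 11 23 0 23 0 1 0 1 1 23 11 23 0 11 0 1 23)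
def lv_h_6 : D2 → D3 → Nat := @D2.rec (fun _ => D3 → Nat) (@D3.rec (fun _ => Nat) 11 23 11 23 0 23 0 1 0 0 1 9 0 1 0 0 1 24 9 0 1 0 1 24 0 0 1 0 0 1 9 10 0 0 1 23 9 0 1 0 1 9 0 0 1 25 9 1 9 0 1) (@D3.rec (fun _ => Nat) 0 0 1 23 10 0 1 0 1 10 0 0 1 0 1 23 10 23 0 0 0 1 25 10 1 10 102 1 1 25 10 25 0 10 0 0 1 0 0 1 24 10 0 0 1 23 24 0 1 0 1) (@D3.rec (fun _ => Nat) 24 0 0 1 25 24 1 24 0 1 0 0 1 23 10 0 1 0 1 10 0 0 1 0 1 23 10 23 0 0 0 1 25 10 1 10 0 1 1 25 10 25 0 10 0 0 1 11 0 0 1) (@D3.rec (fun _ => Nat) 0 1 23 11 0 0 0 1 25 11 1 11 0 1 0 0 1 2 11 1 23 11 23 0 23 0 1 0 1 1 25 11 25 0 11 0 1 25 11 25 11 25 0 25 0 1 0 1 0 1 23) (@D3.rec (fun _ => Nat) 24 0 1 24 0 1 0 1 23 24 23 0 0 0 1 24 1 24 0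 1 1 12 24 12 60 24 0 0 1 11 0 1 0 1 23 11 0 0 0 1 11 1 11 0 1 0 0 1 2 11 1) (@D3.rec (fun _ => Nat) 23 11 23 0 23 0 1 0 1 1 12 11 12 58 11 0 1 12 11 12 11 12 0 12 0 1 0 0 1 0 1 12 0 1 0 0 1 2 12 1 23 12 23 0 1 0 1 1 11 12 11) (@D3.rec (fun _ => Nat) 54 12 0 0 1 2 12 0 1 1 5 12 3 3 0 23 12 23 0 23 0 1 23 0 1 0 1 11 12 11 12 11 0 11 0 1 1 11 12 11 11 0 11 0 11 0 1 11 0 1 13) (@D3.rec (fun _ => Nat) 13 13 13 60 0 0 1 12 61 0 1 13 13 13 13 1 13 12 13 13 0 13 0 13 0 1 13 0 1 0 0 1 59 61 0 1 12 12 12 12 0 0 1 1 5 13 3 55 0 1 6) (@D3.rec (fun _ => Nat) 6 6 4 1 12 60 12 12 0 12 0 12 0 1 12 0 1 12 13 12 12 0 12 12 0 0 1 12 0 1 12 0 1 0 1 23 92 92 1 93 1 93 8 73 76 0 1 1 93 97 1) (@D3.rec (fun _ => Nat)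 9 0 94 1 94 1 9 97 9 73 76 76 0 0 1 9 10 1 94 0 1 1 9 97 9 0 24 0 0 1 9 95 1 97 1 9 9 9 0 1 0 0 1 70 69 0 1 0 1 71 0) (@D3.rec (fun _ => Nat) 0 1 1 15 10 15 70 0 0 1 10 10 1 10 1 1 96 95 95 96 101 24 24 0 0 1 0 1 10 0 95 1 99 10 1 10 95 1 10 0 10 0 0 1 69 76 0 1 0 1 70) (@D3.rec (fun _ => Nat) 69 60 0 0 1 73 71 1 69 0 1 0 0 1 2 11 1 15 11 15 70 15 70 0 1 1 10 11 77 0 11 0 1 10 11 10 95 10 0 10 0 1 23 24 23 0 24 0 1 0 0) (@D3.rec (fun _ => Nat) 1 2 11 1 11 0 1 1 23 11 23 0 11 97 1 23 11 23 11 23 0 23 0 1 0 0 1 0 1 56 0 1 0 0 1 2 56 1 68 67 68 58 0 1 1 23 69 23 0 69 0) (@D3.rec (fun _ => Nat) 0 1 2 12 0 1 1 5 12 3 3 0 15 12 15 68 15 55 15 70 0 1 23 12 23 12 23 0 23 0 1 1 23 12 23 23 0 23 0 23 0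 1 23 0 1 71 0 0 1 10 0) (@D3.rec (fun _ => Nat) 1 0 1 10 0 0 1 0 1 69 10 61 101 99 1 25 10 1 10 10 0 10 70 70 0 0 1 0 1 11 0 0 1 25 11 1 11 105 1 0 0 1 2 11 1 97 11 15 70 15 70) (@D3.rec (fun _ => Nat) 0 1 1 25 11 25 0 11 0 1 25 105 25 101 25 0 25 0 1 71 69 0 0 1 0 1 11 0 0 1 25 11 1 11 0 1 0 0 1 2 11 1 67 11 69 70 0 1 1 25 11) (@D3.rec (fun _ => Nat) 25 0 11 105 1 25 11 11 0 25 0 1 0 70 68 0 1 0 0 1 2 12 1 12 0 1 1 25 12 25 0 12 0 101 1 2 12 0 1 1 5 12 3 3 0 101 12 15 68 15 70) (@D3.rec (fun _ => Nat) 15 70 0 1 25 12 25 12 25 0 25 0 1 1 25 12 25 25 0 25 0 25 0 1 25 0 1 69 69 0 0 1 56 12 1 12 0 1 1 12 12 0 0 1 2 12 0 1 1 5 12) (@D3.rec (fun _ => Nat) 55 3 0 67 12 67 59 57 0 1 12 12 12 12 12 60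 12 58 1 12 12 12 12 0 12 0 12 0 1 12 0 1 0 1 68 68 0 0 1 2 57 0 1 1 5 13 55 0 13 0 1) (@D3.rec (fun _ => Nat) 12 13 12 13 12 56 12 54 0 0 1 1 5 13 3 3 0 0 1 6 13 6 13 6 6 0 4 4 0 4 0 1 15 68 15 68 15 57 15 70 1 12 13 12 12 0 12 0 12 0 1) (@D3.rec (fun _ => Nat) 12 0 1 12 13 12 12 0 12 105 107 100 1 12 101 1 12 0 1 0 1 11 64 0 0 1 1 13 63 1 13 13 13 13 13 13 13 13 13 13 104 13 13 0 0 1 13 0 1 13 0) (@D3.rec (fun _ => Nat) 1 0 1 23 0 0 1 1 59 61 1 13 13 13 13 13 13 0 1 0 1 6 14 6 14 6 55 4 53 1 7 7 7 7 7 5 13 66 13 13 102 13 13 0 103 1 13 0 1 13 0) (@D3.rec (fun _ => Nat) 1 0 1 56 13 13 0 1 23 1 23 23 26 26 25 26 25 0 26 26 93 95 0 100 26 15 72 15 72 15 72 25 26 25 26 25 0 25 0 1 25 26 25 25 0 25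 0 25 0 1 25) (@D3.rec (fun _ => Nat) 0 1 26 97 0 26 25 26 25 26 25 0 25 0 1 3 3 99 26 26 97 99 0 4 4 0 4 0 1 15 70 15 70 15 72 15 72 25 26 25 25 0 25 0 25 0 1 25 0 1 26) (@D3.rec (fun _ => Nat) 25 0 25 25 0 0 1 25 0 1 25 0 1 0 1 26 23 26 23 26 23 0 23 0 1 13 26 13 13 0 13 0 13 0 1 13 0 1 23 26 23 23 0 23 23 0 23 23 0 23 0) (@D3.rec (fun _ => Nat) 1 23 23 0 23 0 1 23 0 1 15 70 15 70 15 59 72 26 13 103 13 13 0 101 1 102 103 1 13 102 1 0 1 8 103 104 104 1 14 14 14 103 14 102 14 0 1 0 1 23 0) (@D3.rec (fun _ => Nat) 23 1 23 23 24 16 1 1 12 16 16 0 0 1 12 66 0 1 1 2 58 5 0 1 1 5 13 3 3 70 6 16 16 16 16 1 1 12 16 16 1 1 2 12 1 13 13 3 70 4 16)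
def lv_h_7 : D2 → D3 → Nat := @D2.rec (fun _ => D3 → Nat) (@D3.rec (fun _ => Nat) 16 16 0 0 1 13 0 1 1 5 13 3 71 6 0 1 1 14 1 14 14 6 59 4 57 7 5 16 16 16 0 1 1 14 0 1 1 6 14 6 14 6 23 4 23 1 61 1 1 61 1) (@D3.rec (fun _ => Nat) 1 15 15 1 25 15 15 3 75 4 99 16 6 75 4 4 73 7 5 16 16 16 16 16 6 79 4 5 26 24 26 26 26 26 24 26 26 24 26 24 0 98 26 26 26 98 26 24 26 24 26) (@D3.rec (fun _ => Nat) 24 0 24 26 26 26 24 26 24 0 24 0 1 24 26 24 0 26 24 26 24 26 24 0 24 0 1 78 92 1 91 76 0 93 1 98 1 75 74 93 93 1 73 75 0 1 94 1 0 96 1) (@D3.rec (fun _ => Nat) 10 9 77 72 72 94 0 94 1 9 96 1 0 0 1 24 9 0 1 0 1 9 95 0 1 103 9 1 9 0 1 0 94 1 24 71 96 1 73 0 0 1 96 1 24 10 24 0 102 98 1) (@D3.rec (fun _ => Nat)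 94 10 10 10 94 10 0 0 1 0 1 24 10 0 0 0 1 11 10 1 10 0 1 1 11 10 103 0 10 0 0 1 24 71 76 0 1 98 1 24 71 24 0 0 100 1 77 73 73 0 1) (@D3.rec (fun _ => Nat) 0 0 1 2 11 1 24 11 24 0 24 0 1 0 1 1 94 11 77 0 11 104 1 94 11 11 94 100 102 1 0 1 0 0 1 2 11 1 24 11 24 0 1 0 1 1 24 11 24 0 11) (@D3.rec (fun _ => Nat) 0 1 24 11 24 11 24 0 24 0 1 0 0 1 0 1 24 71 24 0 0 1 0 0 1 2 56 1 24 71 24 0 24 0 1 0 1 1 24 58 24 0 73 0 0 1 2 12 0 1 1) (@D3.rec (fun _ => Nat) 5 12 3 3 0 24 12 24 0 24 0 1 24 0 1 0 1 24 12 24 12 24 0 24 0 1 1 24 12 24 24 0 24 0 24 0 1 24 0 1 0 0 1 0 0 1 25 10 1 24 25) (@D3.rec (fun _ => Nat) 1 0 1 25 0 1 26 25 1 25 0 1 0 0 1 24 10 0 1 0 1 10 0 0 1 0 1 24 10 24 0 0 0 1 26 10 1 10 0 1 1 26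 10 26 0 10 0 0 1 11 0) (@D3.rec (fun _ => Nat) 0 1 0 1 24 11 0 0 0 1 26 11 1 11 0 1 0 0 1 2 11 1 24 11 24 0 24 0 1 102 1 1 26 11 26 0 11 104 11 11 0 26 0 1 1 0 1 24 25 0 1) (@D3.rec (fun _ => Nat) 0 1 25 1 1 24 25 24 0 0 1 26 25 1 25 0 1 1 26 25 26 0 25 0 0 1 11 0 0 1 0 1 24 11 0 0 0 1 26 11 1 11 0 1 0 0 1 2 11 1 24) (@D3.rec (fun _ => Nat) 11 24 0 24 0 1 0 1 1 26 11 26 0 11 0 1 26 11 26 11 26 0 26 0 1 0 0 1 0 1 12 0 1 0 0 1 2 12 1 24 12 24 0 1 0 1 1 26 12 26 0) (@D3.rec (fun _ => Nat) 12 0 0 1 2 12 0 1 1 5 12 3 3 0 24 12 24 0 24 0 1 24 0 1 0 1 26 12 26 12 26 0 26 0 1 1 26 12 26 26 0 0 26 0 1 26 0 1 1 24 25) (@D3.rec (fun _ => Nat) 1 24 25 0 1 25 1 67 25 1 24 25 24 0 24 0 1 1 1 25 25 1 12 25 12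 25 12 60 12 60 0 1 0 1 12 0 0 1 56 12 1 24 12 24 0 1 0 1 1 12 12) (@D3.rec (fun _ => Nat) 0 0 1 2 12 0 1 1 5 12 57 3 0 24 12 24 0 24 0 1 24 0 1 0 1 12 12 12 12 12 58 12 58 1 12 12 12 12 0 12 0 12 0 1 12 0 1 0 1 0 0) (@D3.rec (fun _ => Nat) 1 2 13 1 13 0 0 1 2 59 0 1 1 5 13 55 3 0 24 13 24 0 0 1 0 1 12 13 12 13 12 56 12 54 0 0 1 1 5 13 3 3 0 0 1 6 13 6 13 6 6) (@D3.rec (fun _ => Nat) 0 4 4 0 4 0 1 24 0 24 0 1 24 0 1 24 0 1 1 12 13 12 12 0 12 0 12 0 1 12 0 1 12 13 12 12 0 12 12 0 0 1 12 0 1 12 0 1 0 1 11) (@D3.rec (fun _ => Nat) 13 62 0 0 1 1 13 63 1 13 13 13 13 13 13 13 13 13 102 13 1 1 0 1 68 1 24 0 0 1 1 59 65 1 13 13 13 13 13 13 0 1 0 1 6 14 6 14 6 57 4) (@D3.rec (fun _ => Nat) 55 1 7 7 7 7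 7 5 13 62 13 13 0 13 13 0 0 1 13 0 1 13 0 1 0 1 54 13 13 111 13 1 13 13 0 1 1 13 0 1 0 1 24 1 24 24 94 98 1 10 0) (@D3.rec (fun _ => Nat) 95 1 95 10 73 78 0 1 1 10 95 0 104 1 10 10 10 104 10 1 0 101 1 1 10 10 10 0 1 71 1 1 70 71 60 0 1 100 73 1 73 1 0 1 2 11 11 98 72 16 72) (@D3.rec (fun _ => Nat) 1 1 96 95 77 99 99 95 105 108 102 104 0 1 0 101 1 2 11 1 11 95 1 11 97 0 11 11 1 79 0 1 1 71 0 1 77 71 1 68 69 72 71 0 1 1 73 71 0 71 0) (@D3.rec (fun _ => Nat) 1 2 12 0 1 1 5 12 75 3 0 12 102 70 16 72 16 72 0 1 11 12 11 95 77 0 77 0 1 1 98 95 104 98 98 104 95 11 0 1 77 0 1 24 0 24 0 1 0 0 1) (@D3.rec (fun _ => Nat) 2 12 0 1 1 5 12 68 0 12 99 1 24 12 24 12 24 0 24 0 1 12 24 0 24 0 24 0 1 24 0 1 0 1 0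 0 1 63 54 1 56 0 0 1 2 56 0 1 1 5 56) (@D3.rec (fun _ => Nat) 3 68 0 68 69 68 58 56 0 1 24 71 24 71 24 0 24 0 1 0 0 1 1 5 13 3 3 0 0 1 6 13 6 13 6 6 0 4 4 0 4 0 1 16 70 16 55 16 55 16 72) (@D3.rec (fun _ => Nat) 1 24 13 24 24 0 24 0 24 0 1 28 0 1 24 99 24 24 0 24 24 0 0 1 24 0 1 24 0 1 0 1 11 73 0 0 1 1 11 97 97 1 26 11 1 11 1 99 1 2 11) (@D3.rec (fun _ => Nat) 1 71 11 71 72 11 26 0 11 1 1 0 0 1 2 12 1 12 0 1 1 26 12 26 0 12 99 2 12 0 1 1 98 12 3 98 0 12 72 16 72 16 72 0 1 26 103 26 101 26 0) (@D3.rec (fun _ => Nat) 26 0 1 1 26 26 0 26 99 26 0 1 26 0 1 73 0 1 0 0 1 2 12 1 12 0 1 1 26 12 26 0 12 0 1 2 12 0 1 1 5 12 3 3 0 69 12 71 70 72 103)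
def lv_h_8 : D2 → D3 → Nat := @D2.rec (fun _ => D3 → Nat) (@D3.rec (fun _ => Nat) 1 26 12 12 26 0 26 0 1 12 26 0 1 26 0 1 1 70 0 1 2 13 0 1 1 5 13 3 0 13 0 1 26 13 26 13 26 0 26 0 1 105 103 1 5 13 3 3 0 0 1) (@D3.rec (fun _ => Nat) 6 13 100 13 6 104 0 4 4 0 4 0 1 70 16 70 16 72 16 72 1 26 13 26 26 0 26 0 26 0 1 26 0 1 26 99 26 26 0 26 26 0 0 1 26 0 1 26 0 1 0) (@D3.rec (fun _ => Nat) 1 12 69 69 0 1 1 58 13 0 13 0 1 13 13 0 0 1 1 5 13 3 0 0 1 6 13 6 13 57 6 0 57 57 0 0 1 69 59 69 57 1 14 13 14 14 60 14 60 14 60) (@D3.rec (fun _ => Nat) 14 60 14 13 14 14 0 14 14 0 0 1 14 0 1 14 0 1 0 1 12 0 0 1 59 70 0 0 1 1 5 59 0 0 1 6 14 6 14 55 0 53 0 1 1 13 14 13 13 58 13) (@D3.rec (fun _ => Nat) 58 13 56 13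 54 0 1 0 1 6 14 6 14 6 6 0 4 4 0 4 0 1 1 7 14 7 7 0 7 7 0 7 7 0 7 0 1 5 5 0 5 0 1 5 0 1 16 70 16 70 16) (@D3.rec (fun _ => Nat) 57 72 13 14 13 13 0 13 13 0 0 1 13 0 1 13 0 1 0 1 8 108 102 101 106 1 13 101 102 103 13 100 0 1 12 1 12 12 0 1 0 1 14 14 15 15 15 15 15 15 15) (@D3.rec (fun _ => Nat) 107 107 104 15 15 15 0 1 1 15 0 1 0 1 24 1 24 24 1 1 59 59 14 14 14 14 14 14 14 1 26 15 1 7 15 7 7 57 7 57 7 55 5 53 8 8 8 8 8 8 8) (@D3.rec (fun _ => Nat) 14 14 14 100 14 0 1 14 1 0 1 56 1 54 56 1 24 0 0 1 93 95 95 97 0 1 72 74 16 74 100 26 0 0 26 0 1 26 0 1 26 26 0 26 26 0 0 1 26 0 1) (@D3.rec (fun _ => Nat) 26 0 1 0 1 27 0 1 26 0 0 0 1 26 0 1 4 4 101 4 103 97 99 97 105 0 1 95 5 0 5 0 1 5 0 1 16 72 16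 72 16 74 0 26 26 0 0 1 26 0 1) (@D3.rec (fun _ => Nat) 26 0 1 0 1 8 26 0 1 26 26 0 0 1 1 26 0 1 0 1 27 1 27 27 24 0 24 0 24 0 1 24 0 1 14 103 14 14 0 101 1 14 0 1 14 0 1 0 1 8 24) (@D3.rec (fun _ => Nat) 0 24 24 0 24 0 1 24 24 0 24 0 1 24 24 0 24 0 1 24 0 1 24 0 24 0 1 24 0 1 8 24 0 1 16 72 16 72 59 101 101 102 0 99 1 102 102 9 1 9 9) (@D3.rec (fun _ => Nat) 15 15 15 101 0 1 24 1 24 24 1 24 25 17 12 71 17 17 1 1 13 1 71 5 58 69 1 14 14 6 72 72 70 17 17 12 94 17 13 13 98 100 4 78 5 17 17 1 1 14 1) (@D3.rec (fun _ => Nat) 14 14 6 70 68 1 15 15 107 15 7 57 5 57 7 6 17 17 1 15 15 1 26 15 15 24 24 24 24 61 65 61 26 16 104 26 16 26 0 4 75 101 7 74 104 5 7 99 17 17 25) (@D3.rec (fun _ => Nat) 0 25 0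 25 0 25 0 1 98 25 25 0 0 25 0 1 0 25 0 25 0 1 25 0 1 25 0 25 0 1 25 0 25 0 25 0 1 25 0 1 74 99 1 94 0 74 0 95 1 10 105) (@D3.rec (fun _ => Nat) 1 10 105 77 74 74 95 95 1 0 0 1 0 1 25 10 0 97 0 1 101 10 1 10 1 10 109 10 0 92 1 25 71 76 94 1 71 25 0 96 73 0 1 100 98 1 2 11 11 25 0) (@D3.rec (fun _ => Nat) 25 0 1 11 102 96 0 1 0 0 1 2 11 1 25 11 25 0 1 0 1 1 11 11 11 0 11 97 1 103 11 103 11 103 96 101 0 1 76 0 1 96 1 25 71 25 0 78 0 98 1) (@D3.rec (fun _ => Nat) 76 71 71 25 0 25 0 1 106 1 73 0 0 0 1 2 12 0 1 1 5 12 75 3 0 12 25 0 25 0 1 25 0 1 102 1 96 12 12 102 96 76 77 1 12 96 98 100 0 0 1) (@D3.rec (fun _ => Nat) 2 12 0 1 1 5 12 3 3 0 25 12 25 0 0 1 0 1 25 12 25 12 25 0 25 0 1 1 25 12 25 25 0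 25 0 25 0 1 25 0 1 0 1 0 0 1 2 56 1 25 71) (@D3.rec (fun _ => Nat) 25 25 0 0 1 0 0 1 2 58 0 1 1 5 58 3 3 0 71 25 0 25 0 1 25 0 1 0 1 25 71 60 25 0 0 1 0 0 1 1 5 13 3 3 0 0 1 6 13 6 13) (@D3.rec (fun _ => Nat) 6 6 0 4 4 0 4 0 1 25 0 25 0 1 25 0 1 25 0 1 1 25 13 25 25 0 25 0 25 0 1 29 0 1 13 25 0 25 25 0 0 1 25 0 1 25 0 1 0 1 11) (@D3.rec (fun _ => Nat) 1 1 25 26 1 1 26 25 26 25 0 27 26 1 26 1 27 26 27 0 26 0 0 1 11 0 0 1 0 1 25 11 0 0 0 1 27 11 1 11 0 1 0 0 1 2 11 1 25 11 25) (@D3.rec (fun _ => Nat) 0 25 0 1 0 1 1 27 11 27 0 11 103 1 11 27 11 0 27 0 1 0 0 1 96 1 12 0 1 0 0 1 2 12 1 25 12 25 0 1 98 1 1 27 12 27 0 12 0 0 1) (@D3.rec (fun _ => Nat) 2 12 100 1 1 5 12 3 3 0 12 25 0 25 0 1 25 0 1 102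 12 12 27 0 27 0 1 1 27 0 1 25 26 1 25 26 0 1 27 26 1 26 26 25 26 25 0 25 0 1 1) (@D3.rec (fun _ => Nat) 27 26 27 0 26 1 27 26 27 26 27 0 27 0 1 0 0 1 0 1 12 0 1 0 0 1 2 12 1 25 12 25 0 1 0 1 1 27 12 27 0 12 0 0 1 2 12 0 1 1 5) (@D3.rec (fun _ => Nat) 12 3 3 0 25 12 25 0 25 0 1 25 0 1 0 1 27 12 27 12 27 0 27 0 1 1 27 12 27 27 0 27 0 27 0 1 27 0 1 76 0 1 0 0 1 2 13 1 13 0 0) (@D3.rec (fun _ => Nat) 1 2 13 0 1 1 5 13 3 3 0 25 13 25 0 0 1 0 1 27 13 27 13 27 0 27 0 1 0 0 1 1 5 13 3 3 0 0 1 6 13 6 13 6 6 0 4 4 0 4 0) (@D3.rec (fun _ => Nat) 1 25 0 25 0 1 25 0 1 25 0 1 1 27 13 27 27 0 27 0 27 0 1 27 0 1 13 27 0 27 27 0 0 1 1 27 0 1 0 1 100 25 26 0 25 26 25 0 1 26 26)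
def lv_h_9 : D2 → D3 → Nat := @D2.rec (fun _ => D3 → Nat) (@D3.rec (fun _ => Nat) 64 71 25 26 25 0 25 0 1 25 0 1 26 26 26 14 64 62 62 69 0 0 1 56 13 1 13 0 1 1 56 13 56 0 25 13 25 0 0 1 0 1 13 13 0 0 1 1 5 13 3) (@D3.rec (fun _ => Nat) 0 0 1 6 13 6 13 57 6 0 69 64 0 69 0 1 25 0 25 0 1 25 0 1 25 0 1 1 14 13 14 14 60 14 60 14 58 58 14 13 14 14 0 14 101 104 103 1 105 1 0) (@D3.rec (fun _ => Nat) 1 65 1 12 0 0 1 2 59 0 1 1 5 14 34 0 14 0 0 1 1 5 59 3 0 0 1 6 14 6 14 57 6 0 55 57 0 0 1 25 0 25 0 1 1 1 13 14 13 13 56) (@D3.rec (fun _ => Nat) 13 56 13 54 13 52 0 1 0 1 6 14 6 14 6 6 0 4 4 0 4 0 1 1 7 14 7 7 0 7 7 0 7 7 0 7 0 1 30 27 0 5 0 1 5 0 1 25 0 1 25) (@D3.rec (fun _ => Nat) 0 1 25 0 1 5 0 1 13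 14 13 13 0 13 13 0 0 1 13 0 1 13 0 1 0 1 8 13 13 0 13 110 111 104 1 13 13 0 105 109 1 1 13 0 1 0 1 12 1 12 12) (@D3.rec (fun _ => Nat) 0 1 0 1 14 14 15 15 15 15 15 1 25 0 1 100 1 61 61 14 14 14 14 14 14 0 1 27 15 1 7 15 7 7 57 7 57 7 55 5 53 102 8 8 8 8 8 14 14 104 14) (@D3.rec (fun _ => Nat) 14 0 107 1 14 14 0 0 0 1 1 14 0 1 0 1 56 1 54 67 14 0 1 25 27 0 1 25 1 25 25 1 96 2 99 1 11 11 102 1 11 1 2 11 11 1 71 77 71 71 72) (@D3.rec (fun _ => Nat) 71 1 100 73 101 71 2 12 1 99 101 75 99 0 100 72 17 72 100 104 100 97 100 104 98 104 0 1 2 12 103 1 5 12 3 0 12 12 0 1 0 1 77 71 69 1 76 69 76 0 69) (@D3.rec (fun _ => Nat) 72 69 71 0 1 98 71 75 71 0 1 1 5 13 3 0 0 1 6 13 100 105 77 99 0 75 77 0 4 0 1 104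 70 17 72 17 72 1 98 97 79 98 98 79 97 77 0 1 0 1 97) (@D3.rec (fun _ => Nat) 97 104 98 98 102 104 77 0 1 0 1 12 25 0 1 25 0 1 0 0 1 1 5 13 0 99 1 6 13 6 13 60 0 57 0 1 13 25 0 25 0 25 0 1 25 0 1 25 0 1 25) (@D3.rec (fun _ => Nat) 0 1 25 0 1 0 1 12 0 1 69 0 1 1 60 69 0 69 1 1 5 58 3 0 0 1 6 69 6 69 6 62 0 61 67 0 0 1 70 60 70 58 1 25 71 25 25 0 25 0 25) (@D3.rec (fun _ => Nat) 0 1 27 0 1 1 0 1 6 14 6 14 6 6 0 4 4 0 4 0 1 1 7 14 7 7 0 7 106 0 7 7 0 7 0 1 26 5 0 68 0 1 5 0 1 104 70 17 70 17 57) (@D3.rec (fun _ => Nat) 72 25 99 25 25 0 25 25 0 0 1 25 0 1 29 0 1 0 1 8 0 25 25 0 0 1 25 25 0 106 0 1 1 25 0 1 0 1 12 1 12 12 1 1 2 12 12 12 27 0 12) (@D3.rec (fun _ => Nat) 2 12 97 12 3 94 0 12 95 72 0 1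 2 13 1 1 98 13 3 0 99 0 1 27 101 99 0 0 1 3 0 0 1 99 103 99 97 0 4 99 0 98 0 1 17 72 100 94 1 27 27) (@D3.rec (fun _ => Nat) 27 0 101 27 0 1 27 0 1 27 0 1 27 103 27 0 1 0 1 73 0 1 2 13 0 1 1 5 13 79 0 13 101 1 27 13 13 27 0 27 0 1 1 5 13 3 3 0 101 1 6) (@D3.rec (fun _ => Nat) 13 98 13 6 101 0 4 77 0 0 1 101 71 70 13 27 27 0 0 1 27 0 1 0 1 0 1 99 98 108 1 5 14 3 0 0 1 6 14 98 14 6 0 4 0 1 1 27 14 27 27) (@D3.rec (fun _ => Nat) 0 0 0 1 27 0 1 105 6 14 6 0 4 4 0 4 0 1 1 106 14 7 7 0 101 0 7 99 0 103 0 1 75 5 0 5 0 1 5 0 1 17 70 17 72 98 27 105 27 27 0) (@D3.rec (fun _ => Nat) 27 27 0 0 1 27 0 1 27 0 1 0 1 8 0 27 27 0 110 1 27 27 0 106 0 1 1 27 0 1 0 1 104 1 13 13 0 1 58 14 58 14 0 1 1 14 1 0 1 6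 14) (@D3.rec (fun _ => Nat) 6 14 6 0 0 1 1 7 14 57 7 0 57 7 0 57 57 0 7 0 1 61 0 0 1 1 69 59 59 14 14 14 14 62 14 14 60 62 14 60 14 60 60 102 14 102 102 1 14 14 0) (@D3.rec (fun _ => Nat) 105 1 1 14 0 1 0 1 13 1 13 13 1 1 59 70 1 104 1 6 59 6 59 0 1 1 7 15 55 7 0 57 0 55 0 1 28 0 1 14 15 14 14 58 14 14 59 61 14 59 14) (@D3.rec (fun _ => Nat) 54 52 105 1 105 15 1 7 15 7 7 0 7 7 0 7 7 0 7 0 1 5 5 0 5 0 1 5 0 1 8 15 8 8 0 8 8 0 8 0 1 8 8 0 104 0 1 8 8 0 8) (@D3.rec (fun _ => Nat) 0 1 7 0 1 28 0 27 0 1 6 0 1 8 6 0 1 17 70 17 70 59 14 102 14 14 0 103 1 14 101 102 0 101 1 1 14 100 1 0 1 9 1 9 9 104 102 1 13 0 1) (@D3.rec (fun _ => Nat) 27 15 1 15 15 108 15 15 15 1 0 1 1 25 27 61 61 15 15 15 15 15 0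 15 27 16 27 27 0 8 16 8 8 57 8 8 60 57 8 60 8 53 51 9 9 9 9 9 0 9 1) (@D3.rec (fun _ => Nat) 56 57 1 56 58 1 1 93 93 101 95 100 1 100 0 1 1 0 1 0 1 95 0 103 1 0 0 1 1 0 1 0 1 28 1 28 28 1 0 1 1 1 0 1 8 5 99 99 5 101 5) (@D3.rec (fun _ => Nat) 97 97 99 99 107 0 1 97 0 99 0 1 99 0 1 8 101 104 1 72 17 72 1 27 0 0 0 1 1 0 1 0 1 99 1 9 9 0 1 27 0 0 1 1 28 0 1 28 1 28 28) (@D3.rec (fun _ => Nat) 28 28 28 28 25 0 1 25 0 1 25 0 1 0 1 8 15 103 15 15 0 0 101 1 102 103 1 102 1 9 1 9 9 0 1 25 25 0 0 25 0 1 25 0 1 25 25 103 25 0 1) (@D3.rec (fun _ => Nat) 0 1 25 0 25 0 1 25 0 1 9 25 0 1 25 0 1 25 0 1 9 25 0 1 14 9 102 1 17 72 72 1 0 10 1 25 25 99 25 18 14 14 71 69 102 70 18 5 100 18 15)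
def lv_h_10 : D2 → D3 → Nat := @D2.rec (fun _ => D3 → Nat) (@D3.rec (fun _ => Nat) 15 107 15 103 107 106 106 0 7 70 6 59 8 18 27 16 16 0 27 0 27 0 27 0 1 7 75 99 26 0 1 26 0 1 26 0 1 26 0 1 0 0 1 1 26 0 1 1 26 0 1) (@D3.rec (fun _ => Nat) 26 0 1 26 0 1 25 26 0 1 0 1 26 0 1 26 0 1 26 0 1 0 1 25 102 1 75 98 1 12 12 74 96 100 1 101 0 1 2 11 1 26 11 26 0 1 1 11 101 96 94) (@D3.rec (fun _ => Nat) 1 73 0 76 73 26 0 1 0 1 2 12 5 12 76 3 0 26 0 1 26 0 1 100 0 98 1 2 12 0 1 1 5 12 3 3 0 26 12 26 0 0 1 99 1 103 12 103 12 99 96) (@D3.rec (fun _ => Nat) 101 0 1 12 96 103 105 97 0 1 78 0 98 1 74 73 73 26 0 0 1 78 78 100 1 76 73 76 0 26 0 1 26 0 1 106 73 1 0 1 1 5 13 3 0 102 1 6 13 6 13) (@D3.rec (fun _ =>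 Nat) 78 6 0 78 78 0 4 0 1 26 0 1 26 0 1 26 0 1 13 102 96 104 100 98 0 0 1 1 5 13 3 3 0 0 1 6 13 6 13 6 6 0 66 62 0 0 1 26 0 26 0) (@D3.rec (fun _ => Nat) 1 1 1 26 13 26 26 0 26 0 26 0 1 26 0 1 13 26 0 26 26 0 0 1 0 1 0 1 0 1 12 0 0 1 2 61 0 1 1 5 56 68 33 0 73 26 0 0 0 1 1) (@D3.rec (fun _ => Nat) 0 0 1 1 5 58 3 3 0 0 1 6 71 6 58 6 6 0 0 60 0 1 26 0 1 26 0 1 26 0 1 1 73 26 0 0 1 1 0 1 0 1 6 14 6 14 6 6 0 4 4) (@D3.rec (fun _ => Nat) 0 4 0 1 1 7 14 7 7 0 7 7 0 7 7 0 7 0 1 28 29 0 27 0 1 5 0 1 26 0 1 26 0 1 26 0 1 5 0 1 14 26 0 26 26 0 0 1 26 0 1) (@D3.rec (fun _ => Nat) 30 0 1 0 1 8 26 0 1 26 26 0 0 1 1 26 0 1 0 1 12 1 12 12 27 26 27 0 28 27 27 26 0 0 1 28 0 27 28 27 0 28 0 1 0 1 0 1 12 0 1) (@D3.rec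 (fun _ => Nat) 0 0 1 2 12 1 12 26 0 1 0 1 1 12 28 0 12 98 1 2 12 0 1 1 5 12 3 3 0 26 12 0 26 0 1 0 1 103 1 12 28 12 0 28 0 1 98 1 28 0 1) (@D3.rec (fun _ => Nat) 1 96 1 2 13 13 0 1 2 13 98 1 1 5 13 3 3 0 13 26 0 0 1 98 13 13 28 0 28 0 1 0 1 1 5 13 3 3 0 102 6 13 6 13 6 6 0 4 4 0 4) (@D3.rec (fun _ => Nat) 0 1 0 1 26 0 1 26 96 1 0 1 28 0 1 0 1 0 26 27 0 1 28 27 0 27 26 0 26 0 1 0 1 28 27 28 0 28 0 1 28 27 28 28 0 28 0 28 0 1 28) (@D3.rec (fun _ => Nat) 0 1 0 1 0 0 1 76 13 1 13 0 0 1 2 13 0 1 1 5 13 3 3 0 13 26 0 0 1 0 1 28 13 13 28 0 28 0 1 0 0 1 1 5 13 3 3 0 0 1 6) (@D3.rec (fun _ => Nat) 13 6 13 6 6 0 4 4 0 4 0 1 0 26 0 1 26 0 1 0 1 1 28 13 28 28 0 0 28 0 1 28 0 1 13 28 0 28 28 0 0 1 28 105 1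 28 0 1 0 1 104) (@D3.rec (fun _ => Nat) 78 0 0 1 2 14 0 1 1 5 14 76 0 14 0 0 1 1 5 14 3 3 0 0 1 6 14 6 14 6 6 0 4 4 0 0 1 26 0 26 0 1 1 1 28 14 28 28 0 28 0) (@D3.rec (fun _ => Nat) 28 0 1 28 0 1 0 1 0 1 6 14 6 14 6 6 0 4 4 0 4 0 1 1 7 14 7 7 0 7 7 0 7 7 0 7 0 1 76 80 0 77 0 1 5 0 1 26 0 1 26) (@D3.rec (fun _ => Nat) 0 1 26 0 1 5 98 1 14 28 28 0 28 28 0 0 1 0 1 28 0 1 0 1 8 0 1 28 28 0 0 1 1 0 1 1 100 68 1 26 0 71 1 69 0 26 0 1 26 0 1) (@D3.rec (fun _ => Nat) 0 1 25 104 0 1 1 58 14 58 0 14 0 1 58 14 58 14 58 0 0 1 26 0 26 0 1 1 1 14 0 1 0 1 6 14 6 14 6 0 0 1 1 7 14 59 7 0 59 7 0) (@D3.rec (fun _ => Nat) 61 59 0 7 0 1 0 0 1 62 0 1 26 0 1 26 0 1 26 0 1 5 0 1 14 14 14 14 60 14 14 60 60 60 60 104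 102 103 1 103 1 13 102 0 1 1 5 61 0 0 1) (@D3.rec (fun _ => Nat) 6 15 6 15 34 0 0 1 0 1 0 1 6 61 6 61 6 0 0 1 1 7 15 57 7 0 56 7 0 55 57 0 7 0 1 0 0 1 1 26 0 1 0 1 5 14 15 14 14 58 14) (@D3.rec (fun _ => Nat) 14 61 58 61 14 54 52 0 1 13 15 1 7 15 7 7 0 7 7 0 7 7 0 7 0 1 0 5 0 1 5 0 1 8 15 8 8 0 8 8 0 8 0 1 8 8 0 8 0 1 30) (@D3.rec (fun _ => Nat) 29 0 8 0 1 7 0 1 0 27 0 1 6 0 1 8 6 0 1 5 26 0 1 26 0 1 7 0 1 6 6 1 14 14 0 14 14 0 0 1 14 14 0 0 0 1 1 14 0 1 0) (@D3.rec (fun _ => Nat) 1 9 1 9 9 106 105 110 1 14 105 106 103 0 101 103 1 103 13 13 0 1 13 1 13 13 0 1 28 15 1 15 1 28 61 61 15 15 15 15 15 0 1 28 16 28 28 0 16 8 59) (@D3.rec (fun _ => Nat) 8 8 60 62 8 60 8 55 53 102 9 9 9 0 15 15 104 15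 0 1 0 1 1 0 1 56 28 0 1 56 1 54 61 1 26 1 26 2 2 12 0 98 73 97 0 73 100 99 0 99 103) (@D3.rec (fun _ => Nat) 98 0 75 98 0 100 0 1 74 100 94 100 102 102 102 1 5 13 3 0 6 13 0 0 1 1 1 99 71 0 80 71 99 0 0 1 72 71 1 100 73 100 105 1 6 14 0 4 0 1 1) (@D3.rec (fun _ => Nat) 103 97 81 7 0 100 0 75 100 0 106 0 1 79 0 79 0 1 5 0 1 104 72 18 74 96 99 102 97 102 100 100 100 79 100 0 1 1 8 102 104 100 104 0 1 1 13 13 26 0 1) (@D3.rec (fun _ => Nat) 0 1 25 1 1 6 14 6 14 0 1 7 14 62 7 0 62 0 59 0 1 69 0 1 26 0 1 26 0 1 26 0 1 0 1 8 26 0 1 26 0 1 0 1 13 1 13 13 1 71 1)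
def lv_h_11 : D2 → D3 → Nat := @D2.rec (fun _ => D3 → Nat) (@D3.rec (fun _ => Nat) 60 71 108 71 0 1 6 71 6 106 6 0 0 1 1 110 71 7 7 0 7 108 0 63 65 0 62 0 1 0 0 1 1 107 58 58 26 73 26 26 0 26 26 0 0 1 26 0 1 28 0) (@D3.rec (fun _ => Nat) 1 0 1 8 100 15 1 7 15 7 7 0 7 0 7 7 0 7 0 1 5 0 0 1 5 0 1 8 101 8 8 0 8 8 0 8 0 1 8 113 0 106 0 1 28 8 0 8 0 1 7) (@D3.rec (fun _ => Nat) 0 1 28 0 29 0 1 70 0 1 8 6 0 1 72 18 72 57 26 0 26 26 0 0 1 26 26 0 0 0 1 1 30 0 1 0 1 9 1 9 9 1 0 0 1 1 0 0 1 101 1) (@D3.rec (fun _ => Nat) 109 0 1 1 13 2 13 95 13 79 0 28 0 1 3 0 0 76 0 0 1 1 3 0 99 97 99 0 0 1 1 0 1 1 4 0 1 1 99 101 0 97 0 1 75 100 0 99 0 1 100) (@D3.rec (fun _ => Nat) 0 1 102 96 0 0 1 0 1 0 1 8 1 103 0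 1 1 1 5 14 0 1 6 14 97 14 81 0 0 1 14 28 0 28 0 1 28 0 1 6 14 6 0 4 0 0 1 100 14 7 7) (@D3.rec (fun _ => Nat) 0 0 77 0 110 0 1 84 77 0 0 1 1 72 28 0 0 1 1 0 1 8 1 1 97 99 6 15 6 0 4 0 1 1 104 15 7 7 0 0 0 1 77 0 1 28 103 0 0 0 1) (@D3.rec (fun _ => Nat) 1 1 0 1 8 7 7 0 7 0 1 5 0 5 0 1 5 1 105 103 107 107 0 8 8 0 103 0 1 99 0 1 77 99 0 101 0 1 104 0 1 75 0 97 0 1 97 0 1 8 100) (@D3.rec (fun _ => Nat) 0 1 18 72 98 28 0 28 0 105 1 28 28 0 0 0 1 1 0 1 0 1 9 1 9 9 1 28 28 0 110 1 28 0 107 0 1 103 1 0 1 1 104 101 80 80 82 104 1 60 15) (@D3.rec (fun _ => Nat) 60 0 0 1 15 106 15 1 7 15 7 0 7 0 7 0 1 1 8 15 59 8 0 59 59 0 8 0 1 59 59 0 105 0 1 61 0 59 0 1 0 1 0 1 1 71 59 16 102 16 16) (@D3.rec (fun _ =>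 Nat) 62 62 104 105 62 106 62 16 62 62 102 0 107 1 0 1 1 14 61 105 109 61 7 61 7 0 0 1 103 16 58 8 0 55 57 0 0 1 55 0 1 28 0 1 0 1 15 104 15 15 61) (@D3.rec (fun _ => Nat) 103 15 15 59 0 61 15 59 54 107 112 107 0 8 16 8 8 0 8 8 0 8 0 1 8 8 0 0 1 8 8 0 8 0 1 7 0 1 0 0 1 6 0 1 6 0 1 9 9 0 9) (@D3.rec (fun _ => Nat) 9 0 101 0 1 9 9 0 0 9 0 1 8 0 1 9 9 0 103 0 1 101 0 1 30 0 9 0 1 8 0 1 9 8 0 1 0 1 29 0 1 9 7 0 1 14 9 0 1 18 72) (@D3.rec (fun _ => Nat) 72 104 100 97 101 1 102 99 1 0 10 100 10 1 10 10 1 16 0 16 1 28 0 1 28 28 0 28 28 0 0 1 9 64 9 9 62 64 9 9 55 0 62 9 98 53 1 99 58 57 58) (@D3.rec (fun _ => Nat) 99 100 101 1 1 1 103 101 1 1 1 29 27 1 29 1 29 29 29 29 29 8 1 101 1 101 83 99 103 105 101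 104 1 97 0 1 104 1 9 99 1 15 9 97 0 1 1 0 1 1 1) (@D3.rec (fun _ => Nat) 103 101 83 83 85 85 1 29 0 1 1 29 29 1 29 29 29 29 29 29 29 29 29 29 29 26 0 1 26 0 1 0 1 9 1 9 9 101 102 97 99 1 1 0 10 10 10 10 1 26 26) (@D3.rec (fun _ => Nat) 0 1 0 1 0 26 0 1 104 0 1 101 26 26 105 0 1 1 26 0 1 26 0 1 26 0 1 15 10 102 1 26 0 1 26 0 1 15 102 1 15 15 74 0 1 11 99 26 0 112 0) (@D3.rec (fun _ => Nat) 112 0 1 8 72 59 0 1 0 1 0 1 0 1 27 0 1 27 83 1 27 79 1 27 0 1 26 1 1 27 0 1 26 27 0 1 27 0 1 0 1 26 26 0 1 1 27 0 1 27 0) (@D3.rec (fun _ => Nat) 1 0 1 26 1 26 26 2 12 1 100 12 101 3 0 27 27 98 0 1 101 74 73 1 0 27 0 1 1 5 102 3 0 0 0 100 0 1 27 0 1 27 102 1 104 1 5 13 3 3 0) (@D3.rec (fun _ => Nat) 101 1 6 13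 98 13 101 6 0 4 4 0 0 1 27 102 27 0 1 1 13 101 98 101 101 99 0 1 99 103 0 1 78 98 1 76 73 78 0 0 1 1 80 71 0 78 0 1 27 82 1) (@D3.rec (fun _ => Nat) 27 0 1 1 6 14 6 100 6 0 4 0 1 7 14 81 7 0 0 0 7 0 1 0 77 0 1 5 0 1 27 0 1 27 0 1 5 102 1 98 0 1 0 1 6 14 6 14 6 6 0) (@D3.rec (fun _ => Nat) 0 0 1 1 7 14 7 7 0 7 7 0 64 62 0 7 0 1 0 0 1 1 27 0 1 0 1 5 14 27 0 27 27 0 0 1 0 1 0 1 0 1 8 0 1 27 0 0 1 1 1) (@D3.rec (fun _ => Nat) 1 13 1 67 69 0 1 1 5 61 0 0 1 6 71 6 58 63 35 0 0 0 1 27 0 1 1 1 1 1 6 71 6 60 6 6 0 0 0 1 1 7 71 7 7 0 0 0 7 0 1) (@D3.rec (fun _ => Nat) 1 62 0 1 27 0 1 27 0 1 5 0 1 73 0 1 1 8 1 105 15 1 7 15 7 7 0 7 7 0 7 7 0 7 0 1 0 0 1 5 0 1 8 15 8 8 0 8 8 0 8) (@D3.rec (fun _ => Nat) 0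 1 8 0 8 0 1 28 31 0 8 0 1 7 0 1 0 0 1 29 0 1 8 6 0 1 5 27 0 1 27 0 1 7 0 1 6 6 1 27 0 1 27 27 0 0 0 1 1 31 0) (@D3.rec (fun _ => Nat) 1 0 1 9 1 9 9 27 0 1 27 0 0 1 1 13 0 1 13 1 13 13 0 1 0 0 1 1 0 1 100 1 0 1 0 1 100 13 1 13 96 1 2 13 0 1 1 5 13 3 3) (@D3.rec (fun _ => Nat) 0 13 0 1 101 1 13 13 0 1 5 13 3 3 0 1 101 13 98 13 0 4 0 4 0 1 100 1 0 1 1 98 1 0 1 0 1 2 98 98 14 76 0 1 5 14 3 3 0 100 102) (@D3.rec (fun _ => Nat) 14 6 14 6 100 0 4 4 0 0 1 27 0 1 1 29 0 1 0 1 1 6 101 6 103 6 6 0 4 4 0 4 0 1 106 0 0 106 0 0 1 77 78 0 99 0 1 100 0 1 1)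
def lv_h_12 : D2 → D3 → Nat := @D2.rec (fun _ => D3 → Nat) (@D3.rec (fun _ => Nat) 27 102 1 5 1 0 1 8 1 1 0 1 0 1 27 0 1 0 1 1 26 0 0 1 82 1 102 105 104 1 102 1 0 1 84 1 25 1 14 0 1 1 78 14 0 14 0 1 1 5 14) (@D3.rec (fun _ => Nat) 3 3 0 0 1 6 14 6 14 6 6 0 78 0 0 1 27 0 1 1 1 14 29 0 0 1 84 1 1 1 6 14 6 14 6 6 0 4 4 0 4 0 1 1 7 14 7 7 0 0 7) (@D3.rec (fun _ => Nat) 0 7 0 1 78 79 0 80 0 1 5 0 1 1 27 0 1 0 1 5 1 14 29 0 29 29 0 0 1 1 0 1 86 1 8 104 1 29 29 0 110 1 1 103 0 1 1 102 1 1 5) (@D3.rec (fun _ => Nat) 15 0 1 6 15 100 15 76 0 76 0 1 0 1 1 6 15 6 15 6 6 0 4 4 0 0 1 1 7 15 7 7 0 7 102 0 7 7 0 7 0 1 78 83 0 0 1 1 27 0 1) (@D3.rec (fun _ => Nat) 0 1 5 15 29 29 0 29 0 0 1 29 0 1 29 0 1 0 1 8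 1 13 15 1 7 15 7 7 0 7 7 0 7 7 0 7 0 1 0 0 1 5 0 1 8 15 8 8 0 8 8) (@D3.rec (fun _ => Nat) 0 8 0 1 102 0 8 0 1 78 80 0 8 0 1 7 0 1 0 0 1 99 0 1 8 100 0 1 5 0 1 27 0 1 7 102 1 6 6 29 0 0 1 29 29 0 0 0 1 1 1) (@D3.rec (fun _ => Nat) 0 1 9 1 9 9 1 29 0 0 1 1 13 1 73 1 1 27 0 1 0 1 1 26 1 58 15 58 15 58 0 0 1 1 58 15 58 0 58 0 58 0 1 1 0 1 0 1 5 15 1) (@D3.rec (fun _ => Nat) 15 15 1 7 15 7 0 7 0 7 0 1 1 8 15 59 8 0 63 59 0 8 0 1 0 8 0 1 0 61 0 1 64 0 1 1 1 64 0 1 5 27 0 1 27 0 1 7 0 1 6) (@D3.rec (fun _ => Nat) 6 1 103 110 60 102 60 106 60 1 6 61 6 61 0 1 1 7 16 36 7 0 96 0 0 1 1 1 14 61 1 7 61 7 0 7 0 7 0 1 1 8 16 100 8 0 98 57 0 8 0) (@D3.rec (fun _ => Nat) 1 58 0 8 0 1 0 57 0 1 0 1 1 1 5 27 0 1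 1 7 6 15 15 63 15 61 63 15 15 54 0 61 52 1 14 16 14 14 0 8 16 8 8 0 8 8 0 8 0 1 8) (@D3.rec (fun _ => Nat) 8 0 8 0 1 0 8 0 1 7 0 1 1 6 0 1 6 0 1 25 9 9 0 9 9 0 9 0 1 30 9 0 0 9 0 1 8 0 1 96 29 0 9 0 1 9 0 1 0 31 0) (@D3.rec (fun _ => Nat) 1 8 0 1 9 8 0 1 7 1 27 0 1 9 7 0 1 26 9 0 1 6 6 27 0 1 8 0 1 8 8 1 7 7 7 15 15 0 107 1 15 103 106 0 103 1 1 101 0 101 103) (@D3.rec (fun _ => Nat) 1 1 0 1 10 14 0 1 10 1 10 10 108 103 1 101 14 1 14 1 16 0 16 63 29 0 16 16 1 17 29 0 29 29 0 0 1 9 60 9 9 58 0 60 58 53 1 1 59 1 54) (@D3.rec (fun _ => Nat) 0 1 3 56 29 1 56 61 61 0 1 0 0 1 1 0 0 1 96 0 98 0 1 0 1 6 14 0 0 1 7 0 1 1 8 99 71 0 1 82 0 103 0 1 1 71 99 105 7 0 1) (@D3.rec (fun _ => Nat) 5 0 1 104 99 100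 102 0 79 81 0 107 0 1 98 0 1 100 0 107 0 1 105 0 1 0 1 79 0 1 8 102 0 1 72 102 102 102 82 100 102 1 9 102 102 1 0 1 26 1 26) (@D3.rec (fun _ => Nat) 26 103 15 7 15 7 0 0 1 8 0 59 62 0 0 1 59 0 1 69 0 1 0 1 8 27 0 1 27 0 1 0 1 9 1 9 60 0 1 111 0 1 1 14 108 107 71 62 0 0 1) (@D3.rec (fun _ => Nat) 7 7 0 7 0 0 1 1 104 71 107 102 0 63 8 0 64 0 1 63 111 0 108 0 1 0 65 0 1 0 1 1 1 8 60 27 0 27 27 0 0 1 27 27 0 82 0 1 1 29 0) (@D3.rec (fun _ => Nat) 1 0 1 9 1 9 9 104 105 0 8 101 8 8 0 8 8 0 8 0 1 8 0 1 8 0 8 0 1 7 0 1 0 1 1 25 6 0 1 9 9 0 9 9 0 106 0 1 34 9 0) (@D3.rec (fun _ => Nat) 0 9 0 1 8 0 1 28 105 0 111 0 1 0 1 28 0 9 0 1 70 0 1 9 110 0 1 0 1 29 0 1 9 70 0 1 26 9 0 1 72 0 1 0 0 0 1 1 0 0 0) (@D3.rec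 (fun _ => Nat) 1 1 0 1 10 0 1 10 1 10 10 1 1 1 1 106 1 0 0 0 1 0 1 0 1 1 0 1 1 8 0 1 0 1 1 1 8 0 1 0 0 1 0 1 0 0 1 0 1 8 96) (@D3.rec (fun _ => Nat) 1 1 1 1 9 1 9 9 1 6 15 0 1 111 15 80 7 0 0 0 1 1 29 0 1 0 1 84 1 8 7 7 0 0 1 0 1 1 103 0 8 0 112 0 1 1 83 0 1 0 1) (@D3.rec (fun _ => Nat) 0 0 1 1 8 0 0 1 1 9 1 9 9 7 7 0 0 1 0 1 104 101 104 0 8 0 0 1 1 1 0 1 8 0 1 1 1 9 1 9 9 8 8 0 0 1 0 1 0 1 1) (@D3.rec (fun _ => Nat) 27 106 106 0 101 105 0 0 1 82 9 0 0 101 0 1 105 0 1 0 1 0 105 0 1 103 0 1 9 102 0 1 0 1 0 1 9 0 1 15 9 100 1 100 0 1 0 1 0 97 0) (@D3.rec (fun _ => Nat) 1 1 0 1 10 1 10 1 10 10 10 10 10 10 0 105 1 0 1 101 1 1 81 85 84 60 16 60 0 0 1 1 108 0 8 16 8 0 8 0 1 0 1 0 1 59 9 0 59 59 0) (@D3.rec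 (fun _ => Nat) 107 0 1 59 0 108 59 0 1 0 1 63 0 107 0 1 107 0 1 63 0 1 0 1 1 1 26 109 66 62 108 62 62 104 113 0 62 1 1 110 103 0 8 0 0 1 1 102 103 0 105) (@D3.rec (fun _ => Nat) 60 0 0 1 30 55 0 0 0 1 1 30 0 1 0 1 1 102 59 103 57 97 59 1 0 100 112 110 0 0 1 9 9 0 9 9 0 0 1 9 9 0 0 9 0 1 8 0 1 9 9) (@D3.rec (fun _ => Nat) 0 0 1 1 0 9 0 1 8 0 1 8 0 1 1 1 7 0 1 25 0 1 10 0 10 0 1 10 0 99 103 0 1 106 0 1 10 0 101 10 0 1 0 1 0 9 0 1 10 9 0)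
def lv_h_13 : D2 → D3 → Nat := @D2.rec (fun _ => D3 → Nat) (@D3.rec (fun _ => Nat) 1 15 30 0 105 0 1 0 1 10 106 0 1 30 0 1 29 0 1 10 9 0 1 15 10 0 1 1 29 0 1 15 0 1 15 15 1 72 103 11 0 1 11 11 11 1 0 1 61 29 29) (@D3.rec (fun _ => Nat) 0 0 1 29 29 0 0 0 1 1 62 100 101 62 57 104 60 1 0 100 62 58 59 99 28 101 101 101 103 30 30 30 30 30 30 99 106 105 97 1 16 16 0 1 0 1 3 101 101 101 103) (@D3.rec (fun _ => Nat) 105 30 1 30 30 30 30 30 30 30 30 0 1 10 106 1 10 1 10 10 0 0 1 11 11 11 27 27 0 1 0 1 0 0 1 0 1 3 104 1 103 103 27 103 1 16 0 1 0 1 16) (@D3.rec (fun _ => Nat) 104 1 16 16 11 0 1 104 1 16 16 16 1 1 0 1 0 1 72 1 1 1 1 16 102 1 27 83 81 102 1 27 27 0 1 27 28 0 1 0 1 1 27 27 27 1 0 1 0 1 27)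 (@D3.rec (fun _ => Nat) 1 27 27 3 0 98 0 99 0 0 1 100 1 0 1 100 1 0 0 1 1 1 105 0 1 100 1 5 6 14 6 0 4 4 0 1 104 14 103 7 0 98 0 103 99 0 7 0 1 80 79) (@D3.rec (fun _ => Nat) 0 0 1 1 28 100 0 1 5 103 99 103 0 1 101 1 80 73 0 0 1 1 82 0 1 80 0 1 84 5 100 1 7 106 7 0 0 7 0 1 5 0 1 8 0 81 0 8 0 1 1) (@D3.rec (fun _ => Nat) 1 7 0 1 1 77 0 1 102 0 1 5 28 0 1 7 100 1 6 6 1 111 15 1 7 15 7 7 0 7 7 0 0 7 0 1 1 1 8 15 8 8 0 63 8 0 8 0 1 64 0) (@D3.rec (fun _ => Nat) 8 0 1 0 64 0 1 0 1 1 1 8 5 28 0 1 1 7 6 0 1 28 0 0 0 1 1 1 1 9 1 9 9 1 0 1 1 105 103 74 103 1 6 63 6 63 0 1 1 7 73) (@D3.rec (fun _ => Nat) 63 7 0 63 0 0 35 0 1 1 1 0 1 5 81 100 7 73 7 7 0 0 0 7 0 1 1 1 112 73 8 0 8 0 8 0 1 1 1 62 0 1 8 62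 0 1 5 28 0 1 7) (@D3.rec (fun _ => Nat) 0 1 6 1 1 9 102 16 83 102 0 8 16 8 8 0 8 8 0 8 0 1 8 0 8 0 1 0 8 0 1 7 0 1 1 1 26 6 0 1 26 9 0 9 9 0 9 0 1 32 9) (@D3.rec (fun _ => Nat) 0 0 9 0 1 8 0 1 30 0 1 9 0 1 0 31 0 1 29 0 1 9 8 0 1 7 1 1 9 29 0 1 9 0 1 6 6 28 0 1 8 0 1 8 8 1 7 51 7 28 0) (@D3.rec (fun _ => Nat) 1 28 0 0 0 1 1 0 1 10 0 1 10 1 10 10 10 10 0 1 109 0 1 1 14 1 14 104 1 1 1 27 1 1 1 101 14 0 5 14 3 3 0 1 99 14 14 0 0 0 1) (@D3.rec (fun _ => Nat) 1 1 0 4 0 4 0 1 0 0 1 0 1 0 1 1 5 1 8 1 0 0 99 0 1 6 98 6 0 4 4 0 0 1 0 0 0 105 0 1 0 0 1 1 0 1 5 102 1 1 8) (@D3.rec (fun _ => Nat) 0 0 0 0 1 0 0 1 0 1 0 1 1 0 1 1 0 0 1 0 1 8 0 1 5 7 6 6 9 1 9 9 1 1 0 1 1 1 1 1 15 1 103 15 100 15 0 1 1 6 15)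 (@D3.rec (fun _ => Nat) 6 15 6 6 0 0 0 1 1 7 15 7 7 0 0 0 7 0 1 0 1 1 0 1 5 15 0 1 1 8 14 15 7 15 7 7 0 0 7 0 7 0 1 0 0 1 5 0 1 104 15) (@D3.rec (fun _ => Nat) 8 0 8 8 0 8 0 1 1 0 1 7 0 1 0 0 1 101 0 1 8 0 1 5 0 1 7 1 6 6 100 1 0 106 0 1 1 1 9 9 9 0 103 1 1 6 100 100 0 1 106) (@D3.rec (fun _ => Nat) 16 81 7 0 0 103 0 1 0 1 1 14 108 7 16 7 7 0 7 0 7 7 0 7 0 1 0 0 1 1 102 16 8 8 0 8 8 0 8 0 1 0 106 0 1 101 0 8 0 1 0) (@D3.rec (fun _ => Nat) 1 0 0 1 1 8 5 28 0 1 1 7 6 30 0 0 1 0 1 1 104 1 0 1 9 1 9 9 14 107 14 14 0 8 105 8 8 0 8 8 0 8 0 1 0 8 0 1 0 8 0) (@D3.rec (fun _ => Nat) 1 7 0 1 1 1 28 0 1 26 9 0 9 0 9 0 1 84 9 0 0 9 0 1 8 0 1 104 0 1 0 1 0 79 0 1 99 0 1 9 100 0 1 7 1 1 9 0 1 27 9) (@D3.rec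 (fun _ => Nat) 0 1 6 6 1 8 102 1 8 8 7 86 95 0 0 1 1 30 0 0 0 1 1 0 1 10 14 10 1 10 10 0 1 1 0 1 1 27 60 16 60 60 0 60 0 0 1 1 60 16 60) (@D3.rec (fun _ => Nat) 0 60 0 1 0 1 0 1 5 1 1 7 108 16 15 15 0 8 16 8 0 8 0 1 8 0 1 0 1 26 61 9 0 61 0 9 0 1 63 0 106 61 0 1 64 0 1 1 0 1 1) (@D3.rec (fun _ => Nat) 0 1 64 0 1 7 0 1 6 6 0 1 8 0 1 8 8 1 7 112 0 7 63 7 0 0 1 107 109 98 8 0 36 0 0 1 0 1 1 27 15 63 15 15 0 8 65 8 0 8 0) (@D3.rec (fun _ => Nat) 1 8 0 1 0 1 26 100 9 0 100 0 9 0 1 98 0 0 59 0 1 0 1 58 0 1 9 0 1 1 0 1 1 7 27 6 0 1 8 8 8 16 63 107 103 63 16 58 102 61 1) (@D3.rec (fun _ => Nat) 0 111 105 15 15 0 15 15 0 15 0 1 9 9 0 9 9 0 9 0 1 9 0 0 9 0 1 8 0 1 0 9 0 1 9 0 1 1 8 0 1 8 0 1 26 7 0 1 59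 0 1) (@D3.rec (fun _ => Nat) 26 26 102 10 0 10 0 1 98 10 0 0 10 0 1 10 0 1 32 0 101 33 0 1 0 1 0 9 0 1 10 9 0 1 15 0 38 0 1 10 0 1 10 9 0 1 8 1 35 0 1) (@D3.rec (fun _ => Nat) 10 9 0 1 27 10 0 1 8 8 29 0 1 27 0 1 27 27 27 1 7 7 7 0 1 9 9 1 9 9 9 9 8 8 8 104 104 105 1 106 101 1 0 11 103 1 0 11 0 1 3) (@D3.rec (fun _ => Nat) 11 15 1 11 11 11 17 1 0 1 63 30 0 1 30 30 0 110 0 1 1 60 56 101 60 1 0 62 103 59 56 1 3 4 4 63 1 1 1 1 1 0 1 0 1 1 7 0 1 1 0)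
def lv_h_14 : D2 → D3 → Nat := @D2.rec (fun _ => D3 → Nat) (@D3.rec (fun _ => Nat) 1 8 104 0 1 105 0 1 0 1 0 1 0 1 105 0 102 0 0 1 81 0 80 104 0 1 106 0 1 0 1 100 0 1 106 0 1 9 0 1 1 0 1 27 0 1 0 1 27 108 101) (@D3.rec (fun _ => Nat) 0 8 0 0 1 1 0 1 71 61 0 0 1 1 71 0 1 0 1 9 1 9 0 1 10 0 1 10 1 10 60 1 104 1 107 0 0 1 1 8 0 0 1 0 1 1 26 111 106 0 65) (@D3.rec (fun _ => Nat) 104 0 102 0 1 65 0 82 64 0 1 0 1 0 109 0 1 0 1 1 0 1 9 1 9 27 9 28 0 1 0 86 0 1 1 0 84 0 1 0 1 10 0 1 10 1 10 10 10 104 102) (@D3.rec (fun _ => Nat) 0 0 1 9 9 0 9 9 0 0 1 9 0 0 9 0 1 8 0 1 0 1 9 0 1 0 1 26 0 1 1 26 0 1 10 0 108 0 1 10 0 0 111 0 1 0 1 36 0 0 10) (@D3.rec (fun _ => Nat) 0 1 0 1 0 63 0 1 10 108 0 1 15 30 0 113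 0 1 0 1 10 1 30 0 1 31 0 1 10 104 0 1 27 10 0 1 1 31 0 1 27 0 1 27 1 1 1 1 0 1 11) (@D3.rec (fun _ => Nat) 1 1 0 1 11 0 1 3 11 1 11 11 11 1 1 1 1 8 1 1 8 9 1 1 8 9 1 28 1 1 1 9 1 1 9 1 97 9 10 10 10 10 10 7 0 1 111 0 80 0 0) (@D3.rec (fun _ => Nat) 1 1 1 8 0 1 1 9 82 9 8 0 0 1 1 1 28 0 1 0 85 0 1 0 1 0 1 9 1 1 1 9 27 9 1 0 1 10 10 10 8 0 0 1 1 1 28 104 0 0 1) (@D3.rec (fun _ => Nat) 0 1 1 9 1 9 9 1 10 10 9 0 0 0 1 1 1 28 1 28 28 107 0 107 0 1 105 0 0 1 1 82 0 99 105 0 1 1 0 105 0 1 10 104 0 1 15 1 10 1 0) (@D3.rec (fun _ => Nat) 1 10 0 1 99 10 104 1 1 10 1 16 10 10 1 16 10 1 1 11 1 0 1 11 0 1 3 11 11 11 11 11 11 11 1 1 62 0 0 1 1 0 1 9 0 0 1 0 1 1 1) (@D3.rec (fun _ => Nat) 61 0 109 0 1 61 0 108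 107 0 1 107 0 1 102 63 0 1 114 0 0 1 1 17 63 0 1 0 1 0 1 0 1 1 27 27 0 0 1 108 0 0 1 0 1 1 100 0 101 0 1) (@D3.rec (fun _ => Nat) 103 0 0 1 1 30 0 99 0 1 1 0 1 16 0 1 1 0 0 1 113 108 0 0 0 1 1 10 0 10 0 1 10 0 99 0 1 1 10 0 101 10 0 1 0 1 0 9 0 1 9) (@D3.rec (fun _ => Nat) 0 1 5 0 0 1 1 1 0 1 9 0 1 26 0 1 26 0 1 26 1 11 0 1 108 0 1 103 0 1 0 0 1 11 103 0 1 16 32 0 1 99 101 31 0 1 104 0 1 0 0) (@D3.rec (fun _ => Nat) 1 10 0 1 3 11 0 1 16 16 106 0 1 0 1 1 16 11 0 1 0 1 0 1 16 0 1 16 16 11 1 0 1 16 16 1 16 1 12 12 1 30 0 103 0 1 1 0 109 0 1) (@D3.rec (fun _ => Nat) 1 0 1 16 0 104 0 0 1 59 101 1 3 1 3 101 106 31 31 31 1 107 11 11 11 1 1 12 12 0 1 99 1 0 0 1 1 3 1 4 103 105 104 103 103 17 1 1 17 17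 17) (@D3.rec (fun _ => Nat) 17 17 1 17 1 1 16 17 17 1 0 1 1 28 1 1 28 28 0 1 0 1 0 1 1 5 1 1 1 0 1 5 6 6 7 0 7 0 1 1 104 0 103 0 8 0 1 100 0 1 101) (@D3.rec (fun _ => Nat) 101 0 101 0 1 0 1 0 0 1 1 5 100 1 7 6 101 1 80 0 1 1 5 0 1 0 1 5 8 0 8 0 1 1 7 0 1 0 1 27 0 1 0 1 107 0 1 102 0 1 7) (@D3.rec (fun _ => Nat) 0 1 0 1 6 6 102 1 8 8 7 7 109 16 112 107 0 8 16 8 8 0 8 0 8 0 1 0 8 0 1 1 0 1 27 27 9 0 9 0 9 0 1 66 0 0 64 0 1 0 1) (@D3.rec (fun _ => Nat) 64 0 1 9 0 1 1 0 1 9 1 7 9 25 9 6 0 1 8 8 8 61 1 0 0 1 1 0 1 10 10 10 10 1 101 7 106 7 0 0 1 107 108 65 8 0 65 0 37 0 1) (@D3.rec (fun _ => Nat) 0 1 1 0 1 28 5 1 7 81 0 8 0 8 0 8 0 1 1 1 0 1 27 27 108 0 0 1 0 1 64 0 1 9 64 0 1 7 0 1 6 0 1 8 1 7 10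 87 107 0 83) (@D3.rec (fun _ => Nat) 81 0 104 0 1 9 0 9 9 0 9 0 1 9 0 0 9 0 1 8 0 1 0 1 9 0 1 1 0 1 27 8 0 1 27 27 27 0 1 27 27 10 0 1 37 10 0 0 1 10 0) (@D3.rec (fun _ => Nat) 1 32 0 0 31 0 1 1 0 31 0 1 10 9 0 1 15 0 1 10 105 0 1 8 1 0 1 10 100 0 1 10 0 1 8 8 52 10 0 1 10 1 7 7 0 1 9 9 1 9 9) (@D3.rec (fun _ => Nat) 9 9 8 53 0 1 11 105 0 1 1 0 1 11 0 1 3 11 1 11 11 11 11 11 1 104 1 0 1 0 0 0 1 0 1 1 1 5 8 1 0 1 0 1 1 1 1 8 1 5 6) (@D3.rec (fun _ => Nat) 6 9 9 1 1 0 1 0 0 1 0 0 1 1 1 1 1 0 1 1 1 8 5 1 6 9 9 1 1 1 1 1 1 29 1 27 1 1 9 7 1 1 9 1 28 9 1 6 6 86 95) (@D3.rec (fun _ => Nat) 1 103 16 105 0 0 1 7 16 7 7 0 0 0 7 0 1 1 1 107 16 8 0 8 0 8 0 1 1 1 0 1 1 8 5 1 7 1 9 16 16 0 8 0 8 8 0 8 0 1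 1) (@D3.rec (fun _ => Nat) 0 1 7 0 1 1 1 29 0 1 27 106 0 0 1 9 0 108 0 1 8 0 1 1 9 0 1 7 1 1 9 0 1 9 1 6 6 1 8 8 7 1 0 1 10 10 10 1 7 0 1) (@D3.rec (fun _ => Nat) 108 0 107 83 0 0 1 1 0 1 1 28 15 110 15 15 0 8 8 0 8 8 0 8 0 1 0 1 0 8 0 1 0 1 1 1 29 27 108 0 9 0 108 0 1 105 9 0 9 0 1) (@D3.rec (fun _ => Nat) 0 1 1 0 1 0 1 0 1 9 1 7 1 1 9 28 9 6 0 1 8 8 107 1 1 1 10 1 10 10 10 10 15 15 0 15 15 0 15 0 1 9 0 9 0 9 0 1 9 0 0)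
def lv_h_15 : D2 → D3 → Nat := @D2.rec (fun _ => D3 → Nat) (@D3.rec (fun _ => Nat) 9 0 1 8 0 1 1 0 1 1 0 1 29 0 1 27 29 83 29 1 27 27 105 0 1 0 109 0 1 0 1 84 0 0 81 0 1 0 1 0 101 0 1 10 102 0 1 15 0 1 10) (@D3.rec (fun _ => Nat) 1 8 1 0 1 10 0 1 28 10 0 1 8 8 28 85 1 28 28 28 94 1 7 9 9 9 9 9 86 1 0 1 11 101 0 1 1 0 1 11 0 1 3 11 15 11 1 1 60 0 60) (@D3.rec (fun _ => Nat) 0 0 1 0 1 1 28 60 0 0 1 0 1 1 1 7 8 8 110 0 17 0 17 0 1 9 0 9 0 1 0 1 0 1 1 27 61 0 10 0 1 0 1 0 1 0 1 0 0 1 66) (@D3.rec (fun _ => Nat) 0 1 17 1 8 1 0 1 8 8 1 7 1 9 1 9 9 9 8 1 8 0 0 1 1 109 0 100 0 0 1 108 0 1 1 1 28 16 0 16 0 16 0 1 9 0 9 0 1 0 1) (@D3.rec (fun _ => Nat) 9 0 1 1 27 27 102 0 10 0 1 102 100 0 1 10 0 1 100 0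 1 0 1 0 0 1 1 16 60 0 1 0 1 8 1 28 8 8 28 1 9 9 9 9 107 0 103 102 102 0 0) (@D3.rec (fun _ => Nat) 1 107 0 109 16 0 16 0 1 109 16 0 0 16 0 1 107 0 1 10 0 10 0 1 10 0 10 0 1 10 0 1 101 0 1 0 1 0 9 0 1 9 0 1 5 1 10 0 1 9 0) (@D3.rec (fun _ => Nat) 1 27 9 0 1 61 0 1 27 27 0 1 1 27 27 27 104 0 104 106 0 1 11 0 1 100 0 99 38 0 1 0 1 0 11 0 1 11 10 0 1 16 0 1 103 0 35 0 1 11 0) (@D3.rec (fun _ => Nat) 1 0 0 1 106 0 1 3 11 0 1 16 16 1 0 1 11 108 0 1 28 11 0 1 9 9 111 0 1 28 0 1 28 28 28 11 1 9 9 9 9 0 1 1 28 28 8 8 8 1 10) (@D3.rec (fun _ => Nat) 10 10 10 10 10 10 10 10 10 9 107 12 0 1 12 1 12 1 3 4 4 12 1 0 1 0 0 1 0 1 16 0 0 1 16 4 4 5 103 1 1 28 0 1 1 0 1 0 1 1 1) (@D3.rec (fun _ => Nat) 1 0 1 0 1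 1 104 0 1 82 0 107 0 1 0 1 15 1 0 1 0 1 28 1 28 1 28 1 1 108 0 0 1 0 1 1 1 66 0 0 1 1 10 17 0 1 10 1 10 1 11) (@D3.rec (fun _ => Nat) 11 1 11 60 62 0 1 1 79 0 1 1 1 27 111 111 0 108 0 1 65 0 86 109 0 1 0 1 82 0 1 86 0 0 1 10 1 16 1 0 1 10 1 10 1 28 10 10 0 1 1) (@D3.rec (fun _ => Nat) 0 1 11 1 0 1 11 1 3 11 1 11 11 11 11 105 104 0 78 0 1 1 10 0 0 1 10 0 0 0 1 1 105 10 0 1 80 1 0 0 1 27 0 1 5 1 27 0 1 27 1) (@D3.rec (fun _ => Nat) 1 1 109 0 1 0 1 109 0 1 0 1 0 0 1 11 1 16 30 0 1 109 1 0 31 0 1 11 107 1 0 0 1 102 0 1 3 11 0 1 16 16 112 0 1 0 1 11 1 28 11) (@D3.rec (fun _ => Nat) 0 1 0 1 28 0 1 28 11 1 28 0 1 1 28 12 12 0 1 3 12 0 1 3 12 1 3 4 12 12 8 84 9 29 28 9 10 29 9 29 29 10 30 10 10 10 10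 0 1 0 1) (@D3.rec (fun _ => Nat) 0 1 1 9 9 1 10 84 10 0 0 1 1 29 29 29 1 0 1 0 0 1 10 1 16 1 28 10 28 28 10 0 1 3 11 11 11 103 0 1 1 29 29 0 1 1 1 10 16 10 11) (@D3.rec (fun _ => Nat) 11 0 1 1 0 1 29 102 29 29 29 0 1 0 1 0 1 1 11 16 0 1 0 0 1 11 0 1 0 1 3 11 0 1 16 16 11 11 1 11 11 1 103 11 11 12 12 12 12 1 3) (@D3.rec (fun _ => Nat) 12 1 3 4 12 12 12 109 0 1 1 17 1 0 1 1 1 5 110 0 1 113 0 1 65 0 1 109 0 0 1 0 1 17 102 0 0 1 0 1 1 3 17 17 0 1 1 28 1 1 28) (@D3.rec (fun _ => Nat) 28 1 1 0 1 1 1 5 0 1 0 1 0 1 1 17 0 1 0 1 0 1 3 17 1 1 1 82 0 107 0 1 1 0 1 16 5 11 0 1 0 1 0 1 0 1 106 0 1 103 101) (@D3.rec (fun _ => Nat) 0 0 1 0 1 0 0 1 10 0 1 3 0 1 104 6 1 1 27 1 27 0 1 27 1 27 1 27 0 1 0 1 17 0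 1 1 1 3 102 0 1 101 17 0 1 101 101 0 1 103 1) (@D3.rec (fun _ => Nat) 0 0 1 1 3 0 1 4 4 104 12 1 17 17 17 0 1 1 104 17 100 12 1 1 1 17 17 1 17 17 17 1 17 102 13 17 0 1 0 1 1 0 1 17 0 1 3 17 1 0 1) (@D3.rec (fun _ => Nat) 1 3 29 12 12 1 101 0 1 1 4 27 5 103 5 103 105 108 18 18 18 18 18 18 17 17 18 1 1 1 1 5 6 28 1 6 6 7 8 0 1 0 1 28 100 0 1 101 0 1 0) (@D3.rec (fun _ => Nat) 1 0 1 0 101 0 1 0 1 1 7 1 1 6 8 8 0 1 5 1 1 0 1 0 1 0 1 28 1 28 1 1 105 0 1 15 0 1 8 8 1 1 7 7 9 9 9 9 107 0 110) (@D3.rec (fun _ => Nat) 110 0 109 0 1 9 0 9 0 9 0 1 0 0 1 0 1 1 9 0 1 28 1 28 28 28 0 1 66 0 1 10 0 1 0 0 1 0 1 0 0 1 10 1 17 0 1 10 0 1 8) (@D3.rec (fun _ => Nat) 10 1 26 10 8 8 26 26 62 1 9 9 9 9 9 11 1 0 1 11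 0 1 3 11 11 11 8 0 0 1 1 100 105 0 65 0 0 1 110 0 1 0 1 1 29 1 7 8 83 0 1) (@D3.rec (fun _ => Nat) 0 1 77 0 1 0 1 28 1 28 106 0 1 1 1 10 64 0 1 16 0 1 8 1 7 1 9 9 8 11 109 85 0 104 0 1 110 83 0 78 85 0 1 0 1 10 0 1 10 0 102) (@D3.rec (fun _ => Nat) 0 1 10 0 1 105 0 1 103 1 0 0 1 28 9 0 1 5 1 28 0 1 28 28 1 28 0 1 28 28 1 28 11 0 1 39 0 0 1 1 11 102 0 1 16 103 0 1 1 0 0) (@D3.rec (fun _ => Nat) 1 11 0 1 102 0 1 3 11 0 1 16 16 1 11 11 0 1 9 9 52 1 11 0 1 11 1 9 9 9 9 1 11 8 1 10 10 10 10 10 53 10 10 10 53 1 12 12 0 1 0)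
def lv_h_16 : D2 → D3 → Nat := @D2.rec (fun _ => D3 → Nat) (@D3.rec (fun _ => Nat) 1 3 12 1 3 4 12 12 12 12 12 1 1 1 1 1 8 5 1 30 1 28 9 9 6 6 1 29 1 1 1 1 30 28 1 9 29 9 6 10 10 30 28 30 83 30 28 28 31 29 29) (@D3.rec (fun _ => Nat) 87 29 29 29 96 107 0 0 1 1 8 0 8 0 8 0 1 1 1 0 1 30 28 107 0 0 1 0 1 0 1 9 1 7 8 10 16 0 16 0 1 0 1 9 0 104 0 1 8 0 1) (@D3.rec (fun _ => Nat) 1 30 0 1 28 30 30 1 28 28 0 1 1 0 1 0 1 10 0 1 16 10 10 1 8 8 1 7 9 9 9 11 1 3 11 11 0 1 0 1 107 0 111 0 1 1 1 29 16 0 16) (@D3.rec (fun _ => Nat) 0 16 0 1 9 0 0 1 9 0 105 9 0 1 0 1 1 1 0 1 30 1 28 30 30 28 0 1 0 1 108 0 1 0 0 1 0 1 10 1 16 1 1 10 1 29 10 8 8 10 10) (@D3.rec (fun _ => Nat) 29 29 1 9 9 11 11 11 11 11 16 0 16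 0 1 16 0 0 16 0 1 0 1 0 1 0 0 1 0 1 82 0 1 1 0 0 1 30 0 1 5 30 1 28 30 1 83 30 1 28 28) (@D3.rec (fun _ => Nat) 30 28 0 1 0 1 0 0 1 11 1 16 101 0 1 81 1 0 0 1 11 1 0 0 1 0 1 3 11 0 1 16 16 1 29 9 1 29 87 1 29 29 29 11 1 9 9 9 9 29 29) (@D3.rec (fun _ => Nat) 10 88 10 97 10 0 1 3 12 0 1 0 1 3 12 1 3 4 4 12 0 1 0 1 1 1 29 0 1 1 1 17 8 8 9 105 0 1 0 1 0 1 10 0 1 0 1 1 5 1 28) (@D3.rec (fun _ => Nat) 28 0 1 0 1 1 1 17 1 1 1 3 0 1 17 17 9 1 9 9 9 8 111 10 10 10 10 0 1 1 0 1 0 1 1 0 1 29 17 29 110 0 1 17 0 1 0 1 10 0 1) (@D3.rec (fun _ => Nat) 10 0 1 1 5 0 1 28 28 28 102 0 1 0 1 100 0 100 0 1 0 1 17 81 0 1 1 0 0 1 1 3 17 17 0 1 29 1 9 9 29 29 9 9 10 10 10 10 1 0 0) (@D3.rec (fun _ => Nat) 1 1 0 1 109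 0 17 0 1 109 0 1 108 0 107 85 0 1 81 1 0 110 0 1 16 0 1 5 0 1 11 0 1 0 1 11 0 1 10 0 1 7 0 1 1 0 0 1 0 1 3) (@D3.rec (fun _ => Nat) 0 1 6 6 0 1 61 0 1 28 28 0 1 61 1 28 28 28 28 1 28 28 0 1 0 104 0 1 12 0 1 17 0 1 108 101 0 1 106 108 1 0 0 1 109 0 1 3 12 0 1) (@D3.rec (fun _ => Nat) 17 17 1 109 0 1 0 1 3 12 110 1 0 0 1 1 3 0 1 4 4 4 12 1 17 17 17 17 1 29 0 1 29 29 29 1 10 10 10 10 0 1 29 1 29 29 29 29 10 10 10) (@D3.rec (fun _ => Nat) 10 10 10 1 29 29 9 11 11 11 11 11 11 11 11 11 11 11 0 1 16 4 4 5 5 17 1 17 1 1 17 1 17 1 1 17 17 5 105 29 29 1 16 1 1 16 102 1 1 16 0) (@D3.rec (fun _ => Nat) 1 0 1 0 1 3 1 16 16 1 29 1 29 29 0 1 1 1 5 101 0 1 1 11 103 11 17 1 11 12 60 62 1 17 0 1 28 102 28 109 0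 0 1 0 1 0 1 86 0 0 1) (@D3.rec (fun _ => Nat) 11 1 103 0 1 11 0 1 1 3 11 17 17 11 1 29 11 11 29 11 1 12 12 1 3 12 1 3 12 3 4 12 12 12 12 0 0 1 0 1 28 5 104 0 1 1 112 0 1 1 0) (@D3.rec (fun _ => Nat) 1 28 103 0 0 1 28 0 0 1 1 3 28 1 107 6 28 1 0 1 12 1 17 0 1 12 1 0 0 1 1 3 12 103 17 0 1 0 0 1 0 1 3 12 0 0 1 1 3 0 1) (@D3.rec (fun _ => Nat) 4 4 4 12 1 17 17 17 0 1 1 29 29 12 1 29 1 29 1 29 29 1 29 13 13 1 3 4 13 1 3 4 28 4 5 13 9 30 29 10 1 1 1 10 18 10 84 11 11 1 0) (@D3.rec (fun _ => Nat) 1 30 104 30 18 1 0 0 1 1 3 11 18 18 29 29 11 11 1 3 4 12 12 0 1 30 107 1 17 105 11 17 11 12 1 30 0 1 3 30 104 30 30 1 12 1 17 1 12 105 12) (@D3.rec (fun _ => Nat) 17 1 12 1 1 3 12 1 3 1 105 4 4 12 1 17 17 17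 12 12 13 13 13 3 4 13 30 4 13 0 1 19 19 5 1 103 109 6 0 1 0 1 105 0 1 0 1 1 3 1 109) (@D3.rec (fun _ => Nat) 19 0 1 1 3 1 3 4 4 19 19 1 29 29 29 29 1 17 5 103 6 1 1 18 1 103 18 1 1 3 1 3 4 18 0 1 0 1 17 0 1 3 17 6 0 1 1 108 1 1 3) (@D3.rec (fun _ => Nat) 108 1 0 0 1 1 3 1 0 0 1 1 3 0 1 4 4 1 104 104 7 28 28 28 1 28 28 28 1 107 1 18 18 1 103 3 103 4 102 100 1 107 103 18 1 103 101 1 101 103 0) (@D3.rec (fun _ => Nat) 1 1 4 11 4 1 5 5 5 5 104 104 104 18 18 18 1 109 106 18 100 13 18 18 18 104 18 18 104 18 1 1 3 18 1 3 18 18 1 3 4 1 101 101 1 5 28 5 6 105 110) (@D3.rec (fun _ => Nat) 110 19 19 18 29 6 7 0 1 1 29 0 1 0 1 1 16 1 1 0 1 1 8 8 9 9 1 16 1 1 108 1 29 29 16 100 0 1 16 16 1 9 9 9 9 10 10 10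 108 0 1) (@D3.rec (fun _ => Nat) 110 0 86 109 0 1 0 1 0 1 105 0 1 10 0 1 1 0 1 29 1 5 29 0 1 29 29 29 29 1 0 1 11 0 1 17 1 0 1 11 1 0 0 1 1 3 11 17 17 1 27) (@D3.rec (fun _ => Nat) 11 1 9 9 27 27 27 11 9 9 9 10 10 10 63 10 12 0 1 3 12 1 3 4 12 12 0 1 1 102 0 110 0 1 0 1 1 0 1 30 1 17 30 8 9 0 1 1 0 1 29) (@D3.rec (fun _ => Nat) 1 5 29 0 1 106 104 11 0 1 106 17 1 9 9 8 10 10 108 0 106 87 0 1 104 0 1 110 0 0 1 0 0 1 29 1 5 11 0 1 0 1 0 1 29 0 1 7 0 1 29) (@D3.rec (fun _ => Nat) 0 0 1 1 3 29 0 1 6 6 29 29 1 29 29 29 1 29 29 29 29 108 0 1 108 0 1 1 12 104 12 0 1 104 17 0 1 54 0 1 1 3 12 1 3 0 1 104 4 4 12)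
def lv_h_17 : D2 → D3 → Nat := @D2.rec (fun _ => D3 → Nat) (@D3.rec (fun _ => Nat) 1 17 17 17 17 54 12 12 1 10 10 10 10 12 1 12 10 10 10 10 11 11 11 11 55 11 55 11 0 13 13 1 110 1 3 4 13 29 4 5 13 13 31 29 31 31 29 29 31 31 29) (@D3.rec (fun _ => Nat) 10 10 30 30 31 30 0 1 1 0 1 0 1 0 1 31 1 29 0 1 1 1 10 1 18 8 9 11 82 81 0 1 0 1 1 0 1 0 1 31 0 1 5 31 31 1 29 29 29 1 18) (@D3.rec (fun _ => Nat) 1 11 1 3 11 1 18 18 11 9 9 9 10 10 12 3 4 12 1 1 109 0 1 0 1 30 17 0 1 113 17 0 1 0 1 0 1 1 0 1 0 0 1 31 1 5 31 1 31 29 29) (@D3.rec (fun _ => Nat) 1 1 0 1 17 1 1 11 1 105 11 17 17 11 11 30 30 30 11 9 9 10 12 12 12 12 110 17 0 1 0 1 0 1 1 0 0 1 31 1 5 1 1 0 1 31 1 7 0 1 31) (@D3.rec (fun _ => Nat) 0 1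 1 3 31 1 6 6 29 31 85 31 29 29 29 1 17 1 0 0 1 1 3 12 17 17 0 1 0 0 1 1 3 12 0 1 1 3 1 4 4 4 12 1 17 17 17 17 30 10 30) (@D3.rec (fun _ => Nat) 30 87 30 30 30 30 96 10 10 87 94 0 1 3 4 1 3 1 3 4 31 4 4 5 5 1 1 30 19 30 1 19 19 19 9 0 1 1 110 1 5 0 1 1 7 6 6 29 29 1 1) (@D3.rec (fun _ => Nat) 19 106 107 19 102 3 102 4 1 19 19 19 19 10 10 10 10 111 11 0 1 109 1 1 30 18 1 3 30 18 0 1 0 1 17 1 5 0 1 0 1 7 6 6 1 29 29 29 29 0 1) (@D3.rec (fun _ => Nat) 1 18 0 1 0 1 3 1 18 18 0 1 3 0 1 1 3 4 4 18 18 18 1 30 30 10 10 10 30 30 10 11 11 11 0 1 1 1 0 1 0 1 17 0 1 7 0 1 0 0 1) (@D3.rec (fun _ => Nat) 17 0 0 1 0 1 3 17 1 6 6 1 0 1 8 1 0 1 104 0 1 8 8 1 3 0 1 1 3 1 4 4 1 7 7 7 7 1 61 1 29 29 29 29 1 61 29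 29 29 29 29) (@D3.rec (fun _ => Nat) 29 1 1 0 1 3 100 1 18 18 1 101 1 106 0 0 1 1 3 0 1 4 4 107 1 106 18 18 18 103 0 1 3 1 4 4 108 0 0 1 1 4 11 4 4 1 5 5 5 5 5) (@D3.rec (fun _ => Nat) 5 18 18 18 18 18 18 30 1 30 30 30 11 11 11 11 11 11 1 30 30 30 30 30 11 11 11 11 11 0 30 30 12 12 12 12 12 12 12 0 12 0 12 0 1 17 17 5 5 6 18) (@D3.rec (fun _ => Nat) 18 18 18 18 18 104 18 17 17 17 102 17 104 17 1 104 1 3 1 4 4 17 17 17 30 30 30 1 29 5 101 6 101 1 105 12 105 105 19 62 105 18 1 3 29 111 0 1 1 12 1) (@D3.rec (fun _ => Nat) 105 1 12 0 1 1 3 12 106 105 1 3 12 1 3 4 4 4 12 18 18 12 30 12 12 30 13 13 13 3 4 13 3 4 4 13 4 5 13 13 1 1 29 1 3 29 6 0 1 29 105) (@D3.rec (fun _ => Nat) 0 1 29 0 1 3 29 110 1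 1 3 29 1 1 3 4 4 4 107 107 7 1 106 13 107 18 1 105 13 0 1 1 3 4 4 4 13 103 18 1 109 1 1 3 1 4 4 4 1 1 4) (@D3.rec (fun _ => Nat) 11 4 4 1 5 5 5 5 5 5 108 18 18 18 1 30 30 30 13 30 30 30 30 14 29 4 5 14 29 4 29 5 108 18 60 11 18 11 85 12 0 1 3 31 106 31 18 0 1 1 3) (@D3.rec (fun _ => Nat) 4 4 4 12 18 18 30 30 12 31 4 5 13 1 3 31 107 18 18 105 105 12 18 109 31 1 3 4 4 31 117 31 107 13 18 18 105 13 107 107 18 105 13 3 105 4 4 13 11 4 4) (@D3.rec (fun _ => Nat) 107 107 103 5 5 107 13 18 18 18 4 31 1 105 19 19 6 110 103 104 7 1 113 1 107 105 1 106 1 3 4 4 111 107 19 1 3 4 4 4 4 5 5 5 19 19 30 30 30 61 18) (@D3.rec (fun _ => Nat) 6 103 7 104 110 19 105 105 19 105 3 4 57 4 5 19 1 18 1 3 18 18 1 3 4 4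 7 1 107 107 108 105 3 4 112 105 1 1 3 4 4 0 1 1 4 11 4 1 5 5 5) (@D3.rec (fun _ => Nat) 5 106 106 111 8 29 29 29 29 29 111 109 110 19 19 19 105 105 4 105 105 5 104 102 102 105 107 116 19 105 105 103 103 103 114 1 5 12 5 5 12 5 105 6 6 6 6 106 6 115 106) (@D3.rec (fun _ => Nat) 107 19 19 109 109 102 102 19 19 104 3 19 3 4 19 31 4 29 103 29 6 29 7 110 1 104 30 1 18 1 107 18 18 1 9 9 10 17 17 104 111 106 30 30 17 102 1 17 17 17 17) (@D3.rec (fun _ => Nat) 10 10 10 11 0 0 1 0 1 0 0 1 30 1 5 1 0 1 30 0 1 7 0 1 3 30 6 6 30 1 30 30 30 30 30 103 1 105 12 1 19 19 0 1 3 12 0 1 1 3 4) (@D3.rec (fun _ => Nat) 4 4 12 19 19 19 28 28 28 12 10 10 10 28 28 28 62 10 11 11 11 63 0 13 1 3 4 30 4 5 13 1 111 0 1 0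 1 1 31 106 1 3 31 104 18 9 1 5 104 1 3) (@D3.rec (fun _ => Nat) 30 6 6 30 1 106 106 104 104 1 106 106 106 18 10 10 11 0 1 0 0 1 30 0 1 7 0 1 1 30 1 1 3 30 6 6 0 1 105 1 30 1 3 30 1 8 8 1 3 30 1) (@D3.rec (fun _ => Nat) 1 3 4 4 4 30 1 107 7 7 7 30 30 30 30 30 30 30 0 1 108 108 1 54 104 13 104 104 13 1 106 106 106 18 1 3 56 1 3 104 4 4 13 11 4 4 1 105 104 5 5) (@D3.rec (fun _ => Nat) 5 13 18 18 18 18 18 18 111 13 11 11 11 11 11 11 0 12 12 12 57 107 107 1 30 4 30 5 6 1 18 1 1 32 1 112 30 1 18 101 11 18 18 9 0 0 1 32 1 5 106) (@D3.rec (fun _ => Nat) 1 32 1 3 32 1 6 6 32 30 30 30 18 18 107 12 3 4 4 12 18 18 18 18 10 10 4 104 18 0 1 1 3 31 18 1 0 0 1 32 1 5 1 7 1 32 1 1 3 32 6) (@D3.rec (fun _ => Nat)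 6 32 30 30 18 107 1 18 18 107 12 12 107 107 107 12 18 18 18 12 31 31 31 10 0 13 13 0 0 1 32 1 7 1 32 0 1 1 3 32 6 6 108 0 1 3 32 8 8 1 3)
def lv_h_18 : D2 → D3 → Nat := @D2.rec (fun _ => D3 → Nat) (@D3.rec (fun _ => Nat) 32 1 3 101 4 4 32 108 7 7 7 30 32 84 30 30 18 18 0 1 1 3 4 4 4 18 18 18 1 3 1 1 3 4 4 4 87 1 4 11 4 4 107 5 5 5 5 5 93 18 18) (@D3.rec (fun _ => Nat) 18 18 18 18 31 31 31 31 31 31 0 0 0 1 32 4 3 32 4 32 32 5 5 6 19 110 31 19 19 19 19 19 19 1 7 61 112 6 6 1 105 8 8 7 7 7 30 110 110 19 105) (@D3.rec (fun _ => Nat) 110 108 19 104 4 104 5 104 19 19 19 19 19 11 0 113 1 112 111 104 106 31 19 3 4 4 19 1 7 1 104 18 6 6 1 105 1 8 8 7 7 7 30 30 30 30 1 107 104 19 1) (@D3.rec (fun _ => Nat)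 3 1 4 4 19 19 106 19 1 3 4 1 4 104 4 5 5 5 19 19 19 31 31 31 11 11 11 31 0 12 12 1 31 8 1 1 110 1 8 8 1 18 1 1 3 18 18 1 1 3 1) (@D3.rec (fun _ => Nat) 4 4 104 18 7 7 7 7 104 1 109 9 104 1 104 104 1 9 9 9 9 3 4 1 4 11 4 111 5 105 5 108 8 8 8 8 8 63 30 30 30 30 30 30 30 30 30 0 108 3 1) (@D3.rec (fun _ => Nat) 106 4 106 102 110 19 19 19 108 107 107 1 1 4 104 4 1 5 5 5 5 109 108 108 108 19 19 19 105 1 4 4 5 5 5 5 108 1 1 5 12 5 5 12 58 5 5 5 6 6 6) (@D3.rec (fun _ => Nat) 6 6 6 6 6 6 19 106 19 19 19 19 0 31 31 31 31 31 12 12 12 12 12 12 12 0 31 31 0 12 0 12 0 1 31 13 13 13 0 113 13 0 1 105 1 0 0 1 30 18 62) (@D3.rec (fun _ => Nat) 6 19 19 19 19 104 18 18 18 18 113 18 104 18 111 106 4 4 111 5 5 5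 18 18 18 31 31 64 30 6 103 7 114 105 105 105 115 105 19 105 19 3 4 4 113 1 13 104 13 110 105) (@D3.rec (fun _ => Nat) 111 13 1 3 4 4 4 13 106 112 3 4 4 13 4 4 4 5 5 5 5 5 19 19 13 31 13 14 14 14 4 5 14 4 4 5 5 5 80 30 30 3 4 4 7 1 3 30 105 1 3) (@D3.rec (fun _ => Nat) 30 1 3 4 4 112 3 105 4 4 4 11 4 4 5 5 5 109 113 8 106 106 106 14 109 112 19 105 105 103 1 4 12 4 4 5 5 5 5 5 14 114 19 109 105 4 105 4 4 105 5) (@D3.rec (fun _ => Nat) 5 5 5 5 82 5 5 12 12 5 5 5 108 6 6 6 6 6 6 6 109 19 19 31 31 31 31 30 5 6 30 30 106 20 60 62 12 20 1 3 4 4 32 113 20 1 4 11 4 4 5) (@D3.rec (fun _ => Nat) 5 5 5 5 13 20 20 31 32 5 3 4 4 113 19 19 110 107 107 19 111 113 32 11 4 4 5 5 109 113 107 107 19 19 19 105 105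 107 107 19 105 105 4 4 107 5 5 107 12 12 5) (@D3.rec (fun _ => Nat) 5 107 107 106 6 6 107 107 19 19 112 107 21 21 7 110 114 113 8 108 107 112 112 114 116 109 106 4 4 5 5 5 107 112 21 4 4 5 5 5 5 5 5 6 6 6 21 31 59 61 7) (@D3.rec (fun _ => Nat) 114 8 106 112 112 20 105 119 20 105 4 5 59 5 6 114 19 3 4 4 19 110 4 4 5 5 8 108 109 110 108 114 105 4 5 110 105 105 4 4 5 5 5 1 5 12 5 5 12 5 109) (@D3.rec (fun _ => Nat) 6 6 6 6 6 106 113 109 30 30 111 108 118 111 112 20 20 20 105 105 117 5 114 105 102 6 116 102 102 105 114 112 105 112 103 103 117 103 115 13 6 6 13 13 6 6 13 6 105 105 7) (@D3.rec (fun _ => Nat) 7 7 7 7 106 116 118 111 20 111 102 4 32 30 30 7 109 106 31 18 18 107 109 18 18 18 10 0 18 18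 106 112 111 113 31 18 113 18 18 18 18 18 18 11 0 1 1 7 1 31 1) (@D3.rec (fun _ => Nat) 1 3 31 6 6 105 1 3 31 1 8 8 1 3 4 4 31 7 7 7 31 31 31 31 31 105 107 107 107 13 102 19 106 19 1 3 4 4 1 4 11 4 4 5 5 5 5 5 64 19 19) (@D3.rec (fun _ => Nat) 19 29 29 29 13 11 11 11 29 29 0 12 12 0 1 14 31 4 31 5 106 109 1 32 1 107 108 32 106 3 4 4 106 106 19 6 6 106 3 4 4 7 7 7 108 108 108 115 106 106 108) (@D3.rec (fun _ => Nat) 108 108 108 19 11 1 31 1 1 3 31 1 8 8 1 31 80 31 31 3 87 4 4 31 7 7 7 1 107 107 107 31 3 4 4 31 9 9 9 9 3 4 4 4 11 4 4 5 5 5 5) (@D3.rec (fun _ => Nat) 108 109 108 8 8 8 31 31 31 0 1 106 108 110 111 106 56 106 106 106 118 106 106 106 106 106 106 111 106 19 3 4 107 107 4 4 106 5 5 108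 12 12 5 5 5 106 105 117 6 6 6) (@D3.rec (fun _ => Nat) 6 19 106 19 19 19 19 0 12 12 12 105 107 1 31 31 6 20 20 104 109 33 111 108 31 20 20 108 107 20 20 20 1 1 3 33 6 6 110 103 33 3 4 4 33 113 7 7 7 31 31) (@D3.rec (fun _ => Nat) 20 20 109 107 4 4 5 5 107 20 20 20 20 20 107 108 19 1 3 3 4 4 19 7 1 1 3 33 6 6 109 8 111 33 3 107 4 4 33 7 7 7 31 19 107 19 19 19 107 107 13) (@D3.rec (fun _ => Nat) 13 107 107 111 107 107 19 19 19 32 32 0 1 1 1 3 8 8 87 33 33 1 3 91 4 4 33 7 7 7 110 1 3 4 4 9 9 9 3 4 4 33 11 4 4 109 107 5 5 5 108) (@D3.rec (fun _ => Nat) 113 8 8 8 0 19 19 19 1 4 12 4 4 5 5 5 5 19 19 19 3 4 4 86 4 4 5 5 5 5 5 109 5 5 12 12 5 5 5 109 109 6 6 6 6 6 6 6 19 19 19) (@D3.rec (fun _ => Nat)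 19 19 0 32 0 1 1 0 1 31 33 33 33 33 62 6 21 112 109 21 21 21 21 21 21 8 8 59 61 112 7 7 7 107 107 9 9 9 8 8 8 110 110 112 21 115 116 108 21 113 5) (@D3.rec (fun _ => Nat) 113 6 106 106 21 21 21 21 0 1 31 108 113 109 108 110 20 4 4 5 5 20 8 8 106 106 104 104 7 7 7 110 107 109 9 9 9 8 8 8 31 31 31 0 107 107 104 104 20 4 4) (@D3.rec (fun _ => Nat) 109 5 5 5 20 108 20 108 20 83 4 5 79 5 5 106 5 6 6 6 20 20 0 32 32 32 12 12 118 0 1 115 31 9 110 108 106 9 9 9 9 112 19 19 3 108 4 106 19 19 4)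
def lv_h_19 : D2 → D3 → Nat := @D2.rec (fun _ => D3 → Nat) (@D3.rec (fun _ => Nat) 18 4 111 5 5 5 106 106 114 8 8 8 8 8 104 104 109 109 10 106 106 106 111 108 10 10 10 10 10 4 5 12 5 12 5 111 6 107 6 108 108 9 9 9 9 0 31 31 31 31 31) (@D3.rec (fun _ => Nat) 31 0 31 0 0 1 108 4 106 108 108 5 107 107 108 108 20 20 20 108 108 109 114 5 106 5 5 106 5 108 6 6 6 6 6 109 110 108 108 108 108 20 20 0 112 5 5 5 5 6 6) (@D3.rec (fun _ => Nat) 6 6 117 6 81 6 6 13 105 6 6 6 13 58 6 6 58 6 7 7 7 7 7 7 7 0 7 7 7 20 108 20 20 0 20 0 1 32 32 32 0 13 13 13 0 13 0 1 32 1 105) (@D3.rec (fun _ => Nat) 1 0 0 1 13 14 116 118 1 0 1 31 31 0 1 1 101 65 20 20 111 20 19 19 19 111 19 117 19 115 113 116 5 5 5 111 111 6 6 6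 19 19 64 66 7 112 8 112 107 111 107) (@D3.rec (fun _ => Nat) 113 115 116 20 4 4 5 5 111 113 14 106 106 14 109 110 112 111 113 14 4 4 4 5 5 5 5 5 14 116 110 4 4 5 5 5 5 5 5 5 5 6 6 6 6 6 20 5 6 5 5) (@D3.rec (fun _ => Nat) 80 80 31 4 4 5 5 8 3 4 4 31 112 3 4 4 12 4 4 5 5 110 4 4 107 5 5 5 12 12 5 5 6 6 6 113 111 108 110 120 108 108 109 114 20 107 107 113 105 111 5) (@D3.rec (fun _ => Nat) 5 13 13 5 5 5 6 6 6 6 6 6 112 107 109 113 5 5 107 107 5 5 107 6 6 6 6 6 6 84 66 6 6 13 13 64 6 6 6 108 109 7 7 7 7 7 7 118 20 32 31) (@D3.rec (fun _ => Nat) 6 113 20 60 60 62 20 11 4 4 5 5 5 111 20 105 5 5 12 12 5 5 5 6 6 6 6 6 6 109 20 33 4 4 5 5 113 20 20 110 108 107 117 113 12 12 5 5 6 6 111) (@D3.rec (fun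 _ => Nat) 109 109 20 20 20 107 107 116 112 107 107 5 5 107 6 6 107 13 13 6 6 109 116 112 7 110 109 20 114 114 116 21 8 114 112 111 109 109 114 112 112 116 114 114 107 111 115 5 5 5 6) (@D3.rec (fun _ => Nat) 6 6 114 112 5 5 5 6 6 6 6 6 6 7 7 59 64 8 110 106 112 112 21 107 117 109 5 6 59 6 111 112 4 4 5 5 94 112 110 5 5 6 6 108 108 113 114 110 112 114 5) (@D3.rec (fun _ => Nat) 6 110 107 105 5 5 5 6 6 6 13 6 6 13 13 6 6 13 6 108 109 7 7 7 7 7 113 111 113 110 116 116 112 21 21 0 114 107 114 6 112 113 104 104 113 113 104 116 112 110 112) (@D3.rec (fun _ => Nat) 112 105 112 112 0 14 14 7 7 7 14 14 7 7 107 14 114 107 8 8 8 113 113 111 31 110 111 113 20 20 109 112 20 20 20 0 1 19 19 115 115 113 113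 19 111 19 19 19 19 19 0) (@D3.rec (fun _ => Nat) 109 1 32 8 8 92 32 32 3 88 4 4 32 7 7 7 105 3 4 4 32 110 9 9 9 11 4 4 5 5 5 8 8 8 32 32 32 32 0 116 107 109 119 107 107 14 110 108 21 108 21) (@D3.rec (fun _ => Nat) 86 4 4 5 5 81 5 5 12 12 5 5 5 6 6 6 6 6 6 6 21 21 0 30 30 30 12 12 105 0 1 1 32 32 32 106 115 106 108 111 109 109 108 4 4 5 5 114 106 20 7) (@D3.rec (fun _ => Nat) 7 7 115 4 4 5 5 8 8 8 108 108 119 118 113 115 108 106 108 108 117 111 112 32 3 102 4 4 32 9 9 9 9 82 32 82 82 32 32 4 4 87 87 5 5 5 32 8 8 8 109) (@D3.rec (fun _ => Nat) 109 109 114 109 109 4 4 5 5 106 10 10 10 10 10 4 4 5 5 5 12 12 5 5 5 6 6 6 6 110 110 115 111 9 9 0 32 0 1 112 108 108 110 110 111 106 107 109 106 106 114)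 (@D3.rec (fun _ => Nat) 116 106 106 108 108 111 108 108 109 109 105 4 5 107 107 107 5 5 110 6 6 108 13 13 6 6 6 6 108 114 116 7 7 7 20 108 20 20 20 0 1 105 107 13 20 20 110 109 109 113 113) (@D3.rec (fun _ => Nat) 113 20 20 116 109 20 20 20 3 85 4 4 34 7 7 7 115 105 105 4 4 5 5 5 111 113 8 8 8 109 20 20 109 107 5 5 6 6 107 20 20 20 20 109 117 20 3 4 4 4 5) (@D3.rec (fun _ => Nat) 5 20 8 3 109 4 4 34 7 7 7 109 9 113 111 4 4 109 5 5 5 8 8 8 0 20 112 20 20 20 109 109 109 109 109 109 109 110 110 109 20 20 0 0 1 32 3 110 4 9 9) (@D3.rec (fun _ => Nat) 9 87 89 34 34 18 4 4 93 93 5 5 5 34 8 8 8 119 12 4 4 5 5 10 10 10 4 4 5 5 5 12 12 5 5 5 110 109 6 6 6 110 113 9 9 0 1 20 20 20 110) (@D3.rec (fun _ =>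 Nat) 5 5 13 13 5 5 6 6 6 6 20 20 4 5 5 5 86 88 5 5 5 6 6 6 6 6 6 111 111 6 6 6 13 13 13 6 6 63 6 6 109 109 7 7 0 7 7 7 7 20 20) (@D3.rec (fun _ => Nat) 20 20 0 1 1 13 32 1 32 103 34 117 21 110 109 21 21 21 21 21 9 9 9 61 61 63 8 8 8 107 111 116 10 10 10 9 9 114 116 114 21 112 114 117 111 6 111 106 106 21 21) (@D3.rec (fun _ => Nat) 21 0 1 65 115 113 114 117 112 21 5 5 6 6 9 9 9 106 106 112 104 104 110 8 8 8 106 110 116 107 111 10 10 10 9 9 0 32 32 0 1 109 110 109 114 106 21 5 5 5 107) (@D3.rec (fun _ => Nat) 111 6 6 6 21 110 110 21 118 108 83 5 6 81 81 6 6 115 6 7 7 0 21 0 1 33 116 113 1 88 10 110 106 110 114 10 10 10 10 10 110 112 20 20 4 107 110 5 106 93 92) (@D3.rec (fun _ => Nat) 116 117 5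 5 19 5 112 113 6 6 106 6 108 106 106 9 9 9 9 0 113 108 106 116 111 11 116 106 111 113 110 110 11 11 110 11 11 0 5 6 13 6 13 6 118 7 117 115 110 10 10) (@D3.rec (fun _ => Nat) 0 10 0 1 32 32 0 105 1 0 1 0 1 13 110 5 106 106 114 108 110 6 115 108 110 110 21 21 0 114 120 111 116 6 6 106 6 6 111 6 113 110 7 7 110 7 7 0 121 111 108) (@D3.rec (fun _ => Nat) 118 114 0 110 21 0 1 114 6 6 6 6 7 7 7 115 7 7 83 83 7 7 7 14 107 7 7 0 7 14 60 103 7 60 7 63 8 8 8 8 8 8 8 0 8 1 8 21 110 105 21)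
def lv_h_20 : D2 → D3 → Nat := @D2.rec (fun _ => D3 → Nat) (@D3.rec (fun _ => Nat) 0 1 0 0 1 14 33 0 33 1 105 14 107 1 0 0 1 14 63 14 0 1 1 117 108 32 1 1 113 65 111 20 20 20 115 113 115 115 6 6 6 113 113 7 7 20 64 64 8 110 116) (@D3.rec (fun _ => Nat) 114 111 115 112 5 5 6 6 112 113 119 106 106 114 112 112 111 111 113 5 5 5 5 5 6 6 6 6 6 6 112 5 5 5 6 6 6 6 6 6 6 6 7 7 7 7 6 60 82 82 94) (@D3.rec (fun _ => Nat) 5 5 6 6 4 4 5 5 5 110 4 4 5 5 13 13 5 5 6 6 5 5 112 6 6 6 13 13 6 6 62 7 7 111 108 110 110 118 120 108 114 114 0 111 107 111 109 111 111 6 6) (@D3.rec (fun _ => Nat) 14 14 64 6 6 6 6 7 7 7 7 7 113 107 115 6 6 107 107 6 6 110 7 7 7 7 7 84 66 7 7 65 14 14 64 7 7 110 111 8 8 8 8 116 32 111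 22 62 62 62 12) (@D3.rec (fun _ => Nat) 12 5 5 5 6 6 6 107 85 6 6 6 13 13 13 6 6 6 7 7 7 7 7 111 5 5 6 6 21 108 108 115 115 13 13 6 6 19 7 111 118 109 21 21 113 115 110 121 107 6 6) (@D3.rec (fun _ => Nat) 117 7 109 14 14 7 120 110 108 110 112 112 114 112 116 110 114 114 114 122 116 116 115 107 113 6 6 6 7 7 112 6 6 6 7 7 7 7 61 8 61 64 113 120 114 117 109 108 6 61 115) (@D3.rec (fun _ => Nat) 113 5 5 6 6 93 115 112 6 6 7 114 110 115 112 112 114 114 6 112 109 109 6 6 6 7 7 0 14 14 7 7 7 14 14 7 7 61 14 113 104 8 8 8 111 111 110 110 114 114 114) (@D3.rec (fun _ => Nat) 22 0 1 117 117 107 114 116 104 116 118 114 112 117 117 115 0 1 15 15 15 8 8 15 15 8 107 116 9 116 113 113 111 20 20 117 110 20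 20 0 1 33 20 113 113 113 20 20 20 20 0) (@D3.rec (fun _ => Nat) 1 109 86 9 9 9 92 92 33 33 4 4 88 88 5 5 5 33 8 8 8 114 4 4 5 5 5 33 110 110 10 10 10 12 12 5 5 5 6 6 6 9 9 0 33 33 0 1 114 115 111) (@D3.rec (fun _ => Nat) 111 117 119 109 115 111 108 108 21 107 107 88 88 5 5 6 6 81 81 6 6 6 13 13 13 6 6 6 6 7 7 0 7 7 7 7 21 0 1 107 31 107 1 13 33 115 113 106 110 110 116) (@D3.rec (fun _ => Nat) 115 109 115 5 5 6 6 115 108 8 8 8 113 5 5 6 6 9 9 110 110 111 113 110 108 117 110 111 113 112 33 4 4 102 102 5 5 5 33 10 10 10 10 10 82 82 82 82 82 0 5) (@D3.rec (fun _ => Nat) 5 5 89 89 89 6 6 6 84 9 9 0 109 109 114 109 112 113 109 5 5 6 6 106 11 11 11 11 11 0 5 5 6 6 6 13 13 6 6 19 6 7 7 7 115 110 113 111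 10 0 1) (@D3.rec (fun _ => Nat) 1 13 112 112 108 108 108 118 112 0 115 109 112 109 108 114 118 108 108 108 110 109 108 107 107 5 6 109 109 109 6 6 113 7 110 14 14 7 7 7 108 117 8 8 21 108 21 0 117 1 14) (@D3.rec (fun _ => Nat) 107 22 22 115 111 111 113 113 113 22 22 115 115 22 22 4 4 87 87 5 5 5 8 8 8 113 105 105 5 5 5 6 6 6 115 115 9 9 109 22 115 109 6 6 7 115 22 22 22 119 115) (@D3.rec (fun _ => Nat) 21 4 5 5 5 6 6 9 4 4 112 109 5 5 5 35 8 8 8 118 10 113 113 5 5 5 111 6 6 6 9 9 0 1 21 117 21 21 117 117 109 109 120 109 0 109 108 110 21 0 1) (@D3.rec (fun _ => Nat) 1 13 4 108 110 5 10 10 10 89 89 89 0 35 35 19 5 5 5 88 93 91 6 6 6 6 35 9 9 0 117 13 13 5 5 6 6 11 11 5 5 5 6 6 6 13 13 13 6 6 19)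 (@D3.rec (fun _ => Nat) 6 110 108 7 7 113 115 10 0 1 13 21 21 108 110 6 6 14 14 6 6 7 7 7 21 5 6 6 6 6 88 88 88 6 6 6 7 7 7 7 7 114 111 109 7 7 0 7 14 14 103) (@D3.rec (fun _ => Nat) 14 109 7 65 7 109 7 119 111 8 0 8 1 8 8 21 21 0 1 14 109 112 103 117 23 120 111 23 23 10 10 10 61 61 61 9 9 64 116 111 114 11 11 10 112 116 114 116 116 122 108) (@D3.rec (fun _ => Nat) 23 0 1 67 113 114 113 112 6 6 111 7 10 10 10 112 108 106 114 108 106 106 9 9 0 116 108 114 115 109 110 11 11 0 10 0 1 0 1 112 110 118 118 106 117 6 6 6 118 109 7) (@D3.rec (fun _ => Nat) 7 110 22 110 110 110 114 116 85 6 81 81 7 7 0 113 8 0 1 0 1 90 118 11 115 112 108 110 11 11 11 11 0 112 112 114 94 117 109 5 114 105 93 6 114 0 93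 93 108 6 6) (@D3.rec (fun _ => Nat) 20 6 116 114 113 7 7 0 108 95 106 106 108 10 10 0 10 0 1 113 108 108 114 111 0 110 111 111 115 110 12 12 0 110 12 0 1 6 14 7 14 116 115 113 110 0 11 0 1 0 0) (@D3.rec (fun _ => Nat) 1 14 107 107 1 107 14 1 14 1 109 118 6 108 108 117 110 115 110 115 119 119 110 110 22 0 1 114 118 116 7 7 109 7 7 0 111 113 112 108 8 8 0 110 8 0 1 111 109 107 116) (@D3.rec (fun _ => Nat) 0 118 1 0 0 1 15 7 7 7 113 8 8 8 8 8 83 83 65 8 8 61 8 15 111 0 8 0 8 63 1 60 115 60 8 65 65 9 9 9 9 9 0 9 1 65 107 113 0 1 15) (@D3.rec (fun _ => Nat) 0 1 1 15 0 1 65 115 109 15 0 1 1 0 1 109 61 118 121 115 7 7 85 119 113 8 66 66 116 110 6 6 62 7 113 112 115 115 108 112 114 0 114 113 113 6 6 6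 6 6 6) (@D3.rec (fun _ => Nat) 7 7 7 7 7 6 6 61 6 7 7 7 7 62 7 7 8 8 82 82 92 6 6 64 7 5 5 5 6 6 6 5 5 6 6 14 14 6 6 108 7 6 6 57 112 7 7 14 14 109 7) (@D3.rec (fun _ => Nat) 64 116 112 116 112 118 110 119 0 1 113 111 107 118 111 7 7 65 15 15 66 66 7 7 7 8 8 8 113 109 7 7 65 116 109 7 110 8 8 8 61 86 68 109 8 65 15 66 8 111 111) (@D3.rec (fun _ => Nat) 9 62 62 13 13 13 6 6 19 6 7 7 107 87 87 7 7 113 7 14 14 14 7 7 8 8 8 115 6 6 86 7 106 117 14 14 105 7 20 117 118 22 116 123 7 108 15 108 119 116 114)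
def lv_h_21 : D2 → D3 → Nat := @D2.rec (fun _ => D3 → Nat) (@D3.rec (fun _ => Nat) 110 116 118 114 108 118 116 115 114 7 7 63 8 7 7 65 8 8 63 66 115 117 113 114 6 6 7 94 113 119 7 111 110 112 120 114 119 109 7 7 0 8 0 1 15 15 15 8 8 63 15) (@D3.rec (fun _ => Nat) 15 90 8 63 115 111 9 117 112 117 114 0 0 1 114 114 113 111 113 112 0 1 16 16 16 9 16 116 113 113 22 117 22 0 1 86 116 21 21 0 119 1 86 10 10 10 87 94 90 94 34) (@D3.rec (fun _ => Nat) 34 5 5 5 88 88 90 6 6 6 6 9 9 0 114 5 5 5 6 6 6 6 116 112 110 11 11 0 13 13 13 6 6 19 6 7 7 10 0 1 0 1 13 120 111 107 111 119 117 114 108) (@D3.rec (fun _ => Nat) 109 109 107 110 107 107 88 88 6 6 7 83 83 83 7 7 0 7 14 14 14 64 7 7 7 8 0 8 1 8 8 0 1 14 85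 113 108 110 110 114 115 111 6 6 60 7 114 9 9 58 6) (@D3.rec (fun _ => Nat) 6 62 7 10 120 110 0 114 108 119 113 113 114 5 5 5 114 104 104 6 6 6 6 11 11 11 11 11 0 84 84 84 84 0 84 1 6 6 20 6 89 89 0 89 7 7 86 10 0 1 116) (@D3.rec (fun _ => Nat) 111 110 112 111 0 115 111 6 6 20 7 110 12 12 12 12 0 1 6 6 64 7 7 14 14 109 7 20 7 20 8 113 112 121 0 1 14 114 112 118 110 0 110 116 0 1 117 109 115 107 116) (@D3.rec (fun _ => Nat) 118 111 110 109 110 107 109 6 108 113 109 7 116 15 8 8 117 9 109 117 1 15 22 113 119 111 122 115 22 115 22 5 5 5 87 89 89 6 6 6 9 9 111 113 107 6 6 19 6 7 7) (@D3.rec (fun _ => Nat) 120 113 10 111 117 7 113 22 118 5 6 6 6 7 10 5 5 5 114 113 107 6 6 6 6 9 9 0 119 113 113 6 6 111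 6 110 7 7 10 0 1 13 22 117 111 117 119 0 111 1 111) (@D3.rec (fun _ => Nat) 0 1 14 111 5 119 108 6 11 11 115 89 89 0 89 91 94 1 20 6 6 20 6 6 88 93 0 91 91 7 7 7 110 10 0 1 14 14 6 6 107 7 12 6 6 84 6 7 7 14 14) (@D3.rec (fun _ => Nat) 116 14 7 20 7 20 108 8 120 0 1 14 22 108 108 7 7 114 15 15 7 8 6 7 7 86 7 88 90 90 7 7 8 8 8 117 113 0 111 8 0 8 113 1 15 115 15 109 111 65 8) (@D3.rec (fun _ => Nat) 115 8 109 111 121 0 9 1 111 9 1 15 117 118 11 11 66 63 63 10 66 114 113 116 12 122 118 122 1 67 119 7 111 11 11 0 114 110 0 106 106 108 108 106 10 0 1 114 108 113 121) (@D3.rec (fun _ => Nat) 112 0 112 12 0 1 0 1 1 116 112 117 120 117 7 7 114 116 118 112 8 116 114 116 116 114 85 83 83 0 8 0 1 0 1 1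 90 119 114 110 112 12 12 0 12 0 1 115 112 0 112) (@D3.rec (fun _ => Nat) 93 113 6 114 112 91 92 108 0 94 108 1 106 7 7 21 120 114 0 114 95 8 0 108 115 1 95 106 108 11 0 1 0 0 1 21 118 110 108 119 0 1 113 113 112 107 13 0 112 1 0) (@D3.rec (fun _ => Nat) 106 1 15 15 118 0 1 0 1 15 0 1 1 15 107 15 60 111 118 108 108 114 117 112 117 120 112 0 0 1 117 8 8 108 111 8 0 1 119 114 108 9 0 118 0 1 0 1 65 109 109) (@D3.rec (fun _ => Nat) 0 116 109 1 16 0 1 1 16 8 8 115 9 9 109 9 85 85 0 65 9 61 9 66 111 0 1 0 9 0 63 1 63 7 113 65 65 10 10 10 1 65 107 1 16 0 1 16 109 1 65) (@D3.rec (fun _ => Nat) 114 0 1 1 62 109 119 8 85 120 66 7 62 114 116 118 108 113 0 1 116 113 7 7 62 7 7 7 8 8 8 7 63 7 8 8 62 8 84 93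 7 64 6 6 110 6 7 7 6 6 104) (@D3.rec (fun _ => Nat) 7 15 15 111 7 117 7 59 15 111 64 64 121 116 112 115 0 0 1 114 109 114 116 113 8 67 16 66 66 8 8 9 111 8 67 116 9 61 68 109 67 67 66 115 64 14 14 63 14 7 20) (@D3.rec (fun _ => Nat) 7 8 120 87 87 87 8 115 8 15 15 8 9 115 7 87 15 105 21 21 121 116 118 123 108 121 118 120 8 63 8 65 63 63 123 119 115 7 95 115 118 114 122 116 116 8 0 1 0 1 16) (@D3.rec (fun _ => Nat) 16 16 115 9 63 16 92 63 63 113 117 112 116 116 0 1 1 116 116 1 17 17 114 0 1 88 115 1 88 11 11 0 89 92 96 92 92 96 6 6 20 6 6 90 90 0 90 90 7 7 7) (@D3.rec (fun _ => Nat) 10 0 1 6 6 20 6 6 7 7 7 115 115 0 110 12 0 1 14 14 112 14 7 20 7 20 8 0 1 14 1 120 107 113 110 116 110 107 107 110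 105 90 90 7 83 83 0 83 8 0 8) (@D3.rec (fun _ => Nat) 109 1 15 15 66 8 8 0 9 1 85 9 1 15 115 118 112 112 117 7 62 10 58 7 64 120 0 1 116 115 115 115 6 6 110 6 6 114 116 115 110 109 7 7 7 12 12 114 12 12 0) (@D3.rec (fun _ => Nat) 1 84 84 84 0 84 1 7 21 7 21 91 0 91 0 1 8 86 0 0 1 88 114 111 0 110 119 0 1 118 7 21 112 13 13 0 1 7 66 15 116 21 8 21 21 21 116 1 15 112 114) (@D3.rec (fun _ => Nat) 114 121 0 110 113 1 0 0 1 16 111 112 116 111 109 117 115 9 16 119 114 6 6 20 6 89 89 109 89 7 7 10 111 117 7 20 7 20 8 120 120 6 7 6 6 64 6 6 115 113 0) (@D3.rec (fun _ => Nat) 109 93 7 7 7 10 0 1 111 7 113 7 114 8 0 1 14 113 117 0 120 1 111 1 15 6 117 117 115 12 110 91 0 91 91 1 91 21 7 21 7 113 7 93 0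 91 0 1 93 8 8) (@D3.rec (fun _ => Nat) 115 0 0 1 21 15 15 7 109 7 86 7 8 15 116 15 115 21 8 21 21 109 1 15 116 116 8 114 16 8 87 8 90 90 8 9 116 0 116 0 1 0 9 0 111 1 115 103 115 16 117) (@D3.rec (fun _ => Nat) 111 113 9 115 115 111 1 111 16 12 66 63 66 66 119 116 118 118 69 116 113 12 0 1 108 0 112 110 1 108 106 108 0 0 1 115 113 115 0 117 1 0 1 1 116 117 119 120 8 116 116) (@D3.rec (fun _ => Nat) 116 114 114 114 83 0 1 0 0 1 1 92 112 110 13 0 1 0 0 1 115 115 0 114 110 1 112 91 93 0 95 110 1 108 8 114 0 116 93 1 99 0 106 0 117 1 94 106 0 0 1)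
def lv_h_22 : D2 → D3 → Nat := @D2.rec (fun _ => D3 → Nat) (@D3.rec (fun _ => Nat) 115 0 1 1 22 120 110 0 0 1 115 109 0 119 113 1 16 107 1 16 0 1 1 16 1 16 62 117 101 115 110 120 117 117 117 112 0 1 1 9 110 0 0 1 111 117 110 0 116 0 1) (@D3.rec (fun _ => Nat) 1 67 1 67 107 116 1 17 0 1 17 121 115 10 113 10 85 0 67 113 1 63 10 63 66 0 0 1 7 0 65 1 65 1 65 8 67 11 67 17 1 122 111 120 1 62 87 87 64 64 114) (@D3.rec (fun _ => Nat) 115 0 0 1 114 120 8 64 8 8 9 63 8 64 64 94 66 66 7 110 7 8 7 106 16 113 115 117 59 59 115 111 66 120 114 118 0 1 1 116 114 115 67 67 68 68 9 67 67 63 63) (@D3.rec (fun _ => Nat) 114 111 67 15 65 15 21 8 21 89 89 89 118 9 115 16 88 88 115 107 22 118 118 115 110 120 65 65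 67 67 65 121 114 114 119 0 0 1 116 1 17 17 117 65 65 92 92 65 117 116 0) (@D3.rec (fun _ => Nat) 1 117 18 1 88 88 12 0 1 94 94 92 98 92 7 21 7 21 7 90 0 90 0 1 90 8 8 0 0 1 113 7 21 7 7 8 8 113 0 112 1 0 1 15 112 15 110 21 8 21 21) (@D3.rec (fun _ => Nat) 21 1 15 107 116 110 116 107 114 90 85 0 85 0 1 0 9 0 111 1 87 16 66 9 1 87 16 120 112 62 62 60 60 64 64 0 0 1 112 111 117 7 116 7 116 7 114 117 116 117 116) (@D3.rec (fun _ => Nat) 8 8 13 114 13 114 0 0 1 86 0 86 1 22 8 22 22 22 0 91 0 0 1 1 88 0 1 1 88 114 0 112 108 1 0 0 1 16 22 22 14 1 66 66 116 118 22 22 22 22 16) (@D3.rec (fun _ => Nat) 112 114 0 112 0 115 1 0 1 1 17 7 21 7 91 109 91 8 121 113 21 8 21 21 7 64 7 7 116 0 109 96 1 92 8 8 0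 115 1 120 8 113 116 116 1 15 1 113 16 115 118) (@D3.rec (fun _ => Nat) 119 117 0 91 93 1 91 22 8 22 113 8 100 102 0 93 0 0 1 93 94 1 9 117 0 1 1 22 16 124 109 86 8 86 115 16 118 118 114 22 22 116 109 16 113 118 116 88 9 88 92) (@D3.rec (fun _ => Nat) 0 118 0 0 1 1 0 111 1 115 1 117 98 115 120 115 115 117 115 68 68 68 120 118 120 118 0 0 1 0 108 0 116 1 110 108 0 1 1 121 115 0 119 1 1 117 119 122 116 118 116) (@D3.rec (fun _ => Nat) 0 0 1 0 1 1 112 112 0 0 1 0 1 1 115 0 114 117 1 93 94 93 117 1 108 0 118 0 95 1 99 0 121 1 95 117 1 0 1 1 115 0 1 23 62 23 115 110 0 1 1) (@D3.rec (fun _ => Nat) 118 109 1 17 17 1 17 62 115 101 117 110 121 119 0 1 118 110 0 1 1 111 122 0 1 1 67 67 116 18 1 113 115 11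 117 0 67 0 115 1 63 68 68 0 1 1 8 0 65 1 65) (@D3.rec (fun _ => Nat) 9 65 9 64 110 87 64 0 1 1 114 64 64 9 64 66 114 8 112 116 106 116 115 117 61 115 66 120 0 1 124 116 119 115 69 68 69 63 116 69 65 16 65 22 89 89 89 117 89 122 23) (@D3.rec (fun _ => Nat) 117 119 126 65 67 65 121 116 119 0 1 1 117 18 115 117 65 94 65 117 121 1 124 90 0 0 1 95 92 100 92 22 8 22 22 8 22 86 0 92 0 0 1 92 95 1 9 0 1 1 115) (@D3.rec (fun _ => Nat) 22 8 22 8 9 0 117 1 1 114 16 116 112 107 22 22 22 22 16 113 0 85 0 0 1 1 0 113 1 111 1 87 68 87 119 114 64 60 66 0 1 1 114 118 114 8 118 116 8 116 116) (@D3.rec (fun _ => Nat) 117 116 116 9 116 14 116 116 0 1 1 1 23 23 23 23 0 0 1 0 1 1 0 1 90 90 0 119 0 108 1 0 1 1 17 23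 68 116 23 23 23 23 110 112 0 121 1 115 1 0 1) (@D3.rec (fun _ => Nat) 18 118 18 22 8 22 116 91 111 120 22 22 66 8 66 8 0 121 119 96 1 92 9 119 1 118 111 111 117 16 118 116 118 112 93 1 93 23 120 9 115 102 99 0 0 1 93 0 1 94 1) (@D3.rec (fun _ => Nat) 118 0 1 23 23 118 88 113 117 117 114 23 127 124 111 124 89 0 0 1 0 1 1 0 111 1 115 100 117 98 115 68 68 122 122 118 0 1 1 0 114 1 108 114 1 0 1 115 1 116 118) (@D3.rec (fun _ => Nat) 116 0 1 1 0 1 114 0 1 1 0 1 121 117 115 1 93 117 0 95 1 101 99 1 0 119 1 0 1 113 117 1 64 24 103 115 0 1 18 101 119 123 118 1 125 0 1 113 113 1 69) (@D3.rec (fun _ => Nat) 120 115 0 101 1 115 1 65 68 0 1 9 9 67 1 67 10 89 66 0 1 115 116 66 66 68 116 118 115 111 61 118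 118 1 112 121 69 69 65 122 67 23 91 120 90 120 121 119 67 69 127) (@D3.rec (fun _ => Nat) 0 1 115 117 115 67 94 128 0 1 1 100 94 23 23 9 23 23 88 0 0 1 92 0 1 97 1 0 1 116 115 23 9 1 116 117 112 109 23 23 23 23 0 0 1 0 1 1 0 113 1) (@D3.rec (fun _ => Nat) 89 89 119 64 62 66 0 1 121 114 116 116 9 118 119 116 117 119 126 120 116 0 1 24 24 24 24 0 0 1 1 1 1 90 0 122 1 110 1 0 1 18 18 24 68 112 24 24 112 0 123) (@D3.rec (fun _ => Nat) 1 1 120 19 116 23 118 119 23 66 9 121 98 1 94 98 123 118 120 117 119 118 119 24 122 102 99 102 97 0 0 1 96 1 100 1 1 24 120 88 119 122 102 116 125 119 124 90 0 0 1) (@D3.rec (fun _ => Nat) 1 1 119 1 117 98 70 122 0 1 0 116 1 1 126 120 113 0 1 1 114 0 1 1 123 95 0 101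 1 119 1 1 124 64 25 103 121 1 122 118 1 118 128 0 103 1 70 1 10 67 11) (@D3.rec (fun _ => Nat) 1 115 66 117 121 117 123 125 67 91 1 117 118 0 1 24 24 24 88 24 88 0 0 1 97 1 97 1 1 116 24 118 114 122 109 24 24 0 0 1 1 1 115 1 89 117 1 122 119 116 115) (@D3.rec (fun _ => Nat) 121 124 122 1 25 25 0 1 1 92 0 121 1 1 19 25 118 125 1 124 20 120 24 123 68 129 98 120 117 118 121 102 99 0 1 100 1 25 124 102 119 0 1 1 114 100 1 125 1 1 1) (@D3.rec (fun _ => Nat) 123 101 1 113 102 119 103 1 11 114 120 1 25 25 90 0 1 99 1 122 118 120 25 0 1 1 91 120 119 125 124 26 1 121 1 20 122 98 119 101 99 102 1 102 1 26 90 99 1 122 1)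
def lv_h : Pt → Nat := @Pt.rec (fun _ => Nat) (@D1.rec (fun _ => D2 → D3 → Nat) lv_h_0 lv_h_1 lv_h_2 lv_h_3 lv_h_4 lv_h_5 lv_h_6 lv_h_7 lv_h_8 lv_h_9 lv_h_10 lv_h_11 lv_h_12 lv_h_13 lv_h_14 lv_h_15 lv_h_16 lv_h_17 lv_h_18 lv_h_19 lv_h_20 lv_h_21 lv_h_22)
abbrev lc_h_Cert_tree : Cert rels S Gen.h := Cert.tree
abbrev lc_h_rc_14_1 : Cert rels S Gen.h := rc_14_1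
abbrev lc_h_rc_14_3 : Cert rels S Gen.h := rc_14_3
abbrev lc_h_rc_22_1 : Cert rels S Gen.h := rc_22_1
abbrev lc_h_rc_22_3 : Cert rels S Gen.h := rc_22_3
abbrev lc_h_rc_29_1 : Cert rels S Gen.h := rc_29_1
abbrev lc_h_rc_29_3 : Cert rels S Gen.h := rc_29_3
abbrev lc_h_rc_29_5 : Cert rels S Gen.h := rc_29_5
abbrev lc_h_rc_35_1 : Cert rels S Gen.h := rc_35_1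
abbrev lc_h_rc_35_3 : Cert rels S Gen.h := rc_35_3
abbrev lc_h_rc_40_0 : Cert rels S Gen.h := rc_40_0
abbrev lc_h_rc_40_1 : Cert rels S Gen.h := rc_40_1
abbrev lc_h_rc_41_0 : Cert rels S Gen.h := rc_41_0
abbrev lc_h_rc_41_2 : Cert rels S Gen.h := rc_41_2
abbrev lc_h_rc_41_4 : Cert rels S Gen.h := rc_41_4
abbrev lc_h_rc_42_1 : Cert rels S Gen.h := rc_42_1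
abbrev lc_h_rc_42_3 : Cert rels S Gen.h := rc_42_3
abbrev lc_h_rc_47_1 : Cert rels S Gen.h := rc_47_1
abbrev lc_h_rc_47_3 : Cert rels S Gen.h := rc_47_3
abbrev lc_h_rc_51_1 : Cert rels S Gen.h := rc_51_1
abbrev lc_h_rc_51_3 : Cert rels S Gen.h := rc_51_3
abbrev lc_h_rc_55_16 : Cert rels S Gen.h := rc_55_16
abbrev lc_h_rc_55_25 : Cert rels S Gen.h := rc_55_25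
abbrev lc_h_rc_55_34 : Cert rels S Gen.h := rc_55_34
abbrev lc_h_rc_55_43 : Cert rels S Gen.h := rc_55_43
abbrev lc_h_rc_55_52 : Cert rels S Gen.h := rc_55_52
abbrev lc_h_rc_55_61 : Cert rels S Gen.h := rc_55_61
abbrev lc_h_rc_55_70 : Cert rels S Gen.h := rc_55_70
abbrev lc_h_rc_55_88 : Cert rels S Gen.h := rc_55_88
abbrev lc_h_rc_56_13 : Cert rels S Gen.h := rc_56_13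
abbrev lc_h_rc_56_20 : Cert rels S Gen.h := rc_56_20
abbrev lc_h_rc_56_27 : Cert rels S Gen.h := rc_56_27
abbrev lc_h_rc_56_34 : Cert rels S Gen.h := rc_56_34
abbrev lc_h_rc_56_41 : Cert rels S Gen.h := rc_56_41
abbrev lc_h_rc_56_48 : Cert rels S Gen.h := rc_56_48
abbrev lc_h_rc_56_55 : Cert rels S Gen.h := rc_56_55
abbrev lc_h_rc_56_6 : Cert rels S Gen.h := rc_56_6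
abbrev lc_h_rc_5_1 : Cert rels S Gen.h := rc_5_1
abbrev lc_h_rc_5_3 : Cert rels S Gen.h := rc_5_3
abbrev lc_h_sc_7_0 : Cert rels S Gen.h := sc_7_0
def ce_h_0 : D2 → D3 → (Cert rels S Gen.h) := @D2.rec (fun _ => D3 → (Cert rels S Gen.h)) (@D3.rec (fun _ => (Cert rels S Gen.h)) lc_h_sc_7_0 lc_h_rc_51_1 lc_h_rc_47_1 lc_h_rc_42_1 lc_h_rc_35_1 lc_h_Cert_tree lc_h_Cert_tree lc_h_rc_40_0 lc_h_Cert_tree lc_h_rc_40_0 lc_h_rc_41_2 lc_h_Cert_tree lc_h_rc_40_0 lc_h_rc_29_3 lc_h_rc_22_1 lc_h_rc_40_0 lc_h_rc_14_1 lc_h_rc_14_1 lc_h_rc_35_1 lc_h_Cert_tree lc_h_rc_5_1 lc_h_rc_5_1 lc_h_rc_22_1 lc_h_rc_14_1 lc_h_Cert_tree lc_h_rc_42_1 lc_h_Cert_tree lc_h_rc_40_0 lc_h_rc_5_1 lc_h_rc_5_1 lc_h_Cert_tree lc_h_rc_22_1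 lc_h_Cert_tree lc_h_rc_14_1 lc_h_Cert_tree lc_h_rc_40_0 lc_h_rc_47_1 lc_h_Cert_tree lc_h_rc_40_0 lc_h_rc_14_1 lc_h_rc_5_1 lc_h_Cert_tree lc_h_rc_5_1 lc_h_Cert_tree lc_h_rc_40_0 lc_h_Cert_tree lc_h_rc_22_1 lc_h_Cert_tree lc_h_rc_40_0 lc_h_rc_14_1 lc_h_Cert_tree) (@D3.rec (fun _ => (Cert rels S Gen.h)) lc_h_rc_40_0 lc_h_rc_51_1 lc_h_Cert_tree lc_h_rc_40_0 lc_h_rc_29_3 lc_h_rc_14_1 lc_h_Cert_tree lc_h_Cert_tree lc_h_rc_5_1 lc_h_Cert_tree lc_h_rc_40_0 lc_h_rc_5_1 lc_h_Cert_tree lc_h_rc_40_0 lc_h_Cert_tree lc_h_rc_40_0 lc_h_Cert_tree lc_h_rc_22_1 lc_h_Cert_tree lc_h_rc_40_0 lc_h_rc_29_3 lc_h_rc_14_1 lc_h_Cert_tree lc_h_rc_40_0 lc_h_rc_14_1 lc_h_Cert_tree lc_h_rc_40_0 lc_h_rc_42_1 lc_h_rc_22_1 lc_h_Cert_tree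 lc_h_rc_14_1 lc_h_Cert_tree lc_h_rc_40_0 lc_h_Cert_tree lc_h_rc_40_0 lc_h_Cert_tree lc_h_rc_5_1 lc_h_Cert_tree lc_h_rc_40_0 lc_h_rc_5_1 lc_h_rc_5_1 lc_h_Cert_tree lc_h_rc_40_0 lc_h_rc_5_1 lc_h_Cert_tree lc_h_Cert_tree lc_h_rc_40_0 lc_h_Cert_tree lc_h_Cert_tree lc_h_rc_40_0 lc_h_rc_22_1) (@D3.rec (fun _ => (Cert rels S Gen.h)) lc_h_Cert_tree lc_h_rc_40_0 lc_h_rc_29_3 lc_h_rc_35_1 lc_h_Cert_tree lc_h_rc_40_0 lc_h_rc_14_1 lc_h_rc_22_1 lc_h_rc_40_0 lc_h_rc_47_1 lc_h_rc_22_1 lc_h_rc_35_1 lc_h_rc_14_1 lc_h_Cert_tree lc_h_Cert_tree lc_h_rc_40_0 lc_h_Cert_tree lc_h_rc_14_1 lc_h_Cert_tree lc_h_rc_40_0 lc_h_rc_14_1 lc_h_Cert_tree lc_h_Cert_tree lc_h_rc_40_0 lc_h_Cert_tree lc_h_Cert_tree lc_h_rc_40_0 lc_h_rc_5_1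 lc_h_Cert_tree lc_h_rc_40_0 lc_h_rc_29_3 lc_h_rc_5_1 lc_h_Cert_tree lc_h_rc_40_0 lc_h_rc_5_1 lc_h_rc_5_1 lc_h_Cert_tree lc_h_rc_40_0 lc_h_Cert_tree lc_h_Cert_tree lc_h_rc_40_0 lc_h_Cert_tree lc_h_Cert_tree lc_h_rc_40_0 lc_h_rc_40_0 lc_h_rc_29_3 lc_h_Cert_tree lc_h_rc_40_0 lc_h_rc_29_3 lc_h_rc_22_1 lc_h_rc_35_1) (@D3.rec (fun _ => (Cert rels S Gen.h)) lc_h_rc_42_1 lc_h_rc_40_0 lc_h_rc_14_1 lc_h_rc_22_1 lc_h_rc_35_1 lc_h_rc_14_1 lc_h_rc_51_1 lc_h_rc_22_1 lc_h_rc_35_1 lc_h_rc_14_1 lc_h_rc_35_1 lc_h_rc_5_1 lc_h_Cert_tree lc_h_rc_40_0 lc_h_Cert_tree lc_h_Cert_tree lc_h_Cert_tree lc_h_rc_40_0 lc_h_Cert_tree lc_h_Cert_tree lc_h_rc_40_0 lc_h_rc_14_1 lc_h_Cert_tree lc_h_rc_40_0 lc_h_rc_29_3 lc_h_rc_22_1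 lc_h_rc_14_1 lc_h_Cert_tree lc_h_rc_40_0 lc_h_Cert_tree lc_h_Cert_tree lc_h_rc_40_0 lc_h_Cert_tree lc_h_Cert_tree lc_h_rc_40_0 lc_h_rc_40_0 lc_h_rc_29_3 lc_h_Cert_tree lc_h_rc_40_0 lc_h_rc_29_3 lc_h_rc_22_1 lc_h_rc_35_1 lc_h_rc_5_1 lc_h_rc_40_0 lc_h_rc_5_1 lc_h_rc_5_1 lc_h_rc_5_1 lc_h_rc_14_1 lc_h_Cert_tree lc_h_Cert_tree lc_h_rc_40_0) (@D3.rec (fun _ => (Cert rels S Gen.h)) lc_h_Cert_tree lc_h_rc_29_3 lc_h_Cert_tree lc_h_rc_40_0 lc_h_rc_40_0 lc_h_Cert_tree lc_h_Cert_tree lc_h_rc_40_0 lc_h_rc_40_0 lc_h_rc_29_3 lc_h_rc_41_2 lc_h_rc_22_1 lc_h_rc_35_1 lc_h_rc_40_0 lc_h_rc_29_3 lc_h_rc_22_1 lc_h_rc_35_1 lc_h_rc_14_1 lc_h_rc_22_1 lc_h_rc_42_1 lc_h_rc_47_1 lc_h_rc_14_1 lc_h_rc_22_1 lc_h_rc_35_1 lc_h_rc_14_1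 lc_h_rc_35_1 lc_h_rc_5_1 lc_h_rc_22_1 lc_h_rc_35_1 lc_h_rc_14_1 lc_h_rc_35_1 lc_h_rc_42_1 lc_h_rc_5_1 lc_h_rc_14_1 lc_h_Cert_tree lc_h_Cert_tree lc_h_Cert_tree lc_h_rc_40_0 lc_h_Cert_tree lc_h_rc_29_3 lc_h_Cert_tree lc_h_rc_40_0 lc_h_Cert_tree lc_h_rc_40_0 lc_h_Cert_tree lc_h_Cert_tree lc_h_rc_40_0 lc_h_Cert_tree lc_h_Cert_tree lc_h_rc_40_0 lc_h_rc_40_0) (@D3.rec (fun _ => (Cert rels S Gen.h)) lc_h_rc_29_3 lc_h_Cert_tree lc_h_rc_40_0 lc_h_rc_29_3 lc_h_rc_22_1 lc_h_rc_35_1 lc_h_rc_22_1 lc_h_rc_14_1 lc_h_Cert_tree lc_h_Cert_tree lc_h_rc_40_0 lc_h_Cert_tree lc_h_rc_5_1 lc_h_Cert_tree lc_h_rc_40_0 lc_h_rc_40_0 lc_h_Cert_tree lc_h_Cert_tree lc_h_rc_40_0 lc_h_rc_40_0 lc_h_rc_29_3 lc_h_rc_5_1 lc_h_rc_22_1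 lc_h_rc_35_1 lc_h_rc_40_0 lc_h_rc_29_3 lc_h_rc_22_1 lc_h_rc_35_1 lc_h_rc_14_1 lc_h_rc_22_1 lc_h_rc_42_1 lc_h_rc_5_1 lc_h_rc_5_1 lc_h_rc_5_1 lc_h_rc_5_1 lc_h_rc_14_1 lc_h_rc_5_1 lc_h_rc_5_1 lc_h_Cert_tree lc_h_rc_40_0 lc_h_Cert_tree lc_h_rc_40_0 lc_h_Cert_tree lc_h_rc_29_3 lc_h_Cert_tree lc_h_rc_40_0 lc_h_rc_22_1 lc_h_Cert_tree lc_h_rc_40_0 lc_h_rc_29_3 lc_h_Cert_tree) (@D3.rec (fun _ => (Cert rels S Gen.h)) lc_h_rc_40_0 lc_h_rc_40_0 lc_h_rc_29_3 lc_h_rc_41_2 lc_h_rc_22_1 lc_h_rc_35_1 lc_h_rc_22_1 lc_h_rc_41_2 lc_h_rc_14_1 lc_h_rc_22_1 lc_h_rc_42_1 lc_h_rc_29_3 lc_h_rc_22_1 lc_h_rc_35_1 lc_h_rc_14_1 lc_h_rc_22_1 lc_h_rc_42_1 lc_h_rc_5_1 lc_h_rc_14_1 lc_h_rc_22_1 lc_h_rc_47_1 lc_h_rc_51_1 lc_h_rc_22_1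 lc_h_rc_35_1 lc_h_rc_14_1 lc_h_rc_35_1 lc_h_rc_42_1 lc_h_rc_5_1 lc_h_rc_14_1 lc_h_Cert_tree lc_h_rc_14_1 lc_h_rc_35_1 lc_h_rc_42_1 lc_h_rc_5_1 lc_h_rc_14_1 lc_h_Cert_tree lc_h_rc_42_1 lc_h_rc_5_1 lc_h_rc_14_3 lc_h_rc_40_0 lc_h_rc_56_34 lc_h_Cert_tree lc_h_rc_40_0 lc_h_Cert_tree lc_h_Cert_tree lc_h_rc_40_0 lc_h_Cert_tree lc_h_rc_29_3 lc_h_Cert_tree lc_h_rc_40_0 lc_h_rc_35_1) (@D3.rec (fun _ => (Cert rels S Gen.h)) lc_h_Cert_tree lc_h_rc_40_0 lc_h_rc_29_3 lc_h_Cert_tree lc_h_Cert_tree lc_h_rc_40_0 lc_h_Cert_tree lc_h_rc_14_1 lc_h_Cert_tree lc_h_rc_40_0 lc_h_rc_40_0 lc_h_Cert_tree lc_h_Cert_tree lc_h_rc_40_0 lc_h_rc_40_0 lc_h_rc_29_3 lc_h_rc_14_1 lc_h_rc_22_1 lc_h_rc_35_1 lc_h_rc_40_0 lc_h_rc_29_3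 lc_h_rc_22_1 lc_h_rc_35_1 lc_h_rc_14_1 lc_h_rc_22_1 lc_h_rc_42_1 lc_h_Cert_tree lc_h_rc_22_1 lc_h_rc_14_1 lc_h_Cert_tree lc_h_rc_40_0 lc_h_Cert_tree lc_h_rc_40_0 lc_h_Cert_tree lc_h_rc_5_1 lc_h_Cert_tree lc_h_rc_40_0 lc_h_rc_22_1 lc_h_Cert_tree lc_h_rc_40_0 lc_h_rc_5_1 lc_h_Cert_tree lc_h_rc_40_0 lc_h_rc_40_0 lc_h_rc_29_3 lc_h_rc_5_1 lc_h_rc_22_1 lc_h_rc_35_1 lc_h_rc_22_1 lc_h_rc_5_1 lc_h_rc_14_1) (@D3.rec (fun _ => (Cert rels S Gen.h)) lc_h_rc_22_1 lc_h_rc_42_1 lc_h_rc_29_3 lc_h_rc_22_1 lc_h_rc_35_1 lc_h_rc_14_1 lc_h_rc_22_1 lc_h_rc_42_1 lc_h_rc_5_1 lc_h_rc_14_1 lc_h_rc_22_1 lc_h_rc_47_1 lc_h_rc_5_1 lc_h_rc_5_1 lc_h_rc_5_1 lc_h_rc_14_1 lc_h_rc_5_1 lc_h_rc_5_1 lc_h_rc_5_1 lc_h_rc_14_1 lc_h_Cert_tree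 lc_h_Cert_tree lc_h_rc_40_0 lc_h_Cert_tree lc_h_rc_42_1 lc_h_Cert_tree lc_h_rc_40_0 lc_h_rc_29_3 lc_h_Cert_tree lc_h_rc_40_0 lc_h_rc_22_1 lc_h_Cert_tree lc_h_rc_40_0 lc_h_rc_29_3 lc_h_rc_14_1 lc_h_rc_56_55 lc_h_rc_40_0 lc_h_rc_29_3 lc_h_rc_22_1 lc_h_rc_35_1 lc_h_rc_40_0 lc_h_rc_29_3 lc_h_rc_41_2 lc_h_rc_22_1 lc_h_rc_35_1 lc_h_rc_22_1 lc_h_rc_41_2 lc_h_rc_14_1 lc_h_rc_22_1 lc_h_rc_42_1 lc_h_rc_14_1) (@D3.rec (fun _ => (Cert rels S Gen.h)) lc_h_rc_22_1 lc_h_rc_42_1 lc_h_rc_5_1 lc_h_rc_14_1 lc_h_rc_29_3 lc_h_rc_22_1 lc_h_rc_47_1 lc_h_rc_22_1 lc_h_rc_35_1 lc_h_rc_14_1 lc_h_rc_22_1 lc_h_rc_42_1 lc_h_rc_5_1 lc_h_rc_14_1 lc_h_Cert_tree lc_h_rc_22_1 lc_h_rc_47_1 lc_h_rc_5_1 lc_h_rc_14_1 lc_h_rc_22_1 lc_h_rc_51_1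 lc_h_rc_14_1 lc_h_rc_35_1 lc_h_rc_42_1 lc_h_rc_5_1 lc_h_rc_14_1 lc_h_Cert_tree lc_h_rc_42_1 lc_h_rc_5_1 lc_h_rc_22_1 lc_h_rc_40_0 lc_h_rc_5_1 lc_h_rc_14_1 lc_h_Cert_tree lc_h_rc_42_1 lc_h_rc_47_1 lc_h_rc_5_1 lc_h_rc_22_1 lc_h_rc_14_1 lc_h_Cert_tree lc_h_rc_40_0 lc_h_rc_55_16 lc_h_rc_47_1 lc_h_Cert_tree lc_h_Cert_tree lc_h_Cert_tree lc_h_rc_40_0 lc_h_Cert_tree lc_h_Cert_tree lc_h_rc_40_0 lc_h_rc_40_0) (@D3.rec (fun _ => (Cert rels S Gen.h)) lc_h_Cert_tree lc_h_rc_29_3 lc_h_Cert_tree lc_h_rc_40_0 lc_h_Cert_tree lc_h_rc_40_0 lc_h_rc_29_3 lc_h_Cert_tree lc_h_rc_40_0 lc_h_rc_29_3 lc_h_rc_29_3 lc_h_rc_35_1 lc_h_Cert_tree lc_h_rc_40_0 lc_h_Cert_tree lc_h_rc_40_0 lc_h_Cert_tree lc_h_rc_14_1 lc_h_Cert_tree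 lc_h_rc_40_0 lc_h_Cert_tree lc_h_rc_40_0 lc_h_rc_14_1 lc_h_Cert_tree lc_h_rc_40_0 lc_h_rc_40_0 lc_h_rc_29_3 lc_h_rc_14_1 lc_h_rc_22_1 lc_h_rc_35_1 lc_h_rc_22_1 lc_h_rc_14_1 lc_h_rc_14_1 lc_h_rc_22_1 lc_h_rc_42_1 lc_h_rc_29_3 lc_h_rc_22_1 lc_h_rc_35_1 lc_h_rc_14_1 lc_h_rc_22_1 lc_h_rc_42_1 lc_h_rc_5_1 lc_h_rc_14_1 lc_h_Cert_tree lc_h_rc_22_1 lc_h_rc_47_1 lc_h_Cert_tree lc_h_rc_40_0 lc_h_rc_22_1 lc_h_rc_14_1 lc_h_Cert_tree) (@D3.rec (fun _ => (Cert rels S Gen.h)) lc_h_rc_40_0 lc_h_Cert_tree lc_h_rc_5_1 lc_h_Cert_tree lc_h_rc_40_0 lc_h_rc_5_1 lc_h_Cert_tree lc_h_rc_40_0 lc_h_rc_22_1 lc_h_Cert_tree lc_h_rc_40_0 lc_h_rc_5_1 lc_h_rc_14_1 lc_h_rc_40_0 lc_h_rc_29_3 lc_h_rc_22_1 lc_h_rc_5_1 lc_h_rc_40_0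 lc_h_rc_29_3 lc_h_rc_5_1 lc_h_rc_22_1 lc_h_rc_35_1 lc_h_rc_22_1 lc_h_rc_5_1 lc_h_rc_14_1 lc_h_rc_22_1 lc_h_rc_42_1 lc_h_rc_14_1 lc_h_rc_22_1 lc_h_rc_5_1 lc_h_rc_5_1 lc_h_rc_14_1 lc_h_rc_29_3 lc_h_rc_22_1 lc_h_rc_47_1 lc_h_rc_22_1 lc_h_rc_35_1 lc_h_rc_14_1 lc_h_rc_22_1 lc_h_rc_42_1 lc_h_rc_5_1 lc_h_rc_14_1 lc_h_Cert_tree lc_h_rc_22_1 lc_h_rc_47_1 lc_h_rc_5_1 lc_h_rc_14_1 lc_h_rc_22_1 lc_h_rc_51_1 lc_h_rc_14_1 lc_h_rc_5_1) (@D3.rec (fun _ => (Cert rels S Gen.h)) lc_h_rc_5_1 lc_h_rc_5_1 lc_h_rc_14_1 lc_h_Cert_tree lc_h_rc_5_1 lc_h_rc_5_1 lc_h_Cert_tree lc_h_rc_40_0 lc_h_rc_40_0 lc_h_Cert_tree lc_h_rc_42_1 lc_h_Cert_tree lc_h_rc_40_0 lc_h_rc_22_1 lc_h_rc_35_1 lc_h_Cert_tree lc_h_rc_40_0 lc_h_rc_42_1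 lc_h_rc_22_1 lc_h_Cert_tree lc_h_rc_40_0 lc_h_rc_29_3 lc_h_rc_14_1 lc_h_rc_22_3 lc_h_rc_40_0 lc_h_rc_29_3 lc_h_rc_22_1 lc_h_rc_35_1 lc_h_rc_29_3 lc_h_rc_22_1 lc_h_rc_35_1 lc_h_rc_14_1 lc_h_rc_22_1 lc_h_rc_42_1 lc_h_rc_41_2 lc_h_rc_22_1 lc_h_rc_35_1 lc_h_rc_22_1 lc_h_rc_41_2 lc_h_rc_14_1 lc_h_rc_22_1 lc_h_rc_42_1 lc_h_rc_14_1 lc_h_rc_22_1 lc_h_rc_42_1 lc_h_rc_5_1 lc_h_rc_14_1 lc_h_Cert_tree lc_h_rc_22_1 lc_h_rc_47_1 lc_h_rc_5_1) (@D3.rec (fun _ => (Cert rels S Gen.h)) lc_h_rc_14_1 lc_h_Cert_tree lc_h_rc_22_1 lc_h_rc_47_1 lc_h_rc_5_1 lc_h_rc_14_1 lc_h_rc_14_1 lc_h_rc_29_3 lc_h_rc_22_1 lc_h_rc_51_1 lc_h_rc_14_1 lc_h_rc_22_1 lc_h_rc_42_1 lc_h_rc_5_1 lc_h_rc_14_1 lc_h_Cert_tree lc_h_rc_22_1 lc_h_rc_47_1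 lc_h_rc_5_1 lc_h_rc_22_1 lc_h_rc_14_1 lc_h_Cert_tree lc_h_rc_40_0 lc_h_rc_22_1 lc_h_rc_51_1 lc_h_rc_5_1 lc_h_rc_14_1 lc_h_rc_22_1 lc_h_rc_5_1 lc_h_rc_14_1 lc_h_Cert_tree lc_h_rc_42_1 lc_h_rc_47_1 lc_h_rc_5_1 lc_h_rc_47_1 lc_h_rc_14_1 lc_h_Cert_tree lc_h_rc_40_0 lc_h_rc_14_3 lc_h_rc_5_1 lc_h_rc_22_1 lc_h_rc_14_1 lc_h_Cert_tree lc_h_rc_40_0 lc_h_rc_47_1 lc_h_rc_22_1 lc_h_rc_5_1 lc_h_rc_22_1 lc_h_Cert_tree lc_h_rc_40_0 lc_h_rc_29_1) (@D3.rec (fun _ => (Cert rels S Gen.h)) lc_h_rc_51_1 lc_h_Cert_tree lc_h_rc_40_0 lc_h_Cert_tree lc_h_rc_40_0 lc_h_Cert_tree lc_h_rc_40_0 lc_h_Cert_tree lc_h_Cert_tree lc_h_rc_40_0 lc_h_rc_40_0 lc_h_rc_29_3 lc_h_rc_29_3 lc_h_Cert_tree lc_h_rc_40_0 lc_h_Cert_tree lc_h_rc_40_0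 lc_h_rc_29_3 lc_h_rc_40_0 lc_h_rc_29_3 lc_h_rc_29_3 lc_h_rc_35_1 lc_h_rc_40_0 lc_h_rc_29_3 lc_h_rc_22_1 lc_h_rc_35_1 lc_h_rc_14_1 lc_h_rc_35_1 lc_h_rc_42_1 lc_h_Cert_tree lc_h_rc_40_0 lc_h_Cert_tree lc_h_rc_14_1 lc_h_Cert_tree lc_h_rc_40_0 lc_h_rc_14_1 lc_h_Cert_tree lc_h_rc_40_0 lc_h_Cert_tree lc_h_rc_40_0 lc_h_rc_14_1 lc_h_rc_40_0 lc_h_rc_29_3 lc_h_rc_22_1 lc_h_rc_14_1 lc_h_rc_40_0 lc_h_rc_29_3 lc_h_rc_14_1 lc_h_rc_22_1 lc_h_rc_35_1 lc_h_rc_22_1) (@D3.rec (fun _ => (Cert rels S Gen.h)) lc_h_rc_14_1 lc_h_rc_14_1 lc_h_rc_22_1 lc_h_rc_42_1 lc_h_rc_14_1 lc_h_rc_22_1 lc_h_rc_14_1 lc_h_rc_5_1 lc_h_rc_14_1 lc_h_Cert_tree lc_h_rc_22_1 lc_h_rc_47_1 lc_h_rc_22_1 lc_h_rc_35_1 lc_h_rc_14_1 lc_h_rc_22_1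 lc_h_rc_42_1 lc_h_rc_5_1 lc_h_rc_14_1 lc_h_Cert_tree lc_h_rc_22_1 lc_h_rc_47_1 lc_h_rc_5_1 lc_h_Cert_tree lc_h_rc_14_1 lc_h_Cert_tree lc_h_rc_40_0 lc_h_rc_22_1 lc_h_rc_51_1 lc_h_Cert_tree lc_h_Cert_tree lc_h_rc_40_0 lc_h_rc_41_2 lc_h_rc_22_1 lc_h_rc_40_0 lc_h_Cert_tree lc_h_rc_5_1 lc_h_Cert_tree lc_h_rc_40_0 lc_h_rc_22_1 lc_h_rc_35_1 lc_h_Cert_tree lc_h_rc_40_0 lc_h_rc_5_1 lc_h_rc_22_1 lc_h_Cert_tree lc_h_rc_40_0 lc_h_rc_5_1 lc_h_rc_22_3 lc_h_rc_40_0 lc_h_rc_29_3) (@D3.rec (fun _ => (Cert rels S Gen.h)) lc_h_rc_22_1 lc_h_rc_5_1 lc_h_rc_29_3 lc_h_rc_14_3 lc_h_rc_35_1 lc_h_rc_14_1 lc_h_rc_22_1 lc_h_rc_5_1 lc_h_rc_5_1 lc_h_rc_22_1 lc_h_rc_35_1 lc_h_rc_22_1 lc_h_rc_5_1 lc_h_rc_14_1 lc_h_rc_22_1 lc_h_rc_42_1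 lc_h_rc_14_1 lc_h_rc_22_1 lc_h_rc_5_1 lc_h_rc_5_1 lc_h_rc_14_1 lc_h_Cert_tree lc_h_rc_22_1 lc_h_rc_47_1 lc_h_rc_5_1 lc_h_rc_14_1 lc_h_Cert_tree lc_h_rc_22_1 lc_h_rc_5_1 lc_h_rc_5_1 lc_h_rc_14_1 lc_h_rc_14_1 lc_h_rc_29_3 lc_h_rc_22_1 lc_h_rc_51_1 lc_h_rc_14_1 lc_h_rc_22_1 lc_h_rc_42_1 lc_h_rc_5_1 lc_h_rc_14_1 lc_h_Cert_tree lc_h_rc_22_1 lc_h_rc_47_1 lc_h_rc_5_1 lc_h_Cert_tree lc_h_rc_14_1 lc_h_Cert_tree lc_h_rc_40_0 lc_h_rc_22_1 lc_h_rc_51_1 lc_h_rc_5_1) (@D3.rec (fun _ => (Cert rels S Gen.h)) lc_h_rc_14_1 lc_h_rc_22_1 lc_h_rc_5_1 lc_h_rc_14_1 lc_h_Cert_tree lc_h_rc_5_1 lc_h_rc_5_1 lc_h_rc_5_1 lc_h_Cert_tree lc_h_rc_14_1 lc_h_Cert_tree lc_h_rc_40_0 lc_h_rc_5_3 lc_h_Cert_tree lc_h_rc_40_0 lc_h_rc_41_2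 lc_h_rc_47_1 lc_h_Cert_tree lc_h_rc_40_0 lc_h_rc_22_1 lc_h_rc_35_1 lc_h_Cert_tree lc_h_rc_40_0 lc_h_rc_42_1 lc_h_rc_14_1 lc_h_rc_35_1 lc_h_rc_22_3 lc_h_Cert_tree lc_h_rc_40_0 lc_h_rc_29_3 lc_h_rc_22_1 lc_h_rc_35_1 lc_h_rc_14_1 lc_h_rc_22_3 lc_h_rc_40_0 lc_h_rc_29_3 lc_h_rc_22_1 lc_h_rc_35_1 lc_h_rc_29_3 lc_h_rc_47_1 lc_h_rc_35_1 lc_h_rc_14_1 lc_h_rc_22_1 lc_h_rc_42_1 lc_h_rc_35_1 lc_h_rc_22_1 lc_h_rc_42_1 lc_h_rc_14_1 lc_h_Cert_tree lc_h_rc_22_1 lc_h_rc_47_1) (@D3.rec (fun _ => (Cert rels S Gen.h)) lc_h_rc_22_1 lc_h_rc_41_2 lc_h_rc_14_1 lc_h_rc_22_1 lc_h_rc_42_1 lc_h_rc_14_1 lc_h_rc_22_1 lc_h_rc_42_1 lc_h_rc_5_1 lc_h_rc_14_1 lc_h_Cert_tree lc_h_rc_22_1 lc_h_rc_47_1 lc_h_rc_5_1 lc_h_rc_14_1 lc_h_Cert_tree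 lc_h_rc_22_1 lc_h_rc_47_1 lc_h_rc_5_1 lc_h_rc_29_3 lc_h_rc_14_1 lc_h_Cert_tree lc_h_rc_40_0 lc_h_rc_22_1 lc_h_rc_51_1 lc_h_rc_5_1 lc_h_Cert_tree lc_h_rc_14_1 lc_h_Cert_tree lc_h_rc_40_0 lc_h_rc_22_1 lc_h_rc_51_1 lc_h_rc_5_1 lc_h_rc_5_1 lc_h_rc_22_1 lc_h_rc_14_1 lc_h_rc_14_1 lc_h_rc_35_1 lc_h_rc_29_3 lc_h_rc_22_1 lc_h_rc_5_1 lc_h_rc_14_1 lc_h_Cert_tree lc_h_rc_22_1 lc_h_rc_47_1 lc_h_rc_5_1 lc_h_rc_47_1 lc_h_rc_14_1 lc_h_Cert_tree lc_h_rc_40_0 lc_h_rc_22_1) (@D3.rec (fun _ => (Cert rels S Gen.h)) lc_h_rc_51_1 lc_h_rc_14_3 lc_h_rc_5_1 lc_h_rc_56_6 lc_h_rc_14_1 lc_h_Cert_tree lc_h_rc_40_0 lc_h_rc_22_1 lc_h_rc_5_1 lc_h_rc_14_1 lc_h_rc_5_1 lc_h_rc_51_1 lc_h_rc_14_1 lc_h_Cert_tree lc_h_rc_40_0 lc_h_rc_47_1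 lc_h_rc_14_3 lc_h_rc_5_1 lc_h_rc_5_3 lc_h_Cert_tree lc_h_rc_40_0 lc_h_rc_22_1 lc_h_rc_5_1 lc_h_rc_22_1 lc_h_rc_14_1 lc_h_Cert_tree lc_h_Cert_tree lc_h_rc_40_0 lc_h_rc_22_1 lc_h_rc_22_1 lc_h_rc_40_0 lc_h_rc_35_1 lc_h_rc_29_1 lc_h_Cert_tree lc_h_Cert_tree lc_h_rc_40_0 lc_h_rc_29_3 lc_h_Cert_tree lc_h_rc_40_0 lc_h_Cert_tree lc_h_Cert_tree lc_h_rc_40_0 lc_h_Cert_tree lc_h_rc_40_0 lc_h_rc_40_0 lc_h_rc_29_3 lc_h_rc_29_3 lc_h_rc_22_1 lc_h_rc_35_1 lc_h_Cert_tree lc_h_rc_40_0) (@D3.rec (fun _ => (Cert rels S Gen.h)) lc_h_rc_29_3 lc_h_rc_40_0 lc_h_rc_29_3 lc_h_rc_29_3 lc_h_rc_35_1 lc_h_rc_29_3 lc_h_rc_22_1 lc_h_rc_35_1 lc_h_rc_14_1 lc_h_rc_35_1 lc_h_rc_42_1 lc_h_rc_29_3 lc_h_rc_22_1 lc_h_rc_35_1 lc_h_rc_14_1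 lc_h_rc_22_1 lc_h_rc_42_1 lc_h_rc_5_1 lc_h_rc_14_1 lc_h_Cert_tree lc_h_rc_42_1 lc_h_rc_47_1 lc_h_rc_40_0 lc_h_Cert_tree lc_h_rc_14_1 lc_h_Cert_tree lc_h_rc_40_0 lc_h_rc_35_1 lc_h_Cert_tree lc_h_rc_40_0 lc_h_rc_14_1 lc_h_Cert_tree lc_h_rc_40_0 lc_h_rc_14_1 lc_h_rc_40_0 lc_h_rc_29_3 lc_h_rc_22_1 lc_h_rc_14_1 lc_h_rc_29_3 lc_h_rc_22_1 lc_h_rc_35_1 lc_h_rc_14_1 lc_h_rc_22_1 lc_h_rc_14_1 lc_h_rc_14_1 lc_h_rc_22_1 lc_h_rc_35_1 lc_h_rc_22_1 lc_h_rc_14_1 lc_h_rc_14_1 lc_h_rc_22_1) (@D3.rec (fun _ => (Cert rels S Gen.h)) lc_h_rc_42_1 lc_h_rc_14_1 lc_h_rc_22_1 lc_h_rc_14_1 lc_h_rc_5_1 lc_h_rc_14_1 lc_h_Cert_tree lc_h_rc_22_1 lc_h_rc_47_1 lc_h_rc_5_1 lc_h_rc_14_1 lc_h_Cert_tree lc_h_rc_22_1 lc_h_rc_14_1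 lc_h_rc_5_1 lc_h_Cert_tree lc_h_rc_14_1 lc_h_Cert_tree lc_h_rc_40_0 lc_h_rc_22_1 lc_h_rc_51_1 lc_h_rc_14_1 lc_h_rc_22_1 lc_h_rc_42_1 lc_h_rc_5_1 lc_h_rc_14_1 lc_h_Cert_tree lc_h_rc_22_1 lc_h_rc_47_1 lc_h_rc_5_1 lc_h_Cert_tree lc_h_rc_14_1 lc_h_Cert_tree lc_h_rc_40_0 lc_h_rc_22_1 lc_h_rc_51_1 lc_h_Cert_tree lc_h_rc_5_1 lc_h_Cert_tree lc_h_rc_40_0 lc_h_rc_14_1 lc_h_Cert_tree lc_h_Cert_tree lc_h_rc_40_0 lc_h_rc_41_2 lc_h_rc_22_1 lc_h_Cert_tree lc_h_rc_40_0 lc_h_Cert_tree lc_h_rc_40_0 lc_h_rc_41_2) (@D3.rec (fun _ => (Cert rels S Gen.h)) lc_h_rc_5_1 lc_h_Cert_tree lc_h_rc_40_0 lc_h_rc_22_1 lc_h_rc_35_1 lc_h_Cert_tree lc_h_rc_40_0 lc_h_rc_5_1 lc_h_rc_35_1 lc_h_rc_22_3 lc_h_Cert_tree lc_h_rc_40_0 lc_h_rc_29_3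 lc_h_rc_22_1 lc_h_rc_35_1 lc_h_rc_22_3 lc_h_rc_40_0 lc_h_rc_29_3 lc_h_rc_22_1 lc_h_rc_5_1 lc_h_rc_29_3 lc_h_rc_14_3 lc_h_rc_35_1 lc_h_rc_14_1 lc_h_rc_22_1 lc_h_rc_5_1 lc_h_rc_35_1 lc_h_rc_5_1 lc_h_rc_14_3 lc_h_rc_42_1 lc_h_rc_5_1 lc_h_rc_14_1 lc_h_Cert_tree lc_h_rc_22_1 lc_h_rc_5_1 lc_h_rc_22_1 lc_h_rc_5_1 lc_h_rc_14_1 lc_h_rc_22_1 lc_h_rc_42_1 lc_h_rc_14_1 lc_h_rc_22_1 lc_h_rc_5_1 lc_h_rc_5_1 lc_h_rc_14_1 lc_h_Cert_tree lc_h_rc_22_1 lc_h_rc_47_1 lc_h_rc_5_1 lc_h_rc_14_1 lc_h_Cert_tree) (@D3.rec (fun _ => (Cert rels S Gen.h)) lc_h_rc_22_1 lc_h_rc_5_1 lc_h_rc_5_1 lc_h_Cert_tree lc_h_rc_14_1 lc_h_Cert_tree lc_h_rc_40_0 lc_h_rc_22_1 lc_h_rc_51_1 lc_h_rc_5_1 lc_h_Cert_tree lc_h_rc_14_1 lc_h_Cert_tree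 lc_h_rc_40_0 lc_h_rc_22_1 lc_h_rc_5_1 lc_h_rc_5_1 lc_h_rc_5_1 lc_h_rc_22_1 lc_h_rc_14_1 lc_h_rc_14_1 lc_h_rc_35_1 lc_h_rc_29_3 lc_h_rc_22_1 lc_h_rc_5_1 lc_h_rc_14_1 lc_h_Cert_tree lc_h_rc_22_1 lc_h_rc_47_1 lc_h_rc_5_1 lc_h_Cert_tree lc_h_rc_14_1 lc_h_Cert_tree lc_h_rc_40_0 lc_h_rc_22_1 lc_h_rc_51_1 lc_h_rc_42_3 lc_h_rc_5_1 lc_h_Cert_tree lc_h_Cert_tree lc_h_rc_40_0 lc_h_rc_14_1 lc_h_Cert_tree lc_h_rc_40_0 lc_h_rc_41_2 lc_h_rc_22_1 lc_h_rc_5_1 lc_h_rc_14_1 lc_h_rc_5_1 lc_h_Cert_tree lc_h_rc_14_1) (@D3.rec (fun _ => (Cert rels S Gen.h)) lc_h_Cert_tree lc_h_rc_40_0 lc_h_rc_5_1 lc_h_rc_5_3 lc_h_rc_5_1 lc_h_Cert_tree lc_h_Cert_tree lc_h_rc_40_0 lc_h_Cert_tree lc_h_rc_40_0 lc_h_rc_41_2 lc_h_rc_14_1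 lc_h_rc_40_0 lc_h_rc_22_1 lc_h_rc_35_1 lc_h_Cert_tree lc_h_rc_40_0 lc_h_rc_47_1 lc_h_rc_14_1 lc_h_rc_35_1 lc_h_rc_22_3 lc_h_Cert_tree lc_h_rc_40_0 lc_h_rc_29_3 lc_h_rc_22_1 lc_h_rc_35_1 lc_h_rc_14_1 lc_h_Cert_tree lc_h_rc_22_3 lc_h_rc_40_0 lc_h_rc_29_3 lc_h_rc_5_3 lc_h_rc_35_1 lc_h_rc_14_1 lc_h_rc_35_1 lc_h_rc_35_1 lc_h_rc_29_3 lc_h_rc_51_1 lc_h_rc_35_1 lc_h_rc_14_1 lc_h_rc_22_1 lc_h_rc_42_1 lc_h_rc_35_1 lc_h_rc_47_1 lc_h_rc_42_1 lc_h_rc_14_1 lc_h_Cert_tree lc_h_rc_22_1 lc_h_rc_47_1 lc_h_rc_42_1 lc_h_rc_29_1) (@D3.rec (fun _ => (Cert rels S Gen.h)) lc_h_rc_35_1 lc_h_rc_47_1 lc_h_Cert_tree lc_h_rc_14_1 lc_h_Cert_tree lc_h_rc_40_0 lc_h_rc_22_1 lc_h_rc_51_1 lc_h_rc_14_1 lc_h_rc_22_1 lc_h_rc_42_1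 lc_h_rc_5_1 lc_h_rc_14_1 lc_h_Cert_tree lc_h_rc_22_1 lc_h_rc_47_1 lc_h_rc_5_1 lc_h_rc_14_1 lc_h_Cert_tree lc_h_rc_22_1 lc_h_rc_47_1 lc_h_rc_5_1 lc_h_rc_47_1 lc_h_rc_14_1 lc_h_Cert_tree lc_h_rc_40_0 lc_h_rc_22_1 lc_h_rc_51_1 lc_h_rc_5_1 lc_h_rc_5_3 lc_h_rc_14_1 lc_h_Cert_tree lc_h_rc_40_0 lc_h_rc_22_1 lc_h_rc_51_1 lc_h_rc_14_3 lc_h_rc_5_1 lc_h_rc_40_1 lc_h_rc_14_1 lc_h_Cert_tree lc_h_Cert_tree lc_h_rc_40_0 lc_h_rc_22_1 lc_h_Cert_tree lc_h_rc_5_1 lc_h_Cert_tree lc_h_Cert_tree lc_h_rc_40_0 lc_h_rc_14_1 lc_h_Cert_tree lc_h_Cert_tree) (@D3.rec (fun _ => (Cert rels S Gen.h)) lc_h_rc_40_0 lc_h_rc_22_1 lc_h_rc_5_1 lc_h_rc_5_1 lc_h_rc_5_1 lc_h_rc_22_1 lc_h_rc_14_1 lc_h_rc_14_1 lc_h_rc_14_1 lc_h_rc_35_1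 lc_h_rc_29_3 lc_h_rc_5_1 lc_h_rc_51_1 lc_h_rc_14_1 lc_h_Cert_tree lc_h_rc_40_0 lc_h_rc_22_1 lc_h_rc_51_1 lc_h_rc_14_3 lc_h_rc_5_1 lc_h_rc_5_3 lc_h_rc_14_1 lc_h_Cert_tree lc_h_Cert_tree lc_h_rc_40_0 lc_h_rc_22_1 lc_h_rc_14_3 lc_h_rc_5_1 lc_h_rc_47_1 lc_h_rc_14_1 lc_h_Cert_tree lc_h_rc_40_0 lc_h_rc_5_1 lc_h_rc_14_3 lc_h_rc_5_1 lc_h_rc_5_3 lc_h_rc_14_1 lc_h_Cert_tree lc_h_Cert_tree lc_h_rc_40_0 lc_h_rc_42_1 lc_h_rc_14_3 lc_h_rc_40_0 lc_h_rc_22_1 lc_h_rc_5_1 lc_h_rc_22_1 lc_h_rc_22_1 lc_h_Cert_tree lc_h_rc_40_0 lc_h_rc_40_0 lc_h_rc_22_1)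
def ce_h_1 : D2 → D3 → (Cert rels S Gen.h) := @D2.rec (fun _ => D3 → (Cert rels S Gen.h)) (@D3.rec (fun _ => (Cert rels S Gen.h)) lc_h_rc_29_3 lc_h_rc_35_1 lc_h_Cert_tree lc_h_rc_47_1 lc_h_Cert_tree lc_h_rc_40_0 lc_h_rc_40_0 lc_h_rc_29_3 lc_h_rc_22_1 lc_h_rc_35_1 lc_h_rc_40_0 lc_h_Cert_tree lc_h_Cert_tree lc_h_rc_40_0 lc_h_rc_40_0 lc_h_rc_29_3 lc_h_rc_40_0 lc_h_rc_29_3 lc_h_rc_29_3 lc_h_rc_22_1 lc_h_rc_35_1 lc_h_rc_22_1 lc_h_rc_35_1 lc_h_rc_14_1 lc_h_rc_22_1 lc_h_rc_42_1 lc_h_rc_40_0 lc_h_rc_29_3 lc_h_rc_29_3 lc_h_rc_35_1 lc_h_rc_29_3 lc_h_rc_22_1 lc_h_rc_35_1 lc_h_rc_14_1 lc_h_rc_35_1 lc_h_rc_42_1 lc_h_rc_22_1 lc_h_rc_35_1 lc_h_rc_14_1 lc_h_rc_22_1 lc_h_rc_42_1 lc_h_rc_5_1 lc_h_rc_14_1 lc_h_Cert_tree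 lc_h_rc_42_1 lc_h_rc_47_1 lc_h_rc_22_1 lc_h_rc_29_3 lc_h_rc_14_1 lc_h_rc_22_1 lc_h_rc_42_1) (@D3.rec (fun _ => (Cert rels S Gen.h)) lc_h_rc_5_1 lc_h_rc_14_1 lc_h_Cert_tree lc_h_rc_22_1 lc_h_rc_47_1 lc_h_rc_5_1 lc_h_Cert_tree lc_h_rc_14_1 lc_h_Cert_tree lc_h_rc_40_0 lc_h_rc_47_1 lc_h_rc_51_1 lc_h_rc_14_1 lc_h_Cert_tree lc_h_rc_40_0 lc_h_rc_35_1 lc_h_Cert_tree lc_h_rc_40_0 lc_h_rc_14_1 lc_h_Cert_tree lc_h_rc_40_0 lc_h_rc_29_3 lc_h_rc_22_1 lc_h_rc_35_1 lc_h_rc_40_0 lc_h_rc_29_3 lc_h_rc_22_1 lc_h_rc_14_1 lc_h_rc_29_3 lc_h_rc_22_1 lc_h_rc_35_1 lc_h_rc_14_1 lc_h_rc_22_1 lc_h_rc_14_1 lc_h_rc_22_1 lc_h_rc_35_1 lc_h_rc_14_1 lc_h_rc_22_1 lc_h_rc_42_1 lc_h_rc_5_1 lc_h_rc_14_1 lc_h_Cert_tree lc_h_rc_22_1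 lc_h_rc_14_1 lc_h_rc_22_1 lc_h_rc_14_1 lc_h_rc_14_1 lc_h_rc_22_1 lc_h_rc_42_1 lc_h_rc_14_1 lc_h_rc_22_1) (@D3.rec (fun _ => (Cert rels S Gen.h)) lc_h_rc_14_1 lc_h_rc_5_1 lc_h_rc_14_1 lc_h_Cert_tree lc_h_rc_22_1 lc_h_rc_47_1 lc_h_rc_5_1 lc_h_rc_14_1 lc_h_Cert_tree lc_h_rc_22_1 lc_h_rc_14_1 lc_h_rc_5_1 lc_h_Cert_tree lc_h_rc_14_1 lc_h_Cert_tree lc_h_rc_40_0 lc_h_rc_22_1 lc_h_rc_51_1 lc_h_rc_5_1 lc_h_Cert_tree lc_h_rc_14_1 lc_h_Cert_tree lc_h_rc_40_0 lc_h_rc_22_1 lc_h_rc_14_1 lc_h_Cert_tree lc_h_rc_5_1 lc_h_Cert_tree lc_h_Cert_tree lc_h_rc_40_0 lc_h_rc_14_1 lc_h_Cert_tree lc_h_Cert_tree lc_h_rc_40_0 lc_h_rc_41_2 lc_h_rc_22_1 lc_h_rc_5_1 lc_h_rc_14_1 lc_h_Cert_tree lc_h_rc_22_1 lc_h_rc_47_1 lc_h_rc_5_1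 lc_h_Cert_tree lc_h_rc_14_1 lc_h_Cert_tree lc_h_rc_40_0 lc_h_rc_22_1 lc_h_rc_51_1 lc_h_Cert_tree lc_h_rc_5_1 lc_h_Cert_tree) (@D3.rec (fun _ => (Cert rels S Gen.h)) lc_h_Cert_tree lc_h_rc_40_0 lc_h_rc_14_1 lc_h_Cert_tree lc_h_Cert_tree lc_h_rc_40_0 lc_h_rc_41_2 lc_h_rc_22_1 lc_h_Cert_tree lc_h_rc_40_0 lc_h_rc_5_1 lc_h_Cert_tree lc_h_Cert_tree lc_h_rc_40_0 lc_h_rc_14_1 lc_h_rc_14_1 lc_h_Cert_tree lc_h_rc_40_0 lc_h_Cert_tree lc_h_rc_40_0 lc_h_rc_41_2 lc_h_Cert_tree lc_h_Cert_tree lc_h_rc_40_0 lc_h_rc_29_3 lc_h_rc_41_2 lc_h_rc_40_0 lc_h_rc_41_2 lc_h_rc_22_1 lc_h_rc_35_1 lc_h_Cert_tree lc_h_rc_40_0 lc_h_rc_5_1 lc_h_rc_35_1 lc_h_rc_22_3 lc_h_Cert_tree lc_h_rc_40_0 lc_h_rc_29_3 lc_h_rc_22_1 lc_h_rc_35_1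 lc_h_Cert_tree lc_h_rc_22_3 lc_h_rc_40_0 lc_h_rc_29_3 lc_h_rc_42_1 lc_h_rc_35_1 lc_h_rc_14_1 lc_h_rc_35_1 lc_h_rc_35_1 lc_h_rc_29_3 lc_h_rc_14_3) (@D3.rec (fun _ => (Cert rels S Gen.h)) lc_h_rc_35_1 lc_h_rc_14_1 lc_h_rc_22_1 lc_h_rc_5_1 lc_h_rc_35_1 lc_h_rc_5_1 lc_h_rc_14_3 lc_h_rc_42_1 lc_h_rc_5_1 lc_h_rc_14_1 lc_h_Cert_tree lc_h_rc_22_1 lc_h_rc_5_1 lc_h_rc_42_1 lc_h_rc_42_3 lc_h_rc_14_3 lc_h_rc_5_1 lc_h_rc_47_1 lc_h_rc_5_1 lc_h_Cert_tree lc_h_rc_14_1 lc_h_Cert_tree lc_h_rc_40_0 lc_h_rc_22_1 lc_h_rc_5_1 lc_h_rc_14_1 lc_h_rc_22_1 lc_h_rc_5_1 lc_h_rc_5_1 lc_h_rc_14_1 lc_h_Cert_tree lc_h_rc_22_1 lc_h_rc_47_1 lc_h_rc_5_1 lc_h_rc_14_1 lc_h_Cert_tree lc_h_rc_22_1 lc_h_rc_5_1 lc_h_rc_5_1 lc_h_Cert_tree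 lc_h_rc_14_1 lc_h_Cert_tree lc_h_rc_40_0 lc_h_rc_22_1 lc_h_rc_51_1 lc_h_rc_5_1 lc_h_Cert_tree lc_h_rc_14_1 lc_h_Cert_tree lc_h_rc_40_0 lc_h_rc_22_1) (@D3.rec (fun _ => (Cert rels S Gen.h)) lc_h_rc_5_1 lc_h_rc_42_3 lc_h_rc_5_1 lc_h_Cert_tree lc_h_Cert_tree lc_h_rc_40_0 lc_h_rc_14_1 lc_h_Cert_tree lc_h_Cert_tree lc_h_rc_40_0 lc_h_rc_41_2 lc_h_rc_22_1 lc_h_Cert_tree lc_h_rc_5_1 lc_h_Cert_tree lc_h_Cert_tree lc_h_rc_40_0 lc_h_rc_14_1 lc_h_Cert_tree lc_h_Cert_tree lc_h_rc_40_0 lc_h_rc_22_1 lc_h_rc_5_1 lc_h_rc_5_1 lc_h_rc_5_1 lc_h_rc_22_1 lc_h_rc_14_1 lc_h_rc_14_1 lc_h_rc_14_1 lc_h_rc_35_1 lc_h_rc_29_3 lc_h_rc_5_1 lc_h_Cert_tree lc_h_rc_14_1 lc_h_Cert_tree lc_h_rc_40_0 lc_h_rc_22_1 lc_h_rc_51_1 lc_h_rc_47_1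 lc_h_rc_5_1 lc_h_Cert_tree lc_h_Cert_tree lc_h_rc_40_0 lc_h_rc_14_1 lc_h_Cert_tree lc_h_Cert_tree lc_h_rc_40_0 lc_h_rc_41_2 lc_h_rc_22_1 lc_h_rc_14_1 lc_h_rc_29_3) (@D3.rec (fun _ => (Cert rels S Gen.h)) lc_h_rc_5_1 lc_h_Cert_tree lc_h_rc_40_0 lc_h_Cert_tree lc_h_rc_40_0 lc_h_rc_14_1 lc_h_Cert_tree lc_h_rc_40_0 lc_h_rc_41_2 lc_h_rc_5_1 lc_h_rc_5_3 lc_h_rc_5_1 lc_h_Cert_tree lc_h_Cert_tree lc_h_rc_40_0 lc_h_rc_14_1 lc_h_Cert_tree lc_h_Cert_tree lc_h_rc_40_0 lc_h_rc_41_2 lc_h_rc_22_1 lc_h_rc_42_1 lc_h_Cert_tree lc_h_rc_40_0 lc_h_Cert_tree lc_h_rc_40_0 lc_h_rc_40_0 lc_h_rc_41_2 lc_h_rc_29_3 lc_h_rc_14_1 lc_h_rc_35_1 lc_h_rc_22_3 lc_h_rc_42_1 lc_h_Cert_tree lc_h_rc_40_0 lc_h_rc_29_3 lc_h_rc_22_1 lc_h_rc_35_1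 lc_h_rc_14_1 lc_h_Cert_tree lc_h_rc_22_3 lc_h_rc_40_0 lc_h_rc_29_3 lc_h_rc_5_3 lc_h_rc_35_1 lc_h_rc_14_1 lc_h_rc_35_1 lc_h_rc_35_1 lc_h_Cert_tree lc_h_rc_40_0 lc_h_rc_29_3) (@D3.rec (fun _ => (Cert rels S Gen.h)) lc_h_rc_29_3 lc_h_rc_35_1 lc_h_rc_14_1 lc_h_rc_42_1 lc_h_rc_14_1 lc_h_Cert_tree lc_h_rc_35_1 lc_h_rc_35_1 lc_h_rc_35_1 lc_h_rc_51_1 lc_h_rc_42_1 lc_h_rc_14_1 lc_h_Cert_tree lc_h_rc_22_1 lc_h_rc_47_1 lc_h_rc_42_1 lc_h_rc_47_1 lc_h_rc_5_3 lc_h_rc_47_1 lc_h_Cert_tree lc_h_rc_14_1 lc_h_Cert_tree lc_h_rc_40_0 lc_h_rc_22_1 lc_h_rc_51_1 lc_h_rc_47_1 lc_h_rc_29_1 lc_h_rc_47_1 lc_h_rc_51_1 lc_h_rc_5_3 lc_h_Cert_tree lc_h_rc_40_0 lc_h_rc_14_1 lc_h_Cert_tree lc_h_Cert_tree lc_h_rc_40_0 lc_h_rc_22_1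 lc_h_rc_5_1 lc_h_rc_14_1 lc_h_Cert_tree lc_h_rc_22_1 lc_h_rc_47_1 lc_h_rc_5_1 lc_h_rc_51_1 lc_h_rc_14_1 lc_h_Cert_tree lc_h_rc_40_0 lc_h_rc_22_1 lc_h_rc_51_1 lc_h_rc_5_1 lc_h_rc_5_3) (@D3.rec (fun _ => (Cert rels S Gen.h)) lc_h_rc_14_1 lc_h_Cert_tree lc_h_rc_40_0 lc_h_rc_22_1 lc_h_rc_51_1 lc_h_rc_14_3 lc_h_rc_5_1 lc_h_rc_5_3 lc_h_rc_14_1 lc_h_Cert_tree lc_h_Cert_tree lc_h_rc_40_0 lc_h_rc_22_1 lc_h_rc_14_3 lc_h_rc_5_1 lc_h_rc_5_3 lc_h_rc_14_1 lc_h_Cert_tree lc_h_Cert_tree lc_h_rc_40_0 lc_h_rc_22_1 lc_h_rc_14_3 lc_h_rc_5_1 lc_h_rc_35_1 lc_h_rc_47_1 lc_h_rc_14_1 lc_h_Cert_tree lc_h_rc_40_0 lc_h_Cert_tree lc_h_rc_40_0 lc_h_Cert_tree lc_h_Cert_tree lc_h_rc_40_0 lc_h_rc_5_1 lc_h_Cert_tree lc_h_rc_40_0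 lc_h_Cert_tree lc_h_Cert_tree lc_h_rc_40_0 lc_h_rc_14_1 lc_h_Cert_tree lc_h_rc_40_0 lc_h_Cert_tree lc_h_rc_40_0 lc_h_rc_14_1 lc_h_rc_5_1 lc_h_rc_5_1 lc_h_rc_5_1 lc_h_rc_5_1 lc_h_rc_22_1 lc_h_rc_22_1) (@D3.rec (fun _ => (Cert rels S Gen.h)) lc_h_rc_14_1 lc_h_rc_14_1 lc_h_rc_42_1 lc_h_rc_35_1 lc_h_rc_14_3 lc_h_rc_5_1 lc_h_rc_5_3 lc_h_rc_14_1 lc_h_Cert_tree lc_h_Cert_tree lc_h_rc_40_0 lc_h_rc_22_1 lc_h_rc_42_1 lc_h_rc_5_1 lc_h_rc_14_3 lc_h_rc_5_3 lc_h_rc_14_1 lc_h_Cert_tree lc_h_rc_40_0 lc_h_Cert_tree lc_h_rc_40_0 lc_h_rc_14_3 lc_h_rc_5_1 lc_h_rc_51_1 lc_h_rc_40_0 lc_h_rc_42_1 lc_h_rc_5_1 lc_h_rc_14_3 lc_h_rc_5_3 lc_h_Cert_tree lc_h_rc_40_0 lc_h_rc_40_0 lc_h_rc_14_3 lc_h_rc_29_3 lc_h_rc_22_1 lc_h_rc_22_1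 lc_h_rc_22_1 lc_h_Cert_tree lc_h_rc_40_0 lc_h_rc_29_3 lc_h_rc_22_1 lc_h_rc_47_1 lc_h_Cert_tree lc_h_rc_40_0 lc_h_Cert_tree lc_h_rc_40_0 lc_h_rc_29_3 lc_h_rc_29_3 lc_h_rc_22_1 lc_h_rc_35_1 lc_h_rc_14_1) (@D3.rec (fun _ => (Cert rels S Gen.h)) lc_h_rc_22_1 lc_h_rc_42_1 lc_h_Cert_tree lc_h_rc_40_0 lc_h_rc_40_0 lc_h_rc_29_3 lc_h_rc_42_1 lc_h_rc_22_1 lc_h_rc_35_1 lc_h_rc_29_3 lc_h_rc_22_1 lc_h_rc_35_1 lc_h_rc_22_1 lc_h_rc_35_1 lc_h_rc_14_1 lc_h_rc_22_1 lc_h_rc_42_1 lc_h_rc_14_1 lc_h_rc_22_1 lc_h_rc_42_1 lc_h_rc_5_1 lc_h_rc_14_1 lc_h_Cert_tree lc_h_rc_22_1 lc_h_rc_47_1 lc_h_rc_29_3 lc_h_rc_22_1 lc_h_rc_35_1 lc_h_rc_14_1 lc_h_rc_35_1 lc_h_rc_42_1 lc_h_rc_22_1 lc_h_rc_35_1 lc_h_rc_14_1 lc_h_rc_22_1 lc_h_rc_42_1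 lc_h_rc_5_1 lc_h_rc_14_1 lc_h_Cert_tree lc_h_rc_42_1 lc_h_rc_47_1 lc_h_rc_14_1 lc_h_rc_22_1 lc_h_rc_42_1 lc_h_rc_5_1 lc_h_rc_14_1 lc_h_Cert_tree lc_h_rc_22_1 lc_h_rc_47_1 lc_h_rc_5_1 lc_h_Cert_tree) (@D3.rec (fun _ => (Cert rels S Gen.h)) lc_h_rc_14_1 lc_h_Cert_tree lc_h_rc_40_0 lc_h_rc_47_1 lc_h_rc_51_1 lc_h_rc_14_1 lc_h_rc_22_1 lc_h_rc_42_1 lc_h_rc_5_1 lc_h_rc_14_1 lc_h_Cert_tree lc_h_rc_22_1 lc_h_rc_47_1 lc_h_rc_5_1 lc_h_Cert_tree lc_h_rc_14_1 lc_h_Cert_tree lc_h_rc_40_0 lc_h_rc_22_1 lc_h_rc_51_1 lc_h_Cert_tree lc_h_rc_5_1 lc_h_Cert_tree lc_h_Cert_tree lc_h_rc_40_0 lc_h_rc_14_1 lc_h_Cert_tree lc_h_Cert_tree lc_h_rc_40_0 lc_h_rc_41_2 lc_h_rc_51_1 lc_h_rc_35_1 lc_h_Cert_tree lc_h_rc_40_0 lc_h_rc_14_1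 lc_h_Cert_tree lc_h_rc_40_0 lc_h_rc_29_3 lc_h_rc_22_1 lc_h_rc_35_1 lc_h_rc_40_0 lc_h_rc_29_3 lc_h_rc_22_1 lc_h_rc_35_1 lc_h_rc_14_1 lc_h_rc_35_1 lc_h_rc_35_1 lc_h_rc_29_3 lc_h_rc_22_1 lc_h_rc_35_1 lc_h_rc_14_1) (@D3.rec (fun _ => (Cert rels S Gen.h)) lc_h_rc_22_1 lc_h_rc_14_1 lc_h_rc_22_1 lc_h_rc_35_1 lc_h_rc_22_1 lc_h_rc_22_1 lc_h_rc_42_1 lc_h_rc_5_1 lc_h_rc_14_1 lc_h_Cert_tree lc_h_rc_22_1 lc_h_rc_14_1 lc_h_rc_22_1 lc_h_rc_42_1 lc_h_rc_14_1 lc_h_Cert_tree lc_h_rc_22_1 lc_h_rc_47_1 lc_h_rc_5_1 lc_h_Cert_tree lc_h_rc_14_1 lc_h_Cert_tree lc_h_rc_40_0 lc_h_rc_22_1 lc_h_rc_14_1 lc_h_rc_14_1 lc_h_rc_22_1 lc_h_rc_14_1 lc_h_rc_5_1 lc_h_rc_14_1 lc_h_Cert_tree lc_h_rc_22_1 lc_h_rc_47_1 lc_h_rc_5_1 lc_h_rc_14_1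 lc_h_Cert_tree lc_h_rc_22_1 lc_h_rc_14_1 lc_h_rc_5_1 lc_h_Cert_tree lc_h_rc_14_1 lc_h_Cert_tree lc_h_rc_40_0 lc_h_rc_22_1 lc_h_rc_51_1 lc_h_rc_5_1 lc_h_Cert_tree lc_h_rc_14_1 lc_h_Cert_tree lc_h_rc_40_0 lc_h_rc_22_1) (@D3.rec (fun _ => (Cert rels S Gen.h)) lc_h_rc_14_1 lc_h_Cert_tree lc_h_rc_5_1 lc_h_Cert_tree lc_h_Cert_tree lc_h_rc_40_0 lc_h_rc_14_1 lc_h_Cert_tree lc_h_Cert_tree lc_h_rc_40_0 lc_h_rc_41_2 lc_h_rc_22_1 lc_h_rc_42_3 lc_h_rc_5_1 lc_h_rc_42_3 lc_h_Cert_tree lc_h_rc_40_0 lc_h_rc_14_1 lc_h_Cert_tree lc_h_Cert_tree lc_h_rc_40_0 lc_h_rc_41_2 lc_h_rc_22_1 lc_h_rc_56_41 lc_h_Cert_tree lc_h_rc_40_0 lc_h_rc_5_1 lc_h_Cert_tree lc_h_rc_40_0 lc_h_Cert_tree lc_h_Cert_tree lc_h_rc_40_0 lc_h_rc_14_1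 lc_h_rc_14_1 lc_h_Cert_tree lc_h_rc_40_0 lc_h_Cert_tree lc_h_rc_40_0 lc_h_rc_41_2 lc_h_rc_5_1 lc_h_Cert_tree lc_h_rc_14_1 lc_h_Cert_tree lc_h_rc_40_0 lc_h_rc_22_1 lc_h_rc_51_1 lc_h_Cert_tree lc_h_rc_5_1 lc_h_Cert_tree lc_h_Cert_tree lc_h_rc_40_0) (@D3.rec (fun _ => (Cert rels S Gen.h)) lc_h_rc_14_1 lc_h_Cert_tree lc_h_Cert_tree lc_h_rc_40_0 lc_h_rc_41_2 lc_h_rc_22_1 lc_h_Cert_tree lc_h_Cert_tree lc_h_rc_40_0 lc_h_rc_5_1 lc_h_Cert_tree lc_h_rc_40_0 lc_h_Cert_tree lc_h_Cert_tree lc_h_rc_40_0 lc_h_rc_14_1 lc_h_rc_14_1 lc_h_Cert_tree lc_h_rc_40_0 lc_h_Cert_tree lc_h_rc_40_0 lc_h_rc_41_2 lc_h_Cert_tree lc_h_Cert_tree lc_h_rc_40_0 lc_h_rc_5_1 lc_h_rc_5_1 lc_h_Cert_tree lc_h_rc_40_0 lc_h_Cert_tree lc_h_rc_40_0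 lc_h_rc_14_1 lc_h_Cert_tree lc_h_Cert_tree lc_h_rc_40_0 lc_h_rc_29_3 lc_h_rc_41_2 lc_h_rc_40_0 lc_h_rc_41_2 lc_h_Cert_tree lc_h_rc_40_0 lc_h_rc_40_0 lc_h_rc_29_3 lc_h_rc_41_2 lc_h_rc_22_1 lc_h_rc_55_88 lc_h_rc_41_2 lc_h_rc_35_1 lc_h_rc_22_3 lc_h_rc_42_1 lc_h_Cert_tree) (@D3.rec (fun _ => (Cert rels S Gen.h)) lc_h_rc_40_0 lc_h_rc_29_3 lc_h_rc_22_1 lc_h_rc_35_1 lc_h_Cert_tree lc_h_rc_22_3 lc_h_rc_40_0 lc_h_rc_29_3 lc_h_rc_42_1 lc_h_rc_35_1 lc_h_rc_14_1 lc_h_rc_35_1 lc_h_rc_35_1 lc_h_rc_40_0 lc_h_rc_29_3 lc_h_rc_29_3 lc_h_rc_35_1 lc_h_rc_42_1 lc_h_rc_14_3 lc_h_rc_42_1 lc_h_rc_5_1 lc_h_rc_14_1 lc_h_Cert_tree lc_h_rc_35_1 lc_h_rc_35_1 lc_h_rc_35_1 lc_h_rc_5_1 lc_h_rc_14_3 lc_h_rc_42_1 lc_h_rc_5_1 lc_h_rc_14_1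 lc_h_Cert_tree lc_h_rc_22_1 lc_h_rc_5_1 lc_h_rc_42_1 lc_h_rc_47_1 lc_h_rc_14_3 lc_h_rc_42_1 lc_h_rc_47_1 lc_h_rc_5_1 lc_h_Cert_tree lc_h_rc_14_1 lc_h_Cert_tree lc_h_rc_40_0 lc_h_rc_22_1 lc_h_rc_5_1 lc_h_rc_47_1 lc_h_rc_42_3 lc_h_rc_35_1 lc_h_rc_14_3 lc_h_rc_14_3) (@D3.rec (fun _ => (Cert rels S Gen.h)) lc_h_rc_51_1 lc_h_Cert_tree lc_h_rc_5_1 lc_h_Cert_tree lc_h_Cert_tree lc_h_rc_40_0 lc_h_rc_14_1 lc_h_Cert_tree lc_h_Cert_tree lc_h_rc_40_0 lc_h_rc_14_3 lc_h_rc_22_1 lc_h_rc_5_1 lc_h_rc_14_1 lc_h_Cert_tree lc_h_rc_22_1 lc_h_rc_5_1 lc_h_rc_5_1 lc_h_Cert_tree lc_h_rc_14_1 lc_h_Cert_tree lc_h_rc_40_0 lc_h_rc_22_1 lc_h_rc_51_1 lc_h_rc_5_1 lc_h_Cert_tree lc_h_rc_14_1 lc_h_Cert_tree lc_h_rc_40_0 lc_h_rc_22_1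 lc_h_rc_5_1 lc_h_rc_47_1 lc_h_rc_5_1 lc_h_Cert_tree lc_h_Cert_tree lc_h_rc_40_0 lc_h_rc_14_1 lc_h_Cert_tree lc_h_Cert_tree lc_h_rc_40_0 lc_h_rc_41_2 lc_h_rc_22_1 lc_h_rc_42_3 lc_h_rc_5_1 lc_h_Cert_tree lc_h_Cert_tree lc_h_rc_40_0 lc_h_rc_14_1 lc_h_Cert_tree lc_h_Cert_tree lc_h_rc_40_0) (@D3.rec (fun _ => (Cert rels S Gen.h)) lc_h_rc_41_2 lc_h_rc_22_1 lc_h_rc_42_3 lc_h_rc_40_1 lc_h_rc_5_1 lc_h_Cert_tree lc_h_rc_40_0 lc_h_Cert_tree lc_h_Cert_tree lc_h_rc_40_0 lc_h_rc_14_1 lc_h_Cert_tree lc_h_rc_40_0 lc_h_Cert_tree lc_h_rc_40_0 lc_h_rc_41_2 lc_h_rc_42_3 lc_h_Cert_tree lc_h_rc_40_0 lc_h_rc_5_1 lc_h_Cert_tree lc_h_rc_40_0 lc_h_Cert_tree lc_h_Cert_tree lc_h_rc_40_0 lc_h_rc_14_1 lc_h_Cert_tree lc_h_rc_40_0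 lc_h_Cert_tree lc_h_rc_40_0 lc_h_rc_14_1 lc_h_rc_5_1 lc_h_rc_5_1 lc_h_rc_5_1 lc_h_rc_5_1 lc_h_rc_22_1 lc_h_rc_22_1 lc_h_rc_14_1 lc_h_rc_14_1 lc_h_rc_42_1 lc_h_rc_35_1 lc_h_rc_51_1 lc_h_rc_5_1 lc_h_Cert_tree lc_h_Cert_tree lc_h_rc_40_0 lc_h_rc_14_1 lc_h_Cert_tree lc_h_Cert_tree lc_h_rc_40_0 lc_h_rc_41_2) (@D3.rec (fun _ => (Cert rels S Gen.h)) lc_h_rc_22_1 lc_h_rc_22_1 lc_h_rc_42_1 lc_h_rc_5_1 lc_h_Cert_tree lc_h_rc_40_0 lc_h_Cert_tree lc_h_Cert_tree lc_h_rc_40_0 lc_h_rc_14_1 lc_h_Cert_tree lc_h_rc_40_0 lc_h_Cert_tree lc_h_rc_40_0 lc_h_rc_41_2 lc_h_rc_55_61 lc_h_rc_47_1 lc_h_rc_5_1 lc_h_Cert_tree lc_h_rc_40_0 lc_h_rc_29_3 lc_h_Cert_tree lc_h_rc_40_0 lc_h_rc_40_0 lc_h_rc_41_2 lc_h_rc_22_1 lc_h_rc_42_1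 lc_h_rc_5_1 lc_h_Cert_tree lc_h_rc_40_0 lc_h_Cert_tree lc_h_Cert_tree lc_h_rc_40_0 lc_h_Cert_tree lc_h_rc_40_0 lc_h_rc_40_0 lc_h_rc_41_2 lc_h_rc_42_1 lc_h_rc_5_3 lc_h_Cert_tree lc_h_rc_40_0 lc_h_rc_29_3 lc_h_rc_40_0 lc_h_rc_29_3 lc_h_rc_41_2 lc_h_rc_29_5 lc_h_rc_14_1 lc_h_Cert_tree lc_h_rc_42_1 lc_h_rc_22_3 lc_h_Cert_tree) (@D3.rec (fun _ => (Cert rels S Gen.h)) lc_h_rc_40_0 lc_h_rc_29_3 lc_h_rc_5_3 lc_h_rc_35_1 lc_h_rc_14_1 lc_h_rc_35_1 lc_h_rc_42_1 lc_h_Cert_tree lc_h_rc_40_0 lc_h_rc_29_3 lc_h_rc_29_3 lc_h_rc_35_1 lc_h_rc_14_1 lc_h_rc_42_1 lc_h_rc_14_1 lc_h_Cert_tree lc_h_rc_35_1 lc_h_rc_35_1 lc_h_Cert_tree lc_h_rc_40_0 lc_h_rc_29_3 lc_h_rc_42_1 lc_h_rc_29_3 lc_h_rc_14_1 lc_h_rc_47_1 lc_h_Cert_tree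 lc_h_rc_14_1 lc_h_Cert_tree lc_h_rc_40_0 lc_h_rc_35_1 lc_h_rc_35_1 lc_h_rc_42_1 lc_h_rc_51_1 lc_h_rc_5_3 lc_h_rc_47_1 lc_h_Cert_tree lc_h_rc_14_1 lc_h_Cert_tree lc_h_rc_40_0 lc_h_rc_22_1 lc_h_rc_51_1 lc_h_rc_47_1 lc_h_rc_5_3 lc_h_rc_5_3 lc_h_rc_51_1 lc_h_rc_5_3 lc_h_Cert_tree lc_h_rc_40_0 lc_h_rc_14_1 lc_h_Cert_tree lc_h_Cert_tree) (@D3.rec (fun _ => (Cert rels S Gen.h)) lc_h_rc_40_0 lc_h_rc_22_1 lc_h_rc_51_1 lc_h_rc_40_0 lc_h_rc_47_1 lc_h_rc_51_1 lc_h_rc_5_3 lc_h_Cert_tree lc_h_Cert_tree lc_h_rc_40_0 lc_h_rc_14_1 lc_h_Cert_tree lc_h_rc_40_0 lc_h_Cert_tree lc_h_rc_40_0 lc_h_rc_5_1 lc_h_rc_5_3 lc_h_rc_14_1 lc_h_Cert_tree lc_h_rc_40_0 lc_h_rc_22_1 lc_h_rc_51_1 lc_h_rc_14_3 lc_h_rc_5_1 lc_h_rc_5_3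 lc_h_rc_14_1 lc_h_rc_14_3 lc_h_rc_14_3 lc_h_rc_40_0 lc_h_rc_22_1 lc_h_rc_14_3 lc_h_rc_5_1 lc_h_rc_5_3 lc_h_rc_14_1 lc_h_Cert_tree lc_h_Cert_tree lc_h_rc_40_0 lc_h_rc_22_1 lc_h_rc_42_1 lc_h_rc_5_1 lc_h_rc_14_3 lc_h_rc_5_3 lc_h_rc_14_1 lc_h_rc_51_1 lc_h_rc_40_0 lc_h_rc_51_3 lc_h_rc_40_0 lc_h_rc_14_3 lc_h_rc_5_1 lc_h_rc_56_34 lc_h_rc_5_3) (@D3.rec (fun _ => (Cert rels S Gen.h)) lc_h_rc_14_1 lc_h_Cert_tree lc_h_rc_40_0 lc_h_Cert_tree lc_h_rc_40_0 lc_h_rc_14_3 lc_h_rc_14_3 lc_h_rc_5_1 lc_h_rc_47_1 lc_h_rc_51_1 lc_h_rc_42_3 lc_h_rc_42_1 lc_h_rc_40_0 lc_h_rc_40_0 lc_h_rc_42_3 lc_h_Cert_tree lc_h_rc_40_0 lc_h_Cert_tree lc_h_Cert_tree lc_h_rc_40_0 lc_h_rc_5_1 lc_h_Cert_tree lc_h_Cert_tree lc_h_rc_40_0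 lc_h_rc_29_3 lc_h_Cert_tree lc_h_rc_40_0 lc_h_Cert_tree lc_h_rc_40_0 lc_h_Cert_tree lc_h_Cert_tree lc_h_rc_40_0 lc_h_rc_29_3 lc_h_rc_40_0 lc_h_rc_14_1 lc_h_rc_5_1 lc_h_rc_5_1 lc_h_rc_5_1 lc_h_rc_5_1 lc_h_rc_56_27 lc_h_rc_22_1 lc_h_rc_22_1 lc_h_rc_14_1 lc_h_rc_14_1 lc_h_rc_42_1 lc_h_rc_42_1 lc_h_rc_5_1 lc_h_rc_14_3 lc_h_rc_5_3 lc_h_rc_14_1 lc_h_rc_47_3) (@D3.rec (fun _ => (Cert rels S Gen.h)) lc_h_rc_40_0 lc_h_rc_47_3 lc_h_rc_40_0 lc_h_rc_14_3 lc_h_rc_42_1 lc_h_rc_5_1 lc_h_rc_14_3 lc_h_rc_5_3 lc_h_rc_51_3 lc_h_rc_40_0 lc_h_rc_29_3 lc_h_rc_40_0 lc_h_rc_14_3 lc_h_rc_14_3 lc_h_rc_47_1 lc_h_rc_14_3 lc_h_rc_14_3 lc_h_rc_40_0 lc_h_rc_29_3 lc_h_rc_22_1 lc_h_rc_22_1 lc_h_rc_42_1 lc_h_rc_40_0 lc_h_rc_29_3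 lc_h_rc_22_1 lc_h_rc_42_1 lc_h_Cert_tree lc_h_rc_40_0 lc_h_rc_29_3 lc_h_rc_40_0 lc_h_rc_29_3 lc_h_rc_22_1 lc_h_rc_35_1 lc_h_rc_22_1 lc_h_rc_35_1 lc_h_rc_14_1 lc_h_rc_22_1 lc_h_rc_42_1 lc_h_rc_5_1 lc_h_rc_14_1 lc_h_Cert_tree lc_h_rc_22_1 lc_h_rc_47_1 lc_h_rc_40_0 lc_h_rc_29_3 lc_h_rc_42_1 lc_h_rc_22_1 lc_h_rc_35_1 lc_h_rc_22_1 lc_h_rc_35_1 lc_h_rc_14_1) (@D3.rec (fun _ => (Cert rels S Gen.h)) lc_h_rc_22_1 lc_h_rc_42_1 lc_h_rc_22_1 lc_h_rc_35_1 lc_h_rc_14_1 lc_h_rc_22_1 lc_h_rc_42_1 lc_h_rc_14_1 lc_h_rc_22_1 lc_h_rc_42_1 lc_h_rc_5_1 lc_h_rc_14_1 lc_h_Cert_tree lc_h_rc_22_1 lc_h_rc_47_1 lc_h_rc_14_1 lc_h_Cert_tree lc_h_rc_22_1 lc_h_rc_47_1 lc_h_rc_5_1 lc_h_Cert_tree lc_h_rc_14_1 lc_h_Cert_tree lc_h_rc_40_0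 lc_h_rc_22_1 lc_h_rc_51_1 lc_h_rc_22_1 lc_h_rc_35_1 lc_h_rc_14_1 lc_h_rc_22_1 lc_h_rc_42_1 lc_h_rc_5_1 lc_h_rc_14_1 lc_h_Cert_tree lc_h_rc_42_1 lc_h_rc_47_1 lc_h_rc_14_1 lc_h_rc_22_1 lc_h_rc_42_1 lc_h_rc_5_1 lc_h_rc_14_1 lc_h_Cert_tree lc_h_rc_22_1 lc_h_rc_47_1 lc_h_rc_5_1 lc_h_Cert_tree lc_h_rc_14_1 lc_h_Cert_tree lc_h_rc_40_0 lc_h_rc_47_1 lc_h_rc_51_1) (@D3.rec (fun _ => (Cert rels S Gen.h)) lc_h_rc_5_1 lc_h_rc_14_1 lc_h_Cert_tree lc_h_rc_22_1 lc_h_rc_47_1 lc_h_rc_5_1 lc_h_Cert_tree lc_h_rc_14_1 lc_h_Cert_tree lc_h_rc_40_0 lc_h_rc_22_1 lc_h_rc_51_1 lc_h_Cert_tree lc_h_rc_5_1 lc_h_Cert_tree lc_h_Cert_tree lc_h_rc_40_0 lc_h_rc_14_1 lc_h_Cert_tree lc_h_Cert_tree lc_h_rc_40_0 lc_h_rc_41_2 lc_h_rc_51_1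 lc_h_rc_5_1 lc_h_rc_14_1 lc_h_rc_42_3 lc_h_rc_22_1 lc_h_rc_47_1 lc_h_rc_5_1 lc_h_rc_42_3 lc_h_rc_14_1 lc_h_Cert_tree lc_h_rc_40_0 lc_h_rc_22_1 lc_h_rc_51_1 lc_h_rc_42_3 lc_h_rc_5_1 lc_h_rc_42_3 lc_h_Cert_tree lc_h_rc_40_0 lc_h_rc_14_1 lc_h_Cert_tree lc_h_Cert_tree lc_h_rc_40_0 lc_h_rc_41_2 lc_h_rc_22_1 lc_h_rc_14_1 lc_h_Cert_tree lc_h_rc_40_0 lc_h_rc_5_1 lc_h_Cert_tree) (@D3.rec (fun _ => (Cert rels S Gen.h)) lc_h_rc_40_0 lc_h_Cert_tree lc_h_Cert_tree lc_h_rc_40_0 lc_h_rc_14_1 lc_h_rc_14_1 lc_h_Cert_tree lc_h_rc_40_0 lc_h_Cert_tree lc_h_rc_40_0 lc_h_rc_41_2 lc_h_rc_42_1 lc_h_Cert_tree lc_h_rc_40_0 lc_h_rc_29_3 lc_h_rc_22_1 lc_h_rc_35_1 lc_h_rc_40_0 lc_h_rc_29_3 lc_h_rc_22_1 lc_h_rc_35_1 lc_h_rc_14_1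 lc_h_rc_35_1 lc_h_rc_35_1 lc_h_rc_29_3 lc_h_rc_22_1 lc_h_rc_35_1 lc_h_rc_42_1 lc_h_rc_22_1 lc_h_rc_42_1 lc_h_rc_5_1 lc_h_rc_14_1 lc_h_Cert_tree lc_h_rc_35_1 lc_h_rc_35_1 lc_h_rc_22_1 lc_h_rc_35_1 lc_h_rc_22_1 lc_h_rc_22_1 lc_h_rc_42_1 lc_h_rc_5_1 lc_h_rc_14_1 lc_h_Cert_tree lc_h_rc_22_1 lc_h_rc_14_1 lc_h_rc_22_1 lc_h_rc_42_1 lc_h_rc_22_1 lc_h_Cert_tree lc_h_rc_22_1 lc_h_rc_47_1) (@D3.rec (fun _ => (Cert rels S Gen.h)) lc_h_rc_5_1 lc_h_Cert_tree lc_h_rc_14_1 lc_h_Cert_tree lc_h_rc_40_0 lc_h_rc_22_1 lc_h_rc_14_1 lc_h_Cert_tree lc_h_rc_22_1 lc_h_rc_47_1 lc_h_Cert_tree lc_h_rc_22_1 lc_h_Cert_tree lc_h_rc_40_0 lc_h_rc_22_1 lc_h_rc_51_1 lc_h_Cert_tree lc_h_rc_5_1 lc_h_Cert_tree lc_h_Cert_tree lc_h_rc_40_0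 lc_h_rc_14_1 lc_h_Cert_tree lc_h_Cert_tree lc_h_rc_40_0 lc_h_rc_41_2 lc_h_rc_22_1 lc_h_rc_5_1 lc_h_rc_14_1 lc_h_Cert_tree lc_h_rc_22_1 lc_h_rc_14_1 lc_h_rc_5_1 lc_h_Cert_tree lc_h_rc_14_1 lc_h_Cert_tree lc_h_rc_40_0 lc_h_rc_22_1 lc_h_rc_51_1 lc_h_rc_5_1 lc_h_Cert_tree lc_h_rc_14_1 lc_h_Cert_tree lc_h_rc_40_0 lc_h_rc_22_1 lc_h_rc_14_1 lc_h_Cert_tree lc_h_rc_5_1 lc_h_Cert_tree lc_h_Cert_tree lc_h_rc_40_0)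
def ce_h_2 : D2 → D3 → (Cert rels S Gen.h) := @D2.rec (fun _ => D3 → (Cert rels S Gen.h)) (@D3.rec (fun _ => (Cert rels S Gen.h)) lc_h_rc_14_1 lc_h_Cert_tree lc_h_Cert_tree lc_h_rc_40_0 lc_h_rc_41_2 lc_h_rc_22_1 lc_h_Cert_tree lc_h_rc_5_1 lc_h_Cert_tree lc_h_Cert_tree lc_h_rc_40_0 lc_h_rc_14_1 lc_h_Cert_tree lc_h_Cert_tree lc_h_rc_40_0 lc_h_rc_41_2 lc_h_rc_22_1 lc_h_Cert_tree lc_h_Cert_tree lc_h_rc_40_0 lc_h_rc_5_1 lc_h_Cert_tree lc_h_rc_40_0 lc_h_Cert_tree lc_h_Cert_tree lc_h_rc_40_0 lc_h_rc_14_1 lc_h_rc_14_1 lc_h_Cert_tree lc_h_rc_40_0 lc_h_Cert_tree lc_h_rc_40_0 lc_h_rc_41_2 lc_h_rc_41_4 lc_h_rc_5_1 lc_h_rc_41_4 lc_h_Cert_tree lc_h_Cert_tree lc_h_rc_40_0 lc_h_rc_14_1 lc_h_Cert_tree lc_h_rc_40_0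 lc_h_Cert_tree lc_h_rc_40_0 lc_h_rc_41_2 lc_h_rc_5_3 lc_h_Cert_tree lc_h_Cert_tree lc_h_rc_40_0 lc_h_rc_5_1 lc_h_Cert_tree) (@D3.rec (fun _ => (Cert rels S Gen.h)) lc_h_Cert_tree lc_h_rc_40_0 lc_h_Cert_tree lc_h_rc_40_0 lc_h_Cert_tree lc_h_rc_40_0 lc_h_rc_5_1 lc_h_Cert_tree lc_h_Cert_tree lc_h_rc_40_0 lc_h_rc_29_3 lc_h_rc_41_2 lc_h_rc_40_0 lc_h_rc_41_2 lc_h_Cert_tree lc_h_rc_5_1 lc_h_Cert_tree lc_h_Cert_tree lc_h_rc_40_0 lc_h_rc_14_1 lc_h_Cert_tree lc_h_Cert_tree lc_h_rc_40_0 lc_h_rc_41_2 lc_h_rc_22_1 lc_h_Cert_tree lc_h_Cert_tree lc_h_rc_40_0 lc_h_rc_5_1 lc_h_Cert_tree lc_h_rc_40_0 lc_h_Cert_tree lc_h_Cert_tree lc_h_rc_40_0 lc_h_rc_14_1 lc_h_rc_14_1 lc_h_Cert_tree lc_h_rc_40_0 lc_h_Cert_tree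 lc_h_rc_40_0 lc_h_rc_41_2 lc_h_Cert_tree lc_h_rc_40_0 lc_h_Cert_tree lc_h_Cert_tree lc_h_rc_40_0 lc_h_rc_5_1 lc_h_rc_5_1 lc_h_Cert_tree lc_h_Cert_tree lc_h_rc_40_0) (@D3.rec (fun _ => (Cert rels S Gen.h)) lc_h_rc_29_3 lc_h_rc_22_1 lc_h_Cert_tree lc_h_rc_40_0 lc_h_Cert_tree lc_h_rc_40_0 lc_h_rc_14_1 lc_h_Cert_tree lc_h_Cert_tree lc_h_rc_40_0 lc_h_rc_29_3 lc_h_rc_41_2 lc_h_rc_40_0 lc_h_rc_41_2 lc_h_Cert_tree lc_h_rc_40_0 lc_h_Cert_tree lc_h_rc_40_0 lc_h_rc_5_1 lc_h_Cert_tree lc_h_Cert_tree lc_h_rc_40_0 lc_h_rc_14_1 lc_h_rc_14_1 lc_h_rc_40_0 lc_h_rc_14_1 lc_h_Cert_tree lc_h_rc_40_0 lc_h_rc_40_0 lc_h_rc_29_3 lc_h_rc_41_2 lc_h_rc_22_1 lc_h_Cert_tree lc_h_rc_41_2 lc_h_rc_55_16 lc_h_rc_40_0 lc_h_rc_42_1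 lc_h_rc_42_1 lc_h_rc_22_1 lc_h_rc_14_1 lc_h_rc_5_3 lc_h_Cert_tree lc_h_rc_42_1 lc_h_rc_22_3 lc_h_Cert_tree lc_h_rc_40_0 lc_h_rc_29_3 lc_h_rc_47_1 lc_h_rc_35_1 lc_h_rc_14_1 lc_h_rc_35_1) (@D3.rec (fun _ => (Cert rels S Gen.h)) lc_h_rc_42_1 lc_h_rc_40_0 lc_h_rc_29_3 lc_h_rc_29_3 lc_h_rc_35_1 lc_h_rc_42_1 lc_h_rc_14_3 lc_h_rc_42_1 lc_h_rc_5_1 lc_h_rc_14_1 lc_h_Cert_tree lc_h_rc_35_1 lc_h_rc_35_1 lc_h_rc_29_3 lc_h_rc_42_1 lc_h_rc_5_1 lc_h_rc_29_3 lc_h_rc_14_3 lc_h_rc_47_1 lc_h_rc_5_1 lc_h_Cert_tree lc_h_rc_14_1 lc_h_Cert_tree lc_h_rc_40_0 lc_h_rc_35_1 lc_h_rc_35_1 lc_h_rc_42_1 lc_h_rc_51_1 lc_h_rc_14_3 lc_h_rc_42_1 lc_h_rc_47_1 lc_h_rc_5_1 lc_h_Cert_tree lc_h_rc_14_1 lc_h_Cert_tree lc_h_rc_40_0 lc_h_rc_22_1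 lc_h_rc_5_1 lc_h_rc_47_1 lc_h_rc_47_1 lc_h_rc_42_1 lc_h_rc_42_1 lc_h_rc_42_1 lc_h_rc_51_1 lc_h_Cert_tree lc_h_rc_5_1 lc_h_Cert_tree lc_h_Cert_tree lc_h_rc_40_0 lc_h_rc_14_1 lc_h_Cert_tree) (@D3.rec (fun _ => (Cert rels S Gen.h)) lc_h_Cert_tree lc_h_rc_40_0 lc_h_rc_14_3 lc_h_rc_22_1 lc_h_rc_51_1 lc_h_rc_42_3 lc_h_rc_22_3 lc_h_rc_47_1 lc_h_rc_14_3 lc_h_rc_14_3 lc_h_rc_14_3 lc_h_Cert_tree lc_h_Cert_tree lc_h_rc_40_0 lc_h_rc_5_1 lc_h_Cert_tree lc_h_rc_40_0 lc_h_Cert_tree lc_h_Cert_tree lc_h_rc_40_0 lc_h_rc_42_3 lc_h_rc_14_1 lc_h_Cert_tree lc_h_rc_40_0 lc_h_Cert_tree lc_h_rc_40_0 lc_h_rc_14_3 lc_h_rc_5_1 lc_h_Cert_tree lc_h_rc_14_1 lc_h_Cert_tree lc_h_rc_40_0 lc_h_rc_22_1 lc_h_rc_5_1 lc_h_rc_51_1 lc_h_rc_5_1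 lc_h_Cert_tree lc_h_Cert_tree lc_h_rc_40_0 lc_h_rc_14_1 lc_h_rc_35_3 lc_h_rc_29_3 lc_h_rc_40_0 lc_h_rc_41_2 lc_h_rc_22_1 lc_h_rc_47_1 lc_h_rc_5_1 lc_h_Cert_tree lc_h_Cert_tree lc_h_rc_40_0 lc_h_rc_14_1) (@D3.rec (fun _ => (Cert rels S Gen.h)) lc_h_Cert_tree lc_h_Cert_tree lc_h_rc_40_0 lc_h_rc_41_2 lc_h_rc_22_1 lc_h_rc_47_1 lc_h_rc_42_1 lc_h_rc_5_1 lc_h_Cert_tree lc_h_rc_40_0 lc_h_Cert_tree lc_h_Cert_tree lc_h_rc_40_0 lc_h_rc_14_1 lc_h_rc_41_0 lc_h_rc_40_0 lc_h_rc_51_3 lc_h_rc_40_0 lc_h_rc_41_2 lc_h_rc_42_3 lc_h_rc_41_2 lc_h_rc_5_1 lc_h_Cert_tree lc_h_rc_40_0 lc_h_Cert_tree lc_h_Cert_tree lc_h_rc_40_0 lc_h_rc_14_1 lc_h_Cert_tree lc_h_rc_40_0 lc_h_Cert_tree lc_h_rc_40_0 lc_h_rc_41_2 lc_h_rc_55_61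 lc_h_rc_35_1 lc_h_rc_47_1 lc_h_rc_5_1 lc_h_Cert_tree lc_h_Cert_tree lc_h_rc_40_0 lc_h_rc_29_3 lc_h_Cert_tree lc_h_rc_40_0 lc_h_Cert_tree lc_h_rc_40_0 lc_h_rc_35_1 lc_h_rc_35_3 lc_h_rc_40_0 lc_h_rc_41_2 lc_h_rc_40_0 lc_h_rc_41_2) (@D3.rec (fun _ => (Cert rels S Gen.h)) lc_h_rc_35_3 lc_h_Cert_tree lc_h_Cert_tree lc_h_rc_40_0 lc_h_rc_5_1 lc_h_Cert_tree lc_h_Cert_tree lc_h_rc_40_0 lc_h_Cert_tree lc_h_rc_40_0 lc_h_Cert_tree lc_h_rc_40_0 lc_h_Cert_tree lc_h_Cert_tree lc_h_rc_40_0 lc_h_rc_29_3 lc_h_rc_40_0 lc_h_rc_14_1 lc_h_rc_5_1 lc_h_rc_5_1 lc_h_rc_5_1 lc_h_rc_5_1 lc_h_Cert_tree lc_h_rc_22_1 lc_h_rc_22_1 lc_h_rc_14_1 lc_h_rc_14_1 lc_h_rc_42_1 lc_h_rc_22_1 lc_h_rc_42_1 lc_h_rc_5_1 lc_h_Cert_tree lc_h_rc_40_0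 lc_h_Cert_tree lc_h_Cert_tree lc_h_rc_40_0 lc_h_rc_14_1 lc_h_rc_47_3 lc_h_rc_40_0 lc_h_rc_47_3 lc_h_rc_40_0 lc_h_rc_41_2 lc_h_rc_42_1 lc_h_rc_5_3 lc_h_rc_42_1 lc_h_rc_5_1 lc_h_Cert_tree lc_h_Cert_tree lc_h_rc_40_0 lc_h_rc_29_3 lc_h_Cert_tree) (@D3.rec (fun _ => (Cert rels S Gen.h)) lc_h_rc_40_0 lc_h_Cert_tree lc_h_rc_40_0 lc_h_rc_51_3 lc_h_rc_40_0 lc_h_rc_29_3 lc_h_rc_41_2 lc_h_rc_40_0 lc_h_rc_41_2 lc_h_rc_22_1 lc_h_rc_51_1 lc_h_Cert_tree lc_h_rc_40_0 lc_h_rc_29_3 lc_h_rc_35_1 lc_h_rc_40_0 lc_h_rc_41_2 lc_h_rc_42_1 lc_h_rc_5_3 lc_h_rc_47_1 lc_h_Cert_tree lc_h_Cert_tree lc_h_rc_40_0 lc_h_rc_29_3 lc_h_Cert_tree lc_h_rc_40_0 lc_h_rc_40_0 lc_h_rc_14_3 lc_h_rc_40_0 lc_h_rc_29_3 lc_h_rc_41_2 lc_h_rc_41_2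 lc_h_rc_5_3 lc_h_Cert_tree lc_h_rc_40_0 lc_h_rc_29_3 lc_h_rc_29_5 lc_h_rc_29_3 lc_h_rc_22_1 lc_h_Cert_tree lc_h_rc_42_1 lc_h_Cert_tree lc_h_rc_14_1 lc_h_Cert_tree lc_h_rc_40_0 lc_h_rc_29_3 lc_h_rc_42_1 lc_h_rc_40_0 lc_h_rc_29_3 lc_h_rc_35_1 lc_h_rc_14_1) (@D3.rec (fun _ => (Cert rels S Gen.h)) lc_h_rc_42_1 lc_h_rc_14_1 lc_h_rc_14_3 lc_h_rc_42_1 lc_h_rc_42_1 lc_h_Cert_tree lc_h_rc_40_0 lc_h_rc_29_3 lc_h_rc_42_1 lc_h_rc_29_3 lc_h_rc_14_1 lc_h_rc_47_1 lc_h_Cert_tree lc_h_rc_14_1 lc_h_rc_47_1 lc_h_rc_40_0 lc_h_rc_35_1 lc_h_rc_35_1 lc_h_rc_40_0 lc_h_rc_29_3 lc_h_rc_47_1 lc_h_rc_29_3 lc_h_rc_14_1 lc_h_rc_51_1 lc_h_Cert_tree lc_h_Cert_tree lc_h_rc_40_0 lc_h_rc_14_1 lc_h_rc_47_1 lc_h_rc_51_1 lc_h_rc_40_0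 lc_h_rc_35_1 lc_h_rc_47_1 lc_h_rc_5_3 lc_h_rc_5_3 lc_h_rc_51_1 lc_h_rc_5_3 lc_h_Cert_tree lc_h_rc_40_0 lc_h_rc_14_1 lc_h_rc_14_3 lc_h_rc_22_1 lc_h_rc_40_0 lc_h_rc_22_1 lc_h_rc_51_1 lc_h_rc_14_1 lc_h_rc_5_3 lc_h_rc_5_3 lc_h_rc_5_3 lc_h_Cert_tree lc_h_Cert_tree) (@D3.rec (fun _ => (Cert rels S Gen.h)) lc_h_rc_40_0 lc_h_rc_14_1 lc_h_rc_51_1 lc_h_rc_40_0 lc_h_rc_51_3 lc_h_rc_40_0 lc_h_rc_47_1 lc_h_rc_51_1 lc_h_rc_5_3 lc_h_rc_5_3 lc_h_Cert_tree lc_h_rc_40_0 lc_h_Cert_tree lc_h_rc_40_0 lc_h_rc_42_3 lc_h_rc_42_1 lc_h_rc_40_0 lc_h_rc_29_3 lc_h_rc_40_0 lc_h_rc_14_3 lc_h_rc_5_1 lc_h_rc_5_3 lc_h_rc_14_1 lc_h_rc_5_3 lc_h_rc_14_1 lc_h_rc_40_0 lc_h_rc_22_1 lc_h_rc_42_1 lc_h_rc_5_1 lc_h_rc_35_1 lc_h_rc_5_3 lc_h_rc_14_1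 lc_h_rc_42_1 lc_h_rc_5_1 lc_h_rc_14_3 lc_h_rc_5_3 lc_h_rc_14_1 lc_h_rc_51_1 lc_h_rc_40_0 lc_h_rc_51_3 lc_h_rc_40_0 lc_h_rc_14_3 lc_h_rc_42_1 lc_h_rc_5_1 lc_h_rc_35_1 lc_h_rc_5_3 lc_h_rc_14_3 lc_h_rc_14_3 lc_h_rc_5_1 lc_h_rc_5_3 lc_h_rc_5_3) (@D3.rec (fun _ => (Cert rels S Gen.h)) lc_h_rc_42_3 lc_h_rc_42_1 lc_h_rc_40_0 lc_h_rc_29_3 lc_h_rc_40_0 lc_h_rc_14_3 lc_h_rc_14_3 lc_h_rc_5_3 lc_h_rc_51_1 lc_h_rc_22_1 lc_h_Cert_tree lc_h_Cert_tree lc_h_rc_40_0 lc_h_Cert_tree lc_h_rc_40_0 lc_h_Cert_tree lc_h_rc_40_0 lc_h_rc_29_1 lc_h_Cert_tree lc_h_rc_40_0 lc_h_Cert_tree lc_h_rc_40_0 lc_h_rc_29_3 lc_h_Cert_tree lc_h_Cert_tree lc_h_rc_40_0 lc_h_rc_5_3 lc_h_rc_40_0 lc_h_rc_14_3 lc_h_rc_40_0 lc_h_rc_40_0 lc_h_rc_29_3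 lc_h_rc_14_1 lc_h_rc_14_1 lc_h_rc_14_1 lc_h_rc_14_3 lc_h_rc_5_1 lc_h_rc_5_1 lc_h_rc_5_1 lc_h_rc_5_1 lc_h_rc_22_1 lc_h_rc_22_1 lc_h_rc_22_1 lc_h_rc_14_1 lc_h_rc_14_3 lc_h_rc_47_1 lc_h_rc_5_1 lc_h_rc_22_1 lc_h_rc_47_1 lc_h_rc_14_3 lc_h_rc_42_1) (@D3.rec (fun _ => (Cert rels S Gen.h)) lc_h_rc_22_1 lc_h_rc_14_3 lc_h_rc_42_1 lc_h_rc_42_1 lc_h_rc_42_1 lc_h_rc_22_1 lc_h_Cert_tree lc_h_rc_40_0 lc_h_rc_29_3 lc_h_rc_22_1 lc_h_rc_35_1 lc_h_rc_29_3 lc_h_rc_22_1 lc_h_rc_35_1 lc_h_rc_14_1 lc_h_rc_22_1 lc_h_rc_42_1 lc_h_rc_14_1 lc_h_rc_22_1 lc_h_rc_42_1 lc_h_rc_5_1 lc_h_rc_14_1 lc_h_Cert_tree lc_h_rc_22_1 lc_h_rc_47_1 lc_h_rc_5_1 lc_h_Cert_tree lc_h_rc_14_1 lc_h_Cert_tree lc_h_rc_40_0 lc_h_rc_22_1 lc_h_rc_51_1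 lc_h_rc_47_1 lc_h_rc_22_1 lc_h_rc_35_1 lc_h_rc_22_1 lc_h_rc_35_1 lc_h_rc_14_1 lc_h_rc_22_1 lc_h_rc_42_1 lc_h_rc_14_1 lc_h_rc_35_1 lc_h_rc_35_1 lc_h_rc_5_1 lc_h_rc_14_1 lc_h_Cert_tree lc_h_rc_22_1 lc_h_rc_47_1 lc_h_rc_14_1 lc_h_rc_22_1 lc_h_rc_42_1) (@D3.rec (fun _ => (Cert rels S Gen.h)) lc_h_rc_5_1 lc_h_rc_14_1 lc_h_Cert_tree lc_h_rc_22_1 lc_h_rc_47_1 lc_h_rc_14_1 lc_h_Cert_tree lc_h_rc_22_1 lc_h_rc_47_1 lc_h_rc_5_1 lc_h_Cert_tree lc_h_rc_14_1 lc_h_Cert_tree lc_h_rc_40_0 lc_h_rc_22_1 lc_h_rc_51_1 lc_h_Cert_tree lc_h_rc_14_1 lc_h_Cert_tree lc_h_rc_40_0 lc_h_rc_22_1 lc_h_rc_51_1 lc_h_Cert_tree lc_h_rc_5_1 lc_h_Cert_tree lc_h_Cert_tree lc_h_rc_40_0 lc_h_rc_14_1 lc_h_Cert_tree lc_h_Cert_tree lc_h_rc_40_0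 lc_h_rc_41_2 lc_h_rc_22_1 lc_h_rc_14_1 lc_h_rc_22_1 lc_h_rc_42_1 lc_h_rc_5_1 lc_h_rc_14_1 lc_h_Cert_tree lc_h_rc_22_1 lc_h_rc_47_1 lc_h_rc_5_1 lc_h_Cert_tree lc_h_rc_14_1 lc_h_Cert_tree lc_h_rc_40_0 lc_h_rc_47_1 lc_h_rc_51_1 lc_h_rc_5_1 lc_h_rc_14_1 lc_h_Cert_tree) (@D3.rec (fun _ => (Cert rels S Gen.h)) lc_h_rc_22_1 lc_h_rc_47_1 lc_h_rc_5_1 lc_h_Cert_tree lc_h_rc_14_1 lc_h_Cert_tree lc_h_rc_40_0 lc_h_rc_22_1 lc_h_rc_51_1 lc_h_Cert_tree lc_h_rc_5_1 lc_h_Cert_tree lc_h_Cert_tree lc_h_rc_40_0 lc_h_rc_14_1 lc_h_Cert_tree lc_h_Cert_tree lc_h_rc_40_0 lc_h_rc_41_2 lc_h_rc_51_1 lc_h_rc_5_1 lc_h_Cert_tree lc_h_rc_14_1 lc_h_Cert_tree lc_h_rc_40_0 lc_h_rc_22_1 lc_h_rc_51_1 lc_h_Cert_tree lc_h_rc_5_1 lc_h_Cert_tree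 lc_h_Cert_tree lc_h_rc_40_0 lc_h_rc_14_1 lc_h_Cert_tree lc_h_Cert_tree lc_h_rc_40_0 lc_h_rc_41_2 lc_h_rc_22_1 lc_h_Cert_tree lc_h_Cert_tree lc_h_rc_40_0 lc_h_rc_5_1 lc_h_Cert_tree lc_h_rc_40_0 lc_h_Cert_tree lc_h_Cert_tree lc_h_rc_40_0 lc_h_rc_14_1 lc_h_rc_14_1 lc_h_Cert_tree lc_h_rc_40_0) (@D3.rec (fun _ => (Cert rels S Gen.h)) lc_h_Cert_tree lc_h_rc_40_0 lc_h_rc_41_2 lc_h_rc_14_1 lc_h_rc_22_3 lc_h_rc_22_1 lc_h_rc_51_1 lc_h_rc_5_1 lc_h_rc_35_3 lc_h_rc_14_1 lc_h_Cert_tree lc_h_Cert_tree lc_h_rc_40_0 lc_h_rc_22_1 lc_h_rc_41_4 lc_h_rc_5_1 lc_h_rc_41_4 lc_h_Cert_tree lc_h_Cert_tree lc_h_rc_40_0 lc_h_rc_14_1 lc_h_Cert_tree lc_h_rc_40_0 lc_h_Cert_tree lc_h_rc_40_0 lc_h_rc_41_2 lc_h_rc_5_3 lc_h_Cert_tree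 lc_h_Cert_tree lc_h_rc_40_0 lc_h_rc_5_1 lc_h_Cert_tree lc_h_Cert_tree lc_h_rc_40_0 lc_h_Cert_tree lc_h_rc_40_0 lc_h_Cert_tree lc_h_rc_40_0 lc_h_rc_5_1 lc_h_Cert_tree lc_h_Cert_tree lc_h_rc_40_0 lc_h_rc_29_3 lc_h_rc_41_2 lc_h_rc_40_0 lc_h_rc_41_2 lc_h_Cert_tree lc_h_rc_40_0 lc_h_rc_29_3 lc_h_rc_22_1 lc_h_rc_35_1) (@D3.rec (fun _ => (Cert rels S Gen.h)) lc_h_rc_14_1 lc_h_rc_35_1 lc_h_rc_42_1 lc_h_rc_29_3 lc_h_rc_22_1 lc_h_rc_35_1 lc_h_rc_42_1 lc_h_rc_22_1 lc_h_rc_42_1 lc_h_rc_5_1 lc_h_rc_14_1 lc_h_Cert_tree lc_h_rc_35_1 lc_h_rc_35_1 lc_h_rc_22_1 lc_h_rc_29_3 lc_h_rc_22_1 lc_h_rc_42_1 lc_h_rc_5_1 lc_h_Cert_tree lc_h_rc_22_1 lc_h_rc_47_1 lc_h_rc_5_1 lc_h_Cert_tree lc_h_rc_14_1 lc_h_Cert_tree lc_h_rc_40_0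 lc_h_rc_35_1 lc_h_rc_35_1 lc_h_rc_22_1 lc_h_rc_42_1 lc_h_rc_22_1 lc_h_Cert_tree lc_h_rc_22_1 lc_h_rc_47_1 lc_h_rc_5_1 lc_h_Cert_tree lc_h_rc_14_1 lc_h_Cert_tree lc_h_rc_40_0 lc_h_rc_22_1 lc_h_rc_14_1 lc_h_Cert_tree lc_h_rc_22_1 lc_h_rc_47_1 lc_h_Cert_tree lc_h_rc_42_1 lc_h_Cert_tree lc_h_rc_40_0 lc_h_rc_22_1 lc_h_rc_51_1) (@D3.rec (fun _ => (Cert rels S Gen.h)) lc_h_Cert_tree lc_h_rc_5_1 lc_h_Cert_tree lc_h_Cert_tree lc_h_rc_40_0 lc_h_rc_14_1 lc_h_Cert_tree lc_h_Cert_tree lc_h_rc_40_0 lc_h_rc_41_2 lc_h_rc_22_1 lc_h_Cert_tree lc_h_rc_40_0 lc_h_rc_22_1 lc_h_rc_51_1 lc_h_Cert_tree lc_h_Cert_tree lc_h_rc_40_0 lc_h_rc_22_1 lc_h_Cert_tree lc_h_Cert_tree lc_h_rc_40_0 lc_h_rc_41_2 lc_h_rc_22_1 lc_h_Cert_tree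 lc_h_Cert_tree lc_h_rc_40_0 lc_h_rc_5_1 lc_h_Cert_tree lc_h_rc_40_0 lc_h_Cert_tree lc_h_Cert_tree lc_h_rc_40_0 lc_h_rc_14_1 lc_h_rc_14_1 lc_h_Cert_tree lc_h_rc_40_0 lc_h_Cert_tree lc_h_rc_40_0 lc_h_rc_41_2 lc_h_rc_5_1 lc_h_Cert_tree lc_h_rc_14_1 lc_h_Cert_tree lc_h_rc_40_0 lc_h_rc_22_1 lc_h_rc_14_1 lc_h_Cert_tree lc_h_rc_5_1 lc_h_Cert_tree lc_h_Cert_tree) (@D3.rec (fun _ => (Cert rels S Gen.h)) lc_h_rc_40_0 lc_h_rc_14_1 lc_h_Cert_tree lc_h_Cert_tree lc_h_rc_40_0 lc_h_rc_41_2 lc_h_rc_22_1 lc_h_Cert_tree lc_h_rc_5_1 lc_h_Cert_tree lc_h_Cert_tree lc_h_rc_40_0 lc_h_rc_14_1 lc_h_Cert_tree lc_h_Cert_tree lc_h_rc_40_0 lc_h_rc_41_2 lc_h_rc_22_1 lc_h_Cert_tree lc_h_Cert_tree lc_h_rc_40_0 lc_h_rc_5_1 lc_h_Cert_tree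 lc_h_rc_40_0 lc_h_Cert_tree lc_h_Cert_tree lc_h_rc_40_0 lc_h_rc_14_1 lc_h_rc_14_1 lc_h_Cert_tree lc_h_rc_40_0 lc_h_Cert_tree lc_h_rc_40_0 lc_h_rc_41_2 lc_h_Cert_tree lc_h_Cert_tree lc_h_rc_40_0 lc_h_rc_5_1 lc_h_Cert_tree lc_h_rc_40_0 lc_h_Cert_tree lc_h_Cert_tree lc_h_rc_40_0 lc_h_rc_14_1 lc_h_rc_14_1 lc_h_Cert_tree lc_h_rc_40_0 lc_h_Cert_tree lc_h_rc_40_0 lc_h_rc_41_2 lc_h_rc_14_3) (@D3.rec (fun _ => (Cert rels S Gen.h)) lc_h_Cert_tree lc_h_rc_40_0 lc_h_Cert_tree lc_h_Cert_tree lc_h_rc_40_0 lc_h_rc_5_1 lc_h_rc_5_1 lc_h_Cert_tree lc_h_Cert_tree lc_h_rc_40_0 lc_h_rc_29_3 lc_h_rc_22_1 lc_h_Cert_tree lc_h_rc_40_0 lc_h_Cert_tree lc_h_rc_40_0 lc_h_rc_14_1 lc_h_Cert_tree lc_h_Cert_tree lc_h_rc_40_0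 lc_h_rc_29_3 lc_h_rc_41_2 lc_h_rc_40_0 lc_h_rc_41_2 lc_h_rc_41_4 lc_h_rc_41_4 lc_h_rc_5_1 lc_h_rc_41_4 lc_h_rc_41_4 lc_h_Cert_tree lc_h_rc_40_0 lc_h_Cert_tree lc_h_rc_40_0 lc_h_Cert_tree lc_h_Cert_tree lc_h_rc_40_0 lc_h_rc_29_3 lc_h_rc_41_2 lc_h_rc_40_0 lc_h_rc_41_2 lc_h_rc_5_3 lc_h_rc_5_3 lc_h_Cert_tree lc_h_rc_40_0 lc_h_Cert_tree lc_h_rc_40_0 lc_h_Cert_tree lc_h_Cert_tree lc_h_rc_40_0 lc_h_Cert_tree lc_h_rc_40_0) (@D3.rec (fun _ => (Cert rels S Gen.h)) lc_h_Cert_tree lc_h_Cert_tree lc_h_rc_40_0 lc_h_rc_14_1 lc_h_rc_5_1 lc_h_rc_40_0 lc_h_rc_5_1 lc_h_Cert_tree lc_h_rc_40_0 lc_h_rc_40_0 lc_h_rc_29_3 lc_h_rc_41_2 lc_h_rc_22_1 lc_h_Cert_tree lc_h_rc_41_2 lc_h_Cert_tree lc_h_Cert_tree lc_h_rc_40_0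 lc_h_rc_5_1 lc_h_Cert_tree lc_h_rc_40_0 lc_h_Cert_tree lc_h_Cert_tree lc_h_rc_40_0 lc_h_rc_14_1 lc_h_rc_14_1 lc_h_Cert_tree lc_h_rc_40_0 lc_h_Cert_tree lc_h_rc_40_0 lc_h_rc_41_2 lc_h_Cert_tree lc_h_rc_40_0 lc_h_Cert_tree lc_h_Cert_tree lc_h_rc_40_0 lc_h_rc_5_1 lc_h_rc_5_1 lc_h_Cert_tree lc_h_Cert_tree lc_h_rc_40_0 lc_h_rc_29_3 lc_h_rc_22_1 lc_h_Cert_tree lc_h_rc_40_0 lc_h_Cert_tree lc_h_rc_40_0 lc_h_rc_14_1 lc_h_Cert_tree lc_h_Cert_tree lc_h_rc_40_0) (@D3.rec (fun _ => (Cert rels S Gen.h)) lc_h_rc_29_3 lc_h_rc_41_2 lc_h_rc_40_0 lc_h_rc_41_2 lc_h_Cert_tree lc_h_Cert_tree lc_h_rc_40_0 lc_h_rc_5_1 lc_h_Cert_tree lc_h_rc_40_0 lc_h_Cert_tree lc_h_rc_40_0 lc_h_rc_5_1 lc_h_Cert_tree lc_h_rc_40_0 lc_h_Cert_tree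 lc_h_rc_40_0 lc_h_rc_29_3 lc_h_rc_22_1 lc_h_rc_35_1 lc_h_rc_22_3 lc_h_Cert_tree lc_h_Cert_tree lc_h_rc_40_0 lc_h_rc_14_1 lc_h_rc_14_1 lc_h_rc_40_0 lc_h_rc_14_1 lc_h_Cert_tree lc_h_rc_40_0 lc_h_rc_40_0 lc_h_rc_29_3 lc_h_rc_41_2 lc_h_rc_22_1 lc_h_Cert_tree lc_h_rc_41_2 lc_h_Cert_tree lc_h_Cert_tree lc_h_rc_40_0 lc_h_rc_5_1 lc_h_rc_5_1 lc_h_rc_40_0 lc_h_rc_5_1 lc_h_Cert_tree lc_h_rc_40_0 lc_h_rc_40_0 lc_h_rc_14_1 lc_h_rc_14_1 lc_h_rc_22_1 lc_h_Cert_tree lc_h_rc_14_1) (@D3.rec (fun _ => (Cert rels S Gen.h)) lc_h_rc_56_34 lc_h_rc_40_0 lc_h_rc_42_1 lc_h_rc_42_1 lc_h_rc_29_3 lc_h_rc_41_2 lc_h_rc_22_1 lc_h_Cert_tree lc_h_rc_14_1 lc_h_Cert_tree lc_h_rc_40_0 lc_h_rc_14_1 lc_h_rc_5_1 lc_h_rc_47_1 lc_h_Cert_tree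 lc_h_rc_40_0 lc_h_rc_29_3 lc_h_rc_42_1 lc_h_rc_40_0 lc_h_rc_29_3 lc_h_rc_35_1 lc_h_rc_47_1 lc_h_rc_14_3 lc_h_rc_42_1 lc_h_rc_5_1 lc_h_rc_14_1 lc_h_rc_14_3 lc_h_rc_42_1 lc_h_rc_42_1 lc_h_rc_29_3 lc_h_rc_42_1 lc_h_rc_5_1 lc_h_rc_29_3 lc_h_rc_14_3 lc_h_rc_47_1 lc_h_rc_5_1 lc_h_Cert_tree lc_h_rc_14_1 lc_h_rc_47_1 lc_h_rc_40_0 lc_h_rc_35_1 lc_h_rc_35_1 lc_h_rc_29_3 lc_h_rc_47_1 lc_h_rc_29_3 lc_h_rc_5_1 lc_h_rc_29_3 lc_h_rc_14_3 lc_h_rc_51_1 lc_h_Cert_tree lc_h_rc_5_1) (@D3.rec (fun _ => (Cert rels S Gen.h)) lc_h_Cert_tree lc_h_Cert_tree lc_h_rc_40_0 lc_h_rc_14_1 lc_h_rc_47_1 lc_h_rc_51_1 lc_h_rc_40_0 lc_h_rc_35_1 lc_h_rc_47_1 lc_h_rc_51_1 lc_h_rc_42_1 lc_h_rc_42_1 lc_h_rc_47_1 lc_h_rc_51_1 lc_h_Cert_tree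 lc_h_rc_5_1 lc_h_Cert_tree lc_h_Cert_tree lc_h_rc_40_0 lc_h_rc_14_1 lc_h_rc_29_1 lc_h_rc_35_1 lc_h_rc_40_0 lc_h_rc_14_3 lc_h_rc_22_1 lc_h_rc_51_1 lc_h_rc_47_1 lc_h_rc_42_1 lc_h_rc_42_1 lc_h_rc_14_3 lc_h_rc_42_1 lc_h_rc_42_1 lc_h_Cert_tree lc_h_Cert_tree lc_h_rc_40_0 lc_h_rc_5_1 lc_h_Cert_tree lc_h_rc_40_0 lc_h_Cert_tree lc_h_Cert_tree lc_h_rc_40_0 lc_h_rc_47_1 lc_h_rc_14_1 lc_h_rc_51_1 lc_h_rc_40_0 lc_h_rc_41_0 lc_h_rc_40_0 lc_h_rc_42_1 lc_h_rc_40_0 lc_h_rc_40_0 lc_h_rc_47_1) (@D3.rec (fun _ => (Cert rels S Gen.h)) lc_h_rc_51_1 lc_h_rc_14_3 lc_h_rc_14_3 lc_h_rc_42_3 lc_h_Cert_tree lc_h_rc_40_0 lc_h_Cert_tree lc_h_Cert_tree lc_h_rc_40_0 lc_h_rc_5_1 lc_h_Cert_tree lc_h_Cert_tree lc_h_rc_40_0 lc_h_rc_29_3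 lc_h_Cert_tree lc_h_rc_40_0 lc_h_Cert_tree lc_h_rc_40_0 lc_h_rc_41_2 lc_h_rc_35_1 lc_h_rc_35_3 lc_h_rc_40_0 lc_h_rc_29_3 lc_h_rc_14_3 lc_h_rc_40_0 lc_h_rc_14_3 lc_h_rc_51_1 lc_h_rc_5_1 lc_h_Cert_tree lc_h_Cert_tree lc_h_rc_40_0 lc_h_rc_14_1 lc_h_Cert_tree lc_h_Cert_tree lc_h_rc_40_0 lc_h_rc_41_2 lc_h_rc_22_1 lc_h_rc_51_1 lc_h_rc_42_1 lc_h_rc_5_1 lc_h_Cert_tree lc_h_rc_40_0 lc_h_rc_35_3 lc_h_rc_29_3 lc_h_rc_40_0 lc_h_rc_14_1 lc_h_rc_41_2 lc_h_rc_47_1 lc_h_rc_42_1 lc_h_rc_5_1 lc_h_Cert_tree) (@D3.rec (fun _ => (Cert rels S Gen.h)) lc_h_rc_40_0 lc_h_Cert_tree lc_h_Cert_tree lc_h_rc_40_0 lc_h_rc_14_1 lc_h_Cert_tree lc_h_rc_40_0 lc_h_Cert_tree lc_h_rc_40_0 lc_h_rc_41_2 lc_h_rc_42_1 lc_h_rc_5_3 lc_h_rc_42_1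 lc_h_rc_5_1 lc_h_Cert_tree lc_h_Cert_tree lc_h_rc_40_0 lc_h_rc_29_3 lc_h_rc_51_1 lc_h_rc_40_0 lc_h_rc_51_3 lc_h_rc_40_0 lc_h_rc_41_2 lc_h_rc_41_2 lc_h_rc_41_2 lc_h_rc_41_2 lc_h_rc_47_1 lc_h_rc_5_1 lc_h_Cert_tree lc_h_Cert_tree lc_h_rc_40_0 lc_h_Cert_tree lc_h_rc_40_0 lc_h_Cert_tree lc_h_rc_40_0 lc_h_Cert_tree lc_h_Cert_tree lc_h_rc_40_0 lc_h_rc_29_3 lc_h_rc_41_2 lc_h_rc_40_0 lc_h_rc_41_2 lc_h_rc_40_1 lc_h_rc_47_1 lc_h_rc_47_1 lc_h_rc_51_1 lc_h_Cert_tree lc_h_Cert_tree lc_h_rc_40_0 lc_h_Cert_tree lc_h_rc_40_0) (@D3.rec (fun _ => (Cert rels S Gen.h)) lc_h_rc_29_3 lc_h_rc_35_1 lc_h_rc_35_1 lc_h_rc_42_1 lc_h_rc_40_0 lc_h_rc_40_0 lc_h_rc_41_2 lc_h_rc_41_2 lc_h_rc_29_5 lc_h_rc_35_3 lc_h_Cert_tree lc_h_rc_40_0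 lc_h_Cert_tree lc_h_rc_40_0 lc_h_Cert_tree lc_h_Cert_tree lc_h_rc_40_0 lc_h_Cert_tree lc_h_rc_40_0 lc_h_Cert_tree lc_h_Cert_tree lc_h_rc_40_0 lc_h_rc_14_1 lc_h_rc_40_0 lc_h_Cert_tree lc_h_rc_40_0 lc_h_rc_40_0 lc_h_rc_29_3 lc_h_rc_55_25 lc_h_rc_14_1 lc_h_rc_14_1 lc_h_Cert_tree lc_h_rc_5_1 lc_h_rc_5_1 lc_h_rc_5_1 lc_h_rc_5_1 lc_h_Cert_tree lc_h_rc_40_0 lc_h_rc_22_1 lc_h_rc_22_1 lc_h_rc_14_1 lc_h_rc_42_1 lc_h_rc_5_3 lc_h_rc_47_1 lc_h_rc_5_1 lc_h_Cert_tree lc_h_Cert_tree lc_h_rc_40_0 lc_h_rc_29_3 lc_h_rc_47_3 lc_h_rc_40_0) (@D3.rec (fun _ => (Cert rels S Gen.h)) lc_h_rc_47_3 lc_h_rc_40_0 lc_h_rc_41_2 lc_h_rc_41_2 lc_h_rc_5_3 lc_h_rc_42_1 lc_h_rc_5_3 lc_h_rc_42_1 lc_h_Cert_tree lc_h_Cert_tree lc_h_rc_40_0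 lc_h_Cert_tree lc_h_rc_40_0 lc_h_rc_29_3 lc_h_rc_35_1 lc_h_rc_51_3 lc_h_rc_40_0 lc_h_rc_29_3 lc_h_rc_40_0 lc_h_rc_41_2 lc_h_Cert_tree lc_h_rc_41_2 lc_h_rc_22_1 lc_h_rc_40_0 lc_h_rc_29_3 lc_h_rc_35_1 lc_h_rc_42_1 lc_h_rc_5_3 lc_h_rc_47_1 lc_h_rc_5_3 lc_h_Cert_tree lc_h_Cert_tree lc_h_rc_40_0 lc_h_rc_40_0 lc_h_rc_29_3 lc_h_rc_29_5 lc_h_rc_5_3 lc_h_rc_40_0 lc_h_rc_29_3 lc_h_rc_41_2 lc_h_Cert_tree lc_h_Cert_tree lc_h_rc_40_0 lc_h_rc_29_3 lc_h_rc_35_1 lc_h_rc_42_1 lc_h_rc_22_1 lc_h_rc_14_1 lc_h_Cert_tree lc_h_rc_40_0 lc_h_rc_47_1)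
def ce_h_3 : D2 → D3 → (Cert rels S Gen.h) := @D2.rec (fun _ => D3 → (Cert rels S Gen.h)) (@D3.rec (fun _ => (Cert rels S Gen.h)) lc_h_Cert_tree lc_h_Cert_tree lc_h_rc_40_0 lc_h_Cert_tree lc_h_rc_40_0 lc_h_rc_42_1 lc_h_rc_42_1 lc_h_rc_29_3 lc_h_rc_42_1 lc_h_rc_29_3 lc_h_rc_42_1 lc_h_rc_47_1 lc_h_rc_40_0 lc_h_rc_29_3 lc_h_rc_47_1 lc_h_rc_29_3 lc_h_rc_22_1 lc_h_rc_51_1 lc_h_rc_40_0 lc_h_rc_29_3 lc_h_rc_29_3 lc_h_rc_51_1 lc_h_rc_29_3 lc_h_rc_29_3 lc_h_rc_22_1 lc_h_rc_40_0 lc_h_rc_47_1 lc_h_rc_40_0 lc_h_rc_51_1 lc_h_rc_35_1 lc_h_rc_5_3 lc_h_rc_5_3 lc_h_rc_40_0 lc_h_rc_35_1 lc_h_rc_5_3 lc_h_rc_14_1 lc_h_rc_5_3 lc_h_rc_40_0 lc_h_rc_40_0 lc_h_rc_5_3 lc_h_rc_51_1 lc_h_rc_5_3 lc_h_rc_5_3 lc_h_rc_5_3 lc_h_rc_40_0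 lc_h_rc_14_1 lc_h_rc_40_0 lc_h_rc_42_1 lc_h_rc_5_1 lc_h_rc_14_3 lc_h_rc_5_1) (@D3.rec (fun _ => (Cert rels S Gen.h)) lc_h_rc_14_1 lc_h_rc_22_1 lc_h_rc_47_1 lc_h_rc_5_1 lc_h_rc_14_3 lc_h_rc_42_1 lc_h_rc_5_1 lc_h_rc_51_1 lc_h_rc_51_1 lc_h_rc_22_1 lc_h_rc_42_1 lc_h_rc_14_3 lc_h_rc_14_3 lc_h_rc_42_1 lc_h_rc_42_1 lc_h_rc_29_3 lc_h_rc_42_1 lc_h_rc_14_3 lc_h_rc_22_1 lc_h_rc_47_1 lc_h_rc_29_1 lc_h_Cert_tree lc_h_rc_40_0 lc_h_Cert_tree lc_h_rc_40_0 lc_h_rc_51_1 lc_h_rc_29_3 lc_h_rc_40_0 lc_h_rc_29_3 lc_h_rc_40_0 lc_h_rc_47_1 lc_h_Cert_tree lc_h_Cert_tree lc_h_rc_40_0 lc_h_rc_40_0 lc_h_rc_29_3 lc_h_rc_40_0 lc_h_rc_40_0 lc_h_rc_14_1 lc_h_rc_22_1 lc_h_rc_55_25 lc_h_rc_14_1 lc_h_rc_14_1 lc_h_rc_22_1 lc_h_rc_5_1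 lc_h_rc_5_1 lc_h_rc_5_1 lc_h_rc_22_1 lc_h_rc_47_1 lc_h_rc_22_1 lc_h_rc_42_1) (@D3.rec (fun _ => (Cert rels S Gen.h)) lc_h_rc_22_1 lc_h_rc_35_1 lc_h_rc_40_0 lc_h_rc_29_3 lc_h_rc_22_1 lc_h_rc_35_1 lc_h_rc_14_1 lc_h_rc_22_1 lc_h_rc_42_1 lc_h_rc_22_1 lc_h_rc_35_1 lc_h_rc_14_1 lc_h_rc_22_1 lc_h_rc_42_1 lc_h_rc_5_1 lc_h_rc_14_1 lc_h_Cert_tree lc_h_rc_22_1 lc_h_rc_47_1 lc_h_rc_5_1 lc_h_rc_14_1 lc_h_Cert_tree lc_h_rc_22_1 lc_h_rc_47_1 lc_h_rc_5_1 lc_h_Cert_tree lc_h_rc_14_1 lc_h_Cert_tree lc_h_rc_40_0 lc_h_rc_22_1 lc_h_rc_51_1 lc_h_Cert_tree lc_h_rc_5_1 lc_h_Cert_tree lc_h_Cert_tree lc_h_rc_40_0 lc_h_rc_14_1 lc_h_Cert_tree lc_h_Cert_tree lc_h_rc_40_0 lc_h_rc_41_2 lc_h_rc_22_1 lc_h_rc_22_1 lc_h_rc_35_1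 lc_h_rc_14_1 lc_h_rc_22_1 lc_h_rc_42_1 lc_h_rc_14_1 lc_h_rc_35_1 lc_h_rc_35_1 lc_h_rc_5_1) (@D3.rec (fun _ => (Cert rels S Gen.h)) lc_h_rc_14_1 lc_h_Cert_tree lc_h_rc_22_1 lc_h_rc_47_1 lc_h_rc_14_1 lc_h_Cert_tree lc_h_rc_35_1 lc_h_rc_35_1 lc_h_rc_5_1 lc_h_Cert_tree lc_h_rc_14_1 lc_h_Cert_tree lc_h_rc_40_0 lc_h_rc_22_1 lc_h_rc_51_1 lc_h_rc_14_1 lc_h_Cert_tree lc_h_rc_22_1 lc_h_rc_47_1 lc_h_rc_5_1 lc_h_Cert_tree lc_h_rc_14_1 lc_h_Cert_tree lc_h_rc_40_0 lc_h_rc_22_1 lc_h_rc_51_1 lc_h_Cert_tree lc_h_rc_14_1 lc_h_Cert_tree lc_h_rc_40_0 lc_h_rc_22_1 lc_h_rc_51_1 lc_h_Cert_tree lc_h_rc_5_1 lc_h_Cert_tree lc_h_Cert_tree lc_h_rc_40_0 lc_h_rc_14_1 lc_h_Cert_tree lc_h_Cert_tree lc_h_rc_40_0 lc_h_rc_41_2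 lc_h_rc_22_1 lc_h_Cert_tree lc_h_Cert_tree lc_h_rc_40_0 lc_h_rc_14_1 lc_h_Cert_tree lc_h_Cert_tree lc_h_rc_40_0 lc_h_rc_41_2) (@D3.rec (fun _ => (Cert rels S Gen.h)) lc_h_rc_22_1 lc_h_Cert_tree lc_h_Cert_tree lc_h_rc_40_0 lc_h_rc_5_1 lc_h_Cert_tree lc_h_rc_40_0 lc_h_Cert_tree lc_h_Cert_tree lc_h_rc_40_0 lc_h_rc_14_1 lc_h_rc_14_1 lc_h_Cert_tree lc_h_rc_40_0 lc_h_Cert_tree lc_h_rc_40_0 lc_h_rc_41_2 lc_h_rc_5_1 lc_h_rc_14_1 lc_h_Cert_tree lc_h_rc_22_1 lc_h_rc_47_1 lc_h_rc_5_1 lc_h_Cert_tree lc_h_rc_14_1 lc_h_Cert_tree lc_h_rc_40_0 lc_h_rc_22_1 lc_h_rc_51_1 lc_h_Cert_tree lc_h_rc_5_1 lc_h_Cert_tree lc_h_Cert_tree lc_h_rc_40_0 lc_h_rc_14_1 lc_h_Cert_tree lc_h_Cert_tree lc_h_rc_40_0 lc_h_rc_41_2 lc_h_rc_51_1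 lc_h_rc_5_1 lc_h_Cert_tree lc_h_rc_14_1 lc_h_Cert_tree lc_h_rc_40_0 lc_h_rc_22_1 lc_h_rc_51_1 lc_h_Cert_tree lc_h_rc_5_1 lc_h_Cert_tree lc_h_Cert_tree) (@D3.rec (fun _ => (Cert rels S Gen.h)) lc_h_rc_40_0 lc_h_rc_14_1 lc_h_Cert_tree lc_h_Cert_tree lc_h_rc_40_0 lc_h_rc_41_2 lc_h_rc_22_1 lc_h_Cert_tree lc_h_Cert_tree lc_h_rc_40_0 lc_h_rc_5_1 lc_h_Cert_tree lc_h_rc_40_0 lc_h_Cert_tree lc_h_Cert_tree lc_h_rc_40_0 lc_h_rc_14_1 lc_h_rc_14_1 lc_h_Cert_tree lc_h_rc_40_0 lc_h_Cert_tree lc_h_rc_40_0 lc_h_rc_41_2 lc_h_Cert_tree lc_h_rc_5_1 lc_h_Cert_tree lc_h_Cert_tree lc_h_rc_40_0 lc_h_rc_14_1 lc_h_Cert_tree lc_h_Cert_tree lc_h_rc_40_0 lc_h_rc_29_3 lc_h_rc_22_1 lc_h_Cert_tree lc_h_Cert_tree lc_h_rc_40_0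 lc_h_rc_5_1 lc_h_Cert_tree lc_h_rc_40_0 lc_h_Cert_tree lc_h_Cert_tree lc_h_rc_40_0 lc_h_rc_14_1 lc_h_rc_14_1 lc_h_Cert_tree lc_h_rc_40_0 lc_h_Cert_tree lc_h_rc_40_0 lc_h_rc_41_2 lc_h_Cert_tree) (@D3.rec (fun _ => (Cert rels S Gen.h)) lc_h_Cert_tree lc_h_rc_40_0 lc_h_Cert_tree lc_h_Cert_tree lc_h_rc_40_0 lc_h_rc_5_1 lc_h_rc_5_1 lc_h_Cert_tree lc_h_Cert_tree lc_h_rc_40_0 lc_h_rc_29_3 lc_h_rc_22_1 lc_h_Cert_tree lc_h_rc_40_0 lc_h_Cert_tree lc_h_rc_40_0 lc_h_rc_14_1 lc_h_Cert_tree lc_h_Cert_tree lc_h_rc_40_0 lc_h_rc_29_3 lc_h_rc_41_2 lc_h_rc_40_0 lc_h_rc_41_2 lc_h_rc_14_1 lc_h_rc_22_3 lc_h_rc_47_1 lc_h_rc_22_1 lc_h_rc_5_1 lc_h_rc_29_5 lc_h_rc_35_3 lc_h_rc_14_1 lc_h_Cert_tree lc_h_rc_40_0 lc_h_Cert_tree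 lc_h_rc_40_0 lc_h_rc_41_4 lc_h_rc_41_4 lc_h_rc_5_1 lc_h_rc_41_4 lc_h_rc_41_4 lc_h_Cert_tree lc_h_rc_40_0 lc_h_Cert_tree lc_h_rc_40_0 lc_h_Cert_tree lc_h_Cert_tree lc_h_rc_40_0 lc_h_rc_29_3 lc_h_rc_41_2 lc_h_rc_40_0) (@D3.rec (fun _ => (Cert rels S Gen.h)) lc_h_rc_41_2 lc_h_rc_5_3 lc_h_rc_5_3 lc_h_Cert_tree lc_h_rc_40_0 lc_h_Cert_tree lc_h_rc_40_0 lc_h_Cert_tree lc_h_Cert_tree lc_h_rc_40_0 lc_h_Cert_tree lc_h_rc_40_0 lc_h_Cert_tree lc_h_Cert_tree lc_h_rc_40_0 lc_h_rc_14_1 lc_h_rc_5_1 lc_h_rc_40_0 lc_h_rc_5_1 lc_h_Cert_tree lc_h_rc_40_0 lc_h_rc_40_0 lc_h_rc_29_3 lc_h_rc_41_2 lc_h_rc_22_1 lc_h_Cert_tree lc_h_rc_41_2 lc_h_rc_40_0 lc_h_rc_29_3 lc_h_rc_22_1 lc_h_rc_35_1 lc_h_rc_47_1 lc_h_rc_22_1 lc_h_rc_42_1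 lc_h_rc_5_1 lc_h_rc_14_1 lc_h_Cert_tree lc_h_rc_42_1 lc_h_rc_42_1 lc_h_rc_22_1 lc_h_rc_29_3 lc_h_rc_22_1 lc_h_rc_42_1 lc_h_rc_5_1 lc_h_Cert_tree lc_h_rc_22_1 lc_h_rc_47_1 lc_h_rc_5_1 lc_h_Cert_tree lc_h_rc_14_1 lc_h_Cert_tree) (@D3.rec (fun _ => (Cert rels S Gen.h)) lc_h_rc_40_0 lc_h_rc_35_1 lc_h_rc_35_1 lc_h_rc_22_1 lc_h_rc_29_3 lc_h_Cert_tree lc_h_rc_22_1 lc_h_rc_47_1 lc_h_Cert_tree lc_h_rc_5_1 lc_h_Cert_tree lc_h_rc_40_0 lc_h_rc_22_1 lc_h_rc_51_1 lc_h_rc_5_3 lc_h_rc_5_1 lc_h_rc_5_1 lc_h_Cert_tree lc_h_rc_40_0 lc_h_rc_14_1 lc_h_Cert_tree lc_h_Cert_tree lc_h_rc_40_0 lc_h_rc_41_2 lc_h_rc_35_1 lc_h_Cert_tree lc_h_rc_22_1 lc_h_rc_47_1 lc_h_Cert_tree lc_h_rc_42_1 lc_h_Cert_tree lc_h_rc_40_0 lc_h_rc_22_1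 lc_h_rc_51_1 lc_h_Cert_tree lc_h_rc_5_1 lc_h_Cert_tree lc_h_Cert_tree lc_h_rc_40_0 lc_h_rc_14_1 lc_h_Cert_tree lc_h_Cert_tree lc_h_rc_40_0 lc_h_rc_41_2 lc_h_rc_22_1 lc_h_Cert_tree lc_h_rc_40_0 lc_h_rc_22_1 lc_h_rc_51_1 lc_h_Cert_tree lc_h_Cert_tree) (@D3.rec (fun _ => (Cert rels S Gen.h)) lc_h_rc_40_0 lc_h_rc_42_1 lc_h_Cert_tree lc_h_Cert_tree lc_h_rc_40_0 lc_h_rc_41_2 lc_h_rc_22_1 lc_h_Cert_tree lc_h_Cert_tree lc_h_rc_40_0 lc_h_rc_5_1 lc_h_Cert_tree lc_h_rc_40_0 lc_h_Cert_tree lc_h_Cert_tree lc_h_rc_40_0 lc_h_rc_14_1 lc_h_rc_14_1 lc_h_Cert_tree lc_h_rc_40_0 lc_h_Cert_tree lc_h_rc_40_0 lc_h_rc_41_2 lc_h_Cert_tree lc_h_Cert_tree lc_h_rc_40_0 lc_h_rc_41_2 lc_h_rc_22_1 lc_h_Cert_tree lc_h_rc_40_0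 lc_h_Cert_tree lc_h_Cert_tree lc_h_rc_40_0 lc_h_rc_14_1 lc_h_rc_22_1 lc_h_Cert_tree lc_h_rc_40_0 lc_h_Cert_tree lc_h_rc_40_0 lc_h_rc_41_2 lc_h_Cert_tree lc_h_Cert_tree lc_h_rc_40_0 lc_h_Cert_tree lc_h_Cert_tree lc_h_rc_40_0 lc_h_rc_22_3 lc_h_rc_5_1 lc_h_Cert_tree lc_h_Cert_tree lc_h_rc_40_0) (@D3.rec (fun _ => (Cert rels S Gen.h)) lc_h_rc_29_3 lc_h_rc_22_1 lc_h_Cert_tree lc_h_rc_40_0 lc_h_Cert_tree lc_h_rc_40_0 lc_h_rc_14_1 lc_h_Cert_tree lc_h_Cert_tree lc_h_rc_40_0 lc_h_rc_29_3 lc_h_rc_41_2 lc_h_rc_40_0 lc_h_rc_41_2 lc_h_Cert_tree lc_h_rc_5_1 lc_h_Cert_tree lc_h_Cert_tree lc_h_rc_40_0 lc_h_rc_14_1 lc_h_Cert_tree lc_h_Cert_tree lc_h_rc_40_0 lc_h_rc_41_2 lc_h_rc_22_1 lc_h_Cert_tree lc_h_Cert_tree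 lc_h_rc_40_0 lc_h_rc_5_1 lc_h_Cert_tree lc_h_rc_40_0 lc_h_Cert_tree lc_h_Cert_tree lc_h_rc_40_0 lc_h_rc_14_1 lc_h_rc_14_1 lc_h_Cert_tree lc_h_rc_40_0 lc_h_Cert_tree lc_h_rc_40_0 lc_h_rc_41_2 lc_h_Cert_tree lc_h_Cert_tree lc_h_rc_40_0 lc_h_rc_5_1 lc_h_Cert_tree lc_h_rc_40_0 lc_h_Cert_tree lc_h_Cert_tree lc_h_rc_40_0 lc_h_rc_14_1) (@D3.rec (fun _ => (Cert rels S Gen.h)) lc_h_rc_14_1 lc_h_Cert_tree lc_h_rc_40_0 lc_h_Cert_tree lc_h_rc_40_0 lc_h_rc_41_2 lc_h_rc_22_3 lc_h_Cert_tree lc_h_rc_40_0 lc_h_Cert_tree lc_h_Cert_tree lc_h_rc_40_0 lc_h_rc_5_1 lc_h_rc_5_1 lc_h_Cert_tree lc_h_Cert_tree lc_h_rc_40_0 lc_h_rc_29_3 lc_h_rc_22_1 lc_h_Cert_tree lc_h_rc_40_0 lc_h_Cert_tree lc_h_rc_40_0 lc_h_rc_14_1 lc_h_Cert_tree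 lc_h_Cert_tree lc_h_rc_40_0 lc_h_rc_29_3 lc_h_rc_41_2 lc_h_rc_40_0 lc_h_rc_41_2 lc_h_rc_29_3 lc_h_Cert_tree lc_h_rc_40_0 lc_h_Cert_tree lc_h_Cert_tree lc_h_rc_40_0 lc_h_rc_5_1 lc_h_rc_5_1 lc_h_Cert_tree lc_h_Cert_tree lc_h_rc_40_0 lc_h_rc_14_1 lc_h_rc_22_1 lc_h_Cert_tree lc_h_rc_40_0 lc_h_Cert_tree lc_h_rc_40_0 lc_h_rc_14_1 lc_h_Cert_tree lc_h_Cert_tree) (@D3.rec (fun _ => (Cert rels S Gen.h)) lc_h_rc_40_0 lc_h_rc_29_3 lc_h_rc_41_2 lc_h_rc_40_0 lc_h_rc_41_2 lc_h_rc_14_3 lc_h_Cert_tree lc_h_Cert_tree lc_h_rc_40_0 lc_h_rc_5_1 lc_h_Cert_tree lc_h_rc_40_0 lc_h_Cert_tree lc_h_rc_40_0 lc_h_rc_5_1 lc_h_Cert_tree lc_h_Cert_tree lc_h_rc_40_0 lc_h_Cert_tree lc_h_rc_40_0 lc_h_rc_29_3 lc_h_rc_22_1 lc_h_rc_35_1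 lc_h_rc_41_2 lc_h_Cert_tree lc_h_Cert_tree lc_h_rc_40_0 lc_h_rc_14_1 lc_h_rc_14_1 lc_h_rc_40_0 lc_h_rc_14_1 lc_h_Cert_tree lc_h_rc_40_0 lc_h_rc_40_0 lc_h_rc_29_3 lc_h_rc_41_2 lc_h_rc_22_1 lc_h_Cert_tree lc_h_rc_41_2 lc_h_rc_41_4 lc_h_rc_51_1 lc_h_Cert_tree lc_h_rc_41_4 lc_h_rc_51_1 lc_h_Cert_tree lc_h_Cert_tree lc_h_rc_40_0 lc_h_rc_14_1 lc_h_rc_40_0 lc_h_Cert_tree lc_h_rc_40_0) (@D3.rec (fun _ => (Cert rels S Gen.h)) lc_h_rc_40_0 lc_h_rc_29_3 lc_h_rc_41_2 lc_h_rc_22_1 lc_h_Cert_tree lc_h_rc_41_2 lc_h_Cert_tree lc_h_rc_5_3 lc_h_rc_5_3 lc_h_Cert_tree lc_h_Cert_tree lc_h_rc_40_0 lc_h_rc_5_1 lc_h_rc_40_0 lc_h_Cert_tree lc_h_rc_40_0 lc_h_Cert_tree lc_h_Cert_tree lc_h_rc_40_0 lc_h_rc_29_3 lc_h_rc_40_0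 lc_h_Cert_tree lc_h_rc_40_0 lc_h_rc_40_0 lc_h_rc_14_1 lc_h_rc_5_1 lc_h_rc_22_1 lc_h_Cert_tree lc_h_rc_22_1 lc_h_Cert_tree lc_h_rc_40_0 lc_h_rc_42_1 lc_h_rc_42_1 lc_h_rc_29_3 lc_h_rc_41_2 lc_h_rc_22_1 lc_h_Cert_tree lc_h_rc_14_1 lc_h_Cert_tree lc_h_rc_40_0 lc_h_Cert_tree lc_h_rc_40_0 lc_h_Cert_tree lc_h_Cert_tree lc_h_rc_40_0 lc_h_rc_5_1 lc_h_rc_5_1 lc_h_Cert_tree lc_h_Cert_tree lc_h_rc_40_0 lc_h_rc_29_3) (@D3.rec (fun _ => (Cert rels S Gen.h)) lc_h_rc_22_1 lc_h_Cert_tree lc_h_rc_40_0 lc_h_Cert_tree lc_h_rc_40_0 lc_h_rc_14_1 lc_h_Cert_tree lc_h_Cert_tree lc_h_rc_40_0 lc_h_rc_29_3 lc_h_rc_41_2 lc_h_rc_40_0 lc_h_rc_41_2 lc_h_Cert_tree lc_h_Cert_tree lc_h_rc_40_0 lc_h_rc_5_1 lc_h_Cert_tree lc_h_rc_40_0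 lc_h_Cert_tree lc_h_rc_40_0 lc_h_rc_5_1 lc_h_Cert_tree lc_h_Cert_tree lc_h_rc_40_0 lc_h_Cert_tree lc_h_rc_40_0 lc_h_rc_29_3 lc_h_rc_22_1 lc_h_rc_35_1 lc_h_rc_22_3 lc_h_Cert_tree lc_h_Cert_tree lc_h_rc_40_0 lc_h_rc_29_3 lc_h_rc_14_1 lc_h_rc_40_0 lc_h_rc_14_1 lc_h_Cert_tree lc_h_rc_40_0 lc_h_rc_40_0 lc_h_rc_29_3 lc_h_rc_41_2 lc_h_rc_22_1 lc_h_Cert_tree lc_h_rc_41_2 lc_h_Cert_tree lc_h_rc_40_0 lc_h_Cert_tree lc_h_rc_40_0 lc_h_rc_5_1) (@D3.rec (fun _ => (Cert rels S Gen.h)) lc_h_Cert_tree lc_h_Cert_tree lc_h_rc_40_0 lc_h_rc_5_1 lc_h_rc_5_1 lc_h_rc_40_0 lc_h_rc_5_1 lc_h_Cert_tree lc_h_Cert_tree lc_h_rc_40_0 lc_h_rc_29_3 lc_h_rc_22_1 lc_h_rc_40_0 lc_h_rc_29_3 lc_h_rc_22_1 lc_h_rc_35_1 lc_h_rc_22_3 lc_h_rc_42_1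 lc_h_rc_55_25 lc_h_Cert_tree lc_h_rc_40_0 lc_h_rc_40_0 lc_h_rc_14_1 lc_h_rc_14_1 lc_h_rc_22_1 lc_h_Cert_tree lc_h_rc_14_1 lc_h_Cert_tree lc_h_rc_40_0 lc_h_rc_42_1 lc_h_rc_42_1 lc_h_rc_29_3 lc_h_rc_41_2 lc_h_rc_22_1 lc_h_Cert_tree lc_h_rc_14_1 lc_h_Cert_tree lc_h_rc_40_0 lc_h_Cert_tree lc_h_rc_40_0 lc_h_rc_40_0 lc_h_rc_5_1 lc_h_rc_5_1 lc_h_rc_5_1 lc_h_Cert_tree lc_h_rc_5_1 lc_h_rc_47_3 lc_h_rc_40_0 lc_h_rc_14_1 lc_h_rc_14_1 lc_h_rc_14_1) (@D3.rec (fun _ => (Cert rels S Gen.h)) lc_h_rc_14_1 lc_h_rc_22_1 lc_h_Cert_tree lc_h_rc_14_1 lc_h_Cert_tree lc_h_rc_40_0 lc_h_rc_42_1 lc_h_rc_22_1 lc_h_rc_35_1 lc_h_rc_41_4 lc_h_rc_14_1 lc_h_rc_40_0 lc_h_rc_5_1 lc_h_Cert_tree lc_h_rc_40_0 lc_h_rc_5_1 lc_h_rc_47_1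 lc_h_Cert_tree lc_h_rc_40_0 lc_h_rc_42_1 lc_h_rc_42_1 lc_h_rc_29_3 lc_h_rc_42_1 lc_h_rc_5_1 lc_h_rc_29_3 lc_h_rc_42_1 lc_h_rc_47_1 lc_h_rc_5_1 lc_h_rc_5_3 lc_h_rc_14_1 lc_h_rc_29_3 lc_h_rc_47_1 lc_h_rc_29_3 lc_h_rc_5_1 lc_h_rc_29_3 lc_h_rc_22_1 lc_h_rc_51_1 lc_h_Cert_tree lc_h_rc_5_1 lc_h_Cert_tree lc_h_rc_47_1 lc_h_rc_40_0 lc_h_rc_14_1 lc_h_rc_29_3 lc_h_rc_51_1 lc_h_rc_22_1 lc_h_rc_29_3 lc_h_rc_5_1 lc_h_rc_29_3 lc_h_rc_29_3 lc_h_rc_22_1) (@D3.rec (fun _ => (Cert rels S Gen.h)) lc_h_rc_14_1 lc_h_Cert_tree lc_h_rc_40_0 lc_h_rc_5_1 lc_h_Cert_tree lc_h_rc_40_0 lc_h_rc_47_1 lc_h_rc_51_1 lc_h_rc_40_0 lc_h_rc_14_1 lc_h_rc_51_1 lc_h_rc_51_1 lc_h_rc_42_1 lc_h_rc_47_1 lc_h_rc_22_3 lc_h_rc_47_1 lc_h_rc_47_1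 lc_h_Cert_tree lc_h_Cert_tree lc_h_rc_40_0 lc_h_rc_5_1 lc_h_Cert_tree lc_h_rc_40_0 lc_h_rc_29_1 lc_h_rc_35_1 lc_h_rc_40_0 lc_h_rc_51_1 lc_h_rc_14_1 lc_h_rc_42_1 lc_h_rc_42_1 lc_h_rc_5_1 lc_h_rc_42_1 lc_h_rc_42_1 lc_h_rc_22_3 lc_h_rc_42_1 lc_h_rc_47_1 lc_h_Cert_tree lc_h_rc_40_0 lc_h_Cert_tree lc_h_Cert_tree lc_h_rc_40_0 lc_h_rc_5_1 lc_h_Cert_tree lc_h_Cert_tree lc_h_rc_40_0 lc_h_rc_29_3 lc_h_rc_51_1 lc_h_rc_40_0 lc_h_rc_51_3 lc_h_rc_40_0 lc_h_rc_42_1) (@D3.rec (fun _ => (Cert rels S Gen.h)) lc_h_rc_14_3 lc_h_rc_42_1 lc_h_rc_35_1 lc_h_rc_47_1 lc_h_rc_47_1 lc_h_rc_51_1 lc_h_rc_42_1 lc_h_rc_14_3 lc_h_rc_41_2 lc_h_Cert_tree lc_h_Cert_tree lc_h_rc_40_0 lc_h_Cert_tree lc_h_rc_40_0 lc_h_Cert_tree lc_h_rc_40_0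 lc_h_Cert_tree lc_h_Cert_tree lc_h_rc_40_0 lc_h_Cert_tree lc_h_rc_40_0 lc_h_rc_29_3 lc_h_rc_35_1 lc_h_rc_42_3 lc_h_rc_35_3 lc_h_rc_40_0 lc_h_rc_14_1 lc_h_rc_41_2 lc_h_rc_40_0 lc_h_rc_47_1 lc_h_rc_14_3 lc_h_rc_29_3 lc_h_rc_14_3 lc_h_rc_51_1 lc_h_rc_42_1 lc_h_rc_5_1 lc_h_Cert_tree lc_h_rc_40_0 lc_h_rc_14_3 lc_h_rc_35_1 lc_h_rc_40_0 lc_h_rc_14_1 lc_h_rc_40_0 lc_h_rc_40_0 lc_h_rc_41_2 lc_h_rc_42_1 lc_h_rc_35_1 lc_h_rc_47_1 lc_h_rc_5_1 lc_h_rc_41_0 lc_h_rc_41_0) (@D3.rec (fun _ => (Cert rels S Gen.h)) lc_h_rc_40_0 lc_h_rc_29_3 lc_h_rc_42_1 lc_h_rc_5_3 lc_h_rc_42_1 lc_h_rc_5_1 lc_h_Cert_tree lc_h_Cert_tree lc_h_rc_40_0 lc_h_rc_47_3 lc_h_rc_40_0 lc_h_rc_47_1 lc_h_rc_40_0 lc_h_rc_40_0 lc_h_rc_29_3 lc_h_rc_41_2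 lc_h_rc_40_0 lc_h_rc_41_2 lc_h_rc_5_3 lc_h_rc_42_1 lc_h_rc_35_1 lc_h_rc_42_1 lc_h_Cert_tree lc_h_rc_51_1 lc_h_rc_40_0 lc_h_rc_51_3 lc_h_rc_40_0 lc_h_rc_29_3 lc_h_rc_35_1 lc_h_rc_41_2 lc_h_rc_47_1 lc_h_rc_47_1 lc_h_rc_51_1 lc_h_Cert_tree lc_h_Cert_tree lc_h_rc_40_0 lc_h_Cert_tree lc_h_rc_40_0 lc_h_rc_41_4 lc_h_rc_42_1 lc_h_rc_40_0 lc_h_rc_14_1 lc_h_rc_40_0 lc_h_rc_40_0 lc_h_rc_40_0 lc_h_rc_29_3 lc_h_rc_41_2 lc_h_rc_29_3 lc_h_rc_41_2 lc_h_Cert_tree lc_h_rc_47_1) (@D3.rec (fun _ => (Cert rels S Gen.h)) lc_h_rc_51_1 lc_h_rc_42_1 lc_h_rc_51_1 lc_h_Cert_tree lc_h_rc_40_0 lc_h_rc_35_1 lc_h_rc_41_0 lc_h_rc_40_0 lc_h_rc_29_3 lc_h_rc_40_0 lc_h_rc_29_3 lc_h_rc_35_1 lc_h_rc_42_1 lc_h_Cert_tree lc_h_rc_29_5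 lc_h_rc_35_3 lc_h_Cert_tree lc_h_Cert_tree lc_h_rc_40_0 lc_h_rc_29_3 lc_h_rc_40_0 lc_h_Cert_tree lc_h_rc_40_0 lc_h_Cert_tree lc_h_Cert_tree lc_h_rc_40_0 lc_h_rc_29_3 lc_h_rc_40_0 lc_h_rc_47_1 lc_h_rc_40_0 lc_h_rc_40_0 lc_h_rc_14_1 lc_h_rc_22_1 lc_h_rc_40_0 lc_h_rc_40_0 lc_h_rc_51_1 lc_h_rc_22_1 lc_h_rc_5_1 lc_h_Cert_tree lc_h_rc_14_1 lc_h_rc_14_1 lc_h_Cert_tree lc_h_rc_40_0 lc_h_rc_5_1 lc_h_rc_5_1 lc_h_rc_5_1 lc_h_Cert_tree lc_h_Cert_tree lc_h_rc_40_0 lc_h_rc_41_2 lc_h_rc_22_1) (@D3.rec (fun _ => (Cert rels S Gen.h)) lc_h_rc_5_3 lc_h_rc_47_1 lc_h_rc_35_1 lc_h_rc_35_1 lc_h_Cert_tree lc_h_rc_47_3 lc_h_rc_40_0 lc_h_rc_35_1 lc_h_rc_40_0 lc_h_rc_29_3 lc_h_rc_35_1 lc_h_Cert_tree lc_h_rc_5_3 lc_h_rc_42_1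 lc_h_rc_35_1 lc_h_Cert_tree lc_h_rc_40_0 lc_h_rc_51_3 lc_h_rc_40_0 lc_h_rc_29_3 lc_h_rc_40_0 lc_h_rc_29_3 lc_h_rc_35_1 lc_h_rc_42_1 lc_h_rc_22_1 lc_h_rc_40_0 lc_h_rc_29_3 lc_h_rc_35_1 lc_h_rc_42_1 lc_h_rc_47_1 lc_h_Cert_tree lc_h_rc_5_3 lc_h_rc_42_1 lc_h_Cert_tree lc_h_rc_40_0 lc_h_rc_5_3 lc_h_rc_40_0 lc_h_rc_29_3 lc_h_rc_29_3 lc_h_rc_35_1 lc_h_rc_42_1 lc_h_rc_22_1 lc_h_rc_40_0 lc_h_rc_40_0 lc_h_rc_29_3 lc_h_rc_41_2 lc_h_rc_22_1 lc_h_rc_35_1 lc_h_rc_42_1 lc_h_rc_47_1 lc_h_rc_14_1) (@D3.rec (fun _ => (Cert rels S Gen.h)) lc_h_rc_14_3 lc_h_rc_40_0 lc_h_rc_51_1 lc_h_Cert_tree lc_h_rc_40_0 lc_h_Cert_tree lc_h_rc_40_0 lc_h_rc_40_0 lc_h_rc_35_1 lc_h_rc_35_1 lc_h_rc_42_1 lc_h_rc_47_1 lc_h_rc_29_3 lc_h_rc_29_3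 lc_h_rc_51_1 lc_h_rc_35_1 lc_h_rc_29_3 lc_h_rc_29_3 lc_h_rc_29_1 lc_h_rc_47_1 lc_h_rc_51_1 lc_h_rc_47_1 lc_h_rc_22_1 lc_h_rc_56_13 lc_h_rc_40_0 lc_h_rc_40_0 lc_h_rc_40_0 lc_h_rc_40_0 lc_h_rc_29_3 lc_h_rc_14_1 lc_h_rc_47_1 lc_h_rc_14_1 lc_h_rc_14_1 lc_h_rc_35_1 lc_h_rc_42_1 lc_h_rc_22_1 lc_h_rc_35_1 lc_h_rc_14_1 lc_h_rc_22_1 lc_h_rc_42_1 lc_h_rc_5_1 lc_h_rc_14_1 lc_h_rc_14_1 lc_h_rc_22_1 lc_h_rc_47_1 lc_h_rc_14_1 lc_h_rc_22_1 lc_h_rc_42_1 lc_h_rc_5_1 lc_h_rc_14_1 lc_h_Cert_tree) (@D3.rec (fun _ => (Cert rels S Gen.h)) lc_h_rc_22_1 lc_h_rc_47_1 lc_h_rc_5_1 lc_h_rc_14_3 lc_h_rc_14_1 lc_h_Cert_tree lc_h_rc_40_0 lc_h_rc_22_1 lc_h_rc_51_1 lc_h_rc_5_1 lc_h_Cert_tree lc_h_rc_14_1 lc_h_Cert_tree lc_h_rc_40_0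 lc_h_rc_22_1 lc_h_rc_51_1 lc_h_Cert_tree lc_h_rc_5_1 lc_h_Cert_tree lc_h_Cert_tree lc_h_rc_40_0 lc_h_rc_14_1 lc_h_Cert_tree lc_h_Cert_tree lc_h_rc_40_0 lc_h_rc_41_2 lc_h_rc_22_1 lc_h_Cert_tree lc_h_Cert_tree lc_h_rc_40_0 lc_h_rc_5_1 lc_h_Cert_tree lc_h_rc_40_0 lc_h_Cert_tree lc_h_Cert_tree lc_h_rc_40_0 lc_h_rc_14_1 lc_h_rc_14_1 lc_h_Cert_tree lc_h_rc_40_0 lc_h_Cert_tree lc_h_rc_40_0 lc_h_rc_41_2 lc_h_rc_14_1 lc_h_rc_35_1 lc_h_rc_42_1 lc_h_rc_5_1 lc_h_rc_14_1 lc_h_Cert_tree lc_h_rc_22_1 lc_h_rc_47_1) (@D3.rec (fun _ => (Cert rels S Gen.h)) lc_h_rc_14_1 lc_h_Cert_tree lc_h_rc_35_1 lc_h_rc_35_1 lc_h_rc_5_1 lc_h_Cert_tree lc_h_rc_14_1 lc_h_Cert_tree lc_h_rc_40_0 lc_h_rc_22_1 lc_h_rc_51_1 lc_h_Cert_tree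 lc_h_rc_14_1 lc_h_Cert_tree lc_h_rc_40_0 lc_h_rc_35_1 lc_h_rc_35_1 lc_h_rc_5_3 lc_h_rc_5_1 lc_h_rc_5_1 lc_h_Cert_tree lc_h_rc_40_0 lc_h_rc_14_1 lc_h_Cert_tree lc_h_Cert_tree lc_h_rc_40_0 lc_h_rc_41_2 lc_h_rc_22_1 lc_h_Cert_tree lc_h_rc_14_1 lc_h_Cert_tree lc_h_rc_40_0 lc_h_rc_22_1 lc_h_rc_51_1 lc_h_Cert_tree lc_h_rc_5_1 lc_h_Cert_tree lc_h_Cert_tree lc_h_rc_40_0 lc_h_rc_14_1 lc_h_Cert_tree lc_h_Cert_tree lc_h_rc_40_0 lc_h_rc_41_2 lc_h_rc_22_1 lc_h_Cert_tree lc_h_Cert_tree lc_h_rc_40_0 lc_h_rc_14_1 lc_h_Cert_tree lc_h_Cert_tree) (@D3.rec (fun _ => (Cert rels S Gen.h)) lc_h_rc_40_0 lc_h_rc_41_2 lc_h_rc_22_1 lc_h_Cert_tree lc_h_Cert_tree lc_h_rc_40_0 lc_h_rc_5_1 lc_h_Cert_tree lc_h_rc_40_0 lc_h_Cert_tree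 lc_h_Cert_tree lc_h_rc_40_0 lc_h_rc_14_1 lc_h_rc_14_1 lc_h_Cert_tree lc_h_rc_40_0 lc_h_Cert_tree lc_h_rc_40_0 lc_h_rc_41_2 lc_h_Cert_tree lc_h_rc_40_0 lc_h_Cert_tree lc_h_Cert_tree lc_h_rc_40_0 lc_h_rc_14_1 lc_h_rc_14_1 lc_h_Cert_tree lc_h_rc_40_0 lc_h_Cert_tree lc_h_rc_40_0 lc_h_rc_41_2 lc_h_Cert_tree lc_h_Cert_tree lc_h_rc_40_0 lc_h_Cert_tree lc_h_Cert_tree lc_h_rc_40_0 lc_h_rc_14_1 lc_h_rc_5_1 lc_h_Cert_tree lc_h_Cert_tree lc_h_rc_40_0 lc_h_rc_29_3 lc_h_rc_22_1 lc_h_Cert_tree lc_h_rc_40_0 lc_h_Cert_tree lc_h_rc_40_0 lc_h_rc_14_1 lc_h_Cert_tree lc_h_Cert_tree) (@D3.rec (fun _ => (Cert rels S Gen.h)) lc_h_rc_40_0 lc_h_rc_29_3 lc_h_rc_41_2 lc_h_rc_40_0 lc_h_rc_41_2 lc_h_rc_5_1 lc_h_Cert_tree lc_h_rc_14_1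 lc_h_Cert_tree lc_h_rc_40_0 lc_h_rc_22_1 lc_h_rc_51_1 lc_h_Cert_tree lc_h_rc_5_1 lc_h_Cert_tree lc_h_Cert_tree lc_h_rc_40_0 lc_h_rc_14_1 lc_h_Cert_tree lc_h_Cert_tree lc_h_rc_40_0 lc_h_rc_41_2 lc_h_rc_22_1 lc_h_Cert_tree lc_h_Cert_tree lc_h_rc_40_0 lc_h_rc_5_1 lc_h_Cert_tree lc_h_rc_40_0 lc_h_Cert_tree lc_h_Cert_tree lc_h_rc_40_0 lc_h_rc_14_1 lc_h_rc_14_1 lc_h_Cert_tree lc_h_rc_40_0 lc_h_Cert_tree lc_h_rc_40_0 lc_h_rc_41_2 lc_h_Cert_tree lc_h_rc_5_1 lc_h_Cert_tree lc_h_Cert_tree lc_h_rc_40_0 lc_h_rc_14_1 lc_h_Cert_tree lc_h_Cert_tree lc_h_rc_40_0 lc_h_rc_29_3 lc_h_rc_22_1 lc_h_Cert_tree)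
def ce_h_4 : D2 → D3 → (Cert rels S Gen.h) := @D2.rec (fun _ => D3 → (Cert rels S Gen.h)) (@D3.rec (fun _ => (Cert rels S Gen.h)) lc_h_Cert_tree lc_h_rc_40_0 lc_h_rc_5_1 lc_h_Cert_tree lc_h_rc_40_0 lc_h_Cert_tree lc_h_Cert_tree lc_h_rc_40_0 lc_h_rc_14_1 lc_h_rc_14_1 lc_h_Cert_tree lc_h_rc_40_0 lc_h_Cert_tree lc_h_rc_40_0 lc_h_rc_41_2 lc_h_Cert_tree lc_h_Cert_tree lc_h_rc_40_0 lc_h_Cert_tree lc_h_Cert_tree lc_h_rc_40_0 lc_h_rc_5_1 lc_h_rc_5_1 lc_h_Cert_tree lc_h_Cert_tree lc_h_rc_40_0 lc_h_rc_29_3 lc_h_rc_22_1 lc_h_Cert_tree lc_h_rc_40_0 lc_h_Cert_tree lc_h_rc_40_0 lc_h_rc_14_1 lc_h_Cert_tree lc_h_Cert_tree lc_h_rc_40_0 lc_h_rc_29_3 lc_h_rc_41_2 lc_h_rc_40_0 lc_h_rc_41_2 lc_h_Cert_tree lc_h_Cert_tree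 lc_h_rc_40_0 lc_h_rc_5_1 lc_h_Cert_tree lc_h_rc_40_0 lc_h_Cert_tree lc_h_Cert_tree lc_h_rc_40_0 lc_h_rc_29_3 lc_h_rc_14_1) (@D3.rec (fun _ => (Cert rels S Gen.h)) lc_h_Cert_tree lc_h_rc_40_0 lc_h_Cert_tree lc_h_rc_40_0 lc_h_rc_41_2 lc_h_Cert_tree lc_h_Cert_tree lc_h_rc_40_0 lc_h_Cert_tree lc_h_Cert_tree lc_h_rc_40_0 lc_h_rc_5_1 lc_h_rc_5_1 lc_h_Cert_tree lc_h_Cert_tree lc_h_rc_40_0 lc_h_rc_29_3 lc_h_rc_22_1 lc_h_Cert_tree lc_h_rc_40_0 lc_h_Cert_tree lc_h_rc_40_0 lc_h_rc_14_1 lc_h_Cert_tree lc_h_Cert_tree lc_h_rc_40_0 lc_h_rc_29_3 lc_h_rc_41_2 lc_h_rc_40_0 lc_h_rc_41_2 lc_h_Cert_tree lc_h_rc_40_0 lc_h_Cert_tree lc_h_Cert_tree lc_h_rc_40_0 lc_h_rc_29_3 lc_h_rc_5_1 lc_h_Cert_tree lc_h_rc_40_0 lc_h_Cert_tree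 lc_h_rc_40_0 lc_h_rc_5_1 lc_h_Cert_tree lc_h_Cert_tree lc_h_rc_40_0 lc_h_Cert_tree lc_h_rc_40_0 lc_h_rc_29_3 lc_h_rc_22_1 lc_h_rc_29_3 lc_h_Cert_tree) (@D3.rec (fun _ => (Cert rels S Gen.h)) lc_h_Cert_tree lc_h_Cert_tree lc_h_rc_40_0 lc_h_rc_14_1 lc_h_rc_14_1 lc_h_rc_40_0 lc_h_rc_14_1 lc_h_Cert_tree lc_h_rc_40_0 lc_h_rc_40_0 lc_h_rc_29_3 lc_h_rc_41_2 lc_h_rc_22_1 lc_h_Cert_tree lc_h_rc_41_2 lc_h_rc_14_1 lc_h_rc_47_1 lc_h_rc_51_1 lc_h_rc_5_1 lc_h_rc_29_5 lc_h_rc_35_3 lc_h_Cert_tree lc_h_Cert_tree lc_h_rc_40_0 lc_h_rc_29_3 lc_h_rc_40_0 lc_h_rc_41_4 lc_h_rc_51_1 lc_h_Cert_tree lc_h_rc_41_4 lc_h_rc_51_1 lc_h_Cert_tree lc_h_Cert_tree lc_h_rc_40_0 lc_h_rc_14_1 lc_h_rc_40_0 lc_h_Cert_tree lc_h_rc_40_0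 lc_h_rc_40_0 lc_h_rc_29_3 lc_h_rc_41_2 lc_h_rc_22_1 lc_h_Cert_tree lc_h_rc_41_2 lc_h_Cert_tree lc_h_rc_5_3 lc_h_rc_22_3 lc_h_Cert_tree lc_h_Cert_tree lc_h_rc_40_0 lc_h_rc_5_1) (@D3.rec (fun _ => (Cert rels S Gen.h)) lc_h_rc_40_0 lc_h_Cert_tree lc_h_rc_40_0 lc_h_Cert_tree lc_h_Cert_tree lc_h_rc_40_0 lc_h_rc_29_3 lc_h_rc_40_0 lc_h_Cert_tree lc_h_rc_40_0 lc_h_rc_40_0 lc_h_rc_14_1 lc_h_rc_5_1 lc_h_rc_22_1 lc_h_Cert_tree lc_h_rc_5_1 lc_h_Cert_tree lc_h_rc_40_0 lc_h_rc_42_1 lc_h_rc_42_1 lc_h_rc_29_3 lc_h_rc_41_2 lc_h_rc_22_1 lc_h_Cert_tree lc_h_rc_14_1 lc_h_Cert_tree lc_h_rc_40_0 lc_h_rc_42_1 lc_h_rc_22_1 lc_h_rc_29_3 lc_h_rc_22_1 lc_h_rc_42_1 lc_h_rc_5_1 lc_h_rc_42_1 lc_h_rc_29_1 lc_h_rc_51_1 lc_h_rc_5_1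 lc_h_Cert_tree lc_h_rc_14_1 lc_h_Cert_tree lc_h_rc_40_0 lc_h_rc_42_1 lc_h_rc_22_1 lc_h_rc_29_3 lc_h_rc_47_1 lc_h_rc_22_1 lc_h_rc_47_1 lc_h_Cert_tree lc_h_rc_5_1 lc_h_rc_47_1 lc_h_rc_40_0) (@D3.rec (fun _ => (Cert rels S Gen.h)) lc_h_rc_47_1 lc_h_rc_22_1 lc_h_rc_5_3 lc_h_rc_5_1 lc_h_rc_5_1 lc_h_Cert_tree lc_h_rc_40_0 lc_h_rc_14_1 lc_h_Cert_tree lc_h_Cert_tree lc_h_rc_40_0 lc_h_rc_41_2 lc_h_rc_35_1 lc_h_rc_51_1 lc_h_rc_22_1 lc_h_rc_29_3 lc_h_rc_51_1 lc_h_rc_40_0 lc_h_rc_22_1 lc_h_rc_51_1 lc_h_Cert_tree lc_h_Cert_tree lc_h_rc_40_0 lc_h_rc_5_1 lc_h_Cert_tree lc_h_rc_51_1 lc_h_rc_40_0 lc_h_rc_41_2 lc_h_rc_51_1 lc_h_rc_5_3 lc_h_rc_5_1 lc_h_rc_5_1 lc_h_Cert_tree lc_h_Cert_tree lc_h_rc_40_0 lc_h_rc_14_1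 lc_h_rc_14_1 lc_h_Cert_tree lc_h_rc_40_0 lc_h_Cert_tree lc_h_rc_40_0 lc_h_rc_41_2 lc_h_Cert_tree lc_h_rc_40_0 lc_h_rc_22_1 lc_h_rc_51_1 lc_h_Cert_tree lc_h_Cert_tree lc_h_rc_40_0 lc_h_rc_47_1 lc_h_Cert_tree) (@D3.rec (fun _ => (Cert rels S Gen.h)) lc_h_Cert_tree lc_h_rc_40_0 lc_h_rc_41_2 lc_h_rc_14_3 lc_h_Cert_tree lc_h_Cert_tree lc_h_rc_40_0 lc_h_rc_5_1 lc_h_Cert_tree lc_h_rc_40_0 lc_h_Cert_tree lc_h_Cert_tree lc_h_rc_40_0 lc_h_rc_14_1 lc_h_rc_14_1 lc_h_Cert_tree lc_h_rc_40_0 lc_h_Cert_tree lc_h_rc_40_0 lc_h_rc_41_2 lc_h_Cert_tree lc_h_Cert_tree lc_h_rc_40_0 lc_h_rc_41_2 lc_h_rc_22_1 lc_h_Cert_tree lc_h_rc_40_0 lc_h_Cert_tree lc_h_Cert_tree lc_h_rc_40_0 lc_h_rc_14_1 lc_h_rc_42_1 lc_h_Cert_tree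 lc_h_rc_40_0 lc_h_Cert_tree lc_h_rc_40_0 lc_h_rc_41_2 lc_h_Cert_tree lc_h_Cert_tree lc_h_rc_40_0 lc_h_Cert_tree lc_h_Cert_tree lc_h_rc_40_0 lc_h_rc_22_3 lc_h_rc_5_1 lc_h_Cert_tree lc_h_Cert_tree lc_h_rc_40_0 lc_h_rc_29_3 lc_h_rc_22_1 lc_h_Cert_tree) (@D3.rec (fun _ => (Cert rels S Gen.h)) lc_h_rc_40_0 lc_h_Cert_tree lc_h_rc_40_0 lc_h_rc_14_1 lc_h_Cert_tree lc_h_Cert_tree lc_h_rc_40_0 lc_h_rc_29_3 lc_h_rc_41_2 lc_h_rc_40_0 lc_h_rc_41_2 lc_h_Cert_tree lc_h_rc_40_0 lc_h_Cert_tree lc_h_rc_40_0 lc_h_rc_41_2 lc_h_Cert_tree lc_h_Cert_tree lc_h_rc_40_0 lc_h_rc_22_1 lc_h_Cert_tree lc_h_rc_40_0 lc_h_Cert_tree lc_h_rc_40_0 lc_h_rc_14_1 lc_h_Cert_tree lc_h_Cert_tree lc_h_rc_40_0 lc_h_rc_29_3 lc_h_rc_41_2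 lc_h_rc_40_0 lc_h_rc_41_2 lc_h_Cert_tree lc_h_rc_40_0 lc_h_Cert_tree lc_h_Cert_tree lc_h_rc_40_0 lc_h_rc_29_3 lc_h_rc_41_2 lc_h_Cert_tree lc_h_rc_40_0 lc_h_Cert_tree lc_h_rc_40_0 lc_h_rc_22_3 lc_h_Cert_tree lc_h_Cert_tree lc_h_rc_40_0 lc_h_Cert_tree lc_h_rc_40_0 lc_h_rc_29_3 lc_h_rc_22_1) (@D3.rec (fun _ => (Cert rels S Gen.h)) lc_h_rc_35_1 lc_h_rc_41_2 lc_h_Cert_tree lc_h_Cert_tree lc_h_rc_40_0 lc_h_rc_14_1 lc_h_rc_14_1 lc_h_rc_40_0 lc_h_rc_14_1 lc_h_Cert_tree lc_h_rc_40_0 lc_h_rc_40_0 lc_h_rc_29_3 lc_h_rc_41_2 lc_h_rc_22_1 lc_h_Cert_tree lc_h_rc_41_2 lc_h_Cert_tree lc_h_Cert_tree lc_h_rc_40_0 lc_h_rc_5_1 lc_h_Cert_tree lc_h_rc_40_0 lc_h_Cert_tree lc_h_Cert_tree lc_h_rc_40_0 lc_h_rc_14_1 lc_h_rc_14_1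 lc_h_Cert_tree lc_h_rc_40_0 lc_h_Cert_tree lc_h_rc_40_0 lc_h_rc_41_2 lc_h_rc_14_3 lc_h_Cert_tree lc_h_rc_40_0 lc_h_Cert_tree lc_h_Cert_tree lc_h_rc_40_0 lc_h_rc_5_1 lc_h_rc_5_1 lc_h_Cert_tree lc_h_Cert_tree lc_h_rc_40_0 lc_h_rc_29_3 lc_h_rc_22_1 lc_h_Cert_tree lc_h_rc_40_0 lc_h_Cert_tree lc_h_rc_40_0 lc_h_rc_14_1) (@D3.rec (fun _ => (Cert rels S Gen.h)) lc_h_Cert_tree lc_h_Cert_tree lc_h_rc_40_0 lc_h_rc_29_3 lc_h_rc_41_2 lc_h_rc_40_0 lc_h_rc_41_2 lc_h_rc_29_3 lc_h_Cert_tree lc_h_rc_40_0 lc_h_Cert_tree lc_h_Cert_tree lc_h_rc_40_0 lc_h_rc_5_1 lc_h_rc_5_1 lc_h_Cert_tree lc_h_Cert_tree lc_h_rc_40_0 lc_h_rc_14_1 lc_h_rc_22_1 lc_h_Cert_tree lc_h_rc_40_0 lc_h_Cert_tree lc_h_rc_40_0 lc_h_rc_14_1 lc_h_Cert_tree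 lc_h_Cert_tree lc_h_rc_40_0 lc_h_rc_29_3 lc_h_rc_41_2 lc_h_rc_40_0 lc_h_rc_41_2 lc_h_rc_42_1 lc_h_Cert_tree lc_h_Cert_tree lc_h_rc_40_0 lc_h_rc_5_1 lc_h_Cert_tree lc_h_rc_40_0 lc_h_Cert_tree lc_h_rc_40_0 lc_h_rc_5_1 lc_h_Cert_tree lc_h_Cert_tree lc_h_rc_40_0 lc_h_Cert_tree lc_h_rc_40_0 lc_h_rc_29_3 lc_h_rc_22_1 lc_h_rc_35_1 lc_h_rc_41_2) (@D3.rec (fun _ => (Cert rels S Gen.h)) lc_h_Cert_tree lc_h_Cert_tree lc_h_rc_40_0 lc_h_rc_35_1 lc_h_rc_14_1 lc_h_rc_40_0 lc_h_rc_14_1 lc_h_Cert_tree lc_h_rc_40_0 lc_h_rc_40_0 lc_h_rc_29_3 lc_h_rc_41_2 lc_h_rc_22_1 lc_h_Cert_tree lc_h_rc_41_2 lc_h_rc_5_1 lc_h_Cert_tree lc_h_Cert_tree lc_h_rc_40_0 lc_h_rc_5_1 lc_h_Cert_tree lc_h_rc_40_0 lc_h_Cert_tree lc_h_rc_40_0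 lc_h_rc_5_1 lc_h_Cert_tree lc_h_Cert_tree lc_h_rc_40_0 lc_h_Cert_tree lc_h_rc_40_0 lc_h_rc_14_1 lc_h_rc_22_1 lc_h_rc_42_3 lc_h_Cert_tree lc_h_Cert_tree lc_h_rc_40_0 lc_h_rc_14_1 lc_h_rc_14_1 lc_h_rc_40_0 lc_h_rc_14_1 lc_h_Cert_tree lc_h_rc_40_0 lc_h_rc_40_0 lc_h_rc_29_3 lc_h_rc_41_2 lc_h_rc_22_1 lc_h_Cert_tree lc_h_rc_41_2 lc_h_rc_14_3 lc_h_rc_14_3 lc_h_Cert_tree) (@D3.rec (fun _ => (Cert rels S Gen.h)) lc_h_Cert_tree lc_h_rc_40_0 lc_h_Cert_tree lc_h_rc_40_0 lc_h_rc_5_1 lc_h_Cert_tree lc_h_Cert_tree lc_h_rc_40_0 lc_h_rc_5_1 lc_h_rc_5_1 lc_h_rc_40_0 lc_h_rc_5_1 lc_h_Cert_tree lc_h_rc_40_0 lc_h_Cert_tree lc_h_Cert_tree lc_h_rc_40_0 lc_h_rc_29_3 lc_h_rc_22_1 lc_h_rc_40_0 lc_h_rc_29_3 lc_h_rc_22_1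 lc_h_rc_35_1 lc_h_rc_35_3 lc_h_rc_42_1 lc_h_rc_41_2 lc_h_Cert_tree lc_h_rc_40_0 lc_h_rc_40_0 lc_h_rc_14_1 lc_h_rc_14_1 lc_h_rc_22_1 lc_h_Cert_tree lc_h_rc_14_1 lc_h_Cert_tree lc_h_rc_40_0 lc_h_rc_42_1 lc_h_rc_42_1 lc_h_rc_29_3 lc_h_rc_41_2 lc_h_rc_22_1 lc_h_Cert_tree lc_h_rc_14_1 lc_h_Cert_tree lc_h_rc_40_0 lc_h_rc_42_1 lc_h_rc_51_1 lc_h_Cert_tree lc_h_rc_40_0 lc_h_rc_42_1 lc_h_rc_51_1) (@D3.rec (fun _ => (Cert rels S Gen.h)) lc_h_Cert_tree lc_h_rc_40_0 lc_h_rc_40_0 lc_h_rc_14_1 lc_h_rc_22_1 lc_h_Cert_tree lc_h_rc_40_0 lc_h_rc_42_1 lc_h_rc_42_1 lc_h_rc_29_3 lc_h_rc_41_2 lc_h_rc_22_1 lc_h_Cert_tree lc_h_rc_14_1 lc_h_Cert_tree lc_h_rc_40_0 lc_h_Cert_tree lc_h_rc_40_0 lc_h_rc_5_3 lc_h_rc_5_3 lc_h_Cert_tree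 lc_h_rc_40_0 lc_h_rc_40_0 lc_h_rc_5_1 lc_h_rc_5_1 lc_h_Cert_tree lc_h_Cert_tree lc_h_rc_40_0 lc_h_rc_29_3 lc_h_rc_41_2 lc_h_Cert_tree lc_h_rc_40_0 lc_h_rc_40_0 lc_h_rc_47_1 lc_h_rc_22_1 lc_h_Cert_tree lc_h_rc_40_0 lc_h_rc_14_1 lc_h_rc_22_1 lc_h_rc_14_1 lc_h_rc_22_1 lc_h_rc_22_1 lc_h_Cert_tree lc_h_rc_14_1 lc_h_Cert_tree lc_h_rc_40_0 lc_h_rc_40_0 lc_h_rc_42_1 lc_h_rc_42_1 lc_h_rc_22_1 lc_h_rc_35_1) (@D3.rec (fun _ => (Cert rels S Gen.h)) lc_h_Cert_tree lc_h_rc_22_1 lc_h_Cert_tree lc_h_rc_14_1 lc_h_Cert_tree lc_h_rc_40_0 lc_h_rc_5_1 lc_h_Cert_tree lc_h_rc_40_0 lc_h_Cert_tree lc_h_Cert_tree lc_h_rc_40_0 lc_h_rc_5_1 lc_h_Cert_tree lc_h_rc_40_0 lc_h_Cert_tree lc_h_rc_40_0 lc_h_rc_5_1 lc_h_rc_29_5 lc_h_Cert_tree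 lc_h_rc_40_0 lc_h_Cert_tree lc_h_rc_40_0 lc_h_rc_29_3 lc_h_rc_22_1 lc_h_rc_35_1 lc_h_rc_22_3 lc_h_Cert_tree lc_h_Cert_tree lc_h_rc_40_0 lc_h_rc_29_3 lc_h_rc_14_1 lc_h_rc_40_0 lc_h_rc_14_1 lc_h_Cert_tree lc_h_rc_40_0 lc_h_rc_40_0 lc_h_rc_29_3 lc_h_rc_41_2 lc_h_rc_22_1 lc_h_Cert_tree lc_h_rc_41_2 lc_h_rc_5_3 lc_h_Cert_tree lc_h_rc_40_0 lc_h_Cert_tree lc_h_rc_40_0 lc_h_rc_5_1 lc_h_Cert_tree lc_h_Cert_tree lc_h_rc_40_0) (@D3.rec (fun _ => (Cert rels S Gen.h)) lc_h_rc_5_1 lc_h_rc_5_1 lc_h_rc_40_0 lc_h_rc_5_1 lc_h_rc_47_3 lc_h_rc_40_0 lc_h_Cert_tree lc_h_Cert_tree lc_h_rc_40_0 lc_h_rc_29_3 lc_h_rc_22_1 lc_h_rc_40_0 lc_h_rc_29_3 lc_h_rc_22_1 lc_h_rc_35_1 lc_h_rc_22_3 lc_h_rc_42_1 lc_h_rc_22_3 lc_h_Cert_tree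 lc_h_rc_40_0 lc_h_rc_40_0 lc_h_rc_29_3 lc_h_rc_14_1 lc_h_rc_22_1 lc_h_Cert_tree lc_h_rc_14_1 lc_h_Cert_tree lc_h_rc_40_0 lc_h_rc_29_3 lc_h_rc_42_1 lc_h_rc_29_3 lc_h_rc_41_2 lc_h_rc_22_1 lc_h_Cert_tree lc_h_rc_14_1 lc_h_Cert_tree lc_h_rc_40_0 lc_h_Cert_tree lc_h_Cert_tree lc_h_rc_40_0 lc_h_rc_5_1 lc_h_rc_5_1 lc_h_rc_40_0 lc_h_rc_5_1 lc_h_Cert_tree lc_h_rc_40_0 lc_h_rc_40_0 lc_h_rc_5_1 lc_h_rc_5_1 lc_h_rc_5_1 lc_h_Cert_tree) (@D3.rec (fun _ => (Cert rels S Gen.h)) lc_h_rc_5_1 lc_h_Cert_tree lc_h_rc_40_0 lc_h_rc_40_0 lc_h_rc_29_3 lc_h_rc_22_1 lc_h_rc_29_3 lc_h_rc_29_3 lc_h_Cert_tree lc_h_rc_29_3 lc_h_rc_22_1 lc_h_rc_35_1 lc_h_rc_22_3 lc_h_rc_42_1 lc_h_rc_22_3 lc_h_rc_47_1 lc_h_rc_22_3 lc_h_Cert_tree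 lc_h_rc_40_0 lc_h_rc_14_1 lc_h_rc_14_1 lc_h_rc_14_1 lc_h_rc_14_1 lc_h_rc_22_1 lc_h_Cert_tree lc_h_rc_14_1 lc_h_Cert_tree lc_h_rc_40_0 lc_h_rc_40_0 lc_h_rc_42_1 lc_h_rc_42_1 lc_h_rc_22_1 lc_h_rc_35_1 lc_h_Cert_tree lc_h_rc_41_2 lc_h_rc_42_3 lc_h_rc_14_1 lc_h_rc_41_4 lc_h_rc_40_0 lc_h_rc_5_1 lc_h_Cert_tree lc_h_rc_40_0 lc_h_rc_47_3 lc_h_rc_40_0 lc_h_rc_5_1 lc_h_rc_5_1 lc_h_rc_5_1 lc_h_rc_5_1 lc_h_rc_5_1 lc_h_Cert_tree lc_h_rc_14_1) (@D3.rec (fun _ => (Cert rels S Gen.h)) lc_h_Cert_tree lc_h_rc_40_0 lc_h_rc_14_1 lc_h_rc_22_1 lc_h_rc_35_1 lc_h_rc_22_3 lc_h_rc_22_1 lc_h_rc_22_3 lc_h_rc_14_1 lc_h_Cert_tree lc_h_rc_40_0 lc_h_rc_5_1 lc_h_Cert_tree lc_h_rc_40_0 lc_h_rc_5_1 lc_h_Cert_tree lc_h_rc_40_0 lc_h_rc_40_0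 lc_h_rc_35_1 lc_h_rc_35_1 lc_h_rc_42_1 lc_h_rc_47_1 lc_h_rc_29_3 lc_h_rc_42_1 lc_h_rc_5_3 lc_h_rc_29_3 lc_h_rc_51_1 lc_h_rc_22_1 lc_h_rc_29_3 lc_h_rc_35_1 lc_h_rc_14_1 lc_h_rc_40_0 lc_h_rc_47_1 lc_h_rc_40_0 lc_h_rc_29_3 lc_h_rc_22_1 lc_h_rc_29_3 lc_h_rc_29_3 lc_h_rc_35_1 lc_h_rc_14_1 lc_h_rc_35_3 lc_h_rc_40_0 lc_h_rc_35_3 lc_h_rc_51_1 lc_h_rc_40_0 lc_h_rc_42_1 lc_h_rc_35_1 lc_h_rc_47_1 lc_h_rc_51_1 lc_h_Cert_tree lc_h_rc_40_0) (@D3.rec (fun _ => (Cert rels S Gen.h)) lc_h_rc_40_0 lc_h_rc_41_0 lc_h_rc_41_0 lc_h_rc_40_0 lc_h_rc_29_3 lc_h_rc_42_1 lc_h_rc_5_1 lc_h_rc_42_1 lc_h_rc_35_1 lc_h_rc_42_1 lc_h_rc_42_1 lc_h_Cert_tree lc_h_Cert_tree lc_h_rc_40_0 lc_h_rc_40_0 lc_h_rc_40_0 lc_h_Cert_tree lc_h_rc_51_1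 lc_h_rc_40_0 lc_h_rc_51_3 lc_h_rc_40_0 lc_h_rc_29_3 lc_h_rc_35_1 lc_h_rc_5_1 lc_h_rc_42_1 lc_h_Cert_tree lc_h_rc_47_1 lc_h_rc_51_1 lc_h_rc_42_1 lc_h_rc_51_1 lc_h_rc_41_2 lc_h_rc_47_1 lc_h_Cert_tree lc_h_Cert_tree lc_h_rc_40_0 lc_h_Cert_tree lc_h_rc_40_0 lc_h_rc_40_0 lc_h_rc_5_1 lc_h_rc_40_0 lc_h_Cert_tree lc_h_rc_40_0 lc_h_rc_41_0 lc_h_rc_35_3 lc_h_rc_40_0 lc_h_rc_29_3 lc_h_rc_40_0 lc_h_rc_29_3 lc_h_rc_35_1 lc_h_rc_42_1 lc_h_rc_47_1) (@D3.rec (fun _ => (Cert rels S Gen.h)) lc_h_rc_22_1 lc_h_rc_29_3 lc_h_rc_51_1 lc_h_rc_42_1 lc_h_rc_35_1 lc_h_rc_14_1 lc_h_rc_5_1 lc_h_rc_14_3 lc_h_rc_35_1 lc_h_rc_40_0 lc_h_rc_35_1 lc_h_rc_47_1 lc_h_Cert_tree lc_h_rc_29_3 lc_h_rc_35_1 lc_h_rc_5_3 lc_h_rc_42_1 lc_h_rc_47_1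 lc_h_rc_47_1 lc_h_Cert_tree lc_h_rc_47_3 lc_h_rc_40_0 lc_h_rc_47_1 lc_h_rc_40_0 lc_h_Cert_tree lc_h_rc_35_1 lc_h_rc_42_1 lc_h_Cert_tree lc_h_rc_40_0 lc_h_rc_29_3 lc_h_rc_29_3 lc_h_rc_35_1 lc_h_rc_42_1 lc_h_Cert_tree lc_h_rc_47_1 lc_h_rc_51_1 lc_h_rc_42_1 lc_h_rc_41_2 lc_h_Cert_tree lc_h_rc_40_0 lc_h_rc_41_4 lc_h_rc_29_5 lc_h_rc_40_0 lc_h_rc_29_3 lc_h_rc_40_0 lc_h_rc_14_1 lc_h_rc_22_1 lc_h_Cert_tree lc_h_rc_40_0 lc_h_rc_42_1 lc_h_rc_51_1) (@D3.rec (fun _ => (Cert rels S Gen.h)) lc_h_Cert_tree lc_h_Cert_tree lc_h_rc_40_0 lc_h_rc_29_3 lc_h_rc_41_2 lc_h_rc_47_1 lc_h_rc_35_1 lc_h_rc_29_3 lc_h_rc_35_1 lc_h_rc_42_1 lc_h_rc_47_1 lc_h_Cert_tree lc_h_rc_40_0 lc_h_rc_42_1 lc_h_rc_29_5 lc_h_rc_40_0 lc_h_rc_40_0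 lc_h_rc_47_1 lc_h_rc_5_1 lc_h_Cert_tree lc_h_Cert_tree lc_h_rc_40_0 lc_h_rc_29_3 lc_h_rc_41_2 lc_h_rc_5_3 lc_h_rc_40_0 lc_h_rc_40_0 lc_h_rc_47_1 lc_h_rc_22_1 lc_h_rc_22_1 lc_h_rc_14_1 lc_h_rc_5_1 lc_h_rc_22_1 lc_h_rc_47_1 lc_h_Cert_tree lc_h_Cert_tree lc_h_rc_40_0 lc_h_rc_14_1 lc_h_rc_14_1 lc_h_Cert_tree lc_h_Cert_tree lc_h_rc_40_0 lc_h_rc_5_1 lc_h_rc_5_1 lc_h_Cert_tree lc_h_Cert_tree lc_h_rc_40_0 lc_h_rc_40_0 lc_h_rc_41_2 lc_h_rc_47_1 lc_h_rc_35_1) (@D3.rec (fun _ => (Cert rels S Gen.h)) lc_h_rc_47_1 lc_h_rc_47_3 lc_h_rc_40_0 lc_h_rc_29_3 lc_h_rc_29_3 lc_h_rc_35_1 lc_h_rc_42_1 lc_h_rc_51_1 lc_h_rc_40_0 lc_h_rc_35_1 lc_h_rc_51_3 lc_h_rc_40_0 lc_h_rc_29_3 lc_h_rc_41_2 lc_h_rc_47_1 lc_h_rc_22_1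 lc_h_rc_35_1 lc_h_rc_29_3 lc_h_rc_35_1 lc_h_rc_42_1 lc_h_rc_47_1 lc_h_rc_35_1 lc_h_rc_42_1 lc_h_rc_47_1 lc_h_rc_51_1 lc_h_rc_56_20 lc_h_rc_40_0 lc_h_rc_42_1 lc_h_rc_29_3 lc_h_rc_40_0 lc_h_rc_29_3 lc_h_rc_41_2 lc_h_rc_47_1 lc_h_rc_22_1 lc_h_rc_35_1 lc_h_rc_35_1 lc_h_rc_42_1 lc_h_rc_47_1 lc_h_rc_5_1 lc_h_rc_22_1 lc_h_rc_35_1 lc_h_rc_41_2 lc_h_rc_42_1 lc_h_rc_47_1 lc_h_rc_51_1 lc_h_Cert_tree lc_h_rc_40_0 lc_h_rc_29_3 lc_h_rc_40_0 lc_h_rc_29_3 lc_h_rc_35_1) (@D3.rec (fun _ => (Cert rels S Gen.h)) lc_h_rc_42_1 lc_h_rc_35_1 lc_h_rc_29_3 lc_h_rc_42_1 lc_h_rc_29_5 lc_h_rc_47_1 lc_h_rc_22_1 lc_h_rc_51_1 lc_h_rc_51_1 lc_h_Cert_tree lc_h_rc_22_1 lc_h_rc_35_1 lc_h_rc_14_1 lc_h_rc_22_1 lc_h_rc_42_1 lc_h_rc_5_1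 lc_h_rc_14_1 lc_h_rc_51_1 lc_h_rc_22_1 lc_h_rc_47_1 lc_h_rc_14_1 lc_h_rc_22_3 lc_h_rc_22_1 lc_h_rc_51_1 lc_h_rc_5_1 lc_h_rc_14_1 lc_h_rc_29_3 lc_h_rc_22_1 lc_h_rc_47_1 lc_h_rc_5_1 lc_h_rc_14_3 lc_h_rc_14_1 lc_h_rc_47_1 lc_h_rc_40_0 lc_h_rc_22_1 lc_h_rc_51_1 lc_h_rc_5_1 lc_h_rc_5_1 lc_h_rc_14_1 lc_h_rc_35_3 lc_h_rc_51_1 lc_h_rc_40_0 lc_h_rc_22_1 lc_h_Cert_tree lc_h_rc_5_1 lc_h_Cert_tree lc_h_Cert_tree lc_h_rc_40_0 lc_h_rc_14_1 lc_h_Cert_tree lc_h_Cert_tree) (@D3.rec (fun _ => (Cert rels S Gen.h)) lc_h_rc_40_0 lc_h_rc_41_2 lc_h_rc_22_1 lc_h_Cert_tree lc_h_Cert_tree lc_h_rc_40_0 lc_h_rc_5_1 lc_h_Cert_tree lc_h_rc_40_0 lc_h_Cert_tree lc_h_Cert_tree lc_h_rc_40_0 lc_h_rc_14_1 lc_h_rc_14_1 lc_h_Cert_tree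 lc_h_rc_40_0 lc_h_Cert_tree lc_h_rc_40_0 lc_h_rc_41_2 lc_h_Cert_tree lc_h_Cert_tree lc_h_rc_40_0 lc_h_Cert_tree lc_h_Cert_tree lc_h_rc_40_0 lc_h_rc_5_1 lc_h_rc_5_1 lc_h_Cert_tree lc_h_Cert_tree lc_h_rc_40_0 lc_h_rc_29_3 lc_h_rc_22_1 lc_h_Cert_tree lc_h_rc_40_0 lc_h_Cert_tree lc_h_rc_40_0 lc_h_rc_14_1 lc_h_Cert_tree lc_h_Cert_tree lc_h_rc_40_0 lc_h_rc_35_1 lc_h_rc_41_2 lc_h_rc_40_0 lc_h_rc_41_2 lc_h_rc_14_1 lc_h_Cert_tree lc_h_rc_42_1 lc_h_rc_42_1 lc_h_rc_29_1 lc_h_Cert_tree lc_h_rc_22_1) (@D3.rec (fun _ => (Cert rels S Gen.h)) lc_h_rc_42_3 lc_h_rc_40_0 lc_h_rc_47_1 lc_h_rc_51_1 lc_h_Cert_tree lc_h_rc_14_1 lc_h_Cert_tree lc_h_rc_40_0 lc_h_rc_35_1 lc_h_rc_35_1 lc_h_rc_5_3 lc_h_rc_47_1 lc_h_rc_5_1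 lc_h_Cert_tree lc_h_rc_40_0 lc_h_rc_47_1 lc_h_Cert_tree lc_h_rc_47_3 lc_h_rc_40_0 lc_h_rc_41_2 lc_h_rc_51_1 lc_h_rc_41_2 lc_h_Cert_tree lc_h_rc_40_0 lc_h_rc_14_1 lc_h_Cert_tree lc_h_Cert_tree lc_h_rc_40_0 lc_h_rc_41_2 lc_h_rc_35_1 lc_h_rc_5_3 lc_h_rc_51_1 lc_h_rc_5_1 lc_h_Cert_tree lc_h_Cert_tree lc_h_rc_40_0 lc_h_rc_51_1 lc_h_Cert_tree lc_h_rc_40_0 lc_h_rc_51_3 lc_h_rc_40_0 lc_h_rc_41_2 lc_h_Cert_tree lc_h_Cert_tree lc_h_rc_40_0 lc_h_rc_14_1 lc_h_Cert_tree lc_h_Cert_tree lc_h_rc_40_0 lc_h_rc_41_2 lc_h_rc_22_1) (@D3.rec (fun _ => (Cert rels S Gen.h)) lc_h_Cert_tree lc_h_Cert_tree lc_h_rc_40_0 lc_h_rc_40_0 lc_h_Cert_tree lc_h_rc_40_0 lc_h_Cert_tree lc_h_Cert_tree lc_h_rc_40_0 lc_h_rc_14_1 lc_h_rc_5_1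 lc_h_Cert_tree lc_h_rc_40_0 lc_h_Cert_tree lc_h_rc_40_0 lc_h_rc_41_2 lc_h_Cert_tree lc_h_rc_40_0 lc_h_Cert_tree lc_h_Cert_tree lc_h_rc_40_0 lc_h_rc_14_1 lc_h_rc_14_1 lc_h_Cert_tree lc_h_rc_40_0 lc_h_Cert_tree lc_h_rc_40_0 lc_h_rc_41_2 lc_h_Cert_tree lc_h_Cert_tree lc_h_rc_40_0 lc_h_Cert_tree lc_h_Cert_tree lc_h_rc_40_0 lc_h_rc_22_3 lc_h_rc_47_1 lc_h_Cert_tree lc_h_Cert_tree lc_h_rc_40_0 lc_h_rc_29_3 lc_h_rc_22_1 lc_h_Cert_tree lc_h_rc_40_0 lc_h_Cert_tree lc_h_rc_40_0 lc_h_rc_14_1 lc_h_Cert_tree lc_h_Cert_tree lc_h_rc_40_0 lc_h_rc_29_3 lc_h_rc_41_2) (@D3.rec (fun _ => (Cert rels S Gen.h)) lc_h_rc_40_0 lc_h_rc_41_2 lc_h_Cert_tree lc_h_Cert_tree lc_h_rc_40_0 lc_h_rc_29_3 lc_h_rc_22_1 lc_h_Cert_tree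 lc_h_rc_40_0 lc_h_Cert_tree lc_h_rc_40_0 lc_h_rc_14_1 lc_h_Cert_tree lc_h_Cert_tree lc_h_rc_40_0 lc_h_rc_29_3 lc_h_rc_41_2 lc_h_rc_40_0 lc_h_rc_41_2 lc_h_Cert_tree lc_h_rc_40_0 lc_h_Cert_tree lc_h_Cert_tree lc_h_rc_40_0 lc_h_rc_5_1 lc_h_rc_41_2 lc_h_Cert_tree lc_h_rc_40_0 lc_h_Cert_tree lc_h_rc_40_0 lc_h_rc_22_3 lc_h_Cert_tree lc_h_Cert_tree lc_h_rc_40_0 lc_h_Cert_tree lc_h_rc_40_0 lc_h_rc_29_3 lc_h_rc_22_1 lc_h_rc_29_3 lc_h_Cert_tree lc_h_Cert_tree lc_h_Cert_tree lc_h_rc_40_0 lc_h_rc_14_1 lc_h_rc_14_1 lc_h_rc_40_0 lc_h_rc_14_1 lc_h_Cert_tree lc_h_rc_40_0 lc_h_rc_40_0 lc_h_rc_29_3) (@D3.rec (fun _ => (Cert rels S Gen.h)) lc_h_rc_41_2 lc_h_rc_22_1 lc_h_Cert_tree lc_h_rc_41_2 lc_h_Cert_tree lc_h_rc_5_1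 lc_h_Cert_tree lc_h_Cert_tree lc_h_rc_40_0 lc_h_rc_14_1 lc_h_Cert_tree lc_h_Cert_tree lc_h_rc_40_0 lc_h_rc_29_3 lc_h_rc_22_1 lc_h_Cert_tree lc_h_Cert_tree lc_h_rc_40_0 lc_h_rc_5_1 lc_h_Cert_tree lc_h_rc_40_0 lc_h_Cert_tree lc_h_Cert_tree lc_h_rc_40_0 lc_h_rc_14_1 lc_h_rc_14_1 lc_h_Cert_tree lc_h_rc_40_0 lc_h_Cert_tree lc_h_rc_40_0 lc_h_rc_41_2 lc_h_Cert_tree lc_h_Cert_tree lc_h_rc_40_0 lc_h_Cert_tree lc_h_Cert_tree lc_h_rc_40_0 lc_h_rc_5_1 lc_h_rc_5_1 lc_h_Cert_tree lc_h_Cert_tree lc_h_rc_40_0 lc_h_rc_29_3 lc_h_rc_22_1 lc_h_Cert_tree lc_h_rc_40_0 lc_h_Cert_tree lc_h_rc_40_0 lc_h_rc_14_1 lc_h_Cert_tree lc_h_Cert_tree) (@D3.rec (fun _ => (Cert rels S Gen.h)) lc_h_rc_40_0 lc_h_rc_29_3 lc_h_rc_41_2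 lc_h_rc_40_0 lc_h_rc_41_2 lc_h_Cert_tree lc_h_Cert_tree lc_h_rc_40_0 lc_h_rc_5_1 lc_h_Cert_tree lc_h_rc_40_0 lc_h_Cert_tree lc_h_Cert_tree lc_h_rc_40_0 lc_h_rc_29_3 lc_h_rc_14_1 lc_h_Cert_tree lc_h_rc_40_0 lc_h_Cert_tree lc_h_rc_40_0 lc_h_rc_41_2 lc_h_Cert_tree lc_h_Cert_tree lc_h_rc_40_0 lc_h_Cert_tree lc_h_Cert_tree lc_h_rc_40_0 lc_h_rc_5_1 lc_h_rc_5_1 lc_h_Cert_tree lc_h_Cert_tree lc_h_rc_40_0 lc_h_rc_29_3 lc_h_rc_22_1 lc_h_Cert_tree lc_h_rc_40_0 lc_h_Cert_tree lc_h_rc_40_0 lc_h_rc_14_1 lc_h_Cert_tree lc_h_Cert_tree lc_h_rc_40_0 lc_h_rc_29_3 lc_h_rc_41_2 lc_h_rc_40_0 lc_h_rc_41_2 lc_h_Cert_tree lc_h_rc_40_0 lc_h_Cert_tree lc_h_Cert_tree lc_h_rc_40_0)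
def ce_h_5 : D2 → D3 → (Cert rels S Gen.h) := @D2.rec (fun _ => D3 → (Cert rels S Gen.h)) (@D3.rec (fun _ => (Cert rels S Gen.h)) lc_h_rc_29_3 lc_h_rc_5_1 lc_h_Cert_tree lc_h_rc_40_0 lc_h_Cert_tree lc_h_rc_40_0 lc_h_rc_5_1 lc_h_Cert_tree lc_h_Cert_tree lc_h_rc_40_0 lc_h_Cert_tree lc_h_rc_40_0 lc_h_rc_29_3 lc_h_rc_22_1 lc_h_rc_29_3 lc_h_Cert_tree lc_h_Cert_tree lc_h_Cert_tree lc_h_rc_40_0 lc_h_rc_42_1 lc_h_rc_14_1 lc_h_rc_40_0 lc_h_rc_14_1 lc_h_Cert_tree lc_h_rc_40_0 lc_h_rc_40_0 lc_h_rc_29_3 lc_h_rc_41_2 lc_h_rc_22_1 lc_h_Cert_tree lc_h_rc_41_2 lc_h_Cert_tree lc_h_Cert_tree lc_h_rc_40_0 lc_h_Cert_tree lc_h_rc_40_0 lc_h_rc_5_1 lc_h_rc_5_1 lc_h_Cert_tree lc_h_Cert_tree lc_h_rc_40_0 lc_h_rc_29_3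 lc_h_rc_22_1 lc_h_Cert_tree lc_h_rc_40_0 lc_h_Cert_tree lc_h_rc_40_0 lc_h_rc_41_2 lc_h_Cert_tree lc_h_Cert_tree lc_h_rc_40_0) (@D3.rec (fun _ => (Cert rels S Gen.h)) lc_h_rc_29_3 lc_h_rc_41_2 lc_h_rc_40_0 lc_h_rc_41_2 lc_h_Cert_tree lc_h_rc_40_0 lc_h_Cert_tree lc_h_Cert_tree lc_h_rc_40_0 lc_h_rc_29_3 lc_h_rc_5_1 lc_h_Cert_tree lc_h_rc_40_0 lc_h_Cert_tree lc_h_rc_40_0 lc_h_rc_5_1 lc_h_Cert_tree lc_h_Cert_tree lc_h_rc_40_0 lc_h_Cert_tree lc_h_rc_40_0 lc_h_rc_29_3 lc_h_rc_22_1 lc_h_rc_35_1 lc_h_Cert_tree lc_h_Cert_tree lc_h_Cert_tree lc_h_rc_40_0 lc_h_rc_14_1 lc_h_rc_14_1 lc_h_rc_40_0 lc_h_rc_14_1 lc_h_Cert_tree lc_h_rc_40_0 lc_h_rc_40_0 lc_h_rc_29_3 lc_h_rc_41_2 lc_h_rc_22_1 lc_h_Cert_tree lc_h_rc_41_2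 lc_h_Cert_tree lc_h_Cert_tree lc_h_rc_40_0 lc_h_rc_14_1 lc_h_Cert_tree lc_h_Cert_tree lc_h_rc_40_0 lc_h_Cert_tree lc_h_rc_40_0 lc_h_rc_29_3 lc_h_rc_5_1) (@D3.rec (fun _ => (Cert rels S Gen.h)) lc_h_Cert_tree lc_h_Cert_tree lc_h_Cert_tree lc_h_rc_40_0 lc_h_rc_5_1 lc_h_rc_5_1 lc_h_rc_40_0 lc_h_rc_5_1 lc_h_Cert_tree lc_h_rc_40_0 lc_h_Cert_tree lc_h_Cert_tree lc_h_rc_40_0 lc_h_rc_29_3 lc_h_rc_22_1 lc_h_rc_40_0 lc_h_rc_29_3 lc_h_rc_22_1 lc_h_rc_35_1 lc_h_Cert_tree lc_h_rc_42_1 lc_h_Cert_tree lc_h_rc_40_0 lc_h_Cert_tree lc_h_rc_40_0 lc_h_rc_40_0 lc_h_rc_14_1 lc_h_rc_14_1 lc_h_rc_22_1 lc_h_Cert_tree lc_h_rc_14_1 lc_h_Cert_tree lc_h_rc_40_0 lc_h_rc_42_1 lc_h_rc_42_1 lc_h_rc_29_3 lc_h_rc_41_2 lc_h_rc_22_1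 lc_h_Cert_tree lc_h_rc_14_1 lc_h_Cert_tree lc_h_rc_40_0 lc_h_rc_22_3 lc_h_rc_51_1 lc_h_rc_42_1 lc_h_rc_29_5 lc_h_rc_51_3 lc_h_rc_40_0 lc_h_rc_40_0 lc_h_rc_29_3 lc_h_rc_22_1) (@D3.rec (fun _ => (Cert rels S Gen.h)) lc_h_rc_42_1 lc_h_rc_51_1 lc_h_Cert_tree lc_h_rc_40_0 lc_h_rc_42_1 lc_h_rc_51_1 lc_h_Cert_tree lc_h_rc_40_0 lc_h_rc_40_0 lc_h_rc_14_1 lc_h_rc_22_1 lc_h_Cert_tree lc_h_rc_40_0 lc_h_rc_42_1 lc_h_rc_42_1 lc_h_rc_29_3 lc_h_rc_41_2 lc_h_rc_22_1 lc_h_Cert_tree lc_h_rc_14_1 lc_h_Cert_tree lc_h_rc_40_0 lc_h_Cert_tree lc_h_rc_40_0 lc_h_rc_22_3 lc_h_rc_22_3 lc_h_Cert_tree lc_h_rc_40_0 lc_h_rc_40_0 lc_h_rc_5_1 lc_h_rc_5_1 lc_h_Cert_tree lc_h_Cert_tree lc_h_rc_40_0 lc_h_rc_29_3 lc_h_rc_41_2 lc_h_Cert_tree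 lc_h_rc_40_0 lc_h_rc_40_0 lc_h_rc_47_1 lc_h_rc_22_1 lc_h_Cert_tree lc_h_rc_40_0 lc_h_rc_14_1 lc_h_rc_5_1 lc_h_rc_14_1 lc_h_rc_5_1 lc_h_rc_22_1 lc_h_Cert_tree lc_h_rc_14_1 lc_h_Cert_tree) (@D3.rec (fun _ => (Cert rels S Gen.h)) lc_h_rc_40_0 lc_h_rc_40_0 lc_h_rc_42_1 lc_h_rc_42_1 lc_h_rc_22_1 lc_h_rc_35_1 lc_h_Cert_tree lc_h_rc_22_1 lc_h_Cert_tree lc_h_rc_14_1 lc_h_Cert_tree lc_h_rc_40_0 lc_h_rc_5_1 lc_h_Cert_tree lc_h_rc_40_0 lc_h_rc_29_3 lc_h_rc_42_1 lc_h_rc_47_1 lc_h_rc_5_1 lc_h_rc_47_1 lc_h_Cert_tree lc_h_rc_40_0 lc_h_rc_55_70 lc_h_rc_40_0 lc_h_Cert_tree lc_h_rc_47_1 lc_h_rc_40_0 lc_h_rc_35_1 lc_h_rc_35_1 lc_h_rc_41_2 lc_h_rc_5_3 lc_h_rc_5_1 lc_h_rc_5_1 lc_h_Cert_tree lc_h_Cert_tree lc_h_rc_40_0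 lc_h_rc_14_1 lc_h_Cert_tree lc_h_rc_40_0 lc_h_rc_40_0 lc_h_rc_41_2 lc_h_rc_41_2 lc_h_Cert_tree lc_h_rc_40_0 lc_h_Cert_tree lc_h_rc_51_1 lc_h_rc_40_0 lc_h_rc_14_1 lc_h_rc_35_1 lc_h_rc_35_1 lc_h_rc_40_0) (@D3.rec (fun _ => (Cert rels S Gen.h)) lc_h_rc_41_2 lc_h_rc_5_3 lc_h_rc_47_1 lc_h_rc_5_1 lc_h_rc_5_1 lc_h_rc_47_1 lc_h_Cert_tree lc_h_rc_40_0 lc_h_Cert_tree lc_h_rc_40_0 lc_h_rc_14_1 lc_h_Cert_tree lc_h_Cert_tree lc_h_rc_40_0 lc_h_rc_29_3 lc_h_rc_41_2 lc_h_rc_40_0 lc_h_rc_41_2 lc_h_rc_40_0 lc_h_rc_41_2 lc_h_Cert_tree lc_h_rc_40_0 lc_h_Cert_tree lc_h_Cert_tree lc_h_rc_40_0 lc_h_rc_14_1 lc_h_rc_47_1 lc_h_rc_29_3 lc_h_rc_40_0 lc_h_rc_35_1 lc_h_rc_40_0 lc_h_rc_41_2 lc_h_Cert_tree lc_h_Cert_tree lc_h_rc_40_0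 lc_h_Cert_tree lc_h_Cert_tree lc_h_rc_40_0 lc_h_rc_22_3 lc_h_rc_5_1 lc_h_Cert_tree lc_h_Cert_tree lc_h_rc_40_0 lc_h_rc_29_3 lc_h_rc_22_1 lc_h_Cert_tree lc_h_rc_40_0 lc_h_Cert_tree lc_h_rc_40_0 lc_h_rc_14_1 lc_h_Cert_tree) (@D3.rec (fun _ => (Cert rels S Gen.h)) lc_h_Cert_tree lc_h_rc_40_0 lc_h_rc_29_3 lc_h_rc_41_2 lc_h_rc_40_0 lc_h_rc_41_2 lc_h_rc_40_0 lc_h_rc_40_0 lc_h_rc_41_2 lc_h_Cert_tree lc_h_Cert_tree lc_h_rc_40_0 lc_h_rc_22_1 lc_h_Cert_tree lc_h_rc_40_0 lc_h_Cert_tree lc_h_rc_40_0 lc_h_rc_14_1 lc_h_Cert_tree lc_h_rc_29_3 lc_h_rc_40_0 lc_h_rc_14_3 lc_h_rc_41_2 lc_h_rc_40_0 lc_h_rc_41_2 lc_h_Cert_tree lc_h_rc_40_0 lc_h_Cert_tree lc_h_Cert_tree lc_h_rc_40_0 lc_h_rc_29_3 lc_h_rc_47_1 lc_h_Cert_tree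 lc_h_rc_40_0 lc_h_Cert_tree lc_h_rc_40_0 lc_h_rc_29_1 lc_h_Cert_tree lc_h_Cert_tree lc_h_rc_40_0 lc_h_Cert_tree lc_h_rc_40_0 lc_h_rc_29_3 lc_h_rc_22_1 lc_h_rc_35_1 lc_h_rc_47_3 lc_h_Cert_tree lc_h_Cert_tree lc_h_rc_40_0 lc_h_rc_14_1 lc_h_rc_14_1) (@D3.rec (fun _ => (Cert rels S Gen.h)) lc_h_rc_40_0 lc_h_rc_14_1 lc_h_Cert_tree lc_h_rc_40_0 lc_h_rc_40_0 lc_h_rc_29_3 lc_h_rc_41_2 lc_h_rc_22_1 lc_h_Cert_tree lc_h_rc_41_2 lc_h_rc_40_0 lc_h_rc_35_1 lc_h_rc_41_2 lc_h_rc_40_0 lc_h_rc_41_2 lc_h_Cert_tree lc_h_Cert_tree lc_h_rc_40_0 lc_h_Cert_tree lc_h_rc_40_0 lc_h_rc_22_1 lc_h_Cert_tree lc_h_Cert_tree lc_h_rc_40_0 lc_h_rc_14_1 lc_h_rc_14_1 lc_h_rc_40_0 lc_h_rc_14_1 lc_h_Cert_tree lc_h_rc_40_0 lc_h_rc_40_0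 lc_h_rc_29_3 lc_h_rc_41_2 lc_h_rc_22_1 lc_h_Cert_tree lc_h_rc_41_2 lc_h_Cert_tree lc_h_Cert_tree lc_h_rc_40_0 lc_h_rc_41_2 lc_h_Cert_tree lc_h_Cert_tree lc_h_rc_40_0 lc_h_Cert_tree lc_h_rc_40_0 lc_h_rc_5_1 lc_h_rc_35_3 lc_h_rc_42_3 lc_h_Cert_tree lc_h_Cert_tree lc_h_rc_40_0) (@D3.rec (fun _ => (Cert rels S Gen.h)) lc_h_rc_5_1 lc_h_rc_22_3 lc_h_rc_40_0 lc_h_rc_22_3 lc_h_Cert_tree lc_h_rc_40_0 lc_h_Cert_tree lc_h_Cert_tree lc_h_rc_40_0 lc_h_rc_29_3 lc_h_rc_22_1 lc_h_rc_40_0 lc_h_rc_29_3 lc_h_rc_22_1 lc_h_rc_35_1 lc_h_rc_35_3 lc_h_rc_42_1 lc_h_rc_41_2 lc_h_Cert_tree lc_h_rc_40_0 lc_h_rc_40_0 lc_h_rc_14_1 lc_h_rc_14_1 lc_h_rc_22_1 lc_h_Cert_tree lc_h_rc_14_1 lc_h_Cert_tree lc_h_rc_40_0 lc_h_rc_42_1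 lc_h_rc_42_1 lc_h_rc_29_3 lc_h_rc_41_2 lc_h_rc_22_1 lc_h_Cert_tree lc_h_rc_14_1 lc_h_Cert_tree lc_h_rc_40_0 lc_h_rc_29_3 lc_h_Cert_tree lc_h_rc_40_0 lc_h_Cert_tree lc_h_Cert_tree lc_h_rc_40_0 lc_h_rc_5_1 lc_h_rc_5_1 lc_h_Cert_tree lc_h_Cert_tree lc_h_rc_40_0 lc_h_rc_22_1 lc_h_rc_22_1 lc_h_Cert_tree) (@D3.rec (fun _ => (Cert rels S Gen.h)) lc_h_rc_40_0 lc_h_Cert_tree lc_h_rc_40_0 lc_h_rc_14_1 lc_h_rc_5_3 lc_h_rc_55_70 lc_h_rc_40_0 lc_h_rc_29_3 lc_h_rc_41_2 lc_h_rc_40_0 lc_h_rc_41_2 lc_h_rc_42_1 lc_h_Cert_tree lc_h_Cert_tree lc_h_rc_40_0 lc_h_rc_5_1 lc_h_Cert_tree lc_h_rc_40_0 lc_h_Cert_tree lc_h_rc_40_0 lc_h_rc_5_1 lc_h_Cert_tree lc_h_Cert_tree lc_h_rc_40_0 lc_h_Cert_tree lc_h_rc_40_0 lc_h_rc_29_3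 lc_h_rc_22_1 lc_h_rc_35_1 lc_h_rc_47_3 lc_h_Cert_tree lc_h_Cert_tree lc_h_rc_40_0 lc_h_rc_35_1 lc_h_rc_14_1 lc_h_rc_40_0 lc_h_rc_14_1 lc_h_Cert_tree lc_h_rc_40_0 lc_h_rc_40_0 lc_h_rc_29_3 lc_h_rc_41_2 lc_h_rc_22_1 lc_h_Cert_tree lc_h_rc_41_2 lc_h_rc_42_1 lc_h_Cert_tree lc_h_Cert_tree lc_h_rc_40_0 lc_h_rc_5_1 lc_h_Cert_tree) (@D3.rec (fun _ => (Cert rels S Gen.h)) lc_h_rc_40_0 lc_h_Cert_tree lc_h_rc_40_0 lc_h_rc_5_1 lc_h_Cert_tree lc_h_Cert_tree lc_h_rc_40_0 lc_h_Cert_tree lc_h_rc_40_0 lc_h_rc_42_1 lc_h_rc_22_1 lc_h_rc_47_1 lc_h_Cert_tree lc_h_Cert_tree lc_h_rc_40_0 lc_h_rc_14_1 lc_h_rc_14_1 lc_h_rc_40_0 lc_h_rc_14_1 lc_h_Cert_tree lc_h_rc_40_0 lc_h_rc_40_0 lc_h_rc_29_3 lc_h_rc_41_2 lc_h_rc_22_1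 lc_h_Cert_tree lc_h_rc_41_2 lc_h_rc_42_3 lc_h_rc_42_3 lc_h_Cert_tree lc_h_Cert_tree lc_h_rc_40_0 lc_h_Cert_tree lc_h_rc_40_0 lc_h_rc_5_1 lc_h_Cert_tree lc_h_Cert_tree lc_h_rc_40_0 lc_h_rc_5_1 lc_h_rc_5_1 lc_h_rc_40_0 lc_h_rc_5_1 lc_h_Cert_tree lc_h_rc_40_0 lc_h_Cert_tree lc_h_Cert_tree lc_h_rc_40_0 lc_h_rc_29_3 lc_h_rc_22_1 lc_h_rc_40_0 lc_h_rc_29_3) (@D3.rec (fun _ => (Cert rels S Gen.h)) lc_h_rc_22_1 lc_h_rc_35_1 lc_h_rc_40_1 lc_h_rc_42_1 lc_h_rc_47_1 lc_h_Cert_tree lc_h_rc_40_0 lc_h_rc_40_0 lc_h_rc_35_1 lc_h_rc_14_1 lc_h_rc_22_1 lc_h_Cert_tree lc_h_rc_14_1 lc_h_Cert_tree lc_h_rc_40_0 lc_h_rc_42_1 lc_h_rc_42_1 lc_h_rc_29_3 lc_h_rc_41_2 lc_h_rc_22_1 lc_h_Cert_tree lc_h_rc_14_1 lc_h_Cert_tree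 lc_h_rc_40_0 lc_h_rc_5_1 lc_h_rc_29_3 lc_h_Cert_tree lc_h_rc_40_0 lc_h_Cert_tree lc_h_rc_40_0 lc_h_rc_5_1 lc_h_Cert_tree lc_h_Cert_tree lc_h_rc_40_0 lc_h_rc_5_1 lc_h_rc_40_0 lc_h_rc_5_1 lc_h_Cert_tree lc_h_rc_40_0 lc_h_Cert_tree lc_h_Cert_tree lc_h_rc_40_0 lc_h_rc_29_3 lc_h_rc_22_1 lc_h_rc_40_0 lc_h_rc_22_1 lc_h_rc_22_1 lc_h_rc_14_1 lc_h_rc_35_3 lc_h_Cert_tree lc_h_rc_40_0) (@D3.rec (fun _ => (Cert rels S Gen.h)) lc_h_rc_40_0 lc_h_rc_14_1 lc_h_rc_14_1 lc_h_rc_22_1 lc_h_rc_5_1 lc_h_rc_14_1 lc_h_Cert_tree lc_h_rc_40_0 lc_h_rc_42_1 lc_h_rc_42_1 lc_h_rc_29_3 lc_h_rc_41_2 lc_h_rc_22_1 lc_h_Cert_tree lc_h_rc_14_1 lc_h_Cert_tree lc_h_rc_40_0 lc_h_Cert_tree lc_h_rc_22_3 lc_h_rc_22_3 lc_h_Cert_tree lc_h_rc_40_0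 lc_h_Cert_tree lc_h_Cert_tree lc_h_rc_40_0 lc_h_rc_29_3 lc_h_rc_5_1 lc_h_rc_40_0 lc_h_rc_5_1 lc_h_Cert_tree lc_h_rc_40_0 lc_h_rc_40_0 lc_h_rc_5_1 lc_h_rc_5_1 lc_h_rc_5_1 lc_h_rc_22_3 lc_h_rc_5_1 lc_h_Cert_tree lc_h_Cert_tree lc_h_rc_40_0 lc_h_rc_29_3 lc_h_rc_41_2 lc_h_Cert_tree lc_h_rc_40_0 lc_h_rc_40_0 lc_h_rc_47_1 lc_h_rc_22_1 lc_h_rc_22_1 lc_h_rc_35_1 lc_h_Cert_tree lc_h_rc_29_3) (@D3.rec (fun _ => (Cert rels S Gen.h)) lc_h_rc_22_1 lc_h_rc_35_1 lc_h_rc_47_1 lc_h_rc_42_1 lc_h_rc_29_5 lc_h_rc_47_1 lc_h_rc_42_1 lc_h_Cert_tree lc_h_rc_40_0 lc_h_rc_14_1 lc_h_rc_14_1 lc_h_rc_14_1 lc_h_rc_14_1 lc_h_rc_22_1 lc_h_Cert_tree lc_h_rc_14_1 lc_h_Cert_tree lc_h_rc_40_0 lc_h_rc_40_0 lc_h_rc_42_1 lc_h_rc_42_1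 lc_h_rc_22_1 lc_h_rc_35_1 lc_h_Cert_tree lc_h_rc_22_1 lc_h_Cert_tree lc_h_rc_14_1 lc_h_Cert_tree lc_h_rc_40_0 lc_h_rc_5_1 lc_h_Cert_tree lc_h_rc_40_0 lc_h_rc_51_1 lc_h_Cert_tree lc_h_Cert_tree lc_h_rc_40_0 lc_h_rc_41_2 lc_h_rc_51_1 lc_h_Cert_tree lc_h_rc_40_0 lc_h_rc_14_1 lc_h_rc_14_1 lc_h_rc_22_1 lc_h_rc_14_1 lc_h_rc_40_0 lc_h_rc_42_1 lc_h_rc_42_1 lc_h_rc_22_1 lc_h_rc_35_1 lc_h_Cert_tree lc_h_rc_22_1) (@D3.rec (fun _ => (Cert rels S Gen.h)) lc_h_Cert_tree lc_h_rc_14_1 lc_h_Cert_tree lc_h_rc_40_0 lc_h_rc_5_1 lc_h_Cert_tree lc_h_rc_40_0 lc_h_Cert_tree lc_h_Cert_tree lc_h_rc_40_0 lc_h_rc_5_1 lc_h_rc_22_3 lc_h_Cert_tree lc_h_rc_40_0 lc_h_rc_5_1 lc_h_rc_5_1 lc_h_rc_5_1 lc_h_rc_14_1 lc_h_Cert_tree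 lc_h_Cert_tree lc_h_rc_40_0 lc_h_rc_40_0 lc_h_rc_47_1 lc_h_rc_41_2 lc_h_rc_22_1 lc_h_rc_22_3 lc_h_Cert_tree lc_h_rc_40_0 lc_h_rc_42_1 lc_h_rc_51_1 lc_h_rc_22_1 lc_h_rc_14_1 lc_h_rc_40_0 lc_h_rc_14_1 lc_h_rc_22_1 lc_h_rc_22_1 lc_h_rc_35_1 lc_h_Cert_tree lc_h_rc_22_1 lc_h_Cert_tree lc_h_rc_14_1 lc_h_Cert_tree lc_h_rc_40_0 lc_h_rc_5_1 lc_h_Cert_tree lc_h_rc_40_0 lc_h_rc_47_1 lc_h_rc_47_1 lc_h_rc_22_1 lc_h_rc_35_1 lc_h_rc_41_4) (@D3.rec (fun _ => (Cert rels S Gen.h)) lc_h_rc_14_1 lc_h_rc_40_0 lc_h_rc_14_1 lc_h_rc_40_0 lc_h_rc_5_1 lc_h_Cert_tree lc_h_rc_40_0 lc_h_Cert_tree lc_h_rc_40_0 lc_h_rc_29_3 lc_h_rc_40_0 lc_h_rc_40_0 lc_h_rc_5_1 lc_h_rc_40_0 lc_h_rc_5_1 lc_h_rc_5_1 lc_h_rc_40_0 lc_h_rc_5_1 lc_h_rc_40_0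 lc_h_rc_40_1 lc_h_rc_22_1 lc_h_rc_40_0 lc_h_rc_29_3 lc_h_rc_22_1 lc_h_rc_35_1 lc_h_rc_29_3 lc_h_rc_42_1 lc_h_rc_22_3 lc_h_rc_40_0 lc_h_rc_40_0 lc_h_rc_29_3 lc_h_rc_14_1 lc_h_rc_22_1 lc_h_Cert_tree lc_h_rc_14_1 lc_h_rc_40_0 lc_h_rc_42_1 lc_h_rc_42_1 lc_h_rc_29_3 lc_h_rc_41_2 lc_h_rc_22_1 lc_h_Cert_tree lc_h_rc_14_1 lc_h_Cert_tree lc_h_rc_40_0 lc_h_rc_40_0 lc_h_rc_5_3 lc_h_rc_5_1 lc_h_rc_40_0 lc_h_rc_5_1 lc_h_rc_40_0) (@D3.rec (fun _ => (Cert rels S Gen.h)) lc_h_rc_40_0 lc_h_rc_5_1 lc_h_rc_5_1 lc_h_rc_22_1 lc_h_Cert_tree lc_h_rc_5_1 lc_h_rc_29_3 lc_h_rc_41_2 lc_h_rc_40_0 lc_h_rc_40_0 lc_h_rc_47_1 lc_h_rc_22_1 lc_h_rc_22_1 lc_h_rc_35_1 lc_h_Cert_tree lc_h_rc_29_3 lc_h_rc_22_1 lc_h_rc_35_1 lc_h_rc_29_3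 lc_h_rc_42_1 lc_h_rc_35_1 lc_h_rc_47_1 lc_h_rc_29_5 lc_h_rc_40_0 lc_h_rc_29_3 lc_h_rc_14_1 lc_h_rc_29_3 lc_h_rc_14_1 lc_h_rc_22_1 lc_h_Cert_tree lc_h_rc_14_1 lc_h_Cert_tree lc_h_rc_40_0 lc_h_rc_40_0 lc_h_rc_29_3 lc_h_rc_42_1 lc_h_rc_22_1 lc_h_rc_35_1 lc_h_Cert_tree lc_h_rc_22_1 lc_h_Cert_tree lc_h_rc_14_1 lc_h_Cert_tree lc_h_rc_40_0 lc_h_rc_5_1 lc_h_Cert_tree lc_h_rc_40_0 lc_h_rc_40_0 lc_h_rc_40_0 lc_h_rc_5_1 lc_h_rc_5_1) (@D3.rec (fun _ => (Cert rels S Gen.h)) lc_h_rc_5_1 lc_h_Cert_tree lc_h_rc_5_1 lc_h_rc_40_0 lc_h_rc_5_1 lc_h_rc_5_1 lc_h_rc_5_1 lc_h_rc_5_1 lc_h_rc_5_1 lc_h_Cert_tree lc_h_rc_14_1 lc_h_Cert_tree lc_h_rc_40_0 lc_h_rc_40_0 lc_h_rc_29_3 lc_h_rc_22_1 lc_h_rc_29_3 lc_h_rc_22_1 lc_h_rc_29_3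 lc_h_rc_29_3 lc_h_Cert_tree lc_h_rc_14_1 lc_h_rc_35_1 lc_h_Cert_tree lc_h_rc_42_1 lc_h_Cert_tree lc_h_rc_40_0 lc_h_rc_35_1 lc_h_rc_22_3 lc_h_rc_42_1 lc_h_rc_22_3 lc_h_rc_47_1 lc_h_rc_22_3 lc_h_rc_51_1 lc_h_rc_22_3 lc_h_rc_40_0 lc_h_rc_14_1 lc_h_rc_14_1 lc_h_rc_22_1 lc_h_rc_35_1 lc_h_Cert_tree lc_h_rc_22_1 lc_h_Cert_tree lc_h_rc_14_1 lc_h_Cert_tree lc_h_rc_40_0 lc_h_rc_5_1 lc_h_Cert_tree lc_h_rc_40_0 lc_h_rc_47_1 lc_h_rc_41_2) (@D3.rec (fun _ => (Cert rels S Gen.h)) lc_h_rc_22_3 lc_h_rc_42_1 lc_h_rc_42_3 lc_h_rc_40_0 lc_h_rc_22_3 lc_h_rc_5_1 lc_h_rc_22_3 lc_h_Cert_tree lc_h_rc_40_0 lc_h_rc_5_1 lc_h_rc_5_1 lc_h_rc_5_1 lc_h_rc_22_3 lc_h_rc_5_1 lc_h_rc_22_3 lc_h_rc_14_1 lc_h_Cert_tree lc_h_rc_40_0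 lc_h_rc_5_1 lc_h_Cert_tree lc_h_rc_40_0 lc_h_rc_22_1 lc_h_rc_14_1 lc_h_rc_35_1 lc_h_rc_14_1 lc_h_rc_5_1 lc_h_rc_40_0 lc_h_Cert_tree lc_h_rc_40_0 lc_h_rc_29_3 lc_h_rc_40_0 lc_h_rc_29_3 lc_h_rc_41_4 lc_h_rc_35_1 lc_h_rc_47_1 lc_h_rc_42_1 lc_h_rc_40_0 lc_h_rc_41_4 lc_h_rc_29_3 lc_h_rc_35_1 lc_h_Cert_tree lc_h_rc_35_1 lc_h_rc_42_1 lc_h_rc_5_1 lc_h_rc_42_1 lc_h_Cert_tree lc_h_rc_40_0 lc_h_rc_40_0 lc_h_rc_51_1 lc_h_rc_40_0 lc_h_rc_29_3) (@D3.rec (fun _ => (Cert rels S Gen.h)) lc_h_rc_35_1 lc_h_rc_42_1 lc_h_Cert_tree lc_h_rc_40_0 lc_h_rc_42_1 lc_h_rc_51_1 lc_h_Cert_tree lc_h_rc_47_1 lc_h_rc_51_1 lc_h_Cert_tree lc_h_rc_40_0 lc_h_rc_40_0 lc_h_rc_29_3 lc_h_rc_40_0 lc_h_rc_5_1 lc_h_Cert_tree lc_h_Cert_tree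 lc_h_rc_40_0 lc_h_rc_29_3 lc_h_rc_41_2 lc_h_rc_47_1 lc_h_rc_22_1 lc_h_rc_35_1 lc_h_rc_29_3 lc_h_rc_35_1 lc_h_rc_42_1 lc_h_rc_47_1 lc_h_rc_5_1 lc_h_rc_35_1 lc_h_rc_14_1 lc_h_Cert_tree lc_h_Cert_tree lc_h_rc_40_0 lc_h_rc_35_1 lc_h_rc_42_1 lc_h_Cert_tree lc_h_rc_47_1 lc_h_rc_47_1 lc_h_Cert_tree lc_h_rc_40_0 lc_h_rc_29_3 lc_h_Cert_tree lc_h_rc_40_0 lc_h_rc_40_0 lc_h_rc_29_3 lc_h_rc_41_2 lc_h_rc_35_1 lc_h_rc_35_1 lc_h_rc_42_1 lc_h_rc_47_1 lc_h_Cert_tree) (@D3.rec (fun _ => (Cert rels S Gen.h)) lc_h_rc_40_0 lc_h_rc_29_5 lc_h_rc_41_2 lc_h_Cert_tree lc_h_Cert_tree lc_h_rc_40_0 lc_h_rc_29_3 lc_h_rc_41_2 lc_h_rc_47_1 lc_h_rc_22_1 lc_h_rc_22_1 lc_h_Cert_tree lc_h_Cert_tree lc_h_rc_40_0 lc_h_rc_5_1 lc_h_Cert_tree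 lc_h_rc_40_0 lc_h_rc_40_0 lc_h_rc_47_1 lc_h_rc_41_2 lc_h_rc_35_1 lc_h_rc_35_3 lc_h_rc_47_1 lc_h_rc_42_1 lc_h_rc_35_1 lc_h_rc_42_1 lc_h_rc_47_1 lc_h_rc_51_1 lc_h_Cert_tree lc_h_Cert_tree lc_h_rc_40_0 lc_h_rc_5_1 lc_h_rc_5_1 lc_h_Cert_tree lc_h_Cert_tree lc_h_rc_40_0 lc_h_rc_40_0 lc_h_rc_47_1 lc_h_rc_41_2 lc_h_rc_22_1 lc_h_rc_41_2 lc_h_rc_42_1 lc_h_rc_51_1 lc_h_rc_22_1 lc_h_rc_14_1 lc_h_Cert_tree lc_h_rc_40_0 lc_h_Cert_tree lc_h_Cert_tree lc_h_rc_40_0 lc_h_rc_14_1) (@D3.rec (fun _ => (Cert rels S Gen.h)) lc_h_rc_14_1 lc_h_Cert_tree lc_h_Cert_tree lc_h_rc_40_0 lc_h_rc_40_0 lc_h_rc_5_1 lc_h_Cert_tree lc_h_rc_40_0 lc_h_rc_40_0 lc_h_rc_41_2 lc_h_rc_41_2 lc_h_rc_29_3 lc_h_rc_41_2 lc_h_rc_35_1 lc_h_rc_35_1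 lc_h_rc_42_1 lc_h_rc_47_1 lc_h_rc_5_1 lc_h_rc_47_1 lc_h_rc_41_2 lc_h_rc_22_1 lc_h_rc_35_1 lc_h_rc_41_2 lc_h_rc_47_1 lc_h_rc_22_1 lc_h_rc_42_1 lc_h_rc_35_1 lc_h_rc_42_1 lc_h_rc_47_1 lc_h_rc_51_1 lc_h_rc_42_1 lc_h_rc_47_1 lc_h_rc_51_1 lc_h_rc_5_1 lc_h_rc_47_1 lc_h_rc_41_2 lc_h_rc_22_1 lc_h_rc_35_1 lc_h_rc_41_2 lc_h_rc_47_1 lc_h_rc_42_1 lc_h_rc_42_1 lc_h_rc_47_1 lc_h_rc_29_1 lc_h_rc_40_0 lc_h_rc_29_3 lc_h_rc_35_1 lc_h_rc_29_3 lc_h_rc_22_1 lc_h_rc_42_1 lc_h_rc_47_1) (@D3.rec (fun _ => (Cert rels S Gen.h)) lc_h_rc_40_0 lc_h_rc_40_0 lc_h_rc_40_0 lc_h_rc_40_0 lc_h_rc_14_1 lc_h_rc_40_0 lc_h_rc_40_0 lc_h_rc_41_2 lc_h_rc_40_0 lc_h_rc_40_0 lc_h_rc_5_1 lc_h_rc_40_0 lc_h_rc_29_3 lc_h_rc_22_1 lc_h_rc_40_0 lc_h_rc_40_0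 lc_h_rc_14_1 lc_h_rc_40_0 lc_h_rc_29_3 lc_h_rc_41_2 lc_h_rc_40_0 lc_h_rc_41_2 lc_h_rc_40_0 lc_h_rc_40_0 lc_h_rc_5_1 lc_h_rc_5_1 lc_h_rc_40_0 lc_h_rc_40_0 lc_h_rc_5_1 lc_h_rc_40_0 lc_h_rc_40_0 lc_h_rc_29_3 lc_h_rc_22_1 lc_h_rc_35_1 lc_h_Cert_tree lc_h_rc_40_0 lc_h_rc_14_1 lc_h_rc_14_1 lc_h_rc_40_0 lc_h_rc_14_1 lc_h_rc_40_0 lc_h_rc_40_0 lc_h_rc_35_1 lc_h_rc_41_2 lc_h_rc_22_1 lc_h_Cert_tree lc_h_rc_41_2 lc_h_Cert_tree lc_h_rc_14_1 lc_h_rc_5_1 lc_h_rc_40_0) (@D3.rec (fun _ => (Cert rels S Gen.h)) lc_h_rc_42_1 lc_h_rc_42_1 lc_h_rc_47_1 lc_h_rc_47_1 lc_h_rc_29_1 lc_h_rc_40_0 lc_h_rc_41_2 lc_h_Cert_tree lc_h_rc_40_0 lc_h_rc_14_1 lc_h_Cert_tree lc_h_rc_41_2 lc_h_rc_40_0 lc_h_rc_41_2 lc_h_rc_35_1 lc_h_rc_5_3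 lc_h_rc_5_1 lc_h_Cert_tree lc_h_rc_47_3 lc_h_rc_40_0 lc_h_rc_35_1 lc_h_rc_40_0 lc_h_rc_41_2 lc_h_Cert_tree lc_h_Cert_tree lc_h_rc_40_0 lc_h_rc_14_1 lc_h_Cert_tree lc_h_rc_40_0 lc_h_rc_41_2 lc_h_rc_40_0 lc_h_rc_41_2 lc_h_rc_5_3 lc_h_rc_47_1 lc_h_rc_5_1 lc_h_rc_47_1 lc_h_Cert_tree lc_h_rc_40_0 lc_h_rc_51_3 lc_h_rc_40_0 lc_h_Cert_tree lc_h_rc_35_1 lc_h_rc_40_0 lc_h_rc_29_3 lc_h_rc_41_2 lc_h_Cert_tree lc_h_rc_40_0 lc_h_Cert_tree lc_h_Cert_tree lc_h_rc_40_0 lc_h_rc_14_1) (@D3.rec (fun _ => (Cert rels S Gen.h)) lc_h_rc_14_1 lc_h_Cert_tree lc_h_rc_40_0 lc_h_Cert_tree lc_h_rc_40_0 lc_h_rc_41_2 lc_h_Cert_tree lc_h_Cert_tree lc_h_rc_40_0 lc_h_Cert_tree lc_h_rc_22_3 lc_h_rc_40_0 lc_h_rc_22_3 lc_h_Cert_tree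 lc_h_Cert_tree lc_h_rc_40_0 lc_h_rc_29_3 lc_h_rc_22_1 lc_h_Cert_tree lc_h_rc_40_0 lc_h_rc_5_1 lc_h_rc_40_0 lc_h_rc_14_1 lc_h_rc_51_3 lc_h_rc_14_3 lc_h_rc_40_0 lc_h_rc_29_3 lc_h_rc_41_2 lc_h_rc_40_0 lc_h_rc_41_2 lc_h_Cert_tree lc_h_Cert_tree lc_h_rc_40_0 lc_h_rc_29_3 lc_h_rc_22_1 lc_h_Cert_tree lc_h_rc_40_0 lc_h_Cert_tree lc_h_rc_40_0 lc_h_rc_14_1 lc_h_Cert_tree lc_h_Cert_tree lc_h_rc_40_0 lc_h_rc_29_3 lc_h_rc_41_2 lc_h_rc_40_0 lc_h_rc_41_2 lc_h_Cert_tree lc_h_rc_40_0 lc_h_Cert_tree lc_h_Cert_tree) (@D3.rec (fun _ => (Cert rels S Gen.h)) lc_h_rc_40_0 lc_h_rc_5_1 lc_h_rc_41_2 lc_h_Cert_tree lc_h_rc_40_0 lc_h_rc_47_1 lc_h_rc_40_0 lc_h_rc_22_3 lc_h_Cert_tree lc_h_Cert_tree lc_h_rc_40_0 lc_h_Cert_tree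 lc_h_rc_40_0 lc_h_rc_29_3 lc_h_rc_22_1 lc_h_rc_29_3 lc_h_Cert_tree lc_h_Cert_tree lc_h_Cert_tree lc_h_rc_40_0 lc_h_rc_14_1 lc_h_rc_14_1 lc_h_rc_40_0 lc_h_rc_14_1 lc_h_Cert_tree lc_h_rc_40_0 lc_h_rc_40_0 lc_h_rc_29_3 lc_h_rc_41_2 lc_h_rc_5_1 lc_h_Cert_tree lc_h_rc_41_2 lc_h_Cert_tree lc_h_Cert_tree lc_h_rc_40_0 lc_h_Cert_tree lc_h_rc_40_0 lc_h_rc_29_3 lc_h_rc_22_1 lc_h_Cert_tree lc_h_Cert_tree lc_h_Cert_tree lc_h_rc_40_0 lc_h_rc_14_1 lc_h_rc_14_1 lc_h_rc_40_0 lc_h_rc_14_1 lc_h_Cert_tree lc_h_rc_40_0 lc_h_rc_40_0 lc_h_rc_29_3) (@D3.rec (fun _ => (Cert rels S Gen.h)) lc_h_rc_41_2 lc_h_rc_22_1 lc_h_Cert_tree lc_h_rc_41_2 lc_h_Cert_tree lc_h_Cert_tree lc_h_rc_40_0 lc_h_rc_14_1 lc_h_rc_41_2 lc_h_Cert_tree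 lc_h_Cert_tree lc_h_rc_40_0 lc_h_Cert_tree lc_h_rc_40_0 lc_h_rc_5_1 lc_h_rc_42_1 lc_h_rc_5_1 lc_h_Cert_tree lc_h_Cert_tree lc_h_Cert_tree lc_h_rc_40_0 lc_h_rc_5_1 lc_h_rc_22_3 lc_h_rc_40_0 lc_h_rc_22_3 lc_h_Cert_tree lc_h_rc_40_0 lc_h_Cert_tree lc_h_Cert_tree lc_h_rc_40_0 lc_h_rc_29_3 lc_h_rc_22_1 lc_h_rc_40_0 lc_h_rc_29_3 lc_h_rc_22_1 lc_h_rc_35_1 lc_h_Cert_tree lc_h_rc_42_1 lc_h_Cert_tree lc_h_rc_40_0 lc_h_Cert_tree lc_h_rc_40_0 lc_h_rc_40_0 lc_h_rc_14_1 lc_h_rc_14_1 lc_h_rc_22_1 lc_h_Cert_tree lc_h_rc_14_1 lc_h_Cert_tree lc_h_rc_40_0 lc_h_rc_42_1)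
def ce_h_6 : D2 → D3 → (Cert rels S Gen.h) := @D2.rec (fun _ => D3 → (Cert rels S Gen.h)) (@D3.rec (fun _ => (Cert rels S Gen.h)) lc_h_rc_42_1 lc_h_rc_29_3 lc_h_rc_41_2 lc_h_rc_22_1 lc_h_Cert_tree lc_h_rc_14_1 lc_h_Cert_tree lc_h_rc_40_0 lc_h_Cert_tree lc_h_Cert_tree lc_h_rc_40_0 lc_h_rc_5_1 lc_h_Cert_tree lc_h_rc_40_0 lc_h_Cert_tree lc_h_Cert_tree lc_h_rc_40_0 lc_h_rc_29_3 lc_h_rc_14_1 lc_h_Cert_tree lc_h_rc_40_0 lc_h_Cert_tree lc_h_rc_40_0 lc_h_rc_41_2 lc_h_Cert_tree lc_h_Cert_tree lc_h_rc_40_0 lc_h_Cert_tree lc_h_Cert_tree lc_h_rc_40_0 lc_h_rc_5_1 lc_h_rc_5_1 lc_h_Cert_tree lc_h_Cert_tree lc_h_rc_40_0 lc_h_rc_29_3 lc_h_rc_22_1 lc_h_Cert_tree lc_h_rc_40_0 lc_h_Cert_tree lc_h_rc_40_0 lc_h_rc_14_1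 lc_h_Cert_tree lc_h_Cert_tree lc_h_rc_40_0 lc_h_rc_29_3 lc_h_rc_41_2 lc_h_rc_40_0 lc_h_rc_41_2 lc_h_Cert_tree lc_h_rc_40_0) (@D3.rec (fun _ => (Cert rels S Gen.h)) lc_h_Cert_tree lc_h_Cert_tree lc_h_rc_40_0 lc_h_rc_29_3 lc_h_rc_5_1 lc_h_Cert_tree lc_h_rc_40_0 lc_h_Cert_tree lc_h_rc_40_0 lc_h_rc_5_1 lc_h_Cert_tree lc_h_Cert_tree lc_h_rc_40_0 lc_h_Cert_tree lc_h_rc_40_0 lc_h_rc_29_3 lc_h_rc_22_1 lc_h_rc_29_3 lc_h_Cert_tree lc_h_Cert_tree lc_h_Cert_tree lc_h_rc_40_0 lc_h_rc_42_1 lc_h_rc_14_1 lc_h_rc_40_0 lc_h_rc_14_1 lc_h_rc_42_3 lc_h_rc_40_0 lc_h_rc_40_0 lc_h_rc_29_3 lc_h_rc_41_2 lc_h_rc_22_1 lc_h_Cert_tree lc_h_rc_41_2 lc_h_Cert_tree lc_h_Cert_tree lc_h_rc_40_0 lc_h_Cert_tree lc_h_Cert_tree lc_h_rc_40_0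 lc_h_rc_5_1 lc_h_rc_5_1 lc_h_Cert_tree lc_h_Cert_tree lc_h_rc_40_0 lc_h_rc_29_3 lc_h_rc_22_1 lc_h_Cert_tree lc_h_rc_40_0 lc_h_Cert_tree lc_h_rc_40_0) (@D3.rec (fun _ => (Cert rels S Gen.h)) lc_h_rc_41_2 lc_h_Cert_tree lc_h_Cert_tree lc_h_rc_40_0 lc_h_rc_35_1 lc_h_rc_41_2 lc_h_rc_40_0 lc_h_rc_41_2 lc_h_Cert_tree lc_h_rc_40_0 lc_h_Cert_tree lc_h_Cert_tree lc_h_rc_40_0 lc_h_rc_29_3 lc_h_rc_5_1 lc_h_Cert_tree lc_h_rc_40_0 lc_h_Cert_tree lc_h_rc_40_0 lc_h_rc_5_1 lc_h_Cert_tree lc_h_Cert_tree lc_h_rc_40_0 lc_h_Cert_tree lc_h_rc_40_0 lc_h_rc_29_3 lc_h_rc_22_1 lc_h_rc_35_1 lc_h_Cert_tree lc_h_Cert_tree lc_h_Cert_tree lc_h_rc_40_0 lc_h_rc_14_1 lc_h_rc_14_1 lc_h_rc_40_0 lc_h_rc_14_1 lc_h_Cert_tree lc_h_rc_40_0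 lc_h_rc_40_0 lc_h_rc_29_3 lc_h_rc_41_2 lc_h_rc_22_1 lc_h_Cert_tree lc_h_rc_41_2 lc_h_Cert_tree lc_h_Cert_tree lc_h_rc_40_0 lc_h_rc_14_1 lc_h_Cert_tree lc_h_Cert_tree lc_h_rc_40_0) (@D3.rec (fun _ => (Cert rels S Gen.h)) lc_h_Cert_tree lc_h_rc_40_0 lc_h_rc_29_3 lc_h_rc_5_1 lc_h_Cert_tree lc_h_Cert_tree lc_h_Cert_tree lc_h_rc_40_0 lc_h_rc_5_1 lc_h_rc_5_1 lc_h_rc_40_0 lc_h_rc_5_1 lc_h_Cert_tree lc_h_rc_40_0 lc_h_Cert_tree lc_h_Cert_tree lc_h_rc_40_0 lc_h_rc_29_3 lc_h_rc_22_1 lc_h_rc_40_0 lc_h_rc_29_3 lc_h_rc_22_1 lc_h_rc_35_1 lc_h_Cert_tree lc_h_rc_42_1 lc_h_Cert_tree lc_h_rc_40_0 lc_h_Cert_tree lc_h_rc_40_0 lc_h_rc_40_0 lc_h_rc_47_1 lc_h_rc_14_1 lc_h_rc_22_1 lc_h_Cert_tree lc_h_rc_14_1 lc_h_Cert_tree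 lc_h_rc_40_0 lc_h_rc_42_1 lc_h_rc_42_1 lc_h_rc_29_3 lc_h_rc_41_2 lc_h_rc_22_1 lc_h_Cert_tree lc_h_rc_14_1 lc_h_Cert_tree lc_h_rc_40_0 lc_h_Cert_tree lc_h_rc_40_0 lc_h_Cert_tree lc_h_rc_40_0 lc_h_rc_29_3) (@D3.rec (fun _ => (Cert rels S Gen.h)) lc_h_rc_22_1 lc_h_Cert_tree lc_h_rc_40_0 lc_h_rc_5_1 lc_h_Cert_tree lc_h_rc_40_0 lc_h_Cert_tree lc_h_rc_40_0 lc_h_rc_29_3 lc_h_rc_22_1 lc_h_rc_35_1 lc_h_Cert_tree lc_h_Cert_tree lc_h_Cert_tree lc_h_rc_40_0 lc_h_rc_41_2 lc_h_rc_40_0 lc_h_rc_41_2 lc_h_Cert_tree lc_h_rc_40_0 lc_h_rc_40_0 lc_h_rc_29_3 lc_h_rc_41_2 lc_h_rc_22_1 lc_h_rc_14_1 lc_h_rc_41_2 lc_h_Cert_tree lc_h_Cert_tree lc_h_rc_40_0 lc_h_rc_14_1 lc_h_Cert_tree lc_h_rc_40_0 lc_h_Cert_tree lc_h_rc_40_0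 lc_h_rc_29_3 lc_h_rc_5_1 lc_h_Cert_tree lc_h_Cert_tree lc_h_Cert_tree lc_h_rc_40_0 lc_h_rc_5_1 lc_h_rc_40_0 lc_h_rc_5_1 lc_h_Cert_tree lc_h_rc_40_0 lc_h_Cert_tree lc_h_Cert_tree lc_h_rc_40_0 lc_h_rc_29_3 lc_h_rc_22_1 lc_h_rc_40_0) (@D3.rec (fun _ => (Cert rels S Gen.h)) lc_h_rc_29_3 lc_h_rc_22_1 lc_h_rc_35_1 lc_h_Cert_tree lc_h_rc_42_1 lc_h_Cert_tree lc_h_rc_40_0 lc_h_Cert_tree lc_h_rc_40_0 lc_h_rc_40_0 lc_h_rc_14_1 lc_h_rc_14_1 lc_h_rc_22_1 lc_h_rc_5_1 lc_h_rc_14_1 lc_h_Cert_tree lc_h_rc_40_0 lc_h_rc_42_1 lc_h_rc_42_1 lc_h_rc_29_3 lc_h_rc_41_2 lc_h_rc_22_1 lc_h_Cert_tree lc_h_rc_14_1 lc_h_Cert_tree lc_h_rc_40_0 lc_h_Cert_tree lc_h_Cert_tree lc_h_rc_40_0 lc_h_Cert_tree lc_h_rc_40_0 lc_h_rc_14_1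 lc_h_Cert_tree lc_h_rc_40_0 lc_h_Cert_tree lc_h_Cert_tree lc_h_rc_40_0 lc_h_rc_29_3 lc_h_rc_5_1 lc_h_rc_40_0 lc_h_rc_29_3 lc_h_rc_5_1 lc_h_rc_35_1 lc_h_Cert_tree lc_h_rc_40_0 lc_h_Cert_tree lc_h_rc_40_0 lc_h_rc_40_0 lc_h_rc_5_1 lc_h_rc_5_1 lc_h_rc_5_1) (@D3.rec (fun _ => (Cert rels S Gen.h)) lc_h_rc_22_3 lc_h_rc_5_1 lc_h_Cert_tree lc_h_Cert_tree lc_h_rc_40_0 lc_h_rc_29_3 lc_h_rc_41_2 lc_h_Cert_tree lc_h_rc_40_0 lc_h_rc_40_0 lc_h_rc_47_1 lc_h_rc_22_1 lc_h_rc_22_1 lc_h_rc_35_1 lc_h_Cert_tree lc_h_rc_29_3 lc_h_rc_22_1 lc_h_rc_35_1 lc_h_Cert_tree lc_h_rc_42_1 lc_h_Cert_tree lc_h_rc_40_0 lc_h_rc_47_1 lc_h_Cert_tree lc_h_rc_40_0 lc_h_Cert_tree lc_h_rc_40_0 lc_h_rc_14_1 lc_h_rc_14_1 lc_h_rc_14_1 lc_h_rc_14_1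 lc_h_rc_22_1 lc_h_Cert_tree lc_h_rc_14_1 lc_h_Cert_tree lc_h_rc_40_0 lc_h_rc_40_0 lc_h_rc_42_1 lc_h_rc_42_1 lc_h_rc_22_1 lc_h_rc_35_1 lc_h_Cert_tree lc_h_rc_22_1 lc_h_Cert_tree lc_h_rc_14_1 lc_h_Cert_tree lc_h_rc_40_0 lc_h_rc_5_1 lc_h_Cert_tree lc_h_rc_40_0 lc_h_rc_42_1) (@D3.rec (fun _ => (Cert rels S Gen.h)) lc_h_rc_29_3 lc_h_rc_22_1 lc_h_rc_14_1 lc_h_rc_51_1 lc_h_Cert_tree lc_h_Cert_tree lc_h_rc_40_0 lc_h_rc_41_2 lc_h_rc_51_1 lc_h_Cert_tree lc_h_rc_40_0 lc_h_rc_14_1 lc_h_rc_14_1 lc_h_rc_22_1 lc_h_rc_14_1 lc_h_rc_40_0 lc_h_rc_42_1 lc_h_rc_42_1 lc_h_rc_22_1 lc_h_rc_35_1 lc_h_Cert_tree lc_h_rc_22_1 lc_h_Cert_tree lc_h_rc_14_1 lc_h_Cert_tree lc_h_rc_40_0 lc_h_rc_5_1 lc_h_Cert_tree lc_h_rc_40_0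 lc_h_Cert_tree lc_h_Cert_tree lc_h_rc_40_0 lc_h_rc_5_1 lc_h_rc_22_3 lc_h_Cert_tree lc_h_rc_40_0 lc_h_rc_5_1 lc_h_rc_5_1 lc_h_rc_5_1 lc_h_rc_14_1 lc_h_Cert_tree lc_h_Cert_tree lc_h_rc_40_0 lc_h_rc_40_0 lc_h_rc_47_1 lc_h_rc_41_2 lc_h_rc_22_1 lc_h_rc_22_3 lc_h_Cert_tree lc_h_rc_40_0 lc_h_rc_42_1) (@D3.rec (fun _ => (Cert rels S Gen.h)) lc_h_rc_51_1 lc_h_rc_22_1 lc_h_rc_14_1 lc_h_rc_40_0 lc_h_rc_14_1 lc_h_rc_22_1 lc_h_rc_22_1 lc_h_rc_35_1 lc_h_Cert_tree lc_h_rc_22_1 lc_h_Cert_tree lc_h_rc_14_1 lc_h_Cert_tree lc_h_rc_40_0 lc_h_rc_5_1 lc_h_Cert_tree lc_h_rc_40_0 lc_h_rc_47_1 lc_h_rc_47_1 lc_h_rc_22_1 lc_h_rc_35_1 lc_h_Cert_tree lc_h_rc_14_1 lc_h_rc_35_1 lc_h_Cert_tree lc_h_Cert_tree lc_h_rc_40_0 lc_h_rc_14_1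 lc_h_Cert_tree lc_h_rc_40_0 lc_h_rc_5_1 lc_h_Cert_tree lc_h_rc_40_0 lc_h_Cert_tree lc_h_rc_40_0 lc_h_rc_29_3 lc_h_rc_5_3 lc_h_rc_41_2 lc_h_rc_40_0 lc_h_rc_22_1 lc_h_rc_40_0 lc_h_rc_35_1 lc_h_rc_14_1 lc_h_rc_5_3 lc_h_rc_5_1 lc_h_Cert_tree lc_h_rc_40_0 lc_h_rc_40_0 lc_h_rc_41_2 lc_h_rc_41_2 lc_h_rc_40_0) (@D3.rec (fun _ => (Cert rels S Gen.h)) lc_h_rc_29_3 lc_h_Cert_tree lc_h_rc_22_1 lc_h_rc_40_0 lc_h_rc_35_1 lc_h_rc_40_0 lc_h_rc_14_1 lc_h_rc_42_1 lc_h_rc_41_2 lc_h_rc_47_1 lc_h_rc_5_1 lc_h_rc_47_1 lc_h_Cert_tree lc_h_Cert_tree lc_h_rc_40_0 lc_h_rc_14_1 lc_h_rc_14_1 lc_h_rc_40_0 lc_h_rc_41_2 lc_h_Cert_tree lc_h_rc_40_0 lc_h_rc_40_0 lc_h_rc_29_3 lc_h_rc_41_2 lc_h_rc_22_1 lc_h_Cert_tree lc_h_rc_41_2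 lc_h_Cert_tree lc_h_Cert_tree lc_h_rc_40_0 lc_h_rc_22_1 lc_h_rc_29_3 lc_h_rc_40_0 lc_h_rc_29_3 lc_h_rc_40_0 lc_h_rc_14_1 lc_h_rc_41_2 lc_h_rc_41_2 lc_h_Cert_tree lc_h_rc_40_0 lc_h_Cert_tree lc_h_Cert_tree lc_h_rc_40_0 lc_h_rc_29_3 lc_h_rc_41_2 lc_h_Cert_tree lc_h_rc_40_0 lc_h_Cert_tree lc_h_rc_40_0 lc_h_rc_22_3 lc_h_Cert_tree) (@D3.rec (fun _ => (Cert rels S Gen.h)) lc_h_Cert_tree lc_h_rc_40_0 lc_h_rc_40_0 lc_h_rc_29_3 lc_h_rc_22_1 lc_h_rc_35_1 lc_h_rc_41_2 lc_h_Cert_tree lc_h_Cert_tree lc_h_rc_40_0 lc_h_rc_14_1 lc_h_rc_14_1 lc_h_rc_40_0 lc_h_rc_14_1 lc_h_rc_40_0 lc_h_rc_40_0 lc_h_rc_47_1 lc_h_rc_41_2 lc_h_rc_55_34 lc_h_rc_42_1 lc_h_rc_41_2 lc_h_rc_41_2 lc_h_rc_41_2 lc_h_Cert_tree lc_h_Cert_tree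 lc_h_rc_40_0 lc_h_Cert_tree lc_h_rc_40_0 lc_h_rc_22_1 lc_h_Cert_tree lc_h_rc_29_3 lc_h_rc_40_0 lc_h_rc_5_3 lc_h_rc_14_1 lc_h_rc_40_0 lc_h_rc_14_1 lc_h_rc_42_1 lc_h_rc_40_0 lc_h_rc_41_2 lc_h_Cert_tree lc_h_rc_41_2 lc_h_Cert_tree lc_h_Cert_tree lc_h_rc_40_0 lc_h_rc_41_2 lc_h_rc_5_3 lc_h_Cert_tree lc_h_rc_40_0 lc_h_Cert_tree lc_h_rc_40_0 lc_h_rc_42_1) (@D3.rec (fun _ => (Cert rels S Gen.h)) lc_h_rc_42_1 lc_h_rc_47_1 lc_h_Cert_tree lc_h_Cert_tree lc_h_rc_40_0 lc_h_rc_5_1 lc_h_rc_35_1 lc_h_rc_40_0 lc_h_rc_22_3 lc_h_Cert_tree lc_h_rc_40_0 lc_h_Cert_tree lc_h_Cert_tree lc_h_rc_40_0 lc_h_rc_29_3 lc_h_rc_22_1 lc_h_rc_40_0 lc_h_rc_29_3 lc_h_rc_22_1 lc_h_rc_35_1 lc_h_rc_42_1 lc_h_rc_42_1 lc_h_rc_41_2 lc_h_Cert_tree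 lc_h_rc_40_0 lc_h_rc_40_0 lc_h_rc_14_1 lc_h_rc_14_1 lc_h_rc_5_1 lc_h_Cert_tree lc_h_rc_14_1 lc_h_Cert_tree lc_h_rc_40_0 lc_h_rc_42_1 lc_h_rc_42_1 lc_h_rc_29_3 lc_h_rc_41_2 lc_h_rc_22_1 lc_h_Cert_tree lc_h_rc_14_1 lc_h_Cert_tree lc_h_rc_40_0 lc_h_rc_35_1 lc_h_rc_41_2 lc_h_rc_22_1 lc_h_Cert_tree lc_h_rc_41_2 lc_h_Cert_tree lc_h_rc_40_0 lc_h_Cert_tree lc_h_Cert_tree) (@D3.rec (fun _ => (Cert rels S Gen.h)) lc_h_rc_40_0 lc_h_rc_29_3 lc_h_rc_22_1 lc_h_rc_40_0 lc_h_rc_22_1 lc_h_Cert_tree lc_h_rc_40_0 lc_h_rc_40_0 lc_h_rc_14_1 lc_h_rc_14_1 lc_h_rc_22_1 lc_h_Cert_tree lc_h_rc_14_1 lc_h_rc_47_3 lc_h_rc_40_0 lc_h_rc_42_1 lc_h_rc_42_1 lc_h_rc_29_3 lc_h_rc_41_2 lc_h_rc_22_1 lc_h_Cert_tree lc_h_rc_14_1 lc_h_Cert_tree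 lc_h_rc_40_0 lc_h_Cert_tree lc_h_Cert_tree lc_h_rc_40_0 lc_h_Cert_tree lc_h_rc_40_0 lc_h_rc_35_3 lc_h_Cert_tree lc_h_rc_40_0 lc_h_Cert_tree lc_h_Cert_tree lc_h_rc_40_0 lc_h_rc_29_3 lc_h_rc_29_5 lc_h_rc_40_0 lc_h_rc_29_3 lc_h_rc_41_2 lc_h_rc_5_1 lc_h_rc_35_3 lc_h_Cert_tree lc_h_rc_40_0 lc_h_rc_40_0 lc_h_rc_5_1 lc_h_rc_22_3 lc_h_rc_5_1 lc_h_Cert_tree lc_h_rc_22_3 lc_h_Cert_tree) (@D3.rec (fun _ => (Cert rels S Gen.h)) lc_h_Cert_tree lc_h_rc_40_0 lc_h_rc_29_3 lc_h_rc_41_2 lc_h_Cert_tree lc_h_rc_40_0 lc_h_rc_40_0 lc_h_rc_47_1 lc_h_rc_22_1 lc_h_rc_22_1 lc_h_rc_35_1 lc_h_Cert_tree lc_h_rc_29_3 lc_h_rc_22_1 lc_h_rc_35_1 lc_h_rc_41_2 lc_h_rc_42_1 lc_h_rc_29_5 lc_h_rc_47_1 lc_h_rc_42_1 lc_h_Cert_tree lc_h_rc_40_0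 lc_h_rc_14_1 lc_h_rc_14_1 lc_h_rc_14_1 lc_h_rc_14_1 lc_h_rc_22_1 lc_h_Cert_tree lc_h_rc_14_1 lc_h_Cert_tree lc_h_rc_40_0 lc_h_rc_40_0 lc_h_rc_42_1 lc_h_rc_42_1 lc_h_rc_22_1 lc_h_rc_35_1 lc_h_Cert_tree lc_h_rc_22_1 lc_h_Cert_tree lc_h_rc_14_1 lc_h_Cert_tree lc_h_rc_40_0 lc_h_rc_5_1 lc_h_Cert_tree lc_h_rc_40_0 lc_h_rc_42_1 lc_h_Cert_tree lc_h_Cert_tree lc_h_rc_40_0 lc_h_rc_5_1 lc_h_Cert_tree) (@D3.rec (fun _ => (Cert rels S Gen.h)) lc_h_rc_40_0 lc_h_Cert_tree lc_h_rc_40_0 lc_h_rc_5_1 lc_h_Cert_tree lc_h_Cert_tree lc_h_rc_40_0 lc_h_Cert_tree lc_h_rc_40_0 lc_h_rc_42_1 lc_h_rc_22_1 lc_h_rc_51_1 lc_h_rc_51_1 lc_h_rc_22_3 lc_h_rc_40_0 lc_h_rc_14_1 lc_h_rc_14_1 lc_h_rc_40_0 lc_h_rc_14_1 lc_h_rc_41_2 lc_h_Cert_tree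 lc_h_rc_41_2 lc_h_rc_42_3 lc_h_rc_47_1 lc_h_Cert_tree lc_h_Cert_tree lc_h_rc_40_0 lc_h_Cert_tree lc_h_rc_40_0 lc_h_rc_5_1 lc_h_Cert_tree lc_h_Cert_tree lc_h_rc_40_0 lc_h_rc_5_1 lc_h_rc_5_1 lc_h_rc_40_0 lc_h_rc_5_1 lc_h_rc_51_1 lc_h_rc_40_0 lc_h_Cert_tree lc_h_Cert_tree lc_h_rc_40_0 lc_h_rc_29_3 lc_h_rc_22_1 lc_h_rc_40_0 lc_h_rc_41_0 lc_h_rc_22_1 lc_h_rc_35_1 lc_h_rc_42_1 lc_h_rc_42_1 lc_h_rc_41_2) (@D3.rec (fun _ => (Cert rels S Gen.h)) lc_h_Cert_tree lc_h_rc_40_0 lc_h_rc_40_0 lc_h_rc_35_1 lc_h_rc_14_1 lc_h_rc_22_1 lc_h_Cert_tree lc_h_rc_14_1 lc_h_Cert_tree lc_h_rc_40_0 lc_h_rc_42_1 lc_h_rc_14_3 lc_h_rc_29_3 lc_h_rc_14_3 lc_h_rc_22_1 lc_h_Cert_tree lc_h_rc_14_1 lc_h_Cert_tree lc_h_rc_40_0 lc_h_rc_42_3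 lc_h_rc_42_1 lc_h_Cert_tree lc_h_Cert_tree lc_h_rc_40_0 lc_h_Cert_tree lc_h_rc_40_0 lc_h_rc_5_1 lc_h_Cert_tree lc_h_Cert_tree lc_h_rc_40_0 lc_h_rc_29_3 lc_h_rc_5_1 lc_h_rc_40_0 lc_h_rc_5_1 lc_h_Cert_tree lc_h_rc_40_0 lc_h_Cert_tree lc_h_Cert_tree lc_h_rc_40_0 lc_h_rc_29_3 lc_h_rc_22_1 lc_h_rc_40_0 lc_h_rc_42_1 lc_h_rc_22_1 lc_h_rc_42_1 lc_h_rc_29_3 lc_h_Cert_tree lc_h_rc_40_0 lc_h_rc_40_0 lc_h_rc_14_1 lc_h_rc_14_1) (@D3.rec (fun _ => (Cert rels S Gen.h)) lc_h_rc_22_1 lc_h_Cert_tree lc_h_rc_14_1 lc_h_rc_14_3 lc_h_rc_40_0 lc_h_rc_42_1 lc_h_rc_42_1 lc_h_rc_41_2 lc_h_Cert_tree lc_h_rc_14_1 lc_h_Cert_tree lc_h_rc_40_0 lc_h_Cert_tree lc_h_rc_47_1 lc_h_rc_42_3 lc_h_Cert_tree lc_h_rc_40_0 lc_h_Cert_tree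 lc_h_Cert_tree lc_h_rc_40_0 lc_h_rc_29_3 lc_h_rc_5_1 lc_h_rc_40_0 lc_h_rc_5_1 lc_h_Cert_tree lc_h_rc_40_0 lc_h_rc_40_0 lc_h_rc_5_1 lc_h_rc_5_1 lc_h_rc_22_1 lc_h_Cert_tree lc_h_rc_5_1 lc_h_Cert_tree lc_h_rc_51_3 lc_h_rc_40_0 lc_h_rc_29_3 lc_h_rc_41_2 lc_h_Cert_tree lc_h_rc_40_0 lc_h_rc_40_0 lc_h_rc_47_1 lc_h_rc_22_1 lc_h_rc_22_1 lc_h_rc_35_1 lc_h_Cert_tree lc_h_rc_51_1 lc_h_rc_22_1 lc_h_rc_35_1 lc_h_rc_42_1 lc_h_rc_42_1 lc_h_rc_35_1) (@D3.rec (fun _ => (Cert rels S Gen.h)) lc_h_rc_47_1 lc_h_rc_42_1 lc_h_Cert_tree lc_h_rc_40_0 lc_h_rc_42_1 lc_h_rc_14_1 lc_h_rc_35_1 lc_h_rc_14_1 lc_h_rc_22_1 lc_h_Cert_tree lc_h_rc_14_1 lc_h_Cert_tree lc_h_rc_40_0 lc_h_rc_40_0 lc_h_rc_42_1 lc_h_rc_42_1 lc_h_rc_22_1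 lc_h_rc_42_1 lc_h_Cert_tree lc_h_rc_22_1 lc_h_Cert_tree lc_h_rc_14_1 lc_h_Cert_tree lc_h_rc_40_0 lc_h_rc_5_1 lc_h_Cert_tree lc_h_rc_40_0 lc_h_rc_35_1 lc_h_rc_29_3 lc_h_Cert_tree lc_h_Cert_tree lc_h_rc_40_0 lc_h_rc_41_0 lc_h_rc_5_1 lc_h_rc_40_0 lc_h_rc_5_1 lc_h_Cert_tree lc_h_rc_40_0 lc_h_rc_40_0 lc_h_rc_5_1 lc_h_rc_5_1 lc_h_Cert_tree lc_h_Cert_tree lc_h_rc_40_0 lc_h_rc_29_3 lc_h_rc_41_2 lc_h_Cert_tree lc_h_rc_40_0 lc_h_rc_40_0 lc_h_rc_47_1 lc_h_rc_22_1) (@D3.rec (fun _ => (Cert rels S Gen.h)) lc_h_rc_41_0 lc_h_rc_35_1 lc_h_Cert_tree lc_h_rc_14_1 lc_h_rc_22_1 lc_h_rc_14_1 lc_h_rc_47_1 lc_h_rc_29_5 lc_h_Cert_tree lc_h_rc_40_0 lc_h_rc_14_1 lc_h_rc_14_1 lc_h_rc_14_1 lc_h_rc_14_1 lc_h_rc_22_1 lc_h_rc_5_1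 lc_h_rc_14_1 lc_h_rc_5_1 lc_h_rc_40_0 lc_h_rc_42_1 lc_h_rc_42_1 lc_h_rc_22_1 lc_h_rc_35_1 lc_h_Cert_tree lc_h_rc_22_1 lc_h_Cert_tree lc_h_rc_14_1 lc_h_Cert_tree lc_h_rc_40_0 lc_h_rc_5_1 lc_h_Cert_tree lc_h_rc_40_0 lc_h_Cert_tree lc_h_rc_40_0 lc_h_rc_42_1 lc_h_rc_14_3 lc_h_Cert_tree lc_h_Cert_tree lc_h_rc_40_0 lc_h_rc_29_3 lc_h_rc_5_1 lc_h_Cert_tree lc_h_rc_40_0 lc_h_rc_40_0 lc_h_rc_47_1 lc_h_rc_5_1 lc_h_rc_14_3 lc_h_Cert_tree lc_h_rc_5_1 lc_h_Cert_tree lc_h_rc_40_0) (@D3.rec (fun _ => (Cert rels S Gen.h)) lc_h_rc_5_1 lc_h_rc_5_1 lc_h_rc_5_1 lc_h_rc_5_1 lc_h_rc_5_1 lc_h_rc_22_3 lc_h_rc_14_1 lc_h_rc_14_3 lc_h_Cert_tree lc_h_Cert_tree lc_h_rc_40_0 lc_h_rc_40_0 lc_h_rc_47_1 lc_h_rc_41_2 lc_h_rc_22_1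 lc_h_rc_35_1 lc_h_Cert_tree lc_h_Cert_tree lc_h_rc_40_0 lc_h_rc_42_1 lc_h_rc_22_1 lc_h_rc_51_1 lc_h_rc_22_1 lc_h_rc_22_1 lc_h_rc_47_1 lc_h_Cert_tree lc_h_rc_14_1 lc_h_rc_22_1 lc_h_Cert_tree lc_h_rc_42_1 lc_h_Cert_tree lc_h_rc_40_0 lc_h_rc_35_1 lc_h_rc_41_2 lc_h_rc_42_1 lc_h_rc_41_2 lc_h_rc_47_1 lc_h_rc_42_1 lc_h_rc_51_1 lc_h_rc_47_1 lc_h_rc_40_0 lc_h_rc_14_1 lc_h_rc_14_1 lc_h_rc_22_1 lc_h_rc_35_1 lc_h_Cert_tree lc_h_rc_22_1 lc_h_Cert_tree lc_h_rc_14_1 lc_h_Cert_tree lc_h_rc_40_0) (@D3.rec (fun _ => (Cert rels S Gen.h)) lc_h_rc_5_1 lc_h_Cert_tree lc_h_rc_40_0 lc_h_rc_47_1 lc_h_rc_47_1 lc_h_rc_22_1 lc_h_rc_35_1 lc_h_Cert_tree lc_h_rc_14_1 lc_h_rc_41_2 lc_h_rc_41_4 lc_h_rc_29_5 lc_h_rc_40_0 lc_h_rc_14_1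 lc_h_rc_42_1 lc_h_rc_40_0 lc_h_rc_5_1 lc_h_Cert_tree lc_h_rc_40_0 lc_h_Cert_tree lc_h_rc_40_0 lc_h_rc_29_3 lc_h_rc_41_4 lc_h_Cert_tree lc_h_Cert_tree lc_h_rc_40_0 lc_h_rc_40_0 lc_h_rc_41_2 lc_h_rc_41_4 lc_h_rc_40_0 lc_h_rc_14_1 lc_h_rc_22_1 lc_h_rc_35_1 lc_h_rc_22_1 lc_h_rc_14_1 lc_h_rc_5_1 lc_h_rc_47_1 lc_h_rc_47_1 lc_h_rc_22_1 lc_h_rc_35_1 lc_h_rc_41_4 lc_h_rc_14_1 lc_h_rc_35_1 lc_h_Cert_tree lc_h_Cert_tree lc_h_rc_40_0 lc_h_rc_14_1 lc_h_Cert_tree lc_h_rc_40_0 lc_h_rc_5_1 lc_h_Cert_tree) (@D3.rec (fun _ => (Cert rels S Gen.h)) lc_h_rc_40_0 lc_h_Cert_tree lc_h_rc_40_0 lc_h_rc_29_3 lc_h_Cert_tree lc_h_Cert_tree lc_h_rc_40_0 lc_h_rc_40_0 lc_h_rc_5_1 lc_h_rc_22_3 lc_h_rc_40_0 lc_h_rc_5_1 lc_h_rc_5_1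 lc_h_rc_5_1 lc_h_rc_5_1 lc_h_rc_14_1 lc_h_rc_5_1 lc_h_Cert_tree lc_h_rc_40_0 lc_h_Cert_tree lc_h_rc_40_0 lc_h_rc_42_1 lc_h_rc_41_2 lc_h_rc_51_1 lc_h_rc_41_2 lc_h_rc_22_1 lc_h_rc_22_3 lc_h_rc_14_1 lc_h_rc_14_3 lc_h_rc_40_0 lc_h_rc_42_1 lc_h_rc_42_1 lc_h_rc_35_1 lc_h_rc_22_1 lc_h_rc_14_1 lc_h_rc_5_1 lc_h_rc_14_1 lc_h_rc_41_2 lc_h_rc_22_1 lc_h_rc_35_1 lc_h_rc_22_3 lc_h_rc_14_1 lc_h_rc_35_1 lc_h_Cert_tree lc_h_rc_22_3 lc_h_rc_40_0 lc_h_rc_14_1 lc_h_Cert_tree lc_h_rc_40_0 lc_h_rc_5_1 lc_h_Cert_tree) (@D3.rec (fun _ => (Cert rels S Gen.h)) lc_h_rc_40_0 lc_h_Cert_tree lc_h_rc_40_0 lc_h_rc_14_3 lc_h_rc_5_1 lc_h_rc_5_1 lc_h_Cert_tree lc_h_rc_40_0 lc_h_rc_29_3 lc_h_rc_40_0 lc_h_rc_14_1 lc_h_rc_35_1 lc_h_rc_5_1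 lc_h_rc_5_1 lc_h_rc_5_1 lc_h_rc_5_1 lc_h_rc_22_1 lc_h_Cert_tree lc_h_rc_5_1 lc_h_rc_22_1 lc_h_rc_14_3 lc_h_rc_35_1 lc_h_Cert_tree lc_h_rc_41_0 lc_h_rc_22_1 lc_h_rc_35_1 lc_h_rc_22_3 lc_h_rc_42_1 lc_h_rc_35_1 lc_h_rc_47_1 lc_h_rc_22_3 lc_h_rc_42_1 lc_h_rc_14_1 lc_h_rc_29_3 lc_h_rc_14_1 lc_h_rc_22_1 lc_h_Cert_tree lc_h_rc_14_1 lc_h_Cert_tree lc_h_rc_40_0 lc_h_rc_42_1 lc_h_rc_42_1 lc_h_rc_22_1 lc_h_rc_35_1 lc_h_Cert_tree lc_h_rc_22_1 lc_h_Cert_tree lc_h_rc_14_1 lc_h_Cert_tree lc_h_rc_40_0 lc_h_rc_5_1) (@D3.rec (fun _ => (Cert rels S Gen.h)) lc_h_Cert_tree lc_h_rc_40_0 lc_h_rc_5_1 lc_h_rc_5_3 lc_h_Cert_tree lc_h_rc_5_1 lc_h_rc_5_1 lc_h_rc_5_1 lc_h_rc_5_1 lc_h_rc_5_1 lc_h_rc_22_1 lc_h_Cert_tree lc_h_rc_14_1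 lc_h_Cert_tree lc_h_rc_40_0 lc_h_rc_22_1 lc_h_rc_35_1 lc_h_rc_5_3 lc_h_rc_22_1 lc_h_rc_22_1 lc_h_rc_47_1 lc_h_rc_47_1 lc_h_Cert_tree lc_h_rc_14_1 lc_h_rc_22_1 lc_h_Cert_tree lc_h_rc_42_1 lc_h_Cert_tree lc_h_rc_40_0 lc_h_rc_35_1 lc_h_rc_22_3 lc_h_rc_42_1 lc_h_rc_35_1 lc_h_rc_47_1 lc_h_rc_35_1 lc_h_rc_51_1 lc_h_rc_22_3 lc_h_rc_29_3 lc_h_rc_14_1 lc_h_rc_22_1 lc_h_rc_35_1 lc_h_Cert_tree lc_h_rc_22_1 lc_h_Cert_tree lc_h_rc_14_1 lc_h_Cert_tree lc_h_rc_40_0 lc_h_rc_5_1 lc_h_Cert_tree lc_h_rc_40_0 lc_h_rc_47_1) (@D3.rec (fun _ => (Cert rels S Gen.h)) lc_h_rc_22_1 lc_h_Cert_tree lc_h_rc_14_1 lc_h_rc_22_1 lc_h_Cert_tree lc_h_Cert_tree lc_h_rc_40_0 lc_h_rc_14_1 lc_h_Cert_tree lc_h_rc_40_0 lc_h_rc_5_1 lc_h_Cert_tree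 lc_h_rc_40_0 lc_h_Cert_tree lc_h_rc_40_0 lc_h_rc_29_3 lc_h_rc_5_1 lc_h_rc_5_1 lc_h_rc_5_1 lc_h_rc_5_1 lc_h_rc_5_1 lc_h_Cert_tree lc_h_rc_14_1 lc_h_Cert_tree lc_h_rc_40_0 lc_h_rc_5_1 lc_h_rc_5_1 lc_h_rc_5_1 lc_h_rc_5_1 lc_h_Cert_tree lc_h_rc_5_1 lc_h_Cert_tree lc_h_rc_14_1 lc_h_Cert_tree lc_h_rc_40_0 lc_h_rc_5_1 lc_h_Cert_tree lc_h_rc_40_0 lc_h_rc_29_3 lc_h_rc_22_1 lc_h_rc_29_3 lc_h_rc_35_1 lc_h_Cert_tree lc_h_rc_29_3 lc_h_rc_29_3 lc_h_Cert_tree lc_h_rc_14_1 lc_h_rc_35_1 lc_h_Cert_tree lc_h_rc_42_1 lc_h_Cert_tree) (@D3.rec (fun _ => (Cert rels S Gen.h)) lc_h_rc_40_0 lc_h_rc_5_1 lc_h_rc_14_1 lc_h_Cert_tree lc_h_rc_42_1 lc_h_Cert_tree lc_h_rc_40_0 lc_h_rc_47_1 lc_h_Cert_tree lc_h_rc_40_0 lc_h_rc_42_1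 lc_h_rc_22_3 lc_h_rc_47_1 lc_h_rc_22_3 lc_h_rc_51_1 lc_h_rc_22_3 lc_h_rc_22_3 lc_h_rc_14_1 lc_h_rc_22_1 lc_h_rc_22_3 lc_h_rc_14_1 lc_h_rc_35_1 lc_h_Cert_tree lc_h_rc_22_3 lc_h_rc_40_0 lc_h_rc_14_1 lc_h_rc_42_3 lc_h_rc_40_0 lc_h_rc_5_1 lc_h_rc_41_4 lc_h_rc_40_0 lc_h_Cert_tree lc_h_rc_40_0 lc_h_rc_29_3 lc_h_rc_22_3 lc_h_rc_22_3 lc_h_rc_22_3 lc_h_rc_40_0 lc_h_rc_5_1 lc_h_rc_14_1 lc_h_rc_5_1 lc_h_rc_14_3 lc_h_rc_14_1 lc_h_rc_14_3 lc_h_rc_5_1 lc_h_Cert_tree lc_h_rc_40_0 lc_h_Cert_tree lc_h_rc_40_0 lc_h_rc_5_1 lc_h_Cert_tree) (@D3.rec (fun _ => (Cert rels S Gen.h)) lc_h_rc_29_3 lc_h_rc_40_0 lc_h_rc_14_1 lc_h_rc_35_1 lc_h_rc_22_1 lc_h_rc_42_1 lc_h_rc_40_0 lc_h_rc_40_0 lc_h_rc_41_2 lc_h_rc_42_1 lc_h_rc_47_1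 lc_h_Cert_tree lc_h_Cert_tree lc_h_rc_40_0 lc_h_rc_41_2 lc_h_rc_22_3 lc_h_Cert_tree lc_h_rc_40_0 lc_h_rc_40_0 lc_h_rc_29_3 lc_h_rc_35_3 lc_h_rc_47_1 lc_h_Cert_tree lc_h_rc_40_0 lc_h_rc_40_0 lc_h_rc_47_1 lc_h_rc_41_2 lc_h_rc_22_1 lc_h_rc_35_1 lc_h_rc_41_2 lc_h_rc_47_1 lc_h_rc_35_1 lc_h_rc_42_1 lc_h_rc_47_1 lc_h_rc_51_1 lc_h_rc_40_0 lc_h_rc_40_0 lc_h_rc_41_2 lc_h_rc_42_1 lc_h_rc_47_1 lc_h_rc_40_0 lc_h_rc_40_0 lc_h_rc_29_3 lc_h_rc_41_2 lc_h_rc_40_0 lc_h_rc_5_1 lc_h_rc_41_2 lc_h_rc_35_1 lc_h_rc_41_2 lc_h_rc_42_1 lc_h_rc_42_1)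
def ce_h_7 : D2 → D3 → (Cert rels S Gen.h) := @D2.rec (fun _ => D3 → (Cert rels S Gen.h)) (@D3.rec (fun _ => (Cert rels S Gen.h)) lc_h_rc_47_1 lc_h_rc_51_1 lc_h_Cert_tree lc_h_Cert_tree lc_h_rc_40_0 lc_h_rc_5_1 lc_h_Cert_tree lc_h_rc_40_0 lc_h_rc_40_0 lc_h_rc_47_1 lc_h_rc_41_2 lc_h_rc_22_1 lc_h_rc_41_2 lc_h_rc_22_1 lc_h_Cert_tree lc_h_rc_40_0 lc_h_rc_40_0 lc_h_rc_5_1 lc_h_rc_40_0 lc_h_rc_41_2 lc_h_rc_41_2 lc_h_rc_47_1 lc_h_rc_35_3 lc_h_rc_42_1 lc_h_rc_29_5 lc_h_rc_42_1 lc_h_rc_47_1 lc_h_rc_42_1 lc_h_rc_47_1 lc_h_rc_51_1 lc_h_Cert_tree lc_h_rc_40_0 lc_h_rc_40_0 lc_h_rc_5_1 lc_h_Cert_tree lc_h_rc_40_0 lc_h_rc_40_0 lc_h_rc_42_1 lc_h_rc_41_2 lc_h_rc_51_1 lc_h_rc_41_2 lc_h_rc_22_1 lc_h_rc_41_2 lc_h_rc_14_1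 lc_h_rc_22_1 lc_h_rc_40_0 lc_h_rc_22_1 lc_h_rc_40_0 lc_h_rc_40_0 lc_h_rc_14_1 lc_h_rc_40_0) (@D3.rec (fun _ => (Cert rels S Gen.h)) lc_h_rc_40_0 lc_h_rc_5_1 lc_h_rc_5_1 lc_h_rc_40_0 lc_h_rc_29_3 lc_h_rc_41_2 lc_h_rc_41_2 lc_h_rc_35_1 lc_h_rc_41_2 lc_h_rc_42_1 lc_h_rc_42_1 lc_h_rc_47_1 lc_h_rc_47_1 lc_h_rc_47_1 lc_h_rc_22_1 lc_h_rc_42_1 lc_h_rc_41_2 lc_h_rc_42_1 lc_h_rc_47_1 lc_h_rc_42_1 lc_h_rc_47_1 lc_h_rc_51_1 lc_h_rc_47_1 lc_h_rc_51_1 lc_h_rc_47_1 lc_h_rc_47_1 lc_h_rc_42_1 lc_h_rc_47_1 lc_h_rc_5_1 lc_h_rc_29_3 lc_h_rc_22_1 lc_h_rc_14_1 lc_h_rc_41_2 lc_h_rc_41_2 lc_h_rc_5_1 lc_h_rc_5_1 lc_h_rc_5_1 lc_h_rc_29_3 lc_h_rc_22_1 lc_h_rc_35_1 lc_h_Cert_tree lc_h_rc_29_3 lc_h_rc_14_1 lc_h_rc_14_1 lc_h_rc_41_2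 lc_h_rc_41_2 lc_h_rc_41_2 lc_h_rc_14_1 lc_h_rc_14_1 lc_h_rc_5_1 lc_h_rc_5_1) (@D3.rec (fun _ => (Cert rels S Gen.h)) lc_h_rc_5_1 lc_h_Cert_tree lc_h_rc_5_1 lc_h_rc_5_1 lc_h_rc_5_1 lc_h_rc_22_1 lc_h_rc_29_3 lc_h_rc_22_1 lc_h_rc_35_1 lc_h_Cert_tree lc_h_rc_42_1 lc_h_Cert_tree lc_h_rc_40_0 lc_h_rc_14_1 lc_h_rc_14_1 lc_h_rc_22_1 lc_h_Cert_tree lc_h_rc_14_1 lc_h_rc_42_1 lc_h_rc_42_1 lc_h_rc_35_1 lc_h_rc_41_2 lc_h_rc_22_1 lc_h_Cert_tree lc_h_rc_14_1 lc_h_Cert_tree lc_h_rc_40_0 lc_h_rc_47_1 lc_h_rc_41_2 lc_h_rc_40_0 lc_h_rc_5_1 lc_h_rc_41_2 lc_h_Cert_tree lc_h_rc_41_2 lc_h_rc_40_0 lc_h_rc_41_2 lc_h_rc_40_0 lc_h_rc_5_3 lc_h_rc_5_1 lc_h_rc_22_1 lc_h_rc_35_1 lc_h_rc_40_0 lc_h_rc_41_2 lc_h_rc_47_1 lc_h_Cert_tree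 lc_h_rc_40_0 lc_h_rc_41_2 lc_h_rc_40_0 lc_h_Cert_tree lc_h_rc_41_2 lc_h_rc_40_0) (@D3.rec (fun _ => (Cert rels S Gen.h)) lc_h_rc_29_3 lc_h_rc_41_2 lc_h_rc_47_1 lc_h_rc_5_1 lc_h_rc_47_1 lc_h_rc_22_1 lc_h_Cert_tree lc_h_rc_35_1 lc_h_rc_40_0 lc_h_rc_14_1 lc_h_rc_42_1 lc_h_rc_40_0 lc_h_Cert_tree lc_h_Cert_tree lc_h_rc_40_0 lc_h_rc_29_3 lc_h_rc_22_1 lc_h_Cert_tree lc_h_rc_40_0 lc_h_Cert_tree lc_h_rc_40_0 lc_h_rc_14_1 lc_h_rc_47_1 lc_h_Cert_tree lc_h_rc_40_0 lc_h_rc_51_1 lc_h_rc_41_2 lc_h_rc_40_0 lc_h_rc_41_2 lc_h_Cert_tree lc_h_rc_40_0 lc_h_Cert_tree lc_h_rc_29_1 lc_h_rc_40_0 lc_h_rc_5_1 lc_h_rc_47_1 lc_h_rc_40_0 lc_h_rc_40_0 lc_h_rc_40_0 lc_h_Cert_tree lc_h_Cert_tree lc_h_rc_40_0 lc_h_rc_5_1 lc_h_rc_40_0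 lc_h_rc_29_3 lc_h_rc_22_1 lc_h_rc_29_3 lc_h_Cert_tree lc_h_rc_51_3 lc_h_rc_5_1 lc_h_rc_40_0) (@D3.rec (fun _ => (Cert rels S Gen.h)) lc_h_rc_29_3 lc_h_rc_14_1 lc_h_rc_14_1 lc_h_rc_41_2 lc_h_rc_41_2 lc_h_rc_41_2 lc_h_Cert_tree lc_h_Cert_tree lc_h_rc_40_0 lc_h_Cert_tree lc_h_rc_40_0 lc_h_rc_29_3 lc_h_rc_22_1 lc_h_Cert_tree lc_h_Cert_tree lc_h_Cert_tree lc_h_rc_40_0 lc_h_rc_14_1 lc_h_rc_14_1 lc_h_rc_40_0 lc_h_rc_14_1 lc_h_Cert_tree lc_h_rc_40_0 lc_h_rc_40_0 lc_h_rc_29_3 lc_h_rc_41_2 lc_h_rc_42_1 lc_h_Cert_tree lc_h_rc_41_2 lc_h_Cert_tree lc_h_Cert_tree lc_h_rc_40_0 lc_h_rc_14_1 lc_h_rc_47_1 lc_h_rc_5_3 lc_h_Cert_tree lc_h_rc_40_0 lc_h_rc_47_1 lc_h_rc_40_0 lc_h_rc_5_1 lc_h_rc_40_0 lc_h_rc_5_1 lc_h_Cert_tree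 lc_h_Cert_tree lc_h_rc_47_1 lc_h_rc_40_0 lc_h_rc_5_1 lc_h_rc_35_1 lc_h_rc_40_0 lc_h_Cert_tree lc_h_rc_40_0) (@D3.rec (fun _ => (Cert rels S Gen.h)) lc_h_Cert_tree lc_h_Cert_tree lc_h_rc_40_0 lc_h_rc_29_3 lc_h_rc_22_1 lc_h_rc_40_0 lc_h_rc_29_3 lc_h_rc_22_1 lc_h_rc_35_1 lc_h_Cert_tree lc_h_rc_42_1 lc_h_Cert_tree lc_h_rc_40_0 lc_h_Cert_tree lc_h_rc_40_0 lc_h_rc_40_0 lc_h_rc_29_3 lc_h_rc_14_1 lc_h_rc_22_1 lc_h_Cert_tree lc_h_rc_14_1 lc_h_rc_47_3 lc_h_rc_40_0 lc_h_rc_42_1 lc_h_rc_42_1 lc_h_rc_41_2 lc_h_rc_41_2 lc_h_rc_29_3 lc_h_rc_14_3 lc_h_rc_40_0 lc_h_Cert_tree lc_h_rc_40_0 lc_h_Cert_tree lc_h_Cert_tree lc_h_rc_40_0 lc_h_rc_29_3 lc_h_rc_22_1 lc_h_rc_40_0 lc_h_rc_29_3 lc_h_rc_22_1 lc_h_rc_35_1 lc_h_Cert_tree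 lc_h_rc_40_0 lc_h_Cert_tree lc_h_rc_40_0 lc_h_rc_40_0 lc_h_rc_14_1 lc_h_rc_14_1 lc_h_rc_22_1 lc_h_Cert_tree lc_h_rc_14_1) (@D3.rec (fun _ => (Cert rels S Gen.h)) lc_h_Cert_tree lc_h_rc_40_0 lc_h_rc_42_1 lc_h_rc_42_1 lc_h_rc_29_3 lc_h_rc_41_2 lc_h_rc_22_1 lc_h_Cert_tree lc_h_rc_14_1 lc_h_Cert_tree lc_h_rc_40_0 lc_h_Cert_tree lc_h_Cert_tree lc_h_rc_40_0 lc_h_Cert_tree lc_h_rc_40_0 lc_h_rc_14_1 lc_h_rc_42_1 lc_h_rc_22_1 lc_h_Cert_tree lc_h_Cert_tree lc_h_rc_40_0 lc_h_Cert_tree lc_h_Cert_tree lc_h_rc_40_0 lc_h_rc_29_3 lc_h_rc_42_1 lc_h_rc_40_0 lc_h_rc_5_1 lc_h_rc_47_1 lc_h_rc_5_1 lc_h_Cert_tree lc_h_rc_5_1 lc_h_Cert_tree lc_h_rc_40_0 lc_h_Cert_tree lc_h_rc_40_0 lc_h_rc_40_0 lc_h_rc_5_1 lc_h_rc_22_3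 lc_h_rc_5_1 lc_h_Cert_tree lc_h_rc_22_3 lc_h_Cert_tree lc_h_Cert_tree lc_h_rc_40_0 lc_h_rc_29_3 lc_h_rc_41_2 lc_h_Cert_tree lc_h_rc_40_0 lc_h_rc_40_0) (@D3.rec (fun _ => (Cert rels S Gen.h)) lc_h_rc_47_1 lc_h_rc_22_1 lc_h_rc_22_1 lc_h_rc_35_1 lc_h_Cert_tree lc_h_rc_29_3 lc_h_rc_22_1 lc_h_rc_35_1 lc_h_Cert_tree lc_h_rc_42_1 lc_h_Cert_tree lc_h_rc_40_0 lc_h_rc_47_1 lc_h_Cert_tree lc_h_rc_40_0 lc_h_Cert_tree lc_h_rc_40_0 lc_h_rc_14_1 lc_h_rc_14_1 lc_h_rc_14_1 lc_h_rc_14_1 lc_h_rc_22_1 lc_h_Cert_tree lc_h_rc_14_1 lc_h_Cert_tree lc_h_rc_40_0 lc_h_rc_40_0 lc_h_rc_42_1 lc_h_rc_42_1 lc_h_rc_22_1 lc_h_rc_35_1 lc_h_Cert_tree lc_h_rc_22_1 lc_h_Cert_tree lc_h_rc_14_1 lc_h_Cert_tree lc_h_rc_40_0 lc_h_rc_5_1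 lc_h_Cert_tree lc_h_rc_40_0 lc_h_Cert_tree lc_h_Cert_tree lc_h_rc_40_0 lc_h_Cert_tree lc_h_Cert_tree lc_h_rc_40_0 lc_h_rc_5_1 lc_h_rc_5_1 lc_h_rc_40_0 lc_h_rc_29_3 lc_h_rc_22_1) (@D3.rec (fun _ => (Cert rels S Gen.h)) lc_h_rc_40_0 lc_h_Cert_tree lc_h_rc_40_0 lc_h_rc_41_2 lc_h_Cert_tree lc_h_rc_40_0 lc_h_rc_35_1 lc_h_rc_41_2 lc_h_rc_40_0 lc_h_rc_41_2 lc_h_Cert_tree lc_h_rc_40_0 lc_h_Cert_tree lc_h_Cert_tree lc_h_rc_40_0 lc_h_rc_29_3 lc_h_rc_5_1 lc_h_Cert_tree lc_h_rc_40_0 lc_h_Cert_tree lc_h_rc_40_0 lc_h_rc_5_1 lc_h_Cert_tree lc_h_Cert_tree lc_h_rc_40_0 lc_h_Cert_tree lc_h_rc_40_0 lc_h_rc_29_3 lc_h_rc_22_1 lc_h_rc_35_1 lc_h_Cert_tree lc_h_Cert_tree lc_h_Cert_tree lc_h_rc_40_0 lc_h_rc_14_1 lc_h_rc_14_1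 lc_h_rc_40_0 lc_h_rc_14_1 lc_h_Cert_tree lc_h_rc_40_0 lc_h_rc_40_0 lc_h_rc_29_3 lc_h_rc_41_2 lc_h_rc_22_1 lc_h_Cert_tree lc_h_rc_41_2 lc_h_Cert_tree lc_h_Cert_tree lc_h_rc_40_0 lc_h_rc_14_1 lc_h_Cert_tree) (@D3.rec (fun _ => (Cert rels S Gen.h)) lc_h_Cert_tree lc_h_rc_40_0 lc_h_Cert_tree lc_h_rc_40_0 lc_h_rc_29_3 lc_h_rc_5_1 lc_h_Cert_tree lc_h_Cert_tree lc_h_Cert_tree lc_h_rc_40_0 lc_h_rc_5_1 lc_h_rc_5_1 lc_h_rc_40_0 lc_h_rc_5_1 lc_h_Cert_tree lc_h_rc_40_0 lc_h_Cert_tree lc_h_Cert_tree lc_h_rc_40_0 lc_h_rc_29_3 lc_h_rc_22_1 lc_h_rc_40_0 lc_h_rc_29_3 lc_h_rc_22_1 lc_h_rc_35_1 lc_h_Cert_tree lc_h_rc_42_1 lc_h_Cert_tree lc_h_rc_40_0 lc_h_rc_42_3 lc_h_rc_40_0 lc_h_rc_40_0 lc_h_rc_47_1 lc_h_rc_14_1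 lc_h_rc_22_1 lc_h_Cert_tree lc_h_rc_14_1 lc_h_rc_47_1 lc_h_rc_42_1 lc_h_rc_41_2 lc_h_Cert_tree lc_h_rc_14_1 lc_h_Cert_tree lc_h_rc_40_0 lc_h_rc_40_0 lc_h_Cert_tree lc_h_rc_40_0 lc_h_rc_29_3 lc_h_rc_22_1 lc_h_Cert_tree lc_h_rc_40_0) (@D3.rec (fun _ => (Cert rels S Gen.h)) lc_h_Cert_tree lc_h_rc_40_0 lc_h_rc_5_1 lc_h_rc_40_0 lc_h_rc_40_0 lc_h_rc_29_3 lc_h_rc_22_1 lc_h_rc_35_1 lc_h_Cert_tree lc_h_Cert_tree lc_h_rc_40_0 lc_h_rc_14_1 lc_h_rc_41_2 lc_h_rc_40_0 lc_h_rc_41_2 lc_h_Cert_tree lc_h_rc_40_0 lc_h_rc_40_0 lc_h_rc_35_1 lc_h_rc_41_2 lc_h_rc_22_1 lc_h_Cert_tree lc_h_rc_41_2 lc_h_Cert_tree lc_h_Cert_tree lc_h_rc_40_0 lc_h_rc_14_1 lc_h_Cert_tree lc_h_Cert_tree lc_h_rc_40_0 lc_h_Cert_tree lc_h_rc_40_0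 lc_h_rc_29_3 lc_h_rc_5_1 lc_h_Cert_tree lc_h_Cert_tree lc_h_Cert_tree lc_h_rc_40_0 lc_h_rc_29_3 lc_h_rc_5_1 lc_h_rc_40_0 lc_h_rc_5_1 lc_h_Cert_tree lc_h_rc_40_0 lc_h_Cert_tree lc_h_Cert_tree lc_h_rc_40_0 lc_h_rc_29_3 lc_h_rc_22_1 lc_h_rc_40_0 lc_h_rc_29_3) (@D3.rec (fun _ => (Cert rels S Gen.h)) lc_h_rc_22_1 lc_h_rc_35_1 lc_h_Cert_tree lc_h_rc_42_1 lc_h_Cert_tree lc_h_rc_40_0 lc_h_Cert_tree lc_h_rc_40_0 lc_h_rc_40_0 lc_h_rc_14_1 lc_h_rc_14_1 lc_h_rc_22_1 lc_h_Cert_tree lc_h_rc_14_1 lc_h_Cert_tree lc_h_rc_40_0 lc_h_rc_42_1 lc_h_rc_42_1 lc_h_rc_29_3 lc_h_rc_41_2 lc_h_rc_22_1 lc_h_Cert_tree lc_h_rc_14_1 lc_h_Cert_tree lc_h_rc_40_0 lc_h_Cert_tree lc_h_Cert_tree lc_h_rc_40_0 lc_h_Cert_tree lc_h_rc_40_0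 lc_h_rc_14_1 lc_h_Cert_tree lc_h_rc_40_0 lc_h_Cert_tree lc_h_Cert_tree lc_h_rc_40_0 lc_h_rc_29_3 lc_h_rc_5_1 lc_h_rc_40_0 lc_h_rc_29_3 lc_h_rc_5_1 lc_h_rc_35_1 lc_h_Cert_tree lc_h_rc_40_0 lc_h_Cert_tree lc_h_rc_40_0 lc_h_rc_40_0 lc_h_rc_5_1 lc_h_rc_5_1 lc_h_rc_22_1 lc_h_Cert_tree) (@D3.rec (fun _ => (Cert rels S Gen.h)) lc_h_rc_5_1 lc_h_Cert_tree lc_h_Cert_tree lc_h_rc_40_0 lc_h_rc_29_3 lc_h_rc_41_2 lc_h_Cert_tree lc_h_rc_40_0 lc_h_rc_40_0 lc_h_rc_47_1 lc_h_rc_22_1 lc_h_rc_22_1 lc_h_rc_35_1 lc_h_Cert_tree lc_h_rc_29_3 lc_h_rc_22_1 lc_h_rc_35_1 lc_h_Cert_tree lc_h_rc_42_1 lc_h_Cert_tree lc_h_rc_40_0 lc_h_rc_47_1 lc_h_Cert_tree lc_h_rc_40_0 lc_h_Cert_tree lc_h_rc_40_0 lc_h_rc_47_1 lc_h_rc_14_1 lc_h_rc_51_1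 lc_h_rc_14_1 lc_h_rc_22_1 lc_h_Cert_tree lc_h_rc_14_1 lc_h_Cert_tree lc_h_rc_40_0 lc_h_rc_40_0 lc_h_rc_42_1 lc_h_rc_42_1 lc_h_rc_22_1 lc_h_rc_47_1 lc_h_Cert_tree lc_h_Cert_tree lc_h_rc_14_1 lc_h_Cert_tree lc_h_rc_40_0 lc_h_rc_5_1 lc_h_Cert_tree lc_h_rc_40_0 lc_h_rc_40_0 lc_h_rc_14_1 lc_h_rc_14_1) (@D3.rec (fun _ => (Cert rels S Gen.h)) lc_h_rc_40_0 lc_h_rc_29_3 lc_h_rc_22_1 lc_h_Cert_tree lc_h_rc_40_0 lc_h_rc_5_1 lc_h_rc_40_0 lc_h_rc_22_1 lc_h_rc_22_1 lc_h_rc_40_0 lc_h_rc_29_3 lc_h_rc_22_1 lc_h_rc_35_1 lc_h_Cert_tree lc_h_rc_42_1 lc_h_Cert_tree lc_h_rc_40_0 lc_h_rc_40_0 lc_h_rc_40_0 lc_h_rc_41_2 lc_h_rc_41_2 lc_h_rc_40_0 lc_h_rc_42_1 lc_h_rc_42_1 lc_h_rc_29_3 lc_h_rc_41_2 lc_h_rc_22_1 lc_h_rc_14_1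 lc_h_rc_14_1 lc_h_rc_22_1 lc_h_Cert_tree lc_h_rc_40_0 lc_h_Cert_tree lc_h_rc_40_0 lc_h_rc_14_1 lc_h_Cert_tree lc_h_Cert_tree lc_h_rc_40_0 lc_h_rc_41_0 lc_h_rc_5_1 lc_h_rc_40_0 lc_h_rc_29_3 lc_h_rc_5_1 lc_h_rc_35_1 lc_h_Cert_tree lc_h_rc_40_0 lc_h_Cert_tree lc_h_rc_40_0 lc_h_rc_40_0 lc_h_rc_5_1 lc_h_rc_5_1) (@D3.rec (fun _ => (Cert rels S Gen.h)) lc_h_Cert_tree lc_h_Cert_tree lc_h_rc_40_0 lc_h_rc_29_3 lc_h_rc_41_2 lc_h_Cert_tree lc_h_rc_40_0 lc_h_rc_40_0 lc_h_rc_47_1 lc_h_rc_22_1 lc_h_rc_41_0 lc_h_rc_35_1 lc_h_Cert_tree lc_h_rc_29_3 lc_h_rc_22_1 lc_h_rc_35_1 lc_h_Cert_tree lc_h_rc_42_1 lc_h_Cert_tree lc_h_rc_40_0 lc_h_rc_47_1 lc_h_Cert_tree lc_h_rc_40_0 lc_h_Cert_tree lc_h_rc_40_0 lc_h_rc_14_1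 lc_h_rc_14_1 lc_h_rc_14_1 lc_h_rc_14_1 lc_h_rc_22_1 lc_h_rc_5_1 lc_h_rc_14_1 lc_h_rc_5_1 lc_h_rc_40_0 lc_h_rc_42_1 lc_h_rc_42_1 lc_h_rc_22_1 lc_h_rc_35_1 lc_h_Cert_tree lc_h_rc_22_1 lc_h_Cert_tree lc_h_rc_14_1 lc_h_Cert_tree lc_h_rc_40_0 lc_h_rc_5_1 lc_h_Cert_tree lc_h_rc_40_0 lc_h_Cert_tree lc_h_rc_40_0 lc_h_Cert_tree lc_h_Cert_tree) (@D3.rec (fun _ => (Cert rels S Gen.h)) lc_h_rc_40_0 lc_h_rc_29_3 lc_h_rc_14_1 lc_h_rc_40_0 lc_h_rc_14_1 lc_h_Cert_tree lc_h_Cert_tree lc_h_rc_40_0 lc_h_rc_29_3 lc_h_rc_5_1 lc_h_Cert_tree lc_h_rc_40_0 lc_h_rc_40_0 lc_h_rc_47_1 lc_h_rc_5_1 lc_h_rc_14_3 lc_h_rc_35_1 lc_h_Cert_tree lc_h_rc_29_3 lc_h_rc_5_1 lc_h_rc_35_1 lc_h_Cert_tree lc_h_Cert_tree lc_h_rc_40_0 lc_h_Cert_tree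 lc_h_rc_40_0 lc_h_rc_5_1 lc_h_rc_5_1 lc_h_rc_5_1 lc_h_rc_5_1 lc_h_rc_5_1 lc_h_rc_22_3 lc_h_rc_14_1 lc_h_rc_14_3 lc_h_Cert_tree lc_h_Cert_tree lc_h_rc_40_0 lc_h_rc_40_0 lc_h_rc_47_1 lc_h_rc_41_2 lc_h_rc_22_1 lc_h_rc_35_1 lc_h_Cert_tree lc_h_Cert_tree lc_h_rc_40_0 lc_h_rc_42_1 lc_h_rc_22_1 lc_h_rc_51_1 lc_h_rc_22_1 lc_h_rc_22_1 lc_h_rc_47_1) (@D3.rec (fun _ => (Cert rels S Gen.h)) lc_h_Cert_tree lc_h_rc_14_1 lc_h_rc_22_1 lc_h_Cert_tree lc_h_rc_42_1 lc_h_Cert_tree lc_h_rc_40_0 lc_h_rc_35_1 lc_h_Cert_tree lc_h_rc_42_1 lc_h_Cert_tree lc_h_rc_40_0 lc_h_rc_47_1 lc_h_Cert_tree lc_h_rc_40_0 lc_h_rc_51_1 lc_h_Cert_tree lc_h_rc_40_0 lc_h_rc_40_0 lc_h_rc_14_1 lc_h_rc_14_1 lc_h_rc_22_1 lc_h_rc_35_1 lc_h_Cert_tree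 lc_h_rc_22_1 lc_h_Cert_tree lc_h_rc_14_1 lc_h_Cert_tree lc_h_rc_40_0 lc_h_rc_5_1 lc_h_Cert_tree lc_h_rc_40_0 lc_h_rc_47_1 lc_h_rc_47_1 lc_h_rc_22_1 lc_h_rc_35_1 lc_h_Cert_tree lc_h_rc_14_1 lc_h_rc_35_1 lc_h_Cert_tree lc_h_Cert_tree lc_h_rc_40_0 lc_h_rc_14_1 lc_h_Cert_tree lc_h_rc_40_0 lc_h_rc_5_1 lc_h_Cert_tree lc_h_rc_40_0 lc_h_Cert_tree lc_h_rc_40_0 lc_h_rc_29_3) (@D3.rec (fun _ => (Cert rels S Gen.h)) lc_h_rc_35_1 lc_h_rc_41_4 lc_h_Cert_tree lc_h_Cert_tree lc_h_rc_40_0 lc_h_rc_40_0 lc_h_rc_41_2 lc_h_rc_41_4 lc_h_rc_40_0 lc_h_rc_14_1 lc_h_rc_22_1 lc_h_rc_35_1 lc_h_rc_22_1 lc_h_rc_14_1 lc_h_rc_47_1 lc_h_rc_47_1 lc_h_rc_22_1 lc_h_rc_35_1 lc_h_rc_22_1 lc_h_rc_14_1 lc_h_rc_40_0 lc_h_rc_40_0 lc_h_Cert_tree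 lc_h_rc_40_0 lc_h_rc_22_3 lc_h_rc_40_0 lc_h_rc_29_3 lc_h_Cert_tree lc_h_Cert_tree lc_h_rc_40_0 lc_h_rc_40_0 lc_h_rc_5_1 lc_h_rc_41_2 lc_h_rc_40_0 lc_h_rc_5_1 lc_h_rc_5_1 lc_h_rc_5_1 lc_h_rc_5_1 lc_h_rc_14_1 lc_h_rc_5_1 lc_h_Cert_tree lc_h_rc_40_0 lc_h_Cert_tree lc_h_rc_40_0 lc_h_rc_42_1 lc_h_rc_41_2 lc_h_rc_51_1 lc_h_rc_41_2 lc_h_rc_22_1 lc_h_rc_22_3 lc_h_rc_14_1) (@D3.rec (fun _ => (Cert rels S Gen.h)) lc_h_rc_14_3 lc_h_rc_40_0 lc_h_rc_42_1 lc_h_rc_42_1 lc_h_rc_35_1 lc_h_rc_22_1 lc_h_rc_14_1 lc_h_rc_5_1 lc_h_rc_14_1 lc_h_rc_22_1 lc_h_rc_22_1 lc_h_rc_35_1 lc_h_Cert_tree lc_h_rc_14_1 lc_h_rc_35_1 lc_h_Cert_tree lc_h_Cert_tree lc_h_rc_40_0 lc_h_rc_14_1 lc_h_Cert_tree lc_h_rc_40_0 lc_h_rc_5_1 lc_h_Cert_tree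 lc_h_rc_40_0 lc_h_Cert_tree lc_h_rc_40_0 lc_h_rc_14_3 lc_h_rc_22_1 lc_h_rc_35_1 lc_h_rc_47_3 lc_h_rc_14_1 lc_h_rc_40_0 lc_h_rc_5_1 lc_h_rc_14_1 lc_h_Cert_tree lc_h_rc_40_0 lc_h_rc_40_0 lc_h_rc_5_1 lc_h_Cert_tree lc_h_rc_40_0 lc_h_Cert_tree lc_h_rc_40_0 lc_h_rc_29_3 lc_h_rc_40_0 lc_h_rc_14_1 lc_h_rc_35_1 lc_h_rc_35_1 lc_h_rc_41_2 lc_h_rc_40_0 lc_h_rc_14_1 lc_h_Cert_tree) (@D3.rec (fun _ => (Cert rels S Gen.h)) lc_h_rc_35_1 lc_h_rc_40_0 lc_h_rc_42_1 lc_h_rc_14_1 lc_h_rc_42_1 lc_h_rc_42_1 lc_h_Cert_tree lc_h_rc_40_0 lc_h_rc_40_0 lc_h_rc_14_1 lc_h_rc_41_2 lc_h_Cert_tree lc_h_rc_51_1 lc_h_rc_40_0 lc_h_rc_42_1 lc_h_rc_29_3 lc_h_rc_22_1 lc_h_rc_14_3 lc_h_rc_14_1 lc_h_rc_40_0 lc_h_Cert_tree lc_h_rc_51_1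 lc_h_rc_40_0 lc_h_rc_40_0 lc_h_rc_22_1 lc_h_rc_14_1 lc_h_rc_14_1 lc_h_Cert_tree lc_h_rc_40_0 lc_h_rc_47_1 lc_h_rc_40_0 lc_h_rc_40_0 lc_h_rc_42_1 lc_h_rc_40_0 lc_h_rc_51_1 lc_h_Cert_tree lc_h_rc_40_0 lc_h_rc_42_1 lc_h_rc_35_1 lc_h_rc_40_0 lc_h_rc_29_1 lc_h_rc_40_0 lc_h_Cert_tree lc_h_rc_40_0 lc_h_rc_29_3 lc_h_rc_22_1 lc_h_rc_22_1 lc_h_rc_41_0 lc_h_rc_22_3 lc_h_rc_42_1 lc_h_rc_47_3) (@D3.rec (fun _ => (Cert rels S Gen.h)) lc_h_rc_40_0 lc_h_rc_40_0 lc_h_rc_47_1 lc_h_rc_41_2 lc_h_rc_5_1 lc_h_rc_41_2 lc_h_rc_41_2 lc_h_rc_42_1 lc_h_rc_14_3 lc_h_rc_22_1 lc_h_rc_51_1 lc_h_rc_14_3 lc_h_Cert_tree lc_h_rc_40_0 lc_h_Cert_tree lc_h_rc_47_1 lc_h_rc_40_0 lc_h_rc_29_3 lc_h_rc_22_1 lc_h_rc_40_0 lc_h_rc_22_1 lc_h_rc_42_1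 lc_h_rc_40_0 lc_h_rc_14_1 lc_h_rc_5_3 lc_h_Cert_tree lc_h_rc_14_1 lc_h_rc_42_1 lc_h_rc_40_0 lc_h_rc_29_5 lc_h_Cert_tree lc_h_rc_40_0 lc_h_rc_40_0 lc_h_rc_22_1 lc_h_Cert_tree lc_h_rc_40_0 lc_h_rc_22_1 lc_h_rc_40_0 lc_h_rc_40_0 lc_h_rc_42_1 lc_h_rc_40_0 lc_h_rc_42_1 lc_h_rc_40_0 lc_h_Cert_tree lc_h_rc_40_0 lc_h_rc_40_0 lc_h_rc_47_1 lc_h_rc_35_1 lc_h_Cert_tree lc_h_rc_29_1 lc_h_Cert_tree) (@D3.rec (fun _ => (Cert rels S Gen.h)) lc_h_rc_40_0 lc_h_rc_29_3 lc_h_rc_41_2 lc_h_Cert_tree lc_h_rc_40_0 lc_h_rc_40_0 lc_h_rc_47_1 lc_h_rc_22_1 lc_h_rc_5_1 lc_h_rc_35_1 lc_h_Cert_tree lc_h_rc_22_1 lc_h_rc_41_0 lc_h_rc_22_3 lc_h_rc_42_1 lc_h_rc_35_1 lc_h_rc_47_1 lc_h_rc_22_3 lc_h_Cert_tree lc_h_rc_40_0 lc_h_rc_14_1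 lc_h_rc_14_1 lc_h_rc_14_1 lc_h_rc_41_2 lc_h_rc_47_1 lc_h_Cert_tree lc_h_rc_5_1 lc_h_Cert_tree lc_h_rc_40_0 lc_h_rc_40_0 lc_h_rc_51_1 lc_h_rc_42_1 lc_h_rc_14_3 lc_h_rc_47_1 lc_h_rc_41_2 lc_h_rc_14_3 lc_h_rc_29_1 lc_h_rc_14_1 lc_h_Cert_tree lc_h_rc_40_0 lc_h_rc_22_1 lc_h_Cert_tree lc_h_rc_40_0 lc_h_rc_22_1 lc_h_Cert_tree lc_h_rc_14_1 lc_h_Cert_tree lc_h_rc_40_0 lc_h_Cert_tree lc_h_Cert_tree lc_h_rc_40_0) (@D3.rec (fun _ => (Cert rels S Gen.h)) lc_h_rc_29_3 lc_h_rc_41_2 lc_h_Cert_tree lc_h_rc_40_0 lc_h_rc_40_0 lc_h_rc_47_1 lc_h_rc_22_1 lc_h_rc_29_3 lc_h_Cert_tree lc_h_rc_22_1 lc_h_rc_47_3 lc_h_rc_40_0 lc_h_rc_14_1 lc_h_rc_14_1 lc_h_rc_14_1 lc_h_rc_14_1 lc_h_rc_22_1 lc_h_Cert_tree lc_h_rc_14_1 lc_h_Cert_tree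 lc_h_rc_40_0 lc_h_rc_42_1 lc_h_rc_22_1 lc_h_Cert_tree lc_h_rc_22_1 lc_h_Cert_tree lc_h_rc_14_1 lc_h_Cert_tree lc_h_rc_40_0 lc_h_rc_5_1 lc_h_Cert_tree lc_h_rc_40_0 lc_h_Cert_tree lc_h_rc_40_0 lc_h_Cert_tree lc_h_Cert_tree lc_h_rc_40_0 lc_h_rc_29_3 lc_h_rc_29_5 lc_h_rc_40_0 lc_h_rc_47_1 lc_h_Cert_tree lc_h_Cert_tree lc_h_rc_40_0 lc_h_rc_29_3 lc_h_rc_29_5 lc_h_Cert_tree lc_h_rc_40_0 lc_h_rc_40_0 lc_h_rc_47_1 lc_h_rc_47_1) (@D3.rec (fun _ => (Cert rels S Gen.h)) lc_h_rc_22_1 lc_h_rc_29_3 lc_h_Cert_tree lc_h_rc_29_3 lc_h_rc_47_1 lc_h_rc_35_1 lc_h_rc_47_1 lc_h_rc_29_5 lc_h_Cert_tree lc_h_rc_40_0 lc_h_rc_5_1 lc_h_rc_40_0 lc_h_rc_5_1 lc_h_rc_22_3 lc_h_rc_5_1 lc_h_Cert_tree lc_h_rc_14_1 lc_h_Cert_tree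 lc_h_rc_40_0 lc_h_Cert_tree lc_h_Cert_tree lc_h_rc_40_0 lc_h_rc_40_0 lc_h_rc_47_1 lc_h_rc_41_2 lc_h_rc_22_1 lc_h_rc_35_1 lc_h_Cert_tree lc_h_Cert_tree lc_h_rc_40_0 lc_h_rc_42_1 lc_h_rc_22_1 lc_h_rc_51_1 lc_h_rc_22_1 lc_h_rc_22_1 lc_h_rc_47_1 lc_h_Cert_tree lc_h_rc_14_1 lc_h_rc_22_1 lc_h_Cert_tree lc_h_rc_42_1 lc_h_Cert_tree lc_h_rc_40_0 lc_h_rc_35_1 lc_h_rc_47_3 lc_h_rc_42_1 lc_h_rc_47_1 lc_h_rc_47_1 lc_h_rc_42_1 lc_h_rc_51_1 lc_h_rc_47_1) (@D3.rec (fun _ => (Cert rels S Gen.h)) lc_h_rc_40_0 lc_h_rc_14_1 lc_h_rc_14_1 lc_h_rc_22_1 lc_h_rc_35_1 lc_h_Cert_tree lc_h_rc_22_1 lc_h_Cert_tree lc_h_rc_14_1 lc_h_Cert_tree lc_h_rc_40_0 lc_h_rc_29_5 lc_h_Cert_tree lc_h_rc_40_0 lc_h_rc_47_1 lc_h_rc_35_1 lc_h_rc_22_1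 lc_h_rc_35_1 lc_h_Cert_tree lc_h_rc_14_1 lc_h_rc_35_1 lc_h_Cert_tree lc_h_Cert_tree lc_h_rc_40_0 lc_h_rc_14_1 lc_h_Cert_tree lc_h_rc_40_0 lc_h_rc_5_1 lc_h_Cert_tree lc_h_rc_40_0 lc_h_Cert_tree lc_h_rc_40_0 lc_h_rc_29_3 lc_h_rc_42_3 lc_h_Cert_tree lc_h_Cert_tree lc_h_rc_40_0 lc_h_rc_40_0 lc_h_rc_5_1 lc_h_rc_42_3 lc_h_rc_22_3 lc_h_rc_40_0 lc_h_rc_29_3 lc_h_rc_5_1 lc_h_rc_40_0 lc_h_rc_5_1 lc_h_rc_40_0 lc_h_rc_51_1 lc_h_rc_40_0 lc_h_rc_29_3 lc_h_rc_22_1) (@D3.rec (fun _ => (Cert rels S Gen.h)) lc_h_rc_40_0 lc_h_rc_47_1 lc_h_rc_22_1 lc_h_rc_42_1 lc_h_rc_40_1 lc_h_rc_14_1 lc_h_rc_22_1 lc_h_Cert_tree lc_h_rc_14_1 lc_h_rc_40_0 lc_h_rc_40_0 lc_h_Cert_tree lc_h_Cert_tree lc_h_rc_40_0 lc_h_rc_29_3 lc_h_rc_5_1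 lc_h_rc_40_0 lc_h_rc_5_1 lc_h_Cert_tree lc_h_rc_40_0 lc_h_rc_40_0 lc_h_rc_5_1 lc_h_rc_5_1 lc_h_rc_22_1 lc_h_Cert_tree lc_h_rc_5_1 lc_h_rc_41_4 lc_h_rc_29_3 lc_h_rc_41_2 lc_h_Cert_tree lc_h_rc_40_0 lc_h_rc_40_0 lc_h_rc_5_3 lc_h_rc_22_1 lc_h_rc_22_1 lc_h_rc_5_3 lc_h_Cert_tree lc_h_rc_22_1 lc_h_rc_40_1 lc_h_rc_42_1 lc_h_rc_40_1 lc_h_rc_47_1 lc_h_rc_40_1 lc_h_Cert_tree lc_h_rc_40_0 lc_h_rc_42_1 lc_h_rc_51_1 lc_h_rc_35_1 lc_h_rc_41_2 lc_h_rc_22_1 lc_h_Cert_tree) (@D3.rec (fun _ => (Cert rels S Gen.h)) lc_h_rc_14_1 lc_h_Cert_tree lc_h_rc_40_0 lc_h_rc_40_0 lc_h_rc_42_1 lc_h_rc_35_1 lc_h_Cert_tree lc_h_rc_22_1 lc_h_rc_56_41 lc_h_rc_14_1 lc_h_Cert_tree lc_h_rc_40_0 lc_h_rc_5_1 lc_h_Cert_tree lc_h_rc_40_0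 lc_h_rc_47_1 lc_h_Cert_tree lc_h_rc_40_0 lc_h_Cert_tree lc_h_Cert_tree lc_h_rc_40_0 lc_h_rc_29_3 lc_h_rc_5_1 lc_h_rc_40_0 lc_h_rc_5_1 lc_h_Cert_tree lc_h_rc_40_0 lc_h_rc_40_0 lc_h_rc_29_3 lc_h_rc_5_1 lc_h_rc_5_1 lc_h_Cert_tree lc_h_rc_5_1 lc_h_Cert_tree lc_h_rc_40_0 lc_h_rc_29_3 lc_h_rc_41_2 lc_h_Cert_tree lc_h_rc_40_0 lc_h_rc_40_0 lc_h_rc_47_1 lc_h_rc_22_1 lc_h_rc_22_1 lc_h_rc_35_1 lc_h_Cert_tree lc_h_rc_42_1 lc_h_rc_22_1 lc_h_rc_47_1 lc_h_rc_40_1 lc_h_rc_40_1 lc_h_rc_47_3)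
def ce_h_8 : D2 → D3 → (Cert rels S Gen.h) := @D2.rec (fun _ => D3 → (Cert rels S Gen.h)) (@D3.rec (fun _ => (Cert rels S Gen.h)) lc_h_rc_40_0 lc_h_rc_14_1 lc_h_rc_14_1 lc_h_rc_14_1 lc_h_rc_22_1 lc_h_Cert_tree lc_h_rc_14_1 lc_h_Cert_tree lc_h_rc_40_0 lc_h_rc_42_1 lc_h_rc_35_1 lc_h_Cert_tree lc_h_rc_40_0 lc_h_rc_5_1 lc_h_Cert_tree lc_h_rc_40_0 lc_h_rc_40_0 lc_h_rc_47_3 lc_h_Cert_tree lc_h_rc_40_0 lc_h_rc_29_3 lc_h_rc_5_1 lc_h_Cert_tree lc_h_rc_40_0 lc_h_rc_40_0 lc_h_rc_47_1 lc_h_rc_5_1 lc_h_rc_22_1 lc_h_Cert_tree lc_h_rc_5_1 lc_h_Cert_tree lc_h_rc_40_0 lc_h_rc_5_1 lc_h_rc_5_1 lc_h_rc_5_1 lc_h_rc_5_1 lc_h_rc_22_1 lc_h_Cert_tree lc_h_rc_14_1 lc_h_Cert_tree lc_h_rc_40_0 lc_h_rc_22_3 lc_h_rc_42_1 lc_h_rc_40_0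 lc_h_rc_47_1 lc_h_rc_41_2 lc_h_rc_22_1 lc_h_rc_35_1 lc_h_Cert_tree lc_h_Cert_tree lc_h_rc_40_0) (@D3.rec (fun _ => (Cert rels S Gen.h)) lc_h_rc_42_1 lc_h_rc_22_1 lc_h_rc_5_3 lc_h_rc_22_1 lc_h_rc_22_1 lc_h_rc_5_3 lc_h_Cert_tree lc_h_rc_14_1 lc_h_rc_22_1 lc_h_Cert_tree lc_h_rc_42_1 lc_h_Cert_tree lc_h_rc_40_0 lc_h_rc_40_1 lc_h_rc_42_1 lc_h_rc_40_1 lc_h_rc_47_1 lc_h_rc_40_1 lc_h_rc_51_1 lc_h_rc_40_1 lc_h_rc_40_0 lc_h_rc_42_1 lc_h_rc_14_1 lc_h_rc_22_1 lc_h_rc_42_1 lc_h_Cert_tree lc_h_rc_22_1 lc_h_Cert_tree lc_h_rc_14_1 lc_h_Cert_tree lc_h_rc_40_0 lc_h_rc_5_1 lc_h_Cert_tree lc_h_rc_40_0 lc_h_rc_47_1 lc_h_rc_22_1 lc_h_rc_22_1 lc_h_rc_51_1 lc_h_Cert_tree lc_h_rc_14_1 lc_h_rc_22_1 lc_h_Cert_tree lc_h_Cert_tree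 lc_h_rc_40_0 lc_h_rc_14_1 lc_h_Cert_tree lc_h_rc_40_0 lc_h_rc_5_1 lc_h_Cert_tree lc_h_rc_40_0 lc_h_Cert_tree) (@D3.rec (fun _ => (Cert rels S Gen.h)) lc_h_rc_40_0 lc_h_rc_29_3 lc_h_rc_42_1 lc_h_rc_35_1 lc_h_Cert_tree lc_h_rc_40_0 lc_h_rc_40_0 lc_h_rc_41_0 lc_h_rc_5_1 lc_h_Cert_tree lc_h_rc_5_1 lc_h_Cert_tree lc_h_rc_40_0 lc_h_rc_5_1 lc_h_rc_5_1 lc_h_Cert_tree lc_h_Cert_tree lc_h_rc_40_0 lc_h_rc_40_0 lc_h_rc_47_1 lc_h_rc_41_2 lc_h_rc_35_1 lc_h_Cert_tree lc_h_Cert_tree lc_h_rc_40_0 lc_h_rc_42_1 lc_h_rc_22_1 lc_h_rc_51_1 lc_h_rc_22_1 lc_h_rc_41_0 lc_h_rc_47_1 lc_h_Cert_tree lc_h_rc_14_1 lc_h_rc_41_0 lc_h_Cert_tree lc_h_Cert_tree lc_h_rc_40_0 lc_h_rc_22_1 lc_h_rc_51_1 lc_h_rc_42_1 lc_h_rc_47_1 lc_h_rc_40_0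 lc_h_rc_14_1 lc_h_rc_14_1 lc_h_rc_22_1 lc_h_rc_35_1 lc_h_rc_5_1 lc_h_rc_22_1 lc_h_rc_5_1 lc_h_rc_14_1 lc_h_rc_5_1) (@D3.rec (fun _ => (Cert rels S Gen.h)) lc_h_rc_5_1 lc_h_rc_14_1 lc_h_rc_47_1 lc_h_rc_47_1 lc_h_rc_22_1 lc_h_rc_35_1 lc_h_Cert_tree lc_h_rc_14_1 lc_h_rc_35_1 lc_h_Cert_tree lc_h_Cert_tree lc_h_rc_40_0 lc_h_rc_14_1 lc_h_Cert_tree lc_h_rc_40_0 lc_h_rc_5_1 lc_h_Cert_tree lc_h_rc_40_0 lc_h_Cert_tree lc_h_rc_40_0 lc_h_rc_29_3 lc_h_Cert_tree lc_h_Cert_tree lc_h_rc_40_0 lc_h_rc_14_1 lc_h_rc_42_1 lc_h_Cert_tree lc_h_Cert_tree lc_h_rc_40_0 lc_h_rc_40_0 lc_h_rc_47_1 lc_h_rc_5_1 lc_h_Cert_tree lc_h_Cert_tree lc_h_rc_40_0 lc_h_rc_42_1 lc_h_rc_5_1 lc_h_rc_51_1 lc_h_rc_5_1 lc_h_rc_14_3 lc_h_Cert_tree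 lc_h_rc_5_3 lc_h_Cert_tree lc_h_rc_40_0 lc_h_rc_40_0 lc_h_rc_5_1 lc_h_rc_5_1 lc_h_rc_5_1 lc_h_rc_5_1 lc_h_rc_42_1 lc_h_rc_5_1) (@D3.rec (fun _ => (Cert rels S Gen.h)) lc_h_rc_51_1 lc_h_rc_14_1 lc_h_rc_14_3 lc_h_rc_5_1 lc_h_rc_5_3 lc_h_Cert_tree lc_h_rc_40_0 lc_h_Cert_tree lc_h_rc_40_0 lc_h_rc_42_1 lc_h_rc_41_2 lc_h_rc_51_1 lc_h_rc_41_2 lc_h_rc_22_1 lc_h_rc_47_1 lc_h_Cert_tree lc_h_rc_14_1 lc_h_rc_22_1 lc_h_Cert_tree lc_h_rc_42_1 lc_h_Cert_tree lc_h_rc_40_0 lc_h_rc_40_0 lc_h_rc_42_1 lc_h_rc_22_1 lc_h_rc_42_1 lc_h_rc_35_1 lc_h_Cert_tree lc_h_rc_22_1 lc_h_rc_51_1 lc_h_Cert_tree lc_h_rc_14_1 lc_h_rc_22_1 lc_h_Cert_tree lc_h_rc_42_1 lc_h_Cert_tree lc_h_rc_40_0 lc_h_rc_5_1 lc_h_rc_14_1 lc_h_Cert_tree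 lc_h_rc_22_1 lc_h_Cert_tree lc_h_rc_40_0 lc_h_rc_47_1 lc_h_Cert_tree lc_h_rc_40_0 lc_h_rc_42_1 lc_h_rc_47_3 lc_h_rc_47_1 lc_h_rc_40_1 lc_h_rc_51_1) (@D3.rec (fun _ => (Cert rels S Gen.h)) lc_h_rc_47_1 lc_h_rc_51_1 lc_h_rc_14_1 lc_h_rc_14_1 lc_h_rc_22_1 lc_h_rc_35_1 lc_h_Cert_tree lc_h_rc_14_1 lc_h_rc_35_1 lc_h_Cert_tree lc_h_Cert_tree lc_h_rc_40_0 lc_h_rc_14_1 lc_h_Cert_tree lc_h_rc_40_0 lc_h_rc_5_1 lc_h_Cert_tree lc_h_rc_40_0 lc_h_Cert_tree lc_h_rc_40_0 lc_h_rc_29_3 lc_h_rc_41_2 lc_h_rc_22_3 lc_h_rc_29_1 lc_h_rc_41_2 lc_h_rc_40_0 lc_h_rc_5_1 lc_h_rc_22_3 lc_h_rc_22_3 lc_h_rc_41_2 lc_h_rc_5_1 lc_h_rc_22_3 lc_h_Cert_tree lc_h_rc_40_0 lc_h_rc_29_3 lc_h_rc_40_0 lc_h_rc_14_1 lc_h_rc_35_1 lc_h_Cert_tree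 lc_h_rc_40_0 lc_h_Cert_tree lc_h_rc_40_0 lc_h_rc_41_2 lc_h_rc_41_2 lc_h_rc_14_1 lc_h_rc_22_1 lc_h_rc_35_1 lc_h_rc_14_1 lc_h_rc_35_1 lc_h_rc_14_1 lc_h_rc_5_1) (@D3.rec (fun _ => (Cert rels S Gen.h)) lc_h_rc_47_1 lc_h_rc_47_1 lc_h_rc_47_1 lc_h_rc_14_1 lc_h_rc_5_1 lc_h_rc_14_1 lc_h_Cert_tree lc_h_rc_40_0 lc_h_rc_40_0 lc_h_rc_5_1 lc_h_Cert_tree lc_h_rc_40_0 lc_h_Cert_tree lc_h_rc_40_0 lc_h_rc_29_3 lc_h_rc_40_0 lc_h_rc_14_1 lc_h_rc_35_1 lc_h_rc_40_0 lc_h_rc_40_0 lc_h_rc_5_1 lc_h_rc_5_1 lc_h_rc_5_1 lc_h_rc_5_1 lc_h_rc_5_1 lc_h_rc_14_1 lc_h_rc_5_1 lc_h_rc_14_1 lc_h_rc_5_1 lc_h_rc_40_0 lc_h_rc_29_3 lc_h_rc_41_2 lc_h_rc_40_0 lc_h_rc_42_1 lc_h_rc_41_2 lc_h_rc_42_1 lc_h_rc_35_1 lc_h_rc_42_1 lc_h_rc_22_1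 lc_h_rc_51_1 lc_h_rc_14_1 lc_h_rc_14_3 lc_h_rc_5_1 lc_h_rc_5_3 lc_h_rc_47_1 lc_h_rc_42_1 lc_h_rc_35_1 lc_h_rc_14_1 lc_h_rc_35_1 lc_h_rc_14_1 lc_h_rc_5_1) (@D3.rec (fun _ => (Cert rels S Gen.h)) lc_h_rc_22_1 lc_h_rc_14_1 lc_h_rc_35_1 lc_h_rc_41_4 lc_h_rc_5_1 lc_h_Cert_tree lc_h_rc_40_0 lc_h_rc_5_1 lc_h_rc_40_0 lc_h_Cert_tree lc_h_rc_40_0 lc_h_rc_14_3 lc_h_rc_40_0 lc_h_rc_5_3 lc_h_rc_14_3 lc_h_rc_40_0 lc_h_rc_14_1 lc_h_Cert_tree lc_h_Cert_tree lc_h_rc_40_0 lc_h_rc_22_3 lc_h_rc_35_1 lc_h_rc_41_4 lc_h_rc_42_1 lc_h_Cert_tree lc_h_rc_40_0 lc_h_rc_47_1 lc_h_rc_35_1 lc_h_rc_47_1 lc_h_rc_40_1 lc_h_rc_56_20 lc_h_rc_35_1 lc_h_Cert_tree lc_h_Cert_tree lc_h_rc_14_1 lc_h_Cert_tree lc_h_rc_40_0 lc_h_rc_5_1 lc_h_Cert_tree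 lc_h_rc_40_0 lc_h_rc_22_1 lc_h_rc_35_1 lc_h_Cert_tree lc_h_rc_14_1 lc_h_rc_35_1 lc_h_Cert_tree lc_h_Cert_tree lc_h_rc_40_0 lc_h_rc_14_1 lc_h_Cert_tree lc_h_rc_40_0) (@D3.rec (fun _ => (Cert rels S Gen.h)) lc_h_rc_5_1 lc_h_Cert_tree lc_h_rc_40_0 lc_h_Cert_tree lc_h_rc_40_0 lc_h_rc_29_3 lc_h_Cert_tree lc_h_rc_40_0 lc_h_rc_5_1 lc_h_Cert_tree lc_h_Cert_tree lc_h_Cert_tree lc_h_rc_40_0 lc_h_rc_5_1 lc_h_Cert_tree lc_h_rc_40_0 lc_h_rc_14_1 lc_h_rc_22_1 lc_h_rc_41_4 lc_h_rc_42_1 lc_h_rc_56_27 lc_h_rc_47_1 lc_h_rc_47_1 lc_h_rc_51_1 lc_h_rc_51_1 lc_h_Cert_tree lc_h_rc_40_0 lc_h_rc_5_1 lc_h_rc_14_1 lc_h_Cert_tree lc_h_rc_22_1 lc_h_Cert_tree lc_h_rc_40_0 lc_h_rc_47_1 lc_h_Cert_tree lc_h_rc_40_0 lc_h_rc_42_1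 lc_h_rc_35_1 lc_h_rc_47_1 lc_h_rc_40_1 lc_h_rc_51_1 lc_h_rc_40_1 lc_h_Cert_tree lc_h_rc_14_1 lc_h_rc_22_1 lc_h_Cert_tree lc_h_Cert_tree lc_h_rc_40_0 lc_h_rc_14_1 lc_h_Cert_tree lc_h_rc_40_0) (@D3.rec (fun _ => (Cert rels S Gen.h)) lc_h_rc_5_1 lc_h_Cert_tree lc_h_rc_40_0 lc_h_Cert_tree lc_h_rc_40_0 lc_h_rc_29_3 lc_h_rc_14_1 lc_h_Cert_tree lc_h_rc_40_0 lc_h_rc_5_1 lc_h_rc_14_1 lc_h_Cert_tree lc_h_Cert_tree lc_h_rc_40_0 lc_h_rc_40_0 lc_h_rc_5_1 lc_h_Cert_tree lc_h_rc_40_0 lc_h_Cert_tree lc_h_rc_40_0 lc_h_rc_29_3 lc_h_rc_40_0 lc_h_rc_14_1 lc_h_rc_29_5 lc_h_rc_5_1 lc_h_Cert_tree lc_h_rc_5_1 lc_h_Cert_tree lc_h_rc_14_1 lc_h_Cert_tree lc_h_rc_40_0 lc_h_rc_5_1 lc_h_Cert_tree lc_h_rc_40_0 lc_h_rc_5_1 lc_h_rc_22_3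 lc_h_rc_14_1 lc_h_rc_5_1 lc_h_Cert_tree lc_h_rc_22_3 lc_h_rc_40_0 lc_h_rc_14_1 lc_h_Cert_tree lc_h_rc_40_0 lc_h_rc_5_1 lc_h_Cert_tree lc_h_rc_40_0 lc_h_Cert_tree lc_h_rc_40_0 lc_h_rc_29_3 lc_h_rc_29_3) (@D3.rec (fun _ => (Cert rels S Gen.h)) lc_h_Cert_tree lc_h_rc_14_1 lc_h_rc_35_1 lc_h_Cert_tree lc_h_rc_42_1 lc_h_Cert_tree lc_h_rc_40_0 lc_h_rc_14_1 lc_h_rc_35_1 lc_h_Cert_tree lc_h_rc_42_1 lc_h_Cert_tree lc_h_rc_40_0 lc_h_rc_5_1 lc_h_rc_14_1 lc_h_Cert_tree lc_h_rc_42_1 lc_h_Cert_tree lc_h_rc_40_0 lc_h_rc_47_1 lc_h_Cert_tree lc_h_rc_40_0 lc_h_rc_5_1 lc_h_Cert_tree lc_h_rc_14_1 lc_h_Cert_tree lc_h_rc_40_0 lc_h_rc_47_1 lc_h_Cert_tree lc_h_rc_40_0 lc_h_rc_29_3 lc_h_rc_51_1 lc_h_Cert_tree lc_h_rc_40_0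 lc_h_rc_47_1 lc_h_rc_40_1 lc_h_rc_51_1 lc_h_rc_40_1 lc_h_rc_22_3 lc_h_rc_41_2 lc_h_rc_14_3 lc_h_rc_42_1 lc_h_Cert_tree lc_h_rc_41_2 lc_h_rc_40_0 lc_h_rc_14_3 lc_h_rc_41_4 lc_h_rc_29_3 lc_h_rc_40_0 lc_h_rc_14_1 lc_h_rc_35_1) (@D3.rec (fun _ => (Cert rels S Gen.h)) lc_h_rc_14_1 lc_h_rc_5_1 lc_h_rc_14_1 lc_h_rc_5_1 lc_h_Cert_tree lc_h_rc_40_0 lc_h_rc_5_1 lc_h_rc_40_0 lc_h_rc_14_1 lc_h_rc_5_1 lc_h_rc_40_0 lc_h_rc_35_1 lc_h_rc_14_1 lc_h_rc_47_1 lc_h_rc_41_2 lc_h_rc_41_2 lc_h_rc_47_1 lc_h_rc_51_1 lc_h_rc_40_0 lc_h_rc_40_0 lc_h_rc_41_2 lc_h_rc_40_0 lc_h_rc_41_2 lc_h_rc_47_1 lc_h_rc_35_3 lc_h_rc_41_2 lc_h_rc_40_0 lc_h_rc_41_2 lc_h_rc_41_2 lc_h_rc_47_1 lc_h_rc_41_2 lc_h_rc_41_2 lc_h_rc_41_2 lc_h_rc_47_1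 lc_h_rc_51_1 lc_h_rc_41_2 lc_h_rc_41_2 lc_h_rc_47_1 lc_h_rc_5_1 lc_h_rc_41_2 lc_h_rc_41_2 lc_h_rc_41_2 lc_h_rc_42_1 lc_h_rc_41_2 lc_h_rc_47_1 lc_h_rc_47_1 lc_h_rc_51_1 lc_h_rc_40_0 lc_h_rc_40_0 lc_h_rc_5_1 lc_h_rc_40_0) (@D3.rec (fun _ => (Cert rels S Gen.h)) lc_h_rc_41_2 lc_h_rc_41_2 lc_h_rc_22_1 lc_h_rc_41_2 lc_h_rc_41_2 lc_h_rc_40_0 lc_h_rc_5_1 lc_h_rc_5_1 lc_h_rc_40_1 lc_h_rc_41_2 lc_h_rc_42_1 lc_h_rc_29_5 lc_h_rc_47_1 lc_h_rc_29_5 lc_h_rc_42_1 lc_h_rc_51_1 lc_h_rc_47_1 lc_h_rc_51_1 lc_h_rc_40_0 lc_h_rc_5_1 lc_h_rc_5_1 lc_h_rc_40_0 lc_h_rc_29_3 lc_h_rc_41_2 lc_h_rc_41_2 lc_h_rc_41_2 lc_h_rc_41_2 lc_h_rc_22_1 lc_h_rc_14_1 lc_h_rc_22_1 lc_h_rc_41_2 lc_h_rc_14_1 lc_h_rc_29_3 lc_h_rc_5_1 lc_h_rc_41_2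 lc_h_rc_29_3 lc_h_rc_41_2 lc_h_rc_22_1 lc_h_Cert_tree lc_h_rc_42_1 lc_h_rc_41_2 lc_h_rc_47_1 lc_h_rc_42_1 lc_h_rc_47_1 lc_h_rc_56_20 lc_h_rc_47_1 lc_h_rc_42_1 lc_h_rc_5_1 lc_h_rc_51_1 lc_h_rc_51_1 lc_h_rc_35_1) (@D3.rec (fun _ => (Cert rels S Gen.h)) lc_h_Cert_tree lc_h_rc_5_1 lc_h_Cert_tree lc_h_rc_35_1 lc_h_Cert_tree lc_h_rc_42_1 lc_h_Cert_tree lc_h_rc_40_0 lc_h_rc_41_2 lc_h_rc_22_1 lc_h_rc_14_1 lc_h_Cert_tree lc_h_Cert_tree lc_h_rc_5_1 lc_h_Cert_tree lc_h_rc_40_0 lc_h_Cert_tree lc_h_rc_35_1 lc_h_Cert_tree lc_h_rc_42_1 lc_h_Cert_tree lc_h_rc_40_0 lc_h_rc_47_1 lc_h_Cert_tree lc_h_rc_40_0 lc_h_rc_22_1 lc_h_Cert_tree lc_h_rc_14_1 lc_h_Cert_tree lc_h_rc_40_0 lc_h_rc_22_1 lc_h_Cert_tree lc_h_rc_22_1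 lc_h_Cert_tree lc_h_rc_14_1 lc_h_Cert_tree lc_h_rc_40_0 lc_h_rc_5_1 lc_h_Cert_tree lc_h_rc_40_0 lc_h_rc_41_2 lc_h_rc_41_2 lc_h_rc_40_0 lc_h_rc_35_1 lc_h_Cert_tree lc_h_rc_47_1 lc_h_Cert_tree lc_h_rc_41_2 lc_h_rc_40_0 lc_h_rc_14_1 lc_h_rc_51_3) (@D3.rec (fun _ => (Cert rels S Gen.h)) lc_h_rc_40_0 lc_h_rc_29_3 lc_h_rc_14_3 lc_h_rc_42_1 lc_h_rc_47_1 lc_h_rc_42_1 lc_h_rc_35_1 lc_h_rc_42_1 lc_h_rc_40_0 lc_h_Cert_tree lc_h_Cert_tree lc_h_rc_40_0 lc_h_Cert_tree lc_h_rc_40_0 lc_h_rc_29_3 lc_h_rc_22_1 lc_h_Cert_tree lc_h_rc_47_1 lc_h_Cert_tree lc_h_rc_40_0 lc_h_rc_51_1 lc_h_rc_14_1 lc_h_rc_40_0 lc_h_rc_14_1 lc_h_rc_40_0 lc_h_rc_41_2 lc_h_rc_22_3 lc_h_rc_41_2 lc_h_Cert_tree lc_h_rc_56_27 lc_h_rc_40_0 lc_h_rc_14_1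 lc_h_rc_41_2 lc_h_rc_5_3 lc_h_rc_35_1 lc_h_rc_40_0 lc_h_rc_42_1 lc_h_rc_5_1 lc_h_Cert_tree lc_h_rc_42_1 lc_h_rc_35_1 lc_h_Cert_tree lc_h_rc_40_0 lc_h_rc_51_3 lc_h_rc_5_1 lc_h_rc_40_0 lc_h_rc_29_3 lc_h_rc_22_1 lc_h_rc_22_1 lc_h_rc_35_1 lc_h_Cert_tree) (@D3.rec (fun _ => (Cert rels S Gen.h)) lc_h_rc_42_1 lc_h_Cert_tree lc_h_rc_40_0 lc_h_rc_14_1 lc_h_rc_51_1 lc_h_rc_41_2 lc_h_Cert_tree lc_h_rc_40_0 lc_h_Cert_tree lc_h_Cert_tree lc_h_rc_40_0 lc_h_rc_29_3 lc_h_rc_22_1 lc_h_rc_40_0 lc_h_rc_29_3 lc_h_rc_22_1 lc_h_rc_35_1 lc_h_Cert_tree lc_h_rc_40_0 lc_h_Cert_tree lc_h_rc_40_0 lc_h_rc_40_0 lc_h_rc_14_1 lc_h_rc_14_1 lc_h_rc_22_1 lc_h_Cert_tree lc_h_rc_14_1 lc_h_rc_51_1 lc_h_rc_40_0 lc_h_rc_47_1 lc_h_rc_42_1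 lc_h_rc_14_3 lc_h_rc_41_2 lc_h_rc_47_1 lc_h_rc_29_3 lc_h_rc_42_1 lc_h_Cert_tree lc_h_rc_40_0 lc_h_rc_5_3 lc_h_Cert_tree lc_h_rc_40_0 lc_h_rc_47_1 lc_h_rc_40_0 lc_h_rc_14_1 lc_h_rc_42_1 lc_h_rc_22_1 lc_h_Cert_tree lc_h_rc_47_1 lc_h_Cert_tree lc_h_rc_47_1 lc_h_rc_40_0) (@D3.rec (fun _ => (Cert rels S Gen.h)) lc_h_rc_5_3 lc_h_rc_35_1 lc_h_rc_47_1 lc_h_rc_5_1 lc_h_Cert_tree lc_h_rc_5_1 lc_h_Cert_tree lc_h_rc_40_0 lc_h_rc_51_3 lc_h_rc_40_0 lc_h_rc_35_1 lc_h_Cert_tree lc_h_Cert_tree lc_h_Cert_tree lc_h_rc_40_0 lc_h_rc_29_3 lc_h_rc_41_2 lc_h_Cert_tree lc_h_rc_40_0 lc_h_rc_40_0 lc_h_rc_47_1 lc_h_rc_22_1 lc_h_rc_5_1 lc_h_rc_35_1 lc_h_Cert_tree lc_h_rc_22_1 lc_h_rc_35_1 lc_h_Cert_tree lc_h_rc_42_1 lc_h_Cert_tree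 lc_h_rc_40_0 lc_h_rc_47_1 lc_h_Cert_tree lc_h_rc_40_0 lc_h_rc_47_3 lc_h_rc_40_0 lc_h_rc_42_1 lc_h_rc_14_1 lc_h_rc_14_1 lc_h_rc_47_1 lc_h_rc_41_2 lc_h_rc_5_1 lc_h_rc_41_2 lc_h_rc_40_0 lc_h_rc_42_1 lc_h_rc_42_1 lc_h_rc_22_1 lc_h_rc_41_2 lc_h_Cert_tree lc_h_Cert_tree lc_h_rc_40_0) (@D3.rec (fun _ => (Cert rels S Gen.h)) lc_h_rc_29_3 lc_h_rc_41_2 lc_h_Cert_tree lc_h_rc_40_0 lc_h_rc_40_0 lc_h_rc_47_1 lc_h_rc_22_1 lc_h_rc_22_1 lc_h_rc_35_1 lc_h_Cert_tree lc_h_rc_29_3 lc_h_rc_22_1 lc_h_rc_35_1 lc_h_Cert_tree lc_h_Cert_tree lc_h_rc_40_0 lc_h_Cert_tree lc_h_rc_40_0 lc_h_rc_14_1 lc_h_rc_14_1 lc_h_rc_14_1 lc_h_rc_14_1 lc_h_rc_22_1 lc_h_Cert_tree lc_h_rc_14_1 lc_h_Cert_tree lc_h_rc_40_0 lc_h_rc_40_0 lc_h_rc_42_1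 lc_h_rc_42_1 lc_h_rc_22_1 lc_h_rc_35_1 lc_h_Cert_tree lc_h_rc_22_1 lc_h_Cert_tree lc_h_rc_14_1 lc_h_Cert_tree lc_h_rc_40_0 lc_h_rc_5_1 lc_h_Cert_tree lc_h_rc_40_0 lc_h_Cert_tree lc_h_rc_40_0 lc_h_Cert_tree lc_h_Cert_tree lc_h_rc_40_0 lc_h_rc_29_3 lc_h_rc_42_1 lc_h_rc_40_0 lc_h_rc_14_1 lc_h_rc_47_1) (@D3.rec (fun _ => (Cert rels S Gen.h)) lc_h_rc_22_1 lc_h_rc_14_1 lc_h_Cert_tree lc_h_Cert_tree lc_h_rc_40_0 lc_h_Cert_tree lc_h_Cert_tree lc_h_rc_40_0 lc_h_rc_29_3 lc_h_rc_29_5 lc_h_Cert_tree lc_h_rc_40_0 lc_h_rc_40_0 lc_h_rc_47_1 lc_h_rc_47_1 lc_h_rc_22_1 lc_h_rc_35_1 lc_h_Cert_tree lc_h_rc_51_1 lc_h_rc_5_1 lc_h_Cert_tree lc_h_rc_5_1 lc_h_Cert_tree lc_h_rc_40_0 lc_h_rc_5_1 lc_h_Cert_tree lc_h_rc_40_0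 lc_h_Cert_tree lc_h_rc_40_0 lc_h_rc_5_1 lc_h_rc_22_3 lc_h_rc_22_3 lc_h_rc_5_1 lc_h_Cert_tree lc_h_Cert_tree lc_h_rc_40_0 lc_h_Cert_tree lc_h_Cert_tree lc_h_rc_40_0 lc_h_rc_40_0 lc_h_rc_47_1 lc_h_rc_41_2 lc_h_rc_22_1 lc_h_rc_35_1 lc_h_Cert_tree lc_h_Cert_tree lc_h_rc_40_0 lc_h_rc_42_1 lc_h_rc_22_1 lc_h_rc_51_1 lc_h_rc_22_1) (@D3.rec (fun _ => (Cert rels S Gen.h)) lc_h_rc_22_1 lc_h_rc_47_1 lc_h_Cert_tree lc_h_rc_14_1 lc_h_rc_22_1 lc_h_Cert_tree lc_h_rc_42_1 lc_h_Cert_tree lc_h_rc_40_0 lc_h_rc_35_1 lc_h_Cert_tree lc_h_rc_42_1 lc_h_Cert_tree lc_h_rc_40_0 lc_h_rc_47_1 lc_h_Cert_tree lc_h_rc_40_0 lc_h_rc_51_1 lc_h_Cert_tree lc_h_rc_40_0 lc_h_rc_40_0 lc_h_rc_14_1 lc_h_rc_14_1 lc_h_rc_22_1 lc_h_rc_35_1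 lc_h_Cert_tree lc_h_rc_22_1 lc_h_Cert_tree lc_h_rc_14_1 lc_h_Cert_tree lc_h_rc_40_0 lc_h_rc_42_1 lc_h_Cert_tree lc_h_rc_40_0 lc_h_rc_47_1 lc_h_rc_22_1 lc_h_Cert_tree lc_h_rc_14_1 lc_h_rc_35_1 lc_h_Cert_tree lc_h_Cert_tree lc_h_rc_40_0 lc_h_rc_14_1 lc_h_Cert_tree lc_h_rc_40_0 lc_h_rc_5_1 lc_h_Cert_tree lc_h_rc_40_0 lc_h_Cert_tree lc_h_rc_40_0 lc_h_rc_29_3) (@D3.rec (fun _ => (Cert rels S Gen.h)) lc_h_rc_40_0 lc_h_rc_40_0 lc_h_rc_29_3 lc_h_rc_22_1 lc_h_rc_40_0 lc_h_rc_40_0 lc_h_rc_5_1 lc_h_rc_29_3 lc_h_rc_22_1 lc_h_rc_35_1 lc_h_Cert_tree lc_h_rc_14_1 lc_h_rc_41_2 lc_h_rc_40_0 lc_h_rc_41_2 lc_h_rc_40_0 lc_h_rc_35_1 lc_h_rc_41_2 lc_h_rc_22_1 lc_h_Cert_tree lc_h_rc_41_2 lc_h_Cert_tree lc_h_Cert_tree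 lc_h_rc_40_0 lc_h_rc_14_1 lc_h_Cert_tree lc_h_Cert_tree lc_h_rc_40_0 lc_h_Cert_tree lc_h_rc_40_0 lc_h_rc_29_3 lc_h_rc_5_1 lc_h_Cert_tree lc_h_Cert_tree lc_h_Cert_tree lc_h_rc_40_0 lc_h_rc_29_3 lc_h_rc_5_1 lc_h_rc_40_0 lc_h_rc_5_1 lc_h_Cert_tree lc_h_rc_40_0 lc_h_Cert_tree lc_h_Cert_tree lc_h_rc_40_0 lc_h_rc_29_3 lc_h_rc_22_1 lc_h_rc_40_0 lc_h_rc_29_3 lc_h_rc_22_1 lc_h_rc_35_1) (@D3.rec (fun _ => (Cert rels S Gen.h)) lc_h_Cert_tree lc_h_rc_42_1 lc_h_Cert_tree lc_h_rc_40_0 lc_h_Cert_tree lc_h_rc_40_0 lc_h_rc_40_0 lc_h_rc_14_1 lc_h_rc_14_1 lc_h_rc_22_1 lc_h_Cert_tree lc_h_rc_14_1 lc_h_rc_14_3 lc_h_rc_40_0 lc_h_rc_42_1 lc_h_rc_29_3 lc_h_rc_41_2 lc_h_Cert_tree lc_h_rc_14_1 lc_h_Cert_tree lc_h_rc_40_0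 lc_h_Cert_tree lc_h_Cert_tree lc_h_rc_40_0 lc_h_rc_5_1 lc_h_rc_40_0 lc_h_rc_14_1 lc_h_Cert_tree lc_h_rc_40_0 lc_h_Cert_tree lc_h_Cert_tree lc_h_rc_40_0 lc_h_rc_29_3 lc_h_rc_5_1 lc_h_rc_40_0 lc_h_rc_29_3 lc_h_rc_5_1 lc_h_rc_35_1 lc_h_Cert_tree lc_h_rc_40_0 lc_h_rc_41_0 lc_h_rc_40_0 lc_h_rc_40_0 lc_h_rc_5_1 lc_h_rc_5_1 lc_h_rc_22_1 lc_h_Cert_tree lc_h_rc_5_1 lc_h_Cert_tree lc_h_Cert_tree lc_h_rc_40_0) (@D3.rec (fun _ => (Cert rels S Gen.h)) lc_h_rc_29_3 lc_h_rc_41_2 lc_h_rc_42_3 lc_h_rc_40_0 lc_h_rc_40_0 lc_h_rc_47_1 lc_h_rc_22_1 lc_h_rc_22_1 lc_h_rc_35_1 lc_h_Cert_tree lc_h_rc_22_1 lc_h_rc_35_1 lc_h_Cert_tree lc_h_rc_42_1 lc_h_Cert_tree lc_h_rc_40_0 lc_h_rc_47_1 lc_h_Cert_tree lc_h_rc_40_0 lc_h_rc_47_1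 lc_h_rc_14_1 lc_h_rc_14_1 lc_h_rc_22_1 lc_h_Cert_tree lc_h_rc_14_1 lc_h_Cert_tree lc_h_rc_40_0 lc_h_rc_40_0 lc_h_rc_5_1 lc_h_Cert_tree lc_h_rc_40_0 lc_h_rc_14_1 lc_h_rc_14_1 lc_h_rc_40_0 lc_h_rc_29_3 lc_h_rc_22_1 lc_h_Cert_tree lc_h_rc_40_0 lc_h_rc_35_1 lc_h_rc_5_1 lc_h_rc_40_0 lc_h_rc_5_1 lc_h_rc_22_1 lc_h_rc_29_3 lc_h_rc_22_1 lc_h_rc_35_1 lc_h_Cert_tree lc_h_rc_42_1 lc_h_Cert_tree lc_h_rc_40_0 lc_h_rc_40_0) (@D3.rec (fun _ => (Cert rels S Gen.h)) lc_h_rc_14_1 lc_h_rc_41_2 lc_h_rc_22_1 lc_h_Cert_tree lc_h_rc_41_2 lc_h_rc_40_0 lc_h_rc_42_1 lc_h_rc_42_1 lc_h_rc_35_1 lc_h_rc_41_2 lc_h_rc_22_1 lc_h_Cert_tree lc_h_rc_14_1 lc_h_Cert_tree lc_h_rc_40_0 lc_h_Cert_tree lc_h_Cert_tree lc_h_rc_40_0 lc_h_Cert_tree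 lc_h_rc_40_0 lc_h_rc_14_1 lc_h_Cert_tree lc_h_rc_40_0 lc_h_Cert_tree lc_h_Cert_tree lc_h_rc_40_0 lc_h_rc_29_3 lc_h_rc_5_1 lc_h_rc_40_0 lc_h_rc_29_3 lc_h_rc_5_1 lc_h_rc_35_1 lc_h_Cert_tree lc_h_rc_40_0 lc_h_Cert_tree lc_h_rc_40_0 lc_h_rc_40_0 lc_h_rc_29_3 lc_h_rc_5_1 lc_h_rc_5_1 lc_h_Cert_tree lc_h_rc_5_1 lc_h_Cert_tree lc_h_Cert_tree lc_h_rc_40_0 lc_h_rc_29_3 lc_h_rc_41_2 lc_h_Cert_tree lc_h_rc_40_0 lc_h_rc_40_0 lc_h_rc_47_1) (@D3.rec (fun _ => (Cert rels S Gen.h)) lc_h_rc_22_1 lc_h_rc_22_1 lc_h_rc_35_1 lc_h_Cert_tree lc_h_rc_29_3 lc_h_rc_22_1 lc_h_rc_35_1 lc_h_Cert_tree lc_h_rc_42_1 lc_h_Cert_tree lc_h_rc_40_0 lc_h_rc_47_1 lc_h_Cert_tree lc_h_rc_40_0 lc_h_Cert_tree lc_h_rc_40_0 lc_h_rc_14_1 lc_h_rc_14_1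 lc_h_rc_14_1 lc_h_rc_14_1 lc_h_rc_22_1 lc_h_Cert_tree lc_h_rc_14_1 lc_h_Cert_tree lc_h_rc_40_0 lc_h_rc_40_0 lc_h_rc_42_1 lc_h_rc_42_1 lc_h_rc_22_1 lc_h_rc_35_1 lc_h_Cert_tree lc_h_rc_22_1 lc_h_Cert_tree lc_h_rc_14_1 lc_h_Cert_tree lc_h_rc_40_0 lc_h_rc_5_1 lc_h_Cert_tree lc_h_rc_40_0 lc_h_rc_22_3 lc_h_Cert_tree lc_h_rc_40_0 lc_h_Cert_tree lc_h_Cert_tree lc_h_rc_40_0 lc_h_rc_29_3 lc_h_rc_14_1 lc_h_rc_40_0 lc_h_rc_14_1 lc_h_Cert_tree lc_h_Cert_tree) (@D3.rec (fun _ => (Cert rels S Gen.h)) lc_h_rc_40_0 lc_h_rc_29_3 lc_h_rc_5_1 lc_h_Cert_tree lc_h_rc_40_0 lc_h_rc_40_0 lc_h_rc_47_1 lc_h_rc_5_1 lc_h_rc_22_1 lc_h_rc_35_1 lc_h_Cert_tree lc_h_rc_29_3 lc_h_rc_5_1 lc_h_rc_35_1 lc_h_Cert_tree lc_h_Cert_tree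 lc_h_rc_40_0 lc_h_Cert_tree lc_h_rc_40_0 lc_h_rc_5_1 lc_h_rc_5_1 lc_h_rc_5_1 lc_h_rc_5_1 lc_h_rc_22_1 lc_h_Cert_tree lc_h_rc_14_1 lc_h_Cert_tree lc_h_rc_40_0 lc_h_Cert_tree lc_h_Cert_tree lc_h_rc_40_0 lc_h_rc_40_0 lc_h_rc_47_1 lc_h_rc_41_2 lc_h_rc_22_1 lc_h_rc_35_1 lc_h_Cert_tree lc_h_Cert_tree lc_h_rc_40_0 lc_h_rc_42_1 lc_h_rc_22_1 lc_h_rc_51_1 lc_h_rc_22_1 lc_h_rc_22_1 lc_h_rc_47_1 lc_h_Cert_tree lc_h_rc_14_1 lc_h_rc_22_1 lc_h_Cert_tree lc_h_rc_42_1 lc_h_Cert_tree) (@D3.rec (fun _ => (Cert rels S Gen.h)) lc_h_rc_40_0 lc_h_rc_35_1 lc_h_Cert_tree lc_h_rc_42_1 lc_h_Cert_tree lc_h_rc_40_0 lc_h_rc_47_1 lc_h_Cert_tree lc_h_rc_40_0 lc_h_rc_51_1 lc_h_Cert_tree lc_h_rc_40_0 lc_h_rc_40_0 lc_h_rc_51_1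 lc_h_rc_14_1 lc_h_rc_22_1 lc_h_rc_47_1 lc_h_Cert_tree lc_h_rc_22_1 lc_h_Cert_tree lc_h_rc_14_1 lc_h_Cert_tree lc_h_rc_40_0 lc_h_rc_5_1 lc_h_Cert_tree lc_h_rc_40_0 lc_h_rc_47_1 lc_h_rc_51_1 lc_h_Cert_tree lc_h_rc_14_1 lc_h_rc_22_1 lc_h_Cert_tree lc_h_Cert_tree lc_h_rc_40_0 lc_h_rc_40_0 lc_h_rc_5_1 lc_h_Cert_tree lc_h_rc_40_0 lc_h_Cert_tree lc_h_rc_40_0 lc_h_rc_5_1 lc_h_rc_14_1 lc_h_rc_14_1 lc_h_Cert_tree lc_h_rc_29_3 lc_h_rc_22_1 lc_h_rc_35_1 lc_h_Cert_tree lc_h_rc_40_0 lc_h_rc_5_1 lc_h_rc_22_1)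
def ce_h_9 : D2 → D3 → (Cert rels S Gen.h) := @D2.rec (fun _ => D3 → (Cert rels S Gen.h)) (@D3.rec (fun _ => (Cert rels S Gen.h)) lc_h_rc_22_1 lc_h_rc_41_2 lc_h_rc_29_3 lc_h_rc_22_1 lc_h_rc_35_1 lc_h_Cert_tree lc_h_rc_42_1 lc_h_Cert_tree lc_h_rc_40_0 lc_h_rc_47_1 lc_h_Cert_tree lc_h_rc_40_0 lc_h_rc_42_1 lc_h_rc_41_2 lc_h_rc_42_1 lc_h_rc_35_1 lc_h_rc_41_2 lc_h_rc_14_1 lc_h_rc_22_1 lc_h_rc_41_2 lc_h_Cert_tree lc_h_Cert_tree lc_h_rc_40_0 lc_h_rc_14_1 lc_h_rc_14_1 lc_h_rc_40_0 lc_h_rc_14_1 lc_h_Cert_tree lc_h_rc_40_0 lc_h_rc_40_0 lc_h_rc_41_0 lc_h_rc_5_1 lc_h_rc_41_0 lc_h_Cert_tree lc_h_rc_29_3 lc_h_rc_5_1 lc_h_rc_35_1 lc_h_Cert_tree lc_h_Cert_tree lc_h_rc_40_0 lc_h_Cert_tree lc_h_rc_40_0 lc_h_rc_5_1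 lc_h_rc_5_1 lc_h_Cert_tree lc_h_Cert_tree lc_h_rc_40_0 lc_h_rc_40_0 lc_h_rc_47_1 lc_h_rc_41_2 lc_h_rc_35_1) (@D3.rec (fun _ => (Cert rels S Gen.h)) lc_h_Cert_tree lc_h_Cert_tree lc_h_rc_40_0 lc_h_rc_42_1 lc_h_rc_22_1 lc_h_rc_51_1 lc_h_rc_22_1 lc_h_rc_41_0 lc_h_rc_47_1 lc_h_Cert_tree lc_h_rc_29_3 lc_h_rc_14_1 lc_h_Cert_tree lc_h_rc_5_3 lc_h_Cert_tree lc_h_rc_40_0 lc_h_rc_35_1 lc_h_Cert_tree lc_h_rc_42_1 lc_h_Cert_tree lc_h_rc_40_0 lc_h_rc_47_1 lc_h_Cert_tree lc_h_rc_40_0 lc_h_rc_51_1 lc_h_Cert_tree lc_h_rc_40_0 lc_h_rc_40_0 lc_h_rc_14_1 lc_h_rc_14_1 lc_h_rc_22_1 lc_h_rc_35_1 lc_h_rc_5_1 lc_h_rc_22_1 lc_h_rc_5_1 lc_h_rc_14_1 lc_h_rc_5_1 lc_h_rc_14_1 lc_h_rc_47_1 lc_h_rc_47_1 lc_h_rc_22_1 lc_h_rc_35_1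 lc_h_Cert_tree lc_h_rc_14_1 lc_h_rc_22_1 lc_h_rc_41_4 lc_h_rc_41_4 lc_h_rc_40_0 lc_h_rc_41_4 lc_h_rc_40_0 lc_h_Cert_tree) (@D3.rec (fun _ => (Cert rels S Gen.h)) lc_h_rc_40_0 lc_h_rc_41_4 lc_h_rc_40_0 lc_h_rc_29_3 lc_h_Cert_tree lc_h_Cert_tree lc_h_rc_40_0 lc_h_rc_29_3 lc_h_rc_14_1 lc_h_Cert_tree lc_h_rc_40_0 lc_h_rc_40_0 lc_h_rc_47_1 lc_h_rc_14_1 lc_h_rc_14_1 lc_h_Cert_tree lc_h_rc_14_1 lc_h_Cert_tree lc_h_Cert_tree lc_h_rc_40_0 lc_h_rc_40_0 lc_h_rc_47_1 lc_h_rc_5_1 lc_h_rc_35_1 lc_h_Cert_tree lc_h_Cert_tree lc_h_rc_40_0 lc_h_rc_42_1 lc_h_rc_5_1 lc_h_rc_51_1 lc_h_rc_5_1 lc_h_rc_14_3 lc_h_rc_47_1 lc_h_Cert_tree lc_h_rc_5_1 lc_h_rc_14_1 lc_h_Cert_tree lc_h_Cert_tree lc_h_rc_40_0 lc_h_rc_35_1 lc_h_Cert_tree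 lc_h_rc_42_1 lc_h_Cert_tree lc_h_rc_40_0 lc_h_rc_40_0 lc_h_rc_40_0 lc_h_rc_5_1 lc_h_rc_5_1 lc_h_rc_5_1 lc_h_rc_5_1 lc_h_rc_42_1) (@D3.rec (fun _ => (Cert rels S Gen.h)) lc_h_rc_5_1 lc_h_rc_51_1 lc_h_rc_14_1 lc_h_rc_14_3 lc_h_rc_5_1 lc_h_rc_5_3 lc_h_Cert_tree lc_h_rc_40_0 lc_h_Cert_tree lc_h_rc_40_0 lc_h_rc_42_1 lc_h_rc_41_2 lc_h_rc_51_1 lc_h_rc_41_2 lc_h_rc_22_1 lc_h_rc_47_1 lc_h_Cert_tree lc_h_rc_14_1 lc_h_rc_22_1 lc_h_Cert_tree lc_h_rc_42_1 lc_h_Cert_tree lc_h_rc_40_0 lc_h_rc_40_0 lc_h_rc_42_1 lc_h_rc_22_1 lc_h_rc_42_1 lc_h_rc_35_1 lc_h_Cert_tree lc_h_rc_22_1 lc_h_rc_51_1 lc_h_Cert_tree lc_h_rc_14_1 lc_h_rc_22_1 lc_h_Cert_tree lc_h_rc_42_1 lc_h_Cert_tree lc_h_rc_40_0 lc_h_rc_42_3 lc_h_rc_42_3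 lc_h_Cert_tree lc_h_rc_22_1 lc_h_Cert_tree lc_h_rc_40_0 lc_h_rc_47_1 lc_h_Cert_tree lc_h_rc_40_0 lc_h_rc_42_1 lc_h_Cert_tree lc_h_rc_40_0 lc_h_rc_47_1) (@D3.rec (fun _ => (Cert rels S Gen.h)) lc_h_Cert_tree lc_h_rc_40_0 lc_h_rc_51_1 lc_h_Cert_tree lc_h_rc_40_0 lc_h_rc_29_3 lc_h_Cert_tree lc_h_rc_40_0 lc_h_rc_14_1 lc_h_rc_14_1 lc_h_rc_22_1 lc_h_rc_35_1 lc_h_Cert_tree lc_h_rc_14_1 lc_h_rc_35_1 lc_h_Cert_tree lc_h_Cert_tree lc_h_rc_40_0 lc_h_rc_14_1 lc_h_Cert_tree lc_h_rc_40_0 lc_h_rc_5_1 lc_h_Cert_tree lc_h_rc_40_0 lc_h_Cert_tree lc_h_rc_40_0 lc_h_rc_29_3 lc_h_rc_22_1 lc_h_rc_35_1 lc_h_Cert_tree lc_h_rc_14_1 lc_h_rc_47_1 lc_h_rc_51_3 lc_h_rc_51_3 lc_h_rc_40_0 lc_h_rc_5_1 lc_h_rc_14_1 lc_h_Cert_tree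 lc_h_rc_47_1 lc_h_rc_41_2 lc_h_rc_40_0 lc_h_rc_40_0 lc_h_rc_5_1 lc_h_Cert_tree lc_h_rc_40_0 lc_h_Cert_tree lc_h_rc_40_0 lc_h_rc_29_3 lc_h_rc_40_0 lc_h_rc_14_1 lc_h_rc_35_1) (@D3.rec (fun _ => (Cert rels S Gen.h)) lc_h_Cert_tree lc_h_rc_40_0 lc_h_Cert_tree lc_h_rc_40_0 lc_h_rc_41_2 lc_h_rc_41_2 lc_h_rc_14_1 lc_h_rc_22_1 lc_h_rc_35_1 lc_h_rc_14_1 lc_h_rc_35_1 lc_h_rc_40_0 lc_h_rc_29_3 lc_h_Cert_tree lc_h_rc_40_0 lc_h_rc_22_3 lc_h_rc_40_0 lc_h_rc_5_1 lc_h_rc_5_1 lc_h_rc_5_1 lc_h_rc_5_1 lc_h_rc_5_1 lc_h_rc_14_1 lc_h_rc_5_1 lc_h_rc_5_1 lc_h_Cert_tree lc_h_rc_40_0 lc_h_rc_29_3 lc_h_rc_41_2 lc_h_rc_40_0 lc_h_rc_42_1 lc_h_rc_41_2 lc_h_rc_42_1 lc_h_rc_35_1 lc_h_rc_42_1 lc_h_rc_22_1 lc_h_rc_51_1 lc_h_rc_14_1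 lc_h_rc_14_3 lc_h_rc_5_1 lc_h_rc_5_3 lc_h_rc_29_3 lc_h_rc_42_1 lc_h_rc_14_1 lc_h_rc_35_1 lc_h_rc_14_1 lc_h_rc_5_1 lc_h_rc_22_1 lc_h_rc_35_1 lc_h_rc_22_3 lc_h_rc_14_1) (@D3.rec (fun _ => (Cert rels S Gen.h)) lc_h_rc_35_1 lc_h_Cert_tree lc_h_rc_41_4 lc_h_rc_40_0 lc_h_rc_5_1 lc_h_rc_14_1 lc_h_Cert_tree lc_h_Cert_tree lc_h_Cert_tree lc_h_rc_40_0 lc_h_rc_40_0 lc_h_rc_5_1 lc_h_Cert_tree lc_h_rc_40_0 lc_h_Cert_tree lc_h_rc_40_0 lc_h_rc_14_3 lc_h_rc_40_0 lc_h_rc_5_3 lc_h_rc_22_1 lc_h_rc_5_1 lc_h_Cert_tree lc_h_rc_40_0 lc_h_rc_29_3 lc_h_rc_29_3 lc_h_Cert_tree lc_h_rc_40_0 lc_h_rc_29_3 lc_h_rc_40_0 lc_h_rc_14_1 lc_h_rc_35_1 lc_h_rc_40_0 lc_h_rc_42_1 lc_h_rc_29_3 lc_h_rc_51_1 lc_h_rc_40_0 lc_h_rc_14_1 lc_h_rc_14_1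 lc_h_rc_51_1 lc_h_rc_40_0 lc_h_rc_14_1 lc_h_rc_40_0 lc_h_rc_29_3 lc_h_rc_22_1 lc_h_rc_22_1 lc_h_rc_40_0 lc_h_rc_42_1 lc_h_rc_22_1 lc_h_rc_35_1 lc_h_rc_47_1 lc_h_rc_42_1) (@D3.rec (fun _ => (Cert rels S Gen.h)) lc_h_rc_29_1 lc_h_rc_40_0 lc_h_rc_47_1 lc_h_rc_35_1 lc_h_rc_5_3 lc_h_rc_47_1 lc_h_rc_29_3 lc_h_rc_41_2 lc_h_rc_40_0 lc_h_rc_5_1 lc_h_rc_5_1 lc_h_rc_5_1 lc_h_rc_5_3 lc_h_Cert_tree lc_h_rc_5_1 lc_h_rc_35_1 lc_h_rc_47_1 lc_h_rc_42_1 lc_h_rc_41_2 lc_h_rc_5_1 lc_h_rc_51_3 lc_h_rc_29_1 lc_h_rc_51_1 lc_h_rc_14_3 lc_h_rc_42_1 lc_h_rc_51_3 lc_h_Cert_tree lc_h_rc_40_0 lc_h_rc_29_3 lc_h_rc_41_2 lc_h_rc_47_3 lc_h_rc_40_0 lc_h_rc_47_1 lc_h_rc_22_1 lc_h_rc_22_1 lc_h_Cert_tree lc_h_rc_22_1 lc_h_rc_14_1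 lc_h_Cert_tree lc_h_rc_40_0 lc_h_Cert_tree lc_h_rc_40_0 lc_h_rc_5_3 lc_h_rc_35_1 lc_h_rc_42_1 lc_h_rc_40_0 lc_h_rc_47_1 lc_h_rc_35_1 lc_h_rc_5_3 lc_h_Cert_tree lc_h_rc_42_1) (@D3.rec (fun _ => (Cert rels S Gen.h)) lc_h_rc_47_1 lc_h_rc_29_1 lc_h_rc_35_1 lc_h_Cert_tree lc_h_rc_40_0 lc_h_rc_5_1 lc_h_rc_35_1 lc_h_rc_51_1 lc_h_rc_35_1 lc_h_Cert_tree lc_h_rc_40_0 lc_h_rc_40_0 lc_h_rc_47_1 lc_h_rc_41_2 lc_h_rc_35_1 lc_h_Cert_tree lc_h_Cert_tree lc_h_rc_40_0 lc_h_rc_42_1 lc_h_rc_22_1 lc_h_rc_14_3 lc_h_rc_14_3 lc_h_rc_47_1 lc_h_rc_5_3 lc_h_Cert_tree lc_h_rc_5_1 lc_h_rc_5_1 lc_h_Cert_tree lc_h_rc_42_1 lc_h_Cert_tree lc_h_rc_40_0 lc_h_rc_22_1 lc_h_rc_35_1 lc_h_rc_47_1 lc_h_rc_35_1 lc_h_rc_51_1 lc_h_rc_47_1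 lc_h_rc_40_0 lc_h_rc_51_1 lc_h_rc_42_1 lc_h_rc_42_1 lc_h_rc_47_1 lc_h_rc_41_2 lc_h_rc_51_1 lc_h_rc_29_1 lc_h_rc_47_1 lc_h_Cert_tree lc_h_rc_40_0 lc_h_Cert_tree lc_h_rc_40_0 lc_h_rc_41_2) (@D3.rec (fun _ => (Cert rels S Gen.h)) lc_h_rc_29_1 lc_h_rc_47_1 lc_h_rc_22_1 lc_h_rc_35_1 lc_h_rc_51_1 lc_h_rc_41_2 lc_h_rc_47_1 lc_h_Cert_tree lc_h_rc_40_0 lc_h_Cert_tree lc_h_rc_40_0 lc_h_rc_29_3 lc_h_rc_14_1 lc_h_Cert_tree lc_h_rc_40_0 lc_h_rc_5_1 lc_h_Cert_tree lc_h_rc_40_0 lc_h_Cert_tree lc_h_Cert_tree lc_h_rc_40_0 lc_h_rc_40_0 lc_h_rc_47_1 lc_h_rc_41_2 lc_h_Cert_tree lc_h_rc_22_1 lc_h_rc_40_0 lc_h_rc_42_1 lc_h_rc_22_1 lc_h_rc_51_1 lc_h_rc_22_1 lc_h_rc_41_0 lc_h_Cert_tree lc_h_rc_22_1 lc_h_Cert_tree lc_h_rc_40_0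 lc_h_rc_14_1 lc_h_rc_22_1 lc_h_Cert_tree lc_h_rc_22_1 lc_h_Cert_tree lc_h_rc_14_1 lc_h_Cert_tree lc_h_rc_40_0 lc_h_rc_5_1 lc_h_Cert_tree lc_h_rc_40_0 lc_h_rc_14_1 lc_h_Cert_tree lc_h_rc_40_0 lc_h_rc_14_1) (@D3.rec (fun _ => (Cert rels S Gen.h)) lc_h_Cert_tree lc_h_rc_40_0 lc_h_rc_5_1 lc_h_Cert_tree lc_h_rc_40_0 lc_h_Cert_tree lc_h_rc_40_0 lc_h_rc_29_3 lc_h_Cert_tree lc_h_rc_40_0 lc_h_rc_41_2 lc_h_Cert_tree lc_h_rc_40_0 lc_h_rc_40_0 lc_h_rc_41_0 lc_h_rc_41_2 lc_h_Cert_tree lc_h_rc_41_2 lc_h_rc_40_0 lc_h_rc_40_0 lc_h_rc_47_1 lc_h_rc_29_5 lc_h_rc_22_1 lc_h_Cert_tree lc_h_Cert_tree lc_h_rc_40_0 lc_h_rc_42_1 lc_h_rc_42_1 lc_h_rc_51_1 lc_h_rc_41_2 lc_h_rc_22_1 lc_h_rc_41_0 lc_h_Cert_tree lc_h_rc_41_0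 lc_h_rc_35_1 lc_h_Cert_tree lc_h_Cert_tree lc_h_rc_40_0 lc_h_rc_35_1 lc_h_rc_51_1 lc_h_rc_42_1 lc_h_rc_47_1 lc_h_rc_40_0 lc_h_rc_5_1 lc_h_rc_22_3 lc_h_rc_5_1 lc_h_rc_5_1 lc_h_Cert_tree lc_h_rc_5_1 lc_h_Cert_tree lc_h_rc_14_1) (@D3.rec (fun _ => (Cert rels S Gen.h)) lc_h_Cert_tree lc_h_rc_40_0 lc_h_rc_29_3 lc_h_Cert_tree lc_h_rc_40_0 lc_h_rc_40_0 lc_h_Cert_tree lc_h_rc_40_0 lc_h_rc_42_1 lc_h_rc_41_2 lc_h_rc_51_1 lc_h_rc_41_2 lc_h_rc_22_1 lc_h_rc_47_1 lc_h_Cert_tree lc_h_rc_14_1 lc_h_rc_22_1 lc_h_Cert_tree lc_h_rc_42_1 lc_h_Cert_tree lc_h_rc_40_0 lc_h_rc_40_0 lc_h_rc_42_1 lc_h_rc_22_1 lc_h_rc_42_1 lc_h_rc_35_1 lc_h_Cert_tree lc_h_rc_22_1 lc_h_rc_29_3 lc_h_Cert_tree lc_h_rc_14_1 lc_h_rc_22_1 lc_h_Cert_tree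 lc_h_rc_42_1 lc_h_Cert_tree lc_h_rc_40_0 lc_h_rc_14_1 lc_h_rc_14_1 lc_h_Cert_tree lc_h_rc_35_3 lc_h_Cert_tree lc_h_rc_40_0 lc_h_rc_47_1 lc_h_Cert_tree lc_h_rc_40_0 lc_h_rc_14_1 lc_h_rc_41_2 lc_h_rc_47_1 lc_h_rc_42_1 lc_h_rc_51_1 lc_h_rc_47_1) (@D3.rec (fun _ => (Cert rels S Gen.h)) lc_h_rc_51_1 lc_h_rc_14_1 lc_h_rc_35_1 lc_h_rc_22_1 lc_h_rc_35_1 lc_h_Cert_tree lc_h_rc_14_1 lc_h_rc_35_1 lc_h_Cert_tree lc_h_Cert_tree lc_h_rc_40_0 lc_h_rc_14_1 lc_h_Cert_tree lc_h_rc_40_0 lc_h_rc_47_1 lc_h_Cert_tree lc_h_rc_40_0 lc_h_Cert_tree lc_h_rc_40_0 lc_h_rc_29_3 lc_h_Cert_tree lc_h_rc_14_1 lc_h_rc_35_1 lc_h_Cert_tree lc_h_Cert_tree lc_h_rc_40_0 lc_h_rc_5_1 lc_h_rc_14_1 lc_h_Cert_tree lc_h_rc_47_1 lc_h_Cert_tree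 lc_h_rc_40_0 lc_h_rc_40_0 lc_h_rc_5_1 lc_h_Cert_tree lc_h_rc_40_0 lc_h_Cert_tree lc_h_rc_40_0 lc_h_rc_29_3 lc_h_rc_40_0 lc_h_rc_14_1 lc_h_rc_35_1 lc_h_rc_40_0 lc_h_rc_40_0 lc_h_rc_29_3 lc_h_rc_5_1 lc_h_rc_5_1 lc_h_rc_5_1 lc_h_rc_5_1 lc_h_Cert_tree lc_h_rc_5_1) (@D3.rec (fun _ => (Cert rels S Gen.h)) lc_h_rc_29_3 lc_h_rc_41_2 lc_h_rc_29_3 lc_h_rc_22_1 lc_h_rc_22_1 lc_h_rc_29_3 lc_h_Cert_tree lc_h_rc_22_1 lc_h_rc_41_2 lc_h_rc_35_1 lc_h_Cert_tree lc_h_rc_40_0 lc_h_rc_29_3 lc_h_rc_5_1 lc_h_rc_40_0 lc_h_rc_40_0 lc_h_rc_47_1 lc_h_rc_5_1 lc_h_rc_22_1 lc_h_Cert_tree lc_h_rc_41_2 lc_h_Cert_tree lc_h_rc_40_0 lc_h_rc_5_1 lc_h_rc_51_1 lc_h_rc_41_2 lc_h_Cert_tree lc_h_Cert_tree lc_h_rc_40_0 lc_h_rc_22_1 lc_h_Cert_tree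 lc_h_Cert_tree lc_h_rc_40_0 lc_h_rc_14_3 lc_h_rc_51_1 lc_h_rc_41_2 lc_h_rc_35_1 lc_h_Cert_tree lc_h_rc_14_1 lc_h_rc_47_1 lc_h_Cert_tree lc_h_rc_5_3 lc_h_Cert_tree lc_h_rc_40_0 lc_h_rc_47_1 lc_h_rc_35_1 lc_h_rc_41_2 lc_h_rc_41_2 lc_h_rc_40_0 lc_h_rc_42_1 lc_h_rc_22_1) (@D3.rec (fun _ => (Cert rels S Gen.h)) lc_h_rc_35_1 lc_h_Cert_tree lc_h_rc_5_3 lc_h_rc_14_1 lc_h_Cert_tree lc_h_rc_40_0 lc_h_rc_5_1 lc_h_Cert_tree lc_h_rc_40_0 lc_h_rc_35_1 lc_h_Cert_tree lc_h_rc_40_0 lc_h_rc_14_1 lc_h_rc_14_3 lc_h_rc_5_1 lc_h_Cert_tree lc_h_rc_40_0 lc_h_Cert_tree lc_h_rc_40_0 lc_h_rc_47_3 lc_h_Cert_tree lc_h_rc_40_0 lc_h_rc_29_3 lc_h_rc_5_1 lc_h_Cert_tree lc_h_rc_40_0 lc_h_rc_40_0 lc_h_rc_47_1 lc_h_rc_5_1 lc_h_rc_22_1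 lc_h_Cert_tree lc_h_rc_5_1 lc_h_rc_47_3 lc_h_rc_40_0 lc_h_rc_29_3 lc_h_rc_5_1 lc_h_rc_5_1 lc_h_rc_5_1 lc_h_Cert_tree lc_h_rc_14_1 lc_h_Cert_tree lc_h_rc_40_0 lc_h_rc_40_0 lc_h_rc_47_1 lc_h_rc_41_2 lc_h_rc_22_1 lc_h_rc_35_1 lc_h_Cert_tree lc_h_rc_47_3 lc_h_rc_40_0 lc_h_rc_42_1) (@D3.rec (fun _ => (Cert rels S Gen.h)) lc_h_rc_22_1 lc_h_rc_51_1 lc_h_rc_22_1 lc_h_rc_22_1 lc_h_rc_51_1 lc_h_Cert_tree lc_h_rc_14_1 lc_h_rc_22_1 lc_h_Cert_tree lc_h_Cert_tree lc_h_rc_40_0 lc_h_rc_41_2 lc_h_rc_47_1 lc_h_rc_35_1 lc_h_rc_14_1 lc_h_rc_22_1 lc_h_rc_35_1 lc_h_Cert_tree lc_h_Cert_tree lc_h_rc_40_0 lc_h_rc_5_1 lc_h_Cert_tree lc_h_rc_40_0 lc_h_Cert_tree lc_h_rc_40_0 lc_h_Cert_tree lc_h_rc_40_0 lc_h_rc_14_3 lc_h_rc_41_2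 lc_h_rc_41_4 lc_h_rc_40_0 lc_h_rc_47_1 lc_h_rc_5_1 lc_h_rc_22_1 lc_h_Cert_tree lc_h_Cert_tree lc_h_rc_40_0 lc_h_rc_42_1 lc_h_rc_5_1 lc_h_rc_51_1 lc_h_rc_5_1 lc_h_rc_22_1 lc_h_Cert_tree lc_h_rc_14_1 lc_h_Cert_tree lc_h_rc_40_0 lc_h_rc_40_0 lc_h_rc_5_1 lc_h_rc_5_1 lc_h_rc_22_1 lc_h_rc_5_1) (@D3.rec (fun _ => (Cert rels S Gen.h)) lc_h_Cert_tree lc_h_Cert_tree lc_h_Cert_tree lc_h_rc_40_0 lc_h_rc_5_1 lc_h_Cert_tree lc_h_rc_40_0 lc_h_rc_22_3 lc_h_rc_42_1 lc_h_rc_41_2 lc_h_rc_22_1 lc_h_Cert_tree lc_h_rc_14_1 lc_h_rc_22_1 lc_h_Cert_tree lc_h_rc_42_1 lc_h_Cert_tree lc_h_rc_40_0 lc_h_rc_40_0 lc_h_rc_51_1 lc_h_rc_22_1 lc_h_rc_42_1 lc_h_rc_35_1 lc_h_Cert_tree lc_h_rc_51_1 lc_h_Cert_tree lc_h_rc_14_1 lc_h_rc_51_1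 lc_h_Cert_tree lc_h_rc_51_1 lc_h_Cert_tree lc_h_rc_40_0 lc_h_rc_22_1 lc_h_rc_14_1 lc_h_Cert_tree lc_h_rc_22_1 lc_h_Cert_tree lc_h_rc_40_0 lc_h_rc_47_1 lc_h_Cert_tree lc_h_rc_40_0 lc_h_rc_47_1 lc_h_rc_35_1 lc_h_rc_51_1 lc_h_rc_35_1 lc_h_rc_51_1 lc_h_rc_47_1 lc_h_rc_41_2 lc_h_rc_22_1 lc_h_rc_51_1 lc_h_Cert_tree) (@D3.rec (fun _ => (Cert rels S Gen.h)) lc_h_rc_14_1 lc_h_rc_22_1 lc_h_Cert_tree lc_h_Cert_tree lc_h_rc_40_0 lc_h_rc_14_1 lc_h_Cert_tree lc_h_rc_40_0 lc_h_rc_5_1 lc_h_Cert_tree lc_h_rc_40_0 lc_h_Cert_tree lc_h_rc_40_0 lc_h_rc_29_3 lc_h_Cert_tree lc_h_rc_14_1 lc_h_rc_22_1 lc_h_Cert_tree lc_h_rc_47_3 lc_h_rc_40_0 lc_h_rc_5_1 lc_h_rc_14_1 lc_h_Cert_tree lc_h_rc_47_1 lc_h_Cert_tree lc_h_rc_40_0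 lc_h_rc_40_0 lc_h_rc_5_1 lc_h_Cert_tree lc_h_rc_40_0 lc_h_Cert_tree lc_h_rc_40_0 lc_h_rc_14_3 lc_h_rc_40_0 lc_h_rc_14_1 lc_h_rc_35_1 lc_h_Cert_tree lc_h_rc_40_0 lc_h_rc_41_0 lc_h_rc_5_1 lc_h_rc_41_0 lc_h_rc_5_1 lc_h_Cert_tree lc_h_rc_40_0 lc_h_rc_40_0 lc_h_rc_5_1 lc_h_rc_40_0 lc_h_Cert_tree lc_h_rc_40_0 lc_h_rc_42_1 lc_h_rc_41_2) (@D3.rec (fun _ => (Cert rels S Gen.h)) lc_h_rc_51_1 lc_h_rc_41_2 lc_h_rc_47_1 lc_h_Cert_tree lc_h_Cert_tree lc_h_rc_40_0 lc_h_rc_40_0 lc_h_rc_42_1 lc_h_rc_22_1 lc_h_rc_41_0 lc_h_rc_35_1 lc_h_Cert_tree lc_h_rc_41_0 lc_h_rc_51_1 lc_h_Cert_tree lc_h_rc_14_1 lc_h_rc_41_0 lc_h_Cert_tree lc_h_rc_42_1 lc_h_Cert_tree lc_h_rc_40_0 lc_h_rc_41_0 lc_h_Cert_tree lc_h_Cert_tree lc_h_rc_40_0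 lc_h_rc_40_0 lc_h_rc_42_1 lc_h_rc_51_1 lc_h_rc_42_1 lc_h_rc_14_1 lc_h_rc_14_1 lc_h_rc_22_1 lc_h_rc_35_1 lc_h_rc_5_1 lc_h_rc_14_1 lc_h_rc_35_1 lc_h_rc_5_1 lc_h_rc_5_1 lc_h_rc_14_1 lc_h_rc_5_1 lc_h_rc_5_1 lc_h_rc_14_1 lc_h_rc_5_1 lc_h_rc_14_3 lc_h_rc_14_1 lc_h_rc_14_3 lc_h_rc_51_3 lc_h_rc_40_0 lc_h_rc_5_1 lc_h_rc_14_1 lc_h_Cert_tree) (@D3.rec (fun _ => (Cert rels S Gen.h)) lc_h_rc_41_2 lc_h_rc_40_0 lc_h_rc_40_0 lc_h_rc_5_1 lc_h_Cert_tree lc_h_rc_40_0 lc_h_Cert_tree lc_h_rc_40_0 lc_h_rc_29_3 lc_h_rc_40_0 lc_h_rc_14_1 lc_h_rc_35_1 lc_h_rc_40_0 lc_h_rc_40_0 lc_h_rc_14_1 lc_h_rc_47_1 lc_h_rc_40_0 lc_h_rc_47_3 lc_h_rc_40_0 lc_h_rc_42_1 lc_h_rc_5_1 lc_h_rc_51_1 lc_h_rc_5_1 lc_h_Cert_tree lc_h_rc_40_0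 lc_h_rc_40_0 lc_h_rc_42_1 lc_h_rc_5_1 lc_h_rc_41_0 lc_h_rc_35_1 lc_h_Cert_tree lc_h_rc_14_3 lc_h_Cert_tree lc_h_rc_5_3 lc_h_Cert_tree lc_h_rc_40_0 lc_h_rc_22_1 lc_h_Cert_tree lc_h_rc_40_0 lc_h_rc_5_1 lc_h_rc_5_1 lc_h_rc_5_1 lc_h_rc_5_1 lc_h_rc_51_1 lc_h_rc_14_1 lc_h_rc_5_1 lc_h_rc_41_2 lc_h_rc_22_3 lc_h_rc_14_1 lc_h_rc_41_2 lc_h_rc_5_1) (@D3.rec (fun _ => (Cert rels S Gen.h)) lc_h_rc_5_3 lc_h_rc_42_3 lc_h_rc_41_4 lc_h_rc_40_0 lc_h_rc_29_3 lc_h_rc_41_2 lc_h_rc_40_0 lc_h_rc_42_1 lc_h_rc_41_2 lc_h_rc_42_1 lc_h_rc_35_1 lc_h_Cert_tree lc_h_rc_22_1 lc_h_rc_51_1 lc_h_Cert_tree lc_h_rc_14_1 lc_h_rc_22_1 lc_h_Cert_tree lc_h_rc_42_1 lc_h_Cert_tree lc_h_rc_40_0 lc_h_rc_5_1 lc_h_rc_14_1 lc_h_Cert_tree lc_h_rc_22_1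 lc_h_Cert_tree lc_h_rc_40_0 lc_h_rc_47_1 lc_h_Cert_tree lc_h_rc_40_0 lc_h_rc_47_1 lc_h_rc_22_1 lc_h_rc_42_1 lc_h_rc_35_1 lc_h_Cert_tree lc_h_rc_14_1 lc_h_rc_35_1 lc_h_Cert_tree lc_h_rc_35_1 lc_h_Cert_tree lc_h_rc_40_0 lc_h_rc_14_1 lc_h_rc_22_1 lc_h_Cert_tree lc_h_rc_29_3 lc_h_Cert_tree lc_h_rc_40_0 lc_h_rc_5_1 lc_h_rc_14_1 lc_h_Cert_tree lc_h_rc_42_1) (@D3.rec (fun _ => (Cert rels S Gen.h)) lc_h_Cert_tree lc_h_rc_40_0 lc_h_rc_42_1 lc_h_Cert_tree lc_h_rc_40_0 lc_h_rc_22_3 lc_h_Cert_tree lc_h_rc_14_1 lc_h_Cert_tree lc_h_rc_40_0 lc_h_rc_22_1 lc_h_Cert_tree lc_h_rc_40_0 lc_h_rc_29_3 lc_h_rc_51_1 lc_h_Cert_tree lc_h_rc_40_0 lc_h_rc_47_1 lc_h_rc_42_1 lc_h_rc_51_1 lc_h_rc_47_1 lc_h_rc_51_1 lc_h_rc_22_1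 lc_h_rc_29_3 lc_h_rc_14_1 lc_h_rc_35_1 lc_h_Cert_tree lc_h_rc_22_3 lc_h_rc_40_0 lc_h_rc_5_1 lc_h_rc_41_2 lc_h_rc_41_4 lc_h_Cert_tree lc_h_rc_41_4 lc_h_rc_40_0 lc_h_rc_40_0 lc_h_rc_5_1 lc_h_rc_41_2 lc_h_rc_40_0 lc_h_Cert_tree lc_h_rc_40_0 lc_h_rc_29_3 lc_h_rc_40_0 lc_h_rc_14_1 lc_h_rc_35_1 lc_h_rc_22_3 lc_h_rc_22_3 lc_h_rc_40_0 lc_h_rc_14_1 lc_h_Cert_tree lc_h_rc_40_0) (@D3.rec (fun _ => (Cert rels S Gen.h)) lc_h_rc_29_3 lc_h_rc_41_2 lc_h_rc_40_0 lc_h_rc_41_2 lc_h_rc_22_1 lc_h_rc_41_4 lc_h_rc_14_1 lc_h_rc_35_1 lc_h_rc_5_1 lc_h_rc_40_0 lc_h_Cert_tree lc_h_rc_40_0 lc_h_rc_40_0 lc_h_rc_14_1 lc_h_rc_29_3 lc_h_rc_5_1 lc_h_rc_5_1 lc_h_rc_5_1 lc_h_rc_14_1 lc_h_rc_5_1 lc_h_rc_5_1 lc_h_rc_14_1 lc_h_Cert_tree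 lc_h_rc_5_1 lc_h_rc_29_3 lc_h_rc_41_2 lc_h_rc_22_1 lc_h_rc_29_3 lc_h_Cert_tree lc_h_rc_47_1 lc_h_rc_41_2 lc_h_rc_42_1 lc_h_rc_35_1 lc_h_rc_51_1 lc_h_rc_14_1 lc_h_rc_35_1 lc_h_rc_41_2 lc_h_rc_5_1 lc_h_rc_14_1 lc_h_rc_41_2 lc_h_rc_5_1 lc_h_rc_5_3 lc_h_rc_29_5 lc_h_rc_47_1 lc_h_rc_14_1 lc_h_rc_35_1 lc_h_rc_5_1 lc_h_rc_35_1 lc_h_Cert_tree lc_h_rc_5_1 lc_h_rc_40_0) (@D3.rec (fun _ => (Cert rels S Gen.h)) lc_h_rc_41_0 lc_h_rc_41_0 lc_h_rc_40_0 lc_h_rc_5_3 lc_h_rc_14_3 lc_h_rc_40_0 lc_h_rc_40_0 lc_h_rc_35_1 lc_h_rc_41_4 lc_h_rc_47_1 lc_h_rc_41_4 lc_h_rc_29_3 lc_h_rc_40_0 lc_h_rc_56_27 lc_h_Cert_tree lc_h_rc_40_0 lc_h_rc_40_0 lc_h_Cert_tree lc_h_rc_40_0 lc_h_Cert_tree lc_h_rc_40_0 lc_h_rc_29_3 lc_h_Cert_tree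 lc_h_rc_42_1 lc_h_rc_40_0 lc_h_Cert_tree lc_h_Cert_tree lc_h_rc_40_0 lc_h_rc_40_0 lc_h_Cert_tree lc_h_rc_40_0 lc_h_Cert_tree lc_h_rc_40_0 lc_h_rc_29_3 lc_h_rc_40_0 lc_h_rc_14_1 lc_h_rc_35_1 lc_h_rc_40_0 lc_h_Cert_tree lc_h_rc_40_0 lc_h_rc_40_0 lc_h_rc_40_0 lc_h_Cert_tree lc_h_rc_40_0 lc_h_rc_29_3 lc_h_rc_14_1 lc_h_rc_41_4 lc_h_rc_47_1 lc_h_rc_22_1 lc_h_rc_41_4 lc_h_rc_47_1) (@D3.rec (fun _ => (Cert rels S Gen.h)) lc_h_rc_47_1 lc_h_rc_51_1 lc_h_rc_5_1 lc_h_rc_51_1 lc_h_rc_51_1 lc_h_Cert_tree lc_h_rc_40_0 lc_h_rc_5_1 lc_h_Cert_tree lc_h_rc_51_1 lc_h_Cert_tree lc_h_rc_40_0 lc_h_rc_47_1 lc_h_Cert_tree lc_h_rc_40_0 lc_h_rc_29_3 lc_h_rc_51_1 lc_h_rc_29_3 lc_h_rc_40_0 lc_h_rc_35_1 lc_h_rc_51_1 lc_h_rc_35_1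 lc_h_rc_40_0 lc_h_rc_14_1 lc_h_Cert_tree lc_h_Cert_tree lc_h_Cert_tree lc_h_rc_40_0 lc_h_rc_40_0 lc_h_Cert_tree lc_h_rc_40_0 lc_h_Cert_tree lc_h_rc_40_0 lc_h_rc_29_3 lc_h_rc_40_0 lc_h_rc_14_1 lc_h_rc_35_1 lc_h_Cert_tree lc_h_rc_40_0 lc_h_rc_5_1 lc_h_Cert_tree lc_h_Cert_tree lc_h_rc_40_0 lc_h_rc_40_0 lc_h_rc_29_3 lc_h_Cert_tree lc_h_rc_40_0 lc_h_rc_29_3 lc_h_rc_40_0 lc_h_rc_14_1 lc_h_rc_35_1) (@D3.rec (fun _ => (Cert rels S Gen.h)) lc_h_rc_5_1 lc_h_rc_22_1 lc_h_rc_14_1 lc_h_rc_42_1 lc_h_rc_14_1 lc_h_Cert_tree lc_h_rc_40_0 lc_h_rc_14_1 lc_h_Cert_tree lc_h_rc_40_0 lc_h_rc_5_1 lc_h_Cert_tree lc_h_rc_40_0 lc_h_Cert_tree lc_h_rc_40_0 lc_h_rc_29_3 lc_h_rc_14_1 lc_h_rc_41_2 lc_h_rc_5_1 lc_h_rc_14_1 lc_h_Cert_tree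 lc_h_Cert_tree lc_h_rc_41_2 lc_h_rc_40_0 lc_h_rc_5_1 lc_h_rc_42_3 lc_h_rc_40_0 lc_h_rc_41_4 lc_h_rc_40_0 lc_h_rc_29_3 lc_h_rc_40_0 lc_h_rc_14_1 lc_h_rc_35_1 lc_h_Cert_tree lc_h_rc_40_0 lc_h_rc_5_1 lc_h_rc_14_1 lc_h_Cert_tree lc_h_Cert_tree lc_h_rc_42_1 lc_h_Cert_tree lc_h_rc_40_0 lc_h_rc_47_1 lc_h_Cert_tree lc_h_rc_40_0 lc_h_rc_5_1 lc_h_rc_14_1 lc_h_rc_42_3 lc_h_rc_42_1 lc_h_Cert_tree lc_h_rc_40_0) (@D3.rec (fun _ => (Cert rels S Gen.h)) lc_h_Cert_tree lc_h_rc_40_0 lc_h_rc_5_1 lc_h_Cert_tree lc_h_rc_14_1 lc_h_Cert_tree lc_h_rc_40_0 lc_h_rc_47_1 lc_h_Cert_tree lc_h_rc_40_0 lc_h_rc_29_3 lc_h_rc_51_1 lc_h_Cert_tree lc_h_rc_40_0 lc_h_rc_5_1 lc_h_Cert_tree lc_h_rc_40_0 lc_h_rc_14_1 lc_h_Cert_tree lc_h_rc_40_0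 lc_h_rc_14_1 lc_h_rc_51_1 lc_h_Cert_tree lc_h_rc_40_0 lc_h_rc_29_3 lc_h_rc_35_1 lc_h_rc_29_3 lc_h_rc_40_0 lc_h_rc_51_1 lc_h_rc_22_3 lc_h_rc_22_3 lc_h_rc_40_0 lc_h_Cert_tree lc_h_rc_35_1 lc_h_rc_40_0 lc_h_rc_14_1 lc_h_rc_5_1 lc_h_rc_41_2 lc_h_rc_42_1 lc_h_rc_51_1 lc_h_rc_41_2 lc_h_rc_41_2 lc_h_rc_41_2 lc_h_rc_41_2 lc_h_rc_41_2 lc_h_rc_41_2 lc_h_rc_51_1 lc_h_rc_47_1 lc_h_rc_5_1 lc_h_rc_51_1 lc_h_rc_5_1)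
def ce_h_10 : D2 → D3 → (Cert rels S Gen.h) := @D2.rec (fun _ => D3 → (Cert rels S Gen.h)) (@D3.rec (fun _ => (Cert rels S Gen.h)) lc_h_rc_5_1 lc_h_rc_55_34 lc_h_rc_41_2 lc_h_rc_41_2 lc_h_rc_29_3 lc_h_rc_41_2 lc_h_rc_14_3 lc_h_Cert_tree lc_h_rc_42_1 lc_h_rc_41_2 lc_h_rc_51_1 lc_h_rc_29_5 lc_h_rc_42_1 lc_h_rc_51_1 lc_h_rc_29_3 lc_h_rc_5_1 lc_h_rc_41_2 lc_h_Cert_tree lc_h_rc_22_1 lc_h_Cert_tree lc_h_rc_22_1 lc_h_Cert_tree lc_h_rc_14_1 lc_h_Cert_tree lc_h_rc_40_0 lc_h_rc_42_1 lc_h_rc_42_1 lc_h_rc_5_1 lc_h_rc_42_1 lc_h_Cert_tree lc_h_rc_40_0 lc_h_rc_5_1 lc_h_Cert_tree lc_h_rc_40_0 lc_h_rc_42_1 lc_h_Cert_tree lc_h_rc_40_0 lc_h_rc_47_1 lc_h_Cert_tree lc_h_rc_40_0 lc_h_Cert_tree lc_h_Cert_tree lc_h_rc_40_0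 lc_h_rc_40_0 lc_h_rc_5_1 lc_h_Cert_tree lc_h_rc_40_0 lc_h_rc_40_0 lc_h_rc_42_1 lc_h_Cert_tree lc_h_rc_40_0) (@D3.rec (fun _ => (Cert rels S Gen.h)) lc_h_rc_47_1 lc_h_Cert_tree lc_h_rc_40_0 lc_h_rc_51_1 lc_h_Cert_tree lc_h_rc_40_0 lc_h_rc_29_3 lc_h_rc_14_1 lc_h_Cert_tree lc_h_rc_40_0 lc_h_Cert_tree lc_h_rc_40_0 lc_h_rc_14_1 lc_h_Cert_tree lc_h_rc_40_0 lc_h_rc_14_1 lc_h_Cert_tree lc_h_rc_40_0 lc_h_rc_5_1 lc_h_Cert_tree lc_h_rc_40_0 lc_h_Cert_tree lc_h_rc_40_0 lc_h_rc_29_3 lc_h_rc_51_1 lc_h_rc_40_0 lc_h_rc_42_1 lc_h_rc_51_3 lc_h_rc_40_0 lc_h_rc_14_1 lc_h_rc_22_1 lc_h_rc_51_1 lc_h_rc_42_1 lc_h_rc_47_3 lc_h_rc_40_0 lc_h_rc_51_3 lc_h_Cert_tree lc_h_rc_40_0 lc_h_rc_29_3 lc_h_rc_22_1 lc_h_rc_40_0 lc_h_rc_29_3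 lc_h_rc_22_1 lc_h_rc_35_1 lc_h_Cert_tree lc_h_rc_40_0 lc_h_rc_40_0 lc_h_rc_14_1 lc_h_rc_51_1 lc_h_rc_29_3 lc_h_rc_35_1) (@D3.rec (fun _ => (Cert rels S Gen.h)) lc_h_rc_40_0 lc_h_rc_22_1 lc_h_Cert_tree lc_h_rc_5_3 lc_h_rc_40_0 lc_h_rc_5_1 lc_h_Cert_tree lc_h_rc_40_0 lc_h_Cert_tree lc_h_rc_40_0 lc_h_rc_29_3 lc_h_rc_41_2 lc_h_rc_47_1 lc_h_rc_22_1 lc_h_rc_22_1 lc_h_rc_35_1 lc_h_Cert_tree lc_h_rc_42_1 lc_h_Cert_tree lc_h_rc_40_0 lc_h_rc_47_1 lc_h_Cert_tree lc_h_rc_40_0 lc_h_rc_5_3 lc_h_Cert_tree lc_h_rc_47_1 lc_h_rc_40_0 lc_h_rc_29_3 lc_h_rc_41_2 lc_h_Cert_tree lc_h_rc_40_0 lc_h_rc_40_0 lc_h_rc_47_1 lc_h_rc_22_1 lc_h_rc_22_1 lc_h_rc_35_1 lc_h_Cert_tree lc_h_rc_29_3 lc_h_rc_22_1 lc_h_rc_35_1 lc_h_Cert_tree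 lc_h_Cert_tree lc_h_rc_40_0 lc_h_rc_51_1 lc_h_rc_40_0 lc_h_rc_47_1 lc_h_rc_14_1 lc_h_rc_51_1 lc_h_rc_14_1 lc_h_rc_5_1 lc_h_rc_29_3) (@D3.rec (fun _ => (Cert rels S Gen.h)) lc_h_rc_42_1 lc_h_Cert_tree lc_h_rc_40_0 lc_h_rc_42_1 lc_h_rc_29_3 lc_h_rc_47_1 lc_h_rc_41_4 lc_h_rc_41_0 lc_h_Cert_tree lc_h_rc_40_0 lc_h_rc_47_1 lc_h_Cert_tree lc_h_rc_47_1 lc_h_rc_40_0 lc_h_rc_5_3 lc_h_rc_35_1 lc_h_rc_22_1 lc_h_rc_14_1 lc_h_Cert_tree lc_h_Cert_tree lc_h_rc_40_0 lc_h_rc_42_1 lc_h_rc_51_1 lc_h_rc_5_3 lc_h_rc_40_0 lc_h_rc_47_1 lc_h_rc_40_0 lc_h_rc_5_3 lc_h_Cert_tree lc_h_rc_5_1 lc_h_Cert_tree lc_h_rc_40_0 lc_h_rc_5_1 lc_h_Cert_tree lc_h_rc_40_0 lc_h_rc_51_3 lc_h_rc_40_0 lc_h_rc_40_0 lc_h_Cert_tree lc_h_rc_40_0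 lc_h_rc_40_0 lc_h_rc_47_1 lc_h_rc_41_2 lc_h_rc_35_1 lc_h_Cert_tree lc_h_rc_47_3 lc_h_rc_40_0 lc_h_rc_42_1 lc_h_rc_22_1 lc_h_rc_51_1 lc_h_rc_22_1) (@D3.rec (fun _ => (Cert rels S Gen.h)) lc_h_rc_47_1 lc_h_rc_47_1 lc_h_Cert_tree lc_h_rc_22_3 lc_h_rc_22_1 lc_h_Cert_tree lc_h_rc_42_1 lc_h_Cert_tree lc_h_rc_40_0 lc_h_rc_42_1 lc_h_Cert_tree lc_h_rc_40_0 lc_h_rc_47_1 lc_h_Cert_tree lc_h_rc_40_0 lc_h_rc_51_1 lc_h_Cert_tree lc_h_rc_40_0 lc_h_rc_14_1 lc_h_rc_47_1 lc_h_rc_42_1 lc_h_rc_14_1 lc_h_rc_41_2 lc_h_rc_41_2 lc_h_Cert_tree lc_h_Cert_tree lc_h_rc_40_0 lc_h_rc_40_0 lc_h_rc_47_1 lc_h_rc_41_2 lc_h_rc_22_1 lc_h_rc_35_1 lc_h_Cert_tree lc_h_Cert_tree lc_h_rc_40_0 lc_h_rc_42_1 lc_h_rc_22_1 lc_h_rc_51_1 lc_h_rc_22_1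 lc_h_rc_22_1 lc_h_rc_47_1 lc_h_Cert_tree lc_h_rc_35_1 lc_h_rc_41_0 lc_h_Cert_tree lc_h_Cert_tree lc_h_rc_40_0 lc_h_rc_35_1 lc_h_Cert_tree lc_h_rc_42_1 lc_h_Cert_tree) (@D3.rec (fun _ => (Cert rels S Gen.h)) lc_h_rc_40_0 lc_h_rc_40_0 lc_h_rc_40_0 lc_h_rc_14_1 lc_h_rc_14_1 lc_h_rc_22_1 lc_h_rc_35_1 lc_h_Cert_tree lc_h_rc_22_1 lc_h_Cert_tree lc_h_rc_14_1 lc_h_Cert_tree lc_h_rc_40_0 lc_h_rc_5_1 lc_h_Cert_tree lc_h_rc_40_0 lc_h_rc_47_1 lc_h_rc_22_1 lc_h_Cert_tree lc_h_rc_14_1 lc_h_rc_35_1 lc_h_Cert_tree lc_h_Cert_tree lc_h_rc_40_0 lc_h_Cert_tree lc_h_rc_40_0 lc_h_Cert_tree lc_h_rc_40_0 lc_h_Cert_tree lc_h_rc_40_0 lc_h_rc_29_3 lc_h_Cert_tree lc_h_Cert_tree lc_h_rc_40_0 lc_h_rc_29_3 lc_h_rc_5_1 lc_h_Cert_tree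 lc_h_rc_40_0 lc_h_rc_40_0 lc_h_rc_47_1 lc_h_rc_47_1 lc_h_rc_5_3 lc_h_rc_14_3 lc_h_Cert_tree lc_h_rc_51_1 lc_h_rc_14_1 lc_h_Cert_tree lc_h_Cert_tree lc_h_Cert_tree lc_h_rc_40_0 lc_h_rc_40_0) (@D3.rec (fun _ => (Cert rels S Gen.h)) lc_h_Cert_tree lc_h_Cert_tree lc_h_rc_40_0 lc_h_rc_40_0 lc_h_rc_47_1 lc_h_rc_29_5 lc_h_rc_22_1 lc_h_rc_35_1 lc_h_Cert_tree lc_h_Cert_tree lc_h_rc_40_0 lc_h_rc_42_1 lc_h_rc_40_0 lc_h_rc_51_1 lc_h_rc_51_1 lc_h_rc_22_1 lc_h_rc_47_1 lc_h_Cert_tree lc_h_Cert_tree lc_h_rc_41_0 lc_h_Cert_tree lc_h_rc_40_0 lc_h_rc_5_1 lc_h_Cert_tree lc_h_rc_40_0 lc_h_rc_5_1 lc_h_Cert_tree lc_h_rc_40_0 lc_h_rc_5_1 lc_h_Cert_tree lc_h_rc_40_0 lc_h_rc_40_0 lc_h_rc_40_0 lc_h_rc_5_1 lc_h_Cert_tree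 lc_h_Cert_tree lc_h_rc_40_0 lc_h_rc_40_0 lc_h_Cert_tree lc_h_rc_40_0 lc_h_Cert_tree lc_h_rc_40_0 lc_h_rc_42_1 lc_h_rc_41_2 lc_h_rc_51_1 lc_h_rc_41_2 lc_h_rc_22_1 lc_h_rc_47_1 lc_h_Cert_tree lc_h_rc_14_1 lc_h_rc_22_1) (@D3.rec (fun _ => (Cert rels S Gen.h)) lc_h_Cert_tree lc_h_rc_42_1 lc_h_Cert_tree lc_h_rc_40_0 lc_h_rc_40_0 lc_h_rc_42_1 lc_h_rc_22_1 lc_h_rc_42_1 lc_h_rc_35_1 lc_h_Cert_tree lc_h_rc_22_1 lc_h_rc_51_1 lc_h_Cert_tree lc_h_rc_14_1 lc_h_rc_22_1 lc_h_Cert_tree lc_h_rc_42_1 lc_h_Cert_tree lc_h_rc_40_0 lc_h_rc_42_3 lc_h_rc_42_1 lc_h_Cert_tree lc_h_rc_22_1 lc_h_Cert_tree lc_h_rc_40_0 lc_h_rc_47_1 lc_h_Cert_tree lc_h_rc_40_0 lc_h_rc_42_1 lc_h_Cert_tree lc_h_rc_40_0 lc_h_rc_47_1 lc_h_Cert_tree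 lc_h_rc_40_0 lc_h_rc_51_1 lc_h_Cert_tree lc_h_rc_40_0 lc_h_rc_29_3 lc_h_Cert_tree lc_h_rc_40_0 lc_h_rc_14_1 lc_h_rc_22_1 lc_h_Cert_tree lc_h_rc_14_1 lc_h_rc_35_1 lc_h_Cert_tree lc_h_Cert_tree lc_h_rc_40_0 lc_h_rc_14_1 lc_h_Cert_tree lc_h_rc_40_0) (@D3.rec (fun _ => (Cert rels S Gen.h)) lc_h_rc_47_1 lc_h_Cert_tree lc_h_rc_40_0 lc_h_Cert_tree lc_h_rc_40_0 lc_h_rc_29_3 lc_h_rc_14_1 lc_h_Cert_tree lc_h_rc_40_0 lc_h_rc_5_1 lc_h_rc_14_1 lc_h_Cert_tree lc_h_Cert_tree lc_h_rc_40_0 lc_h_rc_40_0 lc_h_rc_5_1 lc_h_Cert_tree lc_h_rc_40_0 lc_h_Cert_tree lc_h_rc_40_0 lc_h_rc_29_3 lc_h_rc_40_0 lc_h_rc_14_1 lc_h_rc_35_1 lc_h_rc_14_1 lc_h_rc_29_3 lc_h_rc_22_1 lc_h_Cert_tree lc_h_rc_35_1 lc_h_rc_5_1 lc_h_rc_5_1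 lc_h_rc_35_1 lc_h_Cert_tree lc_h_Cert_tree lc_h_rc_40_0 lc_h_rc_22_1 lc_h_Cert_tree lc_h_rc_41_2 lc_h_rc_35_1 lc_h_rc_41_2 lc_h_Cert_tree lc_h_rc_14_1 lc_h_Cert_tree lc_h_rc_40_0 lc_h_Cert_tree lc_h_rc_40_0 lc_h_Cert_tree lc_h_rc_40_0 lc_h_rc_14_1 lc_h_Cert_tree lc_h_rc_40_0) (@D3.rec (fun _ => (Cert rels S Gen.h)) lc_h_Cert_tree lc_h_Cert_tree lc_h_rc_40_0 lc_h_rc_29_3 lc_h_rc_5_1 lc_h_rc_40_0 lc_h_rc_5_1 lc_h_rc_35_1 lc_h_Cert_tree lc_h_rc_40_0 lc_h_Cert_tree lc_h_rc_40_0 lc_h_rc_40_0 lc_h_rc_5_1 lc_h_rc_5_1 lc_h_Cert_tree lc_h_rc_5_1 lc_h_rc_51_3 lc_h_rc_40_0 lc_h_rc_29_3 lc_h_rc_41_2 lc_h_Cert_tree lc_h_rc_40_0 lc_h_rc_40_0 lc_h_rc_47_1 lc_h_rc_22_1 lc_h_rc_22_1 lc_h_rc_35_1 lc_h_Cert_tree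 lc_h_rc_29_3 lc_h_rc_22_1 lc_h_Cert_tree lc_h_rc_42_1 lc_h_Cert_tree lc_h_rc_40_0 lc_h_Cert_tree lc_h_rc_40_0 lc_h_rc_51_1 lc_h_rc_40_0 lc_h_rc_14_1 lc_h_rc_14_1 lc_h_rc_14_1 lc_h_Cert_tree lc_h_rc_14_1 lc_h_Cert_tree lc_h_rc_40_0 lc_h_rc_14_3 lc_h_rc_40_0 lc_h_rc_5_1 lc_h_Cert_tree lc_h_rc_40_0) (@D3.rec (fun _ => (Cert rels S Gen.h)) lc_h_rc_40_0 lc_h_rc_5_1 lc_h_rc_40_0 lc_h_rc_29_3 lc_h_rc_14_1 lc_h_rc_14_1 lc_h_Cert_tree lc_h_rc_40_0 lc_h_rc_29_3 lc_h_rc_5_1 lc_h_rc_41_0 lc_h_rc_40_0 lc_h_rc_40_0 lc_h_rc_47_1 lc_h_rc_5_1 lc_h_rc_22_1 lc_h_rc_35_1 lc_h_Cert_tree lc_h_rc_5_1 lc_h_rc_35_1 lc_h_Cert_tree lc_h_Cert_tree lc_h_rc_40_0 lc_h_rc_47_1 lc_h_rc_5_1 lc_h_rc_5_1 lc_h_rc_22_1 lc_h_Cert_tree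 lc_h_rc_14_1 lc_h_Cert_tree lc_h_rc_40_0 lc_h_Cert_tree lc_h_rc_40_0 lc_h_rc_40_0 lc_h_rc_47_1 lc_h_rc_41_2 lc_h_rc_22_1 lc_h_rc_35_1 lc_h_Cert_tree lc_h_rc_47_1 lc_h_rc_42_1 lc_h_rc_22_1 lc_h_rc_51_1 lc_h_rc_22_1 lc_h_rc_22_1 lc_h_rc_47_1 lc_h_Cert_tree lc_h_rc_14_1 lc_h_rc_22_1 lc_h_Cert_tree lc_h_rc_42_1) (@D3.rec (fun _ => (Cert rels S Gen.h)) lc_h_Cert_tree lc_h_rc_40_0 lc_h_Cert_tree lc_h_rc_40_0 lc_h_rc_47_1 lc_h_Cert_tree lc_h_rc_40_0 lc_h_rc_51_1 lc_h_rc_29_3 lc_h_rc_40_0 lc_h_Cert_tree lc_h_rc_40_0 lc_h_rc_5_1 lc_h_Cert_tree lc_h_rc_40_0 lc_h_Cert_tree lc_h_rc_40_0 lc_h_Cert_tree lc_h_rc_29_3 lc_h_rc_22_1 lc_h_Cert_tree lc_h_rc_40_0 lc_h_rc_35_1 lc_h_rc_5_1 lc_h_Cert_tree lc_h_rc_5_1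 lc_h_rc_35_1 lc_h_Cert_tree lc_h_rc_42_1 lc_h_Cert_tree lc_h_rc_40_0 lc_h_Cert_tree lc_h_rc_40_0 lc_h_rc_14_1 lc_h_rc_42_1 lc_h_rc_22_1 lc_h_Cert_tree lc_h_rc_14_1 lc_h_Cert_tree lc_h_rc_40_0 lc_h_rc_42_1 lc_h_rc_42_1 lc_h_rc_22_1 lc_h_rc_35_1 lc_h_Cert_tree lc_h_rc_22_1 lc_h_Cert_tree lc_h_rc_14_1 lc_h_Cert_tree lc_h_rc_40_0 lc_h_rc_5_1) (@D3.rec (fun _ => (Cert rels S Gen.h)) lc_h_Cert_tree lc_h_rc_40_0 lc_h_Cert_tree lc_h_rc_40_0 lc_h_Cert_tree lc_h_Cert_tree lc_h_rc_40_0 lc_h_rc_14_3 lc_h_rc_14_1 lc_h_rc_40_0 lc_h_rc_14_1 lc_h_Cert_tree lc_h_Cert_tree lc_h_rc_40_0 lc_h_rc_29_3 lc_h_rc_5_1 lc_h_Cert_tree lc_h_rc_40_0 lc_h_rc_40_0 lc_h_rc_47_1 lc_h_rc_5_1 lc_h_rc_22_1 lc_h_rc_35_1 lc_h_Cert_tree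 lc_h_rc_5_1 lc_h_rc_35_1 lc_h_Cert_tree lc_h_Cert_tree lc_h_rc_40_0 lc_h_Cert_tree lc_h_rc_40_0 lc_h_rc_29_3 lc_h_rc_5_1 lc_h_rc_5_1 lc_h_rc_5_1 lc_h_Cert_tree lc_h_rc_14_1 lc_h_Cert_tree lc_h_rc_40_0 lc_h_Cert_tree lc_h_Cert_tree lc_h_rc_40_0 lc_h_rc_40_0 lc_h_rc_47_1 lc_h_rc_41_2 lc_h_rc_22_1 lc_h_rc_35_1 lc_h_Cert_tree lc_h_Cert_tree lc_h_rc_40_0 lc_h_rc_42_1) (@D3.rec (fun _ => (Cert rels S Gen.h)) lc_h_rc_22_1 lc_h_rc_51_1 lc_h_rc_22_1 lc_h_rc_22_1 lc_h_rc_47_1 lc_h_Cert_tree lc_h_rc_14_1 lc_h_rc_22_1 lc_h_Cert_tree lc_h_rc_42_1 lc_h_Cert_tree lc_h_rc_40_0 lc_h_Cert_tree lc_h_rc_42_1 lc_h_Cert_tree lc_h_rc_40_0 lc_h_rc_47_1 lc_h_Cert_tree lc_h_rc_40_0 lc_h_Cert_tree lc_h_rc_40_0 lc_h_rc_40_0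 lc_h_rc_14_1 lc_h_rc_14_1 lc_h_rc_22_1 lc_h_rc_35_1 lc_h_Cert_tree lc_h_Cert_tree lc_h_rc_14_1 lc_h_Cert_tree lc_h_rc_40_0 lc_h_rc_5_1 lc_h_Cert_tree lc_h_rc_40_0 lc_h_rc_47_1 lc_h_rc_35_1 lc_h_Cert_tree lc_h_rc_14_1 lc_h_rc_35_1 lc_h_Cert_tree lc_h_Cert_tree lc_h_rc_40_0 lc_h_rc_14_1 lc_h_rc_14_3 lc_h_rc_40_0 lc_h_rc_5_1 lc_h_Cert_tree lc_h_rc_40_0 lc_h_Cert_tree lc_h_rc_40_0 lc_h_rc_14_3) (@D3.rec (fun _ => (Cert rels S Gen.h)) lc_h_rc_47_1 lc_h_Cert_tree lc_h_Cert_tree lc_h_rc_40_0 lc_h_rc_29_3 lc_h_rc_14_1 lc_h_Cert_tree lc_h_rc_40_0 lc_h_rc_40_0 lc_h_rc_47_1 lc_h_rc_14_1 lc_h_rc_22_1 lc_h_Cert_tree lc_h_rc_14_1 lc_h_Cert_tree lc_h_Cert_tree lc_h_rc_40_0 lc_h_rc_40_0 lc_h_rc_47_1 lc_h_rc_5_1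 lc_h_rc_22_1 lc_h_rc_35_1 lc_h_Cert_tree lc_h_Cert_tree lc_h_rc_40_0 lc_h_rc_42_1 lc_h_rc_5_1 lc_h_rc_51_1 lc_h_rc_5_1 lc_h_rc_22_1 lc_h_rc_47_1 lc_h_Cert_tree lc_h_rc_14_1 lc_h_rc_22_1 lc_h_Cert_tree lc_h_Cert_tree lc_h_rc_40_0 lc_h_rc_35_1 lc_h_Cert_tree lc_h_rc_42_1 lc_h_Cert_tree lc_h_rc_40_0 lc_h_rc_40_0 lc_h_rc_40_0 lc_h_rc_5_1 lc_h_rc_5_1 lc_h_rc_22_1 lc_h_rc_5_1 lc_h_Cert_tree lc_h_rc_22_1 lc_h_Cert_tree) (@D3.rec (fun _ => (Cert rels S Gen.h)) lc_h_rc_14_1 lc_h_Cert_tree lc_h_rc_40_0 lc_h_rc_5_1 lc_h_Cert_tree lc_h_rc_40_0 lc_h_Cert_tree lc_h_rc_40_0 lc_h_Cert_tree lc_h_rc_40_0 lc_h_rc_42_1 lc_h_rc_41_2 lc_h_rc_51_1 lc_h_rc_41_2 lc_h_rc_22_1 lc_h_rc_47_1 lc_h_Cert_tree lc_h_rc_14_1 lc_h_rc_22_1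 lc_h_Cert_tree lc_h_rc_42_1 lc_h_Cert_tree lc_h_rc_40_0 lc_h_rc_40_0 lc_h_rc_42_1 lc_h_rc_22_1 lc_h_rc_42_1 lc_h_rc_35_1 lc_h_Cert_tree lc_h_rc_22_1 lc_h_rc_51_1 lc_h_Cert_tree lc_h_rc_14_1 lc_h_rc_22_1 lc_h_Cert_tree lc_h_rc_42_1 lc_h_Cert_tree lc_h_rc_40_0 lc_h_rc_22_1 lc_h_rc_29_1 lc_h_Cert_tree lc_h_rc_14_1 lc_h_Cert_tree lc_h_rc_40_0 lc_h_rc_47_1 lc_h_Cert_tree lc_h_rc_40_0 lc_h_rc_42_1 lc_h_Cert_tree lc_h_rc_40_0 lc_h_rc_47_1) (@D3.rec (fun _ => (Cert rels S Gen.h)) lc_h_Cert_tree lc_h_rc_40_0 lc_h_rc_51_1 lc_h_Cert_tree lc_h_rc_40_0 lc_h_rc_29_3 lc_h_rc_29_3 lc_h_rc_40_0 lc_h_rc_14_1 lc_h_rc_22_1 lc_h_rc_51_1 lc_h_Cert_tree lc_h_rc_14_1 lc_h_rc_22_1 lc_h_Cert_tree lc_h_Cert_tree lc_h_rc_40_0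 lc_h_Cert_tree lc_h_rc_40_0 lc_h_rc_5_1 lc_h_Cert_tree lc_h_rc_40_0 lc_h_Cert_tree lc_h_rc_40_0 lc_h_rc_29_3 lc_h_Cert_tree lc_h_rc_40_0 lc_h_rc_5_1 lc_h_rc_14_1 lc_h_Cert_tree lc_h_Cert_tree lc_h_rc_40_0 lc_h_rc_40_0 lc_h_Cert_tree lc_h_rc_40_0 lc_h_rc_40_0 lc_h_rc_5_1 lc_h_rc_14_3 lc_h_rc_40_0 lc_h_rc_35_1 lc_h_Cert_tree lc_h_rc_5_3 lc_h_rc_40_0 lc_h_rc_41_2 lc_h_Cert_tree lc_h_rc_42_1 lc_h_Cert_tree lc_h_rc_40_0 lc_h_rc_47_1 lc_h_Cert_tree lc_h_rc_40_0) (@D3.rec (fun _ => (Cert rels S Gen.h)) lc_h_Cert_tree lc_h_rc_40_0 lc_h_rc_29_3 lc_h_rc_41_2 lc_h_Cert_tree lc_h_rc_40_0 lc_h_rc_40_0 lc_h_rc_14_1 lc_h_rc_14_1 lc_h_rc_22_1 lc_h_Cert_tree lc_h_rc_14_1 lc_h_Cert_tree lc_h_rc_40_0 lc_h_rc_41_0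 lc_h_rc_5_1 lc_h_rc_41_0 lc_h_rc_5_1 lc_h_rc_41_0 lc_h_Cert_tree lc_h_Cert_tree lc_h_rc_40_0 lc_h_rc_35_1 lc_h_Cert_tree lc_h_rc_42_1 lc_h_Cert_tree lc_h_rc_40_0 lc_h_rc_40_0 lc_h_rc_40_0 lc_h_rc_5_1 lc_h_Cert_tree lc_h_rc_40_0 lc_h_Cert_tree lc_h_rc_40_0 lc_h_rc_42_1 lc_h_rc_41_2 lc_h_rc_51_1 lc_h_rc_41_2 lc_h_rc_47_1 lc_h_Cert_tree lc_h_Cert_tree lc_h_rc_40_0 lc_h_rc_40_0 lc_h_rc_42_1 lc_h_rc_22_1 lc_h_rc_41_0 lc_h_rc_35_1 lc_h_Cert_tree lc_h_rc_41_0 lc_h_rc_51_1 lc_h_Cert_tree) (@D3.rec (fun _ => (Cert rels S Gen.h)) lc_h_rc_41_0 lc_h_rc_41_0 lc_h_Cert_tree lc_h_rc_42_1 lc_h_Cert_tree lc_h_rc_40_0 lc_h_Cert_tree lc_h_Cert_tree lc_h_rc_40_0 lc_h_rc_41_0 lc_h_Cert_tree lc_h_rc_40_0 lc_h_rc_42_1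 lc_h_Cert_tree lc_h_rc_40_0 lc_h_rc_47_1 lc_h_Cert_tree lc_h_rc_40_0 lc_h_rc_51_1 lc_h_Cert_tree lc_h_rc_40_0 lc_h_rc_29_3 lc_h_Cert_tree lc_h_rc_40_0 lc_h_rc_14_1 lc_h_rc_14_1 lc_h_rc_22_1 lc_h_rc_35_1 lc_h_rc_5_1 lc_h_rc_14_1 lc_h_rc_35_1 lc_h_rc_5_1 lc_h_rc_5_1 lc_h_rc_5_1 lc_h_rc_14_1 lc_h_rc_41_2 lc_h_rc_41_2 lc_h_rc_41_2 lc_h_rc_40_0 lc_h_rc_41_4 lc_h_rc_40_0 lc_h_rc_29_3 lc_h_rc_47_1 lc_h_Cert_tree lc_h_rc_40_0 lc_h_rc_40_0 lc_h_rc_47_1 lc_h_rc_14_1 lc_h_Cert_tree lc_h_Cert_tree lc_h_rc_40_0) (@D3.rec (fun _ => (Cert rels S Gen.h)) lc_h_rc_42_1 lc_h_rc_14_1 lc_h_rc_51_1 lc_h_rc_14_1 lc_h_rc_14_1 lc_h_Cert_tree lc_h_Cert_tree lc_h_rc_40_0 lc_h_Cert_tree lc_h_rc_40_0 lc_h_Cert_tree lc_h_rc_40_0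 lc_h_rc_42_1 lc_h_rc_5_1 lc_h_rc_51_1 lc_h_rc_5_1 lc_h_rc_47_1 lc_h_Cert_tree lc_h_Cert_tree lc_h_rc_40_0 lc_h_rc_40_0 lc_h_rc_42_1 lc_h_rc_5_1 lc_h_rc_41_0 lc_h_rc_35_1 lc_h_Cert_tree lc_h_rc_41_0 lc_h_rc_51_1 lc_h_Cert_tree lc_h_rc_5_1 lc_h_rc_14_1 lc_h_Cert_tree lc_h_rc_42_1 lc_h_Cert_tree lc_h_rc_40_0 lc_h_Cert_tree lc_h_Cert_tree lc_h_rc_40_0 lc_h_rc_40_0 lc_h_rc_42_1 lc_h_Cert_tree lc_h_rc_40_0 lc_h_Cert_tree lc_h_rc_40_0 lc_h_rc_29_3 lc_h_rc_5_1 lc_h_rc_5_1 lc_h_rc_5_1 lc_h_rc_5_1 lc_h_rc_51_1 lc_h_rc_14_1) (@D3.rec (fun _ => (Cert rels S Gen.h)) lc_h_rc_5_1 lc_h_rc_41_2 lc_h_rc_5_3 lc_h_rc_41_2 lc_h_rc_5_1 lc_h_rc_5_3 lc_h_rc_29_5 lc_h_Cert_tree lc_h_rc_40_0 lc_h_rc_29_3 lc_h_rc_41_2 lc_h_rc_40_0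 lc_h_rc_42_1 lc_h_rc_41_2 lc_h_rc_42_1 lc_h_rc_35_1 lc_h_Cert_tree lc_h_rc_22_1 lc_h_rc_51_1 lc_h_Cert_tree lc_h_rc_14_1 lc_h_rc_22_1 lc_h_Cert_tree lc_h_rc_42_1 lc_h_Cert_tree lc_h_rc_40_0 lc_h_Cert_tree lc_h_rc_22_1 lc_h_Cert_tree lc_h_rc_40_0 lc_h_rc_47_1 lc_h_Cert_tree lc_h_rc_40_0 lc_h_rc_47_1 lc_h_rc_22_1 lc_h_rc_42_1 lc_h_rc_35_1 lc_h_Cert_tree lc_h_rc_14_1 lc_h_rc_35_1 lc_h_Cert_tree lc_h_rc_35_1 lc_h_Cert_tree lc_h_rc_40_0 lc_h_rc_14_1 lc_h_rc_22_1 lc_h_Cert_tree lc_h_rc_42_1 lc_h_Cert_tree lc_h_rc_40_0 lc_h_rc_47_1) (@D3.rec (fun _ => (Cert rels S Gen.h)) lc_h_rc_47_1 lc_h_Cert_tree lc_h_rc_42_1 lc_h_Cert_tree lc_h_rc_40_0 lc_h_rc_42_1 lc_h_Cert_tree lc_h_rc_40_0 lc_h_Cert_tree lc_h_rc_14_1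 lc_h_Cert_tree lc_h_rc_40_0 lc_h_rc_22_1 lc_h_Cert_tree lc_h_rc_40_0 lc_h_rc_29_3 lc_h_rc_51_1 lc_h_Cert_tree lc_h_rc_40_0 lc_h_rc_29_3 lc_h_rc_47_1 lc_h_Cert_tree lc_h_rc_40_0 lc_h_rc_51_1 lc_h_Cert_tree lc_h_rc_40_0 lc_h_rc_29_3 lc_h_Cert_tree lc_h_rc_40_0 lc_h_rc_29_3 lc_h_rc_22_1 lc_h_rc_40_0 lc_h_rc_22_1 lc_h_rc_35_1 lc_h_Cert_tree lc_h_rc_14_1 lc_h_rc_35_1 lc_h_Cert_tree lc_h_Cert_tree lc_h_rc_40_0 lc_h_rc_5_1 lc_h_rc_14_1 lc_h_Cert_tree lc_h_Cert_tree lc_h_Cert_tree lc_h_rc_40_0 lc_h_rc_40_0 lc_h_rc_5_1 lc_h_Cert_tree lc_h_rc_40_0 lc_h_Cert_tree) (@D3.rec (fun _ => (Cert rels S Gen.h)) lc_h_rc_40_0 lc_h_rc_29_3 lc_h_rc_40_0 lc_h_rc_14_1 lc_h_rc_35_1 lc_h_rc_41_2 lc_h_rc_51_1 lc_h_rc_51_1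 lc_h_rc_40_0 lc_h_rc_5_1 lc_h_rc_22_3 lc_h_rc_22_3 lc_h_rc_29_3 lc_h_Cert_tree lc_h_rc_22_1 lc_h_rc_29_1 lc_h_rc_40_0 lc_h_rc_14_3 lc_h_rc_29_3 lc_h_rc_29_3 lc_h_Cert_tree lc_h_rc_40_0 lc_h_rc_29_3 lc_h_rc_40_0 lc_h_rc_14_1 lc_h_rc_35_1 lc_h_Cert_tree lc_h_rc_40_0 lc_h_rc_29_3 lc_h_rc_41_2 lc_h_rc_40_0 lc_h_rc_41_2 lc_h_rc_40_0 lc_h_rc_29_3 lc_h_rc_5_1 lc_h_rc_5_1 lc_h_rc_5_1 lc_h_rc_5_1 lc_h_rc_5_1 lc_h_rc_5_1 lc_h_rc_14_1 lc_h_Cert_tree lc_h_rc_40_0 lc_h_rc_29_3 lc_h_rc_41_2 lc_h_rc_22_1 lc_h_rc_29_3 lc_h_Cert_tree lc_h_rc_41_2 lc_h_rc_42_1 lc_h_rc_51_1) (@D3.rec (fun _ => (Cert rels S Gen.h)) lc_h_rc_14_1 lc_h_rc_35_1 lc_h_rc_41_2 lc_h_rc_22_3 lc_h_rc_14_1 lc_h_rc_41_2 lc_h_rc_5_1 lc_h_rc_5_3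 lc_h_rc_42_1 lc_h_rc_29_3 lc_h_rc_14_1 lc_h_rc_5_1 lc_h_rc_35_1 lc_h_Cert_tree lc_h_rc_14_1 lc_h_rc_35_1 lc_h_rc_51_1 lc_h_rc_5_1 lc_h_Cert_tree lc_h_rc_40_0 lc_h_Cert_tree lc_h_rc_40_0 lc_h_rc_40_0 lc_h_Cert_tree lc_h_rc_40_0 lc_h_rc_41_0 lc_h_rc_29_3 lc_h_Cert_tree lc_h_rc_40_0 lc_h_rc_14_3 lc_h_rc_40_0 lc_h_rc_5_3 lc_h_rc_41_0 lc_h_rc_40_0 lc_h_rc_14_1 lc_h_rc_40_0 lc_h_rc_14_1 lc_h_rc_29_3 lc_h_rc_29_3 lc_h_rc_41_2 lc_h_Cert_tree lc_h_rc_40_0 lc_h_rc_35_1 lc_h_rc_47_1 lc_h_Cert_tree lc_h_rc_40_0 lc_h_rc_5_1 lc_h_rc_29_3 lc_h_Cert_tree lc_h_rc_5_1 lc_h_rc_14_3) (@D3.rec (fun _ => (Cert rels S Gen.h)) lc_h_rc_47_1 lc_h_Cert_tree lc_h_rc_5_1 lc_h_rc_35_1 lc_h_Cert_tree lc_h_rc_14_1 lc_h_Cert_tree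 lc_h_rc_40_0 lc_h_rc_35_1 lc_h_rc_41_2 lc_h_rc_41_2 lc_h_rc_47_1 lc_h_rc_41_2 lc_h_rc_51_3 lc_h_rc_51_3 lc_h_rc_40_0 lc_h_rc_47_1 lc_h_rc_41_2 lc_h_rc_22_1 lc_h_Cert_tree lc_h_rc_42_1 lc_h_rc_22_1 lc_h_Cert_tree lc_h_Cert_tree lc_h_rc_40_0 lc_h_rc_40_0 lc_h_rc_40_0 lc_h_rc_51_1 lc_h_rc_35_1 lc_h_Cert_tree lc_h_rc_41_0 lc_h_rc_40_0 lc_h_rc_51_1 lc_h_Cert_tree lc_h_Cert_tree lc_h_rc_40_0 lc_h_rc_47_1 lc_h_rc_40_0 lc_h_rc_40_0 lc_h_rc_5_1 lc_h_rc_40_0 lc_h_rc_5_3 lc_h_rc_29_3 lc_h_rc_40_0 lc_h_rc_42_1 lc_h_rc_41_2 lc_h_Cert_tree lc_h_rc_42_1 lc_h_Cert_tree lc_h_rc_40_0 lc_h_rc_40_0) (@D3.rec (fun _ => (Cert rels S Gen.h)) lc_h_rc_51_1 lc_h_rc_22_1 lc_h_rc_41_0 lc_h_rc_35_1 lc_h_Cert_tree lc_h_rc_51_1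 lc_h_Cert_tree lc_h_rc_47_1 lc_h_rc_51_1 lc_h_Cert_tree lc_h_rc_51_1 lc_h_Cert_tree lc_h_rc_40_0 lc_h_rc_5_1 lc_h_Cert_tree lc_h_rc_14_1 lc_h_Cert_tree lc_h_rc_40_0 lc_h_rc_47_1 lc_h_Cert_tree lc_h_rc_40_0 lc_h_rc_47_1 lc_h_rc_35_3 lc_h_rc_51_1 lc_h_rc_35_1 lc_h_rc_51_1 lc_h_rc_41_2 lc_h_rc_51_1 lc_h_rc_29_1 lc_h_rc_47_1 lc_h_rc_22_1 lc_h_rc_22_1 lc_h_rc_35_1 lc_h_rc_51_1 lc_h_rc_41_4 lc_h_Cert_tree lc_h_rc_40_0 lc_h_rc_40_0 lc_h_rc_29_3 lc_h_rc_47_1 lc_h_rc_41_2 lc_h_rc_51_1 lc_h_rc_41_2 lc_h_Cert_tree lc_h_rc_40_0 lc_h_rc_40_0 lc_h_rc_14_1 lc_h_rc_35_1 lc_h_rc_5_1 lc_h_Cert_tree lc_h_rc_40_0) (@D3.rec (fun _ => (Cert rels S Gen.h)) lc_h_Cert_tree lc_h_rc_40_0 lc_h_rc_29_3 lc_h_rc_40_0 lc_h_rc_40_0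 lc_h_rc_42_1 lc_h_rc_41_2 lc_h_rc_51_1 lc_h_rc_41_2 lc_h_Cert_tree lc_h_rc_40_0 lc_h_rc_42_1 lc_h_rc_22_1 lc_h_rc_41_0 lc_h_rc_35_1 lc_h_Cert_tree lc_h_rc_41_0 lc_h_Cert_tree lc_h_rc_22_1 lc_h_Cert_tree lc_h_rc_40_0 lc_h_rc_35_1 lc_h_Cert_tree lc_h_rc_40_0 lc_h_rc_14_1 lc_h_Cert_tree lc_h_rc_40_0 lc_h_rc_14_1 lc_h_Cert_tree lc_h_rc_40_0 lc_h_rc_5_1 lc_h_Cert_tree lc_h_rc_40_0 lc_h_Cert_tree lc_h_rc_40_0 lc_h_rc_29_3 lc_h_rc_5_1 lc_h_Cert_tree lc_h_rc_40_0 lc_h_rc_5_1 lc_h_Cert_tree lc_h_rc_40_0 lc_h_Cert_tree lc_h_rc_40_0 lc_h_rc_29_3 lc_h_rc_40_0 lc_h_rc_14_1 lc_h_rc_35_1 lc_h_rc_40_0 lc_h_rc_41_2 lc_h_rc_40_0)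
def ce_h_11 : D2 → D3 → (Cert rels S Gen.h) := @D2.rec (fun _ => D3 → (Cert rels S Gen.h)) (@D3.rec (fun _ => (Cert rels S Gen.h)) lc_h_rc_41_0 lc_h_rc_22_1 lc_h_rc_5_3 lc_h_rc_47_1 lc_h_Cert_tree lc_h_rc_40_0 lc_h_rc_42_1 lc_h_rc_41_2 lc_h_rc_51_1 lc_h_rc_41_2 lc_h_rc_22_1 lc_h_Cert_tree lc_h_Cert_tree lc_h_rc_40_0 lc_h_rc_40_0 lc_h_rc_42_1 lc_h_rc_40_0 lc_h_rc_42_1 lc_h_rc_35_1 lc_h_Cert_tree lc_h_rc_22_1 lc_h_rc_40_0 lc_h_Cert_tree lc_h_rc_41_0 lc_h_rc_41_0 lc_h_Cert_tree lc_h_rc_41_0 lc_h_Cert_tree lc_h_rc_40_0 lc_h_Cert_tree lc_h_Cert_tree lc_h_rc_40_0 lc_h_rc_40_0 lc_h_rc_41_0 lc_h_rc_51_1 lc_h_rc_42_1 lc_h_rc_5_1 lc_h_rc_40_0 lc_h_rc_5_1 lc_h_rc_5_1 lc_h_Cert_tree lc_h_rc_14_1 lc_h_rc_5_1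 lc_h_Cert_tree lc_h_Cert_tree lc_h_rc_40_0 lc_h_rc_14_1 lc_h_Cert_tree lc_h_rc_40_0 lc_h_rc_47_1 lc_h_Cert_tree) (@D3.rec (fun _ => (Cert rels S Gen.h)) lc_h_rc_40_0 lc_h_Cert_tree lc_h_rc_40_0 lc_h_rc_29_3 lc_h_rc_29_3 lc_h_rc_41_2 lc_h_rc_40_0 lc_h_rc_42_1 lc_h_rc_41_2 lc_h_rc_42_1 lc_h_rc_35_1 lc_h_Cert_tree lc_h_rc_22_1 lc_h_Cert_tree lc_h_rc_14_1 lc_h_rc_22_1 lc_h_Cert_tree lc_h_rc_42_1 lc_h_Cert_tree lc_h_rc_40_0 lc_h_rc_14_1 lc_h_Cert_tree lc_h_Cert_tree lc_h_rc_40_0 lc_h_rc_47_1 lc_h_Cert_tree lc_h_rc_40_0 lc_h_rc_47_1 lc_h_rc_35_1 lc_h_rc_42_1 lc_h_rc_35_1 lc_h_Cert_tree lc_h_rc_14_1 lc_h_rc_35_1 lc_h_Cert_tree lc_h_rc_35_1 lc_h_Cert_tree lc_h_rc_40_0 lc_h_rc_14_1 lc_h_rc_14_3 lc_h_Cert_tree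 lc_h_rc_29_3 lc_h_Cert_tree lc_h_rc_40_0 lc_h_rc_47_1 lc_h_rc_14_1 lc_h_Cert_tree lc_h_rc_42_1 lc_h_Cert_tree lc_h_rc_40_0 lc_h_rc_42_1) (@D3.rec (fun _ => (Cert rels S Gen.h)) lc_h_Cert_tree lc_h_rc_40_0 lc_h_rc_14_1 lc_h_Cert_tree lc_h_rc_22_1 lc_h_Cert_tree lc_h_rc_40_0 lc_h_rc_47_1 lc_h_Cert_tree lc_h_rc_40_0 lc_h_rc_29_3 lc_h_rc_51_1 lc_h_Cert_tree lc_h_rc_40_0 lc_h_rc_22_3 lc_h_rc_51_1 lc_h_rc_22_3 lc_h_rc_51_1 lc_h_rc_22_1 lc_h_Cert_tree lc_h_rc_14_1 lc_h_rc_35_1 lc_h_Cert_tree lc_h_Cert_tree lc_h_rc_40_0 lc_h_rc_5_1 lc_h_rc_14_1 lc_h_Cert_tree lc_h_Cert_tree lc_h_Cert_tree lc_h_rc_40_0 lc_h_rc_40_0 lc_h_rc_51_1 lc_h_Cert_tree lc_h_rc_40_0 lc_h_Cert_tree lc_h_rc_40_0 lc_h_rc_29_3 lc_h_rc_40_0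 lc_h_rc_14_1 lc_h_rc_35_1 lc_h_rc_40_0 lc_h_Cert_tree lc_h_Cert_tree lc_h_rc_40_0 lc_h_rc_40_0 lc_h_Cert_tree lc_h_Cert_tree lc_h_rc_40_0 lc_h_rc_51_1 lc_h_rc_40_0) (@D3.rec (fun _ => (Cert rels S Gen.h)) lc_h_rc_47_1 lc_h_Cert_tree lc_h_rc_40_0 lc_h_rc_40_0 lc_h_rc_14_1 lc_h_rc_29_3 lc_h_rc_5_1 lc_h_rc_29_3 lc_h_rc_5_1 lc_h_rc_35_1 lc_h_Cert_tree lc_h_rc_14_1 lc_h_Cert_tree lc_h_rc_40_0 lc_h_rc_22_1 lc_h_Cert_tree lc_h_Cert_tree lc_h_rc_42_3 lc_h_Cert_tree lc_h_Cert_tree lc_h_rc_40_0 lc_h_rc_40_0 lc_h_rc_22_1 lc_h_Cert_tree lc_h_rc_14_1 lc_h_rc_41_2 lc_h_rc_41_2 lc_h_Cert_tree lc_h_Cert_tree lc_h_rc_40_0 lc_h_rc_40_0 lc_h_Cert_tree lc_h_rc_40_0 lc_h_rc_40_0 lc_h_rc_14_1 lc_h_Cert_tree lc_h_rc_40_0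 lc_h_rc_40_0 lc_h_rc_42_1 lc_h_rc_14_1 lc_h_Cert_tree lc_h_rc_35_1 lc_h_Cert_tree lc_h_rc_40_0 lc_h_rc_22_1 lc_h_rc_47_1 lc_h_Cert_tree lc_h_rc_47_1 lc_h_Cert_tree lc_h_rc_40_0 lc_h_rc_51_1) (@D3.rec (fun _ => (Cert rels S Gen.h)) lc_h_Cert_tree lc_h_rc_40_0 lc_h_rc_41_2 lc_h_rc_41_2 lc_h_Cert_tree lc_h_Cert_tree lc_h_rc_40_0 lc_h_Cert_tree lc_h_rc_40_0 lc_h_Cert_tree lc_h_rc_40_0 lc_h_rc_29_3 lc_h_rc_40_0 lc_h_rc_5_3 lc_h_Cert_tree lc_h_rc_40_0 lc_h_rc_40_0 lc_h_rc_40_0 lc_h_rc_47_1 lc_h_rc_5_1 lc_h_Cert_tree lc_h_rc_40_0 lc_h_rc_42_1 lc_h_rc_5_1 lc_h_rc_51_1 lc_h_rc_5_1 lc_h_rc_47_1 lc_h_Cert_tree lc_h_Cert_tree lc_h_rc_40_0 lc_h_rc_5_1 lc_h_rc_5_1 lc_h_Cert_tree lc_h_rc_14_1 lc_h_Cert_tree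 lc_h_rc_40_0 lc_h_rc_5_1 lc_h_Cert_tree lc_h_rc_40_0 lc_h_rc_42_1 lc_h_rc_41_2 lc_h_rc_22_1 lc_h_Cert_tree lc_h_rc_14_1 lc_h_Cert_tree lc_h_Cert_tree lc_h_rc_40_0 lc_h_rc_42_1 lc_h_rc_22_1 lc_h_rc_42_1 lc_h_rc_35_1) (@D3.rec (fun _ => (Cert rels S Gen.h)) lc_h_Cert_tree lc_h_Cert_tree lc_h_rc_47_1 lc_h_Cert_tree lc_h_rc_41_0 lc_h_Cert_tree lc_h_rc_40_0 lc_h_rc_14_1 lc_h_rc_14_1 lc_h_Cert_tree lc_h_Cert_tree lc_h_rc_40_0 lc_h_rc_40_0 lc_h_rc_42_1 lc_h_rc_35_1 lc_h_Cert_tree lc_h_Cert_tree lc_h_rc_40_0 lc_h_rc_40_0 lc_h_Cert_tree lc_h_rc_40_0 lc_h_rc_29_3 lc_h_rc_40_0 lc_h_rc_40_0 lc_h_rc_5_1 lc_h_rc_14_1 lc_h_rc_42_1 lc_h_rc_5_1 lc_h_rc_22_1 lc_h_Cert_tree lc_h_rc_14_1 lc_h_Cert_tree lc_h_rc_40_0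 lc_h_rc_40_0 lc_h_rc_51_1 lc_h_rc_5_1 lc_h_rc_42_1 lc_h_rc_35_1 lc_h_Cert_tree lc_h_Cert_tree lc_h_Cert_tree lc_h_rc_40_0 lc_h_rc_22_1 lc_h_Cert_tree lc_h_rc_40_0 lc_h_rc_5_1 lc_h_rc_41_2 lc_h_Cert_tree lc_h_Cert_tree lc_h_Cert_tree lc_h_rc_40_0) (@D3.rec (fun _ => (Cert rels S Gen.h)) lc_h_rc_40_0 lc_h_rc_40_0 lc_h_Cert_tree lc_h_rc_40_0 lc_h_rc_29_3 lc_h_rc_42_1 lc_h_rc_35_1 lc_h_Cert_tree lc_h_rc_14_1 lc_h_Cert_tree lc_h_rc_40_0 lc_h_rc_14_1 lc_h_Cert_tree lc_h_rc_22_1 lc_h_Cert_tree lc_h_rc_40_0 lc_h_rc_47_1 lc_h_rc_40_0 lc_h_rc_51_3 lc_h_rc_41_2 lc_h_rc_22_1 lc_h_rc_35_1 lc_h_Cert_tree lc_h_rc_14_1 lc_h_rc_35_1 lc_h_Cert_tree lc_h_rc_22_3 lc_h_Cert_tree lc_h_rc_40_0 lc_h_rc_51_1 lc_h_Cert_tree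 lc_h_rc_40_0 lc_h_rc_47_1 lc_h_rc_51_1 lc_h_Cert_tree lc_h_rc_5_3 lc_h_Cert_tree lc_h_rc_40_0 lc_h_rc_51_3 lc_h_Cert_tree lc_h_rc_40_0 lc_h_rc_56_27 lc_h_Cert_tree lc_h_rc_35_1 lc_h_Cert_tree lc_h_rc_40_0 lc_h_rc_47_1 lc_h_Cert_tree lc_h_rc_40_0 lc_h_rc_29_3 lc_h_rc_47_1) (@D3.rec (fun _ => (Cert rels S Gen.h)) lc_h_Cert_tree lc_h_rc_40_0 lc_h_rc_51_1 lc_h_rc_40_1 lc_h_rc_51_1 lc_h_rc_22_1 lc_h_Cert_tree lc_h_rc_14_1 lc_h_Cert_tree lc_h_rc_22_3 lc_h_rc_40_0 lc_h_rc_5_1 lc_h_rc_14_1 lc_h_Cert_tree lc_h_Cert_tree lc_h_Cert_tree lc_h_rc_40_0 lc_h_rc_40_0 lc_h_Cert_tree lc_h_rc_40_0 lc_h_Cert_tree lc_h_rc_40_0 lc_h_rc_29_3 lc_h_rc_40_0 lc_h_rc_14_1 lc_h_rc_35_1 lc_h_rc_40_0 lc_h_rc_5_1 lc_h_rc_14_1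 lc_h_Cert_tree lc_h_rc_51_3 lc_h_rc_40_0 lc_h_rc_5_1 lc_h_Cert_tree lc_h_rc_41_2 lc_h_Cert_tree lc_h_rc_40_0 lc_h_rc_14_3 lc_h_rc_40_0 lc_h_Cert_tree lc_h_rc_40_0 lc_h_rc_40_0 lc_h_rc_5_3 lc_h_rc_14_3 lc_h_rc_22_1 lc_h_rc_5_1 lc_h_rc_22_1 lc_h_rc_42_1 lc_h_rc_40_0 lc_h_rc_41_0 lc_h_rc_5_1) (@D3.rec (fun _ => (Cert rels S Gen.h)) lc_h_rc_41_0 lc_h_Cert_tree lc_h_Cert_tree lc_h_rc_40_0 lc_h_rc_5_1 lc_h_rc_5_3 lc_h_rc_41_2 lc_h_rc_40_0 lc_h_rc_42_1 lc_h_rc_41_2 lc_h_rc_35_1 lc_h_Cert_tree lc_h_rc_51_1 lc_h_Cert_tree lc_h_rc_42_1 lc_h_Cert_tree lc_h_rc_40_0 lc_h_rc_40_0 lc_h_rc_47_1 lc_h_rc_22_1 lc_h_rc_41_0 lc_h_rc_35_1 lc_h_Cert_tree lc_h_rc_14_1 lc_h_rc_41_0 lc_h_Cert_tree lc_h_rc_35_1 lc_h_Cert_tree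 lc_h_rc_40_0 lc_h_rc_14_1 lc_h_rc_41_0 lc_h_Cert_tree lc_h_rc_42_1 lc_h_Cert_tree lc_h_rc_40_0 lc_h_rc_41_0 lc_h_Cert_tree lc_h_rc_41_0 lc_h_Cert_tree lc_h_rc_40_0 lc_h_Cert_tree lc_h_rc_40_0 lc_h_Cert_tree lc_h_rc_40_0 lc_h_rc_40_0 lc_h_rc_47_1 lc_h_rc_42_1 lc_h_rc_22_1 lc_h_rc_22_3 lc_h_rc_14_1 lc_h_rc_35_1) (@D3.rec (fun _ => (Cert rels S Gen.h)) lc_h_rc_5_1 lc_h_rc_5_1 lc_h_rc_41_0 lc_h_rc_47_1 lc_h_rc_14_1 lc_h_rc_47_1 lc_h_rc_5_1 lc_h_rc_5_1 lc_h_rc_14_1 lc_h_rc_5_1 lc_h_rc_22_3 lc_h_Cert_tree lc_h_rc_41_2 lc_h_rc_40_0 lc_h_Cert_tree lc_h_rc_40_0 lc_h_rc_40_0 lc_h_rc_14_1 lc_h_rc_14_1 lc_h_rc_41_2 lc_h_rc_42_1 lc_h_rc_5_1 lc_h_rc_42_1 lc_h_rc_5_1 lc_h_rc_35_1 lc_h_Cert_tree lc_h_Cert_tree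 lc_h_rc_40_0 lc_h_rc_47_1 lc_h_rc_5_1 lc_h_rc_41_0 lc_h_rc_35_1 lc_h_Cert_tree lc_h_rc_41_0 lc_h_rc_41_0 lc_h_Cert_tree lc_h_Cert_tree lc_h_rc_40_0 lc_h_rc_5_3 lc_h_Cert_tree lc_h_rc_40_0 lc_h_rc_47_1 lc_h_Cert_tree lc_h_rc_40_0 lc_h_Cert_tree lc_h_rc_40_0 lc_h_rc_5_1 lc_h_rc_29_1 lc_h_rc_14_1 lc_h_rc_5_1 lc_h_rc_41_2) (@D3.rec (fun _ => (Cert rels S Gen.h)) lc_h_rc_22_3 lc_h_rc_5_1 lc_h_rc_14_1 lc_h_rc_41_2 lc_h_Cert_tree lc_h_rc_41_2 lc_h_rc_5_1 lc_h_rc_41_2 lc_h_rc_47_1 lc_h_rc_41_2 lc_h_rc_51_1 lc_h_rc_35_1 lc_h_Cert_tree lc_h_rc_47_1 lc_h_rc_41_2 lc_h_rc_42_1 lc_h_rc_35_1 lc_h_Cert_tree lc_h_rc_14_1 lc_h_rc_35_1 lc_h_Cert_tree lc_h_rc_35_1 lc_h_Cert_tree lc_h_rc_40_0 lc_h_rc_14_1 lc_h_rc_22_1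 lc_h_Cert_tree lc_h_Cert_tree lc_h_rc_40_0 lc_h_rc_5_1 lc_h_rc_14_1 lc_h_Cert_tree lc_h_rc_42_1 lc_h_Cert_tree lc_h_rc_40_0 lc_h_rc_42_1 lc_h_Cert_tree lc_h_rc_40_0 lc_h_Cert_tree lc_h_Cert_tree lc_h_rc_40_0 lc_h_rc_22_1 lc_h_Cert_tree lc_h_rc_40_0 lc_h_rc_51_1 lc_h_Cert_tree lc_h_rc_40_0 lc_h_rc_47_1 lc_h_rc_35_1 lc_h_Cert_tree lc_h_rc_14_1) (@D3.rec (fun _ => (Cert rels S Gen.h)) lc_h_rc_35_1 lc_h_Cert_tree lc_h_rc_35_1 lc_h_Cert_tree lc_h_rc_40_0 lc_h_rc_5_1 lc_h_rc_35_1 lc_h_Cert_tree lc_h_Cert_tree lc_h_rc_35_1 lc_h_Cert_tree lc_h_rc_40_0 lc_h_rc_35_1 lc_h_Cert_tree lc_h_rc_40_0 lc_h_rc_5_1 lc_h_rc_14_1 lc_h_Cert_tree lc_h_rc_35_3 lc_h_Cert_tree lc_h_rc_40_0 lc_h_rc_47_1 lc_h_Cert_tree lc_h_rc_40_0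 lc_h_rc_47_1 lc_h_Cert_tree lc_h_rc_14_1 lc_h_Cert_tree lc_h_rc_40_0 lc_h_rc_42_1 lc_h_Cert_tree lc_h_rc_40_0 lc_h_rc_29_3 lc_h_rc_42_1 lc_h_Cert_tree lc_h_rc_40_0 lc_h_Cert_tree lc_h_rc_40_0 lc_h_rc_47_1 lc_h_Cert_tree lc_h_rc_40_0 lc_h_rc_14_1 lc_h_rc_22_1 lc_h_Cert_tree lc_h_rc_40_0 lc_h_rc_29_3 lc_h_rc_35_1 lc_h_Cert_tree lc_h_rc_40_0 lc_h_rc_51_1 lc_h_rc_40_1) (@D3.rec (fun _ => (Cert rels S Gen.h)) lc_h_rc_40_1 lc_h_rc_41_2 lc_h_rc_41_2 lc_h_rc_51_3 lc_h_rc_41_2 lc_h_rc_40_0 lc_h_rc_41_4 lc_h_rc_41_0 lc_h_rc_40_0 lc_h_Cert_tree lc_h_rc_29_3 lc_h_rc_41_2 lc_h_rc_29_3 lc_h_rc_40_0 lc_h_rc_14_1 lc_h_rc_35_1 lc_h_rc_40_0 lc_h_rc_41_2 lc_h_Cert_tree lc_h_rc_41_2 lc_h_rc_40_0 lc_h_rc_22_1 lc_h_Cert_tree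 lc_h_rc_40_0 lc_h_rc_22_1 lc_h_rc_29_3 lc_h_Cert_tree lc_h_rc_14_1 lc_h_rc_22_1 lc_h_Cert_tree lc_h_Cert_tree lc_h_rc_40_0 lc_h_rc_47_1 lc_h_rc_22_3 lc_h_rc_14_1 lc_h_rc_35_1 lc_h_rc_41_2 lc_h_rc_22_3 lc_h_rc_5_1 lc_h_rc_35_1 lc_h_rc_42_1 lc_h_Cert_tree lc_h_rc_41_2 lc_h_rc_5_1 lc_h_rc_41_2 lc_h_rc_47_1 lc_h_rc_40_0 lc_h_rc_41_2 lc_h_rc_41_0 lc_h_rc_41_0 lc_h_rc_41_0) (@D3.rec (fun _ => (Cert rels S Gen.h)) lc_h_rc_29_3 lc_h_rc_41_2 lc_h_rc_41_2 lc_h_rc_40_0 lc_h_rc_40_0 lc_h_rc_40_0 lc_h_rc_22_3 lc_h_rc_14_3 lc_h_rc_40_0 lc_h_rc_40_0 lc_h_rc_40_0 lc_h_rc_29_3 lc_h_rc_29_3 lc_h_rc_40_0 lc_h_rc_29_3 lc_h_rc_40_0 lc_h_rc_14_1 lc_h_rc_35_1 lc_h_rc_5_1 lc_h_rc_22_1 lc_h_rc_14_1 lc_h_rc_29_3 lc_h_rc_40_0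 lc_h_rc_29_3 lc_h_rc_40_0 lc_h_rc_5_1 lc_h_rc_29_5 lc_h_rc_5_1 lc_h_rc_5_3 lc_h_rc_29_1 lc_h_rc_41_4 lc_h_rc_29_3 lc_h_rc_40_0 lc_h_rc_29_1 lc_h_Cert_tree lc_h_rc_40_0 lc_h_rc_51_1 lc_h_rc_40_0 lc_h_rc_14_1 lc_h_rc_41_2 lc_h_rc_40_0 lc_h_rc_29_3 lc_h_rc_35_1 lc_h_rc_14_3 lc_h_Cert_tree lc_h_rc_40_0 lc_h_rc_40_0 lc_h_Cert_tree lc_h_rc_40_0 lc_h_rc_40_0 lc_h_rc_40_0) (@D3.rec (fun _ => (Cert rels S Gen.h)) lc_h_rc_22_3 lc_h_rc_14_3 lc_h_rc_14_1 lc_h_rc_5_1 lc_h_rc_22_1 lc_h_rc_42_1 lc_h_rc_40_0 lc_h_rc_29_3 lc_h_Cert_tree lc_h_rc_40_0 lc_h_rc_40_0 lc_h_rc_14_1 lc_h_rc_35_1 lc_h_rc_40_0 lc_h_rc_14_1 lc_h_rc_35_1 lc_h_rc_5_1 lc_h_rc_22_1 lc_h_rc_14_1 lc_h_rc_42_1 lc_h_rc_5_1 lc_h_rc_5_1 lc_h_rc_22_1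 lc_h_rc_14_1 lc_h_rc_47_1 lc_h_rc_5_1 lc_h_Cert_tree lc_h_rc_40_0 lc_h_rc_5_1 lc_h_Cert_tree lc_h_rc_40_0 lc_h_Cert_tree lc_h_rc_40_0 lc_h_rc_29_3 lc_h_rc_40_0 lc_h_rc_14_1 lc_h_rc_35_1 lc_h_rc_41_2 lc_h_rc_42_1 lc_h_rc_14_3 lc_h_rc_41_2 lc_h_rc_40_0 lc_h_rc_40_0 lc_h_Cert_tree lc_h_rc_29_3 lc_h_rc_29_3 lc_h_rc_14_1 lc_h_rc_35_1 lc_h_rc_40_0 lc_h_rc_5_1 lc_h_rc_14_1) (@D3.rec (fun _ => (Cert rels S Gen.h)) lc_h_Cert_tree lc_h_rc_40_0 lc_h_Cert_tree lc_h_rc_40_0 lc_h_Cert_tree lc_h_rc_47_1 lc_h_Cert_tree lc_h_rc_40_0 lc_h_rc_42_1 lc_h_Cert_tree lc_h_rc_40_0 lc_h_rc_29_3 lc_h_rc_5_1 lc_h_rc_14_1 lc_h_rc_42_3 lc_h_Cert_tree lc_h_rc_40_0 lc_h_rc_40_0 lc_h_rc_5_1 lc_h_Cert_tree lc_h_rc_40_0 lc_h_rc_14_1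 lc_h_Cert_tree lc_h_rc_40_0 lc_h_rc_51_1 lc_h_Cert_tree lc_h_rc_40_0 lc_h_rc_29_3 lc_h_rc_35_1 lc_h_rc_29_3 lc_h_rc_40_0 lc_h_rc_5_1 lc_h_Cert_tree lc_h_rc_40_0 lc_h_rc_14_1 lc_h_Cert_tree lc_h_rc_40_0 lc_h_rc_14_1 lc_h_rc_22_1 lc_h_rc_40_0 lc_h_rc_29_3 lc_h_rc_29_3 lc_h_rc_40_1 lc_h_Cert_tree lc_h_rc_40_0 lc_h_rc_42_1 lc_h_rc_41_2 lc_h_rc_5_1 lc_h_Cert_tree lc_h_rc_14_3 lc_h_Cert_tree) (@D3.rec (fun _ => (Cert rels S Gen.h)) lc_h_rc_5_3 lc_h_Cert_tree lc_h_rc_40_0 lc_h_rc_42_1 lc_h_rc_41_2 lc_h_rc_29_5 lc_h_Cert_tree lc_h_rc_40_0 lc_h_Cert_tree lc_h_rc_40_0 lc_h_Cert_tree lc_h_rc_40_0 lc_h_Cert_tree lc_h_rc_40_0 lc_h_rc_47_1 lc_h_Cert_tree lc_h_rc_40_0 lc_h_rc_5_1 lc_h_rc_29_1 lc_h_rc_40_0 lc_h_rc_47_1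 lc_h_rc_22_3 lc_h_rc_40_0 lc_h_rc_51_1 lc_h_Cert_tree lc_h_rc_40_0 lc_h_rc_29_3 lc_h_rc_40_0 lc_h_rc_40_0 lc_h_rc_5_1 lc_h_Cert_tree lc_h_rc_40_0 lc_h_rc_29_3 lc_h_rc_47_1 lc_h_Cert_tree lc_h_rc_40_0 lc_h_rc_51_1 lc_h_Cert_tree lc_h_rc_40_0 lc_h_Cert_tree lc_h_rc_40_0 lc_h_rc_29_3 lc_h_rc_22_1 lc_h_Cert_tree lc_h_rc_40_0 lc_h_rc_40_0 lc_h_rc_5_1 lc_h_Cert_tree lc_h_rc_40_0 lc_h_rc_5_1 lc_h_Cert_tree) (@D3.rec (fun _ => (Cert rels S Gen.h)) lc_h_rc_40_0 lc_h_Cert_tree lc_h_rc_40_0 lc_h_rc_29_3 lc_h_rc_40_0 lc_h_rc_14_1 lc_h_rc_35_1 lc_h_rc_29_3 lc_h_rc_41_2 lc_h_rc_40_0 lc_h_rc_47_1 lc_h_rc_22_1 lc_h_rc_51_3 lc_h_rc_35_1 lc_h_Cert_tree lc_h_rc_29_3 lc_h_rc_35_1 lc_h_rc_29_3 lc_h_Cert_tree lc_h_rc_40_0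 lc_h_rc_41_2 lc_h_rc_5_3 lc_h_rc_35_1 lc_h_rc_40_0 lc_h_Cert_tree lc_h_rc_5_1 lc_h_Cert_tree lc_h_rc_40_0 lc_h_rc_40_0 lc_h_rc_47_1 lc_h_rc_41_2 lc_h_rc_35_1 lc_h_Cert_tree lc_h_Cert_tree lc_h_Cert_tree lc_h_rc_14_3 lc_h_Cert_tree lc_h_rc_40_0 lc_h_rc_47_1 lc_h_Cert_tree lc_h_rc_40_0 lc_h_rc_51_1 lc_h_rc_22_3 lc_h_rc_40_0 lc_h_rc_29_5 lc_h_rc_40_0 lc_h_rc_47_1 lc_h_rc_41_2 lc_h_rc_22_1 lc_h_rc_35_1 lc_h_Cert_tree) (@D3.rec (fun _ => (Cert rels S Gen.h)) lc_h_rc_51_1 lc_h_rc_40_0 lc_h_rc_42_1 lc_h_rc_22_1 lc_h_rc_47_1 lc_h_rc_22_1 lc_h_rc_47_1 lc_h_rc_47_1 lc_h_Cert_tree lc_h_rc_14_1 lc_h_rc_22_1 lc_h_Cert_tree lc_h_Cert_tree lc_h_rc_40_0 lc_h_rc_35_1 lc_h_rc_29_3 lc_h_rc_42_1 lc_h_Cert_tree lc_h_rc_40_0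 lc_h_rc_40_0 lc_h_rc_14_1 lc_h_rc_47_1 lc_h_rc_29_3 lc_h_rc_47_1 lc_h_rc_41_4 lc_h_rc_41_0 lc_h_Cert_tree lc_h_rc_40_0 lc_h_rc_47_1 lc_h_rc_41_4 lc_h_Cert_tree lc_h_rc_40_0 lc_h_rc_51_1 lc_h_rc_5_3 lc_h_rc_40_0 lc_h_rc_47_1 lc_h_rc_35_1 lc_h_rc_5_3 lc_h_Cert_tree lc_h_Cert_tree lc_h_rc_40_0 lc_h_rc_40_0 lc_h_rc_41_0 lc_h_rc_35_1 lc_h_Cert_tree lc_h_rc_14_3 lc_h_Cert_tree lc_h_rc_40_0 lc_h_rc_5_1 lc_h_rc_22_1 lc_h_rc_40_0) (@D3.rec (fun _ => (Cert rels S Gen.h)) lc_h_rc_5_1 lc_h_Cert_tree lc_h_rc_40_0 lc_h_rc_40_0 lc_h_rc_42_1 lc_h_rc_41_2 lc_h_rc_51_1 lc_h_rc_41_2 lc_h_rc_47_1 lc_h_Cert_tree lc_h_rc_42_1 lc_h_Cert_tree lc_h_rc_40_0 lc_h_rc_42_1 lc_h_rc_22_1 lc_h_rc_41_0 lc_h_rc_35_1 lc_h_Cert_tree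 lc_h_Cert_tree lc_h_Cert_tree lc_h_rc_42_1 lc_h_Cert_tree lc_h_rc_40_0 lc_h_Cert_tree lc_h_rc_14_1 lc_h_Cert_tree lc_h_rc_40_0 lc_h_rc_47_1 lc_h_Cert_tree lc_h_rc_40_0 lc_h_rc_47_1 lc_h_Cert_tree lc_h_rc_40_0 lc_h_rc_51_1 lc_h_Cert_tree lc_h_rc_40_0 lc_h_rc_29_3 lc_h_rc_22_3 lc_h_rc_40_0 lc_h_rc_22_1 lc_h_Cert_tree lc_h_rc_40_0 lc_h_Cert_tree lc_h_rc_40_0 lc_h_rc_42_1 lc_h_rc_41_2 lc_h_rc_51_1 lc_h_rc_41_2 lc_h_rc_22_1 lc_h_rc_47_1 lc_h_Cert_tree) (@D3.rec (fun _ => (Cert rels S Gen.h)) lc_h_Cert_tree lc_h_Cert_tree lc_h_rc_40_0 lc_h_rc_40_0 lc_h_rc_42_1 lc_h_rc_22_1 lc_h_rc_42_1 lc_h_rc_35_1 lc_h_Cert_tree lc_h_rc_22_1 lc_h_rc_51_1 lc_h_Cert_tree lc_h_rc_41_0 lc_h_rc_41_0 lc_h_Cert_tree lc_h_rc_42_1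 lc_h_Cert_tree lc_h_rc_40_0 lc_h_Cert_tree lc_h_Cert_tree lc_h_rc_40_0 lc_h_rc_40_0 lc_h_rc_42_1 lc_h_Cert_tree lc_h_rc_40_0 lc_h_Cert_tree lc_h_rc_40_0 lc_h_rc_29_3 lc_h_rc_14_1 lc_h_rc_22_1 lc_h_Cert_tree lc_h_rc_14_1 lc_h_rc_35_1 lc_h_Cert_tree lc_h_Cert_tree lc_h_rc_40_0 lc_h_Cert_tree lc_h_rc_40_0 lc_h_Cert_tree lc_h_rc_40_0 lc_h_Cert_tree lc_h_rc_40_0 lc_h_rc_29_3 lc_h_Cert_tree lc_h_rc_40_0 lc_h_rc_14_1 lc_h_Cert_tree lc_h_Cert_tree lc_h_rc_40_0 lc_h_rc_40_0 lc_h_rc_40_0) (@D3.rec (fun _ => (Cert rels S Gen.h)) lc_h_rc_40_0 lc_h_rc_29_3 lc_h_rc_40_0 lc_h_rc_55_43 lc_h_rc_14_1 lc_h_Cert_tree lc_h_rc_40_0 lc_h_rc_40_0 lc_h_rc_47_1 lc_h_rc_5_1 lc_h_Cert_tree lc_h_Cert_tree lc_h_rc_40_0 lc_h_rc_42_1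 lc_h_rc_47_1 lc_h_rc_51_1 lc_h_rc_51_1 lc_h_rc_41_0 lc_h_rc_14_3 lc_h_Cert_tree lc_h_Cert_tree lc_h_Cert_tree lc_h_rc_40_0 lc_h_rc_14_1 lc_h_Cert_tree lc_h_rc_40_0 lc_h_rc_40_0 lc_h_rc_40_0 lc_h_rc_40_0 lc_h_rc_40_0 lc_h_rc_42_1 lc_h_rc_41_2 lc_h_rc_51_1 lc_h_rc_29_5 lc_h_rc_22_1 lc_h_rc_47_1 lc_h_Cert_tree lc_h_Cert_tree lc_h_Cert_tree lc_h_rc_40_0 lc_h_rc_40_0 lc_h_rc_42_1 lc_h_rc_51_1 lc_h_rc_42_1 lc_h_rc_35_1 lc_h_Cert_tree lc_h_Cert_tree lc_h_Cert_tree lc_h_rc_42_1 lc_h_Cert_tree lc_h_rc_40_0) (@D3.rec (fun _ => (Cert rels S Gen.h)) lc_h_rc_40_0 lc_h_rc_41_0 lc_h_Cert_tree lc_h_rc_40_0 lc_h_rc_5_1 lc_h_Cert_tree lc_h_rc_40_0 lc_h_rc_5_1 lc_h_Cert_tree lc_h_rc_40_0 lc_h_rc_29_3 lc_h_Cert_tree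 lc_h_rc_40_0 lc_h_rc_22_3 lc_h_Cert_tree lc_h_rc_40_0 lc_h_rc_40_0 lc_h_rc_29_3 lc_h_rc_40_0 lc_h_rc_47_1 lc_h_rc_41_2 lc_h_rc_40_0 lc_h_rc_42_1 lc_h_rc_41_2 lc_h_rc_42_1 lc_h_rc_35_1 lc_h_Cert_tree lc_h_rc_22_1 lc_h_rc_51_1 lc_h_Cert_tree lc_h_rc_14_1 lc_h_rc_22_1 lc_h_Cert_tree lc_h_rc_42_1 lc_h_Cert_tree lc_h_rc_40_0 lc_h_Cert_tree lc_h_Cert_tree lc_h_rc_40_0 lc_h_rc_47_1 lc_h_Cert_tree lc_h_rc_40_0 lc_h_rc_47_1 lc_h_rc_22_1 lc_h_rc_42_1 lc_h_rc_35_1 lc_h_Cert_tree lc_h_rc_14_1 lc_h_rc_35_1 lc_h_Cert_tree lc_h_rc_35_1) (@D3.rec (fun _ => (Cert rels S Gen.h)) lc_h_Cert_tree lc_h_rc_40_0 lc_h_rc_14_1 lc_h_Cert_tree lc_h_rc_42_1 lc_h_Cert_tree lc_h_rc_40_0 lc_h_rc_47_1 lc_h_rc_47_1 lc_h_Cert_tree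 lc_h_rc_42_1 lc_h_Cert_tree lc_h_rc_40_0 lc_h_rc_42_1 lc_h_Cert_tree lc_h_rc_40_0 lc_h_Cert_tree lc_h_Cert_tree lc_h_rc_40_0 lc_h_rc_47_1 lc_h_Cert_tree lc_h_rc_40_0 lc_h_rc_29_3 lc_h_rc_51_1 lc_h_Cert_tree lc_h_rc_40_0 lc_h_rc_29_3 lc_h_rc_47_1 lc_h_Cert_tree lc_h_rc_40_0 lc_h_rc_51_1 lc_h_Cert_tree lc_h_rc_40_0 lc_h_rc_29_3 lc_h_Cert_tree lc_h_rc_40_0 lc_h_rc_29_3 lc_h_rc_22_1 lc_h_rc_40_0 lc_h_rc_14_1 lc_h_Cert_tree lc_h_rc_40_0 lc_h_rc_5_1 lc_h_rc_14_1 lc_h_Cert_tree lc_h_Cert_tree lc_h_Cert_tree lc_h_rc_40_0 lc_h_rc_40_0 lc_h_rc_51_1 lc_h_Cert_tree) (@D3.rec (fun _ => (Cert rels S Gen.h)) lc_h_rc_40_0 lc_h_Cert_tree lc_h_rc_40_0 lc_h_rc_29_3 lc_h_rc_40_0 lc_h_rc_14_1 lc_h_rc_35_1 lc_h_rc_5_1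 lc_h_Cert_tree lc_h_rc_40_0 lc_h_rc_5_1 lc_h_Cert_tree lc_h_Cert_tree lc_h_rc_40_0 lc_h_rc_40_0 lc_h_rc_29_3 lc_h_Cert_tree lc_h_rc_40_0 lc_h_rc_29_3 lc_h_rc_40_0 lc_h_rc_14_1 lc_h_rc_35_1 lc_h_Cert_tree lc_h_rc_40_0 lc_h_Cert_tree lc_h_Cert_tree lc_h_rc_40_0 lc_h_rc_40_0 lc_h_Cert_tree lc_h_rc_40_0 lc_h_rc_14_3 lc_h_rc_40_0 lc_h_Cert_tree lc_h_rc_40_0 lc_h_Cert_tree lc_h_rc_40_0 lc_h_rc_14_3 lc_h_rc_14_1 lc_h_rc_40_0 lc_h_rc_14_1 lc_h_rc_29_5 lc_h_rc_40_0 lc_h_rc_29_3 lc_h_rc_5_1 lc_h_Cert_tree lc_h_rc_40_0 lc_h_rc_40_0 lc_h_rc_47_1 lc_h_rc_5_1 lc_h_rc_22_1 lc_h_rc_35_1) (@D3.rec (fun _ => (Cert rels S Gen.h)) lc_h_Cert_tree lc_h_rc_5_1 lc_h_Cert_tree lc_h_rc_40_0 lc_h_rc_51_1 lc_h_rc_40_0 lc_h_rc_5_1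 lc_h_rc_5_1 lc_h_Cert_tree lc_h_rc_40_0 lc_h_rc_47_1 lc_h_rc_41_2 lc_h_rc_22_1 lc_h_rc_35_1 lc_h_Cert_tree lc_h_rc_40_0 lc_h_rc_47_1 lc_h_rc_22_1 lc_h_rc_35_3 lc_h_rc_22_1 lc_h_Cert_tree lc_h_rc_14_1 lc_h_Cert_tree lc_h_rc_42_1 lc_h_Cert_tree lc_h_rc_40_0 lc_h_rc_5_3 lc_h_rc_40_0 lc_h_Cert_tree lc_h_rc_40_0 lc_h_rc_40_0 lc_h_rc_5_3 lc_h_rc_40_0 lc_h_Cert_tree lc_h_rc_40_0 lc_h_Cert_tree lc_h_rc_40_0 lc_h_rc_29_3 lc_h_rc_41_2 lc_h_rc_47_1 lc_h_rc_14_1 lc_h_rc_22_1 lc_h_Cert_tree lc_h_rc_40_0 lc_h_rc_47_1 lc_h_rc_5_1 lc_h_rc_22_1 lc_h_rc_35_1 lc_h_Cert_tree lc_h_rc_47_1 lc_h_rc_51_3) (@D3.rec (fun _ => (Cert rels S Gen.h)) lc_h_rc_5_1 lc_h_rc_51_1 lc_h_rc_5_1 lc_h_rc_22_1 lc_h_rc_51_3 lc_h_Cert_tree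 lc_h_rc_14_1 lc_h_rc_22_1 lc_h_Cert_tree lc_h_Cert_tree lc_h_rc_40_0 lc_h_rc_42_1 lc_h_Cert_tree lc_h_rc_40_0 lc_h_rc_40_0 lc_h_rc_14_1 lc_h_Cert_tree lc_h_rc_40_0 lc_h_Cert_tree lc_h_rc_40_0 lc_h_rc_40_0 lc_h_rc_42_1 lc_h_rc_22_1 lc_h_rc_51_1 lc_h_rc_51_1 lc_h_rc_22_1 lc_h_rc_47_1 lc_h_Cert_tree lc_h_rc_14_1 lc_h_rc_22_1 lc_h_Cert_tree lc_h_rc_42_1 lc_h_Cert_tree lc_h_rc_40_0 lc_h_rc_14_3 lc_h_Cert_tree lc_h_Cert_tree lc_h_rc_41_0 lc_h_Cert_tree lc_h_Cert_tree lc_h_rc_40_0 lc_h_rc_42_1 lc_h_rc_35_1 lc_h_Cert_tree lc_h_rc_51_3 lc_h_Cert_tree lc_h_rc_40_0 lc_h_rc_51_1 lc_h_Cert_tree lc_h_rc_40_0 lc_h_rc_40_0)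
def ce_h_12 : D2 → D3 → (Cert rels S Gen.h) := @D2.rec (fun _ => D3 → (Cert rels S Gen.h)) (@D3.rec (fun _ => (Cert rels S Gen.h)) lc_h_rc_51_1 lc_h_rc_14_3 lc_h_rc_40_0 lc_h_rc_29_3 lc_h_rc_40_0 lc_h_Cert_tree lc_h_rc_40_0 lc_h_rc_29_3 lc_h_rc_40_0 lc_h_rc_40_0 lc_h_Cert_tree lc_h_rc_40_0 lc_h_Cert_tree lc_h_rc_40_0 lc_h_rc_42_1 lc_h_Cert_tree lc_h_rc_40_0 lc_h_Cert_tree lc_h_rc_40_0 lc_h_rc_40_0 lc_h_rc_29_3 lc_h_Cert_tree lc_h_Cert_tree lc_h_rc_40_0 lc_h_rc_22_3 lc_h_rc_40_0 lc_h_rc_42_3 lc_h_rc_51_1 lc_h_rc_51_1 lc_h_rc_40_0 lc_h_rc_14_3 lc_h_rc_40_0 lc_h_Cert_tree lc_h_rc_40_0 lc_h_rc_14_1 lc_h_rc_40_0 lc_h_rc_29_3 lc_h_rc_40_0 lc_h_rc_14_1 lc_h_Cert_tree lc_h_rc_40_0 lc_h_rc_40_0 lc_h_rc_47_1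 lc_h_rc_14_1 lc_h_Cert_tree lc_h_rc_14_1 lc_h_Cert_tree lc_h_rc_40_0 lc_h_rc_40_0 lc_h_rc_47_1 lc_h_rc_5_1) (@D3.rec (fun _ => (Cert rels S Gen.h)) lc_h_rc_22_1 lc_h_rc_35_1 lc_h_Cert_tree lc_h_Cert_tree lc_h_rc_40_0 lc_h_rc_42_1 lc_h_rc_5_1 lc_h_rc_51_1 lc_h_rc_5_1 lc_h_rc_22_1 lc_h_rc_47_1 lc_h_Cert_tree lc_h_rc_14_1 lc_h_Cert_tree lc_h_Cert_tree lc_h_rc_40_0 lc_h_rc_42_1 lc_h_Cert_tree lc_h_rc_40_0 lc_h_rc_40_0 lc_h_rc_40_0 lc_h_rc_5_1 lc_h_rc_5_1 lc_h_Cert_tree lc_h_Cert_tree lc_h_rc_40_0 lc_h_rc_29_5 lc_h_rc_40_0 lc_h_rc_40_0 lc_h_rc_40_0 lc_h_rc_42_1 lc_h_rc_41_2 lc_h_rc_51_1 lc_h_rc_41_2 lc_h_rc_22_1 lc_h_rc_47_1 lc_h_Cert_tree lc_h_rc_14_1 lc_h_rc_22_1 lc_h_Cert_tree lc_h_rc_42_1 lc_h_Cert_tree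 lc_h_rc_40_0 lc_h_rc_40_0 lc_h_rc_42_1 lc_h_rc_22_1 lc_h_rc_42_1 lc_h_rc_35_1 lc_h_Cert_tree lc_h_Cert_tree lc_h_rc_14_1) (@D3.rec (fun _ => (Cert rels S Gen.h)) lc_h_Cert_tree lc_h_rc_42_1 lc_h_Cert_tree lc_h_rc_40_0 lc_h_rc_14_1 lc_h_rc_14_1 lc_h_Cert_tree lc_h_rc_22_1 lc_h_Cert_tree lc_h_rc_40_0 lc_h_rc_47_1 lc_h_Cert_tree lc_h_rc_40_0 lc_h_rc_40_0 lc_h_rc_47_1 lc_h_Cert_tree lc_h_rc_40_0 lc_h_Cert_tree lc_h_rc_40_0 lc_h_rc_29_3 lc_h_rc_40_0 lc_h_rc_14_1 lc_h_rc_35_1 lc_h_Cert_tree lc_h_rc_14_1 lc_h_rc_35_1 lc_h_Cert_tree lc_h_Cert_tree lc_h_rc_40_0 lc_h_rc_40_0 lc_h_Cert_tree lc_h_rc_40_0 lc_h_rc_22_3 lc_h_rc_40_0 lc_h_rc_29_3 lc_h_rc_51_3 lc_h_rc_40_0 lc_h_rc_5_1 lc_h_rc_14_1 lc_h_Cert_tree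 lc_h_rc_51_1 lc_h_rc_40_0 lc_h_rc_40_0 lc_h_rc_5_3 lc_h_Cert_tree lc_h_rc_40_0 lc_h_rc_40_0 lc_h_rc_5_1 lc_h_rc_40_0 lc_h_rc_40_0 lc_h_rc_47_1) (@D3.rec (fun _ => (Cert rels S Gen.h)) lc_h_rc_14_1 lc_h_Cert_tree lc_h_rc_40_0 lc_h_rc_42_1 lc_h_rc_14_1 lc_h_rc_47_1 lc_h_rc_14_1 lc_h_rc_47_1 lc_h_Cert_tree lc_h_rc_22_3 lc_h_Cert_tree lc_h_rc_40_0 lc_h_Cert_tree lc_h_rc_40_0 lc_h_rc_40_0 lc_h_rc_42_1 lc_h_rc_5_1 lc_h_rc_51_1 lc_h_rc_5_1 lc_h_rc_22_1 lc_h_rc_47_1 lc_h_Cert_tree lc_h_rc_14_1 lc_h_rc_22_1 lc_h_Cert_tree lc_h_Cert_tree lc_h_rc_40_0 lc_h_rc_40_0 lc_h_rc_42_1 lc_h_rc_5_1 lc_h_rc_42_1 lc_h_rc_35_1 lc_h_Cert_tree lc_h_rc_22_1 lc_h_rc_47_1 lc_h_Cert_tree lc_h_rc_14_1 lc_h_rc_22_1 lc_h_Cert_tree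 lc_h_rc_42_1 lc_h_Cert_tree lc_h_rc_40_0 lc_h_rc_14_1 lc_h_rc_14_1 lc_h_Cert_tree lc_h_Cert_tree lc_h_rc_40_0 lc_h_rc_40_0 lc_h_rc_42_1 lc_h_Cert_tree lc_h_rc_40_0) (@D3.rec (fun _ => (Cert rels S Gen.h)) lc_h_Cert_tree lc_h_rc_40_0 lc_h_rc_29_3 lc_h_rc_5_1 lc_h_rc_22_1 lc_h_rc_5_1 lc_h_Cert_tree lc_h_rc_14_1 lc_h_Cert_tree lc_h_Cert_tree lc_h_rc_40_0 lc_h_rc_14_1 lc_h_Cert_tree lc_h_rc_40_0 lc_h_rc_5_1 lc_h_Cert_tree lc_h_rc_40_0 lc_h_Cert_tree lc_h_rc_40_0 lc_h_rc_29_3 lc_h_rc_40_0 lc_h_rc_29_3 lc_h_rc_41_2 lc_h_rc_40_0 lc_h_rc_42_1 lc_h_rc_41_2 lc_h_rc_42_1 lc_h_rc_35_1 lc_h_Cert_tree lc_h_rc_22_1 lc_h_rc_51_1 lc_h_Cert_tree lc_h_rc_14_1 lc_h_rc_22_1 lc_h_Cert_tree lc_h_rc_42_1 lc_h_Cert_tree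 lc_h_rc_40_0 lc_h_Cert_tree lc_h_Cert_tree lc_h_rc_40_0 lc_h_rc_47_1 lc_h_Cert_tree lc_h_rc_40_0 lc_h_rc_47_1 lc_h_rc_22_1 lc_h_rc_42_1 lc_h_rc_35_1 lc_h_Cert_tree lc_h_rc_14_1 lc_h_rc_35_1) (@D3.rec (fun _ => (Cert rels S Gen.h)) lc_h_Cert_tree lc_h_rc_35_1 lc_h_Cert_tree lc_h_rc_40_0 lc_h_rc_22_1 lc_h_Cert_tree lc_h_rc_42_1 lc_h_Cert_tree lc_h_rc_40_0 lc_h_rc_47_1 lc_h_rc_47_1 lc_h_Cert_tree lc_h_rc_42_1 lc_h_Cert_tree lc_h_rc_40_0 lc_h_rc_42_1 lc_h_Cert_tree lc_h_rc_40_0 lc_h_Cert_tree lc_h_Cert_tree lc_h_rc_40_0 lc_h_rc_47_1 lc_h_Cert_tree lc_h_rc_40_0 lc_h_rc_29_3 lc_h_rc_47_1 lc_h_Cert_tree lc_h_rc_40_0 lc_h_rc_29_3 lc_h_Cert_tree lc_h_rc_40_0 lc_h_rc_51_1 lc_h_Cert_tree lc_h_rc_40_0 lc_h_rc_29_3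 lc_h_rc_14_3 lc_h_rc_40_0 lc_h_rc_29_3 lc_h_rc_22_1 lc_h_rc_22_1 lc_h_Cert_tree lc_h_Cert_tree lc_h_rc_40_0 lc_h_rc_5_1 lc_h_rc_14_1 lc_h_Cert_tree lc_h_Cert_tree lc_h_Cert_tree lc_h_rc_40_0 lc_h_rc_40_0 lc_h_rc_40_0) (@D3.rec (fun _ => (Cert rels S Gen.h)) lc_h_Cert_tree lc_h_rc_40_0 lc_h_rc_29_3 lc_h_rc_40_0 lc_h_rc_14_1 lc_h_rc_35_1 lc_h_rc_40_0 lc_h_rc_5_1 lc_h_Cert_tree lc_h_Cert_tree lc_h_rc_40_0 lc_h_rc_40_0 lc_h_rc_29_3 lc_h_rc_40_0 lc_h_rc_14_1 lc_h_rc_40_0 lc_h_rc_40_0 lc_h_rc_47_1 lc_h_Cert_tree lc_h_rc_40_0 lc_h_Cert_tree lc_h_rc_40_0 lc_h_rc_40_0 lc_h_rc_42_1 lc_h_rc_40_0 lc_h_rc_14_1 lc_h_rc_14_1 lc_h_rc_14_1 lc_h_rc_14_1 lc_h_rc_22_1 lc_h_Cert_tree lc_h_Cert_tree lc_h_rc_40_0 lc_h_rc_40_0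 lc_h_rc_41_0 lc_h_rc_5_1 lc_h_rc_41_0 lc_h_Cert_tree lc_h_rc_41_0 lc_h_Cert_tree lc_h_rc_41_0 lc_h_Cert_tree lc_h_rc_40_0 lc_h_rc_40_0 lc_h_Cert_tree lc_h_rc_40_0 lc_h_Cert_tree lc_h_rc_40_0 lc_h_rc_29_3 lc_h_rc_5_1 lc_h_rc_40_0) (@D3.rec (fun _ => (Cert rels S Gen.h)) lc_h_rc_29_3 lc_h_rc_41_2 lc_h_rc_40_0 lc_h_rc_42_1 lc_h_rc_41_2 lc_h_rc_35_1 lc_h_Cert_tree lc_h_rc_51_1 lc_h_Cert_tree lc_h_rc_42_1 lc_h_Cert_tree lc_h_rc_40_0 lc_h_rc_40_0 lc_h_rc_47_1 lc_h_rc_22_1 lc_h_rc_41_0 lc_h_rc_35_1 lc_h_Cert_tree lc_h_rc_41_0 lc_h_rc_41_0 lc_h_Cert_tree lc_h_rc_35_1 lc_h_Cert_tree lc_h_rc_40_0 lc_h_Cert_tree lc_h_rc_42_1 lc_h_Cert_tree lc_h_rc_40_0 lc_h_Cert_tree lc_h_rc_41_0 lc_h_Cert_tree lc_h_rc_40_0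 lc_h_rc_41_0 lc_h_Cert_tree lc_h_rc_40_0 lc_h_rc_40_0 lc_h_rc_40_0 lc_h_rc_41_0 lc_h_Cert_tree lc_h_rc_40_0 lc_h_rc_29_3 lc_h_rc_47_1 lc_h_Cert_tree lc_h_rc_40_0 lc_h_rc_51_1 lc_h_Cert_tree lc_h_rc_40_0 lc_h_rc_29_3 lc_h_Cert_tree lc_h_rc_40_0 lc_h_rc_29_3) (@D3.rec (fun _ => (Cert rels S Gen.h)) lc_h_rc_22_1 lc_h_rc_40_0 lc_h_rc_47_1 lc_h_rc_41_2 lc_h_rc_5_1 lc_h_rc_41_2 lc_h_rc_14_1 lc_h_rc_42_1 lc_h_rc_5_1 lc_h_rc_40_0 lc_h_rc_42_1 lc_h_rc_14_1 lc_h_rc_51_1 lc_h_rc_14_1 lc_h_Cert_tree lc_h_rc_40_0 lc_h_rc_40_0 lc_h_rc_42_1 lc_h_rc_14_1 lc_h_rc_14_1 lc_h_rc_35_1 lc_h_Cert_tree lc_h_rc_14_1 lc_h_Cert_tree lc_h_Cert_tree lc_h_rc_40_0 lc_h_rc_40_0 lc_h_rc_40_0 lc_h_rc_5_1 lc_h_rc_5_1 lc_h_rc_40_0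 lc_h_rc_42_1 lc_h_rc_5_1 lc_h_rc_35_1 lc_h_Cert_tree lc_h_rc_51_1 lc_h_Cert_tree lc_h_rc_42_1 lc_h_Cert_tree lc_h_rc_40_0 lc_h_rc_40_0 lc_h_rc_47_1 lc_h_rc_5_1 lc_h_rc_41_0 lc_h_rc_35_1 lc_h_Cert_tree lc_h_rc_51_1 lc_h_rc_41_0 lc_h_Cert_tree lc_h_rc_35_1 lc_h_Cert_tree) (@D3.rec (fun _ => (Cert rels S Gen.h)) lc_h_rc_40_0 lc_h_rc_41_0 lc_h_Cert_tree lc_h_rc_42_1 lc_h_Cert_tree lc_h_rc_40_0 lc_h_Cert_tree lc_h_rc_41_0 lc_h_Cert_tree lc_h_rc_40_0 lc_h_Cert_tree lc_h_rc_40_0 lc_h_rc_40_0 lc_h_rc_40_0 lc_h_rc_29_3 lc_h_rc_47_1 lc_h_Cert_tree lc_h_rc_40_0 lc_h_rc_40_0 lc_h_rc_29_3 lc_h_rc_22_1 lc_h_rc_5_1 lc_h_rc_5_1 lc_h_rc_22_3 lc_h_rc_5_1 lc_h_rc_41_2 lc_h_rc_22_3 lc_h_rc_5_1 lc_h_rc_14_1 lc_h_rc_42_1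 lc_h_Cert_tree lc_h_rc_41_2 lc_h_rc_47_1 lc_h_rc_40_0 lc_h_rc_29_3 lc_h_rc_41_2 lc_h_rc_22_1 lc_h_rc_35_1 lc_h_Cert_tree lc_h_rc_47_1 lc_h_rc_41_2 lc_h_rc_42_1 lc_h_rc_35_1 lc_h_Cert_tree lc_h_rc_14_1 lc_h_rc_35_1 lc_h_Cert_tree lc_h_rc_35_1 lc_h_Cert_tree lc_h_rc_40_0 lc_h_rc_14_1) (@D3.rec (fun _ => (Cert rels S Gen.h)) lc_h_rc_22_1 lc_h_Cert_tree lc_h_rc_42_1 lc_h_Cert_tree lc_h_rc_40_0 lc_h_Cert_tree lc_h_rc_42_1 lc_h_Cert_tree lc_h_rc_40_0 lc_h_rc_42_1 lc_h_Cert_tree lc_h_rc_40_0 lc_h_rc_40_0 lc_h_rc_22_1 lc_h_Cert_tree lc_h_rc_40_0 lc_h_rc_51_1 lc_h_Cert_tree lc_h_rc_40_0 lc_h_rc_29_3 lc_h_rc_47_1 lc_h_rc_35_1 lc_h_Cert_tree lc_h_rc_14_1 lc_h_rc_35_1 lc_h_Cert_tree lc_h_rc_35_1 lc_h_Cert_tree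 lc_h_rc_40_0 lc_h_rc_47_3 lc_h_rc_35_1 lc_h_Cert_tree lc_h_Cert_tree lc_h_rc_35_1 lc_h_Cert_tree lc_h_rc_40_0 lc_h_rc_35_1 lc_h_Cert_tree lc_h_rc_40_0 lc_h_rc_14_1 lc_h_rc_51_1 lc_h_Cert_tree lc_h_rc_42_1 lc_h_Cert_tree lc_h_rc_40_0 lc_h_rc_47_1 lc_h_Cert_tree lc_h_rc_40_0 lc_h_Cert_tree lc_h_rc_22_1 lc_h_Cert_tree) (@D3.rec (fun _ => (Cert rels S Gen.h)) lc_h_rc_40_0 lc_h_rc_42_1 lc_h_Cert_tree lc_h_rc_40_0 lc_h_rc_29_3 lc_h_rc_42_1 lc_h_Cert_tree lc_h_rc_40_0 lc_h_rc_29_3 lc_h_rc_40_0 lc_h_rc_47_1 lc_h_Cert_tree lc_h_rc_40_0 lc_h_rc_14_1 lc_h_rc_22_1 lc_h_Cert_tree lc_h_rc_40_0 lc_h_rc_29_3 lc_h_rc_35_1 lc_h_Cert_tree lc_h_rc_40_0 lc_h_rc_29_3 lc_h_rc_22_1 lc_h_rc_51_1 lc_h_Cert_tree lc_h_rc_40_0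 lc_h_rc_29_3 lc_h_Cert_tree lc_h_rc_40_0 lc_h_rc_29_3 lc_h_rc_22_1 lc_h_rc_40_0 lc_h_rc_29_3 lc_h_rc_22_1 lc_h_rc_14_1 lc_h_rc_14_1 lc_h_rc_35_1 lc_h_Cert_tree lc_h_rc_22_3 lc_h_rc_40_0 lc_h_rc_5_1 lc_h_rc_51_1 lc_h_rc_51_3 lc_h_Cert_tree lc_h_rc_51_3 lc_h_rc_40_0 lc_h_rc_40_0 lc_h_rc_29_1 lc_h_Cert_tree lc_h_rc_47_1 lc_h_rc_41_2) (@D3.rec (fun _ => (Cert rels S Gen.h)) lc_h_rc_40_0 lc_h_rc_40_0 lc_h_Cert_tree lc_h_rc_40_0 lc_h_rc_29_3 lc_h_rc_29_3 lc_h_Cert_tree lc_h_rc_40_0 lc_h_rc_29_3 lc_h_rc_40_0 lc_h_rc_14_1 lc_h_rc_35_1 lc_h_rc_22_3 lc_h_rc_29_1 lc_h_rc_40_0 lc_h_rc_22_3 lc_h_rc_14_1 lc_h_rc_40_0 lc_h_rc_14_1 lc_h_rc_40_0 lc_h_rc_41_2 lc_h_Cert_tree lc_h_rc_41_2 lc_h_rc_5_1 lc_h_rc_22_1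 lc_h_Cert_tree lc_h_rc_5_1 lc_h_rc_5_1 lc_h_rc_40_0 lc_h_rc_41_2 lc_h_rc_22_1 lc_h_Cert_tree lc_h_rc_14_1 lc_h_rc_22_1 lc_h_Cert_tree lc_h_Cert_tree lc_h_rc_40_0 lc_h_rc_14_1 lc_h_rc_41_2 lc_h_rc_5_1 lc_h_rc_35_1 lc_h_rc_41_2 lc_h_Cert_tree lc_h_rc_41_2 lc_h_rc_41_2 lc_h_rc_47_1 lc_h_rc_40_0 lc_h_rc_40_0 lc_h_rc_41_0 lc_h_rc_40_0 lc_h_rc_41_0) (@D3.rec (fun _ => (Cert rels S Gen.h)) lc_h_Cert_tree lc_h_rc_40_0 lc_h_rc_29_3 lc_h_rc_41_0 lc_h_rc_22_1 lc_h_rc_40_0 lc_h_rc_5_3 lc_h_rc_41_0 lc_h_rc_41_0 lc_h_Cert_tree lc_h_rc_40_0 lc_h_Cert_tree lc_h_Cert_tree lc_h_rc_40_0 lc_h_rc_40_0 lc_h_Cert_tree lc_h_Cert_tree lc_h_rc_40_0 lc_h_rc_35_1 lc_h_Cert_tree lc_h_rc_42_1 lc_h_Cert_tree lc_h_rc_40_0 lc_h_Cert_tree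 lc_h_rc_40_0 lc_h_rc_42_1 lc_h_rc_41_2 lc_h_Cert_tree lc_h_Cert_tree lc_h_rc_40_0 lc_h_rc_35_1 lc_h_Cert_tree lc_h_rc_40_0 lc_h_rc_40_0 lc_h_rc_29_3 lc_h_rc_42_1 lc_h_rc_35_1 lc_h_Cert_tree lc_h_rc_40_0 lc_h_rc_41_0 lc_h_Cert_tree lc_h_rc_51_1 lc_h_Cert_tree lc_h_rc_40_0 lc_h_rc_40_0 lc_h_rc_42_1 lc_h_rc_5_1 lc_h_rc_29_3 lc_h_rc_35_1 lc_h_Cert_tree lc_h_rc_40_0) (@D3.rec (fun _ => (Cert rels S Gen.h)) lc_h_rc_47_1 lc_h_Cert_tree lc_h_rc_40_0 lc_h_rc_51_3 lc_h_rc_22_1 lc_h_rc_5_1 lc_h_rc_22_3 lc_h_Cert_tree lc_h_rc_41_0 lc_h_rc_41_0 lc_h_Cert_tree lc_h_rc_35_1 lc_h_Cert_tree lc_h_rc_40_0 lc_h_rc_51_1 lc_h_Cert_tree lc_h_rc_40_0 lc_h_rc_51_1 lc_h_Cert_tree lc_h_rc_22_1 lc_h_Cert_tree lc_h_rc_40_0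 lc_h_rc_51_1 lc_h_Cert_tree lc_h_rc_40_0 lc_h_Cert_tree lc_h_rc_40_0 lc_h_rc_47_1 lc_h_Cert_tree lc_h_rc_40_0 lc_h_rc_29_3 lc_h_rc_47_1 lc_h_Cert_tree lc_h_rc_40_0 lc_h_rc_35_1 lc_h_rc_5_1 lc_h_rc_41_2 lc_h_rc_41_2 lc_h_rc_22_3 lc_h_rc_35_1 lc_h_rc_41_2 lc_h_rc_40_0 lc_h_rc_29_3 lc_h_rc_41_2 lc_h_rc_41_2 lc_h_rc_40_0 lc_h_Cert_tree lc_h_rc_40_0 lc_h_rc_29_3 lc_h_rc_40_0 lc_h_rc_14_1) (@D3.rec (fun _ => (Cert rels S Gen.h)) lc_h_rc_29_3 lc_h_rc_51_1 lc_h_rc_41_2 lc_h_rc_42_1 lc_h_rc_41_2 lc_h_rc_35_1 lc_h_Cert_tree lc_h_Cert_tree lc_h_rc_40_0 lc_h_rc_35_1 lc_h_Cert_tree lc_h_rc_22_1 lc_h_rc_41_0 lc_h_Cert_tree lc_h_Cert_tree lc_h_rc_40_0 lc_h_rc_22_1 lc_h_Cert_tree lc_h_rc_40_0 lc_h_rc_47_1 lc_h_Cert_tree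 lc_h_rc_40_0 lc_h_Cert_tree lc_h_rc_40_0 lc_h_rc_29_3 lc_h_rc_5_1 lc_h_Cert_tree lc_h_rc_40_0 lc_h_rc_5_1 lc_h_Cert_tree lc_h_rc_40_0 lc_h_Cert_tree lc_h_rc_40_0 lc_h_rc_29_3 lc_h_rc_40_0 lc_h_rc_14_1 lc_h_rc_5_3 lc_h_Cert_tree lc_h_rc_40_0 lc_h_rc_51_1 lc_h_Cert_tree lc_h_rc_40_0 lc_h_rc_40_0 lc_h_rc_14_1 lc_h_rc_41_2 lc_h_rc_5_1 lc_h_rc_42_1 lc_h_rc_41_0 lc_h_Cert_tree lc_h_Cert_tree lc_h_rc_40_0) (@D3.rec (fun _ => (Cert rels S Gen.h)) lc_h_rc_42_1 lc_h_rc_35_1 lc_h_Cert_tree lc_h_rc_22_1 lc_h_Cert_tree lc_h_Cert_tree lc_h_rc_40_0 lc_h_rc_40_0 lc_h_rc_56_41 lc_h_rc_47_1 lc_h_rc_5_3 lc_h_rc_51_1 lc_h_Cert_tree lc_h_rc_41_0 lc_h_rc_35_1 lc_h_Cert_tree lc_h_rc_41_0 lc_h_Cert_tree lc_h_rc_40_0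 lc_h_rc_41_0 lc_h_rc_14_1 lc_h_Cert_tree lc_h_rc_42_1 lc_h_Cert_tree lc_h_rc_40_0 lc_h_Cert_tree lc_h_rc_41_0 lc_h_Cert_tree lc_h_rc_40_0 lc_h_Cert_tree lc_h_rc_40_0 lc_h_rc_40_0 lc_h_rc_40_0 lc_h_rc_29_3 lc_h_rc_42_1 lc_h_rc_5_1 lc_h_Cert_tree lc_h_rc_14_1 lc_h_rc_5_1 lc_h_Cert_tree lc_h_Cert_tree lc_h_rc_40_0 lc_h_rc_5_1 lc_h_rc_14_1 lc_h_Cert_tree lc_h_rc_5_3 lc_h_Cert_tree lc_h_rc_40_0 lc_h_rc_40_0 lc_h_rc_51_1 lc_h_Cert_tree) (@D3.rec (fun _ => (Cert rels S Gen.h)) lc_h_rc_40_0 lc_h_Cert_tree lc_h_rc_40_0 lc_h_rc_29_3 lc_h_rc_40_0 lc_h_rc_14_1 lc_h_rc_35_1 lc_h_rc_35_3 lc_h_rc_35_1 lc_h_Cert_tree lc_h_rc_47_1 lc_h_rc_41_2 lc_h_rc_42_1 lc_h_rc_35_1 lc_h_Cert_tree lc_h_rc_14_1 lc_h_rc_35_1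 lc_h_Cert_tree lc_h_rc_35_1 lc_h_Cert_tree lc_h_rc_40_0 lc_h_rc_14_1 lc_h_Cert_tree lc_h_rc_40_0 lc_h_rc_14_1 lc_h_Cert_tree lc_h_rc_42_1 lc_h_Cert_tree lc_h_rc_40_0 lc_h_rc_42_1 lc_h_Cert_tree lc_h_rc_40_0 lc_h_Cert_tree lc_h_rc_40_0 lc_h_rc_40_0 lc_h_rc_41_2 lc_h_rc_51_1 lc_h_Cert_tree lc_h_rc_40_0 lc_h_rc_47_1 lc_h_rc_35_1 lc_h_Cert_tree lc_h_rc_14_1 lc_h_rc_35_1 lc_h_Cert_tree lc_h_rc_35_1 lc_h_Cert_tree lc_h_rc_40_0 lc_h_rc_41_0 lc_h_rc_35_1 lc_h_Cert_tree) (@D3.rec (fun _ => (Cert rels S Gen.h)) lc_h_Cert_tree lc_h_rc_35_1 lc_h_Cert_tree lc_h_rc_40_0 lc_h_rc_35_1 lc_h_Cert_tree lc_h_rc_40_0 lc_h_rc_51_1 lc_h_rc_5_3 lc_h_Cert_tree lc_h_rc_51_1 lc_h_Cert_tree lc_h_rc_40_0 lc_h_Cert_tree lc_h_rc_40_0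 lc_h_rc_47_1 lc_h_Cert_tree lc_h_rc_14_1 lc_h_Cert_tree lc_h_rc_40_0 lc_h_rc_47_1 lc_h_Cert_tree lc_h_rc_40_0 lc_h_rc_29_3 lc_h_rc_51_1 lc_h_Cert_tree lc_h_rc_40_0 lc_h_Cert_tree lc_h_rc_40_0 lc_h_rc_47_1 lc_h_Cert_tree lc_h_rc_40_0 lc_h_rc_14_1 lc_h_rc_51_1 lc_h_Cert_tree lc_h_rc_40_0 lc_h_rc_29_3 lc_h_rc_35_1 lc_h_Cert_tree lc_h_rc_40_0 lc_h_rc_51_1 lc_h_Cert_tree lc_h_rc_40_0 lc_h_Cert_tree lc_h_Cert_tree lc_h_Cert_tree lc_h_rc_40_0 lc_h_rc_40_0 lc_h_Cert_tree lc_h_Cert_tree lc_h_Cert_tree) (@D3.rec (fun _ => (Cert rels S Gen.h)) lc_h_rc_40_0 lc_h_rc_40_0 lc_h_Cert_tree lc_h_rc_40_0 lc_h_rc_29_3 lc_h_Cert_tree lc_h_rc_40_0 lc_h_rc_29_3 lc_h_rc_40_0 lc_h_rc_14_1 lc_h_rc_35_1 lc_h_rc_40_0 lc_h_rc_40_0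 lc_h_rc_40_0 lc_h_rc_40_0 lc_h_rc_22_1 lc_h_rc_40_0 lc_h_Cert_tree lc_h_Cert_tree lc_h_Cert_tree lc_h_rc_40_0 lc_h_Cert_tree lc_h_rc_40_0 lc_h_Cert_tree lc_h_rc_40_0 lc_h_rc_40_0 lc_h_Cert_tree lc_h_rc_40_0 lc_h_rc_40_0 lc_h_rc_29_3 lc_h_Cert_tree lc_h_rc_40_0 lc_h_Cert_tree lc_h_rc_40_0 lc_h_rc_40_0 lc_h_rc_40_0 lc_h_rc_29_3 lc_h_Cert_tree lc_h_rc_40_0 lc_h_Cert_tree lc_h_Cert_tree lc_h_rc_40_0 lc_h_Cert_tree lc_h_rc_40_0 lc_h_Cert_tree lc_h_Cert_tree lc_h_rc_40_0 lc_h_Cert_tree lc_h_rc_40_0 lc_h_rc_29_3 lc_h_rc_29_3) (@D3.rec (fun _ => (Cert rels S Gen.h)) lc_h_rc_40_0 lc_h_rc_40_0 lc_h_rc_40_0 lc_h_rc_40_0 lc_h_rc_29_3 lc_h_rc_40_0 lc_h_rc_14_1 lc_h_rc_35_1 lc_h_rc_40_0 lc_h_rc_42_1 lc_h_rc_5_1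 lc_h_Cert_tree lc_h_rc_40_0 lc_h_rc_41_0 lc_h_rc_5_1 lc_h_rc_47_3 lc_h_rc_35_1 lc_h_Cert_tree lc_h_Cert_tree lc_h_Cert_tree lc_h_rc_40_0 lc_h_rc_40_0 lc_h_rc_14_1 lc_h_Cert_tree lc_h_rc_40_0 lc_h_Cert_tree lc_h_rc_40_0 lc_h_rc_42_1 lc_h_rc_40_0 lc_h_rc_29_3 lc_h_rc_42_1 lc_h_rc_35_1 lc_h_Cert_tree lc_h_Cert_tree lc_h_rc_40_0 lc_h_Cert_tree lc_h_rc_40_0 lc_h_rc_40_0 lc_h_rc_42_1 lc_h_Cert_tree lc_h_rc_35_1 lc_h_Cert_tree lc_h_rc_41_0 lc_h_Cert_tree lc_h_rc_40_0 lc_h_rc_40_0 lc_h_rc_41_0 lc_h_Cert_tree lc_h_rc_40_0 lc_h_Cert_tree lc_h_rc_40_0) (@D3.rec (fun _ => (Cert rels S Gen.h)) lc_h_Cert_tree lc_h_Cert_tree lc_h_rc_40_0 lc_h_rc_40_0 lc_h_rc_29_3 lc_h_Cert_tree lc_h_Cert_tree lc_h_rc_40_0 lc_h_rc_40_0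 lc_h_rc_29_3 lc_h_rc_40_0 lc_h_rc_14_1 lc_h_rc_35_1 lc_h_rc_42_1 lc_h_rc_35_1 lc_h_Cert_tree lc_h_Cert_tree lc_h_rc_40_0 lc_h_Cert_tree lc_h_rc_40_0 lc_h_rc_51_3 lc_h_rc_41_2 lc_h_rc_35_1 lc_h_Cert_tree lc_h_rc_35_1 lc_h_Cert_tree lc_h_Cert_tree lc_h_rc_40_0 lc_h_rc_40_0 lc_h_rc_40_0 lc_h_Cert_tree lc_h_rc_40_0 lc_h_rc_29_3 lc_h_Cert_tree lc_h_rc_40_0 lc_h_rc_40_0 lc_h_rc_40_0 lc_h_rc_29_3 lc_h_rc_40_0 lc_h_rc_14_1 lc_h_rc_35_1 lc_h_rc_14_1 lc_h_rc_35_1 lc_h_Cert_tree lc_h_Cert_tree lc_h_rc_40_0 lc_h_Cert_tree lc_h_rc_40_0 lc_h_Cert_tree lc_h_rc_40_0 lc_h_rc_40_0) (@D3.rec (fun _ => (Cert rels S Gen.h)) lc_h_rc_41_2 lc_h_rc_22_1 lc_h_rc_35_1 lc_h_Cert_tree lc_h_rc_42_1 lc_h_rc_29_5 lc_h_Cert_tree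 lc_h_Cert_tree lc_h_rc_40_0 lc_h_rc_41_0 lc_h_rc_35_1 lc_h_Cert_tree lc_h_Cert_tree lc_h_rc_5_3 lc_h_Cert_tree lc_h_rc_40_0 lc_h_rc_35_1 lc_h_Cert_tree lc_h_rc_40_0 lc_h_Cert_tree lc_h_rc_40_0 lc_h_Cert_tree lc_h_rc_42_1 lc_h_Cert_tree lc_h_rc_40_0 lc_h_rc_5_3 lc_h_Cert_tree lc_h_rc_40_0 lc_h_rc_29_3 lc_h_rc_47_1 lc_h_Cert_tree lc_h_rc_40_0 lc_h_Cert_tree lc_h_rc_40_0 lc_h_Cert_tree lc_h_rc_40_0 lc_h_rc_14_1 lc_h_Cert_tree lc_h_rc_40_0 lc_h_rc_29_3 lc_h_rc_35_1 lc_h_rc_29_3 lc_h_rc_40_0 lc_h_rc_41_2 lc_h_Cert_tree lc_h_rc_40_0 lc_h_Cert_tree lc_h_rc_40_0 lc_h_Cert_tree lc_h_rc_42_1 lc_h_Cert_tree) (@D3.rec (fun _ => (Cert rels S Gen.h)) lc_h_rc_40_0 lc_h_rc_40_0 lc_h_Cert_tree lc_h_rc_40_0 lc_h_rc_29_3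 lc_h_rc_40_0 lc_h_rc_29_3 lc_h_rc_40_0 lc_h_rc_14_1 lc_h_rc_35_1 lc_h_rc_5_1 lc_h_rc_22_1 lc_h_rc_14_1 lc_h_rc_42_1 lc_h_Cert_tree lc_h_rc_22_3 lc_h_rc_40_0 lc_h_Cert_tree lc_h_rc_40_0 lc_h_rc_22_3 lc_h_rc_40_0 lc_h_rc_40_0 lc_h_rc_29_3 lc_h_rc_29_5 lc_h_rc_47_1 lc_h_rc_47_1 lc_h_rc_5_1 lc_h_rc_41_0 lc_h_Cert_tree lc_h_Cert_tree lc_h_rc_40_0 lc_h_rc_40_0 lc_h_rc_5_3 lc_h_Cert_tree lc_h_rc_47_1 lc_h_rc_41_2 lc_h_rc_35_1 lc_h_Cert_tree lc_h_rc_35_1 lc_h_Cert_tree lc_h_rc_40_0 lc_h_Cert_tree lc_h_rc_40_0 lc_h_Cert_tree lc_h_rc_40_0 lc_h_rc_47_1 lc_h_rc_35_1 lc_h_Cert_tree lc_h_rc_14_1 lc_h_rc_41_0 lc_h_Cert_tree) (@D3.rec (fun _ => (Cert rels S Gen.h)) lc_h_rc_42_1 lc_h_Cert_tree lc_h_rc_40_0 lc_h_rc_14_1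 lc_h_Cert_tree lc_h_rc_47_1 lc_h_rc_41_0 lc_h_Cert_tree lc_h_rc_40_0 lc_h_Cert_tree lc_h_rc_40_0 lc_h_rc_41_0 lc_h_Cert_tree lc_h_rc_42_1 lc_h_Cert_tree lc_h_rc_40_0 lc_h_rc_47_1 lc_h_Cert_tree lc_h_rc_40_0 lc_h_rc_41_0 lc_h_Cert_tree lc_h_rc_40_0 lc_h_Cert_tree lc_h_rc_40_0 lc_h_rc_40_0 lc_h_rc_40_0 lc_h_rc_29_3 lc_h_rc_41_2 lc_h_rc_41_2 lc_h_rc_14_1 lc_h_rc_51_1 lc_h_rc_5_1 lc_h_rc_5_1 lc_h_rc_47_1 lc_h_rc_14_1 lc_h_Cert_tree lc_h_rc_5_1 lc_h_rc_40_0 lc_h_rc_40_0 lc_h_rc_51_1 lc_h_rc_51_1 lc_h_Cert_tree lc_h_rc_35_1 lc_h_Cert_tree lc_h_Cert_tree lc_h_rc_40_0 lc_h_rc_40_0 lc_h_rc_51_1 lc_h_rc_47_1 lc_h_Cert_tree lc_h_rc_35_3) (@D3.rec (fun _ => (Cert rels S Gen.h)) lc_h_rc_41_0 lc_h_Cert_tree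 lc_h_Cert_tree lc_h_rc_40_0 lc_h_rc_47_1 lc_h_rc_41_0 lc_h_Cert_tree lc_h_Cert_tree lc_h_Cert_tree lc_h_rc_40_0 lc_h_rc_40_0 lc_h_rc_51_1 lc_h_Cert_tree lc_h_rc_40_0 lc_h_Cert_tree lc_h_rc_40_0 lc_h_rc_40_0 lc_h_rc_29_5 lc_h_rc_42_1 lc_h_rc_41_2 lc_h_rc_41_2 lc_h_rc_42_1 lc_h_rc_41_2 lc_h_rc_40_0 lc_h_Cert_tree lc_h_rc_41_2 lc_h_rc_14_1 lc_h_rc_51_1 lc_h_Cert_tree lc_h_Cert_tree lc_h_rc_40_0 lc_h_rc_47_1 lc_h_rc_35_1 lc_h_Cert_tree lc_h_rc_14_1 lc_h_rc_35_1 lc_h_Cert_tree lc_h_Cert_tree lc_h_rc_40_0 lc_h_rc_5_1 lc_h_rc_35_1 lc_h_Cert_tree lc_h_Cert_tree lc_h_rc_35_1 lc_h_Cert_tree lc_h_rc_40_0 lc_h_rc_35_1 lc_h_Cert_tree lc_h_rc_40_0 lc_h_rc_5_1 lc_h_rc_14_1) (@D3.rec (fun _ => (Cert rels S Gen.h))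 lc_h_Cert_tree lc_h_Cert_tree lc_h_rc_40_0 lc_h_rc_40_0 lc_h_Cert_tree lc_h_rc_14_1 lc_h_Cert_tree lc_h_rc_40_0 lc_h_rc_42_1 lc_h_Cert_tree lc_h_rc_40_0 lc_h_rc_42_1 lc_h_Cert_tree lc_h_rc_40_0 lc_h_rc_40_0 lc_h_rc_40_0 lc_h_rc_22_1 lc_h_Cert_tree lc_h_rc_40_0 lc_h_rc_29_3 lc_h_Cert_tree lc_h_rc_40_0 lc_h_rc_35_1 lc_h_Cert_tree lc_h_rc_42_1 lc_h_Cert_tree lc_h_rc_40_0 lc_h_rc_35_1 lc_h_Cert_tree lc_h_rc_51_3 lc_h_rc_29_5 lc_h_Cert_tree lc_h_rc_40_0 lc_h_rc_47_1 lc_h_Cert_tree lc_h_rc_40_0 lc_h_rc_5_1 lc_h_Cert_tree lc_h_rc_51_1 lc_h_rc_35_1 lc_h_Cert_tree lc_h_rc_40_0 lc_h_Cert_tree lc_h_rc_40_0 lc_h_Cert_tree lc_h_rc_35_1 lc_h_Cert_tree lc_h_rc_40_0 lc_h_rc_29_3 lc_h_rc_35_1 lc_h_Cert_tree)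
def ce_h_13 : D2 → D3 → (Cert rels S Gen.h) := @D2.rec (fun _ => D3 → (Cert rels S Gen.h)) (@D3.rec (fun _ => (Cert rels S Gen.h)) lc_h_rc_40_0 lc_h_rc_29_3 lc_h_rc_51_1 lc_h_Cert_tree lc_h_rc_35_3 lc_h_Cert_tree lc_h_rc_40_0 lc_h_Cert_tree lc_h_rc_40_0 lc_h_rc_29_3 lc_h_rc_51_1 lc_h_Cert_tree lc_h_rc_40_0 lc_h_rc_47_1 lc_h_Cert_tree lc_h_rc_40_0 lc_h_rc_47_1 lc_h_Cert_tree lc_h_rc_40_0 lc_h_rc_14_1 lc_h_rc_42_1 lc_h_Cert_tree lc_h_rc_40_0 lc_h_rc_29_3 lc_h_rc_35_1 lc_h_Cert_tree lc_h_rc_40_0 lc_h_rc_40_0 lc_h_rc_51_1 lc_h_Cert_tree lc_h_rc_40_0 lc_h_rc_14_1 lc_h_Cert_tree lc_h_rc_40_0 lc_h_rc_29_3 lc_h_rc_29_3 lc_h_rc_40_0 lc_h_rc_51_1 lc_h_rc_5_3 lc_h_rc_29_3 lc_h_Cert_tree lc_h_rc_40_0 lc_h_rc_35_1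 lc_h_rc_35_1 lc_h_rc_42_1 lc_h_rc_40_0 lc_h_Cert_tree lc_h_rc_40_0 lc_h_rc_41_2 lc_h_rc_14_1 lc_h_rc_22_1) (@D3.rec (fun _ => (Cert rels S Gen.h)) lc_h_Cert_tree lc_h_Cert_tree lc_h_rc_40_0 lc_h_rc_5_1 lc_h_rc_14_1 lc_h_Cert_tree lc_h_Cert_tree lc_h_Cert_tree lc_h_rc_40_0 lc_h_rc_40_0 lc_h_rc_47_1 lc_h_rc_41_2 lc_h_rc_29_3 lc_h_rc_41_2 lc_h_rc_41_2 lc_h_rc_29_3 lc_h_rc_47_1 lc_h_rc_40_0 lc_h_Cert_tree lc_h_rc_41_2 lc_h_rc_41_2 lc_h_rc_41_0 lc_h_rc_42_1 lc_h_rc_14_1 lc_h_rc_29_3 lc_h_rc_14_1 lc_h_rc_5_1 lc_h_rc_5_1 lc_h_rc_42_1 lc_h_rc_29_3 lc_h_rc_14_1 lc_h_rc_14_1 lc_h_rc_5_1 lc_h_rc_22_1 lc_h_rc_14_1 lc_h_rc_14_1 lc_h_rc_41_2 lc_h_rc_41_2 lc_h_rc_41_2 lc_h_rc_40_0 lc_h_rc_14_1 lc_h_rc_29_3 lc_h_Cert_tree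 lc_h_rc_40_0 lc_h_Cert_tree lc_h_rc_40_0 lc_h_rc_29_3 lc_h_rc_14_1 lc_h_rc_5_1 lc_h_rc_5_1 lc_h_rc_42_1) (@D3.rec (fun _ => (Cert rels S Gen.h)) lc_h_rc_47_1 lc_h_rc_14_1 lc_h_rc_40_0 lc_h_rc_5_1 lc_h_rc_22_1 lc_h_rc_14_1 lc_h_rc_5_1 lc_h_rc_22_1 lc_h_rc_14_1 lc_h_rc_42_1 lc_h_rc_14_1 lc_h_Cert_tree lc_h_rc_40_0 lc_h_rc_29_3 lc_h_rc_51_3 lc_h_rc_40_0 lc_h_rc_29_3 lc_h_rc_40_0 lc_h_rc_14_1 lc_h_rc_35_1 lc_h_Cert_tree lc_h_Cert_tree lc_h_rc_40_0 lc_h_rc_35_1 lc_h_rc_35_1 lc_h_rc_42_1 lc_h_rc_5_1 lc_h_rc_14_1 lc_h_Cert_tree lc_h_rc_40_0 lc_h_Cert_tree lc_h_rc_40_0 lc_h_Cert_tree lc_h_Cert_tree lc_h_rc_40_0 lc_h_Cert_tree lc_h_rc_40_0 lc_h_rc_29_3 lc_h_rc_42_3 lc_h_rc_40_0 lc_h_rc_29_3 lc_h_rc_22_1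 lc_h_rc_5_1 lc_h_rc_35_3 lc_h_rc_40_0 lc_h_rc_29_3 lc_h_Cert_tree lc_h_rc_40_0 lc_h_Cert_tree lc_h_rc_40_0 lc_h_rc_14_1) (@D3.rec (fun _ => (Cert rels S Gen.h)) lc_h_rc_22_1 lc_h_rc_40_0 lc_h_rc_29_3 lc_h_rc_29_3 lc_h_rc_42_1 lc_h_Cert_tree lc_h_rc_40_0 lc_h_rc_14_1 lc_h_rc_40_0 lc_h_rc_14_1 lc_h_rc_22_1 lc_h_rc_29_3 lc_h_rc_40_0 lc_h_rc_40_0 lc_h_Cert_tree lc_h_rc_40_0 lc_h_Cert_tree lc_h_rc_40_0 lc_h_rc_41_2 lc_h_rc_40_0 lc_h_rc_40_0 lc_h_rc_40_0 lc_h_rc_40_0 lc_h_rc_29_3 lc_h_rc_5_3 lc_h_rc_40_0 lc_h_rc_29_3 lc_h_rc_47_1 lc_h_rc_29_3 lc_h_rc_5_3 lc_h_rc_40_0 lc_h_rc_22_1 lc_h_rc_29_3 lc_h_Cert_tree lc_h_rc_40_0 lc_h_rc_42_1 lc_h_rc_51_1 lc_h_Cert_tree lc_h_rc_40_0 lc_h_Cert_tree lc_h_rc_40_0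 lc_h_rc_40_0 lc_h_rc_29_3 lc_h_rc_22_1 lc_h_rc_35_1 lc_h_rc_40_0 lc_h_Cert_tree lc_h_rc_40_0 lc_h_Cert_tree lc_h_rc_40_0 lc_h_rc_29_3) (@D3.rec (fun _ => (Cert rels S Gen.h)) lc_h_rc_40_0 lc_h_rc_14_1 lc_h_rc_22_1 lc_h_rc_35_1 lc_h_Cert_tree lc_h_rc_51_1 lc_h_Cert_tree lc_h_rc_51_3 lc_h_Cert_tree lc_h_Cert_tree lc_h_rc_40_0 lc_h_rc_14_3 lc_h_rc_40_0 lc_h_Cert_tree lc_h_rc_40_0 lc_h_rc_14_3 lc_h_rc_40_0 lc_h_Cert_tree lc_h_Cert_tree lc_h_rc_40_0 lc_h_rc_40_0 lc_h_rc_40_0 lc_h_rc_22_3 lc_h_Cert_tree lc_h_rc_40_0 lc_h_rc_5_3 lc_h_rc_40_0 lc_h_rc_29_3 lc_h_rc_42_1 lc_h_rc_41_2 lc_h_rc_47_1 lc_h_Cert_tree lc_h_rc_14_1 lc_h_rc_22_1 lc_h_Cert_tree lc_h_rc_40_0 lc_h_rc_5_3 lc_h_rc_22_1 lc_h_rc_47_3 lc_h_rc_35_1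 lc_h_Cert_tree lc_h_rc_47_1 lc_h_Cert_tree lc_h_rc_47_1 lc_h_rc_47_1 lc_h_Cert_tree lc_h_rc_42_1 lc_h_Cert_tree lc_h_rc_40_0 lc_h_rc_14_1 lc_h_rc_14_1) (@D3.rec (fun _ => (Cert rels S Gen.h)) lc_h_Cert_tree lc_h_Cert_tree lc_h_rc_40_0 lc_h_rc_40_0 lc_h_rc_42_1 lc_h_rc_14_3 lc_h_Cert_tree lc_h_rc_40_0 lc_h_rc_29_3 lc_h_rc_41_2 lc_h_rc_47_1 lc_h_rc_41_4 lc_h_Cert_tree lc_h_rc_40_0 lc_h_rc_41_4 lc_h_rc_40_0 lc_h_rc_41_0 lc_h_rc_35_1 lc_h_Cert_tree lc_h_Cert_tree lc_h_rc_40_0 lc_h_rc_40_0 lc_h_rc_41_0 lc_h_Cert_tree lc_h_rc_40_0 lc_h_rc_47_1 lc_h_Cert_tree lc_h_rc_40_0 lc_h_rc_29_5 lc_h_rc_29_3 lc_h_rc_14_3 lc_h_rc_40_0 lc_h_rc_42_1 lc_h_rc_41_2 lc_h_rc_35_1 lc_h_Cert_tree lc_h_Cert_tree lc_h_rc_42_1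 lc_h_Cert_tree lc_h_rc_40_0 lc_h_rc_47_1 lc_h_Cert_tree lc_h_rc_40_0 lc_h_rc_35_1 lc_h_Cert_tree lc_h_rc_41_0 lc_h_Cert_tree lc_h_rc_35_1 lc_h_Cert_tree lc_h_rc_40_0 lc_h_rc_40_0) (@D3.rec (fun _ => (Cert rels S Gen.h)) lc_h_rc_40_0 lc_h_rc_42_1 lc_h_Cert_tree lc_h_rc_40_0 lc_h_rc_40_0 lc_h_rc_47_1 lc_h_Cert_tree lc_h_rc_40_0 lc_h_rc_47_1 lc_h_Cert_tree lc_h_rc_40_0 lc_h_rc_29_3 lc_h_rc_51_1 lc_h_Cert_tree lc_h_rc_40_0 lc_h_rc_29_3 lc_h_rc_5_3 lc_h_rc_40_0 lc_h_rc_29_3 lc_h_rc_22_1 lc_h_rc_40_0 lc_h_rc_47_1 lc_h_rc_41_2 lc_h_rc_40_0 lc_h_rc_42_1 lc_h_rc_41_2 lc_h_rc_42_1 lc_h_rc_35_1 lc_h_Cert_tree lc_h_rc_22_1 lc_h_rc_51_1 lc_h_Cert_tree lc_h_Cert_tree lc_h_rc_42_1 lc_h_Cert_tree lc_h_rc_40_0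 lc_h_rc_40_0 lc_h_rc_40_0 lc_h_rc_47_1 lc_h_rc_22_1 lc_h_rc_42_1 lc_h_rc_35_1 lc_h_Cert_tree lc_h_rc_41_0 lc_h_rc_35_1 lc_h_Cert_tree lc_h_rc_35_1 lc_h_Cert_tree lc_h_rc_40_0 lc_h_rc_41_0 lc_h_Cert_tree) (@D3.rec (fun _ => (Cert rels S Gen.h)) lc_h_rc_42_1 lc_h_Cert_tree lc_h_rc_40_0 lc_h_Cert_tree lc_h_rc_41_0 lc_h_Cert_tree lc_h_rc_40_0 lc_h_Cert_tree lc_h_rc_40_0 lc_h_rc_40_0 lc_h_rc_40_0 lc_h_rc_29_3 lc_h_rc_29_3 lc_h_rc_47_1 lc_h_Cert_tree lc_h_rc_40_0 lc_h_rc_40_0 lc_h_rc_29_3 lc_h_rc_22_1 lc_h_Cert_tree lc_h_rc_40_0 lc_h_rc_14_1 lc_h_Cert_tree lc_h_Cert_tree lc_h_Cert_tree lc_h_rc_40_0 lc_h_rc_40_0 lc_h_rc_40_0 lc_h_rc_40_0 lc_h_rc_29_3 lc_h_rc_40_0 lc_h_rc_14_1 lc_h_rc_35_1 lc_h_rc_40_0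 lc_h_Cert_tree lc_h_rc_40_0 lc_h_rc_40_0 lc_h_rc_51_1 lc_h_rc_51_1 lc_h_rc_14_1 lc_h_rc_42_1 lc_h_rc_40_0 lc_h_rc_42_1 lc_h_rc_5_1 lc_h_rc_51_1 lc_h_rc_5_1 lc_h_Cert_tree lc_h_rc_40_0 lc_h_rc_40_0 lc_h_rc_42_1 lc_h_rc_22_1) (@D3.rec (fun _ => (Cert rels S Gen.h)) lc_h_rc_41_0 lc_h_rc_35_1 lc_h_Cert_tree lc_h_rc_41_0 lc_h_Cert_tree lc_h_Cert_tree lc_h_rc_14_3 lc_h_Cert_tree lc_h_rc_40_0 lc_h_rc_40_0 lc_h_rc_40_0 lc_h_Cert_tree lc_h_rc_40_0 lc_h_rc_29_3 lc_h_rc_22_1 lc_h_rc_41_2 lc_h_rc_42_1 lc_h_rc_41_2 lc_h_rc_42_1 lc_h_rc_35_1 lc_h_Cert_tree lc_h_Cert_tree lc_h_Cert_tree lc_h_rc_42_1 lc_h_Cert_tree lc_h_rc_40_0 lc_h_rc_40_0 lc_h_rc_40_0 lc_h_rc_51_1 lc_h_rc_40_0 lc_h_rc_35_1 lc_h_Cert_tree lc_h_rc_35_1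 lc_h_Cert_tree lc_h_rc_35_1 lc_h_Cert_tree lc_h_rc_40_0 lc_h_rc_40_0 lc_h_rc_40_0 lc_h_rc_41_0 lc_h_Cert_tree lc_h_rc_40_0 lc_h_rc_29_3 lc_h_rc_41_0 lc_h_Cert_tree lc_h_rc_40_0 lc_h_rc_29_3 lc_h_rc_5_1 lc_h_Cert_tree lc_h_rc_40_0 lc_h_rc_29_3) (@D3.rec (fun _ => (Cert rels S Gen.h)) lc_h_Cert_tree lc_h_rc_40_0 lc_h_rc_29_3 lc_h_rc_40_0 lc_h_rc_40_0 lc_h_rc_29_3 lc_h_rc_51_1 lc_h_rc_41_2 lc_h_rc_5_1 lc_h_rc_47_1 lc_h_Cert_tree lc_h_rc_47_1 lc_h_rc_41_2 lc_h_rc_42_1 lc_h_rc_35_1 lc_h_Cert_tree lc_h_rc_14_1 lc_h_rc_35_1 lc_h_Cert_tree lc_h_rc_35_1 lc_h_Cert_tree lc_h_rc_40_0 lc_h_rc_14_1 lc_h_Cert_tree lc_h_rc_42_1 lc_h_Cert_tree lc_h_rc_40_0 lc_h_Cert_tree lc_h_rc_42_1 lc_h_Cert_tree lc_h_rc_40_0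 lc_h_rc_42_1 lc_h_Cert_tree lc_h_rc_40_0 lc_h_rc_40_0 lc_h_rc_40_0 lc_h_rc_41_2 lc_h_rc_51_1 lc_h_Cert_tree lc_h_rc_40_0 lc_h_rc_29_3 lc_h_rc_35_1 lc_h_Cert_tree lc_h_rc_14_1 lc_h_rc_35_1 lc_h_Cert_tree lc_h_rc_35_1 lc_h_Cert_tree lc_h_rc_40_0 lc_h_rc_22_3 lc_h_rc_35_1) (@D3.rec (fun _ => (Cert rels S Gen.h)) lc_h_Cert_tree lc_h_Cert_tree lc_h_rc_35_1 lc_h_Cert_tree lc_h_rc_40_0 lc_h_rc_35_1 lc_h_Cert_tree lc_h_rc_40_0 lc_h_rc_51_1 lc_h_Cert_tree lc_h_rc_40_0 lc_h_rc_47_1 lc_h_Cert_tree lc_h_rc_40_0 lc_h_Cert_tree lc_h_rc_47_1 lc_h_Cert_tree lc_h_rc_40_0 lc_h_rc_47_1 lc_h_Cert_tree lc_h_rc_40_0 lc_h_rc_29_3 lc_h_rc_42_1 lc_h_Cert_tree lc_h_rc_40_0 lc_h_rc_29_3 lc_h_rc_40_0 lc_h_rc_40_0 lc_h_rc_14_1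 lc_h_rc_51_1 lc_h_Cert_tree lc_h_rc_40_0 lc_h_rc_35_1 lc_h_Cert_tree lc_h_rc_40_0 lc_h_rc_29_3 lc_h_rc_22_1 lc_h_rc_51_1 lc_h_Cert_tree lc_h_rc_40_0 lc_h_rc_29_3 lc_h_Cert_tree lc_h_rc_40_0 lc_h_rc_29_3 lc_h_rc_22_1 lc_h_rc_40_0 lc_h_rc_29_3 lc_h_rc_22_1 lc_h_rc_14_1 lc_h_rc_5_1 lc_h_Cert_tree) (@D3.rec (fun _ => (Cert rels S Gen.h)) lc_h_rc_40_0 lc_h_rc_5_1 lc_h_Cert_tree lc_h_Cert_tree lc_h_Cert_tree lc_h_rc_40_0 lc_h_rc_40_0 lc_h_Cert_tree lc_h_rc_40_0 lc_h_rc_29_3 lc_h_Cert_tree lc_h_rc_40_0 lc_h_rc_29_3 lc_h_rc_40_0 lc_h_rc_14_1 lc_h_rc_35_1 lc_h_rc_14_1 lc_h_rc_42_1 lc_h_Cert_tree lc_h_rc_40_0 lc_h_rc_51_1 lc_h_Cert_tree lc_h_rc_40_0 lc_h_rc_40_0 lc_h_rc_14_1 lc_h_rc_40_0 lc_h_rc_14_1 lc_h_rc_51_1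 lc_h_rc_40_0 lc_h_rc_40_0 lc_h_rc_40_0 lc_h_rc_29_3 lc_h_rc_40_0 lc_h_rc_40_0 lc_h_rc_40_0 lc_h_rc_51_1 lc_h_rc_14_1 lc_h_Cert_tree lc_h_rc_47_1 lc_h_rc_5_1 lc_h_rc_22_1 lc_h_rc_35_1 lc_h_Cert_tree lc_h_rc_40_0 lc_h_rc_47_1 lc_h_rc_5_1 lc_h_rc_5_1 lc_h_Cert_tree lc_h_Cert_tree lc_h_Cert_tree lc_h_rc_40_0) (@D3.rec (fun _ => (Cert rels S Gen.h)) lc_h_rc_40_0 lc_h_rc_40_0 lc_h_Cert_tree lc_h_rc_14_1 lc_h_Cert_tree lc_h_rc_42_1 lc_h_Cert_tree lc_h_rc_40_0 lc_h_Cert_tree lc_h_Cert_tree lc_h_rc_40_0 lc_h_Cert_tree lc_h_rc_40_0 lc_h_Cert_tree lc_h_rc_40_0 lc_h_rc_40_0 lc_h_rc_29_3 lc_h_rc_40_0 lc_h_rc_29_3 lc_h_rc_40_0 lc_h_Cert_tree lc_h_Cert_tree lc_h_rc_51_1 lc_h_Cert_tree lc_h_rc_40_0 lc_h_rc_51_1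 lc_h_rc_41_2 lc_h_rc_22_1 lc_h_Cert_tree lc_h_rc_14_1 lc_h_rc_22_1 lc_h_Cert_tree lc_h_Cert_tree lc_h_rc_40_0 lc_h_Cert_tree lc_h_Cert_tree lc_h_Cert_tree lc_h_rc_41_0 lc_h_Cert_tree lc_h_rc_40_0 lc_h_Cert_tree lc_h_Cert_tree lc_h_rc_40_0 lc_h_rc_40_0 lc_h_Cert_tree lc_h_rc_40_0 lc_h_rc_29_3 lc_h_rc_42_1 lc_h_rc_40_0 lc_h_rc_40_0 lc_h_rc_29_3) (@D3.rec (fun _ => (Cert rels S Gen.h)) lc_h_Cert_tree lc_h_Cert_tree lc_h_Cert_tree lc_h_Cert_tree lc_h_rc_40_0 lc_h_Cert_tree lc_h_Cert_tree lc_h_rc_40_0 lc_h_Cert_tree lc_h_rc_40_0 lc_h_Cert_tree lc_h_rc_40_0 lc_h_rc_40_0 lc_h_Cert_tree lc_h_rc_40_0 lc_h_rc_40_0 lc_h_Cert_tree lc_h_Cert_tree lc_h_rc_40_0 lc_h_Cert_tree lc_h_rc_40_0 lc_h_rc_29_3 lc_h_Cert_tree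 lc_h_rc_40_0 lc_h_rc_29_3 lc_h_rc_29_3 lc_h_rc_29_3 lc_h_rc_22_1 lc_h_rc_29_3 lc_h_rc_40_0 lc_h_rc_14_1 lc_h_rc_35_1 lc_h_rc_40_0 lc_h_rc_40_0 lc_h_Cert_tree lc_h_rc_40_0 lc_h_rc_40_0 lc_h_rc_40_0 lc_h_rc_40_0 lc_h_rc_40_0 lc_h_rc_14_1 lc_h_rc_40_0 lc_h_rc_51_3 lc_h_rc_14_1 lc_h_rc_47_1 lc_h_rc_14_1 lc_h_Cert_tree lc_h_rc_40_0 lc_h_rc_40_0 lc_h_rc_42_1 lc_h_rc_5_1) (@D3.rec (fun _ => (Cert rels S Gen.h)) lc_h_rc_51_1 lc_h_rc_5_1 lc_h_rc_22_1 lc_h_rc_47_1 lc_h_Cert_tree lc_h_Cert_tree lc_h_Cert_tree lc_h_rc_40_0 lc_h_rc_40_0 lc_h_rc_42_1 lc_h_rc_5_1 lc_h_rc_42_1 lc_h_rc_35_1 lc_h_Cert_tree lc_h_Cert_tree lc_h_Cert_tree lc_h_rc_42_1 lc_h_Cert_tree lc_h_rc_40_0 lc_h_Cert_tree lc_h_rc_40_0 lc_h_rc_40_0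 lc_h_Cert_tree lc_h_rc_40_0 lc_h_rc_29_3 lc_h_rc_5_1 lc_h_Cert_tree lc_h_rc_40_0 lc_h_rc_40_0 lc_h_rc_29_3 lc_h_rc_29_3 lc_h_rc_41_2 lc_h_rc_42_1 lc_h_rc_41_2 lc_h_rc_42_1 lc_h_rc_35_1 lc_h_Cert_tree lc_h_Cert_tree lc_h_rc_14_1 lc_h_Cert_tree lc_h_rc_42_1 lc_h_Cert_tree lc_h_rc_40_0 lc_h_Cert_tree lc_h_Cert_tree lc_h_rc_40_0 lc_h_rc_47_1 lc_h_Cert_tree lc_h_rc_40_0 lc_h_rc_42_1 lc_h_rc_22_1) (@D3.rec (fun _ => (Cert rels S Gen.h)) lc_h_rc_35_1 lc_h_Cert_tree lc_h_rc_14_1 lc_h_rc_35_1 lc_h_Cert_tree lc_h_rc_35_1 lc_h_Cert_tree lc_h_rc_40_0 lc_h_rc_40_0 lc_h_Cert_tree lc_h_rc_40_0 lc_h_rc_42_1 lc_h_Cert_tree lc_h_rc_40_0 lc_h_Cert_tree lc_h_Cert_tree lc_h_rc_40_0 lc_h_rc_47_1 lc_h_Cert_tree lc_h_rc_40_0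 lc_h_rc_29_3 lc_h_Cert_tree lc_h_rc_40_0 lc_h_rc_29_3 lc_h_Cert_tree lc_h_rc_40_0 lc_h_rc_29_3 lc_h_rc_40_0 lc_h_rc_29_3 lc_h_rc_22_1 lc_h_rc_42_1 lc_h_rc_40_0 lc_h_Cert_tree lc_h_rc_42_1 lc_h_Cert_tree lc_h_rc_40_0 lc_h_rc_40_0 lc_h_rc_40_0 lc_h_rc_29_3 lc_h_rc_14_1 lc_h_rc_35_1 lc_h_Cert_tree lc_h_rc_42_1 lc_h_rc_40_0 lc_h_rc_40_0 lc_h_rc_42_1 lc_h_rc_41_2 lc_h_rc_41_2 lc_h_Cert_tree lc_h_rc_40_0 lc_h_rc_41_0) (@D3.rec (fun _ => (Cert rels S Gen.h)) lc_h_rc_14_1 lc_h_rc_41_0 lc_h_rc_35_1 lc_h_Cert_tree lc_h_Cert_tree lc_h_rc_47_1 lc_h_Cert_tree lc_h_rc_40_0 lc_h_Cert_tree lc_h_rc_40_0 lc_h_rc_40_0 lc_h_rc_5_1 lc_h_rc_41_2 lc_h_rc_42_1 lc_h_rc_5_1 lc_h_rc_42_1 lc_h_rc_35_1 lc_h_Cert_tree lc_h_rc_22_1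 lc_h_Cert_tree lc_h_rc_14_1 lc_h_rc_22_1 lc_h_Cert_tree lc_h_rc_42_1 lc_h_Cert_tree lc_h_rc_40_0 lc_h_Cert_tree lc_h_Cert_tree lc_h_rc_40_0 lc_h_rc_40_0 lc_h_rc_47_1 lc_h_rc_5_1 lc_h_rc_42_1 lc_h_rc_35_1 lc_h_Cert_tree lc_h_rc_14_1 lc_h_rc_35_1 lc_h_Cert_tree lc_h_rc_35_1 lc_h_Cert_tree lc_h_rc_40_0 lc_h_Cert_tree lc_h_rc_41_0 lc_h_Cert_tree lc_h_rc_40_0 lc_h_rc_22_1 lc_h_Cert_tree lc_h_rc_42_1 lc_h_Cert_tree lc_h_rc_40_0 lc_h_Cert_tree) (@D3.rec (fun _ => (Cert rels S Gen.h)) lc_h_rc_40_0 lc_h_Cert_tree lc_h_Cert_tree lc_h_rc_40_0 lc_h_rc_40_0 lc_h_rc_29_3 lc_h_rc_29_3 lc_h_rc_47_1 lc_h_Cert_tree lc_h_rc_40_0 lc_h_rc_40_0 lc_h_rc_29_3 lc_h_rc_22_1 lc_h_rc_14_1 lc_h_Cert_tree lc_h_Cert_tree lc_h_rc_40_0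 lc_h_Cert_tree lc_h_rc_40_0 lc_h_rc_40_0 lc_h_rc_47_1 lc_h_rc_40_0 lc_h_Cert_tree lc_h_rc_40_0 lc_h_rc_29_3 lc_h_rc_40_0 lc_h_rc_14_1 lc_h_rc_35_1 lc_h_rc_29_3 lc_h_rc_41_2 lc_h_rc_22_1 lc_h_rc_35_1 lc_h_Cert_tree lc_h_rc_47_1 lc_h_rc_41_2 lc_h_rc_42_1 lc_h_rc_35_1 lc_h_Cert_tree lc_h_rc_14_1 lc_h_rc_35_1 lc_h_Cert_tree lc_h_rc_35_1 lc_h_Cert_tree lc_h_rc_40_0 lc_h_Cert_tree lc_h_rc_42_1 lc_h_Cert_tree lc_h_rc_40_0 lc_h_Cert_tree lc_h_rc_42_1 lc_h_Cert_tree) (@D3.rec (fun _ => (Cert rels S Gen.h)) lc_h_rc_40_0 lc_h_rc_42_1 lc_h_Cert_tree lc_h_rc_40_0 lc_h_rc_40_0 lc_h_rc_40_0 lc_h_rc_41_2 lc_h_Cert_tree lc_h_rc_40_0 lc_h_rc_29_3 lc_h_rc_35_1 lc_h_Cert_tree lc_h_rc_35_1 lc_h_Cert_tree lc_h_rc_35_1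 lc_h_Cert_tree lc_h_rc_40_0 lc_h_rc_41_0 lc_h_rc_35_1 lc_h_Cert_tree lc_h_Cert_tree lc_h_rc_35_1 lc_h_Cert_tree lc_h_rc_40_0 lc_h_rc_35_1 lc_h_Cert_tree lc_h_rc_40_0 lc_h_rc_51_1 lc_h_Cert_tree lc_h_rc_40_0 lc_h_Cert_tree lc_h_rc_40_0 lc_h_Cert_tree lc_h_rc_47_1 lc_h_Cert_tree lc_h_rc_40_0 lc_h_rc_47_1 lc_h_Cert_tree lc_h_rc_40_0 lc_h_rc_29_3 lc_h_rc_47_1 lc_h_Cert_tree lc_h_rc_40_0 lc_h_rc_29_3 lc_h_rc_40_0 lc_h_rc_40_0 lc_h_rc_14_1 lc_h_Cert_tree lc_h_rc_40_0 lc_h_rc_29_3 lc_h_rc_35_1) (@D3.rec (fun _ => (Cert rels S Gen.h)) lc_h_Cert_tree lc_h_rc_40_0 lc_h_rc_29_3 lc_h_rc_22_1 lc_h_rc_40_0 lc_h_rc_29_3 lc_h_rc_42_1 lc_h_rc_40_0 lc_h_rc_29_3 lc_h_rc_22_1 lc_h_rc_29_3 lc_h_rc_22_1 lc_h_rc_14_1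 lc_h_Cert_tree lc_h_Cert_tree lc_h_rc_40_0 lc_h_rc_40_0 lc_h_rc_5_1 lc_h_Cert_tree lc_h_Cert_tree lc_h_Cert_tree lc_h_rc_40_0 lc_h_rc_40_0 lc_h_Cert_tree lc_h_rc_40_0 lc_h_rc_29_3 lc_h_rc_29_3 lc_h_rc_29_3 lc_h_rc_40_0 lc_h_rc_14_1 lc_h_rc_35_1 lc_h_Cert_tree lc_h_rc_40_0 lc_h_rc_40_0 lc_h_Cert_tree lc_h_rc_40_0 lc_h_rc_40_0 lc_h_rc_47_1 lc_h_rc_14_1 lc_h_rc_14_1 lc_h_rc_22_1 lc_h_rc_14_1 lc_h_Cert_tree lc_h_rc_22_1 lc_h_Cert_tree lc_h_Cert_tree lc_h_rc_40_0 lc_h_rc_40_0 lc_h_rc_47_1 lc_h_rc_5_1 lc_h_rc_41_0) (@D3.rec (fun _ => (Cert rels S Gen.h)) lc_h_Cert_tree lc_h_rc_41_0 lc_h_Cert_tree lc_h_rc_40_0 lc_h_Cert_tree lc_h_rc_40_0 lc_h_Cert_tree lc_h_rc_40_0 lc_h_rc_29_3 lc_h_rc_40_0 lc_h_rc_40_0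 lc_h_rc_29_3 lc_h_rc_5_3 lc_h_rc_41_2 lc_h_rc_22_1 lc_h_rc_35_1 lc_h_Cert_tree lc_h_rc_47_1 lc_h_rc_41_2 lc_h_rc_35_1 lc_h_Cert_tree lc_h_rc_35_1 lc_h_Cert_tree lc_h_rc_40_0 lc_h_rc_42_1 lc_h_Cert_tree lc_h_rc_40_0 lc_h_Cert_tree lc_h_rc_40_0 lc_h_rc_29_3 lc_h_rc_47_1 lc_h_rc_35_1 lc_h_Cert_tree lc_h_rc_41_0 lc_h_Cert_tree lc_h_rc_35_1 lc_h_Cert_tree lc_h_rc_40_0 lc_h_rc_41_0 lc_h_Cert_tree lc_h_rc_42_1 lc_h_rc_41_0 lc_h_Cert_tree lc_h_rc_40_0 lc_h_rc_41_0 lc_h_Cert_tree lc_h_rc_40_0 lc_h_rc_40_0 lc_h_Cert_tree lc_h_rc_40_0 lc_h_rc_40_0) (@D3.rec (fun _ => (Cert rels S Gen.h)) lc_h_Cert_tree lc_h_rc_40_0 lc_h_rc_41_0 lc_h_Cert_tree lc_h_rc_40_0 lc_h_rc_29_3 lc_h_Cert_tree lc_h_rc_40_0 lc_h_rc_29_3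 lc_h_rc_22_1 lc_h_Cert_tree lc_h_rc_40_0 lc_h_rc_29_3 lc_h_Cert_tree lc_h_rc_40_0 lc_h_rc_29_3 lc_h_rc_22_1 lc_h_rc_40_0 lc_h_rc_29_3 lc_h_rc_14_1 lc_h_Cert_tree lc_h_rc_42_1 lc_h_rc_14_1 lc_h_rc_35_1 lc_h_Cert_tree lc_h_Cert_tree lc_h_rc_40_0 lc_h_rc_51_1 lc_h_rc_41_2 lc_h_rc_42_1 lc_h_rc_35_1 lc_h_Cert_tree lc_h_rc_14_1 lc_h_Cert_tree lc_h_Cert_tree lc_h_rc_40_0 lc_h_Cert_tree lc_h_rc_40_0 lc_h_rc_40_0 lc_h_rc_29_3 lc_h_rc_5_1 lc_h_rc_5_1 lc_h_rc_22_1 lc_h_rc_5_1 lc_h_Cert_tree lc_h_rc_47_1 lc_h_rc_41_2 lc_h_rc_35_1 lc_h_Cert_tree lc_h_rc_35_1 lc_h_Cert_tree) (@D3.rec (fun _ => (Cert rels S Gen.h)) lc_h_rc_40_0 lc_h_rc_42_1 lc_h_Cert_tree lc_h_rc_40_0 lc_h_Cert_tree lc_h_rc_40_0 lc_h_rc_29_3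 lc_h_rc_47_1 lc_h_rc_35_1 lc_h_Cert_tree lc_h_rc_51_1 lc_h_Cert_tree lc_h_rc_35_1 lc_h_Cert_tree lc_h_rc_40_0 lc_h_rc_51_1 lc_h_Cert_tree lc_h_Cert_tree lc_h_rc_41_0 lc_h_Cert_tree lc_h_rc_40_0 lc_h_Cert_tree lc_h_rc_40_0 lc_h_rc_42_1 lc_h_Cert_tree lc_h_rc_40_0 lc_h_rc_47_1 lc_h_Cert_tree lc_h_rc_40_0 lc_h_rc_40_0 lc_h_Cert_tree lc_h_rc_40_0 lc_h_rc_40_0 lc_h_rc_29_3 lc_h_rc_29_3 lc_h_rc_22_1 lc_h_Cert_tree lc_h_rc_40_0 lc_h_rc_29_3 lc_h_rc_29_3 lc_h_rc_22_1 lc_h_rc_5_1 lc_h_rc_47_1 lc_h_rc_22_3 lc_h_rc_29_3 lc_h_rc_41_2 lc_h_rc_5_1 lc_h_rc_41_2 lc_h_rc_29_3 lc_h_rc_47_3 lc_h_rc_40_0) (@D3.rec (fun _ => (Cert rels S Gen.h)) lc_h_Cert_tree lc_h_rc_51_1 lc_h_rc_41_2 lc_h_rc_22_1 lc_h_rc_35_1 lc_h_Cert_tree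 lc_h_rc_14_1 lc_h_rc_22_1 lc_h_Cert_tree lc_h_rc_42_1 lc_h_Cert_tree lc_h_rc_40_0 lc_h_rc_47_1 lc_h_rc_35_1 lc_h_Cert_tree lc_h_rc_14_1 lc_h_rc_35_1 lc_h_Cert_tree lc_h_rc_35_1 lc_h_Cert_tree lc_h_rc_40_0 lc_h_rc_35_1 lc_h_Cert_tree lc_h_Cert_tree lc_h_rc_35_1 lc_h_Cert_tree lc_h_rc_40_0 lc_h_rc_35_1 lc_h_Cert_tree lc_h_rc_40_0 lc_h_Cert_tree lc_h_rc_42_1 lc_h_Cert_tree lc_h_rc_40_0 lc_h_rc_47_1 lc_h_Cert_tree lc_h_rc_40_0 lc_h_rc_40_0 lc_h_rc_42_1 lc_h_Cert_tree lc_h_rc_40_0 lc_h_rc_42_1 lc_h_Cert_tree lc_h_rc_40_0 lc_h_rc_29_3 lc_h_rc_22_1 lc_h_Cert_tree lc_h_rc_40_0 lc_h_rc_5_1 lc_h_Cert_tree lc_h_rc_40_0) (@D3.rec (fun _ => (Cert rels S Gen.h)) lc_h_rc_41_2 lc_h_rc_22_1 lc_h_rc_14_1 lc_h_rc_35_1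 lc_h_Cert_tree lc_h_rc_42_1 lc_h_Cert_tree lc_h_rc_40_0 lc_h_rc_42_1 lc_h_rc_35_1 lc_h_Cert_tree lc_h_Cert_tree lc_h_rc_35_1 lc_h_Cert_tree lc_h_rc_40_0 lc_h_rc_35_1 lc_h_Cert_tree lc_h_rc_40_0 lc_h_rc_35_1 lc_h_Cert_tree lc_h_rc_5_1 lc_h_rc_35_1 lc_h_Cert_tree lc_h_rc_40_0 lc_h_Cert_tree lc_h_rc_40_0 lc_h_Cert_tree lc_h_rc_35_1 lc_h_Cert_tree lc_h_rc_40_0 lc_h_rc_29_3 lc_h_rc_35_1 lc_h_Cert_tree lc_h_rc_40_0 lc_h_rc_29_3 lc_h_Cert_tree lc_h_rc_41_0 lc_h_Cert_tree lc_h_rc_40_0 lc_h_rc_47_1 lc_h_Cert_tree lc_h_rc_40_0 lc_h_rc_29_3 lc_h_rc_47_1 lc_h_Cert_tree lc_h_rc_40_0 lc_h_rc_29_3 lc_h_rc_40_0 lc_h_rc_41_0 lc_h_Cert_tree lc_h_rc_40_0) (@D3.rec (fun _ => (Cert rels S Gen.h)) lc_h_rc_14_1 lc_h_rc_42_1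 lc_h_Cert_tree lc_h_rc_40_0 lc_h_rc_29_3 lc_h_rc_35_1 lc_h_Cert_tree lc_h_rc_40_0 lc_h_rc_29_3 lc_h_rc_22_1 lc_h_rc_51_1 lc_h_Cert_tree lc_h_rc_40_0 lc_h_rc_14_1 lc_h_Cert_tree lc_h_rc_40_0 lc_h_rc_29_3 lc_h_rc_22_1 lc_h_rc_35_1 lc_h_rc_40_0 lc_h_rc_29_3 lc_h_rc_22_1 lc_h_rc_14_1 lc_h_Cert_tree lc_h_rc_40_0 lc_h_rc_29_3 lc_h_rc_22_1 lc_h_rc_40_0 lc_h_rc_29_3 lc_h_rc_22_1 lc_h_rc_35_1 lc_h_rc_14_1 lc_h_rc_29_3 lc_h_rc_22_1 lc_h_rc_5_1 lc_h_rc_51_1 lc_h_rc_35_3 lc_h_rc_51_1 lc_h_rc_40_0 lc_h_rc_51_3 lc_h_rc_51_1 lc_h_rc_40_0 lc_h_Cert_tree lc_h_rc_29_3 lc_h_rc_29_5 lc_h_rc_40_0 lc_h_Cert_tree lc_h_rc_14_1 lc_h_Cert_tree lc_h_rc_40_0 lc_h_rc_29_3) (@D3.rec (fun _ => (Cert rels S Gen.h)) lc_h_rc_35_1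 lc_h_rc_22_1 lc_h_rc_40_0 lc_h_rc_14_1 lc_h_rc_35_1 lc_h_rc_42_1 lc_h_rc_41_2 lc_h_rc_40_0 lc_h_Cert_tree lc_h_rc_40_0 lc_h_rc_41_2 lc_h_rc_14_1 lc_h_Cert_tree lc_h_rc_40_0 lc_h_rc_5_1 lc_h_rc_14_1 lc_h_Cert_tree lc_h_rc_51_1 lc_h_Cert_tree lc_h_rc_40_0 lc_h_rc_40_0 lc_h_rc_42_1 lc_h_rc_41_2 lc_h_rc_41_0 lc_h_rc_41_2 lc_h_rc_40_0 lc_h_Cert_tree lc_h_rc_41_2 lc_h_rc_41_2 lc_h_rc_41_0 lc_h_rc_41_0 lc_h_rc_40_0 lc_h_rc_29_3 lc_h_rc_22_1 lc_h_rc_35_1 lc_h_rc_41_0 lc_h_rc_40_0 lc_h_rc_40_0 lc_h_rc_40_0 lc_h_rc_40_0 lc_h_rc_40_0 lc_h_Cert_tree lc_h_rc_40_0 lc_h_Cert_tree lc_h_rc_40_0 lc_h_rc_40_0 lc_h_rc_35_1 lc_h_Cert_tree lc_h_rc_40_0 lc_h_rc_40_0 lc_h_Cert_tree)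
def ce_h_14 : D2 → D3 → (Cert rels S Gen.h) := @D2.rec (fun _ => D3 → (Cert rels S Gen.h)) (@D3.rec (fun _ => (Cert rels S Gen.h)) lc_h_rc_40_0 lc_h_rc_29_3 lc_h_rc_42_3 lc_h_Cert_tree lc_h_rc_40_0 lc_h_rc_35_1 lc_h_Cert_tree lc_h_rc_40_0 lc_h_Cert_tree lc_h_rc_40_0 lc_h_Cert_tree lc_h_rc_40_0 lc_h_Cert_tree lc_h_rc_40_0 lc_h_rc_35_1 lc_h_Cert_tree lc_h_rc_5_1 lc_h_Cert_tree lc_h_Cert_tree lc_h_rc_40_0 lc_h_rc_41_0 lc_h_Cert_tree lc_h_rc_22_3 lc_h_rc_29_1 lc_h_Cert_tree lc_h_rc_40_0 lc_h_rc_35_1 lc_h_Cert_tree lc_h_rc_40_0 lc_h_Cert_tree lc_h_rc_40_0 lc_h_rc_42_1 lc_h_Cert_tree lc_h_rc_40_0 lc_h_rc_22_1 lc_h_Cert_tree lc_h_rc_40_0 lc_h_rc_29_3 lc_h_Cert_tree lc_h_rc_40_0 lc_h_rc_40_0 lc_h_Cert_tree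 lc_h_rc_40_0 lc_h_rc_29_3 lc_h_Cert_tree lc_h_rc_40_0 lc_h_Cert_tree lc_h_rc_40_0 lc_h_rc_14_1 lc_h_rc_5_1 lc_h_rc_51_1) (@D3.rec (fun _ => (Cert rels S Gen.h)) lc_h_Cert_tree lc_h_rc_35_1 lc_h_Cert_tree lc_h_Cert_tree lc_h_rc_40_0 lc_h_rc_40_0 lc_h_Cert_tree lc_h_rc_40_0 lc_h_rc_47_1 lc_h_rc_22_1 lc_h_Cert_tree lc_h_Cert_tree lc_h_rc_40_0 lc_h_rc_40_0 lc_h_rc_51_1 lc_h_Cert_tree lc_h_rc_40_0 lc_h_Cert_tree lc_h_rc_40_0 lc_h_rc_29_3 lc_h_rc_40_0 lc_h_rc_14_1 lc_h_Cert_tree lc_h_rc_40_0 lc_h_rc_29_3 lc_h_Cert_tree lc_h_rc_40_0 lc_h_rc_29_3 lc_h_rc_40_0 lc_h_rc_14_1 lc_h_rc_5_3 lc_h_rc_40_0 lc_h_rc_22_1 lc_h_rc_40_0 lc_h_rc_5_1 lc_h_Cert_tree lc_h_Cert_tree lc_h_rc_40_0 lc_h_rc_40_0 lc_h_rc_35_1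 lc_h_Cert_tree lc_h_Cert_tree lc_h_rc_40_0 lc_h_Cert_tree lc_h_rc_40_0 lc_h_rc_40_0 lc_h_rc_5_1 lc_h_rc_14_3 lc_h_rc_5_3 lc_h_Cert_tree lc_h_rc_41_0) (@D3.rec (fun _ => (Cert rels S Gen.h)) lc_h_rc_5_3 lc_h_Cert_tree lc_h_rc_51_1 lc_h_Cert_tree lc_h_rc_40_0 lc_h_rc_41_0 lc_h_Cert_tree lc_h_rc_5_3 lc_h_rc_41_0 lc_h_Cert_tree lc_h_rc_40_0 lc_h_Cert_tree lc_h_rc_40_0 lc_h_Cert_tree lc_h_rc_51_1 lc_h_Cert_tree lc_h_rc_40_0 lc_h_Cert_tree lc_h_rc_40_0 lc_h_rc_40_0 lc_h_Cert_tree lc_h_rc_40_0 lc_h_rc_29_3 lc_h_rc_40_0 lc_h_rc_14_1 lc_h_rc_29_3 lc_h_rc_35_1 lc_h_rc_14_1 lc_h_Cert_tree lc_h_rc_40_0 lc_h_Cert_tree lc_h_rc_41_0 lc_h_Cert_tree lc_h_rc_40_0 lc_h_rc_40_0 lc_h_Cert_tree lc_h_rc_14_1 lc_h_Cert_tree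 lc_h_rc_40_0 lc_h_Cert_tree lc_h_rc_40_0 lc_h_rc_29_3 lc_h_Cert_tree lc_h_rc_40_0 lc_h_rc_29_3 lc_h_rc_40_0 lc_h_rc_14_1 lc_h_rc_35_1 lc_h_rc_14_1 lc_h_rc_35_3 lc_h_rc_29_1) (@D3.rec (fun _ => (Cert rels S Gen.h)) lc_h_Cert_tree lc_h_Cert_tree lc_h_rc_40_0 lc_h_rc_47_1 lc_h_rc_35_1 lc_h_Cert_tree lc_h_rc_14_1 lc_h_rc_35_1 lc_h_Cert_tree lc_h_Cert_tree lc_h_rc_40_0 lc_h_rc_35_1 lc_h_Cert_tree lc_h_Cert_tree lc_h_rc_35_1 lc_h_Cert_tree lc_h_rc_40_0 lc_h_rc_35_1 lc_h_Cert_tree lc_h_rc_40_0 lc_h_Cert_tree lc_h_rc_40_0 lc_h_rc_14_1 lc_h_Cert_tree lc_h_rc_40_0 lc_h_Cert_tree lc_h_rc_40_0 lc_h_rc_41_2 lc_h_Cert_tree lc_h_rc_40_0 lc_h_rc_40_0 lc_h_rc_14_1 lc_h_Cert_tree lc_h_rc_40_0 lc_h_rc_35_1 lc_h_Cert_tree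 lc_h_rc_51_3 lc_h_Cert_tree lc_h_rc_40_0 lc_h_rc_35_1 lc_h_Cert_tree lc_h_Cert_tree lc_h_rc_51_1 lc_h_Cert_tree lc_h_rc_40_0 lc_h_Cert_tree lc_h_rc_40_0 lc_h_rc_41_0 lc_h_Cert_tree lc_h_Cert_tree lc_h_rc_35_1) (@D3.rec (fun _ => (Cert rels S Gen.h)) lc_h_Cert_tree lc_h_rc_40_0 lc_h_Cert_tree lc_h_rc_40_0 lc_h_Cert_tree lc_h_rc_5_1 lc_h_Cert_tree lc_h_rc_40_0 lc_h_rc_29_3 lc_h_rc_51_1 lc_h_Cert_tree lc_h_rc_40_0 lc_h_rc_29_3 lc_h_rc_51_1 lc_h_Cert_tree lc_h_rc_14_1 lc_h_Cert_tree lc_h_rc_40_0 lc_h_Cert_tree lc_h_rc_40_0 lc_h_rc_29_3 lc_h_rc_40_0 lc_h_rc_47_1 lc_h_Cert_tree lc_h_rc_40_0 lc_h_rc_47_1 lc_h_Cert_tree lc_h_rc_40_0 lc_h_rc_14_1 lc_h_rc_42_1 lc_h_Cert_tree lc_h_rc_40_0 lc_h_rc_29_3 lc_h_rc_35_1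 lc_h_Cert_tree lc_h_rc_40_0 lc_h_rc_40_0 lc_h_rc_51_1 lc_h_Cert_tree lc_h_rc_40_0 lc_h_rc_14_1 lc_h_Cert_tree lc_h_rc_40_0 lc_h_rc_29_3 lc_h_rc_40_0 lc_h_rc_40_0 lc_h_rc_40_0 lc_h_rc_40_0 lc_h_Cert_tree lc_h_rc_40_0 lc_h_rc_29_3) (@D3.rec (fun _ => (Cert rels S Gen.h)) lc_h_rc_40_0 lc_h_rc_40_0 lc_h_Cert_tree lc_h_rc_40_0 lc_h_rc_14_1 lc_h_Cert_tree lc_h_rc_40_0 lc_h_rc_29_3 lc_h_rc_35_1 lc_h_rc_40_0 lc_h_rc_14_1 lc_h_rc_35_1 lc_h_rc_42_1 lc_h_rc_40_0 lc_h_rc_40_0 lc_h_rc_40_0 lc_h_rc_40_0 lc_h_rc_29_3 lc_h_rc_40_0 lc_h_rc_40_0 lc_h_rc_29_3 lc_h_rc_35_1 lc_h_rc_40_0 lc_h_rc_40_0 lc_h_rc_29_3 lc_h_rc_35_1 lc_h_rc_40_0 lc_h_rc_41_2 lc_h_rc_40_0 lc_h_rc_40_0 lc_h_rc_40_0 lc_h_rc_29_3 lc_h_rc_40_0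 lc_h_rc_40_0 lc_h_rc_14_1 lc_h_rc_40_0 lc_h_rc_29_3 lc_h_rc_35_1 lc_h_rc_29_3 lc_h_rc_14_1 lc_h_rc_5_1 lc_h_rc_14_1 lc_h_rc_42_1 lc_h_rc_35_1 lc_h_Cert_tree lc_h_rc_40_0 lc_h_rc_41_0 lc_h_Cert_tree lc_h_rc_35_1 lc_h_Cert_tree lc_h_Cert_tree) (@D3.rec (fun _ => (Cert rels S Gen.h)) lc_h_rc_40_0 lc_h_rc_40_0 lc_h_rc_40_0 lc_h_rc_29_3 lc_h_Cert_tree lc_h_rc_40_0 lc_h_rc_40_0 lc_h_rc_29_3 lc_h_rc_29_3 lc_h_rc_35_1 lc_h_rc_35_1 lc_h_Cert_tree lc_h_Cert_tree lc_h_rc_40_0 lc_h_rc_40_0 lc_h_rc_40_0 lc_h_rc_41_2 lc_h_Cert_tree lc_h_rc_40_0 lc_h_Cert_tree lc_h_rc_41_0 lc_h_Cert_tree lc_h_rc_40_0 lc_h_Cert_tree lc_h_rc_40_0 lc_h_Cert_tree lc_h_rc_40_0 lc_h_rc_29_3 lc_h_rc_40_0 lc_h_rc_40_0 lc_h_rc_40_0 lc_h_rc_14_1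 lc_h_rc_29_3 lc_h_rc_35_1 lc_h_rc_40_0 lc_h_Cert_tree lc_h_rc_40_0 lc_h_rc_29_3 lc_h_rc_35_1 lc_h_rc_42_1 lc_h_rc_35_1 lc_h_Cert_tree lc_h_Cert_tree lc_h_rc_40_0 lc_h_rc_40_0 lc_h_rc_40_0 lc_h_rc_41_2 lc_h_rc_35_1 lc_h_Cert_tree lc_h_Cert_tree lc_h_rc_40_0) (@D3.rec (fun _ => (Cert rels S Gen.h)) lc_h_Cert_tree lc_h_rc_40_0 lc_h_rc_40_0 lc_h_rc_29_3 lc_h_rc_40_0 lc_h_rc_14_1 lc_h_rc_35_1 lc_h_rc_40_0 lc_h_rc_29_3 lc_h_rc_35_1 lc_h_rc_35_1 lc_h_Cert_tree lc_h_Cert_tree lc_h_Cert_tree lc_h_rc_40_0 lc_h_rc_40_0 lc_h_rc_40_0 lc_h_rc_41_2 lc_h_rc_40_0 lc_h_rc_14_1 lc_h_rc_41_2 lc_h_rc_35_1 lc_h_Cert_tree lc_h_rc_42_1 lc_h_Cert_tree lc_h_rc_40_0 lc_h_rc_42_1 lc_h_Cert_tree lc_h_Cert_tree lc_h_rc_40_0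 lc_h_rc_40_0 lc_h_rc_41_0 lc_h_Cert_tree lc_h_rc_42_3 lc_h_rc_42_1 lc_h_Cert_tree lc_h_rc_40_0 lc_h_rc_40_0 lc_h_Cert_tree lc_h_rc_35_1 lc_h_Cert_tree lc_h_rc_40_0 lc_h_rc_29_3 lc_h_rc_35_1 lc_h_Cert_tree lc_h_rc_40_0 lc_h_rc_29_3 lc_h_rc_40_0 lc_h_rc_29_3 lc_h_rc_40_0 lc_h_Cert_tree) (@D3.rec (fun _ => (Cert rels S Gen.h)) lc_h_rc_40_0 lc_h_rc_14_1 lc_h_Cert_tree lc_h_rc_40_0 lc_h_rc_29_3 lc_h_rc_35_1 lc_h_rc_41_4 lc_h_rc_40_0 lc_h_rc_40_0 lc_h_rc_5_1 lc_h_rc_40_0 lc_h_rc_14_1 lc_h_rc_22_1 lc_h_rc_14_1 lc_h_rc_40_0 lc_h_rc_29_3 lc_h_rc_42_1 lc_h_rc_40_0 lc_h_rc_40_0 lc_h_rc_29_3 lc_h_rc_40_0 lc_h_Cert_tree lc_h_rc_40_0 lc_h_rc_14_1 lc_h_Cert_tree lc_h_rc_40_0 lc_h_rc_29_3 lc_h_rc_35_1 lc_h_rc_14_1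 lc_h_rc_5_1 lc_h_rc_22_1 lc_h_rc_14_1 lc_h_rc_42_1 lc_h_rc_47_1 lc_h_rc_40_0 lc_h_rc_40_0 lc_h_rc_47_1 lc_h_Cert_tree lc_h_Cert_tree lc_h_rc_40_0 lc_h_rc_40_0 lc_h_Cert_tree lc_h_rc_40_0 lc_h_rc_35_1 lc_h_Cert_tree lc_h_Cert_tree lc_h_rc_40_0 lc_h_Cert_tree lc_h_rc_40_0 lc_h_rc_40_0 lc_h_rc_40_0) (@D3.rec (fun _ => (Cert rels S Gen.h)) lc_h_rc_47_1 lc_h_Cert_tree lc_h_rc_51_3 lc_h_Cert_tree lc_h_rc_40_0 lc_h_rc_14_1 lc_h_Cert_tree lc_h_rc_51_3 lc_h_rc_42_1 lc_h_Cert_tree lc_h_rc_40_0 lc_h_rc_47_1 lc_h_Cert_tree lc_h_rc_40_0 lc_h_rc_47_1 lc_h_rc_41_0 lc_h_Cert_tree lc_h_rc_40_0 lc_h_rc_5_3 lc_h_Cert_tree lc_h_Cert_tree lc_h_rc_40_0 lc_h_rc_40_0 lc_h_rc_29_3 lc_h_rc_41_0 lc_h_Cert_tree lc_h_rc_40_0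 lc_h_Cert_tree lc_h_rc_40_0 lc_h_Cert_tree lc_h_rc_40_0 lc_h_Cert_tree lc_h_rc_40_0 lc_h_rc_40_0 lc_h_rc_29_3 lc_h_rc_14_1 lc_h_Cert_tree lc_h_Cert_tree lc_h_rc_40_0 lc_h_rc_51_1 lc_h_Cert_tree lc_h_Cert_tree lc_h_rc_40_0 lc_h_Cert_tree lc_h_rc_40_0 lc_h_rc_40_0 lc_h_rc_14_1 lc_h_Cert_tree lc_h_rc_47_3 lc_h_Cert_tree lc_h_rc_40_0) (@D3.rec (fun _ => (Cert rels S Gen.h)) lc_h_rc_29_1 lc_h_Cert_tree lc_h_Cert_tree lc_h_rc_40_0 lc_h_rc_40_0 lc_h_rc_35_1 lc_h_Cert_tree lc_h_rc_42_3 lc_h_Cert_tree lc_h_rc_40_0 lc_h_rc_40_0 lc_h_Cert_tree lc_h_rc_40_0 lc_h_rc_29_3 lc_h_Cert_tree lc_h_rc_40_0 lc_h_rc_40_0 lc_h_Cert_tree lc_h_Cert_tree lc_h_rc_40_0 lc_h_rc_14_3 lc_h_rc_5_3 lc_h_Cert_tree lc_h_Cert_tree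 lc_h_Cert_tree lc_h_rc_40_0 lc_h_rc_40_0 lc_h_rc_35_1 lc_h_Cert_tree lc_h_rc_42_1 lc_h_Cert_tree lc_h_rc_40_0 lc_h_rc_35_1 lc_h_Cert_tree lc_h_rc_29_3 lc_h_Cert_tree lc_h_rc_40_0 lc_h_rc_40_0 lc_h_rc_5_1 lc_h_Cert_tree lc_h_rc_29_3 lc_h_rc_35_1 lc_h_Cert_tree lc_h_rc_40_0 lc_h_Cert_tree lc_h_rc_40_0 lc_h_Cert_tree lc_h_rc_35_1 lc_h_Cert_tree lc_h_rc_40_0 lc_h_rc_35_1) (@D3.rec (fun _ => (Cert rels S Gen.h)) lc_h_Cert_tree lc_h_rc_40_0 lc_h_rc_29_3 lc_h_Cert_tree lc_h_Cert_tree lc_h_rc_40_0 lc_h_rc_40_0 lc_h_rc_40_0 lc_h_Cert_tree lc_h_rc_40_0 lc_h_rc_42_1 lc_h_Cert_tree lc_h_rc_40_0 lc_h_rc_29_3 lc_h_Cert_tree lc_h_rc_40_0 lc_h_rc_29_3 lc_h_Cert_tree lc_h_rc_40_0 lc_h_rc_41_2 lc_h_rc_40_0 lc_h_rc_42_1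 lc_h_Cert_tree lc_h_rc_40_0 lc_h_rc_47_1 lc_h_Cert_tree lc_h_rc_40_0 lc_h_rc_29_3 lc_h_Cert_tree lc_h_rc_40_0 lc_h_Cert_tree lc_h_Cert_tree lc_h_rc_40_0 lc_h_rc_29_3 lc_h_rc_51_1 lc_h_Cert_tree lc_h_rc_40_0 lc_h_rc_29_3 lc_h_rc_35_1 lc_h_Cert_tree lc_h_rc_40_0 lc_h_rc_51_1 lc_h_rc_5_3 lc_h_rc_35_1 lc_h_Cert_tree lc_h_rc_40_0 lc_h_rc_5_1 lc_h_Cert_tree lc_h_rc_40_0 lc_h_Cert_tree lc_h_Cert_tree) (@D3.rec (fun _ => (Cert rels S Gen.h)) lc_h_rc_40_0 lc_h_rc_35_1 lc_h_Cert_tree lc_h_rc_40_0 lc_h_rc_29_3 lc_h_rc_35_1 lc_h_Cert_tree lc_h_rc_40_0 lc_h_rc_29_3 lc_h_rc_22_1 lc_h_rc_41_0 lc_h_Cert_tree lc_h_rc_40_0 lc_h_Cert_tree lc_h_rc_40_0 lc_h_rc_40_0 lc_h_rc_29_3 lc_h_rc_35_1 lc_h_Cert_tree lc_h_rc_40_0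 lc_h_Cert_tree lc_h_rc_40_0 lc_h_Cert_tree lc_h_rc_40_0 lc_h_rc_14_1 lc_h_Cert_tree lc_h_rc_40_0 lc_h_rc_29_3 lc_h_rc_29_3 lc_h_rc_42_1 lc_h_rc_40_0 lc_h_Cert_tree lc_h_rc_40_0 lc_h_rc_14_1 lc_h_rc_22_1 lc_h_rc_40_0 lc_h_rc_29_3 lc_h_rc_40_0 lc_h_rc_42_1 lc_h_rc_42_1 lc_h_rc_40_0 lc_h_rc_14_1 lc_h_Cert_tree lc_h_rc_22_1 lc_h_Cert_tree lc_h_rc_40_0 lc_h_rc_40_0 lc_h_Cert_tree lc_h_rc_29_3 lc_h_Cert_tree lc_h_rc_40_0) (@D3.rec (fun _ => (Cert rels S Gen.h)) lc_h_rc_40_0 lc_h_Cert_tree lc_h_rc_40_0 lc_h_rc_29_3 lc_h_Cert_tree lc_h_rc_22_1 lc_h_Cert_tree lc_h_Cert_tree lc_h_rc_40_0 lc_h_rc_47_1 lc_h_rc_42_1 lc_h_rc_40_0 lc_h_rc_29_3 lc_h_rc_40_0 lc_h_rc_29_3 lc_h_rc_42_1 lc_h_rc_47_1 lc_h_rc_5_1 lc_h_rc_5_1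 lc_h_rc_22_1 lc_h_rc_40_0 lc_h_rc_51_1 lc_h_rc_35_1 lc_h_rc_35_1 lc_h_rc_42_1 lc_h_rc_40_0 lc_h_rc_40_0 lc_h_rc_42_1 lc_h_rc_42_1 lc_h_Cert_tree lc_h_rc_40_0 lc_h_rc_29_3 lc_h_rc_40_0 lc_h_Cert_tree lc_h_Cert_tree lc_h_rc_40_0 lc_h_rc_40_0 lc_h_rc_29_3 lc_h_rc_40_0 lc_h_rc_29_3 lc_h_rc_22_1 lc_h_rc_51_1 lc_h_rc_35_1 lc_h_rc_22_1 lc_h_rc_14_1 lc_h_rc_29_3 lc_h_rc_40_0 lc_h_rc_40_0 lc_h_rc_14_1 lc_h_rc_22_1 lc_h_rc_29_3) (@D3.rec (fun _ => (Cert rels S Gen.h)) lc_h_rc_35_1 lc_h_rc_42_1 lc_h_rc_40_0 lc_h_rc_14_1 lc_h_rc_40_0 lc_h_rc_40_0 lc_h_rc_29_3 lc_h_rc_29_3 lc_h_rc_14_1 lc_h_rc_40_0 lc_h_Cert_tree lc_h_rc_40_0 lc_h_rc_40_0 lc_h_rc_35_1 lc_h_rc_40_0 lc_h_rc_40_0 lc_h_rc_14_1 lc_h_rc_22_1 lc_h_Cert_tree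 lc_h_rc_40_0 lc_h_Cert_tree lc_h_rc_40_0 lc_h_Cert_tree lc_h_rc_40_0 lc_h_rc_40_0 lc_h_rc_29_3 lc_h_rc_40_0 lc_h_rc_40_0 lc_h_rc_40_0 lc_h_Cert_tree lc_h_rc_40_0 lc_h_rc_29_3 lc_h_rc_29_3 lc_h_rc_22_1 lc_h_rc_35_1 lc_h_Cert_tree lc_h_rc_42_1 lc_h_Cert_tree lc_h_rc_40_0 lc_h_rc_40_0 lc_h_rc_35_1 lc_h_Cert_tree lc_h_rc_35_1 lc_h_Cert_tree lc_h_rc_35_1 lc_h_Cert_tree lc_h_rc_40_0 lc_h_rc_47_1 lc_h_Cert_tree lc_h_rc_40_0 lc_h_rc_47_1) (@D3.rec (fun _ => (Cert rels S Gen.h)) lc_h_rc_47_1 lc_h_Cert_tree lc_h_rc_47_3 lc_h_Cert_tree lc_h_rc_40_0 lc_h_Cert_tree lc_h_rc_40_0 lc_h_Cert_tree lc_h_Cert_tree lc_h_rc_40_0 lc_h_rc_40_0 lc_h_rc_29_3 lc_h_rc_42_1 lc_h_rc_40_0 lc_h_rc_29_3 lc_h_rc_22_1 lc_h_rc_41_2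 lc_h_rc_40_0 lc_h_rc_41_0 lc_h_Cert_tree lc_h_rc_40_0 lc_h_rc_40_0 lc_h_rc_29_3 lc_h_Cert_tree lc_h_rc_40_0 lc_h_Cert_tree lc_h_rc_40_0 lc_h_rc_29_3 lc_h_rc_35_1 lc_h_Cert_tree lc_h_rc_35_1 lc_h_Cert_tree lc_h_rc_40_0 lc_h_rc_40_0 lc_h_rc_42_1 lc_h_Cert_tree lc_h_rc_40_0 lc_h_Cert_tree lc_h_rc_40_0 lc_h_rc_29_3 lc_h_Cert_tree lc_h_rc_40_0 lc_h_Cert_tree lc_h_rc_40_0 lc_h_rc_42_1 lc_h_Cert_tree lc_h_rc_40_0 lc_h_rc_14_1 lc_h_Cert_tree lc_h_rc_40_0 lc_h_rc_29_3) (@D3.rec (fun _ => (Cert rels S Gen.h)) lc_h_Cert_tree lc_h_rc_40_0 lc_h_Cert_tree lc_h_rc_40_0 lc_h_rc_29_3 lc_h_rc_22_1 lc_h_rc_42_1 lc_h_rc_40_0 lc_h_rc_29_3 lc_h_rc_22_1 lc_h_rc_29_3 lc_h_rc_14_1 lc_h_rc_5_1 lc_h_rc_41_2 lc_h_rc_14_3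 lc_h_rc_5_1 lc_h_Cert_tree lc_h_rc_47_1 lc_h_rc_41_2 lc_h_rc_42_1 lc_h_rc_35_1 lc_h_Cert_tree lc_h_rc_35_1 lc_h_Cert_tree lc_h_rc_35_1 lc_h_Cert_tree lc_h_rc_40_0 lc_h_Cert_tree lc_h_rc_42_1 lc_h_Cert_tree lc_h_rc_40_0 lc_h_rc_40_0 lc_h_Cert_tree lc_h_rc_40_0 lc_h_rc_41_2 lc_h_rc_29_3 lc_h_rc_35_1 lc_h_Cert_tree lc_h_rc_35_1 lc_h_Cert_tree lc_h_rc_35_1 lc_h_Cert_tree lc_h_rc_40_0 lc_h_rc_41_0 lc_h_Cert_tree lc_h_Cert_tree lc_h_rc_41_0 lc_h_Cert_tree lc_h_rc_40_0 lc_h_Cert_tree lc_h_rc_40_0) (@D3.rec (fun _ => (Cert rels S Gen.h)) lc_h_rc_41_0 lc_h_Cert_tree lc_h_rc_40_0 lc_h_rc_47_1 lc_h_Cert_tree lc_h_rc_40_0 lc_h_rc_40_0 lc_h_Cert_tree lc_h_rc_40_0 lc_h_rc_29_3 lc_h_rc_40_0 lc_h_rc_29_3 lc_h_rc_14_1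 lc_h_rc_29_3 lc_h_rc_35_1 lc_h_rc_22_1 lc_h_Cert_tree lc_h_rc_40_0 lc_h_rc_29_3 lc_h_rc_29_3 lc_h_rc_22_1 lc_h_rc_35_3 lc_h_rc_40_0 lc_h_Cert_tree lc_h_Cert_tree lc_h_rc_40_0 lc_h_rc_40_0 lc_h_Cert_tree lc_h_rc_40_0 lc_h_rc_29_3 lc_h_rc_29_3 lc_h_rc_14_1 lc_h_rc_35_1 lc_h_rc_40_0 lc_h_rc_42_1 lc_h_rc_42_1 lc_h_rc_41_2 lc_h_rc_35_1 lc_h_Cert_tree lc_h_Cert_tree lc_h_rc_40_0 lc_h_rc_56_27 lc_h_rc_41_2 lc_h_rc_41_0 lc_h_rc_35_1 lc_h_Cert_tree lc_h_rc_41_0 lc_h_Cert_tree lc_h_rc_14_3 lc_h_Cert_tree lc_h_rc_40_0) (@D3.rec (fun _ => (Cert rels S Gen.h)) lc_h_Cert_tree lc_h_rc_40_0 lc_h_rc_40_0 lc_h_Cert_tree lc_h_rc_40_0 lc_h_rc_5_1 lc_h_rc_29_3 lc_h_rc_40_0 lc_h_rc_29_3 lc_h_rc_22_1 lc_h_Cert_tree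 lc_h_rc_35_1 lc_h_Cert_tree lc_h_rc_35_1 lc_h_Cert_tree lc_h_rc_35_1 lc_h_Cert_tree lc_h_rc_40_0 lc_h_rc_40_0 lc_h_rc_40_0 lc_h_Cert_tree lc_h_rc_40_0 lc_h_rc_5_1 lc_h_rc_29_3 lc_h_rc_55_25 lc_h_Cert_tree lc_h_Cert_tree lc_h_rc_40_0 lc_h_Cert_tree lc_h_rc_40_0 lc_h_rc_41_0 lc_h_Cert_tree lc_h_rc_40_0 lc_h_rc_29_3 lc_h_rc_41_0 lc_h_Cert_tree lc_h_rc_40_0 lc_h_rc_29_3 lc_h_Cert_tree lc_h_rc_40_0 lc_h_rc_29_3 lc_h_Cert_tree lc_h_rc_40_0 lc_h_rc_29_3 lc_h_rc_40_0 lc_h_rc_29_3 lc_h_rc_29_3 lc_h_rc_41_0 lc_h_rc_51_1 lc_h_Cert_tree lc_h_rc_14_1) (@D3.rec (fun _ => (Cert rels S Gen.h)) lc_h_rc_5_1 lc_h_Cert_tree lc_h_rc_47_1 lc_h_Cert_tree lc_h_rc_40_0 lc_h_rc_35_1 lc_h_Cert_tree lc_h_rc_14_1 lc_h_rc_35_1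 lc_h_Cert_tree lc_h_rc_35_1 lc_h_Cert_tree lc_h_rc_40_0 lc_h_rc_35_1 lc_h_Cert_tree lc_h_Cert_tree lc_h_rc_35_1 lc_h_Cert_tree lc_h_rc_40_0 lc_h_rc_35_1 lc_h_Cert_tree lc_h_rc_40_0 lc_h_Cert_tree lc_h_rc_40_0 lc_h_rc_47_1 lc_h_Cert_tree lc_h_rc_40_0 lc_h_rc_40_0 lc_h_Cert_tree lc_h_rc_40_0 lc_h_rc_41_2 lc_h_rc_42_1 lc_h_Cert_tree lc_h_rc_40_0 lc_h_rc_29_3 lc_h_rc_14_1 lc_h_rc_41_2 lc_h_Cert_tree lc_h_rc_40_0 lc_h_rc_41_2 lc_h_rc_22_1 lc_h_rc_42_1 lc_h_Cert_tree lc_h_rc_40_0 lc_h_rc_41_0 lc_h_rc_35_1 lc_h_Cert_tree lc_h_Cert_tree lc_h_rc_40_0 lc_h_rc_35_1 lc_h_Cert_tree) (@D3.rec (fun _ => (Cert rels S Gen.h)) lc_h_rc_40_0 lc_h_rc_35_1 lc_h_Cert_tree lc_h_Cert_tree lc_h_rc_35_1 lc_h_Cert_tree lc_h_rc_40_0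 lc_h_rc_40_0 lc_h_Cert_tree lc_h_rc_35_1 lc_h_Cert_tree lc_h_rc_40_0 lc_h_rc_29_3 lc_h_rc_35_1 lc_h_Cert_tree lc_h_rc_40_0 lc_h_rc_29_3 lc_h_Cert_tree lc_h_rc_40_0 lc_h_rc_29_3 lc_h_rc_22_1 lc_h_Cert_tree lc_h_rc_40_0 lc_h_rc_29_3 lc_h_rc_40_0 lc_h_Cert_tree lc_h_rc_40_0 lc_h_rc_14_1 lc_h_rc_41_0 lc_h_Cert_tree lc_h_rc_40_0 lc_h_rc_35_1 lc_h_Cert_tree lc_h_rc_40_0 lc_h_rc_29_3 lc_h_rc_22_1 lc_h_rc_22_1 lc_h_rc_14_1 lc_h_Cert_tree lc_h_rc_40_0 lc_h_rc_42_1 lc_h_rc_40_0 lc_h_rc_29_3 lc_h_rc_14_1 lc_h_Cert_tree lc_h_rc_40_0 lc_h_rc_29_3 lc_h_rc_22_1 lc_h_rc_40_0 lc_h_rc_29_3 lc_h_rc_22_1) (@D3.rec (fun _ => (Cert rels S Gen.h)) lc_h_rc_35_1 lc_h_rc_14_1 lc_h_rc_29_3 lc_h_rc_22_1 lc_h_Cert_tree lc_h_rc_40_0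 lc_h_rc_29_3 lc_h_rc_42_1 lc_h_Cert_tree lc_h_rc_40_0 lc_h_rc_40_0 lc_h_Cert_tree lc_h_rc_40_0 lc_h_rc_14_1 lc_h_Cert_tree lc_h_rc_40_0 lc_h_rc_29_3 lc_h_rc_35_1 lc_h_rc_40_0 lc_h_rc_14_1 lc_h_rc_35_1 lc_h_rc_14_1 lc_h_rc_42_1 lc_h_rc_47_1 lc_h_rc_40_0 lc_h_rc_42_1 lc_h_rc_40_0 lc_h_Cert_tree lc_h_rc_40_0 lc_h_Cert_tree lc_h_Cert_tree lc_h_Cert_tree lc_h_rc_40_0 lc_h_Cert_tree lc_h_rc_40_0 lc_h_rc_40_0 lc_h_rc_40_0 lc_h_rc_29_3 lc_h_rc_29_3 lc_h_rc_40_0 lc_h_Cert_tree lc_h_rc_40_0 lc_h_Cert_tree lc_h_rc_40_0 lc_h_rc_40_0 lc_h_rc_40_0 lc_h_rc_40_0 lc_h_rc_29_3 lc_h_rc_40_0 lc_h_rc_29_3 lc_h_rc_29_3) (@D3.rec (fun _ => (Cert rels S Gen.h)) lc_h_rc_22_1 lc_h_rc_14_1 lc_h_rc_35_1 lc_h_rc_40_0 lc_h_rc_40_0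 lc_h_Cert_tree lc_h_rc_40_0 lc_h_Cert_tree lc_h_Cert_tree lc_h_rc_40_0 lc_h_Cert_tree lc_h_Cert_tree lc_h_rc_40_0 lc_h_rc_40_0 lc_h_rc_40_0 lc_h_rc_40_0 lc_h_rc_40_0 lc_h_Cert_tree lc_h_rc_40_0 lc_h_rc_40_0 lc_h_rc_40_0 lc_h_rc_29_3 lc_h_rc_29_3 lc_h_rc_40_0 lc_h_rc_22_1 lc_h_rc_14_1 lc_h_rc_35_1 lc_h_rc_40_0 lc_h_rc_40_0 lc_h_rc_40_0 lc_h_rc_40_0 lc_h_rc_40_0 lc_h_rc_40_0 lc_h_rc_41_2 lc_h_rc_40_0 lc_h_rc_29_3 lc_h_rc_40_0 lc_h_rc_40_0 lc_h_rc_29_3 lc_h_rc_29_3 lc_h_rc_40_0 lc_h_rc_40_0 lc_h_rc_14_1 lc_h_rc_40_0 lc_h_rc_29_3 lc_h_rc_35_1 lc_h_rc_40_0 lc_h_rc_29_3 lc_h_rc_22_1 lc_h_rc_51_3 lc_h_rc_14_1) (@D3.rec (fun _ => (Cert rels S Gen.h)) lc_h_rc_40_0 lc_h_rc_47_1 lc_h_rc_14_1 lc_h_rc_35_1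 lc_h_Cert_tree lc_h_Cert_tree lc_h_rc_40_0 lc_h_rc_42_1 lc_h_rc_5_1 lc_h_rc_42_1 lc_h_rc_35_1 lc_h_Cert_tree lc_h_Cert_tree lc_h_Cert_tree lc_h_rc_42_1 lc_h_Cert_tree lc_h_rc_40_0 lc_h_rc_40_0 lc_h_rc_40_0 lc_h_rc_41_0 lc_h_rc_5_1 lc_h_rc_35_1 lc_h_Cert_tree lc_h_rc_35_1 lc_h_Cert_tree lc_h_rc_35_1 lc_h_Cert_tree lc_h_rc_40_0 lc_h_rc_40_0 lc_h_rc_40_0 lc_h_Cert_tree lc_h_rc_40_0 lc_h_rc_40_0 lc_h_rc_29_3 lc_h_rc_29_3 lc_h_rc_40_0 lc_h_rc_29_3 lc_h_rc_40_0 lc_h_rc_29_3 lc_h_rc_22_1 lc_h_rc_35_1 lc_h_Cert_tree lc_h_rc_35_1 lc_h_Cert_tree lc_h_rc_14_1 lc_h_rc_35_1 lc_h_Cert_tree lc_h_rc_35_1 lc_h_Cert_tree lc_h_rc_40_0 lc_h_rc_40_0) (@D3.rec (fun _ => (Cert rels S Gen.h)) lc_h_Cert_tree lc_h_rc_40_0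 lc_h_rc_42_1 lc_h_Cert_tree lc_h_rc_40_0 lc_h_rc_40_0 lc_h_rc_40_0 lc_h_rc_41_2 lc_h_Cert_tree lc_h_rc_40_0 lc_h_rc_29_3 lc_h_rc_42_1 lc_h_Cert_tree lc_h_Cert_tree lc_h_rc_40_0 lc_h_rc_35_1 lc_h_Cert_tree lc_h_rc_42_1 lc_h_Cert_tree lc_h_rc_40_0 lc_h_rc_35_1 lc_h_Cert_tree lc_h_rc_40_0 lc_h_rc_40_0 lc_h_rc_29_3 lc_h_Cert_tree lc_h_rc_40_0 lc_h_rc_29_3 lc_h_rc_40_0 lc_h_rc_40_0 lc_h_rc_14_1 lc_h_Cert_tree lc_h_rc_40_0 lc_h_rc_35_1 lc_h_rc_40_0 lc_h_rc_29_3 lc_h_rc_22_1 lc_h_rc_40_0 lc_h_rc_29_3 lc_h_rc_22_1 lc_h_rc_29_3 lc_h_rc_40_0 lc_h_Cert_tree lc_h_rc_40_0 lc_h_rc_29_3 lc_h_rc_14_1 lc_h_rc_35_1 lc_h_rc_40_0 lc_h_rc_35_1 lc_h_Cert_tree lc_h_rc_40_0) (@D3.rec (fun _ => (Cert rels S Gen.h)) lc_h_rc_41_0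 lc_h_Cert_tree lc_h_rc_41_0 lc_h_rc_41_0 lc_h_Cert_tree lc_h_Cert_tree lc_h_rc_40_0 lc_h_rc_40_0 lc_h_Cert_tree lc_h_rc_40_0 lc_h_rc_40_0 lc_h_rc_29_3 lc_h_rc_5_1 lc_h_rc_41_2 lc_h_rc_22_1 lc_h_rc_5_1 lc_h_Cert_tree lc_h_rc_42_1 lc_h_rc_35_1 lc_h_Cert_tree lc_h_rc_14_1 lc_h_rc_35_1 lc_h_Cert_tree lc_h_rc_35_1 lc_h_Cert_tree lc_h_rc_40_0 lc_h_Cert_tree lc_h_rc_40_0 lc_h_Cert_tree lc_h_rc_42_1 lc_h_Cert_tree lc_h_rc_40_0 lc_h_Cert_tree lc_h_rc_40_0 lc_h_rc_40_0 lc_h_rc_40_0 lc_h_rc_41_2 lc_h_rc_29_3 lc_h_rc_29_5 lc_h_Cert_tree lc_h_rc_35_1 lc_h_Cert_tree lc_h_rc_41_0 lc_h_Cert_tree lc_h_rc_40_0 lc_h_rc_51_1 lc_h_rc_35_1 lc_h_Cert_tree lc_h_rc_35_1 lc_h_Cert_tree lc_h_rc_40_0) (@D3.rec (fun _ =>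 (Cert rels S Gen.h)) lc_h_Cert_tree lc_h_rc_40_0 lc_h_rc_40_0 lc_h_Cert_tree lc_h_rc_40_0 lc_h_Cert_tree lc_h_rc_40_0 lc_h_Cert_tree lc_h_rc_40_0 lc_h_rc_29_3 lc_h_rc_40_0 lc_h_rc_29_3 lc_h_rc_40_0 lc_h_rc_40_0 lc_h_rc_14_1 lc_h_rc_29_3 lc_h_rc_35_1 lc_h_rc_22_1 lc_h_Cert_tree lc_h_rc_40_0 lc_h_rc_29_3 lc_h_rc_22_1 lc_h_rc_47_1 lc_h_rc_40_0 lc_h_rc_40_0 lc_h_rc_40_0 lc_h_rc_29_3 lc_h_rc_40_0 lc_h_rc_14_1 lc_h_rc_35_1 lc_h_rc_22_1 lc_h_rc_14_1 lc_h_rc_22_1 lc_h_rc_35_1 lc_h_Cert_tree lc_h_rc_14_1 lc_h_rc_22_1 lc_h_Cert_tree lc_h_rc_42_1 lc_h_Cert_tree lc_h_rc_40_0 lc_h_rc_35_1 lc_h_Cert_tree lc_h_rc_35_1 lc_h_Cert_tree lc_h_rc_35_1 lc_h_Cert_tree lc_h_rc_40_0 lc_h_rc_35_1 lc_h_Cert_tree lc_h_Cert_tree)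
def ce_h_15 : D2 → D3 → (Cert rels S Gen.h) := @D2.rec (fun _ => D3 → (Cert rels S Gen.h)) (@D3.rec (fun _ => (Cert rels S Gen.h)) lc_h_rc_35_1 lc_h_Cert_tree lc_h_rc_40_0 lc_h_rc_35_1 lc_h_Cert_tree lc_h_rc_40_0 lc_h_rc_40_0 lc_h_Cert_tree lc_h_rc_40_0 lc_h_rc_40_0 lc_h_Cert_tree lc_h_rc_40_0 lc_h_rc_41_2 lc_h_Cert_tree lc_h_rc_40_0 lc_h_rc_29_3 lc_h_rc_14_1 lc_h_rc_29_3 lc_h_rc_41_2 lc_h_rc_40_0 lc_h_rc_41_2 lc_h_rc_22_1 lc_h_rc_42_1 lc_h_Cert_tree lc_h_rc_40_0 lc_h_Cert_tree lc_h_rc_47_1 lc_h_Cert_tree lc_h_rc_40_0 lc_h_Cert_tree lc_h_rc_40_0 lc_h_rc_41_0 lc_h_Cert_tree lc_h_Cert_tree lc_h_rc_35_1 lc_h_Cert_tree lc_h_rc_40_0 lc_h_Cert_tree lc_h_rc_40_0 lc_h_Cert_tree lc_h_rc_35_1 lc_h_Cert_tree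 lc_h_rc_40_0 lc_h_rc_29_3 lc_h_rc_35_1 lc_h_Cert_tree lc_h_rc_40_0 lc_h_rc_29_3 lc_h_Cert_tree lc_h_rc_40_0 lc_h_rc_29_3) (@D3.rec (fun _ => (Cert rels S Gen.h)) lc_h_rc_40_0 lc_h_rc_29_3 lc_h_rc_40_0 lc_h_Cert_tree lc_h_rc_40_0 lc_h_rc_14_1 lc_h_Cert_tree lc_h_rc_40_0 lc_h_rc_29_3 lc_h_rc_35_1 lc_h_Cert_tree lc_h_rc_40_0 lc_h_rc_29_3 lc_h_rc_22_1 lc_h_rc_14_1 lc_h_rc_22_1 lc_h_rc_40_0 lc_h_rc_29_3 lc_h_rc_22_1 lc_h_rc_35_1 lc_h_rc_14_1 lc_h_rc_40_0 lc_h_rc_29_3 lc_h_rc_29_3 lc_h_rc_29_3 lc_h_rc_22_1 lc_h_rc_35_1 lc_h_rc_14_1 lc_h_rc_47_1 lc_h_rc_40_0 lc_h_Cert_tree lc_h_rc_40_0 lc_h_rc_29_3 lc_h_rc_5_3 lc_h_Cert_tree lc_h_rc_40_0 lc_h_rc_40_0 lc_h_Cert_tree lc_h_rc_40_0 lc_h_rc_14_1 lc_h_Cert_tree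 lc_h_rc_40_0 lc_h_rc_29_3 lc_h_rc_35_1 lc_h_rc_22_1 lc_h_rc_42_1 lc_h_rc_40_0 lc_h_rc_40_0 lc_h_rc_14_1 lc_h_Cert_tree lc_h_rc_22_1) (@D3.rec (fun _ => (Cert rels S Gen.h)) lc_h_Cert_tree lc_h_Cert_tree lc_h_rc_40_0 lc_h_Cert_tree lc_h_rc_40_0 lc_h_rc_40_0 lc_h_rc_29_3 lc_h_rc_47_1 lc_h_Cert_tree lc_h_Cert_tree lc_h_rc_40_0 lc_h_Cert_tree lc_h_rc_40_0 lc_h_rc_40_0 lc_h_rc_40_0 lc_h_rc_29_3 lc_h_rc_29_3 lc_h_rc_29_3 lc_h_rc_5_3 lc_h_Cert_tree lc_h_rc_22_1 lc_h_Cert_tree lc_h_rc_42_1 lc_h_Cert_tree lc_h_rc_40_0 lc_h_rc_35_1 lc_h_Cert_tree lc_h_rc_35_1 lc_h_Cert_tree lc_h_rc_40_0 lc_h_Cert_tree lc_h_rc_40_0 lc_h_Cert_tree lc_h_rc_40_0 lc_h_rc_40_0 lc_h_rc_29_3 lc_h_rc_47_1 lc_h_Cert_tree lc_h_rc_42_1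 lc_h_Cert_tree lc_h_rc_40_0 lc_h_Cert_tree lc_h_rc_40_0 lc_h_Cert_tree lc_h_rc_40_0 lc_h_Cert_tree lc_h_rc_40_0 lc_h_Cert_tree lc_h_Cert_tree lc_h_rc_40_0 lc_h_rc_41_0) (@D3.rec (fun _ => (Cert rels S Gen.h)) lc_h_Cert_tree lc_h_rc_40_0 lc_h_rc_29_3 lc_h_rc_40_0 lc_h_rc_29_3 lc_h_rc_40_0 lc_h_Cert_tree lc_h_rc_40_0 lc_h_rc_29_3 lc_h_rc_22_1 lc_h_rc_40_0 lc_h_rc_29_3 lc_h_rc_40_0 lc_h_rc_29_3 lc_h_rc_40_0 lc_h_rc_29_3 lc_h_rc_22_1 lc_h_rc_35_1 lc_h_rc_29_3 lc_h_rc_40_0 lc_h_rc_35_1 lc_h_Cert_tree lc_h_Cert_tree lc_h_rc_40_0 lc_h_rc_40_0 lc_h_rc_51_1 lc_h_Cert_tree lc_h_rc_42_1 lc_h_Cert_tree lc_h_Cert_tree lc_h_rc_40_0 lc_h_rc_51_1 lc_h_Cert_tree lc_h_rc_40_0 lc_h_rc_40_0 lc_h_rc_40_0 lc_h_rc_29_3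 lc_h_rc_5_1 lc_h_Cert_tree lc_h_rc_22_1 lc_h_Cert_tree lc_h_rc_5_1 lc_h_Cert_tree lc_h_rc_40_0 lc_h_rc_35_1 lc_h_Cert_tree lc_h_rc_35_1 lc_h_Cert_tree lc_h_rc_40_0 lc_h_Cert_tree lc_h_rc_40_0) (@D3.rec (fun _ => (Cert rels S Gen.h)) lc_h_rc_47_1 lc_h_Cert_tree lc_h_rc_40_0 lc_h_rc_40_0 lc_h_rc_29_3 lc_h_rc_22_1 lc_h_rc_5_3 lc_h_Cert_tree lc_h_rc_42_1 lc_h_Cert_tree lc_h_rc_40_0 lc_h_rc_29_1 lc_h_rc_51_1 lc_h_Cert_tree lc_h_rc_40_0 lc_h_rc_35_1 lc_h_Cert_tree lc_h_rc_40_0 lc_h_rc_29_1 lc_h_Cert_tree lc_h_rc_40_0 lc_h_Cert_tree lc_h_rc_40_0 lc_h_Cert_tree lc_h_Cert_tree lc_h_rc_40_0 lc_h_rc_40_0 lc_h_rc_29_3 lc_h_rc_47_1 lc_h_Cert_tree lc_h_rc_40_0 lc_h_Cert_tree lc_h_rc_40_0 lc_h_rc_29_3 lc_h_rc_40_0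 lc_h_rc_29_3 lc_h_rc_29_3 lc_h_rc_22_1 lc_h_rc_22_1 lc_h_rc_40_0 lc_h_rc_29_3 lc_h_rc_22_1 lc_h_rc_22_1 lc_h_rc_35_1 lc_h_rc_51_1 lc_h_Cert_tree lc_h_rc_14_1 lc_h_rc_41_2 lc_h_rc_22_1 lc_h_Cert_tree lc_h_Cert_tree) (@D3.rec (fun _ => (Cert rels S Gen.h)) lc_h_rc_40_0 lc_h_rc_51_1 lc_h_Cert_tree lc_h_rc_5_1 lc_h_rc_22_1 lc_h_Cert_tree lc_h_rc_42_1 lc_h_Cert_tree lc_h_rc_40_0 lc_h_rc_14_1 lc_h_rc_14_1 lc_h_Cert_tree lc_h_Cert_tree lc_h_rc_22_1 lc_h_Cert_tree lc_h_rc_40_0 lc_h_rc_51_1 lc_h_Cert_tree lc_h_rc_40_0 lc_h_rc_35_1 lc_h_Cert_tree lc_h_rc_42_1 lc_h_Cert_tree lc_h_rc_40_0 lc_h_rc_35_1 lc_h_Cert_tree lc_h_rc_35_1 lc_h_Cert_tree lc_h_rc_40_0 lc_h_rc_35_1 lc_h_Cert_tree lc_h_rc_40_0 lc_h_rc_41_0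 lc_h_Cert_tree lc_h_rc_40_0 lc_h_Cert_tree lc_h_rc_40_0 lc_h_Cert_tree lc_h_rc_35_1 lc_h_Cert_tree lc_h_rc_40_0 lc_h_rc_35_1 lc_h_Cert_tree lc_h_rc_40_0 lc_h_rc_29_3 lc_h_rc_40_0 lc_h_rc_47_1 lc_h_Cert_tree lc_h_rc_40_0 lc_h_rc_47_1 lc_h_Cert_tree) (@D3.rec (fun _ => (Cert rels S Gen.h)) lc_h_rc_40_0 lc_h_rc_29_3 lc_h_rc_42_1 lc_h_Cert_tree lc_h_rc_40_0 lc_h_rc_5_1 lc_h_Cert_tree lc_h_rc_40_0 lc_h_rc_41_2 lc_h_rc_22_1 lc_h_Cert_tree lc_h_rc_40_0 lc_h_rc_40_0 lc_h_rc_41_2 lc_h_rc_22_1 lc_h_rc_14_1 lc_h_rc_14_1 lc_h_Cert_tree lc_h_rc_29_1 lc_h_rc_41_0 lc_h_Cert_tree lc_h_rc_40_0 lc_h_rc_42_1 lc_h_Cert_tree lc_h_rc_40_0 lc_h_rc_42_1 lc_h_Cert_tree lc_h_rc_14_3 lc_h_rc_41_0 lc_h_Cert_tree lc_h_rc_40_0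 lc_h_Cert_tree lc_h_rc_40_0 lc_h_Cert_tree lc_h_rc_35_1 lc_h_Cert_tree lc_h_rc_40_0 lc_h_rc_29_3 lc_h_rc_35_1 lc_h_Cert_tree lc_h_rc_40_0 lc_h_rc_29_3 lc_h_Cert_tree lc_h_rc_40_0 lc_h_rc_41_0 lc_h_Cert_tree lc_h_rc_41_0 lc_h_Cert_tree lc_h_rc_40_0 lc_h_rc_14_1 lc_h_Cert_tree) (@D3.rec (fun _ => (Cert rels S Gen.h)) lc_h_rc_40_0 lc_h_Cert_tree lc_h_Cert_tree lc_h_rc_40_0 lc_h_rc_5_3 lc_h_Cert_tree lc_h_rc_40_0 lc_h_rc_29_3 lc_h_rc_35_1 lc_h_Cert_tree lc_h_rc_40_0 lc_h_rc_29_3 lc_h_rc_22_1 lc_h_rc_40_0 lc_h_Cert_tree lc_h_rc_40_0 lc_h_rc_14_1 lc_h_rc_22_1 lc_h_Cert_tree lc_h_rc_40_0 lc_h_rc_29_3 lc_h_rc_35_1 lc_h_Cert_tree lc_h_rc_40_0 lc_h_rc_29_3 lc_h_rc_22_1 lc_h_rc_51_1 lc_h_Cert_tree lc_h_rc_40_0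 lc_h_rc_14_1 lc_h_Cert_tree lc_h_rc_40_0 lc_h_rc_42_1 lc_h_rc_22_1 lc_h_rc_35_1 lc_h_rc_42_1 lc_h_rc_40_0 lc_h_rc_29_3 lc_h_rc_22_1 lc_h_rc_35_1 lc_h_rc_14_1 lc_h_Cert_tree lc_h_rc_40_0 lc_h_rc_40_0 lc_h_rc_29_3 lc_h_rc_35_1 lc_h_rc_29_3 lc_h_rc_22_1 lc_h_rc_5_1 lc_h_rc_40_0 lc_h_rc_29_3) (@D3.rec (fun _ => (Cert rels S Gen.h)) lc_h_rc_22_1 lc_h_rc_35_1 lc_h_rc_14_1 lc_h_rc_29_3 lc_h_rc_22_1 lc_h_rc_35_1 lc_h_rc_14_1 lc_h_rc_22_1 lc_h_rc_5_1 lc_h_rc_22_1 lc_h_rc_29_3 lc_h_rc_29_3 lc_h_Cert_tree lc_h_rc_40_0 lc_h_rc_35_1 lc_h_rc_40_0 lc_h_rc_14_1 lc_h_rc_40_0 lc_h_rc_29_3 lc_h_rc_22_1 lc_h_rc_35_1 lc_h_rc_42_1 lc_h_rc_40_0 lc_h_Cert_tree lc_h_rc_40_0 lc_h_Cert_tree lc_h_Cert_tree lc_h_rc_40_0 lc_h_Cert_tree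 lc_h_rc_40_0 lc_h_rc_29_3 lc_h_Cert_tree lc_h_Cert_tree lc_h_rc_40_0 lc_h_rc_41_2 lc_h_rc_22_1 lc_h_rc_35_1 lc_h_rc_22_1 lc_h_rc_29_3 lc_h_rc_40_0 lc_h_rc_40_0 lc_h_rc_29_3 lc_h_Cert_tree lc_h_rc_40_0 lc_h_rc_40_0 lc_h_Cert_tree lc_h_rc_40_0 lc_h_Cert_tree lc_h_rc_40_0 lc_h_rc_40_0 lc_h_rc_40_0) (@D3.rec (fun _ => (Cert rels S Gen.h)) lc_h_rc_40_0 lc_h_Cert_tree lc_h_rc_40_0 lc_h_Cert_tree lc_h_rc_40_0 lc_h_rc_40_0 lc_h_rc_42_1 lc_h_Cert_tree lc_h_rc_40_0 lc_h_rc_22_3 lc_h_Cert_tree lc_h_rc_35_1 lc_h_Cert_tree lc_h_rc_40_0 lc_h_Cert_tree lc_h_rc_40_0 lc_h_rc_29_3 lc_h_rc_40_0 lc_h_Cert_tree lc_h_rc_40_0 lc_h_Cert_tree lc_h_rc_40_0 lc_h_rc_29_3 lc_h_rc_40_0 lc_h_rc_14_1 lc_h_rc_40_0 lc_h_rc_29_3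 lc_h_rc_40_0 lc_h_rc_40_0 lc_h_rc_5_1 lc_h_Cert_tree lc_h_Cert_tree lc_h_rc_40_0 lc_h_Cert_tree lc_h_rc_40_0 lc_h_rc_40_0 lc_h_rc_40_0 lc_h_rc_5_1 lc_h_Cert_tree lc_h_Cert_tree lc_h_rc_40_0 lc_h_rc_40_0 lc_h_rc_29_3 lc_h_rc_29_3 lc_h_Cert_tree lc_h_rc_40_0 lc_h_rc_29_3 lc_h_rc_40_0 lc_h_rc_14_1 lc_h_rc_40_0 lc_h_rc_14_1) (@D3.rec (fun _ => (Cert rels S Gen.h)) lc_h_rc_35_1 lc_h_rc_40_0 lc_h_rc_14_1 lc_h_rc_22_3 lc_h_rc_42_1 lc_h_Cert_tree lc_h_rc_40_0 lc_h_rc_40_0 lc_h_rc_47_3 lc_h_Cert_tree lc_h_rc_40_0 lc_h_rc_40_0 lc_h_rc_40_0 lc_h_rc_5_1 lc_h_rc_51_1 lc_h_rc_14_3 lc_h_Cert_tree lc_h_rc_5_1 lc_h_Cert_tree lc_h_rc_40_0 lc_h_rc_41_0 lc_h_Cert_tree lc_h_rc_41_0 lc_h_rc_51_1 lc_h_Cert_tree lc_h_rc_40_0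 lc_h_Cert_tree lc_h_rc_40_0 lc_h_rc_14_1 lc_h_Cert_tree lc_h_rc_40_0 lc_h_rc_41_0 lc_h_Cert_tree lc_h_Cert_tree lc_h_rc_40_0 lc_h_rc_29_3 lc_h_rc_40_0 lc_h_rc_29_3 lc_h_rc_40_0 lc_h_Cert_tree lc_h_rc_40_0 lc_h_rc_29_3 lc_h_rc_40_0 lc_h_rc_14_1 lc_h_rc_40_0 lc_h_rc_29_3 lc_h_rc_35_1 lc_h_rc_14_1 lc_h_Cert_tree lc_h_rc_40_0 lc_h_rc_40_0) (@D3.rec (fun _ => (Cert rels S Gen.h)) lc_h_Cert_tree lc_h_rc_40_0 lc_h_rc_29_3 lc_h_rc_40_0 lc_h_Cert_tree lc_h_rc_40_0 lc_h_rc_14_1 lc_h_rc_40_0 lc_h_rc_29_3 lc_h_rc_35_1 lc_h_rc_40_0 lc_h_rc_14_1 lc_h_rc_35_1 lc_h_rc_14_1 lc_h_rc_42_1 lc_h_rc_41_0 lc_h_rc_29_1 lc_h_Cert_tree lc_h_rc_14_1 lc_h_Cert_tree lc_h_rc_40_0 lc_h_rc_40_0 lc_h_rc_35_1 lc_h_Cert_tree lc_h_Cert_tree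 lc_h_rc_40_0 lc_h_rc_35_1 lc_h_Cert_tree lc_h_Cert_tree lc_h_Cert_tree lc_h_rc_40_0 lc_h_rc_40_0 lc_h_rc_41_0 lc_h_rc_35_1 lc_h_Cert_tree lc_h_rc_40_0 lc_h_rc_42_3 lc_h_rc_40_0 lc_h_Cert_tree lc_h_Cert_tree lc_h_rc_40_0 lc_h_rc_41_2 lc_h_Cert_tree lc_h_rc_40_0 lc_h_rc_29_3 lc_h_rc_40_0 lc_h_rc_41_2 lc_h_Cert_tree lc_h_rc_40_0 lc_h_rc_14_1 lc_h_rc_40_0) (@D3.rec (fun _ => (Cert rels S Gen.h)) lc_h_rc_40_0 lc_h_rc_40_0 lc_h_rc_51_3 lc_h_Cert_tree lc_h_rc_40_0 lc_h_Cert_tree lc_h_rc_40_0 lc_h_rc_5_3 lc_h_Cert_tree lc_h_rc_40_0 lc_h_Cert_tree lc_h_rc_40_0 lc_h_Cert_tree lc_h_Cert_tree lc_h_rc_40_0 lc_h_rc_29_3 lc_h_rc_40_0 lc_h_rc_29_3 lc_h_rc_35_1 lc_h_Cert_tree lc_h_rc_40_0 lc_h_rc_47_1 lc_h_rc_40_0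 lc_h_Cert_tree lc_h_rc_35_1 lc_h_Cert_tree lc_h_rc_40_0 lc_h_rc_14_1 lc_h_rc_29_1 lc_h_rc_40_0 lc_h_Cert_tree lc_h_Cert_tree lc_h_rc_40_0 lc_h_rc_42_1 lc_h_Cert_tree lc_h_rc_40_0 lc_h_rc_29_3 lc_h_rc_35_1 lc_h_Cert_tree lc_h_rc_40_0 lc_h_rc_29_3 lc_h_rc_22_1 lc_h_rc_14_1 lc_h_Cert_tree lc_h_rc_40_0 lc_h_Cert_tree lc_h_rc_40_0 lc_h_rc_14_1 lc_h_rc_40_0 lc_h_rc_29_3 lc_h_rc_35_1) (@D3.rec (fun _ => (Cert rels S Gen.h)) lc_h_Cert_tree lc_h_rc_40_0 lc_h_Cert_tree lc_h_rc_40_0 lc_h_rc_14_1 lc_h_Cert_tree lc_h_rc_40_0 lc_h_rc_29_3 lc_h_rc_42_1 lc_h_rc_40_0 lc_h_rc_29_3 lc_h_Cert_tree lc_h_rc_40_0 lc_h_rc_40_0 lc_h_rc_29_3 lc_h_rc_29_3 lc_h_rc_14_1 lc_h_Cert_tree lc_h_rc_40_0 lc_h_rc_29_3 lc_h_rc_35_1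 lc_h_Cert_tree lc_h_rc_40_0 lc_h_rc_29_3 lc_h_rc_14_1 lc_h_rc_40_0 lc_h_rc_29_3 lc_h_rc_35_1 lc_h_rc_42_1 lc_h_rc_42_1 lc_h_rc_29_3 lc_h_rc_29_3 lc_h_rc_35_1 lc_h_rc_41_2 lc_h_rc_29_3 lc_h_rc_35_1 lc_h_rc_42_1 lc_h_rc_41_2 lc_h_rc_35_1 lc_h_rc_14_1 lc_h_rc_41_2 lc_h_rc_29_3 lc_h_rc_29_3 lc_h_rc_14_1 lc_h_rc_5_1 lc_h_rc_14_1 lc_h_rc_42_1 lc_h_Cert_tree lc_h_rc_40_0 lc_h_Cert_tree lc_h_rc_40_0) (@D3.rec (fun _ => (Cert rels S Gen.h)) lc_h_Cert_tree lc_h_rc_40_0 lc_h_rc_40_0 lc_h_rc_29_3 lc_h_rc_35_1 lc_h_rc_40_0 lc_h_rc_29_3 lc_h_rc_29_3 lc_h_rc_35_1 lc_h_Cert_tree lc_h_Cert_tree lc_h_rc_40_0 lc_h_rc_40_0 lc_h_rc_41_2 lc_h_rc_14_1 lc_h_rc_41_2 lc_h_rc_40_0 lc_h_Cert_tree lc_h_rc_40_0 lc_h_Cert_tree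 lc_h_Cert_tree lc_h_rc_40_0 lc_h_rc_29_3 lc_h_rc_40_0 lc_h_rc_29_3 lc_h_rc_40_0 lc_h_rc_29_3 lc_h_rc_35_1 lc_h_rc_14_1 lc_h_rc_29_3 lc_h_rc_42_1 lc_h_Cert_tree lc_h_rc_40_0 lc_h_rc_29_3 lc_h_rc_35_1 lc_h_rc_42_1 lc_h_rc_47_1 lc_h_rc_29_3 lc_h_Cert_tree lc_h_rc_40_0 lc_h_rc_40_0 lc_h_rc_41_2 lc_h_rc_14_1 lc_h_Cert_tree lc_h_rc_40_0 lc_h_rc_40_0 lc_h_rc_40_0 lc_h_rc_29_3 lc_h_rc_29_3 lc_h_rc_35_1 lc_h_rc_35_1) (@D3.rec (fun _ => (Cert rels S Gen.h)) lc_h_rc_42_1 lc_h_Cert_tree lc_h_rc_40_0 lc_h_rc_40_0 lc_h_Cert_tree lc_h_rc_40_0 lc_h_rc_41_2 lc_h_rc_14_3 lc_h_rc_14_1 lc_h_rc_41_2 lc_h_rc_14_1 lc_h_Cert_tree lc_h_rc_40_0 lc_h_Cert_tree lc_h_rc_40_0 lc_h_Cert_tree lc_h_rc_40_0 lc_h_rc_40_0 lc_h_rc_29_3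 lc_h_rc_29_3 lc_h_Cert_tree lc_h_rc_40_0 lc_h_Cert_tree lc_h_Cert_tree lc_h_rc_40_0 lc_h_rc_14_1 lc_h_Cert_tree lc_h_rc_40_0 lc_h_Cert_tree lc_h_rc_40_0 lc_h_rc_29_3 lc_h_rc_35_1 lc_h_Cert_tree lc_h_rc_40_0 lc_h_rc_29_3 lc_h_rc_22_1 lc_h_rc_14_1 lc_h_rc_5_1 lc_h_rc_40_0 lc_h_rc_22_1 lc_h_rc_14_1 lc_h_rc_40_0 lc_h_rc_41_2 lc_h_rc_42_1 lc_h_rc_47_1 lc_h_rc_29_3 lc_h_rc_14_1 lc_h_rc_35_1 lc_h_rc_5_1 lc_h_rc_40_0 lc_h_rc_29_3) (@D3.rec (fun _ => (Cert rels S Gen.h)) lc_h_rc_14_1 lc_h_rc_40_0 lc_h_rc_29_3 lc_h_rc_35_1 lc_h_rc_42_1 lc_h_rc_14_1 lc_h_rc_47_1 lc_h_rc_5_1 lc_h_Cert_tree lc_h_rc_40_0 lc_h_rc_40_0 lc_h_rc_29_3 lc_h_rc_40_0 lc_h_Cert_tree lc_h_rc_40_0 lc_h_rc_40_0 lc_h_rc_40_0 lc_h_rc_29_3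 lc_h_rc_14_3 lc_h_Cert_tree lc_h_rc_40_0 lc_h_rc_5_1 lc_h_Cert_tree lc_h_rc_40_0 lc_h_rc_41_0 lc_h_Cert_tree lc_h_rc_40_0 lc_h_rc_14_1 lc_h_Cert_tree lc_h_Cert_tree lc_h_rc_40_0 lc_h_Cert_tree lc_h_rc_40_0 lc_h_rc_29_3 lc_h_rc_47_1 lc_h_Cert_tree lc_h_Cert_tree lc_h_rc_40_0 lc_h_Cert_tree lc_h_rc_40_0 lc_h_rc_40_0 lc_h_rc_29_3 lc_h_rc_29_3 lc_h_rc_22_1 lc_h_Cert_tree lc_h_rc_40_0 lc_h_rc_40_0 lc_h_rc_29_3 lc_h_rc_40_0 lc_h_rc_40_0 lc_h_rc_14_1) (@D3.rec (fun _ => (Cert rels S Gen.h)) lc_h_rc_29_3 lc_h_rc_40_0 lc_h_rc_40_0 lc_h_Cert_tree lc_h_rc_40_0 lc_h_rc_40_0 lc_h_rc_40_0 lc_h_rc_29_3 lc_h_Cert_tree lc_h_rc_40_0 lc_h_Cert_tree lc_h_rc_40_0 lc_h_Cert_tree lc_h_rc_40_0 lc_h_rc_40_0 lc_h_rc_29_3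 lc_h_Cert_tree lc_h_rc_40_0 lc_h_Cert_tree lc_h_rc_40_0 lc_h_Cert_tree lc_h_rc_40_0 lc_h_rc_29_3 lc_h_rc_22_1 lc_h_rc_40_0 lc_h_rc_40_0 lc_h_rc_40_0 lc_h_rc_22_1 lc_h_Cert_tree lc_h_rc_22_1 lc_h_Cert_tree lc_h_rc_40_0 lc_h_rc_40_0 lc_h_Cert_tree lc_h_rc_40_0 lc_h_rc_29_3 lc_h_rc_29_3 lc_h_rc_42_1 lc_h_Cert_tree lc_h_rc_40_0 lc_h_Cert_tree lc_h_rc_40_0 lc_h_Cert_tree lc_h_rc_40_0 lc_h_Cert_tree lc_h_rc_40_0 lc_h_rc_51_1 lc_h_Cert_tree lc_h_rc_40_0 lc_h_rc_22_1 lc_h_rc_29_3) (@D3.rec (fun _ => (Cert rels S Gen.h)) lc_h_Cert_tree lc_h_Cert_tree lc_h_rc_40_0 lc_h_Cert_tree lc_h_rc_40_0 lc_h_Cert_tree lc_h_Cert_tree lc_h_rc_40_0 lc_h_rc_35_1 lc_h_Cert_tree lc_h_rc_40_0 lc_h_rc_29_3 lc_h_Cert_tree lc_h_rc_40_0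 lc_h_rc_41_4 lc_h_rc_22_1 lc_h_rc_40_0 lc_h_rc_40_0 lc_h_rc_29_3 lc_h_rc_40_0 lc_h_rc_29_3 lc_h_Cert_tree lc_h_rc_40_0 lc_h_rc_41_2 lc_h_rc_40_0 lc_h_rc_22_1 lc_h_rc_40_0 lc_h_rc_41_2 lc_h_Cert_tree lc_h_rc_40_0 lc_h_Cert_tree lc_h_rc_40_0 lc_h_rc_29_3 lc_h_Cert_tree lc_h_rc_40_0 lc_h_rc_40_0 lc_h_rc_40_0 lc_h_rc_29_3 lc_h_rc_5_1 lc_h_Cert_tree lc_h_rc_40_0 lc_h_rc_5_3 lc_h_rc_22_1 lc_h_Cert_tree lc_h_rc_40_0 lc_h_rc_5_1 lc_h_rc_5_3 lc_h_Cert_tree lc_h_rc_40_0 lc_h_rc_29_3 lc_h_rc_40_0) (@D3.rec (fun _ => (Cert rels S Gen.h)) lc_h_Cert_tree lc_h_Cert_tree lc_h_rc_40_0 lc_h_rc_40_0 lc_h_rc_29_3 lc_h_Cert_tree lc_h_rc_40_0 lc_h_rc_29_3 lc_h_rc_22_1 lc_h_rc_29_3 lc_h_rc_42_1 lc_h_rc_40_0 lc_h_rc_29_3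 lc_h_rc_22_1 lc_h_rc_14_1 lc_h_Cert_tree lc_h_rc_40_0 lc_h_rc_40_0 lc_h_rc_51_1 lc_h_rc_29_3 lc_h_rc_29_3 lc_h_rc_42_1 lc_h_rc_40_0 lc_h_rc_40_0 lc_h_rc_40_0 lc_h_rc_14_1 lc_h_rc_22_1 lc_h_rc_40_0 lc_h_rc_29_3 lc_h_rc_35_1 lc_h_rc_42_1 lc_h_rc_40_0 lc_h_rc_14_1 lc_h_rc_22_1 lc_h_rc_47_1 lc_h_rc_29_3 lc_h_Cert_tree lc_h_rc_40_0 lc_h_Cert_tree lc_h_rc_40_0 lc_h_rc_40_0 lc_h_Cert_tree lc_h_rc_40_0 lc_h_rc_14_1 lc_h_Cert_tree lc_h_rc_40_0 lc_h_rc_29_3 lc_h_rc_35_1 lc_h_rc_40_0 lc_h_Cert_tree lc_h_rc_40_0) (@D3.rec (fun _ => (Cert rels S Gen.h)) lc_h_rc_40_0 lc_h_rc_29_3 lc_h_rc_41_2 lc_h_rc_42_1 lc_h_rc_42_1 lc_h_rc_40_0 lc_h_rc_29_3 lc_h_Cert_tree lc_h_rc_40_0 lc_h_rc_40_0 lc_h_rc_29_3 lc_h_rc_29_3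 lc_h_rc_29_3 lc_h_rc_22_1 lc_h_rc_35_1 lc_h_rc_14_1 lc_h_rc_22_1 lc_h_rc_51_1 lc_h_rc_35_1 lc_h_rc_14_1 lc_h_rc_22_1 lc_h_rc_14_1 lc_h_rc_35_1 lc_h_rc_42_1 lc_h_rc_29_3 lc_h_rc_14_1 lc_h_rc_22_1 lc_h_rc_40_0 lc_h_rc_40_0 lc_h_rc_40_0 lc_h_rc_40_0 lc_h_rc_29_3 lc_h_rc_22_1 lc_h_rc_29_3 lc_h_rc_40_0 lc_h_rc_29_3 lc_h_rc_22_1 lc_h_rc_14_1 lc_h_rc_35_1 lc_h_Cert_tree lc_h_rc_40_0 lc_h_Cert_tree lc_h_rc_40_0 lc_h_rc_29_3 lc_h_rc_35_1 lc_h_Cert_tree lc_h_rc_40_0 lc_h_rc_35_1 lc_h_Cert_tree lc_h_rc_40_0 lc_h_Cert_tree) (@D3.rec (fun _ => (Cert rels S Gen.h)) lc_h_rc_40_0 lc_h_Cert_tree lc_h_rc_40_0 lc_h_Cert_tree lc_h_rc_14_1 lc_h_Cert_tree lc_h_rc_40_0 lc_h_Cert_tree lc_h_rc_40_0 lc_h_rc_40_0 lc_h_rc_29_3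 lc_h_rc_40_0 lc_h_rc_40_0 lc_h_rc_22_1 lc_h_rc_29_3 lc_h_rc_22_1 lc_h_Cert_tree lc_h_rc_40_0 lc_h_rc_29_3 lc_h_rc_40_0 lc_h_rc_40_0 lc_h_Cert_tree lc_h_rc_40_0 lc_h_Cert_tree lc_h_rc_40_0 lc_h_Cert_tree lc_h_rc_40_0 lc_h_rc_29_3 lc_h_rc_40_0 lc_h_rc_41_2 lc_h_rc_40_0 lc_h_rc_40_0 lc_h_rc_42_1 lc_h_Cert_tree lc_h_rc_40_0 lc_h_rc_29_3 lc_h_Cert_tree lc_h_rc_40_0 lc_h_rc_29_3 lc_h_rc_22_1 lc_h_rc_40_0 lc_h_rc_40_0 lc_h_rc_29_3 lc_h_rc_14_1 lc_h_rc_29_3 lc_h_rc_22_1 lc_h_rc_35_1 lc_h_rc_14_1 lc_h_rc_5_1 lc_h_Cert_tree lc_h_rc_51_1) (@D3.rec (fun _ => (Cert rels S Gen.h)) lc_h_rc_14_3 lc_h_Cert_tree lc_h_rc_5_1 lc_h_Cert_tree lc_h_rc_40_0 lc_h_rc_35_1 lc_h_Cert_tree lc_h_rc_35_1 lc_h_Cert_tree lc_h_rc_35_1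 lc_h_Cert_tree lc_h_rc_40_0 lc_h_Cert_tree lc_h_Cert_tree lc_h_rc_40_0 lc_h_Cert_tree lc_h_rc_40_0 lc_h_rc_40_0 lc_h_rc_47_1 lc_h_Cert_tree lc_h_rc_40_0 lc_h_rc_41_2 lc_h_rc_40_0 lc_h_rc_29_3 lc_h_rc_41_2 lc_h_rc_22_1 lc_h_Cert_tree lc_h_rc_40_0 lc_h_rc_41_0 lc_h_Cert_tree lc_h_rc_40_0 lc_h_rc_35_1 lc_h_Cert_tree lc_h_rc_40_0 lc_h_Cert_tree lc_h_Cert_tree lc_h_rc_40_0 lc_h_Cert_tree lc_h_rc_40_0 lc_h_Cert_tree lc_h_Cert_tree lc_h_rc_40_0 lc_h_rc_29_3 lc_h_rc_40_0 lc_h_rc_29_3 lc_h_Cert_tree lc_h_rc_40_0 lc_h_rc_29_3 lc_h_Cert_tree lc_h_rc_40_0 lc_h_rc_29_3) (@D3.rec (fun _ => (Cert rels S Gen.h)) lc_h_rc_14_1 lc_h_rc_40_0 lc_h_rc_29_3 lc_h_rc_35_1 lc_h_rc_29_3 lc_h_rc_22_1 lc_h_rc_29_3 lc_h_rc_29_3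 lc_h_rc_35_1 lc_h_rc_40_0 lc_h_rc_29_3 lc_h_rc_22_1 lc_h_rc_22_1 lc_h_rc_35_1 lc_h_rc_14_1 lc_h_rc_29_3 lc_h_rc_40_0 lc_h_Cert_tree lc_h_rc_40_0 lc_h_rc_14_1 lc_h_Cert_tree lc_h_rc_40_0 lc_h_rc_29_3 lc_h_rc_35_1 lc_h_rc_35_1 lc_h_rc_42_1 lc_h_rc_35_1 lc_h_Cert_tree lc_h_Cert_tree lc_h_rc_40_0 lc_h_rc_40_0 lc_h_rc_5_1 lc_h_rc_56_27 lc_h_Cert_tree lc_h_rc_41_0 lc_h_Cert_tree lc_h_Cert_tree lc_h_rc_40_0 lc_h_rc_5_1 lc_h_Cert_tree lc_h_rc_40_0 lc_h_Cert_tree lc_h_rc_40_0 lc_h_rc_40_0 lc_h_rc_5_1 lc_h_rc_40_0 lc_h_rc_29_3 lc_h_rc_29_3 lc_h_rc_22_1 lc_h_Cert_tree lc_h_rc_40_0) (@D3.rec (fun _ => (Cert rels S Gen.h)) lc_h_Cert_tree lc_h_rc_40_0 lc_h_rc_14_3 lc_h_Cert_tree lc_h_rc_40_0 lc_h_Cert_tree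 lc_h_rc_40_0 lc_h_rc_5_1 lc_h_rc_40_0 lc_h_rc_29_3 lc_h_rc_55_25 lc_h_Cert_tree lc_h_rc_40_0 lc_h_rc_40_0 lc_h_rc_40_0 lc_h_rc_29_3 lc_h_rc_41_0 lc_h_Cert_tree lc_h_rc_40_0 lc_h_rc_29_3 lc_h_Cert_tree lc_h_rc_40_0 lc_h_rc_29_3 lc_h_rc_40_0 lc_h_rc_29_3 lc_h_rc_40_0 lc_h_rc_29_3 lc_h_rc_35_1 lc_h_rc_29_3 lc_h_rc_35_1 lc_h_rc_5_1 lc_h_rc_41_0 lc_h_Cert_tree lc_h_rc_29_3 lc_h_Cert_tree lc_h_rc_40_0 lc_h_rc_5_1 lc_h_rc_14_1 lc_h_Cert_tree lc_h_rc_47_1 lc_h_rc_41_0 lc_h_Cert_tree lc_h_rc_40_0 lc_h_Cert_tree lc_h_rc_40_0 lc_h_rc_42_1 lc_h_Cert_tree lc_h_rc_40_0 lc_h_rc_35_1 lc_h_Cert_tree lc_h_rc_29_3) (@D3.rec (fun _ => (Cert rels S Gen.h)) lc_h_Cert_tree lc_h_rc_40_0 lc_h_rc_35_1 lc_h_Cert_tree lc_h_rc_40_0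 lc_h_rc_41_0 lc_h_Cert_tree lc_h_rc_40_0 lc_h_rc_14_1 lc_h_rc_40_0 lc_h_Cert_tree lc_h_Cert_tree lc_h_rc_40_0 lc_h_rc_41_2 lc_h_rc_35_1 lc_h_Cert_tree lc_h_rc_40_0 lc_h_rc_29_3 lc_h_rc_40_0 lc_h_rc_41_2 lc_h_Cert_tree lc_h_rc_40_0 lc_h_rc_29_3 lc_h_rc_14_1 lc_h_rc_40_0 lc_h_rc_41_2 lc_h_Cert_tree lc_h_rc_40_0 lc_h_rc_41_2 lc_h_rc_22_1 lc_h_rc_40_0 lc_h_rc_41_2 lc_h_rc_42_1 lc_h_Cert_tree lc_h_rc_40_0 lc_h_rc_41_0 lc_h_Cert_tree lc_h_Cert_tree lc_h_rc_40_0 lc_h_rc_40_0 lc_h_rc_29_3 lc_h_rc_22_1 lc_h_Cert_tree lc_h_rc_40_0 lc_h_rc_29_3 lc_h_rc_42_3 lc_h_Cert_tree lc_h_rc_40_0 lc_h_rc_40_0 lc_h_Cert_tree lc_h_Cert_tree) (@D3.rec (fun _ => (Cert rels S Gen.h)) lc_h_rc_40_0 lc_h_rc_14_1 lc_h_Cert_tree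 lc_h_rc_40_0 lc_h_rc_41_0 lc_h_Cert_tree lc_h_rc_40_0 lc_h_rc_29_3 lc_h_rc_35_1 lc_h_Cert_tree lc_h_rc_40_0 lc_h_rc_29_3 lc_h_rc_22_1 lc_h_rc_40_0 lc_h_rc_14_1 lc_h_rc_35_1 lc_h_Cert_tree lc_h_rc_40_0 lc_h_rc_29_3 lc_h_rc_22_1 lc_h_rc_22_1 lc_h_rc_40_0 lc_h_rc_14_1 lc_h_Cert_tree lc_h_rc_40_0 lc_h_rc_42_1 lc_h_rc_40_0 lc_h_rc_29_3 lc_h_rc_22_1 lc_h_rc_35_1 lc_h_rc_14_1 lc_h_rc_40_0 lc_h_rc_47_1 lc_h_rc_29_3 lc_h_rc_40_0 lc_h_rc_29_3 lc_h_rc_22_1 lc_h_rc_35_1 lc_h_rc_14_1 lc_h_rc_29_3 lc_h_rc_42_1 lc_h_rc_35_1 lc_h_rc_14_1 lc_h_rc_22_1 lc_h_rc_22_1 lc_h_rc_40_0 lc_h_rc_14_1 lc_h_rc_35_1 lc_h_Cert_tree lc_h_rc_40_0 lc_h_Cert_tree)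
def ce_h_16 : D2 → D3 → (Cert rels S Gen.h) := @D2.rec (fun _ => D3 → (Cert rels S Gen.h)) (@D3.rec (fun _ => (Cert rels S Gen.h)) lc_h_rc_40_0 lc_h_rc_29_3 lc_h_rc_14_1 lc_h_rc_40_0 lc_h_rc_29_3 lc_h_rc_35_1 lc_h_rc_42_1 lc_h_rc_14_1 lc_h_rc_42_1 lc_h_rc_14_1 lc_h_rc_47_1 lc_h_rc_40_0 lc_h_rc_40_0 lc_h_rc_40_0 lc_h_rc_40_0 lc_h_rc_40_0 lc_h_rc_29_3 lc_h_rc_29_3 lc_h_rc_40_0 lc_h_rc_41_2 lc_h_rc_40_0 lc_h_rc_29_3 lc_h_rc_14_1 lc_h_rc_35_1 lc_h_rc_29_3 lc_h_rc_22_1 lc_h_rc_40_0 lc_h_rc_29_3 lc_h_rc_40_0 lc_h_rc_40_0 lc_h_rc_40_0 lc_h_rc_40_0 lc_h_rc_41_2 lc_h_rc_29_3 lc_h_rc_40_0 lc_h_rc_14_1 lc_h_rc_29_3 lc_h_rc_35_1 lc_h_rc_22_1 lc_h_rc_22_1 lc_h_rc_14_1 lc_h_rc_41_2 lc_h_rc_29_3 lc_h_rc_14_1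 lc_h_rc_29_3 lc_h_rc_41_2 lc_h_rc_41_2 lc_h_rc_22_1 lc_h_rc_29_3 lc_h_rc_29_3 lc_h_rc_14_1) (@D3.rec (fun _ => (Cert rels S Gen.h)) lc_h_rc_51_1 lc_h_rc_29_3 lc_h_rc_22_1 lc_h_rc_35_1 lc_h_rc_14_1 lc_h_rc_29_1 lc_h_Cert_tree lc_h_Cert_tree lc_h_rc_40_0 lc_h_rc_40_0 lc_h_rc_35_1 lc_h_Cert_tree lc_h_rc_35_1 lc_h_Cert_tree lc_h_rc_35_1 lc_h_Cert_tree lc_h_rc_40_0 lc_h_rc_40_0 lc_h_rc_40_0 lc_h_Cert_tree lc_h_rc_40_0 lc_h_rc_5_1 lc_h_rc_29_3 lc_h_rc_41_0 lc_h_Cert_tree lc_h_Cert_tree lc_h_rc_40_0 lc_h_Cert_tree lc_h_rc_40_0 lc_h_Cert_tree lc_h_rc_40_0 lc_h_rc_29_3 lc_h_rc_40_0 lc_h_rc_29_3 lc_h_rc_29_3 lc_h_rc_29_3 lc_h_rc_22_1 lc_h_Cert_tree lc_h_rc_42_1 lc_h_Cert_tree lc_h_rc_40_0 lc_h_Cert_tree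 lc_h_rc_40_0 lc_h_rc_35_1 lc_h_Cert_tree lc_h_rc_56_41 lc_h_Cert_tree lc_h_rc_40_0 lc_h_rc_35_1 lc_h_Cert_tree lc_h_rc_40_0) (@D3.rec (fun _ => (Cert rels S Gen.h)) lc_h_rc_40_0 lc_h_rc_41_2 lc_h_Cert_tree lc_h_rc_40_0 lc_h_rc_29_3 lc_h_rc_14_1 lc_h_rc_41_2 lc_h_rc_40_0 lc_h_rc_41_2 lc_h_rc_22_1 lc_h_Cert_tree lc_h_rc_40_0 lc_h_rc_40_0 lc_h_Cert_tree lc_h_rc_40_0 lc_h_Cert_tree lc_h_rc_40_0 lc_h_rc_29_3 lc_h_Cert_tree lc_h_rc_40_0 lc_h_rc_29_3 lc_h_rc_14_1 lc_h_rc_35_1 lc_h_rc_40_0 lc_h_rc_29_3 lc_h_rc_22_1 lc_h_rc_40_0 lc_h_rc_29_3 lc_h_rc_29_3 lc_h_rc_22_1 lc_h_rc_35_1 lc_h_rc_14_1 lc_h_rc_40_0 lc_h_rc_29_3 lc_h_rc_35_1 lc_h_rc_42_1 lc_h_Cert_tree lc_h_rc_40_0 lc_h_Cert_tree lc_h_rc_40_0 lc_h_rc_41_0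 lc_h_Cert_tree lc_h_rc_14_3 lc_h_Cert_tree lc_h_rc_40_0 lc_h_rc_40_0 lc_h_rc_40_0 lc_h_rc_29_3 lc_h_rc_5_1 lc_h_Cert_tree lc_h_rc_22_1) (@D3.rec (fun _ => (Cert rels S Gen.h)) lc_h_Cert_tree lc_h_rc_5_1 lc_h_Cert_tree lc_h_rc_40_0 lc_h_rc_35_1 lc_h_Cert_tree lc_h_Cert_tree lc_h_rc_40_0 lc_h_rc_35_1 lc_h_Cert_tree lc_h_rc_29_3 lc_h_rc_35_1 lc_h_Cert_tree lc_h_rc_40_0 lc_h_Cert_tree lc_h_rc_40_0 lc_h_rc_40_0 lc_h_rc_40_0 lc_h_Cert_tree lc_h_rc_40_0 lc_h_rc_41_2 lc_h_rc_40_0 lc_h_rc_29_3 lc_h_rc_14_1 lc_h_rc_41_2 lc_h_rc_22_1 lc_h_Cert_tree lc_h_rc_40_0 lc_h_Cert_tree lc_h_rc_40_0 lc_h_rc_47_1 lc_h_Cert_tree lc_h_rc_40_0 lc_h_Cert_tree lc_h_Cert_tree lc_h_rc_40_0 lc_h_Cert_tree lc_h_rc_40_0 lc_h_rc_29_3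 lc_h_rc_40_0 lc_h_rc_29_3 lc_h_rc_40_0 lc_h_rc_40_0 lc_h_rc_14_1 lc_h_rc_40_0 lc_h_rc_29_3 lc_h_rc_35_1 lc_h_rc_29_3 lc_h_rc_22_1 lc_h_rc_22_1 lc_h_rc_14_1) (@D3.rec (fun _ => (Cert rels S Gen.h)) lc_h_rc_22_1 lc_h_rc_35_1 lc_h_rc_40_0 lc_h_rc_22_1 lc_h_rc_35_1 lc_h_rc_14_1 lc_h_rc_35_1 lc_h_rc_22_1 lc_h_rc_14_1 lc_h_rc_42_1 lc_h_rc_22_1 lc_h_Cert_tree lc_h_rc_42_1 lc_h_Cert_tree lc_h_rc_40_0 lc_h_rc_14_1 lc_h_Cert_tree lc_h_Cert_tree lc_h_rc_22_1 lc_h_Cert_tree lc_h_rc_40_0 lc_h_Cert_tree lc_h_rc_40_0 lc_h_Cert_tree lc_h_rc_40_0 lc_h_Cert_tree lc_h_Cert_tree lc_h_rc_40_0 lc_h_Cert_tree lc_h_rc_40_0 lc_h_rc_42_1 lc_h_Cert_tree lc_h_rc_40_0 lc_h_rc_40_0 lc_h_Cert_tree lc_h_Cert_tree lc_h_rc_40_0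 lc_h_rc_41_2 lc_h_Cert_tree lc_h_rc_40_0 lc_h_rc_29_3 lc_h_rc_41_2 lc_h_rc_40_0 lc_h_rc_29_3 lc_h_rc_14_1 lc_h_rc_40_0 lc_h_rc_29_3 lc_h_rc_41_2 lc_h_rc_40_0 lc_h_rc_41_2 lc_h_rc_22_1) (@D3.rec (fun _ => (Cert rels S Gen.h)) lc_h_rc_14_1 lc_h_rc_41_2 lc_h_Cert_tree lc_h_rc_40_0 lc_h_Cert_tree lc_h_rc_40_0 lc_h_Cert_tree lc_h_Cert_tree lc_h_rc_40_0 lc_h_rc_29_3 lc_h_rc_40_0 lc_h_rc_29_3 lc_h_rc_5_3 lc_h_Cert_tree lc_h_rc_40_0 lc_h_rc_29_3 lc_h_rc_40_0 lc_h_Cert_tree lc_h_Cert_tree lc_h_rc_40_0 lc_h_rc_14_1 lc_h_rc_40_0 lc_h_Cert_tree lc_h_Cert_tree lc_h_rc_40_0 lc_h_Cert_tree lc_h_rc_40_0 lc_h_rc_29_3 lc_h_rc_35_1 lc_h_Cert_tree lc_h_rc_40_0 lc_h_rc_29_3 lc_h_rc_22_1 lc_h_rc_40_0 lc_h_rc_29_3 lc_h_rc_29_3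 lc_h_rc_40_0 lc_h_rc_14_1 lc_h_rc_47_1 lc_h_rc_40_0 lc_h_rc_42_1 lc_h_rc_22_1 lc_h_rc_35_1 lc_h_rc_42_1 lc_h_rc_40_0 lc_h_rc_29_3 lc_h_rc_22_1 lc_h_rc_35_1 lc_h_rc_14_1 lc_h_rc_14_1 lc_h_rc_29_3) (@D3.rec (fun _ => (Cert rels S Gen.h)) lc_h_rc_35_1 lc_h_rc_47_1 lc_h_rc_35_1 lc_h_rc_42_1 lc_h_rc_22_1 lc_h_Cert_tree lc_h_rc_40_0 lc_h_rc_29_3 lc_h_rc_35_1 lc_h_Cert_tree lc_h_rc_40_0 lc_h_Cert_tree lc_h_rc_40_0 lc_h_rc_29_3 lc_h_rc_14_1 lc_h_rc_40_0 lc_h_rc_29_3 lc_h_rc_22_1 lc_h_rc_35_1 lc_h_rc_42_1 lc_h_Cert_tree lc_h_rc_40_0 lc_h_Cert_tree lc_h_rc_40_0 lc_h_rc_40_0 lc_h_rc_40_0 lc_h_rc_29_3 lc_h_Cert_tree lc_h_rc_40_0 lc_h_rc_40_0 lc_h_rc_40_0 lc_h_rc_29_3 lc_h_rc_29_3 lc_h_rc_29_3 lc_h_rc_35_1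 lc_h_rc_5_1 lc_h_Cert_tree lc_h_rc_40_0 lc_h_Cert_tree lc_h_rc_40_0 lc_h_Cert_tree lc_h_rc_40_0 lc_h_rc_42_1 lc_h_Cert_tree lc_h_rc_40_0 lc_h_Cert_tree lc_h_rc_40_0 lc_h_rc_40_0 lc_h_rc_29_3 lc_h_rc_40_0 lc_h_rc_29_3) (@D3.rec (fun _ => (Cert rels S Gen.h)) lc_h_rc_41_2 lc_h_Cert_tree lc_h_rc_40_0 lc_h_Cert_tree lc_h_rc_40_0 lc_h_rc_40_0 lc_h_rc_40_0 lc_h_rc_29_3 lc_h_rc_40_0 lc_h_rc_40_0 lc_h_rc_40_0 lc_h_rc_29_3 lc_h_Cert_tree lc_h_rc_40_0 lc_h_rc_29_3 lc_h_rc_22_1 lc_h_rc_29_3 lc_h_rc_40_0 lc_h_rc_29_3 lc_h_rc_22_1 lc_h_rc_35_1 lc_h_rc_29_3 lc_h_rc_5_3 lc_h_rc_35_1 lc_h_rc_29_3 lc_h_rc_35_1 lc_h_rc_22_1 lc_h_Cert_tree lc_h_rc_40_0 lc_h_rc_40_0 lc_h_Cert_tree lc_h_rc_40_0 lc_h_Cert_tree lc_h_rc_40_0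 lc_h_rc_40_0 lc_h_Cert_tree lc_h_rc_40_0 lc_h_rc_29_3 lc_h_rc_29_3 lc_h_rc_29_3 lc_h_rc_47_1 lc_h_Cert_tree lc_h_rc_40_0 lc_h_rc_22_1 lc_h_Cert_tree lc_h_rc_40_0 lc_h_Cert_tree lc_h_rc_40_0 lc_h_rc_42_1 lc_h_Cert_tree lc_h_rc_40_0) (@D3.rec (fun _ => (Cert rels S Gen.h)) lc_h_rc_35_1 lc_h_Cert_tree lc_h_rc_40_0 lc_h_rc_40_0 lc_h_rc_29_3 lc_h_Cert_tree lc_h_rc_40_0 lc_h_rc_29_3 lc_h_rc_41_2 lc_h_rc_22_1 lc_h_rc_41_0 lc_h_Cert_tree lc_h_rc_40_0 lc_h_Cert_tree lc_h_rc_40_0 lc_h_rc_29_1 lc_h_Cert_tree lc_h_rc_5_3 lc_h_Cert_tree lc_h_rc_40_0 lc_h_Cert_tree lc_h_rc_40_0 lc_h_rc_29_3 lc_h_rc_42_1 lc_h_Cert_tree lc_h_rc_40_0 lc_h_rc_40_0 lc_h_Cert_tree lc_h_Cert_tree lc_h_rc_40_0 lc_h_rc_40_0 lc_h_rc_29_3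 lc_h_rc_29_3 lc_h_rc_22_1 lc_h_Cert_tree lc_h_rc_40_0 lc_h_rc_29_3 lc_h_rc_40_0 lc_h_rc_29_3 lc_h_rc_22_1 lc_h_rc_42_1 lc_h_rc_22_1 lc_h_rc_22_1 lc_h_rc_35_1 lc_h_rc_29_3 lc_h_rc_22_1 lc_h_rc_35_1 lc_h_rc_22_1 lc_h_rc_40_0 lc_h_Cert_tree lc_h_Cert_tree) (@D3.rec (fun _ => (Cert rels S Gen.h)) lc_h_rc_40_0 lc_h_rc_40_0 lc_h_Cert_tree lc_h_rc_40_0 lc_h_rc_5_1 lc_h_Cert_tree lc_h_rc_22_1 lc_h_Cert_tree lc_h_rc_40_0 lc_h_rc_51_1 lc_h_Cert_tree lc_h_rc_40_0 lc_h_rc_5_1 lc_h_Cert_tree lc_h_rc_5_1 lc_h_rc_42_1 lc_h_Cert_tree lc_h_rc_40_0 lc_h_rc_22_3 lc_h_rc_40_0 lc_h_Cert_tree lc_h_rc_51_1 lc_h_Cert_tree lc_h_rc_40_0 lc_h_rc_29_3 lc_h_Cert_tree lc_h_rc_40_0 lc_h_rc_29_3 lc_h_Cert_tree lc_h_rc_40_0 lc_h_rc_42_1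 lc_h_Cert_tree lc_h_rc_40_0 lc_h_Cert_tree lc_h_rc_40_0 lc_h_rc_35_1 lc_h_Cert_tree lc_h_rc_40_0 lc_h_rc_35_1 lc_h_Cert_tree lc_h_rc_40_0 lc_h_rc_29_3 lc_h_Cert_tree lc_h_rc_40_0 lc_h_rc_40_0 lc_h_Cert_tree lc_h_Cert_tree lc_h_rc_40_0 lc_h_Cert_tree lc_h_rc_40_0 lc_h_rc_29_3) (@D3.rec (fun _ => (Cert rels S Gen.h)) lc_h_Cert_tree lc_h_rc_40_0 lc_h_rc_29_3 lc_h_rc_22_1 lc_h_Cert_tree lc_h_rc_40_0 lc_h_rc_22_1 lc_h_Cert_tree lc_h_rc_40_0 lc_h_rc_41_2 lc_h_rc_22_1 lc_h_Cert_tree lc_h_rc_40_0 lc_h_rc_42_1 lc_h_rc_40_0 lc_h_rc_41_2 lc_h_rc_22_1 lc_h_rc_41_2 lc_h_rc_14_1 lc_h_rc_40_0 lc_h_rc_41_2 lc_h_rc_22_1 lc_h_Cert_tree lc_h_rc_40_0 lc_h_Cert_tree lc_h_rc_41_0 lc_h_Cert_tree lc_h_rc_40_0 lc_h_rc_29_3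 lc_h_Cert_tree lc_h_rc_40_0 lc_h_rc_29_3 lc_h_Cert_tree lc_h_rc_40_0 lc_h_rc_29_1 lc_h_rc_41_4 lc_h_Cert_tree lc_h_rc_40_0 lc_h_rc_29_3 lc_h_rc_47_3 lc_h_rc_40_0 lc_h_Cert_tree lc_h_Cert_tree lc_h_rc_40_0 lc_h_rc_29_1 lc_h_Cert_tree lc_h_rc_40_0 lc_h_rc_29_3 lc_h_rc_35_1 lc_h_Cert_tree lc_h_rc_40_0) (@D3.rec (fun _ => (Cert rels S Gen.h)) lc_h_rc_29_3 lc_h_rc_22_1 lc_h_rc_40_0 lc_h_rc_42_1 lc_h_Cert_tree lc_h_rc_40_0 lc_h_Cert_tree lc_h_rc_40_0 lc_h_rc_29_3 lc_h_rc_14_1 lc_h_rc_51_3 lc_h_rc_40_0 lc_h_Cert_tree lc_h_Cert_tree lc_h_rc_40_0 lc_h_rc_40_0 lc_h_rc_29_3 lc_h_Cert_tree lc_h_rc_40_0 lc_h_rc_29_3 lc_h_rc_22_1 lc_h_rc_35_1 lc_h_rc_42_1 lc_h_rc_40_0 lc_h_rc_29_3 lc_h_rc_22_1 lc_h_rc_35_1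 lc_h_rc_14_1 lc_h_rc_40_0 lc_h_rc_14_1 lc_h_Cert_tree lc_h_rc_40_0 lc_h_rc_42_1 lc_h_rc_22_1 lc_h_rc_35_1 lc_h_rc_40_0 lc_h_rc_29_3 lc_h_rc_22_1 lc_h_rc_35_1 lc_h_rc_14_1 lc_h_Cert_tree lc_h_rc_40_0 lc_h_rc_14_1 lc_h_rc_40_0 lc_h_rc_42_1 lc_h_rc_22_1 lc_h_rc_35_1 lc_h_rc_42_1 lc_h_rc_29_3 lc_h_rc_22_1 lc_h_rc_35_1) (@D3.rec (fun _ => (Cert rels S Gen.h)) lc_h_rc_14_1 lc_h_rc_22_1 lc_h_rc_5_1 lc_h_rc_40_0 lc_h_rc_29_3 lc_h_rc_35_1 lc_h_rc_22_1 lc_h_rc_29_3 lc_h_rc_22_1 lc_h_rc_35_1 lc_h_rc_14_1 lc_h_rc_22_1 lc_h_rc_5_1 lc_h_rc_22_1 lc_h_rc_35_1 lc_h_rc_22_1 lc_h_rc_5_1 lc_h_rc_14_1 lc_h_Cert_tree lc_h_rc_40_0 lc_h_rc_41_2 lc_h_rc_22_1 lc_h_rc_35_1 lc_h_rc_22_1 lc_h_rc_42_1 lc_h_rc_29_3 lc_h_rc_40_0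 lc_h_rc_29_3 lc_h_rc_40_0 lc_h_rc_40_0 lc_h_rc_14_1 lc_h_rc_40_0 lc_h_rc_35_1 lc_h_rc_40_0 lc_h_rc_40_0 lc_h_rc_22_1 lc_h_rc_41_2 lc_h_rc_22_1 lc_h_rc_5_3 lc_h_rc_14_1 lc_h_rc_29_3 lc_h_rc_40_0 lc_h_rc_29_3 lc_h_rc_40_0 lc_h_rc_40_0 lc_h_rc_29_3 lc_h_rc_5_3 lc_h_rc_40_0 lc_h_rc_40_0 lc_h_rc_29_3 lc_h_Cert_tree) (@D3.rec (fun _ => (Cert rels S Gen.h)) lc_h_rc_40_0 lc_h_Cert_tree lc_h_rc_40_0 lc_h_Cert_tree lc_h_rc_40_0 lc_h_rc_29_3 lc_h_rc_40_0 lc_h_rc_29_3 lc_h_rc_22_1 lc_h_rc_40_0 lc_h_rc_14_1 lc_h_rc_40_0 lc_h_rc_29_3 lc_h_rc_29_3 lc_h_Cert_tree lc_h_rc_40_0 lc_h_rc_40_0 lc_h_rc_40_0 lc_h_rc_29_3 lc_h_rc_29_3 lc_h_Cert_tree lc_h_rc_40_0 lc_h_rc_40_0 lc_h_rc_14_1 lc_h_rc_29_3 lc_h_rc_35_1 lc_h_rc_22_1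 lc_h_rc_40_0 lc_h_rc_14_1 lc_h_rc_14_1 lc_h_rc_42_1 lc_h_rc_42_1 lc_h_rc_40_0 lc_h_rc_29_3 lc_h_Cert_tree lc_h_rc_40_0 lc_h_rc_5_1 lc_h_rc_41_4 lc_h_rc_5_1 lc_h_rc_51_1 lc_h_Cert_tree lc_h_Cert_tree lc_h_rc_40_0 lc_h_Cert_tree lc_h_rc_40_0 lc_h_Cert_tree lc_h_rc_40_0 lc_h_rc_41_0 lc_h_Cert_tree lc_h_Cert_tree lc_h_rc_40_0) (@D3.rec (fun _ => (Cert rels S Gen.h)) lc_h_rc_29_3 lc_h_rc_40_0 lc_h_rc_5_1 lc_h_Cert_tree lc_h_rc_40_0 lc_h_rc_14_1 lc_h_Cert_tree lc_h_rc_40_0 lc_h_rc_40_0 lc_h_rc_29_3 lc_h_rc_35_1 lc_h_rc_29_3 lc_h_rc_22_1 lc_h_rc_14_1 lc_h_rc_40_0 lc_h_rc_29_3 lc_h_rc_35_1 lc_h_rc_14_1 lc_h_rc_29_3 lc_h_rc_42_1 lc_h_rc_40_0 lc_h_rc_29_3 lc_h_rc_14_1 lc_h_rc_40_0 lc_h_rc_29_3 lc_h_rc_35_1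 lc_h_rc_40_0 lc_h_rc_29_3 lc_h_rc_14_1 lc_h_rc_29_3 lc_h_rc_35_1 lc_h_rc_42_1 lc_h_rc_14_1 lc_h_rc_42_1 lc_h_rc_14_1 lc_h_Cert_tree lc_h_Cert_tree lc_h_rc_40_0 lc_h_Cert_tree lc_h_rc_40_0 lc_h_rc_29_3 lc_h_rc_29_3 lc_h_rc_29_3 lc_h_Cert_tree lc_h_rc_40_0 lc_h_rc_40_0 lc_h_rc_14_3 lc_h_Cert_tree lc_h_rc_40_0 lc_h_rc_40_0 lc_h_Cert_tree) (@D3.rec (fun _ => (Cert rels S Gen.h)) lc_h_rc_40_0 lc_h_rc_41_2 lc_h_rc_41_4 lc_h_Cert_tree lc_h_Cert_tree lc_h_rc_40_0 lc_h_rc_14_1 lc_h_Cert_tree lc_h_Cert_tree lc_h_rc_40_0 lc_h_rc_40_0 lc_h_rc_29_3 lc_h_rc_41_2 lc_h_rc_40_0 lc_h_rc_51_1 lc_h_rc_22_1 lc_h_rc_14_1 lc_h_rc_40_0 lc_h_Cert_tree lc_h_rc_40_0 lc_h_rc_29_3 lc_h_rc_40_0 lc_h_rc_29_3 lc_h_Cert_tree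 lc_h_rc_40_0 lc_h_rc_14_1 lc_h_rc_40_0 lc_h_Cert_tree lc_h_Cert_tree lc_h_rc_40_0 lc_h_rc_40_0 lc_h_rc_29_3 lc_h_rc_35_1 lc_h_rc_14_1 lc_h_rc_22_1 lc_h_Cert_tree lc_h_rc_40_0 lc_h_Cert_tree lc_h_Cert_tree lc_h_rc_40_0 lc_h_Cert_tree lc_h_rc_40_0 lc_h_rc_29_3 lc_h_rc_14_1 lc_h_Cert_tree lc_h_Cert_tree lc_h_rc_40_0 lc_h_rc_40_0 lc_h_rc_29_3 lc_h_Cert_tree lc_h_rc_40_0) (@D3.rec (fun _ => (Cert rels S Gen.h)) lc_h_rc_29_3 lc_h_rc_22_1 lc_h_rc_35_1 lc_h_rc_42_1 lc_h_rc_40_0 lc_h_rc_29_3 lc_h_rc_22_1 lc_h_rc_14_1 lc_h_Cert_tree lc_h_rc_40_0 lc_h_rc_40_0 lc_h_rc_14_1 lc_h_rc_29_3 lc_h_rc_42_1 lc_h_rc_40_0 lc_h_rc_29_3 lc_h_rc_40_0 lc_h_rc_14_1 lc_h_rc_40_0 lc_h_rc_29_3 lc_h_rc_35_1 lc_h_rc_40_0 lc_h_rc_29_3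 lc_h_rc_35_1 lc_h_rc_14_1 lc_h_rc_40_0 lc_h_rc_29_3 lc_h_rc_35_1 lc_h_rc_42_1 lc_h_rc_40_0 lc_h_rc_29_3 lc_h_rc_35_1 lc_h_rc_41_2 lc_h_rc_35_1 lc_h_rc_42_1 lc_h_rc_47_1 lc_h_rc_35_1 lc_h_rc_41_2 lc_h_rc_29_3 lc_h_rc_42_1 lc_h_rc_40_0 lc_h_rc_40_0 lc_h_rc_40_0 lc_h_rc_29_3 lc_h_rc_29_3 lc_h_rc_35_1 lc_h_rc_42_1 lc_h_rc_35_1 lc_h_rc_42_1 lc_h_rc_40_0 lc_h_Cert_tree) (@D3.rec (fun _ => (Cert rels S Gen.h)) lc_h_rc_40_0 lc_h_rc_41_2 lc_h_rc_14_1 lc_h_rc_41_2 lc_h_rc_29_3 lc_h_rc_40_0 lc_h_Cert_tree lc_h_Cert_tree lc_h_rc_40_0 lc_h_rc_40_0 lc_h_rc_29_3 lc_h_rc_35_1 lc_h_rc_29_3 lc_h_rc_22_1 lc_h_rc_29_3 lc_h_rc_29_3 lc_h_rc_42_1 lc_h_rc_47_1 lc_h_rc_40_0 lc_h_rc_29_3 lc_h_rc_35_1 lc_h_rc_42_1 lc_h_rc_47_1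 lc_h_Cert_tree lc_h_rc_40_0 lc_h_rc_41_2 lc_h_rc_29_3 lc_h_rc_40_0 lc_h_rc_29_3 lc_h_rc_29_3 lc_h_rc_35_1 lc_h_rc_22_1 lc_h_rc_42_1 lc_h_rc_42_1 lc_h_rc_40_0 lc_h_rc_14_1 lc_h_Cert_tree lc_h_rc_40_0 lc_h_rc_29_3 lc_h_rc_41_2 lc_h_rc_22_1 lc_h_rc_14_1 lc_h_rc_42_1 lc_h_rc_40_0 lc_h_rc_29_3 lc_h_rc_40_0 lc_h_rc_29_3 lc_h_rc_40_0 lc_h_rc_14_1 lc_h_rc_29_3 lc_h_rc_35_1) (@D3.rec (fun _ => (Cert rels S Gen.h)) lc_h_rc_22_1 lc_h_rc_40_0 lc_h_rc_5_1 lc_h_rc_40_0 lc_h_rc_40_0 lc_h_rc_29_3 lc_h_rc_14_1 lc_h_rc_40_0 lc_h_rc_29_3 lc_h_rc_40_0 lc_h_rc_42_1 lc_h_rc_22_1 lc_h_rc_35_1 lc_h_rc_42_1 lc_h_rc_40_0 lc_h_rc_29_3 lc_h_rc_22_1 lc_h_rc_14_1 lc_h_rc_14_1 lc_h_rc_47_1 lc_h_rc_35_1 lc_h_rc_14_1 lc_h_rc_5_1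 lc_h_rc_29_3 lc_h_rc_35_1 lc_h_rc_14_1 lc_h_rc_41_2 lc_h_rc_35_1 lc_h_rc_47_1 lc_h_Cert_tree lc_h_rc_40_0 lc_h_rc_29_3 lc_h_rc_22_1 lc_h_rc_29_3 lc_h_rc_40_0 lc_h_rc_14_1 lc_h_rc_29_3 lc_h_rc_22_1 lc_h_Cert_tree lc_h_rc_40_0 lc_h_Cert_tree lc_h_rc_40_0 lc_h_rc_29_3 lc_h_Cert_tree lc_h_rc_40_0 lc_h_Cert_tree lc_h_rc_40_0 lc_h_rc_40_0 lc_h_rc_29_3 lc_h_rc_40_0 lc_h_rc_29_3) (@D3.rec (fun _ => (Cert rels S Gen.h)) lc_h_rc_22_1 lc_h_Cert_tree lc_h_rc_40_0 lc_h_rc_40_0 lc_h_rc_29_3 lc_h_rc_40_0 lc_h_rc_29_3 lc_h_rc_29_3 lc_h_rc_22_1 lc_h_rc_22_1 lc_h_rc_14_1 lc_h_rc_40_0 lc_h_rc_14_1 lc_h_rc_29_3 lc_h_rc_14_1 lc_h_rc_35_1 lc_h_rc_40_0 lc_h_rc_29_3 lc_h_rc_29_3 lc_h_rc_42_1 lc_h_rc_22_1 lc_h_rc_40_0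 lc_h_rc_40_0 lc_h_rc_29_3 lc_h_rc_40_0 lc_h_rc_29_3 lc_h_rc_22_1 lc_h_rc_40_0 lc_h_rc_40_0 lc_h_rc_29_3 lc_h_rc_40_0 lc_h_rc_29_3 lc_h_rc_22_1 lc_h_rc_14_1 lc_h_Cert_tree lc_h_rc_40_0 lc_h_Cert_tree lc_h_rc_40_0 lc_h_rc_14_1 lc_h_Cert_tree lc_h_rc_40_0 lc_h_rc_29_3 lc_h_rc_35_1 lc_h_rc_22_1 lc_h_Cert_tree lc_h_rc_40_0 lc_h_rc_40_0 lc_h_rc_51_3 lc_h_rc_40_0 lc_h_rc_40_0 lc_h_rc_29_3) (@D3.rec (fun _ => (Cert rels S Gen.h)) lc_h_rc_22_1 lc_h_rc_40_0 lc_h_Cert_tree lc_h_Cert_tree lc_h_rc_40_0 lc_h_rc_40_0 lc_h_rc_29_3 lc_h_rc_40_0 lc_h_Cert_tree lc_h_Cert_tree lc_h_rc_40_0 lc_h_rc_40_0 lc_h_rc_29_3 lc_h_Cert_tree lc_h_rc_40_0 lc_h_rc_29_3 lc_h_rc_22_1 lc_h_rc_40_0 lc_h_rc_41_4 lc_h_rc_22_1 lc_h_rc_14_1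 lc_h_rc_29_3 lc_h_rc_41_2 lc_h_rc_22_1 lc_h_rc_40_0 lc_h_rc_41_2 lc_h_rc_41_2 lc_h_rc_51_1 lc_h_rc_40_0 lc_h_rc_47_3 lc_h_rc_40_0 lc_h_rc_42_1 lc_h_rc_22_1 lc_h_rc_40_0 lc_h_rc_29_3 lc_h_rc_29_3 lc_h_rc_29_3 lc_h_rc_22_1 lc_h_rc_29_3 lc_h_rc_5_1 lc_h_rc_40_0 lc_h_rc_29_3 lc_h_rc_22_1 lc_h_rc_14_1 lc_h_rc_40_0 lc_h_rc_29_3 lc_h_rc_5_3 lc_h_rc_40_0 lc_h_rc_29_3 lc_h_rc_22_1 lc_h_Cert_tree) (@D3.rec (fun _ => (Cert rels S Gen.h)) lc_h_rc_40_0 lc_h_rc_40_0 lc_h_rc_29_3 lc_h_rc_41_2 lc_h_rc_22_1 lc_h_rc_40_0 lc_h_rc_29_3 lc_h_rc_22_1 lc_h_rc_35_1 lc_h_rc_14_1 lc_h_rc_22_1 lc_h_rc_29_3 lc_h_rc_29_3 lc_h_rc_22_1 lc_h_rc_14_1 lc_h_rc_5_1 lc_h_rc_40_0 lc_h_rc_51_1 lc_h_rc_22_1 lc_h_rc_35_1 lc_h_rc_29_3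 lc_h_rc_47_1 lc_h_rc_14_1 lc_h_rc_22_1 lc_h_rc_14_1 lc_h_rc_22_1 lc_h_rc_35_1 lc_h_rc_42_1 lc_h_rc_14_1 lc_h_rc_35_1 lc_h_rc_40_0 lc_h_rc_40_0 lc_h_rc_29_3 lc_h_rc_5_1 lc_h_rc_40_0 lc_h_rc_29_3 lc_h_rc_22_1 lc_h_rc_14_1 lc_h_rc_40_0 lc_h_rc_29_3 lc_h_rc_35_1 lc_h_rc_40_0 lc_h_rc_29_3 lc_h_rc_35_1 lc_h_rc_40_0 lc_h_rc_29_3 lc_h_rc_41_2 lc_h_rc_35_1 lc_h_rc_35_1 lc_h_rc_22_1 lc_h_rc_51_1) (@D3.rec (fun _ => (Cert rels S Gen.h)) lc_h_rc_22_1 lc_h_rc_14_1 lc_h_rc_22_1 lc_h_rc_22_1 lc_h_rc_29_3 lc_h_rc_22_1 lc_h_rc_14_1 lc_h_Cert_tree lc_h_rc_40_0 lc_h_rc_40_0 lc_h_rc_29_3 lc_h_Cert_tree lc_h_rc_40_0 lc_h_Cert_tree lc_h_rc_40_0 lc_h_rc_40_0 lc_h_rc_29_3 lc_h_rc_40_0 lc_h_rc_40_0 lc_h_Cert_tree lc_h_rc_40_0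 lc_h_rc_40_0 lc_h_rc_29_3 lc_h_rc_22_1 lc_h_rc_22_1 lc_h_rc_35_1 lc_h_rc_40_0 lc_h_rc_29_3 lc_h_rc_40_0 lc_h_rc_40_0 lc_h_rc_29_3 lc_h_rc_40_0 lc_h_rc_41_2 lc_h_rc_41_2 lc_h_rc_29_3 lc_h_rc_29_3 lc_h_Cert_tree lc_h_rc_40_0 lc_h_rc_29_3 lc_h_rc_22_1 lc_h_rc_40_0 lc_h_rc_29_3 lc_h_rc_22_1 lc_h_rc_35_1 lc_h_rc_14_1 lc_h_rc_35_1 lc_h_rc_14_1 lc_h_rc_22_1 lc_h_rc_22_1 lc_h_Cert_tree lc_h_rc_40_0) (@D3.rec (fun _ => (Cert rels S Gen.h)) lc_h_rc_51_1 lc_h_Cert_tree lc_h_rc_42_1 lc_h_rc_51_1 lc_h_Cert_tree lc_h_rc_40_0 lc_h_Cert_tree lc_h_rc_40_0 lc_h_Cert_tree lc_h_rc_40_0 lc_h_rc_29_3 lc_h_Cert_tree lc_h_rc_40_0 lc_h_rc_35_1 lc_h_Cert_tree lc_h_rc_40_0 lc_h_rc_40_0 lc_h_Cert_tree lc_h_rc_40_0 lc_h_rc_41_2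 lc_h_rc_40_0 lc_h_rc_29_3 lc_h_rc_41_2 lc_h_Cert_tree lc_h_rc_40_0 lc_h_rc_29_3 lc_h_rc_41_2 lc_h_rc_41_2 lc_h_rc_22_1 lc_h_rc_40_0 lc_h_Cert_tree lc_h_rc_40_0 lc_h_rc_29_3 lc_h_Cert_tree lc_h_rc_40_0 lc_h_rc_29_3 lc_h_rc_40_0 lc_h_Cert_tree lc_h_rc_40_0 lc_h_rc_14_1 lc_h_rc_40_0 lc_h_Cert_tree lc_h_Cert_tree lc_h_rc_40_0 lc_h_rc_40_0 lc_h_rc_29_3 lc_h_rc_35_1 lc_h_rc_29_3 lc_h_rc_22_1 lc_h_rc_40_0 lc_h_rc_29_3) (@D3.rec (fun _ => (Cert rels S Gen.h)) lc_h_rc_35_1 lc_h_rc_40_0 lc_h_rc_29_3 lc_h_rc_22_1 lc_h_rc_29_3 lc_h_rc_29_3 lc_h_rc_29_3 lc_h_rc_42_1 lc_h_rc_22_1 lc_h_rc_35_1 lc_h_rc_14_1 lc_h_rc_29_3 lc_h_rc_22_1 lc_h_rc_35_1 lc_h_rc_42_1 lc_h_rc_22_1 lc_h_rc_35_1 lc_h_Cert_tree lc_h_rc_40_0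 lc_h_rc_29_3 lc_h_rc_14_1 lc_h_rc_40_0 lc_h_rc_29_3 lc_h_rc_35_1 lc_h_rc_42_1 lc_h_rc_42_1 lc_h_Cert_tree lc_h_rc_40_0 lc_h_rc_40_0 lc_h_rc_5_1 lc_h_Cert_tree lc_h_rc_22_1 lc_h_Cert_tree lc_h_rc_40_0 lc_h_Cert_tree lc_h_rc_40_0 lc_h_rc_40_0 lc_h_Cert_tree lc_h_rc_40_0 lc_h_rc_5_1 lc_h_rc_40_0 lc_h_rc_29_3 lc_h_rc_5_1 lc_h_rc_29_3 lc_h_rc_35_1 lc_h_Cert_tree lc_h_rc_40_0 lc_h_rc_40_0 lc_h_Cert_tree lc_h_rc_40_0 lc_h_rc_5_1) (@D3.rec (fun _ => (Cert rels S Gen.h)) lc_h_rc_40_0 lc_h_rc_29_3 lc_h_rc_41_2 lc_h_Cert_tree lc_h_rc_40_0 lc_h_rc_42_1 lc_h_rc_29_3 lc_h_rc_35_1 lc_h_Cert_tree lc_h_rc_40_0 lc_h_rc_29_3 lc_h_rc_22_1 lc_h_rc_40_0 lc_h_rc_29_3 lc_h_rc_35_1 lc_h_rc_29_3 lc_h_rc_29_3 lc_h_rc_35_1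 lc_h_rc_14_1 lc_h_Cert_tree lc_h_rc_5_1 lc_h_rc_41_0 lc_h_Cert_tree lc_h_rc_40_0 lc_h_rc_29_3 lc_h_Cert_tree lc_h_rc_40_0 lc_h_rc_5_1 lc_h_Cert_tree lc_h_Cert_tree lc_h_rc_40_0 lc_h_Cert_tree lc_h_Cert_tree lc_h_rc_40_0 lc_h_rc_29_3 lc_h_rc_40_0 lc_h_rc_29_3 lc_h_rc_42_1 lc_h_Cert_tree lc_h_rc_40_0 lc_h_Cert_tree lc_h_rc_40_0 lc_h_Cert_tree lc_h_rc_40_0 lc_h_rc_41_2 lc_h_Cert_tree lc_h_rc_40_0 lc_h_rc_29_3 lc_h_Cert_tree lc_h_rc_40_0 lc_h_rc_14_1) (@D3.rec (fun _ => (Cert rels S Gen.h)) lc_h_Cert_tree lc_h_Cert_tree lc_h_rc_40_0 lc_h_rc_40_0 lc_h_rc_29_3 lc_h_rc_41_2 lc_h_Cert_tree lc_h_rc_40_0 lc_h_rc_29_3 lc_h_rc_22_1 lc_h_rc_14_1 lc_h_rc_41_2 lc_h_rc_40_0 lc_h_rc_41_2 lc_h_rc_22_1 lc_h_rc_42_1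 lc_h_rc_40_0 lc_h_rc_41_2 lc_h_rc_22_1 lc_h_rc_41_2 lc_h_rc_41_2 lc_h_rc_51_1 lc_h_Cert_tree lc_h_rc_40_0 lc_h_rc_47_1 lc_h_Cert_tree lc_h_rc_40_0 lc_h_rc_40_0 lc_h_rc_14_1 lc_h_rc_29_3 lc_h_rc_35_1 lc_h_Cert_tree lc_h_rc_40_0 lc_h_rc_29_3 lc_h_rc_22_1 lc_h_Cert_tree lc_h_rc_40_0 lc_h_rc_42_1 lc_h_Cert_tree lc_h_rc_40_0 lc_h_rc_40_0 lc_h_rc_29_3 lc_h_rc_14_1 lc_h_rc_40_0 lc_h_rc_29_3 lc_h_Cert_tree lc_h_rc_40_0 lc_h_rc_29_3 lc_h_rc_22_1 lc_h_rc_35_1 lc_h_rc_42_1)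
def ce_h_17 : D2 → D3 → (Cert rels S Gen.h) := @D2.rec (fun _ => D3 → (Cert rels S Gen.h)) (@D3.rec (fun _ => (Cert rels S Gen.h)) lc_h_rc_40_0 lc_h_rc_29_3 lc_h_rc_22_1 lc_h_rc_35_1 lc_h_rc_14_1 lc_h_rc_22_1 lc_h_rc_14_1 lc_h_rc_42_1 lc_h_rc_40_0 lc_h_rc_29_3 lc_h_rc_22_1 lc_h_rc_35_1 lc_h_rc_14_1 lc_h_rc_14_1 lc_h_rc_40_0 lc_h_rc_47_1 lc_h_rc_29_3 lc_h_rc_35_1 lc_h_rc_14_1 lc_h_rc_22_1 lc_h_rc_29_3 lc_h_rc_35_1 lc_h_rc_14_1 lc_h_rc_22_1 lc_h_rc_42_1 lc_h_rc_35_1 lc_h_rc_47_1 lc_h_rc_14_1 lc_h_Cert_tree lc_h_rc_14_1 lc_h_rc_42_1 lc_h_rc_40_0 lc_h_rc_22_3 lc_h_rc_40_0 lc_h_rc_29_3 lc_h_rc_35_1 lc_h_rc_14_1 lc_h_rc_41_2 lc_h_rc_35_1 lc_h_rc_42_1 lc_h_rc_47_1 lc_h_rc_47_1 lc_h_rc_5_1 lc_h_rc_29_3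 lc_h_rc_14_1 lc_h_rc_41_2 lc_h_rc_41_2 lc_h_rc_22_1 lc_h_rc_14_1 lc_h_rc_41_2 lc_h_rc_22_1) (@D3.rec (fun _ => (Cert rels S Gen.h)) lc_h_rc_22_1 lc_h_rc_14_1 lc_h_rc_22_1 lc_h_rc_35_1 lc_h_rc_14_1 lc_h_rc_14_1 lc_h_Cert_tree lc_h_rc_40_0 lc_h_rc_40_0 lc_h_Cert_tree lc_h_rc_40_0 lc_h_Cert_tree lc_h_rc_40_0 lc_h_Cert_tree lc_h_rc_40_0 lc_h_rc_5_1 lc_h_rc_40_0 lc_h_rc_29_3 lc_h_Cert_tree lc_h_rc_40_0 lc_h_rc_40_0 lc_h_rc_40_0 lc_h_rc_29_3 lc_h_rc_40_0 lc_h_rc_29_3 lc_h_rc_29_3 lc_h_rc_35_1 lc_h_rc_35_1 lc_h_rc_29_1 lc_h_rc_42_1 lc_h_Cert_tree lc_h_rc_40_0 lc_h_Cert_tree lc_h_rc_40_0 lc_h_rc_40_0 lc_h_Cert_tree lc_h_rc_40_0 lc_h_Cert_tree lc_h_rc_40_0 lc_h_rc_41_2 lc_h_Cert_tree lc_h_rc_40_0 lc_h_rc_29_3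 lc_h_rc_14_1 lc_h_rc_41_2 lc_h_rc_40_0 lc_h_rc_41_2 lc_h_rc_22_1 lc_h_rc_41_2 lc_h_rc_40_0 lc_h_rc_29_3) (@D3.rec (fun _ => (Cert rels S Gen.h)) lc_h_rc_40_0 lc_h_rc_14_1 lc_h_rc_40_0 lc_h_rc_29_3 lc_h_rc_35_1 lc_h_rc_40_0 lc_h_rc_29_3 lc_h_rc_22_1 lc_h_rc_42_1 lc_h_rc_29_3 lc_h_rc_22_1 lc_h_rc_35_1 lc_h_rc_35_1 lc_h_rc_22_1 lc_h_rc_14_1 lc_h_rc_29_3 lc_h_rc_35_1 lc_h_rc_42_1 lc_h_rc_40_0 lc_h_rc_40_0 lc_h_rc_47_3 lc_h_Cert_tree lc_h_rc_40_0 lc_h_Cert_tree lc_h_rc_40_0 lc_h_rc_29_3 lc_h_rc_29_3 lc_h_Cert_tree lc_h_rc_40_0 lc_h_rc_14_1 lc_h_rc_22_1 lc_h_Cert_tree lc_h_rc_40_0 lc_h_Cert_tree lc_h_rc_40_0 lc_h_Cert_tree lc_h_rc_40_0 lc_h_rc_40_0 lc_h_Cert_tree lc_h_rc_40_0 lc_h_Cert_tree lc_h_Cert_tree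 lc_h_rc_40_0 lc_h_rc_41_2 lc_h_rc_40_0 lc_h_rc_29_3 lc_h_rc_14_1 lc_h_rc_40_0 lc_h_rc_41_2 lc_h_rc_41_2 lc_h_rc_22_1) (@D3.rec (fun _ => (Cert rels S Gen.h)) lc_h_rc_40_0 lc_h_rc_40_0 lc_h_Cert_tree lc_h_rc_40_0 lc_h_rc_29_3 lc_h_rc_40_0 lc_h_rc_40_0 lc_h_rc_14_1 lc_h_rc_40_0 lc_h_rc_29_3 lc_h_rc_35_1 lc_h_rc_29_3 lc_h_rc_22_1 lc_h_rc_22_1 lc_h_rc_14_1 lc_h_rc_42_1 lc_h_rc_22_1 lc_h_rc_35_1 lc_h_rc_42_1 lc_h_rc_22_1 lc_h_rc_35_1 lc_h_rc_22_1 lc_h_rc_22_1 lc_h_rc_14_1 lc_h_rc_42_1 lc_h_rc_14_1 lc_h_rc_42_1 lc_h_rc_22_1 lc_h_Cert_tree lc_h_rc_40_0 lc_h_Cert_tree lc_h_rc_40_0 lc_h_Cert_tree lc_h_rc_40_0 lc_h_rc_40_0 lc_h_Cert_tree lc_h_Cert_tree lc_h_rc_40_0 lc_h_rc_29_3 lc_h_rc_40_0 lc_h_rc_29_3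 lc_h_rc_40_0 lc_h_rc_40_0 lc_h_Cert_tree lc_h_rc_40_0 lc_h_rc_41_2 lc_h_rc_40_0 lc_h_rc_29_3 lc_h_Cert_tree lc_h_rc_40_0 lc_h_rc_14_1) (@D3.rec (fun _ => (Cert rels S Gen.h)) lc_h_Cert_tree lc_h_rc_40_0 lc_h_rc_40_0 lc_h_rc_29_3 lc_h_rc_41_2 lc_h_rc_40_0 lc_h_rc_29_3 lc_h_rc_22_1 lc_h_rc_41_2 lc_h_rc_14_1 lc_h_rc_42_1 lc_h_rc_42_1 lc_h_rc_41_2 lc_h_rc_22_1 lc_h_rc_41_2 lc_h_rc_40_0 lc_h_rc_29_3 lc_h_rc_40_0 lc_h_Cert_tree lc_h_Cert_tree lc_h_rc_40_0 lc_h_rc_40_0 lc_h_rc_29_3 lc_h_rc_35_1 lc_h_rc_29_3 lc_h_rc_22_1 lc_h_Cert_tree lc_h_rc_40_0 lc_h_Cert_tree lc_h_Cert_tree lc_h_rc_40_0 lc_h_rc_40_0 lc_h_rc_29_3 lc_h_rc_14_1 lc_h_Cert_tree lc_h_rc_40_0 lc_h_rc_40_0 lc_h_rc_29_3 lc_h_rc_40_0 lc_h_rc_29_3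 lc_h_rc_22_1 lc_h_rc_35_1 lc_h_rc_42_1 lc_h_rc_40_0 lc_h_rc_29_3 lc_h_rc_22_1 lc_h_rc_35_1 lc_h_rc_14_1 lc_h_rc_42_1 lc_h_rc_35_1 lc_h_rc_14_1) (@D3.rec (fun _ => (Cert rels S Gen.h)) lc_h_rc_14_1 lc_h_rc_47_1 lc_h_rc_42_1 lc_h_rc_22_1 lc_h_rc_35_1 lc_h_rc_42_1 lc_h_rc_42_1 lc_h_rc_35_1 lc_h_rc_22_1 lc_h_rc_5_3 lc_h_rc_42_3 lc_h_Cert_tree lc_h_rc_40_0 lc_h_rc_29_3 lc_h_rc_35_1 lc_h_rc_40_0 lc_h_rc_29_3 lc_h_rc_40_0 lc_h_rc_29_3 lc_h_rc_35_1 lc_h_rc_41_2 lc_h_rc_22_1 lc_h_rc_35_1 lc_h_rc_22_1 lc_h_rc_42_1 lc_h_rc_40_0 lc_h_rc_40_0 lc_h_rc_29_3 lc_h_rc_29_3 lc_h_rc_29_3 lc_h_rc_40_0 lc_h_rc_29_3 lc_h_rc_29_3 lc_h_rc_22_1 lc_h_rc_35_1 lc_h_Cert_tree lc_h_rc_40_0 lc_h_rc_40_0 lc_h_rc_22_1 lc_h_rc_40_0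 lc_h_rc_29_3 lc_h_Cert_tree lc_h_rc_40_0 lc_h_rc_40_0 lc_h_rc_29_3 lc_h_rc_29_3 lc_h_rc_22_1 lc_h_rc_41_2 lc_h_rc_41_2 lc_h_rc_40_0 lc_h_rc_40_0) (@D3.rec (fun _ => (Cert rels S Gen.h)) lc_h_rc_29_3 lc_h_rc_29_3 lc_h_rc_55_25 lc_h_rc_22_1 lc_h_rc_42_3 lc_h_rc_29_3 lc_h_rc_14_3 lc_h_rc_22_1 lc_h_rc_40_0 lc_h_rc_29_3 lc_h_rc_22_1 lc_h_rc_35_1 lc_h_rc_14_1 lc_h_rc_35_1 lc_h_rc_29_3 lc_h_rc_35_1 lc_h_rc_22_1 lc_h_rc_22_3 lc_h_rc_35_1 lc_h_Cert_tree lc_h_rc_40_0 lc_h_rc_29_3 lc_h_rc_40_0 lc_h_rc_40_0 lc_h_rc_29_3 lc_h_rc_29_3 lc_h_rc_40_0 lc_h_rc_29_3 lc_h_rc_35_1 lc_h_rc_22_1 lc_h_Cert_tree lc_h_rc_40_0 lc_h_Cert_tree lc_h_rc_40_0 lc_h_rc_29_3 lc_h_rc_40_0 lc_h_rc_29_3 lc_h_Cert_tree lc_h_rc_40_0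 lc_h_Cert_tree lc_h_rc_40_0 lc_h_rc_29_3 lc_h_rc_29_3 lc_h_rc_22_1 lc_h_rc_40_0 lc_h_rc_41_2 lc_h_rc_22_1 lc_h_rc_22_1 lc_h_rc_41_2 lc_h_Cert_tree lc_h_rc_40_0) (@D3.rec (fun _ => (Cert rels S Gen.h)) lc_h_rc_40_0 lc_h_rc_29_3 lc_h_Cert_tree lc_h_rc_40_0 lc_h_Cert_tree lc_h_rc_40_0 lc_h_rc_29_3 lc_h_rc_40_0 lc_h_rc_29_3 lc_h_rc_22_1 lc_h_Cert_tree lc_h_rc_40_0 lc_h_rc_29_3 lc_h_Cert_tree lc_h_rc_40_0 lc_h_rc_40_0 lc_h_rc_29_3 lc_h_rc_29_3 lc_h_rc_22_1 lc_h_rc_22_1 lc_h_rc_35_1 lc_h_rc_14_1 lc_h_rc_40_0 lc_h_rc_42_1 lc_h_rc_22_1 lc_h_rc_29_3 lc_h_rc_22_1 lc_h_rc_35_1 lc_h_rc_22_1 lc_h_rc_35_1 lc_h_rc_22_1 lc_h_rc_22_1 lc_h_rc_35_1 lc_h_rc_22_1 lc_h_Cert_tree lc_h_rc_40_0 lc_h_rc_40_0 lc_h_rc_40_0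 lc_h_Cert_tree lc_h_rc_40_0 lc_h_Cert_tree lc_h_rc_40_0 lc_h_rc_29_3 lc_h_Cert_tree lc_h_rc_40_0 lc_h_rc_29_3 lc_h_Cert_tree lc_h_rc_40_0 lc_h_Cert_tree lc_h_Cert_tree lc_h_rc_40_0) (@D3.rec (fun _ => (Cert rels S Gen.h)) lc_h_rc_14_1 lc_h_Cert_tree lc_h_Cert_tree lc_h_rc_40_0 lc_h_Cert_tree lc_h_rc_40_0 lc_h_rc_29_3 lc_h_rc_35_1 lc_h_rc_40_0 lc_h_rc_29_3 lc_h_rc_22_1 lc_h_rc_40_0 lc_h_Cert_tree lc_h_rc_40_0 lc_h_rc_29_3 lc_h_rc_40_0 lc_h_Cert_tree lc_h_rc_40_0 lc_h_rc_29_3 lc_h_Cert_tree lc_h_rc_40_0 lc_h_rc_29_3 lc_h_rc_22_1 lc_h_rc_40_0 lc_h_rc_29_3 lc_h_Cert_tree lc_h_rc_40_0 lc_h_rc_40_0 lc_h_rc_29_3 lc_h_rc_40_0 lc_h_rc_29_3 lc_h_rc_22_1 lc_h_rc_40_0 lc_h_rc_29_3 lc_h_rc_22_1 lc_h_rc_35_1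 lc_h_rc_14_1 lc_h_rc_40_0 lc_h_rc_42_1 lc_h_rc_40_0 lc_h_rc_41_2 lc_h_rc_22_1 lc_h_rc_41_2 lc_h_rc_14_1 lc_h_rc_40_0 lc_h_rc_42_1 lc_h_rc_41_2 lc_h_rc_22_1 lc_h_rc_41_2 lc_h_rc_14_1 lc_h_rc_22_1) (@D3.rec (fun _ => (Cert rels S Gen.h)) lc_h_rc_22_1 lc_h_rc_40_0 lc_h_rc_40_0 lc_h_Cert_tree lc_h_rc_40_0 lc_h_rc_29_3 lc_h_rc_41_2 lc_h_rc_40_0 lc_h_rc_42_1 lc_h_rc_22_1 lc_h_rc_40_0 lc_h_rc_42_1 lc_h_rc_40_0 lc_h_rc_41_2 lc_h_Cert_tree lc_h_Cert_tree lc_h_rc_40_0 lc_h_rc_40_0 lc_h_rc_29_3 lc_h_Cert_tree lc_h_rc_40_0 lc_h_rc_29_3 lc_h_rc_22_1 lc_h_rc_41_4 lc_h_rc_40_0 lc_h_rc_29_3 lc_h_rc_22_1 lc_h_rc_35_1 lc_h_rc_14_1 lc_h_rc_29_3 lc_h_Cert_tree lc_h_rc_40_0 lc_h_rc_29_3 lc_h_rc_40_0 lc_h_rc_29_3 lc_h_rc_22_1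 lc_h_rc_47_1 lc_h_Cert_tree lc_h_Cert_tree lc_h_rc_40_0 lc_h_rc_40_0 lc_h_rc_29_3 lc_h_rc_41_2 lc_h_rc_22_1 lc_h_rc_35_1 lc_h_rc_40_0 lc_h_rc_29_3 lc_h_rc_22_1 lc_h_rc_35_1 lc_h_rc_14_1 lc_h_rc_22_1) (@D3.rec (fun _ => (Cert rels S Gen.h)) lc_h_rc_42_1 lc_h_rc_29_3 lc_h_rc_22_1 lc_h_rc_35_1 lc_h_rc_14_1 lc_h_rc_22_1 lc_h_rc_5_1 lc_h_rc_14_1 lc_h_rc_40_0 lc_h_rc_47_1 lc_h_rc_22_1 lc_h_rc_35_1 lc_h_rc_29_3 lc_h_rc_22_1 lc_h_rc_35_1 lc_h_rc_14_1 lc_h_rc_22_1 lc_h_rc_5_1 lc_h_rc_40_0 lc_h_rc_35_1 lc_h_rc_42_1 lc_h_rc_35_1 lc_h_rc_35_1 lc_h_rc_35_1 lc_h_rc_22_1 lc_h_rc_35_1 lc_h_rc_22_1 lc_h_rc_5_1 lc_h_rc_14_1 lc_h_Cert_tree lc_h_rc_35_1 lc_h_rc_42_1 lc_h_rc_22_1 lc_h_rc_35_1 lc_h_rc_14_1 lc_h_rc_22_1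 lc_h_rc_42_1 lc_h_rc_5_1 lc_h_rc_14_1 lc_h_Cert_tree lc_h_rc_22_1 lc_h_Cert_tree lc_h_rc_5_1 lc_h_Cert_tree lc_h_rc_40_0 lc_h_rc_22_1 lc_h_rc_41_2 lc_h_rc_22_1 lc_h_rc_42_1 lc_h_rc_22_1 lc_h_rc_35_1) (@D3.rec (fun _ => (Cert rels S Gen.h)) lc_h_rc_5_1 lc_h_rc_22_1 lc_h_rc_14_1 lc_h_rc_42_1 lc_h_rc_22_1 lc_h_rc_5_1 lc_h_rc_22_1 lc_h_rc_29_3 lc_h_rc_29_3 lc_h_rc_22_1 lc_h_rc_22_1 lc_h_rc_29_3 lc_h_rc_51_3 lc_h_rc_22_1 lc_h_rc_40_0 lc_h_rc_29_3 lc_h_rc_40_0 lc_h_rc_29_3 lc_h_rc_40_0 lc_h_rc_29_3 lc_h_rc_22_1 lc_h_rc_29_3 lc_h_rc_22_1 lc_h_rc_14_1 lc_h_rc_14_1 lc_h_rc_29_3 lc_h_rc_35_1 lc_h_rc_40_0 lc_h_rc_29_3 lc_h_rc_29_3 lc_h_rc_41_2 lc_h_rc_22_1 lc_h_rc_22_1 lc_h_rc_40_0 lc_h_rc_29_3 lc_h_rc_14_1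 lc_h_rc_22_1 lc_h_rc_35_1 lc_h_rc_14_1 lc_h_rc_47_1 lc_h_rc_14_1 lc_h_rc_22_1 lc_h_rc_40_0 lc_h_rc_29_3 lc_h_rc_5_1 lc_h_rc_5_3 lc_h_Cert_tree lc_h_rc_40_0 lc_h_rc_40_0 lc_h_rc_29_3 lc_h_rc_40_0) (@D3.rec (fun _ => (Cert rels S Gen.h)) lc_h_rc_5_1 lc_h_rc_40_0 lc_h_rc_14_1 lc_h_Cert_tree lc_h_rc_40_0 lc_h_rc_40_0 lc_h_rc_29_3 lc_h_rc_35_1 lc_h_rc_29_3 lc_h_rc_22_1 lc_h_rc_40_0 lc_h_rc_29_3 lc_h_rc_14_1 lc_h_rc_40_0 lc_h_rc_29_3 lc_h_rc_29_3 lc_h_rc_22_1 lc_h_rc_35_1 lc_h_rc_42_1 lc_h_rc_22_1 lc_h_rc_14_1 lc_h_rc_14_1 lc_h_rc_29_3 lc_h_rc_42_1 lc_h_rc_14_1 lc_h_rc_35_1 lc_h_rc_14_1 lc_h_rc_35_1 lc_h_rc_14_1 lc_h_rc_29_3 lc_h_rc_35_1 lc_h_rc_42_1 lc_h_rc_29_3 lc_h_rc_22_1 lc_h_rc_35_1 lc_h_rc_14_1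 lc_h_rc_35_1 lc_h_rc_42_1 lc_h_rc_14_1 lc_h_rc_47_1 lc_h_rc_40_0 lc_h_rc_40_0 lc_h_rc_14_1 lc_h_rc_40_0 lc_h_rc_29_3 lc_h_rc_35_1 lc_h_rc_22_1 lc_h_Cert_tree lc_h_rc_40_0 lc_h_rc_41_2 lc_h_rc_41_4) (@D3.rec (fun _ => (Cert rels S Gen.h)) lc_h_Cert_tree lc_h_rc_40_0 lc_h_rc_14_1 lc_h_Cert_tree lc_h_rc_40_0 lc_h_rc_29_3 lc_h_rc_41_2 lc_h_rc_5_1 lc_h_rc_40_0 lc_h_rc_40_0 lc_h_rc_29_3 lc_h_rc_14_1 lc_h_rc_40_0 lc_h_rc_40_0 lc_h_rc_29_3 lc_h_rc_29_3 lc_h_rc_22_1 lc_h_rc_35_1 lc_h_rc_51_1 lc_h_rc_22_1 lc_h_rc_14_1 lc_h_rc_40_0 lc_h_rc_29_3 lc_h_rc_35_1 lc_h_rc_41_2 lc_h_rc_22_1 lc_h_rc_40_0 lc_h_rc_35_3 lc_h_rc_14_1 lc_h_Cert_tree lc_h_rc_40_0 lc_h_rc_40_0 lc_h_rc_29_3 lc_h_rc_29_3 lc_h_rc_22_1 lc_h_rc_35_1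 lc_h_rc_42_1 lc_h_rc_22_1 lc_h_rc_14_1 lc_h_rc_40_0 lc_h_rc_29_3 lc_h_rc_40_0 lc_h_rc_40_0 lc_h_rc_29_3 lc_h_rc_40_0 lc_h_rc_29_3 lc_h_rc_22_1 lc_h_rc_35_1 lc_h_rc_40_0 lc_h_rc_40_0 lc_h_rc_29_3) (@D3.rec (fun _ => (Cert rels S Gen.h)) lc_h_rc_41_2 lc_h_rc_22_1 lc_h_rc_35_1 lc_h_rc_40_0 lc_h_rc_29_3 lc_h_rc_22_1 lc_h_rc_35_1 lc_h_rc_14_1 lc_h_rc_22_1 lc_h_rc_42_1 lc_h_rc_29_3 lc_h_rc_22_1 lc_h_rc_14_1 lc_h_rc_5_1 lc_h_rc_40_0 lc_h_rc_29_3 lc_h_rc_14_1 lc_h_rc_35_1 lc_h_rc_47_1 lc_h_rc_29_3 lc_h_rc_14_1 lc_h_rc_29_3 lc_h_rc_35_1 lc_h_rc_42_1 lc_h_rc_41_2 lc_h_rc_35_1 lc_h_rc_42_1 lc_h_rc_47_1 lc_h_rc_41_2 lc_h_rc_35_1 lc_h_rc_41_2 lc_h_rc_42_1 lc_h_rc_29_3 lc_h_rc_29_3 lc_h_rc_29_3 lc_h_rc_35_1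 lc_h_rc_22_1 lc_h_rc_42_1 lc_h_rc_14_1 lc_h_rc_42_1 lc_h_Cert_tree lc_h_rc_40_0 lc_h_rc_29_3 lc_h_rc_41_2 lc_h_rc_22_1 lc_h_rc_42_1 lc_h_rc_22_1 lc_h_Cert_tree lc_h_rc_40_0 lc_h_rc_40_0 lc_h_rc_29_3) (@D3.rec (fun _ => (Cert rels S Gen.h)) lc_h_rc_29_3 lc_h_rc_22_1 lc_h_rc_35_1 lc_h_rc_42_1 lc_h_rc_22_1 lc_h_rc_14_1 lc_h_rc_35_1 lc_h_rc_42_1 lc_h_rc_47_1 lc_h_rc_41_2 lc_h_rc_35_1 lc_h_rc_42_1 lc_h_rc_47_1 lc_h_rc_40_0 lc_h_rc_29_3 lc_h_rc_41_2 lc_h_rc_41_4 lc_h_rc_29_3 lc_h_rc_22_1 lc_h_rc_22_1 lc_h_rc_35_1 lc_h_rc_42_1 lc_h_rc_14_1 lc_h_rc_42_1 lc_h_rc_14_1 lc_h_rc_40_0 lc_h_rc_29_3 lc_h_rc_22_1 lc_h_rc_35_1 lc_h_rc_42_1 lc_h_rc_51_1 lc_h_rc_14_1 lc_h_rc_47_1 lc_h_rc_35_1 lc_h_rc_42_1 lc_h_rc_22_1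 lc_h_rc_29_3 lc_h_rc_14_1 lc_h_rc_22_1 lc_h_rc_35_1 lc_h_rc_14_1 lc_h_rc_29_3 lc_h_rc_5_1 lc_h_rc_29_3 lc_h_rc_42_1 lc_h_rc_22_1 lc_h_rc_35_1 lc_h_rc_14_1 lc_h_rc_41_2 lc_h_rc_22_1 lc_h_rc_35_1) (@D3.rec (fun _ => (Cert rels S Gen.h)) lc_h_rc_47_1 lc_h_rc_22_1 lc_h_rc_29_3 lc_h_rc_14_1 lc_h_rc_22_1 lc_h_rc_42_1 lc_h_rc_47_1 lc_h_rc_22_1 lc_h_rc_14_1 lc_h_rc_5_1 lc_h_rc_35_1 lc_h_rc_41_2 lc_h_rc_40_0 lc_h_rc_29_3 lc_h_rc_22_1 lc_h_rc_14_1 lc_h_rc_22_1 lc_h_rc_29_3 lc_h_rc_22_1 lc_h_rc_35_3 lc_h_rc_14_1 lc_h_rc_40_0 lc_h_rc_29_3 lc_h_rc_40_0 lc_h_rc_41_2 lc_h_rc_35_1 lc_h_rc_40_0 lc_h_rc_51_3 lc_h_rc_40_0 lc_h_rc_29_3 lc_h_rc_29_3 lc_h_rc_22_1 lc_h_rc_29_3 lc_h_rc_41_2 lc_h_rc_14_1 lc_h_rc_40_0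 lc_h_rc_29_3 lc_h_rc_29_3 lc_h_rc_22_1 lc_h_rc_29_3 lc_h_rc_22_1 lc_h_rc_22_1 lc_h_rc_35_1 lc_h_rc_14_1 lc_h_rc_14_1 lc_h_rc_5_1 lc_h_rc_14_1 lc_h_rc_35_1 lc_h_rc_14_1 lc_h_rc_29_3 lc_h_rc_35_1) (@D3.rec (fun _ => (Cert rels S Gen.h)) lc_h_rc_22_1 lc_h_rc_22_1 lc_h_rc_14_1 lc_h_rc_35_1 lc_h_rc_41_2 lc_h_rc_22_1 lc_h_rc_29_3 lc_h_rc_22_1 lc_h_rc_14_1 lc_h_rc_29_3 lc_h_rc_29_3 lc_h_rc_22_1 lc_h_rc_41_2 lc_h_rc_22_1 lc_h_rc_14_1 lc_h_rc_5_1 lc_h_rc_40_0 lc_h_rc_5_1 lc_h_rc_40_0 lc_h_rc_29_3 lc_h_rc_22_1 lc_h_rc_14_1 lc_h_rc_40_0 lc_h_rc_29_3 lc_h_rc_22_1 lc_h_rc_35_1 lc_h_rc_14_1 lc_h_rc_40_0 lc_h_rc_47_3 lc_h_rc_29_3 lc_h_rc_22_1 lc_h_rc_41_2 lc_h_rc_29_3 lc_h_rc_22_1 lc_h_rc_22_3 lc_h_rc_41_2 lc_h_rc_40_0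 lc_h_rc_40_0 lc_h_rc_29_3 lc_h_rc_29_3 lc_h_rc_22_1 lc_h_Cert_tree lc_h_rc_40_0 lc_h_rc_40_0 lc_h_rc_29_3 lc_h_rc_41_2 lc_h_rc_22_1 lc_h_rc_40_0 lc_h_rc_29_3 lc_h_rc_22_1 lc_h_rc_35_1) (@D3.rec (fun _ => (Cert rels S Gen.h)) lc_h_rc_14_1 lc_h_rc_51_1 lc_h_rc_22_1 lc_h_rc_14_1 lc_h_rc_5_1 lc_h_rc_22_1 lc_h_rc_22_1 lc_h_rc_41_2 lc_h_rc_51_1 lc_h_rc_41_2 lc_h_rc_51_3 lc_h_rc_22_1 lc_h_rc_29_3 lc_h_rc_22_1 lc_h_rc_35_1 lc_h_rc_14_1 lc_h_rc_29_3 lc_h_rc_22_1 lc_h_rc_22_1 lc_h_rc_22_1 lc_h_rc_35_1 lc_h_rc_14_1 lc_h_rc_22_1 lc_h_rc_29_3 lc_h_rc_5_1 lc_h_rc_5_1 lc_h_rc_35_3 lc_h_rc_51_1 lc_h_rc_5_1 lc_h_rc_42_1 lc_h_rc_22_1 lc_h_rc_29_3 lc_h_rc_22_1 lc_h_rc_35_1 lc_h_rc_47_3 lc_h_rc_40_0 lc_h_rc_29_3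 lc_h_rc_41_2 lc_h_rc_22_1 lc_h_rc_35_1 lc_h_rc_22_1 lc_h_rc_14_1 lc_h_rc_29_3 lc_h_rc_22_1 lc_h_rc_35_1 lc_h_rc_14_1 lc_h_rc_22_1 lc_h_rc_35_1 lc_h_rc_5_1 lc_h_rc_51_1 lc_h_rc_22_1) (@D3.rec (fun _ => (Cert rels S Gen.h)) lc_h_rc_29_5 lc_h_rc_14_1 lc_h_rc_5_1 lc_h_rc_22_1 lc_h_rc_51_1 lc_h_rc_35_1 lc_h_rc_29_3 lc_h_rc_14_1 lc_h_rc_22_1 lc_h_rc_22_1 lc_h_rc_29_3 lc_h_rc_5_1 lc_h_rc_29_3 lc_h_rc_35_1 lc_h_rc_22_1 lc_h_rc_41_2 lc_h_rc_35_1 lc_h_rc_29_3 lc_h_rc_35_1 lc_h_rc_41_2 lc_h_rc_35_1 lc_h_rc_41_2 lc_h_rc_42_1 lc_h_rc_22_1 lc_h_rc_40_0 lc_h_rc_5_1 lc_h_rc_41_2 lc_h_rc_40_0 lc_h_rc_29_3 lc_h_rc_40_0 lc_h_rc_47_1 lc_h_rc_29_3 lc_h_rc_22_1 lc_h_rc_40_0 lc_h_rc_22_1 lc_h_rc_35_1 lc_h_rc_22_1 lc_h_rc_29_3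 lc_h_rc_22_1 lc_h_rc_5_3 lc_h_rc_29_3 lc_h_rc_35_3 lc_h_rc_41_2 lc_h_rc_41_2 lc_h_rc_22_1 lc_h_rc_22_1 lc_h_rc_40_0 lc_h_rc_29_3 lc_h_rc_22_1 lc_h_rc_35_1 lc_h_rc_14_1) (@D3.rec (fun _ => (Cert rels S Gen.h)) lc_h_rc_35_1 lc_h_rc_14_1 lc_h_rc_22_1 lc_h_rc_14_1 lc_h_Cert_tree lc_h_Cert_tree lc_h_rc_40_0 lc_h_Cert_tree lc_h_rc_40_0 lc_h_Cert_tree lc_h_Cert_tree lc_h_rc_40_0 lc_h_rc_29_3 lc_h_rc_40_0 lc_h_rc_29_3 lc_h_rc_40_0 lc_h_Cert_tree lc_h_rc_40_0 lc_h_rc_41_2 lc_h_Cert_tree lc_h_rc_40_0 lc_h_rc_29_3 lc_h_Cert_tree lc_h_rc_40_0 lc_h_rc_29_3 lc_h_rc_41_2 lc_h_rc_29_3 lc_h_rc_22_1 lc_h_rc_41_2 lc_h_rc_40_0 lc_h_rc_41_2 lc_h_rc_22_1 lc_h_rc_42_1 lc_h_rc_22_1 lc_h_rc_41_2 lc_h_rc_51_1 lc_h_rc_40_0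 lc_h_rc_29_3 lc_h_rc_35_1 lc_h_rc_40_0 lc_h_rc_29_3 lc_h_rc_22_1 lc_h_Cert_tree lc_h_rc_40_0 lc_h_rc_29_3 lc_h_rc_14_1 lc_h_Cert_tree lc_h_rc_40_0 lc_h_rc_40_0 lc_h_rc_29_3 lc_h_rc_29_3) (@D3.rec (fun _ => (Cert rels S Gen.h)) lc_h_rc_22_1 lc_h_rc_35_1 lc_h_rc_42_1 lc_h_rc_22_1 lc_h_rc_35_1 lc_h_rc_14_1 lc_h_rc_29_3 lc_h_rc_29_3 lc_h_rc_29_3 lc_h_rc_42_1 lc_h_rc_29_3 lc_h_rc_22_1 lc_h_rc_35_1 lc_h_rc_29_3 lc_h_rc_35_1 lc_h_rc_42_1 lc_h_rc_42_1 lc_h_rc_22_1 lc_h_rc_22_1 lc_h_rc_35_1 lc_h_rc_22_1 lc_h_rc_42_3 lc_h_Cert_tree lc_h_rc_42_1 lc_h_rc_40_0 lc_h_rc_29_3 lc_h_rc_35_1 lc_h_rc_41_2 lc_h_rc_35_1 lc_h_rc_42_1 lc_h_rc_47_1 lc_h_rc_40_0 lc_h_rc_29_3 lc_h_Cert_tree lc_h_rc_40_0 lc_h_Cert_tree lc_h_rc_40_0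 lc_h_rc_40_0 lc_h_rc_5_1 lc_h_rc_42_1 lc_h_rc_40_0 lc_h_rc_29_3 lc_h_rc_5_1 lc_h_rc_29_3 lc_h_rc_22_1 lc_h_rc_35_1 lc_h_rc_40_0 lc_h_rc_29_3 lc_h_rc_51_1 lc_h_rc_40_0 lc_h_rc_29_3) (@D3.rec (fun _ => (Cert rels S Gen.h)) lc_h_rc_5_1 lc_h_rc_29_3 lc_h_rc_22_1 lc_h_rc_41_2 lc_h_rc_40_0 lc_h_rc_47_1 lc_h_rc_22_1 lc_h_rc_22_1 lc_h_rc_35_1 lc_h_rc_40_0 lc_h_rc_47_1 lc_h_rc_22_1 lc_h_rc_35_1 lc_h_rc_14_1 lc_h_rc_29_3 lc_h_rc_35_1 lc_h_rc_35_1 lc_h_Cert_tree lc_h_rc_40_0 lc_h_Cert_tree lc_h_Cert_tree lc_h_rc_40_0 lc_h_rc_29_3 lc_h_Cert_tree lc_h_rc_40_0 lc_h_rc_29_3 lc_h_Cert_tree lc_h_rc_40_0 lc_h_rc_40_0 lc_h_rc_14_1 lc_h_rc_40_0 lc_h_rc_40_0 lc_h_rc_29_3 lc_h_rc_35_1 lc_h_rc_29_3 lc_h_rc_22_1 lc_h_Cert_tree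 lc_h_rc_40_0 lc_h_rc_51_1 lc_h_rc_40_0 lc_h_rc_14_1 lc_h_rc_40_0 lc_h_rc_29_3 lc_h_rc_41_2 lc_h_rc_40_0 lc_h_rc_29_3 lc_h_rc_22_1 lc_h_rc_40_0 lc_h_rc_29_3 lc_h_rc_14_1 lc_h_rc_40_0) (@D3.rec (fun _ => (Cert rels S Gen.h)) lc_h_rc_40_0 lc_h_rc_29_3 lc_h_rc_29_3 lc_h_rc_22_1 lc_h_rc_35_1 lc_h_rc_42_1 lc_h_rc_40_0 lc_h_rc_29_3 lc_h_rc_22_1 lc_h_rc_35_1 lc_h_rc_14_1 lc_h_rc_42_1 lc_h_rc_41_2 lc_h_rc_22_1 lc_h_rc_41_2 lc_h_rc_41_2 lc_h_rc_41_2 lc_h_rc_22_1 lc_h_Cert_tree lc_h_rc_40_0 lc_h_rc_47_3 lc_h_rc_22_1 lc_h_rc_40_0 lc_h_rc_42_1 lc_h_rc_29_3 lc_h_rc_14_1 lc_h_rc_22_1 lc_h_rc_35_1 lc_h_rc_42_1 lc_h_rc_40_0 lc_h_rc_29_3 lc_h_rc_22_1 lc_h_rc_35_1 lc_h_rc_14_1 lc_h_rc_40_0 lc_h_rc_29_3 lc_h_rc_47_1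 lc_h_rc_40_0 lc_h_rc_29_3 lc_h_rc_29_3 lc_h_rc_22_1 lc_h_rc_35_1 lc_h_rc_14_1 lc_h_rc_41_2 lc_h_rc_22_1 lc_h_rc_35_1 lc_h_rc_40_0 lc_h_rc_35_3 lc_h_rc_22_1 lc_h_rc_14_1 lc_h_rc_22_1) (@D3.rec (fun _ => (Cert rels S Gen.h)) lc_h_rc_42_1 lc_h_rc_47_1 lc_h_rc_29_3 lc_h_rc_22_1 lc_h_rc_35_1 lc_h_rc_14_1 lc_h_rc_22_1 lc_h_rc_5_1 lc_h_rc_22_1 lc_h_rc_47_1 lc_h_rc_29_3 lc_h_rc_35_1 lc_h_rc_14_1 lc_h_rc_22_1 lc_h_rc_35_1 lc_h_rc_14_1 lc_h_Cert_tree lc_h_rc_35_1 lc_h_rc_42_1 lc_h_rc_14_1 lc_h_rc_51_1 lc_h_rc_47_3 lc_h_rc_47_1 lc_h_rc_40_0 lc_h_rc_41_2 lc_h_rc_35_1 lc_h_rc_41_2 lc_h_rc_42_1 lc_h_rc_47_1 lc_h_rc_40_0 lc_h_rc_29_3 lc_h_rc_40_0 lc_h_rc_40_0 lc_h_rc_5_1 lc_h_rc_40_0 lc_h_rc_29_3 lc_h_rc_41_2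 lc_h_rc_40_0 lc_h_rc_29_3 lc_h_rc_29_3 lc_h_rc_35_1 lc_h_rc_29_3 lc_h_rc_22_1 lc_h_rc_35_1 lc_h_Cert_tree lc_h_Cert_tree lc_h_rc_40_0 lc_h_rc_29_3 lc_h_rc_40_0 lc_h_rc_29_3 lc_h_rc_29_3) (@D3.rec (fun _ => (Cert rels S Gen.h)) lc_h_rc_40_0 lc_h_rc_14_1 lc_h_rc_40_0 lc_h_rc_29_3 lc_h_rc_41_2 lc_h_rc_40_0 lc_h_rc_29_3 lc_h_rc_22_1 lc_h_rc_42_1 lc_h_rc_41_2 lc_h_rc_22_1 lc_h_rc_41_2 lc_h_rc_29_3 lc_h_rc_22_1 lc_h_rc_29_3 lc_h_rc_14_1 lc_h_rc_29_3 lc_h_rc_22_1 lc_h_rc_35_1 lc_h_rc_42_1 lc_h_rc_29_3 lc_h_rc_22_1 lc_h_rc_35_1 lc_h_rc_14_1 lc_h_rc_35_1 lc_h_rc_22_1 lc_h_rc_35_1 lc_h_rc_29_3 lc_h_rc_29_3 lc_h_Cert_tree lc_h_rc_40_0 lc_h_rc_40_0 lc_h_rc_29_3 lc_h_rc_35_1 lc_h_rc_22_1 lc_h_rc_40_0 lc_h_Cert_tree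 lc_h_Cert_tree lc_h_rc_40_0 lc_h_rc_29_3 lc_h_rc_40_0 lc_h_rc_29_3 lc_h_rc_40_0 lc_h_rc_29_3 lc_h_rc_40_0 lc_h_rc_14_1 lc_h_rc_40_0 lc_h_rc_40_0 lc_h_rc_29_3 lc_h_rc_41_2 lc_h_rc_29_3) (@D3.rec (fun _ => (Cert rels S Gen.h)) lc_h_rc_22_1 lc_h_rc_42_1 lc_h_rc_22_1 lc_h_rc_41_2 lc_h_rc_29_3 lc_h_rc_29_3 lc_h_rc_40_0 lc_h_rc_29_3 lc_h_rc_22_1 lc_h_rc_29_3 lc_h_rc_22_1 lc_h_rc_14_1 lc_h_rc_42_1 lc_h_rc_22_1 lc_h_rc_35_1 lc_h_rc_42_1 lc_h_rc_22_1 lc_h_rc_35_1 lc_h_rc_14_1 lc_h_rc_14_1 lc_h_rc_22_1 lc_h_rc_35_1 lc_h_rc_42_1 lc_h_rc_22_1 lc_h_Cert_tree lc_h_rc_22_1 lc_h_rc_14_1 lc_h_Cert_tree lc_h_Cert_tree lc_h_rc_40_0 lc_h_rc_29_3 lc_h_rc_40_0 lc_h_rc_29_3 lc_h_rc_40_0 lc_h_rc_14_1 lc_h_Cert_tree lc_h_rc_40_0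 lc_h_rc_40_0 lc_h_rc_29_3 lc_h_rc_35_1 lc_h_rc_29_3 lc_h_rc_22_1 lc_h_rc_29_3 lc_h_Cert_tree lc_h_rc_40_0 lc_h_rc_29_3 lc_h_rc_41_2 lc_h_rc_29_3 lc_h_rc_22_1 lc_h_rc_40_0 lc_h_rc_29_3)
def ce_h_18 : D2 → D3 → (Cert rels S Gen.h) := @D2.rec (fun _ => D3 → (Cert rels S Gen.h)) (@D3.rec (fun _ => (Cert rels S Gen.h)) lc_h_rc_14_1 lc_h_rc_40_0 lc_h_rc_29_3 lc_h_rc_29_3 lc_h_rc_22_1 lc_h_rc_35_1 lc_h_rc_42_1 lc_h_rc_41_4 lc_h_rc_22_1 lc_h_rc_35_1 lc_h_rc_14_1 lc_h_rc_41_2 lc_h_rc_14_1 lc_h_rc_14_1 lc_h_rc_41_2 lc_h_rc_22_1 lc_h_rc_42_1 lc_h_rc_22_1 lc_h_Cert_tree lc_h_rc_40_0 lc_h_rc_40_0 lc_h_rc_29_3 lc_h_rc_29_3 lc_h_rc_22_1 lc_h_rc_35_1 lc_h_rc_22_1 lc_h_rc_35_1 lc_h_rc_14_1 lc_h_rc_40_0 lc_h_rc_29_3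 lc_h_rc_40_0 lc_h_rc_40_0 lc_h_rc_29_3 lc_h_rc_29_3 lc_h_rc_22_1 lc_h_rc_35_1 lc_h_rc_5_1 lc_h_rc_40_0 lc_h_rc_29_3 lc_h_rc_41_2 lc_h_rc_22_1 lc_h_rc_35_1 lc_h_rc_47_1 lc_h_rc_22_1 lc_h_rc_35_1 lc_h_rc_14_1 lc_h_rc_22_1 lc_h_rc_42_1 lc_h_rc_42_1 lc_h_rc_29_3 lc_h_rc_22_1) (@D3.rec (fun _ => (Cert rels S Gen.h)) lc_h_rc_35_1 lc_h_rc_14_1 lc_h_rc_22_1 lc_h_rc_5_1 lc_h_rc_35_1 lc_h_rc_35_1 lc_h_rc_14_1 lc_h_rc_35_1 lc_h_rc_35_1 lc_h_rc_35_1 lc_h_Cert_tree lc_h_Cert_tree lc_h_Cert_tree lc_h_rc_40_0 lc_h_rc_41_2 lc_h_rc_35_1 lc_h_rc_29_3 lc_h_rc_14_1 lc_h_rc_35_1 lc_h_rc_22_1 lc_h_rc_41_2 lc_h_rc_22_1 lc_h_rc_42_1 lc_h_rc_22_1 lc_h_rc_29_3 lc_h_rc_51_3 lc_h_rc_35_1 lc_h_rc_22_1 lc_h_rc_29_3 lc_h_rc_22_1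 lc_h_rc_22_1 lc_h_rc_35_1 lc_h_rc_14_1 lc_h_rc_40_0 lc_h_rc_29_3 lc_h_rc_29_3 lc_h_rc_5_1 lc_h_rc_29_3 lc_h_rc_22_1 lc_h_rc_40_0 lc_h_rc_14_1 lc_h_rc_29_3 lc_h_rc_22_1 lc_h_rc_22_1 lc_h_rc_35_1 lc_h_rc_14_1 lc_h_rc_41_2 lc_h_rc_14_1 lc_h_rc_42_1 lc_h_rc_22_1 lc_h_rc_35_3) (@D3.rec (fun _ => (Cert rels S Gen.h)) lc_h_rc_35_3 lc_h_rc_14_3 lc_h_rc_14_1 lc_h_rc_22_1 lc_h_rc_22_1 lc_h_rc_22_1 lc_h_rc_14_1 lc_h_rc_29_3 lc_h_rc_22_1 lc_h_rc_35_1 lc_h_rc_14_1 lc_h_rc_22_1 lc_h_rc_5_1 lc_h_rc_35_1 lc_h_Cert_tree lc_h_rc_42_1 lc_h_rc_40_0 lc_h_rc_29_3 lc_h_rc_22_1 lc_h_rc_29_3 lc_h_rc_42_1 lc_h_rc_35_1 lc_h_rc_22_1 lc_h_rc_29_3 lc_h_rc_22_1 lc_h_rc_35_1 lc_h_rc_14_1 lc_h_rc_40_0 lc_h_rc_29_3 lc_h_rc_40_0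 lc_h_rc_35_3 lc_h_rc_35_1 lc_h_rc_29_3 lc_h_rc_22_1 lc_h_rc_40_0 lc_h_rc_51_1 lc_h_rc_40_0 lc_h_rc_29_3 lc_h_rc_22_1 lc_h_rc_22_1 lc_h_rc_35_1 lc_h_rc_14_1 lc_h_rc_41_2 lc_h_rc_22_1 lc_h_rc_41_2 lc_h_rc_22_1 lc_h_rc_40_0 lc_h_rc_41_2 lc_h_rc_14_1 lc_h_rc_22_1 lc_h_rc_40_0) (@D3.rec (fun _ => (Cert rels S Gen.h)) lc_h_rc_29_3 lc_h_rc_40_0 lc_h_rc_29_3 lc_h_rc_22_1 lc_h_rc_47_1 lc_h_rc_22_1 lc_h_rc_14_3 lc_h_rc_14_1 lc_h_rc_40_0 lc_h_rc_29_3 lc_h_rc_22_1 lc_h_rc_40_0 lc_h_rc_29_3 lc_h_rc_41_2 lc_h_rc_22_1 lc_h_rc_22_1 lc_h_rc_35_1 lc_h_rc_14_1 lc_h_rc_14_1 lc_h_rc_22_1 lc_h_rc_5_1 lc_h_rc_47_1 lc_h_rc_22_1 lc_h_rc_35_1 lc_h_rc_22_1 lc_h_rc_35_1 lc_h_rc_22_1 lc_h_rc_35_1 lc_h_Cert_tree lc_h_rc_22_1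 lc_h_rc_42_1 lc_h_rc_40_0 lc_h_rc_29_3 lc_h_rc_29_3 lc_h_rc_40_0 lc_h_rc_40_0 lc_h_rc_29_3 lc_h_rc_40_0 lc_h_rc_29_3 lc_h_rc_22_1 lc_h_rc_40_0 lc_h_rc_5_1 lc_h_rc_40_0 lc_h_rc_40_0 lc_h_rc_29_3 lc_h_rc_22_1 lc_h_rc_14_1 lc_h_rc_40_0 lc_h_rc_40_0 lc_h_rc_29_3 lc_h_rc_40_0) (@D3.rec (fun _ => (Cert rels S Gen.h)) lc_h_rc_29_3 lc_h_rc_22_1 lc_h_rc_5_3 lc_h_rc_42_1 lc_h_rc_29_3 lc_h_rc_22_1 lc_h_rc_35_1 lc_h_rc_14_1 lc_h_rc_29_3 lc_h_rc_40_0 lc_h_rc_14_3 lc_h_rc_22_1 lc_h_rc_29_3 lc_h_rc_40_0 lc_h_rc_42_1 lc_h_rc_22_1 lc_h_rc_40_0 lc_h_rc_29_3 lc_h_rc_22_1 lc_h_rc_35_1 lc_h_rc_14_1 lc_h_rc_29_3 lc_h_rc_22_1 lc_h_rc_40_0 lc_h_rc_29_3 lc_h_rc_41_2 lc_h_rc_22_1 lc_h_rc_29_3 lc_h_rc_22_1 lc_h_rc_42_1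 lc_h_rc_14_1 lc_h_rc_51_1 lc_h_rc_22_1 lc_h_rc_35_1 lc_h_rc_14_1 lc_h_rc_22_1 lc_h_rc_5_1 lc_h_rc_47_1 lc_h_rc_41_2 lc_h_rc_22_1 lc_h_rc_41_2 lc_h_rc_14_1 lc_h_rc_22_1 lc_h_rc_22_1 lc_h_rc_41_2 lc_h_rc_22_1 lc_h_rc_14_1 lc_h_Cert_tree lc_h_rc_41_2 lc_h_rc_29_3 lc_h_rc_40_0) (@D3.rec (fun _ => (Cert rels S Gen.h)) lc_h_rc_41_2 lc_h_rc_22_1 lc_h_rc_41_0 lc_h_rc_42_1 lc_h_rc_35_3 lc_h_rc_22_1 lc_h_rc_35_1 lc_h_rc_14_1 lc_h_rc_47_1 lc_h_rc_42_1 lc_h_rc_22_1 lc_h_rc_40_0 lc_h_rc_40_0 lc_h_rc_29_3 lc_h_rc_41_2 lc_h_rc_22_1 lc_h_rc_40_0 lc_h_rc_29_3 lc_h_rc_22_1 lc_h_rc_35_1 lc_h_rc_14_1 lc_h_rc_22_1 lc_h_rc_29_3 lc_h_rc_22_1 lc_h_rc_35_1 lc_h_rc_14_1 lc_h_rc_22_1 lc_h_rc_5_1 lc_h_rc_22_1 lc_h_rc_40_0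 lc_h_rc_29_3 lc_h_rc_22_1 lc_h_rc_29_3 lc_h_rc_22_1 lc_h_rc_35_1 lc_h_rc_14_1 lc_h_rc_22_1 lc_h_rc_40_0 lc_h_rc_40_0 lc_h_rc_29_3 lc_h_rc_41_2 lc_h_rc_22_1 lc_h_rc_35_1 lc_h_rc_22_1 lc_h_rc_41_2 lc_h_rc_14_1 lc_h_rc_22_1 lc_h_rc_42_1 lc_h_rc_29_3 lc_h_rc_22_1 lc_h_rc_35_1) (@D3.rec (fun _ => (Cert rels S Gen.h)) lc_h_rc_14_1 lc_h_rc_22_1 lc_h_rc_42_1 lc_h_rc_5_1 lc_h_rc_14_1 lc_h_rc_22_1 lc_h_rc_22_1 lc_h_rc_42_1 lc_h_rc_14_1 lc_h_rc_22_1 lc_h_rc_5_1 lc_h_rc_14_1 lc_h_Cert_tree lc_h_rc_35_1 lc_h_rc_47_1 lc_h_rc_22_1 lc_h_rc_35_1 lc_h_rc_35_1 lc_h_rc_22_1 lc_h_rc_35_1 lc_h_rc_14_1 lc_h_rc_22_1 lc_h_rc_42_1 lc_h_rc_5_1 lc_h_rc_14_1 lc_h_Cert_tree lc_h_rc_35_1 lc_h_rc_35_1 lc_h_Cert_tree lc_h_rc_22_1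 lc_h_Cert_tree lc_h_rc_5_1 lc_h_Cert_tree lc_h_rc_40_0 lc_h_rc_42_1 lc_h_rc_22_1 lc_h_rc_5_1 lc_h_rc_14_1 lc_h_Cert_tree lc_h_rc_47_1 lc_h_rc_5_1 lc_h_Cert_tree lc_h_rc_40_0 lc_h_rc_42_1 lc_h_rc_40_0 lc_h_Cert_tree lc_h_Cert_tree lc_h_rc_40_0 lc_h_rc_41_2 lc_h_rc_22_1 lc_h_rc_29_3) (@D3.rec (fun _ => (Cert rels S Gen.h)) lc_h_rc_22_1 lc_h_rc_5_1 lc_h_rc_5_1 lc_h_rc_22_1 lc_h_rc_14_1 lc_h_rc_22_1 lc_h_rc_14_1 lc_h_rc_22_1 lc_h_rc_22_1 lc_h_rc_14_1 lc_h_rc_41_4 lc_h_rc_22_1 lc_h_rc_22_1 lc_h_rc_14_1 lc_h_rc_41_2 lc_h_rc_35_1 lc_h_rc_29_3 lc_h_rc_22_1 lc_h_rc_41_4 lc_h_rc_22_1 lc_h_rc_35_1 lc_h_rc_14_1 lc_h_rc_22_1 lc_h_rc_14_1 lc_h_rc_5_1 lc_h_rc_14_1 lc_h_rc_35_1 lc_h_rc_29_3 lc_h_rc_35_1 lc_h_rc_22_1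 lc_h_rc_22_1 lc_h_rc_14_1 lc_h_rc_41_2 lc_h_rc_42_1 lc_h_rc_22_1 lc_h_rc_35_1 lc_h_rc_41_0 lc_h_rc_22_1 lc_h_rc_5_1 lc_h_rc_22_1 lc_h_rc_14_1 lc_h_rc_29_3 lc_h_rc_22_1 lc_h_rc_35_1 lc_h_rc_40_1 lc_h_rc_40_0 lc_h_rc_14_1 lc_h_rc_29_3 lc_h_rc_35_1 lc_h_rc_29_3 lc_h_rc_22_1) (@D3.rec (fun _ => (Cert rels S Gen.h)) lc_h_rc_22_3 lc_h_rc_14_1 lc_h_rc_40_0 lc_h_rc_29_3 lc_h_rc_29_3 lc_h_rc_22_1 lc_h_rc_35_1 lc_h_rc_42_1 lc_h_rc_41_2 lc_h_rc_41_2 lc_h_rc_29_3 lc_h_rc_22_1 lc_h_rc_35_1 lc_h_rc_14_1 lc_h_rc_29_3 lc_h_rc_22_1 lc_h_rc_35_1 lc_h_rc_22_1 lc_h_rc_35_1 lc_h_rc_14_1 lc_h_rc_22_1 lc_h_rc_42_1 lc_h_rc_14_1 lc_h_rc_5_1 lc_h_rc_14_1 lc_h_rc_35_1 lc_h_rc_47_1 lc_h_rc_14_1 lc_h_rc_42_1 lc_h_rc_14_1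 lc_h_rc_35_1 lc_h_rc_42_1 lc_h_rc_47_1 lc_h_rc_22_1 lc_h_rc_35_1 lc_h_rc_22_1 lc_h_rc_42_1 lc_h_rc_42_1 lc_h_rc_29_3 lc_h_rc_22_1 lc_h_rc_14_1 lc_h_rc_29_3 lc_h_rc_22_1 lc_h_rc_35_1 lc_h_rc_14_1 lc_h_rc_40_0 lc_h_rc_29_3 lc_h_rc_41_2 lc_h_rc_22_1 lc_h_rc_40_0 lc_h_rc_29_3) (@D3.rec (fun _ => (Cert rels S Gen.h)) lc_h_rc_14_1 lc_h_rc_40_0 lc_h_rc_29_3 lc_h_rc_22_1 lc_h_rc_35_1 lc_h_rc_40_0 lc_h_rc_29_3 lc_h_rc_47_1 lc_h_rc_22_1 lc_h_rc_35_1 lc_h_rc_29_3 lc_h_rc_41_2 lc_h_rc_22_1 lc_h_rc_35_1 lc_h_rc_22_1 lc_h_rc_14_1 lc_h_rc_22_1 lc_h_rc_22_1 lc_h_rc_40_0 lc_h_rc_5_1 lc_h_rc_42_1 lc_h_rc_22_1 lc_h_rc_35_1 lc_h_rc_42_1 lc_h_rc_41_2 lc_h_rc_41_2 lc_h_rc_14_1 lc_h_rc_42_1 lc_h_rc_22_1 lc_h_rc_29_3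 lc_h_rc_40_0 lc_h_rc_29_3 lc_h_rc_41_2 lc_h_rc_22_1 lc_h_rc_35_1 lc_h_rc_22_1 lc_h_rc_35_1 lc_h_rc_14_1 lc_h_rc_22_1 lc_h_rc_42_1 lc_h_rc_47_1 lc_h_rc_41_2 lc_h_rc_5_1 lc_h_rc_29_3 lc_h_rc_29_1 lc_h_rc_29_3 lc_h_rc_41_2 lc_h_rc_22_1 lc_h_rc_35_1 lc_h_rc_42_1 lc_h_rc_22_1) (@D3.rec (fun _ => (Cert rels S Gen.h)) lc_h_rc_35_1 lc_h_rc_14_1 lc_h_rc_22_1 lc_h_rc_29_3 lc_h_rc_29_3 lc_h_rc_22_1 lc_h_rc_35_1 lc_h_rc_22_1 lc_h_rc_41_2 lc_h_rc_14_1 lc_h_rc_22_1 lc_h_rc_42_1 lc_h_rc_41_2 lc_h_rc_22_1 lc_h_rc_35_1 lc_h_rc_14_1 lc_h_rc_22_1 lc_h_rc_5_1 lc_h_rc_14_1 lc_h_rc_22_1 lc_h_rc_41_2 lc_h_rc_14_1 lc_h_rc_5_1 lc_h_rc_42_1 lc_h_rc_14_1 lc_h_rc_35_1 lc_h_rc_35_1 lc_h_rc_41_2 lc_h_rc_42_1 lc_h_rc_47_1 lc_h_rc_41_2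 lc_h_rc_41_2 lc_h_rc_41_2 lc_h_rc_22_1 lc_h_rc_29_3 lc_h_rc_35_1 lc_h_rc_42_1 lc_h_rc_14_1 lc_h_rc_40_0 lc_h_rc_29_3 lc_h_rc_22_1 lc_h_rc_35_1 lc_h_rc_42_1 lc_h_rc_41_4 lc_h_rc_14_1 lc_h_rc_40_0 lc_h_rc_29_3 lc_h_rc_41_2 lc_h_rc_22_1 lc_h_rc_35_1 lc_h_rc_22_1) (@D3.rec (fun _ => (Cert rels S Gen.h)) lc_h_rc_35_1 lc_h_rc_14_1 lc_h_rc_22_1 lc_h_rc_42_1 lc_h_rc_47_1 lc_h_rc_14_1 lc_h_rc_5_1 lc_h_rc_42_1 lc_h_rc_41_2 lc_h_rc_42_1 lc_h_rc_29_3 lc_h_rc_22_1 lc_h_rc_35_1 lc_h_rc_42_1 lc_h_rc_22_1 lc_h_rc_14_1 lc_h_rc_42_1 lc_h_rc_22_1 lc_h_rc_42_1 lc_h_rc_5_1 lc_h_rc_42_1 lc_h_rc_42_1 lc_h_rc_14_1 lc_h_rc_41_2 lc_h_rc_22_1 lc_h_rc_35_1 lc_h_rc_14_1 lc_h_rc_22_1 lc_h_rc_5_3 lc_h_rc_41_4 lc_h_rc_22_1 lc_h_rc_47_1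 lc_h_rc_22_1 lc_h_rc_35_1 lc_h_rc_14_1 lc_h_rc_22_1 lc_h_rc_35_1 lc_h_rc_14_1 lc_h_rc_22_1 lc_h_rc_5_1 lc_h_rc_22_1 lc_h_rc_35_1 lc_h_rc_22_1 lc_h_rc_35_1 lc_h_rc_22_1 lc_h_rc_14_1 lc_h_rc_22_1 lc_h_rc_42_1 lc_h_rc_22_1 lc_h_rc_41_2 lc_h_rc_14_1) (@D3.rec (fun _ => (Cert rels S Gen.h)) lc_h_rc_22_1 lc_h_rc_22_1 lc_h_rc_14_1 lc_h_rc_29_3 lc_h_rc_5_1 lc_h_rc_14_1 lc_h_rc_22_1 lc_h_rc_47_1 lc_h_rc_14_1 lc_h_rc_5_1 lc_h_rc_41_2 lc_h_rc_29_1 lc_h_rc_14_1 lc_h_rc_5_1 lc_h_rc_14_1 lc_h_rc_35_1 lc_h_rc_40_1 lc_h_rc_42_1 lc_h_rc_5_1 lc_h_rc_41_2 lc_h_rc_35_3 lc_h_rc_41_2 lc_h_rc_41_2 lc_h_rc_41_2 lc_h_rc_5_3 lc_h_rc_29_3 lc_h_rc_22_1 lc_h_rc_29_3 lc_h_rc_22_1 lc_h_rc_22_1 lc_h_rc_35_1 lc_h_rc_14_1 lc_h_rc_41_2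 lc_h_rc_5_3 lc_h_rc_5_1 lc_h_rc_29_3 lc_h_rc_22_1 lc_h_rc_22_1 lc_h_rc_35_1 lc_h_rc_14_1 lc_h_rc_22_1 lc_h_rc_35_1 lc_h_rc_14_1 lc_h_rc_14_1 lc_h_rc_22_1 lc_h_rc_5_1 lc_h_rc_5_1 lc_h_rc_14_1 lc_h_rc_29_3 lc_h_rc_29_3 lc_h_rc_14_1) (@D3.rec (fun _ => (Cert rels S Gen.h)) lc_h_rc_42_1 lc_h_rc_5_1 lc_h_rc_22_1 lc_h_rc_41_2 lc_h_rc_41_2 lc_h_rc_14_1 lc_h_rc_22_1 lc_h_rc_51_3 lc_h_rc_5_1 lc_h_rc_22_1 lc_h_rc_22_1 lc_h_rc_14_1 lc_h_rc_22_1 lc_h_rc_14_1 lc_h_rc_5_1 lc_h_rc_35_3 lc_h_rc_5_1 lc_h_rc_29_3 lc_h_rc_22_1 lc_h_rc_35_1 lc_h_rc_22_1 lc_h_rc_41_2 lc_h_rc_22_1 lc_h_rc_35_1 lc_h_rc_14_1 lc_h_rc_22_1 lc_h_rc_5_1 lc_h_rc_51_1 lc_h_rc_22_1 lc_h_rc_29_1 lc_h_rc_35_1 lc_h_rc_47_1 lc_h_rc_22_1 lc_h_rc_22_1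 lc_h_rc_14_1 lc_h_rc_22_3 lc_h_rc_22_1 lc_h_rc_29_3 lc_h_rc_29_3 lc_h_rc_22_1 lc_h_rc_22_1 lc_h_rc_35_1 lc_h_rc_14_1 lc_h_rc_40_0 lc_h_rc_29_3 lc_h_rc_41_2 lc_h_rc_22_1 lc_h_rc_35_1 lc_h_rc_22_1 lc_h_rc_14_1 lc_h_rc_29_3) (@D3.rec (fun _ => (Cert rels S Gen.h)) lc_h_rc_22_1 lc_h_rc_35_1 lc_h_rc_14_1 lc_h_rc_22_1 lc_h_rc_5_1 lc_h_rc_22_1 lc_h_rc_47_1 lc_h_rc_14_3 lc_h_rc_22_1 lc_h_rc_51_1 lc_h_rc_22_1 lc_h_rc_51_3 lc_h_rc_47_3 lc_h_rc_41_2 lc_h_rc_35_1 lc_h_rc_14_1 lc_h_rc_35_1 lc_h_rc_5_1 lc_h_rc_22_1 lc_h_rc_35_1 lc_h_rc_51_3 lc_h_rc_14_1 lc_h_rc_41_0 lc_h_rc_22_1 lc_h_rc_35_1 lc_h_rc_5_1 lc_h_rc_41_0 lc_h_rc_22_1 lc_h_rc_29_3 lc_h_rc_22_1 lc_h_rc_41_2 lc_h_rc_41_2 lc_h_rc_22_1 lc_h_rc_42_3 lc_h_rc_22_1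 lc_h_rc_35_1 lc_h_rc_42_1 lc_h_rc_22_1 lc_h_rc_41_4 lc_h_rc_41_2 lc_h_rc_22_1 lc_h_rc_35_1 lc_h_rc_22_1 lc_h_rc_41_2 lc_h_rc_14_1 lc_h_rc_22_1 lc_h_rc_14_1 lc_h_rc_5_1 lc_h_rc_22_1 lc_h_rc_35_1 lc_h_rc_14_1) (@D3.rec (fun _ => (Cert rels S Gen.h)) lc_h_rc_22_1 lc_h_rc_42_1 lc_h_rc_5_1 lc_h_rc_14_1 lc_h_rc_22_1 lc_h_rc_51_1 lc_h_rc_51_1 lc_h_rc_5_3 lc_h_rc_5_1 lc_h_rc_22_1 lc_h_rc_35_1 lc_h_rc_35_1 lc_h_rc_41_2 lc_h_rc_35_1 lc_h_rc_41_2 lc_h_rc_42_1 lc_h_rc_29_3 lc_h_rc_22_1 lc_h_rc_41_2 lc_h_rc_29_3 lc_h_rc_22_1 lc_h_rc_47_3 lc_h_rc_22_1 lc_h_rc_22_1 lc_h_rc_35_1 lc_h_rc_14_1 lc_h_rc_22_1 lc_h_Cert_tree lc_h_rc_22_1 lc_h_rc_14_1 lc_h_rc_22_1 lc_h_rc_41_4 lc_h_rc_35_1 lc_h_rc_5_3 lc_h_rc_41_2 lc_h_rc_14_1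 lc_h_rc_41_4 lc_h_rc_29_3 lc_h_rc_22_1 lc_h_rc_35_1 lc_h_rc_14_1 lc_h_rc_22_1 lc_h_rc_5_1 lc_h_rc_14_1 lc_h_Cert_tree lc_h_rc_40_0 lc_h_rc_40_0 lc_h_rc_29_3 lc_h_rc_40_0 lc_h_rc_14_1 lc_h_rc_40_0) (@D3.rec (fun _ => (Cert rels S Gen.h)) lc_h_rc_40_0 lc_h_rc_29_3 lc_h_rc_35_1 lc_h_rc_29_3 lc_h_rc_22_1 lc_h_rc_51_1 lc_h_rc_40_0 lc_h_rc_29_3 lc_h_rc_41_2 lc_h_rc_40_0 lc_h_rc_29_3 lc_h_rc_22_1 lc_h_rc_40_0 lc_h_rc_29_3 lc_h_rc_22_1 lc_h_rc_35_1 lc_h_rc_42_1 lc_h_rc_22_1 lc_h_rc_35_1 lc_h_rc_14_1 lc_h_rc_42_1 lc_h_rc_41_2 lc_h_rc_22_1 lc_h_rc_41_2 lc_h_rc_22_1 lc_h_rc_22_1 lc_h_rc_42_1 lc_h_rc_22_1 lc_h_rc_35_1 lc_h_rc_42_1 lc_h_rc_29_3 lc_h_rc_22_1 lc_h_rc_42_1 lc_h_rc_14_1 lc_h_rc_40_0 lc_h_rc_29_3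 lc_h_rc_22_1 lc_h_rc_35_1 lc_h_rc_40_0 lc_h_rc_29_3 lc_h_rc_41_2 lc_h_rc_22_1 lc_h_rc_35_1 lc_h_rc_22_1 lc_h_rc_35_1 lc_h_rc_14_1 lc_h_rc_22_1 lc_h_rc_42_1 lc_h_rc_42_1 lc_h_rc_14_1 lc_h_rc_22_1) (@D3.rec (fun _ => (Cert rels S Gen.h)) lc_h_rc_5_1 lc_h_rc_29_3 lc_h_rc_35_1 lc_h_rc_42_1 lc_h_rc_47_1 lc_h_rc_22_1 lc_h_rc_35_1 lc_h_rc_22_1 lc_h_rc_35_1 lc_h_rc_42_1 lc_h_Cert_tree lc_h_rc_22_1 lc_h_rc_42_1 lc_h_Cert_tree lc_h_rc_40_0 lc_h_rc_47_1 lc_h_rc_41_2 lc_h_rc_35_1 lc_h_rc_41_2 lc_h_rc_42_1 lc_h_rc_14_1 lc_h_rc_35_1 lc_h_rc_40_0 lc_h_rc_29_3 lc_h_rc_40_0 lc_h_rc_29_3 lc_h_rc_41_2 lc_h_rc_5_1 lc_h_rc_22_1 lc_h_rc_29_3 lc_h_rc_22_1 lc_h_rc_35_1 lc_h_rc_22_1 lc_h_rc_35_1 lc_h_rc_14_1 lc_h_rc_29_3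 lc_h_rc_22_1 lc_h_rc_22_1 lc_h_rc_29_3 lc_h_rc_22_1 lc_h_rc_35_1 lc_h_rc_22_1 lc_h_rc_35_1 lc_h_rc_14_1 lc_h_rc_47_1 lc_h_rc_22_1 lc_h_rc_14_1 lc_h_rc_51_1 lc_h_rc_22_1 lc_h_rc_29_3 lc_h_rc_22_1) (@D3.rec (fun _ => (Cert rels S Gen.h)) lc_h_rc_47_1 lc_h_rc_14_1 lc_h_rc_22_1 lc_h_rc_5_1 lc_h_rc_35_1 lc_h_rc_40_0 lc_h_rc_14_1 lc_h_rc_40_0 lc_h_rc_40_0 lc_h_rc_29_3 lc_h_rc_35_1 lc_h_rc_40_0 lc_h_rc_29_3 lc_h_rc_22_1 lc_h_rc_40_0 lc_h_rc_5_1 lc_h_rc_29_3 lc_h_rc_22_1 lc_h_rc_14_1 lc_h_rc_29_3 lc_h_rc_41_2 lc_h_rc_22_1 lc_h_rc_35_1 lc_h_rc_42_1 lc_h_rc_22_1 lc_h_rc_35_1 lc_h_rc_14_1 lc_h_rc_40_0 lc_h_rc_51_1 lc_h_rc_22_1 lc_h_rc_51_3 lc_h_rc_14_1 lc_h_rc_29_3 lc_h_rc_22_1 lc_h_rc_35_1 lc_h_rc_42_1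 lc_h_rc_29_3 lc_h_rc_22_1 lc_h_rc_35_1 lc_h_rc_14_1 lc_h_rc_29_3 lc_h_rc_22_1 lc_h_rc_35_1 lc_h_rc_29_3 lc_h_rc_41_2 lc_h_rc_22_1 lc_h_rc_35_1 lc_h_rc_22_1 lc_h_rc_14_1 lc_h_rc_22_1 lc_h_rc_42_1) (@D3.rec (fun _ => (Cert rels S Gen.h)) lc_h_rc_14_1 lc_h_rc_29_5 lc_h_rc_35_1 lc_h_rc_14_1 lc_h_rc_22_1 lc_h_rc_5_1 lc_h_rc_41_2 lc_h_rc_22_1 lc_h_rc_41_2 lc_h_Cert_tree lc_h_rc_40_0 lc_h_rc_42_1 lc_h_rc_22_1 lc_h_rc_5_3 lc_h_rc_47_1 lc_h_rc_42_1 lc_h_rc_51_1 lc_h_rc_22_1 lc_h_rc_35_1 lc_h_rc_47_1 lc_h_rc_47_1 lc_h_rc_22_1 lc_h_rc_42_1 lc_h_rc_47_1 lc_h_rc_29_3 lc_h_rc_22_1 lc_h_rc_35_1 lc_h_rc_51_1 lc_h_rc_22_1 lc_h_rc_5_1 lc_h_rc_29_3 lc_h_rc_22_1 lc_h_rc_42_1 lc_h_rc_41_2 lc_h_rc_22_1 lc_h_rc_35_1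 lc_h_rc_22_1 lc_h_rc_14_1 lc_h_rc_22_1 lc_h_rc_51_1 lc_h_rc_22_1 lc_h_rc_41_2 lc_h_rc_14_1 lc_h_rc_22_1 lc_h_rc_42_1 lc_h_rc_41_2 lc_h_rc_22_1 lc_h_rc_51_1 lc_h_rc_5_1 lc_h_rc_14_1 lc_h_rc_22_1) (@D3.rec (fun _ => (Cert rels S Gen.h)) lc_h_rc_47_1 lc_h_rc_22_1 lc_h_rc_42_1 lc_h_rc_14_1 lc_h_rc_22_1 lc_h_rc_5_1 lc_h_rc_14_1 lc_h_Cert_tree lc_h_rc_35_1 lc_h_rc_42_1 lc_h_rc_14_1 lc_h_rc_5_3 lc_h_rc_47_1 lc_h_rc_40_0 lc_h_rc_41_2 lc_h_rc_41_2 lc_h_rc_47_1 lc_h_rc_29_3 lc_h_rc_22_1 lc_h_rc_29_3 lc_h_rc_47_3 lc_h_rc_5_1 lc_h_rc_41_2 lc_h_rc_41_2 lc_h_rc_41_2 lc_h_rc_29_3 lc_h_rc_22_1 lc_h_rc_22_1 lc_h_rc_14_1 lc_h_rc_22_1 lc_h_rc_35_1 lc_h_rc_14_1 lc_h_rc_40_0 lc_h_rc_40_0 lc_h_rc_29_3 lc_h_rc_35_1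 lc_h_rc_29_3 lc_h_rc_22_1 lc_h_rc_41_4 lc_h_rc_14_3 lc_h_rc_14_1 lc_h_rc_29_3 lc_h_rc_22_1 lc_h_rc_35_1 lc_h_rc_42_1 lc_h_rc_41_2 lc_h_rc_22_1 lc_h_rc_35_1 lc_h_rc_14_1 lc_h_rc_41_2 lc_h_rc_22_1) (@D3.rec (fun _ => (Cert rels S Gen.h)) lc_h_rc_22_1 lc_h_rc_14_1 lc_h_rc_35_3 lc_h_rc_42_3 lc_h_rc_22_1 lc_h_rc_35_1 lc_h_rc_14_1 lc_h_rc_22_1 lc_h_rc_14_3 lc_h_rc_22_1 lc_h_rc_35_1 lc_h_rc_14_1 lc_h_rc_22_1 lc_h_rc_5_1 lc_h_rc_47_1 lc_h_rc_29_5 lc_h_rc_22_1 lc_h_rc_40_0 lc_h_rc_29_3 lc_h_rc_29_3 lc_h_rc_22_1 lc_h_rc_35_1 lc_h_rc_14_1 lc_h_rc_29_3 lc_h_rc_40_0 lc_h_rc_40_0 lc_h_rc_29_3 lc_h_rc_35_1 lc_h_rc_29_3 lc_h_rc_22_1 lc_h_rc_35_3 lc_h_rc_22_1 lc_h_rc_14_3 lc_h_rc_14_1 lc_h_rc_29_3 lc_h_rc_29_3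 lc_h_rc_22_1 lc_h_rc_35_1 lc_h_rc_42_1 lc_h_rc_22_1 lc_h_rc_35_1 lc_h_rc_14_1 lc_h_rc_22_1 lc_h_rc_22_1 lc_h_rc_22_1 lc_h_rc_47_1 lc_h_rc_22_1 lc_h_rc_14_1 lc_h_rc_22_1 lc_h_rc_35_1 lc_h_rc_22_1) (@D3.rec (fun _ => (Cert rels S Gen.h)) lc_h_rc_14_1 lc_h_rc_22_1 lc_h_rc_5_3 lc_h_rc_5_3 lc_h_rc_22_1 lc_h_rc_42_1 lc_h_rc_14_1 lc_h_rc_22_1 lc_h_rc_5_1 lc_h_rc_35_1 lc_h_rc_35_1 lc_h_Cert_tree lc_h_rc_40_0 lc_h_rc_40_0 lc_h_rc_40_0 lc_h_rc_29_3 lc_h_rc_29_3 lc_h_rc_22_1 lc_h_rc_29_3 lc_h_rc_22_1 lc_h_rc_14_1 lc_h_rc_40_0 lc_h_rc_29_3 lc_h_rc_42_1 lc_h_rc_22_1 lc_h_rc_35_1 lc_h_rc_42_1 lc_h_rc_22_1 lc_h_rc_35_1 lc_h_rc_14_1 lc_h_rc_41_4 lc_h_rc_40_0 lc_h_rc_29_3 lc_h_rc_22_1 lc_h_rc_35_1 lc_h_rc_22_1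 lc_h_rc_35_1 lc_h_rc_14_1 lc_h_rc_29_3 lc_h_rc_22_1 lc_h_rc_35_1 lc_h_rc_14_1 lc_h_rc_41_2 lc_h_rc_22_1 lc_h_rc_35_1 lc_h_rc_35_3 lc_h_rc_47_1 lc_h_rc_14_1 lc_h_rc_22_1 lc_h_rc_42_1 lc_h_rc_41_4) (@D3.rec (fun _ => (Cert rels S Gen.h)) lc_h_rc_41_4 lc_h_rc_14_1 lc_h_rc_22_1 lc_h_rc_5_1 lc_h_Cert_tree lc_h_rc_22_1 lc_h_rc_35_1 lc_h_rc_14_1 lc_h_rc_40_0 lc_h_rc_29_3 lc_h_rc_41_2 lc_h_rc_22_1 lc_h_rc_35_1 lc_h_rc_22_1 lc_h_rc_35_1 lc_h_rc_14_1 lc_h_rc_22_1 lc_h_rc_14_1 lc_h_rc_22_1 lc_h_rc_5_1 lc_h_rc_29_3 lc_h_rc_22_1 lc_h_rc_29_3 lc_h_rc_41_2 lc_h_rc_22_1 lc_h_rc_35_1 lc_h_rc_22_1 lc_h_rc_35_1 lc_h_rc_14_1 lc_h_rc_22_1 lc_h_rc_42_1 lc_h_rc_5_3 lc_h_rc_22_1 lc_h_rc_35_1 lc_h_rc_22_1 lc_h_rc_41_2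 lc_h_rc_14_1 lc_h_rc_22_1 lc_h_rc_42_1 lc_h_rc_22_1 lc_h_rc_47_1 lc_h_rc_14_1 lc_h_rc_22_1 lc_h_rc_42_1 lc_h_rc_5_1 lc_h_rc_14_1 lc_h_rc_22_1 lc_h_rc_47_1 lc_h_rc_22_1 lc_h_rc_14_1 lc_h_rc_22_1) (@D3.rec (fun _ => (Cert rels S Gen.h)) lc_h_rc_5_1 lc_h_rc_14_1 lc_h_Cert_tree lc_h_rc_35_1 lc_h_Cert_tree lc_h_rc_40_0 lc_h_rc_40_0 lc_h_Cert_tree lc_h_rc_40_0 lc_h_rc_41_2 lc_h_rc_41_2 lc_h_rc_14_1 lc_h_rc_22_1 lc_h_rc_42_1 lc_h_rc_29_3 lc_h_rc_22_1 lc_h_rc_22_1 lc_h_rc_22_1 lc_h_rc_51_3 lc_h_rc_14_1 lc_h_rc_22_1 lc_h_rc_14_1 lc_h_rc_14_1 lc_h_rc_22_1 lc_h_rc_5_1 lc_h_rc_29_3 lc_h_rc_22_1 lc_h_rc_29_3 lc_h_rc_35_1 lc_h_rc_42_1 lc_h_rc_22_1 lc_h_rc_35_1 lc_h_rc_14_1 lc_h_rc_42_1 lc_h_rc_22_1 lc_h_rc_22_1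 lc_h_rc_35_1 lc_h_rc_14_1 lc_h_rc_14_1 lc_h_rc_22_1 lc_h_rc_5_1 lc_h_rc_35_1 lc_h_rc_42_1 lc_h_rc_42_1 lc_h_rc_14_1 lc_h_rc_51_3 lc_h_rc_5_3 lc_h_rc_22_1 lc_h_rc_5_1 lc_h_rc_42_3 lc_h_rc_14_1) (@D3.rec (fun _ => (Cert rels S Gen.h)) lc_h_rc_22_3 lc_h_rc_5_1 lc_h_rc_22_1 lc_h_rc_35_1 lc_h_rc_14_1 lc_h_rc_22_1 lc_h_rc_5_1 lc_h_rc_14_1 lc_h_Cert_tree lc_h_rc_40_0 lc_h_rc_41_2 lc_h_rc_35_3 lc_h_rc_5_3 lc_h_rc_41_2 lc_h_rc_42_1 lc_h_rc_42_3 lc_h_rc_14_1 lc_h_rc_22_1 lc_h_rc_35_1 lc_h_rc_14_1 lc_h_rc_22_1 lc_h_rc_5_1 lc_h_rc_29_3 lc_h_rc_22_1 lc_h_rc_42_1 lc_h_rc_22_1 lc_h_rc_29_3 lc_h_rc_42_1 lc_h_rc_22_1 lc_h_rc_35_1 lc_h_rc_14_1 lc_h_rc_29_3 lc_h_rc_22_1 lc_h_rc_29_3 lc_h_rc_22_1 lc_h_rc_35_1 lc_h_rc_14_1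 lc_h_rc_14_1 lc_h_rc_22_1 lc_h_rc_5_1 lc_h_rc_22_1 lc_h_rc_41_2 lc_h_rc_22_1 lc_h_Cert_tree lc_h_rc_41_2 lc_h_rc_22_1 lc_h_rc_22_1 lc_h_rc_14_1 lc_h_rc_14_1 lc_h_rc_29_3 lc_h_rc_22_1) (@D3.rec (fun _ => (Cert rels S Gen.h)) lc_h_rc_29_3 lc_h_rc_22_1 lc_h_rc_35_1 lc_h_rc_14_1 lc_h_rc_22_1 lc_h_rc_5_1 lc_h_rc_14_1 lc_h_rc_22_1 lc_h_rc_5_1 lc_h_rc_29_3 lc_h_rc_22_1 lc_h_rc_14_1 lc_h_rc_29_3 lc_h_rc_22_1 lc_h_rc_35_1 lc_h_rc_22_1 lc_h_rc_14_1 lc_h_rc_14_1 lc_h_rc_22_1 lc_h_rc_5_1 lc_h_rc_5_1 lc_h_rc_14_1 lc_h_Cert_tree lc_h_rc_22_1 lc_h_rc_35_1 lc_h_rc_35_1 lc_h_rc_22_1 lc_h_rc_42_1 lc_h_rc_42_1 lc_h_Cert_tree lc_h_rc_40_0 lc_h_rc_47_1 lc_h_rc_41_2 lc_h_rc_22_1 lc_h_rc_29_3 lc_h_rc_29_3 lc_h_rc_29_3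 lc_h_rc_29_3 lc_h_rc_22_1 lc_h_rc_35_1 lc_h_rc_14_1 lc_h_rc_40_0 lc_h_rc_5_1 lc_h_rc_5_1 lc_h_rc_29_3 lc_h_rc_29_3 lc_h_rc_22_1 lc_h_rc_14_1 lc_h_rc_22_1 lc_h_rc_14_1 lc_h_rc_29_3)
def ce_h_19 : D2 → D3 → (Cert rels S Gen.h) := @D2.rec (fun _ => D3 → (Cert rels S Gen.h)) (@D3.rec (fun _ => (Cert rels S Gen.h)) lc_h_rc_41_2 lc_h_rc_22_1 lc_h_rc_29_3 lc_h_rc_22_1 lc_h_rc_35_1 lc_h_rc_14_1 lc_h_rc_22_1 lc_h_rc_5_3 lc_h_rc_47_1 lc_h_rc_22_1 lc_h_rc_35_1 lc_h_rc_14_1 lc_h_rc_22_1 lc_h_rc_5_1 lc_h_rc_22_1 lc_h_rc_29_3 lc_h_rc_22_1 lc_h_rc_35_1 lc_h_rc_14_1 lc_h_rc_22_1 lc_h_rc_47_1 lc_h_rc_22_1 lc_h_rc_42_3 lc_h_rc_51_1 lc_h_rc_22_1 lc_h_rc_35_1 lc_h_rc_14_1 lc_h_rc_22_1 lc_h_rc_5_1 lc_h_rc_22_1 lc_h_rc_14_1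 lc_h_rc_41_2 lc_h_rc_22_1 lc_h_rc_22_1 lc_h_rc_14_1 lc_h_rc_41_4 lc_h_rc_14_1 lc_h_rc_22_1 lc_h_rc_5_1 lc_h_rc_22_1 lc_h_rc_35_1 lc_h_rc_14_1 lc_h_rc_22_1 lc_h_rc_5_1 lc_h_rc_14_1 lc_h_Cert_tree lc_h_rc_22_1 lc_h_rc_41_2 lc_h_rc_14_1 lc_h_rc_22_1 lc_h_rc_42_1) (@D3.rec (fun _ => (Cert rels S Gen.h)) lc_h_rc_14_1 lc_h_Cert_tree lc_h_rc_22_1 lc_h_Cert_tree lc_h_Cert_tree lc_h_rc_40_0 lc_h_rc_22_1 lc_h_rc_22_1 lc_h_rc_41_2 lc_h_rc_22_1 lc_h_rc_41_2 lc_h_rc_14_1 lc_h_rc_22_1 lc_h_rc_42_1 lc_h_rc_41_2 lc_h_rc_14_1 lc_h_rc_14_1 lc_h_rc_35_1 lc_h_rc_5_1 lc_h_rc_22_1 lc_h_rc_22_1 lc_h_rc_47_3 lc_h_rc_51_3 lc_h_rc_29_3 lc_h_rc_42_1 lc_h_rc_22_1 lc_h_rc_35_1 lc_h_rc_22_1 lc_h_rc_14_1 lc_h_rc_29_3 lc_h_rc_22_1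 lc_h_rc_35_1 lc_h_rc_14_1 lc_h_rc_22_1 lc_h_rc_5_1 lc_h_rc_14_1 lc_h_rc_35_3 lc_h_rc_47_1 lc_h_rc_14_1 lc_h_rc_22_1 lc_h_rc_42_1 lc_h_rc_5_1 lc_h_rc_14_1 lc_h_Cert_tree lc_h_rc_47_1 lc_h_rc_29_3 lc_h_rc_22_1 lc_h_rc_35_1 lc_h_rc_14_1 lc_h_rc_22_1 lc_h_rc_14_1) (@D3.rec (fun _ => (Cert rels S Gen.h)) lc_h_rc_22_1 lc_h_rc_5_1 lc_h_rc_47_1 lc_h_rc_29_3 lc_h_rc_29_3 lc_h_rc_22_1 lc_h_rc_35_1 lc_h_rc_22_1 lc_h_rc_47_3 lc_h_rc_14_1 lc_h_rc_22_1 lc_h_rc_42_1 lc_h_rc_14_1 lc_h_rc_22_1 lc_h_rc_5_1 lc_h_rc_14_1 lc_h_rc_29_3 lc_h_rc_22_1 lc_h_rc_22_1 lc_h_rc_35_1 lc_h_rc_14_1 lc_h_rc_22_1 lc_h_rc_42_1 lc_h_rc_5_1 lc_h_rc_14_1 lc_h_Cert_tree lc_h_rc_22_1 lc_h_rc_5_1 lc_h_rc_14_1 lc_h_rc_14_1 lc_h_rc_22_1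 lc_h_rc_5_1 lc_h_rc_14_1 lc_h_Cert_tree lc_h_rc_5_1 lc_h_Cert_tree lc_h_rc_40_0 lc_h_rc_35_1 lc_h_rc_35_1 lc_h_rc_42_1 lc_h_Cert_tree lc_h_rc_22_1 lc_h_rc_5_1 lc_h_rc_14_1 lc_h_Cert_tree lc_h_rc_5_1 lc_h_Cert_tree lc_h_rc_40_0 lc_h_rc_35_1 lc_h_rc_40_0 lc_h_rc_42_1) (@D3.rec (fun _ => (Cert rels S Gen.h)) lc_h_rc_40_0 lc_h_Cert_tree lc_h_Cert_tree lc_h_rc_40_0 lc_h_rc_41_2 lc_h_rc_5_1 lc_h_rc_47_3 lc_h_rc_51_3 lc_h_rc_40_0 lc_h_Cert_tree lc_h_rc_40_0 lc_h_rc_41_2 lc_h_rc_41_2 lc_h_Cert_tree lc_h_rc_40_0 lc_h_rc_40_0 lc_h_rc_29_3 lc_h_rc_29_3 lc_h_rc_5_1 lc_h_rc_5_1 lc_h_rc_5_3 lc_h_rc_5_1 lc_h_rc_14_1 lc_h_rc_14_1 lc_h_rc_5_1 lc_h_rc_41_4 lc_h_rc_14_1 lc_h_rc_51_3 lc_h_rc_5_1 lc_h_rc_41_2 lc_h_rc_41_2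 lc_h_rc_55_52 lc_h_rc_22_1 lc_h_rc_35_1 lc_h_rc_14_1 lc_h_rc_41_4 lc_h_rc_41_4 lc_h_rc_14_1 lc_h_rc_22_1 lc_h_rc_5_1 lc_h_rc_14_1 lc_h_rc_5_1 lc_h_rc_29_3 lc_h_rc_35_1 lc_h_rc_14_1 lc_h_rc_14_1 lc_h_rc_5_1 lc_h_rc_41_2 lc_h_rc_22_1 lc_h_rc_55_34 lc_h_rc_22_1) (@D3.rec (fun _ => (Cert rels S Gen.h)) lc_h_rc_41_0 lc_h_rc_5_3 lc_h_rc_51_1 lc_h_rc_5_1 lc_h_rc_22_1 lc_h_rc_35_1 lc_h_rc_14_1 lc_h_rc_22_1 lc_h_rc_14_3 lc_h_rc_35_3 lc_h_rc_14_1 lc_h_rc_22_1 lc_h_rc_35_1 lc_h_rc_42_1 lc_h_rc_41_2 lc_h_rc_35_1 lc_h_rc_5_3 lc_h_rc_40_1 lc_h_rc_40_1 lc_h_rc_14_1 lc_h_rc_29_3 lc_h_rc_22_1 lc_h_rc_35_1 lc_h_rc_22_1 lc_h_rc_35_1 lc_h_rc_14_1 lc_h_rc_22_1 lc_h_rc_42_1 lc_h_rc_47_1 lc_h_rc_56_34 lc_h_rc_41_2 lc_h_rc_22_1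 lc_h_rc_35_1 lc_h_rc_14_1 lc_h_rc_22_1 lc_h_rc_42_1 lc_h_rc_22_1 lc_h_rc_35_1 lc_h_rc_14_1 lc_h_rc_22_1 lc_h_rc_42_1 lc_h_rc_14_1 lc_h_rc_22_1 lc_h_rc_5_1 lc_h_rc_14_1 lc_h_rc_22_1 lc_h_rc_5_1 lc_h_rc_42_1 lc_h_rc_47_1 lc_h_rc_22_1 lc_h_rc_42_1) (@D3.rec (fun _ => (Cert rels S Gen.h)) lc_h_rc_22_1 lc_h_rc_35_1 lc_h_rc_22_1 lc_h_rc_22_1 lc_h_rc_35_1 lc_h_rc_14_1 lc_h_rc_22_1 lc_h_rc_5_1 lc_h_rc_29_3 lc_h_rc_22_1 lc_h_rc_35_1 lc_h_rc_42_1 lc_h_rc_47_1 lc_h_rc_29_3 lc_h_rc_22_1 lc_h_rc_35_1 lc_h_rc_41_2 lc_h_rc_22_1 lc_h_rc_35_1 lc_h_rc_14_1 lc_h_rc_22_1 lc_h_rc_14_1 lc_h_rc_22_1 lc_h_rc_35_1 lc_h_rc_22_1 lc_h_rc_14_1 lc_h_rc_22_1 lc_h_rc_22_1 lc_h_rc_22_1 lc_h_rc_41_2 lc_h_rc_14_1 lc_h_rc_22_1 lc_h_rc_14_1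 lc_h_rc_5_1 lc_h_rc_14_1 lc_h_rc_47_1 lc_h_rc_22_1 lc_h_rc_22_1 lc_h_rc_51_1 lc_h_rc_51_1 lc_h_rc_22_1 lc_h_rc_42_1 lc_h_rc_14_1 lc_h_rc_41_2 lc_h_rc_5_1 lc_h_rc_22_1 lc_h_rc_35_1 lc_h_rc_51_3 lc_h_rc_22_1 lc_h_rc_41_2 lc_h_rc_22_1) (@D3.rec (fun _ => (Cert rels S Gen.h)) lc_h_rc_35_1 lc_h_rc_22_1 lc_h_rc_41_2 lc_h_rc_14_1 lc_h_rc_22_1 lc_h_rc_42_1 lc_h_rc_14_1 lc_h_rc_22_1 lc_h_rc_5_1 lc_h_rc_14_1 lc_h_rc_22_1 lc_h_rc_47_1 lc_h_rc_41_2 lc_h_rc_29_1 lc_h_rc_35_1 lc_h_rc_47_3 lc_h_rc_22_1 lc_h_rc_35_1 lc_h_rc_22_1 lc_h_rc_41_2 lc_h_rc_14_1 lc_h_rc_22_1 lc_h_rc_22_1 lc_h_rc_14_1 lc_h_rc_22_1 lc_h_rc_5_1 lc_h_rc_14_1 lc_h_rc_22_1 lc_h_rc_35_1 lc_h_rc_22_1 lc_h_rc_41_2 lc_h_rc_14_1 lc_h_rc_22_1 lc_h_rc_14_1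 lc_h_rc_22_1 lc_h_rc_41_2 lc_h_rc_5_1 lc_h_rc_14_1 lc_h_rc_22_1 lc_h_rc_22_1 lc_h_rc_51_1 lc_h_rc_14_1 lc_h_rc_22_1 lc_h_rc_5_1 lc_h_rc_14_1 lc_h_rc_5_1 lc_h_rc_14_1 lc_h_rc_51_1 lc_h_rc_5_1 lc_h_rc_51_1 lc_h_rc_41_2) (@D3.rec (fun _ => (Cert rels S Gen.h)) lc_h_rc_47_1 lc_h_rc_55_25 lc_h_rc_14_1 lc_h_rc_14_1 lc_h_rc_35_1 lc_h_rc_42_1 lc_h_rc_5_1 lc_h_rc_41_2 lc_h_rc_22_1 lc_h_rc_35_1 lc_h_rc_14_1 lc_h_rc_22_1 lc_h_rc_42_1 lc_h_rc_41_4 lc_h_rc_5_1 lc_h_rc_41_2 lc_h_rc_22_1 lc_h_rc_35_1 lc_h_rc_22_1 lc_h_rc_41_2 lc_h_rc_14_1 lc_h_rc_22_1 lc_h_rc_42_1 lc_h_rc_14_1 lc_h_rc_22_1 lc_h_rc_42_1 lc_h_rc_5_1 lc_h_rc_14_1 lc_h_rc_22_1 lc_h_rc_5_1 lc_h_rc_5_1 lc_h_rc_41_2 lc_h_rc_22_1 lc_h_rc_35_1 lc_h_rc_14_1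 lc_h_rc_22_1 lc_h_rc_41_4 lc_h_rc_14_1 lc_h_rc_5_1 lc_h_rc_51_1 lc_h_rc_42_3 lc_h_rc_22_1 lc_h_rc_5_3 lc_h_rc_42_1 lc_h_rc_22_1 lc_h_rc_41_2 lc_h_rc_14_1 lc_h_rc_22_1 lc_h_rc_5_1 lc_h_rc_14_1 lc_h_rc_22_1) (@D3.rec (fun _ => (Cert rels S Gen.h)) lc_h_rc_14_1 lc_h_rc_22_1 lc_h_rc_14_1 lc_h_rc_35_1 lc_h_rc_5_1 lc_h_rc_14_1 lc_h_rc_22_1 lc_h_rc_14_1 lc_h_rc_5_3 lc_h_rc_14_1 lc_h_rc_22_1 lc_h_rc_14_1 lc_h_rc_22_1 lc_h_rc_14_1 lc_h_rc_5_1 lc_h_rc_14_1 lc_h_rc_22_1 lc_h_rc_14_1 lc_h_rc_22_1 lc_h_rc_5_1 lc_h_rc_14_1 lc_h_rc_14_1 lc_h_rc_14_1 lc_h_rc_5_3 lc_h_rc_5_1 lc_h_rc_55_25 lc_h_rc_22_1 lc_h_rc_5_1 lc_h_rc_41_2 lc_h_rc_41_2 lc_h_rc_47_1 lc_h_rc_5_1 lc_h_rc_5_1 lc_h_rc_47_1 lc_h_rc_22_1 lc_h_rc_22_3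 lc_h_rc_42_1 lc_h_rc_41_2 lc_h_rc_5_3 lc_h_rc_41_2 lc_h_rc_41_2 lc_h_rc_14_1 lc_h_rc_41_2 lc_h_rc_47_1 lc_h_rc_29_3 lc_h_rc_35_1 lc_h_rc_51_3 lc_h_rc_22_1 lc_h_rc_35_1 lc_h_rc_14_1 lc_h_rc_14_1) (@D3.rec (fun _ => (Cert rels S Gen.h)) lc_h_rc_22_1 lc_h_rc_5_1 lc_h_rc_5_3 lc_h_rc_41_2 lc_h_rc_22_1 lc_h_rc_35_1 lc_h_rc_14_1 lc_h_rc_14_1 lc_h_rc_22_1 lc_h_rc_5_1 lc_h_rc_14_1 lc_h_rc_22_1 lc_h_rc_5_1 lc_h_rc_5_1 lc_h_rc_14_1 lc_h_rc_14_1 lc_h_rc_29_3 lc_h_rc_5_1 lc_h_rc_22_1 lc_h_rc_14_1 lc_h_rc_14_1 lc_h_rc_41_2 lc_h_rc_5_1 lc_h_rc_14_1 lc_h_rc_51_3 lc_h_rc_56_41 lc_h_rc_14_1 lc_h_rc_5_1 lc_h_rc_14_1 lc_h_rc_5_1 lc_h_rc_29_3 lc_h_rc_29_3 lc_h_rc_22_1 lc_h_rc_35_1 lc_h_rc_14_1 lc_h_rc_22_1 lc_h_rc_47_3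 lc_h_rc_41_2 lc_h_rc_41_2 lc_h_rc_14_1 lc_h_rc_22_1 lc_h_rc_5_1 lc_h_rc_14_1 lc_h_rc_22_1 lc_h_rc_51_1 lc_h_rc_51_1 lc_h_rc_47_1 lc_h_rc_35_1 lc_h_rc_47_1 lc_h_rc_5_3 lc_h_rc_14_1) (@D3.rec (fun _ => (Cert rels S Gen.h)) lc_h_rc_5_1 lc_h_rc_42_3 lc_h_rc_29_3 lc_h_rc_35_1 lc_h_rc_22_1 lc_h_rc_35_1 lc_h_rc_14_1 lc_h_rc_14_1 lc_h_rc_22_1 lc_h_rc_5_1 lc_h_rc_41_2 lc_h_rc_22_1 lc_h_rc_35_1 lc_h_rc_22_1 lc_h_rc_41_2 lc_h_rc_14_1 lc_h_rc_22_1 lc_h_rc_14_1 lc_h_rc_5_1 lc_h_rc_29_3 lc_h_rc_35_1 lc_h_rc_14_1 lc_h_rc_22_1 lc_h_rc_42_1 lc_h_rc_5_1 lc_h_rc_14_1 lc_h_rc_51_1 lc_h_rc_47_1 lc_h_rc_14_1 lc_h_rc_22_1 lc_h_rc_47_3 lc_h_rc_47_1 lc_h_rc_41_2 lc_h_rc_5_1 lc_h_rc_14_1 lc_h_Cert_tree lc_h_rc_51_3 lc_h_rc_22_1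 lc_h_rc_51_3 lc_h_rc_5_1 lc_h_rc_41_0 lc_h_rc_47_1 lc_h_rc_22_1 lc_h_rc_35_1 lc_h_rc_41_0 lc_h_rc_47_3 lc_h_rc_22_1 lc_h_rc_55_52 lc_h_rc_41_2 lc_h_rc_41_0 lc_h_rc_42_3) (@D3.rec (fun _ => (Cert rels S Gen.h)) lc_h_rc_42_3 lc_h_rc_22_1 lc_h_rc_41_4 lc_h_rc_47_3 lc_h_Cert_tree lc_h_rc_22_1 lc_h_rc_41_2 lc_h_rc_14_1 lc_h_rc_22_1 lc_h_rc_42_1 lc_h_rc_14_1 lc_h_rc_22_1 lc_h_rc_5_1 lc_h_rc_14_1 lc_h_rc_35_1 lc_h_rc_5_1 lc_h_rc_51_1 lc_h_rc_42_1 lc_h_rc_5_1 lc_h_rc_14_1 lc_h_rc_5_1 lc_h_rc_51_1 lc_h_rc_51_1 lc_h_rc_51_1 lc_h_rc_42_1 lc_h_rc_41_4 lc_h_rc_35_1 lc_h_rc_41_4 lc_h_rc_22_1 lc_h_rc_14_1 lc_h_rc_22_1 lc_h_rc_47_1 lc_h_rc_14_1 lc_h_rc_22_1 lc_h_rc_5_1 lc_h_Cert_tree lc_h_rc_40_0 lc_h_rc_14_1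 lc_h_rc_5_1 lc_h_rc_41_4 lc_h_rc_42_1 lc_h_rc_41_4 lc_h_rc_41_4 lc_h_rc_5_1 lc_h_rc_41_4 lc_h_rc_22_1 lc_h_rc_14_1 lc_h_rc_22_1 lc_h_rc_5_1 lc_h_rc_14_1 lc_h_Cert_tree) (@D3.rec (fun _ => (Cert rels S Gen.h)) lc_h_rc_5_1 lc_h_rc_40_0 lc_h_rc_41_2 lc_h_rc_29_3 lc_h_rc_22_1 lc_h_rc_42_1 lc_h_rc_22_1 lc_h_rc_14_1 lc_h_rc_29_3 lc_h_rc_29_3 lc_h_rc_22_1 lc_h_rc_35_1 lc_h_rc_42_1 lc_h_rc_22_1 lc_h_rc_35_1 lc_h_rc_14_1 lc_h_rc_22_1 lc_h_rc_29_3 lc_h_rc_22_1 lc_h_rc_35_1 lc_h_rc_42_1 lc_h_rc_5_3 lc_h_rc_22_1 lc_h_rc_35_1 lc_h_rc_14_1 lc_h_rc_41_2 lc_h_rc_22_1 lc_h_rc_35_1 lc_h_rc_14_1 lc_h_rc_22_1 lc_h_rc_42_1 lc_h_rc_14_1 lc_h_rc_22_1 lc_h_rc_5_1 lc_h_rc_47_1 lc_h_rc_22_1 lc_h_rc_41_2 lc_h_rc_22_1 lc_h_Cert_tree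 lc_h_rc_51_1 lc_h_rc_22_1 lc_h_rc_51_3 lc_h_rc_51_3 lc_h_rc_22_1 lc_h_rc_42_1 lc_h_rc_47_1 lc_h_rc_35_3 lc_h_rc_47_1 lc_h_rc_14_1 lc_h_rc_22_1 lc_h_rc_5_1) (@D3.rec (fun _ => (Cert rels S Gen.h)) lc_h_rc_41_2 lc_h_rc_22_1 lc_h_rc_35_1 lc_h_rc_14_1 lc_h_rc_22_1 lc_h_rc_29_3 lc_h_rc_22_1 lc_h_rc_35_1 lc_h_rc_22_1 lc_h_rc_41_2 lc_h_rc_14_1 lc_h_rc_22_1 lc_h_rc_42_1 lc_h_rc_14_1 lc_h_rc_22_1 lc_h_rc_42_1 lc_h_rc_5_1 lc_h_rc_14_1 lc_h_rc_22_1 lc_h_rc_47_1 lc_h_rc_5_1 lc_h_rc_14_1 lc_h_Cert_tree lc_h_rc_35_1 lc_h_rc_42_1 lc_h_rc_47_1 lc_h_rc_22_1 lc_h_rc_42_1 lc_h_rc_5_3 lc_h_Cert_tree lc_h_rc_40_0 lc_h_rc_40_0 lc_h_rc_41_2 lc_h_rc_41_2 lc_h_rc_41_2 lc_h_rc_22_1 lc_h_rc_47_1 lc_h_rc_41_2 lc_h_rc_47_1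 lc_h_rc_41_2 lc_h_rc_41_2 lc_h_rc_41_2 lc_h_rc_14_1 lc_h_rc_22_1 lc_h_rc_35_1 lc_h_rc_14_1 lc_h_rc_22_1 lc_h_rc_5_3 lc_h_rc_22_1 lc_h_rc_5_1 lc_h_rc_22_1) (@D3.rec (fun _ => (Cert rels S Gen.h)) lc_h_rc_35_1 lc_h_rc_14_1 lc_h_rc_51_1 lc_h_rc_22_1 lc_h_rc_35_1 lc_h_rc_14_1 lc_h_rc_22_1 lc_h_rc_14_1 lc_h_rc_22_1 lc_h_rc_5_1 lc_h_rc_22_1 lc_h_rc_47_1 lc_h_rc_56_27 lc_h_rc_14_1 lc_h_rc_41_0 lc_h_rc_41_0 lc_h_rc_35_3 lc_h_rc_42_1 lc_h_rc_14_1 lc_h_rc_22_1 lc_h_rc_14_1 lc_h_rc_5_3 lc_h_rc_29_3 lc_h_rc_14_1 lc_h_rc_29_3 lc_h_rc_29_3 lc_h_rc_22_1 lc_h_rc_35_1 lc_h_rc_42_1 lc_h_rc_29_3 lc_h_rc_22_1 lc_h_rc_35_1 lc_h_rc_14_1 lc_h_rc_29_3 lc_h_rc_5_1 lc_h_rc_22_1 lc_h_rc_35_1 lc_h_rc_22_1 lc_h_rc_14_1 lc_h_rc_22_1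 lc_h_rc_35_1 lc_h_rc_22_1 lc_h_rc_41_2 lc_h_rc_14_1 lc_h_rc_22_1 lc_h_rc_42_1 lc_h_rc_47_1 lc_h_rc_14_1 lc_h_rc_22_1 lc_h_rc_5_1 lc_h_rc_51_1) (@D3.rec (fun _ => (Cert rels S Gen.h)) lc_h_rc_22_1 lc_h_rc_35_1 lc_h_rc_51_1 lc_h_rc_22_1 lc_h_rc_51_3 lc_h_rc_22_1 lc_h_rc_35_1 lc_h_rc_14_1 lc_h_rc_22_1 lc_h_rc_47_3 lc_h_rc_22_1 lc_h_rc_35_1 lc_h_rc_14_1 lc_h_rc_22_1 lc_h_rc_5_1 lc_h_rc_22_1 lc_h_rc_35_1 lc_h_rc_14_1 lc_h_rc_22_1 lc_h_rc_22_1 lc_h_rc_22_1 lc_h_rc_41_2 lc_h_rc_14_1 lc_h_rc_22_1 lc_h_rc_42_1 lc_h_rc_14_1 lc_h_rc_5_1 lc_h_rc_14_1 lc_h_rc_22_1 lc_h_rc_22_1 lc_h_rc_35_1 lc_h_rc_47_1 lc_h_rc_35_1 lc_h_rc_5_1 lc_h_rc_14_1 lc_h_Cert_tree lc_h_rc_42_1 lc_h_Cert_tree lc_h_rc_40_0 lc_h_rc_5_1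 lc_h_rc_22_1 lc_h_rc_5_1 lc_h_rc_14_1 lc_h_rc_22_1 lc_h_rc_47_1 lc_h_rc_22_1 lc_h_rc_51_3 lc_h_rc_55_52 lc_h_rc_22_1 lc_h_rc_42_1 lc_h_rc_41_0) (@D3.rec (fun _ => (Cert rels S Gen.h)) lc_h_rc_41_0 lc_h_rc_22_1 lc_h_rc_47_1 lc_h_rc_22_1 lc_h_rc_47_1 lc_h_rc_47_1 lc_h_rc_22_1 lc_h_rc_42_1 lc_h_rc_42_1 lc_h_rc_42_3 lc_h_rc_22_1 lc_h_rc_22_1 lc_h_rc_14_1 lc_h_rc_22_1 lc_h_rc_22_1 lc_h_rc_41_2 lc_h_rc_14_1 lc_h_rc_22_1 lc_h_rc_5_3 lc_h_rc_5_1 lc_h_rc_14_1 lc_h_rc_22_1 lc_h_rc_14_1 lc_h_rc_22_1 lc_h_rc_5_1 lc_h_rc_14_1 lc_h_rc_22_1 lc_h_rc_47_1 lc_h_rc_22_1 lc_h_rc_5_3 lc_h_rc_51_1 lc_h_rc_5_1 lc_h_rc_14_1 lc_h_rc_22_1 lc_h_rc_14_1 lc_h_rc_22_1 lc_h_rc_5_1 lc_h_rc_14_1 lc_h_rc_5_1 lc_h_Cert_tree lc_h_rc_40_0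 lc_h_rc_14_1 lc_h_rc_22_1 lc_h_rc_41_2 lc_h_rc_22_1 lc_h_rc_14_1 lc_h_rc_41_2 lc_h_rc_22_1 lc_h_rc_47_3 lc_h_rc_41_2 lc_h_rc_41_2) (@D3.rec (fun _ => (Cert rels S Gen.h)) lc_h_rc_5_3 lc_h_rc_22_1 lc_h_rc_14_1 lc_h_rc_51_1 lc_h_rc_22_1 lc_h_rc_14_1 lc_h_rc_22_1 lc_h_rc_5_1 lc_h_rc_29_3 lc_h_rc_41_2 lc_h_rc_22_1 lc_h_rc_35_1 lc_h_rc_42_1 lc_h_rc_22_1 lc_h_rc_35_1 lc_h_rc_14_1 lc_h_rc_41_4 lc_h_rc_22_1 lc_h_rc_14_3 lc_h_rc_22_1 lc_h_rc_35_1 lc_h_rc_14_1 lc_h_rc_22_1 lc_h_rc_42_1 lc_h_rc_41_2 lc_h_rc_41_2 lc_h_rc_14_1 lc_h_rc_22_1 lc_h_rc_5_1 lc_h_rc_14_1 lc_h_rc_14_1 lc_h_rc_5_1 lc_h_rc_14_1 lc_h_rc_22_1 lc_h_rc_14_1 lc_h_rc_22_1 lc_h_rc_5_1 lc_h_rc_14_1 lc_h_rc_22_1 lc_h_rc_14_1 lc_h_rc_22_1 lc_h_rc_5_1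 lc_h_rc_14_1 lc_h_rc_22_1 lc_h_rc_47_1 lc_h_rc_14_1 lc_h_rc_29_3 lc_h_rc_22_1 lc_h_rc_22_1 lc_h_rc_35_1 lc_h_rc_14_1) (@D3.rec (fun _ => (Cert rels S Gen.h)) lc_h_rc_22_1 lc_h_rc_5_1 lc_h_rc_22_1 lc_h_rc_29_3 lc_h_rc_29_3 lc_h_rc_22_1 lc_h_rc_35_1 lc_h_rc_42_1 lc_h_rc_22_1 lc_h_rc_35_1 lc_h_rc_14_1 lc_h_rc_41_4 lc_h_rc_14_1 lc_h_rc_22_1 lc_h_rc_5_3 lc_h_rc_22_1 lc_h_rc_35_1 lc_h_rc_35_3 lc_h_rc_14_1 lc_h_rc_22_1 lc_h_rc_42_1 lc_h_rc_14_1 lc_h_rc_22_1 lc_h_rc_5_1 lc_h_Cert_tree lc_h_rc_14_1 lc_h_rc_51_1 lc_h_rc_22_1 lc_h_rc_14_1 lc_h_rc_5_1 lc_h_rc_14_1 lc_h_rc_22_1 lc_h_rc_42_1 lc_h_rc_47_1 lc_h_rc_14_1 lc_h_rc_22_1 lc_h_rc_35_1 lc_h_rc_47_1 lc_h_rc_47_1 lc_h_rc_22_1 lc_h_rc_5_1 lc_h_rc_14_1 lc_h_Cert_tree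 lc_h_Cert_tree lc_h_rc_40_0 lc_h_rc_41_2 lc_h_rc_29_3 lc_h_rc_29_3 lc_h_rc_22_1 lc_h_rc_22_1 lc_h_rc_35_1) (@D3.rec (fun _ => (Cert rels S Gen.h)) lc_h_rc_14_1 lc_h_rc_29_3 lc_h_rc_35_1 lc_h_rc_22_1 lc_h_rc_14_1 lc_h_rc_41_2 lc_h_rc_22_1 lc_h_rc_35_1 lc_h_rc_22_1 lc_h_rc_35_1 lc_h_rc_14_1 lc_h_rc_22_1 lc_h_rc_42_1 lc_h_rc_47_1 lc_h_rc_14_1 lc_h_rc_22_1 lc_h_rc_5_1 lc_h_rc_51_1 lc_h_rc_41_2 lc_h_rc_22_1 lc_h_rc_35_1 lc_h_rc_14_1 lc_h_rc_22_1 lc_h_rc_14_1 lc_h_rc_22_1 lc_h_rc_5_1 lc_h_rc_22_1 lc_h_rc_35_1 lc_h_rc_14_1 lc_h_rc_22_1 lc_h_rc_42_1 lc_h_rc_22_1 lc_h_rc_41_2 lc_h_rc_14_1 lc_h_rc_22_1 lc_h_rc_42_1 lc_h_rc_47_1 lc_h_rc_22_1 lc_h_rc_5_1 lc_h_rc_14_1 lc_h_rc_22_1 lc_h_rc_14_1 lc_h_rc_41_4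 lc_h_rc_5_1 lc_h_rc_14_1 lc_h_Cert_tree lc_h_rc_40_0 lc_h_rc_14_1 lc_h_rc_35_1 lc_h_rc_5_1 lc_h_rc_29_3) (@D3.rec (fun _ => (Cert rels S Gen.h)) lc_h_rc_22_1 lc_h_rc_35_1 lc_h_rc_22_1 lc_h_rc_41_2 lc_h_rc_14_1 lc_h_rc_22_1 lc_h_rc_14_1 lc_h_rc_22_1 lc_h_rc_5_1 lc_h_rc_14_1 lc_h_rc_5_1 lc_h_rc_14_1 lc_h_rc_22_1 lc_h_rc_14_1 lc_h_rc_22_1 lc_h_rc_35_1 lc_h_rc_41_2 lc_h_rc_41_2 lc_h_rc_14_1 lc_h_rc_22_1 lc_h_rc_42_1 lc_h_rc_14_1 lc_h_rc_22_1 lc_h_rc_42_1 lc_h_rc_5_1 lc_h_rc_14_1 lc_h_rc_22_1 lc_h_rc_22_1 lc_h_rc_35_1 lc_h_rc_14_1 lc_h_rc_22_1 lc_h_rc_42_1 lc_h_rc_14_1 lc_h_rc_22_1 lc_h_rc_41_2 lc_h_rc_5_1 lc_h_rc_14_1 lc_h_rc_29_3 lc_h_rc_22_1 lc_h_rc_47_1 lc_h_rc_14_1 lc_h_rc_22_1 lc_h_rc_5_1 lc_h_rc_14_1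 lc_h_Cert_tree lc_h_rc_22_1 lc_h_rc_5_1 lc_h_rc_14_1 lc_h_rc_22_1 lc_h_rc_14_1 lc_h_rc_5_1) (@D3.rec (fun _ => (Cert rels S Gen.h)) lc_h_rc_14_1 lc_h_rc_5_1 lc_h_Cert_tree lc_h_rc_40_0 lc_h_rc_40_0 lc_h_rc_41_2 lc_h_rc_41_2 lc_h_rc_40_0 lc_h_rc_14_1 lc_h_rc_35_1 lc_h_rc_22_1 lc_h_rc_42_1 lc_h_rc_14_1 lc_h_rc_55_25 lc_h_rc_22_1 lc_h_rc_5_1 lc_h_rc_14_1 lc_h_rc_5_1 lc_h_rc_5_1 lc_h_rc_14_1 lc_h_rc_22_1 lc_h_rc_35_1 lc_h_rc_14_1 lc_h_rc_14_1 lc_h_rc_35_1 lc_h_rc_42_1 lc_h_rc_14_1 lc_h_rc_22_1 lc_h_rc_5_1 lc_h_rc_42_1 lc_h_rc_42_1 lc_h_rc_51_1 lc_h_rc_14_1 lc_h_rc_22_1 lc_h_rc_5_1 lc_h_rc_5_1 lc_h_rc_14_1 lc_h_rc_47_1 lc_h_rc_5_3 lc_h_rc_42_1 lc_h_rc_5_1 lc_h_rc_22_1 lc_h_rc_42_1 lc_h_rc_51_1 lc_h_rc_22_3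 lc_h_rc_5_1 lc_h_rc_22_3 lc_h_rc_14_1 lc_h_rc_22_1 lc_h_rc_5_1 lc_h_rc_14_1) (@D3.rec (fun _ => (Cert rels S Gen.h)) lc_h_rc_5_1 lc_h_Cert_tree lc_h_rc_40_0 lc_h_rc_41_2 lc_h_rc_51_1 lc_h_rc_47_1 lc_h_rc_5_3 lc_h_rc_51_3 lc_h_rc_42_3 lc_h_rc_5_1 lc_h_rc_14_1 lc_h_rc_22_1 lc_h_rc_5_1 lc_h_rc_14_1 lc_h_rc_22_1 lc_h_rc_35_1 lc_h_rc_14_1 lc_h_rc_22_1 lc_h_rc_35_1 lc_h_rc_5_3 lc_h_rc_22_1 lc_h_rc_42_1 lc_h_rc_47_1 lc_h_rc_14_1 lc_h_rc_22_1 lc_h_rc_5_1 lc_h_rc_29_3 lc_h_rc_35_1 lc_h_rc_51_1 lc_h_rc_29_3 lc_h_rc_35_1 lc_h_rc_14_1 lc_h_rc_22_1 lc_h_rc_5_1 lc_h_rc_5_1 lc_h_rc_14_1 lc_h_Cert_tree lc_h_rc_22_1 lc_h_rc_42_1 lc_h_Cert_tree lc_h_rc_40_0 lc_h_rc_22_1 lc_h_rc_51_1 lc_h_rc_14_1 lc_h_rc_5_3 lc_h_rc_22_1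 lc_h_rc_5_1 lc_h_rc_22_1 lc_h_rc_35_1 lc_h_rc_14_1 lc_h_rc_41_2) (@D3.rec (fun _ => (Cert rels S Gen.h)) lc_h_rc_35_1 lc_h_rc_14_1 lc_h_rc_22_1 lc_h_rc_5_1 lc_h_rc_14_1 lc_h_rc_22_1 lc_h_rc_5_1 lc_h_rc_5_1 lc_h_rc_51_1 lc_h_rc_29_3 lc_h_rc_22_1 lc_h_rc_14_1 lc_h_rc_5_1 lc_h_rc_22_1 lc_h_rc_35_1 lc_h_rc_14_1 lc_h_rc_22_1 lc_h_rc_42_3 lc_h_rc_5_1 lc_h_rc_5_1 lc_h_rc_14_1 lc_h_Cert_tree lc_h_rc_5_1 lc_h_Cert_tree lc_h_rc_40_0 lc_h_rc_35_1 lc_h_rc_41_4 lc_h_rc_42_3 lc_h_rc_40_0 lc_h_rc_42_1 lc_h_rc_14_1 lc_h_rc_41_0 lc_h_rc_29_3 lc_h_rc_35_1 lc_h_rc_47_1 lc_h_rc_22_1 lc_h_rc_35_1 lc_h_rc_14_1 lc_h_rc_22_1 lc_h_rc_5_1 lc_h_rc_56_34 lc_h_rc_35_1 lc_h_rc_5_1 lc_h_rc_5_1 lc_h_rc_22_1 lc_h_rc_29_1 lc_h_rc_35_1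 lc_h_rc_14_1 lc_h_rc_22_1 lc_h_rc_47_3 lc_h_rc_41_4) (@D3.rec (fun _ => (Cert rels S Gen.h)) lc_h_rc_47_1 lc_h_rc_51_1 lc_h_rc_22_1 lc_h_rc_35_1 lc_h_rc_22_1 lc_h_rc_14_1 lc_h_rc_41_2 lc_h_rc_35_1 lc_h_rc_14_1 lc_h_rc_22_1 lc_h_rc_35_1 lc_h_rc_5_1 lc_h_rc_42_3 lc_h_rc_22_1 lc_h_rc_5_3 lc_h_rc_14_1 lc_h_rc_22_1 lc_h_rc_5_1 lc_h_rc_14_1 lc_h_Cert_tree lc_h_rc_47_1 lc_h_rc_29_3 lc_h_rc_35_1 lc_h_rc_51_1 lc_h_rc_35_1 lc_h_rc_5_1 lc_h_rc_55_25 lc_h_rc_22_1 lc_h_rc_41_4 lc_h_rc_42_3 lc_h_rc_22_1 lc_h_rc_35_1 lc_h_rc_14_1 lc_h_rc_22_1 lc_h_rc_41_2 lc_h_rc_5_1 lc_h_rc_14_1 lc_h_Cert_tree lc_h_rc_14_1 lc_h_rc_5_1 lc_h_rc_22_1 lc_h_rc_14_1 lc_h_rc_14_1 lc_h_rc_5_1 lc_h_rc_47_1 lc_h_rc_5_1 lc_h_rc_42_1 lc_h_rc_51_1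 lc_h_rc_35_1 lc_h_rc_5_1 lc_h_rc_14_1) (@D3.rec (fun _ => (Cert rels S Gen.h)) lc_h_Cert_tree lc_h_rc_5_1 lc_h_Cert_tree lc_h_rc_40_0 lc_h_rc_22_1 lc_h_rc_14_1 lc_h_Cert_tree lc_h_rc_35_1 lc_h_rc_40_0 lc_h_Cert_tree lc_h_rc_40_0 lc_h_Cert_tree lc_h_rc_40_0 lc_h_rc_41_2 lc_h_rc_14_1 lc_h_rc_14_1 lc_h_rc_22_1 lc_h_rc_41_2 lc_h_rc_5_3 lc_h_rc_22_1 lc_h_rc_47_1 lc_h_rc_5_1 lc_h_rc_51_1 lc_h_rc_22_1 lc_h_rc_14_1 lc_h_rc_22_1 lc_h_rc_5_1 lc_h_rc_14_1 lc_h_Cert_tree lc_h_rc_51_1 lc_h_rc_51_3 lc_h_rc_22_1 lc_h_rc_51_3 lc_h_rc_22_1 lc_h_rc_35_1 lc_h_rc_22_1 lc_h_rc_14_1 lc_h_rc_22_1 lc_h_rc_42_3 lc_h_rc_5_1 lc_h_rc_41_2 lc_h_rc_35_1 lc_h_rc_14_1 lc_h_rc_22_1 lc_h_rc_41_2 lc_h_rc_5_1 lc_h_rc_14_1 lc_h_Cert_tree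 lc_h_rc_14_3 lc_h_rc_5_3 lc_h_rc_22_1) (@D3.rec (fun _ => (Cert rels S Gen.h)) lc_h_rc_14_3 lc_h_rc_55_25 lc_h_Cert_tree lc_h_rc_22_1 lc_h_rc_5_1 lc_h_Cert_tree lc_h_rc_40_0 lc_h_rc_47_1 lc_h_rc_22_1 lc_h_rc_14_1 lc_h_rc_22_1 lc_h_rc_5_1 lc_h_rc_14_1 lc_h_rc_5_1 lc_h_rc_14_1 lc_h_rc_47_1 lc_h_rc_22_1 lc_h_rc_35_1 lc_h_rc_22_1 lc_h_rc_35_1 lc_h_rc_14_1 lc_h_rc_22_1 lc_h_rc_42_1 lc_h_rc_14_1 lc_h_rc_22_1 lc_h_rc_5_1 lc_h_rc_14_1 lc_h_Cert_tree lc_h_rc_22_1 lc_h_rc_5_1 lc_h_rc_14_1 lc_h_rc_29_3 lc_h_rc_5_1 lc_h_rc_14_1 lc_h_rc_14_1 lc_h_rc_29_3 lc_h_rc_14_1 lc_h_rc_22_1 lc_h_rc_42_1 lc_h_rc_5_1 lc_h_rc_14_1 lc_h_rc_22_1 lc_h_rc_5_1 lc_h_Cert_tree lc_h_rc_14_1 lc_h_rc_40_0 lc_h_rc_5_1 lc_h_rc_5_1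 lc_h_rc_55_25 lc_h_rc_22_1 lc_h_rc_5_1)
def ce_h_20 : D2 → D3 → (Cert rels S Gen.h) := @D2.rec (fun _ => D3 → (Cert rels S Gen.h)) (@D3.rec (fun _ => (Cert rels S Gen.h)) lc_h_Cert_tree lc_h_rc_40_0 lc_h_Cert_tree lc_h_Cert_tree lc_h_rc_40_0 lc_h_rc_22_1 lc_h_rc_42_1 lc_h_Cert_tree lc_h_rc_42_1 lc_h_rc_40_0 lc_h_rc_47_1 lc_h_rc_5_1 lc_h_rc_41_0 lc_h_rc_40_0 lc_h_Cert_tree lc_h_Cert_tree lc_h_rc_40_0 lc_h_rc_41_2 lc_h_rc_41_2 lc_h_rc_41_2 lc_h_Cert_tree lc_h_rc_40_0 lc_h_rc_40_0 lc_h_rc_5_1 lc_h_rc_47_1 lc_h_rc_41_2 lc_h_rc_40_0 lc_h_rc_40_0 lc_h_rc_41_0 lc_h_rc_35_1 lc_h_rc_41_4 lc_h_rc_5_1 lc_h_rc_5_1 lc_h_rc_5_1 lc_h_rc_51_3 lc_h_rc_14_1 lc_h_rc_41_2 lc_h_rc_47_1 lc_h_rc_14_1 lc_h_rc_22_1 lc_h_rc_5_1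 lc_h_rc_14_1 lc_h_rc_41_4 lc_h_rc_5_1 lc_h_rc_14_1 lc_h_rc_5_1 lc_h_rc_14_1 lc_h_rc_35_1 lc_h_rc_5_1 lc_h_rc_14_1 lc_h_rc_51_1) (@D3.rec (fun _ => (Cert rels S Gen.h)) lc_h_rc_51_1 lc_h_rc_55_34 lc_h_rc_41_0 lc_h_rc_41_2 lc_h_rc_14_1 lc_h_rc_22_1 lc_h_rc_5_1 lc_h_rc_14_1 lc_h_rc_29_3 lc_h_rc_29_3 lc_h_rc_51_1 lc_h_rc_35_1 lc_h_rc_42_1 lc_h_rc_42_1 lc_h_rc_41_2 lc_h_rc_41_2 lc_h_rc_14_1 lc_h_rc_35_1 lc_h_rc_42_1 lc_h_rc_22_1 lc_h_rc_35_1 lc_h_rc_14_1 lc_h_rc_22_1 lc_h_rc_42_1 lc_h_rc_14_1 lc_h_rc_22_1 lc_h_rc_5_1 lc_h_rc_14_1 lc_h_rc_22_1 lc_h_rc_47_1 lc_h_rc_41_2 lc_h_rc_14_1 lc_h_rc_22_1 lc_h_rc_42_1 lc_h_rc_5_1 lc_h_rc_14_1 lc_h_rc_22_1 lc_h_rc_14_1 lc_h_rc_22_1 lc_h_rc_5_1 lc_h_rc_14_1 lc_h_rc_22_1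 lc_h_rc_5_1 lc_h_rc_14_1 lc_h_rc_5_1 lc_h_rc_14_1 lc_h_rc_47_1 lc_h_rc_29_3 lc_h_rc_14_1 lc_h_rc_22_1 lc_h_rc_47_3) (@D3.rec (fun _ => (Cert rels S Gen.h)) lc_h_rc_14_1 lc_h_rc_22_1 lc_h_rc_5_1 lc_h_rc_14_1 lc_h_rc_22_1 lc_h_rc_35_1 lc_h_rc_14_1 lc_h_rc_22_1 lc_h_rc_42_1 lc_h_rc_47_1 lc_h_rc_22_1 lc_h_rc_35_1 lc_h_rc_14_1 lc_h_rc_22_1 lc_h_rc_22_1 lc_h_rc_41_2 lc_h_rc_14_1 lc_h_rc_22_1 lc_h_rc_5_1 lc_h_rc_14_1 lc_h_rc_14_1 lc_h_rc_22_1 lc_h_rc_47_1 lc_h_rc_5_1 lc_h_rc_14_1 lc_h_rc_14_1 lc_h_rc_14_1 lc_h_rc_22_1 lc_h_rc_5_1 lc_h_rc_14_1 lc_h_rc_29_3 lc_h_rc_5_1 lc_h_rc_5_1 lc_h_rc_47_1 lc_h_rc_14_1 lc_h_rc_22_1 lc_h_rc_51_1 lc_h_rc_51_1 lc_h_rc_51_1 lc_h_rc_22_1 lc_h_rc_14_3 lc_h_rc_14_1 lc_h_Cert_tree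 lc_h_rc_55_61 lc_h_rc_35_1 lc_h_rc_51_3 lc_h_rc_5_3 lc_h_rc_41_2 lc_h_rc_41_2 lc_h_rc_14_1 lc_h_rc_22_1) (@D3.rec (fun _ => (Cert rels S Gen.h)) lc_h_rc_14_1 lc_h_rc_22_1 lc_h_rc_41_2 lc_h_rc_5_1 lc_h_rc_14_1 lc_h_rc_22_1 lc_h_rc_47_1 lc_h_rc_5_1 lc_h_rc_14_1 lc_h_rc_5_1 lc_h_rc_14_1 lc_h_rc_22_1 lc_h_rc_47_3 lc_h_rc_35_1 lc_h_rc_47_3 lc_h_rc_14_1 lc_h_rc_22_1 lc_h_rc_14_1 lc_h_rc_22_1 lc_h_rc_5_1 lc_h_rc_14_1 lc_h_rc_22_3 lc_h_rc_5_1 lc_h_rc_14_1 lc_h_rc_5_1 lc_h_rc_14_1 lc_h_rc_22_1 lc_h_rc_14_1 lc_h_rc_22_1 lc_h_rc_5_1 lc_h_rc_14_1 lc_h_rc_29_3 lc_h_rc_5_1 lc_h_rc_14_1 lc_h_rc_22_1 lc_h_rc_5_1 lc_h_rc_14_1 lc_h_rc_14_1 lc_h_rc_22_1 lc_h_rc_5_1 lc_h_rc_14_1 lc_h_rc_5_1 lc_h_rc_5_1 lc_h_rc_51_1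 lc_h_rc_41_2 lc_h_rc_41_2 lc_h_rc_5_1 lc_h_rc_5_1 lc_h_rc_14_1 lc_h_rc_42_1 lc_h_rc_22_1) (@D3.rec (fun _ => (Cert rels S Gen.h)) lc_h_rc_41_2 lc_h_rc_14_1 lc_h_rc_22_1 lc_h_rc_42_1 lc_h_rc_5_1 lc_h_rc_14_1 lc_h_rc_22_1 lc_h_rc_22_1 lc_h_rc_41_2 lc_h_rc_14_1 lc_h_rc_22_1 lc_h_rc_42_1 lc_h_rc_14_1 lc_h_rc_22_1 lc_h_rc_41_2 lc_h_rc_5_1 lc_h_rc_14_1 lc_h_rc_22_1 lc_h_rc_5_1 lc_h_rc_14_1 lc_h_rc_22_1 lc_h_rc_5_1 lc_h_rc_14_1 lc_h_rc_22_1 lc_h_rc_14_1 lc_h_rc_22_1 lc_h_rc_5_1 lc_h_rc_14_1 lc_h_rc_5_1 lc_h_rc_42_3 lc_h_rc_40_1 lc_h_rc_47_3 lc_h_rc_14_1 lc_h_rc_14_1 lc_h_rc_22_1 lc_h_rc_5_1 lc_h_rc_14_1 lc_h_rc_29_3 lc_h_rc_5_1 lc_h_rc_14_1 lc_h_rc_14_1 lc_h_rc_14_1 lc_h_rc_5_1 lc_h_rc_14_1 lc_h_rc_51_3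 lc_h_rc_5_3 lc_h_rc_51_3 lc_h_rc_14_3 lc_h_rc_14_1 lc_h_rc_5_1 lc_h_rc_14_1) (@D3.rec (fun _ => (Cert rels S Gen.h)) lc_h_rc_14_1 lc_h_rc_5_1 lc_h_rc_14_1 lc_h_rc_5_1 lc_h_rc_14_1 lc_h_rc_5_1 lc_h_rc_5_1 lc_h_rc_42_1 lc_h_rc_40_1 lc_h_rc_5_3 lc_h_rc_14_1 lc_h_rc_41_2 lc_h_rc_47_1 lc_h_rc_47_1 lc_h_rc_51_1 lc_h_rc_41_2 lc_h_rc_51_1 lc_h_rc_14_1 lc_h_rc_41_2 lc_h_rc_22_1 lc_h_rc_14_1 lc_h_rc_55_34 lc_h_rc_5_3 lc_h_rc_35_1 lc_h_rc_51_3 lc_h_rc_14_1 lc_h_rc_22_1 lc_h_rc_5_1 lc_h_rc_5_1 lc_h_rc_14_1 lc_h_rc_47_1 lc_h_rc_14_1 lc_h_rc_22_1 lc_h_rc_5_1 lc_h_rc_5_1 lc_h_rc_14_1 lc_h_rc_5_1 lc_h_rc_14_1 lc_h_rc_29_3 lc_h_rc_5_1 lc_h_rc_5_1 lc_h_rc_14_1 lc_h_rc_56_48 lc_h_rc_14_1 lc_h_rc_14_1 lc_h_rc_5_3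 lc_h_rc_56_41 lc_h_rc_56_41 lc_h_rc_5_1 lc_h_rc_5_1 lc_h_rc_41_2) (@D3.rec (fun _ => (Cert rels S Gen.h)) lc_h_rc_35_1 lc_h_rc_14_1 lc_h_rc_22_1 lc_h_rc_5_1 lc_h_rc_14_1 lc_h_rc_47_3 lc_h_rc_41_2 lc_h_rc_41_2 lc_h_rc_5_1 lc_h_rc_14_1 lc_h_rc_5_1 lc_h_rc_55_52 lc_h_rc_22_1 lc_h_rc_51_1 lc_h_rc_47_1 lc_h_rc_14_1 lc_h_rc_47_3 lc_h_rc_42_3 lc_h_rc_5_1 lc_h_rc_42_3 lc_h_rc_14_1 lc_h_rc_35_1 lc_h_rc_14_1 lc_h_rc_22_1 lc_h_rc_5_1 lc_h_rc_5_1 lc_h_rc_14_1 lc_h_Cert_tree lc_h_rc_22_1 lc_h_rc_41_2 lc_h_rc_14_1 lc_h_rc_22_1 lc_h_rc_42_1 lc_h_rc_14_1 lc_h_rc_22_1 lc_h_rc_5_1 lc_h_rc_14_1 lc_h_rc_29_3 lc_h_rc_5_1 lc_h_rc_51_1 lc_h_rc_29_3 lc_h_rc_5_1 lc_h_rc_14_1 lc_h_rc_5_1 lc_h_rc_51_1 lc_h_rc_5_1 lc_h_rc_14_1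 lc_h_rc_29_3 lc_h_rc_42_1 lc_h_rc_14_1 lc_h_rc_41_4) (@D3.rec (fun _ => (Cert rels S Gen.h)) lc_h_rc_5_1 lc_h_Cert_tree lc_h_rc_40_0 lc_h_rc_51_3 lc_h_rc_51_3 lc_h_rc_22_1 lc_h_rc_41_0 lc_h_rc_42_1 lc_h_rc_22_1 lc_h_rc_42_1 lc_h_rc_47_1 lc_h_rc_41_2 lc_h_rc_41_0 lc_h_rc_47_1 lc_h_rc_47_1 lc_h_rc_42_1 lc_h_Cert_tree lc_h_rc_40_0 lc_h_rc_14_1 lc_h_rc_22_1 lc_h_rc_42_1 lc_h_rc_5_1 lc_h_rc_14_1 lc_h_rc_5_1 lc_h_rc_14_1 lc_h_rc_5_1 lc_h_rc_14_1 lc_h_rc_51_1 lc_h_rc_5_1 lc_h_rc_51_1 lc_h_rc_5_3 lc_h_rc_41_4 lc_h_rc_41_4 lc_h_rc_14_1 lc_h_rc_5_1 lc_h_rc_56_27 lc_h_rc_47_1 lc_h_rc_5_1 lc_h_rc_14_1 lc_h_Cert_tree lc_h_rc_40_0 lc_h_rc_41_2 lc_h_rc_5_1 lc_h_rc_41_4 lc_h_rc_42_1 lc_h_rc_14_1 lc_h_rc_14_1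 lc_h_rc_5_1 lc_h_rc_14_1 lc_h_rc_5_1 lc_h_Cert_tree) (@D3.rec (fun _ => (Cert rels S Gen.h)) lc_h_rc_40_0 lc_h_rc_22_1 lc_h_rc_41_2 lc_h_rc_22_1 lc_h_rc_35_1 lc_h_rc_14_1 lc_h_rc_22_1 lc_h_rc_35_1 lc_h_rc_22_1 lc_h_rc_14_1 lc_h_rc_22_1 lc_h_rc_35_1 lc_h_rc_29_3 lc_h_rc_35_1 lc_h_rc_14_1 lc_h_rc_22_1 lc_h_rc_42_1 lc_h_rc_47_1 lc_h_rc_14_1 lc_h_rc_22_1 lc_h_rc_5_1 lc_h_rc_51_1 lc_h_rc_22_1 lc_h_rc_35_1 lc_h_rc_14_1 lc_h_rc_22_1 lc_h_rc_42_1 lc_h_rc_47_1 lc_h_rc_22_1 lc_h_rc_35_1 lc_h_rc_14_1 lc_h_rc_22_1 lc_h_rc_5_1 lc_h_rc_22_1 lc_h_rc_41_2 lc_h_rc_14_1 lc_h_rc_22_1 lc_h_rc_42_1 lc_h_rc_5_1 lc_h_rc_14_1 lc_h_rc_22_1 lc_h_rc_5_1 lc_h_rc_14_1 lc_h_Cert_tree lc_h_rc_22_1 lc_h_rc_42_1 lc_h_Cert_tree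 lc_h_rc_40_0 lc_h_rc_51_1 lc_h_rc_55_61 lc_h_rc_22_1) (@D3.rec (fun _ => (Cert rels S Gen.h)) lc_h_rc_51_3 lc_h_rc_51_3 lc_h_rc_51_3 lc_h_rc_22_1 lc_h_rc_41_0 lc_h_rc_51_3 lc_h_rc_22_1 lc_h_rc_47_1 lc_h_rc_5_1 lc_h_rc_29_5 lc_h_rc_14_3 lc_h_rc_22_1 lc_h_rc_41_2 lc_h_rc_14_1 lc_h_rc_22_1 lc_h_rc_5_1 lc_h_rc_14_1 lc_h_rc_22_1 lc_h_rc_35_1 lc_h_rc_14_1 lc_h_rc_22_1 lc_h_rc_42_1 lc_h_rc_14_1 lc_h_rc_22_1 lc_h_rc_41_2 lc_h_rc_5_1 lc_h_rc_14_1 lc_h_rc_22_1 lc_h_rc_47_1 lc_h_rc_5_1 lc_h_rc_14_1 lc_h_Cert_tree lc_h_rc_22_1 lc_h_rc_5_1 lc_h_rc_14_1 lc_h_rc_22_1 lc_h_rc_5_1 lc_h_Cert_tree lc_h_rc_40_0 lc_h_rc_35_1 lc_h_rc_47_1 lc_h_rc_5_3 lc_h_rc_40_0 lc_h_rc_41_2 lc_h_rc_14_1 lc_h_rc_51_1 lc_h_rc_47_1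 lc_h_rc_22_1 lc_h_rc_22_1 lc_h_rc_47_1 lc_h_rc_51_1) (@D3.rec (fun _ => (Cert rels S Gen.h)) lc_h_rc_51_3 lc_h_rc_42_3 lc_h_rc_14_3 lc_h_rc_14_1 lc_h_rc_22_1 lc_h_rc_5_1 lc_h_rc_14_1 lc_h_rc_14_3 lc_h_rc_14_1 lc_h_rc_14_1 lc_h_rc_22_1 lc_h_rc_5_1 lc_h_rc_51_1 lc_h_rc_14_1 lc_h_rc_22_1 lc_h_rc_5_1 lc_h_rc_14_1 lc_h_rc_5_1 lc_h_rc_14_1 lc_h_rc_14_1 lc_h_rc_22_1 lc_h_rc_14_1 lc_h_rc_41_0 lc_h_rc_14_1 lc_h_rc_22_1 lc_h_rc_22_3 lc_h_rc_14_1 lc_h_rc_51_1 lc_h_rc_41_2 lc_h_rc_35_1 lc_h_rc_14_1 lc_h_rc_22_1 lc_h_rc_35_1 lc_h_rc_29_3 lc_h_rc_35_1 lc_h_rc_14_1 lc_h_rc_22_1 lc_h_rc_42_1 lc_h_rc_47_1 lc_h_rc_22_1 lc_h_rc_35_1 lc_h_rc_14_1 lc_h_rc_22_1 lc_h_rc_5_1 lc_h_rc_22_1 lc_h_rc_35_1 lc_h_rc_14_1 lc_h_rc_22_1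 lc_h_rc_42_1 lc_h_Cert_tree lc_h_rc_14_1) (@D3.rec (fun _ => (Cert rels S Gen.h)) lc_h_rc_22_1 lc_h_rc_42_1 lc_h_rc_14_1 lc_h_rc_22_1 lc_h_rc_42_1 lc_h_rc_5_1 lc_h_rc_14_1 lc_h_rc_22_1 lc_h_rc_47_1 lc_h_rc_5_1 lc_h_rc_14_1 lc_h_Cert_tree lc_h_rc_22_1 lc_h_rc_35_1 lc_h_rc_51_1 lc_h_rc_35_1 lc_h_rc_51_1 lc_h_rc_55_52 lc_h_rc_22_1 lc_h_rc_14_1 lc_h_rc_22_1 lc_h_rc_5_1 lc_h_rc_14_1 lc_h_rc_22_1 lc_h_rc_14_1 lc_h_rc_22_1 lc_h_rc_42_1 lc_h_rc_5_1 lc_h_rc_14_1 lc_h_Cert_tree lc_h_rc_14_1 lc_h_rc_22_1 lc_h_rc_5_1 lc_h_rc_14_1 lc_h_rc_14_1 lc_h_rc_14_1 lc_h_rc_22_1 lc_h_rc_5_1 lc_h_rc_14_1 lc_h_rc_29_3 lc_h_rc_22_1 lc_h_rc_5_1 lc_h_rc_5_1 lc_h_rc_14_1 lc_h_rc_51_1 lc_h_rc_35_1 lc_h_rc_47_1 lc_h_rc_14_1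 lc_h_rc_5_1 lc_h_Cert_tree lc_h_rc_40_0) (@D3.rec (fun _ => (Cert rels S Gen.h)) lc_h_rc_40_0 lc_h_rc_41_2 lc_h_rc_22_1 lc_h_rc_14_1 lc_h_rc_14_1 lc_h_rc_22_1 lc_h_rc_35_1 lc_h_rc_5_1 lc_h_rc_14_1 lc_h_Cert_tree lc_h_rc_51_3 lc_h_rc_22_1 lc_h_rc_5_1 lc_h_rc_55_52 lc_h_rc_22_1 lc_h_rc_41_0 lc_h_rc_51_3 lc_h_rc_22_1 lc_h_rc_14_1 lc_h_rc_22_1 lc_h_rc_56_48 lc_h_rc_47_1 lc_h_rc_22_1 lc_h_rc_42_3 lc_h_rc_42_3 lc_h_rc_14_1 lc_h_rc_5_1 lc_h_rc_14_1 lc_h_rc_14_1 lc_h_rc_22_1 lc_h_rc_5_1 lc_h_rc_14_1 lc_h_rc_14_3 lc_h_rc_5_1 lc_h_rc_14_1 lc_h_rc_5_1 lc_h_rc_14_1 lc_h_rc_5_1 lc_h_rc_14_1 lc_h_rc_22_1 lc_h_rc_14_1 lc_h_rc_14_1 lc_h_rc_5_1 lc_h_rc_14_1 lc_h_rc_5_1 lc_h_rc_14_1 lc_h_rc_5_1 lc_h_Cert_tree lc_h_rc_5_3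 lc_h_rc_40_0 lc_h_rc_22_1) (@D3.rec (fun _ => (Cert rels S Gen.h)) lc_h_rc_22_1 lc_h_rc_14_1 lc_h_rc_5_1 lc_h_rc_5_3 lc_h_rc_14_1 lc_h_rc_22_1 lc_h_rc_14_1 lc_h_rc_41_2 lc_h_rc_47_1 lc_h_rc_14_1 lc_h_rc_5_1 lc_h_rc_42_1 lc_h_rc_55_34 lc_h_rc_5_1 lc_h_rc_14_1 lc_h_rc_22_1 lc_h_rc_35_1 lc_h_rc_41_2 lc_h_rc_41_2 lc_h_rc_14_1 lc_h_rc_22_1 lc_h_rc_42_1 lc_h_rc_14_1 lc_h_rc_22_1 lc_h_rc_5_1 lc_h_rc_41_4 lc_h_rc_14_1 lc_h_rc_22_1 lc_h_rc_14_1 lc_h_rc_22_1 lc_h_rc_42_1 lc_h_rc_5_1 lc_h_rc_14_1 lc_h_rc_22_1 lc_h_rc_14_1 lc_h_rc_41_2 lc_h_rc_5_1 lc_h_rc_14_1 lc_h_rc_22_1 lc_h_rc_5_1 lc_h_rc_14_1 lc_h_rc_14_1 lc_h_rc_5_1 lc_h_rc_14_1 lc_h_rc_5_1 lc_h_rc_55_25 lc_h_rc_5_1 lc_h_rc_14_1 lc_h_rc_5_1 lc_h_rc_55_61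 lc_h_rc_47_1) (@D3.rec (fun _ => (Cert rels S Gen.h)) lc_h_rc_5_1 lc_h_rc_22_1 lc_h_rc_14_1 lc_h_rc_14_1 lc_h_rc_22_1 lc_h_rc_5_1 lc_h_rc_14_1 lc_h_rc_14_1 lc_h_rc_22_1 lc_h_rc_35_1 lc_h_rc_41_2 lc_h_rc_35_1 lc_h_rc_14_1 lc_h_rc_22_1 lc_h_rc_42_1 lc_h_rc_47_1 lc_h_rc_14_1 lc_h_rc_22_1 lc_h_rc_5_1 lc_h_rc_55_34 lc_h_rc_5_1 lc_h_rc_14_1 lc_h_rc_22_1 lc_h_rc_14_1 lc_h_rc_22_1 lc_h_rc_42_1 lc_h_rc_14_1 lc_h_rc_5_1 lc_h_rc_14_1 lc_h_rc_22_1 lc_h_rc_5_1 lc_h_rc_14_1 lc_h_Cert_tree lc_h_rc_40_0 lc_h_rc_5_1 lc_h_rc_14_3 lc_h_rc_14_1 lc_h_rc_5_1 lc_h_rc_14_3 lc_h_rc_5_3 lc_h_rc_22_1 lc_h_rc_22_1 lc_h_rc_22_3 lc_h_rc_14_1 lc_h_Cert_tree lc_h_rc_35_1 lc_h_rc_47_1 lc_h_rc_5_3 lc_h_rc_5_1 lc_h_Cert_tree lc_h_rc_40_0)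 (@D3.rec (fun _ => (Cert rels S Gen.h)) lc_h_rc_40_0 lc_h_rc_41_2 lc_h_rc_22_1 lc_h_rc_41_2 lc_h_rc_35_1 lc_h_rc_14_1 lc_h_rc_14_1 lc_h_rc_22_1 lc_h_rc_5_1 lc_h_rc_14_1 lc_h_rc_35_1 lc_h_rc_42_1 lc_h_Cert_tree lc_h_rc_22_1 lc_h_rc_14_1 lc_h_rc_22_1 lc_h_rc_14_1 lc_h_rc_22_1 lc_h_rc_42_1 lc_h_rc_42_1 lc_h_rc_35_1 lc_h_rc_14_1 lc_h_rc_5_1 lc_h_rc_14_1 lc_h_rc_22_1 lc_h_rc_47_1 lc_h_rc_51_1 lc_h_rc_5_1 lc_h_rc_14_1 lc_h_Cert_tree lc_h_rc_51_1 lc_h_rc_22_1 lc_h_rc_41_2 lc_h_rc_14_1 lc_h_rc_22_1 lc_h_rc_5_1 lc_h_rc_14_1 lc_h_rc_5_1 lc_h_rc_14_1 lc_h_rc_14_1 lc_h_rc_22_1 lc_h_rc_42_1 lc_h_rc_5_1 lc_h_rc_14_1 lc_h_rc_22_1 lc_h_rc_14_1 lc_h_rc_22_1 lc_h_rc_41_2 lc_h_rc_5_1 lc_h_rc_14_1 lc_h_rc_29_3) (@D3.rec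 (fun _ => (Cert rels S Gen.h)) lc_h_rc_22_1 lc_h_rc_51_3 lc_h_rc_47_1 lc_h_rc_5_1 lc_h_rc_14_1 lc_h_rc_14_3 lc_h_rc_14_1 lc_h_rc_5_1 lc_h_Cert_tree lc_h_rc_40_0 lc_h_rc_41_2 lc_h_rc_5_1 lc_h_rc_14_1 lc_h_rc_29_3 lc_h_rc_35_1 lc_h_rc_14_1 lc_h_rc_22_1 lc_h_rc_14_1 lc_h_rc_22_1 lc_h_rc_5_1 lc_h_rc_14_1 lc_h_rc_5_1 lc_h_rc_14_1 lc_h_rc_5_1 lc_h_rc_5_1 lc_h_rc_14_1 lc_h_rc_5_1 lc_h_rc_14_1 lc_h_rc_22_1 lc_h_rc_42_1 lc_h_rc_14_1 lc_h_rc_41_2 lc_h_rc_41_2 lc_h_rc_5_1 lc_h_rc_14_1 lc_h_rc_22_1 lc_h_rc_5_1 lc_h_rc_14_1 lc_h_rc_22_1 lc_h_rc_5_1 lc_h_rc_14_1 lc_h_rc_47_1 lc_h_rc_35_1 lc_h_rc_41_2 lc_h_rc_5_1 lc_h_rc_14_1 lc_h_Cert_tree lc_h_rc_22_1 lc_h_rc_5_1 lc_h_rc_14_1 lc_h_rc_35_1) (@D3.rec (fun _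 => (Cert rels S Gen.h)) lc_h_rc_22_1 lc_h_rc_41_2 lc_h_rc_5_1 lc_h_rc_14_1 lc_h_rc_14_1 lc_h_rc_29_3 lc_h_rc_22_1 lc_h_rc_14_1 lc_h_rc_14_1 lc_h_rc_5_1 lc_h_Cert_tree lc_h_rc_14_1 lc_h_rc_40_0 lc_h_rc_5_1 lc_h_rc_14_1 lc_h_rc_5_1 lc_h_rc_5_1 lc_h_Cert_tree lc_h_rc_40_0 lc_h_rc_22_1 lc_h_rc_41_2 lc_h_rc_42_3 lc_h_rc_42_1 lc_h_rc_41_0 lc_h_rc_5_1 lc_h_rc_14_3 lc_h_rc_14_1 lc_h_rc_5_1 lc_h_rc_5_1 lc_h_rc_14_1 lc_h_rc_22_1 lc_h_rc_5_1 lc_h_rc_5_1 lc_h_rc_14_1 lc_h_rc_42_1 lc_h_rc_5_1 lc_h_rc_14_1 lc_h_rc_29_3 lc_h_rc_51_1 lc_h_rc_42_1 lc_h_rc_51_1 lc_h_rc_5_1 lc_h_rc_14_1 lc_h_rc_5_1 lc_h_rc_47_1 lc_h_rc_47_1 lc_h_rc_14_1 lc_h_rc_5_1 lc_h_rc_42_1 lc_h_rc_14_1 lc_h_rc_14_1) (@D3.rec (fun _ => (Cert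 rels S Gen.h)) lc_h_rc_5_1 lc_h_Cert_tree lc_h_rc_40_0 lc_h_rc_22_1 lc_h_rc_51_1 lc_h_rc_51_1 lc_h_rc_51_3 lc_h_rc_14_1 lc_h_rc_5_1 lc_h_rc_14_1 lc_h_rc_29_3 lc_h_rc_5_1 lc_h_rc_14_1 lc_h_rc_22_1 lc_h_rc_5_1 lc_h_rc_51_1 lc_h_rc_35_1 lc_h_rc_35_1 lc_h_rc_5_1 lc_h_rc_5_3 lc_h_rc_22_1 lc_h_rc_47_1 lc_h_rc_5_1 lc_h_rc_14_1 lc_h_Cert_tree lc_h_rc_5_3 lc_h_rc_35_1 lc_h_rc_51_1 lc_h_rc_51_1 lc_h_rc_35_1 lc_h_rc_41_2 lc_h_rc_5_1 lc_h_rc_14_1 lc_h_Cert_tree lc_h_rc_5_1 lc_h_Cert_tree lc_h_rc_40_0 lc_h_Cert_tree lc_h_rc_40_0 lc_h_rc_5_3 lc_h_rc_22_1 lc_h_rc_22_3 lc_h_rc_14_1 lc_h_rc_14_1 lc_h_rc_22_1 lc_h_rc_14_1 lc_h_rc_22_1 lc_h_rc_5_1 lc_h_rc_51_1 lc_h_rc_41_2 lc_h_rc_5_1) (@D3.rec (fun _ => (Cert rels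 S Gen.h)) lc_h_rc_14_1 lc_h_rc_35_1 lc_h_rc_5_1 lc_h_rc_55_61 lc_h_rc_29_3 lc_h_rc_22_1 lc_h_rc_42_1 lc_h_rc_55_25 lc_h_rc_14_1 lc_h_rc_5_1 lc_h_rc_14_1 lc_h_rc_22_1 lc_h_rc_5_1 lc_h_rc_14_1 lc_h_Cert_tree lc_h_rc_42_3 lc_h_rc_5_1 lc_h_Cert_tree lc_h_rc_40_0 lc_h_Cert_tree lc_h_rc_40_0 lc_h_rc_22_1 lc_h_rc_41_4 lc_h_rc_5_1 lc_h_rc_41_0 lc_h_rc_47_1 lc_h_rc_35_1 lc_h_rc_56_48 lc_h_rc_14_1 lc_h_rc_22_1 lc_h_rc_5_1 lc_h_rc_14_1 lc_h_Cert_tree lc_h_rc_40_0 lc_h_rc_40_0 lc_h_rc_42_1 lc_h_rc_5_3 lc_h_rc_5_1 lc_h_rc_47_1 lc_h_rc_14_1 lc_h_rc_42_1 lc_h_rc_29_1 lc_h_rc_47_1 lc_h_rc_5_1 lc_h_rc_55_25 lc_h_Cert_tree lc_h_rc_47_1 lc_h_rc_41_0 lc_h_rc_41_0 lc_h_rc_14_1 lc_h_rc_22_1) (@D3.rec (fun _ => (Cert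 rels S Gen.h)) lc_h_rc_14_1 lc_h_rc_5_1 lc_h_rc_5_3 lc_h_rc_41_2 lc_h_rc_42_1 lc_h_rc_5_1 lc_h_rc_14_1 lc_h_Cert_tree lc_h_rc_35_1 lc_h_rc_14_1 lc_h_rc_42_3 lc_h_rc_5_3 lc_h_rc_22_1 lc_h_rc_5_1 lc_h_rc_14_1 lc_h_Cert_tree lc_h_rc_5_1 lc_h_Cert_tree lc_h_rc_40_0 lc_h_rc_47_1 lc_h_rc_14_1 lc_h_rc_35_1 lc_h_rc_51_1 lc_h_rc_14_1 lc_h_Cert_tree lc_h_rc_5_1 lc_h_rc_47_1 lc_h_rc_41_4 lc_h_rc_51_1 lc_h_rc_35_1 lc_h_rc_5_1 lc_h_rc_14_1 lc_h_Cert_tree lc_h_rc_41_2 lc_h_rc_5_1 lc_h_Cert_tree lc_h_rc_40_0 lc_h_rc_5_1 lc_h_rc_14_1 lc_h_rc_5_1 lc_h_rc_5_1 lc_h_rc_5_1 lc_h_rc_42_1 lc_h_rc_51_1 lc_h_rc_14_1 lc_h_Cert_tree lc_h_rc_5_1 lc_h_Cert_tree lc_h_rc_40_0 lc_h_Cert_tree lc_h_Cert_tree) (@D3.rec (fun _ =>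 (Cert rels S Gen.h)) lc_h_rc_40_0 lc_h_rc_22_1 lc_h_rc_41_4 lc_h_rc_35_1 lc_h_rc_40_0 lc_h_rc_35_1 lc_h_rc_41_2 lc_h_rc_40_0 lc_h_rc_41_2 lc_h_rc_40_0 lc_h_rc_41_2 lc_h_rc_14_1 lc_h_rc_5_1 lc_h_rc_14_1 lc_h_rc_22_1 lc_h_rc_14_3 lc_h_rc_14_1 lc_h_rc_51_1 lc_h_rc_22_1 lc_h_rc_51_1 lc_h_rc_51_1 lc_h_rc_5_1 lc_h_rc_14_1 lc_h_rc_29_1 lc_h_rc_5_1 lc_h_Cert_tree lc_h_rc_40_0 lc_h_rc_51_1 lc_h_rc_51_3 lc_h_rc_56_41 lc_h_rc_14_1 lc_h_rc_22_1 lc_h_rc_35_1 lc_h_rc_5_1 lc_h_rc_14_1 lc_h_Cert_tree lc_h_rc_42_3 lc_h_rc_14_1 lc_h_rc_41_2 lc_h_rc_41_2 lc_h_rc_5_1 lc_h_rc_14_1 lc_h_Cert_tree lc_h_rc_41_2 lc_h_rc_5_1 lc_h_Cert_tree lc_h_rc_40_0 lc_h_rc_14_1 lc_h_rc_5_3 lc_h_rc_22_1 lc_h_rc_47_1) (@D3.rec (fun _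 => (Cert rels S Gen.h)) lc_h_Cert_tree lc_h_rc_5_3 lc_h_rc_40_0 lc_h_Cert_tree lc_h_Cert_tree lc_h_rc_40_0 lc_h_rc_41_2 lc_h_rc_14_1 lc_h_rc_5_1 lc_h_rc_14_1 lc_h_rc_47_1 lc_h_rc_5_1 lc_h_rc_5_1 lc_h_rc_14_1 lc_h_rc_22_1 lc_h_rc_42_1 lc_h_rc_14_1 lc_h_rc_22_1 lc_h_rc_41_2 lc_h_rc_5_1 lc_h_rc_14_1 lc_h_rc_29_3 lc_h_rc_22_1 lc_h_rc_5_1 lc_h_rc_51_1 lc_h_Cert_tree lc_h_rc_5_1 lc_h_Cert_tree lc_h_rc_14_1 lc_h_rc_29_3 lc_h_rc_40_0 lc_h_rc_5_1 lc_h_rc_5_3 lc_h_rc_5_1 lc_h_rc_5_1 lc_h_rc_14_1 lc_h_rc_35_1 lc_h_rc_5_1 lc_h_rc_14_1 lc_h_rc_22_1 lc_h_rc_5_1 lc_h_rc_14_1 lc_h_Cert_tree lc_h_rc_5_1 lc_h_rc_40_0 lc_h_rc_22_1 lc_h_rc_29_5 lc_h_rc_55_61 lc_h_Cert_tree lc_h_rc_40_0 lc_h_rc_22_1) (@D3.rec (fun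 _ => (Cert rels S Gen.h)) lc_h_Cert_tree lc_h_rc_40_0 lc_h_rc_40_0 lc_h_rc_14_1 lc_h_Cert_tree lc_h_rc_40_0 lc_h_rc_41_2 lc_h_rc_41_4 lc_h_rc_41_0 lc_h_rc_41_2 lc_h_Cert_tree lc_h_rc_40_0 lc_h_rc_40_0 lc_h_Cert_tree lc_h_rc_40_0 lc_h_rc_29_3 lc_h_rc_29_3 lc_h_rc_47_1 lc_h_rc_22_3 lc_h_rc_14_1 lc_h_rc_5_1 lc_h_rc_14_1 lc_h_rc_29_3 lc_h_rc_22_3 lc_h_rc_14_1 lc_h_rc_5_1 lc_h_rc_5_1 lc_h_rc_14_1 lc_h_rc_51_1 lc_h_rc_5_1 lc_h_rc_5_1 lc_h_rc_14_1 lc_h_rc_29_3 lc_h_rc_5_1 lc_h_rc_47_1 lc_h_rc_35_1 lc_h_rc_51_1 lc_h_rc_51_1 lc_h_rc_22_1 lc_h_rc_42_1 lc_h_rc_14_1 lc_h_Cert_tree lc_h_rc_47_3 lc_h_rc_40_1 lc_h_rc_42_1 lc_h_rc_14_1 lc_h_rc_22_1 lc_h_rc_5_1 lc_h_rc_14_1 lc_h_rc_22_1 lc_h_rc_47_1) (@D3.rec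 (fun _ => (Cert rels S Gen.h)) lc_h_rc_5_1 lc_h_rc_14_1 lc_h_rc_5_1 lc_h_rc_14_1 lc_h_rc_22_1 lc_h_rc_5_1 lc_h_rc_14_1 lc_h_rc_29_3 lc_h_rc_22_1 lc_h_rc_5_1 lc_h_rc_14_1 lc_h_rc_5_1 lc_h_rc_14_1 lc_h_rc_29_3 lc_h_rc_5_1 lc_h_rc_14_1 lc_h_rc_5_1 lc_h_rc_5_1 lc_h_rc_5_1 lc_h_rc_14_1 lc_h_rc_47_3 lc_h_rc_5_1 lc_h_rc_14_1 lc_h_rc_35_1 lc_h_rc_5_1 lc_h_rc_14_1 lc_h_rc_22_1 lc_h_rc_42_1 lc_h_rc_5_1 lc_h_rc_14_1 lc_h_rc_22_1 lc_h_rc_14_1 lc_h_rc_22_1 lc_h_rc_5_1 lc_h_rc_14_1 lc_h_rc_14_1 lc_h_rc_22_1 lc_h_rc_5_1 lc_h_rc_14_1 lc_h_rc_42_1 lc_h_rc_5_1 lc_h_rc_5_1 lc_h_rc_14_1 lc_h_rc_29_3 lc_h_rc_47_1 lc_h_rc_5_1 lc_h_rc_5_1 lc_h_rc_5_1 lc_h_rc_14_1 lc_h_rc_29_3 lc_h_rc_5_1) (@D3.rec (fun _ => (Cert rels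 S Gen.h)) lc_h_rc_14_1 lc_h_rc_5_1 lc_h_rc_14_1 lc_h_rc_41_4 lc_h_rc_22_1 lc_h_rc_51_1 lc_h_rc_14_1 lc_h_rc_22_3 lc_h_Cert_tree lc_h_rc_40_0 lc_h_rc_5_1 lc_h_rc_51_3 lc_h_rc_42_3 lc_h_rc_51_1 lc_h_rc_41_2 lc_h_rc_5_1 lc_h_rc_14_1 lc_h_rc_29_3 lc_h_rc_5_1 lc_h_rc_14_1 lc_h_rc_22_1 lc_h_rc_41_2 lc_h_rc_5_1 lc_h_rc_14_1 lc_h_rc_22_1 lc_h_rc_5_1 lc_h_rc_5_1 lc_h_rc_14_1 lc_h_rc_5_1 lc_h_rc_42_3 lc_h_rc_5_1 lc_h_rc_14_1 lc_h_rc_29_3 lc_h_rc_22_1 lc_h_rc_14_1 lc_h_rc_5_1 lc_h_rc_35_3 lc_h_rc_5_1 lc_h_rc_5_1 lc_h_rc_14_1 lc_h_rc_29_3 lc_h_rc_5_1 lc_h_rc_14_1 lc_h_rc_35_1 lc_h_rc_5_1 lc_h_rc_14_1 lc_h_rc_5_1 lc_h_rc_14_1 lc_h_rc_5_1 lc_h_rc_56_34 lc_h_rc_14_1) (@D3.rec (fun _ => (Cert rels S Gen.h)) lc_h_rc_5_1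 lc_h_rc_5_1 lc_h_rc_14_1 lc_h_rc_14_1 lc_h_rc_22_1 lc_h_rc_41_2 lc_h_rc_5_1 lc_h_rc_14_1 lc_h_rc_29_3 lc_h_rc_22_1 lc_h_rc_5_1 lc_h_rc_14_1 lc_h_rc_14_1 lc_h_rc_22_1 lc_h_rc_41_2 lc_h_rc_5_1 lc_h_rc_14_1 lc_h_rc_41_0 lc_h_rc_22_1 lc_h_rc_5_1 lc_h_rc_14_1 lc_h_rc_22_1 lc_h_rc_5_1 lc_h_rc_14_1 lc_h_rc_5_1 lc_h_rc_14_1 lc_h_rc_5_1 lc_h_rc_5_3 lc_h_rc_5_1 lc_h_rc_14_1 lc_h_rc_29_3 lc_h_rc_5_1 lc_h_rc_29_5 lc_h_rc_14_3 lc_h_rc_5_1 lc_h_rc_14_1 lc_h_rc_29_3 lc_h_rc_5_1 lc_h_rc_14_1 lc_h_rc_22_1 lc_h_rc_22_1 lc_h_rc_5_1 lc_h_rc_14_1 lc_h_rc_14_3 lc_h_rc_5_1 lc_h_rc_22_1 lc_h_rc_5_1 lc_h_rc_47_1 lc_h_rc_22_1 lc_h_rc_14_1 lc_h_rc_51_1)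
def ce_h_21 : D2 → D3 → (Cert rels S Gen.h) := @D2.rec (fun _ => D3 → (Cert rels S Gen.h)) (@D3.rec (fun _ => (Cert rels S Gen.h)) lc_h_rc_14_1 lc_h_rc_51_1 lc_h_rc_14_1 lc_h_rc_14_1 lc_h_rc_51_1 lc_h_rc_22_1 lc_h_rc_29_1 lc_h_rc_51_3 lc_h_rc_55_61 lc_h_rc_5_1 lc_h_rc_14_1 lc_h_rc_29_3 lc_h_rc_5_1 lc_h_rc_5_1 lc_h_rc_14_1 lc_h_rc_29_3 lc_h_rc_5_1 lc_h_rc_5_1 lc_h_rc_14_1 lc_h_rc_5_1 lc_h_rc_22_3 lc_h_rc_14_1 lc_h_rc_41_2 lc_h_rc_47_1 lc_h_rc_5_1 lc_h_rc_14_1 lc_h_rc_5_1 lc_h_rc_47_3 lc_h_rc_41_2 lc_h_rc_51_1 lc_h_rc_5_1 lc_h_rc_56_48 lc_h_rc_14_1 lc_h_rc_47_3 lc_h_rc_14_1 lc_h_rc_14_1 lc_h_rc_22_3 lc_h_rc_14_1 lc_h_rc_5_1 lc_h_rc_14_1 lc_h_Cert_tree lc_h_rc_5_1 lc_h_Cert_tree lc_h_rc_40_0 lc_h_rc_14_1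 lc_h_rc_22_1 lc_h_rc_42_1 lc_h_rc_5_1 lc_h_rc_14_1 lc_h_rc_29_3 lc_h_rc_5_1) (@D3.rec (fun _ => (Cert rels S Gen.h)) lc_h_rc_14_1 lc_h_rc_41_4 lc_h_rc_5_1 lc_h_rc_14_1 lc_h_rc_5_1 lc_h_rc_51_1 lc_h_rc_5_1 lc_h_rc_14_1 lc_h_rc_14_1 lc_h_rc_22_1 lc_h_rc_14_1 lc_h_Cert_tree lc_h_Cert_tree lc_h_rc_40_0 lc_h_rc_51_3 lc_h_rc_51_3 lc_h_rc_41_0 lc_h_rc_42_1 lc_h_rc_42_1 lc_h_rc_42_3 lc_h_Cert_tree lc_h_rc_40_0 lc_h_rc_41_2 lc_h_rc_5_1 lc_h_rc_14_1 lc_h_rc_5_1 lc_h_rc_5_1 lc_h_rc_51_1 lc_h_rc_42_1 lc_h_rc_14_1 lc_h_rc_5_1 lc_h_rc_22_1 lc_h_rc_5_1 lc_h_Cert_tree lc_h_rc_40_0 lc_h_rc_41_2 lc_h_rc_14_3 lc_h_rc_5_1 lc_h_rc_5_1 lc_h_Cert_tree lc_h_rc_51_3 lc_h_rc_40_0 lc_h_rc_22_1 lc_h_rc_14_1 lc_h_rc_22_1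 lc_h_rc_5_1 lc_h_rc_42_1 lc_h_rc_35_1 lc_h_rc_14_3 lc_h_rc_14_3 lc_h_rc_22_1) (@D3.rec (fun _ => (Cert rels S Gen.h)) lc_h_rc_14_1 lc_h_rc_14_1 lc_h_rc_22_1 lc_h_rc_42_1 lc_h_rc_14_1 lc_h_rc_35_1 lc_h_rc_42_1 lc_h_rc_5_1 lc_h_rc_14_1 lc_h_rc_22_1 lc_h_rc_47_1 lc_h_rc_5_1 lc_h_rc_14_1 lc_h_Cert_tree lc_h_rc_51_1 lc_h_rc_14_1 lc_h_rc_22_1 lc_h_rc_42_1 lc_h_rc_5_1 lc_h_rc_14_1 lc_h_rc_22_1 lc_h_rc_47_1 lc_h_rc_55_52 lc_h_rc_35_1 lc_h_rc_41_2 lc_h_rc_5_1 lc_h_rc_14_1 lc_h_Cert_tree lc_h_rc_14_1 lc_h_rc_22_1 lc_h_rc_41_2 lc_h_rc_5_1 lc_h_rc_14_1 lc_h_rc_29_3 lc_h_rc_22_1 lc_h_rc_5_1 lc_h_rc_14_1 lc_h_rc_5_1 lc_h_Cert_tree lc_h_rc_40_0 lc_h_Cert_tree lc_h_rc_40_0 lc_h_rc_41_2 lc_h_rc_22_3 lc_h_rc_14_1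 lc_h_rc_35_1 lc_h_rc_22_1 lc_h_rc_47_1 lc_h_rc_51_3 lc_h_rc_56_41 lc_h_rc_29_3) (@D3.rec (fun _ => (Cert rels S Gen.h)) lc_h_rc_47_1 lc_h_rc_47_1 lc_h_rc_22_1 lc_h_rc_22_1 lc_h_rc_40_0 lc_h_rc_40_0 lc_h_rc_14_1 lc_h_rc_22_1 lc_h_rc_5_1 lc_h_rc_14_1 lc_h_rc_5_1 lc_h_rc_14_1 lc_h_rc_22_1 lc_h_rc_42_1 lc_h_rc_5_1 lc_h_rc_14_1 lc_h_Cert_tree lc_h_rc_22_1 lc_h_rc_5_1 lc_h_rc_14_1 lc_h_rc_22_1 lc_h_rc_41_2 lc_h_rc_5_1 lc_h_rc_14_1 lc_h_rc_22_1 lc_h_rc_5_1 lc_h_Cert_tree lc_h_rc_14_1 lc_h_rc_40_0 lc_h_rc_5_1 lc_h_rc_14_1 lc_h_Cert_tree lc_h_rc_40_0 lc_h_rc_22_1 lc_h_rc_47_1 lc_h_rc_51_1 lc_h_rc_14_1 lc_h_rc_14_1 lc_h_rc_22_1 lc_h_rc_41_2 lc_h_rc_51_3 lc_h_rc_14_1 lc_h_rc_5_1 lc_h_rc_14_1 lc_h_rc_29_3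 lc_h_rc_5_1 lc_h_rc_51_1 lc_h_rc_5_1 lc_h_rc_14_1 lc_h_rc_29_3 lc_h_rc_5_1) (@D3.rec (fun _ => (Cert rels S Gen.h)) lc_h_rc_14_1 lc_h_rc_29_3 lc_h_rc_5_1 lc_h_rc_5_1 lc_h_rc_22_3 lc_h_rc_14_1 lc_h_Cert_tree lc_h_rc_14_1 lc_h_rc_14_1 lc_h_rc_14_1 lc_h_rc_14_1 lc_h_rc_41_2 lc_h_rc_42_1 lc_h_rc_14_1 lc_h_rc_22_1 lc_h_rc_42_1 lc_h_rc_5_3 lc_h_rc_35_1 lc_h_rc_42_1 lc_h_rc_5_1 lc_h_rc_14_1 lc_h_rc_22_1 lc_h_rc_47_1 lc_h_rc_14_1 lc_h_rc_22_1 lc_h_rc_42_1 lc_h_rc_5_1 lc_h_rc_14_1 lc_h_Cert_tree lc_h_rc_14_1 lc_h_rc_22_1 lc_h_rc_5_1 lc_h_rc_14_1 lc_h_Cert_tree lc_h_rc_22_1 lc_h_rc_40_0 lc_h_rc_5_1 lc_h_rc_14_1 lc_h_rc_29_3 lc_h_rc_22_1 lc_h_rc_5_1 lc_h_rc_14_1 lc_h_Cert_tree lc_h_rc_22_1 lc_h_rc_5_1 lc_h_rc_14_1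 lc_h_rc_22_1 lc_h_rc_5_1 lc_h_Cert_tree lc_h_rc_40_0 lc_h_rc_51_1) (@D3.rec (fun _ => (Cert rels S Gen.h)) lc_h_rc_35_1 lc_h_rc_41_2 lc_h_rc_51_1 lc_h_rc_14_1 lc_h_Cert_tree lc_h_rc_5_1 lc_h_rc_14_1 lc_h_rc_5_1 lc_h_rc_14_1 lc_h_rc_29_3 lc_h_rc_5_1 lc_h_rc_51_3 lc_h_rc_5_1 lc_h_rc_14_1 lc_h_rc_22_1 lc_h_rc_5_1 lc_h_Cert_tree lc_h_rc_40_0 lc_h_rc_5_1 lc_h_rc_14_1 lc_h_rc_29_3 lc_h_rc_5_1 lc_h_rc_5_1 lc_h_rc_5_1 lc_h_rc_14_1 lc_h_rc_42_3 lc_h_rc_5_1 lc_h_rc_14_1 lc_h_rc_14_1 lc_h_rc_29_3 lc_h_rc_5_1 lc_h_rc_51_1 lc_h_rc_14_1 lc_h_rc_14_3 lc_h_Cert_tree lc_h_rc_40_0 lc_h_rc_22_1 lc_h_rc_14_1 lc_h_rc_22_1 lc_h_rc_14_1 lc_h_rc_14_1 lc_h_Cert_tree lc_h_rc_35_1 lc_h_rc_22_3 lc_h_Cert_tree lc_h_rc_40_0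 lc_h_rc_51_3 lc_h_rc_14_1 lc_h_rc_51_3 lc_h_rc_55_61 lc_h_rc_42_1) (@D3.rec (fun _ => (Cert rels S Gen.h)) lc_h_rc_47_1 lc_h_rc_51_1 lc_h_rc_14_1 lc_h_rc_47_1 lc_h_rc_14_1 lc_h_rc_42_3 lc_h_rc_42_3 lc_h_rc_5_1 lc_h_rc_5_1 lc_h_rc_56_41 lc_h_rc_14_1 lc_h_rc_5_1 lc_h_rc_14_1 lc_h_rc_5_1 lc_h_rc_5_1 lc_h_rc_14_1 lc_h_rc_22_1 lc_h_rc_5_1 lc_h_rc_22_1 lc_h_rc_47_1 lc_h_rc_40_0 lc_h_rc_14_1 lc_h_rc_5_1 lc_h_rc_51_1 lc_h_rc_14_3 lc_h_rc_14_1 lc_h_rc_14_3 lc_h_rc_14_1 lc_h_rc_5_1 lc_h_rc_42_1 lc_h_rc_5_1 lc_h_rc_14_1 lc_h_rc_22_1 lc_h_rc_42_1 lc_h_rc_14_1 lc_h_rc_41_2 lc_h_rc_41_2 lc_h_rc_5_1 lc_h_rc_14_1 lc_h_rc_22_1 lc_h_rc_5_1 lc_h_rc_14_1 lc_h_rc_29_3 lc_h_rc_56_48 lc_h_rc_14_1 lc_h_rc_5_1 lc_h_rc_14_1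 lc_h_rc_29_3 lc_h_rc_22_1 lc_h_rc_5_1 lc_h_rc_14_1) (@D3.rec (fun _ => (Cert rels S Gen.h)) lc_h_rc_22_3 lc_h_rc_14_1 lc_h_rc_5_1 lc_h_rc_14_1 lc_h_rc_22_3 lc_h_rc_5_1 lc_h_rc_42_1 lc_h_rc_5_1 lc_h_rc_14_3 lc_h_rc_14_1 lc_h_rc_5_1 lc_h_rc_5_1 lc_h_rc_14_1 lc_h_rc_5_1 lc_h_rc_5_1 lc_h_rc_14_1 lc_h_rc_22_1 lc_h_rc_42_1 lc_h_rc_14_1 lc_h_rc_41_2 lc_h_rc_41_2 lc_h_rc_5_1 lc_h_rc_14_1 lc_h_rc_22_1 lc_h_rc_47_1 lc_h_rc_5_1 lc_h_rc_14_1 lc_h_Cert_tree lc_h_rc_22_1 lc_h_rc_40_1 lc_h_rc_14_1 lc_h_rc_5_1 lc_h_rc_14_1 lc_h_rc_29_3 lc_h_rc_22_1 lc_h_rc_47_1 lc_h_rc_5_1 lc_h_rc_14_1 lc_h_rc_5_1 lc_h_Cert_tree lc_h_rc_40_0 lc_h_rc_41_2 lc_h_rc_5_1 lc_h_rc_47_1 lc_h_rc_14_1 lc_h_rc_5_3 lc_h_rc_14_3 lc_h_Cert_tree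 lc_h_rc_14_1 lc_h_rc_40_0 lc_h_rc_14_3) (@D3.rec (fun _ => (Cert rels S Gen.h)) lc_h_Cert_tree lc_h_rc_40_0 lc_h_rc_22_1 lc_h_rc_41_2 lc_h_rc_14_1 lc_h_rc_51_1 lc_h_rc_41_2 lc_h_rc_5_1 lc_h_rc_5_1 lc_h_rc_14_1 lc_h_rc_51_3 lc_h_rc_5_1 lc_h_rc_14_1 lc_h_Cert_tree lc_h_rc_42_1 lc_h_rc_47_1 lc_h_rc_42_3 lc_h_rc_40_0 lc_h_rc_14_1 lc_h_rc_5_1 lc_h_rc_14_1 lc_h_rc_29_3 lc_h_rc_22_1 lc_h_rc_47_1 lc_h_rc_5_1 lc_h_rc_42_3 lc_h_Cert_tree lc_h_rc_22_1 lc_h_rc_14_1 lc_h_rc_5_1 lc_h_rc_14_1 lc_h_rc_22_1 lc_h_rc_51_1 lc_h_rc_5_1 lc_h_Cert_tree lc_h_rc_40_0 lc_h_rc_14_1 lc_h_rc_22_1 lc_h_rc_5_1 lc_h_rc_14_1 lc_h_rc_51_1 lc_h_rc_5_1 lc_h_rc_5_1 lc_h_rc_5_1 lc_h_rc_14_1 lc_h_rc_29_3 lc_h_rc_22_1 lc_h_rc_5_1 lc_h_rc_14_1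 lc_h_rc_5_1 lc_h_rc_14_1) (@D3.rec (fun _ => (Cert rels S Gen.h)) lc_h_rc_41_4 lc_h_rc_22_1 lc_h_rc_5_1 lc_h_rc_14_1 lc_h_rc_14_1 lc_h_rc_29_3 lc_h_rc_47_1 lc_h_rc_5_1 lc_h_rc_22_1 lc_h_Cert_tree lc_h_rc_40_0 lc_h_rc_22_1 lc_h_rc_5_1 lc_h_rc_14_1 lc_h_rc_35_1 lc_h_rc_5_1 lc_h_rc_14_1 lc_h_rc_42_1 lc_h_rc_5_1 lc_h_rc_14_1 lc_h_rc_5_1 lc_h_rc_5_1 lc_h_rc_5_1 lc_h_rc_5_1 lc_h_rc_14_1 lc_h_rc_29_3 lc_h_rc_22_1 lc_h_rc_5_1 lc_h_rc_14_1 lc_h_rc_41_2 lc_h_rc_5_1 lc_h_rc_14_1 lc_h_rc_5_1 lc_h_rc_14_1 lc_h_rc_5_1 lc_h_rc_5_1 lc_h_rc_14_1 lc_h_Cert_tree lc_h_rc_41_2 lc_h_rc_5_1 lc_h_Cert_tree lc_h_rc_14_1 lc_h_rc_29_3 lc_h_rc_40_0 lc_h_rc_5_1 lc_h_rc_5_3 lc_h_rc_14_1 lc_h_rc_41_4 lc_h_rc_41_2 lc_h_rc_5_1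 lc_h_rc_5_1) (@D3.rec (fun _ => (Cert rels S Gen.h)) lc_h_rc_42_1 lc_h_rc_14_1 lc_h_rc_35_1 lc_h_rc_29_3 lc_h_rc_22_3 lc_h_Cert_tree lc_h_rc_5_1 lc_h_rc_40_0 lc_h_rc_41_2 lc_h_rc_5_1 lc_h_rc_40_0 lc_h_rc_14_1 lc_h_rc_41_0 lc_h_rc_14_3 lc_h_rc_5_1 lc_h_rc_14_1 lc_h_rc_29_3 lc_h_rc_5_1 lc_h_rc_14_1 lc_h_rc_5_1 lc_h_rc_14_1 lc_h_rc_51_1 lc_h_rc_14_1 lc_h_rc_51_1 lc_h_rc_5_1 lc_h_rc_22_1 lc_h_rc_14_1 lc_h_rc_14_1 lc_h_rc_40_0 lc_h_rc_14_1 lc_h_rc_22_3 lc_h_rc_5_1 lc_h_rc_14_1 lc_h_rc_5_1 lc_h_rc_14_1 lc_h_Cert_tree lc_h_rc_51_1 lc_h_rc_5_3 lc_h_Cert_tree lc_h_rc_35_1 lc_h_rc_35_1 lc_h_rc_42_3 lc_h_rc_5_3 lc_h_rc_22_1 lc_h_rc_5_1 lc_h_Cert_tree lc_h_rc_40_0 lc_h_rc_51_1 lc_h_rc_14_1 lc_h_rc_47_1 lc_h_rc_22_3)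 (@D3.rec (fun _ => (Cert rels S Gen.h)) lc_h_rc_55_52 lc_h_Cert_tree lc_h_rc_41_2 lc_h_rc_5_1 lc_h_Cert_tree lc_h_rc_40_0 lc_h_Cert_tree lc_h_rc_40_0 lc_h_rc_40_0 lc_h_rc_14_1 lc_h_rc_14_1 lc_h_rc_51_1 lc_h_rc_14_1 lc_h_rc_14_1 lc_h_rc_5_1 lc_h_rc_14_1 lc_h_rc_35_1 lc_h_rc_51_1 lc_h_rc_51_1 lc_h_rc_35_1 lc_h_rc_5_1 lc_h_rc_41_4 lc_h_rc_47_1 lc_h_rc_47_1 lc_h_rc_5_3 lc_h_rc_42_1 lc_h_rc_5_1 lc_h_rc_5_1 lc_h_rc_14_1 lc_h_Cert_tree lc_h_rc_5_1 lc_h_Cert_tree lc_h_rc_40_0 lc_h_Cert_tree lc_h_rc_40_0 lc_h_rc_40_0 lc_h_rc_14_1 lc_h_rc_5_1 lc_h_rc_47_1 lc_h_rc_42_1 lc_h_rc_42_1 lc_h_rc_5_1 lc_h_rc_14_1 lc_h_Cert_tree lc_h_rc_5_1 lc_h_Cert_tree lc_h_rc_40_0 lc_h_rc_47_3 lc_h_rc_35_1 lc_h_Cert_tree lc_h_rc_42_1)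 (@D3.rec (fun _ => (Cert rels S Gen.h)) lc_h_rc_5_1 lc_h_rc_41_2 lc_h_rc_5_1 lc_h_rc_51_1 lc_h_rc_51_1 lc_h_rc_41_2 lc_h_rc_47_1 lc_h_rc_42_3 lc_h_Cert_tree lc_h_rc_47_1 lc_h_rc_41_0 lc_h_rc_40_0 lc_h_rc_41_2 lc_h_rc_5_1 lc_h_rc_14_1 lc_h_rc_5_1 lc_h_rc_14_1 lc_h_rc_14_1 lc_h_Cert_tree lc_h_rc_42_1 lc_h_rc_42_1 lc_h_rc_5_1 lc_h_Cert_tree lc_h_rc_40_1 lc_h_rc_41_0 lc_h_rc_40_0 lc_h_rc_22_1 lc_h_rc_40_1 lc_h_rc_47_1 lc_h_rc_5_1 lc_h_Cert_tree lc_h_rc_40_0 lc_h_Cert_tree lc_h_Cert_tree lc_h_rc_40_0 lc_h_rc_41_2 lc_h_rc_22_3 lc_h_rc_14_1 lc_h_rc_35_1 lc_h_rc_22_3 lc_h_Cert_tree lc_h_rc_40_0 lc_h_rc_47_1 lc_h_rc_51_1 lc_h_rc_14_1 lc_h_rc_41_4 lc_h_rc_5_1 lc_h_Cert_tree lc_h_rc_14_1 lc_h_rc_40_0 lc_h_Cert_tree)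 (@D3.rec (fun _ => (Cert rels S Gen.h)) lc_h_rc_55_43 lc_h_rc_40_0 lc_h_rc_41_2 lc_h_rc_5_1 lc_h_rc_14_3 lc_h_Cert_tree lc_h_rc_40_0 lc_h_Cert_tree lc_h_rc_40_0 lc_h_rc_22_1 lc_h_Cert_tree lc_h_rc_40_0 lc_h_rc_40_0 lc_h_rc_14_1 lc_h_rc_35_1 lc_h_rc_41_2 lc_h_rc_29_3 lc_h_rc_41_2 lc_h_rc_22_1 lc_h_rc_14_1 lc_h_rc_29_3 lc_h_rc_22_1 lc_h_rc_14_1 lc_h_rc_14_1 lc_h_rc_51_1 lc_h_rc_22_1 lc_h_rc_14_1 lc_h_Cert_tree lc_h_Cert_tree lc_h_rc_40_0 lc_h_rc_22_3 lc_h_rc_5_1 lc_h_rc_14_1 lc_h_rc_42_3 lc_h_rc_14_1 lc_h_rc_5_1 lc_h_Cert_tree lc_h_rc_40_0 lc_h_rc_14_1 lc_h_rc_14_1 lc_h_rc_41_2 lc_h_rc_5_1 lc_h_Cert_tree lc_h_rc_47_3 lc_h_Cert_tree lc_h_rc_40_0 lc_h_Cert_tree lc_h_rc_40_0 lc_h_rc_22_1 lc_h_rc_47_1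 lc_h_rc_5_3) (@D3.rec (fun _ => (Cert rels S Gen.h)) lc_h_Cert_tree lc_h_rc_47_3 lc_h_rc_14_1 lc_h_rc_40_0 lc_h_rc_41_2 lc_h_Cert_tree lc_h_rc_40_0 lc_h_rc_40_0 lc_h_rc_14_1 lc_h_rc_5_1 lc_h_rc_5_1 lc_h_rc_14_1 lc_h_rc_5_1 lc_h_rc_14_1 lc_h_rc_41_4 lc_h_rc_22_1 lc_h_rc_5_1 lc_h_rc_14_1 lc_h_Cert_tree lc_h_rc_22_1 lc_h_rc_5_1 lc_h_rc_14_1 lc_h_rc_14_1 lc_h_rc_29_3 lc_h_rc_51_1 lc_h_Cert_tree lc_h_rc_40_0 lc_h_Cert_tree lc_h_rc_5_1 lc_h_Cert_tree lc_h_rc_14_1 lc_h_rc_40_0 lc_h_rc_35_1 lc_h_rc_41_2 lc_h_rc_41_4 lc_h_rc_5_1 lc_h_rc_14_1 lc_h_rc_5_1 lc_h_rc_14_1 lc_h_rc_5_1 lc_h_rc_40_0 lc_h_rc_14_1 lc_h_rc_40_1 lc_h_rc_40_0 lc_h_rc_14_1 lc_h_Cert_tree lc_h_rc_40_0 lc_h_rc_5_1 lc_h_rc_14_1 lc_h_rc_40_0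 lc_h_rc_41_2) (@D3.rec (fun _ => (Cert rels S Gen.h)) lc_h_rc_41_4 lc_h_Cert_tree lc_h_rc_40_0 lc_h_rc_40_0 lc_h_rc_29_3 lc_h_rc_35_1 lc_h_rc_22_3 lc_h_rc_5_1 lc_h_rc_14_1 lc_h_rc_14_1 lc_h_rc_5_1 lc_h_rc_5_1 lc_h_rc_14_1 lc_h_rc_41_2 lc_h_rc_41_2 lc_h_rc_14_1 lc_h_rc_14_1 lc_h_rc_22_1 lc_h_Cert_tree lc_h_rc_40_0 lc_h_rc_47_3 lc_h_rc_42_1 lc_h_rc_5_1 lc_h_rc_14_1 lc_h_rc_29_3 lc_h_rc_5_1 lc_h_rc_14_1 lc_h_rc_22_1 lc_h_rc_5_1 lc_h_rc_5_1 lc_h_rc_14_1 lc_h_rc_5_1 lc_h_rc_14_1 lc_h_rc_14_1 lc_h_rc_5_1 lc_h_rc_5_1 lc_h_rc_14_1 lc_h_rc_5_1 lc_h_rc_5_1 lc_h_rc_47_3 lc_h_rc_5_1 lc_h_rc_14_1 lc_h_rc_5_1 lc_h_rc_14_1 lc_h_rc_29_3 lc_h_rc_22_1 lc_h_rc_5_1 lc_h_rc_14_1 lc_h_rc_5_1 lc_h_rc_14_1 lc_h_rc_29_3)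 (@D3.rec (fun _ => (Cert rels S Gen.h)) lc_h_rc_5_1 lc_h_rc_5_1 lc_h_rc_14_1 lc_h_rc_42_3 lc_h_rc_5_1 lc_h_rc_51_1 lc_h_rc_5_1 lc_h_rc_14_1 lc_h_rc_5_1 lc_h_rc_14_1 lc_h_rc_5_1 lc_h_rc_22_1 lc_h_rc_22_1 lc_h_rc_14_1 lc_h_rc_14_1 lc_h_rc_5_1 lc_h_Cert_tree lc_h_Cert_tree lc_h_rc_40_0 lc_h_rc_41_2 lc_h_rc_42_3 lc_h_rc_41_2 lc_h_rc_41_2 lc_h_rc_41_4 lc_h_rc_5_1 lc_h_rc_14_1 lc_h_rc_5_1 lc_h_rc_14_1 lc_h_rc_22_1 lc_h_rc_5_1 lc_h_rc_14_1 lc_h_rc_5_1 lc_h_rc_42_3 lc_h_rc_5_1 lc_h_rc_14_1 lc_h_rc_14_3 lc_h_rc_5_1 lc_h_rc_14_1 lc_h_rc_5_1 lc_h_rc_14_1 lc_h_rc_5_1 lc_h_rc_22_1 lc_h_rc_5_1 lc_h_rc_22_1 lc_h_rc_5_1 lc_h_rc_5_1 lc_h_rc_14_1 lc_h_rc_29_3 lc_h_rc_22_1 lc_h_rc_5_1 lc_h_rc_14_1) (@D3.rec (fun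 _ => (Cert rels S Gen.h)) lc_h_rc_14_1 lc_h_rc_5_1 lc_h_rc_14_1 lc_h_rc_14_1 lc_h_rc_29_3 lc_h_rc_22_1 lc_h_rc_5_1 lc_h_rc_14_1 lc_h_rc_14_1 lc_h_rc_5_1 lc_h_rc_14_1 lc_h_rc_5_1 lc_h_rc_5_1 lc_h_rc_47_1 lc_h_rc_5_1 lc_h_rc_14_1 lc_h_rc_5_1 lc_h_rc_14_1 lc_h_rc_5_1 lc_h_rc_22_1 lc_h_rc_22_1 lc_h_rc_22_1 lc_h_rc_14_1 lc_h_rc_14_1 lc_h_rc_14_1 lc_h_rc_29_1 lc_h_rc_22_1 lc_h_rc_22_3 lc_h_rc_5_1 lc_h_rc_14_1 lc_h_rc_5_1 lc_h_rc_14_1 lc_h_rc_5_1 lc_h_rc_22_1 lc_h_rc_29_1 lc_h_rc_22_1 lc_h_rc_41_2 lc_h_rc_5_1 lc_h_rc_5_1 lc_h_rc_41_2 lc_h_rc_22_1 lc_h_rc_14_1 lc_h_rc_29_3 lc_h_rc_22_1 lc_h_rc_29_3 lc_h_rc_5_1 lc_h_Cert_tree lc_h_rc_40_0 lc_h_Cert_tree lc_h_rc_40_0 lc_h_rc_41_2) (@D3.rec (fun _ => (Cert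 rels S Gen.h)) lc_h_rc_5_1 lc_h_rc_14_1 lc_h_rc_41_2 lc_h_rc_5_1 lc_h_rc_14_1 lc_h_rc_5_1 lc_h_rc_14_1 lc_h_rc_5_1 lc_h_rc_22_1 lc_h_rc_51_1 lc_h_rc_14_3 lc_h_rc_22_1 lc_h_rc_14_3 lc_h_rc_22_1 lc_h_Cert_tree lc_h_rc_40_0 lc_h_rc_40_0 lc_h_rc_14_1 lc_h_rc_47_1 lc_h_rc_40_0 lc_h_rc_14_1 lc_h_rc_5_1 lc_h_rc_22_3 lc_h_Cert_tree lc_h_rc_40_0 lc_h_rc_22_1 lc_h_rc_47_1 lc_h_rc_40_0 lc_h_rc_14_1 lc_h_rc_5_1 lc_h_rc_14_1 lc_h_Cert_tree lc_h_rc_5_1 lc_h_rc_42_3 lc_h_rc_22_1 lc_h_rc_22_1 lc_h_rc_14_3 lc_h_rc_42_1 lc_h_rc_5_1 lc_h_rc_14_1 lc_h_rc_29_3 lc_h_rc_22_1 lc_h_rc_47_1 lc_h_rc_5_1 lc_h_rc_14_1 lc_h_Cert_tree lc_h_rc_42_1 lc_h_rc_47_1 lc_h_rc_5_1 lc_h_rc_14_1 lc_h_rc_22_1) (@D3.rec (fun _ => (Cert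 rels S Gen.h)) lc_h_rc_5_1 lc_h_Cert_tree lc_h_rc_40_0 lc_h_rc_5_1 lc_h_rc_14_1 lc_h_rc_29_3 lc_h_rc_22_1 lc_h_rc_47_1 lc_h_rc_5_1 lc_h_rc_14_1 lc_h_rc_22_1 lc_h_rc_5_1 lc_h_rc_47_1 lc_h_Cert_tree lc_h_rc_41_2 lc_h_rc_5_1 lc_h_Cert_tree lc_h_rc_40_0 lc_h_rc_5_1 lc_h_rc_14_1 lc_h_rc_42_3 lc_h_rc_22_1 lc_h_rc_5_1 lc_h_rc_14_1 lc_h_rc_14_1 lc_h_rc_29_3 lc_h_rc_5_1 lc_h_Cert_tree lc_h_rc_40_0 lc_h_rc_22_1 lc_h_rc_40_0 lc_h_rc_22_3 lc_h_rc_35_1 lc_h_rc_56_34 lc_h_rc_35_1 lc_h_rc_14_3 lc_h_rc_14_1 lc_h_rc_47_1 lc_h_rc_47_1 lc_h_rc_14_1 lc_h_rc_56_41 lc_h_rc_5_1 lc_h_rc_14_1 lc_h_rc_5_1 lc_h_rc_5_1 lc_h_rc_14_1 lc_h_Cert_tree lc_h_rc_22_1 lc_h_rc_5_1 lc_h_Cert_tree lc_h_rc_14_1) (@D3.rec (fun _ => (Cert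 rels S Gen.h)) lc_h_rc_42_3 lc_h_rc_40_0 lc_h_rc_5_1 lc_h_rc_14_1 lc_h_rc_22_1 lc_h_rc_5_1 lc_h_rc_14_1 lc_h_Cert_tree lc_h_rc_5_1 lc_h_rc_40_0 lc_h_rc_22_1 lc_h_rc_5_1 lc_h_rc_40_0 lc_h_rc_14_1 lc_h_rc_14_3 lc_h_rc_14_1 lc_h_rc_14_1 lc_h_rc_29_3 lc_h_rc_22_3 lc_h_rc_5_1 lc_h_rc_14_1 lc_h_rc_5_1 lc_h_rc_14_1 lc_h_rc_5_1 lc_h_rc_14_1 lc_h_rc_22_3 lc_h_Cert_tree lc_h_rc_40_0 lc_h_rc_22_1 lc_h_rc_51_1 lc_h_rc_5_3 lc_h_rc_42_1 lc_h_rc_5_1 lc_h_rc_14_1 lc_h_rc_41_2 lc_h_rc_22_1 lc_h_rc_47_1 lc_h_rc_41_2 lc_h_rc_5_3 lc_h_rc_41_2 lc_h_rc_41_2 lc_h_rc_51_1 lc_h_rc_5_1 lc_h_rc_14_1 lc_h_rc_22_1 lc_h_rc_5_1 lc_h_rc_14_1 lc_h_rc_41_4 lc_h_rc_22_1 lc_h_rc_5_1 lc_h_Cert_tree) (@D3.rec (fun _ => (Cert rels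 S Gen.h)) lc_h_rc_40_0 lc_h_rc_5_1 lc_h_rc_14_1 lc_h_rc_5_1 lc_h_Cert_tree lc_h_rc_14_1 lc_h_rc_40_0 lc_h_rc_5_1 lc_h_rc_14_1 lc_h_rc_14_1 lc_h_rc_42_1 lc_h_rc_5_1 lc_h_Cert_tree lc_h_rc_14_1 lc_h_Cert_tree lc_h_rc_40_0 lc_h_rc_5_1 lc_h_rc_14_1 lc_h_Cert_tree lc_h_Cert_tree lc_h_rc_40_0 lc_h_rc_29_3 lc_h_rc_51_1 lc_h_rc_14_1 lc_h_Cert_tree lc_h_rc_41_2 lc_h_rc_14_1 lc_h_Cert_tree lc_h_rc_40_0 lc_h_rc_14_3 lc_h_rc_5_1 lc_h_rc_14_1 lc_h_rc_51_3 lc_h_rc_5_1 lc_h_rc_14_1 lc_h_Cert_tree lc_h_rc_40_0 lc_h_rc_5_1 lc_h_rc_14_1 lc_h_rc_5_1 lc_h_rc_5_3 lc_h_rc_5_1 lc_h_rc_5_1 lc_h_rc_22_1 lc_h_rc_14_1 lc_h_rc_35_1 lc_h_rc_14_3 lc_h_rc_40_0 lc_h_rc_14_1 lc_h_rc_35_3 lc_h_rc_14_1) (@D3.rec (fun _ => (Cert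 rels S Gen.h)) lc_h_rc_29_3 lc_h_rc_35_1 lc_h_Cert_tree lc_h_rc_14_1 lc_h_rc_42_3 lc_h_rc_40_0 lc_h_Cert_tree lc_h_Cert_tree lc_h_rc_40_0 lc_h_rc_41_2 lc_h_rc_14_1 lc_h_rc_14_1 lc_h_rc_47_1 lc_h_rc_56_48 lc_h_rc_56_48 lc_h_rc_51_1 lc_h_rc_22_1 lc_h_rc_5_1 lc_h_rc_5_1 lc_h_rc_14_3 lc_h_rc_14_3 lc_h_rc_5_1 lc_h_rc_14_1 lc_h_rc_29_3 lc_h_rc_22_1 lc_h_rc_5_1 lc_h_rc_14_1 lc_h_rc_29_3 lc_h_rc_41_2 lc_h_rc_5_1 lc_h_rc_14_1 lc_h_rc_5_1 lc_h_rc_14_1 lc_h_rc_14_1 lc_h_rc_5_1 lc_h_rc_14_1 lc_h_rc_14_1 lc_h_rc_29_3 lc_h_rc_5_1 lc_h_rc_22_3 lc_h_rc_35_1 lc_h_rc_5_1 lc_h_rc_5_1 lc_h_rc_5_1 lc_h_rc_14_1 lc_h_rc_29_3 lc_h_rc_22_1 lc_h_rc_47_1 lc_h_rc_14_1 lc_h_rc_14_1 lc_h_Cert_tree) (@D3.rec (fun _ => (Cert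 rels S Gen.h)) lc_h_rc_41_2 lc_h_rc_42_1 lc_h_rc_5_1 lc_h_rc_14_1 lc_h_rc_22_1 lc_h_rc_5_1 lc_h_Cert_tree lc_h_rc_40_0 lc_h_rc_29_5 lc_h_rc_5_1 lc_h_rc_14_1 lc_h_rc_14_1 lc_h_rc_51_1 lc_h_rc_5_1 lc_h_Cert_tree lc_h_rc_40_0 lc_h_rc_22_1 lc_h_rc_14_3 lc_h_rc_47_3 lc_h_Cert_tree lc_h_rc_14_3 lc_h_rc_40_0 lc_h_rc_41_2 lc_h_rc_40_0 lc_h_rc_14_1 lc_h_rc_5_1 lc_h_rc_51_1 lc_h_rc_51_1 lc_h_rc_51_3 lc_h_rc_5_1 lc_h_rc_55_34 lc_h_rc_5_1 lc_h_Cert_tree lc_h_rc_14_1 lc_h_rc_42_3 lc_h_rc_40_0 lc_h_rc_47_1 lc_h_rc_5_1 lc_h_rc_5_1 lc_h_rc_14_1 lc_h_rc_14_1 lc_h_rc_41_2 lc_h_rc_22_1 lc_h_rc_5_1 lc_h_Cert_tree lc_h_rc_22_1 lc_h_Cert_tree lc_h_rc_40_0 lc_h_rc_22_1 lc_h_rc_5_1 lc_h_rc_14_1) (@D3.rec (fun _ => (Cert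 rels S Gen.h)) lc_h_rc_41_4 lc_h_Cert_tree lc_h_Cert_tree lc_h_rc_40_0 lc_h_rc_41_2 lc_h_rc_5_1 lc_h_rc_14_1 lc_h_rc_5_1 lc_h_rc_14_1 lc_h_rc_5_1 lc_h_rc_14_1 lc_h_rc_14_1 lc_h_rc_5_1 lc_h_rc_5_1 lc_h_rc_14_1 lc_h_rc_14_1 lc_h_rc_41_4 lc_h_rc_5_1 lc_h_rc_5_1 lc_h_rc_22_1 lc_h_rc_14_1 lc_h_rc_42_3 lc_h_rc_40_0 lc_h_rc_14_1 lc_h_rc_5_1 lc_h_rc_51_1 lc_h_rc_5_1 lc_h_rc_14_1 lc_h_rc_5_1 lc_h_rc_5_1 lc_h_rc_14_1 lc_h_rc_14_1 lc_h_rc_5_1 lc_h_rc_14_1 lc_h_rc_5_1 lc_h_rc_5_1 lc_h_rc_5_1 lc_h_Cert_tree lc_h_rc_47_1 lc_h_Cert_tree lc_h_rc_40_0 lc_h_Cert_tree lc_h_rc_5_1 lc_h_Cert_tree lc_h_rc_5_3 lc_h_rc_40_0 lc_h_rc_35_1 lc_h_rc_41_2 lc_h_rc_41_4 lc_h_rc_5_1 lc_h_rc_5_3) (@D3.rec (fun _ => (Cert rels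 S Gen.h)) lc_h_rc_14_1 lc_h_rc_42_1 lc_h_rc_5_1 lc_h_rc_5_3 lc_h_rc_5_3 lc_h_rc_35_1 lc_h_rc_40_0 lc_h_rc_14_1 lc_h_rc_5_1 lc_h_rc_5_1 lc_h_rc_14_1 lc_h_rc_5_1 lc_h_rc_5_1 lc_h_rc_22_1 lc_h_rc_22_1 lc_h_rc_14_1 lc_h_rc_29_3 lc_h_rc_22_1 lc_h_rc_5_1 lc_h_rc_14_3 lc_h_rc_22_1 lc_h_rc_5_1 lc_h_Cert_tree lc_h_rc_40_0 lc_h_rc_42_3 lc_h_Cert_tree lc_h_rc_51_1 lc_h_rc_41_0 lc_h_rc_40_0 lc_h_rc_35_1 lc_h_rc_14_1 lc_h_rc_5_3 lc_h_Cert_tree lc_h_Cert_tree lc_h_rc_40_0 lc_h_rc_5_1 lc_h_rc_14_1 lc_h_rc_56_34 lc_h_Cert_tree lc_h_rc_51_1 lc_h_rc_40_0 lc_h_Cert_tree lc_h_rc_40_0 lc_h_rc_40_0 lc_h_rc_22_1 lc_h_rc_14_1 lc_h_rc_29_1 lc_h_rc_29_3 lc_h_rc_5_1 lc_h_rc_5_3 lc_h_rc_51_1) (@D3.rec (fun _ => (Cert rels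 S Gen.h)) lc_h_rc_5_3 lc_h_rc_41_4 lc_h_rc_47_1 lc_h_rc_47_1 lc_h_rc_5_1 lc_h_Cert_tree lc_h_rc_40_0 lc_h_Cert_tree lc_h_Cert_tree lc_h_rc_40_0 lc_h_rc_40_0 lc_h_rc_5_1 lc_h_rc_47_1 lc_h_rc_42_1 lc_h_rc_5_1 lc_h_Cert_tree lc_h_rc_40_0 lc_h_Cert_tree lc_h_Cert_tree lc_h_rc_40_0 lc_h_rc_42_1 lc_h_rc_47_3 lc_h_Cert_tree lc_h_rc_42_1 lc_h_rc_41_2 lc_h_rc_40_0 lc_h_rc_5_1 lc_h_rc_14_1 lc_h_rc_47_1 lc_h_Cert_tree lc_h_rc_5_1 lc_h_rc_14_1 lc_h_rc_40_0 lc_h_rc_41_2 lc_h_rc_5_1 lc_h_rc_51_1 lc_h_Cert_tree lc_h_rc_14_1 lc_h_rc_42_3 lc_h_rc_40_0 lc_h_rc_29_1 lc_h_Cert_tree lc_h_rc_35_1 lc_h_Cert_tree lc_h_rc_14_1 lc_h_rc_40_0 lc_h_rc_22_1 lc_h_rc_47_1 lc_h_Cert_tree lc_h_Cert_tree lc_h_rc_40_0)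
def ce_h_22 : D2 → D3 → (Cert rels S Gen.h) := @D2.rec (fun _ => D3 → (Cert rels S Gen.h)) (@D3.rec (fun _ => (Cert rels S Gen.h)) lc_h_rc_41_2 lc_h_Cert_tree lc_h_rc_40_0 lc_h_rc_40_0 lc_h_rc_14_1 lc_h_rc_35_1 lc_h_rc_14_1 lc_h_Cert_tree lc_h_Cert_tree lc_h_rc_40_0 lc_h_rc_35_1 lc_h_rc_14_1 lc_h_Cert_tree lc_h_rc_14_3 lc_h_rc_51_3 lc_h_rc_40_0 lc_h_rc_41_2 lc_h_rc_35_1 lc_h_rc_40_0 lc_h_rc_14_1 lc_h_Cert_tree lc_h_rc_40_0 lc_h_rc_40_0 lc_h_rc_14_1 lc_h_rc_40_0 lc_h_rc_5_1 lc_h_rc_14_1 lc_h_rc_47_1 lc_h_rc_41_4 lc_h_rc_22_1 lc_h_rc_14_1 lc_h_rc_29_3 lc_h_rc_5_1 lc_h_rc_22_1 lc_h_rc_35_3 lc_h_rc_22_1 lc_h_Cert_tree lc_h_rc_40_0 lc_h_rc_40_0 lc_h_rc_5_1 lc_h_rc_14_1 lc_h_Cert_tree lc_h_Cert_tree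 lc_h_rc_40_0 lc_h_rc_41_2 lc_h_rc_14_1 lc_h_rc_14_1 lc_h_Cert_tree lc_h_rc_47_3 lc_h_Cert_tree lc_h_rc_40_0) (@D3.rec (fun _ => (Cert rels S Gen.h)) lc_h_rc_40_0 lc_h_rc_22_1 lc_h_rc_40_0 lc_h_rc_14_1 lc_h_rc_47_1 lc_h_rc_14_3 lc_h_rc_40_0 lc_h_rc_14_1 lc_h_Cert_tree lc_h_rc_40_0 lc_h_rc_5_1 lc_h_rc_29_3 lc_h_rc_22_1 lc_h_rc_5_1 lc_h_rc_51_1 lc_h_rc_14_1 lc_h_rc_5_1 lc_h_Cert_tree lc_h_rc_14_1 lc_h_rc_51_3 lc_h_rc_40_0 lc_h_rc_5_1 lc_h_rc_5_1 lc_h_rc_22_1 lc_h_rc_14_1 lc_h_Cert_tree lc_h_Cert_tree lc_h_rc_40_0 lc_h_rc_41_2 lc_h_Cert_tree lc_h_rc_5_1 lc_h_rc_40_0 lc_h_rc_22_1 lc_h_rc_40_0 lc_h_rc_14_1 lc_h_rc_14_1 lc_h_rc_5_1 lc_h_rc_5_1 lc_h_rc_5_1 lc_h_rc_5_1 lc_h_rc_40_0 lc_h_rc_14_3 lc_h_rc_14_1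 lc_h_rc_51_3 lc_h_rc_40_0 lc_h_rc_14_1 lc_h_rc_5_1 lc_h_rc_22_1 lc_h_rc_5_1 lc_h_rc_22_1 lc_h_rc_41_2) (@D3.rec (fun _ => (Cert rels S Gen.h)) lc_h_rc_51_1 lc_h_Cert_tree lc_h_Cert_tree lc_h_rc_40_0 lc_h_rc_41_2 lc_h_rc_51_3 lc_h_rc_5_1 lc_h_rc_14_1 lc_h_rc_5_1 lc_h_rc_14_1 lc_h_rc_5_1 lc_h_rc_5_1 lc_h_rc_5_1 lc_h_rc_5_1 lc_h_rc_22_1 lc_h_rc_5_1 lc_h_rc_5_1 lc_h_rc_22_1 lc_h_rc_5_1 lc_h_rc_14_1 lc_h_rc_14_1 lc_h_rc_5_1 lc_h_rc_5_1 lc_h_rc_14_1 lc_h_rc_5_1 lc_h_rc_42_3 lc_h_rc_51_1 lc_h_rc_22_1 lc_h_rc_5_1 lc_h_rc_22_1 lc_h_rc_14_3 lc_h_rc_22_1 lc_h_rc_5_1 lc_h_rc_22_3 lc_h_rc_5_1 lc_h_rc_22_1 lc_h_Cert_tree lc_h_rc_40_0 lc_h_rc_40_0 lc_h_rc_14_1 lc_h_rc_41_2 lc_h_rc_14_1 lc_h_rc_5_1 lc_h_rc_22_1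 lc_h_rc_5_1 lc_h_rc_14_1 lc_h_rc_5_1 lc_h_rc_5_1 lc_h_rc_22_1 lc_h_rc_5_1 lc_h_rc_22_1) (@D3.rec (fun _ => (Cert rels S Gen.h)) lc_h_rc_35_1 lc_h_rc_22_1 lc_h_rc_5_1 lc_h_rc_5_1 lc_h_rc_29_3 lc_h_rc_14_1 lc_h_rc_5_1 lc_h_rc_5_1 lc_h_rc_22_1 lc_h_rc_5_1 lc_h_rc_14_1 lc_h_rc_14_1 lc_h_rc_29_3 lc_h_rc_5_1 lc_h_rc_22_1 lc_h_rc_5_1 lc_h_rc_5_1 lc_h_rc_22_1 lc_h_rc_29_3 lc_h_rc_22_1 lc_h_rc_5_1 lc_h_rc_29_3 lc_h_rc_22_1 lc_h_rc_29_3 lc_h_rc_22_1 lc_h_rc_41_4 lc_h_rc_5_1 lc_h_rc_22_1 lc_h_rc_5_1 lc_h_rc_22_1 lc_h_rc_5_1 lc_h_rc_35_3 lc_h_rc_14_1 lc_h_rc_22_1 lc_h_rc_42_3 lc_h_Cert_tree lc_h_Cert_tree lc_h_rc_40_0 lc_h_rc_41_2 lc_h_rc_40_0 lc_h_rc_14_1 lc_h_rc_5_1 lc_h_rc_55_34 lc_h_rc_5_1 lc_h_rc_22_1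 lc_h_rc_5_1 lc_h_rc_22_1 lc_h_rc_5_1 lc_h_rc_22_1 lc_h_rc_35_1 lc_h_Cert_tree) (@D3.rec (fun _ => (Cert rels S Gen.h)) lc_h_rc_40_0 lc_h_rc_29_3 lc_h_rc_5_1 lc_h_rc_40_0 lc_h_rc_14_1 lc_h_rc_5_1 lc_h_rc_5_1 lc_h_Cert_tree lc_h_rc_40_0 lc_h_rc_5_1 lc_h_rc_22_3 lc_h_rc_22_3 lc_h_rc_29_3 lc_h_rc_22_1 lc_h_rc_5_1 lc_h_rc_14_1 lc_h_rc_14_1 lc_h_rc_42_1 lc_h_rc_22_1 lc_h_rc_5_1 lc_h_Cert_tree lc_h_rc_14_1 lc_h_Cert_tree lc_h_rc_40_0 lc_h_rc_47_1 lc_h_rc_5_1 lc_h_rc_14_1 lc_h_Cert_tree lc_h_Cert_tree lc_h_rc_40_0 lc_h_rc_41_2 lc_h_rc_5_1 lc_h_rc_14_1 lc_h_rc_14_1 lc_h_rc_22_1 lc_h_rc_5_1 lc_h_rc_14_1 lc_h_rc_22_3 lc_h_Cert_tree lc_h_rc_14_1 lc_h_rc_40_0 lc_h_Cert_tree lc_h_rc_40_0 lc_h_rc_5_1 lc_h_rc_14_1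 lc_h_rc_14_1 lc_h_rc_41_2 lc_h_rc_5_1 lc_h_rc_5_1 lc_h_rc_22_1 lc_h_rc_14_1) (@D3.rec (fun _ => (Cert rels S Gen.h)) lc_h_rc_35_1 lc_h_rc_40_0 lc_h_rc_14_1 lc_h_rc_40_0 lc_h_rc_22_3 lc_h_rc_14_1 lc_h_rc_14_3 lc_h_rc_47_1 lc_h_rc_14_1 lc_h_rc_5_1 lc_h_rc_5_1 lc_h_Cert_tree lc_h_rc_14_1 lc_h_Cert_tree lc_h_rc_40_0 lc_h_Cert_tree lc_h_rc_5_1 lc_h_Cert_tree lc_h_rc_42_3 lc_h_rc_40_0 lc_h_rc_29_3 lc_h_rc_5_1 lc_h_rc_14_1 lc_h_rc_5_1 lc_h_rc_40_0 lc_h_rc_14_1 lc_h_rc_5_1 lc_h_rc_14_1 lc_h_rc_14_1 lc_h_rc_5_1 lc_h_rc_22_1 lc_h_rc_5_1 lc_h_rc_22_1 lc_h_rc_5_1 lc_h_rc_22_1 lc_h_Cert_tree lc_h_Cert_tree lc_h_rc_40_0 lc_h_rc_41_2 lc_h_rc_14_1 lc_h_rc_55_34 lc_h_rc_5_1 lc_h_rc_41_2 lc_h_rc_14_1 lc_h_rc_41_2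 lc_h_rc_22_1 lc_h_rc_41_2 lc_h_rc_14_1 lc_h_rc_5_3 lc_h_rc_42_1 lc_h_rc_41_2) (@D3.rec (fun _ => (Cert rels S Gen.h)) lc_h_rc_5_1 lc_h_rc_14_1 lc_h_rc_5_1 lc_h_rc_14_1 lc_h_rc_14_1 lc_h_rc_42_1 lc_h_Cert_tree lc_h_Cert_tree lc_h_rc_40_0 lc_h_rc_5_1 lc_h_Cert_tree lc_h_rc_5_1 lc_h_rc_40_0 lc_h_rc_5_1 lc_h_rc_5_1 lc_h_rc_22_1 lc_h_rc_14_1 lc_h_rc_42_1 lc_h_Cert_tree lc_h_rc_5_1 lc_h_Cert_tree lc_h_Cert_tree lc_h_rc_40_0 lc_h_rc_40_0 lc_h_rc_5_1 lc_h_Cert_tree lc_h_rc_40_0 lc_h_rc_40_0 lc_h_rc_14_1 lc_h_rc_35_1 lc_h_Cert_tree lc_h_rc_14_1 lc_h_rc_42_3 lc_h_rc_40_0 lc_h_Cert_tree lc_h_Cert_tree lc_h_rc_40_0 lc_h_rc_41_2 lc_h_rc_5_1 lc_h_rc_22_1 lc_h_rc_5_1 lc_h_rc_40_0 lc_h_rc_5_1 lc_h_rc_22_1 lc_h_rc_51_1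 lc_h_rc_22_1 lc_h_rc_5_1 lc_h_rc_5_1 lc_h_rc_22_1 lc_h_rc_14_1 lc_h_rc_5_1) (@D3.rec (fun _ => (Cert rels S Gen.h)) lc_h_rc_40_0 lc_h_rc_14_1 lc_h_Cert_tree lc_h_rc_14_1 lc_h_Cert_tree lc_h_rc_14_1 lc_h_rc_40_0 lc_h_Cert_tree lc_h_rc_40_0 lc_h_rc_40_0 lc_h_rc_14_1 lc_h_rc_5_1 lc_h_rc_14_1 lc_h_rc_14_1 lc_h_rc_5_1 lc_h_rc_14_1 lc_h_rc_14_1 lc_h_rc_5_1 lc_h_rc_29_3 lc_h_rc_22_1 lc_h_rc_5_1 lc_h_rc_5_1 lc_h_rc_22_1 lc_h_rc_14_1 lc_h_rc_5_1 lc_h_rc_29_3 lc_h_rc_14_1 lc_h_rc_22_1 lc_h_rc_14_1 lc_h_Cert_tree lc_h_rc_14_1 lc_h_rc_42_3 lc_h_rc_40_0 lc_h_rc_42_1 lc_h_rc_5_1 lc_h_rc_14_1 lc_h_Cert_tree lc_h_rc_22_3 lc_h_rc_40_0 lc_h_rc_22_3 lc_h_rc_5_1 lc_h_rc_22_1 lc_h_rc_14_1 lc_h_rc_51_1 lc_h_rc_40_0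 lc_h_rc_14_1 lc_h_rc_40_0 lc_h_rc_14_1 lc_h_rc_5_1 lc_h_rc_51_1 lc_h_rc_51_3) (@D3.rec (fun _ => (Cert rels S Gen.h)) lc_h_rc_14_3 lc_h_rc_22_1 lc_h_Cert_tree lc_h_rc_5_1 lc_h_rc_42_3 lc_h_rc_40_0 lc_h_rc_14_1 lc_h_rc_5_1 lc_h_rc_5_1 lc_h_rc_22_1 lc_h_rc_14_1 lc_h_rc_14_1 lc_h_rc_41_2 lc_h_rc_41_2 lc_h_Cert_tree lc_h_rc_5_1 lc_h_Cert_tree lc_h_Cert_tree lc_h_rc_40_0 lc_h_rc_22_1 lc_h_rc_42_1 lc_h_rc_40_0 lc_h_rc_5_1 lc_h_rc_14_1 lc_h_Cert_tree lc_h_rc_40_0 lc_h_rc_40_0 lc_h_rc_14_1 lc_h_rc_5_1 lc_h_rc_29_3 lc_h_rc_22_1 lc_h_rc_5_1 lc_h_rc_5_1 lc_h_rc_22_1 lc_h_rc_29_3 lc_h_rc_5_1 lc_h_rc_22_1 lc_h_rc_14_1 lc_h_rc_51_1 lc_h_rc_5_1 lc_h_rc_5_1 lc_h_rc_29_3 lc_h_rc_14_1 lc_h_rc_5_1 lc_h_rc_5_1 lc_h_rc_29_3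 lc_h_rc_22_1 lc_h_rc_5_1 lc_h_rc_5_1 lc_h_rc_22_1 lc_h_rc_5_1) (@D3.rec (fun _ => (Cert rels S Gen.h)) lc_h_Cert_tree lc_h_rc_40_1 lc_h_Cert_tree lc_h_Cert_tree lc_h_rc_40_0 lc_h_rc_40_0 lc_h_Cert_tree lc_h_rc_40_1 lc_h_rc_40_0 lc_h_rc_22_1 lc_h_rc_40_0 lc_h_rc_51_1 lc_h_rc_22_3 lc_h_rc_42_1 lc_h_rc_22_1 lc_h_rc_41_0 lc_h_rc_47_1 lc_h_rc_41_0 lc_h_rc_22_1 lc_h_rc_5_1 lc_h_rc_22_1 lc_h_rc_5_1 lc_h_rc_29_3 lc_h_rc_22_1 lc_h_rc_35_3 lc_h_rc_22_1 lc_h_Cert_tree lc_h_Cert_tree lc_h_rc_40_0 lc_h_Cert_tree lc_h_rc_40_0 lc_h_Cert_tree lc_h_rc_5_3 lc_h_rc_40_0 lc_h_rc_5_3 lc_h_rc_47_1 lc_h_Cert_tree lc_h_rc_40_0 lc_h_rc_40_0 lc_h_rc_29_3 lc_h_rc_22_1 lc_h_Cert_tree lc_h_rc_40_1 lc_h_rc_40_0 lc_h_rc_40_0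 lc_h_rc_29_3 lc_h_rc_22_1 lc_h_rc_41_0 lc_h_rc_51_3 lc_h_rc_22_1 lc_h_rc_41_4) (@D3.rec (fun _ => (Cert rels S Gen.h)) lc_h_Cert_tree lc_h_Cert_tree lc_h_rc_40_0 lc_h_Cert_tree lc_h_rc_40_0 lc_h_rc_40_0 lc_h_rc_42_1 lc_h_rc_22_1 lc_h_Cert_tree lc_h_Cert_tree lc_h_rc_40_0 lc_h_Cert_tree lc_h_rc_40_0 lc_h_rc_40_0 lc_h_rc_14_1 lc_h_Cert_tree lc_h_rc_5_1 lc_h_rc_41_2 lc_h_rc_40_0 lc_h_rc_5_1 lc_h_rc_5_1 lc_h_rc_22_1 lc_h_rc_14_3 lc_h_rc_40_0 lc_h_rc_14_1 lc_h_Cert_tree lc_h_rc_5_1 lc_h_Cert_tree lc_h_rc_42_3 lc_h_rc_40_0 lc_h_rc_29_1 lc_h_Cert_tree lc_h_rc_22_3 lc_h_rc_40_0 lc_h_rc_22_1 lc_h_rc_22_1 lc_h_rc_40_0 lc_h_Cert_tree lc_h_rc_40_0 lc_h_rc_40_0 lc_h_rc_14_1 lc_h_Cert_tree lc_h_rc_40_0 lc_h_rc_5_1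 lc_h_rc_22_1 lc_h_rc_22_1 lc_h_rc_14_1 lc_h_rc_22_1 lc_h_Cert_tree lc_h_rc_40_0 lc_h_rc_40_0) (@D3.rec (fun _ => (Cert rels S Gen.h)) lc_h_rc_35_1 lc_h_rc_47_1 lc_h_rc_40_0 lc_h_rc_14_1 lc_h_rc_5_1 lc_h_rc_40_0 lc_h_rc_5_1 lc_h_rc_5_1 lc_h_rc_47_1 lc_h_rc_41_4 lc_h_rc_14_3 lc_h_rc_22_1 lc_h_rc_41_2 lc_h_rc_35_3 lc_h_Cert_tree lc_h_rc_40_0 lc_h_rc_14_3 lc_h_rc_22_1 lc_h_Cert_tree lc_h_rc_40_0 lc_h_rc_40_0 lc_h_rc_14_1 lc_h_rc_14_1 lc_h_Cert_tree lc_h_rc_40_0 lc_h_rc_40_0 lc_h_rc_14_1 lc_h_rc_5_1 lc_h_rc_41_4 lc_h_rc_5_1 lc_h_rc_40_0 lc_h_rc_47_1 lc_h_rc_51_1 lc_h_rc_5_1 lc_h_rc_22_1 lc_h_Cert_tree lc_h_rc_5_1 lc_h_Cert_tree lc_h_rc_14_1 lc_h_rc_40_0 lc_h_rc_5_1 lc_h_rc_5_1 lc_h_rc_22_1 lc_h_Cert_tree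 lc_h_rc_40_0 lc_h_rc_40_0 lc_h_rc_14_1 lc_h_Cert_tree lc_h_rc_5_1 lc_h_rc_40_0 lc_h_rc_5_1) (@D3.rec (fun _ => (Cert rels S Gen.h)) lc_h_rc_5_1 lc_h_rc_22_1 lc_h_rc_22_1 lc_h_rc_5_1 lc_h_rc_14_1 lc_h_rc_5_1 lc_h_rc_5_1 lc_h_Cert_tree lc_h_rc_40_0 lc_h_rc_40_0 lc_h_rc_14_1 lc_h_rc_5_1 lc_h_rc_22_1 lc_h_rc_5_1 lc_h_rc_5_1 lc_h_rc_5_1 lc_h_rc_14_1 lc_h_rc_5_1 lc_h_rc_22_1 lc_h_rc_29_3 lc_h_rc_22_1 lc_h_rc_14_3 lc_h_rc_55_61 lc_h_rc_22_1 lc_h_rc_5_1 lc_h_rc_22_1 lc_h_rc_14_1 lc_h_rc_14_3 lc_h_Cert_tree lc_h_rc_40_0 lc_h_rc_41_2 lc_h_rc_22_1 lc_h_rc_29_3 lc_h_rc_22_1 lc_h_rc_5_1 lc_h_rc_5_1 lc_h_rc_5_1 lc_h_rc_5_1 lc_h_rc_22_1 lc_h_rc_14_1 lc_h_rc_5_1 lc_h_rc_5_1 lc_h_rc_22_1 lc_h_rc_5_1 lc_h_rc_5_1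 lc_h_rc_5_1 lc_h_rc_22_1 lc_h_rc_22_1 lc_h_rc_5_1 lc_h_rc_41_4 lc_h_rc_14_1) (@D3.rec (fun _ => (Cert rels S Gen.h)) lc_h_rc_42_3 lc_h_rc_41_4 lc_h_rc_56_48 lc_h_rc_5_1 lc_h_rc_5_1 lc_h_rc_14_1 lc_h_rc_14_1 lc_h_rc_40_1 lc_h_rc_56_41 lc_h_Cert_tree lc_h_rc_40_0 lc_h_rc_40_0 lc_h_rc_42_1 lc_h_rc_5_1 lc_h_rc_41_2 lc_h_rc_22_1 lc_h_rc_5_1 lc_h_rc_5_1 lc_h_rc_14_1 lc_h_rc_22_3 lc_h_rc_41_4 lc_h_rc_40_0 lc_h_rc_41_0 lc_h_rc_5_1 lc_h_Cert_tree lc_h_Cert_tree lc_h_rc_40_0 lc_h_rc_22_3 lc_h_rc_5_1 lc_h_rc_29_3 lc_h_rc_22_3 lc_h_rc_5_1 lc_h_rc_5_1 lc_h_rc_22_1 lc_h_rc_14_1 lc_h_rc_14_1 lc_h_rc_42_1 lc_h_rc_29_3 lc_h_Cert_tree lc_h_rc_5_1 lc_h_Cert_tree lc_h_Cert_tree lc_h_rc_40_0 lc_h_rc_14_1 lc_h_rc_42_1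 lc_h_rc_40_0 lc_h_rc_5_1 lc_h_Cert_tree lc_h_rc_40_0 lc_h_rc_40_0 lc_h_rc_14_1) (@D3.rec (fun _ => (Cert rels S Gen.h)) lc_h_rc_5_1 lc_h_rc_5_1 lc_h_rc_22_1 lc_h_rc_14_1 lc_h_rc_5_1 lc_h_Cert_tree lc_h_rc_5_1 lc_h_rc_40_0 lc_h_rc_40_0 lc_h_rc_42_3 lc_h_rc_5_1 lc_h_rc_14_1 lc_h_rc_41_2 lc_h_rc_42_1 lc_h_rc_5_1 lc_h_rc_5_1 lc_h_rc_22_1 lc_h_rc_14_1 lc_h_rc_5_1 lc_h_rc_14_3 lc_h_Cert_tree lc_h_rc_5_1 lc_h_Cert_tree lc_h_Cert_tree lc_h_rc_40_0 lc_h_rc_40_0 lc_h_Cert_tree lc_h_rc_47_1 lc_h_rc_40_0 lc_h_rc_22_1 lc_h_rc_40_0 lc_h_rc_14_1 lc_h_rc_5_1 lc_h_rc_5_1 lc_h_rc_22_3 lc_h_rc_22_1 lc_h_rc_5_1 lc_h_rc_5_1 lc_h_rc_5_1 lc_h_Cert_tree lc_h_rc_40_0 lc_h_rc_40_0 lc_h_rc_14_1 lc_h_rc_14_1 lc_h_rc_41_2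 lc_h_rc_5_1 lc_h_rc_22_1 lc_h_rc_5_3 lc_h_rc_14_1 lc_h_rc_29_1 lc_h_rc_42_1) (@D3.rec (fun _ => (Cert rels S Gen.h)) lc_h_rc_22_1 lc_h_rc_14_1 lc_h_rc_14_1 lc_h_rc_5_1 lc_h_rc_29_3 lc_h_rc_5_1 lc_h_rc_22_1 lc_h_rc_14_1 lc_h_Cert_tree lc_h_rc_40_0 lc_h_rc_40_0 lc_h_rc_40_0 lc_h_rc_5_1 lc_h_rc_5_1 lc_h_rc_22_1 lc_h_rc_14_1 lc_h_Cert_tree lc_h_Cert_tree lc_h_rc_40_0 lc_h_Cert_tree lc_h_rc_40_0 lc_h_rc_40_0 lc_h_Cert_tree lc_h_rc_40_0 lc_h_rc_5_1 lc_h_rc_22_1 lc_h_Cert_tree lc_h_rc_22_1 lc_h_Cert_tree lc_h_rc_14_1 lc_h_rc_40_0 lc_h_Cert_tree lc_h_rc_40_0 lc_h_rc_40_0 lc_h_rc_14_1 lc_h_rc_5_1 lc_h_rc_5_1 lc_h_rc_22_1 lc_h_rc_14_1 lc_h_rc_5_1 lc_h_rc_5_1 lc_h_rc_22_1 lc_h_rc_56_34 lc_h_rc_22_1 lc_h_Cert_tree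 lc_h_rc_29_3 lc_h_rc_40_0 lc_h_rc_22_1 lc_h_rc_40_0 lc_h_Cert_tree lc_h_rc_40_0) (@D3.rec (fun _ => (Cert rels S Gen.h)) lc_h_rc_5_1 lc_h_rc_22_1 lc_h_rc_22_1 lc_h_rc_5_1 lc_h_rc_5_1 lc_h_rc_22_1 lc_h_rc_29_3 lc_h_rc_5_1 lc_h_rc_22_1 lc_h_rc_40_0 lc_h_rc_5_1 lc_h_rc_5_1 lc_h_rc_5_1 lc_h_rc_5_1 lc_h_rc_22_1 lc_h_rc_14_1 lc_h_Cert_tree lc_h_rc_29_5 lc_h_rc_22_3 lc_h_rc_42_3 lc_h_rc_40_0 lc_h_rc_42_1 lc_h_rc_5_1 lc_h_rc_22_3 lc_h_rc_40_0 lc_h_rc_14_3 lc_h_rc_5_1 lc_h_rc_22_1 lc_h_rc_5_3 lc_h_rc_5_1 lc_h_rc_5_1 lc_h_rc_51_3 lc_h_rc_22_1 lc_h_rc_22_1 lc_h_rc_5_1 lc_h_rc_40_0 lc_h_rc_5_1 lc_h_rc_5_1 lc_h_rc_41_2 lc_h_rc_5_1 lc_h_rc_22_1 lc_h_rc_41_2 lc_h_rc_22_3 lc_h_Cert_tree lc_h_Cert_tree lc_h_rc_40_0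 lc_h_rc_5_1 lc_h_Cert_tree lc_h_rc_40_0 lc_h_rc_42_1 lc_h_rc_40_0) (@D3.rec (fun _ => (Cert rels S Gen.h)) lc_h_rc_41_4 lc_h_Cert_tree lc_h_rc_40_0 lc_h_rc_5_1 lc_h_rc_22_1 lc_h_rc_41_2 lc_h_rc_5_1 lc_h_rc_35_1 lc_h_rc_29_3 lc_h_rc_22_1 lc_h_rc_14_1 lc_h_rc_14_1 lc_h_rc_47_3 lc_h_rc_14_1 lc_h_rc_22_1 lc_h_rc_35_3 lc_h_rc_5_1 lc_h_Cert_tree lc_h_Cert_tree lc_h_rc_40_0 lc_h_Cert_tree lc_h_rc_40_0 lc_h_rc_40_0 lc_h_Cert_tree lc_h_rc_22_1 lc_h_rc_40_0 lc_h_rc_51_1 lc_h_rc_22_3 lc_h_rc_22_1 lc_h_rc_41_2 lc_h_rc_41_0 lc_h_rc_5_1 lc_h_rc_14_1 lc_h_rc_41_4 lc_h_rc_14_1 lc_h_rc_22_3 lc_h_Cert_tree lc_h_rc_40_0 lc_h_rc_40_0 lc_h_Cert_tree lc_h_rc_5_1 lc_h_rc_40_0 lc_h_rc_47_1 lc_h_rc_22_1 lc_h_rc_40_0 lc_h_Cert_tree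 lc_h_rc_40_0 lc_h_rc_22_1 lc_h_rc_40_0 lc_h_rc_42_1 lc_h_rc_56_41) (@D3.rec (fun _ => (Cert rels S Gen.h)) lc_h_rc_22_1 lc_h_Cert_tree lc_h_rc_40_0 lc_h_rc_40_0 lc_h_Cert_tree lc_h_rc_40_0 lc_h_rc_22_1 lc_h_Cert_tree lc_h_rc_40_0 lc_h_rc_40_0 lc_h_Cert_tree lc_h_rc_40_0 lc_h_rc_29_3 lc_h_rc_22_1 lc_h_rc_41_2 lc_h_rc_40_0 lc_h_rc_5_1 lc_h_rc_35_1 lc_h_Cert_tree lc_h_rc_5_1 lc_h_rc_40_0 lc_h_rc_29_1 lc_h_rc_47_1 lc_h_rc_40_0 lc_h_Cert_tree lc_h_rc_14_3 lc_h_rc_40_0 lc_h_Cert_tree lc_h_rc_40_0 lc_h_rc_41_2 lc_h_rc_22_1 lc_h_rc_40_0 lc_h_rc_5_1 lc_h_rc_5_1 lc_h_rc_41_4 lc_h_rc_35_1 lc_h_Cert_tree lc_h_rc_40_0 lc_h_rc_5_1 lc_h_rc_41_4 lc_h_rc_40_1 lc_h_rc_14_1 lc_h_rc_56_41 lc_h_rc_40_0 lc_h_rc_22_1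 lc_h_Cert_tree lc_h_rc_40_0 lc_h_rc_41_2 lc_h_rc_22_1 lc_h_rc_40_0 lc_h_rc_5_1) (@D3.rec (fun _ => (Cert rels S Gen.h)) lc_h_rc_5_1 lc_h_rc_22_1 lc_h_Cert_tree lc_h_rc_14_3 lc_h_rc_40_0 lc_h_rc_22_1 lc_h_rc_40_0 lc_h_rc_14_1 lc_h_rc_5_1 lc_h_Cert_tree lc_h_rc_40_0 lc_h_rc_5_1 lc_h_rc_22_1 lc_h_rc_14_1 lc_h_rc_40_0 lc_h_rc_5_1 lc_h_rc_5_1 lc_h_rc_14_1 lc_h_rc_14_1 lc_h_Cert_tree lc_h_rc_40_0 lc_h_rc_41_2 lc_h_rc_22_1 lc_h_rc_5_1 lc_h_rc_14_1 lc_h_rc_14_1 lc_h_rc_22_1 lc_h_rc_41_2 lc_h_rc_22_1 lc_h_rc_22_1 lc_h_rc_14_1 lc_h_rc_41_4 lc_h_rc_56_48 lc_h_rc_40_0 lc_h_rc_41_2 lc_h_rc_41_4 lc_h_rc_14_1 lc_h_rc_14_1 lc_h_rc_14_1 lc_h_rc_5_3 lc_h_rc_22_1 lc_h_rc_14_1 lc_h_rc_5_1 lc_h_rc_41_0 lc_h_rc_14_1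 lc_h_rc_41_4 lc_h_rc_5_3 lc_h_rc_14_1 lc_h_rc_14_1 lc_h_rc_14_1 lc_h_rc_5_3) (@D3.rec (fun _ => (Cert rels S Gen.h)) lc_h_Cert_tree lc_h_rc_40_0 lc_h_rc_42_1 lc_h_rc_22_1 lc_h_rc_22_1 lc_h_rc_14_1 lc_h_rc_14_1 lc_h_rc_14_1 lc_h_Cert_tree lc_h_rc_40_0 lc_h_rc_40_0 lc_h_rc_29_3 lc_h_rc_5_1 lc_h_rc_5_1 lc_h_rc_5_1 lc_h_rc_5_1 lc_h_rc_22_1 lc_h_rc_14_1 lc_h_rc_14_1 lc_h_Cert_tree lc_h_Cert_tree lc_h_rc_40_0 lc_h_rc_5_1 lc_h_Cert_tree lc_h_rc_40_0 lc_h_rc_42_1 lc_h_rc_40_0 lc_h_Cert_tree lc_h_rc_40_0 lc_h_rc_41_2 lc_h_rc_22_1 lc_h_rc_5_1 lc_h_rc_5_1 lc_h_rc_40_0 lc_h_rc_5_1 lc_h_rc_14_3 lc_h_rc_22_1 lc_h_rc_14_1 lc_h_rc_14_1 lc_h_rc_5_1 lc_h_rc_5_1 lc_h_rc_22_1 lc_h_Cert_tree lc_h_Cert_tree lc_h_rc_40_0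 lc_h_Cert_tree lc_h_rc_40_0 lc_h_rc_40_0 lc_h_Cert_tree lc_h_rc_22_1 lc_h_rc_40_0) (@D3.rec (fun _ => (Cert rels S Gen.h)) lc_h_rc_5_1 lc_h_rc_22_1 lc_h_rc_14_3 lc_h_rc_14_1 lc_h_rc_14_1 lc_h_rc_14_1 lc_h_Cert_tree lc_h_rc_40_0 lc_h_rc_41_2 lc_h_rc_22_1 lc_h_rc_22_1 lc_h_rc_42_1 lc_h_rc_5_1 lc_h_rc_22_1 lc_h_rc_29_3 lc_h_rc_29_1 lc_h_rc_41_2 lc_h_rc_22_1 lc_h_rc_41_4 lc_h_rc_29_3 lc_h_rc_22_1 lc_h_Cert_tree lc_h_rc_40_0 lc_h_rc_14_1 lc_h_rc_5_1 lc_h_rc_5_1 lc_h_rc_22_1 lc_h_Cert_tree lc_h_Cert_tree lc_h_rc_40_0 lc_h_rc_40_0 lc_h_rc_40_0 lc_h_rc_40_0 lc_h_rc_5_1 lc_h_Cert_tree lc_h_rc_35_1 lc_h_rc_40_0 lc_h_rc_22_1 lc_h_rc_40_0 lc_h_Cert_tree lc_h_rc_40_0 lc_h_rc_5_1 lc_h_rc_22_1 lc_h_rc_14_1 lc_h_rc_14_1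 lc_h_rc_22_3 lc_h_rc_14_1 lc_h_rc_5_1 lc_h_rc_40_0 lc_h_Cert_tree lc_h_rc_35_1) (@D3.rec (fun _ => (Cert rels S Gen.h)) lc_h_rc_40_0 lc_h_rc_40_0 lc_h_rc_40_0 lc_h_rc_5_1 lc_h_rc_22_1 lc_h_rc_5_1 lc_h_rc_22_1 lc_h_rc_5_1 lc_h_rc_14_1 lc_h_rc_22_1 lc_h_rc_5_1 lc_h_rc_40_1 lc_h_rc_5_1 lc_h_rc_40_0 lc_h_rc_5_1 lc_h_rc_22_1 lc_h_rc_41_4 lc_h_rc_5_3 lc_h_rc_22_1 lc_h_rc_51_1 lc_h_rc_22_1 lc_h_rc_22_1 lc_h_rc_56_41 lc_h_rc_14_1 lc_h_rc_41_2 lc_h_rc_41_2 lc_h_rc_22_3 lc_h_rc_41_2 lc_h_rc_41_2 lc_h_Cert_tree lc_h_Cert_tree lc_h_rc_40_0 lc_h_rc_5_1 lc_h_rc_40_0 lc_h_rc_47_3 lc_h_rc_40_0 lc_h_rc_40_0 lc_h_rc_5_1 lc_h_rc_14_1 lc_h_rc_14_1 lc_h_rc_56_34 lc_h_rc_35_3 lc_h_rc_14_1 lc_h_rc_22_1 lc_h_rc_14_1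 lc_h_rc_22_1 lc_h_rc_14_1 lc_h_rc_14_1 lc_h_Cert_tree lc_h_Cert_tree lc_h_rc_40_0) (@D3.rec (fun _ => (Cert rels S Gen.h)) lc_h_rc_40_0 lc_h_rc_40_0 lc_h_rc_5_3 lc_h_rc_40_0 lc_h_rc_22_1 lc_h_rc_5_1 lc_h_rc_14_1 lc_h_rc_14_1 lc_h_Cert_tree lc_h_rc_40_0 lc_h_Cert_tree lc_h_rc_22_1 lc_h_rc_40_0 lc_h_rc_40_0 lc_h_rc_56_34 lc_h_rc_56_41 lc_h_rc_51_3 lc_h_Cert_tree lc_h_rc_40_0 lc_h_rc_40_0 lc_h_rc_51_3 lc_h_Cert_tree lc_h_rc_40_0 lc_h_rc_40_0 lc_h_rc_35_3 lc_h_rc_14_1 lc_h_Cert_tree lc_h_rc_5_1 lc_h_rc_40_0 lc_h_rc_5_1 lc_h_rc_40_0 lc_h_rc_40_0 lc_h_rc_41_2 lc_h_rc_14_1 lc_h_rc_14_1 lc_h_rc_41_4 lc_h_rc_56_34 lc_h_rc_40_0 lc_h_rc_56_34 lc_h_rc_41_4 lc_h_rc_40_0 lc_h_rc_22_1 lc_h_rc_47_3 lc_h_Cert_tree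 lc_h_rc_22_1 lc_h_rc_40_0 lc_h_rc_14_1 lc_h_rc_40_0 lc_h_rc_5_1 lc_h_rc_14_1 lc_h_rc_14_1) (@D3.rec (fun _ => (Cert rels S Gen.h)) lc_h_rc_40_0 lc_h_rc_41_2 lc_h_rc_14_1 lc_h_rc_41_2 lc_h_rc_41_2 lc_h_rc_14_1 lc_h_rc_41_2 lc_h_rc_5_3 lc_h_rc_14_1 lc_h_rc_14_1 lc_h_rc_40_0 lc_h_rc_22_1 lc_h_rc_22_1 lc_h_Cert_tree lc_h_rc_40_0 lc_h_rc_14_1 lc_h_rc_5_1 lc_h_rc_5_1 lc_h_rc_5_1 lc_h_rc_22_1 lc_h_rc_22_1 lc_h_Cert_tree lc_h_Cert_tree lc_h_rc_40_0 lc_h_rc_5_1 lc_h_rc_40_0 lc_h_rc_22_1 lc_h_rc_40_0 lc_h_rc_40_0 lc_h_rc_41_2 lc_h_rc_14_1 lc_h_rc_40_0 lc_h_rc_22_1 lc_h_rc_35_1 lc_h_rc_22_1 lc_h_rc_14_1 lc_h_rc_5_1 lc_h_Cert_tree lc_h_Cert_tree lc_h_rc_40_0 lc_h_rc_40_0 lc_h_rc_40_0 lc_h_rc_51_1 lc_h_rc_40_0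 lc_h_rc_5_1 lc_h_rc_56_41 lc_h_rc_40_0 lc_h_rc_41_2 lc_h_rc_40_0 lc_h_rc_22_1 lc_h_rc_56_34) (@D3.rec (fun _ => (Cert rels S Gen.h)) lc_h_rc_35_3 lc_h_rc_56_34 lc_h_rc_35_1 lc_h_rc_40_0 lc_h_rc_14_1 lc_h_rc_5_1 lc_h_Cert_tree lc_h_rc_40_0 lc_h_rc_40_0 lc_h_rc_14_1 lc_h_Cert_tree lc_h_rc_29_3 lc_h_rc_40_0 lc_h_rc_40_0 lc_h_rc_5_1 lc_h_rc_14_1 lc_h_rc_56_41 lc_h_rc_14_1 lc_h_rc_40_0 lc_h_rc_5_1 lc_h_rc_14_1 lc_h_rc_22_1 lc_h_rc_14_1 lc_h_rc_5_1 lc_h_rc_14_1 lc_h_rc_47_3 lc_h_rc_22_1 lc_h_rc_5_1 lc_h_rc_22_1 lc_h_rc_14_1 lc_h_rc_5_3 lc_h_rc_41_2 lc_h_rc_5_1 lc_h_Cert_tree lc_h_rc_40_0 lc_h_rc_5_1 lc_h_rc_40_0 lc_h_rc_14_1 lc_h_rc_56_48 lc_h_rc_22_1 lc_h_rc_41_0 lc_h_Cert_tree lc_h_rc_40_0 lc_h_rc_40_0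 lc_h_rc_51_1 lc_h_rc_14_1 lc_h_rc_40_0 lc_h_rc_41_0 lc_h_rc_40_0 lc_h_rc_40_0 lc_h_rc_40_0) (@D3.rec (fun _ => (Cert rels S Gen.h)) lc_h_rc_14_1 lc_h_rc_14_1 lc_h_rc_40_0 lc_h_rc_41_2 lc_h_rc_47_3 lc_h_rc_42_1 lc_h_rc_22_3 lc_h_rc_40_0 lc_h_rc_14_1 lc_h_rc_41_2 lc_h_rc_42_1 lc_h_rc_40_0 lc_h_rc_14_1 lc_h_rc_5_1 lc_h_rc_5_1 lc_h_Cert_tree lc_h_rc_40_0 lc_h_rc_22_1 lc_h_rc_40_0 lc_h_rc_47_3 lc_h_rc_42_1 lc_h_rc_29_1 lc_h_rc_14_1 lc_h_Cert_tree lc_h_rc_40_0 lc_h_rc_40_0 lc_h_rc_14_1 lc_h_rc_56_34 lc_h_rc_42_1 lc_h_rc_5_1 lc_h_rc_14_1 lc_h_rc_14_1 lc_h_rc_40_0 lc_h_rc_14_1 lc_h_rc_40_0 lc_h_rc_14_1 lc_h_rc_41_0 lc_h_rc_22_3 lc_h_rc_14_1 lc_h_rc_47_1 lc_h_rc_14_1 lc_h_rc_14_1 lc_h_rc_40_0 lc_h_rc_22_1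 lc_h_rc_40_0 lc_h_rc_14_1 lc_h_rc_14_1 lc_h_rc_22_1 lc_h_rc_40_0 lc_h_rc_14_1 lc_h_rc_40_0)
def ce_h : Pt → (Cert rels S Gen.h) := @Pt.rec (fun _ => (Cert rels S Gen.h)) (@D1.rec (fun _ => D2 → D3 → (Cert rels S Gen.h)) ce_h_0 ce_h_1 ce_h_2 ce_h_3 ce_h_4 ce_h_5 ce_h_6 ce_h_7 ce_h_8 ce_h_9 ce_h_10 ce_h_11 ce_h_12 ce_h_13 ce_h_14 ce_h_15 ce_h_16 ce_h_17 ce_h_18 ce_h_19 ce_h_20 ce_h_21 ce_h_22)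
def isSeed_h (p : Pt) : Bool := false

end

end Cfsg.Agent.Helper28.S1689
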