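import Cfsg.Agent.Lib.Helper28.S1689.Tree

set_option autoImplicit false
set_option maxRecDepth 100000
set_option linter.all false

namespace Cfsg.Agent.Helper28.S1689

open Cfsg.Agent.Helper28
open Cfsg.Spor.Fi23 (Gen)

noncomputable section

def lv_i_0 : D2 → D3 → Nat := @D2.rec (fun _ => D3 → Nat) (@D3.rec (fun _ => Nat) 1 2 3 4 5 6 7 0 8 0 1 9 0 0 1 0 0 1 0 1 0 1 0 0 1 0 1 8 0 0 1 0 1 0 1 9 0 1 9 0 0 1 0 1 10 0 0 1 10 0 1) (@D3.rec (fun _ => Nat) 10 0 1 10 10 0 1 0 0 1 11 0 1 11 0 0 1 0 1 11 11 0 1 11 11 1 11 11 11 0 0 1 12 0 0 1 0 1 12 12 0 1 12 12 0 0 0 1 1 2 0) (@D3.rec (fun _ => Nat) 1 12 12 12 1 12 12 12 12 12 12 12 12 0 0 0 1 0 1 13 13 0 0 0 1 1 2 0 1 13 13 13 1 13 13 13 0 0 1 0 0 1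 1 2 2 3 1 13 13 13 13) (@D3.rec (fun _ => Nat) 13 13 13 13 13 13 13 13 13 13 13 13 0 0 1 0 0 0 1 1 2 0 1 14 14 14 14 0 0 1 0 0 1 1 2 2 3 1 14 14 14 14 14 14 14 14 14 14 0 0 0) (@D3.rec (fun _ => Nat) 1 0 1 2 0 1 1 2 2 3 3 4 4 14 14 14 14 14 14 14 14 14 14 14 14 14 14 14 14 14 14 14 14 14 14 0 0 0 1 0 1 2 0 0 1 0 0 1 1 2 2) (@D3.rec (fun _ => Nat) 3 1 15 15 15 15 15 15 0 0 0 1 0 1 2 0 1 1 2 2 3 3 4 4 15 15 15 15 15 15 15 15 15 15 15 15 15 15 0 0 1 0 1 0 1 2 0 1 2 3 1) (@D3.rec (fun _ => Nat) 2 2 3 3 4 4 4 4 5 5 5 15 15 15 15 15 15 15 15 15 15 15 15 15 15 15 15 15 15 15 15 15 15 15 15 15 15 15 15 71 0 0 0 1 0 0 1 0 1 2 0) (@D3.rec (fun _ => Nat) 1 2 3 0 0 0 1 0 1 2 0 1 1 2 2 3 3 4 4 16 16 16 16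 16 16 16 16 16 16 0 0 1 0 1 0 1 2 0 1 2 3 1 2 2 3 3 4 4 4 4 5) (@D3.rec (fun _ => Nat) 5 5 16 16 16 16 16 16 16 16 16 16 16 16 16 16 16 16 16 16 16 0 0 1 0 1 2 0 1 2 0 1 2 3 65 1 14 3 4 4 2 3 3 4 4 4 4 5 5 5 5) (@D3.rec (fun _ => Nat) 5 5 6 6 6 6 6 16 16 16 16 16 16 16 16 16 16 16 16 16 16 16 16 16 16 16 16 16 16 16 71 16 16 16 16 16 16 16 16 16 66 16 0 1 0 0 0 1 1 2 0) (@D3.rec (fun _ => Nat) 1 0 1 2 1 2 3 1 15 3 4 4 0 0 1 0 1 0 1 2 1 2 3 1 2 2 3 3 4 4 4 4 5 5 5 17 17 17 17 17 17 17 17 17 17 17 17 0 17 17 0) (@D3.rec (fun _ => Nat) 0 1 0 1 2 0 1 2 0 1 2 3 1 15 3 4 4 2 3 3 4 4 4 4 5 5 5 5 5 5 6 6 6 6 6 17 17 17 17 17 17 17 17 17 17 17 17 17 17 17 17) (@D3.rec (fun _ => Nat) 17 17 17 17 17 17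 17 0 0 1 0 1 2 0 0 1 2 3 0 1 2 3 72 1 15 3 4 4 15 4 4 72 5 5 3 4 4 4 4 5 5 5 5 5 5 6 6 6 6 6 6) (@D3.rec (fun _ => Nat) 6 6 6 6 7 7 7 7 7 7 17 17 17 17 17 17 17 17 17 17 17 17 71 17 17 17 17 17 17 17 17 17 17 17 17 17 17 73 17 17 17 17 17 73 17 17 17 17 17 73 0) (@D3.rec (fun _ => Nat) 0 1 17 0 0 1 0 1 1 2 2 3 0 1 2 1 2 3 16 3 4 4 16 16 4 4 5 5 5 0 0 1 0 1 2 0 1 2 1 2 3 16 3 4 4 2 3 3 4 4 4) (@D3.rec (fun _ => Nat) 4 5 5 5 5 5 5 6 6 6 6 6 18 18 18 18 18 18 18 18 18 18 18 18 18 18 0 18 18 18 18 0 1 18 0 1 0 1 2 0 0 1 2 3 0 1 2 3 1 16 3) (@D3.rec (fun _ => Nat) 4 4 16 4 4 5 5 5 3 4 4 4 4 5 5 5 5 5 5 6 6 6 6 6 6 6 6 6 6 7 7 7 7 7 7 18 18 18 18 18 18 18 18 18 18 18 18 0 18 18 18) (@D3.rec (fun _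 => Nat) 18 18 18 18 18 18 18 18 18 18 18 0 18 18 68 1 0 1 2 0 0 1 2 3 67 0 1 1 16 3 4 4 67 1 16 3 4 4 16 4 4 72 5 5 16 5 5 70 6 6 6) (@D3.rec (fun _ => Nat) 4 4 5 5 5 5 5 5 6 6 6 6 6 6 6 6 6 6 7 7 7 7 71 7 7 7 7 7 7 15 7 7 8 8 8 8 8 8 8 8 18 18 18 18 18 18 18 18 18 71 18) (@D3.rec (fun _ => Nat) 18 18 18 18 18 18 69 18 18 18 18 18 18 18 73 18 18 18 18 18 73 18 18 18 18 18 18 68 18 18 76 0 0 1 1 18 18 0 0 1 1 2 1 2 2 3 3 4 4 1 2) (@D3.rec (fun _ => Nat) 3 17 3 4 4 17 4 4 5 5 5 17 17 17 5 5 5 6 6 6 6 6 0 1 0 1 2 0 1 2 3 1 2 3 17 3 4 4 17 4 4 5 5 5 3 4 4 4 4 5 5) (@D3.rec (fun _ => Nat) 5 5 5 5 6 6 6 6 6 6 6 6 6 6 7 7 7 7 0 7 7 19 19 19 19 19 19 19 19 19 19 19 19 0 19 19 19 19 19 0 19 19 19 0 1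 19 19 0 19 0 1) (@D3.rec (fun _ => Nat) 0 1 2 0 0 1 2 3 0 1 1 17 3 4 4 1 17 3 4 4 17 4 4 5 5 5 17 5 5 5 69 6 6 6 6 4 4 5 5 5 5 5 5 6 6 6 6 6 6 6 6) (@D3.rec (fun _ => Nat) 6 6 7 7 7 7 0 7 7 7 7 7 7 16 7 7 8 8 8 8 8 8 8 8 19 19 19 19 19 19 19 19 19 0 19 19 19 19 19 19 68 19 19 0 1 19 19 19 19 19 19) (@D3.rec (fun _ => Nat) 19 0 19 19 19 19 19 70 19 0 1 19 70 0 0 1 2 3 74 0 1 1 17 3 4 4 75 0 1 17 17 4 4 74 5 5 17 4 4 74 5 5 17 5 5 72 6 6 6 17 6) (@D3.rec (fun _ => Nat) 6 6 72 70 7 72 7 7 5 5 5 6 6 6 6 6 6 6 6 6 6 7 7 7 7 73 7 7 7 7 7 7 73 7 7 8 8 8 8 8 8 71 8 8 8 8 8 16 8 8 8) (@D3.rec (fun _ => Nat) 16 8 9 9 9 9 9 9 9 9 9 19 19 19 19 73 19 19 19 19 19 19 19 19 73 19 19 19 19 19 19 71 19 19 19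 19 19 19 19 75 19 19 76 19 19 19 19 19 80 75 19)
def lv_i_1 : D2 → D3 → Nat := @D2.rec (fun _ => D3 → Nat) (@D3.rec (fun _ => Nat) 76 0 1 0 1 21 19 19 19 19 0 1 1 2 2 3 2 3 3 4 4 4 4 5 5 5 18 3 4 4 18 4 4 5 5 5 18 18 5 5 5 6 6 6 6 6 18 18 18 18 18) (@D3.rec (fun _ => Nat) 6 6 6 6 6 7 7 7 7 0 7 7 0 1 2 0 1 2 3 1 18 3 4 4 18 3 4 4 18 4 4 5 5 5 18 18 5 5 5 69 6 6 6 6 4 4 5 5 5 5 5) (@D3.rec (fun _ => Nat) 5 6 6 6 6 6 6 6 6 6 6 7 7 7 7 0 7 7 7 7 7 7 0 7 7 8 8 8 8 0 8 8 8 0 1 8 20 20 20 20 20 20 20 20 20 0 20 20 20 20 20) (@D3.rec (fun _ => Nat) 20 0 20 20 20 0 1 20 20 0 20 20 20 0 1 20 20 0 20 0 1 20 20 0 0 1 0 1 0 0 1 2 3 0 1 1 18 3 4 4 0 1 18 18 4 4 5 5 5 18 4) (@D3.rec (fun _ => Nat) 4 5 5 5 18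 5 5 5 69 6 6 6 6 18 6 6 6 6 67 7 7 7 0 7 7 5 5 5 6 6 6 6 6 6 6 6 6 6 7 7 7 7 0 7 7 7 7 7 7 0 7) (@D3.rec (fun _ => Nat) 7 8 8 8 8 66 8 8 8 0 1 8 8 8 8 8 17 8 8 8 17 8 9 9 9 9 9 9 9 9 9 20 20 20 20 0 20 20 20 20 20 20 68 20 20 20 0 1 20 20 20) (@D3.rec (fun _ => Nat) 20 20 64 20 66 20 20 0 1 20 20 20 20 20 70 20 20 20 0 1 20 20 20 70 20 70 0 1 70 69 0 1 0 1 18 3 4 4 79 0 1 18 18 4 4 74 5 5 77 79 1) (@D3.rec (fun _ => Nat) 18 18 5 5 75 6 6 6 18 5 5 72 6 6 6 18 6 6 6 72 72 7 72 7 7 18 7 7 7 71 70 72 70 8 8 70 8 6 6 6 6 6 7 7 7 7 73 7 7 7 7) (@D3.rec (fun _ => Nat) 7 7 73 7 7 8 8 8 8 8 8 73 8 8 8 8 8 8 8 71 8 9 9 9 9 9 9 71 9 71 9 9 17 9 9 17 9 9 17 9 9 17 9 17 10 10 10 10 10 10 10) (@D3.rec (fun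 _ => Nat) 10 10 10 10 20 20 20 20 20 20 73 20 20 20 20 20 20 20 74 20 71 20 20 20 71 20 20 20 20 20 76 75 20 76 20 20 20 20 80 78 78 0 1 22 1 22 20 20 20 20 20) (@D3.rec (fun _ => Nat) 20 20 1 2 2 3 3 4 4 3 4 4 4 4 5 5 5 5 5 5 71 6 6 6 6 19 4 4 5 5 5 19 19 5 5 5 6 6 6 6 6 19 19 19 6 6 6 6 6 7 7) (@D3.rec (fun _ => Nat) 7 7 0 7 7 19 19 19 19 19 19 19 19 7 7 7 7 0 7 7 8 8 8 8 0 8 8 8 0 1 8 0 1 2 3 1 19 3 4 4 19 19 4 4 5 5 5 19 4 4 5) (@D3.rec (fun _ => Nat) 5 5 19 19 5 5 5 71 6 6 6 6 19 19 6 6 6 6 63 7 7 7 0 7 7 5 5 5 6 6 6 6 6 6 6 6 6 6 7 7 7 7 0 7 7 7 7 7 7 0 7) (@D3.rec (fun _ => Nat) 7 8 8 8 8 0 8 8 8 0 1 8 8 8 8 8 62 8 8 8 0 1 8 61 9 60 9 9 59 9 9 0 1 9 9 0 9 0 1 21 21 21 21 0 21 21 21 21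 21 21 0) (@D3.rec (fun _ => Nat) 21 21 21 0 1 21 21 21 0 21 21 0 21 21 0 1 21 21 0 21 0 1 21 21 0 1 21 21 0 21 0 1 21 21 0 0 1 0 1 21 0 107 104 1 0 1 1 0 1 0 1) (@D3.rec (fun _ => Nat) 19 3 4 4 0 1 19 19 4 4 5 5 5 78 1 19 19 5 5 5 71 6 6 6 6 19 5 5 5 71 6 6 6 6 19 6 6 6 6 69 7 7 7 0 7 7 19 7 7 7 7) (@D3.rec (fun _ => Nat) 7 67 67 8 8 0 8 8 8 0 1 8 6 6 6 6 6 7 7 7 7 0 7 7 7 7 7 7 0 7 7 8 8 8 8 68 8 8 8 0 1 8 8 8 8 8 68 8 8 8 0) (@D3.rec (fun _ => Nat) 1 8 9 9 9 9 66 9 9 66 9 9 0 9 0 1 9 9 18 9 9 18 9 9 18 9 9 18 9 18 57 10 10 10 10 10 10 10 10 10 10 21 21 21 21 70 21 21 21 0 1) (@D3.rec (fun _ => Nat) 21 21 21 21 21 64 21 21 70 21 21 0 21 0 1 21 21 21 21 62 70 21 68 0 1 21 21 21 21 72 21 21 72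 21 0 0 1 21 21 21 72 72 72 0 1 70 81 0 0 1 1) (@D3.rec (fun _ => Nat) 19 19 4 4 76 5 5 77 80 1 19 19 5 5 77 6 6 6 77 80 19 19 6 6 6 77 75 7 75 7 7 19 6 6 6 74 74 7 74 7 7 19 7 7 7 73 74 74 72 8 8) (@D3.rec (fun _ => Nat) 74 8 19 8 8 8 71 72 72 72 72 9 71 9 72 7 7 7 7 75 7 7 8 8 8 8 8 8 75 8 8 8 8 8 8 8 75 8 9 9 9 9 9 9 74 9 73 9 9 9 9) (@D3.rec (fun _ => Nat) 9 9 73 9 73 10 10 10 10 10 10 10 73 73 10 10 18 10 10 18 10 10 10 18 18 10 18 10 18 10 10 18 18 18 11 11 11 11 11 11 11 11 11 11 11 21 21 21 21 21 21) (@D3.rec (fun _ => Nat) 76 21 75 21 21 21 21 21 21 74 76 73 21 21 21 21 21 78 78 78 21 21 82 82 78 0 1 23 23 23 21 21 21 21 21 21 21 21 21 21 21 21 21 2 3 3 4 4 4 4 5) (@D3.rec (fun _ => Nat)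 5 5 4 4 5 5 5 5 5 5 71 6 6 6 6 6 6 6 6 69 7 7 7 0 7 7 20 20 5 5 5 6 6 6 6 6 20 20 20 6 6 6 6 6 7 7 7 7 0 7 7) (@D3.rec (fun _ => Nat) 20 20 20 20 20 7 7 7 7 0 7 7 8 8 8 8 0 8 8 8 0 1 8 20 20 20 20 20 20 20 20 20 58 20 20 8 8 8 8 62 8 8 8 0 1 8 63 9 58 9 9) (@D3.rec (fun _ => Nat) 59 9 9 0 1 9 9 0 9 0 1 0 1 20 3 4 4 20 20 4 4 5 5 5 20 20 20 5 5 5 71 6 6 6 6 20 20 5 5 5 71 6 6 6 6 20 20 6 6 6 6) (@D3.rec (fun _ => Nat) 65 7 7 7 0 7 7 20 20 20 7 7 7 0 7 7 69 63 8 8 0 8 8 8 0 1 8 6 6 6 6 6 7 7 7 7 0 7 7 7 7 7 7 0 7 7 8 8 8 8 0)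
def lv_i_2 : D2 → D3 → Nat := @D2.rec (fun _ => D3 → Nat) (@D3.rec (fun _ => Nat) 8 8 8 0 1 8 8 8 8 8 0 8 8 8 0 1 8 9 9 0 9 9 0 9 9 0 1 9 9 0 9 0 1 9 9 9 9 9 62 9 9 0 9 0 1 61 10 10 58 10 10) (@D3.rec (fun _ => Nat) 10 57 10 0 10 0 1 10 10 0 0 1 0 1 22 22 22 22 0 22 22 22 0 1 22 22 22 0 22 22 0 22 22 0 1 22 22 0 22 0 1 22 0 22 22 0 1 22 22 22 0) (@D3.rec (fun _ => Nat) 0 1 22 0 22 0 1 22 22 0 0 1 0 1 22 0 22 0 1 22 22 0 0 1 0 1 22 0 0 0 1 0 1 1 22 105 108 1 104 0 1 0 0 1 1 20 20 4 4 5 5) (@D3.rec (fun _ => Nat) 5 79 1 20 20 5 5 5 71 6 6 6 6 20 20 6 6 6 6 71 7 7 7 75 7 7 20 6 6 6 6 69 7 7 7 0 7 7 20 7 7 7 7 7 67 69 8 8 0 8 8) (@D3.rec (fun _ => Nat) 8 0 1 8 20 8 8 8 8 8 8 65 65 67 67 9 66 9 9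 0 1 9 9 0 9 0 1 7 7 7 7 0 7 7 8 8 8 8 68 8 8 8 0 1 8 8 8 8 8 68 8) (@D3.rec (fun _ => Nat) 8 8 0 1 8 9 9 9 9 66 9 9 68 9 9 0 9 0 1 9 9 9 9 66 9 9 66 9 9 0 9 0 1 10 10 10 10 10 10 64 66 10 66 10 66 10 10 0 1 0 1) (@D3.rec (fun _ => Nat) 10 10 10 19 10 10 10 19 10 19 10 19 10 10 19 19 19 59 11 11 11 11 11 11 11 11 11 11 22 22 22 22 66 22 22 70 22 22 0 22 0 1 22 22 22 22 22 22 70 70 22) (@D3.rec (fun _ => Nat) 70 22 68 22 0 0 1 0 1 22 22 22 64 68 68 68 1 22 22 22 22 22 72 72 22 72 72 22 0 0 1 1 22 22 72 72 70 72 0 1 70 81 81 0 81 1 1 20 20 20 5) (@D3.rec (fun _ => Nat) 5 77 6 6 6 79 81 20 20 6 6 6 77 75 7 76 7 7 81 20 20 7 7 7 77 75 78 73 8 8 74 8 20 7 7 7 73 74 74 74 8 8 74 97 20 8 8 8 73 73 72)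 (@D3.rec (fun _ => Nat) 74 72 9 74 9 72 9 9 70 71 72 72 72 72 10 10 72 71 72 8 8 8 8 8 8 75 8 9 9 9 9 9 9 9 9 9 9 9 74 9 73 10 10 10 10 10 10 10 10 10 10) (@D3.rec (fun _ => Nat) 10 10 73 72 73 11 11 11 11 11 11 11 19 11 19 11 19 11 11 19 11 19 19 11 11 19 19 19 11 19 19 19 19 12 12 12 12 12 12 12 12 12 12 101 22 22 22 22 22 22 22) (@D3.rec (fun _ => Nat) 22 22 22 22 82 80 1 24 24 24 24 22 22 22 22 22 22 22 22 22 22 22 22 22 22 22 22 22 22 0 22 22 3 4 4 4 4 5 5 5 5 5 5 73 6 6 6 6 5 5 5) (@D3.rec (fun _ => Nat) 73 6 6 6 6 6 6 6 6 71 7 7 7 0 7 7 7 7 7 0 7 7 69 71 8 8 0 8 8 8 0 1 8 21 21 21 6 6 6 6 6 7 7 7 7 0 7 7 21 21 21) (@D3.rec (fun _ => Nat) 21 21 7 7 7 7 0 7 7 8 8 8 8 0 8 8 8 0 1 8 21 21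 21 21 0 21 21 8 8 8 8 0 8 8 8 0 1 8 9 9 0 9 9 0 9 9 0 1 9 9 0) (@D3.rec (fun _ => Nat) 9 0 1 21 21 21 21 21 21 21 21 21 58 21 9 9 9 9 9 60 9 9 0 9 0 1 61 10 10 58 10 10 10 59 10 0 10 0 1 10 10 0 0 1 0 1 1 21 21 4 4) (@D3.rec (fun _ => Nat) 5 5 5 21 21 21 5 5 5 73 6 6 6 6 21 21 21 21 6 6 6 6 73 7 7 7 0 7 7 21 21 6 6 6 6 65 7 7 7 0 7 7 21 21 21 7 7 7 0 7 7) (@D3.rec (fun _ => Nat) 71 71 8 8 0 8 8 8 0 1 8 21 0 21 21 8 8 0 8 8 8 0 1 8 67 69 0 63 9 0 9 9 0 1 9 9 0 9 0 1 7 7 7 7 0 7 7 8 8 8 8) (@D3.rec (fun _ => Nat) 0 8 8 8 0 1 8 8 8 8 8 0 8 8 8 0 1 8 9 9 0 9 9 0 9 9 0 1 9 9 0 9 0 1 9 9 0 9 9 0 9 9 0 1 9 9 0 9 0 1 10) (@D3.rec (fun _ => Nat) 10 0 10 10 0 1 10 10 10 0 0 1 10 0 10 0 1 10 10 0 0 1 0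 1 10 10 10 10 10 10 60 10 62 10 10 0 0 1 0 1 59 61 11 58 11 60 11 11 57 11 59) (@D3.rec (fun _ => Nat) 11 11 0 0 1 0 1 11 0 0 0 1 0 1 1 23 23 0 23 23 0 23 23 0 1 23 23 0 23 0 1 23 0 23 23 0 1 23 23 23 0 0 1 23 0 23 0 1 23 23 0) (@D3.rec (fun _ => Nat) 0 1 0 1 23 23 0 1 23 0 23 0 1 23 0 23 0 0 1 0 1 23 23 0 0 1 0 1 23 0 0 0 1 0 1 1 23 23 0 0 1 0 1 23 0 0 0 1 0 1 1) (@D3.rec (fun _ => Nat) 23 103 0 1 106 1 105 1 0 1 9 102 0 1 0 80 1 1 21 21 21 5 5 5 73 6 6 6 6 21 21 6 6 6 6 73 7 7 7 76 7 7 21 21 7 7 7 7 7 73 71) (@D3.rec (fun _ => Nat) 8 8 74 8 8 8 74 8 21 7 7 7 7 7 69 71 8 8 0 8 8 8 0 1 8 21 8 8 8 8 8 8 67 69 69 69 9 68 9 9 0 1 9 9 0 9 0 1 9 9 9) (@D3.rec (fun _ => Nat) 9 9 9 67 65 67 67 67 67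 69 10 10 66 68 10 0 10 0 1 10 10 0 0 1 0 1 8 8 8 8 70 8 8 8 0 1 8 9 9 9 9 68 9 9 70 9 1 9 9 9 9) (@D3.rec (fun _ => Nat) 68 9 9 70 9 9 0 9 0 1 10 10 10 10 10 10 68 68 10 70 10 70 1 1 10 10 10 10 10 10 66 10 68 10 68 10 10 0 0 1 0 1 11 11 11 11 11 11 66 11 66) (@D3.rec (fun _ => Nat) 66 68 11 11 68 68 1 1 11 11 11 20 11 20 11 11 20 11 20 11 11 20 20 20 11 20 20 20 20 63 59 12 12 12 12 12 12 0 12 12 12 23 23 23 23 23 23 72 72 23 72) (@D3.rec (fun _ => Nat) 23 72 1 1 23 23 23 23 23 23 72 23 70 70 70 23 70 72 70 1 1 1 23 64 70 68 70 23 23 23 23 23 74 74 74 72 23 74 74 1 1 23 0 74 74 72 74 0 1 20 72)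
def lv_i_3 : D2 → D3 → Nat := @D2.rec (fun _ => D3 → Nat) (@D3.rec (fun _ => Nat) 79 83 82 0 82 1 21 21 21 6 6 6 82 21 21 7 7 7 79 82 21 21 8 8 8 79 96 77 21 8 8 75 76 9 9 75 75 75 74 10 10 72 73 73 74 72 74 9 9 9 9) (@D3.rec (fun _ => Nat) 9 92 91 99 10 10 10 10 10 103 101 11 11 11 11 100 101 99 12 12 12 12 20 12 20 12 12 20 20 20 12 12 12 20 20 20 20 20 20 20 13 13 13 13 13 13 99 23 23 23 23) (@D3.rec (fun _ => Nat) 84 84 25 25 25 25 25 25 25 23 23 23 23 23 23 23 23 23 23 23 23 23 23 23 23 23 23 23 0 23 23 23 23 23 23 0 23 23 23 0 1 23 4 4 5 5 5 5 5 5 73) (@D3.rec (fun _ => Nat) 6 6 6 6 6 6 6 6 73 7 7 7 0 7 7 6 6 6 6 71 7 7 7 0 7 7 7 7 7 0 7 7 69 71 8 8 0 8 8 8 0 1 8 8 8 0 8 8 8 0 1) (@D3.rec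 (fun _ => Nat) 8 67 69 0 71 9 0 9 9 0 1 9 9 0 9 0 1 22 22 22 22 22 7 7 7 7 0 7 7 8 8 8 8 0 8 8 8 0 1 8 22 22 22 22 0 22 22 8 8 8 8) (@D3.rec (fun _ => Nat) 0 8 8 8 0 1 8 9 9 0 9 9 0 9 9 0 1 9 9 0 9 0 1 22 22 22 22 0 22 22 22 0 1 22 9 9 0 9 9 0 9 9 0 1 9 9 0 9 0 1 10) (@D3.rec (fun _ => Nat) 10 0 10 10 0 1 10 10 10 0 0 1 10 0 10 0 1 10 10 0 0 1 0 1 22 22 22 22 22 22 22 22 22 62 22 60 10 10 10 10 10 10 60 10 62 10 10 0 0 1 0) (@D3.rec (fun _ => Nat) 1 61 63 11 56 11 58 11 11 57 11 59 11 11 0 0 1 0 1 11 0 0 0 1 0 1 1 22 22 22 22 5 5 5 73 6 6 6 6 22 22 22 22 6 6 6 6 73 7 7 7) (@D3.rec (fun _ => Nat) 0 7 7 22 22 22 22 22 7 7 7 0 7 7 73 71 8 8 0 8 8 8 0 1 8 22 22 22 7 7 7 0 7 7 71 71 8 8 0 8 8 8 0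 1 8 22 0 22 22 8 8) (@D3.rec (fun _ => Nat) 0 8 8 8 0 1 8 67 69 0 69 9 0 9 9 0 1 9 9 0 9 0 1 22 22 0 1 22 9 0 9 9 0 1 9 9 0 9 0 1 67 65 0 67 69 0 1 65 10 10 0) (@D3.rec (fun _ => Nat) 0 1 10 0 10 0 1 10 10 0 0 1 0 1 8 8 8 8 0 8 8 8 0 1 8 9 9 0 9 9 0 9 9 0 1 9 9 0 9 0 1 9 9 0 9 9 0 9 9 0 1) (@D3.rec (fun _ => Nat) 9 9 0 9 0 1 10 10 0 10 10 0 1 10 10 10 0 0 1 10 0 10 0 1 10 10 0 0 1 0 1 10 10 0 10 10 0 1 10 10 10 0 0 1 10 0 10 0 1 10 10) (@D3.rec (fun _ => Nat) 0 0 1 0 1 11 11 11 0 1 11 0 11 0 1 11 11 0 11 0 0 1 0 1 11 11 0 0 1 0 1 11 0 0 0 1 0 1 1 11 11 11 11 11 11 11 62 60 64 11 0) (@D3.rec (fun _ => Nat) 0 0 1 0 1 1 59 61 63 12 12 58 56 60 12 0 12 12 57 55 59 12 0 0 0 1 0 1 1 12 0 0 1 0 1 0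 1 0 1 9 24 0 24 24 0 1 24 24 24 0 0) (@D3.rec (fun _ => Nat) 1 24 0 24 0 1 24 24 0 0 1 0 1 24 24 0 1 24 0 24 0 1 24 24 0 24 0 0 1 0 1 24 24 0 0 1 0 1 24 0 0 0 1 0 1 1 24 0 24 0 1) (@D3.rec (fun _ => Nat) 24 24 0 0 1 0 1 24 24 0 0 1 0 0 1 0 1 0 1 24 0 0 0 1 0 1 1 24 0 0 1 0 1 0 1 0 1 9 24 0 0 0 1 0 1 1 24 103 0 1 0) (@D3.rec (fun _ => Nat) 1 0 1 0 1 10 106 107 108 1 102 10 0 1 10 104 1 0 81 1 22 22 22 6 6 6 6 73 7 7 22 22 7 7 7 7 7 73 71 8 8 75 8 22 22 8 8 8 8 8 8) (@D3.rec (fun _ => Nat) 73 71 74 69 9 76 9 9 73 9 22 8 8 8 8 8 8 67 69 69 71 9 68 9 9 0 1 96 1 9 9 9 9 9 9 67 67 67 69 67 69 69 10 10 68 68 10 0 10 0 1) (@D3.rec (fun _ => Nat) 1 1 10 10 10 10 10 10 65 65 65 65 67 67 67 67 11 11 66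 11 66 66 68 11 11 0 0 1 0 1 1 1 1 9 9 9 9 68 9 9 70 9 90 91 1 10 10 10 10 10 10) (@D3.rec (fun _ => Nat) 68 68 10 10 10 10 10 10 68 10 70 10 68 100 98 1 102 1 11 11 11 11 11 11 68 11 66 68 68 11 11 11 11 11 11 66 11 66 11 11 68 68 68 100 100 100 1 1 1 12 12) (@D3.rec (fun _ => Nat) 12 12 12 12 0 12 12 66 68 66 66 66 68 12 12 12 12 12 21 21 21 12 0 12 12 21 21 21 12 21 21 21 21 21 21 21 21 21 61 63 61 13 0 13 13 99 13 13 0 1 13) (@D3.rec (fun _ => Nat) 24 24 24 24 24 24 72 24 72 70 70 24 24 24 24 24 0 24 70 72 70 68 70 70 72 21 70 68 68 70 24 24 24 24 0 24 74 74 74 74 72 74 21 0 0 1 74 74 72 72 76) (@D3.rec (fun _ => Nat) 1 21 72 83 83 83 83 83 1 22 22 22 83 22 22 83 22 75 13 13 13 13 13 13 21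 21 21 21 21 14 14 14 14 84 26 26 26 26 26 26 26 26 26 26 26 24 24 24 24 24 24) (@D3.rec (fun _ => Nat) 24 24 24 24 24 24 75 24 24 24 24 24 24 0 24 24 24 24 24 24 0 24 24 24 0 1 24 24 24 0 24 24 0 24 24 0 1 24 24 0 24 0 1 5 5 5 75 6 6 6 6) (@D3.rec (fun _ => Nat) 6 6 6 6 75 7 7 7 0 7 7 7 7 7 0 7 7 75 73 8 8 75 8 8 8 0 1 8 7 7 7 0 7 7 71 73 8 8 0 8 8 8 0 1 8 8 8 0 8 8 8) (@D3.rec (fun _ => Nat) 0 1 8 69 71 0 73 9 0 9 9 0 1 9 9 0 9 0 1 9 0 9 9 0 1 9 9 0 9 0 1 69 69 0 69 71 0 1 73 10 10 0 0 1 10 0 10 0 1 10 10) (@D3.rec (fun _ => Nat) 0 0 1 0 1 23 23 23 23 0 23 23 8 8 8 8 0 8 8 8 0 1 8 9 9 0 9 9 0 9 9 0 1 9 9 0 9 0 1 23 23 23 23 0 23 23 23 0 1 23 9)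
def lv_i_4 : D2 → D3 → Nat := @D2.rec (fun _ => D3 → Nat) (@D3.rec (fun _ => Nat) 9 0 9 9 0 9 9 0 1 9 9 0 9 0 1 10 10 0 10 10 0 1 10 10 10 0 0 1 10 0 10 0 1 10 10 0 0 1 0 1 23 23 0 23 23 0 23 23 0 1 23) (@D3.rec (fun _ => Nat) 23 0 23 0 1 10 10 0 10 10 0 1 10 10 10 0 0 1 10 0 10 0 1 10 10 0 0 1 0 1 11 0 11 11 0 0 1 11 0 11 0 1 11 11 0 11 0 0 1 0 1) (@D3.rec (fun _ => Nat) 11 11 0 0 1 0 1 11 0 0 0 1 0 1 1 23 23 23 23 23 23 23 23 64 62 60 11 11 11 11 11 11 11 60 60 62 11 0 0 0 1 0 1 1 61 61 63 12 12 58 56) (@D3.rec (fun _ => Nat) 60 12 0 12 12 59 57 61 12 0 0 0 1 0 1 1 12 0 0 1 0 1 0 1 0 1 9 23 23 23 23 23 6 6 6 6 75 7 7 91 92 93 23 23 23 23 23 7 7 7 0) (@D3.rec (fun _ => Nat) 7 7 75 73 8 8 0 8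 8 93 0 1 95 23 23 23 23 0 23 23 8 8 0 8 8 8 0 1 8 73 71 9 9 9 0 1 9 9 0 95 0 1 23 0 23 23 8 8 0 8 8) (@D3.rec (fun _ => Nat) 8 0 1 8 69 71 0 73 9 0 9 9 0 1 9 9 0 9 0 1 23 23 0 1 23 9 0 9 9 0 1 9 9 0 9 0 1 69 69 0 71 69 0 1 71 10 10 0 0 1 10) (@D3.rec (fun _ => Nat) 0 10 0 1 10 10 0 0 1 0 1 23 0 23 0 1 10 10 0 1 10 0 10 0 1 10 10 0 0 1 0 1 67 0 67 67 0 0 1 69 0 71 0 1 11 11 0 11 0 0 1) (@D3.rec (fun _ => Nat) 0 1 11 11 0 0 1 0 1 11 0 0 0 1 0 1 1 9 9 0 9 9 0 9 9 0 1 9 9 0 9 0 1 10 10 0 10 10 0 1 10 10 10 0 0 1 10 0 10 0 1) (@D3.rec (fun _ => Nat) 10 10 0 0 1 0 1 10 10 0 10 10 0 1 10 10 10 0 0 1 10 0 10 0 1 10 10 0 0 1 0 1 11 11 11 0 1 11 0 11 0 1 11 11 0 11 0 0 1 0 1) (@D3.rec (fun _ => Nat) 11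 11 0 0 1 0 1 11 0 0 0 1 0 1 1 11 11 11 0 1 11 0 11 0 1 11 11 0 11 0 0 1 1 11 11 0 0 1 0 1 11 0 0 0 1 0 1 1 12 12 59) (@D3.rec (fun _ => Nat) 12 0 12 0 1 12 12 0 0 1 0 1 12 0 12 12 0 0 1 0 0 1 0 1 0 1 12 0 0 0 1 0 1 1 12 0 0 1 0 1 0 1 0 1 9 12 12 12 0 12 12) (@D3.rec (fun _ => Nat) 12 62 62 62 60 12 0 0 1 0 1 0 1 0 1 11 61 0 61 61 13 60 60 58 56 13 13 0 0 1 13 59 59 57 55 13 0 0 1 0 1 0 1 0 1 10 0 0 1 105 106) (@D3.rec (fun _ => Nat) 1 107 1 0 1 10 0 1 10 25 25 0 1 25 0 25 0 1 25 25 0 25 0 0 1 0 1 25 25 0 0 1 0 1 25 0 0 0 1 0 1 1 25 25 0 25 0 1 25 25 0) (@D3.rec (fun _ => Nat) 0 1 0 1 25 0 25 25 0 0 1 0 0 1 0 1 0 1 25 0 0 0 1 0 1 1 25 0 0 1 0 1 0 1 0 1 22 25 25 0 0 1 0 1 25 0 0 0 1 0 1) (@D3.rec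 (fun _ => Nat) 1 25 0 0 0 1 0 0 1 0 1 0 1 0 1 0 1 25 0 0 1 0 1 0 1 0 1 10 0 0 1 0 0 1 103 1 0 1 10 0 1 10 25 103 0 1 0 1 0 1 0) (@D3.rec (fun _ => Nat) 1 11 101 0 99 1 101 1 100 1 11 0 1 11 102 1 11 82 1 23 23 23 7 7 90 23 23 8 8 8 75 75 92 77 23 9 9 9 9 73 95 73 96 92 74 9 9 9 69 69 69) (@D3.rec (fun _ => Nat) 71 10 10 70 70 1 10 10 10 10 69 69 69 69 71 71 11 11 70 11 70 70 70 1 1 11 11 11 11 11 67 67 69 67 67 67 67 69 69 69 12 0 12 12 68 70 68 68 68 70 1) (@D3.rec (fun _ => Nat) 0 1 1 10 10 10 10 10 10 70 11 11 11 70 70 11 11 11 11 11 11 70 11 70 12 12 12 12 0 70 68 70 70 12 12 12 12 12 12 0 12 12 68 68 68 98 72 13 0 13 13) (@D3.rec (fun _ => Nat) 13 13 0 0 1 70 68 68 68 68 70 13 0 13 13 22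 22 22 22 13 13 0 0 1 13 22 22 22 22 22 22 22 22 22 63 63 0 65 65 14 14 0 1 108 14 14 0 0 1 25 25) (@D3.rec (fun _ => Nat) 25 25 0 74 74 72 72 25 0 25 25 0 0 1 72 80 72 72 70 72 72 70 70 70 72 25 0 25 25 0 0 1 76 76 76 76 74 74 1 76 76 1 74 74 74 85 84 84 84 84 23) (@D3.rec (fun _ => Nat) 23 84 23 84 14 14 14 14 106 86 27 27 27 27 27 27 27 27 27 27 27 27 27 27 25 25 25 25 25 25 25 25 25 92 25 25 25 25 25 25 25 94 25 25 25 25 25 0 25 25 25) (@D3.rec (fun _ => Nat) 0 1 25 25 25 0 25 25 0 25 25 0 1 25 25 0 25 0 1 25 25 0 25 25 0 1 25 25 25 0 0 1 25 0 25 0 1 25 25 0 0 1 0 1 6 6 6 6 75 7 7) (@D3.rec (fun _ => Nat) 7 92 7 7 7 7 7 0 7 7 75 73 8 8 75 8 8 8 94 1 8 8 8 75 8 8 8 0 1 8 73 73 9 9 9 79 9 9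 0 9 94 1 8 8 0 8 8 8 0 1 8) (@D3.rec (fun _ => Nat) 69 71 0 73 9 0 9 9 0 1 9 9 0 9 0 1 9 0 9 9 0 1 9 9 0 9 0 1 69 69 0 71 71 0 1 73 10 10 0 0 1 10 0 10 0 1 10 10 0 0 1) (@D3.rec (fun _ => Nat) 0 1 10 10 0 0 1 10 0 10 0 1 10 10 0 0 1 0 1 69 0 67 69 0 0 1 69 0 71 0 1 11 11 0 11 0 0 1 0 1 11 11 0 0 1 0 1 11 0 0 0) (@D3.rec (fun _ => Nat) 1 0 1 1 24 24 24 24 0 24 24 24 0 1 24 9 9 0 9 9 0 9 9 0 1 9 9 0 9 0 1 10 10 0 10 10 0 1 10 10 10 0 0 1 10 0 10 0 1 10 10) (@D3.rec (fun _ => Nat) 0 0 1 0 1 24 24 0 24 24 0 24 24 0 1 24 24 0 24 0 1 10 10 0 10 10 0 1 10 10 10 0 0 1 10 0 10 0 1 10 10 0 0 1 0 1 11 0 11 11 0)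
def lv_i_5 : D2 → D3 → Nat := @D2.rec (fun _ => D3 → Nat) (@D3.rec (fun _ => Nat) 0 1 11 0 11 0 1 11 11 0 11 0 0 1 0 1 11 11 0 0 1 0 1 11 0 0 0 1 0 1 1 24 24 0 24 0 1 24 24 24 0 0 1 24 0 24 0 1 24 24 0) (@D3.rec (fun _ => Nat) 0 1 0 1 11 0 11 11 0 0 1 11 0 11 0 1 11 11 0 11 0 0 1 0 1 11 11 0 0 1 0 1 11 0 0 0 1 0 1 1 12 12 0 1 61 12 0 12 0 0 1) (@D3.rec (fun _ => Nat) 1 12 12 0 0 1 0 1 12 0 12 12 0 0 1 0 0 1 0 1 0 1 21 12 0 0 0 1 0 1 1 12 0 0 1 0 1 0 1 0 1 9 24 24 24 24 24 64 64 62 62) (@D3.rec (fun _ => Nat) 12 12 12 0 12 12 12 62 62 60 60 12 0 0 1 0 1 0 1 0 1 11 61 0 63 63 13 58 58 56 54 13 13 0 0 1 13 59 59 57 55 13 0 0 1 0 1 0 1 0 1) (@D3.rec (fun _ => Nat) 10 0 0 1 0 0 1 0 1 0 1 10 0 1 10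 7 7 75 89 8 90 91 93 93 8 8 0 8 8 1 73 91 9 9 92 0 1 93 96 95 1 1 9 75 9 9 0 1 9 9 0) (@D3.rec (fun _ => Nat) 1 71 71 93 10 10 10 0 93 0 1 10 93 0 0 1 95 1 0 1 9 0 9 9 0 1 9 9 0 9 0 1 69 69 0 71 73 0 1 97 10 10 0 0 1 10 0 10 0 1 95) (@D3.rec (fun _ => Nat) 97 0 0 1 0 1 0 0 1 10 10 0 1 10 0 10 0 1 10 10 0 0 1 0 1 69 0 69 67 0 0 1 69 0 71 0 1 11 11 0 11 0 0 1 0 1 11 11 0 0 1) (@D3.rec (fun _ => Nat) 0 1 11 0 0 0 1 0 1 1 0 0 1 0 1 11 11 0 11 0 1 11 11 0 0 1 0 1 11 0 0 0 1 0 1 1 67 67 0 1 67 67 0 67 0 0 1 1 69 69 0) (@D3.rec (fun _ => Nat) 0 1 0 1 12 0 12 12 0 0 1 0 0 1 0 1 0 1 12 0 0 0 1 0 1 1 12 0 0 1 0 1 0 1 0 1 21 10 10 0 10 10 0 1 10 10 10 0 0 1 10) (@D3.rec (fun _ => Nat) 0 10 0 1 10 10 0 0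 1 0 1 11 11 11 0 1 11 0 11 0 1 11 11 0 11 0 0 1 0 1 11 11 0 0 1 0 1 101 0 0 0 1 0 1 1 11 11 11 0 1 11) (@D3.rec (fun _ => Nat) 0 11 0 1 11 11 0 11 0 0 1 1 11 11 0 0 1 0 1 11 0 0 0 1 0 1 1 12 12 12 12 0 12 0 1 12 12 0 0 1 0 1 12 0 12 12 0 0 1 0 0) (@D3.rec (fun _ => Nat) 1 0 1 0 1 12 0 0 0 1 0 1 1 12 0 0 1 0 1 0 1 0 1 23 12 12 12 0 12 0 1 12 12 0 1 0 1 12 0 12 12 0 0 1 0 0 1 0 1 12 0) (@D3.rec (fun _ => Nat) 0 0 1 0 1 1 12 0 0 1 0 1 0 1 0 1 10 61 13 13 61 0 13 13 0 0 1 0 1 13 0 0 0 1 0 1 1 13 13 0 0 1 13 0 0 0 1 0 0 1 0) (@D3.rec (fun _ => Nat) 1 0 1 0 1 0 1 13 0 0 1 0 1 0 1 0 1 10 0 0 1 0 0 1 0 1 0 1 10 0 1 10 13 13 13 0 1 13 13 64 62 62 62 62 0 0 1 0 0 1 0) (@D3.rec (fun _ => Nat) 1 0 1 11 0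 1 11 61 61 0 1 63 14 60 58 58 56 54 14 14 0 0 0 1 0 1 14 59 57 57 55 53 0 0 1 0 0 1 0 1 0 1 11 0 1 11 108 1 107 106 1) (@D3.rec (fun _ => Nat) 102 11 100 11 0 1 11 1 11 11 0 0 1 0 0 1 0 1 0 0 1 0 0 1 0 1 0 1 0 0 0 1 0 1 1 0 0 1 0 1 0 1 0 1 23 0 0 1 0 1 0) (@D3.rec (fun _ => Nat) 0 0 1 0 1 1 0 1 0 0 0 1 0 0 1 0 1 0 1 0 1 0 1 0 0 1 0 1 0 1 0 1 23 0 0 1 0 0 1 0 1 0 1 23 0 1 23 0 0 0 1) (@D3.rec (fun _ => Nat) 0 1 1 0 0 1 0 1 0 1 0 1 11 0 0 1 0 1 0 0 1 0 0 1 0 1 21 0 1 0 1 0 1 0 1 0 0 1 0 0 1 0 1 0 1 11 0 1 11 1 1) (@D3.rec (fun _ => Nat) 101 1 1 104 103 0 1 1 11 103 0 101 1 0 1 0 1 12 0 1 12 101 102 99 1 102 12 1 12 12 12 83 99 10 10 69 69 96 70 70 11 11 11 69 67 69 69 67 98 0 68) (@D3.rec (fun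 _ => Nat) 70 70 12 0 12 12 69 67 67 69 0 67 70 67 73 13 13 0 0 1 70 70 68 68 68 68 70 1 11 11 11 94 0 70 70 12 12 12 12 0 98 100 0 0 0 1 70 68 70 70 13) (@D3.rec (fun _ => Nat) 0 13 13 13 13 0 0 1 68 68 104 14 14 0 1 14 0 0 0 1 0 1 68 68 68 68 68 70 14 14 0 1 23 14 14 0 0 0 1 0 1 23 23 23 23 63 0 63 63 0 1) (@D3.rec (fun _ => Nat) 107 15 102 0 0 1 15 0 0 1 1 0 1 72 74 72 72 1 0 1 80 0 1 70 76 72 72 70 72 72 70 70 70 1 0 1 76 77 1 76 74 81 74 85 85 85 85 85 87 85 85) (@D3.rec (fun _ => Nat) 87 0 0 0 1 0 0 1 0 0 1 0 0 1 0 0 1 0 0 1 0 1 0 0 0 1 0 0 1 0 0 0 1 0 1 0 0 1 0 1 0 0 0 1 0 1 1 7 7 7 92) (@D3.rec (fun _ => Nat) 7 7 77 8 8 90 8 8 77 8 8 8 94 1 8 75 9 9 9 92 9 94 9 9 9 81 9 9 0 9 96 1 73 75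 10 10 10 74 10 93 10 10 94 96 1 9 0 9 9 0 1) (@D3.rec (fun _ => Nat) 9 9 0 9 0 1 71 71 0 73 73 0 1 10 10 0 0 1 10 0 10 0 1 10 10 0 0 1 0 1 10 10 0 0 1 10 0 10 0 1 10 10 0 0 1 0 1 71 0 71 71) (@D3.rec (fun _ => Nat) 0 0 1 73 0 73 0 1 11 11 0 11 0 0 1 0 1 11 11 0 0 1 0 1 11 0 0 0 1 0 1 1 11 11 0 11 0 0 1 1 11 11 0 0 1 0 1 11 0 0 0) (@D3.rec (fun _ => Nat) 1 0 1 1 69 71 0 0 1 69 69 0 71 0 0 1 0 1 71 71 0 0 1 0 1 12 0 12 12 0 0 1 0 0 1 0 1 0 1 22 12 0 0 0 1 0 1 1 12 0 0)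
def lv_i_6 : D2 → D3 → Nat := @D2.rec (fun _ => D3 → Nat) (@D3.rec (fun _ => Nat) 1 0 1 0 1 0 1 22 25 25 0 25 25 0 25 25 0 1 25 25 0 25 0 1 10 10 0 10 10 0 1 10 10 10 0 0 1 10 0 10 0 1 10 10 0 0 1 0 1 11 0) (@D3.rec (fun _ => Nat) 11 11 0 0 1 11 0 11 0 1 11 11 0 11 0 0 1 0 1 11 11 0 0 1 0 1 11 0 0 0 1 0 1 1 25 25 0 25 25 0 1 25 25 25 0 0 1 25 0 25 0) (@D3.rec (fun _ => Nat) 1 25 25 0 0 1 0 1 11 0 11 11 0 0 1 11 0 11 0 1 11 11 0 11 0 0 1 0 1 11 11 0 0 1 0 1 11 0 0 0 1 0 1 1 12 12 0 1 12 12 0) (@D3.rec (fun _ => Nat) 12 0 0 1 1 12 12 0 0 1 0 1 12 0 12 12 0 0 1 0 0 1 0 1 0 1 22 12 0 0 0 1 0 1 1 12 0 0 1 0 1 0 1 0 1 24 25 0 25 0 0) (@D3.rec (fun _ => Nat) 1 25 0 1 25 0 25 0 0 1 0 1 25 25 0 1 0 1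 25 0 0 0 1 0 1 1 12 12 0 1 12 0 12 0 0 1 1 12 12 0 1 0 1 12 0 12 12 0 0 1 0) (@D3.rec (fun _ => Nat) 0 1 0 1 0 1 22 12 0 0 0 1 0 1 1 12 0 0 1 0 1 0 1 0 1 10 61 13 0 13 0 1 61 0 13 13 0 0 1 0 0 1 0 1 22 13 0 0 0 1 0) (@D3.rec (fun _ => Nat) 1 1 13 13 0 0 1 13 0 0 0 1 0 0 1 0 1 0 1 0 1 22 0 1 22 13 0 0 1 0 1 0 1 0 1 10 0 0 1 0 0 1 0 1 0 1 10 0 1 10 64) (@D3.rec (fun _ => Nat) 64 64 67 13 13 13 0 1 13 13 62 62 62 60 60 0 0 1 102 101 1 103 1 0 1 11 0 1 11 63 63 0 1 63 14 60 58 58 56 54 14 14 0 0 0 1 0 1 14 61 59) (@D3.rec (fun _ => Nat) 59 57 55 0 0 1 0 0 1 0 1 0 1 11 0 1 11 0 1 109 110 1 0 107 1 1 11 0 1 11 0 1 11 1 11 11 8 91 92 9 77 9 1 73 10 96 97 96 1 97 95) (@D3.rec (fun _ => Nat) 94 10 10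 78 10 0 1 10 1 71 11 11 11 95 0 0 1 94 1 95 100 95 0 1 100 1 1 10 10 0 1 10 0 10 0 1 1 1 71 0 71 97 0 0 1 75 0 100 0 1 11) (@D3.rec (fun _ => Nat) 11 0 0 0 1 0 1 98 98 0 0 1 0 1 0 97 0 1 0 1 1 1 1 11 11 0 11 0 1 11 11 0 0 1 0 1 11 0 1 1 1 71 69 0 1 71 69 0 99 0 0) (@D3.rec (fun _ => Nat) 1 1 71 73 0 0 1 0 1 12 0 12 12 0 0 1 0 0 1 0 1 0 1 12 0 0 0 1 0 1 1 97 0 0 1 0 1 0 1 0 1 9 0 1 0 1 1 12 0 12 12) (@D3.rec (fun _ => Nat) 0 0 1 0 1 12 0 0 0 1 0 1 1 12 0 0 1 0 1 0 1 0 1 22 69 69 0 69 0 1 69 0 69 69 0 0 1 0 0 1 0 1 71 0 0 0 1 0 1 1 13) (@D3.rec (fun _ => Nat) 13 0 0 1 13 0 0 0 1 0 0 1 0 1 0 1 0 1 0 1 13 0 0 1 0 1 0 1 0 1 22 0 0 1 0 0 1 0 1 0 1 22 0 1 22 11 11 11 0 1 11) (@D3.rec (fun _ => Nat)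 0 11 0 1 11 11 0 11 0 0 1 1 11 11 0 0 1 0 1 1 1 1 12 93 12 12 0 97 0 1 12 12 0 0 1 0 1 97 0 12 99 0 0 1 0 0 1 0 1 0 1) (@D3.rec (fun _ => Nat) 101 0 0 0 1 0 1 1 103 101 0 1 0 1 0 1 0 1 24 12 12 12 12 0 12 0 1 12 12 0 0 1 0 1 12 0 12 12 0 0 1 0 0 1 0 1 12 0 0 0 1) (@D3.rec (fun _ => Nat) 0 1 1 12 0 0 1 1 1 0 1 24 98 13 99 13 0 13 13 0 0 1 0 1 13 0 0 0 1 0 1 1 13 101 0 0 1 13 0 0 0 1 0 0 1 0 1 0 1 0 1) (@D3.rec (fun _ => Nat) 0 1 13 0 0 1 0 1 0 1 0 1 24 0 0 1 0 0 1 0 1 0 1 24 0 1 24 13 13 13 13 0 0 1 0 1 13 0 0 1 1 13 13 0 0 1 13 0 0 0 1) (@D3.rec (fun _ => Nat) 0 0 1 0 1 0 1 1 13 0 0 1 0 1 0 1 0 1 0 0 1 0 0 1 0 1 0 1 12 0 1 12 61 0 14 14 61 61 0 0 1 14 0 0 0 1 0 1 1 14 0) (@D3.rec (fun _ => Nat)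 0 1 0 1 0 1 0 1 14 14 0 0 0 1 0 0 1 14 0 0 1 0 1 0 0 1 0 0 1 0 1 3 0 1 0 1 0 1 0 1 0 0 1 0 0 1 0 1 0 1 11) (@D3.rec (fun _ => Nat) 0 1 11 0 1 0 0 1 0 103 1 1 11 0 1 11 0 1 11 1 11 11 14 14 14 0 0 1 14 64 64 62 64 62 62 62 0 1 105 106 1 0 103 1 1 13 0 1 13 0 1) (@D3.rec (fun _ => Nat) 13 1 13 13 63 63 0 0 1 63 62 60 59 60 59 56 54 15 0 15 0 0 1 0 1 0 1 0 1 61 59 60 59 60 55 53 104 1 0 101 1 100 99 1 1 12 98 1 12 0 1) (@D3.rec (fun _ => Nat) 12 1 12 12 102 100 1 12 12 12 12 12 1 1 0 1 0 1 1 1 0 0 1 0 1 0 1 0 1 96 1 0 1 0 1 0 1 0 1 24 0 1 0 0 1 0 1 0 1 24 0) (@D3.rec (fun _ => Nat) 1 24 1 0 1 1 0 1 0 1 0 1 0 1 24 0 0 1 1 1 0 0 1 0 0 1 0 1 97 0 1 0 1 0 1 104 1 0 1 0 0 1 0 1 0 1 24 0 1 24 1) (@D3.rec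 (fun _ => Nat) 0 1 0 0 1 1 24 0 1 24 0 1 24 1 24 24 0 1 0 1 0 1 0 1 22 0 1 0 0 1 0 1 0 1 12 0 1 12 0 1 0 0 1 0 0 1 0 0 1 0 1) (@D3.rec (fun _ => Nat) 22 0 0 1 0 1 22 0 1 22 0 1 0 1 0 1 1 1 0 1 0 0 1 1 102 101 1 102 0 1 12 1 12 12 106 106 1 12 101 0 99 1 101 1 100 1 13 1 13 13 97) (@D3.rec (fun _ => Nat) 13 13 13 13 88 72 0 0 1 72 72 13 13 0 1 71 71 0 0 0 1 69 105 0 0 0 1 0 0 1 70 70 70 70 72 0 0 1 72 72 0 0 0 1 0 1 1 0 1 72 70)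
def lv_i_7 : D2 → D3 → Nat := @D2.rec (fun _ => D3 → Nat) (@D3.rec (fun _ => Nat) 72 72 14 14 0 1 14 0 0 0 1 0 1 103 104 0 0 1 0 1 1 0 1 0 1 70 70 70 70 70 15 0 0 1 15 0 0 0 1 0 1 0 1 0 1 0 1 0 0 1 0) (@D3.rec (fun _ => Nat) 0 1 1 0 0 1 1 0 1 74 76 74 0 1 75 77 1 72 74 72 72 74 72 72 93 1 95 97 1 0 1 1 1 1 0 1 1 0 1 0 1 0 1 1 1 1 1 0 1 0 1) (@D3.rec (fun _ => Nat) 0 1 0 1 1 1 0 1 0 1 0 1 23 0 1 0 1 1 0 1 0 1 0 1 0 1 23 8 8 92 93 9 9 9 97 9 94 73 10 94 10 97 10 10 10 77 10 95 10 10 94) (@D3.rec (fun _ => Nat) 0 1 73 11 11 96 11 11 94 99 11 94 10 10 0 0 1 10 0 10 0 1 10 10 0 0 1 0 1 71 0 71 71 0 0 1 73 0 1 11 11 0 11 0 0 1 0 1 11 11 0) (@D3.rec (fun _ => Nat) 0 1 1 1 1 1 11 11 0 11 0 0 1 1 11 11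 0 0 1 0 1 11 0 0 0 1 0 1 1 71 71 0 0 1 71 71 0 71 0 0 1 0 1 71 73 0 0 1 1 12 0) (@D3.rec (fun _ => Nat) 12 12 0 0 1 0 0 1 0 1 0 1 23 12 0 0 0 1 0 1 1 12 0 0 1 1 1 0 1 98 12 0 12 12 0 0 1 0 0 1 0 1 23 12 0 0 0 1 0 1 1) (@D3.rec (fun _ => Nat) 12 0 0 1 0 1 0 1 0 1 23 63 69 0 71 0 0 1 0 1 69 0 69 69 0 0 1 0 0 1 0 1 0 1 23 71 0 0 0 1 0 1 1 13 13 0 0 1 13 0 0) (@D3.rec (fun _ => Nat) 0 1 0 0 1 0 1 0 1 0 1 23 0 1 23 13 0 0 1 0 1 0 1 0 1 23 0 0 1 0 0 1 0 1 0 1 23 0 1 23 26 26 0 26 26 0 1 26 0 0 1) (@D3.rec (fun _ => Nat) 0 26 0 1 26 0 0 1 0 1 11 0 11 11 0 0 1 11 0 11 0 1 11 11 0 11 0 0 1 0 1 11 11 0 0 1 0 1 11 0 0 0 1 0 1 1 12 12 0 1 12) (@D3.rec (fun _ => Nat) 12 0 12 0 0 1 1 12 12 0 0 1 0 1 12 0 12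 12 0 0 1 0 0 1 0 1 0 1 23 12 0 0 0 1 0 1 1 12 1 1 1 0 1 25 0 26 0 0 1 26 0) (@D3.rec (fun _ => Nat) 26 0 1 0 0 0 1 0 1 26 0 0 1 0 1 26 0 0 0 1 0 1 1 12 12 0 1 12 12 0 12 0 0 1 1 12 12 0 0 1 0 1 12 0 12 12 0 0 1 0 0) (@D3.rec (fun _ => Nat) 1 0 1 0 1 23 12 0 0 0 1 0 1 1 12 0 0 1 0 1 0 1 0 1 25 13 13 0 13 0 1 13 0 13 13 0 0 1 0 0 1 0 1 23 13 0 0 0 1 0 1) (@D3.rec (fun _ => Nat) 1 13 13 0 0 1 13 0 0 0 1 0 0 1 0 1 0 1 0 1 23 0 1 23 13 0 0 1 0 1 0 1 0 1 25 0 0 1 0 0 1 1 0 1 25 0 1 25 0 0 1) (@D3.rec (fun _ => Nat) 0 0 1 1 0 1 0 0 1 0 0 1 0 1 0 1 23 0 0 1 1 0 0 1 0 1 0 1 0 1 13 0 13 0 1 13 13 0 0 1 0 0 1 0 1 23 13 0 0 1 1) (@D3.rec (fun _ => Nat) 13 13 0 0 1 13 0 0 0 1 0 0 1 0 1 0 1 0 1 23 0 1 23 13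 0 0 1 0 1 0 1 0 1 0 0 1 0 0 1 0 1 0 1 12 0 1 12 63 0 14 14) (@D3.rec (fun _ => Nat) 0 0 1 0 1 63 63 0 0 1 14 0 0 0 1 0 0 1 0 1 0 1 1 23 14 0 0 1 0 1 0 1 0 1 14 14 0 0 0 1 0 0 1 14 0 0 1 0 1 0 0) (@D3.rec (fun _ => Nat) 1 0 0 1 0 1 3 0 1 0 1 23 0 1 23 0 1 23 0 0 1 0 0 1 0 1 0 1 11 0 1 11 0 1 0 0 1 0 0 1 1 11 0 1 11 0 1 11 1 11 11) (@D3.rec (fun _ => Nat) 104 14 14 14 0 0 1 14 64 62 62 62 62 62 104 1 102 103 1 101 13 13 1 13 1 13 13 63 63 0 0 1 65 62 58 59 60 59 54 52 15 0 15 0 0 1 0 1 0 1 0) (@D3.rec (fun _ => Nat) 1 63 59 58 61 58 55 53 0 1 0 0 1 0 0 1 1 12 0 1 12 0 1 12 1 12 12 111 110 1 104 12 0 103 1 12 12 0 1 12 1 12 12 12 12 12 10 98 98 99 11) (@D3.rec (fun _ => Nat) 11 76 11 1 71 12 95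 98 96 0 1 1 101 95 96 102 102 1 102 9 11 11 0 0 1 1 1 98 0 1 0 0 0 1 1 75 0 0 1 0 1 0 103 0 0 1 1 0 1 0 1) (@D3.rec (fun _ => Nat) 0 100 0 1 0 1 1 1 102 1 0 1 12 0 12 12 0 0 1 0 1 12 0 1 0 1 1 1 101 98 104 0 0 1 69 0 0 1 0 0 1 0 1 71 0 0 0 1 1 1 13) (@D3.rec (fun _ => Nat) 0 0 1 13 0 0 0 1 0 0 1 1 0 1 0 1 0 1 97 0 0 1 0 1 0 1 0 1 10 0 0 1 0 0 1 0 1 0 1 106 0 1 102 0 1 0 1 23 13 13 0) (@D3.rec (fun _ => Nat) 0 1 13 0 0 0 1 0 1 1 13 0 0 1 0 1 0 1 0 1 23 1 0 1 0 1 0 1 23 0 1 23 69 0 69 69 0 0 1 0 1 69 101 0 0 1 69 0 0 0 1) (@D3.rec (fun _ => Nat) 0 0 1 0 1 0 1 1 71 0 0 1 0 1 0 1 0 1 23 14 14 0 0 0 1 0 0 1 14 0 0 1 0 1 0 0 1 0 0 1 0 1 3 0 1 0 1 0 1 0 1) (@D3.rec (fun _ => Nat) 0 0 1 0 0 1 0 1 0 1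 23 0 1 23 0 1 0 0 1 0 0 1 1 23 0 1 23 0 1 23 1 23 23 12 12 12 0 0 1 12 12 0 0 1 0 1 0 12 0 0 1) (@D3.rec (fun _ => Nat) 0 0 1 0 1 1 0 1 1 25 0 97 97 0 0 1 0 1 101 0 0 0 1 0 1 1 101 0 1 99 0 0 0 1 0 0 1 1 1 0 1 0 1 101 101 0 1 0 1 0 1) (@D3.rec (fun _ => Nat) 0 1 25 105 101 0 1 0 1 0 1 25 0 1 25 13 13 0 13 13 0 0 1 0 1 13 0 0 0 1 0 1 1 13 0 0 1 13 0 0 0 1 0 0 1 0 1 0 1 1 13)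
def lv_i_8 : D2 → D3 → Nat := @D2.rec (fun _ => D3 → Nat) (@D3.rec (fun _ => Nat) 0 0 1 1 0 1 0 1 25 1 0 1 25 0 1 25 0 14 14 0 0 1 14 0 0 0 1 0 1 1 14 0 0 1 0 1 0 1 0 1 25 105 103 0 0 1 0 0 1 14 0) (@D3.rec (fun _ => Nat) 0 1 0 1 0 0 1 0 0 1 0 1 3 1 0 1 0 1 0 1 0 0 1 0 0 1 0 1 0 1 25 0 1 25 0 1 0 0 1 0 0 1 1 25 0 1 25 0 1 25 1) (@D3.rec (fun _ => Nat) 25 25 14 14 14 0 0 0 1 1 1 14 0 1 1 14 14 0 0 0 1 0 1 14 0 0 1 0 1 0 0 1 0 0 1 1 3 0 1 0 1 0 0 1 0 0 1 0 1 0 1) (@D3.rec (fun _ => Nat) 0 1 0 1 0 0 1 0 0 1 1 12 0 1 12 0 1 12 1 12 12 63 105 0 1 107 63 63 0 0 0 1 1 15 0 0 1 0 1 0 1 0 1 3 0 0 1 0 0 1 0) (@D3.rec (fun _ => Nat) 1 0 1 0 1 107 0 15 0 0 1 0 1 0 0 1 0 0 1 0 1 3 0 0 1 0 0 1 0 0 1 0 0 1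 0 1 6 0 0 1 0 1 4 0 1 4 0 1 0 1 0) (@D3.rec (fun _ => Nat) 1 1 0 1 0 0 1 0 0 1 1 12 0 1 12 0 1 12 1 12 12 1 103 1 1 104 0 101 1 103 0 1 1 12 12 12 12 12 15 0 15 0 1 1 64 64 64 64 64 64 64) (@D3.rec (fun _ => Nat) 107 106 1 107 109 109 1 13 13 0 1 13 1 13 13 13 13 13 0 0 1 1 61 59 103 57 59 57 54 0 0 1 0 0 1 0 0 1 0 1 0 1 0 1 61 60 61 55 60 98 53) (@D3.rec (fun _ => Nat) 102 100 101 1 102 99 13 100 13 1 13 13 13 13 13 13 13 1 1 25 0 0 1 0 1 95 1 1 96 1 96 0 1 1 0 1 25 0 1 25 0 0 1 0 0 1 1 25 0 1 25) (@D3.rec (fun _ => Nat) 0 1 25 1 25 25 1 99 0 1 1 1 25 0 1 25 0 0 1 77 1 0 0 1 0 1 105 0 0 1 0 1 99 0 1 97 0 1 0 1 106 1 1 0 0 1 1 25 0 1 25) (@D3.rec (fun _ => Nat) 0 1 25 1 25 25 0 1 25 0 0 1 1 25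 25 0 1 25 1 25 25 25 25 25 0 1 0 1 0 1 23 0 1 23 0 1 0 0 1 1 107 0 1 105 0 1 13 1 13 13 0) (@D3.rec (fun _ => Nat) 1 0 0 1 0 1 23 0 0 1 0 1 23 0 0 1 0 1 23 0 1 23 0 1 0 1 23 0 1 23 23 0 1 23 0 1 0 1 1 1 104 1 0 1 102 106 1 13 13 13 13) (@D3.rec (fun _ => Nat) 101 102 99 1 99 14 14 14 14 14 0 14 89 72 1 1 72 72 0 0 1 0 1 0 1 1 0 1 1 0 1 1 1 70 70 1 1 72 1 1 1 1 78 1 72 70 72 0 0 1 0) (@D3.rec (fun _ => Nat) 1 1 0 1 1 0 1 1 0 1 0 1 0 1 70 70 70 70 0 1 1 0 0 1 1 1 1 1 1 1 1 1 0 1 1 0 1 0 1 95 1 74 0 1 78 97 72 72 72 72 0) (@D3.rec (fun _ => Nat) 1 0 1 0 1 0 1 24 1 0 0 1 1 0 1 24 1 0 1 0 1 24 0 1 24 0 1 0 1 24 0 1 0 1 0 1 24 0 1 24 10 10 97 96 11 11 11 11 95 76 11) (@D3.rec (fun _ => Nat) 96 101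 1 73 12 12 98 12 96 11 11 0 11 0 0 1 1 11 11 0 0 1 98 1 100 1 1 1 98 73 0 0 1 102 73 0 1 0 1 75 1 12 0 12 12 0 0 1 1 0 1) (@D3.rec (fun _ => Nat) 0 1 24 1 0 1 12 0 12 12 0 0 1 0 0 1 0 1 24 12 0 0 0 1 0 1 1 12 0 0 1 105 1 0 1 0 1 101 100 73 0 73 0 0 1 0 1 73 71 73 0) (@D3.rec (fun _ => Nat) 0 1 1 0 1 0 1 24 73 0 1 1 13 13 0 0 1 13 0 0 0 1 0 0 1 1 0 1 0 1 24 0 1 24 13 0 0 1 1 0 1 0 1 99 1 1 0 1 13 13 0) (@D3.rec (fun _ => Nat) 0 1 13 0 0 0 1 0 0 1 0 1 0 1 1 24 13 0 0 1 0 1 0 1 0 1 24 0 0 1 0 0 1 0 1 0 1 24 0 1 24 63 0 71 71 0 0 1 0 0 1) (@D3.rec (fun _ => Nat) 0 0 1 1 24 71 71 0 0 1 71 0 0 0 1 0 0 1 1 0 1 0 1 24 0 1 24 73 0 0 1 1 0 1 1 24 14 14 0 0 0 1 0 0 1 14 0 0 1 0 1) (@D3.rec (fun _ => Nat)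 0 0 1 0 0 1 0 1 3 0 1 0 1 24 0 1 24 0 1 24 0 0 1 0 0 1 0 1 0 1 24 0 1 24 1 0 1 0 0 1 1 24 0 1 24 0 1 24 1 24 24) (@D3.rec (fun _ => Nat) 0 0 0 1 0 0 1 0 1 0 1 0 1 0 1 0 0 1 0 1 1 12 12 0 1 12 12 0 12 0 0 1 1 12 12 0 0 1 0 1 12 0 12 12 0 0 1 0 0 1 0) (@D3.rec (fun _ => Nat) 1 0 1 24 12 0 0 0 1 0 1 1 12 98 1 0 1 1 0 1 26 96 13 0 13 0 1 13 0 13 13 0 0 1 0 0 1 0 1 24 13 0 0 0 1 0 1 1 99 13 0) (@D3.rec (fun _ => Nat) 0 1 13 0 0 0 1 0 0 1 1 0 1 0 1 24 0 1 24 13 1 1 0 1 0 1 26 26 0 1 26 0 1 0 0 1 1 0 0 1 0 1 1 0 1 0 1 0 1 24 0) (@D3.rec (fun _ => Nat) 0 1 0 1 1 0 0 1 0 1 0 1 0 1 26 13 13 0 13 0 1 13 0 13 13 0 0 1 0 0 1 0 1 24 13 0 0 0 1 0 1 1 13 13 0 0 1 13 0 0 0) (@D3.rec (fun _ => Nat) 1 0 0 1 0 1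 0 1 0 1 24 0 1 24 13 0 0 1 0 1 0 1 0 1 26 0 0 1 0 0 1 0 1 0 1 26 0 1 26 102 14 0 14 14 0 0 1 0 1 14 14) (@D3.rec (fun _ => Nat) 0 0 1 14 0 0 0 1 0 0 1 0 1 0 1 1 24 14 0 0 1 0 1 0 1 0 1 26 14 14 0 0 0 1 0 0 1 14 0 0 1 0 1 0 0 1 0 0 1 0 1) (@D3.rec (fun _ => Nat) 3 0 1 0 1 24 0 1 24 0 1 24 0 0 1 0 0 1 0 1 0 1 26 0 1 26 1 0 1 0 0 1 1 26 26 0 1 26 1 26 26 0 1 1 0 1 0 1 24 1 1)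
def lv_i_9 : D2 → D3 → Nat := @D2.rec (fun _ => D3 → Nat) (@D3.rec (fun _ => Nat) 0 1 0 1 0 1 0 1 24 0 1 24 1 1 1 0 1 1 1 1 14 14 0 0 1 0 1 14 0 0 0 1 0 1 0 1 0 1 1 24 14 0 1 1 14 14 0 0 0 1 0) (@D3.rec (fun _ => Nat) 1 14 0 0 1 0 1 0 0 1 0 0 1 0 1 3 0 1 0 1 24 0 1 24 0 1 24 0 0 1 0 0 1 0 1 0 1 1 0 1 0 0 1 0 103 1 1 12 1 12 1) (@D3.rec (fun _ => Nat) 12 1 12 12 63 63 0 0 1 15 0 0 0 1 0 1 1 63 63 0 0 0 1 0 1 15 0 0 1 0 1 0 0 1 0 0 1 1 3 0 1 0 1 24 24 0 0 1 0 0 1) (@D3.rec (fun _ => Nat) 0 1 0 1 0 1 15 0 15 0 0 1 0 1 0 0 1 0 0 1 0 1 3 0 0 1 0 0 1 0 0 1 0 0 1 0 1 6 0 0 1 0 1 4 0 1 4 0 1 24 0) (@D3.rec (fun _ => Nat) 1 24 0 1 24 24 1 24 0 1 0 0 1 0 0 1 1 12 0 1 12 0 1 12 1 12 12 0 0 1 0 110 1 1 12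 0 0 1 0 1 12 12 0 1 12 1 12 12 12 12 12) (@D3.rec (fun _ => Nat) 15 0 15 0 1 1 106 62 102 62 62 13 13 65 0 65 0 1 1 60 61 60 56 61 54 16 0 0 1 0 0 1 0 0 1 0 1 0 1 0 1 62 60 58 60 58 55 0 103 1 102) (@D3.rec (fun _ => Nat) 101 1 1 13 0 103 1 0 1 13 13 0 1 13 1 13 13 13 13 13 101 1 13 13 13 1 13 13 13 13 13 78 12 78 97 97 98 100 1 10 102 0 0 1 1 0 1 0 1 1 0) (@D3.rec (fun _ => Nat) 1 0 0 1 1 1 0 1 0 0 1 0 0 1 0 1 0 1 1 102 0 1 0 1 0 1 13 0 0 1 13 0 0 1 0 1 1 1 1 99 102 0 0 1 1 0 0 1 0 1 1) (@D3.rec (fun _ => Nat) 0 1 1 73 0 0 1 0 1 1 73 0 0 1 0 1 103 0 0 1 0 1 0 0 1 0 0 1 0 1 3 0 1 0 1 0 1 0 0 1 0 0 1 0 1 0 1 104 1 77 1) (@D3.rec (fun _ => Nat) 1 0 1 1 0 1 0 1 104 1 100 100 0 1 24 0 1 24 14 14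 0 0 0 1 1 14 0 0 1 0 1 0 1 0 1 3 1 0 1 0 1 0 1 24 0 1 24 0 1 24 0) (@D3.rec (fun _ => Nat) 1 24 0 1 24 1 24 24 106 0 1 104 0 0 0 1 1 1 0 0 0 1 0 1 71 0 0 1 0 1 0 0 1 0 0 1 1 3 0 1 0 1 0 0 1 0 0 1 0 1 0) (@D3.rec (fun _ => Nat) 1 24 0 1 24 0 99 0 0 1 0 1 0 0 1 0 0 1 0 1 3 0 0 1 0 0 1 0 0 1 0 0 1 0 1 6 0 0 1 0 1 4 0 1 4 0 1 0 1 0 1) (@D3.rec (fun _ => Nat) 1 0 1 0 0 1 0 0 1 1 24 0 1 24 0 1 24 1 24 24 1 0 0 1 1 24 0 0 1 0 1 24 24 0 1 24 1 24 24 24 24 24 0 0 0 1 1 1 0 1 1) (@D3.rec (fun _ => Nat) 0 1 0 1 0 0 1 1 1 1 1 26 0 1 0 0 0 1 0 1 1 99 101 0 1 1 1 1 26 0 1 101 101 0 1 1 0 1 0 0 1 0 1 3 0 1 100 1 103 99 0) (@D3.rec (fun _ => Nat) 0 1 1 0 1 26 0 1 26 105 1 26 0 1 0 1 26 1 26 14 14 0 0 1 14 0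 0 0 1 0 1 1 14 0 0 1 1 0 1 0 1 26 0 0 1 0 0 1 14 0 0) (@D3.rec (fun _ => Nat) 1 0 1 0 0 1 0 0 1 1 3 1 0 1 1 0 0 1 1 26 0 1 26 1 26 1 26 26 1 106 0 0 1 0 1 99 0 0 1 0 1 0 1 0 1 3 0 0 1 0 0) (@D3.rec (fun _ => Nat) 1 1 1 26 0 1 26 103 0 1 0 1 0 0 1 78 1 3 0 0 1 0 0 1 0 1 0 0 1 0 1 6 0 0 1 0 1 4 0 1 4 0 1 0 1 1 0 1 0 0 1) (@D3.rec (fun _ => Nat) 0 0 1 1 26 0 1 26 0 1 26 1 26 26 1 0 0 1 1 26 0 0 1 0 1 26 26 0 1 26 1 26 26 26 26 26 15 0 0 1 0 1 1 56 0 1 0 15 0 0 1) (@D3.rec (fun _ => Nat) 0 1 0 1 1 3 0 0 1 0 0 1 0 0 1 0 0 1 0 1 6 0 1 1 55 4 0 1 1 0 1 0 0 1 0 0 1 1 0 1 0 1 1 1 0 1 1 102 0 0 1) (@D3.rec (fun _ => Nat) 1 14 14 0 1 14 1 14 14 14 14 14 0 0 1 107 0 104 0 0 1 0 1 1 3 0 0 1 0 0 1 0 1 0 1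 6 0 1 53 0 1 0 0 1 0 0 1 1 0 1 0) (@D3.rec (fun _ => Nat) 1 1 103 0 0 1 0 0 1 0 0 1 0 0 1 0 0 1 0 1 6 0 0 1 0 1 4 0 1 4 0 1 0 0 1 0 0 1 0 1 7 0 0 1 0 1 7 0 0 1 0) (@D3.rec (fun _ => Nat) 1 7 0 1 7 0 1 0 1 5 0 1 5 54 0 1 5 0 1 0 1 1 0 1 0 0 1 1 100 0 99 1 0 1 13 104 0 1 13 1 13 13 13 13 13 1 1 13 13 112 0) (@D3.rec (fun _ => Nat) 0 1 0 1 64 106 64 64 64 15 1 15 15 15 0 1 1 61 59 101 55 59 61 98 0 1 0 0 1 0 1 0 0 1 0 0 1 1 0 1 0 1 1 62 98 62 57 60 62 98 0) (@D3.rec (fun _ => Nat) 14 14 14 14 14 26 26 0 1 0 1 1 97 98 1 26 26 1 26 1 26 26 1 1 26 1 1 26 26 1 26 1 26 26 26 26 26 97 1 26 26 26 1 26 26 100 1 79 97 1 101) (@D3.rec (fun _ => Nat) 0 1 0 1 0 1 105 0 1 0 1 99 0 1 101 99 103 1 79 1 106 1 26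 0 1 0 1 26 26 1 26 1 26 26 26 26 26 1 26 0 1 1 26 26 26 1 26 26 26 26 26) (@D3.rec (fun _ => Nat) 26 26 26 26 0 1 24 0 1 24 0 1 24 1 24 24 0 1 0 0 1 0 1 105 104 1 105 1 14 14 14 14 14 1 24 106 0 1 0 0 1 24 0 1 24 106 0 1 0 1 24) (@D3.rec (fun _ => Nat) 1 24 0 1 0 1 24 0 1 24 24 0 1 24 0 1 24 0 1 24 24 0 1 24 24 24 1 24 0 1 1 0 1 14 0 15 15 1 15 74 1 1 1 1 1 1 72 78 74 72 1)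
def lv_i_10 : D2 → D3 → Nat := @D2.rec (fun _ => D3 → Nat) (@D3.rec (fun _ => Nat) 1 0 1 1 0 1 0 1 0 1 0 1 72 72 0 1 1 1 0 1 0 1 0 1 26 99 1 74 0 1 25 0 1 25 0 1 25 0 1 25 1 1 25 25 0 1 25 25 0 1 25) (@D3.rec (fun _ => Nat) 0 1 25 0 1 25 25 0 1 25 1 25 0 1 25 0 1 25 0 1 25 1 25 25 12 74 12 12 96 101 80 102 98 12 0 12 12 0 0 1 98 0 1 0 1 25 100 1 0 1 100) (@D3.rec (fun _ => Nat) 0 1 1 0 1 0 1 25 98 0 0 1 0 1 0 0 1 0 1 25 0 1 25 1 13 13 0 0 1 13 0 0 0 1 0 0 1 0 1 0 1 1 25 13 0 0 1 105 1 0 1) (@D3.rec (fun _ => Nat) 0 1 103 1 1 0 1 0 1 99 100 104 73 0 0 1 1 0 1 1 25 102 73 71 0 0 1 0 1 0 1 25 0 1 25 73 1 77 14 0 0 0 1 0 1 14 0 0 1 0 1) (@D3.rec (fun _ => Nat) 0 0 1 0 0 1 0 1 3 0 1 25 0 1 25 0 1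 25 1 0 1 1 1 1 14 14 0 0 0 1 0 0 1 14 0 0 1 0 1 0 0 1 0 0 1 1 3 0 1 0 1) (@D3.rec (fun _ => Nat) 25 25 0 0 1 0 0 1 0 1 0 1 25 0 1 25 1 0 1 0 0 1 1 25 1 25 1 25 1 25 25 104 65 0 0 1 71 0 0 0 1 0 0 1 1 0 1 1 1 25 25) (@D3.rec (fun _ => Nat) 100 71 0 0 0 1 0 0 1 71 0 0 1 0 1 0 0 1 1 0 1 3 0 1 25 0 1 25 0 1 25 0 1 0 1 1 25 25 15 0 15 0 0 1 0 1 0 0 1 0 0) (@D3.rec (fun _ => Nat) 1 0 1 3 0 0 1 0 0 1 0 0 1 0 0 1 0 1 6 0 0 1 0 1 4 0 1 4 0 1 25 0 1 25 0 1 25 25 1 25 1 0 1 0 0 1 1 25 0 1 25) (@D3.rec (fun _ => Nat) 0 1 25 1 25 25 0 1 25 0 0 1 1 25 25 0 1 25 1 25 25 25 25 25 1 0 1 1 0 1 1 0 1 1 25 0 1 1 0 1 1 0 1 27 13 0 13 0 1 13 0) (@D3.rec (fun _ => Nat) 13 13 0 0 1 0 1 0 1 25 13 0 0 1 0 1 1 13 0 0 1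 13 0 0 0 1 0 0 1 0 1 1 0 1 25 1 25 13 98 1 0 1 1 0 1 27 1 27 0 1 27) (@D3.rec (fun _ => Nat) 0 14 0 0 1 1 14 0 0 1 14 0 0 0 1 0 0 1 1 0 1 1 25 14 1 1 0 1 0 1 27 101 0 0 0 1 0 0 1 101 0 1 0 1 0 0 1 0 0 1 0) (@D3.rec (fun _ => Nat) 1 3 1 25 0 1 25 98 1 25 1 27 0 1 27 1 27 1 0 1 1 25 0 1 1 1 0 1 0 1 25 1 25 0 1 0 1 0 1 27 0 1 0 0 1 0 1 0 1 27 0) (@D3.rec (fun _ => Nat) 1 27 14 0 14 14 0 0 1 0 1 14 14 0 0 1 14 0 0 0 1 0 0 1 1 0 1 1 25 14 0 0 1 1 0 1 0 1 27 14 14 0 0 0 1 0 0 1 14 0 0) (@D3.rec (fun _ => Nat) 1 0 1 0 0 1 0 0 1 0 1 3 1 0 1 25 0 1 25 1 25 0 0 1 0 0 1 1 0 1 27 0 1 27 1 0 1 0 0 1 1 27 0 1 27 0 1 27 1 27 27) (@D3.rec (fun _ => Nat) 100 100 98 0 0 1 15 0 0 0 1 0 1 1 108 15 0 0 0 1 0 0 1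 15 0 0 1 0 1 0 0 1 0 0 1 1 3 0 1 0 1 25 25 0 0 1 0 0 1 0 1) (@D3.rec (fun _ => Nat) 0 1 27 0 1 27 107 0 105 0 0 1 0 1 0 0 1 0 0 1 0 1 3 0 0 1 0 0 1 0 0 1 0 0 1 0 1 6 0 0 1 0 1 4 0 1 4 0 1 25 0) (@D3.rec (fun _ => Nat) 1 25 0 1 25 25 1 25 1 0 0 1 0 0 1 1 27 1 27 0 1 27 1 27 27 1 27 0 0 1 1 27 27 1 27 27 27 1 25 0 1 1 25 1 1 0 1 25 0 1 25) (@D3.rec (fun _ => Nat) 1 25 25 1 15 0 0 0 1 0 1 1 15 0 0 1 0 1 0 1 1 54 0 1 0 1 25 25 0 1 15 0 15 0 0 1 0 1 0 1 1 3 0 0 1 0 0 1 0 0 1) (@D3.rec (fun _ => Nat) 0 0 1 0 1 6 1 1 55 0 1 4 0 1 25 0 1 25 0 1 25 25 1 25 0 1 0 0 1 0 0 1 1 1 1 1 1 1 104 1 14 14 103 65 0 0 0 1 1 109 0) (@D3.rec (fun _ => Nat) 0 1 0 1 0 1 1 3 65 0 65 0 0 1 0 1 0 1 1 3 0 0 1 0 0 1 0 0 1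 0 0 1 0 1 6 1 1 53 4 0 1 25 1 25 25 0 1 0 0 1 0) (@D3.rec (fun _ => Nat) 0 1 1 1 0 1 1 105 0 0 1 0 0 1 0 0 1 0 0 1 0 0 1 0 1 6 1 0 1 4 0 1 4 0 1 0 0 1 0 0 1 0 1 7 0 0 1 0 1 7 0) (@D3.rec (fun _ => Nat) 0 1 0 1 7 0 1 7 1 0 1 5 0 1 5 52 0 1 5 5 0 1 25 0 1 25 25 1 25 25 25 25 0 0 1 0 0 1 1 13 0 0 1 0 1 13 13 0 1 13 1) (@D3.rec (fun _ => Nat) 13 13 13 13 13 106 1 1 111 0 103 1 0 1 0 1 13 1 13 13 1 13 13 13 13 13 16 0 0 1 0 1 0 0 1 1 61 102 61 56 59 61 0 0 1 0 0 1 1 0 1) (@D3.rec (fun _ => Nat) 0 0 1 1 0 1 0 1 1 60 58 56 58 60 102 103 1 101 101 14 1 14 0 1 14 14 14 1 14 14 14 14 14 14 14 14 14 78 0 1 1 0 1 0 1 1 1 1 1 0 1) (@D3.rec (fun _ => Nat) 0 1 0 0 1 0 1 3 1 98 1 100 1 1 1 0 0 1 0 1 0 1 1 1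 3 97 0 0 1 1 0 1 0 1 1 76 0 1 0 0 1 1 1 104 0 1 1 0 1 3 0) (@D3.rec (fun _ => Nat) 0 1 0 0 1 0 1 0 0 1 0 1 6 0 1 0 1 77 0 1 4 0 1 0 1 1 1 0 1 0 0 1 1 0 1 1 79 102 79 0 1 0 1 1 104 100 100 104 0 1 25) (@D3.rec (fun _ => Nat) 1 25 25 0 0 0 1 0 1 1 3 0 1 0 0 1 0 1 0 1 6 0 1 58 0 1 25 0 1 25 0 1 25 1 25 25 0 1 25 0 1 25 1 25 25 25 25 25 0 1 0)
def lv_i_11 : D2 → D3 → Nat := @D2.rec (fun _ => D3 → Nat) (@D3.rec (fun _ => Nat) 0 1 0 1 1 58 0 1 0 1 0 1 1 3 0 0 1 0 0 1 0 0 1 0 0 1 0 1 6 1 1 4 60 0 1 1 0 1 0 0 1 0 0 1 1 25 0 1 25 0 1) (@D3.rec (fun _ => Nat) 25 1 25 25 0 1 0 0 1 0 0 1 0 1 0 0 1 0 1 6 0 1 1 4 0 1 4 0 1 0 0 1 0 0 1 0 1 7 0 0 1 0 1 7 0 0 1 0 1 7 0) (@D3.rec (fun _ => Nat) 1 7 0 1 0 1 5 0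 1 5 5 0 1 5 1 0 1 1 0 1 0 0 1 1 25 0 0 1 0 1 25 25 0 1 25 1 25 25 29 25 25 25 1 1 25 25 1 1 25 1 25) (@D3.rec (fun _ => Nat) 25 1 25 25 25 0 1 0 1 0 1 0 1 27 0 1 1 0 1 1 3 27 0 1 0 1 1 1 1 3 101 1 27 27 0 1 3 103 0 0 1 0 1 99 0 0 1 0 1 4 0) (@D3.rec (fun _ => Nat) 1 103 100 1 1 1 27 1 27 1 27 27 27 1 1 27 27 0 0 1 1 0 0 1 0 1 0 1 1 3 1 0 1 0 1 27 0 1 27 0 1 0 1 0 1 1 3 0 1 0 0) (@D3.rec (fun _ => Nat) 1 1 0 1 0 1 6 0 0 1 1 4 4 1 0 1 1 27 27 1 27 27 27 27 27 27 0 1 0 1 0 1 3 0 0 1 0 0 1 1 1 6 0 1 4 0 1 1 1 1 27) (@D3.rec (fun _ => Nat) 27 27 1 27 27 0 0 1 0 1 6 0 1 80 1 4 80 4 0 1 0 0 1 0 0 1 0 1 7 0 1 107 0 0 1 0 1 7 0 1 107 0 1 0 1 5 0 1 5 5 0) (@D3.rec (fun _ => Nat) 1 78 0 1 1 0 1 0 1 1 27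 0 0 1 0 1 27 27 1 27 1 27 27 27 27 27 27 0 0 1 1 27 0 1 0 1 27 1 27 1 27 27 27 27 27 27 27 27 0 0 1) (@D3.rec (fun _ => Nat) 0 1 1 56 1 0 1 0 0 1 0 1 0 1 0 1 6 4 0 1 0 0 1 0 0 1 0 1 7 0 0 1 0 1 7 0 1 0 1 55 1 7 1 55 55 0 1 0 1 0 0) (@D3.rec (fun _ => Nat) 1 1 0 0 1 0 1 0 1 1 1 1 1 14 1 14 14 14 1 1 0 1 0 1 0 1 1 6 0 1 0 0 1 0 0 1 1 7 0 1 7 0 1 53 1 51 0 1 0 0 1) (@D3.rec (fun _ => Nat) 1 0 0 1 0 1 0 1 1 1 0 0 1 0 1 0 0 1 0 0 1 0 1 7 0 0 1 1 7 0 0 1 0 1 7 0 1 7 1 1 5 0 1 5 0 1 5 0 0 1 0) (@D3.rec (fun _ => Nat) 0 1 0 1 8 0 0 1 0 0 1 8 0 1 8 0 0 1 0 1 8 0 1 8 0 1 0 1 8 0 1 8 54 0 1 8 1 6 0 1 6 52 0 1 6 6 54 1 6 0 1) (@D3.rec (fun _ => Nat) 1 1 1 0 1 100 1 99 0 1 14 1 14 14 14 14 104 1 1 1 15 0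 1 0 0 0 1 0 0 1 1 27 0 1 0 0 1 1 0 0 1 0 1 0 1 1 0 1 15 15 15) (@D3.rec (fun _ => Nat) 27 1 1 27 27 27 27 27 27 27 27 27 27 27 27 27 27 27 27 27 27 95 27 27 27 27 27 0 1 0 1 1 107 0 1 99 1 102 97 1 99 81 97 0 1 27 0 1 27 27 27) (@D3.rec (fun _ => Nat) 27 27 27 27 27 27 27 27 1 27 27 27 27 27 27 27 27 27 27 27 27 27 27 27 27 0 1 25 0 1 25 1 25 25 25 25 25 1 1 0 1 103 0 1 107 105 15 15 25 101 0) (@D3.rec (fun _ => Nat) 1 25 0 0 1 0 1 25 25 1 25 25 108 0 1 1 25 25 0 1 25 0 1 25 0 1 25 25 25 1 25 0 1 25 0 1 25 25 1 25 25 25 1 1 2 15 1 16 1 0 1) (@D3.rec (fun _ => Nat) 0 1 107 0 1 1 1 27 1 27 1 27 1 27 0 1 26 0 1 26 0 1 26 0 1 26 26 26 26 0 1 26 26 0 1 26 0 1 26 1 26 26 26 1 26 26 0 1 26 0 1) (@D3.rec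 (fun _ => Nat) 26 1 26 26 26 26 26 0 1 96 0 1 0 0 1 96 0 1 1 26 1 0 1 26 1 0 1 26 100 0 1 0 1 1 1 0 1 3 0 1 26 98 1 26 14 0 0 1 80 0 1) (@D3.rec (fun _ => Nat) 14 0 0 1 0 1 0 0 1 0 0 1 1 3 0 1 0 1 26 26 1 0 1 0 1 0 1 101 0 1 1 97 102 104 0 0 1 0 1 1 26 26 0 1 1 0 1 76 0 1 26) (@D3.rec (fun _ => Nat) 0 1 26 0 0 1 0 1 0 1 0 1 3 0 1 0 0 1 1 1 0 1 6 1 0 1 78 0 1 4 0 1 26 0 1 26 26 1 26 1 15 0 15 0 0 1 0 1 0 0 1) (@D3.rec (fun _ => Nat) 1 1 3 0 0 1 0 0 1 0 0 1 0 0 1 0 1 6 1 1 4 4 0 1 26 1 26 26 1 0 1 0 0 1 1 26 1 26 1 26 1 26 26 1 26 0 1 1 26 26 26) (@D3.rec (fun _ => Nat) 26 26 26 26 26 104 0 0 0 1 1 106 0 0 1 0 1 0 0 1 1 1 3 0 1 26 26 26 0 0 0 1 0 1 0 0 1 1 1 3 0 0 1 0 0 1 1 1 0 1 6) (@D3.rec (fun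 _ => Nat) 4 0 1 4 0 1 26 0 1 26 26 1 26 1 1 26 26 26 0 0 1 0 0 1 0 0 1 0 0 1 0 0 1 0 1 6 1 1 4 0 1 4 0 1 0 0 1 0 0 1 0) (@D3.rec (fun _ => Nat) 1 7 0 1 0 1 7 0 0 1 0 1 7 0 1 7 1 1 5 0 1 5 5 0 1 5 5 0 1 26 0 1 26 26 1 26 26 26 26 0 1 26 0 0 1 0 1 26 26 0 1) (@D3.rec (fun _ => Nat) 26 1 26 26 30 26 26 0 1 26 0 1 1 26 26 26 1 26 26 26 26 26 1 26 1 1 26 26 1 28 1 28 1 28 14 0 0 1 98 1 14 0 0 1 14 0 0 0 1 0 0) (@D3.rec (fun _ => Nat) 1 1 1 26 14 96 1 1 1 28 0 1 0 0 1 98 0 1 0 1 1 0 1 0 1 3 1 26 1 26 26 1 28 1 28 1 28 0 1 0 1 0 1 0 0 1 0 0 1 99 0) (@D3.rec (fun _ => Nat) 1 0 1 0 0 1 0 0 1 1 3 0 1 26 26 0 1 28 1 28 101 0 1 0 1 0 0 1 0 0 1 0 1 3 0 1 1 0 1 1 6 0 0 1 0 1 4 0 1 4 26)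
def lv_i_12 : D2 → D3 → Nat := @D2.rec (fun _ => D3 → Nat) (@D3.rec (fun _ => Nat) 96 1 26 26 28 1 28 28 28 26 1 26 1 28 0 1 26 1 26 26 26 1 1 28 1 28 1 1 1 28 1 28 1 28 1 28 28 0 1 15 0 0 0 1 1 1 15 0 0 0 1) (@D3.rec (fun _ => Nat) 0 0 1 15 0 0 1 0 1 0 0 1 0 1 1 3 0 1 26 26 0 1 0 1 1 28 1 28 0 0 0 1 0 1 0 0 1 0 0 1 0 1 3 0 0 1 0 0 1 1 0) (@D3.rec (fun _ => Nat) 1 0 1 6 0 0 1 0 1 4 0 1 4 26 0 1 26 1 26 26 26 1 0 1 0 0 1 1 28 28 1 28 1 28 28 1 28 0 0 1 1 28 28 1 1 28 28 28 0 0 0) (@D3.rec (fun _ => Nat) 1 1 0 0 1 0 1 0 1 0 1 3 108 0 0 0 1 0 1 0 0 1 0 0 1 1 3 0 0 1 0 0 1 0 0 1 0 0 1 0 1 6 0 0 1 1 4 4 0 1 26) (@D3.rec (fun _ => Nat) 1 26 26 1 0 0 1 0 1 1 28 0 1 28 0 1 28 1 28 28 0 0 1 0 0 1 0 0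 1 0 0 1 0 0 1 0 1 6 1 1 4 0 1 4 0 1 0 0 1 0 0) (@D3.rec (fun _ => Nat) 1 0 1 7 0 1 0 1 7 0 0 1 0 1 7 0 1 7 1 1 5 0 1 5 5 0 1 5 5 1 26 0 1 26 26 1 26 26 26 0 1 1 28 0 0 1 0 1 28 28 28) (@D3.rec (fun _ => Nat) 1 28 28 28 28 28 28 0 1 1 28 28 28 28 1 26 26 0 1 26 1 26 26 26 0 0 1 0 1 0 1 1 56 0 0 1 0 1 0 1 0 1 56 56 1 26 1 26 26 1 0) (@D3.rec (fun _ => Nat) 0 1 0 0 1 0 1 0 1 0 1 6 4 0 1 0 0 1 0 0 1 0 1 7 1 0 1 7 1 0 1 57 0 1 7 59 57 0 1 60 5 0 1 26 0 1 26 26 1 26 26) (@D3.rec (fun _ => Nat) 26 26 0 1 1 1 1 0 1 0 0 1 0 1 1 3 0 0 1 0 0 1 0 1 1 6 36 0 0 1 0 0 1 0 1 0 1 0 1 6 4 0 1 0 0 1 0 0 1 0 1) (@D3.rec (fun _ => Nat) 7 0 1 0 1 7 1 0 1 55 1 7 53 55 5 0 1 26 26 26 26 0 0 1 0 1 1 0 0 1 0 1 1 0 0 1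 0 0 1 0 1 0 0 1 0 0 1 0 1 7 0) (@D3.rec (fun _ => Nat) 0 1 0 1 7 1 0 1 7 0 1 7 5 0 1 5 0 1 5 5 0 0 1 0 0 1 0 1 8 0 0 1 0 0 1 8 0 1 8 0 0 1 0 1 8 0 1 8 1 0 1) (@D3.rec (fun _ => Nat) 8 0 1 8 54 0 1 8 8 34 0 1 29 52 0 1 6 6 59 1 6 6 6 0 1 26 26 1 26 26 26 26 26 26 26 0 0 1 1 102 0 101 1 0 1 14 105 0 1 0 1) (@D3.rec (fun _ => Nat) 14 0 1 14 14 14 1 14 14 14 14 14 1 1 14 1 14 14 14 0 1 1 1 1 0 1 100 102 0 1 0 1 0 0 1 1 28 0 1 0 0 1 0 1 1 1 0 0 15 15 15) (@D3.rec (fun _ => Nat) 1 2 15 15 15 15 15 15 15 1 3 1 1 77 3 1 1 104 0 1 0 1 77 1 100 0 1 1 1 3 0 1 6 4 79 0 1 1 79 0 1 0 1 79 79 1 1 1 0 1 6) (@D3.rec (fun _ => Nat) 0 1 4 0 1 0 0 1 0 0 1 0 1 7 0 1 106 0 1 0 1 77 0 1 106 1 75 0 1 77 77 0 1 5 1 1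 1 1 0 1 1 102 79 1 1 102 1 26 26 26 26) (@D3.rec (fun _ => Nat) 26 0 1 0 1 0 1 1 6 0 1 0 0 1 1 7 0 1 7 0 1 60 1 57 58 0 1 26 0 1 26 1 26 26 26 26 26 1 26 26 1 26 26 26 1 0 1 0 1 1 58) (@D3.rec (fun _ => Nat) 0 0 1 0 1 1 6 4 0 1 0 0 1 0 0 1 0 1 7 0 0 1 0 1 7 1 0 1 7 1 60 61 63 5 1 0 1 0 0 1 1 26 0 0 1 0 1 26 26 0 1) (@D3.rec (fun _ => Nat) 26 1 26 26 28 26 26 0 0 1 0 1 0 0 1 0 0 1 0 1 7 0 1 7 0 1 0 1 7 0 1 7 1 5 5 5 0 1 5 0 0 1 0 0 1 0 1 8 0 0 1) (@D3.rec (fun _ => Nat) 0 0 1 8 0 1 8 0 0 1 0 1 8 1 108 0 1 0 1 8 0 1 8 8 0 1 8 1 28 0 1 6 6 0 1 70 62 58 1 6 1 1 26 1 0 1 26 26 1 0 1) (@D3.rec (fun _ => Nat) 26 0 1 26 26 1 26 26 30 26 26 26 26 26 26 26 26 1 1 1 3 1 28 1 3 99 1 4 96 28 1 3 1 98 4 28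 28 1 4 1 1 101 1 99 1 1 5 1 103 5 1) (@D3.rec (fun _ => Nat) 107 28 28 28 28 28 28 28 28 0 1 1 3 0 1 0 0 1 1 1 6 81 0 1 28 1 28 1 28 28 0 0 1 1 6 1 4 4 0 1 0 1 0 1 7 105 0 1 7 1 108) (@D3.rec (fun _ => Nat) 1 1 5 77 5 0 1 28 28 28 28 28 28 0 0 1 1 6 1 4 0 1 0 1 0 1 1 7 107 7 1 5 5 1 28 28 28 28 28 28 28 0 0 1 1 7 1 7 1 5 5) (@D3.rec (fun _ => Nat) 5 0 0 1 0 0 1 1 107 0 0 1 0 0 1 8 0 1 8 1 107 1 0 1 8 0 1 105 8 0 1 107 1 77 1 6 6 1 78 79 6 1 78 1 1 28 1 28 1 0 1) (@D3.rec (fun _ => Nat) 28 0 1 28 28 28 28 28 28 28 28 28 28 28 1 1 28 1 28 1 28 28 28 28 28 0 1 0 1 1 58 58 0 1 0 1 0 1 0 1 7 1 7 1 7 0 0 1 0 0 1) (@D3.rec (fun _ => Nat) 0 1 8 0 1 0 0 1 57 1 8 0 1 0 1 57 0 1 8 0 1 57 1 57 8 59 57 1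 1 1 0 1 1 0 1 1 1 103 16 0 0 1 0 1 1 7 7 0 0 1 0) (@D3.rec (fun _ => Nat) 0 1 1 8 0 0 1 0 1 55 8 0 1 55 1 53 28 1 1 1 1 0 1 0 1 1 0 0 1 1 107 0 0 1 0 0 1 1 8 0 0 1 0 0 1 8 0 1 8 0 0) (@D3.rec (fun _ => Nat) 1 1 8 8 1 0 1 8 0 1 8 0 1 8 6 6 0 1 6 6 1 6 0 1 0 1 9 0 1 0 0 1 9 0 1 9 0 1 0 0 1 9 0 0 1 0 1 9 56 0 1)
def lv_i_13 : D2 → D3 → Nat := @D2.rec (fun _ => D3 → Nat) (@D3.rec (fun _ => Nat) 9 9 0 1 0 1 9 1 9 55 0 1 101 0 1 9 0 1 9 54 0 1 9 9 56 1 9 30 0 1 29 7 1 7 7 55 7 1 1 98 1 2 15 15 15 28 1 28 1 0 0) (@D3.rec (fun _ => Nat) 1 1 28 0 0 1 0 1 28 28 1 1 0 1 1 0 1 0 1 1 1 16 16 28 28 28 28 28 28 28 28 28 28 28 28 28 1 1 1 99 89 81 1 28 1 2 28 28 28 28 28) (@D3.rec (fun _ => Nat) 28 28 28 28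 28 28 28 28 28 28 28 1 26 26 1 26 26 26 26 26 1 1 2 107 102 16 107 0 1 26 0 0 1 1 2 1 26 26 26 26 26 26 105 1 26 26 1 26 1 26 26) (@D3.rec (fun _ => Nat) 1 26 26 26 26 1 26 1 26 26 26 26 2 108 1 109 1 109 1 28 28 28 28 28 1 27 27 1 1 1 27 27 27 1 27 27 0 1 27 1 27 27 27 27 27 27 1 27 1 27 27) (@D3.rec (fun _ => Nat) 27 27 27 0 1 0 1 0 1 1 3 1 27 1 76 1 27 1 1 3 6 78 0 1 4 1 27 27 0 1 0 1 85 82 1 3 0 1 0 0 1 0 1 0 0 1 0 1 6 0 0) (@D3.rec (fun _ => Nat) 1 1 80 4 0 1 1 27 27 1 0 1 1 99 1 97 0 1 1 1 76 27 0 1 78 0 1 78 1 27 1 27 0 1 0 1 1 0 1 6 0 1 4 0 1 0 1 0 1 7 7) (@D3.rec (fun _ => Nat) 77 0 1 7 78 0 1 77 0 1 5 5 0 1 27 27 1 27 27 27 0 0 1 0 0 1 0 0 1 0 0 1 1 0 1 6 4 4 0 1 0 0 1 0 0 1 0 1 7 0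 1) (@D3.rec (fun _ => Nat) 0 1 7 1 0 1 7 1 7 62 60 5 5 0 1 27 27 27 27 1 27 0 1 0 1 27 27 27 27 27 27 27 27 27 1 27 27 27 27 27 27 0 0 1 0 1 1 3 0 0 1) (@D3.rec (fun _ => Nat) 0 0 1 0 1 1 0 1 6 61 35 1 27 27 0 1 0 1 0 0 1 1 1 0 1 6 4 4 0 1 0 1 0 1 0 1 7 7 7 0 1 7 5 0 1 60 5 0 1 27 27) (@D3.rec (fun _ => Nat) 1 27 27 27 27 27 0 1 0 0 1 0 1 0 0 1 0 0 1 0 1 7 0 1 0 1 7 1 0 1 7 0 1 7 5 5 5 0 1 5 5 0 1 0 0 1 0 1 8 0 0) (@D3.rec (fun _ => Nat) 1 0 0 1 8 0 1 8 0 1 8 0 1 8 1 0 1 8 0 1 8 8 0 1 8 8 28 33 6 0 1 29 6 1 6 6 6 0 1 27 27 1 27 27 27 27 27 27 27 0 1) (@D3.rec (fun _ => Nat) 27 0 1 0 1 27 0 1 27 27 1 27 27 31 27 27 27 27 1 27 27 1 27 27 27 27 27 27 27 29 27 27 29 29 100 0 1 1 0 1 0 0 1 98 0 1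 1 1 1 1 3) (@D3.rec (fun _ => Nat) 27 29 1 0 1 0 1 3 1 1 6 1 4 1 4 27 27 29 29 29 1 1 0 1 3 0 1 0 1 0 0 1 1 3 1 1 1 0 1 6 1 1 4 4 1 27 27 1 29 29 29) (@D3.rec (fun _ => Nat) 1 1 1 1 6 1 1 4 1 4 1 7 7 1 7 7 1 1 5 1 5 5 1 5 5 27 27 27 29 29 29 29 27 29 1 27 27 29 29 29 1 0 0 1 0 1 1 78 0 0 1) (@D3.rec (fun _ => Nat) 0 1 0 0 1 1 1 3 0 0 1 0 0 1 1 1 0 1 6 1 4 4 1 27 27 1 1 29 29 29 0 1 0 1 0 0 1 1 0 1 0 1 6 1 1 4 0 1 4 0 1) (@D3.rec (fun _ => Nat) 0 1 0 0 1 0 1 7 7 1 7 0 1 7 1 1 5 0 1 5 5 1 5 5 1 27 27 27 27 27 1 29 1 0 1 29 29 29 29 29 29 1 1 29 29 0 1 1 1 3 0) (@D3.rec (fun _ => Nat) 1 0 0 1 1 0 1 6 1 76 0 0 1 0 1 0 0 1 0 1 0 0 1 0 1 6 1 1 4 4 0 1 0 0 1 0 0 1 0 1 7 1 0 1 7 0 1 0 1 7 1) (@D3.rec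 (fun _ => Nat) 7 1 1 5 5 5 5 0 1 27 27 27 27 0 1 1 29 1 29 29 1 29 1 29 29 29 29 29 0 1 0 0 1 0 1 0 0 1 0 0 1 0 1 7 1 0 1 7 1 0 1) (@D3.rec (fun _ => Nat) 7 0 1 7 5 5 5 1 5 5 0 1 0 1 0 1 8 0 0 1 0 0 1 8 0 1 8 0 1 8 1 8 1 0 1 8 0 1 8 8 0 1 8 8 78 80 6 1 79 6 6) (@D3.rec (fun _ => Nat) 1 6 6 6 27 27 1 27 27 27 27 27 27 0 1 29 29 0 1 0 1 29 0 1 29 29 29 29 29 29 29 1 29 29 1 27 27 27 0 1 0 0 1 0 1 1 56 56 0 1 0) (@D3.rec (fun _ => Nat) 1 0 1 56 1 56 1 56 56 27 27 27 0 1 0 0 1 0 1 0 1 0 1 7 0 1 7 1 7 5 0 0 1 0 1 0 1 8 0 1 0 0 1 57 0 1 8 57 1 8 61) (@D3.rec (fun _ => Nat) 1 59 0 1 8 8 1 62 62 61 1 27 27 1 27 27 27 27 27 1 1 0 1 0 1 1 6 0 1 0 0 1 0 1 1 7 1 7 36 36 0 1 0 0 1 0 1 0 1 0 1) (@D3.rec (fun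 _ => Nat) 7 0 1 7 1 7 5 0 0 1 0 1 0 1 8 0 1 0 0 1 55 1 8 0 1 56 0 1 8 53 1 55 8 8 54 6 1 27 27 27 27 0 1 1 0 1 0 1 0 1 0) (@D3.rec (fun _ => Nat) 1 0 1 0 0 1 0 0 1 0 1 14 0 0 1 0 0 1 0 1 8 0 1 0 0 1 8 0 1 8 1 0 1 8 0 1 8 8 0 1 8 0 1 8 8 0 1 6 6 1 6) (@D3.rec (fun _ => Nat) 6 6 0 0 1 0 1 9 0 0 1 0 0 1 9 0 1 9 0 1 0 0 1 9 0 0 1 0 1 9 54 0 1 9 9 1 0 1 9 0 1 9 54 0 1 9 9 34 0 1 29) (@D3.rec (fun _ => Nat) 52 0 1 9 9 59 1 9 9 9 0 1 27 29 1 7 53 59 57 7 7 7 7 1 27 27 27 27 27 27 27 27 27 27 27 1 0 1 102 1 101 0 1 15 1 15 1 15 1 2 15) (@D3.rec (fun _ => Nat) 15 15 15 15 15 15 1 29 1 29 1 0 1 29 0 0 1 0 1 29 29 1 1 0 1 0 1 1 1 16 16 2 3 16 16 16 3 98 109 108 102 1 75 1 98 100 0 1 6 4 1)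
def lv_i_14 : D2 → D3 → Nat := @D2.rec (fun _ => D3 → Nat) (@D3.rec (fun _ => Nat) 7 79 0 1 104 0 1 80 1 108 1 7 1 5 0 1 0 1 1 108 0 1 0 0 1 79 0 1 8 1 106 0 1 77 0 1 106 79 1 107 79 1 79 79 1 6 1 27 27 0 0) (@D3.rec (fun _ => Nat) 1 0 1 1 7 7 1 8 0 0 1 1 60 8 0 1 60 1 57 58 69 55 1 27 27 1 27 27 27 27 27 27 27 27 0 1 1 60 107 0 1 1 7 1 7 7 5 0 0 1 0) (@D3.rec (fun _ => Nat) 0 1 0 1 108 0 1 0 0 1 8 1 8 1 0 1 8 1 108 61 1 63 8 62 60 62 58 0 1 27 1 0 1 27 27 1 0 1 27 1 27 27 1 27 27 29 27 27 27 0 0) (@D3.rec (fun _ => Nat) 1 1 105 0 0 1 0 0 1 1 8 0 1 0 0 1 8 0 1 8 1 8 0 1 8 1 8 8 1 8 6 6 1 6 0 1 0 1 9 0 1 0 0 1 9 1 9 0 1 0 0) (@D3.rec (fun _ => Nat) 1 9 0 0 1 0 1 9 9 0 1 9 9 0 1 0 1 9 1 108 9 106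 0 1 28 0 1 9 9 0 1 9 62 60 1 9 28 0 1 29 51 1 70 47 7 27 27 0 1 27 27) (@D3.rec (fun _ => Nat) 27 0 1 27 27 1 2 27 27 31 27 27 27 3 95 79 29 29 4 78 5 29 4 108 5 29 5 5 99 109 97 103 77 106 6 101 79 6 29 29 29 29 29 0 1 6 0 1 0 1 1) (@D3.rec (fun _ => Nat) 7 109 81 81 1 29 29 29 29 29 0 1 1 7 7 5 5 1 105 0 0 1 8 1 8 1 79 8 110 86 79 6 81 6 0 1 29 29 29 29 0 1 1 7 7 5 5 0 1 1 109) (@D3.rec (fun _ => Nat) 1 8 8 8 77 6 85 29 29 29 0 1 0 1 8 8 8 8 6 6 6 0 1 0 1 106 0 1 1 108 108 0 1 0 0 1 9 0 1 0 1 9 9 0 1 109 9 108 105 77 1) (@D3.rec (fun _ => Nat) 107 9 1 107 81 9 1 102 81 77 99 84 82 7 101 81 83 29 29 29 29 1 29 29 1 2 29 29 29 29 29 29 29 29 29 29 0 1 1 58 58 1 109 0 1 1 8 1 8 8 8) (@D3.rec (fun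 _ => Nat) 0 1 0 1 9 0 1 0 0 1 57 0 1 9 0 0 1 57 0 1 1 57 9 9 0 1 57 1 57 1 105 1 61 57 57 61 1 1 114 0 1 1 109 1 8 8 0 1 0 1 109) (@D3.rec (fun _ => Nat) 0 1 1 58 9 0 1 0 1 53 0 1 55 9 1 53 30 1 1 2 0 0 1 0 1 110 107 0 1 0 1 9 0 1 0 1 9 9 0 1 0 0 1 9 0 0 1 0 1 9 0) (@D3.rec (fun _ => Nat) 1 9 9 1 1 9 9 9 1 9 0 1 9 9 1 9 7 1 7 7 7 0 1 10 0 1 10 0 1 10 1 1 10 57 0 1 106 10 0 1 10 0 1 0 1 10 54 0 0 1 1) (@D3.rec (fun _ => Nat) 2 0 1 10 10 56 1 10 10 10 0 1 10 1 10 105 10 57 1 106 1 30 1 10 10 1 10 10 55 56 10 1 29 29 8 8 8 2 16 16 29 0 1 0 1 29 29 1 0 1 29) (@D3.rec (fun _ => Nat) 0 1 29 29 1 0 1 1 2 17 29 97 29 2 3 29 29 29 29 29 27 27 27 27 27 97 2 104 108 1 27 27 0 1 1 2 2 3 27 27 27 27 27 27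 27 27 27 27 27 27 27) (@D3.rec (fun _ => Nat) 27 27 27 27 113 108 113 29 29 28 1 28 28 28 28 28 28 28 1 3 1 102 1 80 4 28 76 6 4 1 102 5 28 28 0 1 0 1 6 4 0 1 0 1 0 1 7 0 1 102 0) (@D3.rec (fun _ => Nat) 0 1 0 1 80 1 7 1 1 88 80 5 1 28 28 28 1 97 0 1 76 80 28 1 80 1 80 78 0 1 0 1 7 7 0 1 7 1 5 5 1 8 1 79 0 1 8 0 1 8 8) (@D3.rec (fun _ => Nat) 1 77 1 6 6 80 1 28 28 28 28 28 0 1 0 0 1 0 1 0 0 1 0 1 0 1 7 1 0 1 7 7 1 7 5 5 0 1 0 1 0 1 8 0 1 0 0 1 8 1 8) (@D3.rec (fun _ => Nat) 0 1 8 0 1 8 64 1 62 8 8 8 63 61 6 6 1 28 28 28 28 28 28 0 1 28 0 1 28 28 28 28 28 28 28 0 1 0 1 1 6 0 1 0 0 1 0 1 0 1 7) (@D3.rec (fun _ => Nat) 1 7 61 1 37 61 37 28 28 0 1 0 1 0 1 0 1 7 7 7 1 7 5 5 0 1 1 8 1 8 0 1 8 8 0 1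 8 8 1 60 60 1 28 28 28 28 28 0 0 1 0) (@D3.rec (fun _ => Nat) 0 1 0 1 102 0 1 0 0 1 0 1 8 0 1 0 0 1 8 0 1 8 1 8 0 1 8 8 1 8 8 0 1 8 8 6 6 1 6 6 6 0 1 9 0 0 1 1 9 0 1) (@D3.rec (fun _ => Nat) 9 0 1 0 0 1 9 0 1 0 1 9 9 0 1 9 9 1 9 9 0 1 9 9 30 1 35 9 0 1 9 9 1 9 9 9 30 48 1 29 50 7 7 54 1 28 28 28 28 28 28) (@D3.rec (fun _ => Nat) 28 28 28 28 1 28 28 0 1 28 0 1 28 28 1 2 28 28 32 28 28 28 28 28 28 28 28 1 100 1 1 1 3 1 6 4 4 28 30 6 1 4 1 4 105 98 5 5 5 5 28) (@D3.rec (fun _ => Nat) 28 30 30 3 102 1 76 1 1 6 1 1 4 4 103 7 7 1 102 5 5 5 5 28 28 30 30 7 7 7 7 5 5 5 5 5 108 104 8 8 77 80 6 101 6 6 106 6 6 28 28) (@D3.rec (fun _ => Nat) 28 0 1 0 1 1 78 0 1 0 0 1 1 1 0 1 6 4 4 0 1 0 1 0 1 0 1 7 7 7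 1 7 78 5 5 28 28 30 30 0 0 1 0 1 0 0 1 0 1 7 7) (@D3.rec (fun _ => Nat) 1 7 0 1 7 5 5 5 1 5 5 0 1 1 8 0 1 0 1 8 0 1 8 8 8 1 8 8 80 81 6 1 76 6 6 6 6 28 28 28 28 30 1 30 30 30 30 30 0 1 6) (@D3.rec (fun _ => Nat) 0 1 0 0 1 1 7 106 1 78 78 78 0 1 0 0 1 0 0 1 0 0 1 0 1 7 1 7 1 0 1 7 1 7 5 5 5 5 0 1 0 1 0 1 8 0 0 1 0 1 8) (@D3.rec (fun _ => Nat) 1 8 8 1 104 1 8 1 8 8 8 8 78 85 6 82 6 6 1 28 28 28 1 30 30 30 30 30 30 30 30 30 0 0 1 0 0 1 0 1 14 0 1 0 1 0 1 8 0 1 0)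
def lv_i_15 : D2 → D3 → Nat := @D2.rec (fun _ => D3 → Nat) (@D3.rec (fun _ => Nat) 0 1 8 0 1 8 8 1 8 8 1 8 8 1 8 8 6 6 6 6 6 6 0 1 9 0 0 1 9 1 9 0 1 0 0 1 9 0 0 1 0 1 9 9 0 1 9 9 1 106 9) (@D3.rec (fun _ => Nat) 9 9 78 1 82 9 1 9 9 9 1 9 9 9 82 7 101 83 89 81 83 104 7 28 28 28 28 28 28 0 1 30 30 0 1 30 0 1 30 30 1 2 30 30 30 30 30 28 0 1 0) (@D3.rec (fun _ => Nat) 1 1 58 1 58 58 56 0 1 1 58 1 58 58 58 58 28 28 0 1 0 1 0 1 15 0 1 0 1 8 1 8 1 8 8 8 0 1 0 1 9 1 59 1 9 1 61 1 1 59 0) (@D3.rec (fun _ => Nat) 1 9 9 9 9 59 1 62 9 61 62 62 28 28 28 28 28 28 28 106 0 1 1 7 7 0 1 0 1 1 8 0 1 38 8 98 38 0 1 0 1 0 1 15 0 1 0 1 8 1 8) (@D3.rec (fun _ => Nat) 0 1 8 8 8 6 0 1 0 1 9 0 0 1 56 0 1 9 0 1 55 0 0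 1 1 57 9 9 0 1 56 1 9 9 57 56 9 9 57 28 28 28 28 28 1 1 0 1 0 1 1) (@D3.rec (fun _ => Nat) 2 0 1 0 0 1 0 1 15 0 0 1 0 0 1 15 0 1 15 0 1 0 1 9 0 1 0 1 9 0 1 9 0 1 9 0 0 1 0 1 9 0 1 9 9 9 0 1 9 0 1) (@D3.rec (fun _ => Nat) 9 9 0 1 9 9 1 9 9 9 1 7 7 7 7 7 0 1 0 0 1 10 0 1 10 0 1 0 0 1 10 0 0 1 0 1 10 57 0 1 10 10 1 36 0 1 0 1 10 54 0) (@D3.rec (fun _ => Nat) 0 1 1 2 0 1 10 10 56 1 10 10 10 98 1 31 54 0 1 10 10 61 1 10 10 10 0 1 36 31 1 10 10 59 61 61 10 10 10 10 10 1 29 8 55 61 8 8 62 28 28) (@D3.rec (fun _ => Nat) 28 28 28 28 28 28 28 28 28 28 1 100 1 2 16 103 16 2 3 16 16 16 30 1 30 1 1 30 1 30 30 1 1 2 3 4 4 17 17 98 100 100 1 7 8 1 106 1 80 108 8) (@D3.rec (fun _ => Nat) 6 1 101 1 106 108 0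 1 79 0 1 0 1 81 1 108 9 106 1 107 1 108 106 106 81 81 79 106 84 0 1 1 113 1 8 8 9 0 1 1 59 62 62 9 1 59 62 71 57 28 28) (@D3.rec (fun _ => Nat) 28 28 28 28 28 1 114 60 0 1 8 8 8 8 0 0 1 0 1 109 0 1 0 0 1 111 1 112 0 1 63 0 1 1 9 9 62 9 63 1 114 9 110 62 62 64 58 60 1 28 28) (@D3.rec (fun _ => Nat) 1 28 28 28 1 28 28 84 28 28 30 28 28 28 28 0 0 1 0 1 104 102 0 1 1 9 0 1 0 1 9 9 0 0 1 9 0 0 1 1 9 9 1 9 9 9 9 1 9 9 9) (@D3.rec (fun _ => Nat) 9 7 0 1 10 1 10 0 1 10 0 0 1 1 10 10 108 10 0 1 34 0 0 1 0 1 10 10 0 0 1 1 2 0 1 10 10 10 1 10 10 10 0 1 30 1 109 10 109 114 60) (@D3.rec (fun _ => Nat) 1 30 1 10 51 1 63 62 60 111 30 1 31 72 49 28 28 1 2 28 28 1 2 28 28 2 3 28 28 28 81 30 30 5 81 6 30 5 84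 6 6 101 105 99 77 106 83 1 7 1 109) (@D3.rec (fun _ => Nat) 1 84 8 83 83 30 30 30 30 0 1 8 8 8 6 6 105 0 0 1 1 9 9 110 9 83 81 9 81 81 83 1 2 30 30 30 30 0 1 8 8 8 6 1 108 109 9 9 9 84 30) (@D3.rec (fun _ => Nat) 30 1 9 0 1 9 9 9 9 9 7 1 107 1 107 1 108 105 107 103 1 80 1 1 10 10 1 2 1 107 10 10 1 102 102 10 108 79 108 80 10 107 81 10 83 30 30 30 30 99 30) (@D3.rec (fun _ => Nat) 30 2 3 30 30 30 30 0 1 60 60 60 113 1 9 9 9 9 0 1 59 0 1 10 0 1 59 0 1 1 59 1 105 10 0 1 1 59 1 112 59 59 10 10 1 61 112 59 113 61 61) (@D3.rec (fun _ => Nat) 59 109 110 1 108 109 9 9 1 58 1 111 1 56 58 10 1 34 1 55 1 2 57 10 30 99 2 0 1 0 1 110 0 1 108 110 106 0 1 10 1 10 1 10 1 10 10 1 10 0 0) (@D3.rec (fun _ => Nat)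 1 1 10 0 0 1 1 2 0 1 10 10 1 10 10 10 10 10 10 10 10 1 10 10 10 8 8 8 1 11 1 11 11 1 11 105 103 11 57 1 103 106 11 1 11 0 1 1 11 11 0) (@D3.rec (fun _ => Nat) 1 1 2 2 3 1 11 11 11 58 58 11 11 11 11 1 32 105 11 107 55 57 103 36 36 11 11 11 11 11 57 31 31 9 17 30 1 30 1 30 30 1 30 30 1 2 30 30 103 1 104) (@D3.rec (fun _ => Nat) 2 99 3 28 28 28 28 1 2 2 3 3 28 28 28 28 28 28 28 28 28 28 28 28 112 110 30 29 4 102 105 5 29 5 110 110 80 29 0 1 7 1 7 5 0 1 108 0 1 82 1) (@D3.rec (fun _ => Nat) 8 1 102 1 0 1 105 1 103 8 8 80 79 82 29 29 1 78 80 80 80 1 8 1 8 1 8 8 6 6 9 81 0 1 9 9 1 9 9 82 79 102 7 82 29 29 29 29 0 1 0) (@D3.rec (fun _ => Nat) 0 1 0 1 108 0 1 0 1 0 1 8 0 1 8 1 8 8 0 1 8 8 8 8 6 6 1 9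 0 1 9 0 1 9 0 1 64 0 0 1 1 9 9 9 9 1 62 9 1 9 9) (@D3.rec (fun _ => Nat) 63 62 61 9 9 9 61 59 60 29 29 29 29 29 29 29 0 1 29 29 1 2 29 29 29 29 0 1 1 7 7 0 0 1 0 1 1 8 0 1 63 1 8 63 63 37 37 29 0 1 83) (@D3.rec (fun _ => Nat) 1 8 0 1 8 1 8 8 8 8 0 1 110 9 9 9 0 1 9 9 1 62 9 62 62 29 29 29 29 29 0 0 1 0 1 107 0 0 1 0 0 1 85 1 107 0 1 9 0 1 0) (@D3.rec (fun _ => Nat) 1 9 0 1 9 0 1 9 0 0 1 1 9 9 0 1 9 9 9 9 1 9 9 9 9 9 1 9 9 9 7 7 0 1 10 0 1 1 10 10 10 0 1 10 10 0 1 35 0 1 1) (@D3.rec (fun _ => Nat) 10 10 1 2 0 1 10 10 10 1 10 10 10 30 10 10 1 10 10 10 30 35 48 1 33 10 10 10 10 10 54 31 52 8 29 29 29 29 29 29 29 29 29 29 29 29 29 29 1 29 1)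
def lv_i_16 : D2 → D3 → Nat := @D2.rec (fun _ => D3 → Nat) (@D3.rec (fun _ => Nat) 2 29 29 2 3 29 29 29 29 29 29 109 6 4 4 102 5 5 5 5 5 5 6 6 6 6 103 78 7 7 5 5 5 5 105 6 84 6 6 31 31 8 8 6 6 6 6 6 111 106 80) (@D3.rec (fun _ => Nat) 7 86 83 83 85 0 1 1 109 102 0 1 0 1 0 1 7 7 7 1 7 5 5 0 1 1 8 1 8 1 8 8 8 8 29 31 0 1 0 1 16 1 8 0 1 0 1 8 0 1 8) (@D3.rec (fun _ => Nat) 8 8 1 8 8 6 6 6 6 6 1 108 9 1 9 1 9 9 1 9 9 9 9 9 9 9 105 7 29 29 29 31 109 31 31 31 1 7 1 106 0 1 0 1 81 8 105 78 0 1 0) (@D3.rec (fun _ => Nat) 1 0 1 15 0 1 1 8 0 1 0 0 1 8 1 8 8 8 1 8 8 8 8 6 6 6 1 107 1 9 0 1 9 1 1 9 1 9 9 9 9 106 107 9 9 84 9 9 9 82 82) (@D3.rec (fun _ => Nat) 84 84 29 29 29 31 31 31 31 31 0 1 0 1 15 0 1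 0 0 1 15 1 15 1 9 0 1 9 1 9 0 1 9 0 1 1 9 9 1 9 9 9 9 9 9 9 9 9 9 9 9) (@D3.rec (fun _ => Nat) 7 7 1 10 0 0 1 1 10 10 10 10 0 1 82 0 0 1 1 10 10 0 1 1 2 1 10 10 10 1 10 10 10 106 108 10 84 82 10 103 10 83 83 10 104 10 10 10 95 82 86) (@D3.rec (fun _ => Nat) 29 29 29 29 29 1 2 31 31 1 31 1 2 31 31 2 3 31 31 31 1 58 1 58 58 58 56 1 58 58 58 58 58 58 29 0 1 111 1 17 1 17 0 1 9 1 9 9 9 9 9) (@D3.rec (fun _ => Nat) 9 1 59 1 10 59 10 10 63 104 61 59 1 64 10 10 10 64 64 63 10 64 29 29 29 29 29 1 8 8 1 110 1 98 9 1 38 38 9 98 0 1 16 0 1 16 1 16 0 1 9) (@D3.rec (fun _ => Nat) 0 1 9 9 9 1 9 9 9 9 0 1 102 1 10 0 1 0 1 58 1 10 10 0 1 106 0 1 1 2 57 57 10 10 1 58 56 10 10 10 56 59 10 10 29 29 29 29 105 1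 1) (@D3.rec (fun _ => Nat) 102 2 1 112 0 1 0 1 16 0 1 16 0 1 0 0 1 16 0 0 1 0 1 16 16 1 16 16 1 10 0 1 10 1 10 0 1 10 0 1 10 10 1 10 0 1 1 2 1 10 10) (@D3.rec (fun _ => Nat) 1 10 10 10 1 10 10 1 10 10 10 1 10 10 10 10 10 10 10 8 8 8 1 104 1 0 1 11 59 1 11 11 1 98 0 1 1 11 57 0 0 1 1 2 0 1 11 11 59 1 11) (@D3.rec (fun _ => Nat) 11 11 36 0 1 103 1 36 11 54 0 0 1 1 2 2 3 1 11 11 11 56 61 11 11 11 11 11 36 31 1 11 11 61 59 11 11 11 11 11 1 33 36 11 55 61 11 59 11 11 11) (@D3.rec (fun _ => Nat) 11 11 62 29 55 55 9 29 29 29 29 29 29 29 29 29 29 29 29 2 3 4 4 17 17 31 31 31 31 31 31 112 31 99 2 4 4 5 18 102 104 8 9 106 110 82 9 103 108 103 1) (@D3.rec (fun _ => Nat) 79 1 82 1 106 81 107 104 10 109 109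 107 106 83 1 110 107 9 9 10 1 60 59 57 62 60 10 71 59 29 29 29 108 62 1 9 9 9 9 0 1 1 109 1 109 1 63 0 1 1 111) (@D3.rec (fun _ => Nat) 111 108 104 1 63 62 1 84 65 10 10 64 10 62 109 111 60 60 64 60 29 29 29 86 29 29 86 29 29 86 29 29 29 29 29 1 1 106 1 104 108 105 0 1 10 10 0 1 10 0 1) (@D3.rec (fun _ => Nat) 10 10 10 1 1 10 10 1 1 2 10 10 10 10 10 10 10 10 1 11 11 109 11 1 11 11 0 1 1 2 109 11 11 105 11 1 34 1 1 2 1 11 11 11 1 1 2 2 3 1 61) (@D3.rec (fun _ => Nat) 11 11 11 62 111 11 11 11 1 30 111 109 111 62 35 30 35 51 104 49 64 31 49 29 29 2 3 29 29 2 3 29 3 4 29 29 81 6 81 83 8 111 85 85 9 83 31 31 31 0 1) (@D3.rec (fun _ => Nat) 9 9 9 9 103 0 1 1 2 83 10 10 105 10 83 83 10 85 2 3 31 31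 31 1 9 9 9 110 103 10 10 10 87 31 10 10 1 2 10 10 10 10 10 108 107 108 105 108 110 107 107) (@D3.rec (fun _ => Nat) 105 82 82 103 103 11 11 2 3 109 109 11 11 11 102 104 104 11 11 85 31 31 31 99 31 31 3 4 31 1 60 60 60 105 10 10 10 10 1 59 1 105 11 1 59 1 110 110 59 108 105) (@D3.rec (fun _ => Nat) 11 1 107 63 59 104 106 59 59 11 11 63 63 113 63 59 108 110 105 10 10 60 103 105 108 60 11 34 103 55 2 3 57 11 1 105 1 110 112 1 2 110 112 106 1 11 11 11 11 101 11) (@D3.rec (fun _ => Nat) 11 11 1 1 103 11 11 0 1 1 2 2 3 1 11 11 11 11 11 11 11 11 11 11 11 11 11 9 12 12 112 12 12 105 12 107 105 12 59 59 108 103 106 12 36 12 1 36 12 12 1) (@D3.rec (fun _ => Nat) 2 2 3 3 4 12 12 12 12 12 58 58 12 12 12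 12 104 109 12 106 57 59 36 12 12 12 12 57 31 31 31 114 31 31 116 31 31 31 2 3 31 113 29 29 2 3 3 4 29 29 29) (@D3.rec (fun _ => Nat) 29 29 29 110 5 82 105 1 8 8 8 1 108 1 103 9 9 102 103 1 103 105 9 82 30 30 80 82 9 9 9 9 9 7 10 81 1 108 10 10 104 10 82 10 107 30 30 30 0 1 111) (@D3.rec (fun _ => Nat) 0 1 0 0 1 110 1 110 1 9 0 1 9 0 1 9 0 1 9 9 9 9 9 1 9 9 9 9 9 10 1 10 10 1 10 10 0 1 63 63 0 1 1 2 64 10 10 10 10 64 63) (@D3.rec (fun _ => Nat) 10 10 10 10 63 63 61 10 10 10 56 30 30 30 30 30 30 1 2 30 30 2 3 30 30 30 1 8 8 0 1 0 1 112 1 63 9 1 63 63 39 9 63 39 30 1 83 9 1 9 9) (@D3.rec (fun _ => Nat) 9 9 9 1 110 10 10 10 1 62 10 10 62 62 10 62 30 30 0 1 0 0 1 85 0 1 104 0 1 1 85 1 1 83 85 113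 104 0 1 10 1 10 1 10 10 1 10 10 1 10 10) (@D3.rec (fun _ => Nat) 1 1 2 10 10 10 1 10 10 10 10 10 10 10 10 10 10 10 10 10 8 0 1 11 11 1 37 11 11 11 11 1 11 11 11 1 37 37 1 2 37 11 11 2 3 1 35 11 11 11 11)
def lv_i_17 : D2 → D3 → Nat := @D2.rec (fun _ => D3 → Nat) (@D3.rec (fun _ => Nat) 11 11 11 11 11 32 50 11 112 11 11 11 56 50 100 52 11 11 56 11 30 30 30 30 30 30 30 30 30 30 30 103 30 2 3 30 30 3 4 30 30 30 5 5 6 6 6 6 6 6 6) (@D3.rec (fun _ => Nat) 82 90 84 84 7 82 1 106 109 1 8 1 8 1 8 8 8 8 1 105 9 9 9 9 9 9 30 32 0 0 1 16 1 16 9 1 9 1 9 9 1 9 9 9 9 9 9 9 7 102 10) (@D3.rec (fun _ => Nat) 10 10 113 10 10 10 10 10 10 10 10 10 30 30 32 113 32 32 8 106 0 1 105 1 81 81 9 1 16 0 0 1 16 1 16 1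 9 9 1 9 1 1 9 9 9 9 9 9 9 9 9) (@D3.rec (fun _ => Nat) 107 10 1 106 10 105 10 10 10 10 10 10 10 82 90 84 84 94 10 10 10 30 32 32 32 32 0 0 1 16 1 16 1 16 0 1 1 16 16 16 16 10 0 1 10 10 10 10 1 10 10) (@D3.rec (fun _ => Nat) 1 2 10 10 10 10 10 10 10 10 10 10 10 10 10 107 11 0 1 1 2 110 11 11 11 11 1 84 1 1 2 85 11 11 1 2 2 3 103 11 11 11 11 106 11 11 11 11 108 11 85) (@D3.rec (fun _ => Nat) 84 11 85 91 11 83 84 11 11 30 30 30 2 3 32 103 32 2 3 32 3 4 4 32 32 60 60 58 60 60 60 60 60 60 60 1 111 17 17 17 17 1 10 10 10 10 10 10 10 61 11) (@D3.rec (fun _ => Nat) 11 61 11 11 63 104 61 61 64 64 11 11 11 11 64 64 63 30 30 30 9 9 110 104 100 10 104 40 40 10 1 17 1 17 17 17 17 1 10 1 10 10 10 10 10 10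 10 10 10 1 104) (@D3.rec (fun _ => Nat) 11 11 1 102 1 58 58 11 11 11 1 100 106 1 2 2 3 59 59 11 11 11 58 56 59 11 11 11 59 58 11 30 30 30 30 105 115 110 1 114 1 17 17 1 17 17 1 113 1 1 17) (@D3.rec (fun _ => Nat) 17 1 1 2 1 17 17 17 110 17 17 11 1 11 11 11 1 11 11 1 11 11 11 101 11 1 2 2 3 11 11 11 11 11 11 11 11 11 11 11 11 11 11 11 11 11 11 11 11 11 11) (@D3.rec (fun _ => Nat) 9 106 107 1 104 12 59 12 12 12 104 1 38 12 1 1 2 2 3 1 12 12 12 59 12 12 12 12 12 38 1 101 105 35 38 12 56 1 1 2 2 3 3 4 4 110 12 12 12 12 58) (@D3.rec (fun _ => Nat) 63 12 12 12 12 12 12 38 117 12 61 109 12 12 12 12 12 64 113 38 57 57 61 63 12 12 12 64 12 12 113 61 30 30 30 30 30 30 30 30 30 30 30 30 0 4 4 5 103 18 32)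 (@D3.rec (fun _ => Nat) 32 32 32 32 5 9 10 104 102 82 10 103 108 103 107 81 84 84 108 106 83 104 104 11 109 108 108 112 112 103 10 10 11 64 61 59 64 64 11 30 104 62 79 10 10 10 1 111 111 111 110) (@D3.rec (fun _ => Nat) 107 65 65 1 84 107 112 110 104 110 84 65 64 84 84 64 11 11 60 64 11 62 109 60 62 64 30 30 30 86 30 30 86 30 30 30 86 30 30 30 105 104 108 78 104 105 111 1 11 11 11) (@D3.rec (fun _ => Nat) 1 11 11 1 2 11 11 11 103 11 11 11 82 2 3 11 11 11 11 11 11 109 12 12 107 12 111 12 12 1 2 2 3 109 12 12 62 107 12 37 36 108 2 3 37 12 12 12 106 2 3) (@D3.rec (fun _ => Nat) 3 4 4 102 65 12 64 12 12 62 107 12 12 12 106 32 111 111 62 37 53 51 51 30 3 4 30 30 3 4 4 5 9 106 86 86 10 85 32 32 1 2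 10 10 10 10 105 1 2 2 3) (@D3.rec (fun _ => Nat) 85 11 11 11 107 11 83 83 85 3 4 32 32 105 10 10 10 103 103 11 11 88 11 11 11 2 3 11 11 11 11 11 107 109 109 105 107 107 107 107 114 82 82 105 109 12 12 12 3 4 4) (@D3.rec (fun _ => Nat) 109 109 85 12 12 12 87 104 113 12 101 4 110 62 62 62 105 11 11 11 11 105 61 113 110 12 63 61 111 108 109 61 105 105 12 104 104 63 61 111 106 61 61 61 12 12 63 114 63 108 110) (@D3.rec (fun _ => Nat) 105 11 11 60 110 105 108 60 12 36 105 57 3 4 59 12 84 107 111 108 112 112 2 3 110 110 113 12 12 12 12 12 107 12 12 12 111 101 103 12 12 1 2 2 3 3 4 12 12 12 12) (@D3.rec (fun _ => Nat) 12 12 12 12 12 12 12 12 12 12 13 13 109 13 13 13 105 13 107 105 105 13 59 59 59 107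 105 112 13 38 13 38 13 13 13 2 3 3 4 4 4 5 13 13 13 13 13 59 13 60 60) (@D3.rec (fun _ => Nat) 13 13 13 109 106 59 57 38 13 13 110 32 110 32 32 3 4 111 30 3 4 4 30 30 9 9 9 104 110 105 84 10 10 103 84 10 31 80 82 10 10 10 10 10 11 83 107 109 11 11 11) (@D3.rec (fun _ => Nat) 11 109 84 31 31 1 109 1 110 1 1 110 110 109 106 10 1 10 10 1 10 10 1 2 10 10 10 10 10 10 10 10 10 10 10 11 64 11 11 11 11 11 1 2 66 65 1 2 2 3 64) (@D3.rec (fun _ => Nat) 11 11 11 11 11 11 64 63 61 11 11 11 11 63 63 61 62 11 31 31 31 31 31 31 2 3 31 3 4 31 31 9 9 1 102 1 110 65 65 10 111 65 65 39 10 39 85 83 10 79 10) (@D3.rec (fun _ => Nat) 10 10 10 10 108 107 11 11 11 64 64 11 11 11 64 64 31 1 112 1 1 85 87 1 104 106 1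 113 85 87 80 85 85 87 110 104 1 11 11 11 11 104 11 11 11 11 11 105 11 11 105) (@D3.rec (fun _ => Nat) 2 3 11 11 11 11 11 11 11 11 11 11 11 11 11 11 11 11 1 12 12 12 37 37 12 12 12 12 12 104 12 12 12 12 101 37 37 2 3 37 12 12 50 3 4 4 100 35 12 12 12) (@D3.rec (fun _ => Nat) 12 52 12 12 12 12 12 12 50 106 112 12 56 12 12 56 12 31 31 31 31 31 31 0 3 4 4 110 31 108 104 9 9 9 9 9 9 107 10 10 10 10 10 10 1 1 18 18 18 18 10) (@D3.rec (fun _ => Nat) 10 10 112 10 10 10 10 10 10 10 10 10 110 11 11 11 109 11 11 11 11 11 11 11 11 11 114 9 108 1 107 106 83 83 10 17 1 1 17 17 17 17 10 10 10 10 105 10 10 10 10) (@D3.rec (fun _ => Nat) 10 10 10 10 105 11 109 106 11 11 84 11 11 11 11 11 11 11 11 84 86 88 85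 11 31 33 33 1 1 17 17 17 17 17 17 1 2 17 17 17 17 17 11 1 2 11 11 11 11 84 11)
def lv_i_18 : D2 → D3 → Nat := @D2.rec (fun _ => D3 → Nat) (@D3.rec (fun _ => Nat) 11 2 3 11 11 11 11 11 11 11 11 11 11 11 11 11 108 12 1 2 2 3 112 12 12 12 12 12 103 84 83 2 3 86 12 12 12 2 3 3 4 4 105 12 12 12 12 12 86 106 12) (@D3.rec (fun _ => Nat) 12 12 12 12 112 86 84 88 85 85 12 31 31 0 3 4 103 3 4 4 4 5 5 33 60 60 58 60 60 60 60 60 60 109 108 19 19 19 19 11 11 11 11 11 11 11 11 61 12 12 61) (@D3.rec (fun _ => Nat) 12 12 12 65 106 63 61 66 66 66 12 12 12 66 65 31 0 10 10 107 104 100 11 106 40 40 11 108 18 18 18 18 18 18 11 11 11 11 11 11 11 11 11 11 11 11 102 104 12 12 102) (@D3.rec (fun _ => Nat) 104 60 60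 60 12 12 12 12 81 108 108 2 3 3 4 59 58 59 12 12 12 58 61 58 12 12 12 61 12 31 31 0 111 108 112 18 18 109 18 18 111 111 109 87 18 18 18 83 2 3 110) (@D3.rec (fun _ => Nat) 18 18 18 18 106 18 18 18 12 12 12 12 12 12 12 12 12 12 12 12 12 105 12 2 3 3 4 12 12 12 12 12 12 12 12 12 12 12 12 12 12 12 12 12 12 12 12 12 106 109 104) (@D3.rec (fun _ => Nat) 106 13 61 107 13 13 13 13 104 38 13 107 2 3 3 4 110 13 13 107 13 61 13 13 13 13 13 13 38 109 103 105 35 38 38 13 56 109 2 3 3 4 4 4 4 5 5 105 111 13 57) (@D3.rec (fun _ => Nat) 13 13 61 13 58 63 13 13 13 13 13 13 13 38 109 63 104 63 13 13 13 13 13 64 13 13 57 63 63 13 13 64 13 0 113 31 31 31 31 31 31 31 0 31 0 31 31 107 1 5 6) (@D3.rec (fun _ => Nat)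 111 33 33 33 33 10 11 104 104 84 11 105 110 112 106 81 86 84 108 108 108 83 106 113 12 106 108 112 112 105 11 11 12 62 61 59 64 62 12 106 64 81 11 11 11 111 111 111 111 107 107) (@D3.rec (fun _ => Nat) 65 65 86 86 109 106 113 62 106 112 86 65 64 62 86 86 86 67 66 12 12 62 66 12 62 111 62 31 31 31 88 31 31 88 88 31 31 88 106 110 105 80 106 106 113 106 12 12 12 107 12) (@D3.rec (fun _ => Nat) 12 2 3 12 12 12 105 12 12 12 84 3 4 4 12 12 12 12 12 12 111 13 13 13 107 112 13 107 13 13 2 3 3 4 4 111 109 13 13 64 64 112 13 37 36 107 3 4 4 37 13) (@D3.rec (fun _ => Nat) 53 13 13 107 3 4 4 4 4 5 5 5 106 63 51 13 66 13 13 64 109 13 13 106 113 37 51 4 5 31 4 5 10 106 87 87 87 11 2 3 11 11 11 11 114 2 3 3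 4 4 85) (@D3.rec (fun _ => Nat) 85 12 12 12 87 115 12 85 4 5 105 11 11 11 105 116 12 12 89 12 12 12 12 3 4 4 12 12 12 12 109 109 110 112 114 107 109 109 109 112 84 84 105 105 111 13 13 111 4 4 5) (@D3.rec (fun _ => Nat) 5 111 118 83 13 13 13 89 117 111 112 62 62 62 113 12 12 12 12 107 61 110 114 112 13 65 61 108 108 110 108 61 107 114 13 109 106 65 65 61 111 111 115 61 61 61 13 65 110 108 115) (@D3.rec (fun _ => Nat) 12 12 62 110 110 114 110 62 13 36 105 57 4 5 59 84 107 110 108 110 114 3 4 4 113 110 111 13 13 13 13 13 13 109 13 13 13 105 103 105 13 13 13 2 3 3 4 4 4 5 13) (@D3.rec (fun _ => Nat) 13 13 13 13 13 13 13 13 13 13 14 14 14 111 110 14 14 14 107 107 14 116 114 107 59 14 61 61 61 107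 114 110 38 14 38 38 14 14 14 3 4 4 4 4 5 5 5 6 14 14 14) (@D3.rec (fun _ => Nat) 14 14 14 14 59 60 60 14 14 106 59 108 4 103 4 5 10 10 10 109 110 107 84 11 11 11 84 32 82 84 11 11 11 11 11 12 83 108 110 113 12 12 12 111 84 0 109 108 112 112 88) (@D3.rec (fun _ => Nat) 108 109 109 108 111 11 105 11 11 11 11 11 2 3 11 11 11 11 11 11 11 11 11 11 11 12 66 12 12 12 12 12 12 12 2 3 65 65 2 3 3 4 4 66 65 12 12 12 62 12 12) (@D3.rec (fun _ => Nat) 12 63 66 63 12 12 12 12 65 63 12 32 32 32 0 32 3 4 4 5 10 10 104 104 110 109 65 65 11 111 65 65 41 41 11 85 85 11 79 11 11 11 11 11 109 112 12 12 12 64 64) (@D3.rec (fun _ => Nat) 64 12 12 12 64 112 110 112 85 85 87 106 106 108 113 107 85 87 87 80 85 85 85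 87 110 111 113 12 12 12 12 12 104 12 12 12 12 12 12 12 105 12 12 107 3 4 4 12 12 12 12) (@D3.rec (fun _ => Nat) 12 12 12 12 12 12 12 12 12 12 110 13 13 13 13 39 39 13 13 52 13 13 13 106 112 13 13 13 13 13 107 39 39 3 4 4 39 13 13 52 4 4 5 5 108 106 37 13 13 13 13) (@D3.rec (fun _ => Nat) 54 13 13 13 13 13 13 13 104 13 58 13 58 0 1 4 105 104 104 10 10 10 10 10 10 107 11 11 11 11 11 11 82 83 18 18 18 18 11 11 11 109 11 11 11 11 11 11 11 11 11) (@D3.rec (fun _ => Nat) 110 12 12 12 110 109 12 12 12 12 12 12 12 12 12 10 108 109 107 107 83 83 11 18 107 18 18 18 18 18 11 11 11 11 107 11 11 11 11 11 11 11 11 105 12 111 108 12 12 12 84) (@D3.rec (fun _ => Nat) 92 12 88 12 12 12 12 12 12 86 85 12 0 110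 18 18 18 18 18 18 18 2 3 18 18 18 18 18 18 18 12 2 3 12 12 12 12 12 84 12 12 12 3 4 4 12 12 12 12 12 12) (@D3.rec (fun _ => Nat) 12 12 12 12 12 115 112 13 2 3 3 4 4 112 113 13 13 13 13 13 105 86 87 3 4 4 87 87 13 13 13 3 4 4 4 4 5 5 5 110 89 13 13 88 13 13 13 89 110 13 13) (@D3.rec (fun _ => Nat) 13 13 13 87 93 0 0 32 0 1 4 4 5 5 6 6 62 62 60 62 62 62 62 62 62 110 110 19 19 19 19 19 19 12 12 12 12 12 12 12 12 63 13 13 13 63 13 13 13 65 115) (@D3.rec (fun _ => Nat) 63 63 66 66 66 66 13 13 65 0 1 11 11 109 106 106 12 111 113 42 42 12 110 19 19 19 19 19 19 19 19 12 12 12 12 12 12 12 12 12 12 12 12 12 102 106 13 13 13 102 104) (@D3.rec (fun _ => Nat) 60 60 60 60 13 13 13 13 13 85 108 115 3 4 4 4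 5 61 60 61 13 13 13 61 58 61 13 13 13 61 0 32 1 108 108 19 19 108 19 19 19 110 116 107 110 89 19 19 19 19 85)
def lv_i_19 : D2 → D3 → Nat := @D2.rec (fun _ => D3 → Nat) (@D3.rec (fun _ => Nat) 3 4 110 19 19 19 19 19 19 108 111 19 19 19 13 13 13 13 13 13 13 13 13 13 13 13 13 13 13 107 13 3 4 4 5 13 13 13 13 13 13 13 13 13 13 13 13 13 13 13 13) (@D3.rec (fun _ => Nat) 13 13 13 13 13 0 108 109 104 106 106 14 61 106 14 14 14 14 14 106 40 40 14 108 3 4 107 4 5 111 14 106 14 109 14 61 14 14 14 14 14 14 14 14 40 109 103 103 114 37 40) (@D3.rec (fun _ => Nat) 40 14 58 109 3 4 4 4 4 5 5 105 5 5 6 6 6 105 111 59 14 59 63 14 14 63 65 60 65 14 14 14 14 14 14 14 0 109 63 106 63 14 113 14 14 64 14 0 113 0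 14) (@D3.rec (fun _ => Nat) 0 66 14 109 1 32 32 32 0 32 105 1 1 32 88 111 6 113 34 34 11 12 115 115 84 12 118 117 110 108 108 83 86 86 86 108 110 108 108 85 115 111 111 111 111 12 12 13 66 63 61) (@D3.rec (fun _ => Nat) 66 66 112 64 81 81 12 12 12 110 110 112 110 110 109 110 112 67 67 64 86 86 86 109 109 112 112 62 62 112 110 86 86 67 66 64 86 86 86 86 85 66 66 13 13 62 66 88 32 88 88) (@D3.rec (fun _ => Nat) 106 106 107 80 80 113 106 111 106 13 13 13 13 105 13 13 3 4 4 13 13 13 105 105 13 13 13 86 4 4 5 5 13 13 13 13 13 111 111 14 14 14 114 112 14 109 111 14 14 3 4) (@D3.rec (fun _ => Nat) 4 4 4 5 5 5 114 111 14 14 64 64 112 39 39 38 109 105 4 4 5 5 39 14 55 14 14 107 107 4 4 5 5 5 5 5 6 6 6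 108 53 67 53 14 66 14 64 118 14 106 5) (@D3.rec (fun _ => Nat) 6 11 116 88 88 88 12 3 4 4 12 12 12 12 112 3 4 4 4 4 5 5 5 87 85 85 13 13 13 87 113 5 107 107 12 12 12 116 112 13 13 90 13 13 4 4 5 5 13 13 13) (@D3.rec (fun _ => Nat) 109 111 116 114 112 109 109 116 112 84 84 115 107 115 14 14 113 5 5 6 6 110 116 85 14 14 89 115 110 112 64 64 111 13 13 13 108 108 63 112 112 116 114 14 65 65 63 110 110 117 118) (@D3.rec (fun _ => Nat) 110 63 116 110 111 111 115 65 65 63 117 113 111 63 63 113 110 111 13 62 114 112 112 118 62 38 118 59 5 6 86 86 112 108 110 112 108 4 4 5 5 113 115 14 14 14 14 14 14 14 114) (@D3.rec (fun _ => Nat) 14 14 105 107 103 103 115 14 14 14 3 4 4 4 4 5 5 5 6 14 14 14 14 14 14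 14 14 14 15 15 15 114 112 15 15 15 116 107 15 114 112 114 61 61 61 61 61 114 112 40 15) (@D3.rec (fun _ => Nat) 40 40 15 15 15 4 4 5 5 5 5 5 6 6 105 6 15 108 15 15 15 61 62 15 5 11 11 11 109 111 117 84 12 12 12 86 0 82 84 12 12 12 12 13 85 114 117 113 13 13 86) (@D3.rec (fun _ => Nat) 111 0 1 110 108 112 112 112 88 110 108 112 112 108 111 113 12 107 12 12 12 12 12 12 12 3 4 4 12 12 12 12 12 12 12 12 12 12 12 13 66 66 13 13 13 13 13 13 13 13 13) (@D3.rec (fun _ => Nat) 3 4 4 68 67 3 4 4 4 4 5 5 5 66 65 63 13 13 13 64 13 13 13 65 63 115 13 13 13 65 0 0 1 4 5 11 11 104 111 109 67 67 12 113 113 67 67 41 41 12 87) (@D3.rec (fun _ => Nat) 87 85 12 81 81 12 12 12 12 12 111 110 114 13 13 13 66 66 66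 66 13 13 109 108 112 87 87 87 89 106 106 106 115 109 105 87 87 89 89 82 82 87 87 87 87 84 89 115 111 111 13) (@D3.rec (fun _ => Nat) 13 13 13 13 13 106 106 13 13 13 13 13 13 13 13 107 107 13 13 107 4 4 5 5 108 13 13 13 13 13 13 13 13 13 13 13 13 13 0 109 14 14 14 14 14 39 39 14 14 52 14) (@D3.rec (fun _ => Nat) 14 14 106 106 108 14 14 14 14 14 14 107 39 39 4 4 5 5 39 14 14 52 5 5 6 6 108 105 106 37 14 14 14 54 14 14 14 14 14 14 0 58 58 1 106 117 11 11 11 11 11) (@D3.rec (fun _ => Nat) 11 109 12 12 12 12 12 12 87 85 20 20 20 20 20 20 12 12 12 109 109 12 12 12 12 12 12 12 12 12 116 13 13 13 117 109 13 13 13 13 13 13 13 13 11 117 109 107 107 108 85) (@D3.rec (fun _ => Nat) 85 12 19 106 19 19 19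 19 19 19 19 12 12 12 12 107 107 12 12 12 12 12 12 12 12 118 13 113 118 13 13 13 92 88 13 90 88 13 13 13 13 13 13 88 0 1 108 19 19 19 19) (@D3.rec (fun _ => Nat) 19 19 19 19 19 3 4 106 19 19 19 19 19 19 19 19 19 13 3 4 4 13 13 13 13 13 86 86 13 13 13 4 4 5 5 5 13 13 13 13 13 13 13 13 13 13 0 118 112 14 3) (@D3.rec (fun _ => Nat) 4 4 4 4 5 5 112 112 14 14 14 14 105 86 88 88 4 4 5 5 5 88 88 88 14 14 14 4 4 5 5 5 5 5 5 6 6 6 6 6 110 90 14 14 93 90 14 14 91 111 14) (@D3.rec (fun _ => Nat) 14 14 14 0 0 1 1 114 1 6 6 7 62 62 60 62 62 62 62 62 112 111 115 21 21 21 21 21 21 13 13 13 13 13 13 13 13 63 14 14 14 63 14 14 67 111 65 68 68 68 68) (@D3.rec (fun _ => Nat) 14 67 0 1 12 12 116 107 106 13 115 113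 42 42 110 110 20 20 20 20 20 20 20 20 20 20 13 13 13 13 13 13 13 13 13 13 13 13 13 13 88 104 104 113 14 14 14 104 104 117 62) (@D3.rec (fun _ => Nat) 62 62 60 62 14 14 14 14 14 14 85 115 115 4 4 5 5 5 6 61 60 63 14 14 0 63 63 14 83 1 117 110 20 20 20 110 111 20 20 20 110 110 117 117 112 89 89 20 20 20 20) (@D3.rec (fun _ => Nat) 20 20 85 85 4 5 112 112 20 20 20 20 20 20 20 113 113 20 20 20 14 14 14 14 14 14 14 14 14 14 14 14 14 14 14 14 14 14 121 14 4 5 5 6 14 14 14 14 14 14 14) (@D3.rec (fun _ => Nat) 14 14 14 0 14 14 14 14 0 14 0 14 0 1 118 118 106 106 117 108 108 15 63 108 15 15 15 15 15 117 40 40 15 108 106 4 5 109 5 6 111 109 15 106 108 15 111 65 63 15 15) (@D3.rec (fun _ => Nat) 15 15 15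 15 15 15 0 40 109 105 105 114 37 40 40 58 111 107 4 4 5 5 5 5 5 6 6 6 107 6 6 6 7 7 113 107 113 59 107 15 59 65 15 65 63 0 65 15 15 15 15)
def lv_i_20 : D2 → D3 → Nat := @D2.rec (fun _ => D3 → Nat) (@D3.rec (fun _ => Nat) 15 0 15 15 0 1 106 65 113 0 15 113 15 0 66 15 107 1 1 1 66 85 109 33 33 1 113 90 114 113 12 113 111 116 117 108 110 83 88 88 86 110 110 117 113 113 116 108 109 13 64) (@D3.rec (fun _ => Nat) 63 61 64 110 83 83 13 13 112 113 115 110 113 116 112 110 67 67 64 88 88 88 88 88 114 109 110 114 64 64 112 88 88 88 67 66 64 88 88 88 88 85 69 68 14 64 90 90 115 108 107) (@D3.rec (fun _ => Nat) 82 82 111 115 108 108 14 14 14 14 107 105 14 14 4 4 5 5 14 14 116 107 14 14 14 86 5 5 6 6 6 14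 14 14 114 113 113 15 15 15 112 114 114 114 111 15 15 4 4 5 5) (@D3.rec (fun _ => Nat) 5 5 5 6 6 6 6 112 114 15 66 66 39 39 38 110 107 5 5 6 6 39 15 55 15 117 109 5 5 6 6 6 6 6 6 7 7 116 53 65 53 68 66 116 6 12 112 89 89 89 4) (@D3.rec (fun _ => Nat) 4 5 5 5 13 13 13 4 4 5 5 5 5 5 5 6 6 6 87 87 87 14 14 89 107 107 13 13 114 14 91 14 14 5 5 6 6 6 14 14 120 114 114 114 116 111 112 86 86 113 115) (@D3.rec (fun _ => Nat) 115 15 113 6 6 7 110 85 15 91 114 114 64 14 118 106 63 116 112 112 114 114 67 67 63 114 110 113 112 120 112 115 111 113 67 67 113 113 115 63 113 115 64 114 112 118 116 38 118 6 86) (@D3.rec (fun _ => Nat) 86 116 110 113 110 108 5 5 6 6 113 15 15 15 15 15 15 15 114 15 107 109 118 105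 112 15 15 15 4 4 5 5 5 5 5 6 6 6 6 15 104 15 15 15 15 16 16 16 112 112 112) (@D3.rec (fun _ => Nat) 16 16 115 114 115 109 112 61 63 63 63 112 40 40 40 16 16 0 5 5 5 6 6 6 6 7 116 16 16 61 12 12 12 109 109 116 86 13 13 86 0 1 84 13 13 13 117 115 115 14 86) (@D3.rec (fun _ => Nat) 0 114 1 110 109 113 111 111 111 111 88 90 110 106 113 113 111 89 113 111 111 13 107 107 13 13 13 13 13 13 13 13 13 4 4 5 5 5 13 13 13 13 13 13 13 13 13 0 14 68 68) (@D3.rec (fun _ => Nat) 65 14 14 14 14 14 14 14 14 14 14 4 4 5 5 67 67 4 4 5 5 5 5 5 5 6 6 6 6 68 67 67 65 14 14 64 14 14 0 65 116 14 0 1 1 12 12 106 111 110 114) (@D3.rec (fun _ => Nat) 67 67 13 115 111 67 67 43 43 87 87 87 13 81 81 13 13 13 13 114 110 112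 14 66 66 66 66 14 111 111 118 112 112 87 87 87 87 87 89 108 108 108 108 113 109 107 87 87 87 89 82) (@D3.rec (fun _ => Nat) 82 84 87 87 87 87 87 86 86 113 113 113 14 14 14 14 14 14 14 114 106 14 14 14 14 14 14 14 14 14 118 107 14 14 119 5 5 6 6 6 108 14 14 14 14 14 14 14 14 14 0) (@D3.rec (fun _ => Nat) 105 1 109 112 15 15 15 15 15 15 41 41 15 15 54 15 15 108 106 108 15 15 15 15 15 115 41 41 5 5 6 6 41 15 54 6 6 7 110 107 120 39 15 56 15 15 15 15 60 0 1) (@D3.rec (fun _ => Nat) 60 117 113 12 12 12 12 12 12 118 13 13 13 13 13 88 88 85 87 20 20 20 20 20 20 13 13 13 112 111 111 13 13 13 13 13 13 13 13 116 14 14 111 121 14 14 14 14 14 14 12) (@D3.rec (fun _ => Nat) 116 110 117 119 109 85 85 20 106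 104 20 20 20 20 20 20 20 20 20 13 13 13 13 109 109 109 13 13 13 13 13 13 13 0 114 14 111 116 14 14 90 94 14 90 88 90 14 14 14 14 0) (@D3.rec (fun _ => Nat) 0 1 110 20 20 20 20 20 20 20 20 20 20 20 20 4 5 106 106 20 20 20 20 20 20 20 113 20 20 20 14 4 4 5 5 14 14 14 14 86 88 88 14 14 14 5 5 5 6 6 6) (@D3.rec (fun _ => Nat) 6 14 14 14 14 14 14 14 14 0 1 116 114 4 4 5 5 5 5 6 6 110 120 15 15 107 88 89 89 89 5 5 5 6 6 6 89 89 89 15 15 5 5 5 6 6 6 6 6 6 6) (@D3.rec (fun _ => Nat) 6 6 7 7 7 7 7 108 91 15 95 91 0 15 91 109 15 15 0 1 1 115 7 115 64 64 62 64 64 115 111 113 21 21 21 21 21 21 14 14 14 14 14 14 65 15 15 15 15 68 68) (@D3.rec (fun _ => Nat) 68 67 0 1 13 112 114 116 113 115 115 44 118 111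 21 21 21 21 21 21 21 21 21 21 21 14 14 14 14 14 14 14 14 14 14 14 88 14 88 104 104 115 15 15 15 116 104 114 62 62 62) (@D3.rec (fun _ => Nat) 62 63 15 15 15 15 15 15 87 113 5 5 6 6 6 6 62 63 85 15 0 1 63 115 117 21 21 21 115 113 21 21 21 114 112 115 117 96 112 114 89 89 89 21 21 21 21 21 21 87 87) (@D3.rec (fun _ => Nat) 5 6 115 112 113 21 21 21 21 21 21 21 21 111 113 113 21 21 0 15 15 15 15 15 15 15 15 15 15 15 15 15 15 15 15 15 0 117 5 6 6 15 15 15 15 15 15 15 0 15 15) (@D3.rec (fun _ => Nat) 0 1 15 15 0 15 1 105 1 0 1 116 117 117 106 119 108 108 108 63 116 16 16 16 16 16 112 119 42 42 111 106 5 6 109 109 6 115 109 106 16 111 65 110 111 65 0 16 16 16 16) (@D3.rec (fun _ => Nat) 16 16 0 16 16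 0 1 118 120 105 105 39 42 114 107 107 5 5 5 6 6 6 6 6 6 6 7 7 115 107 0 7 7 8 113 113 113 115 61 109 61 65 65 67 0 1 16 16 16 0 1) (@D3.rec (fun _ => Nat) 16 0 117 1 112 0 1 112 16 1 66 112 107 68 87 113 90 92 115 110 88 88 88 117 113 111 111 113 68 63 83 83 83 14 114 112 112 114 112 112 112 112 69 69 66 88 88 88 88 88 88) (@D3.rec (fun _ => Nat) 112 116 112 64 64 88 88 88 88 68 66 88 88 88 88 87 68 64 113 116 108 82 82 82 113 118 108 108 15 15 15 107 105 15 15 5 5 6 6 6 15 118 107 107 15 15 88 6 6 6 7) (@D3.rec (fun _ => Nat) 7 112 113 114 114 16 16 122 114 0 109 109 16 5 5 6 6 6 6 6 6 6 7 7 7 114 66 66 41 41 112 119 107 6 6 7 41 57 115 109 112 6 6 6 7 7 7 7 8 116 55) (@D3.rec (fun _ => Nat)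 55 90 90 5 5 5 6 6 6 6 14 14 5 5 5 6 6 6 6 6 6 6 7 7 87 87 15 89 116 109 109 14 92 15 6 6 6 7 7 15 112 119 116 86 115 117 7 91 114 112 114)
def lv_i_21 : D2 → D3 → Nat := @D2.rec (fun _ => D3 → Nat) (@D3.rec (fun _ => Nat) 110 116 114 114 116 118 116 67 67 112 114 115 112 113 113 117 67 114 117 113 120 118 88 88 115 112 108 108 6 6 7 16 16 16 16 16 119 109 115 117 105 16 16 0 5 5 5 6 6 6 6) (@D3.rec (fun _ => Nat) 6 6 7 7 16 115 16 17 17 117 114 17 17 117 114 109 63 63 63 42 17 0 1 6 6 7 7 116 13 13 109 110 14 88 0 1 14 115 120 88 119 0 1 117 111 111 117 113 114 114 114) (@D3.rec (fun _ => Nat) 97 90 90 90 114 108 108 111 115 109 91 111 113 113 14 119 109 109 14 14 14 14 14 14 14 14 14 14 5 5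 5 6 6 6 6 14 14 14 14 0 14 107 1 68 68 67 65 118 15 15 15) (@D3.rec (fun _ => Nat) 15 15 15 15 15 15 5 5 6 6 69 5 5 5 6 6 6 6 6 6 6 6 7 7 7 67 67 65 0 15 66 15 0 1 1 13 106 116 112 112 69 69 113 115 113 69 43 89 89 89 83) (@D3.rec (fun _ => Nat) 83 83 14 14 112 112 112 68 68 68 113 111 116 117 108 116 89 89 89 89 89 89 89 108 108 108 115 108 108 114 107 89 89 89 89 92 84 84 84 84 89 89 89 89 89 86 86 116 113 0 15) (@D3.rec (fun _ => Nat) 15 15 15 15 15 15 15 112 112 108 15 15 15 15 15 15 15 107 118 109 109 15 117 6 6 6 7 7 110 110 15 15 15 15 15 0 1 116 112 16 16 16 16 16 16 0 41 41 16 54 16) (@D3.rec (fun _ => Nat) 117 118 110 16 16 16 60 117 41 6 6 7 54 7 114 112 118 56 16 60 0 1 115 13 13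 13 13 13 115 14 14 89 89 89 87 87 87 22 22 22 22 22 22 14 14 113 115 114 111 14 14) (@D3.rec (fun _ => Nat) 14 14 14 14 15 113 15 15 15 119 115 113 107 87 21 108 106 106 21 21 21 21 21 21 21 21 21 21 14 14 14 121 109 109 109 14 14 14 14 14 0 1 111 15 91 94 92 90 92 0 15) (@D3.rec (fun _ => Nat) 15 0 1 1 119 21 21 21 21 21 21 21 21 21 21 21 21 92 5 6 108 108 108 108 21 21 21 21 21 21 21 21 114 21 21 0 5 5 6 6 110 15 15 88 88 88 88 15 15 6 6) (@D3.rec (fun _ => Nat) 6 6 7 7 7 7 15 15 15 15 0 1 120 5 5 6 6 111 6 6 7 118 120 90 90 90 90 6 6 6 7 7 90 90 16 6 6 6 6 7 7 7 7 0 7 7 7 7 7 8 8) (@D3.rec (fun _ => Nat) 8 8 107 114 92 95 92 0 1 93 0 1 117 62 113 113 113 23 23 23 23 15 15 15 15 16 16 70 0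 1 114 119 115 116 116 114 22 22 22 22 22 22 22 22 22 22 90 15 15 15 15) (@D3.rec (fun _ => Nat) 15 15 15 15 15 90 15 90 90 119 106 106 16 16 111 116 106 64 64 65 62 65 16 16 16 16 87 6 6 6 7 7 85 65 85 0 1 116 22 22 22 113 113 113 22 22 0 117 114 109 112) (@D3.rec (fun _ => Nat) 115 96 114 91 91 89 89 22 22 22 22 91 96 87 87 6 113 114 115 113 93 22 22 22 22 88 22 22 22 121 115 0 22 22 0 1 16 16 16 16 16 111 16 16 16 16 16 16 16 0 16) (@D3.rec (fun _ => Nat) 16 0 1 6 16 16 107 16 0 1 16 0 0 1 16 1 0 1 117 108 108 114 110 110 114 17 17 17 17 114 42 111 118 108 6 111 111 0 115 117 108 113 67 118 110 0 67 0 1 17 17) (@D3.rec (fun _ => Nat) 17 17 17 0 1 17 0 118 1 116 115 107 116 116 109 109 6 6 6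 6 7 7 7 7 7 7 0 8 113 8 113 0 109 1 8 111 118 61 109 67 0 1 17 0 1 68 114 1 111 110 1) (@D3.rec (fun _ => Nat) 109 68 109 87 87 91 117 90 90 113 111 85 85 112 113 112 113 113 114 0 69 66 90 90 90 90 90 90 114 66 66 90 90 90 66 90 90 87 116 110 84 84 114 119 110 110 16 16 120 109 107) (@D3.rec (fun _ => Nat) 16 6 6 6 7 7 116 109 7 7 8 8 121 116 114 17 112 110 0 1 109 6 6 6 7 7 7 7 7 8 8 68 41 114 112 7 118 115 7 7 8 8 8 55 91 6 6 6 6 7 7) (@D3.rec (fun _ => Nat) 7 15 6 6 6 6 7 7 7 7 7 8 89 91 116 109 7 7 8 8 121 116 116 123 116 120 116 69 114 115 121 119 124 117 112 120 88 110 108 7 17 17 17 17 116 112 115 0 17 0 1) (@D3.rec (fun _ => Nat) 6 6 6 7 7 7 7 8 8 117 18 18 116 114 18 121 117 109 65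 0 1 7 14 88 0 1 117 0 1 113 111 111 113 115 113 113 95 117 90 90 90 90 91 116 110 108 108 91 113 115 88) (@D3.rec (fun _ => Nat) 114 113 0 115 117 109 109 109 15 15 15 15 15 15 15 15 15 107 6 6 6 6 7 7 7 7 15 15 0 1 107 70 67 67 108 16 16 16 16 16 16 6 6 7 6 6 6 6 7 7 7) (@D3.rec (fun _ => Nat) 7 0 7 7 7 8 8 69 67 0 1 66 0 1 115 114 112 112 69 120 113 89 89 83 83 119 112 0 68 116 115 113 112 114 114 114 116 89 89 89 89 89 89 89 89 123 110 110 110 117 112) (@D3.rec (fun _ => Nat) 107 115 116 89 89 89 89 84 84 86 86 89 89 89 89 109 88 88 118 115 0 1 16 16 16 16 16 16 0 16 114 116 16 16 16 16 109 115 109 7 7 8 110 8 118 110 16 0 1 114 114) (@D3.rec (fun _ => Nat) 114 17 17 17 17 110 17 17 0 1 43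 56 116 118 17 62 7 112 1 14 14 90 90 90 90 87 89 89 89 22 22 22 22 15 113 116 115 116 15 15 15 117 117 119 110 106 106 95 22 22 22) (@D3.rec (fun _ => Nat) 22 22 22 22 22 22 22 92 15 121 111 116 111 15 15 0 1 92 96 90 92 0 1 0 1 117 22 22 22 22 22 22 22 22 22 89 91 6 108 108 108 108 108 22 22 22 22 98 22 22 22) (@D3.rec (fun _ => Nat) 115 22 22 0 1 6 6 7 110 90 90 90 16 7 7 7 7 8 8 8 8 8 0 1 6 6 7 111 7 91 91 91 7 7 8 91 7 7 7 7 101 8 8 8 8 0 115 1 8 8 8) (@D3.rec (fun _ => Nat) 8 9 9 115 119 115 0 1 1 119 113 23 23 23 16 16 17 17 1 119 117 114 117 90 23 23 23 23 90 23 23 23 23 23 90 16 16 16 16 16 90 16 90 90 116 106 17 17 114 114 64) (@D3.rec (fun _ => Nat) 65 65 17 17 7 7 87 8 8 87 87 1 23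 23 122 115 115 23 23 0 1 117 117 116 95 110 91 91 91 23 23 23 92 93 89 117 115 115 87 97 91 23 23 23 23 88 23 23 123 111 0)
def lv_i_22 : D2 → D3 → Nat := @D2.rec (fun _ => D3 → Nat) (@D3.rec (fun _ => Nat) 1 23 0 0 1 17 17 17 17 113 17 17 17 17 17 0 1 17 0 1 17 109 0 1 0 1 0 1 1 115 108 116 117 110 18 18 18 122 114 116 119 117 119 0 1 111 118 67 116 114 0) (@D3.rec (fun _ => Nat) 110 1 0 1 18 18 0 1 68 117 1 117 107 109 113 109 7 7 7 7 99 8 8 8 8 8 8 0 1 9 115 0 117 0 115 1 113 107 1 1 89 119 92 116 109 89 90 90 85 85 114) (@D3.rec (fun _ => Nat) 114 115 114 0 1 68 90 90 90 90 66 90 90 90 90 108 84 84 116 118 110 17 109 107 7 7 8 8 116 109 8 8 9 118 116 116 123 0 0 1 7 7 8 8 8 8 9 118 120 116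 114) (@D3.rec (fun _ => Nat) 8 8 9 7 7 7 8 8 8 7 7 7 8 8 8 8 113 113 8 8 9 122 118 115 118 121 114 117 121 119 116 117 18 18 18 117 115 0 1 0 1 7 7 8 8 8 8 9 19 115 19) (@D3.rec (fun _ => Nat) 122 119 1 0 1 1 118 113 109 113 117 108 111 94 92 90 90 86 90 114 114 117 91 94 90 113 88 114 115 0 1 115 119 111 111 16 16 16 16 16 109 16 107 7 7 7 7 8 8 8 8) (@D3.rec (fun _ => Nat) 8 0 1 69 67 115 17 17 17 7 7 7 7 7 87 8 8 8 8 0 1 8 8 9 0 1 1 120 118 123 115 91 91 85 85 119 114 0 1 118 115 112 118 116 110 112 91 91 91 91 91) (@D3.rec (fun _ => Nat) 91 91 117 110 117 110 118 110 114 115 91 91 91 86 86 86 86 111 91 91 91 91 111 91 88 117 0 0 1 17 17 17 17 106 17 17 0 1 114 114 17 107 115 111 8 8 9 112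 112 110 1) (@D3.rec (fun _ => Nat) 120 114 18 18 18 18 112 18 0 0 1 91 91 91 89 89 89 24 24 24 115 115 116 115 108 108 108 94 23 23 23 23 92 23 23 23 23 23 92 117 118 111 111 98 0 1 0 1 1 23 23) (@D3.rec (fun _ => Nat) 23 23 23 23 23 91 92 115 106 115 112 108 100 102 23 23 23 23 98 23 97 96 23 118 23 0 0 1 7 115 112 90 90 90 8 8 8 8 8 9 9 9 9 1 7 111 111 92 92 92 8) (@D3.rec (fun _ => Nat) 8 8 8 8 98 115 9 9 0 9 0 119 1 9 9 113 117 117 1 119 119 25 17 17 18 119 119 118 92 24 24 24 24 92 24 24 24 92 92 17 17 17 17 92 92 116 108 18 116 116 67) (@D3.rec (fun _ => Nat) 8 8 87 9 87 87 24 24 121 115 116 24 0 0 1 115 121 95 121 91 91 91 24 93 95 122 120 117 89 97 92 24 24 90 24 24 90 111 0 0 1 24 0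 1 0 1 18 18 18 116 116) (@D3.rec (fun _ => Nat) 18 18 0 1 1 107 1 0 1 1 117 110 117 19 19 118 113 113 113 0 0 1 115 117 0 112 1 1 114 1 107 120 115 109 115 8 8 8 8 101 9 9 9 9 0 0 1 10 115 0 113) (@D3.rec (fun _ => Nat) 1 119 1 89 93 92 87 115 0 0 1 92 92 92 92 86 116 117 120 116 109 8 8 9 118 9 10 123 112 0 1 1 8 8 9 9 114 117 9 10 8 8 8 9 8 8 8 9 119 9 10) (@D3.rec (fun _ => Nat) 120 114 123 114 113 120 123 19 19 117 0 0 1 1 8 8 9 9 10 20 119 124 126 1 120 113 109 115 108 120 96 92 92 92 88 90 107 88 114 108 114 91 94 90 93 93 90 114 0 0 1) (@D3.rec (fun _ => Nat) 117 116 119 111 17 17 17 109 107 8 8 8 8 8 9 9 9 9 1 116 8 8 8 8 89 99 9 9 0 9 0 1 9 1 120 114 121 91 85 121 0 0 1 120 114 114 116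 116 116 91 91) (@D3.rec (fun _ => Nat) 91 91 91 91 122 117 112 112 114 109 109 91 86 88 88 111 91 91 114 91 111 93 120 0 1 1 18 18 18 18 108 18 0 0 1 116 114 9 10 118 112 112 123 116 19 19 120 19 112 19 0) (@D3.rec (fun _ => Nat) 1 118 1 92 92 92 91 91 91 24 114 113 110 108 108 94 24 24 24 24 94 24 24 24 94 125 118 113 98 1 1 24 24 24 24 91 93 116 108 108 110 100 97 24 24 100 24 24 100 99 98) (@D3.rec (fun _ => Nat) 116 24 0 1 1 118 92 9 9 9 9 10 10 10 10 113 93 9 9 98 9 96 116 10 10 0 115 1 117 1 115 120 25 18 19 122 123 92 92 25 25 92 25 25 92 25 92 18 92 119 19) (@D3.rec (fun _ => Nat) 118 9 89 89 10 89 25 124 116 117 25 0 1 1 95 117 93 95 122 89 99 93 89 99 25 25 90 122 0 1 1 0 0 1 1 19 19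 117 1 1 117 119 20 122 119 113 0 1 1 118 1) (@D3.rec (fun _ => Nat) 120 115 9 9 101 9 101 10 10 10 0 1 1 112 0 115 1 92 87 121 0 1 1 92 92 86 118 121 9 10 118 10 121 0 1 9 10 117 118 10 9 10 9 10 124 10 123 119 127 124 20) (@D3.rec (fun _ => Nat) 113 0 1 1 9 10 10 124 121 113 113 118 96 92 88 92 88 107 88 116 93 96 92 93 96 95 93 113 0 1 1 117 118 107 9 9 9 9 10 10 10 10 9 9 89 9 89 99 10 10 0) (@D3.rec (fun _ => Nat) 1 1 120 119 93 87 114 0 1 1 114 114 114 120 93 93 93 93 118 116 112 123 116 88 88 121 113 93 93 117 93 115 0 1 19 19 121 19 108 19 0 1 1 113 120 10 114 112 119 20 20) (@D3.rec (fun _ => Nat) 119 0 120 1 116 93 91 26 126 117 96 25 25 94 25 25 25 119 117 100 100 25 25 117 114 100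 99 102 97 25 25 102 99 98 101 98 0 1 118 92 10 10 10 10 11 11 119 94 10 10 98) (@D3.rec (fun _ => Nat) 117 117 11 0 115 1 121 19 127 94 26 26 94 94 19 119 112 10 89 89 26 122 118 0 1 93 120 91 99 26 92 0 1 0 1 1 20 118 119 118 0 1 124 10 10 101 11 0 1 112 1) (@D3.rec (fun _ => Nat) 0 1 94 117 119 10 1 10 10 10 0 1 10 122 118 94 90 122 90 109 90 127 93 96 95 95 95 119 0 1 116 10 10 10 10 11 11 10 10 91 99 99 11 0 1 121 0 1 111 116 93) (@D3.rec (fun _ => Nat) 93 126 116 117 90 118 93 119 119 1 20 20 117 0 1 120 123 21 119 122 1 120 94 93 120 26 26 117 100 26 119 102 97 26 102 101 100 1 11 11 12 11 98 117 112 1 94 27 94 91 118) (@D3.rec (fun _ => Nat) 1 91 101 1 1 1 11 102 1 1 1 120 90 121 90 95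 98 97 121 1 11 11 12 11 91 101 1 1 113 95 118 120 123 21 122 1 120 27 101 101 99 103 100 12 119 118 92 97 121 12 102)
def lv_i : Pt → Nat := @Pt.rec (fun _ => Nat) (@D1.rec (fun _ => D2 → D3 → Nat) lv_i_0 lv_i_1 lv_i_2 lv_i_3 lv_i_4 lv_i_5 lv_i_6 lv_i_7 lv_i_8 lv_i_9 lv_i_10 lv_i_11 lv_i_12 lv_i_13 lv_i_14 lv_i_15 lv_i_16 lv_i_17 lv_i_18 lv_i_19 lv_i_20 lv_i_21 lv_i_22)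
abbrev lc_i_Cert_tree : Cert rels S Gen.i := Cert.tree
abbrev lc_i_rc_18_1 : Cert rels S Gen.i := rc_18_1
abbrev lc_i_rc_18_3 : Cert rels S Gen.i := rc_18_3
abbrev lc_i_rc_26_1 : Cert rels S Gen.i := rc_26_1
abbrev lc_i_rc_26_3 : Cert rels S Gen.i := rc_26_3
abbrev lc_i_rc_33_1 : Cert rels S Gen.i := rc_33_1
abbrev lc_i_rc_33_3 : Cert rels S Gen.i := rc_33_3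
abbrev lc_i_rc_39_1 : Cert rels S Gen.i := rc_39_1
abbrev lc_i_rc_39_3 : Cert rels S Gen.i := rc_39_3
abbrev lc_i_rc_41_1 : Cert rels S Gen.i := rc_41_1
abbrev lc_i_rc_41_3 : Cert rels S Gen.i := rc_41_3
abbrev lc_i_rc_41_5 : Cert rels S Gen.i := rc_41_5
abbrev lc_i_rc_46_1 : Cert rels S Gen.i := rc_46_1
abbrev lc_i_rc_46_3 : Cert rels S Gen.i := rc_46_3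
abbrev lc_i_rc_50_1 : Cert rels S Gen.i := rc_50_1
abbrev lc_i_rc_50_3 : Cert rels S Gen.i := rc_50_3
abbrev lc_i_rc_53_1 : Cert rels S Gen.i := rc_53_1
abbrev lc_i_rc_53_3 : Cert rels S Gen.i := rc_53_3
abbrev lc_i_rc_54_0 : Cert rels S Gen.i := rc_54_0
abbrev lc_i_rc_54_1 : Cert rels S Gen.i := rc_54_1
abbrev lc_i_rc_55_26 : Cert rels S Gen.i := rc_55_26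
abbrev lc_i_rc_55_35 : Cert rels S Gen.i := rc_55_35
abbrev lc_i_rc_55_44 : Cert rels S Gen.i := rc_55_44
abbrev lc_i_rc_55_53 : Cert rels S Gen.i := rc_55_53
abbrev lc_i_rc_55_62 : Cert rels S Gen.i := rc_55_62
abbrev lc_i_rc_55_71 : Cert rels S Gen.i := rc_55_71
abbrev lc_i_rc_9_1 : Cert rels S Gen.i := rc_9_1
abbrev lc_i_rc_9_3 : Cert rels S Gen.i := rc_9_3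
abbrev lc_i_sc_8_0 : Cert rels S Gen.i := sc_8_0
def ce_i_0 : D2 → D3 → (Cert rels S Gen.i) := @D2.rec (fun _ => D3 → (Cert rels S Gen.i)) (@D3.rec (fun _ => (Cert rels S Gen.i)) lc_i_sc_8_0 lc_i_rc_53_1 lc_i_rc_50_1 lc_i_rc_46_1 lc_i_rc_39_1 lc_i_rc_33_1 lc_i_rc_26_1 lc_i_Cert_tree lc_i_rc_18_1 lc_i_Cert_tree lc_i_rc_54_0 lc_i_rc_9_1 lc_i_Cert_tree lc_i_Cert_tree lc_i_rc_54_0 lc_i_Cert_tree lc_i_Cert_tree lc_i_rc_54_0 lc_i_Cert_tree lc_i_rc_54_0 lc_i_Cert_tree lc_i_rc_54_0 lc_i_Cert_tree lc_i_Cert_tree lc_i_rc_54_0 lc_i_Cert_tree lc_i_rc_54_0 lc_i_rc_41_3 lc_i_Cert_tree lc_i_Cert_tree lc_i_rc_54_0 lc_i_Cert_tree lc_i_rc_54_0 lc_i_Cert_tree lc_i_rc_54_0 lc_i_rc_18_1 lc_i_Cert_tree lc_i_rc_54_0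 lc_i_rc_41_3 lc_i_Cert_tree lc_i_Cert_tree lc_i_rc_54_0 lc_i_Cert_tree lc_i_rc_54_0 lc_i_rc_9_1 lc_i_Cert_tree lc_i_Cert_tree lc_i_rc_54_0 lc_i_rc_26_1 lc_i_Cert_tree lc_i_rc_54_0) (@D3.rec (fun _ => (Cert rels S Gen.i)) lc_i_rc_18_1 lc_i_Cert_tree lc_i_rc_54_0 lc_i_rc_46_1 lc_i_rc_33_1 lc_i_Cert_tree lc_i_rc_54_0 lc_i_Cert_tree lc_i_Cert_tree lc_i_rc_54_0 lc_i_rc_9_1 lc_i_Cert_tree lc_i_rc_54_0 lc_i_rc_9_1 lc_i_Cert_tree lc_i_Cert_tree lc_i_rc_54_0 lc_i_Cert_tree lc_i_rc_54_0 lc_i_rc_26_1 lc_i_rc_33_1 lc_i_Cert_tree lc_i_rc_54_0 lc_i_rc_18_1 lc_i_rc_33_1 lc_i_rc_54_0 lc_i_rc_50_1 lc_i_rc_33_1 lc_i_rc_26_1 lc_i_Cert_tree lc_i_Cert_tree lc_i_rc_54_0 lc_i_rc_18_1 lc_i_Cert_tree lc_i_Cert_tree lc_i_rc_54_0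 lc_i_Cert_tree lc_i_rc_54_0 lc_i_rc_9_1 lc_i_rc_9_1 lc_i_Cert_tree lc_i_rc_54_0 lc_i_rc_9_1 lc_i_rc_9_1 lc_i_Cert_tree lc_i_Cert_tree lc_i_Cert_tree lc_i_rc_54_0 lc_i_rc_54_0 lc_i_rc_41_3 lc_i_Cert_tree) (@D3.rec (fun _ => (Cert rels S Gen.i)) lc_i_rc_54_0 lc_i_rc_26_1 lc_i_rc_33_1 lc_i_rc_39_1 lc_i_rc_54_0 lc_i_rc_18_1 lc_i_rc_33_1 lc_i_rc_26_1 lc_i_rc_53_1 lc_i_rc_33_1 lc_i_rc_26_1 lc_i_rc_39_1 lc_i_rc_18_1 lc_i_Cert_tree lc_i_Cert_tree lc_i_Cert_tree lc_i_rc_54_0 lc_i_Cert_tree lc_i_rc_54_0 lc_i_rc_18_1 lc_i_rc_18_1 lc_i_Cert_tree lc_i_Cert_tree lc_i_Cert_tree lc_i_rc_54_0 lc_i_rc_54_0 lc_i_rc_41_3 lc_i_Cert_tree lc_i_rc_54_0 lc_i_rc_9_1 lc_i_rc_9_1 lc_i_rc_9_1 lc_i_rc_54_0 lc_i_rc_9_1 lc_i_rc_9_1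 lc_i_rc_26_1 lc_i_Cert_tree lc_i_Cert_tree lc_i_rc_54_0 lc_i_Cert_tree lc_i_Cert_tree lc_i_rc_54_0 lc_i_rc_54_0 lc_i_rc_41_3 lc_i_rc_41_3 lc_i_rc_33_1 lc_i_rc_54_0 lc_i_rc_26_1 lc_i_rc_33_1 lc_i_rc_26_1 lc_i_rc_39_1) (@D3.rec (fun _ => (Cert rels S Gen.i)) lc_i_rc_46_1 lc_i_rc_18_1 lc_i_rc_33_1 lc_i_rc_26_1 lc_i_rc_39_1 lc_i_rc_18_1 lc_i_rc_33_1 lc_i_rc_26_1 lc_i_rc_39_1 lc_i_rc_18_1 lc_i_rc_26_1 lc_i_rc_9_1 lc_i_Cert_tree lc_i_Cert_tree lc_i_rc_54_0 lc_i_Cert_tree lc_i_Cert_tree lc_i_Cert_tree lc_i_rc_54_0 lc_i_rc_54_0 lc_i_rc_41_3 lc_i_Cert_tree lc_i_rc_54_0 lc_i_rc_18_1 lc_i_rc_18_1 lc_i_rc_26_1 lc_i_rc_18_1 lc_i_Cert_tree lc_i_Cert_tree lc_i_rc_54_0 lc_i_Cert_tree lc_i_Cert_tree lc_i_rc_54_0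 lc_i_rc_54_0 lc_i_rc_41_3 lc_i_rc_41_3 lc_i_rc_33_1 lc_i_rc_54_0 lc_i_rc_9_1 lc_i_rc_9_1 lc_i_rc_26_1 lc_i_rc_9_1 lc_i_rc_9_1 lc_i_rc_9_1 lc_i_rc_9_1 lc_i_rc_26_1 lc_i_rc_9_1 lc_i_rc_18_1 lc_i_Cert_tree lc_i_Cert_tree lc_i_Cert_tree) (@D3.rec (fun _ => (Cert rels S Gen.i)) lc_i_rc_54_0 lc_i_Cert_tree lc_i_rc_54_0 lc_i_rc_41_3 lc_i_Cert_tree lc_i_rc_54_0 lc_i_rc_54_0 lc_i_rc_41_3 lc_i_rc_41_3 lc_i_rc_33_1 lc_i_rc_33_1 lc_i_rc_26_1 lc_i_rc_39_1 lc_i_rc_26_1 lc_i_rc_33_1 lc_i_rc_26_1 lc_i_rc_39_1 lc_i_rc_18_1 lc_i_rc_26_1 lc_i_rc_46_1 lc_i_rc_50_1 lc_i_rc_33_1 lc_i_rc_26_1 lc_i_rc_39_1 lc_i_rc_18_1 lc_i_rc_26_1 lc_i_rc_9_1 lc_i_rc_26_1 lc_i_rc_39_1 lc_i_rc_18_1 lc_i_rc_26_1 lc_i_rc_46_1 lc_i_rc_9_1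 lc_i_rc_18_1 lc_i_rc_33_1 lc_i_Cert_tree lc_i_Cert_tree lc_i_Cert_tree lc_i_rc_54_0 lc_i_Cert_tree lc_i_rc_54_0 lc_i_rc_41_3 lc_i_Cert_tree lc_i_Cert_tree lc_i_rc_54_0 lc_i_Cert_tree lc_i_Cert_tree lc_i_rc_54_0 lc_i_rc_54_0 lc_i_rc_41_3 lc_i_rc_41_3) (@D3.rec (fun _ => (Cert rels S Gen.i)) lc_i_rc_33_1 lc_i_rc_54_0 lc_i_rc_18_1 lc_i_rc_18_1 lc_i_rc_26_1 lc_i_rc_18_1 lc_i_rc_26_1 lc_i_rc_18_1 lc_i_Cert_tree lc_i_Cert_tree lc_i_Cert_tree lc_i_rc_54_0 lc_i_Cert_tree lc_i_rc_54_0 lc_i_rc_41_3 lc_i_Cert_tree lc_i_rc_54_0 lc_i_rc_54_0 lc_i_rc_41_3 lc_i_rc_41_3 lc_i_rc_33_1 lc_i_rc_33_1 lc_i_rc_26_1 lc_i_rc_39_1 lc_i_rc_9_1 lc_i_rc_9_1 lc_i_rc_26_1 lc_i_rc_9_1 lc_i_rc_18_1 lc_i_rc_26_1 lc_i_rc_9_1 lc_i_rc_9_1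 lc_i_rc_9_1 lc_i_rc_26_1 lc_i_rc_9_1 lc_i_rc_18_1 lc_i_rc_26_1 lc_i_rc_9_1 lc_i_Cert_tree lc_i_Cert_tree lc_i_rc_54_0 lc_i_Cert_tree lc_i_rc_54_0 lc_i_Cert_tree lc_i_rc_54_0 lc_i_rc_41_3 lc_i_Cert_tree lc_i_rc_54_0 lc_i_rc_41_3 lc_i_rc_33_1 lc_i_rc_54_0) (@D3.rec (fun _ => (Cert rels S Gen.i)) lc_i_rc_41_3 lc_i_rc_41_3 lc_i_rc_33_1 lc_i_rc_33_1 lc_i_rc_26_1 lc_i_rc_39_1 lc_i_rc_26_1 lc_i_rc_39_1 lc_i_rc_18_1 lc_i_rc_26_1 lc_i_rc_46_1 lc_i_rc_33_1 lc_i_rc_26_1 lc_i_rc_39_1 lc_i_rc_18_1 lc_i_rc_26_1 lc_i_rc_46_1 lc_i_rc_9_1 lc_i_rc_18_1 lc_i_rc_26_1 lc_i_rc_50_1 lc_i_rc_53_1 lc_i_rc_26_1 lc_i_rc_39_1 lc_i_rc_18_1 lc_i_rc_26_1 lc_i_rc_46_1 lc_i_rc_9_1 lc_i_rc_18_1 lc_i_rc_33_1 lc_i_rc_18_1 lc_i_rc_26_1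 lc_i_rc_46_1 lc_i_rc_9_1 lc_i_rc_18_1 lc_i_rc_33_1 lc_i_rc_26_1 lc_i_rc_9_1 lc_i_rc_18_1 lc_i_rc_18_1 lc_i_Cert_tree lc_i_Cert_tree lc_i_Cert_tree lc_i_rc_54_0 lc_i_Cert_tree lc_i_Cert_tree lc_i_rc_54_0 lc_i_Cert_tree lc_i_rc_54_0 lc_i_rc_41_3 lc_i_Cert_tree) (@D3.rec (fun _ => (Cert rels S Gen.i)) lc_i_rc_54_0 lc_i_rc_41_3 lc_i_rc_33_1 lc_i_Cert_tree lc_i_Cert_tree lc_i_Cert_tree lc_i_rc_54_0 lc_i_Cert_tree lc_i_rc_54_0 lc_i_rc_41_3 lc_i_Cert_tree lc_i_rc_54_0 lc_i_rc_54_0 lc_i_rc_41_3 lc_i_rc_41_3 lc_i_rc_33_1 lc_i_rc_33_1 lc_i_rc_26_1 lc_i_rc_39_1 lc_i_rc_18_1 lc_i_rc_18_1 lc_i_rc_26_1 lc_i_rc_18_1 lc_i_rc_18_1 lc_i_rc_26_1 lc_i_rc_18_1 lc_i_rc_33_1 lc_i_rc_26_1 lc_i_rc_18_1 lc_i_Cert_tree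 lc_i_Cert_tree lc_i_rc_54_0 lc_i_Cert_tree lc_i_rc_54_0 lc_i_Cert_tree lc_i_rc_54_0 lc_i_rc_41_3 lc_i_Cert_tree lc_i_rc_54_0 lc_i_rc_41_3 lc_i_rc_33_1 lc_i_rc_54_0 lc_i_rc_41_3 lc_i_rc_41_3 lc_i_rc_33_1 lc_i_rc_33_1 lc_i_rc_26_1 lc_i_rc_39_1 lc_i_rc_26_1 lc_i_rc_39_1 lc_i_rc_18_1) (@D3.rec (fun _ => (Cert rels S Gen.i)) lc_i_rc_26_1 lc_i_rc_46_1 lc_i_rc_9_1 lc_i_rc_26_1 lc_i_rc_9_1 lc_i_rc_18_1 lc_i_rc_26_1 lc_i_rc_9_1 lc_i_rc_9_1 lc_i_rc_18_1 lc_i_rc_26_1 lc_i_rc_9_1 lc_i_rc_9_1 lc_i_rc_26_1 lc_i_rc_9_1 lc_i_rc_18_1 lc_i_rc_26_1 lc_i_rc_9_1 lc_i_rc_9_1 lc_i_rc_18_1 lc_i_rc_33_1 lc_i_Cert_tree lc_i_Cert_tree lc_i_rc_54_0 lc_i_Cert_tree lc_i_rc_54_0 lc_i_rc_41_3 lc_i_Cert_tree lc_i_rc_54_0 lc_i_rc_41_3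 lc_i_Cert_tree lc_i_rc_54_0 lc_i_rc_41_3 lc_i_rc_33_1 lc_i_rc_18_3 lc_i_rc_54_0 lc_i_rc_41_3 lc_i_rc_33_1 lc_i_rc_26_1 lc_i_rc_39_1 lc_i_rc_41_3 lc_i_rc_33_1 lc_i_rc_33_1 lc_i_rc_26_1 lc_i_rc_39_1 lc_i_rc_26_1 lc_i_rc_39_1 lc_i_rc_18_1 lc_i_rc_26_1 lc_i_rc_46_1 lc_i_rc_18_1) (@D3.rec (fun _ => (Cert rels S Gen.i)) lc_i_rc_26_1 lc_i_rc_46_1 lc_i_rc_9_1 lc_i_rc_18_1 lc_i_rc_33_1 lc_i_rc_26_1 lc_i_rc_50_1 lc_i_rc_26_1 lc_i_rc_39_1 lc_i_rc_18_1 lc_i_rc_26_1 lc_i_rc_46_1 lc_i_rc_9_1 lc_i_rc_18_1 lc_i_rc_33_1 lc_i_rc_26_1 lc_i_rc_50_1 lc_i_rc_9_1 lc_i_rc_18_1 lc_i_rc_26_1 lc_i_rc_53_1 lc_i_rc_18_1 lc_i_rc_26_1 lc_i_rc_46_1 lc_i_rc_9_1 lc_i_rc_18_1 lc_i_rc_33_1 lc_i_rc_26_1 lc_i_rc_9_1 lc_i_rc_18_1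 lc_i_rc_39_3 lc_i_rc_9_1 lc_i_rc_18_1 lc_i_rc_33_1 lc_i_rc_26_1 lc_i_rc_50_1 lc_i_rc_9_1 lc_i_rc_18_1 lc_i_rc_18_1 lc_i_rc_33_1 lc_i_rc_18_1 lc_i_rc_9_1 lc_i_Cert_tree lc_i_rc_54_0 lc_i_Cert_tree lc_i_Cert_tree lc_i_Cert_tree lc_i_rc_54_0 lc_i_rc_54_0 lc_i_rc_41_3 lc_i_Cert_tree) (@D3.rec (fun _ => (Cert rels S Gen.i)) lc_i_rc_54_0 lc_i_Cert_tree lc_i_rc_54_0 lc_i_rc_41_3 lc_i_rc_54_0 lc_i_rc_41_3 lc_i_rc_33_1 lc_i_rc_54_0 lc_i_rc_41_3 lc_i_rc_33_1 lc_i_rc_26_1 lc_i_rc_39_1 lc_i_Cert_tree lc_i_Cert_tree lc_i_rc_54_0 lc_i_Cert_tree lc_i_rc_54_0 lc_i_Cert_tree lc_i_rc_54_0 lc_i_rc_41_3 lc_i_rc_54_0 lc_i_rc_41_3 lc_i_rc_33_1 lc_i_rc_54_0 lc_i_rc_41_3 lc_i_rc_41_3 lc_i_rc_33_1 lc_i_rc_33_1 lc_i_rc_26_1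 lc_i_rc_39_1 lc_i_rc_26_1 lc_i_rc_39_1 lc_i_rc_18_1 lc_i_rc_26_1 lc_i_rc_46_1 lc_i_rc_18_1 lc_i_rc_26_1 lc_i_rc_18_1 lc_i_rc_18_1 lc_i_rc_26_1 lc_i_rc_18_1 lc_i_rc_9_1 lc_i_rc_18_1 lc_i_rc_33_1 lc_i_rc_26_1 lc_i_rc_18_1 lc_i_rc_33_1 lc_i_Cert_tree lc_i_rc_26_1 lc_i_rc_18_1 lc_i_Cert_tree) (@D3.rec (fun _ => (Cert rels S Gen.i)) lc_i_Cert_tree lc_i_rc_54_0 lc_i_Cert_tree lc_i_rc_54_0 lc_i_rc_41_3 lc_i_Cert_tree lc_i_rc_54_0 lc_i_rc_41_3 lc_i_Cert_tree lc_i_rc_54_0 lc_i_rc_41_3 lc_i_rc_33_1 lc_i_rc_54_0 lc_i_rc_9_1 lc_i_rc_33_1 lc_i_rc_26_1 lc_i_rc_39_1 lc_i_rc_41_3 lc_i_rc_33_1 lc_i_rc_33_1 lc_i_rc_26_1 lc_i_rc_39_1 lc_i_rc_26_1 lc_i_rc_39_1 lc_i_rc_18_1 lc_i_rc_26_1 lc_i_rc_46_1 lc_i_rc_18_1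 lc_i_rc_26_1 lc_i_rc_46_1 lc_i_rc_9_1 lc_i_rc_18_1 lc_i_rc_33_1 lc_i_rc_26_1 lc_i_rc_50_1 lc_i_rc_26_1 lc_i_rc_9_1 lc_i_rc_18_1 lc_i_rc_26_1 lc_i_rc_9_1 lc_i_rc_9_1 lc_i_rc_18_1 lc_i_rc_33_1 lc_i_rc_26_1 lc_i_rc_9_1 lc_i_rc_9_1 lc_i_rc_18_1 lc_i_rc_26_1 lc_i_rc_9_1 lc_i_rc_18_1 lc_i_rc_26_1) (@D3.rec (fun _ => (Cert rels S Gen.i)) lc_i_rc_9_1 lc_i_rc_9_1 lc_i_rc_18_1 lc_i_rc_33_1 lc_i_rc_26_1 lc_i_rc_9_1 lc_i_rc_18_1 lc_i_Cert_tree lc_i_Cert_tree lc_i_rc_54_0 lc_i_Cert_tree lc_i_rc_54_0 lc_i_rc_41_3 lc_i_Cert_tree lc_i_Cert_tree lc_i_rc_54_0 lc_i_rc_41_3 lc_i_rc_33_1 lc_i_Cert_tree lc_i_rc_54_0 lc_i_rc_41_3 lc_i_rc_33_1 lc_i_rc_18_3 lc_i_rc_54_0 lc_i_rc_41_3 lc_i_rc_33_1 lc_i_rc_26_1 lc_i_rc_39_1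 lc_i_rc_41_3 lc_i_rc_26_1 lc_i_rc_39_1 lc_i_rc_39_3 lc_i_rc_26_1 lc_i_rc_46_1 lc_i_rc_33_1 lc_i_rc_26_1 lc_i_rc_39_1 lc_i_rc_26_1 lc_i_rc_39_1 lc_i_rc_18_1 lc_i_rc_26_1 lc_i_rc_46_1 lc_i_rc_18_1 lc_i_rc_26_1 lc_i_rc_46_1 lc_i_rc_9_1 lc_i_rc_18_1 lc_i_rc_33_1 lc_i_rc_26_1 lc_i_rc_50_1 lc_i_rc_9_1) (@D3.rec (fun _ => (Cert rels S Gen.i)) lc_i_rc_18_1 lc_i_rc_33_1 lc_i_rc_26_1 lc_i_rc_50_1 lc_i_rc_9_1 lc_i_rc_18_1 lc_i_rc_18_1 lc_i_rc_33_1 lc_i_rc_26_1 lc_i_rc_53_1 lc_i_rc_18_1 lc_i_rc_26_1 lc_i_rc_46_1 lc_i_rc_9_1 lc_i_rc_18_1 lc_i_rc_33_1 lc_i_rc_26_1 lc_i_rc_50_1 lc_i_rc_9_1 lc_i_rc_18_1 lc_i_rc_18_1 lc_i_rc_33_1 lc_i_rc_18_1 lc_i_rc_26_1 lc_i_rc_53_1 lc_i_rc_9_1 lc_i_rc_18_1 lc_i_rc_26_1 lc_i_rc_9_1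 lc_i_rc_18_1 lc_i_rc_33_1 lc_i_rc_26_1 lc_i_rc_50_1 lc_i_rc_9_1 lc_i_rc_18_1 lc_i_rc_18_1 lc_i_rc_33_1 lc_i_rc_39_3 lc_i_rc_9_1 lc_i_rc_9_1 lc_i_rc_18_1 lc_i_rc_18_1 lc_i_rc_33_1 lc_i_rc_18_1 lc_i_rc_26_1 lc_i_rc_9_1 lc_i_rc_9_1 lc_i_rc_18_1 lc_i_rc_39_1 lc_i_rc_46_1 lc_i_Cert_tree) (@D3.rec (fun _ => (Cert rels S Gen.i)) lc_i_Cert_tree lc_i_rc_54_0 lc_i_rc_41_3 lc_i_Cert_tree lc_i_Cert_tree lc_i_rc_54_0 lc_i_Cert_tree lc_i_rc_54_0 lc_i_rc_54_0 lc_i_rc_41_3 lc_i_rc_41_3 lc_i_rc_33_1 lc_i_Cert_tree lc_i_rc_54_0 lc_i_rc_41_3 lc_i_rc_54_0 lc_i_rc_41_3 lc_i_rc_33_1 lc_i_rc_41_3 lc_i_rc_33_1 lc_i_rc_26_1 lc_i_rc_39_1 lc_i_rc_41_3 lc_i_rc_41_3 lc_i_rc_26_1 lc_i_rc_39_1 lc_i_rc_18_1 lc_i_rc_26_1 lc_i_rc_46_1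 lc_i_Cert_tree lc_i_Cert_tree lc_i_rc_54_0 lc_i_Cert_tree lc_i_rc_54_0 lc_i_rc_41_3 lc_i_Cert_tree lc_i_rc_54_0 lc_i_rc_41_3 lc_i_rc_54_0 lc_i_rc_41_3 lc_i_rc_33_1 lc_i_rc_18_1 lc_i_rc_33_1 lc_i_rc_26_1 lc_i_rc_39_1 lc_i_rc_41_3 lc_i_rc_33_1 lc_i_rc_33_1 lc_i_rc_26_1 lc_i_rc_39_1 lc_i_rc_26_1) (@D3.rec (fun _ => (Cert rels S Gen.i)) lc_i_rc_39_1 lc_i_rc_18_1 lc_i_rc_26_1 lc_i_rc_46_1 lc_i_rc_18_1 lc_i_rc_26_1 lc_i_rc_46_1 lc_i_rc_9_1 lc_i_rc_18_1 lc_i_rc_33_1 lc_i_rc_26_1 lc_i_rc_50_1 lc_i_rc_26_1 lc_i_rc_18_1 lc_i_rc_18_1 lc_i_rc_26_1 lc_i_rc_18_1 lc_i_rc_9_1 lc_i_rc_18_1 lc_i_rc_33_1 lc_i_rc_26_1 lc_i_rc_18_1 lc_i_rc_9_1 lc_i_rc_18_1 lc_i_rc_18_1 lc_i_rc_33_1 lc_i_Cert_tree lc_i_rc_26_1 lc_i_rc_18_1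 lc_i_rc_39_1 lc_i_rc_33_1 lc_i_Cert_tree lc_i_rc_54_0 lc_i_rc_26_1 lc_i_Cert_tree lc_i_rc_54_0 lc_i_Cert_tree lc_i_rc_54_0 lc_i_rc_41_3 lc_i_Cert_tree lc_i_Cert_tree lc_i_rc_54_0 lc_i_rc_41_3 lc_i_rc_33_1 lc_i_Cert_tree lc_i_rc_54_0 lc_i_rc_41_3 lc_i_rc_33_1 lc_i_rc_54_0 lc_i_rc_9_1 lc_i_rc_33_1) (@D3.rec (fun _ => (Cert rels S Gen.i)) lc_i_rc_26_1 lc_i_rc_39_1 lc_i_rc_9_1 lc_i_rc_26_1 lc_i_rc_39_1 lc_i_rc_18_1 lc_i_rc_26_1 lc_i_rc_46_1 lc_i_rc_33_1 lc_i_rc_26_1 lc_i_rc_39_1 lc_i_rc_26_1 lc_i_rc_39_1 lc_i_rc_18_1 lc_i_rc_26_1 lc_i_rc_46_1 lc_i_rc_18_1 lc_i_rc_26_1 lc_i_rc_46_1 lc_i_rc_9_1 lc_i_rc_18_1 lc_i_rc_33_1 lc_i_rc_26_1 lc_i_rc_50_1 lc_i_rc_9_1 lc_i_rc_18_1 lc_i_rc_33_1 lc_i_rc_26_1 lc_i_rc_50_1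 lc_i_rc_9_1 lc_i_rc_18_1 lc_i_rc_18_1 lc_i_rc_33_1 lc_i_rc_26_1 lc_i_rc_53_1 lc_i_rc_18_1 lc_i_rc_26_1 lc_i_rc_9_1 lc_i_rc_9_1 lc_i_rc_18_1 lc_i_rc_33_1 lc_i_rc_26_1 lc_i_rc_9_1 lc_i_rc_9_1 lc_i_rc_18_1 lc_i_rc_18_1 lc_i_rc_33_1 lc_i_Cert_tree lc_i_rc_26_1 lc_i_rc_9_1 lc_i_rc_9_1) (@D3.rec (fun _ => (Cert rels S Gen.i)) lc_i_rc_18_1 lc_i_rc_26_1 lc_i_rc_9_1 lc_i_rc_18_1 lc_i_rc_33_1 lc_i_rc_26_1 lc_i_rc_9_1 lc_i_rc_9_1 lc_i_rc_18_1 lc_i_rc_18_1 lc_i_rc_33_1 lc_i_Cert_tree lc_i_rc_9_1 lc_i_rc_26_1 lc_i_rc_39_3 lc_i_rc_54_0 lc_i_Cert_tree lc_i_rc_54_0 lc_i_rc_41_3 lc_i_Cert_tree lc_i_Cert_tree lc_i_rc_54_0 lc_i_rc_41_3 lc_i_rc_33_1 lc_i_rc_46_1 lc_i_Cert_tree lc_i_rc_54_0 lc_i_rc_54_0 lc_i_rc_46_1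 lc_i_rc_33_1 lc_i_rc_26_1 lc_i_rc_39_1 lc_i_rc_18_3 lc_i_rc_54_0 lc_i_rc_41_3 lc_i_rc_33_1 lc_i_rc_26_1 lc_i_rc_39_1 lc_i_rc_41_3 lc_i_rc_26_1 lc_i_rc_39_1 lc_i_rc_39_3 lc_i_rc_26_1 lc_i_rc_46_1 lc_i_rc_41_3 lc_i_rc_26_1 lc_i_rc_46_1 lc_i_rc_18_1 lc_i_rc_33_1 lc_i_rc_26_1 lc_i_rc_50_1) (@D3.rec (fun _ => (Cert rels S Gen.i)) lc_i_rc_26_1 lc_i_rc_39_1 lc_i_rc_18_1 lc_i_rc_26_1 lc_i_rc_46_1 lc_i_rc_18_1 lc_i_rc_26_1 lc_i_rc_46_1 lc_i_rc_9_1 lc_i_rc_18_1 lc_i_rc_33_1 lc_i_rc_26_1 lc_i_rc_50_1 lc_i_rc_9_1 lc_i_rc_18_1 lc_i_rc_33_1 lc_i_rc_26_1 lc_i_rc_50_1 lc_i_rc_9_1 lc_i_rc_18_1 lc_i_rc_18_1 lc_i_rc_33_1 lc_i_rc_33_1 lc_i_rc_26_1 lc_i_rc_53_1 lc_i_rc_9_1 lc_i_rc_18_1 lc_i_rc_18_1 lc_i_rc_33_1 lc_i_rc_41_3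 lc_i_rc_26_1 lc_i_rc_53_1 lc_i_rc_9_1 lc_i_rc_9_1 lc_i_rc_26_1 lc_i_rc_18_1 lc_i_rc_18_1 lc_i_rc_39_1 lc_i_rc_33_1 lc_i_rc_26_1 lc_i_rc_9_1 lc_i_rc_18_1 lc_i_rc_33_1 lc_i_rc_26_1 lc_i_rc_50_1 lc_i_rc_9_1 lc_i_rc_18_1 lc_i_rc_18_1 lc_i_rc_33_1 lc_i_rc_18_1 lc_i_rc_26_1) (@D3.rec (fun _ => (Cert rels S Gen.i)) lc_i_rc_53_1 lc_i_rc_9_1 lc_i_rc_9_1 lc_i_rc_18_1 lc_i_rc_18_1 lc_i_rc_33_1 lc_i_rc_18_1 lc_i_rc_26_1 lc_i_rc_9_1 lc_i_rc_18_1 lc_i_rc_9_1 lc_i_rc_18_1 lc_i_rc_18_1 lc_i_rc_33_1 lc_i_rc_39_3 lc_i_rc_26_1 lc_i_rc_9_1 lc_i_rc_9_1 lc_i_rc_18_1 lc_i_rc_39_1 lc_i_rc_46_1 lc_i_rc_9_1 lc_i_rc_9_1 lc_i_rc_18_1 lc_i_rc_18_1 lc_i_rc_39_1 lc_i_rc_33_1 lc_i_rc_46_1 lc_i_rc_9_1 lc_i_rc_18_1 lc_i_rc_18_1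 lc_i_Cert_tree lc_i_Cert_tree lc_i_rc_54_0 lc_i_rc_54_0 lc_i_rc_50_1 lc_i_rc_33_1 lc_i_Cert_tree lc_i_Cert_tree lc_i_rc_54_0 lc_i_rc_54_0 lc_i_rc_41_3 lc_i_rc_54_0 lc_i_rc_41_3 lc_i_rc_41_3 lc_i_rc_33_1 lc_i_rc_33_1 lc_i_rc_26_1 lc_i_rc_39_1 lc_i_rc_54_0 lc_i_rc_41_3) (@D3.rec (fun _ => (Cert rels S Gen.i)) lc_i_rc_33_1 lc_i_rc_41_3 lc_i_rc_33_1 lc_i_rc_26_1 lc_i_rc_39_1 lc_i_rc_41_3 lc_i_rc_26_1 lc_i_rc_39_1 lc_i_rc_18_1 lc_i_rc_26_1 lc_i_rc_46_1 lc_i_rc_33_1 lc_i_rc_41_3 lc_i_rc_41_3 lc_i_rc_18_1 lc_i_rc_26_1 lc_i_rc_46_1 lc_i_rc_9_1 lc_i_rc_18_1 lc_i_rc_33_1 lc_i_rc_26_1 lc_i_rc_50_1 lc_i_Cert_tree lc_i_rc_54_0 lc_i_Cert_tree lc_i_rc_54_0 lc_i_rc_41_3 lc_i_Cert_tree lc_i_rc_54_0 lc_i_rc_41_3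 lc_i_rc_33_1 lc_i_rc_54_0 lc_i_rc_41_3 lc_i_rc_33_1 lc_i_rc_18_1 lc_i_rc_33_1 lc_i_rc_26_1 lc_i_rc_39_1 lc_i_rc_18_1 lc_i_rc_26_1 lc_i_rc_39_1 lc_i_rc_18_1 lc_i_rc_26_1 lc_i_rc_46_1 lc_i_rc_33_1 lc_i_rc_26_1 lc_i_rc_39_1 lc_i_rc_26_1 lc_i_rc_39_1 lc_i_rc_18_1 lc_i_rc_26_1) (@D3.rec (fun _ => (Cert rels S Gen.i)) lc_i_rc_46_1 lc_i_rc_18_1 lc_i_rc_26_1 lc_i_rc_46_1 lc_i_rc_9_1 lc_i_rc_18_1 lc_i_rc_33_1 lc_i_rc_26_1 lc_i_rc_50_1 lc_i_rc_9_1 lc_i_rc_18_1 lc_i_rc_33_1 lc_i_rc_26_1 lc_i_rc_50_1 lc_i_rc_9_1 lc_i_rc_18_1 lc_i_rc_18_1 lc_i_rc_33_1 lc_i_Cert_tree lc_i_rc_26_1 lc_i_rc_53_1 lc_i_rc_18_1 lc_i_rc_26_1 lc_i_rc_18_1 lc_i_rc_9_1 lc_i_rc_18_1 lc_i_rc_33_1 lc_i_rc_26_1 lc_i_rc_18_1 lc_i_rc_9_1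 lc_i_rc_18_1 lc_i_rc_18_1 lc_i_rc_33_1 lc_i_Cert_tree lc_i_rc_26_1 lc_i_rc_18_1 lc_i_rc_9_1 lc_i_rc_9_1 lc_i_rc_18_1 lc_i_Cert_tree lc_i_rc_18_1 lc_i_rc_39_1 lc_i_rc_33_1 lc_i_Cert_tree lc_i_rc_54_0 lc_i_rc_26_1 lc_i_rc_39_1 lc_i_Cert_tree lc_i_rc_33_1 lc_i_Cert_tree lc_i_rc_54_0) (@D3.rec (fun _ => (Cert rels S Gen.i)) lc_i_Cert_tree lc_i_rc_54_0 lc_i_rc_41_3 lc_i_Cert_tree lc_i_Cert_tree lc_i_rc_54_0 lc_i_rc_41_3 lc_i_rc_33_1 lc_i_Cert_tree lc_i_rc_54_0 lc_i_rc_54_0 lc_i_rc_9_1 lc_i_rc_33_1 lc_i_rc_26_1 lc_i_rc_39_1 lc_i_rc_54_0 lc_i_rc_9_1 lc_i_rc_33_1 lc_i_rc_26_1 lc_i_rc_39_1 lc_i_rc_9_1 lc_i_rc_26_1 lc_i_rc_39_1 lc_i_rc_18_1 lc_i_rc_26_1 lc_i_rc_46_1 lc_i_rc_9_1 lc_i_rc_18_1 lc_i_rc_26_1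 lc_i_rc_46_1 lc_i_rc_39_3 lc_i_rc_18_1 lc_i_rc_33_1 lc_i_rc_26_1 lc_i_rc_50_1 lc_i_rc_26_1 lc_i_rc_39_1 lc_i_rc_18_1 lc_i_rc_26_1 lc_i_rc_46_1 lc_i_rc_18_1 lc_i_rc_26_1 lc_i_rc_46_1 lc_i_rc_9_1 lc_i_rc_18_1 lc_i_rc_33_1 lc_i_rc_26_1 lc_i_rc_50_1 lc_i_rc_9_1 lc_i_rc_18_1 lc_i_rc_33_1) (@D3.rec (fun _ => (Cert rels S Gen.i)) lc_i_rc_26_1 lc_i_rc_50_1 lc_i_rc_9_1 lc_i_rc_18_1 lc_i_rc_18_1 lc_i_rc_33_1 lc_i_Cert_tree lc_i_rc_26_1 lc_i_rc_53_1 lc_i_rc_9_1 lc_i_rc_18_1 lc_i_rc_18_1 lc_i_rc_33_1 lc_i_rc_41_3 lc_i_rc_26_1 lc_i_rc_53_1 lc_i_rc_9_1 lc_i_rc_9_1 lc_i_rc_26_1 lc_i_rc_18_1 lc_i_rc_18_1 lc_i_rc_39_1 lc_i_rc_33_1 lc_i_rc_26_1 lc_i_rc_9_1 lc_i_rc_18_1 lc_i_rc_33_1 lc_i_rc_26_1 lc_i_rc_9_1 lc_i_rc_9_1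 lc_i_rc_18_1 lc_i_rc_18_1 lc_i_rc_33_1 lc_i_Cert_tree lc_i_rc_26_1 lc_i_rc_9_1 lc_i_rc_9_1 lc_i_rc_9_1 lc_i_rc_26_1 lc_i_rc_18_1 lc_i_rc_33_3 lc_i_rc_18_1 lc_i_rc_33_1 lc_i_Cert_tree lc_i_rc_54_0 lc_i_rc_26_1 lc_i_rc_9_1 lc_i_rc_18_1 lc_i_rc_9_1 lc_i_rc_18_1 lc_i_rc_18_1) (@D3.rec (fun _ => (Cert rels S Gen.i)) lc_i_rc_33_1 lc_i_Cert_tree lc_i_rc_26_1 lc_i_rc_9_1 lc_i_rc_9_1 lc_i_rc_26_1 lc_i_rc_18_1 lc_i_rc_41_3 lc_i_rc_39_1 lc_i_Cert_tree lc_i_rc_54_0 lc_i_rc_9_1 lc_i_rc_26_1 lc_i_Cert_tree lc_i_Cert_tree lc_i_rc_54_0 lc_i_rc_41_3 lc_i_rc_33_1 lc_i_rc_46_1 lc_i_Cert_tree lc_i_rc_54_0 lc_i_rc_54_0 lc_i_rc_46_1 lc_i_rc_33_1 lc_i_rc_26_1 lc_i_rc_39_1 lc_i_rc_18_3 lc_i_Cert_tree lc_i_rc_54_0 lc_i_rc_39_1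 lc_i_rc_46_1 lc_i_rc_26_1 lc_i_rc_39_1 lc_i_rc_46_1 lc_i_rc_26_1 lc_i_rc_46_1 lc_i_rc_41_3 lc_i_rc_26_1 lc_i_rc_39_1 lc_i_rc_39_3 lc_i_rc_26_1 lc_i_rc_46_1 lc_i_rc_41_3 lc_i_rc_26_1 lc_i_rc_46_1 lc_i_rc_26_1 lc_i_rc_33_1 lc_i_rc_26_1 lc_i_rc_50_1 lc_i_rc_46_1 lc_i_rc_33_1) (@D3.rec (fun _ => (Cert rels S Gen.i)) lc_i_rc_26_1 lc_i_rc_50_1 lc_i_rc_33_1 lc_i_rc_18_1 lc_i_rc_33_1 lc_i_rc_9_3 lc_i_rc_26_1 lc_i_rc_53_1 lc_i_rc_18_1 lc_i_rc_26_1 lc_i_rc_46_1 lc_i_rc_9_1 lc_i_rc_18_1 lc_i_rc_33_1 lc_i_rc_26_1 lc_i_rc_50_1 lc_i_rc_9_1 lc_i_rc_18_1 lc_i_rc_33_1 lc_i_rc_26_1 lc_i_rc_50_1 lc_i_rc_9_1 lc_i_rc_18_1 lc_i_rc_18_1 lc_i_rc_33_1 lc_i_rc_33_1 lc_i_rc_26_1 lc_i_rc_53_1 lc_i_rc_9_1 lc_i_rc_18_1 lc_i_rc_18_1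 lc_i_rc_33_1 lc_i_rc_41_3 lc_i_rc_26_1 lc_i_rc_53_1 lc_i_rc_9_1 lc_i_rc_9_1 lc_i_rc_18_1 lc_i_rc_18_1 lc_i_rc_39_1 lc_i_rc_33_1 lc_i_rc_33_1 lc_i_rc_26_1 lc_i_rc_9_1 lc_i_rc_9_1 lc_i_rc_26_1 lc_i_rc_18_1 lc_i_rc_18_1 lc_i_rc_18_1 lc_i_rc_39_1 lc_i_rc_33_1) (@D3.rec (fun _ => (Cert rels S Gen.i)) lc_i_rc_41_3 lc_i_rc_26_1 lc_i_rc_9_1 lc_i_rc_9_1 lc_i_rc_9_1 lc_i_rc_26_1 lc_i_rc_18_1 lc_i_rc_18_1 lc_i_rc_18_1 lc_i_rc_39_1 lc_i_rc_33_1 lc_i_rc_9_1 lc_i_rc_18_1 lc_i_rc_18_1 lc_i_rc_33_1 lc_i_rc_26_3 lc_i_rc_26_1 lc_i_rc_53_1 lc_i_rc_9_1 lc_i_rc_9_1 lc_i_rc_18_1 lc_i_rc_18_1 lc_i_rc_39_1 lc_i_rc_33_1 lc_i_rc_46_1 lc_i_rc_26_1 lc_i_rc_9_1 lc_i_rc_9_1 lc_i_rc_18_1 lc_i_rc_18_1 lc_i_rc_33_1 lc_i_rc_26_3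 lc_i_rc_9_1 lc_i_rc_9_1 lc_i_rc_9_1 lc_i_rc_18_1 lc_i_rc_18_1 lc_i_rc_39_1 lc_i_rc_33_1 lc_i_rc_46_1 lc_i_rc_9_1 lc_i_rc_18_1 lc_i_rc_9_3 lc_i_rc_9_1 lc_i_rc_9_1 lc_i_rc_18_1 lc_i_rc_18_1 lc_i_rc_39_1 lc_i_rc_18_1 lc_i_rc_50_1 lc_i_rc_9_1)
def ce_i_1 : D2 → D3 → (Cert rels S Gen.i) := @D2.rec (fun _ => D3 → (Cert rels S Gen.i)) (@D3.rec (fun _ => (Cert rels S Gen.i)) lc_i_rc_18_1 lc_i_Cert_tree lc_i_rc_54_0 lc_i_Cert_tree lc_i_rc_54_0 lc_i_rc_41_3 lc_i_rc_53_1 lc_i_rc_33_1 lc_i_rc_26_1 lc_i_rc_39_1 lc_i_Cert_tree lc_i_rc_54_0 lc_i_rc_54_0 lc_i_rc_41_3 lc_i_rc_41_3 lc_i_rc_33_1 lc_i_rc_41_3 lc_i_rc_33_1 lc_i_rc_33_1 lc_i_rc_26_1 lc_i_rc_39_1 lc_i_rc_26_1 lc_i_rc_39_1 lc_i_rc_18_1 lc_i_rc_26_1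 lc_i_rc_46_1 lc_i_rc_41_3 lc_i_rc_33_1 lc_i_rc_26_1 lc_i_rc_39_1 lc_i_rc_41_3 lc_i_rc_26_1 lc_i_rc_39_1 lc_i_rc_18_1 lc_i_rc_26_1 lc_i_rc_46_1 lc_i_rc_41_3 lc_i_rc_41_3 lc_i_rc_18_1 lc_i_rc_26_1 lc_i_rc_46_1 lc_i_rc_9_1 lc_i_rc_18_1 lc_i_rc_33_1 lc_i_rc_26_1 lc_i_rc_50_1 lc_i_rc_26_1 lc_i_rc_33_1 lc_i_rc_18_1 lc_i_rc_41_3 lc_i_rc_46_1) (@D3.rec (fun _ => (Cert rels S Gen.i)) lc_i_rc_9_1 lc_i_rc_18_1 lc_i_rc_33_1 lc_i_rc_26_1 lc_i_rc_50_1 lc_i_rc_9_1 lc_i_rc_18_1 lc_i_rc_18_1 lc_i_rc_33_1 lc_i_Cert_tree lc_i_rc_26_1 lc_i_rc_53_1 lc_i_Cert_tree lc_i_rc_54_0 lc_i_rc_41_3 lc_i_Cert_tree lc_i_rc_54_0 lc_i_rc_41_3 lc_i_rc_33_1 lc_i_rc_54_0 lc_i_rc_18_1 lc_i_rc_33_1 lc_i_rc_26_1 lc_i_rc_39_1 lc_i_rc_18_1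 lc_i_rc_33_1 lc_i_rc_26_1 lc_i_rc_39_1 lc_i_rc_18_1 lc_i_rc_26_1 lc_i_rc_39_1 lc_i_rc_18_1 lc_i_rc_26_1 lc_i_rc_46_1 lc_i_rc_26_1 lc_i_rc_18_1 lc_i_rc_18_1 lc_i_rc_26_1 lc_i_rc_46_1 lc_i_rc_26_1 lc_i_rc_18_1 lc_i_rc_33_1 lc_i_rc_26_1 lc_i_rc_50_1 lc_i_rc_26_1 lc_i_rc_39_1 lc_i_rc_18_1 lc_i_rc_26_1 lc_i_rc_46_1 lc_i_rc_18_1 lc_i_rc_26_1) (@D3.rec (fun _ => (Cert rels S Gen.i)) lc_i_rc_46_1 lc_i_rc_9_1 lc_i_rc_18_1 lc_i_rc_33_1 lc_i_rc_26_1 lc_i_rc_50_1 lc_i_rc_9_1 lc_i_rc_18_1 lc_i_rc_33_1 lc_i_rc_26_1 lc_i_rc_50_1 lc_i_rc_9_1 lc_i_rc_18_1 lc_i_rc_18_1 lc_i_rc_33_1 lc_i_Cert_tree lc_i_rc_26_1 lc_i_rc_53_1 lc_i_rc_9_1 lc_i_rc_18_1 lc_i_rc_18_1 lc_i_rc_33_1 lc_i_Cert_tree lc_i_rc_26_1 lc_i_rc_53_1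 lc_i_rc_9_1 lc_i_rc_9_1 lc_i_rc_26_1 lc_i_rc_18_1 lc_i_Cert_tree lc_i_rc_18_1 lc_i_rc_39_1 lc_i_rc_33_1 lc_i_Cert_tree lc_i_rc_54_0 lc_i_rc_26_1 lc_i_rc_9_1 lc_i_rc_18_1 lc_i_rc_33_1 lc_i_rc_26_1 lc_i_rc_18_1 lc_i_rc_9_1 lc_i_rc_18_1 lc_i_rc_18_1 lc_i_rc_33_1 lc_i_Cert_tree lc_i_rc_26_1 lc_i_rc_18_1 lc_i_rc_9_1 lc_i_rc_9_1 lc_i_rc_26_1) (@D3.rec (fun _ => (Cert rels S Gen.i)) lc_i_rc_18_1 lc_i_Cert_tree lc_i_rc_18_1 lc_i_rc_39_1 lc_i_rc_33_1 lc_i_Cert_tree lc_i_rc_54_0 lc_i_rc_26_1 lc_i_rc_9_1 lc_i_Cert_tree lc_i_rc_9_1 lc_i_rc_18_1 lc_i_rc_18_1 lc_i_Cert_tree lc_i_rc_54_0 lc_i_rc_18_1 lc_i_rc_39_1 lc_i_Cert_tree lc_i_rc_33_1 lc_i_Cert_tree lc_i_rc_54_0 lc_i_rc_46_1 lc_i_rc_39_1 lc_i_Cert_tree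 lc_i_Cert_tree lc_i_rc_54_0 lc_i_Cert_tree lc_i_rc_54_0 lc_i_Cert_tree lc_i_Cert_tree lc_i_rc_54_0 lc_i_rc_41_3 lc_i_rc_33_1 lc_i_Cert_tree lc_i_rc_54_0 lc_i_rc_54_0 lc_i_rc_9_1 lc_i_rc_33_1 lc_i_rc_26_1 lc_i_rc_39_1 lc_i_Cert_tree lc_i_rc_54_0 lc_i_rc_39_1 lc_i_rc_9_1 lc_i_rc_26_1 lc_i_rc_39_1 lc_i_rc_18_1 lc_i_rc_26_1 lc_i_rc_46_1 lc_i_rc_9_1 lc_i_rc_26_1) (@D3.rec (fun _ => (Cert rels S Gen.i)) lc_i_rc_39_1 lc_i_rc_18_1 lc_i_rc_26_1 lc_i_rc_46_1 lc_i_rc_9_1 lc_i_rc_18_1 lc_i_rc_26_1 lc_i_rc_46_1 lc_i_rc_39_3 lc_i_rc_18_1 lc_i_rc_33_1 lc_i_rc_26_1 lc_i_rc_50_1 lc_i_rc_9_1 lc_i_rc_18_1 lc_i_rc_33_1 lc_i_rc_26_1 lc_i_rc_50_1 lc_i_rc_33_3 lc_i_rc_18_1 lc_i_rc_18_1 lc_i_rc_33_1 lc_i_Cert_tree lc_i_rc_26_1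 lc_i_rc_53_1 lc_i_rc_18_1 lc_i_rc_26_1 lc_i_rc_46_1 lc_i_rc_9_1 lc_i_rc_18_1 lc_i_rc_33_1 lc_i_rc_26_1 lc_i_rc_50_1 lc_i_rc_9_1 lc_i_rc_18_1 lc_i_rc_33_1 lc_i_rc_26_1 lc_i_rc_50_1 lc_i_rc_9_1 lc_i_rc_18_1 lc_i_rc_18_1 lc_i_rc_33_1 lc_i_Cert_tree lc_i_rc_26_1 lc_i_rc_53_1 lc_i_rc_9_1 lc_i_rc_18_1 lc_i_rc_18_1 lc_i_rc_33_1 lc_i_Cert_tree lc_i_rc_26_1) (@D3.rec (fun _ => (Cert rels S Gen.i)) lc_i_rc_53_1 lc_i_rc_9_1 lc_i_rc_9_1 lc_i_rc_26_1 lc_i_rc_18_1 lc_i_rc_26_3 lc_i_rc_18_1 lc_i_rc_39_1 lc_i_rc_33_1 lc_i_Cert_tree lc_i_rc_54_0 lc_i_rc_26_1 lc_i_rc_9_1 lc_i_rc_9_1 lc_i_rc_26_1 lc_i_rc_18_1 lc_i_rc_18_1 lc_i_rc_18_1 lc_i_rc_39_1 lc_i_rc_33_1 lc_i_rc_41_3 lc_i_rc_26_1 lc_i_rc_9_1 lc_i_rc_9_1 lc_i_rc_9_1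 lc_i_rc_26_1 lc_i_rc_18_1 lc_i_rc_18_1 lc_i_rc_18_1 lc_i_rc_39_1 lc_i_rc_33_1 lc_i_rc_9_1 lc_i_rc_18_1 lc_i_rc_18_1 lc_i_rc_33_1 lc_i_Cert_tree lc_i_rc_26_1 lc_i_rc_9_1 lc_i_rc_9_1 lc_i_rc_9_1 lc_i_rc_26_1 lc_i_rc_18_1 lc_i_rc_33_3 lc_i_rc_18_1 lc_i_rc_39_1 lc_i_rc_33_1 lc_i_Cert_tree lc_i_rc_54_0 lc_i_rc_26_1 lc_i_rc_9_1 lc_i_rc_9_1) (@D3.rec (fun _ => (Cert rels S Gen.i)) lc_i_rc_9_1 lc_i_rc_26_1 lc_i_rc_9_1 lc_i_rc_18_1 lc_i_rc_33_3 lc_i_rc_18_1 lc_i_rc_33_1 lc_i_Cert_tree lc_i_rc_54_0 lc_i_rc_9_1 lc_i_rc_9_1 lc_i_rc_9_1 lc_i_rc_26_1 lc_i_rc_18_1 lc_i_rc_39_3 lc_i_rc_18_1 lc_i_rc_39_1 lc_i_rc_33_1 lc_i_Cert_tree lc_i_rc_54_0 lc_i_rc_9_1 lc_i_rc_9_1 lc_i_rc_26_1 lc_i_rc_26_1 lc_i_rc_18_1 lc_i_rc_46_1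 lc_i_Cert_tree lc_i_rc_54_0 lc_i_rc_33_1 lc_i_rc_50_1 lc_i_Cert_tree lc_i_rc_54_0 lc_i_Cert_tree lc_i_rc_54_0 lc_i_rc_50_1 lc_i_rc_33_1 lc_i_rc_26_1 lc_i_rc_39_1 lc_i_rc_18_3 lc_i_Cert_tree lc_i_rc_54_0 lc_i_rc_39_1 lc_i_rc_46_1 lc_i_rc_26_1 lc_i_rc_39_1 lc_i_rc_46_1 lc_i_rc_26_1 lc_i_rc_46_1 lc_i_rc_18_3 lc_i_rc_41_1 lc_i_rc_54_0) (@D3.rec (fun _ => (Cert rels S Gen.i)) lc_i_rc_33_1 lc_i_rc_39_1 lc_i_rc_26_1 lc_i_rc_46_1 lc_i_rc_9_1 lc_i_rc_33_1 lc_i_rc_26_1 lc_i_rc_50_1 lc_i_rc_41_3 lc_i_rc_26_1 lc_i_rc_46_1 lc_i_rc_18_1 lc_i_rc_33_1 lc_i_rc_26_1 lc_i_rc_50_1 lc_i_rc_46_1 lc_i_rc_33_1 lc_i_rc_26_1 lc_i_rc_50_1 lc_i_rc_33_1 lc_i_rc_46_1 lc_i_rc_33_1 lc_i_rc_9_3 lc_i_rc_26_1 lc_i_rc_53_1 lc_i_rc_50_1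 lc_i_rc_33_1 lc_i_rc_26_1 lc_i_rc_53_1 lc_i_rc_9_1 lc_i_rc_33_1 lc_i_rc_41_1 lc_i_rc_18_1 lc_i_rc_39_1 lc_i_rc_33_1 lc_i_rc_9_3 lc_i_rc_26_1 lc_i_rc_9_1 lc_i_rc_18_1 lc_i_rc_33_1 lc_i_rc_26_1 lc_i_rc_50_1 lc_i_rc_9_1 lc_i_rc_18_1 lc_i_rc_18_1 lc_i_rc_33_1 lc_i_rc_33_1 lc_i_rc_26_1 lc_i_rc_53_1 lc_i_rc_9_1 lc_i_rc_18_1) (@D3.rec (fun _ => (Cert rels S Gen.i)) lc_i_rc_18_1 lc_i_rc_33_1 lc_i_rc_41_3 lc_i_rc_26_1 lc_i_rc_53_1 lc_i_rc_9_1 lc_i_rc_9_1 lc_i_rc_18_1 lc_i_rc_18_1 lc_i_rc_39_1 lc_i_rc_33_1 lc_i_rc_46_1 lc_i_rc_26_1 lc_i_rc_9_1 lc_i_rc_9_1 lc_i_rc_18_1 lc_i_rc_18_1 lc_i_rc_39_1 lc_i_rc_33_1 lc_i_rc_41_3 lc_i_rc_26_1 lc_i_rc_9_1 lc_i_rc_9_1 lc_i_rc_18_1 lc_i_rc_18_1 lc_i_rc_18_1 lc_i_rc_39_1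 lc_i_rc_39_1 lc_i_rc_33_1 lc_i_rc_33_1 lc_i_rc_9_1 lc_i_rc_9_1 lc_i_rc_9_1 lc_i_rc_9_1 lc_i_rc_26_1 lc_i_rc_26_1 lc_i_rc_18_1 lc_i_rc_18_1 lc_i_rc_18_1 lc_i_rc_18_1 lc_i_rc_39_1 lc_i_rc_41_3 lc_i_rc_33_1 lc_i_rc_41_3 lc_i_rc_18_1 lc_i_rc_9_1 lc_i_rc_9_1 lc_i_rc_9_1 lc_i_rc_9_1 lc_i_rc_26_1 lc_i_rc_26_1) (@D3.rec (fun _ => (Cert rels S Gen.i)) lc_i_rc_18_1 lc_i_rc_18_1 lc_i_rc_46_1 lc_i_rc_39_1 lc_i_rc_9_1 lc_i_rc_9_1 lc_i_rc_18_1 lc_i_rc_18_1 lc_i_rc_39_1 lc_i_rc_33_1 lc_i_rc_46_1 lc_i_rc_26_1 lc_i_rc_9_1 lc_i_rc_9_1 lc_i_rc_18_1 lc_i_rc_18_1 lc_i_rc_18_1 lc_i_rc_39_1 lc_i_rc_9_3 lc_i_rc_33_1 lc_i_rc_46_1 lc_i_rc_9_1 lc_i_rc_9_1 lc_i_rc_18_1 lc_i_rc_18_1 lc_i_rc_9_1 lc_i_rc_9_1 lc_i_rc_18_1 lc_i_rc_18_1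 lc_i_rc_39_1 lc_i_rc_9_3 lc_i_rc_50_1 lc_i_rc_9_1 lc_i_rc_33_1 lc_i_rc_9_1 lc_i_rc_9_1 lc_i_rc_18_1 lc_i_rc_46_1 lc_i_rc_18_1 lc_i_rc_18_1 lc_i_rc_26_1 lc_i_Cert_tree lc_i_rc_54_0 lc_i_rc_41_3 lc_i_rc_54_0 lc_i_rc_41_3 lc_i_rc_46_1 lc_i_rc_33_1 lc_i_rc_26_1 lc_i_rc_39_1 lc_i_rc_18_1) (@D3.rec (fun _ => (Cert rels S Gen.i)) lc_i_rc_26_1 lc_i_rc_46_1 lc_i_rc_54_0 lc_i_rc_41_3 lc_i_rc_41_3 lc_i_rc_33_1 lc_i_rc_33_1 lc_i_rc_26_1 lc_i_rc_39_1 lc_i_rc_33_1 lc_i_rc_26_1 lc_i_rc_39_1 lc_i_rc_26_1 lc_i_rc_39_1 lc_i_rc_18_1 lc_i_rc_26_1 lc_i_rc_46_1 lc_i_rc_18_1 lc_i_rc_26_1 lc_i_rc_46_1 lc_i_rc_33_1 lc_i_rc_18_1 lc_i_rc_33_1 lc_i_rc_26_1 lc_i_rc_50_1 lc_i_rc_41_3 lc_i_rc_26_1 lc_i_rc_39_1 lc_i_rc_18_1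 lc_i_rc_26_1 lc_i_rc_46_1 lc_i_rc_41_3 lc_i_rc_41_3 lc_i_rc_18_1 lc_i_rc_26_1 lc_i_rc_46_1 lc_i_rc_9_1 lc_i_rc_18_1 lc_i_rc_33_1 lc_i_rc_26_1 lc_i_rc_50_1 lc_i_rc_18_1 lc_i_rc_41_3 lc_i_rc_46_1 lc_i_rc_9_1 lc_i_rc_18_1 lc_i_rc_33_1 lc_i_rc_26_1 lc_i_rc_50_1 lc_i_rc_9_1 lc_i_rc_18_1) (@D3.rec (fun _ => (Cert rels S Gen.i)) lc_i_rc_18_1 lc_i_rc_33_1 lc_i_Cert_tree lc_i_rc_26_1 lc_i_rc_53_1 lc_i_rc_18_1 lc_i_rc_26_1 lc_i_rc_33_1 lc_i_rc_9_1 lc_i_rc_18_1 lc_i_rc_33_1 lc_i_rc_46_1 lc_i_rc_50_1 lc_i_rc_9_1 lc_i_rc_18_1 lc_i_rc_18_1 lc_i_rc_33_1 lc_i_Cert_tree lc_i_rc_26_1 lc_i_rc_53_1 lc_i_rc_9_1 lc_i_rc_9_1 lc_i_rc_26_1 lc_i_rc_18_1 lc_i_Cert_tree lc_i_rc_18_1 lc_i_rc_39_1 lc_i_rc_33_1 lc_i_Cert_tree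 lc_i_rc_54_0 lc_i_rc_26_1 lc_i_Cert_tree lc_i_rc_54_0 lc_i_rc_41_3 lc_i_rc_33_1 lc_i_rc_54_0 lc_i_rc_18_1 lc_i_rc_33_1 lc_i_rc_26_1 lc_i_rc_39_1 lc_i_rc_39_1 lc_i_rc_18_1 lc_i_rc_26_1 lc_i_rc_39_1 lc_i_rc_18_1 lc_i_rc_26_1 lc_i_rc_46_1 lc_i_rc_18_1 lc_i_rc_26_1 lc_i_rc_39_1 lc_i_rc_18_1) (@D3.rec (fun _ => (Cert rels S Gen.i)) lc_i_rc_26_1 lc_i_rc_46_1 lc_i_rc_26_1 lc_i_rc_18_1 lc_i_rc_18_1 lc_i_rc_26_1 lc_i_rc_46_1 lc_i_rc_26_1 lc_i_rc_18_1 lc_i_rc_33_1 lc_i_rc_26_1 lc_i_rc_50_1 lc_i_rc_26_1 lc_i_rc_18_1 lc_i_rc_18_1 lc_i_rc_33_1 lc_i_rc_26_1 lc_i_rc_50_1 lc_i_rc_9_1 lc_i_rc_18_1 lc_i_rc_18_1 lc_i_rc_33_1 lc_i_Cert_tree lc_i_rc_26_1 lc_i_rc_53_1 lc_i_rc_18_1 lc_i_rc_26_1 lc_i_rc_46_1 lc_i_rc_9_1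 lc_i_rc_18_1 lc_i_rc_33_1 lc_i_rc_26_1 lc_i_rc_50_1 lc_i_rc_9_1 lc_i_rc_18_1 lc_i_rc_33_1 lc_i_rc_26_1 lc_i_rc_50_1 lc_i_rc_9_1 lc_i_rc_18_1 lc_i_rc_18_1 lc_i_rc_33_1 lc_i_Cert_tree lc_i_rc_26_1 lc_i_rc_53_1 lc_i_rc_9_1 lc_i_rc_18_1 lc_i_rc_18_1 lc_i_rc_33_1 lc_i_Cert_tree lc_i_rc_26_1) (@D3.rec (fun _ => (Cert rels S Gen.i)) lc_i_rc_53_1 lc_i_rc_9_1 lc_i_rc_9_1 lc_i_rc_26_1 lc_i_rc_18_1 lc_i_Cert_tree lc_i_rc_18_1 lc_i_rc_39_1 lc_i_rc_33_1 lc_i_Cert_tree lc_i_rc_54_0 lc_i_rc_26_1 lc_i_rc_9_1 lc_i_rc_9_1 lc_i_rc_26_1 lc_i_rc_18_1 lc_i_rc_9_1 lc_i_rc_18_1 lc_i_rc_39_1 lc_i_rc_33_1 lc_i_Cert_tree lc_i_rc_54_0 lc_i_rc_26_1 lc_i_rc_9_1 lc_i_rc_9_1 lc_i_rc_46_3 lc_i_rc_9_1 lc_i_rc_26_1 lc_i_rc_46_3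 lc_i_rc_18_1 lc_i_rc_18_1 lc_i_Cert_tree lc_i_rc_54_0 lc_i_rc_18_1 lc_i_rc_39_1 lc_i_Cert_tree lc_i_rc_33_1 lc_i_Cert_tree lc_i_rc_54_0 lc_i_rc_9_1 lc_i_rc_18_1 lc_i_rc_18_1 lc_i_rc_33_1 lc_i_Cert_tree lc_i_rc_26_1 lc_i_rc_18_1 lc_i_rc_9_1 lc_i_rc_9_1 lc_i_rc_26_1 lc_i_rc_18_1 lc_i_Cert_tree) (@D3.rec (fun _ => (Cert rels S Gen.i)) lc_i_rc_18_1 lc_i_rc_39_1 lc_i_rc_33_1 lc_i_Cert_tree lc_i_rc_54_0 lc_i_rc_26_1 lc_i_rc_9_1 lc_i_rc_9_1 lc_i_Cert_tree lc_i_rc_9_1 lc_i_rc_26_1 lc_i_Cert_tree lc_i_rc_18_1 lc_i_rc_18_1 lc_i_Cert_tree lc_i_rc_54_0 lc_i_rc_18_1 lc_i_rc_39_1 lc_i_Cert_tree lc_i_rc_33_1 lc_i_Cert_tree lc_i_rc_54_0 lc_i_rc_9_1 lc_i_rc_9_1 lc_i_Cert_tree lc_i_rc_54_0 lc_i_rc_9_1 lc_i_rc_18_1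 lc_i_Cert_tree lc_i_rc_18_1 lc_i_Cert_tree lc_i_rc_54_0 lc_i_rc_46_1 lc_i_rc_39_1 lc_i_Cert_tree lc_i_Cert_tree lc_i_rc_54_0 lc_i_Cert_tree lc_i_rc_54_0 lc_i_rc_46_1 lc_i_Cert_tree lc_i_rc_26_3 lc_i_rc_26_3 lc_i_rc_54_0 lc_i_Cert_tree lc_i_rc_54_0 lc_i_rc_54_0 lc_i_Cert_tree lc_i_rc_54_0 lc_i_Cert_tree lc_i_rc_54_0) (@D3.rec (fun _ => (Cert rels S Gen.i)) lc_i_rc_9_1 lc_i_rc_33_1 lc_i_rc_26_1 lc_i_rc_39_1 lc_i_Cert_tree lc_i_rc_54_0 lc_i_rc_39_1 lc_i_rc_9_1 lc_i_rc_26_1 lc_i_rc_39_1 lc_i_rc_18_1 lc_i_rc_26_1 lc_i_rc_46_1 lc_i_rc_41_1 lc_i_rc_54_0 lc_i_rc_33_1 lc_i_rc_39_1 lc_i_rc_18_1 lc_i_rc_26_1 lc_i_rc_46_1 lc_i_rc_46_1 lc_i_rc_18_1 lc_i_rc_33_1 lc_i_rc_26_1 lc_i_rc_50_1 lc_i_rc_9_1 lc_i_rc_18_1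 lc_i_rc_26_1 lc_i_rc_46_1 lc_i_rc_41_1 lc_i_rc_18_1 lc_i_rc_33_1 lc_i_rc_26_1 lc_i_rc_50_1 lc_i_rc_9_1 lc_i_rc_18_1 lc_i_rc_33_1 lc_i_rc_26_1 lc_i_rc_50_1 lc_i_rc_41_1 lc_i_rc_18_1 lc_i_rc_18_1 lc_i_rc_33_1 lc_i_Cert_tree lc_i_rc_26_1 lc_i_rc_53_1 lc_i_rc_9_1 lc_i_rc_18_1 lc_i_rc_18_1 lc_i_rc_33_1 lc_i_rc_26_1) (@D3.rec (fun _ => (Cert rels S Gen.i)) lc_i_rc_53_1 lc_i_rc_26_3 lc_i_rc_33_3 lc_i_rc_26_1 lc_i_rc_18_1 lc_i_Cert_tree lc_i_rc_18_1 lc_i_rc_39_1 lc_i_rc_33_1 lc_i_Cert_tree lc_i_rc_54_0 lc_i_rc_26_1 lc_i_rc_9_1 lc_i_rc_18_1 lc_i_rc_33_1 lc_i_rc_26_1 lc_i_rc_50_1 lc_i_rc_9_1 lc_i_rc_18_1 lc_i_rc_18_1 lc_i_rc_33_1 lc_i_Cert_tree lc_i_rc_26_1 lc_i_rc_53_1 lc_i_rc_9_1 lc_i_rc_18_1 lc_i_rc_18_1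 lc_i_rc_33_1 lc_i_Cert_tree lc_i_rc_26_1 lc_i_rc_53_1 lc_i_rc_9_1 lc_i_rc_9_1 lc_i_rc_26_1 lc_i_rc_18_1 lc_i_rc_39_3 lc_i_rc_18_1 lc_i_rc_39_1 lc_i_rc_33_1 lc_i_Cert_tree lc_i_rc_54_0 lc_i_rc_26_1 lc_i_rc_9_1 lc_i_rc_9_1 lc_i_rc_26_1 lc_i_rc_18_1 lc_i_rc_41_3 lc_i_rc_18_1 lc_i_rc_39_1 lc_i_rc_33_1 lc_i_Cert_tree) (@D3.rec (fun _ => (Cert rels S Gen.i)) lc_i_rc_54_0 lc_i_rc_26_1 lc_i_rc_9_1 lc_i_rc_9_1 lc_i_rc_9_1 lc_i_rc_26_1 lc_i_rc_9_1 lc_i_rc_18_1 lc_i_rc_18_1 lc_i_rc_26_3 lc_i_rc_18_1 lc_i_rc_39_1 lc_i_Cert_tree lc_i_rc_33_1 lc_i_Cert_tree lc_i_rc_54_0 lc_i_rc_9_1 lc_i_rc_9_1 lc_i_rc_9_1 lc_i_rc_9_1 lc_i_rc_26_1 lc_i_rc_26_1 lc_i_rc_18_1 lc_i_rc_18_1 lc_i_rc_18_1 lc_i_rc_18_1 lc_i_rc_39_1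 lc_i_rc_41_3 lc_i_rc_33_1 lc_i_rc_41_3 lc_i_rc_33_1 lc_i_rc_9_1 lc_i_rc_9_1 lc_i_rc_9_1 lc_i_rc_9_1 lc_i_rc_26_1 lc_i_rc_26_1 lc_i_rc_18_1 lc_i_rc_18_1 lc_i_rc_46_1 lc_i_rc_39_1 lc_i_rc_9_1 lc_i_rc_9_1 lc_i_rc_26_1 lc_i_rc_18_1 lc_i_rc_41_3 lc_i_rc_18_1 lc_i_rc_39_1 lc_i_rc_33_1 lc_i_Cert_tree lc_i_rc_54_0) (@D3.rec (fun _ => (Cert rels S Gen.i)) lc_i_rc_26_1 lc_i_rc_9_1 lc_i_rc_9_1 lc_i_rc_9_1 lc_i_rc_26_1 lc_i_rc_9_1 lc_i_rc_18_1 lc_i_rc_18_1 lc_i_rc_46_1 lc_i_rc_18_1 lc_i_rc_39_1 lc_i_Cert_tree lc_i_rc_33_1 lc_i_Cert_tree lc_i_rc_54_0 lc_i_rc_9_1 lc_i_rc_9_1 lc_i_rc_9_1 lc_i_rc_26_1 lc_i_rc_9_1 lc_i_rc_9_1 lc_i_rc_18_1 lc_i_rc_39_3 lc_i_Cert_tree lc_i_rc_54_0 lc_i_rc_9_1 lc_i_rc_9_1 lc_i_rc_9_1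 lc_i_rc_26_1 lc_i_rc_26_1 lc_i_rc_18_1 lc_i_rc_18_1 lc_i_rc_46_1 lc_i_rc_39_1 lc_i_Cert_tree lc_i_Cert_tree lc_i_rc_54_0 lc_i_rc_9_1 lc_i_rc_9_1 lc_i_rc_26_1 lc_i_rc_26_1 lc_i_rc_33_1 lc_i_rc_39_1 lc_i_Cert_tree lc_i_rc_54_0 lc_i_rc_33_3 lc_i_rc_18_3 lc_i_Cert_tree lc_i_Cert_tree lc_i_rc_54_0 lc_i_rc_54_0) (@D3.rec (fun _ => (Cert rels S Gen.i)) lc_i_rc_39_1 lc_i_rc_50_1 lc_i_rc_26_1 lc_i_rc_39_1 lc_i_rc_50_1 lc_i_rc_26_1 lc_i_rc_46_1 lc_i_rc_18_3 lc_i_rc_41_1 lc_i_rc_54_0 lc_i_rc_33_1 lc_i_rc_39_1 lc_i_rc_26_1 lc_i_rc_46_1 lc_i_rc_9_1 lc_i_rc_33_1 lc_i_rc_26_1 lc_i_rc_50_1 lc_i_rc_26_1 lc_i_rc_18_1 lc_i_rc_33_1 lc_i_rc_39_1 lc_i_rc_33_1 lc_i_rc_26_1 lc_i_rc_50_1 lc_i_rc_33_1 lc_i_rc_9_1 lc_i_rc_33_1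 lc_i_rc_41_1 lc_i_rc_26_1 lc_i_rc_53_1 lc_i_rc_46_1 lc_i_rc_33_1 lc_i_rc_26_1 lc_i_rc_50_1 lc_i_rc_33_1 lc_i_rc_46_1 lc_i_rc_33_1 lc_i_rc_9_3 lc_i_rc_26_1 lc_i_rc_53_1 lc_i_rc_50_1 lc_i_rc_33_1 lc_i_rc_26_1 lc_i_rc_53_1 lc_i_rc_9_1 lc_i_rc_46_1 lc_i_rc_41_1 lc_i_rc_46_1 lc_i_rc_39_1 lc_i_rc_33_1) (@D3.rec (fun _ => (Cert rels S Gen.i)) lc_i_rc_9_3 lc_i_rc_26_1 lc_i_rc_53_1 lc_i_rc_39_1 lc_i_rc_33_1 lc_i_rc_26_1 lc_i_rc_9_1 lc_i_rc_39_1 lc_i_rc_33_1 lc_i_rc_41_1 lc_i_rc_26_1 lc_i_rc_39_1 lc_i_rc_9_3 lc_i_rc_33_1 lc_i_rc_9_3 lc_i_rc_9_1 lc_i_rc_18_1 lc_i_rc_18_1 lc_i_rc_33_1 lc_i_rc_41_3 lc_i_rc_26_1 lc_i_rc_53_1 lc_i_rc_9_1 lc_i_rc_9_1 lc_i_rc_18_1 lc_i_rc_18_1 lc_i_rc_39_1 lc_i_rc_33_1 lc_i_rc_46_1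 lc_i_rc_26_1 lc_i_rc_9_1 lc_i_rc_9_1 lc_i_rc_18_1 lc_i_rc_18_1 lc_i_rc_39_1 lc_i_rc_33_1 lc_i_rc_46_1 lc_i_rc_26_1 lc_i_rc_9_1 lc_i_rc_9_1 lc_i_rc_18_1 lc_i_rc_18_1 lc_i_rc_18_1 lc_i_rc_39_1 lc_i_rc_9_3 lc_i_rc_33_1 lc_i_rc_46_1 lc_i_rc_9_1 lc_i_rc_9_1 lc_i_rc_18_1 lc_i_rc_18_1) (@D3.rec (fun _ => (Cert rels S Gen.i)) lc_i_rc_18_1 lc_i_rc_39_1 lc_i_rc_41_3 lc_i_rc_33_1 lc_i_rc_41_3 lc_i_rc_9_1 lc_i_rc_9_1 lc_i_rc_9_1 lc_i_rc_18_1 lc_i_rc_18_1 lc_i_rc_46_1 lc_i_rc_39_1 lc_i_rc_39_1 lc_i_rc_33_1 lc_i_rc_18_1 lc_i_rc_9_1 lc_i_rc_9_1 lc_i_rc_9_1 lc_i_rc_9_1 lc_i_rc_9_1 lc_i_rc_9_1 lc_i_rc_26_1 lc_i_rc_26_1 lc_i_rc_26_1 lc_i_rc_33_1 lc_i_rc_18_1 lc_i_rc_18_1 lc_i_rc_18_1 lc_i_rc_18_1 lc_i_rc_46_1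 lc_i_rc_39_1 lc_i_rc_41_3 lc_i_rc_33_1 lc_i_rc_41_3 lc_i_rc_18_1 lc_i_rc_9_1 lc_i_rc_9_1 lc_i_rc_9_1 lc_i_rc_9_1 lc_i_rc_33_1 lc_i_rc_26_1 lc_i_rc_26_1 lc_i_rc_18_1 lc_i_rc_18_1 lc_i_rc_46_1 lc_i_rc_9_1 lc_i_rc_9_1 lc_i_rc_18_1 lc_i_rc_18_1 lc_i_rc_18_1 lc_i_rc_39_1) (@D3.rec (fun _ => (Cert rels S Gen.i)) lc_i_rc_9_3 lc_i_rc_33_1 lc_i_rc_50_1 lc_i_rc_9_1 lc_i_rc_9_1 lc_i_rc_9_1 lc_i_rc_18_1 lc_i_rc_18_1 lc_i_rc_39_1 lc_i_rc_9_3 lc_i_rc_33_1 lc_i_rc_46_1 lc_i_rc_9_1 lc_i_rc_9_1 lc_i_rc_9_1 lc_i_rc_18_1 lc_i_rc_46_1 lc_i_rc_9_3 lc_i_rc_33_1 lc_i_rc_26_1 lc_i_rc_9_1 lc_i_rc_18_1 lc_i_rc_18_1 lc_i_rc_33_1 lc_i_rc_26_1 lc_i_Cert_tree lc_i_rc_54_0 lc_i_rc_41_3 lc_i_rc_33_1 lc_i_rc_50_1 lc_i_rc_46_1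 lc_i_rc_26_1 lc_i_rc_39_1 lc_i_rc_26_1 lc_i_rc_39_1 lc_i_rc_18_1 lc_i_rc_26_1 lc_i_rc_46_1 lc_i_rc_9_1 lc_i_rc_18_1 lc_i_rc_33_1 lc_i_rc_26_1 lc_i_rc_50_1 lc_i_rc_41_3 lc_i_rc_33_1 lc_i_rc_33_1 lc_i_rc_26_1 lc_i_rc_39_1 lc_i_rc_26_1 lc_i_rc_39_1 lc_i_rc_18_1) (@D3.rec (fun _ => (Cert rels S Gen.i)) lc_i_rc_26_1 lc_i_rc_46_1 lc_i_rc_26_1 lc_i_rc_39_1 lc_i_rc_18_1 lc_i_rc_26_1 lc_i_rc_46_1 lc_i_rc_18_1 lc_i_rc_26_1 lc_i_rc_46_1 lc_i_rc_33_1 lc_i_rc_18_1 lc_i_rc_33_1 lc_i_rc_26_1 lc_i_rc_50_1 lc_i_rc_18_1 lc_i_rc_33_1 lc_i_rc_26_1 lc_i_rc_50_1 lc_i_rc_33_3 lc_i_rc_18_1 lc_i_rc_18_1 lc_i_rc_33_1 lc_i_Cert_tree lc_i_rc_26_1 lc_i_rc_53_1 lc_i_rc_41_3 lc_i_rc_41_3 lc_i_rc_18_1 lc_i_rc_26_1 lc_i_rc_46_1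 lc_i_rc_9_1 lc_i_rc_18_1 lc_i_rc_33_1 lc_i_rc_26_1 lc_i_rc_50_1 lc_i_rc_18_1 lc_i_rc_41_3 lc_i_rc_46_1 lc_i_rc_9_1 lc_i_rc_18_1 lc_i_rc_33_1 lc_i_rc_26_1 lc_i_rc_50_1 lc_i_rc_9_1 lc_i_rc_18_1 lc_i_rc_18_1 lc_i_rc_33_1 lc_i_Cert_tree lc_i_rc_26_1 lc_i_rc_53_1) (@D3.rec (fun _ => (Cert rels S Gen.i)) lc_i_rc_9_1 lc_i_rc_18_1 lc_i_rc_33_1 lc_i_rc_46_1 lc_i_rc_50_1 lc_i_rc_9_1 lc_i_rc_18_1 lc_i_rc_18_1 lc_i_rc_33_1 lc_i_Cert_tree lc_i_rc_26_1 lc_i_rc_53_1 lc_i_rc_9_1 lc_i_rc_9_1 lc_i_rc_26_1 lc_i_rc_18_1 lc_i_Cert_tree lc_i_rc_18_1 lc_i_rc_39_1 lc_i_rc_33_1 lc_i_Cert_tree lc_i_rc_54_0 lc_i_rc_26_1 lc_i_rc_9_1 lc_i_rc_18_1 lc_i_rc_26_1 lc_i_rc_26_1 lc_i_rc_33_1 lc_i_rc_9_1 lc_i_rc_33_1 lc_i_rc_18_1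 lc_i_rc_33_1 lc_i_rc_33_3 lc_i_rc_50_1 lc_i_rc_53_1 lc_i_rc_9_1 lc_i_rc_9_1 lc_i_rc_26_1 lc_i_rc_18_1 lc_i_rc_9_1 lc_i_rc_18_1 lc_i_rc_39_1 lc_i_rc_33_1 lc_i_Cert_tree lc_i_rc_54_0 lc_i_rc_26_1 lc_i_rc_9_1 lc_i_rc_9_1 lc_i_rc_46_3 lc_i_rc_9_1 lc_i_rc_26_1) (@D3.rec (fun _ => (Cert rels S Gen.i)) lc_i_rc_46_3 lc_i_rc_18_1 lc_i_rc_18_1 lc_i_Cert_tree lc_i_rc_54_0 lc_i_rc_18_1 lc_i_rc_39_1 lc_i_Cert_tree lc_i_rc_33_1 lc_i_Cert_tree lc_i_rc_54_0 lc_i_Cert_tree lc_i_rc_54_0 lc_i_rc_18_1 lc_i_rc_33_1 lc_i_rc_26_1 lc_i_rc_39_1 lc_i_rc_39_1 lc_i_rc_18_1 lc_i_rc_26_1 lc_i_rc_39_1 lc_i_rc_18_1 lc_i_rc_26_1 lc_i_rc_46_1 lc_i_rc_33_1 lc_i_rc_26_1 lc_i_rc_39_1 lc_i_rc_18_1 lc_i_rc_26_1 lc_i_rc_46_1 lc_i_rc_26_1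 lc_i_rc_18_1 lc_i_rc_33_1 lc_i_rc_26_1 lc_i_rc_50_1 lc_i_rc_26_1 lc_i_rc_18_1 lc_i_rc_18_1 lc_i_rc_26_1 lc_i_rc_46_1 lc_i_rc_26_1 lc_i_rc_18_1 lc_i_rc_33_1 lc_i_rc_26_1 lc_i_rc_50_1 lc_i_rc_26_1 lc_i_rc_18_1 lc_i_rc_18_1 lc_i_rc_33_1 lc_i_rc_26_1 lc_i_rc_50_1) (@D3.rec (fun _ => (Cert rels S Gen.i)) lc_i_rc_18_1 lc_i_rc_18_1 lc_i_rc_18_1 lc_i_rc_33_1 lc_i_Cert_tree lc_i_rc_26_1 lc_i_rc_53_1 lc_i_rc_33_1 lc_i_rc_26_1 lc_i_rc_18_1 lc_i_rc_18_1 lc_i_rc_18_1 lc_i_rc_33_1 lc_i_Cert_tree lc_i_rc_26_1 lc_i_rc_53_1 lc_i_rc_9_1 lc_i_rc_9_1 lc_i_rc_26_1 lc_i_rc_18_1 lc_i_Cert_tree lc_i_rc_18_1 lc_i_rc_39_1 lc_i_rc_33_1 lc_i_Cert_tree lc_i_rc_54_0 lc_i_rc_26_1 lc_i_rc_9_1 lc_i_rc_18_1 lc_i_rc_33_1 lc_i_rc_26_1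 lc_i_rc_50_1 lc_i_rc_9_1 lc_i_rc_18_1 lc_i_rc_18_1 lc_i_rc_33_1 lc_i_Cert_tree lc_i_rc_26_1 lc_i_rc_53_1 lc_i_rc_9_1 lc_i_rc_18_1 lc_i_rc_18_1 lc_i_rc_33_1 lc_i_Cert_tree lc_i_rc_26_1 lc_i_rc_53_1 lc_i_rc_9_1 lc_i_rc_9_1 lc_i_rc_26_1 lc_i_rc_18_1 lc_i_Cert_tree)
def ce_i_2 : D2 → D3 → (Cert rels S Gen.i) := @D2.rec (fun _ => D3 → (Cert rels S Gen.i)) (@D3.rec (fun _ => (Cert rels S Gen.i)) lc_i_rc_18_1 lc_i_rc_39_1 lc_i_rc_33_1 lc_i_Cert_tree lc_i_rc_54_0 lc_i_rc_26_1 lc_i_rc_9_1 lc_i_rc_9_1 lc_i_rc_26_1 lc_i_rc_18_1 lc_i_Cert_tree lc_i_rc_18_1 lc_i_rc_39_1 lc_i_rc_33_1 lc_i_Cert_tree lc_i_rc_54_0 lc_i_rc_26_1 lc_i_rc_9_1 lc_i_rc_9_1 lc_i_Cert_tree lc_i_rc_9_1 lc_i_rc_26_1 lc_i_Cert_tree lc_i_rc_18_1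 lc_i_rc_18_1 lc_i_Cert_tree lc_i_rc_54_0 lc_i_rc_18_1 lc_i_rc_39_1 lc_i_Cert_tree lc_i_rc_33_1 lc_i_Cert_tree lc_i_rc_54_0 lc_i_rc_9_1 lc_i_rc_9_1 lc_i_rc_26_1 lc_i_rc_18_1 lc_i_rc_18_1 lc_i_rc_9_1 lc_i_rc_18_1 lc_i_rc_39_1 lc_i_Cert_tree lc_i_rc_33_1 lc_i_Cert_tree lc_i_rc_54_0 lc_i_rc_9_1 lc_i_rc_9_1 lc_i_rc_9_1 lc_i_rc_39_3 lc_i_rc_9_1 lc_i_rc_26_1) (@D3.rec (fun _ => (Cert rels S Gen.i)) lc_i_rc_26_1 lc_i_rc_39_3 lc_i_rc_18_1 lc_i_Cert_tree lc_i_rc_18_1 lc_i_Cert_tree lc_i_rc_54_0 lc_i_rc_46_1 lc_i_rc_39_1 lc_i_Cert_tree lc_i_Cert_tree lc_i_rc_54_0 lc_i_Cert_tree lc_i_rc_54_0 lc_i_rc_9_1 lc_i_rc_9_1 lc_i_rc_26_1 lc_i_rc_18_1 lc_i_Cert_tree lc_i_rc_18_1 lc_i_rc_39_1 lc_i_rc_33_1 lc_i_Cert_tree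 lc_i_rc_54_0 lc_i_rc_26_1 lc_i_rc_9_1 lc_i_rc_9_1 lc_i_Cert_tree lc_i_rc_9_1 lc_i_rc_26_1 lc_i_Cert_tree lc_i_rc_18_1 lc_i_rc_18_1 lc_i_Cert_tree lc_i_rc_54_0 lc_i_rc_18_1 lc_i_rc_39_1 lc_i_Cert_tree lc_i_rc_33_1 lc_i_Cert_tree lc_i_rc_54_0 lc_i_rc_9_1 lc_i_Cert_tree lc_i_rc_9_1 lc_i_rc_9_1 lc_i_Cert_tree lc_i_rc_54_0 lc_i_rc_9_1 lc_i_rc_26_1 lc_i_rc_26_1 lc_i_Cert_tree) (@D3.rec (fun _ => (Cert rels S Gen.i)) lc_i_Cert_tree lc_i_rc_54_0 lc_i_rc_18_1 lc_i_Cert_tree lc_i_rc_18_1 lc_i_Cert_tree lc_i_rc_54_0 lc_i_rc_46_1 lc_i_rc_39_1 lc_i_Cert_tree lc_i_Cert_tree lc_i_rc_54_0 lc_i_Cert_tree lc_i_rc_54_0 lc_i_rc_9_1 lc_i_Cert_tree lc_i_rc_9_1 lc_i_Cert_tree lc_i_rc_54_0 lc_i_rc_18_1 lc_i_rc_18_1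 lc_i_Cert_tree lc_i_Cert_tree lc_i_rc_54_0 lc_i_Cert_tree lc_i_rc_54_0 lc_i_rc_46_1 lc_i_Cert_tree lc_i_Cert_tree lc_i_Cert_tree lc_i_rc_54_0 lc_i_Cert_tree lc_i_rc_54_0 lc_i_rc_54_0 lc_i_rc_50_1 lc_i_rc_26_3 lc_i_rc_26_1 lc_i_rc_54_0 lc_i_rc_18_3 lc_i_Cert_tree lc_i_rc_54_0 lc_i_Cert_tree lc_i_Cert_tree lc_i_rc_54_0 lc_i_rc_54_0 lc_i_rc_39_1 lc_i_rc_9_1 lc_i_rc_26_1 lc_i_rc_39_1 lc_i_rc_18_1 lc_i_rc_26_1) (@D3.rec (fun _ => (Cert rels S Gen.i)) lc_i_rc_46_1 lc_i_rc_41_1 lc_i_rc_54_0 lc_i_rc_33_1 lc_i_rc_39_1 lc_i_rc_18_1 lc_i_rc_26_1 lc_i_rc_46_1 lc_i_rc_46_1 lc_i_rc_18_1 lc_i_rc_33_1 lc_i_rc_26_1 lc_i_rc_50_1 lc_i_rc_33_1 lc_i_rc_39_1 lc_i_rc_18_1 lc_i_rc_33_1 lc_i_rc_26_1 lc_i_rc_50_1 lc_i_rc_39_1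 lc_i_rc_18_1 lc_i_rc_18_1 lc_i_rc_33_1 lc_i_rc_41_1 lc_i_rc_26_1 lc_i_rc_53_1 lc_i_rc_9_1 lc_i_rc_18_1 lc_i_rc_33_1 lc_i_rc_26_1 lc_i_rc_50_1 lc_i_rc_33_3 lc_i_rc_18_1 lc_i_rc_18_1 lc_i_rc_33_1 lc_i_Cert_tree lc_i_rc_26_1 lc_i_rc_53_1 lc_i_rc_9_1 lc_i_rc_18_1 lc_i_rc_18_1 lc_i_rc_33_1 lc_i_rc_26_1 lc_i_rc_53_1 lc_i_rc_26_3 lc_i_rc_46_1 lc_i_rc_26_1 lc_i_rc_18_1 lc_i_Cert_tree lc_i_rc_18_1 lc_i_rc_39_1) (@D3.rec (fun _ => (Cert rels S Gen.i)) lc_i_rc_33_1 lc_i_Cert_tree lc_i_rc_54_0 lc_i_rc_26_1 lc_i_rc_9_1 lc_i_rc_26_1 lc_i_rc_18_1 lc_i_rc_18_1 lc_i_rc_39_1 lc_i_rc_33_1 lc_i_rc_26_1 lc_i_rc_9_1 lc_i_rc_26_3 lc_i_rc_41_1 lc_i_rc_33_3 lc_i_rc_26_1 lc_i_rc_18_1 lc_i_rc_18_1 lc_i_rc_18_1 lc_i_Cert_tree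 lc_i_rc_54_0 lc_i_rc_18_1 lc_i_rc_39_1 lc_i_Cert_tree lc_i_rc_33_1 lc_i_Cert_tree lc_i_rc_54_0 lc_i_rc_9_1 lc_i_rc_18_1 lc_i_rc_18_1 lc_i_rc_33_1 lc_i_Cert_tree lc_i_rc_26_1 lc_i_rc_53_1 lc_i_rc_9_1 lc_i_rc_9_1 lc_i_rc_26_1 lc_i_rc_18_1 lc_i_rc_26_3 lc_i_rc_18_1 lc_i_rc_39_1 lc_i_rc_33_1 lc_i_Cert_tree lc_i_rc_54_0 lc_i_rc_26_1 lc_i_rc_9_1 lc_i_rc_9_1 lc_i_rc_26_1 lc_i_rc_18_1 lc_i_rc_41_3 lc_i_rc_18_1) (@D3.rec (fun _ => (Cert rels S Gen.i)) lc_i_rc_39_1 lc_i_rc_33_1 lc_i_Cert_tree lc_i_rc_54_0 lc_i_rc_26_1 lc_i_rc_9_1 lc_i_rc_9_1 lc_i_rc_9_1 lc_i_rc_26_1 lc_i_rc_9_1 lc_i_rc_18_1 lc_i_rc_18_1 lc_i_rc_46_1 lc_i_rc_18_1 lc_i_rc_39_1 lc_i_Cert_tree lc_i_rc_33_1 lc_i_Cert_tree lc_i_rc_54_0 lc_i_rc_9_1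 lc_i_rc_9_1 lc_i_rc_9_1 lc_i_rc_26_1 lc_i_rc_41_3 lc_i_rc_18_1 lc_i_rc_18_1 lc_i_rc_41_3 lc_i_rc_18_1 lc_i_rc_39_1 lc_i_Cert_tree lc_i_rc_33_1 lc_i_Cert_tree lc_i_rc_54_0 lc_i_rc_9_1 lc_i_rc_9_1 lc_i_rc_9_1 lc_i_rc_9_1 lc_i_rc_26_1 lc_i_rc_26_1 lc_i_rc_9_1 lc_i_rc_33_1 lc_i_rc_18_1 lc_i_rc_39_1 lc_i_rc_18_1 lc_i_rc_26_3 lc_i_rc_46_1 lc_i_rc_39_1 lc_i_Cert_tree lc_i_rc_54_0 lc_i_Cert_tree lc_i_rc_54_0) (@D3.rec (fun _ => (Cert rels S Gen.i)) lc_i_rc_9_1 lc_i_rc_9_1 lc_i_rc_9_1 lc_i_rc_9_1 lc_i_rc_9_1 lc_i_rc_26_1 lc_i_rc_26_1 lc_i_rc_26_1 lc_i_rc_18_1 lc_i_rc_18_1 lc_i_rc_18_1 lc_i_rc_18_1 lc_i_rc_46_1 lc_i_rc_39_1 lc_i_rc_41_3 lc_i_rc_33_1 lc_i_rc_41_3 lc_i_rc_33_1 lc_i_rc_9_1 lc_i_rc_9_1 lc_i_rc_9_1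 lc_i_rc_9_1 lc_i_rc_33_1 lc_i_rc_26_1 lc_i_rc_26_1 lc_i_rc_18_1 lc_i_rc_18_1 lc_i_rc_46_1 lc_i_rc_9_1 lc_i_rc_9_1 lc_i_rc_9_1 lc_i_rc_26_1 lc_i_rc_18_3 lc_i_rc_18_1 lc_i_rc_18_1 lc_i_rc_46_1 lc_i_rc_18_1 lc_i_rc_39_1 lc_i_Cert_tree lc_i_rc_33_1 lc_i_Cert_tree lc_i_rc_54_0 lc_i_rc_9_1 lc_i_rc_9_1 lc_i_rc_9_1 lc_i_rc_9_1 lc_i_rc_26_1 lc_i_rc_26_1 lc_i_rc_26_1 lc_i_rc_9_1 lc_i_rc_18_1) (@D3.rec (fun _ => (Cert rels S Gen.i)) lc_i_rc_39_1 lc_i_rc_18_1 lc_i_rc_46_1 lc_i_rc_39_1 lc_i_Cert_tree lc_i_Cert_tree lc_i_rc_54_0 lc_i_Cert_tree lc_i_rc_54_0 lc_i_rc_9_1 lc_i_rc_9_1 lc_i_rc_26_1 lc_i_rc_18_3 lc_i_rc_9_1 lc_i_rc_26_3 lc_i_rc_33_3 lc_i_rc_54_0 lc_i_rc_9_1 lc_i_rc_9_1 lc_i_rc_9_1 lc_i_rc_26_1 lc_i_rc_26_1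 lc_i_rc_26_1 lc_i_rc_33_1 lc_i_rc_18_1 lc_i_rc_39_1 lc_i_rc_50_1 lc_i_rc_46_1 lc_i_Cert_tree lc_i_Cert_tree lc_i_rc_54_0 lc_i_rc_54_0 lc_i_rc_9_1 lc_i_rc_33_1 lc_i_rc_39_1 lc_i_rc_33_1 lc_i_rc_33_3 lc_i_rc_33_1 lc_i_Cert_tree lc_i_rc_54_0 lc_i_rc_33_3 lc_i_rc_33_1 lc_i_rc_18_3 lc_i_Cert_tree lc_i_rc_41_1 lc_i_rc_54_0 lc_i_rc_54_0 lc_i_rc_46_1 lc_i_rc_33_1 lc_i_rc_39_1 lc_i_rc_26_1) (@D3.rec (fun _ => (Cert rels S Gen.i)) lc_i_rc_46_1 lc_i_rc_9_1 lc_i_rc_33_1 lc_i_rc_26_1 lc_i_rc_50_1 lc_i_rc_26_1 lc_i_rc_18_1 lc_i_rc_33_1 lc_i_rc_39_1 lc_i_rc_33_1 lc_i_rc_26_1 lc_i_rc_50_1 lc_i_rc_33_1 lc_i_rc_9_1 lc_i_rc_33_1 lc_i_rc_41_1 lc_i_rc_26_1 lc_i_rc_53_1 lc_i_rc_26_1 lc_i_rc_33_1 lc_i_rc_39_1 lc_i_rc_33_1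 lc_i_rc_26_1 lc_i_rc_53_1 lc_i_rc_26_1 lc_i_rc_33_1 lc_i_rc_41_3 lc_i_rc_9_1 lc_i_rc_39_1 lc_i_rc_33_1 lc_i_rc_41_1 lc_i_rc_26_1 lc_i_rc_50_1 lc_i_rc_33_1 lc_i_rc_26_1 lc_i_rc_53_1 lc_i_rc_9_1 lc_i_rc_46_1 lc_i_rc_41_1 lc_i_rc_50_1 lc_i_rc_39_1 lc_i_rc_33_1 lc_i_rc_9_3 lc_i_rc_33_3 lc_i_rc_53_1 lc_i_rc_39_1 lc_i_rc_33_1 lc_i_rc_26_1 lc_i_rc_9_1 lc_i_rc_9_1 lc_i_rc_46_1) (@D3.rec (fun _ => (Cert rels S Gen.i)) lc_i_rc_46_1 lc_i_rc_46_1 lc_i_rc_39_1 lc_i_rc_9_3 lc_i_rc_33_1 lc_i_rc_9_3 lc_i_rc_39_1 lc_i_rc_33_1 lc_i_rc_9_1 lc_i_rc_9_1 lc_i_rc_39_1 lc_i_rc_41_1 lc_i_rc_33_1 lc_i_rc_41_1 lc_i_rc_46_1 lc_i_rc_39_1 lc_i_rc_9_3 lc_i_rc_9_3 lc_i_rc_9_3 lc_i_rc_9_1 lc_i_rc_9_1 lc_i_rc_18_1 lc_i_rc_18_1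 lc_i_rc_39_1 lc_i_rc_33_1 lc_i_rc_46_1 lc_i_rc_26_1 lc_i_rc_9_1 lc_i_rc_9_1 lc_i_rc_18_1 lc_i_rc_18_1 lc_i_rc_18_1 lc_i_rc_9_1 lc_i_rc_9_1 lc_i_rc_18_1 lc_i_rc_18_1 lc_i_rc_18_1 lc_i_rc_39_1 lc_i_rc_9_3 lc_i_rc_33_1 lc_i_rc_46_1 lc_i_rc_9_1 lc_i_rc_9_1 lc_i_rc_9_1 lc_i_rc_18_1 lc_i_rc_18_1 lc_i_rc_9_1 lc_i_rc_9_1 lc_i_rc_9_1 lc_i_rc_18_1 lc_i_rc_18_1) (@D3.rec (fun _ => (Cert rels S Gen.i)) lc_i_rc_46_1 lc_i_rc_39_1 lc_i_rc_41_3 lc_i_rc_9_3 lc_i_rc_41_3 lc_i_rc_9_1 lc_i_rc_9_1 lc_i_rc_18_1 lc_i_rc_18_1 lc_i_rc_18_1 lc_i_rc_9_1 lc_i_rc_9_1 lc_i_rc_9_1 lc_i_rc_9_1 lc_i_rc_9_1 lc_i_rc_9_1 lc_i_rc_9_1 lc_i_rc_33_1 lc_i_rc_26_1 lc_i_rc_26_1 lc_i_rc_26_1 lc_i_rc_26_1 lc_i_rc_33_1 lc_i_rc_18_1 lc_i_rc_18_1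 lc_i_rc_18_1 lc_i_rc_33_1 lc_i_rc_18_1 lc_i_rc_46_1 lc_i_rc_46_1 lc_i_rc_41_3 lc_i_rc_33_1 lc_i_rc_26_1 lc_i_rc_18_1 lc_i_rc_18_1 lc_i_rc_9_1 lc_i_rc_9_1 lc_i_rc_9_1 lc_i_rc_9_1 lc_i_rc_9_1 lc_i_rc_33_1 lc_i_rc_26_1 lc_i_rc_26_1 lc_i_rc_9_3 lc_i_rc_9_1 lc_i_rc_9_1 lc_i_rc_9_1 lc_i_rc_18_1 lc_i_rc_18_1 lc_i_rc_9_1 lc_i_rc_9_1) (@D3.rec (fun _ => (Cert rels S Gen.i)) lc_i_rc_18_1 lc_i_rc_9_1 lc_i_rc_18_1 lc_i_rc_9_1 lc_i_rc_33_1 lc_i_rc_50_1 lc_i_rc_54_0 lc_i_rc_50_1 lc_i_rc_33_1 lc_i_rc_26_1 lc_i_rc_39_1 lc_i_rc_50_1 lc_i_rc_26_1 lc_i_rc_39_1 lc_i_rc_18_1 lc_i_rc_39_1 lc_i_rc_39_1 lc_i_rc_18_1 lc_i_rc_26_1 lc_i_rc_46_1 lc_i_rc_9_1 lc_i_rc_18_1 lc_i_rc_33_1 lc_i_rc_26_1 lc_i_rc_50_1 lc_i_rc_9_1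 lc_i_rc_18_1 lc_i_rc_18_1 lc_i_rc_33_1 lc_i_Cert_tree lc_i_rc_26_1 lc_i_rc_53_1 lc_i_rc_33_1 lc_i_rc_26_1 lc_i_rc_39_1 lc_i_rc_26_1 lc_i_rc_39_1 lc_i_rc_18_1 lc_i_rc_26_1 lc_i_rc_46_1 lc_i_rc_18_1 lc_i_rc_26_1 lc_i_rc_46_1 lc_i_rc_33_1 lc_i_rc_18_1 lc_i_rc_33_1 lc_i_rc_26_1 lc_i_rc_50_1 lc_i_rc_18_1 lc_i_rc_26_1 lc_i_rc_46_1) (@D3.rec (fun _ => (Cert rels S Gen.i)) lc_i_rc_33_1 lc_i_rc_18_1 lc_i_rc_33_1 lc_i_rc_26_1 lc_i_rc_50_1 lc_i_rc_18_1 lc_i_rc_33_1 lc_i_rc_26_1 lc_i_rc_50_1 lc_i_rc_33_3 lc_i_rc_18_1 lc_i_rc_18_1 lc_i_rc_33_1 lc_i_Cert_tree lc_i_rc_26_1 lc_i_rc_53_1 lc_i_rc_18_1 lc_i_rc_18_1 lc_i_rc_33_1 lc_i_Cert_tree lc_i_rc_26_1 lc_i_rc_53_1 lc_i_rc_26_3 lc_i_rc_33_3 lc_i_rc_26_1 lc_i_rc_18_1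 lc_i_Cert_tree lc_i_rc_18_1 lc_i_rc_39_1 lc_i_rc_33_1 lc_i_Cert_tree lc_i_rc_54_0 lc_i_rc_26_1 lc_i_rc_18_1 lc_i_rc_41_3 lc_i_rc_46_1 lc_i_rc_9_1 lc_i_rc_18_1 lc_i_rc_33_1 lc_i_rc_26_1 lc_i_rc_50_1 lc_i_rc_9_1 lc_i_rc_18_1 lc_i_rc_18_1 lc_i_rc_33_1 lc_i_Cert_tree lc_i_rc_26_1 lc_i_rc_53_1 lc_i_rc_9_1 lc_i_rc_18_1 lc_i_rc_33_1) (@D3.rec (fun _ => (Cert rels S Gen.i)) lc_i_rc_46_1 lc_i_rc_50_1 lc_i_rc_9_1 lc_i_rc_18_1 lc_i_rc_18_1 lc_i_rc_33_1 lc_i_Cert_tree lc_i_rc_26_1 lc_i_rc_53_1 lc_i_rc_9_1 lc_i_rc_9_1 lc_i_rc_26_1 lc_i_rc_18_1 lc_i_Cert_tree lc_i_rc_18_1 lc_i_rc_39_1 lc_i_rc_33_1 lc_i_Cert_tree lc_i_rc_54_0 lc_i_rc_26_1 lc_i_rc_9_1 lc_i_rc_33_1 lc_i_rc_18_1 lc_i_rc_33_1 lc_i_Cert_tree lc_i_rc_50_1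 lc_i_rc_53_1 lc_i_rc_9_1 lc_i_rc_9_1 lc_i_rc_26_1 lc_i_rc_18_1 lc_i_Cert_tree lc_i_rc_18_1 lc_i_rc_39_1 lc_i_rc_33_1 lc_i_Cert_tree lc_i_rc_54_0 lc_i_rc_26_1 lc_i_rc_9_1 lc_i_rc_9_1 lc_i_Cert_tree lc_i_rc_9_1 lc_i_rc_26_1 lc_i_Cert_tree lc_i_rc_18_1 lc_i_rc_18_1 lc_i_Cert_tree lc_i_rc_54_0 lc_i_rc_18_1 lc_i_rc_39_1 lc_i_Cert_tree) (@D3.rec (fun _ => (Cert rels S Gen.i)) lc_i_rc_33_1 lc_i_Cert_tree lc_i_rc_54_0 lc_i_rc_18_1 lc_i_rc_26_1 lc_i_rc_26_1 lc_i_rc_33_1 lc_i_rc_9_1 lc_i_rc_33_1 lc_i_rc_18_1 lc_i_rc_39_1 lc_i_rc_33_1 lc_i_rc_33_3 lc_i_rc_53_1 lc_i_rc_9_1 lc_i_rc_9_1 lc_i_rc_26_1 lc_i_rc_18_1 lc_i_rc_18_1 lc_i_rc_9_1 lc_i_rc_18_1 lc_i_rc_39_1 lc_i_Cert_tree lc_i_rc_33_1 lc_i_Cert_tree lc_i_rc_54_0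 lc_i_rc_9_1 lc_i_rc_9_1 lc_i_rc_9_1 lc_i_rc_39_3 lc_i_rc_9_1 lc_i_rc_26_1 lc_i_rc_26_1 lc_i_rc_39_3 lc_i_rc_18_1 lc_i_Cert_tree lc_i_rc_18_1 lc_i_Cert_tree lc_i_rc_54_0 lc_i_rc_46_1 lc_i_rc_39_1 lc_i_Cert_tree lc_i_Cert_tree lc_i_rc_54_0 lc_i_Cert_tree lc_i_rc_54_0 lc_i_rc_54_0 lc_i_rc_39_1 lc_i_rc_18_1 lc_i_rc_26_1 lc_i_rc_39_1) (@D3.rec (fun _ => (Cert rels S Gen.i)) lc_i_rc_18_1 lc_i_rc_26_1 lc_i_rc_46_1 lc_i_rc_33_1 lc_i_rc_26_1 lc_i_rc_39_1 lc_i_rc_18_1 lc_i_rc_26_1 lc_i_rc_46_1 lc_i_rc_26_1 lc_i_rc_18_1 lc_i_rc_33_1 lc_i_rc_26_1 lc_i_rc_50_1 lc_i_rc_26_1 lc_i_rc_33_1 lc_i_rc_39_1 lc_i_rc_39_1 lc_i_rc_18_1 lc_i_rc_33_1 lc_i_rc_26_1 lc_i_rc_50_1 lc_i_rc_39_1 lc_i_rc_18_1 lc_i_rc_18_1 lc_i_rc_33_1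 lc_i_Cert_tree lc_i_rc_26_1 lc_i_rc_53_1 lc_i_rc_26_1 lc_i_rc_18_1 lc_i_rc_18_1 lc_i_rc_33_1 lc_i_rc_26_1 lc_i_rc_50_1 lc_i_rc_9_1 lc_i_rc_18_1 lc_i_rc_18_1 lc_i_rc_33_1 lc_i_Cert_tree lc_i_rc_26_1 lc_i_rc_53_1 lc_i_rc_33_1 lc_i_rc_26_1 lc_i_rc_18_1 lc_i_rc_18_1 lc_i_rc_18_1 lc_i_rc_33_1 lc_i_Cert_tree lc_i_rc_26_1 lc_i_rc_53_1) (@D3.rec (fun _ => (Cert rels S Gen.i)) lc_i_rc_9_1 lc_i_rc_26_1 lc_i_rc_26_1 lc_i_rc_18_1 lc_i_Cert_tree lc_i_rc_18_1 lc_i_rc_39_1 lc_i_rc_33_1 lc_i_Cert_tree lc_i_rc_54_0 lc_i_rc_26_1 lc_i_rc_33_1 lc_i_Cert_tree lc_i_rc_26_1 lc_i_rc_18_1 lc_i_rc_26_1 lc_i_rc_18_1 lc_i_Cert_tree lc_i_rc_18_1 lc_i_rc_39_1 lc_i_rc_33_1 lc_i_Cert_tree lc_i_rc_54_0 lc_i_rc_26_1 lc_i_rc_33_1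 lc_i_rc_9_1 lc_i_Cert_tree lc_i_rc_9_1 lc_i_rc_26_1 lc_i_Cert_tree lc_i_rc_18_1 lc_i_rc_18_1 lc_i_Cert_tree lc_i_rc_54_0 lc_i_rc_18_1 lc_i_rc_39_1 lc_i_Cert_tree lc_i_rc_33_1 lc_i_Cert_tree lc_i_rc_54_0 lc_i_rc_9_1 lc_i_rc_18_1 lc_i_rc_18_1 lc_i_rc_33_1 lc_i_Cert_tree lc_i_rc_26_1 lc_i_rc_53_1 lc_i_rc_9_1 lc_i_rc_9_1 lc_i_rc_26_1 lc_i_rc_18_1) (@D3.rec (fun _ => (Cert rels S Gen.i)) lc_i_Cert_tree lc_i_rc_18_1 lc_i_rc_39_1 lc_i_rc_33_1 lc_i_Cert_tree lc_i_rc_54_0 lc_i_rc_26_1 lc_i_rc_9_1 lc_i_rc_9_1 lc_i_rc_26_1 lc_i_rc_18_1 lc_i_Cert_tree lc_i_rc_18_1 lc_i_rc_39_1 lc_i_rc_33_1 lc_i_Cert_tree lc_i_rc_54_0 lc_i_rc_26_1 lc_i_rc_9_1 lc_i_rc_9_1 lc_i_Cert_tree lc_i_rc_9_1 lc_i_rc_26_1 lc_i_Cert_tree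 lc_i_rc_18_1 lc_i_rc_18_1 lc_i_Cert_tree lc_i_rc_54_0 lc_i_rc_18_1 lc_i_rc_39_1 lc_i_Cert_tree lc_i_rc_33_1 lc_i_Cert_tree lc_i_rc_54_0 lc_i_rc_9_1 lc_i_rc_9_1 lc_i_Cert_tree lc_i_rc_9_1 lc_i_rc_26_1 lc_i_Cert_tree lc_i_rc_18_1 lc_i_rc_18_1 lc_i_Cert_tree lc_i_rc_54_0 lc_i_rc_18_1 lc_i_rc_39_1 lc_i_Cert_tree lc_i_rc_33_1 lc_i_Cert_tree lc_i_rc_54_0 lc_i_rc_18_1) (@D3.rec (fun _ => (Cert rels S Gen.i)) lc_i_rc_9_1 lc_i_Cert_tree lc_i_rc_9_1 lc_i_rc_9_1 lc_i_Cert_tree lc_i_rc_54_0 lc_i_rc_9_1 lc_i_rc_26_1 lc_i_rc_26_1 lc_i_Cert_tree lc_i_Cert_tree lc_i_rc_54_0 lc_i_rc_18_1 lc_i_Cert_tree lc_i_rc_18_1 lc_i_Cert_tree lc_i_rc_54_0 lc_i_rc_46_1 lc_i_rc_39_1 lc_i_Cert_tree lc_i_Cert_tree lc_i_rc_54_0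 lc_i_Cert_tree lc_i_rc_54_0 lc_i_rc_9_1 lc_i_rc_9_1 lc_i_rc_9_1 lc_i_rc_26_1 lc_i_rc_26_1 lc_i_rc_18_1 lc_i_rc_9_1 lc_i_rc_18_1 lc_i_rc_9_1 lc_i_rc_46_1 lc_i_rc_39_1 lc_i_Cert_tree lc_i_Cert_tree lc_i_rc_54_0 lc_i_Cert_tree lc_i_rc_54_0 lc_i_rc_9_1 lc_i_rc_9_1 lc_i_rc_9_1 lc_i_rc_33_3 lc_i_rc_9_1 lc_i_rc_39_3 lc_i_rc_33_1 lc_i_rc_26_1 lc_i_rc_33_3 lc_i_rc_26_1 lc_i_rc_39_3) (@D3.rec (fun _ => (Cert rels S Gen.i)) lc_i_rc_18_1 lc_i_rc_18_1 lc_i_Cert_tree lc_i_Cert_tree lc_i_rc_54_0 lc_i_Cert_tree lc_i_rc_54_0 lc_i_rc_46_1 lc_i_Cert_tree lc_i_Cert_tree lc_i_Cert_tree lc_i_rc_54_0 lc_i_Cert_tree lc_i_rc_54_0 lc_i_rc_54_0 lc_i_rc_9_1 lc_i_rc_9_1 lc_i_Cert_tree lc_i_rc_9_1 lc_i_rc_26_1 lc_i_Cert_tree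 lc_i_rc_18_1 lc_i_rc_18_1 lc_i_Cert_tree lc_i_rc_54_0 lc_i_rc_18_1 lc_i_rc_39_1 lc_i_Cert_tree lc_i_rc_33_1 lc_i_Cert_tree lc_i_rc_54_0 lc_i_rc_9_1 lc_i_Cert_tree lc_i_rc_9_1 lc_i_rc_9_1 lc_i_Cert_tree lc_i_rc_54_0 lc_i_rc_9_1 lc_i_rc_26_1 lc_i_rc_26_1 lc_i_Cert_tree lc_i_Cert_tree lc_i_rc_54_0 lc_i_rc_18_1 lc_i_Cert_tree lc_i_rc_18_1 lc_i_Cert_tree lc_i_rc_54_0 lc_i_rc_46_1 lc_i_rc_39_1 lc_i_Cert_tree) (@D3.rec (fun _ => (Cert rels S Gen.i)) lc_i_Cert_tree lc_i_rc_54_0 lc_i_Cert_tree lc_i_rc_54_0 lc_i_rc_9_1 lc_i_rc_9_1 lc_i_Cert_tree lc_i_rc_54_0 lc_i_rc_9_1 lc_i_Cert_tree lc_i_rc_9_1 lc_i_Cert_tree lc_i_rc_54_0 lc_i_rc_26_1 lc_i_Cert_tree lc_i_rc_26_1 lc_i_Cert_tree lc_i_Cert_tree lc_i_rc_54_0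 lc_i_Cert_tree lc_i_rc_54_0 lc_i_rc_18_1 lc_i_rc_18_1 lc_i_Cert_tree lc_i_Cert_tree lc_i_rc_54_0 lc_i_Cert_tree lc_i_rc_54_0 lc_i_rc_46_1 lc_i_Cert_tree lc_i_Cert_tree lc_i_Cert_tree lc_i_rc_54_0 lc_i_Cert_tree lc_i_rc_54_0 lc_i_rc_54_0 lc_i_rc_9_1 lc_i_rc_9_1 lc_i_Cert_tree lc_i_Cert_tree lc_i_rc_54_0 lc_i_Cert_tree lc_i_rc_54_0 lc_i_rc_18_1 lc_i_Cert_tree lc_i_Cert_tree lc_i_Cert_tree lc_i_rc_54_0 lc_i_Cert_tree lc_i_rc_54_0 lc_i_rc_54_0) (@D3.rec (fun _ => (Cert rels S Gen.i)) lc_i_rc_50_1 lc_i_rc_18_3 lc_i_Cert_tree lc_i_rc_54_0 lc_i_rc_46_3 lc_i_rc_54_0 lc_i_rc_39_3 lc_i_rc_54_0 lc_i_Cert_tree lc_i_rc_54_0 lc_i_rc_41_3 lc_i_rc_33_3 lc_i_Cert_tree lc_i_rc_54_0 lc_i_Cert_tree lc_i_rc_41_1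 lc_i_rc_54_0 lc_i_rc_54_0 lc_i_rc_46_1 lc_i_rc_33_1 lc_i_rc_39_1 lc_i_rc_18_1 lc_i_rc_26_1 lc_i_rc_46_1 lc_i_rc_50_1 lc_i_rc_18_1 lc_i_rc_33_1 lc_i_rc_26_1 lc_i_rc_50_1 lc_i_rc_33_1 lc_i_rc_39_1 lc_i_rc_18_1 lc_i_rc_33_1 lc_i_rc_26_1 lc_i_rc_50_1 lc_i_rc_39_1 lc_i_rc_18_1 lc_i_rc_18_1 lc_i_rc_33_1 lc_i_rc_41_1 lc_i_rc_26_1 lc_i_rc_53_1 lc_i_rc_33_1 lc_i_rc_39_1 lc_i_rc_18_1 lc_i_rc_18_1 lc_i_rc_33_1 lc_i_rc_26_1 lc_i_rc_53_1 lc_i_rc_33_1 lc_i_rc_39_1) (@D3.rec (fun _ => (Cert rels S Gen.i)) lc_i_rc_26_1 lc_i_rc_18_1 lc_i_rc_41_1 lc_i_rc_18_1 lc_i_rc_39_1 lc_i_rc_33_1 lc_i_rc_41_1 lc_i_rc_26_1 lc_i_rc_9_1 lc_i_rc_18_1 lc_i_rc_18_1 lc_i_rc_33_1 lc_i_rc_26_1 lc_i_rc_53_1 lc_i_rc_39_1 lc_i_rc_46_1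 lc_i_rc_26_1 lc_i_rc_18_1 lc_i_Cert_tree lc_i_rc_18_1 lc_i_rc_39_1 lc_i_rc_33_1 lc_i_Cert_tree lc_i_rc_54_0 lc_i_rc_26_1 lc_i_rc_9_1 lc_i_rc_26_1 lc_i_rc_18_1 lc_i_rc_18_1 lc_i_rc_39_1 lc_i_rc_33_1 lc_i_rc_26_1 lc_i_rc_39_1 lc_i_rc_46_1 lc_i_rc_41_1 lc_i_rc_46_1 lc_i_rc_26_1 lc_i_rc_39_3 lc_i_rc_18_1 lc_i_rc_18_1 lc_i_Cert_tree lc_i_rc_54_0 lc_i_rc_18_1 lc_i_rc_39_1 lc_i_Cert_tree lc_i_rc_33_1 lc_i_Cert_tree lc_i_rc_54_0 lc_i_rc_26_1 lc_i_rc_18_1 lc_i_rc_18_1) (@D3.rec (fun _ => (Cert rels S Gen.i)) lc_i_rc_18_1 lc_i_rc_39_1 lc_i_rc_33_1 lc_i_rc_18_1 lc_i_rc_9_1 lc_i_rc_41_1 lc_i_rc_39_1 lc_i_rc_50_1 lc_i_rc_41_1 lc_i_rc_39_1 lc_i_rc_26_1 lc_i_rc_26_1 lc_i_rc_18_1 lc_i_rc_33_1 lc_i_rc_18_1 lc_i_Cert_tree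 lc_i_rc_18_1 lc_i_Cert_tree lc_i_rc_54_0 lc_i_rc_46_1 lc_i_rc_39_1 lc_i_Cert_tree lc_i_Cert_tree lc_i_rc_54_0 lc_i_Cert_tree lc_i_rc_54_0 lc_i_rc_9_1 lc_i_rc_9_1 lc_i_rc_26_1 lc_i_rc_18_1 lc_i_rc_41_3 lc_i_rc_18_1 lc_i_rc_39_1 lc_i_rc_33_1 lc_i_Cert_tree lc_i_rc_54_0 lc_i_rc_26_1 lc_i_rc_9_1 lc_i_rc_9_1 lc_i_rc_9_1 lc_i_rc_26_1 lc_i_rc_39_3 lc_i_rc_18_1 lc_i_rc_18_1 lc_i_rc_46_1 lc_i_rc_18_1 lc_i_rc_54_0 lc_i_rc_9_1 lc_i_rc_9_1 lc_i_rc_9_1 lc_i_rc_26_1) (@D3.rec (fun _ => (Cert rels S Gen.i)) lc_i_rc_41_3 lc_i_rc_18_1 lc_i_rc_18_1 lc_i_rc_46_1 lc_i_rc_18_1 lc_i_rc_39_1 lc_i_Cert_tree lc_i_rc_33_1 lc_i_Cert_tree lc_i_rc_54_0 lc_i_rc_9_1 lc_i_rc_9_1 lc_i_rc_9_1 lc_i_rc_9_1 lc_i_rc_26_1 lc_i_rc_26_1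 lc_i_rc_46_1 lc_i_rc_50_1 lc_i_rc_18_1 lc_i_rc_39_1 lc_i_rc_18_1 lc_i_rc_50_1 lc_i_rc_54_0 lc_i_rc_54_0 lc_i_rc_9_1 lc_i_rc_9_1 lc_i_rc_9_1 lc_i_rc_9_1 lc_i_rc_26_1 lc_i_rc_26_1 lc_i_rc_41_3 lc_i_rc_18_1 lc_i_rc_41_3 lc_i_rc_18_1 lc_i_rc_50_1 lc_i_rc_46_1 lc_i_rc_39_1 lc_i_Cert_tree lc_i_Cert_tree lc_i_rc_54_0 lc_i_Cert_tree lc_i_rc_54_0 lc_i_rc_9_1 lc_i_rc_9_1 lc_i_rc_9_1 lc_i_rc_9_1 lc_i_rc_33_1 lc_i_rc_26_1 lc_i_rc_39_1 lc_i_rc_26_1 lc_i_rc_50_1) (@D3.rec (fun _ => (Cert rels S Gen.i)) lc_i_rc_33_1 lc_i_rc_39_1 lc_i_rc_18_1 lc_i_rc_18_1 lc_i_rc_50_1 lc_i_rc_50_3 lc_i_rc_54_0 lc_i_rc_54_0 lc_i_rc_9_1 lc_i_rc_9_1 lc_i_rc_9_1 lc_i_rc_9_1 lc_i_rc_9_1 lc_i_rc_9_1 lc_i_rc_33_1 lc_i_rc_26_1 lc_i_rc_26_1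 lc_i_rc_26_1 lc_i_rc_26_1 lc_i_rc_18_1 lc_i_rc_18_1 lc_i_rc_18_1 lc_i_rc_33_1 lc_i_rc_18_1 lc_i_rc_46_1 lc_i_rc_46_1 lc_i_rc_41_3 lc_i_rc_33_1 lc_i_rc_26_1 lc_i_rc_33_3 lc_i_rc_33_1 lc_i_rc_9_1 lc_i_rc_9_1 lc_i_rc_9_1 lc_i_rc_9_1 lc_i_rc_9_1 lc_i_rc_33_1 lc_i_Cert_tree lc_i_rc_26_1 lc_i_rc_26_1 lc_i_rc_18_1 lc_i_rc_9_1 lc_i_rc_9_1 lc_i_rc_9_1 lc_i_rc_9_1 lc_i_rc_26_1 lc_i_rc_26_1 lc_i_rc_26_1 lc_i_rc_9_1 lc_i_rc_18_1 lc_i_rc_39_1) (@D3.rec (fun _ => (Cert rels S Gen.i)) lc_i_rc_18_1 lc_i_rc_50_1 lc_i_rc_54_0 lc_i_rc_54_0 lc_i_rc_9_1 lc_i_rc_9_1 lc_i_rc_9_1 lc_i_rc_9_1 lc_i_rc_33_1 lc_i_rc_26_1 lc_i_rc_39_1 lc_i_rc_26_1 lc_i_rc_26_1 lc_i_rc_26_3 lc_i_rc_26_3 lc_i_rc_18_1 lc_i_rc_39_1 lc_i_rc_33_1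 lc_i_rc_46_1 lc_i_rc_54_0 lc_i_rc_54_0 lc_i_rc_54_0 lc_i_rc_9_1 lc_i_rc_9_1 lc_i_rc_9_1 lc_i_rc_9_1 lc_i_rc_26_3 lc_i_rc_9_1 lc_i_rc_9_1 lc_i_rc_9_1 lc_i_rc_33_1 lc_i_rc_26_1 lc_i_rc_39_1 lc_i_rc_26_1 lc_i_rc_33_1 lc_i_rc_33_3 lc_i_rc_18_1 lc_i_rc_39_1 lc_i_rc_33_1 lc_i_rc_54_0 lc_i_rc_54_0 lc_i_rc_9_1 lc_i_Cert_tree lc_i_rc_33_1 lc_i_rc_39_1 lc_i_rc_33_3 lc_i_rc_26_1 lc_i_Cert_tree lc_i_rc_54_0 lc_i_rc_41_3 lc_i_rc_33_3)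
def ce_i_3 : D2 → D3 → (Cert rels S Gen.i) := @D2.rec (fun _ => D3 → (Cert rels S Gen.i)) (@D3.rec (fun _ => (Cert rels S Gen.i)) lc_i_rc_50_1 lc_i_rc_33_1 lc_i_rc_18_1 lc_i_Cert_tree lc_i_rc_46_1 lc_i_rc_54_0 lc_i_rc_33_1 lc_i_rc_33_1 lc_i_rc_46_1 lc_i_rc_33_1 lc_i_rc_26_1 lc_i_rc_50_1 lc_i_rc_26_1 lc_i_rc_33_1 lc_i_rc_39_1 lc_i_rc_33_1 lc_i_rc_26_1 lc_i_rc_53_1 lc_i_rc_41_3 lc_i_rc_33_1 lc_i_rc_33_1 lc_i_rc_39_1 lc_i_rc_39_1 lc_i_rc_33_1 lc_i_rc_26_1 lc_i_rc_26_1 lc_i_rc_33_1 lc_i_rc_41_3 lc_i_rc_53_1 lc_i_rc_39_1 lc_i_rc_33_1 lc_i_rc_9_1 lc_i_rc_46_1 lc_i_rc_39_1 lc_i_rc_33_1 lc_i_rc_9_1 lc_i_rc_9_1 lc_i_rc_9_1 lc_i_rc_46_1 lc_i_rc_46_1 lc_i_rc_39_1 lc_i_rc_9_1 lc_i_rc_9_1 lc_i_rc_9_1 lc_i_rc_41_1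 lc_i_rc_9_1 lc_i_rc_41_1 lc_i_rc_9_1 lc_i_rc_9_1 lc_i_rc_18_1 lc_i_rc_18_1) (@D3.rec (fun _ => (Cert rels S Gen.i)) lc_i_rc_18_1 lc_i_rc_26_3 lc_i_rc_9_1 lc_i_rc_33_1 lc_i_rc_9_1 lc_i_rc_9_1 lc_i_rc_9_1 lc_i_rc_18_1 lc_i_rc_18_1 lc_i_rc_46_1 lc_i_rc_39_1 lc_i_rc_9_1 lc_i_rc_9_1 lc_i_rc_18_1 lc_i_rc_18_1 lc_i_rc_9_3 lc_i_rc_18_3 lc_i_rc_18_3 lc_i_rc_18_1 lc_i_rc_18_1 lc_i_rc_9_1 lc_i_rc_9_1 lc_i_rc_9_1 lc_i_rc_9_1 lc_i_rc_9_1 lc_i_rc_9_1 lc_i_rc_9_1 lc_i_rc_9_1 lc_i_rc_9_1 lc_i_rc_9_1 lc_i_rc_33_1 lc_i_rc_26_1 lc_i_rc_26_1 lc_i_rc_26_1 lc_i_rc_26_1 lc_i_rc_33_1 lc_i_rc_18_1 lc_i_rc_18_1 lc_i_rc_33_1 lc_i_rc_26_1 lc_i_rc_18_1 lc_i_rc_18_1 lc_i_rc_18_1 lc_i_rc_9_1 lc_i_rc_9_1 lc_i_rc_9_1 lc_i_rc_33_1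 lc_i_rc_9_1 lc_i_rc_9_1 lc_i_rc_9_1 lc_i_rc_9_1) (@D3.rec (fun _ => (Cert rels S Gen.i)) lc_i_rc_26_1 lc_i_rc_39_1 lc_i_rc_46_1 lc_i_rc_33_1 lc_i_rc_26_1 lc_i_rc_39_1 lc_i_rc_18_1 lc_i_rc_26_1 lc_i_rc_46_1 lc_i_rc_26_1 lc_i_rc_39_1 lc_i_rc_18_1 lc_i_rc_39_1 lc_i_rc_39_1 lc_i_rc_9_1 lc_i_rc_18_1 lc_i_rc_33_1 lc_i_rc_39_1 lc_i_rc_39_1 lc_i_rc_9_1 lc_i_rc_18_1 lc_i_rc_33_1 lc_i_rc_26_1 lc_i_rc_50_1 lc_i_rc_9_1 lc_i_rc_18_1 lc_i_rc_18_1 lc_i_rc_33_1 lc_i_Cert_tree lc_i_rc_26_1 lc_i_rc_53_1 lc_i_rc_9_1 lc_i_rc_9_1 lc_i_rc_26_1 lc_i_rc_18_1 lc_i_Cert_tree lc_i_rc_18_1 lc_i_rc_39_1 lc_i_rc_33_1 lc_i_Cert_tree lc_i_rc_54_0 lc_i_rc_26_1 lc_i_rc_26_1 lc_i_rc_39_1 lc_i_rc_18_1 lc_i_rc_26_1 lc_i_rc_46_1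 lc_i_rc_18_1 lc_i_rc_26_1 lc_i_rc_46_1 lc_i_rc_33_1) (@D3.rec (fun _ => (Cert rels S Gen.i)) lc_i_rc_18_1 lc_i_rc_33_1 lc_i_rc_26_1 lc_i_rc_50_1 lc_i_rc_18_1 lc_i_rc_33_1 lc_i_rc_26_1 lc_i_rc_50_1 lc_i_rc_39_1 lc_i_rc_18_1 lc_i_rc_18_1 lc_i_rc_33_1 lc_i_Cert_tree lc_i_rc_26_1 lc_i_rc_53_1 lc_i_rc_18_1 lc_i_rc_33_1 lc_i_rc_26_1 lc_i_rc_50_1 lc_i_rc_33_3 lc_i_rc_18_1 lc_i_rc_18_1 lc_i_rc_33_1 lc_i_Cert_tree lc_i_rc_26_1 lc_i_rc_53_1 lc_i_rc_18_1 lc_i_rc_18_1 lc_i_rc_33_1 lc_i_Cert_tree lc_i_rc_26_1 lc_i_rc_53_1 lc_i_rc_26_3 lc_i_rc_33_3 lc_i_rc_26_1 lc_i_rc_18_1 lc_i_Cert_tree lc_i_rc_18_1 lc_i_rc_39_1 lc_i_rc_33_1 lc_i_Cert_tree lc_i_rc_54_0 lc_i_rc_26_1 lc_i_rc_26_1 lc_i_rc_18_1 lc_i_Cert_tree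 lc_i_rc_18_1 lc_i_rc_39_1 lc_i_rc_33_1 lc_i_Cert_tree lc_i_rc_54_0) (@D3.rec (fun _ => (Cert rels S Gen.i)) lc_i_rc_26_1 lc_i_rc_39_1 lc_i_rc_26_3 lc_i_Cert_tree lc_i_rc_33_3 lc_i_rc_26_1 lc_i_Cert_tree lc_i_rc_18_1 lc_i_rc_18_1 lc_i_Cert_tree lc_i_rc_54_0 lc_i_rc_18_1 lc_i_rc_39_1 lc_i_Cert_tree lc_i_rc_33_1 lc_i_Cert_tree lc_i_rc_54_0 lc_i_rc_9_1 lc_i_rc_18_1 lc_i_rc_33_1 lc_i_rc_46_1 lc_i_rc_50_1 lc_i_rc_9_1 lc_i_rc_18_1 lc_i_rc_18_1 lc_i_rc_33_1 lc_i_Cert_tree lc_i_rc_26_1 lc_i_rc_53_1 lc_i_rc_9_1 lc_i_rc_9_1 lc_i_rc_26_1 lc_i_rc_18_1 lc_i_Cert_tree lc_i_rc_18_1 lc_i_rc_39_1 lc_i_rc_33_1 lc_i_Cert_tree lc_i_rc_54_0 lc_i_rc_26_1 lc_i_rc_9_1 lc_i_rc_33_1 lc_i_rc_18_1 lc_i_rc_33_1 lc_i_Cert_tree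 lc_i_rc_50_1 lc_i_rc_53_1 lc_i_rc_9_1 lc_i_rc_9_1 lc_i_rc_26_1 lc_i_rc_18_1) (@D3.rec (fun _ => (Cert rels S Gen.i)) lc_i_Cert_tree lc_i_rc_18_1 lc_i_rc_39_1 lc_i_rc_33_1 lc_i_Cert_tree lc_i_rc_54_0 lc_i_rc_26_1 lc_i_rc_9_1 lc_i_rc_9_1 lc_i_Cert_tree lc_i_rc_9_1 lc_i_rc_26_1 lc_i_Cert_tree lc_i_rc_18_1 lc_i_rc_18_1 lc_i_Cert_tree lc_i_rc_54_0 lc_i_rc_18_1 lc_i_rc_39_1 lc_i_Cert_tree lc_i_rc_33_1 lc_i_Cert_tree lc_i_rc_54_0 lc_i_rc_9_1 lc_i_rc_9_1 lc_i_rc_26_1 lc_i_rc_33_1 lc_i_Cert_tree lc_i_rc_18_1 lc_i_rc_39_1 lc_i_rc_33_1 lc_i_Cert_tree lc_i_rc_54_0 lc_i_rc_53_1 lc_i_rc_9_1 lc_i_rc_9_1 lc_i_Cert_tree lc_i_rc_9_1 lc_i_rc_26_1 lc_i_Cert_tree lc_i_rc_18_1 lc_i_rc_18_1 lc_i_Cert_tree lc_i_rc_54_0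 lc_i_rc_18_1 lc_i_rc_39_1 lc_i_Cert_tree lc_i_rc_33_1 lc_i_Cert_tree lc_i_rc_54_0 lc_i_rc_18_1) (@D3.rec (fun _ => (Cert rels S Gen.i)) lc_i_rc_9_1 lc_i_Cert_tree lc_i_rc_9_1 lc_i_rc_9_1 lc_i_Cert_tree lc_i_rc_54_0 lc_i_rc_9_1 lc_i_rc_26_1 lc_i_rc_26_1 lc_i_Cert_tree lc_i_Cert_tree lc_i_rc_54_0 lc_i_rc_18_1 lc_i_Cert_tree lc_i_rc_18_1 lc_i_Cert_tree lc_i_rc_54_0 lc_i_rc_46_1 lc_i_rc_39_1 lc_i_Cert_tree lc_i_Cert_tree lc_i_rc_54_0 lc_i_Cert_tree lc_i_rc_54_0 lc_i_rc_18_1 lc_i_rc_26_1 lc_i_rc_26_1 lc_i_rc_26_1 lc_i_rc_9_1 lc_i_rc_39_1 lc_i_rc_33_1 lc_i_rc_18_1 lc_i_rc_39_1 lc_i_rc_33_3 lc_i_rc_33_1 lc_i_rc_33_3 lc_i_rc_9_1 lc_i_rc_9_1 lc_i_rc_9_1 lc_i_rc_26_1 lc_i_rc_26_1 lc_i_rc_18_1 lc_i_rc_9_1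 lc_i_rc_18_1 lc_i_rc_9_1 lc_i_rc_46_1 lc_i_rc_39_1 lc_i_Cert_tree lc_i_Cert_tree lc_i_rc_54_0 lc_i_Cert_tree) (@D3.rec (fun _ => (Cert rels S Gen.i)) lc_i_rc_54_0 lc_i_rc_9_1 lc_i_rc_9_1 lc_i_rc_9_1 lc_i_rc_33_3 lc_i_rc_9_1 lc_i_rc_39_3 lc_i_rc_33_1 lc_i_rc_26_1 lc_i_rc_33_3 lc_i_rc_26_1 lc_i_rc_39_3 lc_i_rc_18_1 lc_i_rc_18_1 lc_i_Cert_tree lc_i_Cert_tree lc_i_rc_54_0 lc_i_Cert_tree lc_i_rc_54_0 lc_i_rc_46_1 lc_i_Cert_tree lc_i_Cert_tree lc_i_Cert_tree lc_i_rc_54_0 lc_i_Cert_tree lc_i_rc_54_0 lc_i_rc_54_0 lc_i_rc_46_1 lc_i_rc_33_1 lc_i_rc_26_1 lc_i_rc_39_1 lc_i_rc_18_1 lc_i_rc_26_1 lc_i_rc_46_1 lc_i_rc_26_1 lc_i_rc_18_1 lc_i_rc_33_1 lc_i_rc_26_1 lc_i_rc_50_1 lc_i_rc_26_1 lc_i_rc_33_1 lc_i_rc_39_1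 lc_i_rc_39_1 lc_i_rc_18_1 lc_i_rc_33_1 lc_i_rc_26_1 lc_i_rc_50_1 lc_i_rc_39_1 lc_i_rc_18_1 lc_i_rc_18_1 lc_i_rc_33_1) (@D3.rec (fun _ => (Cert rels S Gen.i)) lc_i_Cert_tree lc_i_rc_26_1 lc_i_rc_53_1 lc_i_rc_26_1 lc_i_rc_33_1 lc_i_rc_33_1 lc_i_rc_39_1 lc_i_rc_39_1 lc_i_rc_18_1 lc_i_rc_18_1 lc_i_rc_33_1 lc_i_Cert_tree lc_i_rc_26_1 lc_i_rc_53_1 lc_i_rc_33_1 lc_i_rc_39_1 lc_i_rc_26_1 lc_i_rc_18_1 lc_i_Cert_tree lc_i_rc_18_1 lc_i_rc_39_1 lc_i_rc_33_1 lc_i_Cert_tree lc_i_rc_54_0 lc_i_rc_26_1 lc_i_rc_33_1 lc_i_rc_26_1 lc_i_rc_18_1 lc_i_rc_18_1 lc_i_rc_18_1 lc_i_rc_33_1 lc_i_Cert_tree lc_i_rc_26_1 lc_i_rc_53_1 lc_i_rc_9_1 lc_i_rc_26_1 lc_i_rc_26_1 lc_i_rc_18_1 lc_i_Cert_tree lc_i_rc_18_1 lc_i_rc_39_1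 lc_i_rc_33_1 lc_i_Cert_tree lc_i_rc_54_0 lc_i_rc_26_1 lc_i_rc_33_1 lc_i_Cert_tree lc_i_rc_26_1 lc_i_rc_18_1 lc_i_rc_26_1 lc_i_rc_18_1) (@D3.rec (fun _ => (Cert rels S Gen.i)) lc_i_Cert_tree lc_i_rc_18_1 lc_i_rc_39_1 lc_i_rc_33_1 lc_i_Cert_tree lc_i_rc_54_0 lc_i_rc_26_1 lc_i_rc_33_1 lc_i_rc_26_3 lc_i_Cert_tree lc_i_rc_26_1 lc_i_rc_26_1 lc_i_Cert_tree lc_i_rc_18_1 lc_i_rc_18_1 lc_i_Cert_tree lc_i_rc_54_0 lc_i_rc_18_1 lc_i_rc_39_1 lc_i_Cert_tree lc_i_rc_33_1 lc_i_Cert_tree lc_i_rc_54_0 lc_i_rc_39_1 lc_i_rc_33_1 lc_i_Cert_tree lc_i_rc_54_0 lc_i_rc_26_1 lc_i_rc_26_1 lc_i_Cert_tree lc_i_rc_18_1 lc_i_rc_18_1 lc_i_Cert_tree lc_i_rc_54_0 lc_i_rc_18_1 lc_i_rc_39_1 lc_i_Cert_tree lc_i_rc_33_1 lc_i_Cert_tree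 lc_i_rc_54_0 lc_i_rc_33_1 lc_i_rc_33_1 lc_i_Cert_tree lc_i_rc_9_1 lc_i_rc_9_1 lc_i_Cert_tree lc_i_rc_54_0 lc_i_rc_18_1 lc_i_rc_26_1 lc_i_rc_26_1 lc_i_Cert_tree) (@D3.rec (fun _ => (Cert rels S Gen.i)) lc_i_Cert_tree lc_i_rc_54_0 lc_i_rc_18_1 lc_i_Cert_tree lc_i_rc_18_1 lc_i_Cert_tree lc_i_rc_54_0 lc_i_rc_46_1 lc_i_rc_39_1 lc_i_Cert_tree lc_i_Cert_tree lc_i_rc_54_0 lc_i_Cert_tree lc_i_rc_54_0 lc_i_rc_9_1 lc_i_rc_9_1 lc_i_rc_26_1 lc_i_rc_18_1 lc_i_Cert_tree lc_i_rc_18_1 lc_i_rc_39_1 lc_i_rc_33_1 lc_i_Cert_tree lc_i_rc_54_0 lc_i_rc_26_1 lc_i_rc_9_1 lc_i_rc_9_1 lc_i_Cert_tree lc_i_rc_9_1 lc_i_rc_26_1 lc_i_Cert_tree lc_i_rc_18_1 lc_i_rc_18_1 lc_i_Cert_tree lc_i_rc_54_0 lc_i_rc_18_1 lc_i_rc_39_1 lc_i_Cert_tree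 lc_i_rc_33_1 lc_i_Cert_tree lc_i_rc_54_0 lc_i_rc_9_1 lc_i_rc_9_1 lc_i_Cert_tree lc_i_rc_9_1 lc_i_rc_26_1 lc_i_Cert_tree lc_i_rc_18_1 lc_i_rc_18_1 lc_i_Cert_tree lc_i_rc_54_0) (@D3.rec (fun _ => (Cert rels S Gen.i)) lc_i_rc_18_1 lc_i_rc_39_1 lc_i_Cert_tree lc_i_rc_33_1 lc_i_Cert_tree lc_i_rc_54_0 lc_i_rc_18_1 lc_i_rc_9_1 lc_i_Cert_tree lc_i_rc_9_1 lc_i_rc_9_1 lc_i_Cert_tree lc_i_rc_54_0 lc_i_rc_9_1 lc_i_rc_26_1 lc_i_rc_26_1 lc_i_Cert_tree lc_i_Cert_tree lc_i_rc_54_0 lc_i_rc_18_1 lc_i_Cert_tree lc_i_rc_18_1 lc_i_Cert_tree lc_i_rc_54_0 lc_i_rc_46_1 lc_i_rc_39_1 lc_i_Cert_tree lc_i_Cert_tree lc_i_rc_54_0 lc_i_Cert_tree lc_i_rc_54_0 lc_i_rc_18_1 lc_i_rc_9_1 lc_i_Cert_tree lc_i_rc_9_1 lc_i_rc_9_1 lc_i_Cert_tree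 lc_i_rc_54_0 lc_i_rc_9_1 lc_i_rc_26_1 lc_i_rc_26_1 lc_i_Cert_tree lc_i_Cert_tree lc_i_rc_54_0 lc_i_rc_18_1 lc_i_Cert_tree lc_i_rc_18_1 lc_i_Cert_tree lc_i_rc_54_0 lc_i_rc_46_1 lc_i_rc_39_1) (@D3.rec (fun _ => (Cert rels S Gen.i)) lc_i_Cert_tree lc_i_Cert_tree lc_i_rc_54_0 lc_i_Cert_tree lc_i_rc_54_0 lc_i_rc_18_1 lc_i_rc_9_1 lc_i_rc_9_1 lc_i_Cert_tree lc_i_rc_54_0 lc_i_rc_9_1 lc_i_Cert_tree lc_i_rc_9_1 lc_i_Cert_tree lc_i_rc_54_0 lc_i_rc_33_1 lc_i_rc_26_1 lc_i_Cert_tree lc_i_rc_26_1 lc_i_Cert_tree lc_i_Cert_tree lc_i_rc_54_0 lc_i_Cert_tree lc_i_rc_54_0 lc_i_rc_18_1 lc_i_rc_18_1 lc_i_Cert_tree lc_i_Cert_tree lc_i_rc_54_0 lc_i_Cert_tree lc_i_rc_54_0 lc_i_rc_46_1 lc_i_Cert_tree lc_i_Cert_tree lc_i_Cert_tree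 lc_i_rc_54_0 lc_i_Cert_tree lc_i_rc_54_0 lc_i_rc_54_0 lc_i_rc_9_1 lc_i_rc_9_1 lc_i_rc_33_1 lc_i_rc_26_1 lc_i_rc_26_1 lc_i_rc_18_1 lc_i_rc_18_1 lc_i_rc_9_1 lc_i_rc_9_1 lc_i_rc_9_1 lc_i_rc_46_1 lc_i_Cert_tree) (@D3.rec (fun _ => (Cert rels S Gen.i)) lc_i_Cert_tree lc_i_Cert_tree lc_i_rc_54_0 lc_i_Cert_tree lc_i_rc_54_0 lc_i_rc_54_0 lc_i_rc_9_1 lc_i_rc_9_1 lc_i_rc_9_1 lc_i_rc_9_1 lc_i_rc_9_1 lc_i_rc_33_3 lc_i_rc_26_3 lc_i_rc_53_1 lc_i_rc_33_1 lc_i_Cert_tree lc_i_rc_26_1 lc_i_rc_26_1 lc_i_rc_33_3 lc_i_rc_26_3 lc_i_rc_53_1 lc_i_rc_18_1 lc_i_Cert_tree lc_i_Cert_tree lc_i_Cert_tree lc_i_rc_54_0 lc_i_Cert_tree lc_i_rc_54_0 lc_i_rc_54_0 lc_i_rc_50_1 lc_i_Cert_tree lc_i_Cert_tree lc_i_rc_54_0 lc_i_Cert_tree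 lc_i_rc_54_0 lc_i_Cert_tree lc_i_rc_54_0 lc_i_Cert_tree lc_i_rc_54_0 lc_i_rc_41_3 lc_i_rc_9_1 lc_i_Cert_tree lc_i_rc_9_1 lc_i_rc_9_1 lc_i_Cert_tree lc_i_rc_54_0 lc_i_rc_9_1 lc_i_rc_26_1 lc_i_rc_26_1 lc_i_Cert_tree lc_i_Cert_tree) (@D3.rec (fun _ => (Cert rels S Gen.i)) lc_i_rc_54_0 lc_i_rc_18_1 lc_i_Cert_tree lc_i_rc_18_1 lc_i_Cert_tree lc_i_rc_54_0 lc_i_rc_46_1 lc_i_rc_39_1 lc_i_Cert_tree lc_i_Cert_tree lc_i_rc_54_0 lc_i_Cert_tree lc_i_rc_54_0 lc_i_rc_9_1 lc_i_rc_9_1 lc_i_Cert_tree lc_i_rc_54_0 lc_i_rc_9_1 lc_i_Cert_tree lc_i_rc_9_1 lc_i_Cert_tree lc_i_rc_54_0 lc_i_rc_33_1 lc_i_rc_26_1 lc_i_Cert_tree lc_i_rc_26_1 lc_i_Cert_tree lc_i_Cert_tree lc_i_rc_54_0 lc_i_Cert_tree lc_i_rc_54_0 lc_i_rc_18_1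 lc_i_rc_18_1 lc_i_Cert_tree lc_i_Cert_tree lc_i_rc_54_0 lc_i_Cert_tree lc_i_rc_54_0 lc_i_rc_46_1 lc_i_Cert_tree lc_i_Cert_tree lc_i_Cert_tree lc_i_rc_54_0 lc_i_Cert_tree lc_i_rc_54_0 lc_i_rc_54_0 lc_i_rc_9_1 lc_i_Cert_tree lc_i_rc_9_1 lc_i_Cert_tree lc_i_rc_54_0) (@D3.rec (fun _ => (Cert rels S Gen.i)) lc_i_rc_9_1 lc_i_rc_9_1 lc_i_Cert_tree lc_i_Cert_tree lc_i_rc_54_0 lc_i_Cert_tree lc_i_rc_54_0 lc_i_rc_26_1 lc_i_rc_26_1 lc_i_Cert_tree lc_i_Cert_tree lc_i_rc_54_0 lc_i_Cert_tree lc_i_Cert_tree lc_i_rc_54_0 lc_i_Cert_tree lc_i_rc_54_0 lc_i_Cert_tree lc_i_rc_54_0 lc_i_rc_18_1 lc_i_Cert_tree lc_i_Cert_tree lc_i_Cert_tree lc_i_rc_54_0 lc_i_Cert_tree lc_i_rc_54_0 lc_i_rc_54_0 lc_i_rc_50_1 lc_i_Cert_tree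 lc_i_Cert_tree lc_i_rc_54_0 lc_i_Cert_tree lc_i_rc_54_0 lc_i_Cert_tree lc_i_rc_54_0 lc_i_Cert_tree lc_i_rc_54_0 lc_i_rc_41_3 lc_i_rc_9_1 lc_i_Cert_tree lc_i_Cert_tree lc_i_Cert_tree lc_i_rc_54_0 lc_i_Cert_tree lc_i_rc_54_0 lc_i_rc_54_0 lc_i_rc_18_1 lc_i_rc_33_3 lc_i_Cert_tree lc_i_rc_54_0 lc_i_Cert_tree) (@D3.rec (fun _ => (Cert rels S Gen.i)) lc_i_rc_54_0 lc_i_Cert_tree lc_i_rc_54_0 lc_i_Cert_tree lc_i_rc_54_0 lc_i_rc_18_1 lc_i_rc_39_1 lc_i_rc_46_1 lc_i_rc_46_3 lc_i_rc_54_0 lc_i_rc_26_3 lc_i_rc_41_3 lc_i_Cert_tree lc_i_rc_54_0 lc_i_rc_26_1 lc_i_rc_33_3 lc_i_rc_54_0 lc_i_Cert_tree lc_i_rc_46_1 lc_i_rc_54_0 lc_i_rc_33_1 lc_i_rc_33_1 lc_i_rc_46_1 lc_i_rc_18_1 lc_i_rc_33_1 lc_i_rc_26_1 lc_i_rc_50_1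 lc_i_rc_39_1 lc_i_rc_18_1 lc_i_rc_18_1 lc_i_rc_33_1 lc_i_rc_39_1 lc_i_rc_18_1 lc_i_rc_18_1 lc_i_rc_33_1 lc_i_rc_26_1 lc_i_rc_53_1 lc_i_rc_33_1 lc_i_rc_39_1 lc_i_rc_26_1 lc_i_rc_18_1 lc_i_rc_41_1 lc_i_rc_18_1 lc_i_rc_33_1 lc_i_rc_39_1 lc_i_rc_26_1 lc_i_rc_18_1 lc_i_rc_18_1 lc_i_rc_39_1 lc_i_rc_33_1 lc_i_rc_26_1) (@D3.rec (fun _ => (Cert rels S Gen.i)) lc_i_rc_26_1 lc_i_rc_33_1 lc_i_rc_41_3 lc_i_rc_39_1 lc_i_rc_26_1 lc_i_rc_9_3 lc_i_rc_18_1 lc_i_rc_18_1 lc_i_rc_41_1 lc_i_rc_18_1 lc_i_rc_9_1 lc_i_rc_26_1 lc_i_rc_18_1 lc_i_rc_18_1 lc_i_rc_39_1 lc_i_rc_33_1 lc_i_rc_26_1 lc_i_rc_9_1 lc_i_rc_46_1 lc_i_rc_41_1 lc_i_rc_50_1 lc_i_rc_26_1 lc_i_rc_18_1 lc_i_rc_18_1 lc_i_rc_18_1 lc_i_Cert_tree lc_i_rc_54_0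 lc_i_rc_39_1 lc_i_rc_54_0 lc_i_rc_26_1 lc_i_rc_18_1 lc_i_rc_18_1 lc_i_rc_18_1 lc_i_rc_39_1 lc_i_rc_33_1 lc_i_rc_18_1 lc_i_rc_46_1 lc_i_rc_41_1 lc_i_rc_39_1 lc_i_rc_46_1 lc_i_rc_46_1 lc_i_rc_46_1 lc_i_rc_26_1 lc_i_rc_26_1 lc_i_rc_46_1 lc_i_rc_33_1 lc_i_rc_18_1 lc_i_Cert_tree lc_i_rc_18_1 lc_i_Cert_tree lc_i_rc_54_0) (@D3.rec (fun _ => (Cert rels S Gen.i)) lc_i_rc_54_0 lc_i_rc_54_0 lc_i_rc_26_1 lc_i_rc_26_1 lc_i_rc_18_1 lc_i_rc_18_1 lc_i_rc_46_1 lc_i_rc_39_1 lc_i_rc_18_1 lc_i_rc_39_1 lc_i_rc_9_1 lc_i_rc_41_1 lc_i_rc_39_1 lc_i_rc_41_1 lc_i_rc_26_3 lc_i_rc_41_1 lc_i_rc_33_1 lc_i_rc_26_1 lc_i_rc_39_1 lc_i_rc_26_1 lc_i_rc_18_1 lc_i_rc_33_1 lc_i_rc_39_1 lc_i_rc_18_1 lc_i_rc_18_1 lc_i_Cert_tree lc_i_Cert_tree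 lc_i_rc_54_0 lc_i_Cert_tree lc_i_rc_54_0 lc_i_rc_54_0 lc_i_rc_54_0 lc_i_rc_54_0 lc_i_rc_9_1 lc_i_rc_9_1 lc_i_rc_9_1 lc_i_rc_26_1 lc_i_rc_41_3 lc_i_rc_18_1 lc_i_rc_18_1 lc_i_rc_46_1 lc_i_rc_18_1 lc_i_rc_9_1 lc_i_rc_26_1 lc_i_rc_54_0 lc_i_rc_9_1 lc_i_rc_9_1 lc_i_rc_9_1 lc_i_rc_9_1 lc_i_rc_26_1 lc_i_rc_26_1) (@D3.rec (fun _ => (Cert rels S Gen.i)) lc_i_rc_46_1 lc_i_rc_33_1 lc_i_rc_9_1 lc_i_rc_9_1 lc_i_rc_9_1 lc_i_rc_9_1 lc_i_rc_26_1 lc_i_rc_26_1 lc_i_rc_46_1 lc_i_rc_18_1 lc_i_rc_39_1 lc_i_rc_18_1 lc_i_rc_46_1 lc_i_rc_39_3 lc_i_rc_33_3 lc_i_rc_54_0 lc_i_rc_46_3 lc_i_rc_54_0 lc_i_rc_9_1 lc_i_rc_9_1 lc_i_rc_9_1 lc_i_rc_9_1 lc_i_rc_33_1 lc_i_rc_26_1 lc_i_rc_39_1 lc_i_rc_26_1 lc_i_rc_46_1 lc_i_rc_46_1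 lc_i_rc_39_1 lc_i_rc_9_1 lc_i_rc_9_1 lc_i_rc_9_1 lc_i_rc_9_1 lc_i_rc_33_1 lc_i_rc_26_1 lc_i_rc_41_3 lc_i_rc_26_1 lc_i_rc_41_3 lc_i_rc_18_1 lc_i_rc_18_1 lc_i_rc_41_3 lc_i_rc_33_1 lc_i_rc_41_3 lc_i_rc_18_3 lc_i_rc_18_3 lc_i_rc_33_3 lc_i_rc_54_0 lc_i_rc_54_0 lc_i_rc_54_0 lc_i_rc_9_1 lc_i_rc_9_1) (@D3.rec (fun _ => (Cert rels S Gen.i)) lc_i_rc_9_1 lc_i_rc_9_1 lc_i_rc_9_1 lc_i_rc_33_1 lc_i_Cert_tree lc_i_rc_26_1 lc_i_rc_26_1 lc_i_rc_39_1 lc_i_rc_9_1 lc_i_rc_9_1 lc_i_rc_33_1 lc_i_rc_39_1 lc_i_rc_46_1 lc_i_rc_9_1 lc_i_rc_9_1 lc_i_rc_9_1 lc_i_rc_9_1 lc_i_rc_9_1 lc_i_rc_9_1 lc_i_rc_9_1 lc_i_rc_9_1 lc_i_rc_33_1 lc_i_Cert_tree lc_i_rc_26_1 lc_i_rc_26_1 lc_i_rc_26_1 lc_i_rc_33_1 lc_i_rc_26_1 lc_i_rc_18_1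 lc_i_rc_18_1 lc_i_rc_18_1 lc_i_rc_33_1 lc_i_rc_26_1 lc_i_rc_46_1 lc_i_rc_33_1 lc_i_rc_33_1 lc_i_rc_26_1 lc_i_rc_18_1 lc_i_rc_18_1 lc_i_rc_33_3 lc_i_rc_33_1 lc_i_rc_9_1 lc_i_Cert_tree lc_i_rc_9_1 lc_i_rc_9_1 lc_i_rc_33_1 lc_i_rc_33_1 lc_i_rc_33_1 lc_i_Cert_tree lc_i_rc_54_0 lc_i_rc_26_1) (@D3.rec (fun _ => (Cert rels S Gen.i)) lc_i_rc_9_1 lc_i_rc_9_1 lc_i_rc_9_1 lc_i_rc_9_1 lc_i_rc_33_1 lc_i_rc_26_1 lc_i_rc_39_1 lc_i_rc_26_1 lc_i_rc_26_1 lc_i_rc_26_3 lc_i_rc_26_3 lc_i_rc_9_1 lc_i_rc_9_1 lc_i_rc_9_1 lc_i_rc_9_1 lc_i_rc_33_1 lc_i_Cert_tree lc_i_rc_26_1 lc_i_rc_39_1 lc_i_rc_33_1 lc_i_rc_26_1 lc_i_rc_26_3 lc_i_rc_39_1 lc_i_rc_26_3 lc_i_rc_26_1 lc_i_rc_41_3 lc_i_rc_9_1 lc_i_rc_9_1 lc_i_rc_9_1 lc_i_rc_26_3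 lc_i_rc_9_1 lc_i_rc_9_1 lc_i_rc_9_1 lc_i_rc_33_1 lc_i_Cert_tree lc_i_rc_26_1 lc_i_rc_39_1 lc_i_rc_33_1 lc_i_rc_33_1 lc_i_rc_39_1 lc_i_rc_33_3 lc_i_rc_26_1 lc_i_rc_41_3 lc_i_Cert_tree lc_i_Cert_tree lc_i_rc_54_0 lc_i_rc_26_1 lc_i_rc_33_1 lc_i_rc_39_1 lc_i_rc_33_3 lc_i_rc_18_1) (@D3.rec (fun _ => (Cert rels S Gen.i)) lc_i_rc_54_0 lc_i_rc_26_1 lc_i_rc_33_3 lc_i_rc_26_1 lc_i_rc_26_1 lc_i_rc_39_1 lc_i_rc_18_1 lc_i_rc_39_1 lc_i_rc_54_0 lc_i_rc_39_1 lc_i_rc_33_1 lc_i_rc_46_1 lc_i_rc_33_1 lc_i_rc_33_1 lc_i_rc_39_1 lc_i_rc_39_1 lc_i_rc_33_1 lc_i_rc_9_3 lc_i_rc_18_1 lc_i_rc_18_1 lc_i_rc_18_1 lc_i_rc_9_1 lc_i_rc_9_1 lc_i_rc_9_1 lc_i_rc_9_1 lc_i_rc_9_1 lc_i_rc_26_1 lc_i_rc_26_1 lc_i_rc_33_1 lc_i_rc_26_1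 lc_i_rc_18_1 lc_i_rc_18_1 lc_i_rc_18_1 lc_i_rc_26_1 lc_i_rc_46_1 lc_i_rc_26_1 lc_i_rc_39_1 lc_i_rc_18_1 lc_i_rc_26_1 lc_i_rc_46_1 lc_i_rc_9_1 lc_i_rc_18_1 lc_i_rc_33_1 lc_i_rc_26_1 lc_i_rc_50_1 lc_i_rc_18_1 lc_i_rc_39_1 lc_i_rc_46_1 lc_i_rc_9_1 lc_i_rc_18_1 lc_i_rc_33_1) (@D3.rec (fun _ => (Cert rels S Gen.i)) lc_i_rc_39_1 lc_i_rc_39_1 lc_i_rc_9_1 lc_i_rc_33_1 lc_i_rc_18_1 lc_i_rc_33_1 lc_i_rc_18_1 lc_i_rc_39_1 lc_i_rc_39_1 lc_i_rc_9_1 lc_i_rc_18_1 lc_i_rc_18_1 lc_i_rc_33_1 lc_i_Cert_tree lc_i_rc_26_1 lc_i_rc_53_1 lc_i_rc_9_1 lc_i_rc_9_1 lc_i_rc_26_1 lc_i_rc_18_1 lc_i_Cert_tree lc_i_rc_18_1 lc_i_rc_39_1 lc_i_rc_33_1 lc_i_Cert_tree lc_i_rc_54_0 lc_i_rc_26_1 lc_i_rc_9_1 lc_i_rc_9_1 lc_i_Cert_tree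 lc_i_rc_9_1 lc_i_rc_26_1 lc_i_Cert_tree lc_i_rc_18_1 lc_i_rc_18_1 lc_i_Cert_tree lc_i_rc_54_0 lc_i_rc_18_1 lc_i_rc_39_1 lc_i_Cert_tree lc_i_rc_33_1 lc_i_Cert_tree lc_i_rc_54_0 lc_i_rc_18_1 lc_i_rc_26_1 lc_i_rc_46_1 lc_i_rc_33_1 lc_i_rc_18_1 lc_i_rc_33_1 lc_i_rc_26_1 lc_i_rc_50_1) (@D3.rec (fun _ => (Cert rels S Gen.i)) lc_i_rc_18_1 lc_i_rc_33_1 lc_i_rc_26_1 lc_i_rc_50_1 lc_i_rc_39_1 lc_i_rc_18_1 lc_i_rc_18_1 lc_i_rc_33_1 lc_i_Cert_tree lc_i_rc_26_1 lc_i_rc_53_1 lc_i_rc_18_1 lc_i_rc_18_1 lc_i_rc_33_1 lc_i_Cert_tree lc_i_rc_26_1 lc_i_rc_53_1 lc_i_rc_33_1 lc_i_rc_39_1 lc_i_rc_26_1 lc_i_rc_18_1 lc_i_rc_26_1 lc_i_rc_18_1 lc_i_rc_39_1 lc_i_rc_33_1 lc_i_Cert_tree lc_i_rc_54_0 lc_i_rc_26_1 lc_i_rc_18_1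 lc_i_rc_18_1 lc_i_rc_33_1 lc_i_Cert_tree lc_i_rc_26_1 lc_i_rc_53_1 lc_i_rc_26_3 lc_i_rc_33_3 lc_i_rc_26_1 lc_i_rc_18_1 lc_i_Cert_tree lc_i_rc_18_1 lc_i_rc_39_1 lc_i_rc_33_1 lc_i_Cert_tree lc_i_rc_54_0 lc_i_rc_26_1 lc_i_rc_26_1 lc_i_rc_18_1 lc_i_Cert_tree lc_i_rc_18_1 lc_i_rc_39_1 lc_i_rc_33_1) (@D3.rec (fun _ => (Cert rels S Gen.i)) lc_i_Cert_tree lc_i_rc_54_0 lc_i_rc_26_1 lc_i_rc_50_1 lc_i_rc_26_3 lc_i_Cert_tree lc_i_rc_33_3 lc_i_rc_26_1 lc_i_Cert_tree lc_i_rc_18_1 lc_i_rc_18_1 lc_i_Cert_tree lc_i_rc_54_0 lc_i_rc_18_1 lc_i_rc_39_1 lc_i_Cert_tree lc_i_rc_33_1 lc_i_Cert_tree lc_i_rc_54_0 lc_i_rc_26_1 lc_i_Cert_tree lc_i_rc_18_1 lc_i_rc_18_1 lc_i_Cert_tree lc_i_rc_54_0 lc_i_rc_18_1 lc_i_rc_39_1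 lc_i_Cert_tree lc_i_rc_33_1 lc_i_Cert_tree lc_i_rc_54_0 lc_i_rc_39_1 lc_i_rc_46_1 lc_i_Cert_tree lc_i_rc_9_1 lc_i_rc_26_3 lc_i_Cert_tree lc_i_rc_54_0 lc_i_rc_33_3 lc_i_rc_26_1 lc_i_rc_26_1 lc_i_Cert_tree lc_i_Cert_tree lc_i_rc_54_0 lc_i_rc_18_1 lc_i_Cert_tree lc_i_rc_18_1 lc_i_Cert_tree lc_i_rc_54_0 lc_i_rc_46_1 lc_i_rc_39_1) (@D3.rec (fun _ => (Cert rels S Gen.i)) lc_i_Cert_tree lc_i_Cert_tree lc_i_rc_54_0 lc_i_Cert_tree lc_i_rc_54_0 lc_i_rc_9_1 lc_i_rc_33_1 lc_i_rc_18_1 lc_i_rc_33_1 lc_i_Cert_tree lc_i_rc_50_1 lc_i_rc_53_1 lc_i_rc_9_1 lc_i_rc_9_1 lc_i_rc_26_1 lc_i_rc_18_1 lc_i_Cert_tree lc_i_rc_18_1 lc_i_rc_39_1 lc_i_rc_33_1 lc_i_Cert_tree lc_i_rc_54_0 lc_i_rc_26_1 lc_i_rc_9_1 lc_i_rc_9_1 lc_i_Cert_tree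 lc_i_rc_9_1 lc_i_rc_26_1 lc_i_Cert_tree lc_i_rc_18_1 lc_i_rc_18_1 lc_i_Cert_tree lc_i_rc_54_0 lc_i_rc_18_1 lc_i_rc_39_1 lc_i_Cert_tree lc_i_rc_33_1 lc_i_Cert_tree lc_i_rc_54_0 lc_i_rc_9_1 lc_i_rc_9_1 lc_i_rc_26_1 lc_i_rc_33_1 lc_i_Cert_tree lc_i_rc_18_1 lc_i_rc_39_1 lc_i_rc_33_1 lc_i_Cert_tree lc_i_rc_54_0 lc_i_rc_53_1 lc_i_rc_9_1)
def ce_i_4 : D2 → D3 → (Cert rels S Gen.i) := @D2.rec (fun _ => D3 → (Cert rels S Gen.i)) (@D3.rec (fun _ => (Cert rels S Gen.i)) lc_i_rc_9_1 lc_i_Cert_tree lc_i_rc_9_1 lc_i_rc_26_1 lc_i_Cert_tree lc_i_rc_18_1 lc_i_rc_18_1 lc_i_Cert_tree lc_i_rc_54_0 lc_i_rc_18_1 lc_i_rc_39_1 lc_i_Cert_tree lc_i_rc_33_1 lc_i_Cert_tree lc_i_rc_54_0 lc_i_rc_18_1 lc_i_rc_9_1 lc_i_Cert_tree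 lc_i_rc_9_1 lc_i_rc_9_1 lc_i_Cert_tree lc_i_rc_54_0 lc_i_rc_9_1 lc_i_rc_26_1 lc_i_rc_26_1 lc_i_Cert_tree lc_i_Cert_tree lc_i_rc_54_0 lc_i_rc_18_1 lc_i_Cert_tree lc_i_rc_18_1 lc_i_Cert_tree lc_i_rc_54_0 lc_i_rc_46_1 lc_i_rc_39_1 lc_i_Cert_tree lc_i_Cert_tree lc_i_rc_54_0 lc_i_Cert_tree lc_i_rc_54_0 lc_i_rc_26_1 lc_i_rc_9_1 lc_i_Cert_tree lc_i_rc_9_1 lc_i_rc_26_1 lc_i_Cert_tree lc_i_rc_39_1 lc_i_rc_33_1 lc_i_Cert_tree lc_i_rc_54_0 lc_i_rc_18_1) (@D3.rec (fun _ => (Cert rels S Gen.i)) lc_i_rc_39_1 lc_i_Cert_tree lc_i_rc_33_1 lc_i_Cert_tree lc_i_rc_54_0 lc_i_rc_18_1 lc_i_rc_9_1 lc_i_Cert_tree lc_i_rc_9_1 lc_i_rc_9_1 lc_i_Cert_tree lc_i_rc_54_0 lc_i_rc_9_1 lc_i_rc_26_1 lc_i_rc_26_1 lc_i_Cert_tree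 lc_i_Cert_tree lc_i_rc_54_0 lc_i_rc_18_1 lc_i_Cert_tree lc_i_rc_18_1 lc_i_Cert_tree lc_i_rc_54_0 lc_i_rc_46_1 lc_i_rc_39_1 lc_i_Cert_tree lc_i_Cert_tree lc_i_rc_54_0 lc_i_Cert_tree lc_i_rc_54_0 lc_i_rc_18_1 lc_i_Cert_tree lc_i_rc_9_1 lc_i_rc_9_1 lc_i_Cert_tree lc_i_Cert_tree lc_i_rc_54_0 lc_i_rc_9_1 lc_i_Cert_tree lc_i_rc_9_1 lc_i_Cert_tree lc_i_rc_54_0 lc_i_rc_33_1 lc_i_rc_26_1 lc_i_Cert_tree lc_i_rc_26_1 lc_i_Cert_tree lc_i_Cert_tree lc_i_rc_54_0 lc_i_Cert_tree lc_i_rc_54_0) (@D3.rec (fun _ => (Cert rels S Gen.i)) lc_i_rc_18_1 lc_i_rc_18_1 lc_i_Cert_tree lc_i_Cert_tree lc_i_rc_54_0 lc_i_Cert_tree lc_i_rc_54_0 lc_i_rc_46_1 lc_i_Cert_tree lc_i_Cert_tree lc_i_Cert_tree lc_i_rc_54_0 lc_i_Cert_tree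 lc_i_rc_54_0 lc_i_rc_54_0 lc_i_rc_18_1 lc_i_rc_26_1 lc_i_rc_26_1 lc_i_rc_9_1 lc_i_rc_39_1 lc_i_rc_33_1 lc_i_rc_46_1 lc_i_rc_39_1 lc_i_rc_33_3 lc_i_rc_18_1 lc_i_rc_33_3 lc_i_rc_9_1 lc_i_rc_9_1 lc_i_rc_33_1 lc_i_rc_26_1 lc_i_rc_26_1 lc_i_rc_18_1 lc_i_rc_18_1 lc_i_rc_9_1 lc_i_rc_9_1 lc_i_rc_9_1 lc_i_rc_46_1 lc_i_Cert_tree lc_i_Cert_tree lc_i_Cert_tree lc_i_rc_54_0 lc_i_Cert_tree lc_i_rc_54_0 lc_i_rc_54_0 lc_i_rc_9_1 lc_i_rc_9_1 lc_i_rc_9_1 lc_i_rc_9_1 lc_i_rc_9_1 lc_i_rc_33_3 lc_i_rc_26_3) (@D3.rec (fun _ => (Cert rels S Gen.i)) lc_i_rc_53_1 lc_i_rc_33_1 lc_i_Cert_tree lc_i_rc_26_1 lc_i_rc_26_1 lc_i_rc_33_3 lc_i_rc_26_3 lc_i_rc_53_1 lc_i_rc_18_1 lc_i_Cert_tree lc_i_Cert_tree lc_i_Cert_tree lc_i_rc_54_0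 lc_i_Cert_tree lc_i_rc_54_0 lc_i_rc_54_0 lc_i_rc_50_1 lc_i_Cert_tree lc_i_Cert_tree lc_i_rc_54_0 lc_i_Cert_tree lc_i_rc_54_0 lc_i_Cert_tree lc_i_rc_54_0 lc_i_Cert_tree lc_i_rc_54_0 lc_i_rc_41_3 lc_i_rc_33_1 lc_i_rc_26_1 lc_i_rc_33_1 lc_i_rc_39_1 lc_i_rc_46_1 lc_i_rc_18_1 lc_i_rc_33_1 lc_i_rc_26_1 lc_i_rc_50_1 lc_i_rc_39_1 lc_i_rc_18_1 lc_i_rc_18_1 lc_i_rc_33_1 lc_i_rc_39_1 lc_i_rc_26_1 lc_i_rc_26_1 lc_i_rc_33_1 lc_i_rc_33_1 lc_i_rc_39_1 lc_i_rc_39_1 lc_i_rc_18_1 lc_i_rc_18_1 lc_i_rc_33_1 lc_i_Cert_tree) (@D3.rec (fun _ => (Cert rels S Gen.i)) lc_i_rc_26_1 lc_i_rc_53_1 lc_i_rc_33_1 lc_i_rc_39_1 lc_i_rc_26_1 lc_i_rc_18_1 lc_i_Cert_tree lc_i_rc_18_1 lc_i_rc_39_1 lc_i_rc_50_1 lc_i_Cert_tree lc_i_rc_54_0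 lc_i_rc_50_3 lc_i_rc_26_1 lc_i_rc_26_1 lc_i_rc_33_1 lc_i_rc_33_1 lc_i_Cert_tree lc_i_rc_39_1 lc_i_rc_39_1 lc_i_rc_26_1 lc_i_rc_18_1 lc_i_Cert_tree lc_i_rc_18_1 lc_i_rc_39_1 lc_i_rc_33_1 lc_i_Cert_tree lc_i_rc_54_0 lc_i_rc_26_1 lc_i_rc_33_1 lc_i_rc_39_1 lc_i_rc_26_1 lc_i_rc_18_1 lc_i_rc_18_1 lc_i_Cert_tree lc_i_rc_54_0 lc_i_rc_18_1 lc_i_rc_39_1 lc_i_Cert_tree lc_i_rc_53_1 lc_i_Cert_tree lc_i_rc_54_0 lc_i_rc_33_1 lc_i_Cert_tree lc_i_rc_26_1 lc_i_rc_18_1 lc_i_rc_26_1 lc_i_rc_18_1 lc_i_Cert_tree lc_i_rc_18_1 lc_i_rc_39_1) (@D3.rec (fun _ => (Cert rels S Gen.i)) lc_i_rc_33_1 lc_i_Cert_tree lc_i_rc_54_0 lc_i_rc_26_1 lc_i_rc_50_1 lc_i_rc_26_3 lc_i_Cert_tree lc_i_rc_26_1 lc_i_rc_26_1 lc_i_Cert_tree lc_i_rc_18_1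 lc_i_rc_18_1 lc_i_Cert_tree lc_i_rc_54_0 lc_i_rc_18_1 lc_i_rc_39_1 lc_i_Cert_tree lc_i_rc_33_1 lc_i_Cert_tree lc_i_rc_54_0 lc_i_rc_39_1 lc_i_rc_33_1 lc_i_Cert_tree lc_i_rc_54_0 lc_i_rc_26_1 lc_i_rc_26_1 lc_i_Cert_tree lc_i_rc_18_1 lc_i_rc_18_1 lc_i_Cert_tree lc_i_rc_54_0 lc_i_rc_18_1 lc_i_rc_39_1 lc_i_Cert_tree lc_i_rc_33_1 lc_i_Cert_tree lc_i_rc_54_0 lc_i_rc_50_1 lc_i_rc_54_0 lc_i_Cert_tree lc_i_rc_39_1 lc_i_rc_26_3 lc_i_Cert_tree lc_i_rc_54_0 lc_i_rc_26_1 lc_i_rc_26_1 lc_i_rc_26_1 lc_i_Cert_tree lc_i_Cert_tree lc_i_rc_54_0 lc_i_rc_18_1) (@D3.rec (fun _ => (Cert rels S Gen.i)) lc_i_Cert_tree lc_i_rc_18_1 lc_i_Cert_tree lc_i_rc_54_0 lc_i_rc_46_1 lc_i_rc_39_1 lc_i_Cert_tree lc_i_Cert_tree lc_i_rc_54_0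 lc_i_Cert_tree lc_i_rc_54_0 lc_i_rc_39_1 lc_i_Cert_tree lc_i_rc_33_1 lc_i_Cert_tree lc_i_rc_54_0 lc_i_rc_26_1 lc_i_rc_26_1 lc_i_Cert_tree lc_i_rc_54_0 lc_i_rc_18_1 lc_i_Cert_tree lc_i_rc_18_1 lc_i_Cert_tree lc_i_rc_54_0 lc_i_rc_46_1 lc_i_rc_39_1 lc_i_Cert_tree lc_i_Cert_tree lc_i_rc_54_0 lc_i_Cert_tree lc_i_rc_54_0 lc_i_rc_33_1 lc_i_Cert_tree lc_i_rc_39_1 lc_i_rc_50_1 lc_i_Cert_tree lc_i_Cert_tree lc_i_rc_54_0 lc_i_rc_9_1 lc_i_Cert_tree lc_i_rc_9_1 lc_i_Cert_tree lc_i_rc_54_0 lc_i_rc_33_1 lc_i_rc_26_1 lc_i_Cert_tree lc_i_rc_26_1 lc_i_Cert_tree lc_i_Cert_tree lc_i_rc_54_0) (@D3.rec (fun _ => (Cert rels S Gen.i)) lc_i_Cert_tree lc_i_rc_54_0 lc_i_rc_18_1 lc_i_rc_18_1 lc_i_Cert_tree lc_i_Cert_tree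 lc_i_rc_54_0 lc_i_Cert_tree lc_i_rc_54_0 lc_i_rc_46_1 lc_i_Cert_tree lc_i_Cert_tree lc_i_Cert_tree lc_i_rc_54_0 lc_i_Cert_tree lc_i_rc_54_0 lc_i_rc_54_0 lc_i_rc_9_1 lc_i_rc_9_1 lc_i_Cert_tree lc_i_rc_9_1 lc_i_rc_26_1 lc_i_Cert_tree lc_i_rc_18_1 lc_i_rc_18_1 lc_i_Cert_tree lc_i_rc_54_0 lc_i_rc_18_1 lc_i_rc_39_1 lc_i_Cert_tree lc_i_rc_33_1 lc_i_Cert_tree lc_i_rc_54_0 lc_i_rc_18_1 lc_i_rc_9_1 lc_i_Cert_tree lc_i_rc_9_1 lc_i_rc_9_1 lc_i_Cert_tree lc_i_rc_54_0 lc_i_rc_9_1 lc_i_rc_26_1 lc_i_rc_26_1 lc_i_Cert_tree lc_i_Cert_tree lc_i_rc_54_0 lc_i_rc_18_1 lc_i_Cert_tree lc_i_rc_18_1 lc_i_Cert_tree lc_i_rc_54_0) (@D3.rec (fun _ => (Cert rels S Gen.i)) lc_i_rc_46_1 lc_i_rc_39_1 lc_i_Cert_tree lc_i_Cert_tree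 lc_i_rc_54_0 lc_i_Cert_tree lc_i_rc_54_0 lc_i_rc_18_1 lc_i_rc_9_1 lc_i_Cert_tree lc_i_rc_9_1 lc_i_rc_9_1 lc_i_Cert_tree lc_i_rc_54_0 lc_i_rc_9_1 lc_i_rc_26_1 lc_i_rc_26_1 lc_i_Cert_tree lc_i_Cert_tree lc_i_rc_54_0 lc_i_rc_18_1 lc_i_Cert_tree lc_i_rc_18_1 lc_i_Cert_tree lc_i_rc_54_0 lc_i_rc_46_1 lc_i_rc_39_1 lc_i_Cert_tree lc_i_Cert_tree lc_i_rc_54_0 lc_i_Cert_tree lc_i_rc_54_0 lc_i_rc_18_1 lc_i_rc_9_1 lc_i_rc_9_1 lc_i_Cert_tree lc_i_rc_54_0 lc_i_rc_9_1 lc_i_Cert_tree lc_i_rc_9_1 lc_i_Cert_tree lc_i_rc_54_0 lc_i_rc_33_1 lc_i_rc_26_1 lc_i_Cert_tree lc_i_rc_26_1 lc_i_Cert_tree lc_i_Cert_tree lc_i_rc_54_0 lc_i_Cert_tree lc_i_rc_54_0) (@D3.rec (fun _ => (Cert rels S Gen.i)) lc_i_rc_18_1 lc_i_rc_18_1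 lc_i_Cert_tree lc_i_Cert_tree lc_i_rc_54_0 lc_i_Cert_tree lc_i_rc_54_0 lc_i_rc_46_1 lc_i_Cert_tree lc_i_Cert_tree lc_i_Cert_tree lc_i_rc_54_0 lc_i_Cert_tree lc_i_rc_54_0 lc_i_rc_54_0 lc_i_rc_18_1 lc_i_rc_9_1 lc_i_rc_9_1 lc_i_Cert_tree lc_i_rc_54_0 lc_i_rc_9_1 lc_i_Cert_tree lc_i_rc_9_1 lc_i_Cert_tree lc_i_rc_54_0 lc_i_rc_33_1 lc_i_rc_26_1 lc_i_Cert_tree lc_i_rc_26_1 lc_i_Cert_tree lc_i_Cert_tree lc_i_rc_54_0 lc_i_rc_54_0 lc_i_rc_18_1 lc_i_rc_18_1 lc_i_Cert_tree lc_i_Cert_tree lc_i_rc_54_0 lc_i_Cert_tree lc_i_rc_54_0 lc_i_rc_46_1 lc_i_Cert_tree lc_i_Cert_tree lc_i_Cert_tree lc_i_rc_54_0 lc_i_Cert_tree lc_i_rc_54_0 lc_i_rc_54_0 lc_i_rc_18_1 lc_i_rc_18_1 lc_i_rc_9_1) (@D3.rec (fun _ => (Cert rels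 S Gen.i)) lc_i_rc_9_1 lc_i_Cert_tree lc_i_rc_9_1 lc_i_Cert_tree lc_i_rc_54_0 lc_i_rc_9_1 lc_i_rc_9_1 lc_i_Cert_tree lc_i_Cert_tree lc_i_rc_54_0 lc_i_Cert_tree lc_i_rc_54_0 lc_i_rc_33_1 lc_i_Cert_tree lc_i_rc_26_1 lc_i_rc_26_1 lc_i_Cert_tree lc_i_Cert_tree lc_i_rc_54_0 lc_i_Cert_tree lc_i_Cert_tree lc_i_rc_54_0 lc_i_Cert_tree lc_i_rc_54_0 lc_i_Cert_tree lc_i_rc_54_0 lc_i_rc_18_1 lc_i_Cert_tree lc_i_Cert_tree lc_i_Cert_tree lc_i_rc_54_0 lc_i_Cert_tree lc_i_rc_54_0 lc_i_rc_54_0 lc_i_rc_50_1 lc_i_Cert_tree lc_i_Cert_tree lc_i_rc_54_0 lc_i_Cert_tree lc_i_rc_54_0 lc_i_Cert_tree lc_i_rc_54_0 lc_i_Cert_tree lc_i_rc_54_0 lc_i_rc_41_3 lc_i_rc_9_1 lc_i_rc_9_1 lc_i_rc_33_1 lc_i_Cert_tree lc_i_rc_26_1 lc_i_rc_26_1)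 (@D3.rec (fun _ => (Cert rels S Gen.i)) lc_i_rc_18_1 lc_i_rc_9_1 lc_i_rc_9_1 lc_i_rc_9_1 lc_i_rc_9_1 lc_i_rc_50_1 lc_i_Cert_tree lc_i_Cert_tree lc_i_rc_54_0 lc_i_Cert_tree lc_i_rc_54_0 lc_i_Cert_tree lc_i_rc_54_0 lc_i_Cert_tree lc_i_rc_54_0 lc_i_rc_41_3 lc_i_rc_9_1 lc_i_Cert_tree lc_i_rc_9_1 lc_i_rc_9_1 lc_i_rc_9_1 lc_i_rc_46_1 lc_i_rc_53_1 lc_i_rc_26_3 lc_i_rc_18_3 lc_i_rc_33_1 lc_i_rc_33_1 lc_i_Cert_tree lc_i_Cert_tree lc_i_rc_54_0 lc_i_rc_26_1 lc_i_rc_46_1 lc_i_rc_53_1 lc_i_rc_26_3 lc_i_rc_18_3 lc_i_rc_18_1 lc_i_Cert_tree lc_i_Cert_tree lc_i_rc_54_0 lc_i_Cert_tree lc_i_rc_54_0 lc_i_Cert_tree lc_i_rc_54_0 lc_i_Cert_tree lc_i_rc_54_0 lc_i_rc_18_1 lc_i_Cert_tree lc_i_Cert_tree lc_i_rc_54_0 lc_i_rc_26_3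 lc_i_rc_26_1) (@D3.rec (fun _ => (Cert rels S Gen.i)) lc_i_rc_54_0 lc_i_rc_46_1 lc_i_rc_54_0 lc_i_Cert_tree lc_i_rc_54_0 lc_i_rc_41_3 lc_i_Cert_tree lc_i_rc_54_0 lc_i_rc_26_1 lc_i_rc_9_1 lc_i_rc_9_1 lc_i_Cert_tree lc_i_rc_54_0 lc_i_rc_9_1 lc_i_Cert_tree lc_i_rc_9_1 lc_i_Cert_tree lc_i_rc_54_0 lc_i_rc_33_1 lc_i_rc_26_1 lc_i_Cert_tree lc_i_rc_26_1 lc_i_Cert_tree lc_i_Cert_tree lc_i_rc_54_0 lc_i_Cert_tree lc_i_rc_54_0 lc_i_rc_18_1 lc_i_rc_18_1 lc_i_Cert_tree lc_i_Cert_tree lc_i_rc_54_0 lc_i_Cert_tree lc_i_rc_54_0 lc_i_rc_46_1 lc_i_Cert_tree lc_i_Cert_tree lc_i_Cert_tree lc_i_rc_54_0 lc_i_Cert_tree lc_i_rc_54_0 lc_i_rc_54_0 lc_i_rc_9_1 lc_i_rc_9_1 lc_i_Cert_tree lc_i_rc_9_1 lc_i_Cert_tree lc_i_rc_54_0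 lc_i_rc_9_1 lc_i_rc_9_1 lc_i_Cert_tree) (@D3.rec (fun _ => (Cert rels S Gen.i)) lc_i_Cert_tree lc_i_rc_54_0 lc_i_Cert_tree lc_i_rc_54_0 lc_i_rc_33_1 lc_i_Cert_tree lc_i_rc_26_1 lc_i_rc_26_1 lc_i_Cert_tree lc_i_Cert_tree lc_i_rc_54_0 lc_i_Cert_tree lc_i_Cert_tree lc_i_rc_54_0 lc_i_Cert_tree lc_i_rc_54_0 lc_i_Cert_tree lc_i_rc_54_0 lc_i_rc_18_1 lc_i_Cert_tree lc_i_Cert_tree lc_i_Cert_tree lc_i_rc_54_0 lc_i_Cert_tree lc_i_rc_54_0 lc_i_rc_54_0 lc_i_rc_50_1 lc_i_Cert_tree lc_i_Cert_tree lc_i_rc_54_0 lc_i_Cert_tree lc_i_rc_54_0 lc_i_Cert_tree lc_i_rc_54_0 lc_i_Cert_tree lc_i_rc_54_0 lc_i_rc_41_3 lc_i_rc_9_1 lc_i_rc_9_1 lc_i_Cert_tree lc_i_Cert_tree lc_i_rc_54_0 lc_i_Cert_tree lc_i_rc_54_0 lc_i_rc_9_1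 lc_i_Cert_tree lc_i_Cert_tree lc_i_Cert_tree lc_i_rc_54_0 lc_i_Cert_tree lc_i_rc_54_0) (@D3.rec (fun _ => (Cert rels S Gen.i)) lc_i_rc_54_0 lc_i_rc_26_1 lc_i_Cert_tree lc_i_Cert_tree lc_i_Cert_tree lc_i_rc_54_0 lc_i_Cert_tree lc_i_Cert_tree lc_i_rc_54_0 lc_i_Cert_tree lc_i_rc_54_0 lc_i_Cert_tree lc_i_rc_54_0 lc_i_Cert_tree lc_i_rc_54_0 lc_i_Cert_tree lc_i_rc_54_0 lc_i_rc_18_1 lc_i_Cert_tree lc_i_Cert_tree lc_i_rc_54_0 lc_i_Cert_tree lc_i_rc_54_0 lc_i_Cert_tree lc_i_rc_54_0 lc_i_Cert_tree lc_i_rc_54_0 lc_i_rc_18_1 lc_i_Cert_tree lc_i_Cert_tree lc_i_rc_54_0 lc_i_Cert_tree lc_i_Cert_tree lc_i_rc_54_0 lc_i_rc_39_3 lc_i_rc_54_0 lc_i_Cert_tree lc_i_rc_54_0 lc_i_rc_41_3 lc_i_Cert_tree lc_i_rc_54_0 lc_i_rc_26_1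 lc_i_rc_9_1 lc_i_rc_33_3 lc_i_Cert_tree lc_i_rc_54_0 lc_i_Cert_tree lc_i_rc_54_0 lc_i_Cert_tree lc_i_rc_54_0 lc_i_Cert_tree) (@D3.rec (fun _ => (Cert rels S Gen.i)) lc_i_rc_54_0 lc_i_rc_9_1 lc_i_rc_26_3 lc_i_Cert_tree lc_i_rc_26_3 lc_i_rc_54_0 lc_i_rc_46_3 lc_i_rc_54_0 lc_i_rc_39_3 lc_i_rc_54_0 lc_i_rc_18_1 lc_i_Cert_tree lc_i_rc_54_0 lc_i_rc_26_1 lc_i_rc_26_3 lc_i_rc_54_0 lc_i_rc_18_1 lc_i_rc_39_1 lc_i_rc_54_0 lc_i_rc_39_1 lc_i_rc_33_1 lc_i_rc_46_1 lc_i_rc_18_1 lc_i_rc_18_1 lc_i_rc_9_1 lc_i_rc_33_1 lc_i_rc_39_1 lc_i_rc_26_1 lc_i_rc_18_1 lc_i_rc_18_1 lc_i_rc_26_1 lc_i_rc_41_3 lc_i_rc_50_1 lc_i_rc_9_3 lc_i_rc_33_1 lc_i_rc_26_1 lc_i_rc_18_1 lc_i_rc_18_1 lc_i_rc_18_1 lc_i_rc_26_1 lc_i_rc_39_1 lc_i_rc_41_3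 lc_i_rc_39_1 lc_i_rc_53_1 lc_i_rc_26_1 lc_i_rc_26_1 lc_i_rc_18_1 lc_i_rc_18_1 lc_i_rc_39_1 lc_i_rc_46_1 lc_i_rc_41_1) (@D3.rec (fun _ => (Cert rels S Gen.i)) lc_i_rc_46_1 lc_i_rc_26_1 lc_i_rc_26_1 lc_i_rc_46_1 lc_i_rc_50_3 lc_i_rc_54_0 lc_i_rc_26_1 lc_i_rc_26_1 lc_i_rc_18_1 lc_i_rc_18_1 lc_i_rc_46_1 lc_i_rc_39_1 lc_i_rc_50_1 lc_i_rc_46_1 lc_i_rc_39_1 lc_i_rc_50_1 lc_i_rc_33_1 lc_i_rc_26_1 lc_i_rc_39_1 lc_i_rc_26_1 lc_i_rc_50_1 lc_i_rc_54_1 lc_i_rc_50_1 lc_i_rc_54_0 lc_i_rc_54_0 lc_i_rc_33_1 lc_i_rc_26_1 lc_i_rc_26_1 lc_i_rc_18_1 lc_i_rc_18_1 lc_i_rc_39_1 lc_i_rc_50_1 lc_i_rc_9_1 lc_i_rc_50_1 lc_i_rc_41_1 lc_i_rc_50_1 lc_i_rc_50_1 lc_i_rc_50_1 lc_i_rc_33_1 lc_i_rc_50_1 lc_i_rc_33_1 lc_i_Cert_tree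 lc_i_rc_26_1 lc_i_rc_26_1 lc_i_rc_50_1 lc_i_rc_18_1 lc_i_rc_50_3 lc_i_rc_50_1 lc_i_rc_39_1 lc_i_rc_46_1 lc_i_rc_54_0) (@D3.rec (fun _ => (Cert rels S Gen.i)) lc_i_Cert_tree lc_i_rc_54_0 lc_i_rc_54_0 lc_i_rc_9_1 lc_i_rc_9_1 lc_i_rc_9_1 lc_i_rc_9_1 lc_i_rc_26_1 lc_i_rc_26_1 lc_i_rc_46_1 lc_i_rc_9_1 lc_i_rc_9_1 lc_i_rc_33_1 lc_i_rc_54_1 lc_i_rc_50_3 lc_i_rc_9_1 lc_i_rc_9_1 lc_i_rc_9_1 lc_i_rc_9_1 lc_i_rc_33_1 lc_i_rc_26_1 lc_i_rc_39_1 lc_i_rc_26_1 lc_i_rc_50_1 lc_i_rc_9_1 lc_i_rc_9_1 lc_i_rc_9_1 lc_i_rc_33_1 lc_i_Cert_tree lc_i_rc_33_1 lc_i_rc_54_1 lc_i_rc_39_1 lc_i_rc_54_1 lc_i_rc_9_1 lc_i_rc_9_1 lc_i_rc_9_1 lc_i_rc_9_1 lc_i_rc_9_1 lc_i_rc_33_1 lc_i_Cert_tree lc_i_rc_26_1 lc_i_rc_26_1 lc_i_rc_50_1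 lc_i_rc_33_1 lc_i_rc_50_3 lc_i_rc_33_1 lc_i_rc_9_1 lc_i_rc_9_1 lc_i_Cert_tree lc_i_rc_9_1 lc_i_rc_9_1) (@D3.rec (fun _ => (Cert rels S Gen.i)) lc_i_rc_33_1 lc_i_rc_33_1 lc_i_Cert_tree lc_i_Cert_tree lc_i_rc_54_0 lc_i_rc_9_1 lc_i_rc_9_1 lc_i_rc_50_3 lc_i_rc_50_1 lc_i_rc_46_1 lc_i_rc_50_1 lc_i_rc_9_1 lc_i_Cert_tree lc_i_rc_9_1 lc_i_rc_9_1 lc_i_rc_9_1 lc_i_rc_9_1 lc_i_rc_9_1 lc_i_rc_26_1 lc_i_rc_33_1 lc_i_rc_33_1 lc_i_Cert_tree lc_i_Cert_tree lc_i_rc_54_0 lc_i_rc_26_1 lc_i_rc_26_1 lc_i_rc_26_1 lc_i_rc_33_1 lc_i_rc_26_1 lc_i_rc_26_1 lc_i_rc_18_1 lc_i_rc_26_1 lc_i_rc_26_1 lc_i_rc_18_1 lc_i_rc_26_1 lc_i_rc_18_1 lc_i_Cert_tree lc_i_rc_33_3 lc_i_rc_33_3 lc_i_rc_9_1 lc_i_rc_9_1 lc_i_Cert_tree lc_i_rc_54_0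 lc_i_rc_9_1 lc_i_rc_39_1 lc_i_rc_33_1 lc_i_Cert_tree lc_i_Cert_tree lc_i_rc_54_0 lc_i_rc_9_1 lc_i_rc_9_1) (@D3.rec (fun _ => (Cert rels S Gen.i)) lc_i_rc_9_1 lc_i_rc_33_1 lc_i_Cert_tree lc_i_rc_33_1 lc_i_rc_33_1 lc_i_rc_39_1 lc_i_rc_26_3 lc_i_rc_9_1 lc_i_Cert_tree lc_i_rc_9_1 lc_i_rc_33_1 lc_i_Cert_tree lc_i_Cert_tree lc_i_rc_54_0 lc_i_rc_33_1 lc_i_rc_26_1 lc_i_rc_33_1 lc_i_rc_33_1 lc_i_rc_39_1 lc_i_rc_39_1 lc_i_rc_26_3 lc_i_rc_9_1 lc_i_rc_26_3 lc_i_rc_9_1 lc_i_rc_26_3 lc_i_rc_9_1 lc_i_Cert_tree lc_i_rc_9_1 lc_i_rc_33_1 lc_i_Cert_tree lc_i_Cert_tree lc_i_rc_54_0 lc_i_rc_33_1 lc_i_rc_26_1 lc_i_rc_33_1 lc_i_rc_39_1 lc_i_rc_39_1 lc_i_rc_33_3 lc_i_rc_54_0 lc_i_rc_41_1 lc_i_rc_41_3 lc_i_rc_54_0 lc_i_rc_33_1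 lc_i_rc_39_1 lc_i_rc_33_3 lc_i_rc_26_1 lc_i_rc_26_1 lc_i_rc_33_1 lc_i_rc_39_1 lc_i_rc_33_1 lc_i_rc_39_1) (@D3.rec (fun _ => (Cert rels S Gen.i)) lc_i_rc_33_1 lc_i_rc_39_1 lc_i_rc_33_1 lc_i_rc_46_1 lc_i_rc_26_1 lc_i_rc_18_1 lc_i_rc_18_1 lc_i_rc_18_1 lc_i_rc_33_3 lc_i_rc_33_1 lc_i_rc_26_1 lc_i_rc_39_1 lc_i_rc_18_1 lc_i_rc_26_1 lc_i_rc_46_1 lc_i_rc_9_1 lc_i_rc_18_1 lc_i_rc_33_1 lc_i_rc_26_1 lc_i_rc_50_1 lc_i_rc_18_1 lc_i_rc_33_1 lc_i_rc_26_1 lc_i_rc_53_1 lc_i_rc_9_1 lc_i_rc_18_1 lc_i_rc_33_1 lc_i_rc_46_1 lc_i_rc_46_1 lc_i_rc_9_1 lc_i_rc_33_1 lc_i_rc_18_1 lc_i_rc_33_1 lc_i_rc_26_1 lc_i_rc_39_1 lc_i_rc_39_1 lc_i_rc_9_1 lc_i_rc_33_1 lc_i_rc_18_1 lc_i_rc_33_1 lc_i_rc_33_1 lc_i_rc_50_1 lc_i_rc_39_1 lc_i_rc_9_1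 lc_i_rc_9_1 lc_i_rc_26_1 lc_i_rc_18_1 lc_i_Cert_tree lc_i_rc_18_1 lc_i_rc_39_1 lc_i_rc_33_1) (@D3.rec (fun _ => (Cert rels S Gen.i)) lc_i_Cert_tree lc_i_rc_54_0 lc_i_rc_26_1 lc_i_rc_9_1 lc_i_rc_9_1 lc_i_Cert_tree lc_i_rc_9_1 lc_i_rc_26_1 lc_i_Cert_tree lc_i_rc_18_1 lc_i_rc_18_1 lc_i_Cert_tree lc_i_rc_54_0 lc_i_rc_18_1 lc_i_rc_39_1 lc_i_Cert_tree lc_i_rc_33_1 lc_i_Cert_tree lc_i_rc_54_0 lc_i_rc_18_1 lc_i_rc_9_1 lc_i_Cert_tree lc_i_rc_9_1 lc_i_rc_9_1 lc_i_Cert_tree lc_i_rc_54_0 lc_i_rc_9_1 lc_i_rc_26_1 lc_i_rc_26_1 lc_i_Cert_tree lc_i_Cert_tree lc_i_rc_54_0 lc_i_rc_18_1 lc_i_Cert_tree lc_i_rc_18_1 lc_i_Cert_tree lc_i_rc_54_0 lc_i_rc_46_1 lc_i_rc_39_1 lc_i_Cert_tree lc_i_Cert_tree lc_i_rc_54_0 lc_i_Cert_tree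 lc_i_rc_54_0 lc_i_rc_18_1 lc_i_rc_33_1 lc_i_rc_26_1 lc_i_rc_50_1 lc_i_rc_39_1 lc_i_rc_18_1 lc_i_rc_18_1) (@D3.rec (fun _ => (Cert rels S Gen.i)) lc_i_rc_33_1 lc_i_rc_33_1 lc_i_rc_26_1 lc_i_rc_53_1 lc_i_rc_18_1 lc_i_rc_18_1 lc_i_rc_33_1 lc_i_Cert_tree lc_i_rc_26_1 lc_i_rc_53_1 lc_i_rc_33_1 lc_i_rc_39_1 lc_i_rc_26_1 lc_i_rc_18_1 lc_i_rc_26_1 lc_i_rc_18_1 lc_i_rc_39_1 lc_i_rc_33_1 lc_i_rc_50_1 lc_i_rc_54_0 lc_i_rc_26_1 lc_i_rc_26_1 lc_i_rc_18_1 lc_i_rc_41_3 lc_i_rc_18_1 lc_i_rc_39_1 lc_i_rc_33_1 lc_i_Cert_tree lc_i_rc_54_0 lc_i_rc_26_1 lc_i_rc_33_1 lc_i_rc_39_1 lc_i_rc_26_1 lc_i_rc_18_1 lc_i_rc_18_1 lc_i_rc_26_1 lc_i_rc_18_1 lc_i_rc_39_1 lc_i_Cert_tree lc_i_rc_33_1 lc_i_rc_53_1 lc_i_rc_54_0 lc_i_rc_26_1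 lc_i_rc_18_1 lc_i_Cert_tree lc_i_rc_18_1 lc_i_rc_39_1 lc_i_rc_33_1 lc_i_Cert_tree lc_i_rc_54_0 lc_i_rc_26_1) (@D3.rec (fun _ => (Cert rels S Gen.i)) lc_i_rc_39_1 lc_i_rc_26_3 lc_i_Cert_tree lc_i_rc_33_3 lc_i_rc_26_1 lc_i_Cert_tree lc_i_rc_18_1 lc_i_rc_18_1 lc_i_Cert_tree lc_i_rc_54_0 lc_i_rc_18_1 lc_i_rc_39_1 lc_i_Cert_tree lc_i_rc_33_1 lc_i_Cert_tree lc_i_rc_54_0 lc_i_rc_26_1 lc_i_Cert_tree lc_i_rc_18_1 lc_i_rc_18_1 lc_i_Cert_tree lc_i_rc_54_0 lc_i_rc_18_1 lc_i_rc_39_1 lc_i_Cert_tree lc_i_rc_33_1 lc_i_Cert_tree lc_i_rc_54_0 lc_i_rc_39_1 lc_i_rc_46_1 lc_i_Cert_tree lc_i_rc_39_1 lc_i_rc_26_3 lc_i_Cert_tree lc_i_rc_54_0 lc_i_rc_33_3 lc_i_rc_26_1 lc_i_rc_26_1 lc_i_Cert_tree lc_i_Cert_tree lc_i_rc_54_0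 lc_i_rc_18_1 lc_i_Cert_tree lc_i_rc_18_1 lc_i_Cert_tree lc_i_rc_54_0 lc_i_rc_46_1 lc_i_rc_39_1 lc_i_Cert_tree lc_i_Cert_tree lc_i_rc_54_0) (@D3.rec (fun _ => (Cert rels S Gen.i)) lc_i_Cert_tree lc_i_rc_54_0 lc_i_rc_26_1 lc_i_rc_26_1 lc_i_Cert_tree lc_i_Cert_tree lc_i_rc_54_0 lc_i_rc_18_1 lc_i_Cert_tree lc_i_rc_18_1 lc_i_Cert_tree lc_i_rc_54_0 lc_i_rc_46_1 lc_i_rc_39_1 lc_i_Cert_tree lc_i_Cert_tree lc_i_rc_54_0 lc_i_Cert_tree lc_i_rc_54_0 lc_i_rc_46_1 lc_i_Cert_tree lc_i_rc_46_1 lc_i_rc_50_1 lc_i_Cert_tree lc_i_Cert_tree lc_i_rc_54_0 lc_i_rc_9_1 lc_i_Cert_tree lc_i_rc_26_3 lc_i_Cert_tree lc_i_rc_54_0 lc_i_rc_33_1 lc_i_rc_26_1 lc_i_Cert_tree lc_i_rc_26_1 lc_i_Cert_tree lc_i_Cert_tree lc_i_rc_54_0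 lc_i_Cert_tree lc_i_rc_54_0 lc_i_rc_18_1 lc_i_rc_18_1 lc_i_Cert_tree lc_i_Cert_tree lc_i_rc_54_0 lc_i_Cert_tree lc_i_rc_54_0 lc_i_rc_46_1 lc_i_Cert_tree lc_i_Cert_tree lc_i_Cert_tree) (@D3.rec (fun _ => (Cert rels S Gen.i)) lc_i_rc_54_0 lc_i_Cert_tree lc_i_rc_54_0 lc_i_rc_54_0 lc_i_rc_9_1 lc_i_rc_9_1 lc_i_rc_26_1 lc_i_rc_33_1 lc_i_Cert_tree lc_i_rc_18_1 lc_i_rc_39_1 lc_i_rc_33_1 lc_i_Cert_tree lc_i_rc_54_0 lc_i_rc_53_1 lc_i_rc_9_1 lc_i_rc_9_1 lc_i_Cert_tree lc_i_rc_9_1 lc_i_rc_26_1 lc_i_Cert_tree lc_i_rc_18_1 lc_i_rc_18_1 lc_i_Cert_tree lc_i_rc_54_0 lc_i_rc_18_1 lc_i_rc_39_1 lc_i_Cert_tree lc_i_rc_33_1 lc_i_Cert_tree lc_i_rc_54_0 lc_i_rc_18_1 lc_i_rc_9_1 lc_i_Cert_tree lc_i_rc_9_1 lc_i_rc_9_1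 lc_i_Cert_tree lc_i_rc_54_0 lc_i_rc_9_1 lc_i_rc_26_1 lc_i_rc_26_1 lc_i_Cert_tree lc_i_Cert_tree lc_i_rc_54_0 lc_i_rc_18_1 lc_i_Cert_tree lc_i_rc_18_1 lc_i_Cert_tree lc_i_rc_54_0 lc_i_rc_46_1 lc_i_rc_39_1) (@D3.rec (fun _ => (Cert rels S Gen.i)) lc_i_Cert_tree lc_i_Cert_tree lc_i_rc_54_0 lc_i_Cert_tree lc_i_rc_54_0 lc_i_rc_26_1 lc_i_rc_9_1 lc_i_Cert_tree lc_i_rc_9_1 lc_i_rc_26_1 lc_i_Cert_tree lc_i_rc_39_1 lc_i_rc_33_1 lc_i_Cert_tree lc_i_rc_54_0 lc_i_rc_18_1 lc_i_rc_39_1 lc_i_Cert_tree lc_i_rc_33_1 lc_i_Cert_tree lc_i_rc_54_0 lc_i_rc_18_1 lc_i_rc_9_1 lc_i_Cert_tree lc_i_rc_9_1 lc_i_rc_9_1 lc_i_Cert_tree lc_i_rc_54_0 lc_i_rc_9_1 lc_i_rc_26_1 lc_i_rc_26_1 lc_i_Cert_tree lc_i_Cert_tree lc_i_rc_54_0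 lc_i_rc_18_1 lc_i_Cert_tree lc_i_rc_18_1 lc_i_Cert_tree lc_i_rc_54_0 lc_i_rc_46_1 lc_i_rc_39_1 lc_i_Cert_tree lc_i_Cert_tree lc_i_rc_54_0 lc_i_Cert_tree lc_i_rc_54_0 lc_i_rc_18_1 lc_i_Cert_tree lc_i_rc_9_1 lc_i_rc_9_1 lc_i_Cert_tree)
def ce_i_5 : D2 → D3 → (Cert rels S Gen.i) := @D2.rec (fun _ => D3 → (Cert rels S Gen.i)) (@D3.rec (fun _ => (Cert rels S Gen.i)) lc_i_Cert_tree lc_i_rc_54_0 lc_i_rc_9_1 lc_i_Cert_tree lc_i_rc_9_1 lc_i_Cert_tree lc_i_rc_54_0 lc_i_rc_33_1 lc_i_rc_26_1 lc_i_Cert_tree lc_i_rc_26_1 lc_i_Cert_tree lc_i_Cert_tree lc_i_rc_54_0 lc_i_Cert_tree lc_i_rc_54_0 lc_i_rc_18_1 lc_i_rc_18_1 lc_i_Cert_tree lc_i_Cert_tree lc_i_rc_54_0 lc_i_Cert_tree lc_i_rc_54_0 lc_i_rc_46_1 lc_i_Cert_tree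 lc_i_Cert_tree lc_i_Cert_tree lc_i_rc_54_0 lc_i_Cert_tree lc_i_rc_54_0 lc_i_rc_54_0 lc_i_rc_18_1 lc_i_rc_26_1 lc_i_Cert_tree lc_i_rc_9_1 lc_i_Cert_tree lc_i_rc_54_0 lc_i_rc_9_1 lc_i_rc_26_1 lc_i_rc_26_1 lc_i_Cert_tree lc_i_Cert_tree lc_i_rc_54_0 lc_i_rc_39_1 lc_i_Cert_tree lc_i_rc_33_1 lc_i_Cert_tree lc_i_rc_54_0 lc_i_rc_46_1 lc_i_rc_39_1 lc_i_Cert_tree) (@D3.rec (fun _ => (Cert rels S Gen.i)) lc_i_Cert_tree lc_i_rc_54_0 lc_i_Cert_tree lc_i_rc_54_0 lc_i_rc_18_1 lc_i_Cert_tree lc_i_rc_9_1 lc_i_rc_9_1 lc_i_Cert_tree lc_i_Cert_tree lc_i_rc_54_0 lc_i_rc_9_1 lc_i_Cert_tree lc_i_rc_9_1 lc_i_Cert_tree lc_i_rc_54_0 lc_i_rc_33_1 lc_i_rc_26_1 lc_i_Cert_tree lc_i_rc_26_1 lc_i_Cert_tree lc_i_Cert_tree lc_i_rc_54_0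 lc_i_Cert_tree lc_i_rc_54_0 lc_i_rc_18_1 lc_i_rc_18_1 lc_i_Cert_tree lc_i_Cert_tree lc_i_rc_54_0 lc_i_Cert_tree lc_i_rc_54_0 lc_i_rc_46_1 lc_i_Cert_tree lc_i_Cert_tree lc_i_Cert_tree lc_i_rc_54_0 lc_i_Cert_tree lc_i_rc_54_0 lc_i_rc_54_0 lc_i_rc_18_1 lc_i_rc_18_1 lc_i_Cert_tree lc_i_rc_54_0 lc_i_rc_9_1 lc_i_rc_9_1 lc_i_Cert_tree lc_i_rc_9_1 lc_i_Cert_tree lc_i_Cert_tree lc_i_rc_54_0) (@D3.rec (fun _ => (Cert rels S Gen.i)) lc_i_rc_54_0 lc_i_rc_9_1 lc_i_rc_9_1 lc_i_Cert_tree lc_i_Cert_tree lc_i_rc_54_0 lc_i_Cert_tree lc_i_rc_54_0 lc_i_rc_33_1 lc_i_Cert_tree lc_i_rc_26_1 lc_i_rc_26_1 lc_i_Cert_tree lc_i_Cert_tree lc_i_rc_54_0 lc_i_Cert_tree lc_i_Cert_tree lc_i_rc_54_0 lc_i_Cert_tree lc_i_rc_54_0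 lc_i_Cert_tree lc_i_rc_54_0 lc_i_rc_41_3 lc_i_rc_18_1 lc_i_Cert_tree lc_i_Cert_tree lc_i_Cert_tree lc_i_rc_54_0 lc_i_Cert_tree lc_i_rc_54_0 lc_i_rc_54_0 lc_i_rc_50_1 lc_i_Cert_tree lc_i_Cert_tree lc_i_rc_54_0 lc_i_Cert_tree lc_i_rc_54_0 lc_i_Cert_tree lc_i_rc_54_0 lc_i_Cert_tree lc_i_rc_54_0 lc_i_rc_41_3 lc_i_rc_26_1 lc_i_rc_26_1 lc_i_rc_46_1 lc_i_rc_39_1 lc_i_rc_46_1 lc_i_rc_33_3 lc_i_rc_33_3 lc_i_rc_18_1 lc_i_rc_26_1) (@D3.rec (fun _ => (Cert rels S Gen.i)) lc_i_rc_9_1 lc_i_rc_9_1 lc_i_rc_33_1 lc_i_Cert_tree lc_i_rc_26_1 lc_i_rc_26_1 lc_i_rc_18_1 lc_i_rc_9_1 lc_i_rc_9_1 lc_i_rc_9_1 lc_i_rc_9_1 lc_i_rc_50_1 lc_i_Cert_tree lc_i_Cert_tree lc_i_rc_54_0 lc_i_Cert_tree lc_i_rc_54_0 lc_i_Cert_tree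 lc_i_rc_54_0 lc_i_Cert_tree lc_i_rc_54_0 lc_i_rc_41_3 lc_i_rc_9_1 lc_i_Cert_tree lc_i_rc_9_1 lc_i_rc_9_1 lc_i_rc_9_1 lc_i_rc_46_1 lc_i_rc_53_1 lc_i_rc_26_3 lc_i_rc_18_3 lc_i_rc_33_1 lc_i_rc_33_1 lc_i_Cert_tree lc_i_Cert_tree lc_i_rc_54_0 lc_i_rc_26_1 lc_i_rc_46_1 lc_i_rc_53_1 lc_i_rc_26_3 lc_i_rc_18_3 lc_i_rc_18_1 lc_i_Cert_tree lc_i_Cert_tree lc_i_rc_54_0 lc_i_Cert_tree lc_i_rc_54_0 lc_i_Cert_tree lc_i_rc_54_0 lc_i_Cert_tree lc_i_rc_54_0) (@D3.rec (fun _ => (Cert rels S Gen.i)) lc_i_rc_18_1 lc_i_Cert_tree lc_i_Cert_tree lc_i_rc_54_0 lc_i_Cert_tree lc_i_Cert_tree lc_i_rc_54_0 lc_i_Cert_tree lc_i_rc_54_0 lc_i_Cert_tree lc_i_rc_54_0 lc_i_rc_41_3 lc_i_Cert_tree lc_i_rc_54_0 lc_i_rc_26_1 lc_i_rc_18_1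 lc_i_rc_18_1 lc_i_rc_33_1 lc_i_rc_9_1 lc_i_rc_26_1 lc_i_rc_33_1 lc_i_rc_39_1 lc_i_rc_39_1 lc_i_rc_41_1 lc_i_rc_26_1 lc_i_rc_18_1 lc_i_Cert_tree lc_i_rc_18_1 lc_i_rc_39_1 lc_i_rc_54_0 lc_i_rc_33_1 lc_i_rc_50_1 lc_i_rc_26_1 lc_i_rc_18_1 lc_i_rc_50_1 lc_i_Cert_tree lc_i_rc_54_0 lc_i_rc_33_3 lc_i_rc_39_3 lc_i_rc_41_1 lc_i_rc_54_0 lc_i_rc_54_0 lc_i_rc_26_1 lc_i_rc_41_3 lc_i_rc_18_1 lc_i_rc_18_1 lc_i_Cert_tree lc_i_rc_54_0 lc_i_rc_18_1 lc_i_rc_39_1 lc_i_Cert_tree) (@D3.rec (fun _ => (Cert rels S Gen.i)) lc_i_rc_54_0 lc_i_rc_33_1 lc_i_rc_33_1 lc_i_rc_53_1 lc_i_rc_26_1 lc_i_rc_26_1 lc_i_rc_18_1 lc_i_Cert_tree lc_i_rc_53_1 lc_i_Cert_tree lc_i_rc_54_0 lc_i_rc_46_1 lc_i_rc_33_3 lc_i_Cert_tree lc_i_Cert_tree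 lc_i_rc_54_0 lc_i_rc_41_1 lc_i_rc_54_0 lc_i_Cert_tree lc_i_rc_54_0 lc_i_rc_26_1 lc_i_Cert_tree lc_i_rc_18_1 lc_i_rc_18_1 lc_i_Cert_tree lc_i_rc_54_0 lc_i_rc_18_1 lc_i_rc_39_1 lc_i_Cert_tree lc_i_rc_33_1 lc_i_Cert_tree lc_i_rc_54_0 lc_i_rc_33_1 lc_i_rc_46_1 lc_i_Cert_tree lc_i_rc_39_1 lc_i_rc_33_1 lc_i_Cert_tree lc_i_rc_54_0 lc_i_rc_39_1 lc_i_rc_26_1 lc_i_rc_26_1 lc_i_Cert_tree lc_i_Cert_tree lc_i_rc_54_0 lc_i_rc_18_1 lc_i_Cert_tree lc_i_rc_18_1 lc_i_Cert_tree lc_i_rc_54_0 lc_i_rc_46_1) (@D3.rec (fun _ => (Cert rels S Gen.i)) lc_i_rc_39_1 lc_i_Cert_tree lc_i_Cert_tree lc_i_rc_54_0 lc_i_Cert_tree lc_i_rc_54_0 lc_i_Cert_tree lc_i_Cert_tree lc_i_rc_54_0 lc_i_rc_26_1 lc_i_rc_26_1 lc_i_Cert_tree lc_i_rc_54_0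 lc_i_rc_18_1 lc_i_Cert_tree lc_i_rc_18_1 lc_i_Cert_tree lc_i_rc_54_0 lc_i_rc_46_1 lc_i_rc_39_1 lc_i_Cert_tree lc_i_Cert_tree lc_i_rc_54_0 lc_i_Cert_tree lc_i_rc_54_0 lc_i_rc_46_1 lc_i_Cert_tree lc_i_rc_39_1 lc_i_rc_46_1 lc_i_Cert_tree lc_i_Cert_tree lc_i_rc_54_0 lc_i_rc_39_1 lc_i_Cert_tree lc_i_rc_33_1 lc_i_Cert_tree lc_i_rc_54_0 lc_i_rc_33_1 lc_i_rc_26_1 lc_i_Cert_tree lc_i_rc_26_1 lc_i_Cert_tree lc_i_Cert_tree lc_i_rc_54_0 lc_i_Cert_tree lc_i_rc_54_0 lc_i_rc_18_1 lc_i_rc_18_1 lc_i_Cert_tree lc_i_Cert_tree lc_i_rc_54_0) (@D3.rec (fun _ => (Cert rels S Gen.i)) lc_i_Cert_tree lc_i_rc_54_0 lc_i_rc_46_1 lc_i_Cert_tree lc_i_Cert_tree lc_i_Cert_tree lc_i_rc_54_0 lc_i_Cert_tree lc_i_rc_54_0 lc_i_rc_54_0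 lc_i_Cert_tree lc_i_Cert_tree lc_i_rc_54_0 lc_i_Cert_tree lc_i_rc_54_0 lc_i_rc_33_1 lc_i_rc_26_1 lc_i_Cert_tree lc_i_rc_26_1 lc_i_Cert_tree lc_i_rc_54_0 lc_i_rc_18_1 lc_i_rc_18_1 lc_i_Cert_tree lc_i_Cert_tree lc_i_rc_54_0 lc_i_Cert_tree lc_i_rc_54_0 lc_i_rc_46_1 lc_i_Cert_tree lc_i_Cert_tree lc_i_Cert_tree lc_i_rc_54_0 lc_i_Cert_tree lc_i_rc_54_0 lc_i_rc_54_0 lc_i_rc_39_1 lc_i_rc_33_1 lc_i_Cert_tree lc_i_rc_54_0 lc_i_rc_9_1 lc_i_rc_39_1 lc_i_Cert_tree lc_i_rc_33_1 lc_i_Cert_tree lc_i_Cert_tree lc_i_rc_54_0 lc_i_rc_54_0 lc_i_rc_26_3 lc_i_rc_9_1 lc_i_Cert_tree) (@D3.rec (fun _ => (Cert rels S Gen.i)) lc_i_Cert_tree lc_i_rc_54_0 lc_i_Cert_tree lc_i_rc_54_0 lc_i_rc_33_1 lc_i_Cert_tree lc_i_rc_26_1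 lc_i_rc_26_1 lc_i_Cert_tree lc_i_Cert_tree lc_i_rc_54_0 lc_i_Cert_tree lc_i_Cert_tree lc_i_rc_54_0 lc_i_Cert_tree lc_i_rc_54_0 lc_i_Cert_tree lc_i_rc_54_0 lc_i_rc_18_1 lc_i_Cert_tree lc_i_Cert_tree lc_i_Cert_tree lc_i_rc_54_0 lc_i_Cert_tree lc_i_rc_54_0 lc_i_rc_54_0 lc_i_rc_50_1 lc_i_Cert_tree lc_i_Cert_tree lc_i_rc_54_0 lc_i_Cert_tree lc_i_rc_54_0 lc_i_Cert_tree lc_i_rc_54_0 lc_i_Cert_tree lc_i_rc_54_0 lc_i_rc_41_3 lc_i_rc_18_1 lc_i_rc_9_1 lc_i_Cert_tree lc_i_rc_9_1 lc_i_rc_9_1 lc_i_Cert_tree lc_i_rc_54_0 lc_i_rc_9_1 lc_i_rc_26_1 lc_i_rc_26_1 lc_i_Cert_tree lc_i_Cert_tree lc_i_rc_54_0 lc_i_rc_18_1) (@D3.rec (fun _ => (Cert rels S Gen.i)) lc_i_Cert_tree lc_i_rc_18_1 lc_i_Cert_tree lc_i_rc_54_0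 lc_i_rc_46_1 lc_i_rc_39_1 lc_i_Cert_tree lc_i_Cert_tree lc_i_rc_54_0 lc_i_Cert_tree lc_i_rc_54_0 lc_i_rc_18_1 lc_i_rc_9_1 lc_i_rc_9_1 lc_i_Cert_tree lc_i_rc_54_0 lc_i_rc_9_1 lc_i_Cert_tree lc_i_rc_9_1 lc_i_Cert_tree lc_i_rc_54_0 lc_i_rc_33_1 lc_i_rc_26_1 lc_i_Cert_tree lc_i_rc_26_1 lc_i_Cert_tree lc_i_Cert_tree lc_i_rc_54_0 lc_i_Cert_tree lc_i_rc_54_0 lc_i_rc_18_1 lc_i_rc_18_1 lc_i_Cert_tree lc_i_Cert_tree lc_i_rc_54_0 lc_i_Cert_tree lc_i_rc_54_0 lc_i_rc_9_3 lc_i_Cert_tree lc_i_Cert_tree lc_i_Cert_tree lc_i_rc_54_0 lc_i_Cert_tree lc_i_rc_54_0 lc_i_rc_54_0 lc_i_rc_18_1 lc_i_rc_9_1 lc_i_rc_9_1 lc_i_Cert_tree lc_i_rc_54_0 lc_i_rc_9_1) (@D3.rec (fun _ => (Cert rels S Gen.i)) lc_i_Cert_tree lc_i_rc_9_1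 lc_i_Cert_tree lc_i_rc_54_0 lc_i_rc_33_1 lc_i_rc_26_1 lc_i_Cert_tree lc_i_rc_26_1 lc_i_Cert_tree lc_i_Cert_tree lc_i_rc_54_0 lc_i_rc_54_0 lc_i_rc_18_1 lc_i_rc_18_1 lc_i_Cert_tree lc_i_Cert_tree lc_i_rc_54_0 lc_i_Cert_tree lc_i_rc_54_0 lc_i_rc_46_1 lc_i_Cert_tree lc_i_Cert_tree lc_i_Cert_tree lc_i_rc_54_0 lc_i_Cert_tree lc_i_rc_54_0 lc_i_rc_54_0 lc_i_rc_18_1 lc_i_rc_18_1 lc_i_rc_9_1 lc_i_rc_9_1 lc_i_Cert_tree lc_i_rc_9_1 lc_i_Cert_tree lc_i_rc_54_0 lc_i_rc_9_1 lc_i_rc_9_1 lc_i_Cert_tree lc_i_Cert_tree lc_i_rc_54_0 lc_i_Cert_tree lc_i_rc_54_0 lc_i_rc_33_1 lc_i_Cert_tree lc_i_rc_26_1 lc_i_rc_26_1 lc_i_Cert_tree lc_i_Cert_tree lc_i_rc_54_0 lc_i_Cert_tree lc_i_Cert_tree) (@D3.rec (fun _ => (Cert rels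 S Gen.i)) lc_i_rc_54_0 lc_i_Cert_tree lc_i_rc_54_0 lc_i_Cert_tree lc_i_rc_54_0 lc_i_rc_18_1 lc_i_Cert_tree lc_i_Cert_tree lc_i_Cert_tree lc_i_rc_54_0 lc_i_Cert_tree lc_i_rc_54_0 lc_i_rc_54_0 lc_i_rc_50_1 lc_i_Cert_tree lc_i_Cert_tree lc_i_rc_54_0 lc_i_Cert_tree lc_i_rc_54_0 lc_i_Cert_tree lc_i_rc_54_0 lc_i_Cert_tree lc_i_rc_54_0 lc_i_rc_41_3 lc_i_rc_18_1 lc_i_rc_18_1 lc_i_rc_9_1 lc_i_Cert_tree lc_i_rc_9_1 lc_i_Cert_tree lc_i_rc_54_0 lc_i_rc_9_1 lc_i_rc_9_1 lc_i_Cert_tree lc_i_rc_54_0 lc_i_Cert_tree lc_i_rc_54_0 lc_i_rc_33_1 lc_i_Cert_tree lc_i_rc_26_1 lc_i_rc_26_1 lc_i_Cert_tree lc_i_Cert_tree lc_i_rc_54_0 lc_i_Cert_tree lc_i_Cert_tree lc_i_rc_54_0 lc_i_Cert_tree lc_i_rc_54_0 lc_i_rc_18_1 lc_i_Cert_tree)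 (@D3.rec (fun _ => (Cert rels S Gen.i)) lc_i_Cert_tree lc_i_Cert_tree lc_i_rc_54_0 lc_i_Cert_tree lc_i_rc_54_0 lc_i_rc_54_0 lc_i_rc_50_1 lc_i_Cert_tree lc_i_Cert_tree lc_i_rc_54_0 lc_i_Cert_tree lc_i_rc_54_0 lc_i_Cert_tree lc_i_rc_54_0 lc_i_Cert_tree lc_i_rc_54_0 lc_i_rc_41_3 lc_i_rc_18_1 lc_i_rc_18_1 lc_i_rc_18_1 lc_i_rc_9_1 lc_i_Cert_tree lc_i_rc_9_1 lc_i_rc_9_1 lc_i_Cert_tree lc_i_Cert_tree lc_i_rc_54_0 lc_i_Cert_tree lc_i_rc_54_0 lc_i_rc_9_1 lc_i_Cert_tree lc_i_Cert_tree lc_i_Cert_tree lc_i_rc_54_0 lc_i_Cert_tree lc_i_rc_54_0 lc_i_rc_54_0 lc_i_rc_33_1 lc_i_rc_33_1 lc_i_Cert_tree lc_i_Cert_tree lc_i_rc_54_0 lc_i_rc_26_1 lc_i_Cert_tree lc_i_Cert_tree lc_i_Cert_tree lc_i_rc_54_0 lc_i_Cert_tree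 lc_i_Cert_tree lc_i_rc_54_0 lc_i_Cert_tree) (@D3.rec (fun _ => (Cert rels S Gen.i)) lc_i_rc_54_0 lc_i_Cert_tree lc_i_rc_54_0 lc_i_Cert_tree lc_i_rc_54_0 lc_i_Cert_tree lc_i_rc_54_0 lc_i_rc_18_1 lc_i_Cert_tree lc_i_Cert_tree lc_i_rc_54_0 lc_i_Cert_tree lc_i_rc_54_0 lc_i_Cert_tree lc_i_rc_54_0 lc_i_Cert_tree lc_i_rc_54_0 lc_i_rc_18_1 lc_i_Cert_tree lc_i_Cert_tree lc_i_rc_54_0 lc_i_Cert_tree lc_i_Cert_tree lc_i_rc_54_0 lc_i_Cert_tree lc_i_rc_54_0 lc_i_Cert_tree lc_i_rc_54_0 lc_i_rc_41_3 lc_i_Cert_tree lc_i_rc_54_0 lc_i_rc_26_1 lc_i_rc_9_1 lc_i_rc_33_1 lc_i_rc_33_1 lc_i_Cert_tree lc_i_rc_54_0 lc_i_rc_26_1 lc_i_rc_18_1 lc_i_rc_9_1 lc_i_rc_9_1 lc_i_rc_9_1 lc_i_rc_9_1 lc_i_rc_18_1 lc_i_Cert_tree lc_i_Cert_tree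 lc_i_rc_54_0 lc_i_Cert_tree lc_i_Cert_tree lc_i_rc_54_0 lc_i_Cert_tree) (@D3.rec (fun _ => (Cert rels S Gen.i)) lc_i_rc_54_0 lc_i_Cert_tree lc_i_rc_54_0 lc_i_rc_41_3 lc_i_Cert_tree lc_i_rc_54_0 lc_i_rc_26_1 lc_i_rc_9_1 lc_i_rc_9_1 lc_i_Cert_tree lc_i_rc_54_0 lc_i_rc_9_1 lc_i_rc_9_1 lc_i_rc_53_1 lc_i_rc_46_1 lc_i_rc_53_1 lc_i_rc_18_3 lc_i_rc_9_3 lc_i_rc_39_1 lc_i_rc_33_1 lc_i_Cert_tree lc_i_Cert_tree lc_i_Cert_tree lc_i_rc_54_0 lc_i_Cert_tree lc_i_rc_54_0 lc_i_rc_26_1 lc_i_rc_53_1 lc_i_rc_46_1 lc_i_rc_53_1 lc_i_rc_18_3 lc_i_rc_9_3 lc_i_Cert_tree lc_i_Cert_tree lc_i_rc_54_0 lc_i_Cert_tree lc_i_Cert_tree lc_i_rc_54_0 lc_i_Cert_tree lc_i_rc_54_0 lc_i_Cert_tree lc_i_rc_54_0 lc_i_rc_18_1 lc_i_Cert_tree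 lc_i_rc_54_0 lc_i_rc_26_1 lc_i_rc_39_1 lc_i_rc_54_0 lc_i_rc_26_3 lc_i_rc_26_1 lc_i_rc_54_0) (@D3.rec (fun _ => (Cert rels S Gen.i)) lc_i_rc_26_3 lc_i_rc_46_1 lc_i_rc_26_3 lc_i_rc_41_3 lc_i_Cert_tree lc_i_rc_54_0 lc_i_rc_26_1 lc_i_rc_54_0 lc_i_rc_18_1 lc_i_rc_33_1 lc_i_Cert_tree lc_i_Cert_tree lc_i_rc_54_0 lc_i_Cert_tree lc_i_Cert_tree lc_i_rc_54_0 lc_i_Cert_tree lc_i_rc_54_0 lc_i_Cert_tree lc_i_Cert_tree lc_i_rc_54_0 lc_i_Cert_tree lc_i_Cert_tree lc_i_rc_54_0 lc_i_Cert_tree lc_i_rc_54_0 lc_i_Cert_tree lc_i_rc_54_0 lc_i_Cert_tree lc_i_Cert_tree lc_i_Cert_tree lc_i_rc_54_0 lc_i_Cert_tree lc_i_rc_54_0 lc_i_rc_54_0 lc_i_Cert_tree lc_i_Cert_tree lc_i_rc_54_0 lc_i_Cert_tree lc_i_rc_54_0 lc_i_Cert_tree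 lc_i_rc_54_0 lc_i_Cert_tree lc_i_rc_54_0 lc_i_rc_41_3 lc_i_Cert_tree lc_i_Cert_tree lc_i_rc_54_0 lc_i_Cert_tree lc_i_rc_54_0 lc_i_Cert_tree) (@D3.rec (fun _ => (Cert rels S Gen.i)) lc_i_Cert_tree lc_i_Cert_tree lc_i_rc_54_0 lc_i_Cert_tree lc_i_rc_54_0 lc_i_rc_54_0 lc_i_Cert_tree lc_i_rc_54_0 lc_i_Cert_tree lc_i_Cert_tree lc_i_Cert_tree lc_i_rc_54_0 lc_i_Cert_tree lc_i_Cert_tree lc_i_rc_54_0 lc_i_Cert_tree lc_i_rc_54_0 lc_i_Cert_tree lc_i_rc_54_0 lc_i_Cert_tree lc_i_rc_54_0 lc_i_Cert_tree lc_i_rc_54_0 lc_i_Cert_tree lc_i_Cert_tree lc_i_rc_54_0 lc_i_Cert_tree lc_i_rc_54_0 lc_i_Cert_tree lc_i_rc_54_0 lc_i_Cert_tree lc_i_rc_54_0 lc_i_rc_41_3 lc_i_Cert_tree lc_i_Cert_tree lc_i_rc_54_0 lc_i_Cert_tree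 lc_i_Cert_tree lc_i_rc_54_0 lc_i_Cert_tree lc_i_rc_54_0 lc_i_Cert_tree lc_i_rc_54_0 lc_i_rc_41_3 lc_i_Cert_tree lc_i_rc_54_0 lc_i_rc_26_1 lc_i_Cert_tree lc_i_Cert_tree lc_i_Cert_tree lc_i_rc_54_0) (@D3.rec (fun _ => (Cert rels S Gen.i)) lc_i_Cert_tree lc_i_rc_54_0 lc_i_rc_54_0 lc_i_Cert_tree lc_i_Cert_tree lc_i_rc_54_0 lc_i_Cert_tree lc_i_rc_54_0 lc_i_Cert_tree lc_i_rc_54_0 lc_i_Cert_tree lc_i_rc_54_0 lc_i_rc_9_1 lc_i_Cert_tree lc_i_Cert_tree lc_i_rc_54_0 lc_i_Cert_tree lc_i_rc_54_0 lc_i_Cert_tree lc_i_Cert_tree lc_i_rc_54_0 lc_i_Cert_tree lc_i_Cert_tree lc_i_rc_54_0 lc_i_Cert_tree lc_i_rc_54_0 lc_i_rc_41_3 lc_i_Cert_tree lc_i_rc_54_0 lc_i_Cert_tree lc_i_rc_54_0 lc_i_Cert_tree lc_i_rc_54_0 lc_i_Cert_tree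 lc_i_rc_54_0 lc_i_Cert_tree lc_i_Cert_tree lc_i_rc_54_0 lc_i_Cert_tree lc_i_Cert_tree lc_i_rc_54_0 lc_i_Cert_tree lc_i_rc_54_0 lc_i_Cert_tree lc_i_rc_54_0 lc_i_rc_18_1 lc_i_Cert_tree lc_i_rc_54_0 lc_i_rc_26_1 lc_i_rc_54_0 lc_i_rc_54_0) (@D3.rec (fun _ => (Cert rels S Gen.i)) lc_i_rc_26_3 lc_i_rc_54_0 lc_i_rc_54_0 lc_i_rc_39_1 lc_i_rc_26_3 lc_i_Cert_tree lc_i_rc_54_0 lc_i_rc_54_0 lc_i_rc_18_1 lc_i_rc_26_3 lc_i_Cert_tree lc_i_rc_26_3 lc_i_rc_54_0 lc_i_Cert_tree lc_i_rc_54_0 lc_i_Cert_tree lc_i_rc_54_0 lc_i_rc_9_1 lc_i_Cert_tree lc_i_rc_54_0 lc_i_rc_9_1 lc_i_rc_39_1 lc_i_rc_46_1 lc_i_rc_33_3 lc_i_rc_54_0 lc_i_rc_39_3 lc_i_rc_26_1 lc_i_rc_54_0 lc_i_rc_18_1 lc_i_rc_33_1 lc_i_rc_9_1 lc_i_rc_33_1 lc_i_rc_39_3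 lc_i_rc_26_1 lc_i_rc_26_1 lc_i_rc_46_1 lc_i_rc_46_1 lc_i_rc_33_1 lc_i_rc_46_1 lc_i_rc_39_1 lc_i_rc_33_1 lc_i_rc_26_1 lc_i_rc_26_1 lc_i_rc_39_1 lc_i_rc_46_1 lc_i_rc_33_1 lc_i_rc_39_1 lc_i_rc_46_1 lc_i_rc_50_1 lc_i_Cert_tree lc_i_rc_46_1) (@D3.rec (fun _ => (Cert rels S Gen.i)) lc_i_rc_39_1 lc_i_rc_46_1 lc_i_rc_33_1 lc_i_Cert_tree lc_i_rc_26_1 lc_i_rc_26_1 lc_i_rc_18_1 lc_i_rc_39_1 lc_i_rc_18_1 lc_i_rc_9_1 lc_i_Cert_tree lc_i_rc_41_1 lc_i_rc_26_3 lc_i_rc_41_1 lc_i_rc_9_3 lc_i_rc_33_1 lc_i_rc_33_1 lc_i_Cert_tree lc_i_Cert_tree lc_i_rc_54_0 lc_i_rc_18_1 lc_i_rc_26_1 lc_i_rc_9_1 lc_i_rc_33_1 lc_i_rc_39_1 lc_i_rc_46_1 lc_i_rc_50_1 lc_i_rc_54_0 lc_i_rc_9_1 lc_i_rc_9_1 lc_i_rc_33_1 lc_i_rc_18_1 lc_i_Cert_tree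 lc_i_rc_39_1 lc_i_rc_46_1 lc_i_rc_9_1 lc_i_rc_9_1 lc_i_rc_9_1 lc_i_rc_33_1 lc_i_Cert_tree lc_i_rc_9_1 lc_i_rc_18_1 lc_i_Cert_tree lc_i_Cert_tree lc_i_Cert_tree lc_i_rc_54_0 lc_i_rc_33_1 lc_i_rc_39_1 lc_i_rc_39_1 lc_i_rc_50_1 lc_i_rc_9_1) (@D3.rec (fun _ => (Cert rels S Gen.i)) lc_i_Cert_tree lc_i_rc_9_1 lc_i_rc_9_1 lc_i_rc_33_1 lc_i_rc_33_1 lc_i_Cert_tree lc_i_Cert_tree lc_i_rc_54_0 lc_i_rc_33_1 lc_i_rc_55_71 lc_i_rc_55_53 lc_i_rc_9_1 lc_i_rc_9_1 lc_i_Cert_tree lc_i_rc_54_0 lc_i_rc_39_1 lc_i_Cert_tree lc_i_Cert_tree lc_i_Cert_tree lc_i_rc_54_0 lc_i_Cert_tree lc_i_rc_54_0 lc_i_rc_9_1 lc_i_rc_9_1 lc_i_rc_39_1 lc_i_rc_46_1 lc_i_rc_50_1 lc_i_rc_53_1 lc_i_rc_9_1 lc_i_rc_9_1 lc_i_Cert_tree lc_i_rc_54_0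 lc_i_rc_26_1 lc_i_rc_39_1 lc_i_rc_33_1 lc_i_Cert_tree lc_i_Cert_tree lc_i_Cert_tree lc_i_rc_54_0 lc_i_Cert_tree lc_i_rc_54_0 lc_i_rc_33_1 lc_i_rc_33_1 lc_i_rc_26_1 lc_i_rc_18_1 lc_i_rc_26_1 lc_i_Cert_tree lc_i_rc_18_1 lc_i_rc_18_1 lc_i_Cert_tree lc_i_rc_54_0) (@D3.rec (fun _ => (Cert rels S Gen.i)) lc_i_rc_33_1 lc_i_rc_9_1 lc_i_rc_39_3 lc_i_Cert_tree lc_i_Cert_tree lc_i_rc_54_0 lc_i_rc_39_1 lc_i_Cert_tree lc_i_Cert_tree lc_i_rc_54_0 lc_i_rc_54_0 lc_i_Cert_tree lc_i_rc_54_0 lc_i_rc_33_1 lc_i_rc_39_1 lc_i_rc_39_1 lc_i_rc_26_3 lc_i_rc_54_0 lc_i_Cert_tree lc_i_rc_54_0 lc_i_rc_41_1 lc_i_Cert_tree lc_i_rc_54_0 lc_i_rc_33_1 lc_i_rc_26_1 lc_i_rc_33_1 lc_i_rc_39_1 lc_i_rc_39_1 lc_i_rc_39_1 lc_i_rc_26_3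 lc_i_rc_26_3 lc_i_rc_26_3 lc_i_rc_9_1 lc_i_rc_54_0 lc_i_Cert_tree lc_i_rc_54_0 lc_i_rc_41_1 lc_i_rc_41_3 lc_i_rc_54_0 lc_i_rc_33_1 lc_i_rc_33_1 lc_i_rc_41_3 lc_i_rc_33_1 lc_i_rc_33_1 lc_i_rc_39_1 lc_i_rc_33_1 lc_i_rc_39_1 lc_i_rc_33_1 lc_i_rc_55_26 lc_i_rc_46_1 lc_i_rc_50_1) (@D3.rec (fun _ => (Cert rels S Gen.i)) lc_i_rc_41_1 lc_i_Cert_tree lc_i_Cert_tree lc_i_Cert_tree lc_i_rc_54_0 lc_i_Cert_tree lc_i_Cert_tree lc_i_rc_54_0 lc_i_Cert_tree lc_i_Cert_tree lc_i_rc_54_0 lc_i_Cert_tree lc_i_Cert_tree lc_i_rc_54_0 lc_i_Cert_tree lc_i_Cert_tree lc_i_rc_54_0 lc_i_Cert_tree lc_i_Cert_tree lc_i_rc_54_0 lc_i_Cert_tree lc_i_rc_54_0 lc_i_Cert_tree lc_i_Cert_tree lc_i_Cert_tree lc_i_rc_54_0 lc_i_Cert_tree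 lc_i_Cert_tree lc_i_rc_54_0 lc_i_Cert_tree lc_i_Cert_tree lc_i_Cert_tree lc_i_rc_54_0 lc_i_Cert_tree lc_i_rc_54_0 lc_i_Cert_tree lc_i_Cert_tree lc_i_rc_54_0 lc_i_Cert_tree lc_i_rc_54_0 lc_i_Cert_tree lc_i_Cert_tree lc_i_Cert_tree lc_i_rc_54_0 lc_i_Cert_tree lc_i_rc_54_0 lc_i_rc_54_0 lc_i_rc_18_1 lc_i_rc_18_1 lc_i_rc_33_1 lc_i_rc_41_3) (@D3.rec (fun _ => (Cert rels S Gen.i)) lc_i_rc_26_1 lc_i_rc_53_1 lc_i_rc_33_1 lc_i_rc_26_1 lc_i_rc_18_1 lc_i_rc_33_1 lc_i_rc_26_1 lc_i_rc_18_1 lc_i_rc_41_3 lc_i_rc_18_1 lc_i_rc_39_1 lc_i_rc_33_1 lc_i_rc_41_3 lc_i_rc_54_0 lc_i_rc_26_1 lc_i_rc_33_1 lc_i_rc_26_1 lc_i_rc_18_1 lc_i_rc_18_1 lc_i_rc_50_1 lc_i_rc_39_1 lc_i_rc_33_1 lc_i_rc_26_1 lc_i_rc_18_1 lc_i_rc_18_1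 lc_i_rc_41_3 lc_i_rc_18_1 lc_i_rc_39_1 lc_i_Cert_tree lc_i_rc_33_1 lc_i_rc_41_3 lc_i_rc_54_0 lc_i_rc_33_1 lc_i_rc_33_1 lc_i_rc_26_1 lc_i_rc_26_1 lc_i_rc_18_1 lc_i_rc_26_1 lc_i_rc_18_1 lc_i_rc_53_1 lc_i_rc_46_1 lc_i_rc_39_1 lc_i_rc_33_1 lc_i_rc_39_1 lc_i_rc_54_0 lc_i_rc_26_1 lc_i_Cert_tree lc_i_rc_18_1 lc_i_rc_18_1 lc_i_Cert_tree lc_i_rc_54_0) (@D3.rec (fun _ => (Cert rels S Gen.i)) lc_i_rc_18_1 lc_i_rc_39_1 lc_i_Cert_tree lc_i_rc_33_1 lc_i_Cert_tree lc_i_rc_54_0 lc_i_rc_50_1 lc_i_rc_54_0 lc_i_Cert_tree lc_i_rc_39_1 lc_i_rc_26_3 lc_i_Cert_tree lc_i_rc_54_0 lc_i_rc_26_1 lc_i_rc_26_1 lc_i_Cert_tree lc_i_Cert_tree lc_i_rc_54_0 lc_i_rc_18_1 lc_i_Cert_tree lc_i_rc_18_1 lc_i_Cert_tree lc_i_rc_54_0 lc_i_rc_46_1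 lc_i_rc_39_1 lc_i_Cert_tree lc_i_Cert_tree lc_i_rc_54_0 lc_i_Cert_tree lc_i_rc_54_0 lc_i_rc_26_1 lc_i_rc_26_1 lc_i_Cert_tree lc_i_Cert_tree lc_i_rc_54_0 lc_i_rc_18_1 lc_i_Cert_tree lc_i_rc_18_1 lc_i_Cert_tree lc_i_rc_54_0 lc_i_rc_46_1 lc_i_rc_39_1 lc_i_Cert_tree lc_i_Cert_tree lc_i_rc_54_0 lc_i_Cert_tree lc_i_rc_54_0 lc_i_rc_54_0 lc_i_Cert_tree lc_i_rc_39_1 lc_i_rc_54_0) (@D3.rec (fun _ => (Cert rels S Gen.i)) lc_i_Cert_tree lc_i_Cert_tree lc_i_rc_54_0 lc_i_rc_39_1 lc_i_Cert_tree lc_i_rc_26_3 lc_i_Cert_tree lc_i_rc_54_0 lc_i_rc_33_1 lc_i_rc_26_1 lc_i_Cert_tree lc_i_rc_26_1 lc_i_Cert_tree lc_i_Cert_tree lc_i_rc_54_0 lc_i_Cert_tree lc_i_rc_54_0 lc_i_rc_18_1 lc_i_rc_18_1 lc_i_Cert_tree lc_i_Cert_tree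 lc_i_rc_54_0 lc_i_Cert_tree lc_i_rc_54_0 lc_i_rc_46_1 lc_i_Cert_tree lc_i_Cert_tree lc_i_Cert_tree lc_i_rc_54_0 lc_i_Cert_tree lc_i_rc_54_0 lc_i_rc_54_0 lc_i_rc_33_1 lc_i_rc_26_1 lc_i_Cert_tree lc_i_rc_26_1 lc_i_Cert_tree lc_i_Cert_tree lc_i_rc_54_0 lc_i_rc_54_0 lc_i_rc_18_1 lc_i_rc_18_1 lc_i_Cert_tree lc_i_Cert_tree lc_i_rc_54_0 lc_i_Cert_tree lc_i_rc_54_0 lc_i_rc_46_1 lc_i_Cert_tree lc_i_Cert_tree lc_i_Cert_tree) (@D3.rec (fun _ => (Cert rels S Gen.i)) lc_i_rc_54_0 lc_i_Cert_tree lc_i_rc_54_0 lc_i_rc_54_0 lc_i_rc_46_1 lc_i_rc_50_1 lc_i_Cert_tree lc_i_Cert_tree lc_i_rc_54_0 lc_i_rc_9_1 lc_i_rc_50_1 lc_i_Cert_tree lc_i_rc_53_1 lc_i_Cert_tree lc_i_Cert_tree lc_i_rc_54_0 lc_i_Cert_tree lc_i_rc_54_0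 lc_i_rc_26_3 lc_i_rc_9_1 lc_i_Cert_tree lc_i_Cert_tree lc_i_rc_54_0 lc_i_Cert_tree lc_i_rc_54_0 lc_i_rc_33_1 lc_i_Cert_tree lc_i_rc_26_1 lc_i_rc_26_1 lc_i_Cert_tree lc_i_Cert_tree lc_i_rc_54_0 lc_i_Cert_tree lc_i_Cert_tree lc_i_rc_54_0 lc_i_Cert_tree lc_i_rc_54_0 lc_i_Cert_tree lc_i_rc_54_0 lc_i_rc_41_3 lc_i_rc_18_1 lc_i_Cert_tree lc_i_Cert_tree lc_i_Cert_tree lc_i_rc_54_0 lc_i_Cert_tree lc_i_rc_54_0 lc_i_rc_54_0 lc_i_rc_50_1 lc_i_Cert_tree lc_i_Cert_tree)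
def ce_i_6 : D2 → D3 → (Cert rels S Gen.i) := @D2.rec (fun _ => D3 → (Cert rels S Gen.i)) (@D3.rec (fun _ => (Cert rels S Gen.i)) lc_i_rc_54_0 lc_i_Cert_tree lc_i_rc_54_0 lc_i_Cert_tree lc_i_rc_54_0 lc_i_Cert_tree lc_i_rc_54_0 lc_i_rc_41_3 lc_i_rc_26_1 lc_i_rc_9_1 lc_i_Cert_tree lc_i_rc_9_1 lc_i_rc_26_1 lc_i_Cert_tree lc_i_rc_39_1 lc_i_rc_33_1 lc_i_Cert_tree lc_i_rc_54_0 lc_i_rc_18_1 lc_i_rc_39_1 lc_i_Cert_tree lc_i_rc_33_1 lc_i_Cert_tree lc_i_rc_54_0 lc_i_rc_18_1 lc_i_rc_9_1 lc_i_Cert_tree lc_i_rc_9_1 lc_i_rc_9_1 lc_i_Cert_tree lc_i_rc_54_0 lc_i_rc_9_1 lc_i_rc_26_1 lc_i_rc_26_1 lc_i_Cert_tree lc_i_Cert_tree lc_i_rc_54_0 lc_i_rc_18_1 lc_i_Cert_tree lc_i_rc_18_1 lc_i_Cert_tree lc_i_rc_54_0 lc_i_rc_46_1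 lc_i_rc_39_1 lc_i_Cert_tree lc_i_Cert_tree lc_i_rc_54_0 lc_i_Cert_tree lc_i_rc_54_0 lc_i_rc_18_1 lc_i_Cert_tree) (@D3.rec (fun _ => (Cert rels S Gen.i)) lc_i_rc_9_1 lc_i_rc_9_1 lc_i_Cert_tree lc_i_Cert_tree lc_i_rc_54_0 lc_i_rc_9_1 lc_i_Cert_tree lc_i_rc_9_1 lc_i_Cert_tree lc_i_rc_54_0 lc_i_rc_33_1 lc_i_rc_26_1 lc_i_Cert_tree lc_i_rc_26_1 lc_i_Cert_tree lc_i_Cert_tree lc_i_rc_54_0 lc_i_Cert_tree lc_i_rc_54_0 lc_i_rc_18_1 lc_i_rc_18_1 lc_i_Cert_tree lc_i_Cert_tree lc_i_rc_54_0 lc_i_Cert_tree lc_i_rc_54_0 lc_i_rc_46_1 lc_i_Cert_tree lc_i_Cert_tree lc_i_Cert_tree lc_i_rc_54_0 lc_i_Cert_tree lc_i_rc_54_0 lc_i_rc_54_0 lc_i_rc_18_1 lc_i_rc_26_1 lc_i_Cert_tree lc_i_rc_9_1 lc_i_rc_9_1 lc_i_Cert_tree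 lc_i_rc_54_0 lc_i_rc_9_1 lc_i_rc_26_1 lc_i_rc_26_1 lc_i_Cert_tree lc_i_Cert_tree lc_i_rc_54_0 lc_i_rc_39_1 lc_i_Cert_tree lc_i_rc_33_1 lc_i_Cert_tree) (@D3.rec (fun _ => (Cert rels S Gen.i)) lc_i_rc_54_0 lc_i_rc_46_1 lc_i_rc_39_1 lc_i_Cert_tree lc_i_Cert_tree lc_i_rc_54_0 lc_i_Cert_tree lc_i_rc_54_0 lc_i_rc_18_1 lc_i_Cert_tree lc_i_rc_9_1 lc_i_rc_9_1 lc_i_Cert_tree lc_i_Cert_tree lc_i_rc_54_0 lc_i_rc_9_1 lc_i_Cert_tree lc_i_rc_9_1 lc_i_Cert_tree lc_i_rc_54_0 lc_i_rc_33_1 lc_i_rc_26_1 lc_i_Cert_tree lc_i_rc_26_1 lc_i_Cert_tree lc_i_Cert_tree lc_i_rc_54_0 lc_i_Cert_tree lc_i_rc_54_0 lc_i_rc_18_1 lc_i_rc_18_1 lc_i_Cert_tree lc_i_Cert_tree lc_i_rc_54_0 lc_i_Cert_tree lc_i_rc_54_0 lc_i_rc_46_1 lc_i_Cert_tree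 lc_i_Cert_tree lc_i_Cert_tree lc_i_rc_54_0 lc_i_Cert_tree lc_i_rc_54_0 lc_i_rc_54_0 lc_i_rc_18_1 lc_i_rc_18_1 lc_i_Cert_tree lc_i_rc_54_0 lc_i_rc_9_1 lc_i_rc_9_1 lc_i_Cert_tree) (@D3.rec (fun _ => (Cert rels S Gen.i)) lc_i_rc_9_1 lc_i_Cert_tree lc_i_Cert_tree lc_i_rc_54_0 lc_i_rc_54_0 lc_i_rc_9_1 lc_i_rc_9_1 lc_i_Cert_tree lc_i_Cert_tree lc_i_rc_54_0 lc_i_Cert_tree lc_i_rc_54_0 lc_i_rc_33_1 lc_i_Cert_tree lc_i_rc_26_1 lc_i_rc_26_1 lc_i_Cert_tree lc_i_Cert_tree lc_i_rc_54_0 lc_i_Cert_tree lc_i_Cert_tree lc_i_rc_54_0 lc_i_Cert_tree lc_i_rc_54_0 lc_i_Cert_tree lc_i_rc_54_0 lc_i_rc_41_3 lc_i_rc_18_1 lc_i_Cert_tree lc_i_Cert_tree lc_i_Cert_tree lc_i_rc_54_0 lc_i_Cert_tree lc_i_rc_54_0 lc_i_rc_54_0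 lc_i_rc_50_1 lc_i_Cert_tree lc_i_Cert_tree lc_i_rc_54_0 lc_i_Cert_tree lc_i_rc_54_0 lc_i_Cert_tree lc_i_rc_54_0 lc_i_Cert_tree lc_i_rc_54_0 lc_i_rc_41_3 lc_i_rc_18_1 lc_i_Cert_tree lc_i_rc_26_1 lc_i_Cert_tree lc_i_Cert_tree) (@D3.rec (fun _ => (Cert rels S Gen.i)) lc_i_rc_54_0 lc_i_rc_9_1 lc_i_Cert_tree lc_i_rc_54_0 lc_i_rc_26_1 lc_i_Cert_tree lc_i_rc_26_1 lc_i_Cert_tree lc_i_Cert_tree lc_i_rc_54_0 lc_i_Cert_tree lc_i_rc_54_0 lc_i_rc_46_1 lc_i_rc_39_1 lc_i_Cert_tree lc_i_rc_54_0 lc_i_Cert_tree lc_i_rc_54_0 lc_i_rc_46_1 lc_i_Cert_tree lc_i_Cert_tree lc_i_Cert_tree lc_i_rc_54_0 lc_i_Cert_tree lc_i_rc_54_0 lc_i_rc_54_0 lc_i_rc_18_1 lc_i_rc_18_1 lc_i_Cert_tree lc_i_rc_54_0 lc_i_rc_9_1 lc_i_Cert_tree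 lc_i_rc_9_1 lc_i_Cert_tree lc_i_Cert_tree lc_i_rc_54_0 lc_i_rc_54_0 lc_i_rc_9_1 lc_i_rc_9_1 lc_i_Cert_tree lc_i_rc_54_0 lc_i_Cert_tree lc_i_rc_54_0 lc_i_rc_33_1 lc_i_Cert_tree lc_i_rc_26_1 lc_i_rc_26_1 lc_i_Cert_tree lc_i_Cert_tree lc_i_rc_54_0 lc_i_Cert_tree) (@D3.rec (fun _ => (Cert rels S Gen.i)) lc_i_Cert_tree lc_i_rc_54_0 lc_i_Cert_tree lc_i_rc_54_0 lc_i_Cert_tree lc_i_rc_54_0 lc_i_rc_41_3 lc_i_rc_18_1 lc_i_Cert_tree lc_i_Cert_tree lc_i_Cert_tree lc_i_rc_54_0 lc_i_Cert_tree lc_i_rc_54_0 lc_i_rc_54_0 lc_i_rc_50_1 lc_i_Cert_tree lc_i_Cert_tree lc_i_rc_54_0 lc_i_Cert_tree lc_i_rc_54_0 lc_i_Cert_tree lc_i_rc_54_0 lc_i_Cert_tree lc_i_rc_54_0 lc_i_rc_41_3 lc_i_rc_18_1 lc_i_rc_18_1 lc_i_Cert_tree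 lc_i_rc_18_1 lc_i_Cert_tree lc_i_rc_54_0 lc_i_rc_9_1 lc_i_Cert_tree lc_i_rc_9_1 lc_i_rc_9_1 lc_i_Cert_tree lc_i_Cert_tree lc_i_rc_54_0 lc_i_Cert_tree lc_i_Cert_tree lc_i_rc_54_0 lc_i_Cert_tree lc_i_rc_54_0 lc_i_rc_41_3 lc_i_rc_9_1 lc_i_Cert_tree lc_i_Cert_tree lc_i_Cert_tree lc_i_rc_54_0 lc_i_Cert_tree) (@D3.rec (fun _ => (Cert rels S Gen.i)) lc_i_rc_54_0 lc_i_rc_54_0 lc_i_rc_33_1 lc_i_rc_33_1 lc_i_Cert_tree lc_i_Cert_tree lc_i_rc_54_0 lc_i_rc_26_1 lc_i_Cert_tree lc_i_Cert_tree lc_i_Cert_tree lc_i_rc_54_0 lc_i_Cert_tree lc_i_Cert_tree lc_i_rc_54_0 lc_i_Cert_tree lc_i_rc_54_0 lc_i_Cert_tree lc_i_rc_54_0 lc_i_Cert_tree lc_i_rc_54_0 lc_i_rc_41_3 lc_i_Cert_tree lc_i_rc_54_0 lc_i_rc_41_3 lc_i_rc_18_1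 lc_i_Cert_tree lc_i_Cert_tree lc_i_rc_54_0 lc_i_Cert_tree lc_i_rc_54_0 lc_i_Cert_tree lc_i_rc_54_0 lc_i_Cert_tree lc_i_rc_54_0 lc_i_rc_18_1 lc_i_Cert_tree lc_i_Cert_tree lc_i_rc_54_0 lc_i_Cert_tree lc_i_Cert_tree lc_i_rc_54_0 lc_i_Cert_tree lc_i_rc_54_0 lc_i_Cert_tree lc_i_rc_54_0 lc_i_rc_41_3 lc_i_Cert_tree lc_i_rc_54_0 lc_i_rc_26_1 lc_i_rc_18_1) (@D3.rec (fun _ => (Cert rels S Gen.i)) lc_i_rc_18_1 lc_i_rc_26_1 lc_i_rc_39_3 lc_i_rc_9_1 lc_i_rc_33_1 lc_i_rc_33_1 lc_i_Cert_tree lc_i_rc_54_0 lc_i_rc_26_1 lc_i_rc_18_1 lc_i_rc_9_1 lc_i_rc_9_1 lc_i_rc_9_1 lc_i_rc_9_1 lc_i_rc_18_1 lc_i_Cert_tree lc_i_Cert_tree lc_i_rc_54_0 lc_i_rc_26_3 lc_i_rc_26_1 lc_i_rc_54_0 lc_i_rc_26_3 lc_i_rc_54_0 lc_i_Cert_tree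 lc_i_rc_54_0 lc_i_rc_41_3 lc_i_Cert_tree lc_i_rc_54_0 lc_i_rc_26_1 lc_i_rc_9_1 lc_i_rc_9_1 lc_i_Cert_tree lc_i_rc_54_0 lc_i_rc_9_1 lc_i_rc_9_1 lc_i_rc_53_1 lc_i_rc_46_1 lc_i_rc_53_1 lc_i_rc_18_3 lc_i_rc_9_3 lc_i_rc_39_1 lc_i_rc_33_1 lc_i_Cert_tree lc_i_Cert_tree lc_i_Cert_tree lc_i_rc_54_0 lc_i_Cert_tree lc_i_rc_54_0 lc_i_rc_26_1 lc_i_rc_53_1 lc_i_rc_46_1) (@D3.rec (fun _ => (Cert rels S Gen.i)) lc_i_rc_53_1 lc_i_rc_18_3 lc_i_rc_9_3 lc_i_Cert_tree lc_i_Cert_tree lc_i_rc_54_0 lc_i_Cert_tree lc_i_Cert_tree lc_i_rc_54_0 lc_i_Cert_tree lc_i_rc_54_0 lc_i_Cert_tree lc_i_rc_54_0 lc_i_rc_18_1 lc_i_Cert_tree lc_i_rc_54_0 lc_i_rc_26_1 lc_i_Cert_tree lc_i_rc_54_0 lc_i_rc_46_3 lc_i_rc_50_1 lc_i_rc_54_0 lc_i_Cert_tree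 lc_i_rc_39_3 lc_i_rc_54_0 lc_i_rc_54_0 lc_i_rc_46_1 lc_i_Cert_tree lc_i_rc_54_0 lc_i_rc_41_3 lc_i_Cert_tree lc_i_rc_54_0 lc_i_rc_26_1 lc_i_rc_54_0 lc_i_rc_18_1 lc_i_rc_33_1 lc_i_rc_26_1 lc_i_rc_39_1 lc_i_rc_39_1 lc_i_rc_26_1 lc_i_rc_41_3 lc_i_rc_18_1 lc_i_rc_54_0 lc_i_rc_33_1 lc_i_rc_26_1 lc_i_rc_26_1 lc_i_rc_26_3 lc_i_rc_26_3 lc_i_rc_54_0 lc_i_rc_39_1 lc_i_rc_41_1) (@D3.rec (fun _ => (Cert rels S Gen.i)) lc_i_rc_46_1 lc_i_rc_26_1 lc_i_rc_26_1 lc_i_rc_41_3 lc_i_rc_18_1 lc_i_Cert_tree lc_i_rc_54_0 lc_i_rc_46_1 lc_i_rc_54_0 lc_i_rc_33_1 lc_i_rc_33_1 lc_i_rc_26_1 lc_i_rc_18_1 lc_i_rc_33_3 lc_i_Cert_tree lc_i_Cert_tree lc_i_rc_54_0 lc_i_rc_26_3 lc_i_rc_54_0 lc_i_rc_33_3 lc_i_rc_46_3 lc_i_rc_41_1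 lc_i_Cert_tree lc_i_rc_54_0 lc_i_rc_55_35 lc_i_rc_54_0 lc_i_rc_54_0 lc_i_rc_26_1 lc_i_rc_26_1 lc_i_Cert_tree lc_i_rc_54_0 lc_i_rc_18_1 lc_i_Cert_tree lc_i_rc_18_1 lc_i_Cert_tree lc_i_rc_54_0 lc_i_rc_54_0 lc_i_rc_54_0 lc_i_rc_54_0 lc_i_Cert_tree lc_i_rc_39_1 lc_i_rc_33_1 lc_i_Cert_tree lc_i_Cert_tree lc_i_rc_54_0 lc_i_rc_39_1 lc_i_Cert_tree lc_i_rc_39_1 lc_i_Cert_tree lc_i_rc_54_0 lc_i_rc_33_1) (@D3.rec (fun _ => (Cert rels S Gen.i)) lc_i_rc_26_1 lc_i_Cert_tree lc_i_Cert_tree lc_i_Cert_tree lc_i_rc_54_0 lc_i_Cert_tree lc_i_rc_54_0 lc_i_rc_33_1 lc_i_rc_33_1 lc_i_Cert_tree lc_i_Cert_tree lc_i_rc_54_0 lc_i_Cert_tree lc_i_rc_54_0 lc_i_Cert_tree lc_i_rc_41_3 lc_i_Cert_tree lc_i_rc_54_0 lc_i_Cert_tree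 lc_i_rc_54_0 lc_i_rc_54_0 lc_i_rc_54_0 lc_i_rc_54_0 lc_i_rc_33_1 lc_i_rc_26_1 lc_i_Cert_tree lc_i_rc_26_1 lc_i_Cert_tree lc_i_rc_54_0 lc_i_rc_18_1 lc_i_rc_18_1 lc_i_Cert_tree lc_i_Cert_tree lc_i_rc_54_0 lc_i_Cert_tree lc_i_rc_54_0 lc_i_rc_46_1 lc_i_Cert_tree lc_i_rc_54_0 lc_i_rc_54_0 lc_i_rc_54_0 lc_i_rc_39_1 lc_i_rc_54_0 lc_i_Cert_tree lc_i_rc_54_0 lc_i_rc_33_1 lc_i_rc_39_1 lc_i_Cert_tree lc_i_rc_50_1 lc_i_Cert_tree lc_i_Cert_tree) (@D3.rec (fun _ => (Cert rels S Gen.i)) lc_i_rc_54_0 lc_i_rc_54_0 lc_i_rc_39_1 lc_i_rc_39_1 lc_i_Cert_tree lc_i_Cert_tree lc_i_rc_54_0 lc_i_Cert_tree lc_i_rc_54_0 lc_i_rc_33_1 lc_i_Cert_tree lc_i_rc_26_1 lc_i_rc_26_1 lc_i_Cert_tree lc_i_Cert_tree lc_i_rc_54_0 lc_i_Cert_tree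 lc_i_Cert_tree lc_i_rc_54_0 lc_i_Cert_tree lc_i_rc_54_0 lc_i_Cert_tree lc_i_rc_54_0 lc_i_rc_18_1 lc_i_Cert_tree lc_i_Cert_tree lc_i_Cert_tree lc_i_rc_54_0 lc_i_Cert_tree lc_i_rc_54_0 lc_i_rc_54_0 lc_i_rc_39_3 lc_i_Cert_tree lc_i_Cert_tree lc_i_rc_54_0 lc_i_Cert_tree lc_i_rc_54_0 lc_i_Cert_tree lc_i_rc_54_0 lc_i_Cert_tree lc_i_rc_54_0 lc_i_rc_41_3 lc_i_Cert_tree lc_i_rc_54_0 lc_i_Cert_tree lc_i_rc_54_0 lc_i_rc_54_0 lc_i_rc_33_1 lc_i_Cert_tree lc_i_rc_26_1 lc_i_rc_26_1) (@D3.rec (fun _ => (Cert rels S Gen.i)) lc_i_Cert_tree lc_i_Cert_tree lc_i_rc_54_0 lc_i_Cert_tree lc_i_rc_54_0 lc_i_rc_18_1 lc_i_Cert_tree lc_i_Cert_tree lc_i_Cert_tree lc_i_rc_54_0 lc_i_Cert_tree lc_i_rc_54_0 lc_i_rc_54_0 lc_i_rc_50_1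 lc_i_Cert_tree lc_i_Cert_tree lc_i_rc_54_0 lc_i_Cert_tree lc_i_rc_54_0 lc_i_Cert_tree lc_i_rc_54_0 lc_i_Cert_tree lc_i_rc_54_0 lc_i_rc_41_3 lc_i_rc_9_1 lc_i_rc_50_1 lc_i_Cert_tree lc_i_rc_50_1 lc_i_Cert_tree lc_i_rc_54_0 lc_i_rc_9_1 lc_i_Cert_tree lc_i_rc_54_0 lc_i_rc_50_1 lc_i_Cert_tree lc_i_Cert_tree lc_i_rc_54_0 lc_i_Cert_tree lc_i_Cert_tree lc_i_rc_54_0 lc_i_Cert_tree lc_i_rc_54_0 lc_i_rc_26_3 lc_i_Cert_tree lc_i_Cert_tree lc_i_Cert_tree lc_i_rc_54_0 lc_i_Cert_tree lc_i_rc_54_0 lc_i_rc_54_0 lc_i_rc_33_1) (@D3.rec (fun _ => (Cert rels S Gen.i)) lc_i_rc_33_1 lc_i_Cert_tree lc_i_Cert_tree lc_i_rc_54_0 lc_i_rc_26_1 lc_i_Cert_tree lc_i_Cert_tree lc_i_Cert_tree lc_i_rc_54_0 lc_i_Cert_tree lc_i_Cert_tree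 lc_i_rc_54_0 lc_i_Cert_tree lc_i_rc_54_0 lc_i_Cert_tree lc_i_rc_54_0 lc_i_Cert_tree lc_i_rc_54_0 lc_i_Cert_tree lc_i_rc_54_0 lc_i_rc_18_1 lc_i_Cert_tree lc_i_Cert_tree lc_i_rc_54_0 lc_i_Cert_tree lc_i_rc_54_0 lc_i_Cert_tree lc_i_rc_54_0 lc_i_Cert_tree lc_i_rc_54_0 lc_i_rc_18_1 lc_i_Cert_tree lc_i_Cert_tree lc_i_rc_54_0 lc_i_Cert_tree lc_i_Cert_tree lc_i_rc_54_0 lc_i_Cert_tree lc_i_rc_54_0 lc_i_Cert_tree lc_i_rc_54_0 lc_i_rc_41_3 lc_i_Cert_tree lc_i_rc_54_0 lc_i_rc_26_1 lc_i_rc_18_1 lc_i_rc_9_1 lc_i_rc_9_1 lc_i_Cert_tree lc_i_rc_54_0 lc_i_rc_9_1) (@D3.rec (fun _ => (Cert rels S Gen.i)) lc_i_Cert_tree lc_i_rc_9_1 lc_i_Cert_tree lc_i_rc_54_0 lc_i_rc_33_1 lc_i_rc_26_1 lc_i_Cert_tree lc_i_rc_26_1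 lc_i_Cert_tree lc_i_Cert_tree lc_i_rc_54_0 lc_i_rc_54_0 lc_i_rc_18_1 lc_i_rc_18_1 lc_i_Cert_tree lc_i_Cert_tree lc_i_rc_54_0 lc_i_Cert_tree lc_i_rc_54_0 lc_i_rc_54_0 lc_i_rc_54_0 lc_i_rc_54_0 lc_i_rc_18_1 lc_i_rc_18_1 lc_i_rc_9_1 lc_i_rc_9_1 lc_i_Cert_tree lc_i_rc_9_1 lc_i_Cert_tree lc_i_rc_54_0 lc_i_rc_9_1 lc_i_rc_9_1 lc_i_Cert_tree lc_i_Cert_tree lc_i_rc_54_0 lc_i_Cert_tree lc_i_rc_54_0 lc_i_rc_33_1 lc_i_Cert_tree lc_i_rc_26_1 lc_i_rc_26_1 lc_i_Cert_tree lc_i_Cert_tree lc_i_rc_54_0 lc_i_Cert_tree lc_i_Cert_tree lc_i_rc_54_0 lc_i_Cert_tree lc_i_rc_54_0 lc_i_Cert_tree lc_i_rc_54_0) (@D3.rec (fun _ => (Cert rels S Gen.i)) lc_i_rc_41_1 lc_i_Cert_tree lc_i_Cert_tree lc_i_Cert_tree lc_i_rc_54_0 lc_i_Cert_tree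 lc_i_rc_54_0 lc_i_rc_54_0 lc_i_rc_18_3 lc_i_rc_18_3 lc_i_Cert_tree lc_i_rc_54_0 lc_i_Cert_tree lc_i_rc_54_0 lc_i_Cert_tree lc_i_rc_54_0 lc_i_Cert_tree lc_i_rc_54_0 lc_i_rc_41_3 lc_i_rc_18_1 lc_i_rc_18_1 lc_i_rc_9_1 lc_i_rc_9_1 lc_i_Cert_tree lc_i_rc_9_1 lc_i_Cert_tree lc_i_rc_54_0 lc_i_rc_9_1 lc_i_rc_9_1 lc_i_Cert_tree lc_i_Cert_tree lc_i_rc_54_0 lc_i_Cert_tree lc_i_rc_54_0 lc_i_rc_33_1 lc_i_Cert_tree lc_i_rc_26_1 lc_i_rc_26_1 lc_i_Cert_tree lc_i_Cert_tree lc_i_rc_54_0 lc_i_Cert_tree lc_i_Cert_tree lc_i_rc_54_0 lc_i_Cert_tree lc_i_rc_54_0 lc_i_rc_18_1 lc_i_Cert_tree lc_i_Cert_tree lc_i_Cert_tree lc_i_rc_54_0) (@D3.rec (fun _ => (Cert rels S Gen.i)) lc_i_Cert_tree lc_i_rc_54_0 lc_i_rc_54_0 lc_i_rc_50_1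 lc_i_Cert_tree lc_i_Cert_tree lc_i_rc_54_0 lc_i_rc_54_0 lc_i_rc_54_0 lc_i_Cert_tree lc_i_rc_54_0 lc_i_rc_41_3 lc_i_rc_26_1 lc_i_rc_18_1 lc_i_rc_18_1 lc_i_rc_9_1 lc_i_Cert_tree lc_i_rc_9_1 lc_i_rc_9_1 lc_i_Cert_tree lc_i_Cert_tree lc_i_rc_54_0 lc_i_Cert_tree lc_i_rc_54_0 lc_i_rc_9_1 lc_i_Cert_tree lc_i_Cert_tree lc_i_Cert_tree lc_i_rc_54_0 lc_i_Cert_tree lc_i_rc_54_0 lc_i_rc_54_0 lc_i_rc_33_1 lc_i_rc_33_1 lc_i_Cert_tree lc_i_Cert_tree lc_i_rc_54_0 lc_i_rc_26_1 lc_i_Cert_tree lc_i_Cert_tree lc_i_Cert_tree lc_i_rc_54_0 lc_i_Cert_tree lc_i_Cert_tree lc_i_rc_54_0 lc_i_Cert_tree lc_i_rc_54_0 lc_i_Cert_tree lc_i_rc_54_0 lc_i_Cert_tree lc_i_rc_54_0) (@D3.rec (fun _ => (Cert rels S Gen.i)) lc_i_Cert_tree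 lc_i_rc_54_0 lc_i_rc_18_1 lc_i_Cert_tree lc_i_Cert_tree lc_i_rc_54_0 lc_i_Cert_tree lc_i_rc_54_0 lc_i_Cert_tree lc_i_rc_54_0 lc_i_Cert_tree lc_i_rc_54_0 lc_i_rc_41_3 lc_i_Cert_tree lc_i_Cert_tree lc_i_rc_54_0 lc_i_Cert_tree lc_i_Cert_tree lc_i_rc_54_0 lc_i_Cert_tree lc_i_rc_54_0 lc_i_Cert_tree lc_i_rc_54_0 lc_i_rc_41_3 lc_i_Cert_tree lc_i_rc_54_0 lc_i_rc_26_1 lc_i_rc_18_1 lc_i_rc_18_1 lc_i_rc_9_1 lc_i_rc_9_1 lc_i_Cert_tree lc_i_Cert_tree lc_i_rc_54_0 lc_i_Cert_tree lc_i_rc_54_0 lc_i_rc_9_1 lc_i_Cert_tree lc_i_Cert_tree lc_i_rc_54_0 lc_i_rc_54_0 lc_i_rc_33_1 lc_i_rc_33_1 lc_i_Cert_tree lc_i_Cert_tree lc_i_rc_54_0 lc_i_rc_26_1 lc_i_Cert_tree lc_i_Cert_tree lc_i_Cert_tree lc_i_rc_54_0) (@D3.rec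 (fun _ => (Cert rels S Gen.i)) lc_i_Cert_tree lc_i_Cert_tree lc_i_rc_54_0 lc_i_Cert_tree lc_i_rc_54_0 lc_i_Cert_tree lc_i_rc_54_0 lc_i_rc_54_0 lc_i_rc_18_1 lc_i_Cert_tree lc_i_Cert_tree lc_i_rc_54_0 lc_i_Cert_tree lc_i_rc_54_0 lc_i_Cert_tree lc_i_rc_54_0 lc_i_Cert_tree lc_i_rc_54_0 lc_i_Cert_tree lc_i_Cert_tree lc_i_rc_54_0 lc_i_Cert_tree lc_i_Cert_tree lc_i_rc_54_0 lc_i_Cert_tree lc_i_rc_54_0 lc_i_Cert_tree lc_i_rc_54_0 lc_i_rc_41_3 lc_i_Cert_tree lc_i_rc_54_0 lc_i_rc_26_1 lc_i_rc_18_1 lc_i_Cert_tree lc_i_rc_18_1 lc_i_rc_18_1 lc_i_rc_9_1 lc_i_rc_9_1 lc_i_Cert_tree lc_i_Cert_tree lc_i_rc_54_0 lc_i_rc_9_1 lc_i_Cert_tree lc_i_Cert_tree lc_i_Cert_tree lc_i_rc_54_0 lc_i_Cert_tree lc_i_rc_54_0 lc_i_rc_54_0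 lc_i_rc_9_1 lc_i_Cert_tree) (@D3.rec (fun _ => (Cert rels S Gen.i)) lc_i_Cert_tree lc_i_rc_54_0 lc_i_Cert_tree lc_i_rc_54_0 lc_i_Cert_tree lc_i_rc_54_0 lc_i_Cert_tree lc_i_rc_54_0 lc_i_rc_39_1 lc_i_rc_33_1 lc_i_Cert_tree lc_i_Cert_tree lc_i_Cert_tree lc_i_rc_54_0 lc_i_Cert_tree lc_i_Cert_tree lc_i_rc_54_0 lc_i_rc_26_1 lc_i_Cert_tree lc_i_Cert_tree lc_i_rc_54_0 lc_i_Cert_tree lc_i_rc_54_0 lc_i_Cert_tree lc_i_Cert_tree lc_i_rc_54_0 lc_i_Cert_tree lc_i_Cert_tree lc_i_rc_54_0 lc_i_Cert_tree lc_i_rc_54_0 lc_i_rc_41_3 lc_i_Cert_tree lc_i_rc_54_0 lc_i_Cert_tree lc_i_rc_54_0 lc_i_Cert_tree lc_i_rc_54_0 lc_i_Cert_tree lc_i_rc_54_0 lc_i_Cert_tree lc_i_Cert_tree lc_i_rc_54_0 lc_i_Cert_tree lc_i_Cert_tree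 lc_i_rc_54_0 lc_i_Cert_tree lc_i_rc_54_0 lc_i_Cert_tree lc_i_rc_54_0 lc_i_rc_18_1) (@D3.rec (fun _ => (Cert rels S Gen.i)) lc_i_Cert_tree lc_i_rc_54_0 lc_i_rc_26_1 lc_i_Cert_tree lc_i_rc_54_0 lc_i_Cert_tree lc_i_Cert_tree lc_i_rc_54_0 lc_i_Cert_tree lc_i_rc_39_3 lc_i_rc_54_0 lc_i_rc_54_0 lc_i_rc_46_1 lc_i_Cert_tree lc_i_rc_54_0 lc_i_rc_41_3 lc_i_Cert_tree lc_i_rc_54_0 lc_i_rc_26_1 lc_i_rc_54_0 lc_i_rc_18_1 lc_i_rc_33_1 lc_i_rc_9_1 lc_i_rc_39_1 lc_i_rc_33_1 lc_i_Cert_tree lc_i_Cert_tree lc_i_rc_54_0 lc_i_rc_26_1 lc_i_rc_9_1 lc_i_rc_9_1 lc_i_rc_9_1 lc_i_rc_9_1 lc_i_rc_9_1 lc_i_rc_18_1 lc_i_rc_9_1 lc_i_Cert_tree lc_i_rc_54_0 lc_i_rc_39_1 lc_i_rc_50_1 lc_i_rc_54_0 lc_i_Cert_tree lc_i_rc_33_1 lc_i_rc_54_0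 lc_i_rc_54_0 lc_i_rc_46_1 lc_i_Cert_tree lc_i_rc_54_0 lc_i_rc_41_3 lc_i_Cert_tree lc_i_rc_54_0) (@D3.rec (fun _ => (Cert rels S Gen.i)) lc_i_rc_26_1 lc_i_rc_54_0 lc_i_rc_18_1 lc_i_rc_33_1 lc_i_rc_9_1 lc_i_rc_9_1 lc_i_Cert_tree lc_i_Cert_tree lc_i_rc_54_0 lc_i_rc_9_1 lc_i_rc_9_3 lc_i_rc_53_1 lc_i_rc_33_1 lc_i_rc_9_3 lc_i_rc_33_1 lc_i_rc_9_3 lc_i_rc_46_3 lc_i_rc_39_1 lc_i_Cert_tree lc_i_rc_33_1 lc_i_Cert_tree lc_i_Cert_tree lc_i_rc_54_0 lc_i_Cert_tree lc_i_rc_54_0 lc_i_Cert_tree lc_i_rc_54_0 lc_i_Cert_tree lc_i_rc_54_0 lc_i_rc_9_1 lc_i_rc_53_1 lc_i_rc_33_3 lc_i_rc_9_1 lc_i_rc_33_3 lc_i_rc_9_3 lc_i_rc_41_5 lc_i_rc_26_3 lc_i_rc_54_0 lc_i_Cert_tree lc_i_rc_26_3 lc_i_rc_54_0 lc_i_rc_33_3 lc_i_rc_33_3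 lc_i_rc_54_0 lc_i_rc_54_0 lc_i_rc_18_1 lc_i_rc_33_3 lc_i_rc_54_0 lc_i_rc_18_1 lc_i_Cert_tree lc_i_rc_54_0) (@D3.rec (fun _ => (Cert rels S Gen.i)) lc_i_rc_26_1 lc_i_rc_54_0 lc_i_rc_18_1 lc_i_rc_33_1 lc_i_rc_26_3 lc_i_rc_26_3 lc_i_rc_54_0 lc_i_rc_18_1 lc_i_rc_33_1 lc_i_rc_9_1 lc_i_rc_18_1 lc_i_rc_39_1 lc_i_rc_54_0 lc_i_rc_54_0 lc_i_Cert_tree lc_i_rc_54_0 lc_i_Cert_tree lc_i_rc_54_0 lc_i_rc_54_0 lc_i_rc_54_0 lc_i_Cert_tree lc_i_Cert_tree lc_i_rc_54_0 lc_i_Cert_tree lc_i_rc_54_0 lc_i_Cert_tree lc_i_rc_54_0 lc_i_Cert_tree lc_i_rc_54_0 lc_i_rc_41_3 lc_i_rc_54_0 lc_i_Cert_tree lc_i_rc_54_0 lc_i_Cert_tree lc_i_rc_54_0 lc_i_Cert_tree lc_i_rc_54_0 lc_i_Cert_tree lc_i_rc_54_0 lc_i_rc_41_3 lc_i_Cert_tree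 lc_i_rc_54_0 lc_i_Cert_tree lc_i_Cert_tree lc_i_rc_54_0 lc_i_Cert_tree lc_i_rc_54_0 lc_i_Cert_tree lc_i_rc_54_0 lc_i_rc_41_3 lc_i_Cert_tree) (@D3.rec (fun _ => (Cert rels S Gen.i)) lc_i_rc_54_0 lc_i_rc_26_1 lc_i_rc_54_0 lc_i_Cert_tree lc_i_rc_54_0 lc_i_rc_54_0 lc_i_Cert_tree lc_i_rc_54_0 lc_i_Cert_tree lc_i_rc_54_0 lc_i_Cert_tree lc_i_rc_54_0 lc_i_Cert_tree lc_i_rc_54_0 lc_i_rc_9_1 lc_i_Cert_tree lc_i_Cert_tree lc_i_rc_54_0 lc_i_rc_54_0 lc_i_rc_54_0 lc_i_Cert_tree lc_i_Cert_tree lc_i_rc_54_0 lc_i_Cert_tree lc_i_Cert_tree lc_i_rc_54_0 lc_i_Cert_tree lc_i_rc_54_0 lc_i_rc_53_1 lc_i_Cert_tree lc_i_rc_54_0 lc_i_Cert_tree lc_i_rc_54_0 lc_i_Cert_tree lc_i_rc_54_0 lc_i_rc_9_3 lc_i_rc_54_0 lc_i_Cert_tree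 lc_i_rc_54_0 lc_i_Cert_tree lc_i_Cert_tree lc_i_rc_54_0 lc_i_Cert_tree lc_i_rc_54_0 lc_i_Cert_tree lc_i_rc_54_0 lc_i_rc_41_3 lc_i_Cert_tree lc_i_rc_54_0 lc_i_rc_26_1 lc_i_rc_54_0) (@D3.rec (fun _ => (Cert rels S Gen.i)) lc_i_Cert_tree lc_i_rc_54_0 lc_i_Cert_tree lc_i_Cert_tree lc_i_rc_54_0 lc_i_rc_54_0 lc_i_rc_41_3 lc_i_Cert_tree lc_i_rc_54_0 lc_i_rc_41_3 lc_i_Cert_tree lc_i_rc_54_0 lc_i_rc_26_1 lc_i_rc_54_0 lc_i_rc_18_1 lc_i_rc_33_1 lc_i_Cert_tree lc_i_rc_54_0 lc_i_Cert_tree lc_i_rc_54_0 lc_i_Cert_tree lc_i_rc_54_0 lc_i_Cert_tree lc_i_rc_54_0 lc_i_rc_9_1 lc_i_Cert_tree lc_i_rc_54_0 lc_i_Cert_tree lc_i_Cert_tree lc_i_rc_54_0 lc_i_Cert_tree lc_i_rc_54_0 lc_i_Cert_tree lc_i_rc_54_0 lc_i_rc_9_1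 lc_i_Cert_tree lc_i_rc_54_0 lc_i_rc_9_1 lc_i_Cert_tree lc_i_rc_54_0 lc_i_Cert_tree lc_i_Cert_tree lc_i_rc_54_0 lc_i_Cert_tree lc_i_Cert_tree lc_i_rc_54_0 lc_i_Cert_tree lc_i_Cert_tree lc_i_rc_54_0 lc_i_Cert_tree lc_i_rc_54_0) (@D3.rec (fun _ => (Cert rels S Gen.i)) lc_i_rc_41_3 lc_i_Cert_tree lc_i_Cert_tree lc_i_rc_54_0 lc_i_Cert_tree lc_i_rc_54_0 lc_i_rc_41_3 lc_i_Cert_tree lc_i_rc_54_0 lc_i_rc_41_3 lc_i_Cert_tree lc_i_rc_54_0 lc_i_Cert_tree lc_i_rc_54_0 lc_i_Cert_tree lc_i_rc_54_0 lc_i_rc_54_0 lc_i_rc_54_0 lc_i_Cert_tree lc_i_rc_54_0 lc_i_Cert_tree lc_i_Cert_tree lc_i_rc_54_0 lc_i_rc_54_0 lc_i_rc_26_3 lc_i_rc_46_3 lc_i_rc_54_0 lc_i_rc_26_1 lc_i_Cert_tree lc_i_rc_54_0 lc_i_rc_26_1 lc_i_rc_54_0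 lc_i_rc_18_1 lc_i_rc_33_1 lc_i_rc_26_3 lc_i_rc_26_3 lc_i_rc_54_0 lc_i_rc_9_1 lc_i_rc_39_1 lc_i_Cert_tree lc_i_rc_33_3 lc_i_rc_54_0 lc_i_rc_46_3 lc_i_rc_54_0 lc_i_rc_39_3 lc_i_rc_54_0 lc_i_rc_9_1 lc_i_rc_54_0 lc_i_rc_18_1 lc_i_rc_9_1 lc_i_rc_18_1) (@D3.rec (fun _ => (Cert rels S Gen.i)) lc_i_rc_33_1 lc_i_rc_9_1 lc_i_rc_18_1 lc_i_rc_39_1 lc_i_rc_9_1 lc_i_rc_54_1 lc_i_Cert_tree lc_i_Cert_tree lc_i_rc_54_0 lc_i_rc_39_1 lc_i_rc_54_1 lc_i_rc_33_1 lc_i_rc_33_1 lc_i_Cert_tree lc_i_rc_54_0 lc_i_rc_26_1 lc_i_rc_18_1 lc_i_Cert_tree lc_i_Cert_tree lc_i_Cert_tree lc_i_rc_54_0 lc_i_rc_33_1 lc_i_rc_33_1 lc_i_Cert_tree lc_i_Cert_tree lc_i_Cert_tree lc_i_rc_54_0 lc_i_Cert_tree lc_i_Cert_tree lc_i_rc_54_0 lc_i_rc_9_1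 lc_i_rc_50_3 lc_i_rc_54_1 lc_i_rc_50_1 lc_i_rc_53_1 lc_i_Cert_tree lc_i_Cert_tree lc_i_rc_54_0 lc_i_rc_39_1 lc_i_rc_54_1 lc_i_Cert_tree lc_i_Cert_tree lc_i_Cert_tree lc_i_rc_54_0 lc_i_Cert_tree lc_i_rc_54_0 lc_i_rc_54_0 lc_i_Cert_tree lc_i_rc_54_0 lc_i_rc_33_1 lc_i_rc_39_1)
def ce_i_7 : D2 → D3 → (Cert rels S Gen.i) := @D2.rec (fun _ => D3 → (Cert rels S Gen.i)) (@D3.rec (fun _ => (Cert rels S Gen.i)) lc_i_rc_39_1 lc_i_rc_54_1 lc_i_rc_9_1 lc_i_rc_9_1 lc_i_Cert_tree lc_i_rc_54_0 lc_i_rc_39_1 lc_i_Cert_tree lc_i_Cert_tree lc_i_Cert_tree lc_i_rc_54_0 lc_i_Cert_tree lc_i_rc_54_0 lc_i_rc_39_1 lc_i_rc_26_3 lc_i_Cert_tree lc_i_Cert_tree lc_i_rc_54_0 lc_i_Cert_tree lc_i_rc_54_0 lc_i_rc_54_0 lc_i_Cert_tree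 lc_i_rc_54_0 lc_i_Cert_tree lc_i_rc_54_0 lc_i_rc_33_1 lc_i_rc_9_1 lc_i_rc_54_1 lc_i_rc_54_1 lc_i_rc_53_1 lc_i_rc_9_1 lc_i_Cert_tree lc_i_Cert_tree lc_i_rc_54_0 lc_i_rc_39_1 lc_i_Cert_tree lc_i_Cert_tree lc_i_Cert_tree lc_i_rc_54_0 lc_i_Cert_tree lc_i_rc_54_0 lc_i_Cert_tree lc_i_rc_54_0 lc_i_Cert_tree lc_i_rc_54_0 lc_i_Cert_tree lc_i_rc_54_0 lc_i_Cert_tree lc_i_Cert_tree lc_i_rc_54_0 lc_i_Cert_tree) (@D3.rec (fun _ => (Cert rels S Gen.i)) lc_i_Cert_tree lc_i_rc_54_0 lc_i_rc_54_0 lc_i_Cert_tree lc_i_Cert_tree lc_i_rc_54_0 lc_i_rc_54_0 lc_i_Cert_tree lc_i_rc_54_0 lc_i_rc_33_1 lc_i_rc_46_1 lc_i_rc_39_1 lc_i_Cert_tree lc_i_rc_54_0 lc_i_rc_41_1 lc_i_rc_41_3 lc_i_rc_54_0 lc_i_rc_33_1 lc_i_rc_33_1 lc_i_rc_39_1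 lc_i_rc_39_1 lc_i_rc_39_1 lc_i_rc_26_3 lc_i_rc_26_3 lc_i_rc_9_1 lc_i_rc_54_0 lc_i_rc_26_1 lc_i_rc_26_1 lc_i_rc_54_0 lc_i_Cert_tree lc_i_rc_54_0 lc_i_rc_54_0 lc_i_rc_54_0 lc_i_rc_54_0 lc_i_Cert_tree lc_i_rc_54_0 lc_i_rc_54_0 lc_i_Cert_tree lc_i_rc_54_0 lc_i_Cert_tree lc_i_rc_54_0 lc_i_Cert_tree lc_i_rc_54_0 lc_i_rc_54_0 lc_i_rc_54_0 lc_i_rc_54_0 lc_i_rc_54_0 lc_i_Cert_tree lc_i_rc_54_0 lc_i_Cert_tree lc_i_rc_54_0) (@D3.rec (fun _ => (Cert rels S Gen.i)) lc_i_Cert_tree lc_i_rc_54_0 lc_i_Cert_tree lc_i_rc_54_0 lc_i_rc_54_0 lc_i_rc_54_0 lc_i_Cert_tree lc_i_rc_54_0 lc_i_Cert_tree lc_i_rc_54_0 lc_i_Cert_tree lc_i_rc_54_0 lc_i_rc_41_3 lc_i_Cert_tree lc_i_rc_54_0 lc_i_Cert_tree lc_i_rc_54_0 lc_i_rc_54_0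 lc_i_Cert_tree lc_i_rc_54_0 lc_i_Cert_tree lc_i_rc_54_0 lc_i_Cert_tree lc_i_rc_54_0 lc_i_Cert_tree lc_i_rc_54_0 lc_i_rc_41_3 lc_i_rc_26_1 lc_i_rc_18_1 lc_i_rc_39_1 lc_i_rc_9_1 lc_i_rc_26_1 lc_i_rc_18_1 lc_i_rc_18_1 lc_i_rc_26_1 lc_i_rc_39_1 lc_i_rc_41_3 lc_i_rc_33_1 lc_i_rc_26_1 lc_i_rc_26_1 lc_i_rc_18_1 lc_i_rc_26_1 lc_i_rc_26_1 lc_i_rc_26_1 lc_i_rc_18_1 lc_i_rc_41_3 lc_i_rc_18_1 lc_i_rc_26_1 lc_i_rc_46_1 lc_i_rc_39_1 lc_i_rc_41_3) (@D3.rec (fun _ => (Cert rels S Gen.i)) lc_i_Cert_tree lc_i_rc_54_0 lc_i_rc_33_1 lc_i_rc_33_1 lc_i_rc_26_1 lc_i_rc_26_1 lc_i_rc_18_1 lc_i_rc_18_1 lc_i_rc_33_1 lc_i_rc_33_1 lc_i_rc_46_1 lc_i_rc_33_1 lc_i_rc_26_1 lc_i_rc_26_1 lc_i_Cert_tree lc_i_Cert_tree lc_i_rc_54_0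 lc_i_rc_18_1 lc_i_Cert_tree lc_i_rc_18_1 lc_i_Cert_tree lc_i_rc_54_0 lc_i_rc_46_1 lc_i_rc_39_1 lc_i_Cert_tree lc_i_Cert_tree lc_i_rc_54_0 lc_i_Cert_tree lc_i_rc_54_0 lc_i_rc_46_1 lc_i_Cert_tree lc_i_rc_39_1 lc_i_rc_50_1 lc_i_Cert_tree lc_i_Cert_tree lc_i_rc_54_0 lc_i_rc_39_1 lc_i_Cert_tree lc_i_rc_54_0 lc_i_rc_33_1 lc_i_rc_26_1 lc_i_Cert_tree lc_i_rc_26_1 lc_i_Cert_tree lc_i_Cert_tree lc_i_rc_54_0 lc_i_Cert_tree lc_i_rc_54_0 lc_i_rc_18_1 lc_i_rc_18_1 lc_i_Cert_tree) (@D3.rec (fun _ => (Cert rels S Gen.i)) lc_i_Cert_tree lc_i_rc_54_0 lc_i_rc_54_0 lc_i_rc_54_0 lc_i_rc_54_0 lc_i_rc_54_0 lc_i_rc_33_1 lc_i_rc_26_1 lc_i_Cert_tree lc_i_rc_26_1 lc_i_Cert_tree lc_i_Cert_tree lc_i_rc_54_0 lc_i_rc_54_0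 lc_i_rc_18_1 lc_i_rc_18_1 lc_i_Cert_tree lc_i_Cert_tree lc_i_rc_54_0 lc_i_Cert_tree lc_i_rc_54_0 lc_i_rc_46_1 lc_i_Cert_tree lc_i_Cert_tree lc_i_Cert_tree lc_i_rc_54_0 lc_i_Cert_tree lc_i_rc_54_0 lc_i_rc_54_0 lc_i_rc_39_1 lc_i_rc_50_1 lc_i_Cert_tree lc_i_Cert_tree lc_i_rc_54_0 lc_i_rc_33_1 lc_i_rc_39_1 lc_i_Cert_tree lc_i_rc_53_1 lc_i_Cert_tree lc_i_Cert_tree lc_i_rc_54_0 lc_i_Cert_tree lc_i_rc_54_0 lc_i_rc_39_1 lc_i_rc_39_1 lc_i_Cert_tree lc_i_Cert_tree lc_i_rc_54_0 lc_i_rc_54_0 lc_i_rc_33_1 lc_i_Cert_tree) (@D3.rec (fun _ => (Cert rels S Gen.i)) lc_i_rc_26_1 lc_i_rc_26_1 lc_i_Cert_tree lc_i_Cert_tree lc_i_rc_54_0 lc_i_Cert_tree lc_i_Cert_tree lc_i_rc_54_0 lc_i_Cert_tree lc_i_rc_54_0 lc_i_Cert_tree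 lc_i_rc_54_0 lc_i_rc_41_3 lc_i_rc_18_1 lc_i_Cert_tree lc_i_Cert_tree lc_i_Cert_tree lc_i_rc_54_0 lc_i_Cert_tree lc_i_rc_54_0 lc_i_rc_54_0 lc_i_rc_50_1 lc_i_Cert_tree lc_i_Cert_tree lc_i_rc_54_0 lc_i_rc_54_0 lc_i_rc_54_0 lc_i_Cert_tree lc_i_rc_54_0 lc_i_rc_41_3 lc_i_rc_33_1 lc_i_Cert_tree lc_i_rc_26_1 lc_i_rc_26_1 lc_i_Cert_tree lc_i_Cert_tree lc_i_rc_54_0 lc_i_Cert_tree lc_i_Cert_tree lc_i_rc_54_0 lc_i_Cert_tree lc_i_rc_54_0 lc_i_rc_41_3 lc_i_rc_18_1 lc_i_Cert_tree lc_i_Cert_tree lc_i_Cert_tree lc_i_rc_54_0 lc_i_Cert_tree lc_i_rc_54_0 lc_i_rc_54_0) (@D3.rec (fun _ => (Cert rels S Gen.i)) lc_i_rc_50_1 lc_i_Cert_tree lc_i_Cert_tree lc_i_rc_54_0 lc_i_Cert_tree lc_i_rc_54_0 lc_i_Cert_tree lc_i_rc_54_0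 lc_i_Cert_tree lc_i_rc_54_0 lc_i_rc_41_3 lc_i_rc_9_1 lc_i_rc_50_1 lc_i_Cert_tree lc_i_rc_53_1 lc_i_Cert_tree lc_i_Cert_tree lc_i_rc_54_0 lc_i_Cert_tree lc_i_rc_54_0 lc_i_rc_9_1 lc_i_Cert_tree lc_i_rc_50_1 lc_i_rc_53_1 lc_i_Cert_tree lc_i_Cert_tree lc_i_rc_54_0 lc_i_Cert_tree lc_i_Cert_tree lc_i_rc_54_0 lc_i_Cert_tree lc_i_rc_54_0 lc_i_Cert_tree lc_i_rc_54_0 lc_i_rc_9_1 lc_i_rc_26_3 lc_i_Cert_tree lc_i_Cert_tree lc_i_Cert_tree lc_i_rc_54_0 lc_i_Cert_tree lc_i_rc_54_0 lc_i_rc_54_0 lc_i_rc_33_1 lc_i_rc_33_1 lc_i_Cert_tree lc_i_Cert_tree lc_i_rc_54_0 lc_i_rc_26_1 lc_i_Cert_tree lc_i_Cert_tree) (@D3.rec (fun _ => (Cert rels S Gen.i)) lc_i_Cert_tree lc_i_rc_54_0 lc_i_Cert_tree lc_i_Cert_tree lc_i_rc_54_0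 lc_i_Cert_tree lc_i_rc_54_0 lc_i_Cert_tree lc_i_rc_54_0 lc_i_Cert_tree lc_i_rc_54_0 lc_i_rc_41_3 lc_i_Cert_tree lc_i_rc_54_0 lc_i_rc_41_3 lc_i_rc_18_1 lc_i_Cert_tree lc_i_Cert_tree lc_i_rc_54_0 lc_i_Cert_tree lc_i_rc_54_0 lc_i_Cert_tree lc_i_rc_54_0 lc_i_Cert_tree lc_i_rc_54_0 lc_i_rc_18_1 lc_i_Cert_tree lc_i_Cert_tree lc_i_rc_54_0 lc_i_Cert_tree lc_i_Cert_tree lc_i_rc_54_0 lc_i_Cert_tree lc_i_rc_54_0 lc_i_Cert_tree lc_i_rc_54_0 lc_i_rc_41_3 lc_i_Cert_tree lc_i_rc_54_0 lc_i_rc_26_1 lc_i_rc_18_1 lc_i_rc_26_1 lc_i_Cert_tree lc_i_rc_9_1 lc_i_rc_9_1 lc_i_Cert_tree lc_i_rc_54_0 lc_i_rc_9_1 lc_i_Cert_tree lc_i_Cert_tree lc_i_rc_54_0) (@D3.rec (fun _ => (Cert rels S Gen.i)) lc_i_Cert_tree lc_i_rc_33_1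 lc_i_Cert_tree lc_i_rc_54_0 lc_i_rc_39_1 lc_i_Cert_tree lc_i_Cert_tree lc_i_rc_54_0 lc_i_Cert_tree lc_i_rc_54_0 lc_i_rc_18_1 lc_i_Cert_tree lc_i_rc_9_1 lc_i_rc_9_1 lc_i_Cert_tree lc_i_Cert_tree lc_i_rc_54_0 lc_i_rc_9_1 lc_i_Cert_tree lc_i_rc_9_1 lc_i_Cert_tree lc_i_rc_54_0 lc_i_rc_33_1 lc_i_rc_26_1 lc_i_Cert_tree lc_i_rc_26_1 lc_i_Cert_tree lc_i_Cert_tree lc_i_rc_54_0 lc_i_Cert_tree lc_i_rc_54_0 lc_i_rc_18_1 lc_i_rc_18_1 lc_i_Cert_tree lc_i_Cert_tree lc_i_rc_54_0 lc_i_Cert_tree lc_i_rc_54_0 lc_i_rc_46_1 lc_i_Cert_tree lc_i_Cert_tree lc_i_Cert_tree lc_i_rc_54_0 lc_i_Cert_tree lc_i_rc_54_0 lc_i_rc_54_0 lc_i_rc_18_1 lc_i_rc_18_1 lc_i_Cert_tree lc_i_rc_54_0 lc_i_rc_9_1) (@D3.rec (fun _ => (Cert rels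 S Gen.i)) lc_i_rc_9_1 lc_i_Cert_tree lc_i_rc_9_1 lc_i_Cert_tree lc_i_Cert_tree lc_i_rc_54_0 lc_i_rc_54_0 lc_i_rc_9_1 lc_i_rc_9_1 lc_i_Cert_tree lc_i_Cert_tree lc_i_rc_54_0 lc_i_Cert_tree lc_i_rc_54_0 lc_i_rc_33_1 lc_i_Cert_tree lc_i_rc_26_1 lc_i_rc_26_1 lc_i_Cert_tree lc_i_Cert_tree lc_i_rc_54_0 lc_i_Cert_tree lc_i_Cert_tree lc_i_rc_54_0 lc_i_Cert_tree lc_i_rc_54_0 lc_i_Cert_tree lc_i_rc_54_0 lc_i_rc_41_3 lc_i_rc_18_1 lc_i_Cert_tree lc_i_Cert_tree lc_i_Cert_tree lc_i_rc_54_0 lc_i_Cert_tree lc_i_rc_54_0 lc_i_rc_54_0 lc_i_rc_50_1 lc_i_rc_54_0 lc_i_rc_54_0 lc_i_rc_54_0 lc_i_Cert_tree lc_i_rc_54_0 lc_i_rc_41_3 lc_i_Cert_tree lc_i_rc_26_1 lc_i_Cert_tree lc_i_Cert_tree lc_i_rc_54_0 lc_i_rc_9_1 lc_i_Cert_tree)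 (@D3.rec (fun _ => (Cert rels S Gen.i)) lc_i_rc_9_1 lc_i_Cert_tree lc_i_rc_54_0 lc_i_Cert_tree lc_i_Cert_tree lc_i_Cert_tree lc_i_rc_54_0 lc_i_Cert_tree lc_i_rc_54_0 lc_i_rc_46_1 lc_i_Cert_tree lc_i_Cert_tree lc_i_rc_54_0 lc_i_Cert_tree lc_i_rc_54_0 lc_i_rc_46_1 lc_i_Cert_tree lc_i_Cert_tree lc_i_Cert_tree lc_i_rc_54_0 lc_i_Cert_tree lc_i_rc_54_0 lc_i_rc_54_0 lc_i_rc_18_1 lc_i_rc_18_1 lc_i_Cert_tree lc_i_rc_54_0 lc_i_rc_9_1 lc_i_rc_9_1 lc_i_Cert_tree lc_i_rc_9_1 lc_i_Cert_tree lc_i_Cert_tree lc_i_rc_54_0 lc_i_rc_54_0 lc_i_rc_9_1 lc_i_rc_9_1 lc_i_Cert_tree lc_i_Cert_tree lc_i_rc_54_0 lc_i_Cert_tree lc_i_rc_54_0 lc_i_rc_33_1 lc_i_Cert_tree lc_i_rc_26_1 lc_i_rc_26_1 lc_i_Cert_tree lc_i_Cert_tree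 lc_i_rc_54_0 lc_i_Cert_tree lc_i_Cert_tree) (@D3.rec (fun _ => (Cert rels S Gen.i)) lc_i_rc_54_0 lc_i_Cert_tree lc_i_rc_54_0 lc_i_Cert_tree lc_i_rc_54_0 lc_i_rc_41_3 lc_i_rc_18_1 lc_i_Cert_tree lc_i_Cert_tree lc_i_Cert_tree lc_i_rc_54_0 lc_i_Cert_tree lc_i_rc_54_0 lc_i_rc_54_0 lc_i_rc_50_1 lc_i_Cert_tree lc_i_Cert_tree lc_i_rc_54_0 lc_i_Cert_tree lc_i_rc_54_0 lc_i_Cert_tree lc_i_rc_54_0 lc_i_Cert_tree lc_i_rc_54_0 lc_i_rc_41_3 lc_i_rc_18_1 lc_i_rc_18_1 lc_i_Cert_tree lc_i_rc_18_1 lc_i_Cert_tree lc_i_rc_54_0 lc_i_rc_9_1 lc_i_Cert_tree lc_i_rc_9_1 lc_i_rc_9_1 lc_i_Cert_tree lc_i_Cert_tree lc_i_rc_54_0 lc_i_Cert_tree lc_i_Cert_tree lc_i_rc_54_0 lc_i_Cert_tree lc_i_rc_54_0 lc_i_rc_41_3 lc_i_rc_9_1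 lc_i_Cert_tree lc_i_Cert_tree lc_i_Cert_tree lc_i_rc_54_0 lc_i_Cert_tree lc_i_rc_54_0) (@D3.rec (fun _ => (Cert rels S Gen.i)) lc_i_rc_54_0 lc_i_rc_33_1 lc_i_rc_33_1 lc_i_Cert_tree lc_i_Cert_tree lc_i_rc_54_0 lc_i_rc_26_1 lc_i_Cert_tree lc_i_Cert_tree lc_i_Cert_tree lc_i_rc_54_0 lc_i_Cert_tree lc_i_Cert_tree lc_i_rc_54_0 lc_i_Cert_tree lc_i_rc_54_0 lc_i_Cert_tree lc_i_rc_54_0 lc_i_Cert_tree lc_i_rc_54_0 lc_i_rc_41_3 lc_i_Cert_tree lc_i_rc_54_0 lc_i_rc_41_3 lc_i_rc_18_1 lc_i_Cert_tree lc_i_Cert_tree lc_i_rc_54_0 lc_i_Cert_tree lc_i_rc_54_0 lc_i_Cert_tree lc_i_rc_54_0 lc_i_Cert_tree lc_i_rc_54_0 lc_i_rc_46_1 lc_i_Cert_tree lc_i_Cert_tree lc_i_rc_54_0 lc_i_Cert_tree lc_i_Cert_tree lc_i_rc_54_0 lc_i_rc_54_0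 lc_i_Cert_tree lc_i_rc_54_0 lc_i_rc_41_3 lc_i_Cert_tree lc_i_rc_54_0 lc_i_rc_26_1 lc_i_Cert_tree lc_i_Cert_tree lc_i_rc_54_0) (@D3.rec (fun _ => (Cert rels S Gen.i)) lc_i_Cert_tree lc_i_Cert_tree lc_i_rc_54_0 lc_i_rc_54_0 lc_i_Cert_tree lc_i_rc_54_0 lc_i_Cert_tree lc_i_Cert_tree lc_i_rc_54_0 lc_i_Cert_tree lc_i_Cert_tree lc_i_rc_54_0 lc_i_Cert_tree lc_i_rc_54_0 lc_i_Cert_tree lc_i_rc_54_0 lc_i_rc_41_3 lc_i_Cert_tree lc_i_Cert_tree lc_i_rc_54_0 lc_i_rc_54_0 lc_i_Cert_tree lc_i_Cert_tree lc_i_rc_54_0 lc_i_Cert_tree lc_i_rc_54_0 lc_i_Cert_tree lc_i_rc_54_0 lc_i_Cert_tree lc_i_rc_54_0 lc_i_rc_18_1 lc_i_Cert_tree lc_i_rc_18_1 lc_i_Cert_tree lc_i_rc_54_0 lc_i_rc_9_1 lc_i_rc_9_1 lc_i_Cert_tree lc_i_Cert_tree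 lc_i_rc_54_0 lc_i_Cert_tree lc_i_Cert_tree lc_i_rc_54_0 lc_i_Cert_tree lc_i_rc_54_0 lc_i_rc_41_3 lc_i_rc_9_1 lc_i_Cert_tree lc_i_Cert_tree lc_i_rc_54_0 lc_i_rc_54_0) (@D3.rec (fun _ => (Cert rels S Gen.i)) lc_i_rc_33_1 lc_i_rc_33_1 lc_i_Cert_tree lc_i_Cert_tree lc_i_rc_54_0 lc_i_rc_26_1 lc_i_Cert_tree lc_i_Cert_tree lc_i_Cert_tree lc_i_rc_54_0 lc_i_Cert_tree lc_i_Cert_tree lc_i_rc_54_0 lc_i_Cert_tree lc_i_rc_54_0 lc_i_Cert_tree lc_i_rc_54_0 lc_i_Cert_tree lc_i_rc_54_0 lc_i_rc_41_3 lc_i_Cert_tree lc_i_rc_54_0 lc_i_rc_41_3 lc_i_rc_18_1 lc_i_Cert_tree lc_i_Cert_tree lc_i_rc_54_0 lc_i_Cert_tree lc_i_rc_54_0 lc_i_Cert_tree lc_i_rc_54_0 lc_i_Cert_tree lc_i_rc_54_0 lc_i_Cert_tree lc_i_Cert_tree lc_i_rc_54_0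 lc_i_Cert_tree lc_i_Cert_tree lc_i_rc_54_0 lc_i_Cert_tree lc_i_rc_54_0 lc_i_Cert_tree lc_i_rc_54_0 lc_i_rc_41_3 lc_i_Cert_tree lc_i_rc_54_0 lc_i_rc_26_1 lc_i_rc_18_1 lc_i_Cert_tree lc_i_rc_18_1 lc_i_rc_18_1) (@D3.rec (fun _ => (Cert rels S Gen.i)) lc_i_Cert_tree lc_i_Cert_tree lc_i_rc_54_0 lc_i_Cert_tree lc_i_rc_54_0 lc_i_rc_9_1 lc_i_rc_9_1 lc_i_Cert_tree lc_i_Cert_tree lc_i_rc_54_0 lc_i_rc_9_1 lc_i_Cert_tree lc_i_Cert_tree lc_i_Cert_tree lc_i_rc_54_0 lc_i_Cert_tree lc_i_Cert_tree lc_i_rc_54_0 lc_i_Cert_tree lc_i_rc_54_0 lc_i_Cert_tree lc_i_rc_54_0 lc_i_rc_54_0 lc_i_rc_41_3 lc_i_rc_9_1 lc_i_Cert_tree lc_i_Cert_tree lc_i_rc_54_0 lc_i_Cert_tree lc_i_rc_54_0 lc_i_Cert_tree lc_i_rc_54_0 lc_i_Cert_tree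 lc_i_rc_54_0 lc_i_rc_39_1 lc_i_rc_33_1 lc_i_Cert_tree lc_i_Cert_tree lc_i_Cert_tree lc_i_rc_54_0 lc_i_Cert_tree lc_i_Cert_tree lc_i_rc_54_0 lc_i_rc_26_1 lc_i_Cert_tree lc_i_Cert_tree lc_i_rc_54_0 lc_i_Cert_tree lc_i_rc_54_0 lc_i_Cert_tree lc_i_Cert_tree) (@D3.rec (fun _ => (Cert rels S Gen.i)) lc_i_rc_54_0 lc_i_Cert_tree lc_i_Cert_tree lc_i_rc_54_0 lc_i_Cert_tree lc_i_rc_54_0 lc_i_rc_41_3 lc_i_Cert_tree lc_i_rc_54_0 lc_i_Cert_tree lc_i_rc_54_0 lc_i_rc_41_3 lc_i_Cert_tree lc_i_rc_54_0 lc_i_rc_41_3 lc_i_Cert_tree lc_i_rc_54_0 lc_i_rc_46_1 lc_i_Cert_tree lc_i_Cert_tree lc_i_rc_54_0 lc_i_Cert_tree lc_i_Cert_tree lc_i_rc_54_0 lc_i_Cert_tree lc_i_rc_54_0 lc_i_Cert_tree lc_i_rc_54_0 lc_i_rc_18_1 lc_i_Cert_tree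 lc_i_rc_54_0 lc_i_rc_26_1 lc_i_Cert_tree lc_i_rc_54_0 lc_i_Cert_tree lc_i_Cert_tree lc_i_rc_54_0 lc_i_Cert_tree lc_i_Cert_tree lc_i_rc_54_0 lc_i_rc_54_0 lc_i_rc_46_1 lc_i_Cert_tree lc_i_rc_54_0 lc_i_rc_41_3 lc_i_Cert_tree lc_i_rc_54_0 lc_i_rc_26_1 lc_i_rc_54_0 lc_i_rc_18_1 lc_i_rc_33_1) (@D3.rec (fun _ => (Cert rels S Gen.i)) lc_i_rc_26_1 lc_i_rc_9_1 lc_i_rc_39_1 lc_i_rc_33_1 lc_i_Cert_tree lc_i_Cert_tree lc_i_rc_54_0 lc_i_rc_26_1 lc_i_rc_9_1 lc_i_rc_9_1 lc_i_rc_9_1 lc_i_rc_9_1 lc_i_rc_9_1 lc_i_rc_18_1 lc_i_rc_33_3 lc_i_rc_54_0 lc_i_rc_26_3 lc_i_rc_26_1 lc_i_rc_54_0 lc_i_rc_39_1 lc_i_rc_46_1 lc_i_rc_41_3 lc_i_rc_54_0 lc_i_rc_26_1 lc_i_rc_54_0 lc_i_rc_18_1 lc_i_rc_33_1 lc_i_rc_9_1 lc_i_rc_9_1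 lc_i_Cert_tree lc_i_Cert_tree lc_i_rc_54_0 lc_i_rc_9_1 lc_i_rc_9_3 lc_i_rc_53_1 lc_i_rc_33_1 lc_i_rc_9_3 lc_i_rc_33_1 lc_i_rc_9_3 lc_i_rc_41_5 lc_i_rc_39_1 lc_i_Cert_tree lc_i_rc_33_1 lc_i_Cert_tree lc_i_Cert_tree lc_i_rc_54_0 lc_i_Cert_tree lc_i_rc_54_0 lc_i_Cert_tree lc_i_rc_54_0 lc_i_Cert_tree) (@D3.rec (fun _ => (Cert rels S Gen.i)) lc_i_rc_54_0 lc_i_rc_9_1 lc_i_rc_53_1 lc_i_rc_33_3 lc_i_rc_9_1 lc_i_rc_33_3 lc_i_rc_9_3 lc_i_rc_46_1 lc_i_Cert_tree lc_i_rc_54_0 lc_i_Cert_tree lc_i_Cert_tree lc_i_rc_54_0 lc_i_Cert_tree lc_i_Cert_tree lc_i_rc_54_0 lc_i_rc_54_0 lc_i_rc_18_1 lc_i_Cert_tree lc_i_rc_54_0 lc_i_rc_18_1 lc_i_Cert_tree lc_i_rc_54_0 lc_i_rc_26_1 lc_i_rc_54_0 lc_i_rc_18_1 lc_i_rc_33_1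 lc_i_rc_50_3 lc_i_rc_46_1 lc_i_rc_54_0 lc_i_rc_26_3 lc_i_rc_46_1 lc_i_Cert_tree lc_i_rc_26_3 lc_i_rc_54_0 lc_i_rc_26_1 lc_i_rc_39_1 lc_i_Cert_tree lc_i_rc_54_0 lc_i_rc_26_1 lc_i_rc_54_0 lc_i_rc_18_1 lc_i_rc_33_1 lc_i_rc_9_1 lc_i_rc_18_1 lc_i_rc_39_1 lc_i_rc_26_1 lc_i_rc_26_1 lc_i_rc_26_3 lc_i_rc_33_1 lc_i_rc_33_1) (@D3.rec (fun _ => (Cert rels S Gen.i)) lc_i_rc_26_1 lc_i_rc_41_3 lc_i_rc_18_1 lc_i_rc_54_0 lc_i_rc_33_1 lc_i_rc_26_1 lc_i_rc_33_3 lc_i_rc_46_3 lc_i_rc_39_1 lc_i_Cert_tree lc_i_rc_54_0 lc_i_rc_54_0 lc_i_rc_46_1 lc_i_rc_41_1 lc_i_rc_39_1 lc_i_rc_46_1 lc_i_rc_18_3 lc_i_rc_54_0 lc_i_rc_41_5 lc_i_rc_41_3 lc_i_rc_33_1 lc_i_rc_26_1 lc_i_Cert_tree lc_i_Cert_tree lc_i_rc_54_0 lc_i_rc_54_0 lc_i_rc_54_0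 lc_i_rc_50_1 lc_i_Cert_tree lc_i_rc_54_0 lc_i_Cert_tree lc_i_Cert_tree lc_i_Cert_tree lc_i_rc_54_0 lc_i_rc_54_0 lc_i_rc_46_1 lc_i_Cert_tree lc_i_Cert_tree lc_i_rc_54_0 lc_i_Cert_tree lc_i_rc_54_0 lc_i_Cert_tree lc_i_rc_46_1 lc_i_Cert_tree lc_i_Cert_tree lc_i_rc_54_0 lc_i_rc_54_0 lc_i_Cert_tree lc_i_rc_54_0 lc_i_Cert_tree lc_i_rc_54_0) (@D3.rec (fun _ => (Cert rels S Gen.i)) lc_i_Cert_tree lc_i_rc_41_3 lc_i_Cert_tree lc_i_rc_54_0 lc_i_Cert_tree lc_i_rc_54_0 lc_i_rc_54_0 lc_i_rc_54_0 lc_i_rc_46_3 lc_i_rc_54_0 lc_i_Cert_tree lc_i_rc_54_0 lc_i_rc_33_1 lc_i_Cert_tree lc_i_rc_26_1 lc_i_rc_26_1 lc_i_Cert_tree lc_i_Cert_tree lc_i_rc_54_0 lc_i_Cert_tree lc_i_rc_54_0 lc_i_rc_18_1 lc_i_Cert_tree lc_i_rc_54_0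 lc_i_Cert_tree lc_i_rc_54_0 lc_i_rc_54_0 lc_i_rc_54_0 lc_i_rc_41_3 lc_i_rc_39_1 lc_i_rc_50_1 lc_i_Cert_tree lc_i_Cert_tree lc_i_rc_54_0 lc_i_rc_39_1 lc_i_Cert_tree lc_i_Cert_tree lc_i_rc_54_0 lc_i_Cert_tree lc_i_Cert_tree lc_i_rc_54_0 lc_i_Cert_tree lc_i_rc_54_0 lc_i_rc_39_1 lc_i_Cert_tree lc_i_Cert_tree lc_i_Cert_tree lc_i_rc_54_0 lc_i_rc_54_0 lc_i_rc_54_0 lc_i_rc_33_1) (@D3.rec (fun _ => (Cert rels S Gen.i)) lc_i_Cert_tree lc_i_Cert_tree lc_i_rc_54_0 lc_i_rc_26_1 lc_i_Cert_tree lc_i_Cert_tree lc_i_Cert_tree lc_i_rc_54_0 lc_i_Cert_tree lc_i_Cert_tree lc_i_rc_54_0 lc_i_rc_54_0 lc_i_Cert_tree lc_i_rc_54_0 lc_i_Cert_tree lc_i_rc_54_0 lc_i_Cert_tree lc_i_rc_54_0 lc_i_rc_39_3 lc_i_Cert_tree lc_i_Cert_tree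 lc_i_rc_54_0 lc_i_Cert_tree lc_i_rc_54_0 lc_i_Cert_tree lc_i_rc_54_0 lc_i_Cert_tree lc_i_rc_54_0 lc_i_rc_18_1 lc_i_Cert_tree lc_i_Cert_tree lc_i_rc_54_0 lc_i_Cert_tree lc_i_Cert_tree lc_i_rc_54_0 lc_i_Cert_tree lc_i_rc_54_0 lc_i_Cert_tree lc_i_rc_54_0 lc_i_rc_26_3 lc_i_Cert_tree lc_i_rc_54_0 lc_i_rc_18_3 lc_i_Cert_tree lc_i_rc_54_0 lc_i_Cert_tree lc_i_rc_54_0 lc_i_rc_41_3 lc_i_rc_33_1 lc_i_rc_33_1 lc_i_Cert_tree) (@D3.rec (fun _ => (Cert rels S Gen.i)) lc_i_Cert_tree lc_i_rc_54_0 lc_i_rc_26_1 lc_i_Cert_tree lc_i_Cert_tree lc_i_Cert_tree lc_i_rc_54_0 lc_i_Cert_tree lc_i_rc_54_0 lc_i_rc_54_0 lc_i_rc_18_1 lc_i_Cert_tree lc_i_Cert_tree lc_i_rc_54_0 lc_i_Cert_tree lc_i_rc_54_0 lc_i_Cert_tree lc_i_rc_54_0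 lc_i_Cert_tree lc_i_rc_54_0 lc_i_rc_18_1 lc_i_rc_54_0 lc_i_Cert_tree lc_i_rc_54_0 lc_i_Cert_tree lc_i_rc_54_0 lc_i_Cert_tree lc_i_rc_54_0 lc_i_rc_41_3 lc_i_Cert_tree lc_i_rc_54_0 lc_i_rc_26_1 lc_i_rc_9_1 lc_i_Cert_tree lc_i_rc_46_1 lc_i_rc_39_1 lc_i_Cert_tree lc_i_Cert_tree lc_i_rc_54_0 lc_i_Cert_tree lc_i_rc_54_0 lc_i_rc_33_1 lc_i_rc_33_1 lc_i_Cert_tree lc_i_Cert_tree lc_i_rc_54_0 lc_i_rc_46_1 lc_i_Cert_tree lc_i_Cert_tree lc_i_Cert_tree lc_i_rc_54_0) (@D3.rec (fun _ => (Cert rels S Gen.i)) lc_i_Cert_tree lc_i_Cert_tree lc_i_rc_54_0 lc_i_Cert_tree lc_i_rc_54_0 lc_i_Cert_tree lc_i_rc_54_0 lc_i_rc_54_0 lc_i_rc_26_3 lc_i_Cert_tree lc_i_Cert_tree lc_i_rc_54_0 lc_i_Cert_tree lc_i_rc_54_0 lc_i_Cert_tree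 lc_i_rc_54_0 lc_i_Cert_tree lc_i_rc_54_0 lc_i_rc_9_1 lc_i_rc_39_1 lc_i_rc_33_1 lc_i_Cert_tree lc_i_Cert_tree lc_i_Cert_tree lc_i_rc_54_0 lc_i_Cert_tree lc_i_Cert_tree lc_i_rc_54_0 lc_i_rc_26_1 lc_i_Cert_tree lc_i_Cert_tree lc_i_rc_54_0 lc_i_Cert_tree lc_i_rc_54_0 lc_i_Cert_tree lc_i_Cert_tree lc_i_rc_54_0 lc_i_Cert_tree lc_i_Cert_tree lc_i_rc_54_0 lc_i_Cert_tree lc_i_rc_54_0 lc_i_rc_41_3 lc_i_Cert_tree lc_i_rc_54_0 lc_i_Cert_tree lc_i_rc_54_0 lc_i_Cert_tree lc_i_rc_54_0 lc_i_Cert_tree lc_i_rc_54_0) (@D3.rec (fun _ => (Cert rels S Gen.i)) lc_i_Cert_tree lc_i_Cert_tree lc_i_rc_54_0 lc_i_Cert_tree lc_i_Cert_tree lc_i_rc_54_0 lc_i_Cert_tree lc_i_rc_54_0 lc_i_Cert_tree lc_i_rc_54_0 lc_i_rc_18_1 lc_i_Cert_tree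 lc_i_rc_54_0 lc_i_rc_26_1 lc_i_Cert_tree lc_i_rc_54_0 lc_i_Cert_tree lc_i_Cert_tree lc_i_rc_54_0 lc_i_Cert_tree lc_i_Cert_tree lc_i_rc_54_0 lc_i_rc_54_0 lc_i_rc_46_1 lc_i_Cert_tree lc_i_rc_54_0 lc_i_rc_41_3 lc_i_Cert_tree lc_i_rc_54_0 lc_i_rc_26_1 lc_i_rc_54_0 lc_i_rc_18_1 lc_i_rc_33_1 lc_i_rc_18_1 lc_i_rc_9_1 lc_i_rc_9_1 lc_i_Cert_tree lc_i_Cert_tree lc_i_rc_54_0 lc_i_rc_9_1 lc_i_rc_9_1 lc_i_Cert_tree lc_i_Cert_tree lc_i_rc_54_0 lc_i_Cert_tree lc_i_rc_54_0 lc_i_Cert_tree lc_i_rc_26_1 lc_i_Cert_tree lc_i_Cert_tree lc_i_rc_54_0) (@D3.rec (fun _ => (Cert rels S Gen.i)) lc_i_Cert_tree lc_i_Cert_tree lc_i_rc_54_0 lc_i_Cert_tree lc_i_rc_54_0 lc_i_rc_54_0 lc_i_Cert_tree lc_i_rc_54_0 lc_i_rc_54_0 lc_i_rc_41_3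 lc_i_Cert_tree lc_i_rc_26_1 lc_i_rc_26_1 lc_i_Cert_tree lc_i_Cert_tree lc_i_rc_54_0 lc_i_Cert_tree lc_i_rc_54_0 lc_i_rc_41_1 lc_i_Cert_tree lc_i_Cert_tree lc_i_Cert_tree lc_i_rc_54_0 lc_i_Cert_tree lc_i_rc_54_0 lc_i_rc_54_0 lc_i_rc_53_1 lc_i_Cert_tree lc_i_rc_54_0 lc_i_rc_46_1 lc_i_Cert_tree lc_i_Cert_tree lc_i_Cert_tree lc_i_rc_54_0 lc_i_Cert_tree lc_i_Cert_tree lc_i_rc_54_0 lc_i_rc_54_0 lc_i_rc_54_0 lc_i_Cert_tree lc_i_rc_54_0 lc_i_Cert_tree lc_i_rc_54_0 lc_i_rc_46_3 lc_i_rc_33_3 lc_i_Cert_tree lc_i_rc_54_0 lc_i_Cert_tree lc_i_rc_54_0 lc_i_Cert_tree lc_i_rc_54_0) (@D3.rec (fun _ => (Cert rels S Gen.i)) lc_i_Cert_tree lc_i_rc_54_0 lc_i_rc_41_3 lc_i_rc_18_3 lc_i_rc_18_3 lc_i_Cert_tree lc_i_rc_54_0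 lc_i_Cert_tree lc_i_rc_54_0 lc_i_Cert_tree lc_i_rc_54_0 lc_i_rc_41_3 lc_i_Cert_tree lc_i_rc_54_0 lc_i_rc_26_1 lc_i_rc_18_1 lc_i_rc_9_1 lc_i_Cert_tree lc_i_rc_9_1 lc_i_rc_9_1 lc_i_Cert_tree lc_i_Cert_tree lc_i_rc_54_0 lc_i_Cert_tree lc_i_rc_54_0 lc_i_rc_9_1 lc_i_Cert_tree lc_i_Cert_tree lc_i_Cert_tree lc_i_rc_54_0 lc_i_Cert_tree lc_i_rc_54_0 lc_i_rc_54_0 lc_i_rc_33_1 lc_i_Cert_tree lc_i_Cert_tree lc_i_rc_54_0 lc_i_rc_26_1 lc_i_Cert_tree lc_i_Cert_tree lc_i_Cert_tree lc_i_rc_54_0 lc_i_Cert_tree lc_i_Cert_tree lc_i_rc_54_0 lc_i_Cert_tree lc_i_rc_54_0 lc_i_Cert_tree lc_i_rc_54_0 lc_i_rc_54_0 lc_i_rc_18_1)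
def ce_i_8 : D2 → D3 → (Cert rels S Gen.i) := @D2.rec (fun _ => D3 → (Cert rels S Gen.i)) (@D3.rec (fun _ => (Cert rels S Gen.i)) lc_i_Cert_tree lc_i_Cert_tree lc_i_rc_54_0 lc_i_rc_54_0 lc_i_Cert_tree lc_i_rc_54_0 lc_i_Cert_tree lc_i_rc_54_0 lc_i_rc_18_1 lc_i_rc_54_0 lc_i_Cert_tree lc_i_rc_54_0 lc_i_rc_41_3 lc_i_Cert_tree lc_i_rc_54_0 lc_i_rc_26_1 lc_i_Cert_tree lc_i_rc_18_1 lc_i_rc_9_1 lc_i_Cert_tree lc_i_Cert_tree lc_i_rc_54_0 lc_i_rc_9_1 lc_i_Cert_tree lc_i_Cert_tree lc_i_Cert_tree lc_i_rc_54_0 lc_i_Cert_tree lc_i_rc_54_0 lc_i_rc_54_0 lc_i_rc_9_1 lc_i_Cert_tree lc_i_Cert_tree lc_i_rc_54_0 lc_i_Cert_tree lc_i_rc_54_0 lc_i_Cert_tree lc_i_rc_54_0 lc_i_Cert_tree lc_i_rc_54_0 lc_i_rc_9_1 lc_i_rc_26_3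 lc_i_rc_53_1 lc_i_Cert_tree lc_i_Cert_tree lc_i_rc_54_0 lc_i_Cert_tree lc_i_Cert_tree lc_i_rc_54_0 lc_i_rc_26_1 lc_i_Cert_tree) (@D3.rec (fun _ => (Cert rels S Gen.i)) lc_i_Cert_tree lc_i_rc_54_0 lc_i_Cert_tree lc_i_rc_54_0 lc_i_Cert_tree lc_i_Cert_tree lc_i_rc_54_0 lc_i_Cert_tree lc_i_Cert_tree lc_i_rc_54_0 lc_i_Cert_tree lc_i_rc_54_0 lc_i_rc_41_3 lc_i_rc_54_0 lc_i_Cert_tree lc_i_rc_54_0 lc_i_Cert_tree lc_i_rc_54_0 lc_i_Cert_tree lc_i_rc_54_0 lc_i_Cert_tree lc_i_Cert_tree lc_i_rc_54_0 lc_i_Cert_tree lc_i_Cert_tree lc_i_rc_54_0 lc_i_Cert_tree lc_i_rc_54_0 lc_i_Cert_tree lc_i_rc_54_0 lc_i_rc_41_3 lc_i_Cert_tree lc_i_rc_54_0 lc_i_rc_26_1 lc_i_Cert_tree lc_i_rc_54_0 lc_i_Cert_tree lc_i_Cert_tree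 lc_i_rc_54_0 lc_i_Cert_tree lc_i_Cert_tree lc_i_rc_54_0 lc_i_rc_54_0 lc_i_rc_46_1 lc_i_Cert_tree lc_i_rc_54_0 lc_i_rc_41_3 lc_i_Cert_tree lc_i_rc_54_0 lc_i_rc_26_1 lc_i_rc_54_0) (@D3.rec (fun _ => (Cert rels S Gen.i)) lc_i_rc_18_1 lc_i_rc_33_1 lc_i_rc_18_1 lc_i_rc_18_1 lc_i_rc_9_1 lc_i_Cert_tree lc_i_Cert_tree lc_i_Cert_tree lc_i_rc_54_0 lc_i_rc_54_0 lc_i_rc_54_0 lc_i_rc_9_1 lc_i_Cert_tree lc_i_rc_54_0 lc_i_rc_54_0 lc_i_rc_39_1 lc_i_rc_33_1 lc_i_Cert_tree lc_i_Cert_tree lc_i_Cert_tree lc_i_rc_54_0 lc_i_Cert_tree lc_i_rc_54_0 lc_i_rc_26_1 lc_i_Cert_tree lc_i_Cert_tree lc_i_rc_54_0 lc_i_Cert_tree lc_i_rc_54_0 lc_i_Cert_tree lc_i_Cert_tree lc_i_rc_54_0 lc_i_Cert_tree lc_i_Cert_tree lc_i_rc_54_0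 lc_i_rc_54_0 lc_i_rc_41_3 lc_i_Cert_tree lc_i_rc_54_0 lc_i_Cert_tree lc_i_rc_54_0 lc_i_Cert_tree lc_i_Cert_tree lc_i_rc_54_0 lc_i_Cert_tree lc_i_Cert_tree lc_i_rc_54_0 lc_i_Cert_tree lc_i_rc_54_0 lc_i_Cert_tree lc_i_rc_54_0) (@D3.rec (fun _ => (Cert rels S Gen.i)) lc_i_Cert_tree lc_i_rc_54_0 lc_i_Cert_tree lc_i_rc_54_0 lc_i_Cert_tree lc_i_Cert_tree lc_i_rc_54_0 lc_i_Cert_tree lc_i_Cert_tree lc_i_rc_54_0 lc_i_rc_54_0 lc_i_rc_46_1 lc_i_Cert_tree lc_i_rc_54_0 lc_i_rc_41_3 lc_i_Cert_tree lc_i_rc_54_0 lc_i_rc_26_1 lc_i_rc_54_0 lc_i_rc_18_1 lc_i_rc_33_1 lc_i_rc_18_1 lc_i_rc_26_1 lc_i_Cert_tree lc_i_rc_54_0 lc_i_rc_33_3 lc_i_rc_9_1 lc_i_rc_9_1 lc_i_Cert_tree lc_i_Cert_tree lc_i_Cert_tree lc_i_rc_54_0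 lc_i_rc_54_0 lc_i_rc_9_1 lc_i_Cert_tree lc_i_Cert_tree lc_i_rc_54_0 lc_i_Cert_tree lc_i_rc_54_0 lc_i_Cert_tree lc_i_rc_54_0 lc_i_Cert_tree lc_i_rc_54_0 lc_i_rc_41_3 lc_i_Cert_tree lc_i_Cert_tree lc_i_rc_54_0 lc_i_Cert_tree lc_i_Cert_tree lc_i_rc_54_0 lc_i_Cert_tree) (@D3.rec (fun _ => (Cert rels S Gen.i)) lc_i_rc_54_0 lc_i_Cert_tree lc_i_rc_54_0 lc_i_Cert_tree lc_i_rc_54_0 lc_i_rc_33_1 lc_i_Cert_tree lc_i_rc_33_1 lc_i_Cert_tree lc_i_Cert_tree lc_i_rc_54_0 lc_i_Cert_tree lc_i_rc_54_0 lc_i_Cert_tree lc_i_Cert_tree lc_i_rc_54_0 lc_i_Cert_tree lc_i_Cert_tree lc_i_rc_54_0 lc_i_Cert_tree lc_i_rc_54_0 lc_i_rc_41_3 lc_i_Cert_tree lc_i_Cert_tree lc_i_rc_54_0 lc_i_Cert_tree lc_i_Cert_tree lc_i_rc_54_0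 lc_i_Cert_tree lc_i_Cert_tree lc_i_rc_54_0 lc_i_Cert_tree lc_i_Cert_tree lc_i_rc_54_0 lc_i_Cert_tree lc_i_rc_54_0 lc_i_rc_41_3 lc_i_Cert_tree lc_i_Cert_tree lc_i_rc_54_0 lc_i_Cert_tree lc_i_rc_54_0 lc_i_rc_26_1 lc_i_Cert_tree lc_i_rc_54_0 lc_i_rc_41_3 lc_i_Cert_tree lc_i_rc_54_0 lc_i_Cert_tree lc_i_rc_54_0 lc_i_Cert_tree) (@D3.rec (fun _ => (Cert rels S Gen.i)) lc_i_rc_54_0 lc_i_rc_54_0 lc_i_Cert_tree lc_i_rc_54_0 lc_i_Cert_tree lc_i_Cert_tree lc_i_rc_54_0 lc_i_Cert_tree lc_i_Cert_tree lc_i_rc_54_0 lc_i_rc_54_0 lc_i_rc_18_1 lc_i_Cert_tree lc_i_rc_54_0 lc_i_rc_18_1 lc_i_Cert_tree lc_i_rc_54_0 lc_i_rc_26_1 lc_i_rc_54_0 lc_i_rc_18_1 lc_i_rc_33_1 lc_i_rc_54_0 lc_i_rc_26_3 lc_i_rc_54_0 lc_i_rc_54_0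 lc_i_rc_39_1 lc_i_Cert_tree lc_i_rc_26_3 lc_i_rc_54_0 lc_i_rc_39_3 lc_i_Cert_tree lc_i_rc_54_0 lc_i_rc_54_0 lc_i_rc_18_1 lc_i_rc_33_1 lc_i_rc_9_1 lc_i_rc_18_1 lc_i_rc_39_1 lc_i_rc_39_1 lc_i_Cert_tree lc_i_rc_33_1 lc_i_Cert_tree lc_i_rc_54_0 lc_i_rc_54_0 lc_i_rc_9_1 lc_i_rc_9_1 lc_i_rc_9_1 lc_i_rc_18_1 lc_i_rc_9_1 lc_i_rc_18_1 lc_i_rc_9_1) (@D3.rec (fun _ => (Cert rels S Gen.i)) lc_i_rc_50_3 lc_i_rc_39_3 lc_i_rc_54_0 lc_i_rc_39_1 lc_i_rc_9_3 lc_i_rc_33_1 lc_i_rc_54_0 lc_i_rc_26_1 lc_i_rc_39_1 lc_i_Cert_tree lc_i_rc_54_0 lc_i_rc_26_1 lc_i_rc_54_0 lc_i_rc_18_1 lc_i_rc_33_1 lc_i_rc_9_1 lc_i_rc_18_1 lc_i_rc_39_1 lc_i_Cert_tree lc_i_Cert_tree lc_i_rc_54_0 lc_i_rc_54_0 lc_i_rc_26_3 lc_i_rc_33_1 lc_i_rc_26_3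 lc_i_rc_33_1 lc_i_rc_39_1 lc_i_rc_33_1 lc_i_rc_50_1 lc_i_Cert_tree lc_i_Cert_tree lc_i_rc_54_0 lc_i_Cert_tree lc_i_Cert_tree lc_i_rc_54_0 lc_i_Cert_tree lc_i_Cert_tree lc_i_rc_54_0 lc_i_Cert_tree lc_i_rc_54_0 lc_i_Cert_tree lc_i_rc_54_0 lc_i_Cert_tree lc_i_rc_54_0 lc_i_rc_9_1 lc_i_rc_33_3 lc_i_rc_9_1 lc_i_rc_46_1 lc_i_rc_39_1 lc_i_rc_18_1 lc_i_rc_50_1) (@D3.rec (fun _ => (Cert rels S Gen.i)) lc_i_rc_50_3 lc_i_rc_33_3 lc_i_rc_33_1 lc_i_rc_54_0 lc_i_rc_33_3 lc_i_rc_18_1 lc_i_rc_26_1 lc_i_rc_33_3 lc_i_rc_26_1 lc_i_rc_54_0 lc_i_rc_18_1 lc_i_rc_33_1 lc_i_rc_9_1 lc_i_rc_18_1 lc_i_rc_39_1 lc_i_rc_9_1 lc_i_rc_18_1 lc_i_rc_54_0 lc_i_rc_54_0 lc_i_rc_9_1 lc_i_Cert_tree lc_i_Cert_tree lc_i_rc_54_0 lc_i_Cert_tree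 lc_i_rc_54_0 lc_i_rc_41_3 lc_i_rc_54_0 lc_i_rc_54_0 lc_i_rc_41_3 lc_i_rc_54_0 lc_i_rc_53_1 lc_i_Cert_tree lc_i_rc_54_0 lc_i_rc_54_0 lc_i_Cert_tree lc_i_rc_54_0 lc_i_rc_41_3 lc_i_Cert_tree lc_i_rc_54_0 lc_i_rc_26_1 lc_i_Cert_tree lc_i_Cert_tree lc_i_rc_54_0 lc_i_Cert_tree lc_i_Cert_tree lc_i_rc_54_0 lc_i_rc_54_0 lc_i_rc_46_1 lc_i_Cert_tree lc_i_rc_54_0 lc_i_rc_41_3) (@D3.rec (fun _ => (Cert rels S Gen.i)) lc_i_Cert_tree lc_i_rc_54_0 lc_i_rc_26_1 lc_i_rc_54_0 lc_i_rc_18_1 lc_i_rc_33_1 lc_i_rc_54_0 lc_i_rc_41_3 lc_i_Cert_tree lc_i_rc_54_0 lc_i_rc_54_0 lc_i_rc_54_0 lc_i_rc_9_1 lc_i_Cert_tree lc_i_rc_54_0 lc_i_rc_26_1 lc_i_Cert_tree lc_i_Cert_tree lc_i_rc_54_0 lc_i_rc_33_1 lc_i_rc_54_0 lc_i_Cert_tree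 lc_i_Cert_tree lc_i_rc_54_0 lc_i_Cert_tree lc_i_rc_54_0 lc_i_rc_9_1 lc_i_Cert_tree lc_i_Cert_tree lc_i_rc_54_0 lc_i_Cert_tree lc_i_rc_54_0 lc_i_rc_33_3 lc_i_Cert_tree lc_i_rc_54_0 lc_i_rc_53_1 lc_i_Cert_tree lc_i_rc_54_0 lc_i_Cert_tree lc_i_rc_54_0 lc_i_rc_9_3 lc_i_rc_54_0 lc_i_rc_54_0 lc_i_Cert_tree lc_i_Cert_tree lc_i_rc_54_0 lc_i_rc_54_0 lc_i_rc_41_3 lc_i_Cert_tree lc_i_rc_54_0 lc_i_rc_41_3) (@D3.rec (fun _ => (Cert rels S Gen.i)) lc_i_Cert_tree lc_i_rc_54_0 lc_i_rc_26_1 lc_i_rc_54_0 lc_i_rc_18_1 lc_i_rc_33_1 lc_i_Cert_tree lc_i_rc_54_0 lc_i_rc_41_3 lc_i_Cert_tree lc_i_Cert_tree lc_i_rc_54_0 lc_i_rc_54_0 lc_i_rc_26_1 lc_i_rc_41_3 lc_i_Cert_tree lc_i_rc_54_0 lc_i_rc_26_1 lc_i_rc_54_0 lc_i_rc_18_1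 lc_i_rc_33_1 lc_i_rc_9_1 lc_i_rc_18_1 lc_i_rc_39_1 lc_i_Cert_tree lc_i_rc_54_0 lc_i_Cert_tree lc_i_rc_54_0 lc_i_Cert_tree lc_i_rc_54_0 lc_i_rc_9_1 lc_i_Cert_tree lc_i_rc_54_0 lc_i_rc_9_1 lc_i_Cert_tree lc_i_rc_54_0 lc_i_Cert_tree lc_i_Cert_tree lc_i_rc_54_0 lc_i_rc_54_0 lc_i_rc_26_3 lc_i_Cert_tree lc_i_rc_54_0 lc_i_rc_26_3 lc_i_Cert_tree lc_i_rc_54_0 lc_i_rc_9_1 lc_i_rc_54_0 lc_i_rc_18_1 lc_i_rc_9_1 lc_i_Cert_tree) (@D3.rec (fun _ => (Cert rels S Gen.i)) lc_i_rc_54_0 lc_i_Cert_tree lc_i_Cert_tree lc_i_rc_54_0 lc_i_Cert_tree lc_i_rc_54_0 lc_i_rc_41_3 lc_i_Cert_tree lc_i_Cert_tree lc_i_rc_54_0 lc_i_Cert_tree lc_i_rc_54_0 lc_i_rc_41_3 lc_i_Cert_tree lc_i_Cert_tree lc_i_rc_54_0 lc_i_Cert_tree lc_i_rc_54_0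 lc_i_rc_41_3 lc_i_Cert_tree lc_i_rc_54_0 lc_i_rc_41_3 lc_i_Cert_tree lc_i_rc_54_0 lc_i_Cert_tree lc_i_rc_54_0 lc_i_rc_18_1 lc_i_Cert_tree lc_i_rc_54_0 lc_i_rc_41_3 lc_i_rc_41_3 lc_i_Cert_tree lc_i_rc_54_0 lc_i_rc_46_1 lc_i_Cert_tree lc_i_rc_54_0 lc_i_Cert_tree lc_i_rc_54_0 lc_i_rc_54_0 lc_i_rc_54_0 lc_i_rc_46_3 lc_i_rc_54_0 lc_i_Cert_tree lc_i_rc_54_0 lc_i_rc_46_1 lc_i_rc_53_3 lc_i_rc_54_0 lc_i_rc_33_1 lc_i_rc_9_1 lc_i_rc_18_1 lc_i_rc_39_1) (@D3.rec (fun _ => (Cert rels S Gen.i)) lc_i_rc_39_1 lc_i_rc_46_1 lc_i_rc_33_3 lc_i_rc_54_0 lc_i_rc_18_3 lc_i_rc_18_1 lc_i_rc_9_1 lc_i_rc_9_1 lc_i_rc_18_1 lc_i_rc_9_1 lc_i_Cert_tree lc_i_rc_39_1 lc_i_rc_18_1 lc_i_rc_50_1 lc_i_rc_54_0 lc_i_rc_54_0 lc_i_rc_39_1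 lc_i_rc_53_1 lc_i_Cert_tree lc_i_Cert_tree lc_i_rc_54_0 lc_i_Cert_tree lc_i_rc_54_0 lc_i_Cert_tree lc_i_rc_54_0 lc_i_rc_54_0 lc_i_Cert_tree lc_i_rc_54_0 lc_i_rc_54_0 lc_i_Cert_tree lc_i_rc_54_0 lc_i_rc_54_0 lc_i_rc_54_0 lc_i_rc_50_1 lc_i_rc_53_1 lc_i_rc_54_0 lc_i_rc_54_0 lc_i_rc_39_1 lc_i_rc_54_0 lc_i_rc_54_0 lc_i_rc_54_0 lc_i_rc_54_0 lc_i_rc_41_3 lc_i_rc_54_0 lc_i_rc_33_1 lc_i_rc_39_1 lc_i_rc_39_1 lc_i_Cert_tree lc_i_Cert_tree lc_i_rc_54_0 lc_i_Cert_tree) (@D3.rec (fun _ => (Cert rels S Gen.i)) lc_i_rc_54_0 lc_i_rc_54_0 lc_i_Cert_tree lc_i_rc_54_0 lc_i_rc_54_0 lc_i_Cert_tree lc_i_rc_54_0 lc_i_rc_54_0 lc_i_Cert_tree lc_i_rc_54_0 lc_i_Cert_tree lc_i_rc_54_0 lc_i_Cert_tree lc_i_rc_54_0 lc_i_rc_33_1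 lc_i_rc_9_1 lc_i_rc_50_1 lc_i_rc_53_1 lc_i_Cert_tree lc_i_rc_54_0 lc_i_rc_54_0 lc_i_Cert_tree lc_i_Cert_tree lc_i_rc_54_0 lc_i_rc_54_0 lc_i_rc_54_0 lc_i_rc_54_0 lc_i_rc_54_0 lc_i_rc_54_0 lc_i_rc_54_0 lc_i_rc_54_0 lc_i_rc_54_0 lc_i_Cert_tree lc_i_rc_54_0 lc_i_rc_54_0 lc_i_Cert_tree lc_i_rc_54_0 lc_i_Cert_tree lc_i_rc_54_0 lc_i_rc_39_1 lc_i_rc_54_0 lc_i_rc_46_1 lc_i_Cert_tree lc_i_rc_54_0 lc_i_rc_33_1 lc_i_rc_39_1 lc_i_rc_33_1 lc_i_rc_39_1 lc_i_rc_39_1 lc_i_rc_26_3 lc_i_Cert_tree) (@D3.rec (fun _ => (Cert rels S Gen.i)) lc_i_rc_54_0 lc_i_Cert_tree lc_i_rc_54_0 lc_i_Cert_tree lc_i_rc_54_0 lc_i_Cert_tree lc_i_rc_54_0 lc_i_rc_41_3 lc_i_rc_54_0 lc_i_Cert_tree lc_i_Cert_tree lc_i_rc_54_0 lc_i_rc_54_0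 lc_i_Cert_tree lc_i_rc_54_0 lc_i_rc_9_1 lc_i_rc_54_0 lc_i_Cert_tree lc_i_rc_54_0 lc_i_Cert_tree lc_i_rc_54_0 lc_i_rc_41_3 lc_i_Cert_tree lc_i_rc_54_0 lc_i_rc_41_3 lc_i_Cert_tree lc_i_rc_54_0 lc_i_Cert_tree lc_i_rc_54_0 lc_i_rc_18_1 lc_i_Cert_tree lc_i_rc_54_0 lc_i_Cert_tree lc_i_rc_54_0 lc_i_Cert_tree lc_i_rc_54_0 lc_i_rc_41_3 lc_i_Cert_tree lc_i_rc_54_0 lc_i_rc_26_1 lc_i_rc_26_1 lc_i_rc_18_1 lc_i_rc_26_1 lc_i_rc_39_1 lc_i_rc_33_1 lc_i_rc_26_1 lc_i_rc_18_1 lc_i_rc_18_1 lc_i_rc_39_1 lc_i_rc_33_1 lc_i_rc_46_1) (@D3.rec (fun _ => (Cert rels S Gen.i)) lc_i_rc_41_3 lc_i_rc_46_3 lc_i_rc_54_0 lc_i_rc_33_1 lc_i_rc_33_1 lc_i_rc_26_1 lc_i_rc_39_1 lc_i_rc_18_1 lc_i_rc_33_1 lc_i_rc_33_1 lc_i_rc_26_1 lc_i_Cert_tree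 lc_i_rc_26_1 lc_i_Cert_tree lc_i_Cert_tree lc_i_rc_54_0 lc_i_rc_54_0 lc_i_rc_18_1 lc_i_rc_18_1 lc_i_Cert_tree lc_i_Cert_tree lc_i_rc_54_0 lc_i_rc_41_3 lc_i_rc_54_0 lc_i_rc_41_3 lc_i_rc_54_0 lc_i_rc_54_0 lc_i_rc_54_0 lc_i_rc_33_1 lc_i_rc_54_0 lc_i_Cert_tree lc_i_Cert_tree lc_i_rc_54_0 lc_i_rc_46_1 lc_i_rc_39_1 lc_i_Cert_tree lc_i_rc_54_0 lc_i_Cert_tree lc_i_rc_54_0 lc_i_rc_46_1 lc_i_rc_54_0 lc_i_rc_33_1 lc_i_Cert_tree lc_i_rc_26_1 lc_i_rc_26_1 lc_i_Cert_tree lc_i_Cert_tree lc_i_rc_54_0 lc_i_rc_54_0 lc_i_Cert_tree lc_i_rc_54_0) (@D3.rec (fun _ => (Cert rels S Gen.i)) lc_i_Cert_tree lc_i_rc_54_0 lc_i_rc_41_3 lc_i_rc_54_0 lc_i_Cert_tree lc_i_rc_54_0 lc_i_rc_33_1 lc_i_Cert_tree lc_i_rc_26_1 lc_i_rc_26_1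 lc_i_Cert_tree lc_i_Cert_tree lc_i_rc_54_0 lc_i_Cert_tree lc_i_Cert_tree lc_i_rc_54_0 lc_i_Cert_tree lc_i_rc_54_0 lc_i_rc_41_3 lc_i_rc_18_1 lc_i_Cert_tree lc_i_Cert_tree lc_i_Cert_tree lc_i_rc_54_0 lc_i_Cert_tree lc_i_rc_54_0 lc_i_rc_54_0 lc_i_rc_50_1 lc_i_Cert_tree lc_i_Cert_tree lc_i_rc_54_0 lc_i_rc_26_3 lc_i_rc_54_0 lc_i_Cert_tree lc_i_rc_54_0 lc_i_Cert_tree lc_i_rc_54_0 lc_i_rc_46_1 lc_i_rc_46_1 lc_i_rc_39_1 lc_i_Cert_tree lc_i_rc_54_0 lc_i_Cert_tree lc_i_Cert_tree lc_i_rc_54_0 lc_i_Cert_tree lc_i_rc_54_0 lc_i_rc_33_1 lc_i_rc_39_1 lc_i_rc_39_1 lc_i_Cert_tree) (@D3.rec (fun _ => (Cert rels S Gen.i)) lc_i_Cert_tree lc_i_rc_54_0 lc_i_rc_54_0 lc_i_Cert_tree lc_i_rc_54_0 lc_i_Cert_tree lc_i_rc_54_0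 lc_i_rc_9_1 lc_i_rc_39_1 lc_i_Cert_tree lc_i_rc_54_0 lc_i_rc_54_0 lc_i_rc_33_1 lc_i_rc_33_1 lc_i_Cert_tree lc_i_Cert_tree lc_i_rc_54_0 lc_i_rc_26_1 lc_i_Cert_tree lc_i_Cert_tree lc_i_Cert_tree lc_i_rc_54_0 lc_i_Cert_tree lc_i_Cert_tree lc_i_rc_54_0 lc_i_rc_54_0 lc_i_Cert_tree lc_i_rc_54_0 lc_i_Cert_tree lc_i_rc_54_0 lc_i_rc_41_3 lc_i_Cert_tree lc_i_rc_54_0 lc_i_rc_41_3 lc_i_rc_18_1 lc_i_Cert_tree lc_i_Cert_tree lc_i_rc_54_0 lc_i_rc_54_0 lc_i_Cert_tree lc_i_rc_54_0 lc_i_Cert_tree lc_i_rc_54_0 lc_i_rc_41_3 lc_i_rc_54_0 lc_i_rc_54_0 lc_i_Cert_tree lc_i_rc_54_0 lc_i_rc_33_1 lc_i_rc_33_1 lc_i_Cert_tree) (@D3.rec (fun _ => (Cert rels S Gen.i)) lc_i_Cert_tree lc_i_rc_54_0 lc_i_rc_26_1 lc_i_Cert_tree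 lc_i_Cert_tree lc_i_Cert_tree lc_i_rc_54_0 lc_i_Cert_tree lc_i_Cert_tree lc_i_rc_54_0 lc_i_Cert_tree lc_i_rc_54_0 lc_i_Cert_tree lc_i_rc_54_0 lc_i_rc_54_0 lc_i_rc_41_3 lc_i_rc_18_1 lc_i_Cert_tree lc_i_Cert_tree lc_i_rc_54_0 lc_i_Cert_tree lc_i_rc_54_0 lc_i_Cert_tree lc_i_rc_54_0 lc_i_Cert_tree lc_i_rc_54_0 lc_i_rc_18_1 lc_i_Cert_tree lc_i_Cert_tree lc_i_rc_54_0 lc_i_Cert_tree lc_i_Cert_tree lc_i_rc_54_0 lc_i_Cert_tree lc_i_rc_54_0 lc_i_Cert_tree lc_i_rc_54_0 lc_i_rc_41_3 lc_i_Cert_tree lc_i_rc_54_0 lc_i_rc_26_1 lc_i_rc_9_1 lc_i_Cert_tree lc_i_rc_54_0 lc_i_rc_53_1 lc_i_Cert_tree lc_i_Cert_tree lc_i_rc_54_0 lc_i_Cert_tree lc_i_Cert_tree lc_i_rc_54_0) (@D3.rec (fun _ => (Cert rels S Gen.i)) lc_i_Cert_tree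 lc_i_Cert_tree lc_i_rc_54_0 lc_i_rc_54_0 lc_i_rc_18_1 lc_i_rc_33_1 lc_i_rc_9_1 lc_i_Cert_tree lc_i_Cert_tree lc_i_rc_54_0 lc_i_rc_54_0 lc_i_Cert_tree lc_i_Cert_tree lc_i_Cert_tree lc_i_rc_54_0 lc_i_Cert_tree lc_i_Cert_tree lc_i_rc_54_0 lc_i_rc_54_0 lc_i_Cert_tree lc_i_rc_54_0 lc_i_Cert_tree lc_i_rc_54_0 lc_i_rc_9_1 lc_i_Cert_tree lc_i_rc_54_0 lc_i_rc_9_1 lc_i_rc_26_3 lc_i_Cert_tree lc_i_Cert_tree lc_i_rc_54_0 lc_i_rc_54_0 lc_i_Cert_tree lc_i_rc_54_0 lc_i_rc_54_0 lc_i_rc_9_1 lc_i_rc_39_1 lc_i_rc_33_1 lc_i_Cert_tree lc_i_Cert_tree lc_i_Cert_tree lc_i_rc_54_0 lc_i_Cert_tree lc_i_Cert_tree lc_i_rc_54_0 lc_i_rc_26_1 lc_i_Cert_tree lc_i_Cert_tree lc_i_rc_54_0 lc_i_Cert_tree lc_i_rc_54_0) (@D3.rec (fun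 _ => (Cert rels S Gen.i)) lc_i_Cert_tree lc_i_Cert_tree lc_i_rc_54_0 lc_i_Cert_tree lc_i_Cert_tree lc_i_rc_54_0 lc_i_Cert_tree lc_i_rc_54_0 lc_i_rc_41_3 lc_i_Cert_tree lc_i_rc_54_0 lc_i_Cert_tree lc_i_rc_54_0 lc_i_rc_41_3 lc_i_Cert_tree lc_i_rc_54_0 lc_i_rc_41_3 lc_i_Cert_tree lc_i_rc_54_0 lc_i_rc_46_1 lc_i_Cert_tree lc_i_Cert_tree lc_i_rc_54_0 lc_i_Cert_tree lc_i_Cert_tree lc_i_rc_54_0 lc_i_Cert_tree lc_i_rc_54_0 lc_i_Cert_tree lc_i_rc_54_0 lc_i_rc_18_1 lc_i_Cert_tree lc_i_rc_54_0 lc_i_rc_26_1 lc_i_rc_54_0 lc_i_Cert_tree lc_i_rc_54_0 lc_i_Cert_tree lc_i_Cert_tree lc_i_rc_54_0 lc_i_rc_54_0 lc_i_rc_46_1 lc_i_Cert_tree lc_i_rc_54_0 lc_i_rc_41_3 lc_i_Cert_tree lc_i_rc_54_0 lc_i_rc_26_1 lc_i_rc_54_0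 lc_i_rc_18_1 lc_i_rc_33_1) (@D3.rec (fun _ => (Cert rels S Gen.i)) lc_i_Cert_tree lc_i_Cert_tree lc_i_Cert_tree lc_i_rc_54_0 lc_i_Cert_tree lc_i_Cert_tree lc_i_rc_54_0 lc_i_Cert_tree lc_i_rc_54_0 lc_i_Cert_tree lc_i_rc_54_0 lc_i_Cert_tree lc_i_rc_54_0 lc_i_Cert_tree lc_i_rc_54_0 lc_i_Cert_tree lc_i_Cert_tree lc_i_rc_54_0 lc_i_Cert_tree lc_i_rc_54_0 lc_i_rc_54_0 lc_i_rc_18_1 lc_i_rc_18_1 lc_i_Cert_tree lc_i_rc_54_0 lc_i_rc_9_1 lc_i_rc_9_1 lc_i_Cert_tree lc_i_rc_9_1 lc_i_Cert_tree lc_i_Cert_tree lc_i_rc_54_0 lc_i_rc_54_0 lc_i_rc_9_1 lc_i_rc_9_1 lc_i_Cert_tree lc_i_Cert_tree lc_i_rc_54_0 lc_i_Cert_tree lc_i_rc_54_0 lc_i_rc_33_1 lc_i_Cert_tree lc_i_rc_26_1 lc_i_rc_26_1 lc_i_Cert_tree lc_i_Cert_tree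 lc_i_rc_54_0 lc_i_Cert_tree lc_i_Cert_tree lc_i_rc_54_0 lc_i_Cert_tree) (@D3.rec (fun _ => (Cert rels S Gen.i)) lc_i_rc_54_0 lc_i_Cert_tree lc_i_rc_54_0 lc_i_rc_41_3 lc_i_rc_18_1 lc_i_Cert_tree lc_i_Cert_tree lc_i_Cert_tree lc_i_rc_54_0 lc_i_Cert_tree lc_i_rc_54_0 lc_i_rc_54_0 lc_i_rc_50_1 lc_i_rc_18_3 lc_i_rc_54_0 lc_i_Cert_tree lc_i_rc_54_0 lc_i_rc_54_0 lc_i_Cert_tree lc_i_rc_54_0 lc_i_rc_41_3 lc_i_rc_26_1 lc_i_rc_18_1 lc_i_Cert_tree lc_i_rc_18_1 lc_i_Cert_tree lc_i_rc_54_0 lc_i_rc_9_1 lc_i_Cert_tree lc_i_rc_9_1 lc_i_rc_9_1 lc_i_Cert_tree lc_i_Cert_tree lc_i_rc_54_0 lc_i_Cert_tree lc_i_Cert_tree lc_i_rc_54_0 lc_i_Cert_tree lc_i_rc_54_0 lc_i_rc_41_3 lc_i_rc_9_1 lc_i_Cert_tree lc_i_Cert_tree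 lc_i_Cert_tree lc_i_rc_54_0 lc_i_Cert_tree lc_i_rc_54_0 lc_i_rc_54_0 lc_i_rc_33_1 lc_i_rc_33_1 lc_i_Cert_tree) (@D3.rec (fun _ => (Cert rels S Gen.i)) lc_i_Cert_tree lc_i_rc_54_0 lc_i_rc_26_1 lc_i_Cert_tree lc_i_Cert_tree lc_i_Cert_tree lc_i_rc_54_0 lc_i_Cert_tree lc_i_Cert_tree lc_i_rc_54_0 lc_i_rc_54_0 lc_i_Cert_tree lc_i_rc_54_0 lc_i_Cert_tree lc_i_rc_54_0 lc_i_rc_41_3 lc_i_Cert_tree lc_i_rc_54_0 lc_i_rc_41_3 lc_i_rc_18_1 lc_i_rc_54_0 lc_i_rc_54_0 lc_i_Cert_tree lc_i_rc_54_0 lc_i_Cert_tree lc_i_rc_54_0 lc_i_rc_46_1 lc_i_rc_41_3 lc_i_Cert_tree lc_i_rc_54_0 lc_i_rc_26_1 lc_i_Cert_tree lc_i_rc_54_0 lc_i_Cert_tree lc_i_Cert_tree lc_i_rc_54_0 lc_i_rc_54_0 lc_i_Cert_tree lc_i_Cert_tree lc_i_rc_54_0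 lc_i_Cert_tree lc_i_rc_54_0 lc_i_rc_54_0 lc_i_Cert_tree lc_i_rc_54_0 lc_i_Cert_tree lc_i_rc_54_0 lc_i_Cert_tree lc_i_rc_54_0 lc_i_rc_41_3 lc_i_Cert_tree) (@D3.rec (fun _ => (Cert rels S Gen.i)) lc_i_Cert_tree lc_i_rc_54_0 lc_i_Cert_tree lc_i_rc_54_0 lc_i_rc_54_0 lc_i_Cert_tree lc_i_Cert_tree lc_i_rc_54_0 lc_i_Cert_tree lc_i_rc_54_0 lc_i_Cert_tree lc_i_rc_54_0 lc_i_Cert_tree lc_i_rc_54_0 lc_i_rc_41_3 lc_i_rc_18_1 lc_i_rc_18_1 lc_i_Cert_tree lc_i_rc_18_1 lc_i_Cert_tree lc_i_rc_54_0 lc_i_rc_9_1 lc_i_Cert_tree lc_i_rc_9_1 lc_i_rc_9_1 lc_i_Cert_tree lc_i_Cert_tree lc_i_rc_54_0 lc_i_Cert_tree lc_i_Cert_tree lc_i_rc_54_0 lc_i_Cert_tree lc_i_rc_54_0 lc_i_rc_41_3 lc_i_rc_9_1 lc_i_Cert_tree lc_i_Cert_tree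 lc_i_Cert_tree lc_i_rc_54_0 lc_i_Cert_tree lc_i_rc_54_0 lc_i_rc_54_0 lc_i_rc_33_1 lc_i_rc_33_1 lc_i_Cert_tree lc_i_Cert_tree lc_i_rc_54_0 lc_i_rc_26_1 lc_i_Cert_tree lc_i_Cert_tree lc_i_Cert_tree) (@D3.rec (fun _ => (Cert rels S Gen.i)) lc_i_rc_54_0 lc_i_Cert_tree lc_i_Cert_tree lc_i_rc_54_0 lc_i_Cert_tree lc_i_rc_54_0 lc_i_Cert_tree lc_i_rc_54_0 lc_i_Cert_tree lc_i_rc_54_0 lc_i_rc_41_3 lc_i_Cert_tree lc_i_rc_54_0 lc_i_rc_41_3 lc_i_rc_18_1 lc_i_Cert_tree lc_i_Cert_tree lc_i_rc_54_0 lc_i_Cert_tree lc_i_rc_54_0 lc_i_Cert_tree lc_i_rc_54_0 lc_i_Cert_tree lc_i_rc_54_0 lc_i_rc_18_1 lc_i_Cert_tree lc_i_Cert_tree lc_i_rc_54_0 lc_i_Cert_tree lc_i_Cert_tree lc_i_rc_54_0 lc_i_Cert_tree lc_i_rc_54_0 lc_i_Cert_tree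 lc_i_rc_54_0 lc_i_rc_41_3 lc_i_Cert_tree lc_i_rc_54_0 lc_i_rc_26_1 lc_i_rc_41_5 lc_i_rc_18_1 lc_i_Cert_tree lc_i_rc_18_1 lc_i_rc_18_1 lc_i_Cert_tree lc_i_Cert_tree lc_i_rc_54_0 lc_i_Cert_tree lc_i_rc_54_0 lc_i_rc_9_1 lc_i_rc_9_1) (@D3.rec (fun _ => (Cert rels S Gen.i)) lc_i_Cert_tree lc_i_Cert_tree lc_i_rc_54_0 lc_i_rc_9_1 lc_i_Cert_tree lc_i_Cert_tree lc_i_Cert_tree lc_i_rc_54_0 lc_i_Cert_tree lc_i_Cert_tree lc_i_rc_54_0 lc_i_Cert_tree lc_i_rc_54_0 lc_i_Cert_tree lc_i_rc_54_0 lc_i_rc_54_0 lc_i_rc_41_3 lc_i_rc_9_1 lc_i_Cert_tree lc_i_Cert_tree lc_i_rc_54_0 lc_i_Cert_tree lc_i_rc_54_0 lc_i_Cert_tree lc_i_rc_54_0 lc_i_Cert_tree lc_i_rc_54_0 lc_i_rc_9_1 lc_i_rc_39_1 lc_i_rc_33_1 lc_i_Cert_tree lc_i_Cert_tree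 lc_i_Cert_tree lc_i_rc_54_0 lc_i_Cert_tree lc_i_Cert_tree lc_i_rc_54_0 lc_i_rc_26_1 lc_i_Cert_tree lc_i_Cert_tree lc_i_rc_54_0 lc_i_Cert_tree lc_i_rc_54_0 lc_i_Cert_tree lc_i_Cert_tree lc_i_rc_54_0 lc_i_Cert_tree lc_i_Cert_tree lc_i_rc_54_0 lc_i_Cert_tree lc_i_rc_54_0) (@D3.rec (fun _ => (Cert rels S Gen.i)) lc_i_rc_41_3 lc_i_Cert_tree lc_i_rc_54_0 lc_i_Cert_tree lc_i_rc_54_0 lc_i_rc_41_3 lc_i_Cert_tree lc_i_rc_54_0 lc_i_rc_41_3 lc_i_Cert_tree lc_i_rc_54_0 lc_i_rc_46_1 lc_i_Cert_tree lc_i_Cert_tree lc_i_rc_54_0 lc_i_Cert_tree lc_i_Cert_tree lc_i_rc_54_0 lc_i_Cert_tree lc_i_rc_54_0 lc_i_Cert_tree lc_i_rc_54_0 lc_i_rc_50_1 lc_i_Cert_tree lc_i_rc_54_0 lc_i_rc_26_1 lc_i_rc_54_0 lc_i_Cert_tree lc_i_rc_54_0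 lc_i_Cert_tree lc_i_Cert_tree lc_i_rc_54_0 lc_i_rc_54_0 lc_i_rc_46_1 lc_i_rc_41_3 lc_i_Cert_tree lc_i_rc_54_0 lc_i_rc_26_1 lc_i_rc_54_0 lc_i_rc_18_1 lc_i_rc_33_1 lc_i_Cert_tree lc_i_rc_54_0 lc_i_rc_54_0 lc_i_Cert_tree lc_i_rc_54_0 lc_i_Cert_tree lc_i_rc_54_0 lc_i_rc_41_3 lc_i_rc_54_0 lc_i_rc_54_0)
def ce_i_9 : D2 → D3 → (Cert rels S Gen.i) := @D2.rec (fun _ => D3 → (Cert rels S Gen.i)) (@D3.rec (fun _ => (Cert rels S Gen.i)) lc_i_Cert_tree lc_i_rc_54_0 lc_i_Cert_tree lc_i_rc_54_0 lc_i_Cert_tree lc_i_rc_54_0 lc_i_Cert_tree lc_i_rc_54_0 lc_i_rc_41_3 lc_i_Cert_tree lc_i_rc_54_0 lc_i_rc_41_3 lc_i_rc_54_0 lc_i_rc_54_0 lc_i_rc_54_0 lc_i_Cert_tree lc_i_rc_54_0 lc_i_rc_54_0 lc_i_rc_54_0 lc_i_rc_54_0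 lc_i_rc_18_1 lc_i_rc_18_1 lc_i_Cert_tree lc_i_Cert_tree lc_i_rc_54_0 lc_i_Cert_tree lc_i_rc_54_0 lc_i_rc_9_1 lc_i_Cert_tree lc_i_Cert_tree lc_i_Cert_tree lc_i_rc_54_0 lc_i_Cert_tree lc_i_rc_54_0 lc_i_Cert_tree lc_i_rc_54_0 lc_i_Cert_tree lc_i_rc_54_0 lc_i_rc_54_0 lc_i_rc_41_3 lc_i_rc_9_1 lc_i_Cert_tree lc_i_rc_54_0 lc_i_rc_54_0 lc_i_rc_39_1 lc_i_rc_33_1 lc_i_Cert_tree lc_i_Cert_tree lc_i_Cert_tree lc_i_rc_54_0 lc_i_Cert_tree) (@D3.rec (fun _ => (Cert rels S Gen.i)) lc_i_rc_54_0 lc_i_rc_26_1 lc_i_Cert_tree lc_i_Cert_tree lc_i_rc_54_0 lc_i_Cert_tree lc_i_rc_54_0 lc_i_Cert_tree lc_i_Cert_tree lc_i_rc_54_0 lc_i_Cert_tree lc_i_Cert_tree lc_i_rc_54_0 lc_i_Cert_tree lc_i_rc_54_0 lc_i_rc_41_3 lc_i_Cert_tree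 lc_i_rc_54_0 lc_i_Cert_tree lc_i_rc_54_0 lc_i_rc_41_3 lc_i_Cert_tree lc_i_rc_54_0 lc_i_rc_41_3 lc_i_Cert_tree lc_i_rc_54_0 lc_i_rc_46_1 lc_i_Cert_tree lc_i_Cert_tree lc_i_rc_54_0 lc_i_Cert_tree lc_i_Cert_tree lc_i_rc_54_0 lc_i_Cert_tree lc_i_rc_54_0 lc_i_Cert_tree lc_i_rc_54_0 lc_i_rc_54_0 lc_i_Cert_tree lc_i_rc_54_0 lc_i_Cert_tree lc_i_Cert_tree lc_i_rc_54_0 lc_i_Cert_tree lc_i_rc_33_3 lc_i_rc_54_0 lc_i_rc_54_0 lc_i_rc_46_1 lc_i_rc_54_0 lc_i_rc_41_3 lc_i_rc_54_0) (@D3.rec (fun _ => (Cert rels S Gen.i)) lc_i_rc_26_1 lc_i_rc_54_0 lc_i_rc_18_1 lc_i_rc_33_1 lc_i_rc_18_1 lc_i_rc_18_1 lc_i_Cert_tree lc_i_Cert_tree lc_i_rc_54_0 lc_i_rc_18_1 lc_i_Cert_tree lc_i_Cert_tree lc_i_Cert_tree lc_i_rc_54_0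 lc_i_Cert_tree lc_i_rc_54_0 lc_i_rc_54_0 lc_i_rc_9_1 lc_i_rc_9_1 lc_i_Cert_tree lc_i_Cert_tree lc_i_Cert_tree lc_i_rc_54_0 lc_i_Cert_tree lc_i_rc_54_0 lc_i_rc_9_1 lc_i_Cert_tree lc_i_Cert_tree lc_i_rc_54_0 lc_i_Cert_tree lc_i_rc_54_0 lc_i_Cert_tree lc_i_Cert_tree lc_i_rc_54_0 lc_i_Cert_tree lc_i_Cert_tree lc_i_rc_54_0 lc_i_rc_54_0 lc_i_rc_41_3 lc_i_Cert_tree lc_i_rc_54_0 lc_i_Cert_tree lc_i_rc_54_0 lc_i_rc_41_3 lc_i_rc_41_3 lc_i_Cert_tree lc_i_Cert_tree lc_i_rc_54_0 lc_i_Cert_tree lc_i_Cert_tree lc_i_rc_54_0) (@D3.rec (fun _ => (Cert rels S Gen.i)) lc_i_Cert_tree lc_i_rc_54_0 lc_i_Cert_tree lc_i_rc_54_0 lc_i_Cert_tree lc_i_rc_54_0 lc_i_rc_39_1 lc_i_Cert_tree lc_i_rc_33_1 lc_i_Cert_tree lc_i_Cert_tree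 lc_i_rc_54_0 lc_i_Cert_tree lc_i_rc_54_0 lc_i_Cert_tree lc_i_Cert_tree lc_i_rc_54_0 lc_i_Cert_tree lc_i_Cert_tree lc_i_rc_54_0 lc_i_Cert_tree lc_i_rc_54_0 lc_i_rc_41_3 lc_i_Cert_tree lc_i_Cert_tree lc_i_rc_54_0 lc_i_Cert_tree lc_i_Cert_tree lc_i_rc_54_0 lc_i_Cert_tree lc_i_Cert_tree lc_i_rc_54_0 lc_i_Cert_tree lc_i_Cert_tree lc_i_rc_54_0 lc_i_Cert_tree lc_i_rc_54_0 lc_i_rc_41_3 lc_i_Cert_tree lc_i_Cert_tree lc_i_rc_54_0 lc_i_Cert_tree lc_i_rc_54_0 lc_i_rc_26_1 lc_i_Cert_tree lc_i_rc_54_0 lc_i_rc_41_3 lc_i_Cert_tree lc_i_rc_54_0 lc_i_rc_41_3 lc_i_Cert_tree) (@D3.rec (fun _ => (Cert rels S Gen.i)) lc_i_rc_54_0 lc_i_rc_41_3 lc_i_Cert_tree lc_i_rc_54_0 lc_i_rc_46_1 lc_i_rc_33_1 lc_i_rc_54_0 lc_i_rc_50_1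 lc_i_Cert_tree lc_i_rc_54_0 lc_i_Cert_tree lc_i_Cert_tree lc_i_rc_54_0 lc_i_Cert_tree lc_i_Cert_tree lc_i_rc_54_0 lc_i_rc_54_0 lc_i_rc_18_1 lc_i_Cert_tree lc_i_rc_54_0 lc_i_rc_18_1 lc_i_Cert_tree lc_i_rc_54_0 lc_i_rc_26_1 lc_i_rc_54_0 lc_i_rc_18_1 lc_i_rc_33_1 lc_i_Cert_tree lc_i_Cert_tree lc_i_rc_54_0 lc_i_Cert_tree lc_i_rc_50_3 lc_i_rc_54_0 lc_i_rc_54_0 lc_i_rc_46_1 lc_i_Cert_tree lc_i_Cert_tree lc_i_rc_54_0 lc_i_Cert_tree lc_i_rc_54_0 lc_i_rc_26_1 lc_i_rc_39_1 lc_i_Cert_tree lc_i_rc_54_0 lc_i_rc_26_1 lc_i_rc_54_0 lc_i_rc_18_1 lc_i_rc_33_1 lc_i_rc_9_1 lc_i_rc_18_1 lc_i_rc_39_1) (@D3.rec (fun _ => (Cert rels S Gen.i)) lc_i_rc_39_1 lc_i_Cert_tree lc_i_rc_33_1 lc_i_Cert_tree lc_i_rc_54_0 lc_i_rc_54_0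 lc_i_rc_33_1 lc_i_rc_9_1 lc_i_rc_39_1 lc_i_rc_18_1 lc_i_rc_9_1 lc_i_rc_18_1 lc_i_rc_33_1 lc_i_rc_9_1 lc_i_Cert_tree lc_i_rc_9_1 lc_i_Cert_tree lc_i_rc_54_0 lc_i_rc_54_0 lc_i_rc_9_3 lc_i_rc_33_1 lc_i_rc_9_3 lc_i_rc_46_1 lc_i_rc_39_1 lc_i_rc_50_1 lc_i_rc_39_1 lc_i_Cert_tree lc_i_Cert_tree lc_i_rc_54_0 lc_i_Cert_tree lc_i_Cert_tree lc_i_rc_54_0 lc_i_Cert_tree lc_i_Cert_tree lc_i_rc_54_0 lc_i_Cert_tree lc_i_rc_54_0 lc_i_Cert_tree lc_i_rc_54_0 lc_i_Cert_tree lc_i_rc_54_0 lc_i_rc_26_3 lc_i_rc_33_3 lc_i_rc_33_3 lc_i_rc_39_1 lc_i_rc_33_3 lc_i_rc_50_1 lc_i_Cert_tree lc_i_rc_26_3 lc_i_rc_54_0 lc_i_rc_18_3) (@D3.rec (fun _ => (Cert rels S Gen.i)) lc_i_rc_18_1 lc_i_rc_54_0 lc_i_rc_54_0 lc_i_rc_18_1 lc_i_Cert_tree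 lc_i_rc_50_1 lc_i_rc_54_0 lc_i_Cert_tree lc_i_rc_54_0 lc_i_rc_26_1 lc_i_rc_39_1 lc_i_Cert_tree lc_i_rc_54_0 lc_i_rc_26_1 lc_i_rc_54_0 lc_i_rc_18_1 lc_i_rc_33_1 lc_i_rc_9_1 lc_i_rc_18_1 lc_i_rc_39_1 lc_i_rc_26_3 lc_i_rc_54_0 lc_i_rc_18_1 lc_i_rc_33_1 lc_i_rc_33_1 lc_i_rc_54_0 lc_i_rc_18_1 lc_i_rc_33_1 lc_i_rc_9_1 lc_i_rc_18_1 lc_i_rc_39_1 lc_i_rc_41_3 lc_i_rc_26_1 lc_i_rc_33_1 lc_i_rc_46_1 lc_i_rc_41_1 lc_i_rc_39_1 lc_i_rc_46_1 lc_i_rc_54_0 lc_i_rc_18_1 lc_i_rc_46_1 lc_i_Cert_tree lc_i_Cert_tree lc_i_rc_54_0 lc_i_rc_54_0 lc_i_Cert_tree lc_i_rc_54_0 lc_i_Cert_tree lc_i_rc_54_0 lc_i_rc_54_0 lc_i_Cert_tree) (@D3.rec (fun _ => (Cert rels S Gen.i)) lc_i_rc_54_0 lc_i_Cert_tree lc_i_Cert_tree lc_i_rc_54_0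 lc_i_rc_54_0 lc_i_rc_54_0 lc_i_Cert_tree lc_i_rc_54_0 lc_i_Cert_tree lc_i_Cert_tree lc_i_rc_54_0 lc_i_Cert_tree lc_i_Cert_tree lc_i_rc_54_0 lc_i_Cert_tree lc_i_rc_54_0 lc_i_Cert_tree lc_i_rc_54_0 lc_i_rc_54_0 lc_i_rc_46_3 lc_i_Cert_tree lc_i_rc_54_0 lc_i_Cert_tree lc_i_rc_54_0 lc_i_Cert_tree lc_i_rc_54_0 lc_i_rc_33_1 lc_i_Cert_tree lc_i_Cert_tree lc_i_rc_54_0 lc_i_rc_26_1 lc_i_Cert_tree lc_i_Cert_tree lc_i_rc_54_0 lc_i_Cert_tree lc_i_rc_54_0 lc_i_rc_54_0 lc_i_rc_54_0 lc_i_rc_54_0 lc_i_rc_41_3 lc_i_rc_46_1 lc_i_Cert_tree lc_i_Cert_tree lc_i_rc_54_0 lc_i_rc_54_0 lc_i_Cert_tree lc_i_Cert_tree lc_i_rc_54_0 lc_i_Cert_tree lc_i_rc_54_0 lc_i_rc_54_0) (@D3.rec (fun _ => (Cert rels S Gen.i)) lc_i_Cert_tree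 lc_i_rc_54_0 lc_i_rc_54_0 lc_i_rc_39_1 lc_i_Cert_tree lc_i_Cert_tree lc_i_rc_54_0 lc_i_Cert_tree lc_i_rc_54_0 lc_i_rc_54_0 lc_i_rc_41_3 lc_i_Cert_tree lc_i_Cert_tree lc_i_rc_54_0 lc_i_Cert_tree lc_i_rc_54_0 lc_i_rc_50_1 lc_i_Cert_tree lc_i_Cert_tree lc_i_rc_54_0 lc_i_Cert_tree lc_i_rc_54_0 lc_i_Cert_tree lc_i_Cert_tree lc_i_rc_54_0 lc_i_Cert_tree lc_i_Cert_tree lc_i_rc_54_0 lc_i_Cert_tree lc_i_rc_54_0 lc_i_rc_41_3 lc_i_Cert_tree lc_i_rc_54_0 lc_i_Cert_tree lc_i_rc_54_0 lc_i_Cert_tree lc_i_rc_54_0 lc_i_Cert_tree lc_i_Cert_tree lc_i_rc_54_0 lc_i_Cert_tree lc_i_Cert_tree lc_i_rc_54_0 lc_i_Cert_tree lc_i_rc_54_0 lc_i_Cert_tree lc_i_rc_54_0 lc_i_rc_26_3 lc_i_rc_54_0 lc_i_rc_41_3 lc_i_rc_54_0) (@D3.rec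 (fun _ => (Cert rels S Gen.i)) lc_i_rc_54_0 lc_i_Cert_tree lc_i_rc_54_0 lc_i_rc_54_0 lc_i_Cert_tree lc_i_rc_54_0 lc_i_Cert_tree lc_i_rc_54_0 lc_i_rc_18_3 lc_i_rc_54_0 lc_i_rc_33_3 lc_i_rc_18_3 lc_i_Cert_tree lc_i_rc_54_0 lc_i_rc_41_3 lc_i_Cert_tree lc_i_rc_54_0 lc_i_rc_26_1 lc_i_rc_39_1 lc_i_rc_33_1 lc_i_Cert_tree lc_i_Cert_tree lc_i_Cert_tree lc_i_rc_54_0 lc_i_rc_54_0 lc_i_rc_26_1 lc_i_Cert_tree lc_i_Cert_tree lc_i_rc_54_0 lc_i_Cert_tree lc_i_rc_54_0 lc_i_Cert_tree lc_i_rc_54_0 lc_i_Cert_tree lc_i_rc_54_0 lc_i_rc_41_3 lc_i_rc_54_0 lc_i_Cert_tree lc_i_rc_54_0 lc_i_Cert_tree lc_i_rc_54_0 lc_i_Cert_tree lc_i_rc_54_0 lc_i_rc_18_1 lc_i_Cert_tree lc_i_rc_54_0 lc_i_rc_26_1 lc_i_Cert_tree lc_i_rc_54_0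 lc_i_rc_46_1 lc_i_Cert_tree) (@D3.rec (fun _ => (Cert rels S Gen.i)) lc_i_rc_54_0 lc_i_rc_41_3 lc_i_Cert_tree lc_i_rc_54_0 lc_i_rc_26_1 lc_i_rc_54_0 lc_i_rc_18_1 lc_i_rc_33_1 lc_i_rc_33_1 lc_i_Cert_tree lc_i_rc_54_0 lc_i_rc_18_1 lc_i_Cert_tree lc_i_Cert_tree lc_i_Cert_tree lc_i_rc_54_0 lc_i_rc_54_0 lc_i_rc_54_0 lc_i_Cert_tree lc_i_Cert_tree lc_i_Cert_tree lc_i_rc_54_0 lc_i_Cert_tree lc_i_rc_54_0 lc_i_rc_54_0 lc_i_Cert_tree lc_i_Cert_tree lc_i_rc_54_0 lc_i_Cert_tree lc_i_rc_54_0 lc_i_Cert_tree lc_i_Cert_tree lc_i_rc_54_0 lc_i_Cert_tree lc_i_Cert_tree lc_i_rc_54_0 lc_i_rc_54_0 lc_i_rc_41_3 lc_i_Cert_tree lc_i_rc_54_0 lc_i_Cert_tree lc_i_rc_54_0 lc_i_Cert_tree lc_i_Cert_tree lc_i_rc_54_0 lc_i_Cert_tree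 lc_i_Cert_tree lc_i_rc_54_0 lc_i_Cert_tree lc_i_rc_54_0 lc_i_Cert_tree) (@D3.rec (fun _ => (Cert rels S Gen.i)) lc_i_rc_54_0 lc_i_rc_9_1 lc_i_Cert_tree lc_i_rc_54_0 lc_i_rc_9_1 lc_i_Cert_tree lc_i_rc_33_1 lc_i_Cert_tree lc_i_Cert_tree lc_i_rc_54_0 lc_i_Cert_tree lc_i_rc_54_0 lc_i_Cert_tree lc_i_Cert_tree lc_i_rc_54_0 lc_i_Cert_tree lc_i_Cert_tree lc_i_rc_54_0 lc_i_Cert_tree lc_i_rc_54_0 lc_i_rc_41_3 lc_i_Cert_tree lc_i_Cert_tree lc_i_rc_54_0 lc_i_Cert_tree lc_i_Cert_tree lc_i_rc_54_0 lc_i_Cert_tree lc_i_Cert_tree lc_i_rc_54_0 lc_i_Cert_tree lc_i_Cert_tree lc_i_rc_54_0 lc_i_Cert_tree lc_i_rc_54_0 lc_i_rc_41_3 lc_i_Cert_tree lc_i_Cert_tree lc_i_rc_54_0 lc_i_Cert_tree lc_i_rc_54_0 lc_i_rc_26_1 lc_i_Cert_tree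 lc_i_rc_54_0 lc_i_rc_41_3 lc_i_Cert_tree lc_i_rc_54_0 lc_i_Cert_tree lc_i_rc_54_0 lc_i_Cert_tree lc_i_rc_54_0) (@D3.rec (fun _ => (Cert rels S Gen.i)) lc_i_rc_54_0 lc_i_Cert_tree lc_i_rc_54_0 lc_i_Cert_tree lc_i_Cert_tree lc_i_rc_54_0 lc_i_Cert_tree lc_i_Cert_tree lc_i_rc_54_0 lc_i_rc_54_0 lc_i_rc_18_1 lc_i_Cert_tree lc_i_rc_54_0 lc_i_rc_18_1 lc_i_Cert_tree lc_i_rc_54_0 lc_i_rc_26_1 lc_i_rc_54_0 lc_i_rc_18_1 lc_i_rc_33_1 lc_i_rc_54_0 lc_i_Cert_tree lc_i_Cert_tree lc_i_rc_54_0 lc_i_rc_54_0 lc_i_rc_46_1 lc_i_Cert_tree lc_i_Cert_tree lc_i_rc_54_0 lc_i_Cert_tree lc_i_rc_54_0 lc_i_rc_26_1 lc_i_rc_39_1 lc_i_Cert_tree lc_i_rc_54_0 lc_i_rc_26_1 lc_i_rc_54_0 lc_i_rc_18_1 lc_i_rc_33_1 lc_i_rc_9_1 lc_i_rc_18_1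 lc_i_rc_39_1 lc_i_Cert_tree lc_i_Cert_tree lc_i_Cert_tree lc_i_rc_54_0 lc_i_rc_54_0 lc_i_rc_54_0 lc_i_Cert_tree lc_i_rc_54_0 lc_i_rc_54_0) (@D3.rec (fun _ => (Cert rels S Gen.i)) lc_i_Cert_tree lc_i_rc_54_0 lc_i_Cert_tree lc_i_rc_54_0 lc_i_Cert_tree lc_i_Cert_tree lc_i_rc_54_0 lc_i_rc_54_0 lc_i_rc_54_0 lc_i_rc_54_0 lc_i_rc_54_0 lc_i_rc_18_1 lc_i_Cert_tree lc_i_rc_54_0 lc_i_Cert_tree lc_i_Cert_tree lc_i_Cert_tree lc_i_rc_54_0 lc_i_Cert_tree lc_i_rc_54_0 lc_i_rc_54_0 lc_i_rc_46_3 lc_i_rc_33_3 lc_i_Cert_tree lc_i_rc_54_0 lc_i_rc_54_0 lc_i_rc_54_0 lc_i_rc_54_0 lc_i_rc_9_1 lc_i_Cert_tree lc_i_rc_54_0 lc_i_rc_46_3 lc_i_rc_46_3 lc_i_Cert_tree lc_i_rc_54_0 lc_i_rc_54_0 lc_i_Cert_tree lc_i_rc_54_0 lc_i_Cert_tree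 lc_i_Cert_tree lc_i_rc_54_0 lc_i_Cert_tree lc_i_rc_54_0 lc_i_rc_41_3 lc_i_Cert_tree lc_i_rc_54_0 lc_i_rc_33_3 lc_i_rc_54_0 lc_i_rc_46_3 lc_i_rc_26_3 lc_i_Cert_tree) (@D3.rec (fun _ => (Cert rels S Gen.i)) lc_i_Cert_tree lc_i_rc_54_0 lc_i_rc_54_0 lc_i_Cert_tree lc_i_rc_54_0 lc_i_rc_41_3 lc_i_Cert_tree lc_i_rc_54_0 lc_i_rc_26_1 lc_i_rc_18_3 lc_i_rc_54_0 lc_i_rc_46_1 lc_i_Cert_tree lc_i_rc_54_0 lc_i_Cert_tree lc_i_rc_54_0 lc_i_rc_26_1 lc_i_rc_54_0 lc_i_rc_18_1 lc_i_rc_18_1 lc_i_rc_9_1 lc_i_Cert_tree lc_i_Cert_tree lc_i_rc_54_0 lc_i_rc_9_1 lc_i_Cert_tree lc_i_Cert_tree lc_i_Cert_tree lc_i_rc_54_0 lc_i_Cert_tree lc_i_rc_54_0 lc_i_rc_54_0 lc_i_rc_9_1 lc_i_Cert_tree lc_i_Cert_tree lc_i_rc_54_0 lc_i_rc_54_0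 lc_i_Cert_tree lc_i_rc_54_0 lc_i_Cert_tree lc_i_rc_54_0 lc_i_rc_33_1 lc_i_Cert_tree lc_i_Cert_tree lc_i_rc_54_0 lc_i_Cert_tree lc_i_Cert_tree lc_i_rc_54_0 lc_i_rc_26_1 lc_i_Cert_tree lc_i_Cert_tree) (@D3.rec (fun _ => (Cert rels S Gen.i)) lc_i_rc_54_0 lc_i_Cert_tree lc_i_rc_54_0 lc_i_Cert_tree lc_i_Cert_tree lc_i_rc_54_0 lc_i_Cert_tree lc_i_Cert_tree lc_i_rc_54_0 lc_i_rc_54_0 lc_i_rc_41_3 lc_i_rc_54_0 lc_i_Cert_tree lc_i_rc_54_0 lc_i_rc_54_0 lc_i_Cert_tree lc_i_Cert_tree lc_i_rc_54_0 lc_i_rc_54_0 lc_i_rc_18_1 lc_i_Cert_tree lc_i_rc_54_0 lc_i_rc_26_1 lc_i_rc_54_0 lc_i_rc_46_1 lc_i_rc_54_0 lc_i_rc_18_1 lc_i_rc_33_1 lc_i_rc_54_0 lc_i_rc_33_1 lc_i_Cert_tree lc_i_Cert_tree lc_i_rc_54_0 lc_i_Cert_tree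 lc_i_rc_54_0 lc_i_rc_50_1 lc_i_Cert_tree lc_i_Cert_tree lc_i_rc_54_0 lc_i_Cert_tree lc_i_rc_54_0 lc_i_Cert_tree lc_i_rc_54_0 lc_i_Cert_tree lc_i_rc_54_0 lc_i_rc_41_3 lc_i_Cert_tree lc_i_Cert_tree lc_i_rc_54_0 lc_i_Cert_tree lc_i_Cert_tree) (@D3.rec (fun _ => (Cert rels S Gen.i)) lc_i_rc_54_0 lc_i_rc_54_0 lc_i_rc_54_0 lc_i_rc_9_1 lc_i_Cert_tree lc_i_rc_54_0 lc_i_rc_26_1 lc_i_rc_50_1 lc_i_Cert_tree lc_i_rc_54_0 lc_i_Cert_tree lc_i_rc_54_0 lc_i_Cert_tree lc_i_Cert_tree lc_i_rc_54_0 lc_i_rc_33_1 lc_i_rc_54_0 lc_i_rc_41_3 lc_i_Cert_tree lc_i_Cert_tree lc_i_rc_54_0 lc_i_Cert_tree lc_i_Cert_tree lc_i_rc_54_0 lc_i_Cert_tree lc_i_rc_54_0 lc_i_Cert_tree lc_i_Cert_tree lc_i_rc_54_0 lc_i_Cert_tree lc_i_rc_54_0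 lc_i_rc_41_3 lc_i_Cert_tree lc_i_Cert_tree lc_i_rc_54_0 lc_i_Cert_tree lc_i_rc_54_0 lc_i_rc_26_1 lc_i_Cert_tree lc_i_rc_54_0 lc_i_rc_41_3 lc_i_Cert_tree lc_i_rc_54_0 lc_i_Cert_tree lc_i_rc_54_0 lc_i_rc_54_0 lc_i_Cert_tree lc_i_rc_54_0 lc_i_Cert_tree lc_i_Cert_tree lc_i_rc_54_0) (@D3.rec (fun _ => (Cert rels S Gen.i)) lc_i_Cert_tree lc_i_Cert_tree lc_i_rc_54_0 lc_i_rc_54_0 lc_i_rc_46_1 lc_i_Cert_tree lc_i_rc_54_0 lc_i_rc_41_3 lc_i_Cert_tree lc_i_rc_54_0 lc_i_rc_26_1 lc_i_rc_54_0 lc_i_rc_18_1 lc_i_rc_33_1 lc_i_rc_54_0 lc_i_Cert_tree lc_i_Cert_tree lc_i_rc_54_0 lc_i_rc_54_0 lc_i_rc_46_1 lc_i_Cert_tree lc_i_Cert_tree lc_i_rc_54_0 lc_i_Cert_tree lc_i_rc_54_0 lc_i_rc_26_1 lc_i_rc_46_1 lc_i_Cert_tree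 lc_i_rc_54_0 lc_i_rc_26_1 lc_i_rc_54_0 lc_i_rc_18_1 lc_i_rc_33_1 lc_i_rc_9_1 lc_i_rc_18_1 lc_i_rc_39_1 lc_i_rc_9_1 lc_i_Cert_tree lc_i_Cert_tree lc_i_rc_54_0 lc_i_Cert_tree lc_i_rc_54_0 lc_i_rc_54_0 lc_i_rc_26_1 lc_i_Cert_tree lc_i_rc_54_0 lc_i_Cert_tree lc_i_rc_33_1 lc_i_Cert_tree lc_i_Cert_tree lc_i_rc_54_0) (@D3.rec (fun _ => (Cert rels S Gen.i)) lc_i_Cert_tree lc_i_rc_54_0 lc_i_Cert_tree lc_i_rc_54_0 lc_i_rc_54_0 lc_i_rc_41_3 lc_i_Cert_tree lc_i_Cert_tree lc_i_rc_54_0 lc_i_Cert_tree lc_i_Cert_tree lc_i_rc_54_0 lc_i_Cert_tree lc_i_Cert_tree lc_i_rc_54_0 lc_i_Cert_tree lc_i_Cert_tree lc_i_rc_54_0 lc_i_Cert_tree lc_i_rc_54_0 lc_i_rc_41_3 lc_i_Cert_tree lc_i_rc_54_0 lc_i_rc_54_0 lc_i_rc_26_1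 lc_i_rc_41_3 lc_i_Cert_tree lc_i_rc_54_0 lc_i_rc_54_0 lc_i_Cert_tree lc_i_rc_54_0 lc_i_Cert_tree lc_i_Cert_tree lc_i_rc_54_0 lc_i_Cert_tree lc_i_Cert_tree lc_i_rc_54_0 lc_i_rc_54_0 lc_i_Cert_tree lc_i_rc_54_0 lc_i_Cert_tree lc_i_rc_54_0 lc_i_rc_54_0 lc_i_rc_54_0 lc_i_Cert_tree lc_i_rc_54_0 lc_i_rc_54_0 lc_i_rc_39_1 lc_i_Cert_tree lc_i_Cert_tree lc_i_rc_54_0) (@D3.rec (fun _ => (Cert rels S Gen.i)) lc_i_rc_54_0 lc_i_rc_26_1 lc_i_rc_39_1 lc_i_Cert_tree lc_i_rc_54_0 lc_i_rc_26_1 lc_i_rc_54_0 lc_i_rc_18_1 lc_i_rc_33_1 lc_i_rc_9_1 lc_i_rc_18_1 lc_i_rc_39_1 lc_i_Cert_tree lc_i_Cert_tree lc_i_rc_54_0 lc_i_rc_33_1 lc_i_Cert_tree lc_i_rc_39_1 lc_i_Cert_tree lc_i_Cert_tree lc_i_rc_54_0 lc_i_Cert_tree lc_i_rc_54_0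 lc_i_rc_54_0 lc_i_rc_41_3 lc_i_Cert_tree lc_i_Cert_tree lc_i_rc_54_0 lc_i_Cert_tree lc_i_Cert_tree lc_i_rc_54_0 lc_i_Cert_tree lc_i_rc_54_0 lc_i_Cert_tree lc_i_rc_54_0 lc_i_rc_41_3 lc_i_Cert_tree lc_i_rc_54_0 lc_i_rc_18_3 lc_i_Cert_tree lc_i_rc_54_0 lc_i_Cert_tree lc_i_Cert_tree lc_i_rc_54_0 lc_i_Cert_tree lc_i_Cert_tree lc_i_rc_54_0 lc_i_rc_54_0 lc_i_Cert_tree lc_i_rc_54_0 lc_i_Cert_tree) (@D3.rec (fun _ => (Cert rels S Gen.i)) lc_i_rc_54_0 lc_i_rc_54_0 lc_i_rc_39_1 lc_i_Cert_tree lc_i_Cert_tree lc_i_rc_54_0 lc_i_Cert_tree lc_i_Cert_tree lc_i_rc_54_0 lc_i_Cert_tree lc_i_Cert_tree lc_i_rc_54_0 lc_i_Cert_tree lc_i_Cert_tree lc_i_rc_54_0 lc_i_Cert_tree lc_i_Cert_tree lc_i_rc_54_0 lc_i_Cert_tree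 lc_i_rc_54_0 lc_i_rc_41_3 lc_i_Cert_tree lc_i_Cert_tree lc_i_rc_54_0 lc_i_Cert_tree lc_i_rc_54_0 lc_i_rc_26_1 lc_i_Cert_tree lc_i_rc_54_0 lc_i_rc_41_3 lc_i_Cert_tree lc_i_rc_54_0 lc_i_Cert_tree lc_i_Cert_tree lc_i_rc_54_0 lc_i_Cert_tree lc_i_Cert_tree lc_i_rc_54_0 lc_i_Cert_tree lc_i_rc_54_0 lc_i_rc_46_1 lc_i_Cert_tree lc_i_Cert_tree lc_i_rc_54_0 lc_i_Cert_tree lc_i_rc_54_0 lc_i_rc_41_3 lc_i_Cert_tree lc_i_Cert_tree lc_i_rc_54_0 lc_i_Cert_tree) (@D3.rec (fun _ => (Cert rels S Gen.i)) lc_i_rc_54_0 lc_i_rc_41_3 lc_i_Cert_tree lc_i_rc_54_0 lc_i_rc_41_3 lc_i_Cert_tree lc_i_rc_54_0 lc_i_Cert_tree lc_i_rc_54_0 lc_i_rc_18_1 lc_i_Cert_tree lc_i_rc_54_0 lc_i_rc_26_1 lc_i_rc_18_3 lc_i_Cert_tree lc_i_rc_54_0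 lc_i_rc_41_3 lc_i_Cert_tree lc_i_rc_54_0 lc_i_Cert_tree lc_i_rc_54_0 lc_i_rc_54_0 lc_i_Cert_tree lc_i_rc_54_0 lc_i_Cert_tree lc_i_Cert_tree lc_i_rc_54_0 lc_i_rc_54_0 lc_i_rc_26_3 lc_i_Cert_tree lc_i_rc_33_3 lc_i_rc_54_0 lc_i_Cert_tree lc_i_rc_54_0 lc_i_rc_26_1 lc_i_rc_26_1 lc_i_Cert_tree lc_i_rc_54_0 lc_i_rc_26_1 lc_i_rc_54_0 lc_i_rc_18_1 lc_i_rc_33_1 lc_i_rc_9_1 lc_i_rc_18_1 lc_i_rc_39_1 lc_i_rc_54_0 lc_i_rc_54_0 lc_i_rc_9_1 lc_i_rc_18_1 lc_i_rc_9_1 lc_i_Cert_tree) (@D3.rec (fun _ => (Cert rels S Gen.i)) lc_i_Cert_tree lc_i_rc_54_0 lc_i_Cert_tree lc_i_rc_54_0 lc_i_rc_9_1 lc_i_rc_39_1 lc_i_rc_18_1 lc_i_rc_9_1 lc_i_rc_9_1 lc_i_rc_18_1 lc_i_rc_54_0 lc_i_rc_18_1 lc_i_rc_9_1 lc_i_rc_18_1 lc_i_Cert_tree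 lc_i_rc_54_0 lc_i_rc_54_0 lc_i_rc_33_1 lc_i_rc_46_1 lc_i_rc_33_3 lc_i_rc_33_1 lc_i_rc_39_1 lc_i_rc_33_1 lc_i_rc_33_1 lc_i_Cert_tree lc_i_rc_54_0 lc_i_Cert_tree lc_i_Cert_tree lc_i_rc_54_0 lc_i_Cert_tree lc_i_rc_54_0 lc_i_Cert_tree lc_i_Cert_tree lc_i_rc_54_0 lc_i_Cert_tree lc_i_Cert_tree lc_i_rc_54_0 lc_i_rc_54_0 lc_i_Cert_tree lc_i_rc_54_0 lc_i_Cert_tree lc_i_rc_54_0 lc_i_rc_54_0 lc_i_rc_50_1 lc_i_rc_18_1 lc_i_rc_39_1 lc_i_rc_18_1 lc_i_rc_50_1 lc_i_rc_33_1 lc_i_rc_18_1 lc_i_Cert_tree) (@D3.rec (fun _ => (Cert rels S Gen.i)) lc_i_rc_33_1 lc_i_rc_33_1 lc_i_rc_9_1 lc_i_rc_18_1 lc_i_rc_39_1 lc_i_rc_9_1 lc_i_rc_26_1 lc_i_Cert_tree lc_i_rc_54_0 lc_i_Cert_tree lc_i_rc_54_0 lc_i_rc_54_0 lc_i_rc_41_3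 lc_i_rc_53_1 lc_i_rc_54_0 lc_i_rc_46_1 lc_i_rc_41_3 lc_i_rc_54_0 lc_i_rc_26_1 lc_i_rc_54_0 lc_i_rc_18_1 lc_i_rc_33_1 lc_i_rc_54_0 lc_i_rc_54_0 lc_i_rc_46_1 lc_i_rc_54_0 lc_i_rc_54_0 lc_i_rc_26_1 lc_i_rc_39_1 lc_i_rc_54_0 lc_i_rc_26_1 lc_i_rc_54_0 lc_i_rc_18_1 lc_i_rc_33_1 lc_i_rc_9_1 lc_i_rc_18_1 lc_i_rc_39_1 lc_i_rc_39_3 lc_i_rc_54_0 lc_i_rc_9_1 lc_i_rc_9_1 lc_i_rc_26_1 lc_i_rc_54_0 lc_i_rc_18_1 lc_i_rc_33_1 lc_i_rc_33_1 lc_i_rc_54_0 lc_i_rc_33_3 lc_i_rc_33_1 lc_i_rc_54_0 lc_i_rc_53_1) (@D3.rec (fun _ => (Cert rels S Gen.i)) lc_i_Cert_tree lc_i_rc_54_0 lc_i_Cert_tree lc_i_rc_54_0 lc_i_Cert_tree lc_i_rc_54_0 lc_i_rc_9_1 lc_i_Cert_tree lc_i_rc_54_0 lc_i_Cert_tree lc_i_rc_54_0 lc_i_rc_33_3 lc_i_Cert_tree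 lc_i_rc_54_0 lc_i_rc_39_1 lc_i_rc_18_3 lc_i_rc_26_3 lc_i_rc_54_0 lc_i_rc_33_1 lc_i_rc_54_0 lc_i_rc_9_3 lc_i_rc_54_0 lc_i_rc_41_3 lc_i_Cert_tree lc_i_rc_54_0 lc_i_Cert_tree lc_i_rc_54_0 lc_i_rc_26_1 lc_i_rc_41_3 lc_i_rc_54_0 lc_i_rc_26_1 lc_i_rc_54_0 lc_i_rc_18_1 lc_i_rc_33_1 lc_i_rc_9_1 lc_i_rc_18_1 lc_i_rc_39_1 lc_i_rc_54_0 lc_i_rc_26_1 lc_i_Cert_tree lc_i_rc_54_0 lc_i_rc_54_0 lc_i_rc_18_1 lc_i_rc_26_1 lc_i_rc_33_1 lc_i_rc_54_0 lc_i_rc_18_1 lc_i_rc_33_1 lc_i_rc_9_1 lc_i_rc_18_1 lc_i_rc_39_1) (@D3.rec (fun _ => (Cert rels S Gen.i)) lc_i_rc_9_1 lc_i_rc_26_1 lc_i_rc_18_1 lc_i_rc_46_1 lc_i_Cert_tree lc_i_rc_54_0 lc_i_rc_9_1 lc_i_Cert_tree lc_i_rc_54_0 lc_i_rc_9_1 lc_i_Cert_tree lc_i_rc_54_0 lc_i_rc_9_1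 lc_i_rc_54_0 lc_i_rc_18_1 lc_i_rc_9_1 lc_i_Cert_tree lc_i_rc_54_0 lc_i_Cert_tree lc_i_Cert_tree lc_i_rc_54_0 lc_i_Cert_tree lc_i_rc_54_0 lc_i_rc_53_1 lc_i_rc_53_3 lc_i_rc_54_0 lc_i_rc_46_1 lc_i_rc_54_0 lc_i_rc_18_1 lc_i_rc_9_1 lc_i_rc_9_1 lc_i_rc_18_1 lc_i_rc_9_1 lc_i_rc_54_0 lc_i_rc_41_3 lc_i_rc_33_1 lc_i_Cert_tree lc_i_rc_54_0 lc_i_Cert_tree lc_i_Cert_tree lc_i_rc_54_0 lc_i_rc_41_3 lc_i_Cert_tree lc_i_rc_54_0 lc_i_rc_41_3 lc_i_rc_33_1 lc_i_Cert_tree lc_i_rc_54_0 lc_i_Cert_tree lc_i_rc_54_0 lc_i_rc_41_3) (@D3.rec (fun _ => (Cert rels S Gen.i)) lc_i_rc_54_0 lc_i_rc_41_3 lc_i_Cert_tree lc_i_rc_54_0 lc_i_Cert_tree lc_i_rc_54_0 lc_i_rc_18_1 lc_i_Cert_tree lc_i_rc_54_0 lc_i_rc_41_3 lc_i_rc_41_3 lc_i_Cert_tree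 lc_i_rc_54_0 lc_i_rc_46_1 lc_i_Cert_tree lc_i_rc_54_0 lc_i_rc_9_1 lc_i_Cert_tree lc_i_rc_54_0 lc_i_rc_18_1 lc_i_rc_18_1 lc_i_Cert_tree lc_i_rc_54_0 lc_i_rc_46_1 lc_i_rc_33_1 lc_i_rc_41_3 lc_i_rc_54_0 lc_i_rc_50_1 lc_i_Cert_tree lc_i_rc_54_0 lc_i_rc_54_0 lc_i_Cert_tree lc_i_rc_54_0 lc_i_rc_39_1 lc_i_Cert_tree lc_i_rc_18_1 lc_i_rc_9_1 lc_i_rc_54_0 lc_i_rc_46_1 lc_i_rc_39_1 lc_i_rc_54_0 lc_i_rc_54_0 lc_i_rc_54_0 lc_i_rc_54_0 lc_i_rc_54_0 lc_i_rc_54_0 lc_i_rc_54_1 lc_i_rc_50_1 lc_i_rc_33_1 lc_i_rc_39_1 lc_i_rc_54_0)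
def ce_i_10 : D2 → D3 → (Cert rels S Gen.i) := @D2.rec (fun _ => D3 → (Cert rels S Gen.i)) (@D3.rec (fun _ => (Cert rels S Gen.i)) lc_i_rc_54_0 lc_i_Cert_tree lc_i_rc_54_0 lc_i_rc_54_0 lc_i_Cert_tree lc_i_rc_54_0 lc_i_Cert_tree lc_i_rc_54_0 lc_i_Cert_tree lc_i_rc_54_0 lc_i_Cert_tree lc_i_rc_54_0 lc_i_rc_33_1 lc_i_rc_54_1 lc_i_Cert_tree lc_i_rc_54_0 lc_i_rc_54_0 lc_i_rc_54_0 lc_i_Cert_tree lc_i_rc_54_0 lc_i_Cert_tree lc_i_rc_54_0 lc_i_Cert_tree lc_i_rc_54_0 lc_i_rc_41_3 lc_i_rc_46_1 lc_i_rc_54_0 lc_i_rc_39_1 lc_i_Cert_tree lc_i_rc_54_0 lc_i_rc_41_3 lc_i_Cert_tree lc_i_rc_54_0 lc_i_rc_9_1 lc_i_Cert_tree lc_i_rc_54_0 lc_i_rc_41_3 lc_i_Cert_tree lc_i_rc_54_0 lc_i_rc_41_3 lc_i_rc_54_0 lc_i_rc_54_0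 lc_i_rc_18_1 lc_i_rc_9_1 lc_i_Cert_tree lc_i_rc_54_0 lc_i_rc_9_1 lc_i_rc_9_1 lc_i_Cert_tree lc_i_rc_54_0 lc_i_rc_41_3) (@D3.rec (fun _ => (Cert rels S Gen.i)) lc_i_Cert_tree lc_i_rc_54_0 lc_i_rc_41_3 lc_i_Cert_tree lc_i_rc_54_0 lc_i_rc_46_1 lc_i_rc_33_1 lc_i_Cert_tree lc_i_rc_54_0 lc_i_rc_18_1 lc_i_rc_54_0 lc_i_rc_26_1 lc_i_Cert_tree lc_i_rc_54_0 lc_i_rc_46_1 lc_i_Cert_tree lc_i_rc_54_0 lc_i_rc_41_3 lc_i_Cert_tree lc_i_rc_54_0 lc_i_rc_26_1 lc_i_rc_54_0 lc_i_rc_18_1 lc_i_rc_33_1 lc_i_rc_33_1 lc_i_rc_41_3 lc_i_rc_26_1 lc_i_rc_18_1 lc_i_rc_41_3 lc_i_rc_46_3 lc_i_rc_33_1 lc_i_rc_53_1 lc_i_rc_46_1 lc_i_rc_33_1 lc_i_Cert_tree lc_i_rc_26_1 lc_i_rc_26_1 lc_i_Cert_tree lc_i_Cert_tree lc_i_rc_54_0 lc_i_rc_39_3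 lc_i_Cert_tree lc_i_rc_54_0 lc_i_Cert_tree lc_i_rc_54_0 lc_i_rc_41_3 lc_i_rc_41_3 lc_i_rc_54_0 lc_i_Cert_tree lc_i_rc_54_0 lc_i_rc_54_0) (@D3.rec (fun _ => (Cert rels S Gen.i)) lc_i_Cert_tree lc_i_rc_54_0 lc_i_rc_54_0 lc_i_Cert_tree lc_i_rc_54_0 lc_i_Cert_tree lc_i_rc_54_0 lc_i_rc_9_1 lc_i_rc_33_1 lc_i_Cert_tree lc_i_Cert_tree lc_i_rc_54_0 lc_i_Cert_tree lc_i_rc_54_0 lc_i_Cert_tree lc_i_Cert_tree lc_i_rc_54_0 lc_i_Cert_tree lc_i_rc_54_0 lc_i_rc_41_3 lc_i_Cert_tree lc_i_rc_54_0 lc_i_rc_41_3 lc_i_rc_54_0 lc_i_rc_33_1 lc_i_rc_33_1 lc_i_Cert_tree lc_i_Cert_tree lc_i_rc_54_0 lc_i_rc_26_1 lc_i_Cert_tree lc_i_Cert_tree lc_i_Cert_tree lc_i_rc_54_0 lc_i_Cert_tree lc_i_Cert_tree lc_i_rc_54_0 lc_i_Cert_tree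 lc_i_rc_54_0 lc_i_Cert_tree lc_i_rc_54_0 lc_i_rc_54_0 lc_i_rc_41_3 lc_i_rc_18_1 lc_i_Cert_tree lc_i_Cert_tree lc_i_rc_54_0 lc_i_rc_26_3 lc_i_rc_54_0 lc_i_Cert_tree lc_i_rc_54_0) (@D3.rec (fun _ => (Cert rels S Gen.i)) lc_i_Cert_tree lc_i_rc_54_0 lc_i_rc_46_1 lc_i_rc_54_0 lc_i_rc_54_0 lc_i_Cert_tree lc_i_rc_54_0 lc_i_Cert_tree lc_i_rc_54_0 lc_i_rc_18_3 lc_i_rc_46_1 lc_i_rc_54_0 lc_i_rc_39_1 lc_i_Cert_tree lc_i_Cert_tree lc_i_rc_54_0 lc_i_rc_54_0 lc_i_Cert_tree lc_i_rc_54_0 lc_i_rc_54_0 lc_i_rc_18_1 lc_i_rc_50_1 lc_i_rc_33_1 lc_i_rc_39_1 lc_i_Cert_tree lc_i_Cert_tree lc_i_rc_54_0 lc_i_Cert_tree lc_i_rc_54_0 lc_i_Cert_tree lc_i_rc_54_0 lc_i_rc_9_1 lc_i_Cert_tree lc_i_rc_54_0 lc_i_rc_9_1 lc_i_rc_39_1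 lc_i_rc_54_0 lc_i_rc_41_3 lc_i_rc_33_1 lc_i_Cert_tree lc_i_Cert_tree lc_i_Cert_tree lc_i_rc_54_0 lc_i_Cert_tree lc_i_rc_54_0 lc_i_rc_26_1 lc_i_Cert_tree lc_i_Cert_tree lc_i_rc_54_0 lc_i_Cert_tree lc_i_rc_54_0) (@D3.rec (fun _ => (Cert rels S Gen.i)) lc_i_Cert_tree lc_i_Cert_tree lc_i_rc_54_0 lc_i_Cert_tree lc_i_Cert_tree lc_i_rc_54_0 lc_i_Cert_tree lc_i_rc_54_0 lc_i_rc_41_3 lc_i_Cert_tree lc_i_rc_54_0 lc_i_rc_41_3 lc_i_Cert_tree lc_i_rc_54_0 lc_i_rc_41_3 lc_i_Cert_tree lc_i_rc_54_0 lc_i_rc_46_1 lc_i_rc_54_0 lc_i_Cert_tree lc_i_rc_54_0 lc_i_rc_54_0 lc_i_rc_54_0 lc_i_rc_54_0 lc_i_rc_39_1 lc_i_rc_33_1 lc_i_Cert_tree lc_i_Cert_tree lc_i_Cert_tree lc_i_rc_54_0 lc_i_Cert_tree lc_i_Cert_tree lc_i_rc_54_0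 lc_i_rc_26_1 lc_i_Cert_tree lc_i_Cert_tree lc_i_rc_54_0 lc_i_Cert_tree lc_i_rc_54_0 lc_i_Cert_tree lc_i_Cert_tree lc_i_rc_54_0 lc_i_Cert_tree lc_i_Cert_tree lc_i_rc_54_0 lc_i_rc_54_0 lc_i_rc_41_3 lc_i_Cert_tree lc_i_rc_54_0 lc_i_Cert_tree lc_i_rc_54_0) (@D3.rec (fun _ => (Cert rels S Gen.i)) lc_i_rc_41_3 lc_i_rc_41_3 lc_i_Cert_tree lc_i_Cert_tree lc_i_rc_54_0 lc_i_Cert_tree lc_i_Cert_tree lc_i_rc_54_0 lc_i_Cert_tree lc_i_rc_54_0 lc_i_Cert_tree lc_i_rc_54_0 lc_i_rc_18_1 lc_i_Cert_tree lc_i_rc_54_0 lc_i_rc_26_1 lc_i_rc_54_0 lc_i_Cert_tree lc_i_rc_54_0 lc_i_Cert_tree lc_i_Cert_tree lc_i_rc_54_0 lc_i_rc_54_0 lc_i_rc_46_1 lc_i_rc_54_0 lc_i_rc_41_3 lc_i_rc_54_0 lc_i_rc_26_1 lc_i_rc_54_0 lc_i_rc_18_1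 lc_i_rc_33_1 lc_i_rc_39_1 lc_i_rc_9_1 lc_i_Cert_tree lc_i_Cert_tree lc_i_rc_54_0 lc_i_rc_53_1 lc_i_Cert_tree lc_i_Cert_tree lc_i_Cert_tree lc_i_rc_54_0 lc_i_Cert_tree lc_i_Cert_tree lc_i_rc_54_0 lc_i_rc_54_0 lc_i_Cert_tree lc_i_rc_54_0 lc_i_rc_54_0 lc_i_rc_54_0 lc_i_rc_18_1 lc_i_rc_26_1) (@D3.rec (fun _ => (Cert rels S Gen.i)) lc_i_rc_33_1 lc_i_rc_33_1 lc_i_Cert_tree lc_i_Cert_tree lc_i_Cert_tree lc_i_rc_54_0 lc_i_Cert_tree lc_i_Cert_tree lc_i_rc_54_0 lc_i_rc_53_1 lc_i_Cert_tree lc_i_Cert_tree lc_i_rc_54_0 lc_i_Cert_tree lc_i_rc_54_0 lc_i_Cert_tree lc_i_Cert_tree lc_i_rc_54_0 lc_i_rc_54_0 lc_i_Cert_tree lc_i_rc_54_0 lc_i_rc_41_3 lc_i_Cert_tree lc_i_rc_54_0 lc_i_rc_9_1 lc_i_Cert_tree lc_i_rc_54_0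 lc_i_rc_9_1 lc_i_Cert_tree lc_i_rc_54_0 lc_i_rc_9_1 lc_i_Cert_tree lc_i_rc_54_0 lc_i_Cert_tree lc_i_rc_54_0 lc_i_rc_54_0 lc_i_rc_9_1 lc_i_rc_9_1 lc_i_rc_39_1 lc_i_Cert_tree lc_i_rc_33_1 lc_i_Cert_tree lc_i_Cert_tree lc_i_rc_54_0 lc_i_Cert_tree lc_i_rc_54_0 lc_i_Cert_tree lc_i_Cert_tree lc_i_rc_54_0 lc_i_Cert_tree lc_i_Cert_tree) (@D3.rec (fun _ => (Cert rels S Gen.i)) lc_i_rc_54_0 lc_i_Cert_tree lc_i_rc_54_0 lc_i_rc_41_3 lc_i_Cert_tree lc_i_Cert_tree lc_i_rc_54_0 lc_i_Cert_tree lc_i_Cert_tree lc_i_rc_54_0 lc_i_Cert_tree lc_i_Cert_tree lc_i_rc_54_0 lc_i_Cert_tree lc_i_Cert_tree lc_i_rc_54_0 lc_i_Cert_tree lc_i_rc_54_0 lc_i_rc_41_3 lc_i_Cert_tree lc_i_Cert_tree lc_i_rc_54_0 lc_i_Cert_tree lc_i_rc_54_0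 lc_i_rc_26_1 lc_i_Cert_tree lc_i_rc_54_0 lc_i_rc_41_3 lc_i_Cert_tree lc_i_rc_54_0 lc_i_rc_41_3 lc_i_Cert_tree lc_i_rc_54_0 lc_i_rc_41_3 lc_i_Cert_tree lc_i_rc_54_0 lc_i_rc_46_1 lc_i_rc_33_1 lc_i_rc_54_0 lc_i_rc_50_1 lc_i_rc_54_0 lc_i_Cert_tree lc_i_rc_54_0 lc_i_Cert_tree lc_i_Cert_tree lc_i_rc_54_0 lc_i_rc_54_0 lc_i_rc_18_1 lc_i_Cert_tree lc_i_rc_54_0 lc_i_rc_18_1) (@D3.rec (fun _ => (Cert rels S Gen.i)) lc_i_Cert_tree lc_i_rc_54_0 lc_i_rc_26_1 lc_i_rc_54_0 lc_i_rc_18_1 lc_i_rc_33_1 lc_i_Cert_tree lc_i_rc_54_0 lc_i_rc_46_1 lc_i_Cert_tree lc_i_Cert_tree lc_i_rc_54_0 lc_i_rc_54_0 lc_i_rc_26_1 lc_i_rc_39_1 lc_i_Cert_tree lc_i_rc_54_0 lc_i_rc_26_1 lc_i_rc_54_0 lc_i_rc_18_1 lc_i_rc_33_1 lc_i_rc_9_1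 lc_i_rc_18_1 lc_i_rc_39_1 lc_i_rc_54_0 lc_i_Cert_tree lc_i_rc_54_0 lc_i_rc_54_0 lc_i_Cert_tree lc_i_rc_54_0 lc_i_rc_54_0 lc_i_Cert_tree lc_i_rc_54_0 lc_i_rc_54_0 lc_i_rc_41_3 lc_i_Cert_tree lc_i_rc_54_0 lc_i_rc_54_0 lc_i_Cert_tree lc_i_rc_54_0 lc_i_rc_54_0 lc_i_Cert_tree lc_i_rc_54_0 lc_i_rc_41_3 lc_i_rc_18_1 lc_i_Cert_tree lc_i_rc_18_1 lc_i_Cert_tree lc_i_rc_54_0 lc_i_rc_9_1 lc_i_Cert_tree) (@D3.rec (fun _ => (Cert rels S Gen.i)) lc_i_rc_9_1 lc_i_rc_9_1 lc_i_Cert_tree lc_i_Cert_tree lc_i_rc_54_0 lc_i_Cert_tree lc_i_rc_54_0 lc_i_Cert_tree lc_i_rc_54_0 lc_i_rc_41_3 lc_i_rc_9_1 lc_i_Cert_tree lc_i_Cert_tree lc_i_rc_54_0 lc_i_Cert_tree lc_i_rc_54_0 lc_i_rc_54_0 lc_i_rc_33_1 lc_i_Cert_tree lc_i_Cert_tree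 lc_i_rc_54_0 lc_i_rc_26_1 lc_i_Cert_tree lc_i_Cert_tree lc_i_Cert_tree lc_i_rc_54_0 lc_i_Cert_tree lc_i_Cert_tree lc_i_rc_54_0 lc_i_Cert_tree lc_i_rc_54_0 lc_i_rc_54_0 lc_i_Cert_tree lc_i_rc_54_0 lc_i_rc_41_3 lc_i_rc_54_0 lc_i_rc_41_3 lc_i_rc_18_1 lc_i_rc_9_3 lc_i_rc_54_0 lc_i_Cert_tree lc_i_rc_54_0 lc_i_rc_54_0 lc_i_Cert_tree lc_i_rc_54_0 lc_i_rc_18_1 lc_i_rc_54_0 lc_i_rc_41_3 lc_i_Cert_tree lc_i_rc_54_0 lc_i_rc_26_1) (@D3.rec (fun _ => (Cert rels S Gen.i)) lc_i_Cert_tree lc_i_rc_18_1 lc_i_Cert_tree lc_i_Cert_tree lc_i_rc_54_0 lc_i_rc_54_0 lc_i_rc_9_1 lc_i_Cert_tree lc_i_Cert_tree lc_i_rc_54_0 lc_i_rc_9_1 lc_i_Cert_tree lc_i_Cert_tree lc_i_Cert_tree lc_i_rc_54_0 lc_i_Cert_tree lc_i_Cert_tree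 lc_i_rc_54_0 lc_i_rc_54_0 lc_i_Cert_tree lc_i_rc_54_0 lc_i_rc_54_0 lc_i_rc_41_3 lc_i_rc_9_1 lc_i_rc_54_0 lc_i_rc_54_0 lc_i_Cert_tree lc_i_rc_54_0 lc_i_Cert_tree lc_i_rc_54_0 lc_i_rc_9_1 lc_i_rc_54_0 lc_i_Cert_tree lc_i_Cert_tree lc_i_Cert_tree lc_i_rc_54_0 lc_i_Cert_tree lc_i_Cert_tree lc_i_rc_54_0 lc_i_rc_46_3 lc_i_Cert_tree lc_i_rc_54_0 lc_i_Cert_tree lc_i_rc_54_0 lc_i_Cert_tree lc_i_Cert_tree lc_i_rc_54_0 lc_i_Cert_tree lc_i_Cert_tree lc_i_rc_54_0 lc_i_Cert_tree) (@D3.rec (fun _ => (Cert rels S Gen.i)) lc_i_rc_54_0 lc_i_rc_41_3 lc_i_rc_54_0 lc_i_rc_41_3 lc_i_Cert_tree lc_i_rc_54_0 lc_i_rc_41_3 lc_i_rc_18_3 lc_i_rc_54_0 lc_i_rc_46_1 lc_i_rc_54_0 lc_i_rc_50_1 lc_i_Cert_tree lc_i_rc_54_0 lc_i_rc_26_1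 lc_i_rc_54_0 lc_i_rc_18_1 lc_i_rc_54_0 lc_i_Cert_tree lc_i_rc_54_0 lc_i_rc_54_0 lc_i_rc_41_3 lc_i_Cert_tree lc_i_rc_54_0 lc_i_rc_54_0 lc_i_rc_54_0 lc_i_Cert_tree lc_i_rc_54_0 lc_i_Cert_tree lc_i_rc_54_0 lc_i_rc_41_3 lc_i_rc_54_0 lc_i_rc_41_3 lc_i_Cert_tree lc_i_rc_54_0 lc_i_Cert_tree lc_i_rc_54_0 lc_i_Cert_tree lc_i_rc_54_0 lc_i_rc_18_1 lc_i_Cert_tree lc_i_rc_54_0 lc_i_Cert_tree lc_i_Cert_tree lc_i_rc_54_0 lc_i_Cert_tree lc_i_rc_54_0 lc_i_Cert_tree lc_i_rc_54_0 lc_i_rc_41_3 lc_i_Cert_tree) (@D3.rec (fun _ => (Cert rels S Gen.i)) lc_i_rc_54_0 lc_i_rc_26_1 lc_i_rc_18_1 lc_i_Cert_tree lc_i_rc_18_1 lc_i_rc_18_1 lc_i_Cert_tree lc_i_Cert_tree lc_i_rc_54_0 lc_i_Cert_tree lc_i_rc_54_0 lc_i_rc_9_1 lc_i_rc_9_1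 lc_i_Cert_tree lc_i_Cert_tree lc_i_rc_54_0 lc_i_rc_9_1 lc_i_Cert_tree lc_i_Cert_tree lc_i_Cert_tree lc_i_rc_54_0 lc_i_Cert_tree lc_i_Cert_tree lc_i_rc_54_0 lc_i_rc_54_0 lc_i_Cert_tree lc_i_rc_54_0 lc_i_rc_54_0 lc_i_rc_41_3 lc_i_rc_9_1 lc_i_Cert_tree lc_i_Cert_tree lc_i_rc_54_0 lc_i_rc_54_0 lc_i_Cert_tree lc_i_rc_54_0 lc_i_Cert_tree lc_i_rc_54_0 lc_i_rc_33_1 lc_i_rc_39_1 lc_i_rc_33_1 lc_i_Cert_tree lc_i_Cert_tree lc_i_Cert_tree lc_i_rc_54_0 lc_i_Cert_tree lc_i_Cert_tree lc_i_rc_54_0 lc_i_rc_26_1 lc_i_Cert_tree lc_i_Cert_tree) (@D3.rec (fun _ => (Cert rels S Gen.i)) lc_i_rc_54_0 lc_i_Cert_tree lc_i_rc_54_0 lc_i_Cert_tree lc_i_Cert_tree lc_i_rc_54_0 lc_i_Cert_tree lc_i_Cert_tree lc_i_rc_54_0 lc_i_Cert_tree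 lc_i_rc_54_0 lc_i_rc_41_3 lc_i_rc_54_0 lc_i_Cert_tree lc_i_rc_54_0 lc_i_rc_41_3 lc_i_Cert_tree lc_i_rc_54_0 lc_i_rc_41_3 lc_i_rc_54_0 lc_i_rc_46_1 lc_i_Cert_tree lc_i_Cert_tree lc_i_rc_54_0 lc_i_Cert_tree lc_i_Cert_tree lc_i_rc_54_0 lc_i_rc_54_0 lc_i_Cert_tree lc_i_rc_54_0 lc_i_rc_18_1 lc_i_Cert_tree lc_i_rc_54_0 lc_i_rc_26_1 lc_i_rc_54_0 lc_i_Cert_tree lc_i_rc_54_0 lc_i_Cert_tree lc_i_Cert_tree lc_i_rc_54_0 lc_i_rc_54_0 lc_i_rc_46_1 lc_i_Cert_tree lc_i_rc_54_0 lc_i_rc_41_3 lc_i_Cert_tree lc_i_rc_54_0 lc_i_rc_26_1 lc_i_rc_54_0 lc_i_rc_18_1 lc_i_rc_33_1) (@D3.rec (fun _ => (Cert rels S Gen.i)) lc_i_rc_46_1 lc_i_rc_50_1 lc_i_rc_50_1 lc_i_Cert_tree lc_i_Cert_tree lc_i_rc_54_0 lc_i_rc_18_1 lc_i_Cert_tree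 lc_i_Cert_tree lc_i_Cert_tree lc_i_rc_54_0 lc_i_Cert_tree lc_i_rc_54_0 lc_i_rc_54_0 lc_i_rc_33_1 lc_i_rc_9_1 lc_i_Cert_tree lc_i_Cert_tree lc_i_Cert_tree lc_i_rc_54_0 lc_i_Cert_tree lc_i_Cert_tree lc_i_rc_54_0 lc_i_rc_9_1 lc_i_Cert_tree lc_i_Cert_tree lc_i_rc_54_0 lc_i_Cert_tree lc_i_rc_54_0 lc_i_Cert_tree lc_i_Cert_tree lc_i_rc_54_0 lc_i_Cert_tree lc_i_Cert_tree lc_i_rc_54_0 lc_i_rc_54_0 lc_i_rc_41_3 lc_i_Cert_tree lc_i_rc_54_0 lc_i_Cert_tree lc_i_rc_54_0 lc_i_rc_41_3 lc_i_rc_41_3 lc_i_Cert_tree lc_i_Cert_tree lc_i_rc_54_0 lc_i_Cert_tree lc_i_Cert_tree lc_i_rc_54_0 lc_i_Cert_tree lc_i_rc_54_0) (@D3.rec (fun _ => (Cert rels S Gen.i)) lc_i_Cert_tree lc_i_rc_54_0 lc_i_rc_9_1 lc_i_Cert_tree lc_i_rc_54_0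 lc_i_rc_26_1 lc_i_rc_26_3 lc_i_Cert_tree lc_i_rc_54_1 lc_i_Cert_tree lc_i_Cert_tree lc_i_rc_54_0 lc_i_Cert_tree lc_i_rc_54_0 lc_i_Cert_tree lc_i_Cert_tree lc_i_rc_54_0 lc_i_Cert_tree lc_i_Cert_tree lc_i_rc_54_0 lc_i_Cert_tree lc_i_rc_54_0 lc_i_rc_41_3 lc_i_Cert_tree lc_i_Cert_tree lc_i_rc_54_0 lc_i_Cert_tree lc_i_Cert_tree lc_i_rc_54_0 lc_i_Cert_tree lc_i_Cert_tree lc_i_rc_54_0 lc_i_Cert_tree lc_i_Cert_tree lc_i_rc_54_0 lc_i_Cert_tree lc_i_rc_54_0 lc_i_rc_41_3 lc_i_Cert_tree lc_i_Cert_tree lc_i_rc_54_0 lc_i_Cert_tree lc_i_rc_54_0 lc_i_rc_26_1 lc_i_Cert_tree lc_i_rc_54_0 lc_i_rc_41_3 lc_i_Cert_tree lc_i_rc_54_0 lc_i_rc_41_3 lc_i_Cert_tree) (@D3.rec (fun _ => (Cert rels S Gen.i)) lc_i_rc_54_0 lc_i_rc_41_3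 lc_i_Cert_tree lc_i_rc_54_0 lc_i_rc_46_1 lc_i_rc_33_1 lc_i_rc_54_0 lc_i_rc_50_1 lc_i_rc_54_0 lc_i_Cert_tree lc_i_Cert_tree lc_i_rc_54_0 lc_i_Cert_tree lc_i_Cert_tree lc_i_rc_54_0 lc_i_rc_54_0 lc_i_rc_50_1 lc_i_rc_54_0 lc_i_rc_53_1 lc_i_Cert_tree lc_i_rc_54_0 lc_i_rc_26_1 lc_i_rc_54_0 lc_i_rc_18_1 lc_i_rc_33_1 lc_i_rc_54_0 lc_i_rc_46_1 lc_i_Cert_tree lc_i_Cert_tree lc_i_rc_54_0 lc_i_rc_54_0 lc_i_rc_26_1 lc_i_rc_50_1 lc_i_rc_54_0 lc_i_rc_18_1 lc_i_rc_9_1 lc_i_rc_18_1 lc_i_rc_54_0 lc_i_rc_18_1 lc_i_Cert_tree lc_i_rc_54_0 lc_i_rc_54_0 lc_i_rc_41_3 lc_i_rc_54_0 lc_i_rc_54_0 lc_i_Cert_tree lc_i_rc_54_0 lc_i_rc_41_3 lc_i_Cert_tree lc_i_rc_54_0 lc_i_rc_41_3) (@D3.rec (fun _ => (Cert rels S Gen.i)) lc_i_rc_54_0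 lc_i_rc_46_1 lc_i_rc_33_1 lc_i_rc_54_0 lc_i_rc_18_1 lc_i_Cert_tree lc_i_Cert_tree lc_i_Cert_tree lc_i_rc_54_0 lc_i_Cert_tree lc_i_rc_54_0 lc_i_rc_54_0 lc_i_rc_9_1 lc_i_Cert_tree lc_i_Cert_tree lc_i_rc_54_0 lc_i_Cert_tree lc_i_rc_54_0 lc_i_Cert_tree lc_i_rc_54_0 lc_i_rc_54_0 lc_i_rc_26_1 lc_i_Cert_tree lc_i_rc_54_0 lc_i_Cert_tree lc_i_rc_54_0 lc_i_rc_41_3 lc_i_rc_41_3 lc_i_Cert_tree lc_i_rc_54_0 lc_i_rc_39_1 lc_i_Cert_tree lc_i_rc_33_1 lc_i_Cert_tree lc_i_Cert_tree lc_i_rc_54_0 lc_i_Cert_tree lc_i_rc_54_0 lc_i_Cert_tree lc_i_rc_54_0 lc_i_rc_54_0 lc_i_rc_41_3 lc_i_Cert_tree lc_i_Cert_tree lc_i_rc_54_0 lc_i_Cert_tree lc_i_Cert_tree lc_i_rc_54_0 lc_i_Cert_tree lc_i_Cert_tree lc_i_rc_54_0) (@D3.rec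 (fun _ => (Cert rels S Gen.i)) lc_i_Cert_tree lc_i_Cert_tree lc_i_rc_54_0 lc_i_Cert_tree lc_i_rc_54_0 lc_i_rc_41_3 lc_i_rc_54_0 lc_i_rc_54_0 lc_i_rc_26_1 lc_i_Cert_tree lc_i_rc_54_0 lc_i_rc_41_3 lc_i_Cert_tree lc_i_rc_54_0 lc_i_rc_41_3 lc_i_Cert_tree lc_i_rc_54_0 lc_i_rc_41_3 lc_i_Cert_tree lc_i_rc_54_0 lc_i_rc_46_1 lc_i_rc_33_1 lc_i_rc_54_0 lc_i_rc_50_1 lc_i_Cert_tree lc_i_rc_54_0 lc_i_Cert_tree lc_i_Cert_tree lc_i_rc_54_0 lc_i_Cert_tree lc_i_Cert_tree lc_i_rc_54_0 lc_i_rc_54_0 lc_i_rc_54_0 lc_i_rc_54_0 lc_i_rc_54_0 lc_i_rc_54_0 lc_i_rc_54_0 lc_i_rc_33_1 lc_i_rc_54_0 lc_i_rc_18_1 lc_i_rc_33_1 lc_i_rc_39_1 lc_i_rc_18_1 lc_i_Cert_tree lc_i_Cert_tree lc_i_Cert_tree lc_i_rc_54_0 lc_i_rc_54_0 lc_i_rc_33_3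 lc_i_Cert_tree) (@D3.rec (fun _ => (Cert rels S Gen.i)) lc_i_Cert_tree lc_i_rc_54_0 lc_i_Cert_tree lc_i_rc_54_0 lc_i_Cert_tree lc_i_rc_54_0 lc_i_rc_54_0 lc_i_rc_41_3 lc_i_rc_9_1 lc_i_Cert_tree lc_i_rc_9_1 lc_i_Cert_tree lc_i_Cert_tree lc_i_rc_54_0 lc_i_Cert_tree lc_i_rc_54_0 lc_i_Cert_tree lc_i_rc_54_0 lc_i_rc_54_0 lc_i_rc_41_3 lc_i_Cert_tree lc_i_Cert_tree lc_i_rc_54_0 lc_i_Cert_tree lc_i_Cert_tree lc_i_rc_54_0 lc_i_Cert_tree lc_i_Cert_tree lc_i_rc_54_0 lc_i_Cert_tree lc_i_Cert_tree lc_i_rc_54_0 lc_i_Cert_tree lc_i_rc_54_0 lc_i_rc_41_3 lc_i_rc_54_0 lc_i_rc_54_0 lc_i_rc_18_3 lc_i_rc_41_3 lc_i_Cert_tree lc_i_rc_54_0 lc_i_rc_41_3 lc_i_rc_54_0 lc_i_rc_41_3 lc_i_rc_33_1 lc_i_Cert_tree lc_i_rc_54_0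 lc_i_Cert_tree lc_i_Cert_tree lc_i_rc_54_0 lc_i_Cert_tree) (@D3.rec (fun _ => (Cert rels S Gen.i)) lc_i_Cert_tree lc_i_rc_54_0 lc_i_rc_54_0 lc_i_rc_54_0 lc_i_Cert_tree lc_i_rc_54_0 lc_i_rc_54_0 lc_i_rc_39_1 lc_i_Cert_tree lc_i_Cert_tree lc_i_rc_54_0 lc_i_Cert_tree lc_i_Cert_tree lc_i_rc_54_0 lc_i_Cert_tree lc_i_Cert_tree lc_i_rc_54_0 lc_i_Cert_tree lc_i_Cert_tree lc_i_rc_54_0 lc_i_Cert_tree lc_i_Cert_tree lc_i_rc_54_0 lc_i_Cert_tree lc_i_rc_54_0 lc_i_rc_41_3 lc_i_rc_54_0 lc_i_Cert_tree lc_i_rc_54_0 lc_i_rc_26_1 lc_i_Cert_tree lc_i_rc_54_0 lc_i_rc_41_3 lc_i_Cert_tree lc_i_rc_54_0 lc_i_Cert_tree lc_i_Cert_tree lc_i_rc_54_0 lc_i_Cert_tree lc_i_Cert_tree lc_i_rc_54_0 lc_i_Cert_tree lc_i_rc_54_0 lc_i_rc_46_1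 lc_i_Cert_tree lc_i_Cert_tree lc_i_rc_54_0 lc_i_Cert_tree lc_i_rc_54_0 lc_i_rc_41_3 lc_i_Cert_tree) (@D3.rec (fun _ => (Cert rels S Gen.i)) lc_i_Cert_tree lc_i_rc_54_0 lc_i_Cert_tree lc_i_rc_54_0 lc_i_rc_41_3 lc_i_Cert_tree lc_i_rc_54_0 lc_i_rc_41_3 lc_i_rc_54_0 lc_i_Cert_tree lc_i_rc_54_0 lc_i_rc_18_1 lc_i_Cert_tree lc_i_rc_54_0 lc_i_rc_26_1 lc_i_rc_18_3 lc_i_Cert_tree lc_i_rc_54_0 lc_i_rc_41_3 lc_i_rc_33_1 lc_i_Cert_tree lc_i_rc_54_0 lc_i_rc_41_3 lc_i_Cert_tree lc_i_rc_54_0 lc_i_rc_46_1 lc_i_rc_33_1 lc_i_rc_54_0 lc_i_rc_50_1 lc_i_rc_33_1 lc_i_rc_26_1 lc_i_rc_53_1 lc_i_Cert_tree lc_i_Cert_tree lc_i_rc_54_0 lc_i_Cert_tree lc_i_Cert_tree lc_i_rc_54_0 lc_i_rc_54_0 lc_i_rc_18_1 lc_i_Cert_tree lc_i_Cert_tree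 lc_i_rc_54_0 lc_i_Cert_tree lc_i_rc_54_0 lc_i_rc_26_1 lc_i_rc_39_1 lc_i_Cert_tree lc_i_rc_54_0 lc_i_rc_26_1 lc_i_rc_54_0) (@D3.rec (fun _ => (Cert rels S Gen.i)) lc_i_rc_18_1 lc_i_rc_33_1 lc_i_rc_9_1 lc_i_rc_18_1 lc_i_rc_39_1 lc_i_rc_26_3 lc_i_rc_54_0 lc_i_rc_54_0 lc_i_rc_50_1 lc_i_Cert_tree lc_i_rc_26_3 lc_i_rc_54_0 lc_i_Cert_tree lc_i_rc_54_0 lc_i_Cert_tree lc_i_rc_54_0 lc_i_rc_18_1 lc_i_rc_54_0 lc_i_rc_33_1 lc_i_rc_33_1 lc_i_rc_54_0 lc_i_rc_18_1 lc_i_rc_33_1 lc_i_rc_9_1 lc_i_rc_18_1 lc_i_rc_39_1 lc_i_rc_39_1 lc_i_Cert_tree lc_i_Cert_tree lc_i_rc_54_0 lc_i_Cert_tree lc_i_rc_54_0 lc_i_Cert_tree lc_i_Cert_tree lc_i_rc_54_0 lc_i_rc_54_0 lc_i_rc_50_1 lc_i_rc_26_3 lc_i_rc_39_1 lc_i_rc_18_3 lc_i_rc_50_3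 lc_i_rc_33_1 lc_i_Cert_tree lc_i_Cert_tree lc_i_rc_54_0 lc_i_Cert_tree lc_i_Cert_tree lc_i_rc_54_0 lc_i_rc_54_0 lc_i_Cert_tree lc_i_rc_54_0) (@D3.rec (fun _ => (Cert rels S Gen.i)) lc_i_Cert_tree lc_i_Cert_tree lc_i_rc_54_0 lc_i_rc_54_0 lc_i_Cert_tree lc_i_rc_54_0 lc_i_Cert_tree lc_i_rc_54_0 lc_i_rc_54_0 lc_i_rc_33_3 lc_i_rc_46_1 lc_i_rc_33_3 lc_i_rc_39_1 lc_i_rc_33_1 lc_i_rc_18_3 lc_i_rc_18_1 lc_i_rc_54_0 lc_i_rc_18_1 lc_i_rc_53_3 lc_i_rc_26_1 lc_i_rc_54_0 lc_i_rc_18_1 lc_i_Cert_tree lc_i_rc_54_0 lc_i_rc_39_1 lc_i_rc_33_1 lc_i_rc_33_1 lc_i_rc_54_0 lc_i_rc_18_1 lc_i_rc_33_1 lc_i_rc_9_1 lc_i_rc_18_1 lc_i_rc_39_1 lc_i_rc_9_1 lc_i_rc_18_1 lc_i_rc_9_1 lc_i_rc_18_1 lc_i_rc_33_1 lc_i_Cert_tree lc_i_rc_54_0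 lc_i_rc_54_0 lc_i_Cert_tree lc_i_rc_54_0 lc_i_Cert_tree lc_i_rc_54_0 lc_i_rc_54_0 lc_i_rc_54_0 lc_i_rc_54_0 lc_i_rc_54_0 lc_i_Cert_tree lc_i_rc_54_0) (@D3.rec (fun _ => (Cert rels S Gen.i)) lc_i_Cert_tree lc_i_rc_54_0 lc_i_Cert_tree lc_i_Cert_tree lc_i_rc_54_0 lc_i_Cert_tree lc_i_rc_54_0 lc_i_rc_41_3 lc_i_rc_54_0 lc_i_rc_33_3 lc_i_rc_54_0 lc_i_rc_9_3 lc_i_rc_54_0 lc_i_rc_54_0 lc_i_rc_54_0 lc_i_Cert_tree lc_i_Cert_tree lc_i_rc_54_0 lc_i_Cert_tree lc_i_rc_54_0 lc_i_Cert_tree lc_i_rc_54_0 lc_i_rc_54_0 lc_i_rc_54_0 lc_i_rc_41_3 lc_i_rc_33_3 lc_i_Cert_tree lc_i_Cert_tree lc_i_rc_54_0 lc_i_rc_54_0 lc_i_Cert_tree lc_i_rc_54_0 lc_i_Cert_tree lc_i_rc_54_0 lc_i_rc_54_0 lc_i_rc_41_3 lc_i_Cert_tree lc_i_rc_54_0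 lc_i_Cert_tree lc_i_Cert_tree lc_i_rc_54_0 lc_i_rc_54_0 lc_i_rc_54_0 lc_i_rc_26_1 lc_i_Cert_tree lc_i_rc_54_0 lc_i_rc_54_0 lc_i_Cert_tree lc_i_rc_54_0 lc_i_rc_41_3 lc_i_Cert_tree) (@D3.rec (fun _ => (Cert rels S Gen.i)) lc_i_Cert_tree lc_i_rc_54_0 lc_i_Cert_tree lc_i_Cert_tree lc_i_rc_54_0 lc_i_Cert_tree lc_i_rc_54_0 lc_i_Cert_tree lc_i_Cert_tree lc_i_rc_54_0 lc_i_Cert_tree lc_i_rc_54_0 lc_i_rc_41_3 lc_i_Cert_tree lc_i_rc_54_0 lc_i_Cert_tree lc_i_rc_54_0 lc_i_rc_41_3 lc_i_Cert_tree lc_i_rc_54_0 lc_i_rc_41_3 lc_i_Cert_tree lc_i_rc_54_0 lc_i_Cert_tree lc_i_rc_54_0 lc_i_rc_54_0 lc_i_rc_54_0 lc_i_Cert_tree lc_i_rc_54_0 lc_i_Cert_tree lc_i_Cert_tree lc_i_rc_54_0 lc_i_rc_54_0 lc_i_Cert_tree lc_i_rc_54_0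 lc_i_rc_54_0 lc_i_rc_50_1 lc_i_rc_46_1 lc_i_rc_33_1 lc_i_Cert_tree lc_i_rc_54_0 lc_i_Cert_tree lc_i_rc_54_0 lc_i_rc_54_0 lc_i_rc_46_1 lc_i_rc_33_1 lc_i_rc_26_1 lc_i_rc_18_1 lc_i_Cert_tree lc_i_rc_54_0 lc_i_rc_26_1) (@D3.rec (fun _ => (Cert rels S Gen.i)) lc_i_rc_54_0 lc_i_rc_18_1 lc_i_rc_33_1 lc_i_Cert_tree lc_i_Cert_tree lc_i_Cert_tree lc_i_rc_54_0 lc_i_Cert_tree lc_i_rc_54_0 lc_i_rc_54_0 lc_i_rc_41_3 lc_i_Cert_tree lc_i_rc_54_0 lc_i_Cert_tree lc_i_Cert_tree lc_i_rc_54_0 lc_i_Cert_tree lc_i_rc_54_0 lc_i_Cert_tree lc_i_rc_54_0 lc_i_rc_41_3 lc_i_Cert_tree lc_i_rc_54_0 lc_i_rc_9_3 lc_i_Cert_tree lc_i_rc_54_0 lc_i_rc_18_1 lc_i_Cert_tree lc_i_rc_54_0 lc_i_rc_18_1 lc_i_Cert_tree lc_i_rc_54_0 lc_i_rc_26_1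 lc_i_rc_54_0 lc_i_rc_18_1 lc_i_rc_33_1 lc_i_Cert_tree lc_i_rc_54_0 lc_i_rc_26_1 lc_i_Cert_tree lc_i_rc_54_0 lc_i_rc_26_1 lc_i_rc_54_0 lc_i_rc_18_1 lc_i_rc_33_1 lc_i_rc_9_1 lc_i_rc_18_1 lc_i_rc_39_1 lc_i_Cert_tree lc_i_rc_54_0 lc_i_Cert_tree)
def ce_i_11 : D2 → D3 → (Cert rels S Gen.i) := @D2.rec (fun _ => D3 → (Cert rels S Gen.i)) (@D3.rec (fun _ => (Cert rels S Gen.i)) lc_i_Cert_tree lc_i_rc_54_0 lc_i_Cert_tree lc_i_rc_54_0 lc_i_rc_54_0 lc_i_rc_9_3 lc_i_Cert_tree lc_i_rc_54_0 lc_i_Cert_tree lc_i_rc_54_0 lc_i_Cert_tree lc_i_rc_54_0 lc_i_rc_54_0 lc_i_rc_41_3 lc_i_Cert_tree lc_i_Cert_tree lc_i_rc_54_0 lc_i_Cert_tree lc_i_Cert_tree lc_i_rc_54_0 lc_i_Cert_tree lc_i_Cert_tree lc_i_rc_54_0 lc_i_Cert_tree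 lc_i_Cert_tree lc_i_rc_54_0 lc_i_Cert_tree lc_i_rc_54_0 lc_i_rc_41_3 lc_i_rc_54_0 lc_i_rc_54_0 lc_i_rc_26_1 lc_i_rc_9_3 lc_i_Cert_tree lc_i_rc_54_0 lc_i_rc_54_0 lc_i_Cert_tree lc_i_rc_54_0 lc_i_Cert_tree lc_i_Cert_tree lc_i_rc_54_0 lc_i_Cert_tree lc_i_Cert_tree lc_i_rc_54_0 lc_i_rc_54_0 lc_i_rc_9_1 lc_i_Cert_tree lc_i_rc_54_0 lc_i_rc_9_1 lc_i_Cert_tree lc_i_rc_54_0) (@D3.rec (fun _ => (Cert rels S Gen.i)) lc_i_rc_9_1 lc_i_rc_54_0 lc_i_rc_18_1 lc_i_rc_9_1 lc_i_Cert_tree lc_i_rc_54_0 lc_i_Cert_tree lc_i_Cert_tree lc_i_rc_54_0 lc_i_Cert_tree lc_i_Cert_tree lc_i_rc_54_0 lc_i_Cert_tree lc_i_rc_54_0 lc_i_Cert_tree lc_i_Cert_tree lc_i_rc_54_0 lc_i_Cert_tree lc_i_rc_54_0 lc_i_rc_41_3 lc_i_Cert_tree lc_i_rc_54_0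 lc_i_rc_54_0 lc_i_rc_26_1 lc_i_Cert_tree lc_i_rc_54_0 lc_i_rc_41_3 lc_i_Cert_tree lc_i_rc_54_0 lc_i_Cert_tree lc_i_Cert_tree lc_i_rc_54_0 lc_i_Cert_tree lc_i_Cert_tree lc_i_rc_54_0 lc_i_Cert_tree lc_i_rc_54_0 lc_i_rc_46_1 lc_i_Cert_tree lc_i_Cert_tree lc_i_rc_54_0 lc_i_Cert_tree lc_i_rc_54_0 lc_i_rc_41_3 lc_i_Cert_tree lc_i_Cert_tree lc_i_rc_54_0 lc_i_Cert_tree lc_i_rc_54_0 lc_i_rc_41_3 lc_i_Cert_tree) (@D3.rec (fun _ => (Cert rels S Gen.i)) lc_i_rc_54_0 lc_i_rc_41_3 lc_i_Cert_tree lc_i_rc_54_0 lc_i_Cert_tree lc_i_rc_54_0 lc_i_rc_18_1 lc_i_Cert_tree lc_i_rc_54_0 lc_i_rc_26_1 lc_i_rc_33_1 lc_i_Cert_tree lc_i_rc_54_0 lc_i_rc_41_3 lc_i_rc_54_0 lc_i_Cert_tree lc_i_rc_54_0 lc_i_rc_54_0 lc_i_Cert_tree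 lc_i_rc_54_0 lc_i_Cert_tree lc_i_Cert_tree lc_i_rc_54_0 lc_i_rc_54_0 lc_i_rc_18_1 lc_i_Cert_tree lc_i_Cert_tree lc_i_rc_54_0 lc_i_Cert_tree lc_i_rc_54_0 lc_i_rc_26_1 lc_i_rc_39_1 lc_i_Cert_tree lc_i_rc_54_0 lc_i_rc_26_1 lc_i_rc_54_0 lc_i_rc_18_1 lc_i_rc_33_1 lc_i_rc_41_3 lc_i_rc_18_1 lc_i_rc_39_1 lc_i_rc_50_1 lc_i_rc_54_0 lc_i_rc_54_0 lc_i_rc_26_1 lc_i_rc_39_1 lc_i_rc_54_0 lc_i_rc_54_0 lc_i_rc_18_1 lc_i_rc_54_0 lc_i_rc_39_1) (@D3.rec (fun _ => (Cert rels S Gen.i)) lc_i_rc_33_1 lc_i_rc_54_0 lc_i_rc_18_1 lc_i_rc_9_1 lc_i_rc_18_1 lc_i_Cert_tree lc_i_rc_54_0 lc_i_Cert_tree lc_i_rc_54_0 lc_i_Cert_tree lc_i_rc_54_0 lc_i_Cert_tree lc_i_rc_54_0 lc_i_rc_33_1 lc_i_Cert_tree lc_i_rc_54_0 lc_i_rc_54_0 lc_i_Cert_tree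 lc_i_rc_54_0 lc_i_rc_54_0 lc_i_rc_41_3 lc_i_rc_26_1 lc_i_Cert_tree lc_i_rc_54_0 lc_i_Cert_tree lc_i_rc_54_0 lc_i_rc_54_0 lc_i_rc_54_0 lc_i_rc_54_0 lc_i_rc_41_3 lc_i_rc_46_3 lc_i_rc_54_0 lc_i_rc_9_1 lc_i_rc_26_1 lc_i_Cert_tree lc_i_rc_54_0 lc_i_rc_41_3 lc_i_rc_46_3 lc_i_Cert_tree lc_i_Cert_tree lc_i_rc_54_0 lc_i_Cert_tree lc_i_rc_54_0 lc_i_rc_26_3 lc_i_Cert_tree lc_i_Cert_tree lc_i_rc_54_0 lc_i_Cert_tree lc_i_rc_54_0 lc_i_rc_26_1 lc_i_Cert_tree) (@D3.rec (fun _ => (Cert rels S Gen.i)) lc_i_rc_54_0 lc_i_rc_26_3 lc_i_rc_39_1 lc_i_rc_54_0 lc_i_rc_54_0 lc_i_rc_54_0 lc_i_rc_46_1 lc_i_rc_54_0 lc_i_rc_26_1 lc_i_rc_54_0 lc_i_rc_18_1 lc_i_rc_33_1 lc_i_rc_39_1 lc_i_rc_54_0 lc_i_rc_54_0 lc_i_rc_18_1 lc_i_rc_9_1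 lc_i_Cert_tree lc_i_Cert_tree lc_i_rc_54_0 lc_i_rc_54_0 lc_i_Cert_tree lc_i_Cert_tree lc_i_rc_54_0 lc_i_Cert_tree lc_i_rc_54_0 lc_i_Cert_tree lc_i_rc_54_0 lc_i_rc_54_0 lc_i_rc_41_3 lc_i_rc_54_0 lc_i_Cert_tree lc_i_rc_54_0 lc_i_Cert_tree lc_i_rc_54_0 lc_i_rc_33_1 lc_i_Cert_tree lc_i_rc_54_0 lc_i_rc_9_1 lc_i_Cert_tree lc_i_rc_54_0 lc_i_Cert_tree lc_i_rc_54_0 lc_i_Cert_tree lc_i_rc_54_0 lc_i_rc_54_0 lc_i_rc_41_3 lc_i_Cert_tree lc_i_rc_54_0 lc_i_Cert_tree lc_i_Cert_tree) (@D3.rec (fun _ => (Cert rels S Gen.i)) lc_i_rc_54_0 lc_i_rc_54_0 lc_i_Cert_tree lc_i_rc_54_0 lc_i_Cert_tree lc_i_rc_54_0 lc_i_rc_41_3 lc_i_Cert_tree lc_i_Cert_tree lc_i_rc_54_0 lc_i_rc_54_0 lc_i_rc_26_1 lc_i_rc_41_3 lc_i_rc_54_0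 lc_i_Cert_tree lc_i_rc_54_0 lc_i_rc_54_0 lc_i_rc_18_1 lc_i_rc_26_1 lc_i_rc_54_0 lc_i_rc_18_1 lc_i_rc_33_1 lc_i_rc_39_1 lc_i_rc_9_1 lc_i_rc_18_1 lc_i_rc_39_1 lc_i_Cert_tree lc_i_rc_54_0 lc_i_Cert_tree lc_i_rc_54_0 lc_i_Cert_tree lc_i_rc_54_0 lc_i_rc_41_3 lc_i_Cert_tree lc_i_Cert_tree lc_i_rc_54_0 lc_i_Cert_tree lc_i_Cert_tree lc_i_rc_54_0 lc_i_rc_54_0 lc_i_rc_54_0 lc_i_rc_41_3 lc_i_Cert_tree lc_i_rc_54_0 lc_i_rc_26_1 lc_i_Cert_tree lc_i_rc_54_0 lc_i_rc_54_0 lc_i_rc_54_0 lc_i_rc_54_0 lc_i_rc_9_1) (@D3.rec (fun _ => (Cert rels S Gen.i)) lc_i_rc_9_1 lc_i_rc_26_1 lc_i_rc_54_0 lc_i_rc_18_1 lc_i_rc_33_1 lc_i_Cert_tree lc_i_Cert_tree lc_i_rc_54_0 lc_i_Cert_tree lc_i_rc_54_0 lc_i_rc_41_3 lc_i_Cert_tree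 lc_i_rc_54_0 lc_i_rc_26_1 lc_i_rc_54_0 lc_i_rc_26_1 lc_i_rc_33_1 lc_i_rc_41_3 lc_i_Cert_tree lc_i_rc_54_0 lc_i_Cert_tree lc_i_Cert_tree lc_i_rc_54_0 lc_i_Cert_tree lc_i_Cert_tree lc_i_rc_54_0 lc_i_Cert_tree lc_i_rc_54_0 lc_i_rc_46_1 lc_i_Cert_tree lc_i_rc_54_0 lc_i_rc_39_1 lc_i_Cert_tree lc_i_Cert_tree lc_i_rc_54_0 lc_i_Cert_tree lc_i_rc_54_0 lc_i_rc_41_3 lc_i_Cert_tree lc_i_rc_54_0 lc_i_rc_26_3 lc_i_Cert_tree lc_i_rc_54_0 lc_i_Cert_tree lc_i_rc_54_0 lc_i_rc_18_1 lc_i_Cert_tree lc_i_rc_54_0 lc_i_rc_26_1 lc_i_rc_33_1 lc_i_Cert_tree) (@D3.rec (fun _ => (Cert rels S Gen.i)) lc_i_rc_54_0 lc_i_rc_33_1 lc_i_Cert_tree lc_i_rc_54_0 lc_i_rc_54_0 lc_i_Cert_tree lc_i_rc_54_0 lc_i_Cert_tree lc_i_rc_54_0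 lc_i_rc_54_0 lc_i_rc_46_1 lc_i_Cert_tree lc_i_Cert_tree lc_i_rc_54_0 lc_i_Cert_tree lc_i_rc_54_0 lc_i_rc_26_1 lc_i_rc_46_1 lc_i_rc_54_0 lc_i_rc_26_1 lc_i_rc_54_0 lc_i_rc_18_1 lc_i_rc_33_1 lc_i_rc_9_1 lc_i_rc_18_1 lc_i_rc_39_1 lc_i_rc_50_1 lc_i_Cert_tree lc_i_Cert_tree lc_i_rc_54_0 lc_i_rc_54_0 lc_i_rc_26_1 lc_i_Cert_tree lc_i_rc_54_0 lc_i_Cert_tree lc_i_rc_54_0 lc_i_rc_18_1 lc_i_rc_54_0 lc_i_rc_26_1 lc_i_rc_54_0 lc_i_rc_18_1 lc_i_rc_9_1 lc_i_rc_18_1 lc_i_rc_39_1 lc_i_rc_9_1 lc_i_rc_26_1 lc_i_rc_18_1 lc_i_rc_46_1 lc_i_Cert_tree lc_i_Cert_tree lc_i_rc_54_0) (@D3.rec (fun _ => (Cert rels S Gen.i)) lc_i_Cert_tree lc_i_rc_54_0 lc_i_rc_54_0 lc_i_rc_26_1 lc_i_rc_54_0 lc_i_Cert_tree lc_i_rc_54_0 lc_i_Cert_tree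 lc_i_Cert_tree lc_i_rc_54_0 lc_i_Cert_tree lc_i_rc_54_0 lc_i_Cert_tree lc_i_rc_54_0 lc_i_Cert_tree lc_i_rc_54_0 lc_i_rc_41_3 lc_i_rc_41_3 lc_i_Cert_tree lc_i_rc_54_0 lc_i_Cert_tree lc_i_Cert_tree lc_i_rc_54_0 lc_i_Cert_tree lc_i_Cert_tree lc_i_rc_54_0 lc_i_Cert_tree lc_i_rc_54_0 lc_i_rc_46_1 lc_i_Cert_tree lc_i_Cert_tree lc_i_rc_54_0 lc_i_Cert_tree lc_i_rc_54_0 lc_i_rc_41_3 lc_i_Cert_tree lc_i_rc_54_0 lc_i_Cert_tree lc_i_rc_54_0 lc_i_rc_26_1 lc_i_rc_54_0 lc_i_rc_41_3 lc_i_rc_54_0 lc_i_rc_18_1 lc_i_rc_26_1 lc_i_Cert_tree lc_i_rc_54_0 lc_i_Cert_tree lc_i_rc_54_0 lc_i_Cert_tree lc_i_Cert_tree) (@D3.rec (fun _ => (Cert rels S Gen.i)) lc_i_rc_54_0 lc_i_rc_54_0 lc_i_Cert_tree lc_i_Cert_tree lc_i_rc_54_0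 lc_i_Cert_tree lc_i_rc_54_0 lc_i_Cert_tree lc_i_rc_54_0 lc_i_rc_54_0 lc_i_rc_54_0 lc_i_rc_54_0 lc_i_rc_54_0 lc_i_rc_18_1 lc_i_rc_54_0 lc_i_rc_18_1 lc_i_rc_9_1 lc_i_rc_18_1 lc_i_rc_54_0 lc_i_rc_54_0 lc_i_Cert_tree lc_i_rc_54_0 lc_i_Cert_tree lc_i_rc_54_0 lc_i_Cert_tree lc_i_rc_54_0 lc_i_rc_54_0 lc_i_rc_41_3 lc_i_Cert_tree lc_i_rc_54_0 lc_i_Cert_tree lc_i_Cert_tree lc_i_rc_54_0 lc_i_Cert_tree lc_i_Cert_tree lc_i_rc_54_0 lc_i_rc_54_0 lc_i_rc_46_1 lc_i_Cert_tree lc_i_rc_54_0 lc_i_rc_41_3 lc_i_Cert_tree lc_i_rc_54_0 lc_i_rc_18_3 lc_i_rc_54_0 lc_i_rc_9_3 lc_i_Cert_tree lc_i_rc_54_0 lc_i_Cert_tree lc_i_Cert_tree lc_i_rc_54_0) (@D3.rec (fun _ => (Cert rels S Gen.i)) lc_i_rc_54_0 lc_i_Cert_tree lc_i_Cert_tree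 lc_i_rc_54_0 lc_i_Cert_tree lc_i_rc_54_0 lc_i_Cert_tree lc_i_rc_54_0 lc_i_rc_54_0 lc_i_rc_54_0 lc_i_Cert_tree lc_i_Cert_tree lc_i_rc_54_0 lc_i_Cert_tree lc_i_rc_54_0 lc_i_Cert_tree lc_i_Cert_tree lc_i_rc_54_0 lc_i_Cert_tree lc_i_Cert_tree lc_i_rc_54_0 lc_i_Cert_tree lc_i_rc_54_0 lc_i_rc_46_1 lc_i_Cert_tree lc_i_Cert_tree lc_i_rc_54_0 lc_i_rc_54_0 lc_i_rc_41_3 lc_i_Cert_tree lc_i_Cert_tree lc_i_rc_54_0 lc_i_Cert_tree lc_i_rc_54_0 lc_i_rc_41_3 lc_i_Cert_tree lc_i_rc_54_0 lc_i_rc_41_3 lc_i_rc_54_0 lc_i_rc_54_0 lc_i_rc_18_1 lc_i_Cert_tree lc_i_rc_54_0 lc_i_rc_26_1 lc_i_Cert_tree lc_i_rc_54_0 lc_i_rc_41_3 lc_i_Cert_tree lc_i_Cert_tree lc_i_rc_54_0 lc_i_Cert_tree) (@D3.rec (fun _ => (Cert rels S Gen.i))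 lc_i_Cert_tree lc_i_rc_54_0 lc_i_Cert_tree lc_i_rc_54_0 lc_i_rc_46_1 lc_i_Cert_tree lc_i_Cert_tree lc_i_rc_54_0 lc_i_Cert_tree lc_i_Cert_tree lc_i_rc_54_0 lc_i_rc_46_1 lc_i_Cert_tree lc_i_rc_54_0 lc_i_rc_39_1 lc_i_Cert_tree lc_i_Cert_tree lc_i_rc_54_0 lc_i_Cert_tree lc_i_rc_54_0 lc_i_rc_41_3 lc_i_Cert_tree lc_i_rc_54_0 lc_i_rc_41_3 lc_i_Cert_tree lc_i_rc_54_0 lc_i_Cert_tree lc_i_rc_54_0 lc_i_rc_18_1 lc_i_Cert_tree lc_i_rc_54_0 lc_i_rc_41_3 lc_i_rc_18_3 lc_i_Cert_tree lc_i_rc_54_0 lc_i_rc_46_1 lc_i_rc_54_0 lc_i_rc_9_1 lc_i_Cert_tree lc_i_rc_54_0 lc_i_rc_18_1 lc_i_rc_9_3 lc_i_Cert_tree lc_i_rc_54_0 lc_i_rc_41_3 lc_i_rc_33_1 lc_i_rc_18_3 lc_i_rc_54_0 lc_i_rc_41_3 lc_i_Cert_tree lc_i_rc_54_0) (@D3.rec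 (fun _ => (Cert rels S Gen.i)) lc_i_rc_54_0 lc_i_rc_54_0 lc_i_rc_54_0 lc_i_Cert_tree lc_i_rc_54_0 lc_i_rc_33_3 lc_i_rc_54_0 lc_i_rc_26_3 lc_i_Cert_tree lc_i_rc_54_0 lc_i_rc_33_1 lc_i_rc_54_0 lc_i_rc_33_1 lc_i_rc_9_1 lc_i_rc_18_1 lc_i_rc_39_1 lc_i_rc_9_1 lc_i_rc_54_0 lc_i_rc_54_0 lc_i_rc_54_0 lc_i_rc_9_1 lc_i_Cert_tree lc_i_rc_54_0 lc_i_Cert_tree lc_i_Cert_tree lc_i_Cert_tree lc_i_rc_54_0 lc_i_Cert_tree lc_i_Cert_tree lc_i_rc_54_0 lc_i_rc_54_0 lc_i_rc_41_3 lc_i_Cert_tree lc_i_rc_54_0 lc_i_Cert_tree lc_i_Cert_tree lc_i_rc_54_0 lc_i_rc_54_0 lc_i_Cert_tree lc_i_Cert_tree lc_i_rc_54_0 lc_i_Cert_tree lc_i_rc_54_0 lc_i_Cert_tree lc_i_rc_54_0 lc_i_rc_54_0 lc_i_Cert_tree lc_i_rc_54_0 lc_i_rc_39_1 lc_i_rc_39_1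 lc_i_rc_46_1) (@D3.rec (fun _ => (Cert rels S Gen.i)) lc_i_rc_33_1 lc_i_rc_54_0 lc_i_rc_54_0 lc_i_rc_39_1 lc_i_rc_18_1 lc_i_rc_9_1 lc_i_rc_18_1 lc_i_rc_39_1 lc_i_rc_26_1 lc_i_rc_18_1 lc_i_rc_39_1 lc_i_rc_33_1 lc_i_rc_33_1 lc_i_rc_18_1 lc_i_rc_33_1 lc_i_rc_9_1 lc_i_rc_18_1 lc_i_rc_39_1 lc_i_rc_9_1 lc_i_rc_26_1 lc_i_rc_18_1 lc_i_rc_39_1 lc_i_rc_9_1 lc_i_rc_33_1 lc_i_rc_9_1 lc_i_rc_18_1 lc_i_rc_39_1 lc_i_Cert_tree lc_i_rc_54_0 lc_i_Cert_tree lc_i_rc_54_0 lc_i_rc_54_0 lc_i_rc_9_1 lc_i_Cert_tree lc_i_rc_54_0 lc_i_rc_33_1 lc_i_rc_54_0 lc_i_rc_53_1 lc_i_rc_9_1 lc_i_rc_54_0 lc_i_rc_33_1 lc_i_rc_26_1 lc_i_rc_9_1 lc_i_Cert_tree lc_i_rc_54_0 lc_i_rc_18_1 lc_i_Cert_tree lc_i_rc_54_0 lc_i_rc_26_1 lc_i_rc_18_1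 lc_i_rc_9_1) (@D3.rec (fun _ => (Cert rels S Gen.i)) lc_i_rc_18_1 lc_i_rc_39_1 lc_i_rc_9_1 lc_i_rc_26_1 lc_i_rc_18_1 lc_i_rc_46_1 lc_i_rc_18_1 lc_i_rc_33_1 lc_i_rc_54_0 lc_i_rc_9_1 lc_i_rc_18_1 lc_i_rc_18_1 lc_i_rc_39_1 lc_i_rc_9_1 lc_i_rc_18_1 lc_i_rc_39_1 lc_i_rc_9_1 lc_i_rc_26_1 lc_i_rc_18_1 lc_i_rc_46_1 lc_i_rc_9_1 lc_i_rc_9_1 lc_i_rc_26_1 lc_i_rc_18_1 lc_i_rc_50_1 lc_i_Cert_tree lc_i_rc_54_0 lc_i_rc_9_1 lc_i_Cert_tree lc_i_rc_54_0 lc_i_rc_9_1 lc_i_rc_54_0 lc_i_rc_18_1 lc_i_rc_9_1 lc_i_rc_9_1 lc_i_rc_18_1 lc_i_rc_9_1 lc_i_rc_54_0 lc_i_rc_54_0 lc_i_Cert_tree lc_i_rc_54_0 lc_i_rc_53_1 lc_i_Cert_tree lc_i_rc_54_0 lc_i_rc_33_1 lc_i_rc_33_1 lc_i_rc_18_1 lc_i_rc_9_1 lc_i_rc_41_3 lc_i_rc_33_3 lc_i_Cert_tree)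 (@D3.rec (fun _ => (Cert rels S Gen.i)) lc_i_rc_54_0 lc_i_rc_18_1 lc_i_Cert_tree lc_i_Cert_tree lc_i_rc_54_0 lc_i_Cert_tree lc_i_rc_54_0 lc_i_rc_41_3 lc_i_rc_46_1 lc_i_rc_54_0 lc_i_rc_46_1 lc_i_rc_33_1 lc_i_rc_39_1 lc_i_Cert_tree lc_i_rc_54_0 lc_i_rc_54_0 lc_i_rc_41_3 lc_i_rc_46_1 lc_i_Cert_tree lc_i_rc_54_0 lc_i_rc_9_1 lc_i_Cert_tree lc_i_rc_54_0 lc_i_rc_18_1 lc_i_Cert_tree lc_i_rc_54_0 lc_i_rc_46_1 lc_i_rc_33_1 lc_i_rc_41_3 lc_i_rc_54_0 lc_i_rc_50_1 lc_i_Cert_tree lc_i_rc_54_0 lc_i_rc_9_1 lc_i_Cert_tree lc_i_rc_54_0 lc_i_rc_18_1 lc_i_rc_33_1 lc_i_rc_54_0 lc_i_rc_50_1 lc_i_rc_33_1 lc_i_rc_33_1 lc_i_rc_54_0 lc_i_rc_54_0 lc_i_rc_41_3 lc_i_rc_46_1 lc_i_rc_54_0 lc_i_rc_9_1 lc_i_rc_54_0 lc_i_Cert_tree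 lc_i_rc_54_0) (@D3.rec (fun _ => (Cert rels S Gen.i)) lc_i_Cert_tree lc_i_rc_54_0 lc_i_rc_41_3 lc_i_Cert_tree lc_i_rc_54_0 lc_i_rc_54_0 lc_i_rc_54_0 lc_i_rc_41_3 lc_i_rc_54_0 lc_i_rc_41_3 lc_i_rc_54_0 lc_i_rc_41_3 lc_i_rc_54_0 lc_i_rc_26_1 lc_i_Cert_tree lc_i_rc_54_0 lc_i_rc_41_3 lc_i_Cert_tree lc_i_rc_54_0 lc_i_rc_9_1 lc_i_Cert_tree lc_i_rc_54_0 lc_i_rc_41_3 lc_i_Cert_tree lc_i_rc_54_0 lc_i_rc_46_1 lc_i_rc_33_1 lc_i_rc_26_1 lc_i_rc_18_1 lc_i_Cert_tree lc_i_rc_54_0 lc_i_rc_9_1 lc_i_rc_33_1 lc_i_Cert_tree lc_i_rc_54_0 lc_i_rc_41_3 lc_i_Cert_tree lc_i_rc_54_0 lc_i_rc_46_1 lc_i_rc_54_0 lc_i_rc_50_1 lc_i_rc_33_1 lc_i_rc_26_1 lc_i_rc_54_0 lc_i_rc_26_1 lc_i_rc_18_1 lc_i_Cert_tree lc_i_rc_54_0 lc_i_rc_26_1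 lc_i_Cert_tree lc_i_rc_54_0) (@D3.rec (fun _ => (Cert rels S Gen.i)) lc_i_rc_26_1 lc_i_rc_54_0 lc_i_rc_18_1 lc_i_rc_33_1 lc_i_rc_9_1 lc_i_rc_18_1 lc_i_rc_39_1 lc_i_Cert_tree lc_i_rc_54_0 lc_i_rc_33_3 lc_i_Cert_tree lc_i_rc_54_0 lc_i_Cert_tree lc_i_Cert_tree lc_i_rc_54_0 lc_i_rc_39_3 lc_i_Cert_tree lc_i_rc_54_0 lc_i_rc_54_0 lc_i_rc_41_3 lc_i_rc_54_0 lc_i_Cert_tree lc_i_rc_54_0 lc_i_rc_18_1 lc_i_rc_54_0 lc_i_Cert_tree lc_i_rc_54_0 lc_i_rc_9_1 lc_i_rc_33_3 lc_i_Cert_tree lc_i_rc_54_0 lc_i_Cert_tree lc_i_rc_54_0 lc_i_rc_54_0 lc_i_rc_54_0 lc_i_Cert_tree lc_i_rc_54_0 lc_i_rc_41_3 lc_i_Cert_tree lc_i_rc_54_0 lc_i_rc_41_3 lc_i_rc_9_3 lc_i_rc_54_0 lc_i_rc_46_1 lc_i_rc_33_1 lc_i_Cert_tree lc_i_Cert_tree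 lc_i_rc_54_0 lc_i_rc_26_3 lc_i_Cert_tree lc_i_rc_54_0) (@D3.rec (fun _ => (Cert rels S Gen.i)) lc_i_rc_26_1 lc_i_Cert_tree lc_i_Cert_tree lc_i_rc_54_0 lc_i_Cert_tree lc_i_rc_54_0 lc_i_Cert_tree lc_i_Cert_tree lc_i_rc_54_0 lc_i_Cert_tree lc_i_Cert_tree lc_i_rc_54_0 lc_i_rc_54_0 lc_i_rc_41_3 lc_i_Cert_tree lc_i_rc_54_0 lc_i_Cert_tree lc_i_rc_54_0 lc_i_rc_41_3 lc_i_rc_41_3 lc_i_rc_54_0 lc_i_Cert_tree lc_i_rc_54_0 lc_i_Cert_tree lc_i_rc_54_0 lc_i_Cert_tree lc_i_rc_54_0 lc_i_rc_9_1 lc_i_Cert_tree lc_i_rc_54_0 lc_i_rc_54_0 lc_i_rc_9_3 lc_i_rc_46_1 lc_i_rc_50_1 lc_i_Cert_tree lc_i_Cert_tree lc_i_rc_54_0 lc_i_Cert_tree lc_i_rc_54_0 lc_i_rc_54_0 lc_i_rc_18_1 lc_i_rc_26_1 lc_i_Cert_tree lc_i_rc_54_0 lc_i_rc_54_0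 lc_i_Cert_tree lc_i_rc_54_0 lc_i_rc_41_3 lc_i_Cert_tree lc_i_rc_54_0 lc_i_rc_9_1) (@D3.rec (fun _ => (Cert rels S Gen.i)) lc_i_Cert_tree lc_i_rc_54_0 lc_i_rc_9_1 lc_i_Cert_tree lc_i_Cert_tree lc_i_rc_54_0 lc_i_Cert_tree lc_i_rc_54_0 lc_i_Cert_tree lc_i_rc_54_0 lc_i_Cert_tree lc_i_rc_54_0 lc_i_rc_41_3 lc_i_Cert_tree lc_i_rc_54_0 lc_i_Cert_tree lc_i_Cert_tree lc_i_rc_54_0 lc_i_rc_54_0 lc_i_rc_54_0 lc_i_Cert_tree lc_i_rc_54_0 lc_i_rc_41_3 lc_i_rc_54_0 lc_i_Cert_tree lc_i_rc_54_0 lc_i_rc_41_3 lc_i_Cert_tree lc_i_rc_54_0 lc_i_rc_41_3 lc_i_Cert_tree lc_i_rc_54_0 lc_i_rc_41_3 lc_i_Cert_tree lc_i_rc_54_0 lc_i_rc_46_1 lc_i_rc_33_1 lc_i_rc_54_0 lc_i_rc_50_1 lc_i_rc_54_0 lc_i_rc_39_1 lc_i_Cert_tree lc_i_rc_33_1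 lc_i_Cert_tree lc_i_Cert_tree lc_i_rc_54_0 lc_i_Cert_tree lc_i_rc_54_0 lc_i_Cert_tree lc_i_Cert_tree lc_i_rc_54_0) (@D3.rec (fun _ => (Cert rels S Gen.i)) lc_i_rc_54_0 lc_i_rc_54_0 lc_i_rc_41_3 lc_i_Cert_tree lc_i_Cert_tree lc_i_rc_54_0 lc_i_Cert_tree lc_i_Cert_tree lc_i_rc_54_0 lc_i_Cert_tree lc_i_Cert_tree lc_i_rc_54_0 lc_i_Cert_tree lc_i_Cert_tree lc_i_rc_54_0 lc_i_Cert_tree lc_i_rc_54_0 lc_i_rc_41_3 lc_i_rc_54_0 lc_i_rc_54_0 lc_i_rc_26_1 lc_i_rc_41_3 lc_i_Cert_tree lc_i_rc_54_0 lc_i_rc_41_3 lc_i_rc_54_0 lc_i_rc_41_3 lc_i_rc_33_1 lc_i_rc_54_0 lc_i_Cert_tree lc_i_rc_54_0 lc_i_Cert_tree lc_i_Cert_tree lc_i_rc_54_0 lc_i_rc_54_0 lc_i_rc_18_1 lc_i_rc_54_0 lc_i_rc_18_1 lc_i_rc_54_0 lc_i_rc_26_1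 lc_i_rc_54_0 lc_i_rc_18_1 lc_i_rc_33_1 lc_i_rc_54_0 lc_i_rc_46_1 lc_i_Cert_tree lc_i_rc_54_0 lc_i_rc_54_0 lc_i_rc_26_1 lc_i_rc_39_1 lc_i_rc_26_1) (@D3.rec (fun _ => (Cert rels S Gen.i)) lc_i_rc_18_1 lc_i_rc_33_1 lc_i_rc_9_1 lc_i_rc_18_1 lc_i_rc_39_1 lc_i_rc_39_1 lc_i_Cert_tree lc_i_Cert_tree lc_i_Cert_tree lc_i_rc_54_0 lc_i_rc_54_0 lc_i_rc_18_1 lc_i_Cert_tree lc_i_Cert_tree lc_i_rc_54_0 lc_i_Cert_tree lc_i_rc_54_0 lc_i_Cert_tree lc_i_Cert_tree lc_i_rc_54_0 lc_i_rc_54_0 lc_i_rc_54_0 lc_i_rc_41_3 lc_i_Cert_tree lc_i_rc_54_0 lc_i_rc_18_1 lc_i_rc_26_1 lc_i_rc_18_1 lc_i_Cert_tree lc_i_Cert_tree lc_i_Cert_tree lc_i_rc_54_0 lc_i_Cert_tree lc_i_rc_54_0 lc_i_Cert_tree lc_i_Cert_tree lc_i_rc_54_0 lc_i_rc_54_0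 lc_i_rc_54_0 lc_i_rc_41_3 lc_i_Cert_tree lc_i_Cert_tree lc_i_rc_54_0 lc_i_Cert_tree lc_i_Cert_tree lc_i_rc_54_0 lc_i_rc_54_0 lc_i_rc_54_0 lc_i_Cert_tree lc_i_rc_54_0 lc_i_rc_41_3) (@D3.rec (fun _ => (Cert rels S Gen.i)) lc_i_rc_26_1 lc_i_Cert_tree lc_i_rc_54_0 lc_i_rc_41_3 lc_i_Cert_tree lc_i_rc_54_0 lc_i_rc_9_1 lc_i_Cert_tree lc_i_rc_54_0 lc_i_rc_9_1 lc_i_rc_33_1 lc_i_rc_54_0 lc_i_rc_9_1 lc_i_rc_54_0 lc_i_rc_54_0 lc_i_rc_9_1 lc_i_rc_9_1 lc_i_rc_9_1 lc_i_Cert_tree lc_i_Cert_tree lc_i_rc_54_0 lc_i_Cert_tree lc_i_Cert_tree lc_i_rc_54_0 lc_i_Cert_tree lc_i_Cert_tree lc_i_rc_54_0 lc_i_Cert_tree lc_i_Cert_tree lc_i_rc_54_0 lc_i_Cert_tree lc_i_Cert_tree lc_i_rc_54_0 lc_i_Cert_tree lc_i_rc_54_0 lc_i_rc_41_3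 lc_i_rc_54_0 lc_i_rc_54_0 lc_i_rc_26_1 lc_i_Cert_tree lc_i_rc_54_0 lc_i_rc_41_3 lc_i_Cert_tree lc_i_rc_54_0 lc_i_Cert_tree lc_i_Cert_tree lc_i_rc_54_0 lc_i_Cert_tree lc_i_Cert_tree lc_i_rc_54_0 lc_i_Cert_tree) (@D3.rec (fun _ => (Cert rels S Gen.i)) lc_i_rc_54_0 lc_i_rc_46_1 lc_i_Cert_tree lc_i_rc_54_0 lc_i_Cert_tree lc_i_rc_54_0 lc_i_rc_41_3 lc_i_Cert_tree lc_i_Cert_tree lc_i_rc_54_0 lc_i_Cert_tree lc_i_rc_54_0 lc_i_rc_41_3 lc_i_Cert_tree lc_i_rc_54_0 lc_i_rc_41_3 lc_i_rc_54_0 lc_i_rc_54_0 lc_i_rc_18_1 lc_i_Cert_tree lc_i_rc_54_0 lc_i_rc_26_1 lc_i_rc_33_1 lc_i_Cert_tree lc_i_rc_54_0 lc_i_rc_41_3 lc_i_rc_33_1 lc_i_Cert_tree lc_i_rc_54_0 lc_i_rc_41_3 lc_i_Cert_tree lc_i_rc_54_0 lc_i_rc_46_1 lc_i_rc_33_1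 lc_i_rc_54_0 lc_i_rc_50_1 lc_i_rc_33_1 lc_i_rc_26_1 lc_i_rc_53_1 lc_i_Cert_tree lc_i_rc_54_0 lc_i_rc_18_1 lc_i_Cert_tree lc_i_Cert_tree lc_i_rc_54_0 lc_i_Cert_tree lc_i_rc_54_0 lc_i_rc_26_1 lc_i_rc_39_1 lc_i_Cert_tree lc_i_rc_54_0) (@D3.rec (fun _ => (Cert rels S Gen.i)) lc_i_rc_26_1 lc_i_rc_54_0 lc_i_rc_18_1 lc_i_rc_33_1 lc_i_rc_46_1 lc_i_rc_18_1 lc_i_rc_39_1 lc_i_Cert_tree lc_i_rc_54_0 lc_i_rc_26_1 lc_i_Cert_tree lc_i_rc_54_0 lc_i_rc_54_0 lc_i_rc_18_1 lc_i_rc_39_1 lc_i_rc_33_1 lc_i_rc_54_0 lc_i_rc_18_1 lc_i_rc_33_1 lc_i_rc_9_1 lc_i_rc_18_1 lc_i_rc_39_1 lc_i_rc_54_0 lc_i_rc_41_3 lc_i_rc_54_0 lc_i_rc_54_0 lc_i_rc_41_3 lc_i_rc_41_3 lc_i_rc_54_0 lc_i_rc_18_1 lc_i_rc_54_0 lc_i_rc_41_3 lc_i_rc_54_0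 lc_i_rc_26_1 lc_i_rc_18_1 lc_i_Cert_tree lc_i_Cert_tree lc_i_rc_54_0 lc_i_rc_33_3 lc_i_rc_54_0 lc_i_rc_9_1 lc_i_Cert_tree lc_i_Cert_tree lc_i_rc_54_0 lc_i_rc_9_1 lc_i_Cert_tree lc_i_Cert_tree lc_i_Cert_tree lc_i_rc_54_0 lc_i_Cert_tree lc_i_Cert_tree) (@D3.rec (fun _ => (Cert rels S Gen.i)) lc_i_rc_54_0 lc_i_rc_54_0 lc_i_rc_54_0 lc_i_rc_41_3 lc_i_rc_9_1 lc_i_rc_33_3 lc_i_rc_54_0 lc_i_rc_54_0 lc_i_rc_54_0 lc_i_rc_33_1 lc_i_Cert_tree lc_i_rc_54_0 lc_i_Cert_tree lc_i_Cert_tree lc_i_rc_54_0 lc_i_rc_9_3 lc_i_Cert_tree lc_i_rc_54_0 lc_i_Cert_tree lc_i_rc_54_0 lc_i_rc_54_0 lc_i_Cert_tree lc_i_rc_54_0 lc_i_Cert_tree lc_i_rc_54_0 lc_i_rc_41_3 lc_i_rc_54_0 lc_i_rc_41_3 lc_i_rc_54_0 lc_i_rc_41_3 lc_i_rc_46_1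 lc_i_rc_54_0 lc_i_rc_18_1 lc_i_rc_54_0 lc_i_rc_26_1 lc_i_rc_54_0 lc_i_rc_18_1 lc_i_Cert_tree lc_i_rc_54_0 lc_i_Cert_tree lc_i_rc_54_0 lc_i_Cert_tree lc_i_rc_54_0 lc_i_Cert_tree lc_i_Cert_tree lc_i_rc_54_0 lc_i_Cert_tree lc_i_Cert_tree lc_i_rc_54_0 lc_i_rc_50_1 lc_i_Cert_tree) (@D3.rec (fun _ => (Cert rels S Gen.i)) lc_i_rc_54_0 lc_i_Cert_tree lc_i_rc_54_0 lc_i_Cert_tree lc_i_Cert_tree lc_i_rc_54_0 lc_i_Cert_tree lc_i_Cert_tree lc_i_rc_54_0 lc_i_rc_54_0 lc_i_rc_41_3 lc_i_Cert_tree lc_i_rc_54_0 lc_i_rc_41_3 lc_i_rc_41_3 lc_i_Cert_tree lc_i_rc_54_0 lc_i_rc_9_1 lc_i_rc_54_0 lc_i_rc_26_1 lc_i_rc_41_3 lc_i_Cert_tree lc_i_rc_54_0 lc_i_Cert_tree lc_i_rc_54_0 lc_i_Cert_tree lc_i_Cert_tree lc_i_rc_54_0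 lc_i_Cert_tree lc_i_Cert_tree lc_i_rc_54_0 lc_i_Cert_tree lc_i_rc_54_0 lc_i_rc_41_3 lc_i_Cert_tree lc_i_rc_54_0 lc_i_rc_54_0 lc_i_Cert_tree lc_i_rc_54_0 lc_i_rc_54_0 lc_i_rc_41_3 lc_i_Cert_tree lc_i_Cert_tree lc_i_rc_54_0 lc_i_Cert_tree lc_i_rc_54_0 lc_i_rc_26_1 lc_i_Cert_tree lc_i_rc_54_0 lc_i_rc_41_3 lc_i_rc_41_3)
def ce_i_12 : D2 → D3 → (Cert rels S Gen.i) := @D2.rec (fun _ => D3 → (Cert rels S Gen.i)) (@D3.rec (fun _ => (Cert rels S Gen.i)) lc_i_rc_9_3 lc_i_rc_54_0 lc_i_rc_46_1 lc_i_rc_33_1 lc_i_rc_26_1 lc_i_rc_54_0 lc_i_rc_18_1 lc_i_rc_33_1 lc_i_rc_9_1 lc_i_rc_18_1 lc_i_rc_54_0 lc_i_rc_41_3 lc_i_rc_54_0 lc_i_rc_39_1 lc_i_Cert_tree lc_i_rc_54_0 lc_i_rc_41_3 lc_i_rc_54_0 lc_i_rc_41_3 lc_i_rc_46_1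 lc_i_rc_33_1 lc_i_rc_54_0 lc_i_rc_54_0 lc_i_rc_18_1 lc_i_rc_54_0 lc_i_rc_26_1 lc_i_rc_54_0 lc_i_rc_54_0 lc_i_rc_54_0 lc_i_rc_46_1 lc_i_rc_54_0 lc_i_rc_41_3 lc_i_rc_54_0 lc_i_rc_26_1 lc_i_rc_54_0 lc_i_rc_18_1 lc_i_rc_33_1 lc_i_Cert_tree lc_i_rc_54_0 lc_i_rc_18_1 lc_i_Cert_tree lc_i_Cert_tree lc_i_Cert_tree lc_i_rc_54_0 lc_i_rc_54_0 lc_i_rc_54_0 lc_i_rc_9_1 lc_i_Cert_tree lc_i_Cert_tree lc_i_Cert_tree lc_i_rc_54_0) (@D3.rec (fun _ => (Cert rels S Gen.i)) lc_i_Cert_tree lc_i_Cert_tree lc_i_rc_54_0 lc_i_rc_9_1 lc_i_Cert_tree lc_i_Cert_tree lc_i_rc_54_0 lc_i_Cert_tree lc_i_rc_54_0 lc_i_Cert_tree lc_i_Cert_tree lc_i_rc_54_0 lc_i_Cert_tree lc_i_rc_54_0 lc_i_rc_54_0 lc_i_rc_41_3 lc_i_Cert_tree lc_i_rc_54_0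 lc_i_rc_41_3 lc_i_rc_41_3 lc_i_Cert_tree lc_i_rc_54_0 lc_i_Cert_tree lc_i_rc_54_0 lc_i_rc_54_0 lc_i_rc_33_1 lc_i_rc_54_0 lc_i_rc_9_1 lc_i_Cert_tree lc_i_Cert_tree lc_i_Cert_tree lc_i_rc_54_0 lc_i_Cert_tree lc_i_rc_54_0 lc_i_Cert_tree lc_i_Cert_tree lc_i_rc_54_0 lc_i_Cert_tree lc_i_Cert_tree lc_i_rc_54_0 lc_i_Cert_tree lc_i_rc_54_0 lc_i_rc_41_3 lc_i_Cert_tree lc_i_Cert_tree lc_i_rc_54_0 lc_i_Cert_tree lc_i_Cert_tree lc_i_rc_54_0 lc_i_rc_54_0 lc_i_Cert_tree) (@D3.rec (fun _ => (Cert rels S Gen.i)) lc_i_rc_54_0 lc_i_Cert_tree lc_i_rc_54_0 lc_i_rc_41_3 lc_i_Cert_tree lc_i_Cert_tree lc_i_rc_54_0 lc_i_Cert_tree lc_i_rc_54_0 lc_i_rc_26_1 lc_i_Cert_tree lc_i_rc_54_0 lc_i_rc_41_3 lc_i_rc_41_3 lc_i_Cert_tree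 lc_i_rc_54_0 lc_i_rc_41_3 lc_i_rc_54_0 lc_i_rc_46_1 lc_i_rc_33_1 lc_i_rc_50_1 lc_i_rc_54_0 lc_i_Cert_tree lc_i_rc_54_0 lc_i_Cert_tree lc_i_Cert_tree lc_i_rc_54_0 lc_i_rc_54_0 lc_i_rc_18_1 lc_i_rc_18_1 lc_i_rc_54_0 lc_i_rc_26_1 lc_i_rc_54_0 lc_i_rc_18_1 lc_i_rc_33_1 lc_i_rc_54_0 lc_i_rc_46_1 lc_i_Cert_tree lc_i_Cert_tree lc_i_rc_54_0 lc_i_rc_54_0 lc_i_rc_26_1 lc_i_rc_39_1 lc_i_rc_54_0 lc_i_rc_54_0 lc_i_rc_18_1 lc_i_rc_9_1 lc_i_rc_18_1 lc_i_Cert_tree lc_i_Cert_tree lc_i_Cert_tree) (@D3.rec (fun _ => (Cert rels S Gen.i)) lc_i_rc_54_0 lc_i_rc_54_0 lc_i_Cert_tree lc_i_Cert_tree lc_i_rc_54_0 lc_i_Cert_tree lc_i_rc_54_0 lc_i_Cert_tree lc_i_rc_54_0 lc_i_Cert_tree lc_i_rc_54_0 lc_i_rc_41_3 lc_i_rc_33_1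 lc_i_Cert_tree lc_i_Cert_tree lc_i_Cert_tree lc_i_rc_54_0 lc_i_Cert_tree lc_i_rc_54_0 lc_i_Cert_tree lc_i_Cert_tree lc_i_rc_54_0 lc_i_Cert_tree lc_i_Cert_tree lc_i_rc_54_0 lc_i_rc_54_0 lc_i_rc_41_3 lc_i_Cert_tree lc_i_Cert_tree lc_i_rc_54_0 lc_i_Cert_tree lc_i_Cert_tree lc_i_rc_54_0 lc_i_Cert_tree lc_i_Cert_tree lc_i_rc_54_0 lc_i_Cert_tree lc_i_Cert_tree lc_i_rc_54_0 lc_i_Cert_tree lc_i_rc_54_0 lc_i_rc_41_3 lc_i_Cert_tree lc_i_Cert_tree lc_i_rc_54_0 lc_i_rc_54_0 lc_i_rc_26_1 lc_i_rc_41_3 lc_i_Cert_tree lc_i_rc_54_0 lc_i_rc_41_3) (@D3.rec (fun _ => (Cert rels S Gen.i)) lc_i_rc_54_0 lc_i_rc_41_3 lc_i_rc_33_1 lc_i_rc_54_0 lc_i_Cert_tree lc_i_Cert_tree lc_i_rc_54_0 lc_i_Cert_tree lc_i_rc_54_0 lc_i_rc_54_0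 lc_i_rc_9_1 lc_i_Cert_tree lc_i_rc_54_0 lc_i_rc_9_1 lc_i_Cert_tree lc_i_rc_54_0 lc_i_rc_26_1 lc_i_rc_54_0 lc_i_rc_18_1 lc_i_rc_33_1 lc_i_Cert_tree lc_i_Cert_tree lc_i_rc_54_0 lc_i_Cert_tree lc_i_Cert_tree lc_i_rc_54_0 lc_i_Cert_tree lc_i_Cert_tree lc_i_rc_54_0 lc_i_Cert_tree lc_i_Cert_tree lc_i_rc_54_0 lc_i_Cert_tree lc_i_Cert_tree lc_i_rc_54_0 lc_i_Cert_tree lc_i_rc_54_0 lc_i_rc_41_3 lc_i_rc_54_0 lc_i_rc_54_0 lc_i_rc_26_1 lc_i_Cert_tree lc_i_rc_54_0 lc_i_rc_41_3 lc_i_Cert_tree lc_i_rc_54_0 lc_i_Cert_tree lc_i_Cert_tree lc_i_rc_54_0 lc_i_Cert_tree lc_i_Cert_tree) (@D3.rec (fun _ => (Cert rels S Gen.i)) lc_i_rc_54_0 lc_i_Cert_tree lc_i_rc_54_0 lc_i_rc_46_1 lc_i_Cert_tree lc_i_rc_54_0 lc_i_Cert_tree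 lc_i_rc_54_0 lc_i_rc_41_3 lc_i_Cert_tree lc_i_Cert_tree lc_i_rc_54_0 lc_i_Cert_tree lc_i_rc_54_0 lc_i_rc_41_3 lc_i_Cert_tree lc_i_rc_54_0 lc_i_rc_41_3 lc_i_rc_54_0 lc_i_rc_54_0 lc_i_rc_18_1 lc_i_Cert_tree lc_i_rc_54_0 lc_i_rc_26_1 lc_i_rc_33_1 lc_i_Cert_tree lc_i_rc_54_0 lc_i_rc_41_3 lc_i_rc_33_1 lc_i_rc_54_0 lc_i_rc_41_3 lc_i_Cert_tree lc_i_rc_54_0 lc_i_rc_46_1 lc_i_rc_33_1 lc_i_rc_54_0 lc_i_rc_50_1 lc_i_rc_33_1 lc_i_rc_26_1 lc_i_Cert_tree lc_i_rc_54_0 lc_i_rc_54_0 lc_i_rc_53_1 lc_i_Cert_tree lc_i_Cert_tree lc_i_rc_54_0 lc_i_Cert_tree lc_i_rc_54_0 lc_i_rc_26_1 lc_i_rc_50_1 lc_i_rc_26_1) (@D3.rec (fun _ => (Cert rels S Gen.i)) lc_i_rc_54_0 lc_i_rc_18_1 lc_i_rc_33_1 lc_i_rc_9_1 lc_i_rc_18_1 lc_i_rc_39_1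 lc_i_rc_53_1 lc_i_Cert_tree lc_i_rc_54_0 lc_i_rc_54_0 lc_i_rc_18_1 lc_i_rc_26_1 lc_i_rc_33_1 lc_i_rc_9_1 lc_i_rc_54_0 lc_i_rc_41_3 lc_i_rc_41_3 lc_i_Cert_tree lc_i_rc_54_0 lc_i_rc_41_3 lc_i_rc_54_0 lc_i_rc_46_1 lc_i_rc_50_1 lc_i_rc_33_1 lc_i_Cert_tree lc_i_Cert_tree lc_i_rc_54_0 lc_i_Cert_tree lc_i_rc_54_0 lc_i_Cert_tree lc_i_rc_54_0 lc_i_rc_54_0 lc_i_rc_18_1 lc_i_Cert_tree lc_i_Cert_tree lc_i_rc_54_0 lc_i_Cert_tree lc_i_rc_54_0 lc_i_Cert_tree lc_i_rc_54_0 lc_i_Cert_tree lc_i_rc_54_0 lc_i_rc_26_1 lc_i_rc_26_1 lc_i_rc_54_0 lc_i_rc_41_3 lc_i_rc_54_0 lc_i_rc_41_3 lc_i_rc_33_1 lc_i_rc_54_0 lc_i_Cert_tree) (@D3.rec (fun _ => (Cert rels S Gen.i)) lc_i_Cert_tree lc_i_rc_54_0 lc_i_Cert_tree lc_i_Cert_tree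 lc_i_rc_54_0 lc_i_Cert_tree lc_i_rc_54_0 lc_i_Cert_tree lc_i_rc_54_0 lc_i_Cert_tree lc_i_rc_54_0 lc_i_rc_41_3 lc_i_rc_41_3 lc_i_Cert_tree lc_i_rc_54_0 lc_i_Cert_tree lc_i_Cert_tree lc_i_rc_54_0 lc_i_Cert_tree lc_i_Cert_tree lc_i_rc_54_0 lc_i_Cert_tree lc_i_rc_54_0 lc_i_rc_46_1 lc_i_rc_54_0 lc_i_Cert_tree lc_i_rc_54_0 lc_i_rc_41_3 lc_i_rc_54_0 lc_i_Cert_tree lc_i_rc_54_0 lc_i_rc_26_1 lc_i_Cert_tree lc_i_rc_54_0 lc_i_rc_41_3 lc_i_rc_9_1 lc_i_rc_9_1 lc_i_Cert_tree lc_i_rc_54_0 lc_i_rc_18_3 lc_i_rc_33_1 lc_i_Cert_tree lc_i_rc_54_0 lc_i_rc_41_3 lc_i_Cert_tree lc_i_rc_54_0 lc_i_rc_46_1 lc_i_rc_33_1 lc_i_rc_54_0 lc_i_rc_50_1 lc_i_rc_33_1) (@D3.rec (fun _ => (Cert rels S Gen.i)) lc_i_rc_26_1 lc_i_rc_53_1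 lc_i_Cert_tree lc_i_rc_54_0 lc_i_rc_54_0 lc_i_rc_54_0 lc_i_rc_54_0 lc_i_Cert_tree lc_i_rc_54_0 lc_i_Cert_tree lc_i_Cert_tree lc_i_rc_54_0 lc_i_Cert_tree lc_i_rc_54_0 lc_i_rc_54_0 lc_i_rc_41_3 lc_i_Cert_tree lc_i_Cert_tree lc_i_rc_54_0 lc_i_Cert_tree lc_i_Cert_tree lc_i_rc_54_0 lc_i_Cert_tree lc_i_rc_54_0 lc_i_rc_54_0 lc_i_rc_41_3 lc_i_rc_18_1 lc_i_Cert_tree lc_i_Cert_tree lc_i_rc_54_0 lc_i_Cert_tree lc_i_Cert_tree lc_i_rc_54_0 lc_i_Cert_tree lc_i_rc_54_0 lc_i_Cert_tree lc_i_rc_54_0 lc_i_Cert_tree lc_i_rc_54_0 lc_i_rc_41_3 lc_i_rc_41_3 lc_i_Cert_tree lc_i_rc_54_0 lc_i_Cert_tree lc_i_Cert_tree lc_i_rc_54_0 lc_i_Cert_tree lc_i_Cert_tree lc_i_rc_54_0 lc_i_Cert_tree lc_i_rc_54_0) (@D3.rec (fun _ =>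 (Cert rels S Gen.i)) lc_i_rc_46_1 lc_i_Cert_tree lc_i_rc_54_0 lc_i_Cert_tree lc_i_rc_54_0 lc_i_rc_41_3 lc_i_rc_54_0 lc_i_Cert_tree lc_i_rc_54_0 lc_i_rc_18_3 lc_i_rc_54_0 lc_i_rc_41_3 lc_i_rc_9_1 lc_i_rc_18_1 lc_i_rc_33_1 lc_i_Cert_tree lc_i_rc_54_0 lc_i_rc_41_3 lc_i_rc_46_1 lc_i_rc_33_1 lc_i_rc_26_1 lc_i_Cert_tree lc_i_Cert_tree lc_i_rc_54_0 lc_i_Cert_tree lc_i_rc_54_0 lc_i_rc_54_0 lc_i_Cert_tree lc_i_Cert_tree lc_i_rc_54_0 lc_i_Cert_tree lc_i_rc_54_0 lc_i_rc_54_0 lc_i_Cert_tree lc_i_Cert_tree lc_i_rc_54_0 lc_i_Cert_tree lc_i_Cert_tree lc_i_rc_54_0 lc_i_Cert_tree lc_i_rc_54_0 lc_i_Cert_tree lc_i_Cert_tree lc_i_rc_54_0 lc_i_Cert_tree lc_i_Cert_tree lc_i_rc_54_0 lc_i_Cert_tree lc_i_rc_54_0 lc_i_rc_46_1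 lc_i_Cert_tree) (@D3.rec (fun _ => (Cert rels S Gen.i)) lc_i_Cert_tree lc_i_rc_54_0 lc_i_Cert_tree lc_i_rc_54_0 lc_i_rc_41_3 lc_i_rc_54_0 lc_i_Cert_tree lc_i_rc_54_0 lc_i_rc_41_3 lc_i_Cert_tree lc_i_rc_54_0 lc_i_rc_41_3 lc_i_rc_18_1 lc_i_Cert_tree lc_i_rc_54_0 lc_i_rc_26_1 lc_i_Cert_tree lc_i_rc_54_0 lc_i_rc_41_3 lc_i_rc_33_1 lc_i_Cert_tree lc_i_Cert_tree lc_i_rc_54_0 lc_i_Cert_tree lc_i_Cert_tree lc_i_rc_54_0 lc_i_Cert_tree lc_i_rc_54_0 lc_i_rc_46_1 lc_i_Cert_tree lc_i_Cert_tree lc_i_rc_54_0 lc_i_Cert_tree lc_i_Cert_tree lc_i_rc_54_0 lc_i_rc_46_1 lc_i_Cert_tree lc_i_rc_54_0 lc_i_rc_39_1 lc_i_Cert_tree lc_i_Cert_tree lc_i_rc_54_0 lc_i_Cert_tree lc_i_rc_54_0 lc_i_rc_41_3 lc_i_Cert_tree lc_i_rc_54_0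 lc_i_rc_41_3 lc_i_rc_54_0 lc_i_Cert_tree lc_i_rc_54_0) (@D3.rec (fun _ => (Cert rels S Gen.i)) lc_i_rc_18_1 lc_i_Cert_tree lc_i_rc_54_0 lc_i_rc_41_3 lc_i_rc_18_3 lc_i_Cert_tree lc_i_rc_54_0 lc_i_rc_46_1 lc_i_rc_33_1 lc_i_rc_9_1 lc_i_Cert_tree lc_i_rc_54_0 lc_i_rc_46_3 lc_i_rc_9_3 lc_i_Cert_tree lc_i_rc_54_0 lc_i_rc_41_3 lc_i_rc_33_1 lc_i_rc_9_1 lc_i_rc_54_0 lc_i_rc_41_3 lc_i_rc_33_1 lc_i_rc_26_1 lc_i_Cert_tree lc_i_rc_54_0 lc_i_rc_46_1 lc_i_rc_33_1 lc_i_rc_54_0 lc_i_rc_50_1 lc_i_rc_33_1 lc_i_rc_26_1 lc_i_rc_53_1 lc_i_rc_33_1 lc_i_rc_26_1 lc_i_rc_18_1 lc_i_Cert_tree lc_i_Cert_tree lc_i_rc_54_0 lc_i_rc_54_0 lc_i_rc_26_3 lc_i_Cert_tree lc_i_rc_50_3 lc_i_rc_54_0 lc_i_Cert_tree lc_i_rc_54_0 lc_i_rc_26_1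 lc_i_rc_26_1 lc_i_Cert_tree lc_i_rc_54_0 lc_i_Cert_tree lc_i_rc_54_0) (@D3.rec (fun _ => (Cert rels S Gen.i)) lc_i_rc_18_1 lc_i_Cert_tree lc_i_rc_54_0 lc_i_rc_39_1 lc_i_rc_33_1 lc_i_rc_33_1 lc_i_rc_54_0 lc_i_rc_18_1 lc_i_rc_33_1 lc_i_rc_9_1 lc_i_rc_18_1 lc_i_rc_39_1 lc_i_rc_54_0 lc_i_rc_54_0 lc_i_rc_9_1 lc_i_rc_54_0 lc_i_rc_18_1 lc_i_rc_9_1 lc_i_rc_18_1 lc_i_Cert_tree lc_i_rc_54_0 lc_i_rc_54_0 lc_i_rc_54_0 lc_i_rc_54_0 lc_i_Cert_tree lc_i_rc_54_0 lc_i_rc_18_1 lc_i_rc_53_1 lc_i_Cert_tree lc_i_rc_54_0 lc_i_Cert_tree lc_i_rc_54_0 lc_i_Cert_tree lc_i_Cert_tree lc_i_rc_54_0 lc_i_rc_54_0 lc_i_rc_41_3 lc_i_Cert_tree lc_i_rc_54_0 lc_i_Cert_tree lc_i_Cert_tree lc_i_rc_54_0 lc_i_Cert_tree lc_i_rc_54_0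 lc_i_rc_54_0 lc_i_rc_54_0 lc_i_Cert_tree lc_i_Cert_tree lc_i_rc_33_1 lc_i_rc_9_1 lc_i_rc_18_1) (@D3.rec (fun _ => (Cert rels S Gen.i)) lc_i_rc_54_0 lc_i_rc_41_3 lc_i_rc_33_1 lc_i_rc_39_1 lc_i_rc_26_1 lc_i_rc_9_1 lc_i_rc_18_1 lc_i_rc_39_1 lc_i_rc_46_1 lc_i_rc_54_0 lc_i_rc_41_3 lc_i_rc_54_0 lc_i_rc_54_0 lc_i_rc_41_3 lc_i_rc_41_3 lc_i_rc_54_0 lc_i_rc_54_0 lc_i_rc_26_3 lc_i_Cert_tree lc_i_rc_54_0 lc_i_Cert_tree lc_i_rc_54_0 lc_i_rc_41_3 lc_i_rc_54_0 lc_i_rc_26_3 lc_i_Cert_tree lc_i_rc_54_0 lc_i_rc_54_0 lc_i_rc_54_0 lc_i_rc_41_3 lc_i_Cert_tree lc_i_rc_54_0 lc_i_rc_41_3 lc_i_rc_26_1 lc_i_rc_26_1 lc_i_Cert_tree lc_i_rc_54_0 lc_i_rc_54_0 lc_i_rc_41_3 lc_i_Cert_tree lc_i_rc_54_0 lc_i_Cert_tree lc_i_rc_54_0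 lc_i_rc_50_1 lc_i_rc_41_3 lc_i_rc_54_0 lc_i_rc_54_0 lc_i_rc_54_0 lc_i_Cert_tree lc_i_rc_54_0 lc_i_rc_41_3) (@D3.rec (fun _ => (Cert rels S Gen.i)) lc_i_Cert_tree lc_i_rc_54_0 lc_i_rc_41_3 lc_i_Cert_tree lc_i_rc_54_0 lc_i_Cert_tree lc_i_Cert_tree lc_i_rc_54_0 lc_i_Cert_tree lc_i_Cert_tree lc_i_rc_54_0 lc_i_Cert_tree lc_i_rc_54_0 lc_i_rc_46_1 lc_i_Cert_tree lc_i_rc_54_0 lc_i_rc_26_3 lc_i_Cert_tree lc_i_rc_54_0 lc_i_Cert_tree lc_i_rc_54_0 lc_i_rc_50_1 lc_i_Cert_tree lc_i_rc_54_0 lc_i_rc_39_1 lc_i_rc_54_0 lc_i_rc_41_3 lc_i_Cert_tree lc_i_rc_54_0 lc_i_rc_41_3 lc_i_rc_33_1 lc_i_Cert_tree lc_i_rc_54_0 lc_i_rc_41_3 lc_i_rc_54_0 lc_i_rc_54_0 lc_i_rc_54_0 lc_i_rc_54_0 lc_i_Cert_tree lc_i_rc_54_0 lc_i_rc_54_0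 lc_i_rc_46_1 lc_i_rc_33_1 lc_i_rc_54_0 lc_i_rc_54_0 lc_i_rc_46_1 lc_i_rc_54_0 lc_i_rc_18_1 lc_i_rc_33_1 lc_i_rc_9_1 lc_i_rc_18_1) (@D3.rec (fun _ => (Cert rels S Gen.i)) lc_i_rc_39_1 lc_i_Cert_tree lc_i_rc_54_0 lc_i_Cert_tree lc_i_rc_54_0 lc_i_Cert_tree lc_i_rc_54_0 lc_i_rc_54_0 lc_i_rc_41_3 lc_i_Cert_tree lc_i_rc_54_0 lc_i_Cert_tree lc_i_Cert_tree lc_i_rc_54_0 lc_i_rc_54_0 lc_i_rc_46_1 lc_i_Cert_tree lc_i_rc_54_0 lc_i_rc_41_3 lc_i_Cert_tree lc_i_rc_54_0 lc_i_rc_9_3 lc_i_rc_54_0 lc_i_rc_26_1 lc_i_rc_9_3 lc_i_Cert_tree lc_i_rc_54_0 lc_i_rc_26_1 lc_i_Cert_tree lc_i_rc_54_0 lc_i_rc_26_1 lc_i_rc_54_0 lc_i_rc_18_1 lc_i_rc_33_1 lc_i_rc_9_1 lc_i_rc_18_1 lc_i_rc_39_1 lc_i_rc_54_0 lc_i_rc_18_1 lc_i_rc_33_1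 lc_i_rc_54_0 lc_i_rc_18_1 lc_i_rc_9_1 lc_i_rc_18_1 lc_i_rc_54_0 lc_i_Cert_tree lc_i_rc_54_0 lc_i_Cert_tree lc_i_rc_54_0 lc_i_rc_54_0 lc_i_rc_9_3) (@D3.rec (fun _ => (Cert rels S Gen.i)) lc_i_Cert_tree lc_i_Cert_tree lc_i_rc_54_0 lc_i_Cert_tree lc_i_rc_54_0 lc_i_rc_54_0 lc_i_rc_41_3 lc_i_rc_26_1 lc_i_Cert_tree lc_i_rc_54_0 lc_i_Cert_tree lc_i_Cert_tree lc_i_rc_54_0 lc_i_Cert_tree lc_i_Cert_tree lc_i_rc_54_0 lc_i_Cert_tree lc_i_rc_54_0 lc_i_rc_46_1 lc_i_Cert_tree lc_i_Cert_tree lc_i_rc_54_0 lc_i_Cert_tree lc_i_rc_54_0 lc_i_rc_41_3 lc_i_rc_54_0 lc_i_Cert_tree lc_i_rc_54_0 lc_i_rc_41_3 lc_i_rc_54_0 lc_i_rc_9_3 lc_i_rc_9_1 lc_i_rc_18_1 lc_i_rc_33_1 lc_i_rc_54_0 lc_i_Cert_tree lc_i_rc_54_0 lc_i_Cert_tree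 lc_i_Cert_tree lc_i_rc_54_0 lc_i_rc_54_0 lc_i_rc_9_1 lc_i_Cert_tree lc_i_Cert_tree lc_i_rc_54_0 lc_i_Cert_tree lc_i_rc_54_0 lc_i_rc_9_1 lc_i_rc_9_1 lc_i_Cert_tree lc_i_rc_54_0) (@D3.rec (fun _ => (Cert rels S Gen.i)) lc_i_rc_9_1 lc_i_rc_54_0 lc_i_rc_18_1 lc_i_rc_9_1 lc_i_rc_41_3 lc_i_rc_18_1 lc_i_rc_9_1 lc_i_Cert_tree lc_i_Cert_tree lc_i_rc_54_0 lc_i_Cert_tree lc_i_rc_54_0 lc_i_Cert_tree lc_i_Cert_tree lc_i_rc_54_0 lc_i_Cert_tree lc_i_Cert_tree lc_i_rc_54_0 lc_i_Cert_tree lc_i_rc_54_0 lc_i_rc_46_1 lc_i_Cert_tree lc_i_rc_54_0 lc_i_rc_41_3 lc_i_Cert_tree lc_i_rc_54_0 lc_i_Cert_tree lc_i_rc_54_0 lc_i_rc_41_3 lc_i_Cert_tree lc_i_rc_54_0 lc_i_rc_41_3 lc_i_rc_54_0 lc_i_rc_18_1 lc_i_rc_26_1 lc_i_rc_33_1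 lc_i_Cert_tree lc_i_rc_54_0 lc_i_rc_41_3 lc_i_Cert_tree lc_i_Cert_tree lc_i_rc_54_0 lc_i_Cert_tree lc_i_Cert_tree lc_i_rc_54_0 lc_i_Cert_tree lc_i_rc_54_0 lc_i_rc_46_1 lc_i_Cert_tree lc_i_Cert_tree lc_i_rc_54_0) (@D3.rec (fun _ => (Cert rels S Gen.i)) lc_i_Cert_tree lc_i_Cert_tree lc_i_rc_54_0 lc_i_rc_46_1 lc_i_Cert_tree lc_i_rc_54_0 lc_i_rc_39_1 lc_i_Cert_tree lc_i_Cert_tree lc_i_rc_54_0 lc_i_Cert_tree lc_i_rc_54_0 lc_i_rc_41_3 lc_i_rc_54_0 lc_i_rc_41_3 lc_i_Cert_tree lc_i_rc_54_0 lc_i_Cert_tree lc_i_rc_54_0 lc_i_rc_18_1 lc_i_Cert_tree lc_i_rc_54_0 lc_i_rc_41_3 lc_i_rc_33_1 lc_i_Cert_tree lc_i_rc_54_0 lc_i_rc_46_1 lc_i_rc_54_0 lc_i_rc_41_3 lc_i_Cert_tree lc_i_rc_54_0 lc_i_rc_18_1 lc_i_rc_18_1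 lc_i_Cert_tree lc_i_rc_54_0 lc_i_rc_41_3 lc_i_rc_33_1 lc_i_rc_9_3 lc_i_rc_54_0 lc_i_rc_41_3 lc_i_rc_54_0 lc_i_rc_54_0 lc_i_rc_18_1 lc_i_rc_54_0 lc_i_Cert_tree lc_i_rc_54_0 lc_i_rc_26_1 lc_i_rc_39_1 lc_i_rc_54_0 lc_i_Cert_tree lc_i_rc_54_0) (@D3.rec (fun _ => (Cert rels S Gen.i)) lc_i_rc_18_1 lc_i_Cert_tree lc_i_rc_54_0 lc_i_rc_39_1 lc_i_rc_33_1 lc_i_rc_54_0 lc_i_rc_18_1 lc_i_rc_33_1 lc_i_rc_50_1 lc_i_rc_18_1 lc_i_rc_39_1 lc_i_rc_18_1 lc_i_rc_39_1 lc_i_rc_9_1 lc_i_rc_18_1 lc_i_rc_18_1 lc_i_rc_9_1 lc_i_rc_54_0 lc_i_rc_54_0 lc_i_rc_54_0 lc_i_rc_41_3 lc_i_rc_54_0 lc_i_rc_9_1 lc_i_rc_54_0 lc_i_rc_41_3 lc_i_rc_41_3 lc_i_rc_54_0 lc_i_rc_26_1 lc_i_rc_41_3 lc_i_rc_33_1 lc_i_rc_54_0 lc_i_rc_41_3 lc_i_rc_54_0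 lc_i_rc_18_1 lc_i_rc_26_1 lc_i_rc_9_1 lc_i_rc_33_1 lc_i_rc_54_0 lc_i_rc_26_1 lc_i_rc_54_0 lc_i_rc_54_0 lc_i_rc_26_3 lc_i_rc_54_0 lc_i_rc_41_3 lc_i_rc_54_0 lc_i_rc_54_0 lc_i_rc_18_1 lc_i_rc_54_0 lc_i_rc_9_3 lc_i_rc_33_1 lc_i_rc_54_0) (@D3.rec (fun _ => (Cert rels S Gen.i)) lc_i_rc_26_3 lc_i_rc_26_1 lc_i_rc_39_1 lc_i_rc_18_1 lc_i_rc_33_1 lc_i_rc_9_1 lc_i_rc_18_1 lc_i_rc_39_1 lc_i_rc_9_1 lc_i_Cert_tree lc_i_rc_54_0 lc_i_rc_54_0 lc_i_rc_41_3 lc_i_Cert_tree lc_i_rc_54_0 lc_i_Cert_tree lc_i_Cert_tree lc_i_rc_54_0 lc_i_rc_54_0 lc_i_rc_54_0 lc_i_rc_41_3 lc_i_rc_41_3 lc_i_Cert_tree lc_i_rc_54_0 lc_i_rc_33_1 lc_i_rc_54_0 lc_i_rc_9_1 lc_i_rc_54_0 lc_i_rc_18_1 lc_i_rc_9_1 lc_i_Cert_tree lc_i_Cert_tree lc_i_rc_54_0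 lc_i_rc_54_0 lc_i_rc_41_3 lc_i_rc_54_0 lc_i_rc_26_1 lc_i_rc_41_3 lc_i_Cert_tree lc_i_rc_54_0 lc_i_Cert_tree lc_i_rc_54_0 lc_i_Cert_tree lc_i_rc_54_0 lc_i_rc_46_1 lc_i_rc_39_1 lc_i_Cert_tree lc_i_rc_54_0 lc_i_rc_41_3 lc_i_rc_54_0 lc_i_rc_33_3) (@D3.rec (fun _ => (Cert rels S Gen.i)) lc_i_rc_54_0 lc_i_rc_54_0 lc_i_rc_18_1 lc_i_rc_41_3 lc_i_rc_33_1 lc_i_Cert_tree lc_i_rc_54_0 lc_i_rc_26_1 lc_i_rc_39_1 lc_i_rc_33_1 lc_i_rc_9_1 lc_i_rc_18_1 lc_i_rc_39_1 lc_i_Cert_tree lc_i_Cert_tree lc_i_rc_54_0 lc_i_rc_54_0 lc_i_rc_41_3 lc_i_rc_54_0 lc_i_rc_26_1 lc_i_Cert_tree lc_i_rc_54_0 lc_i_Cert_tree lc_i_rc_54_0 lc_i_Cert_tree lc_i_rc_54_0 lc_i_rc_54_0 lc_i_rc_46_1 lc_i_rc_26_3 lc_i_rc_41_3 lc_i_rc_54_0 lc_i_rc_18_1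 lc_i_rc_33_1 lc_i_rc_54_0 lc_i_rc_9_1 lc_i_rc_26_1 lc_i_rc_9_1 lc_i_rc_33_1 lc_i_rc_9_1 lc_i_rc_18_1 lc_i_rc_39_1 lc_i_Cert_tree lc_i_Cert_tree lc_i_rc_54_0 lc_i_rc_54_0 lc_i_rc_46_1 lc_i_rc_54_0 lc_i_rc_41_3 lc_i_rc_54_0 lc_i_rc_18_1 lc_i_rc_26_1) (@D3.rec (fun _ => (Cert rels S Gen.i)) lc_i_rc_33_1 lc_i_Cert_tree lc_i_Cert_tree lc_i_rc_54_0 lc_i_Cert_tree lc_i_Cert_tree lc_i_rc_54_0 lc_i_rc_54_0 lc_i_rc_41_3 lc_i_Cert_tree lc_i_Cert_tree lc_i_rc_54_0 lc_i_Cert_tree lc_i_Cert_tree lc_i_rc_54_0 lc_i_rc_46_1 lc_i_Cert_tree lc_i_rc_54_0 lc_i_rc_39_1 lc_i_rc_54_0 lc_i_rc_39_1 lc_i_rc_54_0 lc_i_Cert_tree lc_i_rc_54_0 lc_i_rc_18_1 lc_i_Cert_tree lc_i_rc_54_0 lc_i_rc_9_3 lc_i_rc_33_1 lc_i_Cert_tree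 lc_i_rc_54_0 lc_i_rc_26_3 lc_i_rc_54_0 lc_i_rc_41_3 lc_i_rc_54_0 lc_i_rc_18_1 lc_i_rc_18_1 lc_i_rc_54_0 lc_i_rc_26_1 lc_i_rc_26_1 lc_i_rc_39_1 lc_i_rc_54_0 lc_i_rc_33_1 lc_i_rc_54_0 lc_i_rc_54_0 lc_i_rc_50_1 lc_i_rc_54_0 lc_i_rc_26_1 lc_i_rc_54_0 lc_i_Cert_tree lc_i_rc_54_0) (@D3.rec (fun _ => (Cert rels S Gen.i)) lc_i_rc_18_1 lc_i_Cert_tree lc_i_rc_54_0 lc_i_rc_26_1 lc_i_rc_33_1 lc_i_rc_18_1 lc_i_rc_33_1 lc_i_rc_9_1 lc_i_rc_18_1 lc_i_rc_39_1 lc_i_rc_9_1 lc_i_rc_26_1 lc_i_rc_18_1 lc_i_rc_46_1 lc_i_rc_54_0 lc_i_rc_54_0 lc_i_rc_18_1 lc_i_rc_54_0 lc_i_rc_9_1 lc_i_rc_54_0 lc_i_rc_18_1 lc_i_rc_9_1 lc_i_rc_9_1 lc_i_rc_26_1 lc_i_rc_18_1 lc_i_Cert_tree lc_i_rc_54_0 lc_i_Cert_tree lc_i_rc_54_0 lc_i_rc_54_0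 lc_i_rc_26_1 lc_i_rc_26_1 lc_i_Cert_tree lc_i_rc_54_0 lc_i_Cert_tree lc_i_rc_54_0 lc_i_Cert_tree lc_i_rc_54_0 lc_i_Cert_tree lc_i_rc_54_0 lc_i_rc_46_1 lc_i_rc_54_0 lc_i_rc_41_3 lc_i_rc_54_0 lc_i_rc_41_3 lc_i_Cert_tree lc_i_Cert_tree lc_i_rc_54_0 lc_i_Cert_tree lc_i_Cert_tree lc_i_rc_54_0) (@D3.rec (fun _ => (Cert rels S Gen.i)) lc_i_Cert_tree lc_i_rc_54_0 lc_i_rc_46_1 lc_i_Cert_tree lc_i_rc_54_0 lc_i_Cert_tree lc_i_Cert_tree lc_i_rc_54_0 lc_i_rc_26_1 lc_i_rc_54_0 lc_i_rc_39_1 lc_i_Cert_tree lc_i_rc_54_0 lc_i_Cert_tree lc_i_rc_54_0 lc_i_rc_26_1 lc_i_Cert_tree lc_i_rc_54_0 lc_i_rc_41_3 lc_i_Cert_tree lc_i_rc_54_0 lc_i_rc_18_1 lc_i_rc_54_0 lc_i_rc_26_1 lc_i_rc_46_1 lc_i_rc_9_1 lc_i_rc_33_1 lc_i_rc_54_0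 lc_i_rc_54_0 lc_i_rc_54_0 lc_i_Cert_tree lc_i_rc_54_0 lc_i_rc_54_0 lc_i_Cert_tree lc_i_rc_54_0 lc_i_rc_54_0 lc_i_rc_54_0 lc_i_rc_9_1 lc_i_rc_9_1 lc_i_Cert_tree lc_i_Cert_tree lc_i_rc_54_0 lc_i_Cert_tree lc_i_rc_54_0 lc_i_rc_54_0 lc_i_rc_46_1 lc_i_rc_41_3 lc_i_Cert_tree lc_i_Cert_tree lc_i_rc_54_0 lc_i_Cert_tree) (@D3.rec (fun _ => (Cert rels S Gen.i)) lc_i_Cert_tree lc_i_rc_54_0 lc_i_rc_54_0 lc_i_rc_46_1 lc_i_Cert_tree lc_i_Cert_tree lc_i_rc_54_0 lc_i_Cert_tree lc_i_rc_54_0 lc_i_rc_18_3 lc_i_rc_39_1 lc_i_Cert_tree lc_i_rc_54_0 lc_i_rc_18_3 lc_i_rc_54_0 lc_i_rc_9_3 lc_i_rc_41_3 lc_i_rc_54_0 lc_i_rc_54_0 lc_i_rc_54_0 lc_i_rc_54_0 lc_i_Cert_tree lc_i_rc_54_0 lc_i_Cert_tree lc_i_rc_54_0 lc_i_rc_54_0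 lc_i_Cert_tree lc_i_Cert_tree lc_i_rc_54_0 lc_i_rc_54_0 lc_i_rc_41_3 lc_i_Cert_tree lc_i_Cert_tree lc_i_rc_54_0 lc_i_Cert_tree lc_i_Cert_tree lc_i_rc_54_0 lc_i_rc_54_0 lc_i_rc_46_1 lc_i_Cert_tree lc_i_Cert_tree lc_i_rc_54_0 lc_i_Cert_tree lc_i_Cert_tree lc_i_rc_54_0 lc_i_rc_46_1 lc_i_Cert_tree lc_i_rc_54_0 lc_i_rc_39_1 lc_i_Cert_tree lc_i_Cert_tree) (@D3.rec (fun _ => (Cert rels S Gen.i)) lc_i_rc_54_0 lc_i_rc_54_0 lc_i_rc_41_3 lc_i_rc_41_3 lc_i_rc_54_0 lc_i_Cert_tree lc_i_rc_54_0 lc_i_rc_18_1 lc_i_Cert_tree lc_i_rc_54_0 lc_i_rc_41_3 lc_i_Cert_tree lc_i_rc_54_0 lc_i_rc_46_1 lc_i_rc_9_1 lc_i_rc_18_1 lc_i_Cert_tree lc_i_rc_54_0 lc_i_rc_41_3 lc_i_rc_33_1 lc_i_rc_54_0 lc_i_rc_41_3 lc_i_Cert_tree lc_i_rc_54_0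 lc_i_Cert_tree lc_i_rc_54_0 lc_i_rc_50_1 lc_i_Cert_tree lc_i_rc_54_0 lc_i_Cert_tree lc_i_Cert_tree lc_i_rc_54_0 lc_i_rc_46_1 lc_i_Cert_tree lc_i_rc_54_0 lc_i_rc_39_1 lc_i_Cert_tree lc_i_rc_54_0 lc_i_Cert_tree lc_i_Cert_tree lc_i_rc_54_0 lc_i_rc_18_1 lc_i_Cert_tree lc_i_Cert_tree lc_i_rc_54_0 lc_i_Cert_tree lc_i_rc_54_0 lc_i_rc_39_1 lc_i_rc_18_3 lc_i_Cert_tree lc_i_rc_54_0)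
def ce_i_13 : D2 → D3 → (Cert rels S Gen.i) := @D2.rec (fun _ => D3 → (Cert rels S Gen.i)) (@D3.rec (fun _ => (Cert rels S Gen.i)) lc_i_rc_39_1 lc_i_rc_33_1 lc_i_Cert_tree lc_i_rc_54_0 lc_i_Cert_tree lc_i_rc_54_0 lc_i_rc_18_1 lc_i_rc_54_0 lc_i_rc_41_3 lc_i_rc_33_1 lc_i_Cert_tree lc_i_rc_54_0 lc_i_rc_41_3 lc_i_Cert_tree lc_i_rc_54_0 lc_i_rc_9_1 lc_i_Cert_tree lc_i_rc_54_0 lc_i_rc_18_1 lc_i_rc_9_3 lc_i_Cert_tree lc_i_rc_54_0 lc_i_rc_46_1 lc_i_rc_33_1 lc_i_rc_18_3 lc_i_rc_54_0 lc_i_rc_46_1 lc_i_rc_41_3 lc_i_Cert_tree lc_i_rc_54_0 lc_i_rc_41_3 lc_i_rc_18_1 lc_i_rc_54_0 lc_i_rc_41_3 lc_i_rc_33_1 lc_i_rc_18_3 lc_i_rc_41_3 lc_i_rc_54_0 lc_i_rc_54_0 lc_i_rc_26_1 lc_i_rc_54_0 lc_i_rc_41_3 lc_i_rc_39_1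 lc_i_rc_39_1 lc_i_rc_46_1 lc_i_rc_41_3 lc_i_rc_54_0 lc_i_rc_41_3 lc_i_rc_54_0 lc_i_Cert_tree lc_i_Cert_tree) (@D3.rec (fun _ => (Cert rels S Gen.i)) lc_i_rc_54_0 lc_i_rc_54_0 lc_i_rc_41_3 lc_i_Cert_tree lc_i_Cert_tree lc_i_rc_54_0 lc_i_Cert_tree lc_i_rc_54_0 lc_i_rc_26_1 lc_i_rc_41_3 lc_i_rc_54_0 lc_i_rc_54_0 lc_i_Cert_tree lc_i_rc_54_0 lc_i_rc_54_0 lc_i_Cert_tree lc_i_rc_54_0 lc_i_Cert_tree lc_i_rc_54_0 lc_i_rc_54_0 lc_i_rc_54_0 lc_i_rc_46_1 lc_i_rc_46_1 lc_i_rc_39_1 lc_i_rc_33_1 lc_i_rc_9_1 lc_i_rc_26_1 lc_i_rc_18_1 lc_i_rc_46_1 lc_i_rc_33_1 lc_i_rc_18_1 lc_i_rc_18_1 lc_i_rc_9_1 lc_i_rc_26_1 lc_i_rc_18_1 lc_i_rc_39_1 lc_i_rc_54_0 lc_i_rc_54_0 lc_i_rc_54_0 lc_i_rc_33_1 lc_i_rc_9_1 lc_i_rc_26_1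 lc_i_rc_54_0 lc_i_rc_18_1 lc_i_rc_54_0 lc_i_rc_41_3 lc_i_rc_33_1 lc_i_rc_9_1 lc_i_rc_26_1 lc_i_rc_18_1 lc_i_rc_46_1) (@D3.rec (fun _ => (Cert rels S Gen.i)) lc_i_rc_50_1 lc_i_rc_18_1 lc_i_rc_9_1 lc_i_rc_9_1 lc_i_rc_26_1 lc_i_rc_18_1 lc_i_rc_9_1 lc_i_rc_26_1 lc_i_rc_18_1 lc_i_rc_46_1 lc_i_rc_18_1 lc_i_rc_54_0 lc_i_rc_18_1 lc_i_rc_9_1 lc_i_rc_54_0 lc_i_rc_18_1 lc_i_rc_33_1 lc_i_rc_9_1 lc_i_rc_18_1 lc_i_rc_9_1 lc_i_rc_54_0 lc_i_rc_54_0 lc_i_rc_41_3 lc_i_rc_39_1 lc_i_rc_33_1 lc_i_rc_9_1 lc_i_rc_33_3 lc_i_Cert_tree lc_i_rc_54_0 lc_i_rc_18_1 lc_i_Cert_tree lc_i_Cert_tree lc_i_rc_54_0 lc_i_rc_54_0 lc_i_rc_41_3 lc_i_rc_54_0 lc_i_rc_46_1 lc_i_rc_33_1 lc_i_rc_39_1 lc_i_rc_50_1 lc_i_rc_33_1 lc_i_rc_26_1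 lc_i_rc_39_1 lc_i_rc_54_0 lc_i_rc_46_1 lc_i_rc_33_1 lc_i_rc_54_0 lc_i_rc_9_1 lc_i_rc_54_0 lc_i_rc_18_1 lc_i_rc_33_1) (@D3.rec (fun _ => (Cert rels S Gen.i)) lc_i_rc_54_0 lc_i_rc_50_1 lc_i_rc_33_1 lc_i_rc_33_1 lc_i_rc_46_1 lc_i_rc_54_0 lc_i_rc_9_1 lc_i_rc_54_0 lc_i_rc_18_1 lc_i_rc_33_1 lc_i_rc_26_1 lc_i_rc_33_1 lc_i_rc_41_3 lc_i_rc_9_1 lc_i_rc_54_0 lc_i_rc_41_3 lc_i_rc_54_0 lc_i_rc_26_1 lc_i_rc_54_0 lc_i_rc_41_3 lc_i_rc_26_1 lc_i_rc_26_1 lc_i_rc_18_1 lc_i_rc_33_1 lc_i_rc_54_0 lc_i_rc_46_1 lc_i_rc_33_1 lc_i_rc_54_0 lc_i_rc_54_0 lc_i_rc_54_0 lc_i_rc_50_1 lc_i_rc_26_1 lc_i_rc_33_1 lc_i_rc_54_0 lc_i_rc_9_1 lc_i_rc_33_1 lc_i_Cert_tree lc_i_rc_54_0 lc_i_rc_46_1 lc_i_rc_54_0 lc_i_rc_50_1 lc_i_rc_53_1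 lc_i_rc_33_1 lc_i_rc_26_1 lc_i_rc_39_1 lc_i_rc_18_1 lc_i_rc_54_0 lc_i_rc_18_1 lc_i_rc_54_0 lc_i_rc_18_1 lc_i_rc_33_1) (@D3.rec (fun _ => (Cert rels S Gen.i)) lc_i_rc_9_1 lc_i_rc_18_1 lc_i_rc_26_1 lc_i_Cert_tree lc_i_rc_54_0 lc_i_Cert_tree lc_i_rc_54_0 lc_i_Cert_tree lc_i_rc_54_0 lc_i_rc_54_0 lc_i_rc_41_3 lc_i_rc_54_0 lc_i_rc_41_3 lc_i_rc_54_0 lc_i_rc_41_3 lc_i_rc_54_0 lc_i_rc_9_1 lc_i_rc_54_0 lc_i_rc_54_0 lc_i_rc_41_3 lc_i_rc_41_3 lc_i_rc_41_3 lc_i_Cert_tree lc_i_rc_54_0 lc_i_rc_41_3 lc_i_rc_54_0 lc_i_rc_46_1 lc_i_rc_33_1 lc_i_Cert_tree lc_i_rc_54_0 lc_i_Cert_tree lc_i_rc_54_0 lc_i_rc_9_3 lc_i_rc_26_3 lc_i_rc_54_0 lc_i_rc_41_3 lc_i_Cert_tree lc_i_rc_54_0 lc_i_Cert_tree lc_i_Cert_tree lc_i_rc_54_0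 lc_i_Cert_tree lc_i_rc_54_0 lc_i_Cert_tree lc_i_Cert_tree lc_i_rc_54_0 lc_i_Cert_tree lc_i_rc_54_0 lc_i_rc_41_3 lc_i_Cert_tree lc_i_Cert_tree) (@D3.rec (fun _ => (Cert rels S Gen.i)) lc_i_rc_54_0 lc_i_rc_54_0 lc_i_rc_26_1 lc_i_rc_41_3 lc_i_Cert_tree lc_i_rc_54_0 lc_i_rc_54_0 lc_i_rc_41_3 lc_i_rc_33_1 lc_i_rc_54_0 lc_i_Cert_tree lc_i_rc_54_0 lc_i_rc_54_0 lc_i_rc_9_3 lc_i_rc_54_0 lc_i_rc_33_1 lc_i_Cert_tree lc_i_rc_54_0 lc_i_rc_54_0 lc_i_rc_54_0 lc_i_rc_41_3 lc_i_rc_18_1 lc_i_Cert_tree lc_i_rc_54_0 lc_i_rc_50_1 lc_i_Cert_tree lc_i_rc_54_0 lc_i_rc_41_3 lc_i_rc_54_0 lc_i_rc_33_1 lc_i_rc_54_0 lc_i_rc_9_1 lc_i_Cert_tree lc_i_rc_54_0 lc_i_Cert_tree lc_i_rc_54_0 lc_i_rc_54_0 lc_i_Cert_tree lc_i_rc_54_0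 lc_i_rc_41_3 lc_i_Cert_tree lc_i_rc_54_0 lc_i_rc_41_3 lc_i_Cert_tree lc_i_rc_54_0 lc_i_Cert_tree lc_i_rc_54_0 lc_i_Cert_tree lc_i_rc_54_0 lc_i_rc_46_1 lc_i_rc_41_3) (@D3.rec (fun _ => (Cert rels S Gen.i)) lc_i_rc_50_1 lc_i_Cert_tree lc_i_rc_54_0 lc_i_rc_41_3 lc_i_rc_41_3 lc_i_Cert_tree lc_i_rc_54_0 lc_i_rc_41_3 lc_i_Cert_tree lc_i_rc_54_0 lc_i_rc_41_3 lc_i_rc_33_1 lc_i_Cert_tree lc_i_rc_54_0 lc_i_rc_46_1 lc_i_rc_33_1 lc_i_rc_54_0 lc_i_rc_50_1 lc_i_rc_33_1 lc_i_rc_26_1 lc_i_Cert_tree lc_i_Cert_tree lc_i_rc_54_0 lc_i_Cert_tree lc_i_Cert_tree lc_i_rc_54_0 lc_i_Cert_tree lc_i_Cert_tree lc_i_rc_54_0 lc_i_Cert_tree lc_i_Cert_tree lc_i_rc_54_0 lc_i_rc_54_0 lc_i_Cert_tree lc_i_rc_54_0 lc_i_rc_41_3 lc_i_rc_26_1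 lc_i_rc_41_3 lc_i_Cert_tree lc_i_rc_54_0 lc_i_Cert_tree lc_i_Cert_tree lc_i_rc_54_0 lc_i_Cert_tree lc_i_Cert_tree lc_i_rc_54_0 lc_i_Cert_tree lc_i_rc_54_0 lc_i_rc_46_1 lc_i_Cert_tree lc_i_rc_54_0) (@D3.rec (fun _ => (Cert rels S Gen.i)) lc_i_Cert_tree lc_i_rc_54_0 lc_i_rc_41_3 lc_i_rc_54_0 lc_i_Cert_tree lc_i_rc_54_0 lc_i_rc_41_3 lc_i_rc_54_0 lc_i_rc_41_3 lc_i_rc_18_1 lc_i_rc_9_3 lc_i_rc_33_1 lc_i_rc_33_1 lc_i_Cert_tree lc_i_rc_54_0 lc_i_rc_41_3 lc_i_rc_46_1 lc_i_rc_33_1 lc_i_rc_26_1 lc_i_rc_54_0 lc_i_rc_18_1 lc_i_Cert_tree lc_i_rc_54_0 lc_i_Cert_tree lc_i_rc_54_0 lc_i_rc_26_1 lc_i_rc_39_1 lc_i_rc_26_1 lc_i_rc_18_1 lc_i_rc_33_1 lc_i_rc_9_1 lc_i_rc_18_1 lc_i_rc_39_1 lc_i_rc_26_1 lc_i_rc_54_0 lc_i_rc_18_1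 lc_i_rc_39_1 lc_i_rc_33_1 lc_i_rc_33_1 lc_i_rc_18_1 lc_i_rc_39_1 lc_i_Cert_tree lc_i_Cert_tree lc_i_rc_54_0 lc_i_Cert_tree lc_i_rc_54_0 lc_i_rc_54_0 lc_i_rc_41_3 lc_i_Cert_tree lc_i_Cert_tree lc_i_rc_54_0) (@D3.rec (fun _ => (Cert rels S Gen.i)) lc_i_Cert_tree lc_i_Cert_tree lc_i_rc_54_0 lc_i_Cert_tree lc_i_rc_54_0 lc_i_rc_54_0 lc_i_Cert_tree lc_i_rc_54_0 lc_i_rc_41_3 lc_i_rc_18_1 lc_i_rc_18_3 lc_i_rc_54_0 lc_i_rc_18_1 lc_i_rc_33_1 lc_i_Cert_tree lc_i_rc_54_0 lc_i_Cert_tree lc_i_rc_54_0 lc_i_Cert_tree lc_i_Cert_tree lc_i_rc_54_0 lc_i_rc_54_0 lc_i_rc_54_0 lc_i_Cert_tree lc_i_rc_54_0 lc_i_rc_41_3 lc_i_rc_26_1 lc_i_rc_41_3 lc_i_Cert_tree lc_i_rc_54_0 lc_i_Cert_tree lc_i_rc_54_0 lc_i_Cert_tree lc_i_rc_54_0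 lc_i_Cert_tree lc_i_rc_54_0 lc_i_rc_46_1 lc_i_rc_41_3 lc_i_rc_41_3 lc_i_Cert_tree lc_i_rc_54_0 lc_i_rc_41_3 lc_i_rc_33_1 lc_i_Cert_tree lc_i_rc_54_0 lc_i_rc_9_3 lc_i_rc_33_1 lc_i_Cert_tree lc_i_rc_54_0 lc_i_rc_9_1 lc_i_rc_33_1) (@D3.rec (fun _ => (Cert rels S Gen.i)) lc_i_rc_54_0 lc_i_rc_9_1 lc_i_rc_33_1 lc_i_rc_9_1 lc_i_rc_9_1 lc_i_rc_9_1 lc_i_Cert_tree lc_i_rc_54_0 lc_i_Cert_tree lc_i_Cert_tree lc_i_rc_54_0 lc_i_Cert_tree lc_i_rc_54_0 lc_i_Cert_tree lc_i_Cert_tree lc_i_rc_54_0 lc_i_Cert_tree lc_i_Cert_tree lc_i_rc_54_0 lc_i_Cert_tree lc_i_rc_54_0 lc_i_rc_46_1 lc_i_Cert_tree lc_i_rc_54_0 lc_i_Cert_tree lc_i_rc_54_0 lc_i_rc_41_3 lc_i_rc_54_0 lc_i_Cert_tree lc_i_rc_54_0 lc_i_rc_41_3 lc_i_Cert_tree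 lc_i_rc_54_0 lc_i_rc_41_3 lc_i_rc_18_1 lc_i_rc_26_1 lc_i_rc_33_1 lc_i_Cert_tree lc_i_rc_54_0 lc_i_rc_41_3 lc_i_rc_33_1 lc_i_Cert_tree lc_i_rc_54_0 lc_i_Cert_tree lc_i_Cert_tree lc_i_rc_54_0 lc_i_Cert_tree lc_i_rc_54_0 lc_i_rc_46_1 lc_i_Cert_tree lc_i_Cert_tree) (@D3.rec (fun _ => (Cert rels S Gen.i)) lc_i_rc_54_0 lc_i_Cert_tree lc_i_Cert_tree lc_i_rc_54_0 lc_i_rc_46_1 lc_i_Cert_tree lc_i_rc_54_0 lc_i_rc_39_1 lc_i_Cert_tree lc_i_rc_54_0 lc_i_rc_41_3 lc_i_Cert_tree lc_i_rc_54_0 lc_i_rc_41_3 lc_i_rc_54_0 lc_i_Cert_tree lc_i_rc_54_0 lc_i_rc_18_1 lc_i_Cert_tree lc_i_rc_54_0 lc_i_rc_41_3 lc_i_rc_33_1 lc_i_Cert_tree lc_i_rc_54_0 lc_i_rc_46_1 lc_i_rc_33_1 lc_i_rc_46_3 lc_i_rc_9_1 lc_i_rc_18_1 lc_i_Cert_tree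 lc_i_rc_54_0 lc_i_rc_41_3 lc_i_rc_39_1 lc_i_rc_54_0 lc_i_rc_41_3 lc_i_rc_33_1 lc_i_rc_26_1 lc_i_Cert_tree lc_i_rc_54_0 lc_i_rc_46_1 lc_i_rc_33_1 lc_i_rc_54_0 lc_i_rc_50_1 lc_i_rc_33_1 lc_i_rc_26_1 lc_i_rc_53_1 lc_i_rc_33_1 lc_i_rc_26_1 lc_i_rc_18_1 lc_i_Cert_tree lc_i_rc_54_0) (@D3.rec (fun _ => (Cert rels S Gen.i)) lc_i_rc_26_1 lc_i_Cert_tree lc_i_rc_54_0 lc_i_Cert_tree lc_i_rc_54_0 lc_i_rc_18_1 lc_i_Cert_tree lc_i_rc_54_0 lc_i_rc_39_1 lc_i_rc_33_1 lc_i_rc_54_0 lc_i_rc_18_1 lc_i_rc_33_1 lc_i_rc_50_1 lc_i_rc_18_1 lc_i_rc_39_1 lc_i_rc_18_1 lc_i_rc_46_1 lc_i_rc_54_0 lc_i_rc_18_1 lc_i_rc_33_1 lc_i_rc_54_0 lc_i_rc_9_1 lc_i_rc_18_1 lc_i_rc_18_1 lc_i_rc_9_1 lc_i_rc_18_1 lc_i_rc_39_1 lc_i_rc_41_3 lc_i_rc_39_1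 lc_i_rc_41_3 lc_i_rc_33_1 lc_i_rc_26_1 lc_i_rc_18_1 lc_i_rc_33_3 lc_i_Cert_tree lc_i_rc_54_0 lc_i_rc_54_0 lc_i_Cert_tree lc_i_rc_54_0 lc_i_Cert_tree lc_i_Cert_tree lc_i_rc_54_0 lc_i_rc_33_3 lc_i_Cert_tree lc_i_rc_54_0 lc_i_rc_54_0 lc_i_rc_54_0 lc_i_rc_54_0 lc_i_rc_54_0 lc_i_rc_41_3) (@D3.rec (fun _ => (Cert rels S Gen.i)) lc_i_rc_41_3 lc_i_rc_9_1 lc_i_rc_54_0 lc_i_Cert_tree lc_i_rc_54_0 lc_i_Cert_tree lc_i_rc_54_0 lc_i_rc_41_3 lc_i_rc_54_0 lc_i_rc_54_0 lc_i_rc_41_3 lc_i_rc_54_0 lc_i_rc_26_1 lc_i_rc_54_0 lc_i_rc_41_3 lc_i_rc_46_1 lc_i_rc_33_1 lc_i_rc_18_1 lc_i_rc_33_1 lc_i_rc_9_1 lc_i_rc_54_0 lc_i_rc_54_0 lc_i_Cert_tree lc_i_rc_54_0 lc_i_rc_41_3 lc_i_Cert_tree lc_i_rc_54_0 lc_i_Cert_tree lc_i_rc_54_0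 lc_i_Cert_tree lc_i_Cert_tree lc_i_rc_54_0 lc_i_rc_54_0 lc_i_rc_41_3 lc_i_rc_54_0 lc_i_rc_54_0 lc_i_rc_54_0 lc_i_Cert_tree lc_i_rc_54_0 lc_i_rc_41_3 lc_i_rc_54_0 lc_i_rc_54_0 lc_i_rc_26_1 lc_i_rc_41_3 lc_i_rc_54_0 lc_i_rc_41_3 lc_i_rc_33_1 lc_i_rc_54_0 lc_i_rc_26_1 lc_i_rc_18_1 lc_i_rc_33_1) (@D3.rec (fun _ => (Cert rels S Gen.i)) lc_i_rc_54_0 lc_i_rc_54_0 lc_i_rc_54_0 lc_i_rc_54_0 lc_i_rc_41_3 lc_i_rc_54_0 lc_i_rc_54_0 lc_i_rc_26_1 lc_i_rc_54_0 lc_i_rc_41_3 lc_i_rc_54_0 lc_i_rc_46_1 lc_i_rc_41_3 lc_i_rc_54_0 lc_i_rc_41_3 lc_i_rc_41_3 lc_i_rc_54_0 lc_i_rc_54_0 lc_i_rc_18_1 lc_i_rc_54_0 lc_i_rc_26_1 lc_i_rc_33_1 lc_i_rc_54_0 lc_i_rc_41_3 lc_i_rc_33_1 lc_i_rc_33_1 lc_i_rc_33_1 lc_i_rc_26_1 lc_i_rc_33_1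 lc_i_rc_9_1 lc_i_rc_18_1 lc_i_rc_39_1 lc_i_rc_41_3 lc_i_rc_39_1 lc_i_rc_54_0 lc_i_rc_41_3 lc_i_rc_46_1 lc_i_rc_18_1 lc_i_rc_26_1 lc_i_rc_18_1 lc_i_rc_54_0 lc_i_Cert_tree lc_i_Cert_tree lc_i_rc_54_0 lc_i_Cert_tree lc_i_rc_54_0 lc_i_rc_54_0 lc_i_rc_41_3 lc_i_Cert_tree lc_i_Cert_tree lc_i_rc_54_0) (@D3.rec (fun _ => (Cert rels S Gen.i)) lc_i_Cert_tree lc_i_rc_54_0 lc_i_Cert_tree lc_i_Cert_tree lc_i_rc_54_0 lc_i_rc_54_0 lc_i_rc_54_0 lc_i_rc_41_3 lc_i_Cert_tree lc_i_Cert_tree lc_i_rc_54_0 lc_i_Cert_tree lc_i_Cert_tree lc_i_rc_54_0 lc_i_rc_54_0 lc_i_rc_54_0 lc_i_Cert_tree lc_i_rc_54_0 lc_i_rc_41_3 lc_i_rc_54_0 lc_i_rc_26_1 lc_i_rc_41_3 lc_i_rc_54_0 lc_i_rc_41_3 lc_i_rc_33_1 lc_i_rc_54_0 lc_i_rc_54_0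 lc_i_rc_33_1 lc_i_rc_9_1 lc_i_rc_9_1 lc_i_Cert_tree lc_i_rc_54_0 lc_i_Cert_tree lc_i_rc_54_0 lc_i_Cert_tree lc_i_Cert_tree lc_i_rc_54_0 lc_i_rc_54_0 lc_i_Cert_tree lc_i_rc_54_0 lc_i_Cert_tree lc_i_rc_54_0 lc_i_rc_41_3 lc_i_rc_54_0 lc_i_rc_54_0 lc_i_rc_26_1 lc_i_Cert_tree lc_i_rc_54_0 lc_i_rc_41_3 lc_i_Cert_tree lc_i_rc_54_0) (@D3.rec (fun _ => (Cert rels S Gen.i)) lc_i_Cert_tree lc_i_rc_54_0 lc_i_Cert_tree lc_i_Cert_tree lc_i_rc_54_0 lc_i_Cert_tree lc_i_rc_54_0 lc_i_rc_46_1 lc_i_rc_41_3 lc_i_rc_54_0 lc_i_rc_41_3 lc_i_Cert_tree lc_i_rc_54_0 lc_i_rc_41_3 lc_i_rc_54_0 lc_i_rc_54_0 lc_i_rc_18_1 lc_i_Cert_tree lc_i_rc_54_0 lc_i_rc_26_1 lc_i_rc_33_1 lc_i_rc_54_0 lc_i_rc_41_3 lc_i_rc_33_1 lc_i_rc_54_0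 lc_i_rc_46_1 lc_i_rc_33_1 lc_i_rc_50_1 lc_i_rc_33_1 lc_i_rc_26_1 lc_i_rc_54_0 lc_i_rc_18_1 lc_i_rc_54_0 lc_i_Cert_tree lc_i_rc_54_0 lc_i_rc_26_1 lc_i_rc_39_1 lc_i_rc_18_1 lc_i_rc_33_1 lc_i_rc_18_1 lc_i_rc_39_1 lc_i_rc_54_0 lc_i_rc_54_0 lc_i_rc_18_1 lc_i_rc_9_1 lc_i_Cert_tree lc_i_rc_54_0 lc_i_rc_54_0 lc_i_rc_54_0 lc_i_rc_41_3 lc_i_Cert_tree) (@D3.rec (fun _ => (Cert rels S Gen.i)) lc_i_rc_54_0 lc_i_Cert_tree lc_i_Cert_tree lc_i_rc_54_0 lc_i_rc_54_0 lc_i_Cert_tree lc_i_rc_54_0 lc_i_rc_41_3 lc_i_rc_54_0 lc_i_rc_41_3 lc_i_Cert_tree lc_i_Cert_tree lc_i_rc_54_0 lc_i_Cert_tree lc_i_rc_54_0 lc_i_Cert_tree lc_i_Cert_tree lc_i_rc_54_0 lc_i_Cert_tree lc_i_rc_54_0 lc_i_Cert_tree lc_i_Cert_tree lc_i_rc_54_0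 lc_i_Cert_tree lc_i_rc_54_0 lc_i_rc_41_3 lc_i_rc_54_0 lc_i_rc_54_0 lc_i_rc_26_1 lc_i_rc_41_3 lc_i_Cert_tree lc_i_rc_54_0 lc_i_Cert_tree lc_i_Cert_tree lc_i_rc_54_0 lc_i_Cert_tree lc_i_Cert_tree lc_i_rc_54_0 lc_i_Cert_tree lc_i_rc_54_0 lc_i_rc_46_1 lc_i_rc_54_0 lc_i_Cert_tree lc_i_rc_54_0 lc_i_rc_41_3 lc_i_Cert_tree lc_i_rc_54_0 lc_i_Cert_tree lc_i_rc_54_0 lc_i_rc_41_3 lc_i_rc_54_0) (@D3.rec (fun _ => (Cert rels S Gen.i)) lc_i_rc_41_3 lc_i_rc_54_0 lc_i_rc_54_0 lc_i_rc_18_1 lc_i_rc_26_1 lc_i_rc_33_1 lc_i_rc_33_1 lc_i_Cert_tree lc_i_rc_54_0 lc_i_rc_41_3 lc_i_rc_46_1 lc_i_rc_33_1 lc_i_rc_26_1 lc_i_Cert_tree lc_i_rc_54_0 lc_i_rc_54_0 lc_i_rc_9_1 lc_i_rc_54_0 lc_i_rc_26_1 lc_i_rc_9_1 lc_i_rc_54_0 lc_i_rc_26_1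 lc_i_rc_54_0 lc_i_rc_18_1 lc_i_rc_33_1 lc_i_rc_9_1 lc_i_rc_18_1 lc_i_rc_39_1 lc_i_Cert_tree lc_i_rc_54_0 lc_i_Cert_tree lc_i_Cert_tree lc_i_rc_54_0 lc_i_Cert_tree lc_i_rc_54_0 lc_i_Cert_tree lc_i_Cert_tree lc_i_rc_54_0 lc_i_Cert_tree lc_i_Cert_tree lc_i_rc_54_0 lc_i_Cert_tree lc_i_rc_54_0 lc_i_rc_46_1 lc_i_rc_54_0 lc_i_Cert_tree lc_i_rc_54_0 lc_i_rc_41_3 lc_i_rc_54_0 lc_i_Cert_tree lc_i_rc_54_0) (@D3.rec (fun _ => (Cert rels S Gen.i)) lc_i_rc_41_3 lc_i_Cert_tree lc_i_rc_54_0 lc_i_rc_41_3 lc_i_rc_18_1 lc_i_rc_26_1 lc_i_rc_33_1 lc_i_rc_54_0 lc_i_rc_41_3 lc_i_rc_33_1 lc_i_Cert_tree lc_i_rc_54_0 lc_i_Cert_tree lc_i_rc_54_0 lc_i_Cert_tree lc_i_rc_54_0 lc_i_rc_46_1 lc_i_Cert_tree lc_i_Cert_tree lc_i_rc_54_0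 lc_i_Cert_tree lc_i_Cert_tree lc_i_rc_54_0 lc_i_rc_46_1 lc_i_Cert_tree lc_i_rc_54_0 lc_i_rc_39_1 lc_i_Cert_tree lc_i_rc_54_0 lc_i_rc_41_3 lc_i_rc_54_0 lc_i_rc_41_3 lc_i_rc_54_0 lc_i_Cert_tree lc_i_rc_54_0 lc_i_rc_18_1 lc_i_Cert_tree lc_i_rc_54_0 lc_i_rc_41_3 lc_i_rc_33_1 lc_i_Cert_tree lc_i_rc_54_0 lc_i_rc_46_1 lc_i_rc_33_1 lc_i_rc_41_3 lc_i_rc_41_3 lc_i_rc_18_1 lc_i_rc_54_0 lc_i_rc_41_3 lc_i_rc_33_1 lc_i_rc_39_1) (@D3.rec (fun _ => (Cert rels S Gen.i)) lc_i_rc_54_0 lc_i_rc_41_3 lc_i_rc_33_1 lc_i_rc_26_1 lc_i_rc_46_1 lc_i_rc_33_1 lc_i_rc_54_0 lc_i_rc_50_1 lc_i_rc_33_1 lc_i_rc_26_1 lc_i_rc_33_1 lc_i_rc_26_1 lc_i_rc_18_1 lc_i_Cert_tree lc_i_rc_54_0 lc_i_rc_26_1 lc_i_rc_53_1 lc_i_Cert_tree lc_i_rc_54_0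 lc_i_Cert_tree lc_i_rc_54_0 lc_i_rc_18_1 lc_i_Cert_tree lc_i_rc_54_0 lc_i_rc_26_1 lc_i_rc_33_1 lc_i_rc_33_1 lc_i_rc_33_1 lc_i_rc_9_1 lc_i_rc_18_1 lc_i_rc_39_1 lc_i_rc_54_0 lc_i_rc_9_1 lc_i_rc_18_1 lc_i_rc_54_0 lc_i_rc_46_1 lc_i_rc_50_1 lc_i_rc_33_1 lc_i_Cert_tree lc_i_rc_54_0 lc_i_Cert_tree lc_i_Cert_tree lc_i_rc_54_0 lc_i_Cert_tree lc_i_rc_54_0 lc_i_rc_54_0 lc_i_rc_18_1 lc_i_rc_26_1 lc_i_Cert_tree lc_i_rc_54_0 lc_i_Cert_tree) (@D3.rec (fun _ => (Cert rels S Gen.i)) lc_i_rc_54_0 lc_i_Cert_tree lc_i_rc_54_0 lc_i_rc_26_1 lc_i_rc_54_0 lc_i_rc_26_1 lc_i_rc_54_0 lc_i_rc_26_1 lc_i_rc_33_1 lc_i_rc_41_3 lc_i_rc_46_1 lc_i_rc_33_1 lc_i_Cert_tree lc_i_rc_54_0 lc_i_Cert_tree lc_i_Cert_tree lc_i_rc_54_0 lc_i_Cert_tree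 lc_i_rc_54_0 lc_i_Cert_tree lc_i_rc_54_0 lc_i_Cert_tree lc_i_rc_54_0 lc_i_rc_46_1 lc_i_Cert_tree lc_i_rc_54_0 lc_i_rc_41_3 lc_i_rc_54_0 lc_i_rc_41_3 lc_i_rc_33_1 lc_i_Cert_tree lc_i_Cert_tree lc_i_rc_54_0 lc_i_Cert_tree lc_i_rc_54_0 lc_i_Cert_tree lc_i_rc_54_0 lc_i_rc_46_1 lc_i_Cert_tree lc_i_rc_54_0 lc_i_Cert_tree lc_i_Cert_tree lc_i_rc_54_0 lc_i_rc_26_1 lc_i_Cert_tree lc_i_rc_54_0 lc_i_rc_39_1 lc_i_rc_26_1 lc_i_rc_54_0 lc_i_rc_41_3 lc_i_rc_9_1) (@D3.rec (fun _ => (Cert rels S Gen.i)) lc_i_rc_54_0 lc_i_rc_9_1 lc_i_Cert_tree lc_i_rc_54_0 lc_i_rc_46_1 lc_i_rc_33_1 lc_i_rc_54_0 lc_i_rc_18_3 lc_i_rc_33_1 lc_i_rc_33_1 lc_i_rc_54_0 lc_i_rc_46_1 lc_i_rc_33_1 lc_i_rc_54_0 lc_i_rc_50_1 lc_i_rc_33_1 lc_i_rc_26_1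 lc_i_rc_53_1 lc_i_rc_33_1 lc_i_rc_54_0 lc_i_rc_54_0 lc_i_Cert_tree lc_i_rc_54_0 lc_i_Cert_tree lc_i_rc_54_0 lc_i_rc_54_0 lc_i_rc_41_3 lc_i_Cert_tree lc_i_rc_54_0 lc_i_Cert_tree lc_i_Cert_tree lc_i_rc_54_0 lc_i_Cert_tree lc_i_rc_54_0 lc_i_rc_54_0 lc_i_rc_46_1 lc_i_rc_54_0 lc_i_rc_41_3 lc_i_rc_18_1 lc_i_rc_18_1 lc_i_Cert_tree lc_i_rc_54_0 lc_i_Cert_tree lc_i_Cert_tree lc_i_rc_54_0 lc_i_Cert_tree lc_i_rc_54_0 lc_i_Cert_tree lc_i_rc_54_0 lc_i_Cert_tree lc_i_rc_54_0) (@D3.rec (fun _ => (Cert rels S Gen.i)) lc_i_rc_46_1 lc_i_Cert_tree lc_i_rc_54_0 lc_i_rc_41_3 lc_i_rc_54_0 lc_i_rc_41_3 lc_i_rc_33_1 lc_i_Cert_tree lc_i_Cert_tree lc_i_rc_54_0 lc_i_Cert_tree lc_i_rc_54_0 lc_i_Cert_tree lc_i_rc_54_0 lc_i_rc_46_1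 lc_i_Cert_tree lc_i_rc_54_0 lc_i_Cert_tree lc_i_Cert_tree lc_i_rc_54_0 lc_i_rc_18_3 lc_i_rc_54_0 lc_i_rc_39_1 lc_i_Cert_tree lc_i_rc_54_0 lc_i_rc_33_1 lc_i_Cert_tree lc_i_rc_54_0 lc_i_rc_41_3 lc_i_rc_9_1 lc_i_rc_54_0 lc_i_rc_18_1 lc_i_rc_46_1 lc_i_rc_33_1 lc_i_rc_18_1 lc_i_rc_26_1 lc_i_rc_54_0 lc_i_rc_46_1 lc_i_rc_33_1 lc_i_rc_33_1 lc_i_rc_26_1 lc_i_Cert_tree lc_i_rc_54_0 lc_i_rc_54_0 lc_i_Cert_tree lc_i_rc_54_0 lc_i_Cert_tree lc_i_rc_54_0 lc_i_Cert_tree lc_i_rc_54_0 lc_i_Cert_tree) (@D3.rec (fun _ => (Cert rels S Gen.i)) lc_i_rc_54_0 lc_i_Cert_tree lc_i_rc_54_0 lc_i_Cert_tree lc_i_Cert_tree lc_i_rc_54_0 lc_i_Cert_tree lc_i_Cert_tree lc_i_rc_54_0 lc_i_Cert_tree lc_i_rc_54_0 lc_i_rc_41_3 lc_i_Cert_tree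 lc_i_Cert_tree lc_i_rc_54_0 lc_i_Cert_tree lc_i_Cert_tree lc_i_rc_54_0 lc_i_Cert_tree lc_i_rc_54_0 lc_i_rc_46_1 lc_i_Cert_tree lc_i_rc_54_0 lc_i_Cert_tree lc_i_Cert_tree lc_i_rc_54_0 lc_i_rc_46_1 lc_i_Cert_tree lc_i_rc_54_0 lc_i_rc_39_1 lc_i_rc_54_0 lc_i_Cert_tree lc_i_rc_54_0 lc_i_rc_41_3 lc_i_Cert_tree lc_i_rc_54_0 lc_i_rc_41_3 lc_i_rc_18_1 lc_i_Cert_tree lc_i_rc_54_0 lc_i_rc_41_3 lc_i_Cert_tree lc_i_rc_54_0 lc_i_rc_46_1 lc_i_rc_33_1 lc_i_Cert_tree lc_i_rc_54_0 lc_i_rc_41_3 lc_i_rc_33_1 lc_i_rc_54_0 lc_i_rc_41_3) (@D3.rec (fun _ => (Cert rels S Gen.i)) lc_i_rc_33_1 lc_i_rc_26_1 lc_i_Cert_tree lc_i_Cert_tree lc_i_rc_54_0 lc_i_Cert_tree lc_i_rc_54_0 lc_i_rc_50_1 lc_i_Cert_tree lc_i_Cert_tree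 lc_i_rc_54_0 lc_i_Cert_tree lc_i_Cert_tree lc_i_rc_54_0 lc_i_rc_46_1 lc_i_Cert_tree lc_i_rc_54_0 lc_i_rc_39_1 lc_i_Cert_tree lc_i_rc_54_0 lc_i_Cert_tree lc_i_Cert_tree lc_i_rc_54_0 lc_i_rc_18_1 lc_i_Cert_tree lc_i_Cert_tree lc_i_rc_54_0 lc_i_Cert_tree lc_i_rc_54_0 lc_i_rc_39_1 lc_i_rc_18_3 lc_i_Cert_tree lc_i_rc_54_0 lc_i_rc_39_1 lc_i_rc_33_1 lc_i_rc_54_0 lc_i_Cert_tree lc_i_rc_54_0 lc_i_rc_18_1 lc_i_Cert_tree lc_i_rc_54_0 lc_i_rc_41_3 lc_i_rc_18_3 lc_i_Cert_tree lc_i_rc_54_0 lc_i_rc_46_1 lc_i_rc_33_1 lc_i_rc_9_1 lc_i_Cert_tree lc_i_rc_54_0 lc_i_rc_50_1) (@D3.rec (fun _ => (Cert rels S Gen.i)) lc_i_rc_9_3 lc_i_Cert_tree lc_i_rc_54_0 lc_i_rc_46_1 lc_i_rc_33_1 lc_i_rc_9_1 lc_i_rc_54_0 lc_i_rc_46_1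 lc_i_rc_33_1 lc_i_rc_26_1 lc_i_Cert_tree lc_i_rc_54_0 lc_i_rc_41_3 lc_i_rc_33_1 lc_i_rc_54_0 lc_i_rc_41_3 lc_i_rc_18_1 lc_i_rc_9_3 lc_i_rc_9_1 lc_i_rc_41_3 lc_i_rc_33_1 lc_i_rc_26_1 lc_i_rc_18_1 lc_i_rc_54_0 lc_i_rc_50_1 lc_i_rc_33_1 lc_i_rc_26_1 lc_i_rc_53_1 lc_i_rc_33_1 lc_i_rc_26_1 lc_i_rc_39_1 lc_i_rc_18_1 lc_i_rc_33_1 lc_i_rc_26_1 lc_i_rc_9_1 lc_i_rc_54_0 lc_i_Cert_tree lc_i_rc_54_0 lc_i_rc_50_1 lc_i_rc_54_0 lc_i_rc_50_3 lc_i_Cert_tree lc_i_rc_54_0 lc_i_rc_33_1 lc_i_rc_54_0 lc_i_rc_9_1 lc_i_rc_54_0 lc_i_rc_18_1 lc_i_rc_54_0 lc_i_rc_41_3 lc_i_rc_33_1) (@D3.rec (fun _ => (Cert rels S Gen.i)) lc_i_rc_39_1 lc_i_rc_26_1 lc_i_rc_9_1 lc_i_rc_18_1 lc_i_rc_39_1 lc_i_rc_46_1 lc_i_rc_54_0 lc_i_rc_41_3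 lc_i_rc_54_0 lc_i_rc_41_3 lc_i_rc_54_0 lc_i_Cert_tree lc_i_rc_54_0 lc_i_rc_41_3 lc_i_Cert_tree lc_i_Cert_tree lc_i_rc_54_0 lc_i_Cert_tree lc_i_rc_54_0 lc_i_rc_26_1 lc_i_rc_41_3 lc_i_rc_54_0 lc_i_rc_54_0 lc_i_Cert_tree lc_i_rc_54_0 lc_i_Cert_tree lc_i_rc_54_0 lc_i_rc_54_0 lc_i_rc_54_0 lc_i_rc_39_1 lc_i_rc_18_1 lc_i_rc_41_3 lc_i_rc_33_1 lc_i_rc_26_1 lc_i_rc_33_1 lc_i_rc_46_1 lc_i_rc_41_3 lc_i_rc_41_3 lc_i_rc_18_3 lc_i_rc_26_3 lc_i_rc_9_1 lc_i_rc_54_0 lc_i_rc_41_3 lc_i_rc_54_0 lc_i_rc_41_3 lc_i_rc_26_3 lc_i_Cert_tree lc_i_rc_54_0 lc_i_rc_41_3 lc_i_rc_26_1 lc_i_rc_54_0)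
def ce_i_14 : D2 → D3 → (Cert rels S Gen.i) := @D2.rec (fun _ => D3 → (Cert rels S Gen.i)) (@D3.rec (fun _ => (Cert rels S Gen.i)) lc_i_rc_46_1 lc_i_rc_26_1 lc_i_Cert_tree lc_i_rc_54_0 lc_i_rc_39_3 lc_i_Cert_tree lc_i_rc_54_0 lc_i_rc_9_3 lc_i_rc_54_0 lc_i_rc_26_1 lc_i_rc_54_0 lc_i_rc_46_1 lc_i_rc_54_0 lc_i_rc_41_3 lc_i_Cert_tree lc_i_rc_54_0 lc_i_Cert_tree lc_i_rc_54_0 lc_i_rc_54_0 lc_i_rc_26_3 lc_i_Cert_tree lc_i_rc_54_0 lc_i_Cert_tree lc_i_Cert_tree lc_i_rc_54_0 lc_i_rc_9_1 lc_i_Cert_tree lc_i_rc_54_0 lc_i_rc_39_1 lc_i_rc_54_0 lc_i_rc_9_1 lc_i_Cert_tree lc_i_rc_54_0 lc_i_rc_50_1 lc_i_Cert_tree lc_i_rc_54_0 lc_i_rc_39_1 lc_i_rc_33_1 lc_i_rc_54_0 lc_i_rc_41_3 lc_i_rc_41_3 lc_i_rc_54_0 lc_i_rc_41_3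 lc_i_rc_33_1 lc_i_rc_54_0 lc_i_rc_41_3 lc_i_rc_54_0 lc_i_rc_9_1 lc_i_rc_18_1 lc_i_Cert_tree lc_i_Cert_tree) (@D3.rec (fun _ => (Cert rels S Gen.i)) lc_i_rc_54_0 lc_i_Cert_tree lc_i_rc_54_0 lc_i_rc_54_0 lc_i_rc_46_1 lc_i_rc_41_3 lc_i_rc_54_0 lc_i_rc_46_1 lc_i_Cert_tree lc_i_Cert_tree lc_i_rc_54_0 lc_i_rc_54_0 lc_i_rc_9_3 lc_i_rc_39_1 lc_i_Cert_tree lc_i_rc_54_0 lc_i_rc_9_3 lc_i_rc_54_0 lc_i_rc_26_1 lc_i_rc_9_3 lc_i_rc_41_3 lc_i_rc_26_1 lc_i_rc_54_0 lc_i_rc_18_1 lc_i_rc_33_1 lc_i_rc_54_0 lc_i_rc_18_1 lc_i_rc_33_1 lc_i_rc_9_1 lc_i_rc_18_1 lc_i_rc_39_1 lc_i_rc_9_1 lc_i_rc_18_1 lc_i_rc_9_1 lc_i_Cert_tree lc_i_rc_54_0 lc_i_rc_54_0 lc_i_rc_9_3 lc_i_rc_9_3 lc_i_Cert_tree lc_i_rc_54_0 lc_i_rc_54_0 lc_i_rc_46_1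 lc_i_rc_54_0 lc_i_rc_41_3 lc_i_rc_41_3 lc_i_rc_33_1 lc_i_Cert_tree lc_i_Cert_tree lc_i_rc_54_0 lc_i_Cert_tree) (@D3.rec (fun _ => (Cert rels S Gen.i)) lc_i_Cert_tree lc_i_rc_54_0 lc_i_Cert_tree lc_i_rc_54_0 lc_i_rc_9_3 lc_i_Cert_tree lc_i_rc_54_0 lc_i_Cert_tree lc_i_Cert_tree lc_i_rc_54_0 lc_i_rc_46_1 lc_i_rc_54_0 lc_i_rc_39_1 lc_i_rc_54_0 lc_i_Cert_tree lc_i_rc_54_0 lc_i_rc_41_3 lc_i_rc_54_0 lc_i_rc_41_3 lc_i_rc_9_1 lc_i_rc_54_0 lc_i_rc_18_1 lc_i_rc_33_1 lc_i_rc_9_3 lc_i_rc_18_1 lc_i_rc_26_1 lc_i_rc_26_1 lc_i_Cert_tree lc_i_rc_54_0 lc_i_rc_9_1 lc_i_rc_54_0 lc_i_Cert_tree lc_i_rc_54_0 lc_i_rc_9_1 lc_i_rc_9_1 lc_i_rc_54_0 lc_i_Cert_tree lc_i_rc_54_0 lc_i_rc_18_1 lc_i_rc_54_0 lc_i_rc_9_1 lc_i_rc_9_1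 lc_i_rc_54_0 lc_i_rc_18_1 lc_i_rc_9_1 lc_i_rc_50_1 lc_i_rc_18_1 lc_i_rc_9_1 lc_i_rc_18_1 lc_i_Cert_tree lc_i_Cert_tree) (@D3.rec (fun _ => (Cert rels S Gen.i)) lc_i_rc_54_0 lc_i_rc_54_0 lc_i_rc_41_3 lc_i_Cert_tree lc_i_Cert_tree lc_i_rc_54_0 lc_i_Cert_tree lc_i_Cert_tree lc_i_rc_54_0 lc_i_rc_54_0 lc_i_rc_46_1 lc_i_Cert_tree lc_i_rc_54_0 lc_i_Cert_tree lc_i_Cert_tree lc_i_rc_54_0 lc_i_rc_46_1 lc_i_Cert_tree lc_i_rc_54_0 lc_i_rc_39_1 lc_i_rc_54_0 lc_i_rc_41_3 lc_i_Cert_tree lc_i_rc_54_0 lc_i_rc_18_1 lc_i_rc_54_0 lc_i_rc_41_3 lc_i_rc_33_1 lc_i_rc_54_0 lc_i_rc_46_1 lc_i_rc_18_1 lc_i_rc_18_1 lc_i_rc_54_0 lc_i_rc_41_3 lc_i_Cert_tree lc_i_rc_54_0 lc_i_Cert_tree lc_i_rc_54_0 lc_i_rc_50_1 lc_i_Cert_tree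 lc_i_rc_54_0 lc_i_Cert_tree lc_i_Cert_tree lc_i_rc_54_0 lc_i_rc_46_1 lc_i_rc_54_0 lc_i_rc_39_1 lc_i_Cert_tree lc_i_rc_54_0 lc_i_Cert_tree lc_i_Cert_tree) (@D3.rec (fun _ => (Cert rels S Gen.i)) lc_i_rc_54_0 lc_i_rc_18_1 lc_i_Cert_tree lc_i_Cert_tree lc_i_rc_54_0 lc_i_Cert_tree lc_i_rc_54_0 lc_i_rc_39_1 lc_i_rc_33_1 lc_i_Cert_tree lc_i_rc_54_0 lc_i_rc_39_1 lc_i_rc_33_1 lc_i_Cert_tree lc_i_rc_54_0 lc_i_Cert_tree lc_i_rc_54_0 lc_i_rc_18_1 lc_i_rc_54_0 lc_i_rc_26_1 lc_i_rc_33_1 lc_i_rc_41_3 lc_i_Cert_tree lc_i_rc_54_0 lc_i_rc_50_1 lc_i_Cert_tree lc_i_rc_54_0 lc_i_rc_18_1 lc_i_rc_33_1 lc_i_Cert_tree lc_i_rc_54_0 lc_i_rc_46_1 lc_i_rc_33_1 lc_i_rc_9_3 lc_i_rc_54_0 lc_i_rc_46_1 lc_i_rc_41_3 lc_i_Cert_tree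 lc_i_rc_54_0 lc_i_rc_41_3 lc_i_rc_46_1 lc_i_rc_54_0 lc_i_rc_50_1 lc_i_Cert_tree lc_i_rc_41_3 lc_i_rc_26_1 lc_i_rc_18_1 lc_i_Cert_tree lc_i_rc_54_0 lc_i_rc_39_1 lc_i_rc_33_1) (@D3.rec (fun _ => (Cert rels S Gen.i)) lc_i_rc_9_1 lc_i_Cert_tree lc_i_rc_54_0 lc_i_rc_18_1 lc_i_rc_18_1 lc_i_rc_54_0 lc_i_rc_41_3 lc_i_rc_33_1 lc_i_rc_39_1 lc_i_rc_53_1 lc_i_rc_18_1 lc_i_rc_39_1 lc_i_rc_46_1 lc_i_rc_41_3 lc_i_rc_41_3 lc_i_rc_41_3 lc_i_rc_18_1 lc_i_rc_9_1 lc_i_rc_26_1 lc_i_rc_46_3 lc_i_rc_33_1 lc_i_rc_39_1 lc_i_rc_26_1 lc_i_rc_18_1 lc_i_rc_33_1 lc_i_rc_39_1 lc_i_rc_18_1 lc_i_rc_33_1 lc_i_rc_46_1 lc_i_rc_26_1 lc_i_rc_41_3 lc_i_rc_26_3 lc_i_rc_41_3 lc_i_rc_18_1 lc_i_rc_18_1 lc_i_rc_18_1 lc_i_rc_26_1 lc_i_rc_39_1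 lc_i_rc_33_1 lc_i_rc_18_1 lc_i_rc_9_1 lc_i_rc_18_1 lc_i_rc_46_1 lc_i_Cert_tree lc_i_rc_54_0 lc_i_rc_41_3 lc_i_Cert_tree lc_i_rc_54_0 lc_i_Cert_tree lc_i_rc_54_0 lc_i_rc_54_0) (@D3.rec (fun _ => (Cert rels S Gen.i)) lc_i_rc_46_1 lc_i_rc_33_1 lc_i_rc_50_1 lc_i_rc_33_1 lc_i_rc_54_0 lc_i_rc_9_1 lc_i_rc_18_1 lc_i_rc_9_1 lc_i_rc_18_1 lc_i_rc_9_1 lc_i_Cert_tree lc_i_rc_54_0 lc_i_rc_54_0 lc_i_rc_46_1 lc_i_rc_41_3 lc_i_rc_18_1 lc_i_rc_33_1 lc_i_rc_54_0 lc_i_rc_46_1 lc_i_Cert_tree lc_i_Cert_tree lc_i_rc_54_0 lc_i_rc_46_1 lc_i_rc_54_0 lc_i_rc_39_1 lc_i_rc_54_0 lc_i_rc_50_1 lc_i_rc_33_1 lc_i_rc_33_3 lc_i_rc_18_1 lc_i_rc_18_1 lc_i_rc_18_1 lc_i_rc_26_1 lc_i_rc_39_1 lc_i_Cert_tree lc_i_rc_54_0 lc_i_rc_39_1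 lc_i_rc_33_1 lc_i_rc_39_1 lc_i_rc_46_1 lc_i_Cert_tree lc_i_rc_54_0 lc_i_rc_54_0 lc_i_rc_46_1 lc_i_rc_41_3 lc_i_rc_18_1 lc_i_rc_33_1 lc_i_Cert_tree lc_i_rc_54_0 lc_i_rc_54_0 lc_i_rc_26_3) (@D3.rec (fun _ => (Cert rels S Gen.i)) lc_i_rc_54_0 lc_i_rc_46_1 lc_i_rc_39_1 lc_i_rc_33_1 lc_i_rc_41_3 lc_i_rc_18_1 lc_i_rc_26_3 lc_i_rc_9_1 lc_i_rc_33_1 lc_i_rc_39_1 lc_i_Cert_tree lc_i_rc_54_0 lc_i_Cert_tree lc_i_rc_54_0 lc_i_rc_46_1 lc_i_rc_39_1 lc_i_rc_18_1 lc_i_rc_33_1 lc_i_rc_18_1 lc_i_rc_18_1 lc_i_rc_39_1 lc_i_Cert_tree lc_i_rc_54_0 lc_i_Cert_tree lc_i_rc_54_0 lc_i_rc_41_3 lc_i_Cert_tree lc_i_rc_54_0 lc_i_rc_54_0 lc_i_rc_41_3 lc_i_rc_41_3 lc_i_Cert_tree lc_i_rc_54_0 lc_i_Cert_tree lc_i_Cert_tree lc_i_rc_54_0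 lc_i_rc_18_1 lc_i_Cert_tree lc_i_rc_54_0 lc_i_Cert_tree lc_i_rc_54_0 lc_i_rc_39_1 lc_i_rc_33_1 lc_i_Cert_tree lc_i_rc_54_0 lc_i_rc_39_1 lc_i_rc_33_1 lc_i_rc_26_3 lc_i_rc_39_3 lc_i_rc_50_1 lc_i_rc_54_0) (@D3.rec (fun _ => (Cert rels S Gen.i)) lc_i_rc_18_1 lc_i_rc_33_1 lc_i_rc_54_0 lc_i_rc_9_3 lc_i_rc_26_1 lc_i_rc_39_1 lc_i_rc_54_0 lc_i_rc_33_1 lc_i_rc_41_3 lc_i_rc_33_1 lc_i_rc_41_3 lc_i_rc_9_3 lc_i_rc_9_3 lc_i_rc_18_1 lc_i_rc_18_1 lc_i_rc_26_1 lc_i_rc_33_1 lc_i_rc_26_1 lc_i_rc_18_1 lc_i_rc_33_1 lc_i_rc_9_1 lc_i_rc_54_0 lc_i_rc_18_1 lc_i_rc_18_1 lc_i_rc_54_0 lc_i_rc_41_3 lc_i_rc_33_1 lc_i_rc_39_1 lc_i_rc_18_1 lc_i_rc_9_1 lc_i_rc_26_1 lc_i_rc_18_1 lc_i_rc_46_1 lc_i_rc_50_1 lc_i_rc_9_1 lc_i_rc_9_1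 lc_i_Cert_tree lc_i_rc_54_0 lc_i_rc_54_0 lc_i_rc_26_1 lc_i_rc_39_1 lc_i_rc_54_0 lc_i_rc_18_1 lc_i_Cert_tree lc_i_rc_54_0 lc_i_rc_54_0 lc_i_rc_46_1 lc_i_rc_54_0 lc_i_rc_39_1 lc_i_rc_41_3 lc_i_rc_46_1) (@D3.rec (fun _ => (Cert rels S Gen.i)) lc_i_Cert_tree lc_i_rc_54_0 lc_i_Cert_tree lc_i_rc_54_0 lc_i_rc_50_1 lc_i_Cert_tree lc_i_rc_54_0 lc_i_Cert_tree lc_i_Cert_tree lc_i_rc_54_0 lc_i_rc_26_1 lc_i_Cert_tree lc_i_rc_54_0 lc_i_rc_39_1 lc_i_Cert_tree lc_i_Cert_tree lc_i_rc_54_0 lc_i_rc_18_1 lc_i_Cert_tree lc_i_rc_54_0 lc_i_rc_54_0 lc_i_rc_39_1 lc_i_rc_39_1 lc_i_rc_33_1 lc_i_Cert_tree lc_i_rc_54_0 lc_i_rc_18_1 lc_i_rc_54_0 lc_i_rc_26_1 lc_i_rc_54_0 lc_i_rc_18_3 lc_i_rc_54_0 lc_i_rc_9_1 lc_i_rc_26_1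 lc_i_rc_33_1 lc_i_rc_26_1 lc_i_rc_54_0 lc_i_rc_54_0 lc_i_rc_9_3 lc_i_Cert_tree lc_i_rc_54_0 lc_i_rc_54_0 lc_i_rc_46_1 lc_i_rc_54_0 lc_i_rc_46_1 lc_i_rc_39_1 lc_i_Cert_tree lc_i_rc_54_0 lc_i_Cert_tree lc_i_rc_54_0 lc_i_rc_9_3) (@D3.rec (fun _ => (Cert rels S Gen.i)) lc_i_Cert_tree lc_i_rc_54_0 lc_i_rc_54_0 lc_i_rc_33_1 lc_i_rc_39_1 lc_i_Cert_tree lc_i_rc_54_0 lc_i_Cert_tree lc_i_rc_54_0 lc_i_rc_9_3 lc_i_Cert_tree lc_i_rc_54_0 lc_i_rc_39_1 lc_i_rc_33_1 lc_i_rc_54_0 lc_i_rc_9_3 lc_i_rc_50_1 lc_i_rc_54_0 lc_i_rc_54_0 lc_i_rc_41_3 lc_i_Cert_tree lc_i_Cert_tree lc_i_rc_54_0 lc_i_Cert_tree lc_i_rc_54_0 lc_i_rc_9_3 lc_i_rc_41_3 lc_i_Cert_tree lc_i_rc_54_0 lc_i_Cert_tree lc_i_rc_54_0 lc_i_rc_50_1 lc_i_Cert_tree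 lc_i_rc_54_0 lc_i_Cert_tree lc_i_rc_54_0 lc_i_rc_46_1 lc_i_rc_39_1 lc_i_Cert_tree lc_i_rc_54_0 lc_i_Cert_tree lc_i_Cert_tree lc_i_rc_54_0 lc_i_rc_18_1 lc_i_Cert_tree lc_i_Cert_tree lc_i_rc_54_0 lc_i_Cert_tree lc_i_rc_54_0 lc_i_rc_39_1 lc_i_Cert_tree) (@D3.rec (fun _ => (Cert rels S Gen.i)) lc_i_rc_54_0 lc_i_rc_39_1 lc_i_rc_33_1 lc_i_rc_54_0 lc_i_rc_54_0 lc_i_rc_18_1 lc_i_rc_41_3 lc_i_rc_9_1 lc_i_rc_54_0 lc_i_rc_18_1 lc_i_Cert_tree lc_i_rc_54_0 lc_i_rc_46_1 lc_i_rc_33_1 lc_i_rc_54_0 lc_i_rc_46_1 lc_i_rc_18_1 lc_i_rc_54_0 lc_i_rc_41_3 lc_i_rc_33_1 lc_i_rc_41_3 lc_i_Cert_tree lc_i_rc_54_0 lc_i_rc_50_1 lc_i_Cert_tree lc_i_rc_54_0 lc_i_rc_39_1 lc_i_Cert_tree lc_i_rc_54_0 lc_i_rc_18_1 lc_i_rc_54_0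 lc_i_rc_54_0 lc_i_rc_39_1 lc_i_rc_33_1 lc_i_Cert_tree lc_i_rc_54_0 lc_i_rc_41_3 lc_i_rc_33_1 lc_i_Cert_tree lc_i_rc_54_0 lc_i_rc_9_1 lc_i_Cert_tree lc_i_rc_54_0 lc_i_Cert_tree lc_i_rc_54_0 lc_i_rc_39_1 lc_i_rc_9_3 lc_i_Cert_tree lc_i_Cert_tree lc_i_rc_54_0 lc_i_rc_54_0) (@D3.rec (fun _ => (Cert rels S Gen.i)) lc_i_rc_41_3 lc_i_Cert_tree lc_i_rc_54_0 lc_i_rc_39_1 lc_i_rc_33_1 lc_i_rc_39_1 lc_i_rc_54_0 lc_i_rc_39_1 lc_i_rc_33_1 lc_i_rc_26_1 lc_i_Cert_tree lc_i_rc_54_0 lc_i_rc_9_1 lc_i_rc_54_0 lc_i_rc_18_1 lc_i_rc_41_3 lc_i_rc_33_1 lc_i_rc_39_1 lc_i_rc_54_0 lc_i_rc_50_1 lc_i_rc_54_0 lc_i_rc_50_1 lc_i_rc_54_0 lc_i_rc_18_1 lc_i_rc_33_1 lc_i_rc_54_0 lc_i_rc_46_1 lc_i_rc_33_1 lc_i_rc_18_3 lc_i_rc_18_3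 lc_i_rc_46_1 lc_i_rc_54_0 lc_i_rc_50_1 lc_i_rc_33_1 lc_i_rc_26_1 lc_i_rc_41_3 lc_i_rc_33_1 lc_i_rc_41_3 lc_i_rc_46_1 lc_i_rc_46_1 lc_i_rc_26_1 lc_i_Cert_tree lc_i_rc_54_0 lc_i_Cert_tree lc_i_rc_54_0 lc_i_rc_26_1 lc_i_rc_41_3 lc_i_rc_54_0 lc_i_Cert_tree lc_i_rc_54_0 lc_i_rc_18_1) (@D3.rec (fun _ => (Cert rels S Gen.i)) lc_i_Cert_tree lc_i_rc_54_0 lc_i_rc_26_1 lc_i_rc_33_1 lc_i_rc_54_0 lc_i_Cert_tree lc_i_rc_54_0 lc_i_rc_54_0 lc_i_rc_41_3 lc_i_rc_50_1 lc_i_rc_46_1 lc_i_rc_41_3 lc_i_rc_18_1 lc_i_rc_41_3 lc_i_rc_33_1 lc_i_rc_18_1 lc_i_rc_50_1 lc_i_rc_9_1 lc_i_rc_9_1 lc_i_rc_26_1 lc_i_rc_9_1 lc_i_rc_18_1 lc_i_rc_39_1 lc_i_rc_39_1 lc_i_rc_9_1 lc_i_rc_41_3 lc_i_rc_41_3 lc_i_rc_39_1 lc_i_rc_33_1 lc_i_rc_54_0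 lc_i_rc_18_1 lc_i_rc_33_1 lc_i_Cert_tree lc_i_rc_54_0 lc_i_rc_54_0 lc_i_rc_41_3 lc_i_rc_41_3 lc_i_rc_33_1 lc_i_rc_50_1 lc_i_rc_33_1 lc_i_rc_26_1 lc_i_rc_39_1 lc_i_rc_39_1 lc_i_rc_26_1 lc_i_rc_18_1 lc_i_rc_33_1 lc_i_rc_9_1 lc_i_rc_18_1 lc_i_rc_33_1 lc_i_rc_26_1 lc_i_rc_33_1) (@D3.rec (fun _ => (Cert rels S Gen.i)) lc_i_rc_39_1 lc_i_rc_33_1 lc_i_rc_9_1 lc_i_rc_33_1 lc_i_rc_18_3 lc_i_rc_26_1 lc_i_rc_26_3 lc_i_rc_33_1 lc_i_rc_18_1 lc_i_rc_9_1 lc_i_rc_54_0 lc_i_rc_50_1 lc_i_rc_53_1 lc_i_rc_39_1 lc_i_rc_9_1 lc_i_rc_9_1 lc_i_rc_18_1 lc_i_rc_26_1 lc_i_rc_54_0 lc_i_rc_41_3 lc_i_rc_54_0 lc_i_rc_18_3 lc_i_rc_54_0 lc_i_rc_26_1 lc_i_rc_41_3 lc_i_rc_33_1 lc_i_rc_41_3 lc_i_rc_41_3 lc_i_rc_41_3 lc_i_rc_54_0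 lc_i_rc_39_1 lc_i_rc_33_1 lc_i_rc_33_1 lc_i_rc_26_1 lc_i_Cert_tree lc_i_rc_54_0 lc_i_Cert_tree lc_i_rc_54_0 lc_i_rc_41_3 lc_i_rc_41_3 lc_i_Cert_tree lc_i_rc_54_0 lc_i_Cert_tree lc_i_rc_54_0 lc_i_Cert_tree lc_i_rc_54_0 lc_i_rc_46_1 lc_i_Cert_tree lc_i_rc_54_0 lc_i_rc_18_3 lc_i_Cert_tree) (@D3.rec (fun _ => (Cert rels S Gen.i)) lc_i_Cert_tree lc_i_rc_54_0 lc_i_Cert_tree lc_i_rc_54_0 lc_i_rc_26_1 lc_i_rc_54_0 lc_i_rc_41_3 lc_i_rc_54_0 lc_i_rc_54_0 lc_i_rc_9_3 lc_i_rc_26_1 lc_i_rc_33_1 lc_i_rc_54_0 lc_i_rc_46_1 lc_i_rc_33_1 lc_i_rc_26_1 lc_i_rc_54_0 lc_i_rc_33_1 lc_i_Cert_tree lc_i_rc_54_0 lc_i_rc_50_1 lc_i_rc_41_3 lc_i_rc_33_1 lc_i_rc_54_0 lc_i_rc_9_3 lc_i_rc_54_0 lc_i_rc_41_3 lc_i_rc_33_1 lc_i_Cert_tree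 lc_i_rc_54_0 lc_i_Cert_tree lc_i_rc_54_0 lc_i_rc_46_1 lc_i_rc_41_3 lc_i_Cert_tree lc_i_rc_54_0 lc_i_rc_41_3 lc_i_rc_54_0 lc_i_rc_41_3 lc_i_rc_33_1 lc_i_rc_54_0 lc_i_rc_46_1 lc_i_rc_54_0 lc_i_rc_9_1 lc_i_Cert_tree lc_i_rc_54_0 lc_i_rc_39_1 lc_i_Cert_tree lc_i_rc_54_0 lc_i_rc_46_1 lc_i_rc_33_1) (@D3.rec (fun _ => (Cert rels S Gen.i)) lc_i_rc_54_0 lc_i_rc_41_3 lc_i_rc_54_0 lc_i_rc_41_3 lc_i_rc_33_1 lc_i_rc_26_1 lc_i_rc_54_0 lc_i_rc_50_1 lc_i_rc_33_1 lc_i_rc_26_1 lc_i_rc_33_1 lc_i_rc_18_1 lc_i_Cert_tree lc_i_rc_54_0 lc_i_Cert_tree lc_i_Cert_tree lc_i_rc_54_0 lc_i_Cert_tree lc_i_rc_54_0 lc_i_Cert_tree lc_i_Cert_tree lc_i_rc_54_0 lc_i_Cert_tree lc_i_rc_54_0 lc_i_Cert_tree lc_i_rc_54_0 lc_i_rc_46_1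 lc_i_rc_54_0 lc_i_Cert_tree lc_i_rc_54_0 lc_i_rc_41_3 lc_i_rc_41_3 lc_i_rc_54_0 lc_i_rc_41_3 lc_i_rc_33_1 lc_i_rc_33_1 lc_i_Cert_tree lc_i_rc_54_0 lc_i_Cert_tree lc_i_rc_54_0 lc_i_Cert_tree lc_i_rc_54_0 lc_i_rc_46_1 lc_i_Cert_tree lc_i_rc_54_0 lc_i_Cert_tree lc_i_Cert_tree lc_i_rc_54_0 lc_i_rc_46_1 lc_i_rc_54_0 lc_i_rc_39_1) (@D3.rec (fun _ => (Cert rels S Gen.i)) lc_i_Cert_tree lc_i_rc_54_0 lc_i_rc_41_3 lc_i_Cert_tree lc_i_rc_54_0 lc_i_rc_41_3 lc_i_rc_18_1 lc_i_rc_54_0 lc_i_rc_9_3 lc_i_rc_33_1 lc_i_rc_46_1 lc_i_rc_33_1 lc_i_rc_26_1 lc_i_rc_18_1 lc_i_rc_39_1 lc_i_rc_26_1 lc_i_rc_54_0 lc_i_rc_46_1 lc_i_rc_33_1 lc_i_rc_33_1 lc_i_rc_26_1 lc_i_rc_18_1 lc_i_rc_26_1 lc_i_Cert_tree lc_i_rc_54_0 lc_i_rc_18_1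 lc_i_Cert_tree lc_i_rc_54_0 lc_i_rc_39_1 lc_i_rc_33_1 lc_i_rc_33_1 lc_i_rc_18_1 lc_i_rc_39_1 lc_i_rc_18_1 lc_i_rc_18_1 lc_i_Cert_tree lc_i_rc_54_0 lc_i_Cert_tree lc_i_rc_54_0 lc_i_rc_54_0 lc_i_rc_41_3 lc_i_Cert_tree lc_i_rc_54_0 lc_i_Cert_tree lc_i_Cert_tree lc_i_rc_54_0 lc_i_Cert_tree lc_i_rc_54_0 lc_i_Cert_tree lc_i_rc_54_0 lc_i_rc_46_1) (@D3.rec (fun _ => (Cert rels S Gen.i)) lc_i_rc_54_0 lc_i_rc_41_3 lc_i_rc_18_1 lc_i_rc_54_0 lc_i_rc_18_3 lc_i_rc_33_1 lc_i_rc_18_3 lc_i_rc_18_1 lc_i_rc_33_1 lc_i_Cert_tree lc_i_rc_54_0 lc_i_Cert_tree lc_i_rc_54_0 lc_i_Cert_tree lc_i_rc_54_0 lc_i_Cert_tree lc_i_rc_54_0 lc_i_rc_46_1 lc_i_rc_41_3 lc_i_rc_41_3 lc_i_rc_54_0 lc_i_rc_41_3 lc_i_rc_33_1 lc_i_rc_33_1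 lc_i_Cert_tree lc_i_rc_54_0 lc_i_rc_54_0 lc_i_rc_46_1 lc_i_rc_54_0 lc_i_rc_46_1 lc_i_Cert_tree lc_i_rc_54_0 lc_i_rc_39_1 lc_i_rc_33_1 lc_i_Cert_tree lc_i_rc_54_0 lc_i_rc_46_1 lc_i_rc_33_1 lc_i_rc_54_0 lc_i_rc_9_3 lc_i_rc_26_3 lc_i_rc_54_0 lc_i_rc_9_1 lc_i_rc_33_1 lc_i_rc_9_1 lc_i_rc_33_1 lc_i_rc_9_1 lc_i_Cert_tree lc_i_Cert_tree lc_i_rc_54_0 lc_i_Cert_tree) (@D3.rec (fun _ => (Cert rels S Gen.i)) lc_i_Cert_tree lc_i_rc_54_0 lc_i_Cert_tree lc_i_rc_54_0 lc_i_rc_50_1 lc_i_Cert_tree lc_i_rc_54_0 lc_i_Cert_tree lc_i_Cert_tree lc_i_rc_54_0 lc_i_Cert_tree lc_i_rc_54_0 lc_i_rc_46_1 lc_i_Cert_tree lc_i_rc_54_0 lc_i_Cert_tree lc_i_Cert_tree lc_i_rc_54_0 lc_i_rc_46_1 lc_i_Cert_tree lc_i_rc_54_0 lc_i_rc_39_1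 lc_i_rc_54_0 lc_i_rc_41_3 lc_i_Cert_tree lc_i_rc_54_0 lc_i_rc_41_3 lc_i_rc_18_1 lc_i_rc_54_0 lc_i_rc_41_3 lc_i_rc_33_1 lc_i_Cert_tree lc_i_rc_54_0 lc_i_rc_46_1 lc_i_rc_33_1 lc_i_rc_18_1 lc_i_rc_39_1 lc_i_rc_54_0 lc_i_rc_41_3 lc_i_rc_33_1 lc_i_rc_26_1 lc_i_Cert_tree lc_i_rc_54_0 lc_i_rc_50_1 lc_i_Cert_tree lc_i_Cert_tree lc_i_rc_54_0 lc_i_rc_54_0 lc_i_rc_46_1 lc_i_Cert_tree lc_i_rc_54_0) (@D3.rec (fun _ => (Cert rels S Gen.i)) lc_i_rc_39_1 lc_i_Cert_tree lc_i_rc_54_0 lc_i_Cert_tree lc_i_Cert_tree lc_i_rc_54_0 lc_i_rc_18_1 lc_i_Cert_tree lc_i_rc_54_0 lc_i_Cert_tree lc_i_rc_54_0 lc_i_rc_39_1 lc_i_rc_33_1 lc_i_Cert_tree lc_i_rc_54_0 lc_i_rc_39_1 lc_i_rc_33_1 lc_i_rc_54_0 lc_i_rc_18_1 lc_i_rc_33_1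 lc_i_Cert_tree lc_i_rc_54_0 lc_i_rc_46_1 lc_i_rc_33_1 lc_i_rc_50_1 lc_i_rc_54_0 lc_i_rc_9_1 lc_i_rc_33_1 lc_i_Cert_tree lc_i_rc_54_0 lc_i_rc_46_1 lc_i_rc_39_1 lc_i_rc_54_0 lc_i_rc_46_1 lc_i_rc_33_1 lc_i_rc_26_1 lc_i_rc_33_1 lc_i_rc_41_3 lc_i_rc_54_0 lc_i_rc_50_1 lc_i_rc_46_1 lc_i_rc_41_3 lc_i_rc_33_1 lc_i_rc_18_1 lc_i_rc_54_0 lc_i_rc_50_1 lc_i_rc_33_1 lc_i_rc_26_1 lc_i_rc_53_1 lc_i_rc_33_1 lc_i_rc_26_1) (@D3.rec (fun _ => (Cert rels S Gen.i)) lc_i_rc_39_1 lc_i_rc_18_1 lc_i_rc_33_1 lc_i_rc_26_1 lc_i_rc_54_0 lc_i_rc_18_1 lc_i_rc_33_1 lc_i_Cert_tree lc_i_rc_54_0 lc_i_rc_9_1 lc_i_Cert_tree lc_i_rc_54_0 lc_i_rc_18_1 lc_i_rc_18_1 lc_i_rc_54_0 lc_i_rc_41_3 lc_i_rc_33_1 lc_i_rc_39_1 lc_i_rc_53_1 lc_i_rc_18_1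 lc_i_rc_39_1 lc_i_rc_18_1 lc_i_rc_46_1 lc_i_rc_50_1 lc_i_rc_9_1 lc_i_rc_18_1 lc_i_rc_9_1 lc_i_rc_54_0 lc_i_rc_33_3 lc_i_rc_54_0 lc_i_rc_54_0 lc_i_rc_54_0 lc_i_rc_41_3 lc_i_rc_54_0 lc_i_rc_41_3 lc_i_rc_26_1 lc_i_rc_41_3 lc_i_rc_33_1 lc_i_rc_9_1 lc_i_rc_41_3 lc_i_rc_54_0 lc_i_rc_26_1 lc_i_rc_54_0 lc_i_rc_41_3 lc_i_rc_18_1 lc_i_rc_41_3 lc_i_rc_18_1 lc_i_rc_33_1 lc_i_rc_41_3 lc_i_rc_33_1 lc_i_rc_33_1) (@D3.rec (fun _ => (Cert rels S Gen.i)) lc_i_rc_26_1 lc_i_rc_18_1 lc_i_rc_39_1 lc_i_rc_41_3 lc_i_rc_26_1 lc_i_rc_54_0 lc_i_rc_41_3 lc_i_rc_54_0 lc_i_rc_54_0 lc_i_rc_41_3 lc_i_rc_54_0 lc_i_rc_54_0 lc_i_rc_26_1 lc_i_rc_41_3 lc_i_rc_33_1 lc_i_rc_41_3 lc_i_rc_41_3 lc_i_rc_54_0 lc_i_rc_18_1 lc_i_rc_18_1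 lc_i_rc_26_1 lc_i_rc_33_1 lc_i_rc_33_1 lc_i_rc_46_1 lc_i_rc_26_1 lc_i_rc_18_1 lc_i_rc_39_1 lc_i_rc_46_1 lc_i_rc_41_3 lc_i_rc_41_3 lc_i_rc_41_3 lc_i_rc_18_1 lc_i_rc_26_1 lc_i_rc_33_1 lc_i_rc_41_3 lc_i_rc_33_1 lc_i_rc_39_1 lc_i_rc_18_3 lc_i_rc_33_1 lc_i_rc_33_1 lc_i_rc_46_1 lc_i_rc_41_3 lc_i_rc_18_1 lc_i_rc_18_1 lc_i_rc_33_1 lc_i_rc_39_1 lc_i_rc_26_1 lc_i_rc_33_1 lc_i_rc_26_1 lc_i_rc_26_1 lc_i_rc_18_1) (@D3.rec (fun _ => (Cert rels S Gen.i)) lc_i_rc_46_1 lc_i_Cert_tree lc_i_rc_54_0 lc_i_Cert_tree lc_i_rc_54_0 lc_i_rc_54_0 lc_i_rc_50_1 lc_i_Cert_tree lc_i_rc_54_0 lc_i_Cert_tree lc_i_Cert_tree lc_i_rc_54_0 lc_i_rc_54_0 lc_i_rc_54_0 lc_i_Cert_tree lc_i_rc_54_0 lc_i_rc_41_3 lc_i_rc_26_1 lc_i_rc_41_3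 lc_i_Cert_tree lc_i_rc_54_0 lc_i_Cert_tree lc_i_rc_54_0 lc_i_Cert_tree lc_i_rc_54_0 lc_i_Cert_tree lc_i_rc_54_0 lc_i_rc_46_1 lc_i_rc_41_3 lc_i_rc_41_3 lc_i_rc_54_0 lc_i_rc_41_3 lc_i_rc_41_3 lc_i_rc_33_1 lc_i_rc_33_1 lc_i_rc_46_1 lc_i_rc_33_1 lc_i_rc_9_1 lc_i_rc_9_1 lc_i_Cert_tree lc_i_Cert_tree lc_i_rc_54_0 lc_i_Cert_tree lc_i_rc_54_0 lc_i_Cert_tree lc_i_Cert_tree lc_i_rc_54_0 lc_i_Cert_tree lc_i_rc_54_0 lc_i_rc_46_1 lc_i_rc_41_3) (@D3.rec (fun _ => (Cert rels S Gen.i)) lc_i_rc_54_0 lc_i_rc_41_3 lc_i_Cert_tree lc_i_rc_54_0 lc_i_rc_41_3 lc_i_rc_18_1 lc_i_rc_26_1 lc_i_rc_33_1 lc_i_rc_54_0 lc_i_rc_41_3 lc_i_rc_33_1 lc_i_Cert_tree lc_i_rc_54_0 lc_i_rc_54_0 lc_i_rc_46_1 lc_i_Cert_tree lc_i_rc_54_0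 lc_i_Cert_tree lc_i_rc_54_0 lc_i_rc_46_1 lc_i_Cert_tree lc_i_rc_54_0 lc_i_rc_39_1 lc_i_rc_18_1 lc_i_rc_33_1 lc_i_rc_54_0 lc_i_rc_46_1 lc_i_rc_33_1 lc_i_rc_41_3 lc_i_rc_41_3 lc_i_rc_18_1 lc_i_rc_54_0 lc_i_rc_41_3 lc_i_rc_39_1 lc_i_rc_41_3 lc_i_rc_33_1 lc_i_rc_26_1 lc_i_rc_50_1 lc_i_rc_33_1 lc_i_rc_26_1 lc_i_rc_33_1 lc_i_rc_18_1 lc_i_rc_54_0 lc_i_rc_39_1 lc_i_rc_33_1 lc_i_rc_18_1 lc_i_rc_39_1 lc_i_rc_9_1 lc_i_Cert_tree lc_i_rc_54_0 lc_i_rc_41_3) (@D3.rec (fun _ => (Cert rels S Gen.i)) lc_i_Cert_tree lc_i_rc_54_0 lc_i_Cert_tree lc_i_Cert_tree lc_i_rc_54_0 lc_i_rc_54_0 lc_i_rc_46_1 lc_i_rc_18_3 lc_i_rc_54_0 lc_i_rc_50_1 lc_i_rc_41_3 lc_i_rc_33_1 lc_i_Cert_tree lc_i_rc_54_0 lc_i_Cert_tree lc_i_Cert_tree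 lc_i_rc_54_0 lc_i_Cert_tree lc_i_Cert_tree lc_i_rc_54_0 lc_i_Cert_tree lc_i_Cert_tree lc_i_rc_54_0 lc_i_Cert_tree lc_i_rc_54_0 lc_i_rc_46_1 lc_i_rc_54_0 lc_i_rc_41_3 lc_i_rc_54_0 lc_i_Cert_tree lc_i_rc_54_0 lc_i_rc_41_3 lc_i_rc_54_0 lc_i_rc_41_3 lc_i_rc_18_1 lc_i_rc_26_1 lc_i_rc_33_1 lc_i_rc_33_1 lc_i_Cert_tree lc_i_rc_54_0 lc_i_Cert_tree lc_i_rc_54_0 lc_i_Cert_tree lc_i_rc_54_0 lc_i_rc_46_1 lc_i_Cert_tree lc_i_Cert_tree lc_i_rc_54_0 lc_i_Cert_tree lc_i_rc_54_0 lc_i_rc_46_1) (@D3.rec (fun _ => (Cert rels S Gen.i)) lc_i_rc_54_0 lc_i_rc_39_1 lc_i_rc_41_3 lc_i_rc_54_0 lc_i_rc_18_1 lc_i_rc_54_0 lc_i_rc_18_1 lc_i_rc_54_0 lc_i_rc_41_3 lc_i_rc_33_1 lc_i_rc_46_1 lc_i_rc_33_1 lc_i_rc_18_1 lc_i_rc_18_1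 lc_i_rc_18_1 lc_i_rc_33_1 lc_i_rc_39_1 lc_i_rc_26_1 lc_i_rc_54_0 lc_i_rc_46_1 lc_i_rc_33_1 lc_i_rc_26_1 lc_i_rc_54_0 lc_i_rc_26_1 lc_i_rc_9_1 lc_i_rc_18_1 lc_i_rc_33_1 lc_i_rc_9_1 lc_i_rc_18_1 lc_i_rc_39_1 lc_i_rc_26_1 lc_i_rc_18_1 lc_i_Cert_tree lc_i_Cert_tree lc_i_rc_54_0 lc_i_Cert_tree lc_i_Cert_tree lc_i_rc_54_0 lc_i_Cert_tree lc_i_rc_54_0 lc_i_rc_41_3 lc_i_Cert_tree lc_i_rc_54_0 lc_i_Cert_tree lc_i_rc_54_0 lc_i_Cert_tree lc_i_rc_54_0 lc_i_rc_46_1 lc_i_Cert_tree lc_i_rc_54_0 lc_i_Cert_tree)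
def ce_i_15 : D2 → D3 → (Cert rels S Gen.i) := @D2.rec (fun _ => D3 → (Cert rels S Gen.i)) (@D3.rec (fun _ => (Cert rels S Gen.i)) lc_i_Cert_tree lc_i_rc_54_0 lc_i_rc_46_1 lc_i_Cert_tree lc_i_rc_54_0 lc_i_rc_39_1 lc_i_rc_41_3 lc_i_rc_54_0 lc_i_rc_41_3 lc_i_rc_18_1 lc_i_rc_54_0 lc_i_rc_41_3 lc_i_rc_33_1 lc_i_rc_54_0 lc_i_rc_46_1 lc_i_rc_33_1 lc_i_rc_18_1 lc_i_rc_33_1 lc_i_rc_39_1 lc_i_rc_41_3 lc_i_rc_33_1 lc_i_rc_26_1 lc_i_Cert_tree lc_i_rc_54_0 lc_i_rc_50_1 lc_i_Cert_tree lc_i_Cert_tree lc_i_rc_54_0 lc_i_rc_46_1 lc_i_rc_54_0 lc_i_rc_39_1 lc_i_Cert_tree lc_i_rc_54_0 lc_i_Cert_tree lc_i_Cert_tree lc_i_rc_54_0 lc_i_rc_18_1 lc_i_Cert_tree lc_i_Cert_tree lc_i_rc_54_0 lc_i_Cert_tree lc_i_rc_54_0 lc_i_rc_39_1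 lc_i_rc_33_1 lc_i_Cert_tree lc_i_rc_54_0 lc_i_rc_39_1 lc_i_rc_33_1 lc_i_rc_54_0 lc_i_rc_26_1 lc_i_rc_33_1) (@D3.rec (fun _ => (Cert rels S Gen.i)) lc_i_rc_46_1 lc_i_rc_33_1 lc_i_rc_50_1 lc_i_rc_54_0 lc_i_rc_50_1 lc_i_rc_33_1 lc_i_rc_54_0 lc_i_rc_46_1 lc_i_rc_33_1 lc_i_rc_39_1 lc_i_rc_54_0 lc_i_rc_46_1 lc_i_rc_33_1 lc_i_rc_26_1 lc_i_rc_33_1 lc_i_rc_18_1 lc_i_rc_18_1 lc_i_rc_18_1 lc_i_rc_39_1 lc_i_rc_26_1 lc_i_rc_39_1 lc_i_rc_18_3 lc_i_rc_33_1 lc_i_rc_33_1 lc_i_rc_33_1 lc_i_rc_26_1 lc_i_rc_39_1 lc_i_rc_18_1 lc_i_rc_26_1 lc_i_Cert_tree lc_i_rc_54_0 lc_i_rc_26_1 lc_i_rc_33_1 lc_i_Cert_tree lc_i_rc_54_0 lc_i_rc_9_1 lc_i_Cert_tree lc_i_rc_54_0 lc_i_rc_18_1 lc_i_rc_18_1 lc_i_rc_54_0 lc_i_rc_41_3 lc_i_rc_33_1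 lc_i_rc_39_1 lc_i_rc_26_1 lc_i_rc_46_1 lc_i_rc_9_1 lc_i_rc_50_1 lc_i_Cert_tree lc_i_rc_54_0 lc_i_Cert_tree) (@D3.rec (fun _ => (Cert rels S Gen.i)) lc_i_rc_54_0 lc_i_rc_54_0 lc_i_rc_18_1 lc_i_rc_54_0 lc_i_rc_18_1 lc_i_rc_26_1 lc_i_rc_26_1 lc_i_Cert_tree lc_i_rc_54_0 lc_i_rc_54_0 lc_i_rc_26_1 lc_i_rc_54_0 lc_i_rc_39_1 lc_i_rc_26_1 lc_i_rc_26_1 lc_i_rc_33_1 lc_i_rc_33_1 lc_i_rc_33_1 lc_i_Cert_tree lc_i_rc_54_0 lc_i_Cert_tree lc_i_rc_54_0 lc_i_Cert_tree lc_i_rc_54_0 lc_i_rc_41_3 lc_i_Cert_tree lc_i_rc_54_0 lc_i_Cert_tree lc_i_rc_54_0 lc_i_rc_46_1 lc_i_rc_54_0 lc_i_rc_39_1 lc_i_rc_54_0 lc_i_rc_41_3 lc_i_rc_46_1 lc_i_rc_33_1 lc_i_Cert_tree lc_i_rc_54_0 lc_i_Cert_tree lc_i_rc_54_0 lc_i_rc_50_1 lc_i_rc_54_0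 lc_i_rc_26_1 lc_i_rc_54_0 lc_i_rc_39_1 lc_i_rc_54_0 lc_i_rc_9_1 lc_i_rc_54_0 lc_i_rc_54_0 lc_i_rc_39_1 lc_i_Cert_tree) (@D3.rec (fun _ => (Cert rels S Gen.i)) lc_i_rc_54_0 lc_i_rc_39_1 lc_i_rc_33_1 lc_i_rc_46_1 lc_i_rc_33_1 lc_i_rc_9_1 lc_i_rc_54_0 lc_i_rc_18_3 lc_i_rc_33_1 lc_i_rc_33_1 lc_i_rc_18_3 lc_i_rc_33_1 lc_i_rc_50_1 lc_i_rc_33_1 lc_i_rc_53_1 lc_i_rc_33_1 lc_i_rc_26_1 lc_i_rc_39_1 lc_i_rc_33_1 lc_i_rc_18_1 lc_i_Cert_tree lc_i_rc_54_0 lc_i_rc_54_0 lc_i_rc_46_1 lc_i_rc_41_3 lc_i_Cert_tree lc_i_rc_54_0 lc_i_Cert_tree lc_i_rc_54_0 lc_i_rc_54_0 lc_i_rc_46_1 lc_i_Cert_tree lc_i_rc_54_0 lc_i_rc_18_1 lc_i_rc_39_1 lc_i_rc_41_3 lc_i_rc_18_1 lc_i_Cert_tree lc_i_rc_54_0 lc_i_Cert_tree lc_i_rc_54_0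 lc_i_Cert_tree lc_i_rc_54_0 lc_i_rc_9_1 lc_i_Cert_tree lc_i_rc_54_0 lc_i_Cert_tree lc_i_rc_54_0 lc_i_rc_46_1 lc_i_rc_54_0 lc_i_rc_39_1) (@D3.rec (fun _ => (Cert rels S Gen.i)) lc_i_Cert_tree lc_i_rc_54_0 lc_i_rc_41_3 lc_i_rc_46_1 lc_i_rc_33_1 lc_i_rc_26_1 lc_i_Cert_tree lc_i_rc_54_0 lc_i_Cert_tree lc_i_rc_54_0 lc_i_rc_50_1 lc_i_Cert_tree lc_i_Cert_tree lc_i_rc_54_0 lc_i_rc_33_1 lc_i_Cert_tree lc_i_rc_54_0 lc_i_rc_39_1 lc_i_Cert_tree lc_i_rc_54_0 lc_i_rc_9_1 lc_i_Cert_tree lc_i_Cert_tree lc_i_rc_54_0 lc_i_rc_54_0 lc_i_rc_39_1 lc_i_rc_39_1 lc_i_rc_33_1 lc_i_Cert_tree lc_i_rc_54_0 lc_i_rc_39_1 lc_i_rc_54_0 lc_i_rc_46_1 lc_i_rc_33_1 lc_i_rc_18_1 lc_i_rc_18_1 lc_i_rc_33_1 lc_i_rc_26_1 lc_i_rc_26_1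 lc_i_rc_50_1 lc_i_rc_33_1 lc_i_rc_26_1 lc_i_rc_26_1 lc_i_rc_39_1 lc_i_rc_54_0 lc_i_rc_54_0 lc_i_Cert_tree lc_i_rc_54_0 lc_i_Cert_tree lc_i_rc_54_0 lc_i_rc_54_0) (@D3.rec (fun _ => (Cert rels S Gen.i)) lc_i_rc_41_3 lc_i_Cert_tree lc_i_rc_54_0 lc_i_Cert_tree lc_i_Cert_tree lc_i_rc_54_0 lc_i_Cert_tree lc_i_rc_54_0 lc_i_rc_41_3 lc_i_Cert_tree lc_i_Cert_tree lc_i_rc_54_0 lc_i_Cert_tree lc_i_Cert_tree lc_i_rc_54_0 lc_i_rc_26_1 lc_i_Cert_tree lc_i_rc_54_0 lc_i_rc_41_3 lc_i_Cert_tree lc_i_rc_54_0 lc_i_Cert_tree lc_i_rc_54_0 lc_i_rc_50_1 lc_i_Cert_tree lc_i_rc_54_0 lc_i_Cert_tree lc_i_rc_54_0 lc_i_rc_46_1 lc_i_Cert_tree lc_i_rc_54_0 lc_i_rc_39_1 lc_i_Cert_tree lc_i_rc_54_0 lc_i_rc_18_1 lc_i_Cert_tree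 lc_i_Cert_tree lc_i_rc_54_0 lc_i_Cert_tree lc_i_rc_54_0 lc_i_rc_39_1 lc_i_Cert_tree lc_i_rc_54_0 lc_i_rc_39_1 lc_i_rc_33_1 lc_i_rc_18_1 lc_i_Cert_tree lc_i_rc_54_0 lc_i_rc_41_3 lc_i_Cert_tree lc_i_rc_54_0) (@D3.rec (fun _ => (Cert rels S Gen.i)) lc_i_rc_46_1 lc_i_rc_33_1 lc_i_Cert_tree lc_i_rc_54_0 lc_i_rc_46_1 lc_i_rc_33_1 lc_i_rc_54_0 lc_i_rc_46_1 lc_i_rc_33_1 lc_i_rc_26_1 lc_i_rc_54_0 lc_i_rc_41_3 lc_i_rc_41_3 lc_i_rc_33_1 lc_i_rc_26_1 lc_i_rc_18_1 lc_i_Cert_tree lc_i_rc_54_0 lc_i_Cert_tree lc_i_Cert_tree lc_i_rc_54_0 lc_i_rc_50_1 lc_i_Cert_tree lc_i_rc_54_0 lc_i_rc_39_1 lc_i_Cert_tree lc_i_rc_54_0 lc_i_Cert_tree lc_i_Cert_tree lc_i_rc_54_0 lc_i_rc_18_1 lc_i_Cert_tree lc_i_Cert_tree lc_i_rc_54_0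 lc_i_Cert_tree lc_i_rc_54_0 lc_i_rc_39_1 lc_i_rc_33_1 lc_i_Cert_tree lc_i_rc_54_0 lc_i_rc_39_1 lc_i_rc_33_1 lc_i_rc_54_0 lc_i_rc_9_1 lc_i_Cert_tree lc_i_rc_54_0 lc_i_Cert_tree lc_i_rc_54_0 lc_i_rc_39_1 lc_i_rc_9_3 lc_i_Cert_tree) (@D3.rec (fun _ => (Cert rels S Gen.i)) lc_i_Cert_tree lc_i_rc_54_0 lc_i_rc_54_0 lc_i_rc_41_3 lc_i_Cert_tree lc_i_rc_54_0 lc_i_rc_39_1 lc_i_rc_33_1 lc_i_rc_39_1 lc_i_rc_54_0 lc_i_rc_39_1 lc_i_rc_33_1 lc_i_rc_26_1 lc_i_rc_41_3 lc_i_rc_54_0 lc_i_rc_53_1 lc_i_rc_9_3 lc_i_Cert_tree lc_i_rc_54_0 lc_i_rc_46_1 lc_i_rc_33_1 lc_i_rc_9_1 lc_i_rc_54_0 lc_i_rc_50_1 lc_i_rc_33_1 lc_i_rc_26_1 lc_i_Cert_tree lc_i_rc_54_0 lc_i_rc_9_1 lc_i_rc_33_1 lc_i_rc_54_0 lc_i_rc_46_1 lc_i_rc_33_1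 lc_i_rc_9_3 lc_i_rc_9_1 lc_i_rc_26_1 lc_i_rc_46_1 lc_i_rc_33_1 lc_i_rc_26_1 lc_i_rc_39_1 lc_i_rc_18_1 lc_i_rc_54_0 lc_i_rc_50_1 lc_i_rc_41_3 lc_i_rc_18_1 lc_i_rc_33_3 lc_i_rc_33_1 lc_i_rc_26_1 lc_i_rc_18_3 lc_i_rc_53_1 lc_i_rc_33_1) (@D3.rec (fun _ => (Cert rels S Gen.i)) lc_i_rc_26_1 lc_i_rc_39_1 lc_i_rc_18_1 lc_i_rc_33_1 lc_i_rc_26_1 lc_i_rc_39_1 lc_i_rc_18_1 lc_i_rc_26_1 lc_i_rc_9_1 lc_i_rc_26_1 lc_i_rc_54_0 lc_i_rc_50_1 lc_i_rc_54_0 lc_i_rc_41_3 lc_i_rc_39_1 lc_i_rc_9_1 lc_i_rc_18_1 lc_i_rc_41_3 lc_i_rc_33_1 lc_i_rc_26_1 lc_i_rc_33_1 lc_i_rc_46_1 lc_i_rc_26_1 lc_i_rc_54_0 lc_i_rc_26_1 lc_i_rc_54_0 lc_i_rc_54_0 lc_i_rc_18_1 lc_i_rc_54_0 lc_i_rc_26_1 lc_i_rc_33_1 lc_i_rc_54_0 lc_i_rc_54_0 lc_i_rc_41_3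 lc_i_rc_33_1 lc_i_rc_26_1 lc_i_rc_39_1 lc_i_rc_26_1 lc_i_rc_33_1 lc_i_rc_41_3 lc_i_rc_46_1 lc_i_rc_33_1 lc_i_rc_54_0 lc_i_rc_46_1 lc_i_rc_39_1 lc_i_rc_54_0 lc_i_rc_46_1 lc_i_rc_54_0 lc_i_rc_39_1 lc_i_rc_26_1 lc_i_rc_39_1) (@D3.rec (fun _ => (Cert rels S Gen.i)) lc_i_rc_41_3 lc_i_rc_54_0 lc_i_rc_33_1 lc_i_rc_54_0 lc_i_rc_9_1 lc_i_rc_39_1 lc_i_Cert_tree lc_i_rc_54_0 lc_i_rc_9_1 lc_i_Cert_tree lc_i_rc_54_0 lc_i_Cert_tree lc_i_rc_54_0 lc_i_rc_39_1 lc_i_rc_54_0 lc_i_rc_41_3 lc_i_rc_33_1 lc_i_rc_18_1 lc_i_rc_54_0 lc_i_rc_26_1 lc_i_rc_54_0 lc_i_rc_41_3 lc_i_rc_39_1 lc_i_rc_41_3 lc_i_rc_33_1 lc_i_rc_50_1 lc_i_rc_26_1 lc_i_rc_26_1 lc_i_rc_26_3 lc_i_Cert_tree lc_i_rc_54_0 lc_i_rc_54_0 lc_i_rc_9_1 lc_i_rc_54_0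 lc_i_rc_46_1 lc_i_rc_39_1 lc_i_rc_39_1 lc_i_Cert_tree lc_i_rc_54_0 lc_i_rc_54_0 lc_i_rc_26_1 lc_i_rc_39_1 lc_i_rc_9_3 lc_i_rc_33_1 lc_i_rc_54_0 lc_i_rc_26_1 lc_i_rc_9_3 lc_i_rc_50_1 lc_i_rc_26_1 lc_i_rc_9_1 lc_i_rc_18_1) (@D3.rec (fun _ => (Cert rels S Gen.i)) lc_i_rc_39_1 lc_i_rc_9_1 lc_i_rc_18_1 lc_i_rc_39_1 lc_i_rc_46_1 lc_i_rc_54_0 lc_i_rc_18_1 lc_i_rc_39_1 lc_i_Cert_tree lc_i_rc_54_0 lc_i_rc_46_1 lc_i_rc_39_1 lc_i_rc_41_3 lc_i_rc_33_1 lc_i_Cert_tree lc_i_Cert_tree lc_i_rc_54_0 lc_i_Cert_tree lc_i_rc_54_0 lc_i_rc_9_3 lc_i_Cert_tree lc_i_rc_54_0 lc_i_Cert_tree lc_i_Cert_tree lc_i_rc_54_0 lc_i_rc_9_3 lc_i_rc_54_0 lc_i_rc_9_3 lc_i_Cert_tree lc_i_rc_54_0 lc_i_rc_26_1 lc_i_Cert_tree lc_i_rc_54_0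 lc_i_rc_54_0 lc_i_rc_39_1 lc_i_rc_33_1 lc_i_rc_39_1 lc_i_rc_33_1 lc_i_rc_9_1 lc_i_rc_54_0 lc_i_rc_18_1 lc_i_rc_33_1 lc_i_rc_46_1 lc_i_rc_18_1 lc_i_rc_26_1 lc_i_rc_26_1 lc_i_rc_26_1 lc_i_rc_18_1 lc_i_rc_54_0 lc_i_rc_9_1 lc_i_rc_18_1) (@D3.rec (fun _ => (Cert rels S Gen.i)) lc_i_rc_54_0 lc_i_rc_9_1 lc_i_rc_9_1 lc_i_rc_9_1 lc_i_rc_54_0 lc_i_rc_18_1 lc_i_rc_18_1 lc_i_rc_9_3 lc_i_rc_33_1 lc_i_rc_9_1 lc_i_rc_53_1 lc_i_rc_18_1 lc_i_rc_9_1 lc_i_rc_18_1 lc_i_rc_9_1 lc_i_Cert_tree lc_i_Cert_tree lc_i_rc_54_0 lc_i_Cert_tree lc_i_rc_54_0 lc_i_rc_41_3 lc_i_rc_41_3 lc_i_Cert_tree lc_i_rc_54_0 lc_i_rc_54_0 lc_i_rc_50_1 lc_i_Cert_tree lc_i_rc_54_0 lc_i_Cert_tree lc_i_rc_54_0 lc_i_rc_46_1 lc_i_rc_39_1 lc_i_Cert_tree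 lc_i_Cert_tree lc_i_rc_54_0 lc_i_rc_18_1 lc_i_Cert_tree lc_i_Cert_tree lc_i_rc_54_0 lc_i_rc_54_0 lc_i_rc_39_1 lc_i_rc_33_1 lc_i_rc_54_0 lc_i_rc_39_1 lc_i_rc_33_1 lc_i_rc_18_1 lc_i_rc_33_1 lc_i_rc_54_0 lc_i_rc_18_1 lc_i_rc_33_1 lc_i_rc_46_1) (@D3.rec (fun _ => (Cert rels S Gen.i)) lc_i_rc_46_1 lc_i_rc_41_3 lc_i_Cert_tree lc_i_rc_54_0 lc_i_rc_50_1 lc_i_rc_54_0 lc_i_rc_39_1 lc_i_Cert_tree lc_i_rc_54_0 lc_i_rc_18_1 lc_i_Cert_tree lc_i_Cert_tree lc_i_rc_54_0 lc_i_rc_54_0 lc_i_rc_39_1 lc_i_rc_33_1 lc_i_rc_41_3 lc_i_rc_33_1 lc_i_Cert_tree lc_i_rc_54_0 lc_i_rc_9_1 lc_i_Cert_tree lc_i_Cert_tree lc_i_rc_54_0 lc_i_Cert_tree lc_i_rc_54_0 lc_i_rc_39_1 lc_i_rc_33_1 lc_i_Cert_tree lc_i_Cert_tree lc_i_rc_54_0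 lc_i_rc_54_0 lc_i_rc_41_3 lc_i_Cert_tree lc_i_rc_54_0 lc_i_rc_39_1 lc_i_rc_33_1 lc_i_rc_39_1 lc_i_rc_54_0 lc_i_rc_39_1 lc_i_rc_33_1 lc_i_rc_26_1 lc_i_Cert_tree lc_i_rc_54_0 lc_i_rc_53_1 lc_i_rc_54_0 lc_i_rc_26_3 lc_i_rc_33_1 lc_i_rc_9_3 lc_i_rc_26_1 lc_i_rc_9_3) (@D3.rec (fun _ => (Cert rels S Gen.i)) lc_i_rc_54_0 lc_i_rc_50_1 lc_i_rc_54_0 lc_i_rc_18_1 lc_i_rc_50_1 lc_i_rc_54_0 lc_i_rc_9_1 lc_i_rc_33_1 lc_i_rc_9_3 lc_i_rc_9_3 lc_i_rc_33_1 lc_i_rc_54_0 lc_i_rc_50_1 lc_i_rc_53_1 lc_i_rc_50_1 lc_i_rc_33_1 lc_i_rc_18_1 lc_i_rc_54_0 lc_i_rc_41_3 lc_i_rc_33_1 lc_i_rc_39_1 lc_i_rc_54_0 lc_i_rc_41_3 lc_i_rc_33_1 lc_i_rc_18_1 lc_i_rc_41_3 lc_i_rc_33_1 lc_i_rc_33_1 lc_i_rc_46_1 lc_i_rc_46_1 lc_i_rc_33_1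 lc_i_rc_18_1 lc_i_rc_9_1 lc_i_rc_33_1 lc_i_rc_26_1 lc_i_rc_39_1 lc_i_rc_46_1 lc_i_rc_33_1 lc_i_rc_18_3 lc_i_rc_18_1 lc_i_rc_39_1 lc_i_rc_33_1 lc_i_rc_39_3 lc_i_rc_33_1 lc_i_rc_33_1 lc_i_rc_39_1 lc_i_rc_33_1 lc_i_rc_54_0 lc_i_rc_46_1 lc_i_rc_54_0 lc_i_rc_33_1) (@D3.rec (fun _ => (Cert rels S Gen.i)) lc_i_rc_54_0 lc_i_rc_9_3 lc_i_rc_39_1 lc_i_rc_33_1 lc_i_rc_39_1 lc_i_rc_18_1 lc_i_rc_9_1 lc_i_rc_18_1 lc_i_rc_9_1 lc_i_Cert_tree lc_i_rc_54_0 lc_i_rc_46_1 lc_i_rc_39_1 lc_i_rc_33_1 lc_i_rc_18_1 lc_i_rc_39_1 lc_i_rc_46_1 lc_i_Cert_tree lc_i_Cert_tree lc_i_rc_54_0 lc_i_rc_54_0 lc_i_rc_39_1 lc_i_rc_33_1 lc_i_rc_39_1 lc_i_rc_33_1 lc_i_rc_9_1 lc_i_rc_26_1 lc_i_rc_39_1 lc_i_rc_18_1 lc_i_rc_26_1 lc_i_rc_33_1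 lc_i_rc_54_0 lc_i_rc_41_3 lc_i_rc_33_1 lc_i_rc_39_1 lc_i_rc_46_1 lc_i_rc_50_1 lc_i_Cert_tree lc_i_rc_54_0 lc_i_rc_46_1 lc_i_rc_39_1 lc_i_rc_33_1 lc_i_rc_18_1 lc_i_rc_54_0 lc_i_rc_33_1 lc_i_rc_39_1 lc_i_rc_39_1 lc_i_rc_33_1 lc_i_rc_33_1 lc_i_rc_18_3 lc_i_rc_39_1) (@D3.rec (fun _ => (Cert rels S Gen.i)) lc_i_rc_46_1 lc_i_rc_54_0 lc_i_rc_18_1 lc_i_Cert_tree lc_i_rc_54_0 lc_i_rc_39_1 lc_i_rc_33_1 lc_i_rc_33_1 lc_i_rc_33_1 lc_i_rc_39_1 lc_i_rc_18_1 lc_i_rc_54_0 lc_i_rc_41_3 lc_i_rc_54_0 lc_i_rc_41_3 lc_i_rc_54_0 lc_i_rc_46_1 lc_i_rc_41_3 lc_i_rc_46_1 lc_i_rc_9_3 lc_i_rc_54_0 lc_i_rc_9_1 lc_i_rc_54_0 lc_i_rc_54_0 lc_i_rc_39_1 lc_i_rc_33_1 lc_i_rc_54_0 lc_i_rc_41_3 lc_i_rc_54_0 lc_i_rc_39_1 lc_i_rc_33_1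 lc_i_rc_39_1 lc_i_rc_54_0 lc_i_rc_39_1 lc_i_rc_39_3 lc_i_rc_26_1 lc_i_rc_33_1 lc_i_rc_33_1 lc_i_rc_46_1 lc_i_rc_26_1 lc_i_rc_39_1 lc_i_rc_33_1 lc_i_rc_26_1 lc_i_rc_46_1 lc_i_rc_33_1 lc_i_rc_33_1 lc_i_rc_18_1 lc_i_rc_39_1 lc_i_rc_9_1 lc_i_rc_46_1 lc_i_rc_18_1) (@D3.rec (fun _ => (Cert rels S Gen.i)) lc_i_rc_18_1 lc_i_rc_41_3 lc_i_rc_33_1 lc_i_rc_39_1 lc_i_rc_46_1 lc_i_rc_18_1 lc_i_rc_50_1 lc_i_Cert_tree lc_i_rc_54_0 lc_i_rc_50_1 lc_i_rc_39_1 lc_i_rc_33_1 lc_i_rc_18_1 lc_i_rc_54_0 lc_i_rc_50_1 lc_i_rc_39_1 lc_i_rc_39_1 lc_i_rc_33_1 lc_i_Cert_tree lc_i_rc_54_0 lc_i_rc_50_1 lc_i_Cert_tree lc_i_rc_54_0 lc_i_rc_39_1 lc_i_Cert_tree lc_i_rc_54_0 lc_i_rc_18_1 lc_i_Cert_tree lc_i_rc_54_0 lc_i_rc_54_0 lc_i_rc_39_1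 lc_i_rc_54_0 lc_i_rc_18_3 lc_i_rc_33_1 lc_i_Cert_tree lc_i_rc_54_0 lc_i_rc_54_0 lc_i_rc_18_1 lc_i_rc_54_0 lc_i_rc_9_3 lc_i_rc_39_1 lc_i_rc_33_1 lc_i_rc_33_1 lc_i_rc_26_1 lc_i_rc_54_0 lc_i_rc_9_1 lc_i_rc_9_1 lc_i_rc_33_1 lc_i_rc_9_1 lc_i_rc_9_1 lc_i_rc_26_1) (@D3.rec (fun _ => (Cert rels S Gen.i)) lc_i_rc_33_1 lc_i_rc_18_1 lc_i_rc_9_1 lc_i_rc_54_0 lc_i_rc_53_1 lc_i_rc_9_1 lc_i_rc_39_1 lc_i_rc_33_1 lc_i_rc_54_0 lc_i_rc_50_1 lc_i_rc_54_0 lc_i_rc_9_3 lc_i_rc_54_0 lc_i_rc_33_1 lc_i_rc_39_1 lc_i_rc_33_1 lc_i_rc_54_0 lc_i_rc_18_3 lc_i_rc_54_0 lc_i_rc_39_1 lc_i_rc_54_0 lc_i_rc_41_3 lc_i_rc_33_1 lc_i_rc_26_1 lc_i_rc_53_1 lc_i_rc_46_1 lc_i_rc_41_3 lc_i_Cert_tree lc_i_rc_54_0 lc_i_Cert_tree lc_i_rc_54_0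 lc_i_rc_18_1 lc_i_Cert_tree lc_i_rc_54_0 lc_i_rc_9_3 lc_i_rc_9_3 lc_i_rc_46_1 lc_i_Cert_tree lc_i_rc_54_0 lc_i_rc_50_1 lc_i_rc_54_0 lc_i_rc_39_1 lc_i_rc_54_0 lc_i_rc_18_1 lc_i_rc_54_0 lc_i_rc_39_1 lc_i_rc_33_1 lc_i_rc_54_0 lc_i_rc_9_1 lc_i_Cert_tree lc_i_Cert_tree) (@D3.rec (fun _ => (Cert rels S Gen.i)) lc_i_rc_54_0 lc_i_rc_54_0 lc_i_rc_39_1 lc_i_Cert_tree lc_i_Cert_tree lc_i_rc_54_0 lc_i_rc_54_0 lc_i_rc_41_3 lc_i_Cert_tree lc_i_rc_54_0 lc_i_rc_39_1 lc_i_rc_33_1 lc_i_rc_54_0 lc_i_rc_39_1 lc_i_rc_33_1 lc_i_rc_26_1 lc_i_rc_9_1 lc_i_rc_18_1 lc_i_rc_33_1 lc_i_rc_18_1 lc_i_rc_33_1 lc_i_rc_54_0 lc_i_rc_46_1 lc_i_rc_33_1 lc_i_rc_46_1 lc_i_rc_26_1 lc_i_rc_41_3 lc_i_rc_33_1 lc_i_rc_54_0 lc_i_rc_39_1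 lc_i_rc_54_0 lc_i_rc_46_1 lc_i_rc_33_1 lc_i_rc_54_0 lc_i_rc_39_1 lc_i_rc_9_3 lc_i_rc_41_3 lc_i_rc_33_1 lc_i_rc_39_1 lc_i_rc_54_0 lc_i_rc_50_1 lc_i_rc_53_1 lc_i_rc_26_1 lc_i_rc_54_0 lc_i_rc_9_1 lc_i_Cert_tree lc_i_rc_54_0 lc_i_rc_54_0 lc_i_rc_39_1 lc_i_rc_33_1 lc_i_Cert_tree) (@D3.rec (fun _ => (Cert rels S Gen.i)) lc_i_rc_54_0 lc_i_rc_54_0 lc_i_rc_41_3 lc_i_rc_41_3 lc_i_rc_33_1 lc_i_rc_54_0 lc_i_rc_39_1 lc_i_rc_33_1 lc_i_rc_26_1 lc_i_rc_33_1 lc_i_rc_39_1 lc_i_rc_39_1 lc_i_rc_33_1 lc_i_rc_26_1 lc_i_rc_18_1 lc_i_rc_54_0 lc_i_rc_53_1 lc_i_rc_41_3 lc_i_rc_33_1 lc_i_rc_50_3 lc_i_rc_39_1 lc_i_rc_46_1 lc_i_rc_53_1 lc_i_rc_9_1 lc_i_rc_9_1 lc_i_rc_33_1 lc_i_rc_26_1 lc_i_rc_46_1 lc_i_rc_33_1 lc_i_rc_39_1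 lc_i_rc_18_3 lc_i_rc_53_1 lc_i_rc_33_1 lc_i_rc_33_1 lc_i_rc_50_1 lc_i_rc_33_1 lc_i_rc_54_0 lc_i_rc_18_1 lc_i_rc_54_0 lc_i_rc_26_1 lc_i_rc_9_1 lc_i_rc_54_0 lc_i_rc_18_1 lc_i_rc_18_1 lc_i_rc_54_0 lc_i_rc_41_3 lc_i_rc_33_1 lc_i_rc_39_1 lc_i_rc_41_3 lc_i_rc_54_0 lc_i_rc_41_3) (@D3.rec (fun _ => (Cert rels S Gen.i)) lc_i_rc_41_3 lc_i_rc_33_1 lc_i_rc_33_1 lc_i_rc_39_1 lc_i_rc_46_1 lc_i_rc_18_1 lc_i_rc_33_1 lc_i_rc_54_0 lc_i_rc_41_3 lc_i_rc_41_3 lc_i_rc_33_1 lc_i_rc_33_1 lc_i_rc_33_1 lc_i_rc_26_1 lc_i_rc_39_1 lc_i_rc_18_1 lc_i_rc_26_1 lc_i_rc_46_1 lc_i_rc_39_1 lc_i_rc_33_1 lc_i_rc_26_1 lc_i_rc_39_1 lc_i_rc_39_1 lc_i_rc_39_1 lc_i_rc_18_3 lc_i_rc_33_1 lc_i_rc_26_1 lc_i_rc_53_1 lc_i_rc_41_3 lc_i_rc_18_3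 lc_i_rc_26_1 lc_i_rc_33_1 lc_i_rc_26_1 lc_i_rc_33_1 lc_i_rc_26_3 lc_i_rc_33_1 lc_i_rc_26_1 lc_i_rc_18_1 lc_i_Cert_tree lc_i_rc_54_0 lc_i_rc_46_1 lc_i_rc_54_0 lc_i_rc_41_3 lc_i_rc_33_1 lc_i_Cert_tree lc_i_rc_54_0 lc_i_rc_33_3 lc_i_Cert_tree lc_i_rc_54_0 lc_i_rc_26_1 lc_i_rc_54_0) (@D3.rec (fun _ => (Cert rels S Gen.i)) lc_i_rc_39_1 lc_i_rc_54_0 lc_i_rc_18_3 lc_i_rc_54_0 lc_i_Cert_tree lc_i_rc_54_0 lc_i_rc_26_3 lc_i_rc_54_0 lc_i_rc_18_3 lc_i_rc_46_1 lc_i_rc_33_1 lc_i_rc_41_3 lc_i_rc_41_3 lc_i_rc_26_1 lc_i_rc_33_1 lc_i_rc_26_1 lc_i_rc_54_0 lc_i_rc_9_3 lc_i_rc_33_1 lc_i_rc_39_1 lc_i_rc_50_1 lc_i_rc_54_0 lc_i_rc_46_1 lc_i_rc_54_0 lc_i_rc_39_1 lc_i_rc_54_0 lc_i_rc_46_1 lc_i_rc_33_1 lc_i_rc_41_3 lc_i_rc_33_1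 lc_i_rc_39_1 lc_i_rc_39_1 lc_i_Cert_tree lc_i_rc_54_0 lc_i_rc_39_1 lc_i_rc_33_1 lc_i_rc_54_0 lc_i_rc_46_1 lc_i_rc_33_1 lc_i_rc_26_1 lc_i_rc_50_1 lc_i_rc_9_3 lc_i_rc_33_1 lc_i_rc_18_1 lc_i_rc_33_1 lc_i_rc_26_1 lc_i_rc_39_1 lc_i_rc_18_1 lc_i_Cert_tree lc_i_rc_54_0 lc_i_Cert_tree) (@D3.rec (fun _ => (Cert rels S Gen.i)) lc_i_Cert_tree lc_i_rc_54_0 lc_i_Cert_tree lc_i_rc_54_0 lc_i_rc_9_1 lc_i_Cert_tree lc_i_rc_54_0 lc_i_Cert_tree lc_i_rc_54_0 lc_i_Cert_tree lc_i_rc_54_0 lc_i_rc_46_1 lc_i_Cert_tree lc_i_rc_54_0 lc_i_rc_46_1 lc_i_rc_54_0 lc_i_rc_39_1 lc_i_rc_41_3 lc_i_Cert_tree lc_i_rc_54_0 lc_i_rc_41_3 lc_i_rc_33_1 lc_i_rc_46_1 lc_i_rc_33_1 lc_i_rc_39_1 lc_i_rc_26_1 lc_i_rc_54_0 lc_i_rc_50_1 lc_i_Cert_tree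 lc_i_rc_54_0 lc_i_rc_46_1 lc_i_Cert_tree lc_i_rc_54_0 lc_i_rc_39_1 lc_i_Cert_tree lc_i_rc_54_0 lc_i_rc_18_1 lc_i_Cert_tree lc_i_Cert_tree lc_i_rc_54_0 lc_i_rc_54_0 lc_i_rc_39_1 lc_i_rc_33_1 lc_i_rc_39_1 lc_i_rc_33_1 lc_i_rc_54_0 lc_i_rc_9_3 lc_i_rc_33_1 lc_i_rc_54_0 lc_i_rc_46_1 lc_i_rc_33_1) (@D3.rec (fun _ => (Cert rels S Gen.i)) lc_i_rc_26_1 lc_i_rc_9_3 lc_i_rc_18_1 lc_i_rc_39_1 lc_i_rc_33_1 lc_i_rc_26_1 lc_i_rc_18_1 lc_i_rc_18_1 lc_i_rc_33_1 lc_i_rc_50_1 lc_i_rc_33_1 lc_i_rc_26_1 lc_i_rc_26_1 lc_i_rc_39_1 lc_i_rc_18_1 lc_i_rc_33_1 lc_i_Cert_tree lc_i_rc_54_0 lc_i_rc_18_1 lc_i_rc_18_1 lc_i_rc_54_0 lc_i_rc_41_3 lc_i_rc_33_1 lc_i_rc_39_1 lc_i_rc_39_1 lc_i_rc_46_1 lc_i_Cert_tree lc_i_rc_54_0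 lc_i_rc_54_0 lc_i_rc_46_1 lc_i_rc_41_3 lc_i_Cert_tree lc_i_Cert_tree lc_i_rc_54_0 lc_i_Cert_tree lc_i_rc_54_0 lc_i_rc_54_0 lc_i_rc_46_1 lc_i_Cert_tree lc_i_rc_54_0 lc_i_rc_18_1 lc_i_rc_54_0 lc_i_rc_39_1 lc_i_rc_18_1 lc_i_rc_33_1 lc_i_rc_18_3 lc_i_rc_18_3 lc_i_rc_33_1 lc_i_Cert_tree lc_i_rc_54_0 lc_i_rc_26_1) (@D3.rec (fun _ => (Cert rels S Gen.i)) lc_i_rc_54_0 lc_i_rc_46_1 lc_i_Cert_tree lc_i_rc_54_0 lc_i_rc_46_1 lc_i_rc_54_0 lc_i_rc_39_1 lc_i_rc_33_1 lc_i_rc_46_1 lc_i_rc_33_1 lc_i_Cert_tree lc_i_rc_54_0 lc_i_rc_9_3 lc_i_rc_39_1 lc_i_rc_39_1 lc_i_rc_33_1 lc_i_Cert_tree lc_i_rc_54_0 lc_i_rc_39_1 lc_i_rc_33_1 lc_i_rc_54_0 lc_i_rc_9_3 lc_i_rc_33_1 lc_i_rc_9_3 lc_i_rc_26_3 lc_i_rc_9_1 lc_i_rc_33_1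 lc_i_rc_39_1 lc_i_rc_33_1 lc_i_rc_9_1 lc_i_Cert_tree lc_i_Cert_tree lc_i_rc_54_0 lc_i_Cert_tree lc_i_rc_54_0 lc_i_rc_53_1 lc_i_Cert_tree lc_i_Cert_tree lc_i_rc_54_0 lc_i_Cert_tree lc_i_Cert_tree lc_i_rc_54_0 lc_i_rc_9_1 lc_i_rc_54_0 lc_i_rc_50_1 lc_i_Cert_tree lc_i_rc_54_0 lc_i_rc_50_1 lc_i_Cert_tree lc_i_rc_54_0 lc_i_Cert_tree) (@D3.rec (fun _ => (Cert rels S Gen.i)) lc_i_rc_54_0 lc_i_rc_46_1 lc_i_Cert_tree lc_i_rc_54_0 lc_i_rc_39_1 lc_i_Cert_tree lc_i_rc_54_0 lc_i_rc_18_1 lc_i_Cert_tree lc_i_Cert_tree lc_i_rc_54_0 lc_i_rc_54_0 lc_i_rc_39_1 lc_i_rc_33_1 lc_i_Cert_tree lc_i_rc_54_0 lc_i_rc_39_1 lc_i_rc_33_1 lc_i_rc_18_1 lc_i_rc_33_1 lc_i_rc_54_0 lc_i_rc_46_1 lc_i_rc_33_1 lc_i_rc_33_1 lc_i_rc_46_1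 lc_i_rc_39_1 lc_i_rc_54_0 lc_i_rc_46_1 lc_i_rc_33_1 lc_i_rc_26_1 lc_i_rc_41_3 lc_i_rc_33_1 lc_i_Cert_tree lc_i_rc_54_0 lc_i_rc_39_1 lc_i_Cert_tree lc_i_rc_54_0 lc_i_rc_54_0 lc_i_rc_18_1 lc_i_rc_39_1 lc_i_rc_33_1 lc_i_Cert_tree lc_i_rc_54_0 lc_i_rc_39_1 lc_i_rc_33_1 lc_i_Cert_tree lc_i_rc_54_0 lc_i_rc_9_1 lc_i_Cert_tree lc_i_rc_54_0 lc_i_rc_54_0) (@D3.rec (fun _ => (Cert rels S Gen.i)) lc_i_rc_39_1 lc_i_rc_33_1 lc_i_rc_54_0 lc_i_rc_41_3 lc_i_Cert_tree lc_i_rc_54_0 lc_i_rc_39_1 lc_i_rc_33_1 lc_i_rc_39_1 lc_i_rc_54_0 lc_i_rc_39_1 lc_i_rc_33_1 lc_i_rc_26_1 lc_i_rc_53_1 lc_i_rc_33_1 lc_i_rc_39_1 lc_i_rc_54_0 lc_i_rc_50_1 lc_i_rc_33_1 lc_i_rc_26_1 lc_i_rc_33_1 lc_i_rc_9_1 lc_i_rc_50_1 lc_i_rc_54_0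 lc_i_rc_18_1 lc_i_rc_46_1 lc_i_rc_46_1 lc_i_rc_33_1 lc_i_rc_26_1 lc_i_rc_39_1 lc_i_rc_18_1 lc_i_rc_53_1 lc_i_rc_50_1 lc_i_rc_33_1 lc_i_rc_53_1 lc_i_rc_33_1 lc_i_rc_26_1 lc_i_rc_39_1 lc_i_rc_18_1 lc_i_rc_33_1 lc_i_rc_26_1 lc_i_rc_39_1 lc_i_rc_18_1 lc_i_rc_26_1 lc_i_rc_26_1 lc_i_rc_9_1 lc_i_rc_18_1 lc_i_rc_39_1 lc_i_rc_54_0 lc_i_rc_9_1 lc_i_rc_54_0)
def ce_i_16 : D2 → D3 → (Cert rels S Gen.i) := @D2.rec (fun _ => D3 → (Cert rels S Gen.i)) (@D3.rec (fun _ => (Cert rels S Gen.i)) lc_i_rc_41_3 lc_i_rc_33_1 lc_i_rc_18_1 lc_i_rc_41_3 lc_i_rc_33_1 lc_i_rc_33_1 lc_i_rc_46_1 lc_i_rc_18_1 lc_i_rc_46_1 lc_i_rc_18_1 lc_i_rc_50_1 lc_i_rc_18_3 lc_i_rc_41_3 lc_i_rc_26_1 lc_i_rc_41_3 lc_i_rc_26_3 lc_i_rc_33_1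 lc_i_rc_33_1 lc_i_rc_18_1 lc_i_rc_33_1 lc_i_rc_41_3 lc_i_rc_33_1 lc_i_rc_18_1 lc_i_rc_39_1 lc_i_rc_33_1 lc_i_rc_26_1 lc_i_rc_18_1 lc_i_rc_33_1 lc_i_rc_41_3 lc_i_rc_41_3 lc_i_rc_18_1 lc_i_rc_26_1 lc_i_rc_33_1 lc_i_rc_33_1 lc_i_rc_18_1 lc_i_rc_18_1 lc_i_rc_33_1 lc_i_rc_39_1 lc_i_rc_26_1 lc_i_rc_26_1 lc_i_rc_18_1 lc_i_rc_33_1 lc_i_rc_33_1 lc_i_rc_18_1 lc_i_rc_33_1 lc_i_rc_39_1 lc_i_rc_33_1 lc_i_rc_26_1 lc_i_rc_33_1 lc_i_rc_33_1 lc_i_rc_33_1) (@D3.rec (fun _ => (Cert rels S Gen.i)) lc_i_rc_18_1 lc_i_rc_26_3 lc_i_rc_39_1 lc_i_rc_26_1 lc_i_rc_39_1 lc_i_Cert_tree lc_i_rc_54_0 lc_i_rc_54_0 lc_i_rc_33_3 lc_i_rc_18_3 lc_i_Cert_tree lc_i_rc_54_0 lc_i_Cert_tree lc_i_rc_54_0 lc_i_Cert_tree lc_i_rc_54_0 lc_i_rc_46_1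 lc_i_rc_41_3 lc_i_rc_41_3 lc_i_rc_54_0 lc_i_rc_41_3 lc_i_rc_33_1 lc_i_rc_33_1 lc_i_Cert_tree lc_i_rc_54_0 lc_i_rc_54_0 lc_i_rc_46_1 lc_i_rc_54_0 lc_i_rc_46_1 lc_i_rc_54_0 lc_i_rc_39_1 lc_i_rc_33_1 lc_i_rc_46_1 lc_i_rc_33_1 lc_i_rc_33_1 lc_i_rc_9_1 lc_i_Cert_tree lc_i_rc_54_0 lc_i_Cert_tree lc_i_rc_54_0 lc_i_rc_41_3 lc_i_rc_54_0 lc_i_rc_46_1 lc_i_Cert_tree lc_i_rc_54_0 lc_i_Cert_tree lc_i_rc_54_0 lc_i_rc_46_1 lc_i_Cert_tree lc_i_rc_54_0 lc_i_rc_39_1) (@D3.rec (fun _ => (Cert rels S Gen.i)) lc_i_rc_18_1 lc_i_rc_33_1 lc_i_rc_54_0 lc_i_rc_46_1 lc_i_rc_33_1 lc_i_rc_18_1 lc_i_rc_39_1 lc_i_rc_41_3 lc_i_rc_33_1 lc_i_rc_26_1 lc_i_rc_54_0 lc_i_rc_46_1 lc_i_rc_39_1 lc_i_rc_54_0 lc_i_rc_18_1 lc_i_rc_54_0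 lc_i_rc_39_1 lc_i_rc_33_1 lc_i_rc_54_0 lc_i_rc_39_1 lc_i_rc_33_1 lc_i_rc_33_1 lc_i_rc_39_1 lc_i_rc_46_1 lc_i_rc_33_1 lc_i_rc_26_1 lc_i_rc_18_1 lc_i_rc_33_1 lc_i_rc_33_1 lc_i_rc_26_1 lc_i_rc_39_1 lc_i_rc_18_1 lc_i_rc_9_3 lc_i_rc_33_1 lc_i_rc_39_1 lc_i_rc_46_1 lc_i_rc_54_0 lc_i_rc_46_1 lc_i_rc_54_0 lc_i_rc_26_1 lc_i_Cert_tree lc_i_rc_54_0 lc_i_Cert_tree lc_i_rc_54_0 lc_i_rc_9_1 lc_i_rc_39_1 lc_i_rc_18_1 lc_i_rc_33_1 lc_i_Cert_tree lc_i_rc_54_0 lc_i_Cert_tree) (@D3.rec (fun _ => (Cert rels S Gen.i)) lc_i_rc_54_0 lc_i_Cert_tree lc_i_rc_54_0 lc_i_rc_9_1 lc_i_Cert_tree lc_i_rc_54_0 lc_i_rc_54_0 lc_i_rc_46_1 lc_i_Cert_tree lc_i_rc_54_0 lc_i_Cert_tree lc_i_Cert_tree lc_i_rc_54_0 lc_i_rc_46_1 lc_i_rc_54_0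 lc_i_rc_39_1 lc_i_rc_41_3 lc_i_rc_18_1 lc_i_rc_54_0 lc_i_rc_41_3 lc_i_rc_33_1 lc_i_rc_46_1 lc_i_rc_33_1 lc_i_rc_18_1 lc_i_rc_39_1 lc_i_rc_26_1 lc_i_rc_54_0 lc_i_rc_33_1 lc_i_rc_54_0 lc_i_rc_46_1 lc_i_Cert_tree lc_i_rc_54_0 lc_i_rc_39_1 lc_i_rc_54_0 lc_i_rc_54_0 lc_i_rc_18_1 lc_i_rc_54_0 lc_i_rc_39_1 lc_i_rc_33_1 lc_i_rc_39_1 lc_i_rc_33_1 lc_i_rc_18_1 lc_i_rc_26_1 lc_i_rc_33_1 lc_i_rc_46_1 lc_i_rc_33_1 lc_i_rc_39_1 lc_i_rc_33_1 lc_i_rc_26_1 lc_i_rc_26_1 lc_i_rc_39_1) (@D3.rec (fun _ => (Cert rels S Gen.i)) lc_i_rc_33_1 lc_i_rc_39_1 lc_i_rc_50_1 lc_i_rc_26_1 lc_i_rc_39_1 lc_i_rc_18_1 lc_i_rc_39_1 lc_i_rc_26_1 lc_i_rc_18_1 lc_i_rc_46_1 lc_i_Cert_tree lc_i_rc_54_0 lc_i_Cert_tree lc_i_rc_54_0 lc_i_rc_41_3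 lc_i_Cert_tree lc_i_rc_54_0 lc_i_Cert_tree lc_i_Cert_tree lc_i_rc_54_0 lc_i_rc_26_1 lc_i_rc_54_0 lc_i_rc_41_3 lc_i_rc_54_0 lc_i_rc_50_1 lc_i_Cert_tree lc_i_rc_54_0 lc_i_rc_46_1 lc_i_rc_54_0 lc_i_rc_39_1 lc_i_Cert_tree lc_i_rc_54_0 lc_i_rc_18_1 lc_i_Cert_tree lc_i_rc_54_0 lc_i_rc_54_0 lc_i_rc_39_1 lc_i_rc_33_1 lc_i_rc_54_0 lc_i_rc_39_1 lc_i_rc_33_1 lc_i_rc_33_1 lc_i_rc_46_1 lc_i_rc_33_1 lc_i_rc_33_1 lc_i_rc_46_1 lc_i_rc_33_1 lc_i_rc_39_1 lc_i_rc_46_1 lc_i_rc_33_1 lc_i_rc_26_1) (@D3.rec (fun _ => (Cert rels S Gen.i)) lc_i_rc_18_1 lc_i_rc_33_1 lc_i_rc_54_0 lc_i_rc_39_1 lc_i_Cert_tree lc_i_Cert_tree lc_i_rc_54_0 lc_i_rc_54_0 lc_i_rc_39_1 lc_i_rc_33_1 lc_i_rc_39_1 lc_i_rc_33_1 lc_i_Cert_tree lc_i_rc_54_0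 lc_i_rc_9_1 lc_i_Cert_tree lc_i_Cert_tree lc_i_rc_54_0 lc_i_rc_54_0 lc_i_rc_39_1 lc_i_rc_33_1 lc_i_Cert_tree lc_i_rc_54_0 lc_i_rc_54_0 lc_i_rc_41_3 lc_i_rc_54_0 lc_i_rc_39_1 lc_i_rc_33_1 lc_i_rc_39_1 lc_i_rc_54_0 lc_i_rc_39_1 lc_i_rc_33_1 lc_i_rc_26_1 lc_i_rc_41_3 lc_i_rc_33_1 lc_i_rc_33_1 lc_i_rc_9_1 lc_i_rc_33_1 lc_i_rc_39_1 lc_i_rc_18_1 lc_i_rc_33_1 lc_i_rc_39_1 lc_i_rc_26_1 lc_i_rc_46_1 lc_i_rc_18_3 lc_i_rc_33_1 lc_i_rc_26_1 lc_i_rc_39_1 lc_i_rc_18_1 lc_i_rc_39_1 lc_i_rc_26_3) (@D3.rec (fun _ => (Cert rels S Gen.i)) lc_i_rc_39_1 lc_i_rc_26_1 lc_i_rc_39_1 lc_i_rc_18_1 lc_i_rc_26_1 lc_i_rc_54_0 lc_i_rc_41_3 lc_i_rc_33_1 lc_i_rc_39_1 lc_i_rc_54_0 lc_i_rc_9_1 lc_i_rc_54_0 lc_i_rc_41_3 lc_i_rc_18_1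 lc_i_rc_18_1 lc_i_rc_41_3 lc_i_rc_33_1 lc_i_rc_26_1 lc_i_rc_39_1 lc_i_rc_46_1 lc_i_rc_54_0 lc_i_rc_18_1 lc_i_rc_54_0 lc_i_rc_26_1 lc_i_rc_18_1 lc_i_rc_26_1 lc_i_rc_26_1 lc_i_rc_54_0 lc_i_rc_50_1 lc_i_rc_39_1 lc_i_rc_39_1 lc_i_rc_33_1 lc_i_rc_33_1 lc_i_rc_33_1 lc_i_rc_39_1 lc_i_Cert_tree lc_i_rc_54_0 lc_i_rc_18_1 lc_i_rc_54_0 lc_i_rc_26_1 lc_i_rc_54_0 lc_i_rc_41_3 lc_i_Cert_tree lc_i_rc_54_0 lc_i_rc_50_1 lc_i_rc_54_0 lc_i_rc_39_1 lc_i_rc_39_1 lc_i_rc_33_1 lc_i_rc_46_1 lc_i_rc_33_1) (@D3.rec (fun _ => (Cert rels S Gen.i)) lc_i_rc_33_1 lc_i_rc_54_0 lc_i_rc_50_1 lc_i_rc_54_0 lc_i_rc_39_1 lc_i_rc_39_1 lc_i_rc_39_1 lc_i_rc_33_1 lc_i_rc_39_1 lc_i_rc_18_1 lc_i_rc_39_1 lc_i_rc_33_1 lc_i_rc_54_0 lc_i_rc_39_1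 lc_i_rc_33_1 lc_i_rc_26_1 lc_i_rc_33_1 lc_i_rc_18_3 lc_i_rc_33_1 lc_i_rc_33_1 lc_i_rc_39_1 lc_i_rc_33_1 lc_i_rc_33_1 lc_i_rc_39_1 lc_i_rc_33_1 lc_i_rc_39_1 lc_i_rc_26_1 lc_i_rc_54_0 lc_i_rc_46_1 lc_i_rc_39_1 lc_i_rc_54_0 lc_i_rc_18_3 lc_i_rc_54_0 lc_i_rc_46_1 lc_i_rc_39_1 lc_i_rc_54_0 lc_i_rc_18_1 lc_i_rc_18_1 lc_i_rc_33_1 lc_i_rc_33_1 lc_i_Cert_tree lc_i_rc_54_0 lc_i_rc_9_1 lc_i_Cert_tree lc_i_rc_54_0 lc_i_rc_26_1 lc_i_rc_54_0 lc_i_rc_9_1 lc_i_Cert_tree lc_i_rc_54_0 lc_i_rc_50_1) (@D3.rec (fun _ => (Cert rels S Gen.i)) lc_i_Cert_tree lc_i_rc_54_0 lc_i_rc_39_1 lc_i_rc_39_1 lc_i_rc_33_1 lc_i_rc_54_0 lc_i_rc_46_1 lc_i_rc_33_1 lc_i_rc_33_1 lc_i_rc_26_1 lc_i_Cert_tree lc_i_rc_54_0 lc_i_rc_9_3 lc_i_rc_54_0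 lc_i_rc_39_1 lc_i_Cert_tree lc_i_rc_54_0 lc_i_Cert_tree lc_i_rc_54_0 lc_i_rc_39_1 lc_i_rc_54_0 lc_i_rc_39_1 lc_i_rc_33_1 lc_i_Cert_tree lc_i_rc_54_0 lc_i_rc_9_1 lc_i_Cert_tree lc_i_rc_54_0 lc_i_rc_54_0 lc_i_rc_41_3 lc_i_rc_39_1 lc_i_rc_33_1 lc_i_rc_33_1 lc_i_rc_26_1 lc_i_rc_54_0 lc_i_rc_46_1 lc_i_rc_39_1 lc_i_rc_50_1 lc_i_rc_33_1 lc_i_rc_26_1 lc_i_rc_18_1 lc_i_rc_41_1 lc_i_rc_26_1 lc_i_rc_39_1 lc_i_rc_33_1 lc_i_rc_26_1 lc_i_rc_39_1 lc_i_rc_26_1 lc_i_rc_41_3 lc_i_rc_54_0 lc_i_rc_54_0) (@D3.rec (fun _ => (Cert rels S Gen.i)) lc_i_rc_41_3 lc_i_rc_41_3 lc_i_rc_54_0 lc_i_rc_9_1 lc_i_Cert_tree lc_i_rc_54_0 lc_i_Cert_tree lc_i_rc_54_0 lc_i_rc_26_1 lc_i_Cert_tree lc_i_rc_54_0 lc_i_rc_41_3 lc_i_Cert_tree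 lc_i_rc_54_0 lc_i_Cert_tree lc_i_Cert_tree lc_i_rc_54_0 lc_i_rc_18_1 lc_i_Cert_tree lc_i_Cert_tree lc_i_rc_54_0 lc_i_Cert_tree lc_i_rc_54_0 lc_i_rc_26_1 lc_i_rc_33_1 lc_i_rc_54_0 lc_i_rc_46_1 lc_i_rc_33_1 lc_i_rc_54_0 lc_i_rc_50_1 lc_i_Cert_tree lc_i_rc_54_0 lc_i_rc_39_1 lc_i_rc_54_0 lc_i_rc_18_1 lc_i_Cert_tree lc_i_rc_54_0 lc_i_rc_39_1 lc_i_Cert_tree lc_i_rc_54_0 lc_i_rc_39_1 lc_i_rc_33_1 lc_i_rc_54_0 lc_i_rc_39_1 lc_i_Cert_tree lc_i_rc_54_0 lc_i_rc_54_0 lc_i_rc_41_3 lc_i_rc_54_0 lc_i_rc_39_1 lc_i_rc_33_1) (@D3.rec (fun _ => (Cert rels S Gen.i)) lc_i_rc_54_0 lc_i_rc_39_1 lc_i_rc_33_1 lc_i_rc_26_1 lc_i_rc_54_0 lc_i_rc_46_1 lc_i_rc_33_1 lc_i_rc_54_0 lc_i_rc_50_1 lc_i_rc_33_1 lc_i_rc_26_1 lc_i_rc_54_0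 lc_i_rc_46_1 lc_i_rc_33_1 lc_i_rc_46_1 lc_i_rc_33_1 lc_i_rc_26_1 lc_i_rc_39_1 lc_i_rc_18_1 lc_i_rc_41_3 lc_i_rc_33_1 lc_i_rc_26_1 lc_i_rc_54_0 lc_i_rc_18_1 lc_i_rc_54_0 lc_i_Cert_tree lc_i_rc_54_0 lc_i_rc_39_1 lc_i_rc_50_1 lc_i_rc_54_0 lc_i_rc_46_1 lc_i_rc_33_1 lc_i_rc_54_0 lc_i_rc_46_1 lc_i_Cert_tree lc_i_rc_54_0 lc_i_rc_54_0 lc_i_rc_39_1 lc_i_rc_33_1 lc_i_Cert_tree lc_i_Cert_tree lc_i_rc_54_0 lc_i_rc_54_0 lc_i_rc_41_3 lc_i_Cert_tree lc_i_rc_54_0 lc_i_rc_39_1 lc_i_rc_33_1 lc_i_rc_39_1 lc_i_rc_54_0 lc_i_rc_39_1) (@D3.rec (fun _ => (Cert rels S Gen.i)) lc_i_rc_33_1 lc_i_rc_26_1 lc_i_rc_39_1 lc_i_Cert_tree lc_i_rc_54_0 lc_i_rc_9_1 lc_i_rc_54_0 lc_i_rc_39_1 lc_i_rc_33_1 lc_i_rc_39_1 lc_i_Cert_tree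 lc_i_Cert_tree lc_i_rc_54_0 lc_i_rc_54_0 lc_i_rc_41_3 lc_i_rc_41_3 lc_i_rc_33_1 lc_i_rc_54_0 lc_i_rc_39_1 lc_i_rc_33_1 lc_i_rc_26_1 lc_i_rc_33_1 lc_i_rc_39_1 lc_i_rc_39_1 lc_i_rc_33_1 lc_i_rc_26_1 lc_i_rc_33_1 lc_i_rc_18_1 lc_i_rc_9_1 lc_i_rc_33_1 lc_i_rc_54_0 lc_i_rc_50_1 lc_i_rc_33_1 lc_i_rc_9_3 lc_i_rc_9_1 lc_i_rc_50_1 lc_i_rc_33_1 lc_i_rc_26_1 lc_i_rc_39_1 lc_i_rc_18_1 lc_i_rc_54_0 lc_i_rc_9_1 lc_i_rc_33_1 lc_i_rc_46_1 lc_i_rc_18_1 lc_i_rc_9_3 lc_i_rc_39_1 lc_i_rc_9_1 lc_i_rc_33_1 lc_i_rc_26_1 lc_i_rc_39_1) (@D3.rec (fun _ => (Cert rels S Gen.i)) lc_i_rc_18_1 lc_i_rc_26_1 lc_i_rc_18_3 lc_i_rc_53_1 lc_i_rc_18_1 lc_i_rc_18_1 lc_i_rc_26_1 lc_i_rc_33_1 lc_i_rc_26_1 lc_i_rc_39_1 lc_i_rc_18_1 lc_i_rc_26_1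 lc_i_rc_9_1 lc_i_rc_26_1 lc_i_rc_39_1 lc_i_rc_26_1 lc_i_rc_9_1 lc_i_rc_18_1 lc_i_rc_33_1 lc_i_rc_41_3 lc_i_rc_33_1 lc_i_rc_26_1 lc_i_rc_39_1 lc_i_rc_26_1 lc_i_rc_33_1 lc_i_rc_33_1 lc_i_rc_18_1 lc_i_rc_33_1 lc_i_rc_9_1 lc_i_rc_18_1 lc_i_rc_18_1 lc_i_rc_9_3 lc_i_rc_39_1 lc_i_rc_33_1 lc_i_rc_41_3 lc_i_rc_26_1 lc_i_rc_39_1 lc_i_rc_26_1 lc_i_rc_26_1 lc_i_rc_26_1 lc_i_rc_26_1 lc_i_rc_39_1 lc_i_rc_33_1 lc_i_rc_46_3 lc_i_rc_39_1 lc_i_rc_33_1 lc_i_rc_33_1 lc_i_rc_39_1 lc_i_rc_39_1 lc_i_rc_39_1 lc_i_rc_54_0) (@D3.rec (fun _ => (Cert rels S Gen.i)) lc_i_rc_39_1 lc_i_rc_54_0 lc_i_rc_26_3 lc_i_rc_54_0 lc_i_rc_41_3 lc_i_rc_33_1 lc_i_rc_41_3 lc_i_rc_9_3 lc_i_rc_26_1 lc_i_rc_46_1 lc_i_rc_33_1 lc_i_rc_41_3 lc_i_rc_46_1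 lc_i_rc_9_1 lc_i_rc_54_0 lc_i_rc_9_1 lc_i_rc_9_1 lc_i_rc_39_1 lc_i_rc_33_1 lc_i_rc_33_1 lc_i_rc_54_0 lc_i_rc_9_1 lc_i_rc_26_1 lc_i_rc_26_1 lc_i_rc_33_1 lc_i_rc_39_1 lc_i_rc_26_1 lc_i_rc_53_1 lc_i_rc_33_1 lc_i_rc_18_1 lc_i_rc_46_1 lc_i_rc_46_1 lc_i_rc_18_1 lc_i_rc_33_1 lc_i_rc_54_0 lc_i_rc_39_1 lc_i_rc_33_1 lc_i_rc_33_1 lc_i_rc_33_1 lc_i_Cert_tree lc_i_rc_54_0 lc_i_rc_54_0 lc_i_rc_9_3 lc_i_rc_54_0 lc_i_rc_9_3 lc_i_rc_54_0 lc_i_rc_9_1 lc_i_Cert_tree lc_i_rc_54_0 lc_i_rc_54_0 lc_i_rc_9_3) (@D3.rec (fun _ => (Cert rels S Gen.i)) lc_i_rc_9_3 lc_i_rc_9_1 lc_i_rc_53_1 lc_i_rc_54_0 lc_i_rc_39_1 lc_i_rc_18_1 lc_i_rc_54_0 lc_i_rc_9_3 lc_i_rc_39_1 lc_i_rc_33_1 lc_i_rc_39_1 lc_i_rc_33_1 lc_i_rc_26_1 lc_i_rc_18_1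 lc_i_rc_53_1 lc_i_rc_18_1 lc_i_rc_41_3 lc_i_rc_18_1 lc_i_rc_26_1 lc_i_rc_46_1 lc_i_rc_18_1 lc_i_rc_9_1 lc_i_rc_18_1 lc_i_rc_9_3 lc_i_rc_33_1 lc_i_rc_9_1 lc_i_rc_18_1 lc_i_rc_33_1 lc_i_rc_18_1 lc_i_rc_33_1 lc_i_rc_33_1 lc_i_rc_9_1 lc_i_rc_18_1 lc_i_rc_9_1 lc_i_rc_18_1 lc_i_rc_54_0 lc_i_rc_54_0 lc_i_rc_41_3 lc_i_rc_54_0 lc_i_rc_41_3 lc_i_rc_50_1 lc_i_rc_53_1 lc_i_Cert_tree lc_i_rc_54_0 lc_i_rc_50_1 lc_i_rc_39_1 lc_i_Cert_tree lc_i_rc_54_0 lc_i_rc_18_1 lc_i_Cert_tree lc_i_rc_54_0) (@D3.rec (fun _ => (Cert rels S Gen.i)) lc_i_rc_39_1 lc_i_rc_33_1 lc_i_rc_33_1 lc_i_rc_54_0 lc_i_rc_54_0 lc_i_rc_39_1 lc_i_rc_33_1 lc_i_rc_54_0 lc_i_rc_54_0 lc_i_rc_41_3 lc_i_rc_39_1 lc_i_rc_33_1 lc_i_rc_39_1 lc_i_rc_39_1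 lc_i_rc_33_1 lc_i_rc_26_1 lc_i_rc_33_1 lc_i_rc_18_1 lc_i_rc_54_0 lc_i_rc_39_1 lc_i_rc_33_1 lc_i_rc_18_3 lc_i_rc_33_1 lc_i_rc_54_0 lc_i_rc_39_1 lc_i_rc_33_1 lc_i_Cert_tree lc_i_rc_54_0 lc_i_rc_54_0 lc_i_rc_41_3 lc_i_rc_9_3 lc_i_rc_33_1 lc_i_rc_39_1 lc_i_rc_46_1 lc_i_rc_26_1 lc_i_rc_54_0 lc_i_rc_39_1 lc_i_rc_54_0 lc_i_rc_54_0 lc_i_rc_41_3 lc_i_rc_54_0 lc_i_rc_39_1 lc_i_rc_33_1 lc_i_rc_39_1 lc_i_rc_54_0 lc_i_rc_54_0 lc_i_rc_41_3 lc_i_rc_41_3 lc_i_rc_33_1 lc_i_rc_54_0 lc_i_rc_9_1) (@D3.rec (fun _ => (Cert rels S Gen.i)) lc_i_rc_33_1 lc_i_rc_26_1 lc_i_rc_33_1 lc_i_rc_39_1 lc_i_rc_9_3 lc_i_rc_33_1 lc_i_rc_26_1 lc_i_rc_18_1 lc_i_rc_54_0 lc_i_rc_53_1 lc_i_rc_18_1 lc_i_rc_33_1 lc_i_rc_9_3 lc_i_rc_9_3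 lc_i_rc_9_1 lc_i_rc_33_1 lc_i_rc_9_1 lc_i_rc_50_1 lc_i_rc_46_1 lc_i_rc_46_1 lc_i_rc_39_1 lc_i_rc_53_1 lc_i_rc_53_1 lc_i_rc_39_1 lc_i_rc_18_1 lc_i_rc_41_3 lc_i_rc_33_1 lc_i_rc_33_1 lc_i_rc_46_1 lc_i_rc_41_3 lc_i_rc_33_1 lc_i_rc_33_1 lc_i_rc_33_1 lc_i_rc_39_1 lc_i_rc_33_1 lc_i_rc_50_1 lc_i_rc_39_1 lc_i_rc_39_1 lc_i_rc_26_1 lc_i_rc_33_1 lc_i_rc_39_1 lc_i_rc_39_1 lc_i_rc_39_1 lc_i_rc_33_1 lc_i_rc_33_1 lc_i_rc_39_1 lc_i_rc_18_1 lc_i_rc_9_1 lc_i_rc_9_1 lc_i_Cert_tree lc_i_rc_54_0) (@D3.rec (fun _ => (Cert rels S Gen.i)) lc_i_rc_39_1 lc_i_rc_33_1 lc_i_rc_33_1 lc_i_rc_39_1 lc_i_rc_18_1 lc_i_Cert_tree lc_i_rc_54_0 lc_i_rc_54_0 lc_i_rc_41_3 lc_i_rc_39_1 lc_i_rc_33_1 lc_i_rc_39_1 lc_i_rc_18_3 lc_i_rc_26_1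 lc_i_rc_26_1 lc_i_rc_26_1 lc_i_rc_46_1 lc_i_rc_33_1 lc_i_rc_41_3 lc_i_rc_33_1 lc_i_rc_33_1 lc_i_rc_46_1 lc_i_rc_50_1 lc_i_rc_54_0 lc_i_rc_39_1 lc_i_rc_33_1 lc_i_rc_33_1 lc_i_rc_39_1 lc_i_rc_46_1 lc_i_rc_33_1 lc_i_rc_39_1 lc_i_rc_26_1 lc_i_rc_46_1 lc_i_rc_46_1 lc_i_rc_39_1 lc_i_rc_33_1 lc_i_rc_54_0 lc_i_rc_41_3 lc_i_rc_33_1 lc_i_rc_39_1 lc_i_rc_26_1 lc_i_rc_39_1 lc_i_rc_46_1 lc_i_rc_41_3 lc_i_rc_50_1 lc_i_rc_46_1 lc_i_rc_9_3 lc_i_rc_46_1 lc_i_rc_46_1 lc_i_rc_41_5 lc_i_rc_46_3) (@D3.rec (fun _ => (Cert rels S Gen.i)) lc_i_rc_26_1 lc_i_rc_39_1 lc_i_rc_33_1 lc_i_rc_9_3 lc_i_rc_46_1 lc_i_rc_33_1 lc_i_rc_39_1 lc_i_rc_41_3 lc_i_rc_33_1 lc_i_rc_39_1 lc_i_rc_53_1 lc_i_rc_26_1 lc_i_rc_33_1 lc_i_rc_46_1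 lc_i_rc_39_1 lc_i_rc_39_1 lc_i_rc_26_1 lc_i_rc_18_1 lc_i_rc_46_1 lc_i_rc_46_1 lc_i_rc_39_1 lc_i_rc_18_1 lc_i_rc_9_1 lc_i_rc_33_1 lc_i_rc_18_1 lc_i_rc_18_1 lc_i_rc_33_1 lc_i_rc_39_1 lc_i_rc_50_1 lc_i_rc_54_0 lc_i_rc_50_1 lc_i_rc_33_1 lc_i_rc_26_1 lc_i_rc_18_1 lc_i_rc_39_1 lc_i_rc_33_1 lc_i_rc_33_1 lc_i_rc_26_1 lc_i_rc_54_0 lc_i_rc_50_1 lc_i_rc_54_0 lc_i_rc_18_3 lc_i_rc_33_1 lc_i_rc_54_0 lc_i_rc_18_1 lc_i_rc_54_0 lc_i_rc_18_1 lc_i_rc_9_1 lc_i_rc_33_1 lc_i_rc_18_3 lc_i_rc_18_3) (@D3.rec (fun _ => (Cert rels S Gen.i)) lc_i_rc_26_1 lc_i_rc_54_0 lc_i_rc_9_1 lc_i_rc_39_1 lc_i_rc_33_1 lc_i_rc_18_3 lc_i_rc_18_3 lc_i_rc_33_1 lc_i_rc_26_1 lc_i_rc_26_1 lc_i_rc_18_1 lc_i_rc_9_1 lc_i_rc_26_1 lc_i_rc_18_3 lc_i_rc_26_1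 lc_i_rc_39_1 lc_i_rc_53_1 lc_i_rc_53_1 lc_i_rc_53_1 lc_i_rc_33_1 lc_i_rc_26_1 lc_i_rc_50_1 lc_i_rc_50_3 lc_i_rc_50_1 lc_i_rc_26_3 lc_i_rc_33_1 lc_i_rc_26_1 lc_i_rc_39_1 lc_i_rc_9_1 lc_i_rc_33_1 lc_i_rc_41_3 lc_i_rc_33_1 lc_i_rc_26_1 lc_i_rc_18_1 lc_i_rc_54_0 lc_i_rc_26_3 lc_i_rc_54_0 lc_i_rc_9_3 lc_i_rc_18_1 lc_i_rc_54_0 lc_i_rc_41_3 lc_i_rc_9_3 lc_i_rc_9_3 lc_i_rc_26_1 lc_i_rc_54_0 lc_i_rc_39_1 lc_i_rc_46_1 lc_i_rc_33_1 lc_i_rc_39_1 lc_i_rc_41_3 lc_i_rc_33_1) (@D3.rec (fun _ => (Cert rels S Gen.i)) lc_i_rc_26_1 lc_i_rc_9_1 lc_i_rc_54_0 lc_i_rc_54_0 lc_i_rc_41_3 lc_i_rc_39_1 lc_i_rc_33_1 lc_i_Cert_tree lc_i_rc_54_0 lc_i_rc_54_0 lc_i_rc_41_3 lc_i_rc_41_3 lc_i_rc_33_1 lc_i_rc_54_0 lc_i_rc_39_1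 lc_i_rc_33_1 lc_i_rc_26_1 lc_i_rc_39_1 lc_i_rc_33_1 lc_i_rc_26_1 lc_i_rc_18_1 lc_i_rc_33_1 lc_i_rc_33_1 lc_i_rc_26_1 lc_i_rc_46_1 lc_i_rc_33_1 lc_i_rc_39_1 lc_i_rc_33_1 lc_i_rc_46_1 lc_i_rc_33_1 lc_i_rc_9_3 lc_i_rc_33_1 lc_i_rc_26_1 lc_i_rc_41_3 lc_i_rc_33_1 lc_i_rc_33_1 lc_i_rc_41_5 lc_i_rc_26_1 lc_i_rc_33_1 lc_i_rc_46_1 lc_i_rc_53_1 lc_i_rc_9_3 lc_i_rc_26_1 lc_i_rc_18_1 lc_i_rc_39_1 lc_i_rc_33_1 lc_i_rc_54_0 lc_i_rc_39_1 lc_i_rc_33_1 lc_i_rc_26_1 lc_i_rc_54_0) (@D3.rec (fun _ => (Cert rels S Gen.i)) lc_i_rc_41_3 lc_i_rc_41_3 lc_i_rc_33_1 lc_i_rc_33_1 lc_i_rc_26_1 lc_i_rc_39_1 lc_i_rc_33_1 lc_i_rc_26_1 lc_i_rc_33_1 lc_i_rc_18_1 lc_i_rc_26_1 lc_i_rc_33_1 lc_i_rc_33_1 lc_i_rc_26_1 lc_i_rc_18_1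 lc_i_rc_9_1 lc_i_rc_39_3 lc_i_rc_18_1 lc_i_rc_26_1 lc_i_rc_50_3 lc_i_rc_46_1 lc_i_rc_50_1 lc_i_rc_33_1 lc_i_rc_26_1 lc_i_rc_39_1 lc_i_rc_33_1 lc_i_rc_39_1 lc_i_rc_39_1 lc_i_rc_33_1 lc_i_rc_39_1 lc_i_rc_18_1 lc_i_rc_9_3 lc_i_rc_33_1 lc_i_rc_9_1 lc_i_rc_26_1 lc_i_rc_18_1 lc_i_rc_26_1 lc_i_rc_18_1 lc_i_rc_41_3 lc_i_rc_33_1 lc_i_rc_39_1 lc_i_rc_9_1 lc_i_rc_33_1 lc_i_rc_39_1 lc_i_rc_41_3 lc_i_rc_33_1 lc_i_rc_33_1 lc_i_rc_39_1 lc_i_rc_39_1 lc_i_rc_26_1 lc_i_rc_46_1) (@D3.rec (fun _ => (Cert rels S Gen.i)) lc_i_rc_26_1 lc_i_rc_39_1 lc_i_rc_26_1 lc_i_rc_33_1 lc_i_rc_33_1 lc_i_rc_26_1 lc_i_rc_33_1 lc_i_rc_54_0 lc_i_rc_39_1 lc_i_rc_46_1 lc_i_rc_33_1 lc_i_rc_54_0 lc_i_rc_39_1 lc_i_rc_54_0 lc_i_rc_39_1 lc_i_rc_39_1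 lc_i_rc_33_1 lc_i_rc_18_3 lc_i_rc_18_1 lc_i_rc_54_0 lc_i_rc_9_1 lc_i_rc_18_3 lc_i_rc_33_1 lc_i_rc_26_1 lc_i_rc_26_1 lc_i_rc_39_1 lc_i_rc_39_1 lc_i_rc_33_1 lc_i_rc_39_1 lc_i_rc_39_1 lc_i_rc_33_1 lc_i_rc_46_1 lc_i_rc_33_1 lc_i_rc_33_1 lc_i_rc_33_1 lc_i_rc_33_1 lc_i_rc_54_0 lc_i_rc_46_1 lc_i_rc_33_1 lc_i_rc_26_1 lc_i_rc_9_3 lc_i_rc_33_1 lc_i_rc_26_1 lc_i_rc_39_1 lc_i_rc_33_1 lc_i_rc_39_1 lc_i_rc_18_1 lc_i_rc_26_1 lc_i_Cert_tree lc_i_rc_54_0 lc_i_rc_9_1) (@D3.rec (fun _ => (Cert rels S Gen.i)) lc_i_Cert_tree lc_i_rc_54_0 lc_i_Cert_tree lc_i_Cert_tree lc_i_rc_54_0 lc_i_rc_9_1 lc_i_rc_54_0 lc_i_rc_9_1 lc_i_rc_54_0 lc_i_rc_50_1 lc_i_Cert_tree lc_i_rc_54_0 lc_i_rc_46_1 lc_i_Cert_tree lc_i_rc_54_0 lc_i_rc_39_1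 lc_i_Cert_tree lc_i_rc_54_0 lc_i_rc_39_1 lc_i_rc_33_1 lc_i_rc_39_1 lc_i_rc_33_1 lc_i_rc_33_1 lc_i_rc_54_0 lc_i_rc_46_1 lc_i_rc_33_1 lc_i_rc_39_1 lc_i_rc_33_1 lc_i_rc_26_1 lc_i_rc_39_1 lc_i_rc_54_0 lc_i_rc_39_1 lc_i_rc_33_1 lc_i_rc_54_0 lc_i_rc_39_1 lc_i_rc_33_1 lc_i_Cert_tree lc_i_rc_54_0 lc_i_rc_39_1 lc_i_rc_33_1 lc_i_Cert_tree lc_i_rc_54_0 lc_i_rc_54_0 lc_i_rc_41_3 lc_i_rc_39_1 lc_i_rc_33_1 lc_i_rc_39_1 lc_i_rc_33_1 lc_i_rc_26_1 lc_i_rc_26_1 lc_i_rc_18_1) (@D3.rec (fun _ => (Cert rels S Gen.i)) lc_i_rc_39_1 lc_i_rc_50_1 lc_i_rc_33_1 lc_i_rc_26_1 lc_i_rc_18_1 lc_i_rc_18_1 lc_i_rc_18_1 lc_i_rc_46_1 lc_i_rc_26_1 lc_i_rc_39_1 lc_i_rc_18_1 lc_i_rc_33_1 lc_i_rc_26_1 lc_i_rc_39_1 lc_i_rc_18_1 lc_i_rc_26_1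 lc_i_rc_39_1 lc_i_rc_54_0 lc_i_rc_41_3 lc_i_rc_33_1 lc_i_rc_18_1 lc_i_rc_41_3 lc_i_rc_33_1 lc_i_rc_33_1 lc_i_rc_46_1 lc_i_rc_46_1 lc_i_rc_54_0 lc_i_rc_46_1 lc_i_rc_39_1 lc_i_Cert_tree lc_i_rc_54_0 lc_i_Cert_tree lc_i_rc_54_0 lc_i_rc_18_1 lc_i_rc_54_0 lc_i_rc_18_1 lc_i_rc_39_1 lc_i_rc_54_0 lc_i_rc_39_1 lc_i_rc_33_1 lc_i_rc_18_3 lc_i_rc_33_1 lc_i_rc_33_1 lc_i_rc_18_3 lc_i_rc_39_1 lc_i_rc_54_0 lc_i_rc_26_1 lc_i_rc_39_1 lc_i_rc_54_0 lc_i_rc_39_1 lc_i_rc_33_1) (@D3.rec (fun _ => (Cert rels S Gen.i)) lc_i_rc_39_1 lc_i_rc_33_1 lc_i_rc_33_1 lc_i_rc_54_0 lc_i_rc_9_3 lc_i_rc_33_1 lc_i_rc_33_1 lc_i_rc_39_1 lc_i_rc_54_0 lc_i_rc_39_1 lc_i_rc_33_1 lc_i_rc_26_1 lc_i_rc_9_3 lc_i_rc_26_3 lc_i_rc_39_1 lc_i_rc_26_3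 lc_i_rc_33_1 lc_i_rc_39_1 lc_i_Cert_tree lc_i_rc_54_0 lc_i_Cert_tree lc_i_Cert_tree lc_i_rc_54_0 lc_i_rc_9_1 lc_i_Cert_tree lc_i_rc_54_0 lc_i_rc_53_1 lc_i_Cert_tree lc_i_rc_54_0 lc_i_rc_54_0 lc_i_rc_18_1 lc_i_rc_54_0 lc_i_rc_54_0 lc_i_rc_9_1 lc_i_rc_33_1 lc_i_rc_9_3 lc_i_rc_9_3 lc_i_Cert_tree lc_i_rc_54_0 lc_i_rc_39_1 lc_i_rc_54_0 lc_i_rc_18_1 lc_i_rc_54_0 lc_i_rc_39_1 lc_i_rc_33_1 lc_i_rc_54_0 lc_i_rc_39_1 lc_i_rc_33_1 lc_i_rc_54_0 lc_i_rc_39_1 lc_i_rc_33_1) (@D3.rec (fun _ => (Cert rels S Gen.i)) lc_i_rc_54_0 lc_i_rc_54_0 lc_i_rc_41_3 lc_i_rc_39_1 lc_i_rc_33_1 lc_i_rc_39_1 lc_i_rc_54_0 lc_i_rc_39_1 lc_i_rc_33_1 lc_i_rc_26_1 lc_i_rc_33_1 lc_i_rc_39_1 lc_i_rc_50_1 lc_i_rc_33_1 lc_i_rc_26_1 lc_i_rc_46_1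 lc_i_rc_46_1 lc_i_rc_33_1 lc_i_rc_26_1 lc_i_rc_39_1 lc_i_rc_33_1 lc_i_Cert_tree lc_i_rc_54_0 lc_i_rc_46_1 lc_i_rc_33_1 lc_i_rc_54_0 lc_i_rc_9_1 lc_i_rc_39_1 lc_i_rc_33_1 lc_i_rc_33_1 lc_i_rc_39_1 lc_i_rc_54_0 lc_i_rc_39_1 lc_i_rc_33_1 lc_i_rc_26_1 lc_i_rc_54_0 lc_i_rc_39_1 lc_i_rc_33_1 lc_i_rc_54_0 lc_i_rc_41_3 lc_i_rc_39_1 lc_i_rc_33_1 lc_i_rc_39_1 lc_i_rc_41_3 lc_i_rc_33_1 lc_i_rc_54_0 lc_i_rc_39_1 lc_i_rc_33_1 lc_i_rc_26_1 lc_i_rc_33_1 lc_i_rc_46_1)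
def ce_i_17 : D2 → D3 → (Cert rels S Gen.i) := @D2.rec (fun _ => D3 → (Cert rels S Gen.i)) (@D3.rec (fun _ => (Cert rels S Gen.i)) lc_i_rc_39_1 lc_i_rc_33_1 lc_i_rc_26_1 lc_i_rc_33_1 lc_i_rc_18_1 lc_i_rc_33_1 lc_i_rc_53_1 lc_i_rc_46_1 lc_i_rc_9_3 lc_i_rc_33_1 lc_i_rc_26_1 lc_i_rc_39_1 lc_i_rc_18_1 lc_i_rc_46_1 lc_i_rc_33_1 lc_i_rc_50_1 lc_i_rc_33_1 lc_i_rc_39_1 lc_i_rc_18_1 lc_i_rc_26_1 lc_i_rc_33_1 lc_i_rc_39_1 lc_i_rc_18_1 lc_i_rc_26_1 lc_i_rc_26_1 lc_i_rc_39_1 lc_i_rc_26_1 lc_i_rc_18_1 lc_i_rc_33_1 lc_i_rc_18_1 lc_i_rc_46_1 lc_i_rc_46_1 lc_i_rc_9_1 lc_i_rc_41_3 lc_i_rc_33_1 lc_i_rc_33_1 lc_i_rc_18_1 lc_i_rc_33_1 lc_i_rc_39_1 lc_i_rc_33_1 lc_i_rc_50_1 lc_i_rc_50_1 lc_i_rc_33_1 lc_i_rc_33_1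 lc_i_rc_18_1 lc_i_rc_39_1 lc_i_rc_33_1 lc_i_rc_26_1 lc_i_rc_18_1 lc_i_rc_39_1 lc_i_rc_26_1) (@D3.rec (fun _ => (Cert rels S Gen.i)) lc_i_rc_26_1 lc_i_rc_39_1 lc_i_rc_33_1 lc_i_rc_39_1 lc_i_rc_18_1 lc_i_rc_39_1 lc_i_rc_54_0 lc_i_rc_33_3 lc_i_rc_39_1 lc_i_rc_54_0 lc_i_rc_46_1 lc_i_rc_54_0 lc_i_rc_46_1 lc_i_rc_54_0 lc_i_rc_39_1 lc_i_rc_33_1 lc_i_rc_46_1 lc_i_rc_33_1 lc_i_rc_54_0 lc_i_rc_26_3 lc_i_rc_39_1 lc_i_rc_39_1 lc_i_rc_33_1 lc_i_rc_39_1 lc_i_rc_33_1 lc_i_rc_33_1 lc_i_rc_39_1 lc_i_rc_9_1 lc_i_Cert_tree lc_i_Cert_tree lc_i_rc_54_0 lc_i_rc_26_1 lc_i_rc_54_0 lc_i_rc_41_3 lc_i_rc_39_1 lc_i_rc_54_0 lc_i_rc_18_1 lc_i_rc_54_0 lc_i_rc_39_1 lc_i_rc_33_1 lc_i_rc_54_0 lc_i_rc_39_1 lc_i_rc_33_1 lc_i_rc_33_1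 lc_i_rc_39_1 lc_i_rc_46_1 lc_i_rc_33_1 lc_i_rc_26_1 lc_i_rc_33_1 lc_i_rc_46_1 lc_i_rc_33_1) (@D3.rec (fun _ => (Cert rels S Gen.i)) lc_i_rc_39_1 lc_i_rc_33_1 lc_i_rc_9_3 lc_i_rc_33_1 lc_i_rc_39_1 lc_i_rc_39_1 lc_i_rc_33_1 lc_i_rc_26_1 lc_i_rc_46_1 lc_i_rc_33_1 lc_i_rc_26_1 lc_i_rc_39_1 lc_i_rc_39_1 lc_i_rc_26_1 lc_i_rc_18_1 lc_i_rc_9_3 lc_i_rc_33_1 lc_i_rc_46_1 lc_i_rc_39_1 lc_i_rc_39_1 lc_i_Cert_tree lc_i_rc_54_0 lc_i_rc_18_1 lc_i_rc_54_0 lc_i_rc_39_1 lc_i_rc_33_1 lc_i_rc_33_1 lc_i_rc_54_0 lc_i_rc_9_1 lc_i_Cert_tree lc_i_Cert_tree lc_i_rc_54_0 lc_i_rc_26_1 lc_i_rc_54_0 lc_i_rc_9_1 lc_i_rc_54_0 lc_i_rc_46_1 lc_i_rc_39_1 lc_i_rc_54_0 lc_i_rc_18_1 lc_i_rc_54_0 lc_i_rc_54_0 lc_i_rc_39_1 lc_i_rc_33_1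 lc_i_rc_39_1 lc_i_rc_33_1 lc_i_rc_33_1 lc_i_rc_46_1 lc_i_rc_39_1 lc_i_rc_33_1 lc_i_rc_26_1) (@D3.rec (fun _ => (Cert rels S Gen.i)) lc_i_rc_39_1 lc_i_rc_39_1 lc_i_rc_54_0 lc_i_rc_39_1 lc_i_rc_33_1 lc_i_rc_41_3 lc_i_rc_39_1 lc_i_rc_33_1 lc_i_rc_39_1 lc_i_rc_33_1 lc_i_rc_39_1 lc_i_rc_33_1 lc_i_rc_26_1 lc_i_rc_26_1 lc_i_rc_39_1 lc_i_rc_46_1 lc_i_rc_33_1 lc_i_rc_18_1 lc_i_rc_46_1 lc_i_rc_26_1 lc_i_rc_39_1 lc_i_rc_26_1 lc_i_rc_26_1 lc_i_rc_18_1 lc_i_rc_46_1 lc_i_rc_18_1 lc_i_Cert_tree lc_i_Cert_tree lc_i_rc_54_0 lc_i_rc_26_1 lc_i_rc_54_0 lc_i_rc_41_3 lc_i_rc_54_0 lc_i_rc_18_1 lc_i_Cert_tree lc_i_rc_54_0 lc_i_rc_54_0 lc_i_rc_26_1 lc_i_rc_33_1 lc_i_rc_46_1 lc_i_rc_33_1 lc_i_rc_39_1 lc_i_Cert_tree lc_i_rc_54_0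 lc_i_rc_39_1 lc_i_rc_33_1 lc_i_rc_39_1 lc_i_rc_33_1 lc_i_rc_54_0 lc_i_rc_39_1 lc_i_rc_33_1) (@D3.rec (fun _ => (Cert rels S Gen.i)) lc_i_rc_54_0 lc_i_rc_41_3 lc_i_rc_39_1 lc_i_rc_33_1 lc_i_rc_39_1 lc_i_rc_39_1 lc_i_rc_33_1 lc_i_rc_26_1 lc_i_rc_33_1 lc_i_rc_39_1 lc_i_rc_33_1 lc_i_rc_46_1 lc_i_rc_33_1 lc_i_rc_26_1 lc_i_rc_39_1 lc_i_rc_46_1 lc_i_rc_33_1 lc_i_Cert_tree lc_i_rc_54_0 lc_i_rc_54_0 lc_i_rc_41_3 lc_i_rc_50_1 lc_i_rc_33_1 lc_i_rc_39_1 lc_i_rc_33_1 lc_i_rc_26_1 lc_i_rc_54_0 lc_i_rc_39_1 lc_i_rc_54_0 lc_i_rc_54_0 lc_i_rc_41_3 lc_i_rc_39_1 lc_i_rc_33_1 lc_i_rc_39_1 lc_i_rc_54_0 lc_i_rc_41_3 lc_i_rc_41_3 lc_i_rc_33_1 lc_i_rc_39_1 lc_i_rc_33_1 lc_i_rc_26_1 lc_i_rc_33_1 lc_i_rc_46_1 lc_i_rc_39_1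 lc_i_rc_33_1 lc_i_rc_26_1 lc_i_rc_33_1 lc_i_rc_18_1 lc_i_rc_46_1 lc_i_rc_39_1 lc_i_rc_33_1) (@D3.rec (fun _ => (Cert rels S Gen.i)) lc_i_rc_39_1 lc_i_rc_46_1 lc_i_rc_46_1 lc_i_rc_46_1 lc_i_rc_39_1 lc_i_rc_46_1 lc_i_rc_50_1 lc_i_rc_39_1 lc_i_rc_26_1 lc_i_rc_26_1 lc_i_rc_18_1 lc_i_rc_33_1 lc_i_rc_41_3 lc_i_rc_33_1 lc_i_rc_39_1 lc_i_rc_9_3 lc_i_rc_9_1 lc_i_rc_41_3 lc_i_rc_33_1 lc_i_rc_18_1 lc_i_rc_33_1 lc_i_rc_26_1 lc_i_rc_39_1 lc_i_rc_26_1 lc_i_rc_46_1 lc_i_rc_18_1 lc_i_rc_26_1 lc_i_rc_26_1 lc_i_rc_33_1 lc_i_rc_33_1 lc_i_rc_50_1 lc_i_rc_33_1 lc_i_rc_33_1 lc_i_rc_26_1 lc_i_rc_39_1 lc_i_rc_54_0 lc_i_rc_18_1 lc_i_rc_26_1 lc_i_rc_33_1 lc_i_rc_46_1 lc_i_rc_33_1 lc_i_rc_54_0 lc_i_rc_39_1 lc_i_rc_39_1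 lc_i_rc_33_1 lc_i_rc_33_1 lc_i_rc_26_1 lc_i_rc_33_1 lc_i_rc_39_1 lc_i_rc_50_1 lc_i_rc_46_1) (@D3.rec (fun _ => (Cert rels S Gen.i)) lc_i_rc_33_1 lc_i_rc_33_1 lc_i_rc_33_1 lc_i_rc_26_1 lc_i_rc_33_1 lc_i_rc_18_1 lc_i_rc_33_1 lc_i_rc_26_1 lc_i_rc_39_1 lc_i_rc_33_1 lc_i_rc_26_1 lc_i_rc_33_1 lc_i_rc_18_1 lc_i_rc_39_1 lc_i_rc_33_1 lc_i_rc_39_1 lc_i_rc_39_1 lc_i_rc_39_1 lc_i_rc_39_1 lc_i_rc_33_1 lc_i_rc_39_1 lc_i_rc_33_1 lc_i_rc_18_3 lc_i_rc_9_1 lc_i_rc_33_1 lc_i_rc_33_1 lc_i_rc_18_3 lc_i_rc_33_1 lc_i_rc_18_1 lc_i_rc_26_1 lc_i_rc_54_0 lc_i_rc_9_1 lc_i_rc_54_0 lc_i_rc_26_1 lc_i_rc_33_1 lc_i_rc_9_1 lc_i_rc_33_1 lc_i_rc_54_0 lc_i_rc_39_1 lc_i_rc_54_0 lc_i_rc_39_1 lc_i_rc_33_1 lc_i_rc_33_1 lc_i_rc_26_1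 lc_i_rc_50_1 lc_i_rc_33_1 lc_i_rc_26_1 lc_i_rc_26_1 lc_i_rc_39_1 lc_i_rc_54_0 lc_i_rc_9_3) (@D3.rec (fun _ => (Cert rels S Gen.i)) lc_i_rc_46_1 lc_i_rc_33_1 lc_i_rc_54_0 lc_i_rc_41_3 lc_i_rc_54_0 lc_i_rc_46_1 lc_i_rc_33_1 lc_i_rc_39_1 lc_i_rc_33_1 lc_i_rc_26_1 lc_i_rc_54_0 lc_i_rc_41_3 lc_i_rc_33_1 lc_i_rc_54_0 lc_i_rc_41_3 lc_i_rc_41_3 lc_i_rc_33_1 lc_i_rc_33_1 lc_i_rc_26_1 lc_i_rc_26_1 lc_i_rc_33_1 lc_i_rc_18_1 lc_i_rc_50_1 lc_i_rc_46_1 lc_i_rc_26_1 lc_i_rc_33_1 lc_i_rc_26_1 lc_i_rc_39_1 lc_i_rc_46_1 lc_i_rc_39_1 lc_i_rc_26_1 lc_i_rc_26_1 lc_i_rc_39_1 lc_i_rc_26_1 lc_i_rc_33_1 lc_i_rc_18_1 lc_i_rc_9_1 lc_i_rc_9_1 lc_i_rc_54_0 lc_i_rc_39_3 lc_i_rc_54_0 lc_i_rc_26_1 lc_i_rc_33_1 lc_i_rc_54_0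 lc_i_rc_46_1 lc_i_rc_33_1 lc_i_rc_54_0 lc_i_rc_39_3 lc_i_rc_54_0 lc_i_rc_54_0 lc_i_rc_18_1) (@D3.rec (fun _ => (Cert rels S Gen.i)) lc_i_rc_18_1 lc_i_rc_54_0 lc_i_rc_54_0 lc_i_rc_41_3 lc_i_rc_54_0 lc_i_rc_26_1 lc_i_rc_33_1 lc_i_rc_39_1 lc_i_rc_18_1 lc_i_rc_33_1 lc_i_rc_26_1 lc_i_rc_39_1 lc_i_rc_54_0 lc_i_rc_46_1 lc_i_rc_33_1 lc_i_rc_39_1 lc_i_rc_54_0 lc_i_rc_39_1 lc_i_rc_33_1 lc_i_rc_54_0 lc_i_rc_39_1 lc_i_rc_33_1 lc_i_rc_26_1 lc_i_rc_39_1 lc_i_rc_33_1 lc_i_rc_54_0 lc_i_rc_41_3 lc_i_rc_41_3 lc_i_rc_33_1 lc_i_rc_39_1 lc_i_rc_33_1 lc_i_rc_26_1 lc_i_rc_39_1 lc_i_rc_33_1 lc_i_rc_26_1 lc_i_rc_33_1 lc_i_rc_18_1 lc_i_rc_50_1 lc_i_rc_33_1 lc_i_rc_50_1 lc_i_rc_33_1 lc_i_rc_26_1 lc_i_rc_39_1 lc_i_rc_18_1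 lc_i_rc_46_1 lc_i_rc_39_1 lc_i_rc_33_1 lc_i_rc_26_1 lc_i_rc_39_1 lc_i_rc_18_1 lc_i_rc_26_1) (@D3.rec (fun _ => (Cert rels S Gen.i)) lc_i_rc_26_1 lc_i_rc_18_1 lc_i_rc_26_3 lc_i_rc_54_0 lc_i_rc_18_1 lc_i_rc_33_1 lc_i_rc_50_1 lc_i_rc_46_1 lc_i_rc_33_1 lc_i_rc_26_1 lc_i_rc_9_1 lc_i_rc_54_0 lc_i_rc_39_1 lc_i_rc_33_1 lc_i_rc_54_0 lc_i_rc_54_0 lc_i_rc_41_3 lc_i_rc_41_3 lc_i_rc_33_1 lc_i_rc_54_0 lc_i_rc_39_1 lc_i_rc_33_1 lc_i_rc_26_1 lc_i_rc_33_1 lc_i_rc_39_1 lc_i_rc_33_1 lc_i_rc_26_1 lc_i_rc_33_1 lc_i_rc_18_1 lc_i_rc_33_1 lc_i_rc_54_0 lc_i_rc_18_3 lc_i_rc_33_1 lc_i_rc_39_1 lc_i_rc_33_1 lc_i_rc_26_1 lc_i_rc_33_1 lc_i_rc_54_0 lc_i_rc_54_0 lc_i_rc_41_3 lc_i_rc_41_3 lc_i_rc_33_1 lc_i_rc_33_1 lc_i_rc_26_1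 lc_i_rc_39_1 lc_i_rc_18_1 lc_i_rc_33_1 lc_i_rc_26_1 lc_i_rc_33_1 lc_i_rc_18_1 lc_i_rc_26_1) (@D3.rec (fun _ => (Cert rels S Gen.i)) lc_i_rc_33_1 lc_i_rc_33_1 lc_i_rc_26_1 lc_i_rc_33_1 lc_i_rc_18_1 lc_i_rc_26_1 lc_i_rc_9_1 lc_i_rc_33_1 lc_i_rc_26_1 lc_i_rc_33_1 lc_i_rc_9_3 lc_i_rc_53_1 lc_i_rc_33_1 lc_i_rc_26_1 lc_i_rc_39_1 lc_i_rc_18_1 lc_i_rc_26_1 lc_i_rc_18_3 lc_i_rc_9_1 lc_i_rc_39_1 lc_i_rc_18_1 lc_i_rc_18_1 lc_i_rc_39_1 lc_i_rc_39_1 lc_i_rc_26_1 lc_i_rc_39_1 lc_i_rc_26_1 lc_i_rc_18_3 lc_i_rc_18_1 lc_i_rc_33_1 lc_i_rc_33_3 lc_i_rc_33_3 lc_i_rc_26_1 lc_i_rc_39_1 lc_i_rc_18_1 lc_i_rc_26_1 lc_i_rc_46_1 lc_i_rc_9_1 lc_i_rc_18_1 lc_i_rc_33_1 lc_i_rc_26_1 lc_i_rc_33_1 lc_i_rc_9_1 lc_i_rc_18_1 lc_i_Cert_tree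 lc_i_rc_26_1 lc_i_rc_39_1 lc_i_rc_26_1 lc_i_rc_41_3 lc_i_rc_26_1 lc_i_rc_39_1) (@D3.rec (fun _ => (Cert rels S Gen.i)) lc_i_rc_9_1 lc_i_rc_26_1 lc_i_rc_18_1 lc_i_rc_46_1 lc_i_rc_26_1 lc_i_rc_33_1 lc_i_rc_26_1 lc_i_rc_18_1 lc_i_rc_46_1 lc_i_rc_26_1 lc_i_rc_26_1 lc_i_rc_39_1 lc_i_rc_53_1 lc_i_rc_26_1 lc_i_rc_46_1 lc_i_rc_33_1 lc_i_rc_26_3 lc_i_rc_33_1 lc_i_rc_41_3 lc_i_rc_41_1 lc_i_rc_26_1 lc_i_rc_9_3 lc_i_rc_26_1 lc_i_rc_18_1 lc_i_rc_46_1 lc_i_rc_50_1 lc_i_rc_46_1 lc_i_rc_9_1 lc_i_rc_9_1 lc_i_rc_53_1 lc_i_rc_33_1 lc_i_rc_26_1 lc_i_rc_26_1 lc_i_rc_9_1 lc_i_rc_33_1 lc_i_rc_26_1 lc_i_rc_26_1 lc_i_rc_33_1 lc_i_rc_18_1 lc_i_rc_50_1 lc_i_rc_18_1 lc_i_rc_26_1 lc_i_rc_50_3 lc_i_rc_33_1 lc_i_rc_39_1 lc_i_rc_26_1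 lc_i_rc_54_0 lc_i_rc_18_1 lc_i_rc_9_3 lc_i_rc_9_3 lc_i_rc_18_1) (@D3.rec (fun _ => (Cert rels S Gen.i)) lc_i_rc_9_3 lc_i_rc_39_1 lc_i_rc_33_1 lc_i_rc_54_0 lc_i_rc_9_3 lc_i_rc_53_1 lc_i_rc_9_3 lc_i_rc_9_3 lc_i_rc_53_1 lc_i_rc_9_3 lc_i_rc_18_1 lc_i_rc_33_1 lc_i_rc_39_1 lc_i_rc_9_3 lc_i_rc_33_1 lc_i_rc_33_1 lc_i_rc_26_1 lc_i_rc_33_1 lc_i_rc_39_1 lc_i_rc_26_1 lc_i_rc_18_1 lc_i_rc_18_1 lc_i_rc_53_1 lc_i_rc_46_1 lc_i_rc_18_1 lc_i_rc_39_1 lc_i_rc_18_1 lc_i_rc_9_1 lc_i_rc_18_1 lc_i_rc_33_1 lc_i_rc_33_1 lc_i_rc_9_1 lc_i_rc_33_1 lc_i_rc_26_1 lc_i_rc_33_1 lc_i_rc_18_1 lc_i_rc_39_1 lc_i_rc_33_1 lc_i_rc_18_1 lc_i_rc_9_1 lc_i_rc_39_1 lc_i_rc_41_3 lc_i_rc_18_1 lc_i_rc_41_3 lc_i_rc_41_1 lc_i_rc_50_1 lc_i_rc_9_1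 lc_i_rc_54_0 lc_i_rc_39_1 lc_i_rc_33_1 lc_i_rc_33_1) (@D3.rec (fun _ => (Cert rels S Gen.i)) lc_i_rc_54_0 lc_i_rc_39_1 lc_i_rc_33_1 lc_i_rc_54_0 lc_i_rc_41_3 lc_i_rc_33_1 lc_i_rc_39_1 lc_i_rc_26_1 lc_i_rc_18_3 lc_i_rc_39_1 lc_i_rc_33_1 lc_i_rc_39_1 lc_i_rc_41_3 lc_i_rc_41_3 lc_i_rc_33_1 lc_i_rc_33_1 lc_i_rc_26_1 lc_i_rc_33_1 lc_i_rc_33_1 lc_i_rc_26_1 lc_i_rc_18_1 lc_i_rc_9_3 lc_i_rc_33_1 lc_i_rc_39_1 lc_i_rc_46_1 lc_i_rc_26_1 lc_i_rc_9_3 lc_i_rc_33_1 lc_i_rc_39_1 lc_i_rc_54_0 lc_i_rc_41_3 lc_i_rc_41_3 lc_i_rc_33_1 lc_i_rc_9_3 lc_i_rc_26_1 lc_i_rc_33_1 lc_i_rc_39_1 lc_i_rc_26_1 lc_i_rc_18_1 lc_i_rc_39_1 lc_i_rc_33_1 lc_i_rc_50_1 lc_i_rc_41_3 lc_i_rc_33_1 lc_i_rc_39_1 lc_i_rc_33_1 lc_i_rc_26_1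 lc_i_rc_33_1 lc_i_rc_46_1 lc_i_rc_41_3 lc_i_rc_33_1) (@D3.rec (fun _ => (Cert rels S Gen.i)) lc_i_rc_33_1 lc_i_rc_26_1 lc_i_rc_39_1 lc_i_rc_46_1 lc_i_rc_33_1 lc_i_rc_26_1 lc_i_rc_33_1 lc_i_rc_18_1 lc_i_rc_26_1 lc_i_rc_33_1 lc_i_rc_53_1 lc_i_rc_26_1 lc_i_rc_18_1 lc_i_rc_9_1 lc_i_rc_26_1 lc_i_rc_33_1 lc_i_rc_18_1 lc_i_rc_9_3 lc_i_rc_9_3 lc_i_rc_33_1 lc_i_rc_39_1 lc_i_rc_46_1 lc_i_rc_39_1 lc_i_rc_46_1 lc_i_rc_33_1 lc_i_rc_39_1 lc_i_rc_33_1 lc_i_rc_50_1 lc_i_rc_33_1 lc_i_rc_39_1 lc_i_rc_39_1 lc_i_rc_46_1 lc_i_rc_33_1 lc_i_rc_18_1 lc_i_rc_33_1 lc_i_rc_39_1 lc_i_rc_26_1 lc_i_rc_46_1 lc_i_rc_18_1 lc_i_rc_9_1 lc_i_rc_54_0 lc_i_rc_41_3 lc_i_rc_33_1 lc_i_rc_39_1 lc_i_rc_26_1 lc_i_rc_46_1 lc_i_rc_26_1 lc_i_rc_54_0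 lc_i_rc_41_3 lc_i_rc_41_3 lc_i_rc_33_1) (@D3.rec (fun _ => (Cert rels S Gen.i)) lc_i_rc_33_1 lc_i_rc_26_1 lc_i_rc_33_1 lc_i_rc_46_1 lc_i_rc_26_1 lc_i_rc_18_1 lc_i_rc_26_1 lc_i_rc_26_1 lc_i_rc_33_1 lc_i_rc_33_1 lc_i_rc_39_1 lc_i_rc_33_1 lc_i_rc_50_1 lc_i_rc_41_3 lc_i_rc_33_1 lc_i_rc_39_1 lc_i_rc_26_1 lc_i_rc_50_1 lc_i_rc_26_1 lc_i_rc_26_1 lc_i_rc_33_1 lc_i_rc_26_3 lc_i_rc_18_1 lc_i_rc_33_1 lc_i_rc_39_1 lc_i_rc_41_3 lc_i_rc_33_1 lc_i_rc_26_1 lc_i_rc_33_1 lc_i_rc_46_1 lc_i_rc_18_1 lc_i_rc_46_1 lc_i_rc_50_1 lc_i_rc_50_1 lc_i_rc_9_1 lc_i_rc_26_1 lc_i_rc_46_1 lc_i_rc_46_3 lc_i_rc_26_1 lc_i_rc_41_5 lc_i_rc_41_1 lc_i_rc_33_1 lc_i_rc_39_1 lc_i_rc_33_1 lc_i_rc_18_1 lc_i_rc_26_1 lc_i_rc_33_1 lc_i_rc_46_1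 lc_i_rc_33_1 lc_i_rc_26_1 lc_i_rc_39_1) (@D3.rec (fun _ => (Cert rels S Gen.i)) lc_i_rc_9_3 lc_i_rc_26_1 lc_i_rc_26_3 lc_i_rc_18_1 lc_i_rc_26_1 lc_i_rc_33_1 lc_i_rc_26_3 lc_i_rc_26_1 lc_i_rc_41_1 lc_i_rc_9_1 lc_i_rc_39_1 lc_i_rc_39_1 lc_i_rc_18_1 lc_i_rc_33_1 lc_i_rc_26_1 lc_i_rc_18_1 lc_i_rc_26_1 lc_i_rc_33_1 lc_i_rc_26_1 lc_i_rc_26_1 lc_i_rc_18_1 lc_i_rc_26_1 lc_i_rc_33_1 lc_i_rc_9_1 lc_i_rc_18_3 lc_i_rc_26_1 lc_i_rc_39_1 lc_i_rc_33_1 lc_i_rc_18_1 lc_i_rc_18_1 lc_i_rc_9_1 lc_i_rc_26_1 lc_i_rc_18_3 lc_i_rc_26_1 lc_i_rc_18_1 lc_i_rc_50_1 lc_i_rc_50_1 lc_i_rc_33_1 lc_i_rc_26_1 lc_i_rc_18_3 lc_i_rc_26_1 lc_i_rc_26_1 lc_i_rc_33_1 lc_i_rc_18_1 lc_i_rc_18_1 lc_i_rc_9_1 lc_i_rc_26_1 lc_i_rc_9_1 lc_i_rc_39_1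 lc_i_rc_53_1 lc_i_rc_53_1) (@D3.rec (fun _ => (Cert rels S Gen.i)) lc_i_rc_26_1 lc_i_rc_26_1 lc_i_rc_18_1 lc_i_rc_33_1 lc_i_rc_9_3 lc_i_rc_26_1 lc_i_rc_33_1 lc_i_rc_26_1 lc_i_rc_18_1 lc_i_rc_33_1 lc_i_rc_33_1 lc_i_rc_26_1 lc_i_rc_33_1 lc_i_rc_26_1 lc_i_rc_18_1 lc_i_rc_9_1 lc_i_rc_26_1 lc_i_rc_33_1 lc_i_rc_18_3 lc_i_rc_50_3 lc_i_rc_26_1 lc_i_rc_18_1 lc_i_rc_41_3 lc_i_rc_33_1 lc_i_rc_26_1 lc_i_rc_9_3 lc_i_rc_26_3 lc_i_rc_46_1 lc_i_rc_33_1 lc_i_rc_33_1 lc_i_rc_26_1 lc_i_rc_33_1 lc_i_rc_41_3 lc_i_rc_26_1 lc_i_rc_18_1 lc_i_rc_33_1 lc_i_rc_9_1 lc_i_rc_41_3 lc_i_rc_41_3 lc_i_rc_33_1 lc_i_rc_26_1 lc_i_rc_54_0 lc_i_rc_41_3 lc_i_rc_41_3 lc_i_rc_33_1 lc_i_rc_33_1 lc_i_rc_26_1 lc_i_rc_39_1 lc_i_rc_33_1 lc_i_rc_26_1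 lc_i_rc_33_1) (@D3.rec (fun _ => (Cert rels S Gen.i)) lc_i_rc_18_1 lc_i_rc_33_1 lc_i_rc_26_1 lc_i_rc_18_1 lc_i_rc_9_1 lc_i_rc_26_1 lc_i_rc_26_1 lc_i_rc_39_1 lc_i_rc_33_1 lc_i_rc_39_1 lc_i_rc_33_1 lc_i_rc_26_1 lc_i_rc_18_1 lc_i_rc_26_1 lc_i_rc_39_1 lc_i_rc_18_1 lc_i_rc_41_3 lc_i_rc_26_1 lc_i_rc_26_1 lc_i_rc_26_1 lc_i_rc_41_5 lc_i_rc_18_1 lc_i_rc_26_1 lc_i_rc_33_1 lc_i_rc_50_1 lc_i_rc_9_3 lc_i_rc_26_1 lc_i_rc_18_1 lc_i_rc_9_1 lc_i_rc_33_1 lc_i_rc_26_1 lc_i_rc_33_1 lc_i_rc_26_1 lc_i_rc_33_1 lc_i_rc_18_1 lc_i_rc_41_3 lc_i_rc_33_1 lc_i_rc_33_1 lc_i_rc_26_1 lc_i_rc_39_1 lc_i_rc_26_1 lc_i_rc_18_1 lc_i_rc_33_1 lc_i_rc_26_1 lc_i_rc_33_1 lc_i_rc_18_1 lc_i_rc_26_1 lc_i_rc_33_1 lc_i_rc_9_1 lc_i_rc_18_1 lc_i_rc_26_1)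 (@D3.rec (fun _ => (Cert rels S Gen.i)) lc_i_rc_26_1 lc_i_rc_18_1 lc_i_rc_9_1 lc_i_rc_26_1 lc_i_rc_46_3 lc_i_rc_53_1 lc_i_rc_50_1 lc_i_rc_39_1 lc_i_rc_26_1 lc_i_rc_39_1 lc_i_rc_9_3 lc_i_rc_9_1 lc_i_rc_18_3 lc_i_rc_18_1 lc_i_rc_26_1 lc_i_rc_33_1 lc_i_rc_39_1 lc_i_rc_26_1 lc_i_rc_39_1 lc_i_rc_33_1 lc_i_rc_39_1 lc_i_rc_39_1 lc_i_rc_46_1 lc_i_rc_26_1 lc_i_rc_39_1 lc_i_rc_33_1 lc_i_rc_33_1 lc_i_rc_39_1 lc_i_rc_9_3 lc_i_rc_39_1 lc_i_rc_26_3 lc_i_rc_33_1 lc_i_rc_26_1 lc_i_rc_9_1 lc_i_rc_26_1 lc_i_rc_39_1 lc_i_rc_26_1 lc_i_rc_33_1 lc_i_rc_26_1 lc_i_rc_33_1 lc_i_rc_33_1 lc_i_rc_26_1 lc_i_rc_33_1 lc_i_rc_39_1 lc_i_rc_26_1 lc_i_rc_26_1 lc_i_rc_46_1 lc_i_rc_9_3 lc_i_rc_26_1 lc_i_rc_33_1 lc_i_rc_18_1) (@D3.rec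 (fun _ => (Cert rels S Gen.i)) lc_i_rc_39_1 lc_i_rc_46_1 lc_i_rc_26_1 lc_i_rc_18_1 lc_i_rc_33_1 lc_i_rc_54_0 lc_i_rc_9_1 lc_i_rc_54_0 lc_i_rc_18_1 lc_i_rc_54_0 lc_i_rc_54_0 lc_i_rc_9_1 lc_i_rc_9_1 lc_i_rc_18_3 lc_i_rc_9_1 lc_i_rc_39_1 lc_i_rc_54_0 lc_i_rc_39_1 lc_i_rc_33_1 lc_i_rc_54_0 lc_i_rc_39_1 lc_i_rc_33_1 lc_i_rc_54_0 lc_i_rc_41_3 lc_i_rc_33_1 lc_i_rc_39_1 lc_i_rc_33_1 lc_i_rc_26_1 lc_i_rc_39_1 lc_i_rc_50_1 lc_i_rc_33_1 lc_i_rc_26_1 lc_i_rc_46_1 lc_i_rc_26_1 lc_i_rc_39_1 lc_i_rc_33_1 lc_i_rc_39_1 lc_i_rc_33_1 lc_i_rc_39_1 lc_i_rc_39_1 lc_i_rc_33_1 lc_i_rc_26_1 lc_i_rc_54_0 lc_i_rc_41_3 lc_i_rc_33_1 lc_i_rc_39_1 lc_i_rc_54_0 lc_i_rc_41_3 lc_i_rc_41_3 lc_i_rc_33_1 lc_i_rc_33_1) (@D3.rec (fun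 _ => (Cert rels S Gen.i)) lc_i_rc_26_1 lc_i_rc_33_1 lc_i_rc_46_1 lc_i_rc_26_1 lc_i_rc_33_1 lc_i_rc_18_1 lc_i_rc_33_1 lc_i_rc_18_1 lc_i_rc_18_1 lc_i_rc_46_1 lc_i_rc_33_1 lc_i_rc_26_1 lc_i_rc_39_1 lc_i_rc_18_1 lc_i_rc_39_1 lc_i_rc_18_1 lc_i_rc_33_1 lc_i_rc_26_1 lc_i_rc_26_1 lc_i_rc_39_1 lc_i_rc_26_1 lc_i_rc_18_1 lc_i_rc_33_1 lc_i_rc_46_1 lc_i_rc_41_3 lc_i_rc_33_1 lc_i_rc_33_1 lc_i_rc_33_1 lc_i_rc_39_1 lc_i_rc_33_1 lc_i_rc_50_1 lc_i_rc_39_1 lc_i_rc_33_1 lc_i_rc_54_0 lc_i_rc_9_1 lc_i_rc_54_0 lc_i_rc_18_1 lc_i_rc_39_1 lc_i_rc_33_1 lc_i_rc_33_1 lc_i_rc_18_3 lc_i_rc_33_1 lc_i_rc_39_1 lc_i_rc_33_1 lc_i_rc_26_1 lc_i_rc_18_3 lc_i_rc_26_1 lc_i_rc_33_1 lc_i_rc_33_1 lc_i_rc_41_3 lc_i_rc_33_1) (@D3.rec (fun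 _ => (Cert rels S Gen.i)) lc_i_rc_39_1 lc_i_rc_33_1 lc_i_rc_26_1 lc_i_rc_39_1 lc_i_rc_9_3 lc_i_rc_9_3 lc_i_rc_26_1 lc_i_rc_26_1 lc_i_rc_33_1 lc_i_rc_39_1 lc_i_rc_33_1 lc_i_rc_26_1 lc_i_rc_33_1 lc_i_rc_18_1 lc_i_rc_26_3 lc_i_rc_39_1 lc_i_rc_39_1 lc_i_rc_54_0 lc_i_rc_39_3 lc_i_rc_54_0 lc_i_rc_54_0 lc_i_rc_9_1 lc_i_rc_33_1 lc_i_rc_54_0 lc_i_rc_41_3 lc_i_rc_9_1 lc_i_rc_54_0 lc_i_rc_39_3 lc_i_rc_18_1 lc_i_rc_33_1 lc_i_rc_50_1 lc_i_rc_9_1 lc_i_rc_33_1 lc_i_rc_39_1 lc_i_rc_18_3 lc_i_rc_26_1 lc_i_rc_54_0 lc_i_rc_46_1 lc_i_rc_33_1 lc_i_rc_39_1 lc_i_rc_33_1 lc_i_rc_41_3 lc_i_rc_33_1 lc_i_rc_39_1 lc_i_rc_39_1 lc_i_rc_33_1 lc_i_rc_26_1 lc_i_rc_18_3 lc_i_rc_33_1 lc_i_rc_39_1 lc_i_rc_18_1) (@D3.rec (fun _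 => (Cert rels S Gen.i)) lc_i_rc_41_3 lc_i_rc_33_1 lc_i_rc_33_1 lc_i_rc_26_1 lc_i_rc_33_1 lc_i_rc_46_1 lc_i_rc_39_1 lc_i_rc_33_1 lc_i_rc_26_1 lc_i_rc_33_1 lc_i_rc_18_1 lc_i_rc_46_1 lc_i_rc_33_1 lc_i_rc_26_1 lc_i_rc_39_1 lc_i_rc_33_1 lc_i_rc_39_1 lc_i_rc_26_1 lc_i_rc_54_0 lc_i_rc_46_1 lc_i_rc_33_1 lc_i_rc_26_1 lc_i_rc_39_1 lc_i_rc_33_1 lc_i_rc_33_1 lc_i_rc_39_1 lc_i_rc_26_1 lc_i_rc_33_1 lc_i_rc_46_1 lc_i_rc_26_1 lc_i_rc_33_1 lc_i_rc_26_1 lc_i_rc_33_1 lc_i_rc_18_1 lc_i_rc_46_3 lc_i_rc_33_1 lc_i_rc_39_1 lc_i_rc_41_3 lc_i_rc_33_1 lc_i_rc_33_1 lc_i_rc_26_1 lc_i_rc_33_1 lc_i_rc_39_1 lc_i_rc_33_1 lc_i_rc_26_1 lc_i_rc_39_1 lc_i_rc_39_1 lc_i_rc_33_1 lc_i_rc_26_1 lc_i_rc_18_1 lc_i_rc_26_1) (@D3.rec (fun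 _ => (Cert rels S Gen.i)) lc_i_rc_33_1 lc_i_rc_39_1 lc_i_rc_33_1 lc_i_rc_26_1 lc_i_rc_33_1 lc_i_rc_18_1 lc_i_rc_26_1 lc_i_rc_9_1 lc_i_rc_46_1 lc_i_rc_39_3 lc_i_rc_26_3 lc_i_rc_39_1 lc_i_rc_18_1 lc_i_rc_26_1 lc_i_rc_39_1 lc_i_rc_18_1 lc_i_rc_33_1 lc_i_rc_39_1 lc_i_rc_46_1 lc_i_rc_18_1 lc_i_rc_26_1 lc_i_rc_33_1 lc_i_rc_18_1 lc_i_Cert_tree lc_i_rc_33_1 lc_i_rc_39_1 lc_i_rc_39_1 lc_i_rc_53_1 lc_i_rc_33_1 lc_i_rc_39_1 lc_i_rc_50_1 lc_i_rc_39_1 lc_i_rc_39_1 lc_i_rc_33_1 lc_i_rc_39_1 lc_i_rc_33_1 lc_i_rc_33_1 lc_i_rc_39_1 lc_i_rc_33_1 lc_i_rc_33_1 lc_i_rc_39_1 lc_i_rc_33_1 lc_i_rc_26_1 lc_i_rc_39_1 lc_i_rc_54_0 lc_i_rc_54_0 lc_i_rc_26_1 lc_i_rc_33_1 lc_i_rc_46_1 lc_i_rc_33_1 lc_i_rc_33_1) (@D3.rec (fun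 _ => (Cert rels S Gen.i)) lc_i_rc_39_1 lc_i_rc_33_1 lc_i_rc_18_3 lc_i_rc_33_1 lc_i_rc_39_1 lc_i_rc_39_1 lc_i_rc_33_1 lc_i_rc_26_1 lc_i_rc_46_1 lc_i_rc_33_1 lc_i_rc_26_1 lc_i_rc_39_1 lc_i_rc_18_1 lc_i_rc_26_1 lc_i_rc_33_1 lc_i_rc_39_1 lc_i_rc_18_3 lc_i_rc_26_1 lc_i_rc_33_1 lc_i_rc_46_1 lc_i_rc_33_1 lc_i_rc_26_1 lc_i_rc_33_1 lc_i_rc_18_1 lc_i_rc_39_1 lc_i_rc_26_1 lc_i_rc_18_3 lc_i_rc_33_1 lc_i_rc_33_1 lc_i_rc_54_0 lc_i_rc_39_1 lc_i_rc_26_1 lc_i_rc_33_1 lc_i_rc_39_1 lc_i_rc_26_1 lc_i_rc_9_1 lc_i_rc_54_0 lc_i_rc_54_0 lc_i_rc_26_1 lc_i_rc_33_1 lc_i_rc_9_1 lc_i_rc_33_1 lc_i_rc_39_1 lc_i_rc_33_1 lc_i_rc_39_1 lc_i_rc_33_1 lc_i_rc_41_3 lc_i_rc_39_1 lc_i_rc_33_1 lc_i_rc_39_1 lc_i_rc_33_1) (@D3.rec (fun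 _ => (Cert rels S Gen.i)) lc_i_rc_26_1 lc_i_rc_46_1 lc_i_rc_26_1 lc_i_rc_39_1 lc_i_rc_53_1 lc_i_rc_33_1 lc_i_rc_50_1 lc_i_rc_18_1 lc_i_rc_26_1 lc_i_rc_33_1 lc_i_rc_46_1 lc_i_rc_39_1 lc_i_rc_33_1 lc_i_rc_26_1 lc_i_rc_33_1 lc_i_rc_46_1 lc_i_rc_26_1 lc_i_rc_33_1 lc_i_rc_18_1 lc_i_rc_46_1 lc_i_rc_33_1 lc_i_rc_26_3 lc_i_rc_50_1 lc_i_rc_26_1 lc_i_rc_33_1 lc_i_rc_26_1 lc_i_rc_18_1 lc_i_rc_54_0 lc_i_rc_54_0 lc_i_rc_26_1 lc_i_rc_33_1 lc_i_rc_46_1 lc_i_rc_33_1 lc_i_rc_18_1 lc_i_rc_18_1 lc_i_rc_54_0 lc_i_rc_41_3 lc_i_rc_26_1 lc_i_rc_33_1 lc_i_rc_39_1 lc_i_rc_33_1 lc_i_rc_26_1 lc_i_rc_33_1 lc_i_rc_54_0 lc_i_rc_41_3 lc_i_rc_33_1 lc_i_rc_39_1 lc_i_rc_33_1 lc_i_rc_26_1 lc_i_rc_46_1 lc_i_rc_33_1)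
def ce_i_18 : D2 → D3 → (Cert rels S Gen.i) := @D2.rec (fun _ => D3 → (Cert rels S Gen.i)) (@D3.rec (fun _ => (Cert rels S Gen.i)) lc_i_rc_39_1 lc_i_rc_41_3 lc_i_rc_33_1 lc_i_rc_33_1 lc_i_rc_26_1 lc_i_rc_33_1 lc_i_rc_46_1 lc_i_rc_33_1 lc_i_rc_26_1 lc_i_rc_33_1 lc_i_rc_18_1 lc_i_rc_39_1 lc_i_rc_46_1 lc_i_rc_39_1 lc_i_rc_39_1 lc_i_rc_26_1 lc_i_rc_33_1 lc_i_rc_26_1 lc_i_rc_54_0 lc_i_rc_41_3 lc_i_rc_41_3 lc_i_rc_33_1 lc_i_rc_9_1 lc_i_rc_26_1 lc_i_rc_33_1 lc_i_rc_26_1 lc_i_rc_33_1 lc_i_rc_18_1 lc_i_rc_9_3 lc_i_rc_33_1 lc_i_rc_41_3 lc_i_rc_41_3 lc_i_rc_33_1 lc_i_rc_33_1 lc_i_rc_26_1 lc_i_rc_33_1 lc_i_rc_46_1 lc_i_rc_41_3 lc_i_rc_33_1 lc_i_rc_33_1 lc_i_rc_26_1 lc_i_rc_39_1 lc_i_rc_33_1 lc_i_rc_26_1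 lc_i_rc_33_1 lc_i_rc_18_1 lc_i_rc_26_1 lc_i_rc_33_1 lc_i_rc_39_1 lc_i_rc_33_1 lc_i_rc_26_1) (@D3.rec (fun _ => (Cert rels S Gen.i)) lc_i_rc_33_1 lc_i_rc_18_1 lc_i_rc_26_1 lc_i_rc_9_1 lc_i_rc_46_3 lc_i_rc_39_1 lc_i_rc_46_1 lc_i_rc_26_3 lc_i_rc_39_1 lc_i_rc_39_1 lc_i_rc_33_1 lc_i_rc_33_1 lc_i_rc_18_1 lc_i_Cert_tree lc_i_rc_33_1 lc_i_rc_39_1 lc_i_rc_33_1 lc_i_rc_33_1 lc_i_rc_39_1 lc_i_rc_26_1 lc_i_rc_39_1 lc_i_rc_26_1 lc_i_rc_46_1 lc_i_rc_26_1 lc_i_rc_33_1 lc_i_rc_33_1 lc_i_rc_26_1 lc_i_rc_26_1 lc_i_rc_33_1 lc_i_rc_26_1 lc_i_rc_26_1 lc_i_rc_33_1 lc_i_rc_18_1 lc_i_rc_18_1 lc_i_rc_18_1 lc_i_rc_33_1 lc_i_rc_39_1 lc_i_rc_33_1 lc_i_rc_26_1 lc_i_rc_46_1 lc_i_rc_33_1 lc_i_rc_33_1 lc_i_rc_26_1 lc_i_rc_26_1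 lc_i_rc_33_1 lc_i_rc_18_1 lc_i_rc_39_1 lc_i_rc_33_1 lc_i_rc_33_1 lc_i_rc_26_1 lc_i_rc_26_1) (@D3.rec (fun _ => (Cert rels S Gen.i)) lc_i_rc_26_1 lc_i_rc_33_1 lc_i_rc_18_1 lc_i_rc_26_1 lc_i_rc_26_1 lc_i_rc_26_1 lc_i_rc_18_1 lc_i_rc_33_1 lc_i_rc_26_1 lc_i_rc_33_1 lc_i_rc_18_1 lc_i_rc_26_1 lc_i_rc_9_1 lc_i_rc_39_1 lc_i_rc_33_1 lc_i_rc_46_1 lc_i_Cert_tree lc_i_rc_33_1 lc_i_rc_26_1 lc_i_rc_18_3 lc_i_rc_33_1 lc_i_rc_39_1 lc_i_rc_26_1 lc_i_rc_33_1 lc_i_rc_26_1 lc_i_rc_33_1 lc_i_rc_18_1 lc_i_rc_26_3 lc_i_rc_33_1 lc_i_rc_26_1 lc_i_rc_33_1 lc_i_rc_39_1 lc_i_rc_33_1 lc_i_rc_26_1 lc_i_rc_46_1 lc_i_rc_33_1 lc_i_rc_39_1 lc_i_rc_33_1 lc_i_rc_26_1 lc_i_rc_26_1 lc_i_rc_33_1 lc_i_rc_18_1 lc_i_rc_33_1 lc_i_rc_26_1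 lc_i_rc_39_1 lc_i_rc_26_1 lc_i_rc_18_1 lc_i_rc_33_1 lc_i_rc_33_1 lc_i_rc_26_1 lc_i_rc_41_3) (@D3.rec (fun _ => (Cert rels S Gen.i)) lc_i_rc_41_1 lc_i_rc_50_1 lc_i_rc_33_1 lc_i_rc_26_1 lc_i_rc_33_1 lc_i_rc_26_1 lc_i_rc_33_1 lc_i_rc_18_1 lc_i_rc_41_3 lc_i_rc_41_1 lc_i_rc_26_1 lc_i_rc_41_3 lc_i_rc_33_1 lc_i_rc_33_1 lc_i_rc_26_1 lc_i_rc_26_1 lc_i_rc_33_1 lc_i_rc_18_1 lc_i_rc_18_1 lc_i_rc_26_1 lc_i_rc_9_1 lc_i_rc_50_1 lc_i_rc_46_1 lc_i_rc_53_1 lc_i_rc_26_1 lc_i_rc_39_1 lc_i_rc_26_1 lc_i_rc_39_1 lc_i_rc_33_1 lc_i_rc_26_1 lc_i_rc_46_1 lc_i_Cert_tree lc_i_rc_9_1 lc_i_rc_53_1 lc_i_rc_18_1 lc_i_rc_26_1 lc_i_rc_33_1 lc_i_rc_18_1 lc_i_rc_33_1 lc_i_rc_26_1 lc_i_rc_18_1 lc_i_rc_50_3 lc_i_rc_18_3 lc_i_rc_26_1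 lc_i_rc_18_1 lc_i_rc_26_1 lc_i_rc_18_1 lc_i_rc_26_3 lc_i_rc_41_3 lc_i_rc_33_1 lc_i_rc_9_3) (@D3.rec (fun _ => (Cert rels S Gen.i)) lc_i_rc_33_1 lc_i_rc_26_1 lc_i_rc_39_1 lc_i_rc_46_1 lc_i_rc_46_1 lc_i_rc_26_1 lc_i_rc_39_1 lc_i_rc_18_1 lc_i_rc_33_1 lc_i_rc_46_1 lc_i_rc_33_1 lc_i_rc_26_1 lc_i_rc_33_1 lc_i_rc_39_1 lc_i_rc_33_1 lc_i_rc_26_1 lc_i_rc_39_1 lc_i_rc_33_1 lc_i_rc_26_1 lc_i_rc_33_1 lc_i_rc_18_1 lc_i_rc_39_3 lc_i_rc_26_1 lc_i_rc_41_3 lc_i_rc_33_1 lc_i_rc_33_1 lc_i_rc_26_1 lc_i_rc_33_1 lc_i_rc_26_1 lc_i_rc_33_1 lc_i_rc_18_1 lc_i_rc_33_1 lc_i_rc_26_1 lc_i_rc_33_1 lc_i_rc_18_1 lc_i_rc_26_1 lc_i_rc_9_1 lc_i_rc_33_1 lc_i_rc_33_1 lc_i_rc_26_1 lc_i_rc_39_1 lc_i_rc_18_1 lc_i_rc_26_1 lc_i_rc_26_1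 lc_i_rc_39_1 lc_i_rc_26_1 lc_i_rc_18_1 lc_i_rc_33_1 lc_i_rc_33_1 lc_i_rc_33_1 lc_i_rc_18_1) (@D3.rec (fun _ => (Cert rels S Gen.i)) lc_i_rc_33_1 lc_i_rc_26_1 lc_i_rc_33_1 lc_i_rc_46_1 lc_i_rc_33_1 lc_i_rc_26_1 lc_i_rc_39_1 lc_i_rc_18_1 lc_i_rc_33_1 lc_i_rc_33_1 lc_i_rc_26_1 lc_i_rc_50_3 lc_i_rc_41_3 lc_i_rc_33_1 lc_i_rc_33_1 lc_i_rc_26_1 lc_i_rc_18_1 lc_i_rc_33_1 lc_i_rc_26_1 lc_i_rc_53_1 lc_i_rc_18_1 lc_i_rc_26_1 lc_i_rc_33_1 lc_i_rc_26_1 lc_i_rc_33_1 lc_i_rc_18_1 lc_i_rc_26_1 lc_i_rc_9_1 lc_i_rc_26_1 lc_i_rc_18_3 lc_i_rc_33_1 lc_i_rc_26_1 lc_i_rc_33_1 lc_i_rc_26_1 lc_i_rc_33_1 lc_i_rc_18_1 lc_i_rc_26_1 lc_i_rc_53_3 lc_i_rc_41_3 lc_i_rc_33_1 lc_i_rc_33_1 lc_i_rc_26_1 lc_i_rc_39_1 lc_i_rc_26_1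 lc_i_rc_39_1 lc_i_rc_18_1 lc_i_rc_26_1 lc_i_rc_41_3 lc_i_rc_18_1 lc_i_rc_26_1 lc_i_rc_33_1) (@D3.rec (fun _ => (Cert rels S Gen.i)) lc_i_rc_18_1 lc_i_rc_26_1 lc_i_rc_33_1 lc_i_rc_9_1 lc_i_rc_18_1 lc_i_rc_26_1 lc_i_rc_26_1 lc_i_rc_33_1 lc_i_rc_18_1 lc_i_rc_26_1 lc_i_rc_9_1 lc_i_rc_18_1 lc_i_rc_26_1 lc_i_rc_39_1 lc_i_rc_18_1 lc_i_rc_9_3 lc_i_rc_9_3 lc_i_rc_39_1 lc_i_rc_26_1 lc_i_rc_39_1 lc_i_rc_18_1 lc_i_rc_26_1 lc_i_rc_46_1 lc_i_rc_33_1 lc_i_rc_18_1 lc_i_rc_33_1 lc_i_rc_18_1 lc_i_rc_39_1 lc_i_rc_33_1 lc_i_rc_26_1 lc_i_rc_33_1 lc_i_rc_39_1 lc_i_rc_18_1 lc_i_Cert_tree lc_i_rc_26_1 lc_i_rc_26_1 lc_i_rc_9_1 lc_i_rc_18_1 lc_i_rc_33_1 lc_i_rc_26_1 lc_i_rc_9_1 lc_i_rc_18_1 lc_i_Cert_tree lc_i_rc_33_1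 lc_i_Cert_tree lc_i_rc_9_1 lc_i_rc_26_1 lc_i_rc_9_3 lc_i_rc_54_0 lc_i_rc_26_1 lc_i_rc_33_1) (@D3.rec (fun _ => (Cert rels S Gen.i)) lc_i_rc_18_1 lc_i_rc_9_1 lc_i_rc_9_1 lc_i_rc_26_1 lc_i_rc_18_1 lc_i_rc_26_1 lc_i_rc_18_1 lc_i_rc_26_1 lc_i_rc_26_1 lc_i_rc_18_1 lc_i_rc_18_1 lc_i_rc_26_1 lc_i_rc_26_1 lc_i_rc_41_1 lc_i_rc_46_1 lc_i_rc_26_1 lc_i_rc_33_1 lc_i_rc_26_1 lc_i_rc_50_1 lc_i_rc_26_1 lc_i_rc_41_1 lc_i_rc_18_1 lc_i_rc_26_1 lc_i_rc_41_1 lc_i_rc_9_1 lc_i_rc_46_1 lc_i_rc_50_1 lc_i_rc_33_1 lc_i_rc_9_1 lc_i_rc_26_1 lc_i_rc_26_1 lc_i_rc_18_1 lc_i_rc_18_1 lc_i_rc_33_1 lc_i_rc_26_1 lc_i_rc_33_1 lc_i_rc_18_1 lc_i_rc_26_1 lc_i_rc_9_1 lc_i_rc_26_1 lc_i_rc_18_1 lc_i_rc_33_1 lc_i_rc_26_1 lc_i_rc_33_1 lc_i_rc_18_1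 lc_i_rc_18_1 lc_i_rc_18_1 lc_i_rc_33_1 lc_i_rc_9_3 lc_i_rc_9_1 lc_i_rc_26_1) (@D3.rec (fun _ => (Cert rels S Gen.i)) lc_i_rc_33_1 lc_i_rc_39_1 lc_i_rc_9_3 lc_i_rc_33_1 lc_i_rc_53_1 lc_i_rc_33_1 lc_i_rc_33_1 lc_i_rc_39_1 lc_i_rc_26_1 lc_i_rc_53_1 lc_i_rc_33_1 lc_i_rc_26_1 lc_i_rc_33_1 lc_i_rc_39_1 lc_i_rc_33_1 lc_i_rc_26_1 lc_i_rc_39_1 lc_i_rc_26_1 lc_i_rc_33_1 lc_i_rc_18_1 lc_i_rc_26_1 lc_i_rc_33_1 lc_i_rc_18_1 lc_i_rc_9_1 lc_i_rc_18_1 lc_i_rc_53_1 lc_i_rc_50_1 lc_i_rc_18_1 lc_i_rc_9_1 lc_i_rc_18_1 lc_i_rc_39_1 lc_i_rc_33_1 lc_i_rc_9_1 lc_i_rc_26_1 lc_i_rc_39_1 lc_i_rc_26_1 lc_i_rc_33_1 lc_i_rc_46_1 lc_i_rc_41_1 lc_i_rc_26_1 lc_i_rc_46_1 lc_i_rc_33_1 lc_i_rc_26_1 lc_i_rc_41_1 lc_i_rc_46_1 lc_i_rc_41_3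 lc_i_rc_33_1 lc_i_rc_39_1 lc_i_rc_26_1 lc_i_rc_26_1 lc_i_rc_33_1) (@D3.rec (fun _ => (Cert rels S Gen.i)) lc_i_rc_39_1 lc_i_rc_41_3 lc_i_rc_33_1 lc_i_rc_26_1 lc_i_rc_33_1 lc_i_rc_18_1 lc_i_rc_33_1 lc_i_rc_33_1 lc_i_rc_26_1 lc_i_rc_33_1 lc_i_rc_39_3 lc_i_rc_33_1 lc_i_rc_26_1 lc_i_rc_39_1 lc_i_rc_26_1 lc_i_rc_18_1 lc_i_rc_26_1 lc_i_rc_26_1 lc_i_rc_18_1 lc_i_rc_9_1 lc_i_rc_9_3 lc_i_rc_26_1 lc_i_rc_33_1 lc_i_rc_46_1 lc_i_rc_26_1 lc_i_rc_9_3 lc_i_rc_18_1 lc_i_rc_50_1 lc_i_rc_26_1 lc_i_rc_33_1 lc_i_rc_41_3 lc_i_rc_33_1 lc_i_rc_33_1 lc_i_rc_26_1 lc_i_rc_39_1 lc_i_rc_26_1 lc_i_rc_9_3 lc_i_rc_18_1 lc_i_rc_26_1 lc_i_rc_33_1 lc_i_rc_39_1 lc_i_rc_46_1 lc_i_rc_9_1 lc_i_rc_33_1 lc_i_rc_26_1 lc_i_rc_46_3 lc_i_rc_33_1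 lc_i_rc_26_1 lc_i_rc_39_1 lc_i_rc_33_1 lc_i_rc_26_1) (@D3.rec (fun _ => (Cert rels S Gen.i)) lc_i_rc_33_1 lc_i_rc_18_1 lc_i_rc_26_1 lc_i_rc_46_1 lc_i_rc_33_1 lc_i_rc_26_1 lc_i_rc_39_1 lc_i_rc_26_1 lc_i_rc_39_1 lc_i_rc_18_1 lc_i_rc_26_1 lc_i_rc_46_1 lc_i_rc_39_3 lc_i_rc_26_1 lc_i_rc_33_1 lc_i_rc_18_1 lc_i_rc_26_1 lc_i_rc_9_1 lc_i_rc_18_1 lc_i_rc_26_1 lc_i_rc_26_1 lc_i_rc_18_1 lc_i_rc_9_1 lc_i_rc_33_1 lc_i_rc_18_1 lc_i_rc_39_1 lc_i_rc_39_1 lc_i_rc_39_1 lc_i_rc_46_1 lc_i_rc_33_1 lc_i_rc_39_1 lc_i_rc_46_1 lc_i_rc_26_1 lc_i_rc_26_1 lc_i_rc_26_1 lc_i_rc_33_1 lc_i_rc_46_1 lc_i_rc_18_1 lc_i_rc_41_3 lc_i_rc_33_1 lc_i_rc_26_1 lc_i_rc_33_1 lc_i_rc_46_1 lc_i_rc_18_1 lc_i_rc_41_1 lc_i_rc_41_3 lc_i_rc_33_1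 lc_i_rc_33_1 lc_i_rc_26_1 lc_i_rc_39_1 lc_i_rc_26_1) (@D3.rec (fun _ => (Cert rels S Gen.i)) lc_i_rc_33_1 lc_i_rc_18_1 lc_i_rc_26_1 lc_i_rc_33_1 lc_i_rc_39_1 lc_i_rc_46_1 lc_i_rc_9_1 lc_i_rc_26_1 lc_i_rc_39_1 lc_i_rc_46_1 lc_i_rc_41_3 lc_i_rc_26_1 lc_i_rc_33_1 lc_i_rc_18_1 lc_i_rc_26_1 lc_i_rc_46_1 lc_i_rc_18_1 lc_i_rc_26_1 lc_i_rc_33_1 lc_i_rc_9_1 lc_i_rc_26_1 lc_i_rc_33_1 lc_i_rc_46_1 lc_i_rc_33_1 lc_i_rc_26_1 lc_i_rc_39_1 lc_i_rc_18_1 lc_i_rc_26_1 lc_i_rc_33_1 lc_i_rc_9_1 lc_i_rc_26_1 lc_i_rc_46_3 lc_i_rc_26_1 lc_i_rc_18_1 lc_i_rc_50_1 lc_i_rc_26_1 lc_i_rc_50_3 lc_i_rc_18_1 lc_i_rc_26_1 lc_i_rc_41_1 lc_i_rc_26_1 lc_i_rc_33_1 lc_i_rc_26_1 lc_i_rc_39_1 lc_i_rc_26_1 lc_i_rc_18_1 lc_i_rc_26_1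 lc_i_rc_18_1 lc_i_rc_26_1 lc_i_rc_39_1 lc_i_rc_18_1) (@D3.rec (fun _ => (Cert rels S Gen.i)) lc_i_rc_26_1 lc_i_rc_26_1 lc_i_rc_54_1 lc_i_rc_33_1 lc_i_rc_9_1 lc_i_rc_18_1 lc_i_rc_26_1 lc_i_rc_33_1 lc_i_rc_46_3 lc_i_rc_41_1 lc_i_rc_33_1 lc_i_rc_26_1 lc_i_rc_18_1 lc_i_rc_9_1 lc_i_rc_46_1 lc_i_rc_26_1 lc_i_rc_18_1 lc_i_rc_18_1 lc_i_rc_9_1 lc_i_rc_33_1 lc_i_rc_26_1 lc_i_rc_18_3 lc_i_rc_39_3 lc_i_rc_18_3 lc_i_rc_18_1 lc_i_rc_33_1 lc_i_rc_26_1 lc_i_rc_18_1 lc_i_rc_26_1 lc_i_rc_26_1 lc_i_rc_18_3 lc_i_rc_18_1 lc_i_rc_26_1 lc_i_rc_46_1 lc_i_rc_9_1 lc_i_rc_9_1 lc_i_rc_26_1 lc_i_rc_26_1 lc_i_rc_33_1 lc_i_rc_18_1 lc_i_rc_26_1 lc_i_rc_39_1 lc_i_rc_50_1 lc_i_rc_18_1 lc_i_rc_26_1 lc_i_rc_9_1 lc_i_rc_9_1 lc_i_rc_39_1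 lc_i_rc_26_1 lc_i_rc_53_1 lc_i_rc_50_3) (@D3.rec (fun _ => (Cert rels S Gen.i)) lc_i_rc_18_1 lc_i_rc_9_1 lc_i_rc_26_1 lc_i_rc_26_1 lc_i_rc_39_1 lc_i_rc_50_1 lc_i_rc_26_1 lc_i_rc_18_1 lc_i_rc_9_1 lc_i_rc_26_1 lc_i_rc_26_1 lc_i_rc_18_1 lc_i_rc_26_1 lc_i_rc_18_1 lc_i_rc_9_1 lc_i_rc_33_1 lc_i_rc_33_3 lc_i_rc_18_3 lc_i_rc_26_1 lc_i_rc_18_1 lc_i_rc_26_1 lc_i_rc_33_1 lc_i_rc_26_1 lc_i_rc_39_1 lc_i_rc_46_1 lc_i_rc_26_1 lc_i_rc_26_3 lc_i_rc_33_1 lc_i_rc_26_1 lc_i_rc_26_1 lc_i_rc_39_1 lc_i_rc_18_1 lc_i_rc_26_1 lc_i_rc_26_1 lc_i_rc_18_1 lc_i_rc_9_1 lc_i_rc_26_1 lc_i_rc_33_1 lc_i_rc_41_3 lc_i_rc_26_1 lc_i_rc_26_1 lc_i_rc_33_1 lc_i_rc_18_1 lc_i_rc_41_3 lc_i_rc_33_1 lc_i_rc_33_1 lc_i_rc_26_1 lc_i_rc_39_1 lc_i_rc_26_1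 lc_i_rc_18_1 lc_i_rc_33_1) (@D3.rec (fun _ => (Cert rels S Gen.i)) lc_i_rc_26_1 lc_i_rc_33_1 lc_i_rc_18_1 lc_i_rc_26_1 lc_i_rc_9_1 lc_i_rc_26_1 lc_i_rc_18_1 lc_i_rc_9_1 lc_i_rc_26_1 lc_i_rc_39_1 lc_i_rc_26_1 lc_i_rc_39_1 lc_i_rc_18_1 lc_i_rc_26_1 lc_i_rc_53_3 lc_i_rc_18_1 lc_i_rc_26_1 lc_i_rc_9_1 lc_i_rc_26_1 lc_i_rc_41_3 lc_i_rc_18_1 lc_i_rc_46_3 lc_i_rc_46_1 lc_i_rc_26_1 lc_i_rc_33_1 lc_i_rc_9_1 lc_i_rc_18_1 lc_i_rc_26_1 lc_i_rc_33_1 lc_i_rc_26_1 lc_i_rc_50_1 lc_i_rc_18_3 lc_i_rc_26_1 lc_i_rc_18_1 lc_i_rc_26_1 lc_i_rc_33_1 lc_i_rc_18_1 lc_i_rc_26_1 lc_i_rc_9_1 lc_i_rc_33_1 lc_i_rc_26_1 lc_i_rc_39_1 lc_i_rc_26_1 lc_i_rc_39_1 lc_i_rc_18_1 lc_i_rc_26_1 lc_i_rc_18_1 lc_i_rc_9_1 lc_i_rc_26_1 lc_i_rc_33_1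 lc_i_rc_18_1) (@D3.rec (fun _ => (Cert rels S Gen.i)) lc_i_rc_26_1 lc_i_rc_46_1 lc_i_rc_9_1 lc_i_rc_18_1 lc_i_rc_26_1 lc_i_rc_9_1 lc_i_rc_18_1 lc_i_rc_18_1 lc_i_rc_9_1 lc_i_rc_26_1 lc_i_rc_39_1 lc_i_rc_18_3 lc_i_rc_39_1 lc_i_rc_50_1 lc_i_rc_39_1 lc_i_rc_46_1 lc_i_rc_33_1 lc_i_rc_26_1 lc_i_rc_39_1 lc_i_rc_18_3 lc_i_rc_26_1 lc_i_rc_33_1 lc_i_rc_33_1 lc_i_rc_26_1 lc_i_rc_33_1 lc_i_rc_18_1 lc_i_rc_26_1 lc_i_rc_33_1 lc_i_rc_26_1 lc_i_rc_18_1 lc_i_rc_26_1 lc_i_rc_26_1 lc_i_rc_33_1 lc_i_rc_18_1 lc_i_rc_39_1 lc_i_rc_18_1 lc_i_rc_18_1 lc_i_rc_33_1 lc_i_rc_26_1 lc_i_rc_18_3 lc_i_rc_18_1 lc_i_rc_26_1 lc_i_rc_9_1 lc_i_rc_46_3 lc_i_rc_33_1 lc_i_Cert_tree lc_i_rc_9_1 lc_i_rc_9_1 lc_i_rc_18_1 lc_i_rc_18_1 lc_i_rc_26_3)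 (@D3.rec (fun _ => (Cert rels S Gen.i)) lc_i_rc_53_1 lc_i_rc_55_26 lc_i_rc_9_1 lc_i_rc_9_1 lc_i_rc_9_1 lc_i_rc_33_1 lc_i_rc_41_3 lc_i_rc_33_1 lc_i_rc_39_1 lc_i_rc_39_1 lc_i_rc_33_1 lc_i_rc_26_1 lc_i_rc_41_3 lc_i_rc_33_1 lc_i_rc_26_1 lc_i_rc_33_1 lc_i_rc_46_1 lc_i_rc_26_1 lc_i_rc_33_1 lc_i_rc_18_1 lc_i_rc_46_1 lc_i_rc_33_1 lc_i_rc_26_1 lc_i_rc_39_1 lc_i_rc_26_1 lc_i_rc_26_1 lc_i_rc_33_1 lc_i_rc_26_1 lc_i_rc_33_1 lc_i_rc_46_1 lc_i_rc_33_1 lc_i_rc_26_1 lc_i_rc_33_1 lc_i_rc_18_1 lc_i_rc_41_3 lc_i_rc_33_1 lc_i_rc_26_1 lc_i_rc_33_1 lc_i_rc_41_3 lc_i_rc_33_1 lc_i_rc_33_1 lc_i_rc_26_1 lc_i_rc_39_1 lc_i_rc_26_1 lc_i_rc_33_1 lc_i_rc_18_1 lc_i_rc_26_1 lc_i_rc_33_1 lc_i_rc_39_1 lc_i_rc_18_1 lc_i_rc_26_1)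 (@D3.rec (fun _ => (Cert rels S Gen.i)) lc_i_rc_9_1 lc_i_rc_33_1 lc_i_rc_39_1 lc_i_rc_18_1 lc_i_rc_50_1 lc_i_rc_26_1 lc_i_rc_39_1 lc_i_rc_26_1 lc_i_rc_39_1 lc_i_rc_39_1 lc_i_rc_33_1 lc_i_rc_26_1 lc_i_rc_46_1 lc_i_rc_18_1 lc_i_Cert_tree lc_i_rc_50_1 lc_i_rc_33_1 lc_i_rc_39_1 lc_i_rc_39_1 lc_i_rc_46_1 lc_i_rc_33_1 lc_i_rc_26_1 lc_i_rc_9_1 lc_i_rc_33_1 lc_i_rc_18_1 lc_i_rc_18_1 lc_i_rc_33_1 lc_i_rc_39_1 lc_i_rc_26_1 lc_i_rc_33_1 lc_i_rc_26_1 lc_i_rc_33_1 lc_i_rc_26_1 lc_i_rc_33_1 lc_i_rc_18_1 lc_i_rc_33_1 lc_i_rc_26_1 lc_i_rc_26_1 lc_i_rc_33_1 lc_i_rc_26_1 lc_i_rc_33_1 lc_i_rc_26_1 lc_i_rc_33_1 lc_i_rc_18_1 lc_i_rc_9_3 lc_i_rc_9_3 lc_i_rc_18_1 lc_i_rc_18_1 lc_i_rc_26_1 lc_i_rc_33_1 lc_i_rc_26_1)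 (@D3.rec (fun _ => (Cert rels S Gen.i)) lc_i_rc_33_1 lc_i_rc_18_1 lc_i_rc_26_1 lc_i_rc_9_1 lc_i_rc_39_1 lc_i_rc_18_1 lc_i_rc_50_1 lc_i_rc_18_1 lc_i_rc_9_1 lc_i_rc_33_1 lc_i_rc_39_1 lc_i_rc_41_3 lc_i_rc_41_3 lc_i_rc_26_1 lc_i_rc_18_1 lc_i_rc_39_3 lc_i_rc_33_1 lc_i_rc_26_1 lc_i_rc_39_1 lc_i_rc_33_1 lc_i_rc_33_1 lc_i_rc_26_1 lc_i_rc_39_1 lc_i_rc_46_1 lc_i_rc_26_1 lc_i_rc_53_3 lc_i_rc_39_3 lc_i_rc_46_1 lc_i_rc_33_1 lc_i_rc_26_1 lc_i_rc_33_1 lc_i_rc_39_1 lc_i_rc_41_3 lc_i_rc_26_1 lc_i_rc_33_1 lc_i_rc_46_1 lc_i_rc_33_1 lc_i_rc_26_1 lc_i_rc_33_1 lc_i_rc_18_1 lc_i_rc_33_1 lc_i_rc_26_1 lc_i_rc_33_1 lc_i_rc_33_1 lc_i_rc_33_1 lc_i_rc_26_1 lc_i_rc_39_1 lc_i_rc_26_1 lc_i_rc_18_1 lc_i_rc_26_1 lc_i_rc_33_1)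 (@D3.rec (fun _ => (Cert rels S Gen.i)) lc_i_rc_33_1 lc_i_rc_26_1 lc_i_rc_33_1 lc_i_rc_18_1 lc_i_rc_26_1 lc_i_rc_9_1 lc_i_rc_39_1 lc_i_rc_26_1 lc_i_rc_39_1 lc_i_rc_33_1 lc_i_rc_18_1 lc_i_rc_33_1 lc_i_rc_26_1 lc_i_rc_39_1 lc_i_rc_18_1 lc_i_rc_33_1 lc_i_rc_39_1 lc_i_rc_26_1 lc_i_rc_33_1 lc_i_rc_39_1 lc_i_rc_18_1 lc_i_rc_26_1 lc_i_rc_33_1 lc_i_rc_46_3 lc_i_rc_33_1 lc_i_rc_26_1 lc_i_rc_33_1 lc_i_rc_18_1 lc_i_rc_26_1 lc_i_rc_9_1 lc_i_rc_39_3 lc_i_rc_26_1 lc_i_rc_33_1 lc_i_rc_33_1 lc_i_rc_26_1 lc_i_rc_39_1 lc_i_rc_26_1 lc_i_rc_18_1 lc_i_rc_26_1 lc_i_rc_33_1 lc_i_rc_26_1 lc_i_rc_39_1 lc_i_rc_18_1 lc_i_rc_26_1 lc_i_rc_53_1 lc_i_rc_39_1 lc_i_rc_26_1 lc_i_rc_18_1 lc_i_rc_9_1 lc_i_rc_18_1 lc_i_rc_26_1)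 (@D3.rec (fun _ => (Cert rels S Gen.i)) lc_i_rc_33_1 lc_i_rc_26_1 lc_i_rc_33_1 lc_i_rc_18_1 lc_i_rc_26_1 lc_i_rc_9_1 lc_i_rc_18_1 lc_i_rc_26_1 lc_i_rc_50_1 lc_i_rc_46_1 lc_i_rc_18_1 lc_i_rc_33_1 lc_i_rc_33_1 lc_i_Cert_tree lc_i_rc_54_0 lc_i_rc_39_1 lc_i_rc_9_3 lc_i_rc_53_1 lc_i_rc_26_1 lc_i_rc_33_1 lc_i_rc_33_1 lc_i_rc_39_1 lc_i_rc_33_1 lc_i_rc_26_1 lc_i_rc_39_1 lc_i_rc_33_1 lc_i_rc_26_1 lc_i_rc_26_1 lc_i_rc_33_1 lc_i_rc_26_1 lc_i_rc_33_1 lc_i_rc_18_1 lc_i_rc_41_3 lc_i_rc_46_1 lc_i_rc_33_1 lc_i_rc_39_1 lc_i_rc_33_1 lc_i_rc_26_1 lc_i_rc_26_1 lc_i_rc_33_1 lc_i_rc_39_1 lc_i_rc_18_3 lc_i_rc_26_1 lc_i_rc_33_1 lc_i_rc_46_1 lc_i_rc_33_1 lc_i_rc_26_1 lc_i_rc_33_1 lc_i_rc_18_1 lc_i_rc_39_1 lc_i_rc_26_1)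 (@D3.rec (fun _ => (Cert rels S Gen.i)) lc_i_rc_26_1 lc_i_rc_18_1 lc_i_rc_26_1 lc_i_rc_33_1 lc_i_rc_26_1 lc_i_rc_18_3 lc_i_rc_18_1 lc_i_rc_26_1 lc_i_rc_33_1 lc_i_rc_26_1 lc_i_rc_33_1 lc_i_rc_18_1 lc_i_rc_26_1 lc_i_rc_9_1 lc_i_rc_33_1 lc_i_rc_26_1 lc_i_rc_33_1 lc_i_rc_26_1 lc_i_rc_18_1 lc_i_rc_9_3 lc_i_rc_26_1 lc_i_rc_33_1 lc_i_rc_18_1 lc_i_rc_33_1 lc_i_rc_26_1 lc_i_rc_26_1 lc_i_rc_33_1 lc_i_rc_39_1 lc_i_rc_33_1 lc_i_rc_26_1 lc_i_rc_33_1 lc_i_rc_26_1 lc_i_rc_33_1 lc_i_rc_39_1 lc_i_rc_41_3 lc_i_rc_33_1 lc_i_rc_26_1 lc_i_rc_33_1 lc_i_rc_46_1 lc_i_rc_26_1 lc_i_rc_33_1 lc_i_rc_18_1 lc_i_rc_26_1 lc_i_rc_26_1 lc_i_rc_26_1 lc_i_rc_18_1 lc_i_rc_26_1 lc_i_rc_18_1 lc_i_rc_26_1 lc_i_rc_33_1 lc_i_rc_39_1)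 (@D3.rec (fun _ => (Cert rels S Gen.i)) lc_i_rc_39_1 lc_i_rc_26_1 lc_i_rc_33_1 lc_i_rc_18_1 lc_i_rc_26_1 lc_i_rc_33_1 lc_i_rc_18_1 lc_i_rc_26_1 lc_i_rc_9_1 lc_i_rc_39_1 lc_i_rc_39_1 lc_i_rc_33_1 lc_i_Cert_tree lc_i_rc_18_1 lc_i_rc_26_1 lc_i_rc_33_1 lc_i_rc_33_1 lc_i_rc_26_1 lc_i_rc_18_1 lc_i_rc_26_1 lc_i_rc_18_1 lc_i_rc_41_3 lc_i_rc_33_1 lc_i_rc_33_1 lc_i_rc_26_1 lc_i_rc_39_1 lc_i_rc_46_1 lc_i_rc_26_1 lc_i_rc_39_1 lc_i_rc_18_1 lc_i_rc_26_1 lc_i_rc_41_3 lc_i_rc_33_1 lc_i_rc_26_1 lc_i_rc_33_1 lc_i_rc_26_1 lc_i_rc_33_1 lc_i_rc_18_1 lc_i_rc_46_1 lc_i_rc_26_1 lc_i_rc_33_1 lc_i_rc_46_1 lc_i_rc_33_1 lc_i_rc_26_1 lc_i_rc_39_1 lc_i_rc_26_1 lc_i_rc_33_1 lc_i_rc_18_1 lc_i_rc_26_1 lc_i_rc_33_1 lc_i_rc_26_1)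 (@D3.rec (fun _ => (Cert rels S Gen.i)) lc_i_rc_33_1 lc_i_rc_18_1 lc_i_rc_26_1 lc_i_rc_9_1 lc_i_rc_33_1 lc_i_rc_33_1 lc_i_rc_18_1 lc_i_rc_18_1 lc_i_rc_41_3 lc_i_rc_33_1 lc_i_rc_33_1 lc_i_rc_26_1 lc_i_rc_39_1 lc_i_rc_26_1 lc_i_rc_9_1 lc_i_rc_18_1 lc_i_rc_26_1 lc_i_rc_18_1 lc_i_rc_26_1 lc_i_rc_9_1 lc_i_rc_33_1 lc_i_rc_26_1 lc_i_rc_41_3 lc_i_rc_33_1 lc_i_rc_26_1 lc_i_rc_39_1 lc_i_rc_26_1 lc_i_rc_33_1 lc_i_rc_18_1 lc_i_rc_26_1 lc_i_rc_33_1 lc_i_rc_33_1 lc_i_rc_26_1 lc_i_rc_39_1 lc_i_rc_26_1 lc_i_rc_39_1 lc_i_rc_18_1 lc_i_rc_26_1 lc_i_rc_46_1 lc_i_rc_26_1 lc_i_rc_33_1 lc_i_rc_18_1 lc_i_rc_26_1 lc_i_rc_39_1 lc_i_rc_9_1 lc_i_rc_18_1 lc_i_rc_26_1 lc_i_rc_39_1 lc_i_rc_39_3 lc_i_rc_18_1 lc_i_rc_26_1) (@D3.rec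 (fun _ => (Cert rels S Gen.i)) lc_i_rc_9_1 lc_i_rc_18_1 lc_i_rc_26_1 lc_i_rc_46_1 lc_i_rc_9_3 lc_i_Cert_tree lc_i_Cert_tree lc_i_rc_26_1 lc_i_Cert_tree lc_i_rc_54_0 lc_i_rc_39_1 lc_i_rc_39_1 lc_i_rc_26_1 lc_i_rc_46_1 lc_i_rc_33_1 lc_i_rc_26_1 lc_i_rc_26_1 lc_i_rc_26_1 lc_i_rc_33_1 lc_i_rc_18_1 lc_i_rc_26_1 lc_i_rc_18_1 lc_i_rc_18_1 lc_i_rc_26_1 lc_i_rc_9_1 lc_i_rc_18_1 lc_i_rc_26_1 lc_i_rc_26_1 lc_i_rc_39_1 lc_i_rc_46_1 lc_i_rc_26_1 lc_i_rc_39_1 lc_i_rc_18_1 lc_i_rc_33_1 lc_i_rc_26_1 lc_i_rc_26_1 lc_i_rc_33_1 lc_i_rc_18_1 lc_i_rc_18_1 lc_i_rc_26_1 lc_i_rc_9_1 lc_i_rc_26_1 lc_i_rc_26_1 lc_i_rc_39_1 lc_i_rc_18_1 lc_i_rc_18_1 lc_i_rc_18_1 lc_i_rc_26_1 lc_i_rc_9_1 lc_i_rc_18_1 lc_i_rc_46_1) (@D3.rec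 (fun _ => (Cert rels S Gen.i)) lc_i_rc_18_1 lc_i_rc_9_1 lc_i_rc_26_1 lc_i_rc_33_1 lc_i_rc_18_1 lc_i_rc_26_1 lc_i_rc_9_1 lc_i_rc_18_1 lc_i_rc_26_1 lc_i_Cert_tree lc_i_rc_54_0 lc_i_rc_26_1 lc_i_rc_18_1 lc_i_rc_26_1 lc_i_rc_26_1 lc_i_rc_39_1 lc_i_rc_18_1 lc_i_rc_26_1 lc_i_rc_18_3 lc_i_rc_18_1 lc_i_rc_26_1 lc_i_rc_9_1 lc_i_rc_33_1 lc_i_rc_26_1 lc_i_rc_33_1 lc_i_rc_26_1 lc_i_rc_39_1 lc_i_rc_46_1 lc_i_rc_26_1 lc_i_rc_39_1 lc_i_rc_18_1 lc_i_rc_33_1 lc_i_rc_26_1 lc_i_rc_33_1 lc_i_rc_26_1 lc_i_rc_33_1 lc_i_rc_18_1 lc_i_rc_18_1 lc_i_rc_26_1 lc_i_rc_9_1 lc_i_rc_26_1 lc_i_rc_39_1 lc_i_rc_26_1 lc_i_rc_33_1 lc_i_rc_33_1 lc_i_rc_26_1 lc_i_rc_26_1 lc_i_rc_39_1 lc_i_rc_18_1 lc_i_rc_41_1 lc_i_rc_26_1) (@D3.rec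 (fun _ => (Cert rels S Gen.i)) lc_i_rc_33_1 lc_i_rc_26_1 lc_i_rc_33_1 lc_i_rc_18_1 lc_i_rc_26_1 lc_i_rc_33_1 lc_i_rc_18_1 lc_i_rc_26_1 lc_i_rc_9_1 lc_i_rc_39_1 lc_i_rc_26_1 lc_i_rc_41_1 lc_i_rc_33_1 lc_i_rc_26_1 lc_i_rc_39_1 lc_i_rc_26_1 lc_i_rc_18_1 lc_i_rc_18_1 lc_i_rc_26_1 lc_i_rc_9_1 lc_i_rc_9_1 lc_i_rc_18_1 lc_i_rc_26_1 lc_i_rc_50_1 lc_i_rc_39_1 lc_i_rc_39_1 lc_i_rc_26_1 lc_i_rc_46_1 lc_i_rc_33_1 lc_i_rc_33_1 lc_i_Cert_tree lc_i_rc_26_1 lc_i_rc_54_0 lc_i_rc_26_1 lc_i_rc_53_1 lc_i_rc_33_1 lc_i_rc_26_1 lc_i_rc_53_1 lc_i_rc_26_1 lc_i_rc_39_1 lc_i_rc_18_1 lc_i_rc_9_1 lc_i_rc_9_1 lc_i_rc_50_3 lc_i_rc_18_3 lc_i_rc_33_1 lc_i_rc_26_1 lc_i_rc_18_1 lc_i_rc_26_1 lc_i_rc_18_1 lc_i_rc_33_1)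
def ce_i_19 : D2 → D3 → (Cert rels S Gen.i) := @D2.rec (fun _ => D3 → (Cert rels S Gen.i)) (@D3.rec (fun _ => (Cert rels S Gen.i)) lc_i_rc_33_1 lc_i_rc_26_1 lc_i_rc_9_3 lc_i_rc_26_1 lc_i_rc_39_1 lc_i_rc_18_1 lc_i_rc_26_1 lc_i_rc_46_1 lc_i_rc_50_1 lc_i_rc_26_1 lc_i_rc_9_3 lc_i_rc_18_1 lc_i_rc_26_1 lc_i_rc_9_1 lc_i_rc_26_1 lc_i_rc_33_1 lc_i_rc_26_1 lc_i_rc_39_1 lc_i_rc_18_1 lc_i_rc_26_1 lc_i_rc_33_1 lc_i_rc_26_1 lc_i_rc_18_1 lc_i_rc_33_1 lc_i_rc_26_1 lc_i_rc_33_1 lc_i_rc_18_1 lc_i_rc_26_1 lc_i_rc_9_1 lc_i_rc_26_1 lc_i_rc_18_1 lc_i_rc_33_1 lc_i_rc_26_1 lc_i_rc_26_1 lc_i_rc_18_1 lc_i_rc_26_1 lc_i_rc_18_1 lc_i_rc_26_1 lc_i_rc_9_1 lc_i_rc_26_1 lc_i_rc_33_1 lc_i_rc_18_1 lc_i_rc_26_1 lc_i_rc_9_1 lc_i_rc_18_1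 lc_i_rc_26_1 lc_i_rc_26_1 lc_i_rc_39_1 lc_i_rc_18_1 lc_i_rc_26_1 lc_i_rc_46_1) (@D3.rec (fun _ => (Cert rels S Gen.i)) lc_i_rc_18_1 lc_i_rc_33_1 lc_i_rc_26_1 lc_i_rc_33_1 lc_i_rc_18_1 lc_i_Cert_tree lc_i_rc_26_1 lc_i_rc_26_1 lc_i_rc_33_1 lc_i_rc_26_1 lc_i_rc_39_1 lc_i_rc_18_1 lc_i_rc_26_1 lc_i_rc_46_1 lc_i_rc_26_1 lc_i_rc_39_1 lc_i_rc_18_1 lc_i_rc_26_1 lc_i_rc_9_1 lc_i_rc_26_1 lc_i_rc_26_1 lc_i_rc_33_1 lc_i_rc_18_1 lc_i_rc_46_1 lc_i_rc_33_1 lc_i_rc_26_1 lc_i_rc_53_3 lc_i_rc_26_1 lc_i_rc_18_1 lc_i_rc_18_1 lc_i_rc_26_1 lc_i_rc_9_3 lc_i_rc_18_1 lc_i_rc_26_1 lc_i_rc_9_1 lc_i_rc_18_1 lc_i_rc_26_1 lc_i_rc_33_1 lc_i_rc_18_1 lc_i_rc_26_1 lc_i_rc_33_1 lc_i_rc_9_1 lc_i_rc_18_1 lc_i_rc_26_1 lc_i_rc_18_1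 lc_i_rc_9_1 lc_i_rc_26_1 lc_i_rc_39_1 lc_i_rc_50_1 lc_i_rc_26_1 lc_i_rc_18_1) (@D3.rec (fun _ => (Cert rels S Gen.i)) lc_i_rc_26_1 lc_i_rc_9_1 lc_i_rc_18_1 lc_i_rc_53_3 lc_i_rc_33_1 lc_i_rc_26_1 lc_i_rc_39_1 lc_i_rc_26_1 lc_i_rc_39_1 lc_i_rc_18_1 lc_i_rc_26_1 lc_i_rc_41_3 lc_i_rc_18_1 lc_i_rc_26_1 lc_i_rc_9_1 lc_i_rc_18_1 lc_i_rc_33_1 lc_i_rc_26_1 lc_i_rc_26_1 lc_i_rc_33_1 lc_i_rc_18_1 lc_i_rc_26_1 lc_i_rc_33_1 lc_i_rc_9_1 lc_i_rc_18_1 lc_i_rc_26_1 lc_i_rc_26_1 lc_i_rc_9_1 lc_i_rc_18_1 lc_i_rc_18_1 lc_i_rc_26_1 lc_i_rc_9_1 lc_i_rc_18_1 lc_i_rc_26_1 lc_i_rc_9_1 lc_i_rc_18_1 lc_i_Cert_tree lc_i_rc_18_1 lc_i_rc_39_1 lc_i_rc_9_3 lc_i_rc_33_1 lc_i_rc_26_1 lc_i_rc_26_1 lc_i_rc_18_1 lc_i_rc_33_1 lc_i_rc_39_1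 lc_i_rc_18_1 lc_i_Cert_tree lc_i_rc_26_1 lc_i_Cert_tree lc_i_rc_33_1) (@D3.rec (fun _ => (Cert rels S Gen.i)) lc_i_Cert_tree lc_i_rc_33_1 lc_i_rc_26_1 lc_i_rc_9_3 lc_i_rc_54_0 lc_i_rc_9_1 lc_i_rc_18_1 lc_i_rc_18_1 lc_i_Cert_tree lc_i_rc_9_1 lc_i_rc_18_3 lc_i_rc_54_0 lc_i_rc_54_0 lc_i_rc_9_1 lc_i_rc_50_1 lc_i_rc_9_3 lc_i_rc_33_1 lc_i_rc_9_3 lc_i_rc_9_1 lc_i_rc_9_1 lc_i_rc_18_1 lc_i_rc_9_1 lc_i_rc_41_1 lc_i_rc_46_1 lc_i_rc_9_1 lc_i_rc_9_1 lc_i_rc_46_1 lc_i_rc_50_3 lc_i_rc_41_1 lc_i_rc_26_1 lc_i_rc_50_1 lc_i_rc_18_1 lc_i_rc_26_1 lc_i_rc_39_1 lc_i_rc_18_1 lc_i_rc_26_1 lc_i_rc_46_1 lc_i_rc_18_1 lc_i_rc_26_1 lc_i_rc_9_1 lc_i_rc_50_1 lc_i_rc_41_1 lc_i_rc_9_1 lc_i_rc_9_1 lc_i_rc_18_1 lc_i_rc_18_1 lc_i_rc_9_1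 lc_i_rc_9_1 lc_i_rc_26_1 lc_i_rc_18_1 lc_i_rc_26_1) (@D3.rec (fun _ => (Cert rels S Gen.i)) lc_i_rc_9_1 lc_i_rc_18_1 lc_i_rc_26_1 lc_i_rc_9_1 lc_i_rc_26_1 lc_i_rc_39_1 lc_i_rc_18_1 lc_i_rc_26_1 lc_i_rc_9_1 lc_i_rc_18_1 lc_i_rc_18_1 lc_i_rc_9_3 lc_i_rc_9_3 lc_i_rc_9_3 lc_i_rc_26_1 lc_i_rc_53_3 lc_i_rc_18_1 lc_i_rc_26_1 lc_i_rc_33_1 lc_i_rc_39_1 lc_i_rc_33_1 lc_i_rc_26_1 lc_i_rc_39_1 lc_i_rc_26_1 lc_i_rc_53_1 lc_i_rc_18_1 lc_i_rc_9_3 lc_i_rc_33_1 lc_i_rc_39_1 lc_i_rc_46_1 lc_i_rc_18_3 lc_i_rc_26_1 lc_i_rc_39_1 lc_i_rc_18_1 lc_i_rc_26_1 lc_i_rc_33_1 lc_i_rc_26_1 lc_i_rc_39_1 lc_i_rc_18_1 lc_i_rc_26_1 lc_i_rc_41_3 lc_i_rc_18_1 lc_i_rc_26_1 lc_i_rc_9_1 lc_i_rc_18_1 lc_i_rc_26_1 lc_i_rc_9_1 lc_i_rc_46_1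 lc_i_rc_33_1 lc_i_rc_26_1 lc_i_rc_46_1) (@D3.rec (fun _ => (Cert rels S Gen.i)) lc_i_rc_26_1 lc_i_rc_41_1 lc_i_rc_26_1 lc_i_rc_26_1 lc_i_rc_39_1 lc_i_rc_33_1 lc_i_rc_26_1 lc_i_rc_18_1 lc_i_rc_41_3 lc_i_rc_26_1 lc_i_rc_33_1 lc_i_rc_46_1 lc_i_rc_18_1 lc_i_rc_41_3 lc_i_rc_26_1 lc_i_rc_33_1 lc_i_rc_33_1 lc_i_rc_26_1 lc_i_rc_39_1 lc_i_rc_18_1 lc_i_rc_26_1 lc_i_rc_9_1 lc_i_rc_26_1 lc_i_rc_39_1 lc_i_rc_26_1 lc_i_rc_18_1 lc_i_rc_26_1 lc_i_rc_26_1 lc_i_rc_26_1 lc_i_rc_39_1 lc_i_rc_18_1 lc_i_rc_26_1 lc_i_rc_18_1 lc_i_rc_9_1 lc_i_rc_18_1 lc_i_rc_18_1 lc_i_rc_9_1 lc_i_rc_26_1 lc_i_rc_39_1 lc_i_rc_18_1 lc_i_rc_26_1 lc_i_rc_33_1 lc_i_rc_46_1 lc_i_rc_26_1 lc_i_rc_9_1 lc_i_rc_26_1 lc_i_rc_18_1 lc_i_rc_18_1 lc_i_rc_26_1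 lc_i_rc_33_1 lc_i_rc_26_1) (@D3.rec (fun _ => (Cert rels S Gen.i)) lc_i_rc_39_1 lc_i_rc_26_1 lc_i_rc_39_1 lc_i_rc_18_1 lc_i_rc_26_1 lc_i_rc_46_1 lc_i_rc_33_1 lc_i_rc_26_1 lc_i_rc_9_1 lc_i_rc_18_1 lc_i_rc_26_1 lc_i_rc_33_1 lc_i_rc_26_1 lc_i_rc_26_1 lc_i_rc_33_1 lc_i_rc_18_1 lc_i_rc_26_1 lc_i_rc_18_3 lc_i_rc_26_1 lc_i_rc_39_1 lc_i_rc_18_1 lc_i_rc_26_1 lc_i_rc_26_1 lc_i_rc_18_1 lc_i_rc_26_1 lc_i_rc_9_1 lc_i_rc_18_1 lc_i_rc_26_1 lc_i_rc_46_1 lc_i_rc_26_1 lc_i_rc_39_1 lc_i_rc_18_1 lc_i_rc_26_1 lc_i_rc_18_1 lc_i_rc_26_1 lc_i_rc_46_1 lc_i_rc_9_1 lc_i_rc_18_1 lc_i_rc_26_1 lc_i_rc_26_1 lc_i_rc_33_1 lc_i_rc_18_1 lc_i_rc_26_1 lc_i_rc_9_1 lc_i_rc_18_1 lc_i_rc_9_1 lc_i_rc_18_1 lc_i_rc_50_1 lc_i_rc_9_1 lc_i_rc_33_3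 lc_i_rc_46_1) (@D3.rec (fun _ => (Cert rels S Gen.i)) lc_i_rc_50_1 lc_i_rc_18_1 lc_i_rc_46_1 lc_i_rc_18_1 lc_i_rc_26_1 lc_i_rc_33_1 lc_i_rc_9_1 lc_i_rc_33_1 lc_i_rc_26_1 lc_i_rc_39_1 lc_i_rc_18_1 lc_i_rc_26_1 lc_i_rc_33_1 lc_i_rc_9_1 lc_i_rc_41_1 lc_i_rc_33_1 lc_i_rc_26_1 lc_i_rc_39_1 lc_i_rc_26_1 lc_i_rc_39_1 lc_i_rc_18_1 lc_i_rc_26_1 lc_i_rc_46_1 lc_i_rc_18_1 lc_i_rc_26_1 lc_i_rc_33_1 lc_i_rc_9_1 lc_i_rc_18_1 lc_i_rc_26_1 lc_i_rc_39_1 lc_i_rc_41_5 lc_i_rc_46_1 lc_i_rc_26_1 lc_i_rc_41_3 lc_i_rc_18_1 lc_i_rc_26_1 lc_i_rc_9_1 lc_i_rc_50_1 lc_i_rc_41_1 lc_i_rc_9_1 lc_i_rc_18_1 lc_i_rc_33_3 lc_i_rc_18_1 lc_i_rc_26_1 lc_i_rc_26_1 lc_i_rc_39_1 lc_i_rc_18_1 lc_i_rc_26_1 lc_i_rc_9_1 lc_i_rc_18_1 lc_i_rc_26_1)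 (@D3.rec (fun _ => (Cert rels S Gen.i)) lc_i_rc_18_1 lc_i_rc_26_1 lc_i_rc_50_1 lc_i_rc_26_1 lc_i_rc_50_1 lc_i_rc_18_1 lc_i_rc_26_1 lc_i_rc_18_3 lc_i_rc_9_3 lc_i_rc_18_1 lc_i_rc_26_1 lc_i_rc_9_3 lc_i_rc_26_1 lc_i_rc_55_62 lc_i_rc_9_1 lc_i_rc_18_1 lc_i_rc_26_1 lc_i_rc_18_1 lc_i_rc_26_1 lc_i_rc_9_1 lc_i_rc_18_1 lc_i_rc_46_3 lc_i_rc_50_3 lc_i_rc_18_1 lc_i_rc_9_1 lc_i_rc_18_1 lc_i_rc_33_3 lc_i_rc_46_3 lc_i_rc_33_1 lc_i_rc_39_1 lc_i_rc_18_1 lc_i_rc_9_1 lc_i_rc_26_1 lc_i_rc_18_1 lc_i_rc_9_1 lc_i_rc_9_1 lc_i_rc_26_1 lc_i_rc_39_1 lc_i_rc_18_1 lc_i_rc_26_1 lc_i_rc_39_1 lc_i_rc_46_1 lc_i_rc_26_1 lc_i_rc_9_1 lc_i_rc_26_1 lc_i_rc_33_1 lc_i_rc_18_1 lc_i_rc_26_1 lc_i_rc_39_1 lc_i_rc_50_1 lc_i_rc_46_1) (@D3.rec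 (fun _ => (Cert rels S Gen.i)) lc_i_rc_26_1 lc_i_rc_9_1 lc_i_rc_50_1 lc_i_rc_26_3 lc_i_rc_26_1 lc_i_rc_39_1 lc_i_rc_50_1 lc_i_rc_18_1 lc_i_rc_26_1 lc_i_rc_9_1 lc_i_rc_50_1 lc_i_rc_39_1 lc_i_rc_50_1 lc_i_rc_9_1 lc_i_rc_18_1 lc_i_rc_46_1 lc_i_rc_26_1 lc_i_rc_26_1 lc_i_rc_9_1 lc_i_rc_18_1 lc_i_rc_9_3 lc_i_rc_39_1 lc_i_rc_33_3 lc_i_rc_50_1 lc_i_rc_9_1 lc_i_rc_18_1 lc_i_rc_54_1 lc_i_rc_9_1 lc_i_rc_18_1 lc_i_rc_9_1 lc_i_rc_26_1 lc_i_rc_39_1 lc_i_rc_26_1 lc_i_rc_18_3 lc_i_rc_39_3 lc_i_rc_26_1 lc_i_rc_18_3 lc_i_rc_26_1 lc_i_rc_39_1 lc_i_rc_18_1 lc_i_rc_26_1 lc_i_rc_33_1 lc_i_rc_39_1 lc_i_rc_26_1 lc_i_rc_39_1 lc_i_rc_18_1 lc_i_rc_18_1 lc_i_rc_26_1 lc_i_rc_9_1 lc_i_rc_18_1 lc_i_rc_33_3) (@D3.rec (fun _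 => (Cert rels S Gen.i)) lc_i_rc_9_1 lc_i_rc_18_1 lc_i_rc_33_1 lc_i_rc_46_1 lc_i_rc_26_1 lc_i_rc_41_3 lc_i_rc_39_1 lc_i_rc_18_1 lc_i_rc_26_1 lc_i_rc_9_1 lc_i_rc_33_1 lc_i_rc_26_1 lc_i_rc_39_1 lc_i_rc_26_1 lc_i_rc_39_1 lc_i_rc_18_1 lc_i_rc_26_1 lc_i_rc_18_1 lc_i_rc_9_1 lc_i_rc_26_1 lc_i_rc_33_1 lc_i_rc_18_1 lc_i_rc_26_1 lc_i_rc_46_1 lc_i_rc_9_1 lc_i_rc_18_1 lc_i_rc_18_1 lc_i_rc_9_1 lc_i_rc_18_1 lc_i_rc_26_1 lc_i_rc_9_1 lc_i_rc_46_1 lc_i_rc_26_1 lc_i_rc_9_1 lc_i_rc_18_1 lc_i_rc_33_1 lc_i_rc_46_1 lc_i_rc_26_1 lc_i_rc_9_1 lc_i_rc_41_3 lc_i_rc_33_1 lc_i_rc_33_3 lc_i_rc_26_1 lc_i_rc_39_1 lc_i_rc_9_1 lc_i_rc_18_1 lc_i_rc_26_1 lc_i_rc_39_3 lc_i_rc_39_3 lc_i_rc_18_1 lc_i_rc_9_1) (@D3.rec (fun _ => (Cert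 rels S Gen.i)) lc_i_rc_18_1 lc_i_rc_26_1 lc_i_rc_9_1 lc_i_rc_18_1 lc_i_rc_33_1 lc_i_rc_26_1 lc_i_rc_39_1 lc_i_rc_18_1 lc_i_rc_26_1 lc_i_rc_46_1 lc_i_rc_18_1 lc_i_rc_26_1 lc_i_rc_9_1 lc_i_rc_18_1 lc_i_rc_33_1 lc_i_rc_9_1 lc_i_rc_18_1 lc_i_rc_33_1 lc_i_rc_9_1 lc_i_rc_18_1 lc_i_rc_9_1 lc_i_rc_18_1 lc_i_rc_9_1 lc_i_rc_9_1 lc_i_rc_46_1 lc_i_rc_26_1 lc_i_rc_33_1 lc_i_rc_18_1 lc_i_rc_33_1 lc_i_rc_54_0 lc_i_rc_33_1 lc_i_rc_18_1 lc_i_rc_18_1 lc_i_rc_26_1 lc_i_rc_9_1 lc_i_rc_33_1 lc_i_Cert_tree lc_i_rc_18_1 lc_i_rc_9_1 lc_i_rc_18_1 lc_i_rc_18_1 lc_i_rc_26_1 lc_i_rc_9_1 lc_i_rc_9_1 lc_i_rc_9_1 lc_i_rc_33_3 lc_i_rc_50_1 lc_i_rc_26_1 lc_i_rc_9_1 lc_i_rc_18_1 lc_i_rc_26_1) (@D3.rec (fun _ => (Cert rels S Gen.i))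 lc_i_rc_9_3 lc_i_Cert_tree lc_i_rc_54_0 lc_i_rc_9_1 lc_i_rc_26_1 lc_i_rc_33_1 lc_i_rc_26_1 lc_i_rc_18_1 lc_i_rc_33_1 lc_i_rc_53_1 lc_i_rc_33_1 lc_i_rc_33_1 lc_i_rc_9_1 lc_i_rc_26_1 lc_i_rc_53_3 lc_i_rc_54_0 lc_i_rc_26_1 lc_i_rc_41_3 lc_i_rc_26_1 lc_i_rc_33_1 lc_i_rc_46_1 lc_i_rc_33_1 lc_i_rc_26_1 lc_i_rc_33_1 lc_i_rc_18_1 lc_i_rc_33_1 lc_i_rc_26_1 lc_i_rc_39_1 lc_i_rc_18_1 lc_i_rc_26_1 lc_i_rc_33_1 lc_i_rc_18_1 lc_i_rc_26_1 lc_i_rc_9_1 lc_i_rc_50_1 lc_i_rc_26_1 lc_i_rc_39_1 lc_i_rc_26_1 lc_i_rc_33_1 lc_i_rc_18_1 lc_i_rc_26_1 lc_i_rc_33_1 lc_i_rc_18_1 lc_i_rc_26_1 lc_i_rc_33_1 lc_i_rc_50_1 lc_i_rc_26_1 lc_i_rc_33_1 lc_i_rc_18_1 lc_i_rc_26_1 lc_i_rc_9_1) (@D3.rec (fun _ => (Cert rels S Gen.i))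 lc_i_rc_33_1 lc_i_rc_26_1 lc_i_rc_39_1 lc_i_rc_18_1 lc_i_rc_26_1 lc_i_rc_33_1 lc_i_rc_26_1 lc_i_rc_39_1 lc_i_rc_26_1 lc_i_rc_39_1 lc_i_rc_18_1 lc_i_rc_26_1 lc_i_rc_46_1 lc_i_rc_18_1 lc_i_rc_26_1 lc_i_rc_33_1 lc_i_rc_9_1 lc_i_rc_18_1 lc_i_rc_26_1 lc_i_rc_33_1 lc_i_rc_9_1 lc_i_rc_18_1 lc_i_rc_26_1 lc_i_rc_39_1 lc_i_rc_39_1 lc_i_rc_9_1 lc_i_rc_26_1 lc_i_rc_46_1 lc_i_rc_33_1 lc_i_rc_33_1 lc_i_Cert_tree lc_i_Cert_tree lc_i_rc_54_0 lc_i_rc_39_1 lc_i_rc_46_1 lc_i_rc_26_1 lc_i_rc_18_1 lc_i_rc_33_1 lc_i_rc_18_1 lc_i_rc_26_1 lc_i_rc_26_1 lc_i_rc_33_1 lc_i_rc_18_1 lc_i_rc_33_3 lc_i_rc_39_1 lc_i_rc_18_1 lc_i_rc_26_1 lc_i_rc_18_1 lc_i_rc_26_1 lc_i_rc_9_1 lc_i_rc_26_1) (@D3.rec (fun _ => (Cert rels S Gen.i))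 lc_i_rc_39_1 lc_i_rc_18_1 lc_i_rc_18_1 lc_i_rc_26_1 lc_i_rc_39_1 lc_i_rc_18_1 lc_i_rc_26_1 lc_i_rc_18_1 lc_i_rc_26_1 lc_i_rc_9_1 lc_i_rc_26_1 lc_i_rc_46_3 lc_i_rc_54_1 lc_i_rc_9_1 lc_i_rc_9_1 lc_i_rc_18_1 lc_i_rc_26_1 lc_i_rc_33_1 lc_i_rc_18_1 lc_i_rc_26_1 lc_i_rc_9_1 lc_i_rc_18_1 lc_i_rc_9_1 lc_i_rc_50_1 lc_i_rc_33_1 lc_i_rc_33_1 lc_i_rc_26_1 lc_i_rc_39_1 lc_i_rc_46_1 lc_i_rc_41_3 lc_i_rc_26_1 lc_i_rc_41_3 lc_i_rc_50_1 lc_i_rc_53_1 lc_i_rc_46_1 lc_i_rc_26_1 lc_i_rc_39_1 lc_i_rc_26_1 lc_i_rc_46_1 lc_i_rc_26_1 lc_i_rc_39_1 lc_i_rc_26_1 lc_i_rc_39_1 lc_i_rc_18_1 lc_i_rc_26_1 lc_i_rc_41_1 lc_i_rc_50_1 lc_i_rc_50_1 lc_i_rc_26_1 lc_i_rc_39_3 lc_i_rc_33_1) (@D3.rec (fun _ => (Cert rels S Gen.i)) lc_i_rc_26_1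 lc_i_rc_39_1 lc_i_rc_18_1 lc_i_rc_26_1 lc_i_rc_33_1 lc_i_rc_26_1 lc_i_rc_41_3 lc_i_rc_18_1 lc_i_rc_26_1 lc_i_rc_33_1 lc_i_rc_26_1 lc_i_rc_33_1 lc_i_rc_18_1 lc_i_rc_26_1 lc_i_rc_9_1 lc_i_rc_26_1 lc_i_rc_39_1 lc_i_rc_18_1 lc_i_rc_26_1 lc_i_rc_26_1 lc_i_rc_26_1 lc_i_rc_39_1 lc_i_rc_18_1 lc_i_rc_26_1 lc_i_rc_53_1 lc_i_rc_18_1 lc_i_rc_9_1 lc_i_rc_18_1 lc_i_rc_26_1 lc_i_rc_26_1 lc_i_rc_33_1 lc_i_rc_18_1 lc_i_rc_26_1 lc_i_rc_9_1 lc_i_rc_18_1 lc_i_rc_26_1 lc_i_rc_46_1 lc_i_rc_33_1 lc_i_Cert_tree lc_i_rc_53_1 lc_i_rc_26_1 lc_i_rc_39_1 lc_i_rc_18_1 lc_i_rc_26_1 lc_i_rc_9_1 lc_i_rc_26_1 lc_i_rc_33_1 lc_i_rc_18_1 lc_i_rc_26_1 lc_i_rc_33_1 lc_i_rc_9_1) (@D3.rec (fun _ => (Cert rels S Gen.i)) lc_i_rc_18_1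 lc_i_rc_26_1 lc_i_rc_46_3 lc_i_rc_33_1 lc_i_rc_46_3 lc_i_rc_18_1 lc_i_rc_26_1 lc_i_rc_33_1 lc_i_rc_9_1 lc_i_rc_18_1 lc_i_rc_26_1 lc_i_rc_26_1 lc_i_rc_18_1 lc_i_rc_26_1 lc_i_rc_26_1 lc_i_rc_39_1 lc_i_rc_18_1 lc_i_rc_26_1 lc_i_rc_18_1 lc_i_rc_9_1 lc_i_rc_18_1 lc_i_rc_26_1 lc_i_rc_18_1 lc_i_rc_26_1 lc_i_rc_9_1 lc_i_rc_18_1 lc_i_rc_26_1 lc_i_rc_9_3 lc_i_rc_26_1 lc_i_rc_18_1 lc_i_rc_9_1 lc_i_rc_9_1 lc_i_rc_18_1 lc_i_rc_26_1 lc_i_rc_18_1 lc_i_rc_26_1 lc_i_rc_9_1 lc_i_rc_18_1 lc_i_rc_9_1 lc_i_rc_18_1 lc_i_Cert_tree lc_i_rc_33_1 lc_i_rc_26_1 lc_i_rc_54_0 lc_i_rc_26_1 lc_i_rc_50_1 lc_i_rc_26_1 lc_i_rc_26_1 lc_i_rc_33_1 lc_i_rc_26_1 lc_i_rc_33_1) (@D3.rec (fun _ => (Cert rels S Gen.i)) lc_i_rc_18_1 lc_i_rc_33_3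 lc_i_rc_18_1 lc_i_rc_18_1 lc_i_rc_26_1 lc_i_rc_18_1 lc_i_rc_26_1 lc_i_rc_9_1 lc_i_rc_41_1 lc_i_rc_46_1 lc_i_rc_26_1 lc_i_rc_39_1 lc_i_rc_46_1 lc_i_rc_26_1 lc_i_rc_39_1 lc_i_rc_18_1 lc_i_rc_18_1 lc_i_rc_26_1 lc_i_rc_33_1 lc_i_rc_26_1 lc_i_rc_39_1 lc_i_rc_18_1 lc_i_rc_26_1 lc_i_rc_33_1 lc_i_rc_26_1 lc_i_rc_33_1 lc_i_rc_18_1 lc_i_rc_26_1 lc_i_rc_9_1 lc_i_rc_33_1 lc_i_rc_9_3 lc_i_rc_9_1 lc_i_rc_18_1 lc_i_rc_26_1 lc_i_rc_46_1 lc_i_rc_26_1 lc_i_rc_9_1 lc_i_rc_18_1 lc_i_rc_26_1 lc_i_rc_18_1 lc_i_rc_26_1 lc_i_rc_9_1 lc_i_rc_18_1 lc_i_rc_26_1 lc_i_rc_18_1 lc_i_rc_53_1 lc_i_rc_33_1 lc_i_rc_26_1 lc_i_rc_46_1 lc_i_rc_39_1 lc_i_rc_18_1) (@D3.rec (fun _ => (Cert rels S Gen.i)) lc_i_rc_26_1 lc_i_rc_9_1 lc_i_rc_26_1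 lc_i_rc_41_3 lc_i_rc_33_1 lc_i_rc_26_1 lc_i_rc_39_1 lc_i_rc_46_1 lc_i_rc_26_1 lc_i_rc_39_1 lc_i_rc_18_1 lc_i_rc_26_1 lc_i_rc_18_1 lc_i_rc_26_1 lc_i_rc_33_1 lc_i_rc_26_1 lc_i_rc_41_3 lc_i_rc_26_1 lc_i_rc_18_1 lc_i_rc_26_1 lc_i_rc_33_1 lc_i_rc_18_1 lc_i_rc_26_1 lc_i_rc_9_1 lc_i_rc_33_1 lc_i_rc_53_1 lc_i_rc_18_1 lc_i_rc_26_1 lc_i_rc_54_1 lc_i_rc_9_1 lc_i_rc_18_1 lc_i_rc_26_1 lc_i_rc_9_3 lc_i_rc_39_1 lc_i_rc_18_1 lc_i_rc_33_3 lc_i_rc_39_1 lc_i_rc_9_1 lc_i_rc_18_1 lc_i_rc_26_1 lc_i_rc_9_1 lc_i_rc_18_1 lc_i_rc_26_1 lc_i_rc_39_1 lc_i_Cert_tree lc_i_rc_54_0 lc_i_rc_9_1 lc_i_rc_33_1 lc_i_rc_26_1 lc_i_rc_26_1 lc_i_rc_39_1) (@D3.rec (fun _ => (Cert rels S Gen.i)) lc_i_rc_18_1 lc_i_rc_26_1 lc_i_rc_18_1 lc_i_rc_26_1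 lc_i_rc_18_1 lc_i_rc_33_1 lc_i_rc_26_1 lc_i_rc_9_3 lc_i_rc_26_1 lc_i_rc_39_1 lc_i_rc_18_1 lc_i_rc_26_1 lc_i_rc_46_1 lc_i_rc_50_1 lc_i_rc_18_1 lc_i_rc_26_1 lc_i_rc_9_1 lc_i_rc_18_1 lc_i_rc_33_1 lc_i_rc_26_1 lc_i_rc_39_1 lc_i_rc_18_1 lc_i_rc_26_1 lc_i_rc_18_1 lc_i_rc_26_1 lc_i_rc_9_1 lc_i_rc_26_1 lc_i_rc_9_3 lc_i_rc_18_1 lc_i_rc_26_1 lc_i_rc_33_1 lc_i_rc_26_1 lc_i_rc_39_1 lc_i_rc_18_1 lc_i_rc_26_1 lc_i_rc_46_1 lc_i_rc_18_1 lc_i_rc_26_1 lc_i_rc_9_1 lc_i_rc_18_1 lc_i_rc_26_1 lc_i_rc_18_1 lc_i_rc_26_1 lc_i_rc_9_1 lc_i_rc_18_1 lc_i_rc_26_1 lc_i_Cert_tree lc_i_rc_53_1 lc_i_rc_26_1 lc_i_rc_9_1 lc_i_rc_33_1) (@D3.rec (fun _ => (Cert rels S Gen.i)) lc_i_rc_26_1 lc_i_rc_39_1 lc_i_rc_26_1 lc_i_rc_39_1 lc_i_rc_18_1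 lc_i_rc_26_1 lc_i_rc_53_1 lc_i_rc_26_1 lc_i_rc_9_1 lc_i_rc_18_1 lc_i_rc_9_1 lc_i_rc_18_1 lc_i_rc_26_1 lc_i_rc_18_1 lc_i_rc_26_1 lc_i_rc_41_3 lc_i_rc_26_1 lc_i_rc_39_1 lc_i_rc_18_1 lc_i_rc_26_1 lc_i_rc_46_1 lc_i_rc_18_1 lc_i_rc_26_1 lc_i_rc_33_1 lc_i_rc_9_1 lc_i_rc_18_1 lc_i_rc_26_1 lc_i_rc_26_1 lc_i_rc_39_1 lc_i_rc_18_1 lc_i_rc_26_1 lc_i_rc_46_1 lc_i_rc_18_1 lc_i_rc_26_1 lc_i_rc_46_1 lc_i_rc_9_1 lc_i_rc_18_1 lc_i_rc_33_1 lc_i_rc_26_1 lc_i_rc_50_1 lc_i_rc_50_1 lc_i_rc_33_3 lc_i_rc_9_1 lc_i_rc_18_1 lc_i_rc_9_3 lc_i_rc_39_1 lc_i_rc_9_1 lc_i_rc_18_1 lc_i_rc_39_1 lc_i_rc_9_3 lc_i_rc_9_1) (@D3.rec (fun _ => (Cert rels S Gen.i)) lc_i_rc_18_1 lc_i_rc_9_1 lc_i_rc_18_1 lc_i_Cert_tree lc_i_Cert_tree lc_i_rc_54_0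 lc_i_rc_54_0 lc_i_rc_46_3 lc_i_rc_54_0 lc_i_rc_33_1 lc_i_rc_26_1 lc_i_rc_33_1 lc_i_rc_18_1 lc_i_rc_18_1 lc_i_rc_26_1 lc_i_rc_9_1 lc_i_rc_18_1 lc_i_rc_9_1 lc_i_rc_9_1 lc_i_rc_18_1 lc_i_rc_26_1 lc_i_rc_18_1 lc_i_rc_50_1 lc_i_rc_18_1 lc_i_rc_26_1 lc_i_rc_46_1 lc_i_rc_18_1 lc_i_rc_26_1 lc_i_rc_9_1 lc_i_rc_26_1 lc_i_rc_39_1 lc_i_rc_18_1 lc_i_rc_18_1 lc_i_rc_26_1 lc_i_rc_9_1 lc_i_rc_9_1 lc_i_rc_18_1 lc_i_rc_18_1 lc_i_rc_18_1 lc_i_rc_26_1 lc_i_rc_9_1 lc_i_rc_9_1 lc_i_rc_9_1 lc_i_rc_18_1 lc_i_rc_9_1 lc_i_rc_26_1 lc_i_rc_9_1 lc_i_rc_18_1 lc_i_rc_26_1 lc_i_rc_9_1 lc_i_rc_18_1) (@D3.rec (fun _ => (Cert rels S Gen.i)) lc_i_rc_9_1 lc_i_rc_18_1 lc_i_Cert_tree lc_i_rc_54_0 lc_i_rc_18_1 lc_i_rc_9_1 lc_i_rc_50_1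 lc_i_rc_55_62 lc_i_rc_26_1 lc_i_rc_9_1 lc_i_rc_46_1 lc_i_rc_26_1 lc_i_rc_9_1 lc_i_rc_18_1 lc_i_rc_33_3 lc_i_rc_39_1 lc_i_rc_18_1 lc_i_rc_26_1 lc_i_rc_39_1 lc_i_rc_18_1 lc_i_rc_26_1 lc_i_rc_46_1 lc_i_rc_50_1 lc_i_rc_18_1 lc_i_rc_26_1 lc_i_rc_9_1 lc_i_rc_26_1 lc_i_rc_39_1 lc_i_rc_18_1 lc_i_rc_26_1 lc_i_rc_33_1 lc_i_rc_18_1 lc_i_rc_26_1 lc_i_rc_9_1 lc_i_rc_9_1 lc_i_rc_18_1 lc_i_rc_26_1 lc_i_rc_26_1 lc_i_rc_46_1 lc_i_rc_33_1 lc_i_rc_46_1 lc_i_rc_26_1 lc_i_rc_39_1 lc_i_rc_50_1 lc_i_rc_18_1 lc_i_rc_26_1 lc_i_rc_9_1 lc_i_rc_26_1 lc_i_rc_41_1 lc_i_rc_53_3 lc_i_rc_26_1) (@D3.rec (fun _ => (Cert rels S Gen.i)) lc_i_rc_39_1 lc_i_rc_18_1 lc_i_rc_26_1 lc_i_rc_9_1 lc_i_rc_18_1 lc_i_rc_26_1 lc_i_rc_33_1 lc_i_rc_9_1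 lc_i_rc_18_1 lc_i_rc_26_1 lc_i_rc_26_1 lc_i_rc_46_3 lc_i_rc_41_1 lc_i_rc_26_1 lc_i_rc_39_1 lc_i_rc_18_1 lc_i_rc_26_1 lc_i_rc_18_1 lc_i_rc_9_1 lc_i_rc_9_1 lc_i_rc_18_1 lc_i_rc_26_1 lc_i_rc_9_1 lc_i_rc_18_1 lc_i_Cert_tree lc_i_rc_39_1 lc_i_rc_33_1 lc_i_rc_33_1 lc_i_rc_39_3 lc_i_rc_54_0 lc_i_rc_50_1 lc_i_rc_26_1 lc_i_rc_26_1 lc_i_rc_39_1 lc_i_rc_18_1 lc_i_rc_26_1 lc_i_rc_18_1 lc_i_rc_18_1 lc_i_rc_26_1 lc_i_rc_9_1 lc_i_rc_26_1 lc_i_rc_39_1 lc_i_rc_46_3 lc_i_rc_50_3 lc_i_rc_9_1 lc_i_rc_33_1 lc_i_rc_39_1 lc_i_rc_18_1 lc_i_rc_26_1 lc_i_rc_18_1 lc_i_rc_33_1) (@D3.rec (fun _ => (Cert rels S Gen.i)) lc_i_rc_26_1 lc_i_rc_18_1 lc_i_rc_26_1 lc_i_rc_39_1 lc_i_rc_26_1 lc_i_rc_18_1 lc_i_rc_26_1 lc_i_rc_39_1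 lc_i_rc_18_1 lc_i_rc_26_1 lc_i_rc_46_1 lc_i_rc_9_1 lc_i_rc_18_1 lc_i_rc_26_1 lc_i_rc_50_1 lc_i_rc_46_1 lc_i_rc_26_1 lc_i_rc_9_1 lc_i_rc_18_1 lc_i_rc_33_1 lc_i_rc_18_1 lc_i_rc_26_1 lc_i_rc_39_1 lc_i_rc_18_1 lc_i_rc_26_1 lc_i_rc_9_1 lc_i_rc_18_1 lc_i_rc_26_1 lc_i_rc_18_1 lc_i_rc_9_1 lc_i_rc_26_1 lc_i_rc_33_1 lc_i_rc_18_1 lc_i_rc_26_1 lc_i_rc_33_1 lc_i_rc_9_1 lc_i_rc_18_1 lc_i_rc_26_1 lc_i_rc_54_1 lc_i_rc_9_1 lc_i_rc_26_1 lc_i_rc_18_1 lc_i_rc_18_1 lc_i_rc_9_1 lc_i_rc_18_1 lc_i_rc_9_1 lc_i_rc_18_1 lc_i_rc_18_1 lc_i_rc_26_1 lc_i_rc_9_1 lc_i_rc_18_1) (@D3.rec (fun _ => (Cert rels S Gen.i)) lc_i_rc_26_1 lc_i_rc_9_1 lc_i_rc_18_1 lc_i_Cert_tree lc_i_rc_26_1 lc_i_rc_18_1 lc_i_rc_33_1 lc_i_rc_18_1 lc_i_Cert_tree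 lc_i_rc_33_1 lc_i_Cert_tree lc_i_rc_26_1 lc_i_Cert_tree lc_i_rc_54_0 lc_i_rc_50_1 lc_i_rc_53_1 lc_i_rc_26_1 lc_i_rc_39_1 lc_i_rc_50_3 lc_i_rc_26_1 lc_i_rc_46_1 lc_i_rc_9_1 lc_i_rc_18_1 lc_i_rc_26_1 lc_i_rc_18_1 lc_i_rc_26_1 lc_i_rc_9_1 lc_i_rc_18_1 lc_i_rc_33_1 lc_i_rc_50_1 lc_i_rc_18_1 lc_i_rc_26_1 lc_i_rc_9_1 lc_i_rc_26_1 lc_i_rc_18_1 lc_i_rc_26_1 lc_i_rc_18_1 lc_i_rc_26_1 lc_i_rc_18_1 lc_i_rc_9_1 lc_i_rc_26_1 lc_i_rc_18_1 lc_i_rc_18_1 lc_i_rc_26_1 lc_i_rc_9_3 lc_i_rc_9_1 lc_i_rc_41_1 lc_i_rc_26_1 lc_i_rc_9_1 lc_i_rc_18_1 lc_i_rc_26_1) (@D3.rec (fun _ => (Cert rels S Gen.i)) lc_i_rc_9_1 lc_i_rc_18_1 lc_i_rc_26_1 lc_i_rc_26_1 lc_i_rc_9_1 lc_i_rc_18_1 lc_i_Cert_tree lc_i_rc_9_1 lc_i_rc_26_1 lc_i_rc_18_1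 lc_i_rc_26_1 lc_i_rc_50_1 lc_i_rc_18_1 lc_i_rc_9_1 lc_i_rc_18_1 lc_i_rc_9_1 lc_i_rc_26_1 lc_i_rc_18_1 lc_i_rc_26_1 lc_i_rc_39_1 lc_i_rc_18_1 lc_i_rc_26_1 lc_i_rc_46_1 lc_i_rc_18_1 lc_i_rc_26_1 lc_i_rc_9_1 lc_i_rc_18_1 lc_i_rc_33_1 lc_i_rc_26_1 lc_i_rc_9_1 lc_i_rc_18_1 lc_i_rc_33_1 lc_i_rc_9_1 lc_i_rc_18_1 lc_i_rc_46_1 lc_i_rc_33_1 lc_i_rc_18_1 lc_i_rc_26_1 lc_i_rc_18_1 lc_i_rc_9_1 lc_i_rc_18_1 lc_i_rc_26_1 lc_i_rc_9_1 lc_i_rc_18_1 lc_i_rc_18_1 lc_i_Cert_tree lc_i_rc_9_1 lc_i_rc_9_1 lc_i_rc_18_1 lc_i_rc_26_1 lc_i_rc_9_1)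
def ce_i_20 : D2 → D3 → (Cert rels S Gen.i) := @D2.rec (fun _ => D3 → (Cert rels S Gen.i)) (@D3.rec (fun _ => (Cert rels S Gen.i)) lc_i_rc_18_1 lc_i_Cert_tree lc_i_rc_9_1 lc_i_rc_18_1 lc_i_Cert_tree lc_i_rc_54_0 lc_i_rc_18_1 lc_i_rc_33_1 lc_i_rc_9_3 lc_i_Cert_tree lc_i_rc_33_1 lc_i_rc_26_1 lc_i_rc_18_1 lc_i_Cert_tree lc_i_rc_33_1 lc_i_rc_26_1 lc_i_rc_18_3 lc_i_rc_54_0 lc_i_rc_54_0 lc_i_rc_54_0 lc_i_rc_26_1 lc_i_rc_50_1 lc_i_rc_26_1 lc_i_rc_9_1 lc_i_rc_9_1 lc_i_rc_54_0 lc_i_rc_18_1 lc_i_rc_26_1 lc_i_rc_33_1 lc_i_rc_33_3 lc_i_rc_9_1 lc_i_rc_41_1 lc_i_rc_41_1 lc_i_rc_46_1 lc_i_rc_54_0 lc_i_rc_18_1 lc_i_rc_26_1 lc_i_rc_9_1 lc_i_rc_18_1 lc_i_rc_26_1 lc_i_rc_9_1 lc_i_rc_18_1 lc_i_rc_26_1 lc_i_rc_18_1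 lc_i_rc_9_3 lc_i_rc_50_1 lc_i_rc_50_3 lc_i_rc_33_1 lc_i_rc_18_1 lc_i_rc_9_1 lc_i_rc_18_1) (@D3.rec (fun _ => (Cert rels S Gen.i)) lc_i_rc_9_1 lc_i_rc_18_1 lc_i_rc_9_1 lc_i_rc_26_1 lc_i_rc_18_1 lc_i_rc_26_1 lc_i_rc_9_1 lc_i_rc_18_1 lc_i_rc_41_1 lc_i_rc_33_1 lc_i_rc_46_3 lc_i_rc_33_1 lc_i_rc_33_1 lc_i_rc_50_1 lc_i_rc_26_1 lc_i_rc_18_3 lc_i_rc_18_1 lc_i_rc_26_1 lc_i_rc_33_1 lc_i_rc_26_1 lc_i_rc_39_1 lc_i_rc_18_1 lc_i_rc_26_1 lc_i_rc_46_1 lc_i_rc_53_1 lc_i_rc_26_1 lc_i_rc_18_3 lc_i_rc_46_3 lc_i_rc_26_1 lc_i_rc_33_1 lc_i_rc_26_1 lc_i_rc_18_1 lc_i_rc_26_1 lc_i_rc_46_1 lc_i_rc_9_1 lc_i_rc_18_1 lc_i_rc_26_1 lc_i_rc_18_1 lc_i_rc_26_1 lc_i_rc_9_1 lc_i_rc_18_1 lc_i_rc_26_1 lc_i_rc_9_1 lc_i_rc_18_1 lc_i_rc_9_1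 lc_i_rc_18_1 lc_i_rc_50_1 lc_i_rc_33_1 lc_i_rc_46_1 lc_i_rc_26_1 lc_i_rc_33_1) (@D3.rec (fun _ => (Cert rels S Gen.i)) lc_i_rc_18_1 lc_i_rc_26_1 lc_i_rc_33_1 lc_i_rc_46_3 lc_i_rc_26_1 lc_i_rc_41_3 lc_i_rc_18_1 lc_i_rc_26_1 lc_i_rc_33_1 lc_i_rc_9_1 lc_i_rc_26_1 lc_i_rc_41_3 lc_i_rc_18_1 lc_i_rc_26_1 lc_i_rc_26_1 lc_i_rc_39_1 lc_i_rc_18_1 lc_i_rc_26_1 lc_i_rc_9_1 lc_i_rc_18_1 lc_i_rc_46_1 lc_i_rc_26_1 lc_i_rc_18_1 lc_i_rc_9_1 lc_i_rc_18_1 lc_i_rc_18_1 lc_i_rc_18_1 lc_i_rc_26_1 lc_i_rc_9_1 lc_i_rc_18_1 lc_i_rc_33_1 lc_i_rc_9_1 lc_i_rc_9_1 lc_i_rc_9_1 lc_i_rc_46_1 lc_i_rc_39_1 lc_i_rc_39_1 lc_i_rc_9_1 lc_i_rc_18_1 lc_i_rc_26_1 lc_i_rc_46_1 lc_i_rc_18_1 lc_i_rc_33_1 lc_i_rc_46_1 lc_i_rc_26_1 lc_i_rc_9_1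 lc_i_rc_18_1 lc_i_rc_26_1 lc_i_rc_39_1 lc_i_rc_18_1 lc_i_rc_26_1) (@D3.rec (fun _ => (Cert rels S Gen.i)) lc_i_rc_18_1 lc_i_rc_26_1 lc_i_rc_46_1 lc_i_rc_9_1 lc_i_rc_18_1 lc_i_rc_26_1 lc_i_rc_50_1 lc_i_rc_33_1 lc_i_rc_46_1 lc_i_rc_9_1 lc_i_rc_18_1 lc_i_rc_26_1 lc_i_rc_18_1 lc_i_rc_26_1 lc_i_rc_9_1 lc_i_rc_50_1 lc_i_rc_26_1 lc_i_rc_18_1 lc_i_rc_26_1 lc_i_rc_9_1 lc_i_rc_18_1 lc_i_rc_18_1 lc_i_rc_9_1 lc_i_rc_18_1 lc_i_rc_9_1 lc_i_rc_50_3 lc_i_rc_26_1 lc_i_rc_18_1 lc_i_rc_26_1 lc_i_rc_9_1 lc_i_rc_18_1 lc_i_rc_33_1 lc_i_rc_9_1 lc_i_rc_18_1 lc_i_rc_26_1 lc_i_rc_9_1 lc_i_rc_18_1 lc_i_rc_53_1 lc_i_rc_26_1 lc_i_rc_9_1 lc_i_rc_18_1 lc_i_rc_9_1 lc_i_rc_9_1 lc_i_rc_50_1 lc_i_rc_50_1 lc_i_rc_9_1 lc_i_rc_41_1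 lc_i_rc_9_1 lc_i_rc_18_1 lc_i_rc_26_1 lc_i_rc_26_1) (@D3.rec (fun _ => (Cert rels S Gen.i)) lc_i_rc_39_1 lc_i_rc_18_1 lc_i_rc_26_1 lc_i_rc_46_1 lc_i_rc_9_1 lc_i_rc_18_1 lc_i_rc_26_1 lc_i_rc_26_1 lc_i_rc_39_1 lc_i_rc_18_1 lc_i_rc_26_1 lc_i_rc_46_1 lc_i_rc_18_1 lc_i_rc_26_1 lc_i_rc_46_1 lc_i_rc_9_1 lc_i_rc_18_1 lc_i_rc_26_1 lc_i_rc_9_1 lc_i_rc_18_1 lc_i_rc_26_1 lc_i_rc_9_1 lc_i_rc_18_1 lc_i_rc_26_1 lc_i_rc_18_1 lc_i_rc_26_1 lc_i_rc_9_1 lc_i_rc_18_1 lc_i_rc_41_1 lc_i_rc_9_1 lc_i_rc_18_1 lc_i_rc_9_1 lc_i_rc_18_1 lc_i_rc_18_1 lc_i_rc_26_1 lc_i_rc_9_1 lc_i_rc_18_1 lc_i_rc_33_1 lc_i_rc_9_1 lc_i_rc_18_1 lc_i_rc_18_3 lc_i_rc_9_3 lc_i_rc_50_1 lc_i_rc_18_1 lc_i_rc_18_3 lc_i_rc_18_1 lc_i_rc_54_1 lc_i_rc_9_1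 lc_i_rc_18_1 lc_i_rc_53_1 lc_i_rc_9_3) (@D3.rec (fun _ => (Cert rels S Gen.i)) lc_i_rc_46_1 lc_i_rc_9_1 lc_i_rc_18_1 lc_i_rc_9_1 lc_i_rc_18_1 lc_i_rc_9_1 lc_i_rc_54_1 lc_i_rc_9_1 lc_i_rc_9_1 lc_i_rc_18_1 lc_i_rc_46_1 lc_i_rc_39_1 lc_i_rc_9_1 lc_i_rc_9_1 lc_i_rc_46_1 lc_i_rc_46_1 lc_i_rc_9_1 lc_i_rc_50_1 lc_i_rc_39_1 lc_i_rc_46_1 lc_i_rc_18_1 lc_i_rc_33_1 lc_i_rc_18_1 lc_i_rc_26_1 lc_i_rc_9_1 lc_i_rc_9_3 lc_i_rc_39_1 lc_i_rc_50_1 lc_i_rc_33_1 lc_i_rc_53_1 lc_i_rc_50_1 lc_i_rc_9_3 lc_i_rc_39_1 lc_i_rc_33_3 lc_i_rc_9_1 lc_i_rc_18_1 lc_i_rc_50_1 lc_i_rc_18_1 lc_i_rc_50_1 lc_i_rc_9_1 lc_i_rc_33_1 lc_i_rc_46_3 lc_i_rc_9_1 lc_i_rc_46_1 lc_i_rc_18_1 lc_i_rc_53_3 lc_i_rc_50_1 lc_i_rc_9_1 lc_i_rc_9_1 lc_i_rc_9_1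 lc_i_rc_18_1) (@D3.rec (fun _ => (Cert rels S Gen.i)) lc_i_rc_26_1 lc_i_rc_33_1 lc_i_rc_26_1 lc_i_rc_46_1 lc_i_rc_46_3 lc_i_rc_26_1 lc_i_rc_18_1 lc_i_rc_26_1 lc_i_rc_9_1 lc_i_rc_18_1 lc_i_rc_39_1 lc_i_rc_18_1 lc_i_rc_26_1 lc_i_rc_9_1 lc_i_rc_9_1 lc_i_rc_18_1 lc_i_rc_33_1 lc_i_rc_9_1 lc_i_rc_26_1 lc_i_rc_9_1 lc_i_rc_18_1 lc_i_rc_26_1 lc_i_rc_53_1 lc_i_rc_26_1 lc_i_rc_18_1 lc_i_rc_9_1 lc_i_rc_18_1 lc_i_rc_33_1 lc_i_rc_26_1 lc_i_rc_39_1 lc_i_rc_18_1 lc_i_rc_26_1 lc_i_rc_46_1 lc_i_rc_18_1 lc_i_rc_26_1 lc_i_rc_9_1 lc_i_rc_18_1 lc_i_rc_33_1 lc_i_rc_9_1 lc_i_rc_18_1 lc_i_rc_33_1 lc_i_rc_9_1 lc_i_rc_18_1 lc_i_rc_9_1 lc_i_rc_9_1 lc_i_rc_9_1 lc_i_rc_18_1 lc_i_rc_33_1 lc_i_rc_46_1 lc_i_rc_18_1 lc_i_rc_33_1)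 (@D3.rec (fun _ => (Cert rels S Gen.i)) lc_i_rc_9_1 lc_i_rc_18_1 lc_i_rc_39_1 lc_i_rc_46_1 lc_i_rc_46_3 lc_i_rc_33_1 lc_i_rc_33_3 lc_i_rc_18_1 lc_i_rc_26_1 lc_i_rc_9_1 lc_i_rc_18_1 lc_i_rc_39_3 lc_i_rc_9_1 lc_i_rc_9_1 lc_i_rc_18_1 lc_i_rc_9_1 lc_i_rc_18_1 lc_i_Cert_tree lc_i_rc_18_1 lc_i_rc_26_1 lc_i_rc_46_1 lc_i_rc_9_1 lc_i_rc_18_1 lc_i_rc_9_1 lc_i_rc_18_1 lc_i_rc_9_1 lc_i_rc_39_1 lc_i_rc_9_1 lc_i_rc_9_1 lc_i_rc_9_1 lc_i_rc_18_1 lc_i_rc_26_1 lc_i_rc_9_1 lc_i_rc_39_3 lc_i_rc_46_3 lc_i_rc_55_53 lc_i_rc_9_1 lc_i_rc_9_1 lc_i_rc_18_1 lc_i_rc_26_1 lc_i_Cert_tree lc_i_rc_54_0 lc_i_rc_9_1 lc_i_rc_9_1 lc_i_rc_9_1 lc_i_rc_18_1 lc_i_rc_53_1 lc_i_rc_50_1 lc_i_rc_18_1 lc_i_rc_9_1 lc_i_rc_18_1) (@D3.rec (fun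 _ => (Cert rels S Gen.i)) lc_i_Cert_tree lc_i_rc_26_1 lc_i_rc_54_0 lc_i_rc_26_1 lc_i_rc_46_1 lc_i_rc_18_1 lc_i_rc_26_1 lc_i_rc_18_1 lc_i_rc_26_1 lc_i_rc_18_1 lc_i_rc_33_3 lc_i_rc_39_1 lc_i_rc_26_1 lc_i_rc_18_3 lc_i_rc_18_1 lc_i_rc_9_1 lc_i_rc_9_1 lc_i_rc_26_1 lc_i_rc_46_1 lc_i_rc_26_1 lc_i_rc_18_1 lc_i_rc_18_1 lc_i_rc_26_1 lc_i_rc_41_3 lc_i_rc_18_1 lc_i_rc_26_1 lc_i_rc_33_1 lc_i_rc_50_1 lc_i_rc_26_1 lc_i_rc_33_1 lc_i_rc_18_1 lc_i_rc_26_1 lc_i_rc_9_1 lc_i_rc_26_1 lc_i_rc_39_1 lc_i_rc_18_1 lc_i_rc_26_1 lc_i_rc_46_1 lc_i_rc_9_1 lc_i_rc_18_1 lc_i_rc_26_1 lc_i_rc_9_1 lc_i_rc_18_1 lc_i_rc_26_1 lc_i_rc_26_1 lc_i_rc_46_1 lc_i_rc_33_1 lc_i_Cert_tree lc_i_rc_9_1 lc_i_rc_18_1 lc_i_rc_26_1) (@D3.rec (fun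 _ => (Cert rels S Gen.i)) lc_i_rc_33_1 lc_i_rc_9_1 lc_i_rc_18_1 lc_i_rc_26_1 lc_i_rc_33_1 lc_i_rc_18_1 lc_i_rc_26_1 lc_i_rc_33_1 lc_i_rc_9_1 lc_i_rc_18_1 lc_i_rc_26_1 lc_i_rc_26_1 lc_i_rc_39_1 lc_i_rc_18_1 lc_i_rc_26_1 lc_i_rc_9_1 lc_i_rc_18_1 lc_i_rc_26_1 lc_i_rc_39_1 lc_i_rc_18_1 lc_i_rc_26_1 lc_i_rc_46_1 lc_i_rc_18_1 lc_i_rc_26_1 lc_i_rc_46_1 lc_i_rc_9_1 lc_i_rc_18_1 lc_i_rc_26_1 lc_i_rc_50_1 lc_i_rc_9_1 lc_i_rc_18_1 lc_i_rc_26_1 lc_i_rc_26_1 lc_i_rc_9_1 lc_i_rc_18_1 lc_i_rc_26_1 lc_i_rc_9_1 lc_i_rc_18_1 lc_i_Cert_tree lc_i_rc_33_1 lc_i_rc_46_3 lc_i_rc_33_1 lc_i_Cert_tree lc_i_rc_54_0 lc_i_rc_54_0 lc_i_rc_18_1 lc_i_rc_9_1 lc_i_rc_26_1 lc_i_rc_26_1 lc_i_rc_18_1 lc_i_rc_26_1) (@D3.rec (fun _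 => (Cert rels S Gen.i)) lc_i_rc_18_1 lc_i_rc_26_1 lc_i_rc_9_1 lc_i_rc_46_1 lc_i_rc_39_1 lc_i_rc_9_1 lc_i_rc_18_1 lc_i_rc_9_1 lc_i_rc_18_1 lc_i_rc_18_1 lc_i_rc_26_1 lc_i_rc_9_1 lc_i_rc_9_1 lc_i_rc_18_1 lc_i_rc_26_1 lc_i_rc_9_1 lc_i_rc_18_1 lc_i_rc_9_1 lc_i_rc_18_1 lc_i_rc_46_1 lc_i_rc_26_1 lc_i_rc_18_3 lc_i_rc_9_1 lc_i_rc_18_1 lc_i_rc_26_1 lc_i_rc_9_1 lc_i_rc_18_1 lc_i_rc_9_1 lc_i_rc_26_1 lc_i_rc_39_1 lc_i_rc_50_3 lc_i_rc_9_1 lc_i_rc_9_1 lc_i_rc_26_1 lc_i_rc_39_1 lc_i_rc_18_1 lc_i_rc_26_1 lc_i_rc_46_1 lc_i_rc_50_1 lc_i_rc_26_1 lc_i_rc_41_3 lc_i_rc_18_1 lc_i_rc_26_1 lc_i_rc_39_1 lc_i_rc_26_1 lc_i_rc_46_1 lc_i_rc_18_1 lc_i_rc_26_1 lc_i_rc_46_1 lc_i_rc_33_1 lc_i_rc_18_1) (@D3.rec (fun _ => (Cert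 rels S Gen.i)) lc_i_rc_26_1 lc_i_rc_39_1 lc_i_rc_18_1 lc_i_rc_26_1 lc_i_rc_46_1 lc_i_rc_9_1 lc_i_rc_18_1 lc_i_rc_26_1 lc_i_rc_50_1 lc_i_rc_46_1 lc_i_rc_18_1 lc_i_rc_33_1 lc_i_rc_26_1 lc_i_rc_39_1 lc_i_rc_18_1 lc_i_rc_26_1 lc_i_rc_9_1 lc_i_rc_18_1 lc_i_rc_26_1 lc_i_rc_33_3 lc_i_rc_26_1 lc_i_rc_9_1 lc_i_rc_18_1 lc_i_rc_26_1 lc_i_rc_18_1 lc_i_rc_26_1 lc_i_rc_33_1 lc_i_rc_9_1 lc_i_rc_18_1 lc_i_rc_26_1 lc_i_rc_54_0 lc_i_rc_26_1 lc_i_rc_9_1 lc_i_rc_18_1 lc_i_rc_50_1 lc_i_rc_18_1 lc_i_rc_26_1 lc_i_rc_9_1 lc_i_rc_18_1 lc_i_rc_33_1 lc_i_rc_26_1 lc_i_rc_9_1 lc_i_rc_9_1 lc_i_rc_18_1 lc_i_rc_18_1 lc_i_rc_26_1 lc_i_rc_9_1 lc_i_rc_18_1 lc_i_rc_9_1 lc_i_rc_18_1 lc_i_Cert_tree) (@D3.rec (fun _ => (Cert rels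 S Gen.i)) lc_i_rc_9_3 lc_i_rc_54_0 lc_i_rc_26_1 lc_i_rc_18_1 lc_i_rc_18_1 lc_i_rc_26_1 lc_i_rc_39_1 lc_i_rc_9_1 lc_i_rc_18_1 lc_i_rc_33_1 lc_i_rc_18_1 lc_i_rc_26_1 lc_i_rc_9_1 lc_i_rc_18_1 lc_i_rc_26_1 lc_i_rc_9_1 lc_i_rc_18_1 lc_i_rc_26_1 lc_i_rc_18_1 lc_i_rc_26_1 lc_i_rc_9_1 lc_i_rc_18_1 lc_i_rc_26_1 lc_i_rc_9_1 lc_i_rc_18_1 lc_i_rc_53_1 lc_i_rc_9_1 lc_i_rc_18_1 lc_i_rc_18_1 lc_i_rc_26_1 lc_i_rc_9_1 lc_i_rc_18_1 lc_i_rc_9_1 lc_i_rc_9_1 lc_i_rc_18_1 lc_i_rc_9_1 lc_i_rc_18_1 lc_i_rc_9_1 lc_i_rc_41_3 lc_i_rc_26_1 lc_i_rc_50_1 lc_i_rc_9_1 lc_i_rc_9_1 lc_i_rc_18_1 lc_i_rc_9_1 lc_i_rc_18_1 lc_i_rc_9_1 lc_i_rc_9_1 lc_i_rc_18_1 lc_i_Cert_tree lc_i_rc_54_0) (@D3.rec (fun _ => (Cert rels S Gen.i)) lc_i_rc_26_1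 lc_i_rc_53_1 lc_i_rc_41_3 lc_i_rc_18_1 lc_i_rc_18_1 lc_i_rc_26_1 lc_i_rc_18_1 lc_i_rc_26_1 lc_i_rc_9_1 lc_i_rc_53_1 lc_i_rc_9_1 lc_i_rc_9_1 lc_i_rc_18_1 lc_i_rc_9_1 lc_i_rc_18_1 lc_i_rc_26_1 lc_i_rc_41_1 lc_i_rc_26_1 lc_i_rc_9_1 lc_i_rc_18_1 lc_i_rc_26_1 lc_i_rc_46_1 lc_i_rc_18_1 lc_i_rc_26_1 lc_i_rc_9_1 lc_i_rc_9_1 lc_i_rc_18_1 lc_i_rc_26_1 lc_i_rc_55_44 lc_i_rc_39_1 lc_i_rc_39_1 lc_i_rc_9_1 lc_i_rc_18_1 lc_i_rc_26_1 lc_i_rc_18_1 lc_i_rc_26_1 lc_i_rc_9_1 lc_i_rc_18_1 lc_i_rc_26_1 lc_i_rc_46_1 lc_i_rc_9_1 lc_i_rc_18_1 lc_i_rc_33_1 lc_i_rc_53_1 lc_i_rc_9_1 lc_i_rc_18_1 lc_i_rc_9_1 lc_i_rc_18_1 lc_i_rc_9_1 lc_i_rc_18_1 lc_i_rc_9_1) (@D3.rec (fun _ => (Cert rels S Gen.i)) lc_i_rc_50_1 lc_i_rc_33_1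 lc_i_rc_39_1 lc_i_rc_46_1 lc_i_rc_39_1 lc_i_rc_9_1 lc_i_rc_18_1 lc_i_rc_18_1 lc_i_rc_26_1 lc_i_rc_41_3 lc_i_rc_26_1 lc_i_rc_39_1 lc_i_rc_18_1 lc_i_rc_26_1 lc_i_rc_46_1 lc_i_rc_50_1 lc_i_rc_18_1 lc_i_rc_26_1 lc_i_rc_9_1 lc_i_rc_18_1 lc_i_rc_9_1 lc_i_rc_18_1 lc_i_rc_26_1 lc_i_rc_18_1 lc_i_rc_26_1 lc_i_rc_46_1 lc_i_rc_18_1 lc_i_rc_9_1 lc_i_rc_18_1 lc_i_rc_26_1 lc_i_rc_9_1 lc_i_rc_18_1 lc_i_rc_26_1 lc_i_Cert_tree lc_i_rc_53_1 lc_i_rc_9_1 lc_i_rc_53_1 lc_i_rc_39_3 lc_i_rc_9_1 lc_i_rc_18_1 lc_i_rc_39_1 lc_i_rc_9_3 lc_i_rc_9_1 lc_i_rc_18_1 lc_i_rc_26_1 lc_i_rc_39_1 lc_i_rc_9_1 lc_i_rc_18_1 lc_i_rc_9_1 lc_i_rc_18_1 lc_i_Cert_tree) (@D3.rec (fun _ => (Cert rels S Gen.i)) lc_i_Cert_tree lc_i_rc_54_0 lc_i_rc_26_1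 lc_i_rc_26_1 lc_i_rc_39_1 lc_i_rc_18_1 lc_i_rc_18_1 lc_i_rc_26_1 lc_i_rc_9_1 lc_i_rc_18_1 lc_i_rc_26_1 lc_i_rc_18_1 lc_i_rc_33_1 lc_i_rc_26_1 lc_i_rc_18_1 lc_i_rc_26_1 lc_i_rc_18_1 lc_i_rc_26_1 lc_i_rc_9_3 lc_i_rc_18_1 lc_i_rc_26_1 lc_i_rc_46_1 lc_i_rc_9_1 lc_i_rc_18_1 lc_i_rc_26_1 lc_i_rc_50_1 lc_i_rc_46_1 lc_i_rc_9_1 lc_i_rc_18_1 lc_i_rc_33_1 lc_i_rc_9_1 lc_i_rc_26_1 lc_i_rc_39_1 lc_i_rc_18_1 lc_i_rc_26_1 lc_i_rc_9_1 lc_i_rc_18_1 lc_i_rc_9_1 lc_i_rc_18_1 lc_i_rc_18_1 lc_i_rc_26_1 lc_i_rc_9_3 lc_i_rc_9_1 lc_i_rc_18_1 lc_i_rc_26_1 lc_i_rc_18_1 lc_i_rc_26_1 lc_i_rc_46_1 lc_i_rc_9_1 lc_i_rc_18_1 lc_i_rc_33_1) (@D3.rec (fun _ => (Cert rels S Gen.i)) lc_i_rc_26_1 lc_i_rc_9_1 lc_i_rc_18_1 lc_i_rc_9_1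 lc_i_rc_18_1 lc_i_rc_9_1 lc_i_rc_18_1 lc_i_rc_9_1 lc_i_rc_18_1 lc_i_Cert_tree lc_i_rc_54_0 lc_i_rc_53_1 lc_i_rc_18_1 lc_i_rc_26_1 lc_i_rc_39_1 lc_i_rc_18_1 lc_i_rc_26_1 lc_i_rc_18_1 lc_i_rc_26_1 lc_i_rc_9_1 lc_i_rc_18_1 lc_i_rc_53_1 lc_i_rc_53_1 lc_i_rc_9_1 lc_i_rc_9_1 lc_i_rc_18_1 lc_i_rc_9_1 lc_i_rc_18_1 lc_i_rc_26_1 lc_i_rc_41_3 lc_i_rc_18_1 lc_i_rc_26_1 lc_i_rc_46_1 lc_i_rc_9_1 lc_i_rc_18_1 lc_i_rc_26_1 lc_i_rc_9_1 lc_i_rc_18_1 lc_i_rc_26_1 lc_i_rc_9_1 lc_i_rc_18_1 lc_i_rc_18_1 lc_i_rc_26_1 lc_i_rc_46_1 lc_i_rc_9_1 lc_i_rc_18_1 lc_i_rc_33_1 lc_i_rc_26_1 lc_i_rc_9_1 lc_i_rc_18_1 lc_i_rc_33_1) (@D3.rec (fun _ => (Cert rels S Gen.i)) lc_i_rc_26_1 lc_i_rc_50_1 lc_i_rc_9_1 lc_i_rc_18_1 lc_i_rc_18_1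 lc_i_rc_33_1 lc_i_rc_26_1 lc_i_rc_39_3 lc_i_rc_18_1 lc_i_rc_9_1 lc_i_rc_18_1 lc_i_rc_18_1 lc_i_Cert_tree lc_i_rc_9_1 lc_i_rc_18_1 lc_i_rc_39_3 lc_i_rc_9_1 lc_i_rc_9_1 lc_i_Cert_tree lc_i_rc_54_0 lc_i_rc_54_0 lc_i_rc_46_3 lc_i_rc_33_1 lc_i_rc_26_3 lc_i_rc_9_1 lc_i_rc_9_1 lc_i_rc_18_1 lc_i_rc_9_1 lc_i_rc_9_1 lc_i_rc_46_1 lc_i_rc_26_1 lc_i_rc_26_1 lc_i_rc_9_1 lc_i_rc_18_1 lc_i_rc_26_1 lc_i_rc_9_1 lc_i_rc_18_1 lc_i_rc_33_1 lc_i_rc_18_1 lc_i_rc_26_1 lc_i_rc_9_1 lc_i_rc_9_1 lc_i_rc_18_1 lc_i_rc_9_1 lc_i_rc_9_1 lc_i_rc_9_1 lc_i_rc_18_1 lc_i_rc_33_1 lc_i_rc_9_1 lc_i_rc_9_1 lc_i_rc_18_1) (@D3.rec (fun _ => (Cert rels S Gen.i)) lc_i_rc_9_1 lc_i_rc_9_1 lc_i_Cert_tree lc_i_rc_54_0 lc_i_rc_9_1 lc_i_rc_50_1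 lc_i_rc_53_1 lc_i_rc_9_3 lc_i_rc_46_1 lc_i_rc_18_1 lc_i_rc_33_1 lc_i_rc_9_1 lc_i_rc_41_3 lc_i_rc_39_1 lc_i_rc_9_1 lc_i_rc_18_1 lc_i_rc_26_1 lc_i_rc_46_1 lc_i_rc_9_1 lc_i_rc_18_1 lc_i_rc_26_1 lc_i_rc_50_1 lc_i_rc_9_1 lc_i_rc_18_1 lc_i_rc_33_1 lc_i_rc_18_1 lc_i_rc_26_1 lc_i_rc_9_1 lc_i_rc_18_1 lc_i_rc_26_1 lc_i_rc_33_1 lc_i_rc_9_1 lc_i_rc_18_1 lc_i_rc_26_1 lc_i_rc_9_1 lc_i_rc_18_1 lc_i_rc_26_1 lc_i_rc_33_1 lc_i_rc_46_1 lc_i_rc_18_1 lc_i_rc_26_1 lc_i_rc_50_1 lc_i_rc_9_1 lc_i_rc_18_1 lc_i_rc_33_1 lc_i_rc_46_1 lc_i_rc_26_1 lc_i_rc_39_3 lc_i_rc_18_1 lc_i_rc_26_1 lc_i_rc_9_1) (@D3.rec (fun _ => (Cert rels S Gen.i)) lc_i_rc_18_1 lc_i_rc_26_1 lc_i_rc_9_1 lc_i_rc_18_1 lc_i_rc_26_1 lc_i_rc_26_1 lc_i_rc_9_1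 lc_i_rc_18_1 lc_i_rc_18_1 lc_i_rc_33_3 lc_i_rc_18_1 lc_i_rc_26_1 lc_i_rc_9_1 lc_i_rc_18_1 lc_i_rc_33_1 lc_i_rc_9_1 lc_i_rc_9_1 lc_i_rc_18_1 lc_i_rc_26_1 lc_i_rc_9_1 lc_i_Cert_tree lc_i_rc_54_0 lc_i_rc_33_1 lc_i_rc_50_1 lc_i_rc_46_3 lc_i_rc_18_1 lc_i_rc_26_1 lc_i_rc_9_1 lc_i_rc_53_1 lc_i_rc_26_1 lc_i_rc_9_1 lc_i_rc_18_1 lc_i_rc_33_1 lc_i_rc_53_1 lc_i_rc_39_1 lc_i_rc_39_3 lc_i_rc_46_3 lc_i_rc_33_3 lc_i_rc_46_1 lc_i_rc_46_1 lc_i_rc_18_1 lc_i_rc_39_1 lc_i_rc_39_1 lc_i_rc_9_1 lc_i_rc_18_1 lc_i_rc_33_1 lc_i_rc_26_1 lc_i_rc_18_1 lc_i_rc_33_1 lc_i_rc_18_1 lc_i_rc_26_1) (@D3.rec (fun _ => (Cert rels S Gen.i)) lc_i_rc_18_1 lc_i_rc_9_1 lc_i_rc_46_1 lc_i_rc_39_1 lc_i_rc_39_1 lc_i_rc_9_1 lc_i_rc_18_1 lc_i_rc_33_1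 lc_i_rc_26_1 lc_i_rc_50_1 lc_i_rc_9_1 lc_i_rc_18_1 lc_i_rc_26_1 lc_i_rc_46_1 lc_i_rc_18_1 lc_i_rc_33_1 lc_i_rc_9_1 lc_i_rc_18_1 lc_i_Cert_tree lc_i_rc_9_1 lc_i_rc_18_1 lc_i_rc_26_1 lc_i_rc_9_1 lc_i_rc_18_1 lc_i_rc_33_1 lc_i_rc_9_1 lc_i_rc_18_1 lc_i_rc_9_1 lc_i_rc_18_1 lc_i_rc_26_1 lc_i_rc_9_1 lc_i_rc_18_1 lc_i_rc_26_1 lc_i_rc_26_1 lc_i_rc_9_1 lc_i_rc_18_1 lc_i_Cert_tree lc_i_rc_50_1 lc_i_rc_18_1 lc_i_rc_9_1 lc_i_rc_9_1 lc_i_rc_9_1 lc_i_rc_9_1 lc_i_rc_9_1 lc_i_rc_18_1 lc_i_rc_26_1 lc_i_rc_9_1 lc_i_rc_18_1 lc_i_Cert_tree lc_i_rc_9_1 lc_i_rc_18_1) (@D3.rec (fun _ => (Cert rels S Gen.i)) lc_i_Cert_tree lc_i_rc_54_0 lc_i_rc_33_1 lc_i_rc_18_1 lc_i_Cert_tree lc_i_rc_26_1 lc_i_rc_54_0 lc_i_rc_46_1 lc_i_rc_54_0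 lc_i_Cert_tree lc_i_rc_54_0 lc_i_rc_50_1 lc_i_rc_50_3 lc_i_rc_54_0 lc_i_rc_26_1 lc_i_rc_9_1 lc_i_rc_18_1 lc_i_rc_33_1 lc_i_rc_26_1 lc_i_rc_9_1 lc_i_rc_50_1 lc_i_rc_9_1 lc_i_rc_18_1 lc_i_rc_33_1 lc_i_rc_9_1 lc_i_rc_18_1 lc_i_rc_50_1 lc_i_rc_9_1 lc_i_rc_9_1 lc_i_rc_18_1 lc_i_rc_50_3 lc_i_rc_26_1 lc_i_rc_18_1 lc_i_rc_9_1 lc_i_rc_39_1 lc_i_rc_33_1 lc_i_rc_9_1 lc_i_rc_50_1 lc_i_rc_26_1 lc_i_rc_18_1 lc_i_rc_9_1 lc_i_rc_50_1 lc_i_rc_26_1 lc_i_rc_26_1 lc_i_rc_41_1 lc_i_rc_18_1 lc_i_Cert_tree lc_i_rc_9_1 lc_i_rc_18_1 lc_i_rc_26_1 lc_i_rc_9_1) (@D3.rec (fun _ => (Cert rels S Gen.i)) lc_i_rc_18_1 lc_i_rc_18_1 lc_i_Cert_tree lc_i_rc_9_1 lc_i_rc_18_1 lc_i_Cert_tree lc_i_rc_54_0 lc_i_rc_53_1 lc_i_rc_18_1 lc_i_rc_18_1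 lc_i_rc_33_1 lc_i_rc_9_1 lc_i_rc_9_1 lc_i_rc_53_3 lc_i_rc_26_1 lc_i_rc_18_1 lc_i_rc_18_1 lc_i_rc_26_1 lc_i_rc_46_1 lc_i_rc_9_1 lc_i_rc_18_1 lc_i_rc_33_1 lc_i_rc_26_1 lc_i_rc_9_1 lc_i_rc_18_1 lc_i_rc_33_1 lc_i_rc_9_1 lc_i_rc_18_1 lc_i_rc_39_1 lc_i_rc_33_1 lc_i_Cert_tree lc_i_rc_9_1 lc_i_rc_18_1 lc_i_rc_9_1 lc_i_rc_33_3 lc_i_rc_18_1 lc_i_rc_9_3 lc_i_rc_9_1 lc_i_rc_18_1 lc_i_rc_26_1 lc_i_rc_9_1 lc_i_rc_18_1 lc_i_rc_9_1 lc_i_rc_9_1 lc_i_Cert_tree lc_i_rc_54_0 lc_i_rc_9_1 lc_i_rc_18_1 lc_i_rc_9_1 lc_i_Cert_tree lc_i_rc_54_0) (@D3.rec (fun _ => (Cert rels S Gen.i)) lc_i_rc_9_1 lc_i_Cert_tree lc_i_rc_50_3 lc_i_rc_54_0 lc_i_rc_9_3 lc_i_Cert_tree lc_i_rc_54_0 lc_i_rc_33_1 lc_i_rc_26_1 lc_i_rc_54_0 lc_i_rc_26_1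 lc_i_rc_18_1 lc_i_rc_26_1 lc_i_rc_18_1 lc_i_rc_26_1 lc_i_rc_26_1 lc_i_rc_33_1 lc_i_rc_9_3 lc_i_rc_18_1 lc_i_rc_18_1 lc_i_rc_9_1 lc_i_rc_18_1 lc_i_rc_33_1 lc_i_rc_18_1 lc_i_rc_9_3 lc_i_rc_46_1 lc_i_rc_18_1 lc_i_rc_18_1 lc_i_rc_9_1 lc_i_rc_9_1 lc_i_rc_9_1 lc_i_rc_18_1 lc_i_rc_33_1 lc_i_rc_9_1 lc_i_rc_26_1 lc_i_rc_26_1 lc_i_rc_18_3 lc_i_rc_18_1 lc_i_rc_26_1 lc_i_rc_46_1 lc_i_rc_18_1 lc_i_rc_33_1 lc_i_rc_9_1 lc_i_rc_18_1 lc_i_rc_26_1 lc_i_rc_18_1 lc_i_rc_26_1 lc_i_rc_9_1 lc_i_rc_18_1 lc_i_rc_26_1 lc_i_rc_50_1) (@D3.rec (fun _ => (Cert rels S Gen.i)) lc_i_rc_33_1 lc_i_rc_46_1 lc_i_rc_18_3 lc_i_rc_18_1 lc_i_rc_26_1 lc_i_rc_9_1 lc_i_rc_18_1 lc_i_rc_33_1 lc_i_rc_26_1 lc_i_rc_9_1 lc_i_rc_18_1 lc_i_rc_9_1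 lc_i_rc_18_1 lc_i_rc_33_1 lc_i_rc_9_1 lc_i_rc_18_1 lc_i_rc_9_1 lc_i_rc_9_1 lc_i_rc_46_1 lc_i_rc_54_0 lc_i_rc_33_1 lc_i_rc_9_1 lc_i_rc_18_1 lc_i_rc_33_1 lc_i_rc_33_1 lc_i_rc_50_3 lc_i_rc_26_1 lc_i_rc_46_1 lc_i_rc_9_1 lc_i_rc_18_1 lc_i_rc_26_1 lc_i_rc_18_1 lc_i_rc_26_1 lc_i_rc_9_1 lc_i_rc_18_1 lc_i_rc_18_1 lc_i_rc_26_1 lc_i_rc_9_1 lc_i_rc_18_1 lc_i_rc_33_1 lc_i_rc_9_1 lc_i_rc_9_1 lc_i_rc_18_1 lc_i_rc_33_1 lc_i_rc_9_1 lc_i_rc_9_1 lc_i_rc_9_1 lc_i_rc_9_1 lc_i_rc_18_1 lc_i_rc_33_1 lc_i_rc_9_1) (@D3.rec (fun _ => (Cert rels S Gen.i)) lc_i_rc_18_1 lc_i_rc_46_1 lc_i_rc_18_1 lc_i_rc_39_1 lc_i_rc_33_3 lc_i_rc_9_1 lc_i_rc_18_1 lc_i_rc_26_3 lc_i_rc_18_1 lc_i_Cert_tree lc_i_rc_39_3 lc_i_rc_33_3 lc_i_rc_9_1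 lc_i_rc_18_1 lc_i_rc_26_1 lc_i_rc_9_1 lc_i_rc_18_1 lc_i_rc_33_1 lc_i_rc_9_1 lc_i_rc_18_1 lc_i_rc_26_1 lc_i_rc_50_1 lc_i_rc_9_1 lc_i_rc_18_1 lc_i_rc_26_1 lc_i_rc_39_1 lc_i_rc_9_1 lc_i_rc_18_1 lc_i_rc_9_1 lc_i_rc_18_1 lc_i_rc_50_1 lc_i_rc_46_3 lc_i_rc_33_1 lc_i_rc_9_1 lc_i_rc_18_1 lc_i_rc_9_1 lc_i_rc_9_1 lc_i_rc_9_1 lc_i_rc_50_3 lc_i_rc_18_1 lc_i_rc_46_1 lc_i_rc_9_1 lc_i_rc_18_1 lc_i_rc_33_1 lc_i_rc_9_1 lc_i_rc_18_1 lc_i_rc_9_1 lc_i_rc_18_1 lc_i_rc_9_1 lc_i_rc_53_1 lc_i_rc_18_1) (@D3.rec (fun _ => (Cert rels S Gen.i)) lc_i_rc_9_1 lc_i_rc_9_1 lc_i_rc_18_1 lc_i_rc_18_1 lc_i_rc_26_1 lc_i_rc_46_1 lc_i_rc_9_1 lc_i_rc_18_1 lc_i_rc_33_1 lc_i_rc_26_1 lc_i_rc_9_1 lc_i_rc_18_1 lc_i_rc_18_1 lc_i_rc_26_1 lc_i_rc_46_1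 lc_i_rc_9_1 lc_i_rc_18_1 lc_i_rc_33_1 lc_i_rc_26_1 lc_i_rc_9_1 lc_i_rc_18_1 lc_i_rc_26_1 lc_i_rc_9_1 lc_i_rc_18_1 lc_i_rc_9_1 lc_i_rc_18_1 lc_i_rc_9_1 lc_i_rc_18_1 lc_i_rc_18_3 lc_i_rc_18_1 lc_i_rc_33_1 lc_i_rc_9_1 lc_i_rc_9_1 lc_i_rc_9_1 lc_i_rc_9_1 lc_i_rc_18_1 lc_i_rc_33_1 lc_i_rc_9_1 lc_i_rc_18_1 lc_i_rc_9_1 lc_i_rc_50_1 lc_i_rc_26_1 lc_i_rc_18_3 lc_i_rc_9_1 lc_i_rc_53_1 lc_i_rc_18_3 lc_i_rc_9_1 lc_i_rc_9_1 lc_i_rc_46_1 lc_i_rc_18_1 lc_i_rc_46_1)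
def ce_i_21 : D2 → D3 → (Cert rels S Gen.i) := @D2.rec (fun _ => D3 → (Cert rels S Gen.i)) (@D3.rec (fun _ => (Cert rels S Gen.i)) lc_i_rc_18_1 lc_i_rc_39_1 lc_i_rc_50_1 lc_i_rc_18_1 lc_i_rc_50_1 lc_i_rc_26_3 lc_i_rc_18_1 lc_i_rc_9_1 lc_i_rc_18_1 lc_i_rc_41_1 lc_i_rc_9_3 lc_i_rc_39_3 lc_i_rc_39_1 lc_i_rc_46_1 lc_i_rc_18_1 lc_i_rc_53_1 lc_i_rc_9_1 lc_i_rc_18_3 lc_i_rc_18_1 lc_i_rc_39_1 lc_i_rc_18_3 lc_i_rc_18_1 lc_i_rc_9_1 lc_i_rc_18_1 lc_i_rc_53_1 lc_i_rc_50_1 lc_i_rc_33_3 lc_i_rc_26_3 lc_i_rc_9_1 lc_i_rc_18_1 lc_i_rc_9_1 lc_i_rc_9_1 lc_i_rc_18_1 lc_i_rc_33_1 lc_i_rc_9_1 lc_i_rc_18_1 lc_i_rc_18_1 lc_i_rc_18_1 lc_i_rc_46_1 lc_i_rc_46_1 lc_i_rc_33_1 lc_i_rc_9_1 lc_i_rc_18_1 lc_i_Cert_tree lc_i_rc_18_1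 lc_i_rc_26_1 lc_i_rc_46_1 lc_i_rc_9_1 lc_i_rc_18_1 lc_i_rc_33_1 lc_i_rc_9_1) (@D3.rec (fun _ => (Cert rels S Gen.i)) lc_i_rc_18_1 lc_i_rc_33_1 lc_i_rc_9_1 lc_i_rc_18_1 lc_i_rc_9_1 lc_i_rc_53_1 lc_i_rc_9_1 lc_i_rc_9_1 lc_i_rc_18_1 lc_i_rc_18_3 lc_i_rc_18_1 lc_i_rc_9_1 lc_i_rc_26_1 lc_i_rc_18_1 lc_i_rc_53_1 lc_i_rc_39_1 lc_i_rc_9_1 lc_i_rc_18_1 lc_i_rc_9_1 lc_i_rc_9_1 lc_i_rc_9_1 lc_i_Cert_tree lc_i_rc_54_0 lc_i_rc_9_1 lc_i_rc_18_1 lc_i_rc_9_1 lc_i_rc_9_1 lc_i_rc_53_1 lc_i_rc_9_1 lc_i_rc_18_1 lc_i_rc_50_1 lc_i_rc_46_1 lc_i_rc_9_1 lc_i_rc_18_1 lc_i_Cert_tree lc_i_rc_54_0 lc_i_rc_9_1 lc_i_rc_53_1 lc_i_rc_18_3 lc_i_rc_9_1 lc_i_rc_53_1 lc_i_Cert_tree lc_i_rc_54_0 lc_i_rc_53_1 lc_i_rc_26_1 lc_i_rc_18_1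 lc_i_rc_46_3 lc_i_rc_41_3 lc_i_rc_33_1 lc_i_rc_33_1 lc_i_rc_46_1) (@D3.rec (fun _ => (Cert rels S Gen.i)) lc_i_rc_33_3 lc_i_rc_18_1 lc_i_rc_39_1 lc_i_rc_39_1 lc_i_rc_41_3 lc_i_rc_26_1 lc_i_rc_18_3 lc_i_rc_18_1 lc_i_rc_50_1 lc_i_rc_33_1 lc_i_rc_33_1 lc_i_rc_46_1 lc_i_rc_18_1 lc_i_rc_33_1 lc_i_rc_9_1 lc_i_rc_50_1 lc_i_rc_26_1 lc_i_rc_46_1 lc_i_rc_9_1 lc_i_rc_18_1 lc_i_rc_26_1 lc_i_rc_33_1 lc_i_rc_18_1 lc_i_rc_26_1 lc_i_rc_33_1 lc_i_rc_9_1 lc_i_rc_18_1 lc_i_rc_26_1 lc_i_rc_18_1 lc_i_rc_26_1 lc_i_rc_46_1 lc_i_rc_9_1 lc_i_rc_18_1 lc_i_rc_33_1 lc_i_rc_26_1 lc_i_rc_9_1 lc_i_rc_18_1 lc_i_rc_9_1 lc_i_rc_18_1 lc_i_Cert_tree lc_i_rc_33_1 lc_i_rc_9_3 lc_i_rc_54_0 lc_i_rc_9_1 lc_i_rc_18_1 lc_i_rc_26_1 lc_i_rc_26_1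 lc_i_rc_46_3 lc_i_rc_9_1 lc_i_rc_18_1 lc_i_rc_26_1) (@D3.rec (fun _ => (Cert rels S Gen.i)) lc_i_rc_9_1 lc_i_rc_18_1 lc_i_rc_26_1 lc_i_rc_26_1 lc_i_rc_9_1 lc_i_rc_18_1 lc_i_rc_18_1 lc_i_rc_26_1 lc_i_rc_9_1 lc_i_rc_18_1 lc_i_rc_9_1 lc_i_rc_18_1 lc_i_rc_26_1 lc_i_rc_46_1 lc_i_rc_9_1 lc_i_rc_18_1 lc_i_rc_33_1 lc_i_rc_26_1 lc_i_rc_9_1 lc_i_rc_18_1 lc_i_rc_26_1 lc_i_rc_50_1 lc_i_rc_9_1 lc_i_rc_18_1 lc_i_rc_26_1 lc_i_rc_9_1 lc_i_rc_18_1 lc_i_rc_18_1 lc_i_Cert_tree lc_i_rc_9_1 lc_i_rc_18_1 lc_i_rc_9_1 lc_i_Cert_tree lc_i_rc_54_0 lc_i_rc_54_0 lc_i_rc_9_1 lc_i_rc_18_1 lc_i_rc_54_0 lc_i_rc_26_1 lc_i_rc_26_1 lc_i_rc_9_1 lc_i_rc_18_1 lc_i_rc_46_1 lc_i_rc_18_1 lc_i_rc_50_3 lc_i_rc_9_1 lc_i_rc_9_1 lc_i_rc_9_1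 lc_i_rc_18_1 lc_i_rc_33_1 lc_i_rc_9_1) (@D3.rec (fun _ => (Cert rels S Gen.i)) lc_i_rc_18_1 lc_i_rc_33_1 lc_i_rc_9_1 lc_i_rc_9_1 lc_i_rc_46_1 lc_i_rc_18_1 lc_i_rc_33_1 lc_i_rc_9_1 lc_i_rc_18_1 lc_i_rc_9_1 lc_i_rc_26_1 lc_i_rc_39_1 lc_i_rc_39_1 lc_i_rc_50_1 lc_i_rc_39_1 lc_i_rc_33_1 lc_i_rc_18_1 lc_i_rc_26_1 lc_i_rc_46_1 lc_i_rc_9_1 lc_i_rc_18_1 lc_i_rc_26_1 lc_i_rc_50_1 lc_i_rc_18_1 lc_i_rc_26_1 lc_i_rc_46_1 lc_i_rc_18_1 lc_i_rc_18_1 lc_i_rc_33_1 lc_i_rc_33_1 lc_i_rc_26_1 lc_i_rc_9_1 lc_i_rc_18_1 lc_i_rc_33_1 lc_i_rc_26_1 lc_i_rc_41_3 lc_i_rc_9_1 lc_i_rc_18_1 lc_i_rc_33_1 lc_i_rc_26_1 lc_i_rc_9_1 lc_i_rc_18_1 lc_i_rc_33_1 lc_i_rc_26_1 lc_i_rc_9_1 lc_i_rc_18_1 lc_i_rc_26_1 lc_i_rc_18_3 lc_i_rc_18_1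 lc_i_Cert_tree lc_i_rc_18_1) (@D3.rec (fun _ => (Cert rels S Gen.i)) lc_i_rc_26_1 lc_i_rc_39_1 lc_i_rc_9_1 lc_i_rc_18_1 lc_i_rc_33_1 lc_i_rc_9_1 lc_i_rc_18_1 lc_i_rc_33_3 lc_i_rc_46_1 lc_i_rc_33_1 lc_i_rc_9_1 lc_i_rc_18_1 lc_i_rc_9_1 lc_i_rc_18_1 lc_i_rc_26_1 lc_i_rc_9_1 lc_i_rc_18_1 lc_i_rc_26_1 lc_i_rc_9_1 lc_i_rc_18_1 lc_i_rc_33_1 lc_i_rc_9_1 lc_i_rc_50_1 lc_i_rc_9_1 lc_i_rc_18_1 lc_i_rc_33_1 lc_i_rc_9_1 lc_i_rc_18_1 lc_i_rc_39_1 lc_i_rc_33_1 lc_i_rc_9_1 lc_i_rc_9_1 lc_i_rc_18_1 lc_i_rc_9_1 lc_i_rc_9_1 lc_i_Cert_tree lc_i_rc_54_0 lc_i_rc_53_1 lc_i_rc_26_1 lc_i_rc_9_1 lc_i_rc_18_1 lc_i_rc_33_1 lc_i_rc_26_1 lc_i_rc_9_1 lc_i_rc_18_1 lc_i_Cert_tree lc_i_rc_9_1 lc_i_rc_18_1 lc_i_rc_9_1 lc_i_rc_18_1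 lc_i_rc_9_1) (@D3.rec (fun _ => (Cert rels S Gen.i)) lc_i_rc_53_3 lc_i_rc_18_3 lc_i_rc_18_1 lc_i_rc_9_1 lc_i_rc_18_1 lc_i_rc_9_1 lc_i_rc_18_1 lc_i_rc_53_1 lc_i_rc_9_1 lc_i_rc_9_1 lc_i_rc_18_1 lc_i_rc_9_1 lc_i_rc_9_1 lc_i_rc_9_1 lc_i_rc_18_3 lc_i_rc_50_1 lc_i_rc_50_1 lc_i_rc_9_1 lc_i_rc_9_1 lc_i_rc_9_1 lc_i_Cert_tree lc_i_rc_54_0 lc_i_rc_53_1 lc_i_rc_9_1 lc_i_rc_9_1 lc_i_rc_18_1 lc_i_rc_9_1 lc_i_rc_18_1 lc_i_rc_50_1 lc_i_rc_9_1 lc_i_rc_9_1 lc_i_rc_18_1 lc_i_rc_26_1 lc_i_rc_41_1 lc_i_rc_18_1 lc_i_rc_26_1 lc_i_rc_9_1 lc_i_rc_9_1 lc_i_rc_18_1 lc_i_rc_26_1 lc_i_rc_9_1 lc_i_rc_18_1 lc_i_rc_33_1 lc_i_rc_9_1 lc_i_rc_18_1 lc_i_rc_41_3 lc_i_rc_9_3 lc_i_rc_39_3 lc_i_rc_39_1 lc_i_rc_9_1 lc_i_rc_18_1) (@D3.rec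 (fun _ => (Cert rels S Gen.i)) lc_i_rc_9_1 lc_i_rc_18_1 lc_i_rc_9_1 lc_i_rc_18_1 lc_i_rc_9_1 lc_i_rc_39_1 lc_i_rc_9_1 lc_i_rc_9_1 lc_i_rc_9_1 lc_i_rc_54_0 lc_i_rc_39_1 lc_i_rc_46_1 lc_i_rc_18_1 lc_i_rc_9_1 lc_i_rc_9_1 lc_i_rc_18_1 lc_i_rc_26_1 lc_i_rc_46_1 lc_i_rc_18_1 lc_i_rc_26_1 lc_i_rc_46_1 lc_i_rc_9_1 lc_i_rc_18_1 lc_i_rc_26_1 lc_i_rc_50_1 lc_i_rc_9_1 lc_i_rc_18_1 lc_i_rc_33_1 lc_i_rc_9_1 lc_i_rc_9_1 lc_i_rc_18_1 lc_i_rc_18_3 lc_i_rc_18_1 lc_i_rc_33_1 lc_i_rc_26_1 lc_i_rc_9_1 lc_i_rc_9_1 lc_i_rc_18_1 lc_i_rc_9_1 lc_i_rc_18_1 lc_i_Cert_tree lc_i_rc_54_0 lc_i_rc_53_1 lc_i_rc_9_1 lc_i_rc_18_1 lc_i_rc_18_1 lc_i_rc_9_1 lc_i_rc_18_1 lc_i_rc_18_1 lc_i_Cert_tree lc_i_rc_9_1) (@D3.rec (fun _ => (Cert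 rels S Gen.i)) lc_i_rc_9_1 lc_i_Cert_tree lc_i_rc_54_0 lc_i_rc_54_0 lc_i_rc_53_3 lc_i_rc_18_1 lc_i_rc_26_1 lc_i_rc_9_1 lc_i_rc_9_1 lc_i_rc_18_1 lc_i_rc_33_1 lc_i_rc_9_1 lc_i_rc_18_1 lc_i_rc_33_1 lc_i_rc_26_1 lc_i_rc_18_1 lc_i_rc_33_1 lc_i_rc_39_1 lc_i_rc_18_1 lc_i_rc_9_1 lc_i_rc_46_3 lc_i_rc_33_1 lc_i_rc_26_1 lc_i_rc_41_3 lc_i_rc_9_1 lc_i_rc_18_1 lc_i_rc_33_1 lc_i_rc_26_1 lc_i_rc_50_1 lc_i_rc_9_1 lc_i_rc_18_1 lc_i_rc_26_1 lc_i_rc_46_1 lc_i_rc_9_1 lc_i_rc_18_1 lc_i_Cert_tree lc_i_rc_18_1 lc_i_rc_26_1 lc_i_rc_9_1 lc_i_rc_18_1 lc_i_rc_33_1 lc_i_rc_9_1 lc_i_rc_9_1 lc_i_rc_9_1 lc_i_rc_18_1 lc_i_rc_33_1 lc_i_rc_26_1 lc_i_rc_9_1 lc_i_rc_18_1 lc_i_rc_9_1 lc_i_rc_18_1) (@D3.rec (fun _ => (Cert rels S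 Gen.i)) lc_i_rc_33_1 lc_i_rc_26_1 lc_i_rc_9_1 lc_i_rc_18_1 lc_i_rc_18_1 lc_i_rc_33_1 lc_i_rc_9_1 lc_i_rc_9_1 lc_i_rc_9_1 lc_i_rc_9_1 lc_i_Cert_tree lc_i_rc_54_0 lc_i_rc_18_1 lc_i_rc_18_1 lc_i_rc_26_1 lc_i_rc_9_1 lc_i_rc_18_1 lc_i_rc_33_1 lc_i_rc_9_1 lc_i_rc_18_1 lc_i_rc_9_1 lc_i_rc_53_1 lc_i_rc_18_3 lc_i_rc_9_1 lc_i_rc_18_1 lc_i_rc_33_1 lc_i_rc_26_1 lc_i_rc_9_1 lc_i_rc_18_1 lc_i_rc_26_1 lc_i_rc_9_1 lc_i_rc_18_1 lc_i_rc_9_1 lc_i_rc_18_1 lc_i_rc_9_1 lc_i_rc_9_1 lc_i_rc_18_1 lc_i_rc_33_1 lc_i_rc_26_1 lc_i_rc_9_1 lc_i_rc_18_1 lc_i_rc_18_1 lc_i_rc_33_1 lc_i_Cert_tree lc_i_rc_9_1 lc_i_rc_18_1 lc_i_rc_18_1 lc_i_rc_33_1 lc_i_rc_26_1 lc_i_rc_9_1 lc_i_rc_9_1) (@D3.rec (fun _ => (Cert rels S Gen.i)) lc_i_rc_18_1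 lc_i_rc_18_1 lc_i_rc_39_1 lc_i_rc_33_1 lc_i_rc_9_1 lc_i_rc_9_1 lc_i_rc_9_1 lc_i_Cert_tree lc_i_rc_54_0 lc_i_rc_9_1 lc_i_Cert_tree lc_i_rc_54_0 lc_i_rc_33_3 lc_i_rc_9_1 lc_i_rc_46_1 lc_i_rc_18_1 lc_i_rc_33_1 lc_i_rc_9_1 lc_i_rc_18_1 lc_i_rc_9_1 lc_i_rc_18_1 lc_i_rc_9_1 lc_i_rc_18_1 lc_i_rc_33_1 lc_i_rc_9_1 lc_i_rc_9_1 lc_i_rc_18_1 lc_i_rc_9_1 lc_i_Cert_tree lc_i_rc_54_0 lc_i_rc_53_1 lc_i_rc_26_3 lc_i_rc_18_1 lc_i_rc_41_3 lc_i_rc_9_3 lc_i_rc_39_3 lc_i_rc_9_1 lc_i_rc_18_1 lc_i_rc_33_1 lc_i_rc_26_1 lc_i_rc_50_1 lc_i_rc_9_1 lc_i_rc_18_1 lc_i_rc_26_1 lc_i_rc_9_1 lc_i_rc_18_1 lc_i_rc_33_1 lc_i_rc_9_1 lc_i_rc_18_1 lc_i_rc_33_1 lc_i_rc_9_1) (@D3.rec (fun _ => (Cert rels S Gen.i)) lc_i_rc_18_1 lc_i_rc_26_1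 lc_i_rc_26_1 lc_i_rc_9_1 lc_i_rc_18_1 lc_i_rc_26_1 lc_i_rc_9_1 lc_i_rc_18_1 lc_i_rc_50_1 lc_i_rc_18_1 lc_i_rc_18_1 lc_i_rc_33_1 lc_i_rc_9_1 lc_i_rc_18_1 lc_i_rc_18_3 lc_i_rc_46_1 lc_i_rc_33_1 lc_i_rc_9_1 lc_i_rc_18_1 lc_i_rc_26_1 lc_i_rc_9_1 lc_i_rc_18_1 lc_i_rc_9_1 lc_i_rc_18_1 lc_i_rc_18_1 lc_i_rc_9_1 lc_i_rc_9_1 lc_i_rc_9_1 lc_i_rc_18_1 lc_i_rc_33_1 lc_i_rc_9_1 lc_i_rc_18_1 lc_i_rc_33_1 lc_i_rc_9_1 lc_i_rc_18_1 lc_i_Cert_tree lc_i_rc_54_0 lc_i_rc_53_1 lc_i_rc_9_1 lc_i_rc_18_1 lc_i_rc_33_1 lc_i_rc_53_1 lc_i_rc_18_1 lc_i_rc_33_1 lc_i_rc_9_1 lc_i_rc_18_1 lc_i_Cert_tree lc_i_rc_53_1 lc_i_rc_39_1 lc_i_rc_39_1 lc_i_rc_46_1) (@D3.rec (fun _ => (Cert rels S Gen.i)) lc_i_rc_46_1 lc_i_rc_9_1 lc_i_rc_9_1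 lc_i_rc_9_1 lc_i_rc_18_1 lc_i_rc_39_1 lc_i_rc_39_1 lc_i_rc_9_1 lc_i_rc_18_1 lc_i_rc_18_1 lc_i_rc_33_1 lc_i_rc_39_3 lc_i_rc_39_1 lc_i_rc_9_1 lc_i_rc_18_1 lc_i_rc_9_1 lc_i_rc_46_1 lc_i_rc_18_1 lc_i_rc_39_1 lc_i_rc_33_3 lc_i_rc_9_1 lc_i_rc_9_1 lc_i_rc_18_1 lc_i_rc_18_1 lc_i_rc_33_1 lc_i_rc_39_3 lc_i_rc_26_1 lc_i_rc_9_1 lc_i_rc_18_1 lc_i_rc_26_1 lc_i_rc_18_1 lc_i_Cert_tree lc_i_rc_9_1 lc_i_rc_26_1 lc_i_Cert_tree lc_i_rc_54_0 lc_i_rc_9_1 lc_i_rc_18_1 lc_i_rc_33_1 lc_i_rc_9_1 lc_i_rc_18_1 lc_i_rc_46_1 lc_i_rc_9_1 lc_i_rc_9_1 lc_i_rc_18_1 lc_i_rc_26_1 lc_i_rc_9_1 lc_i_rc_18_1 lc_i_rc_18_1 lc_i_Cert_tree lc_i_rc_9_1) (@D3.rec (fun _ => (Cert rels S Gen.i)) lc_i_rc_18_1 lc_i_Cert_tree lc_i_rc_54_0 lc_i_rc_9_1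 lc_i_rc_9_1 lc_i_rc_18_1 lc_i_rc_26_1 lc_i_rc_9_1 lc_i_Cert_tree lc_i_rc_54_0 lc_i_rc_9_1 lc_i_Cert_tree lc_i_Cert_tree lc_i_rc_54_0 lc_i_rc_26_1 lc_i_rc_54_0 lc_i_Cert_tree lc_i_rc_54_0 lc_i_rc_9_1 lc_i_rc_18_1 lc_i_rc_33_1 lc_i_rc_26_1 lc_i_rc_18_1 lc_i_rc_18_1 lc_i_rc_50_1 lc_i_rc_9_1 lc_i_rc_18_1 lc_i_rc_9_1 lc_i_rc_26_1 lc_i_rc_18_1 lc_i_rc_9_1 lc_i_rc_50_3 lc_i_rc_46_1 lc_i_rc_33_1 lc_i_rc_9_1 lc_i_rc_39_1 lc_i_rc_39_3 lc_i_Cert_tree lc_i_rc_53_1 lc_i_rc_39_1 lc_i_rc_26_1 lc_i_rc_18_3 lc_i_rc_18_1 lc_i_rc_50_1 lc_i_rc_33_1 lc_i_Cert_tree lc_i_rc_9_1 lc_i_Cert_tree lc_i_rc_54_0 lc_i_rc_9_1 lc_i_rc_18_1) (@D3.rec (fun _ => (Cert rels S Gen.i)) lc_i_rc_9_1 lc_i_rc_9_1 lc_i_rc_18_1 lc_i_Cert_tree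 lc_i_rc_54_0 lc_i_rc_9_1 lc_i_Cert_tree lc_i_rc_46_1 lc_i_rc_54_0 lc_i_rc_53_1 lc_i_rc_26_3 lc_i_rc_18_1 lc_i_rc_46_1 lc_i_rc_53_3 lc_i_rc_33_1 lc_i_rc_26_1 lc_i_rc_9_1 lc_i_rc_18_1 lc_i_rc_33_1 lc_i_rc_26_1 lc_i_rc_9_1 lc_i_rc_18_1 lc_i_rc_18_1 lc_i_rc_33_1 lc_i_rc_9_1 lc_i_rc_18_1 lc_i_Cert_tree lc_i_rc_9_1 lc_i_rc_39_1 lc_i_rc_26_1 lc_i_rc_46_1 lc_i_Cert_tree lc_i_rc_39_1 lc_i_rc_54_0 lc_i_rc_9_1 lc_i_rc_18_3 lc_i_rc_50_1 lc_i_rc_9_1 lc_i_rc_46_1 lc_i_rc_9_1 lc_i_Cert_tree lc_i_rc_54_0 lc_i_rc_9_1 lc_i_Cert_tree lc_i_rc_54_0 lc_i_rc_9_1 lc_i_rc_46_1 lc_i_rc_54_0 lc_i_rc_18_1 lc_i_rc_50_1 lc_i_rc_54_0) (@D3.rec (fun _ => (Cert rels S Gen.i)) lc_i_rc_39_1 lc_i_rc_18_1 lc_i_rc_39_1 lc_i_rc_18_1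 lc_i_rc_33_1 lc_i_rc_9_3 lc_i_rc_18_1 lc_i_rc_9_1 lc_i_rc_18_1 lc_i_rc_54_0 lc_i_rc_18_1 lc_i_rc_9_1 lc_i_rc_18_1 lc_i_rc_26_1 lc_i_rc_46_3 lc_i_rc_18_3 lc_i_rc_50_3 lc_i_rc_26_1 lc_i_rc_18_1 lc_i_Cert_tree lc_i_rc_9_1 lc_i_rc_18_1 lc_i_rc_9_1 lc_i_rc_18_1 lc_i_rc_33_1 lc_i_rc_9_1 lc_i_rc_18_1 lc_i_rc_26_1 lc_i_rc_39_1 lc_i_rc_9_1 lc_i_rc_18_1 lc_i_rc_9_1 lc_i_rc_18_1 lc_i_rc_18_1 lc_i_rc_9_1 lc_i_rc_9_1 lc_i_rc_18_1 lc_i_rc_9_1 lc_i_rc_46_1 lc_i_rc_53_1 lc_i_rc_9_1 lc_i_rc_18_1 lc_i_rc_50_3 lc_i_rc_50_3 lc_i_rc_33_1 lc_i_rc_26_1 lc_i_rc_9_1 lc_i_rc_18_1 lc_i_rc_18_1 lc_i_rc_9_3 lc_i_rc_33_1) (@D3.rec (fun _ => (Cert rels S Gen.i)) lc_i_rc_9_1 lc_i_rc_9_1 lc_i_rc_18_1 lc_i_rc_33_1 lc_i_rc_9_1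 lc_i_rc_18_1 lc_i_rc_18_3 lc_i_rc_18_1 lc_i_rc_9_1 lc_i_rc_18_1 lc_i_rc_9_1 lc_i_rc_26_1 lc_i_rc_26_3 lc_i_rc_18_1 lc_i_rc_18_1 lc_i_rc_9_1 lc_i_rc_26_3 lc_i_rc_55_44 lc_i_Cert_tree lc_i_rc_54_0 lc_i_rc_46_1 lc_i_rc_9_1 lc_i_rc_18_1 lc_i_rc_33_1 lc_i_rc_9_1 lc_i_rc_18_1 lc_i_rc_9_1 lc_i_rc_18_1 lc_i_rc_26_1 lc_i_rc_9_1 lc_i_rc_18_1 lc_i_rc_9_1 lc_i_rc_9_1 lc_i_rc_41_3 lc_i_rc_50_1 lc_i_rc_9_1 lc_i_rc_18_3 lc_i_rc_55_35 lc_i_rc_9_1 lc_i_rc_18_1 lc_i_rc_9_1 lc_i_rc_26_1 lc_i_rc_9_1 lc_i_rc_9_1 lc_i_rc_9_1 lc_i_rc_9_1 lc_i_rc_18_1 lc_i_rc_33_1 lc_i_rc_26_1 lc_i_rc_9_1 lc_i_rc_18_1) (@D3.rec (fun _ => (Cert rels S Gen.i)) lc_i_rc_18_1 lc_i_rc_9_1 lc_i_rc_9_1 lc_i_rc_18_1 lc_i_rc_33_1 lc_i_rc_26_1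 lc_i_rc_9_1 lc_i_rc_18_1 lc_i_rc_18_1 lc_i_rc_9_1 lc_i_rc_18_1 lc_i_rc_9_1 lc_i_rc_9_1 lc_i_rc_9_1 lc_i_rc_18_3 lc_i_rc_18_1 lc_i_rc_9_1 lc_i_rc_18_1 lc_i_rc_9_1 lc_i_rc_26_1 lc_i_rc_26_1 lc_i_rc_26_3 lc_i_rc_18_1 lc_i_rc_18_1 lc_i_rc_18_1 lc_i_rc_33_1 lc_i_rc_26_1 lc_i_rc_9_1 lc_i_rc_41_1 lc_i_rc_18_1 lc_i_rc_18_1 lc_i_rc_18_1 lc_i_rc_33_1 lc_i_rc_26_1 lc_i_rc_18_3 lc_i_rc_26_1 lc_i_rc_9_1 lc_i_rc_50_1 lc_i_rc_46_1 lc_i_rc_9_1 lc_i_rc_9_1 lc_i_rc_18_1 lc_i_rc_9_1 lc_i_rc_26_1 lc_i_rc_18_1 lc_i_rc_39_1 lc_i_rc_53_1 lc_i_Cert_tree lc_i_rc_9_1 lc_i_Cert_tree lc_i_rc_54_0) (@D3.rec (fun _ => (Cert rels S Gen.i)) lc_i_rc_9_1 lc_i_rc_18_1 lc_i_rc_33_1 lc_i_rc_9_1 lc_i_rc_18_1 lc_i_rc_9_1 lc_i_rc_18_1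 lc_i_rc_9_1 lc_i_rc_26_1 lc_i_rc_39_1 lc_i_rc_9_1 lc_i_rc_26_1 lc_i_rc_18_3 lc_i_rc_26_1 lc_i_rc_9_1 lc_i_rc_33_1 lc_i_rc_26_1 lc_i_rc_53_1 lc_i_rc_9_1 lc_i_Cert_tree lc_i_rc_54_0 lc_i_rc_9_1 lc_i_rc_9_1 lc_i_rc_9_1 lc_i_Cert_tree lc_i_rc_54_0 lc_i_rc_53_1 lc_i_Cert_tree lc_i_rc_54_0 lc_i_rc_46_1 lc_i_rc_18_1 lc_i_rc_33_1 lc_i_rc_26_1 lc_i_rc_26_1 lc_i_rc_33_1 lc_i_rc_26_1 lc_i_rc_9_1 lc_i_rc_46_1 lc_i_rc_9_1 lc_i_rc_18_1 lc_i_rc_39_3 lc_i_rc_39_1 lc_i_rc_41_1 lc_i_rc_53_1 lc_i_rc_46_3 lc_i_rc_33_1 lc_i_rc_26_1 lc_i_rc_39_1 lc_i_rc_18_1 lc_i_rc_46_1 lc_i_rc_33_1) (@D3.rec (fun _ => (Cert rels S Gen.i)) lc_i_rc_26_3 lc_i_rc_18_1 lc_i_Cert_tree lc_i_rc_50_1 lc_i_rc_50_1 lc_i_rc_33_1 lc_i_rc_26_1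 lc_i_rc_50_1 lc_i_rc_9_1 lc_i_rc_18_1 lc_i_rc_26_1 lc_i_rc_9_1 lc_i_rc_18_1 lc_i_rc_26_1 lc_i_rc_26_1 lc_i_rc_9_1 lc_i_rc_18_1 lc_i_rc_26_1 lc_i_rc_9_1 lc_i_rc_18_1 lc_i_rc_33_1 lc_i_rc_26_1 lc_i_rc_9_1 lc_i_rc_18_1 lc_i_rc_18_1 lc_i_rc_33_1 lc_i_rc_9_1 lc_i_rc_9_1 lc_i_Cert_tree lc_i_rc_54_0 lc_i_rc_41_3 lc_i_rc_9_1 lc_i_rc_18_1 lc_i_rc_18_1 lc_i_rc_39_1 lc_i_rc_9_1 lc_i_rc_18_1 lc_i_rc_9_1 lc_i_rc_18_1 lc_i_rc_18_1 lc_i_rc_9_1 lc_i_rc_9_1 lc_i_rc_18_1 lc_i_rc_9_1 lc_i_rc_9_1 lc_i_rc_18_1 lc_i_rc_33_1 lc_i_rc_26_1 lc_i_rc_9_1 lc_i_rc_18_1 lc_i_rc_18_1) (@D3.rec (fun _ => (Cert rels S Gen.i)) lc_i_rc_33_1 lc_i_Cert_tree lc_i_rc_9_1 lc_i_rc_18_1 lc_i_rc_26_1 lc_i_rc_9_1 lc_i_rc_18_1 lc_i_rc_9_1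 lc_i_rc_9_1 lc_i_Cert_tree lc_i_rc_54_0 lc_i_rc_9_1 lc_i_Cert_tree lc_i_rc_54_0 lc_i_rc_18_1 lc_i_rc_46_1 lc_i_rc_18_1 lc_i_rc_33_1 lc_i_rc_9_1 lc_i_rc_26_3 lc_i_rc_18_1 lc_i_rc_9_1 lc_i_rc_18_1 lc_i_rc_9_1 lc_i_rc_18_1 lc_i_rc_18_3 lc_i_rc_18_1 lc_i_Cert_tree lc_i_rc_9_1 lc_i_rc_53_1 lc_i_rc_53_1 lc_i_rc_46_1 lc_i_rc_18_1 lc_i_rc_18_1 lc_i_rc_33_1 lc_i_rc_9_1 lc_i_rc_26_3 lc_i_rc_9_1 lc_i_rc_18_1 lc_i_rc_33_1 lc_i_rc_26_1 lc_i_rc_50_1 lc_i_rc_9_1 lc_i_rc_18_1 lc_i_rc_26_1 lc_i_rc_18_1 lc_i_rc_18_1 lc_i_rc_33_1 lc_i_rc_26_1 lc_i_rc_18_1 lc_i_rc_55_53) (@D3.rec (fun _ => (Cert rels S Gen.i)) lc_i_rc_33_1 lc_i_rc_46_1 lc_i_rc_53_1 lc_i_rc_9_1 lc_i_rc_18_1 lc_i_rc_18_1 lc_i_rc_41_3 lc_i_rc_9_1 lc_i_rc_18_1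 lc_i_rc_18_1 lc_i_rc_33_1 lc_i_rc_9_1 lc_i_rc_18_1 lc_i_rc_18_1 lc_i_rc_33_1 lc_i_rc_33_1 lc_i_rc_9_1 lc_i_rc_18_1 lc_i_rc_33_1 lc_i_rc_26_1 lc_i_Cert_tree lc_i_rc_54_0 lc_i_rc_9_1 lc_i_rc_18_1 lc_i_rc_33_1 lc_i_rc_26_1 lc_i_rc_9_1 lc_i_rc_18_1 lc_i_Cert_tree lc_i_rc_9_1 lc_i_rc_39_1 lc_i_rc_39_3 lc_i_rc_9_1 lc_i_rc_9_1 lc_i_rc_18_1 lc_i_rc_9_1 lc_i_rc_46_3 lc_i_rc_26_3 lc_i_rc_18_1 lc_i_rc_9_1 lc_i_rc_18_1 lc_i_rc_9_1 lc_i_rc_39_1 lc_i_rc_26_1 lc_i_rc_46_1 lc_i_rc_39_1 lc_i_rc_9_1 lc_i_Cert_tree lc_i_rc_54_0 lc_i_rc_53_1 lc_i_rc_18_1) (@D3.rec (fun _ => (Cert rels S Gen.i)) lc_i_rc_33_1 lc_i_rc_9_1 lc_i_rc_18_1 lc_i_rc_18_1 lc_i_rc_33_1 lc_i_rc_33_3 lc_i_rc_9_1 lc_i_rc_26_1 lc_i_Cert_tree lc_i_rc_54_0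 lc_i_rc_9_1 lc_i_rc_9_1 lc_i_rc_53_3 lc_i_rc_18_3 lc_i_rc_9_1 lc_i_rc_9_1 lc_i_rc_9_1 lc_i_rc_50_1 lc_i_rc_54_0 lc_i_rc_9_1 lc_i_rc_9_1 lc_i_rc_9_1 lc_i_rc_18_1 lc_i_rc_33_1 lc_i_rc_26_1 lc_i_rc_9_1 lc_i_rc_18_1 lc_i_rc_33_1 lc_i_rc_26_1 lc_i_rc_9_1 lc_i_rc_18_1 lc_i_rc_9_1 lc_i_rc_18_1 lc_i_rc_9_1 lc_i_rc_41_3 lc_i_rc_18_1 lc_i_rc_9_3 lc_i_rc_46_1 lc_i_rc_9_1 lc_i_rc_9_1 lc_i_rc_9_1 lc_i_rc_41_3 lc_i_rc_18_3 lc_i_rc_18_3 lc_i_rc_9_3 lc_i_rc_33_1 lc_i_rc_26_1 lc_i_rc_39_1 lc_i_rc_9_1 lc_i_rc_18_1 lc_i_rc_33_1) (@D3.rec (fun _ => (Cert rels S Gen.i)) lc_i_rc_26_1 lc_i_rc_50_1 lc_i_rc_9_1 lc_i_rc_18_1 lc_i_rc_26_1 lc_i_rc_9_1 lc_i_rc_18_1 lc_i_rc_33_3 lc_i_rc_9_1 lc_i_rc_18_3 lc_i_rc_18_1 lc_i_rc_50_3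 lc_i_rc_33_1 lc_i_rc_9_1 lc_i_rc_9_1 lc_i_Cert_tree lc_i_rc_54_0 lc_i_rc_9_1 lc_i_rc_9_1 lc_i_rc_9_1 lc_i_rc_9_1 lc_i_Cert_tree lc_i_rc_54_0 lc_i_Cert_tree lc_i_rc_54_0 lc_i_rc_53_3 lc_i_rc_9_1 lc_i_rc_18_1 lc_i_rc_33_1 lc_i_rc_9_1 lc_i_rc_18_1 lc_i_rc_9_1 lc_i_rc_18_1 lc_i_rc_18_1 lc_i_rc_33_1 lc_i_rc_39_1 lc_i_rc_39_1 lc_i_rc_9_1 lc_i_rc_46_3 lc_i_rc_18_1 lc_i_rc_41_3 lc_i_rc_33_1 lc_i_rc_41_3 lc_i_rc_9_1 lc_i_rc_18_1 lc_i_rc_18_1 lc_i_rc_33_1 lc_i_rc_46_3 lc_i_rc_26_1 lc_i_rc_9_1 lc_i_rc_18_1) (@D3.rec (fun _ => (Cert rels S Gen.i)) lc_i_rc_33_1 lc_i_rc_9_1 lc_i_rc_26_1 lc_i_Cert_tree lc_i_rc_54_0 lc_i_rc_9_1 lc_i_rc_18_1 lc_i_rc_9_1 lc_i_rc_18_1 lc_i_rc_9_1 lc_i_rc_18_1 lc_i_rc_18_1 lc_i_rc_9_1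 lc_i_rc_9_1 lc_i_rc_18_1 lc_i_rc_18_1 lc_i_rc_33_1 lc_i_rc_9_1 lc_i_rc_9_1 lc_i_rc_26_1 lc_i_rc_18_1 lc_i_rc_39_1 lc_i_Cert_tree lc_i_rc_54_0 lc_i_rc_9_1 lc_i_rc_18_1 lc_i_rc_9_1 lc_i_rc_53_3 lc_i_rc_9_1 lc_i_rc_9_1 lc_i_rc_18_1 lc_i_rc_18_1 lc_i_rc_9_1 lc_i_rc_18_1 lc_i_rc_9_1 lc_i_rc_9_1 lc_i_rc_9_1 lc_i_rc_18_1 lc_i_rc_18_1 lc_i_rc_33_1 lc_i_rc_39_3 lc_i_rc_9_1 lc_i_rc_9_1 lc_i_rc_26_1 lc_i_rc_18_1 lc_i_Cert_tree lc_i_rc_33_1 lc_i_rc_54_0 lc_i_rc_9_1 lc_i_rc_9_1 lc_i_rc_18_1) (@D3.rec (fun _ => (Cert rels S Gen.i)) lc_i_rc_18_1 lc_i_rc_9_1 lc_i_rc_9_1 lc_i_rc_18_1 lc_i_rc_53_1 lc_i_rc_9_3 lc_i_Cert_tree lc_i_rc_54_0 lc_i_rc_54_0 lc_i_rc_18_1 lc_i_rc_18_1 lc_i_rc_9_1 lc_i_rc_9_1 lc_i_rc_26_1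 lc_i_rc_9_1 lc_i_rc_18_1 lc_i_rc_9_1 lc_i_rc_26_1 lc_i_rc_54_0 lc_i_rc_33_1 lc_i_rc_26_1 lc_i_rc_46_1 lc_i_rc_18_1 lc_i_rc_33_1 lc_i_rc_9_1 lc_i_rc_18_1 lc_i_rc_18_1 lc_i_rc_33_1 lc_i_rc_39_1 lc_i_rc_26_1 lc_i_rc_9_1 lc_i_rc_18_1 lc_i_rc_9_1 lc_i_rc_26_1 lc_i_rc_18_1 lc_i_rc_9_1 lc_i_rc_18_1 lc_i_rc_9_1 lc_i_rc_18_1 lc_i_rc_18_1 lc_i_rc_26_1 lc_i_rc_9_1 lc_i_rc_18_1 lc_i_rc_9_1 lc_i_rc_26_1 lc_i_rc_18_1 lc_i_rc_9_1 lc_i_rc_26_1 lc_i_rc_46_1 lc_i_rc_53_3 lc_i_rc_9_1) (@D3.rec (fun _ => (Cert rels S Gen.i)) lc_i_rc_18_1 lc_i_rc_9_1 lc_i_rc_9_1 lc_i_rc_9_1 lc_i_rc_9_1 lc_i_rc_18_1 lc_i_rc_41_3 lc_i_rc_9_1 lc_i_rc_26_1 lc_i_rc_18_1 lc_i_rc_9_1 lc_i_rc_54_0 lc_i_rc_9_1 lc_i_rc_18_1 lc_i_rc_18_1 lc_i_rc_18_1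 lc_i_rc_41_3 lc_i_rc_9_1 lc_i_rc_26_1 lc_i_Cert_tree lc_i_rc_54_0 lc_i_rc_53_1 lc_i_rc_46_3 lc_i_rc_53_1 lc_i_rc_9_1 lc_i_rc_41_3 lc_i_rc_9_1 lc_i_rc_18_1 lc_i_rc_18_1 lc_i_rc_9_1 lc_i_rc_9_1 lc_i_rc_18_1 lc_i_rc_39_3 lc_i_rc_39_1 lc_i_rc_9_1 lc_i_rc_18_3 lc_i_rc_18_1 lc_i_rc_18_1 lc_i_rc_39_1 lc_i_rc_9_3 lc_i_rc_9_1 lc_i_rc_9_1 lc_i_rc_9_1 lc_i_rc_26_1 lc_i_rc_18_1 lc_i_rc_18_1 lc_i_rc_18_1 lc_i_rc_9_1 lc_i_rc_33_1 lc_i_rc_18_1 lc_i_Cert_tree)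
def ce_i_22 : D2 → D3 → (Cert rels S Gen.i) := @D2.rec (fun _ => D3 → (Cert rels S Gen.i)) (@D3.rec (fun _ => (Cert rels S Gen.i)) lc_i_rc_54_0 lc_i_rc_9_1 lc_i_Cert_tree lc_i_Cert_tree lc_i_rc_54_0 lc_i_rc_9_1 lc_i_rc_18_1 lc_i_rc_9_1 lc_i_rc_26_1 lc_i_rc_18_1 lc_i_rc_9_1 lc_i_rc_18_1 lc_i_rc_9_1 lc_i_rc_9_1 lc_i_rc_18_1 lc_i_Cert_tree lc_i_rc_54_0 lc_i_rc_9_1 lc_i_Cert_tree lc_i_rc_54_0 lc_i_rc_9_1 lc_i_rc_9_3 lc_i_Cert_tree lc_i_rc_54_0 lc_i_Cert_tree lc_i_rc_54_0 lc_i_Cert_tree lc_i_rc_54_0 lc_i_rc_54_0 lc_i_rc_26_1 lc_i_rc_18_1 lc_i_rc_33_1 lc_i_rc_18_1 lc_i_rc_26_1 lc_i_rc_9_1 lc_i_rc_26_1 lc_i_rc_9_1 lc_i_rc_33_1 lc_i_rc_26_1 lc_i_rc_46_1 lc_i_rc_50_1 lc_i_rc_46_1 lc_i_rc_26_1 lc_i_Cert_tree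 lc_i_rc_54_0 lc_i_rc_50_1 lc_i_rc_53_1 lc_i_rc_9_1 lc_i_rc_50_1 lc_i_rc_18_1 lc_i_Cert_tree) (@D3.rec (fun _ => (Cert rels S Gen.i)) lc_i_rc_26_1 lc_i_rc_54_0 lc_i_Cert_tree lc_i_rc_54_0 lc_i_rc_9_1 lc_i_rc_9_1 lc_i_Cert_tree lc_i_rc_54_0 lc_i_rc_9_1 lc_i_rc_53_1 lc_i_rc_54_0 lc_i_rc_33_1 lc_i_rc_26_1 lc_i_rc_46_3 lc_i_rc_53_3 lc_i_rc_41_3 lc_i_rc_9_1 lc_i_rc_18_1 lc_i_rc_18_1 lc_i_rc_33_1 lc_i_rc_9_3 lc_i_rc_9_1 lc_i_rc_9_1 lc_i_rc_26_1 lc_i_rc_18_1 lc_i_rc_9_1 lc_i_rc_26_1 lc_i_Cert_tree lc_i_rc_54_0 lc_i_rc_9_1 lc_i_rc_39_3 lc_i_Cert_tree lc_i_rc_26_1 lc_i_Cert_tree lc_i_rc_33_1 lc_i_rc_54_0 lc_i_rc_18_3 lc_i_rc_26_1 lc_i_rc_54_0 lc_i_rc_54_0 lc_i_rc_9_1 lc_i_rc_18_3 lc_i_rc_18_1 lc_i_rc_33_1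 lc_i_rc_41_3 lc_i_rc_18_1 lc_i_rc_9_1 lc_i_rc_26_1 lc_i_rc_9_1 lc_i_rc_26_1 lc_i_rc_26_1) (@D3.rec (fun _ => (Cert rels S Gen.i)) lc_i_rc_46_1 lc_i_rc_33_1 lc_i_rc_26_1 lc_i_Cert_tree lc_i_rc_54_0 lc_i_rc_9_1 lc_i_rc_9_1 lc_i_rc_18_1 lc_i_rc_9_1 lc_i_rc_18_1 lc_i_rc_9_1 lc_i_rc_9_1 lc_i_rc_9_1 lc_i_rc_9_1 lc_i_rc_26_1 lc_i_rc_39_1 lc_i_rc_9_1 lc_i_rc_26_1 lc_i_rc_50_3 lc_i_rc_50_3 lc_i_rc_18_1 lc_i_rc_9_1 lc_i_rc_46_3 lc_i_rc_18_1 lc_i_rc_9_1 lc_i_rc_18_1 lc_i_rc_9_1 lc_i_rc_26_1 lc_i_rc_33_1 lc_i_rc_26_1 lc_i_rc_9_1 lc_i_rc_26_1 lc_i_rc_9_1 lc_i_rc_33_1 lc_i_rc_18_3 lc_i_rc_26_1 lc_i_rc_39_3 lc_i_Cert_tree lc_i_Cert_tree lc_i_rc_54_0 lc_i_rc_9_1 lc_i_rc_18_1 lc_i_rc_9_1 lc_i_rc_26_1 lc_i_rc_9_1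 lc_i_rc_18_1 lc_i_rc_9_1 lc_i_rc_50_1 lc_i_rc_26_1 lc_i_rc_18_3 lc_i_rc_26_1) (@D3.rec (fun _ => (Cert rels S Gen.i)) lc_i_rc_9_1 lc_i_rc_26_1 lc_i_rc_9_1 lc_i_rc_9_1 lc_i_rc_18_1 lc_i_rc_18_1 lc_i_rc_9_1 lc_i_rc_9_1 lc_i_rc_26_1 lc_i_rc_9_1 lc_i_rc_18_1 lc_i_rc_18_1 lc_i_rc_9_1 lc_i_rc_9_1 lc_i_rc_26_1 lc_i_rc_9_1 lc_i_rc_9_1 lc_i_rc_26_1 lc_i_rc_9_1 lc_i_rc_26_1 lc_i_rc_9_1 lc_i_rc_33_1 lc_i_rc_26_1 lc_i_rc_18_1 lc_i_rc_26_1 lc_i_rc_33_3 lc_i_rc_33_1 lc_i_rc_26_1 lc_i_rc_33_1 lc_i_rc_26_1 lc_i_rc_26_1 lc_i_rc_33_1 lc_i_rc_9_1 lc_i_rc_26_1 lc_i_rc_9_1 lc_i_rc_53_1 lc_i_rc_26_1 lc_i_Cert_tree lc_i_rc_54_0 lc_i_Cert_tree lc_i_rc_54_0 lc_i_rc_9_1 lc_i_rc_18_1 lc_i_rc_9_1 lc_i_rc_26_1 lc_i_rc_9_1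 lc_i_rc_26_1 lc_i_rc_9_1 lc_i_rc_9_1 lc_i_rc_33_1 lc_i_rc_18_1) (@D3.rec (fun _ => (Cert rels S Gen.i)) lc_i_rc_39_1 lc_i_rc_33_1 lc_i_rc_54_0 lc_i_Cert_tree lc_i_rc_54_0 lc_i_rc_54_0 lc_i_rc_18_1 lc_i_rc_18_1 lc_i_rc_33_1 lc_i_rc_26_1 lc_i_rc_50_1 lc_i_rc_41_3 lc_i_rc_41_1 lc_i_rc_9_1 lc_i_rc_9_1 lc_i_rc_18_1 lc_i_rc_18_1 lc_i_rc_41_1 lc_i_rc_41_1 lc_i_rc_53_1 lc_i_rc_53_1 lc_i_rc_53_1 lc_i_rc_39_1 lc_i_rc_39_3 lc_i_rc_39_1 lc_i_rc_46_1 lc_i_rc_18_1 lc_i_rc_33_1 lc_i_rc_26_1 lc_i_Cert_tree lc_i_rc_54_0 lc_i_rc_50_1 lc_i_rc_54_0 lc_i_rc_18_1 lc_i_rc_26_1 lc_i_rc_9_1 lc_i_rc_18_1 lc_i_rc_9_1 lc_i_rc_18_1 lc_i_rc_18_1 lc_i_rc_41_3 lc_i_rc_9_1 lc_i_rc_41_3 lc_i_rc_9_1 lc_i_rc_18_1 lc_i_rc_18_1 lc_i_rc_33_1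 lc_i_rc_9_1 lc_i_rc_9_1 lc_i_rc_26_1 lc_i_rc_18_1) (@D3.rec (fun _ => (Cert rels S Gen.i)) lc_i_rc_39_1 lc_i_Cert_tree lc_i_rc_54_0 lc_i_rc_9_1 lc_i_rc_9_1 lc_i_rc_50_1 lc_i_rc_9_1 lc_i_rc_9_1 lc_i_rc_9_1 lc_i_rc_9_1 lc_i_rc_9_1 lc_i_rc_18_1 lc_i_rc_18_1 lc_i_rc_33_1 lc_i_rc_41_3 lc_i_rc_9_1 lc_i_rc_9_1 lc_i_rc_26_1 lc_i_rc_18_1 lc_i_Cert_tree lc_i_rc_54_0 lc_i_rc_9_1 lc_i_rc_18_1 lc_i_rc_9_1 lc_i_Cert_tree lc_i_rc_54_0 lc_i_rc_54_0 lc_i_rc_18_1 lc_i_rc_55_71 lc_i_rc_33_1 lc_i_rc_26_1 lc_i_rc_9_1 lc_i_rc_26_1 lc_i_rc_9_1 lc_i_rc_26_1 lc_i_rc_33_1 lc_i_rc_26_1 lc_i_Cert_tree lc_i_rc_54_0 lc_i_rc_53_1 lc_i_rc_46_1 lc_i_rc_18_1 lc_i_rc_50_1 lc_i_rc_53_1 lc_i_rc_39_1 lc_i_rc_41_1 lc_i_rc_9_1 lc_i_rc_18_1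 lc_i_rc_18_1 lc_i_rc_33_1 lc_i_rc_26_1) (@D3.rec (fun _ => (Cert rels S Gen.i)) lc_i_rc_9_1 lc_i_rc_18_1 lc_i_rc_18_1 lc_i_rc_18_1 lc_i_rc_50_1 lc_i_rc_33_1 lc_i_rc_18_1 lc_i_rc_26_1 lc_i_rc_55_44 lc_i_rc_53_1 lc_i_rc_9_1 lc_i_rc_9_1 lc_i_rc_18_1 lc_i_rc_9_1 lc_i_rc_9_1 lc_i_rc_26_1 lc_i_rc_18_1 lc_i_rc_33_1 lc_i_rc_9_1 lc_i_rc_9_1 lc_i_rc_26_1 lc_i_rc_18_1 lc_i_rc_18_1 lc_i_rc_33_1 lc_i_rc_9_1 lc_i_rc_26_1 lc_i_Cert_tree lc_i_Cert_tree lc_i_rc_54_0 lc_i_rc_9_1 lc_i_rc_18_1 lc_i_rc_18_1 lc_i_rc_33_1 lc_i_rc_39_1 lc_i_rc_9_1 lc_i_rc_26_1 lc_i_Cert_tree lc_i_rc_54_0 lc_i_rc_39_3 lc_i_rc_26_1 lc_i_rc_9_1 lc_i_rc_46_3 lc_i_rc_33_1 lc_i_rc_26_1 lc_i_rc_9_1 lc_i_rc_26_1 lc_i_rc_9_1 lc_i_rc_39_3 lc_i_rc_26_1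 lc_i_rc_33_1 lc_i_rc_54_0) (@D3.rec (fun _ => (Cert rels S Gen.i)) lc_i_rc_18_3 lc_i_rc_18_1 lc_i_rc_9_1 lc_i_rc_9_1 lc_i_rc_26_1 lc_i_rc_18_1 lc_i_rc_18_1 lc_i_rc_9_1 lc_i_Cert_tree lc_i_Cert_tree lc_i_rc_54_0 lc_i_rc_9_1 lc_i_rc_18_1 lc_i_rc_18_1 lc_i_rc_9_1 lc_i_rc_18_1 lc_i_rc_18_1 lc_i_rc_9_1 lc_i_rc_9_1 lc_i_rc_26_1 lc_i_rc_33_1 lc_i_rc_46_1 lc_i_rc_26_1 lc_i_rc_18_1 lc_i_rc_46_3 lc_i_rc_18_1 lc_i_rc_9_3 lc_i_rc_39_1 lc_i_rc_9_1 lc_i_rc_18_1 lc_i_rc_18_1 lc_i_rc_33_1 lc_i_rc_39_1 lc_i_rc_26_1 lc_i_rc_9_1 lc_i_rc_18_1 lc_i_rc_9_1 lc_i_rc_26_1 lc_i_rc_18_1 lc_i_rc_18_3 lc_i_rc_9_1 lc_i_rc_26_1 lc_i_rc_18_1 lc_i_rc_46_1 lc_i_Cert_tree lc_i_rc_54_0 lc_i_Cert_tree lc_i_rc_54_0 lc_i_rc_54_0 lc_i_rc_9_1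 lc_i_rc_18_1) (@D3.rec (fun _ => (Cert rels S Gen.i)) lc_i_rc_9_1 lc_i_rc_26_1 lc_i_rc_9_1 lc_i_rc_9_1 lc_i_rc_18_1 lc_i_rc_18_1 lc_i_rc_39_1 lc_i_rc_9_1 lc_i_rc_41_3 lc_i_rc_26_1 lc_i_rc_55_53 lc_i_rc_50_1 lc_i_rc_9_1 lc_i_rc_39_1 lc_i_rc_9_1 lc_i_rc_9_1 lc_i_rc_26_1 lc_i_rc_18_1 lc_i_rc_46_3 lc_i_rc_18_1 lc_i_rc_46_3 lc_i_rc_9_1 lc_i_rc_9_1 lc_i_rc_53_1 lc_i_rc_9_1 lc_i_Cert_tree lc_i_Cert_tree lc_i_rc_54_0 lc_i_rc_9_1 lc_i_rc_33_1 lc_i_rc_26_1 lc_i_rc_9_1 lc_i_rc_9_1 lc_i_rc_26_1 lc_i_rc_9_1 lc_i_rc_9_1 lc_i_rc_26_1 lc_i_rc_18_1 lc_i_rc_39_1 lc_i_rc_9_1 lc_i_rc_9_1 lc_i_rc_26_1 lc_i_rc_18_1 lc_i_rc_54_0 lc_i_rc_9_1 lc_i_rc_33_1 lc_i_rc_26_1 lc_i_rc_9_1 lc_i_rc_9_1 lc_i_rc_26_1 lc_i_rc_9_1)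 (@D3.rec (fun _ => (Cert rels S Gen.i)) lc_i_rc_9_1 lc_i_rc_9_1 lc_i_rc_26_1 lc_i_rc_18_1 lc_i_rc_26_3 lc_i_rc_41_3 lc_i_rc_9_1 lc_i_rc_9_1 lc_i_Cert_tree lc_i_rc_26_1 lc_i_Cert_tree lc_i_rc_50_3 lc_i_rc_54_0 lc_i_rc_9_1 lc_i_rc_9_1 lc_i_rc_18_3 lc_i_rc_53_1 lc_i_rc_54_1 lc_i_rc_54_0 lc_i_rc_9_1 lc_i_rc_26_1 lc_i_rc_9_1 lc_i_rc_9_1 lc_i_rc_26_1 lc_i_rc_9_1 lc_i_rc_33_3 lc_i_rc_18_1 lc_i_rc_33_1 lc_i_rc_18_1 lc_i_rc_9_1 lc_i_rc_9_1 lc_i_rc_26_1 lc_i_rc_18_1 lc_i_rc_18_1 lc_i_rc_18_1 lc_i_rc_9_1 lc_i_rc_9_1 lc_i_rc_9_1 lc_i_rc_26_1 lc_i_rc_9_1 lc_i_rc_26_1 lc_i_rc_9_1 lc_i_rc_9_1 lc_i_rc_18_1 lc_i_rc_9_1 lc_i_rc_33_1 lc_i_rc_26_1 lc_i_rc_9_1 lc_i_rc_53_3 lc_i_rc_26_1 lc_i_rc_9_1) (@D3.rec (fun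 _ => (Cert rels S Gen.i)) lc_i_rc_9_1 lc_i_rc_26_1 lc_i_rc_18_1 lc_i_rc_9_1 lc_i_rc_9_1 lc_i_rc_26_1 lc_i_rc_9_1 lc_i_rc_26_1 lc_i_rc_33_1 lc_i_rc_26_1 lc_i_rc_18_1 lc_i_rc_9_1 lc_i_Cert_tree lc_i_Cert_tree lc_i_rc_54_0 lc_i_rc_46_3 lc_i_rc_53_1 lc_i_rc_18_1 lc_i_rc_53_1 lc_i_rc_9_1 lc_i_rc_9_1 lc_i_rc_26_1 lc_i_rc_9_1 lc_i_rc_9_1 lc_i_rc_39_1 lc_i_rc_33_1 lc_i_rc_26_1 lc_i_rc_26_1 lc_i_rc_18_1 lc_i_rc_18_1 lc_i_rc_18_1 lc_i_rc_9_1 lc_i_rc_9_1 lc_i_rc_9_1 lc_i_rc_9_1 lc_i_rc_26_1 lc_i_rc_26_1 lc_i_rc_9_1 lc_i_Cert_tree lc_i_Cert_tree lc_i_rc_54_0 lc_i_rc_18_1 lc_i_Cert_tree lc_i_rc_54_0 lc_i_Cert_tree lc_i_rc_54_0 lc_i_rc_9_1 lc_i_rc_26_1 lc_i_rc_9_1 lc_i_rc_9_1 lc_i_rc_26_1) (@D3.rec (fun _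 => (Cert rels S Gen.i)) lc_i_rc_9_1 lc_i_rc_9_1 lc_i_Cert_tree lc_i_rc_54_0 lc_i_rc_54_0 lc_i_rc_41_3 lc_i_rc_54_0 lc_i_Cert_tree lc_i_rc_54_0 lc_i_rc_54_0 lc_i_rc_18_1 lc_i_rc_26_1 lc_i_rc_33_1 lc_i_rc_9_1 lc_i_rc_18_1 lc_i_rc_41_3 lc_i_rc_50_1 lc_i_rc_26_1 lc_i_rc_26_1 lc_i_Cert_tree lc_i_Cert_tree lc_i_rc_54_0 lc_i_rc_53_1 lc_i_rc_18_3 lc_i_Cert_tree lc_i_rc_18_1 lc_i_rc_54_0 lc_i_rc_54_0 lc_i_rc_33_1 lc_i_rc_54_0 lc_i_rc_41_3 lc_i_rc_33_3 lc_i_rc_9_1 lc_i_rc_54_1 lc_i_rc_26_1 lc_i_rc_9_1 lc_i_rc_9_1 lc_i_rc_26_1 lc_i_rc_18_1 lc_i_rc_18_1 lc_i_rc_9_1 lc_i_rc_9_1 lc_i_rc_26_1 lc_i_rc_9_1 lc_i_Cert_tree lc_i_Cert_tree lc_i_rc_54_0 lc_i_rc_18_1 lc_i_rc_26_1 lc_i_Cert_tree lc_i_rc_33_1) (@D3.rec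 (fun _ => (Cert rels S Gen.i)) lc_i_rc_54_0 lc_i_rc_26_1 lc_i_rc_54_0 lc_i_rc_9_1 lc_i_rc_9_1 lc_i_rc_9_1 lc_i_rc_9_1 lc_i_rc_33_1 lc_i_Cert_tree lc_i_Cert_tree lc_i_rc_54_0 lc_i_rc_9_1 lc_i_rc_26_1 lc_i_rc_9_1 lc_i_rc_9_1 lc_i_rc_9_1 lc_i_rc_50_3 lc_i_rc_18_1 lc_i_rc_26_1 lc_i_rc_18_1 lc_i_rc_26_1 lc_i_rc_9_1 lc_i_rc_26_1 lc_i_rc_9_1 lc_i_rc_26_1 lc_i_rc_9_1 lc_i_rc_18_1 lc_i_rc_33_3 lc_i_rc_18_1 lc_i_Cert_tree lc_i_rc_54_0 lc_i_rc_54_0 lc_i_rc_9_1 lc_i_rc_26_1 lc_i_rc_9_1 lc_i_rc_9_1 lc_i_rc_26_1 lc_i_rc_26_1 lc_i_rc_9_1 lc_i_rc_18_1 lc_i_rc_9_1 lc_i_rc_9_1 lc_i_rc_26_1 lc_i_rc_9_1 lc_i_rc_9_1 lc_i_rc_9_1 lc_i_rc_26_1 lc_i_rc_9_1 lc_i_rc_26_1 lc_i_rc_9_1 lc_i_rc_18_1) (@D3.rec (fun _ => (Cert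 rels S Gen.i)) lc_i_rc_39_1 lc_i_rc_33_3 lc_i_rc_33_3 lc_i_rc_39_3 lc_i_rc_26_1 lc_i_rc_39_3 lc_i_rc_50_3 lc_i_rc_9_1 lc_i_rc_18_1 lc_i_rc_26_1 lc_i_Cert_tree lc_i_Cert_tree lc_i_rc_54_0 lc_i_rc_54_0 lc_i_rc_9_1 lc_i_rc_26_1 lc_i_rc_9_1 lc_i_rc_9_1 lc_i_rc_18_1 lc_i_rc_18_1 lc_i_rc_39_3 lc_i_rc_39_1 lc_i_rc_46_1 lc_i_rc_54_0 lc_i_rc_33_1 lc_i_rc_26_1 lc_i_rc_18_1 lc_i_rc_33_1 lc_i_rc_41_3 lc_i_rc_46_1 lc_i_rc_18_1 lc_i_rc_9_1 lc_i_rc_9_1 lc_i_rc_26_1 lc_i_rc_18_1 lc_i_rc_18_1 lc_i_rc_39_1 lc_i_rc_41_1 lc_i_rc_9_1 lc_i_rc_41_3 lc_i_rc_26_1 lc_i_rc_18_1 lc_i_rc_18_3 lc_i_rc_18_1 lc_i_rc_39_1 lc_i_rc_39_1 lc_i_rc_9_1 lc_i_rc_33_3 lc_i_Cert_tree lc_i_Cert_tree lc_i_rc_54_0) (@D3.rec (fun _ => (Cert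 rels S Gen.i)) lc_i_rc_50_1 lc_i_rc_18_1 lc_i_rc_26_1 lc_i_rc_18_1 lc_i_rc_9_1 lc_i_rc_9_1 lc_i_rc_9_1 lc_i_rc_50_1 lc_i_rc_41_3 lc_i_rc_9_1 lc_i_rc_9_1 lc_i_rc_26_1 lc_i_rc_18_1 lc_i_rc_39_1 lc_i_rc_9_1 lc_i_rc_9_1 lc_i_rc_26_1 lc_i_rc_18_1 lc_i_rc_54_0 lc_i_rc_46_3 lc_i_rc_9_1 lc_i_rc_9_1 lc_i_rc_26_1 lc_i_rc_18_1 lc_i_rc_18_1 lc_i_rc_46_1 lc_i_rc_9_1 lc_i_rc_9_1 lc_i_Cert_tree lc_i_rc_26_1 lc_i_Cert_tree lc_i_rc_54_0 lc_i_rc_9_1 lc_i_rc_54_0 lc_i_rc_33_1 lc_i_rc_26_1 lc_i_rc_33_3 lc_i_rc_9_1 lc_i_rc_9_1 lc_i_rc_39_3 lc_i_Cert_tree lc_i_Cert_tree lc_i_rc_54_0 lc_i_rc_53_1 lc_i_rc_33_1 lc_i_rc_18_1 lc_i_rc_26_1 lc_i_rc_33_1 lc_i_rc_18_1 lc_i_rc_9_1 lc_i_rc_9_1) (@D3.rec (fun _ => (Cert rels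 S Gen.i)) lc_i_rc_26_1 lc_i_rc_18_1 lc_i_rc_18_1 lc_i_rc_9_1 lc_i_rc_33_1 lc_i_rc_9_1 lc_i_rc_26_1 lc_i_rc_18_1 lc_i_rc_26_1 lc_i_rc_33_1 lc_i_rc_26_1 lc_i_rc_9_1 lc_i_rc_9_1 lc_i_rc_9_1 lc_i_rc_26_1 lc_i_rc_18_1 lc_i_rc_9_1 lc_i_rc_9_1 lc_i_rc_33_1 lc_i_rc_26_1 lc_i_rc_26_1 lc_i_rc_18_1 lc_i_rc_39_3 lc_i_Cert_tree lc_i_rc_54_0 lc_i_rc_54_0 lc_i_rc_9_1 lc_i_rc_9_1 lc_i_rc_26_1 lc_i_rc_18_1 lc_i_rc_18_1 lc_i_rc_9_1 lc_i_Cert_tree lc_i_Cert_tree lc_i_rc_54_0 lc_i_rc_26_1 lc_i_rc_33_3 lc_i_rc_9_1 lc_i_rc_18_1 lc_i_rc_26_1 lc_i_rc_53_1 lc_i_rc_26_1 lc_i_rc_18_1 lc_i_rc_26_1 lc_i_rc_9_1 lc_i_rc_9_1 lc_i_rc_33_3 lc_i_rc_26_1 lc_i_rc_26_1 lc_i_rc_18_1 lc_i_Cert_tree) (@D3.rec (fun _ => (Cert rels S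 Gen.i)) lc_i_rc_54_0 lc_i_rc_26_1 lc_i_rc_54_0 lc_i_rc_9_1 lc_i_rc_9_1 lc_i_rc_26_1 lc_i_rc_9_1 lc_i_rc_9_1 lc_i_rc_26_1 lc_i_rc_9_1 lc_i_rc_39_3 lc_i_rc_18_1 lc_i_rc_33_1 lc_i_rc_41_3 lc_i_rc_26_1 lc_i_rc_39_1 lc_i_rc_9_1 lc_i_rc_9_1 lc_i_rc_26_1 lc_i_rc_18_1 lc_i_rc_18_1 lc_i_rc_18_1 lc_i_rc_9_1 lc_i_rc_9_1 lc_i_rc_9_1 lc_i_rc_33_3 lc_i_rc_33_1 lc_i_rc_26_1 lc_i_rc_46_1 lc_i_rc_54_0 lc_i_rc_54_0 lc_i_rc_9_1 lc_i_rc_26_1 lc_i_rc_9_1 lc_i_rc_9_1 lc_i_rc_9_1 lc_i_rc_9_1 lc_i_rc_33_3 lc_i_rc_33_1 lc_i_rc_50_1 lc_i_rc_26_1 lc_i_rc_18_1 lc_i_rc_26_3 lc_i_rc_9_1 lc_i_rc_9_1 lc_i_rc_9_3 lc_i_rc_9_1 lc_i_rc_26_1 lc_i_rc_50_1 lc_i_rc_46_3 lc_i_rc_18_1) (@D3.rec (fun _ => (Cert rels S Gen.i)) lc_i_rc_53_1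 lc_i_rc_18_1 lc_i_Cert_tree lc_i_rc_54_0 lc_i_rc_54_0 lc_i_rc_39_1 lc_i_rc_9_1 lc_i_rc_9_1 lc_i_rc_9_1 lc_i_rc_26_1 lc_i_rc_18_1 lc_i_rc_18_1 lc_i_rc_9_1 lc_i_rc_9_1 lc_i_rc_26_1 lc_i_rc_26_1 lc_i_rc_9_1 lc_i_rc_9_1 lc_i_rc_9_1 lc_i_rc_26_3 lc_i_rc_26_1 lc_i_rc_33_3 lc_i_rc_18_1 lc_i_rc_18_1 lc_i_rc_9_1 lc_i_Cert_tree lc_i_rc_33_1 lc_i_rc_54_0 lc_i_rc_26_1 lc_i_rc_54_0 lc_i_rc_18_3 lc_i_rc_39_3 lc_i_rc_18_1 lc_i_rc_9_1 lc_i_rc_18_1 lc_i_rc_33_3 lc_i_rc_39_3 lc_i_rc_9_1 lc_i_rc_26_1 lc_i_rc_9_1 lc_i_rc_9_1 lc_i_rc_9_1 lc_i_rc_9_1 lc_i_rc_26_1 lc_i_rc_26_1 lc_i_rc_18_1 lc_i_rc_9_1 lc_i_rc_9_1 lc_i_rc_9_1 lc_i_rc_33_1 lc_i_rc_18_1) (@D3.rec (fun _ => (Cert rels S Gen.i)) lc_i_rc_26_1 lc_i_rc_9_1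 lc_i_rc_9_1 lc_i_rc_26_1 lc_i_rc_18_1 lc_i_rc_9_1 lc_i_rc_9_1 lc_i_rc_26_1 lc_i_rc_18_3 lc_i_rc_26_1 lc_i_rc_18_1 lc_i_Cert_tree lc_i_rc_54_0 lc_i_rc_54_0 lc_i_rc_18_1 lc_i_rc_46_1 lc_i_rc_9_1 lc_i_rc_39_1 lc_i_rc_33_3 lc_i_rc_9_1 lc_i_rc_9_1 lc_i_rc_9_1 lc_i_rc_26_1 lc_i_rc_26_1 lc_i_rc_18_1 lc_i_rc_9_1 lc_i_rc_9_1 lc_i_rc_39_3 lc_i_Cert_tree lc_i_rc_54_0 lc_i_rc_54_0 lc_i_Cert_tree lc_i_Cert_tree lc_i_rc_54_0 lc_i_rc_54_0 lc_i_rc_9_1 lc_i_rc_18_1 lc_i_rc_26_1 lc_i_rc_54_0 lc_i_rc_54_0 lc_i_rc_33_1 lc_i_rc_53_3 lc_i_rc_18_1 lc_i_rc_18_1 lc_i_rc_26_1 lc_i_rc_46_1 lc_i_Cert_tree lc_i_rc_54_0 lc_i_rc_54_0 lc_i_rc_18_1 lc_i_rc_54_0) (@D3.rec (fun _ => (Cert rels S Gen.i)) lc_i_rc_39_1 lc_i_rc_26_1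 lc_i_rc_9_1 lc_i_rc_9_1 lc_i_rc_18_3 lc_i_rc_26_1 lc_i_rc_26_1 lc_i_rc_18_1 lc_i_rc_9_1 lc_i_rc_18_1 lc_i_Cert_tree lc_i_rc_54_0 lc_i_rc_54_0 lc_i_rc_39_3 lc_i_Cert_tree lc_i_rc_26_1 lc_i_rc_54_0 lc_i_rc_18_1 lc_i_rc_18_1 lc_i_rc_46_1 lc_i_Cert_tree lc_i_rc_54_0 lc_i_rc_54_0 lc_i_rc_9_1 lc_i_rc_18_1 lc_i_rc_18_1 lc_i_rc_26_1 lc_i_rc_33_3 lc_i_rc_9_1 lc_i_rc_18_1 lc_i_rc_18_1 lc_i_rc_18_1 lc_i_rc_33_3 lc_i_Cert_tree lc_i_rc_54_0 lc_i_rc_9_1 lc_i_rc_18_1 lc_i_rc_33_3 lc_i_rc_18_1 lc_i_rc_18_1 lc_i_rc_9_1 lc_i_rc_18_1 lc_i_rc_9_1 lc_i_rc_18_1 lc_i_rc_53_1 lc_i_rc_18_1 lc_i_rc_39_1 lc_i_rc_39_1 lc_i_rc_9_3 lc_i_rc_50_1 lc_i_rc_18_1) (@D3.rec (fun _ => (Cert rels S Gen.i)) lc_i_rc_46_1 lc_i_Cert_tree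 lc_i_rc_54_0 lc_i_rc_54_0 lc_i_rc_9_1 lc_i_rc_18_1 lc_i_rc_18_1 lc_i_rc_18_1 lc_i_rc_33_3 lc_i_rc_9_1 lc_i_rc_26_1 lc_i_rc_46_1 lc_i_rc_18_1 lc_i_rc_9_1 lc_i_rc_9_1 lc_i_rc_9_1 lc_i_rc_26_1 lc_i_rc_18_1 lc_i_rc_18_1 lc_i_rc_26_1 lc_i_rc_9_1 lc_i_rc_9_3 lc_i_rc_9_1 lc_i_rc_26_1 lc_i_rc_26_3 lc_i_rc_18_1 lc_i_rc_18_1 lc_i_rc_26_1 lc_i_Cert_tree lc_i_rc_54_0 lc_i_rc_54_0 lc_i_rc_26_1 lc_i_rc_18_1 lc_i_rc_50_1 lc_i_rc_9_1 lc_i_rc_9_1 lc_i_rc_26_1 lc_i_rc_18_1 lc_i_rc_18_1 lc_i_rc_9_1 lc_i_rc_9_1 lc_i_rc_26_1 lc_i_rc_9_1 lc_i_rc_9_1 lc_i_rc_9_1 lc_i_rc_26_1 lc_i_rc_26_1 lc_i_rc_46_1 lc_i_rc_18_1 lc_i_rc_9_1 lc_i_Cert_tree) (@D3.rec (fun _ => (Cert rels S Gen.i)) lc_i_rc_54_0 lc_i_rc_54_0 lc_i_rc_26_1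 lc_i_rc_18_1 lc_i_rc_18_1 lc_i_rc_18_1 lc_i_rc_53_1 lc_i_Cert_tree lc_i_rc_54_0 lc_i_rc_54_0 lc_i_rc_26_1 lc_i_rc_33_1 lc_i_rc_18_1 lc_i_rc_26_1 lc_i_rc_9_1 lc_i_rc_9_1 lc_i_rc_9_1 lc_i_rc_26_1 lc_i_rc_26_1 lc_i_rc_18_1 lc_i_rc_26_1 lc_i_rc_53_1 lc_i_rc_26_1 lc_i_rc_18_1 lc_i_rc_9_1 lc_i_rc_33_1 lc_i_rc_26_1 lc_i_rc_18_1 lc_i_rc_9_1 lc_i_rc_39_3 lc_i_rc_9_1 lc_i_rc_26_1 lc_i_Cert_tree lc_i_rc_54_0 lc_i_rc_9_1 lc_i_rc_9_1 lc_i_rc_33_3 lc_i_rc_26_1 lc_i_rc_26_1 lc_i_rc_18_1 lc_i_Cert_tree lc_i_rc_54_0 lc_i_rc_54_0 lc_i_rc_39_3 lc_i_rc_53_1 lc_i_rc_18_1 lc_i_rc_46_1 lc_i_rc_26_1 lc_i_rc_39_1 lc_i_rc_18_1 lc_i_rc_9_1) (@D3.rec (fun _ => (Cert rels S Gen.i)) lc_i_rc_39_1 lc_i_Cert_tree lc_i_rc_41_3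 lc_i_rc_54_0 lc_i_rc_26_1 lc_i_rc_9_1 lc_i_rc_9_1 lc_i_rc_18_1 lc_i_rc_55_53 lc_i_rc_26_1 lc_i_rc_39_1 lc_i_rc_9_1 lc_i_rc_9_1 lc_i_rc_9_1 lc_i_rc_9_1 lc_i_rc_26_1 lc_i_rc_18_1 lc_i_rc_18_1 lc_i_rc_26_1 lc_i_rc_9_1 lc_i_rc_26_1 lc_i_rc_9_1 lc_i_rc_18_1 lc_i_rc_18_1 lc_i_rc_26_1 lc_i_rc_18_1 lc_i_rc_26_3 lc_i_rc_26_1 lc_i_rc_33_1 lc_i_rc_18_1 lc_i_rc_9_1 lc_i_rc_9_3 lc_i_rc_9_1 lc_i_rc_9_1 lc_i_rc_50_1 lc_i_rc_26_1 lc_i_Cert_tree lc_i_rc_54_0 lc_i_rc_18_1 lc_i_rc_18_1 lc_i_rc_18_1 lc_i_rc_9_1 lc_i_rc_9_1 lc_i_rc_26_1 lc_i_rc_18_1 lc_i_rc_9_1 lc_i_rc_53_3 lc_i_rc_18_1 lc_i_rc_18_1 lc_i_rc_9_1 lc_i_rc_9_1) (@D3.rec (fun _ => (Cert rels S Gen.i)) lc_i_rc_18_1 lc_i_rc_26_1 lc_i_rc_18_1 lc_i_Cert_tree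 lc_i_rc_26_1 lc_i_rc_54_0 lc_i_rc_18_1 lc_i_rc_18_1 lc_i_rc_18_1 lc_i_rc_9_1 lc_i_rc_18_1 lc_i_rc_9_1 lc_i_rc_9_1 lc_i_rc_18_1 lc_i_rc_18_1 lc_i_rc_39_1 lc_i_rc_46_1 lc_i_rc_18_1 lc_i_rc_9_1 lc_i_rc_18_1 lc_i_rc_18_1 lc_i_rc_50_1 lc_i_rc_26_1 lc_i_Cert_tree lc_i_rc_54_0 lc_i_rc_18_1 lc_i_rc_33_3 lc_i_rc_9_1 lc_i_rc_9_1 lc_i_rc_18_1 lc_i_rc_18_1 lc_i_Cert_tree lc_i_rc_54_0 lc_i_Cert_tree lc_i_rc_54_0 lc_i_rc_54_0 lc_i_rc_18_1 lc_i_rc_18_1 lc_i_rc_18_1 lc_i_rc_33_1 lc_i_Cert_tree lc_i_rc_54_0 lc_i_rc_39_1 lc_i_rc_18_1 lc_i_rc_9_1 lc_i_rc_26_1 lc_i_rc_18_1 lc_i_Cert_tree lc_i_rc_54_0 lc_i_rc_26_3 lc_i_rc_54_0) (@D3.rec (fun _ => (Cert rels S Gen.i)) lc_i_Cert_tree lc_i_rc_54_0 lc_i_rc_18_1 lc_i_rc_26_1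 lc_i_rc_33_3 lc_i_rc_18_1 lc_i_rc_54_0 lc_i_rc_18_1 lc_i_rc_18_1 lc_i_rc_18_1 lc_i_Cert_tree lc_i_rc_54_0 lc_i_rc_18_1 lc_i_rc_53_1 lc_i_rc_33_3 lc_i_rc_18_1 lc_i_rc_9_1 lc_i_rc_33_1 lc_i_rc_9_1 lc_i_rc_26_1 lc_i_rc_26_1 lc_i_rc_46_3 lc_i_rc_9_1 lc_i_rc_9_3 lc_i_rc_9_1 lc_i_rc_9_1 lc_i_rc_26_1 lc_i_rc_26_1 lc_i_Cert_tree lc_i_rc_54_0 lc_i_rc_26_1 lc_i_rc_18_1 lc_i_rc_9_1 lc_i_rc_9_1 lc_i_rc_26_1 lc_i_rc_18_1 lc_i_rc_9_1 lc_i_rc_18_1 lc_i_rc_9_1 lc_i_rc_9_1 lc_i_rc_9_1 lc_i_rc_26_1 lc_i_rc_18_1 lc_i_Cert_tree lc_i_rc_54_0 lc_i_rc_18_1 lc_i_Cert_tree lc_i_rc_54_0 lc_i_rc_26_1 lc_i_rc_26_1 lc_i_rc_18_1) (@D3.rec (fun _ => (Cert rels S Gen.i)) lc_i_rc_9_1 lc_i_rc_18_1 lc_i_rc_33_1 lc_i_rc_18_1 lc_i_rc_18_1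 lc_i_rc_39_1 lc_i_rc_18_1 lc_i_rc_18_1 lc_i_rc_26_1 lc_i_rc_54_0 lc_i_rc_18_1 lc_i_rc_9_1 lc_i_rc_39_1 lc_i_Cert_tree lc_i_rc_54_0 lc_i_rc_53_1 lc_i_rc_50_1 lc_i_rc_18_1 lc_i_rc_18_1 lc_i_rc_39_3 lc_i_rc_54_0 lc_i_rc_26_1 lc_i_rc_18_1 lc_i_rc_18_1 lc_i_rc_33_1 lc_i_rc_18_1 lc_i_rc_9_1 lc_i_rc_18_1 lc_i_rc_26_1 lc_i_rc_18_1 lc_i_rc_50_3 lc_i_rc_26_1 lc_i_rc_9_1 lc_i_rc_18_1 lc_i_rc_18_3 lc_i_rc_9_1 lc_i_rc_9_1 lc_i_rc_54_0 lc_i_rc_18_1 lc_i_rc_9_1 lc_i_rc_18_1 lc_i_rc_18_1 lc_i_rc_18_1 lc_i_rc_26_1 lc_i_rc_26_3 lc_i_rc_54_0 lc_i_rc_18_1 lc_i_rc_18_1 lc_i_rc_18_1 lc_i_rc_18_1 lc_i_rc_18_1) (@D3.rec (fun _ => (Cert rels S Gen.i)) lc_i_rc_54_0 lc_i_rc_18_1 lc_i_rc_18_1 lc_i_rc_54_0 lc_i_rc_54_0 lc_i_rc_54_0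 lc_i_rc_18_1 lc_i_rc_50_3 lc_i_rc_54_0 lc_i_rc_54_0 lc_i_rc_54_0 lc_i_rc_50_3 lc_i_rc_18_1 lc_i_rc_33_1 lc_i_rc_9_1 lc_i_rc_18_1 lc_i_rc_18_3 lc_i_rc_9_1 lc_i_rc_41_1 lc_i_rc_54_0 lc_i_rc_18_1 lc_i_rc_9_1 lc_i_rc_18_1 lc_i_rc_18_1 lc_i_rc_18_1 lc_i_rc_26_1 lc_i_rc_54_0 lc_i_rc_54_0 lc_i_rc_26_1 lc_i_rc_18_1 lc_i_rc_18_1 lc_i_rc_18_1 lc_i_rc_54_0 lc_i_rc_18_1 lc_i_rc_18_1 lc_i_rc_54_0 lc_i_rc_46_1 lc_i_rc_18_1 lc_i_rc_33_3 lc_i_rc_50_1 lc_i_rc_18_1 lc_i_rc_18_1 lc_i_rc_18_1 lc_i_rc_18_1 lc_i_rc_18_1 lc_i_rc_18_1 lc_i_rc_18_1 lc_i_rc_18_1 lc_i_rc_26_1 lc_i_rc_18_1 lc_i_rc_33_1)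
def ce_i : Pt → (Cert rels S Gen.i) := @Pt.rec (fun _ => (Cert rels S Gen.i)) (@D1.rec (fun _ => D2 → D3 → (Cert rels S Gen.i)) ce_i_0 ce_i_1 ce_i_2 ce_i_3 ce_i_4 ce_i_5 ce_i_6 ce_i_7 ce_i_8 ce_i_9 ce_i_10 ce_i_11 ce_i_12 ce_i_13 ce_i_14 ce_i_15 ce_i_16 ce_i_17 ce_i_18 ce_i_19 ce_i_20 ce_i_21 ce_i_22)
def isSeed_i (p : Pt) : Bool := orB (beqPt p (Pt.mk D1.c14 D2.c4 D3.c43)) (false)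

end

end Cfsg.Agent.Helper28.S1689
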