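import Cfsg.Agent.Lib.Helper28.S1689.Tree

set_option autoImplicit false
set_option maxRecDepth 100000
set_option linter.all false

namespace Cfsg.Agent.Helper28.S1689

open Cfsg.Agent.Helper28
open Cfsg.Spor.Fi23 (Gen)

noncomputable section

def lv_j_0 : D2 → D3 → Nat := @D2.rec (fun _ => D3 → Nat) (@D3.rec (fun _ => Nat) 0 1 2 3 4 5 6 6 7 7 7 8 8 8 8 9 9 9 9 9 10 10 10 10 10 10 10 10 11 11 11 11 11 11 11 11 0 11 11 12 12 12 12 12 12 12 12 12 12 0 12) (@D3.rec (fun _ => Nat) 12 1 2 12 12 13 13 13 13 13 13 0 13 13 13 13 13 0 13 13 13 1 2 13 13 2 3 13 13 14 14 14 14 14 14 14 0 14 14 14 1 2 14 14 14 0 16 14 14 14 1) (@D3.rec (fun _ => Nat) 2 14 14 14 2 3 14 14 3 4 14 14 14 15 15 15 15 0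 15 15 15 15 0 17 15 15 15 1 2 15 15 15 2 3 15 15 0 17 15 1 3 2 17 17 15 15 2 3 15 15 15) (@D3.rec (fun _ => Nat) 15 3 4 15 15 15 4 5 5 15 15 15 16 16 16 16 0 18 16 16 16 1 2 16 16 16 16 0 18 16 1 3 2 18 18 16 16 2 3 16 16 16 16 3 4 16 16 16 0 1 3) (@D3.rec (fun _ => Nat) 2 18 18 18 2 2 3 3 18 16 16 16 16 3 4 16 16 16 16 16 0 4 5 5 16 16 16 5 5 6 6 6 16 16 16 17 0 19 17 17 17 17 0 19 17 1 3 2 19 19 17) (@D3.rec (fun _ => Nat) 17 2 3 17 17 17 17 17 0 1 3 2 19 19 19 2 2 3 3 19 17 17 17 17 3 4 17 17 17 17 17 0 4 5 5 17 17 17 1 3 2 2 2 3 3 3 19 19 19 19 4) (@D3.rec (fun _ => Nat) 3 5 4 17 17 17 17 17 17 17 17 4 5 5 17 17 17 17 17 17 0 1 5 5 6 6 6 17 17 17 6 6 6 7 7 7 7 17 17 19 18 0 20 18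 1 3 2 20 20 20 18) (@D3.rec (fun _ => Nat) 18 18 18 0 1 3 2 20 20 20 2 2 3 3 20 18 18 18 18 3 4 18 18 18 18 18 18 18 0 1 3 2 2 2 3 3 3 20 20 20 20 4 3 5 4 18 18 18 18 18 18) (@D3.rec (fun _ => Nat) 18 18 4 5 5 18 18 18 18 18 18 0 1 5 5 6 6 6 18 18 18 13 2 2 3 3 3 4 4 3 5 5 5 4 20 20 20 20 20 18 4 4 5 5 5 18 18 18 18 18 18) (@D3.rec (fun _ => Nat) 18 18 18 18 18 18 0 5 5 6 6 6 18 18 18 18 0 18 18 0 1 6 6 6 7 7 7 7 18 18 20 7 7 7 7 13 8 8 8 8 8 18 0 19 0 1 3 2 21 21 2) (@D3.rec (fun _ => Nat) 2 3 3 3 21 21 21 19 19 19 19 19 1 3 2 2 2 3 3 3 21 21 21 4 3 5 4 19 19 19 19 19 19 19 19 4 5 5 19 19 19 19 19 19 19 0 19 19 0 1 14) (@D3.rec (fun _ => Nat) 2 2 3 3 3 4 4 3 5 5 5 4 21 21 21 21 19 4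 4 5 5 5 19 19 19 19 19 19 19 19 19 19 19 19 0 5 5 6 6 6 19 19 19 19 0 19 19 0 1 6 6) (@D3.rec (fun _ => Nat) 6 7 7 7 7 19 19 21 14 14 4 4 3 5 5 5 5 4 4 4 4 4 5 5 5 5 5 5 21 21 19 21 19 19 6 5 5 7 7 6 6 6 19 19 19 19 19 19 19 0 19) (@D3.rec (fun _ => Nat) 19 19 19 0 19 19 19 19 0 1 6 6 6 7 7 7 7 0 19 19 19 19 21 0 1 19 0 1 7 7 7 7 14 8 8 8 8 8 19 8 8 8 8 8 14 9 9 9 9 9 0) (@D3.rec (fun _ => Nat) 1 2 24 1 3 2 2 2 3 3 22 22 4 4 3 5 5 4 22 22 20 22 20 20 20 20 20 20 20 15 2 2 3 3 3 4 4 3 5 5 4 22 22 22 20 4 4 5 5 5 20) (@D3.rec (fun _ => Nat) 20 20 20 20 20 20 20 20 20 20 20 0 5 5 6 6 6 20 20 20 20 0 20 20 20 20 20 0 1 20 0 22 20 1 15 15 4 4 3 5 5 5 5 4 4 4 4 4 5 5 5) (@D3.rec (fun _ => Nat)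 5 5 22 22 20 22 20 20 6 5 5 7 7 6 6 6 20 20 20 20 20 20 20 0 20 20 20 20 0 20 20 20 20 0 1 6 6 6 7 7 7 7 0 20 20 20 20 22 0 1 20) (@D3.rec (fun _ => Nat) 0 1 7 7 7 7 15 8 8 8 8 8 20 20 22 22 15 15 15 4 4 4 4 4 5 5 5 5 5 5 5 5 6 6 6 6 5 5 7 7 7 6 6 6 22 20 20 20 20 20 0) (@D3.rec (fun _ => Nat) 6 6 6 6 6 7 7 7 7 7 7 7 0 20 20 20 20 0 20 20 20 20 20 0 1 20 20 20 20 20 0 1 20 20 20 20 0 20 0 1 7 7 7 7 0 8 8 8 8 8 0) (@D3.rec (fun _ => Nat) 1 20 20 20 0 0 22 1 0 1 8 8 8 8 8 15 9 9 9 9 9 9 9 9 15 9 15 9 10 10 10 0 1 2 2 3 23 16 2 2 3 3 4 3 5 4 23 23 23 4 4) (@D3.rec (fun _ => Nat) 4 5 5 5 5 23 21 23 21 21 23 21 21 21 21 21 21 21 21 21 21 0 16 16 4 4 3 5 5 5 4 4 4 4 5 5 5 5 23 23 21 23 21 21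 6 5 5 7 7 6 6) (@D3.rec (fun _ => Nat) 6 21 21 21 21 21 21 21 0 21 21 21 21 0 21 21 21 21 21 0 1 6 6 6 7 7 7 7 0 21 21 21 21 23 0 1 21 21 21 21 0 21 0 23 21 1 0 23 1 3 23) (@D3.rec (fun _ => Nat) 16 16 16 4 4 4 4 4 5 5 5 5 5 5 5 6 6 6 5 5 7 7 7 6 6 6 23 23 21 21 23 21 21 21 0 6 6 6 6 6 7 7 7 7 7 7 7 0 21 21 21) (@D3.rec (fun _ => Nat) 21 0 21 21 21 21 21 0 1 21 21 21 21 21 0 1 21 21 21 21 0 21 0 1 7 7 7 7 0 8 8 8 8 8 0 1 21 21 21 21 23 0 0 23 23 1 0 1 8 8 8) (@D3.rec (fun _ => Nat) 8 8 16 9 9 9 9 9 9 9 9 21 23 16 16 16 16 16 6 6 6 6 6 6 5 5 7 7 7 7 7 7 7 6 6 6 6 6 6 6 6 6 7 7 7 7 7 7 0 21 21) (@D3.rec (fun _ => Nat) 21 0 21 21 21 21 0 1 8 8 8 7 7 7 7 0 9 9 9 9 0 8 8 8 8 8 0 1 21 21 21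 21 21 0 1 21 21 21 0 21 0 21 1 21 21 21 21 21 0 21 0) (@D3.rec (fun _ => Nat) 21 1 21 21 0 21 21 0 1 0 1 8 8 8 8 8 0 1 9 9 9 0 9 0 9 1 21 0 0 1 1 3 1 9 9 9 16 9 16 9 10 10 10 10 16 10 16 16 10 16 11)
def lv_j_1 : D2 → D3 → Nat := @D2.rec (fun _ => D3 → Nat) (@D3.rec (fun _ => Nat) 11 1 2 17 2 3 3 4 24 24 17 17 4 3 5 4 4 4 5 5 5 24 24 24 24 24 6 6 5 5 7 7 7 6 6 6 22 24 22 22 24 22 22 22 22 0 22 22 22 22 22) (@D3.rec (fun _ => Nat) 22 22 22 22 0 22 22 22 22 22 0 1 17 17 17 4 4 4 4 5 5 5 5 5 6 6 5 5 7 7 7 6 6 6 24 24 24 22 22 24 22 22 22 0 6 6 6 6 6 7 7) (@D3.rec (fun _ => Nat) 7 7 7 7 7 0 22 22 22 22 0 22 22 22 22 22 0 1 22 22 22 22 22 0 1 22 22 22 22 22 0 22 0 22 22 1 7 7 7 7 0 8 8 8 8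 8 0 1 22 22 22) (@D3.rec (fun _ => Nat) 22 24 0 22 0 24 24 1 22 22 0 22 0 24 22 1 0 24 1 3 24 0 1 3 24 24 2 3 17 17 17 17 17 6 6 6 6 6 5 5 7 7 7 7 7 7 6 6 6 6 6) (@D3.rec (fun _ => Nat) 6 6 6 6 7 7 7 7 7 7 7 7 0 22 22 22 22 0 22 22 22 22 22 0 1 8 8 8 7 7 7 7 0 9 9 9 9 0 8 8 8 8 8 0 1 22 22 22 22 22 0) (@D3.rec (fun _ => Nat) 1 22 22 22 22 22 0 22 0 22 22 1 22 22 22 22 22 0 22 0 22 1 22 22 0 22 22 0 1 0 1 8 8 8 8 8 0 1 9 9 9 9 9 0 9 0 9 9 1 22 22) (@D3.rec (fun _ => Nat) 0 22 24 0 24 1 1 3 24 1 9 9 9 9 9 17 9 17 9 9 10 10 10 10 10 10 10 10 24 17 17 17 17 17 17 17 17 17 6 6 6 6 6 6 6 6 6 6 7 7 7) (@D3.rec (fun _ => Nat) 7 7 7 7 7 7 7 0 8 8 8 7 7 7 0 9 9 9 0 8 8 8 8 0 1 0 22 0 1 22 22 22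 0 22 0 22 1 8 8 8 8 0 8 8 8 8 8 0 1 9 9) (@D3.rec (fun _ => Nat) 9 9 9 0 1 9 9 9 0 9 0 9 1 22 22 22 0 22 0 22 1 22 0 22 0 1 0 22 1 3 22 22 22 0 22 22 22 0 22 1 0 22 1 3 22 22 22 0 1 22 0) (@D3.rec (fun _ => Nat) 0 1 0 1 9 9 9 0 9 0 9 1 10 0 10 0 1 0 10 1 3 0 1 1 2 10 17 10 17 17 10 19 11 11 11 17 17 17 17 11 12 18 2 3 18 3 4 4 5 5 25) (@D3.rec (fun _ => Nat) 25 25 18 18 4 4 5 5 5 6 5 5 7 7 6 6 6 25 25 25 25 25 23 25 0 6 6 6 6 6 6 7 7 7 7 7 7 7 7 7 0 23 23 25 23 23 23 23 0 23 23) (@D3.rec (fun _ => Nat) 23 23 23 0 1 23 23 23 23 23 23 23 0 23 23 23 23 23 0 1 23 23 23 23 23 0 23 0 23 23 1 18 18 18 18 6 6 6 5 5 7 7 7 7 6 6 6 6 6 6 6) (@D3.rec (fun _ => Nat) 6 6 7 7 7 7 7 7 7 7 7 0 25 23 23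 23 23 0 23 23 23 23 23 0 1 8 8 8 7 7 7 7 0 9 9 9 9 0 8 8 8 8 8 0 1 23 23 23 23 23 0) (@D3.rec (fun _ => Nat) 1 23 23 23 23 23 0 23 0 23 23 1 23 23 23 23 23 0 23 0 23 23 1 23 23 23 0 23 23 23 0 23 23 1 0 23 1 3 23 8 8 8 8 8 0 1 9 9 9 9 9) (@D3.rec (fun _ => Nat) 0 9 0 11 9 1 23 23 25 0 23 25 23 0 25 25 1 0 25 1 3 25 23 0 25 23 1 0 25 1 3 25 0 1 3 25 25 2 3 1 3 2 106 107 25 25 4 18 18 18 18) (@D3.rec (fun _ => Nat) 18 18 18 18 6 6 6 6 6 6 6 6 6 7 7 7 7 7 7 7 7 7 7 7 0 8 8 8 8 7 7 7 7 0 9 9 9 9 0 8 8 8 8 8 0 1 0 23 23 23 0) (@D3.rec (fun _ => Nat) 1 23 23 23 23 23 0 23 0 23 23 1 8 8 8 8 0 8 8 8 8 8 0 1 9 9 9 9 9 0 1 9 9 9 9 9 0 9 0 9 9 1 23 23 23 23 23 0 23 0 23) (@D3.rec (fun _ => Nat)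 23 1 23 23 0 23 23 23 0 23 1 0 23 1 3 23 23 23 23 0 23 23 23 0 23 1 0 23 1 3 23 23 23 0 1 23 0 0 1 0 1 9 9 9 9 9 0 9 0 9 9) (@D3.rec (fun _ => Nat) 1 10 10 0 10 10 10 0 10 1 0 10 1 3 10 23 0 1 0 25 25 1 3 2 3 10 10 18 10 10 10 18 10 18 10 20 10 11 11 11 11 11 11 11 11 25 18 18 18 18 18) (@D3.rec (fun _ => Nat) 18 18 18 18 18 18 18 8 8 8 8 8 8 8 7 7 7 0 9 9 9 9 9 9 0 8 8 8 8 0 1 8 8 8 0 8 8 8 8 0 1 0 9 0 1 9 9 9 0 9 0) (@D3.rec (fun _ => Nat) 9 1 1 23 0 1 23 23 0 23 1 0 23 1 3 10 10 10 10 10 0 1 9 9 9 0 9 95 9 1 11 11 11 0 11 0 11 1 10 0 10 0 1 94 94 1 93 23 0 23 0) (@D3.rec (fun _ => Nat) 1 0 23 1 3 23 0 1 0 1 106 1 104 2 23 23 23 23 0 23 1 23 0 23 23 0 23 1 3 0 1 3 23 2 23 23 0 0 1 23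 0 1 0 1 1 10 0 10 0 1 91) (@D3.rec (fun _ => Nat) 10 1 93 11 0 1 0 1 1 89 91 2 1 11 18 18 18 20 11 90 18 18 18 18 12 19 19 3 4 19 4 5 5 5 5 6 6 6 26 26 26 26 0 19 19 6 5 5 7 7 6) (@D3.rec (fun _ => Nat) 6 6 6 6 6 6 6 7 7 7 7 7 7 7 0 26 24 26 0 26 24 26 24 24 0 1 8 8 8 8 8 7 7 7 7 0 9 9 9 9 9 9 9 0 8 8 8 8 8 0 1) (@D3.rec (fun _ => Nat) 24 24 24 24 0 24 24 24 24 24 0 1 24 24 24 24 24 0 24 0 24 24 1 24 24 24 24 0 24 24 24 24 24 0 1 24 24 24 24 24 0 24 0 24 24 1 24 24 24 0 24) (@D3.rec (fun _ => Nat) 24 24 0 24 24 1 0 24 1 3 24 19 19 19 19 19 19 6 6 6 6 6 6 6 7 7 7 7 7 7 7 7 7 7 0 8 8 8 8 8 7 7 7 7 0 9 9 9 9 9 0) (@D3.rec (fun _ => Nat) 8 8 8 8 8 0 1 26 24 0 24 24 24 24 0 1 24 24 24 24 24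 0 24 0 24 24 1 8 8 8 8 0 8 8 8 8 8 0 1 9 9 9 9 9 0 1 9 9 9 9 9)
def lv_j_2 : D2 → D3 → Nat := @D2.rec (fun _ => D3 → Nat) (@D3.rec (fun _ => Nat) 0 9 0 11 9 1 24 24 24 24 24 0 24 0 24 24 1 24 24 24 0 24 24 24 0 24 24 1 0 24 1 3 24 24 0 24 24 0 24 1 0 24 1 3 24 24 24 0 24 1 24) (@D3.rec (fun _ => Nat) 0 24 0 24 1 3 24 0 1 3 24 24 2 3 9 9 9 9 9 0 9 0 11 9 1 10 10 10 0 10 10 10 0 12 10 1 0 12 1 3 12 24 26 24 0 26 26 1 24 0 26) (@D3.rec (fun _ => Nat) 26 26 0 26 1 3 26 0 1 3 26 26 2 3 0 26 1 3 26 0 1 3 26 26 2 3 1 3 2 3 3 26 26 4 18 2 108 105 104 26 26 19 19 19 19 19 19 19 19 19 19) (@D3.rec (fun _ => Nat) 19 8 8 8 8 8 8 8 7 7 7 7 0 9 9 9 9 9 0 8 8 8 8 8 0 1 8 8 8 8 0 8 8 8 8 8 0 1 0 9 9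 9 0 1 9 9 9 9 9 0 9) (@D3.rec (fun _ => Nat) 0 9 9 1 1 24 24 0 24 0 1 24 24 24 0 24 24 24 0 24 24 1 0 24 1 3 24 10 10 10 10 10 0 1 9 9 9 9 9 0 9 103 9 9 1 11 11 11 11 11 0) (@D3.rec (fun _ => Nat) 11 0 11 11 1 10 10 0 10 10 10 0 10 1 104 97 1 93 10 24 24 0 24 24 24 0 24 1 0 24 1 3 24 24 24 0 1 24 0 24 24 0 24 1 3 99 1 98 24 2 3) (@D3.rec (fun _ => Nat) 24 24 0 24 1 24 0 24 0 24 1 3 0 1 3 24 2 24 24 0 0 1 24 0 1 0 1 1 10 10 0 10 10 10 0 10 1 93 10 1 101 10 11 11 0 1 11 0 11 11 0) (@D3.rec (fun _ => Nat) 11 1 3 1 91 93 11 2 3 0 1 1 3 26 26 2 4 11 11 19 11 19 11 11 19 11 21 19 21 11 11 21 12 12 12 12 12 12 92 12 26 19 19 19 19 19 19 19 19 19 19) (@D3.rec (fun _ => Nat) 19 19 19 19 91 8 8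 8 8 8 8 0 8 8 8 8 92 1 9 9 0 9 0 1 90 90 9 89 94 90 90 1 0 10 93 1 9 9 9 93 9 95 9 1 1 11 0 1 10 92 95) (@D3.rec (fun _ => Nat) 10 1 94 96 1 95 0 1 24 0 104 24 1 3 105 1 105 24 2 10 10 10 0 10 91 10 1 10 0 10 93 1 11 0 11 0 1 96 90 1 95 11 0 1 92 1 24 0 1 0 1) (@D3.rec (fun _ => Nat) 106 1 99 24 2 0 1 105 1 24 24 0 24 0 24 1 3 24 0 24 1 3 24 102 1 3 24 2 1 105 2 103 24 24 0 24 0 1 0 1 103 110 1 1 11 0 1 91 1 0 1) (@D3.rec (fun _ => Nat) 1 19 19 19 19 19 20 20 4 5 5 20 5 5 6 6 6 6 6 6 7 7 7 7 0 27 27 27 27 25 0 1 20 20 20 6 6 6 6 6 7 7 7 7 7 7 7 0 8 8 8) (@D3.rec (fun _ => Nat) 7 7 7 7 0 9 9 9 0 8 8 8 8 8 0 1 25 27 25 25 0 1 25 27 25 25 25 0 25 0 25 25 1 8 8 8 8 8 8 8 0 8 8 8 8 8 0 1 9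 9 9) (@D3.rec (fun _ => Nat) 9 0 9 9 9 9 9 0 1 9 9 9 9 9 0 9 0 11 9 1 25 25 25 25 25 0 1 25 25 25 25 25 0 25 0 25 25 1 25 25 25 0 25 25 25 0 25 25 1 0 25) (@D3.rec (fun _ => Nat) 1 3 25 25 25 0 1 25 25 0 25 0 25 1 25 0 25 25 0 25 1 0 25 1 3 25 25 25 0 25 1 25 0 25 0 25 1 3 25 0 1 3 25 25 2 3 20 20 20 20 20) (@D3.rec (fun _ => Nat) 20 20 20 8 8 8 8 8 8 7 7 7 7 0 9 9 9 9 9 9 9 0 8 8 8 8 8 0 1 8 8 8 8 8 0 8 8 8 8 8 0 1 9 9 0 9 9 9 9 0 1) (@D3.rec (fun _ => Nat) 9 9 9 9 9 0 9 0 11 9 1 25 25 0 1 25 25 25 0 25 0 25 25 1 25 25 25 0 25 25 25 0 25 25 1 0 25 1 3 25 10 10 10 10 10 0 1 9 9 9 9) (@D3.rec (fun _ => Nat) 9 0 9 0 11 9 1 11 11 11 11 11 0 11 0 13 11 1 10 10 10 0 10 10 10 0 12 10 1 0 12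 1 3 12 25 25 25 0 25 25 25 0 25 25 1 0 25 1 3 25 25) (@D3.rec (fun _ => Nat) 25 25 25 0 25 25 1 25 0 25 25 25 0 25 1 3 25 0 1 3 25 25 2 3 25 0 1 25 0 0 25 1 3 0 1 3 25 25 2 3 25 0 0 25 1 3 25 0 25 1 3) (@D3.rec (fun _ => Nat) 0 1 3 25 25 2 3 1 3 2 3 3 25 25 4 10 10 10 0 10 10 10 0 12 10 1 0 12 1 3 12 11 11 11 0 13 11 1 11 0 13 11 11 0 13 1 3 13 0 1 3) (@D3.rec (fun _ => Nat) 13 13 2 3 25 0 27 27 0 27 1 3 27 0 27 1 3 27 27 27 27 0 1 3 27 27 2 3 1 3 2 3 3 27 27 4 0 1 3 27 27 2 3 1 3 2 3 3 27 27 4) (@D3.rec (fun _ => Nat) 19 2 3 105 4 4 105 108 27 27 27 104 27 27 20 20 20 20 20 20 20 20 20 20 20 20 20 20 93 8 8 8 8 8 0 8 8 8 8 8 94 1 9 0 9 9 9 0 1 9 9) (@D3.rec (fun _ => Nat) 9 9 9 0 92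 92 92 1 0 10 10 10 0 1 9 9 9 9 9 0 9 94 9 9 1 1 11 11 0 11 0 1 10 10 10 0 10 10 10 0 10 10 1 102 94 1 103 10 25 25 0) (@D3.rec (fun _ => Nat) 1 0 1 25 25 25 25 0 25 1 25 0 25 25 0 25 1 3 25 99 1 100 25 25 2 3 10 10 10 10 10 0 10 95 10 10 1 10 10 0 10 10 10 93 10 1 10 11 11 0 11) (@D3.rec (fun _ => Nat) 11 11 0 11 1 95 11 1 3 11 11 11 0 1 11 0 11 11 103 95 1 101 98 100 25 25 0 1 25 0 25 0 25 1 3 101 1 3 25 25 2 3 25 0 0 1 25 0 25 1 3) (@D3.rec (fun _ => Nat) 25 25 99 1 98 2 98 4 25 0 0 25 1 3 25 0 25 1 3 0 1 3 25 2 1 3 2 3 25 25 0 25 0 1 0 1 0 27 0 1 1 11 11 0 1 11 0 11 11 91 11) (@D3.rec (fun _ => Nat) 1 91 11 95 12 0 0 1 12 0 12 1 3 12 12 1 91 93 2 92 92 4 1 2 3 27 27 12 20 20 12 20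 12 22 12 12 20 22 12 22 12 13 13 13 13 13 13 94 92 13 0)
def lv_j_3 : D2 → D3 → Nat := @D2.rec (fun _ => D3 → Nat) (@D3.rec (fun _ => Nat) 20 20 20 20 20 20 20 20 20 20 20 89 10 10 0 10 89 1 9 11 0 1 94 91 1 90 94 90 1 10 93 10 10 96 1 92 97 94 93 103 1 25 107 1 104 25 2 12 91 12 91) (@D3.rec (fun _ => Nat) 1 11 99 1 96 91 1 94 1 101 1 99 1 100 1 101 99 1 25 0 25 0 25 1 3 100 1 110 25 2 102 102 1 3 2 3 104 2 104 105 25 0 1 101 115 1 1 93 1 1 20) (@D3.rec (fun _ => Nat) 20 20 21 21 5 5 6 6 6 21 21 6 6 6 7 7 7 7 0 7 7 7 7 0 8 8 8 8 8 0 1 28 28 28 28 26 0 28 0 26 26 1 21 21 21 21 21 8 8 8 7) (@D3.rec (fun _ => Nat) 7 7 7 0 9 9 9 0 8 8 8 8 8 0 1 8 8 8 0 8 8 8 8 8 0 1 9 9 9 9 0 1 9 9 9 9 9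 0 9 0 11 9 1 26 26 26 0 26 0 26 26) (@D3.rec (fun _ => Nat) 1 26 26 26 0 26 26 26 0 26 26 1 0 26 1 3 26 10 10 10 10 0 10 10 10 10 10 0 1 9 9 9 9 9 0 9 0 11 9 1 11 11 11 11 11 0 1 11 11 11 11) (@D3.rec (fun _ => Nat) 11 0 11 0 13 11 1 10 10 10 0 10 10 10 0 12 10 1 0 12 1 3 12 26 26 26 26 26 0 26 0 26 26 1 26 26 26 0 26 26 26 0 26 26 1 0 26 1 3 26 26) (@D3.rec (fun _ => Nat) 26 26 26 0 26 26 1 26 0 26 26 26 0 26 1 3 26 0 1 3 26 26 2 3 0 26 0 1 0 26 0 1 0 26 1 3 26 0 1 26 0 0 26 1 3 0 1 3 26 26 2) (@D3.rec (fun _ => Nat) 3 26 0 0 26 1 3 26 0 26 1 3 0 1 3 26 26 2 3 1 3 2 3 3 26 26 4 21 21 21 21 21 21 21 21 21 21 21 93 8 8 8 8 8 8 8 0 8 8 8 8) (@D3.rec (fun _ => Nat) 8 0 1 9 9 9 9 0 9 9 9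 9 0 1 9 9 9 9 9 0 9 0 9 9 1 10 10 0 10 10 10 10 0 1 9 9 9 9 9 0 9 0 11 9 1 11 11 0 1 11 11) (@D3.rec (fun _ => Nat) 11 0 11 0 11 11 1 10 10 10 0 10 10 10 0 12 10 1 0 12 1 3 12 26 0 26 26 1 26 26 26 0 26 26 1 0 26 1 3 26 26 26 26 26 0 26 26 1 26 0 26) (@D3.rec (fun _ => Nat) 26 26 0 26 1 3 26 0 1 3 26 26 2 3 10 10 10 10 10 0 10 0 12 10 1 10 10 10 0 10 10 10 0 12 10 1 0 12 1 3 12 11 11 11 0 11 11 11 0 13 11) (@D3.rec (fun _ => Nat) 1 0 11 1 3 13 11 11 11 11 0 13 11 1 11 0 13 11 11 0 13 1 3 13 0 1 3 13 13 2 3 26 26 26 26 0 26 26 1 26 0 26 26 26 0 26 1 3 26 0 1) (@D3.rec (fun _ => Nat) 3 26 26 2 3 26 26 0 26 26 0 26 1 3 26 26 0 26 1 3 26 26 26 26 0 1 3 26 26 2 3 1 3 2 3 3 26 26 4 0 1 26 0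 1 0 1 3 26 2 1 3) (@D3.rec (fun _ => Nat) 2 3 3 26 26 4 26 0 1 0 1 3 26 2 0 28 0 1 3 26 2 1 3 2 3 3 26 26 4 8 2 3 3 4 4 5 5 26 26 26 11 11 11 0 13 11 1 11 0 13 11) (@D3.rec (fun _ => Nat) 11 0 13 1 3 13 0 1 3 13 13 2 3 12 0 14 12 0 14 1 3 14 12 0 14 1 3 14 14 12 12 0 1 3 14 14 2 3 1 3 2 3 3 14 14 4 0 28 1 3 28) (@D3.rec (fun _ => Nat) 0 1 3 28 28 2 3 0 1 3 28 28 2 3 3 28 28 28 28 1 3 2 3 3 28 28 4 20 2 3 3 4 4 5 5 28 28 28 1 3 2 3 3 28 28 4 20 2 3 103 4) (@D3.rec (fun _ => Nat) 4 5 5 28 28 28 4 107 106 106 102 106 28 28 28 104 28 21 21 21 21 21 21 21 21 21 91 21 21 21 10 0 10 10 10 91 1 9 9 9 9 9 92 0 1 11 11 0 94 90 1) (@D3.rec (fun _ => Nat) 10 90 10 91 10 10 100 90 92 1 1 10 10 91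 10 97 1 10 10 10 95 10 10 10 96 10 10 1 10 11 11 0 1 99 1 11 11 11 98 96 11 1 11 0 11 11 92 102 1 94 11) (@D3.rec (fun _ => Nat) 94 96 26 0 0 1 97 1 26 26 0 26 96 26 1 3 26 0 26 1 3 26 26 97 1 98 26 26 2 3 100 26 4 12 12 0 12 12 12 99 12 1 12 95 12 11 11 99 1 11 99) (@D3.rec (fun _ => Nat) 11 11 13 13 0 1 13 0 13 101 92 1 100 92 92 98 2 100 12 0 97 1 12 96 94 1 99 12 12 26 0 0 1 26 0 26 1 3 99 1 98 26 2 100 2 101 98 26 4 26 0) (@D3.rec (fun _ => Nat) 1 97 1 0 28 99 1 98 26 2 3 26 26 26 0 1 99 1 3 26 2 0 28 0 1 3 26 2 1 103 2 100 26 2 111 4 5 26 26 0 1 0 28 0 1 1 0 1 3 28 1) (@D3.rec (fun _ => Nat) 12 0 91 1 12 93 12 1 91 12 12 13 0 1 1 0 13 1 91 13 2 3 13 13 92 92 4 5 28 0 13 21 21 21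 13 21 23 13 23 13 13 13 13 14 14 14 14 14 14 0 94) (@D3.rec (fun _ => Nat) 92 92 1 21 21 21 21 21 21 21 21 91 10 0 1 11 1 92 26 0 1 114 102 1 110 2 104 2 4 26 107 113 1 21 22 22 22 6 6 6 7 7 7 7 0 22 22 22 7 7 7) (@D3.rec (fun _ => Nat) 7 0 8 8 8 8 8 0 1 8 8 8 8 8 0 1 9 9 9 9 9 0 9 0 9 9 1 29 29 27 0 29 27 29 0 27 27 1 0 27 1 3 27 22 22 22 22 22 22 22 0) (@D3.rec (fun _ => Nat) 8 8 8 0 8 8 8 8 8 0 1 9 9 9 9 0 1 9 9 9 9 9 0 9 0 9 9 1 10 10 10 10 0 1 9 9 9 9 9 0 9 0 11 9 1 11 11 11 0 11 0) (@D3.rec (fun _ => Nat) 13 11 1 10 10 10 0 10 10 10 0 12 10 1 0 10 1 3 12 27 27 27 0 27 27 1 0 27 1 3 27 27 27 27 27 0 27 27 1 27 0 27 27 27 0 27 1 3 27 0 1) (@D3.rec (fun _ => Nat) 3 27 27 2 3 10 10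 10 10 10 0 1 10 10 10 10 10 0 10 0 12 10 1 10 10 10 0 10 10 10 0 12 10 1 0 12 1 3 12 11 11 11 11 11 0 11 0 13 11 1 11)
def lv_j_4 : D2 → D3 → Nat := @D2.rec (fun _ => D3 → Nat) (@D3.rec (fun _ => Nat) 11 11 0 11 11 11 0 13 11 1 0 13 1 3 13 11 11 11 11 0 13 11 1 11 0 13 11 11 0 13 1 3 13 0 1 3 13 13 2 3 27 27 27 0 27 27 27 0 27 27 1) (@D3.rec (fun _ => Nat) 0 27 1 3 27 27 27 27 27 0 27 27 1 27 0 27 27 27 0 27 1 3 27 0 1 3 27 27 2 3 27 27 27 0 27 27 27 0 27 1 3 27 27 0 27 1 3 27 27 27 27) (@D3.rec (fun _ => Nat) 0 1 3 27 27 2 3 1 3 2 3 3 27 27 4 1 0 1 1 0 1 0 1 3 27 2 0 1 27 0 1 0 1 3 27 2 1 3 2 3 3 27 27 4 27 0 1 0 1 3 27) (@D3.rec (fun _ => Nat) 2 0 29 0 1 3 27 2 1 3 2 3 3 27 27 4 8 2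 3 3 4 4 5 5 27 27 27 22 22 22 22 22 22 22 22 93 22 22 22 22 24 93 10 10 10 10 97 10 10 10 10) (@D3.rec (fun _ => Nat) 93 1 9 9 9 9 9 93 9 95 9 9 1 91 95 99 91 91 95 1 11 11 11 0 11 93 95 11 1 10 0 10 10 0 10 10 1 0 10 1 3 10 10 10 99 1 10 10 10 0 10) (@D3.rec (fun _ => Nat) 0 10 10 1 10 10 10 0 10 10 10 0 12 10 1 0 12 1 3 12 97 99 11 11 1 11 11 11 0 11 11 1 0 11 1 3 11 11 11 11 11 0 13 11 1 11 0 13 11 11 0) (@D3.rec (fun _ => Nat) 13 1 3 13 0 1 3 13 13 2 3 105 27 1 3 27 27 0 27 27 0 27 1 3 27 0 1 3 27 27 2 3 27 27 27 0 27 27 27 0 27 1 3 27 27 0 27 1 3 27 27) (@D3.rec (fun _ => Nat) 27 27 0 1 3 27 27 2 3 1 3 2 3 3 27 27 4 12 12 12 0 12 12 12 0 14 12 1 0 12 1 3 14 11 11 11 11 0 13 11 1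 11 0 13 11 11 0 13 1 3 13) (@D3.rec (fun _ => Nat) 0 1 3 13 13 2 3 13 13 13 13 0 15 13 1 13 0 15 13 13 0 13 1 3 15 0 1 3 13 13 2 3 12 12 0 14 12 0 14 1 3 14 12 0 14 1 3 14 14 12 12) (@D3.rec (fun _ => Nat) 0 1 3 14 14 2 3 1 3 2 3 3 14 14 4 27 27 0 27 27 0 27 1 3 27 27 0 27 1 3 27 27 27 0 1 3 27 27 2 3 1 3 2 3 3 27 27 4 27 0 27) (@D3.rec (fun _ => Nat) 0 27 1 3 27 0 1 3 27 27 2 3 0 29 0 1 3 27 27 2 3 3 27 27 27 27 1 3 2 3 3 27 27 4 9 2 3 3 4 4 5 5 27 27 29 0 1 0 29 0 1) (@D3.rec (fun _ => Nat) 1 3 2 3 27 9 2 3 3 4 4 5 5 27 27 27 0 29 0 1 1 3 2 3 27 0 1 3 27 29 1 3 2 3 27 10 2 3 3 4 4 5 5 27 27 29 9 4 4 5 5) (@D3.rec (fun _ => Nat) 5 4 4 5 105 5 27 27 27 12 97 14 12 97 14 1 3 14 12 99 14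 1 3 14 14 12 12 101 1 3 14 14 2 3 1 3 2 3 3 14 14 4 101 103 15 1 3 15 99 1 3) (@D3.rec (fun _ => Nat) 15 15 2 3 101 99 101 1 3 15 15 2 3 3 15 15 13 13 1 3 2 3 3 15 15 4 21 2 3 3 4 4 5 5 15 15 15 95 1 3 29 29 2 3 1 3 2 3 3 29 29) (@D3.rec (fun _ => Nat) 4 1 3 2 3 3 29 29 29 4 4 5 5 29 29 0 29 21 2 3 3 4 4 5 5 29 29 29 21 4 4 107 106 5 4 4 5 103 104 29 29 29 21 2 3 105 4 4 5 5 29) (@D3.rec (fun _ => Nat) 29 29 4 5 99 103 4 4 102 100 100 37 29 29 104 29 29 22 22 22 22 93 22 22 22 99 1 10 10 91 10 10 10 10 1 92 96 91 1 92 92 92 100 92 92 12 12 95 11 11 11) (@D3.rec (fun _ => Nat) 11 11 95 11 11 11 13 0 95 1 12 100 102 12 96 96 12 100 98 1 95 12 12 100 102 27 0 1 97 1 27 0 27 98 27 1 3 98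 27 2 0 29 99 1 100 27 2 3 27 27 100) (@D3.rec (fun _ => Nat) 27 27 4 12 12 91 1 12 99 12 12 94 12 12 12 13 0 99 1 13 101 92 1 100 13 100 1 103 13 100 99 13 13 27 0 1 99 1 0 29 101 1 100 27 2 100 27 0 29 99 1) (@D3.rec (fun _ => Nat) 101 1 3 27 29 100 27 4 5 27 0 0 29 108 1 101 2 102 27 0 1 3 27 29 1 103 2 3 27 109 27 111 4 109 27 0 29 0 1 0 1 3 29 1 0 1 3 2 3 13 93) (@D3.rec (fun _ => Nat) 1 95 13 13 93 13 13 91 91 1 1 91 14 14 93 93 14 4 5 14 0 4 5 0 1 22 14 22 22 24 14 14 24 14 14 24 14 94 15 15 15 15 15 92 1 22 22 22 22 22 22) (@D3.rec (fun _ => Nat) 91 12 1 13 27 114 106 1 105 22 23 23 23 23 23 7 7 7 7 96 98 96 100 1 23 23 23 23 92 8 8 8 8 8 92 1 94 93 92 100 94 92 1 9 9 9 9 9 100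 9 96) (@D3.rec (fun _ => Nat) 9 9 1 100 100 10 102 96 10 98 102 10 10 1 100 10 1 3 10 30 30 28 30 102 28 28 1 30 100 28 28 28 94 28 1 3 28 104 1 3 28 28 2 3 23 23 23 0 23 23 23) (@D3.rec (fun _ => Nat) 23 25 92 1 10 10 10 10 0 1 9 9 9 9 9 92 9 94 9 9 1 11 11 11 0 11 0 11 11 1 10 92 10 10 0 10 1 0 10 1 94 94 10 10 10 0 10 0 12 10 1) (@D3.rec (fun _ => Nat) 10 10 10 98 10 10 10 0 12 10 1 0 10 1 3 12 11 11 11 0 13 11 1 0 13 1 3 13 11 11 11 11 0 13 11 1 11 0 13 11 11 0 11 1 3 13 0 1 3 11 11) (@D3.rec (fun _ => Nat) 2 3 28 0 28 28 28 0 28 1 3 28 0 1 3 28 28 2 3 28 28 28 0 28 28 28 0 28 1 3 28 28 0 28 1 3 28 28 28 28 0 1 3 28 28 2 3 1 3 2 3) (@D3.rec (fun _ => Nat) 3 28 28 4 12 12 12 12 12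 0 12 0 14 12 1 12 12 12 0 12 12 12 0 14 12 1 0 14 1 3 14 11 11 11 11 0 13 11 1 11 0 13 11 11 0 13 1 3 13 0 1) (@D3.rec (fun _ => Nat) 3 13 13 2 3 13 13 13 0 13 13 13 0 15 13 1 0 15 1 3 15 13 13 13 13 0 15 13 1 13 0 15 13 13 0 15 1 3 15 0 1 3 15 15 2 3 12 12 12 0 14)
def lv_j_5 : D2 → D3 → Nat := @D2.rec (fun _ => D3 → Nat) (@D3.rec (fun _ => Nat) 12 12 0 14 1 3 14 12 0 14 1 3 14 14 12 12 0 1 3 14 14 2 3 1 3 2 3 3 14 14 4 28 28 28 0 28 28 1 28 0 28 28 28 0 28 1 3 28 0 1 3) (@D3.rec (fun _ => Nat) 28 28 2 3 28 28 28 0 28 28 28 0 28 1 3 28 28 0 28 1 3 28 28 28 28 0 1 3 28 28 2 3 1 3 2 3 3 28 28 4 28 0 28 28 28 0 28 1 3 28 28) (@D3.rec (fun _ => Nat) 28 0 1 3 28 28 2 3 0 30 0 1 3 28 28 2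 3 3 28 28 28 28 28 1 3 2 3 3 28 28 4 9 2 3 3 4 4 5 5 28 28 28 108 1 108 1 1 106 2 3 28) (@D3.rec (fun _ => Nat) 0 1 0 30 0 1 1 3 2 3 28 9 2 3 3 4 4 5 5 28 28 28 0 30 0 1 1 3 2 3 28 0 1 3 28 30 1 3 2 3 28 10 2 3 3 4 4 5 5 28 28) (@D3.rec (fun _ => Nat) 28 9 4 4 5 5 5 4 4 5 5 5 28 28 28 23 23 23 23 23 23 25 23 23 10 10 10 91 10 10 10 93 10 10 93 10 10 95 10 97 10 93 11 11 11 92 93 11 1 93 101) (@D3.rec (fun _ => Nat) 95 11 93 1 11 92 0 11 1 3 11 0 1 3 11 96 2 96 12 12 12 12 12 0 12 12 1 93 12 1 97 12 11 11 11 11 0 13 11 1 11 101 13 11 11 0 13 1 3 13 95) (@D3.rec (fun _ => Nat) 1 3 13 13 2 3 97 101 13 13 0 13 13 0 13 1 3 13 0 1 103 101 13 2 3 12 12 12 0 14 12 12 0 14 1 3 14 12 0 14 1 3 14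 14 12 12 0 1 3 14 14) (@D3.rec (fun _ => Nat) 2 3 1 3 2 3 3 14 14 4 105 28 28 2 3 28 0 28 1 3 28 0 1 3 28 28 2 3 1 3 2 3 3 28 28 4 28 0 28 28 28 0 28 1 3 28 28 28 0 1 3) (@D3.rec (fun _ => Nat) 28 28 2 3 0 30 0 1 3 28 28 2 3 3 28 28 28 28 1 3 2 3 3 28 28 4 10 2 3 3 4 4 5 5 28 28 28 12 12 12 12 0 14 12 1 12 0 14 12 12 0) (@D3.rec (fun _ => Nat) 12 1 3 14 101 1 103 12 12 2 3 12 12 0 14 12 0 14 1 3 14 12 0 14 1 3 14 14 12 12 0 1 3 14 14 2 3 1 3 2 3 3 14 14 4 13 13 0 15 13 0) (@D3.rec (fun _ => Nat) 13 1 3 15 13 0 13 1 3 15 15 13 0 1 3 13 13 2 3 1 3 2 101 3 103 13 4 13 0 13 0 15 1 3 15 0 1 3 15 15 2 3 0 13 0 1 3 15 15 2 3) (@D3.rec (fun _ => Nat) 3 15 15 13 13 1 3 2 3 3 15 15 4 10 2 3 3 4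 4 5 5 15 15 15 28 0 0 28 1 3 28 0 1 3 28 2 3 0 30 0 1 3 28 28 2 3 3 28 28 1 3) (@D3.rec (fun _ => Nat) 2 3 3 28 28 4 11 2 3 3 4 4 5 5 28 28 28 28 0 1 0 30 0 1 3 28 28 2 3 1 3 2 3 3 28 28 4 0 1 3 28 30 1 3 2 3 3 28 28 28 4) (@D3.rec (fun _ => Nat) 4 5 5 28 28 0 28 10 2 3 3 4 4 5 5 28 28 30 10 4 4 5 5 5 4 4 5 5 5 28 28 30 1 0 1 3 30 1 10 2 3 4 5 28 10 4 4 5 5 5 4) (@D3.rec (fun _ => Nat) 4 5 5 5 28 28 28 0 1 3 30 1 11 2 3 4 5 28 0 1 3 2 3 3 28 28 11 2 3 4 5 28 11 4 4 5 5 5 4 4 5 5 5 36 28 30 10 10 4 4 4) (@D3.rec (fun _ => Nat) 102 106 6 6 7 100 105 28 28 28 15 99 15 97 15 15 2 3 101 15 15 2 3 3 15 15 13 13 99 2 3 3 15 15 4 2 3 3 4 4 5 5 15 15 15 101 99 16 2 3 101) (@D3.rec (fun _ => Nat)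 2 3 3 16 16 4 97 93 103 2 103 3 16 16 16 4 4 5 5 16 16 0 14 2 3 3 4 4 5 5 16 16 16 22 4 4 5 105 5 4 4 5 5 5 16 16 16 93 2 3 3) (@D3.rec (fun _ => Nat) 30 30 4 2 3 3 4 4 5 5 30 30 30 2 3 3 4 4 5 5 5 30 30 30 30 30 30 4 4 5 5 0 30 1 2 22 4 4 5 99 5 4 4 5 5 5 36 30 30 22 4) (@D3.rec (fun _ => Nat) 101 105 108 104 6 7 104 30 30 4 5 101 103 4 4 5 5 107 36 30 30 4 101 99 101 102 100 38 30 30 30 23 102 12 101 12 12 12 12 12 96 103 1 98 100 100 95 101 100 98 100) (@D3.rec (fun _ => Nat) 104 13 0 30 97 1 28 100 1 98 30 98 28 2 28 99 1 3 28 30 100 28 28 4 5 28 0 28 14 93 14 13 13 13 13 97 101 1 99 15 98 100 14 102 98 14 102 99 14 0 0) (@D3.rec (fun _ => Nat) 30 99 1 101 1 3 28 30 100 28 109 99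 1 3 30 107 101 2 100 3 28 28 101 28 4 5 0 1 106 1 3 30 104 0 1 3 2 3 3 28 28 103 4 101 28 105 30 107 1 3 30) (@D3.rec (fun _ => Nat) 1 102 1 3 2 3 1 3 2 3 4 14 14 14 101 14 98 93 93 93 97 15 15 93 97 15 4 5 0 1 6 0 1 15 25 25 15 15 15 25 15 16 94 23 23 23 23 23 23 12 33) (@D3.rec (fun _ => Nat) 23 10 10 10 10 10 98 10 98 100 11 98 11 11 98 102 11 100 96 11 2 3 29 29 29 29 29 102 29 29 100 29 29 29 29 94 29 29 2 3 106 2 3 3 29 29 4 24 24 24 26) (@D3.rec (fun _ => Nat) 92 1 24 24 24 26 10 10 10 92 10 96 10 10 1 10 10 10 92 10 102 10 11 11 0 11 1 0 11 1 96 96 11 92 11 0 0 11 1 92 0 1 94 94 96 12 12 12 0 14 12) (@D3.rec (fun _ => Nat) 1 0 14 1 3 14 11 11 11 11 98 13 11 11 0 13 11 11 0 11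 1 100 13 102 1 102 11 11 2 3 13 0 15 13 13 0 15 1 3 15 0 1 3 15 15 2 3 12 12 12 0) (@D3.rec (fun _ => Nat) 14 12 12 0 12 1 102 14 12 0 12 1 3 14 14 12 12 0 1 3 12 12 2 3 1 3 2 104 3 102 12 4 29 0 29 1 3 29 29 29 0 1 3 29 29 2 3 1 3 2 3) (@D3.rec (fun _ => Nat) 3 29 29 4 29 0 29 29 29 29 0 29 1 3 29 29 29 29 0 1 3 29 29 2 3 0 31 0 1 3 29 29 2 3 3 29 29 29 29 29 1 3 2 3 3 29 29 4 10 2 3)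
def lv_j_6 : D2 → D3 → Nat := @D2.rec (fun _ => D3 → Nat) (@D3.rec (fun _ => Nat) 3 4 4 5 5 29 29 29 12 12 12 0 12 12 12 0 14 12 1 0 14 1 3 14 12 12 12 12 0 14 12 1 12 0 14 12 12 0 14 1 3 14 0 1 3 14 14 2 3 12 12) (@D3.rec (fun _ => Nat) 12 0 14 12 12 0 14 1 3 14 12 0 14 1 3 14 14 12 12 0 1 3 14 14 2 3 1 102 2 104 3 14 14 4 13 13 13 13 0 15 13 1 97 100 15 13 13 99 15 1 3) (@D3.rec (fun _ => Nat) 15 0 1 3 15 15 2 3 13 13 13 0 15 13 13 0 15 1 3 15 13 0 15 1 3 15 15 13 13 0 1 3 15 15 2 3 1 3 2 3 3 15 15 4 13 0 15 13 13 0 15) (@D3.rec (fun _ => Nat) 1 3 15 15 13 0 1 3 15 15 2 3 0 15 0 1 3 15 15 2 3 3 15 15 13 13 13 1 3 2 3 3 15 15 4 10 2 3 3 4 4 102 5 15 15 15 29 29 100 29 29) (@D3.rec (fun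 _ => Nat) 29 1 3 29 102 29 1 3 29 29 29 29 101 1 3 29 2 3 1 3 2 3 3 29 29 4 29 0 29 29 0 29 1 3 29 29 29 0 1 3 29 2 3 0 31 0 1 3 29 29 2) (@D3.rec (fun _ => Nat) 3 3 29 29 29 29 29 1 3 2 3 3 29 29 4 11 2 3 3 4 4 5 5 29 29 29 29 0 29 1 3 29 0 31 0 1 3 29 29 2 3 3 29 29 29 1 3 2 3 3 29) (@D3.rec (fun _ => Nat) 29 4 0 1 3 29 31 1 3 2 3 3 29 29 29 4 4 5 5 29 29 29 0 29 29 10 2 3 3 4 4 5 5 29 29 29 10 4 4 5 5 5 4 4 5 5 5 29 29 29 104) (@D3.rec (fun _ => Nat) 4 106 29 1 0 1 3 31 1 10 2 3 4 5 29 10 4 4 5 5 5 4 4 103 103 5 29 29 29 0 1 3 31 1 11 2 3 4 5 29 0 1 3 2 3 3 29 29 11 2 3) (@D3.rec (fun _ => Nat) 4 5 29 11 4 4 5 5 5 4 4 5 5 5 35 29 29 10 10 4 4 4 5 107 107 113 5 6 6 6 7 7 7 29 29 29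 24 24 24 12 12 12 12 11 11 96 11 96 11 97 99) (@D3.rec (fun _ => Nat) 11 13 94 93 95 101 93 95 97 95 92 94 0 1 3 12 97 2 94 1 3 2 3 98 102 96 12 12 99 12 12 95 12 1 101 12 12 103 12 12 12 97 14 12 12 98 14 1 3 14 12) (@D3.rec (fun _ => Nat) 101 14 99 14 14 12 12 98 1 3 14 14 2 3 97 2 3 101 14 14 4 99 101 13 0 13 1 3 13 0 1 103 101 13 2 3 1 97 97 103 4 13 102 15 13 100 99 15 1 3 15) (@D3.rec (fun _ => Nat) 15 13 0 1 3 15 15 2 3 100 13 0 1 3 15 15 2 101 3 15 15 13 13 1 3 2 3 3 15 15 4 11 2 3 3 4 4 5 5 15 15 96 97 105 29 29 4 0 31 0 1) (@D3.rec (fun _ => Nat) 3 29 29 2 3 1 3 2 3 3 29 29 4 12 2 97 3 4 4 5 5 29 29 29 29 0 29 1 3 29 0 31 0 1 3 29 29 2 3 3 29 29 1 3 2 3 3 29 29 4 0) (@D3.rec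 (fun _ => Nat) 1 3 29 31 1 3 2 3 3 29 29 29 4 4 5 5 29 29 0 29 11 2 3 3 4 4 5 5 29 29 29 11 4 4 5 5 5 4 4 5 5 5 29 29 29 14 14 97 16 14 0) (@D3.rec (fun _ => Nat) 14 1 3 16 14 99 14 1 3 16 16 14 101 1 101 14 14 2 3 103 14 4 13 96 13 0 15 1 3 15 0 1 3 15 15 2 3 105 13 0 1 3 15 15 2 99 3 15 15 13 13) (@D3.rec (fun _ => Nat) 1 3 2 3 3 15 15 4 11 2 3 103 4 4 5 5 15 15 15 15 99 15 0 15 1 3 17 0 1 3 15 15 2 3 101 15 0 1 3 15 15 2 3 3 17 17 1 3 2 101 3) (@D3.rec (fun _ => Nat) 15 15 4 12 2 103 3 4 103 103 105 15 94 100 1 100 14 0 1 3 16 16 2 3 1 3 2 3 3 16 16 4 0 1 101 16 14 1 3 2 3 3 16 16 16 4 4 103 5 16 16) (@D3.rec (fun _ => Nat) 0 14 11 2 3 3 4 4 5 5 16 16 16 11 4 4 5 5 5 4 4 5 5 5 16 16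 16 0 1 0 1 3 29 29 2 3 1 3 2 3 4 0 1 3 29 31 1 3 2 3 3) (@D3.rec (fun _ => Nat) 29 29 29 4 4 5 5 29 12 2 3 3 4 4 5 5 29 29 12 4 4 5 5 5 4 4 5 5 5 29 29 29 0 31 0 1 0 1 3 29 31 1 3 2 3 3 29 29 4 11 2) (@D3.rec (fun _ => Nat) 3 3 4 4 5 5 29 29 0 1 3 2 3 3 29 29 29 11 2 3 3 4 4 5 5 5 29 29 29 29 29 29 4 4 5 5 0 29 1 2 11 4 4 5 5 5 4 4 5 5 5) (@D3.rec (fun _ => Nat) 35 29 31 11 11 4 4 4 5 107 5 5 5 6 6 6 7 7 109 29 31 31 11 0 1 3 2 3 11 11 4 5 5 4 5 29 11 11 4 4 4 5 103 101 108 106 6 6 6 7 7) (@D3.rec (fun _ => Nat) 7 29 29 29 102 1 3 2 3 12 12 4 5 5 4 5 35 1 3 12 2 3 3 4 4 5 5 29 29 12 4 5 5 4 5 35 12 12 4 4 4 5 5 5 103 100 6 6 6 7 98) (@D3.rec (fun _ => Nat) 7 37 31 31 104 6 100 98 106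 29 29 29 16 99 97 99 16 16 4 101 16 16 16 4 4 99 5 16 16 0 14 97 99 4 4 95 5 16 16 16 4 4 5 5 5 4 4 5 5 5 16) (@D3.rec (fun _ => Nat) 16 16 103 99 101 4 105 101 4 4 101 5 97 17 17 97 99 99 103 4 97 103 103 17 17 17 17 17 17 4 4 5 5 0 17 1 104 4 4 99 99 5 4 4 5 5 5 17 17 17 23) (@D3.rec (fun _ => Nat) 4 4 5 107 5 107 5 6 6 6 7 7 7 17 17 17 95 105 4 4 5 5 31 31 31 4 4 5 101 5 4 4 5 5 5 35 31 31 4 4 5 99 5 4 4 4 5 5 5 5 5) (@D3.rec (fun _ => Nat) 5 35 31 31 31 31 31 0 31 31 6 6 0 7 1 2 2 23 4 4 99 97 5 105 103 6 6 6 7 102 103 37 31 31 106 6 106 31 4 5 99 103 6 6 102 103 105 37 31 31 97) (@D3.rec (fun _ => Nat) 102 31 31 31 24 13 98 100 100 100 0 99 1 3 31 29 102 31 100 29 31 100 105 101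 2 102 3 29 29 29 106 4 104 0 1 14 14 14 14 102 100 100 98 15 100 15 104 100 100 104 106)
def lv_j_7 : D2 → D3 → Nat := @D2.rec (fun _ => D3 → Nat) (@D3.rec (fun _ => Nat) 0 1 101 1 3 31 103 107 2 105 3 29 29 105 107 104 2 3 103 103 4 106 102 29 29 104 0 6 0 1 104 104 2 3 1 3 2 103 3 4 4 102 5 29 29 103 31 105 2 3 104) (@D3.rec (fun _ => Nat) 2 3 4 2 3 3 4 15 15 15 93 100 101 93 97 16 16 95 94 6 0 1 0 1 26 26 16 97 11 11 11 11 11 98 98 100 102 96 98 12 12 102 100 102 102 100 4 30 30 30 30) (@D3.rec (fun _ => Nat) 30 30 30 30 104 30 104 102 30 30 30 30 30 94 104 30 30 4 96 104 4 4 5 5 30 30 30 25 25 27 25 12 12 94 12 96 12 11 11 94 100 11 13 96 0 13 1 95 0 1 97) (@D3.rec (fun _ => Nat)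 101 100 100 102 0 1 0 1 94 94 1 94 12 0 14 12 12 0 14 1 3 14 102 1 3 14 14 2 3 12 12 12 96 14 12 12 98 12 14 12 0 12 1 98 14 14 12 12 100 1 100) (@D3.rec (fun _ => Nat) 12 12 100 102 12 4 13 0 15 1 3 15 15 13 0 1 3 15 15 2 3 1 3 2 3 3 103 15 4 13 0 15 13 13 13 0 13 1 96 96 15 13 13 0 1 104 98 13 104 0 15) (@D3.rec (fun _ => Nat) 0 1 3 13 13 2 100 3 15 15 13 13 13 1 3 2 102 3 13 13 4 11 2 96 3 4 96 102 104 100 0 32 0 1 3 30 30 2 3 3 30 30 30 1 3 2 3 3 30 30 4) (@D3.rec (fun _ => Nat) 12 2 3 3 4 4 5 5 30 30 30 30 0 30 1 3 30 30 30 30 0 32 0 1 3 30 30 2 100 3 30 30 30 30 30 1 3 2 100 3 30 30 4 0 1 3 30 32 1 3 2) (@D3.rec (fun _ => Nat) 3 3 30 30 30 4 4 5 5 30 30 30 0 30 30 11 2 3 3 4 4 5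 5 30 30 30 11 4 4 5 98 5 4 4 5 5 5 30 30 30 14 14 14 14 96 16 14 1 16 14 14) (@D3.rec (fun _ => Nat) 16 1 3 16 1 3 16 16 2 3 14 14 14 0 16 14 14 0 16 1 3 16 14 0 16 1 3 16 16 14 14 0 1 3 16 16 2 3 1 3 2 3 3 16 16 4 13 0 15 13 13) (@D3.rec (fun _ => Nat) 0 15 1 3 15 15 13 0 1 3 15 15 2 3 0 15 0 1 3 15 15 2 98 3 15 15 13 13 13 1 102 2 102 3 15 15 4 11 104 4 104 15 15 15 15 99 17 15 15 99 17) (@D3.rec (fun _ => Nat) 1 3 17 97 100 17 17 15 15 100 100 17 17 2 3 1 3 2 3 3 17 17 4 15 0 17 15 15 0 17 1 3 17 17 15 0 1 3 17 17 2 3 0 15 0 1 3 17 17 2 3) (@D3.rec (fun _ => Nat) 3 17 17 15 15 15 1 3 2 3 3 17 17 4 12 2 3 3 4 4 5 5 17 17 17 14 0 16 1 3 16 0 16 0 1 3 16 16 2 3 3 16 16 14 1 3 2 3 3 16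 16) (@D3.rec (fun _ => Nat) 4 0 1 3 16 16 1 3 2 3 3 16 16 16 4 4 5 5 16 16 16 0 14 14 11 2 3 3 4 4 5 5 16 16 16 11 4 4 104 5 5 4 100 102 5 16 16 16 30 30 30) (@D3.rec (fun _ => Nat) 101 30 30 30 2 3 104 30 30 2 3 3 30 30 30 30 30 102 2 3 4 2 104 3 4 4 104 5 30 30 0 30 1 3 30 0 1 3 30 30 2 3 3 30 30 30 1 3 2 3 4) (@D3.rec (fun _ => Nat) 0 1 3 30 32 1 3 2 3 3 30 30 30 4 4 5 5 30 30 30 0 30 30 12 2 3 3 4 4 5 5 30 30 12 4 4 5 5 5 4 4 103 5 5 30 30 30 0 32 0 1) (@D3.rec (fun _ => Nat) 3 30 30 2 3 0 1 3 30 32 1 3 2 3 3 30 30 30 4 4 5 5 30 30 11 2 3 3 4 4 5 5 30 30 0 1 3 2 3 3 30 30 30 11 2 3 3 4 4 5 5) (@D3.rec (fun _ => Nat) 5 30 30 30 30 30 30 4 4 5 5 5 0 30 30 1 2 30 11 4 4 5 5 5 4 4 5 5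 5 34 30 30 11 11 4 4 4 5 5 5 5 5 6 6 6 7 7 7 30 30 30) (@D3.rec (fun _ => Nat) 104 11 0 1 3 2 3 11 11 4 5 5 4 108 11 11 4 4 4 101 99 6 105 103 30 30 30 0 1 3 2 3 12 12 4 5 5 4 98 34 1 3 12 2 3 3 4 4 5 5 30) (@D3.rec (fun _ => Nat) 30 12 4 5 103 4 5 34 12 12 4 4 4 5 5 5 5 5 6 6 6 7 7 7 36 30 30 112 108 106 6 6 7 103 104 107 111 6 6 6 7 7 7 30 30 30 12 98 98 12 97) (@D3.rec (fun _ => Nat) 94 95 95 95 95 94 1 3 2 3 96 99 104 2 96 4 102 102 100 98 14 101 14 101 14 14 101 13 15 13 15 97 15 15 13 98 98 15 15 2 3 13 103 99 15 15 99 15 15 13 13) (@D3.rec (fun _ => Nat) 100 2 3 101 15 15 4 97 4 102 15 15 98 15 0 1 103 15 15 2 3 1 97 97 99 101 4 97 101 98 98 16 101 16 100 99 16 16 2 101 3 16 16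 1 3 2 3 3 16 4 105) (@D3.rec (fun _ => Nat) 104 16 14 1 3 2 3 3 16 16 16 4 100 103 16 16 0 14 12 2 3 3 4 4 5 5 16 16 101 104 4 4 104 98 5 4 4 5 5 106 16 16 104 97 101 30 30 30 0 1 3) (@D3.rec (fun _ => Nat) 30 32 1 3 2 3 3 30 30 4 13 2 103 3 4 4 5 5 30 30 30 4 105 99 4 4 5 5 5 30 30 30 102 32 0 1 3 30 30 2 3 98 1 3 30 32 1 3 2 3 3) (@D3.rec (fun _ => Nat) 30 30 30 4 4 5 5 30 12 2 3 3 4 4 5 5 30 30 30 100 1 3 2 3 3 30 30 30 12 2 3 3 4 4 5 5 5 30 30 30 30 30 30 4 4 5 5 0 30 1 2) (@D3.rec (fun _ => Nat) 12 4 4 5 5 5 4 4 5 5 5 34 30 30 110 12 4 4 4 5 5 5 5 5 6 6 6 7 7 7 30 30 30 14 14 95 14 99 16 97 1 97 14 14 2 3 14 99 99 14 14) (@D3.rec (fun _ => Nat) 2 99 3 16 16 103 14 14 4 14 14 97 1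 3 16 16 2 3 1 3 2 97 3 16 16 4 101 16 14 1 3 2 100 3 16 16 16 4 99 16 16 0 14 12 2 3 103 4 4 97 5) (@D3.rec (fun _ => Nat) 16 16 16 104 4 5 101 4 4 5 5 103 16 16 16 101 99 15 0 1 3 15 15 2 3 1 3 2 99 3 15 15 4 104 102 15 15 1 3 2 3 3 15 15 15 4 4 101 5 17 13)
def lv_j_8 : D2 → D3 → Nat := @D2.rec (fun _ => D3 → Nat) (@D3.rec (fun _ => Nat) 2 104 3 4 105 101 101 15 15 4 105 107 107 101 103 107 96 100 102 102 17 15 1 3 2 3 3 17 17 4 12 2 3 3 4 4 101 5 99 17 17 105 1 105 98 101 17 98 17 12 2) (@D3.rec (fun _ => Nat) 3 3 4 4 5 100 5 17 17 17 17 17 17 4 104 105 0 17 1 2 12 4 4 5 5 5 4 4 5 5 5 17 17 17 106 12 4 4 4 5 5 5 5 5 6 6 6 7 7 7 17) (@D3.rec (fun _ => Nat) 17 101 103 1 1 3 2 3 3 30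 4 13 2 3 4 103 1 3 2 3 3 30 30 13 2 3 3 4 4 5 5 5 30 30 30 30 30 4 4 5 5 13 4 4 5 5 5 4 4 5 5) (@D3.rec (fun _ => Nat) 30 30 13 13 4 4 4 5 105 5 5 5 6 6 6 7 7 7 30 30 30 107 1 3 32 1 102 1 3 2 3 3 30 12 2 3 3 4 4 5 5 30 30 30 12 4 4 5 5 5 4) (@D3.rec (fun _ => Nat) 4 5 5 34 30 1 3 12 2 3 3 4 4 5 5 5 30 30 30 30 30 30 12 4 4 5 5 5 4 4 4 5 5 5 5 5 5 34 30 30 30 30 30 0 30 30 6 6 0 7 1) (@D3.rec (fun _ => Nat) 2 2 12 12 4 4 4 5 5 5 5 5 6 6 6 7 7 7 36 32 32 12 6 6 6 6 104 101 103 105 6 6 7 104 106 32 32 32 1 3 12 2 3 4 12 4 4 5 5 6 7) (@D3.rec (fun _ => Nat) 107 100 104 6 107 109 109 107 102 6 6 6 7 7 106 30 30 30 102 2 3 4 13 4 4 5 5 6 7 2 3 3 12 4 4 5 5 5 4 4 5 5 34 30 13 4 4 5 5 6 7) (@D3.rec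 (fun _ => Nat) 13 6 6 6 102 99 100 6 6 100 98 7 32 32 32 100 100 97 17 17 17 17 17 17 17 17 4 99 0 17 1 99 99 4 95 97 5 17 17 17 4 4 4 97 99 5 5 5 6 6 6) (@D3.rec (fun _ => Nat) 95 7 7 17 17 17 99 99 99 105 4 101 5 97 99 18 95 97 103 99 99 95 97 97 105 105 105 95 18 18 18 18 95 0 18 18 6 6 0 7 1 106 4 101 99 101 101 5 6 6 6) (@D3.rec (fun _ => Nat) 99 7 7 18 18 18 6 6 6 103 101 7 107 7 102 6 6 6 7 7 7 18 18 18 101 103 4 4 5 5 5 32 32 32 4 4 5 99 5 105 105 6 6 6 7 7 7 36 32 32 4) (@D3.rec (fun _ => Nat) 4 101 99 5 101 101 5 6 6 6 6 6 6 7 7 7 7 7 7 0 7 7 34 36 32 32 32 0 32 32 32 1 2 32 0 6 1 2 2 6 106 104 97 103 103 6 104 102 32 32 32) (@D3.rec (fun _ => Nat) 6 102 99 101 99 105 107 32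 32 32 97 100 25 102 98 102 0 1 99 2 3 106 32 105 100 30 102 101 4 102 102 30 30 0 1 16 15 104 102 102 100 102 100 100 0 0 1 106 2 3 109) (@D3.rec (fun _ => Nat) 107 4 105 107 30 104 106 4 107 109 101 103 0 30 0 1 0 1 104 106 4 2 101 3 4 105 4 103 30 105 105 4 107 106 4 4 4 5 5 16 16 100 101 95 101 97 96 0 1 1 12) (@D3.rec (fun _ => Nat) 12 98 98 98 98 13 13 13 100 31 31 31 31 31 31 31 31 100 106 31 31 31 0 31 31 102 104 31 31 31 98 100 4 4 5 5 5 31 31 31 12 94 12 94 99 98 0 1 95 101 1) (@D3.rec (fun _ => Nat) 103 103 103 102 0 0 1 1 96 14 0 16 1 3 16 16 14 102 1 3 16 16 2 100 2 102 16 4 13 96 15 13 13 13 98 13 15 13 13 100 13 0 15 100 1 100 13 13 100 15 15) (@D3.rec (fun _ => Nat) 13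 13 13 102 13 13 0 15 0 1 3 17 17 2 3 3 17 17 15 1 3 2 3 3 17 17 4 97 2 103 3 4 4 103 107 101 103 103 98 0 14 1 96 94 16 96 14 0 0 1 98) (@D3.rec (fun _ => Nat) 14 14 96 96 96 14 14 14 1 104 104 100 0 1 3 14 16 1 3 2 3 3 14 14 14 4 102 102 16 16 16 0 14 14 12 2 98 3 4 102 98 100 14 102 4 96 96 102 0 1 3) (@D3.rec (fun _ => Nat) 31 33 1 3 2 3 3 31 31 31 4 4 5 5 31 31 13 2 3 3 4 4 5 5 31 31 31 97 4 4 5 105 5 4 4 108 5 5 31 31 31 0 33 0 1 3 31 31 2 100 3) (@D3.rec (fun _ => Nat) 31 31 31 31 31 0 1 3 31 33 1 3 2 3 3 31 31 31 4 98 100 31 31 31 0 31 31 12 2 100 3 4 98 100 31 31 0 1 3 2 3 3 31 31 31 12 2 3 3 4 4) (@D3.rec (fun _ => Nat) 5 5 5 31 31 31 31 31 31 4 4 5 5 5 0 31 31 1 2 31 12 4 4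 5 104 5 4 4 5 5 5 33 31 31 12 4 4 5 106 5 98 5 6 6 6 7 7 7 31 31 31) (@D3.rec (fun _ => Nat) 14 16 14 14 16 98 16 16 16 14 14 16 16 2 3 2 3 3 16 16 4 14 0 16 14 14 0 16 1 3 16 16 14 0 1 3 16 16 2 3 0 14 0 1 3 16 16 2 3 3 16) (@D3.rec (fun _ => Nat) 16 14 14 14 1 3 2 3 3 16 16 4 103 2 100 4 4 5 16 16 16 14 0 16 1 94 16 0 16 0 1 3 16 16 2 96 3 16 16 14 1 100 2 102 3 16 16 4 0 1 3) (@D3.rec (fun _ => Nat) 16 16 1 100 2 3 3 16 16 16 4 98 98 16 16 16 0 14 14 12 102 4 102 104 16 16 16 106 16 16 16 97 15 100 17 17 15 101 17 17 2 3 99 98 102 17 17 96 15 15 101) (@D3.rec (fun _ => Nat) 100 101 17 17 4 2 3 3 4 4 5 5 17 17 17 98 0 17 1 3 17 0 15 0 1 3 17 17 2 100 3 17 17 15 1 3 2 98 3 17 17 4 0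 1 3 17 15 1 3 2 3) (@D3.rec (fun _ => Nat) 3 17 17 17 4 4 98 5 17 17 17 100 15 15 13 2 3 3 4 4 100 5 17 17 17 105 4 4 105 5 5 4 4 5 5 5 17 17 17 96 0 17 0 1 3 17 17 2 3 0 1) (@D3.rec (fun _ => Nat) 3 17 17 1 3 2 3 3 17 17 17 4 4 5 5 17 17 12 2 3 3 4 4 5 5 17 17 17 0 1 3 2 3 3 17 17 17 12 2 3 3 4 4 5 5 5 17 17 17 17 17) (@D3.rec (fun _ => Nat) 17 4 4 5 5 5 0 17 17 1 2 15 12 4 4 5 5 5 4 4 104 5 5 17 17 17 12 4 4 105 104 106 5 5 6 100 102 106 17 17 102 31 31 31 101 102 31 31 31 4 104)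
def lv_j_9 : D2 → D3 → Nat := @D2.rec (fun _ => D3 → Nat) (@D3.rec (fun _ => Nat) 31 31 4 4 102 5 31 31 31 102 31 31 103 4 4 102 104 4 106 31 0 1 3 31 31 2 3 1 3 2 3 3 31 31 4 4 5 5 31 31 13 2 3 4 0 1 3 2 3 3 31) (@D3.rec (fun _ => Nat) 31 13 2 3 3 4 4 5 5 5 31 31 31 31 31 31 4 4 5 5 5 0 31 31 1 2 31 13 4 4 5 5 5 4 4 105 5 31 13 13 4 4 4 103 100 5 5 5 6 6 105) (@D3.rec (fun _ => Nat) 106 31 31 31 0 1 3 31 33 1 3 2 3 3 31 31 4 0 1 3 2 3 3 31 31 12 2 3 3 4 4 5 5 5 31 31 31 31 31 4 4 5 5 5 31 12 4 4 5 5 5) (@D3.rec (fun _ => Nat) 4 4 96 5 33 31 1 3 12 2 3 3 4 4 5 5 5 31 31 31 31 31 31 12 4 4 5 5 5 4 4 4 5 5 5 5 5 5 33 31 31 31 31 31 0 31 31 6 6 6 0) (@D3.rec (fun _ => Nat) 7 7 1 2 31 31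 2 3 12 12 4 4 4 5 5 5 5 5 6 6 6 7 7 7 35 31 31 112 106 12 6 6 6 6 6 7 7 7 106 111 109 104 6 6 6 7 7 7 31 31 31) (@D3.rec (fun _ => Nat) 1 3 12 2 3 4 12 4 4 103 106 103 103 1 3 106 2 3 4 13 4 4 98 5 98 108 2 3 3 12 4 4 5 105 5 4 4 5 5 33 31 13 4 5 103 6 98 13 103 104 6) (@D3.rec (fun _ => Nat) 6 6 6 6 7 103 102 7 101 7 105 6 6 6 7 7 7 31 31 31 6 102 106 105 107 8 8 8 9 9 102 99 96 101 97 2 98 4 102 99 102 14 14 14 101 16 16 16 16 99 16) (@D3.rec (fun _ => Nat) 16 100 104 100 16 4 16 14 99 99 101 16 16 16 16 16 0 14 100 4 5 104 16 16 16 16 100 100 15 15 1 103 100 103 101 15 4 97 101 101 102 101 17 17 101 101 99 101 17 17 4) (@D3.rec (fun _ => Nat) 101 103 17 13 2 3 3 4 4 5 101 105 101 104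 99 17 13 2 3 3 4 4 5 99 5 17 17 17 17 17 17 104 102 0 17 1 2 102 4 4 5 98 5 4 4 5 5 104 17 102 104) (@D3.rec (fun _ => Nat) 4 104 106 98 6 6 7 7 106 17 102 102 105 99 101 31 31 31 97 1 3 2 3 3 31 14 2 3 3 4 4 5 5 31 31 31 4 103 105 4 4 5 5 5 31 31 31 105 107 99 6) (@D3.rec (fun _ => Nat) 6 6 7 7 7 31 31 31 102 108 33 1 3 2 3 3 31 4 98 2 3 3 31 31 13 2 3 3 4 4 5 5 5 33 31 31 31 31 4 4 5 5 13 4 4 5 5 5 4 4 5) (@D3.rec (fun _ => Nat) 5 5 33 31 31 105 13 2 3 3 4 4 5 108 5 31 31 31 31 31 31 13 4 4 5 5 5 4 4 4 5 5 5 5 5 5 33 31 31 31 31 31 0 31 31 6 6 0 7 1 2) (@D3.rec (fun _ => Nat) 2 102 13 4 4 4 5 5 5 5 5 6 6 6 7 7 7 35 31 31 106 6 6 6 6 6 106 101 7 101 7 7 7 6 6 6 7 7 101 31 31 31 16 95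 16 16 101 101 16 16 4) (@D3.rec (fun _ => Nat) 16 16 99 101 16 16 16 4 103 18 16 16 17 15 101 2 98 3 17 17 4 13 2 99 101 4 99 17 17 17 17 13 2 99 101 4 97 100 17 17 17 17 17 17 0 17 1 96 102 4 97) (@D3.rec (fun _ => Nat) 103 101 4 95 97 99 17 17 17 4 105 102 6 6 97 7 108 17 17 101 101 102 17 17 1 3 2 3 3 17 17 4 14 2 104 3 4 101 101 17 17 17 102 98 102 17 96 17 14 2 3) (@D3.rec (fun _ => Nat) 3 4 4 105 96 5 103 17 17 17 17 4 103 103 4 104 106 106 105 111 101 103 17 107 107 103 101 101 100 102 102 98 102 18 18 13 2 3 3 4 4 103 5 99 18 18 13 4 4 103 101) (@D3.rec (fun _ => Nat) 5 4 103 5 97 99 18 13 105 105 99 100 18 99 18 98 100 18 13 4 4 5 5 5 4 4 5 99 5 102 102 5 18 18 18 18 18 18 0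 18 18 0 106 1 2 2 104 13 4 4 4) (@D3.rec (fun _ => Nat) 5 99 5 5 5 6 6 6 101 7 7 18 18 18 106 6 6 6 6 6 7 7 7 108 7 7 100 6 6 6 7 7 106 18 100 102 14 2 3 3 4 4 5 31 14 4 107 14 2 3 3) (@D3.rec (fun _ => Nat) 4 4 5 5 31 31 14 4 4 5 5 5 4 4 4 5 5 5 5 5 5 31 31 31 31 31 6 6 7 14 14 4 4 4 5 5 5 5 6 6 7 7 31 14 6 6 6 6 111 105 7) (@D3.rec (fun _ => Nat) 107 109 100 6 6 6 7 7 108 31 31 31 101 2 3 13 104 13 2 3 3 4 4 5 31 13 4 4 5 5 5 4 4 5 5 5 33 31 31 13 13 4 4 4 5 5 5 5 6 6 7) (@D3.rec (fun _ => Nat) 7 35 13 2 109 3 13 4 4 5 5 5 4 4 4 5 5 5 105 5 5 33 31 31 31 31 31 0 31 31 13 13 4 4 4 5 5 5 5 5 5 6 6 6 6 6 6 7 7 7 7) (@D3.rec (fun _ => Nat) 7 7 0 7 7 33 35 31 31 31 0 31 31 31 1 2 31 0 6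 1 2 2 13 13 6 6 6 6 6 104 99 7 7 7 7 104 6 6 6 7 104 7 33 33 33 104 8 106 100 13 2) (@D3.rec (fun _ => Nat) 100 3 13 4 103 110 6 6 6 100 8 8 9 100 107 108 4 14 6 6 100 99 99 6 4 4 5 5 5 106 13 4 4 4 5 5 5 5 6 6 7 7 35 14 6 6 100 100 99 6 97) (@D3.rec (fun _ => Nat) 98 8 100 96 9 101 18 18 18 18 18 18 18 1 99 101 6 95 97 18 18 18 6 6 6 97 101 7 103 6 6 97 7 7 18 18 18 99 101 103 6 103 97 99 19 97 101 99 97 103 101) (@D3.rec (fun _ => Nat) 97 95 99 97 105 105 105 99 95 97 19 95 101 19 97 99 1 103 105 6 1 106 6 99 101 97 99 103 103 6 6 101 7 105 19 19 19 6 6 105 103 101 7 109 7 8 8 8 9 9 9) (@D3.rec (fun _ => Nat) 19 19 19 104 103 103 105 6 6 6 7 7 7 33 33 33 6 6 104 99 7 99 105 105 6 6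 6 102 103 7 33 33 33 6 6 106 99 103 97 99 99 7 101 101 103 6 6 6 6 6 6) (@D3.rec (fun _ => Nat) 6 6 7 106 7 7 105 0 7 7 104 1 2 7 33 35 33 0 33 33 33 1 2 33 33 33 2 104 1 2 2 95 97 100 97 105 102 99 100 1 101 4 108 105 107 110 1 102 1 1 106)
def lv_j_10 : D2 → D3 → Nat := @D2.rec (fun _ => D3 → Nat) (@D3.rec (fun _ => Nat) 4 109 111 105 109 106 106 109 0 105 1 2 1 1 104 104 4 103 108 109 4 4 114 5 5 99 95 1 13 13 13 104 100 100 98 98 100 0 14 14 32 32 32 32 0 32 32 32 100 100 102) (@D3.rec (fun _ => Nat) 0 32 32 1 2 32 32 102 102 104 32 32 104 98 102 6 6 6 7 7 7 32 32 32 100 99 98 1 98 101 99 1 1 98 14 98 1 3 16 16 2 3 98 16 16 14 2 100 16 16 96) (@D3.rec (fun _ => Nat) 14 16 14 14 14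 14 14 14 1 3 14 16 100 100 14 14 14 16 16 16 0 14 14 14 0 1 100 17 15 1 3 2 3 3 17 17 17 4 4 5 5 17 17 97 2 103 3 4 4 101 103) (@D3.rec (fun _ => Nat) 101 17 103 4 105 103 105 101 103 99 0 0 1 96 15 15 96 96 96 98 15 100 1 1 100 98 98 98 15 98 98 98 0 15 15 13 106 99 1 3 2 3 3 15 15 13 2 3 3 4 4) (@D3.rec (fun _ => Nat) 99 102 5 100 99 15 15 15 15 102 102 104 0 17 17 1 2 15 4 104 98 104 102 100 0 1 3 2 3 3 32 32 32 14 2 3 3 4 4 5 5 5 32 32 32 32 32 4 4 5 5) (@D3.rec (fun _ => Nat) 5 32 99 4 4 5 103 5 4 4 107 5 5 32 32 32 99 4 4 106 106 5 111 5 6 6 110 7 32 32 32 0 1 3 32 34 1 3 2 3 3 32 32 32 4 100 102 32 32 32 32) (@D3.rec (fun _ => Nat) 100 1 3 2 3 3 32 32 32 13 2 3 3 4 4 98 98 5 32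 32 32 32 100 100 104 0 32 32 1 2 32 13 4 100 102 100 102 32 1 3 13 2 3 3 4 4 5 5 5 32 32) (@D3.rec (fun _ => Nat) 32 32 32 32 13 4 4 5 5 5 4 4 4 5 98 5 5 5 5 32 32 32 32 32 32 0 32 32 6 6 6 0 7 7 1 2 32 32 2 3 13 4 4 5 102 5 104 5 6 6 6) (@D3.rec (fun _ => Nat) 7 7 7 34 32 32 6 6 6 7 104 7 106 7 100 6 6 6 7 7 7 32 32 32 16 18 18 16 18 18 98 18 18 16 16 18 18 4 4 4 5 18 18 18 0 18 1 3 18 0 16) (@D3.rec (fun _ => Nat) 0 1 3 18 18 2 3 18 18 16 1 3 2 3 18 18 4 1 98 18 16 1 3 2 3 3 18 18 18 4 4 5 18 18 18 16 16 101 2 98 4 4 5 18 18 18 4 100 18 18 18) (@D3.rec (fun _ => Nat) 17 1 98 17 17 96 1 3 17 17 1 100 2 3 3 17 17 17 4 98 98 17 17 13 102 4 100 102 17 17 17 1 3 2 3 3 17 17 17 13 102 102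 4 4 102 100 5 17 17 17 17) (@D3.rec (fun _ => Nat) 17 17 100 100 0 17 17 1 100 15 102 100 17 17 17 17 17 100 99 101 19 17 99 101 19 4 97 100 96 19 19 96 17 100 102 99 100 97 19 19 4 4 103 104 5 4 4 99 5 5 97) (@D3.rec (fun _ => Nat) 19 19 100 102 0 1 3 19 19 2 3 0 1 3 19 17 1 3 2 3 3 19 19 19 4 99 100 19 19 14 2 98 3 4 99 98 97 19 19 105 1 3 2 3 3 19 19 19 14 2 3) (@D3.rec (fun _ => Nat) 3 4 4 100 100 5 19 97 19 19 19 19 4 100 100 5 100 19 19 100 17 103 4 4 100 5 5 4 99 100 5 99 19 19 105 4 4 105 104 107 5 5 6 6 6 101 7 107 19 19 109) (@D3.rec (fun _ => Nat) 100 100 1 3 18 18 1 3 2 3 3 18 18 4 0 1 3 2 3 3 18 18 18 13 2 3 3 4 4 5 5 5 18 18 18 18 18 4 4 5 5 5 18 13 4 4 5 5 5 4 4) (@D3.rec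 (fun _ => Nat) 5 5 5 99 18 18 1 3 13 2 3 3 4 4 5 5 5 18 18 18 18 18 18 13 4 4 5 5 5 4 4 4 106 5 5 5 5 5 18 18 18 18 18 18 0 18 18 6 6 6 0) (@D3.rec (fun _ => Nat) 7 7 1 2 18 18 2 106 13 4 4 4 103 5 5 5 5 6 6 100 106 7 18 18 18 6 6 103 105 105 108 108 7 100 110 18 100 32 32 105 101 32 32 32 4 99 102 5 104 32 32) (@D3.rec (fun _ => Nat) 104 32 32 105 1 3 2 3 3 32 32 4 14 2 3 3 4 4 5 5 32 32 4 4 101 5 5 32 14 4 1 3 14 2 3 3 4 4 5 5 32 32 14 4 4 5 5 5 4 4 4) (@D3.rec (fun _ => Nat) 110 108 5 5 5 5 32 32 32 0 32 32 6 6 6 0 7 7 1 2 32 32 2 3 14 14 4 4 4 103 100 5 5 6 107 14 6 6 6 109 105 103 102 1 3 2 3 3 32 13 2) (@D3.rec (fun _ => Nat) 3 3 4 4 5 5 32 32 1 3 13 2 3 3 4 4 5 5 32 32 13 4 4 5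 5 5 4 4 4 96 5 5 5 5 5 32 32 32 32 6 6 6 7 7 32 13 13 4 4 4 98) (@D3.rec (fun _ => Nat) 5 5 5 6 98 100 34 13 2 3 3 13 4 4 5 5 5 4 4 4 5 5 5 5 5 5 32 32 32 32 0 32 32 13 13 4 4 4 5 5 5 5 5 5 6 6 6 6 6 6 7) (@D3.rec (fun _ => Nat) 7 7 7 7 7 0 7 7 34 32 32 32 0 32 32 32 1 2 32 32 0 6 6 1 2 7 7 2 3 32 32 3 13 107 13 6 6 6 6 6 7 7 7 7 7 7 7 6 6 6 7) (@D3.rec (fun _ => Nat) 7 7 32 32 32 104 103 110 110 6 6 6 107 7 108 103 106 106 109 109 8 8 8 9 9 104 13 2 104 3 13 4 2 100 3 4 14 103 6 100 100 101 112 4 4 5 105 5 13 4 4) (@D3.rec (fun _ => Nat) 5 103 5 103 6 6 100 7 34 14 6 100 101 101 102 103 102 6 6 6 102 106 7 101 103 7 105 8 8 8 9 9 9 108 106 8 8 103 16 16 16 17 17 17 17 17 100 104 17 99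 101) (@D3.rec (fun _ => Nat) 100 101 17 17 17 17 17 17 17 1 94 4 102 17 17 101 98 100 99 17 103 105 100 101 17 97 103 97 103 18 105 102 97 99 18 18 103 103 106 4 4 5 4 102 102 105 101 100 101 18 102) (@D3.rec (fun _ => Nat) 4 4 5 5 5 4 4 5 100 5 105 99 5 18 18 18 18 18 0 18 18 106 106 1 2 2 104 4 4 102 100 5 100 6 6 7 102 102 105 102 104 6 6 7 104 100 100 106 107 105 107) (@D3.rec (fun _ => Nat) 32 32 32 99 2 3 3 4 4 5 32 4 4 103 5 5 4 4 5 5 5 32 32 32 103 103 105 6 6 6 7 7 7 32 32 32 107 105 107 6 6 6 7 7 108 32 32 32 108 110 2)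
def lv_j_11 : D2 → D3 → Nat := @D2.rec (fun _ => D3 → Nat) (@D3.rec (fun _ => Nat) 3 3 4 4 5 32 102 108 4 4 5 5 32 32 14 4 4 5 5 5 4 4 4 5 5 5 5 5 5 32 32 32 32 6 6 7 102 14 4 4 4 5 5 5 5 5 6 6 6 7 7) (@D3.rec (fun _ => Nat) 7 34 32 32 106 109 14 4 4 5 5 5 4 4 5 113 5 108 108 5 32 32 32 32 0 32 32 14 14 4 4 4 5 5 5 5 5 5 6 6 6 6 6 6 7 7 7 7 7 7 0) (@D3.rec (fun _ => Nat) 7 7 32 34 32 32 32 0 32 32 32 1 2 32 6 1 2 2 102 104 6 6 6 6 6 111 103 7 7 7 7 7 6 6 6 7 7 7 32 32 32 108 6 6 6 6 104 101 7 101 7) (@D3.rec (fun _ => Nat) 101 8 8 9 104 16 16 97 99 16 16 16 16 16 16 16 101 16 16 16 16 16 18 18 99 101 4 100 18 18 102 99 99 18 18 18 18 102 99 101 101 97 99 101 18 18 18 18 18 18 100) (@D3.rec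 (fun _ => Nat) 18 18 1 96 99 105 101 97 99 18 18 18 103 6 97 99 18 102 100 102 17 2 3 3 4 4 99 5 17 17 4 102 104 102 101 101 101 17 17 106 104 98 98 103 17 98 17 4 4 104 5) (@D3.rec (fun _ => Nat) 5 4 107 107 106 101 5 101 105 103 17 17 17 103 104 104 106 110 107 101 103 17 109 99 99 101 102 104 101 98 105 19 19 14 4 4 103 5 5 4 103 5 99 101 19 104 14 4 103 101 5) (@D3.rec (fun _ => Nat) 6 105 99 101 19 103 106 106 99 101 105 99 19 97 101 19 102 102 14 14 4 4 4 5 5 5 103 5 5 6 6 6 101 97 7 101 99 7 0 103 107 99 19 99 19 19 99 19 19 19 1) (@D3.rec (fun _ => Nat) 2 19 1 2 2 107 106 6 6 6 6 101 101 7 99 101 7 105 6 6 101 7 7 19 19 19 108 6 6 6 6 6 103 7 101 7 7 108 110 8 8 9 109 103 100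 100 102 102 15 4 4) (@D3.rec (fun _ => Nat) 5 5 4 5 15 102 107 15 4 4 5 5 4 4 101 5 5 32 15 15 4 4 4 5 5 5 5 5 5 6 6 6 6 6 6 7 7 7 7 7 7 7 32 32 32 71 6 15 15 6 6) (@D3.rec (fun _ => Nat) 6 6 104 107 7 7 7 6 6 7 6 109 109 102 8 8 9 102 107 4 103 108 4 4 5 5 4 5 14 14 4 4 4 5 5 5 5 5 6 6 6 7 7 7 34 32 14 14 6 6 6) (@D3.rec (fun _ => Nat) 6 102 101 7 99 7 6 6 7 4 110 105 109 14 14 4 4 4 5 5 5 105 5 5 6 6 6 6 6 7 7 7 105 7 7 0 107 7 34 32 32 0 32 32 1 2 32 14 14 14 6) (@D3.rec (fun _ => Nat) 6 6 6 6 6 104 7 7 7 7 7 7 0 7 7 6 6 6 6 6 6 0 6 6 7 7 7 7 7 0 7 7 7 1 2 7 34 32 0 32 32 32 1 2 32 32 32 2 3 1 2) (@D3.rec (fun _ => Nat) 2 14 6 6 6 6 102 99 97 7 7 8 8 104 98 9 14 4 100 14 8 106 109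 99 4 4 4 5 5 5 5 5 106 104 6 6 6 6 102 104 7 7 7 6 6 7 99 101 100 8 9) (@D3.rec (fun _ => Nat) 19 19 19 101 97 19 19 19 6 99 101 7 103 8 8 101 9 105 19 19 19 97 101 105 99 103 20 99 97 101 105 107 107 99 99 99 102 102 99 101 101 101 97 99 101 103 97 99 103 8 103) (@D3.rec (fun _ => Nat) 108 107 20 20 20 20 8 8 105 105 103 9 108 8 8 8 9 9 9 9 104 104 102 102 87 106 103 103 6 6 6 7 7 7 34 34 34 6 104 99 101 103 97 99 105 8 105 9 6 101 101) (@D3.rec (fun _ => Nat) 101 103 99 97 99 101 101 101 104 103 103 103 8 8 8 8 8 8 9 106 104 105 9 105 1 2 9 9 102 2 104 113 34 34 1 2 34 34 2 104 34 34 2 97 99 102 101 108 106 112 111) (@D3.rec (fun _ => Nat) 112 109 109 1 2 2 102 103 109 111 6 6 111 7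 96 14 14 100 104 102 102 100 100 1 2 15 15 33 33 1 2 33 33 0 102 102 1 2 33 2 3 33 33 104 104 33 108 106 108 6 6) (@D3.rec (fun _ => Nat) 6 7 7 7 33 33 33 18 16 2 96 98 18 18 18 4 96 96 18 18 18 15 15 15 15 98 15 15 2 100 100 15 15 102 15 15 15 15 100 17 17 1 98 15 1 102 100 102 99 19 19) (@D3.rec (fun _ => Nat) 101 2 3 3 4 4 101 5 5 101 19 19 19 19 4 4 5 5 104 19 4 101 103 101 103 99 101 101 101 105 101 99 1 1 98 98 98 96 16 96 96 100 100 104 100 98 98 16 100 98 98) (@D3.rec (fun _ => Nat) 1 2 16 2 3 3 4 4 102 5 100 16 16 4 4 103 5 5 4 101 104 104 5 100 100 99 16 0 16 16 0 104 104 1 2 18 18 2 107 104 1 3 99 2 3 3 4 4 5 5 5) (@D3.rec (fun _ => Nat) 33 33 33 99 4 4 5 5 5 4 4 4 111 5 5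 5 5 5 33 33 33 33 6 6 6 7 7 33 99 4 4 107 101 5 103 5 6 6 110 7 33 33 33 6 6 106 108 108 7 107 6) (@D3.rec (fun _ => Nat) 110 7 33 33 33 1 3 2 3 3 33 102 2 3 3 4 4 5 98 5 33 33 33 100 100 104 33 33 100 2 3 3 4 4 96 96 5 33 33 33 14 4 4 98 5 5 4 98 98 98 5) (@D3.rec (fun _ => Nat) 33 0 33 33 0 100 102 1 2 33 33 2 3 14 100 104 102 33 2 3 3 14 4 4 5 5 5 4 4 4 5 96 5 5 5 5 33 33 33 0 33 33 14 14 4 4 4 5 5 5 5) (@D3.rec (fun _ => Nat) 5 5 6 6 6 6 6 7 98 7 100 100 7 0 7 7 33 33 33 0 33 33 33 1 2 33 33 0 6 6 1 2 7 7 2 3 33 33 3 6 6 6 7 104 7 104 104 7 106 6 6) (@D3.rec (fun _ => Nat) 6 7 7 7 33 33 33 6 6 6 106 7 106 7 108 7 8 8 8 9 9 9 18 16 18 18 18 16 18 18 4 102 18 18 1 3 18 18 2 100 1 98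 18 16 1 3 2 96 3 18 18) (@D3.rec (fun _ => Nat) 18 4 18 18 99 2 98 4 18 18 98 103 18 18 18 2 98 100 4 4 5 18 18 18 18 18 4 102 18 18 16 4 100 18 18 18 18 18 18 100 100 18 18 2 3 3 18 18 18 99 100) (@D3.rec (fun _ => Nat) 100 4 4 102 98 5 18 18 18 18 18 98 98 98 18 102 102 98 18 18 2 102 101 4 4 104 104 5 18 18 18 18 18 18 106 102 4 106 104 100 5 18 18 18 18 18 18 98 18 18 100)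
def lv_j_12 : D2 → D3 → Nat := @D2.rec (fun _ => D3 → Nat) (@D3.rec (fun _ => Nat) 1 98 18 18 102 18 18 18 18 102 101 19 99 19 99 99 100 98 19 102 17 102 101 102 99 19 4 103 102 102 6 6 101 104 97 19 104 104 100 1 3 2 3 3 19 4 1 3 2 3 3) (@D3.rec (fun _ => Nat) 19 19 19 99 2 3 3 4 4 99 101 5 97 19 19 19 101 101 102 19 101 4 99 100 99 100 97 19 103 2 3 3 4 4 102 100 5 19 101 19 19 19 19 101 4 4 102 5 5 4 101) (@D3.rec (fun _ => Nat) 102 100 100 5 101 99 19 97 97 19 102 19 19 6 102 100 101 102 19 19 102 105 4 4 108 102 102 5 5 6 101 102 101 19 19 6 6 103 107 105 108 107 104 6 103 110 19 98 102 2 98) (@D3.rec (fun _ => Nat) 3 19 2 3 3 4 4 99 5 19 19 19 1 3 2 3 3 4 4 5 104 5 19 19 19 19 19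 14 4 4 5 5 5 4 4 4 104 108 5 5 5 5 99 103 19 19 19 19 6 6 6) (@D3.rec (fun _ => Nat) 7 7 19 14 4 4 4 5 5 5 5 6 6 6 103 7 7 99 19 19 2 3 3 105 4 4 5 5 5 4 4 4 99 102 5 5 5 5 19 19 19 100 19 19 14 14 4 4 4 105 5) (@D3.rec (fun _ => Nat) 5 5 5 5 6 6 6 6 6 103 108 106 7 7 7 0 7 7 19 19 19 99 19 19 19 1 2 19 19 6 6 1 2 7 7 2 106 19 19 6 6 6 6 103 105 105 7 7 7 7 6) (@D3.rec (fun _ => Nat) 102 106 7 19 19 19 6 105 105 107 111 108 109 102 103 104 6 104 101 102 106 33 106 33 2 3 3 4 4 5 5 33 33 15 4 4 5 5 4 4 107 5 5 33 6 6 103 7 33 15 2) (@D3.rec (fun _ => Nat) 3 3 15 4 4 5 5 4 4 5 5 5 33 15 15 4 4 4 102 5 5 5 5 5 6 6 6 6 110 103 107 7 0 7 7 33 33 1 2 33 33 104 6 6 1 2 7 7 2 3 33) (@D3.rec (fun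 _ => Nat) 33 3 15 15 6 6 109 102 108 2 3 3 4 4 5 33 70 4 4 5 5 5 4 4 5 5 33 2 3 3 106 4 4 5 5 4 4 5 5 5 33 14 14 4 4 4 96 5 5 5 5) (@D3.rec (fun _ => Nat) 5 6 6 6 6 6 96 7 7 7 7 7 33 33 33 70 6 6 7 7 33 14 107 14 6 6 6 98 98 100 7 7 100 103 4 4 5 5 5 14 14 4 4 4 5 5 5 5 5 5 6) (@D3.rec (fun _ => Nat) 6 6 6 6 6 7 7 7 7 0 7 7 33 0 33 33 1 2 33 33 14 14 14 6 6 6 6 6 6 7 7 7 7 7 7 7 0 7 7 6 6 6 6 6 6 0 6 6 7 7 7) (@D3.rec (fun _ => Nat) 7 0 7 7 7 1 2 7 7 33 0 33 33 33 1 2 33 33 33 2 3 33 33 1 2 8 8 2 3 9 9 3 4 33 33 104 105 14 105 104 6 6 6 6 6 6 6 105 7 7 103) (@D3.rec (fun _ => Nat) 104 7 7 103 7 107 8 8 8 9 9 9 8 105 106 110 106 8 8 14 4 106 14 4 104 102 101 100 105 108 4 4 5 110 5 105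 5 6 6 100 103 7 105 103 6 100 101 8 8 106 102) (@D3.rec (fun _ => Nat) 9 99 105 9 106 8 8 8 107 16 16 18 18 18 18 105 100 103 18 18 18 18 18 18 18 105 102 100 101 17 103 104 105 103 97 106 103 99 19 104 104 103 99 104 19 103 106 4 102 103 106) (@D3.rec (fun _ => Nat) 104 100 100 102 102 4 4 4 105 5 5 106 5 5 6 6 6 98 7 104 100 7 104 106 106 19 19 102 19 19 107 1 2 19 106 2 6 102 100 100 6 104 102 102 8 102 109 107 109 33 33) (@D3.rec (fun _ => Nat) 33 101 104 4 4 5 5 4 5 4 4 105 103 105 5 5 6 6 6 7 7 7 33 33 33 107 105 105 6 6 6 7 7 7 33 33 33 107 107 109 8 8 9 104 108 4 4 5 5 4 5) (@D3.rec (fun _ => Nat) 107 100 102 4 4 5 5 33 15 15 4 4 4 5 5 5 5 5 5 6 6 6 6 6 6 7 7 7 7 7 7 33 33 33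 6 100 102 6 6 6 6 6 109 108 7 7 7 7 7 6 6) (@D3.rec (fun _ => Nat) 6 7 7 7 33 33 33 106 104 106 15 15 4 4 4 5 5 5 106 5 5 6 6 6 105 7 111 110 7 110 110 108 33 33 33 33 1 2 33 100 15 15 6 6 6 6 6 6 109 7 7) (@D3.rec (fun _ => Nat) 7 7 7 7 0 7 7 6 6 6 6 6 6 6 6 7 7 7 7 7 0 7 7 7 1 2 7 33 35 0 33 33 33 1 2 33 33 33 2 3 2 102 106 6 6 6 6 6 105 107 103) (@D3.rec (fun _ => Nat) 7 7 7 7 7 8 8 8 9 9 9 8 8 104 101 104 8 18 97 18 18 18 18 18 18 99 18 18 18 18 19 19 104 98 19 101 19 19 19 99 101 101 97 99 19 19 19 19 19 19 100) (@D3.rec (fun _ => Nat) 19 99 101 97 99 19 19 19 99 105 104 97 19 4 4 104 5 5 4 101 5 19 99 104 104 108 108 103 19 19 106 107 108 100 104 105 19 96 4 4 106 106 106 5 5 6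 105 98 107 107 106) (@D3.rec (fun _ => Nat) 103 103 105 19 19 108 106 106 110 105 103 109 19 103 104 104 103 105 105 20 15 15 4 4 103 105 5 5 6 105 99 103 20 104 6 105 103 105 99 101 20 105 105 105 107 107 99 105 99 20 107) (@D3.rec (fun _ => Nat) 20 105 15 15 6 6 6 6 6 103 7 7 99 101 7 7 0 104 7 6 6 103 99 99 7 106 105 105 7 1 2 107 101 20 99 20 20 101 20 20 20 2 103 2 107 109 6 6 103 99 101) (@D3.rec (fun _ => Nat) 7 97 99 103 7 8 8 107 9 111 20 100 20 20 8 8 8 105 9 101 105 8 106 104 104 16 16 4 4 5 5 6 104 104 16 16 4 4 103 5 5 6 6 103 7 16 16 16 6 6 6) (@D3.rec (fun _ => Nat) 6 6 6 7 7 7 7 7 7 7 7 6 6 6 6 6 71 6 6 7 7 7 7 7 7 33 33 71 16 6 6 6 108 109 107 7 8 105 8 108 101 103 4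 4 5 5 6 15 15 15 6) (@D3.rec (fun _ => Nat) 6 6 6 6 104 7 7 101 7 7 7 6 6 6 7 7 35 15 6 6 102 99 103 97 101 8 112 110 112 107 107 15 15 15 6 6 6 6 6 102 7 7 7 105 7 7 0 105 7 6 6) (@D3.rec (fun _ => Nat) 6 6 6 6 7 105 7 7 0 107 7 1 2 106 33 33 1 2 33 33 2 3 15 15 15 15 15 6 6 6 6 6 6 0 6 6 103 104 99 7 7 7 99 97 7 0 7 7 7 1 2)
def lv_j_13 : D2 → D3 → Nat := @D2.rec (fun _ => D3 → Nat) (@D3.rec (fun _ => Nat) 7 7 8 8 8 8 8 8 8 8 1 2 8 9 9 9 112 9 9 98 1 2 9 9 9 2 3 35 1 2 33 33 2 3 33 33 3 2 8 8 97 103 100 8 9 102 106 109 103 6 6) (@D3.rec (fun _ => Nat) 6 6 6 106 7 7 7 7 7 7 104 6 6 6 102 106 106 99 7 8 99 98 10 20 103 20 20 20 20 8 105 8 103 103 103 105 103 105 99 101 103 99 99 103 97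 101 103 103 105 108 103) (@D3.rec (fun _ => Nat) 108 8 107 107 105 108 10 10 10 10 106 104 105 105 8 8 8 106 105 9 99 97 99 107 8 9 107 101 101 103 99 97 99 97 101 101 103 103 106 106 105 105 8 8 8 8 106 106 113 107 104) (@D3.rec (fun _ => Nat) 2 106 9 104 104 112 35 2 106 35 35 104 97 108 113 109 108 109 2 105 109 6 111 115 98 15 15 100 102 2 106 104 34 2 3 34 1 2 102 2 3 3 106 34 34 104 108 106 8 8 8) (@D3.rec (fun _ => Nat) 9 9 34 18 18 98 98 18 18 18 18 98 18 16 16 98 16 100 16 16 102 16 100 16 16 100 18 18 106 106 100 100 103 99 19 19 4 4 103 5 5 4 4 103 101 103 5 5 5 101 105) (@D3.rec (fun _ => Nat) 103 19 19 19 6 6 7 106 19 103 103 103 101 99 103 97 100 104 98 98 17 98 102 106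 106 102 100 100 100 104 2 104 4 4 5 5 4 102 102 5 102 100 17 4 4 104 104 104 5 5 6) (@D3.rec (fun _ => Nat) 106 0 104 106 100 102 107 109 1 2 17 17 1 2 106 106 2 109 19 19 2 3 3 99 4 4 5 5 5 4 4 4 5 5 5 5 34 34 101 101 4 4 4 109 5 5 5 5 5 6 6) (@D3.rec (fun _ => Nat) 6 6 6 112 7 7 7 7 7 34 34 34 34 71 6 6 7 7 34 6 6 105 105 101 103 7 107 6 108 7 34 34 34 6 108 110 110 103 8 106 103 2 3 3 4 4 5 34 103 4 4) (@D3.rec (fun _ => Nat) 5 5 5 4 4 5 100 100 5 34 34 102 102 34 102 102 4 4 98 5 5 4 98 98 98 5 34 34 15 15 4 4 100 100 100 5 5 6 100 0 100 102 34 1 2 34 34 1 2 104 104) (@D3.rec (fun _ => Nat) 2 3 34 3 102 102 4 4 5 5 5 15 15 4 4 4 5 5 5 5 5 5 6 6 6 6 6 7 98 98 7 0 7 7 34 34 34 1 2 34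 34 15 15 6 6 6 6 6 6 7 7) (@D3.rec (fun _ => Nat) 7 102 100 7 7 0 7 7 6 6 6 0 6 6 7 100 100 7 0 100 100 7 1 2 7 7 34 34 34 1 2 34 34 2 3 34 34 1 2 8 8 2 3 9 9 3 4 34 34 6 6) (@D3.rec (fun _ => Nat) 6 108 7 104 104 7 108 104 104 7 8 8 8 9 9 9 34 34 8 8 8 108 9 106 9 8 8 8 20 20 20 18 20 20 2 100 100 20 98 100 20 20 20 2 98 98 4 98 20 20 20) (@D3.rec (fun _ => Nat) 20 20 100 20 20 20 20 20 100 4 5 20 20 20 20 20 20 20 20 20 19 100 19 19 19 4 4 102 5 19 19 19 19 19 102 4 102 100 100 5 19 19 19 19 100 100 19 102 102 19 19) (@D3.rec (fun _ => Nat) 104 4 104 106 5 19 19 19 19 19 108 104 6 104 106 104 19 19 19 19 19 19 100 19 19 102 19 19 108 19 19 19 101 101 99 99 98 105 103 105 104 2 3 3 4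 4 5 21 2 3 3) (@D3.rec (fun _ => Nat) 4 4 101 101 5 21 21 21 101 4 4 101 5 5 4 101 101 101 5 99 21 21 101 101 21 103 101 100 100 21 106 106 4 4 102 5 5 4 103 102 102 102 5 21 99 21 98 21 21 106 103) (@D3.rec (fun _ => Nat) 4 4 104 102 102 102 5 5 6 103 103 102 102 102 101 101 21 99 99 101 21 102 21 21 102 101 101 106 21 21 6 6 106 106 102 102 102 105 102 21 21 105 107 108 107 104 102 4 100 20 4) (@D3.rec (fun _ => Nat) 4 103 5 5 4 103 99 5 20 20 2 3 3 4 4 5 5 5 4 4 107 105 5 102 104 5 20 20 20 20 15 15 4 4 4 105 5 5 5 5 5 6 6 6 6 101 106 106 104 7 7) (@D3.rec (fun _ => Nat) 7 101 103 20 20 20 20 98 6 6 7 106 20 6 6 6 6 7 7 7 6 6 107 107 104 101 20 20 4 4 5 5 5 104 107 4 4 4 105 5 5 5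 5 5 6 6 6 6 99 104 106) (@D3.rec (fun _ => Nat) 7 102 7 7 20 20 20 102 20 20 15 15 6 6 6 6 6 103 105 105 7 7 7 7 0 7 7 6 6 6 6 6 100 104 102 106 101 7 7 7 1 2 7 7 20 20 20 101 20 20 20) (@D3.rec (fun _ => Nat) 2 3 20 20 8 8 2 104 9 111 110 20 20 6 6 6 6 103 103 107 105 107 7 7 7 7 109 8 107 105 110 105 105 109 104 101 106 106 4 4 107 5 5 4 4 5 5 34 16 16 4) (@D3.rec (fun _ => Nat) 4 107 5 5 6 6 107 7 34 6 103 7 4 4 108 5 5 16 16 4 4 5 5 5 6 6 6 7 7 34 16 16 16 6 6 6 6 6 102 104 102 103 7 7 0 7 7 6 6 6 110) (@D3.rec (fun _ => Nat) 103 107 1 2 7 7 2 3 34 34 104 8 8 2 3 9 114 3 4 16 102 4 4 5 5 4 5 72 72 4 4 4 5 5 5 5 6 6 7 34 4 4 108 5 5 108 108 4 4 5 5) (@D3.rec (fun _ => Nat) 5 6 6 6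 7 7 34 15 15 15 6 6 6 6 6 98 98 7 7 7 7 7 7 6 6 6 72 6 6 98 7 7 7 7 34 34 65 8 8 9 9 107 15 107 6 6 100 102 100 100 105) (@D3.rec (fun _ => Nat) 7 109 107 4 4 4 5 5 5 5 5 5 15 15 15 6 6 6 6 6 6 7 7 102 7 7 7 0 7 7 6 6 6 6 0 6 6 7 0 7 7 1 2 7 7 1 2 34 34 2 3) (@D3.rec (fun _ => Nat) 34 34 104 15 15 15 15 15 6 6 6 6 6 6 6 0 6 6 7 7 7 7 7 7 7 7 7 0 7 7 7 1 2 7 7 8 8 8 8 0 8 8 8 1 2 8 8 9 0 9 9) (@D3.rec (fun _ => Nat) 9 1 2 9 9 9 2 3 9 9 1 2 34 34 2 3 34 34 34 3 4 34 34 2 3 8 8 3 4 9 9 9 4 5 34 102 103 105 102 8 8 8 8 8 103 106 101 104 9 9 103) (@D3.rec (fun _ => Nat) 9 104 8 8 8 109 106 106 102 100 105 6 6 6 109 110 7 110 104 7 103 6 102 103 101 103 103 101 8 8 104 101 101 112 105 107 18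 19 19 108 108 19 19 19 19 19 105 105 105 105 101)
def lv_j_14 : D2 → D3 → Nat := @D2.rec (fun _ => D3 → Nat) (@D3.rec (fun _ => Nat) 107 101 107 107 103 103 106 106 103 106 104 108 104 102 104 104 6 6 6 6 107 105 102 104 7 7 105 107 7 6 6 104 100 7 103 104 104 103 105 106 20 104 20 20 2 3 102 107 107 108 101) (@D3.rec (fun _ => Nat) 103 4 4 5 5 6 6 6 109 103 105 103 107 7 6 6 6 7 7 7 34 34 103 105 105 8 8 8 9 9 9 107 104 8 4 4 5 5 6 104 111 102 108 6 6 7 34 100 16 16 6) (@D3.rec (fun _ => Nat) 6 6 6 6 6 7 7 7 7 7 7 7 7 6 6 6 6 6 6 7 7 7 7 7 34 34 34 102 102 106 6 6 6 6 6 113 110 116 7 7 7 7 8 8 8 9 9 9 34 106 104) (@D3.rec (fun _ => Nat) 106 106 102 104 16 16 6 6 6 6 6 7 7 7 109 7 7 106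 106 7 6 6 111 107 7 111 110 7 110 108 34 34 2 3 100 102 16 16 16 6 6 6 6 6 6 6 6 109 111 107 7) (@D3.rec (fun _ => Nat) 7 7 7 7 7 0 7 7 7 1 2 7 7 8 8 8 8 8 8 8 8 8 9 9 9 109 9 9 9 1 2 9 9 9 2 3 34 1 2 34 34 2 3 34 3 106 8 8 8 8 8) (@D3.rec (fun _ => Nat) 103 109 103 101 9 9 9 9 9 8 8 8 9 18 97 18 18 18 18 18 18 18 20 108 20 20 20 20 101 101 99 103 20 20 20 20 20 20 105 103 20 20 20 107 106 107 4 4 104 104 5) (@D3.rec (fun _ => Nat) 5 6 103 19 99 106 109 104 19 19 106 106 108 104 101 107 19 6 6 108 105 106 109 107 7 105 105 107 108 101 105 107 19 19 108 108 104 108 109 19 103 103 104 107 105 105 21 16 16 6 6) (@D3.rec (fun _ => Nat) 105 107 7 107 103 105 21 108 107 107 102 105 111 105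 105 107 106 106 103 21 21 105 104 16 16 16 6 6 6 6 6 103 103 101 101 7 7 99 101 107 101 7 7 1 2 109 7 8 8 105 105) (@D3.rec (fun _ => Nat) 105 9 106 107 102 103 2 108 101 21 99 102 104 21 101 103 21 107 8 8 105 101 103 9 99 103 105 9 8 107 108 109 111 105 8 105 17 17 6 6 7 104 109 17 17 6 6 103 7 6 105) (@D3.rec (fun _ => Nat) 17 17 17 17 17 6 6 6 6 6 6 73 6 6 107 7 7 7 7 7 7 7 7 7 8 8 8 8 8 64 8 9 9 9 9 34 8 109 9 108 106 103 111 6 6 7 16 16 16 16 16) (@D3.rec (fun _ => Nat) 6 6 6 6 6 103 102 101 7 7 99 101 7 7 8 8 9 101 99 101 113 110 112 110 110 108 109 16 16 16 16 16 6 6 6 6 6 6 103 102 103 105 7 7 101 99 7 0 105 7 1) (@D3.rec (fun _ => Nat) 2 103 7 8 8 8 8 9 107 9 1 2 105 9 2 3 34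 2 3 34 3 16 16 16 105 16 16 8 8 8 8 8 8 8 1 2 8 8 107 103 102 99 101 109 9 9 102 101 99 101 99) (@D3.rec (fun _ => Nat) 9 1 2 9 9 9 2 3 9 9 8 8 8 8 8 8 8 8 2 3 9 9 104 9 9 2 3 9 9 9 3 2 3 34 34 3 4 99 100 10 106 6 6 6 6 6 6 112 112 7 7) (@D3.rec (fun _ => Nat) 101 7 7 108 8 106 106 101 9 60 107 99 103 99 103 103 106 107 107 107 104 105 105 8 9 99 99 107 10 103 103 103 109 101 99 101 99 101 103 103 103 103 106 105 105 10 106 109 107 104 104) (@D3.rec (fun _ => Nat) 11 104 110 104 113 108 113 110 111 3 2 3 3 108 108 8 8 108 20 20 98 102 20 20 20 20 17 106 17 102 17 17 19 19 107 105 100 100 102 21 4 4 103 103 5 5 5 6 6 6 101) (@D3.rec (fun _ => Nat) 103 105 101 101 104 7 7 101 102 105 21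 21 6 106 106 21 105 99 102 104 104 98 98 102 106 102 100 100 4 4 104 5 5 6 102 104 104 104 102 18 6 6 100 106 0 104 7 1 2 106 106) (@D3.rec (fun _ => Nat) 102 107 2 3 18 18 2 104 106 103 110 20 4 4 108 5 5 103 103 4 4 4 5 5 5 5 5 6 6 6 6 7 7 7 35 35 101 101 6 6 6 6 6 107 107 101 7 7 7 7 7) (@D3.rec (fun _ => Nat) 6 6 6 71 6 6 114 7 7 7 7 7 35 35 35 35 64 8 8 9 9 35 6 113 105 107 103 101 105 7 8 111 9 108 101 4 4 5 5 4 5 107 105 4 4 4 5 5 100 5 5) (@D3.rec (fun _ => Nat) 6 6 7 100 98 35 35 104 104 102 104 4 4 98 98 98 5 5 6 100 98 100 35 35 16 16 6 6 100 102 0 100 7 102 1 2 102 102 2 3 35 2 3 104 3 4 104 4 4 4 5) (@D3.rec (fun _ => Nat) 5 5 5 5 5 16 16 6 6 6 6 6 6 7 7 7 98 7 7 0 7 7 6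 6 107 6 6 7 98 98 7 1 2 7 7 35 35 2 3 35 35 16 16 16 6 6 6 6 6 0 6) (@D3.rec (fun _ => Nat) 6 7 7 104 100 7 7 106 104 0 102 7 7 1 2 7 7 8 8 8 1 2 8 8 9 100 98 9 1 2 100 9 2 3 9 9 35 35 2 3 35 3 4 35 2 3 8 8 3 4 9) (@D3.rec (fun _ => Nat) 9 9 4 5 8 8 8 108 102 9 106 106 106 9 108 106 106 9 8 8 8 9 9 112 8 8 108 100 20 102 20 20 20 98 100 20 20 20 20 100 20 20 20 20 102 6 20 20 20 20 20) (@D3.rec (fun _ => Nat) 20 20 20 20 102 20 20 4 104 5 20 20 20 20 106 6 104 100 102 20 20 20 20 100 20 20 20 103 6 106 104 20 20 20 20 20 103 104 106 104 20 20 20 20 20 20 104 20 20 20 20) (@D3.rec (fun _ => Nat) 101 4 4 5 5 4 5 4 4 101 5 5 4 101 103 103 5 21 21 103 103 4 4 101 101 103 5 5 6 101 103 104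 101 21 21 103 103 102 102 110 108 112 4 4 104 104 104 102 5 5 6) (@D3.rec (fun _ => Nat) 103 102 104 102 103 21 101 21 100 21 21 106 105 6 6 106 105 108 104 104 104 102 7 103 105 104 102 102 103 101 21 99 101 21 104 21 21 106 103 105 108 106 108 104 104 109 105 107 104 104 106) (@D3.rec (fun _ => Nat) 4 4 101 104 105 5 5 6 105 104 21 21 4 4 108 5 5 4 4 4 105 5 5 102 5 5 6 6 105 104 105 7 106 106 21 21 21 21 16 16 6 6 6 6 6 103 105 105 106 7 7) (@D3.rec (fun _ => Nat) 7 7 6 6 6 107 107 106 106 106 7 106 103 105 21 21 21 21 100 8 106 111 6 6 6 107 112 108 106 110 21 21 4 4 4 110 5 5 5 5 5 105 105 6 6 6 6 6 107 107 7)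
def lv_j_15 : D2 → D3 → Nat := @D2.rec (fun _ => D3 → Nat) (@D3.rec (fun _ => Nat) 105 7 7 102 7 7 6 6 6 102 104 106 7 102 7 7 21 21 21 103 21 21 16 16 16 6 6 6 6 6 6 105 105 109 106 107 108 7 7 7 101 7 7 7 1 2 7 7 8 8 8) (@D3.rec (fun _ => Nat) 8 8 102 106 106 104 101 9 9 106 2 3 9 107 21 21 106 21 21 21 21 3 104 8 112 109 9 106 106 8 8 8 8 109 105 107 109 109 105 107 9 9 9 9 104 108 107 106 4 4 106) (@D3.rec (fun _ => Nat) 107 5 5 6 6 7 35 17 17 6 6 109 7 6 112 7 8 114 4 4 110 110 5 5 5 17 17 6 6 6 7 7 6 6 7 7 17 17 17 17 17 6 6 6 6 102 110 104 105 7 1) (@D3.rec (fun _ => Nat) 2 7 7 8 8 114 2 3 9 114 3 4 106 8 3 4 109 9 4 106 4 4 5 5 6 72 63 6 6 6 6 108 7 7 7 6 7 4 4 106 104 5 5 5 108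 110 6 6 6 7 7) (@D3.rec (fun _ => Nat) 69 6 6 7 7 35 16 16 16 16 16 6 6 6 6 68 6 6 98 98 98 7 104 7 7 7 7 7 109 8 8 63 8 8 9 9 9 9 35 70 8 8 9 9 105 8 100 100 100 100 107) (@D3.rec (fun _ => Nat) 9 107 111 6 6 6 6 6 6 109 7 7 108 7 7 7 107 7 7 16 16 16 16 16 6 6 6 6 6 0 6 6 104 7 7 106 104 104 106 7 7 1 2 7 7 8 113 8 8 1 2) (@D3.rec (fun _ => Nat) 8 8 1 2 9 9 2 3 9 9 2 3 3 4 35 35 106 104 103 16 16 16 106 16 16 8 8 8 8 8 8 8 8 8 0 8 8 8 1 2 8 8 9 9 9 9 109 9 9 9 0) (@D3.rec (fun _ => Nat) 9 9 9 9 1 2 9 9 9 2 3 9 9 8 8 8 8 1 2 8 8 8 2 3 8 8 1 2 9 9 2 3 9 9 9 107 3 4 9 9 9 2 3 3 4 35 4 5 35 3 4) (@D3.rec (fun _ => Nat) 10 10 10 4 5 5 11 11 11 5 103 102 8 8 8 103 104 9 105 114 104 104 102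 6 6 115 112 7 110 104 7 103 103 101 101 116 99 110 107 20 20 20 105 105 107 109 105 105 106 106 108) (@D3.rec (fun _ => Nat) 104 104 108 6 6 6 103 106 108 110 102 105 106 7 106 106 7 8 106 105 105 106 105 106 21 106 21 3 102 108 112 101 113 6 6 7 6 107 107 105 107 105 107 7 8 8 8 9 9 103 107) (@D3.rec (fun _ => Nat) 107 8 8 8 9 6 6 7 106 113 111 112 6 7 59 100 100 17 17 17 6 6 6 6 6 6 6 6 110 7 7 7 7 7 7 7 7 7 8 8 8 8 8 9 9 9 9 35 102 104 8) (@D3.rec (fun _ => Nat) 8 8 8 111 114 113 9 9 9 9 8 8 8 9 9 108 104 106 102 106 106 107 100 102 17 17 6 6 6 6 6 6 7 109 7 7 109 7 7 111 7 7 108 108 7 8 8 113 109 9 109) (@D3.rec (fun _ => Nat) 111 3 104 102 104 17 17 8 8 8 8 8 8 8 8 8 8 8 107 109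 113 105 107 105 107 9 9 9 105 9 9 9 9 1 2 9 9 9 2 3 9 9 8 8 8 8 8 8 8 8 8) (@D3.rec (fun _ => Nat) 9 9 104 9 9 2 3 9 9 3 35 2 3 3 4 104 8 8 8 8 8 109 105 103 9 9 9 9 9 10 20 20 20 20 20 20 20 21 21 21 21 101 103 99 21 21 21 108 107 6 6) (@D3.rec (fun _ => Nat) 106 106 7 103 21 107 108 105 105 113 108 107 104 103 107 21 6 106 110 110 107 109 108 108 7 106 107 105 105 21 21 110 112 112 108 111 111 109 105 105 107 105 105 17 17 6 107 107 7 101 107) (@D3.rec (fun _ => Nat) 107 107 106 99 111 105 106 105 106 104 104 106 109 17 17 8 8 8 8 8 105 105 101 101 9 9 99 103 106 107 9 9 2 3 104 9 8 105 105 104 103 107 107 105 104 111 8 8 107 99 105) (@D3.rec (fun _ => Nat) 9 101 103 105 107 111 113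 109 18 18 6 7 113 18 18 6 105 7 109 18 18 102 18 18 8 8 8 8 8 8 8 64 8 8 109 109 9 9 9 9 9 9 9 9 8 8 8 8 62 9 9) (@D3.rec (fun _ => Nat) 9 8 110 106 108 109 6 7 17 17 17 17 8 8 8 8 105 100 101 9 99 105 9 9 8 99 99 108 105 107 110 110 110 110 108 110 106 104 17 17 17 17 8 8 8 8 8 106 100 105 105) (@D3.rec (fun _ => Nat) 108 104 9 113 99 107 99 9 1 2 105 9 2 3 104 9 8 8 8 107 9 2 3 109 3 35 3 4 17 17 110 17 17 8 8 8 8 8 8 2 3 8 8 105 102 99 99 109 9 9 109) (@D3.rec (fun _ => Nat) 101 99 103 99 9 2 3 9 9 9 9 3 4 9 9 10 10 10 10 10 10 10 3 11 104 11 11 3 4 11 11 3 4 4 58 108 8 8 8 8 108 114 9 110 101 9 9 110 8 111 101) (@D3.rec (fun _ => Nat) 101 99 101 107 10 105 105 111 101 101 103 101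 105 105 105 105 105 108 10 109 109 109 106 106 112 110 108 3 20 102 20 20 20 18 102 18 18 20 102 107 108 102 105 21 6 6 6 103 105 109 7) (@D3.rec (fun _ => Nat) 7 6 6 103 103 103 103 103 104 7 102 109 109 21 108 106 102 106 102 108 102 6 6 104 7 104 106 106 104 102 6 108 1 2 108 7 2 3 108 104 102 3 102 19 110 107 108 106 4 4 110) (@D3.rec (fun _ => Nat) 105 110 5 5 5 101 103 6 6 6 6 6 7 7 7 7 7 6 68 6 6 7 7 7 36 36 103 103 6 6 6 69 6 6 111 105 107 103 99 101 7 7 7 7 7 8 8 8 64 8 8) (@D3.rec (fun _ => Nat) 111 9 9 9 9 9 36 36 36 71 8 8 9 9 107 8 115 113 105 107 101 105 105 9 8 9 4 4 5 5 6 109 107 113 6 6 6 6 108 7 7 102 7 6 7 100 100 104 100 102 104) (@D3.rec (fun _ => Nat) 6 6 100 100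 100 100 7 100 100 100 17 17 17 6 102 102 1 2 104 7 2 3 104 3 4 3 4 106 4 104 6 6 6 6 6 6 109 7 7 7 7 7 7 7 7 106 17 17 6 6 6) (@D3.rec (fun _ => Nat) 6 6 104 6 6 103 7 7 100 106 7 100 7 7 1 2 7 7 8 8 112 8 8 9 100 9 2 3 9 9 3 4 0 17 17 8 8 8 8 8 8 1 2 8 8 108 9 9 106 104 102) (@D3.rec (fun _ => Nat) 9 9 105 106 1 2 106 9 9 2 3 9 9 8 8 8 2 3 8 8 9 100 9 2 3 9 3 4 9 9 9 3 109 4 3 4 10 10 10 4 5 5 11 11 5 8 8 8 106 104 108)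
def lv_j_16 : D2 → D3 → Nat := @D2.rec (fun _ => D3 → Nat) (@D3.rec (fun _ => Nat) 108 106 9 108 108 106 9 10 10 107 109 102 100 22 22 102 22 22 22 22 22 22 22 22 22 22 21 21 6 106 21 21 21 21 104 21 21 21 21 21 21 108 106 21 21 21 21 21 110 106 21) (@D3.rec (fun _ => Nat) 21 21 21 21 21 4 4 5 5 6 4 4 103 103 103 5 5 6 102 103 101 23 23 105 105 6 6 103 103 103 7 103 103 104 103 102 110 110 114 110 114 6 6 104 104 101 104 102 103 104 7) (@D3.rec (fun _ => Nat) 105 102 104 103 103 23 23 105 23 23 106 107 6 105 108 108 104 104 104 104 7 103 107 106 104 103 105 106 106 111 103 110 109 112 104 107 106 107 6 6 103 105 108 105 106 7 107 106 4 4 108) (@D3.rec (fun _ => Nat) 110 110 5 5 6 6 6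 6 107 107 109 106 7 7 106 7 6 107 106 108 108 108 103 22 22 22 17 17 6 6 105 6 6 105 107 109 108 7 104 7 7 8 107 103 108 108 104 108 103 22 22) (@D3.rec (fun _ => Nat) 22 22 108 105 105 112 110 112 105 106 6 6 6 6 6 108 114 7 7 7 7 7 7 106 106 6 6 6 6 6 112 107 108 7 7 106 7 7 104 7 7 8 8 8 102 108 108 110 105 9 109) (@D3.rec (fun _ => Nat) 22 105 17 17 8 8 8 8 8 8 8 8 109 105 107 111 109 109 106 108 109 9 9 9 9 103 9 9 9 2 3 9 9 8 8 8 107 106 108 106 9 109 110 104 3 104 105 9 104 22 106) (@D3.rec (fun _ => Nat) 10 112 106 112 110 8 8 8 8 109 105 109 111 111 109 9 9 106 9 106 6 6 107 109 7 6 7 18 18 6 110 7 8 113 113 6 6 6 110 111 7 7 107 18 18 6 6 7 7 8 8) (@D3.rec (fun _ => Nat) 9 18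 18 18 18 8 8 8 110 104 108 9 2 3 9 9 8 3 4 109 9 4 106 10 4 5 109 6 6 7 65 63 6 6 6 108 7 7 7 8 6 6 6 106 104 104 7 7 108 108 109) (@D3.rec (fun _ => Nat) 70 6 6 7 7 65 8 8 9 9 106 17 17 17 17 8 8 109 8 8 65 8 8 111 100 100 104 9 107 9 9 9 9 9 111 8 8 63 8 8 9 9 9 9 66 10 10 11 8 102 102) (@D3.rec (fun _ => Nat) 102 102 107 112 6 6 6 6 6 107 6 6 109 115 107 114 7 7 108 110 110 108 7 7 7 107 7 7 17 17 108 17 17 8 8 108 8 8 1 2 8 8 104 9 108 104 105 103 111 9 9) (@D3.rec (fun _ => Nat) 2 3 9 9 113 8 8 2 3 8 8 2 3 9 3 4 9 9 9 3 4 5 103 106 105 109 17 17 102 110 17 17 8 8 8 8 8 8 8 110 8 8 8 8 1 2 8 8 8 2 3) (@D3.rec (fun _ => Nat) 8 8 9 111 9 103 111 9 9 108 1 108 2 9 9 9 9 2 3 9 9 9 106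 3 4 9 9 9 10 10 2 3 10 10 10 3 4 10 10 10 2 3 11 3 4 11 11 109 4 5 5) (@D3.rec (fun _ => Nat) 11 11 11 3 4 5 5 4 5 5 10 10 10 5 5 6 11 11 11 10 104 114 107 112 104 102 8 8 112 112 109 112 104 101 101 103 101 112 105 21 21 107 103 105 108 104 103 110 8 8 106) (@D3.rec (fun _ => Nat) 109 112 102 105 106 9 107 104 9 107 107 106 107 106 112 110 107 6 7 8 105 104 107 109 105 107 9 8 8 107 107 10 6 7 110 111 111 102 8 100 59 102 102 18 18 8 8 8 8 8 8) (@D3.rec (fun _ => Nat) 8 8 8 110 9 9 9 9 9 9 9 9 9 8 8 8 8 9 9 9 104 104 8 8 8 8 112 115 9 9 9 9 10 10 11 103 105 106 108 104 108 105 100 100 102 18 8 8 8 8 8) (@D3.rec (fun _ => Nat) 8 8 8 9 111 9 9 111 9 9 107 9 9 111 105 9 8 109 104 106 106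 18 18 8 8 8 8 8 8 8 8 8 8 8 8 109 111 105 109 105 106 9 9 9 106 9 9 9 9 2 3) (@D3.rec (fun _ => Nat) 9 9 9 9 3 4 9 9 10 10 10 10 10 10 11 11 104 11 3 4 11 3 4 106 10 10 10 10 10 105 103 103 11 11 11 64 20 20 20 20 109 6 108 108 7 105 109 108 113 108 107) (@D3.rec (fun _ => Nat) 108 109 105 103 8 112 107 110 107 107 109 110 105 9 108 107 111 109 114 112 112 107 111 106 107 107 103 18 8 107 109 9 103 109 108 108 101 103 107 108 105 105 106 109 106 18 18 8 8 8 8) (@D3.rec (fun _ => Nat) 8 107 107 103 107 9 9 101 105 109 107 9 9 105 3 108 104 9 103 108 111 10 107 101 105 109 101 105 110 109 19 8 9 103 19 8 105 9 109 19 102 19 19 8 8 8 8 8 8 64 8) (@D3.rec (fun _ => Nat) 8 109 107 9 9 9 9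 9 9 9 9 10 10 10 11 11 106 108 103 8 9 18 18 18 8 8 8 102 103 9 101 107 9 9 110 105 112 108 110 112 111 108 110 106 104 18 18 18 8 8 8) (@D3.rec (fun _ => Nat) 8 102 108 108 103 106 9 115 109 101 107 104 9 2 3 109 9 3 4 106 9 10 109 11 3 4 106 4 18 18 112 18 18 10 10 10 10 10 10 10 3 4 10 10 104 108 101 110 11 11 111) (@D3.rec (fun _ => Nat) 103 101 103 101 11 3 4 11 11 11 11 11 4 5 11 11 10 10 10 10 10 58 106 11 11 4 5 11 4 108 8 8 8 110 114 112 110 110 103 9 108 113 105 105 109 103 101 103 105 105 108) (@D3.rec (fun _ => Nat) 108 113 109 110 22 22 19 102 108 107 107 6 6 103 109 7 7 8 103 103 105 104 102 104 112 108 106 108 6 106 7 106 106 106 8 102 2 3 106 9 3 104 107 108 107 110 108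 109 6 6 6) (@D3.rec (fun _ => Nat) 108 110 114 109 112 110 7 7 103 103 6 6 6 69 6 6 101 7 7 7 7 7 8 64 8 8 9 9 9 103 8 8 8 64 8 8 111 111 107 109 109 105 101 105 9 9 9 9 9 8 8) (@D3.rec (fun _ => Nat) 8 62 8 8 9 9 9 9 9 9 113 67 10 10 111 11 8 102 115 105 109 103 105 105 9 10 6 6 7 111 111 113 111 113 6 6 6 110 7 7 104 7 8 100 106 100 104 6 100 102 102) (@D3.rec (fun _ => Nat) 102 7 102 18 18 8 104 104 2 3 104 9 3 4 104 4 4 5 6 6 6 6 6 6 104 6 6 115 113 7 7 7 7 7 7 7 7 108 108 18 8 8 8 8 8 110 8 8 105 9 9) (@D3.rec (fun _ => Nat) 100 105 9 100 9 9 2 3 9 9 8 8 112 8 8 9 3 4 9 9 4 1 2 18 18 8 8 8 8 8 8 2 3 8 8 106 9 9 107 106 104 9 9 105 106 2 3 106 9 9 9)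
def lv_j_17 : D2 → D3 → Nat := @D2.rec (fun _ => D3 → Nat) (@D3.rec (fun _ => Nat) 3 4 9 9 9 10 10 10 3 4 10 10 10 11 3 111 4 5 11 11 4 5 10 10 5 5 6 11 105 10 10 103 108 108 108 108 108 108 108 108 111 108 22 22 22 22 22 22 22 22 22) (@D3.rec (fun _ => Nat) 22 22 22 22 22 22 6 6 7 6 6 103 104 105 7 104 103 103 105 106 6 103 103 105 7 105 105 104 107 107 112 114 112 112 6 106 107 103 106 104 106 104 7 107 104 105 105 107 105 108 8) (@D3.rec (fun _ => Nat) 108 103 113 106 106 106 109 9 107 106 107 104 108 111 111 113 115 106 107 6 111 107 107 110 106 106 7 6 6 108 109 108 106 112 7 6 6 6 107 107 107 106 7 108 110 7 107 108 108 105 109) (@D3.rec (fun _ => Nat) 18 8 106 8 8 107 109 109 108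 9 109 9 9 108 105 108 109 108 108 107 108 107 110 111 111 111 6 6 6 6 6 6 112 114 110 7 7 7 7 7 7 107 8 8 8 8 8 8 108 109 108) (@D3.rec (fun _ => Nat) 9 9 105 9 9 105 9 9 8 104 108 110 105 109 9 18 18 8 8 8 8 8 8 8 8 8 111 107 106 111 113 108 112 109 9 9 9 9 109 9 9 9 109 3 4 9 9 9 10 10 107) (@D3.rec (fun _ => Nat) 108 110 108 109 11 110 110 106 114 108 110 110 10 10 10 114 107 113 113 116 11 106 11 106 109 6 107 109 7 8 19 8 109 9 114 6 6 115 114 7 7 109 19 8 8 9 9 8 9 19 19) (@D3.rec (fun _ => Nat) 19 8 8 8 104 104 104 9 3 4 9 9 9 10 4 5 111 108 5 107 6 7 63 8 8 8 111 9 9 9 6 6 106 106 104 7 7 110 111 65 8 8 9 9 63 8 8 9 9 105 18) (@D3.rec (fun _ => Nat) 18 18 8 8 109 8 8 63 8 8 111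 105 100 109 9 102 9 9 9 9 9 9 111 10 10 63 10 10 11 11 11 64 68 10 115 105 102 110 8 8 8 8 8 109 8 8 111 113 110 110 9) (@D3.rec (fun _ => Nat) 114 108 110 112 110 9 9 106 109 9 9 18 105 18 18 8 111 8 8 2 3 8 8 101 9 107 105 101 107 113 9 9 3 4 9 9 9 115 10 3 4 10 10 10 3 109 4 5 5 11 11) (@D3.rec (fun _ => Nat) 5 106 107 111 18 18 104 110 18 18 10 10 10 10 110 10 10 10 10 2 3 10 10 10 3 4 10 10 10 11 111 105 105 110 11 11 108 2 107 3 11 11 11 11 106 3 4 11 11 11 11) (@D3.rec (fun _ => Nat) 110 4 5 5 11 11 11 10 3 4 10 10 4 5 5 10 10 10 3 11 4 5 11 109 5 5 6 11 11 11 5 6 5 5 65 6 110 12 12 12 6 7 13 13 13 106 106 111 108 111 104) (@D3.rec (fun _ => Nat) 114 109 106 106 112 103 103 104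 104 104 105 108 8 8 107 106 102 102 104 108 9 110 106 9 107 108 107 112 112 103 8 9 8 102 107 109 107 109 9 111 8 9 112 112 110 110 100 57 104 102 19) (@D3.rec (fun _ => Nat) 19 8 8 8 8 8 8 8 8 8 112 9 9 9 9 9 9 9 9 9 9 10 10 10 11 11 106 106 10 10 10 10 108 112 113 11 11 11 10 62 103 105 110 108 110 107 111 102 104 104 19) (@D3.rec (fun _ => Nat) 8 8 8 8 8 8 8 8 9 109 9 9 110 9 9 109 9 9 107 107 9 106 106 106 19 19 10 10 10 10 10 10 10 10 10 10 10 10 10 111 107 107 107 105 102 11 11 11 106 11 11) (@D3.rec (fun _ => Nat) 11 11 11 3 4 11 11 11 11 11 4 5 11 11 10 10 10 10 64 11 11 4 5 108 10 10 10 66 105 105 11 11 106 8 108 108 9 112 109 109 112 109 110 110 105 111 8 112 109 112 111) (@D3.rec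 (fun _ => Nat) 111 113 111 107 107 9 110 111 109 106 114 110 112 113 107 107 105 19 8 107 107 103 9 107 108 101 105 109 109 106 117 107 109 109 19 19 10 10 10 10 10 107 107 105 107 11 11 105 103 105 105) (@D3.rec (fun _ => Nat) 109 109 109 11 11 109 110 110 116 11 101 103 112 20 8 9 105 20 8 105 9 115 20 104 20 20 10 10 10 10 10 10 64 10 10 104 104 11 11 11 11 11 11 11 11 11 10 10 11 108 110) (@D3.rec (fun _ => Nat) 105 8 9 19 19 19 10 10 10 106 105 11 101 107 11 11 111 105 109 108 112 112 111 108 110 108 113 106 19 19 19 10 10 10 10 102 111 110 107 107 11 111 111 101 109 106 11 3 4 111 107) (@D3.rec (fun _ => Nat) 11 4 5 112 11 10 111 104 4 5 19 19 114 19 19 19 10 10 10 10 10 10 10 10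 58 4 5 10 10 106 108 109 11 11 11 111 105 103 105 105 101 11 4 5 5 11 11 11 11 11 11) (@D3.rec (fun _ => Nat) 5 6 11 12 12 12 57 106 13 5 10 112 112 112 112 108 106 109 107 111 103 103 105 110 110 108 107 8 8 106 107 9 9 105 113 104 110 106 108 8 108 9 106 108 8 104 3 4 108 106 9) (@D3.rec (fun _ => Nat) 104 109 109 110 107 6 6 110 110 110 106 110 110 7 7 103 8 8 8 66 8 8 101 9 9 9 9 9 8 64 8 8 9 9 9 103 8 8 8 64 8 8 113 110 107 109 109 107 103 107 9) (@D3.rec (fun _ => Nat) 9 9 9 9 9 9 10 10 10 10 64 10 10 11 11 11 111 11 65 64 10 111 107 10 105 107 107 103 107 109 110 6 7 111 115 108 111 8 8 8 114 9 9 104 9 102 102 104 8 102 102) (@D3.rec (fun _ => Nat) 102 102 9 102 19 19 8 104 104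 3 4 106 106 9 4 5 5 8 8 8 8 8 8 109 8 8 111 113 9 9 9 9 9 9 9 9 108 108 19 8 8 8 8 8 104 8 8 105 9 9 105) (@D3.rec (fun _ => Nat) 108 9 102 9 9 9 3 4 9 9 9 10 110 10 10 4 5 11 2 3 19 19 10 10 10 10 10 10 10 3 4 10 10 10 103 11 11 108 106 104 11 11 11 110 106 108 3 4 108 11 11) (@D3.rec (fun _ => Nat) 11 111 4 5 5 11 11 11 10 113 4 5 10 10 5 11 11 5 111 12 6 107 105 105 110 110 108 108 113 6 7 6 105 104 105 7 103 108 8 105 105 105 9 105 111 113 112 116 109 106 8) (@D3.rec (fun _ => Nat) 105 107 103 106 106 107 106 9 104 107 109 110 105 8 110 110 109 114 110 109 106 106 108 9 108 110 114 109 8 111 111 113 107 108 9 6 112 111 106 104 110 7 8 8 107 109 109 108 9 109 108) (@D3.rec (fun _ =>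 Nat) 9 110 111 110 19 8 104 8 8 114 110 109 112 9 108 115 9 110 9 111 111 108 110 110 110 111 111 8 8 8 8 8 8 112 108 112 9 9 9 106 9 9 110 8 8 8 8 8 8 108 109)
def lv_j_18 : D2 → D3 → Nat := @D2.rec (fun _ => D3 → Nat) (@D3.rec (fun _ => Nat) 111 9 9 105 9 9 111 110 9 9 9 10 112 110 107 114 19 19 10 10 10 10 10 10 10 10 10 10 112 109 108 111 108 112 110 110 106 11 11 11 11 11 111 11 11 11 11 111 114 4 5) (@D3.rec (fun _ => Nat) 108 11 11 11 10 111 112 109 113 112 109 113 111 110 10 10 113 105 113 108 11 106 109 114 8 110 106 9 20 8 110 108 9 8 8 113 114 9 9 109 20 8 8 9 9 9 10 20 20 20 10) (@D3.rec (fun _ => Nat) 10 10 10 104 106 104 11 4 5 5 11 11 11 5 109 108 107 8 9 65 8 8 8 108 9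 9 9 8 8 106 106 104 9 9 105 105 65 8 8 9 9 9 65 10 10 11 107 19 19 19 10) (@D3.rec (fun _ => Nat) 10 111 10 10 65 10 10 10 110 105 102 109 11 106 11 11 11 11 11 11 11 111 10 10 66 65 10 11 11 66 67 115 109 106 8 8 8 110 8 8 111 109 112 110 9 112 109 110 109 106 108) (@D3.rec (fun _ => Nat) 9 9 106 106 106 9 9 9 19 107 19 19 10 110 10 10 3 4 10 10 10 105 11 103 105 103 109 107 11 107 11 4 5 5 11 11 11 113 4 5 5 10 10 5 5 6 11 11 107 109 110) (@D3.rec (fun _ => Nat) 19 19 104 104 110 19 19 19 10 10 10 109 10 10 10 10 3 4 10 10 10 10 4 5 5 10 10 10 11 108 105 105 109 11 11 11 110 3 107 4 11 11 11 11 106 11 108 111 4 5 5) (@D3.rec (fun _ => Nat) 11 11 109 11 11 111 5 5 6 6 11 11 11 12 4 59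 5 12 5 5 63 6 112 12 12 12 5 6 13 6 7 13 13 13 6 6 61 65 116 105 12 12 12 7 105 13 106 13 13 106 106) (@D3.rec (fun _ => Nat) 111 113 114 109 108 105 116 106 104 114 115 108 10 10 108 106 104 104 106 108 108 11 111 116 11 109 109 112 112 103 8 9 10 106 107 107 119 109 11 8 9 112 104 113 113 59 58 104 104 20 20) (@D3.rec (fun _ => Nat) 10 10 10 10 10 10 10 10 10 10 112 11 11 11 11 11 11 11 11 11 11 11 11 11 10 10 62 106 106 10 10 10 62 114 108 110 115 11 106 110 103 108 110 106 113 102 104 104 20 10 10) (@D3.rec (fun _ => Nat) 10 10 10 10 10 10 11 109 11 11 107 11 11 11 109 11 11 107 112 11 108 108 108 108 20 20 20 10 10 10 10 10 10 10 10 10 10 10 10 10 64 10 10 107 107 107 107 107 105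 104 11) (@D3.rec (fun _ => Nat) 11 11 11 107 11 11 11 11 11 11 11 11 4 5 5 11 11 11 11 11 5 6 11 12 12 13 5 12 12 66 105 13 106 8 114 112 114 9 114 109 107 112 108 115 10 112 109 112 109 109 113) (@D3.rec (fun _ => Nat) 111 114 111 113 113 117 11 113 110 110 113 109 107 115 20 10 110 107 107 11 109 109 107 103 105 105 109 109 109 115 112 109 20 20 20 10 10 10 10 10 107 107 105 105 107 11 11 107 103 103 107) (@D3.rec (fun _ => Nat) 107 109 118 109 11 11 109 110 119 114 106 21 10 11 113 21 10 114 11 115 21 104 21 21 21 10 10 10 10 10 10 10 66 10 10 109 106 11 11 11 11 11 11 11 11 11 11 12 108 108 114) (@D3.rec (fun _ => Nat) 10 11 20 20 20 20 10 10 10 106 105 11 103 116 11 110 107 108 110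 110 112 108 108 108 113 110 111 106 20 20 20 20 10 10 10 10 104 105 107 107 107 104 11 111 111 103 109 105 106 11 4) (@D3.rec (fun _ => Nat) 5 5 114 107 11 5 6 110 104 5 20 20 20 112 110 20 20 20 12 12 12 12 12 12 12 12 12 12 60 5 6 12 106 115 111 111 13 13 13 111 105 105 103 103 114 105 117 13 5 5 6) (@D3.rec (fun _ => Nat) 106 6 13 13 13 13 13 6 7 12 59 114 108 103 111 105 110 110 108 8 8 109 109 9 108 9 113 109 108 110 8 108 108 9 108 10 115 4 5 108 111 108 11 109 112 116 8 8 112 112 112) (@D3.rec (fun _ => Nat) 108 111 109 9 9 103 8 8 8 64 8 8 103 9 9 9 9 9 9 9 10 64 10 10 11 103 10 10 10 10 64 10 10 10 107 107 109 107 109 107 105 107 107 11 11 11 11 11 113 11 11) (@D3.rec (fun _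 => Nat) 11 10 10 10 113 65 64 10 11 11 11 65 66 107 107 108 107 105 105 107 8 9 113 115 113 107 8 8 8 116 9 9 106 106 9 104 104 8 104 104 104 104 104 9 20 20 10 117 106 4 5) (@D3.rec (fun _ => Nat) 5 106 106 11 5 8 8 8 8 8 8 107 8 8 113 109 9 112 9 9 9 9 9 9 9 9 9 111 107 20 10 10 10 10 10 10 112 10 10 10 107 11 11 107 111 11 11 102 11 11 11) (@D3.rec (fun _ => Nat) 4 5 5 11 11 11 104 10 5 11 3 4 20 20 20 10 10 10 10 10 10 10 10 108 4 5 5 10 10 10 107 11 11 109 108 106 106 11 11 11 111 110 116 110 106 4 5 118 11 11 11) (@D3.rec (fun _ => Nat) 109 5 5 6 6 11 11 11 5 109 12 12 13 105 107 105 113 8 9 8 105 109 107 9 107 108 8 110 109 112 111 9 113 113 111 108 108 108 8 105 108 105 114 112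 111 108 112 110 9 107 109) (@D3.rec (fun _ => Nat) 107 10 115 110 110 109 117 112 111 108 106 115 110 11 109 109 8 109 109 107 109 107 9 8 111 108 106 106 110 9 8 8 109 109 111 110 9 110 113 110 108 9 112 20 10 106 10 10 111 110 112) (@D3.rec (fun _ => Nat) 113 114 111 11 110 109 11 112 11 111 112 110 108 8 8 8 8 8 108 110 108 109 9 9 9 106 108 9 9 9 111 10 10 10 10 10 10 10 110 106 111 107 11 11 11 115 111 11 11 111 110) (@D3.rec (fun _ => Nat) 110 11 11 11 110 20 20 20 10 10 10 10 10 10 10 10 10 10 10 10 111 114 110 113 112 111 112 110 113 112 112 11 11 11 11 11 11 11 109 111 109 11 11 112 11 11 111 110 5 6 110) (@D3.rec (fun _ => Nat) 11 11 110 112 111 107 109 106 111 110 12 111 106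 109 106 116 8 110 106 9 21 10 118 110 11 8 8 112 109 108 9 9 9 109 21 10 10 10 11 11 11 21 21 21 21 10 10 10 10 112 115) (@D3.rec (fun _ => Nat) 112 11 5 5 6 6 11 11 109 107 107 8 9 65 10 10 10 110 110 11 11 11 8 8 106 106 104 106 9 9 9 110 105 65 10 10 10 11 11 11 64 65 10 11 106 20 20 20 20 10 10) (@D3.rec (fun _ => Nat) 112 10 10 10 65 65 10 10 10 109 107 116 108 11 11 108 11 11 11 11 11 11 11 113 110 12 66 65 12 13 117 111 110 108 10 10 10 108 10 10 10 113 115 108 108 112 11 109 109 108 108)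
def lv_j_19 : D2 → D3 → Nat := @D2.rec (fun _ => D3 → Nat) (@D3.rec (fun _ => Nat) 108 108 110 11 11 11 106 106 118 108 113 11 11 11 20 109 20 20 20 10 109 10 10 4 5 5 10 10 10 107 11 105 107 103 113 109 11 107 11 5 5 6 6 11 11 11 5 5 58 6 112) (@D3.rec (fun _ => Nat) 12 12 6 7 13 13 107 109 107 20 20 20 106 106 112 110 20 20 20 12 12 12 12 108 12 12 12 12 12 4 5 5 12 12 12 12 5 5 6 6 108 12 12 12 13 110 107 111 114 109 13) (@D3.rec (fun _ => Nat) 13 13 117 4 109 5 5 13 107 13 13 107 13 108 13 119 108 112 5 5 6 6 6 13 13 13 111 13 114 6 6 7 7 7 13 13 13 5 59 6 12 6 62 65 7 12 12 12 6 13 7) (@D3.rec (fun _ => Nat) 105 13 13 13 13 63 67 107 117 14 14 14 107 105 15 116 108 113 110 114 113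 114 116 114 112 113 111 10 10 108 110 115 106 106 115 113 111 110 110 11 118 114 111 111 111 10 11 10 108 114 107) (@D3.rec (fun _ => Nat) 115 117 10 11 112 112 112 112 110 59 58 106 106 104 21 21 21 10 10 10 10 10 10 10 10 10 10 10 63 10 10 110 114 11 11 11 11 11 11 11 11 11 11 11 11 11 11 12 64 118 113) (@D3.rec (fun _ => Nat) 108 105 105 110 106 113 108 111 104 106 106 106 21 10 10 10 10 10 10 10 10 10 11 11 109 11 11 109 11 11 11 11 114 11 11 114 112 108 108 118 108 108 21 21 21 12 12 12 12 12 12) (@D3.rec (fun _ => Nat) 12 12 12 12 12 12 12 12 12 12 12 66 12 109 106 115 107 111 107 105 113 105 106 13 13 13 13 107 109 13 13 13 13 13 13 13 13 13 13 5 5 6 6 13 13 13 13 6 7 12 12) (@D3.rec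 (fun _ => Nat) 112 116 10 115 113 111 11 114 108 111 114 112 113 113 10 114 111 111 111 109 112 112 111 114 111 112 112 112 113 111 114 110 111 109 112 109 113 21 10 110 110 109 109 111 105 105 107 107 112 111 111) (@D3.rec (fun _ => Nat) 116 111 21 21 21 12 12 12 12 109 107 113 107 117 13 13 109 105 105 123 110 111 116 118 13 110 111 111 108 108 22 10 111 22 10 110 110 117 22 106 104 22 22 22 12 12 12 12 12 12 12) (@D3.rec (fun _ => Nat) 12 12 66 12 111 111 115 13 13 13 13 13 13 13 13 113 108 111 10 21 21 21 21 12 12 120 118 13 111 115 110 110 110 108 110 110 108 110 108 114 108 113 115 108 108 21 21 21 21 12 12) (@D3.rec (fun _ => Nat) 12 112 109 107 109 106 116 116 106 13 112 108 113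 105 105 113 107 117 13 5 5 6 6 106 112 114 6 7 21 21 21 112 110 21 21 21 12 12 12 12 12 12 12 59 12 12 60 6 7 119 114) (@D3.rec (fun _ => Nat) 119 106 13 13 13 112 110 118 107 107 117 105 114 116 107 115 6 6 7 115 13 13 13 7 110 117 108 111 10 10 111 112 11 108 11 112 115 118 117 10 111 108 11 10 113 5 6 108 109 109 113) (@D3.rec (fun _ => Nat) 111 110 107 8 8 112 112 112 112 108 113 112 112 9 9 9 105 10 10 10 10 66 10 10 10 105 11 11 11 11 11 11 11 11 109 63 66 10 11 116 10 10 10 10 10 110 66 66 10 10 10) (@D3.rec (fun _ => Nat) 107 107 107 114 109 109 109 109 105 105 119 109 109 11 11 11 11 11 11 107 11 11 11 12 12 111 67 66 12 13 107 107 107 107 105 8 9 112 107 107 10 10 10 113 116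 11 11 114 106 11 104) (@D3.rec (fun _ => Nat) 104 113 10 104 104 118 104 104 104 11 21 21 21 10 115 113 5 5 6 6 122 111 10 10 10 10 10 10 10 108 10 10 10 107 107 11 11 107 11 11 11 11 11 11 11 11 113 11 11 11 107) (@D3.rec (fun _ => Nat) 107 112 21 10 10 10 10 10 10 10 108 108 10 10 10 107 107 11 11 107 112 106 11 11 106 112 11 11 11 5 5 6 6 11 11 11 111 12 13 4 5 5 21 21 21 12 12 12 12 12 12) (@D3.rec (fun _ => Nat) 12 12 108 5 5 6 6 108 12 12 12 107 13 13 111 107 115 108 106 13 13 13 115 110 114 118 108 109 5 6 116 13 13 111 6 6 7 7 13 13 107 12 13 107 8 9 8 111 109 114 112) (@D3.rec (fun _ => Nat) 9 108 10 116 109 116 111 11 113 115 113 108 108 108 108 115 10 113 111 105 105 117 113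 109 108 108 117 110 11 109 116 10 113 110 117 109 114 119 111 108 108 113 117 109 117 10 111 109 110 105 109) (@D3.rec (fun _ => Nat) 109 11 8 106 109 108 106 106 111 112 9 10 10 113 111 111 111 115 11 110 110 118 110 11 112 21 10 116 10 10 116 111 109 110 114 112 110 11 110 110 11 118 112 111 110 110 10 10 10 10 10) (@D3.rec (fun _ => Nat) 10 108 108 108 108 109 11 108 11 11 11 108 108 0 11 11 11 117 10 10 10 10 10 10 10 10 107 110 115 113 114 11 11 11 11 110 110 112 11 11 113 111 110 11 11 111 111 21 21 21 12) (@D3.rec (fun _ => Nat) 12 12 12 12 12 12 12 12 12 12 12 12 108 116 110 110 112 110 113 110 112 115 112 113 113 113 114 13 13 13 13 111 13 13 108 13 13 108 111 107 110 109 13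 13 111 112 13 113 110 6 7) (@D3.rec (fun _ => Nat) 109 13 111 109 112 109 111 117 113 108 111 116 10 116 108 11 22 10 112 120 10 10 10 109 111 111 11 11 11 109 109 22 10 10 10 11 11 22 22 22 22 12 12 12 112 111 110 6 6 7 7) (@D3.rec (fun _ => Nat) 13 114 109 109 10 11 67 10 10 10 115 110 11 11 10 10 10 108 110 112 106 106 118 11 11 11 110 110 114 67 67 10 10 10 11 11 11 64 67 12 13 108 108 21 21 21 21 12 12 12 109) (@D3.rec (fun _ => Nat) 113 12 12 12 67 67 67 12 12 12 109 118 114 108 105 13 13 117 13 13 13 13 13 13 112 113 12 68 116 112 113 10 10 10 10 108 113 10 10 10 109 113 117 112 112 107 112 11 109 108 108) (@D3.rec (fun _ => Nat) 113 117 108 107 110 114 110 110 11 11 108 11 110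 108 118 113 113 11 11 11 21 109 112 21 21 21 12 113 12 12 5 5 6 6 106 12 12 12 121 13 105 116 111 113 113 13 117 6 6 7 7) (@D3.rec (fun _ => Nat) 7 13 13 13 6 60 7 12 12 7 8 13 107 13 120 118 107 106 21 21 110 21 113 106 112 112 21 21 21 12 12 12 12 110 110 12 12 12 12 12 5 5 6 6 6 12 12 12 12 6 6) (@D3.rec (fun _ => Nat) 7 7 7 108 12 12 12 13 107 118 111 114 118 13 13 115 5 5 109 109 6 6 6 13 107 13 13 13 107 13 111 108 117 115 119 113 6 6 6 7 7 7 13 13 116 13 112 7 7 7 8)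
def lv_j_20 : D2 → D3 → Nat := @D2.rec (fun _ => D3 → Nat) (@D3.rec (fun _ => Nat) 8 107 13 13 13 13 6 61 111 14 7 63 65 107 14 14 14 14 15 107 15 15 15 63 106 109 14 108 112 113 111 114 114 111 12 110 110 115 106 106 113 114 112 111 113 116 113 108 109 10 114) (@D3.rec (fun _ => Nat) 114 116 115 10 114 114 110 114 61 60 113 106 106 22 22 22 12 12 12 12 12 12 12 12 12 12 12 12 12 64 12 113 110 116 13 13 13 13 13 13 13 13 13 13 13 13 118 115 115 105 105) (@D3.rec (fun _ => Nat) 115 106 111 115 106 106 120 106 106 22 12 12 12 12 12 12 12 12 12 12 13 13 114 13 13 114 13 13 13 13 13 112 13 112 116 110 110 116 118 110 22 22 22 12 12 12 12 12 12 12 12) (@D3.rec (fun _ => Nat) 12 12 12 12 12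 12 114 12 12 12 12 66 115 108 117 111 109 113 107 111 109 110 13 13 13 109 109 13 13 13 13 13 13 13 13 13 13 6 6 7 7 13 13 7 109 113 10 115 115 113 109) (@D3.rec (fun _ => Nat) 116 108 108 111 114 114 115 113 114 114 111 113 114 111 113 112 112 113 114 114 114 112 112 111 113 111 110 110 22 108 108 112 111 105 105 122 107 107 112 110 118 111 22 22 12 12 12 116 109 113 115) (@D3.rec (fun _ => Nat) 117 13 109 118 112 110 110 110 108 118 118 111 23 23 114 114 23 116 106 23 23 23 12 12 12 12 12 12 12 12 68 115 111 113 13 13 13 13 13 13 113 115 22 22 22 22 12 118 114 113 114) (@D3.rec (fun _ => Nat) 107 114 110 113 110 108 117 110 112 115 113 108 108 22 22 22 22 12 12 112 109 109 116 106 112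 114 114 106 109 112 111 108 109 119 105 112 116 107 113 6 6 7 7 112 7 22 22 22 120 112 112) (@D3.rec (fun _ => Nat) 22 22 22 14 14 14 14 14 61 14 62 7 112 114 120 15 15 107 114 111 113 114 112 115 116 114 114 7 115 15 111 110 121 10 10 112 110 11 109 112 110 109 116 10 111 111 6 7 110 109 114) (@D3.rec (fun _ => Nat) 110 112 109 10 10 10 113 111 111 111 113 111 110 110 118 111 111 112 11 11 11 114 10 10 10 10 10 109 66 66 10 10 10 105 105 11 11 11 11 11 11 11 11 11 65 66 12 13 114 12 12) (@D3.rec (fun _ => Nat) 12 12 12 12 109 66 66 66 12 12 12 109 107 114 107 112 116 111 111 117 109 109 119 107 107 117 119 109 107 13 13 13 13 13 13 109 13 13 107 12 106 67 107 107 109 10 11 112 109 109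 116) (@D3.rec (fun _ => Nat) 10 10 10 115 111 11 11 112 114 106 106 113 10 118 106 116 117 114 111 22 22 22 115 6 6 7 7 109 10 10 10 10 10 10 10 10 10 10 116 110 111 10 10 10 109 107 11 11 11 107 11) (@D3.rec (fun _ => Nat) 11 11 11 11 11 11 11 11 112 11 11 11 109 112 114 114 22 12 12 12 12 12 12 12 110 108 108 12 12 12 118 109 13 13 110 114 108 13 13 13 108 112 13 13 6 6 7 7 13 13 13) (@D3.rec (fun _ => Nat) 12 109 5 5 6 6 113 22 22 22 12 12 12 12 12 12 12 110 6 6 7 7 108 12 12 115 13 13 115 107 113 115 119 13 13 113 115 116 118 109 6 7 13 109 7 7 8 13 13 111 107) (@D3.rec (fun _ => Nat) 14 10 11 10 116 111 118 113 11 116 10 114 116 113 118 112 115 110 115 113 108 111 115 110 113 10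 114 112 115 105 111 114 119 109 110 108 115 117 111 114 117 112 111 119 114 117 115 108 115 111 115) (@D3.rec (fun _ => Nat) 10 110 117 119 109 117 109 10 108 107 109 109 114 106 106 108 118 111 11 10 10 115 112 113 111 112 112 11 112 111 116 118 112 111 22 12 111 12 117 117 112 111 119 118 113 112 113 111 116 112 110) (@D3.rec (fun _ => Nat) 110 109 10 10 10 10 10 10 10 115 108 108 110 110 112 108 11 110 108 11 11 113 11 112 108 0 1 11 11 11 115 12 12 12 12 12 12 12 12 109 109 112 113 113 114 13 13 110 13 13 13) (@D3.rec (fun _ => Nat) 112 110 118 13 113 111 111 13 112 113 111 22 22 12 12 12 12 12 12 12 12 12 12 12 12 113 114 113 112 112 113 110 112 111 111 112 113 113 113 111 111 13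 13 110 13 13 13 111 13 13 108) (@D3.rec (fun _ => Nat) 110 105 13 117 113 111 109 110 110 13 119 114 114 111 118 7 109 118 115 109 112 116 111 115 10 114 116 23 112 10 10 10 112 111 111 11 11 11 116 111 23 12 12 13 23 23 23 23 12 7 7) (@D3.rec (fun _ => Nat) 8 114 115 109 10 67 12 12 113 112 115 13 10 10 10 112 108 106 110 110 106 106 11 11 11 114 112 112 67 67 67 12 12 12 13 13 13 66 12 108 110 22 22 22 22 12 12 12 118 112 12) (@D3.rec (fun _ => Nat) 12 12 67 67 68 67 12 12 118 116 117 107 13 13 13 115 13 13 114 13 116 112 112 113 12 12 12 12 115 113 12 12 12 114 111 115 116 117 107 114 112 109 108 13 110 110 108 113 113 114 107) (@D3.rec (fun _ => Nat) 119 116 116 112 113 13 13 13 108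 116 112 112 111 111 115 115 13 13 13 22 114 112 22 22 22 12 115 12 6 6 7 7 7 106 12 12 12 119 111 113 113 115 115 7 7 7 8 8 8 13 13) (@D3.rec (fun _ => Nat) 13 13 7 60 114 14 14 8 107 107 107 118 116 109 108 22 22 22 112 115 119 121 112 112 22 22 22 14 14 14 113 110 14 14 14 14 14 6 6 6 7 7 61 7 14 14 14 7 7 7 8) (@D3.rec (fun _ => Nat) 8 111 107 14 14 14 14 118 116 113 112 116 15 6 6 6 114 111 109 7 7 7 7 15 109 109 15 15 115 109 15 111 115 113 113 113 113 7 7 7 8 8 15 114 15 15 8 8 9 109 107) (@D3.rec (fun _ => Nat) 15 15 15 15 113 107 14 64 67 107 14 14 14 15 15 109 117 118 113 112 121 108 108 118 113 111 111 113 116 114 112 114 114 112 61 60 115 113 108 23 23 23 12 12 12 12 12 12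 12 12 117) (@D3.rec (fun _ => Nat) 12 12 12 12 65 116 113 110 112 13 13 13 13 13 13 13 13 13 113 116 107 112 114 108 113 120 106 108 118 120 108 12 12 12 12 12 12 12 12 12 12 13 13 13 109 13 113 13 13 13 13) (@D3.rec (fun _ => Nat) 13 116 110 110 110 116 110 23 23 23 14 14 14 14 14 14 14 14 14 14 14 111 14 14 109 14 14 68 115 109 113 111 113 111 111 109 112 15 120 111 111 15 15 15 15 15 15 15 15 7 7) (@D3.rec (fun _ => Nat) 8 113 113 111 111 111 113 110 115 113 112 112 114 115 113 112 112 113 113 112 112 113 110 110 112 112 110 113 119 111 111 110 108 112 116 107 107 121 109 110 118 23 14 116 113 110 110 116 114 110 114)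
def lv_j_21 : D2 → D3 → Nat := @D2.rec (fun _ => D3 → Nat) (@D3.rec (fun _ => Nat) 112 116 114 106 106 24 24 14 14 14 14 14 14 113 113 117 15 15 15 113 23 23 118 121 114 117 108 108 115 119 114 119 110 110 23 23 122 109 114 117 108 114 109 109 119 112 112 113 111 111 117) (@D3.rec (fun _ => Nat) 118 107 113 119 7 7 8 23 23 120 112 23 23 23 14 14 14 61 62 118 15 114 112 117 116 114 115 116 109 109 12 110 107 114 112 112 109 7 109 114 119 112 109 10 10 10 117 110 114 114 114) (@D3.rec (fun _ => Nat) 117 115 112 113 113 110 108 116 115 110 115 11 11 11 112 12 12 12 12 12 12 109 68 68 68 12 12 12 119 107 107 13 13 13 13 13 13 13 13 13 65 12 107 12 12 12 12 108 12 12 109) (@D3.rec (fun _ =>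 Nat) 68 68 69 68 12 12 116 109 112 116 114 115 111 113 115 111 111 111 117 119 107 109 117 111 109 13 13 13 109 13 109 13 111 109 114 10 114 116 109 114 12 12 113 115 115 13 114 115 106 106 114) (@D3.rec (fun _ => Nat) 117 106 114 111 23 23 23 7 7 8 12 12 12 12 12 12 12 12 12 12 12 12 118 115 113 110 12 12 12 114 109 13 13 110 13 119 13 13 13 13 13 13 13 13 13 13 109 13 13 13 114) (@D3.rec (fun _ => Nat) 114 113 112 114 114 12 12 12 12 12 12 12 120 110 110 12 12 12 118 109 109 13 112 112 117 108 13 13 110 108 13 7 7 8 13 13 109 6 6 7 7 7 113 23 23 23 14 14 14 14 14) (@D3.rec (fun _ => Nat) 111 7 7 8 116 14 14 115 15 115 117 115 15 113 114 116 7 109 8 15 107 111 10 10 114 118 115 120 114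 114 115 115 116 114 110 110 110 120 110 113 115 110 114 121 113 115 107 107 112 116 119) (@D3.rec (fun _ => Nat) 118 110 115 111 119 113 115 117 118 119 117 113 112 117 10 108 107 106 112 111 108 112 110 108 108 118 116 113 12 117 119 116 113 113 112 118 119 112 116 114 111 109 109 117 112 119 118 113 120 112 119) (@D3.rec (fun _ => Nat) 112 114 109 109 12 12 12 12 12 12 12 116 115 110 110 114 111 110 117 13 110 110 108 108 13 13 13 110 115 108 112 0 1 13 13 113 12 12 12 12 12 12 12 114 109 114 112 113 113 13 13) (@D3.rec (fun _ => Nat) 110 110 13 13 115 112 116 113 109 120 113 111 23 14 14 14 14 14 14 14 14 14 113 113 113 112 114 113 113 114 111 111 113 113 111 15 15 111 110 15 15 113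 114 114 15 117 113 110 107 115 115) (@D3.rec (fun _ => Nat) 117 112 113 112 108 119 120 114 114 118 115 117 119 116 12 12 12 112 113 13 13 112 111 114 12 24 24 8 113 118 12 118 115 12 12 12 114 110 110 108 108 108 108 108 13 13 13 114 112 116 69) (@D3.rec (fun _ => Nat) 69 66 69 12 12 12 13 13 66 119 110 110 23 23 14 14 14 116 116 109 14 14 69 70 69 14 116 111 118 107 15 15 110 15 116 114 118 12 12 12 12 113 115 115 12 12 12 115 114 111 111) (@D3.rec (fun _ => Nat) 115 115 114 114 110 112 110 110 110 110 110 108 115 116 116 117 114 114 115 110 120 13 13 110 112 113 113 106 118 118 115 115 13 13 13 13 112 114 114 23 23 111 114 7 7 7 8 8 113 111 14) (@D3.rec (fun _ => Nat) 14 14 14 111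 8 8 8 9 9 107 15 15 111 15 62 107 111 109 118 108 108 23 23 112 117 117 114 23 23 23 14 115 120 113 14 14 14 14 7 7 7 8 63 8 110 109 14 14 14 8 8) (@D3.rec (fun _ => Nat) 9 111 67 109 109 14 14 14 14 116 117 112 7 7 7 7 115 114 111 109 8 8 8 111 111 111 109 15 113 15 117 15 109 15 115 111 115 8 8 9 15 15 9 107 109 15 15 15 109 109 109) (@D3.rec (fun _ => Nat) 65 16 16 17 116 109 113 122 108 120 111 112 119 63 62 113 113 24 24 24 14 14 14 14 14 14 14 112 14 14 66 116 120 115 15 15 15 15 113 112 113 118 116 118 108 108 118 108 14 14 14) (@D3.rec (fun _ => Nat) 14 14 14 14 14 14 15 15 15 15 15 15 121 112 112 115 24 24 24 24 14 14 14 14 14 14 14 14 112 14 111 68 109 109 111 109 118 111 15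 15 15 15 15 8 113 115 111 110 111 113 115) (@D3.rec (fun _ => Nat) 113 112 114 114 115 115 112 113 112 112 112 110 112 119 121 113 116 107 123 109 121 116 116 116 108 25 25 14 14 14 121 117 15 15 24 24 119 115 108 117 118 110 24 24 116 112 113 113 109 111 111) (@D3.rec (fun _ => Nat) 115 116 110 113 111 113 112 114 119 8 24 24 122 114 24 24 24 16 63 114 116 115 109 112 112 112 117 111 109 12 12 12 115 117 113 113 117 113 118 117 113 113 114 114 115 112 110 108 116 117 114) (@D3.rec (fun _ => Nat) 13 13 13 12 12 12 12 111 12 12 109 68 68 67 68 12 12 12 115 120 107 109 13 13 13 108 13 13 13 109 67 14 14 14 111 14 109 68 69 68 14 116 118 116 115 115 116 114 117 111 111) (@D3.rec (fun _ =>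 Nat) 114 109 117 109 109 116 109 15 15 109 114 107 113 113 115 114 111 114 12 117 117 117 108 114 113 24 24 24 8 12 12 12 12 12 12 12 114 12 12 12 12 109 12 12 112 113 113 113 112 12 12) (@D3.rec (fun _ => Nat) 12 115 116 13 110 13 110 13 13 13 13 13 13 13 13 109 13 109 13 13 13 111 112 114 114 113 119 116 116 14 14 14 14 120 116 14 14 121 111 114 116 15 110 15 112 110 8 15 109 7 7) (@D3.rec (fun _ => Nat) 7 8 8 115 115 116 24 24 24 24 14 14 109 8 114 14 115 114 113 116 115 113 113 116 114 114 112 110 112 112 113 114 115 116 119 107 117 114 117 118 118 117 117 116 109 109 108 108 114 119 112) (@D3.rec (fun _ => Nat) 108 108 110 110 108 116 115 113 117 122 113 114 114 119 112 114 111 118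 117 119 118 112 111 114 112 12 12 12 12 12 12 114 110 117 111 112 111 115 108 112 108 110 112 13 13 110 115 115 111 114 0) (@D3.rec (fun _ => Nat) 1 13 13 115 113 14 14 14 14 112 116 114 111 15 110 113 112 15 115 15 114 114 116 113 14 14 14 14 14 111 114 111 111 111 109 111 15 111 111 111 109 15 113 15 117 116 115 114 115 113 117) (@D3.rec (fun _ => Nat) 112 115 110 115 117 112 120 114 115 12 12 110 13 13 119 116 25 25 116 120 117 12 12 12 112 112 112 115 112 108 108 110 13 13 13 120 118 69 68 69 68 14 14 15 117 112 24 24 14 14 114) (@D3.rec (fun _ => Nat) 118 14 70 69 113 114 112 15 15 116 114 116 14 14 120 115 115 14 14 14 14 117 121 114 111 113 112 112 112 108 108 110 110 110 108 114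 117 115 117 115 113 15 112 15 110 112 116 116 120 117 117)
def lv_j_22 : D2 → D3 → Nat := @D2.rec (fun _ => D3 → Nat) (@D3.rec (fun _ => Nat) 115 15 15 15 15 121 114 24 24 113 8 8 9 111 62 111 109 14 14 14 9 9 10 109 109 15 113 113 112 121 110 24 118 24 123 114 24 24 24 115 113 16 16 16 16 8 8 63 9 112 113) (@D3.rec (fun _ => Nat) 115 109 16 16 9 69 109 111 16 16 16 119 114 8 8 8 113 113 116 111 113 9 9 9 113 113 113 113 111 17 115 17 117 17 115 17 113 9 17 109 17 118 122 66 16 120 122 110 114 116 62) (@D3.rec (fun _ => Nat) 115 25 25 25 25 14 14 14 14 120 67 118 120 15 15 108 116 120 116 118 110 117 14 14 14 14 14 14 15 15 15 15 15 118 116 112 25 25 25 25 16 16 16 16 16 112 118 113 113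 116 113) (@D3.rec (fun _ => Nat) 17 17 17 113 111 113 113 111 117 112 117 112 112 110 115 110 121 113 118 109 121 118 118 120 108 26 16 16 121 119 17 25 122 112 25 115 115 113 114 113 118 115 117 113 113 114 114 117 25 118 25) (@D3.rec (fun _ => Nat) 25 120 116 111 114 113 12 12 12 115 117 110 110 111 114 118 117 117 114 114 112 115 110 112 110 115 121 13 13 13 109 14 14 14 111 14 111 70 67 70 67 14 14 117 119 109 112 15 15 15 112) (@D3.rec (fun _ => Nat) 110 15 109 14 14 111 109 71 70 116 113 116 111 116 114 122 116 113 111 111 116 116 116 109 111 111 107 113 115 117 117 118 108 115 113 25 25 25 25 14 14 14 14 14 14 110 14 14 14 14 112) (@D3.rec (fun _ => Nat) 14 120 120 115 112 112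 14 14 14 115 110 15 123 15 15 15 15 110 15 15 15 15 111 111 109 15 15 15 111 119 116 115 115 116 119 116 116 116 14 14 116 14 119 111 114 118 15 112 112 110 109) (@D3.rec (fun _ => Nat) 8 8 9 115 9 115 115 25 25 25 25 113 116 113 114 111 112 112 114 116 117 115 109 114 116 109 110 108 117 120 112 111 113 110 108 110 119 117 113 118 117 115 114 114 116 114 114 112 114 14 14) (@D3.rec (fun _ => Nat) 14 14 110 110 113 112 111 110 108 112 110 110 110 119 15 112 15 112 118 118 117 115 0 1 15 118 115 113 14 14 14 114 112 116 115 115 112 112 112 15 117 115 114 116 16 16 16 113 111 114 111) (@D3.rec (fun _ => Nat) 111 113 111 111 111 111 17 121 116 116 116 117 116 117 112 113 115 117 120 14 14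 15 119 116 26 113 14 14 14 114 108 112 112 112 112 108 15 15 15 112 118 68 71 68 14 117 112 25 16 16 116) (@D3.rec (fun _ => Nat) 116 114 112 17 114 118 14 14 122 117 117 14 14 14 14 119 119 119 119 114 114 112 119 119 112 114 110 117 112 115 122 15 112 114 114 112 112 113 120 117 117 15 15 15 113 15 121 116 25 118 113) (@D3.rec (fun _ => Nat) 9 64 111 109 16 10 109 115 109 113 117 110 25 119 25 25 119 121 16 16 16 16 9 120 109 111 113 16 67 109 16 118 9 9 9 113 109 113 113 113 10 115 113 113 113 113 113 17 115 17 113) (@D3.rec (fun _ => Nat) 17 120 17 118 120 114 114 26 26 26 26 16 16 118 17 115 118 116 120 16 16 16 16 16 17 17 17 122 26 26 26 26 16 16 16 120 115 118 17 17 115 113 112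 115 114 112 117 114 119 119 122) (@D3.rec (fun _ => Nat) 120 117 27 16 113 17 26 117 26 117 115 113 119 115 115 119 115 116 110 26 123 26 126 111 14 14 14 117 108 120 121 116 114 118 118 121 110 116 114 117 114 114 114 116 111 113 118 15 15 15 111) (@D3.rec (fun _ => Nat) 14 14 14 113 109 69 70 69 14 117 115 119 114 117 15 114 114 112 107 109 115 118 118 113 116 116 121 113 113 113 111 111 109 113 115 116 122 125 115 26 26 26 26 14 14 14 14 14 117 14 14) (@D3.rec (fun _ => Nat) 14 14 109 118 122 122 115 114 14 14 14 120 15 15 15 112 15 15 114 15 111 113 15 15 109 113 121 123 116 115 116 117 121 118 116 16 116 116 17 114 112 112 9 9 10 121 120 117 118 26 26) (@D3.rec (fun _ => Nat) 26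 118 26 113 111 118 114 112 112 114 115 113 122 108 111 110 114 110 114 114 115 114 110 121 116 122 117 116 117 114 112 14 14 14 119 121 119 116 108 108 112 115 113 15 114 116 116 112 118 118 117) (@D3.rec (fun _ => Nat) 1 15 118 123 115 16 113 113 115 114 114 17 121 117 119 16 114 113 113 113 113 113 113 17 118 124 115 124 117 116 115 14 15 112 27 124 14 14 14 114 114 114 110 114 114 15 15 123 70 117 26) (@D3.rec (fun _ => Nat) 16 116 114 114 17 116 16 117 122 117 16 16 16 16 117 117 114 110 116 114 116 119 114 117 17 114 114 113 118 125 117 17 115 17 115 117 26 118 109 115 121 26 123 26 115 18 18 18 18 120 111) (@D3.rec (fun _ => Nat) 119 10 115 115 115 115 115 11 115 117 115 115 115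 112 19 115 19 123 111 27 27 27 27 16 17 111 118 16 16 16 17 17 119 27 27 18 18 119 118 19 120 114 114 123 122 122 123 116 18 124 119) (@D3.rec (fun _ => Nat) 118 115 117 119 117 116 117 122 14 14 14 118 119 116 116 119 120 112 116 114 116 114 120 114 114 114 113 15 15 109 111 16 121 69 119 114 114 112 17 114 112 112 115 115 115 113 116 119 120 115 113) (@D3.rec (fun _ => Nat) 113 113 115 121 121 119 27 27 27 27 16 16 116 16 16 16 109 16 124 117 114 16 16 17 17 112 112 17 17 114 116 113 17 115 123 121 121 117 118 123 122 114 118 16 118 113 116 112 10 11 123) (@D3.rec (fun _ => Nat) 119 27 122 27 116 114 121 116 118 118 110 120 116 116 110 114 127 124 117 115 119 16 16 116 118 115 113 115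 113 17 114 116 116 116 120 117 118 123 16 116 115 119 117 114 123 119 18 124 119 113 113) (@D3.rec (fun _ => Nat) 113 113 120 124 115 122 16 123 16 16 120 116 116 17 125 117 18 120 116 113 16 124 118 16 16 117 120 116 116 121 114 115 113 126 17 117 125 119 119 128 18 18 11 121 117 115 119 117 115 112 19) (@D3.rec (fun _ => Nat) 28 28 18 118 18 18 28 18 122 125 118 117 120 16 16 116 118 114 117 114 118 120 116 116 116 118 116 115 17 117 16 117 116 114 114 116 114 121 115 117 117 119 113 120 115 115 28 28 16 16 16) (@D3.rec (fun _ => Nat) 16 118 119 16 17 114 17 114 120 117 123 123 117 125 125 118 11 125 119 122 28 120 124 121 122 129 116 119 117 16 121 117 115 124 124 118 118 120 121 119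 130 119 117 115 112 124 16 129 118 117 118) (@D3.rec (fun _ => Nat) 18 122 118 124 130 20 119 119 120 29 117 16 121 114 117 120 120 116 118 120 119 114 118 121 119 117 123 29 18 18 124 120 120 123 119 114 130 127 123 121 119 122 122 131 119 118 123 120 131 118 123)
def lv_j : Pt → Nat := @Pt.rec (fun _ => Nat) (@D1.rec (fun _ => D2 → D3 → Nat) lv_j_0 lv_j_1 lv_j_2 lv_j_3 lv_j_4 lv_j_5 lv_j_6 lv_j_7 lv_j_8 lv_j_9 lv_j_10 lv_j_11 lv_j_12 lv_j_13 lv_j_14 lv_j_15 lv_j_16 lv_j_17 lv_j_18 lv_j_19 lv_j_20 lv_j_21 lv_j_22)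
abbrev lc_j_Cert_tree : Cert rels S Gen.j := Cert.tree
abbrev lc_j_rc_17_1 : Cert rels S Gen.j := rc_17_1
abbrev lc_j_rc_17_3 : Cert rels S Gen.j := rc_17_3
abbrev lc_j_rc_25_1 : Cert rels S Gen.j := rc_25_1
abbrev lc_j_rc_25_3 : Cert rels S Gen.j := rc_25_3
abbrev lc_j_rc_32_1 : Cert rels S Gen.j := rc_32_1
abbrev lc_j_rc_32_3 : Cert rels S Gen.j := rc_32_3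
abbrev lc_j_rc_38_1 : Cert rels S Gen.j := rc_38_1
abbrev lc_j_rc_38_3 : Cert rels S Gen.j := rc_38_3
abbrev lc_j_rc_45_1 : Cert rels S Gen.j := rc_45_1
abbrev lc_j_rc_45_3 : Cert rels S Gen.j := rc_45_3
abbrev lc_j_rc_49_1 : Cert rels S Gen.j := rc_49_1
abbrev lc_j_rc_49_3 : Cert rels S Gen.j := rc_49_3
abbrev lc_j_rc_49_5 : Cert rels S Gen.j := rc_49_5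
abbrev lc_j_rc_51_0 : Cert rels S Gen.j := rc_51_0
abbrev lc_j_rc_51_2 : Cert rels S Gen.j := rc_51_2
abbrev lc_j_rc_52_0 : Cert rels S Gen.j := rc_52_0
abbrev lc_j_rc_52_1 : Cert rels S Gen.j := rc_52_1
abbrev lc_j_rc_53_0 : Cert rels S Gen.j := rc_53_0
abbrev lc_j_rc_53_2 : Cert rels S Gen.j := rc_53_2
abbrev lc_j_rc_8_1 : Cert rels S Gen.j := rc_8_1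
abbrev lc_j_rc_8_3 : Cert rels S Gen.j := rc_8_3
def ce_j_0 : D2 → D3 → (Cert rels S Gen.j) := @D2.rec (fun _ => D3 → (Cert rels S Gen.j)) (@D3.rec (fun _ => (Cert rels S Gen.j)) lc_j_Cert_tree lc_j_rc_52_0 lc_j_rc_49_3 lc_j_rc_45_1 lc_j_rc_38_1 lc_j_rc_32_1 lc_j_rc_25_1 lc_j_rc_51_2 lc_j_rc_17_1 lc_j_rc_25_1 lc_j_rc_53_2 lc_j_rc_8_1 lc_j_rc_17_1 lc_j_rc_32_1 lc_j_rc_25_1 lc_j_rc_8_1 lc_j_rc_17_1 lc_j_rc_17_1 lc_j_rc_38_1 lc_j_rc_32_1 lc_j_rc_8_1 lc_j_rc_8_1 lc_j_rc_25_1 lc_j_rc_17_1 lc_j_rc_17_1 lc_j_rc_45_1 lc_j_rc_38_1 lc_j_rc_51_2 lc_j_rc_8_1 lc_j_rc_8_1 lc_j_rc_8_1 lc_j_rc_25_1 lc_j_rc_25_1 lc_j_rc_17_1 lc_j_rc_17_1 lc_j_rc_17_1 lc_j_Cert_tree lc_j_rc_45_1 lc_j_rc_51_2 lc_j_rc_17_1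 lc_j_rc_8_1 lc_j_rc_8_1 lc_j_rc_8_1 lc_j_rc_8_1 lc_j_rc_8_1 lc_j_rc_32_1 lc_j_rc_25_1 lc_j_rc_25_1 lc_j_rc_25_1 lc_j_Cert_tree lc_j_rc_17_1) (@D3.rec (fun _ => (Cert rels S Gen.j)) lc_j_rc_17_1 lc_j_rc_52_0 lc_j_rc_53_2 lc_j_rc_51_2 lc_j_rc_32_1 lc_j_rc_17_1 lc_j_rc_17_1 lc_j_rc_8_1 lc_j_rc_8_1 lc_j_rc_8_1 lc_j_rc_8_1 lc_j_Cert_tree lc_j_rc_8_1 lc_j_rc_8_1 lc_j_rc_32_1 lc_j_rc_51_2 lc_j_rc_32_1 lc_j_Cert_tree lc_j_rc_25_1 lc_j_rc_25_1 lc_j_rc_32_1 lc_j_rc_52_0 lc_j_rc_53_2 lc_j_rc_17_1 lc_j_rc_32_1 lc_j_rc_53_2 lc_j_rc_51_2 lc_j_rc_32_1 lc_j_rc_25_1 lc_j_rc_17_1 lc_j_rc_17_1 lc_j_rc_17_1 lc_j_rc_17_1 lc_j_rc_8_1 lc_j_rc_8_1 lc_j_rc_8_1 lc_j_Cert_tree lc_j_rc_8_1 lc_j_rc_8_1 lc_j_rc_8_1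 lc_j_rc_52_0 lc_j_rc_53_2 lc_j_rc_8_1 lc_j_rc_8_1 lc_j_rc_38_1 lc_j_Cert_tree lc_j_rc_49_5 lc_j_rc_32_1 lc_j_rc_53_2 lc_j_rc_51_2 lc_j_rc_52_0) (@D3.rec (fun _ => (Cert rels S Gen.j)) lc_j_rc_53_2 lc_j_rc_25_1 lc_j_rc_32_1 lc_j_rc_38_1 lc_j_rc_53_2 lc_j_rc_51_2 lc_j_rc_32_1 lc_j_rc_25_1 lc_j_rc_51_2 lc_j_rc_32_1 lc_j_rc_25_1 lc_j_rc_38_1 lc_j_rc_17_1 lc_j_rc_25_1 lc_j_rc_17_1 lc_j_rc_17_1 lc_j_rc_17_1 lc_j_Cert_tree lc_j_rc_17_1 lc_j_rc_17_1 lc_j_rc_17_1 lc_j_rc_8_1 lc_j_Cert_tree lc_j_rc_8_1 lc_j_rc_8_1 lc_j_rc_8_1 lc_j_rc_8_1 lc_j_rc_52_0 lc_j_rc_53_2 lc_j_rc_8_1 lc_j_rc_8_1 lc_j_rc_8_1 lc_j_rc_53_2 lc_j_rc_51_2 lc_j_rc_8_1 lc_j_rc_25_1 lc_j_Cert_tree lc_j_rc_49_5 lc_j_rc_38_1 lc_j_rc_52_0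 lc_j_rc_52_1 lc_j_rc_53_2 lc_j_rc_53_2 lc_j_rc_49_5 lc_j_rc_53_2 lc_j_rc_51_2 lc_j_rc_53_2 lc_j_rc_51_2 lc_j_rc_32_1 lc_j_rc_25_1 lc_j_rc_38_1) (@D3.rec (fun _ => (Cert rels S Gen.j)) lc_j_rc_45_1 lc_j_rc_51_2 lc_j_rc_32_1 lc_j_rc_25_1 lc_j_rc_38_1 lc_j_rc_17_1 lc_j_rc_32_1 lc_j_rc_25_1 lc_j_rc_38_1 lc_j_rc_17_1 lc_j_rc_25_1 lc_j_rc_8_1 lc_j_rc_25_1 lc_j_rc_25_1 lc_j_rc_25_1 lc_j_rc_17_1 lc_j_Cert_tree lc_j_rc_17_1 lc_j_rc_17_1 lc_j_rc_17_1 lc_j_rc_17_1 lc_j_rc_52_0 lc_j_rc_53_2 lc_j_rc_17_1 lc_j_rc_17_1 lc_j_rc_25_1 lc_j_rc_17_1 lc_j_Cert_tree lc_j_rc_8_1 lc_j_rc_8_1 lc_j_rc_52_0 lc_j_rc_52_1 lc_j_rc_53_2 lc_j_rc_8_1 lc_j_rc_8_1 lc_j_rc_8_1 lc_j_rc_8_1 lc_j_rc_53_2 lc_j_rc_51_2 lc_j_rc_8_1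 lc_j_rc_25_1 lc_j_rc_8_1 lc_j_rc_8_1 lc_j_rc_51_2 lc_j_rc_32_1 lc_j_rc_25_1 lc_j_rc_8_1 lc_j_rc_17_1 lc_j_Cert_tree lc_j_rc_52_0 lc_j_rc_52_1) (@D3.rec (fun _ => (Cert rels S Gen.j)) lc_j_rc_53_2 lc_j_rc_32_1 lc_j_rc_53_2 lc_j_rc_49_5 lc_j_rc_51_2 lc_j_rc_53_2 lc_j_rc_53_2 lc_j_rc_51_2 lc_j_rc_53_2 lc_j_rc_51_2 lc_j_rc_53_2 lc_j_rc_25_1 lc_j_rc_51_2 lc_j_rc_51_2 lc_j_rc_32_1 lc_j_rc_25_1 lc_j_rc_38_1 lc_j_rc_17_1 lc_j_rc_25_1 lc_j_rc_45_1 lc_j_Cert_tree lc_j_rc_32_1 lc_j_rc_25_1 lc_j_rc_38_1 lc_j_rc_17_1 lc_j_rc_25_1 lc_j_rc_8_1 lc_j_rc_25_1 lc_j_rc_38_1 lc_j_rc_17_1 lc_j_rc_25_1 lc_j_rc_45_1 lc_j_rc_8_1 lc_j_rc_17_1 lc_j_rc_32_1 lc_j_rc_25_1 lc_j_Cert_tree lc_j_rc_25_1 lc_j_rc_25_1 lc_j_rc_32_1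 lc_j_rc_25_1 lc_j_rc_25_1 lc_j_Cert_tree lc_j_rc_17_1 lc_j_rc_17_1 lc_j_rc_52_0 lc_j_rc_52_1 lc_j_rc_53_2 lc_j_rc_17_1 lc_j_rc_17_1 lc_j_rc_17_1) (@D3.rec (fun _ => (Cert rels S Gen.j)) lc_j_rc_17_1 lc_j_rc_53_2 lc_j_rc_51_2 lc_j_rc_17_1 lc_j_rc_25_1 lc_j_rc_17_1 lc_j_rc_25_1 lc_j_rc_17_1 lc_j_Cert_tree lc_j_rc_52_0 lc_j_rc_52_1 lc_j_rc_53_2 lc_j_rc_32_1 lc_j_rc_8_1 lc_j_rc_8_1 lc_j_rc_51_2 lc_j_rc_53_2 lc_j_rc_53_2 lc_j_rc_51_2 lc_j_rc_8_1 lc_j_rc_8_1 lc_j_rc_8_1 lc_j_rc_25_1 lc_j_rc_8_1 lc_j_rc_51_2 lc_j_rc_32_1 lc_j_rc_25_1 lc_j_rc_8_1 lc_j_rc_17_1 lc_j_rc_25_1 lc_j_rc_8_1 lc_j_Cert_tree lc_j_rc_32_1 lc_j_rc_25_1 lc_j_rc_38_1 lc_j_rc_17_1 lc_j_rc_25_1 lc_j_rc_8_1 lc_j_rc_52_0 lc_j_rc_52_1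 lc_j_rc_53_2 lc_j_rc_51_2 lc_j_rc_53_2 lc_j_rc_32_1 lc_j_rc_53_2 lc_j_rc_51_2 lc_j_rc_25_1 lc_j_rc_32_1 lc_j_rc_53_2 lc_j_rc_32_1 lc_j_rc_53_2) (@D3.rec (fun _ => (Cert rels S Gen.j)) lc_j_rc_51_2 lc_j_rc_51_2 lc_j_rc_32_1 lc_j_rc_53_2 lc_j_rc_25_1 lc_j_rc_51_2 lc_j_rc_25_1 lc_j_rc_53_2 lc_j_rc_17_1 lc_j_rc_25_1 lc_j_rc_51_2 lc_j_rc_32_1 lc_j_rc_25_1 lc_j_rc_38_1 lc_j_rc_17_1 lc_j_rc_25_1 lc_j_rc_45_1 lc_j_rc_8_1 lc_j_rc_17_1 lc_j_rc_25_1 lc_j_Cert_tree lc_j_rc_52_0 lc_j_rc_25_1 lc_j_rc_38_1 lc_j_rc_17_1 lc_j_rc_25_1 lc_j_rc_45_1 lc_j_rc_8_1 lc_j_rc_17_1 lc_j_rc_32_1 lc_j_rc_17_1 lc_j_rc_25_1 lc_j_rc_45_1 lc_j_rc_8_1 lc_j_rc_17_1 lc_j_rc_32_1 lc_j_rc_25_1 lc_j_rc_8_1 lc_j_rc_17_1 lc_j_rc_49_5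 lc_j_rc_32_1 lc_j_Cert_tree lc_j_rc_25_1 lc_j_rc_25_1 lc_j_rc_52_0 lc_j_rc_52_1 lc_j_rc_53_2 lc_j_rc_32_1 lc_j_rc_25_1 lc_j_rc_25_1 lc_j_rc_38_1) (@D3.rec (fun _ => (Cert rels S Gen.j)) lc_j_rc_32_1 lc_j_rc_25_1 lc_j_rc_32_1 lc_j_Cert_tree lc_j_rc_52_0 lc_j_rc_52_1 lc_j_rc_53_2 lc_j_rc_32_1 lc_j_rc_17_1 lc_j_rc_17_1 lc_j_rc_51_2 lc_j_rc_53_2 lc_j_rc_53_2 lc_j_rc_51_2 lc_j_rc_17_1 lc_j_rc_17_1 lc_j_rc_17_1 lc_j_rc_25_1 lc_j_rc_17_1 lc_j_rc_51_2 lc_j_rc_32_1 lc_j_rc_25_1 lc_j_rc_17_1 lc_j_rc_17_1 lc_j_rc_25_1 lc_j_rc_17_1 lc_j_rc_32_1 lc_j_rc_25_1 lc_j_Cert_tree lc_j_rc_52_0 lc_j_rc_52_1 lc_j_rc_53_2 lc_j_rc_51_2 lc_j_rc_53_2 lc_j_rc_32_1 lc_j_rc_53_2 lc_j_rc_51_2 lc_j_rc_25_1 lc_j_rc_32_1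 lc_j_rc_8_1 lc_j_rc_32_1 lc_j_rc_53_2 lc_j_rc_51_2 lc_j_rc_51_2 lc_j_rc_32_1 lc_j_rc_8_1 lc_j_rc_25_1 lc_j_rc_8_1 lc_j_rc_25_1 lc_j_rc_8_1 lc_j_rc_17_1) (@D3.rec (fun _ => (Cert rels S Gen.j)) lc_j_rc_25_1 lc_j_rc_8_1 lc_j_rc_32_1 lc_j_rc_25_1 lc_j_rc_38_1 lc_j_rc_17_1 lc_j_rc_25_1 lc_j_rc_8_1 lc_j_rc_8_1 lc_j_rc_17_1 lc_j_rc_25_1 lc_j_Cert_tree lc_j_rc_52_0 lc_j_rc_25_1 lc_j_rc_38_1 lc_j_rc_17_1 lc_j_rc_25_1 lc_j_rc_45_1 lc_j_rc_8_1 lc_j_rc_17_1 lc_j_rc_32_1 lc_j_rc_49_3 lc_j_rc_51_2 lc_j_rc_53_2 lc_j_rc_32_1 lc_j_rc_53_2 lc_j_rc_51_2 lc_j_rc_32_1 lc_j_rc_53_2 lc_j_rc_51_2 lc_j_rc_25_1 lc_j_rc_53_2 lc_j_rc_51_2 lc_j_rc_32_1 lc_j_rc_17_1 lc_j_rc_25_1 lc_j_rc_49_5 lc_j_rc_32_1 lc_j_rc_25_1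 lc_j_rc_32_1 lc_j_rc_51_2 lc_j_rc_32_1 lc_j_rc_32_1 lc_j_rc_25_1 lc_j_rc_38_1 lc_j_rc_25_1 lc_j_rc_53_2 lc_j_rc_17_1 lc_j_rc_25_1 lc_j_rc_51_2 lc_j_rc_17_1) (@D3.rec (fun _ => (Cert rels S Gen.j)) lc_j_rc_25_1 lc_j_rc_53_2 lc_j_rc_8_1 lc_j_rc_17_1 lc_j_rc_32_1 lc_j_rc_25_1 lc_j_Cert_tree lc_j_rc_25_1 lc_j_rc_38_1 lc_j_rc_17_1 lc_j_rc_25_1 lc_j_rc_45_1 lc_j_rc_8_1 lc_j_rc_17_1 lc_j_rc_32_1 lc_j_rc_25_1 lc_j_Cert_tree lc_j_rc_8_1 lc_j_rc_17_1 lc_j_Cert_tree lc_j_rc_52_0 lc_j_rc_17_1 lc_j_rc_25_1 lc_j_rc_45_1 lc_j_rc_8_1 lc_j_rc_17_1 lc_j_rc_32_1 lc_j_rc_25_1 lc_j_rc_8_1 lc_j_rc_17_1 lc_j_rc_49_5 lc_j_rc_8_1 lc_j_rc_17_1 lc_j_rc_32_1 lc_j_rc_25_1 lc_j_rc_49_3 lc_j_rc_8_1 lc_j_rc_17_1 lc_j_rc_17_1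 lc_j_rc_32_1 lc_j_rc_51_2 lc_j_rc_8_1 lc_j_Cert_tree lc_j_rc_32_1 lc_j_Cert_tree lc_j_rc_52_0 lc_j_rc_52_1 lc_j_rc_53_2 lc_j_rc_25_1 lc_j_rc_25_1 lc_j_rc_51_2) (@D3.rec (fun _ => (Cert rels S Gen.j)) lc_j_rc_53_2 lc_j_rc_32_1 lc_j_rc_53_2 lc_j_rc_51_2 lc_j_rc_32_1 lc_j_rc_25_1 lc_j_rc_32_1 lc_j_rc_38_1 lc_j_rc_51_2 lc_j_rc_32_1 lc_j_rc_32_1 lc_j_rc_38_1 lc_j_rc_52_0 lc_j_rc_52_1 lc_j_rc_53_2 lc_j_rc_51_2 lc_j_rc_53_2 lc_j_rc_32_1 lc_j_rc_53_2 lc_j_rc_51_2 lc_j_rc_32_1 lc_j_rc_17_1 lc_j_rc_32_1 lc_j_rc_53_2 lc_j_rc_51_2 lc_j_rc_51_2 lc_j_rc_32_1 lc_j_rc_17_1 lc_j_rc_25_1 lc_j_rc_17_1 lc_j_rc_25_1 lc_j_rc_17_1 lc_j_rc_17_1 lc_j_rc_25_1 lc_j_rc_17_1 lc_j_rc_32_1 lc_j_rc_25_1 lc_j_rc_38_1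 lc_j_rc_17_1 lc_j_rc_25_1 lc_j_rc_17_1 lc_j_rc_8_1 lc_j_rc_17_1 lc_j_rc_32_1 lc_j_rc_25_1 lc_j_Cert_tree lc_j_rc_32_1 lc_j_rc_51_2 lc_j_Cert_tree lc_j_rc_52_0 lc_j_rc_8_1) (@D3.rec (fun _ => (Cert rels S Gen.j)) lc_j_rc_51_2 lc_j_rc_53_2 lc_j_rc_32_1 lc_j_rc_53_2 lc_j_rc_51_2 lc_j_rc_32_1 lc_j_rc_53_2 lc_j_rc_51_2 lc_j_rc_25_1 lc_j_rc_53_2 lc_j_rc_51_2 lc_j_rc_32_1 lc_j_rc_25_1 lc_j_rc_49_5 lc_j_rc_32_1 lc_j_rc_25_1 lc_j_rc_32_1 lc_j_rc_51_2 lc_j_rc_32_1 lc_j_rc_32_1 lc_j_rc_25_1 lc_j_rc_38_1 lc_j_rc_25_1 lc_j_rc_8_1 lc_j_rc_17_1 lc_j_rc_25_1 lc_j_rc_8_1 lc_j_rc_17_1 lc_j_rc_25_1 lc_j_rc_8_1 lc_j_rc_8_1 lc_j_rc_17_1 lc_j_rc_32_1 lc_j_rc_25_1 lc_j_Cert_tree lc_j_rc_25_1 lc_j_rc_38_1 lc_j_rc_17_1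 lc_j_rc_25_1 lc_j_rc_45_1 lc_j_rc_8_1 lc_j_rc_17_1 lc_j_rc_32_1 lc_j_rc_25_1 lc_j_Cert_tree lc_j_rc_8_1 lc_j_rc_17_1 lc_j_Cert_tree lc_j_rc_52_0 lc_j_rc_17_1 lc_j_rc_25_1) (@D3.rec (fun _ => (Cert rels S Gen.j)) lc_j_rc_45_1 lc_j_rc_8_1 lc_j_rc_17_1 lc_j_rc_32_1 lc_j_rc_25_1 lc_j_rc_8_1 lc_j_rc_17_1 lc_j_rc_49_5 lc_j_rc_49_3 lc_j_rc_49_3 lc_j_rc_32_1 lc_j_rc_53_2 lc_j_rc_51_2 lc_j_rc_25_1 lc_j_rc_38_1 lc_j_rc_53_2 lc_j_rc_51_2 lc_j_rc_32_1 lc_j_rc_25_1 lc_j_rc_53_2 lc_j_rc_51_2 lc_j_rc_32_1 lc_j_rc_17_1 lc_j_rc_25_1 lc_j_rc_51_2 lc_j_rc_32_1 lc_j_rc_25_1 lc_j_rc_38_1 lc_j_rc_49_5 lc_j_rc_25_1 lc_j_rc_32_1 lc_j_rc_17_1 lc_j_rc_25_1 lc_j_rc_32_1 lc_j_rc_32_1 lc_j_rc_25_1 lc_j_rc_38_1 lc_j_rc_25_1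 lc_j_rc_38_1 lc_j_rc_17_1 lc_j_rc_25_1 lc_j_rc_45_1 lc_j_rc_17_1 lc_j_rc_25_1 lc_j_rc_53_2 lc_j_rc_8_1 lc_j_rc_17_1 lc_j_rc_32_1 lc_j_rc_25_1 lc_j_Cert_tree lc_j_rc_8_1) (@D3.rec (fun _ => (Cert rels S Gen.j)) lc_j_rc_17_1 lc_j_rc_32_1 lc_j_rc_25_1 lc_j_Cert_tree lc_j_rc_8_1 lc_j_rc_17_1 lc_j_rc_17_1 lc_j_rc_32_1 lc_j_Cert_tree lc_j_rc_52_0 lc_j_rc_17_1 lc_j_rc_25_1 lc_j_rc_45_1 lc_j_rc_8_1 lc_j_rc_17_1 lc_j_rc_32_1 lc_j_rc_25_1 lc_j_Cert_tree lc_j_rc_8_1 lc_j_rc_17_1 lc_j_rc_17_1 lc_j_rc_32_1 lc_j_rc_49_5 lc_j_Cert_tree lc_j_rc_52_0 lc_j_rc_8_1 lc_j_Cert_tree lc_j_rc_52_0 lc_j_rc_8_1 lc_j_rc_17_1 lc_j_rc_32_1 lc_j_rc_25_1 lc_j_rc_49_3 lc_j_rc_8_1 lc_j_rc_17_1 lc_j_rc_17_1 lc_j_rc_32_1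 lc_j_rc_51_2 lc_j_rc_8_1 lc_j_rc_8_1 lc_j_rc_17_1 lc_j_rc_17_1 lc_j_rc_32_1 lc_j_rc_51_2 lc_j_rc_25_1 lc_j_rc_8_1 lc_j_rc_8_1 lc_j_rc_17_1 lc_j_rc_38_1 lc_j_rc_51_2 lc_j_Cert_tree) (@D3.rec (fun _ => (Cert rels S Gen.j)) lc_j_rc_52_0 lc_j_rc_53_2 lc_j_rc_49_5 lc_j_rc_52_0 lc_j_rc_52_1 lc_j_rc_53_2 lc_j_rc_51_2 lc_j_rc_53_2 lc_j_rc_53_2 lc_j_rc_51_2 lc_j_rc_25_1 lc_j_rc_32_1 lc_j_rc_32_1 lc_j_rc_53_2 lc_j_rc_51_2 lc_j_rc_53_2 lc_j_rc_51_2 lc_j_rc_32_1 lc_j_rc_49_5 lc_j_rc_32_1 lc_j_rc_32_1 lc_j_rc_38_1 lc_j_rc_51_2 lc_j_rc_51_2 lc_j_rc_32_1 lc_j_rc_38_1 lc_j_rc_17_1 lc_j_rc_38_1 lc_j_rc_45_1 lc_j_rc_17_1 lc_j_rc_51_2 lc_j_rc_53_2 lc_j_rc_32_1 lc_j_rc_53_2 lc_j_rc_51_2 lc_j_rc_32_1 lc_j_rc_53_2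 lc_j_rc_51_2 lc_j_rc_53_2 lc_j_rc_51_2 lc_j_rc_32_1 lc_j_rc_49_5 lc_j_rc_32_1 lc_j_rc_25_1 lc_j_rc_32_1 lc_j_rc_51_2 lc_j_rc_32_1 lc_j_rc_32_1 lc_j_rc_25_1 lc_j_rc_38_1 lc_j_rc_25_1) (@D3.rec (fun _ => (Cert rels S Gen.j)) lc_j_rc_17_1 lc_j_rc_17_1 lc_j_rc_25_1 lc_j_rc_17_1 lc_j_rc_17_1 lc_j_rc_25_1 lc_j_rc_17_1 lc_j_rc_8_1 lc_j_rc_17_1 lc_j_rc_32_1 lc_j_rc_25_1 lc_j_Cert_tree lc_j_rc_25_1 lc_j_rc_38_1 lc_j_rc_17_1 lc_j_rc_25_1 lc_j_rc_45_1 lc_j_rc_8_1 lc_j_rc_17_1 lc_j_rc_32_1 lc_j_rc_25_1 lc_j_Cert_tree lc_j_rc_8_1 lc_j_rc_17_1 lc_j_rc_17_1 lc_j_rc_32_1 lc_j_rc_51_2 lc_j_Cert_tree lc_j_rc_52_0 lc_j_rc_38_1 lc_j_Cert_tree lc_j_rc_49_5 lc_j_rc_53_2 lc_j_rc_52_0 lc_j_rc_8_1 lc_j_rc_8_1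 lc_j_rc_32_1 lc_j_rc_53_2 lc_j_rc_51_2 lc_j_rc_25_1 lc_j_rc_38_1 lc_j_rc_53_2 lc_j_rc_51_2 lc_j_rc_32_1 lc_j_rc_25_1 lc_j_rc_53_2 lc_j_rc_51_2 lc_j_rc_32_1 lc_j_rc_25_1 lc_j_rc_51_2 lc_j_rc_32_1) (@D3.rec (fun _ => (Cert rels S Gen.j)) lc_j_rc_25_1 lc_j_rc_38_1 lc_j_rc_49_5 lc_j_rc_25_1 lc_j_rc_32_1 lc_j_rc_17_1 lc_j_rc_25_1 lc_j_rc_32_1 lc_j_rc_32_1 lc_j_rc_25_1 lc_j_rc_38_1 lc_j_rc_25_1 lc_j_rc_38_1 lc_j_rc_17_1 lc_j_rc_25_1 lc_j_rc_45_1 lc_j_rc_17_1 lc_j_rc_25_1 lc_j_rc_8_1 lc_j_rc_8_1 lc_j_rc_17_1 lc_j_rc_32_1 lc_j_rc_25_1 lc_j_Cert_tree lc_j_rc_8_1 lc_j_rc_17_1 lc_j_rc_32_1 lc_j_rc_25_1 lc_j_Cert_tree lc_j_rc_8_1 lc_j_rc_17_1 lc_j_rc_17_1 lc_j_rc_32_1 lc_j_Cert_tree lc_j_rc_52_0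 lc_j_rc_17_1 lc_j_rc_25_1 lc_j_rc_45_1 lc_j_rc_8_1 lc_j_rc_17_1 lc_j_rc_32_1 lc_j_rc_25_1 lc_j_Cert_tree lc_j_rc_8_1 lc_j_rc_17_1 lc_j_rc_17_1 lc_j_rc_32_1 lc_j_rc_49_5 lc_j_Cert_tree lc_j_rc_52_0 lc_j_rc_8_1) (@D3.rec (fun _ => (Cert rels S Gen.j)) lc_j_Cert_tree lc_j_rc_52_0 lc_j_rc_8_1 lc_j_rc_17_1 lc_j_rc_32_1 lc_j_rc_25_1 lc_j_rc_8_1 lc_j_rc_8_1 lc_j_rc_17_1 lc_j_rc_17_1 lc_j_rc_32_1 lc_j_rc_51_2 lc_j_rc_8_1 lc_j_rc_25_1 lc_j_rc_17_1 lc_j_rc_53_2 lc_j_rc_32_1 lc_j_rc_53_2 lc_j_rc_49_3 lc_j_rc_25_1 lc_j_rc_38_1 lc_j_rc_53_2 lc_j_rc_51_2 lc_j_rc_32_1 lc_j_rc_17_1 lc_j_rc_25_1 lc_j_rc_25_1 lc_j_rc_53_2 lc_j_rc_51_2 lc_j_rc_32_1 lc_j_rc_25_1 lc_j_rc_38_1 lc_j_rc_17_1 lc_j_rc_25_1 lc_j_rc_51_2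 lc_j_rc_32_1 lc_j_rc_25_1 lc_j_rc_38_1 lc_j_rc_32_1 lc_j_rc_25_1 lc_j_rc_38_1 lc_j_rc_17_1 lc_j_rc_25_1 lc_j_rc_45_1 lc_j_rc_49_5 lc_j_rc_25_1 lc_j_rc_32_1 lc_j_rc_17_1 lc_j_rc_25_1 lc_j_rc_25_1 lc_j_Cert_tree) (@D3.rec (fun _ => (Cert rels S Gen.j)) lc_j_rc_25_1 lc_j_rc_38_1 lc_j_rc_17_1 lc_j_rc_25_1 lc_j_rc_45_1 lc_j_rc_17_1 lc_j_rc_25_1 lc_j_rc_45_1 lc_j_rc_8_1 lc_j_rc_17_1 lc_j_rc_32_1 lc_j_rc_25_1 lc_j_Cert_tree lc_j_rc_8_1 lc_j_rc_17_1 lc_j_rc_32_1 lc_j_rc_25_1 lc_j_Cert_tree lc_j_rc_8_1 lc_j_rc_17_1 lc_j_rc_17_1 lc_j_rc_32_1 lc_j_rc_51_2 lc_j_Cert_tree lc_j_rc_52_0 lc_j_rc_8_1 lc_j_rc_17_1 lc_j_rc_17_1 lc_j_rc_32_1 lc_j_rc_51_2 lc_j_Cert_tree lc_j_rc_52_0 lc_j_rc_8_1 lc_j_rc_8_1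 lc_j_rc_25_1 lc_j_rc_17_1 lc_j_Cert_tree lc_j_rc_38_1 lc_j_Cert_tree lc_j_rc_52_0 lc_j_rc_8_1 lc_j_rc_17_1 lc_j_rc_32_1 lc_j_rc_25_1 lc_j_Cert_tree lc_j_rc_8_1 lc_j_rc_17_1 lc_j_rc_17_1 lc_j_rc_32_1 lc_j_rc_51_2 lc_j_Cert_tree) (@D3.rec (fun _ => (Cert rels S Gen.j)) lc_j_rc_52_0 lc_j_rc_8_1 lc_j_rc_8_1 lc_j_rc_17_1 lc_j_Cert_tree lc_j_Cert_tree lc_j_rc_49_5 lc_j_rc_52_0 lc_j_Cert_tree lc_j_rc_52_0 lc_j_rc_8_1 lc_j_rc_17_1 lc_j_rc_17_1 lc_j_rc_32_1 lc_j_rc_51_2 lc_j_rc_25_1 lc_j_rc_8_1 lc_j_rc_8_1 lc_j_rc_17_1 lc_j_rc_38_1 lc_j_rc_51_2 lc_j_rc_8_1 lc_j_rc_8_1 lc_j_rc_17_1 lc_j_rc_17_1 lc_j_rc_38_1 lc_j_rc_32_1 lc_j_rc_51_2 lc_j_rc_8_1 lc_j_rc_17_1 lc_j_rc_51_2 lc_j_Cert_tree lc_j_rc_52_0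 lc_j_rc_53_2 lc_j_rc_53_2 lc_j_rc_51_2 lc_j_rc_49_5 lc_j_rc_25_1 lc_j_rc_51_2 lc_j_rc_53_2 lc_j_rc_53_2 lc_j_rc_51_2 lc_j_rc_53_2 lc_j_rc_51_2 lc_j_rc_51_2 lc_j_rc_32_1 lc_j_rc_32_1 lc_j_rc_25_1 lc_j_rc_38_1 lc_j_rc_53_2 lc_j_rc_51_2) (@D3.rec (fun _ => (Cert rels S Gen.j)) lc_j_rc_32_1 lc_j_rc_51_2 lc_j_rc_32_1 lc_j_rc_25_1 lc_j_rc_38_1 lc_j_rc_49_5 lc_j_rc_32_1 lc_j_rc_38_1 lc_j_rc_17_1 lc_j_rc_38_1 lc_j_rc_45_1 lc_j_rc_32_1 lc_j_rc_51_2 lc_j_rc_51_2 lc_j_rc_17_1 lc_j_rc_38_1 lc_j_rc_45_1 lc_j_rc_8_1 lc_j_rc_17_1 lc_j_rc_38_1 lc_j_rc_45_1 lc_j_Cert_tree lc_j_rc_17_1 lc_j_rc_17_1 lc_j_rc_32_1 lc_j_rc_53_2 lc_j_rc_51_2 lc_j_rc_38_1 lc_j_rc_53_2 lc_j_rc_51_2 lc_j_rc_32_1 lc_j_rc_53_2 lc_j_rc_51_2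 lc_j_rc_32_1 lc_j_rc_51_2 lc_j_rc_32_1 lc_j_rc_25_1 lc_j_rc_38_1 lc_j_rc_49_5 lc_j_rc_25_1 lc_j_rc_32_1 lc_j_rc_17_1 lc_j_rc_25_1 lc_j_rc_32_1 lc_j_rc_32_1 lc_j_rc_25_1 lc_j_rc_38_1 lc_j_rc_25_1 lc_j_rc_38_1 lc_j_rc_17_1 lc_j_rc_25_1) (@D3.rec (fun _ => (Cert rels S Gen.j)) lc_j_rc_45_1 lc_j_rc_17_1 lc_j_rc_25_1 lc_j_rc_17_1 lc_j_rc_8_1 lc_j_rc_17_1 lc_j_rc_32_1 lc_j_rc_25_1 lc_j_Cert_tree lc_j_rc_8_1 lc_j_rc_17_1 lc_j_rc_32_1 lc_j_rc_25_1 lc_j_Cert_tree lc_j_rc_8_1 lc_j_rc_17_1 lc_j_rc_17_1 lc_j_rc_32_1 lc_j_rc_51_2 lc_j_Cert_tree lc_j_rc_52_0 lc_j_rc_17_1 lc_j_rc_25_1 lc_j_rc_45_1 lc_j_rc_8_1 lc_j_rc_17_1 lc_j_rc_32_1 lc_j_rc_25_1 lc_j_Cert_tree lc_j_rc_8_1 lc_j_rc_17_1 lc_j_rc_17_1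 lc_j_rc_32_1 lc_j_rc_49_5 lc_j_Cert_tree lc_j_rc_52_0 lc_j_rc_8_1 lc_j_rc_8_1 lc_j_rc_17_1 lc_j_rc_17_1 lc_j_Cert_tree lc_j_rc_38_1 lc_j_Cert_tree lc_j_rc_49_5 lc_j_rc_53_2 lc_j_rc_52_0 lc_j_Cert_tree lc_j_rc_49_5 lc_j_rc_52_0 lc_j_rc_52_1 lc_j_rc_53_2) (@D3.rec (fun _ => (Cert rels S Gen.j)) lc_j_rc_32_1 lc_j_rc_8_1 lc_j_rc_8_1 lc_j_rc_25_1 lc_j_rc_38_1 lc_j_rc_53_2 lc_j_rc_51_2 lc_j_rc_32_1 lc_j_rc_25_1 lc_j_rc_25_1 lc_j_rc_53_2 lc_j_rc_51_2 lc_j_rc_32_1 lc_j_rc_25_1 lc_j_rc_38_1 lc_j_rc_25_1 lc_j_rc_51_2 lc_j_rc_32_1 lc_j_rc_25_1 lc_j_rc_38_1 lc_j_rc_32_1 lc_j_rc_25_1 lc_j_rc_38_1 lc_j_rc_17_1 lc_j_rc_25_1 lc_j_rc_45_1 lc_j_rc_49_5 lc_j_rc_17_1 lc_j_rc_25_1 lc_j_rc_32_1 lc_j_rc_8_1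 lc_j_rc_17_1 lc_j_rc_25_1 lc_j_rc_25_1 lc_j_Cert_tree lc_j_rc_25_1 lc_j_rc_38_1 lc_j_rc_17_1 lc_j_rc_25_1 lc_j_rc_45_1 lc_j_rc_17_1 lc_j_rc_25_1 lc_j_rc_45_1 lc_j_rc_8_1 lc_j_rc_17_1 lc_j_rc_32_1 lc_j_rc_25_1 lc_j_Cert_tree lc_j_rc_8_1 lc_j_rc_17_1 lc_j_rc_32_1) (@D3.rec (fun _ => (Cert rels S Gen.j)) lc_j_rc_25_1 lc_j_Cert_tree lc_j_rc_8_1 lc_j_rc_17_1 lc_j_rc_17_1 lc_j_rc_32_1 lc_j_rc_51_2 lc_j_Cert_tree lc_j_rc_52_0 lc_j_rc_8_1 lc_j_rc_17_1 lc_j_rc_17_1 lc_j_rc_32_1 lc_j_rc_51_2 lc_j_Cert_tree lc_j_rc_52_0 lc_j_rc_8_1 lc_j_rc_8_1 lc_j_rc_25_1 lc_j_rc_17_1 lc_j_Cert_tree lc_j_rc_38_1 lc_j_Cert_tree lc_j_rc_52_0 lc_j_rc_8_1 lc_j_rc_17_1 lc_j_rc_32_1 lc_j_rc_25_1 lc_j_Cert_tree lc_j_rc_8_1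 lc_j_rc_17_1 lc_j_rc_17_1 lc_j_rc_32_1 lc_j_rc_51_2 lc_j_Cert_tree lc_j_rc_52_0 lc_j_rc_8_1 lc_j_rc_8_1 lc_j_rc_25_1 lc_j_rc_17_1 lc_j_rc_17_1 lc_j_Cert_tree lc_j_Cert_tree lc_j_rc_49_5 lc_j_rc_53_2 lc_j_rc_52_0 lc_j_Cert_tree lc_j_rc_52_0 lc_j_rc_8_1 lc_j_rc_17_1 lc_j_rc_17_1) (@D3.rec (fun _ => (Cert rels S Gen.j)) lc_j_rc_32_1 lc_j_rc_51_2 lc_j_rc_25_1 lc_j_rc_8_1 lc_j_rc_8_1 lc_j_rc_25_1 lc_j_rc_17_1 lc_j_rc_17_1 lc_j_rc_38_1 lc_j_rc_51_2 lc_j_rc_53_2 lc_j_rc_8_1 lc_j_rc_25_1 lc_j_rc_25_1 lc_j_rc_38_1 lc_j_rc_32_1 lc_j_rc_53_2 lc_j_rc_32_1 lc_j_rc_17_1 lc_j_rc_25_1 lc_j_rc_25_1 lc_j_rc_53_2 lc_j_rc_51_2 lc_j_rc_32_1 lc_j_rc_25_1 lc_j_rc_38_1 lc_j_rc_17_1 lc_j_rc_32_1 lc_j_rc_25_1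 lc_j_rc_51_2 lc_j_rc_32_1 lc_j_rc_25_1 lc_j_rc_38_1 lc_j_rc_17_1 lc_j_rc_25_1 lc_j_rc_45_1 lc_j_rc_32_1 lc_j_rc_25_1 lc_j_rc_38_1 lc_j_rc_17_1 lc_j_rc_25_1 lc_j_rc_45_1 lc_j_rc_38_1 lc_j_rc_25_1 lc_j_rc_45_1 lc_j_rc_17_1 lc_j_rc_32_1 lc_j_rc_25_1 lc_j_Cert_tree lc_j_rc_51_2 lc_j_rc_25_1) (@D3.rec (fun _ => (Cert rels S Gen.j)) lc_j_rc_25_1 lc_j_Cert_tree lc_j_rc_17_1 lc_j_rc_17_1 lc_j_rc_25_1 lc_j_rc_25_1 lc_j_Cert_tree lc_j_rc_52_0 lc_j_rc_17_1 lc_j_rc_25_1 lc_j_rc_45_1 lc_j_rc_8_1 lc_j_rc_17_1 lc_j_rc_32_1 lc_j_rc_25_1 lc_j_Cert_tree lc_j_rc_8_1 lc_j_rc_17_1 lc_j_rc_32_1 lc_j_rc_25_1 lc_j_Cert_tree lc_j_rc_8_1 lc_j_rc_17_1 lc_j_rc_17_1 lc_j_rc_32_1 lc_j_rc_51_2 lc_j_Cert_tree lc_j_rc_52_0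 lc_j_rc_8_1 lc_j_rc_17_1 lc_j_rc_17_1 lc_j_rc_32_1 lc_j_rc_51_2 lc_j_Cert_tree lc_j_rc_52_0 lc_j_rc_8_1 lc_j_rc_8_1 lc_j_rc_17_1 lc_j_Cert_tree lc_j_rc_38_1 lc_j_Cert_tree lc_j_rc_51_2 lc_j_rc_52_0 lc_j_rc_8_1 lc_j_rc_8_1 lc_j_rc_25_1 lc_j_rc_17_1 lc_j_rc_17_1 lc_j_Cert_tree lc_j_rc_38_1 lc_j_Cert_tree) (@D3.rec (fun _ => (Cert rels S Gen.j)) lc_j_rc_51_2 lc_j_rc_52_0 lc_j_rc_8_1 lc_j_rc_8_1 lc_j_Cert_tree lc_j_rc_25_1 lc_j_rc_17_1 lc_j_Cert_tree lc_j_rc_52_0 lc_j_Cert_tree lc_j_rc_52_0 lc_j_rc_8_1 lc_j_rc_17_1 lc_j_rc_17_1 lc_j_rc_32_1 lc_j_rc_51_2 lc_j_Cert_tree lc_j_rc_52_0 lc_j_rc_8_1 lc_j_rc_8_1 lc_j_rc_17_1 lc_j_Cert_tree lc_j_rc_38_1 lc_j_Cert_tree lc_j_rc_51_2 lc_j_rc_52_0 lc_j_rc_8_1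 lc_j_Cert_tree lc_j_Cert_tree lc_j_rc_52_0 lc_j_rc_52_0 lc_j_rc_52_1 lc_j_rc_52_0 lc_j_rc_8_1 lc_j_rc_8_1 lc_j_rc_17_1 lc_j_rc_17_1 lc_j_rc_38_1 lc_j_rc_32_1 lc_j_rc_51_2 lc_j_rc_8_1 lc_j_rc_17_1 lc_j_rc_51_2 lc_j_rc_8_1 lc_j_rc_8_1 lc_j_rc_17_1 lc_j_rc_17_1 lc_j_rc_38_1 lc_j_rc_51_2 lc_j_rc_49_3 lc_j_rc_8_1)
def ce_j_1 : D2 → D3 → (Cert rels S Gen.j) := @D2.rec (fun _ => D3 → (Cert rels S Gen.j)) (@D3.rec (fun _ => (Cert rels S Gen.j)) lc_j_rc_32_1 lc_j_rc_52_0 lc_j_rc_53_2 lc_j_rc_32_1 lc_j_rc_53_2 lc_j_rc_51_2 lc_j_rc_51_2 lc_j_rc_32_1 lc_j_rc_25_1 lc_j_rc_49_5 lc_j_rc_25_1 lc_j_rc_25_1 lc_j_rc_53_2 lc_j_rc_51_2 lc_j_rc_51_2 lc_j_rc_32_1 lc_j_rc_51_2 lc_j_rc_32_1 lc_j_rc_32_1 lc_j_rc_25_1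 lc_j_rc_38_1 lc_j_rc_25_1 lc_j_rc_38_1 lc_j_rc_17_1 lc_j_rc_25_1 lc_j_rc_45_1 lc_j_rc_51_2 lc_j_rc_32_1 lc_j_rc_25_1 lc_j_rc_38_1 lc_j_rc_32_1 lc_j_rc_25_1 lc_j_rc_38_1 lc_j_rc_17_1 lc_j_rc_25_1 lc_j_rc_45_1 lc_j_rc_51_2 lc_j_rc_49_5 lc_j_rc_17_1 lc_j_rc_38_1 lc_j_rc_45_1 lc_j_rc_8_1 lc_j_rc_17_1 lc_j_rc_38_1 lc_j_rc_45_1 lc_j_Cert_tree lc_j_rc_25_1 lc_j_rc_32_1 lc_j_rc_17_1 lc_j_rc_51_2 lc_j_rc_51_2) (@D3.rec (fun _ => (Cert rels S Gen.j)) lc_j_rc_8_1 lc_j_rc_17_1 lc_j_rc_38_1 lc_j_rc_45_1 lc_j_Cert_tree lc_j_rc_8_1 lc_j_rc_17_1 lc_j_rc_17_1 lc_j_rc_45_1 lc_j_rc_51_2 lc_j_Cert_tree lc_j_rc_52_0 lc_j_rc_32_1 lc_j_rc_17_1 lc_j_rc_17_1 lc_j_rc_38_1 lc_j_rc_53_2 lc_j_rc_51_2 lc_j_rc_32_1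 lc_j_rc_53_2 lc_j_rc_51_2 lc_j_rc_32_1 lc_j_rc_25_1 lc_j_rc_38_1 lc_j_rc_51_2 lc_j_rc_32_1 lc_j_rc_25_1 lc_j_rc_38_1 lc_j_rc_32_1 lc_j_rc_25_1 lc_j_rc_38_1 lc_j_rc_17_1 lc_j_rc_25_1 lc_j_rc_45_1 lc_j_rc_25_1 lc_j_rc_49_5 lc_j_rc_17_1 lc_j_rc_25_1 lc_j_rc_32_1 lc_j_rc_8_1 lc_j_rc_17_1 lc_j_rc_25_1 lc_j_rc_25_1 lc_j_Cert_tree lc_j_rc_25_1 lc_j_rc_38_1 lc_j_rc_17_1 lc_j_rc_25_1 lc_j_rc_45_1 lc_j_rc_17_1 lc_j_rc_25_1) (@D3.rec (fun _ => (Cert rels S Gen.j)) lc_j_rc_45_1 lc_j_rc_8_1 lc_j_rc_17_1 lc_j_rc_32_1 lc_j_rc_25_1 lc_j_Cert_tree lc_j_rc_8_1 lc_j_rc_17_1 lc_j_rc_32_1 lc_j_rc_25_1 lc_j_Cert_tree lc_j_rc_8_1 lc_j_rc_17_1 lc_j_rc_17_1 lc_j_rc_32_1 lc_j_rc_51_2 lc_j_Cert_tree lc_j_rc_52_0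 lc_j_rc_8_1 lc_j_rc_17_1 lc_j_rc_17_1 lc_j_rc_32_1 lc_j_rc_51_2 lc_j_Cert_tree lc_j_rc_52_0 lc_j_rc_8_1 lc_j_rc_8_1 lc_j_rc_25_1 lc_j_rc_17_1 lc_j_rc_17_1 lc_j_Cert_tree lc_j_rc_38_1 lc_j_Cert_tree lc_j_rc_51_2 lc_j_rc_53_2 lc_j_rc_52_0 lc_j_rc_8_1 lc_j_rc_17_1 lc_j_rc_32_1 lc_j_rc_25_1 lc_j_Cert_tree lc_j_rc_8_1 lc_j_rc_17_1 lc_j_rc_17_1 lc_j_rc_32_1 lc_j_rc_51_2 lc_j_Cert_tree lc_j_rc_52_0 lc_j_rc_8_1 lc_j_rc_8_1 lc_j_rc_25_1) (@D3.rec (fun _ => (Cert rels S Gen.j)) lc_j_rc_17_1 lc_j_rc_17_1 lc_j_Cert_tree lc_j_rc_38_1 lc_j_Cert_tree lc_j_rc_49_5 lc_j_rc_53_2 lc_j_rc_52_0 lc_j_rc_8_1 lc_j_rc_8_1 lc_j_Cert_tree lc_j_rc_17_1 lc_j_Cert_tree lc_j_rc_17_1 lc_j_rc_17_1 lc_j_rc_52_0 lc_j_Cert_tree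 lc_j_rc_49_5 lc_j_rc_52_0 lc_j_rc_52_1 lc_j_rc_53_2 lc_j_Cert_tree lc_j_rc_52_0 lc_j_rc_52_1 lc_j_rc_32_1 lc_j_rc_53_2 lc_j_rc_51_2 lc_j_rc_53_2 lc_j_rc_25_1 lc_j_rc_38_1 lc_j_rc_32_1 lc_j_rc_8_1 lc_j_rc_32_1 lc_j_rc_25_1 lc_j_rc_25_1 lc_j_rc_53_2 lc_j_rc_51_2 lc_j_rc_32_1 lc_j_rc_25_1 lc_j_rc_38_1 lc_j_rc_32_1 lc_j_rc_25_1 lc_j_rc_51_2 lc_j_rc_32_1 lc_j_rc_25_1 lc_j_rc_38_1 lc_j_rc_17_1 lc_j_rc_25_1 lc_j_rc_45_1 lc_j_rc_32_1 lc_j_rc_25_1) (@D3.rec (fun _ => (Cert rels S Gen.j)) lc_j_rc_38_1 lc_j_rc_17_1 lc_j_rc_25_1 lc_j_rc_45_1 lc_j_rc_38_1 lc_j_rc_17_1 lc_j_rc_25_1 lc_j_rc_45_1 lc_j_rc_8_1 lc_j_rc_17_1 lc_j_rc_32_1 lc_j_rc_25_1 lc_j_Cert_tree lc_j_rc_51_2 lc_j_rc_17_1 lc_j_rc_25_1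 lc_j_rc_25_1 lc_j_Cert_tree lc_j_rc_8_1 lc_j_rc_17_1 lc_j_rc_17_1 lc_j_rc_25_1 lc_j_rc_25_1 lc_j_Cert_tree lc_j_rc_52_0 lc_j_rc_17_1 lc_j_rc_25_1 lc_j_rc_45_1 lc_j_rc_8_1 lc_j_rc_17_1 lc_j_rc_32_1 lc_j_rc_25_1 lc_j_Cert_tree lc_j_rc_8_1 lc_j_rc_17_1 lc_j_rc_32_1 lc_j_rc_25_1 lc_j_Cert_tree lc_j_rc_8_1 lc_j_rc_17_1 lc_j_rc_17_1 lc_j_rc_32_1 lc_j_rc_51_2 lc_j_Cert_tree lc_j_rc_52_0 lc_j_rc_8_1 lc_j_rc_17_1 lc_j_rc_17_1 lc_j_rc_32_1 lc_j_rc_51_2 lc_j_Cert_tree) (@D3.rec (fun _ => (Cert rels S Gen.j)) lc_j_rc_52_0 lc_j_rc_8_1 lc_j_rc_8_1 lc_j_rc_25_1 lc_j_rc_17_1 lc_j_rc_17_1 lc_j_Cert_tree lc_j_rc_38_1 lc_j_Cert_tree lc_j_rc_51_2 lc_j_rc_53_2 lc_j_rc_52_0 lc_j_rc_8_1 lc_j_rc_8_1 lc_j_rc_25_1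 lc_j_rc_17_1 lc_j_rc_17_1 lc_j_Cert_tree lc_j_rc_38_1 lc_j_Cert_tree lc_j_rc_51_2 lc_j_rc_52_0 lc_j_rc_8_1 lc_j_rc_8_1 lc_j_Cert_tree lc_j_rc_25_1 lc_j_rc_17_1 lc_j_Cert_tree lc_j_rc_52_0 lc_j_Cert_tree lc_j_rc_52_0 lc_j_rc_8_1 lc_j_rc_17_1 lc_j_rc_17_1 lc_j_rc_32_1 lc_j_rc_51_2 lc_j_Cert_tree lc_j_rc_52_0 lc_j_rc_8_1 lc_j_rc_8_1 lc_j_rc_25_1 lc_j_rc_17_1 lc_j_rc_17_1 lc_j_Cert_tree lc_j_rc_38_1 lc_j_Cert_tree lc_j_rc_51_2 lc_j_rc_53_2 lc_j_rc_52_0 lc_j_rc_8_1 lc_j_rc_8_1) (@D3.rec (fun _ => (Cert rels S Gen.j)) lc_j_Cert_tree lc_j_rc_25_1 lc_j_rc_25_1 lc_j_Cert_tree lc_j_rc_17_1 lc_j_rc_52_0 lc_j_rc_52_0 lc_j_rc_52_1 lc_j_rc_53_2 lc_j_rc_52_0 lc_j_rc_8_1 lc_j_rc_8_1 lc_j_rc_25_1 lc_j_rc_17_1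 lc_j_rc_17_1 lc_j_rc_17_1 lc_j_rc_38_1 lc_j_rc_32_1 lc_j_rc_51_2 lc_j_rc_53_2 lc_j_rc_8_1 lc_j_rc_8_1 lc_j_rc_25_1 lc_j_rc_25_1 lc_j_rc_17_1 lc_j_rc_17_1 lc_j_rc_51_2 lc_j_rc_53_2 lc_j_rc_32_1 lc_j_rc_17_1 lc_j_rc_25_1 lc_j_rc_25_1 lc_j_rc_45_1 lc_j_rc_38_1 lc_j_rc_49_3 lc_j_rc_32_1 lc_j_rc_25_1 lc_j_rc_38_1 lc_j_rc_17_1 lc_j_rc_32_1 lc_j_rc_25_1 lc_j_rc_51_2 lc_j_rc_32_1 lc_j_rc_25_1 lc_j_rc_38_1 lc_j_rc_17_1 lc_j_rc_25_1 lc_j_rc_45_1 lc_j_rc_17_1 lc_j_rc_51_2 lc_j_rc_32_1) (@D3.rec (fun _ => (Cert rels S Gen.j)) lc_j_rc_32_1 lc_j_rc_38_1 lc_j_rc_25_1 lc_j_rc_45_1 lc_j_rc_17_1 lc_j_rc_32_1 lc_j_rc_25_1 lc_j_Cert_tree lc_j_rc_38_1 lc_j_rc_25_1 lc_j_rc_45_1 lc_j_rc_17_1 lc_j_rc_32_1 lc_j_rc_25_1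 lc_j_Cert_tree lc_j_rc_45_1 lc_j_rc_32_1 lc_j_rc_25_1 lc_j_Cert_tree lc_j_rc_17_1 lc_j_rc_17_1 lc_j_rc_32_1 lc_j_rc_51_2 lc_j_Cert_tree lc_j_rc_52_0 lc_j_Cert_tree lc_j_rc_25_1 lc_j_Cert_tree lc_j_rc_52_0 lc_j_rc_25_1 lc_j_rc_17_1 lc_j_rc_17_1 lc_j_Cert_tree lc_j_rc_25_1 lc_j_Cert_tree lc_j_rc_25_1 lc_j_rc_52_0 lc_j_rc_8_1 lc_j_rc_17_1 lc_j_rc_32_1 lc_j_rc_25_1 lc_j_Cert_tree lc_j_rc_8_1 lc_j_rc_17_1 lc_j_rc_17_1 lc_j_rc_32_1 lc_j_rc_51_2 lc_j_Cert_tree lc_j_rc_52_0 lc_j_rc_8_1 lc_j_rc_17_1) (@D3.rec (fun _ => (Cert rels S Gen.j)) lc_j_rc_17_1 lc_j_rc_32_1 lc_j_rc_51_2 lc_j_Cert_tree lc_j_rc_52_0 lc_j_rc_8_1 lc_j_rc_8_1 lc_j_rc_17_1 lc_j_Cert_tree lc_j_rc_38_1 lc_j_Cert_tree lc_j_rc_51_2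 lc_j_rc_52_0 lc_j_rc_8_1 lc_j_rc_8_1 lc_j_rc_17_1 lc_j_Cert_tree lc_j_rc_38_1 lc_j_Cert_tree lc_j_rc_51_2 lc_j_rc_52_0 lc_j_rc_8_1 lc_j_Cert_tree lc_j_rc_17_1 lc_j_Cert_tree lc_j_rc_52_0 lc_j_Cert_tree lc_j_rc_51_2 lc_j_rc_52_0 lc_j_rc_52_1 lc_j_rc_8_1 lc_j_rc_8_1 lc_j_rc_8_1 lc_j_Cert_tree lc_j_rc_25_1 lc_j_rc_25_1 lc_j_rc_17_1 lc_j_Cert_tree lc_j_rc_17_1 lc_j_rc_52_0 lc_j_Cert_tree lc_j_rc_51_2 lc_j_rc_52_0 lc_j_rc_52_1 lc_j_rc_17_1 lc_j_rc_8_1 lc_j_rc_8_1 lc_j_Cert_tree lc_j_rc_52_0 lc_j_rc_25_1 lc_j_Cert_tree) (@D3.rec (fun _ => (Cert rels S Gen.j)) lc_j_Cert_tree lc_j_rc_52_0 lc_j_Cert_tree lc_j_rc_52_0 lc_j_rc_8_1 lc_j_rc_8_1 lc_j_rc_17_1 lc_j_Cert_tree lc_j_rc_38_1 lc_j_Cert_tree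 lc_j_rc_51_2 lc_j_rc_52_0 lc_j_rc_8_1 lc_j_Cert_tree lc_j_rc_17_1 lc_j_Cert_tree lc_j_rc_52_0 lc_j_Cert_tree lc_j_rc_51_2 lc_j_rc_52_0 lc_j_rc_52_1 lc_j_Cert_tree lc_j_rc_52_0 lc_j_rc_52_0 lc_j_rc_51_2 lc_j_rc_8_1 lc_j_rc_8_1 lc_j_rc_17_1 lc_j_rc_17_1 lc_j_rc_38_1 lc_j_rc_51_2 lc_j_rc_49_3 lc_j_rc_8_1 lc_j_rc_32_1 lc_j_rc_8_1 lc_j_rc_8_1 lc_j_rc_17_1 lc_j_rc_45_1 lc_j_rc_49_3 lc_j_rc_32_1 lc_j_rc_25_1 lc_j_rc_38_1 lc_j_rc_53_2 lc_j_rc_51_2 lc_j_rc_32_1 lc_j_rc_51_2 lc_j_rc_32_1 lc_j_rc_32_1 lc_j_rc_25_1 lc_j_rc_38_1 lc_j_rc_17_1) (@D3.rec (fun _ => (Cert rels S Gen.j)) lc_j_rc_25_1 lc_j_rc_51_2 lc_j_rc_25_1 lc_j_rc_25_1 lc_j_rc_51_2 lc_j_rc_32_1 lc_j_rc_32_1 lc_j_rc_25_1 lc_j_rc_38_1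 lc_j_rc_32_1 lc_j_rc_25_1 lc_j_rc_38_1 lc_j_rc_25_1 lc_j_rc_38_1 lc_j_rc_17_1 lc_j_rc_25_1 lc_j_rc_45_1 lc_j_rc_17_1 lc_j_rc_25_1 lc_j_rc_45_1 lc_j_rc_8_1 lc_j_rc_17_1 lc_j_rc_25_1 lc_j_rc_25_1 lc_j_Cert_tree lc_j_rc_32_1 lc_j_rc_25_1 lc_j_rc_38_1 lc_j_rc_17_1 lc_j_rc_25_1 lc_j_rc_45_1 lc_j_rc_25_1 lc_j_rc_38_1 lc_j_rc_17_1 lc_j_rc_25_1 lc_j_rc_45_1 lc_j_rc_8_1 lc_j_rc_17_1 lc_j_rc_32_1 lc_j_rc_25_1 lc_j_Cert_tree lc_j_rc_17_1 lc_j_rc_51_2 lc_j_rc_51_2 lc_j_rc_8_1 lc_j_rc_17_1 lc_j_rc_38_1 lc_j_rc_45_1 lc_j_Cert_tree lc_j_rc_8_1 lc_j_rc_17_1) (@D3.rec (fun _ => (Cert rels S Gen.j)) lc_j_rc_17_1 lc_j_rc_45_1 lc_j_rc_51_2 lc_j_Cert_tree lc_j_rc_52_0 lc_j_rc_17_1 lc_j_rc_25_1 lc_j_rc_32_1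 lc_j_rc_8_1 lc_j_rc_17_1 lc_j_rc_32_1 lc_j_rc_51_2 lc_j_Cert_tree lc_j_rc_8_1 lc_j_rc_17_1 lc_j_rc_17_1 lc_j_rc_45_1 lc_j_rc_51_2 lc_j_Cert_tree lc_j_rc_52_0 lc_j_rc_8_1 lc_j_rc_8_1 lc_j_rc_25_1 lc_j_rc_17_1 lc_j_rc_17_1 lc_j_Cert_tree lc_j_rc_45_1 lc_j_Cert_tree lc_j_rc_51_2 lc_j_rc_53_2 lc_j_rc_52_0 lc_j_rc_38_1 lc_j_rc_32_1 lc_j_rc_17_1 lc_j_rc_32_1 lc_j_rc_53_2 lc_j_rc_51_2 lc_j_rc_32_1 lc_j_rc_25_1 lc_j_rc_38_1 lc_j_rc_51_2 lc_j_rc_32_1 lc_j_rc_25_1 lc_j_rc_38_1 lc_j_rc_17_1 lc_j_rc_25_1 lc_j_rc_45_1 lc_j_rc_32_1 lc_j_rc_25_1 lc_j_rc_38_1 lc_j_rc_17_1) (@D3.rec (fun _ => (Cert rels S Gen.j)) lc_j_rc_25_1 lc_j_rc_45_1 lc_j_rc_25_1 lc_j_rc_38_1 lc_j_rc_17_1 lc_j_rc_25_1 lc_j_rc_45_1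 lc_j_rc_8_1 lc_j_rc_17_1 lc_j_rc_32_1 lc_j_rc_25_1 lc_j_Cert_tree lc_j_rc_25_1 lc_j_rc_51_2 lc_j_rc_17_1 lc_j_rc_25_1 lc_j_rc_25_1 lc_j_Cert_tree lc_j_rc_8_1 lc_j_rc_17_1 lc_j_rc_17_1 lc_j_rc_25_1 lc_j_rc_25_1 lc_j_Cert_tree lc_j_rc_52_0 lc_j_rc_17_1 lc_j_rc_25_1 lc_j_rc_45_1 lc_j_rc_8_1 lc_j_rc_17_1 lc_j_rc_32_1 lc_j_rc_25_1 lc_j_Cert_tree lc_j_rc_8_1 lc_j_rc_17_1 lc_j_rc_32_1 lc_j_rc_25_1 lc_j_Cert_tree lc_j_rc_8_1 lc_j_rc_17_1 lc_j_rc_17_1 lc_j_rc_32_1 lc_j_rc_51_2 lc_j_Cert_tree lc_j_rc_52_0 lc_j_rc_8_1 lc_j_rc_17_1 lc_j_rc_17_1 lc_j_rc_32_1 lc_j_rc_51_2 lc_j_Cert_tree) (@D3.rec (fun _ => (Cert rels S Gen.j)) lc_j_rc_52_0 lc_j_rc_8_1 lc_j_rc_8_1 lc_j_rc_25_1 lc_j_rc_17_1 lc_j_rc_17_1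 lc_j_Cert_tree lc_j_rc_38_1 lc_j_Cert_tree lc_j_rc_51_2 lc_j_rc_53_2 lc_j_rc_52_0 lc_j_rc_8_1 lc_j_rc_8_1 lc_j_rc_25_1 lc_j_rc_17_1 lc_j_rc_17_1 lc_j_Cert_tree lc_j_rc_38_1 lc_j_Cert_tree lc_j_rc_51_2 lc_j_rc_53_2 lc_j_rc_52_0 lc_j_rc_8_1 lc_j_rc_8_1 lc_j_rc_8_1 lc_j_Cert_tree lc_j_rc_25_1 lc_j_rc_25_1 lc_j_rc_17_1 lc_j_Cert_tree lc_j_rc_17_1 lc_j_rc_17_1 lc_j_rc_52_0 lc_j_Cert_tree lc_j_rc_51_2 lc_j_rc_52_0 lc_j_rc_52_1 lc_j_rc_53_2 lc_j_rc_8_1 lc_j_rc_17_1 lc_j_rc_17_1 lc_j_rc_32_1 lc_j_rc_51_2 lc_j_Cert_tree lc_j_rc_52_0 lc_j_rc_8_1 lc_j_rc_8_1 lc_j_rc_25_1 lc_j_rc_17_1 lc_j_rc_17_1) (@D3.rec (fun _ => (Cert rels S Gen.j)) lc_j_Cert_tree lc_j_rc_38_1 lc_j_Cert_tree lc_j_rc_49_5 lc_j_rc_53_2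 lc_j_rc_52_0 lc_j_rc_8_1 lc_j_rc_8_1 lc_j_rc_8_1 lc_j_Cert_tree lc_j_rc_25_1 lc_j_rc_25_1 lc_j_rc_17_1 lc_j_Cert_tree lc_j_rc_17_1 lc_j_rc_17_1 lc_j_rc_52_0 lc_j_Cert_tree lc_j_rc_49_5 lc_j_rc_52_0 lc_j_rc_52_1 lc_j_rc_53_2 lc_j_rc_8_1 lc_j_Cert_tree lc_j_rc_8_1 lc_j_rc_8_1 lc_j_rc_52_0 lc_j_Cert_tree lc_j_rc_17_1 lc_j_rc_52_0 lc_j_rc_52_1 lc_j_rc_17_1 lc_j_Cert_tree lc_j_rc_52_0 lc_j_rc_52_1 lc_j_rc_32_1 lc_j_rc_53_2 lc_j_rc_51_2 lc_j_rc_53_2 lc_j_rc_52_0 lc_j_rc_52_1 lc_j_rc_51_2 lc_j_rc_25_3 lc_j_rc_25_3 lc_j_rc_25_1 lc_j_rc_32_1 lc_j_rc_53_2 lc_j_rc_25_1 lc_j_rc_25_1 lc_j_rc_45_1 lc_j_rc_38_1) (@D3.rec (fun _ => (Cert rels S Gen.j)) lc_j_rc_49_3 lc_j_rc_32_1 lc_j_rc_25_1 lc_j_rc_38_1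 lc_j_rc_32_1 lc_j_rc_25_1 lc_j_rc_51_2 lc_j_rc_32_1 lc_j_rc_25_1 lc_j_rc_38_1 lc_j_rc_17_1 lc_j_rc_25_1 lc_j_rc_45_1 lc_j_rc_51_2 lc_j_rc_32_1 lc_j_rc_32_1 lc_j_rc_38_1 lc_j_rc_17_1 lc_j_rc_25_1 lc_j_rc_45_1 lc_j_rc_8_1 lc_j_rc_17_1 lc_j_rc_32_1 lc_j_rc_25_1 lc_j_Cert_tree lc_j_rc_38_1 lc_j_rc_17_1 lc_j_rc_25_1 lc_j_rc_45_1 lc_j_rc_8_1 lc_j_rc_17_1 lc_j_rc_32_1 lc_j_rc_25_1 lc_j_Cert_tree lc_j_rc_45_1 lc_j_rc_17_1 lc_j_rc_32_1 lc_j_rc_25_1 lc_j_Cert_tree lc_j_rc_8_1 lc_j_rc_17_1 lc_j_rc_17_1 lc_j_rc_32_1 lc_j_rc_51_2 lc_j_Cert_tree lc_j_rc_52_0 lc_j_Cert_tree lc_j_rc_17_1 lc_j_rc_17_1 lc_j_rc_25_1 lc_j_Cert_tree) (@D3.rec (fun _ => (Cert rels S Gen.j)) lc_j_rc_52_0 lc_j_rc_8_1 lc_j_rc_8_1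 lc_j_rc_17_1 lc_j_rc_17_1 lc_j_rc_17_1 lc_j_Cert_tree lc_j_rc_25_1 lc_j_Cert_tree lc_j_rc_25_1 lc_j_rc_25_1 lc_j_rc_52_0 lc_j_rc_8_1 lc_j_rc_17_1 lc_j_rc_32_1 lc_j_rc_25_1 lc_j_Cert_tree lc_j_rc_8_1 lc_j_rc_17_1 lc_j_rc_17_1 lc_j_rc_32_1 lc_j_rc_51_2 lc_j_Cert_tree lc_j_rc_52_0 lc_j_rc_8_1 lc_j_rc_17_1 lc_j_rc_17_1 lc_j_rc_32_1 lc_j_rc_51_2 lc_j_Cert_tree lc_j_rc_52_0 lc_j_rc_8_1 lc_j_rc_8_1 lc_j_rc_25_1 lc_j_rc_17_1 lc_j_rc_17_1 lc_j_Cert_tree lc_j_rc_38_1 lc_j_Cert_tree lc_j_rc_51_2 lc_j_rc_53_2 lc_j_rc_52_0 lc_j_rc_8_1 lc_j_rc_8_1 lc_j_rc_25_1 lc_j_rc_17_1 lc_j_rc_17_1 lc_j_Cert_tree lc_j_rc_38_1 lc_j_Cert_tree lc_j_rc_51_2) (@D3.rec (fun _ => (Cert rels S Gen.j)) lc_j_rc_53_2 lc_j_rc_52_0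 lc_j_rc_8_1 lc_j_rc_8_1 lc_j_Cert_tree lc_j_rc_25_1 lc_j_rc_25_1 lc_j_rc_17_1 lc_j_Cert_tree lc_j_rc_17_1 lc_j_rc_52_0 lc_j_Cert_tree lc_j_rc_51_2 lc_j_rc_52_0 lc_j_rc_52_1 lc_j_rc_53_2 lc_j_rc_8_1 lc_j_rc_8_1 lc_j_rc_8_1 lc_j_Cert_tree lc_j_rc_25_1 lc_j_rc_25_1 lc_j_rc_17_1 lc_j_Cert_tree lc_j_rc_17_1 lc_j_rc_52_0 lc_j_Cert_tree lc_j_rc_51_2 lc_j_rc_52_0 lc_j_rc_52_1 lc_j_rc_17_1 lc_j_rc_8_1 lc_j_rc_8_1 lc_j_Cert_tree lc_j_rc_52_0 lc_j_rc_25_1 lc_j_Cert_tree lc_j_Cert_tree lc_j_rc_52_0 lc_j_Cert_tree lc_j_rc_52_0 lc_j_rc_8_1 lc_j_rc_8_1 lc_j_rc_25_1 lc_j_rc_17_1 lc_j_rc_17_1 lc_j_Cert_tree lc_j_rc_38_1 lc_j_Cert_tree lc_j_rc_51_2 lc_j_rc_53_2) (@D3.rec (fun _ => (Cert rels S Gen.j))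 lc_j_rc_52_0 lc_j_rc_8_1 lc_j_rc_8_1 lc_j_Cert_tree lc_j_rc_25_1 lc_j_rc_25_1 lc_j_rc_17_1 lc_j_Cert_tree lc_j_rc_17_1 lc_j_rc_52_0 lc_j_Cert_tree lc_j_rc_51_2 lc_j_rc_52_0 lc_j_rc_52_1 lc_j_rc_53_2 lc_j_rc_8_1 lc_j_Cert_tree lc_j_rc_52_0 lc_j_Cert_tree lc_j_rc_25_1 lc_j_rc_32_1 lc_j_rc_52_0 lc_j_rc_52_1 lc_j_rc_51_2 lc_j_rc_53_2 lc_j_rc_8_1 lc_j_rc_8_1 lc_j_rc_8_1 lc_j_rc_25_1 lc_j_rc_25_1 lc_j_rc_17_1 lc_j_rc_17_1 lc_j_rc_17_1 lc_j_rc_38_1 lc_j_rc_51_2 lc_j_rc_49_3 lc_j_rc_53_2 lc_j_rc_8_1 lc_j_rc_8_1 lc_j_rc_25_1 lc_j_rc_25_1 lc_j_rc_32_1 lc_j_rc_17_1 lc_j_rc_32_1 lc_j_rc_53_2 lc_j_rc_38_1 lc_j_rc_17_1 lc_j_rc_32_1 lc_j_rc_25_1 lc_j_rc_25_1 lc_j_rc_45_1) (@D3.rec (fun _ => (Cert rels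 S Gen.j)) lc_j_rc_49_3 lc_j_rc_49_3 lc_j_rc_25_1 lc_j_rc_38_1 lc_j_rc_17_1 lc_j_rc_25_1 lc_j_rc_45_1 lc_j_rc_17_1 lc_j_rc_51_2 lc_j_rc_32_1 lc_j_rc_32_1 lc_j_rc_38_1 lc_j_rc_25_1 lc_j_rc_45_1 lc_j_rc_17_1 lc_j_rc_32_1 lc_j_rc_25_1 lc_j_Cert_tree lc_j_rc_25_1 lc_j_rc_17_1 lc_j_rc_38_1 lc_j_rc_45_1 lc_j_rc_32_1 lc_j_rc_25_1 lc_j_Cert_tree lc_j_rc_17_1 lc_j_rc_17_1 lc_j_rc_32_1 lc_j_rc_51_2 lc_j_Cert_tree lc_j_rc_52_0 lc_j_rc_45_1 lc_j_rc_32_1 lc_j_rc_25_1 lc_j_Cert_tree lc_j_rc_17_1 lc_j_rc_17_1 lc_j_rc_32_1 lc_j_rc_51_2 lc_j_Cert_tree lc_j_rc_52_0 lc_j_Cert_tree lc_j_rc_32_1 lc_j_Cert_tree lc_j_rc_52_0 lc_j_rc_25_1 lc_j_rc_17_1 lc_j_rc_17_1 lc_j_Cert_tree lc_j_rc_38_1 lc_j_Cert_tree) (@D3.rec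 (fun _ => (Cert rels S Gen.j)) lc_j_rc_51_2 lc_j_rc_52_0 lc_j_rc_52_0 lc_j_rc_25_1 lc_j_Cert_tree lc_j_rc_52_0 lc_j_rc_25_1 lc_j_rc_17_1 lc_j_Cert_tree lc_j_rc_17_1 lc_j_rc_52_0 lc_j_Cert_tree lc_j_rc_25_1 lc_j_rc_52_0 lc_j_rc_52_1 lc_j_rc_8_1 lc_j_rc_17_1 lc_j_rc_17_1 lc_j_rc_32_1 lc_j_rc_51_2 lc_j_Cert_tree lc_j_rc_52_0 lc_j_rc_8_1 lc_j_rc_8_1 lc_j_rc_17_1 lc_j_Cert_tree lc_j_rc_38_1 lc_j_rc_25_3 lc_j_rc_51_2 lc_j_rc_52_0 lc_j_rc_8_1 lc_j_rc_8_1 lc_j_rc_17_1 lc_j_Cert_tree lc_j_rc_38_1 lc_j_Cert_tree lc_j_rc_51_2 lc_j_rc_52_0 lc_j_rc_8_1 lc_j_Cert_tree lc_j_rc_17_1 lc_j_Cert_tree lc_j_rc_52_0 lc_j_rc_49_1 lc_j_rc_17_3 lc_j_rc_52_0 lc_j_rc_49_1 lc_j_rc_8_1 lc_j_Cert_tree lc_j_rc_17_1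 lc_j_Cert_tree) (@D3.rec (fun _ => (Cert rels S Gen.j)) lc_j_rc_52_0 lc_j_Cert_tree lc_j_rc_51_2 lc_j_rc_52_0 lc_j_rc_52_1 lc_j_rc_8_1 lc_j_Cert_tree lc_j_rc_52_0 lc_j_Cert_tree lc_j_rc_52_0 lc_j_rc_38_1 lc_j_rc_52_0 lc_j_rc_38_3 lc_j_rc_51_2 lc_j_rc_17_1 lc_j_rc_8_1 lc_j_rc_8_1 lc_j_rc_8_1 lc_j_Cert_tree lc_j_rc_8_1 lc_j_rc_52_0 lc_j_rc_25_1 lc_j_Cert_tree lc_j_rc_25_1 lc_j_rc_32_1 lc_j_Cert_tree lc_j_rc_17_1 lc_j_rc_52_0 lc_j_rc_52_1 lc_j_Cert_tree lc_j_rc_52_0 lc_j_rc_52_1 lc_j_rc_32_1 lc_j_rc_51_2 lc_j_rc_17_1 lc_j_rc_8_1 lc_j_Cert_tree lc_j_Cert_tree lc_j_rc_52_0 lc_j_rc_32_1 lc_j_Cert_tree lc_j_rc_52_0 lc_j_Cert_tree lc_j_rc_52_0 lc_j_rc_52_0 lc_j_rc_8_1 lc_j_Cert_tree lc_j_rc_17_1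 lc_j_Cert_tree lc_j_rc_52_0 lc_j_rc_51_2) (@D3.rec (fun _ => (Cert rels S Gen.j)) lc_j_rc_51_2 lc_j_rc_52_0 lc_j_rc_32_1 lc_j_rc_8_1 lc_j_Cert_tree lc_j_rc_52_0 lc_j_Cert_tree lc_j_rc_52_0 lc_j_rc_52_0 lc_j_rc_49_1 lc_j_rc_45_3 lc_j_rc_51_2 lc_j_rc_52_0 lc_j_rc_8_1 lc_j_rc_8_1 lc_j_rc_17_1 lc_j_rc_45_1 lc_j_rc_49_3 lc_j_rc_32_1 lc_j_rc_53_0 lc_j_rc_8_1 lc_j_rc_17_1 lc_j_rc_51_2 lc_j_rc_32_1 lc_j_rc_25_1 lc_j_rc_45_1 lc_j_rc_38_1 lc_j_rc_51_2 lc_j_rc_32_1 lc_j_rc_49_3 lc_j_rc_32_1 lc_j_rc_25_1 lc_j_rc_38_1 lc_j_rc_25_1 lc_j_rc_38_1 lc_j_rc_17_1 lc_j_rc_25_1 lc_j_rc_45_1 lc_j_rc_8_1 lc_j_rc_17_1 lc_j_rc_32_1 lc_j_rc_25_1 lc_j_Cert_tree lc_j_rc_25_1 lc_j_rc_32_1 lc_j_rc_32_1 lc_j_rc_25_1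 lc_j_rc_38_1 lc_j_rc_25_1 lc_j_rc_38_1 lc_j_rc_17_1) (@D3.rec (fun _ => (Cert rels S Gen.j)) lc_j_rc_25_1 lc_j_rc_45_1 lc_j_rc_25_1 lc_j_rc_38_1 lc_j_rc_17_1 lc_j_rc_25_1 lc_j_rc_45_1 lc_j_rc_17_1 lc_j_rc_25_1 lc_j_rc_45_1 lc_j_rc_8_1 lc_j_rc_17_1 lc_j_rc_32_1 lc_j_rc_25_1 lc_j_Cert_tree lc_j_rc_17_1 lc_j_rc_25_1 lc_j_rc_25_1 lc_j_Cert_tree lc_j_rc_8_1 lc_j_rc_17_1 lc_j_rc_17_1 lc_j_rc_25_1 lc_j_rc_25_1 lc_j_Cert_tree lc_j_rc_52_0 lc_j_rc_25_1 lc_j_rc_38_1 lc_j_rc_17_1 lc_j_rc_25_1 lc_j_rc_45_1 lc_j_rc_8_1 lc_j_rc_17_1 lc_j_rc_32_1 lc_j_rc_25_1 lc_j_Cert_tree lc_j_rc_17_1 lc_j_rc_25_1 lc_j_rc_45_1 lc_j_rc_8_1 lc_j_rc_17_1 lc_j_rc_32_1 lc_j_rc_25_1 lc_j_Cert_tree lc_j_rc_8_1 lc_j_rc_17_1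 lc_j_rc_17_1 lc_j_rc_32_1 lc_j_rc_51_2 lc_j_Cert_tree lc_j_rc_52_0) (@D3.rec (fun _ => (Cert rels S Gen.j)) lc_j_rc_8_1 lc_j_rc_17_1 lc_j_rc_32_1 lc_j_rc_51_2 lc_j_Cert_tree lc_j_rc_8_1 lc_j_rc_17_1 lc_j_rc_17_1 lc_j_rc_45_1 lc_j_rc_51_2 lc_j_Cert_tree lc_j_rc_52_0 lc_j_rc_8_1 lc_j_rc_8_1 lc_j_rc_25_1 lc_j_rc_17_1 lc_j_rc_17_1 lc_j_Cert_tree lc_j_rc_45_1 lc_j_Cert_tree lc_j_rc_51_2 lc_j_rc_53_2 lc_j_rc_52_0 lc_j_rc_8_1 lc_j_rc_17_1 lc_j_rc_25_1 lc_j_rc_25_1 lc_j_Cert_tree lc_j_rc_8_1 lc_j_rc_32_1 lc_j_rc_17_1 lc_j_rc_32_1 lc_j_rc_32_1 lc_j_Cert_tree lc_j_rc_52_0 lc_j_rc_8_1 lc_j_rc_8_1 lc_j_rc_25_1 lc_j_rc_17_1 lc_j_rc_17_1 lc_j_Cert_tree lc_j_rc_45_1 lc_j_Cert_tree lc_j_rc_51_2 lc_j_rc_53_2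 lc_j_rc_52_0 lc_j_rc_8_1 lc_j_rc_8_1 lc_j_rc_8_1 lc_j_Cert_tree lc_j_rc_25_1) (@D3.rec (fun _ => (Cert rels S Gen.j)) lc_j_rc_25_1 lc_j_rc_17_1 lc_j_Cert_tree lc_j_rc_17_1 lc_j_rc_17_1 lc_j_rc_52_0 lc_j_Cert_tree lc_j_rc_51_2 lc_j_rc_52_0 lc_j_rc_52_1 lc_j_rc_53_2 lc_j_rc_45_1 lc_j_rc_38_1 lc_j_rc_49_3 lc_j_rc_32_1 lc_j_rc_25_1 lc_j_rc_38_1 lc_j_rc_51_2 lc_j_rc_32_1 lc_j_rc_25_1 lc_j_rc_38_1 lc_j_rc_17_1 lc_j_rc_25_1 lc_j_rc_45_1 lc_j_rc_32_1 lc_j_rc_25_1 lc_j_rc_38_1 lc_j_rc_17_1 lc_j_rc_25_1 lc_j_rc_45_1 lc_j_rc_8_1 lc_j_rc_17_1 lc_j_rc_32_1 lc_j_rc_25_1 lc_j_Cert_tree lc_j_rc_25_1 lc_j_rc_38_1 lc_j_rc_17_1 lc_j_rc_25_1 lc_j_rc_45_1 lc_j_rc_8_1 lc_j_rc_17_1 lc_j_rc_32_1 lc_j_rc_25_1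 lc_j_Cert_tree lc_j_rc_25_1 lc_j_rc_45_1 lc_j_rc_17_1 lc_j_rc_32_1 lc_j_rc_25_1 lc_j_Cert_tree) (@D3.rec (fun _ => (Cert rels S Gen.j)) lc_j_rc_8_1 lc_j_rc_17_1 lc_j_rc_17_1 lc_j_rc_32_1 lc_j_rc_51_2 lc_j_Cert_tree lc_j_rc_52_0 lc_j_rc_32_1 lc_j_rc_25_1 lc_j_Cert_tree lc_j_rc_17_1 lc_j_rc_17_1 lc_j_rc_25_1 lc_j_rc_25_1 lc_j_Cert_tree lc_j_rc_52_0 lc_j_rc_8_1 lc_j_rc_8_1 lc_j_rc_17_1 lc_j_rc_17_1 lc_j_rc_17_1 lc_j_Cert_tree lc_j_rc_25_1 lc_j_Cert_tree lc_j_rc_25_1 lc_j_rc_25_1 lc_j_rc_52_0 lc_j_rc_8_1 lc_j_rc_17_1 lc_j_rc_32_1 lc_j_rc_25_1 lc_j_Cert_tree lc_j_rc_8_1 lc_j_rc_17_1 lc_j_rc_17_1 lc_j_rc_32_1 lc_j_rc_51_2 lc_j_Cert_tree lc_j_rc_52_0 lc_j_rc_8_1 lc_j_rc_17_1 lc_j_rc_17_1 lc_j_rc_32_1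 lc_j_rc_51_2 lc_j_Cert_tree lc_j_rc_52_0 lc_j_rc_8_1 lc_j_rc_8_1 lc_j_rc_25_1 lc_j_rc_17_1 lc_j_rc_17_1)
def ce_j_2 : D2 → D3 → (Cert rels S Gen.j) := @D2.rec (fun _ => D3 → (Cert rels S Gen.j)) (@D3.rec (fun _ => (Cert rels S Gen.j)) lc_j_Cert_tree lc_j_rc_38_1 lc_j_Cert_tree lc_j_rc_49_5 lc_j_rc_53_2 lc_j_rc_52_0 lc_j_rc_8_1 lc_j_rc_8_1 lc_j_rc_25_1 lc_j_rc_17_1 lc_j_rc_17_1 lc_j_Cert_tree lc_j_rc_38_1 lc_j_Cert_tree lc_j_rc_51_2 lc_j_rc_53_2 lc_j_rc_52_0 lc_j_rc_8_1 lc_j_rc_8_1 lc_j_rc_8_1 lc_j_Cert_tree lc_j_rc_25_1 lc_j_rc_25_1 lc_j_rc_17_1 lc_j_Cert_tree lc_j_rc_17_1 lc_j_rc_17_1 lc_j_rc_52_0 lc_j_Cert_tree lc_j_rc_51_2 lc_j_rc_52_0 lc_j_rc_52_1 lc_j_rc_53_2 lc_j_rc_8_1 lc_j_Cert_tree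 lc_j_rc_25_1 lc_j_rc_17_1 lc_j_Cert_tree lc_j_rc_17_1 lc_j_rc_52_0 lc_j_Cert_tree lc_j_rc_51_2 lc_j_rc_52_0 lc_j_rc_52_1 lc_j_rc_53_2 lc_j_rc_8_1 lc_j_rc_8_1 lc_j_Cert_tree lc_j_rc_8_1 lc_j_rc_52_0 lc_j_rc_25_1) (@D3.rec (fun _ => (Cert rels S Gen.j)) lc_j_Cert_tree lc_j_rc_25_1 lc_j_Cert_tree lc_j_rc_17_1 lc_j_rc_52_0 lc_j_rc_52_1 lc_j_rc_17_1 lc_j_Cert_tree lc_j_rc_52_0 lc_j_rc_52_1 lc_j_rc_32_1 lc_j_rc_53_2 lc_j_rc_51_2 lc_j_rc_53_2 lc_j_rc_8_1 lc_j_rc_8_1 lc_j_rc_25_1 lc_j_rc_17_1 lc_j_rc_17_1 lc_j_Cert_tree lc_j_rc_38_1 lc_j_Cert_tree lc_j_rc_49_5 lc_j_rc_53_2 lc_j_rc_52_0 lc_j_rc_8_1 lc_j_rc_8_1 lc_j_rc_8_1 lc_j_Cert_tree lc_j_rc_25_1 lc_j_rc_25_1 lc_j_rc_17_1 lc_j_Cert_tree lc_j_rc_17_1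 lc_j_rc_17_1 lc_j_rc_52_0 lc_j_Cert_tree lc_j_rc_49_5 lc_j_rc_52_0 lc_j_rc_52_1 lc_j_rc_53_2 lc_j_rc_8_1 lc_j_rc_8_1 lc_j_rc_8_1 lc_j_Cert_tree lc_j_rc_8_1 lc_j_rc_8_1 lc_j_rc_52_0 lc_j_rc_25_1 lc_j_Cert_tree lc_j_rc_25_1) (@D3.rec (fun _ => (Cert rels S Gen.j)) lc_j_rc_32_1 lc_j_rc_25_1 lc_j_Cert_tree lc_j_rc_17_1 lc_j_rc_52_0 lc_j_rc_52_1 lc_j_rc_17_1 lc_j_Cert_tree lc_j_rc_52_0 lc_j_rc_52_1 lc_j_rc_32_1 lc_j_rc_53_2 lc_j_rc_51_2 lc_j_rc_53_2 lc_j_Cert_tree lc_j_rc_8_1 lc_j_rc_52_0 lc_j_rc_52_1 lc_j_rc_8_1 lc_j_Cert_tree lc_j_rc_52_0 lc_j_rc_52_1 lc_j_rc_32_1 lc_j_rc_17_1 lc_j_rc_51_2 lc_j_rc_53_2 lc_j_rc_52_0 lc_j_rc_52_1 lc_j_rc_51_2 lc_j_rc_32_1 lc_j_rc_53_2 lc_j_rc_25_1 lc_j_rc_32_1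 lc_j_rc_53_2 lc_j_rc_49_3 lc_j_rc_51_2 lc_j_rc_25_1 lc_j_rc_25_3 lc_j_rc_17_3 lc_j_rc_17_1 lc_j_rc_25_1 lc_j_rc_32_1 lc_j_rc_25_1 lc_j_rc_25_1 lc_j_rc_45_1 lc_j_rc_49_3 lc_j_rc_49_3 lc_j_rc_25_1 lc_j_rc_38_1 lc_j_rc_17_1 lc_j_rc_25_1) (@D3.rec (fun _ => (Cert rels S Gen.j)) lc_j_rc_45_1 lc_j_rc_51_2 lc_j_rc_32_1 lc_j_rc_32_1 lc_j_rc_38_1 lc_j_rc_17_1 lc_j_rc_25_1 lc_j_rc_45_1 lc_j_rc_8_1 lc_j_rc_17_1 lc_j_rc_32_1 lc_j_rc_25_1 lc_j_Cert_tree lc_j_rc_38_1 lc_j_rc_45_1 lc_j_rc_17_1 lc_j_rc_32_1 lc_j_rc_25_1 lc_j_Cert_tree lc_j_rc_8_1 lc_j_rc_17_1 lc_j_rc_17_1 lc_j_rc_32_1 lc_j_rc_51_2 lc_j_Cert_tree lc_j_rc_52_0 lc_j_rc_45_1 lc_j_rc_17_1 lc_j_rc_32_1 lc_j_rc_25_1 lc_j_Cert_tree lc_j_rc_8_1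 lc_j_rc_17_1 lc_j_rc_17_1 lc_j_rc_32_1 lc_j_rc_51_2 lc_j_Cert_tree lc_j_rc_52_0 lc_j_Cert_tree lc_j_rc_17_1 lc_j_rc_17_1 lc_j_rc_32_1 lc_j_Cert_tree lc_j_rc_52_0 lc_j_rc_8_1 lc_j_rc_8_1 lc_j_rc_25_1 lc_j_rc_17_1 lc_j_rc_17_1 lc_j_Cert_tree lc_j_rc_38_1) (@D3.rec (fun _ => (Cert rels S Gen.j)) lc_j_Cert_tree lc_j_rc_51_2 lc_j_rc_53_2 lc_j_rc_52_0 lc_j_rc_52_0 lc_j_rc_17_1 lc_j_rc_17_1 lc_j_Cert_tree lc_j_rc_25_1 lc_j_Cert_tree lc_j_rc_52_0 lc_j_rc_8_1 lc_j_rc_8_1 lc_j_rc_8_1 lc_j_Cert_tree lc_j_rc_17_1 lc_j_rc_17_1 lc_j_rc_17_1 lc_j_Cert_tree lc_j_rc_17_1 lc_j_rc_17_1 lc_j_rc_52_0 lc_j_Cert_tree lc_j_rc_25_1 lc_j_rc_52_0 lc_j_rc_52_1 lc_j_rc_25_1 lc_j_rc_8_1 lc_j_rc_17_1 lc_j_rc_17_1 lc_j_rc_32_1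 lc_j_rc_51_2 lc_j_Cert_tree lc_j_rc_52_0 lc_j_rc_8_1 lc_j_rc_8_1 lc_j_rc_25_1 lc_j_rc_17_1 lc_j_rc_17_1 lc_j_Cert_tree lc_j_rc_38_1 lc_j_rc_38_1 lc_j_rc_51_2 lc_j_rc_53_2 lc_j_rc_52_0 lc_j_rc_8_1 lc_j_rc_8_1 lc_j_rc_25_1 lc_j_rc_17_1 lc_j_rc_17_1 lc_j_Cert_tree) (@D3.rec (fun _ => (Cert rels S Gen.j)) lc_j_rc_38_1 lc_j_Cert_tree lc_j_rc_51_2 lc_j_rc_53_2 lc_j_rc_52_0 lc_j_rc_8_1 lc_j_rc_8_1 lc_j_Cert_tree lc_j_rc_25_1 lc_j_rc_25_1 lc_j_rc_17_1 lc_j_Cert_tree lc_j_rc_17_1 lc_j_rc_52_0 lc_j_rc_45_1 lc_j_rc_38_1 lc_j_rc_52_0 lc_j_rc_49_1 lc_j_rc_53_2 lc_j_rc_8_1 lc_j_rc_8_1 lc_j_Cert_tree lc_j_rc_25_1 lc_j_rc_25_1 lc_j_rc_17_1 lc_j_Cert_tree lc_j_rc_17_1 lc_j_rc_52_0 lc_j_Cert_tree lc_j_rc_51_2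 lc_j_rc_52_0 lc_j_rc_52_1 lc_j_rc_53_2 lc_j_rc_8_1 lc_j_rc_8_1 lc_j_Cert_tree lc_j_rc_52_0 lc_j_rc_25_1 lc_j_Cert_tree lc_j_rc_25_1 lc_j_rc_32_1 lc_j_Cert_tree lc_j_rc_17_1 lc_j_rc_52_0 lc_j_rc_52_1 lc_j_rc_17_3 lc_j_rc_52_0 lc_j_rc_17_3 lc_j_rc_53_2 lc_j_rc_51_2 lc_j_rc_53_2) (@D3.rec (fun _ => (Cert rels S Gen.j)) lc_j_rc_8_1 lc_j_rc_8_1 lc_j_Cert_tree lc_j_rc_8_1 lc_j_rc_52_0 lc_j_rc_25_1 lc_j_Cert_tree lc_j_rc_25_1 lc_j_Cert_tree lc_j_rc_17_1 lc_j_rc_52_0 lc_j_rc_52_1 lc_j_Cert_tree lc_j_rc_52_0 lc_j_rc_52_1 lc_j_rc_32_1 lc_j_rc_51_2 lc_j_rc_17_1 lc_j_rc_8_1 lc_j_Cert_tree lc_j_Cert_tree lc_j_rc_52_0 lc_j_rc_32_1 lc_j_Cert_tree lc_j_rc_52_0 lc_j_Cert_tree lc_j_rc_52_0 lc_j_rc_52_0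 lc_j_rc_8_1 lc_j_rc_8_1 lc_j_Cert_tree lc_j_rc_25_1 lc_j_rc_25_1 lc_j_rc_17_1 lc_j_Cert_tree lc_j_rc_17_1 lc_j_rc_52_0 lc_j_rc_51_2 lc_j_rc_51_2 lc_j_rc_52_0 lc_j_rc_32_1 lc_j_rc_53_2 lc_j_rc_8_1 lc_j_rc_8_1 lc_j_Cert_tree lc_j_rc_52_0 lc_j_rc_25_1 lc_j_Cert_tree lc_j_rc_25_1 lc_j_rc_32_1 lc_j_Cert_tree) (@D3.rec (fun _ => (Cert rels S Gen.j)) lc_j_rc_17_1 lc_j_rc_52_0 lc_j_rc_52_1 lc_j_rc_52_0 lc_j_rc_49_1 lc_j_rc_45_3 lc_j_rc_53_2 lc_j_rc_51_2 lc_j_rc_53_2 lc_j_Cert_tree lc_j_rc_52_0 lc_j_rc_52_0 lc_j_rc_52_1 lc_j_rc_32_1 lc_j_rc_38_1 lc_j_rc_51_2 lc_j_rc_53_2 lc_j_rc_8_1 lc_j_rc_8_1 lc_j_rc_8_1 lc_j_rc_25_1 lc_j_rc_25_1 lc_j_rc_25_1 lc_j_rc_32_1 lc_j_rc_17_1 lc_j_rc_17_1 lc_j_rc_17_1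 lc_j_rc_45_1 lc_j_rc_49_3 lc_j_rc_32_1 lc_j_rc_53_2 lc_j_rc_53_2 lc_j_rc_8_1 lc_j_rc_32_1 lc_j_rc_25_1 lc_j_rc_32_1 lc_j_rc_38_1 lc_j_rc_32_1 lc_j_rc_53_0 lc_j_rc_32_1 lc_j_rc_45_1 lc_j_rc_17_1 lc_j_rc_17_1 lc_j_rc_32_1 lc_j_rc_49_3 lc_j_rc_32_1 lc_j_rc_25_1 lc_j_rc_51_2 lc_j_rc_32_1 lc_j_rc_49_3 lc_j_rc_25_1) (@D3.rec (fun _ => (Cert rels S Gen.j)) lc_j_rc_45_1 lc_j_rc_17_1 lc_j_rc_32_1 lc_j_rc_25_1 lc_j_rc_53_0 lc_j_rc_25_1 lc_j_rc_17_1 lc_j_rc_38_1 lc_j_rc_45_1 lc_j_rc_32_1 lc_j_rc_25_1 lc_j_Cert_tree lc_j_rc_17_1 lc_j_rc_17_1 lc_j_rc_32_1 lc_j_rc_51_2 lc_j_rc_45_1 lc_j_rc_52_0 lc_j_rc_25_1 lc_j_rc_45_1 lc_j_Cert_tree lc_j_rc_32_1 lc_j_Cert_tree lc_j_rc_52_0 lc_j_rc_25_1 lc_j_rc_45_1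 lc_j_rc_17_1 lc_j_rc_49_3 lc_j_rc_32_3 lc_j_rc_49_1 lc_j_rc_51_2 lc_j_rc_52_0 lc_j_Cert_tree lc_j_rc_32_1 lc_j_rc_32_3 lc_j_rc_52_0 lc_j_rc_25_1 lc_j_rc_17_1 lc_j_rc_17_1 lc_j_rc_32_3 lc_j_rc_38_1 lc_j_rc_17_3 lc_j_rc_51_2 lc_j_rc_52_0 lc_j_rc_52_0 lc_j_rc_38_1 lc_j_Cert_tree lc_j_rc_52_0 lc_j_rc_25_1 lc_j_rc_17_1 lc_j_rc_49_3) (@D3.rec (fun _ => (Cert rels S Gen.j)) lc_j_rc_17_1 lc_j_rc_52_0 lc_j_rc_49_1 lc_j_rc_25_1 lc_j_rc_52_0 lc_j_rc_49_1 lc_j_Cert_tree lc_j_rc_52_0 lc_j_rc_25_1 lc_j_Cert_tree lc_j_rc_38_3 lc_j_rc_17_1 lc_j_rc_52_0 lc_j_rc_52_1 lc_j_rc_38_1 lc_j_rc_52_0 lc_j_rc_38_3 lc_j_rc_32_1 lc_j_rc_51_2 lc_j_rc_8_1 lc_j_rc_8_1 lc_j_rc_17_1 lc_j_Cert_tree lc_j_rc_38_1 lc_j_rc_17_3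 lc_j_rc_51_2 lc_j_rc_52_0 lc_j_rc_8_1 lc_j_Cert_tree lc_j_rc_17_1 lc_j_rc_25_3 lc_j_rc_52_0 lc_j_rc_8_1 lc_j_Cert_tree lc_j_rc_17_1 lc_j_Cert_tree lc_j_rc_52_0 lc_j_rc_49_1 lc_j_rc_8_3 lc_j_rc_52_0 lc_j_rc_49_3 lc_j_rc_8_1 lc_j_Cert_tree lc_j_rc_52_0 lc_j_rc_49_1 lc_j_rc_52_0 lc_j_rc_8_1 lc_j_Cert_tree lc_j_rc_52_0 lc_j_Cert_tree lc_j_rc_52_0) (@D3.rec (fun _ => (Cert rels S Gen.j)) lc_j_rc_38_1 lc_j_rc_52_0 lc_j_rc_38_3 lc_j_rc_32_1 lc_j_rc_51_2 lc_j_Cert_tree lc_j_rc_52_0 lc_j_rc_38_1 lc_j_rc_52_0 lc_j_rc_17_1 lc_j_rc_8_1 lc_j_Cert_tree lc_j_rc_8_1 lc_j_Cert_tree lc_j_rc_8_1 lc_j_rc_52_0 lc_j_rc_52_1 lc_j_rc_32_1 lc_j_Cert_tree lc_j_rc_25_1 lc_j_rc_52_0 lc_j_rc_52_1 lc_j_rc_32_1 lc_j_rc_8_3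 lc_j_rc_52_0 lc_j_rc_52_1 lc_j_rc_32_1 lc_j_rc_51_2 lc_j_rc_52_0 lc_j_rc_8_3 lc_j_rc_51_2 lc_j_rc_8_3 lc_j_rc_25_1 lc_j_rc_17_1 lc_j_Cert_tree lc_j_rc_8_1 lc_j_Cert_tree lc_j_rc_52_0 lc_j_Cert_tree lc_j_rc_52_0 lc_j_rc_25_1 lc_j_rc_25_3 lc_j_rc_52_0 lc_j_rc_52_0 lc_j_rc_8_1 lc_j_Cert_tree lc_j_rc_52_0 lc_j_rc_51_2 lc_j_rc_52_0 lc_j_Cert_tree lc_j_rc_52_0) (@D3.rec (fun _ => (Cert rels S Gen.j)) lc_j_rc_52_0 lc_j_rc_8_1 lc_j_rc_17_1 lc_j_rc_8_1 lc_j_rc_32_1 lc_j_rc_25_1 lc_j_rc_45_1 lc_j_rc_49_3 lc_j_rc_32_1 lc_j_rc_25_1 lc_j_rc_38_1 lc_j_rc_49_3 lc_j_rc_25_1 lc_j_rc_38_1 lc_j_rc_17_1 lc_j_rc_25_1 lc_j_rc_45_1 lc_j_rc_17_1 lc_j_rc_25_1 lc_j_rc_45_1 lc_j_rc_8_1 lc_j_rc_17_1 lc_j_rc_32_1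 lc_j_rc_25_1 lc_j_Cert_tree lc_j_rc_8_1 lc_j_rc_17_1 lc_j_rc_17_1 lc_j_rc_32_1 lc_j_rc_32_1 lc_j_Cert_tree lc_j_rc_52_0 lc_j_rc_32_1 lc_j_rc_25_1 lc_j_rc_38_1 lc_j_rc_25_1 lc_j_rc_38_1 lc_j_rc_17_1 lc_j_rc_25_1 lc_j_rc_45_1 lc_j_rc_17_1 lc_j_rc_25_1 lc_j_rc_45_1 lc_j_rc_8_1 lc_j_rc_17_1 lc_j_rc_32_1 lc_j_rc_25_1 lc_j_Cert_tree lc_j_rc_17_1 lc_j_rc_25_1 lc_j_rc_45_1) (@D3.rec (fun _ => (Cert rels S Gen.j)) lc_j_rc_8_1 lc_j_rc_17_1 lc_j_rc_32_1 lc_j_rc_25_1 lc_j_Cert_tree lc_j_rc_17_1 lc_j_rc_32_1 lc_j_rc_25_1 lc_j_Cert_tree lc_j_rc_8_1 lc_j_rc_17_1 lc_j_rc_17_1 lc_j_rc_32_1 lc_j_rc_51_2 lc_j_Cert_tree lc_j_rc_52_0 lc_j_rc_17_1 lc_j_rc_17_1 lc_j_rc_25_1 lc_j_rc_25_1 lc_j_Cert_tree lc_j_rc_52_0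 lc_j_rc_8_1 lc_j_rc_8_1 lc_j_rc_17_1 lc_j_rc_17_1 lc_j_rc_17_1 lc_j_Cert_tree lc_j_rc_25_1 lc_j_Cert_tree lc_j_rc_25_1 lc_j_rc_25_1 lc_j_rc_52_0 lc_j_rc_17_1 lc_j_rc_25_1 lc_j_rc_45_1 lc_j_rc_8_1 lc_j_rc_17_1 lc_j_rc_32_1 lc_j_rc_25_1 lc_j_Cert_tree lc_j_rc_8_1 lc_j_rc_17_1 lc_j_rc_17_1 lc_j_rc_32_1 lc_j_rc_51_2 lc_j_Cert_tree lc_j_rc_52_0 lc_j_rc_8_1 lc_j_rc_17_1 lc_j_rc_32_1) (@D3.rec (fun _ => (Cert rels S Gen.j)) lc_j_rc_25_1 lc_j_Cert_tree lc_j_rc_8_1 lc_j_rc_17_1 lc_j_rc_17_1 lc_j_rc_32_1 lc_j_rc_51_2 lc_j_Cert_tree lc_j_rc_52_0 lc_j_rc_8_1 lc_j_rc_8_1 lc_j_rc_25_1 lc_j_rc_17_1 lc_j_rc_17_1 lc_j_Cert_tree lc_j_rc_38_1 lc_j_Cert_tree lc_j_rc_49_5 lc_j_rc_53_2 lc_j_rc_52_0 lc_j_rc_8_1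 lc_j_rc_32_1 lc_j_rc_17_1 lc_j_rc_32_1 lc_j_rc_32_1 lc_j_Cert_tree lc_j_rc_52_0 lc_j_rc_8_1 lc_j_rc_8_1 lc_j_rc_25_1 lc_j_rc_17_1 lc_j_rc_17_1 lc_j_Cert_tree lc_j_rc_45_1 lc_j_Cert_tree lc_j_rc_51_2 lc_j_rc_53_2 lc_j_rc_52_0 lc_j_rc_8_1 lc_j_rc_8_1 lc_j_rc_8_1 lc_j_Cert_tree lc_j_rc_25_1 lc_j_rc_25_1 lc_j_rc_17_1 lc_j_Cert_tree lc_j_rc_17_1 lc_j_rc_17_1 lc_j_rc_52_0 lc_j_Cert_tree lc_j_rc_51_2) (@D3.rec (fun _ => (Cert rels S Gen.j)) lc_j_rc_52_0 lc_j_rc_52_1 lc_j_rc_53_2 lc_j_rc_17_1 lc_j_rc_25_1 lc_j_Cert_tree lc_j_rc_52_0 lc_j_rc_8_1 lc_j_rc_32_1 lc_j_Cert_tree lc_j_rc_38_1 lc_j_Cert_tree lc_j_rc_32_1 lc_j_rc_52_0 lc_j_rc_8_1 lc_j_Cert_tree lc_j_rc_25_1 lc_j_rc_17_1 lc_j_Cert_tree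 lc_j_rc_17_1 lc_j_rc_52_0 lc_j_Cert_tree lc_j_rc_51_2 lc_j_rc_52_0 lc_j_rc_52_1 lc_j_rc_53_2 lc_j_rc_8_1 lc_j_rc_8_1 lc_j_Cert_tree lc_j_rc_8_1 lc_j_rc_52_0 lc_j_rc_25_1 lc_j_Cert_tree lc_j_rc_25_1 lc_j_Cert_tree lc_j_rc_17_1 lc_j_rc_52_0 lc_j_rc_52_1 lc_j_rc_17_1 lc_j_Cert_tree lc_j_rc_52_0 lc_j_rc_52_1 lc_j_rc_32_1 lc_j_rc_53_2 lc_j_rc_51_2 lc_j_rc_53_2 lc_j_rc_45_1 lc_j_rc_49_3 lc_j_rc_49_3 lc_j_rc_25_1 lc_j_rc_38_1) (@D3.rec (fun _ => (Cert rels S Gen.j)) lc_j_rc_17_1 lc_j_rc_25_1 lc_j_rc_45_1 lc_j_rc_32_1 lc_j_rc_25_1 lc_j_rc_38_1 lc_j_rc_17_1 lc_j_rc_25_1 lc_j_rc_45_1 lc_j_rc_8_1 lc_j_rc_17_1 lc_j_rc_32_1 lc_j_rc_25_1 lc_j_Cert_tree lc_j_rc_25_1 lc_j_rc_38_1 lc_j_rc_25_1 lc_j_rc_45_1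 lc_j_rc_17_1 lc_j_rc_32_1 lc_j_rc_25_1 lc_j_Cert_tree lc_j_rc_8_1 lc_j_rc_17_1 lc_j_rc_17_1 lc_j_rc_32_1 lc_j_rc_51_2 lc_j_Cert_tree lc_j_rc_52_0 lc_j_rc_25_1 lc_j_rc_45_1 lc_j_rc_17_1 lc_j_rc_32_1 lc_j_rc_25_1 lc_j_Cert_tree lc_j_rc_8_1 lc_j_rc_17_1 lc_j_rc_17_1 lc_j_rc_32_1 lc_j_rc_51_2 lc_j_Cert_tree lc_j_rc_52_0 lc_j_rc_32_1 lc_j_rc_25_1 lc_j_Cert_tree lc_j_rc_17_1 lc_j_rc_17_1 lc_j_rc_32_1 lc_j_rc_51_2 lc_j_Cert_tree lc_j_rc_52_0) (@D3.rec (fun _ => (Cert rels S Gen.j)) lc_j_rc_8_1 lc_j_rc_8_1 lc_j_rc_25_1 lc_j_rc_17_1 lc_j_rc_17_1 lc_j_Cert_tree lc_j_rc_38_1 lc_j_Cert_tree lc_j_rc_49_5 lc_j_rc_53_2 lc_j_rc_52_0 lc_j_rc_32_1 lc_j_rc_32_1 lc_j_Cert_tree lc_j_rc_52_0 lc_j_rc_17_1 lc_j_rc_17_1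 lc_j_rc_17_1 lc_j_Cert_tree lc_j_rc_25_1 lc_j_Cert_tree lc_j_rc_25_1 lc_j_rc_25_1 lc_j_rc_52_0 lc_j_rc_8_1 lc_j_rc_8_1 lc_j_rc_8_1 lc_j_Cert_tree lc_j_rc_17_1 lc_j_rc_17_1 lc_j_rc_17_1 lc_j_Cert_tree lc_j_rc_17_1 lc_j_rc_17_1 lc_j_rc_52_0 lc_j_Cert_tree lc_j_rc_25_1 lc_j_rc_52_0 lc_j_rc_52_1 lc_j_rc_25_1 lc_j_rc_8_1 lc_j_rc_17_1 lc_j_rc_17_1 lc_j_rc_32_1 lc_j_rc_51_2 lc_j_Cert_tree lc_j_rc_52_0 lc_j_rc_8_1 lc_j_rc_8_1 lc_j_rc_25_1 lc_j_rc_17_1) (@D3.rec (fun _ => (Cert rels S Gen.j)) lc_j_rc_17_1 lc_j_Cert_tree lc_j_rc_38_1 lc_j_Cert_tree lc_j_rc_49_5 lc_j_rc_53_2 lc_j_rc_52_0 lc_j_rc_8_1 lc_j_rc_8_1 lc_j_rc_25_1 lc_j_rc_17_1 lc_j_rc_17_1 lc_j_Cert_tree lc_j_rc_38_1 lc_j_Cert_tree lc_j_rc_49_5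 lc_j_rc_53_2 lc_j_rc_52_0 lc_j_rc_8_1 lc_j_rc_8_1 lc_j_rc_8_1 lc_j_Cert_tree lc_j_rc_25_1 lc_j_rc_25_1 lc_j_rc_17_1 lc_j_Cert_tree lc_j_rc_17_1 lc_j_rc_17_1 lc_j_rc_52_0 lc_j_Cert_tree lc_j_rc_49_5 lc_j_rc_52_0 lc_j_rc_52_1 lc_j_rc_53_2 lc_j_rc_8_1 lc_j_rc_8_1 lc_j_rc_8_1 lc_j_Cert_tree lc_j_rc_25_1 lc_j_rc_25_1 lc_j_rc_17_1 lc_j_Cert_tree lc_j_rc_17_1 lc_j_rc_17_1 lc_j_rc_52_0 lc_j_Cert_tree lc_j_rc_51_2 lc_j_rc_52_0 lc_j_rc_52_1 lc_j_rc_53_2 lc_j_rc_17_1) (@D3.rec (fun _ => (Cert rels S Gen.j)) lc_j_rc_8_1 lc_j_rc_8_1 lc_j_rc_8_1 lc_j_Cert_tree lc_j_rc_8_1 lc_j_rc_8_1 lc_j_rc_52_0 lc_j_rc_25_1 lc_j_Cert_tree lc_j_rc_25_1 lc_j_rc_32_1 lc_j_rc_25_1 lc_j_Cert_tree lc_j_rc_17_1 lc_j_rc_52_0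 lc_j_rc_52_1 lc_j_rc_17_1 lc_j_Cert_tree lc_j_rc_52_0 lc_j_rc_52_1 lc_j_rc_32_1 lc_j_rc_53_2 lc_j_rc_51_2 lc_j_rc_53_2 lc_j_rc_8_1 lc_j_Cert_tree lc_j_rc_52_0 lc_j_rc_25_1 lc_j_Cert_tree lc_j_Cert_tree lc_j_rc_17_1 lc_j_rc_52_0 lc_j_rc_52_1 lc_j_Cert_tree lc_j_rc_52_0 lc_j_rc_52_1 lc_j_rc_32_1 lc_j_rc_53_2 lc_j_rc_51_2 lc_j_rc_53_2 lc_j_rc_8_1 lc_j_Cert_tree lc_j_Cert_tree lc_j_rc_8_1 lc_j_rc_52_0 lc_j_rc_52_1 lc_j_rc_32_1 lc_j_Cert_tree lc_j_rc_25_1 lc_j_rc_52_0 lc_j_rc_52_1) (@D3.rec (fun _ => (Cert rels S Gen.j)) lc_j_Cert_tree lc_j_rc_52_0 lc_j_rc_52_1 lc_j_rc_32_1 lc_j_rc_17_1 lc_j_rc_51_2 lc_j_rc_53_2 lc_j_rc_52_0 lc_j_rc_52_1 lc_j_rc_51_2 lc_j_rc_32_1 lc_j_rc_53_2 lc_j_rc_25_1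 lc_j_rc_32_1 lc_j_rc_53_2 lc_j_rc_8_1 lc_j_rc_8_1 lc_j_rc_8_1 lc_j_Cert_tree lc_j_rc_25_1 lc_j_rc_25_1 lc_j_rc_17_1 lc_j_Cert_tree lc_j_rc_17_1 lc_j_rc_17_1 lc_j_rc_52_0 lc_j_Cert_tree lc_j_rc_49_5 lc_j_rc_52_0 lc_j_rc_52_1 lc_j_rc_53_2 lc_j_rc_8_1 lc_j_rc_8_1 lc_j_rc_8_1 lc_j_Cert_tree lc_j_rc_8_1 lc_j_rc_8_1 lc_j_rc_52_0 lc_j_rc_25_1 lc_j_Cert_tree lc_j_rc_25_1 lc_j_rc_32_1 lc_j_rc_25_1 lc_j_Cert_tree lc_j_rc_17_1 lc_j_rc_52_0 lc_j_rc_52_1 lc_j_rc_17_1 lc_j_Cert_tree lc_j_rc_52_0 lc_j_rc_52_1) (@D3.rec (fun _ => (Cert rels S Gen.j)) lc_j_rc_32_1 lc_j_rc_53_2 lc_j_rc_51_2 lc_j_rc_53_2 lc_j_rc_8_1 lc_j_Cert_tree lc_j_rc_8_1 lc_j_rc_8_1 lc_j_Cert_tree lc_j_rc_8_1 lc_j_rc_52_0 lc_j_rc_52_1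 lc_j_rc_8_1 lc_j_Cert_tree lc_j_rc_25_1 lc_j_rc_52_0 lc_j_rc_52_1 lc_j_rc_32_1 lc_j_rc_25_1 lc_j_rc_38_1 lc_j_rc_32_1 lc_j_Cert_tree lc_j_rc_52_0 lc_j_rc_52_1 lc_j_rc_32_1 lc_j_rc_17_1 lc_j_rc_51_2 lc_j_rc_53_2 lc_j_rc_52_0 lc_j_rc_52_1 lc_j_rc_51_2 lc_j_rc_32_1 lc_j_rc_53_2 lc_j_rc_25_1 lc_j_rc_32_1 lc_j_rc_53_2 lc_j_Cert_tree lc_j_rc_52_0 lc_j_rc_52_1 lc_j_rc_8_1 lc_j_rc_8_1 lc_j_rc_51_2 lc_j_rc_53_2 lc_j_rc_52_0 lc_j_rc_52_1 lc_j_rc_51_2 lc_j_rc_32_1 lc_j_rc_53_2 lc_j_rc_25_1 lc_j_rc_32_1 lc_j_rc_53_2) (@D3.rec (fun _ => (Cert rels S Gen.j)) lc_j_rc_49_3 lc_j_rc_51_2 lc_j_rc_32_1 lc_j_rc_17_3 lc_j_rc_32_1 lc_j_rc_53_2 lc_j_rc_51_2 lc_j_rc_51_0 lc_j_rc_17_1 lc_j_rc_25_1 lc_j_rc_51_2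 lc_j_rc_32_3 lc_j_rc_8_1 lc_j_rc_17_1 lc_j_rc_32_1 lc_j_rc_49_3 lc_j_rc_32_1 lc_j_rc_25_1 lc_j_rc_51_2 lc_j_rc_32_1 lc_j_rc_49_3 lc_j_rc_17_1 lc_j_rc_25_1 lc_j_rc_45_1 lc_j_rc_8_1 lc_j_rc_17_1 lc_j_rc_32_1 lc_j_rc_25_1 lc_j_rc_53_0 lc_j_rc_38_1 lc_j_rc_45_1 lc_j_rc_17_1 lc_j_rc_32_1 lc_j_rc_25_1 lc_j_Cert_tree lc_j_rc_8_1 lc_j_rc_17_1 lc_j_rc_17_1 lc_j_rc_32_1 lc_j_rc_51_2 lc_j_rc_45_1 lc_j_rc_52_0 lc_j_rc_45_1 lc_j_Cert_tree lc_j_rc_17_1 lc_j_rc_17_1 lc_j_rc_32_1 lc_j_Cert_tree lc_j_rc_52_0 lc_j_rc_8_1 lc_j_rc_8_1) (@D3.rec (fun _ => (Cert rels S Gen.j)) lc_j_rc_25_1 lc_j_rc_17_1 lc_j_rc_17_1 lc_j_Cert_tree lc_j_rc_32_3 lc_j_rc_49_1 lc_j_rc_51_2 lc_j_rc_52_0 lc_j_Cert_tree lc_j_rc_17_1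 lc_j_rc_17_1 lc_j_rc_32_1 lc_j_Cert_tree lc_j_rc_52_0 lc_j_rc_8_1 lc_j_rc_8_1 lc_j_rc_25_1 lc_j_rc_17_1 lc_j_rc_17_1 lc_j_Cert_tree lc_j_rc_38_1 lc_j_rc_38_1 lc_j_rc_51_2 lc_j_rc_53_2 lc_j_rc_52_0 lc_j_rc_52_0 lc_j_rc_25_1 lc_j_rc_17_1 lc_j_Cert_tree lc_j_rc_38_1 lc_j_Cert_tree lc_j_rc_52_0 lc_j_rc_8_1 lc_j_rc_8_1 lc_j_rc_8_1 lc_j_Cert_tree lc_j_rc_25_1 lc_j_rc_25_1 lc_j_rc_17_1 lc_j_Cert_tree lc_j_rc_17_1 lc_j_rc_17_1 lc_j_rc_52_0 lc_j_rc_49_1 lc_j_rc_38_1 lc_j_rc_52_0 lc_j_rc_45_3 lc_j_rc_53_2 lc_j_rc_17_1 lc_j_rc_17_1 lc_j_Cert_tree) (@D3.rec (fun _ => (Cert rels S Gen.j)) lc_j_rc_52_0 lc_j_Cert_tree lc_j_rc_52_0 lc_j_rc_17_1 lc_j_rc_8_1 lc_j_rc_8_1 lc_j_rc_8_1 lc_j_Cert_tree lc_j_rc_8_1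 lc_j_rc_52_0 lc_j_rc_17_1 lc_j_Cert_tree lc_j_rc_17_1 lc_j_rc_17_1 lc_j_Cert_tree lc_j_rc_17_1 lc_j_rc_52_0 lc_j_rc_52_1 lc_j_rc_17_1 lc_j_rc_17_3 lc_j_rc_52_0 lc_j_rc_17_3 lc_j_rc_32_1 lc_j_rc_25_1 lc_j_rc_51_2 lc_j_rc_53_2 lc_j_rc_8_1 lc_j_rc_8_1 lc_j_rc_25_1 lc_j_rc_17_1 lc_j_rc_17_1 lc_j_Cert_tree lc_j_rc_38_1 lc_j_rc_38_1 lc_j_rc_51_2 lc_j_rc_53_2 lc_j_rc_52_0 lc_j_rc_8_1 lc_j_rc_8_1 lc_j_Cert_tree lc_j_rc_25_1 lc_j_rc_25_1 lc_j_rc_17_1 lc_j_rc_38_1 lc_j_rc_17_1 lc_j_rc_52_0 lc_j_rc_53_2 lc_j_rc_8_1 lc_j_rc_8_1 lc_j_Cert_tree lc_j_rc_25_1) (@D3.rec (fun _ => (Cert rels S Gen.j)) lc_j_rc_25_1 lc_j_rc_17_1 lc_j_Cert_tree lc_j_rc_17_1 lc_j_rc_52_0 lc_j_rc_49_1 lc_j_rc_51_2 lc_j_rc_52_0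 lc_j_rc_52_1 lc_j_rc_53_2 lc_j_rc_8_1 lc_j_rc_8_1 lc_j_Cert_tree lc_j_rc_52_0 lc_j_rc_25_1 lc_j_Cert_tree lc_j_rc_25_1 lc_j_rc_32_1 lc_j_rc_49_1 lc_j_rc_38_1 lc_j_rc_52_0 lc_j_rc_49_1 lc_j_rc_32_1 lc_j_rc_38_1 lc_j_rc_8_1 lc_j_rc_8_1 lc_j_Cert_tree lc_j_rc_52_0 lc_j_rc_25_1 lc_j_Cert_tree lc_j_rc_25_1 lc_j_Cert_tree lc_j_rc_17_1 lc_j_rc_52_0 lc_j_rc_52_1 lc_j_rc_17_3 lc_j_rc_52_0 lc_j_rc_52_1 lc_j_rc_32_1 lc_j_rc_53_2 lc_j_rc_51_2 lc_j_rc_53_2 lc_j_rc_8_1 lc_j_Cert_tree lc_j_Cert_tree lc_j_rc_52_0 lc_j_rc_32_1 lc_j_Cert_tree lc_j_rc_25_1 lc_j_rc_52_0 lc_j_rc_52_1) (@D3.rec (fun _ => (Cert rels S Gen.j)) lc_j_rc_32_1 lc_j_rc_38_1 lc_j_rc_8_3 lc_j_rc_52_0 lc_j_rc_53_2 lc_j_rc_51_2 lc_j_rc_17_3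 lc_j_rc_53_2 lc_j_rc_8_1 lc_j_Cert_tree lc_j_Cert_tree lc_j_rc_8_1 lc_j_rc_52_0 lc_j_rc_52_1 lc_j_rc_32_1 lc_j_Cert_tree lc_j_rc_25_1 lc_j_rc_52_0 lc_j_rc_52_1 lc_j_Cert_tree lc_j_rc_52_0 lc_j_rc_52_1 lc_j_rc_32_1 lc_j_rc_51_2 lc_j_rc_52_0 lc_j_rc_52_1 lc_j_rc_51_2 lc_j_rc_32_1 lc_j_rc_25_1 lc_j_rc_17_1 lc_j_Cert_tree lc_j_rc_8_1 lc_j_Cert_tree lc_j_rc_52_0 lc_j_Cert_tree lc_j_rc_52_0 lc_j_Cert_tree lc_j_rc_49_5 lc_j_Cert_tree lc_j_rc_52_0 lc_j_rc_52_0 lc_j_rc_8_1 lc_j_rc_8_1 lc_j_Cert_tree lc_j_rc_52_0 lc_j_rc_25_1 lc_j_Cert_tree lc_j_rc_25_1 lc_j_rc_32_1 lc_j_rc_51_2 lc_j_rc_17_1) (@D3.rec (fun _ => (Cert rels S Gen.j)) lc_j_rc_52_0 lc_j_rc_32_1 lc_j_rc_53_2 lc_j_rc_32_1 lc_j_rc_8_1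 lc_j_Cert_tree lc_j_Cert_tree lc_j_rc_52_0 lc_j_rc_32_1 lc_j_Cert_tree lc_j_rc_25_1 lc_j_rc_52_0 lc_j_rc_52_1 lc_j_rc_32_1 lc_j_rc_38_1 lc_j_rc_52_0 lc_j_rc_49_1 lc_j_rc_45_3 lc_j_rc_51_2 lc_j_rc_49_1 lc_j_rc_45_3 lc_j_rc_53_2 lc_j_rc_52_0 lc_j_rc_51_2 lc_j_rc_32_1 lc_j_rc_38_1 lc_j_rc_45_1 lc_j_rc_8_1 lc_j_rc_8_1 lc_j_rc_8_1 lc_j_rc_32_1 lc_j_rc_25_1 lc_j_rc_25_1 lc_j_rc_25_1 lc_j_rc_32_1 lc_j_rc_38_1 lc_j_rc_17_1 lc_j_rc_17_1 lc_j_rc_32_1 lc_j_rc_53_2 lc_j_rc_32_1 lc_j_rc_8_1 lc_j_rc_51_2 lc_j_rc_32_1 lc_j_rc_38_1 lc_j_rc_45_1 lc_j_rc_25_1 lc_j_rc_53_0 lc_j_rc_25_1 lc_j_rc_51_2 lc_j_Cert_tree)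
def ce_j_3 : D2 → D3 → (Cert rels S Gen.j) := @D2.rec (fun _ => D3 → (Cert rels S Gen.j)) (@D3.rec (fun _ => (Cert rels S Gen.j)) lc_j_rc_25_1 lc_j_rc_17_1 lc_j_rc_17_1 lc_j_rc_38_1 lc_j_rc_51_2 lc_j_rc_32_1 lc_j_rc_32_1 lc_j_rc_32_1 lc_j_rc_51_2 lc_j_rc_32_1 lc_j_rc_25_1 lc_j_rc_25_1 lc_j_rc_25_1 lc_j_rc_45_1 lc_j_Cert_tree lc_j_rc_32_1 lc_j_rc_45_1 lc_j_rc_52_0 lc_j_rc_17_1 lc_j_rc_32_1 lc_j_Cert_tree lc_j_rc_52_0 lc_j_rc_32_3 lc_j_rc_49_1 lc_j_rc_52_0 lc_j_rc_51_2 lc_j_rc_32_3 lc_j_rc_51_2 lc_j_rc_52_0 lc_j_rc_38_1 lc_j_rc_17_1 lc_j_rc_25_1 lc_j_rc_17_1 lc_j_rc_49_1 lc_j_rc_52_0 lc_j_rc_17_3 lc_j_rc_49_1 lc_j_rc_25_3 lc_j_rc_49_1 lc_j_rc_38_1 lc_j_rc_52_0 lc_j_rc_32_1 lc_j_rc_38_3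 lc_j_rc_52_0 lc_j_rc_38_3 lc_j_rc_17_1 lc_j_rc_51_2 lc_j_rc_8_1 lc_j_rc_32_1 lc_j_rc_17_1 lc_j_rc_8_1) (@D3.rec (fun _ => (Cert rels S Gen.j)) lc_j_rc_52_0 lc_j_rc_8_1 lc_j_rc_32_3 lc_j_rc_52_0 lc_j_rc_38_1 lc_j_rc_49_1 lc_j_rc_52_0 lc_j_rc_49_1 lc_j_rc_52_0 lc_j_rc_38_3 lc_j_rc_52_0 lc_j_rc_17_3 lc_j_rc_52_0 lc_j_rc_38_1 lc_j_rc_52_0 lc_j_rc_8_3 lc_j_rc_17_3 lc_j_rc_52_0 lc_j_rc_17_1 lc_j_Cert_tree lc_j_rc_8_1 lc_j_Cert_tree lc_j_rc_8_1 lc_j_rc_52_0 lc_j_rc_52_1 lc_j_rc_32_1 lc_j_rc_52_0 lc_j_rc_38_3 lc_j_rc_8_1 lc_j_rc_51_2 lc_j_rc_25_1 lc_j_rc_25_1 lc_j_rc_52_0 lc_j_rc_52_1 lc_j_rc_51_2 lc_j_rc_32_1 lc_j_rc_8_1 lc_j_rc_51_2 lc_j_rc_8_1 lc_j_rc_25_1 lc_j_rc_17_1 lc_j_Cert_tree lc_j_rc_52_0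 lc_j_rc_25_1 lc_j_rc_25_3 lc_j_rc_52_0 lc_j_rc_52_0 lc_j_rc_51_2 lc_j_rc_52_0 lc_j_rc_52_0 lc_j_rc_8_1) (@D3.rec (fun _ => (Cert rels S Gen.j)) lc_j_rc_25_1 lc_j_rc_38_1 lc_j_rc_51_2 lc_j_rc_32_1 lc_j_rc_25_1 lc_j_rc_38_1 lc_j_rc_17_1 lc_j_rc_25_1 lc_j_rc_45_1 lc_j_rc_25_1 lc_j_rc_49_3 lc_j_rc_17_1 lc_j_rc_25_1 lc_j_rc_45_1 lc_j_rc_8_1 lc_j_rc_17_1 lc_j_rc_32_1 lc_j_rc_25_1 lc_j_Cert_tree lc_j_rc_8_1 lc_j_rc_17_1 lc_j_rc_32_1 lc_j_rc_25_1 lc_j_Cert_tree lc_j_rc_8_1 lc_j_rc_17_1 lc_j_rc_17_1 lc_j_rc_32_1 lc_j_rc_51_2 lc_j_Cert_tree lc_j_rc_52_0 lc_j_rc_8_1 lc_j_rc_8_1 lc_j_rc_25_1 lc_j_rc_17_1 lc_j_rc_17_1 lc_j_Cert_tree lc_j_rc_38_1 lc_j_Cert_tree lc_j_rc_32_1 lc_j_rc_32_1 lc_j_rc_52_0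 lc_j_rc_25_1 lc_j_rc_38_1 lc_j_rc_17_1 lc_j_rc_25_1 lc_j_rc_45_1 lc_j_rc_17_1 lc_j_rc_25_1 lc_j_rc_45_1 lc_j_rc_8_1) (@D3.rec (fun _ => (Cert rels S Gen.j)) lc_j_rc_17_1 lc_j_rc_32_1 lc_j_rc_25_1 lc_j_Cert_tree lc_j_rc_17_1 lc_j_rc_32_1 lc_j_rc_25_1 lc_j_Cert_tree lc_j_rc_8_1 lc_j_rc_17_1 lc_j_rc_17_1 lc_j_rc_32_1 lc_j_rc_51_2 lc_j_Cert_tree lc_j_rc_52_0 lc_j_rc_17_1 lc_j_rc_32_1 lc_j_rc_25_1 lc_j_Cert_tree lc_j_rc_8_1 lc_j_rc_17_1 lc_j_rc_17_1 lc_j_rc_32_1 lc_j_rc_51_2 lc_j_Cert_tree lc_j_rc_52_0 lc_j_rc_17_1 lc_j_rc_17_1 lc_j_rc_32_1 lc_j_rc_51_2 lc_j_Cert_tree lc_j_rc_52_0 lc_j_rc_8_1 lc_j_rc_8_1 lc_j_rc_25_1 lc_j_rc_17_1 lc_j_rc_17_1 lc_j_Cert_tree lc_j_rc_38_1 lc_j_Cert_tree lc_j_rc_49_5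 lc_j_rc_53_2 lc_j_rc_52_0 lc_j_rc_17_1 lc_j_rc_17_1 lc_j_rc_17_1 lc_j_Cert_tree lc_j_rc_25_1 lc_j_Cert_tree lc_j_rc_25_1 lc_j_rc_25_1) (@D3.rec (fun _ => (Cert rels S Gen.j)) lc_j_rc_52_0 lc_j_rc_8_1 lc_j_rc_8_1 lc_j_rc_8_1 lc_j_Cert_tree lc_j_rc_17_1 lc_j_rc_17_1 lc_j_rc_17_1 lc_j_Cert_tree lc_j_rc_17_1 lc_j_rc_17_1 lc_j_rc_52_0 lc_j_Cert_tree lc_j_rc_25_1 lc_j_rc_52_0 lc_j_rc_52_1 lc_j_rc_25_1 lc_j_rc_8_1 lc_j_rc_17_1 lc_j_rc_32_1 lc_j_rc_25_1 lc_j_Cert_tree lc_j_rc_8_1 lc_j_rc_17_1 lc_j_rc_17_1 lc_j_rc_32_1 lc_j_rc_51_2 lc_j_Cert_tree lc_j_rc_52_0 lc_j_rc_8_1 lc_j_rc_8_1 lc_j_rc_25_1 lc_j_rc_17_1 lc_j_rc_17_1 lc_j_Cert_tree lc_j_rc_38_1 lc_j_Cert_tree lc_j_rc_49_5 lc_j_rc_53_2 lc_j_rc_52_0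 lc_j_rc_8_1 lc_j_rc_17_1 lc_j_rc_17_1 lc_j_rc_32_1 lc_j_rc_51_2 lc_j_Cert_tree lc_j_rc_52_0 lc_j_rc_8_1 lc_j_rc_8_1 lc_j_rc_25_1 lc_j_rc_17_1) (@D3.rec (fun _ => (Cert rels S Gen.j)) lc_j_rc_17_1 lc_j_Cert_tree lc_j_rc_38_1 lc_j_Cert_tree lc_j_rc_49_5 lc_j_rc_53_2 lc_j_rc_52_0 lc_j_rc_8_1 lc_j_rc_8_1 lc_j_rc_8_1 lc_j_Cert_tree lc_j_rc_25_1 lc_j_rc_25_1 lc_j_rc_17_1 lc_j_Cert_tree lc_j_rc_17_1 lc_j_rc_17_1 lc_j_rc_52_0 lc_j_Cert_tree lc_j_rc_49_5 lc_j_rc_52_0 lc_j_rc_52_1 lc_j_rc_53_2 lc_j_rc_8_1 lc_j_rc_8_1 lc_j_rc_25_1 lc_j_rc_32_1 lc_j_rc_32_1 lc_j_Cert_tree lc_j_rc_38_1 lc_j_Cert_tree lc_j_rc_32_1 lc_j_rc_32_1 lc_j_rc_52_0 lc_j_rc_8_1 lc_j_rc_8_1 lc_j_rc_8_1 lc_j_Cert_tree lc_j_rc_25_1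 lc_j_rc_25_1 lc_j_rc_17_1 lc_j_Cert_tree lc_j_rc_17_1 lc_j_rc_17_1 lc_j_rc_52_0 lc_j_Cert_tree lc_j_rc_51_2 lc_j_rc_52_0 lc_j_rc_52_1 lc_j_rc_53_2 lc_j_rc_17_1) (@D3.rec (fun _ => (Cert rels S Gen.j)) lc_j_rc_8_1 lc_j_rc_8_1 lc_j_rc_8_1 lc_j_Cert_tree lc_j_rc_8_1 lc_j_rc_8_1 lc_j_rc_52_0 lc_j_rc_25_1 lc_j_Cert_tree lc_j_rc_25_1 lc_j_rc_32_1 lc_j_rc_25_1 lc_j_Cert_tree lc_j_rc_17_1 lc_j_rc_52_0 lc_j_rc_52_1 lc_j_rc_17_1 lc_j_Cert_tree lc_j_rc_52_0 lc_j_rc_52_1 lc_j_rc_32_1 lc_j_rc_53_2 lc_j_rc_51_2 lc_j_rc_53_2 lc_j_Cert_tree lc_j_rc_25_1 lc_j_Cert_tree lc_j_rc_52_0 lc_j_Cert_tree lc_j_rc_38_1 lc_j_Cert_tree lc_j_rc_52_0 lc_j_Cert_tree lc_j_rc_38_1 lc_j_rc_52_0 lc_j_rc_52_1 lc_j_rc_8_1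 lc_j_Cert_tree lc_j_rc_52_0 lc_j_rc_25_1 lc_j_Cert_tree lc_j_Cert_tree lc_j_rc_17_1 lc_j_rc_52_0 lc_j_rc_52_1 lc_j_Cert_tree lc_j_rc_52_0 lc_j_rc_52_1 lc_j_rc_32_1 lc_j_rc_53_2 lc_j_rc_51_2) (@D3.rec (fun _ => (Cert rels S Gen.j)) lc_j_rc_53_2 lc_j_rc_8_1 lc_j_Cert_tree lc_j_Cert_tree lc_j_rc_8_1 lc_j_rc_52_0 lc_j_rc_52_1 lc_j_rc_32_1 lc_j_Cert_tree lc_j_rc_25_1 lc_j_rc_52_0 lc_j_rc_52_1 lc_j_Cert_tree lc_j_rc_52_0 lc_j_rc_52_1 lc_j_rc_32_1 lc_j_rc_17_1 lc_j_rc_51_2 lc_j_rc_53_2 lc_j_rc_52_0 lc_j_rc_52_1 lc_j_rc_51_2 lc_j_rc_32_1 lc_j_rc_53_2 lc_j_rc_25_1 lc_j_rc_32_1 lc_j_rc_53_2 lc_j_rc_51_2 lc_j_rc_32_1 lc_j_rc_25_1 lc_j_rc_49_3 lc_j_rc_17_1 lc_j_rc_25_1 lc_j_rc_45_1 lc_j_rc_8_1 lc_j_rc_17_1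 lc_j_rc_32_1 lc_j_rc_25_1 lc_j_rc_53_0 lc_j_rc_25_1 lc_j_rc_38_1 lc_j_rc_25_1 lc_j_rc_45_1 lc_j_rc_17_1 lc_j_rc_32_1 lc_j_rc_25_1 lc_j_Cert_tree lc_j_rc_8_1 lc_j_rc_17_1 lc_j_rc_17_1 lc_j_rc_32_1) (@D3.rec (fun _ => (Cert rels S Gen.j)) lc_j_rc_51_2 lc_j_Cert_tree lc_j_rc_52_0 lc_j_rc_25_1 lc_j_rc_45_1 lc_j_rc_32_1 lc_j_rc_25_1 lc_j_Cert_tree lc_j_rc_17_1 lc_j_rc_17_1 lc_j_rc_32_1 lc_j_rc_51_2 lc_j_Cert_tree lc_j_rc_52_0 lc_j_rc_8_1 lc_j_rc_8_1 lc_j_rc_25_1 lc_j_rc_17_1 lc_j_rc_17_1 lc_j_Cert_tree lc_j_rc_38_1 lc_j_Cert_tree lc_j_rc_51_2 lc_j_rc_53_2 lc_j_rc_52_0 lc_j_rc_32_1 lc_j_rc_25_1 lc_j_Cert_tree lc_j_rc_17_1 lc_j_rc_17_1 lc_j_rc_32_1 lc_j_rc_51_2 lc_j_Cert_tree lc_j_rc_52_0 lc_j_rc_8_1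 lc_j_rc_8_1 lc_j_rc_25_1 lc_j_rc_17_1 lc_j_rc_17_1 lc_j_Cert_tree lc_j_rc_38_1 lc_j_Cert_tree lc_j_rc_49_5 lc_j_rc_53_2 lc_j_rc_52_0 lc_j_rc_32_1 lc_j_rc_51_2 lc_j_Cert_tree lc_j_rc_52_0 lc_j_rc_25_1 lc_j_rc_17_1) (@D3.rec (fun _ => (Cert rels S Gen.j)) lc_j_rc_17_1 lc_j_Cert_tree lc_j_rc_38_1 lc_j_Cert_tree lc_j_rc_51_2 lc_j_rc_53_2 lc_j_rc_52_0 lc_j_rc_8_1 lc_j_rc_8_1 lc_j_rc_8_1 lc_j_Cert_tree lc_j_rc_25_1 lc_j_rc_25_1 lc_j_rc_17_1 lc_j_Cert_tree lc_j_rc_17_1 lc_j_rc_17_1 lc_j_rc_52_0 lc_j_Cert_tree lc_j_rc_49_5 lc_j_rc_52_0 lc_j_rc_52_1 lc_j_rc_53_2 lc_j_rc_38_1 lc_j_Cert_tree lc_j_rc_32_1 lc_j_rc_32_1 lc_j_rc_52_0 lc_j_rc_17_1 lc_j_rc_17_1 lc_j_rc_17_1 lc_j_Cert_tree lc_j_rc_17_1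 lc_j_rc_17_1 lc_j_rc_52_0 lc_j_Cert_tree lc_j_rc_25_1 lc_j_rc_52_0 lc_j_rc_52_1 lc_j_rc_25_1 lc_j_rc_8_1 lc_j_rc_8_1 lc_j_rc_8_1 lc_j_rc_8_1 lc_j_Cert_tree lc_j_rc_8_1 lc_j_rc_8_1 lc_j_rc_52_0 lc_j_rc_17_1 lc_j_Cert_tree lc_j_rc_17_1) (@D3.rec (fun _ => (Cert rels S Gen.j)) lc_j_rc_17_1 lc_j_rc_17_1 lc_j_Cert_tree lc_j_rc_17_1 lc_j_rc_52_0 lc_j_rc_52_1 lc_j_rc_17_1 lc_j_Cert_tree lc_j_rc_52_0 lc_j_rc_52_1 lc_j_rc_32_1 lc_j_rc_25_1 lc_j_rc_51_2 lc_j_rc_53_2 lc_j_rc_8_1 lc_j_rc_8_1 lc_j_rc_25_1 lc_j_rc_17_1 lc_j_rc_17_1 lc_j_Cert_tree lc_j_rc_38_1 lc_j_Cert_tree lc_j_rc_49_5 lc_j_rc_53_2 lc_j_rc_52_0 lc_j_rc_8_1 lc_j_rc_8_1 lc_j_rc_8_1 lc_j_Cert_tree lc_j_rc_25_1 lc_j_rc_25_1 lc_j_rc_17_1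 lc_j_Cert_tree lc_j_rc_17_1 lc_j_rc_17_1 lc_j_rc_52_0 lc_j_Cert_tree lc_j_rc_49_5 lc_j_rc_52_0 lc_j_rc_52_1 lc_j_rc_53_2 lc_j_rc_8_1 lc_j_rc_8_1 lc_j_rc_8_1 lc_j_Cert_tree lc_j_rc_25_1 lc_j_rc_25_1 lc_j_rc_17_1 lc_j_Cert_tree lc_j_rc_17_1 lc_j_rc_17_1) (@D3.rec (fun _ => (Cert rels S Gen.j)) lc_j_rc_52_0 lc_j_Cert_tree lc_j_rc_51_2 lc_j_rc_52_0 lc_j_rc_52_1 lc_j_rc_53_2 lc_j_rc_17_1 lc_j_rc_8_1 lc_j_rc_8_1 lc_j_rc_8_1 lc_j_Cert_tree lc_j_rc_8_1 lc_j_rc_8_1 lc_j_rc_52_0 lc_j_rc_25_1 lc_j_Cert_tree lc_j_rc_25_1 lc_j_rc_32_1 lc_j_rc_25_1 lc_j_Cert_tree lc_j_rc_17_1 lc_j_rc_52_0 lc_j_rc_52_1 lc_j_rc_17_1 lc_j_Cert_tree lc_j_rc_52_0 lc_j_rc_52_1 lc_j_rc_32_1 lc_j_rc_53_2 lc_j_rc_51_2 lc_j_rc_53_2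 lc_j_rc_17_1 lc_j_rc_8_1 lc_j_rc_8_1 lc_j_rc_8_1 lc_j_Cert_tree lc_j_rc_8_1 lc_j_rc_8_1 lc_j_rc_52_0 lc_j_rc_25_1 lc_j_Cert_tree lc_j_rc_25_1 lc_j_rc_32_1 lc_j_rc_25_1 lc_j_Cert_tree lc_j_rc_17_1 lc_j_rc_52_0 lc_j_rc_52_1 lc_j_rc_17_1 lc_j_Cert_tree lc_j_rc_52_0) (@D3.rec (fun _ => (Cert rels S Gen.j)) lc_j_rc_52_1 lc_j_rc_32_1 lc_j_rc_53_2 lc_j_rc_51_2 lc_j_rc_53_2 lc_j_rc_17_1 lc_j_rc_8_1 lc_j_Cert_tree lc_j_rc_8_1 lc_j_rc_8_1 lc_j_Cert_tree lc_j_rc_8_1 lc_j_rc_52_0 lc_j_rc_52_1 lc_j_rc_8_1 lc_j_rc_32_1 lc_j_Cert_tree lc_j_rc_25_1 lc_j_rc_52_0 lc_j_rc_52_1 lc_j_rc_32_1 lc_j_rc_25_1 lc_j_rc_38_1 lc_j_rc_32_1 lc_j_Cert_tree lc_j_rc_52_0 lc_j_rc_52_1 lc_j_rc_32_1 lc_j_rc_17_1 lc_j_rc_51_2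 lc_j_rc_53_2 lc_j_rc_52_0 lc_j_rc_52_1 lc_j_rc_51_2 lc_j_rc_32_1 lc_j_rc_53_2 lc_j_rc_25_1 lc_j_rc_32_1 lc_j_rc_53_2 lc_j_Cert_tree lc_j_rc_52_0 lc_j_rc_32_1 lc_j_Cert_tree lc_j_rc_52_0 lc_j_Cert_tree lc_j_rc_52_0 lc_j_rc_52_1 lc_j_rc_32_1 lc_j_rc_51_2 lc_j_rc_52_0 lc_j_rc_52_1) (@D3.rec (fun _ => (Cert rels S Gen.j)) lc_j_rc_51_2 lc_j_rc_32_1 lc_j_rc_53_2 lc_j_rc_25_1 lc_j_rc_32_1 lc_j_rc_53_2 lc_j_rc_8_1 lc_j_Cert_tree lc_j_rc_52_0 lc_j_Cert_tree lc_j_rc_52_0 lc_j_rc_52_1 lc_j_rc_8_1 lc_j_rc_51_2 lc_j_Cert_tree lc_j_rc_49_5 lc_j_Cert_tree lc_j_rc_52_0 lc_j_rc_52_1 lc_j_rc_32_1 lc_j_rc_51_2 lc_j_rc_52_0 lc_j_rc_52_1 lc_j_rc_51_2 lc_j_rc_32_1 lc_j_rc_53_2 lc_j_rc_25_1 lc_j_rc_32_1 lc_j_rc_53_2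 lc_j_rc_49_3 lc_j_rc_51_2 lc_j_rc_32_1 lc_j_rc_53_2 lc_j_rc_32_1 lc_j_rc_53_2 lc_j_rc_25_1 lc_j_rc_53_2 lc_j_rc_17_1 lc_j_rc_25_1 lc_j_rc_51_2 lc_j_rc_8_1 lc_j_rc_8_1 lc_j_rc_8_1 lc_j_Cert_tree lc_j_rc_8_1 lc_j_rc_8_1 lc_j_rc_52_0 lc_j_rc_25_1 lc_j_Cert_tree lc_j_rc_25_1 lc_j_rc_32_1) (@D3.rec (fun _ => (Cert rels S Gen.j)) lc_j_rc_25_1 lc_j_Cert_tree lc_j_rc_17_1 lc_j_rc_52_0 lc_j_rc_52_1 lc_j_rc_17_1 lc_j_Cert_tree lc_j_rc_52_0 lc_j_rc_52_1 lc_j_rc_32_1 lc_j_rc_53_2 lc_j_rc_51_2 lc_j_rc_53_2 lc_j_rc_8_1 lc_j_Cert_tree lc_j_rc_8_1 lc_j_rc_8_1 lc_j_Cert_tree lc_j_rc_8_1 lc_j_rc_52_0 lc_j_rc_52_1 lc_j_rc_8_1 lc_j_rc_32_1 lc_j_Cert_tree lc_j_rc_25_1 lc_j_rc_52_0 lc_j_rc_52_1 lc_j_rc_32_1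 lc_j_rc_25_1 lc_j_rc_38_1 lc_j_rc_32_1 lc_j_Cert_tree lc_j_rc_52_0 lc_j_rc_52_1 lc_j_rc_32_1 lc_j_rc_17_1 lc_j_rc_51_2 lc_j_rc_53_2 lc_j_rc_52_0 lc_j_rc_52_1 lc_j_rc_51_2 lc_j_rc_32_1 lc_j_rc_53_2 lc_j_rc_25_1 lc_j_rc_32_1 lc_j_rc_53_2 lc_j_Cert_tree lc_j_rc_8_1 lc_j_rc_52_0 lc_j_rc_52_1 lc_j_rc_8_1) (@D3.rec (fun _ => (Cert rels S Gen.j)) lc_j_Cert_tree lc_j_rc_52_0 lc_j_rc_52_1 lc_j_rc_8_1 lc_j_rc_8_1 lc_j_rc_51_2 lc_j_rc_53_2 lc_j_Cert_tree lc_j_rc_52_0 lc_j_rc_52_1 lc_j_rc_32_1 lc_j_rc_25_1 lc_j_rc_51_2 lc_j_rc_32_1 lc_j_rc_53_2 lc_j_rc_38_1 lc_j_rc_32_1 lc_j_rc_45_1 lc_j_rc_38_1 lc_j_rc_52_0 lc_j_rc_52_1 lc_j_rc_51_2 lc_j_rc_32_1 lc_j_rc_53_2 lc_j_rc_25_1 lc_j_rc_32_1 lc_j_rc_53_2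 lc_j_rc_49_3 lc_j_rc_51_2 lc_j_rc_32_1 lc_j_rc_53_2 lc_j_rc_32_1 lc_j_rc_53_2 lc_j_rc_25_1 lc_j_rc_53_2 lc_j_rc_17_1 lc_j_rc_25_1 lc_j_rc_51_2 lc_j_rc_52_0 lc_j_rc_52_1 lc_j_rc_51_2 lc_j_rc_32_1 lc_j_rc_53_2 lc_j_rc_25_1 lc_j_rc_8_1 lc_j_rc_53_2 lc_j_rc_17_1 lc_j_rc_51_2 lc_j_rc_32_1 lc_j_rc_32_3 lc_j_rc_32_1) (@D3.rec (fun _ => (Cert rels S Gen.j)) lc_j_rc_53_2 lc_j_rc_25_1 lc_j_rc_53_2 lc_j_rc_17_1 lc_j_rc_25_1 lc_j_rc_51_2 lc_j_rc_32_1 lc_j_rc_51_0 lc_j_rc_38_1 lc_j_rc_51_0 lc_j_rc_25_3 lc_j_rc_45_1 lc_j_rc_8_1 lc_j_rc_17_1 lc_j_rc_25_1 lc_j_rc_32_3 lc_j_rc_8_1 lc_j_rc_38_1 lc_j_rc_51_2 lc_j_rc_32_1 lc_j_rc_32_1 lc_j_rc_32_1 lc_j_rc_51_2 lc_j_rc_17_1 lc_j_rc_32_1 lc_j_rc_25_1 lc_j_rc_25_1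 lc_j_rc_8_1 lc_j_rc_17_1 lc_j_rc_17_1 lc_j_rc_45_1 lc_j_Cert_tree lc_j_rc_17_1 lc_j_rc_17_1 lc_j_rc_32_1 lc_j_rc_45_1 lc_j_rc_52_0 lc_j_rc_8_1 lc_j_rc_8_1 lc_j_rc_25_1 lc_j_rc_17_1 lc_j_rc_17_1 lc_j_rc_45_1 lc_j_Cert_tree lc_j_rc_52_0 lc_j_rc_25_1 lc_j_rc_17_1 lc_j_Cert_tree lc_j_rc_32_3 lc_j_rc_49_1 lc_j_rc_52_0) (@D3.rec (fun _ => (Cert rels S Gen.j)) lc_j_rc_8_1 lc_j_rc_45_1 lc_j_rc_8_1 lc_j_rc_49_3 lc_j_rc_25_1 lc_j_rc_25_1 lc_j_rc_32_3 lc_j_rc_49_1 lc_j_rc_51_2 lc_j_rc_52_0 lc_j_rc_52_0 lc_j_rc_25_1 lc_j_rc_17_1 lc_j_rc_38_1 lc_j_rc_38_1 lc_j_rc_32_3 lc_j_rc_52_0 lc_j_rc_8_1 lc_j_rc_8_1 lc_j_rc_8_1 lc_j_rc_32_3 lc_j_rc_25_1 lc_j_rc_25_1 lc_j_rc_17_1 lc_j_rc_38_1 lc_j_rc_17_1 lc_j_rc_17_1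 lc_j_rc_52_0 lc_j_rc_53_2 lc_j_rc_25_1 lc_j_rc_17_1 lc_j_Cert_tree lc_j_rc_52_0 lc_j_rc_38_3 lc_j_rc_52_0 lc_j_rc_17_1 lc_j_rc_8_1 lc_j_rc_8_1 lc_j_rc_38_1 lc_j_rc_38_1 lc_j_rc_8_1 lc_j_rc_52_0 lc_j_rc_25_1 lc_j_Cert_tree lc_j_rc_25_1 lc_j_rc_32_1 lc_j_rc_49_1 lc_j_rc_38_1 lc_j_rc_52_0 lc_j_rc_49_1 lc_j_rc_17_1) (@D3.rec (fun _ => (Cert rels S Gen.j)) lc_j_rc_38_1 lc_j_rc_49_1 lc_j_rc_17_1 lc_j_Cert_tree lc_j_Cert_tree lc_j_rc_52_0 lc_j_rc_17_3 lc_j_rc_52_0 lc_j_rc_17_1 lc_j_rc_8_1 lc_j_Cert_tree lc_j_rc_8_1 lc_j_rc_45_1 lc_j_rc_8_1 lc_j_rc_52_0 lc_j_rc_52_1 lc_j_rc_17_1 lc_j_Cert_tree lc_j_rc_17_1 lc_j_rc_52_0 lc_j_rc_52_1 lc_j_rc_17_1 lc_j_rc_17_1 lc_j_rc_53_0 lc_j_rc_52_0 lc_j_rc_8_3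 lc_j_rc_17_1 lc_j_rc_17_1 lc_j_rc_51_2 lc_j_rc_53_2 lc_j_rc_17_3 lc_j_rc_32_1 lc_j_rc_53_2 lc_j_rc_8_1 lc_j_rc_8_1 lc_j_Cert_tree lc_j_rc_25_1 lc_j_rc_25_1 lc_j_rc_17_1 lc_j_rc_32_3 lc_j_rc_17_1 lc_j_rc_52_0 lc_j_rc_51_2 lc_j_rc_38_1 lc_j_rc_53_2 lc_j_rc_8_1 lc_j_rc_8_1 lc_j_rc_38_1 lc_j_rc_52_0 lc_j_rc_25_1 lc_j_rc_51_2) (@D3.rec (fun _ => (Cert rels S Gen.j)) lc_j_rc_25_1 lc_j_rc_32_1 lc_j_rc_8_1 lc_j_rc_8_1 lc_j_Cert_tree lc_j_rc_52_0 lc_j_rc_25_1 lc_j_Cert_tree lc_j_rc_25_1 lc_j_rc_38_3 lc_j_rc_17_1 lc_j_rc_52_0 lc_j_rc_38_1 lc_j_rc_49_1 lc_j_rc_32_1 lc_j_rc_32_1 lc_j_rc_51_2 lc_j_rc_38_1 lc_j_rc_8_1 lc_j_Cert_tree lc_j_rc_38_3 lc_j_rc_52_0 lc_j_rc_32_1 lc_j_rc_49_1 lc_j_rc_51_2 lc_j_rc_52_0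 lc_j_rc_49_1 lc_j_rc_32_1 lc_j_rc_38_1 lc_j_rc_8_1 lc_j_Cert_tree lc_j_Cert_tree lc_j_rc_52_0 lc_j_rc_32_1 lc_j_Cert_tree lc_j_rc_25_1 lc_j_rc_52_0 lc_j_rc_52_1 lc_j_rc_8_3 lc_j_rc_52_0 lc_j_rc_53_2 lc_j_rc_32_1 lc_j_rc_51_2 lc_j_rc_17_1 lc_j_rc_51_2 lc_j_rc_32_1 lc_j_rc_17_3 lc_j_rc_32_1 lc_j_rc_53_2 lc_j_rc_8_1 lc_j_Cert_tree) (@D3.rec (fun _ => (Cert rels S Gen.j)) lc_j_rc_52_0 lc_j_rc_45_3 lc_j_rc_52_0 lc_j_Cert_tree lc_j_rc_49_5 lc_j_rc_25_1 lc_j_rc_52_0 lc_j_rc_25_1 lc_j_rc_32_1 lc_j_rc_51_2 lc_j_rc_32_1 lc_j_rc_38_1 lc_j_rc_45_1 lc_j_rc_8_1 lc_j_Cert_tree lc_j_rc_52_0 lc_j_rc_32_1 lc_j_rc_52_0 lc_j_rc_52_1 lc_j_rc_8_1 lc_j_rc_51_2 lc_j_Cert_tree lc_j_rc_49_5 lc_j_Cert_tree lc_j_rc_52_0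 lc_j_rc_52_1 lc_j_rc_32_1 lc_j_rc_51_2 lc_j_rc_52_0 lc_j_rc_51_2 lc_j_rc_51_2 lc_j_rc_45_1 lc_j_rc_25_1 lc_j_rc_51_2 lc_j_rc_38_1 lc_j_rc_32_1 lc_j_rc_25_1 lc_j_rc_17_1 lc_j_rc_17_1 lc_j_Cert_tree lc_j_rc_52_0 lc_j_Cert_tree lc_j_rc_8_1 lc_j_Cert_tree lc_j_rc_52_0 lc_j_rc_52_0 lc_j_Cert_tree lc_j_rc_52_0 lc_j_rc_52_1 lc_j_rc_53_2 lc_j_rc_52_0) (@D3.rec (fun _ => (Cert rels S Gen.j)) lc_j_rc_8_1 lc_j_Cert_tree lc_j_rc_51_2 lc_j_rc_52_0 lc_j_rc_32_1 lc_j_rc_51_2 lc_j_rc_25_1 lc_j_rc_52_0 lc_j_rc_38_1 lc_j_rc_32_1 lc_j_rc_38_1 lc_j_rc_8_1 lc_j_Cert_tree lc_j_rc_52_0 lc_j_rc_52_0 lc_j_Cert_tree lc_j_rc_51_2 lc_j_rc_52_0 lc_j_rc_49_1 lc_j_rc_32_1 lc_j_rc_51_2 lc_j_rc_32_1 lc_j_rc_38_1 lc_j_rc_45_1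 lc_j_rc_53_0 lc_j_rc_51_2 lc_j_rc_32_1 lc_j_rc_38_1 lc_j_rc_45_1 lc_j_Cert_tree lc_j_rc_8_1 lc_j_rc_8_1 lc_j_rc_8_1 lc_j_rc_32_1 lc_j_rc_51_2 lc_j_rc_25_1 lc_j_rc_25_1 lc_j_rc_32_1 lc_j_rc_32_1 lc_j_rc_38_1 lc_j_rc_45_1 lc_j_rc_25_1 lc_j_rc_51_2 lc_j_rc_8_1 lc_j_rc_51_2 lc_j_rc_53_2 lc_j_rc_25_1 lc_j_rc_38_1 lc_j_rc_45_1 lc_j_Cert_tree lc_j_rc_53_2) (@D3.rec (fun _ => (Cert rels S Gen.j)) lc_j_rc_25_3 lc_j_rc_51_2 lc_j_rc_52_0 lc_j_rc_25_1 lc_j_rc_25_1 lc_j_rc_17_1 lc_j_rc_17_1 lc_j_rc_51_2 lc_j_rc_38_1 lc_j_rc_38_1 lc_j_rc_32_1 lc_j_rc_51_2 lc_j_rc_32_1 lc_j_Cert_tree lc_j_rc_52_0 lc_j_rc_38_1 lc_j_rc_52_0 lc_j_rc_32_1 lc_j_rc_17_1 lc_j_Cert_tree lc_j_rc_52_0 lc_j_rc_25_1 lc_j_rc_25_1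 lc_j_rc_52_0 lc_j_rc_8_3 lc_j_rc_51_2 lc_j_rc_25_1 lc_j_rc_51_2 lc_j_rc_32_1 lc_j_rc_25_1 lc_j_rc_25_3 lc_j_rc_25_3 lc_j_rc_52_0 lc_j_rc_25_1 lc_j_rc_32_1 lc_j_rc_25_1 lc_j_rc_32_1 lc_j_rc_17_1 lc_j_rc_25_1 lc_j_rc_45_1 lc_j_rc_8_1 lc_j_rc_17_1 lc_j_rc_32_1 lc_j_rc_25_1 lc_j_Cert_tree lc_j_rc_17_1 lc_j_rc_25_1 lc_j_rc_51_2 lc_j_rc_8_1 lc_j_rc_17_1 lc_j_rc_32_1) (@D3.rec (fun _ => (Cert rels S Gen.j)) lc_j_rc_25_1 lc_j_Cert_tree lc_j_rc_8_1 lc_j_rc_17_1 lc_j_rc_17_1 lc_j_rc_32_1 lc_j_rc_51_2 lc_j_Cert_tree lc_j_rc_52_0 lc_j_rc_8_1 lc_j_rc_17_1 lc_j_rc_17_1 lc_j_rc_32_1 lc_j_rc_51_2 lc_j_Cert_tree lc_j_rc_52_0 lc_j_rc_8_1 lc_j_rc_8_1 lc_j_rc_25_1 lc_j_rc_17_1 lc_j_rc_17_1 lc_j_Cert_tree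 lc_j_rc_38_1 lc_j_Cert_tree lc_j_rc_51_2 lc_j_rc_53_2 lc_j_rc_52_0 lc_j_rc_8_1 lc_j_rc_8_1 lc_j_rc_8_1 lc_j_Cert_tree lc_j_rc_25_1 lc_j_rc_25_1 lc_j_rc_17_1 lc_j_Cert_tree lc_j_rc_17_1 lc_j_rc_17_1 lc_j_rc_52_0 lc_j_Cert_tree lc_j_rc_38_1 lc_j_rc_52_0 lc_j_rc_52_1 lc_j_rc_32_1 lc_j_rc_17_1 lc_j_rc_25_1 lc_j_rc_45_1 lc_j_rc_8_1 lc_j_rc_17_1 lc_j_rc_32_1 lc_j_rc_25_1 lc_j_Cert_tree) (@D3.rec (fun _ => (Cert rels S Gen.j)) lc_j_rc_17_1 lc_j_rc_32_1 lc_j_rc_25_1 lc_j_Cert_tree lc_j_rc_8_1 lc_j_rc_17_1 lc_j_rc_17_1 lc_j_rc_32_1 lc_j_rc_51_2 lc_j_Cert_tree lc_j_rc_52_0 lc_j_rc_17_1 lc_j_rc_17_1 lc_j_rc_32_1 lc_j_rc_51_2 lc_j_Cert_tree lc_j_rc_52_0 lc_j_rc_8_1 lc_j_rc_8_1 lc_j_rc_25_1 lc_j_rc_17_1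 lc_j_rc_17_1 lc_j_Cert_tree lc_j_rc_38_1 lc_j_Cert_tree lc_j_rc_51_2 lc_j_rc_53_2 lc_j_rc_52_0 lc_j_rc_17_1 lc_j_rc_17_1 lc_j_rc_32_1 lc_j_rc_51_2 lc_j_Cert_tree lc_j_rc_52_0 lc_j_rc_8_1 lc_j_rc_8_1 lc_j_rc_25_1 lc_j_rc_17_1 lc_j_rc_17_1 lc_j_Cert_tree lc_j_rc_38_1 lc_j_Cert_tree lc_j_rc_49_5 lc_j_rc_53_2 lc_j_rc_52_0 lc_j_rc_25_1 lc_j_rc_17_1 lc_j_rc_17_1 lc_j_Cert_tree lc_j_rc_38_1 lc_j_Cert_tree) (@D3.rec (fun _ => (Cert rels S Gen.j)) lc_j_rc_49_5 lc_j_rc_53_2 lc_j_rc_52_0 lc_j_rc_8_1 lc_j_rc_8_1 lc_j_rc_8_1 lc_j_Cert_tree lc_j_rc_25_1 lc_j_rc_25_1 lc_j_rc_17_1 lc_j_Cert_tree lc_j_rc_17_1 lc_j_rc_17_1 lc_j_rc_52_0 lc_j_Cert_tree lc_j_rc_51_2 lc_j_rc_52_0 lc_j_rc_52_1 lc_j_rc_53_2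 lc_j_rc_17_1 lc_j_rc_17_1 lc_j_rc_17_1 lc_j_Cert_tree lc_j_rc_17_1 lc_j_rc_17_1 lc_j_rc_52_0 lc_j_Cert_tree lc_j_rc_25_1 lc_j_rc_52_0 lc_j_rc_52_1 lc_j_rc_25_1 lc_j_rc_8_1 lc_j_rc_8_1 lc_j_rc_8_1 lc_j_rc_8_1 lc_j_Cert_tree lc_j_rc_8_1 lc_j_rc_8_1 lc_j_rc_52_0 lc_j_rc_17_1 lc_j_Cert_tree lc_j_rc_17_1 lc_j_rc_17_1 lc_j_rc_17_1 lc_j_Cert_tree lc_j_rc_17_1 lc_j_rc_52_0 lc_j_rc_52_1 lc_j_rc_17_1 lc_j_Cert_tree lc_j_rc_52_0) (@D3.rec (fun _ => (Cert rels S Gen.j)) lc_j_rc_52_1 lc_j_rc_32_1 lc_j_rc_25_1 lc_j_rc_51_2 lc_j_rc_53_2 lc_j_rc_8_1 lc_j_rc_17_1 lc_j_rc_17_1 lc_j_rc_32_1 lc_j_rc_51_2 lc_j_Cert_tree lc_j_rc_52_0 lc_j_rc_8_1 lc_j_rc_8_1 lc_j_rc_25_1 lc_j_rc_17_1 lc_j_rc_17_1 lc_j_Cert_tree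 lc_j_rc_38_1 lc_j_Cert_tree lc_j_rc_49_5 lc_j_rc_53_2 lc_j_rc_52_0 lc_j_rc_8_1 lc_j_rc_8_1 lc_j_rc_8_1 lc_j_Cert_tree lc_j_rc_25_1 lc_j_rc_25_1 lc_j_rc_17_1 lc_j_Cert_tree lc_j_rc_17_1 lc_j_rc_17_1 lc_j_rc_52_0 lc_j_Cert_tree lc_j_rc_49_5 lc_j_rc_52_0 lc_j_rc_52_1 lc_j_rc_53_2 lc_j_rc_8_1 lc_j_rc_8_1 lc_j_rc_25_1 lc_j_rc_17_1 lc_j_rc_17_1 lc_j_Cert_tree lc_j_rc_38_1 lc_j_Cert_tree lc_j_rc_49_5 lc_j_rc_53_2 lc_j_rc_52_0 lc_j_rc_8_1)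
def ce_j_4 : D2 → D3 → (Cert rels S Gen.j) := @D2.rec (fun _ => D3 → (Cert rels S Gen.j)) (@D3.rec (fun _ => (Cert rels S Gen.j)) lc_j_rc_8_1 lc_j_rc_8_1 lc_j_Cert_tree lc_j_rc_25_1 lc_j_rc_25_1 lc_j_rc_17_1 lc_j_Cert_tree lc_j_rc_17_1 lc_j_rc_17_1 lc_j_rc_52_0 lc_j_Cert_tree lc_j_rc_49_5 lc_j_rc_52_0 lc_j_rc_52_1 lc_j_rc_53_2 lc_j_rc_17_1 lc_j_rc_8_1 lc_j_rc_8_1 lc_j_rc_8_1 lc_j_Cert_tree lc_j_rc_8_1 lc_j_rc_8_1 lc_j_rc_52_0 lc_j_rc_25_1 lc_j_Cert_tree lc_j_rc_25_1 lc_j_rc_32_1 lc_j_rc_25_1 lc_j_Cert_tree lc_j_rc_17_1 lc_j_rc_52_0 lc_j_rc_52_1 lc_j_rc_17_1 lc_j_Cert_tree lc_j_rc_52_0 lc_j_rc_52_1 lc_j_rc_32_1 lc_j_rc_53_2 lc_j_rc_51_2 lc_j_rc_53_2 lc_j_rc_25_1 lc_j_rc_8_1 lc_j_rc_8_1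 lc_j_Cert_tree lc_j_rc_25_1 lc_j_rc_25_1 lc_j_rc_38_1 lc_j_Cert_tree lc_j_rc_32_1 lc_j_rc_32_1 lc_j_rc_52_0) (@D3.rec (fun _ => (Cert rels S Gen.j)) lc_j_Cert_tree lc_j_rc_38_1 lc_j_rc_52_0 lc_j_rc_52_1 lc_j_rc_32_1 lc_j_rc_17_1 lc_j_rc_8_1 lc_j_rc_8_1 lc_j_rc_8_1 lc_j_Cert_tree lc_j_rc_8_1 lc_j_rc_8_1 lc_j_rc_52_0 lc_j_rc_25_1 lc_j_Cert_tree lc_j_rc_25_1 lc_j_rc_32_1 lc_j_rc_25_1 lc_j_Cert_tree lc_j_rc_17_1 lc_j_rc_52_0 lc_j_rc_52_1 lc_j_rc_17_1 lc_j_Cert_tree lc_j_rc_52_0 lc_j_rc_52_1 lc_j_rc_32_1 lc_j_rc_53_2 lc_j_rc_51_2 lc_j_rc_53_2 lc_j_rc_17_1 lc_j_rc_17_1 lc_j_rc_8_1 lc_j_Cert_tree lc_j_rc_8_1 lc_j_rc_8_1 lc_j_rc_8_1 lc_j_Cert_tree lc_j_rc_8_1 lc_j_rc_52_0 lc_j_rc_52_1 lc_j_rc_8_1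 lc_j_rc_32_1 lc_j_Cert_tree lc_j_rc_25_1 lc_j_rc_52_0 lc_j_rc_52_1 lc_j_rc_32_1 lc_j_rc_25_1 lc_j_rc_38_1 lc_j_rc_32_1) (@D3.rec (fun _ => (Cert rels S Gen.j)) lc_j_Cert_tree lc_j_rc_52_0 lc_j_rc_52_1 lc_j_rc_32_1 lc_j_rc_17_1 lc_j_rc_51_2 lc_j_rc_53_2 lc_j_rc_52_0 lc_j_rc_52_1 lc_j_rc_51_2 lc_j_rc_32_1 lc_j_rc_53_2 lc_j_rc_25_1 lc_j_rc_32_1 lc_j_rc_53_2 lc_j_rc_52_0 lc_j_Cert_tree lc_j_rc_52_0 lc_j_rc_52_0 lc_j_Cert_tree lc_j_rc_52_0 lc_j_Cert_tree lc_j_rc_52_0 lc_j_rc_52_1 lc_j_rc_38_1 lc_j_rc_51_2 lc_j_Cert_tree lc_j_rc_52_0 lc_j_rc_32_1 lc_j_Cert_tree lc_j_rc_52_0 lc_j_Cert_tree lc_j_rc_52_0 lc_j_rc_52_1 lc_j_rc_32_1 lc_j_rc_51_2 lc_j_rc_52_0 lc_j_rc_52_1 lc_j_rc_51_2 lc_j_rc_32_1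 lc_j_rc_53_2 lc_j_rc_25_1 lc_j_rc_32_1 lc_j_rc_53_2 lc_j_rc_8_1 lc_j_Cert_tree lc_j_rc_52_0 lc_j_Cert_tree lc_j_rc_52_0 lc_j_rc_52_1 lc_j_rc_8_1) (@D3.rec (fun _ => (Cert rels S Gen.j)) lc_j_rc_51_2 lc_j_Cert_tree lc_j_rc_49_5 lc_j_Cert_tree lc_j_rc_52_0 lc_j_rc_52_1 lc_j_rc_32_1 lc_j_rc_51_2 lc_j_rc_52_0 lc_j_rc_52_1 lc_j_rc_51_2 lc_j_rc_32_1 lc_j_rc_53_2 lc_j_rc_25_1 lc_j_rc_32_1 lc_j_rc_53_2 lc_j_rc_49_3 lc_j_rc_51_2 lc_j_rc_32_1 lc_j_rc_53_2 lc_j_rc_32_1 lc_j_rc_53_2 lc_j_rc_25_1 lc_j_rc_53_2 lc_j_rc_17_1 lc_j_rc_25_1 lc_j_rc_51_2 lc_j_rc_32_1 lc_j_rc_25_1 lc_j_rc_32_1 lc_j_rc_25_1 lc_j_rc_51_2 lc_j_rc_17_1 lc_j_rc_32_1 lc_j_rc_25_1 lc_j_rc_25_1 lc_j_rc_8_1 lc_j_rc_17_1 lc_j_rc_17_1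 lc_j_rc_32_1 lc_j_rc_49_3 lc_j_rc_53_0 lc_j_rc_25_1 lc_j_rc_45_1 lc_j_rc_32_1 lc_j_rc_25_1 lc_j_rc_25_1 lc_j_rc_17_1 lc_j_rc_17_1 lc_j_rc_32_1 lc_j_rc_51_2) (@D3.rec (fun _ => (Cert rels S Gen.j)) lc_j_rc_45_1 lc_j_rc_52_0 lc_j_rc_8_1 lc_j_rc_8_1 lc_j_rc_25_1 lc_j_rc_17_1 lc_j_rc_17_1 lc_j_rc_53_0 lc_j_rc_38_1 lc_j_rc_53_2 lc_j_rc_51_2 lc_j_rc_53_2 lc_j_rc_52_0 lc_j_rc_25_1 lc_j_rc_32_1 lc_j_rc_32_3 lc_j_rc_45_1 lc_j_rc_17_3 lc_j_rc_49_1 lc_j_rc_52_0 lc_j_rc_25_1 lc_j_rc_17_1 lc_j_rc_17_1 lc_j_Cert_tree lc_j_rc_38_1 lc_j_rc_49_1 lc_j_rc_51_2 lc_j_rc_53_2 lc_j_rc_52_0 lc_j_rc_8_1 lc_j_Cert_tree lc_j_rc_25_1 lc_j_rc_17_1 lc_j_Cert_tree lc_j_rc_17_1 lc_j_rc_17_1 lc_j_rc_52_0 lc_j_Cert_tree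 lc_j_rc_51_2 lc_j_rc_52_0 lc_j_rc_52_1 lc_j_rc_53_2 lc_j_rc_32_1 lc_j_rc_51_2 lc_j_rc_17_3 lc_j_rc_52_0 lc_j_rc_25_1 lc_j_rc_17_1 lc_j_rc_17_1 lc_j_Cert_tree lc_j_rc_38_1) (@D3.rec (fun _ => (Cert rels S Gen.j)) lc_j_Cert_tree lc_j_rc_51_2 lc_j_rc_53_2 lc_j_rc_52_0 lc_j_rc_8_1 lc_j_rc_8_1 lc_j_rc_8_1 lc_j_Cert_tree lc_j_rc_25_1 lc_j_rc_25_1 lc_j_rc_17_1 lc_j_Cert_tree lc_j_rc_17_1 lc_j_rc_17_1 lc_j_rc_52_0 lc_j_Cert_tree lc_j_rc_49_5 lc_j_rc_52_0 lc_j_rc_52_1 lc_j_rc_53_2 lc_j_rc_32_1 lc_j_rc_17_3 lc_j_rc_51_2 lc_j_rc_53_2 lc_j_rc_52_0 lc_j_rc_25_1 lc_j_rc_25_1 lc_j_rc_17_1 lc_j_Cert_tree lc_j_rc_17_1 lc_j_rc_17_1 lc_j_rc_52_0 lc_j_Cert_tree lc_j_rc_51_2 lc_j_rc_52_0 lc_j_rc_52_1 lc_j_rc_53_2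 lc_j_rc_17_1 lc_j_rc_8_1 lc_j_rc_8_1 lc_j_rc_8_1 lc_j_Cert_tree lc_j_rc_8_1 lc_j_rc_8_1 lc_j_rc_52_0 lc_j_rc_25_1 lc_j_Cert_tree lc_j_rc_25_1 lc_j_rc_32_1 lc_j_rc_25_1 lc_j_Cert_tree) (@D3.rec (fun _ => (Cert rels S Gen.j)) lc_j_rc_17_1 lc_j_rc_52_0 lc_j_rc_52_1 lc_j_rc_17_1 lc_j_Cert_tree lc_j_rc_52_0 lc_j_rc_52_1 lc_j_rc_32_1 lc_j_rc_53_2 lc_j_rc_51_2 lc_j_rc_53_2 lc_j_rc_17_3 lc_j_rc_38_1 lc_j_rc_52_0 lc_j_rc_52_1 lc_j_rc_32_1 lc_j_rc_17_1 lc_j_Cert_tree lc_j_rc_17_1 lc_j_rc_17_1 lc_j_Cert_tree lc_j_rc_17_1 lc_j_rc_52_0 lc_j_rc_52_1 lc_j_rc_17_1 lc_j_Cert_tree lc_j_rc_52_0 lc_j_rc_52_1 lc_j_rc_32_1 lc_j_rc_25_1 lc_j_rc_51_2 lc_j_rc_53_2 lc_j_rc_8_1 lc_j_rc_17_1 lc_j_rc_8_1 lc_j_Cert_tree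 lc_j_rc_8_1 lc_j_rc_8_1 lc_j_rc_8_1 lc_j_Cert_tree lc_j_rc_8_1 lc_j_rc_52_0 lc_j_rc_52_1 lc_j_rc_8_1 lc_j_rc_17_1 lc_j_Cert_tree lc_j_rc_17_1 lc_j_rc_52_0 lc_j_rc_52_1 lc_j_rc_17_1 lc_j_rc_17_1) (@D3.rec (fun _ => (Cert rels S Gen.j)) lc_j_rc_17_1 lc_j_rc_17_1 lc_j_Cert_tree lc_j_rc_52_0 lc_j_rc_52_1 lc_j_rc_17_1 lc_j_rc_17_1 lc_j_rc_51_2 lc_j_rc_53_2 lc_j_rc_52_0 lc_j_rc_52_1 lc_j_rc_51_2 lc_j_rc_32_1 lc_j_rc_53_2 lc_j_rc_25_1 lc_j_rc_32_1 lc_j_rc_53_2 lc_j_rc_8_1 lc_j_rc_8_1 lc_j_rc_8_1 lc_j_Cert_tree lc_j_rc_25_1 lc_j_rc_25_1 lc_j_rc_17_1 lc_j_Cert_tree lc_j_rc_17_1 lc_j_rc_17_1 lc_j_rc_52_0 lc_j_Cert_tree lc_j_rc_51_2 lc_j_rc_52_0 lc_j_rc_52_1 lc_j_rc_53_2 lc_j_rc_17_1 lc_j_rc_8_1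 lc_j_rc_8_1 lc_j_rc_8_1 lc_j_Cert_tree lc_j_rc_8_1 lc_j_rc_8_1 lc_j_rc_52_0 lc_j_rc_25_1 lc_j_Cert_tree lc_j_rc_25_1 lc_j_rc_32_1 lc_j_rc_25_1 lc_j_Cert_tree lc_j_rc_17_1 lc_j_rc_52_0 lc_j_rc_52_1 lc_j_rc_17_1) (@D3.rec (fun _ => (Cert rels S Gen.j)) lc_j_Cert_tree lc_j_rc_52_0 lc_j_rc_52_1 lc_j_rc_32_1 lc_j_rc_53_2 lc_j_rc_51_2 lc_j_rc_53_2 lc_j_rc_17_1 lc_j_rc_8_1 lc_j_rc_8_1 lc_j_rc_8_1 lc_j_Cert_tree lc_j_rc_8_1 lc_j_rc_8_1 lc_j_rc_52_0 lc_j_rc_25_1 lc_j_Cert_tree lc_j_rc_25_1 lc_j_rc_32_1 lc_j_rc_25_1 lc_j_Cert_tree lc_j_rc_17_1 lc_j_rc_52_0 lc_j_rc_52_1 lc_j_rc_17_1 lc_j_Cert_tree lc_j_rc_52_0 lc_j_rc_52_1 lc_j_rc_32_1 lc_j_rc_53_2 lc_j_rc_51_2 lc_j_rc_53_2 lc_j_rc_17_1 lc_j_rc_8_1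 lc_j_Cert_tree lc_j_rc_8_1 lc_j_rc_8_1 lc_j_Cert_tree lc_j_rc_8_1 lc_j_rc_52_0 lc_j_rc_52_1 lc_j_rc_8_1 lc_j_rc_32_1 lc_j_Cert_tree lc_j_rc_25_1 lc_j_rc_52_0 lc_j_rc_52_1 lc_j_rc_32_1 lc_j_rc_25_1 lc_j_rc_38_1 lc_j_rc_32_1) (@D3.rec (fun _ => (Cert rels S Gen.j)) lc_j_Cert_tree lc_j_rc_52_0 lc_j_rc_52_1 lc_j_rc_32_1 lc_j_rc_17_1 lc_j_rc_51_2 lc_j_rc_53_2 lc_j_rc_52_0 lc_j_rc_52_1 lc_j_rc_51_2 lc_j_rc_32_1 lc_j_rc_53_2 lc_j_rc_25_1 lc_j_rc_32_1 lc_j_rc_53_2 lc_j_rc_17_1 lc_j_rc_8_1 lc_j_Cert_tree lc_j_rc_8_1 lc_j_rc_8_1 lc_j_Cert_tree lc_j_rc_8_1 lc_j_rc_52_0 lc_j_rc_52_1 lc_j_rc_8_1 lc_j_rc_32_1 lc_j_Cert_tree lc_j_rc_25_1 lc_j_rc_52_0 lc_j_rc_52_1 lc_j_rc_32_1 lc_j_rc_25_1 lc_j_rc_32_1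 lc_j_Cert_tree lc_j_rc_52_0 lc_j_rc_52_1 lc_j_rc_32_1 lc_j_rc_17_1 lc_j_rc_51_2 lc_j_rc_53_2 lc_j_rc_52_0 lc_j_rc_52_1 lc_j_rc_51_2 lc_j_rc_32_1 lc_j_rc_53_2 lc_j_rc_25_1 lc_j_rc_32_1 lc_j_rc_53_2 lc_j_rc_17_1 lc_j_Cert_tree lc_j_rc_8_1) (@D3.rec (fun _ => (Cert rels S Gen.j)) lc_j_Cert_tree lc_j_rc_8_1 lc_j_rc_52_0 lc_j_rc_52_1 lc_j_rc_8_1 lc_j_Cert_tree lc_j_rc_52_0 lc_j_rc_52_1 lc_j_rc_8_1 lc_j_rc_8_1 lc_j_rc_51_2 lc_j_rc_53_2 lc_j_Cert_tree lc_j_rc_49_5 lc_j_Cert_tree lc_j_rc_52_0 lc_j_rc_52_1 lc_j_rc_32_1 lc_j_rc_25_1 lc_j_rc_51_2 lc_j_rc_32_1 lc_j_rc_53_2 lc_j_rc_38_1 lc_j_rc_32_1 lc_j_rc_45_1 lc_j_rc_38_1 lc_j_rc_52_0 lc_j_rc_52_1 lc_j_rc_51_2 lc_j_rc_32_1 lc_j_rc_53_2 lc_j_rc_25_1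 lc_j_rc_32_1 lc_j_rc_53_2 lc_j_rc_49_3 lc_j_rc_51_2 lc_j_rc_32_1 lc_j_rc_53_2 lc_j_rc_32_1 lc_j_rc_53_2 lc_j_rc_25_1 lc_j_rc_53_2 lc_j_rc_17_1 lc_j_rc_25_1 lc_j_rc_49_5 lc_j_Cert_tree lc_j_rc_52_0 lc_j_Cert_tree lc_j_rc_49_5 lc_j_Cert_tree lc_j_rc_52_0) (@D3.rec (fun _ => (Cert rels S Gen.j)) lc_j_rc_52_0 lc_j_rc_52_1 lc_j_rc_51_2 lc_j_rc_32_1 lc_j_rc_25_1 lc_j_rc_49_3 lc_j_rc_51_2 lc_j_rc_32_1 lc_j_rc_53_2 lc_j_rc_32_1 lc_j_rc_53_2 lc_j_rc_25_1 lc_j_rc_53_2 lc_j_rc_17_1 lc_j_rc_25_1 lc_j_rc_51_2 lc_j_Cert_tree lc_j_rc_8_1 lc_j_Cert_tree lc_j_rc_52_0 lc_j_rc_52_0 lc_j_rc_52_1 lc_j_rc_51_2 lc_j_rc_32_1 lc_j_rc_25_1 lc_j_Cert_tree lc_j_rc_52_0 lc_j_rc_52_1 lc_j_rc_51_2 lc_j_rc_53_2 lc_j_rc_52_0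 lc_j_rc_52_1 lc_j_rc_51_2 lc_j_rc_32_1 lc_j_rc_25_1 lc_j_rc_17_1 lc_j_rc_51_2 lc_j_rc_32_1 lc_j_rc_53_2 lc_j_rc_32_1 lc_j_rc_53_2 lc_j_rc_25_1 lc_j_rc_53_2 lc_j_rc_17_1 lc_j_rc_25_1 lc_j_rc_49_5 lc_j_rc_49_3 lc_j_rc_32_1 lc_j_rc_53_2 lc_j_rc_25_1 lc_j_rc_38_1) (@D3.rec (fun _ => (Cert rels S Gen.j)) lc_j_rc_53_2 lc_j_rc_25_1 lc_j_rc_53_2 lc_j_rc_17_1 lc_j_rc_38_1 lc_j_rc_51_2 lc_j_rc_8_1 lc_j_rc_17_1 lc_j_rc_25_1 lc_j_rc_8_1 lc_j_rc_8_3 lc_j_rc_8_1 lc_j_rc_8_1 lc_j_rc_25_1 lc_j_rc_8_1 lc_j_rc_52_0 lc_j_rc_52_1 lc_j_rc_8_1 lc_j_rc_32_1 lc_j_rc_25_3 lc_j_rc_25_1 lc_j_rc_52_0 lc_j_rc_52_1 lc_j_rc_32_1 lc_j_rc_25_1 lc_j_rc_38_1 lc_j_rc_32_1 lc_j_rc_45_3 lc_j_rc_52_0 lc_j_rc_52_1 lc_j_rc_32_1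 lc_j_rc_17_1 lc_j_rc_51_2 lc_j_rc_53_2 lc_j_rc_52_0 lc_j_rc_52_1 lc_j_rc_51_2 lc_j_rc_32_1 lc_j_rc_53_2 lc_j_rc_25_1 lc_j_rc_32_1 lc_j_rc_53_2 lc_j_rc_17_1 lc_j_rc_32_1 lc_j_rc_8_1 lc_j_rc_52_0 lc_j_rc_52_1 lc_j_rc_8_1 lc_j_rc_45_3 lc_j_rc_52_0 lc_j_rc_52_1) (@D3.rec (fun _ => (Cert rels S Gen.j)) lc_j_rc_8_1 lc_j_rc_8_1 lc_j_rc_51_2 lc_j_rc_53_2 lc_j_rc_32_3 lc_j_rc_8_1 lc_j_rc_45_3 lc_j_rc_52_0 lc_j_rc_52_1 lc_j_rc_32_1 lc_j_rc_25_1 lc_j_rc_51_2 lc_j_rc_32_1 lc_j_rc_53_2 lc_j_rc_38_1 lc_j_rc_32_1 lc_j_rc_45_1 lc_j_rc_38_1 lc_j_rc_52_0 lc_j_rc_52_1 lc_j_rc_51_2 lc_j_rc_32_1 lc_j_rc_53_2 lc_j_rc_25_1 lc_j_rc_32_1 lc_j_rc_53_2 lc_j_rc_49_3 lc_j_rc_51_2 lc_j_rc_32_1 lc_j_rc_53_2 lc_j_rc_32_1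 lc_j_rc_53_2 lc_j_rc_25_1 lc_j_rc_53_2 lc_j_rc_17_1 lc_j_rc_25_1 lc_j_rc_49_5 lc_j_rc_8_3 lc_j_rc_52_0 lc_j_rc_52_1 lc_j_rc_8_1 lc_j_rc_8_1 lc_j_rc_51_2 lc_j_rc_53_2 lc_j_rc_52_0 lc_j_rc_52_1 lc_j_rc_51_2 lc_j_rc_32_1 lc_j_rc_53_2 lc_j_rc_25_1 lc_j_rc_8_1) (@D3.rec (fun _ => (Cert rels S Gen.j)) lc_j_rc_53_2 lc_j_rc_52_0 lc_j_rc_52_1 lc_j_rc_51_2 lc_j_rc_32_1 lc_j_rc_53_2 lc_j_rc_25_1 lc_j_rc_38_1 lc_j_rc_32_1 lc_j_rc_32_1 lc_j_rc_53_2 lc_j_rc_38_1 lc_j_rc_53_2 lc_j_rc_45_1 lc_j_rc_38_1 lc_j_Cert_tree lc_j_rc_45_1 lc_j_rc_17_1 lc_j_rc_51_2 lc_j_rc_32_1 lc_j_rc_53_2 lc_j_rc_32_1 lc_j_rc_53_2 lc_j_rc_25_1 lc_j_rc_53_2 lc_j_rc_17_1 lc_j_rc_25_1 lc_j_rc_49_5 lc_j_rc_49_3 lc_j_rc_32_1 lc_j_rc_53_2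 lc_j_rc_45_3 lc_j_rc_45_3 lc_j_rc_53_2 lc_j_rc_25_1 lc_j_rc_53_2 lc_j_rc_17_1 lc_j_rc_38_3 lc_j_rc_45_1 lc_j_rc_8_1 lc_j_rc_17_1 lc_j_rc_25_1 lc_j_rc_8_1 lc_j_rc_51_2 lc_j_rc_32_1 lc_j_rc_32_3 lc_j_rc_32_1 lc_j_rc_53_2 lc_j_rc_25_1 lc_j_rc_53_2 lc_j_rc_17_1) (@D3.rec (fun _ => (Cert rels S Gen.j)) lc_j_rc_25_1 lc_j_rc_8_1 lc_j_rc_32_1 lc_j_rc_25_1 lc_j_rc_25_3 lc_j_rc_25_3 lc_j_rc_25_1 lc_j_rc_53_2 lc_j_rc_53_2 lc_j_rc_51_0 lc_j_rc_25_3 lc_j_rc_51_0 lc_j_rc_17_1 lc_j_rc_25_1 lc_j_rc_25_3 lc_j_rc_8_1 lc_j_rc_17_1 lc_j_rc_51_2 lc_j_rc_38_1 lc_j_rc_38_1 lc_j_rc_32_1 lc_j_rc_51_2 lc_j_rc_17_1 lc_j_rc_17_1 lc_j_rc_25_1 lc_j_rc_32_3 lc_j_rc_52_0 lc_j_rc_25_1 lc_j_rc_17_1 lc_j_rc_45_1 lc_j_rc_8_1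 lc_j_rc_8_1 lc_j_rc_25_1 lc_j_rc_25_1 lc_j_rc_52_0 lc_j_rc_53_2 lc_j_rc_32_3 lc_j_rc_49_1 lc_j_rc_52_0 lc_j_rc_45_1 lc_j_rc_38_1 lc_j_rc_51_2 lc_j_rc_38_1 lc_j_rc_49_1 lc_j_rc_51_2 lc_j_rc_25_1 lc_j_rc_17_1 lc_j_rc_38_1 lc_j_rc_17_1 lc_j_rc_8_1 lc_j_rc_8_1) (@D3.rec (fun _ => (Cert rels S Gen.j)) lc_j_rc_8_1 lc_j_rc_25_1 lc_j_rc_51_2 lc_j_rc_25_1 lc_j_rc_32_1 lc_j_rc_17_1 lc_j_rc_25_1 lc_j_Cert_tree lc_j_rc_38_3 lc_j_rc_52_0 lc_j_rc_17_1 lc_j_rc_32_3 lc_j_rc_38_1 lc_j_rc_8_1 lc_j_rc_38_1 lc_j_rc_38_1 lc_j_rc_32_1 lc_j_rc_49_1 lc_j_rc_51_2 lc_j_rc_52_0 lc_j_rc_49_1 lc_j_rc_32_1 lc_j_rc_38_1 lc_j_rc_32_1 lc_j_rc_38_1 lc_j_rc_17_1 lc_j_Cert_tree lc_j_rc_52_0 lc_j_rc_45_3 lc_j_rc_52_0 lc_j_rc_17_1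 lc_j_Cert_tree lc_j_rc_8_1 lc_j_rc_25_1 lc_j_rc_8_1 lc_j_rc_52_0 lc_j_rc_52_1 lc_j_rc_45_1 lc_j_rc_8_1 lc_j_rc_51_2 lc_j_Cert_tree lc_j_rc_17_1 lc_j_rc_25_1 lc_j_rc_52_0 lc_j_rc_25_1 lc_j_rc_17_1 lc_j_rc_51_2 lc_j_rc_32_1 lc_j_rc_17_1 lc_j_rc_17_1 lc_j_rc_8_3) (@D3.rec (fun _ => (Cert rels S Gen.j)) lc_j_rc_25_1 lc_j_rc_17_1 lc_j_rc_53_2 lc_j_rc_8_1 lc_j_rc_8_1 lc_j_rc_17_1 lc_j_rc_52_0 lc_j_rc_25_1 lc_j_rc_32_3 lc_j_rc_25_1 lc_j_rc_8_1 lc_j_rc_38_1 lc_j_rc_32_1 lc_j_rc_32_1 lc_j_rc_38_1 lc_j_rc_8_1 lc_j_Cert_tree lc_j_rc_38_3 lc_j_rc_52_0 lc_j_rc_32_1 lc_j_rc_38_3 lc_j_rc_17_1 lc_j_rc_52_0 lc_j_rc_38_1 lc_j_rc_8_1 lc_j_rc_32_3 lc_j_rc_52_0 lc_j_rc_53_0 lc_j_rc_51_2 lc_j_rc_53_0 lc_j_rc_49_1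 lc_j_rc_38_1 lc_j_rc_45_1 lc_j_rc_8_1 lc_j_Cert_tree lc_j_rc_52_0 lc_j_rc_53_0 lc_j_rc_52_0 lc_j_Cert_tree lc_j_rc_49_5 lc_j_rc_25_1 lc_j_rc_52_0 lc_j_rc_25_1 lc_j_rc_32_1 lc_j_rc_51_2 lc_j_rc_32_1 lc_j_rc_25_1 lc_j_Cert_tree lc_j_rc_8_1 lc_j_rc_25_1 lc_j_rc_52_0) (@D3.rec (fun _ => (Cert rels S Gen.j)) lc_j_rc_32_1 lc_j_rc_52_0 lc_j_rc_52_1 lc_j_rc_51_2 lc_j_rc_53_2 lc_j_rc_32_1 lc_j_rc_38_1 lc_j_rc_32_1 lc_j_rc_38_1 lc_j_rc_45_1 lc_j_Cert_tree lc_j_Cert_tree lc_j_rc_8_1 lc_j_rc_8_3 lc_j_rc_52_0 lc_j_rc_45_3 lc_j_rc_51_2 lc_j_rc_51_2 lc_j_rc_25_1 lc_j_Cert_tree lc_j_rc_52_0 lc_j_rc_52_1 lc_j_rc_51_2 lc_j_rc_53_2 lc_j_rc_52_0 lc_j_rc_25_1 lc_j_rc_51_2 lc_j_rc_32_1 lc_j_rc_25_1 lc_j_rc_17_1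 lc_j_rc_17_1 lc_j_rc_8_1 lc_j_rc_25_1 lc_j_rc_25_1 lc_j_rc_25_1 lc_j_Cert_tree lc_j_rc_17_1 lc_j_Cert_tree lc_j_rc_52_0 lc_j_Cert_tree lc_j_rc_52_0 lc_j_rc_52_1 lc_j_rc_8_1 lc_j_rc_52_0 lc_j_Cert_tree lc_j_rc_52_0 lc_j_rc_52_1 lc_j_rc_51_2 lc_j_rc_53_2 lc_j_rc_8_1 lc_j_rc_45_1) (@D3.rec (fun _ => (Cert rels S Gen.j)) lc_j_rc_52_0 lc_j_rc_45_1 lc_j_rc_51_2 lc_j_rc_32_1 lc_j_rc_38_3 lc_j_rc_38_1 lc_j_rc_45_1 lc_j_rc_49_1 lc_j_rc_45_3 lc_j_rc_52_0 lc_j_rc_52_0 lc_j_rc_49_1 lc_j_rc_51_2 lc_j_rc_53_2 lc_j_rc_49_1 lc_j_rc_53_2 lc_j_rc_38_1 lc_j_rc_32_1 lc_j_rc_38_1 lc_j_rc_45_1 lc_j_Cert_tree lc_j_rc_38_1 lc_j_rc_45_1 lc_j_Cert_tree lc_j_rc_52_0 lc_j_rc_8_1 lc_j_rc_8_1 lc_j_rc_8_1 lc_j_rc_32_1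 lc_j_rc_49_3 lc_j_rc_51_2 lc_j_rc_53_2 lc_j_rc_32_1 lc_j_rc_25_1 lc_j_rc_38_1 lc_j_rc_38_1 lc_j_rc_45_1 lc_j_rc_38_1 lc_j_rc_8_1 lc_j_rc_25_1 lc_j_rc_51_2 lc_j_rc_53_2 lc_j_rc_45_1 lc_j_rc_53_2 lc_j_rc_52_0 lc_j_rc_25_1 lc_j_rc_25_1 lc_j_rc_32_1 lc_j_rc_17_1 lc_j_rc_32_1 lc_j_rc_38_1) (@D3.rec (fun _ => (Cert rels S Gen.j)) lc_j_rc_32_1 lc_j_rc_38_1 lc_j_rc_52_0 lc_j_rc_45_1 lc_j_rc_25_1 lc_j_rc_25_1 lc_j_rc_25_3 lc_j_rc_52_0 lc_j_rc_32_3 lc_j_rc_32_1 lc_j_rc_25_1 lc_j_rc_38_1 lc_j_rc_17_1 lc_j_rc_25_1 lc_j_rc_32_1 lc_j_rc_8_1 lc_j_rc_17_1 lc_j_rc_32_1 lc_j_rc_25_1 lc_j_rc_32_3 lc_j_rc_32_1 lc_j_rc_25_3 lc_j_rc_32_1 lc_j_rc_52_0 lc_j_rc_8_1 lc_j_rc_17_1 lc_j_rc_32_1 lc_j_rc_25_1 lc_j_rc_38_1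 lc_j_rc_8_1 lc_j_rc_17_1 lc_j_rc_17_1 lc_j_rc_32_1 lc_j_rc_51_2 lc_j_rc_45_1 lc_j_rc_52_0 lc_j_rc_45_1 lc_j_rc_45_1 lc_j_rc_49_1 lc_j_rc_17_1 lc_j_rc_49_1 lc_j_rc_45_1 lc_j_rc_52_0 lc_j_rc_8_1 lc_j_rc_8_1 lc_j_rc_25_1 lc_j_rc_17_1 lc_j_rc_17_1 lc_j_rc_17_3 lc_j_rc_38_1 lc_j_rc_32_3) (@D3.rec (fun _ => (Cert rels S Gen.j)) lc_j_rc_51_2 lc_j_rc_53_2 lc_j_rc_52_0 lc_j_rc_45_1 lc_j_rc_25_1 lc_j_rc_8_1 lc_j_rc_32_1 lc_j_rc_25_1 lc_j_rc_25_1 lc_j_rc_8_1 lc_j_rc_32_3 lc_j_rc_17_1 lc_j_rc_17_1 lc_j_rc_52_0 lc_j_rc_17_1 lc_j_rc_51_2 lc_j_rc_52_0 lc_j_rc_52_1 lc_j_rc_53_2 lc_j_rc_17_1 lc_j_rc_8_1 lc_j_rc_8_1 lc_j_rc_8_1 lc_j_rc_45_1 lc_j_rc_8_1 lc_j_rc_8_1 lc_j_rc_52_0 lc_j_rc_25_1 lc_j_rc_45_1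 lc_j_rc_25_1 lc_j_rc_25_1 lc_j_rc_25_1 lc_j_rc_8_1 lc_j_rc_17_1 lc_j_rc_52_0 lc_j_rc_52_1 lc_j_rc_17_1 lc_j_rc_17_1 lc_j_rc_52_0 lc_j_rc_52_1 lc_j_rc_38_1 lc_j_rc_38_1 lc_j_rc_51_2 lc_j_rc_53_2 lc_j_rc_17_1 lc_j_rc_32_1 lc_j_rc_25_1 lc_j_Cert_tree lc_j_rc_8_1 lc_j_rc_17_1 lc_j_rc_17_1) (@D3.rec (fun _ => (Cert rels S Gen.j)) lc_j_rc_32_1 lc_j_rc_49_3 lc_j_rc_38_1 lc_j_rc_52_0 lc_j_rc_17_1 lc_j_rc_17_1 lc_j_rc_32_1 lc_j_rc_51_2 lc_j_Cert_tree lc_j_rc_52_0 lc_j_rc_8_1 lc_j_rc_8_1 lc_j_rc_25_1 lc_j_rc_17_1 lc_j_rc_17_1 lc_j_rc_45_1 lc_j_rc_38_1 lc_j_rc_51_2 lc_j_rc_51_2 lc_j_rc_53_2 lc_j_rc_52_0 lc_j_rc_25_1 lc_j_rc_17_1 lc_j_rc_17_1 lc_j_Cert_tree lc_j_rc_38_1 lc_j_Cert_tree lc_j_rc_51_2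 lc_j_rc_53_2 lc_j_rc_52_0 lc_j_rc_8_1 lc_j_rc_49_1 lc_j_rc_25_1 lc_j_rc_17_1 lc_j_Cert_tree lc_j_rc_17_1 lc_j_rc_52_0 lc_j_Cert_tree lc_j_rc_51_2 lc_j_rc_52_0 lc_j_rc_49_1 lc_j_rc_53_2 lc_j_rc_25_1 lc_j_rc_17_1 lc_j_rc_17_1 lc_j_Cert_tree lc_j_rc_38_1 lc_j_Cert_tree lc_j_rc_49_5 lc_j_rc_53_2 lc_j_rc_52_0) (@D3.rec (fun _ => (Cert rels S Gen.j)) lc_j_rc_8_1 lc_j_rc_8_1 lc_j_rc_8_1 lc_j_rc_8_3 lc_j_rc_25_1 lc_j_rc_25_1 lc_j_rc_17_1 lc_j_Cert_tree lc_j_rc_17_1 lc_j_rc_17_1 lc_j_rc_52_0 lc_j_Cert_tree lc_j_rc_51_2 lc_j_rc_52_0 lc_j_rc_52_1 lc_j_rc_53_2 lc_j_rc_25_1 lc_j_rc_25_1 lc_j_rc_17_1 lc_j_Cert_tree lc_j_rc_17_1 lc_j_rc_17_1 lc_j_rc_52_0 lc_j_Cert_tree lc_j_rc_49_5 lc_j_rc_52_0 lc_j_rc_52_1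 lc_j_rc_53_2 lc_j_rc_17_1 lc_j_rc_8_1 lc_j_rc_8_1 lc_j_rc_8_1 lc_j_Cert_tree lc_j_rc_8_1 lc_j_rc_8_1 lc_j_rc_52_0 lc_j_rc_25_1 lc_j_Cert_tree lc_j_rc_25_1 lc_j_rc_32_1 lc_j_rc_25_1 lc_j_Cert_tree lc_j_rc_17_1 lc_j_rc_52_0 lc_j_rc_52_1 lc_j_rc_17_1 lc_j_Cert_tree lc_j_rc_52_0 lc_j_rc_52_1 lc_j_rc_32_1 lc_j_rc_53_2) (@D3.rec (fun _ => (Cert rels S Gen.j)) lc_j_rc_51_2 lc_j_rc_53_2 lc_j_rc_17_1 lc_j_Cert_tree lc_j_rc_17_1 lc_j_rc_17_1 lc_j_rc_17_1 lc_j_Cert_tree lc_j_rc_17_1 lc_j_rc_52_0 lc_j_rc_52_1 lc_j_rc_17_1 lc_j_Cert_tree lc_j_rc_52_0 lc_j_rc_52_1 lc_j_rc_32_1 lc_j_rc_25_1 lc_j_rc_51_2 lc_j_rc_53_2 lc_j_rc_8_1 lc_j_rc_8_1 lc_j_rc_8_1 lc_j_Cert_tree lc_j_rc_8_1 lc_j_rc_8_1 lc_j_rc_8_1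 lc_j_Cert_tree lc_j_rc_8_1 lc_j_rc_52_0 lc_j_rc_52_1 lc_j_rc_8_1 lc_j_rc_17_1 lc_j_Cert_tree lc_j_rc_17_1 lc_j_rc_52_0 lc_j_rc_52_1 lc_j_rc_17_1 lc_j_rc_17_1 lc_j_rc_17_1 lc_j_rc_17_1 lc_j_Cert_tree lc_j_rc_52_0 lc_j_rc_52_1 lc_j_rc_17_1 lc_j_rc_17_1 lc_j_rc_51_2 lc_j_rc_53_2 lc_j_rc_52_0 lc_j_rc_52_1 lc_j_rc_51_2 lc_j_rc_32_1) (@D3.rec (fun _ => (Cert rels S Gen.j)) lc_j_rc_53_2 lc_j_rc_25_1 lc_j_rc_32_1 lc_j_rc_53_2 lc_j_rc_8_1 lc_j_rc_8_1 lc_j_rc_25_1 lc_j_rc_17_1 lc_j_rc_17_1 lc_j_Cert_tree lc_j_rc_38_1 lc_j_Cert_tree lc_j_rc_49_5 lc_j_rc_53_2 lc_j_rc_52_0 lc_j_rc_8_1 lc_j_rc_8_1 lc_j_rc_8_1 lc_j_Cert_tree lc_j_rc_25_1 lc_j_rc_25_1 lc_j_rc_17_1 lc_j_Cert_tree lc_j_rc_17_1 lc_j_rc_17_1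 lc_j_rc_52_0 lc_j_Cert_tree lc_j_rc_49_5 lc_j_rc_52_0 lc_j_rc_52_1 lc_j_rc_53_2 lc_j_rc_17_1 lc_j_rc_8_1 lc_j_rc_8_1 lc_j_rc_8_1 lc_j_Cert_tree lc_j_rc_8_1 lc_j_rc_8_1 lc_j_rc_52_0 lc_j_rc_25_1 lc_j_Cert_tree lc_j_rc_25_1 lc_j_rc_32_1 lc_j_rc_25_1 lc_j_Cert_tree lc_j_rc_17_1 lc_j_rc_52_0 lc_j_rc_52_1 lc_j_rc_17_1 lc_j_Cert_tree lc_j_rc_52_0) (@D3.rec (fun _ => (Cert rels S Gen.j)) lc_j_rc_52_1 lc_j_rc_32_1 lc_j_rc_53_2 lc_j_rc_51_2 lc_j_rc_53_2 lc_j_rc_8_1 lc_j_rc_8_1 lc_j_rc_8_1 lc_j_Cert_tree lc_j_rc_25_1 lc_j_rc_25_1 lc_j_rc_17_1 lc_j_Cert_tree lc_j_rc_17_1 lc_j_rc_17_1 lc_j_rc_52_0 lc_j_Cert_tree lc_j_rc_49_5 lc_j_rc_52_0 lc_j_rc_52_1 lc_j_rc_53_2 lc_j_rc_17_1 lc_j_rc_8_1 lc_j_rc_8_1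 lc_j_rc_8_1 lc_j_Cert_tree lc_j_rc_8_1 lc_j_rc_8_1 lc_j_rc_52_0 lc_j_rc_25_1 lc_j_Cert_tree lc_j_rc_25_1 lc_j_rc_32_1 lc_j_rc_25_1 lc_j_Cert_tree lc_j_rc_17_1 lc_j_rc_52_0 lc_j_rc_52_1 lc_j_rc_17_1 lc_j_Cert_tree lc_j_rc_52_0 lc_j_rc_52_1 lc_j_rc_32_1 lc_j_rc_53_2 lc_j_rc_51_2 lc_j_rc_53_2 lc_j_rc_17_1 lc_j_rc_17_1 lc_j_rc_8_1 lc_j_Cert_tree lc_j_rc_8_1)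
def ce_j_5 : D2 → D3 → (Cert rels S Gen.j) := @D2.rec (fun _ => D3 → (Cert rels S Gen.j)) (@D3.rec (fun _ => (Cert rels S Gen.j)) lc_j_rc_8_1 lc_j_rc_8_1 lc_j_Cert_tree lc_j_rc_8_1 lc_j_rc_52_0 lc_j_rc_52_1 lc_j_rc_8_1 lc_j_rc_32_1 lc_j_Cert_tree lc_j_rc_25_1 lc_j_rc_52_0 lc_j_rc_52_1 lc_j_rc_32_1 lc_j_rc_25_1 lc_j_rc_38_1 lc_j_rc_32_1 lc_j_Cert_tree lc_j_rc_52_0 lc_j_rc_52_1 lc_j_rc_32_1 lc_j_rc_17_1 lc_j_rc_51_2 lc_j_rc_53_2 lc_j_rc_52_0 lc_j_rc_52_1 lc_j_rc_51_2 lc_j_rc_32_1 lc_j_rc_53_2 lc_j_rc_25_1 lc_j_rc_32_1 lc_j_rc_53_2 lc_j_rc_17_1 lc_j_rc_25_1 lc_j_rc_25_1 lc_j_Cert_tree lc_j_rc_8_1 lc_j_rc_8_1 lc_j_rc_52_0 lc_j_rc_25_1 lc_j_Cert_tree lc_j_rc_25_1 lc_j_rc_25_1 lc_j_rc_25_1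 lc_j_Cert_tree lc_j_rc_38_1 lc_j_rc_52_0 lc_j_rc_52_1 lc_j_rc_32_1 lc_j_Cert_tree lc_j_rc_52_0 lc_j_rc_52_1) (@D3.rec (fun _ => (Cert rels S Gen.j)) lc_j_rc_38_1 lc_j_rc_38_1 lc_j_rc_51_2 lc_j_rc_53_2 lc_j_rc_17_1 lc_j_rc_17_1 lc_j_rc_8_1 lc_j_Cert_tree lc_j_rc_8_1 lc_j_rc_8_1 lc_j_rc_8_1 lc_j_Cert_tree lc_j_rc_8_1 lc_j_rc_52_0 lc_j_rc_52_1 lc_j_rc_8_1 lc_j_rc_32_1 lc_j_Cert_tree lc_j_rc_25_1 lc_j_rc_52_0 lc_j_rc_52_1 lc_j_rc_32_1 lc_j_rc_25_1 lc_j_rc_38_1 lc_j_rc_32_1 lc_j_Cert_tree lc_j_rc_52_0 lc_j_rc_52_1 lc_j_rc_32_1 lc_j_rc_17_1 lc_j_rc_51_2 lc_j_rc_53_2 lc_j_rc_52_0 lc_j_rc_52_1 lc_j_rc_51_2 lc_j_rc_32_1 lc_j_rc_53_2 lc_j_rc_25_1 lc_j_rc_32_1 lc_j_rc_53_2 lc_j_rc_17_1 lc_j_Cert_tree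 lc_j_rc_17_1 lc_j_rc_17_1 lc_j_rc_8_1 lc_j_Cert_tree lc_j_rc_8_1 lc_j_rc_52_0 lc_j_rc_52_1 lc_j_rc_8_1 lc_j_rc_8_1) (@D3.rec (fun _ => (Cert rels S Gen.j)) lc_j_rc_8_1 lc_j_Cert_tree lc_j_rc_52_0 lc_j_rc_52_1 lc_j_rc_8_1 lc_j_rc_8_1 lc_j_rc_51_2 lc_j_rc_53_2 lc_j_Cert_tree lc_j_rc_49_5 lc_j_Cert_tree lc_j_rc_52_0 lc_j_rc_52_1 lc_j_rc_32_1 lc_j_rc_25_1 lc_j_rc_51_2 lc_j_rc_32_1 lc_j_rc_53_2 lc_j_rc_38_1 lc_j_rc_32_1 lc_j_rc_45_1 lc_j_rc_38_1 lc_j_rc_51_2 lc_j_rc_52_0 lc_j_rc_52_1 lc_j_rc_51_2 lc_j_rc_32_1 lc_j_rc_53_2 lc_j_rc_25_1 lc_j_rc_32_1 lc_j_rc_53_2 lc_j_rc_49_3 lc_j_rc_51_2 lc_j_rc_32_1 lc_j_rc_53_2 lc_j_rc_32_1 lc_j_rc_53_2 lc_j_rc_25_1 lc_j_rc_53_2 lc_j_rc_17_1 lc_j_rc_25_1 lc_j_rc_51_2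 lc_j_rc_25_3 lc_j_rc_52_0 lc_j_rc_17_3 lc_j_rc_52_0 lc_j_rc_52_0 lc_j_rc_32_3 lc_j_rc_51_2 lc_j_rc_32_1 lc_j_rc_25_1) (@D3.rec (fun _ => (Cert rels S Gen.j)) lc_j_Cert_tree lc_j_rc_52_0 lc_j_Cert_tree lc_j_rc_49_5 lc_j_Cert_tree lc_j_rc_52_0 lc_j_rc_52_0 lc_j_rc_52_1 lc_j_rc_51_2 lc_j_rc_32_1 lc_j_rc_25_1 lc_j_rc_49_3 lc_j_rc_51_2 lc_j_rc_32_1 lc_j_rc_53_2 lc_j_rc_32_1 lc_j_rc_53_2 lc_j_rc_25_1 lc_j_rc_53_2 lc_j_rc_17_1 lc_j_rc_25_1 lc_j_rc_51_2 lc_j_Cert_tree lc_j_rc_8_1 lc_j_Cert_tree lc_j_rc_52_0 lc_j_rc_52_0 lc_j_rc_52_1 lc_j_rc_51_2 lc_j_rc_32_1 lc_j_rc_25_1 lc_j_Cert_tree lc_j_rc_52_0 lc_j_rc_52_1 lc_j_rc_51_2 lc_j_rc_53_2 lc_j_rc_52_0 lc_j_rc_52_1 lc_j_rc_51_2 lc_j_rc_32_1 lc_j_rc_25_1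 lc_j_rc_17_1 lc_j_rc_51_2 lc_j_rc_32_1 lc_j_rc_53_2 lc_j_rc_32_1 lc_j_rc_53_2 lc_j_rc_25_1 lc_j_rc_53_2 lc_j_rc_17_1 lc_j_rc_25_1) (@D3.rec (fun _ => (Cert rels S Gen.j)) lc_j_rc_51_2 lc_j_rc_49_3 lc_j_rc_32_1 lc_j_rc_53_2 lc_j_rc_25_1 lc_j_rc_38_1 lc_j_rc_53_2 lc_j_rc_25_1 lc_j_rc_53_2 lc_j_rc_17_1 lc_j_rc_25_1 lc_j_rc_51_2 lc_j_rc_8_1 lc_j_rc_17_1 lc_j_rc_25_1 lc_j_rc_17_1 lc_j_rc_17_1 lc_j_rc_8_1 lc_j_rc_8_1 lc_j_rc_25_1 lc_j_rc_17_1 lc_j_rc_17_1 lc_j_rc_38_1 lc_j_rc_51_2 lc_j_rc_25_1 lc_j_rc_17_1 lc_j_rc_17_1 lc_j_rc_45_1 lc_j_rc_38_1 lc_j_rc_53_2 lc_j_rc_8_1 lc_j_rc_53_2 lc_j_rc_25_1 lc_j_rc_17_1 lc_j_rc_53_0 lc_j_rc_17_1 lc_j_rc_17_1 lc_j_rc_38_1 lc_j_rc_51_2 lc_j_rc_45_1 lc_j_rc_53_2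 lc_j_rc_53_2 lc_j_rc_25_1 lc_j_rc_25_1 lc_j_rc_17_1 lc_j_rc_49_1 lc_j_rc_45_1 lc_j_rc_17_1 lc_j_rc_52_0 lc_j_rc_32_3 lc_j_rc_32_1) (@D3.rec (fun _ => (Cert rels S Gen.j)) lc_j_rc_53_2 lc_j_rc_8_1 lc_j_rc_53_2 lc_j_rc_52_0 lc_j_rc_25_1 lc_j_rc_49_1 lc_j_Cert_tree lc_j_rc_17_1 lc_j_rc_52_0 lc_j_rc_52_1 lc_j_rc_17_1 lc_j_Cert_tree lc_j_rc_52_0 lc_j_rc_52_1 lc_j_rc_32_1 lc_j_rc_38_1 lc_j_rc_51_2 lc_j_rc_49_1 lc_j_rc_51_2 lc_j_rc_53_2 lc_j_rc_25_1 lc_j_rc_25_1 lc_j_rc_17_1 lc_j_Cert_tree lc_j_rc_17_1 lc_j_rc_17_1 lc_j_rc_52_0 lc_j_rc_32_1 lc_j_rc_51_2 lc_j_rc_52_0 lc_j_rc_32_1 lc_j_rc_53_2 lc_j_rc_17_1 lc_j_rc_8_1 lc_j_rc_8_1 lc_j_rc_8_1 lc_j_Cert_tree lc_j_rc_8_1 lc_j_rc_8_1 lc_j_rc_52_0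 lc_j_rc_25_1 lc_j_rc_53_0 lc_j_rc_25_1 lc_j_rc_32_1 lc_j_rc_25_1 lc_j_Cert_tree lc_j_rc_17_1 lc_j_rc_52_0 lc_j_rc_52_1 lc_j_rc_17_1 lc_j_rc_53_2) (@D3.rec (fun _ => (Cert rels S Gen.j)) lc_j_rc_52_0 lc_j_rc_52_1 lc_j_rc_32_1 lc_j_rc_53_2 lc_j_rc_51_2 lc_j_rc_53_2 lc_j_rc_32_1 lc_j_rc_17_3 lc_j_rc_53_2 lc_j_rc_25_1 lc_j_Cert_tree lc_j_rc_25_1 lc_j_rc_25_1 lc_j_Cert_tree lc_j_rc_17_1 lc_j_rc_52_0 lc_j_rc_52_1 lc_j_rc_17_1 lc_j_Cert_tree lc_j_rc_52_0 lc_j_rc_32_1 lc_j_rc_25_1 lc_j_rc_53_2 lc_j_rc_51_2 lc_j_rc_53_2 lc_j_rc_17_1 lc_j_rc_17_1 lc_j_rc_8_1 lc_j_Cert_tree lc_j_rc_8_1 lc_j_rc_8_1 lc_j_rc_8_1 lc_j_Cert_tree lc_j_rc_8_1 lc_j_rc_52_0 lc_j_rc_52_1 lc_j_rc_8_1 lc_j_rc_32_1 lc_j_Cert_tree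 lc_j_rc_25_1 lc_j_rc_52_0 lc_j_rc_52_1 lc_j_rc_32_1 lc_j_rc_25_1 lc_j_rc_38_1 lc_j_rc_32_1 lc_j_Cert_tree lc_j_rc_52_0 lc_j_rc_52_1 lc_j_rc_32_1 lc_j_rc_17_1) (@D3.rec (fun _ => (Cert rels S Gen.j)) lc_j_rc_51_2 lc_j_rc_53_2 lc_j_rc_52_0 lc_j_rc_52_1 lc_j_rc_51_2 lc_j_rc_32_1 lc_j_rc_53_2 lc_j_rc_25_1 lc_j_rc_32_1 lc_j_rc_53_2 lc_j_rc_17_3 lc_j_rc_38_1 lc_j_rc_38_1 lc_j_rc_51_2 lc_j_rc_53_2 lc_j_rc_17_1 lc_j_Cert_tree lc_j_rc_17_1 lc_j_rc_52_0 lc_j_rc_52_1 lc_j_rc_17_1 lc_j_Cert_tree lc_j_rc_52_0 lc_j_rc_52_1 lc_j_rc_17_1 lc_j_rc_17_1 lc_j_rc_51_2 lc_j_rc_53_2 lc_j_rc_52_0 lc_j_rc_52_1 lc_j_rc_51_2 lc_j_rc_32_1 lc_j_rc_53_2 lc_j_rc_25_1 lc_j_rc_32_1 lc_j_rc_53_2 lc_j_rc_8_1 lc_j_Cert_tree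 lc_j_rc_17_1 lc_j_rc_17_1 lc_j_rc_8_1 lc_j_Cert_tree lc_j_rc_8_1 lc_j_rc_52_0 lc_j_rc_52_1 lc_j_rc_8_1 lc_j_rc_8_1 lc_j_rc_8_1 lc_j_Cert_tree lc_j_rc_52_0 lc_j_rc_52_1) (@D3.rec (fun _ => (Cert rels S Gen.j)) lc_j_rc_8_1 lc_j_rc_8_1 lc_j_rc_51_2 lc_j_rc_53_2 lc_j_Cert_tree lc_j_rc_17_1 lc_j_Cert_tree lc_j_rc_52_0 lc_j_rc_52_1 lc_j_rc_17_1 lc_j_rc_17_1 lc_j_rc_51_2 lc_j_rc_32_1 lc_j_rc_53_2 lc_j_rc_17_1 lc_j_rc_17_1 lc_j_rc_17_1 lc_j_rc_17_1 lc_j_rc_52_0 lc_j_rc_52_1 lc_j_rc_51_2 lc_j_rc_32_1 lc_j_rc_53_2 lc_j_rc_25_1 lc_j_rc_17_1 lc_j_rc_53_2 lc_j_rc_49_3 lc_j_rc_51_2 lc_j_rc_32_1 lc_j_rc_53_2 lc_j_rc_32_1 lc_j_rc_53_2 lc_j_rc_25_1 lc_j_rc_53_2 lc_j_rc_17_1 lc_j_rc_25_1 lc_j_rc_51_2 lc_j_rc_17_1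 lc_j_rc_8_1 lc_j_rc_8_1 lc_j_rc_8_1 lc_j_Cert_tree lc_j_rc_8_1 lc_j_rc_8_1 lc_j_rc_52_0 lc_j_rc_25_1 lc_j_Cert_tree lc_j_rc_25_1 lc_j_rc_32_1 lc_j_rc_25_1 lc_j_Cert_tree) (@D3.rec (fun _ => (Cert rels S Gen.j)) lc_j_rc_17_1 lc_j_rc_52_0 lc_j_rc_52_1 lc_j_rc_17_1 lc_j_rc_17_3 lc_j_rc_52_0 lc_j_rc_17_3 lc_j_rc_32_1 lc_j_rc_53_2 lc_j_rc_51_2 lc_j_rc_53_2 lc_j_rc_17_1 lc_j_rc_8_1 lc_j_Cert_tree lc_j_rc_8_1 lc_j_rc_8_1 lc_j_Cert_tree lc_j_rc_8_1 lc_j_rc_52_0 lc_j_rc_52_1 lc_j_rc_8_1 lc_j_rc_32_1 lc_j_Cert_tree lc_j_rc_25_1 lc_j_rc_52_0 lc_j_rc_52_1 lc_j_rc_32_1 lc_j_rc_25_1 lc_j_rc_38_1 lc_j_rc_32_1 lc_j_Cert_tree lc_j_rc_52_0 lc_j_rc_52_1 lc_j_rc_32_1 lc_j_rc_17_1 lc_j_rc_51_2 lc_j_rc_53_2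 lc_j_rc_52_0 lc_j_rc_52_1 lc_j_rc_51_2 lc_j_rc_32_1 lc_j_rc_53_2 lc_j_rc_25_1 lc_j_rc_32_1 lc_j_rc_53_2 lc_j_rc_17_1 lc_j_rc_8_1 lc_j_Cert_tree lc_j_rc_8_1 lc_j_rc_8_1 lc_j_Cert_tree) (@D3.rec (fun _ => (Cert rels S Gen.j)) lc_j_rc_8_1 lc_j_rc_52_0 lc_j_rc_52_1 lc_j_rc_8_1 lc_j_rc_32_1 lc_j_Cert_tree lc_j_rc_25_1 lc_j_rc_52_0 lc_j_rc_52_1 lc_j_rc_32_1 lc_j_rc_25_1 lc_j_rc_32_1 lc_j_Cert_tree lc_j_rc_52_0 lc_j_rc_52_1 lc_j_rc_32_1 lc_j_rc_17_1 lc_j_rc_51_2 lc_j_rc_53_2 lc_j_rc_52_0 lc_j_rc_52_1 lc_j_rc_51_2 lc_j_rc_17_3 lc_j_rc_53_2 lc_j_rc_32_1 lc_j_rc_32_1 lc_j_rc_53_2 lc_j_rc_17_1 lc_j_Cert_tree lc_j_rc_8_1 lc_j_Cert_tree lc_j_rc_8_1 lc_j_rc_52_0 lc_j_rc_52_1 lc_j_rc_8_1 lc_j_Cert_tree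 lc_j_rc_52_0 lc_j_rc_52_1 lc_j_rc_8_1 lc_j_rc_8_1 lc_j_rc_51_2 lc_j_rc_53_2 lc_j_Cert_tree lc_j_rc_51_2 lc_j_Cert_tree lc_j_rc_52_0 lc_j_rc_52_1 lc_j_rc_32_1 lc_j_rc_25_1 lc_j_rc_51_2 lc_j_rc_32_1) (@D3.rec (fun _ => (Cert rels S Gen.j)) lc_j_rc_53_2 lc_j_rc_38_1 lc_j_rc_32_1 lc_j_rc_45_1 lc_j_rc_38_1 lc_j_rc_52_0 lc_j_rc_52_1 lc_j_rc_51_2 lc_j_rc_32_1 lc_j_rc_53_2 lc_j_rc_25_1 lc_j_rc_32_1 lc_j_rc_53_2 lc_j_rc_49_3 lc_j_rc_51_2 lc_j_rc_32_1 lc_j_rc_53_2 lc_j_rc_32_1 lc_j_rc_53_2 lc_j_rc_25_1 lc_j_rc_53_2 lc_j_rc_17_1 lc_j_rc_25_1 lc_j_rc_51_2 lc_j_rc_17_1 lc_j_Cert_tree lc_j_Cert_tree lc_j_rc_8_1 lc_j_rc_52_0 lc_j_rc_52_1 lc_j_rc_8_1 lc_j_Cert_tree lc_j_rc_52_0 lc_j_rc_52_1 lc_j_rc_8_1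 lc_j_rc_51_2 lc_j_rc_53_2 lc_j_Cert_tree lc_j_rc_49_5 lc_j_Cert_tree lc_j_rc_52_0 lc_j_rc_52_1 lc_j_rc_32_1 lc_j_rc_25_1 lc_j_rc_51_2 lc_j_rc_32_1 lc_j_rc_53_2 lc_j_rc_38_1 lc_j_rc_32_1 lc_j_rc_52_0 lc_j_rc_52_1) (@D3.rec (fun _ => (Cert rels S Gen.j)) lc_j_rc_51_2 lc_j_rc_32_1 lc_j_rc_53_2 lc_j_rc_25_1 lc_j_rc_32_1 lc_j_rc_53_2 lc_j_rc_49_3 lc_j_rc_51_2 lc_j_rc_32_1 lc_j_rc_53_2 lc_j_rc_32_1 lc_j_rc_53_2 lc_j_rc_25_1 lc_j_rc_53_2 lc_j_rc_17_1 lc_j_rc_25_1 lc_j_rc_51_2 lc_j_rc_17_1 lc_j_Cert_tree lc_j_rc_52_0 lc_j_Cert_tree lc_j_rc_8_1 lc_j_Cert_tree lc_j_rc_52_0 lc_j_rc_52_1 lc_j_rc_8_1 lc_j_rc_8_1 lc_j_rc_51_2 lc_j_rc_53_2 lc_j_rc_52_0 lc_j_rc_52_1 lc_j_rc_51_2 lc_j_rc_32_1 lc_j_rc_53_2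 lc_j_rc_25_1 lc_j_rc_8_1 lc_j_rc_53_2 lc_j_Cert_tree lc_j_rc_52_0 lc_j_rc_52_1 lc_j_rc_51_2 lc_j_rc_53_2 lc_j_rc_52_0 lc_j_rc_52_1 lc_j_rc_51_2 lc_j_rc_32_1 lc_j_rc_53_2 lc_j_rc_25_1 lc_j_rc_38_1 lc_j_rc_32_1 lc_j_rc_32_1) (@D3.rec (fun _ => (Cert rels S Gen.j)) lc_j_rc_53_2 lc_j_rc_38_1 lc_j_rc_53_2 lc_j_rc_45_1 lc_j_rc_38_1 lc_j_Cert_tree lc_j_rc_45_1 lc_j_rc_17_1 lc_j_rc_51_2 lc_j_rc_32_1 lc_j_rc_53_2 lc_j_rc_32_1 lc_j_rc_53_2 lc_j_rc_25_1 lc_j_rc_53_2 lc_j_rc_17_1 lc_j_rc_25_1 lc_j_rc_49_5 lc_j_rc_49_3 lc_j_rc_32_1 lc_j_rc_53_2 lc_j_rc_25_1 lc_j_rc_38_1 lc_j_rc_53_2 lc_j_rc_25_1 lc_j_rc_53_2 lc_j_rc_17_1 lc_j_rc_25_1 lc_j_rc_51_2 lc_j_rc_8_1 lc_j_rc_17_1 lc_j_rc_25_1 lc_j_rc_52_0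 lc_j_Cert_tree lc_j_rc_52_0 lc_j_rc_52_1 lc_j_rc_53_2 lc_j_rc_52_0 lc_j_rc_17_1 lc_j_rc_51_2 lc_j_rc_32_1 lc_j_rc_32_1 lc_j_rc_25_1 lc_j_rc_17_1 lc_j_rc_49_3 lc_j_rc_32_1 lc_j_rc_53_2 lc_j_rc_25_1 lc_j_rc_38_1 lc_j_rc_53_2 lc_j_rc_25_1) (@D3.rec (fun _ => (Cert rels S Gen.j)) lc_j_rc_53_2 lc_j_rc_17_1 lc_j_rc_25_1 lc_j_rc_51_2 lc_j_rc_8_1 lc_j_rc_17_1 lc_j_rc_25_1 lc_j_Cert_tree lc_j_rc_52_0 lc_j_rc_52_1 lc_j_rc_8_1 lc_j_rc_52_0 lc_j_rc_8_1 lc_j_rc_51_2 lc_j_rc_32_1 lc_j_rc_32_1 lc_j_rc_25_1 lc_j_rc_17_1 lc_j_Cert_tree lc_j_rc_52_0 lc_j_rc_52_1 lc_j_rc_51_2 lc_j_rc_32_1 lc_j_rc_53_2 lc_j_rc_25_1 lc_j_rc_53_2 lc_j_rc_25_1 lc_j_rc_51_2 lc_j_rc_32_1 lc_j_rc_32_1 lc_j_rc_25_1 lc_j_rc_17_1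 lc_j_rc_17_1 lc_j_rc_32_1 lc_j_rc_53_2 lc_j_rc_25_1 lc_j_rc_38_1 lc_j_rc_53_2 lc_j_rc_25_1 lc_j_rc_53_2 lc_j_rc_17_1 lc_j_rc_25_1 lc_j_rc_51_2 lc_j_rc_51_0 lc_j_rc_17_1 lc_j_rc_25_1 lc_j_rc_32_1 lc_j_rc_53_2 lc_j_rc_25_1 lc_j_rc_38_1 lc_j_rc_53_2) (@D3.rec (fun _ => (Cert rels S Gen.j)) lc_j_rc_25_3 lc_j_rc_45_3 lc_j_rc_17_1 lc_j_rc_51_2 lc_j_rc_8_1 lc_j_rc_25_3 lc_j_rc_45_1 lc_j_rc_8_1 lc_j_rc_17_1 lc_j_rc_32_1 lc_j_rc_8_1 lc_j_rc_8_3 lc_j_rc_8_1 lc_j_rc_25_1 lc_j_rc_8_1 lc_j_rc_8_1 lc_j_rc_51_2 lc_j_rc_53_2 lc_j_rc_25_3 lc_j_rc_32_1 lc_j_rc_25_1 lc_j_rc_51_2 lc_j_rc_32_1 lc_j_rc_53_2 lc_j_rc_38_1 lc_j_rc_32_1 lc_j_rc_45_1 lc_j_rc_38_1 lc_j_rc_32_3 lc_j_rc_51_2 lc_j_rc_32_1 lc_j_rc_53_2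 lc_j_rc_25_1 lc_j_rc_32_1 lc_j_rc_53_2 lc_j_rc_51_2 lc_j_rc_32_1 lc_j_rc_53_2 lc_j_rc_32_1 lc_j_rc_53_2 lc_j_rc_25_1 lc_j_rc_53_2 lc_j_rc_17_1 lc_j_rc_25_1 lc_j_rc_49_5 lc_j_rc_32_1 lc_j_rc_17_1 lc_j_rc_8_1 lc_j_rc_51_2 lc_j_rc_53_2 lc_j_rc_45_3) (@D3.rec (fun _ => (Cert rels S Gen.j)) lc_j_rc_51_2 lc_j_rc_32_1 lc_j_rc_53_2 lc_j_rc_25_1 lc_j_rc_8_1 lc_j_rc_53_2 lc_j_rc_8_1 lc_j_rc_38_3 lc_j_rc_45_3 lc_j_rc_51_2 lc_j_rc_32_1 lc_j_rc_53_2 lc_j_rc_25_1 lc_j_rc_38_1 lc_j_rc_32_1 lc_j_rc_32_1 lc_j_rc_53_2 lc_j_rc_38_1 lc_j_rc_53_2 lc_j_rc_45_1 lc_j_rc_38_1 lc_j_Cert_tree lc_j_rc_45_1 lc_j_rc_51_2 lc_j_rc_32_1 lc_j_rc_53_2 lc_j_rc_32_1 lc_j_rc_53_2 lc_j_rc_25_1 lc_j_rc_53_2 lc_j_rc_17_1 lc_j_rc_25_1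 lc_j_rc_49_5 lc_j_rc_49_3 lc_j_rc_32_1 lc_j_rc_53_2 lc_j_rc_25_1 lc_j_rc_38_1 lc_j_rc_53_2 lc_j_rc_25_1 lc_j_rc_53_2 lc_j_rc_17_1 lc_j_rc_25_1 lc_j_rc_51_2 lc_j_rc_8_1 lc_j_rc_17_1 lc_j_rc_25_1 lc_j_rc_8_3 lc_j_rc_51_2 lc_j_rc_32_1 lc_j_rc_53_2) (@D3.rec (fun _ => (Cert rels S Gen.j)) lc_j_rc_25_1 lc_j_rc_8_1 lc_j_rc_53_2 lc_j_rc_51_2 lc_j_rc_32_1 lc_j_rc_53_2 lc_j_rc_32_1 lc_j_rc_53_2 lc_j_rc_25_1 lc_j_rc_53_2 lc_j_rc_17_1 lc_j_rc_25_1 lc_j_rc_8_1 lc_j_rc_51_2 lc_j_rc_32_1 lc_j_rc_53_2 lc_j_rc_32_1 lc_j_rc_53_2 lc_j_rc_25_1 lc_j_rc_38_1 lc_j_rc_53_2 lc_j_rc_17_1 lc_j_rc_25_1 lc_j_rc_25_1 lc_j_rc_45_1 lc_j_rc_38_1 lc_j_rc_49_5 lc_j_rc_38_1 lc_j_rc_53_2 lc_j_rc_45_1 lc_j_rc_53_2 lc_j_Cert_tree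 lc_j_rc_45_1 lc_j_rc_52_0 lc_j_rc_53_2 lc_j_rc_17_1 lc_j_rc_32_1 lc_j_rc_53_2 lc_j_rc_25_1 lc_j_rc_25_3 lc_j_rc_53_2 lc_j_rc_25_1 lc_j_rc_53_2 lc_j_rc_17_1 lc_j_rc_25_1 lc_j_rc_51_2 lc_j_rc_38_3 lc_j_rc_17_1 lc_j_rc_25_1 lc_j_rc_53_2 lc_j_rc_53_2) (@D3.rec (fun _ => (Cert rels S Gen.j)) lc_j_rc_25_3 lc_j_rc_45_3 lc_j_rc_45_3 lc_j_rc_38_1 lc_j_rc_17_1 lc_j_rc_8_1 lc_j_rc_25_3 lc_j_rc_8_1 lc_j_rc_17_1 lc_j_rc_32_1 lc_j_rc_25_1 lc_j_rc_25_3 lc_j_rc_25_3 lc_j_rc_25_1 lc_j_rc_53_2 lc_j_rc_17_1 lc_j_rc_25_1 lc_j_rc_25_3 lc_j_rc_51_0 lc_j_rc_17_1 lc_j_rc_25_1 lc_j_rc_25_1 lc_j_rc_51_0 lc_j_rc_32_3 lc_j_rc_53_2 lc_j_rc_53_2 lc_j_rc_38_3 lc_j_rc_53_2 lc_j_rc_17_1 lc_j_rc_32_1 lc_j_rc_8_1 lc_j_rc_32_1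 lc_j_rc_38_3 lc_j_rc_25_1 lc_j_rc_32_3 lc_j_rc_17_1 lc_j_rc_8_1 lc_j_rc_32_1 lc_j_rc_32_1 lc_j_rc_38_1 lc_j_rc_32_1 lc_j_rc_38_3 lc_j_rc_52_0 lc_j_rc_32_1 lc_j_rc_38_1 lc_j_rc_17_1 lc_j_rc_38_1 lc_j_rc_32_3 lc_j_rc_49_1 lc_j_rc_51_2 lc_j_rc_53_0) (@D3.rec (fun _ => (Cert rels S Gen.j)) lc_j_rc_49_1 lc_j_rc_45_1 lc_j_Cert_tree lc_j_rc_17_1 lc_j_rc_25_1 lc_j_rc_52_0 lc_j_rc_17_1 lc_j_rc_25_1 lc_j_rc_52_0 lc_j_rc_32_1 lc_j_rc_8_1 lc_j_rc_25_1 lc_j_rc_8_1 lc_j_rc_51_2 lc_j_rc_8_1 lc_j_rc_32_1 lc_j_rc_52_0 lc_j_rc_52_1 lc_j_rc_17_1 lc_j_rc_17_1 lc_j_rc_32_1 lc_j_rc_25_1 lc_j_rc_17_1 lc_j_rc_32_1 lc_j_rc_38_1 lc_j_rc_17_1 lc_j_Cert_tree lc_j_rc_25_1 lc_j_rc_8_1 lc_j_rc_17_1 lc_j_rc_32_1 lc_j_rc_8_1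 lc_j_rc_51_2 lc_j_rc_38_1 lc_j_rc_45_1 lc_j_rc_38_3 lc_j_rc_38_3 lc_j_rc_52_0 lc_j_rc_49_1 lc_j_rc_51_2 lc_j_rc_8_1 lc_j_rc_17_1 lc_j_rc_8_1 lc_j_rc_8_3 lc_j_rc_8_3 lc_j_rc_53_2 lc_j_rc_53_0 lc_j_rc_53_2 lc_j_rc_45_1 lc_j_Cert_tree lc_j_Cert_tree) (@D3.rec (fun _ => (Cert rels S Gen.j)) lc_j_rc_8_1 lc_j_rc_25_1 lc_j_rc_52_0 lc_j_rc_32_1 lc_j_rc_52_0 lc_j_rc_52_1 lc_j_rc_51_2 lc_j_rc_53_2 lc_j_rc_32_1 lc_j_rc_25_1 lc_j_rc_8_1 lc_j_rc_32_1 lc_j_rc_52_0 lc_j_rc_52_1 lc_j_rc_8_1 lc_j_rc_32_1 lc_j_rc_45_3 lc_j_rc_51_2 lc_j_rc_45_1 lc_j_rc_53_2 lc_j_rc_51_2 lc_j_rc_53_2 lc_j_rc_32_3 lc_j_rc_45_1 lc_j_rc_38_1 lc_j_rc_45_1 lc_j_Cert_tree lc_j_rc_52_0 lc_j_rc_38_3 lc_j_rc_52_0 lc_j_rc_52_1 lc_j_rc_8_1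 lc_j_rc_25_1 lc_j_Cert_tree lc_j_rc_52_0 lc_j_rc_52_1 lc_j_rc_51_2 lc_j_rc_32_1 lc_j_rc_53_2 lc_j_rc_25_1 lc_j_rc_53_2 lc_j_rc_38_1 lc_j_rc_32_1 lc_j_rc_38_3 lc_j_rc_17_1 lc_j_rc_25_3 lc_j_rc_25_1 lc_j_rc_32_3 lc_j_rc_52_0 lc_j_rc_52_1 lc_j_rc_17_1) (@D3.rec (fun _ => (Cert rels S Gen.j)) lc_j_rc_52_0 lc_j_rc_38_3 lc_j_rc_52_0 lc_j_rc_52_1 lc_j_rc_51_2 lc_j_rc_53_2 lc_j_rc_52_0 lc_j_rc_52_1 lc_j_rc_51_2 lc_j_rc_53_2 lc_j_rc_53_2 lc_j_rc_51_2 lc_j_rc_53_2 lc_j_rc_38_1 lc_j_rc_32_1 lc_j_rc_45_1 lc_j_rc_53_2 lc_j_rc_53_2 lc_j_rc_49_1 lc_j_rc_53_2 lc_j_rc_25_1 lc_j_rc_51_2 lc_j_rc_53_2 lc_j_rc_38_1 lc_j_rc_25_1 lc_j_rc_45_1 lc_j_rc_38_1 lc_j_rc_45_1 lc_j_Cert_tree lc_j_rc_52_0 lc_j_rc_45_1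 lc_j_Cert_tree lc_j_rc_52_0 lc_j_rc_8_1 lc_j_rc_49_3 lc_j_rc_53_2 lc_j_rc_25_1 lc_j_rc_51_2 lc_j_rc_53_2 lc_j_rc_38_1 lc_j_rc_45_1 lc_j_rc_51_2 lc_j_rc_53_2 lc_j_rc_32_1 lc_j_rc_25_1 lc_j_rc_32_1 lc_j_rc_38_1 lc_j_rc_32_1 lc_j_rc_25_1 lc_j_rc_45_1 lc_j_rc_49_1) (@D3.rec (fun _ => (Cert rels S Gen.j)) lc_j_rc_51_2 lc_j_rc_8_1 lc_j_rc_25_1 lc_j_rc_17_1 lc_j_rc_17_1 lc_j_rc_51_2 lc_j_rc_32_3 lc_j_rc_53_2 lc_j_rc_32_3 lc_j_rc_25_1 lc_j_rc_8_1 lc_j_rc_25_1 lc_j_rc_32_1 lc_j_rc_25_1 lc_j_rc_8_1 lc_j_rc_32_3 lc_j_rc_17_1 lc_j_rc_17_1 lc_j_rc_32_1 lc_j_rc_53_2 lc_j_rc_51_2 lc_j_rc_53_2 lc_j_rc_17_1 lc_j_rc_8_1 lc_j_rc_8_1 lc_j_rc_8_1 lc_j_rc_8_1 lc_j_rc_45_1 lc_j_rc_8_1 lc_j_rc_25_1 lc_j_rc_45_1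 lc_j_rc_25_1 lc_j_rc_25_1 lc_j_rc_25_1 lc_j_rc_25_1 lc_j_rc_8_1 lc_j_rc_17_1 lc_j_rc_17_1 lc_j_rc_51_2 lc_j_rc_53_2 lc_j_rc_17_1 lc_j_rc_51_2 lc_j_rc_32_1 lc_j_rc_53_2 lc_j_rc_25_1 lc_j_rc_38_1 lc_j_rc_53_2 lc_j_rc_17_1 lc_j_rc_17_1 lc_j_rc_32_1 lc_j_rc_49_3) (@D3.rec (fun _ => (Cert rels S Gen.j)) lc_j_rc_53_2 lc_j_rc_52_0 lc_j_rc_8_1 lc_j_rc_25_1 lc_j_rc_17_1 lc_j_rc_17_1 lc_j_rc_25_1 lc_j_rc_17_1 lc_j_rc_17_1 lc_j_rc_53_2 lc_j_rc_38_1 lc_j_rc_53_2 lc_j_rc_51_2 lc_j_rc_53_2 lc_j_rc_52_0 lc_j_rc_8_1 lc_j_rc_25_1 lc_j_rc_17_1 lc_j_rc_45_1 lc_j_rc_17_1 lc_j_rc_32_3 lc_j_rc_51_2 lc_j_rc_25_1 lc_j_rc_17_1 lc_j_Cert_tree lc_j_rc_17_1 lc_j_rc_52_0 lc_j_Cert_tree lc_j_rc_51_2 lc_j_rc_52_0 lc_j_rc_49_1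 lc_j_rc_45_1 lc_j_rc_8_1 lc_j_rc_49_1 lc_j_rc_25_1 lc_j_Cert_tree lc_j_Cert_tree lc_j_rc_17_1 lc_j_rc_52_0 lc_j_rc_49_1 lc_j_Cert_tree lc_j_rc_52_0 lc_j_rc_32_1 lc_j_rc_32_1 lc_j_rc_38_1 lc_j_rc_25_1 lc_j_rc_25_1 lc_j_rc_17_1 lc_j_Cert_tree lc_j_rc_17_1 lc_j_rc_17_1) (@D3.rec (fun _ => (Cert rels S Gen.j)) lc_j_rc_52_0 lc_j_Cert_tree lc_j_rc_49_5 lc_j_rc_52_0 lc_j_rc_52_1 lc_j_rc_53_2 lc_j_rc_17_1 lc_j_rc_8_1 lc_j_rc_8_1 lc_j_rc_8_1 lc_j_rc_8_3 lc_j_rc_8_1 lc_j_rc_8_1 lc_j_rc_25_1 lc_j_Cert_tree lc_j_rc_25_1 lc_j_rc_32_1 lc_j_rc_25_1 lc_j_Cert_tree lc_j_rc_17_1 lc_j_rc_52_0 lc_j_rc_17_3 lc_j_rc_17_1 lc_j_rc_25_3 lc_j_rc_52_0 lc_j_rc_25_3 lc_j_rc_32_1 lc_j_rc_53_2 lc_j_rc_51_2 lc_j_rc_53_2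 lc_j_rc_25_1 lc_j_Cert_tree lc_j_rc_25_1 lc_j_rc_32_1 lc_j_rc_25_1 lc_j_Cert_tree lc_j_rc_17_1 lc_j_rc_52_0 lc_j_rc_52_1 lc_j_rc_17_1 lc_j_Cert_tree lc_j_rc_52_0 lc_j_rc_52_1 lc_j_rc_32_1 lc_j_rc_53_2 lc_j_rc_51_2 lc_j_rc_53_2 lc_j_rc_17_1 lc_j_rc_17_1 lc_j_rc_8_1 lc_j_Cert_tree) (@D3.rec (fun _ => (Cert rels S Gen.j)) lc_j_rc_8_1 lc_j_rc_8_1 lc_j_rc_8_1 lc_j_Cert_tree lc_j_rc_8_1 lc_j_rc_52_0 lc_j_rc_32_1 lc_j_rc_8_1 lc_j_rc_32_1 lc_j_Cert_tree lc_j_rc_25_1 lc_j_rc_52_0 lc_j_rc_52_1 lc_j_rc_32_1 lc_j_rc_25_1 lc_j_rc_38_1 lc_j_rc_32_1 lc_j_Cert_tree lc_j_rc_52_0 lc_j_rc_52_1 lc_j_rc_32_1 lc_j_rc_17_1 lc_j_rc_51_2 lc_j_rc_53_2 lc_j_rc_52_0 lc_j_rc_52_1 lc_j_rc_51_2 lc_j_rc_32_1 lc_j_rc_53_2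 lc_j_rc_17_3 lc_j_rc_32_1 lc_j_rc_53_2 lc_j_rc_17_1 lc_j_Cert_tree lc_j_rc_17_1 lc_j_rc_52_0 lc_j_rc_52_1 lc_j_rc_17_1 lc_j_rc_17_1 lc_j_rc_17_1 lc_j_Cert_tree lc_j_rc_52_0 lc_j_rc_52_1 lc_j_rc_17_1 lc_j_rc_17_1 lc_j_rc_51_2 lc_j_rc_53_2 lc_j_rc_52_0 lc_j_rc_52_1 lc_j_rc_51_2 lc_j_rc_32_1) (@D3.rec (fun _ => (Cert rels S Gen.j)) lc_j_rc_53_2 lc_j_rc_25_1 lc_j_rc_32_1 lc_j_rc_53_2 lc_j_rc_8_1 lc_j_Cert_tree lc_j_rc_8_1 lc_j_rc_17_1 lc_j_rc_8_1 lc_j_rc_8_1 lc_j_Cert_tree lc_j_rc_8_1 lc_j_rc_52_0 lc_j_rc_52_1 lc_j_rc_8_1 lc_j_rc_8_1 lc_j_rc_8_1 lc_j_rc_8_1 lc_j_Cert_tree lc_j_rc_52_0 lc_j_rc_52_1 lc_j_rc_8_1 lc_j_rc_8_1 lc_j_rc_51_2 lc_j_rc_53_2 lc_j_Cert_tree lc_j_rc_17_1 lc_j_Cert_tree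 lc_j_rc_52_0 lc_j_rc_52_1 lc_j_rc_17_1 lc_j_rc_17_1 lc_j_rc_51_2 lc_j_rc_32_1 lc_j_rc_53_2 lc_j_rc_17_1 lc_j_rc_17_1 lc_j_rc_17_1 lc_j_rc_17_1 lc_j_rc_17_1 lc_j_rc_52_0 lc_j_rc_52_1 lc_j_rc_51_2 lc_j_rc_32_1 lc_j_rc_53_2 lc_j_rc_25_1 lc_j_rc_17_1 lc_j_rc_53_2 lc_j_rc_49_3 lc_j_rc_51_2 lc_j_rc_32_1)
def ce_j_6 : D2 → D3 → (Cert rels S Gen.j) := @D2.rec (fun _ => D3 → (Cert rels S Gen.j)) (@D3.rec (fun _ => (Cert rels S Gen.j)) lc_j_rc_53_2 lc_j_rc_32_1 lc_j_rc_53_2 lc_j_rc_25_1 lc_j_rc_53_2 lc_j_rc_17_1 lc_j_rc_25_1 lc_j_rc_51_2 lc_j_rc_8_1 lc_j_rc_8_1 lc_j_rc_8_1 lc_j_Cert_tree lc_j_rc_25_1 lc_j_rc_25_1 lc_j_rc_17_1 lc_j_Cert_tree lc_j_rc_17_1 lc_j_rc_17_1 lc_j_rc_52_0 lc_j_Cert_tree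 lc_j_rc_49_5 lc_j_rc_52_0 lc_j_rc_52_1 lc_j_rc_53_2 lc_j_rc_17_1 lc_j_rc_8_1 lc_j_rc_8_1 lc_j_rc_8_1 lc_j_Cert_tree lc_j_rc_8_1 lc_j_rc_8_1 lc_j_rc_52_0 lc_j_rc_25_1 lc_j_Cert_tree lc_j_rc_25_1 lc_j_rc_32_1 lc_j_rc_25_1 lc_j_Cert_tree lc_j_rc_17_1 lc_j_rc_52_0 lc_j_rc_52_1 lc_j_rc_17_1 lc_j_Cert_tree lc_j_rc_52_0 lc_j_rc_52_1 lc_j_rc_32_1 lc_j_rc_53_2 lc_j_rc_51_2 lc_j_rc_53_2 lc_j_rc_17_1 lc_j_rc_17_1) (@D3.rec (fun _ => (Cert rels S Gen.j)) lc_j_rc_8_1 lc_j_Cert_tree lc_j_rc_8_1 lc_j_rc_8_1 lc_j_rc_8_1 lc_j_Cert_tree lc_j_rc_8_1 lc_j_rc_52_0 lc_j_rc_52_1 lc_j_rc_8_1 lc_j_rc_32_1 lc_j_Cert_tree lc_j_rc_25_1 lc_j_rc_52_0 lc_j_rc_52_1 lc_j_rc_32_1 lc_j_rc_25_1 lc_j_rc_38_1 lc_j_rc_32_1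 lc_j_Cert_tree lc_j_rc_52_0 lc_j_rc_52_1 lc_j_rc_32_1 lc_j_rc_17_1 lc_j_rc_51_2 lc_j_rc_53_2 lc_j_rc_52_0 lc_j_rc_45_3 lc_j_rc_51_2 lc_j_rc_32_1 lc_j_rc_53_2 lc_j_rc_25_1 lc_j_rc_32_1 lc_j_rc_53_2 lc_j_rc_17_1 lc_j_rc_8_1 lc_j_rc_8_1 lc_j_rc_8_1 lc_j_Cert_tree lc_j_rc_8_1 lc_j_rc_8_1 lc_j_rc_52_0 lc_j_rc_8_1 lc_j_rc_25_3 lc_j_rc_25_1 lc_j_rc_32_1 lc_j_rc_25_1 lc_j_rc_25_1 lc_j_rc_17_1 lc_j_rc_52_0 lc_j_rc_52_1) (@D3.rec (fun _ => (Cert rels S Gen.j)) lc_j_rc_17_1 lc_j_Cert_tree lc_j_rc_52_0 lc_j_rc_52_1 lc_j_rc_32_1 lc_j_rc_53_2 lc_j_rc_51_2 lc_j_rc_53_2 lc_j_rc_17_1 lc_j_rc_17_1 lc_j_rc_8_1 lc_j_Cert_tree lc_j_rc_8_1 lc_j_rc_8_1 lc_j_rc_8_1 lc_j_Cert_tree lc_j_rc_8_1 lc_j_rc_52_0 lc_j_rc_52_1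 lc_j_rc_8_1 lc_j_rc_32_1 lc_j_Cert_tree lc_j_rc_25_1 lc_j_rc_52_0 lc_j_rc_52_1 lc_j_rc_32_1 lc_j_rc_25_1 lc_j_rc_38_1 lc_j_rc_32_1 lc_j_Cert_tree lc_j_rc_52_0 lc_j_rc_52_1 lc_j_rc_32_1 lc_j_rc_17_1 lc_j_rc_51_2 lc_j_rc_53_2 lc_j_rc_52_0 lc_j_rc_52_1 lc_j_rc_51_2 lc_j_rc_32_1 lc_j_rc_53_2 lc_j_rc_25_1 lc_j_rc_32_1 lc_j_rc_53_2 lc_j_rc_17_1 lc_j_Cert_tree lc_j_rc_17_1 lc_j_rc_17_1 lc_j_rc_8_1 lc_j_Cert_tree lc_j_rc_8_1) (@D3.rec (fun _ => (Cert rels S Gen.j)) lc_j_rc_52_0 lc_j_rc_52_1 lc_j_rc_8_1 lc_j_rc_8_1 lc_j_rc_8_1 lc_j_Cert_tree lc_j_rc_52_0 lc_j_rc_52_1 lc_j_rc_8_1 lc_j_rc_8_1 lc_j_rc_51_2 lc_j_rc_53_2 lc_j_Cert_tree lc_j_rc_49_5 lc_j_Cert_tree lc_j_rc_52_0 lc_j_rc_52_1 lc_j_rc_32_1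 lc_j_rc_25_1 lc_j_rc_51_2 lc_j_rc_32_1 lc_j_rc_53_2 lc_j_rc_38_1 lc_j_rc_32_1 lc_j_rc_45_1 lc_j_rc_38_1 lc_j_rc_51_2 lc_j_rc_52_0 lc_j_rc_52_1 lc_j_rc_51_2 lc_j_rc_32_1 lc_j_rc_53_2 lc_j_rc_25_1 lc_j_rc_32_1 lc_j_rc_53_2 lc_j_rc_49_3 lc_j_rc_51_2 lc_j_rc_32_1 lc_j_rc_53_2 lc_j_rc_32_1 lc_j_rc_53_2 lc_j_rc_17_3 lc_j_rc_53_2 lc_j_rc_17_1 lc_j_rc_25_1 lc_j_rc_51_2 lc_j_rc_17_1 lc_j_rc_17_1 lc_j_rc_45_1 lc_j_rc_25_1 lc_j_rc_25_1) (@D3.rec (fun _ => (Cert rels S Gen.j)) lc_j_rc_25_1 lc_j_rc_52_0 lc_j_rc_52_1 lc_j_rc_8_1 lc_j_rc_38_3 lc_j_rc_25_1 lc_j_rc_52_0 lc_j_rc_52_1 lc_j_rc_25_1 lc_j_rc_25_1 lc_j_rc_25_1 lc_j_rc_25_1 lc_j_rc_38_1 lc_j_rc_52_0 lc_j_rc_52_1 lc_j_rc_38_1 lc_j_rc_51_2 lc_j_rc_53_2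 lc_j_rc_52_0 lc_j_rc_52_1 lc_j_rc_51_2 lc_j_rc_32_1 lc_j_rc_53_2 lc_j_rc_25_1 lc_j_rc_38_1 lc_j_rc_53_2 lc_j_rc_17_1 lc_j_Cert_tree lc_j_rc_17_1 lc_j_rc_17_1 lc_j_Cert_tree lc_j_rc_8_1 lc_j_rc_52_0 lc_j_rc_52_1 lc_j_rc_8_1 lc_j_rc_8_1 lc_j_rc_8_1 lc_j_Cert_tree lc_j_rc_52_0 lc_j_rc_52_1 lc_j_rc_8_1 lc_j_rc_51_2 lc_j_rc_53_2 lc_j_Cert_tree lc_j_rc_49_5 lc_j_Cert_tree lc_j_rc_52_0 lc_j_rc_52_1 lc_j_rc_32_1 lc_j_rc_25_1 lc_j_rc_51_2) (@D3.rec (fun _ => (Cert rels S Gen.j)) lc_j_rc_32_1 lc_j_rc_53_2 lc_j_rc_38_1 lc_j_rc_32_1 lc_j_rc_45_1 lc_j_rc_38_1 lc_j_rc_51_2 lc_j_rc_52_0 lc_j_rc_52_1 lc_j_rc_51_2 lc_j_rc_32_1 lc_j_rc_53_2 lc_j_rc_25_1 lc_j_rc_32_1 lc_j_rc_53_2 lc_j_rc_49_3 lc_j_rc_51_2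 lc_j_rc_32_1 lc_j_rc_53_2 lc_j_rc_32_1 lc_j_rc_53_2 lc_j_rc_25_1 lc_j_rc_53_2 lc_j_rc_17_1 lc_j_rc_25_1 lc_j_rc_51_2 lc_j_rc_17_1 lc_j_Cert_tree lc_j_rc_17_1 lc_j_rc_52_0 lc_j_rc_52_1 lc_j_rc_17_1 lc_j_Cert_tree lc_j_rc_8_1 lc_j_Cert_tree lc_j_rc_52_0 lc_j_rc_52_1 lc_j_rc_8_1 lc_j_rc_8_1 lc_j_rc_51_2 lc_j_rc_32_1 lc_j_rc_53_2 lc_j_rc_8_1 lc_j_rc_8_1 lc_j_rc_8_1 lc_j_rc_52_0 lc_j_rc_52_1 lc_j_rc_51_2 lc_j_rc_32_1 lc_j_rc_53_2 lc_j_rc_25_1) (@D3.rec (fun _ => (Cert rels S Gen.j)) lc_j_rc_8_1 lc_j_rc_53_2 lc_j_Cert_tree lc_j_rc_52_0 lc_j_rc_52_1 lc_j_rc_51_2 lc_j_rc_53_2 lc_j_rc_52_0 lc_j_rc_52_1 lc_j_rc_51_2 lc_j_rc_32_1 lc_j_rc_53_2 lc_j_rc_25_1 lc_j_rc_38_1 lc_j_rc_32_1 lc_j_rc_32_1 lc_j_rc_53_2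 lc_j_rc_38_1 lc_j_rc_53_2 lc_j_rc_45_1 lc_j_rc_38_1 lc_j_rc_51_2 lc_j_Cert_tree lc_j_rc_45_1 lc_j_rc_51_2 lc_j_rc_17_1 lc_j_rc_51_2 lc_j_rc_32_1 lc_j_rc_53_2 lc_j_rc_32_1 lc_j_rc_53_2 lc_j_rc_25_1 lc_j_rc_53_2 lc_j_rc_17_1 lc_j_rc_25_1 lc_j_rc_51_2 lc_j_rc_49_3 lc_j_rc_32_1 lc_j_rc_53_2 lc_j_rc_25_1 lc_j_rc_38_1 lc_j_rc_53_2 lc_j_rc_25_1 lc_j_rc_53_2 lc_j_rc_17_1 lc_j_rc_25_1 lc_j_rc_51_2 lc_j_rc_8_1 lc_j_rc_17_1 lc_j_rc_25_1 lc_j_rc_25_1) (@D3.rec (fun _ => (Cert rels S Gen.j)) lc_j_rc_32_1 lc_j_rc_32_1 lc_j_rc_17_1 lc_j_rc_52_0 lc_j_Cert_tree lc_j_rc_52_0 lc_j_rc_52_1 lc_j_rc_53_2 lc_j_rc_52_0 lc_j_rc_17_1 lc_j_rc_51_2 lc_j_rc_32_1 lc_j_rc_32_1 lc_j_rc_25_1 lc_j_rc_17_1 lc_j_rc_49_3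 lc_j_rc_32_1 lc_j_rc_53_2 lc_j_rc_25_1 lc_j_rc_38_1 lc_j_rc_53_2 lc_j_rc_25_1 lc_j_rc_53_2 lc_j_rc_38_1 lc_j_rc_25_1 lc_j_rc_51_2 lc_j_rc_8_1 lc_j_rc_17_1 lc_j_rc_25_1 lc_j_Cert_tree lc_j_rc_52_0 lc_j_rc_52_1 lc_j_rc_8_1 lc_j_rc_52_0 lc_j_rc_8_1 lc_j_rc_51_2 lc_j_rc_32_1 lc_j_rc_32_1 lc_j_rc_25_1 lc_j_rc_17_1 lc_j_Cert_tree lc_j_rc_52_0 lc_j_rc_52_1 lc_j_rc_51_2 lc_j_rc_32_1 lc_j_rc_53_2 lc_j_rc_25_1 lc_j_rc_53_2 lc_j_rc_25_1 lc_j_rc_51_2 lc_j_rc_32_1) (@D3.rec (fun _ => (Cert rels S Gen.j)) lc_j_rc_32_1 lc_j_rc_25_1 lc_j_rc_17_1 lc_j_rc_17_1 lc_j_rc_32_1 lc_j_rc_53_2 lc_j_rc_25_1 lc_j_rc_38_1 lc_j_rc_53_2 lc_j_rc_25_1 lc_j_rc_53_2 lc_j_rc_17_1 lc_j_rc_25_1 lc_j_rc_51_2 lc_j_rc_51_0 lc_j_rc_17_1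 lc_j_rc_25_1 lc_j_rc_32_1 lc_j_rc_53_2 lc_j_rc_25_1 lc_j_rc_38_1 lc_j_rc_53_2 lc_j_rc_17_1 lc_j_rc_49_3 lc_j_rc_38_1 lc_j_rc_51_0 lc_j_rc_51_2 lc_j_rc_17_1 lc_j_rc_25_1 lc_j_rc_51_2 lc_j_rc_8_1 lc_j_rc_17_1 lc_j_rc_51_2 lc_j_rc_8_1 lc_j_rc_17_1 lc_j_rc_32_1 lc_j_rc_25_1 lc_j_rc_17_1 lc_j_rc_17_1 lc_j_rc_25_1 lc_j_rc_25_1 lc_j_rc_17_1 lc_j_rc_17_1 lc_j_rc_8_1 lc_j_rc_25_1 lc_j_rc_25_1 lc_j_rc_17_1 lc_j_rc_25_1 lc_j_rc_17_1 lc_j_rc_38_1 lc_j_rc_45_3) (@D3.rec (fun _ => (Cert rels S Gen.j)) lc_j_rc_32_1 lc_j_rc_25_1 lc_j_rc_53_0 lc_j_rc_25_1 lc_j_rc_32_3 lc_j_rc_32_1 lc_j_rc_53_2 lc_j_rc_32_3 lc_j_rc_38_1 lc_j_rc_38_1 lc_j_rc_32_1 lc_j_rc_38_1 lc_j_Cert_tree lc_j_rc_52_0 lc_j_rc_52_1 lc_j_rc_32_1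 lc_j_rc_25_3 lc_j_rc_51_2 lc_j_rc_25_3 lc_j_rc_52_0 lc_j_rc_52_1 lc_j_rc_51_2 lc_j_rc_32_1 lc_j_rc_49_1 lc_j_rc_17_3 lc_j_rc_53_2 lc_j_rc_53_2 lc_j_rc_25_1 lc_j_rc_17_3 lc_j_rc_25_1 lc_j_rc_25_1 lc_j_rc_32_1 lc_j_rc_17_1 lc_j_rc_52_0 lc_j_rc_25_3 lc_j_rc_17_1 lc_j_rc_53_2 lc_j_rc_49_3 lc_j_rc_17_1 lc_j_rc_17_1 lc_j_rc_8_1 lc_j_rc_32_1 lc_j_rc_8_1 lc_j_rc_8_1 lc_j_rc_8_1 lc_j_rc_32_1 lc_j_rc_8_1 lc_j_rc_52_0 lc_j_rc_52_1 lc_j_rc_8_1 lc_j_rc_32_1) (@D3.rec (fun _ => (Cert rels S Gen.j)) lc_j_rc_53_0 lc_j_rc_25_1 lc_j_rc_8_3 lc_j_rc_32_1 lc_j_rc_25_1 lc_j_rc_38_1 lc_j_rc_32_1 lc_j_rc_32_1 lc_j_rc_52_0 lc_j_rc_52_1 lc_j_rc_32_1 lc_j_rc_17_1 lc_j_rc_51_2 lc_j_rc_53_2 lc_j_rc_53_0 lc_j_rc_51_2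 lc_j_rc_32_1 lc_j_rc_49_3 lc_j_rc_25_1 lc_j_rc_32_1 lc_j_rc_53_2 lc_j_rc_53_2 lc_j_rc_53_2 lc_j_rc_32_1 lc_j_Cert_tree lc_j_rc_25_1 lc_j_rc_52_0 lc_j_rc_52_1 lc_j_rc_25_1 lc_j_Cert_tree lc_j_rc_52_0 lc_j_rc_32_1 lc_j_rc_25_3 lc_j_rc_17_1 lc_j_rc_51_2 lc_j_rc_53_2 lc_j_rc_52_0 lc_j_rc_38_3 lc_j_rc_49_1 lc_j_rc_53_2 lc_j_rc_53_2 lc_j_rc_17_1 lc_j_rc_38_3 lc_j_rc_17_1 lc_j_rc_17_1 lc_j_rc_38_1 lc_j_rc_49_3 lc_j_rc_8_1 lc_j_rc_52_0 lc_j_rc_52_1 lc_j_rc_8_1) (@D3.rec (fun _ => (Cert rels S Gen.j)) lc_j_rc_8_1 lc_j_rc_8_1 lc_j_Cert_tree lc_j_rc_52_0 lc_j_rc_52_1 lc_j_rc_8_1 lc_j_rc_8_1 lc_j_rc_51_2 lc_j_rc_53_2 lc_j_rc_53_0 lc_j_rc_51_2 lc_j_Cert_tree lc_j_rc_52_0 lc_j_rc_52_1 lc_j_rc_32_1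 lc_j_rc_25_1 lc_j_rc_51_2 lc_j_rc_8_3 lc_j_rc_53_2 lc_j_rc_38_1 lc_j_rc_32_1 lc_j_rc_45_1 lc_j_rc_38_1 lc_j_rc_52_0 lc_j_rc_52_1 lc_j_rc_51_2 lc_j_rc_32_1 lc_j_rc_53_2 lc_j_rc_25_1 lc_j_rc_32_1 lc_j_rc_53_2 lc_j_rc_49_3 lc_j_rc_51_2 lc_j_rc_32_1 lc_j_rc_53_2 lc_j_rc_32_1 lc_j_rc_53_2 lc_j_rc_25_1 lc_j_rc_53_2 lc_j_rc_17_1 lc_j_rc_25_1 lc_j_rc_51_2 lc_j_rc_17_3 lc_j_rc_38_3 lc_j_rc_25_1 lc_j_rc_38_1 lc_j_rc_53_2 lc_j_Cert_tree lc_j_rc_17_1 lc_j_Cert_tree lc_j_rc_52_0) (@D3.rec (fun _ => (Cert rels S Gen.j)) lc_j_rc_52_1 lc_j_rc_17_1 lc_j_rc_17_1 lc_j_rc_51_2 lc_j_rc_53_2 lc_j_rc_52_0 lc_j_rc_52_1 lc_j_rc_51_2 lc_j_rc_32_1 lc_j_rc_53_2 lc_j_rc_25_1 lc_j_rc_17_1 lc_j_rc_53_2 lc_j_rc_49_3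 lc_j_rc_51_2 lc_j_rc_32_1 lc_j_rc_53_2 lc_j_rc_32_1 lc_j_rc_53_2 lc_j_rc_25_1 lc_j_rc_53_2 lc_j_rc_17_1 lc_j_rc_25_1 lc_j_rc_51_2 lc_j_rc_8_1 lc_j_Cert_tree lc_j_rc_17_1 lc_j_rc_52_0 lc_j_rc_52_1 lc_j_rc_17_1 lc_j_Cert_tree lc_j_rc_8_1 lc_j_Cert_tree lc_j_rc_52_0 lc_j_rc_52_1 lc_j_rc_8_1 lc_j_rc_8_1 lc_j_rc_51_2 lc_j_rc_32_1 lc_j_rc_53_2 lc_j_rc_8_1 lc_j_rc_8_1 lc_j_rc_52_0 lc_j_rc_52_1 lc_j_rc_51_2 lc_j_rc_32_1 lc_j_rc_53_2 lc_j_rc_8_1 lc_j_rc_8_1 lc_j_rc_53_2 lc_j_Cert_tree) (@D3.rec (fun _ => (Cert rels S Gen.j)) lc_j_rc_52_0 lc_j_rc_52_1 lc_j_rc_17_1 lc_j_rc_17_1 lc_j_rc_52_0 lc_j_rc_52_1 lc_j_rc_51_2 lc_j_rc_32_1 lc_j_rc_53_2 lc_j_rc_25_1 lc_j_rc_17_1 lc_j_rc_17_1 lc_j_rc_32_1 lc_j_rc_53_2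 lc_j_rc_38_1 lc_j_rc_53_2 lc_j_rc_17_1 lc_j_rc_17_1 lc_j_Cert_tree lc_j_rc_17_1 lc_j_rc_17_1 lc_j_rc_51_2 lc_j_rc_32_1 lc_j_rc_53_2 lc_j_rc_32_1 lc_j_rc_53_2 lc_j_rc_25_1 lc_j_rc_53_2 lc_j_rc_17_1 lc_j_rc_25_1 lc_j_rc_17_1 lc_j_rc_49_3 lc_j_rc_32_1 lc_j_rc_53_2 lc_j_rc_25_1 lc_j_rc_38_1 lc_j_rc_53_2 lc_j_rc_25_1 lc_j_rc_53_2 lc_j_rc_17_1 lc_j_rc_25_1 lc_j_rc_51_2 lc_j_rc_8_1 lc_j_rc_17_1 lc_j_rc_25_1 lc_j_rc_17_1 lc_j_rc_8_1 lc_j_rc_8_3 lc_j_rc_8_1 lc_j_rc_8_1 lc_j_Cert_tree) (@D3.rec (fun _ => (Cert rels S Gen.j)) lc_j_rc_8_1 lc_j_rc_52_0 lc_j_rc_52_1 lc_j_rc_8_1 lc_j_rc_32_1 lc_j_rc_25_3 lc_j_rc_25_1 lc_j_rc_52_0 lc_j_rc_52_1 lc_j_rc_32_1 lc_j_rc_25_1 lc_j_rc_32_1 lc_j_rc_45_3 lc_j_rc_52_0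 lc_j_rc_38_3 lc_j_rc_32_1 lc_j_rc_17_1 lc_j_rc_51_2 lc_j_rc_53_2 lc_j_rc_17_3 lc_j_rc_32_1 lc_j_rc_53_2 lc_j_rc_17_1 lc_j_rc_38_3 lc_j_rc_8_1 lc_j_Cert_tree lc_j_rc_8_1 lc_j_rc_52_0 lc_j_rc_52_1 lc_j_rc_8_1 lc_j_Cert_tree lc_j_rc_52_0 lc_j_rc_52_1 lc_j_rc_8_1 lc_j_rc_8_1 lc_j_rc_51_2 lc_j_rc_53_2 lc_j_rc_49_3 lc_j_rc_51_2 lc_j_Cert_tree lc_j_rc_52_0 lc_j_rc_52_1 lc_j_rc_32_1 lc_j_rc_25_1 lc_j_rc_51_2 lc_j_rc_51_2 lc_j_rc_53_2 lc_j_rc_38_1 lc_j_rc_32_1 lc_j_rc_45_1 lc_j_rc_38_1) (@D3.rec (fun _ => (Cert rels S Gen.j)) lc_j_rc_52_0 lc_j_rc_52_1 lc_j_rc_51_2 lc_j_rc_32_1 lc_j_rc_53_2 lc_j_rc_25_1 lc_j_rc_32_1 lc_j_rc_53_2 lc_j_rc_49_3 lc_j_rc_51_2 lc_j_rc_32_1 lc_j_rc_17_3 lc_j_rc_32_1 lc_j_rc_53_2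 lc_j_rc_25_1 lc_j_rc_53_2 lc_j_rc_17_1 lc_j_rc_25_1 lc_j_rc_51_2 lc_j_rc_17_1 lc_j_rc_17_3 lc_j_rc_8_1 lc_j_Cert_tree lc_j_rc_8_1 lc_j_rc_52_0 lc_j_rc_52_1 lc_j_rc_8_1 lc_j_Cert_tree lc_j_rc_52_0 lc_j_rc_52_1 lc_j_rc_8_1 lc_j_rc_8_1 lc_j_rc_51_2 lc_j_rc_53_2 lc_j_rc_32_3 lc_j_rc_51_2 lc_j_Cert_tree lc_j_rc_52_0 lc_j_rc_52_1 lc_j_rc_32_1 lc_j_rc_25_1 lc_j_rc_51_2 lc_j_rc_32_1 lc_j_rc_53_2 lc_j_rc_38_1 lc_j_rc_32_1 lc_j_rc_52_0 lc_j_rc_52_1 lc_j_rc_51_2 lc_j_rc_8_3 lc_j_rc_53_2) (@D3.rec (fun _ => (Cert rels S Gen.j)) lc_j_rc_25_1 lc_j_rc_32_1 lc_j_rc_53_2 lc_j_rc_49_3 lc_j_rc_51_2 lc_j_rc_25_1 lc_j_rc_53_2 lc_j_rc_53_2 lc_j_rc_17_3 lc_j_rc_32_1 lc_j_rc_53_2 lc_j_rc_51_2 lc_j_rc_17_1 lc_j_rc_32_1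 lc_j_rc_52_0 lc_j_rc_38_1 lc_j_rc_8_1 lc_j_Cert_tree lc_j_rc_52_0 lc_j_rc_52_1 lc_j_rc_8_1 lc_j_rc_8_1 lc_j_rc_51_2 lc_j_rc_53_2 lc_j_rc_52_0 lc_j_rc_52_1 lc_j_rc_51_2 lc_j_rc_32_1 lc_j_rc_53_2 lc_j_rc_25_1 lc_j_rc_8_1 lc_j_rc_53_2 lc_j_Cert_tree lc_j_rc_52_0 lc_j_rc_49_1 lc_j_rc_51_2 lc_j_rc_53_2 lc_j_rc_52_0 lc_j_rc_52_1 lc_j_rc_51_2 lc_j_rc_32_1 lc_j_rc_53_2 lc_j_rc_25_1 lc_j_rc_38_1 lc_j_rc_32_1 lc_j_rc_32_1 lc_j_rc_53_2 lc_j_rc_8_3 lc_j_rc_53_2 lc_j_rc_45_1 lc_j_rc_38_1) (@D3.rec (fun _ => (Cert rels S Gen.j)) lc_j_Cert_tree lc_j_rc_45_1 lc_j_rc_17_1 lc_j_rc_51_2 lc_j_rc_32_1 lc_j_rc_53_2 lc_j_rc_32_1 lc_j_rc_53_2 lc_j_rc_25_1 lc_j_rc_53_2 lc_j_rc_17_1 lc_j_rc_25_1 lc_j_rc_51_2 lc_j_rc_49_3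 lc_j_rc_32_1 lc_j_rc_53_2 lc_j_rc_25_1 lc_j_rc_38_1 lc_j_rc_53_2 lc_j_rc_25_1 lc_j_rc_53_2 lc_j_rc_17_1 lc_j_rc_25_1 lc_j_rc_51_2 lc_j_rc_8_1 lc_j_rc_17_1 lc_j_rc_25_1 lc_j_Cert_tree lc_j_rc_52_0 lc_j_Cert_tree lc_j_rc_52_0 lc_j_rc_52_1 lc_j_rc_8_1 lc_j_rc_8_1 lc_j_rc_51_2 lc_j_rc_53_2 lc_j_rc_52_0 lc_j_rc_52_1 lc_j_rc_51_2 lc_j_rc_53_2 lc_j_rc_53_2 lc_j_Cert_tree lc_j_rc_52_0 lc_j_rc_52_1 lc_j_rc_51_2 lc_j_rc_53_2 lc_j_rc_52_0 lc_j_rc_52_1 lc_j_rc_51_2 lc_j_rc_32_1 lc_j_rc_53_2) (@D3.rec (fun _ => (Cert rels S Gen.j)) lc_j_rc_25_1 lc_j_rc_38_1 lc_j_rc_32_1 lc_j_rc_32_1 lc_j_rc_53_2 lc_j_rc_38_1 lc_j_rc_53_2 lc_j_rc_38_1 lc_j_rc_17_1 lc_j_rc_51_2 lc_j_rc_32_1 lc_j_rc_53_2 lc_j_rc_32_1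 lc_j_rc_53_2 lc_j_rc_25_1 lc_j_rc_53_2 lc_j_rc_17_1 lc_j_rc_25_1 lc_j_rc_49_3 lc_j_rc_32_1 lc_j_rc_53_2 lc_j_rc_25_1 lc_j_rc_38_1 lc_j_rc_53_2 lc_j_rc_25_1 lc_j_rc_53_2 lc_j_rc_17_1 lc_j_rc_25_1 lc_j_rc_51_2 lc_j_rc_8_1 lc_j_rc_17_1 lc_j_rc_25_1 lc_j_Cert_tree lc_j_rc_17_1 lc_j_Cert_tree lc_j_rc_52_0 lc_j_Cert_tree lc_j_rc_52_0 lc_j_rc_52_1 lc_j_rc_8_1 lc_j_rc_8_1 lc_j_rc_52_0 lc_j_rc_52_1 lc_j_rc_51_2 lc_j_rc_32_1 lc_j_rc_53_2 lc_j_rc_25_1 lc_j_rc_8_1 lc_j_rc_53_2 lc_j_rc_8_1 lc_j_rc_51_2) (@D3.rec (fun _ => (Cert rels S Gen.j)) lc_j_rc_32_1 lc_j_rc_53_2 lc_j_rc_32_1 lc_j_rc_53_2 lc_j_rc_25_1 lc_j_rc_53_2 lc_j_rc_17_1 lc_j_rc_25_1 lc_j_Cert_tree lc_j_rc_52_0 lc_j_rc_52_1 lc_j_rc_51_2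 lc_j_rc_32_1 lc_j_rc_53_2 lc_j_rc_25_1 lc_j_rc_51_2 lc_j_rc_53_2 lc_j_rc_25_1 lc_j_rc_51_2 lc_j_rc_32_1 lc_j_rc_53_2 lc_j_rc_32_1 lc_j_rc_53_2 lc_j_rc_25_1 lc_j_rc_38_1 lc_j_rc_53_2 lc_j_rc_17_1 lc_j_rc_25_1 lc_j_rc_25_1 lc_j_rc_45_1 lc_j_rc_38_1 lc_j_rc_51_2 lc_j_rc_38_1 lc_j_rc_53_2 lc_j_rc_45_1 lc_j_rc_53_2 lc_j_Cert_tree lc_j_rc_45_1 lc_j_rc_52_0 lc_j_rc_53_2 lc_j_rc_17_1 lc_j_rc_32_1 lc_j_rc_53_2 lc_j_rc_25_1 lc_j_rc_38_1 lc_j_rc_53_2 lc_j_rc_25_1 lc_j_rc_53_2 lc_j_rc_17_1 lc_j_rc_25_1 lc_j_rc_51_2) (@D3.rec (fun _ => (Cert rels S Gen.j)) lc_j_rc_32_3 lc_j_rc_17_1 lc_j_rc_25_1 lc_j_rc_32_1 lc_j_rc_53_2 lc_j_rc_25_1 lc_j_rc_38_1 lc_j_rc_53_2 lc_j_rc_17_1 lc_j_rc_45_1 lc_j_rc_25_1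 lc_j_rc_53_2 lc_j_rc_51_2 lc_j_rc_17_1 lc_j_rc_25_1 lc_j_rc_51_2 lc_j_rc_8_1 lc_j_rc_17_1 lc_j_rc_45_1 lc_j_rc_8_1 lc_j_rc_17_1 lc_j_rc_32_1 lc_j_rc_8_1 lc_j_Cert_tree lc_j_rc_52_0 lc_j_rc_52_1 lc_j_rc_51_2 lc_j_rc_53_2 lc_j_rc_25_1 lc_j_rc_17_1 lc_j_rc_32_1 lc_j_rc_25_1 lc_j_rc_38_1 lc_j_rc_25_1 lc_j_rc_17_1 lc_j_rc_8_1 lc_j_rc_32_1 lc_j_rc_53_2 lc_j_rc_25_1 lc_j_rc_38_1 lc_j_rc_53_2 lc_j_rc_17_1 lc_j_rc_32_1 lc_j_rc_49_3 lc_j_rc_53_2 lc_j_rc_45_3 lc_j_rc_17_1 lc_j_rc_25_1 lc_j_rc_51_2 lc_j_rc_8_1 lc_j_rc_17_1) (@D3.rec (fun _ => (Cert rels S Gen.j)) lc_j_rc_51_2 lc_j_rc_8_1 lc_j_rc_17_1 lc_j_rc_32_1 lc_j_rc_38_3 lc_j_rc_52_0 lc_j_rc_52_1 lc_j_rc_51_2 lc_j_rc_53_2 lc_j_rc_8_1 lc_j_rc_8_1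 lc_j_rc_32_1 lc_j_rc_25_1 lc_j_rc_38_1 lc_j_rc_25_1 lc_j_rc_17_1 lc_j_rc_51_0 lc_j_rc_52_0 lc_j_rc_52_1 lc_j_rc_32_1 lc_j_rc_51_2 lc_j_rc_32_1 lc_j_rc_53_2 lc_j_rc_32_1 lc_j_rc_53_2 lc_j_rc_25_1 lc_j_rc_53_2 lc_j_rc_17_1 lc_j_rc_25_1 lc_j_rc_25_1 lc_j_rc_32_1 lc_j_rc_25_1 lc_j_rc_38_1 lc_j_rc_25_1 lc_j_rc_17_1 lc_j_rc_51_0 lc_j_rc_32_1 lc_j_rc_17_1 lc_j_rc_25_1 lc_j_rc_38_1 lc_j_rc_53_2 lc_j_rc_17_1 lc_j_rc_25_1 lc_j_rc_25_1 lc_j_rc_25_1 lc_j_rc_25_3 lc_j_rc_17_1 lc_j_rc_25_1 lc_j_rc_51_2 lc_j_rc_8_1 lc_j_rc_32_3) (@D3.rec (fun _ => (Cert rels S Gen.j)) lc_j_rc_51_2 lc_j_rc_53_2 lc_j_rc_17_1 lc_j_rc_32_1 lc_j_rc_25_3 lc_j_rc_8_1 lc_j_rc_25_3 lc_j_rc_25_3 lc_j_rc_38_1 lc_j_rc_8_1 lc_j_rc_17_1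 lc_j_rc_38_1 lc_j_rc_8_1 lc_j_rc_53_2 lc_j_rc_25_1 lc_j_rc_53_2 lc_j_rc_25_1 lc_j_rc_8_1 lc_j_rc_53_2 lc_j_rc_53_2 lc_j_rc_25_1 lc_j_rc_38_1 lc_j_rc_32_1 lc_j_rc_32_1 lc_j_rc_53_2 lc_j_rc_32_1 lc_j_rc_53_2 lc_j_rc_45_1 lc_j_rc_38_1 lc_j_Cert_tree lc_j_rc_45_1 lc_j_rc_25_1 lc_j_rc_53_2 lc_j_rc_32_1 lc_j_rc_53_2 lc_j_rc_8_1 lc_j_rc_53_2 lc_j_rc_17_1 lc_j_rc_25_1 lc_j_rc_49_5 lc_j_rc_32_1 lc_j_rc_53_2 lc_j_rc_25_1 lc_j_rc_38_1 lc_j_rc_53_2 lc_j_rc_25_1 lc_j_rc_53_2 lc_j_rc_17_1 lc_j_rc_25_1 lc_j_rc_51_2 lc_j_rc_8_1) (@D3.rec (fun _ => (Cert rels S Gen.j)) lc_j_rc_17_1 lc_j_rc_25_1 lc_j_rc_53_2 lc_j_rc_17_1 lc_j_rc_53_2 lc_j_rc_53_2 lc_j_rc_8_3 lc_j_rc_53_2 lc_j_rc_32_1 lc_j_rc_53_2 lc_j_rc_32_1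 lc_j_rc_53_2 lc_j_rc_17_1 lc_j_rc_25_1 lc_j_rc_8_1 lc_j_rc_8_1 lc_j_rc_8_1 lc_j_rc_53_2 lc_j_rc_53_2 lc_j_rc_53_2 lc_j_rc_49_1 lc_j_rc_38_1 lc_j_rc_53_2 lc_j_rc_17_1 lc_j_rc_25_1 lc_j_rc_25_1 lc_j_rc_45_1 lc_j_rc_38_1 lc_j_rc_51_2 lc_j_rc_38_1 lc_j_rc_53_2 lc_j_rc_45_1 lc_j_rc_53_2 lc_j_Cert_tree lc_j_rc_45_1 lc_j_rc_52_0 lc_j_rc_8_3 lc_j_rc_32_1 lc_j_rc_53_2 lc_j_rc_38_3 lc_j_rc_25_3 lc_j_rc_53_2 lc_j_rc_25_1 lc_j_rc_53_2 lc_j_rc_17_1 lc_j_rc_25_1 lc_j_rc_51_2 lc_j_rc_8_1 lc_j_rc_17_1 lc_j_rc_25_1 lc_j_rc_53_2) (@D3.rec (fun _ => (Cert rels S Gen.j)) lc_j_rc_25_1 lc_j_rc_53_2 lc_j_rc_17_1 lc_j_rc_38_1 lc_j_rc_25_1 lc_j_rc_38_1 lc_j_rc_51_2 lc_j_rc_17_1 lc_j_rc_25_1 lc_j_rc_51_2 lc_j_rc_8_1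 lc_j_rc_17_1 lc_j_rc_51_2 lc_j_rc_8_1 lc_j_rc_17_1 lc_j_rc_32_1 lc_j_rc_8_3 lc_j_rc_32_3 lc_j_rc_32_1 lc_j_rc_53_2 lc_j_rc_25_1 lc_j_rc_53_2 lc_j_rc_17_1 lc_j_rc_25_1 lc_j_rc_8_1 lc_j_rc_32_1 lc_j_rc_53_2 lc_j_rc_25_1 lc_j_rc_25_3 lc_j_rc_53_2 lc_j_rc_25_1 lc_j_rc_53_2 lc_j_rc_17_1 lc_j_rc_25_1 lc_j_rc_51_2 lc_j_rc_38_3 lc_j_rc_17_1 lc_j_rc_25_1 lc_j_rc_32_1 lc_j_rc_53_2 lc_j_rc_25_1 lc_j_rc_25_3 lc_j_rc_53_2 lc_j_rc_25_1 lc_j_rc_38_1 lc_j_rc_53_2 lc_j_rc_17_1 lc_j_rc_25_1 lc_j_rc_25_1 lc_j_rc_45_1 lc_j_rc_53_2) (@D3.rec (fun _ => (Cert rels S Gen.j)) lc_j_rc_51_2 lc_j_rc_38_3 lc_j_rc_17_1 lc_j_rc_17_1 lc_j_rc_25_1 lc_j_rc_25_1 lc_j_rc_25_1 lc_j_Cert_tree lc_j_rc_45_1 lc_j_rc_49_5 lc_j_rc_45_1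 lc_j_rc_53_2 lc_j_Cert_tree lc_j_rc_53_2 lc_j_rc_52_0 lc_j_rc_53_2 lc_j_rc_53_2 lc_j_rc_17_1 lc_j_rc_25_1 lc_j_rc_53_2 lc_j_rc_38_1 lc_j_rc_32_3 lc_j_rc_25_1 lc_j_rc_25_3 lc_j_rc_25_3 lc_j_rc_17_1 lc_j_rc_25_1 lc_j_rc_51_2 lc_j_rc_8_1 lc_j_rc_51_2 lc_j_rc_51_2 lc_j_rc_53_2 lc_j_rc_17_1 lc_j_rc_32_1 lc_j_rc_25_3 lc_j_rc_8_1 lc_j_rc_25_3 lc_j_rc_8_1 lc_j_rc_25_1 lc_j_rc_17_1 lc_j_rc_32_3 lc_j_rc_53_2 lc_j_rc_17_1 lc_j_rc_25_1 lc_j_rc_53_2 lc_j_rc_53_2 lc_j_rc_53_2 lc_j_rc_53_2 lc_j_rc_17_1 lc_j_rc_32_1 lc_j_rc_17_1) (@D3.rec (fun _ => (Cert rels S Gen.j)) lc_j_rc_17_1 lc_j_rc_8_1 lc_j_rc_17_1 lc_j_rc_38_1 lc_j_rc_25_1 lc_j_rc_45_1 lc_j_rc_32_3 lc_j_rc_17_1 lc_j_rc_53_2 lc_j_rc_51_2 lc_j_Cert_tree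 lc_j_rc_32_1 lc_j_rc_52_0 lc_j_rc_52_1 lc_j_rc_17_1 lc_j_rc_25_1 lc_j_rc_32_1 lc_j_rc_17_1 lc_j_rc_45_1 lc_j_rc_8_1 lc_j_rc_8_1 lc_j_rc_32_1 lc_j_rc_32_1 lc_j_rc_45_3 lc_j_rc_51_2 lc_j_rc_45_1 lc_j_rc_53_2 lc_j_rc_25_1 lc_j_rc_17_1 lc_j_rc_17_1 lc_j_rc_32_3 lc_j_rc_38_1 lc_j_rc_17_3 lc_j_Cert_tree lc_j_rc_52_0 lc_j_rc_51_2 lc_j_rc_8_1 lc_j_rc_53_2 lc_j_rc_45_1 lc_j_rc_49_3 lc_j_rc_32_1 lc_j_rc_32_1 lc_j_rc_8_1 lc_j_rc_53_2 lc_j_rc_17_1 lc_j_rc_8_1 lc_j_rc_8_3 lc_j_rc_8_3 lc_j_rc_8_3 lc_j_rc_53_2 lc_j_rc_49_5)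
def ce_j_7 : D2 → D3 → (Cert rels S Gen.j) := @D2.rec (fun _ => D3 → (Cert rels S Gen.j)) (@D3.rec (fun _ => (Cert rels S Gen.j)) lc_j_Cert_tree lc_j_rc_52_0 lc_j_rc_32_1 lc_j_rc_52_0 lc_j_rc_52_1 lc_j_rc_8_1 lc_j_rc_38_1 lc_j_rc_45_3 lc_j_rc_51_2 lc_j_rc_32_1 lc_j_rc_53_2 lc_j_rc_25_1 lc_j_rc_53_2 lc_j_rc_38_3 lc_j_rc_32_1 lc_j_rc_45_3 lc_j_rc_51_2 lc_j_rc_53_2 lc_j_rc_45_3 lc_j_rc_53_2 lc_j_rc_53_2 lc_j_rc_51_2 lc_j_rc_53_2 lc_j_rc_51_2 lc_j_rc_53_2 lc_j_rc_32_3 lc_j_Cert_tree lc_j_rc_45_1 lc_j_Cert_tree lc_j_rc_52_0 lc_j_rc_25_1 lc_j_rc_38_3 lc_j_rc_51_2 lc_j_rc_53_2 lc_j_rc_52_0 lc_j_rc_52_1 lc_j_rc_51_2 lc_j_rc_38_1 lc_j_rc_53_2 lc_j_rc_32_1 lc_j_rc_53_2 lc_j_rc_38_3 lc_j_rc_53_2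 lc_j_rc_17_1 lc_j_rc_25_1 lc_j_rc_25_3 lc_j_rc_25_1 lc_j_rc_45_3 lc_j_rc_51_2 lc_j_rc_53_2 lc_j_rc_38_3) (@D3.rec (fun _ => (Cert rels S Gen.j)) lc_j_rc_51_2 lc_j_rc_53_2 lc_j_rc_53_2 lc_j_rc_51_2 lc_j_rc_32_1 lc_j_rc_53_2 lc_j_rc_53_2 lc_j_rc_51_2 lc_j_rc_53_2 lc_j_rc_45_1 lc_j_rc_32_1 lc_j_rc_53_2 lc_j_rc_32_1 lc_j_rc_53_2 lc_j_rc_25_1 lc_j_rc_51_2 lc_j_rc_53_2 lc_j_rc_45_1 lc_j_rc_38_1 lc_j_rc_45_1 lc_j_Cert_tree lc_j_rc_52_0 lc_j_Cert_tree lc_j_rc_52_0 lc_j_rc_49_3 lc_j_rc_53_2 lc_j_rc_51_2 lc_j_rc_25_1 lc_j_rc_8_1 lc_j_rc_32_1 lc_j_rc_25_1 lc_j_rc_17_1 lc_j_rc_53_2 lc_j_rc_53_2 lc_j_rc_25_3 lc_j_rc_53_2 lc_j_rc_53_2 lc_j_rc_25_3 lc_j_rc_53_2 lc_j_rc_38_1 lc_j_rc_32_1 lc_j_rc_25_3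 lc_j_rc_53_2 lc_j_rc_53_2 lc_j_rc_53_2 lc_j_rc_49_1 lc_j_rc_53_2 lc_j_rc_17_1 lc_j_rc_17_1 lc_j_rc_8_1 lc_j_rc_8_1) (@D3.rec (fun _ => (Cert rels S Gen.j)) lc_j_rc_8_1 lc_j_rc_8_1 lc_j_rc_8_1 lc_j_rc_8_1 lc_j_rc_53_2 lc_j_rc_25_1 lc_j_rc_8_1 lc_j_rc_53_2 lc_j_rc_25_1 lc_j_rc_25_1 lc_j_rc_25_1 lc_j_rc_25_1 lc_j_rc_25_1 lc_j_rc_8_1 lc_j_rc_32_3 lc_j_rc_25_1 lc_j_rc_17_1 lc_j_rc_53_2 lc_j_rc_17_1 lc_j_rc_38_1 lc_j_rc_32_1 lc_j_rc_53_2 lc_j_rc_25_1 lc_j_rc_53_2 lc_j_rc_17_1 lc_j_rc_25_1 lc_j_rc_51_2 lc_j_rc_25_1 lc_j_rc_17_1 lc_j_rc_17_1 lc_j_rc_25_1 lc_j_rc_25_1 lc_j_rc_17_1 lc_j_rc_53_2 lc_j_rc_17_1 lc_j_rc_38_1 lc_j_rc_51_2 lc_j_rc_8_1 lc_j_rc_25_1 lc_j_rc_25_1 lc_j_rc_32_3 lc_j_rc_17_1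 lc_j_rc_25_1 lc_j_rc_25_3 lc_j_Cert_tree lc_j_rc_17_1 lc_j_rc_52_0 lc_j_rc_25_1 lc_j_Cert_tree lc_j_rc_52_0 lc_j_rc_49_1) (@D3.rec (fun _ => (Cert rels S Gen.j)) lc_j_rc_25_1 lc_j_rc_45_1 lc_j_rc_32_3 lc_j_rc_32_1 lc_j_Cert_tree lc_j_rc_52_0 lc_j_Cert_tree lc_j_rc_52_0 lc_j_rc_32_1 lc_j_rc_32_1 lc_j_rc_52_0 lc_j_rc_32_1 lc_j_rc_25_1 lc_j_Cert_tree lc_j_rc_25_1 lc_j_rc_32_1 lc_j_rc_25_1 lc_j_Cert_tree lc_j_rc_17_1 lc_j_rc_52_0 lc_j_rc_52_1 lc_j_rc_17_1 lc_j_rc_53_2 lc_j_rc_52_0 lc_j_rc_52_1 lc_j_rc_32_1 lc_j_rc_53_2 lc_j_rc_51_2 lc_j_rc_53_2 lc_j_rc_17_1 lc_j_rc_17_1 lc_j_rc_8_1 lc_j_rc_8_3 lc_j_rc_8_1 lc_j_rc_8_1 lc_j_rc_8_1 lc_j_rc_8_3 lc_j_rc_8_1 lc_j_rc_8_1 lc_j_rc_32_1 lc_j_Cert_tree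 lc_j_rc_25_1 lc_j_rc_52_0 lc_j_rc_17_3 lc_j_rc_32_1 lc_j_rc_25_1 lc_j_rc_38_1 lc_j_rc_32_1 lc_j_rc_25_3 lc_j_rc_52_0 lc_j_rc_25_3) (@D3.rec (fun _ => (Cert rels S Gen.j)) lc_j_rc_32_1 lc_j_rc_17_1 lc_j_rc_53_2 lc_j_rc_53_2 lc_j_rc_32_1 lc_j_rc_53_2 lc_j_rc_32_1 lc_j_Cert_tree lc_j_rc_25_1 lc_j_rc_52_0 lc_j_rc_52_1 lc_j_rc_32_1 lc_j_rc_25_1 lc_j_rc_32_1 lc_j_Cert_tree lc_j_rc_52_0 lc_j_rc_52_1 lc_j_rc_32_1 lc_j_rc_17_1 lc_j_rc_51_2 lc_j_rc_53_2 lc_j_rc_52_0 lc_j_rc_52_1 lc_j_rc_51_2 lc_j_rc_32_1 lc_j_rc_53_2 lc_j_rc_45_1 lc_j_rc_32_1 lc_j_rc_53_2 lc_j_rc_17_1 lc_j_Cert_tree lc_j_rc_17_1 lc_j_rc_17_1 lc_j_rc_17_1 lc_j_rc_8_1 lc_j_Cert_tree lc_j_rc_8_1 lc_j_rc_52_0 lc_j_rc_49_1 lc_j_rc_8_1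 lc_j_rc_8_1 lc_j_rc_8_1 lc_j_rc_8_1 lc_j_Cert_tree lc_j_rc_52_0 lc_j_rc_38_1 lc_j_rc_32_1 lc_j_rc_8_1 lc_j_rc_53_2 lc_j_Cert_tree lc_j_rc_49_5) (@D3.rec (fun _ => (Cert rels S Gen.j)) lc_j_Cert_tree lc_j_rc_52_0 lc_j_rc_52_1 lc_j_rc_32_1 lc_j_rc_25_1 lc_j_rc_51_2 lc_j_rc_32_1 lc_j_rc_53_2 lc_j_rc_38_1 lc_j_rc_32_1 lc_j_rc_45_1 lc_j_rc_38_1 lc_j_rc_51_2 lc_j_rc_52_0 lc_j_rc_52_1 lc_j_rc_51_2 lc_j_rc_32_1 lc_j_rc_53_2 lc_j_rc_25_1 lc_j_rc_32_1 lc_j_rc_53_2 lc_j_rc_49_3 lc_j_rc_51_2 lc_j_rc_38_1 lc_j_rc_53_2 lc_j_rc_53_2 lc_j_rc_49_1 lc_j_rc_38_1 lc_j_rc_17_3 lc_j_rc_49_1 lc_j_Cert_tree lc_j_rc_17_1 lc_j_Cert_tree lc_j_rc_52_0 lc_j_rc_52_1 lc_j_rc_17_1 lc_j_rc_17_1 lc_j_rc_51_2 lc_j_rc_32_1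 lc_j_rc_53_2 lc_j_rc_17_1 lc_j_rc_17_1 lc_j_rc_17_1 lc_j_rc_52_0 lc_j_rc_52_1 lc_j_rc_51_2 lc_j_rc_32_1 lc_j_rc_53_2 lc_j_rc_25_1 lc_j_rc_17_1 lc_j_rc_53_2) (@D3.rec (fun _ => (Cert rels S Gen.j)) lc_j_rc_49_3 lc_j_rc_51_2 lc_j_rc_32_1 lc_j_rc_53_2 lc_j_rc_32_1 lc_j_rc_53_2 lc_j_rc_25_1 lc_j_rc_53_2 lc_j_rc_17_1 lc_j_rc_25_1 lc_j_rc_51_2 lc_j_rc_8_1 lc_j_Cert_tree lc_j_rc_8_1 lc_j_rc_52_0 lc_j_rc_52_1 lc_j_rc_17_1 lc_j_rc_8_1 lc_j_rc_25_1 lc_j_rc_17_1 lc_j_Cert_tree lc_j_rc_8_1 lc_j_Cert_tree lc_j_rc_52_0 lc_j_rc_52_1 lc_j_rc_8_1 lc_j_rc_8_1 lc_j_rc_51_2 lc_j_rc_38_3 lc_j_rc_53_2 lc_j_rc_8_1 lc_j_rc_8_1 lc_j_rc_8_1 lc_j_rc_8_1 lc_j_rc_8_1 lc_j_rc_52_0 lc_j_rc_52_1 lc_j_rc_51_2 lc_j_rc_25_3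 lc_j_rc_53_2 lc_j_rc_8_1 lc_j_rc_8_1 lc_j_rc_53_2 lc_j_Cert_tree lc_j_rc_52_0 lc_j_rc_52_1 lc_j_rc_17_1 lc_j_rc_17_1 lc_j_rc_52_0 lc_j_rc_52_1 lc_j_rc_51_2) (@D3.rec (fun _ => (Cert rels S Gen.j)) lc_j_rc_32_1 lc_j_rc_53_2 lc_j_rc_25_1 lc_j_rc_17_1 lc_j_rc_17_1 lc_j_rc_32_1 lc_j_rc_53_2 lc_j_rc_38_1 lc_j_rc_53_2 lc_j_rc_17_1 lc_j_rc_17_1 lc_j_rc_17_1 lc_j_Cert_tree lc_j_rc_17_1 lc_j_rc_17_1 lc_j_rc_17_1 lc_j_rc_51_2 lc_j_rc_32_1 lc_j_rc_53_2 lc_j_rc_32_1 lc_j_rc_53_2 lc_j_rc_25_1 lc_j_rc_53_2 lc_j_rc_17_1 lc_j_rc_25_1 lc_j_rc_17_1 lc_j_rc_49_3 lc_j_rc_32_1 lc_j_rc_53_2 lc_j_rc_25_1 lc_j_rc_32_1 lc_j_rc_53_2 lc_j_rc_25_1 lc_j_rc_53_2 lc_j_rc_17_1 lc_j_rc_25_1 lc_j_rc_51_2 lc_j_rc_8_1 lc_j_rc_17_1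 lc_j_rc_25_1 lc_j_rc_17_1 lc_j_rc_8_1 lc_j_rc_8_1 lc_j_rc_8_1 lc_j_rc_8_3 lc_j_rc_8_1 lc_j_rc_8_1 lc_j_rc_52_0 lc_j_rc_25_1 lc_j_rc_32_1 lc_j_rc_25_1) (@D3.rec (fun _ => (Cert rels S Gen.j)) lc_j_rc_17_1 lc_j_rc_52_0 lc_j_rc_52_1 lc_j_rc_17_1 lc_j_rc_52_0 lc_j_rc_52_1 lc_j_rc_32_1 lc_j_rc_53_2 lc_j_rc_51_2 lc_j_rc_53_2 lc_j_rc_17_1 lc_j_rc_17_1 lc_j_rc_8_1 lc_j_Cert_tree lc_j_rc_8_1 lc_j_rc_8_1 lc_j_rc_8_1 lc_j_Cert_tree lc_j_rc_8_1 lc_j_rc_52_0 lc_j_rc_52_1 lc_j_rc_8_1 lc_j_rc_32_1 lc_j_Cert_tree lc_j_rc_25_1 lc_j_rc_52_0 lc_j_rc_52_1 lc_j_rc_32_1 lc_j_rc_25_1 lc_j_rc_38_1 lc_j_rc_32_1 lc_j_Cert_tree lc_j_rc_52_0 lc_j_rc_52_1 lc_j_rc_32_1 lc_j_rc_17_1 lc_j_rc_51_2 lc_j_rc_53_2 lc_j_rc_52_0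 lc_j_rc_52_1 lc_j_rc_51_2 lc_j_rc_32_1 lc_j_rc_53_2 lc_j_rc_25_1 lc_j_rc_32_1 lc_j_rc_53_2 lc_j_rc_17_1 lc_j_Cert_tree lc_j_rc_17_1 lc_j_rc_17_1 lc_j_rc_8_1) (@D3.rec (fun _ => (Cert rels S Gen.j)) lc_j_Cert_tree lc_j_rc_8_1 lc_j_rc_52_0 lc_j_rc_52_1 lc_j_rc_8_1 lc_j_rc_8_1 lc_j_rc_8_1 lc_j_Cert_tree lc_j_rc_52_0 lc_j_rc_52_1 lc_j_rc_8_1 lc_j_rc_8_1 lc_j_rc_51_2 lc_j_rc_53_2 lc_j_Cert_tree lc_j_rc_49_5 lc_j_Cert_tree lc_j_rc_52_0 lc_j_rc_52_1 lc_j_rc_32_1 lc_j_rc_25_1 lc_j_rc_51_2 lc_j_rc_17_1 lc_j_rc_53_2 lc_j_rc_38_1 lc_j_rc_32_1 lc_j_rc_45_1 lc_j_rc_38_1 lc_j_rc_51_2 lc_j_rc_52_0 lc_j_rc_45_3 lc_j_rc_51_2 lc_j_rc_32_1 lc_j_rc_53_2 lc_j_rc_25_1 lc_j_rc_32_1 lc_j_rc_53_2 lc_j_rc_49_3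 lc_j_rc_53_2 lc_j_rc_53_2 lc_j_rc_53_2 lc_j_rc_17_1 lc_j_rc_25_1 lc_j_rc_51_2 lc_j_rc_17_1 lc_j_rc_17_1 lc_j_rc_8_1 lc_j_rc_8_1 lc_j_rc_8_1 lc_j_rc_25_1 lc_j_rc_8_1) (@D3.rec (fun _ => (Cert rels S Gen.j)) lc_j_rc_52_0 lc_j_rc_52_1 lc_j_rc_8_1 lc_j_rc_8_1 lc_j_rc_25_3 lc_j_rc_32_1 lc_j_rc_25_1 lc_j_rc_38_1 lc_j_rc_32_1 lc_j_rc_45_1 lc_j_rc_17_3 lc_j_rc_32_1 lc_j_rc_17_1 lc_j_rc_51_2 lc_j_rc_53_2 lc_j_rc_52_0 lc_j_rc_52_1 lc_j_rc_51_2 lc_j_rc_32_1 lc_j_rc_53_2 lc_j_rc_25_1 lc_j_rc_32_1 lc_j_rc_53_2 lc_j_rc_17_1 lc_j_Cert_tree lc_j_rc_17_1 lc_j_rc_17_1 lc_j_rc_8_1 lc_j_Cert_tree lc_j_rc_8_1 lc_j_rc_52_0 lc_j_rc_52_1 lc_j_rc_8_1 lc_j_rc_8_1 lc_j_rc_8_1 lc_j_Cert_tree lc_j_rc_52_0 lc_j_rc_52_1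 lc_j_rc_8_1 lc_j_rc_8_1 lc_j_rc_51_2 lc_j_rc_53_2 lc_j_Cert_tree lc_j_rc_51_2 lc_j_Cert_tree lc_j_rc_52_0 lc_j_rc_52_1 lc_j_rc_32_1 lc_j_rc_25_1 lc_j_rc_51_2 lc_j_rc_32_1) (@D3.rec (fun _ => (Cert rels S Gen.j)) lc_j_rc_53_2 lc_j_rc_38_1 lc_j_rc_32_1 lc_j_rc_45_1 lc_j_rc_38_1 lc_j_rc_51_2 lc_j_rc_52_0 lc_j_rc_52_1 lc_j_rc_51_2 lc_j_rc_32_1 lc_j_rc_53_2 lc_j_rc_25_1 lc_j_rc_32_1 lc_j_rc_53_2 lc_j_rc_49_3 lc_j_rc_51_2 lc_j_rc_32_1 lc_j_rc_53_2 lc_j_rc_32_1 lc_j_rc_53_2 lc_j_rc_25_1 lc_j_rc_53_2 lc_j_rc_17_1 lc_j_rc_25_1 lc_j_rc_51_2 lc_j_rc_17_1 lc_j_Cert_tree lc_j_rc_17_1 lc_j_rc_52_0 lc_j_rc_52_1 lc_j_rc_17_1 lc_j_Cert_tree lc_j_rc_8_1 lc_j_Cert_tree lc_j_rc_52_0 lc_j_rc_52_1 lc_j_rc_8_1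 lc_j_rc_8_1 lc_j_rc_51_2 lc_j_rc_32_1 lc_j_rc_53_2 lc_j_rc_8_1 lc_j_rc_8_1 lc_j_rc_8_1 lc_j_rc_52_0 lc_j_rc_52_1 lc_j_rc_51_2 lc_j_rc_32_1 lc_j_rc_53_2 lc_j_rc_25_1 lc_j_rc_8_1) (@D3.rec (fun _ => (Cert rels S Gen.j)) lc_j_rc_53_2 lc_j_Cert_tree lc_j_rc_52_0 lc_j_rc_52_1 lc_j_rc_49_5 lc_j_rc_53_2 lc_j_rc_52_0 lc_j_rc_52_1 lc_j_rc_51_2 lc_j_rc_32_1 lc_j_rc_53_2 lc_j_rc_25_1 lc_j_rc_38_1 lc_j_rc_32_1 lc_j_rc_32_1 lc_j_rc_53_2 lc_j_rc_38_1 lc_j_rc_53_2 lc_j_rc_45_1 lc_j_rc_38_1 lc_j_rc_51_2 lc_j_Cert_tree lc_j_rc_45_1 lc_j_rc_51_2 lc_j_rc_17_1 lc_j_rc_51_2 lc_j_rc_32_1 lc_j_rc_53_2 lc_j_rc_32_1 lc_j_rc_53_2 lc_j_rc_25_1 lc_j_rc_53_2 lc_j_rc_17_1 lc_j_rc_25_1 lc_j_rc_51_2 lc_j_rc_49_3 lc_j_rc_32_1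 lc_j_rc_53_2 lc_j_rc_25_1 lc_j_rc_38_1 lc_j_rc_53_2 lc_j_rc_53_2 lc_j_rc_8_3 lc_j_rc_17_3 lc_j_rc_51_2 lc_j_rc_8_1 lc_j_rc_17_1 lc_j_rc_25_1 lc_j_rc_17_1 lc_j_rc_17_1 lc_j_rc_17_1) (@D3.rec (fun _ => (Cert rels S Gen.j)) lc_j_rc_45_1 lc_j_rc_25_1 lc_j_rc_25_1 lc_j_rc_25_1 lc_j_rc_51_2 lc_j_rc_53_2 lc_j_rc_38_3 lc_j_rc_32_1 lc_j_rc_25_1 lc_j_rc_51_2 lc_j_rc_32_1 lc_j_rc_53_2 lc_j_rc_25_1 lc_j_rc_25_1 lc_j_rc_25_1 lc_j_rc_25_1 lc_j_rc_25_1 lc_j_rc_38_1 lc_j_rc_51_2 lc_j_rc_53_2 lc_j_rc_53_2 lc_j_rc_51_2 lc_j_rc_25_1 lc_j_rc_53_2 lc_j_rc_32_1 lc_j_rc_53_2 lc_j_rc_45_1 lc_j_rc_53_2 lc_j_rc_17_1 lc_j_rc_25_1 lc_j_Cert_tree lc_j_rc_17_1 lc_j_rc_52_0 lc_j_rc_52_1 lc_j_rc_17_1 lc_j_Cert_tree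 lc_j_rc_52_0 lc_j_rc_52_1 lc_j_rc_8_1 lc_j_rc_8_1 lc_j_rc_51_2 lc_j_rc_32_1 lc_j_rc_53_2 lc_j_rc_8_1 lc_j_rc_8_1 lc_j_rc_8_1 lc_j_rc_52_0 lc_j_rc_52_1 lc_j_rc_51_2 lc_j_rc_53_2 lc_j_rc_53_2) (@D3.rec (fun _ => (Cert rels S Gen.j)) lc_j_Cert_tree lc_j_rc_52_0 lc_j_rc_52_1 lc_j_rc_51_2 lc_j_rc_53_2 lc_j_rc_52_0 lc_j_rc_52_1 lc_j_rc_51_2 lc_j_rc_32_1 lc_j_rc_53_2 lc_j_rc_25_1 lc_j_rc_38_1 lc_j_rc_32_1 lc_j_rc_32_1 lc_j_rc_53_2 lc_j_rc_38_1 lc_j_rc_53_2 lc_j_rc_45_1 lc_j_rc_38_1 lc_j_rc_51_2 lc_j_Cert_tree lc_j_rc_45_1 lc_j_rc_51_2 lc_j_rc_17_1 lc_j_rc_51_2 lc_j_rc_32_1 lc_j_rc_53_2 lc_j_rc_32_1 lc_j_rc_53_2 lc_j_rc_25_1 lc_j_rc_53_2 lc_j_rc_17_1 lc_j_rc_25_1 lc_j_rc_49_3 lc_j_rc_32_1 lc_j_rc_53_2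 lc_j_rc_25_1 lc_j_rc_38_1 lc_j_rc_53_2 lc_j_rc_25_1 lc_j_rc_53_2 lc_j_rc_38_1 lc_j_rc_25_1 lc_j_rc_51_2 lc_j_rc_8_1 lc_j_rc_17_1 lc_j_rc_25_1 lc_j_Cert_tree lc_j_rc_17_1 lc_j_Cert_tree lc_j_rc_52_0) (@D3.rec (fun _ => (Cert rels S Gen.j)) lc_j_rc_52_1 lc_j_rc_17_1 lc_j_rc_17_1 lc_j_rc_51_2 lc_j_rc_53_2 lc_j_Cert_tree lc_j_rc_52_0 lc_j_rc_52_1 lc_j_rc_8_1 lc_j_rc_8_1 lc_j_rc_52_0 lc_j_rc_52_1 lc_j_rc_51_2 lc_j_rc_32_1 lc_j_rc_53_2 lc_j_rc_25_1 lc_j_rc_8_1 lc_j_rc_8_1 lc_j_rc_32_1 lc_j_rc_53_2 lc_j_rc_38_1 lc_j_rc_53_2 lc_j_rc_8_1 lc_j_rc_8_1 lc_j_rc_8_1 lc_j_rc_51_2 lc_j_rc_32_1 lc_j_rc_53_2 lc_j_rc_32_1 lc_j_rc_53_2 lc_j_rc_25_1 lc_j_rc_53_2 lc_j_rc_17_1 lc_j_rc_25_1 lc_j_Cert_tree lc_j_rc_52_0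 lc_j_rc_52_1 lc_j_rc_51_2 lc_j_rc_32_1 lc_j_rc_53_2 lc_j_rc_25_1 lc_j_rc_51_2 lc_j_rc_53_2 lc_j_rc_25_1 lc_j_rc_51_2 lc_j_rc_32_1 lc_j_rc_53_2 lc_j_rc_32_1 lc_j_rc_53_2 lc_j_rc_25_1 lc_j_rc_38_1) (@D3.rec (fun _ => (Cert rels S Gen.j)) lc_j_rc_53_2 lc_j_rc_17_1 lc_j_rc_25_1 lc_j_rc_25_1 lc_j_rc_45_1 lc_j_rc_38_1 lc_j_rc_51_2 lc_j_rc_38_1 lc_j_rc_53_2 lc_j_rc_45_1 lc_j_rc_53_2 lc_j_rc_51_2 lc_j_Cert_tree lc_j_rc_45_1 lc_j_rc_51_2 lc_j_rc_52_0 lc_j_rc_53_2 lc_j_rc_51_2 lc_j_rc_17_1 lc_j_rc_32_1 lc_j_rc_53_2 lc_j_rc_25_1 lc_j_rc_38_1 lc_j_rc_53_2 lc_j_rc_25_1 lc_j_rc_53_2 lc_j_rc_17_1 lc_j_rc_25_1 lc_j_rc_51_2 lc_j_rc_32_3 lc_j_rc_17_1 lc_j_rc_25_1 lc_j_rc_32_1 lc_j_rc_53_2 lc_j_rc_25_1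 lc_j_rc_38_1 lc_j_rc_53_2 lc_j_rc_17_1 lc_j_rc_25_1 lc_j_rc_25_1 lc_j_rc_53_2 lc_j_rc_51_2 lc_j_rc_17_1 lc_j_rc_25_1 lc_j_rc_51_2 lc_j_rc_8_1 lc_j_rc_17_1 lc_j_rc_51_2 lc_j_rc_8_1 lc_j_rc_17_1 lc_j_rc_32_1) (@D3.rec (fun _ => (Cert rels S Gen.j)) lc_j_rc_25_1 lc_j_rc_8_1 lc_j_Cert_tree lc_j_rc_52_0 lc_j_rc_52_1 lc_j_rc_51_2 lc_j_rc_53_2 lc_j_rc_25_1 lc_j_rc_17_1 lc_j_rc_32_1 lc_j_rc_25_1 lc_j_rc_38_1 lc_j_rc_25_1 lc_j_rc_32_3 lc_j_rc_32_1 lc_j_rc_53_2 lc_j_rc_25_1 lc_j_rc_38_1 lc_j_rc_53_2 lc_j_rc_38_1 lc_j_rc_25_1 lc_j_rc_51_2 lc_j_rc_25_3 lc_j_rc_25_1 lc_j_rc_8_1 lc_j_rc_17_1 lc_j_rc_32_1 lc_j_Cert_tree lc_j_rc_52_0 lc_j_rc_52_1 lc_j_rc_51_2 lc_j_rc_53_2 lc_j_rc_8_1 lc_j_rc_8_1 lc_j_rc_32_1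 lc_j_rc_25_1 lc_j_rc_38_1 lc_j_rc_25_1 lc_j_rc_17_1 lc_j_rc_51_0 lc_j_rc_52_0 lc_j_rc_52_1 lc_j_rc_32_1 lc_j_rc_51_2 lc_j_rc_32_1 lc_j_rc_53_2 lc_j_rc_32_1 lc_j_rc_53_2 lc_j_rc_25_1 lc_j_rc_53_2 lc_j_rc_17_1) (@D3.rec (fun _ => (Cert rels S Gen.j)) lc_j_rc_25_1 lc_j_rc_25_1 lc_j_rc_32_1 lc_j_rc_25_1 lc_j_rc_25_3 lc_j_rc_25_1 lc_j_rc_17_1 lc_j_rc_51_0 lc_j_rc_32_1 lc_j_rc_17_1 lc_j_rc_25_1 lc_j_rc_38_1 lc_j_rc_53_2 lc_j_rc_17_1 lc_j_rc_25_1 lc_j_rc_25_1 lc_j_rc_53_2 lc_j_rc_51_2 lc_j_rc_17_1 lc_j_rc_25_1 lc_j_rc_51_2 lc_j_rc_8_1 lc_j_rc_17_1 lc_j_rc_51_2 lc_j_rc_53_2 lc_j_rc_17_1 lc_j_rc_32_1 lc_j_rc_51_0 lc_j_rc_38_1 lc_j_rc_49_3 lc_j_rc_17_1 lc_j_rc_51_2 lc_j_rc_8_1 lc_j_rc_25_3 lc_j_rc_25_3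 lc_j_rc_49_3 lc_j_rc_38_1 lc_j_rc_8_1 lc_j_rc_17_1 lc_j_rc_51_2 lc_j_rc_8_1 lc_j_rc_17_1 lc_j_rc_32_1 lc_j_rc_8_1 lc_j_rc_17_1 lc_j_rc_38_1 lc_j_rc_25_1 lc_j_rc_25_1 lc_j_rc_25_1 lc_j_rc_32_1 lc_j_rc_32_1) (@D3.rec (fun _ => (Cert rels S Gen.j)) lc_j_rc_38_1 lc_j_rc_38_1 lc_j_rc_32_3 lc_j_rc_38_1 lc_j_rc_45_1 lc_j_rc_45_1 lc_j_rc_52_0 lc_j_rc_52_1 lc_j_rc_51_2 lc_j_rc_32_1 lc_j_rc_38_1 lc_j_rc_32_1 lc_j_rc_49_3 lc_j_rc_51_2 lc_j_rc_38_1 lc_j_rc_32_1 lc_j_rc_17_3 lc_j_rc_53_2 lc_j_rc_45_1 lc_j_rc_53_0 lc_j_rc_32_1 lc_j_rc_38_1 lc_j_rc_25_1 lc_j_rc_17_3 lc_j_rc_25_1 lc_j_rc_17_1 lc_j_rc_49_3 lc_j_rc_17_1 lc_j_rc_17_1 lc_j_rc_17_1 lc_j_rc_8_1 lc_j_rc_32_1 lc_j_rc_8_1 lc_j_rc_8_1 lc_j_rc_8_1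 lc_j_rc_32_1 lc_j_rc_51_2 lc_j_rc_8_1 lc_j_rc_8_1 lc_j_rc_51_2 lc_j_rc_53_2 lc_j_rc_51_2 lc_j_rc_53_0 lc_j_rc_8_3 lc_j_rc_32_1 lc_j_rc_25_1 lc_j_rc_8_3 lc_j_rc_38_1 lc_j_rc_32_1 lc_j_rc_45_1 lc_j_rc_38_1) (@D3.rec (fun _ => (Cert rels S Gen.j)) lc_j_rc_51_2 lc_j_rc_51_2 lc_j_rc_32_1 lc_j_rc_49_3 lc_j_rc_25_1 lc_j_rc_32_1 lc_j_rc_53_2 lc_j_rc_51_2 lc_j_rc_32_1 lc_j_rc_53_2 lc_j_rc_17_1 lc_j_rc_25_1 lc_j_rc_49_1 lc_j_rc_51_2 lc_j_Cert_tree lc_j_rc_52_0 lc_j_rc_38_3 lc_j_rc_32_1 lc_j_rc_25_1 lc_j_rc_51_2 lc_j_rc_53_2 lc_j_rc_52_0 lc_j_rc_38_3 lc_j_rc_49_1 lc_j_rc_17_1 lc_j_rc_53_2 lc_j_rc_53_2 lc_j_rc_51_2 lc_j_rc_53_2 lc_j_rc_38_1 lc_j_rc_49_1 lc_j_rc_17_1 lc_j_rc_32_3 lc_j_rc_17_1 lc_j_rc_49_5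 lc_j_rc_49_3 lc_j_rc_8_1 lc_j_rc_8_1 lc_j_rc_51_2 lc_j_rc_17_3 lc_j_rc_53_2 lc_j_rc_8_1 lc_j_rc_8_1 lc_j_rc_52_0 lc_j_rc_52_1 lc_j_rc_51_2 lc_j_rc_32_1 lc_j_rc_53_2 lc_j_rc_8_1 lc_j_rc_53_2 lc_j_rc_49_5) (@D3.rec (fun _ => (Cert rels S Gen.j)) lc_j_rc_8_1 lc_j_rc_51_2 lc_j_rc_53_2 lc_j_rc_52_0 lc_j_rc_52_1 lc_j_rc_51_2 lc_j_rc_32_1 lc_j_rc_53_2 lc_j_rc_25_1 lc_j_rc_38_1 lc_j_rc_32_1 lc_j_rc_53_2 lc_j_rc_49_1 lc_j_rc_8_3 lc_j_rc_45_1 lc_j_rc_38_1 lc_j_Cert_tree lc_j_rc_45_1 lc_j_rc_17_1 lc_j_rc_51_2 lc_j_rc_32_1 lc_j_rc_53_2 lc_j_rc_32_1 lc_j_rc_53_2 lc_j_rc_25_1 lc_j_rc_53_2 lc_j_rc_17_1 lc_j_rc_25_1 lc_j_rc_51_2 lc_j_rc_49_3 lc_j_rc_32_1 lc_j_rc_53_2 lc_j_rc_17_3 lc_j_rc_49_3 lc_j_rc_53_2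 lc_j_rc_25_1 lc_j_rc_53_2 lc_j_rc_17_1 lc_j_rc_25_1 lc_j_rc_25_3 lc_j_rc_8_1 lc_j_rc_17_1 lc_j_rc_17_3 lc_j_rc_25_1 lc_j_rc_38_3 lc_j_rc_17_1 lc_j_rc_25_1 lc_j_rc_51_2 lc_j_Cert_tree lc_j_rc_52_0 lc_j_rc_52_1) (@D3.rec (fun _ => (Cert rels S Gen.j)) lc_j_rc_17_1 lc_j_rc_17_1 lc_j_rc_52_0 lc_j_rc_52_1 lc_j_rc_51_2 lc_j_rc_32_1 lc_j_rc_53_2 lc_j_rc_25_1 lc_j_rc_17_1 lc_j_rc_53_2 lc_j_rc_17_1 lc_j_rc_51_2 lc_j_rc_25_3 lc_j_rc_53_2 lc_j_rc_32_1 lc_j_rc_53_2 lc_j_rc_25_1 lc_j_rc_53_2 lc_j_rc_17_1 lc_j_rc_25_1 lc_j_rc_17_1 lc_j_rc_53_2 lc_j_rc_32_3 lc_j_rc_32_1 lc_j_rc_25_1 lc_j_rc_53_2 lc_j_rc_17_1 lc_j_rc_25_1 lc_j_rc_51_2 lc_j_rc_8_1 lc_j_rc_17_1 lc_j_rc_25_1 lc_j_rc_38_1 lc_j_rc_8_1 lc_j_Cert_tree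 lc_j_rc_52_0 lc_j_rc_52_1 lc_j_rc_17_1 lc_j_rc_17_1 lc_j_rc_51_2 lc_j_rc_53_2 lc_j_rc_38_1 lc_j_rc_52_0 lc_j_rc_52_1 lc_j_rc_8_1 lc_j_rc_8_1 lc_j_rc_52_0 lc_j_rc_52_1 lc_j_rc_51_2 lc_j_rc_32_1 lc_j_rc_53_2) (@D3.rec (fun _ => (Cert rels S Gen.j)) lc_j_rc_8_1 lc_j_rc_8_1 lc_j_rc_8_1 lc_j_rc_32_1 lc_j_rc_53_2 lc_j_rc_38_1 lc_j_rc_53_2 lc_j_rc_8_1 lc_j_rc_8_1 lc_j_rc_51_2 lc_j_rc_32_1 lc_j_rc_53_2 lc_j_rc_32_1 lc_j_rc_53_2 lc_j_rc_25_1 lc_j_rc_53_2 lc_j_rc_17_1 lc_j_rc_8_1 lc_j_rc_8_1 lc_j_rc_32_1 lc_j_rc_52_0 lc_j_rc_52_1 lc_j_rc_51_2 lc_j_rc_32_1 lc_j_rc_53_2 lc_j_rc_25_1 lc_j_rc_17_1 lc_j_rc_17_1 lc_j_rc_25_1 lc_j_rc_51_2 lc_j_rc_32_1 lc_j_rc_53_2 lc_j_rc_32_1 lc_j_rc_53_2 lc_j_rc_25_1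 lc_j_rc_38_1 lc_j_rc_53_2 lc_j_rc_17_1 lc_j_rc_25_1 lc_j_rc_25_1 lc_j_rc_17_1 lc_j_rc_17_1 lc_j_rc_17_1 lc_j_rc_38_1 lc_j_rc_53_2 lc_j_rc_45_1 lc_j_rc_53_2 lc_j_Cert_tree lc_j_rc_17_1 lc_j_rc_52_0 lc_j_rc_53_2) (@D3.rec (fun _ => (Cert rels S Gen.j)) lc_j_rc_17_1 lc_j_rc_32_1 lc_j_rc_53_2 lc_j_rc_25_1 lc_j_rc_38_1 lc_j_rc_53_2 lc_j_rc_25_1 lc_j_rc_53_2 lc_j_rc_17_1 lc_j_rc_25_1 lc_j_rc_51_2 lc_j_rc_32_3 lc_j_rc_17_1 lc_j_rc_25_1 lc_j_rc_49_3 lc_j_rc_53_2 lc_j_rc_25_1 lc_j_rc_38_1 lc_j_rc_53_2 lc_j_rc_17_1 lc_j_rc_25_1 lc_j_rc_25_1 lc_j_rc_53_2 lc_j_rc_51_2 lc_j_rc_17_1 lc_j_rc_25_1 lc_j_rc_51_2 lc_j_rc_8_1 lc_j_rc_17_1 lc_j_rc_51_2 lc_j_rc_8_1 lc_j_rc_17_1 lc_j_rc_32_1 lc_j_rc_17_1 lc_j_rc_8_1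 lc_j_rc_17_1 lc_j_rc_8_1 lc_j_rc_8_3 lc_j_rc_8_1 lc_j_rc_25_1 lc_j_rc_52_0 lc_j_rc_25_3 lc_j_rc_8_1 lc_j_rc_8_1 lc_j_rc_51_2 lc_j_rc_53_2 lc_j_rc_51_2 lc_j_rc_38_3 lc_j_rc_38_3 lc_j_rc_32_1 lc_j_rc_25_1) (@D3.rec (fun _ => (Cert rels S Gen.j)) lc_j_rc_51_2 lc_j_rc_32_1 lc_j_rc_53_2 lc_j_rc_38_1 lc_j_rc_32_1 lc_j_rc_49_3 lc_j_rc_25_1 lc_j_rc_32_1 lc_j_rc_53_2 lc_j_rc_51_2 lc_j_rc_8_1 lc_j_rc_53_2 lc_j_rc_52_0 lc_j_rc_52_1 lc_j_rc_8_1 lc_j_rc_8_1 lc_j_rc_51_2 lc_j_rc_53_2 lc_j_rc_52_0 lc_j_rc_52_1 lc_j_rc_51_2 lc_j_rc_25_1 lc_j_rc_53_2 lc_j_rc_25_1 lc_j_rc_8_1 lc_j_rc_53_2 lc_j_rc_52_0 lc_j_rc_51_2 lc_j_rc_53_2 lc_j_rc_52_0 lc_j_rc_52_1 lc_j_rc_51_2 lc_j_rc_8_3 lc_j_rc_53_2 lc_j_rc_25_1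 lc_j_rc_38_1 lc_j_rc_32_1 lc_j_rc_53_2 lc_j_rc_53_2 lc_j_rc_45_1 lc_j_rc_38_1 lc_j_Cert_tree lc_j_rc_45_1 lc_j_rc_17_1 lc_j_rc_51_2 lc_j_rc_32_1 lc_j_rc_45_3 lc_j_rc_32_1 lc_j_rc_53_2 lc_j_rc_8_1 lc_j_rc_53_2) (@D3.rec (fun _ => (Cert rels S Gen.j)) lc_j_rc_17_1 lc_j_rc_25_1 lc_j_rc_51_2 lc_j_rc_45_1 lc_j_rc_32_1 lc_j_rc_38_1 lc_j_rc_17_3 lc_j_rc_25_1 lc_j_rc_53_2 lc_j_rc_17_1 lc_j_rc_25_1 lc_j_rc_32_1 lc_j_rc_8_1 lc_j_rc_17_1 lc_j_rc_25_1 lc_j_rc_38_1 lc_j_rc_32_3 lc_j_rc_8_1 lc_j_Cert_tree lc_j_rc_52_0 lc_j_rc_52_1 lc_j_rc_8_1 lc_j_rc_8_1 lc_j_rc_51_2 lc_j_rc_53_2 lc_j_rc_52_0 lc_j_rc_52_1 lc_j_rc_51_2 lc_j_rc_49_1 lc_j_rc_53_2 lc_j_rc_25_1 lc_j_rc_8_1 lc_j_rc_53_2 lc_j_rc_51_0 lc_j_rc_38_1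 lc_j_rc_51_2 lc_j_rc_53_2 lc_j_rc_52_0 lc_j_rc_52_1 lc_j_rc_51_2 lc_j_rc_32_1 lc_j_rc_53_2 lc_j_rc_25_1 lc_j_rc_38_1 lc_j_rc_32_1 lc_j_rc_32_1 lc_j_rc_53_2 lc_j_rc_38_1 lc_j_rc_53_2 lc_j_rc_38_1 lc_j_rc_17_1)
def ce_j_8 : D2 → D3 → (Cert rels S Gen.j) := @D2.rec (fun _ => D3 → (Cert rels S Gen.j)) (@D3.rec (fun _ => (Cert rels S Gen.j)) lc_j_rc_51_2 lc_j_rc_25_3 lc_j_rc_53_2 lc_j_rc_53_2 lc_j_rc_17_1 lc_j_rc_8_3 lc_j_rc_8_3 lc_j_rc_25_1 lc_j_rc_51_2 lc_j_rc_53_2 lc_j_rc_25_1 lc_j_rc_25_1 lc_j_rc_25_1 lc_j_rc_32_1 lc_j_rc_53_2 lc_j_rc_25_1 lc_j_rc_17_1 lc_j_rc_45_1 lc_j_rc_45_1 lc_j_rc_38_1 lc_j_rc_8_1 lc_j_rc_8_1 lc_j_rc_52_0 lc_j_rc_52_1 lc_j_rc_51_2 lc_j_rc_32_1 lc_j_rc_53_2 lc_j_rc_25_1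 lc_j_rc_8_1 lc_j_rc_53_2 lc_j_rc_8_1 lc_j_rc_51_2 lc_j_rc_32_1 lc_j_rc_53_2 lc_j_rc_32_1 lc_j_rc_53_2 lc_j_rc_38_1 lc_j_rc_53_2 lc_j_rc_17_1 lc_j_rc_25_1 lc_j_rc_8_1 lc_j_rc_25_1 lc_j_rc_52_0 lc_j_rc_52_1 lc_j_rc_8_3 lc_j_rc_53_2 lc_j_rc_25_1 lc_j_rc_8_3 lc_j_rc_53_2 lc_j_rc_25_1 lc_j_rc_51_2) (@D3.rec (fun _ => (Cert rels S Gen.j)) lc_j_rc_32_1 lc_j_rc_53_2 lc_j_rc_32_1 lc_j_rc_53_2 lc_j_rc_25_1 lc_j_rc_8_3 lc_j_rc_53_2 lc_j_rc_17_1 lc_j_rc_25_1 lc_j_rc_25_1 lc_j_rc_45_1 lc_j_rc_38_1 lc_j_rc_51_2 lc_j_rc_53_2 lc_j_rc_49_5 lc_j_rc_8_3 lc_j_Cert_tree lc_j_rc_45_1 lc_j_rc_52_0 lc_j_rc_53_2 lc_j_rc_17_1 lc_j_rc_32_1 lc_j_rc_53_2 lc_j_rc_25_1 lc_j_rc_38_1 lc_j_rc_53_2 lc_j_rc_25_1 lc_j_rc_53_2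 lc_j_rc_17_1 lc_j_rc_25_1 lc_j_rc_51_2 lc_j_rc_8_1 lc_j_rc_17_1 lc_j_rc_25_1 lc_j_rc_49_3 lc_j_rc_53_2 lc_j_rc_25_1 lc_j_rc_38_1 lc_j_rc_53_2 lc_j_rc_17_1 lc_j_rc_25_1 lc_j_rc_25_1 lc_j_rc_53_2 lc_j_rc_51_2 lc_j_rc_17_1 lc_j_rc_25_1 lc_j_rc_51_2 lc_j_rc_8_1 lc_j_rc_17_1 lc_j_rc_51_2 lc_j_rc_8_1) (@D3.rec (fun _ => (Cert rels S Gen.j)) lc_j_rc_17_1 lc_j_rc_25_3 lc_j_rc_38_1 lc_j_rc_52_0 lc_j_rc_52_0 lc_j_rc_52_1 lc_j_rc_51_2 lc_j_rc_32_1 lc_j_rc_53_2 lc_j_rc_8_1 lc_j_rc_53_2 lc_j_rc_8_1 lc_j_rc_51_2 lc_j_rc_53_2 lc_j_rc_53_2 lc_j_rc_38_3 lc_j_rc_52_0 lc_j_rc_52_1 lc_j_rc_51_2 lc_j_rc_32_1 lc_j_rc_53_2 lc_j_rc_51_2 lc_j_rc_53_2 lc_j_rc_25_1 lc_j_rc_51_2 lc_j_rc_32_1 lc_j_rc_53_2 lc_j_rc_32_1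 lc_j_rc_53_2 lc_j_rc_25_1 lc_j_rc_38_1 lc_j_rc_53_2 lc_j_rc_17_1 lc_j_rc_25_1 lc_j_rc_25_1 lc_j_rc_38_1 lc_j_rc_51_2 lc_j_rc_38_1 lc_j_rc_53_2 lc_j_rc_45_1 lc_j_rc_53_2 lc_j_rc_17_1 lc_j_rc_32_1 lc_j_rc_53_2 lc_j_rc_25_1 lc_j_rc_38_1 lc_j_rc_53_2 lc_j_rc_25_1 lc_j_rc_53_2 lc_j_rc_17_1 lc_j_rc_25_1) (@D3.rec (fun _ => (Cert rels S Gen.j)) lc_j_rc_8_1 lc_j_rc_17_1 lc_j_rc_32_1 lc_j_rc_53_2 lc_j_rc_25_1 lc_j_rc_38_1 lc_j_rc_53_2 lc_j_rc_17_1 lc_j_rc_25_1 lc_j_rc_25_1 lc_j_rc_53_2 lc_j_rc_51_2 lc_j_rc_17_1 lc_j_rc_25_1 lc_j_rc_51_2 lc_j_rc_8_1 lc_j_rc_17_1 lc_j_rc_51_2 lc_j_rc_8_1 lc_j_rc_17_1 lc_j_rc_32_1 lc_j_rc_32_3 lc_j_rc_52_0 lc_j_rc_52_1 lc_j_rc_17_1 lc_j_rc_52_0 lc_j_rc_38_3 lc_j_rc_52_0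 lc_j_rc_52_1 lc_j_rc_51_2 lc_j_rc_32_1 lc_j_rc_53_2 lc_j_rc_8_1 lc_j_rc_8_1 lc_j_rc_51_2 lc_j_rc_32_1 lc_j_rc_53_2 lc_j_rc_32_1 lc_j_rc_53_2 lc_j_rc_25_1 lc_j_rc_53_2 lc_j_rc_17_1 lc_j_rc_25_1 lc_j_rc_8_1 lc_j_rc_8_1 lc_j_rc_32_1 lc_j_rc_53_2 lc_j_rc_25_1 lc_j_rc_38_1 lc_j_rc_53_2 lc_j_rc_25_1) (@D3.rec (fun _ => (Cert rels S Gen.j)) lc_j_rc_53_2 lc_j_rc_17_1 lc_j_rc_25_1 lc_j_rc_32_3 lc_j_rc_17_1 lc_j_rc_52_0 lc_j_rc_52_1 lc_j_rc_32_1 lc_j_rc_51_2 lc_j_rc_32_1 lc_j_rc_53_2 lc_j_rc_32_1 lc_j_rc_53_2 lc_j_rc_25_1 lc_j_rc_38_1 lc_j_rc_53_2 lc_j_rc_17_1 lc_j_rc_25_1 lc_j_rc_25_1 lc_j_rc_51_2 lc_j_rc_53_2 lc_j_rc_53_2 lc_j_rc_25_1 lc_j_rc_32_1 lc_j_rc_53_2 lc_j_rc_25_1 lc_j_rc_38_1 lc_j_rc_53_2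 lc_j_rc_25_1 lc_j_rc_38_1 lc_j_rc_53_2 lc_j_rc_17_1 lc_j_rc_25_1 lc_j_rc_25_1 lc_j_rc_45_1 lc_j_rc_53_2 lc_j_rc_51_2 lc_j_rc_25_3 lc_j_rc_17_1 lc_j_rc_17_1 lc_j_rc_25_1 lc_j_rc_25_1 lc_j_rc_25_1 lc_j_Cert_tree lc_j_rc_45_1 lc_j_rc_51_2 lc_j_rc_45_1 lc_j_rc_53_2 lc_j_Cert_tree lc_j_rc_53_2 lc_j_rc_52_0) (@D3.rec (fun _ => (Cert rels S Gen.j)) lc_j_rc_53_2 lc_j_rc_53_2 lc_j_rc_32_1 lc_j_rc_17_1 lc_j_rc_25_1 lc_j_rc_38_1 lc_j_rc_53_2 lc_j_rc_17_1 lc_j_rc_25_1 lc_j_rc_25_1 lc_j_rc_53_2 lc_j_rc_51_2 lc_j_rc_17_1 lc_j_rc_25_1 lc_j_rc_51_2 lc_j_rc_8_1 lc_j_rc_17_1 lc_j_rc_51_2 lc_j_rc_53_2 lc_j_rc_17_1 lc_j_rc_32_1 lc_j_rc_32_1 lc_j_rc_17_1 lc_j_rc_25_1 lc_j_rc_53_2 lc_j_rc_51_2 lc_j_rc_25_3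 lc_j_rc_25_3 lc_j_rc_25_3 lc_j_rc_45_1 lc_j_rc_8_1 lc_j_rc_17_1 lc_j_rc_8_1 lc_j_rc_25_3 lc_j_rc_38_1 lc_j_rc_8_1 lc_j_rc_17_1 lc_j_rc_38_1 lc_j_rc_52_0 lc_j_rc_52_1 lc_j_rc_32_1 lc_j_rc_51_2 lc_j_rc_53_2 lc_j_rc_53_2 lc_j_rc_32_1 lc_j_rc_25_1 lc_j_rc_38_1 lc_j_rc_17_1 lc_j_rc_25_1 lc_j_rc_17_1 lc_j_rc_8_1) (@D3.rec (fun _ => (Cert rels S Gen.j)) lc_j_rc_53_2 lc_j_rc_49_3 lc_j_rc_32_1 lc_j_rc_17_1 lc_j_rc_8_1 lc_j_rc_32_1 lc_j_rc_45_3 lc_j_rc_38_1 lc_j_rc_53_0 lc_j_rc_8_1 lc_j_rc_17_1 lc_j_rc_51_2 lc_j_rc_8_1 lc_j_rc_17_1 lc_j_rc_38_1 lc_j_rc_8_1 lc_j_rc_17_1 lc_j_rc_38_1 lc_j_rc_38_3 lc_j_rc_51_2 lc_j_rc_53_2 lc_j_rc_53_2 lc_j_rc_8_1 lc_j_rc_25_1 lc_j_rc_38_1 lc_j_rc_17_1 lc_j_rc_25_1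 lc_j_rc_17_1 lc_j_rc_8_1 lc_j_rc_51_2 lc_j_rc_32_1 lc_j_rc_53_2 lc_j_rc_49_3 lc_j_rc_32_1 lc_j_rc_53_2 lc_j_rc_25_1 lc_j_rc_38_1 lc_j_rc_53_2 lc_j_rc_25_1 lc_j_rc_53_2 lc_j_rc_17_1 lc_j_rc_25_1 lc_j_rc_32_3 lc_j_rc_17_1 lc_j_rc_32_1 lc_j_rc_25_1 lc_j_rc_38_1 lc_j_rc_17_1 lc_j_rc_25_1 lc_j_rc_17_1 lc_j_rc_8_1) (@D3.rec (fun _ => (Cert rels S Gen.j)) lc_j_rc_25_1 lc_j_rc_17_1 lc_j_rc_25_1 lc_j_rc_25_1 lc_j_rc_53_0 lc_j_rc_17_1 lc_j_rc_32_3 lc_j_rc_8_1 lc_j_rc_51_2 lc_j_rc_32_3 lc_j_rc_32_3 lc_j_rc_32_1 lc_j_rc_8_1 lc_j_rc_17_1 lc_j_rc_38_1 lc_j_rc_25_3 lc_j_rc_25_3 lc_j_rc_53_2 lc_j_rc_25_1 lc_j_rc_8_1 lc_j_rc_17_1 lc_j_rc_25_1 lc_j_rc_25_1 lc_j_rc_45_1 lc_j_rc_38_1 lc_j_rc_51_2 lc_j_rc_53_2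 lc_j_rc_53_2 lc_j_Cert_tree lc_j_rc_45_1 lc_j_rc_52_0 lc_j_rc_38_1 lc_j_rc_53_2 lc_j_rc_53_2 lc_j_rc_8_1 lc_j_rc_53_2 lc_j_rc_51_2 lc_j_rc_8_1 lc_j_rc_17_1 lc_j_rc_25_1 lc_j_rc_25_1 lc_j_rc_38_1 lc_j_rc_53_2 lc_j_rc_25_1 lc_j_rc_17_1 lc_j_rc_25_1 lc_j_rc_53_2 lc_j_rc_51_2 lc_j_rc_17_1 lc_j_rc_25_1 lc_j_rc_51_2) (@D3.rec (fun _ => (Cert rels S Gen.j)) lc_j_rc_25_1 lc_j_rc_17_1 lc_j_rc_51_2 lc_j_rc_8_1 lc_j_rc_17_1 lc_j_rc_32_1 lc_j_rc_53_2 lc_j_rc_53_2 lc_j_rc_25_1 lc_j_rc_8_3 lc_j_rc_53_2 lc_j_rc_53_2 lc_j_rc_51_2 lc_j_rc_17_1 lc_j_rc_53_2 lc_j_rc_25_1 lc_j_rc_8_1 lc_j_rc_8_1 lc_j_rc_49_1 lc_j_rc_45_1 lc_j_rc_53_2 lc_j_rc_49_1 lc_j_rc_49_1 lc_j_rc_49_1 lc_j_rc_45_1 lc_j_rc_53_2 lc_j_rc_8_1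 lc_j_rc_8_1 lc_j_rc_17_1 lc_j_rc_17_1 lc_j_rc_25_1 lc_j_rc_25_1 lc_j_rc_51_2 lc_j_Cert_tree lc_j_rc_45_1 lc_j_rc_51_2 lc_j_rc_45_1 lc_j_rc_53_2 lc_j_Cert_tree lc_j_rc_53_2 lc_j_rc_52_0 lc_j_rc_8_3 lc_j_rc_53_2 lc_j_rc_38_3 lc_j_rc_32_3 lc_j_rc_53_2 lc_j_rc_25_3 lc_j_rc_51_2 lc_j_rc_17_1 lc_j_rc_25_1 lc_j_rc_51_2) (@D3.rec (fun _ => (Cert rels S Gen.j)) lc_j_rc_32_1 lc_j_rc_17_1 lc_j_rc_51_2 lc_j_rc_8_1 lc_j_rc_17_1 lc_j_rc_32_1 lc_j_rc_17_1 lc_j_rc_25_1 lc_j_rc_51_2 lc_j_rc_25_1 lc_j_rc_25_3 lc_j_rc_17_1 lc_j_rc_38_1 lc_j_rc_51_2 lc_j_rc_32_1 lc_j_rc_8_1 lc_j_rc_17_1 lc_j_rc_51_2 lc_j_rc_8_1 lc_j_rc_17_1 lc_j_rc_32_1 lc_j_rc_8_1 lc_j_rc_17_1 lc_j_rc_38_1 lc_j_rc_8_3 lc_j_rc_25_3 lc_j_rc_25_1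 lc_j_rc_53_2 lc_j_rc_17_1 lc_j_rc_25_1 lc_j_rc_51_2 lc_j_rc_8_1 lc_j_rc_17_1 lc_j_rc_25_1 lc_j_rc_25_1 lc_j_rc_53_2 lc_j_rc_17_1 lc_j_rc_32_3 lc_j_rc_25_1 lc_j_rc_25_3 lc_j_rc_25_3 lc_j_rc_17_1 lc_j_rc_25_1 lc_j_rc_51_2 lc_j_rc_8_1 lc_j_rc_17_1 lc_j_rc_51_2 lc_j_rc_53_2 lc_j_rc_17_1 lc_j_rc_32_1 lc_j_rc_25_1) (@D3.rec (fun _ => (Cert rels S Gen.j)) lc_j_rc_53_2 lc_j_rc_17_1 lc_j_rc_32_3 lc_j_rc_25_1 lc_j_rc_25_3 lc_j_rc_25_3 lc_j_rc_51_2 lc_j_rc_17_1 lc_j_rc_25_1 lc_j_rc_25_1 lc_j_rc_45_1 lc_j_rc_53_2 lc_j_rc_51_2 lc_j_rc_8_1 lc_j_rc_17_1 lc_j_rc_17_1 lc_j_rc_25_1 lc_j_rc_25_1 lc_j_rc_51_2 lc_j_Cert_tree lc_j_rc_53_2 lc_j_rc_51_2 lc_j_rc_32_3 lc_j_rc_53_2 lc_j_rc_17_1 lc_j_rc_17_1 lc_j_rc_17_1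 lc_j_Cert_tree lc_j_rc_25_1 lc_j_rc_25_1 lc_j_rc_32_1 lc_j_rc_52_0 lc_j_rc_53_2 lc_j_rc_51_2 lc_j_Cert_tree lc_j_rc_53_2 lc_j_rc_52_0 lc_j_rc_53_2 lc_j_rc_53_2 lc_j_rc_25_1 lc_j_rc_53_0 lc_j_rc_51_2 lc_j_rc_17_1 lc_j_rc_45_3 lc_j_rc_51_2 lc_j_rc_8_1 lc_j_rc_45_1 lc_j_rc_17_1 lc_j_rc_8_1 lc_j_rc_17_1 lc_j_rc_38_1) (@D3.rec (fun _ => (Cert rels S Gen.j)) lc_j_rc_17_1 lc_j_rc_53_2 lc_j_rc_32_1 lc_j_rc_53_2 lc_j_rc_17_1 lc_j_rc_53_0 lc_j_rc_32_1 lc_j_rc_8_1 lc_j_rc_17_1 lc_j_rc_38_1 lc_j_rc_17_1 lc_j_rc_17_1 lc_j_rc_17_1 lc_j_rc_49_3 lc_j_rc_53_2 lc_j_rc_53_2 lc_j_Cert_tree lc_j_rc_52_0 lc_j_rc_45_3 lc_j_rc_51_2 lc_j_rc_53_2 lc_j_rc_45_1 lc_j_rc_17_1 lc_j_rc_45_1 lc_j_rc_53_2 lc_j_rc_8_1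 lc_j_rc_51_2 lc_j_rc_53_2 lc_j_rc_53_2 lc_j_rc_45_1 lc_j_rc_53_2 lc_j_rc_25_1 lc_j_rc_17_1 lc_j_Cert_tree lc_j_rc_52_0 lc_j_rc_53_2 lc_j_rc_8_1 lc_j_rc_49_3 lc_j_rc_49_1 lc_j_rc_53_2 lc_j_rc_49_1 lc_j_rc_45_1 lc_j_rc_8_3 lc_j_rc_8_3 lc_j_Cert_tree lc_j_Cert_tree lc_j_rc_52_0 lc_j_rc_32_1 lc_j_rc_51_2 lc_j_rc_53_2 lc_j_rc_45_3) (@D3.rec (fun _ => (Cert rels S Gen.j)) lc_j_rc_53_2 lc_j_rc_53_2 lc_j_rc_38_3 lc_j_rc_53_2 lc_j_rc_25_1 lc_j_rc_45_3 lc_j_rc_53_2 lc_j_rc_53_2 lc_j_rc_38_1 lc_j_rc_45_3 lc_j_rc_51_2 lc_j_rc_51_2 lc_j_Cert_tree lc_j_rc_53_2 lc_j_Cert_tree lc_j_rc_52_0 lc_j_Cert_tree lc_j_rc_52_0 lc_j_rc_25_1 lc_j_rc_45_3 lc_j_rc_53_2 lc_j_rc_51_2 lc_j_rc_38_1 lc_j_rc_53_2 lc_j_rc_53_2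 lc_j_rc_38_1 lc_j_rc_53_2 lc_j_rc_38_3 lc_j_rc_17_1 lc_j_rc_53_2 lc_j_rc_53_2 lc_j_rc_53_2 lc_j_rc_45_3 lc_j_rc_51_0 lc_j_rc_53_2 lc_j_rc_32_1 lc_j_rc_53_2 lc_j_rc_25_1 lc_j_rc_53_2 lc_j_rc_51_2 lc_j_rc_53_2 lc_j_rc_53_2 lc_j_rc_45_1 lc_j_rc_38_1 lc_j_rc_53_2 lc_j_rc_38_1 lc_j_rc_45_1 lc_j_Cert_tree lc_j_rc_52_0 lc_j_rc_52_0 lc_j_rc_38_1) (@D3.rec (fun _ => (Cert rels S Gen.j)) lc_j_rc_32_1 lc_j_rc_38_1 lc_j_rc_53_2 lc_j_rc_25_3 lc_j_rc_53_2 lc_j_rc_45_1 lc_j_rc_38_1 lc_j_rc_51_2 lc_j_rc_49_1 lc_j_rc_25_1 lc_j_rc_17_1 lc_j_rc_17_1 lc_j_rc_8_1 lc_j_rc_8_1 lc_j_rc_8_1 lc_j_rc_8_1 lc_j_rc_8_1 lc_j_rc_25_3 lc_j_rc_8_1 lc_j_rc_25_1 lc_j_rc_25_1 lc_j_rc_25_1 lc_j_Cert_tree lc_j_rc_25_1 lc_j_rc_25_1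 lc_j_rc_8_1 lc_j_rc_25_3 lc_j_rc_17_1 lc_j_rc_25_1 lc_j_rc_17_1 lc_j_rc_25_1 lc_j_rc_38_1 lc_j_rc_25_1 lc_j_rc_53_2 lc_j_rc_17_1 lc_j_rc_25_1 lc_j_rc_51_2 lc_j_rc_8_1 lc_j_rc_17_1 lc_j_rc_25_1 lc_j_rc_25_1 lc_j_rc_38_1 lc_j_rc_17_1 lc_j_rc_38_1 lc_j_rc_32_1 lc_j_rc_38_1 lc_j_Cert_tree lc_j_rc_52_0 lc_j_rc_38_1 lc_j_rc_25_3 lc_j_rc_52_0) (@D3.rec (fun _ => (Cert rels S Gen.j)) lc_j_rc_49_3 lc_j_rc_53_2 lc_j_rc_53_2 lc_j_rc_45_1 lc_j_Cert_tree lc_j_Cert_tree lc_j_rc_52_0 lc_j_rc_52_0 lc_j_rc_32_1 lc_j_rc_32_1 lc_j_Cert_tree lc_j_rc_25_1 lc_j_rc_52_0 lc_j_rc_52_1 lc_j_rc_32_1 lc_j_rc_25_1 lc_j_rc_32_1 lc_j_rc_53_2 lc_j_rc_52_0 lc_j_rc_52_1 lc_j_rc_32_1 lc_j_rc_17_1 lc_j_rc_51_2 lc_j_rc_53_2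 lc_j_rc_51_2 lc_j_rc_53_2 lc_j_rc_32_1 lc_j_rc_53_2 lc_j_rc_17_1 lc_j_rc_8_3 lc_j_rc_17_1 lc_j_rc_17_1 lc_j_rc_17_1 lc_j_rc_8_1 lc_j_rc_8_3 lc_j_rc_8_1 lc_j_rc_8_1 lc_j_rc_8_1 lc_j_rc_8_1 lc_j_rc_45_1 lc_j_rc_8_1 lc_j_Cert_tree lc_j_rc_49_5 lc_j_rc_17_3 lc_j_rc_52_0 lc_j_rc_17_3 lc_j_rc_32_1 lc_j_rc_25_1 lc_j_rc_53_2 lc_j_rc_38_1 lc_j_rc_32_1) (@D3.rec (fun _ => (Cert rels S Gen.j)) lc_j_rc_45_1 lc_j_rc_38_1 lc_j_rc_51_2 lc_j_rc_53_2 lc_j_rc_25_1 lc_j_rc_32_1 lc_j_Cert_tree lc_j_rc_51_2 lc_j_Cert_tree lc_j_rc_52_0 lc_j_rc_52_1 lc_j_rc_32_1 lc_j_rc_25_1 lc_j_rc_51_2 lc_j_rc_32_1 lc_j_rc_53_2 lc_j_rc_38_1 lc_j_rc_32_1 lc_j_rc_51_2 lc_j_rc_52_0 lc_j_rc_52_1 lc_j_rc_51_2 lc_j_rc_32_1 lc_j_rc_53_2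 lc_j_rc_25_1 lc_j_rc_32_1 lc_j_rc_53_2 lc_j_rc_38_1 lc_j_rc_51_2 lc_j_rc_49_3 lc_j_rc_53_2 lc_j_rc_32_1 lc_j_rc_53_2 lc_j_rc_45_1 lc_j_rc_25_3 lc_j_rc_45_1 lc_j_rc_53_2 lc_j_rc_53_2 lc_j_rc_32_1 lc_j_Cert_tree lc_j_rc_17_1 lc_j_rc_52_0 lc_j_rc_49_1 lc_j_rc_8_3 lc_j_rc_17_1 lc_j_rc_25_1 lc_j_rc_17_1 lc_j_Cert_tree lc_j_Cert_tree lc_j_rc_52_0 lc_j_rc_49_1) (@D3.rec (fun _ => (Cert rels S Gen.j)) lc_j_rc_8_1 lc_j_rc_8_1 lc_j_rc_49_1 lc_j_rc_8_1 lc_j_rc_53_2 lc_j_rc_8_1 lc_j_rc_8_1 lc_j_rc_8_1 lc_j_rc_52_0 lc_j_rc_45_1 lc_j_rc_53_2 lc_j_rc_53_2 lc_j_Cert_tree lc_j_rc_52_0 lc_j_rc_52_1 lc_j_rc_51_2 lc_j_rc_53_2 lc_j_rc_52_0 lc_j_rc_52_1 lc_j_rc_51_2 lc_j_rc_32_1 lc_j_rc_53_2 lc_j_rc_25_1 lc_j_rc_38_1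 lc_j_rc_32_1 lc_j_rc_53_2 lc_j_rc_38_1 lc_j_rc_53_2 lc_j_rc_45_1 lc_j_rc_38_1 lc_j_rc_51_2 lc_j_Cert_tree lc_j_rc_45_1 lc_j_rc_51_2 lc_j_rc_17_1 lc_j_rc_51_2 lc_j_rc_38_1 lc_j_rc_53_2 lc_j_rc_53_2 lc_j_rc_38_1 lc_j_rc_49_1 lc_j_rc_38_1 lc_j_rc_25_1 lc_j_rc_49_1 lc_j_rc_53_2 lc_j_rc_51_0 lc_j_rc_25_3 lc_j_rc_49_1 lc_j_Cert_tree lc_j_rc_52_0 lc_j_rc_52_1) (@D3.rec (fun _ => (Cert rels S Gen.j)) lc_j_rc_17_1 lc_j_rc_17_1 lc_j_rc_52_0 lc_j_rc_52_1 lc_j_rc_51_2 lc_j_rc_32_1 lc_j_rc_53_2 lc_j_rc_25_1 lc_j_rc_17_1 lc_j_rc_17_1 lc_j_rc_32_1 lc_j_rc_53_2 lc_j_rc_38_1 lc_j_rc_53_2 lc_j_rc_17_1 lc_j_rc_17_1 lc_j_rc_17_1 lc_j_rc_51_2 lc_j_rc_32_1 lc_j_rc_53_2 lc_j_rc_32_1 lc_j_rc_53_2 lc_j_rc_25_1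 lc_j_rc_53_2 lc_j_rc_17_1 lc_j_rc_25_1 lc_j_rc_17_1 lc_j_rc_49_3 lc_j_rc_32_1 lc_j_rc_53_2 lc_j_rc_25_1 lc_j_rc_49_3 lc_j_rc_53_2 lc_j_rc_25_1 lc_j_rc_53_2 lc_j_rc_45_3 lc_j_rc_25_1 lc_j_rc_51_2 lc_j_rc_8_1 lc_j_rc_17_1 lc_j_rc_25_1 lc_j_Cert_tree lc_j_rc_8_1 lc_j_Cert_tree lc_j_rc_52_0 lc_j_rc_52_1 lc_j_rc_8_1 lc_j_rc_8_1 lc_j_rc_51_2 lc_j_rc_38_3 lc_j_rc_53_2) (@D3.rec (fun _ => (Cert rels S Gen.j)) lc_j_rc_25_1 lc_j_rc_17_1 lc_j_rc_17_1 lc_j_rc_25_1 lc_j_rc_17_1 lc_j_Cert_tree lc_j_rc_52_0 lc_j_rc_52_1 lc_j_rc_8_1 lc_j_rc_8_1 lc_j_rc_52_0 lc_j_rc_52_1 lc_j_rc_51_2 lc_j_rc_32_1 lc_j_rc_53_2 lc_j_rc_8_1 lc_j_rc_8_1 lc_j_rc_8_1 lc_j_rc_53_2 lc_j_rc_32_3 lc_j_rc_53_2 lc_j_rc_8_1 lc_j_rc_8_1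 lc_j_rc_8_1 lc_j_Cert_tree lc_j_rc_8_1 lc_j_rc_8_1 lc_j_rc_8_1 lc_j_rc_51_2 lc_j_rc_25_3 lc_j_rc_53_2 lc_j_rc_53_2 lc_j_rc_32_3 lc_j_rc_25_3 lc_j_rc_8_1 lc_j_rc_8_1 lc_j_Cert_tree lc_j_rc_52_0 lc_j_rc_52_1 lc_j_rc_51_2 lc_j_rc_32_1 lc_j_rc_53_2 lc_j_rc_25_1 lc_j_rc_17_1 lc_j_rc_17_1 lc_j_rc_25_1 lc_j_rc_51_2 lc_j_rc_32_1 lc_j_rc_53_2 lc_j_rc_32_1 lc_j_rc_53_2) (@D3.rec (fun _ => (Cert rels S Gen.j)) lc_j_rc_25_1 lc_j_rc_38_1 lc_j_rc_53_2 lc_j_rc_17_1 lc_j_rc_25_1 lc_j_rc_25_1 lc_j_rc_17_1 lc_j_rc_17_1 lc_j_rc_17_1 lc_j_rc_38_1 lc_j_rc_53_2 lc_j_rc_45_1 lc_j_rc_53_2 lc_j_rc_51_2 lc_j_Cert_tree lc_j_rc_17_1 lc_j_rc_17_1 lc_j_rc_52_0 lc_j_rc_53_2 lc_j_rc_17_1 lc_j_rc_17_1 lc_j_rc_32_1 lc_j_rc_53_2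 lc_j_rc_25_1 lc_j_rc_25_3 lc_j_rc_53_2 lc_j_rc_25_1 lc_j_rc_53_2 lc_j_rc_17_1 lc_j_rc_25_1 lc_j_rc_51_2 lc_j_rc_32_3 lc_j_rc_17_1 lc_j_rc_25_1 lc_j_rc_53_2 lc_j_rc_25_1 lc_j_rc_53_2 lc_j_rc_17_1 lc_j_rc_32_1 lc_j_rc_25_1 lc_j_rc_32_1 lc_j_rc_51_2 lc_j_rc_17_1 lc_j_rc_25_1 lc_j_rc_51_2 lc_j_rc_8_1 lc_j_rc_17_1 lc_j_rc_51_2 lc_j_rc_8_1 lc_j_rc_17_1 lc_j_rc_32_1) (@D3.rec (fun _ => (Cert rels S Gen.j)) lc_j_rc_17_1 lc_j_rc_8_1 lc_j_rc_8_1 lc_j_rc_8_1 lc_j_rc_8_1 lc_j_rc_8_3 lc_j_rc_8_1 lc_j_rc_32_1 lc_j_rc_25_1 lc_j_rc_38_1 lc_j_rc_32_1 lc_j_rc_32_1 lc_j_rc_17_1 lc_j_rc_51_2 lc_j_rc_53_2 lc_j_rc_51_2 lc_j_rc_32_1 lc_j_rc_53_2 lc_j_rc_25_1 lc_j_rc_32_1 lc_j_rc_53_2 lc_j_rc_17_1 lc_j_Cert_tree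 lc_j_rc_17_1 lc_j_rc_17_1 lc_j_rc_8_1 lc_j_Cert_tree lc_j_rc_8_1 lc_j_rc_52_0 lc_j_rc_52_1 lc_j_rc_8_1 lc_j_rc_8_1 lc_j_rc_8_1 lc_j_Cert_tree lc_j_rc_52_0 lc_j_rc_52_1 lc_j_rc_8_1 lc_j_rc_8_1 lc_j_rc_51_2 lc_j_rc_53_2 lc_j_Cert_tree lc_j_rc_51_2 lc_j_Cert_tree lc_j_rc_52_0 lc_j_rc_52_1 lc_j_rc_32_1 lc_j_rc_25_1 lc_j_rc_51_2 lc_j_rc_32_1 lc_j_rc_53_2 lc_j_rc_38_1) (@D3.rec (fun _ => (Cert rels S Gen.j)) lc_j_rc_32_1 lc_j_rc_45_1 lc_j_rc_38_1 lc_j_rc_51_2 lc_j_rc_52_0 lc_j_rc_52_1 lc_j_rc_51_2 lc_j_rc_32_1 lc_j_rc_53_2 lc_j_rc_25_1 lc_j_rc_32_1 lc_j_rc_53_2 lc_j_rc_17_3 lc_j_rc_51_2 lc_j_rc_17_3 lc_j_rc_32_1 lc_j_rc_53_2 lc_j_rc_53_2 lc_j_rc_17_1 lc_j_rc_25_1 lc_j_rc_51_2 lc_j_rc_17_1 lc_j_Cert_tree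 lc_j_rc_17_1 lc_j_rc_52_0 lc_j_rc_8_1 lc_j_rc_17_1 lc_j_Cert_tree lc_j_rc_8_1 lc_j_Cert_tree lc_j_rc_52_0 lc_j_rc_52_1 lc_j_rc_8_1 lc_j_rc_8_1 lc_j_rc_51_2 lc_j_rc_17_1 lc_j_rc_53_2 lc_j_rc_8_1 lc_j_rc_8_1 lc_j_rc_8_1 lc_j_rc_52_0 lc_j_rc_45_3 lc_j_rc_51_2 lc_j_rc_32_1 lc_j_rc_53_2 lc_j_rc_25_1 lc_j_rc_8_1 lc_j_rc_53_2 lc_j_Cert_tree lc_j_rc_52_0 lc_j_rc_52_1) (@D3.rec (fun _ => (Cert rels S Gen.j)) lc_j_rc_49_5 lc_j_rc_53_2 lc_j_rc_52_0 lc_j_rc_45_3 lc_j_rc_51_2 lc_j_rc_32_1 lc_j_rc_53_2 lc_j_rc_25_1 lc_j_rc_38_1 lc_j_rc_32_1 lc_j_rc_53_2 lc_j_rc_17_1 lc_j_rc_53_2 lc_j_rc_45_1 lc_j_rc_38_1 lc_j_rc_51_2 lc_j_Cert_tree lc_j_rc_45_1 lc_j_rc_51_2 lc_j_rc_17_1 lc_j_rc_53_2 lc_j_rc_53_2 lc_j_rc_8_3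 lc_j_rc_53_2 lc_j_rc_17_1 lc_j_rc_25_1 lc_j_rc_51_2 lc_j_rc_25_1 lc_j_rc_8_1 lc_j_rc_17_1 lc_j_rc_25_1 lc_j_rc_17_1 lc_j_rc_17_1 lc_j_rc_25_3 lc_j_rc_8_1 lc_j_rc_8_1 lc_j_rc_8_1 lc_j_rc_25_1 lc_j_rc_8_1 lc_j_rc_8_1 lc_j_rc_51_2 lc_j_rc_53_2 lc_j_rc_53_2 lc_j_rc_25_3 lc_j_rc_53_2 lc_j_rc_38_1 lc_j_rc_32_1 lc_j_rc_25_1 lc_j_rc_38_1 lc_j_rc_51_2 lc_j_rc_45_1) (@D3.rec (fun _ => (Cert rels S Gen.j)) lc_j_rc_17_3 lc_j_rc_53_2 lc_j_rc_25_1 lc_j_rc_32_1 lc_j_rc_53_2 lc_j_rc_51_2 lc_j_rc_32_1 lc_j_rc_53_2 lc_j_rc_32_1 lc_j_rc_53_2 lc_j_rc_25_1 lc_j_rc_53_2 lc_j_rc_17_1 lc_j_rc_25_1 lc_j_rc_51_2 lc_j_rc_53_2 lc_j_Cert_tree lc_j_rc_17_1 lc_j_rc_52_0 lc_j_rc_52_1 lc_j_rc_17_1 lc_j_Cert_tree lc_j_rc_8_1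 lc_j_Cert_tree lc_j_rc_52_0 lc_j_rc_52_1 lc_j_rc_8_1 lc_j_rc_8_1 lc_j_rc_51_2 lc_j_rc_17_3 lc_j_rc_53_2 lc_j_rc_8_1 lc_j_rc_8_1 lc_j_rc_8_1 lc_j_rc_52_0 lc_j_rc_52_1 lc_j_rc_51_2 lc_j_rc_8_3 lc_j_rc_53_2 lc_j_rc_25_1 lc_j_rc_8_1 lc_j_rc_53_2 lc_j_Cert_tree lc_j_rc_52_0 lc_j_rc_52_1 lc_j_rc_51_2 lc_j_rc_53_2 lc_j_rc_52_0 lc_j_rc_52_1 lc_j_rc_51_2 lc_j_rc_32_1) (@D3.rec (fun _ => (Cert rels S Gen.j)) lc_j_rc_53_2 lc_j_rc_25_1 lc_j_rc_38_1 lc_j_rc_32_1 lc_j_rc_32_1 lc_j_rc_53_2 lc_j_rc_17_3 lc_j_rc_53_2 lc_j_rc_45_1 lc_j_rc_38_1 lc_j_rc_51_2 lc_j_rc_32_3 lc_j_rc_45_1 lc_j_rc_51_2 lc_j_rc_17_1 lc_j_rc_51_2 lc_j_rc_32_1 lc_j_rc_53_2 lc_j_rc_32_1 lc_j_rc_53_2 lc_j_rc_25_1 lc_j_rc_53_2 lc_j_rc_17_1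 lc_j_rc_25_1 lc_j_rc_51_2 lc_j_rc_17_3 lc_j_rc_32_1 lc_j_rc_53_2 lc_j_rc_49_3 lc_j_rc_38_1 lc_j_rc_53_2 lc_j_rc_25_1 lc_j_rc_53_2 lc_j_rc_17_1 lc_j_rc_25_1 lc_j_rc_51_2 lc_j_rc_8_1 lc_j_rc_17_1 lc_j_rc_25_1 lc_j_rc_25_1 lc_j_Cert_tree lc_j_rc_17_1 lc_j_Cert_tree lc_j_rc_52_0 lc_j_rc_52_1 lc_j_rc_17_1 lc_j_rc_17_1 lc_j_rc_51_2 lc_j_rc_53_2 lc_j_Cert_tree lc_j_rc_52_0) (@D3.rec (fun _ => (Cert rels S Gen.j)) lc_j_rc_52_1 lc_j_rc_8_1 lc_j_rc_8_1 lc_j_rc_52_0 lc_j_rc_52_1 lc_j_rc_51_2 lc_j_rc_32_1 lc_j_rc_53_2 lc_j_rc_25_1 lc_j_rc_8_1 lc_j_rc_8_1 lc_j_rc_32_1 lc_j_rc_53_2 lc_j_rc_38_1 lc_j_rc_53_2 lc_j_rc_8_1 lc_j_rc_8_1 lc_j_rc_8_1 lc_j_rc_51_2 lc_j_rc_32_1 lc_j_rc_53_2 lc_j_rc_32_1 lc_j_rc_53_2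 lc_j_rc_25_1 lc_j_rc_53_2 lc_j_rc_17_1 lc_j_rc_25_1 lc_j_rc_8_1 lc_j_Cert_tree lc_j_rc_52_0 lc_j_rc_52_1 lc_j_rc_51_2 lc_j_rc_32_1 lc_j_rc_53_2 lc_j_rc_25_1 lc_j_rc_51_2 lc_j_rc_53_2 lc_j_rc_25_1 lc_j_rc_51_2 lc_j_rc_32_1 lc_j_rc_53_2 lc_j_rc_32_1 lc_j_rc_53_2 lc_j_rc_25_1 lc_j_rc_38_1 lc_j_rc_53_2 lc_j_rc_17_1 lc_j_rc_25_1 lc_j_rc_25_1 lc_j_rc_45_1 lc_j_rc_38_1) (@D3.rec (fun _ => (Cert rels S Gen.j)) lc_j_rc_49_5 lc_j_rc_38_1 lc_j_rc_53_2 lc_j_rc_45_1 lc_j_rc_53_2 lc_j_rc_51_2 lc_j_Cert_tree lc_j_rc_45_1 lc_j_rc_51_2 lc_j_rc_52_0 lc_j_rc_53_2 lc_j_rc_51_2 lc_j_rc_17_1 lc_j_rc_32_1 lc_j_rc_53_2 lc_j_rc_25_1 lc_j_rc_38_1 lc_j_rc_53_2 lc_j_rc_25_1 lc_j_rc_53_2 lc_j_rc_17_1 lc_j_rc_25_1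 lc_j_rc_51_2 lc_j_rc_8_1 lc_j_rc_17_1 lc_j_rc_25_1 lc_j_rc_53_2 lc_j_rc_38_1 lc_j_rc_53_2 lc_j_rc_25_3 lc_j_rc_25_1 lc_j_rc_25_1 lc_j_rc_53_2 lc_j_rc_51_2 lc_j_rc_51_2 lc_j_rc_49_1 lc_j_rc_8_3 lc_j_rc_25_1 lc_j_rc_8_1 lc_j_rc_17_1 lc_j_rc_32_1 lc_j_rc_17_1 lc_j_rc_17_1 lc_j_rc_17_1 lc_j_rc_45_1 lc_j_rc_53_2 lc_j_rc_25_1 lc_j_rc_25_1 lc_j_rc_25_1 lc_j_rc_53_2 lc_j_rc_38_3)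
def ce_j_9 : D2 → D3 → (Cert rels S Gen.j) := @D2.rec (fun _ => D3 → (Cert rels S Gen.j)) (@D3.rec (fun _ => (Cert rels S Gen.j)) lc_j_rc_32_1 lc_j_rc_32_1 lc_j_rc_32_1 lc_j_rc_53_2 lc_j_rc_38_1 lc_j_rc_53_2 lc_j_rc_25_1 lc_j_rc_25_1 lc_j_rc_25_1 lc_j_rc_25_3 lc_j_rc_25_1 lc_j_rc_25_1 lc_j_rc_38_1 lc_j_rc_53_2 lc_j_rc_53_2 lc_j_rc_25_1 lc_j_rc_53_2 lc_j_rc_53_2 lc_j_rc_53_2 lc_j_rc_17_1 lc_j_Cert_tree lc_j_rc_52_0 lc_j_rc_52_1 lc_j_rc_17_1 lc_j_rc_17_1 lc_j_rc_51_2 lc_j_rc_53_2 lc_j_rc_52_0 lc_j_rc_52_1 lc_j_rc_51_2 lc_j_rc_32_1 lc_j_rc_53_2 lc_j_rc_8_1 lc_j_rc_8_1 lc_j_rc_32_1 lc_j_rc_53_2 lc_j_rc_38_1 lc_j_rc_53_2 lc_j_rc_8_1 lc_j_rc_8_1 lc_j_rc_8_1 lc_j_rc_51_2 lc_j_rc_53_2 lc_j_rc_53_2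 lc_j_Cert_tree lc_j_rc_52_0 lc_j_rc_52_1 lc_j_rc_51_2 lc_j_rc_32_1 lc_j_rc_53_2 lc_j_rc_51_2) (@D3.rec (fun _ => (Cert rels S Gen.j)) lc_j_rc_53_2 lc_j_rc_25_1 lc_j_rc_51_2 lc_j_rc_32_1 lc_j_rc_53_2 lc_j_rc_32_1 lc_j_rc_53_2 lc_j_rc_25_1 lc_j_rc_38_1 lc_j_rc_53_2 lc_j_rc_17_1 lc_j_rc_25_1 lc_j_rc_25_1 lc_j_rc_45_1 lc_j_rc_38_1 lc_j_rc_51_2 lc_j_rc_38_1 lc_j_rc_53_2 lc_j_rc_45_1 lc_j_rc_53_2 lc_j_rc_51_2 lc_j_Cert_tree lc_j_rc_45_1 lc_j_rc_51_2 lc_j_rc_52_0 lc_j_rc_53_2 lc_j_rc_51_2 lc_j_rc_17_1 lc_j_rc_32_1 lc_j_rc_53_2 lc_j_rc_25_1 lc_j_rc_38_1 lc_j_rc_53_2 lc_j_rc_25_1 lc_j_rc_53_2 lc_j_rc_45_3 lc_j_rc_25_1 lc_j_rc_17_1 lc_j_rc_32_1 lc_j_rc_53_2 lc_j_rc_25_1 lc_j_rc_38_1 lc_j_rc_53_2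 lc_j_rc_38_1 lc_j_rc_25_1 lc_j_rc_25_1 lc_j_rc_53_2 lc_j_rc_51_2 lc_j_rc_25_1 lc_j_rc_51_2 lc_j_rc_51_0) (@D3.rec (fun _ => (Cert rels S Gen.j)) lc_j_rc_45_1 lc_j_rc_8_1 lc_j_rc_17_1 lc_j_rc_32_1 lc_j_Cert_tree lc_j_rc_52_0 lc_j_rc_52_1 lc_j_rc_17_1 lc_j_rc_17_1 lc_j_rc_52_0 lc_j_rc_52_1 lc_j_rc_51_2 lc_j_rc_32_1 lc_j_rc_53_2 lc_j_rc_25_1 lc_j_rc_17_1 lc_j_rc_53_2 lc_j_Cert_tree lc_j_rc_52_0 lc_j_rc_52_1 lc_j_rc_51_2 lc_j_rc_32_1 lc_j_rc_53_2 lc_j_rc_8_1 lc_j_rc_8_1 lc_j_rc_8_1 lc_j_rc_51_2 lc_j_rc_32_1 lc_j_rc_53_2 lc_j_rc_32_1 lc_j_rc_53_2 lc_j_rc_25_1 lc_j_rc_38_1 lc_j_rc_53_2 lc_j_rc_17_1 lc_j_rc_25_1 lc_j_rc_25_1 lc_j_rc_8_1 lc_j_rc_8_1 lc_j_rc_38_1 lc_j_rc_53_2 lc_j_rc_45_1 lc_j_rc_53_2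 lc_j_rc_51_2 lc_j_rc_8_1 lc_j_rc_8_1 lc_j_rc_32_1 lc_j_rc_53_2 lc_j_rc_25_1 lc_j_rc_38_1 lc_j_rc_53_2) (@D3.rec (fun _ => (Cert rels S Gen.j)) lc_j_rc_25_1 lc_j_rc_53_2 lc_j_rc_17_1 lc_j_rc_25_1 lc_j_rc_32_3 lc_j_rc_17_1 lc_j_rc_52_0 lc_j_rc_52_1 lc_j_rc_32_1 lc_j_rc_51_2 lc_j_rc_32_1 lc_j_rc_53_2 lc_j_rc_32_1 lc_j_rc_53_2 lc_j_rc_25_1 lc_j_rc_38_1 lc_j_rc_53_2 lc_j_rc_17_1 lc_j_rc_25_1 lc_j_rc_25_1 lc_j_rc_51_2 lc_j_rc_53_2 lc_j_rc_53_2 lc_j_rc_25_1 lc_j_rc_32_1 lc_j_rc_53_2 lc_j_rc_25_1 lc_j_rc_38_1 lc_j_rc_53_2 lc_j_rc_25_1 lc_j_rc_38_1 lc_j_rc_53_2 lc_j_rc_17_1 lc_j_rc_25_1 lc_j_rc_25_1 lc_j_rc_45_1 lc_j_rc_53_2 lc_j_rc_51_2 lc_j_rc_25_3 lc_j_rc_17_1 lc_j_rc_17_1 lc_j_rc_25_1 lc_j_rc_25_1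 lc_j_rc_25_1 lc_j_Cert_tree lc_j_rc_45_1 lc_j_rc_51_2 lc_j_rc_45_1 lc_j_rc_53_2 lc_j_rc_51_2 lc_j_Cert_tree) (@D3.rec (fun _ => (Cert rels S Gen.j)) lc_j_rc_53_2 lc_j_rc_51_2 lc_j_rc_52_0 lc_j_rc_53_2 lc_j_rc_51_2 lc_j_rc_32_1 lc_j_rc_53_2 lc_j_rc_51_2 lc_j_rc_32_1 lc_j_rc_17_1 lc_j_rc_25_1 lc_j_rc_38_1 lc_j_rc_53_2 lc_j_rc_17_1 lc_j_rc_25_1 lc_j_rc_25_1 lc_j_rc_53_2 lc_j_rc_51_2 lc_j_rc_17_1 lc_j_rc_25_1 lc_j_rc_51_2 lc_j_rc_8_1 lc_j_rc_17_1 lc_j_rc_51_2 lc_j_rc_53_2 lc_j_rc_17_1 lc_j_rc_32_1 lc_j_rc_38_1 lc_j_rc_49_3 lc_j_rc_32_1 lc_j_rc_17_1 lc_j_rc_25_1 lc_j_rc_25_1 lc_j_rc_53_2 lc_j_rc_51_2 lc_j_rc_8_1 lc_j_rc_17_1 lc_j_rc_17_1 lc_j_rc_25_1 lc_j_rc_49_3 lc_j_rc_49_3 lc_j_rc_49_3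 lc_j_rc_8_1 lc_j_rc_17_1 lc_j_rc_51_2 lc_j_rc_8_1 lc_j_rc_17_1 lc_j_rc_32_1 lc_j_rc_8_1 lc_j_rc_17_1 lc_j_rc_38_1) (@D3.rec (fun _ => (Cert rels S Gen.j)) lc_j_rc_52_0 lc_j_rc_52_1 lc_j_rc_32_1 lc_j_rc_51_2 lc_j_rc_53_2 lc_j_rc_53_2 lc_j_rc_32_1 lc_j_rc_25_1 lc_j_rc_38_1 lc_j_rc_38_1 lc_j_rc_32_1 lc_j_rc_25_3 lc_j_rc_25_3 lc_j_rc_52_0 lc_j_rc_52_1 lc_j_rc_32_1 lc_j_rc_51_2 lc_j_rc_53_2 lc_j_rc_53_2 lc_j_rc_8_1 lc_j_rc_25_1 lc_j_rc_38_1 lc_j_rc_17_1 lc_j_rc_25_1 lc_j_rc_17_3 lc_j_rc_8_1 lc_j_rc_51_2 lc_j_rc_32_1 lc_j_rc_53_2 lc_j_rc_49_3 lc_j_rc_32_1 lc_j_rc_53_2 lc_j_rc_25_1 lc_j_rc_25_3 lc_j_rc_53_2 lc_j_rc_25_1 lc_j_rc_53_2 lc_j_rc_17_1 lc_j_rc_25_1 lc_j_rc_32_3 lc_j_rc_17_1 lc_j_rc_32_1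 lc_j_rc_25_1 lc_j_rc_17_1 lc_j_rc_53_2 lc_j_rc_17_1 lc_j_rc_32_3 lc_j_rc_25_1 lc_j_rc_25_3 lc_j_rc_25_3 lc_j_rc_17_1) (@D3.rec (fun _ => (Cert rels S Gen.j)) lc_j_rc_25_1 lc_j_rc_25_1 lc_j_rc_53_2 lc_j_rc_51_2 lc_j_rc_8_1 lc_j_rc_49_3 lc_j_rc_17_1 lc_j_rc_32_1 lc_j_rc_17_1 lc_j_rc_51_2 lc_j_rc_25_3 lc_j_rc_8_1 lc_j_rc_17_1 lc_j_rc_51_2 lc_j_rc_8_1 lc_j_rc_17_1 lc_j_rc_32_1 lc_j_rc_8_1 lc_j_rc_17_1 lc_j_rc_38_1 lc_j_rc_8_1 lc_j_rc_25_3 lc_j_rc_25_3 lc_j_rc_45_3 lc_j_rc_17_3 lc_j_rc_8_1 lc_j_rc_17_1 lc_j_rc_32_1 lc_j_rc_8_1 lc_j_rc_32_1 lc_j_rc_17_3 lc_j_rc_51_2 lc_j_rc_45_1 lc_j_rc_53_2 lc_j_rc_45_1 lc_j_rc_51_2 lc_j_rc_38_1 lc_j_rc_32_1 lc_j_rc_49_3 lc_j_rc_51_2 lc_j_rc_45_1 lc_j_rc_51_2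 lc_j_rc_32_1 lc_j_rc_25_1 lc_j_rc_53_2 lc_j_rc_17_1 lc_j_rc_17_1 lc_j_rc_8_1 lc_j_rc_8_1 lc_j_rc_53_2 lc_j_rc_8_1) (@D3.rec (fun _ => (Cert rels S Gen.j)) lc_j_rc_8_1 lc_j_rc_51_2 lc_j_rc_8_3 lc_j_rc_53_2 lc_j_rc_8_1 lc_j_rc_53_2 lc_j_rc_51_2 lc_j_rc_53_2 lc_j_rc_8_1 lc_j_rc_8_3 lc_j_rc_8_3 lc_j_rc_25_1 lc_j_rc_38_1 lc_j_rc_32_1 lc_j_rc_45_1 lc_j_rc_38_1 lc_j_Cert_tree lc_j_rc_45_1 lc_j_rc_51_2 lc_j_rc_32_1 lc_j_rc_25_1 lc_j_rc_53_2 lc_j_rc_17_1 lc_j_rc_25_1 lc_j_rc_8_1 lc_j_rc_17_1 lc_j_rc_49_1 lc_j_rc_49_1 lc_j_rc_51_2 lc_j_rc_53_2 lc_j_rc_52_0 lc_j_rc_45_1 lc_j_rc_49_1 lc_j_rc_53_2 lc_j_rc_32_1 lc_j_rc_32_1 lc_j_rc_53_2 lc_j_rc_51_2 lc_j_rc_53_2 lc_j_rc_53_2 lc_j_rc_45_1 lc_j_rc_38_1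 lc_j_rc_17_1 lc_j_rc_17_1 lc_j_rc_53_2 lc_j_rc_51_2 lc_j_rc_49_3 lc_j_rc_53_2 lc_j_rc_8_1 lc_j_rc_8_1 lc_j_rc_53_2) (@D3.rec (fun _ => (Cert rels S Gen.j)) lc_j_rc_38_1 lc_j_rc_45_3 lc_j_rc_8_1 lc_j_rc_8_1 lc_j_rc_51_2 lc_j_rc_32_1 lc_j_rc_53_2 lc_j_rc_32_1 lc_j_rc_53_2 lc_j_rc_53_2 lc_j_rc_53_2 lc_j_rc_49_5 lc_j_rc_8_1 lc_j_rc_8_1 lc_j_rc_8_3 lc_j_rc_53_2 lc_j_rc_25_1 lc_j_rc_51_2 lc_j_rc_32_1 lc_j_rc_53_2 lc_j_rc_32_1 lc_j_rc_53_2 lc_j_rc_25_1 lc_j_rc_8_3 lc_j_rc_53_2 lc_j_rc_17_1 lc_j_rc_25_1 lc_j_rc_25_1 lc_j_rc_45_1 lc_j_rc_38_1 lc_j_rc_51_2 lc_j_rc_51_2 lc_j_rc_53_2 lc_j_Cert_tree lc_j_rc_45_1 lc_j_rc_52_0 lc_j_rc_53_2 lc_j_rc_49_3 lc_j_rc_32_1 lc_j_rc_53_2 lc_j_rc_25_1 lc_j_rc_49_3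 lc_j_rc_53_2 lc_j_rc_25_1 lc_j_rc_53_2 lc_j_rc_17_1 lc_j_rc_25_1 lc_j_rc_25_3 lc_j_rc_17_1 lc_j_rc_8_3 lc_j_rc_53_2) (@D3.rec (fun _ => (Cert rels S Gen.j)) lc_j_rc_53_2 lc_j_rc_49_3 lc_j_rc_17_3 lc_j_rc_53_2 lc_j_rc_17_1 lc_j_rc_25_1 lc_j_rc_8_1 lc_j_rc_17_1 lc_j_rc_17_3 lc_j_rc_8_1 lc_j_rc_45_1 lc_j_rc_17_3 lc_j_rc_25_3 lc_j_rc_53_2 lc_j_rc_38_3 lc_j_rc_8_1 lc_j_rc_17_1 lc_j_rc_25_1 lc_j_rc_38_3 lc_j_rc_52_0 lc_j_rc_52_1 lc_j_rc_51_2 lc_j_rc_32_1 lc_j_rc_53_2 lc_j_rc_17_1 lc_j_rc_25_1 lc_j_rc_51_2 lc_j_rc_32_1 lc_j_rc_53_2 lc_j_rc_32_1 lc_j_rc_53_2 lc_j_rc_25_1 lc_j_rc_53_2 lc_j_rc_17_1 lc_j_rc_25_1 lc_j_rc_17_1 lc_j_rc_53_2 lc_j_rc_8_3 lc_j_rc_25_3 lc_j_rc_25_1 lc_j_rc_53_2 lc_j_rc_17_1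 lc_j_rc_25_1 lc_j_rc_51_2 lc_j_rc_8_1 lc_j_rc_17_1 lc_j_rc_25_1 lc_j_rc_25_3 lc_j_rc_53_2 lc_j_rc_32_3 lc_j_rc_17_1) (@D3.rec (fun _ => (Cert rels S Gen.j)) lc_j_rc_25_1 lc_j_rc_51_2 lc_j_rc_8_1 lc_j_rc_17_1 lc_j_rc_51_2 lc_j_rc_8_1 lc_j_rc_17_1 lc_j_rc_32_1 lc_j_rc_38_1 lc_j_rc_45_3 lc_j_rc_8_1 lc_j_rc_52_0 lc_j_rc_52_1 lc_j_rc_51_2 lc_j_rc_32_1 lc_j_rc_53_2 lc_j_rc_17_1 lc_j_rc_53_2 lc_j_rc_38_1 lc_j_rc_51_2 lc_j_rc_32_1 lc_j_rc_53_2 lc_j_rc_8_1 lc_j_rc_8_1 lc_j_rc_8_1 lc_j_rc_51_2 lc_j_rc_32_1 lc_j_rc_53_2 lc_j_rc_32_1 lc_j_rc_53_2 lc_j_rc_25_1 lc_j_rc_38_1 lc_j_rc_53_2 lc_j_rc_8_3 lc_j_rc_8_1 lc_j_rc_8_1 lc_j_rc_8_1 lc_j_rc_8_1 lc_j_rc_38_1 lc_j_rc_53_2 lc_j_rc_45_1 lc_j_rc_53_2 lc_j_rc_8_1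 lc_j_rc_32_1 lc_j_rc_53_2 lc_j_rc_25_1 lc_j_rc_38_1 lc_j_rc_53_2 lc_j_rc_25_1 lc_j_rc_53_2 lc_j_rc_17_1) (@D3.rec (fun _ => (Cert rels S Gen.j)) lc_j_rc_25_1 lc_j_rc_51_2 lc_j_rc_32_3 lc_j_rc_17_1 lc_j_rc_8_1 lc_j_rc_51_2 lc_j_rc_32_1 lc_j_rc_51_2 lc_j_rc_32_1 lc_j_rc_53_2 lc_j_rc_32_1 lc_j_rc_53_2 lc_j_rc_25_1 lc_j_rc_38_1 lc_j_rc_53_2 lc_j_rc_17_1 lc_j_rc_25_1 lc_j_rc_25_1 lc_j_rc_17_1 lc_j_rc_17_1 lc_j_rc_17_1 lc_j_rc_25_1 lc_j_rc_32_1 lc_j_rc_53_2 lc_j_rc_25_1 lc_j_rc_38_1 lc_j_rc_53_2 lc_j_rc_25_1 lc_j_rc_38_1 lc_j_rc_53_2 lc_j_rc_17_1 lc_j_rc_25_1 lc_j_rc_25_1 lc_j_rc_45_1 lc_j_rc_53_2 lc_j_rc_51_2 lc_j_rc_17_3 lc_j_rc_17_1 lc_j_rc_17_1 lc_j_rc_25_1 lc_j_rc_25_1 lc_j_rc_25_1 lc_j_Cert_tree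 lc_j_rc_17_1 lc_j_rc_17_1 lc_j_rc_45_1 lc_j_rc_53_2 lc_j_Cert_tree lc_j_rc_53_2 lc_j_rc_52_0 lc_j_rc_53_2) (@D3.rec (fun _ => (Cert rels S Gen.j)) lc_j_rc_53_2 lc_j_rc_25_3 lc_j_rc_17_1 lc_j_rc_25_1 lc_j_rc_38_1 lc_j_rc_53_2 lc_j_rc_17_1 lc_j_rc_25_1 lc_j_rc_25_1 lc_j_rc_53_2 lc_j_rc_51_2 lc_j_rc_17_1 lc_j_rc_25_1 lc_j_rc_51_2 lc_j_rc_8_1 lc_j_rc_17_1 lc_j_rc_51_2 lc_j_rc_53_2 lc_j_rc_17_1 lc_j_rc_32_1 lc_j_rc_53_2 lc_j_rc_17_1 lc_j_rc_25_1 lc_j_rc_25_1 lc_j_rc_53_2 lc_j_rc_51_2 lc_j_rc_32_1 lc_j_rc_32_1 lc_j_rc_17_1 lc_j_rc_53_0 lc_j_rc_25_1 lc_j_rc_51_2 lc_j_rc_51_2 lc_j_rc_8_1 lc_j_rc_17_1 lc_j_rc_51_2 lc_j_rc_8_1 lc_j_rc_17_1 lc_j_rc_32_1 lc_j_rc_8_1 lc_j_rc_17_1 lc_j_rc_38_1 lc_j_rc_8_1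 lc_j_rc_17_1 lc_j_rc_8_1 lc_j_rc_8_1 lc_j_rc_49_3 lc_j_rc_49_3 lc_j_rc_25_1 lc_j_rc_8_1 lc_j_rc_53_2) (@D3.rec (fun _ => (Cert rels S Gen.j)) lc_j_rc_51_2 lc_j_rc_53_2 lc_j_rc_38_3 lc_j_rc_49_3 lc_j_rc_25_1 lc_j_rc_38_1 lc_j_rc_32_1 lc_j_rc_53_2 lc_j_rc_49_3 lc_j_rc_38_1 lc_j_rc_25_1 lc_j_rc_51_2 lc_j_rc_8_1 lc_j_rc_8_1 lc_j_rc_53_0 lc_j_rc_51_2 lc_j_rc_51_0 lc_j_rc_53_2 lc_j_rc_25_1 lc_j_rc_8_1 lc_j_rc_53_2 lc_j_rc_8_1 lc_j_rc_51_2 lc_j_rc_25_1 lc_j_rc_45_3 lc_j_rc_53_2 lc_j_rc_53_2 lc_j_rc_25_1 lc_j_rc_8_1 lc_j_rc_25_1 lc_j_rc_53_2 lc_j_rc_25_1 lc_j_rc_51_2 lc_j_rc_17_3 lc_j_rc_45_3 lc_j_rc_53_2 lc_j_rc_32_1 lc_j_rc_8_3 lc_j_rc_17_1 lc_j_rc_25_1 lc_j_rc_25_1 lc_j_rc_45_1 lc_j_rc_38_1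 lc_j_rc_51_2 lc_j_Cert_tree lc_j_rc_45_1 lc_j_rc_52_0 lc_j_rc_51_2 lc_j_rc_45_1 lc_j_rc_32_1 lc_j_rc_8_1) (@D3.rec (fun _ => (Cert rels S Gen.j)) lc_j_rc_38_1 lc_j_rc_53_2 lc_j_rc_53_2 lc_j_rc_8_1 lc_j_rc_53_2 lc_j_rc_25_3 lc_j_rc_8_1 lc_j_rc_17_1 lc_j_rc_25_1 lc_j_rc_38_1 lc_j_rc_17_3 lc_j_rc_25_3 lc_j_rc_17_1 lc_j_rc_25_1 lc_j_rc_25_1 lc_j_rc_17_1 lc_j_rc_32_1 lc_j_rc_8_1 lc_j_rc_17_1 lc_j_rc_45_1 lc_j_rc_45_1 lc_j_rc_38_1 lc_j_rc_8_1 lc_j_rc_8_1 lc_j_rc_52_0 lc_j_rc_52_1 lc_j_rc_51_2 lc_j_rc_32_1 lc_j_rc_53_2 lc_j_rc_25_1 lc_j_rc_8_1 lc_j_rc_53_2 lc_j_rc_8_1 lc_j_rc_51_2 lc_j_rc_25_3 lc_j_rc_53_2 lc_j_rc_53_2 lc_j_rc_25_1 lc_j_rc_53_2 lc_j_rc_17_1 lc_j_rc_25_1 lc_j_rc_8_1 lc_j_rc_45_1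 lc_j_rc_49_1 lc_j_rc_53_2 lc_j_rc_25_1 lc_j_rc_32_1 lc_j_rc_53_2 lc_j_rc_25_1 lc_j_rc_51_2 lc_j_rc_32_1) (@D3.rec (fun _ => (Cert rels S Gen.j)) lc_j_rc_53_2 lc_j_rc_32_1 lc_j_rc_53_2 lc_j_rc_17_1 lc_j_rc_49_3 lc_j_rc_53_2 lc_j_rc_8_3 lc_j_rc_25_1 lc_j_rc_25_1 lc_j_rc_38_1 lc_j_rc_51_2 lc_j_rc_53_2 lc_j_rc_45_1 lc_j_rc_53_2 lc_j_rc_53_2 lc_j_rc_8_3 lc_j_rc_38_1 lc_j_rc_25_3 lc_j_rc_17_1 lc_j_rc_32_3 lc_j_rc_45_3 lc_j_rc_8_3 lc_j_rc_25_1 lc_j_rc_38_1 lc_j_rc_25_1 lc_j_rc_53_2 lc_j_rc_32_3 lc_j_rc_17_3 lc_j_rc_45_3 lc_j_rc_38_1 lc_j_rc_45_1 lc_j_rc_49_1 lc_j_rc_53_2 lc_j_rc_25_1 lc_j_rc_8_1 lc_j_rc_8_1 lc_j_rc_51_2 lc_j_rc_32_1 lc_j_rc_53_2 lc_j_rc_32_1 lc_j_rc_53_2 lc_j_rc_38_1 lc_j_rc_53_2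 lc_j_rc_32_1 lc_j_rc_25_1 lc_j_rc_8_1 lc_j_rc_8_1 lc_j_rc_32_1 lc_j_rc_53_2 lc_j_rc_45_1 lc_j_rc_25_1) (@D3.rec (fun _ => (Cert rels S Gen.j)) lc_j_rc_53_2 lc_j_rc_53_2 lc_j_rc_53_2 lc_j_rc_51_2 lc_j_rc_17_1 lc_j_rc_53_2 lc_j_rc_25_1 lc_j_rc_32_1 lc_j_rc_49_5 lc_j_rc_53_2 lc_j_rc_49_1 lc_j_rc_8_3 lc_j_rc_17_1 lc_j_rc_51_2 lc_j_rc_25_1 lc_j_rc_8_3 lc_j_rc_8_3 lc_j_rc_53_2 lc_j_rc_25_1 lc_j_rc_32_1 lc_j_rc_53_2 lc_j_rc_25_1 lc_j_rc_38_1 lc_j_rc_53_2 lc_j_rc_25_1 lc_j_rc_53_2 lc_j_rc_17_1 lc_j_rc_49_1 lc_j_rc_25_1 lc_j_rc_49_5 lc_j_rc_8_3 lc_j_rc_51_2 lc_j_rc_8_1 lc_j_rc_17_1 lc_j_rc_17_1 lc_j_rc_25_1 lc_j_rc_25_1 lc_j_rc_25_1 lc_j_Cert_tree lc_j_rc_45_1 lc_j_rc_51_2 lc_j_Cert_tree lc_j_rc_53_2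 lc_j_rc_52_0 lc_j_rc_53_2 lc_j_rc_53_2 lc_j_rc_49_3 lc_j_rc_17_1 lc_j_rc_25_1 lc_j_rc_38_1 lc_j_rc_53_2) (@D3.rec (fun _ => (Cert rels S Gen.j)) lc_j_rc_17_1 lc_j_rc_45_1 lc_j_rc_25_1 lc_j_rc_53_2 lc_j_rc_51_2 lc_j_rc_17_1 lc_j_rc_25_1 lc_j_rc_51_2 lc_j_rc_38_1 lc_j_rc_17_1 lc_j_rc_51_2 lc_j_rc_8_1 lc_j_rc_17_1 lc_j_rc_32_1 lc_j_rc_53_2 lc_j_rc_17_1 lc_j_rc_25_1 lc_j_rc_25_1 lc_j_rc_53_2 lc_j_rc_51_2 lc_j_rc_8_1 lc_j_rc_17_1 lc_j_rc_17_1 lc_j_rc_38_1 lc_j_rc_25_1 lc_j_rc_51_2 lc_j_rc_32_1 lc_j_rc_8_1 lc_j_rc_17_1 lc_j_rc_51_2 lc_j_rc_8_1 lc_j_rc_17_1 lc_j_rc_25_1 lc_j_rc_8_1 lc_j_rc_25_3 lc_j_rc_17_3 lc_j_rc_8_1 lc_j_rc_51_2 lc_j_rc_32_1 lc_j_rc_53_2 lc_j_rc_32_1 lc_j_rc_53_2 lc_j_rc_53_2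 lc_j_rc_8_1 lc_j_rc_8_1 lc_j_rc_53_2 lc_j_rc_38_3 lc_j_rc_32_1 lc_j_rc_51_2 lc_j_rc_32_1 lc_j_rc_53_2) (@D3.rec (fun _ => (Cert rels S Gen.j)) lc_j_rc_32_1 lc_j_rc_53_2 lc_j_rc_38_1 lc_j_rc_53_2 lc_j_rc_53_2 lc_j_rc_53_2 lc_j_rc_25_1 lc_j_rc_32_1 lc_j_rc_53_2 lc_j_rc_25_1 lc_j_rc_38_1 lc_j_rc_53_2 lc_j_rc_25_1 lc_j_rc_38_1 lc_j_rc_53_2 lc_j_rc_17_1 lc_j_rc_25_1 lc_j_rc_25_1 lc_j_rc_45_1 lc_j_rc_53_2 lc_j_rc_51_2 lc_j_rc_17_1 lc_j_rc_17_1 lc_j_rc_25_1 lc_j_rc_25_1 lc_j_rc_51_2 lc_j_rc_45_1 lc_j_rc_53_2 lc_j_rc_53_2 lc_j_rc_32_1 lc_j_rc_17_1 lc_j_rc_25_1 lc_j_rc_38_1 lc_j_rc_53_2 lc_j_rc_17_1 lc_j_rc_25_1 lc_j_rc_25_1 lc_j_rc_53_2 lc_j_rc_17_1 lc_j_rc_25_1 lc_j_rc_8_1 lc_j_rc_17_1 lc_j_rc_8_1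 lc_j_rc_32_1 lc_j_rc_17_1 lc_j_rc_25_1 lc_j_rc_53_2 lc_j_rc_51_2 lc_j_rc_8_1 lc_j_rc_32_1 lc_j_rc_17_1) (@D3.rec (fun _ => (Cert rels S Gen.j)) lc_j_rc_53_2 lc_j_rc_53_2 lc_j_rc_32_1 lc_j_rc_8_1 lc_j_rc_17_1 lc_j_rc_51_2 lc_j_rc_8_1 lc_j_rc_17_1 lc_j_rc_38_1 lc_j_rc_8_1 lc_j_rc_17_1 lc_j_rc_38_1 lc_j_rc_25_1 lc_j_rc_51_2 lc_j_rc_53_2 lc_j_rc_17_1 lc_j_rc_38_3 lc_j_rc_8_1 lc_j_rc_51_2 lc_j_rc_32_1 lc_j_rc_53_2 lc_j_rc_32_1 lc_j_rc_53_2 lc_j_rc_53_2 lc_j_rc_8_1 lc_j_rc_8_1 lc_j_rc_32_1 lc_j_rc_53_2 lc_j_rc_25_1 lc_j_rc_38_1 lc_j_rc_53_2 lc_j_rc_25_1 lc_j_rc_53_2 lc_j_rc_17_1 lc_j_rc_25_1 lc_j_rc_51_2 lc_j_rc_25_3 lc_j_rc_17_1 lc_j_rc_25_1 lc_j_rc_8_1 lc_j_rc_8_1 lc_j_rc_25_1 lc_j_rc_38_1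 lc_j_rc_53_2 lc_j_rc_17_1 lc_j_rc_25_1 lc_j_rc_25_1 lc_j_rc_53_2 lc_j_rc_17_1 lc_j_rc_25_1 lc_j_rc_8_1) (@D3.rec (fun _ => (Cert rels S Gen.j)) lc_j_rc_17_1 lc_j_rc_53_2 lc_j_rc_38_1 lc_j_rc_51_2 lc_j_rc_45_1 lc_j_rc_53_2 lc_j_rc_49_3 lc_j_rc_32_1 lc_j_rc_53_2 lc_j_rc_25_1 lc_j_rc_38_1 lc_j_rc_53_2 lc_j_rc_25_1 lc_j_rc_38_1 lc_j_rc_53_2 lc_j_rc_17_1 lc_j_rc_25_1 lc_j_rc_25_1 lc_j_rc_38_3 lc_j_rc_53_2 lc_j_rc_51_2 lc_j_rc_25_3 lc_j_rc_17_1 lc_j_rc_17_1 lc_j_rc_25_1 lc_j_rc_25_1 lc_j_rc_25_1 lc_j_Cert_tree lc_j_rc_53_2 lc_j_rc_53_2 lc_j_rc_32_1 lc_j_rc_25_1 lc_j_rc_25_1 lc_j_rc_38_1 lc_j_rc_53_2 lc_j_rc_17_1 lc_j_rc_25_1 lc_j_rc_25_1 lc_j_rc_45_1 lc_j_rc_53_2 lc_j_rc_51_2 lc_j_rc_17_1 lc_j_rc_25_1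 lc_j_rc_25_1 lc_j_rc_45_1 lc_j_rc_53_2 lc_j_rc_51_2 lc_j_rc_8_1 lc_j_rc_17_1 lc_j_rc_17_1 lc_j_rc_25_1) (@D3.rec (fun _ => (Cert rels S Gen.j)) lc_j_rc_25_1 lc_j_rc_51_2 lc_j_Cert_tree lc_j_rc_53_2 lc_j_rc_51_2 lc_j_rc_25_3 lc_j_rc_53_2 lc_j_rc_17_1 lc_j_rc_17_1 lc_j_rc_17_1 lc_j_Cert_tree lc_j_rc_25_1 lc_j_rc_25_1 lc_j_rc_32_1 lc_j_rc_52_0 lc_j_rc_53_2 lc_j_rc_51_2 lc_j_Cert_tree lc_j_rc_53_2 lc_j_rc_52_0 lc_j_rc_53_2 lc_j_rc_53_2 lc_j_rc_25_1 lc_j_rc_32_1 lc_j_rc_17_1 lc_j_rc_25_1 lc_j_rc_25_1 lc_j_rc_53_2 lc_j_rc_51_2 lc_j_rc_53_0 lc_j_rc_32_3 lc_j_rc_17_1 lc_j_rc_32_1 lc_j_rc_25_1 lc_j_rc_51_2 lc_j_rc_25_1 lc_j_rc_8_1 lc_j_rc_17_1 lc_j_rc_51_2 lc_j_rc_8_1 lc_j_rc_45_1 lc_j_rc_32_1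 lc_j_rc_8_1 lc_j_rc_17_1 lc_j_rc_38_1 lc_j_rc_25_3 lc_j_rc_8_1 lc_j_rc_25_3 lc_j_rc_25_3 lc_j_rc_38_1 lc_j_rc_51_2) (@D3.rec (fun _ => (Cert rels S Gen.j)) lc_j_rc_38_3 lc_j_rc_53_2 lc_j_rc_49_3 lc_j_rc_53_2 lc_j_rc_49_3 lc_j_rc_45_1 lc_j_rc_17_1 lc_j_rc_25_1 lc_j_rc_8_1 lc_j_rc_25_3 lc_j_rc_8_1 lc_j_rc_17_1 lc_j_rc_8_1 lc_j_rc_25_3 lc_j_rc_38_3 lc_j_rc_49_1 lc_j_rc_53_2 lc_j_rc_25_1 lc_j_rc_17_1 lc_j_rc_25_1 lc_j_rc_53_2 lc_j_rc_32_1 lc_j_rc_17_1 lc_j_rc_8_1 lc_j_rc_32_1 lc_j_rc_53_2 lc_j_rc_25_1 lc_j_rc_38_1 lc_j_rc_53_2 lc_j_rc_25_3 lc_j_rc_53_2 lc_j_rc_25_1 lc_j_rc_38_1 lc_j_rc_53_2 lc_j_rc_17_1 lc_j_rc_25_1 lc_j_rc_25_1 lc_j_rc_53_2 lc_j_rc_17_1 lc_j_rc_25_1 lc_j_rc_8_1 lc_j_rc_17_1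 lc_j_rc_53_2 lc_j_rc_25_1 lc_j_rc_17_1 lc_j_rc_25_1 lc_j_rc_49_3 lc_j_rc_53_2 lc_j_rc_38_1 lc_j_rc_8_1 lc_j_rc_17_1) (@D3.rec (fun _ => (Cert rels S Gen.j)) lc_j_rc_25_3 lc_j_rc_32_1 lc_j_rc_32_3 lc_j_rc_17_1 lc_j_rc_38_1 lc_j_rc_8_3 lc_j_rc_25_1 lc_j_rc_17_1 lc_j_rc_17_1 lc_j_rc_25_1 lc_j_rc_25_1 lc_j_rc_45_1 lc_j_rc_51_2 lc_j_rc_52_0 lc_j_rc_53_2 lc_j_rc_8_1 lc_j_rc_51_2 lc_j_rc_53_2 lc_j_rc_8_1 lc_j_rc_8_1 lc_j_rc_17_1 lc_j_rc_32_1 lc_j_rc_25_1 lc_j_rc_53_2 lc_j_rc_51_2 lc_j_rc_53_2 lc_j_rc_17_1 lc_j_rc_51_2 lc_j_rc_17_3 lc_j_rc_17_1 lc_j_rc_51_2 lc_j_rc_53_2 lc_j_rc_17_1 lc_j_rc_32_1 lc_j_rc_8_1 lc_j_rc_17_1 lc_j_rc_38_1 lc_j_rc_53_2 lc_j_rc_25_1 lc_j_rc_25_1 lc_j_rc_51_2 lc_j_rc_17_1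 lc_j_rc_53_2 lc_j_rc_17_1 lc_j_rc_32_1 lc_j_rc_8_1 lc_j_rc_49_1 lc_j_rc_45_1 lc_j_rc_32_1 lc_j_rc_49_1 lc_j_rc_49_1) (@D3.rec (fun _ => (Cert rels S Gen.j)) lc_j_rc_49_1 lc_j_rc_49_1 lc_j_rc_8_1 lc_j_rc_49_1 lc_j_rc_49_3 lc_j_rc_53_2 lc_j_rc_8_1 lc_j_rc_17_1 lc_j_rc_53_2 lc_j_rc_45_1 lc_j_rc_17_1 lc_j_rc_51_2 lc_j_rc_49_1 lc_j_rc_25_1 lc_j_rc_51_2 lc_j_rc_53_2 lc_j_rc_52_0 lc_j_rc_25_3 lc_j_rc_8_1 lc_j_rc_53_2 lc_j_rc_52_0 lc_j_rc_8_3 lc_j_rc_51_2 lc_j_rc_32_3 lc_j_rc_53_2 lc_j_rc_25_1 lc_j_rc_53_2 lc_j_rc_8_1 lc_j_rc_25_3 lc_j_rc_17_1 lc_j_rc_51_2 lc_j_rc_53_2 lc_j_rc_17_1 lc_j_rc_32_1 lc_j_rc_8_1 lc_j_rc_17_1 lc_j_rc_38_1 lc_j_rc_17_1 lc_j_rc_51_2 lc_j_rc_25_1 lc_j_rc_25_1 lc_j_rc_25_3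 lc_j_rc_17_1 lc_j_rc_51_2 lc_j_rc_32_1 lc_j_rc_8_1 lc_j_rc_17_1 lc_j_rc_32_1 lc_j_rc_8_1 lc_j_rc_32_1 lc_j_rc_38_1) (@D3.rec (fun _ => (Cert rels S Gen.j)) lc_j_rc_8_1 lc_j_rc_25_1 lc_j_rc_17_1 lc_j_rc_32_1 lc_j_rc_17_1 lc_j_rc_8_3 lc_j_rc_25_3 lc_j_rc_17_1 lc_j_rc_25_1 lc_j_rc_51_2 lc_j_rc_8_1 lc_j_rc_17_1 lc_j_rc_51_2 lc_j_rc_8_1 lc_j_rc_17_1 lc_j_rc_32_1 lc_j_rc_17_1 lc_j_rc_25_1 lc_j_rc_53_0 lc_j_rc_32_3 lc_j_rc_17_1 lc_j_rc_25_1 lc_j_rc_45_3 lc_j_rc_45_3 lc_j_rc_8_1 lc_j_rc_17_1 lc_j_rc_51_2 lc_j_rc_51_2 lc_j_rc_51_2 lc_j_rc_32_1 lc_j_rc_8_1 lc_j_rc_17_1 lc_j_rc_38_1 lc_j_rc_25_1 lc_j_rc_51_2 lc_j_rc_32_1 lc_j_rc_17_1 lc_j_rc_17_1 lc_j_rc_17_1 lc_j_rc_32_3 lc_j_rc_53_2 lc_j_rc_51_2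 lc_j_rc_25_3 lc_j_rc_25_3 lc_j_rc_25_3 lc_j_rc_8_1 lc_j_rc_17_1 lc_j_rc_17_1 lc_j_rc_25_1 lc_j_rc_25_1 lc_j_rc_51_2) (@D3.rec (fun _ => (Cert rels S Gen.j)) lc_j_rc_53_2 lc_j_rc_51_2 lc_j_rc_8_1 lc_j_rc_32_1 lc_j_rc_17_1 lc_j_rc_17_1 lc_j_rc_17_1 lc_j_Cert_tree lc_j_rc_25_1 lc_j_rc_51_2 lc_j_rc_17_1 lc_j_rc_52_0 lc_j_rc_53_2 lc_j_rc_51_2 lc_j_rc_32_3 lc_j_rc_53_2 lc_j_rc_8_1 lc_j_Cert_tree lc_j_rc_17_1 lc_j_rc_17_1 lc_j_rc_17_1 lc_j_rc_52_0 lc_j_rc_53_2 lc_j_rc_25_1 lc_j_rc_32_1 lc_j_rc_38_1 lc_j_rc_53_2 lc_j_rc_32_1 lc_j_rc_52_0 lc_j_rc_53_2 lc_j_rc_53_2 lc_j_rc_17_1 lc_j_rc_53_2 lc_j_rc_17_1 lc_j_rc_17_1 lc_j_rc_32_1 lc_j_rc_32_3 lc_j_rc_51_0 lc_j_rc_17_1 lc_j_rc_52_0 lc_j_rc_53_2 lc_j_rc_53_2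 lc_j_rc_53_2 lc_j_rc_53_2 lc_j_rc_51_0 lc_j_rc_45_1 lc_j_rc_52_0 lc_j_rc_8_1 lc_j_rc_52_0 lc_j_rc_52_0 lc_j_rc_53_2)
def ce_j_10 : D2 → D3 → (Cert rels S Gen.j) := @D2.rec (fun _ => D3 → (Cert rels S Gen.j)) (@D3.rec (fun _ => (Cert rels S Gen.j)) lc_j_rc_53_2 lc_j_rc_8_1 lc_j_rc_51_2 lc_j_rc_45_1 lc_j_rc_38_1 lc_j_rc_51_0 lc_j_rc_17_3 lc_j_rc_53_2 lc_j_Cert_tree lc_j_rc_51_2 lc_j_rc_52_0 lc_j_rc_53_2 lc_j_rc_52_0 lc_j_rc_52_0 lc_j_rc_25_1 lc_j_rc_45_3 lc_j_rc_53_2 lc_j_rc_38_1 lc_j_rc_8_3 lc_j_rc_45_3 lc_j_rc_25_1 lc_j_rc_53_2 lc_j_rc_8_1 lc_j_rc_25_1 lc_j_rc_51_2 lc_j_rc_45_1 lc_j_rc_45_1 lc_j_rc_52_0 lc_j_rc_45_1 lc_j_rc_38_1 lc_j_rc_51_2 lc_j_rc_38_1 lc_j_rc_53_2 lc_j_rc_8_1 lc_j_rc_25_3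 lc_j_rc_53_2 lc_j_rc_8_1 lc_j_Cert_tree lc_j_rc_45_1 lc_j_rc_51_2 lc_j_rc_25_1 lc_j_rc_17_1 lc_j_rc_17_1 lc_j_rc_8_1 lc_j_Cert_tree lc_j_rc_8_1 lc_j_rc_8_1 lc_j_rc_8_1 lc_j_rc_25_3 lc_j_rc_25_3 lc_j_rc_25_3) (@D3.rec (fun _ => (Cert rels S Gen.j)) lc_j_Cert_tree lc_j_rc_25_1 lc_j_rc_25_1 lc_j_rc_52_0 lc_j_rc_53_2 lc_j_rc_25_1 lc_j_rc_32_1 lc_j_rc_17_1 lc_j_rc_8_1 lc_j_rc_25_3 lc_j_rc_17_1 lc_j_rc_25_1 lc_j_rc_25_1 lc_j_rc_53_2 lc_j_rc_38_1 lc_j_rc_17_1 lc_j_rc_25_1 lc_j_rc_51_2 lc_j_rc_8_1 lc_j_rc_17_1 lc_j_rc_51_2 lc_j_rc_8_1 lc_j_rc_17_1 lc_j_rc_32_1 lc_j_rc_49_3 lc_j_rc_51_2 lc_j_rc_45_1 lc_j_rc_52_0 lc_j_rc_45_1 lc_j_rc_49_3 lc_j_rc_17_1 lc_j_rc_52_0 lc_j_rc_52_0 lc_j_rc_32_3 lc_j_rc_51_2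 lc_j_rc_45_3 lc_j_rc_52_0 lc_j_rc_52_1 lc_j_rc_32_1 lc_j_rc_25_1 lc_j_rc_51_2 lc_j_rc_32_1 lc_j_rc_53_2 lc_j_rc_38_1 lc_j_rc_32_1 lc_j_rc_51_2 lc_j_rc_51_2 lc_j_rc_53_2 lc_j_rc_25_1 lc_j_rc_32_1 lc_j_rc_8_3) (@D3.rec (fun _ => (Cert rels S Gen.j)) lc_j_rc_17_1 lc_j_rc_17_1 lc_j_rc_17_1 lc_j_rc_8_1 lc_j_rc_8_1 lc_j_rc_8_1 lc_j_rc_8_1 lc_j_rc_8_1 lc_j_rc_52_0 lc_j_rc_52_1 lc_j_rc_51_2 lc_j_rc_53_2 lc_j_rc_32_1 lc_j_rc_53_2 lc_j_rc_25_1 lc_j_rc_38_1 lc_j_rc_32_1 lc_j_rc_45_1 lc_j_rc_38_1 lc_j_rc_51_2 lc_j_Cert_tree lc_j_rc_45_1 lc_j_rc_51_2 lc_j_rc_25_1 lc_j_Cert_tree lc_j_rc_52_0 lc_j_rc_49_1 lc_j_rc_51_2 lc_j_rc_53_2 lc_j_rc_52_0 lc_j_rc_52_1 lc_j_rc_51_2 lc_j_rc_32_1 lc_j_rc_53_2 lc_j_rc_25_1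 lc_j_rc_38_1 lc_j_rc_32_1 lc_j_rc_32_1 lc_j_rc_53_2 lc_j_rc_38_1 lc_j_rc_53_2 lc_j_rc_38_1 lc_j_rc_51_2 lc_j_rc_38_1 lc_j_rc_51_2 lc_j_rc_49_3 lc_j_rc_53_2 lc_j_rc_32_1 lc_j_rc_53_2 lc_j_rc_8_1 lc_j_rc_25_3) (@D3.rec (fun _ => (Cert rels S Gen.j)) lc_j_rc_45_1 lc_j_rc_25_1 lc_j_rc_53_2 lc_j_rc_53_2 lc_j_rc_53_2 lc_j_rc_45_1 lc_j_rc_17_3 lc_j_rc_45_1 lc_j_rc_53_2 lc_j_rc_17_3 lc_j_Cert_tree lc_j_Cert_tree lc_j_rc_52_0 lc_j_rc_49_1 lc_j_rc_17_1 lc_j_rc_17_1 lc_j_rc_49_1 lc_j_rc_8_3 lc_j_rc_53_2 lc_j_rc_53_2 lc_j_rc_17_1 lc_j_rc_45_3 lc_j_rc_52_0 lc_j_rc_52_0 lc_j_rc_8_3 lc_j_rc_49_1 lc_j_rc_49_1 lc_j_rc_32_1 lc_j_rc_8_1 lc_j_rc_8_1 lc_j_rc_53_2 lc_j_rc_8_1 lc_j_Cert_tree lc_j_rc_8_1 lc_j_rc_8_1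 lc_j_rc_8_1 lc_j_rc_53_2 lc_j_rc_53_2 lc_j_rc_52_0 lc_j_rc_52_1 lc_j_rc_51_2 lc_j_rc_32_1 lc_j_rc_53_2 lc_j_rc_51_2 lc_j_rc_53_2 lc_j_rc_25_1 lc_j_rc_51_2 lc_j_rc_32_1 lc_j_rc_53_2 lc_j_rc_32_1 lc_j_rc_53_2) (@D3.rec (fun _ => (Cert rels S Gen.j)) lc_j_rc_49_1 lc_j_rc_38_1 lc_j_rc_53_2 lc_j_rc_45_3 lc_j_rc_51_2 lc_j_rc_25_1 lc_j_rc_45_1 lc_j_rc_38_1 lc_j_rc_51_2 lc_j_rc_45_1 lc_j_rc_53_2 lc_j_rc_17_3 lc_j_Cert_tree lc_j_rc_45_1 lc_j_rc_51_2 lc_j_rc_52_0 lc_j_rc_53_2 lc_j_rc_51_2 lc_j_rc_53_2 lc_j_rc_45_1 lc_j_rc_51_0 lc_j_rc_53_2 lc_j_rc_49_1 lc_j_rc_49_1 lc_j_Cert_tree lc_j_rc_52_0 lc_j_rc_52_1 lc_j_rc_51_2 lc_j_rc_32_1 lc_j_rc_53_2 lc_j_rc_25_1 lc_j_rc_17_1 lc_j_rc_17_1 lc_j_rc_25_1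 lc_j_rc_51_2 lc_j_rc_32_1 lc_j_rc_53_2 lc_j_rc_32_1 lc_j_rc_53_2 lc_j_rc_25_1 lc_j_rc_38_1 lc_j_rc_53_2 lc_j_rc_17_1 lc_j_rc_25_1 lc_j_rc_25_1 lc_j_rc_17_1 lc_j_rc_17_1 lc_j_rc_38_1 lc_j_rc_53_2 lc_j_rc_45_1 lc_j_rc_53_2) (@D3.rec (fun _ => (Cert rels S Gen.j)) lc_j_rc_51_2 lc_j_rc_17_1 lc_j_rc_49_3 lc_j_rc_32_1 lc_j_rc_53_2 lc_j_rc_25_1 lc_j_rc_25_3 lc_j_rc_53_2 lc_j_rc_25_1 lc_j_rc_53_2 lc_j_rc_8_1 lc_j_rc_25_1 lc_j_rc_51_2 lc_j_rc_8_1 lc_j_rc_17_1 lc_j_rc_25_1 lc_j_rc_53_2 lc_j_rc_25_1 lc_j_rc_53_2 lc_j_rc_38_3 lc_j_rc_17_3 lc_j_rc_25_1 lc_j_rc_53_2 lc_j_rc_51_2 lc_j_rc_25_1 lc_j_rc_51_2 lc_j_rc_45_3 lc_j_rc_51_2 lc_j_rc_8_1 lc_j_rc_17_1 lc_j_rc_32_1 lc_j_Cert_tree lc_j_rc_52_0 lc_j_rc_52_1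 lc_j_rc_8_1 lc_j_rc_8_1 lc_j_rc_52_0 lc_j_rc_52_1 lc_j_rc_51_2 lc_j_rc_32_1 lc_j_rc_53_2 lc_j_rc_8_1 lc_j_rc_17_1 lc_j_rc_8_1 lc_j_rc_53_2 lc_j_rc_32_3 lc_j_rc_53_2 lc_j_rc_25_1 lc_j_rc_17_1 lc_j_rc_17_1 lc_j_rc_25_1) (@D3.rec (fun _ => (Cert rels S Gen.j)) lc_j_rc_32_1 lc_j_rc_52_0 lc_j_rc_52_1 lc_j_rc_51_2 lc_j_rc_32_1 lc_j_rc_53_2 lc_j_rc_8_1 lc_j_rc_8_1 lc_j_rc_8_1 lc_j_rc_8_1 lc_j_rc_51_2 lc_j_rc_32_1 lc_j_rc_53_2 lc_j_rc_32_1 lc_j_rc_53_2 lc_j_rc_17_3 lc_j_rc_25_1 lc_j_rc_53_2 lc_j_rc_8_1 lc_j_rc_8_1 lc_j_rc_8_1 lc_j_rc_8_1 lc_j_rc_45_1 lc_j_rc_53_2 lc_j_rc_8_3 lc_j_Cert_tree lc_j_rc_8_1 lc_j_rc_8_1 lc_j_rc_52_0 lc_j_rc_53_2 lc_j_rc_8_1 lc_j_rc_8_1 lc_j_rc_53_2 lc_j_rc_32_3 lc_j_rc_25_3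 lc_j_rc_53_2 lc_j_rc_25_3 lc_j_rc_8_1 lc_j_rc_52_0 lc_j_rc_52_1 lc_j_rc_32_1 lc_j_rc_51_2 lc_j_rc_32_1 lc_j_rc_53_2 lc_j_rc_32_1 lc_j_rc_53_2 lc_j_rc_25_1 lc_j_rc_38_1 lc_j_rc_53_2 lc_j_rc_17_1 lc_j_rc_25_1) (@D3.rec (fun _ => (Cert rels S Gen.j)) lc_j_rc_25_1 lc_j_rc_17_1 lc_j_rc_17_1 lc_j_rc_17_1 lc_j_rc_25_1 lc_j_rc_32_1 lc_j_rc_53_2 lc_j_rc_25_1 lc_j_rc_38_1 lc_j_rc_53_2 lc_j_rc_25_1 lc_j_rc_38_1 lc_j_rc_53_2 lc_j_rc_17_1 lc_j_rc_25_1 lc_j_rc_25_1 lc_j_rc_45_1 lc_j_rc_53_2 lc_j_rc_51_2 lc_j_rc_17_1 lc_j_rc_17_1 lc_j_rc_17_1 lc_j_rc_25_1 lc_j_rc_25_1 lc_j_rc_25_1 lc_j_Cert_tree lc_j_rc_17_1 lc_j_rc_17_1 lc_j_rc_45_1 lc_j_rc_53_2 lc_j_rc_51_2 lc_j_Cert_tree lc_j_rc_53_2 lc_j_rc_51_2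 lc_j_rc_52_0 lc_j_rc_53_2 lc_j_rc_17_1 lc_j_rc_32_1 lc_j_rc_53_2 lc_j_rc_51_2 lc_j_rc_17_1 lc_j_rc_25_1 lc_j_rc_53_2 lc_j_rc_17_1 lc_j_rc_8_1 lc_j_rc_25_1 lc_j_rc_25_3 lc_j_rc_51_2 lc_j_rc_17_1 lc_j_rc_25_1 lc_j_rc_51_2) (@D3.rec (fun _ => (Cert rels S Gen.j)) lc_j_rc_8_1 lc_j_rc_17_1 lc_j_rc_51_2 lc_j_rc_53_2 lc_j_rc_17_1 lc_j_rc_32_1 lc_j_rc_17_1 lc_j_rc_25_1 lc_j_rc_51_2 lc_j_rc_8_1 lc_j_rc_25_3 lc_j_rc_17_1 lc_j_rc_53_2 lc_j_rc_51_2 lc_j_rc_32_1 lc_j_rc_8_1 lc_j_rc_17_1 lc_j_rc_51_2 lc_j_rc_8_1 lc_j_rc_17_1 lc_j_rc_32_1 lc_j_rc_8_1 lc_j_rc_17_1 lc_j_rc_38_1 lc_j_rc_17_1 lc_j_rc_8_1 lc_j_rc_8_1 lc_j_rc_8_1 lc_j_rc_8_1 lc_j_rc_8_1 lc_j_rc_53_2 lc_j_rc_38_1 lc_j_rc_32_1 lc_j_rc_38_1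 lc_j_rc_51_2 lc_j_rc_25_1 lc_j_rc_32_1 lc_j_rc_53_2 lc_j_rc_32_1 lc_j_rc_53_2 lc_j_rc_53_2 lc_j_rc_17_1 lc_j_rc_25_1 lc_j_rc_51_2 lc_j_Cert_tree lc_j_rc_17_1 lc_j_rc_52_0 lc_j_rc_52_1 lc_j_rc_17_1 lc_j_Cert_tree lc_j_rc_8_1) (@D3.rec (fun _ => (Cert rels S Gen.j)) lc_j_Cert_tree lc_j_rc_52_0 lc_j_rc_52_1 lc_j_rc_8_1 lc_j_rc_8_1 lc_j_rc_51_2 lc_j_rc_53_2 lc_j_rc_8_1 lc_j_rc_8_1 lc_j_rc_8_1 lc_j_rc_52_0 lc_j_rc_52_1 lc_j_rc_51_2 lc_j_rc_53_2 lc_j_rc_25_1 lc_j_rc_8_1 lc_j_rc_53_2 lc_j_rc_52_0 lc_j_rc_45_1 lc_j_rc_51_2 lc_j_rc_53_2 lc_j_rc_52_0 lc_j_rc_52_1 lc_j_rc_51_2 lc_j_rc_32_1 lc_j_rc_53_2 lc_j_rc_25_1 lc_j_rc_38_1 lc_j_rc_32_1 lc_j_rc_32_1 lc_j_rc_53_2 lc_j_rc_53_2 lc_j_rc_45_1 lc_j_rc_38_1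 lc_j_rc_51_2 lc_j_rc_45_1 lc_j_rc_51_2 lc_j_rc_45_1 lc_j_rc_51_2 lc_j_rc_8_3 lc_j_rc_32_1 lc_j_rc_53_2 lc_j_rc_53_2 lc_j_rc_17_1 lc_j_rc_25_1 lc_j_rc_51_2 lc_j_rc_53_2 lc_j_rc_17_3 lc_j_rc_8_1 lc_j_rc_17_1 lc_j_rc_25_1) (@D3.rec (fun _ => (Cert rels S Gen.j)) lc_j_rc_17_1 lc_j_rc_52_0 lc_j_rc_17_3 lc_j_rc_17_1 lc_j_rc_17_1 lc_j_rc_53_2 lc_j_rc_52_0 lc_j_rc_52_1 lc_j_rc_8_1 lc_j_rc_8_1 lc_j_rc_52_0 lc_j_rc_45_3 lc_j_rc_51_2 lc_j_rc_32_1 lc_j_rc_53_2 lc_j_rc_25_1 lc_j_rc_8_1 lc_j_rc_8_1 lc_j_rc_53_2 lc_j_rc_17_1 lc_j_rc_53_2 lc_j_rc_8_1 lc_j_rc_8_1 lc_j_rc_8_1 lc_j_rc_53_2 lc_j_rc_53_2 lc_j_rc_45_3 lc_j_rc_53_2 lc_j_rc_17_1 lc_j_rc_25_1 lc_j_rc_8_1 lc_j_rc_52_0 lc_j_rc_52_1 lc_j_rc_51_2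 lc_j_rc_32_1 lc_j_rc_53_2 lc_j_rc_25_1 lc_j_rc_51_2 lc_j_rc_53_2 lc_j_rc_25_1 lc_j_rc_45_3 lc_j_rc_53_2 lc_j_rc_32_1 lc_j_rc_53_2 lc_j_rc_8_3 lc_j_rc_32_1 lc_j_rc_53_2 lc_j_rc_17_1 lc_j_rc_25_1 lc_j_rc_25_1 lc_j_rc_45_1) (@D3.rec (fun _ => (Cert rels S Gen.j)) lc_j_rc_38_1 lc_j_rc_49_5 lc_j_rc_53_2 lc_j_rc_17_1 lc_j_Cert_tree lc_j_rc_45_1 lc_j_rc_51_2 lc_j_rc_52_0 lc_j_rc_53_2 lc_j_rc_51_2 lc_j_rc_8_3 lc_j_rc_32_3 lc_j_rc_8_1 lc_j_rc_17_1 lc_j_rc_25_1 lc_j_rc_8_1 lc_j_rc_17_1 lc_j_rc_17_1 lc_j_rc_17_1 lc_j_rc_53_2 lc_j_rc_8_1 lc_j_rc_8_1 lc_j_rc_25_1 lc_j_rc_53_2 lc_j_rc_8_1 lc_j_rc_53_2 lc_j_rc_8_1 lc_j_rc_53_2 lc_j_rc_25_1 lc_j_rc_38_1 lc_j_rc_51_2 lc_j_rc_53_2 lc_j_rc_51_2 lc_j_rc_45_1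 lc_j_rc_53_2 lc_j_rc_17_1 lc_j_rc_53_2 lc_j_rc_8_1 lc_j_rc_25_1 lc_j_rc_51_2 lc_j_rc_32_1 lc_j_rc_53_2 lc_j_rc_17_1 lc_j_rc_25_1 lc_j_rc_53_2 lc_j_rc_25_1 lc_j_rc_53_2 lc_j_rc_25_1 lc_j_rc_25_1 lc_j_rc_51_2 lc_j_rc_25_1) (@D3.rec (fun _ => (Cert rels S Gen.j)) lc_j_rc_17_1 lc_j_rc_25_1 lc_j_rc_53_2 lc_j_rc_53_0 lc_j_Cert_tree lc_j_rc_52_0 lc_j_rc_52_1 lc_j_rc_17_1 lc_j_rc_17_1 lc_j_rc_51_2 lc_j_rc_53_2 lc_j_Cert_tree lc_j_rc_52_0 lc_j_rc_52_1 lc_j_rc_8_1 lc_j_rc_8_1 lc_j_rc_52_0 lc_j_rc_52_1 lc_j_rc_51_2 lc_j_rc_32_1 lc_j_rc_53_2 lc_j_rc_25_1 lc_j_rc_8_1 lc_j_rc_8_1 lc_j_rc_53_2 lc_j_rc_25_1 lc_j_rc_53_2 lc_j_rc_8_1 lc_j_rc_8_1 lc_j_rc_8_1 lc_j_rc_51_2 lc_j_rc_45_1 lc_j_rc_53_2 lc_j_rc_53_2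 lc_j_rc_17_1 lc_j_rc_53_2 lc_j_rc_8_1 lc_j_rc_25_1 lc_j_rc_8_1 lc_j_rc_38_3 lc_j_rc_52_0 lc_j_rc_52_1 lc_j_rc_51_2 lc_j_rc_32_1 lc_j_rc_53_2 lc_j_rc_25_1 lc_j_rc_51_2 lc_j_rc_53_2 lc_j_rc_25_1 lc_j_rc_51_2 lc_j_rc_32_1) (@D3.rec (fun _ => (Cert rels S Gen.j)) lc_j_rc_53_2 lc_j_rc_32_1 lc_j_rc_53_2 lc_j_rc_32_1 lc_j_rc_32_1 lc_j_rc_53_2 lc_j_rc_17_1 lc_j_rc_32_1 lc_j_rc_25_1 lc_j_rc_45_1 lc_j_rc_38_1 lc_j_rc_49_5 lc_j_rc_53_2 lc_j_rc_45_1 lc_j_rc_53_2 lc_j_rc_51_2 lc_j_rc_38_1 lc_j_rc_45_1 lc_j_rc_51_2 lc_j_rc_53_2 lc_j_rc_51_2 lc_j_rc_49_3 lc_j_rc_32_1 lc_j_rc_53_2 lc_j_rc_45_1 lc_j_rc_38_1 lc_j_rc_53_2 lc_j_rc_53_2 lc_j_rc_38_1 lc_j_rc_53_2 lc_j_rc_51_2 lc_j_rc_17_1 lc_j_rc_17_1 lc_j_rc_25_1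 lc_j_rc_17_3 lc_j_rc_38_1 lc_j_rc_53_2 lc_j_rc_49_3 lc_j_rc_45_1 lc_j_rc_53_2 lc_j_rc_53_2 lc_j_rc_51_2 lc_j_rc_17_1 lc_j_rc_25_1 lc_j_rc_51_2 lc_j_rc_25_1 lc_j_rc_17_1 lc_j_rc_25_1 lc_j_rc_8_1 lc_j_rc_17_1 lc_j_rc_32_1) (@D3.rec (fun _ => (Cert rels S Gen.j)) lc_j_rc_45_1 lc_j_rc_49_3 lc_j_rc_52_0 lc_j_rc_52_1 lc_j_rc_17_1 lc_j_rc_17_1 lc_j_rc_52_0 lc_j_rc_52_1 lc_j_rc_51_2 lc_j_rc_32_1 lc_j_rc_53_2 lc_j_rc_25_1 lc_j_rc_17_1 lc_j_rc_53_2 lc_j_Cert_tree lc_j_rc_52_0 lc_j_rc_52_1 lc_j_rc_51_2 lc_j_rc_32_1 lc_j_rc_53_2 lc_j_rc_25_1 lc_j_rc_8_1 lc_j_rc_8_1 lc_j_rc_8_1 lc_j_rc_51_2 lc_j_rc_32_1 lc_j_rc_53_2 lc_j_rc_32_1 lc_j_rc_53_2 lc_j_rc_25_1 lc_j_rc_38_1 lc_j_rc_53_2 lc_j_rc_17_1 lc_j_rc_25_1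 lc_j_rc_25_1 lc_j_rc_8_1 lc_j_rc_8_1 lc_j_rc_38_1 lc_j_rc_53_2 lc_j_rc_45_1 lc_j_rc_53_2 lc_j_rc_51_2 lc_j_rc_8_1 lc_j_rc_8_1 lc_j_rc_32_1 lc_j_rc_53_2 lc_j_rc_25_1 lc_j_rc_38_1 lc_j_rc_53_2 lc_j_rc_25_1 lc_j_rc_53_2) (@D3.rec (fun _ => (Cert rels S Gen.j)) lc_j_rc_17_1 lc_j_rc_25_1 lc_j_rc_51_2 lc_j_rc_45_1 lc_j_rc_17_1 lc_j_rc_25_1 lc_j_rc_52_0 lc_j_rc_52_1 lc_j_rc_32_1 lc_j_rc_51_2 lc_j_rc_32_1 lc_j_rc_53_2 lc_j_rc_32_1 lc_j_rc_53_2 lc_j_rc_25_1 lc_j_rc_38_1 lc_j_rc_53_2 lc_j_rc_17_1 lc_j_rc_25_1 lc_j_rc_25_1 lc_j_rc_51_2 lc_j_rc_53_2 lc_j_rc_53_2 lc_j_rc_25_1 lc_j_rc_32_1 lc_j_rc_53_2 lc_j_rc_25_1 lc_j_rc_38_1 lc_j_rc_53_2 lc_j_rc_25_1 lc_j_rc_38_1 lc_j_rc_53_2 lc_j_rc_17_1 lc_j_rc_25_1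 lc_j_rc_25_1 lc_j_rc_45_1 lc_j_rc_53_2 lc_j_rc_51_2 lc_j_rc_8_1 lc_j_rc_17_1 lc_j_rc_17_1 lc_j_rc_25_1 lc_j_rc_25_1 lc_j_rc_25_1 lc_j_Cert_tree lc_j_rc_45_1 lc_j_rc_51_2 lc_j_rc_45_1 lc_j_rc_53_2 lc_j_rc_51_2 lc_j_Cert_tree) (@D3.rec (fun _ => (Cert rels S Gen.j)) lc_j_rc_53_2 lc_j_rc_51_2 lc_j_rc_52_0 lc_j_rc_53_2 lc_j_rc_51_2 lc_j_rc_32_1 lc_j_rc_53_2 lc_j_rc_32_1 lc_j_rc_17_1 lc_j_rc_25_1 lc_j_rc_38_1 lc_j_rc_53_2 lc_j_rc_8_3 lc_j_rc_25_1 lc_j_rc_25_1 lc_j_rc_53_2 lc_j_rc_51_2 lc_j_rc_25_1 lc_j_rc_51_2 lc_j_rc_25_1 lc_j_rc_17_1 lc_j_rc_51_2 lc_j_rc_8_1 lc_j_rc_17_1 lc_j_rc_32_1 lc_j_rc_53_2 lc_j_rc_51_2 lc_j_rc_25_3 lc_j_rc_38_1 lc_j_rc_25_3 lc_j_rc_38_1 lc_j_rc_25_1 lc_j_rc_51_2 lc_j_rc_53_2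 lc_j_rc_32_1 lc_j_rc_8_1 lc_j_rc_25_3 lc_j_rc_17_1 lc_j_rc_17_1 lc_j_rc_25_3 lc_j_rc_53_2 lc_j_rc_25_1 lc_j_rc_25_1 lc_j_rc_32_1 lc_j_rc_53_2 lc_j_rc_38_1 lc_j_rc_38_1 lc_j_rc_51_2 lc_j_rc_25_3 lc_j_rc_25_1 lc_j_rc_25_1) (@D3.rec (fun _ => (Cert rels S Gen.j)) lc_j_rc_25_3 lc_j_rc_25_1 lc_j_rc_32_1 lc_j_rc_45_3 lc_j_rc_52_0 lc_j_rc_52_1 lc_j_rc_51_2 lc_j_rc_32_1 lc_j_rc_53_2 lc_j_rc_25_1 lc_j_rc_17_1 lc_j_rc_53_2 lc_j_rc_8_1 lc_j_rc_51_2 lc_j_rc_32_1 lc_j_rc_53_2 lc_j_rc_32_1 lc_j_rc_53_2 lc_j_rc_38_1 lc_j_rc_53_2 lc_j_rc_8_1 lc_j_rc_8_1 lc_j_rc_38_1 lc_j_rc_53_2 lc_j_rc_38_1 lc_j_rc_53_2 lc_j_rc_51_2 lc_j_rc_8_1 lc_j_rc_8_1 lc_j_rc_53_2 lc_j_rc_52_0 lc_j_rc_52_1 lc_j_rc_32_1 lc_j_rc_51_2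 lc_j_rc_32_1 lc_j_rc_53_2 lc_j_rc_32_1 lc_j_rc_53_2 lc_j_rc_38_1 lc_j_rc_53_2 lc_j_rc_53_2 lc_j_rc_53_2 lc_j_rc_25_1 lc_j_rc_32_1 lc_j_rc_53_2 lc_j_rc_25_1 lc_j_rc_38_1 lc_j_rc_53_2 lc_j_rc_25_1 lc_j_rc_38_1 lc_j_rc_53_2) (@D3.rec (fun _ => (Cert rels S Gen.j)) lc_j_rc_38_3 lc_j_rc_8_3 lc_j_rc_25_1 lc_j_rc_45_1 lc_j_rc_53_2 lc_j_rc_51_2 lc_j_rc_17_1 lc_j_rc_25_1 lc_j_rc_25_1 lc_j_Cert_tree lc_j_rc_45_1 lc_j_rc_51_2 lc_j_rc_45_1 lc_j_rc_53_2 lc_j_rc_51_2 lc_j_Cert_tree lc_j_rc_53_2 lc_j_rc_51_2 lc_j_rc_52_0 lc_j_rc_53_2 lc_j_rc_51_2 lc_j_rc_32_1 lc_j_rc_53_2 lc_j_rc_51_2 lc_j_rc_32_1 lc_j_rc_17_1 lc_j_rc_25_1 lc_j_rc_38_1 lc_j_rc_53_2 lc_j_rc_38_1 lc_j_rc_25_1 lc_j_rc_25_1 lc_j_rc_53_2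 lc_j_rc_25_1 lc_j_rc_51_2 lc_j_rc_32_1 lc_j_rc_25_1 lc_j_rc_53_2 lc_j_rc_51_2 lc_j_rc_49_5 lc_j_rc_45_1 lc_j_rc_38_1 lc_j_rc_49_3 lc_j_rc_52_0 lc_j_rc_52_1 lc_j_rc_51_2 lc_j_rc_32_1 lc_j_rc_53_2 lc_j_rc_17_1 lc_j_rc_17_1 lc_j_rc_51_2) (@D3.rec (fun _ => (Cert rels S Gen.j)) lc_j_rc_32_1 lc_j_rc_53_2 lc_j_rc_32_1 lc_j_rc_53_2 lc_j_rc_25_1 lc_j_rc_53_2 lc_j_rc_25_1 lc_j_rc_17_1 lc_j_rc_52_0 lc_j_rc_52_1 lc_j_rc_8_1 lc_j_rc_51_2 lc_j_rc_32_1 lc_j_rc_53_2 lc_j_rc_32_1 lc_j_rc_53_2 lc_j_rc_38_1 lc_j_rc_53_2 lc_j_rc_8_1 lc_j_rc_8_1 lc_j_rc_8_1 lc_j_rc_32_1 lc_j_rc_53_2 lc_j_rc_25_1 lc_j_rc_38_1 lc_j_rc_53_2 lc_j_rc_25_1 lc_j_rc_38_1 lc_j_rc_53_2 lc_j_rc_17_1 lc_j_rc_25_1 lc_j_rc_25_1 lc_j_rc_45_1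 lc_j_rc_53_2 lc_j_rc_51_2 lc_j_rc_17_1 lc_j_rc_25_1 lc_j_rc_25_1 lc_j_rc_8_1 lc_j_rc_45_1 lc_j_rc_53_2 lc_j_rc_51_2 lc_j_rc_53_2 lc_j_rc_51_2 lc_j_rc_32_1 lc_j_rc_8_1 lc_j_rc_8_1 lc_j_rc_25_1 lc_j_rc_38_1 lc_j_rc_53_2 lc_j_rc_17_1) (@D3.rec (fun _ => (Cert rels S Gen.j)) lc_j_rc_25_1 lc_j_rc_25_1 lc_j_rc_53_2 lc_j_rc_25_1 lc_j_rc_17_3 lc_j_rc_51_2 lc_j_rc_53_2 lc_j_rc_38_1 lc_j_rc_51_2 lc_j_rc_32_1 lc_j_rc_53_2 lc_j_rc_49_3 lc_j_rc_32_1 lc_j_rc_53_2 lc_j_rc_25_1 lc_j_rc_38_1 lc_j_rc_53_2 lc_j_rc_25_1 lc_j_rc_38_1 lc_j_rc_53_2 lc_j_rc_17_1 lc_j_rc_25_1 lc_j_rc_25_1 lc_j_rc_45_1 lc_j_rc_53_2 lc_j_rc_51_2 lc_j_rc_17_1 lc_j_rc_25_1 lc_j_rc_25_1 lc_j_rc_25_1 lc_j_Cert_tree lc_j_rc_53_2 lc_j_rc_53_2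 lc_j_rc_32_1 lc_j_rc_25_1 lc_j_rc_25_1 lc_j_rc_38_1 lc_j_rc_53_2 lc_j_rc_17_1 lc_j_rc_25_1 lc_j_rc_25_1 lc_j_rc_45_1 lc_j_rc_53_2 lc_j_rc_51_2 lc_j_rc_17_1 lc_j_rc_25_1 lc_j_rc_25_1 lc_j_rc_45_1 lc_j_rc_53_2 lc_j_rc_51_2 lc_j_rc_8_1) (@D3.rec (fun _ => (Cert rels S Gen.j)) lc_j_rc_17_1 lc_j_rc_17_1 lc_j_rc_25_1 lc_j_rc_25_1 lc_j_rc_51_2 lc_j_Cert_tree lc_j_rc_53_2 lc_j_rc_51_2 lc_j_rc_53_2 lc_j_rc_17_1 lc_j_rc_17_1 lc_j_rc_17_1 lc_j_Cert_tree lc_j_rc_25_1 lc_j_rc_25_1 lc_j_rc_32_1 lc_j_rc_52_0 lc_j_rc_53_2 lc_j_rc_51_2 lc_j_rc_32_1 lc_j_Cert_tree lc_j_rc_53_2 lc_j_rc_51_2 lc_j_rc_52_0 lc_j_rc_53_2 lc_j_rc_51_2 lc_j_rc_32_1 lc_j_rc_53_2 lc_j_rc_51_2 lc_j_rc_32_1 lc_j_rc_25_1 lc_j_rc_51_2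 lc_j_rc_25_1 lc_j_rc_25_3 lc_j_rc_32_1 lc_j_rc_17_1 lc_j_rc_25_1 lc_j_rc_25_1 lc_j_rc_53_2 lc_j_rc_51_2 lc_j_rc_8_1 lc_j_rc_17_1 lc_j_rc_17_1 lc_j_rc_32_1 lc_j_rc_25_1 lc_j_rc_51_2 lc_j_rc_51_2 lc_j_rc_8_1 lc_j_rc_17_1 lc_j_rc_51_2 lc_j_rc_8_1) (@D3.rec (fun _ => (Cert rels S Gen.j)) lc_j_rc_17_1 lc_j_rc_32_1 lc_j_rc_8_1 lc_j_rc_17_1 lc_j_rc_38_1 lc_j_rc_25_3 lc_j_rc_49_3 lc_j_rc_49_3 lc_j_rc_49_3 lc_j_rc_8_1 lc_j_rc_17_1 lc_j_rc_17_1 lc_j_rc_25_3 lc_j_rc_8_1 lc_j_rc_32_1 lc_j_rc_25_3 lc_j_rc_25_3 lc_j_rc_53_2 lc_j_rc_38_1 lc_j_rc_17_3 lc_j_rc_8_1 lc_j_rc_17_1 lc_j_rc_32_1 lc_j_rc_8_1 lc_j_rc_32_1 lc_j_rc_17_3 lc_j_rc_38_1 lc_j_rc_51_2 lc_j_rc_38_1 lc_j_rc_53_2 lc_j_rc_49_3 lc_j_rc_53_2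 lc_j_rc_51_2 lc_j_rc_32_1 lc_j_rc_53_2 lc_j_rc_53_2 lc_j_rc_25_1 lc_j_rc_25_3 lc_j_rc_25_1 lc_j_rc_17_3 lc_j_rc_38_1 lc_j_rc_53_0 lc_j_rc_8_1 lc_j_rc_32_1 lc_j_rc_53_2 lc_j_rc_25_1 lc_j_rc_32_1 lc_j_rc_53_2 lc_j_rc_53_2 lc_j_rc_25_1 lc_j_rc_53_2) (@D3.rec (fun _ => (Cert rels S Gen.j)) lc_j_rc_17_1 lc_j_rc_53_0 lc_j_rc_25_1 lc_j_rc_25_3 lc_j_rc_17_1 lc_j_rc_25_1 lc_j_rc_32_3 lc_j_rc_17_1 lc_j_rc_53_2 lc_j_rc_25_1 lc_j_rc_17_1 lc_j_rc_32_3 lc_j_rc_53_0 lc_j_rc_49_3 lc_j_rc_17_1 lc_j_rc_17_1 lc_j_rc_49_3 lc_j_rc_8_1 lc_j_rc_32_1 lc_j_rc_51_2 lc_j_rc_17_1 lc_j_rc_53_0 lc_j_rc_51_2 lc_j_rc_38_1 lc_j_rc_53_0 lc_j_rc_32_1 lc_j_rc_32_1 lc_j_rc_8_1 lc_j_rc_17_1 lc_j_rc_32_1 lc_j_rc_8_1 lc_j_rc_32_1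 lc_j_rc_38_1 lc_j_rc_25_3 lc_j_rc_38_1 lc_j_rc_8_1 lc_j_rc_32_1 lc_j_rc_8_1 lc_j_rc_51_2 lc_j_rc_53_2 lc_j_rc_32_1 lc_j_rc_17_1 lc_j_rc_17_1 lc_j_rc_8_1 lc_j_rc_8_1 lc_j_rc_8_1 lc_j_rc_53_2 lc_j_rc_8_1 lc_j_rc_53_2 lc_j_rc_8_1 lc_j_rc_8_1) (@D3.rec (fun _ => (Cert rels S Gen.j)) lc_j_rc_51_2 lc_j_rc_8_3 lc_j_rc_17_1 lc_j_rc_25_1 lc_j_rc_25_1 lc_j_rc_45_1 lc_j_rc_38_1 lc_j_rc_51_2 lc_j_rc_45_1 lc_j_rc_52_0 lc_j_rc_51_2 lc_j_rc_25_1 lc_j_rc_8_3 lc_j_rc_17_1 lc_j_rc_8_1 lc_j_rc_51_2 lc_j_rc_49_1 lc_j_rc_53_2 lc_j_rc_32_1 lc_j_rc_53_2 lc_j_rc_8_3 lc_j_rc_53_2 lc_j_rc_53_2 lc_j_rc_53_2 lc_j_rc_51_2 lc_j_rc_53_2 lc_j_rc_45_1 lc_j_rc_49_1 lc_j_rc_53_2 lc_j_rc_17_1 lc_j_rc_8_3 lc_j_rc_53_2 lc_j_rc_49_1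 lc_j_rc_53_2 lc_j_rc_8_1 lc_j_rc_8_1 lc_j_rc_45_1 lc_j_rc_53_2 lc_j_rc_49_3 lc_j_rc_32_1 lc_j_rc_53_2 lc_j_rc_53_2 lc_j_rc_53_2 lc_j_rc_25_3 lc_j_rc_49_5 lc_j_rc_53_2 lc_j_rc_8_1 lc_j_rc_17_1 lc_j_rc_8_3 lc_j_rc_53_2 lc_j_rc_49_3) (@D3.rec (fun _ => (Cert rels S Gen.j)) lc_j_rc_32_1 lc_j_rc_53_2 lc_j_rc_25_1 lc_j_rc_38_1 lc_j_rc_53_2 lc_j_rc_25_1 lc_j_rc_53_2 lc_j_rc_17_1 lc_j_rc_49_1 lc_j_rc_25_1 lc_j_rc_49_1 lc_j_rc_8_3 lc_j_rc_51_2 lc_j_rc_17_1 lc_j_rc_17_1 lc_j_rc_25_1 lc_j_rc_25_1 lc_j_rc_25_1 lc_j_Cert_tree lc_j_rc_45_1 lc_j_rc_51_2 lc_j_rc_52_1 lc_j_rc_53_2 lc_j_rc_52_0 lc_j_rc_53_2 lc_j_rc_53_2 lc_j_rc_53_2 lc_j_rc_25_1 lc_j_rc_53_2 lc_j_rc_49_3 lc_j_rc_25_1 lc_j_rc_25_1 lc_j_rc_53_2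 lc_j_rc_17_1 lc_j_rc_25_1 lc_j_rc_17_1 lc_j_rc_8_3 lc_j_rc_45_1 lc_j_rc_25_3 lc_j_rc_49_3 lc_j_rc_53_2 lc_j_rc_8_1 lc_j_rc_17_1 lc_j_rc_8_1 lc_j_rc_53_2 lc_j_rc_45_1 lc_j_rc_53_2 lc_j_rc_17_3 lc_j_rc_45_1 lc_j_rc_25_3 lc_j_rc_17_3) (@D3.rec (fun _ => (Cert rels S Gen.j)) lc_j_rc_8_1 lc_j_rc_17_1 lc_j_rc_32_1 lc_j_rc_38_3 lc_j_rc_51_2 lc_j_rc_32_1 lc_j_rc_53_2 lc_j_rc_32_1 lc_j_rc_53_2 lc_j_rc_53_2 lc_j_rc_17_1 lc_j_rc_32_1 lc_j_rc_53_2 lc_j_rc_32_1 lc_j_rc_38_1 lc_j_rc_53_2 lc_j_rc_25_1 lc_j_rc_53_2 lc_j_rc_17_1 lc_j_rc_25_1 lc_j_rc_51_2 lc_j_rc_8_1 lc_j_rc_17_1 lc_j_rc_25_1 lc_j_rc_17_1 lc_j_rc_8_3 lc_j_rc_25_3 lc_j_rc_17_1 lc_j_rc_25_1 lc_j_rc_51_2 lc_j_rc_8_1 lc_j_rc_17_1 lc_j_rc_51_2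 lc_j_rc_8_1 lc_j_rc_17_1 lc_j_rc_32_1 lc_j_rc_38_1 lc_j_rc_25_3 lc_j_rc_17_3 lc_j_rc_8_1 lc_j_rc_17_1 lc_j_rc_51_2 lc_j_rc_8_1 lc_j_rc_17_1 lc_j_rc_51_2 lc_j_rc_8_1 lc_j_rc_17_1 lc_j_rc_38_1 lc_j_rc_38_1 lc_j_rc_51_2 lc_j_rc_51_2)
def ce_j_11 : D2 → D3 → (Cert rels S Gen.j) := @D2.rec (fun _ => D3 → (Cert rels S Gen.j)) (@D3.rec (fun _ => (Cert rels S Gen.j)) lc_j_rc_32_1 lc_j_rc_53_2 lc_j_rc_32_1 lc_j_rc_53_2 lc_j_rc_53_2 lc_j_rc_17_1 lc_j_rc_38_3 lc_j_rc_45_3 lc_j_rc_32_1 lc_j_rc_53_2 lc_j_rc_25_1 lc_j_rc_53_2 lc_j_rc_8_1 lc_j_rc_8_1 lc_j_rc_8_1 lc_j_rc_32_1 lc_j_rc_53_2 lc_j_rc_25_1 lc_j_rc_38_1 lc_j_rc_53_2 lc_j_rc_25_1 lc_j_rc_38_1 lc_j_rc_53_2 lc_j_rc_17_1 lc_j_rc_25_1 lc_j_rc_25_1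 lc_j_rc_45_1 lc_j_rc_53_2 lc_j_rc_51_2 lc_j_rc_17_1 lc_j_rc_8_1 lc_j_rc_8_1 lc_j_rc_8_1 lc_j_rc_45_1 lc_j_rc_53_2 lc_j_rc_53_2 lc_j_rc_25_3 lc_j_rc_8_1 lc_j_rc_25_1 lc_j_rc_38_1 lc_j_rc_53_2 lc_j_rc_17_1 lc_j_rc_25_1 lc_j_rc_25_1 lc_j_rc_53_2 lc_j_rc_51_2 lc_j_rc_17_1 lc_j_rc_25_1 lc_j_rc_51_2 lc_j_rc_8_1 lc_j_rc_17_1) (@D3.rec (fun _ => (Cert rels S Gen.j)) lc_j_rc_51_2 lc_j_rc_53_2 lc_j_rc_17_1 lc_j_rc_8_1 lc_j_rc_38_3 lc_j_rc_51_0 lc_j_rc_49_3 lc_j_rc_32_1 lc_j_rc_53_2 lc_j_rc_25_1 lc_j_rc_38_1 lc_j_rc_53_2 lc_j_rc_25_1 lc_j_rc_53_2 lc_j_rc_17_1 lc_j_rc_17_3 lc_j_rc_25_1 lc_j_rc_45_1 lc_j_rc_53_2 lc_j_rc_51_2 lc_j_rc_17_1 lc_j_rc_17_1 lc_j_rc_25_1 lc_j_rc_25_1 lc_j_Cert_tree lc_j_rc_17_1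 lc_j_rc_17_1 lc_j_rc_32_1 lc_j_rc_25_1 lc_j_rc_25_1 lc_j_rc_38_1 lc_j_rc_53_2 lc_j_rc_17_1 lc_j_rc_25_1 lc_j_rc_25_1 lc_j_rc_45_1 lc_j_rc_53_2 lc_j_rc_51_2 lc_j_rc_17_1 lc_j_rc_25_1 lc_j_rc_25_1 lc_j_rc_45_1 lc_j_rc_53_2 lc_j_rc_51_2 lc_j_rc_8_1 lc_j_rc_17_1 lc_j_rc_17_1 lc_j_rc_25_1 lc_j_rc_25_1 lc_j_rc_51_2 lc_j_Cert_tree) (@D3.rec (fun _ => (Cert rels S Gen.j)) lc_j_rc_53_2 lc_j_rc_51_2 lc_j_rc_17_1 lc_j_rc_53_2 lc_j_rc_17_1 lc_j_rc_17_1 lc_j_rc_17_1 lc_j_Cert_tree lc_j_rc_25_1 lc_j_rc_25_1 lc_j_rc_32_1 lc_j_rc_52_0 lc_j_rc_53_2 lc_j_rc_17_1 lc_j_rc_53_2 lc_j_rc_52_0 lc_j_rc_53_2 lc_j_rc_53_2 lc_j_rc_8_3 lc_j_rc_25_3 lc_j_rc_17_1 lc_j_rc_25_1 lc_j_rc_25_1 lc_j_rc_53_2 lc_j_rc_51_2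 lc_j_rc_8_1 lc_j_rc_53_0 lc_j_rc_17_1 lc_j_rc_32_1 lc_j_rc_25_1 lc_j_rc_51_2 lc_j_rc_51_2 lc_j_rc_8_1 lc_j_rc_17_1 lc_j_rc_51_2 lc_j_rc_8_1 lc_j_rc_17_1 lc_j_rc_32_1 lc_j_rc_8_1 lc_j_rc_17_1 lc_j_rc_38_1 lc_j_rc_17_3 lc_j_rc_17_1 lc_j_rc_25_1 lc_j_rc_51_2 lc_j_rc_51_2 lc_j_rc_32_1 lc_j_rc_17_1 lc_j_rc_17_1 lc_j_rc_32_1 lc_j_rc_51_2) (@D3.rec (fun _ => (Cert rels S Gen.j)) lc_j_rc_32_1 lc_j_rc_8_1 lc_j_rc_17_1 lc_j_rc_8_1 lc_j_rc_25_3 lc_j_rc_8_1 lc_j_rc_8_1 lc_j_rc_32_1 lc_j_rc_45_1 lc_j_rc_25_1 lc_j_rc_8_1 lc_j_rc_17_1 lc_j_rc_25_1 lc_j_rc_8_1 lc_j_rc_25_1 lc_j_rc_53_2 lc_j_rc_53_2 lc_j_rc_25_1 lc_j_rc_25_1 lc_j_rc_38_1 lc_j_rc_51_2 lc_j_rc_25_1 lc_j_rc_25_1 lc_j_rc_8_1 lc_j_rc_17_1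 lc_j_rc_45_3 lc_j_rc_53_2 lc_j_rc_53_2 lc_j_rc_25_1 lc_j_rc_8_1 lc_j_rc_45_1 lc_j_rc_53_2 lc_j_rc_25_1 lc_j_rc_25_1 lc_j_rc_17_1 lc_j_rc_25_1 lc_j_rc_53_2 lc_j_rc_45_1 lc_j_rc_32_1 lc_j_rc_17_1 lc_j_rc_25_3 lc_j_rc_32_1 lc_j_rc_53_2 lc_j_rc_25_3 lc_j_rc_8_1 lc_j_rc_17_1 lc_j_rc_17_1 lc_j_rc_25_1 lc_j_rc_25_1 lc_j_rc_25_1 lc_j_rc_38_3) (@D3.rec (fun _ => (Cert rels S Gen.j)) lc_j_rc_45_1 lc_j_rc_51_2 lc_j_rc_52_0 lc_j_rc_51_2 lc_j_rc_53_2 lc_j_rc_53_2 lc_j_rc_25_3 lc_j_rc_53_2 lc_j_rc_8_1 lc_j_rc_8_1 lc_j_rc_17_1 lc_j_rc_32_1 lc_j_rc_17_3 lc_j_rc_17_1 lc_j_rc_53_2 lc_j_rc_25_3 lc_j_rc_8_1 lc_j_rc_45_1 lc_j_rc_49_1 lc_j_rc_53_2 lc_j_rc_8_1 lc_j_rc_51_2 lc_j_rc_32_1 lc_j_rc_53_2 lc_j_rc_32_1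 lc_j_rc_53_2 lc_j_rc_25_1 lc_j_rc_53_2 lc_j_rc_25_1 lc_j_rc_8_1 lc_j_rc_53_2 lc_j_rc_49_3 lc_j_rc_25_3 lc_j_rc_32_3 lc_j_rc_25_1 lc_j_rc_49_1 lc_j_rc_17_1 lc_j_rc_17_1 lc_j_rc_25_1 lc_j_rc_17_1 lc_j_rc_53_2 lc_j_rc_25_1 lc_j_rc_53_2 lc_j_rc_8_3 lc_j_rc_25_1 lc_j_rc_53_2 lc_j_rc_53_2 lc_j_rc_32_1 lc_j_rc_53_2 lc_j_rc_8_3 lc_j_rc_38_1) (@D3.rec (fun _ => (Cert rels S Gen.j)) lc_j_rc_53_2 lc_j_rc_53_2 lc_j_rc_17_1 lc_j_rc_17_1 lc_j_rc_17_3 lc_j_rc_53_2 lc_j_rc_51_2 lc_j_rc_45_3 lc_j_rc_17_1 lc_j_rc_8_3 lc_j_rc_25_1 lc_j_rc_25_1 lc_j_rc_51_2 lc_j_rc_53_2 lc_j_rc_38_1 lc_j_rc_8_3 lc_j_rc_38_1 lc_j_rc_38_3 lc_j_rc_49_1 lc_j_rc_53_2 lc_j_rc_45_3 lc_j_rc_32_1 lc_j_rc_38_1 lc_j_rc_32_3 lc_j_rc_8_3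 lc_j_rc_17_3 lc_j_rc_49_5 lc_j_rc_53_2 lc_j_rc_38_1 lc_j_rc_53_2 lc_j_rc_49_1 lc_j_rc_25_1 lc_j_rc_8_1 lc_j_rc_8_1 lc_j_rc_32_1 lc_j_rc_53_2 lc_j_rc_45_1 lc_j_rc_38_1 lc_j_rc_53_2 lc_j_rc_53_2 lc_j_rc_53_2 lc_j_rc_51_2 lc_j_rc_32_1 lc_j_rc_53_2 lc_j_rc_25_1 lc_j_rc_49_3 lc_j_rc_8_1 lc_j_rc_53_2 lc_j_rc_53_2 lc_j_rc_25_1 lc_j_rc_51_2) (@D3.rec (fun _ => (Cert rels S Gen.j)) lc_j_rc_51_2 lc_j_rc_17_1 lc_j_rc_53_2 lc_j_rc_17_1 lc_j_rc_32_1 lc_j_rc_8_3 lc_j_rc_38_1 lc_j_rc_53_2 lc_j_rc_49_1 lc_j_rc_53_2 lc_j_rc_38_1 lc_j_rc_45_1 lc_j_rc_17_1 lc_j_rc_32_1 lc_j_rc_53_2 lc_j_rc_25_1 lc_j_rc_51_2 lc_j_rc_32_3 lc_j_rc_32_1 lc_j_rc_25_1 lc_j_rc_25_1 lc_j_rc_38_1 lc_j_rc_53_2 lc_j_rc_17_1 lc_j_rc_25_1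 lc_j_rc_25_1 lc_j_rc_25_3 lc_j_rc_53_2 lc_j_rc_51_2 lc_j_rc_17_1 lc_j_rc_25_1 lc_j_rc_51_2 lc_j_rc_38_1 lc_j_rc_49_1 lc_j_rc_17_1 lc_j_rc_8_1 lc_j_rc_53_2 lc_j_rc_51_2 lc_j_Cert_tree lc_j_rc_53_2 lc_j_rc_25_3 lc_j_rc_32_1 lc_j_rc_8_1 lc_j_rc_45_1 lc_j_rc_17_1 lc_j_rc_17_1 lc_j_rc_49_1 lc_j_rc_25_1 lc_j_rc_25_1 lc_j_rc_32_1 lc_j_rc_52_0) (@D3.rec (fun _ => (Cert rels S Gen.j)) lc_j_rc_53_2 lc_j_rc_51_2 lc_j_rc_52_0 lc_j_rc_53_2 lc_j_rc_53_2 lc_j_rc_8_3 lc_j_rc_53_2 lc_j_rc_17_1 lc_j_rc_25_1 lc_j_rc_53_2 lc_j_rc_51_2 lc_j_rc_45_1 lc_j_rc_32_3 lc_j_rc_17_1 lc_j_rc_45_1 lc_j_rc_53_2 lc_j_rc_51_2 lc_j_rc_25_3 lc_j_rc_17_1 lc_j_rc_51_2 lc_j_rc_53_2 lc_j_rc_17_1 lc_j_rc_32_1 lc_j_rc_8_1 lc_j_rc_17_1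 lc_j_rc_38_1 lc_j_rc_45_1 lc_j_rc_8_1 lc_j_rc_17_1 lc_j_rc_17_1 lc_j_rc_25_1 lc_j_rc_51_2 lc_j_rc_25_1 lc_j_rc_8_1 lc_j_rc_25_1 lc_j_rc_17_1 lc_j_rc_17_1 lc_j_rc_53_2 lc_j_rc_49_3 lc_j_rc_8_1 lc_j_rc_17_1 lc_j_rc_8_1 lc_j_rc_32_1 lc_j_rc_25_1 lc_j_rc_25_3 lc_j_rc_8_3 lc_j_rc_8_3 lc_j_rc_17_3 lc_j_rc_8_1 lc_j_rc_32_1 lc_j_rc_53_2) (@D3.rec (fun _ => (Cert rels S Gen.j)) lc_j_rc_38_1 lc_j_rc_53_2 lc_j_rc_53_2 lc_j_rc_51_2 lc_j_rc_8_1 lc_j_rc_8_3 lc_j_rc_49_5 lc_j_rc_49_3 lc_j_rc_32_1 lc_j_rc_53_2 lc_j_rc_38_1 lc_j_rc_53_2 lc_j_rc_38_1 lc_j_rc_53_2 lc_j_rc_32_1 lc_j_rc_53_2 lc_j_rc_51_2 lc_j_rc_53_2 lc_j_rc_32_1 lc_j_rc_25_1 lc_j_rc_25_1 lc_j_rc_38_1 lc_j_rc_53_2 lc_j_rc_17_1 lc_j_rc_25_1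 lc_j_rc_25_1 lc_j_rc_45_1 lc_j_rc_53_2 lc_j_rc_51_2 lc_j_rc_17_1 lc_j_rc_25_1 lc_j_rc_25_1 lc_j_rc_45_1 lc_j_rc_53_2 lc_j_rc_51_2 lc_j_rc_17_1 lc_j_rc_17_1 lc_j_rc_25_1 lc_j_rc_25_1 lc_j_rc_51_2 lc_j_rc_53_2 lc_j_rc_51_2 lc_j_rc_17_1 lc_j_rc_17_1 lc_j_rc_25_1 lc_j_rc_25_3 lc_j_rc_53_2 lc_j_rc_25_1 lc_j_rc_32_1 lc_j_rc_17_1 lc_j_rc_25_1) (@D3.rec (fun _ => (Cert rels S Gen.j)) lc_j_rc_25_1 lc_j_rc_53_2 lc_j_rc_49_3 lc_j_rc_38_1 lc_j_rc_17_1 lc_j_rc_32_1 lc_j_rc_25_1 lc_j_rc_8_1 lc_j_rc_17_1 lc_j_rc_8_1 lc_j_rc_17_1 lc_j_rc_8_1 lc_j_rc_38_1 lc_j_rc_25_3 lc_j_rc_8_1 lc_j_rc_17_1 lc_j_rc_8_1 lc_j_rc_25_3 lc_j_rc_45_3 lc_j_rc_53_2 lc_j_rc_38_3 lc_j_rc_51_0 lc_j_rc_32_1 lc_j_rc_53_2 lc_j_rc_38_1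 lc_j_rc_53_2 lc_j_rc_53_2 lc_j_rc_51_2 lc_j_rc_8_1 lc_j_rc_8_1 lc_j_rc_25_1 lc_j_rc_38_1 lc_j_rc_53_2 lc_j_rc_17_1 lc_j_rc_25_1 lc_j_rc_25_1 lc_j_rc_53_2 lc_j_rc_51_2 lc_j_rc_17_1 lc_j_rc_25_1 lc_j_rc_51_2 lc_j_rc_8_1 lc_j_rc_17_1 lc_j_rc_51_2 lc_j_rc_53_2 lc_j_rc_17_1 lc_j_rc_25_1 lc_j_rc_8_1 lc_j_rc_17_1 lc_j_rc_25_1 lc_j_rc_25_1) (@D3.rec (fun _ => (Cert rels S Gen.j)) lc_j_rc_53_2 lc_j_rc_53_0 lc_j_rc_32_3 lc_j_rc_17_1 lc_j_rc_25_1 lc_j_rc_25_1 lc_j_rc_8_1 lc_j_rc_17_1 lc_j_rc_8_1 lc_j_rc_53_2 lc_j_rc_49_5 lc_j_rc_45_1 lc_j_rc_53_2 lc_j_rc_49_3 lc_j_rc_53_2 lc_j_rc_25_1 lc_j_rc_38_1 lc_j_rc_53_2 lc_j_rc_17_1 lc_j_rc_25_1 lc_j_rc_25_1 lc_j_rc_32_1 lc_j_rc_53_2 lc_j_rc_51_2 lc_j_rc_17_1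 lc_j_rc_25_1 lc_j_rc_25_1 lc_j_rc_53_2 lc_j_rc_51_2 lc_j_rc_8_1 lc_j_rc_17_1 lc_j_rc_17_1 lc_j_rc_45_1 lc_j_rc_25_1 lc_j_rc_51_2 lc_j_Cert_tree lc_j_rc_53_2 lc_j_rc_51_2 lc_j_rc_53_2 lc_j_rc_17_1 lc_j_rc_17_1 lc_j_Cert_tree lc_j_rc_25_1 lc_j_rc_25_1 lc_j_rc_52_0 lc_j_rc_53_2 lc_j_rc_53_2 lc_j_rc_25_1 lc_j_rc_38_1 lc_j_rc_32_1 lc_j_rc_17_1) (@D3.rec (fun _ => (Cert rels S Gen.j)) lc_j_rc_25_1 lc_j_rc_25_1 lc_j_rc_45_1 lc_j_rc_53_2 lc_j_rc_51_2 lc_j_rc_32_1 lc_j_rc_17_1 lc_j_rc_17_1 lc_j_rc_32_1 lc_j_rc_25_1 lc_j_rc_25_1 lc_j_rc_51_2 lc_j_Cert_tree lc_j_rc_53_2 lc_j_rc_51_2 lc_j_rc_8_1 lc_j_rc_17_1 lc_j_rc_17_1 lc_j_rc_25_1 lc_j_rc_25_1 lc_j_rc_51_2 lc_j_Cert_tree lc_j_rc_53_2 lc_j_rc_51_2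 lc_j_rc_8_1 lc_j_rc_8_1 lc_j_rc_17_1 lc_j_rc_17_1 lc_j_rc_17_1 lc_j_Cert_tree lc_j_rc_25_1 lc_j_rc_51_2 lc_j_rc_32_1 lc_j_rc_52_0 lc_j_rc_53_2 lc_j_rc_51_2 lc_j_rc_53_2 lc_j_rc_8_1 lc_j_Cert_tree lc_j_rc_17_1 lc_j_rc_17_1 lc_j_rc_17_1 lc_j_rc_52_0 lc_j_rc_53_2 lc_j_rc_25_1 lc_j_rc_32_1 lc_j_rc_38_1 lc_j_rc_53_2 lc_j_rc_51_2 lc_j_rc_52_0 lc_j_rc_53_2) (@D3.rec (fun _ => (Cert rels S Gen.j)) lc_j_rc_53_2 lc_j_rc_25_1 lc_j_rc_17_1 lc_j_rc_32_1 lc_j_rc_25_1 lc_j_rc_51_2 lc_j_rc_45_3 lc_j_rc_25_1 lc_j_rc_17_1 lc_j_rc_32_1 lc_j_rc_32_1 lc_j_rc_8_1 lc_j_rc_32_1 lc_j_rc_45_1 lc_j_rc_53_2 lc_j_rc_38_1 lc_j_rc_49_3 lc_j_rc_53_2 lc_j_rc_38_3 lc_j_rc_53_2 lc_j_rc_8_1 lc_j_rc_53_0 lc_j_rc_38_3 lc_j_rc_17_1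 lc_j_rc_25_1 lc_j_rc_38_1 lc_j_rc_53_2 lc_j_rc_17_1 lc_j_rc_25_1 lc_j_rc_25_1 lc_j_rc_53_2 lc_j_rc_51_2 lc_j_rc_8_1 lc_j_rc_25_3 lc_j_rc_17_1 lc_j_rc_25_1 lc_j_rc_25_1 lc_j_rc_53_2 lc_j_rc_49_3 lc_j_rc_8_1 lc_j_rc_17_1 lc_j_rc_32_1 lc_j_rc_25_1 lc_j_rc_8_1 lc_j_rc_17_1 lc_j_rc_8_1 lc_j_rc_38_1 lc_j_rc_51_0 lc_j_rc_38_1 lc_j_rc_38_1 lc_j_rc_45_1) (@D3.rec (fun _ => (Cert rels S Gen.j)) lc_j_rc_32_1 lc_j_rc_17_1 lc_j_rc_25_1 lc_j_rc_8_1 lc_j_rc_8_1 lc_j_rc_8_1 lc_j_rc_17_1 lc_j_rc_38_1 lc_j_rc_51_2 lc_j_rc_8_1 lc_j_rc_17_1 lc_j_rc_32_1 lc_j_rc_32_1 lc_j_rc_17_1 lc_j_rc_32_1 lc_j_rc_8_1 lc_j_rc_32_1 lc_j_rc_38_1 lc_j_rc_8_1 lc_j_rc_25_1 lc_j_rc_17_1 lc_j_rc_53_2 lc_j_rc_25_1 lc_j_rc_17_1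 lc_j_rc_17_1 lc_j_rc_8_3 lc_j_rc_38_1 lc_j_rc_8_1 lc_j_rc_53_2 lc_j_rc_17_1 lc_j_rc_8_1 lc_j_rc_53_2 lc_j_rc_8_1 lc_j_rc_49_1 lc_j_rc_53_2 lc_j_rc_53_2 lc_j_rc_45_1 lc_j_rc_52_1 lc_j_rc_53_2 lc_j_rc_53_2 lc_j_rc_53_2 lc_j_rc_53_2 lc_j_rc_53_2 lc_j_rc_25_1 lc_j_rc_53_2 lc_j_rc_8_1 lc_j_rc_17_1 lc_j_rc_53_2 lc_j_rc_8_1 lc_j_rc_17_1 lc_j_rc_17_1) (@D3.rec (fun _ => (Cert rels S Gen.j)) lc_j_rc_32_1 lc_j_rc_38_1 lc_j_rc_8_1 lc_j_rc_25_1 lc_j_rc_17_1 lc_j_rc_45_1 lc_j_rc_17_1 lc_j_rc_32_1 lc_j_rc_25_1 lc_j_rc_25_1 lc_j_rc_25_3 lc_j_rc_32_1 lc_j_rc_17_3 lc_j_rc_8_1 lc_j_rc_32_1 lc_j_rc_38_1 lc_j_rc_8_1 lc_j_rc_25_1 lc_j_rc_38_1 lc_j_rc_45_1 lc_j_rc_38_1 lc_j_rc_25_1 lc_j_rc_8_1 lc_j_rc_32_1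 lc_j_rc_17_3 lc_j_rc_32_1 lc_j_rc_17_1 lc_j_rc_8_3 lc_j_rc_8_1 lc_j_rc_17_1 lc_j_rc_51_2 lc_j_rc_8_1 lc_j_rc_17_1 lc_j_rc_32_1 lc_j_rc_8_1 lc_j_rc_17_1 lc_j_rc_38_1 lc_j_rc_17_1 lc_j_rc_51_2 lc_j_rc_25_1 lc_j_rc_51_0 lc_j_rc_51_2 lc_j_rc_17_1 lc_j_rc_53_2 lc_j_rc_32_1 lc_j_rc_32_1 lc_j_rc_32_1 lc_j_rc_38_1 lc_j_rc_51_2 lc_j_rc_32_1 lc_j_rc_17_1) (@D3.rec (fun _ => (Cert rels S Gen.j)) lc_j_rc_17_1 lc_j_rc_17_1 lc_j_rc_17_1 lc_j_rc_17_1 lc_j_rc_53_2 lc_j_rc_32_3 lc_j_rc_53_2 lc_j_rc_8_1 lc_j_rc_17_1 lc_j_rc_25_3 lc_j_rc_25_3 lc_j_rc_32_1 lc_j_rc_8_1 lc_j_rc_17_1 lc_j_rc_17_1 lc_j_rc_25_1 lc_j_rc_51_2 lc_j_rc_51_2 lc_j_rc_8_1 lc_j_rc_38_1 lc_j_rc_32_1 lc_j_rc_8_1 lc_j_rc_17_1 lc_j_rc_38_1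 lc_j_rc_52_0 lc_j_rc_53_2 lc_j_rc_51_2 lc_j_rc_32_1 lc_j_rc_17_1 lc_j_rc_53_2 lc_j_rc_32_1 lc_j_rc_8_3 lc_j_rc_53_2 lc_j_rc_8_1 lc_j_rc_52_0 lc_j_rc_53_2 lc_j_rc_17_1 lc_j_rc_17_1 lc_j_rc_53_2 lc_j_rc_25_1 lc_j_rc_32_1 lc_j_rc_38_1 lc_j_rc_53_2 lc_j_rc_53_2 lc_j_rc_17_1 lc_j_rc_17_1 lc_j_rc_51_0 lc_j_rc_32_3 lc_j_rc_8_1 lc_j_rc_17_1 lc_j_rc_53_2) (@D3.rec (fun _ => (Cert rels S Gen.j)) lc_j_rc_8_1 lc_j_rc_25_1 lc_j_rc_53_0 lc_j_rc_52_0 lc_j_rc_53_2 lc_j_rc_53_2 lc_j_rc_38_1 lc_j_rc_38_1 lc_j_rc_8_3 lc_j_rc_45_3 lc_j_rc_25_1 lc_j_rc_51_2 lc_j_rc_17_1 lc_j_rc_51_2 lc_j_rc_25_3 lc_j_rc_45_1 lc_j_rc_51_2 lc_j_rc_25_3 lc_j_rc_53_2 lc_j_rc_8_1 lc_j_rc_25_3 lc_j_rc_53_2 lc_j_rc_25_3 lc_j_rc_52_0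 lc_j_rc_53_2 lc_j_rc_51_2 lc_j_rc_32_1 lc_j_rc_25_1 lc_j_rc_17_1 lc_j_rc_52_0 lc_j_rc_53_2 lc_j_rc_8_1 lc_j_rc_8_1 lc_j_Cert_tree lc_j_rc_25_3 lc_j_rc_25_3 lc_j_rc_52_0 lc_j_rc_53_2 lc_j_rc_25_1 lc_j_rc_53_2 lc_j_rc_51_2 lc_j_rc_32_1 lc_j_rc_25_1 lc_j_rc_17_1 lc_j_rc_8_1 lc_j_rc_17_1 lc_j_rc_45_3 lc_j_rc_25_1 lc_j_rc_17_3 lc_j_rc_8_1 lc_j_rc_17_1) (@D3.rec (fun _ => (Cert rels S Gen.j)) lc_j_rc_51_2 lc_j_rc_8_1 lc_j_rc_17_1 lc_j_rc_32_1 lc_j_rc_8_1 lc_j_rc_17_1 lc_j_rc_38_1 lc_j_rc_51_2 lc_j_rc_53_2 lc_j_rc_51_2 lc_j_rc_32_1 lc_j_rc_53_2 lc_j_rc_25_1 lc_j_rc_38_1 lc_j_rc_32_1 lc_j_rc_32_1 lc_j_rc_8_3 lc_j_rc_53_2 lc_j_rc_38_1 lc_j_rc_51_2 lc_j_rc_25_1 lc_j_rc_17_1 lc_j_rc_17_1 lc_j_rc_17_1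 lc_j_rc_8_1 lc_j_rc_8_3 lc_j_rc_8_1 lc_j_rc_8_1 lc_j_rc_51_2 lc_j_rc_32_1 lc_j_rc_53_2 lc_j_rc_51_2 lc_j_rc_53_2 lc_j_rc_53_2 lc_j_rc_25_1 lc_j_rc_45_1 lc_j_rc_38_1 lc_j_rc_51_2 lc_j_rc_17_3 lc_j_rc_45_1 lc_j_rc_51_2 lc_j_rc_52_0 lc_j_rc_53_2 lc_j_rc_51_2 lc_j_rc_52_0 lc_j_rc_17_3 lc_j_rc_49_1 lc_j_rc_53_2 lc_j_rc_38_3 lc_j_rc_51_2 lc_j_rc_53_2) (@D3.rec (fun _ => (Cert rels S Gen.j)) lc_j_rc_45_1 lc_j_rc_51_2 lc_j_rc_32_1 lc_j_rc_53_2 lc_j_rc_32_1 lc_j_rc_53_2 lc_j_rc_51_0 lc_j_rc_38_1 lc_j_rc_53_2 lc_j_rc_45_1 lc_j_rc_25_1 lc_j_rc_25_1 lc_j_rc_38_1 lc_j_rc_51_2 lc_j_rc_38_1 lc_j_rc_53_2 lc_j_rc_45_1 lc_j_rc_53_2 lc_j_rc_17_3 lc_j_rc_51_2 lc_j_rc_53_2 lc_j_rc_49_3 lc_j_rc_53_2 lc_j_rc_45_1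 lc_j_rc_8_1 lc_j_rc_45_1 lc_j_rc_53_2 lc_j_rc_8_1 lc_j_rc_45_1 lc_j_rc_53_2 lc_j_rc_53_2 lc_j_rc_8_3 lc_j_rc_52_0 lc_j_rc_52_0 lc_j_rc_8_3 lc_j_rc_49_1 lc_j_rc_53_2 lc_j_rc_32_1 lc_j_rc_17_1 lc_j_rc_53_2 lc_j_rc_8_3 lc_j_rc_8_3 lc_j_rc_8_3 lc_j_rc_8_3 lc_j_rc_53_2 lc_j_rc_32_1 lc_j_rc_53_2 lc_j_rc_8_1 lc_j_rc_38_3 lc_j_rc_53_2 lc_j_rc_8_1) (@D3.rec (fun _ => (Cert rels S Gen.j)) lc_j_rc_52_0 lc_j_rc_53_2 lc_j_rc_8_1 lc_j_rc_51_2 lc_j_rc_32_1 lc_j_rc_53_2 lc_j_rc_32_1 lc_j_rc_53_2 lc_j_rc_38_1 lc_j_rc_53_2 lc_j_rc_17_3 lc_j_rc_53_2 lc_j_rc_53_2 lc_j_rc_32_1 lc_j_rc_53_2 lc_j_rc_8_1 lc_j_rc_38_1 lc_j_rc_53_2 lc_j_rc_53_2 lc_j_rc_53_2 lc_j_rc_45_1 lc_j_rc_53_2 lc_j_rc_51_2 lc_j_rc_53_2 lc_j_rc_17_3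 lc_j_rc_53_2 lc_j_rc_25_1 lc_j_Cert_tree lc_j_rc_45_1 lc_j_rc_51_2 lc_j_Cert_tree lc_j_rc_53_2 lc_j_rc_17_3 lc_j_rc_52_0 lc_j_rc_53_2 lc_j_rc_51_2 lc_j_rc_32_1 lc_j_rc_53_2 lc_j_rc_32_1 lc_j_rc_53_2 lc_j_rc_52_0 lc_j_rc_52_1 lc_j_rc_32_1 lc_j_rc_51_2 lc_j_rc_32_1 lc_j_rc_53_2 lc_j_rc_32_1 lc_j_rc_53_2 lc_j_rc_25_1 lc_j_rc_38_1 lc_j_rc_53_2) (@D3.rec (fun _ => (Cert rels S Gen.j)) lc_j_rc_25_1 lc_j_rc_17_1 lc_j_rc_17_1 lc_j_rc_25_1 lc_j_rc_32_1 lc_j_rc_53_2 lc_j_rc_25_1 lc_j_rc_38_1 lc_j_rc_53_2 lc_j_rc_25_1 lc_j_rc_38_1 lc_j_rc_53_2 lc_j_rc_17_1 lc_j_rc_25_1 lc_j_rc_25_1 lc_j_rc_45_1 lc_j_rc_53_2 lc_j_rc_51_2 lc_j_rc_17_1 lc_j_rc_25_1 lc_j_rc_25_1 lc_j_rc_17_1 lc_j_rc_45_1 lc_j_rc_53_2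 lc_j_rc_51_2 lc_j_rc_53_2 lc_j_rc_51_2 lc_j_rc_32_1 lc_j_rc_53_2 lc_j_rc_25_1 lc_j_rc_53_2 lc_j_rc_53_0 lc_j_rc_8_3 lc_j_rc_25_1 lc_j_rc_25_3 lc_j_rc_51_2 lc_j_rc_25_1 lc_j_rc_51_2 lc_j_rc_8_1 lc_j_rc_51_2 lc_j_rc_8_1 lc_j_rc_17_1 lc_j_rc_32_1 lc_j_rc_25_1 lc_j_rc_51_2 lc_j_rc_32_1 lc_j_rc_38_3 lc_j_rc_17_3 lc_j_rc_51_2 lc_j_rc_17_3 lc_j_rc_51_2) (@D3.rec (fun _ => (Cert rels S Gen.j)) lc_j_rc_45_3 lc_j_rc_32_1 lc_j_rc_8_1 lc_j_rc_17_1 lc_j_rc_38_1 lc_j_rc_52_0 lc_j_rc_52_1 lc_j_rc_51_2 lc_j_rc_32_1 lc_j_rc_53_2 lc_j_rc_8_1 lc_j_rc_38_1 lc_j_rc_51_2 lc_j_rc_32_1 lc_j_rc_53_2 lc_j_rc_32_1 lc_j_rc_53_2 lc_j_rc_25_1 lc_j_rc_25_3 lc_j_rc_53_2 lc_j_rc_8_1 lc_j_rc_17_1 lc_j_rc_8_1 lc_j_rc_32_3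 lc_j_rc_53_2 lc_j_rc_8_3 lc_j_rc_25_1 lc_j_rc_17_1 lc_j_rc_49_3 lc_j_rc_51_2 lc_j_rc_32_1 lc_j_rc_53_2 lc_j_rc_32_1 lc_j_rc_53_2 lc_j_rc_17_3 lc_j_rc_17_3 lc_j_rc_53_2 lc_j_rc_8_1 lc_j_rc_8_1 lc_j_rc_8_1 lc_j_rc_8_1 lc_j_rc_32_1 lc_j_rc_53_2 lc_j_rc_17_3 lc_j_rc_38_1 lc_j_rc_53_2 lc_j_rc_53_2 lc_j_rc_53_2 lc_j_rc_45_1 lc_j_rc_53_2 lc_j_rc_51_2) (@D3.rec (fun _ => (Cert rels S Gen.j)) lc_j_rc_8_1 lc_j_Cert_tree lc_j_rc_8_1 lc_j_rc_8_1 lc_j_Cert_tree lc_j_rc_53_2 lc_j_rc_8_3 lc_j_rc_52_0 lc_j_rc_53_2 lc_j_rc_8_1 lc_j_rc_8_1 lc_j_rc_53_2 lc_j_rc_51_2 lc_j_rc_8_1 lc_j_rc_53_2 lc_j_rc_25_3 lc_j_rc_8_3 lc_j_rc_8_1 lc_j_rc_51_2 lc_j_rc_32_1 lc_j_rc_53_2 lc_j_rc_49_3 lc_j_rc_32_1 lc_j_rc_53_2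 lc_j_rc_25_1 lc_j_rc_38_1 lc_j_rc_53_2 lc_j_rc_25_1 lc_j_rc_38_1 lc_j_rc_53_2 lc_j_rc_17_1 lc_j_rc_17_3 lc_j_rc_25_1 lc_j_rc_45_1 lc_j_rc_53_2 lc_j_rc_51_2 lc_j_rc_17_1 lc_j_rc_25_1 lc_j_rc_25_1 lc_j_Cert_tree lc_j_rc_17_1 lc_j_rc_17_1 lc_j_rc_32_1 lc_j_rc_25_1 lc_j_rc_25_1 lc_j_rc_38_1 lc_j_rc_53_2 lc_j_rc_17_1 lc_j_rc_25_1 lc_j_rc_25_1 lc_j_rc_45_1) (@D3.rec (fun _ => (Cert rels S Gen.j)) lc_j_rc_53_2 lc_j_rc_51_2 lc_j_rc_17_1 lc_j_rc_25_1 lc_j_rc_45_1 lc_j_rc_53_2 lc_j_rc_51_2 lc_j_rc_8_1 lc_j_rc_25_3 lc_j_rc_17_1 lc_j_rc_25_1 lc_j_rc_53_2 lc_j_rc_51_2 lc_j_Cert_tree lc_j_rc_53_2 lc_j_rc_51_2 lc_j_rc_53_2 lc_j_rc_17_1 lc_j_rc_17_1 lc_j_Cert_tree lc_j_rc_25_1 lc_j_rc_25_1 lc_j_rc_32_1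 lc_j_rc_52_0 lc_j_rc_53_2 lc_j_rc_17_1 lc_j_rc_32_1 lc_j_Cert_tree lc_j_rc_53_2 lc_j_rc_51_2 lc_j_rc_52_0 lc_j_rc_53_2 lc_j_rc_51_2 lc_j_rc_32_1 lc_j_rc_53_2 lc_j_rc_51_2 lc_j_rc_32_1 lc_j_rc_25_1 lc_j_rc_51_2 lc_j_rc_17_1 lc_j_rc_25_1 lc_j_rc_51_2 lc_j_rc_8_1 lc_j_rc_17_1 lc_j_rc_17_1 lc_j_rc_32_1 lc_j_rc_8_1 lc_j_rc_51_2 lc_j_rc_25_3 lc_j_rc_8_1 lc_j_rc_17_1) (@D3.rec (fun _ => (Cert rels S Gen.j)) lc_j_rc_51_2 lc_j_rc_8_1 lc_j_rc_17_1 lc_j_rc_32_1 lc_j_rc_8_1 lc_j_rc_17_1 lc_j_rc_38_1 lc_j_rc_8_1 lc_j_rc_17_1 lc_j_rc_51_2 lc_j_rc_38_1 lc_j_rc_8_1 lc_j_rc_25_3 lc_j_rc_17_1 lc_j_rc_17_3 lc_j_rc_32_1 lc_j_rc_8_1 lc_j_rc_17_1 lc_j_rc_32_1 lc_j_rc_8_1 lc_j_rc_32_1 lc_j_rc_38_1 lc_j_rc_8_1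 lc_j_rc_8_1 lc_j_rc_8_1 lc_j_rc_38_1 lc_j_rc_51_2 lc_j_rc_51_2 lc_j_rc_25_1 lc_j_rc_51_2 lc_j_rc_53_2 lc_j_rc_17_3 lc_j_rc_17_1 lc_j_rc_25_1 lc_j_rc_52_0 lc_j_rc_52_1 lc_j_rc_17_1 lc_j_rc_17_1 lc_j_rc_51_2 lc_j_rc_53_2 lc_j_rc_52_0 lc_j_rc_49_3 lc_j_rc_8_1 lc_j_rc_8_1 lc_j_rc_52_0 lc_j_rc_52_1 lc_j_rc_51_2 lc_j_rc_32_1 lc_j_rc_53_2 lc_j_rc_25_1 lc_j_rc_8_1) (@D3.rec (fun _ => (Cert rels S Gen.j)) lc_j_rc_8_1 lc_j_rc_53_2 lc_j_rc_8_1 lc_j_rc_8_1 lc_j_rc_45_1 lc_j_rc_51_2 lc_j_rc_53_2 lc_j_rc_53_2 lc_j_rc_25_1 lc_j_rc_8_1 lc_j_rc_45_1 lc_j_rc_45_1 lc_j_rc_25_1 lc_j_rc_51_2 lc_j_rc_53_2 lc_j_rc_51_2 lc_j_rc_45_3 lc_j_rc_8_3 lc_j_rc_32_1 lc_j_rc_53_2 lc_j_rc_53_2 lc_j_rc_17_1 lc_j_rc_25_1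 lc_j_rc_45_1 lc_j_rc_38_1 lc_j_rc_49_5 lc_j_rc_53_2 lc_j_rc_8_3 lc_j_rc_45_1 lc_j_rc_51_2 lc_j_rc_51_2 lc_j_rc_53_2 lc_j_rc_8_3 lc_j_rc_17_1 lc_j_rc_25_1 lc_j_rc_8_1 lc_j_rc_17_1 lc_j_rc_17_1 lc_j_rc_17_1 lc_j_rc_32_1 lc_j_rc_53_2 lc_j_rc_25_1 lc_j_rc_17_1 lc_j_rc_51_2 lc_j_rc_32_1 lc_j_rc_53_2 lc_j_rc_25_1 lc_j_rc_8_1 lc_j_rc_8_1 lc_j_rc_53_0 lc_j_rc_45_3) (@D3.rec (fun _ => (Cert rels S Gen.j)) lc_j_rc_53_2 lc_j_rc_32_1 lc_j_rc_53_2 lc_j_rc_45_3 lc_j_rc_32_1 lc_j_rc_53_2 lc_j_rc_17_1 lc_j_rc_25_1 lc_j_rc_25_1 lc_j_rc_8_1 lc_j_rc_8_1 lc_j_rc_45_1 lc_j_rc_53_2 lc_j_rc_17_1 lc_j_rc_8_1 lc_j_rc_17_1 lc_j_rc_53_2 lc_j_rc_32_3 lc_j_rc_17_1 lc_j_rc_25_1 lc_j_rc_51_2 lc_j_rc_45_3 lc_j_rc_51_2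 lc_j_rc_32_1 lc_j_rc_53_2 lc_j_rc_8_3 lc_j_rc_49_3 lc_j_rc_53_2 lc_j_rc_17_1 lc_j_rc_25_1 lc_j_rc_25_1 lc_j_rc_51_2 lc_j_rc_53_2 lc_j_rc_53_2 lc_j_rc_17_1 lc_j_rc_53_2 lc_j_rc_53_2 lc_j_rc_17_1 lc_j_rc_8_3 lc_j_rc_53_2 lc_j_rc_51_2 lc_j_rc_8_1 lc_j_rc_17_1 lc_j_rc_17_1 lc_j_rc_25_1 lc_j_rc_25_1 lc_j_rc_25_1 lc_j_rc_32_3 lc_j_rc_45_1 lc_j_rc_51_2 lc_j_rc_17_1)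
def ce_j_12 : D2 → D3 → (Cert rels S Gen.j) := @D2.rec (fun _ => D3 → (Cert rels S Gen.j)) (@D3.rec (fun _ => (Cert rels S Gen.j)) lc_j_rc_52_0 lc_j_rc_53_2 lc_j_rc_51_2 lc_j_rc_32_1 lc_j_rc_45_3 lc_j_rc_8_1 lc_j_rc_17_1 lc_j_rc_32_1 lc_j_rc_8_1 lc_j_rc_17_1 lc_j_rc_53_2 lc_j_rc_8_1 lc_j_rc_53_2 lc_j_rc_8_1 lc_j_rc_45_1 lc_j_rc_53_2 lc_j_rc_25_3 lc_j_rc_53_2 lc_j_rc_51_2 lc_j_rc_8_1 lc_j_rc_32_1 lc_j_rc_53_2 lc_j_rc_53_2 lc_j_rc_17_3 lc_j_rc_53_2 lc_j_rc_25_1 lc_j_rc_53_2 lc_j_rc_17_1 lc_j_rc_38_1 lc_j_rc_45_3 lc_j_rc_25_1 lc_j_rc_51_2 lc_j_rc_53_2 lc_j_rc_25_1 lc_j_rc_53_2 lc_j_rc_17_1 lc_j_rc_38_1 lc_j_rc_8_1 lc_j_rc_45_1 lc_j_rc_52_0 lc_j_rc_52_1 lc_j_rc_51_2 lc_j_rc_32_1 lc_j_rc_53_2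 lc_j_rc_17_1 lc_j_rc_53_2 lc_j_rc_52_0 lc_j_rc_52_1 lc_j_rc_51_2 lc_j_rc_32_1 lc_j_rc_53_2) (@D3.rec (fun _ => (Cert rels S Gen.j)) lc_j_rc_25_1 lc_j_rc_8_1 lc_j_rc_8_1 lc_j_rc_49_3 lc_j_rc_51_2 lc_j_rc_32_1 lc_j_rc_53_2 lc_j_rc_32_1 lc_j_rc_53_2 lc_j_rc_32_1 lc_j_rc_32_1 lc_j_rc_53_2 lc_j_rc_32_1 lc_j_rc_25_1 lc_j_rc_8_1 lc_j_rc_8_1 lc_j_rc_45_1 lc_j_rc_53_2 lc_j_rc_8_3 lc_j_rc_8_1 lc_j_rc_49_3 lc_j_rc_53_2 lc_j_rc_45_1 lc_j_rc_53_2 lc_j_rc_53_2 lc_j_rc_8_3 lc_j_rc_53_2 lc_j_rc_25_1 lc_j_rc_38_3 lc_j_rc_51_2 lc_j_rc_32_1 lc_j_rc_53_2 lc_j_rc_32_1 lc_j_rc_53_2 lc_j_rc_51_2 lc_j_rc_51_2 lc_j_rc_53_2 lc_j_rc_17_1 lc_j_rc_45_1 lc_j_rc_25_1 lc_j_rc_51_2 lc_j_rc_53_2 lc_j_rc_53_2 lc_j_rc_49_3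 lc_j_rc_32_1 lc_j_rc_53_2 lc_j_rc_45_1 lc_j_rc_38_1 lc_j_rc_53_2 lc_j_rc_53_2 lc_j_rc_38_1) (@D3.rec (fun _ => (Cert rels S Gen.j)) lc_j_rc_53_2 lc_j_rc_45_1 lc_j_rc_53_2 lc_j_rc_51_2 lc_j_rc_32_1 lc_j_rc_32_1 lc_j_rc_17_1 lc_j_rc_32_1 lc_j_rc_53_2 lc_j_rc_25_1 lc_j_rc_38_3 lc_j_rc_45_1 lc_j_rc_51_2 lc_j_rc_51_2 lc_j_rc_45_1 lc_j_rc_53_2 lc_j_rc_25_1 lc_j_rc_53_2 lc_j_rc_51_2 lc_j_rc_32_1 lc_j_rc_17_3 lc_j_rc_53_2 lc_j_rc_38_1 lc_j_rc_53_2 lc_j_rc_8_1 lc_j_rc_38_1 lc_j_rc_53_2 lc_j_rc_53_2 lc_j_rc_51_2 lc_j_rc_51_2 lc_j_rc_53_2 lc_j_rc_25_1 lc_j_rc_53_2 lc_j_rc_17_1 lc_j_rc_32_1 lc_j_rc_53_2 lc_j_rc_51_2 lc_j_rc_49_3 lc_j_rc_38_1 lc_j_rc_53_2 lc_j_rc_38_1 lc_j_rc_45_1 lc_j_rc_38_1 lc_j_rc_17_1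 lc_j_rc_53_2 lc_j_rc_32_1 lc_j_rc_8_1 lc_j_rc_25_3 lc_j_rc_49_3 lc_j_rc_51_2 lc_j_rc_49_3) (@D3.rec (fun _ => (Cert rels S Gen.j)) lc_j_rc_53_2 lc_j_rc_17_1 lc_j_rc_51_2 lc_j_rc_32_1 lc_j_rc_53_2 lc_j_rc_32_1 lc_j_rc_53_2 lc_j_rc_49_3 lc_j_rc_53_2 lc_j_rc_17_1 lc_j_rc_25_1 lc_j_rc_17_1 lc_j_rc_52_0 lc_j_rc_52_1 lc_j_rc_51_2 lc_j_rc_32_1 lc_j_rc_53_2 lc_j_rc_32_1 lc_j_rc_53_2 lc_j_rc_25_1 lc_j_rc_51_2 lc_j_rc_53_2 lc_j_rc_17_1 lc_j_rc_25_1 lc_j_rc_25_1 lc_j_rc_8_1 lc_j_rc_8_1 lc_j_rc_8_1 lc_j_rc_32_1 lc_j_rc_53_2 lc_j_rc_25_1 lc_j_rc_38_1 lc_j_rc_53_2 lc_j_rc_25_1 lc_j_rc_38_1 lc_j_rc_53_2 lc_j_rc_17_1 lc_j_rc_8_3 lc_j_rc_25_1 lc_j_rc_45_1 lc_j_rc_53_2 lc_j_rc_51_2 lc_j_rc_45_1 lc_j_rc_51_2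 lc_j_rc_17_1 lc_j_rc_25_1 lc_j_rc_25_1 lc_j_rc_8_1 lc_j_rc_45_1 lc_j_rc_53_2 lc_j_rc_51_2) (@D3.rec (fun _ => (Cert rels S Gen.j)) lc_j_rc_53_2 lc_j_rc_51_2 lc_j_rc_32_1 lc_j_rc_8_1 lc_j_rc_25_1 lc_j_rc_38_1 lc_j_rc_53_2 lc_j_rc_17_1 lc_j_rc_25_1 lc_j_rc_53_2 lc_j_rc_51_2 lc_j_rc_17_1 lc_j_rc_25_1 lc_j_rc_51_2 lc_j_rc_32_3 lc_j_rc_17_1 lc_j_rc_51_2 lc_j_rc_53_2 lc_j_rc_17_1 lc_j_rc_32_1 lc_j_rc_51_2 lc_j_rc_32_1 lc_j_rc_53_2 lc_j_rc_51_2 lc_j_rc_32_1 lc_j_rc_53_2 lc_j_rc_25_1 lc_j_rc_38_1 lc_j_rc_53_2 lc_j_rc_25_1 lc_j_rc_38_1 lc_j_rc_53_2 lc_j_rc_25_1 lc_j_rc_25_1 lc_j_rc_25_1 lc_j_rc_45_1 lc_j_rc_53_2 lc_j_rc_51_2 lc_j_rc_17_1 lc_j_rc_25_1 lc_j_rc_25_1 lc_j_rc_51_2 lc_j_rc_53_2 lc_j_rc_53_2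 lc_j_rc_32_1 lc_j_rc_25_1 lc_j_rc_25_1 lc_j_rc_38_1 lc_j_rc_53_2 lc_j_rc_8_3 lc_j_rc_25_1) (@D3.rec (fun _ => (Cert rels S Gen.j)) lc_j_rc_25_1 lc_j_rc_45_1 lc_j_rc_53_2 lc_j_rc_51_2 lc_j_rc_25_1 lc_j_rc_25_1 lc_j_rc_45_1 lc_j_rc_53_2 lc_j_rc_51_2 lc_j_rc_25_1 lc_j_rc_17_1 lc_j_rc_17_1 lc_j_rc_25_1 lc_j_rc_25_1 lc_j_rc_51_2 lc_j_Cert_tree lc_j_rc_53_2 lc_j_rc_51_2 lc_j_rc_8_1 lc_j_rc_17_1 lc_j_rc_17_1 lc_j_rc_51_0 lc_j_rc_25_1 lc_j_rc_25_1 lc_j_rc_32_1 lc_j_rc_52_0 lc_j_rc_53_2 lc_j_rc_51_2 lc_j_rc_32_1 lc_j_rc_53_2 lc_j_rc_51_2 lc_j_rc_52_0 lc_j_rc_53_2 lc_j_rc_51_2 lc_j_rc_32_1 lc_j_rc_53_2 lc_j_rc_38_1 lc_j_rc_32_1 lc_j_rc_25_1 lc_j_rc_25_1 lc_j_rc_25_1 lc_j_rc_53_2 lc_j_rc_51_2 lc_j_rc_49_1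 lc_j_rc_38_1 lc_j_rc_8_3 lc_j_rc_32_1 lc_j_rc_25_1 lc_j_rc_51_2 lc_j_rc_51_2 lc_j_rc_51_2) (@D3.rec (fun _ => (Cert rels S Gen.j)) lc_j_rc_25_1 lc_j_rc_49_1 lc_j_rc_32_1 lc_j_rc_8_1 lc_j_rc_17_1 lc_j_rc_38_1 lc_j_rc_51_2 lc_j_rc_38_1 lc_j_rc_25_3 lc_j_rc_38_1 lc_j_rc_38_3 lc_j_rc_38_1 lc_j_rc_17_3 lc_j_rc_49_1 lc_j_rc_38_1 lc_j_rc_25_3 lc_j_rc_51_2 lc_j_rc_25_3 lc_j_rc_38_1 lc_j_rc_38_1 lc_j_rc_25_3 lc_j_rc_25_1 lc_j_rc_25_3 lc_j_rc_32_1 lc_j_rc_51_2 lc_j_rc_32_1 lc_j_rc_53_2 lc_j_rc_32_1 lc_j_rc_53_2 lc_j_rc_25_1 lc_j_rc_53_2 lc_j_rc_25_1 lc_j_rc_17_1 lc_j_rc_8_1 lc_j_rc_32_1 lc_j_rc_53_2 lc_j_rc_38_1 lc_j_rc_53_2 lc_j_rc_38_1 lc_j_rc_53_2 lc_j_rc_45_1 lc_j_rc_53_2 lc_j_rc_51_2 lc_j_rc_8_1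 lc_j_rc_53_2 lc_j_rc_51_2 lc_j_rc_38_1 lc_j_rc_51_2 lc_j_rc_32_1 lc_j_rc_8_1 lc_j_rc_51_2) (@D3.rec (fun _ => (Cert rels S Gen.j)) lc_j_rc_32_1 lc_j_rc_53_2 lc_j_rc_49_3 lc_j_rc_32_1 lc_j_rc_53_2 lc_j_rc_38_1 lc_j_rc_53_2 lc_j_rc_38_1 lc_j_rc_53_2 lc_j_rc_45_1 lc_j_rc_53_2 lc_j_rc_51_2 lc_j_rc_53_2 lc_j_rc_32_1 lc_j_rc_25_1 lc_j_rc_25_1 lc_j_rc_38_1 lc_j_rc_53_2 lc_j_rc_38_3 lc_j_rc_25_1 lc_j_rc_25_1 lc_j_rc_45_1 lc_j_rc_53_2 lc_j_rc_51_2 lc_j_rc_25_1 lc_j_rc_45_1 lc_j_rc_53_2 lc_j_rc_51_2 lc_j_rc_53_2 lc_j_rc_8_3 lc_j_rc_8_3 lc_j_rc_51_2 lc_j_Cert_tree lc_j_rc_53_2 lc_j_rc_51_2 lc_j_rc_17_1 lc_j_rc_25_1 lc_j_rc_52_0 lc_j_rc_53_2 lc_j_rc_51_2 lc_j_rc_32_1 lc_j_rc_17_3 lc_j_rc_53_2 lc_j_rc_51_2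 lc_j_rc_52_0 lc_j_rc_53_2 lc_j_rc_51_2 lc_j_rc_32_1 lc_j_rc_53_2 lc_j_rc_51_2 lc_j_rc_32_1) (@D3.rec (fun _ => (Cert rels S Gen.j)) lc_j_rc_25_1 lc_j_rc_51_2 lc_j_rc_25_1 lc_j_rc_32_1 lc_j_rc_25_1 lc_j_rc_53_2 lc_j_rc_51_2 lc_j_rc_32_1 lc_j_rc_45_1 lc_j_rc_51_2 lc_j_rc_32_1 lc_j_rc_53_2 lc_j_rc_32_1 lc_j_rc_53_2 lc_j_rc_53_2 lc_j_rc_17_1 lc_j_rc_17_1 lc_j_rc_32_1 lc_j_rc_53_2 lc_j_rc_25_1 lc_j_rc_38_1 lc_j_rc_53_2 lc_j_rc_25_1 lc_j_rc_53_2 lc_j_rc_25_1 lc_j_rc_51_2 lc_j_rc_25_1 lc_j_rc_51_2 lc_j_rc_32_1 lc_j_rc_53_2 lc_j_rc_38_1 lc_j_rc_32_1 lc_j_rc_53_2 lc_j_rc_38_1 lc_j_rc_53_2 lc_j_rc_38_1 lc_j_rc_53_2 lc_j_rc_45_1 lc_j_rc_53_2 lc_j_rc_51_2 lc_j_rc_8_1 lc_j_rc_8_1 lc_j_rc_8_1 lc_j_rc_25_1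 lc_j_rc_38_1 lc_j_rc_53_2 lc_j_rc_17_1 lc_j_rc_25_1 lc_j_rc_25_1 lc_j_rc_45_1 lc_j_rc_53_2) (@D3.rec (fun _ => (Cert rels S Gen.j)) lc_j_rc_51_2 lc_j_rc_25_1 lc_j_rc_25_1 lc_j_rc_45_1 lc_j_rc_53_2 lc_j_rc_51_2 lc_j_rc_53_2 lc_j_rc_25_1 lc_j_rc_25_1 lc_j_rc_51_2 lc_j_rc_53_2 lc_j_rc_51_2 lc_j_rc_17_1 lc_j_rc_25_1 lc_j_rc_32_1 lc_j_rc_49_3 lc_j_rc_53_2 lc_j_rc_51_2 lc_j_rc_51_2 lc_j_rc_32_1 lc_j_rc_25_1 lc_j_rc_25_1 lc_j_rc_25_3 lc_j_rc_8_1 lc_j_rc_25_1 lc_j_rc_25_1 lc_j_rc_53_2 lc_j_rc_17_3 lc_j_rc_38_1 lc_j_rc_51_2 lc_j_rc_32_1 lc_j_rc_25_1 lc_j_rc_51_2 lc_j_rc_49_3 lc_j_rc_32_1 lc_j_rc_53_2 lc_j_rc_25_1 lc_j_rc_38_1 lc_j_rc_53_2 lc_j_rc_49_3 lc_j_rc_53_2 lc_j_rc_25_1 lc_j_rc_38_1 lc_j_rc_53_2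 lc_j_rc_17_1 lc_j_rc_25_1 lc_j_rc_25_1 lc_j_rc_45_1 lc_j_rc_53_2 lc_j_rc_51_2 lc_j_rc_17_1) (@D3.rec (fun _ => (Cert rels S Gen.j)) lc_j_rc_25_1 lc_j_rc_25_1 lc_j_rc_45_1 lc_j_rc_53_2 lc_j_rc_51_2 lc_j_rc_17_1 lc_j_rc_25_1 lc_j_rc_25_1 lc_j_rc_51_2 lc_j_Cert_tree lc_j_rc_53_2 lc_j_rc_51_2 lc_j_rc_17_1 lc_j_Cert_tree lc_j_rc_25_1 lc_j_rc_25_1 lc_j_rc_52_0 lc_j_rc_53_2 lc_j_rc_53_2 lc_j_rc_32_1 lc_j_rc_25_1 lc_j_rc_38_1 lc_j_rc_32_1 lc_j_rc_17_1 lc_j_rc_25_1 lc_j_rc_25_1 lc_j_rc_45_1 lc_j_rc_53_2 lc_j_rc_51_2 lc_j_rc_8_1 lc_j_rc_17_1 lc_j_rc_17_1 lc_j_rc_32_1 lc_j_rc_25_1 lc_j_rc_25_1 lc_j_rc_51_2 lc_j_Cert_tree lc_j_rc_53_2 lc_j_rc_51_2 lc_j_rc_8_1 lc_j_rc_17_1 lc_j_rc_17_1 lc_j_rc_25_1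 lc_j_rc_25_1 lc_j_rc_51_2 lc_j_Cert_tree lc_j_rc_53_2 lc_j_rc_51_2 lc_j_rc_8_1 lc_j_rc_17_1 lc_j_rc_17_1) (@D3.rec (fun _ => (Cert rels S Gen.j)) lc_j_rc_17_1 lc_j_Cert_tree lc_j_rc_25_1 lc_j_rc_51_2 lc_j_rc_32_1 lc_j_rc_52_0 lc_j_rc_53_2 lc_j_rc_51_2 lc_j_rc_32_1 lc_j_rc_8_1 lc_j_Cert_tree lc_j_rc_17_1 lc_j_rc_17_1 lc_j_rc_17_1 lc_j_rc_52_0 lc_j_rc_53_2 lc_j_rc_25_1 lc_j_rc_32_1 lc_j_rc_38_1 lc_j_rc_53_2 lc_j_rc_51_2 lc_j_rc_32_1 lc_j_rc_25_1 lc_j_rc_52_0 lc_j_rc_53_2 lc_j_rc_51_2 lc_j_rc_32_1 lc_j_rc_53_2 lc_j_rc_51_2 lc_j_rc_32_1 lc_j_rc_25_1 lc_j_rc_51_2 lc_j_rc_32_1 lc_j_rc_25_1 lc_j_rc_17_1 lc_j_rc_53_0 lc_j_rc_53_0 lc_j_rc_25_1 lc_j_rc_25_3 lc_j_rc_25_3 lc_j_rc_8_1 lc_j_rc_17_1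 lc_j_rc_17_1 lc_j_rc_32_1 lc_j_rc_25_1 lc_j_rc_51_2 lc_j_rc_51_2 lc_j_rc_8_1 lc_j_rc_8_1 lc_j_rc_17_1 lc_j_rc_53_2) (@D3.rec (fun _ => (Cert rels S Gen.j)) lc_j_rc_49_3 lc_j_rc_51_2 lc_j_rc_32_1 lc_j_rc_49_3 lc_j_rc_32_1 lc_j_rc_32_1 lc_j_rc_8_1 lc_j_rc_17_1 lc_j_rc_32_1 lc_j_rc_8_1 lc_j_rc_32_1 lc_j_rc_38_1 lc_j_rc_8_1 lc_j_rc_25_3 lc_j_rc_25_3 lc_j_rc_38_1 lc_j_rc_38_1 lc_j_rc_8_1 lc_j_rc_32_1 lc_j_rc_49_3 lc_j_rc_53_2 lc_j_rc_38_1 lc_j_rc_53_2 lc_j_rc_53_2 lc_j_rc_53_0 lc_j_rc_17_1 lc_j_rc_17_1 lc_j_rc_38_1 lc_j_rc_8_3 lc_j_rc_8_1 lc_j_rc_25_1 lc_j_rc_53_2 lc_j_rc_17_1 lc_j_rc_8_1 lc_j_rc_25_1 lc_j_rc_32_1 lc_j_rc_51_2 lc_j_rc_17_1 lc_j_rc_25_1 lc_j_rc_32_3 lc_j_rc_53_0 lc_j_rc_17_1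 lc_j_rc_32_1 lc_j_rc_45_1 lc_j_rc_17_1 lc_j_rc_51_2 lc_j_rc_49_3 lc_j_rc_51_2 lc_j_rc_32_1 lc_j_rc_53_0 lc_j_rc_8_3) (@D3.rec (fun _ => (Cert rels S Gen.j)) lc_j_rc_53_2 lc_j_rc_38_1 lc_j_rc_32_1 lc_j_rc_38_1 lc_j_rc_53_0 lc_j_rc_8_1 lc_j_rc_32_1 lc_j_rc_38_1 lc_j_rc_45_1 lc_j_rc_53_2 lc_j_rc_51_2 lc_j_rc_17_1 lc_j_rc_8_1 lc_j_rc_8_1 lc_j_rc_53_2 lc_j_rc_25_3 lc_j_rc_53_2 lc_j_rc_32_1 lc_j_rc_17_1 lc_j_rc_17_1 lc_j_rc_25_1 lc_j_rc_25_1 lc_j_rc_25_1 lc_j_rc_45_1 lc_j_rc_51_2 lc_j_rc_8_1 lc_j_rc_53_2 lc_j_rc_53_2 lc_j_rc_53_2 lc_j_rc_53_2 lc_j_rc_25_1 lc_j_rc_8_3 lc_j_rc_25_1 lc_j_rc_8_3 lc_j_rc_53_2 lc_j_rc_17_1 lc_j_rc_53_2 lc_j_rc_53_2 lc_j_rc_17_1 lc_j_rc_25_3 lc_j_rc_25_3 lc_j_rc_49_1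 lc_j_rc_53_2 lc_j_rc_25_3 lc_j_rc_8_1 lc_j_rc_53_2 lc_j_rc_53_2 lc_j_rc_53_2 lc_j_rc_25_3 lc_j_rc_53_2 lc_j_rc_25_3) (@D3.rec (fun _ => (Cert rels S Gen.j)) lc_j_rc_51_2 lc_j_rc_25_3 lc_j_rc_25_3 lc_j_rc_49_3 lc_j_rc_53_2 lc_j_rc_25_1 lc_j_rc_38_1 lc_j_rc_53_2 lc_j_rc_17_1 lc_j_rc_25_1 lc_j_rc_25_1 lc_j_rc_38_1 lc_j_rc_53_2 lc_j_rc_51_2 lc_j_rc_17_1 lc_j_rc_25_1 lc_j_rc_51_2 lc_j_rc_49_1 lc_j_rc_17_1 lc_j_rc_8_3 lc_j_rc_53_2 lc_j_rc_51_2 lc_j_rc_45_3 lc_j_rc_53_2 lc_j_rc_38_1 lc_j_rc_17_1 lc_j_rc_17_1 lc_j_rc_51_2 lc_j_rc_25_1 lc_j_rc_25_1 lc_j_rc_25_3 lc_j_rc_52_0 lc_j_rc_53_2 lc_j_rc_51_2 lc_j_rc_53_2 lc_j_rc_53_2 lc_j_rc_25_1 lc_j_rc_53_2 lc_j_rc_32_1 lc_j_rc_25_1 lc_j_rc_17_1 lc_j_rc_53_2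 lc_j_rc_53_2 lc_j_rc_53_2 lc_j_rc_8_1 lc_j_rc_53_2 lc_j_rc_53_2 lc_j_rc_25_3 lc_j_rc_17_3 lc_j_rc_8_1 lc_j_rc_17_1) (@D3.rec (fun _ => (Cert rels S Gen.j)) lc_j_rc_38_1 lc_j_rc_38_3 lc_j_rc_45_1 lc_j_rc_32_1 lc_j_rc_53_2 lc_j_rc_38_1 lc_j_rc_53_2 lc_j_rc_53_2 lc_j_rc_51_2 lc_j_rc_38_1 lc_j_rc_53_2 lc_j_rc_32_1 lc_j_rc_32_1 lc_j_rc_32_1 lc_j_rc_53_2 lc_j_rc_51_2 lc_j_rc_17_1 lc_j_rc_25_1 lc_j_rc_51_2 lc_j_rc_8_1 lc_j_rc_17_1 lc_j_rc_51_2 lc_j_rc_8_1 lc_j_rc_17_1 lc_j_rc_32_1 lc_j_rc_38_1 lc_j_rc_17_1 lc_j_rc_8_3 lc_j_rc_8_1 lc_j_rc_17_1 lc_j_rc_51_2 lc_j_rc_8_1 lc_j_rc_17_1 lc_j_rc_32_1 lc_j_rc_8_1 lc_j_rc_17_1 lc_j_rc_38_1 lc_j_rc_53_2 lc_j_rc_25_3 lc_j_rc_49_3 lc_j_rc_8_1 lc_j_rc_17_1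 lc_j_rc_8_1 lc_j_rc_25_3 lc_j_rc_49_1 lc_j_rc_32_1 lc_j_rc_53_2 lc_j_rc_38_1 lc_j_rc_53_2 lc_j_rc_53_2 lc_j_rc_51_2) (@D3.rec (fun _ => (Cert rels S Gen.j)) lc_j_rc_8_3 lc_j_rc_32_1 lc_j_rc_53_2 lc_j_rc_25_1 lc_j_rc_53_2 lc_j_rc_25_1 lc_j_rc_51_2 lc_j_rc_8_1 lc_j_rc_8_1 lc_j_rc_8_1 lc_j_rc_25_1 lc_j_rc_38_1 lc_j_rc_53_2 lc_j_rc_17_1 lc_j_rc_25_1 lc_j_rc_25_1 lc_j_rc_45_1 lc_j_rc_53_2 lc_j_rc_51_2 lc_j_rc_17_1 lc_j_rc_25_1 lc_j_rc_25_1 lc_j_rc_45_1 lc_j_rc_53_2 lc_j_rc_51_2 lc_j_rc_17_1 lc_j_rc_25_1 lc_j_rc_25_1 lc_j_rc_51_2 lc_j_rc_53_2 lc_j_rc_51_2 lc_j_rc_17_1 lc_j_rc_8_1 lc_j_rc_8_1 lc_j_rc_53_2 lc_j_rc_32_3 lc_j_rc_25_3 lc_j_rc_17_1 lc_j_rc_25_1 lc_j_rc_25_1 lc_j_rc_53_2 lc_j_rc_51_2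 lc_j_rc_8_1 lc_j_rc_8_1 lc_j_rc_17_1 lc_j_rc_32_1 lc_j_rc_25_1 lc_j_rc_51_2 lc_j_rc_51_2 lc_j_rc_8_1 lc_j_rc_17_1) (@D3.rec (fun _ => (Cert rels S Gen.j)) lc_j_rc_51_2 lc_j_rc_8_1 lc_j_rc_17_1 lc_j_rc_32_1 lc_j_rc_8_1 lc_j_rc_17_1 lc_j_rc_8_1 lc_j_rc_45_1 lc_j_rc_32_3 lc_j_rc_53_2 lc_j_rc_49_3 lc_j_rc_53_2 lc_j_rc_25_1 lc_j_rc_38_1 lc_j_rc_53_2 lc_j_rc_17_1 lc_j_rc_25_1 lc_j_rc_25_1 lc_j_rc_45_1 lc_j_rc_53_2 lc_j_rc_51_2 lc_j_rc_17_1 lc_j_rc_25_1 lc_j_rc_51_2 lc_j_rc_8_3 lc_j_rc_17_1 lc_j_rc_49_1 lc_j_rc_25_1 lc_j_rc_51_2 lc_j_rc_49_3 lc_j_rc_53_2 lc_j_rc_53_2 lc_j_rc_17_1 lc_j_rc_17_1 lc_j_rc_25_1 lc_j_rc_32_1 lc_j_rc_52_0 lc_j_rc_53_2 lc_j_rc_17_1 lc_j_rc_8_3 lc_j_rc_38_1 lc_j_rc_32_1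 lc_j_rc_17_1 lc_j_rc_25_1 lc_j_rc_25_1 lc_j_rc_45_1 lc_j_rc_53_2 lc_j_rc_51_2 lc_j_rc_38_3 lc_j_rc_17_1 lc_j_rc_17_1) (@D3.rec (fun _ => (Cert rels S Gen.j)) lc_j_rc_32_1 lc_j_rc_25_1 lc_j_rc_25_1 lc_j_rc_51_2 lc_j_Cert_tree lc_j_rc_53_2 lc_j_rc_51_2 lc_j_rc_8_1 lc_j_rc_17_1 lc_j_rc_17_1 lc_j_rc_25_1 lc_j_rc_25_1 lc_j_rc_51_2 lc_j_rc_53_2 lc_j_rc_51_2 lc_j_rc_8_1 lc_j_rc_8_1 lc_j_rc_17_1 lc_j_rc_17_1 lc_j_rc_17_1 lc_j_Cert_tree lc_j_rc_25_1 lc_j_rc_51_2 lc_j_rc_32_1 lc_j_rc_52_0 lc_j_rc_53_2 lc_j_rc_51_2 lc_j_rc_53_2 lc_j_rc_53_0 lc_j_Cert_tree lc_j_rc_17_1 lc_j_rc_17_1 lc_j_rc_17_1 lc_j_rc_52_0 lc_j_rc_53_2 lc_j_rc_25_1 lc_j_rc_32_1 lc_j_rc_38_1 lc_j_rc_53_2 lc_j_rc_51_2 lc_j_rc_53_2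 lc_j_rc_8_3 lc_j_rc_38_1 lc_j_rc_17_1 lc_j_rc_32_1 lc_j_rc_25_1 lc_j_rc_51_2 lc_j_rc_51_2 lc_j_rc_8_1 lc_j_rc_38_3 lc_j_rc_25_1) (@D3.rec (fun _ => (Cert rels S Gen.j)) lc_j_rc_17_1 lc_j_rc_51_2 lc_j_rc_32_1 lc_j_rc_51_2 lc_j_rc_32_1 lc_j_rc_8_1 lc_j_rc_17_1 lc_j_rc_32_1 lc_j_rc_8_1 lc_j_rc_32_1 lc_j_rc_38_1 lc_j_rc_17_1 lc_j_rc_51_2 lc_j_rc_32_3 lc_j_rc_17_1 lc_j_rc_25_3 lc_j_rc_8_1 lc_j_rc_8_1 lc_j_rc_53_2 lc_j_rc_25_1 lc_j_rc_8_1 lc_j_rc_17_1 lc_j_rc_25_1 lc_j_rc_25_1 lc_j_rc_53_2 lc_j_rc_53_0 lc_j_rc_25_1 lc_j_rc_25_1 lc_j_rc_51_2 lc_j_rc_32_1 lc_j_rc_25_1 lc_j_rc_8_1 lc_j_rc_17_1 lc_j_rc_17_3 lc_j_rc_25_1 lc_j_rc_25_1 lc_j_rc_32_1 lc_j_rc_17_1 lc_j_rc_25_1 lc_j_rc_53_2 lc_j_rc_25_1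 lc_j_rc_25_3 lc_j_rc_53_2 lc_j_rc_53_0 lc_j_rc_8_1 lc_j_rc_17_1 lc_j_rc_17_1 lc_j_rc_25_1 lc_j_rc_25_1 lc_j_rc_32_1 lc_j_rc_53_2) (@D3.rec (fun _ => (Cert rels S Gen.j)) lc_j_rc_51_2 lc_j_rc_8_1 lc_j_rc_8_1 lc_j_rc_8_1 lc_j_rc_32_1 lc_j_rc_8_1 lc_j_rc_17_1 lc_j_rc_38_1 lc_j_rc_25_1 lc_j_rc_17_1 lc_j_rc_53_2 lc_j_rc_53_2 lc_j_rc_8_1 lc_j_rc_32_1 lc_j_rc_53_2 lc_j_rc_49_3 lc_j_rc_38_1 lc_j_rc_53_2 lc_j_rc_53_2 lc_j_rc_25_1 lc_j_rc_51_2 lc_j_rc_25_1 lc_j_rc_49_3 lc_j_rc_53_2 lc_j_rc_49_5 lc_j_rc_32_3 lc_j_rc_45_3 lc_j_rc_17_1 lc_j_rc_17_1 lc_j_rc_32_1 lc_j_rc_8_3 lc_j_rc_38_1 lc_j_rc_25_3 lc_j_rc_25_1 lc_j_rc_38_1 lc_j_rc_8_3 lc_j_rc_25_1 lc_j_rc_53_2 lc_j_rc_38_1 lc_j_rc_53_2 lc_j_rc_38_1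 lc_j_rc_8_3 lc_j_rc_38_1 lc_j_rc_53_2 lc_j_rc_51_2 lc_j_rc_51_2 lc_j_rc_51_2 lc_j_rc_25_1 lc_j_rc_49_1 lc_j_rc_25_3 lc_j_rc_32_3) (@D3.rec (fun _ => (Cert rels S Gen.j)) lc_j_rc_53_2 lc_j_rc_17_1 lc_j_rc_17_1 lc_j_rc_25_1 lc_j_rc_32_1 lc_j_rc_49_3 lc_j_rc_38_1 lc_j_rc_49_5 lc_j_rc_32_1 lc_j_rc_49_1 lc_j_rc_45_3 lc_j_rc_45_3 lc_j_rc_38_1 lc_j_rc_45_1 lc_j_rc_38_1 lc_j_rc_53_2 lc_j_rc_53_2 lc_j_rc_25_3 lc_j_rc_53_2 lc_j_rc_25_1 lc_j_rc_8_1 lc_j_rc_8_1 lc_j_rc_38_1 lc_j_rc_53_2 lc_j_rc_17_1 lc_j_rc_53_2 lc_j_rc_53_2 lc_j_rc_51_2 lc_j_rc_51_2 lc_j_rc_17_1 lc_j_rc_53_2 lc_j_rc_17_1 lc_j_rc_32_1 lc_j_rc_53_2 lc_j_rc_51_2 lc_j_rc_17_1 lc_j_rc_25_1 lc_j_rc_32_1 lc_j_rc_17_1 lc_j_rc_32_1 lc_j_rc_38_1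 lc_j_rc_8_3 lc_j_rc_38_1 lc_j_rc_8_3 lc_j_rc_38_1 lc_j_rc_45_1 lc_j_rc_53_2 lc_j_rc_38_1 lc_j_rc_53_2 lc_j_rc_17_1 lc_j_rc_32_3) (@D3.rec (fun _ => (Cert rels S Gen.j)) lc_j_rc_32_1 lc_j_rc_8_3 lc_j_rc_38_1 lc_j_rc_32_1 lc_j_rc_17_1 lc_j_rc_25_1 lc_j_rc_25_1 lc_j_rc_53_2 lc_j_rc_51_2 lc_j_rc_45_1 lc_j_rc_17_1 lc_j_rc_17_1 lc_j_rc_45_1 lc_j_rc_8_1 lc_j_rc_25_1 lc_j_rc_51_2 lc_j_Cert_tree lc_j_rc_38_1 lc_j_rc_51_2 lc_j_rc_17_1 lc_j_rc_51_2 lc_j_rc_53_2 lc_j_rc_8_1 lc_j_rc_53_2 lc_j_rc_17_1 lc_j_rc_8_1 lc_j_rc_8_1 lc_j_rc_8_1 lc_j_rc_32_1 lc_j_rc_52_0 lc_j_rc_53_2 lc_j_rc_25_3 lc_j_rc_53_2 lc_j_rc_8_1 lc_j_rc_53_2 lc_j_rc_17_1 lc_j_rc_17_1 lc_j_rc_53_2 lc_j_rc_25_1 lc_j_rc_32_1 lc_j_rc_38_1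 lc_j_rc_53_2 lc_j_rc_25_3 lc_j_rc_53_2 lc_j_rc_17_1 lc_j_rc_38_3 lc_j_rc_17_1 lc_j_rc_51_2 lc_j_rc_53_2 lc_j_rc_25_1 lc_j_rc_53_2) (@D3.rec (fun _ => (Cert rels S Gen.j)) lc_j_rc_17_1 lc_j_rc_17_1 lc_j_rc_53_2 lc_j_rc_8_1 lc_j_rc_32_1 lc_j_rc_17_1 lc_j_rc_32_1 lc_j_rc_8_1 lc_j_rc_32_1 lc_j_rc_38_1 lc_j_rc_8_1 lc_j_rc_32_1 lc_j_rc_17_1 lc_j_rc_45_1 lc_j_rc_8_1 lc_j_rc_17_1 lc_j_rc_17_1 lc_j_rc_25_1 lc_j_rc_8_1 lc_j_rc_25_1 lc_j_rc_25_3 lc_j_rc_8_1 lc_j_rc_38_3 lc_j_rc_38_3 lc_j_rc_25_3 lc_j_rc_8_1 lc_j_rc_8_1 lc_j_rc_38_1 lc_j_rc_53_2 lc_j_rc_53_2 lc_j_rc_51_2 lc_j_rc_51_2 lc_j_rc_8_3 lc_j_rc_8_3 lc_j_rc_49_3 lc_j_rc_53_2 lc_j_rc_38_1 lc_j_rc_53_2 lc_j_rc_38_1 lc_j_rc_53_2 lc_j_rc_51_2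 lc_j_rc_53_2 lc_j_rc_51_2 lc_j_rc_53_2 lc_j_rc_51_2 lc_j_rc_25_1 lc_j_rc_38_1 lc_j_rc_32_1 lc_j_rc_17_1 lc_j_rc_25_1 lc_j_rc_25_1) (@D3.rec (fun _ => (Cert rels S Gen.j)) lc_j_rc_45_1 lc_j_rc_53_2 lc_j_rc_51_2 lc_j_rc_17_1 lc_j_rc_17_1 lc_j_rc_32_1 lc_j_rc_25_1 lc_j_rc_25_1 lc_j_rc_51_2 lc_j_rc_53_2 lc_j_rc_51_2 lc_j_rc_17_1 lc_j_rc_17_1 lc_j_rc_25_1 lc_j_rc_25_1 lc_j_rc_51_2 lc_j_rc_32_1 lc_j_rc_53_2 lc_j_rc_51_2 lc_j_rc_17_1 lc_j_rc_17_1 lc_j_rc_17_1 lc_j_rc_25_1 lc_j_rc_51_2 lc_j_rc_51_2 lc_j_rc_17_1 lc_j_rc_32_1 lc_j_rc_17_1 lc_j_rc_25_1 lc_j_rc_17_1 lc_j_rc_32_1 lc_j_rc_25_1 lc_j_rc_45_3 lc_j_rc_38_3 lc_j_rc_53_2 lc_j_rc_32_1 lc_j_rc_8_1 lc_j_rc_8_1 lc_j_rc_8_1 lc_j_rc_49_1 lc_j_rc_32_3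 lc_j_rc_53_2 lc_j_rc_38_1 lc_j_rc_53_2 lc_j_rc_53_2 lc_j_rc_51_2 lc_j_rc_51_2 lc_j_rc_25_1 lc_j_rc_8_1 lc_j_rc_8_1 lc_j_rc_17_1) (@D3.rec (fun _ => (Cert rels S Gen.j)) lc_j_rc_25_1 lc_j_rc_25_1 lc_j_rc_53_2 lc_j_rc_51_2 lc_j_rc_32_1 lc_j_rc_17_1 lc_j_rc_17_1 lc_j_rc_38_1 lc_j_rc_25_1 lc_j_rc_51_2 lc_j_rc_51_2 lc_j_rc_8_1 lc_j_rc_17_1 lc_j_rc_51_2 lc_j_rc_8_1 lc_j_rc_17_1 lc_j_rc_53_0 lc_j_rc_25_1 lc_j_rc_17_1 lc_j_rc_25_1 lc_j_rc_45_3 lc_j_rc_25_1 lc_j_rc_51_0 lc_j_rc_17_1 lc_j_rc_53_2 lc_j_rc_8_1 lc_j_rc_17_1 lc_j_rc_49_5 lc_j_rc_53_2 lc_j_rc_53_2 lc_j_rc_53_0 lc_j_rc_25_1 lc_j_rc_49_3 lc_j_rc_53_2 lc_j_rc_17_1 lc_j_rc_25_1 lc_j_rc_25_1 lc_j_rc_53_2 lc_j_rc_51_2 lc_j_rc_32_1 lc_j_rc_17_1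 lc_j_rc_17_1 lc_j_rc_32_1 lc_j_rc_45_1 lc_j_rc_25_1 lc_j_rc_51_2 lc_j_Cert_tree lc_j_rc_53_2 lc_j_rc_51_2 lc_j_rc_8_1 lc_j_rc_17_1) (@D3.rec (fun _ => (Cert rels S Gen.j)) lc_j_rc_17_1 lc_j_rc_25_1 lc_j_rc_51_2 lc_j_rc_51_2 lc_j_rc_8_1 lc_j_rc_45_1 lc_j_rc_17_1 lc_j_rc_17_1 lc_j_Cert_tree lc_j_rc_53_2 lc_j_rc_51_2 lc_j_rc_52_0 lc_j_rc_53_2 lc_j_rc_53_2 lc_j_rc_8_1 lc_j_rc_17_1 lc_j_rc_52_0 lc_j_rc_53_2 lc_j_rc_25_1 lc_j_rc_32_1 lc_j_rc_53_2 lc_j_rc_51_2 lc_j_rc_25_1 lc_j_rc_25_1 lc_j_rc_45_1 lc_j_rc_38_1 lc_j_rc_49_3 lc_j_rc_17_1 lc_j_rc_17_1 lc_j_rc_32_1 lc_j_rc_25_1 lc_j_rc_25_1 lc_j_rc_51_2 lc_j_Cert_tree lc_j_rc_53_2 lc_j_rc_51_2 lc_j_rc_32_1 lc_j_rc_32_1 lc_j_rc_38_1 lc_j_rc_17_1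 lc_j_rc_17_1 lc_j_rc_17_1 lc_j_rc_38_1 lc_j_rc_38_1 lc_j_rc_32_1 lc_j_Cert_tree lc_j_rc_25_1 lc_j_rc_51_2 lc_j_rc_32_1 lc_j_rc_52_0 lc_j_rc_53_2)
def ce_j_13 : D2 → D3 → (Cert rels S Gen.j) := @D2.rec (fun _ => D3 → (Cert rels S Gen.j)) (@D3.rec (fun _ => (Cert rels S Gen.j)) lc_j_rc_51_2 lc_j_rc_32_1 lc_j_rc_8_1 lc_j_rc_8_1 lc_j_rc_17_1 lc_j_rc_17_1 lc_j_rc_17_1 lc_j_rc_25_1 lc_j_rc_51_2 lc_j_rc_32_1 lc_j_rc_52_0 lc_j_rc_53_2 lc_j_rc_51_2 lc_j_rc_8_1 lc_j_rc_8_1 lc_j_rc_8_1 lc_j_rc_17_3 lc_j_rc_17_1 lc_j_rc_17_1 lc_j_rc_17_1 lc_j_rc_52_0 lc_j_rc_53_2 lc_j_rc_51_2 lc_j_rc_32_1 lc_j_rc_38_1 lc_j_rc_53_2 lc_j_rc_51_2 lc_j_rc_53_0 lc_j_rc_52_0 lc_j_rc_53_2 lc_j_rc_17_1 lc_j_rc_17_1 lc_j_rc_53_2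 lc_j_rc_51_2 lc_j_rc_32_1 lc_j_rc_38_1 lc_j_rc_51_2 lc_j_rc_53_2 lc_j_rc_32_1 lc_j_rc_32_1 lc_j_rc_53_2 lc_j_rc_17_1 lc_j_rc_53_2 lc_j_rc_38_1 lc_j_rc_45_1 lc_j_rc_38_3 lc_j_rc_49_1 lc_j_rc_38_3 lc_j_rc_51_0 lc_j_rc_17_1 lc_j_rc_25_1) (@D3.rec (fun _ => (Cert rels S Gen.j)) lc_j_rc_25_1 lc_j_rc_53_2 lc_j_rc_51_2 lc_j_rc_8_1 lc_j_rc_17_1 lc_j_rc_17_1 lc_j_rc_32_1 lc_j_rc_25_1 lc_j_rc_51_2 lc_j_rc_51_2 lc_j_rc_8_1 lc_j_rc_17_1 lc_j_rc_32_1 lc_j_rc_25_1 lc_j_rc_45_3 lc_j_rc_32_1 lc_j_rc_8_1 lc_j_rc_32_1 lc_j_rc_32_1 lc_j_rc_8_1 lc_j_rc_53_2 lc_j_rc_38_3 lc_j_rc_45_1 lc_j_rc_38_1 lc_j_rc_32_1 lc_j_rc_8_1 lc_j_rc_25_1 lc_j_rc_17_1 lc_j_rc_45_1 lc_j_rc_32_1 lc_j_rc_17_1 lc_j_rc_32_1 lc_j_rc_8_1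 lc_j_rc_25_1 lc_j_rc_38_1 lc_j_rc_38_1 lc_j_rc_8_1 lc_j_rc_17_1 lc_j_rc_49_1 lc_j_rc_53_2 lc_j_rc_53_2 lc_j_rc_53_2 lc_j_rc_53_2 lc_j_rc_8_1 lc_j_rc_53_2 lc_j_rc_8_1 lc_j_rc_32_1 lc_j_rc_17_1 lc_j_rc_32_3 lc_j_rc_38_1 lc_j_rc_38_1) (@D3.rec (fun _ => (Cert rels S Gen.j)) lc_j_rc_45_3 lc_j_rc_32_1 lc_j_rc_25_1 lc_j_rc_32_1 lc_j_rc_45_3 lc_j_rc_32_1 lc_j_rc_8_1 lc_j_rc_25_1 lc_j_rc_38_1 lc_j_rc_45_1 lc_j_rc_8_1 lc_j_rc_32_1 lc_j_rc_17_1 lc_j_rc_32_1 lc_j_rc_8_1 lc_j_rc_17_1 lc_j_rc_32_1 lc_j_rc_32_1 lc_j_rc_32_1 lc_j_rc_38_1 lc_j_rc_53_2 lc_j_rc_53_2 lc_j_rc_17_3 lc_j_rc_38_1 lc_j_rc_38_1 lc_j_rc_45_1 lc_j_rc_32_1 lc_j_rc_17_1 lc_j_rc_17_1 lc_j_rc_17_1 lc_j_rc_17_3 lc_j_rc_17_1 lc_j_rc_53_2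 lc_j_rc_53_2 lc_j_rc_8_1 lc_j_rc_53_2 lc_j_rc_8_1 lc_j_rc_32_1 lc_j_rc_38_1 lc_j_rc_38_3 lc_j_rc_32_1 lc_j_rc_25_1 lc_j_rc_8_1 lc_j_rc_17_1 lc_j_rc_51_2 lc_j_rc_32_1 lc_j_rc_38_1 lc_j_rc_38_1 lc_j_rc_8_1 lc_j_rc_17_1 lc_j_rc_38_1) (@D3.rec (fun _ => (Cert rels S Gen.j)) lc_j_rc_53_2 lc_j_rc_25_1 lc_j_rc_32_1 lc_j_rc_32_1 lc_j_rc_17_1 lc_j_rc_17_1 lc_j_rc_8_1 lc_j_rc_53_2 lc_j_rc_17_1 lc_j_rc_17_1 lc_j_rc_25_1 lc_j_rc_25_1 lc_j_rc_17_1 lc_j_rc_8_1 lc_j_rc_17_1 lc_j_rc_53_0 lc_j_rc_25_1 lc_j_rc_25_1 lc_j_rc_53_2 lc_j_rc_38_1 lc_j_rc_8_3 lc_j_rc_51_2 lc_j_rc_17_1 lc_j_rc_25_1 lc_j_rc_53_2 lc_j_rc_51_2 lc_j_rc_32_1 lc_j_rc_53_2 lc_j_rc_53_2 lc_j_rc_53_2 lc_j_rc_32_1 lc_j_rc_17_1 lc_j_rc_32_1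 lc_j_rc_53_2 lc_j_rc_51_2 lc_j_rc_8_1 lc_j_rc_52_0 lc_j_rc_53_2 lc_j_rc_25_3 lc_j_rc_53_2 lc_j_rc_51_2 lc_j_rc_51_2 lc_j_rc_45_1 lc_j_rc_25_1 lc_j_rc_38_1 lc_j_rc_17_1 lc_j_rc_53_2 lc_j_rc_25_1 lc_j_rc_8_1 lc_j_rc_17_1 lc_j_rc_32_1) (@D3.rec (fun _ => (Cert rels S Gen.j)) lc_j_rc_8_1 lc_j_rc_32_1 lc_j_rc_25_1 lc_j_rc_51_2 lc_j_rc_53_2 lc_j_rc_32_1 lc_j_rc_53_2 lc_j_rc_25_1 lc_j_rc_25_1 lc_j_rc_38_1 lc_j_rc_51_2 lc_j_rc_53_2 lc_j_rc_51_2 lc_j_rc_17_1 lc_j_rc_8_1 lc_j_rc_53_2 lc_j_rc_8_1 lc_j_rc_53_2 lc_j_rc_53_2 lc_j_rc_53_2 lc_j_rc_8_1 lc_j_rc_25_1 lc_j_rc_32_1 lc_j_rc_45_1 lc_j_rc_51_2 lc_j_rc_53_2 lc_j_rc_51_2 lc_j_rc_32_1 lc_j_rc_8_3 lc_j_rc_17_3 lc_j_rc_51_2 lc_j_rc_53_2 lc_j_rc_45_1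 lc_j_rc_32_1 lc_j_rc_53_2 lc_j_rc_53_2 lc_j_rc_32_1 lc_j_rc_53_2 lc_j_rc_49_3 lc_j_rc_38_1 lc_j_rc_53_2 lc_j_rc_38_1 lc_j_rc_53_2 lc_j_rc_51_0 lc_j_rc_51_0 lc_j_rc_53_2 lc_j_rc_45_1 lc_j_rc_53_2 lc_j_rc_51_2 lc_j_rc_45_1 lc_j_rc_25_3) (@D3.rec (fun _ => (Cert rels S Gen.j)) lc_j_rc_53_2 lc_j_rc_25_1 lc_j_rc_25_1 lc_j_rc_51_2 lc_j_rc_45_1 lc_j_rc_53_2 lc_j_rc_53_2 lc_j_rc_38_1 lc_j_rc_32_1 lc_j_rc_53_2 lc_j_rc_8_1 lc_j_rc_53_2 lc_j_rc_53_2 lc_j_rc_8_3 lc_j_rc_53_2 lc_j_rc_53_2 lc_j_rc_8_3 lc_j_rc_8_3 lc_j_rc_53_2 lc_j_rc_53_2 lc_j_rc_17_1 lc_j_rc_8_3 lc_j_rc_8_3 lc_j_rc_8_3 lc_j_rc_8_3 lc_j_rc_38_3 lc_j_rc_53_2 lc_j_rc_53_2 lc_j_rc_53_2 lc_j_rc_25_3 lc_j_rc_53_2 lc_j_rc_17_3 lc_j_rc_32_1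 lc_j_rc_53_2 lc_j_rc_38_1 lc_j_rc_53_2 lc_j_rc_53_2 lc_j_rc_45_1 lc_j_rc_53_2 lc_j_rc_51_2 lc_j_rc_51_2 lc_j_rc_25_3 lc_j_rc_53_2 lc_j_rc_38_1 lc_j_rc_53_2 lc_j_rc_25_1 lc_j_rc_8_1 lc_j_rc_17_3 lc_j_rc_53_2 lc_j_rc_51_2 lc_j_rc_51_2) (@D3.rec (fun _ => (Cert rels S Gen.j)) lc_j_rc_25_1 lc_j_Cert_tree lc_j_rc_53_2 lc_j_rc_17_3 lc_j_rc_53_2 lc_j_rc_51_2 lc_j_rc_17_3 lc_j_rc_17_3 lc_j_rc_52_0 lc_j_rc_53_2 lc_j_rc_51_2 lc_j_rc_32_1 lc_j_rc_52_0 lc_j_rc_53_2 lc_j_rc_17_3 lc_j_rc_32_1 lc_j_rc_53_2 lc_j_rc_38_1 lc_j_rc_32_1 lc_j_rc_25_1 lc_j_rc_51_2 lc_j_rc_32_1 lc_j_rc_53_2 lc_j_rc_49_3 lc_j_rc_32_1 lc_j_rc_53_2 lc_j_rc_25_1 lc_j_rc_38_1 lc_j_rc_53_2 lc_j_rc_25_1 lc_j_rc_38_1 lc_j_rc_53_2 lc_j_rc_25_1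 lc_j_rc_45_1 lc_j_rc_53_2 lc_j_rc_51_2 lc_j_rc_25_1 lc_j_rc_17_1 lc_j_rc_32_1 lc_j_rc_25_1 lc_j_rc_25_1 lc_j_rc_38_1 lc_j_rc_53_2 lc_j_rc_49_5 lc_j_rc_25_1 lc_j_rc_25_1 lc_j_rc_45_1 lc_j_rc_53_2 lc_j_rc_51_2 lc_j_rc_25_1 lc_j_rc_25_1) (@D3.rec (fun _ => (Cert rels S Gen.j)) lc_j_rc_45_1 lc_j_rc_53_2 lc_j_rc_51_2 lc_j_rc_17_1 lc_j_rc_25_1 lc_j_rc_25_1 lc_j_rc_51_2 lc_j_rc_53_2 lc_j_rc_51_2 lc_j_rc_17_1 lc_j_rc_25_1 lc_j_rc_32_1 lc_j_rc_32_1 lc_j_rc_49_3 lc_j_rc_53_2 lc_j_rc_51_2 lc_j_rc_51_2 lc_j_rc_32_1 lc_j_rc_25_1 lc_j_rc_25_1 lc_j_rc_51_2 lc_j_rc_53_0 lc_j_rc_49_5 lc_j_rc_8_3 lc_j_rc_8_3 lc_j_rc_51_2 lc_j_rc_38_1 lc_j_rc_51_2 lc_j_rc_8_1 lc_j_rc_32_1 lc_j_rc_8_1 lc_j_rc_17_1 lc_j_rc_38_1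 lc_j_rc_51_2 lc_j_rc_32_1 lc_j_rc_38_3 lc_j_rc_17_3 lc_j_rc_38_1 lc_j_rc_32_1 lc_j_rc_38_3 lc_j_rc_45_1 lc_j_rc_51_2 lc_j_rc_32_1 lc_j_rc_53_2 lc_j_rc_32_1 lc_j_rc_53_2 lc_j_rc_53_2 lc_j_rc_8_1 lc_j_rc_38_1 lc_j_rc_32_1 lc_j_rc_53_2) (@D3.rec (fun _ => (Cert rels S Gen.j)) lc_j_rc_25_1 lc_j_rc_38_1 lc_j_rc_53_2 lc_j_rc_25_1 lc_j_rc_53_2 lc_j_rc_25_1 lc_j_rc_25_3 lc_j_rc_53_2 lc_j_rc_51_2 lc_j_rc_8_1 lc_j_rc_17_1 lc_j_rc_53_2 lc_j_rc_8_3 lc_j_rc_17_1 lc_j_rc_49_3 lc_j_rc_49_3 lc_j_rc_32_1 lc_j_rc_53_2 lc_j_rc_17_3 lc_j_rc_38_1 lc_j_rc_53_2 lc_j_rc_53_2 lc_j_rc_53_2 lc_j_rc_17_3 lc_j_rc_53_2 lc_j_rc_51_2 lc_j_rc_8_1 lc_j_rc_8_1 lc_j_rc_8_1 lc_j_rc_8_1 lc_j_rc_38_1 lc_j_rc_53_2 lc_j_rc_38_1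 lc_j_rc_53_2 lc_j_rc_45_1 lc_j_rc_53_2 lc_j_rc_51_2 lc_j_rc_51_2 lc_j_rc_8_3 lc_j_Cert_tree lc_j_rc_53_2 lc_j_rc_8_3 lc_j_rc_8_1 lc_j_rc_52_0 lc_j_rc_53_2 lc_j_rc_8_1 lc_j_rc_8_1 lc_j_rc_52_0 lc_j_rc_53_2 lc_j_rc_8_3 lc_j_rc_32_1) (@D3.rec (fun _ => (Cert rels S Gen.j)) lc_j_rc_53_2 lc_j_rc_51_2 lc_j_rc_8_1 lc_j_rc_51_2 lc_j_rc_8_3 lc_j_rc_32_1 lc_j_rc_32_1 lc_j_rc_53_2 lc_j_rc_25_1 lc_j_rc_38_1 lc_j_rc_53_2 lc_j_rc_49_3 lc_j_rc_53_2 lc_j_rc_25_1 lc_j_rc_38_1 lc_j_rc_53_2 lc_j_rc_17_1 lc_j_rc_25_1 lc_j_rc_25_1 lc_j_rc_45_1 lc_j_rc_53_2 lc_j_rc_51_2 lc_j_rc_17_1 lc_j_rc_25_1 lc_j_rc_45_1 lc_j_rc_53_2 lc_j_rc_51_2 lc_j_rc_17_1 lc_j_rc_17_3 lc_j_rc_53_2 lc_j_rc_51_2 lc_j_Cert_tree lc_j_rc_53_2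 lc_j_rc_51_2 lc_j_rc_17_1 lc_j_rc_25_1 lc_j_rc_32_1 lc_j_rc_52_0 lc_j_rc_53_2 lc_j_rc_17_1 lc_j_rc_32_1 lc_j_rc_38_1 lc_j_rc_32_1 lc_j_rc_17_1 lc_j_rc_25_1 lc_j_rc_25_1 lc_j_rc_45_1 lc_j_rc_53_2 lc_j_rc_51_2 lc_j_rc_8_1 lc_j_rc_17_1) (@D3.rec (fun _ => (Cert rels S Gen.j)) lc_j_rc_17_1 lc_j_rc_32_1 lc_j_rc_38_1 lc_j_rc_25_1 lc_j_rc_51_2 lc_j_Cert_tree lc_j_rc_53_2 lc_j_rc_51_2 lc_j_rc_8_1 lc_j_rc_17_1 lc_j_rc_51_2 lc_j_Cert_tree lc_j_rc_53_2 lc_j_rc_51_2 lc_j_rc_8_1 lc_j_rc_25_3 lc_j_rc_53_2 lc_j_rc_17_1 lc_j_Cert_tree lc_j_rc_53_2 lc_j_rc_17_3 lc_j_rc_32_1 lc_j_rc_52_0 lc_j_rc_53_2 lc_j_rc_51_2 lc_j_rc_32_1 lc_j_rc_53_2 lc_j_rc_17_1 lc_j_rc_17_1 lc_j_rc_52_0 lc_j_rc_53_2 lc_j_rc_25_1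 lc_j_rc_38_1 lc_j_rc_53_2 lc_j_rc_51_2 lc_j_rc_32_1 lc_j_rc_25_1 lc_j_rc_52_0 lc_j_rc_53_2 lc_j_rc_51_2 lc_j_rc_32_1 lc_j_rc_53_2 lc_j_rc_51_2 lc_j_rc_32_1 lc_j_rc_25_1 lc_j_rc_51_2 lc_j_rc_32_1 lc_j_rc_25_1 lc_j_rc_17_1 lc_j_rc_8_1 lc_j_rc_17_1) (@D3.rec (fun _ => (Cert rels S Gen.j)) lc_j_rc_51_2 lc_j_rc_38_1 lc_j_rc_8_1 lc_j_rc_32_1 lc_j_rc_17_1 lc_j_rc_17_1 lc_j_rc_45_1 lc_j_rc_32_1 lc_j_rc_8_1 lc_j_rc_32_1 lc_j_rc_8_1 lc_j_rc_17_1 lc_j_rc_32_1 lc_j_rc_8_1 lc_j_rc_32_1 lc_j_rc_38_1 lc_j_rc_17_1 lc_j_rc_45_1 lc_j_rc_8_1 lc_j_rc_17_1 lc_j_rc_32_1 lc_j_rc_53_2 lc_j_rc_8_1 lc_j_rc_25_3 lc_j_rc_32_1 lc_j_rc_8_1 lc_j_rc_32_1 lc_j_rc_38_1 lc_j_rc_8_1 lc_j_rc_8_1 lc_j_rc_51_2 lc_j_rc_32_1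 lc_j_rc_25_1 lc_j_rc_17_1 lc_j_rc_51_2 lc_j_rc_32_1 lc_j_rc_53_2 lc_j_rc_17_1 lc_j_rc_49_3 lc_j_rc_49_3 lc_j_rc_25_1 lc_j_rc_8_1 lc_j_rc_8_1 lc_j_rc_51_2 lc_j_rc_32_1 lc_j_rc_53_2 lc_j_rc_53_2 lc_j_rc_53_2 lc_j_rc_25_1 lc_j_rc_8_1 lc_j_rc_8_1) (@D3.rec (fun _ => (Cert rels S Gen.j)) lc_j_rc_8_1 lc_j_rc_25_1 lc_j_rc_53_2 lc_j_rc_17_1 lc_j_rc_25_1 lc_j_rc_51_2 lc_j_rc_53_2 lc_j_rc_53_2 lc_j_rc_53_2 lc_j_rc_53_2 lc_j_rc_51_2 lc_j_rc_17_1 lc_j_rc_25_1 lc_j_rc_45_1 lc_j_rc_51_2 lc_j_rc_51_2 lc_j_rc_32_1 lc_j_rc_17_1 lc_j_rc_32_1 lc_j_rc_8_1 lc_j_rc_17_1 lc_j_rc_53_2 lc_j_rc_17_1 lc_j_rc_25_1 lc_j_rc_17_1 lc_j_rc_32_1 lc_j_rc_53_2 lc_j_rc_51_2 lc_j_rc_53_2 lc_j_rc_17_1 lc_j_rc_25_1 lc_j_rc_25_1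 lc_j_rc_8_1 lc_j_rc_8_1 lc_j_rc_53_2 lc_j_rc_53_2 lc_j_rc_53_2 lc_j_rc_45_1 lc_j_rc_53_2 lc_j_rc_51_2 lc_j_rc_17_1 lc_j_rc_25_1 lc_j_rc_25_1 lc_j_rc_8_1 lc_j_rc_53_2 lc_j_rc_17_1 lc_j_rc_32_1 lc_j_rc_17_1 lc_j_rc_45_1 lc_j_rc_17_1 lc_j_rc_32_1) (@D3.rec (fun _ => (Cert rels S Gen.j)) lc_j_rc_53_2 lc_j_rc_53_2 lc_j_rc_8_3 lc_j_rc_53_2 lc_j_rc_51_2 lc_j_rc_17_1 lc_j_rc_25_1 lc_j_rc_25_1 lc_j_rc_53_2 lc_j_rc_53_2 lc_j_rc_25_3 lc_j_rc_17_1 lc_j_rc_51_2 lc_j_rc_17_1 lc_j_rc_17_1 lc_j_rc_17_1 lc_j_rc_8_1 lc_j_rc_17_1 lc_j_rc_17_1 lc_j_rc_25_1 lc_j_rc_25_1 lc_j_rc_32_1 lc_j_rc_53_2 lc_j_rc_51_2 lc_j_rc_32_1 lc_j_rc_32_1 lc_j_rc_32_1 lc_j_rc_25_1 lc_j_rc_45_3 lc_j_rc_8_1 lc_j_rc_17_1 lc_j_rc_38_1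 lc_j_rc_17_1 lc_j_rc_25_1 lc_j_rc_53_2 lc_j_rc_8_1 lc_j_rc_25_1 lc_j_rc_25_1 lc_j_rc_8_1 lc_j_rc_25_1 lc_j_rc_8_1 lc_j_rc_51_2 lc_j_rc_32_1 lc_j_rc_53_2 lc_j_rc_32_1 lc_j_rc_53_2 lc_j_rc_53_2 lc_j_rc_17_1 lc_j_rc_51_2 lc_j_rc_32_1 lc_j_rc_53_2) (@D3.rec (fun _ => (Cert rels S Gen.j)) lc_j_rc_32_1 lc_j_rc_53_2 lc_j_rc_51_2 lc_j_rc_51_2 lc_j_rc_53_2 lc_j_rc_25_1 lc_j_rc_8_1 lc_j_rc_8_1 lc_j_rc_49_3 lc_j_rc_32_1 lc_j_rc_53_2 lc_j_rc_45_1 lc_j_rc_38_1 lc_j_rc_53_2 lc_j_rc_53_2 lc_j_rc_53_2 lc_j_rc_45_1 lc_j_rc_53_2 lc_j_rc_51_2 lc_j_rc_53_2 lc_j_rc_25_1 lc_j_rc_8_1 lc_j_rc_53_2 lc_j_rc_25_1 lc_j_rc_32_1 lc_j_rc_53_2 lc_j_rc_53_2 lc_j_rc_8_3 lc_j_rc_25_1 lc_j_rc_32_1 lc_j_rc_8_3 lc_j_rc_38_3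 lc_j_rc_32_1 lc_j_rc_53_2 lc_j_rc_51_2 lc_j_rc_38_1 lc_j_rc_53_2 lc_j_rc_53_2 lc_j_rc_51_2 lc_j_rc_53_2 lc_j_rc_51_2 lc_j_rc_53_2 lc_j_rc_51_2 lc_j_rc_17_1 lc_j_rc_53_2 lc_j_rc_25_1 lc_j_rc_49_1 lc_j_rc_53_2 lc_j_rc_53_2 lc_j_rc_17_1 lc_j_rc_53_2) (@D3.rec (fun _ => (Cert rels S Gen.j)) lc_j_rc_38_1 lc_j_rc_53_2 lc_j_rc_8_1 lc_j_rc_38_1 lc_j_rc_53_2 lc_j_rc_38_1 lc_j_rc_53_2 lc_j_rc_51_2 lc_j_rc_51_2 lc_j_rc_53_2 lc_j_rc_17_3 lc_j_rc_45_1 lc_j_rc_53_2 lc_j_rc_17_3 lc_j_rc_53_2 lc_j_rc_53_2 lc_j_rc_17_1 lc_j_rc_49_1 lc_j_rc_53_2 lc_j_rc_8_1 lc_j_rc_32_1 lc_j_rc_53_2 lc_j_rc_51_2 lc_j_rc_32_1 lc_j_rc_53_2 lc_j_rc_25_1 lc_j_rc_32_1 lc_j_rc_8_1 lc_j_rc_32_1 lc_j_rc_25_1 lc_j_rc_53_2 lc_j_rc_51_2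 lc_j_rc_17_1 lc_j_rc_45_1 lc_j_rc_38_1 lc_j_rc_25_1 lc_j_rc_38_1 lc_j_rc_38_1 lc_j_rc_32_1 lc_j_rc_17_1 lc_j_rc_38_1 lc_j_rc_53_2 lc_j_rc_38_1 lc_j_rc_38_1 lc_j_rc_38_1 lc_j_rc_17_3 lc_j_rc_53_2 lc_j_rc_53_2 lc_j_rc_53_2 lc_j_rc_17_1 lc_j_rc_32_1) (@D3.rec (fun _ => (Cert rels S Gen.j)) lc_j_rc_53_2 lc_j_rc_51_2 lc_j_rc_38_1 lc_j_rc_53_2 lc_j_rc_53_2 lc_j_rc_51_0 lc_j_rc_53_2 lc_j_rc_51_2 lc_j_rc_17_1 lc_j_rc_25_1 lc_j_rc_51_2 lc_j_rc_32_1 lc_j_rc_53_2 lc_j_rc_32_1 lc_j_rc_53_2 lc_j_rc_25_1 lc_j_rc_38_1 lc_j_rc_53_2 lc_j_rc_25_1 lc_j_rc_53_2 lc_j_rc_8_1 lc_j_rc_17_1 lc_j_rc_25_1 lc_j_rc_8_3 lc_j_rc_53_2 lc_j_rc_51_2 lc_j_rc_17_1 lc_j_rc_25_1 lc_j_rc_25_1 lc_j_rc_8_1 lc_j_rc_8_1 lc_j_rc_8_1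 lc_j_rc_25_1 lc_j_rc_38_1 lc_j_rc_53_2 lc_j_rc_49_3 lc_j_rc_25_1 lc_j_rc_25_1 lc_j_rc_45_1 lc_j_rc_53_2 lc_j_rc_51_2 lc_j_rc_25_1 lc_j_rc_45_1 lc_j_rc_53_2 lc_j_rc_51_2 lc_j_rc_25_1 lc_j_rc_17_1 lc_j_rc_51_0 lc_j_rc_25_1 lc_j_rc_51_2 lc_j_rc_53_2) (@D3.rec (fun _ => (Cert rels S Gen.j)) lc_j_rc_51_2 lc_j_rc_53_2 lc_j_rc_53_2 lc_j_rc_17_1 lc_j_rc_25_1 lc_j_rc_32_1 lc_j_rc_32_1 lc_j_rc_49_3 lc_j_rc_53_2 lc_j_rc_51_2 lc_j_rc_51_2 lc_j_rc_32_1 lc_j_rc_25_1 lc_j_rc_17_1 lc_j_rc_25_1 lc_j_rc_53_2 lc_j_rc_51_2 lc_j_rc_17_1 lc_j_rc_51_2 lc_j_rc_51_2 lc_j_rc_17_1 lc_j_rc_51_2 lc_j_rc_32_3 lc_j_rc_45_3 lc_j_rc_49_3 lc_j_rc_17_1 lc_j_rc_17_1 lc_j_rc_38_1 lc_j_rc_32_1 lc_j_rc_53_2 lc_j_rc_25_1 lc_j_rc_38_1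 lc_j_rc_53_2 lc_j_rc_45_1 lc_j_rc_53_2 lc_j_rc_25_1 lc_j_rc_38_1 lc_j_rc_53_2 lc_j_rc_8_3 lc_j_rc_25_1 lc_j_rc_25_1 lc_j_rc_45_1 lc_j_rc_53_2 lc_j_rc_51_2 lc_j_rc_25_1 lc_j_rc_45_1 lc_j_rc_53_2 lc_j_rc_51_2 lc_j_rc_25_1 lc_j_rc_49_3 lc_j_rc_25_1) (@D3.rec (fun _ => (Cert rels S Gen.j)) lc_j_rc_51_2 lc_j_rc_51_2 lc_j_rc_53_2 lc_j_rc_51_2 lc_j_rc_17_1 lc_j_rc_25_1 lc_j_rc_32_1 lc_j_rc_53_2 lc_j_rc_53_2 lc_j_rc_32_1 lc_j_rc_38_1 lc_j_rc_32_1 lc_j_rc_25_1 lc_j_rc_25_1 lc_j_rc_45_1 lc_j_rc_53_2 lc_j_rc_51_2 lc_j_rc_49_1 lc_j_rc_38_1 lc_j_rc_8_3 lc_j_rc_32_1 lc_j_rc_25_1 lc_j_rc_25_1 lc_j_rc_51_2 lc_j_Cert_tree lc_j_rc_53_2 lc_j_rc_51_2 lc_j_rc_25_1 lc_j_rc_25_1 lc_j_rc_51_2 lc_j_rc_53_2 lc_j_rc_51_2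 lc_j_rc_25_1 lc_j_rc_51_2 lc_j_rc_25_1 lc_j_rc_49_1 lc_j_rc_51_0 lc_j_rc_25_1 lc_j_rc_51_2 lc_j_rc_32_1 lc_j_rc_52_0 lc_j_rc_53_2 lc_j_rc_51_2 lc_j_rc_32_1 lc_j_rc_8_1 lc_j_rc_17_1 lc_j_rc_17_1 lc_j_rc_53_2 lc_j_rc_25_1 lc_j_rc_32_1 lc_j_rc_38_1) (@D3.rec (fun _ => (Cert rels S Gen.j)) lc_j_rc_53_2 lc_j_rc_51_2 lc_j_rc_32_1 lc_j_rc_25_1 lc_j_rc_51_2 lc_j_rc_32_1 lc_j_rc_53_2 lc_j_rc_38_3 lc_j_rc_32_1 lc_j_rc_49_3 lc_j_rc_38_1 lc_j_rc_25_1 lc_j_rc_17_1 lc_j_rc_32_1 lc_j_rc_25_1 lc_j_rc_51_2 lc_j_rc_51_2 lc_j_rc_17_1 lc_j_rc_53_2 lc_j_rc_49_3 lc_j_rc_38_1 lc_j_rc_49_1 lc_j_rc_51_2 lc_j_rc_32_1 lc_j_rc_51_2 lc_j_rc_32_1 lc_j_rc_32_1 lc_j_rc_32_1 lc_j_rc_45_3 lc_j_rc_49_1 lc_j_rc_49_3 lc_j_rc_38_1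 lc_j_rc_49_1 lc_j_rc_32_3 lc_j_rc_25_3 lc_j_rc_38_1 lc_j_rc_25_3 lc_j_rc_32_1 lc_j_rc_32_1 lc_j_rc_53_2 lc_j_rc_45_3 lc_j_rc_38_1 lc_j_rc_53_2 lc_j_rc_25_1 lc_j_rc_53_2 lc_j_rc_25_1 lc_j_rc_51_2 lc_j_rc_25_1 lc_j_rc_8_1 lc_j_rc_8_1 lc_j_rc_38_1) (@D3.rec (fun _ => (Cert rels S Gen.j)) lc_j_rc_53_2 lc_j_rc_45_1 lc_j_rc_53_2 lc_j_rc_51_2 lc_j_rc_53_2 lc_j_rc_51_2 lc_j_rc_53_2 lc_j_rc_51_2 lc_j_rc_32_1 lc_j_rc_51_2 lc_j_rc_38_1 lc_j_rc_32_1 lc_j_rc_32_1 lc_j_rc_53_2 lc_j_rc_8_1 lc_j_rc_38_1 lc_j_rc_53_2 lc_j_rc_49_3 lc_j_rc_53_2 lc_j_rc_38_1 lc_j_rc_53_2 lc_j_rc_45_1 lc_j_rc_53_2 lc_j_rc_51_2 lc_j_rc_45_1 lc_j_rc_53_2 lc_j_rc_51_2 lc_j_rc_53_2 lc_j_rc_51_2 lc_j_rc_32_1 lc_j_rc_25_1 lc_j_rc_38_1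 lc_j_rc_32_1 lc_j_rc_25_1 lc_j_rc_25_1 lc_j_rc_45_1 lc_j_rc_53_2 lc_j_rc_51_2 lc_j_rc_32_1 lc_j_rc_53_2 lc_j_rc_38_1 lc_j_rc_8_1 lc_j_rc_25_1 lc_j_rc_51_2 lc_j_Cert_tree lc_j_rc_53_2 lc_j_rc_51_2 lc_j_rc_51_2 lc_j_rc_53_2 lc_j_rc_51_2 lc_j_rc_53_2) (@D3.rec (fun _ => (Cert rels S Gen.j)) lc_j_rc_8_3 lc_j_rc_8_3 lc_j_rc_52_0 lc_j_rc_53_2 lc_j_rc_51_2 lc_j_rc_32_1 lc_j_rc_53_2 lc_j_rc_51_2 lc_j_rc_32_1 lc_j_rc_25_1 lc_j_rc_17_3 lc_j_rc_51_2 lc_j_rc_32_1 lc_j_rc_53_2 lc_j_rc_51_2 lc_j_rc_32_1 lc_j_rc_25_1 lc_j_rc_51_2 lc_j_rc_32_1 lc_j_rc_25_1 lc_j_rc_53_2 lc_j_rc_32_1 lc_j_rc_53_2 lc_j_rc_38_1 lc_j_rc_53_2 lc_j_rc_53_2 lc_j_rc_51_2 lc_j_rc_32_1 lc_j_rc_25_1 lc_j_rc_25_1 lc_j_rc_38_1 lc_j_rc_53_2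 lc_j_rc_25_1 lc_j_rc_25_1 lc_j_rc_53_2 lc_j_rc_51_2 lc_j_rc_25_1 lc_j_rc_51_2 lc_j_rc_51_2 lc_j_rc_32_1 lc_j_rc_32_1 lc_j_rc_53_2 lc_j_rc_38_3 lc_j_rc_38_1 lc_j_rc_53_2 lc_j_rc_38_3 lc_j_rc_53_2 lc_j_rc_38_1 lc_j_rc_53_2 lc_j_rc_45_1 lc_j_rc_53_2) (@D3.rec (fun _ => (Cert rels S Gen.j)) lc_j_rc_51_2 lc_j_rc_45_1 lc_j_rc_53_2 lc_j_rc_51_2 lc_j_rc_53_2 lc_j_rc_51_2 lc_j_rc_32_1 lc_j_rc_25_1 lc_j_rc_8_1 lc_j_rc_8_1 lc_j_rc_25_1 lc_j_rc_25_1 lc_j_rc_45_1 lc_j_rc_53_2 lc_j_rc_51_2 lc_j_rc_38_1 lc_j_rc_53_2 lc_j_rc_32_1 lc_j_rc_25_1 lc_j_rc_25_1 lc_j_rc_51_2 lc_j_rc_53_2 lc_j_rc_51_2 lc_j_rc_25_1 lc_j_rc_25_1 lc_j_rc_51_2 lc_j_rc_49_3 lc_j_rc_53_2 lc_j_rc_51_2 lc_j_rc_17_1 lc_j_rc_25_1 lc_j_rc_51_2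 lc_j_rc_51_2 lc_j_rc_32_1 lc_j_rc_32_1 lc_j_rc_25_1 lc_j_rc_32_3 lc_j_rc_51_2 lc_j_rc_32_1 lc_j_rc_32_1 lc_j_rc_25_1 lc_j_rc_53_0 lc_j_rc_25_1 lc_j_rc_25_3 lc_j_rc_32_1 lc_j_rc_25_1 lc_j_rc_38_1 lc_j_rc_51_0 lc_j_rc_32_1 lc_j_rc_53_2 lc_j_rc_32_1) (@D3.rec (fun _ => (Cert rels S Gen.j)) lc_j_rc_32_1 lc_j_rc_49_3 lc_j_rc_45_1 lc_j_rc_25_1 lc_j_rc_38_1 lc_j_rc_53_2 lc_j_rc_17_1 lc_j_rc_25_1 lc_j_rc_25_1 lc_j_rc_45_1 lc_j_rc_53_2 lc_j_rc_51_2 lc_j_rc_25_1 lc_j_rc_49_3 lc_j_rc_53_2 lc_j_rc_17_1 lc_j_rc_25_1 lc_j_rc_25_1 lc_j_rc_45_1 lc_j_rc_53_2 lc_j_rc_51_2 lc_j_rc_17_1 lc_j_rc_17_1 lc_j_rc_32_1 lc_j_rc_25_1 lc_j_rc_25_1 lc_j_rc_51_2 lc_j_Cert_tree lc_j_rc_53_2 lc_j_rc_51_2 lc_j_rc_17_1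 lc_j_rc_25_1 lc_j_rc_25_1 lc_j_rc_51_2 lc_j_Cert_tree lc_j_rc_53_2 lc_j_rc_51_2 lc_j_rc_17_1 lc_j_Cert_tree lc_j_rc_25_1 lc_j_rc_51_2 lc_j_rc_52_0 lc_j_rc_53_2 lc_j_rc_51_2 lc_j_rc_32_1 lc_j_rc_52_0 lc_j_rc_53_2 lc_j_rc_25_1 lc_j_rc_32_1 lc_j_rc_53_2 lc_j_rc_51_2) (@D3.rec (fun _ => (Cert rels S Gen.j)) lc_j_rc_32_1 lc_j_rc_25_1 lc_j_rc_32_1 lc_j_rc_25_1 lc_j_rc_25_1 lc_j_rc_45_1 lc_j_rc_38_1 lc_j_rc_49_3 lc_j_rc_8_1 lc_j_rc_17_1 lc_j_rc_17_1 lc_j_rc_32_1 lc_j_rc_25_1 lc_j_rc_25_1 lc_j_rc_51_2 lc_j_Cert_tree lc_j_rc_53_2 lc_j_rc_51_2 lc_j_rc_8_1 lc_j_rc_8_1 lc_j_rc_17_1 lc_j_rc_17_1 lc_j_rc_17_1 lc_j_rc_17_1 lc_j_rc_32_1 lc_j_rc_51_2 lc_j_rc_32_1 lc_j_Cert_tree lc_j_rc_25_1 lc_j_rc_51_2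 lc_j_rc_32_1 lc_j_rc_52_0 lc_j_rc_53_2 lc_j_rc_51_2 lc_j_rc_32_1 lc_j_rc_8_1 lc_j_rc_17_1 lc_j_rc_17_1 lc_j_rc_17_1 lc_j_Cert_tree lc_j_rc_25_1 lc_j_rc_51_2 lc_j_rc_32_1 lc_j_rc_52_0 lc_j_rc_53_2 lc_j_rc_51_2 lc_j_rc_32_1 lc_j_rc_8_1 lc_j_Cert_tree lc_j_rc_17_1 lc_j_rc_17_1) (@D3.rec (fun _ => (Cert rels S Gen.j)) lc_j_rc_32_1 lc_j_rc_52_0 lc_j_rc_53_2 lc_j_rc_51_2 lc_j_rc_32_1 lc_j_rc_38_1 lc_j_rc_53_2 lc_j_rc_51_2 lc_j_rc_32_1 lc_j_rc_25_1 lc_j_rc_52_0 lc_j_rc_53_2 lc_j_rc_17_1 lc_j_rc_17_1 lc_j_rc_53_2 lc_j_rc_51_2 lc_j_rc_32_1 lc_j_rc_25_1 lc_j_rc_38_1 lc_j_rc_51_2 lc_j_rc_32_1 lc_j_rc_25_1 lc_j_rc_17_1 lc_j_rc_53_2 lc_j_rc_51_2 lc_j_rc_32_1 lc_j_rc_25_1 lc_j_rc_51_2 lc_j_rc_32_1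 lc_j_rc_25_1 lc_j_rc_38_1 lc_j_rc_17_1 lc_j_rc_32_1 lc_j_rc_25_1 lc_j_rc_8_1 lc_j_rc_49_3 lc_j_rc_8_1 lc_j_rc_49_3 lc_j_rc_53_2 lc_j_rc_8_1 lc_j_rc_17_1 lc_j_rc_51_2 lc_j_rc_32_1 lc_j_rc_32_1 lc_j_rc_8_1 lc_j_rc_49_3 lc_j_rc_53_2 lc_j_rc_8_3 lc_j_rc_53_2 lc_j_rc_51_2 lc_j_rc_32_1) (@D3.rec (fun _ => (Cert rels S Gen.j)) lc_j_rc_38_1 lc_j_rc_49_3 lc_j_rc_8_1 lc_j_rc_32_1 lc_j_rc_38_1 lc_j_rc_53_2 lc_j_rc_8_1 lc_j_rc_49_3 lc_j_rc_25_1 lc_j_rc_17_1 lc_j_rc_8_3 lc_j_rc_17_1 lc_j_rc_25_1 lc_j_rc_51_2 lc_j_rc_8_1 lc_j_rc_8_1 lc_j_rc_17_1 lc_j_rc_38_3 lc_j_rc_8_1 lc_j_rc_51_2 lc_j_rc_32_1 lc_j_rc_17_1 lc_j_rc_51_2 lc_j_rc_32_1 lc_j_rc_45_1 lc_j_rc_32_1 lc_j_rc_32_1 lc_j_rc_45_1 lc_j_rc_53_2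 lc_j_rc_38_1 lc_j_rc_8_3 lc_j_rc_53_2 lc_j_rc_32_1 lc_j_rc_8_3 lc_j_rc_32_1 lc_j_rc_45_1 lc_j_rc_53_2 lc_j_rc_17_1 lc_j_rc_8_1 lc_j_rc_25_3 lc_j_rc_32_1 lc_j_rc_17_1 lc_j_rc_17_1 lc_j_rc_25_1 lc_j_rc_25_1 lc_j_rc_51_2 lc_j_rc_25_1 lc_j_rc_25_1 lc_j_rc_25_1 lc_j_rc_17_1 lc_j_rc_32_3)
def ce_j_14 : D2 → D3 → (Cert rels S Gen.j) := @D2.rec (fun _ => D3 → (Cert rels S Gen.j)) (@D3.rec (fun _ => (Cert rels S Gen.j)) lc_j_rc_25_1 lc_j_rc_17_1 lc_j_rc_38_1 lc_j_rc_25_3 lc_j_rc_38_3 lc_j_rc_38_1 lc_j_rc_38_1 lc_j_rc_25_3 lc_j_rc_53_2 lc_j_rc_25_3 lc_j_rc_38_1 lc_j_rc_25_3 lc_j_rc_53_2 lc_j_rc_25_3 lc_j_rc_17_1 lc_j_rc_53_2 lc_j_rc_25_1 lc_j_rc_25_1 lc_j_rc_53_2 lc_j_rc_51_2 lc_j_rc_38_1 lc_j_rc_17_1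 lc_j_rc_38_1 lc_j_rc_38_1 lc_j_rc_25_1 lc_j_rc_51_2 lc_j_rc_38_1 lc_j_rc_38_1 lc_j_rc_51_2 lc_j_rc_17_1 lc_j_rc_51_2 lc_j_rc_8_1 lc_j_rc_53_2 lc_j_rc_17_1 lc_j_rc_17_1 lc_j_rc_8_3 lc_j_rc_38_1 lc_j_rc_25_1 lc_j_rc_53_2 lc_j_rc_45_1 lc_j_rc_17_1 lc_j_rc_53_2 lc_j_rc_25_1 lc_j_rc_32_1 lc_j_rc_53_2 lc_j_rc_51_2 lc_j_rc_32_1 lc_j_rc_8_1 lc_j_rc_32_1 lc_j_rc_8_1 lc_j_rc_32_3) (@D3.rec (fun _ => (Cert rels S Gen.j)) lc_j_rc_53_2 lc_j_rc_38_1 lc_j_rc_53_2 lc_j_rc_53_2 lc_j_rc_51_2 lc_j_rc_51_2 lc_j_rc_53_2 lc_j_rc_51_2 lc_j_rc_38_3 lc_j_rc_32_1 lc_j_rc_32_1 lc_j_rc_32_1 lc_j_rc_45_3 lc_j_rc_51_2 lc_j_rc_8_1 lc_j_rc_17_1 lc_j_rc_51_2 lc_j_rc_8_1 lc_j_rc_17_1 lc_j_rc_32_1 lc_j_rc_8_1 lc_j_rc_17_1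 lc_j_rc_38_1 lc_j_rc_17_1 lc_j_rc_32_1 lc_j_rc_8_1 lc_j_rc_17_1 lc_j_rc_32_1 lc_j_rc_8_1 lc_j_rc_32_1 lc_j_rc_38_1 lc_j_rc_8_1 lc_j_rc_25_3 lc_j_rc_8_1 lc_j_rc_38_1 lc_j_rc_53_2 lc_j_rc_53_2 lc_j_rc_51_2 lc_j_rc_51_2 lc_j_rc_8_3 lc_j_rc_8_3 lc_j_rc_53_2 lc_j_rc_8_3 lc_j_rc_25_1 lc_j_rc_51_2 lc_j_rc_51_2 lc_j_rc_8_1 lc_j_rc_17_3 lc_j_rc_8_1 lc_j_rc_8_1 lc_j_rc_17_1) (@D3.rec (fun _ => (Cert rels S Gen.j)) lc_j_rc_25_1 lc_j_rc_25_1 lc_j_rc_45_1 lc_j_rc_53_2 lc_j_rc_51_2 lc_j_rc_17_1 lc_j_rc_17_1 lc_j_rc_32_1 lc_j_rc_25_1 lc_j_rc_25_1 lc_j_rc_51_2 lc_j_rc_53_2 lc_j_rc_51_2 lc_j_rc_17_1 lc_j_rc_25_1 lc_j_rc_25_1 lc_j_rc_51_2 lc_j_rc_53_2 lc_j_rc_51_2 lc_j_rc_17_1 lc_j_rc_25_1 lc_j_rc_51_2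 lc_j_rc_32_1 lc_j_rc_51_2 lc_j_rc_17_1 lc_j_rc_8_1 lc_j_rc_8_1 lc_j_rc_17_1 lc_j_rc_53_2 lc_j_rc_38_1 lc_j_rc_17_1 lc_j_rc_32_1 lc_j_rc_25_1 lc_j_rc_51_2 lc_j_rc_51_2 lc_j_rc_8_1 lc_j_rc_8_1 lc_j_rc_32_3 lc_j_rc_17_1 lc_j_rc_32_1 lc_j_rc_51_2 lc_j_rc_32_1 lc_j_rc_8_1 lc_j_rc_17_1 lc_j_rc_32_1 lc_j_rc_8_1 lc_j_rc_32_1 lc_j_rc_38_1 lc_j_rc_17_1 lc_j_rc_45_1 lc_j_rc_45_1) (@D3.rec (fun _ => (Cert rels S Gen.j)) lc_j_rc_53_2 lc_j_rc_53_2 lc_j_rc_53_0 lc_j_rc_25_1 lc_j_rc_49_3 lc_j_rc_53_2 lc_j_rc_17_1 lc_j_rc_25_1 lc_j_rc_25_1 lc_j_rc_53_2 lc_j_rc_51_2 lc_j_rc_17_1 lc_j_rc_17_1 lc_j_rc_32_1 lc_j_rc_49_1 lc_j_rc_25_1 lc_j_rc_51_2 lc_j_rc_49_3 lc_j_rc_53_2 lc_j_rc_51_2 lc_j_rc_17_1 lc_j_rc_51_2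 lc_j_rc_17_1 lc_j_rc_25_3 lc_j_rc_17_1 lc_j_rc_53_2 lc_j_rc_25_1 lc_j_rc_32_1 lc_j_rc_53_2 lc_j_rc_53_2 lc_j_rc_17_1 lc_j_rc_17_1 lc_j_rc_53_2 lc_j_rc_51_2 lc_j_rc_49_3 lc_j_rc_8_3 lc_j_rc_45_1 lc_j_rc_38_1 lc_j_rc_49_3 lc_j_rc_17_1 lc_j_rc_17_1 lc_j_rc_32_1 lc_j_rc_25_1 lc_j_rc_25_1 lc_j_rc_51_2 lc_j_rc_53_2 lc_j_rc_51_2 lc_j_rc_32_1 lc_j_rc_53_2 lc_j_rc_25_1 lc_j_rc_17_1) (@D3.rec (fun _ => (Cert rels S Gen.j)) lc_j_rc_17_1 lc_j_rc_17_1 lc_j_rc_32_1 lc_j_rc_51_2 lc_j_rc_32_1 lc_j_Cert_tree lc_j_rc_25_1 lc_j_rc_51_2 lc_j_rc_32_1 lc_j_rc_52_0 lc_j_rc_53_2 lc_j_rc_51_2 lc_j_rc_32_1 lc_j_rc_8_1 lc_j_rc_8_1 lc_j_rc_17_1 lc_j_rc_17_1 lc_j_rc_17_1 lc_j_rc_25_1 lc_j_rc_51_2 lc_j_rc_32_1 lc_j_rc_51_2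 lc_j_rc_8_1 lc_j_rc_8_1 lc_j_rc_8_1 lc_j_rc_38_3 lc_j_rc_17_1 lc_j_rc_17_1 lc_j_rc_32_1 lc_j_rc_52_0 lc_j_rc_53_2 lc_j_rc_51_2 lc_j_rc_32_1 lc_j_rc_38_1 lc_j_rc_53_2 lc_j_rc_51_2 lc_j_rc_53_2 lc_j_rc_52_0 lc_j_rc_53_2 lc_j_rc_17_1 lc_j_rc_17_1 lc_j_rc_53_2 lc_j_rc_51_2 lc_j_rc_32_1 lc_j_rc_51_2 lc_j_rc_38_1 lc_j_rc_17_1 lc_j_rc_51_2 lc_j_rc_32_1 lc_j_rc_51_2 lc_j_rc_32_1) (@D3.rec (fun _ => (Cert rels S Gen.j)) lc_j_rc_8_1 lc_j_rc_51_2 lc_j_rc_32_1 lc_j_rc_25_1 lc_j_rc_32_1 lc_j_rc_53_2 lc_j_rc_51_2 lc_j_rc_32_1 lc_j_rc_38_1 lc_j_rc_8_1 lc_j_rc_32_1 lc_j_rc_38_1 lc_j_rc_45_1 lc_j_rc_8_1 lc_j_rc_53_2 lc_j_rc_25_1 lc_j_rc_17_1 lc_j_rc_32_1 lc_j_rc_25_1 lc_j_rc_25_1 lc_j_rc_32_1 lc_j_rc_38_1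 lc_j_rc_25_1 lc_j_rc_17_1 lc_j_rc_32_1 lc_j_rc_38_1 lc_j_rc_17_1 lc_j_rc_32_1 lc_j_rc_53_0 lc_j_rc_25_1 lc_j_rc_53_0 lc_j_rc_25_1 lc_j_rc_8_1 lc_j_rc_17_1 lc_j_rc_17_1 lc_j_rc_25_1 lc_j_rc_32_1 lc_j_rc_38_1 lc_j_rc_25_1 lc_j_rc_25_1 lc_j_rc_8_1 lc_j_rc_17_1 lc_j_rc_45_1 lc_j_rc_38_1 lc_j_rc_25_3 lc_j_rc_32_1 lc_j_rc_38_1 lc_j_rc_53_2 lc_j_rc_38_1 lc_j_rc_53_2 lc_j_rc_53_2) (@D3.rec (fun _ => (Cert rels S Gen.j)) lc_j_rc_51_2 lc_j_rc_51_2 lc_j_rc_49_1 lc_j_rc_32_1 lc_j_rc_53_2 lc_j_rc_38_3 lc_j_rc_45_3 lc_j_rc_49_1 lc_j_rc_17_1 lc_j_rc_38_1 lc_j_rc_38_1 lc_j_rc_8_3 lc_j_rc_38_1 lc_j_rc_45_1 lc_j_rc_49_1 lc_j_rc_25_1 lc_j_rc_32_1 lc_j_rc_53_2 lc_j_rc_51_2 lc_j_rc_49_3 lc_j_rc_38_1 lc_j_rc_38_1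 lc_j_rc_49_5 lc_j_rc_38_1 lc_j_rc_51_2 lc_j_rc_53_2 lc_j_rc_49_1 lc_j_rc_49_1 lc_j_rc_32_3 lc_j_rc_25_1 lc_j_rc_17_1 lc_j_rc_32_1 lc_j_rc_32_1 lc_j_rc_38_1 lc_j_rc_49_3 lc_j_rc_53_2 lc_j_rc_49_3 lc_j_rc_49_5 lc_j_rc_49_1 lc_j_rc_45_1 lc_j_rc_38_1 lc_j_rc_53_2 lc_j_rc_38_1 lc_j_rc_25_3 lc_j_rc_17_1 lc_j_rc_17_1 lc_j_rc_32_1 lc_j_rc_8_1 lc_j_rc_8_1 lc_j_rc_53_2 lc_j_rc_51_2) (@D3.rec (fun _ => (Cert rels S Gen.j)) lc_j_rc_32_1 lc_j_rc_17_1 lc_j_rc_51_2 lc_j_rc_32_1 lc_j_rc_17_1 lc_j_rc_32_1 lc_j_rc_38_1 lc_j_rc_45_1 lc_j_rc_32_1 lc_j_rc_38_1 lc_j_rc_25_3 lc_j_rc_8_3 lc_j_rc_49_5 lc_j_rc_38_1 lc_j_rc_45_1 lc_j_rc_45_1 lc_j_rc_25_3 lc_j_rc_38_3 lc_j_rc_25_1 lc_j_rc_17_1 lc_j_rc_38_1 lc_j_rc_38_1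 lc_j_rc_25_1 lc_j_rc_45_1 lc_j_rc_38_1 lc_j_rc_49_3 lc_j_rc_17_1 lc_j_rc_17_1 lc_j_rc_25_1 lc_j_rc_51_2 lc_j_rc_51_2 lc_j_rc_17_1 lc_j_rc_53_2 lc_j_rc_38_1 lc_j_rc_8_1 lc_j_rc_17_1 lc_j_rc_17_1 lc_j_rc_38_1 lc_j_rc_53_2 lc_j_rc_38_1 lc_j_rc_32_1 lc_j_rc_51_2 lc_j_rc_32_1 lc_j_rc_52_0 lc_j_rc_53_2 lc_j_rc_38_1 lc_j_rc_32_1 lc_j_rc_17_1 lc_j_rc_32_1 lc_j_rc_17_1 lc_j_rc_8_1) (@D3.rec (fun _ => (Cert rels S Gen.j)) lc_j_rc_8_1 lc_j_rc_32_1 lc_j_rc_25_3 lc_j_rc_8_1 lc_j_rc_25_3 lc_j_rc_32_1 lc_j_rc_53_2 lc_j_rc_32_1 lc_j_rc_8_1 lc_j_rc_8_1 lc_j_rc_53_0 lc_j_rc_32_1 lc_j_rc_25_1 lc_j_rc_17_1 lc_j_rc_17_1 lc_j_rc_17_3 lc_j_rc_45_1 lc_j_rc_38_3 lc_j_rc_17_1 lc_j_rc_32_1 lc_j_rc_8_1 lc_j_rc_53_2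 lc_j_rc_8_1 lc_j_rc_32_1 lc_j_rc_53_2 lc_j_rc_8_1 lc_j_rc_32_1 lc_j_rc_38_1 lc_j_rc_32_1 lc_j_rc_32_1 lc_j_rc_38_1 lc_j_rc_38_1 lc_j_rc_45_1 lc_j_rc_49_1 lc_j_rc_8_1 lc_j_rc_25_1 lc_j_rc_8_1 lc_j_rc_8_1 lc_j_rc_53_2 lc_j_rc_51_2 lc_j_rc_51_2 lc_j_rc_8_3 lc_j_rc_17_1 lc_j_rc_49_3 lc_j_rc_53_2 lc_j_rc_53_2 lc_j_rc_51_2 lc_j_rc_53_2 lc_j_rc_51_2 lc_j_rc_51_2 lc_j_rc_17_3) (@D3.rec (fun _ => (Cert rels S Gen.j)) lc_j_rc_25_1 lc_j_rc_25_1 lc_j_rc_45_1 lc_j_rc_38_1 lc_j_rc_49_3 lc_j_rc_17_1 lc_j_rc_17_1 lc_j_rc_32_1 lc_j_rc_25_1 lc_j_rc_25_1 lc_j_rc_51_2 lc_j_rc_38_1 lc_j_rc_53_2 lc_j_rc_51_2 lc_j_rc_32_1 lc_j_rc_17_1 lc_j_rc_17_1 lc_j_rc_17_1 lc_j_rc_32_1 lc_j_rc_32_1 lc_j_rc_25_1 lc_j_rc_51_2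 lc_j_rc_51_2 lc_j_rc_32_1 lc_j_rc_17_1 lc_j_rc_17_1 lc_j_rc_17_1 lc_j_rc_25_1 lc_j_rc_51_2 lc_j_rc_17_1 lc_j_rc_51_2 lc_j_rc_17_1 lc_j_rc_17_1 lc_j_rc_51_2 lc_j_rc_32_1 lc_j_rc_17_1 lc_j_rc_32_1 lc_j_rc_53_2 lc_j_rc_51_2 lc_j_rc_49_1 lc_j_rc_49_1 lc_j_rc_53_2 lc_j_rc_53_0 lc_j_rc_53_2 lc_j_rc_51_2 lc_j_rc_51_2 lc_j_rc_25_1 lc_j_rc_25_1 lc_j_rc_8_1 lc_j_rc_8_1 lc_j_rc_8_1) (@D3.rec (fun _ => (Cert rels S Gen.j)) lc_j_rc_17_1 lc_j_rc_17_1 lc_j_rc_25_1 lc_j_rc_51_2 lc_j_rc_51_2 lc_j_rc_32_1 lc_j_rc_32_1 lc_j_rc_38_1 lc_j_rc_17_1 lc_j_rc_17_1 lc_j_rc_38_1 lc_j_rc_53_2 lc_j_rc_51_2 lc_j_rc_32_1 lc_j_rc_8_1 lc_j_rc_17_1 lc_j_rc_8_1 lc_j_rc_53_2 lc_j_rc_53_2 lc_j_rc_17_3 lc_j_rc_17_1 lc_j_rc_8_3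 lc_j_rc_17_1 lc_j_rc_49_3 lc_j_rc_53_2 lc_j_rc_8_3 lc_j_rc_53_0 lc_j_rc_25_1 lc_j_rc_25_1 lc_j_rc_51_2 lc_j_rc_53_2 lc_j_rc_53_2 lc_j_rc_17_1 lc_j_rc_17_1 lc_j_rc_32_1 lc_j_rc_25_1 lc_j_rc_51_2 lc_j_rc_51_2 lc_j_rc_32_1 lc_j_rc_32_1 lc_j_rc_32_1 lc_j_rc_45_1 lc_j_rc_17_1 lc_j_rc_17_1 lc_j_rc_45_1 lc_j_rc_32_1 lc_j_rc_32_1 lc_j_Cert_tree lc_j_rc_53_2 lc_j_rc_51_2 lc_j_rc_52_0) (@D3.rec (fun _ => (Cert rels S Gen.j)) lc_j_rc_53_2 lc_j_rc_53_2 lc_j_rc_32_1 lc_j_rc_8_1 lc_j_rc_17_1 lc_j_rc_17_1 lc_j_rc_51_2 lc_j_rc_8_1 lc_j_rc_53_2 lc_j_rc_17_1 lc_j_rc_52_0 lc_j_rc_53_2 lc_j_rc_53_2 lc_j_rc_32_1 lc_j_rc_53_2 lc_j_rc_51_2 lc_j_rc_17_1 lc_j_rc_53_2 lc_j_rc_51_2 lc_j_rc_32_1 lc_j_rc_51_2 lc_j_rc_25_1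 lc_j_rc_25_1 lc_j_rc_25_1 lc_j_rc_51_2 lc_j_rc_45_1 lc_j_rc_49_3 lc_j_rc_17_1 lc_j_rc_17_1 lc_j_rc_17_1 lc_j_rc_32_1 lc_j_rc_25_1 lc_j_rc_51_2 lc_j_rc_32_1 lc_j_rc_52_0 lc_j_rc_53_2 lc_j_rc_51_2 lc_j_rc_32_1 lc_j_rc_32_1 lc_j_rc_32_1 lc_j_rc_32_1 lc_j_rc_38_1 lc_j_rc_53_2 lc_j_rc_51_2 lc_j_rc_17_1 lc_j_rc_17_1 lc_j_rc_17_1 lc_j_rc_38_1 lc_j_rc_38_1 lc_j_rc_53_2 lc_j_rc_53_2) (@D3.rec (fun _ => (Cert rels S Gen.j)) lc_j_rc_51_2 lc_j_rc_52_0 lc_j_rc_53_2 lc_j_rc_51_2 lc_j_rc_32_1 lc_j_rc_38_1 lc_j_rc_53_2 lc_j_rc_51_2 lc_j_rc_32_1 lc_j_rc_25_1 lc_j_rc_8_1 lc_j_rc_8_1 lc_j_rc_8_1 lc_j_rc_17_1 lc_j_rc_17_1 lc_j_rc_51_2 lc_j_rc_32_1 lc_j_rc_38_1 lc_j_rc_53_2 lc_j_rc_51_2 lc_j_rc_8_1 lc_j_rc_8_1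 lc_j_rc_25_3 lc_j_rc_17_1 lc_j_rc_32_1 lc_j_rc_53_2 lc_j_rc_51_2 lc_j_rc_32_1 lc_j_rc_38_1 lc_j_rc_45_1 lc_j_rc_51_2 lc_j_rc_53_2 lc_j_rc_51_2 lc_j_rc_17_1 lc_j_rc_25_1 lc_j_rc_51_2 lc_j_rc_32_1 lc_j_rc_17_1 lc_j_rc_53_2 lc_j_rc_45_1 lc_j_rc_49_1 lc_j_rc_17_1 lc_j_rc_17_1 lc_j_rc_32_1 lc_j_rc_25_1 lc_j_rc_51_2 lc_j_rc_51_2 lc_j_rc_8_1 lc_j_rc_17_1 lc_j_rc_17_1 lc_j_rc_17_1) (@D3.rec (fun _ => (Cert rels S Gen.j)) lc_j_rc_25_1 lc_j_rc_32_1 lc_j_rc_51_2 lc_j_rc_8_3 lc_j_rc_32_1 lc_j_rc_25_1 lc_j_rc_32_1 lc_j_rc_32_1 lc_j_rc_51_2 lc_j_rc_49_3 lc_j_rc_38_1 lc_j_rc_53_0 lc_j_rc_32_1 lc_j_rc_8_1 lc_j_rc_32_1 lc_j_rc_38_1 lc_j_rc_38_1 lc_j_rc_8_1 lc_j_rc_38_1 lc_j_rc_8_1 lc_j_rc_32_1 lc_j_rc_32_1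 lc_j_rc_38_1 lc_j_rc_38_1 lc_j_rc_45_1 lc_j_rc_53_0 lc_j_rc_17_1 lc_j_rc_38_3 lc_j_rc_45_1 lc_j_rc_17_1 lc_j_rc_17_1 lc_j_rc_32_1 lc_j_rc_8_1 lc_j_rc_53_2 lc_j_rc_53_2 lc_j_rc_8_1 lc_j_rc_8_1 lc_j_rc_32_1 lc_j_rc_49_3 lc_j_rc_32_1 lc_j_rc_25_1 lc_j_rc_38_1 lc_j_rc_17_1 lc_j_rc_25_1 lc_j_rc_17_1 lc_j_rc_32_1 lc_j_rc_38_1 lc_j_rc_8_1 lc_j_rc_32_1 lc_j_rc_25_1 lc_j_rc_25_1) (@D3.rec (fun _ => (Cert rels S Gen.j)) lc_j_rc_38_1 lc_j_rc_32_1 lc_j_rc_17_1 lc_j_rc_17_1 lc_j_rc_17_1 lc_j_rc_25_1 lc_j_rc_25_1 lc_j_rc_17_1 lc_j_rc_32_1 lc_j_rc_51_2 lc_j_rc_53_2 lc_j_rc_51_2 lc_j_rc_51_2 lc_j_rc_8_3 lc_j_rc_8_1 lc_j_rc_8_1 lc_j_rc_32_1 lc_j_rc_38_1 lc_j_rc_53_2 lc_j_rc_53_2 lc_j_rc_53_2 lc_j_rc_17_3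 lc_j_rc_25_1 lc_j_rc_25_1 lc_j_rc_51_2 lc_j_rc_32_1 lc_j_rc_17_1 lc_j_rc_17_3 lc_j_rc_53_2 lc_j_rc_53_2 lc_j_rc_51_2 lc_j_rc_32_1 lc_j_rc_32_1 lc_j_rc_25_1 lc_j_rc_38_1 lc_j_rc_25_1 lc_j_rc_51_2 lc_j_rc_53_2 lc_j_rc_17_3 lc_j_rc_53_2 lc_j_rc_38_1 lc_j_rc_53_2 lc_j_rc_17_1 lc_j_rc_53_2 lc_j_rc_45_1 lc_j_rc_53_2 lc_j_rc_51_2 lc_j_rc_45_1 lc_j_rc_53_2 lc_j_rc_51_2 lc_j_rc_51_0) (@D3.rec (fun _ => (Cert rels S Gen.j)) lc_j_rc_51_0 lc_j_rc_53_2 lc_j_rc_51_0 lc_j_rc_53_2 lc_j_rc_25_1 lc_j_rc_53_2 lc_j_rc_51_2 lc_j_rc_53_2 lc_j_rc_25_3 lc_j_rc_17_1 lc_j_rc_25_1 lc_j_rc_32_1 lc_j_rc_53_2 lc_j_rc_38_3 lc_j_rc_38_1 lc_j_rc_25_1 lc_j_rc_8_1 lc_j_rc_53_2 lc_j_rc_8_3 lc_j_rc_8_3 lc_j_rc_8_3 lc_j_rc_53_2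 lc_j_rc_32_1 lc_j_rc_32_3 lc_j_rc_8_3 lc_j_rc_53_2 lc_j_rc_53_2 lc_j_rc_32_1 lc_j_rc_38_1 lc_j_rc_53_2 lc_j_rc_38_1 lc_j_rc_53_2 lc_j_rc_51_2 lc_j_rc_51_2 lc_j_rc_17_1 lc_j_rc_53_2 lc_j_rc_17_3 lc_j_rc_53_2 lc_j_rc_25_3 lc_j_rc_32_1 lc_j_rc_53_2 lc_j_rc_51_2 lc_j_rc_32_1 lc_j_rc_25_1 lc_j_Cert_tree lc_j_rc_32_3 lc_j_rc_51_2 lc_j_rc_52_0 lc_j_rc_53_2 lc_j_rc_17_3 lc_j_rc_32_1) (@D3.rec (fun _ => (Cert rels S Gen.j)) lc_j_rc_53_2 lc_j_rc_25_1 lc_j_rc_53_2 lc_j_rc_51_2 lc_j_rc_32_1 lc_j_rc_25_1 lc_j_rc_53_2 lc_j_rc_38_3 lc_j_rc_32_1 lc_j_rc_49_1 lc_j_rc_38_1 lc_j_rc_17_1 lc_j_rc_32_1 lc_j_rc_53_2 lc_j_rc_8_3 lc_j_rc_38_1 lc_j_rc_53_2 lc_j_rc_49_3 lc_j_rc_49_3 lc_j_rc_25_1 lc_j_rc_38_1 lc_j_rc_53_2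 lc_j_rc_25_1 lc_j_rc_25_1 lc_j_rc_45_1 lc_j_rc_53_2 lc_j_rc_51_2 lc_j_rc_25_1 lc_j_rc_45_1 lc_j_rc_53_2 lc_j_rc_51_2 lc_j_rc_51_2 lc_j_rc_53_2 lc_j_rc_51_2 lc_j_rc_32_1 lc_j_rc_32_1 lc_j_rc_38_1 lc_j_rc_32_1 lc_j_rc_25_1 lc_j_rc_25_1 lc_j_rc_45_1 lc_j_rc_53_2 lc_j_rc_51_2 lc_j_rc_49_5 lc_j_rc_49_5 lc_j_rc_49_3 lc_j_rc_25_1 lc_j_rc_25_1 lc_j_rc_51_2 lc_j_rc_53_2 lc_j_rc_51_2) (@D3.rec (fun _ => (Cert rels S Gen.j)) lc_j_rc_25_1 lc_j_rc_25_1 lc_j_rc_51_2 lc_j_rc_49_3 lc_j_rc_53_2 lc_j_rc_51_2 lc_j_rc_17_1 lc_j_rc_25_1 lc_j_rc_51_2 lc_j_rc_32_1 lc_j_rc_51_2 lc_j_rc_32_1 lc_j_rc_17_1 lc_j_rc_32_1 lc_j_rc_38_1 lc_j_rc_25_1 lc_j_rc_32_3 lc_j_rc_51_2 lc_j_rc_32_1 lc_j_rc_32_1 lc_j_rc_25_1 lc_j_rc_17_1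 lc_j_rc_51_2 lc_j_rc_8_1 lc_j_rc_49_3 lc_j_rc_49_5 lc_j_rc_25_1 lc_j_rc_8_3 lc_j_rc_38_1 lc_j_rc_32_1 lc_j_rc_32_1 lc_j_rc_17_1 lc_j_rc_38_1 lc_j_rc_32_1 lc_j_rc_38_1 lc_j_rc_32_1 lc_j_rc_53_2 lc_j_rc_38_1 lc_j_rc_53_2 lc_j_rc_53_2 lc_j_rc_51_2 lc_j_rc_8_1 lc_j_rc_38_1 lc_j_rc_25_1 lc_j_rc_38_1 lc_j_rc_53_2 lc_j_rc_25_1 lc_j_rc_25_1 lc_j_rc_38_1 lc_j_rc_53_2 lc_j_rc_51_2) (@D3.rec (fun _ => (Cert rels S Gen.j)) lc_j_rc_25_1 lc_j_rc_51_2 lc_j_rc_51_2 lc_j_rc_53_2 lc_j_rc_53_2 lc_j_rc_8_1 lc_j_rc_17_1 lc_j_rc_8_3 lc_j_rc_32_1 lc_j_rc_49_3 lc_j_rc_53_2 lc_j_rc_38_1 lc_j_rc_53_2 lc_j_rc_38_1 lc_j_rc_53_2 lc_j_rc_38_1 lc_j_rc_53_2 lc_j_rc_51_2 lc_j_rc_51_2 lc_j_rc_8_3 lc_j_rc_53_2 lc_j_rc_8_3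 lc_j_rc_8_1 lc_j_rc_8_1 lc_j_rc_8_1 lc_j_rc_8_1 lc_j_rc_53_2 lc_j_rc_51_2 lc_j_rc_53_2 lc_j_rc_8_3 lc_j_Cert_tree lc_j_rc_53_2 lc_j_rc_51_2 lc_j_rc_32_1 lc_j_rc_52_0 lc_j_rc_53_2 lc_j_rc_8_3 lc_j_rc_32_1 lc_j_rc_53_2 lc_j_rc_51_2 lc_j_rc_8_1 lc_j_rc_53_2 lc_j_rc_51_2 lc_j_rc_32_1 lc_j_rc_51_2 lc_j_rc_32_1 lc_j_rc_32_1 lc_j_rc_25_1 lc_j_rc_38_1 lc_j_rc_53_2 lc_j_rc_17_1) (@D3.rec (fun _ => (Cert rels S Gen.j)) lc_j_rc_25_1 lc_j_rc_25_1 lc_j_rc_45_1 lc_j_rc_53_2 lc_j_rc_51_2 lc_j_rc_49_3 lc_j_rc_53_2 lc_j_rc_17_1 lc_j_rc_25_1 lc_j_rc_25_1 lc_j_rc_45_1 lc_j_rc_53_2 lc_j_rc_51_2 lc_j_rc_17_1 lc_j_rc_17_1 lc_j_rc_32_1 lc_j_rc_38_1 lc_j_rc_25_1 lc_j_rc_51_2 lc_j_Cert_tree lc_j_rc_53_2 lc_j_rc_51_2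 lc_j_rc_17_1 lc_j_rc_51_2 lc_j_rc_25_1 lc_j_rc_53_2 lc_j_rc_51_2 lc_j_rc_17_1 lc_j_rc_53_2 lc_j_rc_17_3 lc_j_rc_32_1 lc_j_rc_52_0 lc_j_rc_53_2 lc_j_rc_51_2 lc_j_rc_32_1 lc_j_rc_17_1 lc_j_rc_38_1 lc_j_rc_53_2 lc_j_rc_51_2 lc_j_rc_32_1 lc_j_rc_25_1 lc_j_rc_45_1 lc_j_rc_38_1 lc_j_rc_49_3 lc_j_rc_8_1 lc_j_rc_17_1 lc_j_rc_17_1 lc_j_rc_25_1 lc_j_rc_51_2 lc_j_Cert_tree lc_j_rc_53_2) (@D3.rec (fun _ => (Cert rels S Gen.j)) lc_j_rc_51_2 lc_j_rc_8_1 lc_j_rc_8_1 lc_j_rc_32_1 lc_j_rc_38_1 lc_j_rc_17_1 lc_j_rc_17_1 lc_j_rc_45_1 lc_j_rc_32_1 lc_j_Cert_tree lc_j_rc_53_2 lc_j_rc_51_2 lc_j_rc_32_1 lc_j_rc_52_0 lc_j_rc_53_2 lc_j_rc_51_2 lc_j_rc_32_1 lc_j_rc_8_1 lc_j_rc_17_1 lc_j_rc_32_1 lc_j_rc_52_0 lc_j_rc_53_2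 lc_j_rc_51_2 lc_j_rc_32_1 lc_j_rc_8_1 lc_j_rc_53_2 lc_j_rc_53_2 lc_j_rc_32_1 lc_j_rc_52_0 lc_j_rc_53_2 lc_j_rc_17_3 lc_j_rc_38_1 lc_j_rc_53_2 lc_j_rc_51_2 lc_j_rc_32_1 lc_j_rc_25_1 lc_j_rc_8_1 lc_j_rc_17_1 lc_j_rc_53_2 lc_j_rc_51_2 lc_j_rc_45_1 lc_j_rc_51_2 lc_j_rc_32_1 lc_j_rc_17_1 lc_j_rc_53_2 lc_j_rc_51_2 lc_j_rc_32_1 lc_j_rc_25_1 lc_j_rc_51_2 lc_j_rc_32_1 lc_j_rc_25_1) (@D3.rec (fun _ => (Cert rels S Gen.j)) lc_j_rc_38_1 lc_j_rc_17_1 lc_j_rc_32_1 lc_j_rc_25_1 lc_j_rc_8_1 lc_j_rc_17_1 lc_j_rc_32_1 lc_j_rc_38_3 lc_j_rc_38_1 lc_j_rc_8_1 lc_j_rc_45_1 lc_j_rc_32_1 lc_j_rc_17_1 lc_j_rc_32_1 lc_j_rc_53_2 lc_j_rc_45_1 lc_j_rc_32_1 lc_j_rc_38_1 lc_j_rc_8_1 lc_j_rc_32_1 lc_j_rc_38_1 lc_j_rc_38_1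 lc_j_rc_45_1 lc_j_rc_32_1 lc_j_rc_8_1 lc_j_rc_32_1 lc_j_rc_8_1 lc_j_rc_53_2 lc_j_rc_17_1 lc_j_rc_53_2 lc_j_rc_25_1 lc_j_rc_8_1 lc_j_rc_8_1 lc_j_rc_53_2 lc_j_rc_8_3 lc_j_rc_25_1 lc_j_rc_8_1 lc_j_rc_32_1 lc_j_rc_32_1 lc_j_rc_53_2 lc_j_rc_17_1 lc_j_rc_25_1 lc_j_rc_53_2 lc_j_rc_53_2 lc_j_rc_25_1 lc_j_rc_51_2 lc_j_rc_17_1 lc_j_rc_32_1 lc_j_rc_51_2 lc_j_rc_32_1 lc_j_rc_32_1) (@D3.rec (fun _ => (Cert rels S Gen.j)) lc_j_rc_25_1 lc_j_rc_17_1 lc_j_rc_38_1 lc_j_rc_17_1 lc_j_rc_8_1 lc_j_rc_17_1 lc_j_rc_25_1 lc_j_rc_53_2 lc_j_rc_53_2 lc_j_rc_51_2 lc_j_rc_17_1 lc_j_rc_25_1 lc_j_rc_25_1 lc_j_rc_8_1 lc_j_rc_25_3 lc_j_rc_51_2 lc_j_rc_25_1 lc_j_rc_53_2 lc_j_rc_17_1 lc_j_rc_17_1 lc_j_rc_25_1 lc_j_rc_32_1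 lc_j_rc_32_1 lc_j_rc_17_1 lc_j_rc_25_1 lc_j_rc_17_1 lc_j_rc_38_1 lc_j_rc_32_1 lc_j_rc_51_2 lc_j_rc_25_1 lc_j_rc_17_1 lc_j_rc_17_1 lc_j_rc_25_1 lc_j_rc_32_1 lc_j_rc_53_2 lc_j_rc_32_1 lc_j_rc_25_3 lc_j_rc_17_1 lc_j_rc_32_1 lc_j_rc_32_1 lc_j_rc_8_1 lc_j_rc_17_1 lc_j_rc_17_1 lc_j_rc_25_1 lc_j_rc_32_1 lc_j_rc_38_1 lc_j_rc_17_3 lc_j_rc_32_1 lc_j_rc_25_1 lc_j_rc_25_1 lc_j_rc_17_1) (@D3.rec (fun _ => (Cert rels S Gen.j)) lc_j_rc_8_1 lc_j_rc_32_1 lc_j_rc_53_2 lc_j_rc_38_1 lc_j_rc_53_2 lc_j_rc_53_2 lc_j_rc_51_2 lc_j_rc_32_1 lc_j_rc_53_2 lc_j_rc_51_2 lc_j_rc_38_1 lc_j_rc_53_2 lc_j_rc_53_2 lc_j_rc_53_2 lc_j_rc_51_2 lc_j_rc_53_2 lc_j_rc_51_2 lc_j_rc_25_1 lc_j_rc_8_1 lc_j_rc_17_1 lc_j_rc_53_2 lc_j_rc_38_1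 lc_j_rc_53_2 lc_j_rc_38_1 lc_j_rc_53_2 lc_j_rc_38_1 lc_j_rc_53_2 lc_j_rc_51_2 lc_j_rc_51_2 lc_j_rc_17_1 lc_j_rc_53_2 lc_j_rc_17_3 lc_j_rc_17_1 lc_j_rc_32_1 lc_j_rc_32_1 lc_j_rc_25_1 lc_j_rc_32_1 lc_j_rc_25_1 lc_j_rc_32_1 lc_j_rc_8_3 lc_j_rc_8_3 lc_j_rc_8_3 lc_j_rc_38_1 lc_j_rc_53_2 lc_j_rc_17_1 lc_j_rc_38_1 lc_j_rc_53_2 lc_j_rc_38_1 lc_j_rc_53_2 lc_j_rc_51_2 lc_j_rc_51_2) (@D3.rec (fun _ => (Cert rels S Gen.j)) lc_j_rc_53_2 lc_j_rc_25_1 lc_j_rc_51_2 lc_j_rc_53_2 lc_j_rc_25_1 lc_j_rc_17_1 lc_j_rc_8_1 lc_j_rc_32_1 lc_j_rc_53_2 lc_j_rc_53_2 lc_j_rc_32_1 lc_j_rc_38_1 lc_j_rc_17_1 lc_j_rc_53_2 lc_j_rc_51_2 lc_j_rc_38_1 lc_j_rc_25_1 lc_j_rc_45_1 lc_j_rc_38_1 lc_j_rc_25_1 lc_j_rc_17_3 lc_j_rc_38_1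 lc_j_rc_51_2 lc_j_rc_8_1 lc_j_rc_32_1 lc_j_rc_53_2 lc_j_rc_17_3 lc_j_rc_32_1 lc_j_rc_8_1 lc_j_rc_17_1 lc_j_rc_17_1 lc_j_rc_53_2 lc_j_rc_25_1 lc_j_rc_38_1 lc_j_rc_17_3 lc_j_rc_32_1 lc_j_rc_25_1 lc_j_rc_8_1 lc_j_rc_32_1 lc_j_rc_49_1 lc_j_rc_32_1 lc_j_rc_38_1 lc_j_rc_53_2 lc_j_rc_38_1 lc_j_rc_32_1 lc_j_rc_38_1 lc_j_rc_32_1 lc_j_rc_45_1 lc_j_rc_38_1 lc_j_rc_17_3 lc_j_rc_17_3) (@D3.rec (fun _ => (Cert rels S Gen.j)) lc_j_rc_38_1 lc_j_rc_53_2 lc_j_rc_8_1 lc_j_rc_25_1 lc_j_rc_53_2 lc_j_rc_53_2 lc_j_rc_51_2 lc_j_rc_51_2 lc_j_rc_53_2 lc_j_rc_25_1 lc_j_rc_17_1 lc_j_rc_32_1 lc_j_rc_32_1 lc_j_rc_53_2 lc_j_rc_51_2 lc_j_rc_38_1 lc_j_rc_53_2 lc_j_rc_25_1 lc_j_rc_38_1 lc_j_rc_53_2 lc_j_rc_51_2 lc_j_rc_25_1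 lc_j_rc_25_1 lc_j_rc_38_1 lc_j_rc_53_2 lc_j_rc_51_2 lc_j_rc_25_1 lc_j_rc_51_2 lc_j_rc_25_1 lc_j_rc_49_1 lc_j_rc_17_1 lc_j_rc_51_2 lc_j_rc_17_1 lc_j_rc_38_1 lc_j_rc_17_1 lc_j_rc_25_1 lc_j_rc_32_1 lc_j_rc_32_1 lc_j_rc_8_1 lc_j_rc_8_1 lc_j_rc_25_1 lc_j_rc_25_1 lc_j_rc_45_1 lc_j_rc_53_2 lc_j_rc_51_2 lc_j_rc_49_3 lc_j_rc_38_1 lc_j_rc_53_2 lc_j_rc_38_1 lc_j_rc_25_1 lc_j_rc_51_2) (@D3.rec (fun _ => (Cert rels S Gen.j)) lc_j_rc_53_2 lc_j_rc_51_2 lc_j_rc_51_2 lc_j_rc_53_2 lc_j_rc_51_2 lc_j_rc_25_1 lc_j_rc_38_1 lc_j_rc_53_2 lc_j_rc_25_1 lc_j_rc_32_1 lc_j_rc_51_2 lc_j_rc_32_1 lc_j_rc_17_1 lc_j_rc_25_1 lc_j_rc_17_1 lc_j_rc_32_1 lc_j_rc_38_1 lc_j_rc_25_1 lc_j_rc_53_2 lc_j_rc_51_2 lc_j_rc_45_1 lc_j_rc_49_1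 lc_j_rc_17_1 lc_j_rc_51_2 lc_j_rc_51_2 lc_j_rc_38_3 lc_j_rc_49_3 lc_j_rc_45_3 lc_j_rc_49_1 lc_j_rc_49_1 lc_j_rc_25_1 lc_j_rc_17_1 lc_j_rc_25_1 lc_j_rc_38_1 lc_j_rc_53_2 lc_j_rc_8_1 lc_j_rc_25_1 lc_j_rc_25_1 lc_j_rc_45_1 lc_j_rc_53_2 lc_j_rc_51_2 lc_j_rc_38_1 lc_j_rc_53_2 lc_j_rc_25_1 lc_j_rc_25_1 lc_j_rc_45_1 lc_j_rc_53_2 lc_j_rc_51_2 lc_j_rc_38_1 lc_j_rc_8_3 lc_j_rc_32_1)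
def ce_j_15 : D2 → D3 → (Cert rels S Gen.j) := @D2.rec (fun _ => D3 → (Cert rels S Gen.j)) (@D3.rec (fun _ => (Cert rels S Gen.j)) lc_j_rc_38_1 lc_j_rc_25_1 lc_j_rc_51_2 lc_j_rc_38_1 lc_j_rc_53_2 lc_j_rc_51_2 lc_j_rc_51_2 lc_j_rc_53_2 lc_j_rc_51_2 lc_j_rc_49_1 lc_j_rc_53_2 lc_j_rc_25_1 lc_j_rc_32_1 lc_j_rc_53_2 lc_j_rc_51_2 lc_j_rc_32_1 lc_j_rc_17_1 lc_j_rc_32_1 lc_j_rc_38_1 lc_j_rc_25_1 lc_j_rc_32_1 lc_j_rc_25_1 lc_j_rc_45_1 lc_j_rc_38_1 lc_j_rc_49_3 lc_j_rc_32_1 lc_j_rc_25_1 lc_j_rc_25_1 lc_j_rc_51_2 lc_j_rc_53_2 lc_j_rc_51_2 lc_j_rc_38_1 lc_j_rc_53_2 lc_j_rc_49_3 lc_j_rc_38_1 lc_j_rc_38_1 lc_j_rc_49_1 lc_j_rc_32_1 lc_j_rc_51_2 lc_j_rc_32_1 lc_j_rc_38_1 lc_j_rc_25_1 lc_j_rc_51_2 lc_j_rc_32_1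 lc_j_rc_52_0 lc_j_rc_53_2 lc_j_rc_51_2 lc_j_rc_32_1 lc_j_rc_25_1 lc_j_rc_51_2 lc_j_rc_32_1) (@D3.rec (fun _ => (Cert rels S Gen.j)) lc_j_rc_51_2 lc_j_rc_32_1 lc_j_rc_49_1 lc_j_rc_53_2 lc_j_rc_49_1 lc_j_rc_49_1 lc_j_rc_53_2 lc_j_rc_51_2 lc_j_rc_32_1 lc_j_rc_38_1 lc_j_rc_53_2 lc_j_rc_51_2 lc_j_rc_32_1 lc_j_rc_38_1 lc_j_rc_17_1 lc_j_rc_17_1 lc_j_rc_25_3 lc_j_rc_32_1 lc_j_rc_25_1 lc_j_rc_38_1 lc_j_rc_45_1 lc_j_rc_51_2 lc_j_rc_32_1 lc_j_rc_32_1 lc_j_rc_45_1 lc_j_rc_51_0 lc_j_rc_38_1 lc_j_rc_49_3 lc_j_rc_49_1 lc_j_rc_51_2 lc_j_rc_32_1 lc_j_rc_51_2 lc_j_rc_32_1 lc_j_rc_8_1 lc_j_rc_17_1 lc_j_rc_38_3 lc_j_rc_49_3 lc_j_rc_53_2 lc_j_rc_49_3 lc_j_rc_49_1 lc_j_rc_53_2 lc_j_rc_51_2 lc_j_rc_32_1 lc_j_rc_38_1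 lc_j_rc_49_3 lc_j_rc_51_0 lc_j_rc_49_1 lc_j_rc_25_3 lc_j_rc_38_1 lc_j_rc_53_2 lc_j_rc_45_3) (@D3.rec (fun _ => (Cert rels S Gen.j)) lc_j_rc_53_2 lc_j_rc_53_2 lc_j_rc_51_2 lc_j_rc_25_1 lc_j_rc_51_2 lc_j_rc_51_2 lc_j_rc_32_1 lc_j_rc_8_1 lc_j_rc_8_1 lc_j_rc_53_2 lc_j_rc_51_2 lc_j_rc_53_2 lc_j_rc_51_2 lc_j_rc_51_2 lc_j_rc_8_3 lc_j_rc_32_1 lc_j_rc_32_1 lc_j_rc_8_3 lc_j_rc_38_1 lc_j_rc_53_2 lc_j_rc_8_1 lc_j_rc_8_1 lc_j_rc_45_1 lc_j_rc_53_2 lc_j_rc_51_2 lc_j_rc_49_3 lc_j_rc_53_2 lc_j_rc_45_1 lc_j_rc_53_2 lc_j_rc_51_2 lc_j_rc_53_2 lc_j_rc_51_2 lc_j_rc_53_2 lc_j_rc_51_2 lc_j_rc_51_2 lc_j_rc_32_1 lc_j_rc_25_1 lc_j_rc_25_1 lc_j_rc_45_1 lc_j_rc_38_1 lc_j_rc_49_3 lc_j_rc_25_1 lc_j_rc_51_2 lc_j_rc_53_2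 lc_j_rc_51_2 lc_j_rc_53_2 lc_j_rc_53_2 lc_j_rc_53_2 lc_j_rc_8_1 lc_j_rc_51_2 lc_j_rc_52_0) (@D3.rec (fun _ => (Cert rels S Gen.j)) lc_j_rc_53_2 lc_j_rc_51_2 lc_j_rc_32_1 lc_j_rc_51_2 lc_j_rc_32_1 lc_j_rc_17_3 lc_j_rc_53_2 lc_j_rc_51_2 lc_j_rc_32_1 lc_j_rc_25_1 lc_j_rc_51_2 lc_j_rc_32_1 lc_j_rc_17_3 lc_j_rc_32_1 lc_j_rc_51_2 lc_j_rc_32_1 lc_j_rc_8_3 lc_j_rc_38_1 lc_j_rc_32_1 lc_j_rc_17_1 lc_j_rc_38_1 lc_j_rc_53_2 lc_j_rc_53_2 lc_j_rc_51_2 lc_j_rc_51_2 lc_j_rc_38_1 lc_j_rc_17_1 lc_j_rc_25_1 lc_j_rc_25_1 lc_j_rc_53_2 lc_j_rc_51_2 lc_j_rc_45_1 lc_j_rc_25_1 lc_j_rc_51_2 lc_j_rc_51_2 lc_j_rc_51_2 lc_j_rc_32_1 lc_j_rc_38_1 lc_j_rc_53_2 lc_j_rc_25_1 lc_j_rc_32_1 lc_j_rc_45_1 lc_j_rc_53_2 lc_j_rc_51_2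 lc_j_rc_32_1 lc_j_rc_53_2 lc_j_rc_45_1 lc_j_rc_53_2 lc_j_rc_51_2 lc_j_rc_53_2 lc_j_rc_51_2) (@D3.rec (fun _ => (Cert rels S Gen.j)) lc_j_rc_49_3 lc_j_rc_53_2 lc_j_rc_51_2 lc_j_rc_51_2 lc_j_rc_32_1 lc_j_rc_25_1 lc_j_rc_25_1 lc_j_rc_25_1 lc_j_rc_8_1 lc_j_rc_8_1 lc_j_rc_8_1 lc_j_rc_32_1 lc_j_rc_25_1 lc_j_rc_25_1 lc_j_rc_51_2 lc_j_rc_49_3 lc_j_rc_53_2 lc_j_rc_51_2 lc_j_rc_32_1 lc_j_rc_53_2 lc_j_rc_17_1 lc_j_rc_32_1 lc_j_rc_32_1 lc_j_rc_32_1 lc_j_rc_25_1 lc_j_rc_51_2 lc_j_rc_51_2 lc_j_rc_32_1 lc_j_rc_38_3 lc_j_rc_25_1 lc_j_rc_51_2 lc_j_rc_8_3 lc_j_rc_51_2 lc_j_rc_32_1 lc_j_rc_51_2 lc_j_rc_32_1 lc_j_rc_32_1 lc_j_rc_25_1 lc_j_rc_25_1 lc_j_rc_49_3 lc_j_rc_32_1 lc_j_rc_25_1 lc_j_rc_25_1 lc_j_rc_38_1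 lc_j_rc_49_3 lc_j_rc_32_1 lc_j_rc_32_1 lc_j_rc_53_2 lc_j_rc_25_1 lc_j_rc_32_1 lc_j_rc_32_1) (@D3.rec (fun _ => (Cert rels S Gen.j)) lc_j_rc_51_2 lc_j_rc_49_3 lc_j_rc_53_2 lc_j_rc_17_1 lc_j_rc_25_1 lc_j_rc_25_1 lc_j_rc_45_1 lc_j_rc_53_2 lc_j_rc_51_2 lc_j_rc_8_1 lc_j_rc_17_1 lc_j_rc_17_1 lc_j_rc_32_1 lc_j_rc_25_1 lc_j_rc_25_1 lc_j_rc_51_2 lc_j_rc_45_1 lc_j_rc_53_2 lc_j_rc_51_2 lc_j_rc_25_1 lc_j_rc_25_1 lc_j_rc_51_2 lc_j_rc_53_2 lc_j_rc_53_2 lc_j_rc_17_1 lc_j_rc_17_1 lc_j_rc_25_1 lc_j_rc_25_1 lc_j_rc_51_2 lc_j_Cert_tree lc_j_rc_53_2 lc_j_rc_51_2 lc_j_rc_32_1 lc_j_rc_17_1 lc_j_rc_17_1 lc_j_rc_32_1 lc_j_rc_32_3 lc_j_rc_32_1 lc_j_rc_8_3 lc_j_rc_25_1 lc_j_rc_51_2 lc_j_rc_52_0 lc_j_rc_53_2 lc_j_rc_51_2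 lc_j_rc_32_1 lc_j_rc_17_1 lc_j_rc_17_1 lc_j_rc_25_1 lc_j_rc_51_2 lc_j_rc_52_0 lc_j_rc_53_2) (@D3.rec (fun _ => (Cert rels S Gen.j)) lc_j_rc_51_2 lc_j_rc_32_1 lc_j_rc_52_0 lc_j_rc_53_2 lc_j_rc_51_2 lc_j_rc_32_1 lc_j_rc_53_2 lc_j_rc_51_2 lc_j_rc_32_1 lc_j_rc_25_1 lc_j_rc_53_2 lc_j_rc_51_2 lc_j_rc_51_2 lc_j_rc_32_1 lc_j_rc_25_1 lc_j_rc_17_1 lc_j_rc_32_1 lc_j_rc_32_1 lc_j_rc_8_1 lc_j_rc_25_1 lc_j_rc_25_1 lc_j_rc_25_1 lc_j_rc_51_0 lc_j_rc_45_1 lc_j_rc_49_3 lc_j_rc_8_1 lc_j_rc_8_1 lc_j_rc_17_1 lc_j_rc_17_1 lc_j_rc_17_1 lc_j_rc_17_1 lc_j_rc_32_1 lc_j_rc_51_2 lc_j_rc_32_1 lc_j_Cert_tree lc_j_rc_25_1 lc_j_rc_51_2 lc_j_rc_32_1 lc_j_rc_52_0 lc_j_rc_53_2 lc_j_rc_51_2 lc_j_rc_32_1 lc_j_rc_8_1 lc_j_rc_8_1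 lc_j_rc_17_1 lc_j_rc_17_1 lc_j_rc_51_2 lc_j_rc_17_1 lc_j_rc_17_1 lc_j_rc_32_1 lc_j_Cert_tree) (@D3.rec (fun _ => (Cert rels S Gen.j)) lc_j_rc_51_2 lc_j_rc_32_1 lc_j_rc_53_2 lc_j_rc_51_2 lc_j_rc_52_0 lc_j_rc_53_2 lc_j_rc_51_2 lc_j_rc_32_1 lc_j_rc_38_1 lc_j_rc_53_2 lc_j_rc_51_2 lc_j_rc_32_1 lc_j_rc_25_1 lc_j_rc_8_1 lc_j_rc_17_1 lc_j_rc_17_1 lc_j_rc_32_1 lc_j_rc_52_0 lc_j_rc_53_2 lc_j_rc_51_2 lc_j_rc_32_1 lc_j_rc_38_1 lc_j_rc_53_2 lc_j_rc_51_2 lc_j_rc_32_1 lc_j_rc_25_1 lc_j_rc_52_0 lc_j_rc_53_2 lc_j_rc_17_1 lc_j_rc_32_1 lc_j_rc_53_2 lc_j_rc_51_2 lc_j_rc_32_1 lc_j_rc_25_1 lc_j_rc_38_1 lc_j_rc_53_2 lc_j_rc_51_2 lc_j_rc_32_1 lc_j_rc_25_1 lc_j_rc_38_1 lc_j_rc_17_1 lc_j_rc_53_2 lc_j_rc_51_2 lc_j_rc_51_2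 lc_j_rc_32_1 lc_j_rc_38_1 lc_j_rc_32_1 lc_j_rc_25_1 lc_j_rc_8_1 lc_j_rc_51_2 lc_j_rc_32_1) (@D3.rec (fun _ => (Cert rels S Gen.j)) lc_j_rc_25_1 lc_j_rc_38_1 lc_j_rc_17_1 lc_j_rc_32_1 lc_j_rc_25_1 lc_j_rc_38_1 lc_j_rc_17_1 lc_j_rc_25_1 lc_j_rc_8_1 lc_j_rc_25_1 lc_j_rc_8_1 lc_j_rc_53_2 lc_j_rc_53_2 lc_j_rc_51_2 lc_j_rc_38_1 lc_j_rc_8_3 lc_j_rc_8_3 lc_j_rc_53_2 lc_j_rc_32_1 lc_j_rc_8_3 lc_j_rc_32_1 lc_j_rc_45_1 lc_j_rc_25_1 lc_j_rc_17_1 lc_j_rc_51_2 lc_j_rc_32_3 lc_j_rc_8_1 lc_j_rc_17_1 lc_j_rc_53_2 lc_j_rc_8_1 lc_j_rc_32_1 lc_j_rc_32_1 lc_j_rc_32_1 lc_j_rc_32_1 lc_j_rc_32_1 lc_j_rc_17_1 lc_j_rc_32_1 lc_j_rc_8_3 lc_j_rc_45_1 lc_j_rc_17_1 lc_j_rc_25_1 lc_j_rc_32_1 lc_j_rc_38_1 lc_j_rc_25_1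 lc_j_rc_38_1 lc_j_rc_38_1 lc_j_rc_45_1 lc_j_rc_38_1 lc_j_rc_38_1 lc_j_rc_25_3 lc_j_rc_38_1) (@D3.rec (fun _ => (Cert rels S Gen.j)) lc_j_rc_25_1 lc_j_rc_38_1 lc_j_rc_17_1 lc_j_rc_25_1 lc_j_rc_51_2 lc_j_rc_51_2 lc_j_rc_25_1 lc_j_rc_38_1 lc_j_rc_45_3 lc_j_rc_49_1 lc_j_rc_38_1 lc_j_rc_38_1 lc_j_rc_38_1 lc_j_rc_51_2 lc_j_rc_38_1 lc_j_rc_45_1 lc_j_rc_32_1 lc_j_rc_17_1 lc_j_rc_8_1 lc_j_rc_25_1 lc_j_rc_17_1 lc_j_rc_45_1 lc_j_rc_38_3 lc_j_rc_45_3 lc_j_rc_17_1 lc_j_rc_25_3 lc_j_rc_32_1 lc_j_rc_51_2 lc_j_rc_49_3 lc_j_rc_8_1 lc_j_rc_8_1 lc_j_rc_53_2 lc_j_rc_8_1 lc_j_rc_53_2 lc_j_rc_51_2 lc_j_rc_51_2 lc_j_rc_51_2 lc_j_rc_32_1 lc_j_rc_38_3 lc_j_rc_32_1 lc_j_rc_45_3 lc_j_rc_45_3 lc_j_rc_45_3 lc_j_rc_32_1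 lc_j_rc_8_1 lc_j_rc_17_1 lc_j_rc_32_1 lc_j_rc_8_1 lc_j_rc_32_1 lc_j_rc_38_1 lc_j_rc_32_1) (@D3.rec (fun _ => (Cert rels S Gen.j)) lc_j_rc_38_1 lc_j_rc_8_1 lc_j_rc_32_1 lc_j_rc_38_1 lc_j_rc_45_1 lc_j_rc_53_2 lc_j_rc_51_2 lc_j_rc_51_2 lc_j_rc_8_3 lc_j_rc_8_3 lc_j_rc_8_3 lc_j_rc_8_3 lc_j_rc_51_2 lc_j_rc_32_1 lc_j_rc_49_3 lc_j_rc_38_1 lc_j_rc_53_2 lc_j_rc_8_1 lc_j_rc_8_1 lc_j_rc_8_1 lc_j_rc_17_1 lc_j_rc_17_1 lc_j_rc_32_1 lc_j_rc_25_1 lc_j_rc_25_1 lc_j_rc_51_2 lc_j_rc_53_2 lc_j_rc_51_2 lc_j_rc_8_1 lc_j_rc_17_1 lc_j_rc_17_1 lc_j_rc_32_1 lc_j_rc_32_1 lc_j_rc_25_1 lc_j_rc_51_2 lc_j_rc_32_1 lc_j_rc_51_2 lc_j_rc_32_1 lc_j_rc_17_1 lc_j_rc_25_1 lc_j_rc_51_2 lc_j_rc_32_1 lc_j_rc_51_2 lc_j_rc_32_1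 lc_j_rc_51_2 lc_j_rc_32_1 lc_j_rc_38_1 lc_j_rc_17_1 lc_j_rc_17_1 lc_j_rc_49_3 lc_j_rc_17_1) (@D3.rec (fun _ => (Cert rels S Gen.j)) lc_j_rc_32_1 lc_j_rc_51_2 lc_j_rc_32_1 lc_j_rc_8_1 lc_j_rc_25_3 lc_j_rc_38_1 lc_j_rc_32_1 lc_j_rc_51_2 lc_j_rc_32_1 lc_j_rc_38_1 lc_j_rc_8_1 lc_j_rc_32_1 lc_j_rc_38_1 lc_j_rc_38_1 lc_j_rc_45_1 lc_j_rc_38_3 lc_j_rc_45_1 lc_j_rc_53_2 lc_j_rc_45_1 lc_j_rc_53_2 lc_j_rc_53_0 lc_j_rc_53_0 lc_j_rc_49_3 lc_j_rc_25_1 lc_j_rc_53_2 lc_j_rc_53_2 lc_j_rc_17_1 lc_j_rc_17_1 lc_j_rc_32_1 lc_j_rc_25_1 lc_j_rc_51_2 lc_j_rc_51_2 lc_j_rc_17_1 lc_j_rc_8_3 lc_j_rc_17_1 lc_j_rc_17_1 lc_j_rc_49_3 lc_j_rc_51_2 lc_j_rc_32_1 lc_j_rc_53_2 lc_j_rc_51_2 lc_j_rc_32_1 lc_j_rc_53_2 lc_j_rc_53_2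 lc_j_rc_32_1 lc_j_rc_17_1 lc_j_rc_32_1 lc_j_rc_17_1 lc_j_rc_25_3 lc_j_rc_32_1 lc_j_rc_8_3) (@D3.rec (fun _ => (Cert rels S Gen.j)) lc_j_rc_8_3 lc_j_rc_51_2 lc_j_rc_8_1 lc_j_rc_53_2 lc_j_rc_25_1 lc_j_rc_45_1 lc_j_rc_49_3 lc_j_rc_17_1 lc_j_rc_17_1 lc_j_rc_17_1 lc_j_rc_32_1 lc_j_rc_51_2 lc_j_rc_32_1 lc_j_rc_25_1 lc_j_rc_51_2 lc_j_rc_32_1 lc_j_rc_51_2 lc_j_rc_32_1 lc_j_rc_32_1 lc_j_rc_53_2 lc_j_rc_8_1 lc_j_rc_25_1 lc_j_rc_51_2 lc_j_rc_38_1 lc_j_rc_32_1 lc_j_rc_17_1 lc_j_rc_17_1 lc_j_rc_32_1 lc_j_rc_45_1 lc_j_rc_51_2 lc_j_rc_32_1 lc_j_rc_53_2 lc_j_rc_51_2 lc_j_rc_52_0 lc_j_rc_53_2 lc_j_rc_51_2 lc_j_rc_32_1 lc_j_rc_38_1 lc_j_rc_53_2 lc_j_rc_51_2 lc_j_rc_32_1 lc_j_rc_25_1 lc_j_rc_8_1 lc_j_rc_8_1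 lc_j_rc_8_1 lc_j_rc_17_1 lc_j_rc_17_1 lc_j_rc_32_1 lc_j_rc_51_2 lc_j_rc_32_1 lc_j_rc_38_1) (@D3.rec (fun _ => (Cert rels S Gen.j)) lc_j_rc_8_1 lc_j_rc_8_1 lc_j_rc_45_3 lc_j_rc_17_1 lc_j_rc_32_1 lc_j_rc_53_2 lc_j_rc_51_2 lc_j_rc_32_1 lc_j_rc_45_1 lc_j_rc_51_2 lc_j_rc_8_1 lc_j_rc_53_2 lc_j_rc_51_2 lc_j_rc_51_2 lc_j_rc_32_1 lc_j_rc_49_3 lc_j_rc_32_1 lc_j_rc_53_2 lc_j_rc_51_2 lc_j_rc_32_1 lc_j_rc_38_1 lc_j_rc_53_2 lc_j_rc_51_2 lc_j_rc_32_1 lc_j_rc_38_1 lc_j_rc_53_2 lc_j_rc_32_1 lc_j_rc_38_1 lc_j_rc_45_1 lc_j_rc_45_1 lc_j_rc_32_1 lc_j_rc_17_1 lc_j_rc_38_1 lc_j_rc_32_1 lc_j_rc_32_1 lc_j_rc_38_1 lc_j_rc_45_1 lc_j_rc_32_1 lc_j_rc_38_1 lc_j_rc_17_1 lc_j_rc_38_1 lc_j_rc_32_1 lc_j_rc_32_1 lc_j_rc_32_1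 lc_j_rc_8_1 lc_j_rc_17_1 lc_j_rc_45_1 lc_j_rc_38_1 lc_j_rc_32_1 lc_j_rc_53_2 lc_j_rc_51_2) (@D3.rec (fun _ => (Cert rels S Gen.j)) lc_j_rc_38_1 lc_j_rc_49_3 lc_j_rc_51_2 lc_j_rc_49_1 lc_j_rc_38_1 lc_j_rc_38_1 lc_j_rc_49_3 lc_j_rc_49_1 lc_j_rc_49_1 lc_j_rc_17_1 lc_j_rc_38_1 lc_j_rc_49_5 lc_j_rc_45_1 lc_j_rc_49_1 lc_j_rc_32_1 lc_j_rc_38_1 lc_j_rc_51_2 lc_j_rc_17_1 lc_j_rc_49_3 lc_j_rc_53_2 lc_j_rc_38_1 lc_j_rc_49_5 lc_j_rc_49_5 lc_j_rc_38_1 lc_j_rc_32_1 lc_j_rc_49_5 lc_j_rc_49_1 lc_j_rc_49_1 lc_j_rc_32_1 lc_j_rc_38_1 lc_j_rc_45_1 lc_j_rc_53_2 lc_j_rc_17_1 lc_j_rc_8_3 lc_j_rc_49_5 lc_j_rc_51_0 lc_j_rc_49_1 lc_j_rc_51_0 lc_j_rc_38_1 lc_j_rc_17_1 lc_j_rc_38_1 lc_j_rc_32_1 lc_j_rc_32_1 lc_j_rc_8_1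 lc_j_rc_8_1 lc_j_rc_51_2 lc_j_rc_38_1 lc_j_rc_32_1 lc_j_rc_32_1 lc_j_rc_32_1 lc_j_rc_38_1) (@D3.rec (fun _ => (Cert rels S Gen.j)) lc_j_rc_45_1 lc_j_rc_38_1 lc_j_rc_25_3 lc_j_rc_32_1 lc_j_rc_53_2 lc_j_rc_45_1 lc_j_rc_45_1 lc_j_rc_8_3 lc_j_rc_32_1 lc_j_rc_32_1 lc_j_rc_32_1 lc_j_rc_38_1 lc_j_rc_45_1 lc_j_rc_45_1 lc_j_rc_49_3 lc_j_rc_17_1 lc_j_rc_17_1 lc_j_rc_51_2 lc_j_rc_32_1 lc_j_rc_32_1 lc_j_rc_32_1 lc_j_rc_17_1 lc_j_rc_53_2 lc_j_rc_32_1 lc_j_rc_17_1 lc_j_rc_32_1 lc_j_rc_53_2 lc_j_rc_8_1 lc_j_rc_38_1 lc_j_rc_38_1 lc_j_rc_32_1 lc_j_rc_38_1 lc_j_rc_53_2 lc_j_rc_51_2 lc_j_rc_53_0 lc_j_rc_25_1 lc_j_rc_32_1 lc_j_rc_32_1 lc_j_rc_8_1 lc_j_rc_32_1 lc_j_rc_32_1 lc_j_rc_32_1 lc_j_rc_32_1 lc_j_rc_32_1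 lc_j_rc_49_1 lc_j_rc_45_1 lc_j_rc_32_1 lc_j_rc_38_1 lc_j_rc_32_1 lc_j_rc_53_0 lc_j_rc_32_1) (@D3.rec (fun _ => (Cert rels S Gen.j)) lc_j_rc_38_1 lc_j_rc_8_1 lc_j_rc_32_1 lc_j_rc_38_1 lc_j_rc_51_0 lc_j_rc_45_1 lc_j_rc_49_1 lc_j_rc_45_1 lc_j_rc_8_1 lc_j_rc_8_1 lc_j_rc_51_2 lc_j_rc_32_1 lc_j_rc_17_1 lc_j_rc_53_2 lc_j_rc_53_2 lc_j_rc_51_2 lc_j_rc_17_3 lc_j_rc_32_1 lc_j_rc_8_1 lc_j_rc_25_1 lc_j_rc_25_1 lc_j_rc_45_1 lc_j_rc_45_1 lc_j_rc_49_3 lc_j_rc_17_1 lc_j_rc_17_1 lc_j_rc_17_1 lc_j_rc_32_1 lc_j_rc_32_1 lc_j_rc_25_1 lc_j_rc_51_2 lc_j_rc_38_1 lc_j_rc_51_2 lc_j_rc_32_1 lc_j_rc_32_1 lc_j_rc_53_2 lc_j_rc_17_1 lc_j_rc_17_1 lc_j_rc_32_1 lc_j_rc_51_2 lc_j_rc_51_2 lc_j_rc_32_1 lc_j_rc_32_1 lc_j_rc_25_1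 lc_j_rc_17_1 lc_j_rc_17_1 lc_j_rc_51_2 lc_j_rc_32_1 lc_j_rc_17_1 lc_j_rc_17_1 lc_j_rc_32_1) (@D3.rec (fun _ => (Cert rels S Gen.j)) lc_j_rc_32_1 lc_j_rc_51_2 lc_j_rc_8_1 lc_j_rc_49_1 lc_j_rc_51_2 lc_j_rc_8_1 lc_j_rc_51_2 lc_j_rc_32_1 lc_j_rc_25_1 lc_j_rc_25_1 lc_j_rc_8_1 lc_j_rc_8_1 lc_j_rc_17_1 lc_j_rc_17_1 lc_j_rc_51_2 lc_j_rc_32_1 lc_j_rc_32_1 lc_j_rc_32_3 lc_j_rc_53_2 lc_j_rc_17_1 lc_j_rc_53_2 lc_j_rc_8_3 lc_j_rc_32_1 lc_j_rc_25_1 lc_j_rc_8_1 lc_j_rc_53_0 lc_j_rc_17_1 lc_j_rc_51_0 lc_j_rc_25_1 lc_j_rc_8_3 lc_j_rc_8_3 lc_j_rc_17_1 lc_j_rc_51_2 lc_j_rc_53_2 lc_j_rc_8_3 lc_j_rc_8_3 lc_j_rc_45_1 lc_j_rc_25_1 lc_j_rc_25_1 lc_j_rc_25_1 lc_j_rc_53_2 lc_j_rc_53_2 lc_j_rc_17_1 lc_j_rc_17_1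 lc_j_rc_32_1 lc_j_rc_51_2 lc_j_rc_32_1 lc_j_rc_32_1 lc_j_rc_32_1 lc_j_rc_25_1 lc_j_rc_45_1) (@D3.rec (fun _ => (Cert rels S Gen.j)) lc_j_rc_38_1 lc_j_rc_45_1 lc_j_rc_17_1 lc_j_rc_8_3 lc_j_rc_32_1 lc_j_rc_45_1 lc_j_rc_32_1 lc_j_rc_51_2 lc_j_rc_52_0 lc_j_rc_53_2 lc_j_rc_53_2 lc_j_rc_32_1 lc_j_rc_53_2 lc_j_rc_51_2 lc_j_rc_51_0 lc_j_rc_25_1 lc_j_rc_8_1 lc_j_rc_17_1 lc_j_rc_32_1 lc_j_rc_53_2 lc_j_rc_32_1 lc_j_rc_53_2 lc_j_rc_51_2 lc_j_rc_53_2 lc_j_rc_51_2 lc_j_rc_25_1 lc_j_rc_51_2 lc_j_rc_32_1 lc_j_rc_25_1 lc_j_rc_25_1 lc_j_rc_53_2 lc_j_rc_51_2 lc_j_rc_32_1 lc_j_rc_17_1 lc_j_rc_17_1 lc_j_rc_51_2 lc_j_rc_51_2 lc_j_rc_32_1 lc_j_rc_38_1 lc_j_rc_53_2 lc_j_rc_51_2 lc_j_rc_32_1 lc_j_rc_25_1 lc_j_rc_32_1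 lc_j_rc_38_1 lc_j_rc_38_1 lc_j_rc_53_2 lc_j_rc_53_2 lc_j_rc_17_1 lc_j_rc_32_1 lc_j_rc_8_1) (@D3.rec (fun _ => (Cert rels S Gen.j)) lc_j_rc_53_2 lc_j_rc_53_2 lc_j_rc_8_1 lc_j_rc_17_1 lc_j_rc_32_1 lc_j_rc_53_2 lc_j_rc_51_2 lc_j_rc_32_1 lc_j_rc_25_1 lc_j_rc_38_1 lc_j_rc_45_1 lc_j_rc_51_2 lc_j_rc_32_1 lc_j_rc_25_1 lc_j_rc_17_1 lc_j_rc_8_1 lc_j_rc_8_1 lc_j_rc_17_1 lc_j_rc_32_1 lc_j_rc_32_1 lc_j_rc_38_1 lc_j_rc_45_1 lc_j_rc_51_2 lc_j_rc_8_1 lc_j_rc_25_3 lc_j_rc_32_1 lc_j_rc_25_1 lc_j_rc_51_2 lc_j_rc_32_1 lc_j_rc_38_1 lc_j_rc_45_1 lc_j_rc_51_2 lc_j_rc_32_1 lc_j_rc_32_1 lc_j_rc_49_3 lc_j_rc_49_1 lc_j_rc_17_1 lc_j_rc_17_1 lc_j_rc_32_1 lc_j_rc_51_2 lc_j_rc_8_1 lc_j_rc_17_1 lc_j_rc_17_1 lc_j_rc_17_1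 lc_j_rc_25_1 lc_j_rc_51_2 lc_j_rc_32_1 lc_j_rc_8_3 lc_j_rc_51_2 lc_j_rc_8_1 lc_j_rc_49_3) (@D3.rec (fun _ => (Cert rels S Gen.j)) lc_j_rc_49_1 lc_j_rc_32_1 lc_j_rc_32_1 lc_j_rc_38_3 lc_j_rc_45_1 lc_j_rc_49_3 lc_j_rc_32_1 lc_j_rc_8_1 lc_j_rc_17_3 lc_j_rc_8_1 lc_j_rc_32_1 lc_j_rc_32_1 lc_j_rc_49_3 lc_j_rc_25_1 lc_j_rc_38_1 lc_j_rc_17_1 lc_j_rc_25_1 lc_j_rc_32_1 lc_j_rc_38_1 lc_j_rc_32_1 lc_j_rc_25_1 lc_j_rc_38_1 lc_j_rc_25_1 lc_j_rc_38_1 lc_j_rc_17_1 lc_j_rc_32_1 lc_j_rc_38_1 lc_j_rc_51_2 lc_j_rc_53_2 lc_j_rc_17_1 lc_j_rc_25_1 lc_j_rc_32_1 lc_j_rc_25_1 lc_j_rc_32_1 lc_j_rc_8_1 lc_j_rc_32_1 lc_j_rc_25_1 lc_j_rc_17_1 lc_j_rc_38_1 lc_j_rc_38_1 lc_j_rc_32_3 lc_j_rc_53_2 lc_j_rc_25_1 lc_j_rc_32_1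 lc_j_rc_45_1 lc_j_rc_53_2 lc_j_rc_51_2 lc_j_rc_38_1 lc_j_rc_38_1 lc_j_rc_17_1 lc_j_rc_53_2) (@D3.rec (fun _ => (Cert rels S Gen.j)) lc_j_rc_51_2 lc_j_rc_53_2 lc_j_rc_51_2 lc_j_rc_53_2 lc_j_rc_17_1 lc_j_rc_53_2 lc_j_rc_25_3 lc_j_rc_53_2 lc_j_rc_25_1 lc_j_rc_51_2 lc_j_rc_32_1 lc_j_rc_17_3 lc_j_rc_25_3 lc_j_rc_25_1 lc_j_rc_45_1 lc_j_rc_49_1 lc_j_rc_32_3 lc_j_rc_8_3 lc_j_rc_25_3 lc_j_rc_38_1 lc_j_rc_8_3 lc_j_rc_53_2 lc_j_rc_51_2 lc_j_rc_38_1 lc_j_rc_51_2 lc_j_rc_17_1 lc_j_rc_17_3 lc_j_rc_32_1 lc_j_rc_25_3 lc_j_rc_32_1 lc_j_rc_51_2 lc_j_rc_38_1 lc_j_rc_52_0 lc_j_rc_53_2 lc_j_rc_38_1 lc_j_rc_32_1 lc_j_rc_53_2 lc_j_rc_51_2 lc_j_rc_32_1 lc_j_rc_49_1 lc_j_rc_17_3 lc_j_rc_51_2 lc_j_rc_32_1 lc_j_rc_17_1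 lc_j_rc_45_1 lc_j_rc_49_5 lc_j_rc_38_1 lc_j_rc_49_1 lc_j_rc_38_1 lc_j_rc_53_2 lc_j_rc_38_3) (@D3.rec (fun _ => (Cert rels S Gen.j)) lc_j_rc_8_3 lc_j_rc_8_3 lc_j_rc_45_1 lc_j_rc_53_2 lc_j_rc_51_2 lc_j_rc_49_3 lc_j_rc_53_2 lc_j_rc_25_1 lc_j_rc_25_1 lc_j_rc_45_1 lc_j_rc_53_2 lc_j_rc_51_2 lc_j_rc_32_1 lc_j_rc_25_1 lc_j_rc_51_2 lc_j_rc_53_2 lc_j_rc_51_2 lc_j_rc_51_2 lc_j_rc_49_3 lc_j_rc_53_2 lc_j_rc_51_2 lc_j_rc_32_1 lc_j_rc_51_2 lc_j_rc_32_1 lc_j_rc_38_1 lc_j_rc_25_1 lc_j_rc_38_1 lc_j_rc_49_3 lc_j_rc_25_1 lc_j_rc_25_1 lc_j_rc_51_2 lc_j_rc_49_3 lc_j_rc_53_2 lc_j_rc_51_2 lc_j_rc_8_1 lc_j_rc_49_5 lc_j_rc_51_2 lc_j_rc_8_3 lc_j_rc_49_3 lc_j_rc_53_2 lc_j_rc_25_1 lc_j_rc_51_2 lc_j_rc_32_1 lc_j_rc_51_2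 lc_j_rc_32_1 lc_j_rc_25_1 lc_j_rc_51_2 lc_j_rc_32_1 lc_j_rc_8_1 lc_j_rc_51_2 lc_j_rc_32_1) (@D3.rec (fun _ => (Cert rels S Gen.j)) lc_j_rc_17_1 lc_j_rc_51_2 lc_j_rc_32_1 lc_j_rc_38_1 lc_j_rc_32_1 lc_j_rc_25_1 lc_j_rc_25_1 lc_j_rc_38_1 lc_j_rc_45_1 lc_j_rc_49_3 lc_j_rc_32_1 lc_j_rc_25_1 lc_j_rc_25_1 lc_j_rc_38_1 lc_j_rc_38_3 lc_j_rc_32_1 lc_j_rc_17_1 lc_j_rc_8_1 lc_j_rc_49_3 lc_j_rc_49_5 lc_j_rc_25_1 lc_j_rc_25_1 lc_j_rc_49_3 lc_j_rc_38_1 lc_j_rc_38_1 lc_j_rc_45_1 lc_j_rc_38_1 lc_j_rc_53_2 lc_j_rc_53_2 lc_j_rc_51_2 lc_j_rc_51_2 lc_j_rc_8_1 lc_j_rc_8_1 lc_j_rc_8_1 lc_j_rc_25_1 lc_j_rc_25_1 lc_j_rc_53_2 lc_j_rc_51_2 lc_j_rc_8_3 lc_j_rc_25_1 lc_j_rc_51_2 lc_j_rc_53_2 lc_j_rc_51_2 lc_j_rc_51_2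 lc_j_rc_32_1 lc_j_rc_53_2 lc_j_rc_32_1 lc_j_rc_32_1 lc_j_rc_32_1 lc_j_rc_53_2 lc_j_rc_53_2) (@D3.rec (fun _ => (Cert rels S Gen.j)) lc_j_rc_53_2 lc_j_rc_51_2 lc_j_rc_32_1 lc_j_rc_53_2 lc_j_rc_8_3 lc_j_rc_53_2 lc_j_rc_51_2 lc_j_rc_32_1 lc_j_rc_8_3 lc_j_rc_32_1 lc_j_rc_8_1 lc_j_rc_8_1 lc_j_rc_8_1 lc_j_rc_51_2 lc_j_rc_8_3 lc_j_rc_32_1 lc_j_rc_52_0 lc_j_rc_53_2 lc_j_rc_8_3 lc_j_rc_32_1 lc_j_rc_53_2 lc_j_rc_51_2 lc_j_rc_32_1 lc_j_rc_51_2 lc_j_rc_32_1 lc_j_rc_51_2 lc_j_rc_32_1 lc_j_rc_38_1 lc_j_rc_32_1 lc_j_rc_38_1 lc_j_rc_17_1 lc_j_rc_25_1 lc_j_rc_25_1 lc_j_rc_45_1 lc_j_rc_53_2 lc_j_rc_51_2 lc_j_rc_8_1 lc_j_rc_17_1 lc_j_rc_17_1 lc_j_rc_32_1 lc_j_rc_25_1 lc_j_rc_25_1 lc_j_rc_51_2 lc_j_rc_53_2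 lc_j_rc_51_2 lc_j_rc_45_1 lc_j_rc_53_2 lc_j_rc_53_2 lc_j_rc_17_1 lc_j_rc_17_1 lc_j_rc_32_1) (@D3.rec (fun _ => (Cert rels S Gen.j)) lc_j_rc_25_1 lc_j_rc_51_2 lc_j_rc_25_1 lc_j_rc_53_2 lc_j_rc_51_2 lc_j_rc_25_1 lc_j_rc_17_1 lc_j_rc_17_1 lc_j_rc_32_1 lc_j_rc_45_1 lc_j_rc_32_1 lc_j_rc_53_2 lc_j_rc_51_2 lc_j_rc_32_1 lc_j_rc_52_0 lc_j_rc_53_2 lc_j_rc_51_2 lc_j_rc_32_1 lc_j_rc_17_1 lc_j_rc_32_1 lc_j_rc_8_3 lc_j_rc_51_2 lc_j_rc_32_1 lc_j_rc_32_1 lc_j_rc_17_3 lc_j_rc_38_1 lc_j_rc_53_2 lc_j_rc_51_2 lc_j_rc_32_1 lc_j_rc_25_1 lc_j_rc_51_2 lc_j_rc_32_1 lc_j_Cert_tree lc_j_rc_45_1 lc_j_rc_49_3 lc_j_rc_8_1 lc_j_rc_8_1 lc_j_rc_17_1 lc_j_rc_17_1 lc_j_rc_51_2 lc_j_rc_32_1 lc_j_rc_52_0 lc_j_rc_53_2 lc_j_rc_51_2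 lc_j_rc_32_1 lc_j_rc_32_1 lc_j_rc_8_1 lc_j_rc_8_1 lc_j_rc_45_1 lc_j_rc_32_1 lc_j_rc_53_2) (@D3.rec (fun _ => (Cert rels S Gen.j)) lc_j_rc_17_1 lc_j_rc_32_1 lc_j_rc_45_1 lc_j_rc_45_1 lc_j_rc_52_0 lc_j_rc_53_2 lc_j_rc_8_1 lc_j_rc_32_1 lc_j_rc_38_1 lc_j_rc_53_2 lc_j_rc_51_2 lc_j_rc_32_1 lc_j_rc_25_1 lc_j_rc_8_1 lc_j_rc_32_1 lc_j_rc_38_1 lc_j_rc_53_2 lc_j_rc_51_2 lc_j_rc_32_1 lc_j_rc_25_1 lc_j_rc_8_1 lc_j_rc_53_2 lc_j_rc_38_1 lc_j_rc_53_2 lc_j_rc_51_2 lc_j_rc_45_1 lc_j_rc_51_2 lc_j_rc_32_1 lc_j_rc_25_1 lc_j_rc_38_1 lc_j_rc_17_1 lc_j_rc_51_2 lc_j_rc_32_1 lc_j_rc_32_1 lc_j_rc_51_2 lc_j_rc_32_1 lc_j_rc_25_1 lc_j_rc_38_1 lc_j_rc_17_1 lc_j_rc_32_1 lc_j_rc_25_1 lc_j_rc_38_1 lc_j_rc_17_1 lc_j_rc_25_1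 lc_j_rc_25_1 lc_j_rc_8_1 lc_j_rc_32_1 lc_j_rc_38_1 lc_j_rc_38_3 lc_j_rc_38_1 lc_j_rc_53_2)
def ce_j_16 : D2 → D3 → (Cert rels S Gen.j) := @D2.rec (fun _ => D3 → (Cert rels S Gen.j)) (@D3.rec (fun _ => (Cert rels S Gen.j)) lc_j_rc_45_1 lc_j_rc_32_1 lc_j_rc_38_1 lc_j_rc_53_2 lc_j_rc_45_1 lc_j_rc_38_1 lc_j_rc_45_1 lc_j_rc_38_1 lc_j_rc_45_1 lc_j_rc_8_1 lc_j_rc_17_1 lc_j_rc_17_1 lc_j_rc_8_1 lc_j_rc_25_1 lc_j_rc_8_1 lc_j_rc_25_1 lc_j_rc_32_1 lc_j_rc_32_1 lc_j_rc_17_1 lc_j_rc_32_1 lc_j_rc_53_2 lc_j_rc_32_1 lc_j_rc_17_1 lc_j_rc_38_1 lc_j_rc_32_1 lc_j_rc_25_1 lc_j_rc_17_1 lc_j_rc_32_1 lc_j_rc_51_2 lc_j_rc_25_1 lc_j_rc_17_1 lc_j_rc_25_1 lc_j_rc_32_1 lc_j_rc_32_1 lc_j_rc_17_1 lc_j_rc_17_1 lc_j_rc_32_1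 lc_j_rc_38_1 lc_j_rc_25_1 lc_j_rc_25_1 lc_j_rc_17_1 lc_j_rc_32_1 lc_j_rc_32_1 lc_j_rc_17_1 lc_j_rc_32_1 lc_j_rc_38_1 lc_j_rc_32_1 lc_j_rc_25_1 lc_j_rc_32_1 lc_j_rc_32_1 lc_j_rc_17_1) (@D3.rec (fun _ => (Cert rels S Gen.j)) lc_j_rc_17_1 lc_j_rc_32_1 lc_j_rc_25_1 lc_j_rc_38_1 lc_j_rc_45_1 lc_j_rc_38_1 lc_j_rc_53_2 lc_j_rc_53_2 lc_j_rc_51_2 lc_j_rc_51_2 lc_j_rc_38_1 lc_j_rc_53_2 lc_j_rc_38_1 lc_j_rc_53_2 lc_j_rc_38_1 lc_j_rc_53_2 lc_j_rc_51_2 lc_j_rc_51_2 lc_j_rc_25_1 lc_j_rc_53_2 lc_j_rc_25_1 lc_j_rc_32_1 lc_j_rc_32_1 lc_j_rc_38_1 lc_j_rc_17_1 lc_j_rc_53_2 lc_j_rc_51_2 lc_j_rc_38_1 lc_j_rc_17_1 lc_j_rc_38_1 lc_j_rc_51_2 lc_j_rc_32_1 lc_j_rc_25_1 lc_j_rc_32_1 lc_j_rc_32_1 lc_j_rc_32_1 lc_j_rc_8_3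 lc_j_rc_8_3 lc_j_rc_8_3 lc_j_rc_17_1 lc_j_rc_8_3 lc_j_rc_53_2 lc_j_rc_51_2 lc_j_rc_38_1 lc_j_rc_17_1 lc_j_rc_45_1 lc_j_rc_38_1 lc_j_rc_45_1 lc_j_rc_25_1 lc_j_rc_38_1 lc_j_rc_51_2) (@D3.rec (fun _ => (Cert rels S Gen.j)) lc_j_rc_25_1 lc_j_rc_32_1 lc_j_rc_53_2 lc_j_rc_45_1 lc_j_rc_32_1 lc_j_rc_17_1 lc_j_rc_38_1 lc_j_rc_25_1 lc_j_rc_32_1 lc_j_rc_25_1 lc_j_rc_38_1 lc_j_rc_45_1 lc_j_rc_51_2 lc_j_rc_38_1 lc_j_rc_45_1 lc_j_rc_53_2 lc_j_rc_38_1 lc_j_rc_32_1 lc_j_rc_32_3 lc_j_rc_38_1 lc_j_rc_32_1 lc_j_rc_32_1 lc_j_rc_32_1 lc_j_rc_17_3 lc_j_rc_32_1 lc_j_rc_32_1 lc_j_rc_17_1 lc_j_rc_32_1 lc_j_rc_32_1 lc_j_rc_49_1 lc_j_rc_38_1 lc_j_rc_45_1 lc_j_rc_8_1 lc_j_rc_8_1 lc_j_rc_38_1 lc_j_rc_45_1 lc_j_rc_38_1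 lc_j_rc_25_1 lc_j_rc_53_2 lc_j_rc_51_2 lc_j_rc_38_1 lc_j_rc_17_1 lc_j_rc_45_1 lc_j_rc_38_1 lc_j_rc_25_1 lc_j_rc_51_2 lc_j_rc_38_1 lc_j_rc_32_1 lc_j_rc_38_1 lc_j_rc_53_2 lc_j_rc_51_2) (@D3.rec (fun _ => (Cert rels S Gen.j)) lc_j_rc_53_2 lc_j_rc_51_2 lc_j_rc_53_2 lc_j_rc_51_2 lc_j_rc_25_1 lc_j_rc_25_1 lc_j_rc_53_2 lc_j_rc_51_2 lc_j_rc_38_1 lc_j_rc_53_2 lc_j_rc_51_0 lc_j_rc_38_1 lc_j_rc_25_1 lc_j_rc_51_2 lc_j_rc_38_1 lc_j_rc_51_2 lc_j_rc_51_2 lc_j_rc_25_1 lc_j_rc_53_2 lc_j_rc_38_1 lc_j_rc_32_1 lc_j_rc_45_1 lc_j_rc_38_1 lc_j_rc_17_1 lc_j_rc_38_1 lc_j_rc_25_1 lc_j_rc_8_1 lc_j_rc_8_1 lc_j_rc_25_1 lc_j_rc_51_2 lc_j_rc_38_1 lc_j_rc_53_2 lc_j_rc_51_2 lc_j_rc_53_2 lc_j_rc_38_1 lc_j_rc_45_1 lc_j_rc_38_1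 lc_j_rc_51_2 lc_j_rc_45_1 lc_j_rc_51_2 lc_j_rc_32_1 lc_j_rc_51_2 lc_j_rc_25_1 lc_j_rc_49_1 lc_j_rc_45_1 lc_j_rc_32_1 lc_j_rc_38_1 lc_j_rc_32_1 lc_j_rc_38_1 lc_j_rc_25_1 lc_j_rc_17_1) (@D3.rec (fun _ => (Cert rels S Gen.j)) lc_j_rc_25_1 lc_j_rc_38_1 lc_j_rc_38_1 lc_j_rc_51_0 lc_j_rc_45_1 lc_j_rc_49_3 lc_j_rc_49_3 lc_j_rc_49_1 lc_j_rc_49_1 lc_j_rc_51_0 lc_j_rc_25_1 lc_j_rc_25_1 lc_j_rc_45_1 lc_j_rc_53_2 lc_j_rc_51_2 lc_j_rc_8_1 lc_j_rc_17_1 lc_j_rc_32_1 lc_j_rc_25_1 lc_j_rc_25_1 lc_j_rc_51_2 lc_j_rc_53_2 lc_j_rc_51_2 lc_j_rc_38_1 lc_j_rc_45_1 lc_j_rc_32_1 lc_j_rc_25_1 lc_j_rc_51_2 lc_j_rc_53_2 lc_j_rc_51_2 lc_j_rc_17_1 lc_j_rc_38_1 lc_j_rc_49_1 lc_j_rc_51_2 lc_j_rc_32_1 lc_j_rc_38_1 lc_j_rc_51_2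 lc_j_rc_32_1 lc_j_rc_38_1 lc_j_rc_51_2 lc_j_rc_32_1 lc_j_rc_32_1 lc_j_rc_51_2 lc_j_rc_32_1 lc_j_rc_49_1 lc_j_rc_45_1 lc_j_rc_32_1 lc_j_rc_38_1 lc_j_rc_25_1 lc_j_rc_32_1 lc_j_rc_38_1) (@D3.rec (fun _ => (Cert rels S Gen.j)) lc_j_rc_17_1 lc_j_rc_32_1 lc_j_rc_45_1 lc_j_rc_49_3 lc_j_rc_32_1 lc_j_rc_51_2 lc_j_rc_32_1 lc_j_rc_25_1 lc_j_rc_51_2 lc_j_rc_32_1 lc_j_rc_51_2 lc_j_rc_32_1 lc_j_rc_8_1 lc_j_rc_38_1 lc_j_rc_49_1 lc_j_rc_17_1 lc_j_rc_49_3 lc_j_rc_53_2 lc_j_rc_38_1 lc_j_rc_49_1 lc_j_rc_49_1 lc_j_rc_51_2 lc_j_rc_32_1 lc_j_rc_53_2 lc_j_rc_51_2 lc_j_rc_38_1 lc_j_rc_51_2 lc_j_rc_32_1 lc_j_rc_38_1 lc_j_rc_53_2 lc_j_rc_51_2 lc_j_rc_32_1 lc_j_rc_25_1 lc_j_rc_51_2 lc_j_rc_32_1 lc_j_rc_32_1 lc_j_rc_49_3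 lc_j_rc_49_1 lc_j_rc_49_1 lc_j_rc_45_1 lc_j_rc_32_1 lc_j_rc_38_1 lc_j_rc_38_1 lc_j_rc_45_1 lc_j_rc_51_2 lc_j_rc_32_1 lc_j_rc_45_1 lc_j_rc_38_1 lc_j_rc_49_3 lc_j_rc_17_1 lc_j_rc_32_1) (@D3.rec (fun _ => (Cert rels S Gen.j)) lc_j_rc_38_1 lc_j_rc_51_0 lc_j_rc_51_0 lc_j_rc_8_3 lc_j_rc_25_1 lc_j_rc_53_2 lc_j_rc_51_2 lc_j_rc_32_1 lc_j_rc_38_1 lc_j_rc_8_1 lc_j_rc_17_1 lc_j_rc_53_2 lc_j_rc_17_1 lc_j_rc_8_3 lc_j_rc_49_1 lc_j_rc_53_2 lc_j_rc_32_1 lc_j_rc_49_3 lc_j_rc_38_1 lc_j_rc_25_1 lc_j_rc_53_2 lc_j_rc_51_2 lc_j_rc_53_2 lc_j_rc_53_2 lc_j_rc_51_2 lc_j_rc_51_2 lc_j_rc_32_1 lc_j_rc_8_1 lc_j_rc_8_1 lc_j_rc_51_2 lc_j_rc_8_3 lc_j_rc_32_1 lc_j_rc_32_1 lc_j_rc_17_3 lc_j_rc_8_3 lc_j_rc_45_1 lc_j_rc_53_2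 lc_j_rc_51_2 lc_j_rc_8_1 lc_j_rc_17_3 lc_j_rc_53_2 lc_j_rc_51_2 lc_j_rc_45_1 lc_j_rc_53_2 lc_j_rc_53_2 lc_j_rc_53_2 lc_j_rc_51_2 lc_j_rc_51_2 lc_j_rc_32_1 lc_j_rc_51_2 lc_j_rc_32_1) (@D3.rec (fun _ => (Cert rels S Gen.j)) lc_j_rc_32_1 lc_j_rc_25_1 lc_j_rc_25_1 lc_j_rc_45_1 lc_j_rc_49_3 lc_j_rc_51_2 lc_j_rc_51_2 lc_j_rc_32_1 lc_j_rc_8_1 lc_j_rc_17_1 lc_j_rc_17_3 lc_j_rc_32_1 lc_j_rc_53_2 lc_j_rc_51_2 lc_j_rc_32_1 lc_j_rc_25_1 lc_j_rc_32_1 lc_j_rc_51_2 lc_j_rc_32_1 lc_j_rc_8_3 lc_j_rc_38_1 lc_j_rc_32_1 lc_j_rc_32_1 lc_j_rc_38_1 lc_j_rc_32_1 lc_j_rc_38_1 lc_j_rc_8_3 lc_j_rc_53_2 lc_j_rc_51_2 lc_j_rc_51_2 lc_j_rc_38_1 lc_j_rc_17_1 lc_j_rc_25_1 lc_j_rc_51_2 lc_j_rc_51_2 lc_j_rc_53_2 lc_j_rc_51_2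 lc_j_rc_32_1 lc_j_rc_32_1 lc_j_rc_32_1 lc_j_rc_45_1 lc_j_rc_53_2 lc_j_rc_51_2 lc_j_rc_25_1 lc_j_rc_38_1 lc_j_rc_51_2 lc_j_rc_53_2 lc_j_rc_51_2 lc_j_rc_32_1 lc_j_rc_53_2 lc_j_rc_8_1) (@D3.rec (fun _ => (Cert rels S Gen.j)) lc_j_rc_49_3 lc_j_rc_53_2 lc_j_rc_51_2 lc_j_rc_51_2 lc_j_rc_32_1 lc_j_rc_8_3 lc_j_rc_51_2 lc_j_rc_32_1 lc_j_rc_32_1 lc_j_rc_25_1 lc_j_rc_45_1 lc_j_rc_25_1 lc_j_rc_25_1 lc_j_rc_8_1 lc_j_rc_8_1 lc_j_rc_32_1 lc_j_rc_32_1 lc_j_rc_32_1 lc_j_rc_25_1 lc_j_rc_51_2 lc_j_rc_38_1 lc_j_rc_51_2 lc_j_rc_32_1 lc_j_rc_51_2 lc_j_rc_32_1 lc_j_rc_17_1 lc_j_rc_45_1 lc_j_rc_32_1 lc_j_rc_38_1 lc_j_rc_51_2 lc_j_rc_51_2 lc_j_rc_32_1 lc_j_rc_32_1 lc_j_rc_25_1 lc_j_rc_53_2 lc_j_rc_51_2 lc_j_rc_32_1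 lc_j_rc_8_3 lc_j_rc_32_1 lc_j_rc_25_1 lc_j_rc_32_1 lc_j_rc_25_1 lc_j_rc_25_1 lc_j_rc_38_1 lc_j_rc_49_3 lc_j_rc_25_1 lc_j_rc_38_1 lc_j_rc_25_1 lc_j_rc_51_2 lc_j_rc_32_1 lc_j_rc_25_1) (@D3.rec (fun _ => (Cert rels S Gen.j)) lc_j_rc_49_3 lc_j_rc_49_3 lc_j_rc_53_2 lc_j_rc_8_1 lc_j_rc_17_1 lc_j_rc_17_1 lc_j_rc_25_1 lc_j_rc_25_1 lc_j_rc_51_2 lc_j_rc_49_3 lc_j_rc_53_2 lc_j_rc_51_2 lc_j_rc_8_1 lc_j_rc_25_1 lc_j_rc_8_1 lc_j_rc_8_1 lc_j_rc_17_1 lc_j_rc_17_1 lc_j_rc_32_1 lc_j_rc_51_2 lc_j_rc_53_2 lc_j_rc_49_1 lc_j_rc_25_1 lc_j_rc_51_2 lc_j_rc_32_1 lc_j_rc_53_2 lc_j_rc_51_2 lc_j_rc_32_1 lc_j_rc_25_1 lc_j_rc_25_1 lc_j_rc_49_3 lc_j_rc_53_2 lc_j_rc_53_2 lc_j_rc_17_1 lc_j_rc_17_1 lc_j_rc_8_3 lc_j_rc_25_1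 lc_j_rc_51_2 lc_j_rc_52_0 lc_j_rc_53_2 lc_j_rc_51_2 lc_j_rc_32_1 lc_j_rc_32_1 lc_j_rc_17_1 lc_j_rc_32_3 lc_j_rc_32_1 lc_j_rc_32_3 lc_j_rc_38_1 lc_j_rc_17_1 lc_j_rc_51_2 lc_j_rc_32_1) (@D3.rec (fun _ => (Cert rels S Gen.j)) lc_j_rc_53_2 lc_j_rc_51_2 lc_j_rc_32_1 lc_j_rc_25_1 lc_j_rc_17_1 lc_j_rc_51_2 lc_j_rc_32_1 lc_j_rc_53_2 lc_j_rc_51_2 lc_j_rc_32_1 lc_j_rc_25_1 lc_j_rc_53_2 lc_j_rc_51_2 lc_j_rc_32_1 lc_j_rc_51_2 lc_j_rc_32_1 lc_j_rc_25_1 lc_j_rc_38_1 lc_j_rc_17_1 lc_j_rc_51_2 lc_j_rc_32_1 lc_j_rc_25_1 lc_j_rc_32_1 lc_j_rc_32_1 lc_j_rc_8_1 lc_j_rc_8_1 lc_j_rc_25_1 lc_j_rc_25_1 lc_j_rc_8_1 lc_j_rc_53_2 lc_j_rc_51_2 lc_j_rc_32_1 lc_j_rc_8_1 lc_j_rc_8_1 lc_j_rc_17_1 lc_j_rc_17_1 lc_j_rc_17_1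 lc_j_rc_17_1 lc_j_rc_32_1 lc_j_rc_51_2 lc_j_rc_51_2 lc_j_rc_32_1 lc_j_rc_53_2 lc_j_rc_51_2 lc_j_rc_52_0 lc_j_rc_53_2 lc_j_rc_51_2 lc_j_rc_32_1 lc_j_rc_38_1 lc_j_rc_53_2 lc_j_rc_51_2) (@D3.rec (fun _ => (Cert rels S Gen.j)) lc_j_rc_32_1 lc_j_rc_25_1 lc_j_rc_8_1 lc_j_rc_51_2 lc_j_rc_17_1 lc_j_rc_8_3 lc_j_rc_53_2 lc_j_rc_17_1 lc_j_rc_32_1 lc_j_rc_25_3 lc_j_rc_52_0 lc_j_rc_49_1 lc_j_rc_53_2 lc_j_rc_53_2 lc_j_rc_51_2 lc_j_rc_53_2 lc_j_rc_32_1 lc_j_rc_53_2 lc_j_rc_51_2 lc_j_rc_32_1 lc_j_rc_25_1 lc_j_rc_38_1 lc_j_rc_51_2 lc_j_rc_51_2 lc_j_rc_32_1 lc_j_rc_25_1 lc_j_rc_38_1 lc_j_rc_17_1 lc_j_rc_17_1 lc_j_rc_32_1 lc_j_rc_53_2 lc_j_rc_51_2 lc_j_rc_32_1 lc_j_rc_25_1 lc_j_rc_38_1 lc_j_rc_51_2 lc_j_rc_32_1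 lc_j_rc_25_1 lc_j_rc_38_1 lc_j_rc_17_1 lc_j_rc_53_2 lc_j_rc_51_2 lc_j_rc_32_1 lc_j_rc_51_2 lc_j_rc_32_1 lc_j_rc_25_1 lc_j_rc_38_1 lc_j_rc_53_2 lc_j_rc_32_1 lc_j_rc_25_1 lc_j_rc_38_1) (@D3.rec (fun _ => (Cert rels S Gen.j)) lc_j_rc_17_1 lc_j_rc_25_1 lc_j_rc_8_1 lc_j_rc_51_2 lc_j_rc_32_1 lc_j_rc_38_1 lc_j_rc_25_1 lc_j_rc_32_1 lc_j_rc_25_1 lc_j_rc_38_1 lc_j_rc_17_1 lc_j_rc_25_1 lc_j_rc_8_1 lc_j_rc_25_1 lc_j_rc_38_1 lc_j_rc_25_1 lc_j_rc_8_1 lc_j_rc_17_1 lc_j_rc_32_1 lc_j_rc_53_2 lc_j_rc_32_1 lc_j_rc_8_3 lc_j_rc_38_1 lc_j_rc_8_3 lc_j_rc_45_1 lc_j_rc_32_1 lc_j_rc_17_1 lc_j_rc_32_1 lc_j_rc_38_1 lc_j_rc_8_1 lc_j_rc_38_3 lc_j_rc_8_1 lc_j_rc_8_3 lc_j_rc_32_1 lc_j_rc_32_1 lc_j_rc_25_1 lc_j_rc_32_1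 lc_j_rc_8_1 lc_j_rc_8_1 lc_j_rc_17_1 lc_j_rc_32_1 lc_j_rc_38_1 lc_j_rc_38_3 lc_j_rc_45_3 lc_j_rc_38_1 lc_j_rc_53_2 lc_j_rc_53_2 lc_j_rc_38_1 lc_j_rc_51_2 lc_j_rc_32_1 lc_j_rc_38_1) (@D3.rec (fun _ => (Cert rels S Gen.j)) lc_j_rc_45_3 lc_j_rc_53_2 lc_j_rc_49_3 lc_j_rc_38_1 lc_j_rc_45_1 lc_j_rc_32_1 lc_j_rc_45_3 lc_j_rc_8_3 lc_j_rc_25_1 lc_j_rc_25_1 lc_j_rc_32_1 lc_j_rc_45_1 lc_j_rc_45_1 lc_j_rc_32_1 lc_j_rc_8_1 lc_j_rc_8_1 lc_j_rc_8_1 lc_j_rc_51_2 lc_j_rc_32_1 lc_j_rc_32_1 lc_j_rc_32_1 lc_j_rc_45_3 lc_j_rc_45_3 lc_j_rc_45_3 lc_j_rc_45_3 lc_j_rc_51_2 lc_j_rc_25_1 lc_j_rc_8_1 lc_j_rc_32_1 lc_j_rc_38_1 lc_j_rc_38_3 lc_j_rc_45_1 lc_j_rc_51_2 lc_j_rc_32_1 lc_j_rc_17_3 lc_j_rc_8_3 lc_j_rc_8_3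 lc_j_rc_51_0 lc_j_rc_32_1 lc_j_rc_38_1 lc_j_rc_49_3 lc_j_rc_53_2 lc_j_rc_17_3 lc_j_rc_8_1 lc_j_rc_8_1 lc_j_rc_17_1 lc_j_rc_17_1 lc_j_rc_32_1 lc_j_rc_32_1 lc_j_rc_25_1 lc_j_rc_51_2) (@D3.rec (fun _ => (Cert rels S Gen.j)) lc_j_rc_32_1 lc_j_rc_51_2 lc_j_rc_32_1 lc_j_rc_17_1 lc_j_rc_17_1 lc_j_rc_32_1 lc_j_rc_32_1 lc_j_rc_51_2 lc_j_rc_51_2 lc_j_rc_32_1 lc_j_rc_38_1 lc_j_rc_32_1 lc_j_rc_25_1 lc_j_rc_32_1 lc_j_rc_51_2 lc_j_rc_32_1 lc_j_rc_38_1 lc_j_rc_38_1 lc_j_rc_32_1 lc_j_rc_45_1 lc_j_rc_49_3 lc_j_rc_49_3 lc_j_rc_32_1 lc_j_rc_51_2 lc_j_rc_32_1 lc_j_rc_38_1 lc_j_rc_38_3 lc_j_rc_38_3 lc_j_rc_38_1 lc_j_rc_32_1 lc_j_rc_38_1 lc_j_rc_45_1 lc_j_rc_38_1 lc_j_rc_45_1 lc_j_rc_45_1 lc_j_rc_45_1 lc_j_rc_45_1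 lc_j_rc_53_0 lc_j_rc_45_1 lc_j_rc_53_0 lc_j_rc_53_0 lc_j_rc_51_2 lc_j_rc_32_1 lc_j_rc_53_2 lc_j_rc_25_1 lc_j_rc_53_2 lc_j_rc_17_1 lc_j_rc_17_1 lc_j_rc_17_1 lc_j_rc_51_2 lc_j_rc_32_1) (@D3.rec (fun _ => (Cert rels S Gen.j)) lc_j_rc_51_2 lc_j_rc_32_1 lc_j_rc_32_1 lc_j_rc_17_1 lc_j_rc_8_3 lc_j_rc_17_1 lc_j_rc_32_1 lc_j_rc_53_2 lc_j_rc_53_2 lc_j_rc_51_2 lc_j_rc_8_3 lc_j_rc_32_1 lc_j_rc_38_1 lc_j_rc_8_3 lc_j_rc_45_1 lc_j_rc_25_1 lc_j_rc_32_1 lc_j_rc_17_1 lc_j_rc_8_1 lc_j_rc_25_1 lc_j_rc_32_1 lc_j_rc_51_2 lc_j_rc_32_1 lc_j_rc_17_1 lc_j_rc_17_1 lc_j_rc_32_1 lc_j_rc_51_2 lc_j_rc_32_1 lc_j_rc_53_2 lc_j_rc_51_2 lc_j_rc_51_2 lc_j_rc_32_1 lc_j_rc_38_1 lc_j_rc_32_1 lc_j_rc_25_1 lc_j_rc_53_2 lc_j_rc_8_1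 lc_j_rc_45_1 lc_j_rc_53_2 lc_j_rc_51_2 lc_j_rc_45_1 lc_j_rc_17_1 lc_j_rc_32_1 lc_j_rc_38_1 lc_j_rc_45_1 lc_j_rc_53_2 lc_j_rc_51_2 lc_j_rc_53_2 lc_j_rc_32_1 lc_j_rc_53_2 lc_j_rc_51_2) (@D3.rec (fun _ => (Cert rels S Gen.j)) lc_j_rc_32_1 lc_j_rc_25_1 lc_j_rc_38_1 lc_j_rc_45_1 lc_j_rc_51_2 lc_j_rc_32_1 lc_j_rc_25_1 lc_j_rc_17_1 lc_j_rc_8_1 lc_j_rc_8_1 lc_j_rc_17_1 lc_j_rc_32_1 lc_j_rc_32_1 lc_j_rc_45_1 lc_j_rc_8_1 lc_j_rc_8_1 lc_j_rc_45_3 lc_j_rc_32_1 lc_j_rc_51_2 lc_j_rc_32_1 lc_j_rc_38_1 lc_j_rc_51_2 lc_j_rc_32_1 lc_j_rc_49_3 lc_j_rc_38_1 lc_j_rc_53_2 lc_j_rc_32_1 lc_j_rc_38_1 lc_j_rc_45_1 lc_j_rc_53_2 lc_j_rc_51_2 lc_j_rc_32_1 lc_j_rc_32_1 lc_j_rc_38_1 lc_j_rc_45_1 lc_j_rc_17_1 lc_j_rc_38_1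 lc_j_rc_38_1 lc_j_rc_38_1 lc_j_rc_45_1 lc_j_rc_38_1 lc_j_rc_51_2 lc_j_rc_49_3 lc_j_rc_49_3 lc_j_rc_32_1 lc_j_rc_49_1 lc_j_rc_49_3 lc_j_rc_49_3 lc_j_rc_8_1 lc_j_rc_17_1 lc_j_rc_17_1) (@D3.rec (fun _ => (Cert rels S Gen.j)) lc_j_rc_51_2 lc_j_rc_49_5 lc_j_rc_17_1 lc_j_rc_49_1 lc_j_rc_32_1 lc_j_rc_17_1 lc_j_rc_17_1 lc_j_rc_53_2 lc_j_rc_17_1 lc_j_rc_51_2 lc_j_rc_17_1 lc_j_rc_49_5 lc_j_rc_17_3 lc_j_rc_25_1 lc_j_rc_49_5 lc_j_rc_49_1 lc_j_rc_49_1 lc_j_rc_38_1 lc_j_rc_17_1 lc_j_rc_17_1 lc_j_rc_8_3 lc_j_rc_25_1 lc_j_rc_51_0 lc_j_rc_53_2 lc_j_rc_38_1 lc_j_rc_32_1 lc_j_rc_53_2 lc_j_rc_8_1 lc_j_rc_32_1 lc_j_rc_45_1 lc_j_rc_38_1 lc_j_rc_25_1 lc_j_rc_32_1 lc_j_rc_45_1 lc_j_rc_38_1 lc_j_rc_32_1 lc_j_rc_32_1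 lc_j_rc_53_0 lc_j_rc_53_2 lc_j_rc_45_3 lc_j_rc_25_1 lc_j_rc_32_1 lc_j_rc_32_1 lc_j_rc_45_3 lc_j_rc_49_3 lc_j_rc_51_2 lc_j_rc_32_1 lc_j_rc_17_1 lc_j_rc_32_1 lc_j_rc_32_1 lc_j_rc_38_1) (@D3.rec (fun _ => (Cert rels S Gen.j)) lc_j_rc_25_1 lc_j_rc_38_1 lc_j_rc_32_1 lc_j_rc_8_1 lc_j_rc_38_1 lc_j_rc_32_1 lc_j_rc_38_1 lc_j_rc_8_1 lc_j_rc_32_1 lc_j_rc_38_1 lc_j_rc_45_1 lc_j_rc_25_1 lc_j_rc_38_1 lc_j_rc_38_1 lc_j_rc_51_2 lc_j_rc_53_2 lc_j_rc_25_1 lc_j_rc_17_1 lc_j_rc_32_1 lc_j_rc_49_1 lc_j_rc_8_3 lc_j_rc_38_1 lc_j_rc_38_1 lc_j_rc_32_1 lc_j_rc_38_1 lc_j_rc_45_1 lc_j_rc_32_1 lc_j_rc_38_1 lc_j_rc_51_0 lc_j_rc_53_2 lc_j_rc_8_1 lc_j_rc_32_1 lc_j_rc_25_1 lc_j_rc_17_1 lc_j_rc_53_2 lc_j_rc_32_1 lc_j_rc_17_3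 lc_j_rc_25_1 lc_j_rc_8_1 lc_j_rc_25_1 lc_j_rc_45_1 lc_j_rc_51_2 lc_j_rc_32_1 lc_j_rc_17_1 lc_j_rc_17_1 lc_j_rc_32_1 lc_j_rc_51_2 lc_j_rc_51_2 lc_j_rc_32_1 lc_j_rc_38_1 lc_j_rc_32_1) (@D3.rec (fun _ => (Cert rels S Gen.j)) lc_j_rc_25_1 lc_j_rc_53_2 lc_j_rc_8_1 lc_j_rc_17_1 lc_j_rc_32_1 lc_j_rc_51_2 lc_j_rc_32_1 lc_j_rc_32_1 lc_j_rc_25_1 lc_j_rc_25_1 lc_j_rc_17_1 lc_j_rc_17_1 lc_j_rc_32_1 lc_j_rc_32_1 lc_j_rc_32_1 lc_j_rc_38_1 lc_j_rc_51_2 lc_j_rc_51_2 lc_j_rc_51_2 lc_j_rc_32_1 lc_j_rc_25_1 lc_j_rc_25_1 lc_j_rc_8_1 lc_j_rc_32_1 lc_j_rc_17_1 lc_j_rc_32_1 lc_j_rc_25_1 lc_j_rc_38_1 lc_j_rc_8_1 lc_j_rc_32_1 lc_j_rc_17_1 lc_j_rc_32_1 lc_j_rc_25_1 lc_j_rc_17_1 lc_j_rc_53_2 lc_j_rc_25_1 lc_j_rc_17_1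 lc_j_rc_17_1 lc_j_rc_17_1 lc_j_rc_53_2 lc_j_rc_25_3 lc_j_rc_8_3 lc_j_rc_8_3 lc_j_rc_25_1 lc_j_rc_25_1 lc_j_rc_25_1 lc_j_rc_53_2 lc_j_rc_32_1 lc_j_rc_17_1 lc_j_rc_51_2 lc_j_rc_32_1) (@D3.rec (fun _ => (Cert rels S Gen.j)) lc_j_rc_25_1 lc_j_rc_38_1 lc_j_rc_25_1 lc_j_rc_45_1 lc_j_rc_49_3 lc_j_rc_51_2 lc_j_rc_32_1 lc_j_rc_8_1 lc_j_rc_17_1 lc_j_rc_32_1 lc_j_rc_45_1 lc_j_rc_49_1 lc_j_rc_32_1 lc_j_rc_53_2 lc_j_rc_51_2 lc_j_rc_51_0 lc_j_rc_25_1 lc_j_rc_51_2 lc_j_rc_32_1 lc_j_rc_25_1 lc_j_rc_17_1 lc_j_rc_32_1 lc_j_rc_17_1 lc_j_rc_25_1 lc_j_rc_51_2 lc_j_rc_32_1 lc_j_rc_53_2 lc_j_rc_32_1 lc_j_rc_25_1 lc_j_rc_32_1 lc_j_rc_8_1 lc_j_rc_32_1 lc_j_rc_25_1 lc_j_rc_17_1 lc_j_rc_32_1 lc_j_rc_32_1 lc_j_rc_32_1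 lc_j_rc_25_1 lc_j_rc_38_1 lc_j_rc_45_1 lc_j_rc_51_2 lc_j_rc_32_1 lc_j_rc_25_1 lc_j_rc_17_1 lc_j_rc_38_3 lc_j_rc_38_1 lc_j_rc_53_2 lc_j_rc_17_3 lc_j_rc_32_1 lc_j_rc_25_1 lc_j_rc_8_1) (@D3.rec (fun _ => (Cert rels S Gen.j)) lc_j_rc_17_3 lc_j_rc_8_1 lc_j_rc_32_1 lc_j_rc_32_1 lc_j_rc_25_1 lc_j_rc_51_2 lc_j_rc_32_1 lc_j_rc_25_1 lc_j_rc_38_1 lc_j_rc_17_1 lc_j_rc_25_1 lc_j_rc_45_1 lc_j_rc_32_1 lc_j_rc_25_1 lc_j_rc_17_1 lc_j_rc_8_1 lc_j_rc_8_1 lc_j_rc_32_1 lc_j_rc_25_1 lc_j_rc_38_1 lc_j_rc_45_1 lc_j_rc_49_3 lc_j_rc_32_1 lc_j_rc_25_1 lc_j_rc_38_1 lc_j_rc_32_1 lc_j_rc_38_1 lc_j_rc_45_1 lc_j_rc_32_1 lc_j_rc_49_1 lc_j_rc_17_1 lc_j_rc_51_2 lc_j_rc_32_1 lc_j_rc_32_1 lc_j_rc_17_1 lc_j_rc_8_3 lc_j_rc_25_1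 lc_j_rc_17_1 lc_j_rc_25_1 lc_j_rc_32_1 lc_j_rc_8_3 lc_j_rc_8_1 lc_j_rc_49_3 lc_j_rc_38_1 lc_j_rc_8_1 lc_j_rc_32_1 lc_j_rc_32_1 lc_j_rc_38_1 lc_j_rc_49_3 lc_j_rc_25_1 lc_j_rc_38_1) (@D3.rec (fun _ => (Cert rels S Gen.j)) lc_j_rc_25_1 lc_j_rc_32_3 lc_j_rc_25_1 lc_j_rc_32_1 lc_j_rc_32_1 lc_j_rc_25_1 lc_j_rc_17_1 lc_j_rc_38_1 lc_j_rc_38_1 lc_j_rc_45_1 lc_j_rc_32_1 lc_j_rc_53_2 lc_j_rc_51_2 lc_j_rc_38_1 lc_j_rc_38_1 lc_j_rc_51_2 lc_j_rc_32_1 lc_j_rc_51_2 lc_j_rc_17_1 lc_j_rc_17_1 lc_j_rc_25_1 lc_j_rc_25_1 lc_j_rc_32_1 lc_j_rc_49_1 lc_j_rc_8_1 lc_j_rc_45_1 lc_j_rc_38_1 lc_j_rc_45_1 lc_j_rc_51_2 lc_j_rc_38_1 lc_j_rc_32_1 lc_j_rc_25_3 lc_j_rc_32_1 lc_j_rc_32_1 lc_j_rc_32_1 lc_j_rc_38_1 lc_j_rc_53_2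 lc_j_rc_51_2 lc_j_rc_45_1 lc_j_rc_25_1 lc_j_rc_51_2 lc_j_rc_32_1 lc_j_rc_49_5 lc_j_rc_38_1 lc_j_rc_32_1 lc_j_rc_45_1 lc_j_rc_49_3 lc_j_rc_49_5 lc_j_rc_45_1 lc_j_rc_53_2 lc_j_rc_51_2) (@D3.rec (fun _ => (Cert rels S Gen.j)) lc_j_rc_32_3 lc_j_rc_53_2 lc_j_rc_8_3 lc_j_rc_49_1 lc_j_rc_8_3 lc_j_rc_8_3 lc_j_rc_53_2 lc_j_rc_51_2 lc_j_rc_53_2 lc_j_rc_53_2 lc_j_rc_32_1 lc_j_rc_25_1 lc_j_rc_51_2 lc_j_rc_49_3 lc_j_rc_53_2 lc_j_rc_51_2 lc_j_rc_32_1 lc_j_rc_32_1 lc_j_rc_51_2 lc_j_rc_32_1 lc_j_rc_51_2 lc_j_rc_32_1 lc_j_rc_32_1 lc_j_rc_8_1 lc_j_rc_51_2 lc_j_rc_32_1 lc_j_rc_38_1 lc_j_rc_32_1 lc_j_rc_25_1 lc_j_rc_49_3 lc_j_rc_25_1 lc_j_rc_51_2 lc_j_rc_32_1 lc_j_rc_38_1 lc_j_rc_51_2 lc_j_rc_32_1 lc_j_rc_8_1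 lc_j_rc_8_1 lc_j_rc_51_2 lc_j_rc_51_2 lc_j_rc_49_1 lc_j_rc_8_3 lc_j_rc_53_2 lc_j_rc_25_1 lc_j_rc_51_2 lc_j_rc_32_1 lc_j_rc_38_1 lc_j_rc_32_1 lc_j_rc_25_1 lc_j_rc_51_2 lc_j_rc_32_1) (@D3.rec (fun _ => (Cert rels S Gen.j)) lc_j_rc_38_1 lc_j_rc_8_1 lc_j_rc_32_1 lc_j_rc_25_1 lc_j_rc_32_1 lc_j_rc_25_1 lc_j_rc_38_1 lc_j_rc_45_1 lc_j_rc_25_1 lc_j_rc_38_1 lc_j_rc_32_3 lc_j_rc_49_3 lc_j_rc_25_1 lc_j_rc_38_1 lc_j_rc_25_1 lc_j_rc_25_1 lc_j_rc_38_1 lc_j_rc_25_1 lc_j_rc_8_1 lc_j_rc_49_3 lc_j_rc_49_5 lc_j_rc_25_1 lc_j_rc_32_1 lc_j_rc_49_3 lc_j_rc_45_1 lc_j_rc_45_1 lc_j_rc_53_2 lc_j_rc_51_2 lc_j_rc_51_2 lc_j_rc_8_1 lc_j_rc_8_1 lc_j_rc_8_1 lc_j_rc_8_1 lc_j_rc_8_1 lc_j_rc_25_1 lc_j_rc_51_2 lc_j_rc_51_2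 lc_j_rc_8_3 lc_j_rc_51_2 lc_j_rc_32_1 lc_j_rc_8_3 lc_j_rc_32_1 lc_j_rc_32_1 lc_j_rc_32_1 lc_j_rc_38_1 lc_j_rc_32_1 lc_j_rc_53_2 lc_j_rc_51_2 lc_j_rc_32_1 lc_j_rc_8_3 lc_j_rc_32_1) (@D3.rec (fun _ => (Cert rels S Gen.j)) lc_j_rc_8_3 lc_j_rc_32_1 lc_j_rc_32_1 lc_j_rc_8_1 lc_j_rc_8_1 lc_j_rc_32_1 lc_j_rc_32_1 lc_j_rc_38_1 lc_j_rc_53_2 lc_j_rc_51_2 lc_j_rc_32_1 lc_j_rc_25_1 lc_j_rc_51_2 lc_j_rc_32_1 lc_j_rc_38_1 lc_j_rc_32_1 lc_j_rc_32_1 lc_j_rc_38_1 lc_j_rc_17_1 lc_j_rc_17_1 lc_j_rc_32_1 lc_j_rc_25_1 lc_j_rc_25_1 lc_j_rc_51_2 lc_j_rc_49_3 lc_j_rc_53_2 lc_j_rc_51_2 lc_j_rc_8_1 lc_j_rc_17_1 lc_j_rc_17_1 lc_j_rc_17_1 lc_j_rc_32_1 lc_j_rc_25_1 lc_j_rc_51_2 lc_j_rc_32_1 lc_j_rc_51_2 lc_j_rc_32_1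 lc_j_rc_49_1 lc_j_rc_53_2 lc_j_rc_53_2 lc_j_rc_17_1 lc_j_rc_17_1 lc_j_rc_32_1 lc_j_rc_51_2 lc_j_rc_32_1 lc_j_rc_8_3 lc_j_rc_51_2 lc_j_rc_32_1 lc_j_rc_25_1 lc_j_rc_17_1 lc_j_rc_32_1) (@D3.rec (fun _ => (Cert rels S Gen.j)) lc_j_rc_32_1 lc_j_rc_45_1 lc_j_rc_51_2 lc_j_rc_17_3 lc_j_rc_32_1 lc_j_rc_38_1 lc_j_rc_53_2 lc_j_rc_51_2 lc_j_rc_32_1 lc_j_rc_25_1 lc_j_rc_32_1 lc_j_rc_38_1 lc_j_rc_8_3 lc_j_rc_32_1 lc_j_rc_25_1 lc_j_rc_45_1 lc_j_rc_51_2 lc_j_rc_32_1 lc_j_rc_25_1 lc_j_rc_38_1 lc_j_rc_32_1 lc_j_rc_52_0 lc_j_rc_53_2 lc_j_rc_51_2 lc_j_rc_32_1 lc_j_rc_8_1 lc_j_rc_8_1 lc_j_rc_17_1 lc_j_rc_32_1 lc_j_rc_32_1 lc_j_rc_38_1 lc_j_rc_53_2 lc_j_rc_51_2 lc_j_rc_32_1 lc_j_rc_25_1 lc_j_rc_32_1 lc_j_rc_8_1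 lc_j_rc_8_1 lc_j_rc_53_2 lc_j_rc_45_1 lc_j_rc_8_3 lc_j_rc_32_1 lc_j_rc_38_1 lc_j_rc_51_2 lc_j_rc_45_1 lc_j_rc_53_2 lc_j_rc_51_2 lc_j_rc_32_1 lc_j_rc_25_1 lc_j_rc_38_1 lc_j_rc_45_1)
def ce_j_17 : D2 → D3 → (Cert rels S Gen.j) := @D2.rec (fun _ => D3 → (Cert rels S Gen.j)) (@D3.rec (fun _ => (Cert rels S Gen.j)) lc_j_rc_51_2 lc_j_rc_32_1 lc_j_rc_25_1 lc_j_rc_38_1 lc_j_rc_17_1 lc_j_rc_8_1 lc_j_rc_38_1 lc_j_rc_45_1 lc_j_rc_51_2 lc_j_rc_32_1 lc_j_rc_25_1 lc_j_rc_38_1 lc_j_rc_17_1 lc_j_rc_45_1 lc_j_rc_51_2 lc_j_rc_17_1 lc_j_rc_32_1 lc_j_rc_38_1 lc_j_rc_17_1 lc_j_rc_25_1 lc_j_rc_32_1 lc_j_rc_38_1 lc_j_rc_17_1 lc_j_rc_25_1 lc_j_rc_25_1 lc_j_rc_38_1 lc_j_rc_25_1 lc_j_rc_17_1 lc_j_rc_8_3 lc_j_rc_38_1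 lc_j_rc_45_1 lc_j_rc_45_1 lc_j_rc_8_1 lc_j_rc_53_2 lc_j_rc_45_1 lc_j_rc_38_1 lc_j_rc_45_1 lc_j_rc_53_2 lc_j_rc_51_2 lc_j_rc_38_1 lc_j_rc_17_1 lc_j_rc_38_3 lc_j_rc_32_1 lc_j_rc_32_1 lc_j_rc_17_1 lc_j_rc_38_1 lc_j_rc_32_1 lc_j_rc_25_1 lc_j_rc_17_1 lc_j_rc_38_1 lc_j_rc_25_1) (@D3.rec (fun _ => (Cert rels S Gen.j)) lc_j_rc_25_1 lc_j_rc_17_1 lc_j_rc_25_1 lc_j_rc_38_1 lc_j_rc_17_1 lc_j_rc_17_1 lc_j_rc_53_2 lc_j_rc_51_2 lc_j_rc_51_2 lc_j_rc_53_2 lc_j_rc_51_2 lc_j_rc_38_1 lc_j_rc_45_1 lc_j_rc_38_1 lc_j_rc_51_2 lc_j_rc_32_1 lc_j_rc_45_1 lc_j_rc_32_1 lc_j_rc_38_1 lc_j_rc_25_1 lc_j_rc_51_2 lc_j_rc_38_1 lc_j_rc_32_1 lc_j_rc_38_1 lc_j_rc_32_1 lc_j_rc_32_1 lc_j_rc_38_1 lc_j_rc_38_1 lc_j_rc_17_3 lc_j_rc_17_3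 lc_j_rc_8_3 lc_j_rc_25_1 lc_j_rc_8_3 lc_j_rc_8_3 lc_j_rc_51_2 lc_j_rc_38_1 lc_j_rc_45_1 lc_j_rc_45_1 lc_j_rc_51_2 lc_j_rc_45_1 lc_j_rc_38_1 lc_j_rc_51_2 lc_j_rc_32_1 lc_j_rc_32_1 lc_j_rc_38_1 lc_j_rc_25_1 lc_j_rc_45_1 lc_j_rc_32_1 lc_j_rc_32_1 lc_j_rc_45_3 lc_j_rc_32_1) (@D3.rec (fun _ => (Cert rels S Gen.j)) lc_j_rc_45_1 lc_j_rc_49_3 lc_j_rc_8_1 lc_j_rc_32_1 lc_j_rc_38_1 lc_j_rc_38_1 lc_j_rc_17_3 lc_j_rc_25_1 lc_j_rc_32_1 lc_j_rc_32_1 lc_j_rc_45_1 lc_j_rc_38_1 lc_j_rc_38_1 lc_j_rc_49_1 lc_j_rc_8_1 lc_j_rc_8_1 lc_j_rc_8_1 lc_j_rc_45_1 lc_j_rc_38_1 lc_j_rc_51_2 lc_j_rc_51_0 lc_j_rc_38_1 lc_j_rc_45_1 lc_j_rc_53_2 lc_j_rc_38_1 lc_j_rc_32_1 lc_j_rc_32_1 lc_j_rc_53_2 lc_j_rc_51_2 lc_j_rc_8_3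 lc_j_rc_51_2 lc_j_rc_53_2 lc_j_rc_53_2 lc_j_rc_53_2 lc_j_rc_51_2 lc_j_rc_25_1 lc_j_rc_51_2 lc_j_rc_51_2 lc_j_rc_38_1 lc_j_rc_45_1 lc_j_rc_53_2 lc_j_rc_38_1 lc_j_rc_51_2 lc_j_rc_45_1 lc_j_rc_49_5 lc_j_rc_32_1 lc_j_rc_32_1 lc_j_rc_45_1 lc_j_rc_38_1 lc_j_rc_45_1 lc_j_rc_38_1) (@D3.rec (fun _ => (Cert rels S Gen.j)) lc_j_rc_8_1 lc_j_rc_51_2 lc_j_rc_38_1 lc_j_rc_51_2 lc_j_rc_32_1 lc_j_rc_45_1 lc_j_rc_49_3 lc_j_rc_49_3 lc_j_rc_49_5 lc_j_rc_32_1 lc_j_rc_49_3 lc_j_rc_32_1 lc_j_rc_25_1 lc_j_rc_38_1 lc_j_rc_49_1 lc_j_rc_45_1 lc_j_rc_38_1 lc_j_rc_38_1 lc_j_rc_45_1 lc_j_rc_45_1 lc_j_rc_38_1 lc_j_rc_25_1 lc_j_rc_51_0 lc_j_rc_51_0 lc_j_rc_25_1 lc_j_rc_8_1 lc_j_rc_32_1 lc_j_rc_25_1 lc_j_rc_25_1 lc_j_rc_51_2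 lc_j_rc_53_2 lc_j_rc_51_2 lc_j_rc_17_1 lc_j_rc_38_3 lc_j_rc_51_2 lc_j_rc_32_1 lc_j_rc_25_1 lc_j_rc_51_2 lc_j_rc_32_1 lc_j_rc_51_2 lc_j_rc_32_1 lc_j_rc_45_1 lc_j_rc_51_2 lc_j_rc_32_1 lc_j_rc_51_2 lc_j_rc_32_1 lc_j_rc_51_2 lc_j_rc_32_1 lc_j_rc_17_1 lc_j_rc_51_2 lc_j_rc_49_1) (@D3.rec (fun _ => (Cert rels S Gen.j)) lc_j_rc_53_2 lc_j_rc_51_2 lc_j_rc_49_3 lc_j_rc_32_1 lc_j_rc_38_1 lc_j_rc_38_1 lc_j_rc_32_1 lc_j_rc_25_1 lc_j_rc_32_1 lc_j_rc_49_1 lc_j_rc_45_1 lc_j_rc_45_1 lc_j_rc_32_1 lc_j_rc_45_1 lc_j_rc_38_1 lc_j_rc_51_2 lc_j_rc_32_1 lc_j_rc_51_2 lc_j_rc_32_1 lc_j_rc_53_2 lc_j_rc_51_2 lc_j_rc_51_2 lc_j_rc_32_1 lc_j_rc_38_1 lc_j_rc_32_1 lc_j_rc_25_1 lc_j_rc_8_1 lc_j_rc_49_1 lc_j_rc_17_1 lc_j_rc_53_2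 lc_j_rc_17_1 lc_j_rc_51_2 lc_j_rc_17_1 lc_j_rc_49_1 lc_j_rc_53_2 lc_j_rc_51_2 lc_j_rc_53_2 lc_j_rc_32_1 lc_j_rc_45_1 lc_j_rc_32_1 lc_j_rc_25_1 lc_j_rc_38_1 lc_j_rc_25_1 lc_j_rc_51_2 lc_j_rc_32_1 lc_j_rc_25_1 lc_j_rc_38_1 lc_j_rc_17_1 lc_j_rc_32_1 lc_j_rc_38_1 lc_j_rc_49_3) (@D3.rec (fun _ => (Cert rels S Gen.j)) lc_j_rc_49_1 lc_j_rc_49_3 lc_j_rc_45_1 lc_j_rc_45_1 lc_j_rc_38_1 lc_j_rc_45_1 lc_j_rc_53_0 lc_j_rc_38_1 lc_j_rc_17_3 lc_j_rc_25_1 lc_j_rc_25_3 lc_j_rc_8_3 lc_j_rc_53_2 lc_j_rc_32_1 lc_j_rc_38_1 lc_j_rc_17_1 lc_j_rc_32_1 lc_j_rc_17_1 lc_j_rc_17_1 lc_j_rc_8_3 lc_j_rc_32_1 lc_j_rc_49_3 lc_j_rc_38_1 lc_j_rc_49_3 lc_j_rc_45_1 lc_j_rc_51_2 lc_j_rc_53_2 lc_j_rc_53_2 lc_j_rc_32_1 lc_j_rc_32_1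 lc_j_rc_8_1 lc_j_rc_32_1 lc_j_rc_8_3 lc_j_rc_25_1 lc_j_rc_8_3 lc_j_rc_53_2 lc_j_rc_51_2 lc_j_rc_17_3 lc_j_rc_17_3 lc_j_rc_51_2 lc_j_rc_32_1 lc_j_rc_53_2 lc_j_rc_53_2 lc_j_rc_51_2 lc_j_rc_32_1 lc_j_rc_32_1 lc_j_rc_25_1 lc_j_rc_32_1 lc_j_rc_38_1 lc_j_rc_25_1 lc_j_rc_51_2) (@D3.rec (fun _ => (Cert rels S Gen.j)) lc_j_rc_32_1 lc_j_rc_32_1 lc_j_rc_32_1 lc_j_rc_25_1 lc_j_rc_51_0 lc_j_rc_17_1 lc_j_rc_17_3 lc_j_rc_25_1 lc_j_rc_51_2 lc_j_rc_32_1 lc_j_rc_25_1 lc_j_rc_38_1 lc_j_rc_17_1 lc_j_rc_38_1 lc_j_rc_32_1 lc_j_rc_38_1 lc_j_rc_8_3 lc_j_rc_38_1 lc_j_rc_38_1 lc_j_rc_8_1 lc_j_rc_51_2 lc_j_rc_32_1 lc_j_rc_38_1 lc_j_rc_51_2 lc_j_rc_32_1 lc_j_rc_32_1 lc_j_rc_17_3 lc_j_rc_32_1 lc_j_rc_38_1 lc_j_rc_25_1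 lc_j_rc_53_2 lc_j_rc_51_2 lc_j_rc_45_1 lc_j_rc_51_2 lc_j_rc_51_2 lc_j_rc_51_2 lc_j_rc_32_1 lc_j_rc_53_2 lc_j_rc_8_1 lc_j_rc_38_1 lc_j_rc_51_2 lc_j_rc_32_1 lc_j_rc_32_1 lc_j_rc_25_1 lc_j_rc_8_3 lc_j_rc_32_1 lc_j_rc_25_1 lc_j_rc_25_1 lc_j_rc_38_1 lc_j_rc_45_1 lc_j_rc_25_1) (@D3.rec (fun _ => (Cert rels S Gen.j)) lc_j_rc_8_1 lc_j_rc_32_1 lc_j_rc_32_1 lc_j_rc_51_2 lc_j_rc_53_2 lc_j_rc_51_2 lc_j_rc_32_1 lc_j_rc_38_1 lc_j_rc_32_1 lc_j_rc_25_1 lc_j_rc_53_2 lc_j_rc_49_3 lc_j_rc_32_1 lc_j_rc_45_1 lc_j_rc_51_2 lc_j_rc_49_3 lc_j_rc_32_1 lc_j_rc_32_1 lc_j_rc_25_1 lc_j_rc_25_1 lc_j_rc_38_1 lc_j_rc_17_1 lc_j_rc_17_1 lc_j_rc_32_1 lc_j_rc_25_1 lc_j_rc_32_1 lc_j_rc_25_1 lc_j_rc_38_1 lc_j_rc_25_1 lc_j_rc_38_1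 lc_j_rc_25_1 lc_j_rc_49_3 lc_j_rc_49_3 lc_j_rc_25_1 lc_j_rc_17_3 lc_j_rc_32_1 lc_j_rc_25_1 lc_j_rc_8_1 lc_j_rc_17_1 lc_j_rc_17_1 lc_j_rc_25_1 lc_j_rc_51_2 lc_j_rc_32_1 lc_j_rc_53_2 lc_j_rc_51_2 lc_j_rc_32_1 lc_j_rc_17_1 lc_j_rc_38_3 lc_j_rc_17_1 lc_j_rc_17_1 lc_j_rc_17_1) (@D3.rec (fun _ => (Cert rels S Gen.j)) lc_j_rc_32_1 lc_j_rc_53_2 lc_j_rc_53_2 lc_j_rc_8_1 lc_j_rc_53_2 lc_j_rc_51_2 lc_j_rc_32_1 lc_j_rc_8_3 lc_j_rc_8_3 lc_j_rc_32_1 lc_j_rc_25_1 lc_j_rc_25_1 lc_j_rc_53_2 lc_j_rc_53_2 lc_j_rc_32_1 lc_j_rc_17_1 lc_j_rc_17_1 lc_j_rc_51_2 lc_j_rc_32_1 lc_j_rc_53_2 lc_j_rc_51_2 lc_j_rc_32_1 lc_j_rc_25_1 lc_j_rc_38_1 lc_j_rc_32_1 lc_j_rc_45_1 lc_j_rc_38_1 lc_j_rc_38_1 lc_j_rc_38_1 lc_j_rc_17_1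 lc_j_rc_32_1 lc_j_rc_25_1 lc_j_rc_51_2 lc_j_rc_32_1 lc_j_rc_25_1 lc_j_rc_38_1 lc_j_rc_17_1 lc_j_rc_17_1 lc_j_rc_32_1 lc_j_rc_51_2 lc_j_rc_32_1 lc_j_rc_25_1 lc_j_rc_38_1 lc_j_rc_17_1 lc_j_rc_51_2 lc_j_rc_51_2 lc_j_rc_32_1 lc_j_rc_25_1 lc_j_rc_38_1 lc_j_rc_17_1 lc_j_rc_25_1) (@D3.rec (fun _ => (Cert rels S Gen.j)) lc_j_rc_25_1 lc_j_rc_38_1 lc_j_rc_25_1 lc_j_rc_8_1 lc_j_rc_25_1 lc_j_rc_32_1 lc_j_rc_8_1 lc_j_rc_17_3 lc_j_rc_32_1 lc_j_rc_25_1 lc_j_rc_8_1 lc_j_rc_17_1 lc_j_rc_17_1 lc_j_rc_32_1 lc_j_rc_53_2 lc_j_rc_53_2 lc_j_rc_51_2 lc_j_rc_53_2 lc_j_rc_32_1 lc_j_rc_53_2 lc_j_rc_51_2 lc_j_rc_32_1 lc_j_rc_25_1 lc_j_rc_38_1 lc_j_rc_51_2 lc_j_rc_32_1 lc_j_rc_25_1 lc_j_rc_38_1 lc_j_rc_17_1 lc_j_rc_8_1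 lc_j_rc_53_2 lc_j_rc_45_1 lc_j_rc_32_1 lc_j_rc_17_3 lc_j_rc_32_1 lc_j_rc_25_1 lc_j_rc_32_1 lc_j_rc_53_2 lc_j_rc_49_1 lc_j_rc_51_2 lc_j_rc_53_2 lc_j_rc_32_1 lc_j_rc_32_1 lc_j_rc_25_1 lc_j_rc_49_3 lc_j_rc_51_2 lc_j_rc_32_1 lc_j_rc_25_1 lc_j_rc_38_1 lc_j_rc_17_1 lc_j_rc_25_1) (@D3.rec (fun _ => (Cert rels S Gen.j)) lc_j_rc_45_1 lc_j_rc_32_1 lc_j_rc_25_1 lc_j_rc_38_1 lc_j_rc_17_1 lc_j_rc_25_1 lc_j_rc_8_1 lc_j_rc_32_1 lc_j_rc_51_2 lc_j_rc_32_1 lc_j_rc_25_1 lc_j_rc_38_1 lc_j_rc_32_1 lc_j_rc_25_1 lc_j_rc_38_1 lc_j_rc_17_1 lc_j_rc_25_1 lc_j_rc_8_1 lc_j_rc_51_2 lc_j_rc_38_1 lc_j_rc_32_1 lc_j_rc_38_1 lc_j_rc_25_1 lc_j_rc_53_2 lc_j_rc_25_1 lc_j_rc_38_1 lc_j_rc_25_1 lc_j_rc_8_1 lc_j_rc_17_1 lc_j_rc_32_1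 lc_j_rc_38_1 lc_j_rc_45_1 lc_j_rc_25_1 lc_j_rc_38_1 lc_j_rc_32_1 lc_j_rc_25_1 lc_j_rc_49_1 lc_j_rc_8_1 lc_j_rc_17_1 lc_j_rc_32_1 lc_j_rc_25_1 lc_j_rc_32_1 lc_j_rc_8_1 lc_j_rc_17_1 lc_j_rc_51_2 lc_j_rc_25_1 lc_j_rc_38_1 lc_j_rc_17_1 lc_j_rc_45_1 lc_j_rc_17_1 lc_j_rc_32_1) (@D3.rec (fun _ => (Cert rels S Gen.j)) lc_j_rc_38_3 lc_j_rc_38_3 lc_j_rc_17_1 lc_j_rc_8_1 lc_j_rc_8_1 lc_j_rc_53_2 lc_j_rc_25_1 lc_j_rc_17_1 lc_j_rc_53_0 lc_j_rc_25_1 lc_j_rc_25_1 lc_j_rc_49_3 lc_j_rc_32_1 lc_j_rc_25_1 lc_j_rc_38_1 lc_j_rc_17_1 lc_j_rc_53_0 lc_j_rc_49_3 lc_j_rc_45_1 lc_j_rc_53_0 lc_j_rc_25_1 lc_j_rc_17_3 lc_j_rc_25_1 lc_j_rc_17_1 lc_j_rc_32_1 lc_j_rc_45_1 lc_j_rc_45_3 lc_j_rc_8_1 lc_j_rc_8_1 lc_j_rc_51_2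 lc_j_rc_32_1 lc_j_rc_25_1 lc_j_rc_25_1 lc_j_rc_45_1 lc_j_rc_45_3 lc_j_rc_45_3 lc_j_rc_25_1 lc_j_rc_49_5 lc_j_rc_17_1 lc_j_rc_8_3 lc_j_rc_32_1 lc_j_rc_25_1 lc_j_rc_17_3 lc_j_rc_8_3 lc_j_rc_8_3 lc_j_rc_8_3 lc_j_rc_53_2 lc_j_rc_49_3 lc_j_rc_17_3 lc_j_rc_32_1 lc_j_rc_8_1) (@D3.rec (fun _ => (Cert rels S Gen.j)) lc_j_rc_32_1 lc_j_rc_17_1 lc_j_rc_32_1 lc_j_rc_32_1 lc_j_rc_51_2 lc_j_rc_51_2 lc_j_rc_32_1 lc_j_rc_38_1 lc_j_rc_32_1 lc_j_rc_25_1 lc_j_rc_17_1 lc_j_rc_32_1 lc_j_rc_38_1 lc_j_rc_51_2 lc_j_rc_32_1 lc_j_rc_32_1 lc_j_rc_25_1 lc_j_rc_38_1 lc_j_rc_45_1 lc_j_rc_25_1 lc_j_rc_17_1 lc_j_rc_38_1 lc_j_rc_32_1 lc_j_rc_45_1 lc_j_rc_45_1 lc_j_rc_38_1 lc_j_rc_49_3 lc_j_rc_49_3 lc_j_rc_38_1 lc_j_rc_32_1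 lc_j_rc_38_1 lc_j_rc_45_1 lc_j_rc_49_3 lc_j_rc_8_1 lc_j_rc_32_1 lc_j_rc_45_1 lc_j_rc_38_1 lc_j_rc_45_1 lc_j_rc_45_1 lc_j_rc_49_3 lc_j_rc_45_1 lc_j_rc_51_2 lc_j_rc_17_1 lc_j_rc_45_1 lc_j_rc_51_0 lc_j_rc_53_0 lc_j_rc_8_1 lc_j_rc_32_1 lc_j_rc_25_1 lc_j_rc_32_1 lc_j_rc_32_1) (@D3.rec (fun _ => (Cert rels S Gen.j)) lc_j_rc_17_1 lc_j_rc_17_1 lc_j_rc_32_1 lc_j_rc_53_2 lc_j_rc_51_2 lc_j_rc_32_1 lc_j_rc_38_1 lc_j_rc_25_1 lc_j_rc_17_1 lc_j_rc_17_1 lc_j_rc_32_1 lc_j_rc_38_1 lc_j_rc_25_1 lc_j_rc_53_2 lc_j_rc_32_1 lc_j_rc_8_3 lc_j_rc_25_1 lc_j_rc_38_1 lc_j_rc_49_3 lc_j_rc_25_1 lc_j_rc_17_1 lc_j_rc_25_1 lc_j_rc_32_1 lc_j_rc_38_1 lc_j_rc_32_1 lc_j_rc_25_1 lc_j_rc_17_1 lc_j_rc_32_1 lc_j_rc_38_1 lc_j_rc_53_2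 lc_j_rc_51_2 lc_j_rc_53_2 lc_j_rc_32_1 lc_j_rc_32_1 lc_j_rc_25_1 lc_j_rc_38_1 lc_j_rc_45_1 lc_j_rc_25_1 lc_j_rc_17_1 lc_j_rc_8_1 lc_j_rc_8_1 lc_j_rc_51_2 lc_j_rc_53_2 lc_j_rc_51_2 lc_j_rc_45_1 lc_j_rc_32_1 lc_j_rc_25_1 lc_j_rc_38_1 lc_j_rc_45_1 lc_j_rc_53_2 lc_j_rc_32_1) (@D3.rec (fun _ => (Cert rels S Gen.j)) lc_j_rc_32_1 lc_j_rc_25_1 lc_j_rc_38_1 lc_j_rc_51_2 lc_j_rc_32_1 lc_j_rc_25_1 lc_j_rc_38_1 lc_j_rc_17_1 lc_j_rc_25_1 lc_j_rc_45_1 lc_j_rc_32_1 lc_j_rc_25_1 lc_j_rc_17_1 lc_j_rc_8_1 lc_j_rc_8_1 lc_j_rc_8_1 lc_j_rc_32_1 lc_j_rc_38_1 lc_j_rc_32_3 lc_j_rc_8_1 lc_j_rc_38_1 lc_j_rc_32_1 lc_j_rc_38_1 lc_j_rc_51_0 lc_j_rc_32_1 lc_j_rc_38_1 lc_j_rc_45_1 lc_j_rc_38_1 lc_j_rc_53_2 lc_j_rc_51_2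 lc_j_rc_38_1 lc_j_rc_45_1 lc_j_rc_17_1 lc_j_rc_32_1 lc_j_rc_32_1 lc_j_rc_49_3 lc_j_rc_25_1 lc_j_rc_53_0 lc_j_rc_49_3 lc_j_rc_25_1 lc_j_rc_17_1 lc_j_rc_17_1 lc_j_rc_32_1 lc_j_rc_53_2 lc_j_rc_25_1 lc_j_rc_49_1 lc_j_rc_25_1 lc_j_rc_17_1 lc_j_rc_17_1 lc_j_rc_17_1 lc_j_rc_17_1) (@D3.rec (fun _ => (Cert rels S Gen.j)) lc_j_rc_17_1 lc_j_rc_25_1 lc_j_rc_17_1 lc_j_rc_25_1 lc_j_rc_25_1 lc_j_rc_17_1 lc_j_rc_49_5 lc_j_rc_49_3 lc_j_rc_45_1 lc_j_rc_25_1 lc_j_rc_17_1 lc_j_rc_17_1 lc_j_rc_25_1 lc_j_rc_8_1 lc_j_rc_53_2 lc_j_rc_38_1 lc_j_rc_25_1 lc_j_rc_32_1 lc_j_rc_25_1 lc_j_rc_25_1 lc_j_rc_51_0 lc_j_rc_38_1 lc_j_rc_17_1 lc_j_rc_53_2 lc_j_rc_38_1 lc_j_rc_51_2 lc_j_rc_53_0 lc_j_rc_25_1 lc_j_rc_53_2 lc_j_rc_38_1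 lc_j_rc_45_1 lc_j_rc_32_1 lc_j_rc_32_1 lc_j_rc_53_0 lc_j_rc_32_1 lc_j_rc_25_1 lc_j_rc_32_1 lc_j_rc_38_1 lc_j_rc_25_1 lc_j_rc_38_1 lc_j_rc_17_1 lc_j_rc_45_1 lc_j_rc_38_1 lc_j_rc_32_1 lc_j_rc_45_1 lc_j_rc_25_1 lc_j_rc_38_1 lc_j_rc_38_1 lc_j_rc_32_1 lc_j_rc_25_1 lc_j_rc_38_1) (@D3.rec (fun _ => (Cert rels S Gen.j)) lc_j_rc_8_1 lc_j_rc_25_1 lc_j_rc_53_0 lc_j_rc_17_1 lc_j_rc_25_1 lc_j_rc_45_1 lc_j_rc_49_1 lc_j_rc_25_1 lc_j_rc_45_1 lc_j_rc_8_1 lc_j_rc_38_1 lc_j_rc_38_1 lc_j_rc_25_1 lc_j_rc_32_1 lc_j_rc_25_1 lc_j_rc_17_1 lc_j_rc_25_1 lc_j_rc_32_1 lc_j_rc_25_1 lc_j_rc_25_1 lc_j_rc_17_1 lc_j_rc_25_1 lc_j_rc_32_1 lc_j_rc_45_1 lc_j_rc_32_1 lc_j_rc_25_1 lc_j_rc_17_1 lc_j_rc_32_1 lc_j_rc_51_2 lc_j_rc_32_1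 lc_j_rc_32_1 lc_j_rc_25_1 lc_j_rc_32_1 lc_j_rc_25_1 lc_j_rc_17_1 lc_j_rc_53_2 lc_j_rc_49_3 lc_j_rc_32_1 lc_j_rc_25_1 lc_j_rc_32_1 lc_j_rc_25_1 lc_j_rc_25_1 lc_j_rc_38_1 lc_j_rc_17_1 lc_j_rc_17_1 lc_j_rc_8_1 lc_j_rc_32_1 lc_j_rc_38_1 lc_j_rc_38_1 lc_j_rc_51_0 lc_j_rc_51_2) (@D3.rec (fun _ => (Cert rels S Gen.j)) lc_j_rc_25_1 lc_j_rc_25_1 lc_j_rc_17_1 lc_j_rc_32_1 lc_j_rc_32_1 lc_j_rc_25_1 lc_j_rc_32_1 lc_j_rc_25_1 lc_j_rc_17_1 lc_j_rc_38_3 lc_j_rc_32_1 lc_j_rc_25_1 lc_j_rc_32_1 lc_j_rc_25_1 lc_j_rc_17_1 lc_j_rc_8_1 lc_j_rc_17_1 lc_j_rc_32_1 lc_j_rc_25_1 lc_j_rc_53_0 lc_j_rc_25_1 lc_j_rc_17_1 lc_j_rc_17_1 lc_j_rc_8_3 lc_j_rc_25_1 lc_j_rc_8_3 lc_j_rc_25_3 lc_j_rc_25_1 lc_j_rc_32_1 lc_j_rc_32_1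 lc_j_rc_25_1 lc_j_rc_32_1 lc_j_rc_32_1 lc_j_rc_25_1 lc_j_rc_17_1 lc_j_rc_38_1 lc_j_rc_8_1 lc_j_rc_51_2 lc_j_rc_49_3 lc_j_rc_45_1 lc_j_rc_25_1 lc_j_rc_17_1 lc_j_rc_17_1 lc_j_rc_51_2 lc_j_rc_45_1 lc_j_rc_49_1 lc_j_rc_25_1 lc_j_rc_51_2 lc_j_rc_32_1 lc_j_rc_25_1 lc_j_rc_53_2) (@D3.rec (fun _ => (Cert rels S Gen.j)) lc_j_rc_17_1 lc_j_rc_32_1 lc_j_rc_25_1 lc_j_rc_17_1 lc_j_rc_8_1 lc_j_rc_25_1 lc_j_rc_25_1 lc_j_rc_45_3 lc_j_rc_32_1 lc_j_rc_38_1 lc_j_rc_32_1 lc_j_rc_25_1 lc_j_rc_32_1 lc_j_rc_25_1 lc_j_rc_38_1 lc_j_rc_17_1 lc_j_rc_32_1 lc_j_rc_25_1 lc_j_rc_25_1 lc_j_rc_25_1 lc_j_rc_38_1 lc_j_rc_17_1 lc_j_rc_25_1 lc_j_rc_45_1 lc_j_rc_49_3 lc_j_rc_32_1 lc_j_rc_25_1 lc_j_rc_17_1 lc_j_rc_8_1 lc_j_rc_38_3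 lc_j_rc_25_1 lc_j_rc_8_1 lc_j_rc_25_1 lc_j_rc_38_1 lc_j_rc_17_1 lc_j_rc_8_1 lc_j_rc_32_1 lc_j_rc_32_1 lc_j_rc_25_1 lc_j_rc_38_1 lc_j_rc_25_1 lc_j_rc_17_1 lc_j_rc_32_1 lc_j_rc_25_1 lc_j_rc_38_1 lc_j_rc_17_1 lc_j_rc_25_1 lc_j_rc_45_1 lc_j_rc_8_1 lc_j_rc_17_1 lc_j_rc_25_1) (@D3.rec (fun _ => (Cert rels S Gen.j)) lc_j_rc_25_1 lc_j_rc_17_1 lc_j_rc_8_1 lc_j_rc_25_1 lc_j_rc_38_1 lc_j_rc_45_1 lc_j_rc_49_3 lc_j_rc_38_1 lc_j_rc_25_1 lc_j_rc_38_1 lc_j_rc_32_1 lc_j_rc_32_3 lc_j_rc_8_1 lc_j_rc_8_3 lc_j_rc_25_1 lc_j_rc_8_3 lc_j_rc_8_3 lc_j_rc_25_1 lc_j_rc_49_3 lc_j_rc_8_1 lc_j_rc_38_1 lc_j_rc_38_1 lc_j_rc_51_0 lc_j_rc_25_1 lc_j_rc_45_1 lc_j_rc_8_3 lc_j_rc_45_1 lc_j_rc_51_2 lc_j_rc_32_1 lc_j_rc_38_1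 lc_j_rc_49_3 lc_j_rc_32_1 lc_j_rc_25_1 lc_j_rc_25_1 lc_j_rc_53_0 lc_j_rc_38_1 lc_j_rc_25_1 lc_j_rc_45_1 lc_j_rc_25_1 lc_j_rc_32_1 lc_j_rc_53_2 lc_j_rc_25_1 lc_j_rc_32_1 lc_j_rc_38_1 lc_j_rc_25_1 lc_j_rc_25_1 lc_j_rc_51_2 lc_j_rc_32_1 lc_j_rc_25_1 lc_j_rc_51_2 lc_j_rc_17_1) (@D3.rec (fun _ => (Cert rels S Gen.j)) lc_j_rc_38_1 lc_j_rc_45_1 lc_j_rc_49_5 lc_j_rc_49_3 lc_j_rc_38_1 lc_j_rc_53_2 lc_j_rc_51_2 lc_j_rc_53_2 lc_j_rc_17_1 lc_j_rc_17_3 lc_j_rc_49_1 lc_j_rc_8_3 lc_j_rc_8_3 lc_j_rc_51_2 lc_j_rc_32_1 lc_j_rc_53_2 lc_j_rc_32_1 lc_j_rc_51_2 lc_j_rc_32_1 lc_j_rc_38_1 lc_j_rc_51_2 lc_j_rc_32_1 lc_j_rc_32_1 lc_j_rc_51_2 lc_j_rc_32_1 lc_j_rc_38_1 lc_j_rc_32_1 lc_j_rc_25_1 lc_j_rc_38_1 lc_j_rc_8_1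 lc_j_rc_32_1 lc_j_rc_25_1 lc_j_rc_45_1 lc_j_rc_25_1 lc_j_rc_38_1 lc_j_rc_49_3 lc_j_rc_51_2 lc_j_rc_32_1 lc_j_rc_38_1 lc_j_rc_38_1 lc_j_rc_32_1 lc_j_rc_25_1 lc_j_rc_8_1 lc_j_rc_17_1 lc_j_rc_51_0 lc_j_rc_51_2 lc_j_rc_53_2 lc_j_rc_25_1 lc_j_rc_25_1 lc_j_rc_32_1 lc_j_rc_32_1) (@D3.rec (fun _ => (Cert rels S Gen.j)) lc_j_rc_25_1 lc_j_rc_38_1 lc_j_rc_45_1 lc_j_rc_25_1 lc_j_rc_38_1 lc_j_rc_17_1 lc_j_rc_32_1 lc_j_rc_25_1 lc_j_rc_38_1 lc_j_rc_45_1 lc_j_rc_32_1 lc_j_rc_25_1 lc_j_rc_38_1 lc_j_rc_25_1 lc_j_rc_38_1 lc_j_rc_45_1 lc_j_rc_25_1 lc_j_rc_25_1 lc_j_rc_49_3 lc_j_rc_49_3 lc_j_rc_25_1 lc_j_rc_25_1 lc_j_rc_8_3 lc_j_rc_45_1 lc_j_rc_25_1 lc_j_rc_49_3 lc_j_rc_49_3 lc_j_rc_32_1 lc_j_rc_38_1 lc_j_rc_51_0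 lc_j_rc_38_3 lc_j_rc_51_2 lc_j_rc_32_1 lc_j_rc_8_1 lc_j_rc_25_1 lc_j_rc_17_1 lc_j_rc_17_1 lc_j_rc_51_2 lc_j_rc_32_1 lc_j_rc_32_1 lc_j_rc_25_1 lc_j_rc_32_1 lc_j_rc_38_1 lc_j_rc_32_1 lc_j_rc_25_1 lc_j_rc_38_1 lc_j_rc_51_2 lc_j_rc_49_3 lc_j_rc_32_1 lc_j_rc_51_2 lc_j_rc_32_1) (@D3.rec (fun _ => (Cert rels S Gen.j)) lc_j_rc_38_1 lc_j_rc_32_1 lc_j_rc_25_1 lc_j_rc_38_1 lc_j_rc_8_1 lc_j_rc_32_1 lc_j_rc_25_1 lc_j_rc_25_1 lc_j_rc_38_1 lc_j_rc_51_2 lc_j_rc_32_1 lc_j_rc_25_1 lc_j_rc_38_1 lc_j_rc_17_1 lc_j_rc_32_1 lc_j_rc_38_1 lc_j_rc_38_1 lc_j_rc_17_1 lc_j_rc_17_1 lc_j_rc_32_1 lc_j_rc_25_1 lc_j_rc_51_2 lc_j_rc_32_1 lc_j_rc_53_2 lc_j_rc_51_2 lc_j_rc_32_1 lc_j_rc_17_1 lc_j_rc_38_3 lc_j_rc_17_1 lc_j_rc_32_1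 lc_j_rc_51_2 lc_j_rc_51_2 lc_j_rc_32_1 lc_j_rc_38_1 lc_j_rc_32_1 lc_j_rc_25_1 lc_j_rc_53_2 lc_j_rc_8_1 lc_j_rc_32_1 lc_j_rc_17_1 lc_j_rc_32_1 lc_j_rc_51_2 lc_j_rc_32_1 lc_j_rc_38_1 lc_j_rc_25_1 lc_j_rc_32_1 lc_j_rc_25_1 lc_j_rc_25_1 lc_j_rc_32_1 lc_j_rc_38_1 lc_j_rc_38_1) (@D3.rec (fun _ => (Cert rels S Gen.j)) lc_j_rc_45_1 lc_j_rc_32_1 lc_j_rc_32_1 lc_j_rc_25_1 lc_j_rc_38_1 lc_j_rc_45_1 lc_j_rc_51_2 lc_j_rc_32_1 lc_j_rc_25_1 lc_j_rc_38_1 lc_j_rc_17_1 lc_j_rc_45_1 lc_j_rc_25_3 lc_j_rc_25_1 lc_j_rc_38_1 lc_j_rc_32_1 lc_j_rc_38_1 lc_j_rc_25_1 lc_j_rc_53_2 lc_j_rc_51_2 lc_j_rc_32_1 lc_j_rc_25_1 lc_j_rc_8_1 lc_j_rc_8_1 lc_j_rc_32_1 lc_j_rc_38_1 lc_j_rc_25_1 lc_j_rc_38_1 lc_j_rc_45_1 lc_j_rc_51_2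 lc_j_rc_32_1 lc_j_rc_25_1 lc_j_rc_38_1 lc_j_rc_17_1 lc_j_rc_45_1 lc_j_rc_8_1 lc_j_rc_8_1 lc_j_rc_53_2 lc_j_rc_45_1 lc_j_rc_32_1 lc_j_rc_25_1 lc_j_rc_38_1 lc_j_rc_45_1 lc_j_rc_45_1 lc_j_rc_25_1 lc_j_rc_49_1 lc_j_rc_51_2 lc_j_rc_32_1 lc_j_rc_25_1 lc_j_rc_17_1 lc_j_rc_25_1) (@D3.rec (fun _ => (Cert rels S Gen.j)) lc_j_rc_45_1 lc_j_rc_17_1 lc_j_rc_32_1 lc_j_rc_25_1 lc_j_rc_38_1 lc_j_rc_17_1 lc_j_rc_25_1 lc_j_rc_8_1 lc_j_rc_45_1 lc_j_rc_32_1 lc_j_rc_32_1 lc_j_rc_38_1 lc_j_rc_17_1 lc_j_rc_25_1 lc_j_rc_38_1 lc_j_rc_17_1 lc_j_rc_32_1 lc_j_rc_38_1 lc_j_rc_8_3 lc_j_rc_17_1 lc_j_rc_25_1 lc_j_rc_45_1 lc_j_rc_17_1 lc_j_rc_8_3 lc_j_rc_53_2 lc_j_rc_45_1 lc_j_rc_53_2 lc_j_rc_51_2 lc_j_rc_8_3 lc_j_rc_51_2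 lc_j_rc_32_1 lc_j_rc_51_2 lc_j_rc_51_2 lc_j_rc_45_1 lc_j_rc_51_2 lc_j_rc_32_1 lc_j_rc_45_1 lc_j_rc_38_1 lc_j_rc_32_1 lc_j_rc_32_1 lc_j_rc_38_1 lc_j_rc_32_1 lc_j_rc_25_1 lc_j_rc_38_1 lc_j_rc_25_1 lc_j_rc_17_3 lc_j_rc_25_1 lc_j_rc_32_1 lc_j_rc_17_1 lc_j_rc_17_1 lc_j_rc_32_1) (@D3.rec (fun _ => (Cert rels S Gen.j)) lc_j_rc_45_1 lc_j_rc_45_1 lc_j_rc_45_1 lc_j_rc_32_1 lc_j_rc_53_2 lc_j_rc_38_1 lc_j_rc_32_1 lc_j_rc_25_1 lc_j_rc_45_1 lc_j_rc_32_1 lc_j_rc_45_1 lc_j_rc_45_3 lc_j_rc_17_1 lc_j_rc_25_1 lc_j_rc_32_1 lc_j_rc_53_0 lc_j_rc_17_1 lc_j_rc_32_1 lc_j_rc_17_3 lc_j_rc_38_1 lc_j_rc_45_3 lc_j_rc_32_1 lc_j_rc_17_3 lc_j_rc_17_1 lc_j_rc_38_1 lc_j_rc_49_1 lc_j_rc_17_1 lc_j_rc_32_1 lc_j_rc_32_1 lc_j_rc_53_2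 lc_j_rc_49_3 lc_j_rc_38_1 lc_j_rc_53_2 lc_j_rc_38_1 lc_j_rc_25_1 lc_j_rc_51_2 lc_j_rc_8_3 lc_j_rc_53_2 lc_j_rc_53_2 lc_j_rc_53_2 lc_j_rc_25_3 lc_j_rc_32_1 lc_j_rc_51_2 lc_j_rc_32_1 lc_j_rc_49_3 lc_j_rc_45_1 lc_j_rc_17_1 lc_j_rc_49_1 lc_j_rc_32_1 lc_j_rc_49_3 lc_j_rc_17_1) (@D3.rec (fun _ => (Cert rels S Gen.j)) lc_j_rc_25_1 lc_j_rc_45_1 lc_j_rc_45_1 lc_j_rc_49_5 lc_j_rc_32_1 lc_j_rc_32_1 lc_j_rc_49_3 lc_j_rc_32_1 lc_j_rc_25_1 lc_j_rc_17_1 lc_j_rc_45_1 lc_j_rc_49_3 lc_j_rc_8_3 lc_j_rc_25_1 lc_j_rc_51_2 lc_j_rc_17_3 lc_j_rc_25_1 lc_j_rc_8_3 lc_j_rc_17_1 lc_j_rc_53_2 lc_j_rc_45_1 lc_j_rc_49_5 lc_j_rc_45_1 lc_j_rc_25_1 lc_j_rc_45_1 lc_j_rc_25_1 lc_j_rc_25_1 lc_j_rc_32_1 lc_j_rc_25_1 lc_j_rc_51_2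 lc_j_rc_32_1 lc_j_rc_51_2 lc_j_rc_32_1 lc_j_rc_17_1 lc_j_rc_38_3 lc_j_rc_53_2 lc_j_rc_51_2 lc_j_rc_51_2 lc_j_rc_32_1 lc_j_rc_8_3 lc_j_rc_32_1 lc_j_rc_25_1 lc_j_rc_17_1 lc_j_rc_53_2 lc_j_rc_51_2 lc_j_rc_32_1 lc_j_rc_38_1 lc_j_rc_32_1 lc_j_rc_25_1 lc_j_rc_17_1 lc_j_rc_32_1)
def ce_j_18 : D2 → D3 → (Cert rels S Gen.j) := @D2.rec (fun _ => D3 → (Cert rels S Gen.j)) (@D3.rec (fun _ => (Cert rels S Gen.j)) lc_j_rc_53_2 lc_j_rc_53_2 lc_j_rc_32_1 lc_j_rc_32_1 lc_j_rc_25_1 lc_j_rc_38_1 lc_j_rc_25_1 lc_j_rc_17_3 lc_j_rc_25_1 lc_j_rc_38_1 lc_j_rc_17_1 lc_j_rc_38_1 lc_j_rc_49_3 lc_j_rc_49_3 lc_j_rc_38_1 lc_j_rc_17_3 lc_j_rc_32_1 lc_j_rc_25_1 lc_j_rc_53_2 lc_j_rc_51_2 lc_j_rc_53_2 lc_j_rc_32_1 lc_j_rc_32_1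 lc_j_rc_25_1 lc_j_rc_38_1 lc_j_rc_25_1 lc_j_rc_38_1 lc_j_rc_17_1 lc_j_rc_17_1 lc_j_rc_32_1 lc_j_rc_17_1 lc_j_rc_25_1 lc_j_rc_17_1 lc_j_rc_17_1 lc_j_rc_25_1 lc_j_rc_17_1 lc_j_rc_25_1 lc_j_rc_53_2 lc_j_rc_32_1 lc_j_rc_32_1 lc_j_rc_25_1 lc_j_rc_38_1 lc_j_rc_32_1 lc_j_rc_25_1 lc_j_rc_38_1 lc_j_rc_17_1 lc_j_rc_25_1 lc_j_rc_51_0 lc_j_rc_8_3 lc_j_rc_32_1 lc_j_rc_25_1) (@D3.rec (fun _ => (Cert rels S Gen.j)) lc_j_rc_45_1 lc_j_rc_17_1 lc_j_rc_25_1 lc_j_rc_8_1 lc_j_rc_38_1 lc_j_rc_49_3 lc_j_rc_49_1 lc_j_rc_45_1 lc_j_rc_8_3 lc_j_rc_45_1 lc_j_rc_51_0 lc_j_rc_8_3 lc_j_rc_49_3 lc_j_rc_8_3 lc_j_rc_32_1 lc_j_rc_38_1 lc_j_rc_17_1 lc_j_rc_25_1 lc_j_rc_17_1 lc_j_rc_53_2 lc_j_rc_38_1 lc_j_rc_49_3 lc_j_rc_45_1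 lc_j_rc_17_1 lc_j_rc_32_1 lc_j_rc_45_3 lc_j_rc_45_3 lc_j_rc_25_1 lc_j_rc_32_1 lc_j_rc_25_1 lc_j_rc_25_1 lc_j_rc_17_3 lc_j_rc_17_1 lc_j_rc_51_2 lc_j_rc_32_1 lc_j_rc_32_1 lc_j_rc_17_3 lc_j_rc_32_1 lc_j_rc_25_1 lc_j_rc_32_3 lc_j_rc_32_1 lc_j_rc_32_1 lc_j_rc_25_1 lc_j_rc_25_1 lc_j_rc_38_1 lc_j_rc_17_1 lc_j_rc_38_1 lc_j_rc_32_1 lc_j_rc_32_1 lc_j_rc_25_1 lc_j_rc_25_1) (@D3.rec (fun _ => (Cert rels S Gen.j)) lc_j_rc_25_1 lc_j_rc_38_1 lc_j_rc_17_1 lc_j_rc_25_1 lc_j_rc_25_1 lc_j_rc_25_1 lc_j_rc_17_1 lc_j_rc_32_1 lc_j_rc_25_1 lc_j_rc_38_1 lc_j_rc_17_1 lc_j_rc_25_1 lc_j_rc_8_1 lc_j_rc_38_1 lc_j_rc_8_3 lc_j_rc_45_1 lc_j_rc_8_1 lc_j_rc_32_1 lc_j_rc_25_1 lc_j_rc_32_1 lc_j_rc_32_1 lc_j_rc_38_1 lc_j_rc_25_1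 lc_j_rc_17_3 lc_j_rc_25_1 lc_j_rc_38_1 lc_j_rc_17_1 lc_j_rc_51_2 lc_j_rc_32_1 lc_j_rc_51_2 lc_j_rc_51_2 lc_j_rc_51_2 lc_j_rc_32_1 lc_j_rc_25_1 lc_j_rc_53_2 lc_j_rc_49_3 lc_j_rc_38_1 lc_j_rc_32_1 lc_j_rc_25_1 lc_j_rc_25_1 lc_j_rc_38_1 lc_j_rc_17_1 lc_j_rc_32_1 lc_j_rc_25_1 lc_j_rc_38_1 lc_j_rc_25_1 lc_j_rc_45_1 lc_j_rc_32_1 lc_j_rc_32_1 lc_j_rc_25_1 lc_j_rc_51_2) (@D3.rec (fun _ => (Cert rels S Gen.j)) lc_j_rc_32_1 lc_j_rc_17_1 lc_j_rc_32_1 lc_j_rc_25_1 lc_j_rc_32_1 lc_j_rc_25_1 lc_j_rc_38_1 lc_j_rc_17_1 lc_j_rc_17_3 lc_j_rc_49_3 lc_j_rc_25_1 lc_j_rc_51_2 lc_j_rc_32_1 lc_j_rc_49_3 lc_j_rc_25_1 lc_j_rc_25_1 lc_j_rc_38_1 lc_j_rc_17_1 lc_j_rc_17_1 lc_j_rc_25_1 lc_j_rc_8_1 lc_j_rc_17_1 lc_j_rc_25_1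 lc_j_rc_38_1 lc_j_rc_49_3 lc_j_rc_38_1 lc_j_rc_25_1 lc_j_rc_25_1 lc_j_rc_32_1 lc_j_rc_49_3 lc_j_rc_51_0 lc_j_rc_17_3 lc_j_rc_8_1 lc_j_rc_49_3 lc_j_rc_17_1 lc_j_rc_51_2 lc_j_rc_32_1 lc_j_rc_25_1 lc_j_rc_32_1 lc_j_rc_25_1 lc_j_rc_17_1 lc_j_rc_49_1 lc_j_rc_17_1 lc_j_rc_17_1 lc_j_rc_32_1 lc_j_rc_32_3 lc_j_rc_17_1 lc_j_rc_8_1 lc_j_rc_17_1 lc_j_rc_8_1 lc_j_rc_8_3) (@D3.rec (fun _ => (Cert rels S Gen.j)) lc_j_rc_32_1 lc_j_rc_25_1 lc_j_rc_8_3 lc_j_rc_8_3 lc_j_rc_45_1 lc_j_rc_25_1 lc_j_rc_38_1 lc_j_rc_17_1 lc_j_rc_32_1 lc_j_rc_25_3 lc_j_rc_32_1 lc_j_rc_25_1 lc_j_rc_32_1 lc_j_rc_25_3 lc_j_rc_32_1 lc_j_rc_25_1 lc_j_rc_51_2 lc_j_rc_32_1 lc_j_rc_25_1 lc_j_rc_38_1 lc_j_rc_17_1 lc_j_rc_38_1 lc_j_rc_25_1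 lc_j_rc_45_1 lc_j_rc_38_1 lc_j_rc_38_1 lc_j_rc_25_1 lc_j_rc_17_1 lc_j_rc_25_1 lc_j_rc_51_2 lc_j_rc_17_1 lc_j_rc_32_1 lc_j_rc_25_1 lc_j_rc_38_1 lc_j_rc_17_1 lc_j_rc_25_1 lc_j_rc_8_1 lc_j_rc_8_3 lc_j_rc_32_1 lc_j_rc_25_1 lc_j_rc_38_1 lc_j_rc_17_1 lc_j_rc_25_1 lc_j_rc_25_1 lc_j_rc_38_1 lc_j_rc_25_1 lc_j_rc_17_1 lc_j_rc_32_1 lc_j_rc_49_3 lc_j_rc_32_1 lc_j_rc_25_1) (@D3.rec (fun _ => (Cert rels S Gen.j)) lc_j_rc_32_1 lc_j_rc_25_1 lc_j_rc_32_1 lc_j_rc_45_1 lc_j_rc_17_3 lc_j_rc_25_1 lc_j_rc_38_1 lc_j_rc_17_1 lc_j_rc_8_1 lc_j_rc_32_1 lc_j_rc_25_1 lc_j_rc_53_2 lc_j_rc_53_2 lc_j_rc_32_1 lc_j_rc_32_1 lc_j_rc_25_1 lc_j_rc_51_2 lc_j_rc_32_1 lc_j_rc_25_1 lc_j_rc_38_1 lc_j_rc_17_1 lc_j_rc_25_1 lc_j_rc_32_1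 lc_j_rc_25_1 lc_j_rc_38_1 lc_j_rc_17_1 lc_j_rc_25_1 lc_j_rc_8_1 lc_j_rc_25_1 lc_j_rc_17_3 lc_j_rc_45_1 lc_j_rc_25_1 lc_j_rc_8_3 lc_j_rc_25_1 lc_j_rc_38_1 lc_j_rc_17_1 lc_j_rc_25_1 lc_j_rc_51_2 lc_j_rc_51_2 lc_j_rc_32_1 lc_j_rc_32_1 lc_j_rc_25_1 lc_j_rc_38_1 lc_j_rc_25_1 lc_j_rc_38_1 lc_j_rc_17_1 lc_j_rc_25_1 lc_j_rc_51_2 lc_j_rc_32_1 lc_j_rc_25_1 lc_j_rc_38_1) (@D3.rec (fun _ => (Cert rels S Gen.j)) lc_j_rc_17_1 lc_j_rc_25_1 lc_j_rc_53_2 lc_j_rc_8_1 lc_j_rc_17_1 lc_j_rc_25_1 lc_j_rc_25_1 lc_j_rc_38_1 lc_j_rc_17_1 lc_j_rc_25_1 lc_j_rc_8_1 lc_j_rc_17_1 lc_j_rc_32_1 lc_j_rc_38_1 lc_j_rc_32_1 lc_j_rc_17_1 lc_j_rc_38_1 lc_j_rc_25_1 lc_j_rc_25_1 lc_j_rc_38_1 lc_j_rc_17_1 lc_j_rc_25_1 lc_j_rc_51_2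 lc_j_rc_8_1 lc_j_rc_17_1 lc_j_rc_32_1 lc_j_rc_38_1 lc_j_rc_45_1 lc_j_rc_32_1 lc_j_rc_25_1 lc_j_rc_32_1 lc_j_rc_8_1 lc_j_rc_17_1 lc_j_rc_51_2 lc_j_rc_45_1 lc_j_rc_25_1 lc_j_rc_49_3 lc_j_rc_38_1 lc_j_rc_32_1 lc_j_rc_45_1 lc_j_rc_8_1 lc_j_rc_17_1 lc_j_rc_51_2 lc_j_rc_32_1 lc_j_rc_51_2 lc_j_rc_8_1 lc_j_rc_17_1 lc_j_rc_17_1 lc_j_rc_53_2 lc_j_rc_25_1 lc_j_rc_49_3) (@D3.rec (fun _ => (Cert rels S Gen.j)) lc_j_rc_17_1 lc_j_rc_8_1 lc_j_rc_32_1 lc_j_rc_25_1 lc_j_rc_17_1 lc_j_rc_25_1 lc_j_rc_45_3 lc_j_rc_25_1 lc_j_rc_25_1 lc_j_rc_52_1 lc_j_rc_45_1 lc_j_rc_25_1 lc_j_rc_25_1 lc_j_rc_17_1 lc_j_rc_53_0 lc_j_rc_25_1 lc_j_rc_53_0 lc_j_rc_25_1 lc_j_rc_32_1 lc_j_rc_25_1 lc_j_rc_53_0 lc_j_rc_17_1 lc_j_rc_25_1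 lc_j_rc_45_1 lc_j_rc_8_1 lc_j_rc_38_1 lc_j_rc_45_1 lc_j_rc_32_1 lc_j_rc_8_1 lc_j_rc_25_1 lc_j_rc_25_1 lc_j_rc_17_1 lc_j_rc_17_1 lc_j_rc_38_3 lc_j_rc_25_1 lc_j_rc_51_2 lc_j_rc_51_2 lc_j_rc_25_1 lc_j_rc_8_1 lc_j_rc_25_1 lc_j_rc_17_1 lc_j_rc_32_1 lc_j_rc_32_1 lc_j_rc_32_1 lc_j_rc_51_0 lc_j_rc_49_3 lc_j_rc_49_3 lc_j_rc_32_1 lc_j_rc_38_1 lc_j_rc_32_1 lc_j_rc_25_1) (@D3.rec (fun _ => (Cert rels S Gen.j)) lc_j_rc_32_1 lc_j_rc_38_1 lc_j_rc_51_2 lc_j_rc_32_1 lc_j_rc_32_1 lc_j_rc_25_1 lc_j_rc_38_1 lc_j_rc_45_1 lc_j_rc_25_1 lc_j_rc_17_1 lc_j_rc_32_1 lc_j_rc_25_1 lc_j_rc_38_1 lc_j_rc_45_1 lc_j_rc_32_1 lc_j_rc_25_1 lc_j_rc_38_1 lc_j_rc_25_1 lc_j_rc_38_1 lc_j_rc_17_1 lc_j_rc_25_1 lc_j_rc_45_1 lc_j_rc_17_1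 lc_j_rc_8_1 lc_j_rc_45_1 lc_j_rc_38_1 lc_j_rc_25_1 lc_j_rc_49_3 lc_j_rc_51_0 lc_j_rc_45_1 lc_j_rc_38_1 lc_j_rc_45_1 lc_j_rc_49_3 lc_j_rc_8_1 lc_j_rc_49_3 lc_j_rc_8_1 lc_j_rc_45_1 lc_j_rc_45_1 lc_j_rc_45_1 lc_j_rc_25_1 lc_j_rc_45_1 lc_j_rc_45_1 lc_j_rc_25_1 lc_j_rc_53_0 lc_j_rc_45_1 lc_j_rc_49_3 lc_j_rc_32_1 lc_j_rc_38_1 lc_j_rc_25_1 lc_j_rc_17_1 lc_j_rc_32_1) (@D3.rec (fun _ => (Cert rels S Gen.j)) lc_j_rc_38_1 lc_j_rc_53_2 lc_j_rc_32_1 lc_j_rc_25_1 lc_j_rc_38_1 lc_j_rc_17_1 lc_j_rc_32_1 lc_j_rc_53_2 lc_j_rc_25_1 lc_j_rc_38_1 lc_j_rc_8_1 lc_j_rc_32_1 lc_j_rc_25_1 lc_j_rc_38_1 lc_j_rc_25_1 lc_j_rc_17_1 lc_j_rc_25_1 lc_j_rc_25_1 lc_j_rc_45_1 lc_j_rc_8_1 lc_j_rc_32_1 lc_j_rc_25_1 lc_j_rc_38_1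 lc_j_rc_45_1 lc_j_rc_25_1 lc_j_rc_38_1 lc_j_rc_17_1 lc_j_rc_32_1 lc_j_rc_25_1 lc_j_rc_38_1 lc_j_rc_53_2 lc_j_rc_32_1 lc_j_rc_32_1 lc_j_rc_25_1 lc_j_rc_38_1 lc_j_rc_25_1 lc_j_rc_38_1 lc_j_rc_17_1 lc_j_rc_25_1 lc_j_rc_45_1 lc_j_rc_38_1 lc_j_rc_17_1 lc_j_rc_8_1 lc_j_rc_8_1 lc_j_rc_25_1 lc_j_rc_51_2 lc_j_rc_53_2 lc_j_rc_25_1 lc_j_rc_51_2 lc_j_rc_38_3 lc_j_rc_25_1) (@D3.rec (fun _ => (Cert rels S Gen.j)) lc_j_rc_38_1 lc_j_rc_17_1 lc_j_rc_25_1 lc_j_rc_45_1 lc_j_rc_32_1 lc_j_rc_25_1 lc_j_rc_38_1 lc_j_rc_25_1 lc_j_rc_38_1 lc_j_rc_17_1 lc_j_rc_25_1 lc_j_rc_45_1 lc_j_rc_32_1 lc_j_rc_25_1 lc_j_rc_38_1 lc_j_rc_17_1 lc_j_rc_25_1 lc_j_rc_8_1 lc_j_rc_17_1 lc_j_rc_25_1 lc_j_rc_25_1 lc_j_rc_17_1 lc_j_rc_8_1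 lc_j_rc_8_1 lc_j_rc_38_1 lc_j_rc_8_1 lc_j_rc_38_1 lc_j_rc_38_1 lc_j_rc_45_1 lc_j_rc_32_1 lc_j_rc_53_2 lc_j_rc_45_1 lc_j_rc_25_1 lc_j_rc_25_1 lc_j_rc_38_3 lc_j_rc_17_3 lc_j_rc_17_3 lc_j_rc_17_1 lc_j_rc_17_1 lc_j_rc_32_1 lc_j_rc_32_1 lc_j_rc_17_1 lc_j_rc_25_1 lc_j_rc_45_1 lc_j_rc_17_1 lc_j_rc_25_1 lc_j_rc_17_1 lc_j_rc_32_1 lc_j_rc_25_1 lc_j_rc_17_1 lc_j_rc_25_1) (@D3.rec (fun _ => (Cert rels S Gen.j)) lc_j_rc_17_1 lc_j_rc_8_3 lc_j_rc_25_1 lc_j_rc_8_3 lc_j_rc_53_0 lc_j_rc_53_0 lc_j_rc_8_1 lc_j_rc_17_1 lc_j_rc_17_1 lc_j_rc_17_1 lc_j_rc_32_1 lc_j_rc_25_1 lc_j_rc_53_2 lc_j_rc_52_1 lc_j_rc_25_1 lc_j_rc_17_1 lc_j_rc_45_1 lc_j_rc_25_1 lc_j_rc_51_0 lc_j_rc_8_1 lc_j_rc_25_1 lc_j_rc_53_2 lc_j_rc_38_1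 lc_j_rc_51_2 lc_j_rc_25_1 lc_j_rc_53_0 lc_j_rc_17_1 lc_j_rc_25_1 lc_j_rc_53_2 lc_j_rc_45_1 lc_j_rc_32_1 lc_j_rc_49_3 lc_j_rc_25_1 lc_j_rc_38_1 lc_j_rc_17_1 lc_j_rc_25_1 lc_j_rc_38_1 lc_j_rc_17_1 lc_j_rc_25_1 lc_j_rc_8_1 lc_j_rc_25_1 lc_j_rc_51_0 lc_j_rc_25_1 lc_j_rc_38_1 lc_j_rc_25_1 lc_j_rc_17_1 lc_j_rc_25_1 lc_j_rc_45_1 lc_j_rc_25_1 lc_j_rc_38_1 lc_j_rc_17_1) (@D3.rec (fun _ => (Cert rels S Gen.j)) lc_j_rc_25_1 lc_j_rc_25_1 lc_j_rc_53_0 lc_j_rc_25_1 lc_j_rc_8_1 lc_j_rc_17_1 lc_j_rc_25_1 lc_j_rc_49_1 lc_j_rc_53_2 lc_j_rc_45_1 lc_j_rc_45_1 lc_j_rc_25_1 lc_j_rc_17_1 lc_j_rc_8_1 lc_j_rc_45_1 lc_j_rc_25_1 lc_j_rc_17_1 lc_j_rc_45_1 lc_j_rc_8_1 lc_j_rc_32_1 lc_j_rc_25_1 lc_j_rc_45_1 lc_j_rc_25_1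 lc_j_rc_38_1 lc_j_rc_17_1 lc_j_rc_32_1 lc_j_rc_25_1 lc_j_rc_32_1 lc_j_rc_25_1 lc_j_rc_25_1 lc_j_rc_38_1 lc_j_rc_17_1 lc_j_rc_25_1 lc_j_rc_17_1 lc_j_rc_8_1 lc_j_rc_8_1 lc_j_rc_25_1 lc_j_rc_25_1 lc_j_rc_38_1 lc_j_rc_17_1 lc_j_rc_25_1 lc_j_rc_38_1 lc_j_rc_17_1 lc_j_rc_17_1 lc_j_rc_25_1 lc_j_rc_8_1 lc_j_rc_8_1 lc_j_rc_38_1 lc_j_rc_25_1 lc_j_rc_51_0 lc_j_rc_51_2) (@D3.rec (fun _ => (Cert rels S Gen.j)) lc_j_rc_17_1 lc_j_rc_8_1 lc_j_rc_25_1 lc_j_rc_25_1 lc_j_rc_38_1 lc_j_rc_17_1 lc_j_rc_25_1 lc_j_rc_17_1 lc_j_rc_8_1 lc_j_rc_25_1 lc_j_rc_25_1 lc_j_rc_17_1 lc_j_rc_25_1 lc_j_rc_38_3 lc_j_rc_8_1 lc_j_rc_8_1 lc_j_rc_38_1 lc_j_rc_17_1 lc_j_rc_25_1 lc_j_rc_17_1 lc_j_rc_25_1 lc_j_rc_8_3 lc_j_rc_25_1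 lc_j_rc_8_3 lc_j_rc_45_1 lc_j_rc_25_1 lc_j_rc_25_3 lc_j_rc_32_1 lc_j_rc_25_1 lc_j_rc_25_1 lc_j_rc_38_1 lc_j_rc_17_1 lc_j_rc_25_1 lc_j_rc_25_1 lc_j_rc_17_1 lc_j_rc_8_1 lc_j_rc_25_1 lc_j_rc_32_1 lc_j_rc_51_2 lc_j_rc_25_1 lc_j_rc_25_1 lc_j_rc_45_3 lc_j_rc_17_1 lc_j_rc_17_1 lc_j_rc_32_1 lc_j_rc_51_2 lc_j_rc_25_1 lc_j_rc_53_0 lc_j_rc_25_1 lc_j_rc_17_1 lc_j_rc_32_1) (@D3.rec (fun _ => (Cert rels S Gen.j)) lc_j_rc_25_1 lc_j_rc_38_1 lc_j_rc_45_1 lc_j_rc_25_1 lc_j_rc_8_1 lc_j_rc_25_1 lc_j_rc_17_1 lc_j_rc_17_3 lc_j_rc_25_1 lc_j_rc_38_1 lc_j_rc_25_1 lc_j_rc_38_1 lc_j_rc_17_1 lc_j_rc_38_3 lc_j_rc_45_3 lc_j_rc_17_1 lc_j_rc_25_1 lc_j_rc_8_1 lc_j_rc_25_1 lc_j_rc_38_1 lc_j_rc_17_1 lc_j_rc_17_1 lc_j_rc_17_1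 lc_j_rc_25_1 lc_j_rc_45_1 lc_j_rc_8_1 lc_j_rc_17_1 lc_j_rc_25_1 lc_j_rc_32_1 lc_j_rc_25_1 lc_j_rc_17_1 lc_j_rc_8_1 lc_j_rc_25_1 lc_j_rc_32_3 lc_j_rc_25_1 lc_j_rc_38_1 lc_j_rc_17_1 lc_j_rc_25_1 lc_j_rc_8_1 lc_j_rc_32_1 lc_j_rc_25_1 lc_j_rc_38_1 lc_j_rc_25_1 lc_j_rc_38_1 lc_j_rc_38_3 lc_j_rc_25_1 lc_j_rc_52_1 lc_j_rc_8_1 lc_j_rc_25_1 lc_j_rc_38_1 lc_j_rc_17_1) (@D3.rec (fun _ => (Cert rels S Gen.j)) lc_j_rc_32_1 lc_j_rc_45_1 lc_j_rc_8_1 lc_j_rc_17_1 lc_j_rc_25_1 lc_j_rc_8_1 lc_j_rc_17_1 lc_j_rc_17_1 lc_j_rc_8_1 lc_j_rc_25_1 lc_j_rc_49_3 lc_j_rc_8_1 lc_j_rc_8_3 lc_j_rc_49_1 lc_j_rc_8_1 lc_j_rc_45_1 lc_j_rc_32_1 lc_j_rc_25_1 lc_j_rc_45_1 lc_j_rc_32_1 lc_j_rc_25_1 lc_j_rc_17_1 lc_j_rc_25_1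 lc_j_rc_25_1 lc_j_rc_51_2 lc_j_rc_17_1 lc_j_rc_17_3 lc_j_rc_45_1 lc_j_rc_25_1 lc_j_rc_17_1 lc_j_rc_25_1 lc_j_rc_25_1 lc_j_rc_53_2 lc_j_rc_17_1 lc_j_rc_38_1 lc_j_rc_17_1 lc_j_rc_45_1 lc_j_rc_32_1 lc_j_rc_25_1 lc_j_rc_45_1 lc_j_rc_45_1 lc_j_rc_25_1 lc_j_rc_8_1 lc_j_rc_49_3 lc_j_rc_17_3 lc_j_rc_17_3 lc_j_rc_51_2 lc_j_rc_32_1 lc_j_rc_17_1 lc_j_rc_17_1 lc_j_rc_17_3) (@D3.rec (fun _ => (Cert rels S Gen.j)) lc_j_rc_51_2 lc_j_rc_8_3 lc_j_rc_8_3 lc_j_rc_32_1 lc_j_rc_25_1 lc_j_rc_49_3 lc_j_rc_51_2 lc_j_rc_32_1 lc_j_rc_38_1 lc_j_rc_38_1 lc_j_rc_32_1 lc_j_rc_25_1 lc_j_rc_49_3 lc_j_rc_32_1 lc_j_rc_25_1 lc_j_rc_38_1 lc_j_rc_45_1 lc_j_rc_25_1 lc_j_rc_38_1 lc_j_rc_17_1 lc_j_rc_45_1 lc_j_rc_32_1 lc_j_rc_25_1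 lc_j_rc_38_1 lc_j_rc_25_1 lc_j_rc_25_1 lc_j_rc_32_1 lc_j_rc_25_1 lc_j_rc_38_1 lc_j_rc_45_1 lc_j_rc_32_1 lc_j_rc_25_1 lc_j_rc_38_1 lc_j_rc_17_1 lc_j_rc_25_1 lc_j_rc_49_3 lc_j_rc_25_1 lc_j_rc_51_0 lc_j_rc_8_1 lc_j_rc_32_1 lc_j_rc_32_1 lc_j_rc_25_1 lc_j_rc_38_1 lc_j_rc_25_1 lc_j_rc_38_1 lc_j_rc_17_1 lc_j_rc_25_1 lc_j_rc_45_1 lc_j_rc_25_1 lc_j_rc_17_1 lc_j_rc_25_1) (@D3.rec (fun _ => (Cert rels S Gen.j)) lc_j_rc_8_1 lc_j_rc_25_1 lc_j_rc_38_1 lc_j_rc_45_1 lc_j_rc_32_3 lc_j_rc_49_3 lc_j_rc_38_1 lc_j_rc_25_1 lc_j_rc_25_1 lc_j_rc_45_1 lc_j_rc_32_1 lc_j_rc_49_3 lc_j_rc_51_0 lc_j_rc_17_1 lc_j_rc_8_3 lc_j_rc_25_1 lc_j_rc_53_2 lc_j_rc_49_3 lc_j_rc_38_1 lc_j_rc_45_1 lc_j_rc_32_1 lc_j_rc_25_1 lc_j_rc_25_1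 lc_j_rc_32_1 lc_j_rc_8_1 lc_j_rc_17_1 lc_j_rc_32_1 lc_j_rc_38_1 lc_j_rc_25_1 lc_j_rc_32_1 lc_j_rc_25_1 lc_j_rc_38_1 lc_j_rc_25_1 lc_j_rc_38_1 lc_j_rc_17_1 lc_j_rc_51_2 lc_j_rc_25_1 lc_j_rc_25_1 lc_j_rc_51_2 lc_j_rc_25_1 lc_j_rc_38_1 lc_j_rc_25_1 lc_j_rc_38_1 lc_j_rc_17_1 lc_j_rc_32_1 lc_j_rc_25_1 lc_j_rc_17_1 lc_j_rc_45_1 lc_j_rc_25_1 lc_j_rc_32_1 lc_j_rc_25_1) (@D3.rec (fun _ => (Cert rels S Gen.j)) lc_j_rc_38_1 lc_j_rc_17_1 lc_j_rc_25_1 lc_j_rc_8_1 lc_j_rc_38_1 lc_j_rc_17_1 lc_j_rc_32_1 lc_j_rc_51_2 lc_j_rc_51_2 lc_j_rc_32_1 lc_j_rc_38_1 lc_j_rc_25_1 lc_j_rc_32_1 lc_j_rc_25_1 lc_j_rc_17_1 lc_j_rc_38_3 lc_j_rc_32_1 lc_j_rc_25_1 lc_j_rc_38_1 lc_j_rc_32_1 lc_j_rc_32_1 lc_j_rc_25_1 lc_j_rc_38_1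 lc_j_rc_45_1 lc_j_rc_25_1 lc_j_rc_38_1 lc_j_rc_17_1 lc_j_rc_25_1 lc_j_rc_45_1 lc_j_rc_25_1 lc_j_rc_32_1 lc_j_rc_38_1 lc_j_rc_32_1 lc_j_rc_25_1 lc_j_rc_38_1 lc_j_rc_45_1 lc_j_rc_32_1 lc_j_rc_25_1 lc_j_rc_38_1 lc_j_rc_17_1 lc_j_rc_32_1 lc_j_rc_25_1 lc_j_rc_38_1 lc_j_rc_38_1 lc_j_rc_51_2 lc_j_rc_25_1 lc_j_rc_38_1 lc_j_rc_25_1 lc_j_rc_17_1 lc_j_rc_25_1 lc_j_rc_45_1) (@D3.rec (fun _ => (Cert rels S Gen.j)) lc_j_rc_32_1 lc_j_rc_25_1 lc_j_rc_38_1 lc_j_rc_17_1 lc_j_rc_25_1 lc_j_rc_8_1 lc_j_rc_49_3 lc_j_rc_25_1 lc_j_rc_38_1 lc_j_rc_32_1 lc_j_rc_51_2 lc_j_rc_32_1 lc_j_rc_25_1 lc_j_rc_38_1 lc_j_rc_17_1 lc_j_rc_8_1 lc_j_rc_8_1 lc_j_rc_25_1 lc_j_rc_38_1 lc_j_rc_45_1 lc_j_rc_17_1 lc_j_rc_25_1 lc_j_rc_45_1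 lc_j_rc_17_1 lc_j_rc_32_1 lc_j_rc_25_1 lc_j_rc_38_1 lc_j_rc_17_1 lc_j_rc_25_1 lc_j_rc_8_1 lc_j_rc_38_3 lc_j_rc_25_1 lc_j_rc_8_1 lc_j_rc_45_1 lc_j_rc_25_1 lc_j_rc_51_2 lc_j_rc_25_1 lc_j_rc_17_1 lc_j_rc_25_1 lc_j_rc_45_1 lc_j_rc_25_1 lc_j_rc_53_2 lc_j_rc_51_2 lc_j_rc_25_1 lc_j_rc_51_2 lc_j_rc_32_1 lc_j_rc_25_1 lc_j_rc_45_1 lc_j_rc_8_1 lc_j_rc_17_1 lc_j_rc_25_1) (@D3.rec (fun _ => (Cert rels S Gen.j)) lc_j_rc_17_1 lc_j_rc_25_1 lc_j_rc_38_1 lc_j_rc_17_1 lc_j_rc_25_1 lc_j_rc_8_1 lc_j_rc_17_1 lc_j_rc_32_1 lc_j_rc_38_1 lc_j_rc_8_3 lc_j_rc_17_1 lc_j_rc_32_1 lc_j_rc_17_1 lc_j_rc_8_3 lc_j_rc_8_3 lc_j_rc_45_1 lc_j_rc_8_3 lc_j_rc_32_1 lc_j_rc_25_1 lc_j_rc_32_1 lc_j_rc_32_1 lc_j_rc_45_1 lc_j_rc_32_1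 lc_j_rc_25_1 lc_j_rc_53_2 lc_j_rc_32_1 lc_j_rc_25_1 lc_j_rc_25_1 lc_j_rc_17_1 lc_j_rc_32_1 lc_j_rc_17_3 lc_j_rc_17_1 lc_j_rc_17_3 lc_j_rc_17_3 lc_j_rc_17_3 lc_j_rc_25_1 lc_j_rc_17_1 lc_j_rc_25_1 lc_j_rc_25_1 lc_j_rc_32_1 lc_j_rc_45_3 lc_j_rc_45_1 lc_j_rc_38_3 lc_j_rc_17_3 lc_j_rc_49_3 lc_j_rc_53_2 lc_j_rc_38_3 lc_j_rc_17_3 lc_j_rc_17_1 lc_j_rc_38_1 lc_j_rc_49_1) (@D3.rec (fun _ => (Cert rels S Gen.j)) lc_j_rc_25_1 lc_j_rc_17_1 lc_j_rc_32_1 lc_j_rc_49_3 lc_j_rc_25_1 lc_j_rc_17_1 lc_j_rc_45_1 lc_j_rc_25_1 lc_j_rc_8_1 lc_j_rc_25_1 lc_j_rc_51_2 lc_j_rc_32_1 lc_j_rc_25_1 lc_j_rc_8_1 lc_j_rc_51_0 lc_j_rc_32_1 lc_j_rc_25_1 lc_j_rc_25_3 lc_j_rc_17_1 lc_j_rc_8_1 lc_j_rc_25_1 lc_j_rc_53_2 lc_j_rc_17_1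 lc_j_rc_32_1 lc_j_rc_25_1 lc_j_rc_53_2 lc_j_rc_53_2 lc_j_rc_53_2 lc_j_rc_32_1 lc_j_rc_25_1 lc_j_rc_32_1 lc_j_rc_25_1 lc_j_rc_32_1 lc_j_rc_49_3 lc_j_rc_17_1 lc_j_rc_32_1 lc_j_rc_25_1 lc_j_rc_53_2 lc_j_rc_17_3 lc_j_rc_25_1 lc_j_rc_17_1 lc_j_rc_17_1 lc_j_rc_25_1 lc_j_rc_25_1 lc_j_rc_25_1 lc_j_rc_32_1 lc_j_rc_25_1 lc_j_rc_17_1 lc_j_rc_32_1 lc_j_rc_49_3 lc_j_rc_53_2) (@D3.rec (fun _ => (Cert rels S Gen.j)) lc_j_rc_8_1 lc_j_rc_32_1 lc_j_rc_53_2 lc_j_rc_17_1 lc_j_rc_25_1 lc_j_rc_51_0 lc_j_rc_17_1 lc_j_rc_25_1 lc_j_rc_8_1 lc_j_rc_45_1 lc_j_rc_8_1 lc_j_rc_51_0 lc_j_rc_45_1 lc_j_rc_51_2 lc_j_rc_51_2 lc_j_rc_32_1 lc_j_rc_32_1 lc_j_rc_25_1 lc_j_rc_49_3 lc_j_rc_38_3 lc_j_rc_17_1 lc_j_rc_17_1 lc_j_rc_32_1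 lc_j_rc_32_1 lc_j_rc_25_1 lc_j_rc_8_3 lc_j_rc_8_3 lc_j_rc_25_1 lc_j_rc_38_1 lc_j_rc_17_1 lc_j_rc_25_1 lc_j_rc_53_2 lc_j_rc_32_1 lc_j_rc_25_1 lc_j_rc_38_1 lc_j_rc_25_1 lc_j_rc_38_1 lc_j_rc_17_1 lc_j_rc_32_1 lc_j_rc_32_1 lc_j_rc_17_1 lc_j_rc_25_1 lc_j_rc_32_1 lc_j_rc_25_1 lc_j_rc_38_1 lc_j_rc_32_1 lc_j_rc_8_1 lc_j_rc_17_1 lc_j_rc_25_1 lc_j_rc_53_2 lc_j_rc_25_1) (@D3.rec (fun _ => (Cert rels S Gen.j)) lc_j_rc_53_2 lc_j_rc_17_1 lc_j_rc_25_1 lc_j_rc_8_1 lc_j_rc_53_2 lc_j_rc_25_1 lc_j_rc_38_1 lc_j_rc_17_1 lc_j_rc_53_2 lc_j_rc_32_1 lc_j_rc_32_1 lc_j_rc_25_1 lc_j_rc_38_1 lc_j_rc_25_1 lc_j_rc_38_1 lc_j_rc_17_1 lc_j_rc_25_1 lc_j_rc_17_1 lc_j_rc_25_1 lc_j_rc_8_1 lc_j_rc_17_1 lc_j_rc_38_3 lc_j_rc_17_1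 lc_j_rc_32_1 lc_j_rc_25_1 lc_j_rc_17_1 lc_j_rc_25_1 lc_j_rc_17_1 lc_j_rc_8_3 lc_j_rc_25_1 lc_j_rc_8_3 lc_j_rc_32_1 lc_j_rc_25_1 lc_j_rc_38_1 lc_j_rc_25_1 lc_j_rc_38_1 lc_j_rc_17_1 lc_j_rc_25_1 lc_j_rc_45_1 lc_j_rc_38_3 lc_j_rc_53_2 lc_j_rc_17_1 lc_j_rc_25_1 lc_j_rc_8_3 lc_j_rc_8_1 lc_j_rc_17_1 lc_j_rc_25_1 lc_j_rc_51_0 lc_j_rc_25_1 lc_j_rc_17_1 lc_j_rc_25_1) (@D3.rec (fun _ => (Cert rels S Gen.j)) lc_j_rc_8_1 lc_j_rc_17_1 lc_j_rc_25_1 lc_j_rc_17_1 lc_j_rc_53_2 lc_j_rc_45_1 lc_j_rc_17_1 lc_j_rc_45_1 lc_j_rc_51_2 lc_j_rc_8_3 lc_j_rc_38_1 lc_j_rc_17_1 lc_j_rc_53_2 lc_j_rc_53_2 lc_j_rc_49_3 lc_j_rc_17_1 lc_j_rc_25_1 lc_j_rc_25_1 lc_j_rc_45_3 lc_j_rc_17_1 lc_j_rc_25_1 lc_j_rc_17_1 lc_j_rc_45_1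 lc_j_rc_25_1 lc_j_rc_8_1 lc_j_rc_32_1 lc_j_rc_25_1 lc_j_rc_25_1 lc_j_rc_17_3 lc_j_rc_25_1 lc_j_rc_25_1 lc_j_rc_38_1 lc_j_rc_17_1 lc_j_rc_17_1 lc_j_rc_25_1 lc_j_rc_25_1 lc_j_rc_38_1 lc_j_rc_17_1 lc_j_rc_17_1 lc_j_rc_25_1 lc_j_rc_8_1 lc_j_rc_25_1 lc_j_rc_25_1 lc_j_rc_38_1 lc_j_rc_17_1 lc_j_rc_17_1 lc_j_rc_17_1 lc_j_rc_25_1 lc_j_rc_8_1 lc_j_rc_45_3 lc_j_rc_45_1) (@D3.rec (fun _ => (Cert rels S Gen.j)) lc_j_rc_25_3 lc_j_rc_8_1 lc_j_rc_25_1 lc_j_rc_38_1 lc_j_rc_17_1 lc_j_rc_25_1 lc_j_rc_8_1 lc_j_rc_17_1 lc_j_rc_25_1 lc_j_rc_8_1 lc_j_rc_8_1 lc_j_rc_25_1 lc_j_rc_17_1 lc_j_rc_25_1 lc_j_rc_25_1 lc_j_rc_38_1 lc_j_rc_17_1 lc_j_rc_25_1 lc_j_rc_38_1 lc_j_rc_17_1 lc_j_rc_25_1 lc_j_rc_8_1 lc_j_rc_32_1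 lc_j_rc_25_1 lc_j_rc_51_2 lc_j_rc_25_1 lc_j_rc_51_2 lc_j_rc_51_2 lc_j_rc_25_1 lc_j_rc_38_1 lc_j_rc_17_1 lc_j_rc_8_1 lc_j_rc_25_1 lc_j_rc_32_1 lc_j_rc_25_1 lc_j_rc_38_1 lc_j_rc_17_1 lc_j_rc_17_1 lc_j_rc_25_1 lc_j_rc_8_1 lc_j_rc_49_3 lc_j_rc_38_1 lc_j_rc_25_1 lc_j_rc_32_1 lc_j_rc_45_1 lc_j_rc_25_1 lc_j_rc_25_1 lc_j_rc_38_1 lc_j_rc_17_1 lc_j_rc_32_1 lc_j_rc_25_1) (@D3.rec (fun _ => (Cert rels S Gen.j)) lc_j_rc_17_1 lc_j_rc_25_1 lc_j_rc_38_1 lc_j_rc_17_1 lc_j_rc_25_1 lc_j_rc_32_1 lc_j_rc_17_1 lc_j_rc_25_1 lc_j_rc_8_1 lc_j_rc_8_3 lc_j_rc_25_1 lc_j_rc_38_3 lc_j_rc_51_2 lc_j_rc_25_1 lc_j_rc_38_1 lc_j_rc_25_1 lc_j_rc_17_1 lc_j_rc_17_1 lc_j_rc_25_1 lc_j_rc_8_1 lc_j_rc_8_1 lc_j_rc_17_1 lc_j_rc_32_1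 lc_j_rc_25_1 lc_j_rc_17_1 lc_j_rc_25_1 lc_j_rc_49_3 lc_j_rc_45_1 lc_j_rc_32_1 lc_j_rc_32_1 lc_j_rc_32_1 lc_j_rc_32_1 lc_j_rc_17_3 lc_j_rc_25_1 lc_j_rc_32_1 lc_j_rc_32_1 lc_j_rc_25_1 lc_j_rc_49_3 lc_j_rc_25_1 lc_j_rc_38_1 lc_j_rc_17_1 lc_j_rc_32_1 lc_j_rc_8_1 lc_j_rc_49_1 lc_j_rc_17_1 lc_j_rc_32_1 lc_j_rc_25_1 lc_j_rc_17_1 lc_j_rc_25_1 lc_j_rc_17_1 lc_j_rc_8_1)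
def ce_j_19 : D2 → D3 → (Cert rels S Gen.j) := @D2.rec (fun _ => D3 → (Cert rels S Gen.j)) (@D3.rec (fun _ => (Cert rels S Gen.j)) lc_j_rc_8_1 lc_j_rc_25_1 lc_j_rc_8_3 lc_j_rc_25_1 lc_j_rc_38_1 lc_j_rc_17_1 lc_j_rc_25_1 lc_j_rc_8_3 lc_j_rc_38_3 lc_j_rc_25_1 lc_j_rc_8_3 lc_j_rc_17_1 lc_j_rc_25_1 lc_j_rc_8_1 lc_j_rc_25_1 lc_j_rc_17_1 lc_j_rc_25_1 lc_j_rc_38_1 lc_j_rc_17_1 lc_j_rc_25_1 lc_j_rc_17_1 lc_j_rc_25_1 lc_j_rc_17_1 lc_j_rc_32_1 lc_j_rc_25_1 lc_j_rc_38_1 lc_j_rc_17_1 lc_j_rc_25_1 lc_j_rc_8_1 lc_j_rc_25_1 lc_j_rc_17_1 lc_j_rc_38_1 lc_j_rc_25_1 lc_j_rc_25_1 lc_j_rc_51_2 lc_j_rc_25_1 lc_j_rc_17_1 lc_j_rc_25_1 lc_j_rc_8_1 lc_j_rc_25_1 lc_j_rc_38_1 lc_j_rc_17_1 lc_j_rc_25_1 lc_j_rc_8_1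 lc_j_rc_17_1 lc_j_rc_32_1 lc_j_rc_25_1 lc_j_rc_38_1 lc_j_rc_17_1 lc_j_rc_25_1 lc_j_rc_53_2) (@D3.rec (fun _ => (Cert rels S Gen.j)) lc_j_rc_17_1 lc_j_rc_32_1 lc_j_rc_25_1 lc_j_rc_32_1 lc_j_rc_17_1 lc_j_rc_51_2 lc_j_rc_25_1 lc_j_rc_25_1 lc_j_rc_53_2 lc_j_rc_25_1 lc_j_rc_38_1 lc_j_rc_17_1 lc_j_rc_25_1 lc_j_rc_45_1 lc_j_rc_25_1 lc_j_rc_49_3 lc_j_rc_17_1 lc_j_rc_25_1 lc_j_rc_8_1 lc_j_rc_25_1 lc_j_rc_25_1 lc_j_rc_38_1 lc_j_rc_17_1 lc_j_rc_53_2 lc_j_rc_32_1 lc_j_rc_25_1 lc_j_rc_38_1 lc_j_rc_25_1 lc_j_rc_17_1 lc_j_rc_32_1 lc_j_rc_25_1 lc_j_rc_38_1 lc_j_rc_17_1 lc_j_rc_25_1 lc_j_rc_8_1 lc_j_rc_17_1 lc_j_rc_25_1 lc_j_rc_38_1 lc_j_rc_17_1 lc_j_rc_25_1 lc_j_rc_45_1 lc_j_rc_8_1 lc_j_rc_17_1 lc_j_rc_32_1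 lc_j_rc_17_1 lc_j_rc_32_1 lc_j_rc_25_1 lc_j_rc_51_2 lc_j_rc_49_3 lc_j_rc_25_1 lc_j_rc_17_1) (@D3.rec (fun _ => (Cert rels S Gen.j)) lc_j_rc_25_1 lc_j_rc_8_1 lc_j_rc_49_3 lc_j_rc_32_1 lc_j_rc_51_0 lc_j_rc_25_1 lc_j_rc_38_1 lc_j_rc_25_1 lc_j_rc_51_2 lc_j_rc_17_1 lc_j_rc_25_1 lc_j_rc_53_2 lc_j_rc_17_1 lc_j_rc_25_1 lc_j_rc_8_1 lc_j_rc_53_0 lc_j_rc_25_1 lc_j_rc_25_1 lc_j_rc_25_1 lc_j_rc_38_1 lc_j_rc_17_1 lc_j_rc_25_1 lc_j_rc_45_1 lc_j_rc_8_1 lc_j_rc_17_1 lc_j_rc_32_1 lc_j_rc_25_1 lc_j_rc_8_1 lc_j_rc_32_3 lc_j_rc_17_1 lc_j_rc_25_1 lc_j_rc_8_1 lc_j_rc_17_1 lc_j_rc_32_1 lc_j_rc_8_1 lc_j_rc_17_1 lc_j_rc_51_2 lc_j_rc_38_1 lc_j_rc_17_1 lc_j_rc_45_1 lc_j_rc_32_1 lc_j_rc_25_1 lc_j_rc_25_1 lc_j_rc_38_1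 lc_j_rc_32_1 lc_j_rc_8_1 lc_j_rc_17_1 lc_j_rc_51_2 lc_j_rc_45_1 lc_j_rc_51_2 lc_j_rc_32_1) (@D3.rec (fun _ => (Cert rels S Gen.j)) lc_j_rc_51_2 lc_j_rc_8_1 lc_j_rc_25_1 lc_j_rc_17_1 lc_j_rc_53_2 lc_j_rc_49_3 lc_j_rc_32_1 lc_j_rc_17_1 lc_j_rc_25_1 lc_j_rc_8_1 lc_j_rc_17_1 lc_j_rc_53_2 lc_j_rc_53_2 lc_j_rc_45_1 lc_j_rc_8_1 lc_j_rc_49_3 lc_j_rc_53_2 lc_j_rc_8_1 lc_j_rc_8_1 lc_j_rc_45_1 lc_j_rc_51_0 lc_j_rc_45_3 lc_j_rc_45_3 lc_j_rc_51_2 lc_j_rc_51_2 lc_j_rc_45_1 lc_j_rc_49_3 lc_j_rc_17_1 lc_j_rc_8_1 lc_j_rc_25_1 lc_j_rc_53_0 lc_j_rc_8_3 lc_j_rc_25_1 lc_j_rc_53_0 lc_j_rc_49_3 lc_j_rc_38_3 lc_j_rc_53_2 lc_j_rc_17_1 lc_j_rc_25_1 lc_j_rc_8_1 lc_j_rc_49_3 lc_j_rc_45_1 lc_j_rc_8_1 lc_j_rc_8_1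 lc_j_rc_17_1 lc_j_rc_17_1 lc_j_rc_8_1 lc_j_rc_8_1 lc_j_rc_25_1 lc_j_rc_8_3 lc_j_rc_25_1) (@D3.rec (fun _ => (Cert rels S Gen.j)) lc_j_rc_51_2 lc_j_rc_51_2 lc_j_rc_17_1 lc_j_rc_8_1 lc_j_rc_8_3 lc_j_rc_8_3 lc_j_rc_17_1 lc_j_rc_8_3 lc_j_rc_17_3 lc_j_rc_32_1 lc_j_rc_49_3 lc_j_rc_25_1 lc_j_rc_38_1 lc_j_rc_45_1 lc_j_rc_25_1 lc_j_rc_38_1 lc_j_rc_17_1 lc_j_rc_25_1 lc_j_rc_38_1 lc_j_rc_45_1 lc_j_rc_32_1 lc_j_rc_25_1 lc_j_rc_38_1 lc_j_rc_25_1 lc_j_rc_38_1 lc_j_rc_17_1 lc_j_rc_25_1 lc_j_rc_45_1 lc_j_rc_38_1 lc_j_rc_17_1 lc_j_rc_8_1 lc_j_rc_32_3 lc_j_rc_38_1 lc_j_rc_17_1 lc_j_rc_25_1 lc_j_rc_45_1 lc_j_rc_25_1 lc_j_rc_38_1 lc_j_rc_17_1 lc_j_rc_25_1 lc_j_rc_45_1 lc_j_rc_17_1 lc_j_rc_25_1 lc_j_rc_8_1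 lc_j_rc_17_1 lc_j_rc_25_1 lc_j_rc_8_1 lc_j_rc_45_1 lc_j_rc_32_1 lc_j_rc_53_2 lc_j_rc_49_3) (@D3.rec (fun _ => (Cert rels S Gen.j)) lc_j_rc_25_1 lc_j_rc_45_1 lc_j_rc_25_1 lc_j_rc_25_1 lc_j_rc_53_0 lc_j_rc_32_1 lc_j_rc_25_1 lc_j_rc_17_1 lc_j_rc_49_3 lc_j_rc_25_1 lc_j_rc_38_1 lc_j_rc_45_1 lc_j_rc_17_1 lc_j_rc_32_1 lc_j_rc_25_1 lc_j_rc_38_1 lc_j_rc_32_1 lc_j_rc_25_1 lc_j_rc_38_1 lc_j_rc_17_1 lc_j_rc_25_1 lc_j_rc_8_1 lc_j_rc_25_1 lc_j_rc_38_1 lc_j_rc_25_1 lc_j_rc_17_1 lc_j_rc_25_1 lc_j_rc_25_1 lc_j_rc_25_1 lc_j_rc_38_1 lc_j_rc_17_1 lc_j_rc_25_1 lc_j_rc_32_1 lc_j_rc_8_1 lc_j_rc_17_1 lc_j_rc_49_3 lc_j_rc_25_1 lc_j_rc_25_1 lc_j_rc_38_1 lc_j_rc_49_3 lc_j_rc_25_1 lc_j_rc_45_1 lc_j_rc_17_1 lc_j_rc_25_1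 lc_j_rc_8_1 lc_j_rc_25_1 lc_j_rc_38_1 lc_j_rc_17_1 lc_j_rc_25_1 lc_j_rc_32_1 lc_j_rc_25_1) (@D3.rec (fun _ => (Cert rels S Gen.j)) lc_j_rc_38_1 lc_j_rc_25_1 lc_j_rc_38_1 lc_j_rc_17_1 lc_j_rc_25_1 lc_j_rc_45_1 lc_j_rc_17_1 lc_j_rc_25_1 lc_j_rc_8_1 lc_j_rc_17_1 lc_j_rc_25_1 lc_j_rc_32_1 lc_j_rc_8_1 lc_j_rc_25_1 lc_j_rc_32_3 lc_j_rc_51_2 lc_j_rc_25_1 lc_j_rc_32_3 lc_j_rc_25_1 lc_j_rc_53_2 lc_j_rc_52_1 lc_j_rc_25_1 lc_j_rc_25_1 lc_j_rc_17_1 lc_j_rc_25_1 lc_j_rc_8_1 lc_j_rc_17_1 lc_j_rc_25_1 lc_j_rc_45_3 lc_j_rc_25_1 lc_j_rc_38_1 lc_j_rc_17_1 lc_j_rc_25_1 lc_j_rc_17_1 lc_j_rc_25_1 lc_j_rc_45_1 lc_j_rc_8_1 lc_j_rc_17_1 lc_j_rc_25_1 lc_j_rc_25_1 lc_j_rc_38_1 lc_j_rc_17_1 lc_j_rc_25_1 lc_j_rc_8_1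 lc_j_rc_17_1 lc_j_rc_8_1 lc_j_rc_17_1 lc_j_rc_17_1 lc_j_rc_8_1 lc_j_rc_8_1 lc_j_rc_45_1) (@D3.rec (fun _ => (Cert rels S Gen.j)) lc_j_rc_25_1 lc_j_rc_53_2 lc_j_rc_17_1 lc_j_rc_8_3 lc_j_rc_25_1 lc_j_rc_51_0 lc_j_rc_8_1 lc_j_rc_32_1 lc_j_rc_32_1 lc_j_rc_38_1 lc_j_rc_8_3 lc_j_rc_25_1 lc_j_rc_8_3 lc_j_rc_45_1 lc_j_rc_8_1 lc_j_rc_32_1 lc_j_rc_25_1 lc_j_rc_17_1 lc_j_rc_38_3 lc_j_rc_17_1 lc_j_rc_8_3 lc_j_rc_25_1 lc_j_rc_8_3 lc_j_rc_8_3 lc_j_rc_25_1 lc_j_rc_53_2 lc_j_rc_51_0 lc_j_rc_8_3 lc_j_rc_25_1 lc_j_rc_8_1 lc_j_rc_45_1 lc_j_rc_17_1 lc_j_rc_38_3 lc_j_rc_45_1 lc_j_rc_53_2 lc_j_rc_25_1 lc_j_rc_51_0 lc_j_rc_17_1 lc_j_rc_8_1 lc_j_rc_45_1 lc_j_rc_45_3 lc_j_rc_25_1 lc_j_rc_17_1 lc_j_rc_25_1 lc_j_rc_25_1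 lc_j_rc_51_2 lc_j_rc_17_1 lc_j_rc_25_1 lc_j_rc_17_3 lc_j_rc_17_1 lc_j_rc_25_1) (@D3.rec (fun _ => (Cert rels S Gen.j)) lc_j_rc_17_1 lc_j_rc_25_1 lc_j_rc_17_1 lc_j_rc_25_1 lc_j_rc_8_1 lc_j_rc_17_1 lc_j_rc_25_1 lc_j_rc_8_1 lc_j_rc_17_1 lc_j_rc_17_1 lc_j_rc_25_1 lc_j_rc_8_3 lc_j_rc_25_1 lc_j_rc_8_3 lc_j_rc_8_1 lc_j_rc_17_1 lc_j_rc_25_1 lc_j_rc_17_1 lc_j_rc_25_1 lc_j_rc_17_1 lc_j_rc_8_3 lc_j_rc_17_1 lc_j_rc_17_1 lc_j_rc_53_0 lc_j_rc_8_1 lc_j_rc_8_3 lc_j_rc_25_1 lc_j_rc_45_3 lc_j_rc_25_1 lc_j_rc_38_1 lc_j_rc_17_1 lc_j_rc_8_1 lc_j_rc_25_1 lc_j_rc_17_1 lc_j_rc_8_1 lc_j_rc_25_3 lc_j_rc_32_1 lc_j_rc_38_1 lc_j_rc_17_1 lc_j_rc_25_1 lc_j_rc_17_1 lc_j_rc_17_1 lc_j_rc_25_1 lc_j_rc_8_1 lc_j_rc_25_1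 lc_j_rc_38_1 lc_j_rc_17_1 lc_j_rc_25_1 lc_j_rc_38_1 lc_j_rc_17_1 lc_j_rc_17_1) (@D3.rec (fun _ => (Cert rels S Gen.j)) lc_j_rc_25_1 lc_j_rc_8_1 lc_j_rc_17_1 lc_j_rc_8_1 lc_j_rc_25_1 lc_j_rc_38_1 lc_j_rc_49_3 lc_j_rc_17_1 lc_j_rc_25_1 lc_j_rc_8_1 lc_j_rc_17_1 lc_j_rc_25_1 lc_j_rc_8_1 lc_j_rc_8_1 lc_j_rc_17_1 lc_j_rc_45_1 lc_j_rc_25_1 lc_j_rc_25_1 lc_j_rc_8_1 lc_j_rc_17_1 lc_j_rc_17_1 lc_j_rc_25_1 lc_j_rc_8_1 lc_j_rc_17_1 lc_j_rc_8_1 lc_j_rc_8_3 lc_j_rc_53_0 lc_j_rc_8_1 lc_j_rc_51_0 lc_j_rc_45_1 lc_j_rc_25_1 lc_j_rc_38_1 lc_j_rc_25_1 lc_j_rc_17_1 lc_j_rc_38_3 lc_j_rc_25_1 lc_j_rc_17_1 lc_j_rc_25_1 lc_j_rc_8_3 lc_j_rc_32_3 lc_j_rc_25_1 lc_j_rc_32_1 lc_j_rc_38_1 lc_j_rc_25_1 lc_j_rc_38_1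 lc_j_rc_17_1 lc_j_rc_17_1 lc_j_rc_25_1 lc_j_rc_8_1 lc_j_rc_17_1 lc_j_rc_17_1) (@D3.rec (fun _ => (Cert rels S Gen.j)) lc_j_rc_8_1 lc_j_rc_51_0 lc_j_rc_32_1 lc_j_rc_49_1 lc_j_rc_25_1 lc_j_rc_51_2 lc_j_rc_51_2 lc_j_rc_45_1 lc_j_rc_25_1 lc_j_rc_8_1 lc_j_rc_8_1 lc_j_rc_32_3 lc_j_rc_38_1 lc_j_rc_25_1 lc_j_rc_51_2 lc_j_rc_32_1 lc_j_rc_25_1 lc_j_rc_51_2 lc_j_rc_8_1 lc_j_rc_25_1 lc_j_rc_38_1 lc_j_rc_17_1 lc_j_rc_25_1 lc_j_rc_32_1 lc_j_rc_32_1 lc_j_rc_32_3 lc_j_rc_17_1 lc_j_rc_8_1 lc_j_rc_17_1 lc_j_rc_25_1 lc_j_rc_8_1 lc_j_rc_17_1 lc_j_rc_25_1 lc_j_rc_8_1 lc_j_rc_17_1 lc_j_rc_32_1 lc_j_rc_17_1 lc_j_rc_25_1 lc_j_rc_8_1 lc_j_rc_8_1 lc_j_rc_8_1 lc_j_rc_17_1 lc_j_rc_25_1 lc_j_rc_32_1 lc_j_rc_8_1 lc_j_rc_17_1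 lc_j_rc_25_1 lc_j_rc_17_1 lc_j_rc_8_1 lc_j_rc_49_3 lc_j_rc_51_2) (@D3.rec (fun _ => (Cert rels S Gen.j)) lc_j_rc_51_0 lc_j_rc_32_3 lc_j_rc_8_1 lc_j_rc_17_1 lc_j_rc_32_1 lc_j_rc_25_1 lc_j_rc_8_1 lc_j_rc_49_3 lc_j_rc_25_1 lc_j_rc_45_1 lc_j_rc_45_1 lc_j_rc_25_1 lc_j_rc_45_1 lc_j_rc_51_2 lc_j_rc_32_1 lc_j_rc_38_1 lc_j_rc_17_1 lc_j_rc_45_1 lc_j_rc_8_1 lc_j_rc_52_1 lc_j_rc_8_1 lc_j_rc_17_1 lc_j_rc_8_1 lc_j_rc_8_1 lc_j_rc_8_1 lc_j_rc_32_1 lc_j_rc_53_2 lc_j_rc_53_2 lc_j_rc_25_1 lc_j_rc_17_1 lc_j_rc_25_1 lc_j_rc_49_3 lc_j_rc_17_1 lc_j_rc_25_1 lc_j_rc_8_1 lc_j_rc_51_0 lc_j_rc_17_3 lc_j_rc_8_3 lc_j_rc_53_2 lc_j_rc_17_1 lc_j_rc_53_2 lc_j_rc_25_1 lc_j_rc_8_1 lc_j_rc_8_1 lc_j_rc_45_1 lc_j_rc_25_1 lc_j_rc_17_1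 lc_j_rc_25_1 lc_j_rc_45_1 lc_j_rc_51_2 lc_j_rc_25_1) (@D3.rec (fun _ => (Cert rels S Gen.j)) lc_j_rc_8_1 lc_j_rc_17_3 lc_j_rc_25_1 lc_j_rc_32_1 lc_j_rc_25_1 lc_j_rc_32_1 lc_j_rc_25_1 lc_j_rc_17_1 lc_j_rc_32_1 lc_j_rc_51_2 lc_j_rc_32_1 lc_j_rc_32_1 lc_j_rc_8_3 lc_j_rc_25_1 lc_j_rc_38_1 lc_j_rc_17_1 lc_j_rc_25_1 lc_j_rc_32_1 lc_j_rc_25_1 lc_j_rc_38_1 lc_j_rc_45_1 lc_j_rc_32_1 lc_j_rc_25_1 lc_j_rc_38_1 lc_j_rc_17_1 lc_j_rc_49_3 lc_j_rc_25_1 lc_j_rc_38_1 lc_j_rc_17_1 lc_j_rc_25_1 lc_j_rc_45_1 lc_j_rc_17_1 lc_j_rc_25_1 lc_j_rc_8_1 lc_j_rc_38_3 lc_j_rc_49_3 lc_j_rc_38_1 lc_j_rc_25_1 lc_j_rc_32_1 lc_j_rc_49_3 lc_j_rc_25_1 lc_j_rc_38_1 lc_j_rc_17_1 lc_j_rc_25_1 lc_j_rc_45_1 lc_j_rc_25_1 lc_j_rc_25_1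 lc_j_rc_32_1 lc_j_rc_17_1 lc_j_rc_25_1 lc_j_rc_8_1) (@D3.rec (fun _ => (Cert rels S Gen.j)) lc_j_rc_53_2 lc_j_rc_25_1 lc_j_rc_49_3 lc_j_rc_52_0 lc_j_rc_25_1 lc_j_rc_8_1 lc_j_rc_25_1 lc_j_rc_38_1 lc_j_rc_25_1 lc_j_rc_38_1 lc_j_rc_49_3 lc_j_rc_25_1 lc_j_rc_45_1 lc_j_rc_17_1 lc_j_rc_25_1 lc_j_rc_45_1 lc_j_rc_8_1 lc_j_rc_17_1 lc_j_rc_25_1 lc_j_rc_17_3 lc_j_rc_8_1 lc_j_rc_17_1 lc_j_rc_32_1 lc_j_rc_25_1 lc_j_rc_45_1 lc_j_rc_25_1 lc_j_rc_49_3 lc_j_rc_45_1 lc_j_rc_32_1 lc_j_rc_32_1 lc_j_rc_8_3 lc_j_rc_17_1 lc_j_rc_8_3 lc_j_rc_53_2 lc_j_rc_45_1 lc_j_rc_25_1 lc_j_rc_17_1 lc_j_rc_17_1 lc_j_rc_17_1 lc_j_rc_25_1 lc_j_rc_25_1 lc_j_rc_38_1 lc_j_rc_17_1 lc_j_rc_32_1 lc_j_rc_38_1 lc_j_rc_17_1 lc_j_rc_25_1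 lc_j_rc_8_3 lc_j_rc_25_1 lc_j_rc_8_1 lc_j_rc_25_1) (@D3.rec (fun _ => (Cert rels S Gen.j)) lc_j_rc_51_2 lc_j_rc_49_3 lc_j_rc_17_1 lc_j_rc_25_1 lc_j_rc_51_2 lc_j_rc_52_0 lc_j_rc_25_1 lc_j_rc_17_1 lc_j_rc_25_1 lc_j_rc_8_1 lc_j_rc_25_1 lc_j_rc_38_1 lc_j_rc_17_1 lc_j_rc_8_1 lc_j_rc_38_3 lc_j_rc_25_3 lc_j_rc_25_1 lc_j_rc_38_1 lc_j_rc_17_1 lc_j_rc_25_1 lc_j_rc_17_3 lc_j_rc_8_3 lc_j_rc_32_1 lc_j_rc_38_1 lc_j_rc_32_1 lc_j_rc_32_1 lc_j_rc_25_1 lc_j_rc_38_1 lc_j_rc_45_1 lc_j_rc_17_3 lc_j_rc_25_1 lc_j_rc_38_1 lc_j_rc_17_1 lc_j_rc_49_1 lc_j_rc_17_1 lc_j_rc_25_1 lc_j_rc_38_1 lc_j_rc_25_1 lc_j_rc_45_1 lc_j_rc_25_1 lc_j_rc_38_1 lc_j_rc_25_1 lc_j_rc_38_1 lc_j_rc_17_1 lc_j_rc_25_1 lc_j_rc_45_1 lc_j_rc_17_1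 lc_j_rc_17_1 lc_j_rc_25_1 lc_j_rc_8_1 lc_j_rc_49_1) (@D3.rec (fun _ => (Cert rels S Gen.j)) lc_j_rc_25_1 lc_j_rc_8_1 lc_j_rc_17_1 lc_j_rc_25_1 lc_j_rc_38_1 lc_j_rc_25_1 lc_j_rc_38_1 lc_j_rc_17_1 lc_j_rc_25_1 lc_j_rc_45_1 lc_j_rc_32_1 lc_j_rc_49_3 lc_j_rc_17_1 lc_j_rc_25_1 lc_j_rc_8_1 lc_j_rc_25_1 lc_j_rc_38_1 lc_j_rc_17_1 lc_j_rc_25_1 lc_j_rc_25_1 lc_j_rc_25_1 lc_j_rc_53_2 lc_j_rc_17_1 lc_j_rc_25_1 lc_j_rc_51_2 lc_j_rc_51_0 lc_j_rc_8_1 lc_j_rc_17_1 lc_j_rc_25_1 lc_j_rc_25_1 lc_j_rc_38_1 lc_j_rc_17_1 lc_j_rc_25_1 lc_j_rc_8_1 lc_j_rc_17_1 lc_j_rc_32_1 lc_j_rc_8_3 lc_j_rc_32_1 lc_j_rc_51_2 lc_j_rc_32_1 lc_j_rc_25_1 lc_j_rc_38_1 lc_j_rc_17_1 lc_j_rc_25_1 lc_j_rc_8_1 lc_j_rc_25_1 lc_j_rc_8_1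 lc_j_rc_17_1 lc_j_rc_25_1 lc_j_rc_45_1 lc_j_rc_8_1) (@D3.rec (fun _ => (Cert rels S Gen.j)) lc_j_rc_17_1 lc_j_rc_25_1 lc_j_rc_17_1 lc_j_rc_25_1 lc_j_rc_38_1 lc_j_rc_17_1 lc_j_rc_25_1 lc_j_rc_45_1 lc_j_rc_8_1 lc_j_rc_17_1 lc_j_rc_32_1 lc_j_rc_25_1 lc_j_rc_17_1 lc_j_rc_25_1 lc_j_rc_25_1 lc_j_rc_45_1 lc_j_rc_8_3 lc_j_rc_25_1 lc_j_rc_17_1 lc_j_rc_8_1 lc_j_rc_17_1 lc_j_rc_25_1 lc_j_rc_45_1 lc_j_rc_25_1 lc_j_rc_51_2 lc_j_rc_52_0 lc_j_rc_25_1 lc_j_rc_17_1 lc_j_rc_25_1 lc_j_rc_17_1 lc_j_rc_45_1 lc_j_rc_8_1 lc_j_rc_17_1 lc_j_rc_25_1 lc_j_rc_17_1 lc_j_rc_25_1 lc_j_rc_8_1 lc_j_rc_17_1 lc_j_rc_8_1 lc_j_rc_17_1 lc_j_rc_25_1 lc_j_rc_17_1 lc_j_rc_25_1 lc_j_rc_8_3 lc_j_rc_25_1 lc_j_rc_17_1 lc_j_rc_25_1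 lc_j_rc_38_3 lc_j_rc_17_1 lc_j_rc_38_3 lc_j_rc_17_3) (@D3.rec (fun _ => (Cert rels S Gen.j)) lc_j_rc_17_1 lc_j_rc_32_1 lc_j_rc_17_1 lc_j_rc_52_0 lc_j_rc_25_1 lc_j_rc_45_1 lc_j_rc_25_1 lc_j_rc_8_1 lc_j_rc_32_1 lc_j_rc_32_1 lc_j_rc_25_1 lc_j_rc_32_1 lc_j_rc_25_1 lc_j_rc_25_1 lc_j_rc_38_1 lc_j_rc_49_3 lc_j_rc_17_1 lc_j_rc_38_3 lc_j_rc_53_2 lc_j_rc_25_1 lc_j_rc_17_1 lc_j_rc_53_2 lc_j_rc_25_1 lc_j_rc_17_3 lc_j_rc_25_1 lc_j_rc_53_2 lc_j_rc_53_2 lc_j_rc_25_1 lc_j_rc_8_1 lc_j_rc_53_2 lc_j_rc_8_3 lc_j_rc_8_1 lc_j_rc_17_1 lc_j_rc_25_1 lc_j_rc_45_1 lc_j_rc_25_1 lc_j_rc_32_1 lc_j_rc_52_1 lc_j_rc_25_1 lc_j_rc_17_1 lc_j_rc_25_1 lc_j_rc_32_1 lc_j_rc_52_1 lc_j_rc_25_1 lc_j_rc_49_3 lc_j_rc_17_1 lc_j_rc_32_1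 lc_j_rc_25_1 lc_j_rc_32_3 lc_j_rc_45_1 lc_j_rc_17_1) (@D3.rec (fun _ => (Cert rels S Gen.j)) lc_j_rc_25_1 lc_j_rc_8_1 lc_j_rc_25_1 lc_j_rc_53_0 lc_j_rc_53_2 lc_j_rc_25_1 lc_j_rc_53_2 lc_j_rc_53_2 lc_j_rc_32_3 lc_j_rc_38_1 lc_j_rc_17_1 lc_j_rc_25_1 lc_j_rc_17_1 lc_j_rc_25_1 lc_j_rc_53_2 lc_j_rc_25_1 lc_j_rc_49_1 lc_j_rc_25_1 lc_j_rc_17_1 lc_j_rc_25_1 lc_j_rc_53_2 lc_j_rc_53_2 lc_j_rc_25_1 lc_j_rc_8_1 lc_j_rc_53_2 lc_j_rc_17_1 lc_j_rc_17_1 lc_j_rc_32_1 lc_j_rc_17_1 lc_j_rc_8_1 lc_j_rc_17_1 lc_j_rc_25_1 lc_j_rc_51_0 lc_j_rc_8_1 lc_j_rc_17_1 lc_j_rc_25_1 lc_j_rc_53_2 lc_j_rc_8_1 lc_j_rc_17_1 lc_j_rc_25_1 lc_j_rc_8_1 lc_j_rc_52_1 lc_j_rc_25_1 lc_j_rc_8_1 lc_j_rc_45_1 lc_j_rc_53_2 lc_j_rc_32_1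 lc_j_rc_32_1 lc_j_rc_25_1 lc_j_rc_25_1 lc_j_rc_38_1) (@D3.rec (fun _ => (Cert rels S Gen.j)) lc_j_rc_17_1 lc_j_rc_25_1 lc_j_rc_17_1 lc_j_rc_25_1 lc_j_rc_17_1 lc_j_rc_32_1 lc_j_rc_25_1 lc_j_rc_8_3 lc_j_rc_25_1 lc_j_rc_38_1 lc_j_rc_17_1 lc_j_rc_25_1 lc_j_rc_8_3 lc_j_Cert_tree lc_j_rc_17_1 lc_j_rc_25_1 lc_j_rc_8_1 lc_j_rc_49_3 lc_j_rc_32_1 lc_j_rc_25_1 lc_j_rc_38_1 lc_j_rc_17_1 lc_j_rc_25_1 lc_j_rc_17_1 lc_j_rc_25_1 lc_j_rc_8_1 lc_j_rc_32_3 lc_j_rc_38_1 lc_j_rc_8_3 lc_j_rc_25_1 lc_j_rc_8_3 lc_j_rc_25_1 lc_j_rc_38_1 lc_j_rc_17_1 lc_j_rc_25_1 lc_j_rc_53_0 lc_j_rc_49_3 lc_j_rc_25_1 lc_j_rc_8_1 lc_j_rc_17_1 lc_j_rc_25_1 lc_j_rc_8_3 lc_j_rc_25_1 lc_j_rc_8_1 lc_j_rc_17_1 lc_j_rc_25_1 lc_j_rc_8_1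 lc_j_rc_17_1 lc_j_rc_25_1 lc_j_rc_8_1 lc_j_rc_32_1) (@D3.rec (fun _ => (Cert rels S Gen.j)) lc_j_rc_25_1 lc_j_rc_38_1 lc_j_rc_25_1 lc_j_rc_38_1 lc_j_rc_17_1 lc_j_rc_25_1 lc_j_rc_17_1 lc_j_rc_25_1 lc_j_rc_8_1 lc_j_rc_17_1 lc_j_rc_8_1 lc_j_rc_17_1 lc_j_rc_32_1 lc_j_rc_8_3 lc_j_rc_25_1 lc_j_rc_17_1 lc_j_rc_38_3 lc_j_rc_17_1 lc_j_rc_8_3 lc_j_rc_25_1 lc_j_rc_8_3 lc_j_rc_8_3 lc_j_rc_25_1 lc_j_rc_53_2 lc_j_rc_52_0 lc_j_rc_8_3 lc_j_rc_25_1 lc_j_rc_25_1 lc_j_rc_38_1 lc_j_rc_17_1 lc_j_rc_25_1 lc_j_rc_38_1 lc_j_rc_17_1 lc_j_rc_25_1 lc_j_rc_45_1 lc_j_rc_8_1 lc_j_rc_17_1 lc_j_rc_25_1 lc_j_rc_25_1 lc_j_rc_45_1 lc_j_rc_53_0 lc_j_rc_25_1 lc_j_rc_8_1 lc_j_rc_17_1 lc_j_rc_25_1 lc_j_rc_25_1 lc_j_rc_8_1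 lc_j_rc_17_1 lc_j_rc_25_1 lc_j_rc_17_1 lc_j_rc_8_1) (@D3.rec (fun _ => (Cert rels S Gen.j)) lc_j_rc_8_3 lc_j_rc_8_1 lc_j_rc_17_1 lc_j_rc_25_1 lc_j_rc_17_1 lc_j_rc_53_2 lc_j_rc_17_1 lc_j_rc_25_1 lc_j_rc_53_2 lc_j_rc_53_2 lc_j_rc_17_1 lc_j_rc_32_1 lc_j_rc_17_1 lc_j_rc_8_3 lc_j_rc_25_1 lc_j_rc_8_1 lc_j_rc_17_1 lc_j_rc_8_1 lc_j_rc_32_3 lc_j_rc_52_1 lc_j_rc_25_1 lc_j_rc_38_1 lc_j_rc_17_1 lc_j_rc_17_1 lc_j_rc_25_1 lc_j_rc_49_1 lc_j_rc_17_1 lc_j_rc_25_1 lc_j_rc_8_1 lc_j_rc_25_1 lc_j_rc_38_1 lc_j_rc_17_1 lc_j_rc_17_1 lc_j_rc_25_1 lc_j_rc_8_1 lc_j_rc_8_1 lc_j_rc_17_1 lc_j_rc_17_1 lc_j_rc_17_1 lc_j_rc_25_1 lc_j_rc_8_1 lc_j_rc_8_1 lc_j_rc_8_1 lc_j_rc_17_1 lc_j_rc_25_1 lc_j_rc_25_1 lc_j_rc_25_3 lc_j_rc_17_1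 lc_j_rc_25_1 lc_j_rc_8_1 lc_j_rc_17_1) (@D3.rec (fun _ => (Cert rels S Gen.j)) lc_j_rc_8_1 lc_j_rc_45_3 lc_j_rc_25_1 lc_j_rc_8_1 lc_j_rc_17_1 lc_j_rc_8_1 lc_j_rc_17_1 lc_j_rc_17_1 lc_j_rc_25_1 lc_j_rc_8_1 lc_j_rc_45_1 lc_j_rc_38_1 lc_j_rc_8_1 lc_j_rc_17_1 lc_j_rc_25_1 lc_j_rc_38_1 lc_j_rc_17_1 lc_j_rc_25_1 lc_j_rc_25_3 lc_j_rc_45_3 lc_j_rc_25_1 lc_j_rc_51_2 lc_j_rc_25_1 lc_j_rc_17_1 lc_j_rc_25_1 lc_j_rc_8_1 lc_j_rc_25_1 lc_j_rc_38_1 lc_j_rc_49_3 lc_j_rc_25_1 lc_j_rc_32_1 lc_j_rc_17_1 lc_j_rc_25_1 lc_j_rc_8_1 lc_j_rc_8_1 lc_j_rc_17_1 lc_j_rc_32_1 lc_j_rc_49_3 lc_j_rc_45_1 lc_j_rc_32_1 lc_j_rc_51_2 lc_j_rc_25_1 lc_j_rc_45_1 lc_j_rc_17_1 lc_j_rc_17_1 lc_j_rc_25_1 lc_j_rc_8_1 lc_j_rc_25_1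 lc_j_rc_38_1 lc_j_rc_17_1 lc_j_rc_45_1) (@D3.rec (fun _ => (Cert rels S Gen.j)) lc_j_rc_32_1 lc_j_rc_17_1 lc_j_rc_25_1 lc_j_rc_8_1 lc_j_rc_17_1 lc_j_rc_25_1 lc_j_rc_32_1 lc_j_rc_8_1 lc_j_rc_17_1 lc_j_rc_32_1 lc_j_rc_25_1 lc_j_rc_52_0 lc_j_rc_38_3 lc_j_rc_25_1 lc_j_rc_51_2 lc_j_rc_17_1 lc_j_rc_25_1 lc_j_rc_52_0 lc_j_rc_8_1 lc_j_rc_8_1 lc_j_rc_17_1 lc_j_rc_32_1 lc_j_rc_8_1 lc_j_rc_17_1 lc_j_rc_32_1 lc_j_rc_25_1 lc_j_rc_32_1 lc_j_rc_32_1 lc_j_rc_32_3 lc_j_rc_32_1 lc_j_rc_49_3 lc_j_rc_25_1 lc_j_rc_25_1 lc_j_rc_38_1 lc_j_rc_17_1 lc_j_rc_25_1 lc_j_rc_17_3 lc_j_rc_17_1 lc_j_rc_25_1 lc_j_rc_8_1 lc_j_rc_32_1 lc_j_rc_38_1 lc_j_rc_53_0 lc_j_rc_49_1 lc_j_rc_8_1 lc_j_rc_32_3 lc_j_rc_38_1 lc_j_rc_17_1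 lc_j_rc_25_1 lc_j_rc_17_1 lc_j_rc_17_1) (@D3.rec (fun _ => (Cert rels S Gen.j)) lc_j_rc_25_1 lc_j_rc_49_1 lc_j_rc_25_1 lc_j_rc_32_1 lc_j_rc_25_1 lc_j_rc_25_3 lc_j_rc_25_1 lc_j_rc_38_1 lc_j_rc_17_1 lc_j_rc_25_1 lc_j_rc_38_1 lc_j_rc_8_1 lc_j_rc_38_1 lc_j_rc_25_1 lc_j_rc_32_1 lc_j_rc_45_1 lc_j_rc_25_1 lc_j_rc_8_1 lc_j_rc_17_1 lc_j_rc_32_1 lc_j_rc_17_1 lc_j_rc_25_1 lc_j_rc_53_2 lc_j_rc_17_1 lc_j_rc_25_1 lc_j_rc_8_1 lc_j_rc_17_1 lc_j_rc_8_3 lc_j_rc_17_1 lc_j_rc_8_1 lc_j_rc_25_1 lc_j_rc_38_1 lc_j_rc_17_1 lc_j_rc_25_1 lc_j_rc_45_1 lc_j_rc_8_1 lc_j_rc_17_1 lc_j_rc_32_1 lc_j_rc_53_0 lc_j_rc_8_1 lc_j_rc_25_1 lc_j_rc_32_3 lc_j_rc_51_2 lc_j_rc_51_2 lc_j_rc_17_1 lc_j_rc_8_1 lc_j_rc_49_5 lc_j_rc_17_1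 lc_j_rc_25_1 lc_j_rc_8_1 lc_j_rc_17_1) (@D3.rec (fun _ => (Cert rels S Gen.j)) lc_j_rc_32_1 lc_j_rc_8_1 lc_j_rc_17_1 lc_j_rc_51_2 lc_j_rc_25_1 lc_j_rc_17_1 lc_j_rc_32_1 lc_j_rc_17_1 lc_j_rc_51_2 lc_j_rc_32_1 lc_j_rc_51_2 lc_j_rc_25_1 lc_j_rc_38_1 lc_j_rc_53_2 lc_j_rc_53_0 lc_j_rc_49_3 lc_j_rc_25_1 lc_j_rc_53_2 lc_j_rc_17_1 lc_j_rc_25_1 lc_j_rc_51_2 lc_j_rc_8_1 lc_j_rc_49_3 lc_j_rc_25_1 lc_j_rc_17_1 lc_j_rc_25_1 lc_j_rc_8_1 lc_j_rc_17_1 lc_j_rc_32_1 lc_j_rc_17_1 lc_j_rc_17_1 lc_j_rc_25_1 lc_j_rc_8_1 lc_j_rc_25_1 lc_j_rc_38_1 lc_j_rc_25_1 lc_j_rc_17_1 lc_j_rc_25_1 lc_j_rc_17_1 lc_j_rc_8_1 lc_j_rc_25_1 lc_j_rc_38_1 lc_j_rc_17_1 lc_j_rc_25_1 lc_j_rc_45_1 lc_j_rc_8_1 lc_j_rc_17_1 lc_j_rc_32_1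 lc_j_rc_8_1 lc_j_rc_17_1 lc_j_rc_25_1) (@D3.rec (fun _ => (Cert rels S Gen.j)) lc_j_rc_8_1 lc_j_rc_17_1 lc_j_rc_32_1 lc_j_rc_25_1 lc_j_rc_8_1 lc_j_rc_17_1 lc_j_rc_51_2 lc_j_rc_8_1 lc_j_rc_32_1 lc_j_rc_49_5 lc_j_rc_25_1 lc_j_rc_49_3 lc_j_rc_51_0 lc_j_rc_8_1 lc_j_rc_17_1 lc_j_rc_49_3 lc_j_rc_25_1 lc_j_rc_38_1 lc_j_rc_25_1 lc_j_rc_17_1 lc_j_rc_17_1 lc_j_rc_25_1 lc_j_rc_45_1 lc_j_rc_17_1 lc_j_rc_25_1 lc_j_rc_8_1 lc_j_rc_17_1 lc_j_rc_32_1 lc_j_rc_25_1 lc_j_rc_8_1 lc_j_rc_38_1 lc_j_rc_25_1 lc_j_rc_53_0 lc_j_rc_52_1 lc_j_rc_49_5 lc_j_rc_32_1 lc_j_rc_17_1 lc_j_rc_25_1 lc_j_rc_45_1 lc_j_rc_8_1 lc_j_rc_17_1 lc_j_rc_25_1 lc_j_rc_8_1 lc_j_rc_17_1 lc_j_rc_45_1 lc_j_rc_51_2 lc_j_rc_32_3 lc_j_rc_8_1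 lc_j_rc_17_1 lc_j_rc_32_1 lc_j_rc_8_1)
def ce_j_20 : D2 → D3 → (Cert rels S Gen.j) := @D2.rec (fun _ => D3 → (Cert rels S Gen.j)) (@D3.rec (fun _ => (Cert rels S Gen.j)) lc_j_rc_17_1 lc_j_rc_25_1 lc_j_rc_8_1 lc_j_rc_25_1 lc_j_rc_17_1 lc_j_rc_53_2 lc_j_rc_45_1 lc_j_rc_32_1 lc_j_rc_45_1 lc_j_rc_51_2 lc_j_rc_32_1 lc_j_rc_38_1 lc_j_rc_32_1 lc_j_rc_51_2 lc_j_rc_8_1 lc_j_rc_25_1 lc_j_rc_17_1 lc_j_rc_53_2 lc_j_rc_53_2 lc_j_rc_53_2 lc_j_rc_8_1 lc_j_rc_8_1 lc_j_rc_25_1 lc_j_rc_32_1 lc_j_rc_45_1 lc_j_rc_32_3 lc_j_rc_8_1 lc_j_rc_45_1 lc_j_rc_45_1 lc_j_rc_32_1 lc_j_rc_51_0 lc_j_rc_45_3 lc_j_rc_51_2 lc_j_rc_49_3 lc_j_rc_8_1 lc_j_rc_17_1 lc_j_rc_25_1 lc_j_rc_49_3 lc_j_rc_17_1 lc_j_rc_25_1 lc_j_rc_49_3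 lc_j_rc_17_1 lc_j_rc_25_1 lc_j_rc_17_3 lc_j_rc_8_3 lc_j_rc_49_3 lc_j_rc_52_0 lc_j_rc_32_1 lc_j_rc_17_1 lc_j_rc_8_1 lc_j_rc_49_3) (@D3.rec (fun _ => (Cert rels S Gen.j)) lc_j_rc_52_1 lc_j_rc_8_3 lc_j_rc_45_3 lc_j_rc_8_1 lc_j_rc_52_1 lc_j_rc_38_1 lc_j_rc_17_3 lc_j_rc_45_3 lc_j_rc_25_1 lc_j_rc_32_1 lc_j_rc_38_3 lc_j_rc_25_1 lc_j_rc_45_1 lc_j_rc_17_1 lc_j_rc_25_1 lc_j_rc_8_1 lc_j_rc_17_1 lc_j_rc_25_1 lc_j_rc_45_1 lc_j_rc_25_1 lc_j_rc_38_1 lc_j_rc_17_1 lc_j_rc_25_1 lc_j_rc_45_1 lc_j_rc_17_1 lc_j_rc_25_1 lc_j_rc_8_1 lc_j_rc_17_1 lc_j_rc_25_1 lc_j_rc_32_1 lc_j_rc_8_1 lc_j_rc_25_1 lc_j_rc_38_1 lc_j_rc_38_3 lc_j_rc_8_1 lc_j_rc_17_1 lc_j_rc_25_1 lc_j_rc_17_1 lc_j_rc_25_1 lc_j_rc_8_1 lc_j_rc_17_1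 lc_j_rc_25_1 lc_j_rc_8_1 lc_j_rc_17_1 lc_j_rc_8_1 lc_j_rc_17_1 lc_j_rc_53_2 lc_j_rc_49_3 lc_j_rc_45_1 lc_j_rc_25_1 lc_j_rc_32_1) (@D3.rec (fun _ => (Cert rels S Gen.j)) lc_j_rc_45_1 lc_j_rc_25_1 lc_j_rc_32_1 lc_j_rc_45_1 lc_j_rc_25_1 lc_j_rc_49_3 lc_j_rc_53_2 lc_j_rc_25_1 lc_j_rc_45_1 lc_j_rc_8_1 lc_j_rc_25_1 lc_j_rc_38_1 lc_j_rc_17_1 lc_j_rc_25_1 lc_j_rc_25_1 lc_j_rc_38_1 lc_j_rc_17_1 lc_j_rc_25_1 lc_j_rc_8_1 lc_j_rc_17_1 lc_j_rc_17_1 lc_j_rc_25_1 lc_j_rc_45_1 lc_j_rc_8_1 lc_j_rc_17_1 lc_j_rc_45_1 lc_j_rc_17_1 lc_j_rc_25_1 lc_j_rc_8_1 lc_j_rc_17_1 lc_j_rc_32_1 lc_j_rc_32_1 lc_j_rc_8_1 lc_j_rc_49_3 lc_j_rc_8_3 lc_j_rc_25_1 lc_j_rc_45_1 lc_j_rc_49_3 lc_j_rc_49_3 lc_j_rc_25_1 lc_j_rc_8_1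 lc_j_rc_17_1 lc_j_rc_32_1 lc_j_rc_17_1 lc_j_rc_25_1 lc_j_rc_8_1 lc_j_rc_17_1 lc_j_rc_25_1 lc_j_rc_38_1 lc_j_rc_17_1 lc_j_rc_25_1) (@D3.rec (fun _ => (Cert rels S Gen.j)) lc_j_rc_17_1 lc_j_rc_25_1 lc_j_rc_45_1 lc_j_rc_8_1 lc_j_rc_17_1 lc_j_rc_25_1 lc_j_rc_32_1 lc_j_rc_8_1 lc_j_rc_17_1 lc_j_rc_8_1 lc_j_rc_17_1 lc_j_rc_25_1 lc_j_rc_25_3 lc_j_rc_32_3 lc_j_rc_52_1 lc_j_rc_38_3 lc_j_rc_8_1 lc_j_rc_53_2 lc_j_rc_25_1 lc_j_rc_52_1 lc_j_rc_8_3 lc_j_rc_51_0 lc_j_rc_8_1 lc_j_rc_17_1 lc_j_rc_8_1 lc_j_rc_17_1 lc_j_rc_25_1 lc_j_rc_17_1 lc_j_rc_25_1 lc_j_rc_8_1 lc_j_rc_17_1 lc_j_rc_32_1 lc_j_rc_8_1 lc_j_rc_17_1 lc_j_rc_25_1 lc_j_rc_8_1 lc_j_rc_17_1 lc_j_rc_17_1 lc_j_rc_25_1 lc_j_rc_8_1 lc_j_rc_17_1 lc_j_rc_8_1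 lc_j_rc_8_1 lc_j_rc_8_1 lc_j_rc_45_1 lc_j_rc_45_1 lc_j_rc_8_1 lc_j_rc_53_0 lc_j_rc_8_3 lc_j_rc_25_1 lc_j_rc_32_1) (@D3.rec (fun _ => (Cert rels S Gen.j)) lc_j_rc_38_1 lc_j_rc_17_1 lc_j_rc_38_1 lc_j_rc_17_1 lc_j_rc_53_2 lc_j_rc_8_3 lc_j_rc_25_1 lc_j_rc_45_1 lc_j_rc_38_1 lc_j_rc_8_3 lc_j_rc_25_1 lc_j_rc_38_1 lc_j_rc_8_3 lc_j_rc_25_1 lc_j_rc_8_3 lc_j_rc_52_1 lc_j_rc_8_3 lc_j_rc_25_1 lc_j_rc_52_1 lc_j_rc_8_3 lc_j_rc_25_1 lc_j_rc_52_1 lc_j_rc_8_3 lc_j_rc_25_1 lc_j_rc_17_1 lc_j_rc_25_1 lc_j_rc_53_2 lc_j_rc_53_2 lc_j_rc_8_1 lc_j_rc_51_0 lc_j_rc_51_0 lc_j_rc_25_1 lc_j_rc_17_1 lc_j_rc_17_1 lc_j_rc_25_1 lc_j_rc_25_3 lc_j_rc_17_1 lc_j_rc_32_1 lc_j_rc_53_2 lc_j_rc_8_3 lc_j_rc_17_3 lc_j_rc_17_1 lc_j_rc_8_1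 lc_j_rc_17_1 lc_j_rc_8_1 lc_j_rc_17_1 lc_j_rc_8_1 lc_j_rc_17_1 lc_j_rc_17_1 lc_j_rc_52_1 lc_j_rc_8_3) (@D3.rec (fun _ => (Cert rels S Gen.j)) lc_j_rc_53_0 lc_j_rc_8_1 lc_j_rc_17_1 lc_j_rc_17_1 lc_j_rc_8_3 lc_j_rc_45_1 lc_j_rc_53_0 lc_j_rc_45_1 lc_j_rc_51_0 lc_j_rc_8_3 lc_j_rc_45_1 lc_j_rc_38_1 lc_j_rc_8_1 lc_j_rc_8_1 lc_j_rc_45_1 lc_j_rc_38_1 lc_j_rc_8_1 lc_j_rc_8_3 lc_j_rc_25_1 lc_j_rc_8_1 lc_j_rc_17_1 lc_j_rc_32_1 lc_j_rc_17_1 lc_j_rc_25_1 lc_j_rc_8_1 lc_j_rc_17_1 lc_j_rc_25_1 lc_j_rc_8_1 lc_j_rc_8_1 lc_j_rc_17_1 lc_j_rc_8_1 lc_j_rc_8_3 lc_j_rc_38_1 lc_j_rc_38_1 lc_j_rc_8_1 lc_j_rc_17_1 lc_j_rc_8_1 lc_j_rc_17_1 lc_j_rc_32_1 lc_j_rc_8_1 lc_j_rc_32_1 lc_j_rc_45_1 lc_j_rc_8_1 lc_j_rc_8_1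 lc_j_rc_17_1 lc_j_rc_32_1 lc_j_rc_8_1 lc_j_rc_53_2 lc_j_rc_17_1 lc_j_rc_51_0 lc_j_rc_51_0) (@D3.rec (fun _ => (Cert rels S Gen.j)) lc_j_rc_32_1 lc_j_rc_17_1 lc_j_rc_25_1 lc_j_rc_45_1 lc_j_rc_45_1 lc_j_rc_25_1 lc_j_rc_45_1 lc_j_rc_25_1 lc_j_rc_32_3 lc_j_rc_45_1 lc_j_rc_38_1 lc_j_rc_17_1 lc_j_rc_25_1 lc_j_rc_8_1 lc_j_rc_8_1 lc_j_rc_17_1 lc_j_rc_32_1 lc_j_rc_8_1 lc_j_rc_8_1 lc_j_rc_51_0 lc_j_rc_17_1 lc_j_rc_25_1 lc_j_rc_51_2 lc_j_rc_25_1 lc_j_rc_17_1 lc_j_rc_45_1 lc_j_rc_8_3 lc_j_rc_32_1 lc_j_rc_45_1 lc_j_rc_32_3 lc_j_rc_38_3 lc_j_rc_38_1 lc_j_rc_38_1 lc_j_rc_52_1 lc_j_rc_25_1 lc_j_rc_25_3 lc_j_rc_45_3 lc_j_rc_32_1 lc_j_rc_38_1 lc_j_rc_17_1 lc_j_rc_25_1 lc_j_rc_8_1 lc_j_rc_17_1 lc_j_rc_32_3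 lc_j_rc_8_1 lc_j_rc_8_1 lc_j_rc_17_1 lc_j_rc_32_1 lc_j_rc_25_3 lc_j_rc_17_1 lc_j_rc_32_1) (@D3.rec (fun _ => (Cert rels S Gen.j)) lc_j_rc_8_1 lc_j_rc_17_1 lc_j_rc_51_2 lc_j_rc_8_1 lc_j_rc_17_1 lc_j_rc_32_1 lc_j_rc_8_1 lc_j_rc_17_1 lc_j_rc_25_1 lc_j_rc_8_1 lc_j_rc_17_1 lc_j_rc_8_1 lc_j_rc_51_2 lc_j_rc_51_0 lc_j_rc_45_3 lc_j_rc_8_1 lc_j_rc_17_1 lc_j_rc_25_1 lc_j_rc_32_1 lc_j_rc_32_1 lc_j_rc_32_1 lc_j_rc_38_3 lc_j_rc_25_3 lc_j_rc_45_1 lc_j_rc_49_1 lc_j_rc_25_3 lc_j_rc_32_1 lc_j_rc_8_1 lc_j_rc_32_1 lc_j_rc_8_1 lc_j_rc_53_2 lc_j_rc_25_1 lc_j_rc_17_3 lc_j_rc_17_1 lc_j_rc_8_1 lc_j_rc_8_3 lc_j_rc_49_3 lc_j_rc_8_1 lc_j_rc_38_1 lc_j_rc_25_1 lc_j_rc_49_3 lc_j_rc_25_1 lc_j_rc_53_2 lc_j_rc_8_1 lc_j_rc_53_2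 lc_j_rc_53_2 lc_j_rc_17_1 lc_j_rc_8_1 lc_j_rc_17_1 lc_j_rc_45_3 lc_j_rc_8_3) (@D3.rec (fun _ => (Cert rels S Gen.j)) lc_j_rc_25_1 lc_j_rc_25_1 lc_j_rc_32_1 lc_j_rc_25_1 lc_j_rc_38_1 lc_j_rc_17_1 lc_j_rc_25_1 lc_j_rc_17_1 lc_j_rc_25_1 lc_j_rc_17_1 lc_j_rc_25_1 lc_j_rc_8_3 lc_j_rc_25_1 lc_j_rc_17_3 lc_j_rc_49_3 lc_j_rc_25_1 lc_j_rc_8_3 lc_j_rc_25_1 lc_j_rc_17_1 lc_j_rc_25_1 lc_j_rc_8_1 lc_j_rc_25_1 lc_j_rc_25_1 lc_j_rc_38_1 lc_j_rc_17_1 lc_j_rc_25_1 lc_j_rc_45_1 lc_j_rc_25_1 lc_j_rc_25_1 lc_j_rc_32_1 lc_j_rc_17_1 lc_j_rc_25_1 lc_j_rc_8_1 lc_j_rc_25_1 lc_j_rc_49_3 lc_j_rc_17_1 lc_j_rc_25_1 lc_j_rc_45_1 lc_j_rc_8_1 lc_j_rc_17_1 lc_j_rc_25_1 lc_j_rc_8_1 lc_j_rc_17_1 lc_j_rc_32_1 lc_j_rc_49_3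 lc_j_rc_45_1 lc_j_rc_32_1 lc_j_rc_51_2 lc_j_rc_49_3 lc_j_rc_17_1 lc_j_rc_25_1) (@D3.rec (fun _ => (Cert rels S Gen.j)) lc_j_rc_45_1 lc_j_rc_8_1 lc_j_rc_17_1 lc_j_rc_25_1 lc_j_rc_17_3 lc_j_rc_17_1 lc_j_rc_25_1 lc_j_rc_32_1 lc_j_rc_8_1 lc_j_rc_17_1 lc_j_rc_32_1 lc_j_rc_25_1 lc_j_rc_53_2 lc_j_rc_45_3 lc_j_rc_25_1 lc_j_rc_32_1 lc_j_rc_45_3 lc_j_rc_25_1 lc_j_rc_38_1 lc_j_rc_8_3 lc_j_rc_25_1 lc_j_rc_45_1 lc_j_rc_53_2 lc_j_rc_25_1 lc_j_rc_45_1 lc_j_rc_49_3 lc_j_rc_49_3 lc_j_rc_25_1 lc_j_rc_17_1 lc_j_rc_8_1 lc_j_rc_17_1 lc_j_rc_32_1 lc_j_rc_25_1 lc_j_rc_8_1 lc_j_rc_17_1 lc_j_rc_25_1 lc_j_rc_8_1 lc_j_rc_17_1 lc_j_rc_25_1 lc_j_rc_32_1 lc_j_rc_25_1 lc_j_rc_32_1 lc_j_rc_38_1 lc_j_rc_8_3 lc_j_rc_17_1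 lc_j_rc_17_1 lc_j_rc_8_1 lc_j_rc_25_1 lc_j_rc_25_1 lc_j_rc_38_1 lc_j_rc_49_3) (@D3.rec (fun _ => (Cert rels S Gen.j)) lc_j_rc_17_1 lc_j_rc_25_1 lc_j_rc_8_1 lc_j_rc_45_1 lc_j_rc_38_1 lc_j_rc_8_1 lc_j_rc_17_1 lc_j_rc_49_5 lc_j_rc_8_3 lc_j_rc_17_1 lc_j_rc_25_1 lc_j_rc_25_3 lc_j_rc_8_1 lc_j_rc_51_2 lc_j_rc_25_1 lc_j_rc_45_1 lc_j_rc_52_0 lc_j_rc_17_3 lc_j_rc_8_3 lc_j_rc_17_1 lc_j_rc_25_1 lc_j_rc_8_1 lc_j_rc_51_2 lc_j_rc_17_1 lc_j_rc_25_1 lc_j_rc_8_1 lc_j_rc_17_1 lc_j_rc_45_3 lc_j_rc_25_1 lc_j_rc_38_1 lc_j_rc_45_1 lc_j_rc_25_1 lc_j_rc_38_1 lc_j_rc_25_1 lc_j_rc_38_1 lc_j_rc_17_1 lc_j_rc_25_1 lc_j_rc_45_1 lc_j_rc_45_1 lc_j_rc_25_1 lc_j_rc_53_2 lc_j_rc_17_1 lc_j_rc_25_1 lc_j_rc_8_1 lc_j_rc_25_1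 lc_j_rc_17_1 lc_j_rc_17_1 lc_j_rc_25_1 lc_j_rc_45_1 lc_j_rc_32_1 lc_j_rc_17_1) (@D3.rec (fun _ => (Cert rels S Gen.j)) lc_j_rc_25_1 lc_j_rc_45_1 lc_j_rc_17_1 lc_j_rc_25_1 lc_j_rc_45_1 lc_j_rc_8_1 lc_j_rc_17_1 lc_j_rc_25_1 lc_j_rc_17_1 lc_j_rc_8_1 lc_j_rc_17_1 lc_j_rc_32_1 lc_j_rc_25_1 lc_j_rc_17_1 lc_j_rc_45_1 lc_j_rc_25_1 lc_j_rc_8_1 lc_j_rc_17_1 lc_j_rc_25_1 lc_j_rc_17_1 lc_j_rc_25_1 lc_j_rc_8_1 lc_j_rc_17_1 lc_j_rc_25_1 lc_j_rc_17_1 lc_j_rc_25_1 lc_j_rc_53_2 lc_j_rc_8_1 lc_j_rc_17_1 lc_j_rc_32_1 lc_j_rc_53_2 lc_j_rc_25_1 lc_j_rc_8_1 lc_j_rc_17_1 lc_j_rc_38_1 lc_j_rc_32_3 lc_j_rc_25_1 lc_j_rc_8_1 lc_j_rc_17_1 lc_j_rc_32_1 lc_j_rc_25_1 lc_j_rc_51_0 lc_j_rc_8_1 lc_j_rc_17_1 lc_j_rc_17_1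 lc_j_rc_25_1 lc_j_rc_8_1 lc_j_rc_17_1 lc_j_rc_8_1 lc_j_rc_17_1 lc_j_rc_51_2) (@D3.rec (fun _ => (Cert rels S Gen.j)) lc_j_rc_51_2 lc_j_rc_8_3 lc_j_rc_25_1 lc_j_rc_38_1 lc_j_rc_17_1 lc_j_rc_25_1 lc_j_rc_17_3 lc_j_rc_8_1 lc_j_rc_17_1 lc_j_rc_32_1 lc_j_rc_17_1 lc_j_rc_25_1 lc_j_rc_8_1 lc_j_rc_17_1 lc_j_rc_25_1 lc_j_rc_8_1 lc_j_rc_17_1 lc_j_rc_25_1 lc_j_rc_17_1 lc_j_rc_25_1 lc_j_rc_8_1 lc_j_rc_17_1 lc_j_rc_25_1 lc_j_rc_8_1 lc_j_rc_17_1 lc_j_rc_49_3 lc_j_rc_8_1 lc_j_rc_17_1 lc_j_rc_8_3 lc_j_rc_25_1 lc_j_rc_49_1 lc_j_rc_8_3 lc_j_rc_8_1 lc_j_rc_8_1 lc_j_rc_17_1 lc_j_rc_32_1 lc_j_rc_38_1 lc_j_rc_51_2 lc_j_rc_49_5 lc_j_rc_25_1 lc_j_rc_17_1 lc_j_rc_8_1 lc_j_rc_8_1 lc_j_rc_32_3 lc_j_rc_8_1 lc_j_rc_17_1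 lc_j_rc_8_1 lc_j_rc_8_1 lc_j_rc_25_1 lc_j_rc_38_1 lc_j_rc_25_1) (@D3.rec (fun _ => (Cert rels S Gen.j)) lc_j_rc_25_1 lc_j_rc_17_1 lc_j_rc_8_1 lc_j_rc_17_1 lc_j_rc_53_2 lc_j_rc_25_1 lc_j_rc_53_2 lc_j_rc_25_1 lc_j_rc_8_1 lc_j_rc_49_3 lc_j_rc_8_1 lc_j_rc_32_1 lc_j_rc_38_1 lc_j_rc_32_1 lc_j_rc_45_3 lc_j_rc_45_1 lc_j_rc_38_1 lc_j_rc_32_1 lc_j_rc_38_1 lc_j_rc_17_1 lc_j_rc_32_1 lc_j_rc_53_2 lc_j_rc_8_3 lc_j_rc_38_1 lc_j_rc_49_3 lc_j_rc_8_1 lc_j_rc_17_1 lc_j_rc_25_1 lc_j_rc_8_3 lc_j_rc_25_1 lc_j_rc_38_1 lc_j_rc_53_2 lc_j_rc_53_2 lc_j_rc_25_1 lc_j_rc_17_1 lc_j_rc_25_1 lc_j_rc_53_2 lc_j_rc_53_2 lc_j_rc_25_1 lc_j_rc_49_3 lc_j_rc_17_1 lc_j_rc_17_1 lc_j_rc_32_1 lc_j_rc_51_2 lc_j_rc_38_1 lc_j_rc_38_1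 lc_j_rc_17_1 lc_j_rc_17_1 lc_j_rc_38_1 lc_j_rc_17_1 lc_j_rc_49_3) (@D3.rec (fun _ => (Cert rels S Gen.j)) lc_j_rc_8_1 lc_j_rc_32_3 lc_j_rc_8_3 lc_j_rc_45_1 lc_j_rc_38_1 lc_j_rc_25_3 lc_j_rc_17_1 lc_j_rc_17_1 lc_j_rc_25_1 lc_j_rc_53_0 lc_j_rc_25_1 lc_j_rc_38_1 lc_j_rc_53_2 lc_j_rc_25_1 lc_j_rc_53_2 lc_j_rc_32_3 lc_j_rc_8_3 lc_j_rc_38_1 lc_j_rc_8_1 lc_j_rc_17_1 lc_j_rc_8_1 lc_j_rc_17_1 lc_j_rc_25_1 lc_j_rc_17_1 lc_j_rc_25_1 lc_j_rc_8_3 lc_j_rc_17_1 lc_j_rc_8_1 lc_j_rc_17_1 lc_j_rc_25_1 lc_j_rc_53_2 lc_j_rc_53_2 lc_j_rc_25_1 lc_j_rc_53_0 lc_j_rc_8_1 lc_j_rc_8_1 lc_j_rc_49_3 lc_j_rc_8_1 lc_j_rc_17_3 lc_j_rc_8_3 lc_j_rc_25_1 lc_j_rc_25_1 lc_j_rc_17_3 lc_j_rc_8_3 lc_j_rc_25_1 lc_j_rc_25_1 lc_j_rc_17_3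 lc_j_rc_17_1 lc_j_rc_38_1 lc_j_rc_17_1 lc_j_rc_25_1) (@D3.rec (fun _ => (Cert rels S Gen.j)) lc_j_rc_38_1 lc_j_rc_45_1 lc_j_rc_25_1 lc_j_rc_25_1 lc_j_rc_38_1 lc_j_rc_17_1 lc_j_rc_17_1 lc_j_rc_25_1 lc_j_rc_8_1 lc_j_rc_52_1 lc_j_rc_25_1 lc_j_rc_17_1 lc_j_rc_32_1 lc_j_rc_45_1 lc_j_rc_45_1 lc_j_rc_32_3 lc_j_rc_17_1 lc_j_rc_25_1 lc_j_rc_8_3 lc_j_rc_17_1 lc_j_rc_25_1 lc_j_rc_17_3 lc_j_rc_8_1 lc_j_rc_53_2 lc_j_rc_25_1 lc_j_Cert_tree lc_j_rc_52_0 lc_j_rc_8_1 lc_j_rc_17_1 lc_j_rc_32_1 lc_j_rc_49_3 lc_j_rc_25_1 lc_j_rc_38_1 lc_j_rc_17_1 lc_j_rc_25_1 lc_j_rc_8_1 lc_j_rc_17_1 lc_j_rc_8_1 lc_j_rc_17_1 lc_j_rc_17_1 lc_j_rc_38_1 lc_j_rc_17_1 lc_j_rc_53_2 lc_j_rc_8_3 lc_j_rc_25_1 lc_j_rc_17_1 lc_j_rc_25_1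 lc_j_rc_51_2 lc_j_rc_8_1 lc_j_rc_17_1 lc_j_rc_32_1) (@D3.rec (fun _ => (Cert rels S Gen.j)) lc_j_rc_25_1 lc_j_rc_49_3 lc_j_rc_49_3 lc_j_rc_8_1 lc_j_rc_17_1 lc_j_rc_53_2 lc_j_rc_8_3 lc_j_rc_8_1 lc_j_rc_17_1 lc_j_rc_25_1 lc_j_rc_8_1 lc_j_rc_8_1 lc_j_rc_17_1 lc_j_rc_25_1 lc_j_rc_38_1 lc_j_rc_17_1 lc_j_rc_25_1 lc_j_rc_17_1 lc_j_rc_25_1 lc_j_rc_8_1 lc_j_rc_17_1 lc_j_rc_8_1 lc_j_rc_17_1 lc_j_rc_8_1 lc_j_rc_8_1 lc_j_rc_17_1 lc_j_rc_53_0 lc_j_rc_8_3 lc_j_rc_25_1 lc_j_rc_38_1 lc_j_rc_8_3 lc_j_rc_25_1 lc_j_rc_8_1 lc_j_rc_38_3 lc_j_rc_8_3 lc_j_rc_25_1 lc_j_rc_51_0 lc_j_rc_8_3 lc_j_rc_25_1 lc_j_rc_51_0 lc_j_rc_8_3 lc_j_rc_17_1 lc_j_rc_25_1 lc_j_rc_38_1 lc_j_rc_8_1 lc_j_rc_17_1 lc_j_rc_32_1 lc_j_rc_38_1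 lc_j_rc_8_1 lc_j_rc_17_1 lc_j_rc_25_1) (@D3.rec (fun _ => (Cert rels S Gen.j)) lc_j_rc_25_1 lc_j_rc_45_1 lc_j_rc_8_1 lc_j_rc_45_3 lc_j_rc_53_0 lc_j_rc_32_1 lc_j_rc_25_1 lc_j_rc_53_0 lc_j_rc_53_2 lc_j_rc_8_1 lc_j_rc_8_3 lc_j_rc_17_1 lc_j_rc_25_1 lc_j_rc_25_3 lc_j_rc_8_3 lc_j_rc_8_1 lc_j_rc_38_1 lc_j_rc_25_3 lc_j_rc_8_3 lc_j_rc_25_1 lc_j_rc_17_1 lc_j_rc_45_1 lc_j_rc_17_1 lc_j_rc_25_3 lc_j_rc_8_1 lc_j_rc_53_2 lc_j_rc_8_3 lc_j_rc_8_1 lc_j_rc_38_1 lc_j_rc_17_1 lc_j_rc_25_1 lc_j_rc_8_1 lc_j_rc_17_1 lc_j_rc_17_1 lc_j_rc_25_1 lc_j_rc_8_1 lc_j_rc_17_1 lc_j_rc_32_1 lc_j_rc_45_1 lc_j_rc_38_1 lc_j_rc_8_1 lc_j_rc_8_1 lc_j_rc_17_1 lc_j_rc_8_1 lc_j_rc_8_1 lc_j_rc_8_1 lc_j_rc_17_1 lc_j_rc_32_1 lc_j_rc_8_1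 lc_j_rc_8_1 lc_j_rc_17_1) (@D3.rec (fun _ => (Cert rels S Gen.j)) lc_j_rc_8_1 lc_j_rc_38_1 lc_j_rc_38_1 lc_j_rc_25_1 lc_j_rc_8_1 lc_j_rc_8_1 lc_j_rc_8_1 lc_j_rc_17_1 lc_j_rc_45_1 lc_j_rc_17_1 lc_j_rc_45_3 lc_j_rc_8_1 lc_j_rc_17_1 lc_j_rc_25_1 lc_j_rc_8_1 lc_j_rc_52_0 lc_j_rc_38_1 lc_j_rc_38_1 lc_j_rc_38_3 lc_j_rc_8_3 lc_j_rc_25_1 lc_j_rc_51_2 lc_j_rc_8_1 lc_j_rc_17_1 lc_j_rc_32_1 lc_j_rc_8_3 lc_j_rc_38_1 lc_j_rc_38_1 lc_j_rc_17_1 lc_j_rc_25_1 lc_j_rc_32_1 lc_j_rc_8_1 lc_j_rc_17_1 lc_j_rc_32_1 lc_j_rc_8_1 lc_j_rc_17_1 lc_j_rc_51_2 lc_j_rc_32_1 lc_j_rc_51_2 lc_j_rc_17_1 lc_j_rc_25_1 lc_j_rc_8_1 lc_j_rc_8_1 lc_j_rc_17_1 lc_j_rc_32_1 lc_j_rc_17_1 lc_j_rc_25_1 lc_j_rc_8_1 lc_j_rc_49_3 lc_j_rc_25_1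 lc_j_rc_8_1) (@D3.rec (fun _ => (Cert rels S Gen.j)) lc_j_rc_17_1 lc_j_rc_32_1 lc_j_rc_8_1 lc_j_rc_17_1 lc_j_rc_25_1 lc_j_rc_25_1 lc_j_rc_8_1 lc_j_rc_17_1 lc_j_rc_45_3 lc_j_rc_51_2 lc_j_rc_51_2 lc_j_rc_25_1 lc_j_rc_8_1 lc_j_rc_17_1 lc_j_rc_32_1 lc_j_rc_51_2 lc_j_rc_8_1 lc_j_rc_17_1 lc_j_rc_8_3 lc_j_rc_8_1 lc_j_rc_38_3 lc_j_rc_25_1 lc_j_rc_32_1 lc_j_rc_49_3 lc_j_rc_17_1 lc_j_rc_17_1 lc_j_rc_25_1 lc_j_rc_8_1 lc_j_rc_49_3 lc_j_rc_25_1 lc_j_rc_8_1 lc_j_rc_17_1 lc_j_rc_32_1 lc_j_rc_45_1 lc_j_rc_38_1 lc_j_rc_38_1 lc_j_rc_49_3 lc_j_rc_53_0 lc_j_rc_45_1 lc_j_rc_45_1 lc_j_rc_38_3 lc_j_rc_38_1 lc_j_rc_38_1 lc_j_rc_8_1 lc_j_rc_32_3 lc_j_rc_25_1 lc_j_rc_25_1 lc_j_rc_45_1 lc_j_rc_32_1 lc_j_rc_51_2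 lc_j_rc_32_1) (@D3.rec (fun _ => (Cert rels S Gen.j)) lc_j_rc_51_0 lc_j_rc_51_2 lc_j_rc_8_3 lc_j_rc_38_1 lc_j_rc_38_1 lc_j_rc_8_1 lc_j_rc_17_1 lc_j_rc_32_1 lc_j_rc_38_1 lc_j_rc_49_3 lc_j_rc_38_1 lc_j_rc_45_1 lc_j_rc_32_1 lc_j_rc_45_1 lc_j_rc_17_1 lc_j_rc_32_1 lc_j_rc_8_1 lc_j_rc_17_1 lc_j_rc_51_2 lc_j_rc_8_1 lc_j_rc_49_3 lc_j_rc_25_1 lc_j_rc_8_1 lc_j_rc_17_1 lc_j_rc_32_1 lc_j_rc_8_1 lc_j_rc_49_3 lc_j_rc_8_1 lc_j_rc_17_1 lc_j_rc_25_1 lc_j_rc_8_1 lc_j_rc_17_1 lc_j_rc_32_1 lc_j_rc_25_1 lc_j_rc_8_1 lc_j_rc_17_1 lc_j_rc_51_2 lc_j_rc_53_0 lc_j_rc_51_2 lc_j_rc_51_2 lc_j_rc_51_2 lc_j_rc_8_1 lc_j_rc_49_5 lc_j_rc_8_1 lc_j_rc_17_1 lc_j_rc_32_1 lc_j_rc_8_1 lc_j_rc_17_1 lc_j_rc_51_2 lc_j_rc_8_1 lc_j_rc_25_1)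 (@D3.rec (fun _ => (Cert rels S Gen.j)) lc_j_rc_17_1 lc_j_rc_53_2 lc_j_rc_32_1 lc_j_rc_32_1 lc_j_rc_38_1 lc_j_rc_25_1 lc_j_rc_53_2 lc_j_rc_51_2 lc_j_rc_53_2 lc_j_rc_38_1 lc_j_rc_38_1 lc_j_rc_53_0 lc_j_rc_49_3 lc_j_rc_17_1 lc_j_rc_25_1 lc_j_rc_8_1 lc_j_rc_17_1 lc_j_rc_32_1 lc_j_rc_25_1 lc_j_rc_49_3 lc_j_rc_49_5 lc_j_rc_17_1 lc_j_rc_17_1 lc_j_rc_32_1 lc_j_rc_8_1 lc_j_rc_17_1 lc_j_rc_51_2 lc_j_rc_8_1 lc_j_rc_8_1 lc_j_rc_17_1 lc_j_rc_53_2 lc_j_rc_38_1 lc_j_rc_17_1 lc_j_rc_8_1 lc_j_rc_17_1 lc_j_rc_32_1 lc_j_rc_8_1 lc_j_rc_17_1 lc_j_rc_25_1 lc_j_rc_45_1 lc_j_rc_8_1 lc_j_rc_17_1 lc_j_rc_25_1 lc_j_rc_25_1 lc_j_rc_8_1 lc_j_rc_17_1 lc_j_rc_51_2 lc_j_rc_8_1 lc_j_rc_17_1 lc_j_rc_32_1 lc_j_rc_8_1)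 (@D3.rec (fun _ => (Cert rels S Gen.j)) lc_j_rc_17_1 lc_j_rc_8_3 lc_j_rc_25_1 lc_j_rc_8_1 lc_j_rc_25_1 lc_j_rc_17_1 lc_j_rc_53_2 lc_j_rc_45_3 lc_j_rc_49_5 lc_j_rc_17_1 lc_j_rc_45_1 lc_j_rc_51_0 lc_j_rc_8_1 lc_j_rc_17_1 lc_j_rc_25_1 lc_j_rc_45_1 lc_j_rc_52_1 lc_j_rc_25_1 lc_j_rc_17_1 lc_j_rc_8_1 lc_j_rc_17_1 lc_j_rc_32_1 lc_j_rc_25_1 lc_j_rc_8_1 lc_j_rc_38_1 lc_j_rc_32_1 lc_j_rc_8_1 lc_j_rc_17_1 lc_j_rc_38_1 lc_j_rc_32_1 lc_j_rc_51_2 lc_j_rc_38_1 lc_j_rc_53_2 lc_j_rc_45_3 lc_j_rc_32_3 lc_j_rc_17_1 lc_j_rc_8_1 lc_j_rc_8_1 lc_j_rc_17_1 lc_j_rc_25_1 lc_j_rc_8_1 lc_j_rc_17_1 lc_j_rc_8_1 lc_j_rc_38_1 lc_j_rc_17_1 lc_j_rc_53_2 lc_j_rc_8_1 lc_j_rc_17_1 lc_j_rc_8_1 lc_j_rc_8_3 lc_j_rc_25_1) (@D3.rec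 (fun _ => (Cert rels S Gen.j)) lc_j_rc_8_1 lc_j_rc_8_1 lc_j_rc_25_1 lc_j_rc_17_1 lc_j_rc_45_1 lc_j_rc_38_1 lc_j_rc_53_2 lc_j_rc_32_1 lc_j_rc_25_1 lc_j_rc_53_2 lc_j_rc_8_1 lc_j_rc_8_1 lc_j_rc_25_1 lc_j_rc_17_1 lc_j_rc_8_1 lc_j_rc_32_1 lc_j_rc_45_1 lc_j_rc_49_3 lc_j_rc_25_1 lc_j_rc_17_1 lc_j_rc_25_1 lc_j_rc_17_1 lc_j_rc_32_1 lc_j_rc_17_1 lc_j_rc_17_1 lc_j_rc_17_3 lc_j_rc_17_1 lc_j_rc_17_1 lc_j_rc_49_3 lc_j_rc_49_5 lc_j_rc_17_3 lc_j_rc_17_1 lc_j_rc_32_1 lc_j_rc_17_3 lc_j_rc_17_1 lc_j_rc_25_1 lc_j_rc_49_3 lc_j_rc_52_0 lc_j_rc_25_1 lc_j_rc_8_1 lc_j_rc_17_1 lc_j_rc_32_1 lc_j_rc_8_1 lc_j_rc_17_1 lc_j_rc_25_1 lc_j_rc_17_1 lc_j_rc_25_1 lc_j_rc_8_1 lc_j_rc_17_1 lc_j_rc_25_1 lc_j_rc_49_3) (@D3.rec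 (fun _ => (Cert rels S Gen.j)) lc_j_rc_8_1 lc_j_rc_17_1 lc_j_rc_8_1 lc_j_rc_17_1 lc_j_rc_25_1 lc_j_rc_51_2 lc_j_rc_51_2 lc_j_rc_38_3 lc_j_rc_45_1 lc_j_rc_8_1 lc_j_rc_17_1 lc_j_rc_8_1 lc_j_rc_17_1 lc_j_rc_32_1 lc_j_rc_8_1 lc_j_rc_17_1 lc_j_rc_8_1 lc_j_rc_8_1 lc_j_rc_45_1 lc_j_rc_53_0 lc_j_rc_32_1 lc_j_rc_32_3 lc_j_rc_38_1 lc_j_rc_32_1 lc_j_rc_32_1 lc_j_rc_53_2 lc_j_rc_25_1 lc_j_rc_51_2 lc_j_rc_53_2 lc_j_rc_53_2 lc_j_rc_25_1 lc_j_rc_17_1 lc_j_rc_25_1 lc_j_rc_8_1 lc_j_rc_17_1 lc_j_rc_17_1 lc_j_rc_25_1 lc_j_rc_8_1 lc_j_rc_17_1 lc_j_rc_32_1 lc_j_rc_8_1 lc_j_rc_8_1 lc_j_rc_17_1 lc_j_rc_32_1 lc_j_rc_38_3 lc_j_rc_8_1 lc_j_rc_32_1 lc_j_rc_8_1 lc_j_rc_17_1 lc_j_rc_32_1 lc_j_rc_8_1) (@D3.rec (fun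 _ => (Cert rels S Gen.j)) lc_j_rc_17_1 lc_j_rc_53_0 lc_j_rc_17_1 lc_j_rc_32_1 lc_j_rc_25_1 lc_j_rc_49_3 lc_j_rc_17_1 lc_j_rc_8_1 lc_j_rc_17_1 lc_j_rc_51_2 lc_j_rc_8_1 lc_j_rc_17_1 lc_j_rc_8_1 lc_j_rc_17_1 lc_j_rc_25_1 lc_j_rc_8_1 lc_j_rc_17_1 lc_j_rc_32_1 lc_j_rc_8_1 lc_j_rc_17_1 lc_j_rc_25_1 lc_j_rc_45_1 lc_j_rc_8_1 lc_j_rc_17_1 lc_j_rc_32_1 lc_j_rc_8_1 lc_j_rc_8_1 lc_j_rc_17_1 lc_j_rc_51_2 lc_j_rc_45_3 lc_j_rc_38_3 lc_j_rc_52_1 lc_j_rc_49_3 lc_j_rc_53_2 lc_j_rc_8_3 lc_j_rc_25_1 lc_j_rc_51_0 lc_j_rc_8_1 lc_j_rc_17_1 lc_j_rc_17_1 lc_j_rc_32_1 lc_j_rc_8_1 lc_j_rc_17_1 lc_j_rc_32_1 lc_j_rc_8_1 lc_j_rc_17_1 lc_j_rc_8_1 lc_j_rc_17_1 lc_j_rc_8_1 lc_j_rc_8_1 lc_j_rc_17_1) (@D3.rec (fun _ =>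 (Cert rels S Gen.j)) lc_j_rc_8_1 lc_j_rc_53_0 lc_j_rc_8_3 lc_j_rc_17_1 lc_j_rc_38_1 lc_j_rc_17_1 lc_j_rc_17_3 lc_j_rc_17_1 lc_j_rc_38_1 lc_j_rc_25_1 lc_j_rc_53_2 lc_j_rc_8_3 lc_j_rc_8_3 lc_j_rc_45_3 lc_j_rc_38_1 lc_j_rc_45_1 lc_j_rc_8_3 lc_j_rc_32_1 lc_j_rc_38_1 lc_j_rc_53_2 lc_j_rc_8_3 lc_j_rc_25_1 lc_j_rc_32_1 lc_j_rc_8_3 lc_j_rc_51_0 lc_j_rc_8_3 lc_j_rc_51_0 lc_j_rc_17_1 lc_j_rc_25_1 lc_j_rc_17_1 lc_j_rc_32_1 lc_j_rc_53_2 lc_j_rc_38_1 lc_j_rc_25_1 lc_j_rc_17_1 lc_j_rc_17_1 lc_j_rc_32_1 lc_j_rc_25_3 lc_j_rc_17_1 lc_j_rc_53_2 lc_j_rc_25_1 lc_j_rc_8_1 lc_j_rc_8_1 lc_j_rc_17_1 lc_j_rc_49_1 lc_j_rc_25_1 lc_j_rc_53_2 lc_j_rc_49_1 lc_j_rc_45_1 lc_j_rc_17_1 lc_j_rc_45_1)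
def ce_j_21 : D2 → D3 → (Cert rels S Gen.j) := @D2.rec (fun _ => D3 → (Cert rels S Gen.j)) (@D3.rec (fun _ => (Cert rels S Gen.j)) lc_j_rc_17_1 lc_j_rc_38_1 lc_j_rc_53_2 lc_j_rc_17_1 lc_j_rc_32_1 lc_j_rc_8_1 lc_j_rc_17_1 lc_j_rc_8_1 lc_j_rc_17_1 lc_j_rc_8_1 lc_j_rc_17_1 lc_j_rc_32_1 lc_j_rc_8_1 lc_j_rc_45_1 lc_j_rc_17_1 lc_j_rc_45_1 lc_j_rc_8_1 lc_j_rc_8_1 lc_j_rc_17_1 lc_j_rc_38_1 lc_j_rc_8_1 lc_j_rc_17_1 lc_j_rc_51_0 lc_j_rc_45_1 lc_j_rc_51_2 lc_j_rc_45_1 lc_j_rc_32_3 lc_j_rc_25_1 lc_j_rc_45_1 lc_j_rc_45_1 lc_j_rc_38_1 lc_j_rc_8_1 lc_j_rc_17_1 lc_j_rc_32_1 lc_j_rc_8_1 lc_j_rc_17_1 lc_j_rc_17_1 lc_j_rc_17_1 lc_j_rc_51_2 lc_j_rc_53_2 lc_j_rc_32_1 lc_j_rc_52_1 lc_j_rc_38_1 lc_j_rc_38_1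 lc_j_rc_51_2 lc_j_rc_25_1 lc_j_rc_8_1 lc_j_rc_38_3 lc_j_rc_25_1 lc_j_rc_38_3 lc_j_rc_51_2) (@D3.rec (fun _ => (Cert rels S Gen.j)) lc_j_rc_52_1 lc_j_rc_32_1 lc_j_rc_38_1 lc_j_rc_49_5 lc_j_rc_8_1 lc_j_rc_17_1 lc_j_rc_8_1 lc_j_rc_8_1 lc_j_rc_17_1 lc_j_rc_25_3 lc_j_rc_17_1 lc_j_rc_8_1 lc_j_rc_25_1 lc_j_rc_17_1 lc_j_rc_8_1 lc_j_rc_17_1 lc_j_rc_8_1 lc_j_rc_17_1 lc_j_rc_8_1 lc_j_rc_45_3 lc_j_rc_8_1 lc_j_rc_52_1 lc_j_rc_25_1 lc_j_rc_49_3 lc_j_rc_52_1 lc_j_rc_52_1 lc_j_rc_52_1 lc_j_rc_52_0 lc_j_rc_53_2 lc_j_rc_53_2 lc_j_rc_8_1 lc_j_rc_53_0 lc_j_rc_51_2 lc_j_rc_8_3 lc_j_rc_25_1 lc_j_rc_53_2 lc_j_rc_53_2 lc_j_rc_8_1 lc_j_rc_25_1 lc_j_rc_53_0 lc_j_rc_52_0 lc_j_rc_17_1 lc_j_rc_32_1 lc_j_rc_17_1 lc_j_rc_25_1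 lc_j_rc_8_1 lc_j_rc_49_3 lc_j_rc_45_3 lc_j_rc_32_1 lc_j_rc_32_1 lc_j_rc_25_1) (@D3.rec (fun _ => (Cert rels S Gen.j)) lc_j_rc_45_1 lc_j_rc_32_3 lc_j_rc_45_3 lc_j_rc_32_1 lc_j_rc_32_1 lc_j_rc_25_1 lc_j_rc_17_3 lc_j_rc_49_3 lc_j_rc_38_1 lc_j_rc_38_3 lc_j_rc_32_1 lc_j_rc_8_1 lc_j_rc_17_1 lc_j_rc_32_1 lc_j_rc_25_1 lc_j_rc_17_1 lc_j_rc_25_1 lc_j_rc_45_1 lc_j_rc_8_1 lc_j_rc_17_1 lc_j_rc_25_1 lc_j_rc_32_1 lc_j_rc_17_1 lc_j_rc_25_1 lc_j_rc_32_1 lc_j_rc_8_1 lc_j_rc_17_1 lc_j_rc_32_1 lc_j_rc_53_2 lc_j_rc_25_1 lc_j_rc_51_2 lc_j_rc_8_1 lc_j_rc_17_1 lc_j_rc_32_1 lc_j_rc_25_1 lc_j_rc_8_1 lc_j_rc_17_1 lc_j_rc_8_1 lc_j_rc_17_1 lc_j_rc_51_2 lc_j_rc_32_1 lc_j_rc_51_2 lc_j_rc_8_3 lc_j_rc_8_1 lc_j_rc_17_1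 lc_j_rc_32_1 lc_j_rc_25_1 lc_j_rc_32_1 lc_j_rc_8_1 lc_j_rc_17_1 lc_j_rc_25_1) (@D3.rec (fun _ => (Cert rels S Gen.j)) lc_j_rc_8_1 lc_j_rc_17_1 lc_j_rc_25_1 lc_j_rc_25_1 lc_j_rc_8_1 lc_j_rc_17_1 lc_j_rc_53_2 lc_j_rc_25_1 lc_j_rc_45_3 lc_j_rc_51_2 lc_j_rc_38_1 lc_j_rc_8_3 lc_j_rc_38_1 lc_j_rc_38_1 lc_j_rc_53_0 lc_j_rc_17_1 lc_j_rc_32_1 lc_j_rc_25_1 lc_j_rc_53_2 lc_j_rc_53_2 lc_j_rc_25_1 lc_j_rc_17_1 lc_j_rc_49_3 lc_j_rc_17_1 lc_j_rc_25_1 lc_j_rc_8_1 lc_j_rc_17_1 lc_j_rc_17_1 lc_j_rc_38_1 lc_j_rc_8_1 lc_j_rc_45_3 lc_j_rc_8_1 lc_j_rc_45_1 lc_j_rc_25_1 lc_j_rc_32_1 lc_j_rc_8_1 lc_j_rc_17_1 lc_j_rc_53_0 lc_j_rc_38_1 lc_j_rc_49_3 lc_j_rc_8_1 lc_j_rc_17_1 lc_j_rc_45_1 lc_j_rc_17_1 lc_j_rc_38_1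 lc_j_rc_8_1 lc_j_rc_52_0 lc_j_rc_17_3 lc_j_rc_17_1 lc_j_rc_32_1 lc_j_rc_45_1) (@D3.rec (fun _ => (Cert rels S Gen.j)) lc_j_rc_51_2 lc_j_rc_32_1 lc_j_rc_51_0 lc_j_rc_53_2 lc_j_rc_8_1 lc_j_rc_17_1 lc_j_rc_32_1 lc_j_rc_8_1 lc_j_rc_17_1 lc_j_rc_8_1 lc_j_rc_17_1 lc_j_rc_25_1 lc_j_rc_45_1 lc_j_rc_17_1 lc_j_rc_25_1 lc_j_rc_45_1 lc_j_rc_17_1 lc_j_rc_25_1 lc_j_rc_45_1 lc_j_rc_8_1 lc_j_rc_17_1 lc_j_rc_25_1 lc_j_rc_45_1 lc_j_rc_49_3 lc_j_rc_25_1 lc_j_rc_8_3 lc_j_rc_8_1 lc_j_rc_17_1 lc_j_rc_32_1 lc_j_rc_32_1 lc_j_rc_25_1 lc_j_rc_8_1 lc_j_rc_17_1 lc_j_rc_38_1 lc_j_rc_25_1 lc_j_rc_49_1 lc_j_rc_8_1 lc_j_rc_17_1 lc_j_rc_32_1 lc_j_rc_25_1 lc_j_rc_8_1 lc_j_rc_17_1 lc_j_rc_32_1 lc_j_rc_25_1 lc_j_rc_8_1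 lc_j_rc_17_1 lc_j_rc_38_3 lc_j_rc_8_1 lc_j_rc_17_1 lc_j_rc_51_2 lc_j_rc_49_1) (@D3.rec (fun _ => (Cert rels S Gen.j)) lc_j_rc_25_1 lc_j_rc_17_1 lc_j_rc_45_1 lc_j_rc_17_1 lc_j_rc_32_1 lc_j_rc_8_1 lc_j_rc_17_1 lc_j_rc_8_1 lc_j_rc_17_1 lc_j_rc_32_1 lc_j_rc_8_1 lc_j_rc_17_1 lc_j_rc_17_3 lc_j_rc_17_1 lc_j_rc_25_1 lc_j_rc_8_1 lc_j_rc_17_1 lc_j_rc_51_2 lc_j_rc_17_3 lc_j_rc_17_1 lc_j_rc_32_1 lc_j_rc_8_1 lc_j_rc_38_1 lc_j_rc_32_3 lc_j_rc_45_1 lc_j_rc_32_1 lc_j_rc_8_1 lc_j_rc_17_1 lc_j_rc_38_1 lc_j_rc_32_1 lc_j_rc_8_1 lc_j_rc_8_1 lc_j_rc_17_1 lc_j_rc_8_1 lc_j_rc_8_1 lc_j_rc_17_1 lc_j_rc_25_1 lc_j_rc_17_1 lc_j_rc_25_1 lc_j_rc_8_1 lc_j_rc_17_1 lc_j_rc_32_1 lc_j_rc_25_1 lc_j_rc_8_1 lc_j_rc_17_1 lc_j_rc_51_2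 lc_j_rc_8_1 lc_j_rc_17_1 lc_j_rc_8_1 lc_j_rc_17_1 lc_j_rc_8_1) (@D3.rec (fun _ => (Cert rels S Gen.j)) lc_j_rc_49_3 lc_j_rc_8_1 lc_j_rc_17_1 lc_j_rc_8_1 lc_j_rc_8_3 lc_j_rc_8_1 lc_j_rc_25_1 lc_j_rc_49_3 lc_j_rc_8_1 lc_j_rc_53_2 lc_j_rc_8_3 lc_j_rc_52_0 lc_j_rc_8_1 lc_j_rc_38_1 lc_j_rc_17_1 lc_j_rc_45_3 lc_j_rc_8_1 lc_j_rc_45_3 lc_j_rc_8_1 lc_j_rc_8_1 lc_j_rc_51_2 lc_j_rc_53_2 lc_j_rc_8_1 lc_j_rc_8_1 lc_j_rc_53_2 lc_j_rc_53_2 lc_j_rc_53_2 lc_j_rc_53_2 lc_j_rc_49_3 lc_j_rc_38_1 lc_j_rc_38_1 lc_j_rc_8_3 lc_j_rc_45_3 lc_j_rc_38_1 lc_j_rc_17_1 lc_j_rc_38_1 lc_j_rc_17_3 lc_j_rc_17_3 lc_j_rc_17_1 lc_j_rc_25_1 lc_j_rc_53_2 lc_j_rc_17_1 lc_j_rc_49_3 lc_j_rc_17_1 lc_j_rc_17_1 lc_j_rc_53_0 lc_j_rc_17_1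 lc_j_rc_32_1 lc_j_rc_38_1 lc_j_rc_53_2 lc_j_rc_53_2) (@D3.rec (fun _ => (Cert rels S Gen.j)) lc_j_rc_25_3 lc_j_rc_17_1 lc_j_rc_53_2 lc_j_rc_17_1 lc_j_rc_25_1 lc_j_rc_38_1 lc_j_rc_38_1 lc_j_rc_17_1 lc_j_rc_17_1 lc_j_rc_53_0 lc_j_rc_53_0 lc_j_rc_45_1 lc_j_rc_17_1 lc_j_rc_25_3 lc_j_rc_8_1 lc_j_rc_17_1 lc_j_rc_25_1 lc_j_rc_53_2 lc_j_rc_53_2 lc_j_rc_38_1 lc_j_rc_38_1 lc_j_rc_53_2 lc_j_rc_8_3 lc_j_rc_25_1 lc_j_rc_53_2 lc_j_rc_53_2 lc_j_rc_8_3 lc_j_rc_51_0 lc_j_rc_8_1 lc_j_rc_17_1 lc_j_rc_8_3 lc_j_rc_25_1 lc_j_rc_17_1 lc_j_rc_32_1 lc_j_rc_25_1 lc_j_rc_17_3 lc_j_rc_25_3 lc_j_rc_17_1 lc_j_rc_53_2 lc_j_rc_17_1 lc_j_rc_25_1 lc_j_rc_51_2 lc_j_rc_49_3 lc_j_rc_51_2 lc_j_rc_17_1 lc_j_rc_8_3 lc_j_rc_53_2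 lc_j_rc_17_1 lc_j_rc_8_3 lc_j_rc_38_1 lc_j_rc_25_3) (@D3.rec (fun _ => (Cert rels S Gen.j)) lc_j_rc_25_3 lc_j_rc_53_0 lc_j_rc_25_1 lc_j_rc_38_1 lc_j_rc_17_1 lc_j_rc_17_1 lc_j_rc_25_1 lc_j_rc_8_1 lc_j_rc_8_1 lc_j_rc_17_1 lc_j_rc_32_1 lc_j_rc_52_1 lc_j_rc_38_1 lc_j_rc_32_1 lc_j_rc_25_1 lc_j_rc_45_1 lc_j_rc_45_1 lc_j_rc_45_3 lc_j_rc_45_1 lc_j_rc_8_1 lc_j_rc_53_2 lc_j_rc_32_1 lc_j_rc_25_1 lc_j_rc_49_3 lc_j_rc_8_1 lc_j_rc_17_1 lc_j_rc_32_1 lc_j_rc_38_1 lc_j_rc_49_3 lc_j_rc_53_2 lc_j_rc_53_2 lc_j_Cert_tree lc_j_rc_52_0 lc_j_rc_8_1 lc_j_rc_17_1 lc_j_rc_32_1 lc_j_rc_17_1 lc_j_rc_25_1 lc_j_rc_8_1 lc_j_rc_17_1 lc_j_rc_32_1 lc_j_rc_8_1 lc_j_rc_8_1 lc_j_rc_17_3 lc_j_rc_17_1 lc_j_rc_38_3 lc_j_rc_25_1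 lc_j_rc_53_2 lc_j_rc_8_3 lc_j_rc_8_1 lc_j_rc_17_1) (@D3.rec (fun _ => (Cert rels S Gen.j)) lc_j_rc_32_1 lc_j_rc_25_1 lc_j_rc_8_1 lc_j_rc_17_1 lc_j_rc_53_0 lc_j_rc_32_1 lc_j_rc_51_0 lc_j_rc_25_3 lc_j_rc_53_2 lc_j_rc_25_3 lc_j_rc_17_1 lc_j_rc_25_1 lc_j_rc_8_1 lc_j_rc_17_1 lc_j_rc_25_1 lc_j_rc_8_1 lc_j_rc_17_1 lc_j_rc_32_1 lc_j_rc_8_1 lc_j_rc_17_1 lc_j_rc_8_1 lc_j_rc_8_1 lc_j_rc_17_1 lc_j_rc_52_0 lc_j_rc_8_3 lc_j_rc_32_1 lc_j_rc_38_1 lc_j_rc_53_2 lc_j_rc_8_3 lc_j_rc_25_1 lc_j_rc_52_0 lc_j_rc_8_3 lc_j_rc_52_0 lc_j_rc_8_3 lc_j_rc_52_0 lc_j_rc_8_1 lc_j_rc_17_1 lc_j_rc_32_1 lc_j_rc_38_1 lc_j_rc_8_1 lc_j_rc_17_1 lc_j_rc_53_0 lc_j_rc_45_1 lc_j_rc_32_1 lc_j_rc_8_1 lc_j_rc_53_2 lc_j_rc_45_1 lc_j_rc_32_1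 lc_j_rc_25_1 lc_j_rc_45_3 lc_j_rc_53_0) (@D3.rec (fun _ => (Cert rels S Gen.j)) lc_j_rc_52_0 lc_j_rc_8_3 lc_j_rc_38_1 lc_j_rc_32_1 lc_j_rc_53_2 lc_j_rc_53_2 lc_j_rc_17_1 lc_j_rc_17_1 lc_j_rc_25_1 lc_j_rc_51_0 lc_j_rc_52_1 lc_j_rc_8_3 lc_j_rc_38_1 lc_j_rc_53_2 lc_j_rc_8_1 lc_j_rc_17_1 lc_j_rc_32_1 lc_j_rc_17_1 lc_j_rc_17_1 lc_j_rc_8_1 lc_j_rc_17_1 lc_j_rc_45_1 lc_j_rc_17_1 lc_j_rc_45_1 lc_j_rc_8_1 lc_j_rc_8_1 lc_j_rc_17_1 lc_j_rc_8_1 lc_j_rc_38_1 lc_j_rc_45_3 lc_j_rc_8_1 lc_j_rc_25_3 lc_j_rc_17_1 lc_j_rc_8_1 lc_j_rc_17_1 lc_j_rc_32_1 lc_j_rc_52_0 lc_j_rc_17_1 lc_j_rc_32_1 lc_j_rc_38_1 lc_j_rc_38_1 lc_j_rc_51_2 lc_j_rc_8_3 lc_j_rc_25_1 lc_j_rc_8_1 lc_j_rc_17_1 lc_j_rc_51_2 lc_j_rc_45_1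 lc_j_rc_17_1 lc_j_rc_45_1 lc_j_rc_8_1) (@D3.rec (fun _ => (Cert rels S Gen.j)) lc_j_rc_17_1 lc_j_rc_25_1 lc_j_rc_25_1 lc_j_rc_8_1 lc_j_rc_17_1 lc_j_rc_51_2 lc_j_rc_8_1 lc_j_rc_17_1 lc_j_rc_49_3 lc_j_rc_17_1 lc_j_rc_17_1 lc_j_rc_32_1 lc_j_rc_8_1 lc_j_rc_17_1 lc_j_rc_8_1 lc_j_rc_17_1 lc_j_rc_32_1 lc_j_rc_49_3 lc_j_rc_49_3 lc_j_rc_38_1 lc_j_rc_8_1 lc_j_rc_17_1 lc_j_rc_8_1 lc_j_rc_17_1 lc_j_rc_17_1 lc_j_rc_8_1 lc_j_rc_45_3 lc_j_rc_17_3 lc_j_rc_53_2 lc_j_rc_32_1 lc_j_rc_8_1 lc_j_rc_17_1 lc_j_rc_45_3 lc_j_rc_8_1 lc_j_rc_52_1 lc_j_rc_38_3 lc_j_rc_53_2 lc_j_rc_8_1 lc_j_rc_8_1 lc_j_rc_17_1 lc_j_rc_32_1 lc_j_rc_49_3 lc_j_rc_17_1 lc_j_rc_32_1 lc_j_rc_8_1 lc_j_rc_17_1 lc_j_rc_51_2 lc_j_rc_51_2 lc_j_rc_38_1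 lc_j_rc_38_1 lc_j_rc_45_1) (@D3.rec (fun _ => (Cert rels S Gen.j)) lc_j_rc_45_1 lc_j_rc_49_3 lc_j_rc_8_1 lc_j_rc_52_0 lc_j_rc_25_1 lc_j_rc_38_3 lc_j_rc_38_1 lc_j_rc_49_1 lc_j_rc_49_1 lc_j_rc_51_2 lc_j_rc_32_1 lc_j_rc_32_1 lc_j_rc_38_1 lc_j_rc_52_0 lc_j_rc_38_1 lc_j_rc_51_0 lc_j_rc_49_1 lc_j_rc_8_3 lc_j_rc_38_1 lc_j_rc_38_1 lc_j_rc_45_1 lc_j_rc_8_1 lc_j_rc_17_1 lc_j_rc_45_1 lc_j_rc_45_1 lc_j_rc_32_1 lc_j_rc_38_1 lc_j_rc_51_2 lc_j_rc_52_1 lc_j_rc_17_3 lc_j_rc_17_1 lc_j_rc_51_2 lc_j_rc_8_1 lc_j_rc_25_1 lc_j_rc_17_1 lc_j_rc_53_2 lc_j_rc_49_3 lc_j_rc_17_1 lc_j_rc_32_1 lc_j_rc_8_1 lc_j_rc_17_1 lc_j_rc_45_1 lc_j_rc_51_2 lc_j_rc_8_1 lc_j_rc_17_1 lc_j_rc_32_1 lc_j_rc_8_1 lc_j_rc_17_1 lc_j_rc_8_3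 lc_j_rc_38_1 lc_j_rc_8_1) (@D3.rec (fun _ => (Cert rels S Gen.j)) lc_j_rc_25_1 lc_j_rc_17_1 lc_j_rc_53_2 lc_j_rc_51_2 lc_j_rc_8_1 lc_j_rc_17_1 lc_j_rc_51_2 lc_j_rc_8_1 lc_j_rc_17_1 lc_j_rc_25_1 lc_j_rc_8_1 lc_j_rc_8_1 lc_j_rc_45_1 lc_j_rc_17_1 lc_j_rc_25_1 lc_j_rc_49_3 lc_j_rc_45_1 lc_j_rc_38_1 lc_j_rc_25_3 lc_j_rc_17_1 lc_j_rc_32_1 lc_j_rc_8_1 lc_j_rc_17_1 lc_j_rc_17_1 lc_j_rc_49_5 lc_j_rc_17_1 lc_j_rc_17_1 lc_j_rc_8_1 lc_j_rc_25_1 lc_j_rc_17_1 lc_j_rc_8_1 lc_j_rc_53_2 lc_j_rc_53_2 lc_j_rc_49_3 lc_j_rc_8_1 lc_j_rc_8_1 lc_j_rc_17_1 lc_j_rc_51_2 lc_j_rc_8_1 lc_j_rc_17_1 lc_j_rc_25_1 lc_j_rc_8_1 lc_j_rc_17_1 lc_j_rc_17_1 lc_j_rc_45_1 lc_j_rc_38_1 lc_j_rc_8_1 lc_j_rc_17_1 lc_j_rc_53_2 lc_j_rc_8_1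 lc_j_rc_17_1) (@D3.rec (fun _ => (Cert rels S Gen.j)) lc_j_rc_8_1 lc_j_rc_45_1 lc_j_rc_17_1 lc_j_rc_8_3 lc_j_rc_25_1 lc_j_rc_8_1 lc_j_rc_8_1 lc_j_rc_25_1 lc_j_rc_17_1 lc_j_rc_45_3 lc_j_rc_25_1 lc_j_rc_17_1 lc_j_rc_8_1 lc_j_rc_17_1 lc_j_rc_32_1 lc_j_rc_25_1 lc_j_rc_52_1 lc_j_rc_38_1 lc_j_rc_32_1 lc_j_rc_25_1 lc_j_rc_8_1 lc_j_rc_17_1 lc_j_rc_17_1 lc_j_rc_45_1 lc_j_rc_38_1 lc_j_rc_38_3 lc_j_rc_32_1 lc_j_rc_8_1 lc_j_rc_38_1 lc_j_rc_25_1 lc_j_rc_52_1 lc_j_rc_17_1 lc_j_rc_38_1 lc_j_rc_53_2 lc_j_rc_45_1 lc_j_rc_17_1 lc_j_rc_51_2 lc_j_rc_8_1 lc_j_rc_17_1 lc_j_rc_8_1 lc_j_rc_8_1 lc_j_rc_17_1 lc_j_rc_8_1 lc_j_rc_51_2 lc_j_rc_8_3 lc_j_rc_17_1 lc_j_rc_8_1 lc_j_rc_8_1 lc_j_rc_17_1 lc_j_rc_45_1 lc_j_rc_38_1)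 (@D3.rec (fun _ => (Cert rels S Gen.j)) lc_j_rc_25_1 lc_j_rc_17_1 lc_j_rc_8_1 lc_j_rc_17_1 lc_j_rc_45_1 lc_j_rc_38_1 lc_j_rc_25_1 lc_j_rc_25_1 lc_j_rc_17_1 lc_j_rc_17_1 lc_j_rc_17_1 lc_j_rc_17_3 lc_j_rc_51_2 lc_j_rc_8_1 lc_j_rc_17_1 lc_j_rc_25_3 lc_j_rc_45_1 lc_j_rc_8_1 lc_j_rc_17_1 lc_j_rc_51_2 lc_j_rc_8_1 lc_j_rc_17_1 lc_j_rc_8_1 lc_j_rc_17_1 lc_j_rc_32_1 lc_j_rc_8_1 lc_j_rc_17_1 lc_j_rc_45_1 lc_j_rc_8_1 lc_j_rc_8_1 lc_j_rc_17_1 lc_j_rc_51_2 lc_j_rc_51_0 lc_j_rc_38_3 lc_j_rc_8_1 lc_j_rc_8_1 lc_j_rc_17_1 lc_j_rc_8_1 lc_j_rc_51_0 lc_j_rc_51_0 lc_j_rc_38_1 lc_j_rc_49_5 lc_j_rc_53_2 lc_j_rc_53_2 lc_j_rc_32_1 lc_j_rc_25_1 lc_j_rc_53_2 lc_j_rc_17_1 lc_j_rc_8_1 lc_j_rc_17_1 lc_j_rc_32_1) (@D3.rec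 (fun _ => (Cert rels S Gen.j)) lc_j_rc_8_1 lc_j_rc_8_1 lc_j_rc_17_1 lc_j_rc_32_1 lc_j_rc_8_1 lc_j_rc_17_1 lc_j_rc_8_1 lc_j_rc_17_1 lc_j_rc_8_1 lc_j_rc_17_1 lc_j_rc_8_1 lc_j_rc_25_1 lc_j_rc_25_1 lc_j_rc_17_1 lc_j_rc_17_1 lc_j_rc_17_3 lc_j_rc_8_1 lc_j_rc_25_1 lc_j_rc_17_1 lc_j_rc_53_2 lc_j_rc_8_1 lc_j_rc_8_1 lc_j_rc_17_1 lc_j_rc_32_1 lc_j_rc_8_1 lc_j_rc_17_1 lc_j_rc_8_1 lc_j_rc_17_1 lc_j_rc_45_1 lc_j_rc_8_1 lc_j_rc_17_1 lc_j_rc_8_1 lc_j_rc_45_3 lc_j_rc_51_2 lc_j_rc_32_1 lc_j_rc_53_2 lc_j_rc_17_1 lc_j_rc_17_1 lc_j_rc_8_1 lc_j_rc_17_1 lc_j_rc_8_1 lc_j_rc_25_1 lc_j_rc_8_1 lc_j_rc_8_1 lc_j_rc_53_0 lc_j_rc_17_3 lc_j_rc_17_1 lc_j_rc_51_0 lc_j_rc_25_1 lc_j_rc_17_3 lc_j_rc_17_1) (@D3.rec (fun _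 => (Cert rels S Gen.j)) lc_j_rc_17_1 lc_j_rc_53_2 lc_j_rc_53_2 lc_j_rc_8_3 lc_j_rc_45_3 lc_j_rc_38_1 lc_j_rc_52_1 lc_j_rc_17_1 lc_j_rc_8_3 lc_j_rc_53_2 lc_j_rc_8_3 lc_j_rc_52_1 lc_j_rc_52_1 lc_j_rc_17_1 lc_j_rc_25_1 lc_j_rc_17_1 lc_j_rc_17_1 lc_j_rc_17_1 lc_j_rc_32_1 lc_j_rc_25_1 lc_j_rc_25_3 lc_j_rc_25_1 lc_j_rc_17_1 lc_j_rc_25_1 lc_j_rc_17_1 lc_j_rc_8_1 lc_j_rc_25_1 lc_j_rc_8_1 lc_j_rc_8_1 lc_j_rc_17_1 lc_j_rc_17_1 lc_j_rc_17_1 lc_j_rc_8_1 lc_j_rc_25_1 lc_j_rc_8_1 lc_j_rc_25_1 lc_j_rc_45_1 lc_j_rc_45_1 lc_j_rc_45_1 lc_j_rc_45_1 lc_j_rc_25_1 lc_j_rc_17_1 lc_j_rc_8_1 lc_j_rc_25_1 lc_j_rc_17_1 lc_j_rc_38_1 lc_j_rc_51_0 lc_j_rc_45_1 lc_j_rc_52_1 lc_j_rc_45_1 lc_j_rc_38_1) (@D3.rec (fun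 _ => (Cert rels S Gen.j)) lc_j_rc_49_3 lc_j_rc_38_1 lc_j_rc_49_3 lc_j_rc_52_1 lc_j_rc_32_1 lc_j_rc_45_1 lc_j_rc_51_0 lc_j_rc_51_2 lc_j_rc_25_1 lc_j_rc_8_1 lc_j_rc_8_1 lc_j_rc_25_1 lc_j_rc_32_1 lc_j_rc_25_1 lc_j_rc_8_1 lc_j_rc_8_1 lc_j_rc_25_1 lc_j_rc_8_1 lc_j_rc_8_1 lc_j_rc_45_1 lc_j_rc_45_1 lc_j_rc_51_0 lc_j_rc_53_2 lc_j_rc_53_0 lc_j_rc_17_1 lc_j_rc_25_1 lc_j_rc_49_3 lc_j_rc_17_1 lc_j_rc_17_1 lc_j_rc_8_1 lc_j_rc_17_1 lc_j_rc_32_1 lc_j_rc_49_3 lc_j_rc_49_3 lc_j_rc_32_1 lc_j_rc_25_1 lc_j_rc_45_1 lc_j_rc_32_1 lc_j_rc_51_2 lc_j_rc_52_0 lc_j_rc_32_1 lc_j_rc_25_1 lc_j_rc_49_1 lc_j_rc_49_1 lc_j_rc_52_0 lc_j_rc_32_1 lc_j_rc_25_1 lc_j_rc_45_1 lc_j_rc_52_0 lc_j_rc_52_0 lc_j_rc_32_1) (@D3.rec (fun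 _ => (Cert rels S Gen.j)) lc_j_rc_8_1 lc_j_rc_17_1 lc_j_rc_51_2 lc_j_rc_8_1 lc_j_rc_17_1 lc_j_rc_32_1 lc_j_rc_25_1 lc_j_rc_45_3 lc_j_rc_8_1 lc_j_rc_17_1 lc_j_rc_32_1 lc_j_rc_8_1 lc_j_rc_17_1 lc_j_rc_25_1 lc_j_rc_25_1 lc_j_rc_8_1 lc_j_rc_17_1 lc_j_rc_51_2 lc_j_rc_53_2 lc_j_rc_53_2 lc_j_rc_32_1 lc_j_rc_25_1 lc_j_rc_8_1 lc_j_rc_17_1 lc_j_rc_17_1 lc_j_rc_32_1 lc_j_rc_8_1 lc_j_rc_8_1 lc_j_rc_17_1 lc_j_rc_25_1 lc_j_rc_49_3 lc_j_rc_8_1 lc_j_rc_17_1 lc_j_rc_17_1 lc_j_rc_38_1 lc_j_rc_8_1 lc_j_rc_25_3 lc_j_rc_8_1 lc_j_rc_17_1 lc_j_rc_17_1 lc_j_rc_8_1 lc_j_rc_45_3 lc_j_rc_53_2 lc_j_rc_45_3 lc_j_rc_52_0 lc_j_rc_8_3 lc_j_rc_38_1 lc_j_rc_38_1 lc_j_rc_17_3 lc_j_rc_17_1 lc_j_rc_17_1) (@D3.rec (fun _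 => (Cert rels S Gen.j)) lc_j_rc_32_1 lc_j_rc_45_1 lc_j_rc_53_2 lc_j_rc_17_1 lc_j_rc_25_1 lc_j_rc_17_3 lc_j_rc_51_2 lc_j_rc_8_1 lc_j_rc_8_1 lc_j_rc_45_1 lc_j_rc_25_1 lc_j_rc_25_1 lc_j_rc_45_1 lc_j_rc_53_2 lc_j_rc_17_1 lc_j_rc_53_0 lc_j_rc_17_1 lc_j_rc_49_1 lc_j_rc_8_1 lc_j_rc_25_3 lc_j_rc_17_1 lc_j_rc_17_3 lc_j_rc_17_1 lc_j_rc_52_0 lc_j_rc_51_2 lc_j_rc_8_1 lc_j_rc_17_1 lc_j_rc_51_2 lc_j_rc_8_1 lc_j_rc_8_1 lc_j_rc_17_1 lc_j_rc_25_1 lc_j_rc_8_1 lc_j_rc_17_1 lc_j_rc_32_1 lc_j_rc_25_1 lc_j_rc_49_3 lc_j_rc_8_1 lc_j_rc_17_1 lc_j_rc_32_1 lc_j_rc_25_1 lc_j_rc_49_3 lc_j_rc_8_1 lc_j_rc_17_1 lc_j_rc_45_1 lc_j_rc_49_3 lc_j_rc_17_1 lc_j_rc_32_1 lc_j_rc_25_1 lc_j_rc_8_1 lc_j_rc_17_1) (@D3.rec (fun _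 => (Cert rels S Gen.j)) lc_j_rc_51_2 lc_j_rc_51_0 lc_j_rc_52_0 lc_j_rc_8_1 lc_j_rc_38_1 lc_j_rc_17_1 lc_j_rc_38_1 lc_j_rc_8_1 lc_j_rc_17_1 lc_j_rc_17_1 lc_j_rc_32_1 lc_j_rc_8_1 lc_j_rc_17_1 lc_j_rc_17_1 lc_j_rc_32_1 lc_j_rc_32_1 lc_j_rc_8_1 lc_j_rc_53_2 lc_j_rc_8_1 lc_j_rc_25_1 lc_j_rc_17_1 lc_j_rc_32_1 lc_j_rc_49_1 lc_j_rc_17_1 lc_j_rc_32_1 lc_j_rc_25_1 lc_j_rc_17_1 lc_j_rc_17_1 lc_j_rc_51_2 lc_j_rc_8_1 lc_j_rc_8_1 lc_j_rc_17_1 lc_j_rc_8_1 lc_j_rc_17_3 lc_j_rc_8_3 lc_j_rc_8_1 lc_j_rc_17_1 lc_j_rc_25_1 lc_j_rc_17_1 lc_j_rc_38_1 lc_j_rc_38_3 lc_j_rc_8_1 lc_j_rc_38_1 lc_j_rc_25_1 lc_j_rc_52_0 lc_j_rc_38_1 lc_j_rc_8_1 lc_j_rc_8_1 lc_j_rc_53_2 lc_j_rc_8_1 lc_j_rc_17_1) (@D3.rec (fun _ =>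 (Cert rels S Gen.j)) lc_j_rc_32_1 lc_j_rc_8_1 lc_j_rc_17_1 lc_j_rc_17_1 lc_j_rc_32_1 lc_j_rc_38_3 lc_j_rc_8_1 lc_j_rc_25_1 lc_j_rc_17_1 lc_j_rc_53_2 lc_j_rc_8_1 lc_j_rc_8_1 lc_j_rc_32_3 lc_j_rc_8_1 lc_j_rc_49_5 lc_j_rc_8_1 lc_j_rc_53_2 lc_j_rc_45_3 lc_j_rc_53_2 lc_j_rc_53_2 lc_j_rc_53_2 lc_j_rc_53_2 lc_j_rc_8_3 lc_j_rc_45_3 lc_j_rc_38_1 lc_j_rc_17_1 lc_j_rc_17_1 lc_j_rc_51_2 lc_j_rc_25_1 lc_j_rc_17_3 lc_j_rc_17_1 lc_j_rc_25_1 lc_j_rc_17_1 lc_j_rc_25_1 lc_j_rc_25_1 lc_j_rc_17_1 lc_j_rc_8_3 lc_j_rc_51_0 lc_j_rc_53_2 lc_j_rc_25_1 lc_j_rc_25_3 lc_j_rc_53_0 lc_j_rc_17_1 lc_j_rc_25_1 lc_j_rc_17_1 lc_j_rc_32_1 lc_j_rc_25_1 lc_j_rc_49_1 lc_j_rc_53_2 lc_j_rc_53_2 lc_j_rc_49_1) (@D3.rec (fun _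 => (Cert rels S Gen.j)) lc_j_rc_38_1 lc_j_rc_38_1 lc_j_rc_53_2 lc_j_rc_8_3 lc_j_rc_25_1 lc_j_rc_53_2 lc_j_rc_17_1 lc_j_rc_32_1 lc_j_rc_53_2 lc_j_rc_38_1 lc_j_rc_17_1 lc_j_rc_17_1 lc_j_rc_32_1 lc_j_rc_25_3 lc_j_rc_25_3 lc_j_rc_53_0 lc_j_rc_25_1 lc_j_rc_17_3 lc_j_rc_51_0 lc_j_rc_17_3 lc_j_rc_53_0 lc_j_rc_53_0 lc_j_rc_38_1 lc_j_rc_53_0 lc_j_rc_45_1 lc_j_rc_8_1 lc_j_rc_8_1 lc_j_rc_17_1 lc_j_rc_32_1 lc_j_rc_8_1 lc_j_rc_17_1 lc_j_rc_51_2 lc_j_rc_53_2 lc_j_rc_52_1 lc_j_rc_45_1 lc_j_rc_45_3 lc_j_rc_45_1 lc_j_rc_45_1 lc_j_rc_53_2 lc_j_rc_17_1 lc_j_rc_53_2 lc_j_rc_32_1 lc_j_rc_45_3 lc_j_rc_8_1 lc_j_rc_17_1 lc_j_rc_53_2 lc_j_rc_32_1 lc_j_rc_38_1 lc_j_rc_45_1 lc_j_rc_53_2 lc_j_Cert_tree) (@D3.rec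 (fun _ => (Cert rels S Gen.j)) lc_j_rc_52_0 lc_j_rc_8_1 lc_j_rc_25_1 lc_j_rc_17_1 lc_j_rc_32_1 lc_j_rc_8_1 lc_j_rc_17_1 lc_j_rc_8_1 lc_j_rc_17_1 lc_j_rc_17_3 lc_j_rc_17_1 lc_j_rc_17_1 lc_j_rc_53_2 lc_j_rc_8_1 lc_j_rc_17_1 lc_j_rc_45_1 lc_j_rc_32_1 lc_j_rc_8_1 lc_j_rc_53_0 lc_j_rc_25_1 lc_j_rc_17_1 lc_j_rc_38_1 lc_j_rc_17_1 lc_j_rc_17_1 lc_j_rc_8_1 lc_j_rc_17_1 lc_j_rc_8_1 lc_j_rc_17_1 lc_j_rc_8_1 lc_j_rc_45_3 lc_j_rc_17_1 lc_j_rc_8_3 lc_j_rc_53_2 lc_j_rc_8_3 lc_j_rc_32_3 lc_j_rc_51_0 lc_j_rc_8_1 lc_j_rc_52_1 lc_j_rc_45_1 lc_j_rc_38_1 lc_j_rc_38_1 lc_j_rc_8_1 lc_j_rc_53_0 lc_j_rc_25_1 lc_j_rc_17_1 lc_j_rc_17_1 lc_j_rc_32_1 lc_j_rc_32_1 lc_j_rc_51_0 lc_j_rc_45_1 lc_j_rc_53_2) (@D3.rec (fun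 _ => (Cert rels S Gen.j)) lc_j_rc_8_3 lc_j_rc_38_3 lc_j_rc_45_1 lc_j_rc_17_1 lc_j_rc_49_3 lc_j_rc_38_1 lc_j_rc_17_1 lc_j_rc_17_1 lc_j_rc_53_2 lc_j_rc_8_1 lc_j_rc_17_1 lc_j_rc_17_1 lc_j_rc_8_1 lc_j_rc_25_1 lc_j_rc_25_1 lc_j_rc_17_1 lc_j_rc_8_1 lc_j_rc_25_1 lc_j_rc_45_3 lc_j_rc_32_1 lc_j_rc_25_1 lc_j_rc_8_1 lc_j_rc_17_1 lc_j_rc_51_2 lc_j_rc_17_3 lc_j_rc_52_0 lc_j_rc_52_0 lc_j_rc_49_1 lc_j_rc_45_1 lc_j_rc_38_1 lc_j_rc_25_1 lc_j_rc_8_3 lc_j_rc_8_1 lc_j_rc_25_1 lc_j_rc_17_1 lc_j_rc_17_1 lc_j_rc_17_1 lc_j_rc_8_1 lc_j_rc_17_1 lc_j_rc_17_1 lc_j_rc_25_1 lc_j_rc_8_1 lc_j_rc_17_1 lc_j_rc_8_1 lc_j_rc_17_1 lc_j_rc_17_1 lc_j_rc_8_1 lc_j_rc_25_1 lc_j_rc_8_1 lc_j_rc_17_1 lc_j_rc_49_3) (@D3.rec (fun _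 => (Cert rels S Gen.j)) lc_j_rc_38_1 lc_j_rc_8_1 lc_j_rc_8_1 lc_j_rc_8_1 lc_j_rc_52_0 lc_j_rc_51_0 lc_j_rc_45_1 lc_j_rc_8_1 lc_j_rc_25_1 lc_j_rc_32_1 lc_j_rc_17_3 lc_j_rc_51_2 lc_j_rc_8_1 lc_j_rc_17_1 lc_j_rc_17_1 lc_j_rc_17_1 lc_j_rc_51_2 lc_j_rc_8_1 lc_j_rc_25_1 lc_j_rc_17_1 lc_j_rc_53_2 lc_j_rc_51_2 lc_j_rc_51_0 lc_j_rc_51_2 lc_j_rc_45_1 lc_j_rc_45_1 lc_j_rc_25_1 lc_j_rc_32_1 lc_j_rc_45_1 lc_j_rc_25_1 lc_j_rc_51_2 lc_j_rc_17_1 lc_j_rc_17_1 lc_j_rc_38_1 lc_j_rc_45_1 lc_j_rc_52_1 lc_j_rc_17_1 lc_j_rc_17_1 lc_j_rc_45_1 lc_j_rc_49_3 lc_j_rc_45_1 lc_j_rc_8_1 lc_j_rc_45_1 lc_j_rc_25_1 lc_j_rc_45_1 lc_j_rc_51_2 lc_j_rc_49_3 lc_j_rc_49_3 lc_j_rc_32_1 lc_j_rc_25_1 lc_j_rc_17_1)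
def ce_j_22 : D2 → D3 → (Cert rels S Gen.j) := @D2.rec (fun _ => D3 → (Cert rels S Gen.j)) (@D3.rec (fun _ => (Cert rels S Gen.j)) lc_j_rc_51_2 lc_j_rc_8_1 lc_j_rc_8_1 lc_j_rc_25_1 lc_j_rc_17_1 lc_j_rc_25_1 lc_j_rc_17_1 lc_j_rc_8_1 lc_j_rc_25_1 lc_j_rc_17_1 lc_j_rc_8_1 lc_j_rc_17_1 lc_j_rc_8_1 lc_j_rc_53_2 lc_j_rc_17_1 lc_j_rc_17_1 lc_j_rc_49_3 lc_j_rc_8_1 lc_j_rc_8_1 lc_j_rc_17_1 lc_j_rc_8_1 lc_j_rc_17_1 lc_j_rc_8_1 lc_j_rc_8_3 lc_j_rc_38_1 lc_j_rc_8_1 lc_j_rc_52_1 lc_j_rc_53_2 lc_j_rc_51_0 lc_j_rc_25_3 lc_j_rc_17_1 lc_j_rc_8_1 lc_j_rc_25_1 lc_j_rc_25_1 lc_j_rc_38_3 lc_j_rc_25_1 lc_j_rc_8_1 lc_j_rc_8_1 lc_j_rc_25_1 lc_j_rc_53_2 lc_j_rc_53_2 lc_j_rc_8_1 lc_j_rc_25_1 lc_j_rc_17_1 lc_j_rc_53_2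 lc_j_rc_8_1 lc_j_rc_17_1 lc_j_rc_8_1 lc_j_rc_8_1 lc_j_rc_17_1 lc_j_rc_52_1) (@D3.rec (fun _ => (Cert rels S Gen.j)) lc_j_rc_38_1 lc_j_rc_38_1 lc_j_rc_8_1 lc_j_rc_17_1 lc_j_rc_8_1 lc_j_rc_8_1 lc_j_rc_49_3 lc_j_rc_8_3 lc_j_rc_17_1 lc_j_rc_8_1 lc_j_rc_8_1 lc_j_rc_32_1 lc_j_rc_25_1 lc_j_rc_8_1 lc_j_rc_17_1 lc_j_rc_17_1 lc_j_rc_49_3 lc_j_rc_52_1 lc_j_rc_52_1 lc_j_rc_32_1 lc_j_rc_49_3 lc_j_rc_8_1 lc_j_rc_8_1 lc_j_rc_25_1 lc_j_rc_52_1 lc_j_rc_52_1 lc_j_rc_25_1 lc_j_rc_52_1 lc_j_rc_45_1 lc_j_rc_8_1 lc_j_rc_38_3 lc_j_rc_8_1 lc_j_rc_25_1 lc_j_rc_25_1 lc_j_rc_32_1 lc_j_rc_17_1 lc_j_rc_17_1 lc_j_rc_8_1 lc_j_rc_8_1 lc_j_rc_53_2 lc_j_rc_17_1 lc_j_rc_17_3 lc_j_rc_53_0 lc_j_rc_17_1 lc_j_rc_17_1 lc_j_rc_45_1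 lc_j_rc_32_1 lc_j_rc_25_1 lc_j_rc_32_1 lc_j_rc_25_1 lc_j_rc_8_1) (@D3.rec (fun _ => (Cert rels S Gen.j)) lc_j_rc_52_0 lc_j_rc_8_1 lc_j_rc_25_1 lc_j_rc_17_1 lc_j_rc_53_2 lc_j_rc_8_1 lc_j_rc_8_1 lc_j_rc_17_1 lc_j_rc_8_1 lc_j_rc_49_3 lc_j_rc_8_1 lc_j_rc_51_0 lc_j_rc_52_1 lc_j_rc_8_1 lc_j_rc_25_1 lc_j_rc_38_1 lc_j_rc_49_5 lc_j_rc_25_1 lc_j_rc_53_2 lc_j_rc_8_3 lc_j_rc_17_1 lc_j_rc_17_3 lc_j_rc_8_1 lc_j_rc_17_1 lc_j_rc_8_1 lc_j_rc_17_1 lc_j_rc_8_1 lc_j_rc_25_1 lc_j_rc_8_1 lc_j_rc_25_1 lc_j_rc_8_1 lc_j_rc_25_1 lc_j_rc_8_1 lc_j_rc_32_1 lc_j_rc_17_1 lc_j_rc_25_1 lc_j_rc_8_1 lc_j_rc_8_1 lc_j_rc_25_1 lc_j_rc_17_1 lc_j_rc_8_1 lc_j_rc_17_1 lc_j_rc_8_1 lc_j_rc_25_1 lc_j_rc_8_1 lc_j_rc_17_1 lc_j_rc_17_3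 lc_j_rc_32_1 lc_j_rc_25_1 lc_j_rc_17_1 lc_j_rc_25_1) (@D3.rec (fun _ => (Cert rels S Gen.j)) lc_j_rc_8_1 lc_j_rc_25_1 lc_j_rc_8_1 lc_j_rc_17_3 lc_j_rc_17_1 lc_j_rc_17_1 lc_j_rc_32_1 lc_j_rc_17_3 lc_j_rc_25_1 lc_j_rc_53_2 lc_j_rc_17_1 lc_j_rc_8_3 lc_j_rc_32_1 lc_j_rc_38_1 lc_j_rc_25_1 lc_j_rc_53_2 lc_j_rc_32_1 lc_j_rc_25_1 lc_j_rc_32_1 lc_j_rc_25_1 lc_j_rc_32_3 lc_j_rc_32_1 lc_j_rc_25_1 lc_j_rc_32_1 lc_j_rc_25_1 lc_j_rc_8_1 lc_j_rc_8_1 lc_j_rc_25_1 lc_j_rc_32_1 lc_j_rc_25_1 lc_j_rc_8_1 lc_j_rc_8_1 lc_j_rc_32_1 lc_j_rc_25_1 lc_j_rc_8_1 lc_j_rc_51_0 lc_j_rc_25_1 lc_j_rc_45_1 lc_j_rc_32_1 lc_j_rc_45_1 lc_j_rc_52_1 lc_j_rc_52_1 lc_j_rc_51_0 lc_j_rc_32_1 lc_j_rc_25_1 lc_j_rc_51_0 lc_j_rc_25_1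 lc_j_rc_25_1 lc_j_rc_8_1 lc_j_rc_32_3 lc_j_rc_17_1) (@D3.rec (fun _ => (Cert rels S Gen.j)) lc_j_rc_8_1 lc_j_rc_32_1 lc_j_rc_53_2 lc_j_rc_17_1 lc_j_rc_17_1 lc_j_rc_17_1 lc_j_rc_8_1 lc_j_rc_17_1 lc_j_rc_51_2 lc_j_rc_49_3 lc_j_rc_49_3 lc_j_rc_53_0 lc_j_rc_45_1 lc_j_rc_45_1 lc_j_rc_49_3 lc_j_rc_52_0 lc_j_rc_45_1 lc_j_rc_49_5 lc_j_rc_45_1 lc_j_rc_52_0 lc_j_rc_49_1 lc_j_rc_45_1 lc_j_rc_32_1 lc_j_rc_49_3 lc_j_rc_45_1 lc_j_rc_53_2 lc_j_rc_52_1 lc_j_rc_8_1 lc_j_rc_25_1 lc_j_rc_17_1 lc_j_rc_32_1 lc_j_rc_8_1 lc_j_rc_17_1 lc_j_rc_17_1 lc_j_rc_45_3 lc_j_rc_8_1 lc_j_rc_53_2 lc_j_rc_8_1 lc_j_rc_17_1 lc_j_rc_17_1 lc_j_rc_25_1 lc_j_rc_8_1 lc_j_rc_17_1 lc_j_rc_53_2 lc_j_rc_53_2 lc_j_rc_17_1 lc_j_rc_45_1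 lc_j_rc_8_1 lc_j_rc_8_1 lc_j_rc_25_1 lc_j_rc_51_2) (@D3.rec (fun _ => (Cert rels S Gen.j)) lc_j_rc_38_1 lc_j_rc_8_1 lc_j_rc_53_2 lc_j_rc_8_1 lc_j_rc_8_1 lc_j_rc_52_0 lc_j_rc_49_3 lc_j_rc_8_1 lc_j_rc_8_1 lc_j_rc_51_2 lc_j_rc_49_1 lc_j_rc_17_1 lc_j_rc_17_1 lc_j_rc_45_1 lc_j_rc_49_1 lc_j_rc_32_1 lc_j_rc_25_3 lc_j_rc_25_1 lc_j_rc_51_2 lc_j_rc_45_1 lc_j_rc_51_0 lc_j_rc_17_1 lc_j_rc_45_1 lc_j_rc_51_2 lc_j_rc_45_1 lc_j_rc_53_2 lc_j_rc_53_2 lc_j_rc_25_1 lc_j_rc_17_1 lc_j_rc_32_1 lc_j_rc_25_1 lc_j_rc_17_3 lc_j_rc_25_1 lc_j_rc_52_0 lc_j_rc_25_1 lc_j_rc_8_1 lc_j_rc_25_1 lc_j_rc_17_1 lc_j_rc_53_2 lc_j_rc_8_1 lc_j_rc_17_1 lc_j_rc_8_1 lc_j_rc_17_1 lc_j_rc_17_1 lc_j_rc_32_1 lc_j_rc_45_1 lc_j_rc_8_1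 lc_j_rc_17_1 lc_j_rc_17_1 lc_j_rc_32_1 lc_j_rc_45_1) (@D3.rec (fun _ => (Cert rels S Gen.j)) lc_j_rc_8_1 lc_j_rc_53_2 lc_j_rc_25_3 lc_j_rc_17_1 lc_j_rc_17_1 lc_j_rc_32_1 lc_j_rc_8_1 lc_j_rc_25_1 lc_j_rc_17_1 lc_j_rc_52_0 lc_j_rc_52_1 lc_j_rc_8_1 lc_j_rc_53_0 lc_j_rc_8_1 lc_j_rc_8_1 lc_j_rc_25_1 lc_j_rc_17_1 lc_j_rc_38_1 lc_j_rc_8_1 lc_j_rc_8_1 lc_j_rc_25_1 lc_j_rc_17_1 lc_j_rc_17_1 lc_j_rc_32_1 lc_j_rc_53_2 lc_j_rc_8_1 lc_j_rc_8_1 lc_j_rc_25_1 lc_j_rc_17_1 lc_j_rc_17_3 lc_j_rc_17_1 lc_j_rc_17_1 lc_j_rc_32_1 lc_j_rc_51_2 lc_j_rc_32_1 lc_j_rc_25_1 lc_j_rc_17_1 lc_j_rc_51_2 lc_j_rc_8_1 lc_j_rc_25_1 lc_j_rc_53_2 lc_j_rc_8_1 lc_j_rc_32_1 lc_j_rc_25_1 lc_j_rc_38_3 lc_j_rc_25_1 lc_j_rc_8_1 lc_j_rc_38_3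 lc_j_rc_25_1 lc_j_rc_32_1 lc_j_rc_53_2) (@D3.rec (fun _ => (Cert rels S Gen.j)) lc_j_rc_8_1 lc_j_rc_17_1 lc_j_rc_8_1 lc_j_rc_17_3 lc_j_rc_25_1 lc_j_rc_17_1 lc_j_rc_17_1 lc_j_rc_8_1 lc_j_rc_8_1 lc_j_rc_25_1 lc_j_rc_17_1 lc_j_rc_53_2 lc_j_rc_17_1 lc_j_rc_8_3 lc_j_rc_17_1 lc_j_rc_17_1 lc_j_rc_17_1 lc_j_rc_17_3 lc_j_rc_32_1 lc_j_rc_25_1 lc_j_rc_32_1 lc_j_rc_53_0 lc_j_rc_25_1 lc_j_rc_17_1 lc_j_rc_17_1 lc_j_rc_17_1 lc_j_rc_8_3 lc_j_rc_49_1 lc_j_rc_53_2 lc_j_rc_53_2 lc_j_rc_53_2 lc_j_rc_51_0 lc_j_rc_38_1 lc_j_rc_38_1 lc_j_rc_53_2 lc_j_rc_8_3 lc_j_rc_17_3 lc_j_rc_32_1 lc_j_rc_17_1 lc_j_rc_32_1 lc_j_rc_17_3 lc_j_rc_25_1 lc_j_rc_17_1 lc_j_rc_38_1 lc_j_rc_53_0 lc_j_rc_45_1 lc_j_rc_53_0 lc_j_rc_45_1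 lc_j_rc_45_1 lc_j_rc_8_1 lc_j_rc_17_1) (@D3.rec (fun _ => (Cert rels S Gen.j)) lc_j_rc_8_1 lc_j_rc_25_1 lc_j_rc_53_2 lc_j_rc_53_2 lc_j_rc_17_1 lc_j_rc_17_1 lc_j_rc_17_1 lc_j_rc_32_1 lc_j_rc_53_2 lc_j_rc_25_1 lc_j_rc_17_1 lc_j_rc_53_2 lc_j_rc_38_1 lc_j_rc_49_3 lc_j_rc_8_1 lc_j_rc_53_2 lc_j_rc_25_1 lc_j_rc_53_2 lc_j_rc_52_1 lc_j_rc_53_2 lc_j_rc_51_2 lc_j_rc_45_1 lc_j_Cert_tree lc_j_rc_52_0 lc_j_rc_8_1 lc_j_rc_32_1 lc_j_rc_25_1 lc_j_rc_17_1 lc_j_rc_8_1 lc_j_rc_8_1 lc_j_rc_25_1 lc_j_rc_32_1 lc_j_rc_17_3 lc_j_rc_25_1 lc_j_rc_32_1 lc_j_rc_45_1 lc_j_rc_25_1 lc_j_rc_17_1 lc_j_rc_38_1 lc_j_rc_8_1 lc_j_rc_32_1 lc_j_rc_25_1 lc_j_rc_17_1 lc_j_rc_17_1 lc_j_rc_8_1 lc_j_rc_8_1 lc_j_rc_25_1 lc_j_rc_32_1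 lc_j_rc_52_0 lc_j_rc_25_1 lc_j_rc_53_2) (@D3.rec (fun _ => (Cert rels S Gen.j)) lc_j_rc_32_1 lc_j_rc_45_1 lc_j_rc_25_1 lc_j_rc_45_1 lc_j_rc_51_2 lc_j_rc_45_1 lc_j_rc_8_1 lc_j_rc_32_1 lc_j_rc_32_1 lc_j_rc_25_1 lc_j_rc_25_1 lc_j_rc_52_0 lc_j_rc_17_1 lc_j_rc_51_0 lc_j_rc_53_2 lc_j_rc_17_1 lc_j_rc_51_2 lc_j_rc_52_0 lc_j_rc_17_1 lc_j_rc_8_1 lc_j_rc_25_1 lc_j_rc_8_1 lc_j_rc_32_1 lc_j_rc_25_1 lc_j_rc_8_1 lc_j_rc_45_3 lc_j_rc_8_1 lc_j_rc_25_1 lc_j_rc_17_1 lc_j_rc_52_0 lc_j_rc_51_2 lc_j_rc_25_1 lc_j_rc_45_1 lc_j_rc_51_2 lc_j_rc_49_3 lc_j_rc_51_2 lc_j_rc_8_1 lc_j_rc_8_1 lc_j_rc_25_1 lc_j_rc_17_1 lc_j_rc_25_1 lc_j_rc_8_1 lc_j_rc_8_1 lc_j_rc_17_1 lc_j_rc_8_1 lc_j_rc_17_1 lc_j_rc_25_1 lc_j_rc_8_1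 lc_j_rc_8_1 lc_j_rc_25_1 lc_j_rc_38_1) (@D3.rec (fun _ => (Cert rels S Gen.j)) lc_j_rc_52_0 lc_j_rc_25_1 lc_j_rc_45_1 lc_j_rc_8_1 lc_j_rc_32_1 lc_j_rc_25_1 lc_j_rc_8_1 lc_j_rc_25_1 lc_j_rc_17_1 lc_j_rc_25_1 lc_j_rc_17_1 lc_j_rc_8_1 lc_j_rc_8_1 lc_j_rc_25_1 lc_j_rc_17_1 lc_j_rc_51_0 lc_j_rc_49_1 lc_j_rc_49_3 lc_j_rc_45_1 lc_j_rc_52_0 lc_j_rc_52_0 lc_j_rc_25_1 lc_j_rc_17_3 lc_j_rc_17_3 lc_j_rc_17_1 lc_j_rc_17_3 lc_j_rc_17_3 lc_j_rc_25_1 lc_j_rc_53_2 lc_j_rc_17_1 lc_j_rc_52_1 lc_j_rc_8_1 lc_j_rc_45_1 lc_j_rc_51_2 lc_j_rc_49_3 lc_j_rc_25_1 lc_j_rc_25_1 lc_j_rc_32_3 lc_j_rc_32_3 lc_j_rc_25_1 lc_j_rc_17_1 lc_j_rc_17_1 lc_j_rc_8_1 lc_j_rc_8_1 lc_j_rc_25_1 lc_j_rc_25_1 lc_j_rc_32_1 lc_j_rc_25_1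 lc_j_rc_8_1 lc_j_rc_32_1 lc_j_rc_25_1) (@D3.rec (fun _ => (Cert rels S Gen.j)) lc_j_rc_8_1 lc_j_rc_8_1 lc_j_rc_17_3 lc_j_rc_17_1 lc_j_rc_8_1 lc_j_rc_8_1 lc_j_rc_53_2 lc_j_rc_52_1 lc_j_rc_53_2 lc_j_rc_53_2 lc_j_rc_32_1 lc_j_rc_25_1 lc_j_rc_8_1 lc_j_rc_38_3 lc_j_rc_17_1 lc_j_rc_8_1 lc_j_rc_53_2 lc_j_rc_25_1 lc_j_rc_8_1 lc_j_rc_8_1 lc_j_rc_25_1 lc_j_rc_17_1 lc_j_rc_8_1 lc_j_rc_17_3 lc_j_rc_51_2 lc_j_rc_17_1 lc_j_rc_53_2 lc_j_rc_8_1 lc_j_rc_8_1 lc_j_rc_53_2 lc_j_rc_17_1 lc_j_rc_45_1 lc_j_rc_8_1 lc_j_rc_8_1 lc_j_rc_25_1 lc_j_rc_8_1 lc_j_rc_53_2 lc_j_rc_25_1 lc_j_rc_53_2 lc_j_rc_51_2 lc_j_rc_8_1 lc_j_rc_52_1 lc_j_rc_25_1 lc_j_rc_25_1 lc_j_rc_51_2 lc_j_rc_25_1 lc_j_rc_51_2 lc_j_rc_17_1 lc_j_rc_25_1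 lc_j_rc_8_1 lc_j_rc_32_1) (@D3.rec (fun _ => (Cert rels S Gen.j)) lc_j_rc_8_1 lc_j_rc_25_1 lc_j_rc_25_1 lc_j_rc_45_1 lc_j_rc_53_0 lc_j_rc_38_3 lc_j_rc_25_1 lc_j_rc_8_1 lc_j_rc_8_1 lc_j_rc_25_1 lc_j_rc_17_1 lc_j_rc_8_1 lc_j_rc_25_1 lc_j_rc_49_3 lc_j_rc_8_1 lc_j_rc_25_1 lc_j_rc_53_2 lc_j_rc_17_3 lc_j_rc_25_1 lc_j_rc_8_1 lc_j_rc_25_1 lc_j_rc_8_1 lc_j_rc_25_1 lc_j_rc_8_1 lc_j_rc_8_1 lc_j_rc_8_1 lc_j_rc_17_1 lc_j_rc_32_1 lc_j_rc_17_1 lc_j_rc_8_1 lc_j_rc_8_1 lc_j_rc_25_1 lc_j_rc_8_1 lc_j_rc_25_1 lc_j_rc_8_1 lc_j_rc_17_3 lc_j_rc_25_1 lc_j_rc_25_1 lc_j_rc_8_1 lc_j_rc_17_1 lc_j_rc_32_1 lc_j_rc_17_3 lc_j_rc_25_1 lc_j_rc_38_1 lc_j_rc_32_1 lc_j_rc_53_2 lc_j_rc_25_1 lc_j_rc_38_3 lc_j_rc_32_1 lc_j_rc_25_1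 lc_j_rc_53_0) (@D3.rec (fun _ => (Cert rels S Gen.j)) lc_j_rc_32_1 lc_j_rc_38_3 lc_j_rc_17_1 lc_j_rc_8_1 lc_j_rc_25_1 lc_j_rc_17_1 lc_j_rc_17_1 lc_j_rc_38_1 lc_j_rc_17_1 lc_j_rc_25_1 lc_j_rc_52_1 lc_j_rc_25_1 lc_j_rc_52_1 lc_j_rc_53_2 lc_j_rc_51_0 lc_j_rc_25_1 lc_j_rc_25_1 lc_j_rc_25_1 lc_j_rc_38_1 lc_j_rc_17_1 lc_j_rc_45_3 lc_j_rc_17_1 lc_j_rc_45_1 lc_j_rc_17_1 lc_j_rc_8_1 lc_j_rc_25_1 lc_j_rc_17_1 lc_j_rc_38_1 lc_j_rc_53_0 lc_j_rc_45_1 lc_j_rc_53_0 lc_j_rc_51_2 lc_j_rc_53_2 lc_j_rc_25_1 lc_j_rc_51_2 lc_j_rc_51_2 lc_j_rc_45_1 lc_j_rc_45_1 lc_j_rc_8_1 lc_j_rc_8_1 lc_j_rc_25_1 lc_j_rc_53_2 lc_j_rc_52_0 lc_j_rc_17_1 lc_j_rc_38_1 lc_j_rc_38_1 lc_j_rc_45_1 lc_j_rc_8_1 lc_j_rc_8_1 lc_j_rc_25_1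 lc_j_rc_17_1) (@D3.rec (fun _ => (Cert rels S Gen.j)) lc_j_rc_8_1 lc_j_rc_8_1 lc_j_rc_25_1 lc_j_rc_17_1 lc_j_rc_53_2 lc_j_rc_8_1 lc_j_rc_8_1 lc_j_rc_17_1 lc_j_rc_8_1 lc_j_rc_53_2 lc_j_rc_17_1 lc_j_rc_25_1 lc_j_rc_52_0 lc_j_rc_49_3 lc_j_rc_8_1 lc_j_rc_52_0 lc_j_rc_25_1 lc_j_rc_52_0 lc_j_rc_53_2 lc_j_rc_38_1 lc_j_rc_17_1 lc_j_rc_17_1 lc_j_rc_25_1 lc_j_rc_53_2 lc_j_rc_17_1 lc_j_rc_49_3 lc_j_rc_32_3 lc_j_rc_51_2 lc_j_rc_45_1 lc_j_rc_25_1 lc_j_rc_25_1 lc_j_rc_53_2 lc_j_rc_53_2 lc_j_rc_53_2 lc_j_rc_32_1 lc_j_rc_25_1 lc_j_rc_32_3 lc_j_rc_45_3 lc_j_rc_25_1 lc_j_rc_8_1 lc_j_rc_8_1 lc_j_rc_25_1 lc_j_rc_17_1 lc_j_rc_8_1 lc_j_rc_8_1 lc_j_rc_8_1 lc_j_rc_25_1 lc_j_rc_17_1 lc_j_rc_8_3 lc_j_rc_8_1 lc_j_rc_8_1)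 (@D3.rec (fun _ => (Cert rels S Gen.j)) lc_j_rc_25_1 lc_j_rc_17_1 lc_j_rc_53_0 lc_j_rc_53_2 lc_j_rc_32_1 lc_j_rc_17_3 lc_j_rc_25_1 lc_j_rc_17_1 lc_j_rc_8_1 lc_j_rc_8_1 lc_j_rc_25_1 lc_j_rc_53_0 lc_j_rc_8_1 lc_j_rc_8_1 lc_j_rc_25_1 lc_j_rc_52_0 lc_j_rc_8_1 lc_j_rc_8_1 lc_j_rc_32_1 lc_j_rc_25_1 lc_j_rc_25_1 lc_j_rc_17_1 lc_j_rc_17_1 lc_j_rc_8_1 lc_j_rc_32_1 lc_j_rc_25_1 lc_j_rc_32_1 lc_j_rc_25_1 lc_j_rc_25_1 lc_j_rc_17_1 lc_j_rc_17_1 lc_j_rc_38_3 lc_j_rc_32_1 lc_j_rc_25_1 lc_j_rc_17_1 lc_j_rc_8_1 lc_j_rc_38_1 lc_j_rc_25_1 lc_j_rc_17_1 lc_j_rc_25_1 lc_j_rc_52_0 lc_j_rc_25_1 lc_j_rc_8_1 lc_j_rc_25_1 lc_j_rc_8_1 lc_j_rc_32_1 lc_j_rc_32_1 lc_j_rc_25_1 lc_j_rc_25_1 lc_j_rc_17_1 lc_j_rc_8_1)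 (@D3.rec (fun _ => (Cert rels S Gen.j)) lc_j_rc_8_1 lc_j_rc_25_1 lc_j_rc_25_1 lc_j_rc_32_1 lc_j_rc_53_2 lc_j_rc_25_1 lc_j_rc_32_1 lc_j_rc_17_1 lc_j_rc_25_1 lc_j_rc_32_1 lc_j_rc_38_3 lc_j_rc_17_1 lc_j_rc_32_1 lc_j_rc_53_2 lc_j_rc_25_1 lc_j_rc_17_1 lc_j_rc_53_2 lc_j_rc_53_2 lc_j_rc_25_1 lc_j_rc_53_2 lc_j_rc_17_1 lc_j_rc_53_2 lc_j_rc_53_2 lc_j_rc_32_1 lc_j_rc_32_1 lc_j_rc_32_1 lc_j_rc_32_1 lc_j_rc_25_1 lc_j_rc_49_3 lc_j_rc_45_1 lc_j_rc_45_1 lc_j_rc_8_1 lc_j_rc_25_1 lc_j_rc_8_1 lc_j_rc_17_1 lc_j_rc_17_1 lc_j_rc_17_1 lc_j_rc_32_3 lc_j_rc_32_1 lc_j_rc_53_2 lc_j_rc_25_1 lc_j_rc_53_2 lc_j_rc_53_2 lc_j_rc_8_1 lc_j_rc_53_2 lc_j_rc_49_3 lc_j_rc_53_2 lc_j_rc_25_1 lc_j_rc_25_1 lc_j_rc_53_2 lc_j_rc_17_1)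 (@D3.rec (fun _ => (Cert rels S Gen.j)) lc_j_rc_52_0 lc_j_rc_17_1 lc_j_rc_38_3 lc_j_rc_32_1 lc_j_rc_25_1 lc_j_rc_8_1 lc_j_rc_38_3 lc_j_rc_38_1 lc_j_rc_32_1 lc_j_rc_25_1 lc_j_rc_17_1 lc_j_rc_17_1 lc_j_rc_38_3 lc_j_rc_17_1 lc_j_rc_25_1 lc_j_rc_8_1 lc_j_rc_38_1 lc_j_rc_25_1 lc_j_rc_52_1 lc_j_rc_52_1 lc_j_rc_25_1 lc_j_rc_25_1 lc_j_rc_52_1 lc_j_rc_17_1 lc_j_rc_38_3 lc_j_rc_38_3 lc_j_rc_32_1 lc_j_rc_32_1 lc_j_rc_25_1 lc_j_rc_25_1 lc_j_rc_49_3 lc_j_rc_8_1 lc_j_rc_17_1 lc_j_rc_45_1 lc_j_rc_17_1 lc_j_rc_53_2 lc_j_rc_8_1 lc_j_rc_8_1 lc_j_rc_25_1 lc_j_rc_25_1 lc_j_rc_45_1 lc_j_rc_51_2 lc_j_rc_49_3 lc_j_rc_25_1 lc_j_rc_25_1 lc_j_rc_17_1 lc_j_rc_8_1 lc_j_rc_32_1 lc_j_rc_8_1 lc_j_rc_25_1 lc_j_rc_17_1)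 (@D3.rec (fun _ => (Cert rels S Gen.j)) lc_j_rc_8_1 lc_j_rc_25_1 lc_j_rc_45_1 lc_j_rc_25_1 lc_j_rc_17_1 lc_j_rc_25_1 lc_j_rc_8_1 lc_j_rc_38_1 lc_j_rc_32_3 lc_j_rc_25_1 lc_j_rc_17_1 lc_j_rc_8_1 lc_j_rc_8_1 lc_j_rc_25_1 lc_j_rc_49_3 lc_j_rc_45_1 lc_j_rc_25_1 lc_j_rc_17_1 lc_j_rc_25_1 lc_j_rc_53_2 lc_j_rc_17_3 lc_j_rc_51_2 lc_j_rc_25_1 lc_j_rc_25_1 lc_j_rc_17_1 lc_j_rc_25_1 lc_j_rc_25_1 lc_j_rc_53_2 lc_j_rc_38_3 lc_j_rc_51_2 lc_j_rc_25_1 lc_j_rc_17_1 lc_j_rc_25_1 lc_j_rc_8_1 lc_j_rc_25_1 lc_j_rc_38_3 lc_j_rc_17_1 lc_j_rc_32_1 lc_j_rc_17_1 lc_j_rc_53_2 lc_j_rc_32_3 lc_j_rc_17_1 lc_j_rc_49_3 lc_j_rc_17_1 lc_j_rc_25_1 lc_j_rc_17_1 lc_j_rc_8_1 lc_j_rc_8_1 lc_j_rc_25_1 lc_j_rc_17_1 lc_j_rc_53_2)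 (@D3.rec (fun _ => (Cert rels S Gen.j)) lc_j_rc_17_1 lc_j_rc_8_1 lc_j_rc_25_1 lc_j_rc_53_2 lc_j_rc_8_1 lc_j_rc_25_1 lc_j_rc_25_1 lc_j_rc_17_1 lc_j_rc_25_1 lc_j_rc_45_1 lc_j_rc_25_1 lc_j_rc_52_1 lc_j_rc_25_1 lc_j_rc_38_3 lc_j_rc_17_1 lc_j_rc_25_1 lc_j_rc_8_1 lc_j_rc_53_0 lc_j_rc_25_3 lc_j_rc_17_1 lc_j_rc_8_1 lc_j_rc_8_1 lc_j_rc_25_1 lc_j_rc_8_1 lc_j_rc_17_1 lc_j_rc_38_3 lc_j_rc_25_1 lc_j_rc_8_1 lc_j_rc_8_1 lc_j_rc_17_1 lc_j_rc_17_1 lc_j_rc_17_1 lc_j_rc_32_1 lc_j_rc_17_1 lc_j_rc_8_1 lc_j_rc_8_1 lc_j_rc_17_1 lc_j_rc_51_0 lc_j_rc_25_1 lc_j_rc_17_1 lc_j_rc_38_1 lc_j_rc_17_1 lc_j_rc_32_1 lc_j_rc_51_2 lc_j_rc_45_1 lc_j_rc_51_0 lc_j_rc_17_1 lc_j_rc_17_1 lc_j_rc_17_1 lc_j_rc_53_2 lc_j_rc_45_1)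 (@D3.rec (fun _ => (Cert rels S Gen.j)) lc_j_rc_51_0 lc_j_rc_25_1 lc_j_rc_51_0 lc_j_rc_25_1 lc_j_rc_25_1 lc_j_rc_25_3 lc_j_rc_49_1 lc_j_rc_17_1 lc_j_rc_8_1 lc_j_rc_8_1 lc_j_rc_25_1 lc_j_rc_45_1 lc_j_rc_53_0 lc_j_rc_25_1 lc_j_rc_51_2 lc_j_rc_51_2 lc_j_rc_25_1 lc_j_rc_51_2 lc_j_rc_17_1 lc_j_rc_25_1 lc_j_rc_53_2 lc_j_rc_8_1 lc_j_rc_17_1 lc_j_rc_25_1 lc_j_rc_25_1 lc_j_rc_53_2 lc_j_rc_17_1 lc_j_rc_17_1 lc_j_rc_8_1 lc_j_rc_32_1 lc_j_rc_25_1 lc_j_rc_8_1 lc_j_rc_17_1 lc_j_rc_8_1 lc_j_rc_25_1 lc_j_rc_51_2 lc_j_rc_25_1 lc_j_rc_53_2 lc_j_rc_17_1 lc_j_rc_25_1 lc_j_rc_51_2 lc_j_rc_25_1 lc_j_rc_25_1 lc_j_rc_53_2 lc_j_rc_17_1 lc_j_rc_25_1 lc_j_rc_25_1 lc_j_rc_53_2 lc_j_rc_32_3 lc_j_rc_25_1 lc_j_rc_25_1)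 (@D3.rec (fun _ => (Cert rels S Gen.j)) lc_j_rc_53_2 lc_j_rc_25_1 lc_j_rc_32_1 lc_j_rc_17_1 lc_j_rc_51_2 lc_j_rc_38_3 lc_j_rc_17_1 lc_j_rc_8_1 lc_j_rc_8_1 lc_j_rc_25_1 lc_j_rc_8_1 lc_j_rc_8_1 lc_j_rc_53_0 lc_j_rc_25_1 lc_j_rc_8_1 lc_j_rc_8_1 lc_j_rc_53_0 lc_j_rc_25_1 lc_j_rc_32_3 lc_j_rc_32_1 lc_j_rc_25_1 lc_j_rc_17_1 lc_j_rc_8_1 lc_j_rc_17_1 lc_j_rc_8_1 lc_j_rc_45_1 lc_j_rc_25_1 lc_j_rc_17_1 lc_j_rc_8_1 lc_j_rc_38_1 lc_j_rc_32_1 lc_j_rc_25_1 lc_j_rc_17_1 lc_j_rc_32_1 lc_j_rc_25_1 lc_j_rc_17_1 lc_j_rc_32_1 lc_j_rc_25_1 lc_j_rc_25_1 lc_j_rc_53_2 lc_j_rc_32_1 lc_j_rc_51_2 lc_j_rc_25_1 lc_j_rc_17_1 lc_j_rc_45_3 lc_j_rc_38_3 lc_j_rc_45_1 lc_j_rc_25_1 lc_j_rc_8_1 lc_j_rc_17_1 lc_j_rc_38_1)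 (@D3.rec (fun _ => (Cert rels S Gen.j)) lc_j_rc_38_3 lc_j_rc_17_1 lc_j_rc_45_1 lc_j_rc_8_1 lc_j_rc_25_1 lc_j_rc_32_1 lc_j_rc_38_1 lc_j_rc_17_1 lc_j_rc_17_1 lc_j_rc_32_1 lc_j_rc_17_1 lc_j_rc_25_1 lc_j_rc_53_2 lc_j_rc_17_3 lc_j_rc_53_2 lc_j_rc_25_1 lc_j_rc_17_1 lc_j_rc_49_1 lc_j_rc_38_3 lc_j_rc_49_3 lc_j_rc_25_1 lc_j_rc_8_1 lc_j_rc_17_1 lc_j_rc_17_1 lc_j_rc_32_3 lc_j_rc_8_1 lc_j_rc_53_2 lc_j_rc_25_1 lc_j_rc_25_1 lc_j_rc_17_1 lc_j_rc_25_1 lc_j_rc_25_1 lc_j_rc_53_2 lc_j_rc_17_1 lc_j_rc_25_1 lc_j_rc_25_1 lc_j_rc_17_1 lc_j_rc_32_3 lc_j_rc_17_1 lc_j_rc_17_1 lc_j_rc_17_1 lc_j_rc_38_3 lc_j_rc_17_1 lc_j_rc_25_1 lc_j_rc_17_1 lc_j_rc_45_3 lc_j_rc_17_1 lc_j_rc_51_0 lc_j_rc_51_0 lc_j_rc_25_1 lc_j_rc_25_1)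 (@D3.rec (fun _ => (Cert rels S Gen.j)) lc_j_rc_51_2 lc_j_rc_25_1 lc_j_rc_17_1 lc_j_rc_17_1 lc_j_rc_25_1 lc_j_rc_25_1 lc_j_rc_17_1 lc_j_rc_53_2 lc_j_rc_17_1 lc_j_rc_8_1 lc_j_rc_51_0 lc_j_rc_25_1 lc_j_rc_25_1 lc_j_rc_17_1 lc_j_rc_53_2 lc_j_rc_25_1 lc_j_rc_17_1 lc_j_rc_45_1 lc_j_rc_25_1 lc_j_rc_25_3 lc_j_rc_17_1 lc_j_rc_53_0 lc_j_rc_38_1 lc_j_rc_17_1 lc_j_rc_8_1 lc_j_rc_25_1 lc_j_rc_32_1 lc_j_rc_25_1 lc_j_rc_25_1 lc_j_rc_51_2 lc_j_rc_32_1 lc_j_rc_53_0 lc_j_rc_51_2 lc_j_rc_51_2 lc_j_rc_17_1 lc_j_rc_25_1 lc_j_rc_17_1 lc_j_rc_17_1 lc_j_rc_17_1 lc_j_rc_49_3 lc_j_rc_17_1 lc_j_rc_8_1 lc_j_rc_17_1 lc_j_rc_51_0 lc_j_rc_25_1 lc_j_rc_25_1 lc_j_rc_38_1 lc_j_rc_32_1 lc_j_rc_25_1 lc_j_rc_25_1 lc_j_rc_17_1)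 (@D3.rec (fun _ => (Cert rels S Gen.j)) lc_j_rc_17_1 lc_j_rc_8_1 lc_j_rc_17_1 lc_j_rc_38_1 lc_j_rc_17_1 lc_j_rc_17_1 lc_j_rc_17_1 lc_j_rc_17_1 lc_j_rc_17_1 lc_j_rc_53_2 lc_j_rc_45_1 lc_j_rc_25_1 lc_j_rc_38_1 lc_j_rc_17_1 lc_j_rc_8_1 lc_j_rc_38_3 lc_j_rc_25_1 lc_j_rc_52_0 lc_j_rc_17_3 lc_j_rc_25_1 lc_j_rc_25_1 lc_j_rc_51_0 lc_j_rc_25_1 lc_j_rc_25_1 lc_j_rc_8_1 lc_j_rc_17_3 lc_j_rc_25_1 lc_j_rc_25_1 lc_j_rc_17_1 lc_j_rc_32_1 lc_j_rc_17_1 lc_j_rc_38_1 lc_j_rc_25_1 lc_j_rc_53_2 lc_j_rc_25_1 lc_j_rc_32_3 lc_j_rc_25_1 lc_j_rc_32_3 lc_j_rc_25_1 lc_j_rc_25_1 lc_j_rc_53_2 lc_j_rc_25_1 lc_j_rc_32_3 lc_j_rc_51_2 lc_j_rc_25_1 lc_j_rc_17_1 lc_j_rc_17_1 lc_j_rc_8_1 lc_j_rc_17_1 lc_j_rc_8_1 lc_j_rc_17_1)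 (@D3.rec (fun _ => (Cert rels S Gen.j)) lc_j_rc_8_1 lc_j_rc_17_1 lc_j_rc_38_3 lc_j_rc_17_1 lc_j_rc_17_1 lc_j_rc_25_1 lc_j_rc_17_1 lc_j_rc_17_1 lc_j_rc_38_3 lc_j_rc_17_1 lc_j_rc_53_2 lc_j_rc_38_1 lc_j_rc_38_1 lc_j_rc_53_0 lc_j_rc_51_2 lc_j_rc_51_0 lc_j_rc_17_1 lc_j_rc_17_1 lc_j_rc_17_1 lc_j_rc_17_1 lc_j_rc_17_1 lc_j_rc_25_1 lc_j_rc_53_2 lc_j_rc_17_1 lc_j_rc_17_1 lc_j_rc_49_1 lc_j_rc_25_1 lc_j_rc_17_1 lc_j_rc_25_1 lc_j_rc_17_1 lc_j_rc_53_2 lc_j_rc_25_1 lc_j_rc_25_1 lc_j_rc_51_0 lc_j_rc_53_0 lc_j_rc_25_1 lc_j_rc_25_1 lc_j_rc_17_1 lc_j_rc_17_1 lc_j_rc_25_1 lc_j_rc_51_2 lc_j_rc_51_0 lc_j_rc_38_1 lc_j_rc_25_1 lc_j_rc_25_1 lc_j_rc_17_1 lc_j_rc_17_1 lc_j_rc_51_0 lc_j_rc_38_1 lc_j_rc_45_1 lc_j_rc_17_1)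 (@D3.rec (fun _ => (Cert rels S Gen.j)) lc_j_rc_17_1 lc_j_rc_32_1 lc_j_rc_49_3 lc_j_rc_51_2 lc_j_rc_53_2 lc_j_rc_17_1 lc_j_rc_53_2 lc_j_rc_49_3 lc_j_rc_45_1 lc_j_rc_17_1 lc_j_rc_45_1 lc_j_rc_17_1 lc_j_rc_45_1 lc_j_rc_25_1 lc_j_rc_25_1 lc_j_rc_53_2 lc_j_rc_49_3 lc_j_rc_25_1 lc_j_rc_25_1 lc_j_rc_53_2 lc_j_rc_45_1 lc_j_rc_25_1 lc_j_rc_38_1 lc_j_rc_32_3 lc_j_rc_49_1 lc_j_rc_25_1 lc_j_rc_51_0 lc_j_rc_17_1 lc_j_rc_17_1 lc_j_rc_17_1 lc_j_rc_17_1 lc_j_rc_51_0 lc_j_rc_17_1 lc_j_rc_17_1 lc_j_rc_17_1 lc_j_rc_51_2 lc_j_rc_51_2 lc_j_rc_53_2 lc_j_rc_53_0 lc_j_rc_53_2 lc_j_rc_53_2 lc_j_rc_51_2 lc_j_rc_49_1 lc_j_rc_53_2 lc_j_rc_45_1 lc_j_rc_45_1 lc_j_rc_49_1 lc_j_rc_53_2 lc_j_rc_53_2 lc_j_rc_53_2 lc_j_rc_51_2)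
def ce_j : Pt → (Cert rels S Gen.j) := @Pt.rec (fun _ => (Cert rels S Gen.j)) (@D1.rec (fun _ => D2 → D3 → (Cert rels S Gen.j)) ce_j_0 ce_j_1 ce_j_2 ce_j_3 ce_j_4 ce_j_5 ce_j_6 ce_j_7 ce_j_8 ce_j_9 ce_j_10 ce_j_11 ce_j_12 ce_j_13 ce_j_14 ce_j_15 ce_j_16 ce_j_17 ce_j_18 ce_j_19 ce_j_20 ce_j_21 ce_j_22)
def isSeed_j (p : Pt) : Bool := false

end

end Cfsg.Agent.Helper28.S1689
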