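import Cfsg.Agent.Lib.Helper28.S1689.Lv_a
import Cfsg.Agent.Lib.Helper28.S1689.Lv_b
import Cfsg.Agent.Lib.Helper28.S1689.Lv_c
import Cfsg.Agent.Lib.Helper28.S1689.Lv_d
import Cfsg.Agent.Lib.Helper28.S1689.Lv_e
import Cfsg.Agent.Lib.Helper28.S1689.Lv_f
import Cfsg.Agent.Lib.Helper28.S1689.Lv_g
import Cfsg.Agent.Lib.Helper28.S1689.Lv_j
import Cfsg.Agent.Lib.Helper28.S1689.Lv_h
import Cfsg.Agent.Lib.Helper28.S1689.Lv_i

set_option autoImplicit false
set_option maxRecDepth 100000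
set_option linter.all false

namespace Cfsg.Agent.Helper28.S1689

open Cfsg.Agent.Helper28
open Cfsg.Spor.Fi23 (Gen)

noncomputable section

def lvl : Gen → Pt → Nat := @Gen.rec (fun _ => Pt → Nat) lv_a lv_b lv_c lv_d lv_e lv_f lv_g lv_j lv_h lv_i
def cert : (x : Gen) → Pt → Cert rels S x := @Gen.rec (fun x => Pt → Cert rels S x) ce_a ce_b ce_c ce_d ce_e ce_f ce_g ce_j ce_h ce_i
def isSeed : Gen → Pt → Bool := @Gen.rec (fun _ => Pt → Bool) isSeed_a isSeed_b isSeed_c isSeed_d isSeed_e isSeed_f isSeed_g isSeed_j isSeed_h isSeed_i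

/-- coset of a point -/
abbrev P (p : Pt) : PresentedGroup rels ⧸ subH rels S := psiW rels S fwd inv o plet idx p

end

end Cfsg.Agent.Helper28.S1689
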