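import Cfsg.Agent.Lib.Helper28.S1689.Tree

set_option autoImplicit false
set_option maxRecDepth 100000
set_option linter.all false

namespace Cfsg.Agent.Helper28.S1689

open Cfsg.Agent.Helper28
open Cfsg.Spor.Fi23 (Gen)

noncomputable section

def lv_a_0 : D2 → D3 → Nat := @D2.rec (fun _ => D3 → Nat) (@D3.rec (fun _ => Nat) 1 2 3 4 5 6 7 7 0 8 8 1 2 9 9 2 3 3 10 10 3 3 4 4 4 11 11 11 4 4 4 5 5 5 5 5 12 12 12 9 5 5 5 5 5 6 6 6 6 6 6) (@D3.rec (fun _ => Nat) 6 13 13 13 13 10 10 6 6 6 6 6 6 6 7 7 7 7 7 7 7 7 7 7 7 14 14 14 14 11 11 11 11 7 7 7 7 7 7 7 7 7 7 7 8 8 8 8 8 8 8) (@D3.rec (fun _ => Nat) 8 8 8 8 8 8 8 8 15 15 15 15 0 12 12 12 12 12 12 12 12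 8 8 8 8 8 8 8 8 8 8 8 8 8 8 8 9 9 9 9 9 9 9 9 9 9 9 9 9 9 9) (@D3.rec (fun _ => Nat) 9 9 9 9 9 0 16 16 16 0 16 1 13 13 13 13 13 13 13 13 13 13 13 13 13 13 13 9 9 9 9 9 9 9 9 9 9 9 9 9 9 9 9 9 9 9 9 0 10 10 10) (@D3.rec (fun _ => Nat) 10 10 10 10 10 10 10 10 10 10 10 10 10 10 10 10 10 0 10 10 10 10 10 10 0 10 1 17 17 0 17 17 1 2 17 14 14 14 14 14 14 14 14 14 14 14 14 14 14 14 14) (@D3.rec (fun _ => Nat) 14 14 14 14 14 14 14 14 10 10 10 10 10 10 10 10 10 10 10 10 10 10 10 10 10 10 10 10 0 10 10 10 10 10 10 0 10 1 11 11 11 11 11 11 11 11 11 11 11 11 11) (@D3.rec (fun _ => Nat) 11 11 11 11 11 11 11 11 0 11 11 11 11 11 0 11 11 1 2 11 11 11 11 11 0 11 11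 1 2 11 0 18 18 1 2 18 18 2 3 18 15 15 15 15 15 15 15 15 15 15 15) (@D3.rec (fun _ => Nat) 15 15 15 15 15 15 15 15 15 15 15 15 15 15 15 15 15 15 15 15 15 15 15 0 15 15 15 15 15 11 11 11 11 11 11 11 11 11 11 11 11 11 11 11 11 11 11 11 11 11 0) (@D3.rec (fun _ => Nat) 11 11 11 11 11 0 11 11 1 2 11 11 11 11 11 0 11 11 1 2 11 12 12 12 12 12 12 12 12 12 12 12 12 12 16 12 12 12 12 12 12 12 12 12 12 12 12 0 12 12 0) (@D3.rec (fun _ => Nat) 12 12 1 2 12 12 12 12 12 0 12 12 1 2 12 12 12 2 3 12 12 0 12 12 1 2 12 12 2 3 12 1 2 19 19 19 2 3 3 19 19 3 16 16 16 16 16 16 16 16 16) (@D3.rec (fun _ => Nat) 16 16 16 16 16 16 16 16 16 16 16 16 16 16 16 16 16 16 16 16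 16 16 16 16 16 16 16 16 16 16 16 16 0 16 16 16 16 16 0 16 16 1 2 16 16 16 16 16 16 16 12) (@D3.rec (fun _ => Nat) 12 12 12 12 12 12 12 12 12 12 12 12 12 12 12 12 12 12 12 12 12 12 12 12 0 12 12 0 12 12 1 2 12 12 12 12 12 0 12 12 1 2 12 12 12 2 3 12 12 0 12) (@D3.rec (fun _ => Nat) 12 1 2 12 12 2 3 12 13 13 13 13 13 13 13 13 13 13 13 13 13 13 17 13 13 13 13 13 13 13 13 71 13 13 13 13 13 13 13 0 13 13 0 13 13 1 2 13 13 13 1) (@D3.rec (fun _ => Nat) 2 13 13 13 2 3 3 13 13 13 0 13 13 1 2 13 13 13 2 3 3 13 13 13 13 3 4 13 1 2 13 13 13 2 3 3 13 13 3 2 3 3 20 20 20 3 3 4 20 20 17) (@D3.rec (fun _ => Nat) 17 17 17 17 17 17 17 17 17 17 17 17 17 17 17 17 17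 17 17 17 17 17 17 17 17 17 0 17 17 17 17 17 17 17 17 17 17 17 17 17 17 17 17 17 17 17 17 17 17 17 17) (@D3.rec (fun _ => Nat) 17 0 17 17 0 17 17 1 2 17 17 17 17 17 0 17 17 1 2 17 17 17 2 3 3 17 17 17 17 17 17 17 17 17 13 13 13 13 13 13 13 13 13 13 13 13 13 13 13 13 13) (@D3.rec (fun _ => Nat) 13 13 13 13 13 0 13 13 13 13 13 13 13 0 13 13 0 13 13 1 2 13 13 13 1 2 13 13 13 2 3 3 13 13 13 0 13 13 1 2 13 13 13 2 3 3 13 13 13 13 3) (@D3.rec (fun _ => Nat) 4 13 1 2 13 13 13 2 3 3 13 13 3 4 68 72 14 14 14 14 14 14 14 14 18 14 14 14 14 14 14 14 18 14 14 14 14 14 14 14 14 73 14 14 14 14 14 71 14 14 14) (@D3.rec (fun _ => Nat) 14 14 0 14 14 0 14 14 1 2 14 14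 14 1 2 14 14 14 2 3 3 14 14 14 14 2 3 3 14 14 14 14 3 3 4 4 4 14 14 14 1 2 14 14 14 2 3 3 14 14 14) (@D3.rec (fun _ => Nat) 14 3 3 4 4 14 14 14 4 5 2 3 3 14 14 14 3 3 4 14 14 3 3 4 4 21 21 21 4 5 21 18 18 18 18 18 18 18 18 18 18 18 18 18 18 18 18 18 18 18 18) (@D3.rec (fun _ => Nat) 18 18 18 18 18 18 18 18 0 18 18 18 18 18 0 18 18 1 2 18 18 18 18 18 18 18 18 18 18 18 18 18 18 18 18 18 18 18 18 18 18 0 18 18 18 18 18 18 18 0 18) (@D3.rec (fun _ => Nat) 18 0 18 18 1 2 18 18 18 1 2 18 18 18 2 3 3 18 18 18 18 0 18 18 1 2 18 18 18 2 3 3 18 18 18 18 3 3 4 4 4 18 18 18 18 18 18 18 18 18 18) (@D3.rec (fun _ => Nat) 14 14 14 14 14 14 14 14 14 14 14 14 14 14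 14 14 14 14 14 14 14 14 14 0 14 14 14 67 14 14 1 2 14 14 14 14 14 0 14 14 0 14 14 1 2 14 14 14 1 2 14) (@D3.rec (fun _ => Nat) 14 14 2 3 3 14 14 14 14 2 3 3 14 14 14 14 3 3 4 4 4 14 14 14 1 2 14 14 14 2 3 3 14 14 14 14 3 3 4 4 66 4 14 14 70 14 4 5 2 3 3) (@D3.rec (fun _ => Nat) 14 14 14 3 3 4 4 68 14 14 72 4 73 15 15 15 15 15 19 15 15 15 15 15 15 15 22 15 15 15 15 15 15 73 15 15 15 15 15 73 15 15 15 15 15 71 15 15 15 15 15) (@D3.rec (fun _ => Nat) 15 15 69 71 15 15 15 15 0 15 15 1 2 15 15 15 1 2 15 15 15 2 3 3 15 15 15 15 2 3 3 15 15 15 15 3 3 4 4 15 15 15 15 3 3 4 4 4 4 15 15) (@D3.rec (fun _ => Nat) 15 15 4 4 4 5 5 5 5 15 15 2 3 3 15 15 15 15 3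 3 4 4 15 15 15 15 4 4 5 5 15 15 5 3 3 4 4 15 15 15 4 5 15 4 4 5 5 22 22 22 5)
def lv_a_1 : D2 → D3 → Nat := @D2.rec (fun _ => D3 → Nat) (@D3.rec (fun _ => Nat) 22 19 19 19 19 19 19 19 19 19 19 19 19 19 19 19 19 19 19 19 19 19 19 0 19 19 19 19 19 19 19 19 19 0 19 19 19 19 0 19 19 1 2 19 19 19 19 19 0 19 19) (@D3.rec (fun _ => Nat) 1 2 19 19 19 2 3 3 19 19 19 19 19 19 19 19 19 19 19 19 19 19 19 19 19 19 19 19 19 19 19 0 19 19 19 19 69 19 19 1 2 19 19 19 19 19 0 19 19 0 19) (@D3.rec (fun _ => Nat) 19 1 2 19 19 19 1 2 19 19 19 2 3 3 19 19 19 19 2 3 3 19 19 19 19 3 3 4 4 4 4 19 19 19 19 19 1 2 19 19 19 2 3 3 19 19 19 19 3 3 4) (@D3.rec (fun _ => Nat) 4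 4 4 19 19 19 19 19 4 4 4 5 5 5 5 5 19 19 19 19 19 19 19 19 19 19 19 19 15 15 15 15 15 15 15 15 15 15 15 15 15 15 15 15 15 15 0 15 15 15 15) (@D3.rec (fun _ => Nat) 15 0 15 15 15 69 15 15 1 2 15 15 15 15 67 15 15 15 2 3 3 15 15 15 15 0 15 15 1 2 15 15 15 1 2 15 15 15 2 3 3 15 15 15 15 2 3 3 15 15 15) (@D3.rec (fun _ => Nat) 15 3 3 4 4 66 4 15 15 15 70 15 3 3 4 4 4 4 15 15 15 15 4 4 4 5 5 5 5 15 15 2 3 3 15 15 15 15 3 3 4 4 68 4 15 15 15 72 15 4 4) (@D3.rec (fun _ => Nat) 4 5 62 5 66 5 15 15 70 5 3 3 4 4 70 4 15 15 15 74 4 4 5 70 5 70 15 74 65 20 16 16 16 16 16 16 16 16 23 16 16 16 16 16 16 75 16 16 23 16 16) (@D3.rec (fun _ => Nat) 16 16 16 16 75 16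 16 16 16 16 16 73 16 16 16 16 16 16 16 71 73 16 16 16 16 16 16 16 16 71 69 71 71 16 16 16 16 1 2 16 16 16 2 3 3 16 16 16 16 2 3) (@D3.rec (fun _ => Nat) 3 16 16 16 16 3 3 4 4 16 16 16 16 3 3 4 4 16 16 16 16 4 4 5 5 5 16 16 16 16 4 4 4 4 5 5 5 5 5 5 16 16 16 16 16 5 5 5 5 6 6) (@D3.rec (fun _ => Nat) 6 6 16 16 3 3 4 4 16 16 16 16 4 4 5 5 5 16 16 16 16 5 5 6 16 4 4 5 5 16 16 16 5 16 5 5 6 23 23 23 23 20 20 20 20 20 20 20 20 20 0) (@D3.rec (fun _ => Nat) 20 20 20 20 20 20 20 20 20 20 20 20 20 20 0 20 20 71 20 20 1 2 20 20 20 20 20 20 0 20 20 20 20 0 20 20 1 2 20 20 20 0 20 20 1 2 20 20 20 2 3) (@D3.rec (fun _ => Nat) 3 20 20 20 20 0 20 20 1 2 20 20 20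 2 3 3 20 20 20 20 3 3 4 4 4 4 20 20 20 20 20 20 20 20 20 20 20 20 20 20 20 20 20 20 0 20 20 20 20 20 0) (@D3.rec (fun _ => Nat) 20 20 20 20 69 20 20 1 2 20 20 20 20 20 63 20 20 20 2 3 3 20 20 20 20 0 20 20 1 2 20 20 20 1 2 20 20 20 2 3 3 20 20 20 20 2 3 3 20 20 20) (@D3.rec (fun _ => Nat) 20 3 3 4 4 4 4 20 20 20 20 20 3 3 61 4 62 4 20 20 20 20 20 4 4 4 4 5 61 5 5 5 60 5 20 20 20 20 20 2 3 3 20 20 20 20 3 3 4 4 4) (@D3.rec (fun _ => Nat) 4 20 20 20 20 20 4 4 4 4 5 5 5 5 5 5 5 20 20 20 20 20 5 5 5 5 5 6 6 6 6 6 20 20 20 20 20 20 20 20 20 20 20 20 20 20 20 16 16 16 16) (@D3.rec (fun _ => Nat) 16 16 16 16 16 16 16 16 16 16 0 16 16 16 16 16 16 69 16 16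 1 2 16 16 16 16 69 16 16 1 2 16 16 16 16 67 16 16 16 2 3 3 16 16 16 16 16 65 65 16 16) (@D3.rec (fun _ => Nat) 16 3 3 4 4 4 4 16 16 16 70 16 1 2 16 16 16 2 3 3 16 16 16 16 2 3 3 16 16 16 16 3 3 4 4 66 4 16 16 16 70 16 3 3 4 4 69 4 16 16 16) (@D3.rec (fun _ => Nat) 70 16 4 4 4 5 64 5 5 64 5 16 16 16 16 68 4 4 4 4 5 61 5 5 5 5 16 16 16 16 17 5 5 5 5 6 6 6 6 16 16 3 3 4 4 68 4 16 16 16 72) (@D3.rec (fun _ => Nat) 16 4 4 4 5 64 5 5 68 5 16 16 16 16 72 5 5 5 6 62 68 6 66 16 70 4 4 4 5 70 5 5 70 16 16 16 74 5 5 6 70 70 70 16 74 70 21 17 17 17 17) (@D3.rec (fun _ => Nat) 17 17 17 17 75 17 17 24 17 17 17 17 17 17 75 17 17 17 24 24 17 17 17 17 17 75 73 17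 17 17 17 17 17 17 17 71 73 17 17 17 17 17 17 17 17 71 71 71 71 17 17) (@D3.rec (fun _ => Nat) 17 17 17 17 17 17 69 68 69 72 71 17 17 17 17 2 3 3 17 17 17 17 3 3 4 4 17 17 17 17 3 3 4 4 17 17 17 17 4 4 5 5 5 17 17 17 17 4 4 5 5) (@D3.rec (fun _ => Nat) 5 17 17 17 17 5 5 5 6 6 17 17 17 17 17 5 5 5 5 5 5 6 6 6 71 6 6 6 6 17 17 17 17 17 17 6 6 6 6 7 7 7 7 7 17 4 4 5 5 5 17) (@D3.rec (fun _ => Nat) 17 17 17 5 5 5 6 6 17 17 17 17 6 5 5 6 17 17 17 17 6 7 24 24 24 21 21 21 21 21 21 21 21 21 21 0 21 21 1 2 21 21 21 21 21 21 21 21 21 21 0) (@D3.rec (fun _ => Nat) 21 21 21 21 0 21 21 71 21 21 1 2 21 21 21 71 21 21 21 2 3 3 21 21 21 21 21 21 0 21 21 1 2 21 21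 21 0 21 21 1 2 21 21 21 2 3 3 21 21 21 21) (@D3.rec (fun _ => Nat) 1 2 21 21 21 2 3 3 21 21 21 21 3 3 4 4 4 4 21 21 21 21 21 1 75 21 21 21 2 62 3 21 21 21 21 3 3 61 4 60 4 21 21 21 21 21 4 4 4 4 5) (@D3.rec (fun _ => Nat) 61 5 5 5 56 5 21 21 21 21 21 21 21 21 21 21 21 21 21 21 21 0 21 21 21 21 21 71 21 21 1 2 21 21 21 21 21 71 21 21 1 2 21 21 21 21 21 63 21 21 21) (@D3.rec (fun _ => Nat) 2 3 3 21 21 21 21 21 21 21 69 61 21 21 21 21 3 3 4 4 4 4 21 21 21 21 21 1 2 21 21 21 2 3 3 21 21 21 21 2 3 3 21 21 21 21 3 3 4 4 4)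
def lv_a_2 : D2 → D3 → Nat := @D2.rec (fun _ => D3 → Nat) (@D3.rec (fun _ => Nat) 4 21 21 21 21 21 3 3 4 4 4 4 21 21 21 21 21 4 4 4 4 5 5 5 5 5 5 5 21 21 21 21 21 4 4 59 5 5 60 5 21 21 21 21 21 5 5 5 5 5 6) (@D3.rec (fun _ => Nat) 6 61 6 6 6 6 60 21 21 21 21 21 21 21 3 3 4 4 4 4 21 21 21 21 21 4 4 4 4 5 5 5 5 5 5 5 21 21 21 21 21 5 5 5 5 5 5 5 6 6 6) (@D3.rec (fun _ => Nat) 70 6 6 6 6 6 6 21 21 21 21 21 21 21 6 6 6 6 6 7 7 7 7 7 7 7 21 21 21 21 21 21 21 21 21 21 21 21 21 0 21 17 17 17 17 17 17 17 17 0 17) (@D3.rec (fun _ => Nat) 17 17 17 17 17 71 17 17 1 2 17 17 17 17 17 71 17 17 17 2 3 3 17 17 17 17 17 69 17 17 17 2 3 3 17 17 17 17 17 67 69 17 17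 17 3 3 4 4 4 4 17) (@D3.rec (fun _ => Nat) 17 17 72 17 17 65 65 67 17 17 17 4 4 4 4 5 5 5 5 5 68 5 17 17 17 17 70 2 3 3 17 17 17 17 3 3 4 4 68 4 17 17 17 72 17 3 3 4 4 69 4) (@D3.rec (fun _ => Nat) 17 17 17 72 17 4 4 4 5 66 5 5 68 5 17 17 17 17 72 4 4 4 5 65 5 5 67 5 17 17 17 17 73 5 5 5 5 6 6 64 66 6 66 6 66 17 17 17 69 17 70) (@D3.rec (fun _ => Nat) 5 5 5 5 5 6 6 61 6 6 6 6 17 17 17 17 17 18 6 6 6 6 7 7 7 7 7 17 4 4 4 5 64 5 5 70 5 17 17 17 17 74 5 5 5 5 6 6 70 70 6) (@D3.rec (fun _ => Nat) 70 6 68 17 17 17 74 17 72 6 6 7 62 68 68 68 72 5 5 5 6 6 72 72 6 72 72 17 17 17 76 76 6 7 72 72 70 72 17 76 71 25 22 18 18 18 18 18 18 18 18) (@D3.rec (fun _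 => Nat) 18 77 18 18 18 25 25 18 18 18 18 18 77 75 18 18 18 18 24 18 18 18 18 18 77 75 77 73 18 18 18 18 18 18 18 18 73 73 73 75 18 18 18 18 18 18 18 18 73 73 73) (@D3.rec (fun _ => Nat) 73 73 18 18 18 18 18 18 70 71 71 70 71 71 18 18 18 18 18 3 3 4 4 18 18 18 18 4 4 5 5 5 4 4 5 5 5 18 18 18 18 5 5 5 6 6 5 5 5 6 6) (@D3.rec (fun _ => Nat) 18 18 18 18 18 6 6 7 7 18 6 6 6 6 6 6 6 7 7 7 7 7 69 7 7 7 7 7 18 18 18 18 18 18 18 7 7 7 7 7 8 8 8 8 5 5 5 6 6 6 6) (@D3.rec (fun _ => Nat) 7 6 7 7 25 25 22 22 22 22 22 22 22 22 0 22 22 0 22 22 1 2 22 22 22 2 3 3 22 22 22 22 22 22 22 22 22 0 22 22 71 22 22 1 2 22 22 22 71 22 22) (@D3.rec (fun _ => Nat) 1 2 22 22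 22 69 22 22 22 2 3 3 22 22 22 22 73 70 22 22 22 22 3 3 4 4 4 4 22 22 22 22 22 0 22 22 1 2 22 22 22 2 3 3 22 22 22 22 1 2 22) (@D3.rec (fun _ => Nat) 22 22 2 3 3 22 22 22 22 3 3 4 4 4 4 22 22 22 22 22 2 3 3 22 22 22 22 3 3 4 4 4 4 22 22 22 22 22 4 4 4 4 5 5 5 5 5 5 5 22 22) (@D3.rec (fun _ => Nat) 22 22 22 70 22 22 22 3 60 4 22 22 22 22 4 4 61 5 5 60 5 22 22 22 22 22 5 5 5 5 5 6 6 59 6 6 6 6 60 22 22 22 22 22 22 22 22 22 22 22 22) (@D3.rec (fun _ => Nat) 0 22 22 22 22 22 71 22 22 1 2 22 22 22 22 22 22 22 71 22 22 22 2 3 3 22 22 22 22 22 22 65 22 22 22 2 3 3 22 22 22 22 22 22 22 69 69 22 22 22 22) (@D3.rec (fun _ => Nat) 3 3 4 4 4 4 22 22 22 22 22 22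 22 22 22 65 67 69 63 22 22 22 22 22 4 4 4 4 5 5 5 5 5 5 5 22 22 22 22 22 2 3 3 22 22 22 22 3 3 4 4) (@D3.rec (fun _ => Nat) 4 4 22 22 22 22 22 3 3 4 4 4 4 22 22 22 22 22 4 4 4 4 5 5 5 5 5 5 5 22 22 22 22 22 4 4 4 4 5 5 5 5 5 5 5 22 22 22 22 22 7) (@D3.rec (fun _ => Nat) 5 5 5 5 5 5 5 6 6 6 66 6 6 6 6 6 6 22 22 22 22 22 22 22 5 5 5 59 61 6 60 6 62 22 22 22 22 22 22 22 6 6 6 6 6 6 7 7 59 7 59) (@D3.rec (fun _ => Nat) 7 7 7 7 58 7 60 22 22 22 22 22 22 22 22 4 4 4 4 5 5 5 5 5 5 5 22 22 22 22 22 5 5 5 5 5 5 5 6 6 6 70 6 6 6 6 6 6 22 22 22) (@D3.rec (fun _ => Nat) 22 22 22 22 6 6 6 6 6 6 6 6 6 7 7 7 7 68 7 59 70 7 7 7 7 7 7 7 22 22 22 22 22 22 22 22 7 7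 7 7 7 7 7 8 8 8 8 8 8 8 8) (@D3.rec (fun _ => Nat) 22 22 22 22 22 22 22 22 0 22 22 0 1 2 18 18 18 18 18 18 18 71 18 18 1 2 18 18 18 18 18 71 18 18 18 2 3 3 18 18 18 18 18 18 71 69 18 18 18 3 3) (@D3.rec (fun _ => Nat) 4 4 4 4 18 18 18 18 18 67 69 18 18 18 3 3 4 4 4 4 18 18 18 72 18 18 65 67 67 18 18 18 4 4 4 4 5 5 5 5 5 70 5 18 18 18 18 72 63 65 65) (@D3.rec (fun _ => Nat) 67 18 18 66 5 5 5 5 5 5 6 6 6 68 6 6 6 6 68 18 18 18 18 69 18 70 3 3 4 4 71 4 18 18 18 72 18 4 4 4 5 66 5 5 68 5 72 4 4 4 5) (@D3.rec (fun _ => Nat) 67 5 5 71 5 18 18 18 18 72 5 5 5 5 6 6 66 66 6 68 6 66 72 70 5 5 5 5 6 6 65 6 69 6 69 18 18 18 18 71 18 70 6 6 6 6 7 7 64 7 64) (@D3.rec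 (fun _ => Nat) 64 66 7 7 66 66 70 70 6 6 6 6 6 6 7 7 61 7 61 7 7 7 7 7 18 18 18 18 18 19 19 7 7 7 7 7 8 8 8 8 8 5 5 5 5 6 6 70 70 6 70) (@D3.rec (fun _ => Nat) 6 70 74 74 6 6 6 6 7 7 70 7 68 68 68 7 68 70 68 72 74 72 7 64 68 66 71 6 6 6 7 7 72 72 72 70 7 72 72 76 76 7 8 72 72 70 72 75 76 76 70)
def lv_a_3 : D2 → D3 → Nat := @D2.rec (fun _ => D3 → Nat) (@D3.rec (fun _ => Nat) 26 27 26 19 19 19 19 19 19 19 19 19 25 19 19 19 19 19 77 25 19 19 19 19 19 77 99 75 19 19 19 73 73 19 19 73 71 73 71 19 19 70 71 71 71 71 71 4 4 94 89) (@D3.rec (fun _ => Nat) 98 5 5 5 5 5 5 96 99 6 6 6 6 107 106 19 7 7 19 19 7 7 7 7 7 7 7 7 7 7 8 8 8 8 8 71 102 108 104 19 19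 19 19 8 8 8 8 6 6 7 7) (@D3.rec (fun _ => Nat) 26 26 23 23 23 23 0 23 23 23 23 0 23 23 1 2 23 23 23 1 2 23 23 23 2 3 3 23 23 23 23 3 3 4 4 4 4 23 23 23 23 23 23 23 0 23 23 73 23 23 1) (@D3.rec (fun _ => Nat) 2 23 23 23 73 23 23 23 2 3 3 23 23 23 23 71 23 23 23 2 3 3 23 23 23 23 69 71 23 23 23 23 3 3 4 4 4 4 23 23 23 23 23 67 72 60 71 23 23 23 23) (@D3.rec (fun _ => Nat) 23 4 4 4 4 5 5 5 5 5 5 5 23 23 23 23 23 1 2 23 23 23 2 3 3 23 23 23 23 3 3 4 4 4 4 23 23 23 23 23 2 3 3 23 23 23 23 3 3 4 4) (@D3.rec (fun _ => Nat) 4 4 23 23 23 23 23 4 4 4 4 5 5 5 5 5 5 5 23 23 23 23 23 3 3 4 4 4 4 23 23 23 23 23 4 4 4 4 5 5 5 5 5 5 5 23 23 23 23 23 7) (@D3.rec (fun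 _ => Nat) 5 5 5 5 5 5 5 6 6 6 6 6 6 6 6 6 6 23 23 23 23 23 23 23 70 23 23 23 4 62 62 5 23 23 23 23 5 5 5 59 61 6 58 6 60 23 23 23 23 23 23) (@D3.rec (fun _ => Nat) 23 6 6 6 6 6 6 7 7 59 7 59 7 7 7 7 60 7 58 23 23 23 23 23 23 23 23 23 23 23 23 73 23 23 1 2 23 23 23 23 23 23 23 73 23 23 23 2 3 3 23) (@D3.rec (fun _ => Nat) 23 23 23 23 23 23 23 23 73 71 23 23 23 23 3 3 72 4 73 4 23 23 23 23 23 23 23 23 71 71 23 23 23 23 3 3 4 4 4 4 23 23 23 23 23 23 23 23 23 67 69) (@D3.rec (fun _ => Nat) 71 69 23 23 23 23 23 4 4 4 4 5 5 5 5 5 5 5 23 23 23 23 23 23 23 23 23 23 65 65 67 69 69 71 63 23 23 23 23 23 7 5 5 5 5 5 5 5 6 6 6) (@D3.rec (fun _ => Nat) 6 6 6 6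 6 6 6 23 23 23 23 23 23 23 3 3 4 4 4 4 23 23 23 23 23 4 4 4 4 5 5 5 5 5 5 5 23 23 23 23 23 4 4 4 4 5 5 5 5 5 5) (@D3.rec (fun _ => Nat) 5 23 23 23 23 23 8 5 5 5 5 5 5 5 6 6 6 66 6 6 6 6 6 6 23 23 23 23 23 23 23 69 5 5 5 5 5 5 5 6 6 6 68 6 6 6 6 6 6 23 23) (@D3.rec (fun _ => Nat) 23 23 23 23 23 8 6 6 6 6 6 6 6 6 6 7 7 7 7 7 64 7 66 66 7 7 7 7 7 7 7 23 23 23 23 23 23 23 23 6 6 59 59 61 7 7 60 60 62 23 23) (@D3.rec (fun _ => Nat) 23 23 23 23 23 23 7 7 7 7 7 7 7 7 8 8 8 8 57 59 59 8 8 8 8 58 8 56 60 23 23 23 23 23 23 23 23 0 23 23 5 5 5 5 5 5 5 6 6 6 72) (@D3.rec (fun _ => Nat) 6 6 6 6 6 6 23 23 23 23 23 23 23 6 6 6 6 6 6 6 6 6 7 7 7 7 7 68 7 61 72 7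 7 7 7 7 7 7 23 23 23 23 23 23 23 23 7 7 7 7 7) (@D3.rec (fun _ => Nat) 7 7 7 7 7 7 7 8 8 8 8 8 8 70 8 68 70 61 59 8 8 8 8 8 8 8 8 23 23 23 23 23 23 23 23 0 23 23 8 8 8 8 8 8 8 8 9 9 9 9 9) (@D3.rec (fun _ => Nat) 9 9 9 0 9 9 23 23 23 23 0 23 1 2 23 1 2 19 19 19 19 19 19 73 19 19 19 2 88 89 19 19 73 71 19 19 19 3 3 4 90 4 94 19 19 73 71 69 19 19 19) (@D3.rec (fun _ => Nat) 4 4 4 4 5 75 5 92 5 94 19 67 69 71 19 19 105 4 4 4 4 5 5 96 95 5 70 93 74 67 69 67 69 19 19 66 5 5 5 5 5 5 6 6 6 70 96 6 97 6 70) (@D3.rec (fun _ => Nat) 74 74 65 65 67 67 19 19 64 6 6 6 6 6 6 6 7 7 7 7 7 68 70 96 97 7 7 68 7 68 72 71 72 4 4 4 5 67 5 5 71 5 90 93 74 5 5 5 5 6 6)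 (@D3.rec (fun _ => Nat) 68 68 5 5 5 5 6 6 67 6 71 6 69 98 99 74 97 74 6 6 6 6 7 7 68 7 66 68 68 6 6 6 6 7 7 65 7 65 7 7 69 71 69 107 106 19 72 71 72 7 7) (@D3.rec (fun _ => Nat) 7 7 7 8 8 8 8 66 68 66 66 66 68 7 7 7 7 7 7 7 7 8 8 8 8 63 59 63 106 8 8 8 8 103 111 103 19 71 20 20 20 8 8 8 8 8 9 9 9 9 9) (@D3.rec (fun _ => Nat) 6 6 6 6 7 7 72 7 72 70 70 7 7 7 7 8 8 8 70 72 70 68 70 70 72 76 70 68 68 70 7 7 7 8 8 8 74 74 74 74 72 74 78 8 74 9 74 74 72 72 74) (@D3.rec (fun _ => Nat) 78 78 72 28 27 28 28 20 20 20 20 20 26 20 20 26 20 73 20 20 20 8 8 8 8 8 111 110 71 20 20 20 20 27 24 24 24 0 24 24 1 74 24 24 24 0 24 24 1 2 24) (@D3.rec (fun _ => Nat) 24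 24 2 74 3 24 24 24 24 2 3 3 24 24 24 24 3 3 4 4 4 4 24 24 24 24 24 4 4 4 4 5 5 5 5 5 5 5 24 24 24 24 24 73 24 24 1 2 24 24 24) (@D3.rec (fun _ => Nat) 73 24 24 24 2 3 3 24 24 24 24 73 71 24 24 24 24 3 3 72 4 73 4 24 24 24 24 24 69 71 24 24 24 24 3 3 4 4 4 4 24 24 24 24 24 67 69 60 71 24 24) (@D3.rec (fun _ => Nat) 24 24 24 4 4 4 4 5 5 5 5 5 5 5 24 24 24 24 24 67 67 67 69 60 58 71 24 24 24 24 24 7 5 5 5 5 5 5 5 6 6 6 6 6 6 6 6 6 6 24 24) (@D3.rec (fun _ => Nat) 24 24 24 24 24 2 3 3 24 24 24 24 3 3 4 4 4 4 24 24 24 24 24 4 4 4 4 5 5 5 5 5 5 5 24 24 24 24 24 3 3 4 4 4 4 24 24 24 24 24 4)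
def lv_a_4 : D2 → D3 → Nat := @D2.rec (fun _ => D3 → Nat) (@D3.rec (fun _ => Nat) 4 4 4 5 5 5 5 5 5 5 24 24 24 24 24 8 5 5 5 5 5 5 5 6 6 6 6 6 6 6 6 6 6 24 24 24 24 24 24 24 4 4 4 4 5 5 60 5 5 5 5) (@D3.rec (fun _ => Nat) 24 24 24 24 24 69 5 5 5 5 5 5 5 6 6 6 6 6 6 6 6 6 6 24 24 24 24 24 24 24 8 8 6 6 6 6 6 6 6 6 6 6 7 7 7 7 7 7 7 72 7) (@D3.rec (fun _ => Nat) 7 7 7 7 7 7 7 24 24 24 24 24 24 24 24 72 24 24 5 62 62 24 24 24 24 24 6 6 59 61 63 7 7 60 58 62 24 24 24 24 24 24 24 24 7 7 7 7 7 7 7) (@D3.rec (fun _ => Nat) 7 8 8 8 8 59 57 61 8 8 8 8 58 8 58 60 24 24 24 24 24 24 24 24 0 24 24 24 24 24 24 24 73 24 24 24 2 3 3 24 24 24 24 24 24 24 24 73 71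 24 24) (@D3.rec (fun _ => Nat) 24 24 3 3 74 4 75 4 24 24 24 24 24 24 24 24 24 24 24 24 73 71 75 69 24 24 24 24 24 4 4 76 5 5 71 73 5 24 24 24 24 24 24 24 24 24 67 69 71 71 24) (@D3.rec (fun _ => Nat) 24 24 24 24 4 4 4 4 5 5 5 5 5 5 5 24 24 24 24 24 24 24 24 24 24 67 67 69 67 69 71 69 24 24 24 24 24 8 5 5 5 5 5 5 5 6 6 6 6 6 6) (@D3.rec (fun _ => Nat) 6 6 6 6 24 24 24 24 24 24 24 24 24 24 24 24 65 65 65 67 67 67 69 69 69 24 24 24 24 24 24 24 8 71 6 6 6 6 6 6 6 6 6 6 7 7 7 7 7 7 7) (@D3.rec (fun _ => Nat) 72 7 7 7 7 7 7 7 7 24 24 24 24 24 24 24 24 4 4 4 4 5 5 5 5 5 5 5 24 24 24 24 24 9 5 5 5 5 5 5 5 6 6 6 68 6 6 6 6 6 6) (@D3.rec (fun _ => Nat) 24 24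 24 24 24 24 24 69 5 5 5 5 5 5 5 6 6 6 72 6 6 6 6 6 6 24 24 24 24 24 24 24 9 6 6 6 6 6 6 6 6 6 7 7 7 7 7 68 7 68 70) (@D3.rec (fun _ => Nat) 7 7 7 7 7 7 7 24 24 24 24 24 24 24 24 67 6 6 6 6 6 6 6 6 6 59 7 7 7 7 66 7 70 7 7 7 58 7 7 7 24 24 24 24 24 24 24 24 9 9 7) (@D3.rec (fun _ => Nat) 7 7 7 7 7 7 7 7 7 7 7 7 8 8 8 8 8 8 8 8 66 8 66 66 68 68 8 8 8 8 8 8 8 8 24 24 24 24 24 24 24 24 0 24 24 7 7 59 57 61 61) (@D3.rec (fun _ => Nat) 8 62 62 60 60 24 24 24 24 24 24 24 24 0 24 24 8 8 8 8 8 8 8 8 8 9 9 9 55 9 9 59 59 57 55 9 9 9 60 9 60 9 58 0 56 56 24 24 24 24 24) (@D3.rec (fun _ => Nat) 24 24 24 0 24 24 1 2 24 6 6 6 6 6 6 6 6 6 102 97 7 97 7 70 7 61 72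 99 99 7 7 7 7 7 24 24 24 24 24 24 24 24 7 7 7 7 7 7 7 7 7) (@D3.rec (fun _ => Nat) 7 7 7 7 103 97 105 101 8 8 8 8 68 8 70 72 70 59 99 8 8 8 8 8 8 8 24 24 24 24 24 24 24 24 0 24 24 8 8 8 8 8 8 8 8 8 8 8 8 8 8) (@D3.rec (fun _ => Nat) 8 93 9 9 9 9 9 61 9 70 9 68 70 68 68 61 59 105 9 9 9 9 9 9 9 0 9 9 24 24 24 24 24 24 24 24 0 24 24 1 2 24 9 9 9 9 9 9 9 9 0) (@D3.rec (fun _ => Nat) 9 9 10 10 10 10 10 10 0 10 10 1 2 10 1 2 3 20 20 20 20 20 88 87 88 20 20 73 93 97 4 4 92 75 20 71 94 95 93 5 5 5 100 94 73 67 97 97 68 5 5) (@D3.rec (fun _ => Nat) 5 103 96 6 70 72 67 65 96 95 68 6 6 6 6 6 7 100 7 103 7 70 70 72 70 67 65 65 98 97 66 69 7 7 7 7 7 7 7 7 8 8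 98 110 8 8 8 68 66 70 70) (@D3.rec (fun _ => Nat) 8 70 70 5 5 5 5 6 6 69 6 6 7 68 68 6 6 6 6 7 7 69 7 70 7 7 7 8 8 68 66 68 68 7 7 7 7 7 8 8 8 8 70 71 70 107 72 8 8 8 8) (@D3.rec (fun _ => Nat) 9 9 9 68 9 68 66 66 66 66 68 8 8 8 8 8 8 8 8 9 9 9 61 9 108 63 63 61 61 9 70 109 112 72 21 21 21 21 21 9 9 9 9 9 10 10 10 10 10 7 7) (@D3.rec (fun _ => Nat) 7 91 93 72 72 70 70 8 8 8 93 93 74 9 70 72 70 70 68 70 70 68 68 68 70 8 8 8 91 89 76 9 74 74 74 74 72 72 9 76 76 76 72 72 72 29 29 28 29 21 93) (@D3.rec (fun _ => Nat) 96 27 95 27 21 21 21 21 21 28 25 25 92 25 25 1 95 25 25 25 94 25 25 25 1 92 25 25 25 2 76 92 25 25 25 25 3 74 94 25 25 25 25 3 3 98 96 4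 103 25 25) (@D3.rec (fun _ => Nat) 25 25 25 4 4 4 4 100 5 96 102 5 5 102 25 25 25 25 25 21 5 5 5 5 5 5 5 104 100 6 6 6 94 6 104 6 6 25 25 25 25 25 25 25 75 25 25 25 2 3 88) (@D3.rec (fun _ => Nat) 25 25 25 25 75 73 25 25 25 25 3 3 76 4 75 92 25 25 25 25 25 74 73 75 73 25 25 25 25 25 4 4 72 5 5 79 94 25 25 25 25 25 69 71 62 73 25 25 25 25 25) (@D3.rec (fun _ => Nat) 4 4 4 4 5 5 5 5 5 5 98 25 25 25 25 25 69 67 71 71 69 60 73 25 25 25 25 25 8 5 5 5 5 5 5 5 6 6 6 6 6 6 6 6 6 6 25 25 25 25 25) (@D3.rec (fun _ => Nat) 25 25 67 69 67 73 67 69 69 71 62 60 25 25 25 25 25 25 25 8 8 6 6 6 6 6 6 6 6 6 6 7 7 7 7 7 7 7 7 7 7 7 7 7 7 7 7 25 25 25 25) (@D3.rec (fun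 _ => Nat) 25 25 25 25 3 3 4 4 4 4 25 25 25 25 25 4 4 4 4 5 5 5 5 5 5 5 25 25 25 25 25 9 5 5 5 5 5 5 5 6 6 6 6 6 6 6 6 6 6 25 25) (@D3.rec (fun _ => Nat) 25 25 25 25 25 4 4 4 4 5 5 5 5 5 5 5 25 25 25 25 25 71 5 5 5 5 5 5 5 6 6 6 6 6 6 6 6 6 6 25 25 25 25 25 25 25 9 9 6 6 6)
def lv_a_5 : D2 → D3 → Nat := @D2.rec (fun _ => D3 → Nat) (@D3.rec (fun _ => Nat) 6 6 6 6 6 6 6 7 7 7 7 7 7 7 68 7 7 7 7 7 7 7 7 25 25 25 25 25 25 25 25 21 5 5 5 5 5 5 60 6 6 6 6 60 60 6 6 6 25 25 25) (@D3.rec (fun _ => Nat) 25 25 25 25 71 71 6 6 6 6 6 6 6 6 6 6 59 7 7 7 7 7 7 69 7 7 7 7 58 7 7 7 25 25 25 25 25 25 25 25 9 9 9 9 7 7 7 7 7 7 7) (@D3.rec (fun _ => Nat) 7 7 7 7 7 7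 7 7 8 8 8 8 8 8 8 8 8 8 8 8 72 68 8 8 8 8 8 8 8 8 8 25 25 25 25 25 25 25 25 0 25 25 25 25 64 64 25 25 25 25 25) (@D3.rec (fun _ => Nat) 7 7 61 59 61 61 8 60 60 60 58 25 25 25 25 25 25 25 25 0 25 25 8 8 8 8 8 8 8 8 8 9 9 9 55 9 9 59 59 57 55 9 9 9 58 9 58 9 56 0 54) (@D3.rec (fun _ => Nat) 54 25 25 25 25 25 25 25 25 0 25 25 1 2 25 75 89 3 3 76 91 77 25 25 75 73 75 93 25 25 4 4 76 5 93 73 77 25 25 25 25 25 73 75 71 71 73 75 93 25 25) (@D3.rec (fun _ => Nat) 25 5 5 5 74 80 6 71 95 73 73 25 25 25 25 25 25 25 25 25 69 67 71 73 69 73 101 25 25 25 25 25 9 5 5 5 5 5 5 5 6 6 6 6 6 6 6 6 6 6 25) (@D3.rec (fun _ => Nat) 25 25 25 25 25 25 25 25 25 69 67 67 67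 69 69 71 67 71 25 25 25 25 25 25 25 9 71 6 6 6 6 6 6 6 6 6 6 7 7 7 7 7 7 7 72 7 7 7 7 7 7) (@D3.rec (fun _ => Nat) 7 7 25 25 25 25 25 25 25 25 25 25 25 25 25 67 67 65 67 65 65 69 69 69 62 69 71 71 25 25 25 25 25 25 25 25 9 9 65 67 7 7 7 7 7 7 7 7 7 7 7) (@D3.rec (fun _ => Nat) 7 7 7 7 8 8 8 8 8 8 8 8 8 8 8 8 72 70 8 8 8 8 8 8 8 8 25 25 25 25 25 25 25 25 0 25 25 71 5 5 5 5 5 5 5 6 6 6 72 6 6) (@D3.rec (fun _ => Nat) 6 6 6 6 25 25 25 25 25 25 25 10 6 6 6 6 6 6 6 6 6 7 7 7 7 7 68 7 68 68 7 7 7 7 7 7 7 25 25 25 25 25 25 25 25 71 6 6 6 6 6) (@D3.rec (fun _ => Nat) 6 6 6 6 7 7 7 7 7 72 7 70 7 7 7 7 7 7 7 25 25 25 25 25 25 25 25 10 10 7 7 7 7 7 7 7 7 7 7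 7 7 7 8 8 8 8 8 8 8 8 66) (@D3.rec (fun _ => Nat) 8 68 70 68 68 8 8 8 8 8 8 8 8 25 25 25 25 25 25 25 25 0 25 25 67 69 7 7 7 7 7 7 7 7 7 7 7 59 57 8 8 8 8 8 8 70 8 64 64 8 8) (@D3.rec (fun _ => Nat) 8 60 8 58 58 8 25 25 25 25 25 25 25 25 0 25 25 10 10 10 8 8 8 8 8 8 8 8 8 8 8 8 8 8 8 8 8 9 9 9 9 9 9 9 9 9 9 9 57 9 66) (@D3.rec (fun _ => Nat) 9 66 66 66 66 68 70 9 9 9 9 9 9 9 9 0 9 54 25 25 25 25 25 25 25 25 0 25 25 1 2 25 8 61 61 59 57 61 9 62 62 62 60 0 25 25 25 25 25 25 25) (@D3.rec (fun _ => Nat) 25 0 25 25 1 2 25 9 9 9 9 9 9 9 9 9 9 0 10 10 10 10 55 10 53 53 10 59 57 57 55 0 10 10 60 10 10 58 10 58 0 56 56 1 2 54 25 25 25 25 25) (@D3.rec (fun _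 => Nat) 0 25 0 25 1 2 25 2 3 25 7 7 7 7 7 7 7 7 97 102 8 97 70 8 70 72 70 61 100 102 8 8 8 8 8 25 25 25 25 25 25 25 0 25 25 8 8 8 8 8 8) (@D3.rec (fun _ => Nat) 8 8 8 8 8 8 97 99 103 103 101 9 9 70 9 68 9 68 70 70 72 70 72 101 9 9 9 9 9 9 0 9 9 25 25 25 25 25 25 25 25 0 25 25 1 2 25 9 9 9 9) (@D3.rec (fun _ => Nat) 9 9 9 9 9 9 9 9 9 9 0 9 9 93 10 10 10 10 10 63 10 0 61 10 66 62 10 70 72 68 70 70 70 63 61 107 10 10 10 10 10 10 10 0 10 10 1 2 10 25 25) (@D3.rec (fun _ => Nat) 0 25 25 25 0 1 2 2 3 10 10 10 10 10 10 0 10 10 1 2 10 11 104 11 11 1 11 2 3 11 3 21 98 94 104 68 6 94 72 72 69 104 101 68 66 7 7 7 100 8 70) (@D3.rec (fun _ => Nat) 72 72 69 69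 105 97 69 66 66 8 8 8 8 8 8 98 107 9 9 9 9 69 68 70 68 68 72 71 6 6 96 7 8 70 70 7 7 7 102 8 96 8 8 9 70 9 70 68 70 70 8) (@D3.rec (fun _ => Nat) 8 8 8 9 9 9 73 9 67 71 107 9 9 9 9 10 10 10 70 10 68 70 68 68 68 68 68 70 9 9 9 9 9 10 108 10 10 61 10 71 59 63 61 61 71 22 22 22 22 22 22) (@D3.rec (fun _ => Nat) 22 10 10 10 10 10 113 11 11 11 11 93 93 72 74 72 72 9 94 95 74 74 74 70 72 72 72 70 72 72 70 70 70 9 94 89 76 76 76 76 74 74 74 30 30 30 29 30 22 28 28) (@D3.rec (fun _ => Nat) 29 4 99 98 5 26 26 26 5 5 5 101 6 6 98 102 6 26 26 26 26 26 22 6 6 6 6 6 6 102 100 7 7 7 7 92 7 7 104 7 26 26 26 26 26 26 26 75 90 26 26) (@D3.rec (fun _ => Nat) 26 26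 3 76 93 75 76 73 77 92 26 26 26 26 26 4 74 5 93 79 26 26 72 71 73 73 94 26 26 26 26 26 5 5 70 72 6 75 94 77 26 26 26 26 26 69 69 71 71 71 60) (@D3.rec (fun _ => Nat) 98 26 26 26 26 26 9 5 5 5 5 5 5 6 6 6 6 6 6 6 96 101 6 26 26 26 26 26 26 26 69 69 69 69 71 71 71 71 71 73 26 26 26 26 26 26 26 9 9 6 6) (@D3.rec (fun _ => Nat) 6 6 6 6 6 6 6 6 7 7 7 7 7 7 7 7 7 7 7 7 7 7 102 7 26 26 26 26 26 26 26 26 67 67 67 69 69 73 71 69 69 69 69 71 69 62 60 26 26 26 26) (@D3.rec (fun _ => Nat) 26 26 26 26 9 9 9 68 9 7 7 7 7 7 7 7 7 7 7 7 7 7 7 7 7 8 8 8 8 8 8 8 8 8 8 8 8 8 8 8 8 8 8 8 8 8 8 8 26 26 26)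
def lv_a_6 : D2 → D3 → Nat := @D2.rec (fun _ => D3 → Nat) (@D3.rec (fun _ => Nat) 26 26 26 26 26 0 26 26 4 4 4 4 5 5 5 5 5 5 5 26 26 26 26 26 71 5 5 5 5 5 5 5 6 6 6 6 6 6 6 6 6 6 26 26 26 26 26 26 26 10 10) (@D3.rec (fun _ => Nat) 6 6 6 6 6 6 6 6 6 6 7 7 7 7 7 7 7 70 7 7 7 7 7 7 7 7 26 26 26 26 26 26 26 26 22 5 5 5 5 5 5 5 95 6 6 6 6 6 6 6 6) (@D3.rec (fun _ => Nat) 6 26 26 26 26 26 26 26 71 73 6 6 6 6 6 6 6 6 6 6 7 7 7 7 7 7 7 69 7 7 7 7 7 7 7 7 26 26 26 26 26 26 26 26 10 10 10 10 7 7 7) (@D3.rec (fun _ => Nat) 7 7 7 7 7 7 7 7 7 7 7 7 8 8 8 8 8 8 8 8 8 8 8 8 70 72 8 8 8 8 8 8 8 8 8 26 26 26 26 26 26 26 26 0 26 26 21 21 6 6 6) (@D3.rec (fun _ => Nat)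 6 6 6 6 62 72 102 7 7 7 70 7 64 62 62 60 7 7 26 26 26 26 26 26 26 26 67 71 73 71 7 7 7 7 7 7 7 7 7 7 7 7 7 61 59 8 8 8 8 8 8) (@D3.rec (fun _ => Nat) 8 8 8 8 67 69 8 8 8 8 58 8 58 56 8 26 26 26 26 26 26 26 26 0 26 26 10 10 10 10 10 10 8 8 8 8 8 8 8 8 8 8 8 8 8 8 8 8 8 8 8) (@D3.rec (fun _ => Nat) 8 8 9 9 9 9 9 9 9 9 9 9 9 9 9 9 9 9 9 70 9 9 70 72 63 9 9 9 9 9 9 9 9 0 9 54 26 26 26 26 26 26 26 26 0 26 26 1 2 26 26) (@D3.rec (fun _ => Nat) 26 26 70 8 61 61 59 57 63 9 62 60 60 60 67 26 26 26 26 26 26 26 26 112 26 26 1 2 26 9 9 9 9 9 9 9 9 9 9 0 10 10 10 10 57 10 55 55 10 61 59) (@D3.rec (fun _ => Nat) 59 57 0 10 10 60 10 10 58 10 58 0 56 56 1 2 54 26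 26 26 26 26 0 26 26 26 26 0 26 26 1 2 26 2 3 26 90 95 77 94 77 71 77 5 74 96 73 75 75 26 26) (@D3.rec (fun _ => Nat) 26 71 94 75 69 75 75 26 26 6 76 76 7 95 71 71 71 73 73 26 26 26 26 26 26 26 26 69 93 69 71 73 71 102 71 73 26 26 10 73 6 6 6 6 6 6 6 6 6 6 94) (@D3.rec (fun _ => Nat) 95 7 7 7 7 74 7 7 98 7 7 7 7 7 26 26 26 26 26 26 26 26 26 69 67 69 99 67 71 69 71 69 71 73 69 60 26 26 26 26 26 10 10 73 71 7 7 7 7 7 7) (@D3.rec (fun _ => Nat) 7 7 7 7 7 7 7 7 7 100 76 8 103 8 8 8 8 8 8 8 8 74 72 8 8 8 8 8 75 8 8 26 26 26 26 26 26 26 26 0 26 26 26 26 26 26 26 67 67 67 67) (@D3.rec (fun _ => Nat) 67 58 67 67 58 69 69 69 62 69 60 63 71 26 26 26 26 26 26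 26 26 0 26 26 10 10 65 10 60 65 8 8 8 8 8 8 8 8 8 8 8 8 8 8 8 8 8 8 8 8 9) (@D3.rec (fun _ => Nat) 9 9 9 9 9 9 9 9 9 9 9 9 9 9 9 9 57 9 74 72 9 9 9 9 9 9 9 9 0 9 9 26 26 26 26 26 26 26 26 0 26 26 1 2 26 71 6 6 6 6 6) (@D3.rec (fun _ => Nat) 6 6 6 6 7 7 7 97 7 74 7 72 7 7 7 7 7 7 7 26 26 26 11 95 7 7 7 7 7 7 7 7 7 7 7 7 7 102 8 8 8 8 8 8 8 70 8 70 72 70 72) (@D3.rec (fun _ => Nat) 8 8 8 8 8 8 8 8 26 26 26 26 26 26 26 26 0 26 26 71 69 7 7 7 7 7 7 7 7 7 7 7 7 7 8 8 8 8 8 8 8 8 61 8 74 72 8 8 8 8 8) (@D3.rec (fun _ => Nat) 8 8 8 26 26 26 26 26 26 0 26 26 11 11 101 8 8 8 8 8 8 8 8 8 8 8 8 8 8 8 8 8 9 101 9 9 9 9 9 9 9 9 9 70 9 68 9 68 59 70 72) (@D3.rec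 (fun _ => Nat) 70 72 9 9 9 9 9 9 9 9 0 9 9 26 26 26 26 26 26 26 26 0 26 26 1 2 26 67 69 8 8 8 8 8 8 8 8 8 8 8 8 61 61 59 57 57 9 9 9 9 9) (@D3.rec (fun _ => Nat) 58 66 9 72 9 59 59 64 9 9 60 9 60 9 60 58 0 58 26 26 26 26 26 26 26 26 0 26 26 1 2 26 11 11 11 11 9 9 9 9 9 9 9 9 9 9 9 9 9 9 9) (@D3.rec (fun _ => Nat) 9 9 9 9 9 9 0 9 10 10 10 10 10 10 53 59 10 10 10 10 10 10 10 10 59 10 0 59 10 59 57 10 68 70 68 57 68 57 70 72 10 10 10 10 10 10 10 10 0 10 56) (@D3.rec (fun _ => Nat) 1 2 54 26 26 26 26 26 0 26 26 26 26 0 26 26 1 2 26 2 3 26 9 61 61 59 59 57 63 64 62 62 62 62 0 1 26 26 26 26 26 0 26 26 26 26 0 26 26 1 2) (@D3.rec (fun _ => Nat) 26 2 3 26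 10 10 10 10 10 10 10 10 10 10 10 0 1 109 11 106 11 57 11 57 11 55 55 0 53 61 59 57 59 57 0 1 11 62 11 11 60 0 11 60 60 58 0 60 58 1 2) (@D3.rec (fun _ => Nat) 56 2 3 54 1 1 2 3 26 3 54 26 8 8 8 8 8 8 8 99 95 103 97 99 99 99 74 72 74 72 74 97 99 103 103 95 9 0 9 9 26 26 26 26 26 26 26 0 26 26 1) (@D3.rec (fun _ => Nat) 2 26 9 9 9 9 9 9 9 9 9 9 0 9 9 95 97 97 105 103 101 103 103 0 72 10 72 74 10 97 72 70 61 72 74 72 74 103 101 101 10 10 103 10 0 10 10 1 2 10 26) (@D3.rec (fun _ => Nat) 26 26 0 26 26 26 26 0 26 26 1 2 26 2 3 26 10 10 10 10 10 10 0 10 10 10 10 10 10 10 10 10 0 10 10 1 2 10 93 93 11 108 11 11 63 11 0 61 11 63 61) (@D3.rec (fun _ => Nat)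 11 1 2 2 61 59 11 63 61 68 70 70 70 59 70 70 61 97 11 11 0 11 11 11 11 0 11 11 1 2 11 2 3 11 1 1 2 3 11 0 11 11 100 103 1 100 11 2 3 11 12) (@D3.rec (fun _ => Nat) 12 3 54 12 22 72 71 8 9 72 72 106 99 69 69 70 71 64 9 9 9 9 110 108 102 10 10 74 68 10 68 68 70 68 72 94 8 9 70 70 8 100 98 9 9 9 10 72 72 70 68)
def lv_a_7 : D2 → D3 → Nat := @D2.rec (fun _ => D3 → Nat) (@D3.rec (fun _ => Nat) 70 70 9 9 9 9 104 10 10 70 10 73 73 109 10 10 10 10 11 11 11 68 70 68 68 68 68 68 68 68 10 10 10 10 100 11 108 63 11 63 11 63 61 73 61 23 23 23 23 23 11) (@D3.rec (fun _ => Nat) 11 11 11 104 12 12 12 97 93 72 93 72 101 95 76 72 76 70 72 70 70 72 70 70 76 93 74 74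 5 98 100 98 27 27 6 6 6 104 102 7 7 103 98 104 27 27 27 23 23 7 7) (@D3.rec (fun _ => Nat) 7 7 7 7 7 104 104 102 55 8 8 8 8 94 94 55 8 104 27 27 27 27 27 27 0 27 27 95 94 77 78 74 73 94 75 27 27 5 72 74 98 75 72 74 73 73 96 75 27 27 27) (@D3.rec (fun _ => Nat) 27 27 6 72 72 74 7 100 75 75 27 27 71 71 69 69 69 73 71 98 71 73 27 27 27 27 27 27 27 10 10 6 6 6 6 6 6 6 6 7 7 7 96 94 94 7 7 7 7 98 102) (@D3.rec (fun _ => Nat) 100 7 96 27 27 27 71 71 69 71 69 69 71 69 71 73 71 71 73 71 73 27 27 27 27 27 27 27 27 10 10 10 70 10 7 7 7 7 7 7 7 7 7 7 7 7 7 7 7 8 76) (@D3.rec (fun _ => Nat) 8 8 8 8 8 100 104 8 8 8 8 8 8 8 8 102 96 8 75 8 102 27 27 27 27 27 27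 0 27 27 69 69 69 69 67 58 58 69 69 71 71 71 64 71 69 71 64 71 62 62 62) (@D3.rec (fun _ => Nat) 27 27 27 27 27 27 27 27 0 27 27 10 10 10 10 10 68 10 71 70 8 8 8 8 8 8 8 8 8 8 8 8 8 8 8 8 8 8 8 8 8 8 8 9 9 9 9 9 9 9 9) (@D3.rec (fun _ => Nat) 9 9 9 9 9 100 9 9 9 9 9 9 9 9 9 9 9 9 9 103 9 9 9 0 9 9 27 27 27 27 27 27 27 27 0 27 27 1 2 27 23 5 5 5 5 5 5 5 6 6 6) (@D3.rec (fun _ => Nat) 6 96 6 6 27 27 27 27 27 27 73 73 6 6 6 6 6 6 6 6 6 6 7 7 7 7 7 7 7 71 7 7 7 7 7 7 7 7 27 27 27 27 27 27 27 27 11 11 11 11 7) (@D3.rec (fun _ => Nat) 7 7 7 7 7 7 7 7 7 7 7 7 7 7 8 8 8 8 8 8 8 8 8 8 8 8 70 70 8 8 8 8 8 8 8 8 8 27 27 27 27 0 27 27 22 6 6 6 6 6 6) (@D3.rec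 (fun _ => Nat) 6 6 6 97 7 7 7 71 7 101 7 7 7 7 7 27 27 27 27 27 27 27 27 73 73 73 71 7 7 7 7 7 7 7 7 7 7 7 7 7 7 7 8 8 8 8 8 8 8 8 8) (@D3.rec (fun _ => Nat) 8 8 8 71 71 8 8 8 8 8 8 8 8 8 27 27 27 27 27 27 27 27 0 27 27 11 11 11 11 11 11 8 8 8 8 8 8 8 8 8 8 8 8 8 8 8 8 8 8 8 8) (@D3.rec (fun _ => Nat) 8 9 9 9 9 9 9 9 9 9 9 9 9 9 9 9 9 9 70 9 9 70 72 72 9 9 9 9 9 9 9 9 0 9 9 27 27 27 27 27 27 27 0 27 27 1 2 27 22 22 22) (@D3.rec (fun _ => Nat) 7 7 7 7 7 7 62 72 60 102 8 8 8 8 71 71 8 62 62 60 8 27 27 27 27 27 27 27 73 27 69 58 73 73 71 8 8 8 8 8 8 8 8 8 8 8 8 8 8 8 8) (@D3.rec (fun _ => Nat) 61 61 59 57 57 9 9 9 9 9 56 9 9 9 9 9 9 67 9 9 69 69 73 9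 9 60 9 60 9 58 58 69 56 27 27 27 27 27 27 27 27 103 27 27 1 2 27 11 11 11 11) (@D3.rec (fun _ => Nat) 11 11 11 11 11 9 9 9 9 9 9 9 9 9 9 9 9 9 9 9 9 9 9 9 9 9 9 9 9 9 9 9 0 9 10 10 10 10 10 10 55 10 10 10 10 10 10 10 10 10 10) (@D3.rec (fun _ => Nat) 10 0 10 10 59 10 10 10 10 10 10 10 70 70 10 70 72 73 10 10 10 10 10 10 10 10 0 10 54 1 2 52 27 27 27 27 27 0 27 27 27 27 0 27 27 1 2 27 2 3 27) (@D3.rec (fun _ => Nat) 27 9 63 63 61 61 59 63 62 62 60 62 60 69 27 27 27 27 27 110 27 27 99 27 2 73 27 10 10 10 10 10 10 10 10 10 10 10 0 1 11 11 11 11 57 11 57 11 55 55 0) (@D3.rec (fun _ => Nat) 53 61 59 59 59 59 0 1 11 60 11 11 58 0 11 56 58 56 0 56 56 1 2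 54 2 3 54 27 27 27 0 27 1 108 2 27 27 1 2 27 2 3 27 3 54 27 97 98 73 98 103) (@D3.rec (fun _ => Nat) 96 75 71 75 7 76 97 73 73 73 73 73 27 27 27 27 27 27 79 27 96 95 69 69 71 73 73 11 73 71 7 7 7 7 7 7 7 7 7 7 7 76 100 99 8 8 8 8 8 74 72) (@D3.rec (fun _ => Nat) 8 102 8 8 75 8 8 27 27 27 0 27 102 71 69 101 67 69 71 67 69 71 69 71 71 73 71 27 27 11 11 73 71 71 8 8 8 8 8 8 8 8 8 8 8 8 8 8 8 8 103) (@D3.rec (fun _ => Nat) 76 74 76 101 9 101 9 9 75 9 9 9 9 9 74 9 74 72 9 9 9 9 9 9 77 9 75 77 9 27 27 27 27 27 27 27 27 0 27 27 1 2 27 27 27 0 27 27 69 109 69) (@D3.rec (fun _ => Nat) 58 69 69 67 67 58 67 60 56 67 71 69 64 71 64 71 62 62 0 60 67 27 27 27 27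 27 0 27 27 1 2 27 11 11 11 11 71 65 63 71 69 9 9 9 9 9 9 9 9 9 9) (@D3.rec (fun _ => Nat) 9 9 9 9 9 9 9 9 9 9 9 9 9 9 9 9 0 9 9 108 111 10 10 10 10 10 60 10 10 10 10 10 10 10 10 10 10 0 10 10 57 10 10 10 10 10 10 59 57 74 72) (@D3.rec (fun _ => Nat) 10 10 10 10 10 10 10 10 0 10 10 1 2 10 27 27 27 27 27 0 27 27 27 27 0 27 27 1 2 27 2 3 27 101 7 7 7 7 7 7 7 7 7 7 7 7 8 97 8 8 8) (@D3.rec (fun _ => Nat) 97 95 8 74 72 8 8 8 8 27 8 8 8 8 8 8 8 8 8 8 8 8 8 8 8 8 99 9 9 99 9 9 9 9 9 70 9 9 72 70 72 70 72 9 9 9 9 99 9 95 9) (@D3.rec (fun _ => Nat) 0 9 9 27 27 27 27 27 27 0 27 27 1 2 27 100 8 8 8 8 8 8 8 8 8 8 8 8 8 8 8 8 8 9 9 9 9 9 9 9 9 9 9 74 9 101 9 72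 70 72 9)
def lv_a_8 : D2 → D3 → Nat := @D2.rec (fun _ => D3 → Nat) (@D3.rec (fun _ => Nat) 9 9 9 9 9 9 0 9 9 27 27 27 27 1 2 27 75 12 9 9 9 9 9 9 9 9 9 9 9 9 9 9 9 9 9 9 9 9 0 9 9 10 101 10 10 10 10 70 10 10 10) (@D3.rec (fun _ => Nat) 10 10 10 10 10 68 10 0 70 10 70 72 10 70 68 70 70 72 70 72 10 10 10 10 10 10 105 10 0 10 10 1 2 10 27 27 27 27 27 0 27 27 27 27 0 27 27 1 2 27 2) (@D3.rec (fun _ => Nat) 3 27 71 69 9 9 9 9 9 9 9 9 9 9 9 61 61 59 59 57 57 57 55 10 10 10 10 10 10 58 59 10 59 58 56 64 10 72 70 72 70 10 62 10 60 62 60 60 60 0 58) (@D3.rec (fun _ => Nat) 1 2 27 27 27 27 27 0 27 27 27 27 0 27 27 1 2 27 2 3 27 12 105 12 12 12 10 10 10 10 10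 10 10 10 10 10 10 10 10 10 10 0 10 10 10 10 10 10 10 10 10) (@D3.rec (fun _ => Nat) 10 0 10 1 2 109 11 11 11 11 11 11 11 55 59 11 0 55 53 59 57 11 11 11 11 11 11 11 11 59 11 0 61 11 59 57 11 1 2 2 61 59 11 59 57 55 68 68 68 70 68) (@D3.rec (fun _ => Nat) 59 72 11 11 11 11 11 0 11 11 11 58 0 11 60 1 2 54 2 3 54 27 103 27 27 27 1 101 2 27 1 2 2 3 27 3 54 27 63 61 63 61 59 59 64 62 64 103 62 0 1) (@D3.rec (fun _ => Nat) 27 27 27 107 1 109 111 27 27 1 2 27 2 3 27 3 68 27 11 11 11 11 11 11 11 0 11 0 1 106 12 12 110 57 12 55 57 55 55 55 0 53 1 2 59 59 59 0 57 0 1) (@D3.rec (fun _ => Nat) 12 102 12 60 1 12 60 1 60 2 3 56 3 54 56 3 56 9 9 9 93 101 95 72 103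 97 99 99 72 74 72 96 99 99 93 95 10 1 2 10 27 27 27 97 27 27 27 27 100 27 27) (@D3.rec (fun _ => Nat) 1 2 27 2 3 27 10 10 10 10 10 10 10 1 2 10 95 97 97 72 99 99 101 101 99 103 103 1 2 2 72 74 11 72 74 74 97 97 70 72 72 74 105 101 99 101 11 11 103 103 11) (@D3.rec (fun _ => Nat) 1 2 11 2 3 11 105 27 27 1 2 2 27 27 27 1 2 27 2 3 27 3 4 27 11 11 11 11 0 11 11 1 2 11 11 11 0 11 11 11 11 0 11 11 1 2 11 2 3 11 101) (@D3.rec (fun _ => Nat) 95 0 99 12 113 101 12 0 63 12 108 63 12 1 2 2 63 61 12 65 63 61 2 2 3 3 3 63 61 59 12 65 63 73 99 72 70 72 72 12 1 101 12 12 12 1 2 12 3 54 12) (@D3.rec (fun _ => Nat) 101 1 99 101 12 102 12 3 56 12 13 13 31 74 71 9 74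 74 103 107 71 71 72 10 10 10 101 109 110 70 11 72 70 72 70 96 9 72 9 102 98 10 72 72 72 70 72 10 10 10 107) (@D3.rec (fun _ => Nat) 11 11 109 72 70 11 11 11 12 12 61 70 70 70 70 70 70 70 11 11 11 108 12 12 108 61 61 61 74 24 24 24 12 12 12 108 104 13 13 74 101 74 96 101 76 74 72 97 72 72 97) (@D3.rec (fun _ => Nat) 98 7 7 98 98 8 8 8 102 24 24 24 8 8 8 8 8 55 104 53 53 9 9 9 9 100 94 57 53 9 28 28 28 28 0 28 28 1 2 28 97 100 73 74 72 72 71 102 73 73 28) (@D3.rec (fun _ => Nat) 28 28 28 7 72 72 72 96 77 101 71 71 96 71 71 73 73 73 98 73 73 75 73 98 28 28 28 28 11 11 11 70 11 7 7 7 7 7 7 7 7 102 76 103 96 102 8 8 96 96 96) (@D3.rec (fun _ => Nat) 8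 8 8 104 77 100 71 71 69 71 71 71 73 71 71 73 71 73 71 71 71 73 73 75 73 75 104 28 28 28 28 28 28 28 28 0 28 28 11 11 11 11 11 70 11 70 70 8 8 8 8) (@D3.rec (fun _ => Nat) 8 8 8 8 8 8 8 8 8 8 8 8 9 9 76 74 76 9 9 102 9 9 75 9 9 102 104 102 9 9 9 9 9 9 9 100 98 9 104 77 98 77 77 9 28 28 1 2 69 69 69) (@D3.rec (fun _ => Nat) 60 69 69 69 69 60 58 60 60 58 71 73 71 73 71 74 71 71 64 60 64 71 62 62 0 60 72 28 28 28 28 28 28 28 28 107 28 28 1 2 28 11 11 11 11 11 11 11 11 68 11) (@D3.rec (fun _ => Nat) 72 66 68 70 74 9 9 9 9 9 9 9 9 9 9 9 9 9 9 9 9 9 9 9 9 9 9 9 9 9 9 9 9 9 9 9 10 10 10 10 10 10 10 10 10 10 10 10 10 10 10) (@D3.rec (fun _ => Nat) 10 10 10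 0 53 10 10 10 10 100 102 10 10 10 10 10 10 10 10 10 10 112 10 10 107 10 98 100 0 10 10 1 2 10 28 28 28 0 28 28 28 28 0 28 28 1 2 28 2 3 28) (@D3.rec (fun _ => Nat) 23 6 6 6 6 6 6 7 7 96 7 7 7 96 7 28 28 28 28 28 28 98 73 75 73 7 7 7 7 7 7 7 7 7 7 7 7 7 7 7 8 8 8 8 8 8 8 8 100 8 8) (@D3.rec (fun _ => Nat) 8 94 71 8 8 8 8 96 8 8 8 8 28 28 28 28 28 28 0 28 28 96 12 12 94 94 12 8 8 8 8 8 8 8 8 8 8 8 8 8 8 8 8 8 8 8 8 8 99 9 9) (@D3.rec (fun _ => Nat) 9 9 9 9 9 9 9 9 9 9 9 9 9 72 9 9 72 74 72 9 9 9 9 9 0 9 9 28 1 2 28 23 23 7 7 7 7 7 7 7 7 7 97 8 8 95 8 99 71 8 103) (@D3.rec (fun _ => Nat) 8 8 97 8 8 28 28 28 28 28 28 28 0 28 28 100 73 75 73 75 73 8 8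 8 8 8 8 8 8 8 8 8 8 8 8 8 8 8 8 8 8 8 9 9 9 9 9 9 9 9 9) (@D3.rec (fun _ => Nat) 9 9 9 9 100 9 9 9 71 9 9 102 71 72 9 9 9 9 96 9 9 9 0 9 9 28 28 28 28 28 28 28 28 0 28 28 1 2 28 78 12 76 12 12 12 12 12 100 12 9 9) (@D3.rec (fun _ => Nat) 9 9 9 9 9 9 9 9 9 9 9 9 9 9 9 9 9 9 9 9 9 9 9 9 9 0 9 9 10 10 10 10 10 10 10 10 10 10 10 10 10 10 10 10 10 10 0 10 10 72 10) (@D3.rec (fun _ => Nat) 10 10 10 10 10 10 72 74 10 72 74 72 10 10 10 10 10 10 10 10 0 10 10 1 2 10 28 28 28 0 28 28 28 28 28 1 2 28 2 3 28 23 23 23 8 8 8 8 8 8 62)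
def lv_a_9 : D2 → D3 → Nat := @D2.rec (fun _ => D3 → Nat) (@D3.rec (fun _ => Nat) 72 69 100 104 9 9 69 9 9 106 69 73 62 62 28 28 28 28 28 73 71 69 58 58 56 75 73 9 9 9 9 9 9 9 9 9 9 9 9 9 9 9 9 9 63 63 61 61 59 59 59) (@D3.rec (fun _ => Nat) 57 10 10 10 10 10 10 58 10 10 61 58 56 67 10 10 10 10 10 10 10 67 67 10 100 69 69 10 60 10 60 60 58 60 58 69 58 69 28 28 28 28 28 105 28 28 28 28 28 28 105) (@D3.rec (fun _ => Nat) 28 2 70 28 12 12 12 12 12 12 12 12 12 12 12 12 12 10 10 10 10 10 10 10 10 10 10 10 10 10 10 10 10 10 30 10 10 10 10 10 10 10 10 10 10 10 10 10 10 10 10) (@D3.rec (fun _ => Nat) 10 10 0 10 1 2 11 11 11 11 11 11 11 11 55 11 11 30 57 53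 61 11 11 11 11 11 11 11 11 11 11 11 0 11 11 11 11 11 1 30 2 61 11 11 61 59 11 11 11 11 63) (@D3.rec (fun _ => Nat) 11 11 72 72 69 11 74 72 11 11 11 11 11 0 11 11 11 56 0 11 56 1 2 54 2 3 52 28 28 28 0 28 28 28 28 1 2 2 28 28 28 28 1 2 28 2 3 28 3 52 28) (@D3.rec (fun _ => Nat) 63 61 63 61 59 59 62 62 62 108 62 107 28 11 11 11 11 11 11 11 11 11 0 11 1 106 12 12 12 100 100 12 61 104 59 61 59 0 55 1 2 107 61 0 101 98 1 12 12 60 0) (@D3.rec (fun _ => Nat) 12 60 60 58 1 103 2 12 58 56 58 1 2 56 2 3 54 3 52 54 1 2 3 28 28 2 3 28 3 54 28 101 97 77 97 73 98 73 73 73 79 98 71 73 73 75 73 8 8 8 8) (@D3.rec (fun _ => Nat) 8 8 8 8 8 8 76 78 99 97 99 75 9 9 76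 9 76 74 9 102 77 9 75 77 1 2 101 100 69 73 103 69 69 60 71 73 71 60 75 73 12 62 75 73 60 9 9 9 9 9 9) (@D3.rec (fun _ => Nat) 9 9 9 9 9 9 9 9 9 9 9 78 76 78 76 76 103 102 10 10 103 101 75 10 10 73 75 75 76 10 10 10 10 76 74 76 74 10 10 10 77 100 10 77 10 77 77 10 77 77 28) (@D3.rec (fun _ => Nat) 28 0 28 28 0 28 1 2 28 2 3 28 0 28 28 1 2 28 112 109 62 100 60 69 58 69 69 60 58 60 71 60 58 0 58 56 73 62 62 62 62 0 60 60 1 2 58 0 28 28 0) (@D3.rec (fun _ => Nat) 28 28 1 2 28 2 3 28 12 12 12 12 60 73 60 58 65 71 10 10 10 10 10 10 10 10 10 10 10 10 10 10 10 24 10 10 10 10 10 10 10 10 10 10 10 10 10 10 10 10 0) (@D3.rec (fun _ => Nat) 10 10 1 2 10 106 106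 106 11 11 11 11 11 62 11 28 61 11 60 60 11 11 11 11 11 11 11 11 11 11 0 11 11 11 11 11 1 2 2 63 11 11 59 57 11 11 11 59 11 59 57) (@D3.rec (fun _ => Nat) 74 11 11 11 11 11 0 11 11 11 11 0 11 11 1 2 11 2 3 11 28 111 28 28 28 28 1 110 2 28 28 28 28 1 2 28 2 3 28 3 54 28 8 8 8 8 8 8 8 8 8) (@D3.rec (fun _ => Nat) 9 9 9 9 9 76 9 99 95 74 9 9 9 9 9 9 9 9 9 9 9 9 9 9 9 9 9 9 9 10 10 101 101 10 10 10 97 10 0 101 10 72 74 10 72 74 72 74 10 99 97) (@D3.rec (fun _ => Nat) 99 10 99 95 97 10 1 2 10 28 28 28 99 28 1 2 28 2 3 104 9 9 9 9 9 9 9 9 9 9 9 9 9 9 9 9 9 9 9 0 9 9 10 10 10 79 74 10 103 10 10) (@D3.rec (fun _ => Nat) 10 10 10 10 63 10 0 77 10 74 10 101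 61 61 10 10 62 10 10 10 1 2 10 28 28 2 3 28 78 10 10 10 10 10 10 10 10 10 10 10 10 10 10 0 10 10 10 10 10 10 10) (@D3.rec (fun _ => Nat) 10 10 10 10 1 2 10 105 11 11 11 11 76 70 11 72 70 11 11 11 11 11 11 11 101 11 0 103 11 70 61 11 1 2 2 72 74 11 72 74 72 70 59 72 74 74 11 11 105 107 11) (@D3.rec (fun _ => Nat) 0 101 11 11 11 103 99 11 1 2 11 2 3 11 28 0 28 28 28 28 1 2 2 28 28 28 28 1 2 28 2 3 28 3 4 28 10 10 10 10 10 10 10 10 10 10 61 108 61 59 59) (@D3.rec (fun _ => Nat) 59 59 59 57 57 55 11 11 11 60 11 11 60 61 11 61 60 58 61 59 11 61 59 58 56 57 74 72 59 62 11 62 62 60 0 62 60 60 0 60 1 2 2 28 111 28 28 28 1 111 2) (@D3.rec (fun _ => Nat) 28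 28 28 1 2 28 2 3 28 3 70 28 13 106 13 108 11 11 11 11 11 11 11 11 11 11 11 11 11 11 11 11 11 0 11 11 1 2 11 11 11 11 11 11 0 11 11 11 0 11 1) (@D3.rec (fun _ => Nat) 2 2 104 109 12 12 110 12 12 55 12 12 55 61 12 0 55 53 61 59 12 1 30 2 61 53 51 61 59 57 12 12 12 12 12 0 12 12 61 12 12 0 61 12 61 59 12 1 2 2 61) (@D3.rec (fun _ => Nat) 59 12 61 59 57 2 2 30 3 3 61 59 57 52 61 59 57 101 72 70 59 59 12 12 101 12 12 12 60 1 99 2 12 12 62 58 1 2 62 2 3 54 3 52 56 2 2 3 54 108 61) (@D3.rec (fun _ => Nat) 61 59 61 59 64 64 107 64 1 103 2 3 3 70 12 12 12 12 101 12 1 99 12 1 106 104 13 59 13 108 106 61 107 59 0 57 55 57 0 55 1 2 2 61 100 102 1 102 59 1 13)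 (@D3.rec (fun _ => Nat) 60 60 3 54 58 10 10 101 95 74 97 76 105 74 99 99 99 95 97 2 3 11 28 28 28 97 28 28 28 97 28 2 3 28 3 4 28 11 11 11 11 11 2 3 11 95 95 101 74 97 74) (@D3.rec (fun _ => Nat) 101 101 99 103 72 105 105 2 2 3 3 3 74 76 74 12 74 76 74 99 72 61 105 99 101 99 101 103 12 103 103 2 3 12 3 4 12 105 28 2 2 3 3 28 28 2 3 28 3 4 28) (@D3.rec (fun _ => Nat) 4 5 5 28 0 12 12 0 12 12 1 2 12 2 3 12 101 12 1 97 2 12 12 12 1 103 100 2 102 12 3 56 12 101 103 1 2 101 97 99 99 13 65 101 110 1 2 105 101 61 13) (@D3.rec (fun _ => Nat) 103 61 2 2 3 3 3 63 61 59 13 65 63 61 3 3 3 4 4 4 54 63 61 59 57 13 63 61 76 99 61 13 13 13 13 58 13 14 14 74 108 107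 71 11 106 70 72 72 72 70 11)
def lv_a_10 : D2 → D3 → Nat := @D2.rec (fun _ => D3 → Nat) (@D3.rec (fun _ => Nat) 11 107 104 105 12 12 13 13 63 61 70 70 70 70 12 12 106 13 13 13 106 107 112 14 14 72 103 72 98 100 100 8 8 8 100 100 100 9 9 9 25 25 25 9 9 9 9 9 106 55 106) (@D3.rec (fun _ => Nat) 55 53 55 10 10 10 10 57 102 104 55 55 0 29 29 0 29 29 1 2 29 2 3 29 74 74 98 102 73 73 73 74 74 105 98 101 98 71 71 73 71 71 73 71 73 73 73 104 73 75 12) (@D3.rec (fun _ => Nat) 12 12 72 8 8 8 8 8 101 76 74 76 100 96 75 96 9 96 96 96 9 9 9 77 102 73 73 71 78 71 69 71 71 73 71 71 73 71 73 71 73 73 73 73 71 71 73 73 104 73 75) (@D3.rec (fun _ => Nat) 0 75 75 29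 29 0 29 1 2 29 12 12 12 12 12 12 12 72 72 72 73 9 9 9 9 9 9 9 9 9 9 9 9 9 9 9 9 9 102 78 78 76 78 76 76 101 98 10 10 102 102) (@D3.rec (fun _ => Nat) 75 102 10 76 75 75 10 10 10 106 100 102 10 10 10 10 10 10 104 77 98 77 76 2 102 71 62 71 60 71 62 60 58 71 69 60 71 60 60 62 60 58 62 62 60 58 56 71 73 62 71) (@D3.rec (fun _ => Nat) 73 70 75 66 73 64 66 64 64 64 107 62 62 1 2 60 29 29 29 107 29 29 29 29 29 29 108 29 2 3 29 12 12 12 12 12 12 12 12 12 12 12 68 12 12 68 70 70 68 69 72) (@D3.rec (fun _ => Nat) 10 10 10 10 10 10 10 10 10 10 10 10 10 10 10 10 10 10 10 10 10 10 10 10 10 10 10 10 10 10 10 10 10 10 10 10 10 10 104 11 103 11 11 11 11 11 11 11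 11 31 29) (@D3.rec (fun _ => Nat) 11 60 11 11 11 11 11 11 11 11 98 98 11 0 55 11 11 11 11 1 31 2 53 53 11 11 11 11 100 100 102 11 11 11 11 11 11 11 11 11 11 100 102 0 102 11 104 11 0 100 111) (@D3.rec (fun _ => Nat) 1 2 11 2 3 11 0 29 29 1 2 2 29 29 29 1 2 29 2 3 29 3 54 29 24 7 7 7 7 7 7 97 8 98 8 99 8 98 29 29 29 99 29 29 100 75 96 75 73 8 8) (@D3.rec (fun _ => Nat) 8 8 8 8 8 8 8 8 8 8 8 8 8 8 8 8 8 9 9 9 9 9 9 9 9 9 9 9 9 98 9 100 94 9 9 94 74 9 9 9 96 9 98 99 9 9 29 29 1 2 29) (@D3.rec (fun _ => Nat) 74 96 100 13 13 94 9 9 9 9 9 9 9 9 9 9 9 9 9 9 9 9 9 9 9 9 9 9 101 9 9 101 101 10 10 10 10 10 10 10 10 10 10 10 10 10 10 0 10 10 72) (@D3.rec (fun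 _ => Nat) 10 10 10 10 72 74 10 72 74 74 10 10 1 2 10 2 3 24 8 8 8 8 8 8 8 8 97 9 100 97 9 98 73 101 103 99 9 97 99 9 29 29 29 29 29 29 29 99 29 29 1) (@D3.rec (fun _ => Nat) 2 29 100 100 102 75 75 75 73 75 73 9 9 9 9 9 9 9 9 9 9 9 9 9 9 9 9 9 9 9 9 9 9 9 9 9 95 9 9 109 10 10 10 10 10 10 10 10 10 10 10) (@D3.rec (fun _ => Nat) 10 10 10 10 10 10 0 105 10 73 10 10 100 10 10 10 104 73 10 104 73 10 98 10 10 62 10 98 99 10 10 1 2 10 29 29 29 0 29 29 29 29 101 29 29 1 2 29 2 3 29) (@D3.rec (fun _ => Nat) 80 102 13 76 74 76 13 13 100 13 13 75 13 100 10 10 10 10 10 10 10 10 10 10 10 10 10 10 10 10 10 10 0 10 10 10 10 10 10 10 10 10 10 10 10 10 10 10 10 10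 10) (@D3.rec (fun _ => Nat) 0 10 10 1 2 10 11 11 104 11 11 11 11 11 11 11 11 78 11 11 72 11 11 11 11 11 11 11 11 11 11 11 0 11 11 11 11 11 1 79 2 72 11 11 72 74 11 11 11 11 63) (@D3.rec (fun _ => Nat) 11 11 72 74 74 11 74 74 11 11 11 11 0 101 11 11 11 11 11 1 2 11 2 3 11 29 29 1 2 2 29 29 29 2 3 3 82 24 24 9 9 9 9 71 102 113 10 10 69 69 71) (@D3.rec (fun _ => Nat) 104 70 65 29 73 73 60 58 58 62 56 73 10 10 10 10 10 10 10 10 10 10 10 10 10 10 10 10 10 10 63 61 63 61 59 59 59 59 59 57 57 55 11 11 11 58 11 11 58 11 11) (@D3.rec (fun _ => Nat) 61 58 56 11 11 11 59 56 54 69 69 11 108 11 11 66 11 11 100 69 64 11 102 67 62 11 60 62 60 108 60 58 60 58 71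 29 29 29 29 103 107 29 112 13 13 13 13 13 13 13 13) (@D3.rec (fun _ => Nat) 13 13 13 13 13 13 13 13 11 11 11 11 11 11 11 11 11 11 11 11 11 11 11 11 11 11 11 11 11 30 11 11 11 11 11 30 11 11 11 11 11 11 11 11 11 11 11 11 11 11 0) (@D3.rec (fun _ => Nat) 11 11 11 11 1 2 2 108 12 12 12 12 12 12 59 12 12 59 12 12 32 57 55 12 12 12 32 25 55 53 61 59 12 12 12 12 12 12 0 12 12 12 12 12 0 12 12 12 12 12 1) (@D3.rec (fun _ => Nat) 32 2 12 12 12 61 12 12 2 29 32 3 63 61 12 52 61 59 57 12 12 12 12 63 61 12 12 72 63 72 12 74 12 12 12 0 12 12 12 58 1 2 2 12 12 54 56 1 2 54 2) (@D3.rec (fun _ => Nat) 3 54 3 52 54 106 29 29 29 1 107 2 2 2 101 3 3 29 29 29 2 3 29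 3 54 29 65 63 63 61 63 61 12 12 12 12 12 12 12 1 2 12 110 109 13 13 110 13 102 100 59) (@D3.rec (fun _ => Nat) 0 102 61 57 98 61 1 2 2 102 100 1 102 101 101 13 60 1 103 60 2 3 13 58 56 56 58 2 3 56 3 54 56 3 56 3 56 103 98 100 73 75 73 9 9 9 9 9 76 97 101) (@D3.rec (fun _ => Nat) 75 99 73 75 75 76 10 10 74 72 74 77 77 75 2 102 105 102 71 71 69 71 71 73 73 75 73 73 71 73 10 10 10 10 10 10 10 10 10 10 10 10 10 10 76 78 76 76 76 76 103) (@D3.rec (fun _ => Nat) 104 103 77 11 11 77 101 75 77 77 11 11 11 77 75 77 77 77 76 74 11 74 11 76 74 74 11 79 11 77 100 79 100 77 79 77 79 77 79 1 2 1 2 2 3 3 83 29 1 2 29) (@D3.rec (fun _ => Nat) 2 3 29 109 105 60 60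 60 105 58 56 60 71 62 60 58 62 58 0 60 56 1 2 58 0 62 62 0 62 62 1 2 60 2 3 58 1 2 29 1 2 29 2 3 29 3 68 29 13 13 73)
def lv_a_11 : D2 → D3 → Nat := @D2.rec (fun _ => D3 → Nat) (@D3.rec (fun _ => Nat) 60 71 60 71 58 56 11 11 11 11 11 11 11 11 11 11 11 11 11 11 11 11 11 26 11 11 11 11 11 26 11 11 11 11 11 11 11 11 11 11 11 0 11 11 11 11 0 11 11 1 2) (@D3.rec (fun _ => Nat) 11 2 3 11 105 100 108 105 101 12 12 12 12 12 30 63 12 62 60 12 31 30 61 12 60 58 58 12 12 12 12 12 0 12 12 12 12 12 0 12 12 12 12 12 1 2 2 12 12 12 59) (@D3.rec (fun _ => Nat) 12 12 2 2 31 3 3 63 61 12 12 59 57 55 12 74 72 59 12 12 109 12 12 12 12 1 108 2 12 12 12 12 1 2 12 2 3 12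 3 54 12 29 103 29 29 29 2 103 3 29 29) (@D3.rec (fun _ => Nat) 29 2 3 3 56 9 9 9 9 9 9 108 9 9 80 10 10 77 10 74 10 10 10 10 10 10 10 10 10 10 10 10 10 10 77 11 11 103 97 104 11 95 97 11 1 99 2 72 101 11 72) (@D3.rec (fun _ => Nat) 74 74 72 74 97 99 11 95 97 2 3 11 29 101 2 3 3 10 10 10 10 10 10 10 10 10 10 10 10 10 10 10 10 105 10 10 1 2 10 11 11 80 11 80 80 77 11 11 11 11 11) (@D3.rec (fun _ => Nat) 11 11 79 11 74 72 11 1 79 2 79 11 74 72 99 11 62 11 11 2 3 11 29 3 84 29 11 11 11 11 78 11 11 11 11 11 11 11 11 11 11 11 1 2 11 11 11 11 11 11 11) (@D3.rec (fun _ => Nat) 11 11 2 3 11 12 12 12 76 12 12 81 76 72 72 12 72 72 12 12 103 12 12 0 12 12 61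 12 12 101 101 12 1 101 2 99 103 12 70 72 72 2 2 74 3 3 72 74 74 12 72) (@D3.rec (fun _ => Nat) 74 74 70 72 74 107 12 103 105 105 12 1 101 2 99 101 12 12 105 107 2 3 12 3 4 12 29 1 103 2 29 29 2 2 103 3 3 29 29 2 3 3 4 29 4 80 82 29 11 11 11) (@D3.rec (fun _ => Nat) 11 11 11 11 11 61 59 61 59 59 59 57 108 57 59 57 55 55 12 12 60 12 12 61 60 58 61 12 12 61 60 58 61 59 12 61 59 59 58 56 59 57 59 57 56 107 72 62 62 109 62) (@D3.rec (fun _ => Nat) 60 62 1 109 2 62 60 1 2 2 107 2 109 3 2 3 3 70 14 105 12 12 12 12 12 12 12 12 12 12 12 12 12 0 12 12 12 12 0 12 12 1 2 12 2 3 12 12 103 12 12) (@D3.rec (fun _ => Nat) 12 1 101 2 12 12 1 2 2 104 13 13 13 105 106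 59 13 13 0 57 55 61 13 13 0 57 55 59 13 1 32 2 57 55 53 61 59 57 2 32 3 63 61 53 61 59 57 13 13 13 113) (@D3.rec (fun _ => Nat) 13 13 61 13 13 1 2 2 13 63 13 13 61 59 13 1 2 2 103 61 13 101 59 57 2 2 3 3 3 63 61 59 54 61 59 57 3 3 32 32 4 52 63 61 59 57 54 59 57 74 101) (@D3.rec (fun _ => Nat) 72 13 103 101 13 61 2 99 13 13 60 2 60 3 54 56 102 61 61 61 3 13 13 13 106 107 114 0 59 14 57 14 104 59 102 105 61 57 1 104 2 57 55 1 2 2 61 14 60 60 58) (@D3.rec (fun _ => Nat) 11 95 76 101 95 3 4 12 29 99 29 29 29 101 29 3 4 29 4 105 104 12 12 12 3 83 12 97 101 72 103 74 105 3 3 3 4 4 85 76 76 76 83 99 101 103 97 99 101 103 3) (@D3.rec (fun _ => Nat) 4 13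 4 83 85 92 105 29 3 3 4 4 29 3 4 29 4 105 104 29 5 5 102 86 29 1 2 13 1 2 13 2 3 13 3 56 13 103 2 97 99 104 13 13 104 102 58 13 103 2 3) (@D3.rec (fun _ => Nat) 101 104 99 97 99 65 101 101 14 65 103 112 2 3 105 103 61 105 3 3 3 105 4 4 65 63 61 59 14 65 63 4 4 4 113 5 5 53 63 61 59 59 74 14 14 14 14 14 106 13 13) (@D3.rec (fun _ => Nat) 104 14 14 63 61 72 13 14 14 14 109 107 114 15 100 100 100 9 9 9 102 82 83 100 10 83 85 26 26 10 10 10 10 55 106 55 55 53 53 11 11 11 64 59 102 57 1 2 30 1 2) (@D3.rec (fun _ => Nat) 30 2 3 30 3 54 30 98 100 73 73 75 73 73 75 73 73 75 75 75 77 13 13 73 9 9 9 9 78 76 78 76 76 100 77 104 98 10 98 98 98 96 10 10 102 104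 73 78 73 73 78) (@D3.rec (fun _ => Nat) 103 71 71 60 73 75 73 73 75 0 73 75 75 73 73 75 64 75 75 73 106 73 62 0 77 1 2 75 1 2 2 3 13 13 13 13 13 72 13 72 72 72 10 10 10 10 10 10 10 10 10) (@D3.rec (fun _ => Nat) 10 10 10 78 76 78 76 78 76 76 76 76 76 100 104 77 11 11 104 77 102 100 11 75 77 77 77 11 11 11 106 104 106 98 11 79 11 11 11 79 107 109 103 64 62 62 62 71 62 62 60) (@D3.rec (fun _ => Nat) 60 60 58 75 62 60 62 62 60 62 62 60 62 62 60 62 60 58 60 60 58 58 64 73 75 62 64 71 75 64 64 105 64 62 64 62 62 111 108 60 2 3 58 30 30 108 113 30 30 30 30) (@D3.rec (fun _ => Nat) 106 30 3 70 30 13 13 13 13 13 13 13 13 13 13 13 13 13 68 13 13 68 13 65 68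 68 70 63 11 11 11 11 11 11 11 11 11 11 11 11 11 11 11 11 11 11 11 11 11 11 11) (@D3.rec (fun _ => Nat) 11 11 11 11 11 11 11 11 11 11 11 11 11 11 11 11 11 11 105 12 12 108 12 12 12 12 12 96 96 12 31 31 12 12 12 12 31 31 12 62 60 12 12 12 98 12 12 0 12 12 12) (@D3.rec (fun _ => Nat) 12 12 0 98 100 100 12 1 31 2 102 53 12 12 12 12 2 31 3 53 51 51 12 12 12 12 12 102 102 102 12 12 12 12 12 12 12 53 12 0 100 102 1 2 2 102 102 12 104 1 2) (@D3.rec (fun _ => Nat) 100 2 3 12 3 54 52 1 2 30 2 2 3 3 30 30 2 3 30 3 54 30 8 8 8 97 9 98 101 9 30 30 101 30 100 100 77 75 73 75 9 9 9 9 9 9 9 9 9 9 9) (@D3.rec (fun _ => Nat) 9 9 9 9 9 9 9 9 9 9 10 10 10 10 10 10 10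 10 104 10 10 97 10 96 10 10 100 102 96 10 96 96 98 99 10 2 3 74 76 100 96 76 14 10 10 10 10 10 10 10 10) (@D3.rec (fun _ => Nat) 10 10 10 10 10 10 101 10 10 10 10 100 10 10 10 101 10 10 101 10 101 102 101 11 11 11 100 11 78 11 11 74 11 11 106 11 11 106 11 11 11 1 80 2 74 11 11 74 76 11 11)
def lv_a_12 : D2 → D3 → Nat := @D2.rec (fun _ => D3 → Nat) (@D3.rec (fun _ => Nat) 96 76 76 11 11 2 3 11 3 25 9 9 9 9 97 97 10 102 83 100 65 101 101 10 86 84 30 30 30 30 30 30 101 30 2 82 30 102 78 103 60 77 77 75 75 75 10 10 10 10 10) (@D3.rec (fun _ => Nat) 10 10 10 10 10 10 10 10 10 10 10 10 76 10 10 10 10 10 10 10 10 10 10 10 10 10 82 10 106 11 11 11 11 11 11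 11 11 78 75 11 78 11 11 11 11 11 11 11 11 11 99) (@D3.rec (fun _ => Nat) 11 11 11 11 1 79 2 76 97 11 100 73 11 102 102 11 11 104 73 11 104 11 98 98 99 111 11 60 11 98 99 11 2 86 11 30 30 1 109 2 30 30 30 103 2 3 3 95 78 78 74) (@D3.rec (fun _ => Nat) 78 74 98 14 14 102 102 77 14 77 77 14 11 11 11 11 11 11 11 11 11 11 80 11 11 11 11 11 11 11 11 11 11 11 11 11 0 11 11 11 11 11 1 80 2 11 11 11 11 11 11) (@D3.rec (fun _ => Nat) 11 11 11 11 11 11 11 108 11 11 11 104 11 11 1 2 11 2 3 11 12 12 12 104 12 12 12 12 12 12 100 12 78 12 12 12 12 12 78 12 12 74 72 12 12 12 12 12 12 0 12) (@D3.rec (fun _ => Nat) 12 12 12 12 106 12 12 12 12 1 80 2 12 12 12 65 12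 12 2 80 3 74 76 12 12 74 76 74 12 12 12 65 63 12 12 76 76 74 12 103 12 12 12 1 2 2 101 103 12 12 12) (@D3.rec (fun _ => Nat) 2 3 12 3 82 12 30 2 2 3 3 30 30 3 10 10 104 104 105 71 71 69 106 65 60 60 58 60 58 64 58 62 56 11 11 11 11 11 11 11 11 11 11 11 11 11 11 11 11 11 63) (@D3.rec (fun _ => Nat) 63 61 63 61 61 61 59 61 59 60 59 57 57 12 12 60 12 12 63 60 58 12 12 12 58 105 12 12 61 60 58 56 64 12 12 59 56 98 69 71 12 107 107 12 100 64 12 12 100 69 64) (@D3.rec (fun _ => Nat) 67 102 62 60 60 60 109 62 60 14 14 14 14 14 14 14 14 14 14 14 14 14 14 14 14 14 14 12 12 12 12 12 12 12 12 12 12 12 12 12 12 12 12 12 12 12 32 12 12 12 12) (@D3.rec (fun _ =>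 Nat) 12 12 12 12 12 12 32 12 12 12 12 12 32 12 12 12 12 12 12 12 12 12 12 12 12 12 12 1 2 2 12 12 2 110 13 13 13 13 13 13 13 98 13 13 32 61 61 13 13 13 96) (@D3.rec (fun _ => Nat) 61 61 13 13 13 32 59 57 53 63 13 13 32 25 25 55 63 61 59 13 13 13 13 0 13 13 13 13 13 1 2 2 13 13 13 13 63 13 13 1 32 2 13 13 13 13 13 13 2 32 32) (@D3.rec (fun _ => Nat) 3 63 13 13 52 63 61 13 13 3 29 29 32 50 63 61 59 13 52 61 59 70 13 65 13 13 13 63 65 13 13 74 63 61 0 106 13 13 13 60 1 105 2 13 13 62 58 2 2 99 3) (@D3.rec (fun _ => Nat) 3 13 13 56 54 58 2 3 54 3 52 54 2 3 3 101 54 3 54 104 61 61 61 13 13 13 13 2 13 108 109 104 0 110 14 104 14 100 62 1 102 2 112 102 98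 2 101 103 60 3 54) (@D3.rec (fun _ => Nat) 14 60 58 56 60 3 54 56 56 100 73 75 10 10 78 99 77 98 77 75 105 77 77 76 11 104 103 100 71 71 62 60 71 73 75 62 60 62 73 11 11 11 11 11 11 11 11 11 78 78 78) (@D3.rec (fun _ => Nat) 78 78 78 105 103 77 105 105 75 77 77 12 12 12 103 77 104 79 75 77 77 77 61 12 12 79 75 77 77 77 77 78 76 74 59 76 79 79 102 100 79 79 79 2 2 3 2 3 30 3 72) (@D3.rec (fun _ => Nat) 30 107 100 104 99 62 60 60 58 62 60 0 62 60 60 58 0 60 58 1 2 58 2 3 56 1 2 60 1 2 60 2 3 58 3 58 58 2 3 30 2 3 3 72 14 62 73 62 60 60 58) (@D3.rec (fun _ => Nat) 12 12 12 12 12 12 12 12 12 12 12 12 12 26 12 12 12 12 12 26 12 12 12 12 12 26 12 12 12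 12 12 26 12 12 12 12 12 109 12 12 12 12 1 108 2 12 12 12 12 1 2) (@D3.rec (fun _ => Nat) 12 2 3 12 3 54 12 83 100 102 110 112 107 102 106 30 13 13 64 13 13 30 13 13 31 30 63 61 13 62 62 60 31 30 59 13 62 60 58 13 13 13 111 13 13 13 13 13 1 2 2) (@D3.rec (fun _ => Nat) 13 13 13 13 61 13 13 1 2 2 13 13 13 13 13 2 2 3 3 3 61 13 13 13 61 59 13 3 3 31 31 4 55 65 63 61 13 13 59 57 59 13 13 103 13 13 13 13 2 108 103) (@D3.rec (fun _ => Nat) 3 82 13 13 13 2 3 13 3 54 13 103 30 3 105 56 3 10 10 10 10 103 10 81 11 11 79 11 74 11 11 11 11 11 11 11 11 77 12 106 101 12 97 99 2 99 3 76 101 12 76) (@D3.rec (fun _ => Nat) 74 99 101 97 111 3 4 12 3 11 11 11 11 11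 11 11 11 11 11 11 11 11 105 11 11 105 11 2 91 11 80 12 12 81 12 81 81 76 12 12 12 12 63 12 12 12 79 79 12 61 72) (@D3.rec (fun _ => Nat) 2 81 3 79 12 64 101 12 64 12 3 90 12 12 12 12 12 12 78 12 12 12 12 12 12 12 12 12 12 12 2 3 12 12 12 12 12 12 3 82 12 78 13 13 13 13 78 13 77 78 72) (@D3.rec (fun _ => Nat) 13 103 13 13 101 107 105 13 13 1 2 2 101 101 13 13 63 61 13 99 107 2 99 103 3 72 105 105 13 72 61 72 3 3 76 4 4 76 74 74 13 76 74 61 107 13 103 105 2 99 101) (@D3.rec (fun _ => Nat) 3 97 101 103 13 105 107 3 4 13 4 80 84 92 2 105 3 3 3 105 4 3 4 80 84 12 12 12 12 12 12 12 61 61 62 61 61 59 61 59 57 105 57 59 57 61 13 13 111 62 60) (@D3.rec (fun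 _ => Nat) 63 13 13 63 61 62 61 60 58 61 13 63 61 62 60 58 105 61 59 63 61 59 60 58 59 59 59 105 62 107 64 62 2 111 105 62 2 3 3 13 13 13 13 13 13 13 13 13 13 13 103) (@D3.rec (fun _ => Nat) 13 13 13 13 1 2 2 13 13 13 13 1 2 13 2 3 3 13 103 13 2 99 101 13 13 2 0 14 14 14 14 102 104 112 102 61 61 14 14 1 2 2 57 57 55 53 63 61 14 1 32) (@D3.rec (fun _ => Nat) 2 55 53 59 2 32 32 3 63 55 53 63 61 59 3 32 63 61 59 53 61 59 14 14 14 14 14 108 103 103 103 14 14 103 61 14 2 2 99 3 3 3 99 14 14 63 61 14 54 63 61)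
def lv_a_13 : D2 → D3 → Nat := @D2.rec (fun _ => D3 → Nat) (@D3.rec (fun _ => Nat) 59 14 2 2 3 3 3 105 59 56 63 101 59 3 3 3 31 4 4 52 63 61 59 57 56 61 59 4 111 32 32 51 61 59 57 55 59 74 103 58 14 14 62 62 58 63 14 14 14 104 106) (@D3.rec (fun _ => Nat) 112 112 110 1 110 2 59 59 15 59 64 100 107 105 2 104 104 59 57 2 61 60 62 12 107 4 83 87 88 30 108 101 4 105 110 13 103 63 4 4 84 81 99 101 97 101 103 4 83 87 14) (@D3.rec (fun _ => Nat) 92 107 4 4 5 5 4 105 106 30 86 2 3 14 2 105 105 3 58 14 97 14 14 106 100 14 3 105 101 101 65 97 99 97 99 63 101 101 15 63 103 112 3 103 103 59 4 4 111 5 53) (@D3.rec (fun _ => Nat) 63 61 59 59 15 5 5 113 6 53 53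 59 15 106 14 14 112 15 63 14 15 107 121 16 100 100 106 10 102 100 83 66 27 11 11 11 110 55 57 55 55 12 87 66 55 57 2 3 2 3 31) (@D3.rec (fun _ => Nat) 3 56 73 73 98 73 75 73 75 75 75 75 75 14 10 10 10 76 76 76 102 77 102 98 98 100 98 110 105 102 73 80 78 77 71 78 71 73 71 62 73 73 75 0 73 75 64 75 75 1 77) (@D3.rec (fun _ => Nat) 2 75 75 75 64 75 62 75 75 75 1 2 2 3 2 3 14 14 14 74 14 74 11 11 11 11 11 11 11 11 11 11 78 80 78 78 78 78 78 78 78 78 78 100 104 77 77 106 12 12 104) (@D3.rec (fun _ => Nat) 77 104 106 108 78 77 77 77 100 12 12 12 100 108 106 108 100 81 81 83 104 109 106 105 62 62 64 62 60 64 62 60 62 62 60 58 60 58 62 73 64 62 60 64 64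 62 62 60 58 64 62) (@D3.rec (fun _ => Nat) 62 60 58 62 64 62 60 60 58 60 60 58 70 64 62 73 64 62 60 64 104 107 113 66 64 62 64 113 108 60 3 66 54 31 113 109 31 31 31 72 31 14 14 14 14 14 14 14 14 14 14) (@D3.rec (fun _ => Nat) 14 14 14 14 14 14 65 70 14 14 72 65 68 72 12 12 12 12 12 12 12 12 12 12 12 12 12 12 12 12 12 12 12 12 12 12 12 12 12 12 12 12 12 12 12 12 12 12 12 12 12) (@D3.rec (fun _ => Nat) 12 12 12 12 12 12 106 104 81 13 13 108 110 98 13 13 33 13 13 13 13 13 33 98 98 98 13 33 31 31 13 62 13 13 33 31 13 62 60 58 13 13 13 0 100 100 100 13 13 1 2) (@D3.rec (fun _ => Nat) 2 109 102 13 13 13 13 13 1 2 100 100 100 100 2 31 33 3 55 102 53 13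 13 13 13 13 3 33 4 55 53 51 52 13 13 13 54 102 102 102 102 13 13 13 55 13 13 53 55 1 2) (@D3.rec (fun _ => Nat) 102 2 2 3 3 3 82 104 104 13 2 3 102 3 54 54 59 54 2 3 31 3 3 4 56 3 56 31 9 9 99 100 101 84 102 103 99 75 10 10 10 10 10 10 10 10 10 10 10 10 10) (@D3.rec (fun _ => Nat) 10 10 11 107 11 78 11 11 11 98 11 101 11 96 11 96 11 86 11 3 74 100 101 78 15 11 11 11 11 107 11 11 11 11 11 11 11 102 11 11 103 11 11 11 102 11 11 110 11 103 11) (@D3.rec (fun _ => Nat) 100 12 12 106 12 78 12 12 72 12 112 12 12 107 12 12 2 81 3 76 12 12 76 76 12 106 76 12 111 3 84 12 10 10 99 99 96 105 101 84 78 105 75 73 77 75 75 75 11 11 11) (@D3.rec (fun _ => Nat) 11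 11 11 11 11 11 11 11 11 11 11 11 11 11 11 11 11 11 11 82 11 11 11 11 11 11 11 11 11 11 106 104 12 12 12 12 12 12 78 12 12 12 12 78 75 12 78 78 12 12 12) (@D3.rec (fun _ => Nat) 12 12 101 12 12 12 12 12 12 101 12 102 12 12 2 88 3 102 78 99 12 100 73 12 104 12 12 106 75 89 100 100 101 109 99 12 62 86 12 85 81 2 101 3 3 76 78 78 76 76 98) (@D3.rec (fun _ => Nat) 102 77 15 15 102 99 77 15 79 77 12 12 12 12 12 12 12 12 12 12 107 12 12 12 12 12 80 12 12 12 12 12 12 12 12 0 12 12 12 12 12 12 12 12 12 1 2 12 12 12 12) (@D3.rec (fun _ => Nat) 12 2 81 3 12 12 12 104 12 12 12 12 12 106 12 12 12 105 12 12 106 12 2 3 12 3 99 12 13 13 13 13 13 104 106 13 13 13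 80 13 13 13 13 13 13 100 106 13 80 13 13) (@D3.rec (fun _ => Nat) 13 65 13 13 80 13 13 72 72 13 13 13 13 13 13 13 13 1 2 2 101 13 13 13 63 13 13 106 108 13 13 13 2 81 81 3 65 13 13 13 65 63 13 13 3 81 82 76 76 13 13) (@D3.rec (fun _ => Nat) 76 76 74 13 13 106 63 65 13 13 76 76 87 101 103 13 13 2 2 3 3 3 99 101 103 13 60 104 3 84 13 3 3 4 104 73 71 106 60 73 64 60 58 64 58 62 56 60 12 12 12) (@D3.rec (fun _ => Nat) 12 12 12 12 12 12 12 12 12 12 12 12 63 61 63 61 61 60 61 61 59 60 59 57 61 59 57 59 57 58 61 13 13 60 58 110 13 13 63 61 60 60 58 56 66 13 13 56 112 13 59) (@D3.rec (fun _ => Nat) 58 56 100 64 13 13 100 62 73 69 100 100 13 102 66 13 64 102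 65 60 60 15 15 15 15 15 15 15 15 15 15 15 15 15 15 15 15 15 15 15 13 13 13 13 13 13 13 13 13 13 13) (@D3.rec (fun _ => Nat) 13 13 13 13 13 13 13 13 13 13 13 13 13 13 13 32 32 13 13 13 13 13 13 13 13 13 13 13 13 32 13 13 13 13 13 13 13 13 13 13 13 13 13 13 13 13 2 2 3 3 13) (@D3.rec (fun _ => Nat) 13 110 108 109 14 14 0 14 14 14 14 14 100 14 14 100 100 59 14 14 14 32 34 107 59 61 55 63 14 14 98 61 61 57 14 14 14 34 27 57 55 63 61 14 14 27 27 27 54 61 59) (@D3.rec (fun _ => Nat) 75 14 106 14 14 14 14 14 1 2 2 14 14 14 14 14 14 14 2 2 101 34 3 3 14 14 14 65 14 14 54 63 61 14 14 2 34 34 3 14 14 14 54 63 14 14 14 3 31 34 34) (@D3.rec (fun _ => Nat) 52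 65 63 14 14 54 61 59 14 14 31 31 31 34 63 61 60 14 54 59 61 67 0 63 14 14 14 63 63 14 14 0 61 61 1 104 101 14 63 2 103 105 14 60 3 3 101 54 14 14 56) (@D3.rec (fun _ => Nat) 56 58 3 54 56 56 104 63 14 14 14 107 104 106 1 108 2 112 104 15 102 102 2 104 104 103 104 101 105 60 56 62 60 58 58 58 109 75 11 108 77 79 75 102 77 76 103 105 105 73 60)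
def lv_a_14 : D2 → D3 → Nat := @D2.rec (fun _ => D3 → Nat) (@D3.rec (fun _ => Nat) 73 75 62 73 73 12 12 12 12 12 78 78 78 78 105 106 79 79 106 106 77 77 102 79 79 79 61 13 13 102 79 79 79 77 79 79 79 79 74 13 79 79 79 79 76 76 102 3 74 106 105) (@D3.rec (fun _ => Nat) 107 105 103 60 58 58 60 58 1 2 2 62 60 58 1 2 60 2 3 60 3 58 2 3 60 2 3 60 3 60 60 3 72 3 62 60 60 58 58 13 13 13 13 13 13 13 13 13 13 13 28) (@D3.rec (fun _ => Nat) 13 13 13 13 13 28 28 13 13 13 13 13 13 28 13 13 13 13 13 28 13 13 13 13 55 13 13 109 13 13 111 13 13 13 13 2 108 108 3 13 13 13 2 3 13 3 56 13 56 0 81) (@D3.rec (fun _ => Nat) 83 102 104 107 106 108 32 107 111 106 112 32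 32 14 65 14 14 62 62 14 32 14 30 33 32 63 61 14 60 60 33 53 60 58 14 14 14 14 14 106 111 14 14 14 14 14 14 2 2 107 3) (@D3.rec (fun _ => Nat) 3 3 14 80 14 65 14 14 14 61 59 14 14 2 2 3 3 3 14 14 14 14 3 3 3 31 4 4 55 106 63 14 14 14 59 57 4 33 33 33 5 63 61 59 57 14 103 82 14 14 14) (@D3.rec (fun _ => Nat) 3 103 109 103 56 82 14 14 14 3 57 14 14 11 11 11 87 11 82 79 12 12 12 12 12 12 79 13 99 104 97 109 3 101 4 76 108 13 107 107 4 86 85 12 12 12 12 12 12 12 12) (@D3.rec (fun _ => Nat) 12 12 12 12 108 12 93 12 93 12 82 82 13 13 82 82 82 13 13 62 81 13 13 61 13 81 81 13 74 3 81 88 81 13 64 62 101 13 13 94 13 13 13 13 13 80 13 13 13 13 13) (@D3.rec (fun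 _ => Nat) 13 13 13 13 3 80 13 13 13 13 78 78 14 14 14 14 78 14 79 78 85 105 105 109 14 14 107 105 107 109 14 2 2 101 101 3 3 99 101 63 101 14 14 63 61 74 14 106 109 3 103) (@D3.rec (fun _ => Nat) 103 4 74 105 103 14 74 74 4 4 76 87 82 87 76 81 83 107 105 107 3 101 103 4 99 101 103 14 107 4 82 86 14 85 3 4 13 13 13 13 13 59 63 62 59 59 57 59 57 107 57) (@D3.rec (fun _ => Nat) 61 60 14 14 14 107 109 62 62 60 58 107 61 14 106 63 61 59 61 60 60 58 59 14 63 61 59 60 58 111 59 61 59 58 59 61 62 105 64 14 14 14 14 14 14 14 14 14 14 14 14) (@D3.rec (fun _ => Nat) 103 105 14 14 14 2 2 101 3 3 14 14 14 14 2 3 3 101 14 14 1 2 2 59 15 15 15 102 61 106 104 109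 103 102 105 61 57 15 2 2 103 32 3 3 59 59 57 65 57 55 63) (@D3.rec (fun _ => Nat) 61 59 15 2 34 3 55 3 34 34 65 63 55 55 61 59 51 63 61 59 59 108 15 15 105 15 15 103 103 102 103 103 15 58 63 103 59 15 3 3 3 99 101 31 4 4 54 65 99 101 15) (@D3.rec (fun _ => Nat) 15 65 63 61 15 56 61 59 59 15 3 3 3 4 4 105 61 58 61 103 4 4 34 5 53 63 61 61 55 56 59 105 34 53 53 61 61 15 58 62 15 106 112 112 112 108 108 2 112 110 3) (@D3.rec (fun _ => Nat) 61 57 61 16 105 111 106 61 64 61 14 101 103 99 101 87 88 5 5 107 3 104 15 102 15 99 15 104 102 111 103 103 67 65 99 101 99 101 63 103 103 103 16 105 118 105 5 107 55 55 61) (@D3.rec (fun _ => Nat) 61 61 6 55 15 113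 16 16 119 12 100 55 55 55 3 3 106 73 73 102 77 109 77 75 75 77 15 78 78 100 107 110 106 83 106 106 66 73 78 73 64 62 64 62 64 62 73 66 77 104 1) (@D3.rec (fun _ => Nat) 79 2 66 77 75 64 75 2 79 3 75 75 64 66 77 75 2 3 15 15 15 74 74 12 12 12 12 12 78 78 78 78 78 78 78 78 78 78 78 78 102 106 79 79 106 106 13 100 104 108 108) (@D3.rec (fun _ => Nat) 79 79 100 13 81 81 100 108 106 83 81 98 107 106 108 105 107 106 103 64 64 62 64 62 64 62 60 62 64 62 60 60 62 60 58 74 64 62 64 62 64 62 60 64 62 64 64 62 60 62 60) (@D3.rec (fun _ => Nat) 64 62 60 64 62 60 60 62 60 58 60 62 68 61 52 68 64 64 62 64 62 55 104 111 111 109 66 64 62 60 102 65 54 109 74 15 15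 15 15 15 15 15 15 15 15 15 15 15 65 15 15) (@D3.rec (fun _ => Nat) 15 15 15 63 61 15 72 65 64 13 13 13 13 13 13 13 13 13 13 13 13 13 13 13 13 13 13 13 13 13 13 13 13 13 13 13 13 13 13 13 13 13 13 13 13 13 13 83 107 108 0) (@D3.rec (fun _ => Nat) 81 83 14 14 14 106 108 33 98 98 98 14 14 33 33 14 33 14 14 64 14 14 33 98 100 98 98 33 33 33 14 64 62 14 14 33 50 62 60 60 54 14 14 14 1 2 2 100 100 102 102) (@D3.rec (fun _ => Nat) 14 2 2 3 33 3 3 82 109 55 104 14 14 14 14 14 14 2 3 100 102 102 102 102 3 33 33 4 102 53 53 52 14 14 14 56 4 57 53 51 52 14 14 56 104 104 104 58 14 14 55) (@D3.rec (fun _ => Nat) 14 55 14 55 2 3 102 3 3 3 114 4 4 56 84 106 104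 14 3 56 102 59 54 54 3 56 4 99 75 11 11 11 11 11 11 11 11 11 11 12 111 12 78 12 12 100 101 12 98 12 109) (@D3.rec (fun _ => Nat) 110 85 105 76 100 107 78 12 12 12 106 12 12 12 12 12 12 102 12 104 12 12 12 102 12 84 12 110 13 13 104 80 13 13 74 13 111 104 108 110 3 82 82 76 13 13 78 78 13 78 93) (@D3.rec (fun _ => Nat) 99 103 105 62 60 77 75 12 12 12 12 12 12 12 12 12 12 12 12 12 12 12 12 12 12 12 12 12 12 12 12 12 86 12 12 12 12 12 12 65 106 112 13 13 80 13 13 13 13 13 13) (@D3.rec (fun _ => Nat) 80 13 80 13 13 80 77 13 80 80 13 13 13 13 13 101 101 106 13 13 108 13 13 101 13 104 13 13 3 83 83 103 78 81 107 75 89 104 13 107 106 88 107 101 13 85 105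 3 76 76 76) (@D3.rec (fun _ => Nat) 100 104 101 79 79 16 16 104 105 79 79 79 13 13 13 13 13 13 13 13 105 13 13 13 13 13 13 13 107 13 13 13 13 13 80 13 13 13 13 13 13 13 13 13 13 1 109 2 13 13 13) (@D3.rec (fun _ => Nat) 13 13 13 13 13 2 3 13 13 13 13 13 3 82 82 13 13 13 106 13 13 13 107 13 13 107 13 3 84 13 88 93 104 14 14 108 14 14 14 14 14 104 105 14 14 104 14 14 80 80 14)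
def lv_a_15 : D2 → D3 → Nat := @D2.rec (fun _ => D3 → Nat) (@D3.rec (fun _ => Nat) 14 14 14 65 14 14 14 102 104 80 14 14 14 72 14 14 80 82 14 74 74 14 104 14 14 103 106 14 14 14 14 2 2 3 81 3 3 103 101 103 65 14 14 14 65 63 14 14 108 106 106) (@D3.rec (fun _ => Nat) 14 106 3 82 82 82 65 14 14 14 65 65 14 14 82 85 76 84 14 14 85 78 78 108 67 14 14 93 78 112 103 105 108 3 3 3 99 4 4 86 101 103 105 14 60 14 4 73 62 60 62) (@D3.rec (fun _ => Nat) 60 60 58 64 58 62 60 13 13 13 13 13 13 13 13 13 13 13 63 63 63 63 62 61 63 62 61 63 61 59 61 59 61 59 59 60 63 60 109 14 14 60 58 108 14 63 61 60 60 58 100) (@D3.rec (fun _ => Nat) 64 14 14 108 14 58 100 62 14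 64 100 62 109 111 102 64 66 14 102 62 16 16 16 16 16 16 16 16 16 16 16 16 16 16 16 16 16 14 14 14 14 14 14 14 14 14 14 14 14 14 14) (@D3.rec (fun _ => Nat) 14 14 14 14 14 14 14 14 14 14 14 14 14 14 14 14 14 14 34 34 34 14 14 14 14 14 14 14 14 14 14 14 14 14 14 14 14 14 14 14 14 14 14 14 14 14 3 3 82 4 14) (@D3.rec (fun _ => Nat) 14 108 110 109 106 108 15 15 15 1 2 2 107 15 15 15 65 15 15 100 100 15 15 15 100 100 104 100 57 15 15 15 104 34 34 104 104 104 27 59 55 65 63 15 15 98 60 63 57 65 15) (@D3.rec (fun _ => Nat) 15 15 27 27 57 56 63 61 15 15 27 27 61 61 73 62 106 106 103 15 15 15 109 15 15 2 2 101 34 3 3 15 104 15 15 15 15 56 65 15 15 15 3 3 34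 101 31 34 4 52 65) (@D3.rec (fun _ => Nat) 15 15 15 15 65 63 15 15 54 63 61 15 15 3 34 34 52 111 15 15 15 54 63 15 15 15 31 31 34 34 63 61 15 15 54 54 61 61 15 15 0 31 31 61 62 72 61 61 1 65 15) (@D3.rec (fun _ => Nat) 15 15 0 63 63 65 0 15 1 63 103 62 105 15 62 101 54 15 63 58 56 56 15 109 102 2 112 3 110 102 16 104 101 103 60 60 58 58 58 79 105 79 105 105 73 62 73 13 13 13 80) (@D3.rec (fun _ => Nat) 80 107 101 79 79 106 81 77 77 109 102 109 79 79 61 14 14 106 81 81 79 79 79 74 81 79 79 78 102 103 110 105 107 101 103 60 60 2 2 3 3 60 58 60 2 3 58 3 58 3 60) (@D3.rec (fun _ => Nat) 60 3 62 102 60 62 60 60 14 14 14 14 14 14 111 14 14 14 14 14 106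 28 14 14 14 14 14 14 108 28 28 14 14 14 14 14 14 14 28 14 14 14 14 57 14 14 14 58 111 14 111) (@D3.rec (fun _ => Nat) 14 14 14 3 110 115 56 14 14 14 3 59 14 56 14 1 78 2 81 83 85 102 104 109 106 107 108 32 104 111 109 106 32 32 32 32 65 80 15 63 15 15 62 62 15 32 15 33 33 55 61) (@D3.rec (fun _ => Nat) 60 60 102 15 15 15 15 107 109 111 15 82 15 15 15 15 15 15 3 3 3 105 105 107 33 4 4 57 109 82 15 82 15 113 61 15 15 15 61 59 15 15 3 3 3 4 4 57 15 15 15) (@D3.rec (fun _ => Nat) 4 4 33 5 5 107 59 15 15 59 5 33 33 63 61 15 59 84 15 15 15 113 109 103 56 84 15 15 15 15 12 84 12 83 81 13 85 13 13 79 85 108 111 105 4 84 83 13 13 13 13) (@D3.rec (fun _ =>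 Nat) 13 13 13 13 13 87 13 84 13 82 83 83 14 83 90 83 14 81 64 62 81 14 14 74 14 81 81 14 81 81 94 68 64 110 14 14 94 14 14 14 14 14 82 14 14 14 14 14 14 14 14) (@D3.rec (fun _ => Nat) 14 80 80 99 15 15 15 15 80 85 86 107 105 105 15 105 105 109 109 15 3 3 101 101 4 4 99 103 63 107 15 15 63 74 59 15 108 4 105 82 84 74 107 15 83 109 105 107 4 101 103) (@D3.rec (fun _ => Nat) 5 99 103 105 15 86 85 14 14 14 14 14 63 61 59 59 59 59 63 62 60 113 15 15 65 109 111 64 62 62 60 107 61 15 105 111 63 61 62 64 60 60 61 15 63 61 60 61 113 61 61) (@D3.rec (fun _ => Nat) 61 64 108 15 15 15 15 15 15 15 15 15 106 102 15 15 3 3 101 4 15 15 15 15 3 101 15 2 2 107 3 3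 59 57 16 16 16 108 102 57 107 106 105 102 104 57 16 3 3 114 107) (@D3.rec (fun _ => Nat) 106 34 4 65 99 57 59 64 65 63 55 55 63 61 61 16 3 34 55 34 51 63 61 55 61 51 61 59 105 16 110 16 16 105 104 105 110 16 58 63 103 61 16 4 4 99 99 34 5 5 65) (@D3.rec (fun _ => Nat) 63 99 101 16 16 63 61 61 16 56 58 61 61 61 0 4 4 5 53 105 57 64 61 5 34 53 53 61 59 59 57 114 53 59 64 16 110 108 112 108 3 111 110 4 61 64 61 17 105 111 105) (@D3.rec (fun _ => Nat) 64 101 99 16 102 107 103 67 65 99 101 99 63 115 103 120 103 110 105 55 55 55 61 61 16 112 111 57 73 77 77 77 77 78 102 109 83 85 64 108 102 73 73 73 64 62 106 64 62 75 62) (@D3.rec (fun _ => Nat) 75 64 77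 2 79 79 3 64 77 64 77 3 79 86 66 77 16 16 76 13 13 80 80 80 80 80 80 80 80 80 106 79 107 106 110 14 102 106 110 83 79 102 83 83 108 85 108 85 107 109 112) (@D3.rec (fun _ => Nat) 108 110 64 107 108 107 109 66 64 64 62 60 66 64 62 62 60 62 64 62 60 60 60 60 52 74 62 60 66 64 62 64 62 60 66 64 62 66 66 64 64 62 62 60 60 64 62 62 62 60 60) (@D3.rec (fun _ => Nat) 63 62 61 54 60 60 61 73 59 64 62 64 62 64 57 104 81 113 107 65 68 66 64 62 104 56 16 16 16 16 16 100 16 16 16 16 16 16 16 16 16 65 16 16 16 63 63 65 14 14 14) (@D3.rec (fun _ => Nat) 14 14 14 14 14 14 14 14 14 14 14 14 14 14 14 14 14 14 14 14 14 14 14 14 14 14 14 14 14 14 109 81 83 100 108 104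 1 2 2 79 81 81 83 15 15 108 108 110 35 35 100) (@D3.rec (fun _ => Nat) 100 100 100 100 15 35 35 35 33 80 15 33 15 15 64 62 15 15 35 100 100 100 100 35 33 52 62 60 15 54 60 62 102 15 15 2 2 3 3 102 102 102 102 102 15 3 3 3 105 4 35) (@D3.rec (fun _ => Nat) 4 4 82 104 102 55 104 15 15 15 15 15 15 3 4 54 102 102 102 56 4 35 61 102 53 54 15 15 56 15 56 53 54 15 104 104 58 104 58 15 55 15 57 57 55 3 56 104 4 4 108)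
def lv_a_16 : D2 → D3 → Nat := @D2.rec (fun _ => D3 → Nat) (@D3.rec (fun _ => Nat) 5 5 56 84 106 106 56 63 109 61 56 109 12 12 12 12 12 12 104 13 80 13 83 109 106 107 105 80 13 13 105 13 13 13 105 84 13 13 13 94 86 110 104 80 84 14 74 14 110 110 83) (@D3.rec (fun _ => Nat) 87 86 14 14 85 105 105 60 75 77 13 13 13 13 13 13 13 13 13 13 13 13 13 13 13 13 13 13 13 13 13 13 13 13 13 13 63 67 112 110 112 14 14 103 80 101 14 14 80 14 14) (@D3.rec (fun _ => Nat) 80 14 80 14 14 88 81 80 80 89 14 14 14 103 103 113 14 14 104 14 14 83 107 106 14 103 105 107 106 105 14 87 111 113 14 109 78 78 102 104 103 101 108 79 79 17 105 79 14 14 14) (@D3.rec (fun _ => Nat)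 14 14 14 14 14 14 14 14 108 107 14 14 14 14 14 14 14 107 14 14 14 14 14 82 14 14 14 14 14 14 110 14 14 2 105 3 14 14 14 14 14 14 3 84 14 14 14 14 14 84 95) (@D3.rec (fun _ => Nat) 14 14 106 14 14 86 14 94 95 14 104 112 104 15 15 114 110 15 15 15 15 15 15 106 106 108 15 15 102 15 82 82 82 101 15 15 15 15 72 15 15 108 106 106 82 15 84 15 74 15 15) (@D3.rec (fun _ => Nat) 82 74 104 15 103 110 103 108 15 104 15 15 3 3 3 83 101 4 83 4 84 101 103 101 103 63 15 15 15 63 63 15 15 108 108 108 83 83 87 65 15 15 15 15 65 67 15 15 93 83 86) (@D3.rec (fun _ => Nat) 110 67 65 91 15 110 103 105 112 4 4 101 5 5 86 101 103 62 105 15 60 58 64 62 58 62 60 14 14 14 14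 14 14 14 14 63 61 65 61 65 61 65 62 61 59 61 59 59 59 59 60) (@D3.rec (fun _ => Nat) 60 60 58 109 15 58 112 15 61 64 58 58 102 64 15 15 112 102 64 64 15 102 111 114 104 66 66 17 17 17 17 17 17 17 17 17 17 17 17 17 15 15 15 15 15 15 15 15 15 15 15) (@D3.rec (fun _ => Nat) 15 15 15 15 15 15 15 15 15 15 15 15 15 15 15 15 15 15 15 15 15 15 15 81 34 34 15 15 15 15 15 15 15 15 15 15 15 15 15 15 15 15 15 15 15 15 15 15 15 4 83) (@D3.rec (fun _ => Nat) 5 15 108 110 109 109 106 108 110 109 16 16 2 2 105 112 3 3 108 106 110 65 16 16 16 63 16 16 102 102 109 16 16 102 102 100 100 59 65 16 16 16 104 36 79 104 104 103 29 57 57) (@D3.rec (fun _ => Nat) 63 61 16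 16 63 63 56 63 16 16 16 29 29 56 61 61 16 16 62 29 61 62 108 106 103 107 16 16 58 112 16 16 3 3 107 103 36 4 54 109 108 16 108 16 111 16 16 16 58 63 16) (@D3.rec (fun _ => Nat) 16 16 4 33 36 103 33 36 5 54 103 67 65 16 16 16 16 65 63 16 16 56 56 61 61 16 16 0 36 36 113 16 16 16 56 61 16 16 16 0 33 33 36 63 62 16 16 56 61 64 61) (@D3.rec (fun _ => Nat) 0 16 1 33 62 61 64 63 16 16 0 16 1 65 63 63 1 2 16 104 65 65 65 58 58 16 112 104 3 110 4 112 17 103 101 62 60 60 105 81 105 107 73 75 14 14 80 103 81 103 81) (@D3.rec (fun _ => Nat) 79 111 104 104 81 81 76 15 15 81 81 81 81 81 112 110 111 103 60 60 3 3 4 62 62 62 60 3 62 62 62 104 60 60 15 15 15 15 15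 106 110 15 15 15 15 106 30 15 15 15 15) (@D3.rec (fun _ => Nat) 15 15 15 110 30 57 15 15 15 15 15 15 15 57 15 15 15 57 15 15 109 15 59 15 15 15 113 110 58 15 15 15 112 15 58 2 80 3 81 83 85 111 113 111 109 109 111 111 34 80 106) (@D3.rec (fun _ => Nat) 111 111 110 34 35 34 55 65 80 16 63 16 16 60 62 16 55 35 104 16 16 16 16 109 111 57 82 16 82 16 16 16 16 16 16 4 4 107 111 109 35 5 5 57 106 82 16 82 16 107 63) (@D3.rec (fun _ => Nat) 16 16 16 16 59 59 16 0 4 4 5 5 16 16 5 5 35 6 109 61 16 35 61 16 58 84 16 16 16 107 105 58 84 16 16 16 13 84 81 85 14 14 14 14 14 14 86 14 14 64 84) (@D3.rec (fun _ => Nat) 84 84 15 84 15 64 83 68 66 83 15 15 74 15 83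 83 15 96 66 64 115 15 85 15 15 15 15 15 15 15 15 15 15 15 80 80 101 16 16 16 16 84 87 107 109 105 16 105 107 107 111) (@D3.rec (fun _ => Nat) 16 4 4 103 105 5 5 101 103 76 107 16 16 16 63 74 74 0 84 85 109 107 5 103 105 88 101 103 87 15 15 15 15 62 59 59 59 59 63 60 111 16 16 63 109 62 66 60 60 111 61) (@D3.rec (fun _ => Nat) 16 108 110 61 61 62 61 60 60 61 0 61 63 61 63 61 16 16 16 16 16 16 16 16 104 16 16 4 103 5 16 16 16 0 3 3 107 4 4 61 66 17 17 17 106 59 109 108 102 107 59) (@D3.rec (fun _ => Nat) 17 4 109 109 105 36 5 67 65 101 59 66 57 65 63 57 57 61 61 61 0 53 53 53 63 61 55 61 107 17 112 17 17 104 105 105 105 17 60 60 61 103 61 0 5 5 101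 36 6 6 67) (@D3.rec (fun _ => Nat) 65 101 103 17 17 63 63 63 63 0 58 58 61 61 0 1 5 55 55 107 57 64 55 55 55 63 63 57 111 17 106 114 108 4 114 110 114 5 66 66 61 111 108 57 67 65 101 103 63 114 110) (@D3.rec (fun _ => Nat) 112 57 57 114 75 86 83 71 102 73 75 64 64 64 75 64 60 66 3 81 81 66 68 86 68 66 17 14 80 80 80 80 80 80 106 81 102 108 106 15 102 110 85 110 83 110 87 87 107 107 109) (@D3.rec (fun _ => Nat) 110 112 114 66 110 108 64 108 107 105 113 64 62 66 64 62 66 64 62 60 62 62 60 64 62 62 52 62 61 62 64 62 60 64 62 62 82 64 62 62 66 64 66 64 62 62 60 62 62 62 63) (@D3.rec (fun _ => Nat) 54 62 62 65 63 63 60 54 65 62 58 64 64 64 57 64 113 84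 113 109 67 66 64 62 56 111 17 17 17 100 100 100 17 17 17 17 17 17 17 17 63 17 17 63 65 15 15 15 15 15 15) (@D3.rec (fun _ => Nat) 15 15 15 15 15 15 15 15 15 15 15 15 15 15 15 15 15 15 107 109 81 83 83 85 102 100 104 2 2 3 3 81 83 83 85 16 16 102 106 108 35 35 100 100 100 102 100 16 35 35 35) (@D3.rec (fun _ => Nat) 35 82 16 35 16 16 64 62 16 16 35 52 102 100 54 52 62 62 56 16 62 104 104 16 16 3 3 4 4 102 102 104 104 104 16 4 4 4 107 5 35 5 5 84 104 104 53 106 16 16 54)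
def lv_a_17 : D2 → D3 → Nat := @D2.rec (fun _ => D3 → Nat) (@D3.rec (fun _ => Nat) 16 16 16 16 0 4 59 54 104 104 58 104 58 59 53 54 16 16 58 58 106 106 60 57 57 16 57 57 57 58 111 5 5 108 108 58 61 86 106 56 56 111 13 13 102 104 80 109 110 14 14) (@D3.rec (fun _ => Nat) 86 84 14 14 82 84 106 106 75 14 14 14 14 14 14 14 14 14 14 14 14 14 14 14 14 14 14 14 65 65 69 67 114 112 15 105 82 101 15 15 82 15 15 85 105 82 15 107 82 15 15) (@D3.rec (fun _ => Nat) 103 85 109 15 15 106 15 15 107 106 107 15 106 111 87 115 112 109 78 106 105 103 105 110 81 81 18 15 15 15 15 15 15 15 15 15 15 15 109 107 15 15 15 15 15 15 107 15 15 15 15) (@D3.rec (fun _ => Nat) 15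 15 106 15 15 3 107 86 15 15 15 15 15 92 95 15 15 15 15 15 15 15 90 88 15 86 108 108 110 106 112 16 108 112 112 16 16 16 16 16 16 107 110 111 16 108 106 16 82 82 82) (@D3.rec (fun _ => Nat) 103 16 16 16 16 72 16 16 106 82 84 16 74 16 16 106 16 110 105 110 105 108 16 111 16 16 4 4 84 101 5 84 5 86 103 105 103 105 65 16 16 16 16 65 63 16 16 0 108 108 84) (@D3.rec (fun _ => Nat) 84 85 86 16 16 16 85 67 16 67 89 16 112 105 107 5 5 101 6 88 103 65 105 62 106 60 60 62 60 62 15 15 15 15 15 63 65 65 65 63 60 64 61 61 61 61 61 62 62 60 119) (@D3.rec (fun _ => Nat) 16 60 109 16 63 61 60 60 102 64 16 16 0 114 102 64 63 111 104 68 18 18 18 18 18 18 18 18 18 18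 16 16 16 16 16 16 16 16 16 16 16 16 16 16 16 16 16 16 16 16 16) (@D3.rec (fun _ => Nat) 16 16 16 16 16 16 16 16 16 16 83 34 36 16 16 16 16 16 16 16 16 0 16 16 16 16 16 16 16 16 16 16 16 16 16 5 84 110 109 111 106 108 104 110 17 17 3 3 107 114 4) (@D3.rec (fun _ => Nat) 4 108 112 110 65 17 17 17 65 17 17 102 112 17 17 102 100 59 59 65 17 17 17 103 36 79 105 103 106 29 59 57 63 63 17 17 0 65 58 63 17 17 17 64 29 58 63 62 63 64 17) (@D3.rec (fun _ => Nat) 62 106 107 111 17 17 58 117 17 17 4 107 36 5 109 108 17 106 17 111 17 17 17 58 63 17 17 17 0 5 33 36 103 33 36 6 54 103 69 65 17 17 17 17 58 63 63 17 17 0 56) (@D3.rec (fun _ => Nat) 56 63 63 63 0 17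 1 36 111 17 17 17 63 17 17 0 17 1 33 36 63 64 17 56 66 63 66 1 2 17 61 61 65 65 0 17 17 1 2 117 65 65 2 3 17 65 65 65 58 105 17) (@D3.rec (fun _ => Nat) 4 5 5 106 60 102 60 75 15 15 82 103 81 103 83 79 111 102 106 81 81 76 16 0 83 81 81 110 110 104 103 62 62 4 5 60 62 60 0 109 62 62 16 16 16 16 108 113 16 16 16) (@D3.rec (fun _ => Nat) 16 111 59 16 16 16 16 16 16 16 117 30 59 16 16 16 16 16 16 16 0 110 16 16 60 16 111 16 58 16 16 16 110 112 58 58 16 16 113 16 3 80 110 83 85 87 111 115 109 109 105) (@D3.rec (fun _ => Nat) 113 111 55 82 118 112 111 110 34 35 34 57 65 82 17 63 17 17 62 64 0 106 17 17 17 17 109 105 59 84 17 84 17 17 17 17 17 17 0 5 5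 107 107 107 35 6 6 59 106 84 17) (@D3.rec (fun _ => Nat) 84 17 17 109 61 17 17 0 17 17 61 61 0 1 5 5 6 17 17 6 7 109 63 17 86 17 17 17 105 58 86 17 15 15 15 15 15 15 86 15 70 85 85 85 16 85 16 70 83 68 66) (@D3.rec (fun _ => Nat) 83 16 16 16 76 0 83 83 85 66 66 112 91 16 16 16 16 16 16 16 16 16 0 82 82 101 17 17 17 87 0 86 107 111 103 17 105 107 107 107 0 5 5 103 107 6 6 86 101 105 105) (@D3.rec (fun _ => Nat) 76 107 109 0 17 17 85 61 0 1 103 101 16 16 16 0 62 61 61 61 0 65 62 113 17 17 63 106 64 61 62 62 107 63 0 108 107 63 63 62 61 62 63 0 0 1 63 63 63 17 17) (@D3.rec (fun _ => Nat) 17 17 0 17 17 17 104 17 0 5 103 6 17 17 0 1 4 4 111 5 116 5 66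 66 18 18 0 59 59 108 108 102 109 59 0 5 111 109 107 36 6 67 65 101 57 59 59 63 63 57 57) (@D3.rec (fun _ => Nat) 0 63 63 0 1 53 53 53 61 61 111 18 112 18 18 0 106 107 107 105 105 0 60 60 60 63 103 0 1 6 6 36 7 55 0 65 63 101 103 103 18 0 63 63 61 0 61 59 1 2 60) (@D3.rec (fun _ => Nat) 63 0 1 55 55 102 59 55 55 61 110 5 112 112 111 66 66 117 57 65 63 101 63 112 73 104 75 64 108 64 77 62 75 81 85 66 66 18 15 82 82 82 82 82 108 81 104 108 108 108 0) (@D3.rec (fun _ => Nat) 110 85 85 87 87 107 109 112 110 114 64 110 110 64 106 110 113 64 62 64 62 62 68 66 64 62 62 62 54 62 62 63 54 63 62 62 64 64 64 62 62 62 82 66 64 65 68 66 66 64 64) (@D3.rec (fun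 _ => Nat) 64 64 56 62 62 0 64 63 62 56 62 65 62 63 63 62 61 65 66 64 64 59 64 111 83 109 67 66 64 64 111 18 18 102 102 102 18 18 18 18 18 18 18 65 18 65 16 16 16 16 16) (@D3.rec (fun _ => Nat) 16 16 16 16 16 16 16 16 16 16 16 16 16 0 16 16 16 115 107 81 83 83 85 102 102 106 3 3 4 4 81 83 83 85 17 17 102 108 107 37 37 102 102 102 102 102 17 37 37 37 35) (@D3.rec (fun _ => Nat) 82 17 35 17 17 54 62 62 17 17 0 111 102 56 102 64 64 56 104 104 17 17 4 4 5 5 104 104 56 104 104 104 104 0 5 5 5 110 6 37 6 6 63 84 106 106 108 55 106 0 17) (@D3.rec (fun _ => Nat) 56 56 17 17 17 0 17 1 109 111 104 104 58 58 17 58 58 106 107 59 57 57 59 59 110 107 86 103 58 107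 75 15 15 15 15 15 15 15 15 15 15 15 15 15 69 69 67 65 112 106 16) (@D3.rec (fun _ => Nat) 105 85 105 16 16 82 16 16 107 82 109 16 16 16 115 85 108 16 16 109 106 16 16 0 108 112 113 80 106 113 107 120 81 81 19 16 16 16 16 16 16 16 16 16 109 109 16 16 16 16 16) (@D3.rec (fun _ => Nat) 16 16 16 16 16 16 108 16 16 107 88 86 16 16 16 16 16 16 0 84 16 16 16 16 16 88 92 110 110 108 106 114 17 108 114 112 17 17 17 17 17 17 105 111 116 17 111 108 17 84 84)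
def lv_a_18 : D2 → D3 → Nat := @D2.rec (fun _ => D3 → Nat) (@D3.rec (fun _ => Nat) 84 103 17 17 17 17 17 63 17 17 0 108 84 86 67 17 110 17 111 105 110 105 112 17 108 17 110 0 5 5 85 103 6 85 6 87 86 103 105 103 105 105 65 17 17 0 17 17 93 63 63) (@D3.rec (fun _ => Nat) 63 0 17 1 110 85 85 87 17 17 17 65 108 17 106 105 6 103 89 67 103 67 108 116 60 64 62 60 16 16 16 16 0 63 62 67 65 61 62 64 61 61 61 61 62 0 62 60 106 17 60) (@D3.rec (fun _ => Nat) 109 108 0 63 63 60 0 104 66 66 0 17 1 104 66 113 68 19 19 19 19 19 19 19 19 19 0 17 17 17 17 17 17 17 17 17 17 17 17 17 17 0 17 17 17 17 17 17 17 17 17) (@D3.rec (fun _ => Nat) 17 17 17 17 17 17 17 0 82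 36 36 17 17 17 17 17 17 0 0 17 1 17 17 17 17 17 17 17 17 17 17 17 84 107 116 108 106 117 18 18 4 4 112 110 5 5 5 110 112 106 65) (@D3.rec (fun _ => Nat) 18 18 18 18 63 18 18 0 104 114 18 18 104 61 61 61 63 18 18 18 0 105 38 81 105 103 117 31 59 58 0 63 63 63 0 18 1 58 63 18 18 64 18 64 63 64 64 18 108 109 109) (@D3.rec (fun _ => Nat) 18 18 60 60 117 18 18 0 5 38 6 111 110 18 106 18 111 18 18 18 0 60 63 18 18 0 18 1 6 35 38 105 35 38 38 0 56 107 67 65 18 18 18 18 58 0 58 58 65 65 64) (@D3.rec (fun _ => Nat) 0 18 56 1 2 58 63 63 0 63 1 2 18 38 111 18 18 18 66 63 0 18 18 1 2 18 65 63 18 63 66 2 3 18 63 65 1 2 116 18 2 3 115 105 65 3 4 4 18 67 67) (@D3.rec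 (fun _ => Nat) 119 5 5 6 6 104 0 75 16 0 0 105 83 0 83 81 113 104 104 83 83 0 76 0 1 83 83 111 109 109 110 0 0 5 6 64 0 64 1 62 0 17 17 17 0 110 111 17 17 17 17) (@D3.rec (fun _ => Nat) 107 59 17 17 17 17 17 17 17 0 109 32 59 62 17 17 17 17 17 0 17 17 0 1 114 17 17 111 17 110 17 17 17 114 107 109 60 17 82 115 103 83 85 85 0 111 110 108 110 118 107) (@D3.rec (fun _ => Nat) 57 82 112 110 110 0 36 37 36 57 65 82 18 18 65 0 18 62 0 1 108 18 18 18 18 18 0 107 107 59 84 18 84 18 18 18 18 0 18 18 18 0 1 6 6 107 107 107 59 37 7) (@D3.rec (fun _ => Nat) 7 0 59 112 84 18 18 84 84 0 18 18 108 65 63 0 18 1 2 18 61 0 1 6 7 7 106 86 18 18 60 86 16 16 16 16 16 0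 70 86 86 86 86 0 0 68 85 68 63 66 85) (@D3.rec (fun _ => Nat) 85 0 17 17 91 0 1 85 66 66 17 17 17 0 17 0 0 17 17 1 82 82 88 103 18 18 0 18 88 1 109 109 105 112 0 107 107 0 109 1 6 6 119 105 115 0 7 89 103 103 0) (@D3.rec (fun _ => Nat) 105 76 0 117 1 2 18 87 0 1 17 17 0 1 0 61 0 0 1 62 62 107 18 18 0 63 108 62 63 62 63 0 107 0 1 109 109 63 65 0 62 63 0 0 63 1 1 65 18 18 0) (@D3.rec (fun _ => Nat) 0 1 18 18 18 0 106 0 1 6 105 0 18 0 1 5 5 116 6 6 108 68 59 68 0 19 1 61 61 118 114 0 104 109 0 1 6 111 107 112 38 55 0 67 65 103 59 57 59 0 65) (@D3.rec (fun _ => Nat) 65 63 0 57 1 63 0 1 55 63 117 110 0 115 110 0 19 1 114 57 0 0 0 107 104 1 2 62 62 63 0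 1 7 0 38 57 0 57 1 65 65 65 103 103 0 109 0 1 65 65 0) (@D3.rec (fun _ => Nat) 65 63 1 2 59 2 3 0 1 57 104 112 68 110 65 65 64 104 71 64 116 66 62 64 64 0 86 66 19 0 82 82 82 0 82 0 0 109 108 108 0 108 1 87 87 89 107 106 112 110 110) (@D3.rec (fun _ => Nat) 66 111 110 64 108 105 111 64 62 64 64 64 66 64 64 62 54 64 64 0 114 64 63 64 63 64 64 64 62 56 64 64 64 0 83 64 64 64 68 64 64 64 62 64 65 0 62 62 61 0 64) (@D3.rec (fun _ => Nat) 1 65 64 62 113 67 64 64 65 62 67 66 107 59 66 108 85 69 64 64 19 19 102 102 106 19 19 19 19 19 19 19 65 65 0 17 17 17 17 17 17 17 17 0 17 17 0 0 17 17 17) (@D3.rec (fun _ => Nat) 17 0 17 1 17 109 113 83 85 85 87 104 102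 111 4 4 5 113 5 83 85 85 85 87 18 18 0 104 109 112 37 37 102 102 102 102 104 102 102 0 37 37 37 37 84 18 18 37 0 18 54) (@D3.rec (fun _ => Nat) 64 64 64 0 18 1 104 56 64 58 106 106 18 18 0 5 5 6 6 108 0 118 56 108 106 106 106 0 106 1 6 6 6 109 7 107 37 0 7 61 86 86 0 106 103 108 55 0 1 2 56) (@D3.rec (fun _ => Nat) 56 18 18 0 18 1 2 60 106 107 60 60 60 60 59 105 103 106 77 16 16 16 16 16 16 16 16 16 16 16 16 0 71 69 69 67 108 108 17 109 89 107 17 17 107 84 17 17 0 84 110) (@D3.rec (fun _ => Nat) 17 0 113 89 110 109 0 17 109 115 106 0 17 1 109 80 111 115 109 107 83 83 0 17 17 17 17 17 17 17 17 17 111 109 17 17 17 17 17 17 17 0 17 17 17 108 17 0 109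 88 92) (@D3.rec (fun _ => Nat) 90 17 17 0 17 17 0 17 1 17 17 17 17 110 110 108 109 18 108 114 108 117 18 18 18 18 18 18 18 0 107 113 118 18 110 110 110 0 84 84 84 84 105 18 18 18 88 0 18 18 65) (@D3.rec (fun _ => Nat) 67 0 18 1 18 110 114 0 118 107 112 115 107 112 110 0 110 0 113 1 6 6 86 103 7 88 86 86 0 88 87 105 107 107 105 105 0 107 109 65 88 0 18 18 1 2 18 93 65 0 65) (@D3.rec (fun _ => Nat) 1 2 18 86 18 18 67 115 108 18 109 90 67 105 67 116 62 62 64 0 17 0 0 17 1 63 62 62 67 67 63 64 0 63 63 63 64 0 0 64 1 62 108 108 0 0 0 110 1 0 0) (@D3.rec (fun _ => Nat) 0 1 120 104 0 66 1 2 65 65 68 20 0 20 20 20 0 20 20 0 20 1 18 18 18 18 18 18 18 18 0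 18 18 18 18 18 0 0 18 1 18 18 18 18 18 18 18 18 0 18 18) (@D3.rec (fun _ => Nat) 18 18 18 0 18 18 0 18 1 84 38 0 18 18 18 18 0 0 18 1 1 2 18 18 18 18 18 18 18 18 18 18 18 107 110 108 108 108 19 19 0 5 5 5 106 113 6 6 6 6 106)
def lv_a_19 : D2 → D3 → Nat := @D2.rec (fun _ => D3 → Nat) (@D3.rec (fun _ => Nat) 108 106 67 19 19 0 19 19 19 65 65 0 19 1 104 114 19 19 0 104 61 61 0 65 19 19 0 19 1 113 0 81 115 103 0 31 0 60 1 65 65 0 65 1 2 19 64 65 112 19 19) (@D3.rec (fun _ => Nat) 65 19 64 64 66 19 110 109 107 19 19 0 60 60 109 112 0 19 1 6 38 38 0 110 106 19 19 114 0 112 19 19 0 19 1 2 65 65 0 19 19 1 2 19 0 35 38 38 0 35 0) (@D3.rec (fun _ => Nat) 38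 1 2 107 67 65 66 19 19 0 19 58 0 60 1 2 60 58 65 65 0 66 63 1 2 19 58 2 3 0 65 1 2 68 2 3 19 111 19 106 19 65 1 2 19 2 3 112 63 19 65) (@D3.rec (fun _ => Nat) 68 3 4 4 19 2 3 3 117 3 4 112 67 4 4 5 67 113 6 6 0 1 0 0 1 1 0 0 1 85 85 0 116 111 0 104 113 0 83 1 0 1 111 111 0 0 1 1 6 0 62) (@D3.rec (fun _ => Nat) 1 2 0 1 18 18 0 18 1 117 113 18 18 18 18 18 0 111 61 109 18 18 18 18 18 0 18 18 18 0 1 118 107 0 61 62 18 18 0 18 18 0 18 1 2 18 1 18 18 109 60) (@D3.rec (fun _ => Nat) 82 105 115 85 85 0 87 1 112 112 110 111 0 107 109 57 84 112 112 0 112 1 36 57 37 0 59 65 84 84 0 19 0 1 2 0 1 108 108 0 19 19 0 19 1 107 106 0 61 86 19) (@D3.rec (fun _ => Nat)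 19 86 86 0 19 19 0 19 1 2 19 19 1 7 7 0 109 114 109 61 0 61 37 0 8 1 2 118 109 86 86 0 19 0 86 85 1 2 19 110 111 0 65 1 2 2 3 0 1 7 88) (@D3.rec (fun _ => Nat) 19 0 0 0 17 17 1 70 87 87 0 87 87 1 1 70 85 85 65 68 0 63 68 0 85 85 1 2 18 91 1 68 18 18 0 18 1 0 1 1 2 18 0 84 114 103 0 19 1 2 89) (@D3.rec (fun _ => Nat) 0 109 0 114 1 0 107 1 2 0 7 0 105 0 1 2 90 0 103 1 2 0 1 2 2 3 89 1 18 18 0 1 1 0 1 1 64 64 0 109 112 0 19 1 65 65 0 64 65 0 0) (@D3.rec (fun _ => Nat) 65 1 0 1 117 115 0 0 65 1 0 65 1 1 2 0 19 1 1 0 0 19 1 0 1 0 0 1 0 1 6 6 112 114 0 7 108 61 68 0 61 1 2 61 61 0 0 116 1 0 0) (@D3.rec (fun _ => Nat) 1 0 113 109 107 55 0 0 55 1 65 65 63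 103 103 0 59 0 1 65 63 0 63 63 1 2 0 1 0 110 1 0 112 1 2 20 0 57 1 1 1 2 119 104 2 3 62 0 1 0 1) (@D3.rec (fun _ => Nat) 0 57 1 2 57 65 63 0 63 63 0 103 1 2 119 1 0 63 1 2 2 3 3 1 65 64 66 0 64 0 64 0 0 64 1 87 66 0 1 0 0 84 1 1 1 114 0 110 1 2 88) (@D3.rec (fun _ => Nat) 88 88 90 108 111 111 111 110 111 66 111 109 109 64 64 0 112 112 66 64 116 64 64 64 0 66 66 64 0 64 62 0 64 1 112 65 64 65 65 0 66 66 0 110 64 108 64 64 0 64 1) (@D3.rec (fun _ => Nat) 83 66 67 0 67 66 66 65 66 66 0 66 64 0 65 64 1 2 58 63 1 2 67 64 64 115 64 109 64 65 67 61 66 67 66 20 0 104 106 20 20 20 0 20 20 0 20 0 67 1 18) (@D3.rec (fun _ => Nat) 18 0 0 18 18 0 18 0 18 1 18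 18 0 1 1 2 18 18 0 18 1 2 109 107 83 85 85 85 87 104 113 104 0 5 5 6 6 105 91 83 83 85 85 0 85 84 105 0 19 1 104) (@D3.rec (fun _ => Nat) 115 112 0 39 39 104 104 0 104 104 104 104 0 104 1 39 39 0 39 37 84 84 0 19 56 0 1 2 56 64 66 0 66 1 2 58 104 58 56 106 106 106 0 19 1 6 6 0 7 106 1) (@D3.rec (fun _ => Nat) 2 58 108 116 106 0 120 108 1 2 60 7 0 7 109 110 0 107 0 1 2 65 0 86 1 2 114 105 110 0 1 2 3 58 0 19 1 2 2 3 60 60 60 60 106 0 17 17 17 17 17) (@D3.rec (fun _ => Nat) 0 17 0 0 17 0 17 1 69 69 64 67 67 108 113 0 0 111 115 117 107 0 18 111 84 84 0 18 1 111 0 1 0 90 0 109 1 2 112 0 108 1 2 109 0 0 109 109 107 107 0) (@D3.rec (fun _ => Nat) 83 1 18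 18 18 18 18 18 18 18 0 18 0 113 112 18 18 18 0 18 18 0 18 1 18 0 0 108 0 1 0 89 92 94 0 18 18 1 2 18 1 2 18 18 18 18 108 109 108 110 110) (@D3.rec (fun _ => Nat) 0 110 117 112 108 106 19 19 19 19 0 19 19 19 0 19 1 0 115 110 111 0 112 0 112 1 86 86 0 86 86 105 105 0 19 19 0 90 1 2 19 0 67 1 2 19 19 0 116 1 109) (@D3.rec (fun _ => Nat) 107 107 113 108 0 107 0 116 1 2 1 2 7 0 87 87 105 89 0 89 88 0 87 87 1 2 88 105 105 0 107 107 0 105 105 1 2 60 109 109 0 89 1 2 19 19 2 3 95 0 1) (@D3.rec (fun _ => Nat) 2 2 3 19 19 19 67 118 105 69 113 116 0 0 64 1 0 1 1 2 63 64 0 0 62 67 0 64 1 63 63 0 0 64 1 1 2 0 0 108 1 1 1 2 1 1 1 0 106 1 2) (@D3.rec (fun _ => Nat)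 2 3 68 66 0 1 0 0 21 1 0 21 1 2 19 19 0 19 19 0 19 19 19 0 19 1 19 19 0 19 19 0 19 1 1 2 19 19 19 19 19 19 19 0 0 19 1 19 19 0 19) (@D3.rec (fun _ => Nat) 19 0 19 1 0 19 19 1 2 19 84 0 1 19 19 0 19 0 1 1 2 19 2 3 19 19 19 19 19 19 0 117 108 110 0 110 111 0 20 1 6 6 6 6 112 114 111 0 7 7 7) (@D3.rec (fun _ => Nat) 7 7 108 107 108 0 65 67 0 20 20 1 2 20 20 0 65 1 2 20 0 108 112 0 20 1 0 63 0 1 65 65 0 20 20 1 2 20 0 1 83 0 0 1 0 1 2 0 65 1 2) (@D3.rec (fun _ => Nat) 66 2 3 20 66 111 20 65 20 66 64 66 66 90 0 0 109 108 0 20 62 1 2 62 0 112 1 2 20 0 0 40 1 110 114 111 0 20 0 1 112 110 0 20 108 1 2 20 2 0 65) (@D3.rec (fun _ => Nat) 1 2 20 20 2 3 114 1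 37 0 40 1 0 1 2 2 109 109 67 68 0 66 65 0 20 1 2 20 58 1 2 60 2 3 3 111 0 67 65 1 2 65 2 3 3 20 3 1 2 65 2)
def lv_a_20 : D2 → D3 → Nat := @D2.rec (fun _ => D3 → Nat) (@D3.rec (fun _ => Nat) 3 68 3 4 4 20 111 20 110 114 65 2 3 119 3 4 4 114 83 65 4 4 5 3 3 109 4 5 6 111 1 1 1 1 1 0 85 1 0 111 1 0 113 1 2 1 0 111 1 1 0) (@D3.rec (fun _ => Nat) 1 2 2 1 0 19 1 2 113 115 0 19 19 0 19 1 0 61 107 19 19 0 19 19 0 19 1 2 19 19 1 0 118 65 1 2 64 0 19 1 2 19 1 2 2 3 19 109 0 105 117) (@D3.rec (fun _ => Nat) 0 85 1 2 112 110 0 112 110 1 107 59 0 59 84 84 0 112 1 2 0 57 0 1 2 0 0 84 1 2 20 1 2 1 0 110 112 1 2 20 1 2 20 0 108 1 2 86 86 0 20) (@D3.rec (fun _ =>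 Nat) 0 86 86 1 2 20 20 1 2 2 3 20 0 8 1 0 109 0 61 1 2 0 1 2 2 0 111 0 86 1 2 20 1 2 85 2 3 0 113 1 2 2 3 1 88 1 1 1 2 18 65) (@D3.rec (fun _ => Nat) 68 0 88 88 1 2 88 65 70 0 87 87 0 63 68 1 2 63 1 2 87 2 3 93 0 19 1 2 1 2 3 1 2 0 105 1 2 20 2 3 1 2 1 2 1 2 2 1 2 1 2) (@D3.rec (fun _ => Nat) 1 2 3 1 2 2 1 2 3 4 0 19 1 1 0 64 1 0 114 1 2 116 0 67 1 0 65 1 1 2 1 0 115 1 1 2 1 2 65 2 1 2 1 1 2 20 1 1 1 1 0) (@D3.rec (fun _ => Nat) 7 0 117 1 2 117 0 61 1 2 2 0 63 1 1 2 116 1 1 1 0 109 0 57 1 1 2 57 67 65 0 65 63 0 105 1 2 59 1 0 65 1 2 2 1 1 2 115 1 2 112) (@D3.rec (fun _ => Nat) 2 3 115 1 2 59 2 3 113 3 4 1 1 1 2 2 3 59 0 67 65 1 2 1 2 2 3 1 2 3 0 68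 1 0 1 0 1 1 2 88 88 68 1 1 1 2 0 1 2 2 3) (@D3.rec (fun _ => Nat) 89 89 89 116 111 0 113 111 112 112 113 111 66 68 0 113 111 112 0 66 1 0 115 112 0 64 119 106 66 66 0 66 1 66 64 0 64 64 1 2 56 1 2 65 65 106 65 65 1 0 66) (@D3.rec (fun _ => Nat) 64 1 2 58 110 0 66 110 1 2 66 85 67 0 66 1 2 68 67 0 67 64 0 64 64 1 2 58 66 1 2 67 64 2 3 63 2 3 69 66 111 66 67 66 90 0 1 104 116 108 0) (@D3.rec (fun _ => Nat) 0 21 1 0 21 1 2 1 2 0 19 1 1 0 19 1 2 1 2 0 19 1 2 0 19 1 2 2 109 116 109 85 85 87 87 0 87 87 89 106 106 0 104 1 6 6 0 7 84 107 0) (@D3.rec (fun _ => Nat) 85 84 0 87 89 1 2 86 107 1 2 20 106 106 0 112 1 0 39 0 104 1 2 106 0 106 106 1 2 58 0 39 1 2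 0 0 86 1 2 20 56 1 2 3 0 66 1 2 2 3 58) (@D3.rec (fun _ => Nat) 58 107 108 108 0 108 108 1 2 20 0 7 1 2 108 2 3 119 0 108 1 2 110 2 3 0 1 2 0 114 1 2 1 2 3 1 2 2 3 105 0 1 3 4 1 2 2 3 4 4 62) (@D3.rec (fun _ => Nat) 62 0 1 0 0 18 0 18 1 0 1 1 2 1 2 66 69 66 71 0 64 69 0 113 1 1 0 115 0 109 110 1 2 111 0 86 1 2 111 1 1 2 1 2 2 3 1 2 2 3 1) (@D3.rec (fun _ => Nat) 1 110 0 0 109 1 2 0 19 19 19 19 0 19 19 19 0 19 1 0 1 0 111 0 19 19 0 1 2 19 1 2 19 19 1 1 0 1 1 2 94 92 1 2 19 19 2 3 2 3 19) (@D3.rec (fun _ => Nat) 19 19 108 111 113 0 0 111 1 0 117 108 110 118 113 119 0 20 20 0 20 20 1 2 20 20 110 1 2 20 1 108 113 0 113 1 2 1 2 0 86 86 1 2 86 0 107 107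 1 2 20) (@D3.rec (fun _ => Nat) 20 1 2 2 3 1 2 2 3 20 20 1 2 109 112 0 109 0 110 1 2 1 2 2 2 0 1 0 88 88 0 90 89 1 2 89 1 2 88 2 3 0 107 107 1 2 109 109 1 2 62) (@D3.rec (fun _ => Nat) 107 105 2 3 3 113 111 1 2 2 3 3 20 3 4 1 2 3 4 20 20 118 113 115 1 1 2 1 2 0 66 1 1 2 64 1 2 66 0 65 1 1 2 2 1 1 2 116 2 1 2) (@D3.rec (fun _ => Nat) 2 3 4 68 1 1 1 2 1 2 22 2 0 20 1 0 20 20 1 2 20 20 1 2 20 0 20 1 0 20 20 1 2 20 2 3 20 20 20 0 20 1 1 2 20 0 20 1 0 20 1) (@D3.rec (fun _ => Nat) 2 20 1 2 20 20 2 3 0 1 0 20 1 2 20 1 2 3 20 3 4 20 20 1 0 0 108 1 0 113 1 2 21 0 7 7 7 7 7 0 0 113 113 1 2 8 8 8 8 0 107) (@D3.rec (fun _ => Nat) 0 1 0 67 69 1 2 21 21 21 2 3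 21 1 2 67 2 3 21 1 0 114 1 2 21 1 0 1 0 67 1 2 21 21 2 3 21 1 0 1 1 1 2 1 2 66 2 3 66 3 4) (@D3.rec (fun _ => Nat) 4 90 66 113 21 67 88 66 66 68 68 1 1 0 108 1 2 21 62 2 3 1 2 114 2 3 117 1 1 2 0 114 0 1 2 21 1 0 112 114 1 2 21 108 2 3 114 1 2 67 2) (@D3.rec (fun _ => Nat) 3 3 112 3 4 4 111 0 1 2 40 1 2 0 109 111 0 68 65 1 2 68 65 1 2 21 2 3 3 60 21 2 3 3 3 4 113 1 2 65 2 3 3 3 4 85 2 3 3 4 67) (@D3.rec (fun _ => Nat) 4 4 5 5 112 116 86 3 4 109 4 4 5 11 5 6 6 90 1 2 1 2 113 1 2 2 1 2 1 2 1 2 20 2 0 116 1 2 20 1 2 20 1 2 109 0 20 1 2 20 20) (@D3.rec (fun _ => Nat) 1 2 2 3 20 1 2 120 67 2 3 1 2 20 2 3 2 3 1 2 120 1 2 87 2 0 114 112 1 2 112 0 59 1 2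 0 86 1 2 114 2 1 2 59 1 2 1 1 2 86 2) (@D3.rec (fun _ => Nat) 3 1 2 110 112 2 3 2 3 21 1 2 2 0 88 1 2 21 1 2 88 88 2 3 21 2 3 4 1 2 1 2 109 1 2 2 1 2 1 2 114 1 2 88 2 3 2 3 3 1 2) (@D3.rec (fun _ => Nat) 2 2 3 0 65 70 1 2 89 89 2 3 0 67 70 1 2 87 87 1 2 65 2 3 2 3 3 4 1 2 20 2 3 2 1 2 105 2 3 3 2 2 2 2 2 3 2 4 1 2 1)
def lv_a_21 : D2 → D3 → Nat := @D2.rec (fun _ => D3 → Nat) (@D3.rec (fun _ => Nat) 2 66 1 2 114 2 3 1 2 1 2 67 2 1 2 117 2 2 3 2 2 3 1 2 1 2 2 3 1 2 2 1 2 118 2 3 1 2 1 2 57 2 3 57 0 65 65 1 2 65 1) (@D3.rec (fun _ => Nat) 2 105 2 3 1 2 2 2 3 2 3 3 4 4 2 3 3 4 4 2 3 4 59 1 2 2 2 3 1 2 1 1 2 3 89 89 2 1 2 3 4 4 90 0 113 1 0 111 113 116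 112) (@D3.rec (fun _ => Nat) 95 0 113 111 0 66 68 1 2 111 111 1 2 66 1 0 112 112 1 2 106 106 0 66 106 1 2 67 0 66 64 1 2 66 58 2 3 2 3 65 67 65 65 1 2 66 66 109 2 3 119) (@D3.rec (fun _ => Nat) 1 2 66 112 2 3 0 67 1 2 2 0 69 66 1 2 67 66 1 2 60 83 2 3 66 2 3 3 67 3 4 3 4 66 67 1 0 0 108 1 1 2 1 2 22 2 2 1 2 20 1) (@D3.rec (fun _ => Nat) 2 20 2 2 1 2 20 1 2 2 0 118 109 0 85 85 0 87 87 1 2 87 87 0 106 106 1 2 106 0 7 1 2 107 84 113 1 2 85 84 1 2 87 91 2 3 109 2 3 58 0) (@D3.rec (fun _ => Nat) 106 106 1 2 114 1 2 1 2 106 2 3 1 2 106 2 3 60 1 2 41 2 1 1 2 86 2 3 3 58 3 1 2 2 3 4 109 0 108 1 2 108 108 2 3 21 1 2 2 3 3) (@D3.rec (fun _ => Nat) 4 1 2 2 3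 3 4 1 2 1 2 2 3 2 3 4 1 4 2 4 4 5 1 1 1 2 1 2 1 2 2 0 64 69 0 66 69 1 2 64 1 2 115 1 2 1 2 109 111 2 3) (@D3.rec (fun _ => Nat) 1 2 2 3 2 2 3 2 3 0 1 1 2 2 1 0 20 20 0 20 20 1 2 20 20 1 2 20 1 1 2 1 2 20 20 1 2 3 2 3 20 20 1 2 3 3 2 3 3 20 3) (@D3.rec (fun _ => Nat) 3 4 20 20 0 0 111 1 1 2 115 1 2 110 110 97 94 91 0 1 2 21 21 21 1 2 21 21 21 2 3 21 108 2 3 21 0 113 1 2 113 2 2 1 2 88 88 2 3 1 2) (@D3.rec (fun _ => Nat) 107 107 2 3 3 21 2 3 2 3 4 21 2 0 112 1 2 109 1 2 2 2 1 1 2 89 89 1 2 90 2 3 2 3 3 1 2 107 107 2 3 3 109 111 2 3 3 112 107 3 3) (@D3.rec (fun _ => Nat) 4 4 113 113 2 3 3 4 21 4 4 5 115 2 1 2 66 2 3 2 3 1 2 65 2 2 3 2 4 5 2 2 3 1 2 21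 1 2 21 21 21 2 3 21 2 3 21 1 2 21 1) (@D3.rec (fun _ => Nat) 2 21 21 2 3 21 3 4 21 1 2 21 2 3 1 2 21 1 2 21 2 3 2 3 3 3 1 1 2 21 2 3 21 3 4 4 5 1 1 2 110 1 2 113 2 3 22 1 2 8 8) (@D3.rec (fun _ => Nat) 8 8 1 1 2 113 113 2 3 3 9 9 108 1 2 1 1 2 67 67 69 2 3 3 22 22 22 3 4 2 3 66 3 4 4 92 1 2 114 2 3 117 1 1 2 68 2 3 3 22 3) (@D3.rec (fun _ => Nat) 4 4 88 1 2 3 66 3 4 66 4 4 5 5 115 88 68 68 1 2 110 2 3 3 3 2 3 3 4 4 2 1 2 116 1 2 3 114 1 2 114 2 3 3 112 114 3 4 86 2 3) (@D3.rec (fun _ => Nat) 3 3 4 4 109 4 4 5 5 1 2 3 1 2 111 113 1 2 70 67 2 3 3 67 2 3 22 3 3 4 4 4 113 85 3 4 5 2 3 3 4 5 3 4 5 10 5 5 6 112 86) (@D3.rec (fun _ => Nat) 4 12 5 11 6 90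 2 2 3 2 2 2 3 1 2 2 3 2 3 21 2 3 1 2 21 2 3 21 2 3 4 2 3 3 3 2 3 3 2 3 2 3 1 2 114 112 2 3 1 2 61) (@D3.rec (fun _ => Nat) 2 1 2 86 2 3 2 3 2 3 3 4 2 3 3 3 3 4 4 22 2 1 2 88 2 3 2 3 88 3 4 4 2 2 3 2 2 3 2 3 3 4 3 2 3 1 2 65 65 2 3) (@D3.rec (fun _ => Nat) 3 3 1 2 67 65 2 3 3 2 3 3 3 4 2 3 2 3 3 4 2 2 3 2 3 3 4 2 2 3 2 3 3 4 3 4 2 2 3 2 2 3 3 4 2 2 3 59 3 4 59) (@D3.rec (fun _ => Nat) 1 2 67 2 3 2 3 3 4 2 3 4 3 4 4 4 5 3 4 4 5 2 2 3 4 90 4 4 5 1 2 113 1 2 113 115 95 96 1 2 115 113 113 1 2 68 68 68 2 3 113) (@D3.rec (fun _ => Nat) 2 3 67 1 2 114 114 114 2 3 108 1 2 67 106 2 3 67 1 2 66 58 2 3 3 58 3 3 4 67 107 2 3 3 111 3 4 2 3 3 3 1 2 2 1 2 69 66 2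 3 3) (@D3.rec (fun _ => Nat) 66 69 2 3 85 3 4 3 3 4 69 4 4 5 1 1 2 110 2 2 3 2 3 2 3 2 3 21 2 1 2 109 1 2 87 87 87 1 2 89 89 89 2 3 89 1 2 108 108 2 3) (@D3.rec (fun _ => Nat) 60 1 2 2 3 3 115 2 3 3 86 2 3 3 91 115 3 4 3 4 4 109 1 2 108 108 2 3 110 2 2 3 3 2 3 3 4 2 3 2 3 3 3 4 4 116 2 4 5 1 2) (@D3.rec (fun _ => Nat) 110 2 3 3 110 110 3 4 4 22 2 3 4 2 3 4 2 4 5 2 2 1 2 66 66 1 2 68 66 2 3 2 3 2 2 3 3 116 3 2 3 1 2 1 2 21 21 21 1 2 21) (@D3.rec (fun _ => Nat) 21 21 2 3 21 2 3 21 2 2 3 3 21 3 3 4 21 3 3 3 3 4 21 4 5 1 1 2 115 2 3 2 3 3 93 89 115 1 2 3 3 109 22 2 3 3 22 22 22 3 4) (@D3.rec (fun _ => Nat) 110 3 4 4 92 1 2 2 3 2 3 3 3 2 3 3 109 3 3 4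 4 22 4 5 1 2 2 3 2 2 3 3 2 3 3 3 2 3 3 109 107 3 3 4 4 4 115 85 3 3 4) (@D3.rec (fun _ => Nat) 4 4 4 5 5 115 4 5 5 2 3 3 3 4 2 3 3 4 5 3 4 2 3 22 2 3 3 22 22 22 3 4 3 4 4 2 3 2 3 3 22 3 4 4 2 3 3 4 2 3 2) (@D3.rec (fun _ => Nat) 3 3 3 3 2 3 22 3 4 4 4 5 2 3 2 3 113 3 4 4 90 2 3 3 9 9 2 3 3 3 3 4 4 108 2 2 3 3 69 68 67 3 3 4 4 4 4 4 3 4 4)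
def lv_a_22 : D2 → D3 → Nat := @D2.rec (fun _ => D3 → Nat) (@D3.rec (fun _ => Nat) 68 4 4 5 5 2 3 3 4 4 2 3 3 3 4 4 90 4 4 5 3 4 4 5 5 5 6 6 70 2 3 3 3 4 3 4 4 4 5 2 3 3 4 4 88 2 3 3 3 4 4) (@D3.rec (fun _ => Nat) 114 88 4 5 3 4 4 5 12 5 5 3 4 2 3 3 2 3 3 67 70 3 3 4 4 3 4 4 87 4 4 4 5 5 5 5 5 3 5 5 12 6 7 13 13 13 3 4 3 4 2) (@D3.rec (fun _ => Nat) 3 3 4 4 22 3 2 3 3 4 4 3 3 3 4 3 3 4 2 3 3 3 2 3 2 3 3 4 3 4 3 4 4 3 3 4 4 4 5 5 2 3 3 4 3 4 4 3 4 3 4) (@D3.rec (fun _ => Nat) 3 4 4 2 3 3 3 3 4 2 3 3 3 3 4 3 3 4 3 4 4 3 4 3 4 4 3 4 3 4 4 4 3 4 4 3 4 4 59 4 5 2 3 3 4 3 4 4 4 4 36) (@D3.rec (fun _ => Nat) 5 6 5 4 5 5 2 3 111 2 3 3 114 94 2 3 3 86 113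 2 3 3 68 67 68 3 4 3 4 4 67 2 3 3 114 3 4 2 3 3 109 3 4 2 3 3 60 3 3 4 4) (@D3.rec (fun _ => Nat) 114 4 5 3 3 4 4 3 3 2 2 3 3 68 71 3 3 4 4 4 69 3 4 4 4 5 5 2 3 3 4 3 4 3 4 3 4 4 22 2 3 2 3 3 87 87 2 3 3 89 89) (@D3.rec (fun _ => Nat) 3 4 2 3 3 108 3 4 4 2 3 3 4 3 3 4 4 86 3 3 4 4 4 91 4 4 4 5 5 2 3 3 108 106 3 4 4 108 3 4 3 4 3 4 3 4 4 4 5 5 5) (@D3.rec (fun _ => Nat) 2 3 3 3 4 4 4 4 4 5 5 2 3 3 2 3 3 3 3 4 3 3 4 4 2 3 3 22 2 3 3 22 22 22 3 4 3 4 4 3 3 4 4 22 4 5 4 5 5 2 3) (@D3.rec (fun _ => Nat) 3 4 3 3 4 4 4 3 3 4 4 4 98 102 3 3 4 4 4 4 92 96 4 5 4 4 5 5 2 3 4 3 3 4 3 3 4 4 100 4 4 5 5 5 2 3 4 3 3 4 3) (@D3.rec (fun _ => Nat) 3 3 4 4 4 109 4 4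 4 5 5 5 5 4 4 5 5 6 5 3 4 4 3 4 4 4 3 4 4 3 3 4 4 4 4 4 4 4 5 3 4 3 3 4 4 3 4 4 3 4 3) (@D3.rec (fun _ => Nat) 3 4 4 4 4 5 3 4 3 4 4 4 4 5 5 3 3 4 4 3 3 4 4 4 5 3 3 4 4 4 4 4 4 4 4 5 5 4 4 5 5 32 5 5 6 6 3 4 4 4 5) (@D3.rec (fun _ => Nat) 3 4 4 5 5 4 5 6 6 7 3 4 4 4 37 5 3 4 4 4 5 5 3 4 4 5 5 5 13 5 13 4 3 3 4 3 3 4 4 4 4 4 5 4 4 5 5 33 5 5 5) (@D3.rec (fun _ => Nat) 5 6 6 12 7 4 4 4 4 5 5 3 4 4 4 4 3 3 4 3 4 3 4 4 4 4 32 4 37 5 5 6 3 4 4 4 4 4 4 33 3 3 4 4 3 3 4 4 4 4 34) (@D3.rec (fun _ => Nat) 4 4 37 4 4 33 37 4 37 4 4 5 5 5 3 4 4 4 32 37 37 37 6 5 3 4 4 3 3 4 4 3 3 4 4 4 101 99 3 3 4 4 4 4 95 93 4 4 4 5 5) (@D3.rec (fun _ => Nat) 3 3 4 4 4 3 3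 4 4 3 3 4 4 110 4 4 5 5 5 4 3 3 4 4 4 99 4 4 4 5 5 5 4 5 3 4 4 4 4 4 4 5 5 3 3 3 4 4 4 3 3) (@D3.rec (fun _ => Nat) 4 4 4 4 3 3 4 4 4 4 5 4 4 4 5 5 4 4 4 5 5 5 33 5 5 6 3 3 4 4 4 4 4 5 5 4 4 4 33 5 5 6 3 4 4 4 4 5 5 38 5) (@D3.rec (fun _ => Nat) 5 6 6 3 3 4 3 3 4 4 4 4 3 3 4 4 3 3 4 4 4 4 4 4 4 4 4 5 5 5 5 3 4 4 4 4 4 4 4 4 5 5 5 4 4 4 4 5 5 5 5) (@D3.rec (fun _ => Nat) 5 33 5 5 6 4 4 4 4 5 5 35 5 5 6 4 4 4 4 4 5 5 5 34 5 5 5 5 6 6 6 4 33 4 38 34 4 4 5 4 4 4 4 5 5 33 5 4 4 4 38) (@D3.rec (fun _ => Nat) 4 4 4 5 34 5 4 4 4 5 33 5 5 6 4 4 4 5 4 4 4 4 5 5 33 5 5 33 5 5 6 33 6 6 7 4 38 5 5 7 4 38 38 38 4 34 5 5 6 5 5) (@D3.rec (fun _ => Nat) 34 4 4 4 4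 5 5 34 5 34 5 5 6 34 34 6 6 34 33 38 5 5 6 4 34 33 4 4 4 33 33 33 38 38 6 4 34 34 34 34 4 35 4 34 35 35 38 38 34 34 38) (@D3.rec (fun _ => Nat) 33 5 5 6 4 33 33 38 4 4 5 4 4 4 4 4 5 5 5 4 4 4 4 5 5 5 5 34 5 5 6 4 4 4 4 4 5 5 34 5 5 6 4 4 4 5 5 5 32 5 5) (@D3.rec (fun _ => Nat) 5 6 4 35 34 34 39 5 5 6 4 4 4 5 4 4 4 5 4 4 5 34 5 34 5 5 6 34 5 5 5 6 34 6 4 4 4 5 5 39 5 5 6 34 34 34 34 6 4 39 5) (@D3.rec (fun _ => Nat) 5 39 6 6 7 4 4 34 36 4 4 4 4 4 4 5 34 36 5 5 6 4 34 36 5 5 5 6 6 34 5 5 5 5 6 6 34 6 36 36 36 5 5 6 36 6 35 35 35 5 5) (@D3.rec (fun _ => Nat) 5 6 35 35 6 6 34 39 34 5 34 5 5 34 39 39 35 35 5 35 34 34 5 34 6 34 34 5 5 34 34 34 6 34 34 7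 39 39 39 35 35 6 35 35 5 5 35 35 6 35 35) (@D3.rec (fun _ => Nat) 39 6 35 34 34 34 39 35 36 35 34 6 34 35 5 35 5 5 5 6 6 35 5 5 5 5 6 6 35 6 35 35 5 5 6 35 6 33 5 5 5 6 33 33 6 40 40 6 35 5 35) (@D3.rec (fun _ => Nat) 5 35 5 35 35 6 35 35 6 35 40 5 5 40 6 35 40 40 40 40 40 7 37 35 37 35 5 37 6 35 37 6 6 35 35 6 6 35 37 6 37 36 36 6 36 36 35 35 35 36 35) (@D3.rec (fun _ => Nat) 35 35 35 35 35 36 36 36 36 40 35 36 36 6 6 36 36 6 6 36 36 6 36 34 34 6 34 41 36 36 36 36 36 41 41 41 41 36 38 38 38 36 36 38 37 37 37 37 37 37 35)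
def lv_a : Pt → Nat := @Pt.rec (fun _ => Nat) (@D1.rec (fun _ => D2 → D3 → Nat) lv_a_0 lv_a_1 lv_a_2 lv_a_3 lv_a_4 lv_a_5 lv_a_6 lv_a_7 lv_a_8 lv_a_9 lv_a_10 lv_a_11 lv_a_12 lv_a_13 lv_a_14 lv_a_15 lv_a_16 lv_a_17 lv_a_18 lv_a_19 lv_a_20 lv_a_21 lv_a_22)
abbrev lc_a_Cert_tree : Cert rels S Gen.a := Cert.tree
abbrev lc_a_rc_0_0 : Cert rels S Gen.a := rc_0_0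
abbrev lc_a_rc_0_1 : Cert rels S Gen.a := rc_0_1
abbrev lc_a_rc_1_0 : Cert rels S Gen.a := rc_1_0
abbrev lc_a_rc_1_2 : Cert rels S Gen.a := rc_1_2
abbrev lc_a_rc_1_4 : Cert rels S Gen.a := rc_1_4
abbrev lc_a_rc_2_0 : Cert rels S Gen.a := rc_2_0
abbrev lc_a_rc_2_2 : Cert rels S Gen.a := rc_2_2
abbrev lc_a_rc_3_0 : Cert rels S Gen.a := rc_3_0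
abbrev lc_a_rc_3_2 : Cert rels S Gen.a := rc_3_2
abbrev lc_a_rc_4_0 : Cert rels S Gen.a := rc_4_0
abbrev lc_a_rc_4_2 : Cert rels S Gen.a := rc_4_2
abbrev lc_a_rc_56_0 : Cert rels S Gen.a := rc_56_0
abbrev lc_a_rc_56_14 : Cert rels S Gen.a := rc_56_14
abbrev lc_a_rc_56_21 : Cert rels S Gen.a := rc_56_21
abbrev lc_a_rc_56_28 : Cert rels S Gen.a := rc_56_28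
abbrev lc_a_rc_56_35 : Cert rels S Gen.a := rc_56_35
abbrev lc_a_rc_56_42 : Cert rels S Gen.a := rc_56_42
abbrev lc_a_rc_56_49 : Cert rels S Gen.a := rc_56_49
abbrev lc_a_rc_56_56 : Cert rels S Gen.a := rc_56_56
abbrev lc_a_rc_56_7 : Cert rels S Gen.a := rc_56_7
abbrev lc_a_rc_5_0 : Cert rels S Gen.a := rc_5_0
abbrev lc_a_rc_5_2 : Cert rels S Gen.a := rc_5_2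
abbrev lc_a_rc_6_0 : Cert rels S Gen.a := rc_6_0
abbrev lc_a_rc_6_2 : Cert rels S Gen.a := rc_6_2
abbrev lc_a_rc_7_0 : Cert rels S Gen.a := rc_7_0
abbrev lc_a_rc_7_2 : Cert rels S Gen.a := rc_7_2
abbrev lc_a_rc_8_0 : Cert rels S Gen.a := rc_8_0
abbrev lc_a_rc_8_2 : Cert rels S Gen.a := rc_8_2
abbrev lc_a_rc_9_0 : Cert rels S Gen.a := rc_9_0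
abbrev lc_a_rc_9_2 : Cert rels S Gen.a := rc_9_2
abbrev lc_a_sc_0_0 : Cert rels S Gen.a := sc_0_0
def ce_a_0 : D2 → D3 → (Cert rels S Gen.a) := @D2.rec (fun _ => D3 → (Cert rels S Gen.a)) (@D3.rec (fun _ => (Cert rels S Gen.a)) lc_a_sc_0_0 lc_a_rc_8_2 lc_a_rc_7_2 lc_a_rc_6_2 lc_a_rc_4_2 lc_a_rc_3_2 lc_a_rc_2_2 lc_a_rc_5_2 lc_a_Cert_tree lc_a_rc_2_2 lc_a_rc_9_2 lc_a_rc_0_0 lc_a_rc_5_2 lc_a_rc_3_2 lc_a_rc_2_2 lc_a_rc_5_2 lc_a_rc_3_2 lc_a_rc_9_2 lc_a_rc_4_2 lc_a_rc_3_2 lc_a_rc_3_2 lc_a_rc_9_2 lc_a_rc_2_2 lc_a_rc_4_2 lc_a_rc_3_2 lc_a_rc_6_2 lc_a_rc_4_2 lc_a_rc_5_2 lc_a_rc_2_2 lc_a_rc_4_2 lc_a_rc_3_2 lc_a_rc_2_2 lc_a_rc_2_2 lc_a_rc_6_2 lc_a_rc_4_2 lc_a_rc_5_2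 lc_a_rc_7_2 lc_a_rc_6_2 lc_a_rc_5_2 lc_a_rc_1_2 lc_a_rc_2_2 lc_a_rc_2_2 lc_a_rc_6_2 lc_a_rc_4_2 lc_a_rc_5_2 lc_a_rc_3_2 lc_a_rc_2_2 lc_a_rc_2_2 lc_a_rc_2_2 lc_a_rc_7_2 lc_a_rc_6_2) (@D3.rec (fun _ => (Cert rels S Gen.a)) lc_a_rc_5_2 lc_a_rc_8_2 lc_a_rc_7_2 lc_a_rc_6_2 lc_a_rc_3_2 lc_a_rc_1_2 lc_a_rc_1_2 lc_a_rc_3_2 lc_a_rc_2_2 lc_a_rc_2_2 lc_a_rc_2_2 lc_a_rc_7_2 lc_a_rc_6_2 lc_a_rc_5_2 lc_a_rc_3_2 lc_a_rc_5_2 lc_a_rc_3_2 lc_a_rc_2_2 lc_a_rc_2_2 lc_a_rc_2_2 lc_a_rc_3_2 lc_a_rc_8_2 lc_a_rc_7_2 lc_a_rc_5_2 lc_a_rc_3_2 lc_a_rc_8_2 lc_a_rc_7_2 lc_a_rc_3_2 lc_a_rc_2_2 lc_a_rc_1_2 lc_a_rc_1_2 lc_a_rc_1_2 lc_a_rc_1_2 lc_a_rc_3_2 lc_a_rc_5_2 lc_a_rc_3_2 lc_a_rc_2_2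 lc_a_rc_2_2 lc_a_rc_2_2 lc_a_rc_3_2 lc_a_rc_8_2 lc_a_rc_7_2 lc_a_rc_5_2 lc_a_rc_3_2 lc_a_rc_4_2 lc_a_rc_3_2 lc_a_rc_5_2 lc_a_rc_3_2 lc_a_rc_9_2 lc_a_rc_5_2 lc_a_rc_2_2) (@D3.rec (fun _ => (Cert rels S Gen.a)) lc_a_rc_2_2 lc_a_rc_5_2 lc_a_rc_3_2 lc_a_rc_4_2 lc_a_rc_8_2 lc_a_rc_5_2 lc_a_rc_3_2 lc_a_rc_2_2 lc_a_rc_8_2 lc_a_rc_3_2 lc_a_rc_2_2 lc_a_rc_4_2 lc_a_Cert_tree lc_a_rc_2_2 lc_a_rc_1_2 lc_a_rc_1_2 lc_a_rc_1_2 lc_a_rc_1_2 lc_a_rc_1_2 lc_a_rc_1_2 lc_a_rc_1_2 lc_a_rc_4_2 lc_a_rc_3_2 lc_a_rc_5_2 lc_a_rc_3_2 lc_a_rc_9_2 lc_a_rc_5_2 lc_a_rc_2_2 lc_a_rc_2_2 lc_a_rc_5_2 lc_a_rc_3_2 lc_a_rc_4_2 lc_a_rc_8_2 lc_a_rc_5_2 lc_a_rc_3_2 lc_a_rc_2_2 lc_a_rc_4_2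 lc_a_rc_5_2 lc_a_rc_4_2 lc_a_rc_3_2 lc_a_rc_5_2 lc_a_rc_3_2 lc_a_rc_9_2 lc_a_rc_5_2 lc_a_rc_9_2 lc_a_rc_5_2 lc_a_rc_2_2 lc_a_rc_5_2 lc_a_rc_3_2 lc_a_rc_2_2 lc_a_rc_4_2) (@D3.rec (fun _ => (Cert rels S Gen.a)) lc_a_rc_6_2 lc_a_rc_5_2 lc_a_rc_3_2 lc_a_rc_2_2 lc_a_rc_4_2 lc_a_Cert_tree lc_a_rc_3_2 lc_a_rc_2_2 lc_a_rc_4_2 lc_a_Cert_tree lc_a_rc_2_2 lc_a_rc_0_0 lc_a_rc_2_2 lc_a_rc_2_2 lc_a_rc_2_2 lc_a_rc_1_2 lc_a_rc_1_2 lc_a_rc_1_2 lc_a_rc_1_2 lc_a_rc_1_2 lc_a_rc_1_2 lc_a_rc_1_2 lc_a_rc_1_2 lc_a_rc_1_2 lc_a_rc_1_2 lc_a_rc_2_2 lc_a_rc_1_2 lc_a_rc_4_2 lc_a_rc_5_2 lc_a_rc_4_2 lc_a_rc_3_2 lc_a_rc_5_2 lc_a_rc_3_2 lc_a_rc_9_2 lc_a_rc_5_2 lc_a_rc_9_2 lc_a_rc_5_2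 lc_a_rc_2_2 lc_a_rc_5_2 lc_a_rc_3_2 lc_a_rc_2_2 lc_a_rc_4_2 lc_a_rc_6_2 lc_a_rc_5_2 lc_a_rc_3_2 lc_a_rc_2_2 lc_a_rc_4_2 lc_a_Cert_tree lc_a_rc_6_2 lc_a_rc_4_2 lc_a_rc_5_2) (@D3.rec (fun _ => (Cert rels S Gen.a)) lc_a_rc_4_2 lc_a_rc_3_2 lc_a_rc_9_2 lc_a_rc_5_2 lc_a_rc_5_2 lc_a_rc_3_2 lc_a_rc_9_2 lc_a_rc_5_2 lc_a_rc_9_2 lc_a_rc_3_2 lc_a_rc_9_2 lc_a_rc_2_2 lc_a_rc_5_2 lc_a_rc_5_2 lc_a_rc_3_2 lc_a_rc_2_2 lc_a_rc_4_2 lc_a_Cert_tree lc_a_rc_2_2 lc_a_rc_6_2 lc_a_rc_7_2 lc_a_rc_3_2 lc_a_rc_2_2 lc_a_rc_4_2 lc_a_Cert_tree lc_a_rc_2_2 lc_a_rc_0_0 lc_a_rc_2_2 lc_a_rc_4_2 lc_a_Cert_tree lc_a_rc_2_2 lc_a_rc_6_2 lc_a_rc_0_0 lc_a_rc_4_2 lc_a_rc_3_2 lc_a_rc_2_2 lc_a_rc_2_2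 lc_a_rc_2_2 lc_a_rc_2_2 lc_a_rc_3_2 lc_a_rc_2_2 lc_a_rc_2_2 lc_a_rc_1_2 lc_a_rc_1_2 lc_a_rc_1_2 lc_a_rc_1_2 lc_a_rc_1_2 lc_a_rc_1_2 lc_a_rc_1_2 lc_a_rc_1_2 lc_a_rc_1_2) (@D3.rec (fun _ => (Cert rels S Gen.a)) lc_a_rc_1_2 lc_a_rc_1_2 lc_a_rc_1_2 lc_a_rc_1_2 lc_a_rc_2_2 lc_a_rc_1_2 lc_a_rc_2_2 lc_a_rc_1_2 lc_a_rc_6_2 lc_a_rc_4_2 lc_a_rc_5_2 lc_a_rc_4_2 lc_a_rc_3_2 lc_a_rc_9_2 lc_a_rc_5_2 lc_a_rc_5_2 lc_a_rc_3_2 lc_a_rc_9_2 lc_a_rc_5_2 lc_a_rc_9_2 lc_a_rc_3_2 lc_a_rc_9_2 lc_a_rc_2_2 lc_a_rc_5_2 lc_a_rc_5_2 lc_a_rc_3_2 lc_a_rc_2_2 lc_a_rc_4_2 lc_a_Cert_tree lc_a_rc_2_2 lc_a_rc_6_2 lc_a_rc_7_2 lc_a_rc_3_2 lc_a_rc_2_2 lc_a_rc_4_2 lc_a_Cert_tree lc_a_rc_2_2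 lc_a_rc_0_0 lc_a_rc_6_2 lc_a_rc_6_2 lc_a_rc_6_2 lc_a_rc_5_2 lc_a_rc_4_2 lc_a_rc_3_2 lc_a_rc_9_2 lc_a_rc_5_2 lc_a_rc_2_2 lc_a_rc_3_2 lc_a_rc_9_2 lc_a_rc_3_2 lc_a_rc_9_2) (@D3.rec (fun _ => (Cert rels S Gen.a)) lc_a_rc_5_2 lc_a_rc_9_2 lc_a_rc_3_2 lc_a_rc_3_2 lc_a_rc_2_2 lc_a_rc_4_2 lc_a_rc_2_2 lc_a_rc_9_2 lc_a_Cert_tree lc_a_rc_2_2 lc_a_rc_6_2 lc_a_rc_3_2 lc_a_rc_2_2 lc_a_rc_4_2 lc_a_Cert_tree lc_a_rc_2_2 lc_a_rc_4_2 lc_a_rc_0_0 lc_a_rc_4_2 lc_a_rc_2_2 lc_a_rc_7_2 lc_a_rc_8_2 lc_a_rc_2_2 lc_a_rc_4_2 lc_a_Cert_tree lc_a_rc_2_2 lc_a_rc_6_2 lc_a_rc_0_0 lc_a_rc_4_2 lc_a_rc_3_2 lc_a_Cert_tree lc_a_rc_2_2 lc_a_rc_6_2 lc_a_rc_0_0 lc_a_rc_4_2 lc_a_rc_3_2 lc_a_rc_2_2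 lc_a_rc_4_2 lc_a_rc_3_2 lc_a_rc_5_2 lc_a_rc_3_2 lc_a_rc_2_2 lc_a_rc_2_2 lc_a_rc_2_2 lc_a_rc_2_2 lc_a_rc_2_2 lc_a_rc_2_2 lc_a_rc_3_2 lc_a_rc_2_2 lc_a_rc_2_2 lc_a_rc_4_2) (@D3.rec (fun _ => (Cert rels S Gen.a)) lc_a_rc_3_2 lc_a_rc_2_2 lc_a_rc_3_2 lc_a_rc_1_2 lc_a_rc_1_2 lc_a_rc_1_2 lc_a_rc_1_2 lc_a_rc_3_2 lc_a_rc_1_2 lc_a_rc_1_2 lc_a_rc_1_2 lc_a_rc_1_2 lc_a_rc_1_2 lc_a_rc_1_2 lc_a_rc_1_2 lc_a_rc_1_2 lc_a_rc_1_2 lc_a_rc_2_2 lc_a_rc_1_2 lc_a_rc_1_2 lc_a_rc_1_2 lc_a_rc_2_2 lc_a_rc_1_2 lc_a_Cert_tree lc_a_rc_2_2 lc_a_rc_1_2 lc_a_rc_3_2 lc_a_rc_2_2 lc_a_rc_1_2 lc_a_rc_6_2 lc_a_rc_6_2 lc_a_rc_6_2 lc_a_rc_5_2 lc_a_rc_4_2 lc_a_rc_3_2 lc_a_rc_9_2 lc_a_rc_5_2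 lc_a_rc_2_2 lc_a_rc_3_2 lc_a_rc_9_2 lc_a_rc_3_2 lc_a_rc_9_2 lc_a_rc_5_2 lc_a_rc_9_2 lc_a_rc_3_2 lc_a_rc_3_2 lc_a_rc_2_2 lc_a_rc_4_2 lc_a_rc_2_2 lc_a_rc_9_2 lc_a_Cert_tree) (@D3.rec (fun _ => (Cert rels S Gen.a)) lc_a_rc_2_2 lc_a_rc_6_2 lc_a_rc_3_2 lc_a_rc_2_2 lc_a_rc_4_2 lc_a_Cert_tree lc_a_rc_2_2 lc_a_rc_4_2 lc_a_rc_0_0 lc_a_rc_4_2 lc_a_rc_2_2 lc_a_rc_7_2 lc_a_rc_8_2 lc_a_rc_2_2 lc_a_rc_4_2 lc_a_Cert_tree lc_a_rc_2_2 lc_a_rc_6_2 lc_a_rc_0_0 lc_a_rc_4_2 lc_a_rc_3_2 lc_a_rc_7_2 lc_a_rc_6_2 lc_a_rc_6_2 lc_a_rc_3_2 lc_a_rc_9_2 lc_a_rc_6_2 lc_a_rc_3_2 lc_a_rc_9_2 lc_a_rc_5_2 lc_a_rc_2_2 lc_a_rc_3_2 lc_a_rc_9_2 lc_a_rc_3_2 lc_a_rc_1_4 lc_a_rc_2_2 lc_a_rc_5_2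 lc_a_rc_3_2 lc_a_rc_2_2 lc_a_rc_4_2 lc_a_rc_9_2 lc_a_rc_3_2 lc_a_rc_3_2 lc_a_rc_2_2 lc_a_rc_4_2 lc_a_rc_2_2 lc_a_rc_4_2 lc_a_Cert_tree lc_a_rc_2_2 lc_a_rc_4_2 lc_a_Cert_tree) (@D3.rec (fun _ => (Cert rels S Gen.a)) lc_a_rc_2_2 lc_a_rc_9_2 lc_a_rc_0_0 lc_a_rc_4_2 lc_a_rc_3_2 lc_a_rc_2_2 lc_a_rc_7_2 lc_a_rc_2_2 lc_a_rc_4_2 lc_a_Cert_tree lc_a_rc_2_2 lc_a_rc_6_2 lc_a_rc_0_0 lc_a_rc_4_2 lc_a_rc_3_2 lc_a_rc_2_2 lc_a_rc_4_2 lc_a_rc_4_2 lc_a_rc_6_2 lc_a_rc_2_2 lc_a_rc_8_2 lc_a_Cert_tree lc_a_rc_2_2 lc_a_rc_6_2 lc_a_rc_0_0 lc_a_rc_4_2 lc_a_rc_3_2 lc_a_rc_2_2 lc_a_rc_4_2 lc_a_rc_3_2 lc_a_rc_5_2 lc_a_rc_0_0 lc_a_rc_4_2 lc_a_rc_3_2 lc_a_rc_2_2 lc_a_rc_7_2 lc_a_rc_4_2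 lc_a_rc_3_2 lc_a_rc_6_2 lc_a_rc_3_2 lc_a_rc_5_2 lc_a_rc_3_2 lc_a_rc_3_2 lc_a_rc_3_2 lc_a_rc_2_2 lc_a_rc_2_2 lc_a_rc_2_2 lc_a_rc_2_2 lc_a_rc_2_2 lc_a_rc_2_2 lc_a_rc_2_2) (@D3.rec (fun _ => (Cert rels S Gen.a)) lc_a_rc_2_2 lc_a_rc_3_2 lc_a_rc_2_2 lc_a_rc_2_2 lc_a_rc_3_2 lc_a_rc_2_2 lc_a_rc_3_2 lc_a_rc_4_2 lc_a_rc_5_2 lc_a_rc_3_2 lc_a_rc_3_2 lc_a_rc_4_2 lc_a_rc_1_2 lc_a_rc_1_2 lc_a_rc_1_2 lc_a_rc_1_2 lc_a_rc_1_2 lc_a_rc_3_2 lc_a_rc_1_2 lc_a_rc_1_2 lc_a_rc_3_2 lc_a_rc_1_2 lc_a_rc_3_2 lc_a_rc_1_2 lc_a_rc_1_2 lc_a_rc_1_2 lc_a_rc_1_2 lc_a_rc_1_2 lc_a_rc_2_2 lc_a_rc_1_2 lc_a_rc_2_2 lc_a_rc_1_2 lc_a_Cert_tree lc_a_rc_2_2 lc_a_rc_1_2 lc_a_rc_1_2 lc_a_rc_2_2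 lc_a_rc_1_2 lc_a_Cert_tree lc_a_rc_2_2 lc_a_rc_1_2 lc_a_rc_0_0 lc_a_rc_4_2 lc_a_rc_3_2 lc_a_rc_2_2 lc_a_rc_1_2 lc_a_rc_3_2 lc_a_rc_5_2 lc_a_rc_2_2 lc_a_rc_1_2 lc_a_rc_7_2) (@D3.rec (fun _ => (Cert rels S Gen.a)) lc_a_rc_6_2 lc_a_rc_6_2 lc_a_rc_3_2 lc_a_rc_9_2 lc_a_rc_6_2 lc_a_rc_3_2 lc_a_rc_9_2 lc_a_rc_5_2 lc_a_rc_2_2 lc_a_rc_3_2 lc_a_rc_9_2 lc_a_rc_3_2 lc_a_rc_2_2 lc_a_rc_5_2 lc_a_rc_3_2 lc_a_rc_2_2 lc_a_rc_4_2 lc_a_rc_9_2 lc_a_rc_3_2 lc_a_rc_3_2 lc_a_rc_2_2 lc_a_rc_4_2 lc_a_rc_2_2 lc_a_rc_4_2 lc_a_Cert_tree lc_a_rc_2_2 lc_a_rc_4_2 lc_a_Cert_tree lc_a_rc_2_2 lc_a_rc_9_2 lc_a_rc_0_0 lc_a_rc_4_2 lc_a_rc_3_2 lc_a_rc_2_2 lc_a_rc_7_2 lc_a_rc_2_2 lc_a_rc_4_2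 lc_a_Cert_tree lc_a_rc_2_2 lc_a_rc_6_2 lc_a_rc_0_0 lc_a_rc_4_2 lc_a_rc_3_2 lc_a_rc_2_2 lc_a_rc_4_2 lc_a_rc_4_2 lc_a_rc_6_2 lc_a_rc_2_2 lc_a_rc_8_2 lc_a_Cert_tree lc_a_rc_2_2) (@D3.rec (fun _ => (Cert rels S Gen.a)) lc_a_rc_6_2 lc_a_rc_0_0 lc_a_rc_4_2 lc_a_rc_3_2 lc_a_rc_2_2 lc_a_rc_4_2 lc_a_rc_3_2 lc_a_rc_5_2 lc_a_rc_7_2 lc_a_rc_7_2 lc_a_rc_3_2 lc_a_rc_9_2 lc_a_rc_6_2 lc_a_rc_2_2 lc_a_rc_4_2 lc_a_rc_3_2 lc_a_rc_9_2 lc_a_rc_3_2 lc_a_rc_2_2 lc_a_rc_3_2 lc_a_rc_9_2 lc_a_rc_3_2 lc_a_rc_7_2 lc_a_rc_2_2 lc_a_rc_5_2 lc_a_rc_3_2 lc_a_rc_2_2 lc_a_rc_4_2 lc_a_rc_5_2 lc_a_rc_2_2 lc_a_rc_4_2 lc_a_rc_56_56 lc_a_rc_2_2 lc_a_rc_6_2 lc_a_rc_3_2 lc_a_rc_2_2 lc_a_rc_4_2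 lc_a_rc_2_2 lc_a_rc_4_2 lc_a_Cert_tree lc_a_rc_2_2 lc_a_rc_6_2 lc_a_Cert_tree lc_a_rc_2_2 lc_a_rc_4_2 lc_a_rc_0_0 lc_a_rc_4_2 lc_a_rc_3_2 lc_a_rc_2_2 lc_a_rc_4_2 lc_a_rc_0_0) (@D3.rec (fun _ => (Cert rels S Gen.a)) lc_a_rc_4_2 lc_a_rc_3_2 lc_a_rc_2_2 lc_a_rc_9_2 lc_a_rc_4_2 lc_a_rc_3_2 lc_a_rc_6_2 lc_a_rc_3_2 lc_a_rc_2_2 lc_a_rc_8_2 lc_a_Cert_tree lc_a_rc_2_2 lc_a_rc_6_2 lc_a_rc_0_0 lc_a_rc_4_2 lc_a_rc_3_2 lc_a_rc_2_2 lc_a_rc_6_2 lc_a_rc_4_2 lc_a_rc_3_2 lc_a_rc_6_2 lc_a_rc_3_2 lc_a_rc_5_2 lc_a_rc_2_2 lc_a_rc_4_2 lc_a_rc_6_2 lc_a_rc_7_2 lc_a_rc_2_2 lc_a_rc_0_0 lc_a_rc_4_2 lc_a_rc_3_2 lc_a_rc_2_2 lc_a_rc_7_2 lc_a_rc_4_2 lc_a_rc_3_2 lc_a_rc_6_2 lc_a_rc_3_2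 lc_a_rc_5_2 lc_a_rc_3_2 lc_a_rc_4_2 lc_a_rc_3_2 lc_a_rc_6_2 lc_a_rc_3_2 lc_a_rc_5_2 lc_a_rc_2_2 lc_a_rc_3_2 lc_a_rc_6_2 lc_a_rc_3_2 lc_a_rc_4_2 lc_a_rc_5_2 lc_a_rc_3_2) (@D3.rec (fun _ => (Cert rels S Gen.a)) lc_a_rc_3_2 lc_a_rc_3_2 lc_a_rc_5_2 lc_a_rc_2_2 lc_a_rc_2_2 lc_a_rc_2_2 lc_a_rc_2_2 lc_a_rc_2_2 lc_a_rc_2_2 lc_a_rc_2_2 lc_a_rc_2_2 lc_a_rc_3_2 lc_a_rc_3_2 lc_a_rc_2_2 lc_a_rc_2_2 lc_a_rc_3_2 lc_a_rc_2_2 lc_a_rc_3_2 lc_a_rc_5_2 lc_a_rc_3_2 lc_a_rc_3_2 lc_a_rc_4_2 lc_a_rc_5_2 lc_a_rc_5_2 lc_a_rc_3_2 lc_a_rc_4_2 lc_a_Cert_tree lc_a_rc_4_2 lc_a_rc_6_2 lc_a_rc_1_2 lc_a_rc_1_2 lc_a_rc_1_2 lc_a_rc_3_2 lc_a_rc_1_2 lc_a_rc_1_2 lc_a_rc_3_2 lc_a_rc_1_2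 lc_a_rc_1_2 lc_a_rc_3_2 lc_a_rc_1_2 lc_a_rc_3_2 lc_a_rc_5_2 lc_a_rc_3_2 lc_a_rc_2_2 lc_a_rc_3_2 lc_a_rc_1_2 lc_a_rc_1_2 lc_a_rc_1_2 lc_a_rc_2_2 lc_a_rc_1_2 lc_a_rc_2_2) (@D3.rec (fun _ => (Cert rels S Gen.a)) lc_a_rc_1_2 lc_a_Cert_tree lc_a_rc_2_2 lc_a_rc_1_2 lc_a_Cert_tree lc_a_rc_2_2 lc_a_rc_1_2 lc_a_rc_0_0 lc_a_rc_4_2 lc_a_rc_3_2 lc_a_rc_2_2 lc_a_rc_1_2 lc_a_rc_2_2 lc_a_rc_1_2 lc_a_Cert_tree lc_a_rc_2_2 lc_a_rc_1_2 lc_a_rc_0_0 lc_a_rc_4_2 lc_a_rc_3_2 lc_a_rc_2_2 lc_a_rc_1_2 lc_a_rc_4_2 lc_a_rc_3_2 lc_a_rc_6_2 lc_a_rc_3_2 lc_a_rc_5_2 lc_a_rc_2_2 lc_a_rc_1_2 lc_a_rc_4_2 lc_a_rc_3_2 lc_a_rc_5_2 lc_a_rc_9_2 lc_a_rc_2_2 lc_a_rc_7_2 lc_a_rc_7_2 lc_a_rc_3_2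 lc_a_rc_9_2 lc_a_rc_6_2 lc_a_rc_2_2 lc_a_rc_4_2 lc_a_rc_3_2 lc_a_rc_9_2 lc_a_rc_3_2 lc_a_rc_2_2 lc_a_rc_3_2 lc_a_rc_9_2 lc_a_rc_3_2 lc_a_rc_2_2 lc_a_rc_5_2 lc_a_rc_3_2) (@D3.rec (fun _ => (Cert rels S Gen.a)) lc_a_rc_2_2 lc_a_rc_4_2 lc_a_rc_5_2 lc_a_rc_2_2 lc_a_rc_4_2 lc_a_Cert_tree lc_a_rc_2_2 lc_a_rc_6_2 lc_a_rc_3_2 lc_a_rc_2_2 lc_a_rc_4_2 lc_a_rc_2_2 lc_a_rc_4_2 lc_a_Cert_tree lc_a_rc_2_2 lc_a_rc_6_2 lc_a_Cert_tree lc_a_rc_2_2 lc_a_rc_4_2 lc_a_rc_0_0 lc_a_rc_4_2 lc_a_rc_3_2 lc_a_rc_2_2 lc_a_rc_4_2 lc_a_rc_0_0 lc_a_rc_4_2 lc_a_rc_3_2 lc_a_rc_2_2 lc_a_rc_9_2 lc_a_rc_4_2 lc_a_rc_3_2 lc_a_rc_6_2 lc_a_rc_3_2 lc_a_rc_2_2 lc_a_rc_8_2 lc_a_Cert_tree lc_a_rc_2_2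 lc_a_rc_6_2 lc_a_rc_0_0 lc_a_rc_4_2 lc_a_rc_3_2 lc_a_rc_2_2 lc_a_rc_6_2 lc_a_rc_4_2 lc_a_rc_3_2 lc_a_rc_6_2 lc_a_rc_3_2 lc_a_rc_5_2 lc_a_rc_2_2 lc_a_rc_4_2 lc_a_rc_6_2) (@D3.rec (fun _ => (Cert rels S Gen.a)) lc_a_rc_7_2 lc_a_rc_2_2 lc_a_rc_0_0 lc_a_rc_4_2 lc_a_rc_3_2 lc_a_rc_2_2 lc_a_rc_7_2 lc_a_rc_4_2 lc_a_rc_3_2 lc_a_rc_6_2 lc_a_rc_3_2 lc_a_rc_5_2 lc_a_rc_3_2 lc_a_rc_2_2 lc_a_rc_4_0 lc_a_rc_0_0 lc_a_rc_3_2 lc_a_rc_9_2 lc_a_rc_7_2 lc_a_rc_2_2 lc_a_rc_4_2 lc_a_rc_3_2 lc_a_rc_9_2 lc_a_rc_3_2 lc_a_rc_6_2 lc_a_rc_2_2 lc_a_rc_2_2 lc_a_rc_4_2 lc_a_rc_5_2 lc_a_rc_3_2 lc_a_rc_2_2 lc_a_rc_4_2 lc_a_rc_8_2 lc_a_rc_2_2 lc_a_rc_5_2 lc_a_rc_3_2 lc_a_rc_2_2 lc_a_rc_4_2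 lc_a_rc_5_2 lc_a_rc_2_2 lc_a_rc_4_2 lc_a_rc_1_4 lc_a_rc_2_2 lc_a_rc_6_2 lc_a_rc_5_2 lc_a_rc_2_2 lc_a_rc_6_2 lc_a_rc_1_4 lc_a_rc_3_2 lc_a_rc_2_2 lc_a_rc_7_2) (@D3.rec (fun _ => (Cert rels S Gen.a)) lc_a_rc_2_2 lc_a_rc_4_2 lc_a_Cert_tree lc_a_rc_2_2 lc_a_rc_6_2 lc_a_Cert_tree lc_a_rc_2_2 lc_a_rc_6_2 lc_a_rc_0_0 lc_a_rc_4_2 lc_a_rc_3_2 lc_a_rc_2_2 lc_a_rc_6_2 lc_a_rc_0_0 lc_a_rc_4_2 lc_a_rc_3_2 lc_a_rc_2_2 lc_a_rc_4_2 lc_a_rc_4_2 lc_a_rc_3_2 lc_a_rc_6_2 lc_a_rc_3_2 lc_a_rc_5_2 lc_a_rc_2_2 lc_a_rc_4_2 lc_a_rc_4_2 lc_a_rc_3_2 lc_a_rc_6_2 lc_a_rc_3_2 lc_a_rc_5_2 lc_a_rc_2_2 lc_a_rc_9_2 lc_a_rc_3_2 lc_a_rc_6_2 lc_a_rc_2_2 lc_a_rc_3_2 lc_a_rc_7_2 lc_a_rc_4_2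 lc_a_rc_3_2 lc_a_rc_2_2 lc_a_rc_0_0 lc_a_rc_4_2 lc_a_rc_3_2 lc_a_rc_2_2 lc_a_rc_7_2 lc_a_rc_4_2 lc_a_rc_3_2 lc_a_rc_6_2 lc_a_rc_3_2 lc_a_rc_5_2 lc_a_rc_2_2) (@D3.rec (fun _ => (Cert rels S Gen.a)) lc_a_rc_6_2 lc_a_rc_3_2 lc_a_rc_6_2 lc_a_rc_3_2 lc_a_rc_7_2 lc_a_rc_3_2 lc_a_rc_5_2 lc_a_rc_2_2 lc_a_rc_7_2 lc_a_rc_8_2 lc_a_rc_4_2 lc_a_rc_3_2 lc_a_rc_6_2 lc_a_rc_3_2 lc_a_rc_5_2 lc_a_rc_2_2 lc_a_rc_3_2 lc_a_rc_6_2 lc_a_rc_3_2 lc_a_rc_4_2 lc_a_rc_5_2 lc_a_rc_3_2 lc_a_rc_6_2 lc_a_rc_3_2 lc_a_rc_7_2 lc_a_rc_4_2 lc_a_rc_3_2 lc_a_rc_5_2 lc_a_rc_3_2 lc_a_rc_4_2 lc_a_rc_5_2 lc_a_rc_4_2 lc_a_rc_3_2 lc_a_rc_3_2 lc_a_rc_3_2 lc_a_rc_5_2 lc_a_rc_5_2 lc_a_rc_2_2 lc_a_rc_2_2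 lc_a_rc_2_2 lc_a_rc_2_2 lc_a_rc_2_2 lc_a_rc_2_2 lc_a_rc_2_2 lc_a_rc_2_2 lc_a_rc_3_2 lc_a_rc_3_2 lc_a_rc_2_2 lc_a_rc_4_2 lc_a_rc_3_2 lc_a_rc_2_2) (@D3.rec (fun _ => (Cert rels S Gen.a)) lc_a_rc_3_2 lc_a_rc_5_2 lc_a_rc_3_2 lc_a_rc_3_2 lc_a_rc_4_2 lc_a_rc_5_2 lc_a_rc_3_2 lc_a_rc_4_2 lc_a_Cert_tree lc_a_rc_4_2 lc_a_rc_6_2 lc_a_rc_3_2 lc_a_rc_5_2 lc_a_rc_5_2 lc_a_Cert_tree lc_a_rc_4_2 lc_a_rc_6_2 lc_a_rc_0_0 lc_a_rc_4_2 lc_a_rc_4_2 lc_a_rc_6_2 lc_a_rc_7_2 lc_a_rc_1_2 lc_a_rc_1_2 lc_a_rc_3_2 lc_a_rc_1_2 lc_a_rc_1_2 lc_a_rc_4_2 lc_a_rc_3_2 lc_a_rc_1_2 lc_a_rc_3_2 lc_a_rc_3_2 lc_a_rc_1_2 lc_a_rc_3_2 lc_a_rc_5_2 lc_a_rc_3_2 lc_a_rc_2_2 lc_a_rc_3_2 lc_a_rc_5_2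 lc_a_rc_2_2 lc_a_rc_3_2 lc_a_Cert_tree lc_a_rc_2_2 lc_a_rc_3_2 lc_a_rc_1_2 lc_a_rc_2_2 lc_a_rc_1_2 lc_a_rc_2_2 lc_a_rc_1_2 lc_a_Cert_tree lc_a_rc_2_2) (@D3.rec (fun _ => (Cert rels S Gen.a)) lc_a_rc_1_2 lc_a_Cert_tree lc_a_rc_2_2 lc_a_rc_1_2 lc_a_rc_0_0 lc_a_rc_4_2 lc_a_rc_3_2 lc_a_rc_2_2 lc_a_rc_1_2 lc_a_rc_0_0 lc_a_rc_4_2 lc_a_rc_3_2 lc_a_rc_2_2 lc_a_rc_1_2 lc_a_rc_4_2 lc_a_rc_3_2 lc_a_rc_6_2 lc_a_rc_3_2 lc_a_rc_5_2 lc_a_rc_2_2 lc_a_rc_1_2 lc_a_Cert_tree lc_a_rc_2_2 lc_a_rc_1_2 lc_a_rc_0_0 lc_a_rc_4_2 lc_a_rc_3_2 lc_a_rc_2_2 lc_a_rc_1_2 lc_a_rc_4_2 lc_a_rc_3_2 lc_a_rc_6_2 lc_a_rc_3_2 lc_a_rc_5_2 lc_a_rc_2_2 lc_a_rc_1_2 lc_a_rc_3_2 lc_a_rc_6_2 lc_a_rc_3_2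 lc_a_rc_5_2 lc_a_rc_7_2 lc_a_rc_4_2 lc_a_rc_3_2 lc_a_rc_5_2 lc_a_rc_9_2 lc_a_rc_2_2 lc_a_rc_4_2 lc_a_rc_5_2 lc_a_rc_3_2 lc_a_rc_5_2 lc_a_rc_9_2) (@D3.rec (fun _ => (Cert rels S Gen.a)) lc_a_rc_3_2 lc_a_rc_9_2 lc_a_rc_7_2 lc_a_rc_2_2 lc_a_rc_4_2 lc_a_rc_3_2 lc_a_rc_9_2 lc_a_rc_3_2 lc_a_rc_2_2 lc_a_rc_2_2 lc_a_rc_4_2 lc_a_rc_5_2 lc_a_rc_3_2 lc_a_rc_2_2 lc_a_rc_4_2 lc_a_rc_2_2 lc_a_rc_5_2 lc_a_rc_3_2 lc_a_rc_2_2 lc_a_rc_4_2 lc_a_rc_5_2 lc_a_rc_2_2 lc_a_rc_4_2 lc_a_Cert_tree lc_a_rc_2_2 lc_a_rc_6_2 lc_a_rc_5_2 lc_a_rc_4_0 lc_a_rc_2_2 lc_a_rc_6_2 lc_a_rc_0_0 lc_a_rc_4_2 lc_a_rc_3_2 lc_a_rc_2_2 lc_a_rc_7_2 lc_a_rc_2_2 lc_a_rc_4_2 lc_a_Cert_tree lc_a_rc_2_2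 lc_a_rc_6_2 lc_a_Cert_tree lc_a_rc_2_2 lc_a_rc_6_2 lc_a_rc_0_0 lc_a_rc_4_2 lc_a_rc_3_2 lc_a_rc_2_2 lc_a_rc_6_2 lc_a_rc_0_0 lc_a_rc_4_2 lc_a_rc_3_2) (@D3.rec (fun _ => (Cert rels S Gen.a)) lc_a_rc_2_2 lc_a_rc_4_2 lc_a_rc_4_2 lc_a_rc_3_2 lc_a_rc_6_2 lc_a_rc_3_2 lc_a_rc_5_2 lc_a_rc_2_2 lc_a_rc_4_2 lc_a_rc_4_2 lc_a_rc_3_2 lc_a_rc_6_2 lc_a_rc_3_2 lc_a_rc_5_2 lc_a_rc_2_2 lc_a_rc_9_2 lc_a_rc_3_2 lc_a_rc_6_2 lc_a_rc_2_2 lc_a_rc_3_2 lc_a_rc_7_2 lc_a_rc_4_2 lc_a_rc_3_2 lc_a_rc_2_2 lc_a_rc_0_0 lc_a_rc_4_2 lc_a_rc_3_2 lc_a_rc_2_2 lc_a_rc_7_2 lc_a_rc_4_2 lc_a_rc_3_2 lc_a_rc_6_2 lc_a_rc_3_2 lc_a_rc_5_2 lc_a_rc_2_2 lc_a_rc_6_2 lc_a_rc_3_2 lc_a_rc_6_2 lc_a_rc_2_2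 lc_a_rc_3_2 lc_a_rc_3_0 lc_a_rc_7_2 lc_a_rc_3_2 lc_a_rc_5_2 lc_a_rc_1_2 lc_a_rc_2_2 lc_a_rc_7_2 lc_a_rc_8_2 lc_a_rc_4_2 lc_a_rc_3_2 lc_a_rc_6_2) (@D3.rec (fun _ => (Cert rels S Gen.a)) lc_a_rc_3_2 lc_a_rc_5_2 lc_a_rc_2_2 lc_a_rc_3_2 lc_a_rc_6_2 lc_a_rc_2_2 lc_a_rc_3_2 lc_a_rc_4_0 lc_a_rc_4_2 lc_a_rc_5_2 lc_a_rc_1_2 lc_a_rc_2_2 lc_a_rc_56_49 lc_a_rc_2_2 lc_a_rc_4_2 lc_a_rc_3_2 lc_a_rc_9_2 lc_a_rc_3_2 lc_a_rc_6_2 lc_a_rc_2_2 lc_a_rc_2_2 lc_a_rc_4_2 lc_a_rc_5_2 lc_a_rc_3_2 lc_a_rc_2_2 lc_a_rc_4_2 lc_a_rc_56_35 lc_a_rc_3_2 lc_a_rc_2_2 lc_a_rc_5_2 lc_a_rc_5_2 lc_a_rc_2_2 lc_a_rc_4_2 lc_a_rc_1_4 lc_a_rc_2_2 lc_a_rc_6_2 lc_a_rc_5_2 lc_a_rc_2_2 lc_a_rc_4_2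 lc_a_rc_1_4 lc_a_rc_2_2 lc_a_rc_6_2 lc_a_rc_5_2 lc_a_rc_2_2 lc_a_rc_6_2 lc_a_rc_1_4 lc_a_rc_3_2 lc_a_rc_2_2 lc_a_rc_7_2 lc_a_rc_6_2 lc_a_rc_3_2) (@D3.rec (fun _ => (Cert rels S Gen.a)) lc_a_rc_2_2 lc_a_rc_7_2 lc_a_rc_1_4 lc_a_rc_56_56 lc_a_rc_3_2 lc_a_rc_5_2 lc_a_rc_2_2 lc_a_rc_8_2 lc_a_Cert_tree lc_a_rc_2_2 lc_a_rc_6_2 lc_a_rc_0_0 lc_a_rc_4_2 lc_a_rc_3_2 lc_a_rc_2_2 lc_a_rc_7_2 lc_a_rc_0_0 lc_a_rc_4_2 lc_a_rc_3_2 lc_a_rc_2_2 lc_a_rc_6_2 lc_a_rc_4_2 lc_a_rc_3_2 lc_a_rc_6_2 lc_a_rc_3_2 lc_a_rc_5_2 lc_a_rc_2_2 lc_a_rc_6_2 lc_a_rc_4_2 lc_a_rc_3_2 lc_a_rc_6_2 lc_a_rc_3_2 lc_a_rc_5_2 lc_a_rc_2_2 lc_a_rc_4_2 lc_a_rc_3_2 lc_a_rc_6_2 lc_a_rc_3_2 lc_a_rc_7_2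 lc_a_rc_3_2 lc_a_rc_3_2 lc_a_rc_5_2 lc_a_rc_2_2 lc_a_rc_3_2 lc_a_rc_6_2 lc_a_rc_2_2 lc_a_rc_3_2 lc_a_rc_5_2 lc_a_rc_7_2 lc_a_rc_4_2 lc_a_rc_3_2) (@D3.rec (fun _ => (Cert rels S Gen.a)) lc_a_rc_5_2 lc_a_rc_2_2 lc_a_rc_2_2 lc_a_rc_3_2 lc_a_rc_7_2 lc_a_rc_2_2 lc_a_rc_4_2 lc_a_rc_3_2 lc_a_rc_8_2 lc_a_rc_4_2 lc_a_rc_3_2 lc_a_rc_4_2 lc_a_rc_3_2 lc_a_rc_6_2 lc_a_rc_3_2 lc_a_rc_5_2 lc_a_rc_2_2 lc_a_rc_7_2 lc_a_rc_3_2 lc_a_rc_6_2 lc_a_rc_3_2 lc_a_rc_7_2 lc_a_rc_4_2 lc_a_rc_3_2 lc_a_rc_5_2 lc_a_rc_2_2 lc_a_rc_3_2 lc_a_rc_7_2 lc_a_rc_3_2 lc_a_rc_8_2 lc_a_rc_3_2 lc_a_rc_5_2 lc_a_rc_8_2 lc_a_rc_3_2 lc_a_rc_6_2 lc_a_rc_3_2 lc_a_rc_7_2 lc_a_rc_4_2 lc_a_rc_3_2 lc_a_rc_5_2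 lc_a_rc_3_2 lc_a_rc_4_2 lc_a_rc_5_2 lc_a_rc_3_2 lc_a_rc_7_2 lc_a_rc_4_2 lc_a_rc_3_2 lc_a_rc_4_2 lc_a_rc_5_2 lc_a_rc_5_2 lc_a_rc_4_2)
def ce_a_1 : D2 → D3 → (Cert rels S Gen.a) := @D2.rec (fun _ => D3 → (Cert rels S Gen.a)) (@D3.rec (fun _ => (Cert rels S Gen.a)) lc_a_rc_3_2 lc_a_rc_4_2 lc_a_rc_4_2 lc_a_rc_3_2 lc_a_rc_3_2 lc_a_rc_5_2 lc_a_rc_5_2 lc_a_rc_5_2 lc_a_rc_2_2 lc_a_rc_5_2 lc_a_rc_2_2 lc_a_rc_2_2 lc_a_rc_2_2 lc_a_rc_2_2 lc_a_rc_2_2 lc_a_rc_3_2 lc_a_rc_2_2 lc_a_rc_3_2 lc_a_rc_3_2 lc_a_rc_2_2 lc_a_rc_4_2 lc_a_rc_2_2 lc_a_rc_4_2 lc_a_Cert_tree lc_a_rc_2_2 lc_a_rc_6_2 lc_a_rc_5_2 lc_a_rc_3_2 lc_a_rc_3_2 lc_a_rc_4_2 lc_a_rc_5_2 lc_a_rc_3_2 lc_a_rc_4_2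 lc_a_Cert_tree lc_a_rc_4_2 lc_a_rc_6_2 lc_a_rc_5_2 lc_a_rc_5_2 lc_a_Cert_tree lc_a_rc_4_2 lc_a_rc_6_2 lc_a_rc_0_0 lc_a_rc_4_2 lc_a_rc_4_2 lc_a_rc_6_2 lc_a_rc_7_2 lc_a_rc_2_2 lc_a_rc_3_2 lc_a_Cert_tree lc_a_rc_5_2 lc_a_rc_6_2) (@D3.rec (fun _ => (Cert rels S Gen.a)) lc_a_rc_0_0 lc_a_rc_4_2 lc_a_rc_4_2 lc_a_rc_6_2 lc_a_rc_7_2 lc_a_rc_4_2 lc_a_rc_3_2 lc_a_rc_6_2 lc_a_rc_6_2 lc_a_rc_5_2 lc_a_rc_7_2 lc_a_rc_8_2 lc_a_rc_3_2 lc_a_rc_1_2 lc_a_rc_1_2 lc_a_rc_4_2 lc_a_rc_3_2 lc_a_rc_1_2 lc_a_rc_3_2 lc_a_rc_4_2 lc_a_rc_5_2 lc_a_rc_3_2 lc_a_rc_2_2 lc_a_rc_4_2 lc_a_rc_5_2 lc_a_rc_3_2 lc_a_rc_2_2 lc_a_rc_3_2 lc_a_rc_5_2 lc_a_rc_2_2 lc_a_rc_3_2 lc_a_Cert_tree lc_a_rc_2_2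 lc_a_rc_3_2 lc_a_rc_2_2 lc_a_rc_5_2 lc_a_rc_56_56 lc_a_rc_2_2 lc_a_rc_3_2 lc_a_rc_0_0 lc_a_rc_4_2 lc_a_rc_2_2 lc_a_rc_2_2 lc_a_rc_3_2 lc_a_rc_2_2 lc_a_rc_1_2 lc_a_Cert_tree lc_a_rc_2_2 lc_a_rc_1_2 lc_a_Cert_tree lc_a_rc_2_2) (@D3.rec (fun _ => (Cert rels S Gen.a)) lc_a_rc_1_2 lc_a_rc_0_0 lc_a_rc_4_2 lc_a_rc_3_2 lc_a_rc_2_2 lc_a_rc_1_2 lc_a_rc_0_0 lc_a_rc_4_2 lc_a_rc_3_2 lc_a_rc_2_2 lc_a_rc_1_2 lc_a_rc_4_2 lc_a_rc_3_2 lc_a_rc_6_2 lc_a_rc_3_2 lc_a_rc_5_2 lc_a_rc_2_2 lc_a_rc_1_2 lc_a_rc_4_2 lc_a_rc_3_2 lc_a_rc_6_2 lc_a_rc_3_2 lc_a_rc_5_2 lc_a_rc_2_2 lc_a_rc_1_2 lc_a_rc_3_2 lc_a_rc_6_2 lc_a_rc_2_2 lc_a_rc_3_2 lc_a_rc_5_2 lc_a_rc_7_2 lc_a_rc_4_2 lc_a_rc_3_2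 lc_a_rc_5_2 lc_a_rc_9_2 lc_a_rc_2_2 lc_a_rc_0_0 lc_a_rc_4_2 lc_a_rc_3_2 lc_a_rc_2_2 lc_a_rc_1_2 lc_a_rc_4_2 lc_a_rc_3_2 lc_a_rc_6_2 lc_a_rc_3_2 lc_a_rc_5_2 lc_a_rc_2_2 lc_a_rc_1_2 lc_a_rc_3_2 lc_a_rc_6_2 lc_a_rc_2_2) (@D3.rec (fun _ => (Cert rels S Gen.a)) lc_a_rc_3_2 lc_a_rc_5_2 lc_a_rc_7_2 lc_a_rc_4_2 lc_a_rc_3_2 lc_a_rc_5_2 lc_a_rc_9_2 lc_a_rc_2_2 lc_a_rc_3_2 lc_a_rc_5_2 lc_a_rc_7_2 lc_a_rc_4_2 lc_a_rc_3_2 lc_a_rc_5_2 lc_a_rc_9_2 lc_a_rc_8_2 lc_a_rc_4_2 lc_a_rc_5_2 lc_a_rc_3_2 lc_a_rc_5_2 lc_a_rc_9_2 lc_a_rc_6_2 lc_a_rc_4_2 lc_a_rc_5_2 lc_a_rc_3_2 lc_a_rc_9_2 lc_a_rc_5_2 lc_a_rc_9_2 lc_a_rc_2_2 lc_a_rc_4_2 lc_a_rc_3_2 lc_a_rc_9_2 lc_a_rc_3_2 lc_a_rc_2_2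 lc_a_rc_2_2 lc_a_rc_4_2 lc_a_rc_5_2 lc_a_rc_3_2 lc_a_rc_2_2 lc_a_rc_4_2 lc_a_rc_3_2 lc_a_rc_2_2 lc_a_rc_5_2 lc_a_rc_5_2 lc_a_rc_2_2 lc_a_rc_4_2 lc_a_Cert_tree lc_a_rc_2_2 lc_a_rc_6_2 lc_a_rc_5_2 lc_a_rc_2_2) (@D3.rec (fun _ => (Cert rels S Gen.a)) lc_a_rc_4_2 lc_a_Cert_tree lc_a_rc_2_2 lc_a_rc_6_2 lc_a_rc_5_2 lc_a_rc_4_0 lc_a_rc_2_2 lc_a_rc_6_2 lc_a_rc_0_0 lc_a_rc_4_2 lc_a_rc_3_2 lc_a_rc_2_2 lc_a_rc_7_2 lc_a_rc_6_2 lc_a_rc_3_0 lc_a_rc_3_2 lc_a_rc_2_2 lc_a_rc_7_2 lc_a_rc_4_2 lc_a_rc_3_2 lc_a_rc_6_2 lc_a_rc_3_2 lc_a_rc_5_2 lc_a_rc_2_2 lc_a_rc_8_2 lc_a_Cert_tree lc_a_rc_2_2 lc_a_rc_6_2 lc_a_rc_0_0 lc_a_rc_4_2 lc_a_rc_3_2 lc_a_rc_2_2 lc_a_rc_7_2 lc_a_rc_0_0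 lc_a_rc_4_2 lc_a_rc_3_2 lc_a_rc_2_2 lc_a_rc_6_2 lc_a_rc_4_2 lc_a_rc_3_2 lc_a_rc_6_2 lc_a_rc_3_2 lc_a_rc_5_2 lc_a_rc_2_2 lc_a_rc_6_2 lc_a_rc_4_2 lc_a_rc_3_2 lc_a_rc_6_2 lc_a_rc_3_2 lc_a_rc_5_2 lc_a_rc_2_2) (@D3.rec (fun _ => (Cert rels S Gen.a)) lc_a_rc_4_2 lc_a_rc_3_2 lc_a_rc_6_2 lc_a_rc_2_2 lc_a_rc_3_2 lc_a_rc_2_0 lc_a_rc_7_2 lc_a_rc_3_2 lc_a_rc_3_2 lc_a_rc_5_2 lc_a_rc_1_2 lc_a_rc_2_2 lc_a_rc_3_2 lc_a_rc_6_2 lc_a_rc_2_2 lc_a_rc_3_2 lc_a_rc_5_2 lc_a_rc_7_2 lc_a_rc_4_2 lc_a_rc_3_2 lc_a_rc_5_2 lc_a_rc_2_2 lc_a_rc_2_2 lc_a_rc_3_2 lc_a_rc_7_2 lc_a_rc_2_2 lc_a_rc_4_2 lc_a_rc_3_2 lc_a_rc_8_2 lc_a_rc_4_2 lc_a_rc_3_2 lc_a_rc_4_2 lc_a_rc_3_2 lc_a_rc_6_2 lc_a_rc_3_2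 lc_a_rc_5_2 lc_a_rc_2_2 lc_a_rc_7_2 lc_a_rc_3_2 lc_a_rc_6_2 lc_a_rc_2_2 lc_a_rc_3_2 lc_a_rc_3_0 lc_a_rc_7_2 lc_a_rc_4_2 lc_a_rc_3_2 lc_a_rc_5_2 lc_a_rc_1_2 lc_a_rc_2_2 lc_a_rc_2_2 lc_a_rc_3_2) (@D3.rec (fun _ => (Cert rels S Gen.a)) lc_a_rc_7_2 lc_a_rc_2_2 lc_a_rc_6_0 lc_a_rc_3_2 lc_a_rc_3_0 lc_a_rc_8_2 lc_a_rc_3_2 lc_a_rc_5_2 lc_a_rc_56_7 lc_a_rc_8_2 lc_a_rc_3_2 lc_a_rc_6_2 lc_a_rc_2_2 lc_a_rc_3_2 lc_a_rc_4_0 lc_a_rc_7_2 lc_a_rc_4_2 lc_a_rc_3_2 lc_a_rc_5_2 lc_a_rc_1_2 lc_a_rc_2_2 lc_a_rc_3_2 lc_a_rc_2_2 lc_a_rc_2_2 lc_a_rc_4_2 lc_a_rc_6_2 lc_a_rc_5_2 lc_a_rc_1_2 lc_a_rc_56_35 lc_a_rc_7_2 lc_a_rc_2_2 lc_a_rc_2_2 lc_a_rc_6_2 lc_a_rc_4_2 lc_a_rc_5_2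 lc_a_rc_3_2 lc_a_rc_2_2 lc_a_rc_4_2 lc_a_rc_56_35 lc_a_rc_3_2 lc_a_rc_2_2 lc_a_rc_5_2 lc_a_rc_5_2 lc_a_rc_2_2 lc_a_rc_4_2 lc_a_rc_1_4 lc_a_rc_2_2 lc_a_rc_6_2 lc_a_rc_3_2 lc_a_rc_5_2 lc_a_rc_3_2) (@D3.rec (fun _ => (Cert rels S Gen.a)) lc_a_rc_3_2 lc_a_rc_5_2 lc_a_rc_2_2 lc_a_rc_6_2 lc_a_rc_4_2 lc_a_rc_3_2 lc_a_rc_2_2 lc_a_rc_7_2 lc_a_rc_5_2 lc_a_rc_2_2 lc_a_rc_6_2 lc_a_rc_1_4 lc_a_rc_3_2 lc_a_rc_2_2 lc_a_rc_7_2 lc_a_rc_6_2 lc_a_rc_3_2 lc_a_rc_2_2 lc_a_rc_7_2 lc_a_rc_1_4 lc_a_rc_1_4 lc_a_rc_3_2 lc_a_rc_5_2 lc_a_rc_2_2 lc_a_rc_8_2 lc_a_rc_7_2 lc_a_rc_3_2 lc_a_rc_2_2 lc_a_rc_8_2 lc_a_rc_2_2 lc_a_rc_1_4 lc_a_rc_1_4 lc_a_rc_1_4 lc_a_rc_4_2 lc_a_rc_3_2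 lc_a_rc_5_2 lc_a_rc_2_2 lc_a_rc_0_0 lc_a_rc_4_2 lc_a_rc_3_2 lc_a_rc_2_2 lc_a_rc_7_2 lc_a_rc_4_2 lc_a_rc_3_2 lc_a_rc_6_2 lc_a_rc_3_2 lc_a_rc_5_2 lc_a_rc_2_2 lc_a_rc_7_2 lc_a_rc_4_2 lc_a_rc_3_2) (@D3.rec (fun _ => (Cert rels S Gen.a)) lc_a_rc_6_2 lc_a_rc_3_2 lc_a_rc_5_2 lc_a_rc_2_2 lc_a_rc_6_2 lc_a_rc_3_2 lc_a_rc_6_2 lc_a_rc_3_2 lc_a_rc_7_2 lc_a_rc_4_2 lc_a_rc_3_2 lc_a_rc_5_2 lc_a_rc_2_2 lc_a_rc_3_2 lc_a_rc_6_2 lc_a_rc_3_2 lc_a_rc_7_2 lc_a_rc_3_2 lc_a_rc_3_2 lc_a_rc_5_2 lc_a_rc_2_2 lc_a_rc_3_2 lc_a_rc_7_2 lc_a_rc_4_2 lc_a_rc_3_2 lc_a_rc_8_2 lc_a_rc_3_2 lc_a_rc_5_2 lc_a_rc_3_2 lc_a_rc_5_2 lc_a_rc_2_2 lc_a_rc_3_2 lc_a_rc_5_2 lc_a_rc_7_2 lc_a_rc_2_2 lc_a_rc_2_2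 lc_a_rc_4_2 lc_a_rc_3_2 lc_a_rc_5_2 lc_a_rc_8_2 lc_a_rc_4_2 lc_a_rc_5_2 lc_a_rc_3_2 lc_a_rc_5_2 lc_a_rc_1_2 lc_a_rc_2_2 lc_a_rc_4_2 lc_a_rc_3_2 lc_a_rc_8_2 lc_a_rc_2_2 lc_a_rc_2_2) (@D3.rec (fun _ => (Cert rels S Gen.a)) lc_a_rc_4_2 lc_a_rc_3_2 lc_a_rc_6_2 lc_a_rc_4_2 lc_a_rc_3_2 lc_a_rc_6_2 lc_a_rc_3_2 lc_a_rc_7_2 lc_a_rc_4_2 lc_a_rc_3_2 lc_a_rc_5_2 lc_a_rc_2_2 lc_a_rc_3_2 lc_a_rc_7_2 lc_a_rc_4_2 lc_a_rc_3_2 lc_a_rc_8_2 lc_a_rc_4_2 lc_a_rc_5_2 lc_a_rc_3_2 lc_a_rc_5_2 lc_a_rc_3_2 lc_a_rc_8_2 lc_a_rc_3_2 lc_a_rc_5_2 lc_a_rc_3_2 lc_a_rc_7_2 lc_a_rc_4_2 lc_a_rc_3_2 lc_a_rc_4_2 lc_a_rc_5_2 lc_a_rc_5_2 lc_a_rc_4_2 lc_a_rc_3_2 lc_a_rc_4_2 lc_a_rc_3_2 lc_a_rc_4_2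 lc_a_rc_6_2 lc_a_rc_5_2 lc_a_rc_3_2 lc_a_rc_2_2 lc_a_rc_4_2 lc_a_rc_4_2 lc_a_rc_5_2 lc_a_rc_3_2 lc_a_rc_5_2 lc_a_rc_5_2 lc_a_rc_5_2 lc_a_rc_2_2 lc_a_rc_5_2 lc_a_Cert_tree) (@D3.rec (fun _ => (Cert rels S Gen.a)) lc_a_rc_2_2 lc_a_rc_6_2 lc_a_rc_2_2 lc_a_rc_2_2 lc_a_rc_2_2 lc_a_rc_3_2 lc_a_rc_3_2 lc_a_rc_2_2 lc_a_rc_4_2 lc_a_rc_3_2 lc_a_rc_2_2 lc_a_rc_4_2 lc_a_rc_2_2 lc_a_rc_4_2 lc_a_Cert_tree lc_a_rc_2_2 lc_a_rc_6_2 lc_a_rc_56_56 lc_a_rc_2_2 lc_a_rc_6_2 lc_a_rc_0_0 lc_a_rc_4_2 lc_a_rc_2_2 lc_a_rc_2_2 lc_a_rc_7_2 lc_a_rc_5_2 lc_a_rc_3_2 lc_a_rc_4_2 lc_a_Cert_tree lc_a_rc_4_2 lc_a_rc_6_2 lc_a_rc_5_2 lc_a_rc_5_2 lc_a_Cert_tree lc_a_rc_4_2 lc_a_rc_6_2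 lc_a_rc_0_0 lc_a_rc_4_2 lc_a_rc_4_2 lc_a_rc_6_2 lc_a_rc_7_2 lc_a_Cert_tree lc_a_rc_5_2 lc_a_rc_6_2 lc_a_rc_0_0 lc_a_rc_4_2 lc_a_rc_4_2 lc_a_rc_6_2 lc_a_rc_7_2 lc_a_rc_4_2 lc_a_rc_3_2) (@D3.rec (fun _ => (Cert rels S Gen.a)) lc_a_rc_6_2 lc_a_rc_6_2 lc_a_rc_5_2 lc_a_rc_7_2 lc_a_rc_8_2 lc_a_Cert_tree lc_a_rc_2_2 lc_a_rc_3_2 lc_a_rc_0_0 lc_a_rc_4_2 lc_a_rc_3_2 lc_a_rc_6_2 lc_a_rc_7_2 lc_a_rc_4_2 lc_a_rc_3_2 lc_a_rc_6_2 lc_a_rc_6_2 lc_a_rc_5_2 lc_a_rc_7_2 lc_a_rc_8_2 lc_a_rc_3_2 lc_a_rc_6_2 lc_a_rc_2_2 lc_a_rc_3_2 lc_a_rc_5_2 lc_a_rc_7_2 lc_a_rc_6_2 lc_a_rc_7_2 lc_a_rc_6_2 lc_a_rc_9_2 lc_a_rc_8_2 lc_a_rc_4_2 lc_a_rc_3_2 lc_a_rc_1_2 lc_a_rc_3_2 lc_a_rc_4_2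 lc_a_rc_5_2 lc_a_rc_3_2 lc_a_rc_2_2 lc_a_rc_4_2 lc_a_rc_5_2 lc_a_rc_5_2 lc_a_rc_2_2 lc_a_rc_4_2 lc_a_Cert_tree lc_a_rc_2_2 lc_a_rc_4_2 lc_a_rc_5_2 lc_a_rc_2_2 lc_a_rc_3_2 lc_a_Cert_tree) (@D3.rec (fun _ => (Cert rels S Gen.a)) lc_a_rc_2_2 lc_a_rc_3_2 lc_a_rc_2_2 lc_a_rc_5_2 lc_a_rc_2_2 lc_a_rc_2_2 lc_a_rc_3_2 lc_a_rc_0_0 lc_a_rc_4_2 lc_a_rc_2_2 lc_a_rc_2_2 lc_a_rc_3_2 lc_a_rc_2_2 lc_a_rc_5_2 lc_a_rc_8_0 lc_a_rc_2_2 lc_a_rc_2_2 lc_a_rc_3_2 lc_a_rc_4_2 lc_a_rc_3_2 lc_a_rc_6_2 lc_a_rc_2_2 lc_a_rc_2_2 lc_a_rc_2_2 lc_a_rc_3_2 lc_a_Cert_tree lc_a_rc_2_2 lc_a_rc_1_2 lc_a_rc_0_0 lc_a_rc_4_2 lc_a_rc_3_2 lc_a_rc_2_2 lc_a_rc_1_2 lc_a_rc_0_0 lc_a_rc_4_2 lc_a_rc_3_2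 lc_a_rc_2_2 lc_a_rc_1_2 lc_a_rc_4_2 lc_a_rc_3_2 lc_a_rc_6_2 lc_a_rc_3_2 lc_a_rc_5_2 lc_a_rc_2_2 lc_a_rc_1_2 lc_a_rc_4_2 lc_a_rc_3_2 lc_a_rc_6_2 lc_a_rc_3_2 lc_a_rc_5_2 lc_a_rc_2_2) (@D3.rec (fun _ => (Cert rels S Gen.a)) lc_a_rc_1_2 lc_a_rc_3_2 lc_a_rc_6_2 lc_a_rc_2_2 lc_a_rc_3_2 lc_a_rc_5_2 lc_a_rc_7_2 lc_a_rc_4_2 lc_a_rc_3_2 lc_a_rc_5_2 lc_a_rc_9_2 lc_a_rc_2_2 lc_a_rc_3_2 lc_a_rc_6_2 lc_a_rc_5_2 lc_a_rc_3_2 lc_a_rc_5_2 lc_a_rc_7_2 lc_a_rc_4_2 lc_a_rc_3_2 lc_a_rc_5_2 lc_a_rc_9_2 lc_a_rc_2_2 lc_a_rc_2_2 lc_a_rc_3_2 lc_a_rc_5_2 lc_a_rc_7_2 lc_a_rc_2_2 lc_a_rc_6_0 lc_a_rc_4_2 lc_a_rc_3_2 lc_a_rc_5_2 lc_a_rc_6_0 lc_a_rc_8_2 lc_a_rc_4_2 lc_a_rc_5_2 lc_a_rc_3_2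 lc_a_rc_5_2 lc_a_rc_9_2 lc_a_rc_4_2 lc_a_rc_3_2 lc_a_rc_6_2 lc_a_rc_3_2 lc_a_rc_5_2 lc_a_rc_2_2 lc_a_rc_1_2 lc_a_rc_3_2 lc_a_rc_6_2 lc_a_rc_2_2 lc_a_rc_3_2 lc_a_rc_5_2) (@D3.rec (fun _ => (Cert rels S Gen.a)) lc_a_rc_7_2 lc_a_rc_4_2 lc_a_rc_3_2 lc_a_rc_5_2 lc_a_rc_9_2 lc_a_rc_2_2 lc_a_rc_2_2 lc_a_rc_3_2 lc_a_rc_5_2 lc_a_rc_7_2 lc_a_rc_2_2 lc_a_rc_2_2 lc_a_rc_4_2 lc_a_rc_3_2 lc_a_rc_5_2 lc_a_rc_9_2 lc_a_rc_8_2 lc_a_rc_4_2 lc_a_rc_5_2 lc_a_rc_3_2 lc_a_rc_5_2 lc_a_rc_9_2 lc_a_rc_4_2 lc_a_rc_3_2 lc_a_rc_5_2 lc_a_rc_9_2 lc_a_rc_8_2 lc_a_rc_4_2 lc_a_rc_5_2 lc_a_rc_3_2 lc_a_rc_5_2 lc_a_rc_9_2 lc_a_rc_6_2 lc_a_rc_4_2 lc_a_rc_5_2 lc_a_rc_3_2 lc_a_rc_9_2 lc_a_rc_5_2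 lc_a_rc_9_2 lc_a_rc_6_2 lc_a_rc_6_2 lc_a_rc_5_2 lc_a_rc_3_2 lc_a_rc_9_2 lc_a_rc_2_2 lc_a_rc_3_2 lc_a_rc_9_2 lc_a_rc_2_2 lc_a_rc_2_2 lc_a_rc_6_2 lc_a_rc_4_2) (@D3.rec (fun _ => (Cert rels S Gen.a)) lc_a_rc_5_2 lc_a_rc_3_2 lc_a_rc_2_2 lc_a_rc_4_2 lc_a_rc_3_2 lc_a_rc_2_2 lc_a_rc_5_2 lc_a_rc_5_2 lc_a_rc_2_2 lc_a_rc_4_2 lc_a_Cert_tree lc_a_rc_2_2 lc_a_rc_6_2 lc_a_rc_5_2 lc_a_rc_3_2 lc_a_rc_3_2 lc_a_rc_5_2 lc_a_rc_6_2 lc_a_rc_2_2 lc_a_rc_6_2 lc_a_rc_0_0 lc_a_rc_4_2 lc_a_rc_3_2 lc_a_rc_2_2 lc_a_rc_7_2 lc_a_rc_5_2 lc_a_rc_4_0 lc_a_rc_2_2 lc_a_rc_6_2 lc_a_rc_0_0 lc_a_rc_4_2 lc_a_rc_3_2 lc_a_rc_2_2 lc_a_rc_7_2 lc_a_rc_6_2 lc_a_rc_3_0 lc_a_rc_3_2 lc_a_rc_2_2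 lc_a_rc_7_2 lc_a_rc_4_2 lc_a_rc_3_2 lc_a_rc_6_2 lc_a_rc_3_2 lc_a_rc_5_2 lc_a_rc_2_2 lc_a_rc_8_2 lc_a_rc_7_2 lc_a_rc_2_0 lc_a_rc_3_0 lc_a_rc_3_2 lc_a_rc_2_2) (@D3.rec (fun _ => (Cert rels S Gen.a)) lc_a_rc_8_2 lc_a_rc_3_2 lc_a_rc_6_2 lc_a_rc_2_2 lc_a_rc_3_2 lc_a_rc_5_2 lc_a_rc_7_2 lc_a_rc_4_2 lc_a_rc_3_2 lc_a_rc_5_2 lc_a_rc_2_2 lc_a_rc_2_2 lc_a_rc_0_0 lc_a_rc_4_2 lc_a_rc_3_2 lc_a_rc_2_2 lc_a_rc_7_2 lc_a_rc_4_2 lc_a_rc_3_2 lc_a_rc_6_2 lc_a_rc_3_2 lc_a_rc_5_2 lc_a_rc_2_2 lc_a_rc_7_2 lc_a_rc_4_2 lc_a_rc_3_2 lc_a_rc_6_2 lc_a_rc_3_2 lc_a_rc_5_2 lc_a_rc_2_2 lc_a_rc_6_2 lc_a_rc_3_2 lc_a_rc_6_2 lc_a_rc_2_2 lc_a_rc_3_2 lc_a_rc_2_0 lc_a_rc_7_2 lc_a_rc_4_2 lc_a_rc_3_2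 lc_a_rc_5_2 lc_a_rc_1_2 lc_a_rc_2_2 lc_a_rc_3_2 lc_a_rc_6_2 lc_a_rc_2_2 lc_a_rc_3_2 lc_a_rc_2_0 lc_a_rc_7_2 lc_a_rc_3_2 lc_a_rc_3_2 lc_a_rc_5_2) (@D3.rec (fun _ => (Cert rels S Gen.a)) lc_a_rc_1_2 lc_a_rc_2_2 lc_a_rc_2_2 lc_a_rc_3_2 lc_a_rc_7_2 lc_a_rc_2_2 lc_a_rc_6_0 lc_a_rc_4_2 lc_a_rc_3_2 lc_a_rc_2_0 lc_a_rc_8_2 lc_a_rc_3_2 lc_a_rc_5_2 lc_a_rc_3_2 lc_a_rc_5_2 lc_a_rc_1_2 lc_a_rc_2_2 lc_a_rc_3_2 lc_a_rc_5_2 lc_a_rc_7_2 lc_a_rc_2_2 lc_a_rc_3_2 lc_a_rc_4_2 lc_a_rc_3_2 lc_a_rc_5_2 lc_a_rc_8_2 lc_a_rc_4_2 lc_a_rc_5_2 lc_a_rc_3_2 lc_a_rc_5_2 lc_a_rc_1_2 lc_a_rc_2_2 lc_a_rc_4_2 lc_a_rc_3_2 lc_a_rc_8_2 lc_a_rc_2_2 lc_a_rc_2_2 lc_a_rc_4_2 lc_a_rc_3_2 lc_a_rc_6_2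 lc_a_rc_4_2 lc_a_rc_3_2 lc_a_rc_6_2 lc_a_rc_2_2 lc_a_rc_3_2 lc_a_rc_3_0 lc_a_rc_7_2 lc_a_rc_4_2 lc_a_rc_3_2 lc_a_rc_5_2 lc_a_rc_1_2) (@D3.rec (fun _ => (Cert rels S Gen.a)) lc_a_rc_2_2 lc_a_rc_2_2 lc_a_rc_3_2 lc_a_rc_7_2 lc_a_rc_2_2 lc_a_rc_0_1 lc_a_rc_4_2 lc_a_rc_3_2 lc_a_rc_6_2 lc_a_rc_8_2 lc_a_rc_4_2 lc_a_rc_5_2 lc_a_rc_3_2 lc_a_rc_5_2 lc_a_rc_1_2 lc_a_rc_2_2 lc_a_rc_3_2 lc_a_rc_8_2 lc_a_rc_2_2 lc_a_rc_8_2 lc_a_rc_6_0 lc_a_rc_3_2 lc_a_rc_3_0 lc_a_rc_5_2 lc_a_rc_1_2 lc_a_rc_2_2 lc_a_rc_3_2 lc_a_rc_7_2 lc_a_rc_2_2 lc_a_rc_2_2 lc_a_rc_4_2 lc_a_rc_3_2 lc_a_rc_6_2 lc_a_rc_4_2 lc_a_rc_5_2 lc_a_rc_5_2 lc_a_rc_1_2 lc_a_rc_2_2 lc_a_rc_4_2 lc_a_rc_2_2 lc_a_rc_2_2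 lc_a_rc_3_2 lc_a_rc_4_2 lc_a_rc_3_2 lc_a_rc_4_2 lc_a_rc_56_0 lc_a_rc_4_2 lc_a_rc_3_2 lc_a_rc_2_2 lc_a_rc_2_2 lc_a_rc_6_2) (@D3.rec (fun _ => (Cert rels S Gen.a)) lc_a_rc_5_2 lc_a_rc_5_2 lc_a_rc_2_2 lc_a_rc_4_2 lc_a_rc_1_4 lc_a_rc_2_2 lc_a_rc_6_2 lc_a_rc_3_2 lc_a_rc_5_2 lc_a_rc_3_2 lc_a_rc_3_2 lc_a_rc_5_2 lc_a_rc_2_2 lc_a_rc_6_2 lc_a_rc_4_2 lc_a_rc_3_2 lc_a_rc_2_2 lc_a_rc_7_2 lc_a_rc_2_2 lc_a_rc_5_2 lc_a_rc_3_2 lc_a_rc_6_2 lc_a_rc_3_2 lc_a_rc_2_2 lc_a_rc_7_2 lc_a_rc_3_2 lc_a_rc_4_2 lc_a_rc_3_2 lc_a_rc_5_2 lc_a_rc_2_2 lc_a_rc_8_2 lc_a_rc_6_2 lc_a_rc_3_2 lc_a_rc_2_2 lc_a_rc_7_2 lc_a_rc_1_4 lc_a_rc_1_4 lc_a_rc_3_2 lc_a_rc_5_2 lc_a_rc_2_2 lc_a_rc_8_2 lc_a_rc_7_2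 lc_a_rc_3_2 lc_a_rc_2_2 lc_a_rc_8_2 lc_a_rc_2_2 lc_a_rc_1_4 lc_a_rc_1_4 lc_a_rc_1_4 lc_a_rc_4_2 lc_a_rc_3_2) (@D3.rec (fun _ => (Cert rels S Gen.a)) lc_a_rc_5_2 lc_a_rc_2_2 lc_a_rc_8_2 lc_a_rc_4_2 lc_a_rc_3_2 lc_a_rc_2_2 lc_a_rc_2_2 lc_a_rc_56_56 lc_a_rc_1_4 lc_a_rc_56_56 lc_a_rc_1_4 lc_a_rc_4_2 lc_a_rc_5_2 lc_a_rc_3_2 lc_a_rc_5_2 lc_a_rc_4_2 lc_a_rc_3_2 lc_a_rc_6_2 lc_a_rc_3_2 lc_a_rc_5_2 lc_a_rc_2_2 lc_a_rc_7_2 lc_a_rc_3_2 lc_a_rc_6_2 lc_a_rc_3_2 lc_a_rc_7_2 lc_a_rc_4_2 lc_a_rc_3_2 lc_a_rc_5_2 lc_a_rc_2_2 lc_a_rc_3_2 lc_a_rc_6_2 lc_a_rc_3_2 lc_a_rc_7_2 lc_a_rc_4_2 lc_a_rc_3_2 lc_a_rc_5_2 lc_a_rc_2_2 lc_a_rc_3_2 lc_a_rc_7_2 lc_a_rc_4_2 lc_a_rc_3_2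 lc_a_rc_8_2 lc_a_rc_4_2 lc_a_rc_5_2 lc_a_rc_3_2 lc_a_rc_5_2 lc_a_rc_3_2 lc_a_rc_7_2 lc_a_rc_4_2 lc_a_rc_3_2) (@D3.rec (fun _ => (Cert rels S Gen.a)) lc_a_rc_8_2 lc_a_rc_3_2 lc_a_rc_5_2 lc_a_rc_3_2 lc_a_rc_5_2 lc_a_rc_4_2 lc_a_rc_3_2 lc_a_rc_8_2 lc_a_rc_4_2 lc_a_rc_3_2 lc_a_rc_3_2 lc_a_rc_3_2 lc_a_rc_5_2 lc_a_rc_5_2 lc_a_rc_1_2 lc_a_rc_2_2 lc_a_rc_2_2 lc_a_rc_4_2 lc_a_rc_3_2 lc_a_rc_5_2 lc_a_rc_8_2 lc_a_rc_2_2 lc_a_rc_2_2 lc_a_rc_2_2 lc_a_rc_4_2 lc_a_rc_4_2 lc_a_rc_5_2 lc_a_rc_3_2 lc_a_rc_5_2 lc_a_rc_6_2 lc_a_rc_4_2 lc_a_rc_5_2 lc_a_rc_3_2 lc_a_rc_5_2 lc_a_rc_1_2 lc_a_rc_2_2 lc_a_rc_2_2 lc_a_rc_4_2 lc_a_rc_3_2 lc_a_rc_3_2 lc_a_rc_2_2 lc_a_rc_2_2 lc_a_rc_6_2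 lc_a_rc_4_2 lc_a_rc_6_2 lc_a_rc_3_2 lc_a_rc_7_2 lc_a_rc_4_2 lc_a_rc_3_2 lc_a_rc_8_2 lc_a_rc_4_2) (@D3.rec (fun _ => (Cert rels S Gen.a)) lc_a_rc_5_2 lc_a_rc_3_2 lc_a_rc_5_2 lc_a_rc_4_2 lc_a_rc_3_2 lc_a_rc_8_2 lc_a_rc_4_2 lc_a_rc_3_2 lc_a_rc_4_2 lc_a_rc_5_2 lc_a_rc_3_2 lc_a_rc_5_2 lc_a_rc_3_2 lc_a_rc_4_2 lc_a_rc_3_2 lc_a_rc_4_2 lc_a_rc_6_2 lc_a_rc_5_2 lc_a_rc_3_2 lc_a_rc_2_2 lc_a_rc_4_2 lc_a_rc_6_2 lc_a_rc_6_2 lc_a_rc_3_2 lc_a_rc_2_2 lc_a_rc_6_2 lc_a_rc_4_2 lc_a_rc_5_2 lc_a_rc_3_2 lc_a_rc_5_2 lc_a_rc_5_2 lc_a_rc_2_2 lc_a_rc_5_2 lc_a_rc_2_2 lc_a_rc_5_2 lc_a_Cert_tree lc_a_rc_2_2 lc_a_rc_6_2 lc_a_rc_0_0 lc_a_rc_4_2 lc_a_rc_3_2 lc_a_rc_2_2 lc_a_rc_7_2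 lc_a_rc_2_2 lc_a_rc_3_2 lc_a_rc_3_2 lc_a_rc_2_2 lc_a_rc_4_2 lc_a_rc_2_2 lc_a_rc_4_2 lc_a_Cert_tree) (@D3.rec (fun _ => (Cert rels S Gen.a)) lc_a_rc_2_2 lc_a_rc_6_2 lc_a_rc_2_2 lc_a_rc_4_2 lc_a_Cert_tree lc_a_rc_2_2 lc_a_rc_6_2 lc_a_rc_3_2 lc_a_rc_2_2 lc_a_rc_6_2 lc_a_rc_0_0 lc_a_rc_4_2 lc_a_rc_2_2 lc_a_rc_2_2 lc_a_rc_7_2 lc_a_rc_56_56 lc_a_rc_2_2 lc_a_rc_2_2 lc_a_rc_7_2 lc_a_rc_4_2 lc_a_rc_3_2 lc_a_rc_6_2 lc_a_rc_2_2 lc_a_rc_2_2 lc_a_rc_2_2 lc_a_rc_8_2 lc_a_rc_5_2 lc_a_rc_5_2 lc_a_Cert_tree lc_a_rc_4_2 lc_a_rc_6_2 lc_a_rc_0_0 lc_a_rc_4_2 lc_a_rc_4_2 lc_a_rc_6_2 lc_a_rc_7_2 lc_a_Cert_tree lc_a_rc_5_2 lc_a_rc_6_2 lc_a_rc_0_0 lc_a_rc_4_2 lc_a_rc_4_2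 lc_a_rc_6_2 lc_a_rc_7_2 lc_a_rc_4_2 lc_a_rc_3_2 lc_a_rc_6_2 lc_a_rc_6_2 lc_a_rc_5_2 lc_a_rc_7_2 lc_a_rc_8_2) (@D3.rec (fun _ => (Cert rels S Gen.a)) lc_a_rc_0_0 lc_a_rc_4_2 lc_a_rc_3_2 lc_a_rc_6_2 lc_a_rc_7_2 lc_a_rc_4_2 lc_a_rc_3_2 lc_a_rc_6_2 lc_a_rc_6_2 lc_a_rc_5_2 lc_a_rc_7_2 lc_a_rc_8_2 lc_a_rc_3_2 lc_a_rc_6_2 lc_a_rc_2_2 lc_a_rc_3_2 lc_a_rc_5_2 lc_a_rc_7_2 lc_a_rc_6_2 lc_a_rc_7_2 lc_a_rc_6_2 lc_a_rc_9_2 lc_a_rc_8_2 lc_a_rc_0_0 lc_a_rc_3_2 lc_a_rc_2_2 lc_a_rc_2_2 lc_a_rc_3_2 lc_a_rc_4_2 lc_a_rc_3_2 lc_a_rc_6_2 lc_a_rc_3_2 lc_a_rc_3_2 lc_a_rc_7_2 lc_a_rc_8_2 lc_a_rc_3_2 lc_a_rc_6_2 lc_a_rc_5_2 lc_a_rc_3_2 lc_a_rc_5_2 lc_a_rc_7_2 lc_a_rc_6_2 lc_a_rc_7_2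 lc_a_rc_6_2 lc_a_rc_9_2 lc_a_rc_8_2 lc_a_rc_2_2 lc_a_rc_3_2 lc_a_rc_5_2 lc_a_rc_7_2 lc_a_rc_2_2) (@D3.rec (fun _ => (Cert rels S Gen.a)) lc_a_rc_6_0 lc_a_rc_4_2 lc_a_rc_3_2 lc_a_rc_5_2 lc_a_rc_5_2 lc_a_rc_8_2 lc_a_rc_7_2 lc_a_rc_6_2 lc_a_rc_8_2 lc_a_rc_7_2 lc_a_rc_9_2 lc_a_rc_6_2 lc_a_rc_4_2 lc_a_rc_5_2 lc_a_rc_3_2 lc_a_rc_2_2 lc_a_rc_4_2 lc_a_rc_5_2 lc_a_rc_5_2 lc_a_rc_2_2 lc_a_rc_4_2 lc_a_Cert_tree lc_a_rc_2_2 lc_a_rc_4_2 lc_a_rc_3_2 lc_a_rc_2_2 lc_a_rc_5_2 lc_a_rc_2_2 lc_a_rc_2_2 lc_a_rc_4_2 lc_a_rc_0_0 lc_a_rc_4_2 lc_a_rc_3_2 lc_a_rc_2_2 lc_a_rc_4_2 lc_a_rc_2_2 lc_a_rc_5_2 lc_a_rc_2_2 lc_a_rc_2_2 lc_a_rc_3_2 lc_a_rc_0_0 lc_a_rc_4_2 lc_a_rc_2_2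 lc_a_rc_2_2 lc_a_rc_3_2 lc_a_rc_2_2 lc_a_rc_5_2 lc_a_rc_7_2 lc_a_rc_2_2 lc_a_rc_2_2 lc_a_rc_3_2) (@D3.rec (fun _ => (Cert rels S Gen.a)) lc_a_rc_4_2 lc_a_rc_3_2 lc_a_rc_6_2 lc_a_rc_2_2 lc_a_rc_2_2 lc_a_rc_2_2 lc_a_rc_3_2 lc_a_rc_3_2 lc_a_rc_2_2 lc_a_rc_5_2 lc_a_rc_6_0 lc_a_rc_5_2 lc_a_rc_2_2 lc_a_rc_2_2 lc_a_rc_2_2 lc_a_rc_3_2 lc_a_rc_3_2 lc_a_rc_6_2 lc_a_rc_2_2 lc_a_rc_3_2 lc_a_rc_5_2 lc_a_rc_7_2 lc_a_rc_2_2 lc_a_rc_2_2 lc_a_rc_2_2 lc_a_rc_2_2 lc_a_rc_2_2 lc_a_rc_0_0 lc_a_rc_4_2 lc_a_rc_3_2 lc_a_rc_2_2 lc_a_rc_1_2 lc_a_rc_4_2 lc_a_rc_3_2 lc_a_rc_6_2 lc_a_rc_3_2 lc_a_rc_5_2 lc_a_rc_2_2 lc_a_rc_1_2 lc_a_rc_4_2 lc_a_rc_3_2 lc_a_rc_6_2 lc_a_rc_3_2 lc_a_rc_5_2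 lc_a_rc_2_2 lc_a_rc_1_2 lc_a_rc_3_2 lc_a_rc_6_2 lc_a_rc_2_2 lc_a_rc_3_2 lc_a_rc_5_2)
def ce_a_2 : D2 → D3 → (Cert rels S Gen.a) := @D2.rec (fun _ => D3 → (Cert rels S Gen.a)) (@D3.rec (fun _ => (Cert rels S Gen.a)) lc_a_rc_7_2 lc_a_rc_4_2 lc_a_rc_3_2 lc_a_rc_5_2 lc_a_rc_9_2 lc_a_rc_2_2 lc_a_rc_3_2 lc_a_rc_6_2 lc_a_rc_2_2 lc_a_rc_3_2 lc_a_rc_5_2 lc_a_rc_7_2 lc_a_rc_4_2 lc_a_rc_3_2 lc_a_rc_5_2 lc_a_rc_9_2 lc_a_rc_2_2 lc_a_rc_2_2 lc_a_rc_3_2 lc_a_rc_5_2 lc_a_rc_7_2 lc_a_rc_2_2 lc_a_rc_2_2 lc_a_rc_4_2 lc_a_rc_3_2 lc_a_rc_5_2 lc_a_rc_9_2 lc_a_rc_8_2 lc_a_rc_4_2 lc_a_rc_5_2 lc_a_rc_3_2 lc_a_rc_5_2 lc_a_rc_9_2 lc_a_rc_3_2 lc_a_rc_7_2 lc_a_rc_5_2 lc_a_rc_4_2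 lc_a_rc_3_2 lc_a_rc_5_2 lc_a_rc_8_2 lc_a_rc_4_2 lc_a_rc_5_2 lc_a_rc_3_2 lc_a_rc_5_2 lc_a_rc_9_2 lc_a_rc_2_2 lc_a_rc_4_2 lc_a_rc_3_2 lc_a_rc_5_2 lc_a_rc_8_2 lc_a_rc_2_2) (@D3.rec (fun _ => (Cert rels S Gen.a)) lc_a_rc_2_2 lc_a_rc_4_0 lc_a_rc_4_2 lc_a_rc_5_2 lc_a_rc_3_2 lc_a_rc_5_2 lc_a_rc_4_0 lc_a_rc_6_2 lc_a_rc_4_2 lc_a_rc_5_2 lc_a_rc_3_2 lc_a_rc_9_2 lc_a_rc_5_2 lc_a_rc_9_2 lc_a_rc_3_2 lc_a_rc_6_2 lc_a_rc_2_2 lc_a_rc_3_2 lc_a_rc_5_2 lc_a_rc_7_2 lc_a_rc_4_2 lc_a_rc_3_2 lc_a_rc_5_2 lc_a_rc_9_2 lc_a_rc_2_2 lc_a_rc_2_2 lc_a_rc_3_2 lc_a_rc_5_2 lc_a_rc_7_2 lc_a_rc_2_2 lc_a_rc_2_2 lc_a_rc_4_2 lc_a_rc_3_2 lc_a_rc_5_2 lc_a_rc_9_2 lc_a_rc_8_2 lc_a_rc_4_2 lc_a_rc_5_2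 lc_a_rc_3_2 lc_a_rc_5_2 lc_a_rc_9_2 lc_a_rc_2_2 lc_a_rc_2_2 lc_a_rc_4_2 lc_a_rc_3_2 lc_a_rc_5_2 lc_a_rc_9_2 lc_a_rc_8_2 lc_a_rc_2_2 lc_a_rc_2_2 lc_a_rc_2_2) (@D3.rec (fun _ => (Cert rels S Gen.a)) lc_a_rc_6_0 lc_a_rc_2_2 lc_a_rc_4_2 lc_a_rc_5_2 lc_a_rc_3_2 lc_a_rc_5_2 lc_a_rc_9_2 lc_a_rc_6_2 lc_a_rc_4_2 lc_a_rc_5_2 lc_a_rc_3_2 lc_a_rc_9_2 lc_a_rc_5_2 lc_a_rc_9_2 lc_a_rc_4_2 lc_a_rc_5_2 lc_a_rc_3_2 lc_a_rc_5_2 lc_a_rc_9_2 lc_a_rc_6_2 lc_a_rc_4_2 lc_a_rc_5_2 lc_a_rc_3_2 lc_a_rc_9_2 lc_a_rc_5_2 lc_a_rc_9_2 lc_a_rc_6_2 lc_a_rc_6_2 lc_a_rc_5_2 lc_a_rc_3_2 lc_a_rc_9_2 lc_a_rc_2_2 lc_a_rc_3_2 lc_a_rc_9_2 lc_a_rc_7_2 lc_a_rc_6_2 lc_a_rc_3_2 lc_a_rc_9_2 lc_a_rc_2_2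 lc_a_Cert_tree lc_a_rc_2_2 lc_a_rc_3_2 lc_a_rc_2_2 lc_a_rc_2_2 lc_a_rc_6_2 lc_a_rc_5_2 lc_a_rc_5_2 lc_a_rc_2_2 lc_a_rc_4_2 lc_a_Cert_tree lc_a_rc_2_2) (@D3.rec (fun _ => (Cert rels S Gen.a)) lc_a_rc_6_2 lc_a_rc_5_2 lc_a_rc_3_2 lc_a_rc_3_2 lc_a_rc_5_2 lc_a_rc_6_2 lc_a_rc_2_2 lc_a_rc_6_2 lc_a_rc_0_0 lc_a_rc_4_2 lc_a_rc_3_2 lc_a_rc_2_2 lc_a_rc_7_2 lc_a_rc_3_2 lc_a_rc_6_2 lc_a_rc_4_2 lc_a_rc_3_2 lc_a_rc_2_2 lc_a_rc_7_2 lc_a_rc_4_2 lc_a_rc_3_2 lc_a_rc_6_2 lc_a_rc_3_2 lc_a_rc_5_2 lc_a_rc_2_2 lc_a_rc_8_2 lc_a_rc_6_2 lc_a_rc_3_0 lc_a_rc_3_2 lc_a_rc_2_2 lc_a_rc_7_2 lc_a_rc_4_2 lc_a_rc_3_2 lc_a_rc_6_2 lc_a_rc_3_2 lc_a_rc_5_2 lc_a_rc_2_2 lc_a_rc_8_2 lc_a_rc_7_2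 lc_a_rc_2_0 lc_a_rc_6_2 lc_a_rc_3_2 lc_a_rc_2_2 lc_a_rc_8_2 lc_a_rc_3_2 lc_a_rc_6_2 lc_a_rc_2_2 lc_a_rc_3_2 lc_a_rc_5_2 lc_a_rc_7_2 lc_a_rc_4_2) (@D3.rec (fun _ => (Cert rels S Gen.a)) lc_a_rc_3_2 lc_a_rc_5_2 lc_a_rc_2_2 lc_a_rc_2_2 lc_a_rc_8_2 lc_a_rc_8_0 lc_a_rc_2_0 lc_a_rc_3_0 lc_a_rc_4_2 lc_a_rc_3_2 lc_a_rc_2_2 lc_a_rc_2_2 lc_a_rc_3_2 lc_a_rc_5_2 lc_a_rc_7_2 lc_a_rc_2_2 lc_a_rc_2_2 lc_a_rc_4_2 lc_a_rc_3_2 lc_a_rc_5_2 lc_a_rc_2_0 lc_a_rc_8_2 lc_a_rc_4_2 lc_a_rc_5_2 lc_a_rc_3_2 lc_a_rc_5_2 lc_a_rc_2_2 lc_a_rc_4_2 lc_a_rc_3_2 lc_a_rc_6_2 lc_a_rc_3_2 lc_a_rc_5_2 lc_a_rc_2_2 lc_a_rc_7_2 lc_a_rc_3_2 lc_a_rc_6_2 lc_a_rc_2_2 lc_a_rc_3_2 lc_a_rc_2_0 lc_a_rc_7_2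 lc_a_rc_4_2 lc_a_rc_3_2 lc_a_rc_5_2 lc_a_rc_1_2 lc_a_rc_2_2 lc_a_rc_3_2 lc_a_rc_6_2 lc_a_rc_2_2 lc_a_rc_3_2 lc_a_rc_2_0 lc_a_rc_7_2) (@D3.rec (fun _ => (Cert rels S Gen.a)) lc_a_rc_4_2 lc_a_rc_3_2 lc_a_rc_5_2 lc_a_rc_1_2 lc_a_rc_2_2 lc_a_rc_2_2 lc_a_rc_3_2 lc_a_rc_7_2 lc_a_rc_2_2 lc_a_rc_0_1 lc_a_rc_4_2 lc_a_rc_3_2 lc_a_rc_6_2 lc_a_rc_8_2 lc_a_rc_4_2 lc_a_rc_5_2 lc_a_rc_3_2 lc_a_rc_5_2 lc_a_rc_1_2 lc_a_rc_2_2 lc_a_rc_3_2 lc_a_rc_7_2 lc_a_rc_2_2 lc_a_rc_1_2 lc_a_rc_4_2 lc_a_rc_3_2 lc_a_rc_2_0 lc_a_rc_8_2 lc_a_rc_3_2 lc_a_rc_5_2 lc_a_rc_3_2 lc_a_rc_5_2 lc_a_rc_0_0 lc_a_rc_2_2 lc_a_rc_4_2 lc_a_rc_3_2 lc_a_rc_8_2 lc_a_rc_2_2 lc_a_rc_2_2 lc_a_rc_8_2 lc_a_rc_3_2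 lc_a_rc_4_2 lc_a_rc_4_2 lc_a_rc_3_2 lc_a_rc_2_0 lc_a_rc_3_2 lc_a_rc_3_2 lc_a_rc_5_2 lc_a_rc_0_0 lc_a_rc_5_2 lc_a_rc_1_2) (@D3.rec (fun _ => (Cert rels S Gen.a)) lc_a_rc_2_2 lc_a_rc_4_2 lc_a_rc_3_2 lc_a_rc_5_2 lc_a_rc_8_2 lc_a_rc_2_2 lc_a_rc_2_2 lc_a_rc_3_2 lc_a_rc_4_2 lc_a_rc_5_2 lc_a_rc_3_2 lc_a_rc_5_2 lc_a_rc_6_2 lc_a_rc_4_2 lc_a_rc_5_2 lc_a_rc_3_2 lc_a_rc_5_2 lc_a_rc_1_2 lc_a_rc_2_2 lc_a_rc_2_2 lc_a_rc_4_2 lc_a_rc_3_2 lc_a_rc_3_2 lc_a_rc_2_2 lc_a_rc_2_2 lc_a_rc_6_2 lc_a_rc_4_2 lc_a_rc_6_2 lc_a_rc_2_2 lc_a_rc_3_2 lc_a_rc_7_2 lc_a_rc_2_2 lc_a_rc_8_2 lc_a_rc_4_2 lc_a_rc_3_2 lc_a_rc_6_2 lc_a_rc_8_2 lc_a_rc_4_2 lc_a_rc_5_2 lc_a_rc_3_2 lc_a_rc_5_2 lc_a_rc_1_2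 lc_a_rc_2_2 lc_a_rc_4_2 lc_a_rc_3_2 lc_a_rc_8_2 lc_a_rc_2_2 lc_a_rc_2_2 lc_a_rc_2_2 lc_a_rc_7_2 lc_a_rc_4_2) (@D3.rec (fun _ => (Cert rels S Gen.a)) lc_a_rc_4_2 lc_a_rc_3_2 lc_a_rc_6_2 lc_a_rc_4_2 lc_a_rc_5_2 lc_a_rc_3_2 lc_a_rc_4_2 lc_a_rc_5_2 lc_a_rc_1_2 lc_a_rc_2_2 lc_a_rc_3_2 lc_a_rc_2_2 lc_a_rc_7_2 lc_a_rc_4_0 lc_a_rc_56_0 lc_a_rc_3_0 lc_a_rc_1_2 lc_a_rc_2_2 lc_a_rc_4_2 lc_a_rc_3_2 lc_a_rc_2_2 lc_a_rc_2_2 lc_a_rc_2_2 lc_a_rc_3_2 lc_a_rc_4_2 lc_a_rc_4_2 lc_a_rc_7_2 lc_a_rc_6_2 lc_a_rc_5_2 lc_a_rc_3_2 lc_a_rc_4_2 lc_a_rc_1_2 lc_a_rc_2_2 lc_a_rc_3_2 lc_a_rc_4_2 lc_a_rc_3_2 lc_a_rc_3_0 lc_a_rc_3_2 lc_a_rc_2_2 lc_a_rc_3_2 lc_a_rc_56_14 lc_a_rc_7_2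 lc_a_rc_6_2 lc_a_rc_3_2 lc_a_rc_5_2 lc_a_rc_3_2 lc_a_rc_2_2 lc_a_rc_6_2 lc_a_rc_3_2 lc_a_rc_5_2 lc_a_rc_2_2) (@D3.rec (fun _ => (Cert rels S Gen.a)) lc_a_rc_6_2 lc_a_rc_4_2 lc_a_rc_3_2 lc_a_rc_2_2 lc_a_rc_7_2 lc_a_rc_2_2 lc_a_rc_5_2 lc_a_rc_3_2 lc_a_rc_6_2 lc_a_rc_3_2 lc_a_rc_2_2 lc_a_rc_7_2 lc_a_rc_3_2 lc_a_rc_4_2 lc_a_rc_3_2 lc_a_rc_5_2 lc_a_rc_2_2 lc_a_rc_8_2 lc_a_rc_56_35 lc_a_rc_3_2 lc_a_rc_7_2 lc_a_rc_3_2 lc_a_rc_2_2 lc_a_rc_8_2 lc_a_rc_2_2 lc_a_rc_3_2 lc_a_rc_5_2 lc_a_rc_4_2 lc_a_rc_4_2 lc_a_rc_3_2 lc_a_rc_5_2 lc_a_rc_2_2 lc_a_rc_7_2 lc_a_rc_3_2 lc_a_rc_2_2 lc_a_rc_8_2 lc_a_rc_2_2 lc_a_rc_1_4 lc_a_rc_1_4 lc_a_rc_1_4 lc_a_rc_4_2 lc_a_rc_3_2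 lc_a_rc_5_2 lc_a_rc_2_2 lc_a_rc_8_2 lc_a_rc_4_2 lc_a_rc_3_2 lc_a_rc_2_2 lc_a_rc_2_2 lc_a_rc_4_2 lc_a_rc_1_4) (@D3.rec (fun _ => (Cert rels S Gen.a)) lc_a_rc_1_4 lc_a_rc_1_4 lc_a_rc_4_2 lc_a_rc_5_2 lc_a_rc_3_2 lc_a_rc_5_2 lc_a_rc_4_2 lc_a_rc_3_2 lc_a_rc_2_2 lc_a_rc_2_2 lc_a_rc_1_4 lc_a_rc_56_56 lc_a_rc_1_4 lc_a_rc_1_4 lc_a_rc_6_2 lc_a_rc_4_2 lc_a_rc_5_2 lc_a_rc_3_2 lc_a_rc_5_2 lc_a_rc_3_2 lc_a_rc_6_2 lc_a_rc_3_2 lc_a_rc_7_2 lc_a_rc_4_2 lc_a_rc_3_2 lc_a_rc_5_2 lc_a_rc_2_2 lc_a_rc_3_2 lc_a_rc_7_2 lc_a_rc_4_2 lc_a_rc_3_2 lc_a_rc_8_2 lc_a_rc_3_2 lc_a_rc_7_2 lc_a_rc_4_2 lc_a_rc_3_2 lc_a_rc_8_2 lc_a_rc_4_2 lc_a_rc_5_2 lc_a_rc_3_2 lc_a_rc_5_2 lc_a_rc_4_2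 lc_a_rc_3_2 lc_a_rc_8_2 lc_a_rc_4_2 lc_a_rc_3_2 lc_a_rc_4_2 lc_a_rc_3_2 lc_a_rc_8_2 lc_a_rc_4_2 lc_a_rc_3_2) (@D3.rec (fun _ => (Cert rels S Gen.a)) lc_a_rc_3_2 lc_a_rc_3_2 lc_a_rc_5_2 lc_a_rc_5_2 lc_a_rc_5_2 lc_a_rc_4_2 lc_a_rc_3_2 lc_a_rc_6_2 lc_a_rc_4_2 lc_a_rc_1_2 lc_a_rc_2_2 lc_a_rc_2_2 lc_a_rc_2_2 lc_a_rc_4_2 lc_a_rc_5_2 lc_a_rc_3_2 lc_a_rc_5_2 lc_a_rc_3_2 lc_a_rc_2_2 lc_a_rc_2_2 lc_a_rc_2_2 lc_a_rc_2_2 lc_a_rc_56_7 lc_a_rc_6_2 lc_a_rc_4_2 lc_a_rc_5_2 lc_a_rc_3_2 lc_a_rc_5_2 lc_a_rc_6_2 lc_a_rc_6_2 lc_a_rc_5_2 lc_a_rc_3_2 lc_a_rc_2_2 lc_a_rc_1_2 lc_a_rc_1_2 lc_a_rc_3_2 lc_a_rc_2_2 lc_a_rc_2_2 lc_a_rc_6_2 lc_a_rc_4_2 lc_a_rc_3_2 lc_a_rc_2_2 lc_a_rc_2_2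 lc_a_rc_6_2 lc_a_rc_4_2 lc_a_rc_3_2 lc_a_rc_8_2 lc_a_rc_4_2 lc_a_rc_3_2 lc_a_rc_4_2 lc_a_rc_3_2) (@D3.rec (fun _ => (Cert rels S Gen.a)) lc_a_rc_4_2 lc_a_rc_4_2 lc_a_rc_6_2 lc_a_rc_6_2 lc_a_rc_3_2 lc_a_rc_2_2 lc_a_rc_6_2 lc_a_rc_5_2 lc_a_rc_3_2 lc_a_rc_2_2 lc_a_rc_3_2 lc_a_rc_5_2 lc_a_rc_2_2 lc_a_rc_5_2 lc_a_Cert_tree lc_a_rc_2_2 lc_a_rc_6_2 lc_a_Cert_tree lc_a_rc_2_2 lc_a_rc_6_2 lc_a_rc_0_0 lc_a_rc_4_2 lc_a_rc_3_2 lc_a_rc_2_2 lc_a_rc_7_2 lc_a_rc_4_2 lc_a_rc_3_2 lc_a_rc_6_2 lc_a_rc_3_2 lc_a_rc_3_2 lc_a_rc_2_2 lc_a_rc_8_2 lc_a_rc_3_2 lc_a_rc_2_2 lc_a_rc_4_2 lc_a_rc_2_2 lc_a_rc_4_2 lc_a_Cert_tree lc_a_rc_2_2 lc_a_rc_6_2 lc_a_rc_3_2 lc_a_rc_2_2 lc_a_rc_6_2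 lc_a_rc_0_0 lc_a_rc_4_2 lc_a_rc_3_2 lc_a_rc_2_2 lc_a_rc_7_2 lc_a_rc_3_2 lc_a_rc_2_2 lc_a_rc_6_2) (@D3.rec (fun _ => (Cert rels S Gen.a)) lc_a_rc_0_0 lc_a_rc_4_2 lc_a_rc_2_2 lc_a_rc_2_2 lc_a_rc_7_2 lc_a_rc_3_0 lc_a_rc_2_2 lc_a_rc_2_2 lc_a_rc_7_2 lc_a_rc_4_2 lc_a_rc_3_2 lc_a_rc_6_2 lc_a_rc_2_2 lc_a_rc_2_2 lc_a_rc_2_2 lc_a_rc_8_2 lc_a_rc_56_56 lc_a_rc_56_28 lc_a_rc_2_2 lc_a_rc_2_2 lc_a_rc_2_2 lc_a_rc_8_2 lc_a_rc_3_2 lc_a_rc_6_2 lc_a_rc_2_2 lc_a_rc_3_2 lc_a_rc_5_2 lc_a_rc_7_2 lc_a_rc_2_2 lc_a_rc_2_2 lc_a_rc_2_2 lc_a_rc_2_2 lc_a_rc_2_2 lc_a_Cert_tree lc_a_rc_5_2 lc_a_rc_6_2 lc_a_rc_0_0 lc_a_rc_4_2 lc_a_rc_4_2 lc_a_rc_6_2 lc_a_rc_7_2 lc_a_rc_4_2 lc_a_rc_3_2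 lc_a_rc_6_2 lc_a_rc_6_2 lc_a_rc_5_2 lc_a_rc_7_2 lc_a_rc_8_2 lc_a_rc_0_0 lc_a_rc_4_2 lc_a_rc_3_2) (@D3.rec (fun _ => (Cert rels S Gen.a)) lc_a_rc_6_2 lc_a_rc_7_2 lc_a_rc_4_2 lc_a_rc_3_2 lc_a_rc_6_2 lc_a_rc_6_2 lc_a_rc_5_2 lc_a_rc_7_2 lc_a_rc_8_2 lc_a_rc_3_2 lc_a_rc_6_2 lc_a_rc_2_2 lc_a_rc_3_2 lc_a_rc_5_2 lc_a_rc_7_2 lc_a_rc_6_2 lc_a_rc_7_2 lc_a_rc_6_2 lc_a_rc_9_2 lc_a_rc_8_2 lc_a_rc_4_2 lc_a_rc_3_2 lc_a_rc_6_2 lc_a_rc_3_2 lc_a_rc_3_2 lc_a_rc_7_2 lc_a_rc_8_2 lc_a_rc_3_2 lc_a_rc_6_2 lc_a_rc_2_2 lc_a_rc_3_2 lc_a_rc_5_2 lc_a_rc_7_2 lc_a_rc_6_2 lc_a_rc_7_2 lc_a_rc_6_2 lc_a_rc_9_2 lc_a_rc_8_2 lc_a_rc_2_2 lc_a_rc_3_2 lc_a_rc_5_2 lc_a_rc_7_2 lc_a_rc_2_2 lc_a_rc_2_2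 lc_a_rc_4_2 lc_a_rc_3_2 lc_a_rc_5_2 lc_a_rc_9_2 lc_a_rc_8_2 lc_a_rc_7_2 lc_a_rc_6_2) (@D3.rec (fun _ => (Cert rels S Gen.a)) lc_a_rc_8_2 lc_a_rc_7_2 lc_a_rc_9_2 lc_a_rc_0_0 lc_a_rc_2_2 lc_a_rc_2_2 lc_a_rc_3_2 lc_a_rc_6_2 lc_a_rc_3_2 lc_a_rc_7_2 lc_a_rc_4_2 lc_a_rc_3_2 lc_a_rc_3_2 lc_a_rc_8_2 lc_a_rc_3_2 lc_a_rc_7_2 lc_a_rc_5_2 lc_a_rc_4_2 lc_a_rc_3_2 lc_a_rc_5_2 lc_a_rc_8_2 lc_a_rc_7_2 lc_a_rc_6_2 lc_a_rc_8_2 lc_a_rc_7_2 lc_a_rc_9_2 lc_a_rc_2_2 lc_a_rc_4_2 lc_a_rc_3_2 lc_a_rc_5_2 lc_a_rc_8_2 lc_a_rc_2_2 lc_a_rc_2_2 lc_a_rc_4_0 lc_a_rc_4_2 lc_a_rc_5_2 lc_a_rc_3_2 lc_a_rc_5_2 lc_a_rc_4_0 lc_a_rc_7_2 lc_a_rc_8_2 lc_a_rc_7_2 lc_a_rc_3_2 lc_a_rc_9_2 lc_a_rc_8_2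 lc_a_rc_9_2 lc_a_rc_6_2 lc_a_rc_5_2 lc_a_rc_5_2 lc_a_rc_2_2 lc_a_rc_4_2) (@D3.rec (fun _ => (Cert rels S Gen.a)) lc_a_Cert_tree lc_a_rc_2_2 lc_a_rc_6_2 lc_a_rc_3_2 lc_a_rc_2_2 lc_a_rc_5_2 lc_a_rc_2_2 lc_a_rc_2_2 lc_a_rc_4_2 lc_a_rc_0_0 lc_a_rc_4_2 lc_a_rc_3_2 lc_a_rc_2_2 lc_a_rc_4_2 lc_a_rc_2_2 lc_a_rc_3_2 lc_a_rc_2_2 lc_a_rc_5_2 lc_a_rc_4_2 lc_a_rc_3_2 lc_a_rc_2_2 lc_a_rc_4_2 lc_a_rc_4_2 lc_a_rc_3_2 lc_a_rc_6_2 lc_a_rc_3_2 lc_a_rc_5_2 lc_a_rc_2_2 lc_a_rc_4_2 lc_a_rc_2_2 lc_a_rc_5_2 lc_a_rc_0_0 lc_a_rc_2_2 lc_a_rc_2_2 lc_a_rc_3_2 lc_a_rc_4_2 lc_a_rc_3_2 lc_a_rc_6_2 lc_a_rc_2_2 lc_a_rc_2_2 lc_a_rc_2_2 lc_a_rc_3_2 lc_a_rc_3_2 lc_a_rc_2_2 lc_a_rc_5_2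 lc_a_rc_7_2 lc_a_rc_2_2 lc_a_rc_2_2 lc_a_rc_2_2 lc_a_rc_2_2 lc_a_rc_3_2) (@D3.rec (fun _ => (Cert rels S Gen.a)) lc_a_rc_3_2 lc_a_rc_6_2 lc_a_rc_2_2 lc_a_rc_3_2 lc_a_rc_5_2 lc_a_rc_7_2 lc_a_rc_2_2 lc_a_rc_2_2 lc_a_rc_2_2 lc_a_rc_2_2 lc_a_rc_2_2 lc_a_rc_3_2 lc_a_rc_3_2 lc_a_rc_2_2 lc_a_rc_5_2 lc_a_rc_3_2 lc_a_rc_4_0 lc_a_rc_6_0 lc_a_rc_0_0 lc_a_rc_2_2 lc_a_rc_2_2 lc_a_rc_2_2 lc_a_rc_2_2 lc_a_rc_2_2 lc_a_rc_2_2 lc_a_rc_3_2 lc_a_rc_5_2 lc_a_rc_7_2 lc_a_rc_2_2 lc_a_rc_2_2 lc_a_rc_4_2 lc_a_rc_3_2 lc_a_rc_5_2 lc_a_rc_9_2 lc_a_rc_8_2 lc_a_rc_2_2 lc_a_rc_2_2 lc_a_rc_2_2 lc_a_rc_2_2 lc_a_rc_2_2 lc_a_rc_4_2 lc_a_rc_3_2 lc_a_rc_6_2 lc_a_rc_3_2 lc_a_rc_5_2 lc_a_rc_2_2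 lc_a_rc_1_2 lc_a_rc_3_2 lc_a_rc_6_2 lc_a_rc_2_2 lc_a_rc_3_2) (@D3.rec (fun _ => (Cert rels S Gen.a)) lc_a_rc_5_2 lc_a_rc_7_2 lc_a_rc_4_2 lc_a_rc_3_2 lc_a_rc_5_2 lc_a_rc_9_2 lc_a_rc_2_2 lc_a_rc_3_2 lc_a_rc_6_2 lc_a_rc_2_2 lc_a_rc_3_2 lc_a_rc_5_2 lc_a_rc_7_2 lc_a_rc_4_2 lc_a_rc_3_2 lc_a_rc_5_2 lc_a_rc_9_2 lc_a_rc_2_2 lc_a_rc_2_2 lc_a_rc_3_2 lc_a_rc_5_2 lc_a_rc_7_2 lc_a_rc_2_2 lc_a_rc_2_2 lc_a_rc_4_2 lc_a_rc_3_2 lc_a_rc_5_2 lc_a_rc_9_2 lc_a_rc_8_2 lc_a_rc_4_2 lc_a_rc_5_2 lc_a_rc_3_2 lc_a_rc_5_2 lc_a_rc_9_2 lc_a_rc_2_2 lc_a_rc_3_2 lc_a_rc_5_2 lc_a_rc_7_2 lc_a_rc_2_2 lc_a_rc_2_2 lc_a_rc_4_2 lc_a_rc_3_2 lc_a_rc_5_2 lc_a_rc_9_2 lc_a_rc_8_2 lc_a_rc_4_2 lc_a_rc_5_2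 lc_a_rc_3_2 lc_a_rc_5_2 lc_a_rc_9_2 lc_a_rc_1_2) (@D3.rec (fun _ => (Cert rels S Gen.a)) lc_a_rc_2_2 lc_a_rc_2_2 lc_a_rc_4_2 lc_a_rc_3_2 lc_a_rc_5_2 lc_a_rc_9_2 lc_a_rc_8_2 lc_a_rc_2_2 lc_a_rc_2_2 lc_a_rc_2_2 lc_a_rc_3_2 lc_a_rc_2_2 lc_a_rc_4_2 lc_a_rc_5_2 lc_a_rc_3_2 lc_a_rc_5_2 lc_a_rc_9_2 lc_a_rc_6_2 lc_a_rc_4_2 lc_a_rc_5_2 lc_a_rc_3_2 lc_a_rc_9_2 lc_a_rc_5_2 lc_a_rc_9_2 lc_a_rc_4_2 lc_a_rc_3_2 lc_a_rc_8_2 lc_a_rc_5_2 lc_a_rc_5_2 lc_a_rc_4_2 lc_a_rc_5_2 lc_a_rc_3_2 lc_a_rc_5_2 lc_a_rc_6_2 lc_a_rc_4_2 lc_a_rc_5_2 lc_a_rc_3_2 lc_a_rc_9_2 lc_a_rc_5_2 lc_a_rc_9_2 lc_a_rc_2_2 lc_a_rc_2_2 lc_a_rc_4_2 lc_a_rc_5_2 lc_a_rc_3_2 lc_a_rc_5_2 lc_a_rc_3_2 lc_a_rc_2_2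 lc_a_rc_3_0 lc_a_rc_2_2 lc_a_rc_4_0) (@D3.rec (fun _ => (Cert rels S Gen.a)) lc_a_rc_6_2 lc_a_rc_4_2 lc_a_rc_5_2 lc_a_rc_3_2 lc_a_rc_56_14 lc_a_rc_5_2 lc_a_rc_4_0 lc_a_rc_6_2 lc_a_rc_6_2 lc_a_rc_5_2 lc_a_rc_3_2 lc_a_rc_9_2 lc_a_rc_2_2 lc_a_rc_3_2 lc_a_rc_9_2 lc_a_rc_2_2 lc_a_rc_3_2 lc_a_rc_5_2 lc_a_rc_7_2 lc_a_rc_2_2 lc_a_rc_2_2 lc_a_rc_4_2 lc_a_rc_3_2 lc_a_rc_5_2 lc_a_rc_9_2 lc_a_rc_8_2 lc_a_rc_4_2 lc_a_rc_5_2 lc_a_rc_3_2 lc_a_rc_5_2 lc_a_rc_9_2 lc_a_rc_2_2 lc_a_rc_2_2 lc_a_rc_4_2 lc_a_rc_3_2 lc_a_rc_5_2 lc_a_rc_9_2 lc_a_rc_8_2 lc_a_rc_2_2 lc_a_rc_2_2 lc_a_rc_2_2 lc_a_rc_7_2 lc_a_rc_2_2 lc_a_rc_4_2 lc_a_rc_5_2 lc_a_rc_3_2 lc_a_rc_5_2 lc_a_rc_9_2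 lc_a_rc_6_2 lc_a_rc_4_2 lc_a_rc_5_2) (@D3.rec (fun _ => (Cert rels S Gen.a)) lc_a_rc_3_2 lc_a_rc_9_2 lc_a_rc_5_2 lc_a_rc_9_2 lc_a_rc_2_2 lc_a_rc_2_2 lc_a_rc_2_2 lc_a_rc_2_2 lc_a_rc_4_2 lc_a_rc_5_2 lc_a_rc_3_2 lc_a_rc_5_2 lc_a_rc_9_2 lc_a_rc_2_2 lc_a_rc_2_2 lc_a_rc_2_2 lc_a_rc_2_2 lc_a_rc_5_2 lc_a_rc_2_2 lc_a_rc_9_0 lc_a_rc_9_2 lc_a_rc_6_2 lc_a_rc_4_2 lc_a_rc_5_2 lc_a_rc_3_2 lc_a_rc_9_2 lc_a_rc_5_2 lc_a_rc_9_2 lc_a_rc_6_2 lc_a_rc_6_2 lc_a_rc_5_2 lc_a_rc_3_2 lc_a_rc_9_2 lc_a_rc_2_2 lc_a_rc_3_2 lc_a_rc_9_2 lc_a_rc_6_2 lc_a_rc_4_2 lc_a_rc_5_2 lc_a_rc_3_2 lc_a_rc_9_2 lc_a_rc_5_2 lc_a_rc_9_2 lc_a_rc_6_2 lc_a_rc_6_2 lc_a_rc_5_2 lc_a_rc_3_2 lc_a_rc_9_2 lc_a_rc_2_2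 lc_a_rc_3_2 lc_a_rc_9_2) (@D3.rec (fun _ => (Cert rels S Gen.a)) lc_a_rc_7_2 lc_a_rc_6_2 lc_a_rc_3_2 lc_a_rc_9_2 lc_a_rc_3_2 lc_a_rc_9_2 lc_a_rc_2_2 lc_a_rc_3_2 lc_a_Cert_tree lc_a_rc_2_2 lc_a_rc_5_2 lc_a_Cert_tree lc_a_rc_0_0 lc_a_rc_9_2 lc_a_rc_3_2 lc_a_rc_5_2 lc_a_rc_3_2 lc_a_rc_2_2 lc_a_rc_6_2 lc_a_rc_3_2 lc_a_rc_5_2 lc_a_rc_7_2 lc_a_rc_2_2 lc_a_rc_6_2 lc_a_rc_0_0 lc_a_rc_4_2 lc_a_rc_3_2 lc_a_rc_2_2 lc_a_rc_7_2 lc_a_rc_3_2 lc_a_rc_6_2 lc_a_rc_4_2 lc_a_rc_3_2 lc_a_rc_2_2 lc_a_rc_7_2 lc_a_rc_4_2 lc_a_rc_3_2 lc_a_rc_6_2 lc_a_rc_3_2 lc_a_rc_5_2 lc_a_rc_2_2 lc_a_rc_8_2 lc_a_rc_3_2 lc_a_rc_7_2 lc_a_rc_3_2 lc_a_rc_4_2 lc_a_rc_3_2 lc_a_rc_2_2 lc_a_rc_8_2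 lc_a_rc_3_2 lc_a_rc_6_2) (@D3.rec (fun _ => (Cert rels S Gen.a)) lc_a_rc_2_2 lc_a_rc_3_2 lc_a_rc_5_2 lc_a_rc_7_2 lc_a_rc_4_2 lc_a_rc_3_2 lc_a_rc_5_2 lc_a_rc_2_2 lc_a_rc_7_2 lc_a_rc_2_0 lc_a_rc_6_2 lc_a_rc_3_2 lc_a_rc_2_2 lc_a_rc_8_2 lc_a_rc_3_2 lc_a_rc_6_2 lc_a_rc_2_2 lc_a_rc_3_2 lc_a_rc_5_2 lc_a_rc_7_2 lc_a_rc_4_2 lc_a_rc_3_2 lc_a_rc_5_2 lc_a_rc_2_2 lc_a_rc_2_2 lc_a_rc_8_2 lc_a_rc_7_2 lc_a_rc_6_2 lc_a_rc_6_2 lc_a_rc_4_2 lc_a_rc_3_2 lc_a_rc_2_2 lc_a_rc_2_2 lc_a_rc_3_2 lc_a_rc_5_2 lc_a_rc_7_2 lc_a_rc_2_2 lc_a_rc_2_2 lc_a_rc_4_2 lc_a_rc_3_2 lc_a_rc_5_2 lc_a_rc_3_0 lc_a_rc_8_2 lc_a_rc_4_2 lc_a_rc_5_2 lc_a_rc_3_2 lc_a_rc_5_2 lc_a_rc_2_2 lc_a_rc_5_2 lc_a_rc_4_2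 lc_a_rc_2_0) (@D3.rec (fun _ => (Cert rels S Gen.a)) lc_a_rc_3_0 lc_a_rc_4_2 lc_a_rc_3_2 lc_a_rc_1_2 lc_a_rc_2_2 lc_a_rc_2_2 lc_a_rc_4_2 lc_a_rc_3_2 lc_a_rc_5_2 lc_a_rc_8_2 lc_a_rc_2_2 lc_a_rc_2_2 lc_a_rc_2_2 lc_a_rc_6_0 lc_a_rc_4_2 lc_a_rc_5_2 lc_a_rc_3_2 lc_a_rc_5_2 lc_a_rc_2_0 lc_a_rc_6_2 lc_a_rc_4_2 lc_a_rc_5_2 lc_a_rc_3_2 lc_a_rc_2_2 lc_a_rc_5_2 lc_a_rc_2_2 lc_a_rc_3_2 lc_a_rc_6_2 lc_a_rc_2_2 lc_a_rc_3_2 lc_a_rc_3_2 lc_a_rc_7_2 lc_a_rc_4_2 lc_a_rc_3_2 lc_a_rc_5_2 lc_a_rc_1_2 lc_a_rc_2_2 lc_a_rc_2_2 lc_a_rc_3_2 lc_a_rc_7_2 lc_a_rc_2_2 lc_a_rc_8_2 lc_a_rc_4_2 lc_a_rc_3_2 lc_a_rc_6_2 lc_a_rc_8_2 lc_a_rc_1_2 lc_a_rc_2_2 lc_a_rc_3_2 lc_a_rc_7_2 lc_a_rc_2_2)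 (@D3.rec (fun _ => (Cert rels S Gen.a)) lc_a_rc_4_2 lc_a_rc_4_2 lc_a_rc_3_2 lc_a_rc_6_2 lc_a_rc_8_2 lc_a_rc_4_2 lc_a_rc_5_2 lc_a_rc_3_2 lc_a_rc_5_2 lc_a_rc_1_2 lc_a_rc_2_2 lc_a_rc_4_2 lc_a_rc_3_2 lc_a_rc_8_2 lc_a_rc_2_2 lc_a_rc_2_2 lc_a_rc_6_2 lc_a_rc_3_2 lc_a_rc_4_2 lc_a_rc_4_2 lc_a_rc_3_2 lc_a_rc_6_2 lc_a_rc_4_2 lc_a_rc_1_2 lc_a_rc_2_2 lc_a_rc_4_2 lc_a_rc_3_2 lc_a_rc_8_2 lc_a_rc_2_2 lc_a_rc_2_2 lc_a_rc_1_2 lc_a_rc_4_2 lc_a_rc_4_2 lc_a_rc_3_2 lc_a_rc_3_2 lc_a_rc_3_2 lc_a_rc_3_2 lc_a_rc_5_2 lc_a_rc_5_2 lc_a_rc_56_14 lc_a_rc_5_2 lc_a_rc_1_2 lc_a_rc_2_2 lc_a_rc_2_2 lc_a_rc_4_2 lc_a_rc_3_2 lc_a_rc_3_2 lc_a_rc_2_2 lc_a_rc_4_2 lc_a_rc_2_2 lc_a_rc_7_2)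 (@D3.rec (fun _ => (Cert rels S Gen.a)) lc_a_rc_3_2 lc_a_rc_4_2 lc_a_rc_6_2 lc_a_rc_4_2 lc_a_rc_4_2 lc_a_rc_2_0 lc_a_rc_1_2 lc_a_rc_1_2 lc_a_rc_2_2 lc_a_rc_2_2 lc_a_rc_4_2 lc_a_rc_5_2 lc_a_rc_3_2 lc_a_rc_5_2 lc_a_rc_3_2 lc_a_rc_2_2 lc_a_rc_4_2 lc_a_rc_2_2 lc_a_rc_3_2 lc_a_rc_6_2 lc_a_rc_4_2 lc_a_rc_5_2 lc_a_rc_3_2 lc_a_rc_5_2 lc_a_rc_6_2 lc_a_rc_6_2 lc_a_rc_5_2 lc_a_rc_3_2 lc_a_rc_2_2 lc_a_rc_1_2 lc_a_rc_1_2 lc_a_rc_3_2 lc_a_rc_2_2 lc_a_rc_2_2 lc_a_rc_6_2 lc_a_rc_4_2 lc_a_rc_3_2 lc_a_rc_5_2 lc_a_rc_2_2 lc_a_rc_2_2 lc_a_rc_6_2 lc_a_rc_2_2 lc_a_rc_4_2 lc_a_rc_3_2 lc_a_rc_8_2 lc_a_rc_2_2 lc_a_rc_2_2 lc_a_rc_2_2 lc_a_rc_8_2 lc_a_rc_4_2 lc_a_rc_4_2) (@D3.rec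 (fun _ => (Cert rels S Gen.a)) lc_a_rc_3_2 lc_a_rc_7_2 lc_a_rc_4_2 lc_a_rc_1_2 lc_a_rc_2_2 lc_a_rc_2_2 lc_a_rc_4_2 lc_a_rc_3_2 lc_a_rc_3_2 lc_a_rc_2_2 lc_a_rc_4_2 lc_a_rc_2_2 lc_a_rc_2_2 lc_a_rc_2_0 lc_a_rc_2_0 lc_a_rc_4_2 lc_a_rc_4_2 lc_a_rc_3_2 lc_a_rc_6_2 lc_a_rc_4_2 lc_a_rc_3_2 lc_a_rc_1_2 lc_a_rc_2_2 lc_a_rc_0_1 lc_a_rc_7_2 lc_a_rc_2_0 lc_a_rc_56_28 lc_a_rc_2_2 lc_a_rc_2_2 lc_a_rc_4_2 lc_a_rc_3_2 lc_a_rc_2_2 lc_a_rc_4_2 lc_a_rc_2_2 lc_a_rc_3_2 lc_a_rc_3_0 lc_a_rc_6_2 lc_a_rc_4_2 lc_a_rc_3_2 lc_a_rc_4_2 lc_a_rc_3_2 lc_a_rc_3_2 lc_a_rc_5_2 lc_a_rc_3_2 lc_a_rc_4_2 lc_a_rc_3_0 lc_a_rc_2_2 lc_a_rc_1_2 lc_a_rc_2_2 lc_a_rc_5_2 lc_a_rc_3_0)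
def ce_a_3 : D2 → D3 → (Cert rels S Gen.a) := @D2.rec (fun _ => D3 → (Cert rels S Gen.a)) (@D3.rec (fun _ => (Cert rels S Gen.a)) lc_a_rc_2_2 lc_a_rc_1_4 lc_a_rc_7_2 lc_a_rc_4_2 lc_a_rc_5_2 lc_a_rc_3_2 lc_a_rc_3_2 lc_a_rc_3_2 lc_a_rc_6_2 lc_a_rc_3_2 lc_a_rc_2_2 lc_a_rc_7_2 lc_a_rc_56_35 lc_a_rc_3_2 lc_a_rc_7_2 lc_a_rc_3_2 lc_a_rc_2_2 lc_a_rc_8_2 lc_a_rc_5_2 lc_a_rc_3_2 lc_a_rc_3_2 lc_a_rc_8_2 lc_a_rc_4_2 lc_a_rc_3_2 lc_a_rc_2_2 lc_a_rc_2_2 lc_a_rc_1_4 lc_a_rc_5_2 lc_a_rc_8_2 lc_a_rc_4_2 lc_a_rc_3_2 lc_a_rc_2_2 lc_a_rc_1_4 lc_a_rc_4_2 lc_a_rc_3_2 lc_a_rc_4_2 lc_a_rc_2_2 lc_a_rc_4_2 lc_a_rc_1_4 lc_a_rc_6_2 lc_a_rc_4_2 lc_a_rc_3_2 lc_a_rc_2_2 lc_a_rc_2_2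 lc_a_rc_1_4 lc_a_rc_1_4 lc_a_rc_1_4 lc_a_rc_3_2 lc_a_rc_7_2 lc_a_rc_2_2 lc_a_rc_56_21) (@D3.rec (fun _ => (Cert rels S Gen.a)) lc_a_rc_56_21 lc_a_rc_4_2 lc_a_rc_3_2 lc_a_rc_8_2 lc_a_rc_4_2 lc_a_rc_3_2 lc_a_rc_8_2 lc_a_rc_5_2 lc_a_rc_5_2 lc_a_rc_4_2 lc_a_rc_3_2 lc_a_rc_4_2 lc_a_rc_3_2 lc_a_rc_0_1 lc_a_rc_56_7 lc_a_rc_5_2 lc_a_rc_6_2 lc_a_rc_4_2 lc_a_rc_1_2 lc_a_rc_1_2 lc_a_rc_3_2 lc_a_rc_2_2 lc_a_rc_2_2 lc_a_rc_2_2 lc_a_rc_2_2 lc_a_rc_6_2 lc_a_rc_4_2 lc_a_rc_5_2 lc_a_rc_3_2 lc_a_rc_5_2 lc_a_rc_3_2 lc_a_rc_2_2 lc_a_rc_2_2 lc_a_rc_2_2 lc_a_rc_2_2 lc_a_rc_7_2 lc_a_rc_5_2 lc_a_rc_1_4 lc_a_rc_7_2 lc_a_rc_2_2 lc_a_rc_1_2 lc_a_rc_1_2 lc_a_rc_1_2 lc_a_rc_3_2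 lc_a_rc_2_2 lc_a_rc_2_2 lc_a_rc_6_2 lc_a_rc_4_2 lc_a_rc_3_2 lc_a_rc_4_2 lc_a_rc_6_2) (@D3.rec (fun _ => (Cert rels S Gen.a)) lc_a_rc_2_2 lc_a_rc_4_2 lc_a_rc_6_2 lc_a_rc_3_2 lc_a_rc_2_2 lc_a_rc_3_2 lc_a_Cert_tree lc_a_rc_2_2 lc_a_rc_3_2 lc_a_rc_2_2 lc_a_rc_5_2 lc_a_Cert_tree lc_a_rc_2_2 lc_a_rc_6_2 lc_a_rc_0_0 lc_a_rc_4_2 lc_a_rc_3_2 lc_a_rc_2_2 lc_a_rc_7_2 lc_a_rc_0_0 lc_a_rc_4_2 lc_a_rc_3_2 lc_a_rc_2_2 lc_a_rc_7_2 lc_a_rc_4_2 lc_a_rc_3_2 lc_a_rc_6_2 lc_a_rc_3_2 lc_a_rc_3_2 lc_a_rc_2_2 lc_a_rc_8_2 lc_a_rc_3_2 lc_a_rc_6_2 lc_a_rc_2_2 lc_a_rc_3_2 lc_a_rc_5_2 lc_a_rc_7_2 lc_a_rc_4_2 lc_a_rc_3_2 lc_a_rc_3_2 lc_a_rc_3_2 lc_a_rc_2_2 lc_a_rc_2_2 lc_a_rc_4_2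 lc_a_Cert_tree lc_a_rc_2_2 lc_a_rc_6_2 lc_a_rc_3_2 lc_a_rc_2_2 lc_a_rc_6_2 lc_a_rc_0_0) (@D3.rec (fun _ => (Cert rels S Gen.a)) lc_a_rc_4_2 lc_a_rc_3_2 lc_a_rc_2_2 lc_a_rc_7_2 lc_a_rc_4_2 lc_a_rc_3_2 lc_a_rc_2_2 lc_a_rc_7_2 lc_a_rc_4_2 lc_a_rc_3_2 lc_a_rc_6_2 lc_a_rc_3_2 lc_a_rc_5_2 lc_a_rc_2_2 lc_a_rc_8_2 lc_a_rc_3_0 lc_a_rc_2_2 lc_a_rc_2_2 lc_a_rc_7_2 lc_a_rc_4_2 lc_a_rc_3_2 lc_a_rc_6_2 lc_a_rc_2_2 lc_a_rc_2_2 lc_a_rc_2_2 lc_a_rc_8_2 lc_a_rc_2_0 lc_a_rc_3_0 lc_a_rc_2_2 lc_a_rc_2_2 lc_a_rc_2_2 lc_a_rc_8_2 lc_a_rc_3_2 lc_a_rc_6_2 lc_a_rc_2_2 lc_a_rc_3_2 lc_a_rc_5_2 lc_a_rc_7_2 lc_a_rc_2_2 lc_a_rc_2_2 lc_a_rc_2_2 lc_a_rc_2_2 lc_a_rc_2_2 lc_a_rc_4_2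 lc_a_rc_0_0 lc_a_rc_9_0 lc_a_rc_3_0 lc_a_rc_2_2 lc_a_rc_2_2 lc_a_rc_2_2 lc_a_rc_2_2) (@D3.rec (fun _ => (Cert rels S Gen.a)) lc_a_rc_2_2 lc_a_rc_2_2 lc_a_rc_3_2 lc_a_rc_5_2 lc_a_rc_7_2 lc_a_rc_2_2 lc_a_rc_2_2 lc_a_rc_4_2 lc_a_rc_3_2 lc_a_rc_5_2 lc_a_rc_9_2 lc_a_rc_8_2 lc_a_rc_2_2 lc_a_rc_2_2 lc_a_rc_2_2 lc_a_rc_2_2 lc_a_rc_2_2 lc_a_rc_0_0 lc_a_rc_4_2 lc_a_rc_3_2 lc_a_rc_6_2 lc_a_rc_7_2 lc_a_rc_4_2 lc_a_rc_3_2 lc_a_rc_6_2 lc_a_rc_6_2 lc_a_rc_5_2 lc_a_rc_7_2 lc_a_rc_8_2 lc_a_rc_3_2 lc_a_rc_6_2 lc_a_rc_2_2 lc_a_rc_3_2 lc_a_rc_5_2 lc_a_rc_7_2 lc_a_rc_6_2 lc_a_rc_7_2 lc_a_rc_6_2 lc_a_rc_9_2 lc_a_rc_8_2 lc_a_rc_4_2 lc_a_rc_3_2 lc_a_rc_6_2 lc_a_rc_3_2 lc_a_rc_3_2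 lc_a_rc_7_2 lc_a_rc_8_2 lc_a_rc_3_2 lc_a_rc_6_2 lc_a_rc_2_2 lc_a_rc_3_2) (@D3.rec (fun _ => (Cert rels S Gen.a)) lc_a_rc_5_2 lc_a_rc_7_2 lc_a_rc_6_2 lc_a_rc_7_2 lc_a_rc_6_2 lc_a_rc_9_2 lc_a_rc_8_2 lc_a_rc_2_2 lc_a_rc_3_2 lc_a_rc_5_2 lc_a_rc_7_2 lc_a_rc_2_2 lc_a_rc_2_2 lc_a_rc_4_2 lc_a_rc_3_2 lc_a_rc_5_2 lc_a_rc_9_2 lc_a_rc_8_2 lc_a_rc_7_2 lc_a_rc_6_2 lc_a_rc_8_2 lc_a_rc_7_2 lc_a_rc_9_2 lc_a_rc_3_2 lc_a_rc_6_2 lc_a_rc_2_2 lc_a_rc_3_2 lc_a_rc_5_2 lc_a_rc_7_2 lc_a_rc_4_2 lc_a_rc_3_2 lc_a_rc_3_2 lc_a_rc_3_2 lc_a_rc_8_2 lc_a_rc_2_2 lc_a_rc_3_2 lc_a_rc_5_2 lc_a_rc_7_2 lc_a_rc_2_2 lc_a_rc_2_2 lc_a_rc_4_2 lc_a_rc_3_2 lc_a_rc_5_2 lc_a_rc_9_2 lc_a_rc_8_2 lc_a_rc_7_2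 lc_a_rc_6_2 lc_a_rc_8_2 lc_a_rc_7_2 lc_a_rc_9_2 lc_a_rc_1_2) (@D3.rec (fun _ => (Cert rels S Gen.a)) lc_a_rc_2_2 lc_a_rc_2_2 lc_a_rc_4_2 lc_a_rc_3_2 lc_a_rc_5_2 lc_a_rc_9_2 lc_a_rc_8_2 lc_a_rc_2_2 lc_a_rc_2_2 lc_a_rc_2_2 lc_a_rc_3_2 lc_a_rc_2_2 lc_a_rc_4_2 lc_a_rc_5_2 lc_a_rc_3_2 lc_a_rc_5_2 lc_a_rc_9_2 lc_a_rc_7_2 lc_a_rc_8_2 lc_a_rc_7_2 lc_a_rc_3_2 lc_a_rc_9_2 lc_a_rc_8_2 lc_a_rc_9_2 lc_a_rc_7_2 lc_a_rc_2_2 lc_a_rc_2_2 lc_a_rc_2_2 lc_a_rc_7_2 lc_a_rc_4_2 lc_a_rc_3_2 lc_a_rc_8_2 lc_a_rc_4_2 lc_a_rc_4_2 lc_a_rc_3_2 lc_a_rc_3_2 lc_a_rc_4_2 lc_a_rc_3_2 lc_a_rc_8_2 lc_a_rc_5_2 lc_a_rc_5_2 lc_a_rc_4_2 lc_a_rc_5_2 lc_a_rc_3_2 lc_a_rc_5_2 lc_a_rc_7_2 lc_a_rc_8_2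 lc_a_rc_7_2 lc_a_rc_3_2 lc_a_rc_9_2 lc_a_rc_8_2) (@D3.rec (fun _ => (Cert rels S Gen.a)) lc_a_rc_9_2 lc_a_rc_2_2 lc_a_rc_2_2 lc_a_rc_4_2 lc_a_rc_5_2 lc_a_rc_3_2 lc_a_rc_5_2 lc_a_rc_3_2 lc_a_rc_2_2 lc_a_rc_0_0 lc_a_rc_2_2 lc_a_rc_4_0 lc_a_rc_6_2 lc_a_rc_4_2 lc_a_rc_5_2 lc_a_rc_3_2 lc_a_rc_3_0 lc_a_rc_5_2 lc_a_rc_4_0 lc_a_rc_8_2 lc_a_rc_7_2 lc_a_rc_8_2 lc_a_rc_3_2 lc_a_rc_9_2 lc_a_rc_2_2 lc_a_rc_3_2 lc_a_rc_9_2 lc_a_rc_6_2 lc_a_rc_3_2 lc_a_rc_2_2 lc_a_rc_5_2 lc_a_rc_2_2 lc_a_rc_2_2 lc_a_rc_6_2 lc_a_rc_0_0 lc_a_rc_4_2 lc_a_rc_3_2 lc_a_rc_2_2 lc_a_rc_6_2 lc_a_rc_2_2 lc_a_rc_3_2 lc_a_rc_2_2 lc_a_rc_5_2 lc_a_rc_4_2 lc_a_rc_3_2 lc_a_rc_2_2 lc_a_rc_4_2 lc_a_rc_4_2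 lc_a_rc_3_2 lc_a_rc_6_2 lc_a_rc_3_2) (@D3.rec (fun _ => (Cert rels S Gen.a)) lc_a_rc_5_2 lc_a_rc_2_2 lc_a_rc_4_2 lc_a_rc_2_2 lc_a_rc_3_2 lc_a_rc_3_2 lc_a_rc_2_2 lc_a_rc_5_2 lc_a_rc_3_2 lc_a_rc_4_2 lc_a_rc_3_2 lc_a_rc_5_2 lc_a_rc_2_2 lc_a_rc_4_2 lc_a_rc_3_2 lc_a_rc_6_2 lc_a_rc_56_42 lc_a_rc_3_2 lc_a_rc_0_1 lc_a_rc_7_2 lc_a_rc_3_2 lc_a_rc_3_2 lc_a_rc_5_2 lc_a_rc_9_2 lc_a_rc_2_2 lc_a_rc_3_2 lc_a_rc_2_2 lc_a_rc_5_2 lc_a_rc_8_2 lc_a_rc_2_2 lc_a_rc_2_2 lc_a_rc_2_2 lc_a_rc_2_2 lc_a_rc_3_2 lc_a_rc_3_2 lc_a_rc_6_2 lc_a_rc_2_2 lc_a_rc_3_2 lc_a_rc_5_2 lc_a_rc_7_2 lc_a_rc_2_2 lc_a_rc_2_2 lc_a_rc_2_2 lc_a_rc_2_2 lc_a_rc_2_2 lc_a_rc_3_2 lc_a_rc_3_2 lc_a_rc_2_2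 lc_a_rc_5_2 lc_a_rc_3_2 lc_a_rc_2_0) (@D3.rec (fun _ => (Cert rels S Gen.a)) lc_a_rc_7_2 lc_a_rc_2_2 lc_a_rc_2_2 lc_a_rc_2_2 lc_a_rc_2_2 lc_a_rc_2_2 lc_a_rc_2_2 lc_a_rc_2_2 lc_a_rc_3_2 lc_a_rc_5_2 lc_a_rc_7_2 lc_a_rc_2_2 lc_a_rc_2_2 lc_a_rc_4_2 lc_a_rc_3_2 lc_a_rc_5_2 lc_a_rc_9_2 lc_a_rc_8_2 lc_a_rc_2_2 lc_a_rc_2_2 lc_a_rc_2_2 lc_a_rc_2_2 lc_a_rc_2_2 lc_a_rc_4_2 lc_a_rc_3_2 lc_a_rc_3_2 lc_a_rc_3_2 lc_a_rc_2_2 lc_a_rc_3_2 lc_a_rc_3_2 lc_a_rc_2_0 lc_a_rc_7_2 lc_a_rc_5_2 lc_a_rc_9_2 lc_a_rc_8_2 lc_a_rc_2_2 lc_a_rc_2_2 lc_a_rc_2_2 lc_a_rc_2_2 lc_a_rc_2_2 lc_a_rc_1_2 lc_a_rc_2_2 lc_a_rc_2_2 lc_a_rc_4_2 lc_a_rc_3_2 lc_a_rc_5_2 lc_a_rc_9_2 lc_a_rc_8_2 lc_a_rc_2_2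 lc_a_rc_2_2 lc_a_rc_2_2) (@D3.rec (fun _ => (Cert rels S Gen.a)) lc_a_rc_3_2 lc_a_rc_2_2 lc_a_rc_4_2 lc_a_rc_5_2 lc_a_rc_3_2 lc_a_rc_5_2 lc_a_rc_9_2 lc_a_rc_2_2 lc_a_rc_2_2 lc_a_rc_2_2 lc_a_rc_3_2 lc_a_rc_2_2 lc_a_rc_2_2 lc_a_rc_2_2 lc_a_rc_3_2 lc_a_rc_6_2 lc_a_rc_2_2 lc_a_rc_3_2 lc_a_rc_5_2 lc_a_rc_7_2 lc_a_rc_4_2 lc_a_rc_3_2 lc_a_rc_5_2 lc_a_rc_9_2 lc_a_rc_2_2 lc_a_rc_2_2 lc_a_rc_3_2 lc_a_rc_5_2 lc_a_rc_7_2 lc_a_rc_2_2 lc_a_rc_2_2 lc_a_rc_4_2 lc_a_rc_3_2 lc_a_rc_5_2 lc_a_rc_9_2 lc_a_rc_8_2 lc_a_rc_4_2 lc_a_rc_5_2 lc_a_rc_3_2 lc_a_rc_5_2 lc_a_rc_9_2 lc_a_rc_2_2 lc_a_rc_3_2 lc_a_rc_5_2 lc_a_rc_7_2 lc_a_rc_2_2 lc_a_rc_2_2 lc_a_rc_4_2 lc_a_rc_3_2 lc_a_rc_5_2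 lc_a_rc_9_2) (@D3.rec (fun _ => (Cert rels S Gen.a)) lc_a_rc_8_2 lc_a_rc_4_2 lc_a_rc_5_2 lc_a_rc_3_2 lc_a_rc_5_2 lc_a_rc_9_2 lc_a_rc_1_2 lc_a_rc_2_2 lc_a_rc_2_2 lc_a_rc_4_2 lc_a_rc_3_2 lc_a_rc_5_2 lc_a_rc_9_2 lc_a_rc_8_2 lc_a_rc_2_2 lc_a_rc_2_2 lc_a_rc_2_2 lc_a_rc_3_2 lc_a_rc_2_2 lc_a_rc_4_2 lc_a_rc_5_2 lc_a_rc_3_2 lc_a_rc_5_2 lc_a_rc_9_2 lc_a_rc_6_2 lc_a_rc_4_2 lc_a_rc_5_2 lc_a_rc_3_2 lc_a_rc_9_2 lc_a_rc_5_2 lc_a_rc_9_2 lc_a_rc_6_0 lc_a_rc_2_2 lc_a_rc_2_2 lc_a_rc_4_2 lc_a_rc_3_2 lc_a_rc_5_2 lc_a_rc_9_2 lc_a_rc_8_2 lc_a_rc_2_2 lc_a_rc_2_2 lc_a_rc_2_2 lc_a_rc_9_0 lc_a_rc_2_2 lc_a_rc_4_2 lc_a_rc_5_2 lc_a_rc_3_2 lc_a_rc_5_2 lc_a_rc_9_2 lc_a_rc_6_2 lc_a_rc_4_2)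 (@D3.rec (fun _ => (Cert rels S Gen.a)) lc_a_rc_5_2 lc_a_rc_3_2 lc_a_rc_9_2 lc_a_rc_5_2 lc_a_rc_9_2 lc_a_rc_1_2 lc_a_rc_2_2 lc_a_rc_2_2 lc_a_rc_2_2 lc_a_rc_2_2 lc_a_rc_4_2 lc_a_rc_5_2 lc_a_rc_3_2 lc_a_rc_5_2 lc_a_rc_9_2 lc_a_rc_3_2 lc_a_rc_2_2 lc_a_rc_2_2 lc_a_rc_2_2 lc_a_rc_2_2 lc_a_rc_3_2 lc_a_rc_2_2 lc_a_rc_4_2 lc_a_rc_3_2 lc_a_rc_6_2 lc_a_rc_4_2 lc_a_rc_5_2 lc_a_rc_3_2 lc_a_rc_9_2 lc_a_rc_5_2 lc_a_rc_9_2 lc_a_rc_6_2 lc_a_rc_6_2 lc_a_rc_5_2 lc_a_rc_3_2 lc_a_rc_9_2 lc_a_rc_2_2 lc_a_rc_3_2 lc_a_rc_9_2 lc_a_rc_4_2 lc_a_rc_3_2 lc_a_rc_5_0 lc_a_rc_5_2 lc_a_rc_5_2 lc_a_rc_6_2 lc_a_rc_4_2 lc_a_rc_5_2 lc_a_rc_5_0 lc_a_rc_5_2 lc_a_rc_6_2 lc_a_rc_6_2) (@D3.rec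 (fun _ => (Cert rels S Gen.a)) lc_a_rc_5_2 lc_a_rc_3_2 lc_a_rc_9_2 lc_a_rc_2_2 lc_a_rc_3_2 lc_a_rc_9_2 lc_a_rc_3_2 lc_a_rc_2_2 lc_a_rc_2_2 lc_a_rc_6_2 lc_a_rc_4_2 lc_a_rc_5_2 lc_a_rc_3_2 lc_a_rc_5_2 lc_a_rc_3_2 lc_a_rc_5_2 lc_a_rc_2_2 lc_a_rc_2_2 lc_a_rc_3_0 lc_a_rc_0_1 lc_a_rc_4_0 lc_a_rc_6_2 lc_a_rc_6_2 lc_a_rc_5_2 lc_a_rc_3_2 lc_a_rc_3_0 lc_a_rc_2_2 lc_a_rc_56_28 lc_a_rc_8_2 lc_a_rc_7_2 lc_a_rc_6_2 lc_a_rc_3_2 lc_a_rc_9_2 lc_a_rc_3_2 lc_a_rc_9_2 lc_a_rc_2_2 lc_a_rc_3_2 lc_a_Cert_tree lc_a_rc_2_2 lc_a_rc_5_2 lc_a_rc_2_2 lc_a_rc_2_2 lc_a_rc_4_2 lc_a_rc_3_2 lc_a_rc_5_2 lc_a_rc_9_2 lc_a_rc_8_2 lc_a_rc_2_2 lc_a_rc_2_2 lc_a_rc_2_2 lc_a_rc_8_2) (@D3.rec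 (fun _ => (Cert rels S Gen.a)) lc_a_rc_2_2 lc_a_rc_4_2 lc_a_rc_5_2 lc_a_rc_3_2 lc_a_rc_5_2 lc_a_rc_9_2 lc_a_rc_6_2 lc_a_rc_4_2 lc_a_rc_5_2 lc_a_rc_3_2 lc_a_rc_9_2 lc_a_rc_5_2 lc_a_rc_9_2 lc_a_rc_2_2 lc_a_rc_2_2 lc_a_rc_2_2 lc_a_rc_2_2 lc_a_rc_4_2 lc_a_rc_5_2 lc_a_rc_3_2 lc_a_rc_5_2 lc_a_rc_9_2 lc_a_rc_3_2 lc_a_rc_2_2 lc_a_rc_2_2 lc_a_rc_2_2 lc_a_rc_2_2 lc_a_rc_2_0 lc_a_rc_2_2 lc_a_rc_0_1 lc_a_rc_9_2 lc_a_rc_6_2 lc_a_rc_4_2 lc_a_rc_5_2 lc_a_rc_3_2 lc_a_rc_9_2 lc_a_rc_5_2 lc_a_rc_9_2 lc_a_rc_6_2 lc_a_rc_6_2 lc_a_rc_5_2 lc_a_rc_3_2 lc_a_rc_9_2 lc_a_rc_2_2 lc_a_rc_3_2 lc_a_rc_9_2 lc_a_rc_2_2 lc_a_rc_2_2 lc_a_rc_2_2 lc_a_rc_2_2 lc_a_rc_2_2) (@D3.rec (fun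 _ => (Cert rels S Gen.a)) lc_a_rc_6_2 lc_a_rc_4_2 lc_a_rc_5_2 lc_a_rc_3_2 lc_a_rc_9_2 lc_a_rc_5_2 lc_a_rc_9_2 lc_a_rc_2_2 lc_a_rc_2_2 lc_a_rc_2_2 lc_a_rc_3_2 lc_a_rc_2_2 lc_a_rc_2_2 lc_a_rc_7_2 lc_a_rc_2_2 lc_a_rc_5_2 lc_a_rc_9_2 lc_a_rc_9_0 lc_a_rc_8_2 lc_a_rc_6_2 lc_a_rc_6_2 lc_a_rc_5_2 lc_a_rc_3_2 lc_a_rc_9_2 lc_a_rc_2_2 lc_a_rc_3_2 lc_a_rc_9_2 lc_a_rc_7_2 lc_a_rc_6_2 lc_a_rc_3_2 lc_a_rc_9_2 lc_a_rc_3_2 lc_a_rc_9_2 lc_a_rc_2_2 lc_a_rc_3_2 lc_a_Cert_tree lc_a_rc_2_2 lc_a_rc_5_2 lc_a_rc_6_2 lc_a_rc_6_2 lc_a_rc_5_2 lc_a_rc_3_2 lc_a_rc_9_2 lc_a_rc_2_2 lc_a_rc_3_2 lc_a_rc_9_2 lc_a_rc_7_2 lc_a_rc_6_2 lc_a_rc_3_2 lc_a_rc_9_2 lc_a_rc_3_2) (@D3.rec (fun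 _ => (Cert rels S Gen.a)) lc_a_rc_9_2 lc_a_rc_2_2 lc_a_rc_3_2 lc_a_Cert_tree lc_a_rc_2_2 lc_a_rc_5_2 lc_a_rc_3_2 lc_a_rc_2_2 lc_a_rc_4_2 lc_a_rc_3_2 lc_a_Cert_tree lc_a_rc_5_2 lc_a_rc_0_0 lc_a_rc_9_2 lc_a_rc_2_2 lc_a_rc_0_0 lc_a_rc_9_2 lc_a_rc_4_2 lc_a_rc_5_2 lc_a_rc_3_2 lc_a_rc_3_2 lc_a_rc_3_2 lc_a_rc_6_2 lc_a_rc_4_2 lc_a_rc_3_2 lc_a_rc_2_2 lc_a_rc_7_2 lc_a_rc_4_2 lc_a_rc_4_2 lc_a_rc_9_0 lc_a_rc_3_2 lc_a_rc_7_2 lc_a_rc_3_2 lc_a_rc_4_2 lc_a_rc_3_2 lc_a_rc_2_2 lc_a_rc_8_2 lc_a_rc_3_2 lc_a_rc_6_2 lc_a_rc_2_2 lc_a_rc_4_2 lc_a_rc_5_2 lc_a_rc_5_2 lc_a_rc_3_2 lc_a_rc_8_2 lc_a_rc_2_2 lc_a_rc_3_2 lc_a_rc_4_2 lc_a_rc_4_2 lc_a_rc_3_2 lc_a_rc_2_2) (@D3.rec (fun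 _ => (Cert rels S Gen.a)) lc_a_rc_2_2 lc_a_rc_3_2 lc_a_rc_5_2 lc_a_rc_7_2 lc_a_rc_2_2 lc_a_rc_7_2 lc_a_rc_4_2 lc_a_rc_5_2 lc_a_rc_5_2 lc_a_rc_7_2 lc_a_rc_8_2 lc_a_rc_0_0 lc_a_rc_6_2 lc_a_rc_7_2 lc_a_rc_4_2 lc_a_rc_3_2 lc_a_rc_1_2 lc_a_rc_2_2 lc_a_rc_3_2 lc_a_rc_5_2 lc_a_rc_7_2 lc_a_rc_2_2 lc_a_rc_2_2 lc_a_rc_56_49 lc_a_rc_56_14 lc_a_rc_5_2 lc_a_rc_2_0 lc_a_rc_56_14 lc_a_rc_2_2 lc_a_rc_6_2 lc_a_rc_4_2 lc_a_rc_6_2 lc_a_rc_6_2 lc_a_rc_4_2 lc_a_rc_3_2 lc_a_rc_1_2 lc_a_rc_2_2 lc_a_rc_2_2 lc_a_rc_4_2 lc_a_rc_3_2 lc_a_rc_5_2 lc_a_rc_8_2 lc_a_rc_2_2 lc_a_rc_2_2 lc_a_rc_2_2 lc_a_rc_7_2 lc_a_rc_4_2 lc_a_rc_5_2 lc_a_rc_4_2 lc_a_rc_5_2 lc_a_rc_6_2) (@D3.rec (fun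 _ => (Cert rels S Gen.a)) lc_a_rc_4_2 lc_a_rc_2_2 lc_a_rc_4_2 lc_a_rc_0_0 lc_a_rc_4_2 lc_a_rc_2_0 lc_a_rc_6_2 lc_a_rc_4_2 lc_a_rc_1_2 lc_a_rc_2_2 lc_a_rc_2_2 lc_a_rc_2_2 lc_a_rc_4_2 lc_a_rc_5_2 lc_a_rc_3_2 lc_a_rc_5_2 lc_a_rc_3_2 lc_a_rc_2_2 lc_a_rc_2_2 lc_a_rc_2_2 lc_a_rc_2_2 lc_a_rc_4_0 lc_a_rc_9_2 lc_a_rc_6_2 lc_a_rc_6_2 lc_a_rc_5_2 lc_a_rc_3_2 lc_a_rc_4_2 lc_a_rc_5_2 lc_a_rc_2_0 lc_a_rc_2_2 lc_a_rc_3_2 lc_a_rc_2_2 lc_a_rc_2_2 lc_a_rc_3_2 lc_a_rc_7_2 lc_a_rc_2_2 lc_a_rc_1_2 lc_a_rc_4_2 lc_a_rc_3_2 lc_a_rc_6_2 lc_a_rc_8_2 lc_a_rc_0_0 lc_a_rc_2_0 lc_a_rc_1_2 lc_a_rc_2_2 lc_a_rc_4_2 lc_a_rc_3_2 lc_a_rc_8_2 lc_a_rc_2_2 lc_a_rc_2_2) (@D3.rec (fun _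 => (Cert rels S Gen.a)) lc_a_rc_6_2 lc_a_rc_3_2 lc_a_rc_2_2 lc_a_rc_4_2 lc_a_rc_3_2 lc_a_rc_8_2 lc_a_rc_2_2 lc_a_rc_2_2 lc_a_rc_6_2 lc_a_rc_4_2 lc_a_rc_4_2 lc_a_rc_3_2 lc_a_rc_6_2 lc_a_rc_5_2 lc_a_rc_0_0 lc_a_rc_4_2 lc_a_rc_5_2 lc_a_rc_1_2 lc_a_rc_2_2 lc_a_rc_2_2 lc_a_rc_4_2 lc_a_rc_3_2 lc_a_rc_3_2 lc_a_rc_2_2 lc_a_rc_4_2 lc_a_rc_2_2 lc_a_rc_6_2 lc_a_rc_6_2 lc_a_rc_4_2 lc_a_rc_2_2 lc_a_rc_2_2 lc_a_rc_4_2 lc_a_rc_3_2 lc_a_rc_3_2 lc_a_rc_2_2 lc_a_rc_4_2 lc_a_rc_2_2 lc_a_rc_1_2 lc_a_rc_6_2 lc_a_rc_4_2 lc_a_rc_4_2 lc_a_rc_0_1 lc_a_rc_2_0 lc_a_rc_0_0 lc_a_rc_56_21 lc_a_rc_5_2 lc_a_rc_1_2 lc_a_rc_3_2 lc_a_rc_1_2 lc_a_rc_3_2 lc_a_rc_2_2) (@D3.rec (fun _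 => (Cert rels S Gen.a)) lc_a_rc_2_2 lc_a_rc_6_2 lc_a_rc_4_2 lc_a_rc_3_2 lc_a_rc_5_2 lc_a_rc_2_2 lc_a_rc_2_2 lc_a_rc_4_2 lc_a_rc_4_0 lc_a_rc_0_1 lc_a_rc_3_2 lc_a_rc_0_1 lc_a_rc_6_2 lc_a_rc_3_2 lc_a_rc_2_2 lc_a_rc_2_2 lc_a_rc_6_2 lc_a_rc_4_2 lc_a_rc_5_2 lc_a_rc_3_2 lc_a_rc_5_2 lc_a_rc_3_2 lc_a_rc_5_2 lc_a_rc_2_2 lc_a_rc_2_2 lc_a_rc_4_2 lc_a_rc_4_2 lc_a_rc_3_2 lc_a_rc_56_49 lc_a_rc_6_2 lc_a_rc_5_2 lc_a_rc_3_2 lc_a_rc_2_2 lc_a_rc_7_2 lc_a_rc_4_2 lc_a_rc_5_2 lc_a_rc_2_2 lc_a_rc_2_0 lc_a_rc_1_2 lc_a_rc_1_2 lc_a_rc_1_2 lc_a_rc_3_2 lc_a_rc_5_2 lc_a_rc_2_2 lc_a_rc_2_2 lc_a_rc_6_2 lc_a_rc_3_2 lc_a_rc_3_2 lc_a_rc_5_2 lc_a_rc_9_2 lc_a_rc_2_2) (@D3.rec (fun _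 => (Cert rels S Gen.a)) lc_a_rc_2_2 lc_a_rc_2_2 lc_a_rc_4_2 lc_a_rc_3_2 lc_a_rc_3_2 lc_a_rc_2_2 lc_a_rc_4_2 lc_a_rc_2_2 lc_a_rc_2_2 lc_a_rc_2_0 lc_a_rc_2_0 lc_a_rc_3_2 lc_a_rc_2_2 lc_a_rc_2_2 lc_a_rc_4_2 lc_a_rc_3_2 lc_a_rc_5_2 lc_a_rc_2_2 lc_a_rc_4_2 lc_a_rc_3_2 lc_a_rc_2_2 lc_a_rc_2_0 lc_a_rc_4_2 lc_a_rc_2_0 lc_a_rc_2_2 lc_a_rc_5_2 lc_a_rc_8_2 lc_a_rc_7_2 lc_a_rc_6_2 lc_a_rc_2_0 lc_a_rc_3_2 lc_a_rc_2_2 lc_a_rc_6_2 lc_a_rc_3_2 lc_a_rc_5_2 lc_a_rc_2_2 lc_a_rc_4_2 lc_a_rc_3_2 lc_a_rc_3_2 lc_a_rc_4_2 lc_a_rc_3_0 lc_a_rc_2_2 lc_a_rc_5_2 lc_a_rc_5_2 lc_a_rc_3_2 lc_a_rc_9_2 lc_a_rc_2_2 lc_a_rc_3_2 lc_a_rc_4_2 lc_a_rc_3_0 lc_a_rc_1_4) (@D3.rec (fun _ =>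 (Cert rels S Gen.a)) lc_a_rc_1_2 lc_a_rc_2_2 lc_a_rc_3_0 lc_a_rc_2_2 lc_a_rc_2_2 lc_a_rc_4_2 lc_a_rc_1_4 lc_a_rc_5_2 lc_a_rc_4_2 lc_a_rc_4_2 lc_a_rc_3_2 lc_a_rc_7_2 lc_a_rc_3_2 lc_a_rc_3_2 lc_a_rc_8_2 lc_a_rc_4_2 lc_a_rc_3_2 lc_a_rc_4_2 lc_a_rc_1_2 lc_a_rc_1_2 lc_a_rc_1_2 lc_a_rc_3_2 lc_a_rc_2_2 lc_a_rc_2_2 lc_a_rc_2_2 lc_a_rc_2_2 lc_a_rc_56_56 lc_a_rc_3_2 lc_a_rc_8_2 lc_a_rc_2_2 lc_a_rc_1_2 lc_a_rc_1_2 lc_a_rc_1_2 lc_a_rc_2_2 lc_a_rc_3_2 lc_a_rc_2_2 lc_a_rc_3_2 lc_a_Cert_tree lc_a_rc_2_2 lc_a_rc_3_2 lc_a_rc_0_0 lc_a_rc_5_0 lc_a_rc_2_2 lc_a_rc_2_2 lc_a_rc_3_2 lc_a_Cert_tree lc_a_rc_2_2 lc_a_rc_6_2 lc_a_rc_0_0 lc_a_rc_4_2 lc_a_rc_3_2) (@D3.rec (fun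 _ => (Cert rels S Gen.a)) lc_a_rc_2_2 lc_a_rc_7_2 lc_a_rc_4_2 lc_a_rc_6_0 lc_a_rc_6_2 lc_a_rc_3_2 lc_a_rc_5_2 lc_a_rc_2_2 lc_a_rc_8_2 lc_a_rc_4_2 lc_a_rc_3_2 lc_a_rc_6_2 lc_a_rc_3_2 lc_a_rc_3_2 lc_a_rc_2_2 lc_a_rc_8_2 lc_a_rc_3_2 lc_a_rc_6_2 lc_a_rc_2_2 lc_a_rc_3_2 lc_a_rc_5_2 lc_a_rc_7_2 lc_a_rc_4_2 lc_a_rc_3_2 lc_a_rc_3_2 lc_a_rc_3_2 lc_a_rc_2_2 lc_a_rc_2_2 lc_a_rc_3_2 lc_a_rc_5_2 lc_a_rc_7_2 lc_a_rc_2_2 lc_a_rc_2_2 lc_a_rc_4_2 lc_a_rc_3_2 lc_a_rc_5_2 lc_a_rc_9_2 lc_a_rc_8_2 lc_a_rc_4_2 lc_a_rc_4_2 lc_a_rc_3_2 lc_a_rc_3_2 lc_a_rc_3_2 lc_a_rc_3_2 lc_a_rc_2_2 lc_a_rc_6_2 lc_a_rc_0_0 lc_a_rc_4_2 lc_a_rc_3_2 lc_a_rc_2_2 lc_a_rc_7_2) (@D3.rec (fun _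 => (Cert rels S Gen.a)) lc_a_rc_4_2 lc_a_rc_3_2 lc_a_rc_2_2 lc_a_rc_7_2 lc_a_rc_4_2 lc_a_rc_3_2 lc_a_rc_6_2 lc_a_rc_3_2 lc_a_rc_5_2 lc_a_rc_2_2 lc_a_rc_8_2 lc_a_rc_3_2 lc_a_rc_4_2 lc_a_rc_3_2 lc_a_rc_5_2 lc_a_rc_2_2 lc_a_rc_8_2 lc_a_rc_3_2 lc_a_rc_6_2 lc_a_rc_56_42 lc_a_rc_3_2 lc_a_rc_0_0 lc_a_rc_7_2 lc_a_rc_3_2 lc_a_rc_3_2 lc_a_rc_5_2 lc_a_rc_9_2 lc_a_rc_2_2 lc_a_rc_2_0 lc_a_rc_3_0 lc_a_rc_2_2 lc_a_rc_2_2 lc_a_rc_2_2 lc_a_rc_8_2 lc_a_rc_3_2 lc_a_rc_6_2 lc_a_rc_2_2 lc_a_rc_3_2 lc_a_rc_5_2 lc_a_rc_7_2 lc_a_rc_2_2 lc_a_rc_2_2 lc_a_rc_2_2 lc_a_rc_2_2 lc_a_rc_2_2 lc_a_rc_4_2 lc_a_rc_2_0 lc_a_rc_9_0 lc_a_rc_3_0 lc_a_rc_2_2 lc_a_rc_2_2) (@D3.rec (fun _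 => (Cert rels S Gen.a)) lc_a_rc_2_2 lc_a_rc_2_2 lc_a_rc_2_2 lc_a_rc_2_2 lc_a_rc_3_2 lc_a_rc_5_2 lc_a_rc_7_2 lc_a_rc_2_2 lc_a_rc_2_2 lc_a_rc_4_2 lc_a_rc_3_2 lc_a_rc_5_2 lc_a_rc_9_2 lc_a_rc_8_2 lc_a_rc_2_2 lc_a_rc_2_2 lc_a_rc_2_2 lc_a_rc_2_2 lc_a_rc_2_2 lc_a_rc_6_2 lc_a_rc_4_2 lc_a_rc_6_2 lc_a_rc_2_0 lc_a_rc_9_0 lc_a_rc_5_2 lc_a_rc_3_0 lc_a_rc_2_2 lc_a_rc_2_2 lc_a_rc_2_2 lc_a_rc_2_2 lc_a_rc_2_2 lc_a_rc_1_2 lc_a_rc_2_2 lc_a_rc_2_2 lc_a_rc_4_2 lc_a_rc_3_2 lc_a_rc_5_2 lc_a_rc_9_2 lc_a_rc_8_2 lc_a_rc_2_2 lc_a_rc_2_2 lc_a_rc_2_2 lc_a_rc_3_2 lc_a_rc_2_2 lc_a_rc_4_2 lc_a_rc_5_2 lc_a_rc_3_2 lc_a_rc_5_2 lc_a_rc_9_2 lc_a_rc_2_2 lc_a_rc_2_2) (@D3.rec (fun _ =>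 (Cert rels S Gen.a)) lc_a_rc_2_2 lc_a_rc_3_2 lc_a_rc_2_2 lc_a_rc_2_2 lc_a_rc_2_2 lc_a_rc_4_2 lc_a_rc_3_2 lc_a_rc_6_2 lc_a_rc_3_2 lc_a_rc_3_2 lc_a_rc_7_2 lc_a_rc_8_2 lc_a_rc_3_2 lc_a_rc_6_2 lc_a_rc_2_2 lc_a_rc_3_2 lc_a_rc_5_2 lc_a_rc_7_2 lc_a_rc_6_2 lc_a_rc_7_2 lc_a_rc_6_2 lc_a_rc_9_2 lc_a_rc_8_2 lc_a_rc_2_2 lc_a_rc_3_2 lc_a_rc_5_2 lc_a_rc_7_2 lc_a_rc_2_2 lc_a_rc_2_2 lc_a_rc_4_2 lc_a_rc_3_2 lc_a_rc_5_2 lc_a_rc_9_2 lc_a_rc_8_2 lc_a_rc_7_2 lc_a_rc_6_2 lc_a_rc_8_2 lc_a_rc_7_2 lc_a_rc_9_2 lc_a_rc_3_2 lc_a_rc_6_2 lc_a_rc_2_2 lc_a_rc_3_2 lc_a_rc_5_2 lc_a_rc_7_2 lc_a_rc_4_2 lc_a_rc_3_2 lc_a_rc_3_2 lc_a_rc_3_2 lc_a_rc_8_2 lc_a_rc_2_2)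
def ce_a_4 : D2 → D3 → (Cert rels S Gen.a) := @D2.rec (fun _ => D3 → (Cert rels S Gen.a)) (@D3.rec (fun _ => (Cert rels S Gen.a)) lc_a_rc_3_2 lc_a_rc_5_2 lc_a_rc_7_2 lc_a_rc_2_2 lc_a_rc_2_2 lc_a_rc_4_2 lc_a_rc_3_2 lc_a_rc_5_2 lc_a_rc_9_2 lc_a_rc_8_2 lc_a_rc_7_2 lc_a_rc_6_2 lc_a_rc_8_2 lc_a_rc_7_2 lc_a_rc_9_2 lc_a_rc_1_2 lc_a_rc_2_2 lc_a_rc_2_2 lc_a_rc_4_2 lc_a_rc_3_2 lc_a_rc_5_2 lc_a_rc_9_2 lc_a_rc_8_2 lc_a_rc_2_2 lc_a_rc_2_2 lc_a_rc_2_2 lc_a_rc_3_2 lc_a_rc_2_2 lc_a_rc_4_2 lc_a_rc_5_2 lc_a_rc_3_2 lc_a_rc_5_2 lc_a_rc_9_2 lc_a_rc_7_2 lc_a_rc_8_2 lc_a_rc_7_2 lc_a_rc_3_2 lc_a_rc_9_2 lc_a_rc_8_2 lc_a_rc_9_2 lc_a_rc_2_2 lc_a_rc_3_2 lc_a_rc_5_2 lc_a_rc_7_2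 lc_a_rc_2_2 lc_a_rc_2_2 lc_a_rc_4_2 lc_a_rc_3_2 lc_a_rc_5_2 lc_a_rc_9_2 lc_a_rc_8_2) (@D3.rec (fun _ => (Cert rels S Gen.a)) lc_a_rc_4_2 lc_a_rc_4_2 lc_a_rc_3_2 lc_a_rc_3_2 lc_a_rc_3_2 lc_a_rc_9_2 lc_a_rc_2_2 lc_a_rc_2_2 lc_a_rc_4_2 lc_a_rc_3_2 lc_a_rc_5_2 lc_a_rc_9_2 lc_a_rc_8_2 lc_a_rc_2_2 lc_a_rc_2_2 lc_a_rc_2_2 lc_a_rc_3_2 lc_a_rc_2_2 lc_a_rc_4_2 lc_a_rc_5_2 lc_a_rc_3_2 lc_a_rc_5_2 lc_a_rc_9_2 lc_a_rc_7_2 lc_a_rc_8_2 lc_a_rc_7_2 lc_a_rc_3_2 lc_a_rc_9_2 lc_a_rc_8_2 lc_a_rc_9_2 lc_a_rc_1_2 lc_a_rc_1_2 lc_a_rc_2_2 lc_a_rc_2_2 lc_a_rc_2_2 lc_a_rc_3_2 lc_a_rc_2_2 lc_a_rc_4_2 lc_a_rc_5_2 lc_a_rc_3_2 lc_a_rc_5_2 lc_a_rc_9_2 lc_a_rc_3_2 lc_a_rc_2_2 lc_a_rc_2_2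 lc_a_rc_2_2 lc_a_rc_2_2 lc_a_rc_3_2 lc_a_rc_2_2 lc_a_rc_56_21 lc_a_rc_3_2) (@D3.rec (fun _ => (Cert rels S Gen.a)) lc_a_rc_6_2 lc_a_rc_4_2 lc_a_rc_5_2 lc_a_rc_3_2 lc_a_rc_9_2 lc_a_rc_5_2 lc_a_rc_9_2 lc_a_rc_8_2 lc_a_rc_7_2 lc_a_rc_8_2 lc_a_rc_3_2 lc_a_rc_9_2 lc_a_rc_2_2 lc_a_rc_3_2 lc_a_rc_9_2 lc_a_rc_8_2 lc_a_rc_2_2 lc_a_rc_2_2 lc_a_rc_8_2 lc_a_rc_4_2 lc_a_rc_3_2 lc_a_rc_6_2 lc_a_rc_4_2 lc_a_rc_4_2 lc_a_rc_4_2 lc_a_rc_3_2 lc_a_rc_4_2 lc_a_rc_3_2 lc_a_rc_5_0 lc_a_rc_5_2 lc_a_rc_5_2 lc_a_rc_6_2 lc_a_rc_4_2 lc_a_rc_5_2 lc_a_rc_5_0 lc_a_rc_5_2 lc_a_rc_8_2 lc_a_rc_7_2 lc_a_rc_8_2 lc_a_rc_3_2 lc_a_rc_9_2 lc_a_rc_2_2 lc_a_rc_3_2 lc_a_rc_9_2 lc_a_rc_3_2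 lc_a_rc_2_2 lc_a_rc_2_2 lc_a_rc_6_2 lc_a_rc_4_2 lc_a_rc_5_2 lc_a_rc_3_2) (@D3.rec (fun _ => (Cert rels S Gen.a)) lc_a_rc_5_2 lc_a_rc_3_2 lc_a_rc_5_2 lc_a_rc_2_2 lc_a_rc_2_2 lc_a_rc_3_0 lc_a_rc_0_0 lc_a_rc_8_2 lc_a_rc_6_2 lc_a_rc_6_2 lc_a_rc_5_2 lc_a_rc_3_2 lc_a_rc_3_0 lc_a_rc_2_2 lc_a_rc_56_28 lc_a_rc_4_0 lc_a_rc_8_2 lc_a_rc_8_2 lc_a_rc_3_2 lc_a_rc_9_2 lc_a_rc_3_2 lc_a_rc_9_2 lc_a_rc_2_2 lc_a_rc_3_2 lc_a_Cert_tree lc_a_rc_2_2 lc_a_rc_5_2 lc_a_rc_3_2 lc_a_rc_2_2 lc_a_rc_3_2 lc_a_rc_2_2 lc_a_rc_6_2 lc_a_rc_4_2 lc_a_rc_3_2 lc_a_rc_2_2 lc_a_rc_6_2 lc_a_rc_4_2 lc_a_rc_3_2 lc_a_rc_6_2 lc_a_rc_3_2 lc_a_rc_5_2 lc_a_rc_2_2 lc_a_rc_2_2 lc_a_rc_3_2 lc_a_rc_3_2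 lc_a_rc_2_2 lc_a_rc_5_2 lc_a_rc_3_2 lc_a_rc_4_2 lc_a_rc_3_2 lc_a_rc_5_2) (@D3.rec (fun _ => (Cert rels S Gen.a)) lc_a_rc_2_2 lc_a_rc_4_2 lc_a_rc_3_2 lc_a_rc_6_2 lc_a_rc_56_42 lc_a_rc_3_2 lc_a_rc_4_0 lc_a_rc_7_2 lc_a_rc_3_2 lc_a_rc_3_2 lc_a_rc_5_2 lc_a_rc_9_2 lc_a_rc_2_2 lc_a_rc_2_2 lc_a_rc_2_2 lc_a_rc_3_2 lc_a_rc_3_2 lc_a_rc_5_2 lc_a_rc_2_2 lc_a_rc_5_2 lc_a_rc_2_2 lc_a_rc_3_2 lc_a_rc_3_2 lc_a_rc_4_2 lc_a_rc_3_2 lc_a_rc_3_2 lc_a_rc_5_2 lc_a_rc_9_2 lc_a_rc_2_2 lc_a_rc_3_2 lc_a_rc_7_2 lc_a_rc_4_0 lc_a_rc_4_2 lc_a_rc_3_2 lc_a_rc_4_0 lc_a_rc_9_2 lc_a_rc_8_2 lc_a_rc_3_2 lc_a_rc_5_2 lc_a_rc_3_2 lc_a_rc_5_2 lc_a_rc_9_2 lc_a_rc_3_2 lc_a_rc_3_2 lc_a_rc_2_2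 lc_a_rc_5_2 lc_a_rc_3_2 lc_a_rc_2_0 lc_a_rc_8_2 lc_a_rc_2_2 lc_a_rc_2_2) (@D3.rec (fun _ => (Cert rels S Gen.a)) lc_a_rc_2_2 lc_a_rc_2_2 lc_a_rc_2_2 lc_a_rc_2_2 lc_a_rc_2_2 lc_a_rc_3_2 lc_a_rc_5_2 lc_a_rc_7_2 lc_a_rc_2_2 lc_a_rc_2_2 lc_a_rc_4_2 lc_a_rc_3_2 lc_a_rc_5_2 lc_a_rc_9_2 lc_a_rc_8_2 lc_a_rc_2_2 lc_a_rc_2_2 lc_a_rc_2_2 lc_a_rc_2_2 lc_a_rc_2_2 lc_a_rc_4_2 lc_a_rc_3_2 lc_a_rc_3_2 lc_a_rc_3_2 lc_a_rc_2_2 lc_a_rc_6_2 lc_a_rc_5_2 lc_a_rc_4_2 lc_a_rc_2_0 lc_a_rc_2_0 lc_a_rc_9_2 lc_a_rc_2_2 lc_a_rc_2_2 lc_a_rc_2_2 lc_a_rc_2_2 lc_a_rc_2_2 lc_a_rc_2_2 lc_a_rc_1_2 lc_a_rc_2_2 lc_a_rc_2_2 lc_a_rc_4_2 lc_a_rc_3_2 lc_a_rc_5_2 lc_a_rc_9_2 lc_a_rc_8_2 lc_a_rc_2_2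 lc_a_rc_2_2 lc_a_rc_2_2 lc_a_rc_3_2 lc_a_rc_2_2 lc_a_rc_4_2) (@D3.rec (fun _ => (Cert rels S Gen.a)) lc_a_rc_5_2 lc_a_rc_3_2 lc_a_rc_5_2 lc_a_rc_9_2 lc_a_rc_2_2 lc_a_rc_2_2 lc_a_rc_2_2 lc_a_rc_3_2 lc_a_rc_2_2 lc_a_rc_2_2 lc_a_rc_2_2 lc_a_rc_4_2 lc_a_rc_4_2 lc_a_rc_3_2 lc_a_rc_3_2 lc_a_rc_3_2 lc_a_rc_56_35 lc_a_rc_3_2 lc_a_rc_3_2 lc_a_rc_3_2 lc_a_rc_7_2 lc_a_rc_5_2 lc_a_rc_8_2 lc_a_rc_7_2 lc_a_rc_9_2 lc_a_rc_2_2 lc_a_rc_2_2 lc_a_rc_2_2 lc_a_rc_3_2 lc_a_rc_2_2 lc_a_rc_2_2 lc_a_rc_2_2 lc_a_rc_1_2 lc_a_rc_9_0 lc_a_rc_2_2 lc_a_rc_2_2 lc_a_rc_2_2 lc_a_rc_3_2 lc_a_rc_2_2 lc_a_rc_4_2 lc_a_rc_5_2 lc_a_rc_3_2 lc_a_rc_5_2 lc_a_rc_9_2 lc_a_rc_3_2 lc_a_rc_2_2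 lc_a_rc_2_2 lc_a_rc_2_2 lc_a_rc_2_2 lc_a_rc_3_2 lc_a_rc_2_2) (@D3.rec (fun _ => (Cert rels S Gen.a)) lc_a_rc_9_0 lc_a_rc_3_2 lc_a_rc_6_2 lc_a_rc_4_2 lc_a_rc_5_2 lc_a_rc_3_2 lc_a_rc_9_2 lc_a_rc_5_2 lc_a_rc_9_2 lc_a_rc_2_2 lc_a_rc_2_2 lc_a_rc_2_2 lc_a_rc_3_2 lc_a_rc_2_2 lc_a_rc_2_2 lc_a_rc_3_2 lc_a_rc_2_2 lc_a_rc_2_2 lc_a_rc_3_2 lc_a_rc_5_2 lc_a_rc_7_2 lc_a_rc_2_2 lc_a_rc_2_2 lc_a_rc_4_2 lc_a_rc_3_2 lc_a_rc_5_2 lc_a_rc_9_2 lc_a_rc_8_2 lc_a_rc_4_2 lc_a_rc_5_2 lc_a_rc_3_2 lc_a_rc_5_2 lc_a_rc_9_2 lc_a_rc_1_2 lc_a_rc_2_2 lc_a_rc_2_2 lc_a_rc_4_2 lc_a_rc_3_2 lc_a_rc_5_2 lc_a_rc_9_2 lc_a_rc_8_2 lc_a_rc_2_2 lc_a_rc_2_2 lc_a_rc_2_2 lc_a_rc_5_2 lc_a_rc_2_2 lc_a_rc_4_2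 lc_a_rc_5_2 lc_a_rc_3_2 lc_a_rc_5_2 lc_a_rc_9_2) (@D3.rec (fun _ => (Cert rels S Gen.a)) lc_a_rc_6_2 lc_a_rc_4_2 lc_a_rc_5_2 lc_a_rc_3_2 lc_a_rc_9_2 lc_a_rc_5_2 lc_a_rc_9_2 lc_a_rc_7_2 lc_a_rc_2_2 lc_a_rc_2_2 lc_a_rc_4_2 lc_a_rc_3_2 lc_a_rc_5_2 lc_a_rc_9_2 lc_a_rc_8_2 lc_a_rc_2_2 lc_a_rc_2_2 lc_a_rc_2_2 lc_a_rc_9_0 lc_a_rc_2_2 lc_a_rc_4_2 lc_a_rc_5_2 lc_a_rc_3_2 lc_a_rc_5_2 lc_a_rc_9_2 lc_a_rc_6_2 lc_a_rc_4_2 lc_a_rc_5_2 lc_a_rc_3_2 lc_a_rc_9_2 lc_a_rc_5_2 lc_a_rc_9_2 lc_a_rc_1_2 lc_a_rc_2_2 lc_a_rc_2_2 lc_a_rc_2_2 lc_a_rc_2_2 lc_a_rc_4_2 lc_a_rc_5_2 lc_a_rc_3_2 lc_a_rc_5_2 lc_a_rc_9_2 lc_a_rc_3_2 lc_a_rc_2_2 lc_a_rc_2_2 lc_a_rc_2_2 lc_a_rc_2_2 lc_a_rc_6_2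 lc_a_rc_2_2 lc_a_rc_5_2 lc_a_rc_5_0) (@D3.rec (fun _ => (Cert rels S Gen.a)) lc_a_rc_6_2 lc_a_rc_4_2 lc_a_rc_5_2 lc_a_rc_3_2 lc_a_rc_9_2 lc_a_rc_5_2 lc_a_rc_9_2 lc_a_rc_6_2 lc_a_rc_6_2 lc_a_rc_5_2 lc_a_rc_3_2 lc_a_rc_9_2 lc_a_rc_2_2 lc_a_rc_3_2 lc_a_rc_9_2 lc_a_rc_4_0 lc_a_rc_2_2 lc_a_rc_2_2 lc_a_rc_2_2 lc_a_rc_2_2 lc_a_rc_4_2 lc_a_rc_5_2 lc_a_rc_3_2 lc_a_rc_5_2 lc_a_rc_9_2 lc_a_rc_5_0 lc_a_rc_2_2 lc_a_rc_2_2 lc_a_rc_2_2 lc_a_rc_2_2 lc_a_rc_9_0 lc_a_rc_2_2 lc_a_rc_5_0 lc_a_rc_6_2 lc_a_rc_4_2 lc_a_rc_5_2 lc_a_rc_3_2 lc_a_rc_9_2 lc_a_rc_5_2 lc_a_rc_9_2 lc_a_rc_6_2 lc_a_rc_6_2 lc_a_rc_5_2 lc_a_rc_3_2 lc_a_rc_9_2 lc_a_rc_2_2 lc_a_rc_3_2 lc_a_rc_9_2 lc_a_rc_1_2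 lc_a_rc_1_2 lc_a_rc_3_2) (@D3.rec (fun _ => (Cert rels S Gen.a)) lc_a_rc_2_2 lc_a_rc_2_2 lc_a_rc_2_2 lc_a_rc_2_2 lc_a_rc_2_2 lc_a_rc_6_2 lc_a_rc_4_2 lc_a_rc_5_2 lc_a_rc_3_2 lc_a_rc_9_2 lc_a_rc_5_2 lc_a_rc_9_2 lc_a_rc_3_2 lc_a_rc_5_2 lc_a_rc_2_2 lc_a_rc_2_2 lc_a_rc_2_2 lc_a_rc_3_2 lc_a_rc_2_2 lc_a_rc_2_2 lc_a_rc_5_2 lc_a_rc_2_2 lc_a_rc_4_2 lc_a_rc_3_2 lc_a_rc_6_2 lc_a_rc_4_2 lc_a_rc_6_2 lc_a_rc_6_2 lc_a_rc_5_2 lc_a_rc_3_2 lc_a_rc_9_2 lc_a_rc_2_2 lc_a_rc_3_2 lc_a_rc_9_2 lc_a_rc_7_2 lc_a_rc_6_2 lc_a_rc_3_2 lc_a_rc_9_2 lc_a_rc_3_2 lc_a_rc_9_2 lc_a_rc_2_2 lc_a_rc_3_2 lc_a_Cert_tree lc_a_rc_2_2 lc_a_rc_5_2 lc_a_rc_6_2 lc_a_rc_4_2 lc_a_rc_5_0 lc_a_rc_3_2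 lc_a_rc_5_2 lc_a_rc_5_2) (@D3.rec (fun _ => (Cert rels S Gen.a)) lc_a_rc_6_2 lc_a_rc_5_2 lc_a_rc_5_2 lc_a_rc_5_0 lc_a_rc_5_0 lc_a_rc_7_2 lc_a_rc_6_2 lc_a_rc_3_2 lc_a_rc_9_2 lc_a_rc_3_2 lc_a_rc_9_2 lc_a_rc_2_2 lc_a_rc_3_2 lc_a_Cert_tree lc_a_rc_2_2 lc_a_rc_5_2 lc_a_rc_3_2 lc_a_rc_5_2 lc_a_rc_2_2 lc_a_rc_2_2 lc_a_rc_6_2 lc_a_rc_6_2 lc_a_rc_5_2 lc_a_rc_3_2 lc_a_rc_2_2 lc_a_rc_3_2 lc_a_rc_3_2 lc_a_rc_5_2 lc_a_rc_2_0 lc_a_rc_9_2 lc_a_rc_2_2 lc_a_rc_3_0 lc_a_rc_3_0 lc_a_rc_2_0 lc_a_rc_1_0 lc_a_rc_7_2 lc_a_rc_6_2 lc_a_rc_3_2 lc_a_rc_6_2 lc_a_rc_3_2 lc_a_rc_8_2 lc_a_rc_2_2 lc_a_rc_2_0 lc_a_Cert_tree lc_a_rc_1_0 lc_a_rc_2_0 lc_a_rc_7_2 lc_a_rc_3_2 lc_a_rc_9_2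 lc_a_rc_2_2 lc_a_rc_4_2) (@D3.rec (fun _ => (Cert rels S Gen.a)) lc_a_rc_3_2 lc_a_rc_2_2 lc_a_rc_3_2 lc_a_Cert_tree lc_a_rc_2_2 lc_a_rc_5_2 lc_a_rc_0_0 lc_a_rc_9_2 lc_a_rc_2_2 lc_a_rc_2_2 lc_a_rc_2_2 lc_a_rc_2_2 lc_a_rc_2_2 lc_a_rc_4_2 lc_a_rc_5_2 lc_a_rc_3_2 lc_a_rc_5_2 lc_a_rc_9_2 lc_a_rc_56_56 lc_a_rc_2_2 lc_a_rc_2_2 lc_a_rc_6_2 lc_a_rc_2_2 lc_a_rc_2_0 lc_a_rc_2_2 lc_a_rc_9_0 lc_a_rc_9_2 lc_a_rc_0_1 lc_a_rc_2_2 lc_a_rc_5_2 lc_a_rc_3_2 lc_a_rc_9_2 lc_a_rc_5_2 lc_a_rc_9_2 lc_a_rc_6_2 lc_a_rc_6_2 lc_a_rc_5_2 lc_a_rc_3_2 lc_a_rc_9_2 lc_a_rc_2_2 lc_a_rc_3_2 lc_a_rc_9_2 lc_a_rc_3_2 lc_a_rc_2_2 lc_a_rc_2_2 lc_a_rc_2_2 lc_a_rc_2_2 lc_a_rc_2_2 lc_a_rc_6_2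 lc_a_rc_4_2 lc_a_rc_5_2) (@D3.rec (fun _ => (Cert rels S Gen.a)) lc_a_rc_3_2 lc_a_rc_9_2 lc_a_rc_5_2 lc_a_rc_9_2 lc_a_rc_3_2 lc_a_rc_3_0 lc_a_rc_6_2 lc_a_rc_3_2 lc_a_rc_2_2 lc_a_rc_3_2 lc_a_rc_2_2 lc_a_rc_2_2 lc_a_rc_2_0 lc_a_rc_2_2 lc_a_rc_4_2 lc_a_rc_2_0 lc_a_rc_2_0 lc_a_rc_7_2 lc_a_rc_6_2 lc_a_rc_6_2 lc_a_rc_5_2 lc_a_rc_3_2 lc_a_rc_9_2 lc_a_rc_2_2 lc_a_rc_3_2 lc_a_rc_9_2 lc_a_rc_7_2 lc_a_rc_6_2 lc_a_rc_3_2 lc_a_rc_9_2 lc_a_rc_3_2 lc_a_rc_9_2 lc_a_rc_2_2 lc_a_rc_3_2 lc_a_Cert_tree lc_a_rc_2_2 lc_a_rc_5_2 lc_a_rc_2_2 lc_a_rc_2_2 lc_a_rc_2_2 lc_a_rc_3_2 lc_a_rc_2_2 lc_a_rc_2_2 lc_a_rc_2_2 lc_a_rc_6_2 lc_a_rc_6_2 lc_a_rc_5_2 lc_a_rc_3_2 lc_a_rc_9_2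 lc_a_rc_2_2 lc_a_rc_3_2) (@D3.rec (fun _ => (Cert rels S Gen.a)) lc_a_rc_9_2 lc_a_rc_5_0 lc_a_rc_2_2 lc_a_rc_2_2 lc_a_rc_3_2 lc_a_rc_2_2 lc_a_rc_2_2 lc_a_rc_2_0 lc_a_rc_3_2 lc_a_rc_8_2 lc_a_rc_2_2 lc_a_rc_7_2 lc_a_rc_9_2 lc_a_rc_6_2 lc_a_rc_9_2 lc_a_rc_9_0 lc_a_rc_6_2 lc_a_rc_0_1 lc_a_rc_6_2 lc_a_rc_3_2 lc_a_rc_9_2 lc_a_rc_3_2 lc_a_rc_9_2 lc_a_rc_2_2 lc_a_rc_3_2 lc_a_Cert_tree lc_a_rc_2_2 lc_a_rc_5_2 lc_a_rc_7_2 lc_a_rc_3_2 lc_a_rc_9_2 lc_a_rc_2_2 lc_a_rc_4_2 lc_a_rc_3_2 lc_a_rc_2_2 lc_a_rc_3_2 lc_a_Cert_tree lc_a_rc_2_2 lc_a_rc_5_2 lc_a_rc_0_0 lc_a_rc_9_2 lc_a_rc_2_2 lc_a_rc_7_2 lc_a_rc_6_2 lc_a_rc_3_2 lc_a_rc_9_2 lc_a_rc_3_2 lc_a_rc_9_2 lc_a_rc_2_2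 lc_a_rc_3_2 lc_a_Cert_tree) (@D3.rec (fun _ => (Cert rels S Gen.a)) lc_a_rc_2_2 lc_a_rc_5_2 lc_a_rc_3_2 lc_a_rc_2_2 lc_a_rc_4_2 lc_a_rc_3_2 lc_a_rc_2_2 lc_a_rc_3_2 lc_a_Cert_tree lc_a_rc_2_2 lc_a_rc_5_2 lc_a_rc_0_0 lc_a_rc_9_2 lc_a_rc_2_2 lc_a_rc_0_0 lc_a_rc_9_2 lc_a_rc_5_2 lc_a_rc_5_2 lc_a_rc_4_2 lc_a_rc_4_2 lc_a_rc_3_2 lc_a_rc_7_2 lc_a_rc_9_2 lc_a_rc_1_2 lc_a_rc_2_2 lc_a_rc_3_2 lc_a_rc_8_2 lc_a_rc_2_2 lc_a_rc_1_2 lc_a_rc_3_2 lc_a_rc_2_2 lc_a_rc_5_2 lc_a_rc_5_2 lc_a_rc_8_2 lc_a_rc_3_2 lc_a_rc_2_2 lc_a_rc_0_0 lc_a_rc_7_2 lc_a_rc_5_0 lc_a_rc_2_2 lc_a_rc_4_2 lc_a_rc_5_2 lc_a_rc_56_42 lc_a_rc_5_2 lc_a_rc_3_2 lc_a_rc_6_2 lc_a_rc_56_14 lc_a_rc_0_0 lc_a_rc_4_0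 lc_a_rc_2_2 lc_a_rc_2_2) (@D3.rec (fun _ => (Cert rels S Gen.a)) lc_a_rc_5_2 lc_a_rc_56_49 lc_a_rc_56_42 lc_a_rc_2_2 lc_a_rc_8_2 lc_a_rc_6_2 lc_a_rc_4_2 lc_a_rc_6_2 lc_a_rc_4_2 lc_a_rc_4_2 lc_a_rc_6_2 lc_a_rc_2_2 lc_a_rc_2_2 lc_a_rc_2_2 lc_a_rc_5_2 lc_a_rc_5_2 lc_a_rc_3_2 lc_a_rc_3_0 lc_a_rc_2_2 lc_a_rc_4_2 lc_a_rc_2_2 lc_a_rc_9_2 lc_a_rc_9_2 lc_a_rc_4_2 lc_a_rc_6_2 lc_a_rc_4_0 lc_a_rc_4_2 lc_a_rc_8_2 lc_a_rc_6_2 lc_a_rc_6_2 lc_a_rc_4_2 lc_a_rc_5_2 lc_a_rc_3_2 lc_a_rc_2_2 lc_a_rc_2_2 lc_a_rc_2_2 lc_a_rc_2_2 lc_a_rc_5_2 lc_a_rc_3_2 lc_a_rc_5_2 lc_a_rc_3_2 lc_a_rc_5_2 lc_a_rc_2_2 lc_a_rc_1_4 lc_a_rc_2_2 lc_a_rc_3_2 lc_a_rc_2_2 lc_a_rc_7_2 lc_a_rc_1_2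 lc_a_rc_9_2 lc_a_rc_4_2) (@D3.rec (fun _ => (Cert rels S Gen.a)) lc_a_rc_2_2 lc_a_rc_56_49 lc_a_rc_3_0 lc_a_rc_2_2 lc_a_rc_4_2 lc_a_rc_3_2 lc_a_rc_8_2 lc_a_rc_2_2 lc_a_rc_2_2 lc_a_rc_6_2 lc_a_rc_2_2 lc_a_rc_2_2 lc_a_rc_3_2 lc_a_rc_6_2 lc_a_rc_4_2 lc_a_rc_2_2 lc_a_rc_2_2 lc_a_rc_4_2 lc_a_rc_3_2 lc_a_rc_3_2 lc_a_rc_2_2 lc_a_rc_4_2 lc_a_rc_2_2 lc_a_rc_6_2 lc_a_rc_3_2 lc_a_rc_2_2 lc_a_rc_2_2 lc_a_rc_3_2 lc_a_rc_5_2 lc_a_rc_3_2 lc_a_rc_6_2 lc_a_rc_4_2 lc_a_rc_6_2 lc_a_rc_3_2 lc_a_rc_2_2 lc_a_rc_2_2 lc_a_rc_6_2 lc_a_rc_4_2 lc_a_rc_3_2 lc_a_rc_5_2 lc_a_rc_2_2 lc_a_rc_2_2 lc_a_rc_5_2 lc_a_rc_2_0 lc_a_rc_5_2 lc_a_rc_0_0 lc_a_rc_0_1 lc_a_rc_3_2 lc_a_rc_5_2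 lc_a_rc_2_2 lc_a_rc_2_2) (@D3.rec (fun _ => (Cert rels S Gen.a)) lc_a_rc_3_2 lc_a_rc_3_2 lc_a_rc_5_2 lc_a_rc_5_2 lc_a_rc_9_2 lc_a_rc_7_2 lc_a_rc_3_2 lc_a_rc_3_2 lc_a_rc_4_2 lc_a_rc_6_2 lc_a_rc_7_2 lc_a_rc_3_2 lc_a_rc_5_2 lc_a_rc_2_2 lc_a_rc_2_2 lc_a_rc_6_2 lc_a_rc_5_2 lc_a_rc_3_2 lc_a_rc_2_2 lc_a_rc_3_2 lc_a_rc_3_2 lc_a_rc_5_2 lc_a_rc_3_2 lc_a_rc_9_2 lc_a_rc_2_2 lc_a_rc_5_2 lc_a_rc_4_2 lc_a_rc_4_2 lc_a_rc_2_2 lc_a_rc_2_2 lc_a_rc_1_4 lc_a_rc_2_2 lc_a_rc_0_0 lc_a_rc_7_2 lc_a_rc_2_2 lc_a_rc_1_2 lc_a_rc_1_2 lc_a_rc_1_2 lc_a_rc_1_2 lc_a_rc_3_2 lc_a_rc_3_2 lc_a_rc_5_2 lc_a_rc_9_2 lc_a_rc_2_2 lc_a_rc_4_2 lc_a_rc_3_2 lc_a_rc_5_2 lc_a_rc_5_2 lc_a_rc_9_2 lc_a_rc_3_2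 lc_a_rc_2_2) (@D3.rec (fun _ => (Cert rels S Gen.a)) lc_a_rc_2_2 lc_a_rc_4_0 lc_a_rc_5_2 lc_a_rc_3_2 lc_a_rc_3_2 lc_a_rc_4_2 lc_a_rc_2_0 lc_a_rc_3_2 lc_a_rc_5_2 lc_a_rc_2_2 lc_a_rc_5_0 lc_a_rc_5_2 lc_a_rc_3_2 lc_a_rc_9_2 lc_a_rc_3_2 lc_a_rc_2_2 lc_a_rc_3_2 lc_a_rc_3_2 lc_a_rc_4_2 lc_a_rc_4_2 lc_a_rc_2_0 lc_a_rc_8_2 lc_a_rc_2_0 lc_a_rc_7_2 lc_a_rc_2_0 lc_a_rc_3_2 lc_a_rc_5_2 lc_a_rc_2_2 lc_a_rc_56_35 lc_a_rc_8_2 lc_a_rc_3_2 lc_a_rc_9_2 lc_a_rc_3_2 lc_a_rc_2_2 lc_a_rc_3_2 lc_a_rc_4_2 lc_a_rc_4_2 lc_a_rc_3_0 lc_a_rc_9_2 lc_a_rc_2_2 lc_a_rc_4_2 lc_a_rc_3_2 lc_a_rc_3_2 lc_a_rc_4_2 lc_a_rc_3_0 lc_a_rc_4_2 lc_a_rc_2_2 lc_a_rc_3_2 lc_a_rc_4_2 lc_a_rc_3_2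 lc_a_rc_0_1) (@D3.rec (fun _ => (Cert rels S Gen.a)) lc_a_rc_0_1 lc_a_rc_4_2 lc_a_rc_0_1 lc_a_rc_6_2 lc_a_rc_2_2 lc_a_rc_1_2 lc_a_rc_1_2 lc_a_rc_1_2 lc_a_rc_2_2 lc_a_rc_3_2 lc_a_rc_2_2 lc_a_rc_4_2 lc_a_rc_56_35 lc_a_rc_2_2 lc_a_rc_3_2 lc_a_rc_0_0 lc_a_rc_56_28 lc_a_rc_2_2 lc_a_rc_2_2 lc_a_rc_3_2 lc_a_rc_56_56 lc_a_rc_2_2 lc_a_rc_2_2 lc_a_rc_3_2 lc_a_rc_0_0 lc_a_rc_0_0 lc_a_rc_3_2 lc_a_rc_2_2 lc_a_rc_7_2 lc_a_rc_4_2 lc_a_rc_8_2 lc_a_rc_5_2 lc_a_rc_3_2 lc_a_rc_5_2 lc_a_rc_2_2 lc_a_rc_8_2 lc_a_rc_6_2 lc_a_rc_0_0 lc_a_rc_5_2 lc_a_rc_4_2 lc_a_rc_3_2 lc_a_rc_5_2 lc_a_rc_2_2 lc_a_rc_3_2 lc_a_rc_6_2 lc_a_rc_56_42 lc_a_rc_2_2 lc_a_rc_5_2 lc_a_rc_0_0 lc_a_rc_4_2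 lc_a_rc_3_2) (@D3.rec (fun _ => (Cert rels S Gen.a)) lc_a_rc_3_2 lc_a_rc_3_2 lc_a_rc_2_2 lc_a_rc_2_2 lc_a_rc_3_2 lc_a_rc_5_2 lc_a_rc_7_2 lc_a_rc_2_2 lc_a_rc_2_2 lc_a_rc_2_2 lc_a_rc_3_2 lc_a_rc_5_2 lc_a_rc_9_2 lc_a_rc_3_2 lc_a_rc_4_2 lc_a_rc_4_2 lc_a_rc_3_2 lc_a_rc_3_2 lc_a_rc_3_2 lc_a_rc_1_2 lc_a_rc_2_2 lc_a_rc_2_2 lc_a_rc_4_2 lc_a_rc_3_2 lc_a_rc_5_2 lc_a_rc_9_2 lc_a_rc_8_2 lc_a_rc_56_28 lc_a_rc_6_2 lc_a_rc_2_2 lc_a_rc_3_2 lc_a_rc_2_2 lc_a_rc_5_0 lc_a_rc_5_2 lc_a_rc_6_2 lc_a_rc_5_2 lc_a_rc_9_2 lc_a_rc_6_2 lc_a_rc_4_2 lc_a_rc_4_2 lc_a_rc_4_2 lc_a_rc_4_2 lc_a_rc_3_2 lc_a_rc_3_2 lc_a_rc_4_2 lc_a_rc_3_2 lc_a_rc_2_2 lc_a_rc_7_2 lc_a_rc_4_2 lc_a_rc_3_2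 lc_a_rc_5_2) (@D3.rec (fun _ => (Cert rels S Gen.a)) lc_a_rc_3_2 lc_a_rc_5_2 lc_a_rc_2_2 lc_a_rc_8_2 lc_a_rc_3_2 lc_a_rc_4_2 lc_a_rc_3_2 lc_a_rc_5_2 lc_a_rc_2_2 lc_a_rc_8_2 lc_a_rc_3_2 lc_a_rc_6_2 lc_a_rc_4_2 lc_a_rc_3_2 lc_a_rc_0_0 lc_a_rc_5_2 lc_a_rc_3_2 lc_a_rc_3_2 lc_a_rc_5_2 lc_a_rc_9_2 lc_a_rc_2_2 lc_a_rc_9_2 lc_a_rc_3_2 lc_a_rc_4_2 lc_a_rc_4_2 lc_a_rc_3_2 lc_a_rc_3_2 lc_a_rc_5_2 lc_a_rc_9_2 lc_a_rc_2_2 lc_a_rc_3_2 lc_a_rc_7_2 lc_a_rc_4_0 lc_a_rc_4_2 lc_a_rc_3_2 lc_a_rc_2_2 lc_a_rc_5_2 lc_a_rc_3_2 lc_a_rc_5_2 lc_a_rc_3_2 lc_a_rc_5_2 lc_a_rc_9_2 lc_a_rc_4_2 lc_a_rc_2_0 lc_a_rc_0_0 lc_a_rc_3_0 lc_a_rc_2_2 lc_a_rc_2_2 lc_a_rc_2_2 lc_a_rc_2_2 lc_a_rc_2_2)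 (@D3.rec (fun _ => (Cert rels S Gen.a)) lc_a_rc_2_2 lc_a_rc_3_2 lc_a_rc_5_2 lc_a_rc_7_2 lc_a_rc_2_2 lc_a_rc_2_2 lc_a_rc_4_2 lc_a_rc_3_2 lc_a_rc_5_2 lc_a_rc_9_2 lc_a_rc_3_0 lc_a_rc_2_2 lc_a_rc_2_2 lc_a_rc_2_2 lc_a_rc_2_2 lc_a_rc_2_2 lc_a_rc_6_2 lc_a_rc_4_2 lc_a_rc_4_2 lc_a_rc_2_0 lc_a_rc_2_0 lc_a_rc_0_0 lc_a_rc_3_0 lc_a_rc_2_2 lc_a_rc_2_2 lc_a_rc_2_2 lc_a_rc_2_2 lc_a_rc_2_2 lc_a_rc_1_2 lc_a_rc_2_2 lc_a_rc_2_2 lc_a_rc_4_2 lc_a_rc_3_2 lc_a_rc_5_2 lc_a_rc_9_2 lc_a_rc_8_2 lc_a_rc_2_2 lc_a_rc_2_2 lc_a_rc_2_2 lc_a_rc_3_2 lc_a_rc_2_2 lc_a_rc_4_2 lc_a_rc_5_2 lc_a_rc_3_2 lc_a_rc_5_2 lc_a_rc_9_2 lc_a_rc_2_2 lc_a_rc_2_2 lc_a_rc_2_2 lc_a_rc_3_2 lc_a_rc_2_2) (@D3.rec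 (fun _ => (Cert rels S Gen.a)) lc_a_rc_2_2 lc_a_rc_2_2 lc_a_rc_6_2 lc_a_rc_7_2 lc_a_rc_6_2 lc_a_rc_0_0 lc_a_rc_4_2 lc_a_rc_7_2 lc_a_rc_6_2 lc_a_rc_2_0 lc_a_rc_0_0 lc_a_rc_8_0 lc_a_rc_2_2 lc_a_rc_2_2 lc_a_rc_2_2 lc_a_rc_3_2 lc_a_rc_2_2 lc_a_rc_2_2 lc_a_rc_2_2 lc_a_rc_1_2 lc_a_rc_1_2 lc_a_rc_2_2 lc_a_rc_2_2 lc_a_rc_2_2 lc_a_rc_3_2 lc_a_rc_2_2 lc_a_rc_4_2 lc_a_rc_5_2 lc_a_rc_3_2 lc_a_rc_5_2 lc_a_rc_9_2 lc_a_rc_3_2 lc_a_rc_2_2 lc_a_rc_2_2 lc_a_rc_2_2 lc_a_rc_2_2 lc_a_rc_3_2 lc_a_rc_2_2 lc_a_rc_4_2 lc_a_rc_3_2 lc_a_rc_6_2 lc_a_rc_4_2 lc_a_rc_5_2 lc_a_rc_3_2 lc_a_rc_9_2 lc_a_rc_5_2 lc_a_rc_9_2 lc_a_rc_2_2 lc_a_rc_2_2 lc_a_rc_2_2 lc_a_rc_3_2) (@D3.rec (fun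 _ => (Cert rels S Gen.a)) lc_a_rc_2_2 lc_a_rc_2_2 lc_a_rc_3_2 lc_a_rc_2_2 lc_a_rc_3_2 lc_a_rc_6_2 lc_a_rc_2_2 lc_a_rc_3_2 lc_a_rc_5_2 lc_a_rc_7_2 lc_a_rc_4_2 lc_a_rc_3_2 lc_a_rc_3_2 lc_a_rc_3_2 lc_a_rc_8_2 lc_a_rc_2_2 lc_a_rc_3_2 lc_a_rc_5_2 lc_a_rc_7_2 lc_a_rc_2_2 lc_a_rc_2_2 lc_a_rc_4_2 lc_a_rc_3_2 lc_a_rc_5_2 lc_a_rc_9_2 lc_a_rc_8_2 lc_a_rc_7_2 lc_a_rc_6_2 lc_a_rc_8_2 lc_a_rc_7_2 lc_a_rc_9_2 lc_a_rc_1_2 lc_a_rc_2_2 lc_a_rc_2_2 lc_a_rc_4_2 lc_a_rc_3_2 lc_a_rc_5_2 lc_a_rc_9_2 lc_a_rc_8_2 lc_a_rc_2_2 lc_a_rc_2_2 lc_a_rc_2_2 lc_a_rc_3_2 lc_a_rc_2_2 lc_a_rc_4_2 lc_a_rc_5_2 lc_a_rc_3_2 lc_a_rc_5_2 lc_a_rc_9_2 lc_a_rc_7_2 lc_a_rc_8_2) (@D3.rec (fun _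 => (Cert rels S Gen.a)) lc_a_rc_7_2 lc_a_rc_3_2 lc_a_rc_9_2 lc_a_rc_8_2 lc_a_rc_9_2 lc_a_rc_2_2 lc_a_rc_3_2 lc_a_rc_5_2 lc_a_rc_7_2 lc_a_rc_2_2 lc_a_rc_2_2 lc_a_rc_4_2 lc_a_rc_3_2 lc_a_rc_5_2 lc_a_rc_9_2 lc_a_rc_8_2 lc_a_rc_4_2 lc_a_rc_4_2 lc_a_rc_3_2 lc_a_rc_3_2 lc_a_rc_3_2 lc_a_rc_9_2 lc_a_rc_2_2 lc_a_rc_2_2 lc_a_rc_4_2 lc_a_rc_3_2 lc_a_rc_5_2 lc_a_rc_9_2 lc_a_rc_8_2 lc_a_rc_2_2 lc_a_rc_2_2 lc_a_rc_2_2 lc_a_rc_3_2 lc_a_rc_2_2 lc_a_rc_4_2 lc_a_rc_5_2 lc_a_rc_3_2 lc_a_rc_5_2 lc_a_rc_9_2 lc_a_rc_7_2 lc_a_rc_8_2 lc_a_rc_7_2 lc_a_rc_3_2 lc_a_rc_9_2 lc_a_rc_8_2 lc_a_rc_9_2 lc_a_rc_1_2 lc_a_rc_1_2 lc_a_rc_2_2 lc_a_rc_2_2 lc_a_rc_2_2)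
def ce_a_5 : D2 → D3 → (Cert rels S Gen.a) := @D2.rec (fun _ => D3 → (Cert rels S Gen.a)) (@D3.rec (fun _ => (Cert rels S Gen.a)) lc_a_rc_3_2 lc_a_rc_2_2 lc_a_rc_4_2 lc_a_rc_5_2 lc_a_rc_3_2 lc_a_rc_5_2 lc_a_rc_9_2 lc_a_rc_3_2 lc_a_rc_2_2 lc_a_rc_2_2 lc_a_rc_2_2 lc_a_rc_2_2 lc_a_rc_3_2 lc_a_rc_2_2 lc_a_rc_3_2 lc_a_rc_3_2 lc_a_rc_6_2 lc_a_rc_4_2 lc_a_rc_5_2 lc_a_rc_3_2 lc_a_rc_9_2 lc_a_rc_5_2 lc_a_rc_9_2 lc_a_rc_8_2 lc_a_rc_7_2 lc_a_rc_8_2 lc_a_rc_3_2 lc_a_rc_9_2 lc_a_rc_2_2 lc_a_rc_3_2 lc_a_rc_9_2 lc_a_rc_1_2 lc_a_rc_2_2 lc_a_rc_2_2 lc_a_rc_3_2 lc_a_rc_5_2 lc_a_rc_9_2 lc_a_rc_8_2 lc_a_rc_2_2 lc_a_rc_2_2 lc_a_rc_2_2 lc_a_rc_3_2 lc_a_rc_2_2 lc_a_rc_4_2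 lc_a_rc_3_2 lc_a_rc_3_2 lc_a_rc_5_2 lc_a_rc_9_2 lc_a_rc_6_2 lc_a_rc_4_2 lc_a_rc_4_2) (@D3.rec (fun _ => (Cert rels S Gen.a)) lc_a_rc_4_2 lc_a_rc_4_2 lc_a_rc_3_2 lc_a_rc_3_2 lc_a_rc_9_2 lc_a_rc_9_0 lc_a_rc_2_2 lc_a_rc_2_2 lc_a_rc_2_2 lc_a_rc_3_2 lc_a_rc_2_2 lc_a_rc_4_2 lc_a_rc_5_2 lc_a_rc_3_2 lc_a_rc_5_2 lc_a_rc_9_2 lc_a_rc_5_0 lc_a_rc_2_2 lc_a_rc_2_2 lc_a_rc_2_2 lc_a_rc_2_2 lc_a_rc_3_2 lc_a_rc_2_2 lc_a_rc_6_0 lc_a_rc_3_2 lc_a_rc_6_2 lc_a_rc_4_2 lc_a_rc_5_2 lc_a_rc_3_2 lc_a_rc_9_2 lc_a_rc_5_2 lc_a_rc_9_2 lc_a_rc_8_2 lc_a_rc_7_2 lc_a_rc_8_2 lc_a_rc_3_2 lc_a_rc_9_2 lc_a_rc_2_2 lc_a_rc_3_2 lc_a_rc_9_2 lc_a_rc_1_2 lc_a_rc_1_2 lc_a_rc_1_2 lc_a_rc_1_2 lc_a_rc_3_2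 lc_a_rc_2_2 lc_a_rc_2_2 lc_a_rc_2_2 lc_a_rc_2_2 lc_a_rc_3_2 lc_a_rc_2_2) (@D3.rec (fun _ => (Cert rels S Gen.a)) lc_a_rc_3_2 lc_a_rc_6_2 lc_a_rc_4_2 lc_a_rc_5_2 lc_a_rc_3_2 lc_a_rc_9_2 lc_a_rc_5_2 lc_a_rc_9_2 lc_a_rc_3_2 lc_a_rc_5_2 lc_a_rc_2_2 lc_a_rc_2_2 lc_a_rc_2_2 lc_a_rc_3_2 lc_a_rc_2_2 lc_a_rc_2_2 lc_a_rc_3_2 lc_a_rc_2_2 lc_a_rc_4_2 lc_a_rc_3_2 lc_a_rc_56_28 lc_a_rc_3_2 lc_a_rc_5_2 lc_a_rc_6_2 lc_a_rc_6_2 lc_a_rc_5_2 lc_a_rc_3_2 lc_a_rc_9_2 lc_a_rc_2_2 lc_a_rc_3_2 lc_a_rc_9_2 lc_a_rc_8_2 lc_a_rc_8_2 lc_a_rc_3_2 lc_a_rc_9_2 lc_a_rc_3_2 lc_a_rc_9_2 lc_a_rc_2_2 lc_a_rc_3_2 lc_a_Cert_tree lc_a_rc_2_2 lc_a_rc_5_2 lc_a_rc_2_2 lc_a_rc_2_2 lc_a_rc_5_2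 lc_a_rc_4_2 lc_a_rc_6_2 lc_a_rc_6_2 lc_a_rc_4_2 lc_a_rc_4_2 lc_a_rc_2_2) (@D3.rec (fun _ => (Cert rels S Gen.a)) lc_a_rc_6_2 lc_a_rc_4_2 lc_a_rc_5_0 lc_a_rc_3_2 lc_a_rc_5_2 lc_a_rc_5_2 lc_a_rc_6_2 lc_a_rc_5_2 lc_a_rc_5_2 lc_a_rc_5_0 lc_a_rc_5_0 lc_a_rc_8_2 lc_a_rc_8_2 lc_a_rc_3_2 lc_a_rc_9_2 lc_a_rc_3_2 lc_a_rc_9_2 lc_a_rc_2_2 lc_a_rc_3_2 lc_a_Cert_tree lc_a_rc_2_2 lc_a_rc_5_2 lc_a_rc_3_2 lc_a_rc_5_2 lc_a_rc_2_2 lc_a_rc_2_2 lc_a_rc_6_2 lc_a_rc_6_2 lc_a_rc_5_2 lc_a_rc_3_2 lc_a_rc_2_2 lc_a_rc_3_2 lc_a_rc_3_2 lc_a_rc_5_2 lc_a_rc_2_0 lc_a_rc_9_2 lc_a_rc_2_2 lc_a_rc_6_2 lc_a_rc_8_2 lc_a_rc_2_0 lc_a_rc_1_0 lc_a_rc_7_2 lc_a_rc_6_2 lc_a_rc_3_2 lc_a_rc_3_0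 lc_a_rc_3_2 lc_a_rc_3_0 lc_a_rc_2_2 lc_a_rc_2_0 lc_a_Cert_tree lc_a_rc_1_0) (@D3.rec (fun _ => (Cert rels S Gen.a)) lc_a_rc_2_0 lc_a_rc_8_2 lc_a_rc_3_2 lc_a_rc_9_2 lc_a_rc_2_2 lc_a_rc_4_2 lc_a_rc_3_2 lc_a_rc_2_2 lc_a_rc_3_2 lc_a_Cert_tree lc_a_rc_2_2 lc_a_rc_5_2 lc_a_rc_0_0 lc_a_rc_9_2 lc_a_rc_2_2 lc_a_rc_3_2 lc_a_rc_4_0 lc_a_rc_3_2 lc_a_rc_6_2 lc_a_rc_7_2 lc_a_rc_0_1 lc_a_rc_7_2 lc_a_rc_4_2 lc_a_rc_5_2 lc_a_rc_2_2 lc_a_rc_3_2 lc_a_rc_3_2 lc_a_rc_5_0 lc_a_rc_3_2 lc_a_rc_9_2 lc_a_rc_3_2 lc_a_rc_7_2 lc_a_rc_4_0 lc_a_rc_4_2 lc_a_rc_7_2 lc_a_rc_4_0 lc_a_rc_9_2 lc_a_rc_3_2 lc_a_rc_5_2 lc_a_rc_5_2 lc_a_rc_9_2 lc_a_rc_9_2 lc_a_rc_2_2 lc_a_rc_2_2 lc_a_rc_3_2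 lc_a_rc_3_2 lc_a_rc_3_2 lc_a_rc_3_2 lc_a_rc_5_0 lc_a_rc_3_2 lc_a_rc_5_2) (@D3.rec (fun _ => (Cert rels S Gen.a)) lc_a_rc_9_2 lc_a_rc_4_2 lc_a_rc_3_2 lc_a_rc_8_2 lc_a_rc_56_14 lc_a_rc_7_2 lc_a_rc_4_2 lc_a_rc_0_1 lc_a_rc_8_2 lc_a_rc_7_2 lc_a_rc_9_2 lc_a_rc_3_2 lc_a_rc_3_2 lc_a_rc_5_2 lc_a_rc_5_2 lc_a_rc_9_2 lc_a_rc_5_2 lc_a_rc_9_2 lc_a_rc_3_2 lc_a_rc_3_2 lc_a_rc_6_2 lc_a_rc_3_2 lc_a_rc_4_2 lc_a_rc_3_2 lc_a_rc_2_0 lc_a_rc_9_2 lc_a_rc_0_0 lc_a_rc_2_2 lc_a_rc_2_2 lc_a_rc_2_2 lc_a_rc_2_2 lc_a_rc_2_2 lc_a_rc_1_2 lc_a_rc_2_2 lc_a_rc_2_2 lc_a_rc_4_2 lc_a_rc_3_2 lc_a_rc_5_2 lc_a_rc_9_2 lc_a_rc_8_2 lc_a_rc_2_2 lc_a_rc_2_2 lc_a_rc_2_2 lc_a_rc_3_2 lc_a_rc_2_2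 lc_a_rc_4_2 lc_a_rc_5_2 lc_a_rc_3_2 lc_a_rc_5_2 lc_a_rc_9_2 lc_a_rc_2_2) (@D3.rec (fun _ => (Cert rels S Gen.a)) lc_a_rc_2_2 lc_a_rc_2_2 lc_a_rc_3_2 lc_a_rc_2_2 lc_a_rc_2_2 lc_a_rc_2_2 lc_a_rc_4_2 lc_a_rc_3_2 lc_a_rc_3_2 lc_a_rc_4_2 lc_a_rc_6_2 lc_a_rc_6_2 lc_a_rc_3_2 lc_a_rc_4_2 lc_a_rc_4_2 lc_a_rc_3_2 lc_a_rc_2_0 lc_a_rc_2_0 lc_a_rc_2_2 lc_a_rc_2_2 lc_a_rc_2_2 lc_a_rc_3_2 lc_a_rc_2_2 lc_a_rc_2_2 lc_a_rc_2_2 lc_a_rc_1_2 lc_a_rc_9_0 lc_a_rc_2_2 lc_a_rc_2_2 lc_a_rc_2_2 lc_a_rc_3_2 lc_a_rc_2_2 lc_a_rc_4_2 lc_a_rc_5_2 lc_a_rc_3_2 lc_a_rc_5_2 lc_a_rc_9_2 lc_a_rc_3_2 lc_a_rc_2_2 lc_a_rc_2_2 lc_a_rc_2_2 lc_a_rc_2_2 lc_a_rc_3_2 lc_a_rc_2_2 lc_a_rc_9_0 lc_a_rc_3_2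 lc_a_rc_6_2 lc_a_rc_4_2 lc_a_rc_5_2 lc_a_rc_3_2 lc_a_rc_9_2) (@D3.rec (fun _ => (Cert rels S Gen.a)) lc_a_rc_5_2 lc_a_rc_9_2 lc_a_rc_2_2 lc_a_rc_2_2 lc_a_rc_2_2 lc_a_rc_3_2 lc_a_rc_2_2 lc_a_rc_2_2 lc_a_rc_3_2 lc_a_rc_2_2 lc_a_rc_4_2 lc_a_rc_4_2 lc_a_rc_4_2 lc_a_rc_3_2 lc_a_rc_3_2 lc_a_rc_3_2 lc_a_rc_4_2 lc_a_rc_4_2 lc_a_rc_3_2 lc_a_rc_3_2 lc_a_rc_3_2 lc_a_rc_2_0 lc_a_rc_8_2 lc_a_rc_7_2 lc_a_rc_2_0 lc_a_rc_9_2 lc_a_rc_8_2 lc_a_rc_9_2 lc_a_rc_2_2 lc_a_rc_2_2 lc_a_rc_2_2 lc_a_rc_3_2 lc_a_rc_2_2 lc_a_rc_2_2 lc_a_rc_3_2 lc_a_rc_2_2 lc_a_rc_1_2 lc_a_rc_1_2 lc_a_rc_9_0 lc_a_rc_3_2 lc_a_rc_3_2 lc_a_rc_2_2 lc_a_rc_2_2 lc_a_rc_2_2 lc_a_rc_2_2 lc_a_rc_3_2 lc_a_rc_2_2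 lc_a_rc_3_2 lc_a_rc_6_2 lc_a_rc_4_2 lc_a_rc_5_2) (@D3.rec (fun _ => (Cert rels S Gen.a)) lc_a_rc_3_2 lc_a_rc_9_2 lc_a_rc_5_2 lc_a_rc_9_2 lc_a_rc_3_2 lc_a_rc_5_2 lc_a_rc_2_2 lc_a_rc_2_2 lc_a_rc_2_2 lc_a_rc_3_2 lc_a_rc_2_2 lc_a_rc_2_2 lc_a_rc_3_2 lc_a_rc_2_2 lc_a_rc_4_2 lc_a_rc_3_2 lc_a_rc_9_0 lc_a_rc_5_2 lc_a_rc_6_2 lc_a_rc_6_2 lc_a_rc_5_2 lc_a_rc_3_2 lc_a_rc_9_2 lc_a_rc_2_2 lc_a_rc_3_2 lc_a_rc_9_2 lc_a_rc_2_2 lc_a_rc_2_2 lc_a_rc_3_2 lc_a_rc_2_2 lc_a_rc_3_2 lc_a_rc_2_2 lc_a_rc_2_2 lc_a_rc_3_2 lc_a_Cert_tree lc_a_rc_2_2 lc_a_rc_5_2 lc_a_rc_8_2 lc_a_rc_2_2 lc_a_rc_2_2 lc_a_rc_4_2 lc_a_rc_3_2 lc_a_rc_5_2 lc_a_rc_9_2 lc_a_rc_8_2 lc_a_rc_2_2 lc_a_rc_2_2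 lc_a_rc_2_2 lc_a_rc_9_0 lc_a_rc_2_2 lc_a_rc_4_2) (@D3.rec (fun _ => (Cert rels S Gen.a)) lc_a_rc_5_2 lc_a_rc_3_2 lc_a_rc_5_2 lc_a_rc_9_2 lc_a_rc_6_2 lc_a_rc_4_2 lc_a_rc_5_2 lc_a_rc_3_2 lc_a_rc_9_2 lc_a_rc_5_2 lc_a_rc_9_2 lc_a_rc_1_2 lc_a_rc_2_2 lc_a_rc_2_2 lc_a_rc_2_2 lc_a_rc_2_2 lc_a_rc_4_2 lc_a_rc_5_2 lc_a_rc_3_2 lc_a_rc_5_2 lc_a_rc_9_2 lc_a_rc_3_2 lc_a_rc_2_2 lc_a_rc_2_2 lc_a_rc_2_2 lc_a_rc_2_2 lc_a_rc_6_2 lc_a_rc_2_2 lc_a_rc_4_2 lc_a_rc_3_2 lc_a_rc_6_2 lc_a_rc_4_2 lc_a_rc_5_2 lc_a_rc_3_2 lc_a_rc_9_2 lc_a_rc_5_2 lc_a_rc_9_2 lc_a_rc_6_2 lc_a_rc_6_2 lc_a_rc_5_2 lc_a_rc_3_2 lc_a_rc_9_2 lc_a_rc_2_2 lc_a_rc_3_2 lc_a_rc_9_2 lc_a_rc_9_2 lc_a_rc_2_2 lc_a_rc_2_2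 lc_a_rc_2_2 lc_a_rc_2_2 lc_a_rc_4_2) (@D3.rec (fun _ => (Cert rels S Gen.a)) lc_a_rc_5_2 lc_a_rc_3_2 lc_a_rc_5_2 lc_a_rc_9_2 lc_a_rc_3_2 lc_a_rc_2_2 lc_a_rc_2_2 lc_a_rc_2_2 lc_a_rc_2_2 lc_a_rc_9_0 lc_a_rc_2_2 lc_a_rc_5_0 lc_a_rc_6_2 lc_a_rc_4_2 lc_a_rc_5_2 lc_a_rc_3_2 lc_a_rc_9_2 lc_a_rc_5_2 lc_a_rc_9_2 lc_a_rc_6_2 lc_a_rc_6_2 lc_a_rc_5_2 lc_a_rc_3_2 lc_a_rc_9_2 lc_a_rc_2_2 lc_a_rc_3_2 lc_a_rc_9_2 lc_a_rc_1_2 lc_a_rc_1_2 lc_a_rc_3_2 lc_a_rc_2_2 lc_a_rc_2_2 lc_a_rc_2_2 lc_a_rc_2_2 lc_a_rc_2_2 lc_a_rc_6_2 lc_a_rc_4_2 lc_a_rc_5_2 lc_a_rc_3_2 lc_a_rc_9_2 lc_a_rc_5_2 lc_a_rc_9_2 lc_a_rc_3_2 lc_a_rc_5_2 lc_a_rc_2_2 lc_a_rc_2_2 lc_a_rc_2_2 lc_a_rc_3_2 lc_a_rc_2_2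 lc_a_rc_2_2 lc_a_rc_6_2) (@D3.rec (fun _ => (Cert rels S Gen.a)) lc_a_rc_2_2 lc_a_rc_4_2 lc_a_rc_5_0 lc_a_rc_6_2 lc_a_rc_4_2 lc_a_rc_6_2 lc_a_rc_6_2 lc_a_rc_5_2 lc_a_rc_3_2 lc_a_rc_9_2 lc_a_rc_2_2 lc_a_rc_3_2 lc_a_rc_9_2 lc_a_rc_7_2 lc_a_rc_6_2 lc_a_rc_3_2 lc_a_rc_9_2 lc_a_rc_3_2 lc_a_rc_9_2 lc_a_rc_2_2 lc_a_rc_3_2 lc_a_Cert_tree lc_a_rc_2_2 lc_a_rc_5_2 lc_a_rc_1_2 lc_a_rc_7_2 lc_a_rc_2_2 lc_a_rc_2_2 lc_a_rc_2_2 lc_a_rc_2_2 lc_a_rc_2_2 lc_a_rc_6_2 lc_a_rc_4_2 lc_a_rc_5_2 lc_a_rc_9_2 lc_a_rc_5_2 lc_a_rc_9_2 lc_a_rc_5_0 lc_a_rc_3_0 lc_a_rc_2_2 lc_a_rc_2_2 lc_a_rc_2_2 lc_a_rc_3_2 lc_a_rc_2_2 lc_a_rc_2_2 lc_a_rc_9_0 lc_a_rc_2_2 lc_a_rc_9_0 lc_a_rc_4_0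 lc_a_rc_6_2 lc_a_rc_6_2) (@D3.rec (fun _ => (Cert rels S Gen.a)) lc_a_rc_5_2 lc_a_rc_3_2 lc_a_rc_9_2 lc_a_rc_3_0 lc_a_rc_3_2 lc_a_rc_9_2 lc_a_rc_7_2 lc_a_rc_6_2 lc_a_rc_3_2 lc_a_rc_9_2 lc_a_rc_3_2 lc_a_rc_9_2 lc_a_rc_2_2 lc_a_rc_3_2 lc_a_Cert_tree lc_a_rc_2_2 lc_a_rc_5_2 lc_a_rc_1_2 lc_a_rc_1_2 lc_a_rc_1_2 lc_a_rc_3_2 lc_a_rc_5_2 lc_a_rc_2_2 lc_a_rc_2_2 lc_a_rc_2_2 lc_a_rc_3_2 lc_a_rc_2_2 lc_a_rc_2_2 lc_a_rc_2_2 lc_a_rc_6_2 lc_a_rc_6_2 lc_a_rc_5_2 lc_a_rc_3_2 lc_a_rc_9_2 lc_a_rc_2_2 lc_a_rc_3_2 lc_a_rc_9_2 lc_a_rc_3_2 lc_a_rc_3_2 lc_a_rc_5_2 lc_a_rc_5_2 lc_a_rc_9_2 lc_a_rc_2_2 lc_a_rc_2_2 lc_a_rc_2_2 lc_a_rc_3_2 lc_a_rc_2_2 lc_a_rc_2_2 lc_a_rc_9_0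 lc_a_rc_3_2 lc_a_rc_3_2) (@D3.rec (fun _ => (Cert rels S Gen.a)) lc_a_rc_2_2 lc_a_rc_4_2 lc_a_rc_3_2 lc_a_rc_6_2 lc_a_rc_4_2 lc_a_rc_7_2 lc_a_rc_5_0 lc_a_rc_7_2 lc_a_rc_6_2 lc_a_rc_3_2 lc_a_rc_9_2 lc_a_rc_3_2 lc_a_rc_9_2 lc_a_rc_2_2 lc_a_rc_3_2 lc_a_Cert_tree lc_a_rc_2_2 lc_a_rc_2_0 lc_a_rc_7_2 lc_a_rc_3_2 lc_a_rc_9_2 lc_a_rc_2_2 lc_a_rc_4_2 lc_a_rc_3_2 lc_a_rc_2_2 lc_a_rc_3_2 lc_a_Cert_tree lc_a_rc_2_2 lc_a_rc_5_2 lc_a_rc_0_0 lc_a_rc_9_2 lc_a_rc_2_2 lc_a_rc_6_2 lc_a_rc_5_0 lc_a_rc_5_0 lc_a_rc_3_2 lc_a_rc_3_2 lc_a_rc_5_2 lc_a_rc_7_2 lc_a_rc_5_2 lc_a_rc_5_0 lc_a_rc_5_0 lc_a_rc_5_0 lc_a_Cert_tree lc_a_rc_7_2 lc_a_rc_3_2 lc_a_rc_9_2 lc_a_rc_2_2 lc_a_rc_4_2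 lc_a_rc_3_2 lc_a_rc_2_2) (@D3.rec (fun _ => (Cert rels S Gen.a)) lc_a_rc_3_2 lc_a_Cert_tree lc_a_rc_2_2 lc_a_rc_5_2 lc_a_rc_0_0 lc_a_rc_9_2 lc_a_rc_2_2 lc_a_rc_3_2 lc_a_rc_3_2 lc_a_rc_5_2 lc_a_rc_9_2 lc_a_rc_2_2 lc_a_rc_7_2 lc_a_rc_6_2 lc_a_rc_3_2 lc_a_rc_3_2 lc_a_rc_2_2 lc_a_Cert_tree lc_a_rc_4_2 lc_a_rc_3_2 lc_a_rc_5_2 lc_a_rc_5_2 lc_a_rc_2_0 lc_a_rc_9_2 lc_a_rc_1_0 lc_a_rc_2_0 lc_a_rc_2_2 lc_a_rc_6_2 lc_a_rc_2_0 lc_a_rc_2_0 lc_a_rc_1_0 lc_a_Cert_tree lc_a_rc_7_2 lc_a_rc_3_2 lc_a_rc_8_2 lc_a_rc_2_2 lc_a_rc_4_2 lc_a_rc_6_2 lc_a_rc_2_2 lc_a_rc_8_2 lc_a_Cert_tree lc_a_rc_1_0 lc_a_rc_2_0 lc_a_rc_0_0 lc_a_rc_9_2 lc_a_rc_1_0 lc_a_rc_3_2 lc_a_rc_9_2 lc_a_rc_2_2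 lc_a_rc_4_2 lc_a_rc_3_2) (@D3.rec (fun _ => (Cert rels S Gen.a)) lc_a_Cert_tree lc_a_rc_5_2 lc_a_Cert_tree lc_a_rc_5_2 lc_a_rc_0_0 lc_a_rc_9_2 lc_a_rc_2_2 lc_a_rc_9_2 lc_a_rc_5_2 lc_a_rc_3_2 lc_a_rc_2_2 lc_a_rc_2_2 lc_a_rc_2_2 lc_a_rc_5_2 lc_a_rc_3_2 lc_a_rc_9_2 lc_a_rc_5_2 lc_a_rc_9_2 lc_a_rc_2_2 lc_a_rc_0_1 lc_a_rc_2_2 lc_a_rc_5_2 lc_a_rc_2_0 lc_a_rc_2_2 lc_a_rc_4_2 lc_a_rc_2_0 lc_a_rc_2_0 lc_a_rc_0_1 lc_a_rc_0_1 lc_a_rc_0_1 lc_a_rc_3_2 lc_a_rc_9_2 lc_a_rc_2_2 lc_a_rc_3_2 lc_a_rc_9_2 lc_a_rc_6_2 lc_a_rc_3_2 lc_a_rc_9_2 lc_a_rc_3_2 lc_a_rc_9_2 lc_a_rc_2_2 lc_a_rc_3_2 lc_a_Cert_tree lc_a_rc_2_2 lc_a_rc_5_2 lc_a_rc_2_2 lc_a_rc_3_2 lc_a_rc_2_2 lc_a_rc_2_2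 lc_a_rc_2_2 lc_a_rc_6_2) (@D3.rec (fun _ => (Cert rels S Gen.a)) lc_a_rc_5_2 lc_a_rc_3_2 lc_a_rc_9_2 lc_a_rc_2_2 lc_a_rc_3_2 lc_a_rc_9_2 lc_a_rc_2_0 lc_a_rc_9_2 lc_a_rc_6_2 lc_a_rc_3_0 lc_a_rc_3_2 lc_a_rc_2_2 lc_a_rc_2_2 lc_a_rc_3_2 lc_a_rc_3_2 lc_a_rc_2_0 lc_a_rc_2_2 lc_a_rc_4_2 lc_a_rc_2_0 lc_a_rc_4_2 lc_a_rc_4_2 lc_a_rc_2_0 lc_a_rc_2_0 lc_a_rc_6_2 lc_a_rc_3_2 lc_a_rc_9_2 lc_a_rc_3_2 lc_a_rc_9_2 lc_a_rc_2_2 lc_a_rc_3_2 lc_a_Cert_tree lc_a_rc_2_2 lc_a_rc_5_2 lc_a_rc_7_2 lc_a_rc_3_2 lc_a_rc_9_2 lc_a_rc_2_2 lc_a_rc_4_2 lc_a_rc_3_2 lc_a_rc_2_2 lc_a_rc_3_2 lc_a_Cert_tree lc_a_rc_2_2 lc_a_rc_5_2 lc_a_rc_0_0 lc_a_rc_9_2 lc_a_rc_2_2 lc_a_rc_2_2 lc_a_rc_2_2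 lc_a_rc_3_2 lc_a_rc_2_2) (@D3.rec (fun _ => (Cert rels S Gen.a)) lc_a_rc_2_2 lc_a_rc_3_2 lc_a_rc_2_2 lc_a_rc_6_2 lc_a_rc_3_2 lc_a_rc_9_2 lc_a_rc_3_2 lc_a_rc_9_2 lc_a_rc_2_2 lc_a_rc_3_2 lc_a_Cert_tree lc_a_rc_2_2 lc_a_rc_5_2 lc_a_rc_0_1 lc_a_rc_3_2 lc_a_rc_2_2 lc_a_rc_3_2 lc_a_rc_2_2 lc_a_rc_2_2 lc_a_rc_2_0 lc_a_rc_3_2 lc_a_Cert_tree lc_a_rc_9_0 lc_a_rc_2_2 lc_a_rc_56_28 lc_a_rc_56_0 lc_a_rc_5_2 lc_a_rc_8_2 lc_a_rc_9_2 lc_a_rc_2_0 lc_a_rc_9_2 lc_a_rc_7_2 lc_a_rc_9_2 lc_a_rc_0_1 lc_a_rc_0_1 lc_a_rc_56_35 lc_a_rc_3_2 lc_a_rc_9_2 lc_a_rc_2_2 lc_a_rc_4_2 lc_a_rc_3_2 lc_a_rc_2_2 lc_a_rc_3_2 lc_a_Cert_tree lc_a_rc_2_2 lc_a_rc_5_2 lc_a_rc_0_0 lc_a_rc_9_2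 lc_a_rc_2_2 lc_a_rc_9_2 lc_a_rc_3_2) (@D3.rec (fun _ => (Cert rels S Gen.a)) lc_a_Cert_tree lc_a_rc_2_2 lc_a_rc_4_2 lc_a_rc_5_2 lc_a_Cert_tree lc_a_rc_0_0 lc_a_rc_9_2 lc_a_rc_9_2 lc_a_rc_5_2 lc_a_rc_3_2 lc_a_rc_2_2 lc_a_rc_4_2 lc_a_rc_3_2 lc_a_rc_2_2 lc_a_rc_3_2 lc_a_Cert_tree lc_a_rc_2_2 lc_a_rc_5_2 lc_a_rc_0_0 lc_a_rc_9_2 lc_a_rc_2_2 lc_a_rc_2_2 lc_a_rc_6_2 lc_a_rc_2_2 lc_a_rc_2_2 lc_a_rc_0_0 lc_a_rc_2_2 lc_a_rc_9_2 lc_a_rc_5_2 lc_a_rc_3_2 lc_a_rc_5_2 lc_a_rc_3_2 lc_a_rc_56_42 lc_a_rc_56_42 lc_a_rc_0_0 lc_a_rc_6_2 lc_a_rc_2_2 lc_a_rc_1_4 lc_a_rc_9_2 lc_a_rc_9_2 lc_a_rc_3_2 lc_a_rc_4_2 lc_a_rc_3_0 lc_a_rc_4_2 lc_a_rc_6_2 lc_a_rc_3_2 lc_a_rc_2_2 lc_a_rc_2_2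 lc_a_rc_1_4 lc_a_rc_5_2 lc_a_rc_9_2) (@D3.rec (fun _ => (Cert rels S Gen.a)) lc_a_rc_4_2 lc_a_rc_9_2 lc_a_rc_7_2 lc_a_rc_5_2 lc_a_rc_1_0 lc_a_rc_2_2 lc_a_rc_1_2 lc_a_rc_4_2 lc_a_rc_1_2 lc_a_rc_3_2 lc_a_rc_5_2 lc_a_rc_2_2 lc_a_rc_3_2 lc_a_rc_2_2 lc_a_rc_2_2 lc_a_rc_3_2 lc_a_rc_0_1 lc_a_rc_5_2 lc_a_rc_5_2 lc_a_rc_9_2 lc_a_rc_3_2 lc_a_rc_56_35 lc_a_rc_3_2 lc_a_rc_8_2 lc_a_rc_7_2 lc_a_rc_6_2 lc_a_rc_9_2 lc_a_rc_56_42 lc_a_rc_2_2 lc_a_rc_2_2 lc_a_rc_3_2 lc_a_rc_3_2 lc_a_rc_5_2 lc_a_rc_4_2 lc_a_rc_6_2 lc_a_rc_3_2 lc_a_rc_2_2 lc_a_rc_2_2 lc_a_rc_3_2 lc_a_rc_5_2 lc_a_rc_2_2 lc_a_rc_3_2 lc_a_rc_5_2 lc_a_rc_5_2 lc_a_rc_3_2 lc_a_rc_9_2 lc_a_rc_3_2 lc_a_rc_4_2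 lc_a_rc_4_2 lc_a_rc_7_2 lc_a_rc_3_2) (@D3.rec (fun _ => (Cert rels S Gen.a)) lc_a_rc_5_2 lc_a_rc_2_2 lc_a_rc_2_2 lc_a_rc_3_2 lc_a_rc_3_2 lc_a_rc_5_2 lc_a_rc_2_0 lc_a_rc_9_2 lc_a_rc_3_2 lc_a_rc_0_1 lc_a_rc_2_2 lc_a_rc_3_2 lc_a_rc_3_2 lc_a_rc_5_2 lc_a_rc_9_2 lc_a_rc_4_2 lc_a_rc_5_2 lc_a_rc_5_2 lc_a_rc_7_2 lc_a_rc_9_2 lc_a_rc_5_2 lc_a_rc_9_2 lc_a_rc_7_2 lc_a_rc_6_2 lc_a_rc_4_2 lc_a_rc_6_2 lc_a_rc_7_2 lc_a_rc_8_2 lc_a_rc_3_2 lc_a_rc_3_2 lc_a_rc_5_2 lc_a_rc_9_2 lc_a_rc_2_2 lc_a_rc_4_2 lc_a_rc_3_2 lc_a_rc_5_2 lc_a_rc_5_2 lc_a_rc_3_2 lc_a_rc_9_2 lc_a_rc_56_35 lc_a_rc_3_2 lc_a_rc_5_0 lc_a_rc_4_2 lc_a_rc_2_2 lc_a_rc_3_2 lc_a_rc_2_2 lc_a_rc_2_2 lc_a_rc_1_2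 lc_a_rc_1_2 lc_a_rc_1_2 lc_a_rc_1_2) (@D3.rec (fun _ => (Cert rels S Gen.a)) lc_a_rc_1_2 lc_a_rc_4_2 lc_a_rc_3_2 lc_a_rc_5_2 lc_a_rc_5_2 lc_a_rc_9_2 lc_a_rc_0_1 lc_a_rc_5_2 lc_a_rc_5_2 lc_a_rc_9_2 lc_a_rc_9_2 lc_a_rc_5_2 lc_a_rc_6_2 lc_a_rc_3_2 lc_a_rc_4_2 lc_a_rc_4_2 lc_a_rc_2_0 lc_a_rc_9_2 lc_a_rc_5_2 lc_a_rc_7_2 lc_a_rc_2_2 lc_a_rc_4_2 lc_a_rc_3_2 lc_a_rc_3_2 lc_a_rc_2_2 lc_a_rc_3_2 lc_a_rc_4_2 lc_a_rc_4_2 lc_a_rc_4_2 lc_a_rc_2_0 lc_a_rc_2_0 lc_a_rc_2_0 lc_a_rc_8_2 lc_a_rc_9_2 lc_a_rc_0_1 lc_a_rc_9_2 lc_a_rc_2_2 lc_a_rc_4_2 lc_a_rc_3_2 lc_a_rc_3_2 lc_a_rc_3_2 lc_a_rc_5_2 lc_a_rc_3_2 lc_a_rc_3_2 lc_a_rc_4_2 lc_a_rc_3_2 lc_a_rc_4_2 lc_a_rc_3_2 lc_a_rc_2_2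 lc_a_rc_6_2 lc_a_rc_7_2) (@D3.rec (fun _ => (Cert rels S Gen.a)) lc_a_rc_5_2 lc_a_rc_5_2 lc_a_rc_56_28 lc_a_rc_2_2 lc_a_rc_9_2 lc_a_rc_4_2 lc_a_rc_3_2 lc_a_rc_3_2 lc_a_rc_2_2 lc_a_rc_5_2 lc_a_rc_9_2 lc_a_rc_56_7 lc_a_rc_3_2 lc_a_rc_2_2 lc_a_rc_6_0 lc_a_rc_3_2 lc_a_rc_9_2 lc_a_rc_4_2 lc_a_rc_4_2 lc_a_rc_4_2 lc_a_rc_3_2 lc_a_rc_3_2 lc_a_rc_1_2 lc_a_rc_2_2 lc_a_rc_3_2 lc_a_rc_2_2 lc_a_rc_5_2 lc_a_rc_5_2 lc_a_rc_9_2 lc_a_rc_56_7 lc_a_rc_6_2 lc_a_rc_3_2 lc_a_rc_2_2 lc_a_rc_4_2 lc_a_rc_3_2 lc_a_rc_56_28 lc_a_rc_3_2 lc_a_rc_9_2 lc_a_rc_6_2 lc_a_rc_9_2 lc_a_rc_6_2 lc_a_rc_4_2 lc_a_rc_4_2 lc_a_rc_4_2 lc_a_rc_2_2 lc_a_rc_4_2 lc_a_rc_3_2 lc_a_rc_3_2 lc_a_rc_9_2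 lc_a_rc_3_2 lc_a_rc_5_2) (@D3.rec (fun _ => (Cert rels S Gen.a)) lc_a_rc_2_2 lc_a_rc_8_2 lc_a_rc_3_2 lc_a_rc_7_2 lc_a_rc_56_28 lc_a_rc_7_2 lc_a_rc_9_2 lc_a_rc_3_2 lc_a_rc_4_2 lc_a_rc_6_0 lc_a_rc_3_2 lc_a_rc_3_2 lc_a_rc_5_2 lc_a_rc_9_2 lc_a_rc_2_2 lc_a_rc_3_2 lc_a_rc_4_0 lc_a_rc_4_2 lc_a_rc_5_2 lc_a_rc_2_2 lc_a_rc_3_2 lc_a_rc_5_2 lc_a_rc_9_2 lc_a_rc_3_2 lc_a_rc_3_2 lc_a_rc_5_2 lc_a_rc_7_2 lc_a_rc_3_2 lc_a_rc_5_2 lc_a_rc_3_2 lc_a_rc_5_2 lc_a_rc_9_2 lc_a_rc_4_2 lc_a_rc_3_2 lc_a_rc_56_14 lc_a_rc_7_2 lc_a_rc_4_2 lc_a_rc_0_0 lc_a_rc_5_2 lc_a_rc_7_2 lc_a_rc_3_2 lc_a_rc_3_2 lc_a_rc_5_2 lc_a_rc_5_2 lc_a_rc_9_2 lc_a_rc_6_2 lc_a_rc_5_2 lc_a_rc_4_2 lc_a_rc_2_0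 lc_a_rc_2_0 lc_a_rc_8_2) (@D3.rec (fun _ => (Cert rels S Gen.a)) lc_a_rc_9_2 lc_a_rc_2_2 lc_a_rc_2_2 lc_a_rc_2_2 lc_a_rc_2_2 lc_a_rc_2_2 lc_a_rc_1_2 lc_a_rc_2_2 lc_a_rc_2_2 lc_a_rc_4_2 lc_a_rc_3_2 lc_a_rc_5_2 lc_a_rc_9_2 lc_a_rc_2_2 lc_a_rc_2_2 lc_a_rc_2_2 lc_a_rc_3_2 lc_a_rc_2_2 lc_a_rc_4_2 lc_a_rc_5_2 lc_a_rc_2_0 lc_a_rc_56_21 lc_a_rc_9_2 lc_a_rc_2_2 lc_a_rc_2_2 lc_a_rc_2_2 lc_a_rc_3_2 lc_a_rc_2_2 lc_a_rc_2_2 lc_a_rc_2_2 lc_a_rc_4_2 lc_a_rc_7_2 lc_a_rc_6_2 lc_a_rc_3_2 lc_a_rc_5_2 lc_a_rc_4_2 lc_a_rc_4_2 lc_a_rc_2_0 lc_a_rc_2_0 lc_a_rc_2_0 lc_a_rc_2_2 lc_a_rc_2_2 lc_a_rc_2_2 lc_a_rc_3_2 lc_a_rc_2_2 lc_a_rc_2_2 lc_a_rc_2_2 lc_a_rc_1_2 lc_a_rc_1_2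 lc_a_rc_2_2 lc_a_rc_2_2) (@D3.rec (fun _ => (Cert rels S Gen.a)) lc_a_rc_2_2 lc_a_rc_3_2 lc_a_rc_2_2 lc_a_rc_4_2 lc_a_rc_5_2 lc_a_rc_3_2 lc_a_rc_5_2 lc_a_rc_9_2 lc_a_rc_3_2 lc_a_rc_2_2 lc_a_rc_2_2 lc_a_rc_2_2 lc_a_rc_2_2 lc_a_rc_3_2 lc_a_rc_2_2 lc_a_rc_4_2 lc_a_rc_3_2 lc_a_rc_6_2 lc_a_rc_4_2 lc_a_rc_5_2 lc_a_rc_3_2 lc_a_rc_9_2 lc_a_rc_3_2 lc_a_rc_9_2 lc_a_rc_2_2 lc_a_rc_2_2 lc_a_rc_2_2 lc_a_rc_3_2 lc_a_rc_2_2 lc_a_rc_2_2 lc_a_rc_3_2 lc_a_rc_2_2 lc_a_rc_6_2 lc_a_rc_7_2 lc_a_rc_6_2 lc_a_rc_8_2 lc_a_rc_7_2 lc_a_rc_0_0 lc_a_rc_5_2 lc_a_rc_3_2 lc_a_rc_2_0 lc_a_rc_8_2 lc_a_rc_7_2 lc_a_rc_56_28 lc_a_rc_9_2 lc_a_rc_9_0 lc_a_rc_7_2 lc_a_rc_2_2 lc_a_rc_2_2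 lc_a_rc_2_2 lc_a_rc_3_2) (@D3.rec (fun _ => (Cert rels S Gen.a)) lc_a_rc_2_2 lc_a_rc_2_2 lc_a_rc_3_2 lc_a_rc_2_2 lc_a_rc_1_2 lc_a_rc_1_2 lc_a_rc_1_2 lc_a_rc_6_0 lc_a_rc_1_2 lc_a_rc_3_2 lc_a_rc_2_2 lc_a_rc_2_2 lc_a_rc_2_2 lc_a_rc_2_2 lc_a_rc_3_2 lc_a_rc_2_2 lc_a_rc_4_2 lc_a_rc_3_2 lc_a_rc_6_2 lc_a_rc_4_2 lc_a_rc_5_2 lc_a_rc_3_2 lc_a_rc_9_2 lc_a_rc_5_2 lc_a_rc_9_2 lc_a_rc_3_2 lc_a_rc_5_2 lc_a_rc_2_2 lc_a_rc_2_2 lc_a_rc_2_2 lc_a_rc_3_2 lc_a_rc_2_2 lc_a_rc_2_2 lc_a_rc_3_2 lc_a_rc_2_2 lc_a_rc_4_2 lc_a_rc_3_2 lc_a_rc_6_2 lc_a_rc_4_2 lc_a_rc_5_2 lc_a_rc_6_2 lc_a_rc_6_2 lc_a_rc_5_2 lc_a_rc_3_2 lc_a_rc_9_2 lc_a_rc_2_2 lc_a_rc_3_2 lc_a_rc_9_2 lc_a_rc_2_2 lc_a_rc_2_2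 lc_a_rc_3_2)
def ce_a_6 : D2 → D3 → (Cert rels S Gen.a) := @D2.rec (fun _ => D3 → (Cert rels S Gen.a)) (@D3.rec (fun _ => (Cert rels S Gen.a)) lc_a_rc_2_2 lc_a_rc_3_2 lc_a_rc_2_2 lc_a_rc_2_2 lc_a_rc_3_2 lc_a_Cert_tree lc_a_rc_2_2 lc_a_rc_5_2 lc_a_rc_2_2 lc_a_rc_3_2 lc_a_rc_5_2 lc_a_rc_7_2 lc_a_rc_2_2 lc_a_rc_2_2 lc_a_rc_4_2 lc_a_rc_3_2 lc_a_rc_5_2 lc_a_rc_9_2 lc_a_rc_8_2 lc_a_rc_4_2 lc_a_rc_4_2 lc_a_rc_3_2 lc_a_rc_3_2 lc_a_rc_3_2 lc_a_rc_9_2 lc_a_rc_2_2 lc_a_rc_2_2 lc_a_rc_4_2 lc_a_rc_3_2 lc_a_rc_5_2 lc_a_rc_9_2 lc_a_rc_8_2 lc_a_rc_2_2 lc_a_rc_2_2 lc_a_rc_2_2 lc_a_rc_3_2 lc_a_rc_2_2 lc_a_rc_4_2 lc_a_rc_5_2 lc_a_rc_3_2 lc_a_rc_5_2 lc_a_rc_9_2 lc_a_rc_7_2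 lc_a_rc_8_2 lc_a_rc_7_2 lc_a_rc_3_2 lc_a_rc_9_2 lc_a_rc_8_2 lc_a_rc_9_2 lc_a_rc_1_2 lc_a_rc_1_2) (@D3.rec (fun _ => (Cert rels S Gen.a)) lc_a_rc_2_2 lc_a_rc_2_2 lc_a_rc_2_2 lc_a_rc_3_2 lc_a_rc_2_2 lc_a_rc_4_2 lc_a_rc_5_2 lc_a_rc_3_2 lc_a_rc_5_2 lc_a_rc_9_2 lc_a_rc_3_2 lc_a_rc_2_2 lc_a_rc_2_2 lc_a_rc_2_2 lc_a_rc_2_2 lc_a_rc_3_2 lc_a_rc_2_2 lc_a_rc_3_2 lc_a_rc_3_2 lc_a_rc_6_2 lc_a_rc_4_2 lc_a_rc_5_2 lc_a_rc_3_2 lc_a_rc_9_2 lc_a_rc_5_2 lc_a_rc_9_2 lc_a_rc_8_2 lc_a_rc_7_2 lc_a_rc_8_2 lc_a_rc_3_2 lc_a_rc_9_2 lc_a_rc_2_2 lc_a_rc_3_2 lc_a_rc_9_2 lc_a_rc_1_2 lc_a_rc_2_2 lc_a_rc_2_2 lc_a_rc_4_2 lc_a_rc_3_2 lc_a_rc_5_2 lc_a_rc_9_2 lc_a_rc_8_2 lc_a_rc_3_2 lc_a_rc_2_2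 lc_a_rc_2_2 lc_a_rc_3_2 lc_a_rc_2_2 lc_a_rc_4_2 lc_a_rc_5_2 lc_a_rc_3_2 lc_a_rc_5_2) (@D3.rec (fun _ => (Cert rels S Gen.a)) lc_a_rc_9_2 lc_a_rc_6_2 lc_a_rc_4_2 lc_a_rc_4_2 lc_a_rc_4_2 lc_a_rc_4_2 lc_a_rc_3_2 lc_a_rc_3_2 lc_a_rc_9_2 lc_a_rc_9_0 lc_a_rc_2_2 lc_a_rc_2_2 lc_a_rc_2_2 lc_a_rc_3_2 lc_a_rc_2_2 lc_a_rc_4_2 lc_a_rc_5_2 lc_a_rc_3_2 lc_a_rc_5_2 lc_a_rc_9_2 lc_a_rc_3_2 lc_a_rc_2_2 lc_a_rc_2_2 lc_a_rc_2_2 lc_a_rc_2_2 lc_a_rc_3_2 lc_a_rc_2_2 lc_a_rc_7_2 lc_a_rc_3_2 lc_a_rc_6_2 lc_a_rc_4_2 lc_a_rc_5_2 lc_a_rc_3_2 lc_a_rc_9_2 lc_a_rc_5_2 lc_a_rc_9_2 lc_a_rc_8_2 lc_a_rc_7_2 lc_a_rc_8_2 lc_a_rc_3_2 lc_a_rc_9_2 lc_a_rc_2_2 lc_a_rc_3_2 lc_a_rc_9_2 lc_a_rc_1_2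 lc_a_rc_1_2 lc_a_rc_1_2 lc_a_rc_1_2 lc_a_rc_3_2 lc_a_rc_2_2 lc_a_rc_2_2) (@D3.rec (fun _ => (Cert rels S Gen.a)) lc_a_rc_2_2 lc_a_rc_2_2 lc_a_rc_3_2 lc_a_rc_2_2 lc_a_rc_3_2 lc_a_rc_6_2 lc_a_rc_4_2 lc_a_rc_5_2 lc_a_rc_3_2 lc_a_rc_9_2 lc_a_rc_5_2 lc_a_rc_9_2 lc_a_rc_3_2 lc_a_rc_5_2 lc_a_rc_2_2 lc_a_rc_2_2 lc_a_rc_2_2 lc_a_rc_3_2 lc_a_rc_2_2 lc_a_rc_2_2 lc_a_rc_3_2 lc_a_rc_2_2 lc_a_rc_4_2 lc_a_rc_3_2 lc_a_rc_3_2 lc_a_rc_3_2 lc_a_rc_5_2 lc_a_rc_6_2 lc_a_rc_6_2 lc_a_rc_5_2 lc_a_rc_3_2 lc_a_rc_9_2 lc_a_rc_2_2 lc_a_rc_3_2 lc_a_rc_9_2 lc_a_rc_8_2 lc_a_rc_8_2 lc_a_rc_3_2 lc_a_rc_9_2 lc_a_rc_3_2 lc_a_rc_9_2 lc_a_rc_2_2 lc_a_rc_3_2 lc_a_Cert_tree lc_a_rc_2_2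 lc_a_rc_5_2 lc_a_rc_1_2 lc_a_rc_1_2 lc_a_rc_2_2 lc_a_rc_2_2 lc_a_rc_3_2) (@D3.rec (fun _ => (Cert rels S Gen.a)) lc_a_rc_2_2 lc_a_rc_3_2 lc_a_rc_5_2 lc_a_rc_9_2 lc_a_rc_2_2 lc_a_rc_0_0 lc_a_rc_6_2 lc_a_rc_2_2 lc_a_rc_3_2 lc_a_rc_2_2 lc_a_rc_56_42 lc_a_rc_3_2 lc_a_rc_5_0 lc_a_rc_4_2 lc_a_rc_3_2 lc_a_rc_3_2 lc_a_rc_5_2 lc_a_rc_9_2 lc_a_rc_6_2 lc_a_rc_6_2 lc_a_rc_4_2 lc_a_rc_4_2 lc_a_rc_4_2 lc_a_rc_2_2 lc_a_rc_4_2 lc_a_rc_3_2 lc_a_rc_6_2 lc_a_rc_9_2 lc_a_rc_9_0 lc_a_rc_5_2 lc_a_rc_2_2 lc_a_rc_2_2 lc_a_rc_2_2 lc_a_rc_2_2 lc_a_rc_3_2 lc_a_rc_2_2 lc_a_rc_3_2 lc_a_rc_6_2 lc_a_rc_4_2 lc_a_rc_5_2 lc_a_rc_9_2 lc_a_rc_5_2 lc_a_rc_9_2 lc_a_rc_5_0 lc_a_rc_3_0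 lc_a_rc_2_2 lc_a_rc_2_2 lc_a_rc_2_2 lc_a_rc_3_2 lc_a_rc_2_2 lc_a_rc_2_2) (@D3.rec (fun _ => (Cert rels S Gen.a)) lc_a_rc_3_2 lc_a_rc_2_2 lc_a_rc_4_2 lc_a_rc_3_2 lc_a_rc_4_0 lc_a_rc_9_2 lc_a_rc_5_2 lc_a_rc_6_2 lc_a_rc_6_2 lc_a_rc_5_2 lc_a_rc_3_2 lc_a_rc_9_2 lc_a_rc_3_0 lc_a_rc_3_2 lc_a_rc_9_2 lc_a_rc_8_2 lc_a_rc_8_2 lc_a_rc_3_2 lc_a_rc_9_2 lc_a_rc_3_2 lc_a_rc_9_2 lc_a_rc_2_2 lc_a_rc_3_2 lc_a_Cert_tree lc_a_rc_2_2 lc_a_rc_5_2 lc_a_rc_1_2 lc_a_rc_1_2 lc_a_rc_1_2 lc_a_rc_1_2 lc_a_rc_1_2 lc_a_rc_1_2 lc_a_rc_3_2 lc_a_rc_5_2 lc_a_rc_2_2 lc_a_rc_2_2 lc_a_rc_2_2 lc_a_rc_3_2 lc_a_rc_2_2 lc_a_rc_2_2 lc_a_rc_3_2 lc_a_rc_2_2 lc_a_rc_4_2 lc_a_rc_3_2 lc_a_rc_5_2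 lc_a_rc_6_2 lc_a_rc_6_2 lc_a_rc_5_2 lc_a_rc_3_2 lc_a_rc_9_2 lc_a_rc_2_2) (@D3.rec (fun _ => (Cert rels S Gen.a)) lc_a_rc_3_2 lc_a_rc_9_2 lc_a_rc_3_2 lc_a_rc_3_2 lc_a_rc_5_2 lc_a_rc_5_2 lc_a_rc_9_2 lc_a_rc_2_2 lc_a_rc_2_2 lc_a_rc_2_2 lc_a_rc_3_2 lc_a_rc_2_2 lc_a_rc_2_2 lc_a_rc_4_2 lc_a_rc_3_2 lc_a_rc_3_2 lc_a_rc_2_2 lc_a_rc_4_2 lc_a_rc_3_2 lc_a_rc_56_28 lc_a_rc_4_2 lc_a_rc_5_2 lc_a_rc_3_2 lc_a_rc_2_2 lc_a_rc_56_21 lc_a_rc_7_2 lc_a_rc_6_2 lc_a_rc_3_2 lc_a_rc_9_2 lc_a_rc_3_2 lc_a_rc_9_2 lc_a_rc_2_2 lc_a_rc_3_2 lc_a_Cert_tree lc_a_rc_2_2 lc_a_rc_2_0 lc_a_rc_8_2 lc_a_rc_3_2 lc_a_rc_9_2 lc_a_rc_2_2 lc_a_rc_4_2 lc_a_rc_3_2 lc_a_rc_2_2 lc_a_rc_3_2 lc_a_Cert_tree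 lc_a_rc_2_2 lc_a_rc_5_2 lc_a_rc_0_0 lc_a_rc_9_2 lc_a_rc_2_2 lc_a_rc_6_2) (@D3.rec (fun _ => (Cert rels S Gen.a)) lc_a_rc_4_2 lc_a_rc_2_2 lc_a_rc_0_0 lc_a_rc_6_2 lc_a_rc_5_0 lc_a_rc_5_0 lc_a_rc_3_2 lc_a_rc_3_2 lc_a_rc_5_2 lc_a_rc_7_2 lc_a_rc_5_2 lc_a_rc_5_0 lc_a_rc_5_0 lc_a_rc_5_0 lc_a_rc_3_2 lc_a_rc_8_2 lc_a_rc_3_2 lc_a_rc_9_2 lc_a_rc_2_2 lc_a_rc_4_2 lc_a_rc_3_2 lc_a_rc_2_2 lc_a_rc_3_2 lc_a_rc_56_56 lc_a_rc_2_2 lc_a_rc_5_2 lc_a_rc_0_0 lc_a_rc_9_2 lc_a_rc_2_2 lc_a_rc_3_2 lc_a_rc_3_2 lc_a_rc_5_2 lc_a_rc_9_2 lc_a_rc_2_2 lc_a_rc_7_2 lc_a_rc_6_2 lc_a_rc_3_2 lc_a_rc_3_2 lc_a_rc_2_2 lc_a_Cert_tree lc_a_rc_4_2 lc_a_rc_3_2 lc_a_rc_5_2 lc_a_rc_5_2 lc_a_rc_2_0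 lc_a_rc_9_2 lc_a_rc_1_0 lc_a_rc_2_0 lc_a_rc_2_2 lc_a_rc_8_2 lc_a_rc_6_2) (@D3.rec (fun _ => (Cert rels S Gen.a)) lc_a_rc_8_2 lc_a_rc_1_0 lc_a_Cert_tree lc_a_rc_7_2 lc_a_rc_3_2 lc_a_rc_6_2 lc_a_rc_2_2 lc_a_rc_4_2 lc_a_rc_2_0 lc_a_rc_2_2 lc_a_rc_2_0 lc_a_Cert_tree lc_a_rc_1_0 lc_a_rc_2_0 lc_a_rc_0_0 lc_a_rc_9_2 lc_a_rc_1_0 lc_a_rc_3_2 lc_a_rc_9_2 lc_a_rc_2_2 lc_a_rc_4_2 lc_a_rc_3_2 lc_a_Cert_tree lc_a_rc_2_2 lc_a_rc_2_2 lc_a_rc_4_2 lc_a_rc_5_2 lc_a_Cert_tree lc_a_rc_2_2 lc_a_rc_5_2 lc_a_rc_0_0 lc_a_rc_9_2 lc_a_rc_2_2 lc_a_rc_9_2 lc_a_rc_5_2 lc_a_rc_3_2 lc_a_rc_56_14 lc_a_rc_2_2 lc_a_rc_6_2 lc_a_rc_7_2 lc_a_rc_2_2 lc_a_rc_3_2 lc_a_rc_3_2 lc_a_rc_4_2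 lc_a_rc_56_14 lc_a_rc_2_2 lc_a_rc_0_1 lc_a_rc_7_2 lc_a_rc_9_2 lc_a_rc_3_2 lc_a_rc_5_2) (@D3.rec (fun _ => (Cert rels S Gen.a)) lc_a_rc_5_2 lc_a_rc_2_2 lc_a_rc_8_2 lc_a_rc_2_2 lc_a_rc_3_2 lc_a_rc_4_2 lc_a_rc_3_2 lc_a_rc_3_2 lc_a_rc_9_2 lc_a_rc_4_2 lc_a_rc_3_2 lc_a_rc_7_2 lc_a_rc_6_2 lc_a_rc_4_2 lc_a_rc_7_2 lc_a_rc_3_2 lc_a_rc_9_2 lc_a_rc_8_2 lc_a_rc_9_2 lc_a_rc_3_2 lc_a_rc_5_2 lc_a_rc_5_2 lc_a_rc_5_2 lc_a_rc_9_2 lc_a_rc_2_2 lc_a_rc_9_2 lc_a_rc_3_2 lc_a_rc_4_2 lc_a_rc_1_4 lc_a_rc_6_2 lc_a_rc_5_2 lc_a_rc_4_2 lc_a_rc_4_2 lc_a_rc_56_35 lc_a_rc_2_0 lc_a_rc_2_0 lc_a_rc_2_2 lc_a_rc_2_2 lc_a_rc_1_2 lc_a_rc_9_0 lc_a_rc_2_2 lc_a_rc_2_2 lc_a_rc_2_2 lc_a_rc_3_2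 lc_a_rc_2_2 lc_a_rc_4_2 lc_a_rc_5_2 lc_a_rc_3_2 lc_a_rc_5_2 lc_a_rc_9_2 lc_a_rc_1_4) (@D3.rec (fun _ => (Cert rels S Gen.a)) lc_a_rc_1_4 lc_a_rc_2_2 lc_a_rc_2_2 lc_a_rc_3_2 lc_a_rc_2_2 lc_a_rc_9_0 lc_a_rc_3_2 lc_a_rc_6_2 lc_a_rc_3_2 lc_a_rc_5_2 lc_a_rc_3_2 lc_a_rc_9_2 lc_a_rc_5_2 lc_a_rc_9_2 lc_a_rc_2_2 lc_a_rc_2_2 lc_a_rc_3_2 lc_a_rc_2_2 lc_a_rc_2_2 lc_a_rc_3_2 lc_a_rc_2_2 lc_a_rc_4_2 lc_a_rc_3_2 lc_a_rc_3_2 lc_a_rc_4_2 lc_a_rc_4_2 lc_a_rc_1_4 lc_a_rc_6_2 lc_a_rc_6_2 lc_a_rc_4_2 lc_a_rc_4_2 lc_a_rc_4_2 lc_a_rc_3_2 lc_a_rc_4_2 lc_a_rc_2_0 lc_a_rc_2_0 lc_a_rc_2_2 lc_a_rc_2_2 lc_a_rc_2_2 lc_a_rc_3_2 lc_a_rc_2_2 lc_a_rc_1_2 lc_a_rc_1_2 lc_a_rc_9_0 lc_a_rc_5_2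 lc_a_rc_3_2 lc_a_rc_2_2 lc_a_rc_2_2 lc_a_rc_2_2 lc_a_rc_2_2 lc_a_rc_3_2) (@D3.rec (fun _ => (Cert rels S Gen.a)) lc_a_rc_2_2 lc_a_rc_3_2 lc_a_rc_6_2 lc_a_rc_4_2 lc_a_rc_5_2 lc_a_rc_3_2 lc_a_rc_9_2 lc_a_rc_5_2 lc_a_rc_9_2 lc_a_rc_4_2 lc_a_rc_6_2 lc_a_rc_2_2 lc_a_rc_7_2 lc_a_rc_2_2 lc_a_rc_3_2 lc_a_rc_2_2 lc_a_rc_2_2 lc_a_rc_3_2 lc_a_rc_2_2 lc_a_rc_4_2 lc_a_rc_3_2 lc_a_rc_9_0 lc_a_rc_5_2 lc_a_rc_6_2 lc_a_rc_6_2 lc_a_rc_5_2 lc_a_rc_3_2 lc_a_rc_9_2 lc_a_rc_3_0 lc_a_rc_3_2 lc_a_rc_9_2 lc_a_rc_2_2 lc_a_rc_2_2 lc_a_rc_3_2 lc_a_rc_2_2 lc_a_rc_3_2 lc_a_rc_2_2 lc_a_rc_2_2 lc_a_rc_3_2 lc_a_Cert_tree lc_a_rc_2_2 lc_a_rc_5_2 lc_a_rc_4_2 lc_a_rc_4_2 lc_a_rc_2_2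 lc_a_rc_4_2 lc_a_rc_3_2 lc_a_rc_7_2 lc_a_rc_5_2 lc_a_rc_6_2 lc_a_rc_4_2) (@D3.rec (fun _ => (Cert rels S Gen.a)) lc_a_rc_5_2 lc_a_rc_9_0 lc_a_rc_4_2 lc_a_rc_5_2 lc_a_rc_5_2 lc_a_rc_2_0 lc_a_rc_2_0 lc_a_rc_8_2 lc_a_rc_2_0 lc_a_rc_9_2 lc_a_rc_9_0 lc_a_rc_56_0 lc_a_rc_9_2 lc_a_rc_2_2 lc_a_rc_2_2 lc_a_rc_3_2 lc_a_rc_2_2 lc_a_rc_3_2 lc_a_rc_2_2 lc_a_rc_2_2 lc_a_rc_3_2 lc_a_Cert_tree lc_a_rc_2_2 lc_a_rc_5_2 lc_a_rc_1_2 lc_a_rc_1_2 lc_a_rc_9_0 lc_a_rc_1_2 lc_a_rc_9_0 lc_a_rc_4_0 lc_a_rc_3_2 lc_a_rc_5_2 lc_a_rc_2_2 lc_a_rc_2_2 lc_a_rc_2_2 lc_a_rc_3_2 lc_a_rc_2_2 lc_a_rc_2_2 lc_a_rc_3_2 lc_a_rc_2_2 lc_a_rc_4_2 lc_a_rc_3_2 lc_a_rc_6_2 lc_a_rc_6_2 lc_a_rc_5_2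 lc_a_rc_3_2 lc_a_rc_9_2 lc_a_rc_2_2 lc_a_rc_3_2 lc_a_rc_9_2 lc_a_rc_3_2) (@D3.rec (fun _ => (Cert rels S Gen.a)) lc_a_rc_3_2 lc_a_rc_5_2 lc_a_rc_5_2 lc_a_rc_9_2 lc_a_rc_2_2 lc_a_rc_2_2 lc_a_rc_2_2 lc_a_rc_3_2 lc_a_rc_2_2 lc_a_rc_2_2 lc_a_rc_4_2 lc_a_rc_3_2 lc_a_rc_3_2 lc_a_rc_2_2 lc_a_rc_4_2 lc_a_rc_3_2 lc_a_rc_9_0 lc_a_rc_4_2 lc_a_rc_9_0 lc_a_rc_5_2 lc_a_rc_7_2 lc_a_rc_6_2 lc_a_rc_3_2 lc_a_rc_9_2 lc_a_rc_3_2 lc_a_rc_9_2 lc_a_rc_2_2 lc_a_rc_3_2 lc_a_Cert_tree lc_a_rc_2_2 lc_a_rc_5_2 lc_a_rc_2_2 lc_a_rc_3_2 lc_a_rc_2_2 lc_a_rc_2_2 lc_a_rc_4_2 lc_a_rc_3_2 lc_a_rc_2_2 lc_a_rc_3_2 lc_a_Cert_tree lc_a_rc_2_2 lc_a_rc_5_2 lc_a_rc_0_0 lc_a_rc_9_2 lc_a_rc_2_2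 lc_a_rc_9_2 lc_a_rc_2_2 lc_a_rc_2_2 lc_a_rc_2_2 lc_a_rc_2_2 lc_a_rc_4_2) (@D3.rec (fun _ => (Cert rels S Gen.a)) lc_a_rc_5_2 lc_a_rc_3_2 lc_a_rc_5_2 lc_a_rc_9_2 lc_a_rc_3_2 lc_a_rc_2_2 lc_a_rc_2_2 lc_a_rc_6_0 lc_a_rc_2_2 lc_a_rc_9_0 lc_a_rc_2_2 lc_a_rc_5_0 lc_a_rc_6_2 lc_a_rc_4_2 lc_a_rc_5_2 lc_a_rc_3_2 lc_a_rc_9_2 lc_a_rc_5_2 lc_a_rc_9_2 lc_a_rc_9_2 lc_a_rc_3_2 lc_a_rc_9_2 lc_a_rc_1_2 lc_a_rc_3_2 lc_a_rc_3_2 lc_a_rc_2_2 lc_a_rc_2_2 lc_a_rc_2_2 lc_a_rc_2_2 lc_a_rc_2_2 lc_a_rc_6_2 lc_a_rc_4_2 lc_a_rc_5_2 lc_a_rc_3_2 lc_a_rc_9_2 lc_a_rc_5_2 lc_a_rc_9_2 lc_a_rc_2_2 lc_a_rc_5_2 lc_a_rc_2_2 lc_a_rc_2_2 lc_a_rc_2_2 lc_a_rc_3_2 lc_a_rc_2_2 lc_a_rc_2_2 lc_a_rc_7_2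 lc_a_rc_2_2 lc_a_rc_4_2 lc_a_rc_6_2 lc_a_rc_6_2 lc_a_rc_5_0) (@D3.rec (fun _ => (Cert rels S Gen.a)) lc_a_rc_6_2 lc_a_rc_6_2 lc_a_rc_5_2 lc_a_rc_3_2 lc_a_rc_9_2 lc_a_rc_2_2 lc_a_rc_3_2 lc_a_rc_9_2 lc_a_rc_7_2 lc_a_rc_6_2 lc_a_rc_3_2 lc_a_rc_9_2 lc_a_rc_3_2 lc_a_rc_9_2 lc_a_rc_2_2 lc_a_rc_3_2 lc_a_Cert_tree lc_a_rc_2_2 lc_a_rc_5_2 lc_a_rc_4_2 lc_a_rc_9_2 lc_a_rc_3_2 lc_a_rc_2_2 lc_a_rc_2_2 lc_a_rc_2_2 lc_a_rc_2_2 lc_a_rc_2_2 lc_a_rc_6_2 lc_a_rc_4_2 lc_a_rc_5_2 lc_a_rc_3_2 lc_a_rc_9_2 lc_a_rc_5_2 lc_a_rc_9_2 lc_a_rc_3_2 lc_a_rc_5_2 lc_a_rc_2_2 lc_a_rc_2_2 lc_a_rc_2_2 lc_a_rc_3_2 lc_a_rc_2_2 lc_a_rc_2_2 lc_a_rc_9_0 lc_a_rc_2_2 lc_a_rc_4_2 lc_a_rc_6_2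 lc_a_rc_6_2 lc_a_rc_6_2 lc_a_rc_5_2 lc_a_rc_3_2 lc_a_rc_9_2) (@D3.rec (fun _ => (Cert rels S Gen.a)) lc_a_rc_2_2 lc_a_rc_3_2 lc_a_rc_9_2 lc_a_rc_7_2 lc_a_rc_6_2 lc_a_rc_3_2 lc_a_rc_9_2 lc_a_rc_9_2 lc_a_rc_3_2 lc_a_Cert_tree lc_a_rc_2_2 lc_a_rc_5_2 lc_a_rc_1_2 lc_a_rc_1_2 lc_a_rc_3_2 lc_a_rc_3_2 lc_a_rc_5_2 lc_a_rc_2_2 lc_a_rc_2_2 lc_a_rc_2_2 lc_a_rc_3_2 lc_a_rc_2_2 lc_a_rc_2_2 lc_a_rc_2_2 lc_a_rc_6_2 lc_a_rc_6_2 lc_a_rc_5_2 lc_a_rc_3_2 lc_a_rc_9_2 lc_a_rc_2_2 lc_a_rc_3_2 lc_a_rc_9_2 lc_a_rc_3_2 lc_a_rc_3_2 lc_a_rc_5_2 lc_a_rc_5_2 lc_a_rc_9_2 lc_a_rc_2_2 lc_a_rc_2_2 lc_a_rc_2_2 lc_a_rc_3_2 lc_a_rc_2_2 lc_a_rc_2_2 lc_a_rc_3_2 lc_a_rc_3_2 lc_a_rc_6_2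 lc_a_rc_2_2 lc_a_rc_4_2 lc_a_rc_6_2 lc_a_rc_4_2 lc_a_rc_4_2) (@D3.rec (fun _ => (Cert rels S Gen.a)) lc_a_rc_7_2 lc_a_rc_6_2 lc_a_rc_7_2 lc_a_rc_6_2 lc_a_rc_3_2 lc_a_rc_9_2 lc_a_rc_3_2 lc_a_rc_9_2 lc_a_rc_2_2 lc_a_rc_3_2 lc_a_Cert_tree lc_a_rc_2_2 lc_a_rc_5_2 lc_a_rc_7_2 lc_a_rc_3_2 lc_a_rc_9_2 lc_a_rc_2_2 lc_a_rc_4_2 lc_a_rc_3_2 lc_a_rc_2_2 lc_a_rc_3_2 lc_a_Cert_tree lc_a_rc_2_2 lc_a_rc_5_2 lc_a_rc_0_0 lc_a_rc_9_2 lc_a_rc_2_2 lc_a_rc_7_2 lc_a_rc_8_2 lc_a_rc_2_2 lc_a_rc_2_2 lc_a_rc_2_2 lc_a_rc_3_2 lc_a_rc_2_2 lc_a_rc_2_2 lc_a_rc_2_2 lc_a_rc_6_2 lc_a_rc_6_2 lc_a_rc_5_2 lc_a_rc_9_2 lc_a_rc_9_2 lc_a_rc_5_0 lc_a_rc_5_0 lc_a_rc_3_0 lc_a_rc_2_2 lc_a_rc_3_0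 lc_a_rc_2_2 lc_a_rc_2_2 lc_a_rc_2_2 lc_a_rc_3_2 lc_a_rc_2_2) (@D3.rec (fun _ => (Cert rels S Gen.a)) lc_a_rc_2_2 lc_a_rc_9_0 lc_a_rc_3_2 lc_a_rc_9_0 lc_a_rc_2_2 lc_a_rc_9_0 lc_a_rc_5_0 lc_a_rc_2_2 lc_a_rc_7_2 lc_a_rc_6_2 lc_a_rc_3_2 lc_a_rc_9_2 lc_a_rc_3_2 lc_a_rc_9_2 lc_a_rc_3_0 lc_a_rc_3_2 lc_a_Cert_tree lc_a_rc_3_0 lc_a_rc_7_2 lc_a_rc_3_2 lc_a_rc_9_2 lc_a_rc_2_2 lc_a_rc_4_2 lc_a_rc_3_2 lc_a_rc_2_2 lc_a_rc_3_2 lc_a_Cert_tree lc_a_rc_2_2 lc_a_rc_5_2 lc_a_rc_0_0 lc_a_rc_9_2 lc_a_rc_2_2 lc_a_rc_1_2 lc_a_rc_1_2 lc_a_rc_1_2 lc_a_rc_1_2 lc_a_rc_3_2 lc_a_rc_3_2 lc_a_rc_5_2 lc_a_rc_5_2 lc_a_rc_9_2 lc_a_rc_2_2 lc_a_rc_2_2 lc_a_rc_2_2 lc_a_rc_3_2 lc_a_rc_2_2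 lc_a_rc_2_2 lc_a_rc_3_2 lc_a_rc_2_2 lc_a_rc_7_2 lc_a_rc_6_2) (@D3.rec (fun _ => (Cert rels S Gen.a)) lc_a_rc_3_2 lc_a_rc_9_2 lc_a_rc_3_2 lc_a_rc_9_2 lc_a_rc_2_2 lc_a_rc_3_2 lc_a_Cert_tree lc_a_rc_2_2 lc_a_rc_4_2 lc_a_rc_3_2 lc_a_rc_5_2 lc_a_rc_5_2 lc_a_rc_5_2 lc_a_rc_9_2 lc_a_rc_1_0 lc_a_rc_9_0 lc_a_rc_9_2 lc_a_rc_2_2 lc_a_rc_2_2 lc_a_rc_3_2 lc_a_rc_2_2 lc_a_rc_3_2 lc_a_rc_2_2 lc_a_rc_2_2 lc_a_rc_9_0 lc_a_rc_3_2 lc_a_Cert_tree lc_a_rc_9_0 lc_a_rc_2_2 lc_a_rc_9_0 lc_a_rc_5_0 lc_a_rc_5_2 lc_a_rc_5_2 lc_a_rc_5_0 lc_a_rc_6_2 lc_a_rc_5_0 lc_a_rc_7_2 lc_a_rc_5_0 lc_a_rc_8_2 lc_a_rc_5_0 lc_a_rc_7_2 lc_a_rc_3_2 lc_a_rc_9_2 lc_a_rc_2_2 lc_a_rc_4_2 lc_a_rc_3_2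 lc_a_rc_2_2 lc_a_rc_3_2 lc_a_Cert_tree lc_a_rc_2_2 lc_a_rc_2_0) (@D3.rec (fun _ => (Cert rels S Gen.a)) lc_a_rc_0_0 lc_a_rc_9_2 lc_a_rc_1_0 lc_a_rc_3_2 lc_a_rc_9_2 lc_a_rc_2_2 lc_a_rc_4_2 lc_a_rc_3_2 lc_a_Cert_tree lc_a_rc_2_2 lc_a_rc_2_2 lc_a_rc_4_2 lc_a_rc_5_2 lc_a_Cert_tree lc_a_rc_2_2 lc_a_rc_5_2 lc_a_rc_0_0 lc_a_rc_9_2 lc_a_rc_2_2 lc_a_rc_9_2 lc_a_rc_5_2 lc_a_rc_3_2 lc_a_rc_7_2 lc_a_rc_5_0 lc_a_rc_5_0 lc_a_rc_3_2 lc_a_rc_3_2 lc_a_rc_3_2 lc_a_rc_7_2 lc_a_rc_7_2 lc_a_rc_5_0 lc_a_rc_5_0 lc_a_rc_5_0 lc_a_rc_5_0 lc_a_Cert_tree lc_a_rc_0_0 lc_a_rc_3_2 lc_a_rc_9_2 lc_a_rc_2_2 lc_a_rc_4_2 lc_a_rc_3_2 lc_a_Cert_tree lc_a_rc_2_2 lc_a_rc_2_2 lc_a_rc_4_2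 lc_a_rc_5_2 lc_a_Cert_tree lc_a_rc_2_2 lc_a_rc_5_2 lc_a_rc_0_0 lc_a_rc_9_2) (@D3.rec (fun _ => (Cert rels S Gen.a)) lc_a_rc_2_2 lc_a_rc_9_2 lc_a_rc_5_2 lc_a_rc_3_2 lc_a_rc_4_2 lc_a_rc_3_2 lc_a_rc_5_2 lc_a_rc_5_2 lc_a_rc_9_2 lc_a_rc_2_2 lc_a_rc_7_2 lc_a_rc_3_2 lc_a_rc_2_2 lc_a_rc_4_2 lc_a_rc_2_2 lc_a_Cert_tree lc_a_rc_0_0 lc_a_rc_2_0 lc_a_rc_5_2 lc_a_rc_3_2 lc_a_rc_5_2 lc_a_rc_2_0 lc_a_rc_9_2 lc_a_rc_2_0 lc_a_rc_9_2 lc_a_rc_1_0 lc_a_rc_2_0 lc_a_Cert_tree lc_a_rc_1_0 lc_a_rc_7_2 lc_a_rc_6_2 lc_a_rc_1_0 lc_a_rc_4_2 lc_a_rc_1_0 lc_a_Cert_tree lc_a_rc_0_0 lc_a_rc_3_2 lc_a_rc_8_0 lc_a_rc_2_2 lc_a_rc_4_2 lc_a_rc_8_2 lc_a_Cert_tree lc_a_rc_2_2 lc_a_rc_3_2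 lc_a_rc_7_0 lc_a_rc_6_2 lc_a_Cert_tree lc_a_rc_3_2 lc_a_rc_8_2 lc_a_rc_0_0 lc_a_rc_9_2) (@D3.rec (fun _ => (Cert rels S Gen.a)) lc_a_rc_1_0 lc_a_rc_9_2 lc_a_rc_5_2 lc_a_rc_1_0 lc_a_rc_0_0 lc_a_rc_0_0 lc_a_rc_9_2 lc_a_rc_5_2 lc_a_rc_3_2 lc_a_rc_5_2 lc_a_rc_3_2 lc_a_rc_4_2 lc_a_rc_2_2 lc_a_rc_2_2 lc_a_rc_3_2 lc_a_rc_9_2 lc_a_rc_2_2 lc_a_rc_3_2 lc_a_rc_9_2 lc_a_rc_2_2 lc_a_rc_1_0 lc_a_rc_3_2 lc_a_rc_2_0 lc_a_rc_3_2 lc_a_rc_9_2 lc_a_rc_3_2 lc_a_rc_2_0 lc_a_rc_4_2 lc_a_rc_4_2 lc_a_rc_2_0 lc_a_rc_2_0 lc_a_rc_2_0 lc_a_rc_3_0 lc_a_rc_56_7 lc_a_rc_0_1 lc_a_rc_1_0 lc_a_rc_3_2 lc_a_Cert_tree lc_a_rc_2_2 lc_a_rc_5_2 lc_a_rc_3_2 lc_a_rc_9_2 lc_a_rc_2_2 lc_a_rc_4_2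 lc_a_rc_3_2 lc_a_rc_2_2 lc_a_rc_3_2 lc_a_Cert_tree lc_a_rc_2_2 lc_a_rc_5_2 lc_a_rc_0_0) (@D3.rec (fun _ => (Cert rels S Gen.a)) lc_a_rc_9_2 lc_a_rc_2_2 lc_a_rc_2_2 lc_a_rc_2_2 lc_a_rc_3_2 lc_a_rc_2_2 lc_a_rc_3_2 lc_a_rc_9_2 lc_a_rc_3_2 lc_a_rc_9_2 lc_a_rc_2_2 lc_a_rc_3_2 lc_a_Cert_tree lc_a_rc_2_2 lc_a_rc_5_2 lc_a_rc_1_0 lc_a_rc_4_2 lc_a_rc_9_2 lc_a_rc_6_2 lc_a_rc_3_0 lc_a_rc_3_2 lc_a_rc_3_2 lc_a_rc_3_2 lc_a_Cert_tree lc_a_rc_2_2 lc_a_rc_2_2 lc_a_rc_3_2 lc_a_rc_3_2 lc_a_rc_5_2 lc_a_rc_4_2 lc_a_rc_2_0 lc_a_rc_4_2 lc_a_rc_4_2 lc_a_rc_4_2 lc_a_rc_4_2 lc_a_rc_2_0 lc_a_rc_2_0 lc_a_rc_7_2 lc_a_rc_6_2 lc_a_rc_4_0 lc_a_rc_4_2 lc_a_rc_3_2 lc_a_rc_1_0 lc_a_rc_3_2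 lc_a_Cert_tree lc_a_rc_2_2 lc_a_rc_5_2 lc_a_rc_0_0 lc_a_rc_9_2 lc_a_rc_2_2 lc_a_rc_9_2) (@D3.rec (fun _ => (Cert rels S Gen.a)) lc_a_rc_2_2 lc_a_rc_3_2 lc_a_Cert_tree lc_a_rc_2_2 lc_a_rc_2_2 lc_a_rc_4_2 lc_a_rc_5_2 lc_a_Cert_tree lc_a_rc_2_2 lc_a_rc_5_2 lc_a_rc_0_0 lc_a_rc_9_2 lc_a_rc_2_2 lc_a_rc_9_2 lc_a_rc_5_2 lc_a_rc_3_2 lc_a_rc_3_2 lc_a_rc_2_2 lc_a_rc_3_2 lc_a_rc_2_2 lc_a_rc_2_2 lc_a_rc_3_2 lc_a_Cert_tree lc_a_rc_2_2 lc_a_rc_5_2 lc_a_rc_3_2 lc_a_rc_9_2 lc_a_rc_2_2 lc_a_rc_4_2 lc_a_rc_3_2 lc_a_rc_2_2 lc_a_rc_3_2 lc_a_Cert_tree lc_a_rc_2_2 lc_a_rc_5_2 lc_a_rc_0_0 lc_a_rc_9_2 lc_a_rc_2_2 lc_a_rc_3_2 lc_a_rc_9_2 lc_a_rc_2_2 lc_a_rc_56_21 lc_a_rc_3_2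 lc_a_rc_2_2 lc_a_rc_2_0 lc_a_rc_3_2 lc_a_Cert_tree lc_a_rc_9_0 lc_a_rc_2_2 lc_a_rc_2_0 lc_a_rc_2_0) (@D3.rec (fun _ => (Cert rels S Gen.a)) lc_a_rc_5_2 lc_a_rc_0_0 lc_a_rc_4_2 lc_a_rc_9_2 lc_a_rc_9_0 lc_a_rc_5_0 lc_a_rc_2_2 lc_a_rc_2_0 lc_a_rc_2_0 lc_a_rc_0_1 lc_a_rc_2_0 lc_a_rc_9_2 lc_a_rc_2_0 lc_a_rc_2_0 lc_a_rc_8_2 lc_a_rc_9_2 lc_a_rc_8_2 lc_a_rc_56_56 lc_a_rc_2_2 lc_a_rc_3_2 lc_a_Cert_tree lc_a_rc_2_2 lc_a_rc_2_2 lc_a_rc_4_2 lc_a_rc_5_2 lc_a_Cert_tree lc_a_rc_2_2 lc_a_rc_5_2 lc_a_rc_0_0 lc_a_rc_9_2 lc_a_rc_2_2 lc_a_rc_9_2 lc_a_rc_5_2 lc_a_rc_3_2 lc_a_rc_0_0 lc_a_rc_0_0 lc_a_rc_9_2 lc_a_rc_5_2 lc_a_rc_2_2 lc_a_Cert_tree lc_a_rc_2_2 lc_a_rc_2_2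 lc_a_rc_4_2 lc_a_rc_6_0 lc_a_rc_0_0 lc_a_rc_4_2 lc_a_rc_2_2 lc_a_rc_9_2 lc_a_rc_5_2 lc_a_rc_3_2 lc_a_rc_3_2) (@D3.rec (fun _ => (Cert rels S Gen.a)) lc_a_rc_3_2 lc_a_rc_5_2 lc_a_rc_3_2 lc_a_rc_4_2 lc_a_rc_2_2 lc_a_rc_9_2 lc_a_rc_3_2 lc_a_rc_5_2 lc_a_rc_9_2 lc_a_rc_4_2 lc_a_rc_9_2 lc_a_rc_56_35 lc_a_rc_3_2 lc_a_rc_7_2 lc_a_rc_9_2 lc_a_rc_56_42 lc_a_rc_3_2 lc_a_rc_1_2 lc_a_rc_5_2 lc_a_rc_5_2 lc_a_rc_9_2 lc_a_rc_3_2 lc_a_rc_2_2 lc_a_rc_2_2 lc_a_rc_56_21 lc_a_rc_5_2 lc_a_rc_9_2 lc_a_rc_0_1 lc_a_rc_5_2 lc_a_rc_9_2 lc_a_rc_7_2 lc_a_rc_8_2 lc_a_rc_9_2 lc_a_rc_7_2 lc_a_rc_9_2 lc_a_rc_3_2 lc_a_rc_5_2 lc_a_rc_9_2 lc_a_rc_4_2 lc_a_rc_7_2 lc_a_rc_5_2 lc_a_rc_3_2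 lc_a_rc_6_2 lc_a_rc_9_2 lc_a_rc_5_2 lc_a_rc_9_2 lc_a_rc_9_2 lc_a_rc_4_2 lc_a_rc_3_2 lc_a_rc_3_2 lc_a_rc_4_2)
def ce_a_7 : D2 → D3 → (Cert rels S Gen.a) := @D2.rec (fun _ => D3 → (Cert rels S Gen.a)) (@D3.rec (fun _ => (Cert rels S Gen.a)) lc_a_rc_4_2 lc_a_rc_8_2 lc_a_rc_3_2 lc_a_rc_3_2 lc_a_rc_5_2 lc_a_rc_9_2 lc_a_rc_2_2 lc_a_rc_5_2 lc_a_rc_5_2 lc_a_rc_3_2 lc_a_rc_9_2 lc_a_rc_0_1 lc_a_rc_0_1 lc_a_rc_3_2 lc_a_rc_4_2 lc_a_rc_5_2 lc_a_rc_5_2 lc_a_rc_9_2 lc_a_rc_5_2 lc_a_rc_9_2 lc_a_rc_9_2 lc_a_rc_7_2 lc_a_rc_9_2 lc_a_rc_6_2 lc_a_rc_9_2 lc_a_rc_3_2 lc_a_rc_7_2 lc_a_rc_6_2 lc_a_rc_7_2 lc_a_rc_8_2 lc_a_rc_4_2 lc_a_rc_5_2 lc_a_rc_5_2 lc_a_rc_9_2 lc_a_rc_0_1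 lc_a_rc_5_2 lc_a_rc_4_0 lc_a_rc_3_2 lc_a_rc_9_2 lc_a_rc_3_2 lc_a_rc_9_2 lc_a_rc_2_2 lc_a_rc_3_2 lc_a_rc_1_4 lc_a_rc_2_2 lc_a_rc_2_2 lc_a_rc_2_2 lc_a_rc_1_2 lc_a_rc_1_2 lc_a_rc_1_2 lc_a_rc_5_2) (@D3.rec (fun _ => (Cert rels S Gen.a)) lc_a_rc_5_2 lc_a_rc_9_2 lc_a_rc_9_2 lc_a_rc_4_2 lc_a_rc_3_2 lc_a_rc_9_2 lc_a_rc_9_2 lc_a_rc_2_0 lc_a_rc_6_2 lc_a_rc_3_2 lc_a_rc_3_2 lc_a_rc_4_2 lc_a_rc_3_0 lc_a_rc_7_2 lc_a_rc_2_2 lc_a_rc_5_2 lc_a_rc_4_2 lc_a_rc_3_2 lc_a_rc_3_2 lc_a_rc_4_2 lc_a_rc_4_2 lc_a_rc_4_2 lc_a_rc_2_0 lc_a_rc_2_0 lc_a_rc_5_2 lc_a_rc_56_28 lc_a_rc_5_2 lc_a_rc_5_2 lc_a_rc_9_2 lc_a_rc_2_2 lc_a_rc_3_0 lc_a_rc_2_2 lc_a_rc_4_2 lc_a_rc_3_2 lc_a_rc_3_2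 lc_a_rc_2_2 lc_a_rc_9_2 lc_a_rc_0_0 lc_a_rc_56_56 lc_a_rc_4_2 lc_a_rc_3_2 lc_a_rc_2_0 lc_a_rc_9_2 lc_a_rc_3_2 lc_a_rc_4_2 lc_a_rc_4_2 lc_a_rc_3_2 lc_a_rc_1_2 lc_a_rc_1_2 lc_a_rc_3_2 lc_a_rc_2_2) (@D3.rec (fun _ => (Cert rels S Gen.a)) lc_a_rc_4_2 lc_a_rc_3_2 lc_a_rc_3_2 lc_a_rc_9_2 lc_a_rc_9_2 lc_a_rc_56_42 lc_a_rc_7_2 lc_a_rc_6_2 lc_a_rc_3_2 lc_a_rc_3_2 lc_a_rc_6_2 lc_a_rc_4_2 lc_a_rc_5_2 lc_a_rc_3_2 lc_a_rc_9_2 lc_a_rc_3_2 lc_a_rc_3_2 lc_a_rc_6_2 lc_a_rc_6_2 lc_a_rc_6_2 lc_a_rc_4_2 lc_a_rc_4_2 lc_a_rc_2_2 lc_a_rc_4_2 lc_a_Cert_tree lc_a_rc_2_2 lc_a_rc_5_2 lc_a_rc_2_2 lc_a_rc_0_0 lc_a_rc_5_2 lc_a_rc_6_2 lc_a_rc_9_2 lc_a_rc_3_2 lc_a_rc_6_2 lc_a_rc_5_2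 lc_a_rc_3_2 lc_a_rc_5_2 lc_a_rc_4_2 lc_a_rc_56_14 lc_a_rc_7_2 lc_a_rc_2_0 lc_a_rc_0_0 lc_a_rc_9_2 lc_a_rc_9_2 lc_a_rc_3_2 lc_a_rc_5_2 lc_a_rc_7_2 lc_a_rc_5_2 lc_a_rc_3_2 lc_a_rc_3_2 lc_a_rc_5_2) (@D3.rec (fun _ => (Cert rels S Gen.a)) lc_a_rc_5_2 lc_a_rc_9_2 lc_a_rc_4_2 lc_a_rc_3_2 lc_a_rc_7_2 lc_a_rc_8_2 lc_a_rc_6_2 lc_a_rc_3_2 lc_a_rc_7_2 lc_a_rc_3_2 lc_a_rc_3_2 lc_a_rc_5_2 lc_a_rc_4_2 lc_a_rc_7_2 lc_a_rc_6_2 lc_a_rc_3_2 lc_a_rc_4_2 lc_a_rc_4_2 lc_a_rc_4_2 lc_a_rc_9_2 lc_a_rc_2_0 lc_a_rc_2_0 lc_a_rc_2_2 lc_a_rc_2_2 lc_a_rc_2_2 lc_a_rc_3_2 lc_a_rc_2_2 lc_a_rc_2_2 lc_a_rc_2_2 lc_a_rc_1_2 lc_a_rc_1_2 lc_a_rc_2_2 lc_a_rc_2_2 lc_a_rc_2_2 lc_a_rc_3_2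 lc_a_rc_2_2 lc_a_rc_4_2 lc_a_rc_5_2 lc_a_rc_9_2 lc_a_rc_3_2 lc_a_rc_2_2 lc_a_rc_2_2 lc_a_rc_1_4 lc_a_rc_1_4 lc_a_rc_1_4 lc_a_rc_2_2 lc_a_rc_4_2 lc_a_rc_3_2 lc_a_rc_6_2 lc_a_rc_4_2 lc_a_rc_3_2) (@D3.rec (fun _ => (Cert rels S Gen.a)) lc_a_rc_2_0 lc_a_rc_9_2 lc_a_rc_2_0 lc_a_rc_2_2 lc_a_rc_3_2 lc_a_rc_2_2 lc_a_rc_3_2 lc_a_rc_4_2 lc_a_rc_4_2 lc_a_rc_8_2 lc_a_rc_7_2 lc_a_rc_3_2 lc_a_rc_5_2 lc_a_rc_3_2 lc_a_rc_4_2 lc_a_rc_4_2 lc_a_rc_4_2 lc_a_rc_3_2 lc_a_rc_4_2 lc_a_rc_2_0 lc_a_rc_2_0 lc_a_rc_2_2 lc_a_rc_2_2 lc_a_rc_2_2 lc_a_rc_3_2 lc_a_rc_2_2 lc_a_rc_2_2 lc_a_rc_3_2 lc_a_rc_2_2 lc_a_rc_1_2 lc_a_rc_1_2 lc_a_rc_1_2 lc_a_rc_7_2 lc_a_rc_1_2 lc_a_rc_3_2 lc_a_rc_2_2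 lc_a_rc_2_2 lc_a_rc_2_2 lc_a_rc_2_2 lc_a_rc_3_2 lc_a_rc_2_2 lc_a_rc_4_2 lc_a_rc_3_2 lc_a_rc_6_2 lc_a_rc_4_2 lc_a_rc_5_2 lc_a_rc_3_2 lc_a_rc_9_2 lc_a_rc_9_2 lc_a_rc_3_2 lc_a_rc_3_0) (@D3.rec (fun _ => (Cert rels S Gen.a)) lc_a_rc_2_2 lc_a_rc_2_2 lc_a_rc_2_2 lc_a_rc_3_2 lc_a_rc_2_2 lc_a_rc_3_2 lc_a_rc_1_4 lc_a_rc_2_2 lc_a_rc_4_2 lc_a_rc_3_2 lc_a_rc_6_2 lc_a_rc_4_2 lc_a_rc_5_2 lc_a_rc_6_2 lc_a_rc_6_2 lc_a_rc_3_2 lc_a_rc_4_2 lc_a_rc_9_2 lc_a_rc_3_0 lc_a_rc_3_2 lc_a_rc_3_2 lc_a_rc_2_2 lc_a_rc_2_2 lc_a_rc_3_2 lc_a_rc_2_2 lc_a_rc_2_2 lc_a_rc_3_2 lc_a_Cert_tree lc_a_rc_2_2 lc_a_rc_5_2 lc_a_rc_7_2 lc_a_rc_6_2 lc_a_rc_7_2 lc_a_rc_8_2 lc_a_rc_7_2 lc_a_rc_9_0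 lc_a_rc_5_2 lc_a_rc_8_2 lc_a_rc_3_2 lc_a_rc_5_2 lc_a_rc_0_0 lc_a_rc_1_4 lc_a_rc_0_0 lc_a_rc_2_0 lc_a_rc_2_0 lc_a_rc_8_2 lc_a_rc_2_0 lc_a_rc_9_2 lc_a_rc_9_0 lc_a_rc_2_0 lc_a_rc_0_0) (@D3.rec (fun _ => (Cert rels S Gen.a)) lc_a_rc_2_2 lc_a_rc_2_2 lc_a_rc_3_2 lc_a_rc_2_2 lc_a_rc_3_2 lc_a_rc_2_2 lc_a_rc_2_2 lc_a_rc_3_2 lc_a_Cert_tree lc_a_rc_2_2 lc_a_rc_5_2 lc_a_rc_1_2 lc_a_rc_1_2 lc_a_rc_1_2 lc_a_rc_1_2 lc_a_rc_1_2 lc_a_rc_4_0 lc_a_rc_1_2 lc_a_rc_0_0 lc_a_rc_9_2 lc_a_rc_3_2 lc_a_rc_5_2 lc_a_rc_2_2 lc_a_rc_2_2 lc_a_rc_2_2 lc_a_rc_3_2 lc_a_rc_2_2 lc_a_rc_2_2 lc_a_rc_3_2 lc_a_rc_2_2 lc_a_rc_4_2 lc_a_rc_3_2 lc_a_rc_6_2 lc_a_rc_4_2 lc_a_rc_5_2 lc_a_rc_6_2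 lc_a_rc_6_2 lc_a_rc_5_2 lc_a_rc_3_2 lc_a_rc_9_2 lc_a_rc_2_2 lc_a_rc_3_2 lc_a_rc_9_2 lc_a_rc_3_2 lc_a_rc_3_2 lc_a_rc_5_2 lc_a_rc_5_2 lc_a_rc_9_2 lc_a_rc_2_2 lc_a_rc_2_2 lc_a_rc_2_2) (@D3.rec (fun _ => (Cert rels S Gen.a)) lc_a_rc_3_2 lc_a_rc_2_2 lc_a_rc_2_2 lc_a_rc_4_2 lc_a_rc_3_2 lc_a_rc_4_0 lc_a_rc_2_2 lc_a_rc_4_2 lc_a_rc_3_2 lc_a_rc_6_2 lc_a_rc_4_2 lc_a_rc_5_2 lc_a_rc_7_2 lc_a_rc_6_2 lc_a_rc_5_2 lc_a_rc_7_2 lc_a_rc_6_2 lc_a_rc_3_2 lc_a_rc_9_2 lc_a_rc_56_28 lc_a_rc_9_2 lc_a_rc_2_2 lc_a_rc_3_2 lc_a_Cert_tree lc_a_rc_2_2 lc_a_rc_5_2 lc_a_rc_2_2 lc_a_rc_3_2 lc_a_rc_2_2 lc_a_rc_2_2 lc_a_rc_4_2 lc_a_rc_3_2 lc_a_rc_2_2 lc_a_rc_3_2 lc_a_Cert_tree lc_a_rc_2_2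 lc_a_rc_5_2 lc_a_rc_0_0 lc_a_rc_9_2 lc_a_rc_2_2 lc_a_rc_1_2 lc_a_rc_2_2 lc_a_rc_2_2 lc_a_rc_4_2 lc_a_rc_3_2 lc_a_rc_5_2 lc_a_rc_9_2 lc_a_rc_8_2 lc_a_rc_2_2 lc_a_rc_3_2 lc_a_rc_2_2) (@D3.rec (fun _ => (Cert rels S Gen.a)) lc_a_rc_5_2 lc_a_rc_6_0 lc_a_rc_5_2 lc_a_rc_9_2 lc_a_rc_4_2 lc_a_rc_4_2 lc_a_rc_4_2 lc_a_rc_4_2 lc_a_rc_3_2 lc_a_rc_3_2 lc_a_rc_9_2 lc_a_rc_9_0 lc_a_rc_2_2 lc_a_rc_2_2 lc_a_rc_2_2 lc_a_rc_3_2 lc_a_rc_2_2 lc_a_rc_4_2 lc_a_rc_5_2 lc_a_rc_3_2 lc_a_rc_5_2 lc_a_rc_9_2 lc_a_rc_3_2 lc_a_rc_2_2 lc_a_rc_2_2 lc_a_rc_2_2 lc_a_rc_2_2 lc_a_rc_3_2 lc_a_rc_2_2 lc_a_rc_8_2 lc_a_rc_3_2 lc_a_rc_6_2 lc_a_rc_4_2 lc_a_rc_5_2 lc_a_rc_3_2 lc_a_rc_9_2 lc_a_rc_5_2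 lc_a_rc_9_2 lc_a_rc_8_2 lc_a_rc_5_2 lc_a_rc_8_2 lc_a_rc_3_2 lc_a_rc_9_2 lc_a_rc_2_2 lc_a_rc_3_2 lc_a_rc_9_2 lc_a_rc_1_2 lc_a_rc_1_2 lc_a_rc_1_2 lc_a_rc_1_2 lc_a_rc_3_2) (@D3.rec (fun _ => (Cert rels S Gen.a)) lc_a_rc_2_2 lc_a_rc_2_2 lc_a_rc_2_2 lc_a_rc_2_2 lc_a_rc_3_2 lc_a_rc_2_2 lc_a_rc_3_2 lc_a_rc_6_2 lc_a_rc_4_2 lc_a_rc_5_2 lc_a_rc_3_2 lc_a_rc_9_2 lc_a_rc_5_2 lc_a_rc_9_2 lc_a_rc_3_2 lc_a_rc_5_2 lc_a_rc_2_2 lc_a_rc_2_2 lc_a_rc_2_2 lc_a_rc_3_2 lc_a_rc_2_2 lc_a_rc_2_2 lc_a_rc_3_2 lc_a_rc_2_2 lc_a_rc_4_2 lc_a_rc_3_2 lc_a_rc_3_2 lc_a_rc_3_2 lc_a_rc_5_2 lc_a_rc_6_2 lc_a_rc_6_2 lc_a_rc_5_2 lc_a_rc_3_2 lc_a_rc_9_2 lc_a_rc_2_2 lc_a_rc_3_2 lc_a_rc_9_2 lc_a_rc_8_2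 lc_a_rc_9_2 lc_a_rc_9_2 lc_a_rc_3_2 lc_a_Cert_tree lc_a_rc_2_2 lc_a_rc_5_2 lc_a_rc_1_2 lc_a_rc_2_2 lc_a_rc_2_2 lc_a_rc_3_2 lc_a_rc_2_2 lc_a_rc_4_2 lc_a_rc_5_2) (@D3.rec (fun _ => (Cert rels S Gen.a)) lc_a_rc_3_2 lc_a_rc_5_2 lc_a_rc_9_2 lc_a_rc_6_2 lc_a_rc_2_2 lc_a_rc_3_2 lc_a_rc_2_2 lc_a_rc_2_2 lc_a_rc_3_2 lc_a_rc_6_2 lc_a_rc_5_2 lc_a_rc_3_2 lc_a_rc_9_2 lc_a_rc_5_2 lc_a_rc_9_2 lc_a_rc_6_2 lc_a_rc_6_2 lc_a_rc_4_2 lc_a_rc_4_2 lc_a_rc_4_2 lc_a_rc_2_2 lc_a_rc_4_2 lc_a_rc_3_2 lc_a_rc_4_2 lc_a_rc_9_2 lc_a_rc_9_0 lc_a_rc_5_2 lc_a_rc_3_2 lc_a_rc_2_2 lc_a_rc_2_2 lc_a_rc_2_2 lc_a_rc_2_2 lc_a_rc_3_2 lc_a_rc_2_2 lc_a_rc_3_2 lc_a_rc_6_2 lc_a_rc_4_2 lc_a_rc_5_2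 lc_a_rc_3_2 lc_a_rc_9_2 lc_a_rc_5_2 lc_a_rc_9_2 lc_a_rc_3_2 lc_a_rc_5_2 lc_a_rc_2_2 lc_a_rc_2_2 lc_a_rc_2_2 lc_a_rc_3_2 lc_a_rc_2_2 lc_a_rc_2_2 lc_a_rc_3_2) (@D3.rec (fun _ => (Cert rels S Gen.a)) lc_a_rc_2_2 lc_a_rc_4_2 lc_a_rc_3_2 lc_a_rc_3_2 lc_a_rc_9_2 lc_a_rc_5_2 lc_a_rc_6_2 lc_a_rc_6_2 lc_a_rc_5_2 lc_a_rc_3_2 lc_a_rc_9_2 lc_a_rc_2_2 lc_a_rc_3_2 lc_a_rc_9_2 lc_a_rc_8_2 lc_a_rc_8_2 lc_a_rc_3_2 lc_a_rc_9_2 lc_a_rc_3_2 lc_a_rc_9_2 lc_a_rc_2_2 lc_a_rc_3_2 lc_a_Cert_tree lc_a_rc_2_2 lc_a_rc_5_2 lc_a_rc_1_2 lc_a_rc_1_2 lc_a_rc_1_2 lc_a_rc_1_2 lc_a_rc_1_2 lc_a_rc_1_2 lc_a_rc_3_2 lc_a_rc_5_2 lc_a_rc_2_2 lc_a_rc_2_2 lc_a_rc_2_2 lc_a_rc_3_2 lc_a_rc_2_2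 lc_a_rc_2_2 lc_a_rc_3_2 lc_a_rc_2_2 lc_a_rc_4_2 lc_a_rc_3_2 lc_a_rc_5_2 lc_a_rc_6_2 lc_a_rc_6_2 lc_a_rc_5_2 lc_a_rc_3_2 lc_a_rc_9_2 lc_a_rc_2_2 lc_a_rc_3_2) (@D3.rec (fun _ => (Cert rels S Gen.a)) lc_a_rc_9_2 lc_a_rc_3_2 lc_a_rc_3_2 lc_a_rc_5_2 lc_a_rc_5_2 lc_a_rc_9_2 lc_a_rc_2_2 lc_a_rc_2_2 lc_a_rc_2_2 lc_a_rc_3_2 lc_a_rc_2_2 lc_a_rc_2_2 lc_a_rc_4_2 lc_a_rc_3_2 lc_a_rc_3_2 lc_a_rc_2_2 lc_a_rc_4_2 lc_a_rc_3_2 lc_a_rc_4_2 lc_a_rc_4_2 lc_a_rc_5_2 lc_a_rc_3_2 lc_a_rc_3_2 lc_a_rc_3_0 lc_a_rc_7_2 lc_a_rc_6_2 lc_a_rc_3_2 lc_a_rc_9_2 lc_a_rc_3_2 lc_a_rc_9_2 lc_a_rc_2_2 lc_a_rc_3_2 lc_a_Cert_tree lc_a_rc_2_2 lc_a_rc_5_2 lc_a_rc_8_2 lc_a_rc_3_2 lc_a_rc_9_2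 lc_a_rc_2_2 lc_a_rc_4_2 lc_a_rc_3_2 lc_a_rc_3_2 lc_a_Cert_tree lc_a_rc_2_2 lc_a_rc_5_2 lc_a_rc_0_0 lc_a_rc_9_2 lc_a_rc_2_2 lc_a_rc_1_2 lc_a_rc_1_2 lc_a_rc_1_2) (@D3.rec (fun _ => (Cert rels S Gen.a)) lc_a_rc_2_2 lc_a_rc_3_2 lc_a_rc_2_2 lc_a_rc_3_2 lc_a_rc_5_2 lc_a_rc_9_2 lc_a_rc_2_2 lc_a_rc_56_7 lc_a_rc_2_2 lc_a_rc_6_2 lc_a_rc_3_2 lc_a_rc_2_2 lc_a_rc_4_2 lc_a_rc_3_2 lc_a_rc_56_28 lc_a_rc_2_2 lc_a_rc_5_2 lc_a_rc_3_2 lc_a_rc_3_2 lc_a_rc_3_2 lc_a_rc_9_2 lc_a_rc_6_2 lc_a_rc_6_2 lc_a_rc_6_2 lc_a_rc_4_2 lc_a_rc_4_2 lc_a_rc_2_2 lc_a_rc_4_2 lc_a_rc_56_56 lc_a_rc_2_2 lc_a_rc_7_2 lc_a_rc_9_0 lc_a_rc_9_2 lc_a_rc_9_0 lc_a_rc_5_2 lc_a_rc_2_2 lc_a_rc_2_2 lc_a_rc_2_2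 lc_a_rc_3_2 lc_a_rc_2_2 lc_a_rc_2_2 lc_a_rc_3_2 lc_a_rc_2_2 lc_a_rc_4_2 lc_a_rc_3_2 lc_a_rc_5_2 lc_a_rc_6_2 lc_a_rc_6_2 lc_a_rc_5_2 lc_a_rc_9_2 lc_a_rc_9_2) (@D3.rec (fun _ => (Cert rels S Gen.a)) lc_a_rc_5_0 lc_a_rc_5_0 lc_a_rc_3_0 lc_a_rc_2_2 lc_a_rc_3_0 lc_a_rc_2_2 lc_a_rc_2_2 lc_a_rc_2_2 lc_a_rc_3_2 lc_a_rc_2_2 lc_a_rc_2_2 lc_a_rc_4_2 lc_a_rc_3_2 lc_a_rc_3_2 lc_a_rc_2_2 lc_a_rc_4_2 lc_a_rc_3_2 lc_a_rc_0_1 lc_a_rc_4_2 lc_a_rc_5_2 lc_a_rc_7_2 lc_a_rc_9_2 lc_a_rc_2_0 lc_a_rc_7_2 lc_a_rc_6_2 lc_a_rc_3_2 lc_a_rc_9_2 lc_a_rc_3_2 lc_a_rc_9_2 lc_a_rc_3_0 lc_a_rc_3_2 lc_a_rc_5_2 lc_a_rc_3_0 lc_a_rc_8_2 lc_a_rc_3_2 lc_a_rc_9_2 lc_a_rc_2_2 lc_a_rc_4_2 lc_a_rc_3_2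 lc_a_rc_2_2 lc_a_rc_3_2 lc_a_rc_4_2 lc_a_rc_2_2 lc_a_rc_5_2 lc_a_rc_0_0 lc_a_rc_9_2 lc_a_rc_2_2 lc_a_rc_1_2 lc_a_rc_1_2 lc_a_rc_1_2 lc_a_rc_1_2) (@D3.rec (fun _ => (Cert rels S Gen.a)) lc_a_rc_1_2 lc_a_rc_1_2 lc_a_rc_1_2 lc_a_rc_1_2 lc_a_rc_1_2 lc_a_rc_3_2 lc_a_rc_3_2 lc_a_rc_5_2 lc_a_rc_5_2 lc_a_rc_9_2 lc_a_rc_2_2 lc_a_rc_2_2 lc_a_rc_2_2 lc_a_rc_3_2 lc_a_rc_2_2 lc_a_rc_2_2 lc_a_rc_4_2 lc_a_rc_3_2 lc_a_rc_3_2 lc_a_rc_2_2 lc_a_rc_4_2 lc_a_rc_3_2 lc_a_rc_4_2 lc_a_rc_5_2 lc_a_rc_7_2 lc_a_rc_6_2 lc_a_rc_3_2 lc_a_rc_9_2 lc_a_rc_3_2 lc_a_rc_9_2 lc_a_rc_2_2 lc_a_rc_3_2 lc_a_Cert_tree lc_a_rc_2_2 lc_a_rc_4_2 lc_a_rc_3_2 lc_a_rc_5_2 lc_a_rc_5_2 lc_a_rc_5_2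 lc_a_rc_9_2 lc_a_rc_1_0 lc_a_rc_5_2 lc_a_rc_9_2 lc_a_rc_2_2 lc_a_rc_2_2 lc_a_rc_3_2 lc_a_rc_2_2 lc_a_rc_3_2 lc_a_rc_2_2 lc_a_rc_2_2 lc_a_rc_4_2) (@D3.rec (fun _ => (Cert rels S Gen.a)) lc_a_rc_3_2 lc_a_Cert_tree lc_a_rc_2_2 lc_a_rc_2_2 lc_a_rc_9_0 lc_a_rc_4_2 lc_a_rc_5_2 lc_a_rc_4_2 lc_a_rc_3_2 lc_a_rc_6_2 lc_a_rc_4_2 lc_a_rc_5_2 lc_a_rc_1_0 lc_a_rc_1_0 lc_a_rc_5_2 lc_a_rc_3_2 lc_a_rc_3_2 lc_a_rc_56_7 lc_a_rc_7_2 lc_a_rc_3_2 lc_a_rc_9_2 lc_a_rc_2_2 lc_a_rc_4_2 lc_a_rc_3_2 lc_a_rc_2_2 lc_a_rc_3_2 lc_a_Cert_tree lc_a_rc_2_2 lc_a_rc_2_0 lc_a_rc_0_0 lc_a_rc_9_2 lc_a_rc_1_0 lc_a_rc_3_2 lc_a_rc_9_2 lc_a_rc_2_2 lc_a_rc_4_2 lc_a_rc_3_2 lc_a_Cert_tree lc_a_rc_2_2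 lc_a_rc_2_2 lc_a_rc_4_2 lc_a_rc_5_2 lc_a_Cert_tree lc_a_rc_2_2 lc_a_rc_5_2 lc_a_rc_0_0 lc_a_rc_9_2 lc_a_rc_2_2 lc_a_rc_9_2 lc_a_rc_5_2 lc_a_rc_3_2) (@D3.rec (fun _ => (Cert rels S Gen.a)) lc_a_rc_6_2 lc_a_rc_7_2 lc_a_rc_5_0 lc_a_rc_5_0 lc_a_rc_3_2 lc_a_rc_3_2 lc_a_rc_3_2 lc_a_rc_7_2 lc_a_rc_7_2 lc_a_rc_5_0 lc_a_rc_5_0 lc_a_rc_5_0 lc_a_rc_5_0 lc_a_rc_7_2 lc_a_rc_3_2 lc_a_rc_9_2 lc_a_rc_2_2 lc_a_rc_4_2 lc_a_rc_3_2 lc_a_rc_2_0 lc_a_rc_5_2 lc_a_rc_5_2 lc_a_rc_56_42 lc_a_rc_2_2 lc_a_rc_9_2 lc_a_rc_0_1 lc_a_rc_3_2 lc_a_rc_4_2 lc_a_rc_3_2 lc_a_rc_5_2 lc_a_rc_5_2 lc_a_rc_9_2 lc_a_rc_2_2 lc_a_rc_7_2 lc_a_rc_3_2 lc_a_rc_2_2 lc_a_rc_4_2 lc_a_rc_2_2 lc_a_Cert_tree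 lc_a_rc_0_0 lc_a_rc_4_2 lc_a_rc_5_2 lc_a_rc_3_2 lc_a_rc_5_2 lc_a_rc_6_2 lc_a_rc_9_2 lc_a_rc_8_2 lc_a_rc_9_2 lc_a_rc_1_0 lc_a_rc_2_0 lc_a_Cert_tree) (@D3.rec (fun _ => (Cert rels S Gen.a)) lc_a_rc_1_0 lc_a_rc_8_2 lc_a_rc_8_2 lc_a_rc_3_2 lc_a_rc_7_2 lc_a_rc_3_2 lc_a_Cert_tree lc_a_rc_0_0 lc_a_rc_3_2 lc_a_rc_7_2 lc_a_rc_2_2 lc_a_rc_4_2 lc_a_rc_6_2 lc_a_Cert_tree lc_a_rc_2_2 lc_a_rc_1_0 lc_a_rc_4_2 lc_a_rc_2_0 lc_a_Cert_tree lc_a_rc_1_0 lc_a_rc_2_0 lc_a_rc_0_0 lc_a_rc_9_2 lc_a_rc_1_0 lc_a_rc_9_2 lc_a_rc_5_2 lc_a_rc_1_0 lc_a_rc_2_2 lc_a_rc_4_2 lc_a_rc_3_2 lc_a_Cert_tree lc_a_rc_5_2 lc_a_rc_0_0 lc_a_rc_0_1 lc_a_rc_9_2 lc_a_rc_2_2 lc_a_rc_5_2 lc_a_rc_0_0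 lc_a_rc_9_2 lc_a_rc_2_2 lc_a_rc_9_2 lc_a_rc_5_2 lc_a_rc_3_2 lc_a_rc_5_2 lc_a_rc_3_2 lc_a_rc_4_2 lc_a_rc_2_2 lc_a_rc_2_2 lc_a_rc_7_2 lc_a_rc_2_0 lc_a_rc_2_0) (@D3.rec (fun _ => (Cert rels S Gen.a)) lc_a_rc_4_2 lc_a_rc_2_2 lc_a_rc_3_2 lc_a_rc_4_2 lc_a_rc_6_2 lc_a_rc_6_2 lc_a_rc_5_0 lc_a_rc_6_2 lc_a_rc_8_2 lc_a_rc_7_2 lc_a_rc_9_2 lc_a_rc_9_2 lc_a_rc_3_2 lc_a_rc_5_2 lc_a_rc_5_2 lc_a_rc_5_2 lc_a_rc_2_2 lc_a_rc_9_2 lc_a_rc_2_2 lc_a_rc_9_2 lc_a_rc_1_0 lc_a_rc_1_0 lc_a_rc_4_2 lc_a_rc_7_2 lc_a_rc_5_2 lc_a_rc_4_2 lc_a_rc_2_0 lc_a_rc_1_2 lc_a_rc_9_0 lc_a_rc_5_2 lc_a_rc_2_2 lc_a_rc_2_2 lc_a_rc_3_2 lc_a_rc_2_2 lc_a_rc_3_2 lc_a_rc_6_2 lc_a_rc_5_2 lc_a_rc_3_2 lc_a_rc_9_2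 lc_a_rc_5_2 lc_a_rc_9_2 lc_a_rc_6_2 lc_a_rc_1_4 lc_a_rc_3_0 lc_a_rc_3_2 lc_a_rc_2_2 lc_a_rc_2_2 lc_a_rc_4_2 lc_a_rc_3_2 lc_a_rc_9_0 lc_a_rc_5_2) (@D3.rec (fun _ => (Cert rels S Gen.a)) lc_a_rc_6_2 lc_a_rc_0_1 lc_a_rc_3_2 lc_a_rc_9_2 lc_a_rc_3_0 lc_a_rc_3_2 lc_a_rc_9_2 lc_a_rc_2_2 lc_a_rc_3_2 lc_a_rc_3_2 lc_a_Cert_tree lc_a_rc_2_2 lc_a_rc_7_2 lc_a_rc_4_2 lc_a_rc_4_2 lc_a_rc_4_2 lc_a_rc_4_2 lc_a_rc_3_2 lc_a_rc_4_2 lc_a_rc_6_2 lc_a_rc_5_2 lc_a_rc_4_2 lc_a_rc_4_2 lc_a_rc_4_2 lc_a_rc_2_2 lc_a_rc_3_2 lc_a_rc_2_0 lc_a_rc_2_2 lc_a_rc_5_2 lc_a_rc_1_2 lc_a_rc_1_2 lc_a_rc_4_2 lc_a_rc_9_0 lc_a_rc_6_2 lc_a_rc_2_2 lc_a_rc_2_2 lc_a_rc_3_2 lc_a_rc_2_2 lc_a_rc_2_2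 lc_a_rc_3_2 lc_a_rc_2_2 lc_a_rc_4_2 lc_a_rc_3_2 lc_a_rc_6_2 lc_a_rc_6_2 lc_a_rc_5_2 lc_a_rc_3_2 lc_a_rc_9_2 lc_a_rc_3_2 lc_a_rc_9_2 lc_a_rc_4_2) (@D3.rec (fun _ => (Cert rels S Gen.a)) lc_a_rc_7_2 lc_a_rc_2_2 lc_a_rc_9_2 lc_a_rc_8_2 lc_a_rc_2_2 lc_a_rc_8_2 lc_a_rc_3_2 lc_a_rc_2_2 lc_a_rc_1_0 lc_a_rc_4_2 lc_a_rc_3_2 lc_a_rc_2_2 lc_a_rc_4_2 lc_a_rc_3_2 lc_a_rc_4_2 lc_a_rc_4_2 lc_a_rc_9_0 lc_a_rc_5_2 lc_a_rc_7_2 lc_a_rc_6_2 lc_a_rc_3_2 lc_a_rc_9_2 lc_a_rc_3_2 lc_a_rc_9_2 lc_a_rc_7_2 lc_a_rc_3_2 lc_a_rc_3_0 lc_a_rc_9_2 lc_a_rc_5_2 lc_a_rc_2_2 lc_a_rc_3_2 lc_a_rc_2_2 lc_a_rc_2_2 lc_a_rc_4_2 lc_a_rc_3_2 lc_a_rc_2_2 lc_a_rc_3_2 lc_a_Cert_tree lc_a_rc_2_2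 lc_a_rc_5_2 lc_a_rc_0_0 lc_a_rc_9_2 lc_a_rc_2_2 lc_a_rc_2_2 lc_a_rc_4_2 lc_a_Cert_tree lc_a_rc_2_2 lc_a_rc_5_2 lc_a_rc_3_2 lc_a_rc_1_4 lc_a_rc_7_2) (@D3.rec (fun _ => (Cert rels S Gen.a)) lc_a_rc_9_0 lc_a_rc_9_2 lc_a_rc_6_2 lc_a_rc_6_2 lc_a_rc_4_2 lc_a_rc_9_0 lc_a_rc_4_2 lc_a_rc_9_0 lc_a_rc_5_0 lc_a_rc_3_2 lc_a_rc_2_0 lc_a_rc_2_0 lc_a_rc_2_0 lc_a_rc_2_0 lc_a_rc_2_0 lc_a_rc_9_2 lc_a_rc_9_0 lc_a_rc_2_0 lc_a_Cert_tree lc_a_rc_5_0 lc_a_rc_56_14 lc_a_rc_2_2 lc_a_rc_2_2 lc_a_rc_3_2 lc_a_rc_2_2 lc_a_rc_3_2 lc_a_Cert_tree lc_a_rc_2_2 lc_a_rc_5_2 lc_a_rc_0_0 lc_a_rc_9_2 lc_a_rc_2_2 lc_a_rc_1_2 lc_a_rc_1_2 lc_a_rc_1_2 lc_a_rc_1_2 lc_a_rc_9_0 lc_a_rc_9_0 lc_a_rc_1_2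 lc_a_rc_9_0 lc_a_rc_5_2 lc_a_rc_3_2 lc_a_rc_3_2 lc_a_rc_5_2 lc_a_rc_5_2 lc_a_rc_9_2 lc_a_rc_2_2 lc_a_rc_2_2 lc_a_rc_2_2 lc_a_rc_3_2 lc_a_rc_2_2) (@D3.rec (fun _ => (Cert rels S Gen.a)) lc_a_rc_2_2 lc_a_rc_4_2 lc_a_rc_3_2 lc_a_rc_3_2 lc_a_rc_2_2 lc_a_rc_4_2 lc_a_rc_3_2 lc_a_rc_4_2 lc_a_rc_7_2 lc_a_rc_6_2 lc_a_rc_3_2 lc_a_rc_9_2 lc_a_rc_3_2 lc_a_rc_9_2 lc_a_rc_2_2 lc_a_rc_3_2 lc_a_Cert_tree lc_a_rc_2_2 lc_a_rc_5_2 lc_a_rc_56_14 lc_a_rc_1_4 lc_a_rc_5_2 lc_a_rc_5_2 lc_a_rc_5_2 lc_a_rc_9_2 lc_a_rc_2_2 lc_a_rc_9_0 lc_a_rc_9_2 lc_a_rc_2_2 lc_a_rc_2_2 lc_a_rc_3_2 lc_a_rc_2_2 lc_a_rc_3_2 lc_a_rc_2_2 lc_a_rc_2_2 lc_a_rc_4_2 lc_a_rc_3_2 lc_a_Cert_tree lc_a_rc_2_2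 lc_a_rc_2_2 lc_a_rc_9_0 lc_a_rc_4_2 lc_a_rc_5_2 lc_a_rc_4_2 lc_a_rc_3_2 lc_a_rc_6_2 lc_a_rc_4_2 lc_a_rc_9_0 lc_a_rc_5_2 lc_a_rc_9_0 lc_a_rc_5_2) (@D3.rec (fun _ => (Cert rels S Gen.a)) lc_a_rc_7_2 lc_a_rc_3_2 lc_a_rc_9_2 lc_a_rc_2_2 lc_a_rc_4_2 lc_a_rc_3_2 lc_a_rc_2_2 lc_a_rc_3_2 lc_a_Cert_tree lc_a_rc_2_2 lc_a_rc_5_2 lc_a_rc_0_0 lc_a_rc_9_2 lc_a_rc_2_2 lc_a_rc_3_2 lc_a_rc_2_2 lc_a_rc_2_2 lc_a_rc_4_2 lc_a_rc_3_2 lc_a_Cert_tree lc_a_rc_2_2 lc_a_rc_2_2 lc_a_rc_4_2 lc_a_rc_5_2 lc_a_Cert_tree lc_a_rc_2_2 lc_a_rc_5_2 lc_a_rc_0_0 lc_a_rc_9_2 lc_a_rc_2_2 lc_a_rc_9_2 lc_a_rc_5_2 lc_a_rc_3_2 lc_a_rc_1_2 lc_a_rc_3_2 lc_a_rc_2_2 lc_a_rc_2_2 lc_a_rc_2_2 lc_a_rc_2_2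 lc_a_rc_6_2 lc_a_rc_4_2 lc_a_rc_5_2 lc_a_rc_3_2 lc_a_rc_9_2 lc_a_rc_5_2 lc_a_rc_9_2 lc_a_rc_5_2 lc_a_rc_2_2 lc_a_rc_2_2 lc_a_rc_3_2 lc_a_rc_2_2) (@D3.rec (fun _ => (Cert rels S Gen.a)) lc_a_rc_5_2 lc_a_rc_3_2 lc_a_rc_2_2 lc_a_rc_4_2 lc_a_rc_6_2 lc_a_rc_9_2 lc_a_rc_2_2 lc_a_rc_3_2 lc_a_rc_9_2 lc_a_rc_5_2 lc_a_rc_5_2 lc_a_rc_2_2 lc_a_rc_2_2 lc_a_rc_2_2 lc_a_rc_3_2 lc_a_rc_2_2 lc_a_rc_2_2 lc_a_rc_2_2 lc_a_rc_6_2 lc_a_rc_6_2 lc_a_rc_5_2 lc_a_rc_3_2 lc_a_rc_9_2 lc_a_rc_2_2 lc_a_rc_3_2 lc_a_rc_9_2 lc_a_rc_3_2 lc_a_rc_5_2 lc_a_rc_9_2 lc_a_rc_2_2 lc_a_rc_2_2 lc_a_rc_2_2 lc_a_rc_3_2 lc_a_rc_2_2 lc_a_rc_2_2 lc_a_rc_3_2 lc_a_rc_3_2 lc_a_rc_2_2 lc_a_rc_5_0 lc_a_rc_4_2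 lc_a_rc_4_2 lc_a_rc_7_2 lc_a_rc_5_0 lc_a_rc_7_2 lc_a_rc_6_2 lc_a_rc_3_2 lc_a_rc_9_2 lc_a_rc_2_0 lc_a_rc_9_2 lc_a_rc_4_2 lc_a_rc_3_2) (@D3.rec (fun _ => (Cert rels S Gen.a)) lc_a_Cert_tree lc_a_rc_2_2 lc_a_rc_5_2 lc_a_rc_7_2 lc_a_rc_3_2 lc_a_rc_4_2 lc_a_rc_3_2 lc_a_rc_2_2 lc_a_rc_3_2 lc_a_Cert_tree lc_a_rc_2_2 lc_a_rc_5_2 lc_a_rc_0_0 lc_a_rc_9_2 lc_a_rc_2_2 lc_a_rc_3_2 lc_a_rc_3_2 lc_a_rc_5_2 lc_a_rc_2_2 lc_a_rc_2_2 lc_a_rc_2_2 lc_a_rc_3_2 lc_a_rc_2_2 lc_a_rc_2_2 lc_a_rc_2_2 lc_a_rc_6_2 lc_a_rc_6_2 lc_a_rc_5_2 lc_a_rc_3_2 lc_a_rc_9_2 lc_a_rc_2_2 lc_a_rc_3_2 lc_a_rc_9_2 lc_a_rc_3_2 lc_a_rc_5_2 lc_a_rc_5_2 lc_a_rc_9_2 lc_a_rc_2_2 lc_a_rc_2_2 lc_a_rc_2_2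 lc_a_rc_3_2 lc_a_rc_2_2 lc_a_rc_2_2 lc_a_rc_3_2 lc_a_rc_3_2 lc_a_rc_3_2 lc_a_rc_2_2 lc_a_rc_4_2 lc_a_rc_6_2 lc_a_rc_4_2 lc_a_rc_7_2)
def ce_a_8 : D2 → D3 → (Cert rels S Gen.a) := @D2.rec (fun _ => D3 → (Cert rels S Gen.a)) (@D3.rec (fun _ => (Cert rels S Gen.a)) lc_a_rc_6_2 lc_a_rc_3_2 lc_a_rc_9_2 lc_a_rc_9_2 lc_a_rc_2_2 lc_a_rc_3_2 lc_a_Cert_tree lc_a_rc_2_2 lc_a_rc_5_2 lc_a_rc_9_2 lc_a_rc_4_2 lc_a_rc_3_2 lc_a_rc_5_2 lc_a_rc_0_0 lc_a_rc_9_2 lc_a_rc_2_2 lc_a_rc_2_0 lc_a_rc_1_2 lc_a_rc_3_2 lc_a_rc_5_2 lc_a_rc_5_2 lc_a_rc_9_2 lc_a_rc_2_2 lc_a_rc_2_2 lc_a_rc_2_2 lc_a_rc_3_2 lc_a_rc_2_2 lc_a_rc_2_2 lc_a_rc_3_2 lc_a_rc_2_2 lc_a_rc_7_2 lc_a_rc_6_2 lc_a_rc_3_2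 lc_a_rc_9_2 lc_a_rc_3_2 lc_a_rc_9_2 lc_a_rc_2_2 lc_a_rc_3_2 lc_a_Cert_tree lc_a_rc_2_2 lc_a_rc_5_2 lc_a_rc_4_2 lc_a_rc_6_2 lc_a_rc_5_2 lc_a_rc_5_2 lc_a_rc_9_2 lc_a_rc_2_2 lc_a_rc_4_2 lc_a_rc_9_2 lc_a_rc_2_2 lc_a_rc_2_2) (@D3.rec (fun _ => (Cert rels S Gen.a)) lc_a_rc_3_2 lc_a_rc_2_2 lc_a_rc_3_2 lc_a_rc_2_2 lc_a_rc_2_2 lc_a_rc_3_2 lc_a_rc_3_2 lc_a_Cert_tree lc_a_rc_2_2 lc_a_rc_2_2 lc_a_rc_3_2 lc_a_rc_3_2 lc_a_rc_5_2 lc_a_rc_5_0 lc_a_rc_4_2 lc_a_rc_4_2 lc_a_rc_4_2 lc_a_rc_4_2 lc_a_rc_8_2 lc_a_rc_5_0 lc_a_rc_7_2 lc_a_rc_3_2 lc_a_rc_9_2 lc_a_rc_2_2 lc_a_rc_4_2 lc_a_rc_3_2 lc_a_rc_4_2 lc_a_rc_3_2 lc_a_Cert_tree lc_a_rc_2_2 lc_a_rc_5_2 lc_a_rc_0_0 lc_a_rc_9_2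 lc_a_rc_2_2 lc_a_rc_3_2 lc_a_rc_9_2 lc_a_rc_2_2 lc_a_rc_4_2 lc_a_rc_3_2 lc_a_Cert_tree lc_a_rc_2_2 lc_a_rc_2_2 lc_a_rc_4_2 lc_a_rc_5_2 lc_a_Cert_tree lc_a_rc_2_2 lc_a_rc_5_2 lc_a_rc_0_0 lc_a_rc_9_2 lc_a_rc_2_2 lc_a_rc_9_2) (@D3.rec (fun _ => (Cert rels S Gen.a)) lc_a_rc_5_2 lc_a_rc_3_2 lc_a_rc_9_2 lc_a_rc_8_2 lc_a_rc_2_2 lc_a_rc_2_2 lc_a_rc_2_2 lc_a_rc_3_2 lc_a_rc_2_2 lc_a_rc_3_2 lc_a_rc_2_2 lc_a_rc_7_2 lc_a_rc_6_2 lc_a_rc_9_2 lc_a_rc_9_2 lc_a_rc_5_0 lc_a_rc_5_0 lc_a_rc_3_0 lc_a_rc_3_0 lc_a_rc_2_2 lc_a_rc_3_0 lc_a_rc_2_2 lc_a_rc_2_2 lc_a_rc_2_2 lc_a_rc_2_2 lc_a_rc_3_2 lc_a_rc_2_2 lc_a_rc_3_2 lc_a_rc_2_2 lc_a_rc_2_2 lc_a_rc_9_0 lc_a_rc_3_2 lc_a_rc_9_0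 lc_a_rc_4_2 lc_a_rc_2_2 lc_a_rc_3_2 lc_a_rc_5_2 lc_a_rc_9_0 lc_a_rc_5_0 lc_a_rc_9_0 lc_a_rc_5_0 lc_a_rc_7_2 lc_a_rc_3_2 lc_a_rc_9_2 lc_a_rc_3_0 lc_a_rc_4_2 lc_a_rc_3_2 lc_a_rc_3_0 lc_a_rc_3_2 lc_a_Cert_tree lc_a_rc_3_0) (@D3.rec (fun _ => (Cert rels S Gen.a)) lc_a_rc_0_0 lc_a_rc_9_2 lc_a_rc_3_2 lc_a_rc_9_2 lc_a_rc_2_2 lc_a_rc_4_2 lc_a_rc_3_2 lc_a_Cert_tree lc_a_rc_2_2 lc_a_rc_2_2 lc_a_rc_4_2 lc_a_rc_5_2 lc_a_Cert_tree lc_a_rc_2_2 lc_a_rc_5_2 lc_a_rc_0_0 lc_a_rc_9_2 lc_a_rc_2_2 lc_a_rc_9_2 lc_a_rc_5_2 lc_a_rc_3_2 lc_a_rc_1_2 lc_a_rc_2_0 lc_a_rc_1_2 lc_a_rc_1_2 lc_a_rc_1_2 lc_a_rc_4_2 lc_a_rc_3_2 lc_a_rc_5_2 lc_a_rc_5_2 lc_a_rc_5_2 lc_a_rc_9_2 lc_a_rc_9_2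 lc_a_rc_2_2 lc_a_rc_2_2 lc_a_rc_3_2 lc_a_rc_2_2 lc_a_rc_3_2 lc_a_rc_2_2 lc_a_rc_2_2 lc_a_rc_3_2 lc_a_Cert_tree lc_a_rc_2_2 lc_a_rc_5_2 lc_a_rc_7_2 lc_a_rc_3_2 lc_a_rc_9_2 lc_a_rc_2_2 lc_a_rc_4_2 lc_a_rc_3_2 lc_a_rc_2_2) (@D3.rec (fun _ => (Cert rels S Gen.a)) lc_a_rc_3_2 lc_a_Cert_tree lc_a_rc_2_2 lc_a_rc_0_0 lc_a_rc_9_2 lc_a_rc_0_1 lc_a_rc_5_2 lc_a_rc_3_2 lc_a_rc_5_2 lc_a_rc_5_2 lc_a_rc_9_2 lc_a_rc_5_2 lc_a_rc_9_2 lc_a_rc_1_0 lc_a_rc_9_0 lc_a_rc_9_2 lc_a_Cert_tree lc_a_rc_4_2 lc_a_rc_1_0 lc_a_rc_9_0 lc_a_rc_5_0 lc_a_rc_9_2 lc_a_rc_2_2 lc_a_rc_3_2 lc_a_rc_2_2 lc_a_rc_2_2 lc_a_rc_4_2 lc_a_rc_3_2 lc_a_rc_2_2 lc_a_rc_9_0 lc_a_rc_3_2 lc_a_Cert_tree lc_a_rc_9_0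 lc_a_rc_2_2 lc_a_rc_9_0 lc_a_rc_5_0 lc_a_rc_5_2 lc_a_rc_0_0 lc_a_rc_4_2 lc_a_rc_9_2 lc_a_rc_9_0 lc_a_rc_5_0 lc_a_rc_2_2 lc_a_rc_9_0 lc_a_rc_5_0 lc_a_rc_3_0 lc_a_rc_6_2 lc_a_rc_4_2 lc_a_rc_7_2 lc_a_rc_5_0 lc_a_rc_8_2) (@D3.rec (fun _ => (Cert rels S Gen.a)) lc_a_rc_5_0 lc_a_rc_5_0 lc_a_rc_3_2 lc_a_rc_9_2 lc_a_rc_2_2 lc_a_rc_4_2 lc_a_rc_3_2 lc_a_Cert_tree lc_a_rc_2_2 lc_a_rc_2_2 lc_a_rc_4_2 lc_a_rc_5_2 lc_a_Cert_tree lc_a_rc_2_2 lc_a_rc_4_2 lc_a_rc_0_0 lc_a_rc_9_2 lc_a_rc_1_0 lc_a_rc_9_2 lc_a_rc_5_2 lc_a_rc_1_0 lc_a_rc_3_2 lc_a_rc_56_14 lc_a_rc_2_2 lc_a_rc_4_2 lc_a_rc_5_2 lc_a_rc_0_0 lc_a_rc_2_0 lc_a_rc_9_2 lc_a_rc_3_2 lc_a_rc_0_0 lc_a_rc_9_2 lc_a_rc_9_2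 lc_a_rc_5_2 lc_a_rc_3_2 lc_a_rc_5_2 lc_a_rc_3_2 lc_a_rc_4_2 lc_a_rc_5_0 lc_a_rc_4_2 lc_a_rc_7_2 lc_a_rc_3_2 lc_a_rc_3_2 lc_a_rc_3_2 lc_a_rc_7_2 lc_a_rc_5_0 lc_a_rc_5_0 lc_a_rc_4_2 lc_a_rc_5_0 lc_a_Cert_tree lc_a_rc_0_0) (@D3.rec (fun _ => (Cert rels S Gen.a)) lc_a_rc_2_2 lc_a_rc_4_2 lc_a_rc_3_2 lc_a_rc_4_2 lc_a_rc_0_0 lc_a_rc_3_2 lc_a_rc_4_2 lc_a_rc_2_2 lc_a_rc_5_2 lc_a_rc_0_0 lc_a_rc_9_2 lc_a_rc_2_2 lc_a_rc_9_2 lc_a_rc_5_2 lc_a_rc_3_2 lc_a_rc_5_2 lc_a_rc_2_2 lc_a_rc_4_2 lc_a_rc_5_2 lc_a_rc_5_2 lc_a_rc_9_2 lc_a_rc_9_2 lc_a_rc_3_2 lc_a_rc_2_2 lc_a_rc_4_2 lc_a_Cert_tree lc_a_rc_2_2 lc_a_Cert_tree lc_a_rc_0_0 lc_a_rc_0_1 lc_a_rc_3_2 lc_a_rc_9_2 lc_a_rc_2_0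 lc_a_rc_6_2 lc_a_rc_9_2 lc_a_rc_1_0 lc_a_rc_4_2 lc_a_rc_2_0 lc_a_rc_1_0 lc_a_rc_2_0 lc_a_Cert_tree lc_a_rc_1_0 lc_a_rc_0_0 lc_a_rc_9_2 lc_a_rc_7_2 lc_a_rc_3_2 lc_a_rc_8_2 lc_a_Cert_tree lc_a_rc_4_2 lc_a_Cert_tree lc_a_rc_0_0) (@D3.rec (fun _ => (Cert rels S Gen.a)) lc_a_rc_2_2 lc_a_rc_4_2 lc_a_rc_2_2 lc_a_rc_3_2 lc_a_rc_0_0 lc_a_rc_3_2 lc_a_rc_3_0 lc_a_rc_0_0 lc_a_rc_3_0 lc_a_rc_9_2 lc_a_rc_5_2 lc_a_rc_1_0 lc_a_rc_5_2 lc_a_rc_3_2 lc_a_rc_1_4 lc_a_rc_5_2 lc_a_rc_3_2 lc_a_rc_3_2 lc_a_rc_2_2 lc_a_rc_5_2 lc_a_rc_5_2 lc_a_rc_3_0 lc_a_rc_1_0 lc_a_rc_3_2 lc_a_rc_3_2 lc_a_rc_5_2 lc_a_rc_3_2 lc_a_rc_3_2 lc_a_rc_4_2 lc_a_rc_4_2 lc_a_rc_2_0 lc_a_rc_2_0 lc_a_rc_2_0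 lc_a_rc_2_0 lc_a_rc_56_28 lc_a_rc_9_2 lc_a_rc_5_2 lc_a_rc_0_0 lc_a_rc_9_2 lc_a_rc_2_2 lc_a_rc_2_2 lc_a_rc_4_2 lc_a_rc_3_2 lc_a_rc_2_2 lc_a_rc_2_2 lc_a_rc_2_2 lc_a_rc_4_2 lc_a_rc_5_2 lc_a_rc_0_1 lc_a_rc_2_2 lc_a_rc_5_2) (@D3.rec (fun _ => (Cert rels S Gen.a)) lc_a_rc_0_0 lc_a_rc_9_2 lc_a_rc_2_2 lc_a_rc_9_2 lc_a_rc_5_2 lc_a_rc_3_2 lc_a_rc_2_2 lc_a_rc_5_2 lc_a_rc_4_2 lc_a_rc_3_2 lc_a_rc_3_2 lc_a_rc_2_2 lc_a_rc_5_2 lc_a_rc_0_0 lc_a_rc_9_2 lc_a_rc_2_2 lc_a_rc_0_1 lc_a_rc_4_2 lc_a_rc_9_2 lc_a_rc_5_2 lc_a_rc_9_2 lc_a_rc_3_2 lc_a_rc_4_2 lc_a_rc_3_2 lc_a_rc_2_0 lc_a_rc_3_2 lc_a_rc_5_2 lc_a_rc_0_0 lc_a_rc_4_2 lc_a_rc_9_2 lc_a_rc_2_2 lc_a_rc_2_2 lc_a_rc_2_2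 lc_a_rc_3_2 lc_a_rc_3_2 lc_a_rc_3_0 lc_a_rc_4_2 lc_a_rc_4_2 lc_a_rc_4_2 lc_a_rc_4_2 lc_a_rc_4_2 lc_a_rc_4_2 lc_a_rc_7_2 lc_a_rc_4_0 lc_a_rc_3_0 lc_a_rc_4_0 lc_a_rc_4_2 lc_a_rc_5_2 lc_a_rc_0_1 lc_a_rc_6_0 lc_a_rc_5_2) (@D3.rec (fun _ => (Cert rels S Gen.a)) lc_a_rc_0_0 lc_a_rc_9_2 lc_a_rc_2_2 lc_a_rc_9_2 lc_a_rc_5_2 lc_a_rc_3_2 lc_a_rc_56_56 lc_a_rc_2_2 lc_a_rc_5_2 lc_a_rc_0_0 lc_a_rc_4_2 lc_a_rc_9_2 lc_a_rc_2_2 lc_a_rc_2_2 lc_a_rc_5_2 lc_a_rc_0_0 lc_a_rc_9_2 lc_a_rc_2_2 lc_a_rc_9_2 lc_a_rc_5_2 lc_a_rc_3_2 lc_a_rc_5_2 lc_a_rc_3_2 lc_a_rc_4_2 lc_a_rc_2_2 lc_a_rc_3_2 lc_a_rc_2_2 lc_a_rc_3_2 lc_a_Cert_tree lc_a_rc_2_2 lc_a_rc_5_2 lc_a_rc_0_0 lc_a_rc_9_2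 lc_a_rc_2_2 lc_a_rc_2_2 lc_a_rc_3_2 lc_a_Cert_tree lc_a_rc_2_2 lc_a_rc_2_2 lc_a_rc_4_2 lc_a_rc_5_2 lc_a_Cert_tree lc_a_rc_2_2 lc_a_rc_5_2 lc_a_rc_0_0 lc_a_rc_9_2 lc_a_rc_2_2 lc_a_rc_9_2 lc_a_rc_5_2 lc_a_rc_3_2 lc_a_rc_4_0) (@D3.rec (fun _ => (Cert rels S Gen.a)) lc_a_rc_9_2 lc_a_Cert_tree lc_a_rc_3_0 lc_a_rc_2_2 lc_a_rc_0_1 lc_a_rc_2_0 lc_a_rc_5_2 lc_a_Cert_tree lc_a_rc_9_0 lc_a_rc_2_2 lc_a_rc_0_1 lc_a_rc_2_0 lc_a_rc_5_2 lc_a_rc_0_0 lc_a_rc_4_2 lc_a_rc_9_2 lc_a_rc_9_0 lc_a_rc_5_0 lc_a_rc_2_2 lc_a_rc_2_0 lc_a_rc_2_0 lc_a_rc_2_0 lc_a_rc_4_2 lc_a_rc_9_2 lc_a_rc_6_2 lc_a_rc_9_2 lc_a_rc_5_2 lc_a_rc_9_0 lc_a_rc_5_0 lc_a_rc_3_0 lc_a_rc_3_2 lc_a_rc_2_0 lc_a_rc_2_0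 lc_a_rc_0_1 lc_a_rc_5_2 lc_a_rc_2_0 lc_a_rc_2_0 lc_a_rc_2_0 lc_a_rc_9_2 lc_a_rc_2_2 lc_a_rc_0_0 lc_a_rc_4_2 lc_a_rc_3_2 lc_a_rc_2_2 lc_a_rc_2_2 lc_a_rc_0_0 lc_a_rc_9_2 lc_a_rc_3_2 lc_a_rc_5_2 lc_a_rc_3_2 lc_a_rc_4_2) (@D3.rec (fun _ => (Cert rels S Gen.a)) lc_a_rc_4_0 lc_a_rc_0_0 lc_a_rc_3_0 lc_a_rc_4_0 lc_a_rc_3_2 lc_a_rc_4_2 lc_a_rc_3_2 lc_a_rc_5_2 lc_a_rc_3_2 lc_a_rc_4_2 lc_a_rc_5_2 lc_a_rc_4_2 lc_a_rc_1_2 lc_a_rc_9_2 lc_a_rc_3_2 lc_a_rc_9_2 lc_a_rc_4_2 lc_a_rc_9_2 lc_a_rc_0_0 lc_a_rc_1_0 lc_a_rc_9_2 lc_a_rc_3_2 lc_a_rc_56_21 lc_a_rc_5_2 lc_a_rc_9_2 lc_a_rc_9_2 lc_a_rc_0_1 lc_a_rc_3_2 lc_a_rc_5_0 lc_a_rc_7_2 lc_a_rc_9_2 lc_a_rc_2_2 lc_a_rc_9_2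 lc_a_rc_9_2 lc_a_rc_8_2 lc_a_rc_3_2 lc_a_rc_9_2 lc_a_rc_4_2 lc_a_rc_9_2 lc_a_rc_3_2 lc_a_rc_9_2 lc_a_rc_9_2 lc_a_rc_5_2 lc_a_rc_4_2 lc_a_rc_3_2 lc_a_rc_4_2 lc_a_rc_4_2 lc_a_rc_5_2 lc_a_rc_5_2 lc_a_rc_9_2 lc_a_rc_0_1) (@D3.rec (fun _ => (Cert rels S Gen.a)) lc_a_rc_9_2 lc_a_rc_9_2 lc_a_rc_4_0 lc_a_rc_3_2 lc_a_rc_0_1 lc_a_rc_5_2 lc_a_rc_9_2 lc_a_rc_9_2 lc_a_rc_3_2 lc_a_rc_9_2 lc_a_rc_3_0 lc_a_rc_9_2 lc_a_rc_7_2 lc_a_rc_9_2 lc_a_rc_3_2 lc_a_rc_8_2 lc_a_rc_7_2 lc_a_rc_8_2 lc_a_rc_5_2 lc_a_rc_9_2 lc_a_rc_9_2 lc_a_rc_0_1 lc_a_rc_3_2 lc_a_rc_9_2 lc_a_rc_4_0 lc_a_rc_3_2 lc_a_rc_3_2 lc_a_rc_2_2 lc_a_rc_3_2 lc_a_rc_2_2 lc_a_rc_1_2 lc_a_rc_1_2 lc_a_rc_3_2 lc_a_rc_9_2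 lc_a_rc_9_2 lc_a_rc_6_0 lc_a_rc_4_2 lc_a_rc_2_2 lc_a_rc_3_2 lc_a_rc_5_2 lc_a_rc_3_2 lc_a_rc_6_2 lc_a_rc_5_2 lc_a_rc_3_2 lc_a_rc_3_2 lc_a_rc_5_2 lc_a_rc_3_2 lc_a_rc_4_2 lc_a_rc_4_2 lc_a_rc_2_0 lc_a_rc_3_0) (@D3.rec (fun _ => (Cert rels S Gen.a)) lc_a_rc_2_2 lc_a_rc_4_2 lc_a_rc_3_2 lc_a_rc_2_2 lc_a_rc_2_2 lc_a_rc_6_2 lc_a_rc_4_2 lc_a_rc_5_2 lc_a_rc_2_0 lc_a_rc_2_2 lc_a_rc_1_2 lc_a_rc_1_2 lc_a_rc_3_2 lc_a_rc_6_2 lc_a_rc_4_2 lc_a_rc_5_2 lc_a_rc_3_2 lc_a_rc_3_2 lc_a_rc_7_2 lc_a_rc_3_2 lc_a_rc_3_2 lc_a_rc_5_2 lc_a_rc_7_2 lc_a_rc_6_2 lc_a_rc_5_2 lc_a_rc_4_2 lc_a_rc_9_2 lc_a_rc_3_2 lc_a_rc_3_2 lc_a_rc_5_2 lc_a_rc_2_2 lc_a_rc_6_2 lc_a_rc_2_2 lc_a_rc_4_2 lc_a_Cert_tree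 lc_a_rc_2_2 lc_a_rc_5_2 lc_a_rc_0_0 lc_a_rc_9_2 lc_a_rc_2_2 lc_a_rc_2_2 lc_a_rc_3_2 lc_a_rc_5_2 lc_a_rc_7_2 lc_a_rc_9_2 lc_a_rc_9_2 lc_a_rc_3_2 lc_a_rc_3_2 lc_a_rc_5_2 lc_a_rc_5_2 lc_a_rc_3_2) (@D3.rec (fun _ => (Cert rels S Gen.a)) lc_a_rc_5_2 lc_a_rc_5_2 lc_a_rc_9_2 lc_a_rc_6_2 lc_a_rc_7_2 lc_a_rc_6_2 lc_a_rc_8_2 lc_a_rc_5_2 lc_a_rc_6_2 lc_a_rc_4_0 lc_a_rc_4_2 lc_a_rc_4_2 lc_a_rc_9_2 lc_a_rc_7_2 lc_a_rc_3_2 lc_a_rc_6_2 lc_a_rc_3_2 lc_a_rc_6_2 lc_a_rc_9_2 lc_a_rc_4_2 lc_a_rc_3_2 lc_a_rc_4_2 lc_a_rc_2_0 lc_a_rc_5_2 lc_a_rc_2_2 lc_a_rc_2_2 lc_a_rc_3_2 lc_a_rc_2_2 lc_a_rc_1_2 lc_a_rc_1_2 lc_a_rc_1_2 lc_a_rc_8_2 lc_a_rc_1_2 lc_a_rc_3_2 lc_a_rc_2_2 lc_a_rc_2_2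 lc_a_rc_2_2 lc_a_rc_4_2 lc_a_rc_3_2 lc_a_rc_6_2 lc_a_rc_9_2 lc_a_rc_4_2 lc_a_rc_3_0 lc_a_rc_1_4 lc_a_rc_4_2 lc_a_rc_3_0 lc_a_rc_3_2 lc_a_rc_2_2 lc_a_rc_1_4 lc_a_rc_4_2 lc_a_rc_9_2) (@D3.rec (fun _ => (Cert rels S Gen.a)) lc_a_rc_6_2 lc_a_rc_4_2 lc_a_rc_5_2 lc_a_rc_3_2 lc_a_rc_6_0 lc_a_rc_3_2 lc_a_rc_3_2 lc_a_rc_5_2 lc_a_rc_4_2 lc_a_rc_4_2 lc_a_rc_4_2 lc_a_rc_3_2 lc_a_rc_4_2 lc_a_rc_8_2 lc_a_rc_3_2 lc_a_rc_6_2 lc_a_rc_4_2 lc_a_rc_3_2 lc_a_rc_3_2 lc_a_rc_4_2 lc_a_rc_4_2 lc_a_rc_4_2 lc_a_rc_3_2 lc_a_rc_4_2 lc_a_rc_2_2 lc_a_rc_3_2 lc_a_rc_5_2 lc_a_rc_2_2 lc_a_rc_2_2 lc_a_rc_3_2 lc_a_rc_2_2 lc_a_rc_3_2 lc_a_rc_2_2 lc_a_rc_2_2 lc_a_rc_3_2 lc_a_Cert_tree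 lc_a_rc_2_2 lc_a_rc_5_2 lc_a_rc_1_2 lc_a_rc_1_2 lc_a_rc_1_2 lc_a_rc_1_2 lc_a_rc_1_2 lc_a_rc_3_2 lc_a_rc_1_2 lc_a_rc_2_2 lc_a_rc_9_2 lc_a_rc_3_2 lc_a_rc_2_2 lc_a_rc_2_2 lc_a_rc_2_2) (@D3.rec (fun _ => (Cert rels S Gen.a)) lc_a_rc_3_2 lc_a_rc_2_2 lc_a_rc_2_2 lc_a_rc_4_2 lc_a_rc_3_2 lc_a_rc_6_2 lc_a_rc_4_2 lc_a_rc_5_2 lc_a_rc_6_2 lc_a_rc_6_2 lc_a_rc_9_2 lc_a_rc_3_2 lc_a_rc_3_2 lc_a_rc_3_2 lc_a_rc_7_2 lc_a_rc_1_4 lc_a_rc_9_2 lc_a_rc_2_2 lc_a_rc_2_2 lc_a_rc_4_2 lc_a_rc_3_2 lc_a_rc_2_2 lc_a_rc_6_0 lc_a_rc_4_2 lc_a_rc_3_2 lc_a_rc_3_2 lc_a_rc_4_2 lc_a_rc_6_2 lc_a_rc_6_2 lc_a_rc_4_2 lc_a_rc_5_2 lc_a_rc_7_2 lc_a_rc_6_2 lc_a_rc_5_2 lc_a_rc_7_2 lc_a_rc_2_0 lc_a_rc_4_2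 lc_a_rc_9_2 lc_a_rc_3_2 lc_a_rc_7_2 lc_a_rc_4_2 lc_a_rc_6_2 lc_a_rc_9_2 lc_a_rc_5_2 lc_a_rc_2_2 lc_a_rc_3_2 lc_a_rc_0_0 lc_a_rc_9_2 lc_a_rc_3_2 lc_a_rc_8_2 lc_a_rc_7_2) (@D3.rec (fun _ => (Cert rels S Gen.a)) lc_a_rc_9_0 lc_a_rc_9_2 lc_a_rc_8_2 lc_a_rc_7_2 lc_a_rc_8_2 lc_a_rc_9_0 lc_a_rc_5_2 lc_a_rc_9_0 lc_a_rc_9_0 lc_a_rc_5_0 lc_a_rc_3_2 lc_a_rc_5_2 lc_a_rc_1_4 lc_a_rc_3_2 lc_a_rc_1_4 lc_a_rc_0_0 lc_a_rc_2_0 lc_a_rc_2_0 lc_a_rc_2_0 lc_a_rc_2_0 lc_a_rc_2_0 lc_a_rc_9_2 lc_a_rc_9_0 lc_a_rc_2_0 lc_a_Cert_tree lc_a_rc_5_0 lc_a_rc_56_7 lc_a_rc_2_2 lc_a_rc_3_2 lc_a_rc_2_2 lc_a_rc_2_2 lc_a_rc_4_2 lc_a_rc_3_2 lc_a_rc_2_2 lc_a_rc_3_2 lc_a_rc_6_0 lc_a_rc_2_2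 lc_a_rc_5_2 lc_a_rc_0_0 lc_a_rc_9_2 lc_a_rc_2_2 lc_a_rc_1_2 lc_a_rc_1_2 lc_a_rc_1_2 lc_a_rc_1_2 lc_a_rc_1_2 lc_a_rc_1_2 lc_a_rc_1_2 lc_a_rc_1_2 lc_a_rc_7_2 lc_a_rc_1_2) (@D3.rec (fun _ => (Cert rels S Gen.a)) lc_a_rc_0_0 lc_a_rc_56_14 lc_a_rc_9_2 lc_a_rc_2_2 lc_a_rc_2_0 lc_a_rc_3_2 lc_a_rc_3_2 lc_a_rc_5_2 lc_a_rc_5_2 lc_a_rc_9_2 lc_a_rc_2_2 lc_a_rc_2_2 lc_a_rc_2_2 lc_a_rc_3_2 lc_a_rc_2_2 lc_a_rc_2_2 lc_a_rc_4_2 lc_a_rc_3_2 lc_a_rc_2_2 lc_a_rc_4_2 lc_a_rc_3_2 lc_a_rc_6_2 lc_a_rc_4_2 lc_a_rc_5_2 lc_a_rc_7_2 lc_a_rc_6_2 lc_a_rc_5_2 lc_a_rc_7_2 lc_a_rc_6_2 lc_a_rc_3_2 lc_a_rc_9_2 lc_a_rc_9_2 lc_a_rc_2_2 lc_a_rc_3_2 lc_a_rc_2_2 lc_a_rc_5_2 lc_a_rc_4_2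 lc_a_rc_3_2 lc_a_rc_5_2 lc_a_rc_5_2 lc_a_rc_5_2 lc_a_rc_9_2 lc_a_rc_2_2 lc_a_rc_5_2 lc_a_rc_9_2 lc_a_rc_2_2 lc_a_rc_2_2 lc_a_rc_3_2 lc_a_rc_2_2 lc_a_rc_3_2 lc_a_rc_2_2) (@D3.rec (fun _ => (Cert rels S Gen.a)) lc_a_rc_2_2 lc_a_rc_4_2 lc_a_rc_3_2 lc_a_Cert_tree lc_a_rc_3_2 lc_a_rc_2_2 lc_a_rc_6_2 lc_a_rc_4_2 lc_a_rc_5_2 lc_a_rc_3_0 lc_a_rc_4_0 lc_a_rc_6_2 lc_a_rc_4_2 lc_a_rc_5_2 lc_a_rc_7_2 lc_a_rc_6_2 lc_a_rc_5_2 lc_a_rc_8_2 lc_a_rc_7_2 lc_a_rc_6_2 lc_a_rc_7_2 lc_a_rc_56_14 lc_a_rc_9_2 lc_a_rc_2_2 lc_a_rc_56_7 lc_a_rc_3_2 lc_a_rc_3_0 lc_a_rc_2_0 lc_a_Cert_tree lc_a_rc_2_2 lc_a_rc_5_2 lc_a_rc_0_0 lc_a_rc_9_2 lc_a_rc_2_2 lc_a_rc_2_2 lc_a_rc_2_2 lc_a_rc_3_2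 lc_a_Cert_tree lc_a_rc_2_2 lc_a_rc_2_2 lc_a_rc_4_2 lc_a_rc_5_2 lc_a_Cert_tree lc_a_rc_2_2 lc_a_rc_5_2 lc_a_rc_0_0 lc_a_rc_9_2 lc_a_rc_2_2 lc_a_rc_9_2 lc_a_rc_5_2 lc_a_rc_3_2) (@D3.rec (fun _ => (Cert rels S Gen.a)) lc_a_rc_1_2 lc_a_rc_2_2 lc_a_rc_3_2 lc_a_rc_2_2 lc_a_rc_5_2 lc_a_rc_5_2 lc_a_rc_9_2 lc_a_rc_3_2 lc_a_rc_2_2 lc_a_rc_2_2 lc_a_rc_3_2 lc_a_rc_3_2 lc_a_rc_9_2 lc_a_rc_5_2 lc_a_rc_9_2 lc_a_rc_4_2 lc_a_rc_4_2 lc_a_rc_4_2 lc_a_rc_2_2 lc_a_rc_4_2 lc_a_rc_3_2 lc_a_rc_3_2 lc_a_rc_9_2 lc_a_rc_9_0 lc_a_rc_5_2 lc_a_rc_3_2 lc_a_rc_2_2 lc_a_rc_2_2 lc_a_rc_2_2 lc_a_rc_2_2 lc_a_rc_3_2 lc_a_rc_2_2 lc_a_rc_3_2 lc_a_rc_6_2 lc_a_rc_4_2 lc_a_rc_5_2 lc_a_rc_3_2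 lc_a_rc_9_2 lc_a_rc_5_2 lc_a_rc_9_2 lc_a_rc_3_2 lc_a_rc_5_2 lc_a_rc_2_2 lc_a_rc_2_2 lc_a_rc_2_2 lc_a_rc_3_2 lc_a_rc_2_2 lc_a_rc_2_2 lc_a_rc_1_4 lc_a_rc_2_2 lc_a_rc_4_2) (@D3.rec (fun _ => (Cert rels S Gen.a)) lc_a_rc_3_2 lc_a_rc_0_0 lc_a_rc_9_2 lc_a_rc_5_2 lc_a_rc_6_2 lc_a_rc_6_2 lc_a_rc_5_2 lc_a_rc_8_0 lc_a_rc_9_2 lc_a_rc_2_2 lc_a_rc_3_2 lc_a_rc_9_2 lc_a_rc_9_2 lc_a_rc_5_2 lc_a_rc_5_2 lc_a_rc_3_2 lc_a_rc_9_2 lc_a_rc_3_2 lc_a_Cert_tree lc_a_rc_2_2 lc_a_rc_5_2 lc_a_rc_2_2 lc_a_rc_1_2 lc_a_rc_1_2 lc_a_rc_56_28 lc_a_rc_6_0 lc_a_rc_1_2 lc_a_rc_3_2 lc_a_rc_5_2 lc_a_rc_2_2 lc_a_rc_2_2 lc_a_rc_2_2 lc_a_rc_3_2 lc_a_rc_2_2 lc_a_rc_2_2 lc_a_rc_3_2 lc_a_rc_2_2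 lc_a_rc_4_2 lc_a_rc_3_2 lc_a_rc_5_2 lc_a_rc_6_2 lc_a_rc_6_2 lc_a_rc_5_2 lc_a_rc_3_2 lc_a_rc_9_2 lc_a_rc_2_2 lc_a_rc_3_2 lc_a_rc_9_2 lc_a_rc_3_2 lc_a_rc_3_2 lc_a_rc_5_2) (@D3.rec (fun _ => (Cert rels S Gen.a)) lc_a_rc_5_2 lc_a_rc_9_2 lc_a_rc_2_2 lc_a_rc_2_2 lc_a_rc_2_2 lc_a_rc_3_2 lc_a_rc_2_2 lc_a_rc_2_2 lc_a_rc_4_2 lc_a_rc_3_2 lc_a_rc_2_2 lc_a_rc_4_2 lc_a_rc_3_2 lc_a_rc_4_2 lc_a_rc_4_2 lc_a_rc_5_2 lc_a_rc_3_2 lc_a_rc_3_2 lc_a_rc_3_0 lc_a_rc_7_2 lc_a_rc_9_2 lc_a_rc_9_2 lc_a_rc_2_2 lc_a_rc_3_2 lc_a_Cert_tree lc_a_rc_2_2 lc_a_rc_5_2 lc_a_rc_5_2 lc_a_rc_0_0 lc_a_rc_9_2 lc_a_rc_2_2 lc_a_rc_1_2 lc_a_rc_1_2 lc_a_rc_2_2 lc_a_rc_3_2 lc_a_rc_2_2 lc_a_rc_3_2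 lc_a_rc_5_2 lc_a_rc_3_2 lc_a_rc_9_2 lc_a_rc_5_2 lc_a_rc_9_2 lc_a_rc_9_2 lc_a_rc_3_2 lc_a_rc_2_2 lc_a_rc_3_2 lc_a_rc_3_2 lc_a_rc_56_28 lc_a_rc_2_2 lc_a_rc_5_2 lc_a_rc_6_2) (@D3.rec (fun _ => (Cert rels S Gen.a)) lc_a_rc_3_2 lc_a_rc_9_2 lc_a_rc_56_35 lc_a_rc_3_2 lc_a_rc_9_2 lc_a_rc_6_2 lc_a_rc_6_2 lc_a_rc_6_2 lc_a_rc_4_2 lc_a_rc_4_2 lc_a_rc_2_2 lc_a_rc_4_2 lc_a_Cert_tree lc_a_rc_2_2 lc_a_rc_5_2 lc_a_rc_4_0 lc_a_rc_4_2 lc_a_rc_4_2 lc_a_rc_9_2 lc_a_rc_9_0 lc_a_rc_6_2 lc_a_rc_3_2 lc_a_rc_5_2 lc_a_rc_2_2 lc_a_rc_2_2 lc_a_rc_2_2 lc_a_rc_3_2 lc_a_rc_2_2 lc_a_rc_2_2 lc_a_rc_3_2 lc_a_rc_2_2 lc_a_rc_4_2 lc_a_rc_3_2 lc_a_rc_5_2 lc_a_rc_6_2 lc_a_rc_6_2 lc_a_rc_5_2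 lc_a_rc_3_2 lc_a_rc_9_2 lc_a_rc_2_2 lc_a_rc_3_2 lc_a_rc_9_2 lc_a_rc_3_2 lc_a_rc_3_2 lc_a_rc_5_2 lc_a_rc_5_2 lc_a_rc_9_2 lc_a_rc_2_2 lc_a_rc_2_2 lc_a_rc_2_2 lc_a_rc_3_2) (@D3.rec (fun _ => (Cert rels S Gen.a)) lc_a_rc_2_2 lc_a_rc_2_2 lc_a_rc_4_2 lc_a_rc_3_2 lc_a_rc_1_4 lc_a_rc_2_2 lc_a_rc_4_2 lc_a_rc_3_2 lc_a_rc_4_2 lc_a_rc_4_2 lc_a_rc_5_2 lc_a_rc_56_42 lc_a_rc_3_2 lc_a_rc_3_0 lc_a_rc_7_2 lc_a_rc_6_2 lc_a_rc_3_2 lc_a_rc_9_2 lc_a_rc_7_2 lc_a_rc_9_2 lc_a_rc_2_2 lc_a_rc_3_2 lc_a_Cert_tree lc_a_rc_2_2 lc_a_rc_5_2 lc_a_rc_4_2 lc_a_rc_3_2 lc_a_rc_9_2 lc_a_rc_2_2 lc_a_rc_4_2 lc_a_rc_3_2 lc_a_rc_2_2 lc_a_rc_3_2 lc_a_Cert_tree lc_a_rc_2_2 lc_a_rc_5_2 lc_a_rc_0_0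 lc_a_rc_9_2 lc_a_rc_2_2 lc_a_rc_2_2 lc_a_rc_1_2 lc_a_rc_2_0 lc_a_rc_1_2 lc_a_rc_1_2 lc_a_rc_1_2 lc_a_rc_1_2 lc_a_rc_1_2 lc_a_rc_3_0 lc_a_rc_1_2 lc_a_rc_3_2 lc_a_rc_3_2) (@D3.rec (fun _ => (Cert rels S Gen.a)) lc_a_rc_5_2 lc_a_rc_5_2 lc_a_rc_9_2 lc_a_rc_2_2 lc_a_rc_2_2 lc_a_rc_2_2 lc_a_rc_3_2 lc_a_rc_2_2 lc_a_rc_2_2 lc_a_rc_4_2 lc_a_rc_3_2 lc_a_rc_3_2 lc_a_rc_2_2 lc_a_rc_4_2 lc_a_rc_3_2 lc_a_rc_4_2 lc_a_rc_5_2 lc_a_rc_7_2 lc_a_rc_6_2 lc_a_rc_3_2 lc_a_rc_9_2 lc_a_rc_3_2 lc_a_rc_9_2 lc_a_rc_2_2 lc_a_rc_3_2 lc_a_Cert_tree lc_a_rc_2_2 lc_a_rc_5_2 lc_a_rc_4_2 lc_a_rc_3_2 lc_a_rc_5_2 lc_a_rc_5_2 lc_a_rc_5_2 lc_a_rc_9_2 lc_a_rc_2_2 lc_a_rc_5_2 lc_a_rc_9_2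 lc_a_rc_2_2 lc_a_rc_2_2 lc_a_rc_3_2 lc_a_rc_2_2 lc_a_rc_3_2 lc_a_rc_2_2 lc_a_rc_2_2 lc_a_rc_4_2 lc_a_rc_3_2 lc_a_Cert_tree lc_a_rc_2_2 lc_a_rc_2_2 lc_a_rc_3_2 lc_a_rc_4_2) (@D3.rec (fun _ => (Cert rels S Gen.a)) lc_a_rc_5_2 lc_a_rc_4_2 lc_a_rc_3_2 lc_a_rc_6_2 lc_a_rc_4_2 lc_a_rc_5_2 lc_a_rc_4_2 lc_a_rc_4_2 lc_a_rc_5_2 lc_a_rc_3_2 lc_a_rc_3_2 lc_a_rc_3_0 lc_a_rc_7_2 lc_a_rc_3_2 lc_a_rc_9_2 lc_a_rc_2_2 lc_a_rc_4_2 lc_a_rc_3_2 lc_a_rc_2_2 lc_a_rc_3_2 lc_a_Cert_tree lc_a_rc_2_2 lc_a_rc_5_2 lc_a_rc_0_0 lc_a_rc_9_2 lc_a_rc_2_2 lc_a_rc_9_2 lc_a_rc_4_2 lc_a_rc_3_2 lc_a_Cert_tree lc_a_rc_2_2 lc_a_rc_2_2 lc_a_rc_4_2 lc_a_rc_5_2 lc_a_rc_5_2 lc_a_rc_0_0 lc_a_rc_9_2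 lc_a_rc_2_2 lc_a_rc_9_2 lc_a_rc_5_2 lc_a_rc_3_2 lc_a_rc_1_2 lc_a_rc_1_2 lc_a_rc_1_2 lc_a_rc_3_2 lc_a_rc_2_2 lc_a_rc_4_2 lc_a_rc_3_2 lc_a_rc_5_2 lc_a_rc_9_2 lc_a_rc_2_2)
def ce_a_9 : D2 → D3 → (Cert rels S Gen.a) := @D2.rec (fun _ => D3 → (Cert rels S Gen.a)) (@D3.rec (fun _ => (Cert rels S Gen.a)) lc_a_rc_56_21 lc_a_rc_56_35 lc_a_rc_6_2 lc_a_rc_6_2 lc_a_rc_4_2 lc_a_rc_3_2 lc_a_rc_5_0 lc_a_rc_4_2 lc_a_rc_5_2 lc_a_rc_0_0 lc_a_rc_2_2 lc_a_rc_0_1 lc_a_rc_3_2 lc_a_rc_3_2 lc_a_rc_6_2 lc_a_rc_6_2 lc_a_rc_6_2 lc_a_rc_4_2 lc_a_rc_2_2 lc_a_rc_2_2 lc_a_rc_9_2 lc_a_rc_8_2 lc_a_rc_9_0 lc_a_rc_9_0 lc_a_rc_5_2 lc_a_rc_9_0 lc_a_rc_5_2 lc_a_rc_2_2 lc_a_rc_2_2 lc_a_rc_2_2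 lc_a_rc_3_2 lc_a_rc_2_2 lc_a_rc_4_2 lc_a_rc_3_2 lc_a_rc_3_2 lc_a_rc_2_2 lc_a_rc_4_2 lc_a_rc_3_2 lc_a_rc_4_2 lc_a_rc_5_2 lc_a_rc_7_2 lc_a_rc_6_2 lc_a_rc_9_2 lc_a_rc_9_2 lc_a_rc_5_0 lc_a_rc_5_0 lc_a_rc_3_0 lc_a_rc_3_0 lc_a_rc_2_2 lc_a_rc_3_0 lc_a_rc_4_2) (@D3.rec (fun _ => (Cert rels S Gen.a)) lc_a_rc_2_2 lc_a_rc_2_2 lc_a_rc_2_2 lc_a_rc_3_2 lc_a_rc_2_2 lc_a_rc_3_2 lc_a_rc_2_2 lc_a_rc_2_2 lc_a_rc_4_2 lc_a_rc_3_2 lc_a_rc_9_0 lc_a_rc_2_2 lc_a_rc_2_2 lc_a_rc_3_2 lc_a_rc_4_2 lc_a_rc_5_2 lc_a_rc_4_2 lc_a_rc_3_2 lc_a_rc_6_2 lc_a_rc_4_2 lc_a_rc_5_2 lc_a_rc_7_2 lc_a_rc_9_2 lc_a_rc_5_2 lc_a_rc_4_0 lc_a_rc_9_2 lc_a_rc_56_7 lc_a_rc_7_2 lc_a_rc_3_2 lc_a_rc_9_2 lc_a_rc_3_0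 lc_a_rc_4_2 lc_a_rc_3_2 lc_a_rc_3_0 lc_a_rc_3_2 lc_a_rc_7_2 lc_a_rc_3_0 lc_a_rc_9_2 lc_a_rc_3_2 lc_a_rc_9_2 lc_a_rc_2_2 lc_a_rc_4_2 lc_a_rc_3_2 lc_a_rc_56_14 lc_a_rc_2_2 lc_a_rc_2_2 lc_a_rc_4_2 lc_a_rc_5_2 lc_a_rc_2_2 lc_a_rc_5_2 lc_a_rc_4_2) (@D3.rec (fun _ => (Cert rels S Gen.a)) lc_a_rc_2_2 lc_a_rc_9_2 lc_a_rc_56_56 lc_a_rc_3_2 lc_a_rc_1_2 lc_a_rc_1_2 lc_a_rc_1_2 lc_a_rc_1_2 lc_a_rc_1_2 lc_a_rc_1_2 lc_a_rc_1_2 lc_a_rc_1_2 lc_a_rc_1_2 lc_a_rc_1_2 lc_a_rc_2_2 lc_a_rc_1_2 lc_a_rc_1_2 lc_a_rc_4_2 lc_a_rc_3_2 lc_a_rc_5_2 lc_a_rc_5_2 lc_a_rc_5_2 lc_a_rc_9_2 lc_a_rc_5_2 lc_a_rc_9_2 lc_a_rc_2_2 lc_a_rc_2_2 lc_a_rc_3_2 lc_a_rc_2_2 lc_a_rc_3_2 lc_a_rc_2_2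 lc_a_rc_2_2 lc_a_rc_4_2 lc_a_rc_3_2 lc_a_rc_3_2 lc_a_rc_2_2 lc_a_rc_2_2 lc_a_rc_4_2 lc_a_rc_5_2 lc_a_rc_4_2 lc_a_rc_3_2 lc_a_rc_6_2 lc_a_rc_4_2 lc_a_rc_5_2 lc_a_rc_5_2 lc_a_rc_7_2 lc_a_rc_3_2 lc_a_rc_9_2 lc_a_rc_2_2 lc_a_rc_4_2 lc_a_rc_3_2) (@D3.rec (fun _ => (Cert rels S Gen.a)) lc_a_rc_2_2 lc_a_rc_3_2 lc_a_Cert_tree lc_a_rc_2_2 lc_a_rc_0_0 lc_a_rc_9_2 lc_a_rc_4_2 lc_a_rc_5_2 lc_a_rc_3_2 lc_a_rc_5_2 lc_a_rc_5_2 lc_a_rc_9_2 lc_a_rc_5_2 lc_a_rc_9_2 lc_a_rc_1_0 lc_a_rc_5_2 lc_a_rc_9_2 lc_a_rc_3_2 lc_a_rc_1_2 lc_a_rc_1_0 lc_a_rc_9_0 lc_a_rc_9_2 lc_a_rc_9_2 lc_a_rc_2_2 lc_a_rc_3_2 lc_a_rc_2_2 lc_a_rc_2_2 lc_a_rc_4_2 lc_a_rc_3_2 lc_a_rc_2_2 lc_a_rc_4_2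 lc_a_rc_3_2 lc_a_Cert_tree lc_a_rc_2_2 lc_a_rc_2_2 lc_a_rc_6_2 lc_a_rc_4_2 lc_a_rc_5_2 lc_a_rc_0_0 lc_a_rc_4_2 lc_a_rc_9_2 lc_a_rc_9_0 lc_a_rc_2_2 lc_a_rc_2_2 lc_a_rc_9_0 lc_a_rc_5_0 lc_a_rc_5_2 lc_a_rc_6_2 lc_a_rc_4_2 lc_a_rc_5_2 lc_a_rc_3_0) (@D3.rec (fun _ => (Cert rels S Gen.a)) lc_a_rc_6_2 lc_a_rc_5_2 lc_a_rc_1_0 lc_a_rc_1_0 lc_a_rc_56_49 lc_a_rc_3_2 lc_a_rc_3_2 lc_a_rc_3_0 lc_a_rc_3_2 lc_a_rc_9_2 lc_a_rc_2_2 lc_a_rc_4_2 lc_a_rc_3_2 lc_a_Cert_tree lc_a_rc_2_2 lc_a_rc_2_2 lc_a_rc_4_2 lc_a_rc_2_0 lc_a_Cert_tree lc_a_rc_2_2 lc_a_rc_2_0 lc_a_rc_0_0 lc_a_rc_9_2 lc_a_rc_1_0 lc_a_rc_9_2 lc_a_rc_5_2 lc_a_rc_1_0 lc_a_rc_2_2 lc_a_rc_4_2 lc_a_rc_3_2 lc_a_Cert_tree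 lc_a_rc_2_2 lc_a_rc_2_2 lc_a_rc_4_2 lc_a_rc_5_2 lc_a_rc_0_0 lc_a_rc_4_2 lc_a_rc_9_2 lc_a_rc_3_2 lc_a_rc_2_2 lc_a_rc_2_2 lc_a_rc_5_2 lc_a_rc_0_0 lc_a_rc_9_2 lc_a_rc_2_2 lc_a_rc_9_2 lc_a_rc_5_2 lc_a_rc_3_2 lc_a_rc_5_2 lc_a_rc_3_2 lc_a_rc_4_2) (@D3.rec (fun _ => (Cert rels S Gen.a)) lc_a_rc_5_0 lc_a_rc_4_2 lc_a_rc_7_2 lc_a_rc_3_2 lc_a_rc_3_2 lc_a_rc_3_2 lc_a_rc_7_2 lc_a_rc_5_0 lc_a_rc_5_0 lc_a_rc_56_56 lc_a_rc_5_0 lc_a_rc_56_7 lc_a_rc_3_2 lc_a_rc_4_2 lc_a_rc_5_2 lc_a_rc_3_2 lc_a_rc_5_2 lc_a_rc_9_2 lc_a_rc_9_2 lc_a_rc_3_2 lc_a_rc_2_2 lc_a_rc_4_2 lc_a_Cert_tree lc_a_rc_2_2 lc_a_rc_0_0 lc_a_rc_4_2 lc_a_rc_5_2 lc_a_rc_3_2 lc_a_rc_9_2 lc_a_rc_2_2 lc_a_rc_2_0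 lc_a_rc_9_2 lc_a_rc_3_0 lc_a_rc_0_0 lc_a_rc_5_2 lc_a_rc_3_0 lc_a_rc_4_0 lc_a_Cert_tree lc_a_rc_1_0 lc_a_rc_0_0 lc_a_rc_9_2 lc_a_rc_56_35 lc_a_rc_3_2 lc_a_Cert_tree lc_a_rc_4_2 lc_a_rc_3_2 lc_a_rc_0_0 lc_a_rc_2_2 lc_a_rc_4_2 lc_a_rc_7_2 lc_a_Cert_tree) (@D3.rec (fun _ => (Cert rels S Gen.a)) lc_a_rc_2_2 lc_a_rc_3_2 lc_a_rc_8_2 lc_a_rc_6_2 lc_a_rc_0_0 lc_a_rc_7_2 lc_a_rc_9_2 lc_a_rc_3_2 lc_a_rc_4_2 lc_a_rc_1_0 lc_a_rc_4_2 lc_a_rc_0_0 lc_a_rc_9_2 lc_a_rc_1_0 lc_a_rc_9_2 lc_a_rc_5_2 lc_a_rc_1_0 lc_a_rc_5_2 lc_a_rc_3_2 lc_a_rc_4_2 lc_a_rc_0_0 lc_a_rc_9_2 lc_a_rc_5_2 lc_a_rc_3_2 lc_a_rc_3_2 lc_a_rc_9_2 lc_a_rc_5_2 lc_a_rc_3_2 lc_a_rc_5_2 lc_a_rc_3_2 lc_a_rc_4_2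 lc_a_rc_56_35 lc_a_rc_5_0 lc_a_rc_3_2 lc_a_rc_6_2 lc_a_rc_6_2 lc_a_rc_4_2 lc_a_rc_8_2 lc_a_rc_9_2 lc_a_rc_5_2 lc_a_rc_2_2 lc_a_rc_3_0 lc_a_rc_3_2 lc_a_rc_4_2 lc_a_rc_6_0 lc_a_rc_4_2 lc_a_rc_6_2 lc_a_rc_3_2 lc_a_rc_2_2 lc_a_rc_2_2 lc_a_rc_4_2) (@D3.rec (fun _ => (Cert rels S Gen.a)) lc_a_rc_3_2 lc_a_rc_6_2 lc_a_rc_3_2 lc_a_rc_9_2 lc_a_rc_3_2 lc_a_rc_9_2 lc_a_rc_6_2 lc_a_rc_9_2 lc_a_rc_3_0 lc_a_rc_56_28 lc_a_rc_4_2 lc_a_rc_1_0 lc_a_rc_4_2 lc_a_rc_3_2 lc_a_rc_4_2 lc_a_rc_4_2 lc_a_rc_9_0 lc_a_rc_6_2 lc_a_rc_9_2 lc_a_rc_3_2 lc_a_rc_7_2 lc_a_rc_3_2 lc_a_rc_3_0 lc_a_rc_9_2 lc_a_rc_0_0 lc_a_rc_9_2 lc_a_rc_8_2 lc_a_rc_8_2 lc_a_rc_4_2 lc_a_rc_4_2 lc_a_rc_5_0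 lc_a_rc_4_2 lc_a_rc_3_2 lc_a_rc_4_2 lc_a_rc_2_2 lc_a_rc_3_2 lc_a_rc_6_2 lc_a_rc_4_2 lc_a_rc_2_2 lc_a_rc_3_2 lc_a_rc_1_2 lc_a_rc_4_2 lc_a_rc_3_2 lc_a_rc_4_2 lc_a_rc_6_2 lc_a_rc_2_2 lc_a_rc_3_2 lc_a_rc_2_2 lc_a_rc_4_2 lc_a_rc_3_2 lc_a_rc_2_2) (@D3.rec (fun _ => (Cert rels S Gen.a)) lc_a_rc_4_2 lc_a_rc_3_2 lc_a_rc_4_2 lc_a_rc_7_2 lc_a_rc_6_2 lc_a_rc_3_2 lc_a_rc_9_2 lc_a_rc_3_2 lc_a_rc_9_2 lc_a_rc_3_2 lc_a_rc_5_2 lc_a_rc_6_2 lc_a_rc_7_2 lc_a_rc_9_2 lc_a_rc_0_1 lc_a_rc_9_2 lc_a_rc_8_0 lc_a_rc_8_2 lc_a_rc_3_2 lc_a_rc_2_2 lc_a_rc_4_2 lc_a_rc_8_2 lc_a_rc_7_2 lc_a_rc_4_2 lc_a_rc_3_2 lc_a_rc_56_28 lc_a_rc_4_2 lc_a_rc_9_2 lc_a_rc_3_2 lc_a_rc_4_2 lc_a_rc_5_2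 lc_a_rc_6_2 lc_a_rc_4_2 lc_a_rc_4_2 lc_a_rc_4_2 lc_a_rc_9_0 lc_a_rc_6_2 lc_a_rc_7_2 lc_a_rc_3_2 lc_a_rc_9_2 lc_a_rc_6_2 lc_a_rc_5_2 lc_a_rc_3_2 lc_a_rc_8_2 lc_a_rc_3_2 lc_a_rc_7_2 lc_a_rc_9_2 lc_a_rc_5_2 lc_a_rc_9_2 lc_a_rc_5_2 lc_a_rc_2_2) (@D3.rec (fun _ => (Cert rels S Gen.a)) lc_a_rc_3_2 lc_a_Cert_tree lc_a_rc_2_2 lc_a_rc_4_2 lc_a_Cert_tree lc_a_rc_2_2 lc_a_rc_0_0 lc_a_rc_9_2 lc_a_rc_2_2 lc_a_rc_9_2 lc_a_rc_5_2 lc_a_rc_3_2 lc_a_Cert_tree lc_a_rc_2_2 lc_a_rc_5_2 lc_a_rc_0_0 lc_a_rc_9_2 lc_a_rc_2_2 lc_a_rc_2_0 lc_a_rc_0_0 lc_a_rc_3_0 lc_a_rc_56_7 lc_a_rc_9_0 lc_a_rc_9_2 lc_a_rc_5_0 lc_a_rc_7_2 lc_a_rc_6_2 lc_a_rc_9_0 lc_a_rc_6_2 lc_a_rc_9_0 lc_a_rc_5_2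 lc_a_rc_9_0 lc_a_rc_5_0 lc_a_Cert_tree lc_a_rc_5_0 lc_a_rc_3_2 lc_a_rc_2_0 lc_a_rc_9_0 lc_a_rc_2_0 lc_a_rc_9_0 lc_a_rc_2_0 lc_a_Cert_tree lc_a_rc_5_0 lc_a_rc_2_0 lc_a_rc_0_0 lc_a_rc_9_2 lc_a_rc_3_0 lc_a_Cert_tree lc_a_rc_2_2 lc_a_rc_5_2 lc_a_Cert_tree) (@D3.rec (fun _ => (Cert rels S Gen.a)) lc_a_rc_2_2 lc_a_rc_5_2 lc_a_rc_0_0 lc_a_rc_9_2 lc_a_rc_2_2 lc_a_rc_9_2 lc_a_rc_5_2 lc_a_rc_3_2 lc_a_rc_1_2 lc_a_rc_1_2 lc_a_rc_1_2 lc_a_rc_1_2 lc_a_rc_9_0 lc_a_rc_9_0 lc_a_rc_9_0 lc_a_rc_5_2 lc_a_rc_3_2 lc_a_rc_5_2 lc_a_rc_5_2 lc_a_rc_5_2 lc_a_rc_5_2 lc_a_rc_9_2 lc_a_rc_2_2 lc_a_rc_9_2 lc_a_rc_2_2 lc_a_rc_2_2 lc_a_rc_3_2 lc_a_rc_2_2 lc_a_rc_3_2 lc_a_rc_2_2 lc_a_rc_2_2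 lc_a_rc_4_2 lc_a_rc_3_2 lc_a_rc_56_28 lc_a_rc_2_2 lc_a_rc_2_2 lc_a_rc_4_2 lc_a_rc_5_2 lc_a_rc_4_2 lc_a_rc_3_2 lc_a_rc_6_2 lc_a_rc_4_2 lc_a_rc_7_2 lc_a_rc_3_2 lc_a_rc_9_2 lc_a_rc_2_2 lc_a_rc_4_2 lc_a_rc_3_2 lc_a_rc_2_2 lc_a_rc_3_2 lc_a_Cert_tree) (@D3.rec (fun _ => (Cert rels S Gen.a)) lc_a_rc_2_2 lc_a_rc_5_2 lc_a_rc_0_0 lc_a_rc_9_2 lc_a_rc_2_2 lc_a_rc_0_1 lc_a_rc_3_2 lc_a_rc_1_4 lc_a_rc_5_2 lc_a_rc_9_2 lc_a_rc_5_2 lc_a_rc_9_2 lc_a_rc_2_2 lc_a_rc_9_0 lc_a_rc_9_2 lc_a_rc_2_2 lc_a_rc_1_2 lc_a_rc_2_2 lc_a_rc_9_0 lc_a_rc_6_0 lc_a_rc_9_2 lc_a_rc_2_2 lc_a_rc_3_2 lc_a_rc_2_2 lc_a_rc_2_2 lc_a_rc_4_2 lc_a_rc_3_2 lc_a_rc_2_2 lc_a_rc_4_2 lc_a_rc_3_2 lc_a_Cert_tree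 lc_a_rc_2_2 lc_a_rc_2_2 lc_a_rc_6_2 lc_a_rc_4_2 lc_a_rc_5_2 lc_a_rc_0_0 lc_a_rc_4_2 lc_a_rc_9_2 lc_a_rc_1_2 lc_a_rc_2_2 lc_a_rc_2_2 lc_a_rc_9_0 lc_a_rc_5_0 lc_a_rc_5_2 lc_a_rc_6_2 lc_a_rc_4_2 lc_a_rc_9_0 lc_a_rc_6_2 lc_a_rc_9_0 lc_a_rc_5_2) (@D3.rec (fun _ => (Cert rels S Gen.a)) lc_a_rc_5_2 lc_a_rc_3_2 lc_a_rc_9_2 lc_a_rc_2_2 lc_a_rc_4_2 lc_a_rc_3_2 lc_a_Cert_tree lc_a_rc_2_2 lc_a_rc_2_2 lc_a_rc_4_2 lc_a_rc_5_2 lc_a_Cert_tree lc_a_rc_2_2 lc_a_rc_5_2 lc_a_rc_0_0 lc_a_rc_9_2 lc_a_rc_2_2 lc_a_rc_9_2 lc_a_rc_5_2 lc_a_rc_3_2 lc_a_rc_3_2 lc_a_rc_2_0 lc_a_rc_2_2 lc_a_rc_2_2 lc_a_rc_4_2 lc_a_rc_5_2 lc_a_rc_0_0 lc_a_rc_2_0 lc_a_rc_9_2 lc_a_rc_3_2 lc_a_rc_2_2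 lc_a_rc_2_2 lc_a_rc_5_2 lc_a_rc_0_0 lc_a_rc_9_2 lc_a_rc_2_2 lc_a_rc_9_2 lc_a_rc_5_2 lc_a_rc_3_2 lc_a_rc_5_2 lc_a_rc_3_2 lc_a_rc_4_2 lc_a_rc_5_2 lc_a_rc_2_2 lc_a_rc_3_2 lc_a_rc_2_2 lc_a_rc_2_2 lc_a_rc_9_2 lc_a_rc_2_2 lc_a_rc_3_2 lc_a_rc_9_2) (@D3.rec (fun _ => (Cert rels S Gen.a)) lc_a_rc_5_2 lc_a_rc_9_2 lc_a_rc_3_2 lc_a_rc_2_2 lc_a_rc_2_2 lc_a_rc_3_2 lc_a_rc_3_2 lc_a_rc_9_2 lc_a_rc_3_2 lc_a_rc_4_2 lc_a_rc_2_2 lc_a_rc_5_2 lc_a_rc_5_2 lc_a_rc_9_2 lc_a_rc_2_2 lc_a_rc_2_2 lc_a_rc_3_2 lc_a_rc_2_2 lc_a_rc_2_2 lc_a_rc_3_2 lc_a_rc_2_2 lc_a_rc_7_2 lc_a_rc_6_2 lc_a_rc_3_2 lc_a_rc_9_2 lc_a_rc_9_2 lc_a_rc_3_2 lc_a_rc_2_2 lc_a_rc_5_2 lc_a_rc_2_2 lc_a_rc_9_2 lc_a_rc_7_2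 lc_a_rc_0_1 lc_a_rc_3_2 lc_a_rc_2_2 lc_a_rc_2_2 lc_a_rc_3_2 lc_a_rc_3_2 lc_a_Cert_tree lc_a_rc_1_0 lc_a_rc_2_2 lc_a_rc_3_2 lc_a_rc_3_2 lc_a_rc_5_2 lc_a_rc_4_2 lc_a_rc_4_2 lc_a_rc_8_2 lc_a_rc_7_2 lc_a_rc_7_2 lc_a_rc_2_0 lc_a_rc_6_2) (@D3.rec (fun _ => (Cert rels S Gen.a)) lc_a_rc_4_2 lc_a_rc_3_2 lc_a_rc_2_0 lc_a_rc_4_2 lc_a_rc_9_2 lc_a_rc_5_2 lc_a_rc_0_0 lc_a_rc_9_2 lc_a_rc_2_2 lc_a_rc_4_2 lc_a_rc_4_2 lc_a_rc_5_2 lc_a_rc_56_28 lc_a_rc_2_2 lc_a_rc_0_0 lc_a_rc_9_2 lc_a_rc_2_2 lc_a_rc_9_2 lc_a_rc_5_2 lc_a_rc_5_0 lc_a_rc_3_2 lc_a_rc_5_2 lc_a_rc_5_2 lc_a_rc_9_2 lc_a_rc_2_2 lc_a_rc_2_2 lc_a_rc_2_2 lc_a_rc_3_2 lc_a_rc_2_2 lc_a_rc_2_2 lc_a_rc_3_2 lc_a_rc_2_2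 lc_a_rc_7_2 lc_a_rc_6_2 lc_a_rc_3_2 lc_a_rc_9_2 lc_a_rc_9_2 lc_a_rc_2_2 lc_a_rc_3_2 lc_a_Cert_tree lc_a_rc_2_2 lc_a_rc_5_2 lc_a_rc_5_2 lc_a_rc_5_2 lc_a_rc_9_2 lc_a_rc_2_2 lc_a_rc_6_0 lc_a_rc_9_2 lc_a_rc_5_0 lc_a_rc_2_2 lc_a_rc_3_2) (@D3.rec (fun _ => (Cert rels S Gen.a)) lc_a_rc_2_2 lc_a_rc_3_2 lc_a_rc_2_2 lc_a_rc_2_2 lc_a_rc_3_2 lc_a_rc_3_2 lc_a_Cert_tree lc_a_rc_2_2 lc_a_rc_2_2 lc_a_rc_3_2 lc_a_rc_5_2 lc_a_rc_3_2 lc_a_rc_4_2 lc_a_rc_4_2 lc_a_rc_9_2 lc_a_rc_2_2 lc_a_rc_3_2 lc_a_rc_3_2 lc_a_rc_2_2 lc_a_rc_5_2 lc_a_rc_0_0 lc_a_rc_9_2 lc_a_rc_2_2 lc_a_rc_4_2 lc_a_rc_5_2 lc_a_rc_9_2 lc_a_rc_5_2 lc_a_rc_3_2 lc_a_rc_9_2 lc_a_rc_4_2 lc_a_rc_5_2 lc_a_rc_5_2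 lc_a_rc_9_2 lc_a_rc_2_2 lc_a_rc_9_2 lc_a_rc_2_2 lc_a_rc_2_2 lc_a_rc_3_2 lc_a_rc_2_2 lc_a_rc_3_2 lc_a_rc_2_2 lc_a_rc_2_2 lc_a_rc_3_2 lc_a_Cert_tree lc_a_rc_2_2 lc_a_rc_5_2 lc_a_rc_7_2 lc_a_rc_3_2 lc_a_rc_9_2 lc_a_rc_2_2 lc_a_rc_4_2) (@D3.rec (fun _ => (Cert rels S Gen.a)) lc_a_rc_3_2 lc_a_rc_3_2 lc_a_rc_2_2 lc_a_rc_5_2 lc_a_rc_0_0 lc_a_rc_9_2 lc_a_rc_2_2 lc_a_rc_5_0 lc_a_rc_5_2 lc_a_rc_9_2 lc_a_rc_2_2 lc_a_rc_9_2 lc_a_rc_2_2 lc_a_rc_2_2 lc_a_rc_2_2 lc_a_rc_5_2 lc_a_rc_4_2 lc_a_rc_9_2 lc_a_rc_2_2 lc_a_rc_3_2 lc_a_rc_2_2 lc_a_rc_2_2 lc_a_rc_4_2 lc_a_rc_3_2 lc_a_rc_5_0 lc_a_rc_3_2 lc_a_Cert_tree lc_a_rc_4_2 lc_a_rc_2_2 lc_a_rc_3_2 lc_a_rc_3_2 lc_a_rc_5_2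 lc_a_rc_0_0 lc_a_rc_4_2 lc_a_rc_9_2 lc_a_rc_2_2 lc_a_rc_2_2 lc_a_rc_2_2 lc_a_rc_3_2 lc_a_rc_3_2 lc_a_rc_3_0 lc_a_rc_4_2 lc_a_rc_4_2 lc_a_rc_4_2 lc_a_rc_4_2 lc_a_rc_6_2 lc_a_rc_3_2 lc_a_rc_9_2 lc_a_rc_6_2 lc_a_rc_0_1 lc_a_rc_3_2) (@D3.rec (fun _ => (Cert rels S Gen.a)) lc_a_Cert_tree lc_a_rc_3_0 lc_a_rc_2_2 lc_a_rc_4_2 lc_a_rc_5_2 lc_a_rc_4_2 lc_a_rc_7_2 lc_a_rc_5_2 lc_a_rc_0_0 lc_a_rc_9_2 lc_a_rc_2_2 lc_a_rc_9_2 lc_a_rc_5_2 lc_a_rc_3_2 lc_a_rc_3_2 lc_a_Cert_tree lc_a_rc_2_2 lc_a_rc_2_2 lc_a_rc_4_2 lc_a_rc_5_2 lc_a_rc_0_0 lc_a_rc_4_2 lc_a_rc_9_2 lc_a_rc_3_2 lc_a_rc_2_2 lc_a_rc_2_2 lc_a_rc_5_2 lc_a_rc_0_0 lc_a_rc_9_2 lc_a_rc_2_2 lc_a_rc_9_2 lc_a_rc_5_2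 lc_a_rc_3_2 lc_a_rc_5_2 lc_a_rc_3_2 lc_a_rc_4_2 lc_a_rc_2_2 lc_a_rc_2_2 lc_a_rc_3_2 lc_a_rc_2_2 lc_a_rc_3_2 lc_a_rc_2_2 lc_a_rc_3_2 lc_a_rc_5_2 lc_a_rc_7_2 lc_a_rc_9_2 lc_a_rc_4_2 lc_a_rc_2_2 lc_a_rc_3_0 lc_a_rc_2_2 lc_a_rc_3_0) (@D3.rec (fun _ => (Cert rels S Gen.a)) lc_a_rc_2_2 lc_a_rc_3_0 lc_a_rc_2_2 lc_a_rc_2_2 lc_a_rc_2_2 lc_a_rc_2_2 lc_a_rc_2_2 lc_a_rc_3_2 lc_a_rc_2_2 lc_a_rc_2_2 lc_a_rc_4_2 lc_a_rc_3_2 lc_a_rc_2_2 lc_a_rc_9_0 lc_a_rc_3_2 lc_a_rc_9_0 lc_a_rc_4_2 lc_a_rc_2_2 lc_a_rc_9_0 lc_a_rc_5_0 lc_a_rc_5_2 lc_a_rc_9_0 lc_a_rc_5_0 lc_a_rc_4_2 lc_a_rc_2_2 lc_a_rc_3_0 lc_a_rc_9_0 lc_a_rc_5_0 lc_a_rc_6_2 lc_a_rc_7_2 lc_a_rc_9_2 lc_a_rc_3_0 lc_a_rc_4_2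 lc_a_rc_3_2 lc_a_Cert_tree lc_a_rc_4_2 lc_a_rc_3_0 lc_a_rc_4_2 lc_a_Cert_tree lc_a_rc_3_0 lc_a_rc_0_0 lc_a_rc_9_2 lc_a_rc_9_2 lc_a_rc_3_2 lc_a_rc_2_0 lc_a_rc_2_2 lc_a_rc_4_2 lc_a_rc_5_2 lc_a_rc_0_0 lc_a_rc_2_0 lc_a_rc_9_2) (@D3.rec (fun _ => (Cert rels S Gen.a)) lc_a_rc_2_2 lc_a_rc_2_2 lc_a_rc_5_2 lc_a_rc_0_0 lc_a_rc_9_2 lc_a_rc_2_2 lc_a_rc_9_2 lc_a_rc_5_2 lc_a_rc_3_2 lc_a_rc_5_2 lc_a_rc_9_2 lc_a_rc_4_2 lc_a_rc_1_2 lc_a_rc_56_7 lc_a_rc_1_2 lc_a_rc_56_49 lc_a_rc_5_2 lc_a_rc_3_2 lc_a_rc_5_2 lc_a_rc_5_2 lc_a_rc_9_2 lc_a_rc_5_2 lc_a_rc_9_2 lc_a_rc_9_2 lc_a_rc_9_2 lc_a_rc_2_2 lc_a_rc_3_2 lc_a_rc_2_2 lc_a_rc_2_2 lc_a_rc_4_2 lc_a_rc_3_2 lc_a_rc_2_2 lc_a_rc_3_2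 lc_a_Cert_tree lc_a_rc_2_2 lc_a_rc_5_2 lc_a_rc_0_0 lc_a_rc_9_2 lc_a_rc_2_2 lc_a_rc_3_2 lc_a_rc_9_2 lc_a_rc_2_2 lc_a_rc_4_2 lc_a_rc_3_2 lc_a_Cert_tree lc_a_rc_2_2 lc_a_rc_2_2 lc_a_rc_4_2 lc_a_Cert_tree lc_a_rc_2_2 lc_a_rc_0_0) (@D3.rec (fun _ => (Cert rels S Gen.a)) lc_a_rc_9_2 lc_a_rc_9_2 lc_a_rc_4_2 lc_a_rc_0_1 lc_a_rc_3_2 lc_a_rc_9_2 lc_a_rc_1_2 lc_a_rc_5_2 lc_a_rc_9_2 lc_a_rc_1_0 lc_a_rc_4_2 lc_a_rc_9_2 lc_a_rc_1_0 lc_a_rc_9_0 lc_a_rc_9_2 lc_a_Cert_tree lc_a_rc_4_2 lc_a_rc_1_0 lc_a_rc_9_0 lc_a_rc_5_0 lc_a_rc_9_2 lc_a_rc_0_0 lc_a_rc_4_2 lc_a_rc_9_2 lc_a_rc_9_0 lc_a_rc_4_2 lc_a_rc_1_0 lc_a_rc_9_0 lc_a_rc_5_0 lc_a_rc_3_0 lc_a_rc_3_2 lc_a_rc_2_2 lc_a_rc_2_2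 lc_a_rc_4_2 lc_a_rc_3_2 lc_a_Cert_tree lc_a_rc_2_2 lc_a_rc_2_2 lc_a_rc_4_2 lc_a_rc_4_2 lc_a_rc_5_2 lc_a_Cert_tree lc_a_rc_9_0 lc_a_rc_2_2 lc_a_rc_9_0 lc_a_rc_5_0 lc_a_rc_5_2 lc_a_rc_0_0 lc_a_rc_4_2 lc_a_rc_9_2 lc_a_rc_9_0) (@D3.rec (fun _ => (Cert rels S Gen.a)) lc_a_rc_5_0 lc_a_rc_2_2 lc_a_rc_9_0 lc_a_rc_6_2 lc_a_rc_3_0 lc_a_rc_4_2 lc_a_rc_9_2 lc_a_rc_3_2 lc_a_rc_9_2 lc_a_rc_5_2 lc_a_rc_9_0 lc_a_rc_5_0 lc_a_rc_3_0 lc_a_rc_1_0 lc_a_rc_9_0 lc_a_rc_5_0 lc_a_rc_3_0 lc_a_rc_2_2 lc_a_rc_6_2 lc_a_rc_8_2 lc_a_rc_6_2 lc_a_rc_5_0 lc_a_rc_2_2 lc_a_rc_3_2 lc_a_rc_4_2 lc_a_rc_2_2 lc_a_rc_2_2 lc_a_rc_4_2 lc_a_rc_5_2 lc_a_rc_0_0 lc_a_rc_3_0 lc_a_rc_9_2 lc_a_rc_3_2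 lc_a_rc_2_2 lc_a_rc_3_0 lc_a_rc_7_2 lc_a_rc_0_0 lc_a_rc_9_2 lc_a_rc_3_0 lc_a_rc_9_2 lc_a_rc_5_2 lc_a_rc_1_0 lc_a_rc_5_2 lc_a_rc_3_2 lc_a_rc_1_4 lc_a_rc_9_2 lc_a_rc_9_2 lc_a_rc_5_2 lc_a_rc_3_2 lc_a_rc_4_2 lc_a_rc_4_2) (@D3.rec (fun _ => (Cert rels S Gen.a)) lc_a_rc_3_2 lc_a_rc_4_2 lc_a_rc_7_2 lc_a_rc_3_2 lc_a_rc_7_2 lc_a_rc_7_2 lc_a_rc_4_2 lc_a_rc_5_0 lc_a_rc_0_0 lc_a_rc_4_2 lc_a_rc_9_2 lc_a_rc_5_2 lc_a_rc_5_2 lc_a_rc_7_2 lc_a_rc_3_2 lc_a_rc_9_2 lc_a_rc_9_2 lc_a_rc_2_2 lc_a_rc_4_2 lc_a_rc_2_2 lc_a_rc_0_0 lc_a_rc_3_0 lc_a_rc_3_2 lc_a_rc_0_0 lc_a_rc_2_0 lc_a_rc_4_2 lc_a_rc_2_2 lc_a_rc_3_2 lc_a_rc_3_2 lc_a_rc_0_1 lc_a_rc_3_0 lc_a_rc_3_0 lc_a_rc_2_0 lc_a_rc_5_2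 lc_a_Cert_tree lc_a_rc_4_2 lc_a_rc_1_0 lc_a_rc_4_2 lc_a_Cert_tree lc_a_rc_1_0 lc_a_rc_0_0 lc_a_rc_9_2 lc_a_rc_9_2 lc_a_rc_3_2 lc_a_rc_4_2 lc_a_rc_1_2 lc_a_rc_0_0 lc_a_rc_7_2 lc_a_rc_3_2 lc_a_rc_0_0 lc_a_rc_5_2) (@D3.rec (fun _ => (Cert rels S Gen.a)) lc_a_rc_2_2 lc_a_rc_2_2 lc_a_rc_5_2 lc_a_rc_3_2 lc_a_rc_1_4 lc_a_rc_5_2 lc_a_rc_2_2 lc_a_rc_3_0 lc_a_rc_9_2 lc_a_rc_2_2 lc_a_rc_4_2 lc_a_rc_3_2 lc_a_rc_5_2 lc_a_rc_4_2 lc_a_rc_4_2 lc_a_rc_5_2 lc_a_rc_5_2 lc_a_rc_9_2 lc_a_rc_5_2 lc_a_rc_9_2 lc_a_rc_5_2 lc_a_rc_3_2 lc_a_rc_2_2 lc_a_rc_4_2 lc_a_rc_5_2 lc_a_rc_2_2 lc_a_rc_2_2 lc_a_rc_2_2 lc_a_rc_5_2 lc_a_rc_2_2 lc_a_rc_2_2 lc_a_rc_9_2 lc_a_rc_5_2 lc_a_rc_3_2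 lc_a_rc_5_2 lc_a_rc_3_2 lc_a_rc_4_2 lc_a_rc_2_2 lc_a_rc_4_2 lc_a_rc_5_2 lc_a_rc_5_2 lc_a_rc_2_2 lc_a_rc_9_2 lc_a_rc_5_2 lc_a_rc_3_2 lc_a_rc_4_2 lc_a_rc_9_2 lc_a_rc_1_0 lc_a_rc_2_2 lc_a_rc_9_2 lc_a_rc_5_2) (@D3.rec (fun _ => (Cert rels S Gen.a)) lc_a_rc_4_2 lc_a_rc_3_2 lc_a_rc_1_0 lc_a_rc_4_2 lc_a_rc_3_2 lc_a_rc_6_2 lc_a_rc_5_2 lc_a_rc_4_2 lc_a_rc_9_2 lc_a_rc_6_2 lc_a_rc_9_2 lc_a_rc_5_2 lc_a_rc_2_2 lc_a_rc_2_2 lc_a_rc_2_2 lc_a_rc_3_2 lc_a_rc_3_2 lc_a_rc_3_2 lc_a_rc_3_0 lc_a_rc_4_2 lc_a_rc_4_2 lc_a_rc_4_2 lc_a_rc_2_0 lc_a_rc_3_0 lc_a_rc_4_0 lc_a_rc_2_2 lc_a_rc_3_0 lc_a_rc_5_2 lc_a_rc_5_2 lc_a_rc_6_2 lc_a_rc_2_2 lc_a_rc_9_2 lc_a_rc_5_2 lc_a_rc_3_2 lc_a_rc_5_2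 lc_a_rc_3_2 lc_a_rc_4_2 lc_a_rc_2_2 lc_a_rc_2_2 lc_a_rc_4_2 lc_a_rc_9_2 lc_a_rc_9_2 lc_a_rc_5_2 lc_a_rc_2_2 lc_a_rc_3_2 lc_a_rc_9_2 lc_a_rc_5_2 lc_a_rc_3_2 lc_a_rc_5_2 lc_a_rc_3_2 lc_a_rc_4_2) (@D3.rec (fun _ => (Cert rels S Gen.a)) lc_a_rc_3_2 lc_a_rc_2_2 lc_a_rc_4_2 lc_a_rc_6_2 lc_a_Cert_tree lc_a_rc_2_2 lc_a_rc_5_2 lc_a_Cert_tree lc_a_rc_2_2 lc_a_rc_5_2 lc_a_rc_0_0 lc_a_rc_9_2 lc_a_rc_2_2 lc_a_rc_9_2 lc_a_rc_5_2 lc_a_rc_3_2 lc_a_rc_4_0 lc_a_rc_2_2 lc_a_rc_0_0 lc_a_rc_3_0 lc_a_rc_9_2 lc_a_rc_3_2 lc_a_rc_2_2 lc_a_rc_2_2 lc_a_rc_0_0 lc_a_rc_5_2 lc_a_rc_4_0 lc_a_rc_9_2 lc_a_rc_4_2 lc_a_rc_3_2 lc_a_rc_5_2 lc_a_rc_3_2 lc_a_rc_4_2 lc_a_rc_4_0 lc_a_rc_2_0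 lc_a_rc_0_0 lc_a_rc_4_2 lc_a_rc_3_2 lc_a_rc_1_0 lc_a_rc_3_0 lc_a_rc_3_0 lc_a_rc_2_2 lc_a_rc_4_2 lc_a_rc_2_0 lc_a_rc_56_14 lc_a_rc_0_0 lc_a_rc_4_2 lc_a_rc_3_2 lc_a_rc_4_2 lc_a_rc_5_0 lc_a_rc_2_2) (@D3.rec (fun _ => (Cert rels S Gen.a)) lc_a_rc_2_0 lc_a_rc_2_0 lc_a_rc_4_2 lc_a_rc_9_2 lc_a_rc_6_2 lc_a_rc_9_2 lc_a_rc_5_2 lc_a_rc_9_0 lc_a_rc_6_2 lc_a_rc_3_0 lc_a_rc_3_2 lc_a_rc_2_0 lc_a_rc_2_0 lc_a_rc_2_0 lc_a_rc_6_2 lc_a_rc_9_2 lc_a_rc_5_2 lc_a_rc_7_2 lc_a_rc_9_2 lc_a_rc_5_2 lc_a_rc_3_2 lc_a_rc_9_0 lc_a_rc_5_0 lc_a_rc_3_0 lc_a_rc_2_0 lc_a_rc_4_2 lc_a_rc_2_0 lc_a_rc_2_0 lc_a_rc_2_0 lc_a_rc_7_2 lc_a_rc_2_0 lc_a_rc_5_2 lc_a_rc_3_2 lc_a_rc_4_2 lc_a_rc_5_2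 lc_a_rc_7_2 lc_a_rc_4_2 lc_a_rc_9_2 lc_a_rc_6_2 lc_a_rc_4_2 lc_a_rc_5_2 lc_a_rc_4_0 lc_a_rc_3_2 lc_a_rc_9_2 lc_a_rc_0_1 lc_a_rc_9_2 lc_a_rc_9_2 lc_a_rc_5_2 lc_a_rc_3_2 lc_a_rc_4_2 lc_a_rc_9_2)
def ce_a_10 : D2 → D3 → (Cert rels S Gen.a) := @D2.rec (fun _ => D3 → (Cert rels S Gen.a)) (@D3.rec (fun _ => (Cert rels S Gen.a)) lc_a_rc_9_2 lc_a_rc_3_2 lc_a_rc_2_2 lc_a_rc_5_0 lc_a_rc_3_2 lc_a_rc_9_2 lc_a_rc_2_2 lc_a_rc_3_2 lc_a_rc_3_0 lc_a_rc_3_0 lc_a_rc_8_2 lc_a_rc_9_2 lc_a_rc_3_2 lc_a_rc_8_2 lc_a_rc_3_2 lc_a_rc_9_2 lc_a_rc_5_2 lc_a_rc_3_2 lc_a_rc_2_2 lc_a_rc_3_2 lc_a_rc_6_0 lc_a_rc_5_0 lc_a_rc_3_0 lc_a_rc_2_2 lc_a_rc_5_2 lc_a_rc_5_2 lc_a_rc_6_2 lc_a_rc_4_2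 lc_a_rc_4_2 lc_a_rc_4_2 lc_a_rc_5_2 lc_a_rc_6_2 lc_a_rc_4_2 lc_a_rc_5_2 lc_a_rc_2_2 lc_a_rc_2_2 lc_a_rc_5_2 lc_a_rc_7_2 lc_a_rc_6_2 lc_a_rc_5_2 lc_a_rc_2_2 lc_a_rc_1_2 lc_a_rc_1_2 lc_a_rc_5_2 lc_a_rc_7_2 lc_a_rc_6_2 lc_a_rc_5_2 lc_a_rc_5_2 lc_a_rc_56_28 lc_a_rc_3_2 lc_a_rc_2_2) (@D3.rec (fun _ => (Cert rels S Gen.a)) lc_a_rc_3_2 lc_a_rc_3_2 lc_a_rc_3_2 lc_a_rc_8_2 lc_a_rc_7_2 lc_a_rc_6_2 lc_a_rc_3_2 lc_a_rc_7_2 lc_a_rc_4_2 lc_a_rc_2_0 lc_a_rc_3_2 lc_a_rc_3_2 lc_a_Cert_tree lc_a_rc_2_2 lc_a_rc_6_2 lc_a_Cert_tree lc_a_rc_2_2 lc_a_rc_5_2 lc_a_rc_0_0 lc_a_rc_9_2 lc_a_rc_2_2 lc_a_rc_9_2 lc_a_rc_5_2 lc_a_rc_3_2 lc_a_rc_9_2 lc_a_rc_5_2 lc_a_rc_6_2 lc_a_rc_6_2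 lc_a_rc_5_2 lc_a_rc_5_2 lc_a_rc_2_2 lc_a_rc_8_2 lc_a_rc_6_2 lc_a_rc_1_0 lc_a_rc_3_0 lc_a_rc_1_0 lc_a_rc_9_2 lc_a_rc_4_2 lc_a_rc_3_2 lc_a_rc_4_2 lc_a_rc_8_2 lc_a_rc_3_2 lc_a_rc_7_2 lc_a_rc_4_2 lc_a_rc_3_2 lc_a_rc_3_2 lc_a_rc_4_2 lc_a_rc_5_2 lc_a_rc_2_2 lc_a_rc_3_2 lc_a_rc_1_2) (@D3.rec (fun _ => (Cert rels S Gen.a)) lc_a_rc_1_2 lc_a_rc_1_2 lc_a_rc_9_2 lc_a_rc_3_2 lc_a_rc_2_2 lc_a_rc_6_2 lc_a_rc_4_2 lc_a_rc_5_2 lc_a_rc_1_4 lc_a_rc_7_2 lc_a_rc_1_4 lc_a_rc_9_2 lc_a_rc_1_4 lc_a_rc_4_2 lc_a_rc_6_0 lc_a_rc_3_2 lc_a_rc_3_2 lc_a_rc_6_2 lc_a_rc_9_2 lc_a_rc_5_2 lc_a_rc_7_2 lc_a_rc_6_2 lc_a_rc_5_2 lc_a_rc_9_2 lc_a_rc_8_0 lc_a_rc_3_2 lc_a_rc_5_2 lc_a_rc_5_2 lc_a_rc_5_2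 lc_a_rc_4_2 lc_a_rc_4_2 lc_a_rc_4_2 lc_a_rc_3_2 lc_a_rc_4_2 lc_a_rc_2_2 lc_a_rc_3_2 lc_a_rc_3_2 lc_a_rc_3_2 lc_a_rc_6_2 lc_a_rc_4_2 lc_a_rc_3_2 lc_a_rc_4_2 lc_a_rc_3_2 lc_a_rc_4_2 lc_a_rc_4_2 lc_a_rc_3_2 lc_a_rc_4_2 lc_a_rc_3_2 lc_a_rc_5_2 lc_a_rc_2_2 lc_a_rc_3_2) (@D3.rec (fun _ => (Cert rels S Gen.a)) lc_a_Cert_tree lc_a_rc_2_2 lc_a_rc_3_2 lc_a_rc_2_2 lc_a_rc_3_2 lc_a_Cert_tree lc_a_rc_2_2 lc_a_rc_0_0 lc_a_rc_9_2 lc_a_rc_2_2 lc_a_rc_1_2 lc_a_rc_1_2 lc_a_rc_1_2 lc_a_rc_1_2 lc_a_rc_1_2 lc_a_rc_1_2 lc_a_rc_1_2 lc_a_rc_4_2 lc_a_rc_3_2 lc_a_rc_2_2 lc_a_rc_3_2 lc_a_rc_3_2 lc_a_rc_3_2 lc_a_rc_2_2 lc_a_rc_2_2 lc_a_rc_3_2 lc_a_rc_2_2 lc_a_rc_4_2 lc_a_rc_3_2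 lc_a_rc_6_2 lc_a_rc_4_2 lc_a_rc_5_2 lc_a_rc_7_2 lc_a_rc_6_2 lc_a_rc_5_2 lc_a_rc_7_2 lc_a_rc_9_2 lc_a_rc_5_2 lc_a_rc_5_0 lc_a_rc_6_2 lc_a_rc_8_2 lc_a_rc_7_2 lc_a_rc_9_2 lc_a_rc_4_2 lc_a_rc_9_2 lc_a_rc_6_2 lc_a_rc_1_4 lc_a_rc_3_2 lc_a_rc_2_2 lc_a_rc_4_2 lc_a_rc_4_2) (@D3.rec (fun _ => (Cert rels S Gen.a)) lc_a_rc_7_2 lc_a_rc_5_0 lc_a_rc_3_2 lc_a_rc_3_2 lc_a_rc_4_2 lc_a_rc_9_2 lc_a_rc_6_2 lc_a_rc_4_2 lc_a_rc_5_2 lc_a_rc_6_2 lc_a_rc_7_2 lc_a_rc_2_2 lc_a_rc_7_2 lc_a_rc_6_2 lc_a_rc_5_2 lc_a_rc_8_2 lc_a_rc_7_2 lc_a_rc_6_2 lc_a_rc_6_2 lc_a_rc_6_2 lc_a_rc_4_2 lc_a_rc_9_2 lc_a_rc_9_2 lc_a_rc_9_2 lc_a_rc_3_2 lc_a_rc_3_2 lc_a_rc_3_0 lc_a_rc_8_2 lc_a_rc_9_0 lc_a_rc_9_2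 lc_a_rc_9_0 lc_a_rc_9_0 lc_a_rc_5_0 lc_a_rc_8_2 lc_a_rc_8_2 lc_a_rc_9_0 lc_a_rc_5_2 lc_a_rc_9_0 lc_a_rc_5_2 lc_a_rc_9_0 lc_a_rc_9_0 lc_a_rc_5_0 lc_a_rc_1_4 lc_a_rc_9_0 lc_a_rc_5_0 lc_a_rc_5_0 lc_a_rc_3_2 lc_a_rc_1_4 lc_a_rc_3_2 lc_a_rc_3_0 lc_a_rc_1_4) (@D3.rec (fun _ => (Cert rels S Gen.a)) lc_a_rc_3_2 lc_a_rc_0_0 lc_a_rc_2_0 lc_a_rc_2_0 lc_a_rc_2_0 lc_a_rc_9_0 lc_a_rc_4_2 lc_a_rc_2_0 lc_a_rc_9_0 lc_a_rc_2_0 lc_a_rc_6_0 lc_a_rc_5_0 lc_a_rc_2_0 lc_a_rc_0_0 lc_a_rc_9_2 lc_a_rc_3_0 lc_a_rc_2_2 lc_a_rc_2_2 lc_a_rc_3_2 lc_a_rc_2_0 lc_a_rc_2_2 lc_a_rc_2_2 lc_a_rc_4_2 lc_a_rc_5_2 lc_a_rc_2_2 lc_a_rc_5_2 lc_a_rc_5_0 lc_a_rc_2_2 lc_a_rc_9_2 lc_a_rc_5_2 lc_a_rc_3_2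 lc_a_rc_1_2 lc_a_rc_1_2 lc_a_rc_1_2 lc_a_rc_1_2 lc_a_rc_1_2 lc_a_rc_1_2 lc_a_rc_1_2 lc_a_rc_1_2 lc_a_rc_1_2 lc_a_rc_1_2 lc_a_rc_2_2 lc_a_rc_3_2 lc_a_rc_1_2 lc_a_rc_1_2 lc_a_rc_7_2 lc_a_rc_9_2 lc_a_rc_2_2 lc_a_rc_9_2 lc_a_rc_56_7 lc_a_rc_56_28) (@D3.rec (fun _ => (Cert rels S Gen.a)) lc_a_rc_4_2 lc_a_rc_3_2 lc_a_rc_5_2 lc_a_rc_5_2 lc_a_rc_5_2 lc_a_rc_9_2 lc_a_rc_2_2 lc_a_rc_5_2 lc_a_rc_9_2 lc_a_rc_2_2 lc_a_rc_2_2 lc_a_rc_3_2 lc_a_rc_2_2 lc_a_rc_3_2 lc_a_rc_2_2 lc_a_rc_2_2 lc_a_rc_4_2 lc_a_rc_3_2 lc_a_rc_2_2 lc_a_rc_6_2 lc_a_rc_4_2 lc_a_rc_5_2 lc_a_rc_6_2 lc_a_rc_4_2 lc_a_rc_5_2 lc_a_rc_7_2 lc_a_rc_6_2 lc_a_rc_5_2 lc_a_rc_8_2 lc_a_rc_7_2 lc_a_rc_6_2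 lc_a_rc_7_2 lc_a_rc_9_2 lc_a_rc_2_2 lc_a_rc_3_2 lc_a_rc_2_2 lc_a_rc_5_2 lc_a_rc_2_2 lc_a_rc_0_1 lc_a_rc_5_2 lc_a_rc_3_2 lc_a_rc_5_2 lc_a_rc_5_2 lc_a_rc_9_2 lc_a_rc_5_2 lc_a_rc_9_2 lc_a_rc_2_2 lc_a_rc_5_2 lc_a_rc_9_2 lc_a_rc_4_2 lc_a_rc_3_0) (@D3.rec (fun _ => (Cert rels S Gen.a)) lc_a_rc_2_2 lc_a_rc_9_0 lc_a_rc_9_2 lc_a_rc_9_2 lc_a_rc_2_2 lc_a_rc_3_2 lc_a_rc_2_2 lc_a_rc_2_2 lc_a_rc_4_2 lc_a_rc_3_2 lc_a_rc_1_0 lc_a_rc_2_0 lc_a_rc_3_2 lc_a_Cert_tree lc_a_rc_3_2 lc_a_rc_2_2 lc_a_rc_6_2 lc_a_rc_4_2 lc_a_rc_5_2 lc_a_rc_0_0 lc_a_rc_3_0 lc_a_rc_9_2 lc_a_rc_3_2 lc_a_rc_3_2 lc_a_rc_2_2 lc_a_rc_7_2 lc_a_rc_6_2 lc_a_rc_5_2 lc_a_rc_3_0 lc_a_rc_3_0 lc_a_rc_5_2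 lc_a_rc_7_2 lc_a_rc_6_2 lc_a_rc_5_2 lc_a_rc_8_2 lc_a_rc_7_2 lc_a_rc_6_2 lc_a_rc_3_2 lc_a_rc_8_2 lc_a_rc_7_2 lc_a_rc_9_2 lc_a_rc_3_0 lc_a_rc_2_0 lc_a_Cert_tree lc_a_rc_4_2 lc_a_rc_2_2 lc_a_rc_2_0 lc_a_rc_5_2 lc_a_Cert_tree lc_a_rc_3_0 lc_a_rc_0_0) (@D3.rec (fun _ => (Cert rels S Gen.a)) lc_a_rc_0_0 lc_a_rc_9_2 lc_a_rc_2_2 lc_a_rc_9_2 lc_a_rc_5_2 lc_a_rc_3_2 lc_a_Cert_tree lc_a_rc_2_2 lc_a_rc_5_2 lc_a_rc_0_0 lc_a_rc_4_2 lc_a_rc_9_2 lc_a_rc_2_2 lc_a_rc_2_2 lc_a_rc_5_2 lc_a_rc_0_0 lc_a_rc_9_2 lc_a_rc_2_2 lc_a_rc_9_2 lc_a_rc_5_2 lc_a_rc_3_2 lc_a_rc_5_2 lc_a_rc_3_2 lc_a_rc_4_2 lc_a_rc_1_2 lc_a_rc_3_2 lc_a_rc_2_2 lc_a_rc_3_2 lc_a_rc_3_2 lc_a_rc_9_2 lc_a_rc_9_2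 lc_a_rc_8_0 lc_a_rc_3_2 lc_a_rc_2_2 lc_a_rc_5_2 lc_a_rc_1_0 lc_a_rc_3_2 lc_a_rc_9_2 lc_a_rc_4_2 lc_a_rc_4_2 lc_a_rc_4_2 lc_a_rc_2_0 lc_a_rc_2_2 lc_a_rc_5_2 lc_a_rc_3_2 lc_a_rc_4_2 lc_a_rc_9_2 lc_a_rc_9_0 lc_a_rc_5_2 lc_a_rc_3_2 lc_a_rc_5_2) (@D3.rec (fun _ => (Cert rels S Gen.a)) lc_a_rc_2_2 lc_a_rc_2_2 lc_a_rc_2_2 lc_a_rc_3_2 lc_a_rc_2_2 lc_a_rc_2_2 lc_a_rc_2_2 lc_a_rc_4_2 lc_a_rc_3_2 lc_a_rc_5_2 lc_a_rc_6_2 lc_a_rc_6_2 lc_a_rc_5_2 lc_a_rc_9_2 lc_a_rc_2_2 lc_a_rc_3_2 lc_a_rc_9_2 lc_a_rc_3_2 lc_a_rc_5_2 lc_a_rc_5_2 lc_a_rc_9_2 lc_a_rc_2_2 lc_a_rc_2_2 lc_a_rc_2_2 lc_a_rc_3_2 lc_a_rc_2_2 lc_a_rc_2_2 lc_a_rc_4_2 lc_a_rc_3_2 lc_a_rc_0_0 lc_a_rc_2_2 lc_a_rc_1_4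 lc_a_rc_4_2 lc_a_rc_4_2 lc_a_rc_5_2 lc_a_rc_9_2 lc_a_rc_3_0 lc_a_rc_7_2 lc_a_rc_6_2 lc_a_rc_9_2 lc_a_rc_5_0 lc_a_rc_9_2 lc_a_rc_9_2 lc_a_rc_1_4 lc_a_rc_2_2 lc_a_rc_5_2 lc_a_rc_3_2 lc_a_rc_5_2 lc_a_rc_0_0 lc_a_rc_9_2 lc_a_rc_2_2) (@D3.rec (fun _ => (Cert rels S Gen.a)) lc_a_rc_3_0 lc_a_rc_4_2 lc_a_rc_3_0 lc_a_rc_1_2 lc_a_rc_1_2 lc_a_rc_9_2 lc_a_rc_3_2 lc_a_rc_5_2 lc_a_rc_5_2 lc_a_rc_9_2 lc_a_rc_2_2 lc_a_rc_2_2 lc_a_rc_2_2 lc_a_rc_3_2 lc_a_rc_2_2 lc_a_rc_2_2 lc_a_rc_4_2 lc_a_rc_3_2 lc_a_rc_2_2 lc_a_rc_4_2 lc_a_rc_3_2 lc_a_rc_4_2 lc_a_rc_5_2 lc_a_rc_7_2 lc_a_rc_9_2 lc_a_rc_9_2 lc_a_rc_2_2 lc_a_rc_3_2 lc_a_rc_6_2 lc_a_rc_2_2 lc_a_rc_5_2 lc_a_rc_3_2 lc_a_rc_5_2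 lc_a_rc_5_2 lc_a_rc_5_2 lc_a_rc_9_2 lc_a_rc_2_2 lc_a_rc_5_2 lc_a_rc_9_2 lc_a_rc_2_2 lc_a_rc_3_2 lc_a_rc_2_2 lc_a_rc_3_2 lc_a_rc_2_2 lc_a_rc_2_2 lc_a_rc_4_2 lc_a_rc_3_2 lc_a_Cert_tree lc_a_rc_2_2 lc_a_rc_2_2 lc_a_rc_3_2) (@D3.rec (fun _ => (Cert rels S Gen.a)) lc_a_rc_4_2 lc_a_rc_5_2 lc_a_rc_4_2 lc_a_rc_5_2 lc_a_rc_4_2 lc_a_rc_4_2 lc_a_rc_5_2 lc_a_rc_3_2 lc_a_rc_3_2 lc_a_rc_5_2 lc_a_rc_2_2 lc_a_rc_5_2 lc_a_rc_0_0 lc_a_rc_9_2 lc_a_rc_2_2 lc_a_rc_9_2 lc_a_rc_5_2 lc_a_rc_1_2 lc_a_rc_3_2 lc_a_rc_2_2 lc_a_rc_3_2 lc_a_rc_5_2 lc_a_rc_3_2 lc_a_rc_9_2 lc_a_rc_3_2 lc_a_rc_9_2 lc_a_rc_7_2 lc_a_rc_3_2 lc_a_rc_0_0 lc_a_rc_9_2 lc_a_rc_5_2 lc_a_rc_2_2 lc_a_rc_5_2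 lc_a_rc_6_2 lc_a_rc_6_2 lc_a_rc_1_0 lc_a_rc_3_2 lc_a_rc_5_2 lc_a_rc_1_2 lc_a_rc_5_2 lc_a_rc_6_2 lc_a_rc_6_2 lc_a_rc_2_2 lc_a_rc_6_2 lc_a_rc_6_2 lc_a_rc_2_2 lc_a_rc_4_2 lc_a_rc_2_0 lc_a_rc_2_2 lc_a_rc_5_2 lc_a_rc_0_0) (@D3.rec (fun _ => (Cert rels S Gen.a)) lc_a_rc_9_2 lc_a_rc_2_2 lc_a_rc_7_2 lc_a_rc_56_21 lc_a_rc_7_2 lc_a_rc_4_2 lc_a_rc_4_2 lc_a_rc_3_2 lc_a_rc_4_2 lc_a_rc_9_0 lc_a_rc_5_2 lc_a_rc_3_2 lc_a_rc_3_2 lc_a_rc_5_2 lc_a_rc_5_2 lc_a_rc_9_2 lc_a_rc_2_2 lc_a_rc_2_2 lc_a_rc_2_2 lc_a_rc_3_2 lc_a_rc_2_2 lc_a_rc_2_2 lc_a_rc_4_2 lc_a_rc_3_2 lc_a_rc_2_2 lc_a_rc_4_2 lc_a_rc_3_2 lc_a_rc_4_2 lc_a_rc_5_2 lc_a_rc_7_2 lc_a_rc_6_2 lc_a_rc_3_2 lc_a_rc_9_2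 lc_a_rc_9_2 lc_a_rc_2_2 lc_a_rc_3_2 lc_a_rc_4_2 lc_a_rc_2_2 lc_a_rc_5_2 lc_a_rc_0_0 lc_a_rc_3_2 lc_a_rc_5_2 lc_a_rc_5_2 lc_a_rc_5_2 lc_a_rc_9_2 lc_a_rc_2_2 lc_a_rc_5_2 lc_a_rc_9_2 lc_a_rc_2_2 lc_a_rc_2_2 lc_a_rc_3_2) (@D3.rec (fun _ => (Cert rels S Gen.a)) lc_a_rc_2_2 lc_a_rc_3_2 lc_a_rc_2_2 lc_a_rc_2_2 lc_a_rc_4_2 lc_a_rc_3_2 lc_a_Cert_tree lc_a_rc_1_2 lc_a_rc_2_2 lc_a_rc_3_2 lc_a_rc_4_2 lc_a_rc_5_2 lc_a_rc_1_4 lc_a_rc_6_2 lc_a_rc_4_2 lc_a_rc_5_2 lc_a_rc_4_2 lc_a_rc_4_2 lc_a_rc_5_2 lc_a_rc_6_2 lc_a_rc_5_2 lc_a_rc_7_2 lc_a_rc_6_2 lc_a_rc_9_2 lc_a_rc_2_2 lc_a_rc_3_2 lc_a_rc_3_2 lc_a_rc_9_2 lc_a_rc_1_4 lc_a_rc_2_2 lc_a_rc_5_2 lc_a_rc_0_0 lc_a_rc_9_2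 lc_a_rc_2_2 lc_a_rc_4_2 lc_a_rc_4_2 lc_a_rc_3_2 lc_a_Cert_tree lc_a_rc_2_2 lc_a_rc_2_2 lc_a_rc_4_2 lc_a_rc_5_2 lc_a_rc_4_2 lc_a_rc_2_2 lc_a_rc_5_2 lc_a_rc_0_0 lc_a_rc_9_2 lc_a_rc_2_2 lc_a_rc_9_2 lc_a_rc_5_2 lc_a_rc_3_2) (@D3.rec (fun _ => (Cert rels S Gen.a)) lc_a_rc_2_2 lc_a_rc_5_0 lc_a_rc_1_2 lc_a_rc_7_2 lc_a_rc_0_0 lc_a_rc_9_2 lc_a_rc_1_2 lc_a_rc_1_2 lc_a_rc_4_2 lc_a_rc_1_2 lc_a_rc_1_2 lc_a_rc_2_2 lc_a_rc_1_2 lc_a_rc_3_0 lc_a_rc_4_2 lc_a_rc_3_2 lc_a_rc_5_2 lc_a_rc_5_2 lc_a_rc_5_2 lc_a_rc_9_2 lc_a_rc_2_2 lc_a_rc_5_2 lc_a_rc_9_2 lc_a_rc_2_2 lc_a_rc_2_2 lc_a_rc_3_2 lc_a_rc_2_2 lc_a_rc_3_2 lc_a_rc_2_2 lc_a_rc_2_2 lc_a_rc_4_2 lc_a_rc_3_2 lc_a_Cert_tree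 lc_a_rc_2_2 lc_a_rc_2_2 lc_a_rc_4_2 lc_a_rc_5_2 lc_a_rc_4_2 lc_a_rc_3_2 lc_a_rc_6_2 lc_a_rc_4_2 lc_a_rc_5_2 lc_a_rc_5_2 lc_a_rc_7_2 lc_a_rc_3_2 lc_a_rc_9_2 lc_a_rc_2_2 lc_a_rc_4_2 lc_a_rc_3_2 lc_a_rc_2_2 lc_a_rc_3_2) (@D3.rec (fun _ => (Cert rels S Gen.a)) lc_a_Cert_tree lc_a_rc_2_2 lc_a_rc_5_2 lc_a_rc_0_0 lc_a_rc_9_2 lc_a_rc_2_2 lc_a_rc_4_2 lc_a_rc_5_2 lc_a_rc_7_2 lc_a_rc_5_2 lc_a_rc_5_2 lc_a_rc_9_2 lc_a_rc_5_2 lc_a_rc_9_2 lc_a_rc_2_2 lc_a_rc_5_2 lc_a_rc_9_2 lc_a_rc_2_2 lc_a_rc_2_2 lc_a_rc_2_2 lc_a_rc_5_2 lc_a_rc_9_2 lc_a_rc_9_2 lc_a_rc_2_2 lc_a_rc_3_2 lc_a_rc_2_2 lc_a_rc_2_2 lc_a_rc_4_2 lc_a_rc_3_2 lc_a_rc_2_2 lc_a_rc_4_2 lc_a_rc_3_2 lc_a_Cert_tree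 lc_a_rc_2_2 lc_a_rc_2_2 lc_a_rc_6_2 lc_a_rc_4_2 lc_a_rc_5_2 lc_a_rc_0_0 lc_a_rc_2_2 lc_a_rc_9_2 lc_a_rc_2_2 lc_a_rc_2_2 lc_a_rc_2_2 lc_a_rc_3_2 lc_a_rc_3_2 lc_a_rc_5_2 lc_a_rc_6_2 lc_a_rc_4_2 lc_a_rc_5_2 lc_a_rc_4_2) (@D3.rec (fun _ => (Cert rels S Gen.a)) lc_a_rc_6_2 lc_a_rc_5_2 lc_a_rc_4_2 lc_a_rc_4_2 lc_a_rc_4_2 lc_a_rc_3_2 lc_a_rc_3_2 lc_a_rc_5_2 lc_a_rc_9_2 lc_a_rc_2_2 lc_a_rc_4_2 lc_a_rc_3_2 lc_a_Cert_tree lc_a_rc_3_0 lc_a_rc_2_2 lc_a_rc_4_2 lc_a_rc_5_2 lc_a_rc_2_2 lc_a_rc_5_2 lc_a_rc_0_0 lc_a_rc_9_2 lc_a_rc_2_2 lc_a_rc_9_2 lc_a_rc_5_2 lc_a_rc_3_2 lc_a_rc_4_2 lc_a_rc_5_2 lc_a_rc_0_0 lc_a_rc_4_2 lc_a_rc_9_2 lc_a_rc_2_2 lc_a_rc_2_2 lc_a_rc_5_2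 lc_a_rc_9_2 lc_a_rc_5_2 lc_a_rc_5_2 lc_a_rc_2_0 lc_a_rc_1_2 lc_a_rc_1_2 lc_a_rc_4_2 lc_a_rc_3_2 lc_a_rc_4_2 lc_a_rc_5_2 lc_a_rc_0_0 lc_a_rc_6_2 lc_a_rc_3_2 lc_a_rc_4_2 lc_a_rc_5_2 lc_a_rc_7_2 lc_a_rc_9_2 lc_a_rc_0_1) (@D3.rec (fun _ => (Cert rels S Gen.a)) lc_a_rc_2_2 lc_a_rc_2_2 lc_a_rc_4_2 lc_a_rc_6_2 lc_a_rc_9_2 lc_a_rc_9_0 lc_a_rc_9_0 lc_a_rc_9_0 lc_a_rc_5_2 lc_a_rc_1_4 lc_a_rc_5_0 lc_a_rc_5_2 lc_a_rc_2_2 lc_a_rc_2_2 lc_a_rc_3_2 lc_a_rc_2_2 lc_a_rc_3_2 lc_a_rc_2_2 lc_a_rc_4_2 lc_a_rc_3_2 lc_a_rc_4_2 lc_a_rc_5_2 lc_a_rc_4_2 lc_a_rc_3_2 lc_a_rc_6_2 lc_a_rc_4_2 lc_a_rc_5_2 lc_a_rc_5_2 lc_a_rc_7_2 lc_a_rc_9_2 lc_a_rc_5_0 lc_a_rc_4_2 lc_a_rc_7_2 lc_a_rc_3_0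 lc_a_rc_2_2 lc_a_rc_3_0 lc_a_rc_2_2 lc_a_rc_3_0 lc_a_rc_4_2 lc_a_rc_2_2 lc_a_rc_4_2 lc_a_rc_2_2 lc_a_rc_2_2 lc_a_rc_3_2 lc_a_rc_2_2 lc_a_rc_2_2 lc_a_rc_4_2 lc_a_rc_3_2 lc_a_rc_2_2 lc_a_rc_4_2 lc_a_rc_3_2) (@D3.rec (fun _ => (Cert rels S Gen.a)) lc_a_rc_9_0 lc_a_rc_2_2 lc_a_rc_2_2 lc_a_rc_6_2 lc_a_rc_4_2 lc_a_rc_5_2 lc_a_rc_6_0 lc_a_rc_2_2 lc_a_rc_2_2 lc_a_rc_7_2 lc_a_rc_9_2 lc_a_rc_5_2 lc_a_rc_2_2 lc_a_rc_4_2 lc_a_rc_5_2 lc_a_rc_3_0 lc_a_rc_6_2 lc_a_rc_5_2 lc_a_rc_3_0 lc_a_rc_9_2 lc_a_rc_0_1 lc_a_rc_3_2 lc_a_rc_4_0 lc_a_rc_3_0 lc_a_rc_7_2 lc_a_rc_9_2 lc_a_rc_3_0 lc_a_rc_4_2 lc_a_rc_3_2 lc_a_rc_56_14 lc_a_rc_4_2 lc_a_rc_3_0 lc_a_rc_4_2 lc_a_rc_3_0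 lc_a_rc_9_2 lc_a_rc_3_2 lc_a_rc_2_2 lc_a_rc_4_2 lc_a_rc_5_2 lc_a_rc_4_2 lc_a_rc_3_0 lc_a_rc_3_2 lc_a_rc_2_2 lc_a_rc_1_2 lc_a_rc_1_2 lc_a_rc_1_2 lc_a_rc_1_2 lc_a_rc_1_2 lc_a_rc_1_2 lc_a_rc_1_2 lc_a_rc_1_2) (@D3.rec (fun _ => (Cert rels S Gen.a)) lc_a_rc_1_2 lc_a_rc_1_2 lc_a_rc_1_2 lc_a_rc_1_2 lc_a_rc_2_2 lc_a_rc_1_2 lc_a_rc_2_2 lc_a_rc_1_2 lc_a_rc_4_2 lc_a_rc_5_2 lc_a_rc_3_2 lc_a_rc_5_2 lc_a_rc_5_2 lc_a_rc_9_2 lc_a_rc_5_2 lc_a_rc_9_2 lc_a_rc_5_2 lc_a_rc_9_2 lc_a_rc_9_2 lc_a_rc_9_2 lc_a_rc_2_2 lc_a_rc_3_2 lc_a_rc_2_2 lc_a_rc_2_2 lc_a_rc_4_2 lc_a_rc_3_2 lc_a_rc_2_2 lc_a_rc_4_2 lc_a_rc_3_2 lc_a_rc_3_2 lc_a_rc_2_2 lc_a_rc_2_2 lc_a_rc_6_2 lc_a_rc_4_2 lc_a_rc_5_2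 lc_a_rc_3_2 lc_a_rc_2_2 lc_a_rc_2_2 lc_a_rc_5_2 lc_a_rc_6_2 lc_a_rc_4_2 lc_a_rc_5_2 lc_a_rc_6_2 lc_a_rc_5_2 lc_a_rc_3_2 lc_a_rc_3_2 lc_a_rc_9_2 lc_a_rc_2_2 lc_a_rc_4_2 lc_a_rc_3_2 lc_a_Cert_tree) (@D3.rec (fun _ => (Cert rels S Gen.a)) lc_a_rc_2_2 lc_a_rc_2_2 lc_a_rc_4_2 lc_a_rc_2_2 lc_a_rc_0_0 lc_a_rc_9_2 lc_a_rc_9_2 lc_a_rc_4_2 lc_a_rc_5_2 lc_a_rc_3_2 lc_a_rc_9_2 lc_a_rc_5_2 lc_a_rc_5_2 lc_a_rc_9_2 lc_a_rc_2_2 lc_a_rc_4_2 lc_a_rc_9_2 lc_a_rc_2_2 lc_a_rc_5_2 lc_a_rc_9_2 lc_a_rc_3_2 lc_a_rc_1_2 lc_a_rc_1_0 lc_a_rc_6_2 lc_a_rc_9_2 lc_a_rc_9_2 lc_a_rc_3_2 lc_a_rc_0_0 lc_a_rc_1_2 lc_a_rc_1_0 lc_a_rc_9_0 lc_a_rc_5_0 lc_a_rc_9_2 lc_a_rc_3_2 lc_a_rc_2_2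 lc_a_rc_2_2 lc_a_rc_4_2 lc_a_rc_3_2 lc_a_Cert_tree lc_a_rc_2_2 lc_a_rc_2_2 lc_a_rc_6_2 lc_a_rc_4_2 lc_a_rc_5_2 lc_a_Cert_tree lc_a_rc_2_2 lc_a_rc_2_2 lc_a_rc_6_2 lc_a_rc_4_2 lc_a_rc_5_2 lc_a_rc_0_0) (@D3.rec (fun _ => (Cert rels S Gen.a)) lc_a_rc_4_2 lc_a_rc_9_2 lc_a_rc_2_2 lc_a_rc_2_2 lc_a_rc_2_2 lc_a_rc_9_0 lc_a_rc_6_2 lc_a_rc_5_2 lc_a_rc_9_2 lc_a_rc_2_0 lc_a_rc_4_2 lc_a_rc_5_2 lc_a_rc_9_0 lc_a_rc_5_0 lc_a_rc_2_2 lc_a_rc_1_0 lc_a_rc_9_0 lc_a_rc_5_0 lc_a_rc_4_2 lc_a_rc_3_2 lc_a_rc_7_2 lc_a_rc_6_2 lc_a_rc_5_2 lc_a_rc_3_0 lc_a_rc_3_0 lc_a_rc_6_2 lc_a_rc_3_2 lc_a_rc_1_0 lc_a_rc_3_0 lc_a_rc_0_1 lc_a_rc_2_2 lc_a_rc_5_2 lc_a_rc_2_2 lc_a_rc_4_2 lc_a_rc_3_2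 lc_a_Cert_tree lc_a_rc_2_2 lc_a_rc_2_2 lc_a_rc_4_2 lc_a_rc_5_2 lc_a_rc_0_0 lc_a_rc_4_2 lc_a_rc_9_2 lc_a_rc_3_2 lc_a_rc_2_2 lc_a_rc_1_0 lc_a_rc_4_2 lc_a_rc_0_0 lc_a_rc_9_2 lc_a_rc_1_0 lc_a_rc_9_2) (@D3.rec (fun _ => (Cert rels S Gen.a)) lc_a_rc_5_2 lc_a_rc_1_0 lc_a_rc_5_2 lc_a_rc_3_2 lc_a_rc_4_2 lc_a_rc_2_0 lc_a_rc_2_2 lc_a_rc_4_2 lc_a_rc_5_2 lc_a_rc_0_0 lc_a_rc_56_35 lc_a_rc_9_2 lc_a_rc_4_2 lc_a_rc_9_2 lc_a_rc_2_0 lc_a_rc_9_2 lc_a_rc_5_2 lc_a_rc_3_2 lc_a_rc_3_2 lc_a_rc_3_2 lc_a_rc_9_2 lc_a_rc_5_2 lc_a_rc_3_2 lc_a_rc_5_2 lc_a_rc_3_2 lc_a_rc_4_2 lc_a_rc_7_2 lc_a_rc_4_2 lc_a_rc_3_2 lc_a_rc_4_2 lc_a_rc_7_2 lc_a_rc_3_2 lc_a_rc_5_2 lc_a_rc_3_2 lc_a_rc_9_2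 lc_a_rc_9_2 lc_a_rc_2_2 lc_a_rc_4_2 lc_a_rc_2_2 lc_a_rc_0_0 lc_a_rc_4_2 lc_a_rc_3_2 lc_a_rc_2_0 lc_a_rc_2_0 lc_a_rc_9_2 lc_a_rc_2_2 lc_a_rc_2_0 lc_a_rc_3_2 lc_a_rc_2_2 lc_a_rc_3_0 lc_a_rc_5_2) (@D3.rec (fun _ => (Cert rels S Gen.a)) lc_a_Cert_tree lc_a_rc_4_2 lc_a_rc_3_0 lc_a_rc_7_0 lc_a_rc_3_0 lc_a_rc_3_0 lc_a_rc_0_0 lc_a_rc_9_2 lc_a_rc_9_2 lc_a_rc_7_2 lc_a_rc_3_2 lc_a_rc_0_0 lc_a_rc_4_2 lc_a_rc_4_2 lc_a_rc_1_4 lc_a_rc_2_2 lc_a_rc_3_2 lc_a_rc_0_0 lc_a_rc_7_2 lc_a_rc_3_0 lc_a_rc_9_2 lc_a_rc_5_2 lc_a_rc_5_2 lc_a_rc_3_2 lc_a_rc_4_2 lc_a_rc_1_0 lc_a_rc_3_2 lc_a_rc_9_2 lc_a_rc_5_2 lc_a_rc_1_0 lc_a_rc_5_2 lc_a_rc_3_2 lc_a_rc_4_2 lc_a_rc_5_2 lc_a_rc_3_2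 lc_a_rc_5_2 lc_a_rc_3_2 lc_a_rc_3_2 lc_a_rc_0_0 lc_a_rc_4_2 lc_a_rc_3_2 lc_a_rc_3_2 lc_a_rc_4_2 lc_a_rc_4_2 lc_a_rc_3_2 lc_a_rc_4_2 lc_a_rc_9_2 lc_a_rc_3_2 lc_a_rc_9_2 lc_a_rc_56_21 lc_a_rc_6_2) (@D3.rec (fun _ => (Cert rels S Gen.a)) lc_a_rc_7_2 lc_a_rc_7_2 lc_a_rc_56_28 lc_a_rc_4_2 lc_a_rc_9_2 lc_a_rc_3_2 lc_a_rc_4_2 lc_a_rc_5_2 lc_a_rc_4_2 lc_a_rc_1_2 lc_a_rc_7_2 lc_a_rc_8_2 lc_a_rc_9_2 lc_a_rc_9_2 lc_a_rc_9_2 lc_a_rc_8_2 lc_a_rc_6_0 lc_a_rc_8_2 lc_a_rc_2_2 lc_a_rc_4_2 lc_a_rc_3_2 lc_a_rc_4_2 lc_a_rc_3_2 lc_a_rc_2_2 lc_a_rc_3_2 lc_a_rc_2_2 lc_a_rc_4_2 lc_a_rc_3_2 lc_a_rc_4_2 lc_a_rc_3_2 lc_a_rc_3_2 lc_a_rc_2_2 lc_a_rc_4_2 lc_a_rc_3_2 lc_a_rc_4_2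 lc_a_rc_5_2 lc_a_rc_6_2 lc_a_rc_4_2 lc_a_rc_7_2 lc_a_rc_3_2 lc_a_rc_9_2 lc_a_rc_3_2 lc_a_rc_3_2 lc_a_rc_5_2 lc_a_rc_6_2 lc_a_rc_6_2 lc_a_rc_9_2 lc_a_rc_6_2 lc_a_rc_9_2 lc_a_rc_5_2 lc_a_rc_1_4) (@D3.rec (fun _ => (Cert rels S Gen.a)) lc_a_rc_5_2 lc_a_rc_8_2 lc_a_rc_6_2 lc_a_rc_4_2 lc_a_rc_3_2 lc_a_rc_8_2 lc_a_rc_8_2 lc_a_rc_7_2 lc_a_rc_7_2 lc_a_rc_9_2 lc_a_rc_6_2 lc_a_rc_4_2 lc_a_rc_5_2 lc_a_rc_56_21 lc_a_rc_9_2 lc_a_rc_6_2 lc_a_rc_9_2 lc_a_rc_5_2 lc_a_rc_3_2 lc_a_rc_3_2 lc_a_rc_5_2 lc_a_rc_4_2 lc_a_rc_6_2 lc_a_rc_4_2 lc_a_rc_4_2 lc_a_rc_6_2 lc_a_rc_9_2 lc_a_rc_6_2 lc_a_rc_3_2 lc_a_rc_6_2 lc_a_rc_2_2 lc_a_rc_6_2 lc_a_rc_7_2 lc_a_rc_8_2 lc_a_rc_9_2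 lc_a_rc_9_2 lc_a_rc_5_2 lc_a_rc_5_2 lc_a_rc_3_2 lc_a_rc_0_0 lc_a_rc_9_2 lc_a_rc_0_0 lc_a_rc_9_2 lc_a_rc_9_2 lc_a_rc_5_2 lc_a_rc_5_2 lc_a_rc_2_0 lc_a_rc_4_2 lc_a_rc_0_0 lc_a_rc_9_2 lc_a_rc_2_2) (@D3.rec (fun _ => (Cert rels S Gen.a)) lc_a_rc_9_2 lc_a_rc_5_2 lc_a_rc_3_2 lc_a_rc_1_0 lc_a_rc_56_35 lc_a_rc_9_0 lc_a_rc_3_0 lc_a_rc_9_0 lc_a_rc_56_49 lc_a_rc_5_0 lc_a_rc_3_2 lc_a_rc_9_0 lc_a_rc_5_2 lc_a_rc_0_0 lc_a_rc_4_2 lc_a_rc_6_2 lc_a_rc_9_0 lc_a_rc_5_0 lc_a_Cert_tree lc_a_rc_7_2 lc_a_rc_3_2 lc_a_rc_0_0 lc_a_rc_9_2 lc_a_rc_3_0 lc_a_Cert_tree lc_a_rc_6_2 lc_a_rc_2_0 lc_a_Cert_tree lc_a_rc_5_0 lc_a_rc_2_0 lc_a_rc_0_0 lc_a_rc_9_2 lc_a_rc_3_0 lc_a_rc_9_2 lc_a_rc_5_2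 lc_a_rc_2_2 lc_a_rc_0_0 lc_a_rc_9_2 lc_a_rc_2_2 lc_a_rc_0_0 lc_a_rc_9_2 lc_a_rc_2_2 lc_a_rc_9_2 lc_a_rc_5_2 lc_a_rc_3_2 lc_a_rc_5_2 lc_a_rc_56_14 lc_a_rc_4_2 lc_a_rc_1_2 lc_a_rc_1_2 lc_a_rc_9_0)
def ce_a_11 : D2 → D3 → (Cert rels S Gen.a) := @D2.rec (fun _ => D3 → (Cert rels S Gen.a)) (@D3.rec (fun _ => (Cert rels S Gen.a)) lc_a_rc_9_0 lc_a_rc_6_2 lc_a_rc_9_0 lc_a_rc_5_2 lc_a_rc_5_0 lc_a_rc_3_2 lc_a_rc_5_2 lc_a_rc_9_2 lc_a_rc_5_2 lc_a_rc_9_2 lc_a_rc_2_2 lc_a_rc_9_2 lc_a_rc_2_2 lc_a_rc_9_2 lc_a_rc_2_2 lc_a_rc_3_2 lc_a_rc_2_2 lc_a_rc_2_2 lc_a_rc_4_2 lc_a_rc_3_2 lc_a_rc_2_2 lc_a_rc_4_2 lc_a_rc_3_2 lc_a_rc_7_2 lc_a_rc_2_2 lc_a_rc_2_2 lc_a_rc_6_2 lc_a_rc_4_2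 lc_a_rc_5_2 lc_a_rc_9_2 lc_a_rc_2_2 lc_a_rc_2_2 lc_a_rc_5_2 lc_a_rc_6_2 lc_a_rc_4_2 lc_a_rc_6_2 lc_a_rc_3_2 lc_a_rc_9_2 lc_a_rc_2_2 lc_a_rc_4_2 lc_a_rc_3_2 lc_a_Cert_tree lc_a_rc_2_2 lc_a_rc_2_2 lc_a_rc_4_2 lc_a_rc_5_2 lc_a_Cert_tree lc_a_rc_2_2 lc_a_rc_5_2 lc_a_rc_0_0 lc_a_rc_9_2) (@D3.rec (fun _ => (Cert rels S Gen.a)) lc_a_rc_2_2 lc_a_rc_9_2 lc_a_rc_5_2 lc_a_rc_3_2 lc_a_rc_0_1 lc_a_rc_4_2 lc_a_rc_56_49 lc_a_rc_1_4 lc_a_rc_5_0 lc_a_rc_2_2 lc_a_rc_4_2 lc_a_rc_9_2 lc_a_rc_2_2 lc_a_rc_9_2 lc_a_rc_2_2 lc_a_rc_1_2 lc_a_rc_2_2 lc_a_rc_9_0 lc_a_rc_7_2 lc_a_rc_9_2 lc_a_rc_3_0 lc_a_rc_2_2 lc_a_rc_1_2 lc_a_rc_2_2 lc_a_rc_9_0 lc_a_rc_5_0 lc_a_rc_6_0 lc_a_rc_3_2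 lc_a_rc_2_2 lc_a_rc_2_2 lc_a_rc_4_2 lc_a_rc_3_2 lc_a_Cert_tree lc_a_rc_2_2 lc_a_rc_2_2 lc_a_rc_6_2 lc_a_rc_4_2 lc_a_rc_5_2 lc_a_Cert_tree lc_a_rc_2_2 lc_a_rc_2_2 lc_a_rc_6_2 lc_a_rc_4_2 lc_a_rc_5_2 lc_a_rc_0_0 lc_a_rc_4_2 lc_a_rc_9_2 lc_a_rc_2_2 lc_a_rc_2_2 lc_a_rc_2_2 lc_a_rc_9_0) (@D3.rec (fun _ => (Cert rels S Gen.a)) lc_a_rc_6_2 lc_a_rc_5_2 lc_a_rc_4_2 lc_a_rc_9_2 lc_a_rc_4_2 lc_a_rc_9_2 lc_a_rc_5_2 lc_a_rc_1_2 lc_a_rc_1_2 lc_a_rc_2_2 lc_a_rc_3_2 lc_a_rc_9_0 lc_a_rc_5_0 lc_a_rc_3_2 lc_a_rc_6_2 lc_a_rc_9_0 lc_a_rc_5_2 lc_a_rc_5_2 lc_a_rc_2_2 lc_a_rc_3_2 lc_a_rc_1_4 lc_a_rc_2_2 lc_a_rc_2_2 lc_a_rc_4_2 lc_a_rc_5_2 lc_a_rc_0_0 lc_a_rc_1_4 lc_a_rc_9_2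 lc_a_rc_3_2 lc_a_rc_2_2 lc_a_rc_2_2 lc_a_rc_5_2 lc_a_rc_0_0 lc_a_rc_9_2 lc_a_rc_2_2 lc_a_rc_9_2 lc_a_rc_5_2 lc_a_rc_3_2 lc_a_rc_5_2 lc_a_rc_3_2 lc_a_rc_4_2 lc_a_rc_5_2 lc_a_rc_3_2 lc_a_rc_2_2 lc_a_rc_2_2 lc_a_rc_5_2 lc_a_rc_9_2 lc_a_rc_3_2 lc_a_rc_5_2 lc_a_rc_3_2 lc_a_rc_2_2) (@D3.rec (fun _ => (Cert rels S Gen.a)) lc_a_rc_3_2 lc_a_rc_9_2 lc_a_rc_5_2 lc_a_rc_5_2 lc_a_rc_3_2 lc_a_rc_5_2 lc_a_rc_9_2 lc_a_rc_3_2 lc_a_rc_2_2 lc_a_rc_2_2 lc_a_rc_3_2 lc_a_rc_56_35 lc_a_rc_2_2 lc_a_rc_5_2 lc_a_rc_2_2 lc_a_rc_9_2 lc_a_rc_3_2 lc_a_rc_2_2 lc_a_rc_2_2 lc_a_rc_3_2 lc_a_rc_5_2 lc_a_rc_2_2 lc_a_rc_2_2 lc_a_rc_9_2 lc_a_rc_3_2 lc_a_rc_2_2 lc_a_rc_2_2 lc_a_rc_3_2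 lc_a_rc_2_2 lc_a_rc_5_2 lc_a_rc_7_2 lc_a_rc_3_2 lc_a_rc_5_2 lc_a_rc_2_2 lc_a_rc_2_2 lc_a_rc_2_2 lc_a_rc_9_2 lc_a_rc_6_2 lc_a_rc_3_2 lc_a_rc_56_21 lc_a_rc_3_2 lc_a_rc_3_2 lc_a_rc_3_2 lc_a_rc_5_2 lc_a_rc_0_0 lc_a_rc_56_28 lc_a_rc_9_2 lc_a_rc_2_2 lc_a_rc_4_2 lc_a_rc_2_2 lc_a_rc_3_2) (@D3.rec (fun _ => (Cert rels S Gen.a)) lc_a_rc_3_2 lc_a_rc_3_0 lc_a_rc_4_2 lc_a_rc_4_2 lc_a_rc_9_2 lc_a_rc_4_2 lc_a_rc_5_2 lc_a_rc_9_2 lc_a_rc_5_2 lc_a_rc_9_2 lc_a_rc_5_2 lc_a_rc_3_2 lc_a_rc_5_2 lc_a_rc_56_14 lc_a_rc_9_2 lc_a_rc_5_2 lc_a_rc_5_2 lc_a_rc_5_2 lc_a_rc_5_2 lc_a_rc_9_2 lc_a_rc_9_2 lc_a_rc_2_2 lc_a_rc_3_2 lc_a_rc_2_2 lc_a_rc_3_2 lc_a_rc_2_2 lc_a_rc_2_2 lc_a_rc_3_2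 lc_a_rc_2_2 lc_a_rc_5_2 lc_a_rc_9_2 lc_a_rc_2_2 lc_a_rc_3_2 lc_a_rc_1_2 lc_a_rc_2_2 lc_a_rc_5_2 lc_a_rc_0_0 lc_a_rc_9_2 lc_a_rc_2_2 lc_a_rc_5_2 lc_a_rc_9_2 lc_a_rc_2_2 lc_a_rc_9_2 lc_a_rc_1_2 lc_a_rc_2_2 lc_a_rc_9_2 lc_a_rc_9_2 lc_a_rc_3_2 lc_a_rc_2_2 lc_a_rc_2_2 lc_a_rc_4_2) (@D3.rec (fun _ => (Cert rels S Gen.a)) lc_a_rc_3_2 lc_a_rc_3_2 lc_a_rc_2_2 lc_a_rc_2_2 lc_a_rc_3_2 lc_a_rc_3_2 lc_a_rc_5_2 lc_a_rc_0_0 lc_a_rc_6_2 lc_a_rc_9_2 lc_a_rc_2_2 lc_a_rc_2_2 lc_a_rc_3_0 lc_a_rc_4_2 lc_a_rc_4_2 lc_a_rc_2_2 lc_a_rc_3_2 lc_a_rc_5_2 lc_a_rc_2_2 lc_a_rc_9_2 lc_a_rc_5_2 lc_a_rc_3_2 lc_a_rc_5_2 lc_a_rc_5_2 lc_a_rc_2_0 lc_a_rc_4_2 lc_a_rc_5_2 lc_a_rc_9_2 lc_a_rc_2_2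 lc_a_rc_9_2 lc_a_rc_2_0 lc_a_rc_2_2 lc_a_rc_9_2 lc_a_rc_2_2 lc_a_rc_3_2 lc_a_rc_2_2 lc_a_rc_2_2 lc_a_rc_4_2 lc_a_rc_3_2 lc_a_rc_3_2 lc_a_rc_2_2 lc_a_rc_5_2 lc_a_rc_0_0 lc_a_rc_9_2 lc_a_rc_2_2 lc_a_rc_3_2 lc_a_rc_9_2 lc_a_rc_3_2 lc_a_rc_2_2 lc_a_rc_4_2 lc_a_rc_5_2) (@D3.rec (fun _ => (Cert rels S Gen.a)) lc_a_rc_5_2 lc_a_rc_2_2 lc_a_rc_9_2 lc_a_rc_5_2 lc_a_rc_3_2 lc_a_rc_2_2 lc_a_rc_4_2 lc_a_rc_9_2 lc_a_rc_2_2 lc_a_rc_2_2 lc_a_rc_9_2 lc_a_rc_56_28 lc_a_rc_2_2 lc_a_rc_2_2 lc_a_rc_2_2 lc_a_rc_2_2 lc_a_rc_5_2 lc_a_rc_4_2 lc_a_rc_3_2 lc_a_rc_2_2 lc_a_rc_6_2 lc_a_rc_4_2 lc_a_rc_3_2 lc_a_Cert_tree lc_a_rc_2_2 lc_a_rc_2_2 lc_a_rc_3_2 lc_a_rc_4_2 lc_a_rc_5_2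 lc_a_rc_5_0 lc_a_rc_7_2 lc_a_rc_5_2 lc_a_rc_0_0 lc_a_rc_4_2 lc_a_rc_9_2 lc_a_rc_3_2 lc_a_rc_4_2 lc_a_rc_2_2 lc_a_rc_3_2 lc_a_rc_3_2 lc_a_rc_3_0 lc_a_rc_4_2 lc_a_rc_9_2 lc_a_rc_2_2 lc_a_rc_9_2 lc_a_rc_5_2 lc_a_rc_2_2 lc_a_rc_2_2 lc_a_rc_2_2 lc_a_rc_3_2 lc_a_rc_3_2) (@D3.rec (fun _ => (Cert rels S Gen.a)) lc_a_rc_3_2 lc_a_rc_3_0 lc_a_rc_4_2 lc_a_rc_4_2 lc_a_rc_4_2 lc_a_rc_7_2 lc_a_rc_3_2 lc_a_rc_4_2 lc_a_rc_8_2 lc_a_rc_2_0 lc_a_rc_5_2 lc_a_rc_0_0 lc_a_rc_3_0 lc_a_rc_9_2 lc_a_rc_2_2 lc_a_rc_3_0 lc_a_rc_2_2 lc_a_rc_5_2 lc_a_rc_6_0 lc_a_rc_1_0 lc_a_rc_9_2 lc_a_rc_5_2 lc_a_rc_3_2 lc_a_rc_5_2 lc_a_rc_3_2 lc_a_rc_4_2 lc_a_rc_5_2 lc_a_rc_0_0 lc_a_rc_2_2 lc_a_rc_9_2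 lc_a_rc_2_2 lc_a_rc_2_2 lc_a_rc_4_2 lc_a_rc_9_2 lc_a_rc_4_2 lc_a_rc_9_2 lc_a_rc_5_2 lc_a_rc_3_2 lc_a_rc_2_2 lc_a_rc_9_2 lc_a_rc_5_2 lc_a_rc_5_2 lc_a_rc_3_2 lc_a_rc_4_2 lc_a_rc_3_2 lc_a_rc_9_2 lc_a_rc_2_0 lc_a_rc_6_2 lc_a_rc_2_2 lc_a_rc_3_2 lc_a_rc_2_2) (@D3.rec (fun _ => (Cert rels S Gen.a)) lc_a_rc_4_2 lc_a_rc_3_2 lc_a_rc_3_2 lc_a_rc_5_2 lc_a_rc_9_2 lc_a_rc_3_2 lc_a_rc_4_2 lc_a_rc_7_2 lc_a_rc_2_2 lc_a_rc_3_0 lc_a_rc_4_2 lc_a_rc_2_2 lc_a_rc_3_2 lc_a_rc_2_2 lc_a_rc_2_2 lc_a_rc_2_2 lc_a_rc_2_2 lc_a_rc_2_2 lc_a_rc_3_2 lc_a_rc_2_2 lc_a_rc_2_2 lc_a_rc_4_2 lc_a_rc_3_2 lc_a_rc_9_0 lc_a_rc_4_2 lc_a_rc_2_2 lc_a_rc_4_2 lc_a_rc_4_2 lc_a_rc_5_2 lc_a_rc_9_0 lc_a_rc_4_2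 lc_a_rc_2_2 lc_a_rc_9_0 lc_a_rc_5_0 lc_a_rc_5_2 lc_a_rc_9_0 lc_a_rc_5_0 lc_a_rc_5_2 lc_a_rc_4_2 lc_a_rc_2_2 lc_a_rc_6_2 lc_a_rc_3_0 lc_a_rc_5_0 lc_a_rc_3_2 lc_a_rc_4_2 lc_a_rc_3_0 lc_a_rc_6_2 lc_a_rc_7_2 lc_a_rc_7_2 lc_a_rc_56_35 lc_a_rc_4_2) (@D3.rec (fun _ => (Cert rels S Gen.a)) lc_a_rc_3_0 lc_a_rc_4_2 lc_a_rc_0_0 lc_a_rc_1_4 lc_a_rc_9_2 lc_a_rc_3_2 lc_a_rc_4_2 lc_a_rc_0_0 lc_a_rc_9_2 lc_a_rc_9_2 lc_a_rc_3_2 lc_a_rc_9_2 lc_a_rc_3_0 lc_a_rc_5_2 lc_a_rc_9_2 lc_a_rc_5_2 lc_a_rc_5_2 lc_a_rc_9_2 lc_a_rc_1_2 lc_a_rc_2_0 lc_a_rc_3_2 lc_a_rc_9_2 lc_a_rc_5_2 lc_a_rc_9_2 lc_a_rc_4_2 lc_a_rc_9_2 lc_a_rc_9_2 lc_a_rc_9_2 lc_a_rc_3_2 lc_a_rc_2_2 lc_a_rc_2_2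 lc_a_rc_4_2 lc_a_rc_3_2 lc_a_Cert_tree lc_a_rc_2_2 lc_a_rc_2_2 lc_a_rc_4_2 lc_a_rc_5_2 lc_a_Cert_tree lc_a_rc_2_2 lc_a_rc_5_2 lc_a_rc_0_0 lc_a_rc_9_2 lc_a_rc_2_2 lc_a_rc_9_2 lc_a_rc_5_2 lc_a_rc_2_2 lc_a_rc_3_2 lc_a_rc_4_2 lc_a_rc_2_2 lc_a_rc_2_2) (@D3.rec (fun _ => (Cert rels S Gen.a)) lc_a_rc_4_2 lc_a_rc_0_0 lc_a_rc_3_0 lc_a_rc_9_2 lc_a_rc_3_2 lc_a_rc_2_2 lc_a_rc_0_0 lc_a_rc_9_2 lc_a_rc_9_2 lc_a_rc_4_2 lc_a_rc_2_2 lc_a_rc_4_2 lc_a_rc_3_2 lc_a_rc_2_0 lc_a_rc_7_2 lc_a_rc_2_2 lc_a_rc_4_2 lc_a_rc_9_2 lc_a_Cert_tree lc_a_rc_4_2 lc_a_rc_1_0 lc_a_rc_4_2 lc_a_rc_4_2 lc_a_rc_9_2 lc_a_Cert_tree lc_a_rc_4_2 lc_a_rc_1_0 lc_a_rc_5_0 lc_a_rc_9_2 lc_a_rc_0_0 lc_a_rc_4_2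 lc_a_rc_9_2 lc_a_rc_6_2 lc_a_rc_4_2 lc_a_rc_1_0 lc_a_rc_9_0 lc_a_rc_6_2 lc_a_rc_3_0 lc_a_rc_9_2 lc_a_rc_4_2 lc_a_rc_5_2 lc_a_rc_9_0 lc_a_rc_5_0 lc_a_rc_4_2 lc_a_rc_9_0 lc_a_rc_5_0 lc_a_rc_3_0 lc_a_rc_2_2 lc_a_rc_4_2 lc_a_rc_3_2 lc_a_rc_2_0) (@D3.rec (fun _ => (Cert rels S Gen.a)) lc_a_rc_2_2 lc_a_rc_2_2 lc_a_rc_4_2 lc_a_rc_4_2 lc_a_rc_5_2 lc_a_rc_0_0 lc_a_rc_4_2 lc_a_rc_9_2 lc_a_rc_3_2 lc_a_rc_4_2 lc_a_rc_2_2 lc_a_rc_2_2 lc_a_rc_4_2 lc_a_rc_4_2 lc_a_rc_5_2 lc_a_rc_0_0 lc_a_rc_4_2 lc_a_rc_9_2 lc_a_rc_3_2 lc_a_rc_7_2 lc_a_rc_2_2 lc_a_rc_3_2 lc_a_rc_6_2 lc_a_rc_3_0 lc_a_rc_4_2 lc_a_rc_9_2 lc_a_rc_6_2 lc_a_rc_9_2 lc_a_rc_5_2 lc_a_rc_0_1 lc_a_rc_0_1 lc_a_rc_7_2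 lc_a_rc_1_0 lc_a_rc_9_0 lc_a_rc_6_2 lc_a_rc_6_2 lc_a_rc_9_2 lc_a_rc_5_2 lc_a_rc_3_2 lc_a_rc_3_2 lc_a_rc_5_2 lc_a_rc_3_2 lc_a_rc_9_0 lc_a_rc_7_2 lc_a_rc_3_0 lc_a_rc_2_0 lc_a_rc_1_4 lc_a_rc_5_0 lc_a_rc_3_0 lc_a_rc_9_0 lc_a_rc_2_2) (@D3.rec (fun _ => (Cert rels S Gen.a)) lc_a_rc_5_0 lc_a_rc_2_2 lc_a_rc_4_2 lc_a_rc_3_2 lc_a_rc_2_2 lc_a_rc_5_2 lc_a_rc_9_2 lc_a_rc_2_2 lc_a_rc_5_2 lc_a_rc_3_2 lc_a_rc_2_2 lc_a_rc_9_2 lc_a_rc_2_2 lc_a_rc_5_2 lc_a_rc_3_2 lc_a_rc_1_4 lc_a_rc_4_2 lc_a_rc_4_2 lc_a_rc_3_2 lc_a_rc_7_2 lc_a_rc_5_2 lc_a_rc_2_2 lc_a_rc_3_2 lc_a_rc_5_2 lc_a_rc_1_2 lc_a_rc_3_2 lc_a_rc_4_0 lc_a_Cert_tree lc_a_rc_2_2 lc_a_rc_2_2 lc_a_rc_3_2 lc_a_rc_5_2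 lc_a_rc_5_2 lc_a_rc_7_2 lc_a_rc_5_2 lc_a_rc_7_0 lc_a_rc_3_0 lc_a_rc_8_2 lc_a_rc_0_0 lc_a_rc_7_2 lc_a_rc_9_2 lc_a_rc_3_2 lc_a_rc_4_2 lc_a_rc_0_0 lc_a_rc_9_2 lc_a_rc_9_2 lc_a_rc_4_2 lc_a_rc_9_2 lc_a_rc_4_2 lc_a_rc_2_2 lc_a_rc_1_4) (@D3.rec (fun _ => (Cert rels S Gen.a)) lc_a_rc_3_2 lc_a_rc_4_2 lc_a_rc_2_2 lc_a_rc_5_2 lc_a_rc_5_2 lc_a_rc_5_2 lc_a_rc_3_2 lc_a_rc_4_2 lc_a_rc_2_2 lc_a_rc_5_2 lc_a_rc_2_2 lc_a_rc_3_2 lc_a_rc_3_2 lc_a_rc_0_1 lc_a_rc_3_2 lc_a_rc_5_2 lc_a_rc_3_2 lc_a_rc_4_2 lc_a_rc_3_2 lc_a_rc_3_2 lc_a_rc_2_2 lc_a_rc_3_2 lc_a_rc_5_2 lc_a_rc_3_2 lc_a_rc_5_2 lc_a_rc_1_4 lc_a_rc_4_2 lc_a_rc_56_35 lc_a_rc_4_2 lc_a_rc_2_2 lc_a_rc_6_2 lc_a_rc_3_2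 lc_a_rc_6_2 lc_a_rc_6_2 lc_a_rc_9_2 lc_a_rc_5_2 lc_a_rc_9_2 lc_a_rc_5_2 lc_a_rc_2_0 lc_a_rc_2_2 lc_a_rc_2_2 lc_a_rc_3_2 lc_a_rc_3_0 lc_a_rc_2_0 lc_a_rc_3_0 lc_a_rc_5_2 lc_a_rc_1_0 lc_a_rc_2_2 lc_a_rc_5_2 lc_a_rc_2_2 lc_a_rc_5_2) (@D3.rec (fun _ => (Cert rels S Gen.a)) lc_a_rc_3_2 lc_a_rc_4_2 lc_a_rc_3_2 lc_a_rc_6_2 lc_a_rc_2_0 lc_a_rc_0_1 lc_a_rc_2_2 lc_a_rc_3_2 lc_a_rc_9_2 lc_a_rc_5_2 lc_a_rc_5_2 lc_a_rc_3_2 lc_a_rc_4_2 lc_a_rc_5_2 lc_a_rc_3_2 lc_a_rc_4_2 lc_a_rc_3_2 lc_a_rc_2_2 lc_a_rc_2_2 lc_a_rc_6_2 lc_a_rc_2_2 lc_a_rc_4_2 lc_a_rc_3_2 lc_a_rc_0_1 lc_a_rc_7_2 lc_a_rc_0_0 lc_a_rc_9_2 lc_a_rc_2_2 lc_a_rc_0_0 lc_a_rc_9_2 lc_a_rc_2_2 lc_a_rc_9_2 lc_a_rc_5_2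 lc_a_rc_3_2 lc_a_rc_5_2 lc_a_rc_3_2 lc_a_rc_4_2 lc_a_rc_4_0 lc_a_rc_9_2 lc_a_rc_1_2 lc_a_rc_3_0 lc_a_rc_5_2 lc_a_rc_5_2 lc_a_rc_3_2 lc_a_rc_3_2 lc_a_rc_3_2 lc_a_rc_5_0 lc_a_rc_4_2 lc_a_rc_5_2 lc_a_rc_4_2 lc_a_rc_6_2) (@D3.rec (fun _ => (Cert rels S Gen.a)) lc_a_rc_1_4 lc_a_rc_3_2 lc_a_rc_1_0 lc_a_rc_1_0 lc_a_rc_1_0 lc_a_rc_4_2 lc_a_rc_3_0 lc_a_rc_5_2 lc_a_rc_3_2 lc_a_rc_4_2 lc_a_rc_2_0 lc_a_rc_3_2 lc_a_rc_4_2 lc_a_rc_6_2 lc_a_rc_4_2 lc_a_rc_4_2 lc_a_rc_3_0 lc_a_rc_2_0 lc_a_rc_6_2 lc_a_rc_9_2 lc_a_rc_5_2 lc_a_rc_0_1 lc_a_rc_9_2 lc_a_rc_5_2 lc_a_rc_9_0 lc_a_rc_6_2 lc_a_rc_6_2 lc_a_rc_2_0 lc_a_rc_4_2 lc_a_rc_2_0 lc_a_rc_2_0 lc_a_rc_7_2 lc_a_rc_9_2 lc_a_rc_5_2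 lc_a_rc_4_0 lc_a_rc_9_2 lc_a_rc_5_2 lc_a_rc_5_0 lc_a_rc_8_2 lc_a_rc_3_0 lc_a_rc_2_0 lc_a_rc_2_0 lc_a_rc_2_0 lc_a_rc_9_2 lc_a_rc_5_2 lc_a_rc_6_2 lc_a_rc_9_2 lc_a_rc_6_2 lc_a_rc_3_2 lc_a_rc_2_2 lc_a_rc_3_2) (@D3.rec (fun _ => (Cert rels S Gen.a)) lc_a_rc_4_2 lc_a_rc_2_2 lc_a_rc_5_2 lc_a_rc_3_0 lc_a_rc_3_0 lc_a_rc_9_2 lc_a_rc_3_2 lc_a_rc_5_2 lc_a_rc_2_2 lc_a_rc_5_2 lc_a_rc_5_0 lc_a_rc_0_1 lc_a_rc_9_2 lc_a_rc_2_2 lc_a_rc_2_2 lc_a_rc_4_2 lc_a_rc_5_2 lc_a_rc_7_2 lc_a_rc_6_2 lc_a_rc_5_2 lc_a_rc_4_2 lc_a_rc_2_2 lc_a_rc_2_2 lc_a_rc_2_2 lc_a_rc_7_2 lc_a_rc_2_2 lc_a_rc_56_49 lc_a_rc_2_2 lc_a_rc_1_2 lc_a_rc_8_2 lc_a_rc_7_2 lc_a_rc_6_2 lc_a_rc_3_2 lc_a_rc_3_2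 lc_a_rc_2_2 lc_a_rc_3_2 lc_a_rc_3_2 lc_a_rc_3_2 lc_a_rc_3_2 lc_a_rc_8_2 lc_a_rc_7_2 lc_a_rc_3_2 lc_a_rc_2_2 lc_a_rc_5_0 lc_a_rc_5_2 lc_a_rc_3_2 lc_a_rc_0_0 lc_a_rc_9_2 lc_a_rc_2_2 lc_a_rc_0_0 lc_a_rc_9_2) (@D3.rec (fun _ => (Cert rels S Gen.a)) lc_a_rc_2_2 lc_a_rc_9_2 lc_a_rc_5_2 lc_a_rc_3_2 lc_a_rc_5_2 lc_a_rc_3_2 lc_a_rc_4_2 lc_a_rc_0_0 lc_a_rc_6_2 lc_a_rc_4_2 lc_a_rc_3_2 lc_a_rc_4_2 lc_a_rc_2_2 lc_a_rc_3_2 lc_a_rc_3_2 lc_a_rc_3_2 lc_a_rc_4_2 lc_a_rc_3_2 lc_a_rc_4_2 lc_a_rc_5_2 lc_a_rc_2_2 lc_a_rc_1_2 lc_a_rc_1_2 lc_a_rc_3_2 lc_a_rc_3_2 lc_a_rc_7_2 lc_a_rc_6_2 lc_a_rc_5_2 lc_a_rc_8_2 lc_a_rc_7_2 lc_a_rc_9_2 lc_a_rc_4_2 lc_a_rc_9_2 lc_a_rc_4_2 lc_a_rc_9_2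 lc_a_rc_1_2 lc_a_rc_3_2 lc_a_rc_5_2 lc_a_rc_1_2 lc_a_rc_9_2 lc_a_rc_5_2 lc_a_rc_2_0 lc_a_rc_7_2 lc_a_rc_6_2 lc_a_rc_6_2 lc_a_rc_1_4 lc_a_rc_5_2 lc_a_rc_5_2 lc_a_rc_2_2 lc_a_rc_5_2 lc_a_rc_3_2) (@D3.rec (fun _ => (Cert rels S Gen.a)) lc_a_rc_5_0 lc_a_rc_4_2 lc_a_rc_3_2 lc_a_rc_4_2 lc_a_rc_3_2 lc_a_rc_4_2 lc_a_rc_2_2 lc_a_rc_3_2 lc_a_rc_3_2 lc_a_Cert_tree lc_a_rc_2_2 lc_a_rc_2_2 lc_a_rc_3_2 lc_a_rc_3_2 lc_a_rc_4_2 lc_a_rc_3_2 lc_a_rc_4_2 lc_a_rc_4_2 lc_a_rc_5_2 lc_a_rc_4_2 lc_a_rc_6_2 lc_a_rc_2_2 lc_a_rc_3_2 lc_a_Cert_tree lc_a_rc_2_2 lc_a_rc_0_0 lc_a_rc_9_2 lc_a_rc_2_2 lc_a_rc_0_0 lc_a_rc_9_2 lc_a_rc_9_2 lc_a_rc_5_2 lc_a_rc_1_2 lc_a_rc_1_2 lc_a_rc_1_2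 lc_a_rc_1_2 lc_a_rc_1_2 lc_a_rc_3_2 lc_a_rc_1_2 lc_a_rc_4_2 lc_a_rc_5_2 lc_a_rc_5_2 lc_a_rc_3_2 lc_a_rc_2_2 lc_a_rc_3_2 lc_a_rc_6_2 lc_a_rc_4_2 lc_a_rc_5_2 lc_a_rc_7_2 lc_a_rc_6_2 lc_a_rc_5_2) (@D3.rec (fun _ => (Cert rels S Gen.a)) lc_a_rc_8_2 lc_a_rc_7_2 lc_a_rc_6_2 lc_a_rc_6_2 lc_a_rc_6_2 lc_a_rc_6_2 lc_a_rc_8_2 lc_a_rc_9_2 lc_a_rc_7_2 lc_a_rc_9_2 lc_a_rc_6_2 lc_a_rc_9_2 lc_a_rc_5_2 lc_a_rc_3_2 lc_a_rc_6_2 lc_a_rc_6_2 lc_a_rc_4_2 lc_a_rc_3_2 lc_a_rc_4_2 lc_a_rc_9_2 lc_a_rc_6_2 lc_a_rc_7_2 lc_a_rc_5_2 lc_a_rc_9_2 lc_a_rc_0_0 lc_a_rc_0_0 lc_a_rc_5_2 lc_a_rc_7_2 lc_a_rc_6_2 lc_a_rc_5_2 lc_a_rc_7_2 lc_a_rc_8_2 lc_a_rc_1_4 lc_a_rc_1_2 lc_a_rc_7_2 lc_a_rc_2_2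 lc_a_rc_3_2 lc_a_rc_8_2 lc_a_rc_7_2 lc_a_rc_6_2 lc_a_rc_3_2 lc_a_rc_0_0 lc_a_rc_56_49 lc_a_rc_3_0 lc_a_rc_9_0 lc_a_rc_3_0 lc_a_rc_9_0 lc_a_rc_9_2 lc_a_rc_9_0 lc_a_rc_9_0 lc_a_rc_5_0) (@D3.rec (fun _ => (Cert rels S Gen.a)) lc_a_rc_5_0 lc_a_rc_5_0 lc_a_rc_3_2 lc_a_rc_9_0 lc_a_rc_9_0 lc_a_rc_6_2 lc_a_rc_9_0 lc_a_rc_4_2 lc_a_rc_6_2 lc_a_rc_9_0 lc_a_rc_9_0 lc_a_rc_5_0 lc_a_rc_1_4 lc_a_rc_9_0 lc_a_rc_5_0 lc_a_rc_9_0 lc_a_rc_5_0 lc_a_rc_3_2 lc_a_rc_1_4 lc_a_rc_5_0 lc_a_rc_3_0 lc_a_rc_4_2 lc_a_rc_3_0 lc_a_rc_1_4 lc_a_rc_5_2 lc_a_rc_3_0 lc_a_rc_3_0 lc_a_rc_56_49 lc_a_rc_2_0 lc_a_rc_9_0 lc_a_rc_2_0 lc_a_rc_1_4 lc_a_rc_4_2 lc_a_rc_6_2 lc_a_rc_4_2 lc_a_rc_2_0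 lc_a_rc_8_2 lc_a_rc_3_2 lc_a_rc_5_0 lc_a_rc_3_0 lc_a_rc_9_2 lc_a_rc_5_2 lc_a_rc_2_2 lc_a_rc_2_2 lc_a_rc_5_2 lc_a_rc_3_2 lc_a_rc_4_0 lc_a_rc_2_2 lc_a_rc_2_2 lc_a_rc_5_2 lc_a_rc_2_2) (@D3.rec (fun _ => (Cert rels S Gen.a)) lc_a_rc_56_42 lc_a_rc_3_2 lc_a_rc_5_2 lc_a_rc_56_35 lc_a_rc_4_2 lc_a_rc_1_2 lc_a_rc_1_2 lc_a_rc_1_2 lc_a_rc_1_2 lc_a_rc_1_2 lc_a_rc_1_2 lc_a_rc_1_2 lc_a_rc_1_2 lc_a_rc_1_2 lc_a_rc_1_2 lc_a_rc_1_2 lc_a_rc_1_2 lc_a_rc_2_2 lc_a_rc_7_2 lc_a_rc_1_2 lc_a_rc_2_2 lc_a_rc_9_2 lc_a_rc_1_2 lc_a_rc_3_0 lc_a_rc_9_2 lc_a_rc_3_2 lc_a_rc_2_2 lc_a_rc_56_14 lc_a_rc_5_2 lc_a_rc_5_2 lc_a_rc_5_2 lc_a_rc_9_2 lc_a_rc_5_2 lc_a_rc_9_2 lc_a_rc_2_2 lc_a_rc_5_2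 lc_a_rc_9_2 lc_a_rc_2_2 lc_a_rc_9_2 lc_a_rc_9_2 lc_a_rc_2_2 lc_a_rc_3_2 lc_a_rc_2_2 lc_a_rc_2_2 lc_a_rc_4_2 lc_a_rc_3_2 lc_a_rc_3_2 lc_a_rc_2_2 lc_a_rc_6_2 lc_a_rc_4_2 lc_a_rc_5_2) (@D3.rec (fun _ => (Cert rels S Gen.a)) lc_a_rc_2_2 lc_a_rc_7_2 lc_a_rc_6_2 lc_a_rc_5_2 lc_a_rc_7_2 lc_a_rc_6_2 lc_a_rc_5_2 lc_a_rc_8_2 lc_a_rc_7_2 lc_a_rc_6_2 lc_a_rc_3_2 lc_a_rc_8_2 lc_a_rc_7_2 lc_a_rc_9_2 lc_a_rc_2_2 lc_a_rc_5_2 lc_a_rc_2_2 lc_a_rc_3_2 lc_a_rc_56_21 lc_a_rc_3_2 lc_a_rc_9_2 lc_a_rc_5_2 lc_a_rc_5_2 lc_a_rc_9_2 lc_a_rc_2_2 lc_a_rc_4_2 lc_a_rc_9_2 lc_a_rc_1_2 lc_a_rc_1_4 lc_a_rc_9_2 lc_a_rc_4_2 lc_a_rc_3_0 lc_a_rc_2_2 lc_a_rc_6_2 lc_a_rc_9_2 lc_a_rc_9_2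 lc_a_rc_4_2 lc_a_rc_3_0 lc_a_rc_2_2 lc_a_rc_9_0 lc_a_rc_5_0 lc_a_rc_9_2 lc_a_rc_3_2 lc_a_rc_2_2 lc_a_rc_1_0 lc_a_rc_4_2 lc_a_rc_3_2 lc_a_Cert_tree lc_a_rc_2_2 lc_a_rc_2_2 lc_a_rc_6_2) (@D3.rec (fun _ => (Cert rels S Gen.a)) lc_a_rc_4_2 lc_a_rc_5_2 lc_a_Cert_tree lc_a_rc_1_0 lc_a_rc_2_0 lc_a_rc_2_0 lc_a_rc_5_2 lc_a_rc_0_0 lc_a_rc_3_0 lc_a_rc_9_2 lc_a_rc_3_2 lc_a_rc_3_2 lc_a_rc_2_2 lc_a_rc_7_2 lc_a_rc_6_2 lc_a_rc_5_2 lc_a_rc_9_2 lc_a_rc_3_0 lc_a_rc_5_2 lc_a_rc_3_2 lc_a_rc_3_2 lc_a_rc_3_2 lc_a_rc_3_2 lc_a_rc_8_2 lc_a_rc_7_2 lc_a_rc_6_2 lc_a_rc_3_2 lc_a_rc_3_0 lc_a_rc_3_0 lc_a_rc_5_2 lc_a_rc_8_2 lc_a_rc_7_2 lc_a_rc_6_2 lc_a_rc_3_2 lc_a_rc_8_2 lc_a_rc_7_2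 lc_a_rc_3_2 lc_a_rc_3_2 lc_a_rc_8_2 lc_a_Cert_tree lc_a_rc_3_0 lc_a_rc_2_0 lc_a_rc_0_0 lc_a_rc_4_2 lc_a_rc_9_2 lc_a_rc_3_2 lc_a_rc_4_2 lc_a_rc_2_2 lc_a_rc_2_0 lc_a_rc_0_0 lc_a_rc_9_2) (@D3.rec (fun _ => (Cert rels S Gen.a)) lc_a_rc_5_2 lc_a_rc_9_2 lc_a_rc_5_2 lc_a_rc_3_2 lc_a_rc_5_2 lc_a_rc_3_2 lc_a_rc_5_0 lc_a_rc_0_0 lc_a_rc_9_2 lc_a_rc_2_2 lc_a_rc_4_2 lc_a_rc_9_2 lc_a_rc_9_2 lc_a_rc_5_2 lc_a_rc_2_2 lc_a_rc_3_2 lc_a_rc_9_2 lc_a_rc_5_2 lc_a_rc_3_2 lc_a_rc_5_2 lc_a_rc_3_2 lc_a_rc_4_2 lc_a_rc_3_2 lc_a_rc_5_2 lc_a_rc_3_2 lc_a_rc_9_2 lc_a_rc_5_2 lc_a_rc_5_2 lc_a_rc_1_0 lc_a_rc_5_2 lc_a_rc_4_2 lc_a_rc_5_2 lc_a_rc_2_0 lc_a_rc_2_2 lc_a_rc_3_2 lc_a_rc_5_2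 lc_a_rc_3_2 lc_a_rc_4_2 lc_a_rc_1_2 lc_a_rc_7_2 lc_a_rc_3_2 lc_a_rc_5_2 lc_a_rc_5_2 lc_a_rc_9_2 lc_a_rc_2_2 lc_a_rc_2_2 lc_a_rc_2_2 lc_a_rc_3_2 lc_a_rc_2_2 lc_a_rc_2_2 lc_a_rc_4_2) (@D3.rec (fun _ => (Cert rels S Gen.a)) lc_a_rc_3_2 lc_a_rc_2_2 lc_a_rc_4_2 lc_a_rc_5_2 lc_a_rc_7_2 lc_a_rc_6_2 lc_a_rc_9_2 lc_a_rc_9_2 lc_a_rc_2_2 lc_a_rc_5_2 lc_a_rc_5_2 lc_a_rc_9_2 lc_a_rc_2_2 lc_a_rc_5_2 lc_a_rc_9_2 lc_a_rc_2_2 lc_a_rc_3_2 lc_a_rc_2_2 lc_a_rc_2_2 lc_a_rc_2_2 lc_a_rc_3_2 lc_a_rc_1_4 lc_a_rc_2_2 lc_a_rc_3_2 lc_a_rc_4_2 lc_a_rc_5_2 lc_a_rc_1_0 lc_a_rc_5_2 lc_a_rc_9_2 lc_a_rc_5_2 lc_a_rc_5_2 lc_a_rc_9_2 lc_a_rc_5_2 lc_a_rc_1_4 lc_a_rc_2_2 lc_a_rc_9_2 lc_a_rc_5_2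 lc_a_rc_0_0 lc_a_rc_9_2 lc_a_rc_0_0 lc_a_rc_4_2 lc_a_rc_2_2 lc_a_rc_1_2 lc_a_rc_5_2 lc_a_rc_5_2 lc_a_rc_9_2 lc_a_rc_2_2 lc_a_rc_5_2 lc_a_rc_9_2 lc_a_rc_2_2 lc_a_rc_3_2) (@D3.rec (fun _ => (Cert rels S Gen.a)) lc_a_rc_2_2 lc_a_rc_3_2 lc_a_rc_2_2 lc_a_rc_2_2 lc_a_rc_4_2 lc_a_rc_3_2 lc_a_rc_6_2 lc_a_rc_2_2 lc_a_rc_2_2 lc_a_rc_4_2 lc_a_rc_5_2 lc_a_rc_6_2 lc_a_rc_4_2 lc_a_rc_5_2 lc_a_rc_5_2 lc_a_rc_56_28 lc_a_rc_2_2 lc_a_rc_5_2 lc_a_rc_6_2 lc_a_rc_2_2 lc_a_rc_5_2 lc_a_rc_5_2 lc_a_rc_5_2 lc_a_rc_5_2 lc_a_rc_9_2 lc_a_rc_2_2 lc_a_rc_5_2 lc_a_rc_9_2 lc_a_rc_2_2 lc_a_rc_2_2 lc_a_rc_2_2 lc_a_rc_5_2 lc_a_rc_9_2 lc_a_rc_9_2 lc_a_rc_56_21 lc_a_rc_3_2 lc_a_rc_3_2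 lc_a_rc_56_35 lc_a_rc_2_2 lc_a_rc_4_2 lc_a_rc_5_2 lc_a_rc_0_0 lc_a_rc_2_2 lc_a_rc_9_2 lc_a_rc_2_2 lc_a_rc_2_2 lc_a_rc_2_2 lc_a_rc_3_2 lc_a_rc_3_2 lc_a_rc_5_2 lc_a_rc_5_2)
def ce_a_12 : D2 → D3 → (Cert rels S Gen.a) := @D2.rec (fun _ => D3 → (Cert rels S Gen.a)) (@D3.rec (fun _ => (Cert rels S Gen.a)) lc_a_rc_5_0 lc_a_rc_4_2 lc_a_rc_5_2 lc_a_rc_3_2 lc_a_rc_2_2 lc_a_rc_9_2 lc_a_rc_5_2 lc_a_rc_3_2 lc_a_rc_5_2 lc_a_rc_1_2 lc_a_rc_3_2 lc_a_rc_5_2 lc_a_rc_3_2 lc_a_rc_5_2 lc_a_rc_6_2 lc_a_rc_9_2 lc_a_rc_5_2 lc_a_rc_0_0 lc_a_rc_2_2 lc_a_rc_56_7 lc_a_rc_7_2 lc_a_rc_6_2 lc_a_rc_1_0 lc_a_rc_5_2 lc_a_rc_2_2 lc_a_rc_1_2 lc_a_rc_6_2 lc_a_rc_2_2 lc_a_rc_6_2 lc_a_rc_6_2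 lc_a_rc_2_2 lc_a_rc_5_2 lc_a_rc_2_0 lc_a_rc_2_2 lc_a_rc_9_2 lc_a_rc_2_2 lc_a_rc_3_2 lc_a_rc_6_0 lc_a_rc_5_2 lc_a_rc_7_2 lc_a_rc_4_2 lc_a_rc_4_2 lc_a_rc_3_2 lc_a_rc_4_2 lc_a_rc_3_2 lc_a_rc_6_2 lc_a_rc_3_2 lc_a_rc_5_2 lc_a_rc_5_2 lc_a_rc_5_2 lc_a_rc_9_2) (@D3.rec (fun _ => (Cert rels S Gen.a)) lc_a_rc_2_2 lc_a_rc_5_2 lc_a_rc_9_2 lc_a_rc_2_2 lc_a_rc_2_2 lc_a_rc_3_2 lc_a_rc_2_2 lc_a_rc_3_2 lc_a_rc_2_2 lc_a_rc_2_2 lc_a_rc_4_2 lc_a_rc_3_2 lc_a_rc_56_28 lc_a_rc_2_2 lc_a_rc_4_2 lc_a_rc_5_2 lc_a_rc_6_2 lc_a_rc_4_2 lc_a_rc_5_2 lc_a_rc_5_2 lc_a_rc_7_2 lc_a_rc_9_2 lc_a_rc_2_2 lc_a_rc_3_2 lc_a_rc_2_2 lc_a_rc_5_2 lc_a_rc_3_0 lc_a_rc_2_2 lc_a_rc_3_0 lc_a_rc_5_2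 lc_a_rc_5_2 lc_a_rc_9_2 lc_a_rc_5_2 lc_a_rc_9_2 lc_a_rc_2_2 lc_a_rc_5_2 lc_a_rc_9_2 lc_a_rc_1_4 lc_a_rc_2_2 lc_a_rc_2_2 lc_a_rc_0_0 lc_a_rc_9_2 lc_a_rc_9_2 lc_a_rc_2_2 lc_a_rc_3_2 lc_a_rc_2_2 lc_a_rc_2_2 lc_a_rc_4_2 lc_a_rc_3_2 lc_a_rc_3_2 lc_a_rc_3_2) (@D3.rec (fun _ => (Cert rels S Gen.a)) lc_a_rc_2_2 lc_a_rc_6_2 lc_a_rc_4_2 lc_a_rc_5_2 lc_a_rc_0_0 lc_a_rc_2_0 lc_a_rc_9_2 lc_a_rc_5_0 lc_a_rc_3_2 lc_a_rc_2_2 lc_a_rc_5_0 lc_a_rc_3_2 lc_a_rc_5_2 lc_a_rc_5_2 lc_a_rc_4_2 lc_a_rc_6_2 lc_a_rc_5_2 lc_a_rc_6_0 lc_a_rc_5_2 lc_a_rc_3_2 lc_a_rc_2_0 lc_a_rc_9_2 lc_a_rc_4_2 lc_a_rc_6_2 lc_a_rc_6_2 lc_a_rc_2_2 lc_a_rc_2_2 lc_a_rc_3_2 lc_a_rc_5_2 lc_a_rc_5_2 lc_a_rc_1_4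 lc_a_rc_2_2 lc_a_rc_9_2 lc_a_rc_2_2 lc_a_rc_3_2 lc_a_rc_4_2 lc_a_rc_5_2 lc_a_rc_0_0 lc_a_rc_56_35 lc_a_rc_9_2 lc_a_rc_2_2 lc_a_rc_2_2 lc_a_rc_5_2 lc_a_rc_4_2 lc_a_rc_9_2 lc_a_rc_5_2 lc_a_rc_5_2 lc_a_rc_56_14 lc_a_rc_6_2 lc_a_rc_8_2 lc_a_rc_7_2) (@D3.rec (fun _ => (Cert rels S Gen.a)) lc_a_rc_9_2 lc_a_rc_9_2 lc_a_rc_0_0 lc_a_rc_1_2 lc_a_rc_1_2 lc_a_rc_4_2 lc_a_rc_4_2 lc_a_rc_2_2 lc_a_rc_1_2 lc_a_rc_2_2 lc_a_rc_2_2 lc_a_rc_1_2 lc_a_rc_4_2 lc_a_rc_5_2 lc_a_rc_5_2 lc_a_rc_5_2 lc_a_rc_9_2 lc_a_rc_5_2 lc_a_rc_9_2 lc_a_rc_2_2 lc_a_rc_5_2 lc_a_rc_9_2 lc_a_rc_0_0 lc_a_rc_2_2 lc_a_rc_2_2 lc_a_rc_9_2 lc_a_rc_9_2 lc_a_rc_2_2 lc_a_rc_3_2 lc_a_rc_2_2 lc_a_rc_2_2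 lc_a_rc_4_2 lc_a_rc_3_2 lc_a_rc_2_2 lc_a_rc_4_2 lc_a_rc_3_2 lc_a_Cert_tree lc_a_rc_2_2 lc_a_rc_2_2 lc_a_rc_6_2 lc_a_rc_4_2 lc_a_rc_5_2 lc_a_rc_0_0 lc_a_rc_1_4 lc_a_rc_9_2 lc_a_rc_2_2 lc_a_rc_2_2 lc_a_rc_5_2 lc_a_rc_6_2 lc_a_rc_4_2 lc_a_rc_5_2) (@D3.rec (fun _ => (Cert rels S Gen.a)) lc_a_rc_6_2 lc_a_rc_5_2 lc_a_rc_3_2 lc_a_rc_9_2 lc_a_rc_2_2 lc_a_rc_4_2 lc_a_rc_3_2 lc_a_rc_56_49 lc_a_rc_2_2 lc_a_rc_4_2 lc_a_rc_5_2 lc_a_rc_1_2 lc_a_rc_2_2 lc_a_rc_5_2 lc_a_rc_0_0 lc_a_rc_9_2 lc_a_rc_2_2 lc_a_rc_9_2 lc_a_rc_5_2 lc_a_rc_3_2 lc_a_rc_5_2 lc_a_rc_3_2 lc_a_rc_9_2 lc_a_rc_7_2 lc_a_rc_5_2 lc_a_rc_9_2 lc_a_rc_2_2 lc_a_rc_4_2 lc_a_rc_9_2 lc_a_rc_2_2 lc_a_rc_0_1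 lc_a_rc_9_2 lc_a_rc_2_2 lc_a_rc_2_2 lc_a_rc_2_2 lc_a_rc_6_2 lc_a_rc_9_2 lc_a_rc_9_2 lc_a_rc_2_2 lc_a_rc_2_2 lc_a_rc_2_2 lc_a_rc_5_2 lc_a_rc_6_2 lc_a_rc_9_2 lc_a_rc_3_2 lc_a_rc_2_2 lc_a_rc_2_2 lc_a_rc_4_2 lc_a_rc_3_2 lc_a_Cert_tree lc_a_rc_2_2) (@D3.rec (fun _ => (Cert rels S Gen.a)) lc_a_rc_2_2 lc_a_rc_6_2 lc_a_rc_4_2 lc_a_rc_5_2 lc_a_rc_6_0 lc_a_rc_2_2 lc_a_rc_6_2 lc_a_rc_4_2 lc_a_rc_5_2 lc_a_rc_0_0 lc_a_rc_2_2 lc_a_rc_9_2 lc_a_rc_2_2 lc_a_rc_2_2 lc_a_rc_2_2 lc_a_rc_3_2 lc_a_rc_6_2 lc_a_rc_5_2 lc_a_rc_9_2 lc_a_rc_2_2 lc_a_rc_5_2 lc_a_rc_2_2 lc_a_rc_2_2 lc_a_rc_2_2 lc_a_rc_3_2 lc_a_rc_3_2 lc_a_rc_3_2 lc_a_rc_4_2 lc_a_rc_3_2 lc_a_rc_6_2 lc_a_rc_5_2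 lc_a_rc_4_2 lc_a_rc_4_2 lc_a_rc_6_2 lc_a_rc_3_2 lc_a_rc_4_2 lc_a_rc_5_2 lc_a_rc_3_2 lc_a_rc_2_2 lc_a_rc_3_0 lc_a_rc_2_2 lc_a_rc_4_2 lc_a_rc_5_2 lc_a_rc_0_0 lc_a_rc_4_2 lc_a_rc_9_2 lc_a_rc_2_2 lc_a_rc_3_0 lc_a_rc_2_2 lc_a_rc_5_2 lc_a_rc_2_2) (@D3.rec (fun _ => (Cert rels S Gen.a)) lc_a_rc_9_2 lc_a_rc_5_2 lc_a_rc_3_2 lc_a_rc_5_2 lc_a_rc_2_2 lc_a_rc_4_2 lc_a_rc_5_2 lc_a_rc_4_2 lc_a_rc_9_2 lc_a_rc_9_2 lc_a_rc_5_2 lc_a_rc_2_2 lc_a_rc_3_2 lc_a_rc_5_2 lc_a_rc_4_2 lc_a_rc_5_2 lc_a_rc_2_2 lc_a_rc_2_2 lc_a_rc_3_2 lc_a_rc_7_2 lc_a_rc_9_2 lc_a_rc_0_0 lc_a_rc_2_2 lc_a_rc_6_2 lc_a_rc_9_0 lc_a_rc_9_0 lc_a_rc_6_2 lc_a_rc_9_0 lc_a_rc_5_2 lc_a_rc_1_4 lc_a_rc_5_0 lc_a_rc_1_4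 lc_a_rc_3_2 lc_a_rc_2_2 lc_a_rc_3_2 lc_a_rc_2_2 lc_a_rc_4_2 lc_a_rc_3_2 lc_a_rc_4_2 lc_a_rc_3_2 lc_a_rc_6_2 lc_a_rc_4_2 lc_a_rc_5_2 lc_a_rc_5_2 lc_a_rc_4_2 lc_a_rc_5_2 lc_a_rc_6_2 lc_a_rc_5_2 lc_a_rc_3_2 lc_a_rc_9_2 lc_a_rc_4_2) (@D3.rec (fun _ => (Cert rels S Gen.a)) lc_a_rc_3_2 lc_a_rc_4_2 lc_a_rc_7_2 lc_a_rc_2_2 lc_a_rc_3_0 lc_a_rc_4_2 lc_a_rc_2_2 lc_a_rc_4_2 lc_a_rc_2_2 lc_a_rc_5_2 lc_a_rc_4_2 lc_a_rc_2_2 lc_a_rc_4_2 lc_a_rc_3_2 lc_a_rc_2_2 lc_a_rc_2_2 lc_a_rc_4_2 lc_a_rc_3_2 lc_a_rc_9_0 lc_a_rc_4_2 lc_a_rc_2_2 lc_a_rc_6_2 lc_a_rc_4_2 lc_a_rc_5_2 lc_a_rc_2_2 lc_a_rc_2_2 lc_a_rc_4_2 lc_a_rc_5_2 lc_a_rc_7_2 lc_a_rc_2_2 lc_a_rc_2_2 lc_a_rc_2_2 lc_a_rc_1_2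 lc_a_rc_6_2 lc_a_rc_5_2 lc_a_rc_6_0 lc_a_rc_2_2 lc_a_rc_2_0 lc_a_rc_9_2 lc_a_rc_56_14 lc_a_rc_3_2 lc_a_rc_2_2 lc_a_rc_2_2 lc_a_rc_5_2 lc_a_rc_3_0 lc_a_rc_3_0 lc_a_rc_6_2 lc_a_rc_3_2 lc_a_rc_3_0 lc_a_rc_4_2 lc_a_rc_3_2) (@D3.rec (fun _ => (Cert rels S Gen.a)) lc_a_rc_0_1 lc_a_rc_5_2 lc_a_rc_7_2 lc_a_rc_7_2 lc_a_rc_3_0 lc_a_rc_4_2 lc_a_rc_3_0 lc_a_rc_3_2 lc_a_rc_4_2 lc_a_rc_1_2 lc_a_rc_1_2 lc_a_rc_1_2 lc_a_rc_1_2 lc_a_rc_1_2 lc_a_rc_1_2 lc_a_rc_1_2 lc_a_rc_1_2 lc_a_rc_1_2 lc_a_rc_1_2 lc_a_rc_2_2 lc_a_rc_1_2 lc_a_rc_1_2 lc_a_rc_2_2 lc_a_rc_1_2 lc_a_rc_2_2 lc_a_rc_1_2 lc_a_rc_2_2 lc_a_rc_5_2 lc_a_rc_3_2 lc_a_rc_9_2 lc_a_rc_5_2 lc_a_rc_5_2 lc_a_rc_9_2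 lc_a_rc_4_2 lc_a_rc_9_2 lc_a_rc_5_2 lc_a_rc_9_2 lc_a_rc_6_2 lc_a_rc_9_2 lc_a_rc_9_2 lc_a_rc_9_2 lc_a_rc_3_2 lc_a_rc_2_2 lc_a_rc_2_2 lc_a_rc_4_2 lc_a_rc_3_2 lc_a_rc_6_2 lc_a_rc_2_2 lc_a_rc_2_2 lc_a_rc_6_2 lc_a_rc_4_2) (@D3.rec (fun _ => (Cert rels S Gen.a)) lc_a_rc_5_2 lc_a_rc_2_2 lc_a_rc_2_2 lc_a_rc_6_2 lc_a_rc_4_2 lc_a_rc_5_2 lc_a_rc_3_2 lc_a_rc_2_2 lc_a_rc_2_2 lc_a_rc_2_2 lc_a_rc_6_2 lc_a_rc_5_2 lc_a_rc_5_2 lc_a_rc_2_2 lc_a_rc_3_2 lc_a_rc_7_2 lc_a_rc_6_2 lc_a_rc_5_2 lc_a_rc_6_2 lc_a_rc_3_2 lc_a_rc_2_2 lc_a_rc_2_2 lc_a_rc_4_2 lc_a_rc_3_2 lc_a_rc_2_2 lc_a_rc_2_2 lc_a_rc_4_2 lc_a_rc_0_0 lc_a_rc_4_2 lc_a_rc_9_2 lc_a_rc_3_2 lc_a_rc_2_2 lc_a_rc_9_2 lc_a_rc_0_0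 lc_a_rc_3_2 lc_a_rc_9_2 lc_a_rc_2_2 lc_a_rc_4_2 lc_a_rc_3_2 lc_a_rc_5_2 lc_a_rc_9_2 lc_a_rc_2_2 lc_a_rc_4_2 lc_a_rc_9_2 lc_a_rc_5_2 lc_a_rc_4_2 lc_a_rc_2_2 lc_a_rc_4_2 lc_a_rc_4_2 lc_a_rc_9_2 lc_a_rc_1_2) (@D3.rec (fun _ => (Cert rels S Gen.a)) lc_a_rc_2_2 lc_a_rc_2_2 lc_a_rc_6_2 lc_a_rc_9_2 lc_a_rc_9_2 lc_a_rc_3_2 lc_a_rc_1_2 lc_a_rc_1_2 lc_a_rc_1_0 lc_a_rc_9_0 lc_a_rc_9_2 lc_a_rc_9_2 lc_a_rc_5_2 lc_a_rc_7_2 lc_a_rc_9_2 lc_a_rc_1_2 lc_a_rc_9_0 lc_a_rc_5_0 lc_a_rc_4_2 lc_a_rc_3_2 lc_a_rc_2_2 lc_a_rc_4_2 lc_a_rc_3_2 lc_a_Cert_tree lc_a_rc_2_2 lc_a_rc_2_2 lc_a_rc_6_2 lc_a_rc_4_2 lc_a_rc_5_2 lc_a_rc_0_0 lc_a_rc_4_2 lc_a_rc_9_2 lc_a_rc_3_2 lc_a_rc_2_2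 lc_a_rc_2_2 lc_a_rc_2_2 lc_a_rc_4_2 lc_a_rc_6_2 lc_a_rc_5_2 lc_a_rc_0_0 lc_a_rc_4_2 lc_a_rc_9_2 lc_a_rc_2_2 lc_a_rc_2_2 lc_a_rc_2_2 lc_a_rc_7_2 lc_a_rc_6_2 lc_a_rc_5_2 lc_a_rc_9_2 lc_a_rc_6_2 lc_a_rc_4_2) (@D3.rec (fun _ => (Cert rels S Gen.a)) lc_a_rc_5_2 lc_a_rc_9_0 lc_a_rc_2_2 lc_a_rc_2_2 lc_a_rc_1_0 lc_a_rc_9_0 lc_a_rc_6_2 lc_a_rc_6_2 lc_a_rc_3_2 lc_a_rc_5_2 lc_a_rc_2_0 lc_a_rc_2_0 lc_a_rc_5_2 lc_a_rc_3_2 lc_a_rc_9_0 lc_a_rc_5_0 lc_a_rc_4_2 lc_a_rc_3_2 lc_a_rc_4_2 lc_a_rc_5_0 lc_a_rc_4_2 lc_a_rc_1_0 lc_a_rc_2_2 lc_a_rc_3_0 lc_a_rc_7_2 lc_a_rc_6_2 lc_a_rc_3_2 lc_a_rc_3_0 lc_a_rc_3_0 lc_a_rc_3_2 lc_a_rc_2_2 lc_a_rc_5_2 lc_a_rc_2_0 lc_a_rc_1_4 lc_a_Cert_tree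 lc_a_rc_7_2 lc_a_rc_2_2 lc_a_rc_2_2 lc_a_rc_4_2 lc_a_rc_7_2 lc_a_rc_0_0 lc_a_rc_5_2 lc_a_rc_9_2 lc_a_rc_3_2 lc_a_rc_2_2 lc_a_rc_3_0 lc_a_rc_8_2 lc_a_rc_4_2 lc_a_rc_9_2 lc_a_rc_2_2 lc_a_rc_9_2) (@D3.rec (fun _ => (Cert rels S Gen.a)) lc_a_rc_5_2 lc_a_rc_5_2 lc_a_rc_3_2 lc_a_rc_4_2 lc_a_rc_1_0 lc_a_rc_3_2 lc_a_rc_9_2 lc_a_rc_5_2 lc_a_rc_1_0 lc_a_rc_5_2 lc_a_rc_3_2 lc_a_rc_4_2 lc_a_rc_9_2 lc_a_rc_9_2 lc_a_rc_5_2 lc_a_rc_2_0 lc_a_rc_3_2 lc_a_rc_5_2 lc_a_rc_3_2 lc_a_rc_4_2 lc_a_rc_4_2 lc_a_rc_3_2 lc_a_rc_7_2 lc_a_rc_9_2 lc_a_rc_2_2 lc_a_rc_3_2 lc_a_rc_2_2 lc_a_rc_4_2 lc_a_rc_5_2 lc_a_rc_3_0 lc_a_rc_1_2 lc_a_rc_3_2 lc_a_Cert_tree lc_a_rc_1_2 lc_a_rc_2_2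 lc_a_rc_3_2 lc_a_rc_5_2 lc_a_rc_3_0 lc_a_rc_5_2 lc_a_rc_0_0 lc_a_rc_4_2 lc_a_rc_9_2 lc_a_rc_2_0 lc_a_rc_4_2 lc_a_rc_3_0 lc_a_rc_9_2 lc_a_rc_5_2 lc_a_rc_7_2 lc_a_rc_2_2 lc_a_rc_5_2 lc_a_rc_6_2) (@D3.rec (fun _ => (Cert rels S Gen.a)) lc_a_rc_9_2 lc_a_rc_4_2 lc_a_rc_3_2 lc_a_rc_4_2 lc_a_rc_2_2 lc_a_rc_5_2 lc_a_rc_3_2 lc_a_rc_4_2 lc_a_rc_6_2 lc_a_rc_7_2 lc_a_rc_3_2 lc_a_rc_3_2 lc_a_rc_4_2 lc_a_rc_5_2 lc_a_rc_5_2 lc_a_rc_9_2 lc_a_rc_9_2 lc_a_rc_1_4 lc_a_rc_56_21 lc_a_rc_9_2 lc_a_rc_56_21 lc_a_rc_9_2 lc_a_rc_5_2 lc_a_rc_3_2 lc_a_rc_5_2 lc_a_rc_5_2 lc_a_rc_8_2 lc_a_rc_8_2 lc_a_rc_2_2 lc_a_rc_4_2 lc_a_rc_3_2 lc_a_rc_3_2 lc_a_rc_3_2 lc_a_rc_2_2 lc_a_rc_3_2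 lc_a_rc_3_2 lc_a_rc_4_2 lc_a_rc_3_2 lc_a_rc_3_2 lc_a_rc_4_2 lc_a_rc_3_2 lc_a_rc_6_2 lc_a_rc_4_2 lc_a_rc_5_2 lc_a_rc_5_2 lc_a_rc_6_2 lc_a_rc_9_2 lc_a_rc_3_2 lc_a_rc_4_2 lc_a_rc_6_2 lc_a_rc_5_2) (@D3.rec (fun _ => (Cert rels S Gen.a)) lc_a_rc_0_1 lc_a_rc_0_1 lc_a_rc_5_2 lc_a_rc_5_2 lc_a_rc_1_4 lc_a_rc_6_2 lc_a_rc_56_21 lc_a_rc_9_2 lc_a_rc_6_2 lc_a_rc_4_2 lc_a_rc_6_2 lc_a_rc_6_2 lc_a_rc_4_2 lc_a_rc_5_2 lc_a_rc_5_2 lc_a_rc_9_2 lc_a_rc_2_0 lc_a_rc_7_2 lc_a_rc_9_2 lc_a_rc_6_2 lc_a_rc_9_2 lc_a_rc_5_2 lc_a_rc_3_2 lc_a_rc_6_2 lc_a_rc_5_2 lc_a_rc_9_2 lc_a_rc_5_2 lc_a_rc_7_2 lc_a_rc_9_2 lc_a_rc_5_2 lc_a_rc_3_2 lc_a_rc_3_2 lc_a_rc_3_2 lc_a_rc_3_2 lc_a_rc_4_2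 lc_a_rc_4_2 lc_a_rc_6_2 lc_a_rc_6_2 lc_a_rc_3_2 lc_a_rc_2_2 lc_a_rc_9_2 lc_a_rc_5_2 lc_a_rc_3_2 lc_a_rc_9_2 lc_a_rc_9_2 lc_a_rc_5_2 lc_a_rc_9_2 lc_a_rc_5_2 lc_a_rc_3_2 lc_a_rc_5_2 lc_a_rc_3_2) (@D3.rec (fun _ => (Cert rels S Gen.a)) lc_a_rc_4_2 lc_a_rc_3_2 lc_a_rc_5_2 lc_a_rc_56_42 lc_a_rc_4_2 lc_a_rc_4_2 lc_a_rc_6_2 lc_a_rc_5_0 lc_a_rc_3_2 lc_a_rc_4_2 lc_a_rc_6_2 lc_a_Cert_tree lc_a_rc_4_2 lc_a_rc_6_2 lc_a_rc_4_2 lc_a_rc_6_2 lc_a_Cert_tree lc_a_rc_5_0 lc_a_rc_3_2 lc_a_rc_0_0 lc_a_rc_9_2 lc_a_rc_3_0 lc_a_rc_9_2 lc_a_rc_5_2 lc_a_rc_2_2 lc_a_rc_0_0 lc_a_rc_9_2 lc_a_rc_6_2 lc_a_rc_0_0 lc_a_rc_9_2 lc_a_rc_3_0 lc_a_rc_9_2 lc_a_rc_5_2 lc_a_rc_2_2 lc_a_rc_5_2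 lc_a_rc_1_4 lc_a_rc_2_2 lc_a_rc_9_2 lc_a_rc_5_2 lc_a_rc_3_2 lc_a_rc_9_2 lc_a_rc_5_2 lc_a_rc_5_2 lc_a_rc_5_2 lc_a_rc_1_2 lc_a_rc_9_0 lc_a_rc_6_2 lc_a_rc_4_2 lc_a_rc_6_2 lc_a_rc_5_0 lc_a_rc_3_2) (@D3.rec (fun _ => (Cert rels S Gen.a)) lc_a_rc_2_2 lc_a_rc_4_2 lc_a_rc_9_2 lc_a_rc_2_2 lc_a_rc_9_2 lc_a_rc_2_2 lc_a_rc_9_2 lc_a_rc_2_2 lc_a_rc_3_2 lc_a_rc_2_2 lc_a_rc_2_2 lc_a_rc_4_2 lc_a_rc_3_2 lc_a_rc_6_2 lc_a_rc_2_2 lc_a_rc_2_2 lc_a_rc_6_2 lc_a_rc_4_2 lc_a_rc_5_2 lc_a_rc_8_2 lc_a_rc_2_2 lc_a_rc_2_2 lc_a_rc_6_2 lc_a_rc_4_2 lc_a_rc_5_2 lc_a_rc_9_2 lc_a_rc_2_2 lc_a_rc_2_2 lc_a_rc_2_2 lc_a_rc_6_2 lc_a_rc_5_2 lc_a_rc_5_2 lc_a_rc_2_2 lc_a_rc_3_2 lc_a_rc_6_2 lc_a_rc_2_2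 lc_a_rc_3_2 lc_a_rc_0_1 lc_a_rc_2_2 lc_a_rc_2_2 lc_a_rc_4_2 lc_a_rc_5_2 lc_a_rc_0_0 lc_a_rc_0_1 lc_a_rc_9_2 lc_a_rc_3_2 lc_a_rc_2_2 lc_a_rc_2_2 lc_a_rc_5_2 lc_a_rc_0_0 lc_a_rc_9_2) (@D3.rec (fun _ => (Cert rels S Gen.a)) lc_a_rc_2_2 lc_a_rc_9_2 lc_a_rc_5_2 lc_a_rc_3_2 lc_a_rc_5_2 lc_a_rc_1_4 lc_a_rc_4_2 lc_a_rc_4_0 lc_a_rc_3_2 lc_a_rc_4_0 lc_a_rc_3_2 lc_a_rc_4_2 lc_a_rc_3_2 lc_a_rc_1_4 lc_a_rc_4_0 lc_a_rc_6_2 lc_a_rc_4_2 lc_a_rc_2_2 lc_a_rc_4_2 lc_a_rc_4_2 lc_a_rc_9_2 lc_a_rc_2_2 lc_a_rc_2_2 lc_a_rc_9_2 lc_a_rc_3_0 lc_a_rc_2_2 lc_a_rc_1_2 lc_a_rc_1_2 lc_a_rc_2_2 lc_a_rc_9_0 lc_a_rc_7_0 lc_a_rc_7_2 lc_a_rc_3_0 lc_a_rc_5_2 lc_a_rc_1_2 lc_a_rc_3_2 lc_a_rc_9_0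 lc_a_rc_5_0 lc_a_rc_3_0 lc_a_rc_2_2 lc_a_rc_4_2 lc_a_rc_3_2 lc_a_rc_56_35 lc_a_rc_2_2 lc_a_rc_2_2 lc_a_rc_6_2 lc_a_rc_4_2 lc_a_rc_5_2 lc_a_rc_0_0 lc_a_rc_4_2 lc_a_rc_9_2) (@D3.rec (fun _ => (Cert rels S Gen.a)) lc_a_rc_3_2 lc_a_rc_2_2 lc_a_rc_2_2 lc_a_rc_2_2 lc_a_rc_4_2 lc_a_rc_6_2 lc_a_rc_5_2 lc_a_rc_0_0 lc_a_rc_4_2 lc_a_rc_9_2 lc_a_rc_2_2 lc_a_rc_2_2 lc_a_rc_2_2 lc_a_rc_6_2 lc_a_rc_5_2 lc_a_rc_4_2 lc_a_rc_9_2 lc_a_rc_6_2 lc_a_rc_9_2 lc_a_rc_5_2 lc_a_rc_2_2 lc_a_rc_2_2 lc_a_rc_2_2 lc_a_rc_3_2 lc_a_rc_9_0 lc_a_rc_6_2 lc_a_rc_6_2 lc_a_rc_9_2 lc_a_rc_5_2 lc_a_rc_4_2 lc_a_rc_4_2 lc_a_rc_5_2 lc_a_rc_2_2 lc_a_rc_1_2 lc_a_rc_1_2 lc_a_rc_1_2 lc_a_rc_3_2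 lc_a_rc_4_2 lc_a_rc_5_0 lc_a_rc_3_2 lc_a_rc_6_2 lc_a_rc_2_2 lc_a_rc_5_2 lc_a_rc_4_2 lc_a_rc_3_2 lc_a_rc_2_2 lc_a_rc_2_2 lc_a_rc_5_2 lc_a_rc_9_2 lc_a_rc_2_2 lc_a_rc_8_2) (@D3.rec (fun _ => (Cert rels S Gen.a)) lc_a_rc_5_2 lc_a_rc_4_0 lc_a_rc_3_2 lc_a_rc_2_2 lc_a_rc_3_2 lc_a_rc_9_2 lc_a_rc_5_2 lc_a_rc_3_2 lc_a_rc_5_2 lc_a_rc_3_2 lc_a_rc_4_2 lc_a_rc_3_2 lc_a_rc_2_2 lc_a_rc_5_2 lc_a_rc_4_2 lc_a_rc_3_2 lc_a_rc_5_2 lc_a_rc_9_2 lc_a_rc_3_2 lc_a_rc_2_2 lc_a_rc_5_2 lc_a_rc_56_28 lc_a_rc_2_2 lc_a_rc_2_2 lc_a_rc_9_2 lc_a_rc_5_2 lc_a_rc_2_2 lc_a_rc_2_2 lc_a_rc_3_0 lc_a_rc_3_2 lc_a_rc_2_2 lc_a_rc_9_2 lc_a_rc_3_2 lc_a_rc_5_2 lc_a_rc_2_2 lc_a_rc_5_2 lc_a_rc_3_2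 lc_a_rc_2_2 lc_a_rc_2_2 lc_a_rc_2_2 lc_a_rc_1_2 lc_a_rc_5_2 lc_a_rc_3_2 lc_a_rc_5_2 lc_a_rc_9_2 lc_a_rc_4_2 lc_a_rc_5_2 lc_a_rc_2_2 lc_a_rc_5_2 lc_a_rc_3_2 lc_a_rc_3_2) (@D3.rec (fun _ => (Cert rels S Gen.a)) lc_a_rc_3_0 lc_a_rc_5_2 lc_a_rc_5_2 lc_a_rc_5_2 lc_a_rc_0_1 lc_a_rc_5_2 lc_a_rc_3_2 lc_a_rc_4_2 lc_a_rc_5_2 lc_a_rc_5_2 lc_a_rc_9_2 lc_a_rc_9_2 lc_a_rc_9_2 lc_a_rc_3_2 lc_a_rc_2_2 lc_a_rc_2_2 lc_a_rc_4_2 lc_a_rc_3_2 lc_a_rc_3_2 lc_a_rc_2_2 lc_a_rc_5_2 lc_a_rc_2_2 lc_a_rc_56_28 lc_a_rc_2_2 lc_a_rc_5_2 lc_a_rc_1_2 lc_a_rc_2_2 lc_a_rc_9_2 lc_a_rc_56_56 lc_a_rc_3_2 lc_a_rc_5_2 lc_a_rc_4_2 lc_a_rc_9_2 lc_a_rc_2_2 lc_a_rc_9_2 lc_a_rc_1_2 lc_a_rc_5_2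 lc_a_rc_5_2 lc_a_rc_4_2 lc_a_rc_3_2 lc_a_rc_2_2 lc_a_rc_2_2 lc_a_rc_3_2 lc_a_rc_4_2 lc_a_rc_5_2 lc_a_rc_5_2 lc_a_rc_6_2 lc_a_rc_2_2 lc_a_rc_2_2 lc_a_rc_3_2 lc_a_rc_3_0) (@D3.rec (fun _ => (Cert rels S Gen.a)) lc_a_rc_9_2 lc_a_rc_0_1 lc_a_rc_5_2 lc_a_rc_5_2 lc_a_rc_3_2 lc_a_rc_2_2 lc_a_rc_4_2 lc_a_rc_2_2 lc_a_rc_3_0 lc_a_rc_3_2 lc_a_rc_5_2 lc_a_rc_9_2 lc_a_rc_4_2 lc_a_rc_2_2 lc_a_rc_4_2 lc_a_rc_9_2 lc_a_rc_2_2 lc_a_rc_9_2 lc_a_rc_2_0 lc_a_rc_2_2 lc_a_rc_3_2 lc_a_rc_2_2 lc_a_rc_4_2 lc_a_rc_3_2 lc_a_rc_2_2 lc_a_rc_2_2 lc_a_rc_4_2 lc_a_rc_5_2 lc_a_rc_5_2 lc_a_rc_2_2 lc_a_rc_9_2 lc_a_rc_5_2 lc_a_rc_3_2 lc_a_rc_3_2 lc_a_rc_5_2 lc_a_rc_2_2 lc_a_rc_5_2 lc_a_rc_3_2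 lc_a_rc_5_2 lc_a_rc_9_2 lc_a_rc_4_2 lc_a_rc_6_2 lc_a_rc_4_2 lc_a_rc_2_2 lc_a_rc_4_2 lc_a_rc_9_2 lc_a_rc_2_2 lc_a_rc_2_2 lc_a_rc_9_2 lc_a_rc_5_2 lc_a_rc_2_2) (@D3.rec (fun _ => (Cert rels S Gen.a)) lc_a_rc_3_2 lc_a_rc_7_2 lc_a_rc_4_2 lc_a_rc_3_2 lc_a_rc_6_2 lc_a_rc_0_1 lc_a_rc_8_2 lc_a_rc_4_2 lc_a_rc_5_2 lc_a_rc_0_0 lc_a_rc_4_2 lc_a_rc_9_2 lc_a_rc_4_2 lc_a_rc_4_2 lc_a_rc_2_2 lc_a_rc_2_2 lc_a_rc_3_2 lc_a_rc_3_2 lc_a_rc_5_2 lc_a_rc_7_2 lc_a_rc_2_2 lc_a_rc_9_2 lc_a_rc_3_2 lc_a_rc_4_2 lc_a_rc_5_2 lc_a_rc_2_2 lc_a_rc_6_2 lc_a_rc_5_2 lc_a_rc_3_2 lc_a_rc_3_2 lc_a_rc_3_2 lc_a_rc_3_0 lc_a_rc_9_2 lc_a_rc_5_2 lc_a_rc_2_2 lc_a_rc_5_2 lc_a_rc_3_2 lc_a_rc_2_2 lc_a_rc_2_2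 lc_a_rc_3_2 lc_a_rc_4_2 lc_a_rc_3_2 lc_a_rc_3_0 lc_a_rc_4_2 lc_a_rc_9_2 lc_a_rc_5_2 lc_a_rc_4_2 lc_a_rc_1_0 lc_a_rc_9_2 lc_a_rc_2_0 lc_a_rc_3_0) (@D3.rec (fun _ => (Cert rels S Gen.a)) lc_a_rc_5_2 lc_a_rc_1_0 lc_a_rc_2_2 lc_a_rc_5_2 lc_a_rc_3_2 lc_a_rc_6_0 lc_a_rc_3_2 lc_a_rc_5_2 lc_a_rc_3_2 lc_a_rc_4_2 lc_a_rc_3_2 lc_a_rc_3_2 lc_a_rc_1_4 lc_a_rc_3_2 lc_a_rc_9_2 lc_a_rc_2_2 lc_a_rc_5_2 lc_a_rc_9_2 lc_a_rc_5_2 lc_a_rc_4_2 lc_a_rc_5_2 lc_a_rc_5_2 lc_a_rc_3_2 lc_a_rc_7_2 lc_a_rc_2_0 lc_a_rc_3_2 lc_a_rc_2_2 lc_a_rc_4_2 lc_a_rc_3_2 lc_a_rc_4_2 lc_a_rc_5_2 lc_a_rc_5_2 lc_a_rc_3_2 lc_a_rc_3_2 lc_a_rc_5_2 lc_a_rc_7_2 lc_a_rc_4_2 lc_a_rc_2_2 lc_a_rc_4_2 lc_a_rc_4_2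 lc_a_rc_2_2 lc_a_rc_3_2 lc_a_rc_2_2 lc_a_rc_2_2 lc_a_rc_2_2 lc_a_rc_5_2 lc_a_rc_4_2 lc_a_rc_3_2 lc_a_rc_3_2 lc_a_rc_4_2 lc_a_rc_2_2) (@D3.rec (fun _ => (Cert rels S Gen.a)) lc_a_rc_4_2 lc_a_rc_4_2 lc_a_rc_5_2 lc_a_rc_4_2 lc_a_rc_6_2 lc_a_rc_3_2 lc_a_rc_5_2 lc_a_rc_4_2 lc_a_rc_2_2 lc_a_rc_4_2 lc_a_rc_5_2 lc_a_rc_9_0 lc_a_rc_5_0 lc_a_rc_6_2 lc_a_rc_4_2 lc_a_rc_2_2 lc_a_rc_56_42 lc_a_rc_6_2 lc_a_rc_3_0 lc_a_rc_9_0 lc_a_rc_5_0 lc_a_rc_3_2 lc_a_rc_6_2 lc_a_rc_4_2 lc_a_rc_6_2 lc_a_rc_4_2 lc_a_rc_4_0 lc_a_rc_4_2 lc_a_rc_7_2 lc_a_rc_4_2 lc_a_rc_3_2 lc_a_rc_4_2 lc_a_rc_9_2 lc_a_rc_3_2 lc_a_rc_7_2 lc_a_rc_3_2 lc_a_rc_9_2 lc_a_rc_5_2 lc_a_rc_5_2 lc_a_rc_2_2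 lc_a_rc_4_2 lc_a_rc_3_2 lc_a_rc_4_2 lc_a_rc_9_2 lc_a_rc_4_2 lc_a_rc_9_2 lc_a_rc_9_2 lc_a_rc_2_2 lc_a_rc_4_2 lc_a_rc_3_2 lc_a_rc_3_2) (@D3.rec (fun _ => (Cert rels S Gen.a)) lc_a_rc_2_2 lc_a_rc_2_2 lc_a_rc_4_2 lc_a_rc_5_2 lc_a_rc_0_0 lc_a_rc_4_2 lc_a_rc_9_2 lc_a_rc_3_2 lc_a_rc_2_2 lc_a_rc_2_2 lc_a_rc_5_2 lc_a_rc_0_0 lc_a_rc_9_2 lc_a_rc_2_2 lc_a_rc_9_2 lc_a_rc_5_2 lc_a_rc_5_2 lc_a_rc_2_2 lc_a_rc_4_2 lc_a_rc_2_2 lc_a_rc_9_2 lc_a_rc_2_0 lc_a_rc_3_0 lc_a_rc_5_2 lc_a_rc_3_2 lc_a_rc_9_2 lc_a_Cert_tree lc_a_rc_2_2 lc_a_rc_2_2 lc_a_rc_4_2 lc_a_rc_5_2 lc_a_rc_5_2 lc_a_rc_2_0 lc_a_rc_4_0 lc_a_rc_3_2 lc_a_rc_4_2 lc_a_rc_2_2 lc_a_rc_4_2 lc_a_rc_9_2 lc_a_rc_0_0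 lc_a_rc_4_2 lc_a_rc_9_2 lc_a_rc_3_2 lc_a_rc_6_2 lc_a_rc_4_2 lc_a_rc_1_0 lc_a_rc_4_2 lc_a_rc_4_2 lc_a_rc_4_2 lc_a_rc_0_0 lc_a_rc_4_2) (@D3.rec (fun _ => (Cert rels S Gen.a)) lc_a_rc_9_2 lc_a_rc_4_2 lc_a_rc_1_0 lc_a_rc_3_0 lc_a_rc_9_2 lc_a_rc_5_2 lc_a_rc_4_2 lc_a_rc_5_2 lc_a_rc_9_0 lc_a_rc_6_2 lc_a_rc_4_2 lc_a_rc_9_0 lc_a_rc_6_2 lc_a_rc_6_2 lc_a_rc_5_2 lc_a_rc_5_2 lc_a_rc_9_0 lc_a_rc_5_0 lc_a_rc_3_0 lc_a_rc_4_2 lc_a_rc_5_0 lc_a_rc_3_0 lc_a_rc_2_2 lc_a_rc_2_2 lc_a_rc_6_2 lc_a_rc_4_2 lc_a_rc_5_2 lc_a_rc_2_0 lc_a_rc_3_2 lc_a_rc_4_2 lc_a_rc_3_2 lc_a_rc_2_2 lc_a_rc_2_2 lc_a_rc_4_2 lc_a_rc_4_2 lc_a_rc_5_2 lc_a_rc_4_2 lc_a_rc_9_2 lc_a_rc_4_2 lc_a_rc_6_2 lc_a_rc_9_2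 lc_a_rc_5_2 lc_a_rc_4_2 lc_a_rc_5_2 lc_a_rc_3_2 lc_a_rc_4_2 lc_a_rc_4_2 lc_a_rc_2_2 lc_a_rc_1_0 lc_a_rc_4_2 lc_a_rc_4_2)
def ce_a_13 : D2 → D3 → (Cert rels S Gen.a) := @D2.rec (fun _ => D3 → (Cert rels S Gen.a)) (@D3.rec (fun _ => (Cert rels S Gen.a)) lc_a_rc_4_2 lc_a_rc_3_2 lc_a_rc_4_2 lc_a_rc_9_2 lc_a_rc_6_2 lc_a_rc_9_2 lc_a_rc_5_2 lc_a_rc_2_2 lc_a_rc_3_0 lc_a_rc_3_2 lc_a_rc_9_0 lc_a_rc_3_2 lc_a_rc_6_2 lc_a_rc_6_2 lc_a_rc_9_2 lc_a_rc_5_2 lc_a_rc_5_0 lc_a_rc_9_2 lc_a_rc_5_2 lc_a_rc_3_2 lc_a_rc_9_0 lc_a_rc_6_2 lc_a_rc_6_2 lc_a_rc_2_0 lc_a_rc_1_4 lc_a_rc_6_2 lc_a_rc_6_2 lc_a_rc_5_2 lc_a_rc_1_4 lc_a_rc_3_2 lc_a_rc_5_2 lc_a_rc_3_2 lc_a_rc_8_2 lc_a_rc_3_0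 lc_a_rc_2_0 lc_a_rc_1_4 lc_a_rc_3_0 lc_a_rc_6_2 lc_a_rc_3_2 lc_a_rc_5_0 lc_a_rc_9_2 lc_a_rc_5_2 lc_a_rc_4_2 lc_a_rc_2_2 lc_a_rc_1_4 lc_a_rc_3_2 lc_a_rc_2_2 lc_a_rc_5_2 lc_a_rc_9_2 lc_a_rc_56_35 lc_a_rc_4_2) (@D3.rec (fun _ => (Cert rels S Gen.a)) lc_a_rc_4_0 lc_a_rc_2_0 lc_a_rc_4_0 lc_a_rc_0_0 lc_a_rc_7_2 lc_a_rc_9_2 lc_a_rc_2_2 lc_a_rc_2_2 lc_a_rc_2_2 lc_a_rc_3_2 lc_a_rc_5_2 lc_a_rc_5_2 lc_a_rc_3_2 lc_a_rc_5_2 lc_a_rc_9_2 lc_a_rc_3_2 lc_a_rc_7_2 lc_a_rc_4_0 lc_a_rc_3_2 lc_a_rc_9_2 lc_a_rc_4_2 lc_a_rc_4_2 lc_a_rc_2_2 lc_a_rc_4_2 lc_a_rc_56_56 lc_a_rc_3_2 lc_a_rc_8_2 lc_a_rc_2_0 lc_a_rc_6_2 lc_a_rc_3_2 lc_a_rc_2_2 lc_a_rc_3_2 lc_a_rc_3_2 lc_a_rc_2_2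 lc_a_rc_2_2 lc_a_rc_4_2 lc_a_rc_6_2 lc_a_rc_2_2 lc_a_rc_9_2 lc_a_rc_5_2 lc_a_rc_3_2 lc_a_rc_2_2 lc_a_rc_2_0 lc_a_rc_5_2 lc_a_rc_1_0 lc_a_rc_5_2 lc_a_rc_3_2 lc_a_rc_3_2 lc_a_rc_7_2 lc_a_rc_2_0 lc_a_rc_6_2) (@D3.rec (fun _ => (Cert rels S Gen.a)) lc_a_rc_7_2 lc_a_rc_3_2 lc_a_rc_5_2 lc_a_rc_3_2 lc_a_rc_2_2 lc_a_rc_4_2 lc_a_rc_3_2 lc_a_rc_2_2 lc_a_rc_2_2 lc_a_rc_6_2 lc_a_rc_7_2 lc_a_rc_9_2 lc_a_rc_5_2 lc_a_rc_3_2 lc_a_rc_9_2 lc_a_rc_1_4 lc_a_rc_3_2 lc_a_rc_5_2 lc_a_rc_3_2 lc_a_rc_4_2 lc_a_rc_1_2 lc_a_rc_9_2 lc_a_rc_5_2 lc_a_rc_3_0 lc_a_rc_1_2 lc_a_rc_6_2 lc_a_rc_6_2 lc_a_rc_4_2 lc_a_rc_1_4 lc_a_rc_1_4 lc_a_rc_3_2 lc_a_rc_1_0 lc_a_rc_1_0 lc_a_rc_1_0 lc_a_rc_5_2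 lc_a_rc_4_2 lc_a_rc_5_2 lc_a_rc_3_2 lc_a_rc_4_2 lc_a_rc_4_2 lc_a_rc_3_2 lc_a_rc_2_2 lc_a_rc_6_2 lc_a_rc_1_4 lc_a_rc_5_2 lc_a_rc_2_0 lc_a_rc_9_2 lc_a_rc_5_2 lc_a_rc_4_0 lc_a_rc_5_2 lc_a_rc_5_0) (@D3.rec (fun _ => (Cert rels S Gen.a)) lc_a_rc_8_2 lc_a_rc_6_2 lc_a_rc_6_2 lc_a_rc_2_0 lc_a_rc_6_2 lc_a_rc_9_2 lc_a_rc_5_2 lc_a_rc_9_2 lc_a_rc_5_2 lc_a_rc_6_2 lc_a_rc_2_2 lc_a_rc_2_0 lc_a_rc_9_2 lc_a_rc_5_2 lc_a_rc_2_2 lc_a_rc_5_2 lc_a_rc_9_2 lc_a_rc_2_2 lc_a_rc_3_0 lc_a_rc_5_2 lc_a_rc_2_2 lc_a_rc_2_2 lc_a_rc_56_56 lc_a_rc_3_2 lc_a_rc_2_2 lc_a_rc_5_2 lc_a_rc_56_49 lc_a_rc_7_2 lc_a_rc_4_2 lc_a_rc_2_2 lc_a_rc_2_2 lc_a_rc_7_2 lc_a_rc_3_2 lc_a_rc_8_2 lc_a_rc_7_2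 lc_a_rc_3_2 lc_a_rc_0_0 lc_a_rc_3_2 lc_a_rc_3_2 lc_a_rc_3_2 lc_a_rc_3_2 lc_a_rc_8_2 lc_a_rc_7_2 lc_a_rc_6_2 lc_a_rc_3_2 lc_a_rc_3_2 lc_a_rc_9_2 lc_a_rc_5_2 lc_a_rc_9_2 lc_a_rc_5_2 lc_a_rc_3_2) (@D3.rec (fun _ => (Cert rels S Gen.a)) lc_a_rc_5_2 lc_a_rc_3_2 lc_a_rc_5_0 lc_a_rc_5_2 lc_a_rc_9_2 lc_a_rc_3_2 lc_a_rc_3_2 lc_a_rc_2_2 lc_a_rc_2_2 lc_a_rc_3_2 lc_a_rc_3_2 lc_a_rc_4_2 lc_a_rc_5_2 lc_a_rc_1_2 lc_a_rc_5_2 lc_a_rc_7_2 lc_a_rc_6_2 lc_a_rc_9_2 lc_a_rc_9_2 lc_a_rc_5_2 lc_a_rc_5_2 lc_a_rc_5_2 lc_a_rc_1_2 lc_a_rc_3_2 lc_a_rc_5_2 lc_a_rc_1_2 lc_a_rc_5_2 lc_a_rc_56_35 lc_a_rc_5_2 lc_a_rc_1_4 lc_a_rc_5_2 lc_a_rc_3_2 lc_a_rc_2_2 lc_a_rc_0_0 lc_a_rc_6_2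 lc_a_rc_3_2 lc_a_rc_3_2 lc_a_rc_4_2 lc_a_rc_2_2 lc_a_rc_3_2 lc_a_rc_3_2 lc_a_rc_3_2 lc_a_rc_3_2 lc_a_Cert_tree lc_a_rc_2_2 lc_a_rc_2_2 lc_a_rc_3_2 lc_a_rc_3_2 lc_a_rc_3_2 lc_a_rc_0_0 lc_a_rc_1_4) (@D3.rec (fun _ => (Cert rels S Gen.a)) lc_a_rc_9_2 lc_a_rc_2_2 lc_a_rc_2_2 lc_a_rc_4_2 lc_a_rc_4_2 lc_a_rc_4_2 lc_a_rc_4_2 lc_a_rc_5_2 lc_a_rc_3_2 lc_a_rc_2_2 lc_a_rc_0_0 lc_a_rc_9_2 lc_a_rc_9_2 lc_a_rc_5_2 lc_a_rc_9_2 lc_a_rc_5_2 lc_a_rc_1_2 lc_a_rc_1_2 lc_a_rc_1_2 lc_a_rc_3_2 lc_a_rc_1_2 lc_a_rc_5_2 lc_a_rc_4_2 lc_a_rc_3_2 lc_a_rc_5_2 lc_a_rc_7_2 lc_a_rc_6_2 lc_a_rc_5_2 lc_a_rc_7_2 lc_a_rc_3_2 lc_a_rc_8_2 lc_a_rc_7_2 lc_a_rc_6_2 lc_a_rc_6_2 lc_a_rc_4_2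 lc_a_rc_6_2 lc_a_rc_9_2 lc_a_rc_6_2 lc_a_rc_9_2 lc_a_rc_5_2 lc_a_rc_7_2 lc_a_rc_9_2 lc_a_rc_5_2 lc_a_rc_4_2 lc_a_rc_6_2 lc_a_rc_4_2 lc_a_rc_6_2 lc_a_rc_56_28 lc_a_rc_4_2 lc_a_rc_5_2 lc_a_rc_5_2) (@D3.rec (fun _ => (Cert rels S Gen.a)) lc_a_rc_5_2 lc_a_rc_7_2 lc_a_rc_8_2 lc_a_rc_2_2 lc_a_rc_5_2 lc_a_rc_7_2 lc_a_rc_9_2 lc_a_rc_5_2 lc_a_rc_3_2 lc_a_rc_7_2 lc_a_rc_6_2 lc_a_rc_3_2 lc_a_rc_6_2 lc_a_rc_9_2 lc_a_rc_1_4 lc_a_rc_3_2 lc_a_rc_1_2 lc_a_rc_9_0 lc_a_rc_9_0 lc_a_rc_2_2 lc_a_rc_5_2 lc_a_rc_3_2 lc_a_rc_4_2 lc_a_rc_56_21 lc_a_rc_9_0 lc_a_rc_3_0 lc_a_rc_0_0 lc_a_rc_4_2 lc_a_rc_6_2 lc_a_rc_9_0 lc_a_rc_9_0 lc_a_rc_5_0 lc_a_rc_7_2 lc_a_rc_9_0 lc_a_rc_5_0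 lc_a_rc_3_2 lc_a_rc_3_0 lc_a_rc_4_2 lc_a_rc_9_0 lc_a_rc_5_2 lc_a_rc_0_0 lc_a_rc_4_2 lc_a_rc_6_2 lc_a_rc_1_4 lc_a_rc_4_2 lc_a_rc_0_0 lc_a_rc_4_2 lc_a_rc_4_2 lc_a_rc_6_2 lc_a_rc_9_0 lc_a_rc_8_2) (@D3.rec (fun _ => (Cert rels S Gen.a)) lc_a_rc_9_0 lc_a_rc_5_0 lc_a_rc_3_2 lc_a_rc_1_4 lc_a_rc_0_0 lc_a_rc_7_2 lc_a_rc_7_2 lc_a_rc_6_2 lc_a_rc_4_2 lc_a_rc_1_4 lc_a_rc_4_2 lc_a_rc_2_2 lc_a_rc_1_4 lc_a_rc_3_0 lc_a_rc_3_0 lc_a_rc_5_2 lc_a_rc_3_0 lc_a_rc_2_0 lc_a_rc_1_0 lc_a_rc_8_2 lc_a_rc_3_2 lc_a_rc_4_2 lc_a_rc_4_0 lc_a_rc_3_2 lc_a_rc_4_2 lc_a_rc_6_2 lc_a_rc_4_2 lc_a_rc_2_2 lc_a_rc_2_2 lc_a_rc_2_2 lc_a_rc_5_2 lc_a_rc_56_14 lc_a_rc_2_2 lc_a_rc_2_2 lc_a_rc_2_0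 lc_a_rc_4_0 lc_a_rc_2_2 lc_a_rc_3_2 lc_a_rc_3_2 lc_a_rc_7_2 lc_a_rc_4_2 lc_a_rc_1_2 lc_a_rc_1_2 lc_a_rc_1_2 lc_a_rc_1_2 lc_a_rc_1_2 lc_a_rc_1_2 lc_a_rc_1_2 lc_a_rc_1_2 lc_a_rc_1_2 lc_a_rc_1_2) (@D3.rec (fun _ => (Cert rels S Gen.a)) lc_a_rc_2_2 lc_a_rc_1_2 lc_a_rc_1_2 lc_a_rc_2_2 lc_a_rc_1_2 lc_a_rc_2_2 lc_a_rc_1_2 lc_a_rc_9_2 lc_a_rc_1_2 lc_a_rc_2_2 lc_a_rc_0_0 lc_a_rc_3_0 lc_a_rc_4_2 lc_a_rc_1_2 lc_a_rc_3_2 lc_a_rc_9_2 lc_a_rc_5_2 lc_a_rc_9_2 lc_a_rc_2_2 lc_a_rc_4_2 lc_a_rc_9_2 lc_a_rc_9_2 lc_a_rc_2_2 lc_a_rc_6_2 lc_a_rc_9_2 lc_a_rc_9_2 lc_a_rc_2_2 lc_a_rc_9_2 lc_a_rc_3_2 lc_a_rc_2_2 lc_a_rc_4_2 lc_a_rc_3_2 lc_a_rc_2_2 lc_a_rc_2_2 lc_a_rc_6_2 lc_a_rc_4_2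 lc_a_rc_5_2 lc_a_rc_5_2 lc_a_rc_2_2 lc_a_rc_7_2 lc_a_rc_6_2 lc_a_rc_5_2 lc_a_rc_3_2 lc_a_rc_8_2 lc_a_rc_7_2 lc_a_rc_6_2 lc_a_rc_3_2 lc_a_rc_8_2 lc_a_rc_7_2 lc_a_rc_6_2 lc_a_rc_3_2) (@D3.rec (fun _ => (Cert rels S Gen.a)) lc_a_rc_8_2 lc_a_rc_7_2 lc_a_rc_3_2 lc_a_rc_8_2 lc_a_rc_2_2 lc_a_rc_3_2 lc_a_rc_3_2 lc_a_rc_8_2 lc_a_rc_4_0 lc_a_rc_4_2 lc_a_rc_3_2 lc_a_rc_4_0 lc_a_rc_7_2 lc_a_rc_1_2 lc_a_rc_4_2 lc_a_rc_9_2 lc_a_rc_6_2 lc_a_rc_4_2 lc_a_rc_2_2 lc_a_rc_4_2 lc_a_rc_4_2 lc_a_rc_9_2 lc_a_rc_4_2 lc_a_rc_1_2 lc_a_rc_1_4 lc_a_rc_1_4 lc_a_rc_9_2 lc_a_rc_4_2 lc_a_rc_6_2 lc_a_rc_3_0 lc_a_rc_2_2 lc_a_rc_9_0 lc_a_rc_9_2 lc_a_rc_9_2 lc_a_rc_5_2 lc_a_rc_5_2 lc_a_rc_3_2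 lc_a_rc_9_0 lc_a_rc_5_0 lc_a_rc_4_2 lc_a_rc_3_2 lc_a_rc_4_2 lc_a_rc_3_2 lc_a_Cert_tree lc_a_rc_4_2 lc_a_rc_1_0 lc_a_rc_4_2 lc_a_rc_4_2 lc_a_rc_5_2 lc_a_rc_0_0 lc_a_rc_4_2) (@D3.rec (fun _ => (Cert rels S Gen.a)) lc_a_rc_9_2 lc_a_rc_2_2 lc_a_rc_4_2 lc_a_rc_2_2 lc_a_rc_2_2 lc_a_rc_7_2 lc_a_rc_6_2 lc_a_rc_5_2 lc_a_rc_0_0 lc_a_rc_9_2 lc_a_rc_5_2 lc_a_rc_2_0 lc_a_rc_2_0 lc_a_rc_5_2 lc_a_rc_9_2 lc_a_rc_5_0 lc_a_rc_3_0 lc_a_rc_5_2 lc_a_rc_6_2 lc_a_rc_3_2 lc_a_rc_3_2 lc_a_rc_3_2 lc_a_rc_8_2 lc_a_rc_7_2 lc_a_rc_6_2 lc_a_rc_3_2 lc_a_rc_5_2 lc_a_rc_5_2 lc_a_rc_3_2 lc_a_rc_3_2 lc_a_rc_3_2 lc_a_rc_3_2 lc_a_rc_3_2 lc_a_rc_8_2 lc_a_rc_7_2 lc_a_rc_3_2 lc_a_rc_2_2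 lc_a_rc_3_0 lc_a_rc_3_0 lc_a_rc_5_2 lc_a_rc_3_2 lc_a_rc_8_2 lc_a_rc_7_2 lc_a_rc_3_2 lc_a_rc_3_2 lc_a_rc_8_2 lc_a_rc_3_2 lc_a_rc_3_2 lc_a_rc_1_2 lc_a_rc_0_0 lc_a_rc_9_2) (@D3.rec (fun _ => (Cert rels S Gen.a)) lc_a_rc_5_2 lc_a_rc_4_2 lc_a_rc_9_2 lc_a_rc_3_2 lc_a_rc_9_2 lc_a_rc_5_2 lc_a_rc_4_0 lc_a_rc_3_2 lc_a_rc_5_2 lc_a_rc_3_2 lc_a_rc_9_2 lc_a_rc_5_2 lc_a_rc_3_2 lc_a_rc_5_2 lc_a_rc_3_2 lc_a_rc_5_0 lc_a_rc_1_2 lc_a_rc_6_2 lc_a_rc_9_2 lc_a_rc_5_2 lc_a_rc_3_2 lc_a_rc_9_2 lc_a_rc_5_2 lc_a_rc_5_2 lc_a_rc_3_2 lc_a_rc_5_2 lc_a_rc_3_2 lc_a_rc_4_2 lc_a_rc_5_2 lc_a_rc_5_2 lc_a_rc_5_2 lc_a_rc_3_2 lc_a_rc_5_2 lc_a_rc_8_2 lc_a_rc_5_2 lc_a_rc_5_2 lc_a_rc_6_2 lc_a_rc_3_2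 lc_a_rc_5_2 lc_a_rc_9_2 lc_a_rc_2_2 lc_a_rc_5_2 lc_a_rc_9_2 lc_a_rc_2_2 lc_a_rc_3_2 lc_a_rc_2_2 lc_a_rc_2_2 lc_a_rc_3_2 lc_a_rc_2_2 lc_a_rc_4_2 lc_a_rc_5_2) (@D3.rec (fun _ => (Cert rels S Gen.a)) lc_a_rc_5_2 lc_a_rc_2_2 lc_a_rc_9_2 lc_a_rc_56_28 lc_a_rc_2_2 lc_a_rc_0_0 lc_a_rc_9_2 lc_a_rc_9_2 lc_a_rc_3_2 lc_a_rc_3_2 lc_a_rc_5_2 lc_a_rc_3_2 lc_a_rc_2_2 lc_a_rc_3_2 lc_a_rc_5_2 lc_a_rc_5_2 lc_a_rc_3_2 lc_a_rc_2_2 lc_a_rc_3_2 lc_a_rc_5_2 lc_a_rc_9_2 lc_a_rc_4_2 lc_a_rc_5_2 lc_a_rc_2_2 lc_a_rc_1_2 lc_a_rc_5_2 lc_a_rc_9_2 lc_a_rc_2_2 lc_a_rc_9_2 lc_a_rc_56_42 lc_a_rc_2_2 lc_a_rc_2_2 lc_a_rc_9_2 lc_a_rc_9_2 lc_a_rc_3_2 lc_a_rc_3_2 lc_a_rc_2_2 lc_a_rc_6_2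 lc_a_rc_4_2 lc_a_rc_5_2 lc_a_rc_6_2 lc_a_rc_2_2 lc_a_rc_2_2 lc_a_rc_5_2 lc_a_rc_6_2 lc_a_rc_5_2 lc_a_rc_3_2 lc_a_rc_56_7 lc_a_rc_2_2 lc_a_rc_0_1 lc_a_rc_3_2) (@D3.rec (fun _ => (Cert rels S Gen.a)) lc_a_rc_6_2 lc_a_rc_9_2 lc_a_rc_2_2 lc_a_rc_8_2 lc_a_rc_9_2 lc_a_rc_2_2 lc_a_rc_2_2 lc_a_rc_2_2 lc_a_rc_6_2 lc_a_rc_9_2 lc_a_rc_0_1 lc_a_rc_5_2 lc_a_rc_5_2 lc_a_rc_0_1 lc_a_rc_2_2 lc_a_rc_5_2 lc_a_rc_9_2 lc_a_rc_2_2 lc_a_rc_5_2 lc_a_rc_2_2 lc_a_rc_2_2 lc_a_rc_3_2 lc_a_rc_3_2 lc_a_rc_4_2 lc_a_rc_3_2 lc_a_rc_0_1 lc_a_rc_3_2 lc_a_rc_2_2 lc_a_rc_2_2 lc_a_rc_5_2 lc_a_rc_3_2 lc_a_rc_4_2 lc_a_rc_5_2 lc_a_rc_5_2 lc_a_rc_6_2 lc_a_rc_5_2 lc_a_rc_0_0 lc_a_rc_2_0 lc_a_rc_5_2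 lc_a_rc_7_2 lc_a_rc_5_2 lc_a_rc_7_2 lc_a_rc_3_2 lc_a_rc_4_2 lc_a_rc_3_2 lc_a_rc_4_2 lc_a_rc_3_2 lc_a_rc_3_2 lc_a_rc_5_2 lc_a_rc_5_2 lc_a_rc_9_2) (@D3.rec (fun _ => (Cert rels S Gen.a)) lc_a_rc_5_2 lc_a_rc_9_2 lc_a_rc_2_2 lc_a_rc_5_2 lc_a_rc_9_2 lc_a_rc_2_2 lc_a_rc_9_2 lc_a_rc_9_2 lc_a_rc_2_2 lc_a_rc_3_2 lc_a_rc_2_2 lc_a_rc_2_2 lc_a_rc_4_2 lc_a_rc_3_2 lc_a_rc_3_2 lc_a_rc_2_2 lc_a_rc_6_2 lc_a_rc_4_2 lc_a_rc_5_2 lc_a_rc_2_2 lc_a_rc_2_2 lc_a_rc_5_2 lc_a_rc_6_2 lc_a_rc_5_2 lc_a_rc_3_2 lc_a_rc_9_2 lc_a_rc_2_2 lc_a_rc_5_2 lc_a_rc_2_2 lc_a_rc_3_2 lc_a_rc_0_0 lc_a_rc_4_2 lc_a_rc_5_2 lc_a_rc_9_2 lc_a_rc_2_2 lc_a_rc_4_2 lc_a_rc_9_2 lc_a_rc_9_2 lc_a_rc_1_4 lc_a_rc_2_2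 lc_a_rc_6_2 lc_a_rc_9_2 lc_a_rc_9_2 lc_a_rc_1_4 lc_a_rc_2_2 lc_a_rc_2_2 lc_a_rc_7_2 lc_a_rc_9_2 lc_a_rc_9_2 lc_a_rc_3_2 lc_a_rc_2_2) (@D3.rec (fun _ => (Cert rels S Gen.a)) lc_a_rc_4_2 lc_a_rc_3_2 lc_a_rc_6_2 lc_a_rc_2_2 lc_a_rc_2_2 lc_a_rc_6_2 lc_a_rc_4_2 lc_a_rc_5_2 lc_a_rc_5_2 lc_a_rc_3_2 lc_a_rc_2_2 lc_a_rc_6_2 lc_a_rc_6_2 lc_a_rc_5_2 lc_a_rc_9_2 lc_a_rc_5_0 lc_a_rc_5_2 lc_a_rc_5_2 lc_a_rc_0_0 lc_a_rc_56_28 lc_a_rc_3_2 lc_a_rc_7_2 lc_a_rc_4_2 lc_a_rc_3_2 lc_a_rc_4_2 lc_a_rc_6_2 lc_a_rc_3_2 lc_a_rc_6_0 lc_a_rc_3_2 lc_a_rc_5_0 lc_a_rc_4_2 lc_a_rc_6_2 lc_a_rc_6_2 lc_a_rc_3_2 lc_a_rc_4_2 lc_a_rc_2_2 lc_a_rc_3_0 lc_a_rc_2_2 lc_a_rc_3_2 lc_a_rc_1_4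 lc_a_rc_5_0 lc_a_rc_9_2 lc_a_rc_4_2 lc_a_rc_5_2 lc_a_rc_5_2 lc_a_rc_6_2 lc_a_rc_6_2 lc_a_rc_9_2 lc_a_rc_9_2 lc_a_rc_5_2 lc_a_rc_3_2) (@D3.rec (fun _ => (Cert rels S Gen.a)) lc_a_rc_6_2 lc_a_rc_6_2 lc_a_rc_1_2 lc_a_rc_1_2 lc_a_rc_4_2 lc_a_rc_56_42 lc_a_rc_2_2 lc_a_rc_1_2 lc_a_rc_2_2 lc_a_rc_5_2 lc_a_rc_5_2 lc_a_rc_3_2 lc_a_rc_9_2 lc_a_rc_5_2 lc_a_rc_9_2 lc_a_rc_2_2 lc_a_rc_4_2 lc_a_rc_9_2 lc_a_rc_2_2 lc_a_rc_9_2 lc_a_rc_6_0 lc_a_rc_2_2 lc_a_rc_2_2 lc_a_rc_6_2 lc_a_rc_9_2 lc_a_rc_9_2 lc_a_rc_9_2 lc_a_rc_2_2 lc_a_rc_2_2 lc_a_rc_9_2 lc_a_rc_3_2 lc_a_rc_2_2 lc_a_rc_2_2 lc_a_rc_4_2 lc_a_rc_3_2 lc_a_Cert_tree lc_a_rc_2_2 lc_a_rc_2_2 lc_a_rc_6_2 lc_a_rc_4_2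 lc_a_rc_5_2 lc_a_rc_2_2 lc_a_rc_6_2 lc_a_rc_4_2 lc_a_rc_5_2 lc_a_rc_0_0 lc_a_rc_9_2 lc_a_rc_2_2 lc_a_rc_2_2 lc_a_rc_2_2 lc_a_rc_6_2) (@D3.rec (fun _ => (Cert rels S Gen.a)) lc_a_rc_5_2 lc_a_rc_9_2 lc_a_rc_1_4 lc_a_rc_5_2 lc_a_rc_2_2 lc_a_rc_3_2 lc_a_rc_3_2 lc_a_rc_56_28 lc_a_rc_6_2 lc_a_rc_5_2 lc_a_rc_6_2 lc_a_rc_3_2 lc_a_rc_2_2 lc_a_rc_0_0 lc_a_rc_2_2 lc_a_rc_4_2 lc_a_rc_5_2 lc_a_rc_1_4 lc_a_rc_2_2 lc_a_rc_5_2 lc_a_rc_1_2 lc_a_rc_2_2 lc_a_rc_9_2 lc_a_rc_5_2 lc_a_rc_3_2 lc_a_rc_5_2 lc_a_rc_0_1 lc_a_rc_4_2 lc_a_rc_3_2 lc_a_rc_9_2 lc_a_rc_2_2 lc_a_rc_4_2 lc_a_rc_3_2 lc_a_rc_5_2 lc_a_rc_7_2 lc_a_rc_2_2 lc_a_rc_4_2 lc_a_rc_9_2 lc_a_rc_6_2 lc_a_rc_4_2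 lc_a_rc_2_2 lc_a_rc_4_2 lc_a_rc_4_2 lc_a_rc_9_2 lc_a_rc_2_2 lc_a_rc_6_2 lc_a_rc_7_2 lc_a_rc_9_2 lc_a_rc_2_2 lc_a_rc_2_2 lc_a_rc_2_2) (@D3.rec (fun _ => (Cert rels S Gen.a)) lc_a_rc_2_2 lc_a_rc_5_2 lc_a_rc_9_2 lc_a_rc_9_2 lc_a_rc_5_2 lc_a_rc_2_2 lc_a_rc_3_2 lc_a_rc_7_2 lc_a_rc_6_2 lc_a_rc_3_2 lc_a_rc_4_2 lc_a_rc_3_2 lc_a_rc_2_2 lc_a_rc_2_2 lc_a_rc_6_2 lc_a_rc_4_2 lc_a_rc_5_2 lc_a_rc_0_0 lc_a_rc_4_2 lc_a_rc_9_2 lc_a_rc_4_2 lc_a_rc_2_2 lc_a_rc_2_2 lc_a_rc_2_2 lc_a_rc_3_2 lc_a_rc_6_2 lc_a_rc_5_2 lc_a_rc_5_0 lc_a_rc_9_2 lc_a_rc_2_2 lc_a_rc_6_2 lc_a_rc_5_2 lc_a_rc_9_2 lc_a_rc_5_2 lc_a_rc_2_2 lc_a_rc_5_2 lc_a_rc_2_2 lc_a_rc_2_2 lc_a_rc_2_2 lc_a_rc_3_2 lc_a_rc_3_2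 lc_a_rc_3_2 lc_a_rc_6_2 lc_a_rc_3_2 lc_a_rc_5_2 lc_a_rc_5_2 lc_a_rc_2_2 lc_a_rc_2_2 lc_a_rc_2_2 lc_a_rc_3_2 lc_a_rc_4_2) (@D3.rec (fun _ => (Cert rels S Gen.a)) lc_a_rc_3_2 lc_a_rc_4_2 lc_a_rc_4_0 lc_a_rc_2_2 lc_a_rc_6_2 lc_a_rc_3_2 lc_a_rc_4_2 lc_a_rc_4_2 lc_a_rc_3_2 lc_a_rc_2_2 lc_a_rc_3_2 lc_a_rc_2_2 lc_a_rc_56_28 lc_a_rc_2_2 lc_a_rc_3_0 lc_a_rc_2_2 lc_a_rc_5_2 lc_a_rc_4_2 lc_a_rc_9_2 lc_a_rc_3_2 lc_a_rc_9_2 lc_a_rc_5_2 lc_a_rc_2_2 lc_a_rc_2_2 lc_a_rc_5_2 lc_a_rc_3_2 lc_a_rc_3_2 lc_a_rc_5_0 lc_a_rc_5_2 lc_a_rc_3_2 lc_a_rc_4_2 lc_a_rc_9_2 lc_a_rc_5_2 lc_a_rc_5_2 lc_a_rc_2_2 lc_a_rc_7_0 lc_a_rc_5_2 lc_a_rc_3_2 lc_a_rc_9_0 lc_a_rc_5_2 lc_a_rc_1_4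 lc_a_rc_4_2 lc_a_rc_6_2 lc_a_rc_1_4 lc_a_rc_5_0 lc_a_rc_1_4 lc_a_rc_3_2 lc_a_rc_1_4 lc_a_rc_3_2 lc_a_rc_2_2 lc_a_rc_4_2) (@D3.rec (fun _ => (Cert rels S Gen.a)) lc_a_rc_3_2 lc_a_rc_6_2 lc_a_rc_4_2 lc_a_rc_5_2 lc_a_rc_4_2 lc_a_rc_5_2 lc_a_rc_6_2 lc_a_rc_5_2 lc_a_rc_3_2 lc_a_rc_5_2 lc_a_rc_6_2 lc_a_rc_3_2 lc_a_rc_3_2 lc_a_rc_4_2 lc_a_rc_2_2 lc_a_rc_3_2 lc_a_rc_3_2 lc_a_rc_5_2 lc_a_rc_7_2 lc_a_rc_4_2 lc_a_rc_2_2 lc_a_rc_5_2 lc_a_rc_4_2 lc_a_rc_2_2 lc_a_rc_6_2 lc_a_rc_4_2 lc_a_rc_2_2 lc_a_rc_6_2 lc_a_rc_4_2 lc_a_rc_4_2 lc_a_rc_5_2 lc_a_rc_4_2 lc_a_rc_3_2 lc_a_rc_4_2 lc_a_rc_2_2 lc_a_rc_4_2 lc_a_rc_4_2 lc_a_rc_5_2 lc_a_rc_4_2 lc_a_rc_7_0 lc_a_rc_3_2 lc_a_rc_4_2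 lc_a_rc_4_2 lc_a_rc_2_2 lc_a_rc_4_2 lc_a_rc_6_2 lc_a_rc_5_2 lc_a_rc_2_2 lc_a_rc_5_0 lc_a_rc_5_2 lc_a_rc_7_2) (@D3.rec (fun _ => (Cert rels S Gen.a)) lc_a_rc_2_2 lc_a_rc_2_2 lc_a_rc_2_0 lc_a_rc_1_2 lc_a_rc_6_2 lc_a_rc_3_2 lc_a_rc_2_0 lc_a_rc_1_2 lc_a_rc_0_1 lc_a_rc_0_1 lc_a_rc_4_2 lc_a_rc_4_2 lc_a_rc_3_2 lc_a_rc_3_0 lc_a_rc_5_2 lc_a_rc_3_2 lc_a_rc_2_2 lc_a_rc_5_2 lc_a_rc_4_0 lc_a_rc_7_2 lc_a_rc_3_2 lc_a_rc_1_2 lc_a_rc_1_2 lc_a_rc_1_2 lc_a_rc_1_2 lc_a_rc_1_2 lc_a_rc_1_2 lc_a_rc_1_2 lc_a_rc_1_2 lc_a_rc_2_2 lc_a_rc_1_2 lc_a_rc_1_2 lc_a_rc_2_2 lc_a_rc_2_2 lc_a_rc_1_2 lc_a_rc_1_2 lc_a_rc_2_2 lc_a_rc_1_2 lc_a_rc_2_2 lc_a_rc_3_2 lc_a_rc_3_2 lc_a_rc_9_2 lc_a_rc_2_2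 lc_a_rc_4_2 lc_a_rc_3_2 lc_a_rc_5_2 lc_a_rc_9_2 lc_a_rc_4_2 lc_a_rc_9_2 lc_a_rc_4_2 lc_a_rc_4_2) (@D3.rec (fun _ => (Cert rels S Gen.a)) lc_a_rc_9_2 lc_a_rc_6_2 lc_a_rc_9_2 lc_a_rc_9_2 lc_a_rc_9_2 lc_a_rc_9_2 lc_a_rc_3_2 lc_a_rc_2_2 lc_a_rc_4_2 lc_a_rc_3_2 lc_a_rc_2_2 lc_a_rc_2_2 lc_a_rc_6_2 lc_a_rc_4_2 lc_a_rc_5_2 lc_a_rc_4_2 lc_a_rc_6_2 lc_a_rc_3_2 lc_a_rc_2_2 lc_a_rc_2_2 lc_a_rc_2_2 lc_a_rc_6_2 lc_a_rc_5_2 lc_a_rc_2_2 lc_a_rc_2_2 lc_a_rc_2_2 lc_a_rc_7_2 lc_a_rc_6_2 lc_a_rc_5_2 lc_a_rc_5_2 lc_a_rc_2_2 lc_a_rc_2_2 lc_a_rc_6_2 lc_a_rc_3_2 lc_a_rc_3_2 lc_a_rc_2_2 lc_a_rc_7_2 lc_a_rc_6_2 lc_a_rc_3_2 lc_a_rc_3_2 lc_a_rc_2_2 lc_a_rc_2_2 lc_a_rc_2_2 lc_a_rc_4_2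 lc_a_rc_3_2 lc_a_rc_2_2 lc_a_rc_4_2 lc_a_rc_9_2 lc_a_rc_3_2 lc_a_rc_9_2 lc_a_rc_5_2) (@D3.rec (fun _ => (Cert rels S Gen.a)) lc_a_rc_3_2 lc_a_rc_3_2 lc_a_rc_4_2 lc_a_rc_3_2 lc_a_rc_4_2 lc_a_rc_3_2 lc_a_Cert_tree lc_a_rc_2_2 lc_a_rc_2_2 lc_a_rc_6_2 lc_a_rc_4_2 lc_a_rc_5_2 lc_a_rc_2_2 lc_a_rc_4_2 lc_a_rc_9_2 lc_a_rc_2_0 lc_a_rc_4_2 lc_a_rc_5_0 lc_a_rc_4_2 lc_a_rc_4_2 lc_a_rc_9_2 lc_a_rc_4_2 lc_a_rc_6_2 lc_a_rc_2_0 lc_a_rc_4_2 lc_a_rc_4_2 lc_a_rc_1_0 lc_a_rc_4_2 lc_a_rc_4_2 lc_a_rc_4_2 lc_a_rc_1_2 lc_a_rc_2_2 lc_a_rc_2_2 lc_a_rc_3_2 lc_a_rc_7_2 lc_a_rc_9_2 lc_a_rc_9_2 lc_a_rc_5_2 lc_a_rc_6_2 lc_a_rc_1_2 lc_a_rc_1_2 lc_a_rc_9_0 lc_a_rc_6_2 lc_a_rc_9_2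 lc_a_rc_3_2 lc_a_rc_8_2 lc_a_rc_9_2 lc_a_rc_5_2 lc_a_rc_1_2 lc_a_rc_5_0 lc_a_rc_4_2) (@D3.rec (fun _ => (Cert rels S Gen.a)) lc_a_rc_2_0 lc_a_rc_2_2 lc_a_rc_3_2 lc_a_rc_2_2 lc_a_rc_2_2 lc_a_rc_6_2 lc_a_rc_4_2 lc_a_rc_5_2 lc_a_rc_0_0 lc_a_rc_4_2 lc_a_rc_9_2 lc_a_rc_3_2 lc_a_rc_2_2 lc_a_rc_2_2 lc_a_rc_2_2 lc_a_rc_7_2 lc_a_rc_6_2 lc_a_rc_5_2 lc_a_rc_4_2 lc_a_rc_9_2 lc_a_rc_4_2 lc_a_rc_4_2 lc_a_rc_9_2 lc_a_rc_5_2 lc_a_rc_3_2 lc_a_rc_5_2 lc_a_rc_3_2 lc_a_rc_4_2 lc_a_rc_2_2 lc_a_rc_2_2 lc_a_rc_1_0 lc_a_rc_4_2 lc_a_rc_4_2 lc_a_rc_6_2 lc_a_rc_3_2 lc_a_rc_9_2 lc_a_rc_6_2 lc_a_rc_4_2 lc_a_rc_5_2 lc_a_rc_2_2 lc_a_rc_2_2 lc_a_rc_2_2 lc_a_rc_1_0 lc_a_rc_9_0 lc_a_rc_7_2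 lc_a_rc_6_2 lc_a_rc_3_2 lc_a_rc_5_2 lc_a_rc_6_2 lc_a_rc_6_2 lc_a_rc_5_2) (@D3.rec (fun _ => (Cert rels S Gen.a)) lc_a_rc_3_2 lc_a_rc_0_1 lc_a_rc_0_1 lc_a_rc_2_2 lc_a_rc_3_2 lc_a_rc_4_2 lc_a_rc_6_2 lc_a_rc_6_2 lc_a_rc_3_2 lc_a_rc_2_2 lc_a_rc_2_0 lc_a_rc_2_0 lc_a_rc_5_2 lc_a_rc_3_2 lc_a_rc_8_2 lc_a_rc_7_2 lc_a_rc_1_2 lc_a_rc_2_2 lc_a_rc_4_2 lc_a_rc_4_2 lc_a_rc_2_0 lc_a_rc_56_14 lc_a_Cert_tree lc_a_rc_3_0 lc_a_rc_7_2 lc_a_rc_3_2 lc_a_rc_2_2 lc_a_rc_5_2 lc_a_rc_2_0 lc_a_rc_2_2 lc_a_rc_4_2 lc_a_Cert_tree lc_a_rc_5_0 lc_a_rc_1_4 lc_a_rc_0_0 lc_a_rc_5_2 lc_a_rc_7_2 lc_a_rc_2_2 lc_a_rc_5_2 lc_a_rc_9_2 lc_a_rc_5_2 lc_a_rc_3_2 lc_a_rc_3_2 lc_a_rc_2_2 lc_a_rc_9_2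 lc_a_rc_5_2 lc_a_rc_2_2 lc_a_rc_6_2 lc_a_rc_9_2 lc_a_rc_5_2 lc_a_rc_3_2) (@D3.rec (fun _ => (Cert rels S Gen.a)) lc_a_rc_4_2 lc_a_rc_2_2 lc_a_rc_5_2 lc_a_rc_3_2 lc_a_rc_4_2 lc_a_rc_6_2 lc_a_rc_4_2 lc_a_rc_3_2 lc_a_rc_2_2 lc_a_rc_5_2 lc_a_rc_9_2 lc_a_rc_56_14 lc_a_rc_8_2 lc_a_rc_4_2 lc_a_rc_0_0 lc_a_rc_56_49 lc_a_rc_9_2 lc_a_rc_0_0 lc_a_rc_4_2 lc_a_rc_2_2 lc_a_rc_3_0 lc_a_rc_3_0 lc_a_rc_9_2 lc_a_rc_3_2 lc_a_rc_4_2 lc_a_rc_3_2 lc_a_rc_3_2 lc_a_rc_5_2 lc_a_rc_7_2 lc_a_rc_4_2 lc_a_rc_4_2 lc_a_rc_4_2 lc_a_rc_4_0 lc_a_rc_2_2 lc_a_rc_3_2 lc_a_rc_6_2 lc_a_rc_1_0 lc_a_rc_3_2 lc_a_rc_5_2 lc_a_rc_1_4 lc_a_rc_5_2 lc_a_rc_9_2 lc_a_rc_5_2 lc_a_rc_1_0 lc_a_rc_5_2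 lc_a_rc_3_2 lc_a_rc_56_21 lc_a_rc_9_2 lc_a_rc_2_0 lc_a_rc_2_2 lc_a_rc_3_2)
def ce_a_14 : D2 → D3 → (Cert rels S Gen.a) := @D2.rec (fun _ => D3 → (Cert rels S Gen.a)) (@D3.rec (fun _ => (Cert rels S Gen.a)) lc_a_rc_3_2 lc_a_rc_3_2 lc_a_rc_3_2 lc_a_rc_3_2 lc_a_rc_3_2 lc_a_rc_6_2 lc_a_rc_4_2 lc_a_rc_5_2 lc_a_rc_6_2 lc_a_rc_5_2 lc_a_rc_4_2 lc_a_rc_6_2 lc_a_rc_9_2 lc_a_rc_5_2 lc_a_rc_56_35 lc_a_rc_9_2 lc_a_rc_4_2 lc_a_rc_6_2 lc_a_rc_2_0 lc_a_rc_2_0 lc_a_rc_4_2 lc_a_rc_6_2 lc_a_rc_4_2 lc_a_rc_4_2 lc_a_rc_4_2 lc_a_rc_6_2 lc_a_rc_3_2 lc_a_rc_6_2 lc_a_rc_5_2 lc_a_rc_7_2 lc_a_rc_5_2 lc_a_rc_6_2 lc_a_rc_9_2 lc_a_rc_5_2 lc_a_rc_6_2 lc_a_rc_6_2 lc_a_rc_5_2 lc_a_rc_3_2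 lc_a_rc_3_2 lc_a_rc_6_2 lc_a_rc_5_2 lc_a_rc_9_2 lc_a_rc_5_2 lc_a_rc_3_2 lc_a_rc_3_2 lc_a_rc_3_2 lc_a_rc_3_2 lc_a_rc_5_2 lc_a_rc_7_2 lc_a_rc_2_2 lc_a_rc_3_2) (@D3.rec (fun _ => (Cert rels S Gen.a)) lc_a_rc_4_0 lc_a_rc_2_0 lc_a_rc_4_0 lc_a_rc_4_2 lc_a_rc_6_2 lc_a_rc_3_2 lc_a_rc_4_2 lc_a_rc_6_2 lc_a_rc_0_0 lc_a_rc_4_2 lc_a_rc_9_2 lc_a_rc_4_2 lc_a_rc_0_0 lc_a_rc_4_2 lc_a_rc_0_0 lc_a_rc_9_2 lc_a_rc_7_0 lc_a_rc_9_2 lc_a_rc_5_2 lc_a_rc_5_2 lc_a_rc_5_2 lc_a_rc_1_4 lc_a_rc_9_2 lc_a_rc_5_2 lc_a_rc_6_2 lc_a_rc_9_2 lc_a_rc_5_2 lc_a_rc_2_2 lc_a_rc_5_2 lc_a_rc_1_4 lc_a_rc_2_2 lc_a_rc_5_2 lc_a_rc_6_2 lc_a_rc_5_2 lc_a_rc_4_2 lc_a_rc_6_2 lc_a_rc_4_2 lc_a_rc_6_2 lc_a_rc_3_2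 lc_a_rc_4_2 lc_a_rc_2_2 lc_a_rc_4_2 lc_a_rc_9_2 lc_a_rc_2_2 lc_a_rc_9_2 lc_a_rc_2_2 lc_a_rc_3_2 lc_a_rc_2_2 lc_a_rc_4_2 lc_a_rc_3_2 lc_a_rc_6_2) (@D3.rec (fun _ => (Cert rels S Gen.a)) lc_a_rc_2_2 lc_a_rc_2_2 lc_a_rc_6_2 lc_a_rc_4_2 lc_a_rc_5_2 lc_a_rc_4_2 lc_a_rc_6_2 lc_a_rc_3_2 lc_a_rc_2_2 lc_a_rc_2_2 lc_a_rc_2_2 lc_a_rc_6_2 lc_a_rc_5_2 lc_a_rc_9_2 lc_a_rc_2_2 lc_a_rc_2_2 lc_a_rc_2_2 lc_a_rc_6_2 lc_a_rc_5_2 lc_a_rc_5_2 lc_a_rc_2_2 lc_a_rc_2_2 lc_a_rc_3_2 lc_a_rc_6_2 lc_a_rc_1_4 lc_a_rc_3_2 lc_a_rc_4_2 lc_a_rc_7_2 lc_a_rc_2_2 lc_a_rc_5_2 lc_a_rc_7_0 lc_a_rc_3_2 lc_a_rc_2_2 lc_a_rc_2_2 lc_a_rc_5_2 lc_a_rc_9_2 lc_a_rc_3_2 lc_a_rc_9_2 lc_a_rc_5_2 lc_a_rc_3_2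 lc_a_rc_2_2 lc_a_rc_3_2 lc_a_rc_9_2 lc_a_rc_5_2 lc_a_rc_3_2 lc_a_rc_5_2 lc_a_rc_1_4 lc_a_rc_4_2 lc_a_rc_4_2 lc_a_Cert_tree lc_a_rc_3_0) (@D3.rec (fun _ => (Cert rels S Gen.a)) lc_a_rc_4_0 lc_a_rc_3_2 lc_a_rc_5_2 lc_a_rc_7_2 lc_a_rc_3_2 lc_a_rc_4_0 lc_a_rc_6_2 lc_a_rc_4_2 lc_a_rc_7_0 lc_a_rc_3_2 lc_a_rc_4_0 lc_a_rc_4_2 lc_a_rc_6_2 lc_a_rc_3_2 lc_a_rc_4_2 lc_a_rc_4_2 lc_a_rc_2_2 lc_a_rc_4_2 lc_a_rc_4_2 lc_a_rc_4_2 lc_a_rc_2_2 lc_a_rc_2_2 lc_a_rc_5_2 lc_a_rc_3_0 lc_a_rc_5_2 lc_a_rc_1_2 lc_a_rc_1_2 lc_a_rc_3_2 lc_a_rc_6_2 lc_a_rc_7_0 lc_a_rc_5_2 lc_a_rc_2_2 lc_a_rc_5_0 lc_a_rc_3_0 lc_a_rc_2_2 lc_a_rc_2_2 lc_a_rc_6_2 lc_a_rc_4_2 lc_a_rc_5_2 lc_a_rc_1_4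 lc_a_rc_4_0 lc_a_rc_3_2 lc_a_rc_2_2 lc_a_rc_2_2 lc_a_rc_2_2 lc_a_rc_6_2 lc_a_rc_5_2 lc_a_rc_4_2 lc_a_rc_9_2 lc_a_rc_2_2 lc_a_rc_6_2) (@D3.rec (fun _ => (Cert rels S Gen.a)) lc_a_rc_9_2 lc_a_rc_5_2 lc_a_rc_3_2 lc_a_rc_3_0 lc_a_rc_3_2 lc_a_rc_4_2 lc_a_rc_2_2 lc_a_rc_2_2 lc_a_rc_3_2 lc_a_rc_4_2 lc_a_rc_4_2 lc_a_rc_6_2 lc_a_rc_3_2 lc_a_rc_4_2 lc_a_rc_9_2 lc_a_rc_6_2 lc_a_rc_9_2 lc_a_rc_5_2 lc_a_rc_2_2 lc_a_rc_2_2 lc_a_rc_3_2 lc_a_rc_6_2 lc_a_rc_6_2 lc_a_rc_9_2 lc_a_rc_5_2 lc_a_rc_5_0 lc_a_rc_9_2 lc_a_rc_5_2 lc_a_rc_2_2 lc_a_rc_4_0 lc_a_rc_1_2 lc_a_rc_2_2 lc_a_rc_3_2 lc_a_rc_4_2 lc_a_rc_6_2 lc_a_rc_6_2 lc_a_rc_5_2 lc_a_rc_4_2 lc_a_rc_4_2 lc_a_rc_5_2 lc_a_rc_3_2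 lc_a_rc_1_2 lc_a_rc_1_2 lc_a_rc_1_2 lc_a_rc_3_2 lc_a_rc_2_2 lc_a_rc_4_2 lc_a_rc_8_2 lc_a_rc_3_2 lc_a_rc_2_2 lc_a_rc_3_2) (@D3.rec (fun _ => (Cert rels S Gen.a)) lc_a_rc_5_2 lc_a_rc_1_4 lc_a_rc_4_0 lc_a_rc_8_2 lc_a_rc_3_2 lc_a_rc_4_0 lc_a_rc_5_2 lc_a_rc_3_2 lc_a_rc_4_2 lc_a_rc_5_2 lc_a_rc_3_2 lc_a_rc_4_2 lc_a_rc_6_2 lc_a_rc_9_2 lc_a_rc_5_2 lc_a_rc_2_2 lc_a_rc_6_2 lc_a_rc_3_2 lc_a_rc_5_2 lc_a_rc_5_2 lc_a_rc_3_2 lc_a_rc_4_2 lc_a_rc_2_2 lc_a_rc_5_2 lc_a_rc_3_2 lc_a_rc_4_2 lc_a_rc_5_2 lc_a_rc_3_2 lc_a_rc_5_2 lc_a_rc_56_7 lc_a_rc_5_2 lc_a_rc_56_21 lc_a_rc_5_2 lc_a_rc_5_2 lc_a_rc_3_2 lc_a_rc_2_2 lc_a_rc_56_35 lc_a_rc_4_2 lc_a_rc_1_2 lc_a_rc_56_35 lc_a_rc_3_2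 lc_a_rc_1_4 lc_a_rc_5_0 lc_a_rc_4_2 lc_a_rc_9_2 lc_a_rc_9_2 lc_a_rc_4_2 lc_a_rc_3_2 lc_a_rc_2_2 lc_a_rc_2_2 lc_a_rc_4_2) (@D3.rec (fun _ => (Cert rels S Gen.a)) lc_a_rc_5_2 lc_a_rc_5_2 lc_a_rc_2_2 lc_a_rc_3_2 lc_a_rc_1_2 lc_a_rc_2_2 lc_a_rc_7_2 lc_a_rc_3_2 lc_a_rc_3_2 lc_a_rc_4_2 lc_a_rc_4_2 lc_a_rc_6_2 lc_a_rc_4_2 lc_a_rc_9_2 lc_a_rc_5_2 lc_a_rc_1_2 lc_a_rc_3_2 lc_a_rc_4_2 lc_a_rc_5_2 lc_a_rc_2_2 lc_a_rc_4_2 lc_a_rc_2_2 lc_a_rc_2_2 lc_a_rc_3_2 lc_a_rc_5_2 lc_a_rc_6_2 lc_a_rc_5_2 lc_a_rc_3_2 lc_a_rc_3_0 lc_a_rc_5_2 lc_a_rc_1_2 lc_a_rc_3_2 lc_a_rc_3_2 lc_a_rc_4_2 lc_a_rc_5_2 lc_a_rc_2_2 lc_a_rc_4_2 lc_a_rc_3_2 lc_a_rc_4_2 lc_a_rc_3_2 lc_a_rc_4_2 lc_a_rc_2_2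 lc_a_rc_4_2 lc_a_rc_9_2 lc_a_rc_2_2 lc_a_rc_5_2 lc_a_rc_3_2 lc_a_rc_4_2 lc_a_rc_3_2 lc_a_rc_4_2 lc_a_rc_5_2) (@D3.rec (fun _ => (Cert rels S Gen.a)) lc_a_rc_2_2 lc_a_rc_2_2 lc_a_rc_5_2 lc_a_rc_3_2 lc_a_rc_5_2 lc_a_rc_3_2 lc_a_rc_4_2 lc_a_rc_5_2 lc_a_rc_3_2 lc_a_rc_4_2 lc_a_rc_4_2 lc_a_rc_6_2 lc_a_rc_3_2 lc_a_rc_4_2 lc_a_rc_2_2 lc_a_rc_4_2 lc_a_rc_5_2 lc_a_rc_3_2 lc_a_rc_5_2 lc_a_rc_3_2 lc_a_rc_2_0 lc_a_rc_3_0 lc_a_rc_9_2 lc_a_rc_4_2 lc_a_rc_4_2 lc_a_rc_5_2 lc_a_rc_1_2 lc_a_rc_8_2 lc_a_rc_2_2 lc_a_rc_2_2 lc_a_rc_5_2 lc_a_rc_4_2 lc_a_rc_9_2 lc_a_rc_4_2 lc_a_rc_3_2 lc_a_rc_9_2 lc_a_rc_5_2 lc_a_rc_4_2 lc_a_rc_4_2 lc_a_rc_2_2 lc_a_rc_9_2 lc_a_rc_2_2 lc_a_rc_3_2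 lc_a_rc_3_2 lc_a_rc_3_2 lc_a_rc_4_2 lc_a_rc_3_2 lc_a_rc_2_0 lc_a_rc_3_2 lc_a_rc_5_2 lc_a_rc_6_2) (@D3.rec (fun _ => (Cert rels S Gen.a)) lc_a_rc_5_2 lc_a_rc_3_2 lc_a_rc_2_2 lc_a_rc_6_2 lc_a_rc_2_2 lc_a_rc_4_2 lc_a_rc_3_2 lc_a_rc_3_0 lc_a_rc_5_2 lc_a_rc_3_2 lc_a_rc_5_2 lc_a_rc_2_2 lc_a_rc_0_1 lc_a_rc_3_2 lc_a_rc_2_2 lc_a_rc_2_2 lc_a_rc_3_2 lc_a_rc_1_2 lc_a_rc_5_2 lc_a_rc_3_2 lc_a_rc_5_2 lc_a_rc_2_0 lc_a_rc_5_2 lc_a_rc_3_2 lc_a_rc_1_0 lc_a_rc_5_2 lc_a_rc_3_2 lc_a_rc_4_2 lc_a_rc_3_2 lc_a_rc_3_2 lc_a_rc_9_2 lc_a_rc_1_4 lc_a_rc_6_2 lc_a_rc_5_0 lc_a_rc_5_2 lc_a_rc_5_2 lc_a_rc_4_2 lc_a_rc_3_2 lc_a_rc_4_2 lc_a_rc_5_2 lc_a_rc_5_2 lc_a_rc_3_2 lc_a_rc_3_2 lc_a_rc_5_2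 lc_a_rc_7_2 lc_a_rc_4_2 lc_a_rc_2_2 lc_a_rc_4_2 lc_a_rc_4_2 lc_a_rc_5_2 lc_a_rc_2_2) (@D3.rec (fun _ => (Cert rels S Gen.a)) lc_a_rc_5_2 lc_a_rc_7_2 lc_a_rc_6_2 lc_a_rc_4_2 lc_a_rc_5_2 lc_a_rc_3_2 lc_a_rc_4_0 lc_a_rc_3_2 lc_a_rc_6_2 lc_a_rc_4_2 lc_a_rc_2_2 lc_a_rc_3_2 lc_a_rc_4_2 lc_a_rc_5_2 lc_a_rc_4_2 lc_a_rc_4_2 lc_a_rc_4_2 lc_a_rc_6_2 lc_a_rc_3_2 lc_a_rc_3_2 lc_a_rc_6_2 lc_a_rc_4_2 lc_a_rc_4_2 lc_a_rc_3_2 lc_a_rc_9_0 lc_a_rc_5_0 lc_a_rc_3_2 lc_a_rc_6_2 lc_a_rc_4_2 lc_a_rc_4_0 lc_a_rc_6_2 lc_a_rc_6_2 lc_a_rc_4_2 lc_a_rc_6_2 lc_a_rc_4_0 lc_a_rc_2_2 lc_a_rc_3_2 lc_a_rc_4_0 lc_a_rc_3_0 lc_a_rc_2_2 lc_a_rc_2_2 lc_a_rc_4_2 lc_a_rc_5_2 lc_a_rc_4_2 lc_a_rc_9_2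 lc_a_rc_4_2 lc_a_rc_2_2 lc_a_rc_2_2 lc_a_rc_6_2 lc_a_rc_4_2 lc_a_rc_5_2) (@D3.rec (fun _ => (Cert rels S Gen.a)) lc_a_rc_2_0 lc_a_rc_3_2 lc_a_rc_2_2 lc_a_rc_2_2 lc_a_rc_5_2 lc_a_rc_4_2 lc_a_rc_9_2 lc_a_rc_4_2 lc_a_rc_9_2 lc_a_rc_5_2 lc_a_rc_5_2 lc_a_rc_3_2 lc_a_rc_2_2 lc_a_rc_3_2 lc_a_rc_9_2 lc_a_rc_5_2 lc_a_rc_5_2 lc_a_rc_2_0 lc_a_rc_9_2 lc_a_rc_5_2 lc_a_rc_0_0 lc_a_rc_4_2 lc_a_rc_9_2 lc_a_rc_2_2 lc_a_rc_2_2 lc_a_rc_2_2 lc_a_rc_5_2 lc_a_rc_7_2 lc_a_rc_7_2 lc_a_rc_0_1 lc_a_rc_2_0 lc_a_rc_1_2 lc_a_rc_3_2 lc_a_rc_3_2 lc_a_rc_3_2 lc_a_rc_4_2 lc_a_rc_3_2 lc_a_rc_4_2 lc_a_rc_4_2 lc_a_rc_9_2 lc_a_rc_3_2 lc_a_rc_4_2 lc_a_rc_9_2 lc_a_rc_5_2 lc_a_rc_3_2 lc_a_rc_3_2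 lc_a_rc_3_2 lc_a_rc_4_2 lc_a_rc_6_2 lc_a_rc_4_2 lc_a_rc_4_2) (@D3.rec (fun _ => (Cert rels S Gen.a)) lc_a_rc_4_2 lc_a_rc_4_2 lc_a_rc_3_2 lc_a_rc_9_2 lc_a_rc_4_2 lc_a_rc_5_2 lc_a_rc_4_2 lc_a_rc_5_2 lc_a_rc_6_2 lc_a_rc_5_2 lc_a_rc_0_1 lc_a_rc_0_1 lc_a_rc_6_2 lc_a_rc_4_2 lc_a_rc_6_2 lc_a_rc_6_2 lc_a_rc_3_2 lc_a_rc_8_2 lc_a_rc_7_2 lc_a_rc_2_0 lc_a_rc_3_0 lc_a_rc_5_0 lc_a_rc_2_2 lc_a_rc_2_2 lc_a_rc_5_2 lc_a_rc_6_2 lc_a_rc_5_2 lc_a_rc_3_2 lc_a_rc_3_2 lc_a_rc_3_2 lc_a_rc_4_2 lc_a_rc_3_2 lc_a_rc_2_2 lc_a_rc_3_2 lc_a_rc_4_2 lc_a_rc_4_2 lc_a_rc_4_2 lc_a_rc_3_2 lc_a_rc_6_2 lc_a_rc_9_2 lc_a_rc_5_2 lc_a_rc_4_2 lc_a_rc_4_2 lc_a_rc_4_2 lc_a_rc_9_2 lc_a_rc_5_2 lc_a_rc_6_2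 lc_a_rc_3_2 lc_a_rc_4_2 lc_a_rc_4_2 lc_a_rc_9_2) (@D3.rec (fun _ => (Cert rels S Gen.a)) lc_a_rc_5_2 lc_a_rc_4_2 lc_a_rc_4_2 lc_a_rc_4_2 lc_a_rc_3_2 lc_a_rc_4_2 lc_a_rc_4_2 lc_a_rc_4_2 lc_a_rc_3_2 lc_a_rc_2_2 lc_a_rc_6_2 lc_a_rc_9_2 lc_a_rc_5_2 lc_a_rc_9_2 lc_a_rc_5_2 lc_a_rc_5_2 lc_a_rc_5_2 lc_a_rc_4_2 lc_a_rc_7_2 lc_a_rc_5_2 lc_a_rc_9_2 lc_a_rc_5_2 lc_a_rc_6_2 lc_a_rc_5_2 lc_a_rc_3_2 lc_a_rc_0_1 lc_a_rc_0_1 lc_a_rc_6_2 lc_a_rc_1_4 lc_a_rc_1_4 lc_a_rc_6_2 lc_a_rc_9_2 lc_a_rc_5_2 lc_a_rc_6_2 lc_a_rc_2_2 lc_a_rc_8_2 lc_a_rc_5_2 lc_a_rc_9_2 lc_a_rc_4_2 lc_a_rc_2_2 lc_a_rc_2_2 lc_a_rc_4_2 lc_a_rc_4_0 lc_a_rc_7_0 lc_a_rc_1_2 lc_a_rc_4_0 lc_a_rc_2_0 lc_a_rc_9_2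 lc_a_rc_56_21 lc_a_rc_5_0 lc_a_rc_5_2) (@D3.rec (fun _ => (Cert rels S Gen.a)) lc_a_rc_2_2 lc_a_rc_2_2 lc_a_rc_2_2 lc_a_rc_3_2 lc_a_rc_3_2 lc_a_rc_9_0 lc_a_rc_3_2 lc_a_rc_4_0 lc_a_rc_3_2 lc_a_rc_5_2 lc_a_rc_6_2 lc_a_rc_5_2 lc_a_rc_3_2 lc_a_rc_5_2 lc_a_rc_3_2 lc_a_rc_6_2 lc_a_rc_7_2 lc_a_rc_2_2 lc_a_rc_4_2 lc_a_rc_6_0 lc_a_rc_5_2 lc_a_rc_1_2 lc_a_rc_4_2 lc_a_rc_1_2 lc_a_rc_6_2 lc_a_rc_5_2 lc_a_rc_9_2 lc_a_rc_1_2 lc_a_rc_1_2 lc_a_rc_0_1 lc_a_rc_1_4 lc_a_rc_3_2 lc_a_rc_5_2 lc_a_rc_3_2 lc_a_rc_1_0 lc_a_rc_5_2 lc_a_rc_5_2 lc_a_rc_3_2 lc_a_rc_4_2 lc_a_rc_3_2 lc_a_rc_2_2 lc_a_rc_4_2 lc_a_rc_6_2 lc_a_rc_2_2 lc_a_rc_56_56 lc_a_rc_3_2 lc_a_rc_5_2 lc_a_rc_4_0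 lc_a_rc_6_2 lc_a_rc_2_2 lc_a_rc_6_2) (@D3.rec (fun _ => (Cert rels S Gen.a)) lc_a_rc_4_2 lc_a_rc_6_2 lc_a_rc_5_2 lc_a_rc_7_2 lc_a_rc_2_2 lc_a_rc_1_4 lc_a_rc_3_2 lc_a_rc_3_2 lc_a_rc_56_56 lc_a_rc_8_2 lc_a_rc_4_2 lc_a_rc_3_2 lc_a_rc_3_2 lc_a_rc_3_2 lc_a_rc_5_2 lc_a_rc_5_2 lc_a_rc_6_2 lc_a_rc_7_2 lc_a_rc_6_2 lc_a_rc_1_4 lc_a_rc_3_2 lc_a_rc_0_0 lc_a_rc_2_2 lc_a_rc_2_2 lc_a_rc_4_2 lc_a_rc_3_2 lc_a_rc_1_2 lc_a_rc_5_2 lc_a_rc_5_2 lc_a_rc_3_2 lc_a_rc_5_2 lc_a_rc_0_0 lc_a_rc_2_0 lc_a_rc_3_2 lc_a_rc_0_0 lc_a_rc_9_2 lc_a_rc_5_2 lc_a_rc_7_2 lc_a_rc_3_2 lc_a_rc_6_2 lc_a_rc_3_2 lc_a_rc_3_2 lc_a_rc_2_2 lc_a_rc_2_2 lc_a_rc_3_2 lc_a_rc_3_2 lc_a_rc_3_2 lc_a_rc_3_2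 lc_a_rc_3_2 lc_a_rc_2_2 lc_a_rc_0_0) (@D3.rec (fun _ => (Cert rels S Gen.a)) lc_a_rc_1_4 lc_a_rc_9_2 lc_a_rc_2_2 lc_a_rc_2_2 lc_a_rc_2_2 lc_a_rc_3_2 lc_a_rc_4_2 lc_a_rc_9_2 lc_a_rc_1_4 lc_a_rc_5_2 lc_a_rc_2_2 lc_a_rc_4_2 lc_a_rc_4_2 lc_a_rc_4_2 lc_a_rc_3_2 lc_a_rc_2_2 lc_a_rc_9_2 lc_a_rc_5_2 lc_a_rc_1_2 lc_a_rc_1_2 lc_a_rc_1_2 lc_a_rc_4_2 lc_a_rc_3_2 lc_a_rc_4_2 lc_a_rc_5_2 lc_a_rc_7_2 lc_a_rc_6_2 lc_a_rc_3_2 lc_a_rc_4_2 lc_a_rc_6_2 lc_a_rc_4_2 lc_a_rc_4_2 lc_a_rc_6_2 lc_a_rc_5_2 lc_a_rc_6_2 lc_a_rc_6_2 lc_a_rc_5_2 lc_a_rc_9_2 lc_a_rc_5_2 lc_a_rc_3_2 lc_a_rc_9_2 lc_a_rc_6_2 lc_a_rc_4_2 lc_a_rc_6_2 lc_a_rc_3_2 lc_a_rc_2_2 lc_a_rc_5_2 lc_a_rc_6_2 lc_a_rc_9_2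 lc_a_rc_2_2 lc_a_rc_3_2) (@D3.rec (fun _ => (Cert rels S Gen.a)) lc_a_rc_0_0 lc_a_rc_5_2 lc_a_rc_3_2 lc_a_rc_7_2 lc_a_rc_5_2 lc_a_rc_2_2 lc_a_rc_6_2 lc_a_rc_1_2 lc_a_rc_3_2 lc_a_rc_3_2 lc_a_rc_7_2 lc_a_rc_56_28 lc_a_rc_4_0 lc_a_rc_7_2 lc_a_rc_7_2 lc_a_rc_3_2 lc_a_rc_4_0 lc_a_rc_3_2 lc_a_rc_8_2 lc_a_rc_9_0 lc_a_rc_4_2 lc_a_rc_6_2 lc_a_rc_4_2 lc_a_rc_6_2 lc_a_rc_4_2 lc_a_rc_4_2 lc_a_rc_6_2 lc_a_rc_8_2 lc_a_rc_9_0 lc_a_rc_5_0 lc_a_rc_3_2 lc_a_rc_3_0 lc_a_rc_6_2 lc_a_rc_4_2 lc_a_rc_2_2 lc_a_rc_2_0 lc_a_rc_4_2 lc_a_rc_7_2 lc_a_rc_4_2 lc_a_rc_8_2 lc_a_rc_4_2 lc_a_rc_4_2 lc_a_rc_6_2 lc_a_rc_4_2 lc_a_rc_1_4 lc_a_rc_3_2 lc_a_rc_4_2 lc_a_rc_4_2 lc_a_rc_6_2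 lc_a_rc_4_2 lc_a_rc_4_2) (@D3.rec (fun _ => (Cert rels S Gen.a)) lc_a_rc_9_0 lc_a_rc_8_2 lc_a_rc_8_2 lc_a_rc_9_0 lc_a_rc_6_2 lc_a_rc_4_2 lc_a_rc_1_4 lc_a_rc_6_2 lc_a_rc_4_2 lc_a_rc_2_2 lc_a_rc_6_2 lc_a_rc_2_0 lc_a_rc_56_14 lc_a_rc_1_0 lc_a_rc_2_2 lc_a_rc_0_0 lc_a_rc_3_0 lc_a_rc_5_2 lc_a_rc_5_0 lc_a_rc_2_0 lc_a_rc_1_0 lc_a_rc_4_2 lc_a_rc_2_2 lc_a_rc_7_2 lc_a_rc_1_4 lc_a_rc_4_0 lc_a_rc_5_2 lc_a_rc_3_2 lc_a_rc_4_2 lc_a_rc_6_2 lc_a_rc_2_2 lc_a_rc_2_2 lc_a_rc_2_2 lc_a_rc_2_0 lc_a_rc_7_0 lc_a_rc_1_2 lc_a_rc_1_2 lc_a_rc_1_2 lc_a_rc_1_2 lc_a_rc_1_2 lc_a_rc_1_2 lc_a_rc_1_2 lc_a_rc_1_2 lc_a_rc_2_2 lc_a_rc_1_2 lc_a_rc_1_2 lc_a_rc_2_2 lc_a_rc_2_2 lc_a_rc_4_2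 lc_a_rc_1_2 lc_a_rc_1_2) (@D3.rec (fun _ => (Cert rels S Gen.a)) lc_a_rc_2_2 lc_a_rc_1_2 lc_a_rc_2_2 lc_a_rc_1_2 lc_a_rc_1_2 lc_a_rc_3_2 lc_a_rc_56_21 lc_a_rc_5_2 lc_a_rc_4_2 lc_a_rc_4_2 lc_a_rc_3_2 lc_a_rc_4_2 lc_a_rc_9_2 lc_a_rc_4_2 lc_a_rc_2_2 lc_a_rc_4_2 lc_a_rc_4_2 lc_a_rc_9_2 lc_a_rc_9_2 lc_a_rc_2_2 lc_a_rc_9_2 lc_a_rc_9_2 lc_a_rc_3_2 lc_a_rc_3_2 lc_a_rc_4_2 lc_a_rc_3_2 lc_a_rc_4_2 lc_a_rc_5_2 lc_a_rc_2_2 lc_a_rc_2_2 lc_a_rc_7_2 lc_a_rc_6_2 lc_a_rc_5_2 lc_a_rc_3_2 lc_a_rc_8_2 lc_a_rc_7_2 lc_a_rc_6_2 lc_a_rc_3_2 lc_a_rc_8_2 lc_a_rc_7_2 lc_a_rc_3_2 lc_a_rc_8_2 lc_a_rc_7_2 lc_a_rc_3_2 lc_a_rc_8_2 lc_a_rc_3_2 lc_a_rc_3_2 lc_a_rc_8_2 lc_a_rc_4_2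 lc_a_rc_7_2 lc_a_Cert_tree) (@D3.rec (fun _ => (Cert rels S Gen.a)) lc_a_rc_3_0 lc_a_rc_4_0 lc_a_rc_6_2 lc_a_rc_4_2 lc_a_rc_5_2 lc_a_rc_3_2 lc_a_rc_4_0 lc_a_rc_6_2 lc_a_rc_4_2 lc_a_rc_1_2 lc_a_rc_4_2 lc_a_rc_4_2 lc_a_rc_9_2 lc_a_rc_4_2 lc_a_rc_6_2 lc_a_rc_3_2 lc_a_rc_4_2 lc_a_rc_4_2 lc_a_rc_2_2 lc_a_rc_4_2 lc_a_rc_4_2 lc_a_rc_4_2 lc_a_rc_4_2 lc_a_rc_5_2 lc_a_rc_2_0 lc_a_rc_1_4 lc_a_rc_5_2 lc_a_rc_5_2 lc_a_rc_6_2 lc_a_rc_5_2 lc_a_rc_3_2 lc_a_rc_9_0 lc_a_rc_6_2 lc_a_rc_9_2 lc_a_rc_3_2 lc_a_rc_3_2 lc_a_rc_3_2 lc_a_rc_5_0 lc_a_rc_4_2 lc_a_rc_2_2 lc_a_rc_2_2 lc_a_rc_6_2 lc_a_rc_4_2 lc_a_rc_5_2 lc_a_rc_0_0 lc_a_rc_4_2 lc_a_rc_9_2 lc_a_rc_4_2 lc_a_rc_5_2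 lc_a_rc_4_2 lc_a_rc_4_2) (@D3.rec (fun _ => (Cert rels S Gen.a)) lc_a_rc_5_2 lc_a_rc_4_2 lc_a_rc_9_2 lc_a_rc_3_2 lc_a_rc_4_2 lc_a_rc_9_2 lc_a_rc_5_2 lc_a_rc_3_0 lc_a_rc_2_2 lc_a_rc_4_2 lc_a_rc_4_2 lc_a_rc_2_2 lc_a_rc_3_2 lc_a_rc_8_2 lc_a_rc_7_2 lc_a_rc_6_2 lc_a_rc_3_2 lc_a_rc_9_2 lc_a_rc_5_2 lc_a_rc_3_2 lc_a_rc_2_0 lc_a_rc_2_0 lc_a_rc_5_2 lc_a_rc_3_2 lc_a_rc_5_2 lc_a_rc_6_2 lc_a_rc_5_2 lc_a_rc_3_2 lc_a_rc_7_2 lc_a_rc_6_2 lc_a_rc_6_2 lc_a_rc_3_2 lc_a_rc_8_2 lc_a_rc_7_2 lc_a_rc_3_2 lc_a_rc_2_2 lc_a_rc_3_2 lc_a_rc_1_2 lc_a_rc_3_2 lc_a_rc_3_2 lc_a_rc_6_2 lc_a_rc_8_2 lc_a_rc_3_2 lc_a_rc_1_2 lc_a_rc_3_0 lc_a_rc_5_2 lc_a_rc_3_2 lc_a_rc_3_2 lc_a_rc_8_2 lc_a_rc_3_2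 lc_a_rc_3_2) (@D3.rec (fun _ => (Cert rels S Gen.a)) lc_a_rc_4_2 lc_a_rc_1_2 lc_a_rc_3_2 lc_a_rc_3_2 lc_a_rc_9_2 lc_a_rc_5_2 lc_a_rc_3_2 lc_a_rc_3_2 lc_a_rc_9_2 lc_a_rc_5_2 lc_a_rc_4_0 lc_a_rc_3_2 lc_a_rc_5_2 lc_a_rc_3_2 lc_a_rc_4_0 lc_a_rc_5_2 lc_a_rc_3_2 lc_a_rc_4_2 lc_a_rc_5_2 lc_a_rc_3_2 lc_a_rc_4_2 lc_a_rc_1_2 lc_a_rc_6_2 lc_a_rc_7_2 lc_a_rc_5_2 lc_a_rc_3_2 lc_a_rc_5_2 lc_a_rc_6_2 lc_a_rc_3_2 lc_a_rc_9_2 lc_a_rc_2_2 lc_a_rc_9_2 lc_a_rc_9_2 lc_a_rc_3_2 lc_a_rc_5_2 lc_a_rc_2_2 lc_a_rc_5_2 lc_a_rc_3_2 lc_a_rc_3_2 lc_a_rc_9_2 lc_a_rc_56_42 lc_a_rc_2_2 lc_a_rc_9_2 lc_a_rc_9_2 lc_a_rc_5_2 lc_a_rc_0_0 lc_a_rc_5_2 lc_a_rc_3_2 lc_a_rc_5_2 lc_a_rc_3_2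 lc_a_rc_56_35) (@D3.rec (fun _ => (Cert rels S Gen.a)) lc_a_rc_1_0 lc_a_rc_1_4 lc_a_rc_56_42 lc_a_rc_5_2 lc_a_rc_5_2 lc_a_rc_8_0 lc_a_rc_5_2 lc_a_rc_9_2 lc_a_rc_2_2 lc_a_rc_9_2 lc_a_rc_56_49 lc_a_rc_2_2 lc_a_rc_2_2 lc_a_rc_9_2 lc_a_rc_5_2 lc_a_rc_5_2 lc_a_rc_2_2 lc_a_rc_6_2 lc_a_rc_5_2 lc_a_rc_56_28 lc_a_rc_2_2 lc_a_rc_3_2 lc_a_rc_3_2 lc_a_rc_56_28 lc_a_rc_2_2 lc_a_rc_1_4 lc_a_rc_4_2 lc_a_rc_0_1 lc_a_rc_9_2 lc_a_rc_2_2 lc_a_rc_1_4 lc_a_rc_5_2 lc_a_rc_2_2 lc_a_rc_3_2 lc_a_rc_6_2 lc_a_rc_3_2 lc_a_rc_2_2 lc_a_rc_1_2 lc_a_rc_3_2 lc_a_rc_0_1 lc_a_rc_5_2 lc_a_rc_5_2 lc_a_rc_3_2 lc_a_rc_2_2 lc_a_rc_3_2 lc_a_rc_4_2 lc_a_rc_5_2 lc_a_rc_5_2 lc_a_rc_2_2 lc_a_rc_2_2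 lc_a_rc_1_4) (@D3.rec (fun _ => (Cert rels S Gen.a)) lc_a_rc_6_2 lc_a_rc_5_2 lc_a_rc_7_2 lc_a_rc_3_2 lc_a_rc_3_2 lc_a_rc_3_2 lc_a_rc_3_2 lc_a_rc_5_2 lc_a_rc_9_2 lc_a_rc_2_2 lc_a_rc_4_2 lc_a_rc_9_2 lc_a_rc_9_2 lc_a_rc_2_2 lc_a_rc_6_2 lc_a_rc_9_2 lc_a_rc_9_2 lc_a_rc_2_2 lc_a_rc_9_2 lc_a_rc_3_2 lc_a_rc_2_2 lc_a_rc_4_2 lc_a_rc_3_2 lc_a_rc_2_2 lc_a_rc_2_2 lc_a_rc_6_2 lc_a_rc_4_2 lc_a_rc_5_2 lc_a_rc_5_2 lc_a_rc_2_2 lc_a_rc_6_2 lc_a_rc_5_2 lc_a_rc_1_4 lc_a_rc_3_2 lc_a_rc_3_2 lc_a_rc_6_2 lc_a_rc_3_2 lc_a_rc_2_2 lc_a_rc_3_2 lc_a_rc_5_2 lc_a_rc_4_2 lc_a_rc_6_0 lc_a_rc_4_2 lc_a_rc_9_2 lc_a_rc_1_4 lc_a_rc_4_2 lc_a_rc_2_2 lc_a_rc_4_2 lc_a_rc_4_2 lc_a_rc_9_2 lc_a_rc_9_2)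 (@D3.rec (fun _ => (Cert rels S Gen.a)) lc_a_rc_1_4 lc_a_rc_2_2 lc_a_rc_6_2 lc_a_rc_9_2 lc_a_rc_9_2 lc_a_rc_1_4 lc_a_rc_5_2 lc_a_rc_3_2 lc_a_rc_9_2 lc_a_rc_5_2 lc_a_rc_3_2 lc_a_rc_4_2 lc_a_rc_3_2 lc_a_rc_4_2 lc_a_rc_5_2 lc_a_rc_4_2 lc_a_rc_6_2 lc_a_rc_4_2 lc_a_rc_2_2 lc_a_rc_2_2 lc_a_rc_1_2 lc_a_rc_6_2 lc_a_rc_5_2 lc_a_rc_5_2 lc_a_rc_3_2 lc_a_rc_8_0 lc_a_rc_6_2 lc_a_rc_3_2 lc_a_rc_5_2 lc_a_rc_3_2 lc_a_rc_1_4 lc_a_rc_7_2 lc_a_rc_5_2 lc_a_rc_0_0 lc_a_rc_2_0 lc_a_rc_5_2 lc_a_rc_0_0 lc_a_rc_5_2 lc_a_rc_3_2 lc_a_rc_5_0 lc_a_rc_3_2 lc_a_rc_6_2 lc_a_rc_2_0 lc_a_rc_4_2 lc_a_rc_3_2 lc_a_rc_1_4 lc_a_rc_3_2 lc_a_rc_5_2 lc_a_rc_4_2 lc_a_rc_6_2 lc_a_rc_5_2) (@D3.rec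 (fun _ => (Cert rels S Gen.a)) lc_a_rc_4_2 lc_a_rc_6_2 lc_a_rc_6_2 lc_a_rc_4_2 lc_a_rc_6_2 lc_a_rc_1_2 lc_a_rc_1_2 lc_a_rc_5_2 lc_a_rc_7_2 lc_a_rc_5_2 lc_a_rc_5_2 lc_a_rc_3_2 lc_a_rc_3_2 lc_a_rc_9_2 lc_a_rc_2_2 lc_a_rc_4_2 lc_a_rc_3_2 lc_a_rc_2_2 lc_a_rc_4_2 lc_a_rc_9_2 lc_a_rc_5_2 lc_a_rc_4_2 lc_a_rc_2_2 lc_a_rc_4_2 lc_a_rc_4_2 lc_a_rc_9_2 lc_a_rc_2_2 lc_a_rc_9_2 lc_a_rc_9_2 lc_a_rc_2_2 lc_a_rc_2_2 lc_a_rc_2_2 lc_a_rc_9_2 lc_a_rc_9_2 lc_a_rc_1_4 lc_a_rc_2_2 lc_a_rc_3_2 lc_a_rc_3_2 lc_a_rc_4_2 lc_a_rc_3_2 lc_a_rc_2_2 lc_a_rc_2_2 lc_a_rc_6_2 lc_a_rc_4_2 lc_a_rc_5_2 lc_a_rc_0_0 lc_a_rc_56_14 lc_a_rc_9_2 lc_a_rc_2_2 lc_a_rc_2_2 lc_a_rc_2_2) (@D3.rec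 (fun _ => (Cert rels S Gen.a)) lc_a_rc_6_2 lc_a_rc_5_2 lc_a_rc_2_2 lc_a_rc_6_2 lc_a_rc_5_2 lc_a_rc_9_2 lc_a_rc_5_2 lc_a_rc_2_2 lc_a_rc_2_2 lc_a_rc_3_2 lc_a_rc_6_2 lc_a_rc_3_2 lc_a_rc_5_2 lc_a_rc_1_4 lc_a_rc_1_4 lc_a_rc_3_2 lc_a_rc_4_2 lc_a_rc_2_2 lc_a_rc_1_2 lc_a_rc_6_2 lc_a_rc_3_2 lc_a_rc_2_2 lc_a_rc_1_2 lc_a_rc_2_2 lc_a_rc_5_2 lc_a_rc_1_4 lc_a_rc_3_2 lc_a_rc_5_2 lc_a_rc_1_4 lc_a_rc_4_2 lc_a_rc_0_0 lc_a_rc_1_4 lc_a_rc_3_0 lc_a_rc_4_2 lc_a_rc_3_2 lc_a_rc_4_0 lc_a_rc_2_2 lc_a_rc_2_2 lc_a_rc_6_2 lc_a_rc_4_2 lc_a_rc_5_2 lc_a_rc_4_2 lc_a_rc_6_2 lc_a_rc_4_2 lc_a_rc_2_2 lc_a_rc_0_1 lc_a_rc_4_2 lc_a_rc_9_2 lc_a_rc_4_2 lc_a_rc_6_2 lc_a_rc_3_2)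
def ce_a_15 : D2 → D3 → (Cert rels S Gen.a) := @D2.rec (fun _ => D3 → (Cert rels S Gen.a)) (@D3.rec (fun _ => (Cert rels S Gen.a)) lc_a_rc_4_2 lc_a_rc_4_2 lc_a_rc_2_2 lc_a_rc_5_2 lc_a_rc_4_2 lc_a_rc_4_2 lc_a_rc_2_2 lc_a_rc_9_2 lc_a_rc_1_4 lc_a_rc_5_2 lc_a_rc_2_2 lc_a_rc_2_2 lc_a_rc_3_2 lc_a_rc_7_2 lc_a_rc_9_2 lc_a_rc_3_2 lc_a_rc_3_2 lc_a_rc_3_2 lc_a_rc_4_2 lc_a_rc_7_2 lc_a_rc_6_2 lc_a_rc_2_2 lc_a_rc_4_2 lc_a_rc_4_2 lc_a_rc_5_2 lc_a_rc_4_2 lc_a_rc_4_2 lc_a_rc_2_2 lc_a_rc_2_2 lc_a_rc_6_2 lc_a_rc_5_2 lc_a_rc_4_2 lc_a_rc_9_2 lc_a_rc_3_2 lc_a_rc_4_2 lc_a_rc_9_2 lc_a_rc_5_2 lc_a_rc_6_2 lc_a_rc_4_2 lc_a_rc_4_2 lc_a_rc_2_2 lc_a_rc_2_2 lc_a_rc_2_2 lc_a_rc_3_2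 lc_a_rc_3_2 lc_a_rc_3_2 lc_a_rc_6_2 lc_a_rc_3_2 lc_a_rc_8_2 lc_a_rc_2_2 lc_a_rc_3_2) (@D3.rec (fun _ => (Cert rels S Gen.a)) lc_a_rc_6_2 lc_a_rc_3_2 lc_a_rc_5_2 lc_a_rc_6_2 lc_a_rc_5_2 lc_a_rc_3_2 lc_a_rc_2_2 lc_a_rc_2_2 lc_a_rc_3_2 lc_a_rc_4_2 lc_a_rc_3_2 lc_a_rc_5_2 lc_a_rc_3_2 lc_a_rc_2_2 lc_a_rc_3_2 lc_a_rc_2_2 lc_a_rc_2_2 lc_a_rc_2_0 lc_a_rc_2_2 lc_a_rc_4_2 lc_a_rc_4_2 lc_a_rc_5_2 lc_a_rc_5_2 lc_a_rc_5_0 lc_a_rc_3_2 lc_a_rc_2_2 lc_a_rc_4_2 lc_a_rc_1_4 lc_a_rc_2_2 lc_a_rc_9_0 lc_a_rc_2_2 lc_a_rc_5_2 lc_a_rc_6_2 lc_a_rc_3_2 lc_a_rc_9_2 lc_a_rc_5_2 lc_a_rc_2_2 lc_a_rc_3_2 lc_a_rc_5_2 lc_a_rc_3_2 lc_a_rc_2_2 lc_a_rc_5_2 lc_a_rc_3_2 lc_a_rc_4_2 lc_a_rc_2_2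 lc_a_rc_6_2 lc_a_rc_5_2 lc_a_rc_6_2 lc_a_rc_4_2 lc_a_rc_6_2 lc_a_rc_4_2) (@D3.rec (fun _ => (Cert rels S Gen.a)) lc_a_rc_2_2 lc_a_rc_4_2 lc_a_rc_6_2 lc_a_rc_1_4 lc_a_rc_3_2 lc_a_rc_1_4 lc_a_rc_1_4 lc_a_rc_4_2 lc_a_rc_3_2 lc_a_rc_4_2 lc_a_rc_5_2 lc_a_rc_6_2 lc_a_rc_5_2 lc_a_rc_5_2 lc_a_rc_6_2 lc_a_rc_3_2 lc_a_rc_3_2 lc_a_rc_3_2 lc_a_rc_3_2 lc_a_rc_3_2 lc_a_rc_2_2 lc_a_rc_2_2 lc_a_rc_3_2 lc_a_rc_3_2 lc_a_rc_3_2 lc_a_rc_5_2 lc_a_rc_7_2 lc_a_rc_6_2 lc_a_rc_4_2 lc_a_rc_2_2 lc_a_rc_6_2 lc_a_rc_4_2 lc_a_rc_6_2 lc_a_rc_4_2 lc_a_rc_6_2 lc_a_rc_4_2 lc_a_rc_5_2 lc_a_rc_7_2 lc_a_rc_6_2 lc_a_rc_4_2 lc_a_rc_5_2 lc_a_rc_4_2 lc_a_rc_2_2 lc_a_rc_4_2 lc_a_rc_5_2 lc_a_rc_4_2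 lc_a_rc_7_0 lc_a_rc_3_2 lc_a_rc_4_2 lc_a_rc_4_2 lc_a_rc_4_2) (@D3.rec (fun _ => (Cert rels S Gen.a)) lc_a_rc_4_2 lc_a_rc_6_2 lc_a_rc_3_2 lc_a_rc_5_2 lc_a_rc_3_2 lc_a_rc_2_2 lc_a_rc_2_0 lc_a_rc_1_2 lc_a_rc_3_2 lc_a_rc_2_2 lc_a_rc_5_2 lc_a_rc_3_2 lc_a_rc_2_2 lc_a_rc_7_0 lc_a_rc_5_2 lc_a_rc_5_0 lc_a_rc_2_2 lc_a_rc_4_2 lc_a_rc_3_2 lc_a_rc_3_0 lc_a_rc_1_2 lc_a_rc_1_2 lc_a_rc_1_2 lc_a_rc_1_2 lc_a_rc_1_2 lc_a_rc_1_2 lc_a_rc_1_2 lc_a_rc_2_2 lc_a_rc_2_2 lc_a_rc_1_2 lc_a_rc_1_2 lc_a_rc_3_2 lc_a_rc_2_2 lc_a_rc_2_2 lc_a_rc_1_2 lc_a_rc_2_2 lc_a_rc_3_2 lc_a_rc_4_2 lc_a_rc_3_2 lc_a_rc_2_2 lc_a_rc_2_2 lc_a_rc_6_2 lc_a_rc_4_2 lc_a_rc_5_2 lc_a_rc_4_2 lc_a_rc_9_2 lc_a_rc_4_2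 lc_a_rc_4_2 lc_a_rc_9_2 lc_a_rc_4_2 lc_a_rc_4_2) (@D3.rec (fun _ => (Cert rels S Gen.a)) lc_a_rc_7_2 lc_a_rc_9_2 lc_a_rc_9_2 lc_a_rc_9_2 lc_a_rc_3_2 lc_a_rc_2_2 lc_a_rc_2_2 lc_a_rc_2_2 lc_a_rc_6_2 lc_a_rc_4_2 lc_a_rc_5_2 lc_a_rc_3_2 lc_a_rc_2_2 lc_a_rc_2_2 lc_a_rc_2_2 lc_a_rc_7_2 lc_a_rc_6_2 lc_a_rc_5_2 lc_a_rc_3_2 lc_a_rc_4_2 lc_a_rc_6_2 lc_a_rc_3_2 lc_a_rc_5_2 lc_a_rc_3_2 lc_a_rc_2_2 lc_a_rc_2_2 lc_a_rc_6_2 lc_a_rc_3_2 lc_a_rc_2_2 lc_a_rc_2_2 lc_a_rc_2_2 lc_a_rc_7_2 lc_a_rc_6_2 lc_a_rc_3_2 lc_a_rc_2_2 lc_a_rc_3_2 lc_a_rc_3_2 lc_a_rc_2_2 lc_a_rc_2_2 lc_a_rc_7_2 lc_a_rc_3_2 lc_a_rc_2_2 lc_a_rc_2_2 lc_a_rc_4_2 lc_a_rc_2_2 lc_a_rc_3_2 lc_a_rc_3_2 lc_a_rc_9_2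 lc_a_rc_3_2 lc_a_rc_3_2 lc_a_rc_9_2) (@D3.rec (fun _ => (Cert rels S Gen.a)) lc_a_rc_5_2 lc_a_rc_3_2 lc_a_rc_4_0 lc_a_rc_3_2 lc_a_rc_2_2 lc_a_rc_4_0 lc_a_rc_6_2 lc_a_rc_4_2 lc_a_rc_5_2 lc_a_rc_0_0 lc_a_rc_4_2 lc_a_rc_9_2 lc_a_rc_1_2 lc_a_rc_2_2 lc_a_rc_2_2 lc_a_rc_2_2 lc_a_rc_3_2 lc_a_rc_6_2 lc_a_rc_5_2 lc_a_rc_4_2 lc_a_rc_2_2 lc_a_rc_5_2 lc_a_rc_4_2 lc_a_rc_9_2 lc_a_rc_4_2 lc_a_rc_2_0 lc_a_rc_2_2 lc_a_rc_4_2 lc_a_rc_3_2 lc_a_rc_4_2 lc_a_rc_4_2 lc_a_rc_4_2 lc_a_rc_3_2 lc_a_rc_4_2 lc_a_rc_6_2 lc_a_rc_3_2 lc_a_rc_3_2 lc_a_rc_3_2 lc_a_rc_4_2 lc_a_rc_4_2 lc_a_rc_4_2 lc_a_rc_4_2 lc_a_rc_4_2 lc_a_rc_4_2 lc_a_rc_3_2 lc_a_rc_5_2 lc_a_rc_5_2 lc_a_rc_2_2 lc_a_rc_4_2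 lc_a_rc_9_0 lc_a_rc_9_2) (@D3.rec (fun _ => (Cert rels S Gen.a)) lc_a_rc_9_2 lc_a_rc_3_2 lc_a_rc_6_2 lc_a_rc_6_2 lc_a_rc_1_2 lc_a_rc_1_2 lc_a_rc_6_2 lc_a_rc_6_2 lc_a_rc_3_2 lc_a_rc_2_2 lc_a_rc_9_2 lc_a_rc_5_2 lc_a_rc_4_2 lc_a_rc_3_2 lc_a_rc_1_4 lc_a_rc_1_4 lc_a_rc_3_2 lc_a_rc_3_2 lc_a_rc_7_2 lc_a_rc_2_2 lc_a_rc_2_2 lc_a_rc_2_2 lc_a_rc_4_2 lc_a_rc_6_2 lc_a_rc_5_2 lc_a_rc_4_2 lc_a_rc_9_2 lc_a_rc_7_2 lc_a_rc_4_2 lc_a_rc_9_2 lc_a_rc_5_2 lc_a_rc_3_2 lc_a_rc_3_2 lc_a_rc_3_2 lc_a_rc_2_2 lc_a_rc_2_2 lc_a_rc_2_2 lc_a_rc_3_2 lc_a_rc_4_2 lc_a_rc_7_2 lc_a_rc_6_2 lc_a_rc_3_2 lc_a_rc_9_2 lc_a_rc_5_2 lc_a_rc_3_2 lc_a_rc_4_2 lc_a_rc_4_2 lc_a_rc_4_2 lc_a_rc_5_2 lc_a_rc_6_2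 lc_a_rc_3_2) (@D3.rec (fun _ => (Cert rels S Gen.a)) lc_a_rc_5_2 lc_a_rc_3_2 lc_a_rc_9_2 lc_a_rc_5_2 lc_a_rc_4_2 lc_a_rc_4_2 lc_a_rc_2_2 lc_a_rc_3_2 lc_a_rc_4_2 lc_a_rc_4_2 lc_a_rc_4_2 lc_a_rc_3_2 lc_a_rc_2_2 lc_a_rc_5_2 lc_a_rc_6_2 lc_a_rc_5_2 lc_a_rc_3_2 lc_a_rc_7_2 lc_a_rc_2_2 lc_a_rc_2_2 lc_a_rc_3_2 lc_a_rc_4_2 lc_a_rc_7_2 lc_a_rc_7_2 lc_a_rc_3_2 lc_a_rc_2_2 lc_a_rc_6_2 lc_a_rc_6_2 lc_a_rc_6_2 lc_a_rc_3_2 lc_a_rc_8_2 lc_a_rc_6_2 lc_a_rc_3_2 lc_a_rc_2_2 lc_a_rc_4_2 lc_a_rc_6_2 lc_a_rc_6_2 lc_a_rc_3_2 lc_a_rc_2_2 lc_a_rc_4_2 lc_a_Cert_tree lc_a_rc_2_0 lc_a_rc_5_2 lc_a_rc_8_2 lc_a_rc_1_2 lc_a_rc_56_42 lc_a_rc_3_2 lc_a_rc_1_4 lc_a_rc_0_0 lc_a_rc_5_2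 lc_a_rc_3_2) (@D3.rec (fun _ => (Cert rels S Gen.a)) lc_a_rc_2_2 lc_a_rc_4_2 lc_a_Cert_tree lc_a_rc_5_0 lc_a_rc_1_4 lc_a_rc_4_2 lc_a_Cert_tree lc_a_rc_2_2 lc_a_rc_0_0 lc_a_rc_4_2 lc_a_rc_7_2 lc_a_rc_7_2 lc_a_rc_3_2 lc_a_rc_5_2 lc_a_rc_4_2 lc_a_rc_5_2 lc_a_rc_4_2 lc_a_rc_9_2 lc_a_rc_3_2 lc_a_rc_2_2 lc_a_rc_3_2 lc_a_rc_6_2 lc_a_rc_2_2 lc_a_rc_9_2 lc_a_rc_8_2 lc_a_rc_9_2 lc_a_rc_7_0 lc_a_rc_5_2 lc_a_rc_4_0 lc_a_rc_4_2 lc_a_rc_3_2 lc_a_rc_3_2 lc_a_rc_3_2 lc_a_rc_3_2 lc_a_rc_4_0 lc_a_rc_2_2 lc_a_rc_3_2 lc_a_rc_2_2 lc_a_rc_3_2 lc_a_rc_5_2 lc_a_rc_0_0 lc_a_rc_3_2 lc_a_rc_2_0 lc_a_rc_2_0 lc_a_rc_4_2 lc_a_rc_3_2 lc_a_rc_3_2 lc_a_rc_6_2 lc_a_rc_5_2 lc_a_rc_6_2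 lc_a_rc_4_2) (@D3.rec (fun _ => (Cert rels S Gen.a)) lc_a_rc_5_2 lc_a_rc_56_14 lc_a_rc_3_2 lc_a_rc_4_2 lc_a_rc_6_2 lc_a_rc_4_2 lc_a_rc_4_2 lc_a_rc_4_2 lc_a_rc_6_2 lc_a_rc_5_0 lc_a_rc_4_2 lc_a_rc_4_2 lc_a_rc_4_2 lc_a_rc_4_2 lc_a_rc_3_2 lc_a_rc_6_2 lc_a_rc_3_2 lc_a_rc_1_2 lc_a_rc_6_2 lc_a_rc_5_2 lc_a_rc_6_2 lc_a_rc_6_2 lc_a_rc_3_2 lc_a_rc_3_2 lc_a_rc_3_2 lc_a_rc_5_2 lc_a_rc_3_2 lc_a_rc_5_2 lc_a_rc_5_2 lc_a_rc_2_2 lc_a_rc_7_0 lc_a_rc_3_2 lc_a_rc_5_2 lc_a_rc_3_2 lc_a_rc_5_2 lc_a_rc_4_2 lc_a_rc_4_2 lc_a_rc_4_2 lc_a_rc_9_2 lc_a_rc_9_2 lc_a_rc_5_2 lc_a_rc_4_2 lc_a_rc_6_2 lc_a_rc_3_2 lc_a_rc_9_2 lc_a_rc_5_2 lc_a_rc_2_2 lc_a_rc_5_2 lc_a_rc_1_4 lc_a_rc_5_2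 lc_a_rc_1_4) (@D3.rec (fun _ => (Cert rels S Gen.a)) lc_a_rc_4_2 lc_a_rc_5_2 lc_a_rc_4_2 lc_a_rc_3_2 lc_a_rc_6_2 lc_a_rc_4_2 lc_a_rc_6_2 lc_a_rc_4_2 lc_a_rc_3_2 lc_a_rc_4_2 lc_a_rc_2_2 lc_a_rc_4_2 lc_a_rc_2_2 lc_a_rc_3_2 lc_a_rc_56_21 lc_a_rc_2_2 lc_a_rc_2_2 lc_a_rc_6_2 lc_a_rc_4_2 lc_a_rc_5_2 lc_a_rc_0_1 lc_a_rc_6_2 lc_a_rc_3_2 lc_a_rc_2_2 lc_a_rc_2_2 lc_a_rc_2_2 lc_a_rc_6_2 lc_a_rc_5_2 lc_a_rc_2_2 lc_a_rc_4_2 lc_a_rc_6_2 lc_a_rc_3_2 lc_a_rc_3_2 lc_a_rc_2_2 lc_a_rc_2_2 lc_a_rc_3_2 lc_a_rc_6_2 lc_a_rc_3_2 lc_a_rc_5_2 lc_a_rc_2_2 lc_a_rc_2_2 lc_a_rc_3_2 lc_a_rc_6_2 lc_a_rc_1_4 lc_a_rc_2_2 lc_a_rc_3_2 lc_a_rc_4_2 lc_a_rc_2_2 lc_a_rc_5_0 lc_a_rc_2_2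 lc_a_rc_7_0) (@D3.rec (fun _ => (Cert rels S Gen.a)) lc_a_rc_3_2 lc_a_rc_2_2 lc_a_rc_3_2 lc_a_rc_5_2 lc_a_rc_9_2 lc_a_rc_56_35 lc_a_rc_1_4 lc_a_rc_5_2 lc_a_rc_3_2 lc_a_rc_4_2 lc_a_rc_5_2 lc_a_rc_1_4 lc_a_rc_4_2 lc_a_rc_4_2 lc_a_rc_6_2 lc_a_rc_0_0 lc_a_rc_3_2 lc_a_rc_9_2 lc_a_rc_2_2 lc_a_rc_3_0 lc_a_rc_5_2 lc_a_rc_5_2 lc_a_rc_7_2 lc_a_rc_5_0 lc_a_rc_3_2 lc_a_rc_56_21 lc_a_rc_5_2 lc_a_rc_6_2 lc_a_rc_3_2 lc_a_rc_7_0 lc_a_rc_7_0 lc_a_rc_5_2 lc_a_rc_3_2 lc_a_rc_4_2 lc_a_rc_4_2 lc_a_rc_6_2 lc_a_rc_3_2 lc_a_rc_2_2 lc_a_rc_3_2 lc_a_rc_4_2 lc_a_rc_4_2 lc_a_rc_3_2 lc_a_rc_4_2 lc_a_rc_4_2 lc_a_rc_3_2 lc_a_rc_5_2 lc_a_rc_3_2 lc_a_rc_6_2 lc_a_rc_5_2 lc_a_rc_2_2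 lc_a_rc_1_2) (@D3.rec (fun _ => (Cert rels S Gen.a)) lc_a_rc_6_2 lc_a_rc_3_0 lc_a_rc_6_2 lc_a_rc_2_2 lc_a_rc_2_2 lc_a_rc_6_2 lc_a_rc_5_2 lc_a_rc_3_2 lc_a_rc_3_2 lc_a_rc_5_2 lc_a_rc_3_2 lc_a_rc_8_2 lc_a_rc_3_2 lc_a_rc_2_2 lc_a_rc_2_2 lc_a_rc_3_2 lc_a_rc_6_2 lc_a_rc_3_2 lc_a_rc_6_2 lc_a_rc_9_2 lc_a_rc_5_2 lc_a_rc_2_2 lc_a_rc_4_2 lc_a_rc_2_2 lc_a_rc_4_2 lc_a_rc_9_2 lc_a_rc_5_2 lc_a_rc_2_2 lc_a_rc_5_0 lc_a_rc_6_2 lc_a_rc_3_2 lc_a_rc_3_0 lc_a_rc_5_2 lc_a_rc_3_0 lc_a_rc_4_2 lc_a_rc_2_2 lc_a_rc_3_2 lc_a_rc_4_2 lc_a_rc_4_2 lc_a_rc_4_2 lc_a_rc_3_2 lc_a_rc_2_2 lc_a_rc_6_2 lc_a_rc_9_2 lc_a_rc_5_2 lc_a_rc_9_2 lc_a_rc_5_2 lc_a_rc_3_2 lc_a_rc_2_2 lc_a_rc_3_2 lc_a_rc_4_2)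 (@D3.rec (fun _ => (Cert rels S Gen.a)) lc_a_rc_9_2 lc_a_rc_5_2 lc_a_rc_6_2 lc_a_rc_5_2 lc_a_rc_3_2 lc_a_rc_6_2 lc_a_rc_2_2 lc_a_rc_3_2 lc_a_rc_6_2 lc_a_rc_6_2 lc_a_rc_3_2 lc_a_rc_4_2 lc_a_rc_5_2 lc_a_rc_1_2 lc_a_rc_1_2 lc_a_rc_3_2 lc_a_rc_6_2 lc_a_rc_8_2 lc_a_rc_5_2 lc_a_rc_3_2 lc_a_rc_4_2 lc_a_rc_7_2 lc_a_rc_5_2 lc_a_rc_8_2 lc_a_rc_4_2 lc_a_rc_5_2 lc_a_rc_5_2 lc_a_rc_4_2 lc_a_rc_6_2 lc_a_rc_6_2 lc_a_rc_3_2 lc_a_rc_5_0 lc_a_rc_4_2 lc_a_rc_3_2 lc_a_rc_3_2 lc_a_rc_4_2 lc_a_rc_6_2 lc_a_rc_3_2 lc_a_rc_4_2 lc_a_rc_3_2 lc_a_rc_2_0 lc_a_rc_2_2 lc_a_rc_2_2 lc_a_rc_56_21 lc_a_rc_3_2 lc_a_rc_1_4 lc_a_rc_3_2 lc_a_rc_4_2 lc_a_rc_9_2 lc_a_rc_4_2 lc_a_rc_5_2)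 (@D3.rec (fun _ => (Cert rels S Gen.a)) lc_a_rc_2_2 lc_a_rc_2_2 lc_a_rc_5_2 lc_a_rc_3_2 lc_a_rc_4_2 lc_a_rc_7_2 lc_a_rc_3_2 lc_a_rc_5_0 lc_a_rc_4_2 lc_a_rc_3_2 lc_a_rc_4_2 lc_a_rc_6_2 lc_a_rc_4_2 lc_a_rc_3_2 lc_a_rc_0_1 lc_a_rc_4_2 lc_a_rc_5_2 lc_a_rc_3_2 lc_a_rc_5_2 lc_a_rc_2_2 lc_a_rc_4_2 lc_a_rc_2_2 lc_a_rc_3_2 lc_a_rc_4_2 lc_a_rc_3_2 lc_a_rc_6_2 lc_a_rc_3_2 lc_a_rc_4_2 lc_a_rc_3_2 lc_a_rc_4_2 lc_a_rc_5_2 lc_a_rc_5_0 lc_a_rc_2_2 lc_a_rc_3_2 lc_a_rc_4_2 lc_a_rc_6_2 lc_a_rc_7_2 lc_a_rc_3_2 lc_a_rc_4_2 lc_a_rc_2_2 lc_a_rc_4_2 lc_a_rc_3_2 lc_a_rc_0_1 lc_a_rc_4_2 lc_a_rc_5_2 lc_a_rc_5_2 lc_a_rc_2_2 lc_a_rc_3_2 lc_a_rc_3_2 lc_a_rc_4_2 lc_a_rc_4_2) (@D3.rec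 (fun _ => (Cert rels S Gen.a)) lc_a_rc_6_2 lc_a_rc_4_2 lc_a_rc_6_2 lc_a_rc_3_2 lc_a_rc_3_2 lc_a_rc_4_2 lc_a_rc_3_2 lc_a_rc_3_2 lc_a_rc_3_2 lc_a_rc_2_0 lc_a_rc_2_0 lc_a_rc_3_0 lc_a_rc_5_2 lc_a_rc_4_2 lc_a_rc_5_2 lc_a_rc_3_2 lc_a_rc_5_2 lc_a_rc_4_2 lc_a_rc_3_2 lc_a_rc_3_2 lc_a_rc_9_2 lc_a_rc_5_2 lc_a_rc_4_2 lc_a_rc_9_2 lc_a_rc_5_2 lc_a_rc_3_2 lc_a_rc_4_2 lc_a_rc_5_2 lc_a_rc_2_2 lc_a_rc_4_2 lc_a_rc_3_2 lc_a_rc_4_2 lc_a_rc_3_2 lc_a_rc_4_2 lc_a_rc_4_0 lc_a_rc_2_2 lc_a_rc_3_2 lc_a_rc_3_2 lc_a_rc_6_2 lc_a_rc_7_2 lc_a_rc_1_4 lc_a_rc_2_2 lc_a_rc_3_2 lc_a_rc_6_2 lc_a_rc_3_2 lc_a_rc_3_2 lc_a_rc_3_2 lc_a_rc_4_2 lc_a_rc_3_2 lc_a_rc_5_2 lc_a_rc_3_2) (@D3.rec (fun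 _ => (Cert rels S Gen.a)) lc_a_rc_4_2 lc_a_rc_5_2 lc_a_rc_3_2 lc_a_rc_4_2 lc_a_rc_6_2 lc_a_rc_6_2 lc_a_rc_6_2 lc_a_rc_6_2 lc_a_rc_4_2 lc_a_rc_5_2 lc_a_rc_5_2 lc_a_rc_3_2 lc_a_rc_4_2 lc_a_rc_7_2 lc_a_rc_7_2 lc_a_rc_4_2 lc_a_rc_4_2 lc_a_rc_3_2 lc_a_rc_6_2 lc_a_rc_7_2 lc_a_rc_7_2 lc_a_rc_4_2 lc_a_rc_6_2 lc_a_rc_5_2 lc_a_rc_4_2 lc_a_rc_3_2 lc_a_rc_5_2 lc_a_rc_3_2 lc_a_rc_3_2 lc_a_rc_6_2 lc_a_rc_4_2 lc_a_rc_9_2 lc_a_rc_4_2 lc_a_rc_3_2 lc_a_rc_56_49 lc_a_rc_2_0 lc_a_rc_4_2 lc_a_rc_4_2 lc_a_rc_3_2 lc_a_rc_4_2 lc_a_rc_6_2 lc_a_rc_3_2 lc_a_rc_3_2 lc_a_rc_2_2 lc_a_rc_6_2 lc_a_rc_4_2 lc_a_rc_6_2 lc_a_rc_4_0 lc_a_rc_6_2 lc_a_rc_6_2 lc_a_rc_2_2) (@D3.rec (fun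 _ => (Cert rels S Gen.a)) lc_a_rc_6_2 lc_a_rc_3_0 lc_a_rc_1_4 lc_a_rc_2_2 lc_a_rc_2_2 lc_a_rc_5_2 lc_a_rc_4_2 lc_a_rc_3_2 lc_a_rc_2_2 lc_a_rc_2_2 lc_a_rc_6_2 lc_a_rc_5_2 lc_a_rc_2_0 lc_a_rc_3_2 lc_a_rc_2_2 lc_a_rc_3_2 lc_a_rc_9_2 lc_a_rc_5_2 lc_a_rc_4_2 lc_a_rc_5_2 lc_a_rc_9_2 lc_a_rc_5_2 lc_a_rc_3_2 lc_a_rc_2_2 lc_a_rc_5_2 lc_a_rc_5_2 lc_a_rc_9_2 lc_a_rc_4_2 lc_a_rc_9_2 lc_a_rc_7_2 lc_a_rc_9_2 lc_a_rc_5_2 lc_a_rc_2_2 lc_a_rc_2_2 lc_a_rc_2_2 lc_a_rc_3_2 lc_a_rc_3_2 lc_a_rc_0_1 lc_a_rc_7_2 lc_a_rc_7_2 lc_a_rc_3_2 lc_a_rc_2_0 lc_a_rc_3_2 lc_a_rc_3_2 lc_a_rc_3_2 lc_a_rc_4_2 lc_a_rc_3_2 lc_a_rc_9_2 lc_a_rc_5_2 lc_a_rc_56_35 lc_a_rc_3_2) (@D3.rec (fun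 _ => (Cert rels S Gen.a)) lc_a_rc_3_2 lc_a_rc_4_2 lc_a_rc_5_2 lc_a_rc_3_2 lc_a_rc_3_2 lc_a_rc_3_2 lc_a_rc_3_2 lc_a_rc_4_2 lc_a_rc_4_2 lc_a_rc_4_2 lc_a_rc_6_2 lc_a_rc_3_2 lc_a_rc_4_2 lc_a_rc_4_2 lc_a_rc_3_2 lc_a_rc_2_2 lc_a_rc_5_2 lc_a_rc_5_2 lc_a_rc_4_2 lc_a_rc_6_2 lc_a_rc_3_2 lc_a_rc_8_2 lc_a_rc_6_2 lc_a_rc_6_2 lc_a_rc_6_2 lc_a_rc_2_2 lc_a_rc_8_2 lc_a_rc_2_0 lc_a_rc_6_2 lc_a_rc_2_2 lc_a_rc_3_2 lc_a_rc_6_2 lc_a_rc_3_2 lc_a_rc_3_2 lc_a_rc_4_2 lc_a_rc_5_2 lc_a_rc_5_2 lc_a_rc_3_2 lc_a_rc_4_2 lc_a_rc_4_2 lc_a_rc_5_2 lc_a_rc_3_2 lc_a_rc_2_2 lc_a_rc_9_2 lc_a_rc_5_2 lc_a_rc_4_2 lc_a_rc_4_2 lc_a_rc_4_2 lc_a_rc_5_2 lc_a_rc_3_2 lc_a_rc_5_2) (@D3.rec (fun _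 => (Cert rels S Gen.a)) lc_a_rc_3_2 lc_a_rc_4_2 lc_a_rc_5_2 lc_a_rc_9_2 lc_a_rc_5_2 lc_a_rc_4_2 lc_a_rc_4_2 lc_a_rc_3_2 lc_a_rc_2_2 lc_a_rc_3_2 lc_a_rc_4_2 lc_a_rc_4_2 lc_a_rc_3_2 lc_a_rc_2_2 lc_a_Cert_tree lc_a_rc_9_2 lc_a_rc_5_2 lc_a_rc_5_2 lc_a_rc_3_2 lc_a_rc_5_2 lc_a_rc_8_2 lc_a_rc_5_2 lc_a_rc_7_2 lc_a_rc_5_2 lc_a_rc_6_2 lc_a_rc_6_2 lc_a_rc_2_2 lc_a_rc_8_2 lc_a_rc_6_2 lc_a_rc_4_2 lc_a_rc_1_4 lc_a_rc_1_4 lc_a_rc_7_2 lc_a_rc_8_2 lc_a_rc_7_2 lc_a_rc_3_2 lc_a_rc_56_35 lc_a_rc_4_0 lc_a_rc_3_2 lc_a_rc_1_2 lc_a_rc_5_2 lc_a_rc_1_2 lc_a_rc_0_1 lc_a_rc_3_2 lc_a_rc_2_2 lc_a_rc_2_2 lc_a_rc_3_2 lc_a_rc_4_2 lc_a_rc_3_2 lc_a_rc_6_2 lc_a_rc_3_2) (@D3.rec (fun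 _ => (Cert rels S Gen.a)) lc_a_rc_3_2 lc_a_rc_3_2 lc_a_rc_3_2 lc_a_rc_6_2 lc_a_rc_1_2 lc_a_rc_0_1 lc_a_rc_3_2 lc_a_rc_9_2 lc_a_rc_5_2 lc_a_rc_5_2 lc_a_rc_3_2 lc_a_rc_3_2 lc_a_rc_3_2 lc_a_rc_1_2 lc_a_rc_4_2 lc_a_rc_0_0 lc_a_rc_2_2 lc_a_rc_5_0 lc_a_rc_4_2 lc_a_rc_7_2 lc_a_rc_2_2 lc_a_rc_4_2 lc_a_rc_4_2 lc_a_rc_4_2 lc_a_rc_3_2 lc_a_rc_1_4 lc_a_rc_1_2 lc_a_rc_3_2 lc_a_rc_6_2 lc_a_rc_5_2 lc_a_rc_2_2 lc_a_rc_5_2 lc_a_rc_2_2 lc_a_rc_3_2 lc_a_rc_5_2 lc_a_rc_1_2 lc_a_rc_3_2 lc_a_rc_1_2 lc_a_rc_5_2 lc_a_rc_0_0 lc_a_rc_3_2 lc_a_rc_7_2 lc_a_rc_7_2 lc_a_rc_6_2 lc_a_rc_3_2 lc_a_rc_3_2 lc_a_rc_3_2 lc_a_rc_2_2 lc_a_rc_2_2 lc_a_rc_2_2 lc_a_rc_3_2) (@D3.rec (fun _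 => (Cert rels S Gen.a)) lc_a_rc_4_2 lc_a_rc_3_2 lc_a_rc_5_2 lc_a_rc_9_2 lc_a_rc_1_4 lc_a_rc_1_4 lc_a_rc_5_2 lc_a_rc_2_2 lc_a_rc_2_2 lc_a_rc_5_2 lc_a_rc_5_2 lc_a_rc_5_2 lc_a_rc_1_4 lc_a_rc_2_2 lc_a_rc_3_2 lc_a_rc_2_2 lc_a_rc_1_2 lc_a_rc_1_2 lc_a_rc_5_2 lc_a_rc_5_2 lc_a_rc_7_2 lc_a_rc_4_2 lc_a_rc_6_2 lc_a_rc_4_2 lc_a_rc_4_2 lc_a_rc_6_2 lc_a_rc_6_2 lc_a_rc_3_2 lc_a_rc_5_2 lc_a_rc_3_2 lc_a_rc_4_2 lc_a_rc_4_2 lc_a_rc_1_2 lc_a_rc_3_2 lc_a_rc_4_2 lc_a_rc_3_2 lc_a_rc_6_2 lc_a_rc_5_2 lc_a_rc_3_2 lc_a_rc_3_2 lc_a_rc_5_2 lc_a_rc_5_2 lc_a_rc_0_0 lc_a_rc_1_2 lc_a_rc_3_2 lc_a_rc_3_2 lc_a_rc_4_2 lc_a_rc_1_2 lc_a_rc_3_2 lc_a_rc_4_0 lc_a_rc_7_2) (@D3.rec (fun _ =>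 (Cert rels S Gen.a)) lc_a_rc_7_2 lc_a_rc_5_0 lc_a_rc_3_2 lc_a_rc_3_2 lc_a_rc_0_0 lc_a_rc_4_2 lc_a_rc_7_2 lc_a_rc_4_2 lc_a_rc_0_0 lc_a_rc_4_2 lc_a_rc_4_2 lc_a_rc_6_2 lc_a_rc_3_2 lc_a_rc_4_2 lc_a_rc_0_0 lc_a_rc_4_2 lc_a_rc_4_2 lc_a_rc_8_2 lc_a_rc_9_0 lc_a_rc_6_2 lc_a_rc_4_2 lc_a_rc_5_0 lc_a_rc_6_2 lc_a_rc_3_2 lc_a_rc_2_2 lc_a_rc_1_2 lc_a_rc_4_2 lc_a_rc_7_2 lc_a_rc_4_2 lc_a_rc_4_2 lc_a_rc_0_0 lc_a_rc_4_2 lc_a_rc_4_2 lc_a_rc_4_2 lc_a_rc_3_2 lc_a_rc_4_2 lc_a_rc_1_4 lc_a_rc_3_2 lc_a_rc_5_2 lc_a_rc_3_2 lc_a_rc_4_2 lc_a_rc_4_2 lc_a_rc_6_2 lc_a_rc_4_2 lc_a_rc_3_2 lc_a_rc_0_0 lc_a_rc_8_2 lc_a_rc_8_2 lc_a_rc_7_2 lc_a_rc_6_2 lc_a_rc_3_2) (@D3.rec (fun _ => (Cert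 rels S Gen.a)) lc_a_rc_2_2 lc_a_rc_0_0 lc_a_rc_1_0 lc_a_rc_2_2 lc_a_rc_3_2 lc_a_rc_1_0 lc_a_rc_1_2 lc_a_rc_0_0 lc_a_rc_2_2 lc_a_rc_5_2 lc_a_rc_5_0 lc_a_rc_4_2 lc_a_rc_1_0 lc_a_rc_4_2 lc_a_rc_4_2 lc_a_rc_2_2 lc_a_rc_2_2 lc_a_rc_3_2 lc_a_rc_1_4 lc_a_rc_2_2 lc_a_rc_9_2 lc_a_rc_5_2 lc_a_rc_3_2 lc_a_rc_4_2 lc_a_rc_2_2 lc_a_rc_2_2 lc_a_rc_1_2 lc_a_rc_1_2 lc_a_rc_1_2 lc_a_rc_1_2 lc_a_rc_1_2 lc_a_rc_2_2 lc_a_rc_1_2 lc_a_rc_1_2 lc_a_rc_2_2 lc_a_rc_2_2 lc_a_rc_1_2 lc_a_rc_1_2 lc_a_rc_3_2 lc_a_rc_2_2 lc_a_rc_2_2 lc_a_rc_4_2 lc_a_rc_1_2 lc_a_rc_2_2 lc_a_rc_3_2 lc_a_rc_1_2 lc_a_rc_3_2 lc_a_rc_5_0 lc_a_rc_6_2 lc_a_rc_4_2 lc_a_rc_5_2) (@D3.rec (fun _ => (Cert rels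 S Gen.a)) lc_a_rc_4_2 lc_a_rc_9_2 lc_a_rc_3_2 lc_a_rc_4_2 lc_a_rc_2_2 lc_a_rc_4_2 lc_a_rc_4_2 lc_a_rc_3_2 lc_a_rc_9_2 lc_a_rc_3_2 lc_a_rc_6_2 lc_a_rc_4_2 lc_a_rc_5_2 lc_a_rc_5_2 lc_a_rc_2_2 lc_a_rc_3_2 lc_a_rc_8_2 lc_a_rc_7_2 lc_a_rc_6_2 lc_a_rc_3_2 lc_a_rc_8_2 lc_a_rc_7_2 lc_a_rc_3_2 lc_a_rc_8_2 lc_a_rc_3_2 lc_a_rc_8_2 lc_a_rc_3_2 lc_a_rc_4_2 lc_a_rc_3_2 lc_a_rc_4_2 lc_a_rc_6_0 lc_a_rc_8_2 lc_a_rc_8_2 lc_a_rc_3_2 lc_a_rc_7_2 lc_a_rc_8_2 lc_a_rc_0_0 lc_a_rc_4_2 lc_a_rc_9_2 lc_a_rc_2_2 lc_a_rc_6_2 lc_a_rc_3_0 lc_a_rc_5_2 lc_a_rc_6_2 lc_a_rc_5_2 lc_a_rc_6_2 lc_a_rc_3_2 lc_a_rc_5_2 lc_a_rc_4_2 lc_a_rc_6_2 lc_a_rc_3_2) (@D3.rec (fun _ => (Cert rels S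 Gen.a)) lc_a_rc_4_2 lc_a_rc_5_2 lc_a_rc_4_2 lc_a_rc_4_2 lc_a_rc_4_2 lc_a_rc_3_2 lc_a_rc_4_2 lc_a_rc_6_2 lc_a_rc_3_2 lc_a_rc_2_2 lc_a_rc_3_2 lc_a_rc_4_2 lc_a_rc_4_2 lc_a_rc_3_2 lc_a_rc_4_2 lc_a_rc_4_2 lc_a_rc_4_2 lc_a_rc_3_2 lc_a_rc_5_2 lc_a_rc_3_2 lc_a_rc_2_0 lc_a_rc_5_2 lc_a_rc_3_2 lc_a_rc_3_2 lc_a_rc_6_2 lc_a_rc_3_2 lc_a_rc_6_2 lc_a_rc_6_2 lc_a_rc_3_2 lc_a_rc_2_2 lc_a_rc_4_2 lc_a_rc_2_2 lc_a_rc_6_2 lc_a_rc_6_2 lc_a_rc_5_2 lc_a_rc_4_2 lc_a_rc_9_2 lc_a_rc_9_2 lc_a_rc_5_2 lc_a_rc_5_2 lc_a_rc_3_2 lc_a_rc_4_2 lc_a_rc_4_2 lc_a_rc_5_2 lc_a_rc_3_2 lc_a_rc_3_2 lc_a_rc_9_2 lc_a_rc_5_2 lc_a_rc_2_2 lc_a_rc_3_2 lc_a_rc_4_2) (@D3.rec (fun _ => (Cert rels S Gen.a))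 lc_a_rc_5_2 lc_a_rc_3_2 lc_a_rc_3_0 lc_a_rc_5_2 lc_a_rc_7_2 lc_a_rc_4_2 lc_a_rc_5_2 lc_a_rc_3_2 lc_a_rc_4_2 lc_a_rc_8_2 lc_a_rc_7_2 lc_a_rc_3_2 lc_a_rc_2_2 lc_a_rc_5_2 lc_a_rc_3_2 lc_a_rc_3_2 lc_a_rc_2_0 lc_a_rc_5_2 lc_a_rc_3_2 lc_a_rc_3_2 lc_a_rc_3_2 lc_a_rc_6_2 lc_a_rc_1_2 lc_a_rc_7_2 lc_a_rc_6_2 lc_a_rc_6_2 lc_a_rc_8_2 lc_a_rc_3_2 lc_a_rc_2_2 lc_a_rc_4_2 lc_a_rc_1_2 lc_a_rc_3_2 lc_a_rc_7_2 lc_a_rc_3_2 lc_a_rc_5_2 lc_a_rc_3_2 lc_a_rc_6_2 lc_a_rc_4_2 lc_a_rc_1_2 lc_a_rc_3_2 lc_a_rc_3_2 lc_a_rc_4_2 lc_a_rc_1_2 lc_a_rc_4_2 lc_a_rc_3_2 lc_a_rc_5_2 lc_a_rc_3_2 lc_a_rc_4_2 lc_a_rc_3_2 lc_a_rc_5_2 lc_a_rc_6_2)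
def ce_a_16 : D2 → D3 → (Cert rels S Gen.a) := @D2.rec (fun _ => D3 → (Cert rels S Gen.a)) (@D3.rec (fun _ => (Cert rels S Gen.a)) lc_a_rc_5_2 lc_a_rc_3_2 lc_a_rc_4_2 lc_a_rc_5_2 lc_a_rc_5_2 lc_a_rc_4_2 lc_a_rc_4_2 lc_a_rc_4_2 lc_a_rc_5_0 lc_a_rc_1_2 lc_a_rc_7_2 lc_a_rc_56_42 lc_a_rc_9_2 lc_a_rc_2_2 lc_a_rc_9_2 lc_a_rc_5_2 lc_a_rc_3_2 lc_a_rc_3_2 lc_a_rc_1_4 lc_a_rc_3_2 lc_a_rc_5_2 lc_a_rc_3_2 lc_a_rc_4_2 lc_a_rc_56_28 lc_a_rc_0_0 lc_a_rc_1_0 lc_a_rc_1_2 lc_a_rc_3_2 lc_a_rc_9_2 lc_a_rc_2_2 lc_a_rc_1_4 lc_a_rc_2_2 lc_a_rc_3_2 lc_a_rc_3_2 lc_a_rc_56_7 lc_a_rc_1_4 lc_a_rc_3_2 lc_a_rc_4_2 lc_a_rc_2_2 lc_a_rc_1_2 lc_a_rc_6_2 lc_a_rc_0_1 lc_a_rc_2_0 lc_a_rc_3_2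 lc_a_rc_3_2 lc_a_rc_4_2 lc_a_rc_6_2 lc_a_rc_2_2 lc_a_rc_2_0 lc_a_rc_2_0 lc_a_rc_3_2) (@D3.rec (fun _ => (Cert rels S Gen.a)) lc_a_rc_2_2 lc_a_rc_2_0 lc_a_rc_2_2 lc_a_rc_4_2 lc_a_rc_4_2 lc_a_rc_4_2 lc_a_rc_6_2 lc_a_rc_3_2 lc_a_rc_3_2 lc_a_rc_5_2 lc_a_rc_4_2 lc_a_rc_9_2 lc_a_rc_4_2 lc_a_rc_2_2 lc_a_rc_4_2 lc_a_rc_4_2 lc_a_rc_9_2 lc_a_rc_9_2 lc_a_rc_2_2 lc_a_rc_9_2 lc_a_rc_9_2 lc_a_rc_3_2 lc_a_rc_3_2 lc_a_rc_4_2 lc_a_rc_3_2 lc_a_rc_4_2 lc_a_rc_5_2 lc_a_rc_2_2 lc_a_rc_2_2 lc_a_rc_6_2 lc_a_rc_5_2 lc_a_rc_3_2 lc_a_rc_6_2 lc_a_rc_3_2 lc_a_rc_3_2 lc_a_rc_3_2 lc_a_rc_5_2 lc_a_rc_5_0 lc_a_rc_3_2 lc_a_rc_2_0 lc_a_rc_5_2 lc_a_rc_4_2 lc_a_rc_9_2 lc_a_rc_4_2 lc_a_rc_1_4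 lc_a_rc_7_2 lc_a_rc_4_2 lc_a_rc_2_2 lc_a_rc_4_2 lc_a_rc_4_2 lc_a_rc_4_2) (@D3.rec (fun _ => (Cert rels S Gen.a)) lc_a_rc_1_4 lc_a_rc_3_2 lc_a_rc_6_2 lc_a_rc_9_2 lc_a_rc_3_2 lc_a_rc_3_2 lc_a_rc_9_2 lc_a_rc_5_2 lc_a_rc_3_2 lc_a_rc_9_2 lc_a_rc_4_2 lc_a_rc_5_2 lc_a_rc_5_2 lc_a_rc_4_2 lc_a_rc_6_2 lc_a_rc_5_0 lc_a_rc_2_2 lc_a_rc_3_2 lc_a_rc_3_2 lc_a_rc_6_2 lc_a_rc_3_2 lc_a_rc_4_2 lc_a_rc_3_2 lc_a_rc_5_2 lc_a_rc_3_2 lc_a_rc_3_2 lc_a_rc_1_2 lc_a_rc_3_2 lc_a_rc_3_2 lc_a_rc_6_2 lc_a_rc_4_2 lc_a_rc_6_2 lc_a_rc_2_0 lc_a_rc_5_0 lc_a_rc_4_2 lc_a_rc_5_0 lc_a_rc_4_2 lc_a_rc_6_2 lc_a_rc_9_2 lc_a_rc_6_2 lc_a_rc_56_14 lc_a_rc_9_2 lc_a_rc_6_2 lc_a_rc_4_2 lc_a_rc_6_2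 lc_a_rc_1_2 lc_a_rc_1_2 lc_a_rc_3_2 lc_a_rc_4_2 lc_a_rc_3_2 lc_a_rc_2_2) (@D3.rec (fun _ => (Cert rels S Gen.a)) lc_a_rc_2_2 lc_a_rc_6_2 lc_a_rc_4_2 lc_a_rc_5_2 lc_a_rc_4_2 lc_a_rc_2_2 lc_a_rc_4_2 lc_a_rc_9_2 lc_a_rc_1_4 lc_a_rc_8_2 lc_a_rc_3_2 lc_a_rc_4_2 lc_a_rc_4_2 lc_a_rc_2_2 lc_a_rc_4_2 lc_a_rc_4_2 lc_a_rc_2_2 lc_a_rc_2_2 lc_a_rc_2_2 lc_a_rc_2_2 lc_a_rc_3_2 lc_a_rc_9_2 lc_a_rc_3_2 lc_a_rc_3_2 lc_a_rc_4_2 lc_a_rc_2_2 lc_a_rc_4_2 lc_a_rc_5_2 lc_a_rc_2_2 lc_a_rc_2_2 lc_a_rc_0_0 lc_a_rc_6_2 lc_a_rc_5_2 lc_a_rc_9_2 lc_a_rc_1_4 lc_a_rc_5_2 lc_a_rc_2_2 lc_a_rc_2_2 lc_a_rc_3_2 lc_a_rc_6_2 lc_a_rc_3_2 lc_a_rc_6_2 lc_a_rc_5_2 lc_a_rc_1_4 lc_a_rc_2_2 lc_a_rc_3_2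 lc_a_rc_4_2 lc_a_rc_3_2 lc_a_rc_2_2 lc_a_rc_4_2 lc_a_rc_5_2) (@D3.rec (fun _ => (Cert rels S Gen.a)) lc_a_rc_2_2 lc_a_rc_4_2 lc_a_rc_1_2 lc_a_rc_2_2 lc_a_rc_4_2 lc_a_rc_1_4 lc_a_rc_4_2 lc_a_rc_1_2 lc_a_rc_7_2 lc_a_rc_6_2 lc_a_rc_4_2 lc_a_rc_7_2 lc_a_rc_3_2 lc_a_rc_4_2 lc_a_rc_5_2 lc_a_rc_6_2 lc_a_rc_9_2 lc_a_rc_3_2 lc_a_rc_2_2 lc_a_rc_2_2 lc_a_rc_2_2 lc_a_rc_6_2 lc_a_rc_5_2 lc_a_rc_4_2 lc_a_rc_5_2 lc_a_rc_2_0 lc_a_rc_4_2 lc_a_rc_2_2 lc_a_rc_4_2 lc_a_rc_4_2 lc_a_rc_3_2 lc_a_rc_4_2 lc_a_rc_6_2 lc_a_rc_3_2 lc_a_rc_3_2 lc_a_rc_4_2 lc_a_rc_4_2 lc_a_rc_3_2 lc_a_rc_7_2 lc_a_rc_4_2 lc_a_rc_3_2 lc_a_rc_3_2 lc_a_rc_1_4 lc_a_rc_3_2 lc_a_rc_3_2 lc_a_rc_2_2 lc_a_rc_3_2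 lc_a_rc_4_2 lc_a_rc_7_2 lc_a_rc_3_2 lc_a_rc_2_2) (@D3.rec (fun _ => (Cert rels S Gen.a)) lc_a_rc_4_2 lc_a_rc_7_2 lc_a_rc_4_2 lc_a_rc_5_2 lc_a_rc_6_2 lc_a_rc_9_0 lc_a_rc_4_2 lc_a_rc_4_2 lc_a_rc_2_2 lc_a_rc_6_2 lc_a_rc_6_2 lc_a_rc_3_2 lc_a_rc_3_2 lc_a_rc_9_2 lc_a_rc_5_2 lc_a_rc_3_2 lc_a_rc_4_2 lc_a_rc_3_2 lc_a_rc_4_2 lc_a_rc_5_2 lc_a_rc_3_2 lc_a_rc_6_2 lc_a_rc_6_2 lc_a_rc_4_2 lc_a_rc_5_2 lc_a_rc_2_2 lc_a_rc_2_2 lc_a_rc_3_2 lc_a_rc_4_2 lc_a_rc_3_2 lc_a_rc_5_2 lc_a_rc_3_2 lc_a_rc_2_2 lc_a_rc_2_2 lc_a_rc_3_2 lc_a_rc_3_2 lc_a_rc_6_2 lc_a_rc_3_2 lc_a_rc_2_2 lc_a_rc_2_2 lc_a_rc_3_2 lc_a_rc_2_2 lc_a_rc_4_2 lc_a_rc_6_2 lc_a_rc_5_2 lc_a_rc_5_2 lc_a_rc_2_2 lc_a_rc_4_2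 lc_a_rc_1_4 lc_a_rc_4_2 lc_a_rc_2_0) (@D3.rec (fun _ => (Cert rels S Gen.a)) lc_a_rc_5_0 lc_a_rc_2_2 lc_a_rc_3_2 lc_a_rc_1_4 lc_a_rc_2_2 lc_a_rc_4_0 lc_a_rc_5_2 lc_a_rc_3_2 lc_a_rc_8_2 lc_a_rc_3_2 lc_a_rc_5_2 lc_a_rc_2_2 lc_a_rc_5_2 lc_a_rc_3_2 lc_a_rc_4_2 lc_a_rc_5_2 lc_a_rc_3_2 lc_a_rc_3_2 lc_a_rc_4_2 lc_a_rc_6_2 lc_a_rc_4_2 lc_a_rc_6_2 lc_a_rc_4_2 lc_a_rc_1_4 lc_a_rc_4_2 lc_a_rc_1_4 lc_a_rc_1_4 lc_a_rc_4_2 lc_a_rc_5_2 lc_a_rc_5_2 lc_a_rc_6_2 lc_a_rc_3_2 lc_a_rc_3_2 lc_a_rc_3_2 lc_a_rc_4_2 lc_a_rc_3_2 lc_a_rc_3_2 lc_a_rc_3_2 lc_a_rc_2_2 lc_a_rc_2_2 lc_a_rc_3_2 lc_a_rc_4_2 lc_a_rc_6_2 lc_a_rc_7_2 lc_a_rc_7_2 lc_a_rc_6_2 lc_a_rc_4_2 lc_a_rc_6_2 lc_a_rc_3_2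 lc_a_rc_6_2 lc_a_rc_4_2) (@D3.rec (fun _ => (Cert rels S Gen.a)) lc_a_rc_6_2 lc_a_rc_7_2 lc_a_rc_7_2 lc_a_rc_6_2 lc_a_rc_5_2 lc_a_rc_4_2 lc_a_rc_4_2 lc_a_rc_3_2 lc_a_rc_4_2 lc_a_rc_4_2 lc_a_rc_4_2 lc_a_rc_3_2 lc_a_rc_4_2 lc_a_rc_4_2 lc_a_rc_3_2 lc_a_rc_2_2 lc_a_rc_3_2 lc_a_rc_5_2 lc_a_rc_3_2 lc_a_rc_2_2 lc_a_rc_4_2 lc_a_rc_3_2 lc_a_rc_6_0 lc_a_rc_5_0 lc_a_rc_3_2 lc_a_rc_5_0 lc_a_rc_4_2 lc_a_rc_1_2 lc_a_rc_1_2 lc_a_rc_1_2 lc_a_rc_1_2 lc_a_rc_1_2 lc_a_rc_2_2 lc_a_rc_2_2 lc_a_rc_1_2 lc_a_rc_3_2 lc_a_rc_2_2 lc_a_rc_3_2 lc_a_rc_3_2 lc_a_rc_3_2 lc_a_rc_6_2 lc_a_rc_4_2 lc_a_rc_5_2 lc_a_rc_2_2 lc_a_rc_2_2 lc_a_rc_2_2 lc_a_rc_6_2 lc_a_rc_5_2 lc_a_rc_5_2 lc_a_rc_4_2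 lc_a_rc_9_2) (@D3.rec (fun _ => (Cert rels S Gen.a)) lc_a_rc_4_2 lc_a_rc_4_2 lc_a_rc_4_2 lc_a_rc_4_2 lc_a_rc_3_2 lc_a_rc_9_2 lc_a_rc_9_2 lc_a_rc_3_2 lc_a_rc_3_2 lc_a_rc_2_2 lc_a_rc_2_2 lc_a_rc_2_2 lc_a_rc_2_2 lc_a_rc_6_2 lc_a_rc_5_2 lc_a_rc_3_2 lc_a_rc_3_2 lc_a_rc_2_2 lc_a_rc_2_2 lc_a_rc_2_2 lc_a_rc_7_2 lc_a_rc_6_2 lc_a_rc_3_2 lc_a_rc_5_2 lc_a_rc_3_2 lc_a_rc_4_2 lc_a_rc_5_2 lc_a_rc_3_2 lc_a_rc_9_2 lc_a_rc_5_2 lc_a_rc_2_2 lc_a_rc_3_2 lc_a_rc_3_2 lc_a_rc_2_2 lc_a_rc_2_2 lc_a_rc_2_2 lc_a_rc_3_2 lc_a_rc_7_2 lc_a_rc_3_2 lc_a_rc_2_2 lc_a_rc_3_2 lc_a_rc_2_2 lc_a_rc_2_2 lc_a_rc_4_2 lc_a_rc_3_2 lc_a_rc_2_2 lc_a_rc_4_2 lc_a_rc_2_2 lc_a_rc_5_2 lc_a_rc_3_2 lc_a_rc_4_0)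 (@D3.rec (fun _ => (Cert rels S Gen.a)) lc_a_rc_5_2 lc_a_rc_9_2 lc_a_rc_3_2 lc_a_rc_5_2 lc_a_rc_4_2 lc_a_rc_9_2 lc_a_rc_2_2 lc_a_rc_2_2 lc_a_rc_5_2 lc_a_rc_5_2 lc_a_rc_6_2 lc_a_rc_5_2 lc_a_rc_4_2 lc_a_rc_9_2 lc_a_rc_56_14 lc_a_rc_3_2 lc_a_rc_9_2 lc_a_rc_5_2 lc_a_rc_3_2 lc_a_rc_4_2 lc_a_rc_3_2 lc_a_rc_2_2 lc_a_rc_2_2 lc_a_rc_2_2 lc_a_rc_3_2 lc_a_rc_3_2 lc_a_rc_6_2 lc_a_rc_3_2 lc_a_rc_4_2 lc_a_rc_5_2 lc_a_rc_5_2 lc_a_rc_6_2 lc_a_rc_4_2 lc_a_rc_4_2 lc_a_rc_5_2 lc_a_rc_4_2 lc_a_rc_4_2 lc_a_rc_4_2 lc_a_rc_4_2 lc_a_rc_4_2 lc_a_rc_4_2 lc_a_rc_3_2 lc_a_rc_3_2 lc_a_rc_4_2 lc_a_rc_3_2 lc_a_rc_3_2 lc_a_rc_3_2 lc_a_rc_4_2 lc_a_rc_4_2 lc_a_rc_4_2 lc_a_rc_3_2)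 (@D3.rec (fun _ => (Cert rels S Gen.a)) lc_a_rc_4_2 lc_a_rc_4_2 lc_a_rc_3_2 lc_a_rc_2_2 lc_a_rc_7_2 lc_a_rc_5_2 lc_a_rc_8_2 lc_a_rc_7_2 lc_a_rc_9_2 lc_a_rc_3_2 lc_a_rc_2_2 lc_a_rc_6_2 lc_a_rc_6_2 lc_a_rc_1_2 lc_a_rc_6_2 lc_a_rc_3_2 lc_a_rc_2_2 lc_a_rc_4_2 lc_a_rc_1_4 lc_a_rc_5_2 lc_a_rc_3_2 lc_a_rc_3_2 lc_a_rc_1_4 lc_a_rc_3_2 lc_a_rc_7_2 lc_a_rc_1_4 lc_a_rc_2_2 lc_a_rc_2_2 lc_a_rc_7_2 lc_a_rc_7_2 lc_a_rc_6_2 lc_a_rc_3_2 lc_a_rc_9_2 lc_a_rc_5_2 lc_a_rc_56_35 lc_a_rc_7_2 lc_a_rc_4_2 lc_a_rc_5_2 lc_a_rc_6_2 lc_a_rc_3_2 lc_a_rc_3_2 lc_a_rc_3_2 lc_a_rc_1_2 lc_a_rc_5_2 lc_a_rc_7_2 lc_a_rc_2_2 lc_a_rc_2_2 lc_a_rc_3_2 lc_a_rc_4_2 lc_a_rc_4_2 lc_a_rc_7_2)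 (@D3.rec (fun _ => (Cert rels S Gen.a)) lc_a_rc_3_2 lc_a_rc_2_2 lc_a_rc_5_2 lc_a_rc_3_2 lc_a_rc_3_2 lc_a_rc_5_2 lc_a_rc_4_2 lc_a_rc_4_2 lc_a_rc_3_2 lc_a_rc_4_2 lc_a_rc_6_2 lc_a_rc_5_2 lc_a_rc_3_2 lc_a_rc_9_2 lc_a_rc_5_2 lc_a_rc_9_2 lc_a_rc_5_2 lc_a_rc_4_2 lc_a_rc_4_2 lc_a_rc_3_2 lc_a_rc_2_2 lc_a_rc_3_2 lc_a_rc_6_2 lc_a_rc_4_2 lc_a_rc_3_2 lc_a_rc_2_2 lc_a_rc_4_2 lc_a_Cert_tree lc_a_rc_6_2 lc_a_rc_3_2 lc_a_rc_7_2 lc_a_rc_2_2 lc_a_rc_3_2 lc_a_rc_2_2 lc_a_rc_4_2 lc_a_rc_7_2 lc_a_rc_3_2 lc_a_rc_2_2 lc_a_rc_4_2 lc_a_Cert_tree lc_a_rc_6_2 lc_a_rc_6_2 lc_a_rc_3_2 lc_a_rc_0_1 lc_a_rc_1_2 lc_a_rc_2_2 lc_a_rc_4_2 lc_a_rc_6_2 lc_a_rc_3_2 lc_a_rc_3_0 lc_a_rc_4_2)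 (@D3.rec (fun _ => (Cert rels S Gen.a)) lc_a_Cert_tree lc_a_rc_2_2 lc_a_rc_0_0 lc_a_rc_5_2 lc_a_rc_1_2 lc_a_rc_3_2 lc_a_rc_3_0 lc_a_rc_5_0 lc_a_rc_2_2 lc_a_rc_4_2 lc_a_Cert_tree lc_a_rc_2_2 lc_a_rc_0_0 lc_a_rc_6_2 lc_a_rc_5_0 lc_a_rc_4_2 lc_a_rc_0_0 lc_a_rc_4_2 lc_a_rc_3_2 lc_a_rc_3_0 lc_a_rc_3_2 lc_a_rc_2_2 lc_a_rc_4_2 lc_a_rc_2_2 lc_a_rc_3_2 lc_a_rc_3_2 lc_a_rc_56_49 lc_a_rc_8_2 lc_a_rc_5_2 lc_a_rc_7_0 lc_a_rc_3_2 lc_a_rc_5_2 lc_a_rc_4_2 lc_a_rc_3_0 lc_a_rc_3_2 lc_a_rc_2_2 lc_a_rc_3_2 lc_a_rc_2_2 lc_a_rc_4_0 lc_a_rc_3_2 lc_a_rc_3_2 lc_a_rc_4_2 lc_a_rc_4_2 lc_a_rc_4_2 lc_a_rc_6_2 lc_a_rc_3_2 lc_a_rc_3_2 lc_a_rc_4_2 lc_a_rc_4_2 lc_a_rc_4_2 lc_a_rc_4_2)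 (@D3.rec (fun _ => (Cert rels S Gen.a)) lc_a_rc_4_2 lc_a_rc_4_0 lc_a_rc_5_2 lc_a_rc_4_2 lc_a_rc_4_2 lc_a_rc_3_2 lc_a_rc_4_2 lc_a_rc_3_2 lc_a_rc_2_2 lc_a_rc_6_2 lc_a_rc_3_2 lc_a_rc_6_2 lc_a_rc_3_2 lc_a_rc_3_2 lc_a_rc_7_0 lc_a_rc_7_0 lc_a_rc_3_0 lc_a_rc_5_2 lc_a_rc_3_2 lc_a_rc_3_2 lc_a_rc_9_2 lc_a_rc_5_2 lc_a_rc_5_2 lc_a_rc_1_4 lc_a_rc_3_2 lc_a_rc_4_2 lc_a_rc_2_2 lc_a_rc_5_2 lc_a_rc_1_4 lc_a_rc_4_2 lc_a_rc_4_2 lc_a_rc_3_2 lc_a_rc_4_2 lc_a_rc_3_2 lc_a_rc_3_2 lc_a_rc_4_2 lc_a_rc_3_2 lc_a_rc_3_2 lc_a_rc_3_2 lc_a_rc_7_2 lc_a_rc_1_2 lc_a_rc_2_2 lc_a_rc_2_2 lc_a_rc_6_2 lc_a_rc_5_2 lc_a_rc_9_2 lc_a_rc_6_2 lc_a_rc_3_2 lc_a_rc_3_2 lc_a_rc_2_2 lc_a_rc_2_2) (@D3.rec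 (fun _ => (Cert rels S Gen.a)) lc_a_rc_3_2 lc_a_rc_6_2 lc_a_rc_3_2 lc_a_rc_9_2 lc_a_rc_4_2 lc_a_rc_1_4 lc_a_rc_3_2 lc_a_rc_5_2 lc_a_rc_2_2 lc_a_rc_3_2 lc_a_rc_4_2 lc_a_rc_3_2 lc_a_rc_2_2 lc_a_rc_1_4 lc_a_rc_2_2 lc_a_rc_3_2 lc_a_rc_4_2 lc_a_rc_4_2 lc_a_rc_3_2 lc_a_rc_6_2 lc_a_rc_56_49 lc_a_rc_3_2 lc_a_rc_1_4 lc_a_rc_5_2 lc_a_rc_3_2 lc_a_rc_4_2 lc_a_rc_56_21 lc_a_rc_7_2 lc_a_rc_1_4 lc_a_rc_5_2 lc_a_rc_4_2 lc_a_rc_6_2 lc_a_rc_3_0 lc_a_rc_6_2 lc_a_rc_6_2 lc_a_rc_9_2 lc_a_rc_3_2 lc_a_rc_5_2 lc_a_rc_2_2 lc_a_rc_5_2 lc_a_rc_3_2 lc_a_rc_4_2 lc_a_rc_5_0 lc_a_rc_5_0 lc_a_rc_2_2 lc_a_rc_4_2 lc_a_rc_8_2 lc_a_rc_8_2 lc_a_rc_6_2 lc_a_rc_8_2 lc_a_rc_9_2) (@D3.rec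 (fun _ => (Cert rels S Gen.a)) lc_a_rc_7_0 lc_a_rc_7_0 lc_a_rc_2_0 lc_a_rc_3_2 lc_a_rc_4_2 lc_a_rc_4_2 lc_a_rc_2_2 lc_a_rc_3_2 lc_a_rc_2_2 lc_a_rc_5_2 lc_a_rc_4_2 lc_a_rc_3_2 lc_a_rc_4_2 lc_a_rc_4_2 lc_a_rc_3_2 lc_a_rc_2_2 lc_a_rc_3_2 lc_a_rc_6_2 lc_a_rc_6_2 lc_a_rc_2_2 lc_a_rc_3_2 lc_a_rc_6_2 lc_a_rc_3_2 lc_a_rc_3_2 lc_a_rc_5_2 lc_a_rc_6_2 lc_a_rc_8_2 lc_a_rc_3_2 lc_a_rc_8_2 lc_a_rc_5_2 lc_a_rc_2_2 lc_a_rc_3_2 lc_a_rc_4_2 lc_a_rc_3_2 lc_a_rc_2_2 lc_a_rc_9_2 lc_a_rc_5_2 lc_a_rc_2_2 lc_a_rc_6_0 lc_a_rc_5_2 lc_a_rc_4_2 lc_a_rc_5_2 lc_a_rc_3_2 lc_a_rc_4_2 lc_a_rc_6_2 lc_a_rc_6_2 lc_a_rc_5_2 lc_a_rc_5_2 lc_a_rc_5_2 lc_a_rc_6_0 lc_a_rc_4_2) (@D3.rec (fun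 _ => (Cert rels S Gen.a)) lc_a_rc_3_2 lc_a_rc_2_2 lc_a_rc_4_2 lc_a_rc_6_2 lc_a_rc_4_2 lc_a_rc_3_2 lc_a_rc_2_2 lc_a_Cert_tree lc_a_rc_9_2 lc_a_rc_5_2 lc_a_rc_5_2 lc_a_rc_3_2 lc_a_rc_3_2 lc_a_rc_6_2 lc_a_rc_5_2 lc_a_rc_3_2 lc_a_rc_6_2 lc_a_rc_3_2 lc_a_rc_6_2 lc_a_rc_1_2 lc_a_rc_4_2 lc_a_rc_5_2 lc_a_rc_1_2 lc_a_rc_4_2 lc_a_rc_8_2 lc_a_rc_8_2 lc_a_rc_5_2 lc_a_rc_4_2 lc_a_rc_6_2 lc_a_rc_8_2 lc_a_rc_8_2 lc_a_rc_3_2 lc_a_rc_3_2 lc_a_rc_5_2 lc_a_rc_6_2 lc_a_rc_7_2 lc_a_rc_4_2 lc_a_rc_4_2 lc_a_rc_4_2 lc_a_rc_6_2 lc_a_rc_4_2 lc_a_rc_5_2 lc_a_rc_2_2 lc_a_rc_3_2 lc_a_rc_3_2 lc_a_rc_4_2 lc_a_rc_6_2 lc_a_rc_4_2 lc_a_rc_6_2 lc_a_rc_3_2 lc_a_rc_3_2) (@D3.rec (fun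 _ => (Cert rels S Gen.a)) lc_a_rc_4_2 lc_a_rc_3_2 lc_a_rc_3_2 lc_a_rc_4_2 lc_a_rc_3_2 lc_a_rc_6_2 lc_a_rc_3_2 lc_a_rc_5_0 lc_a_rc_2_2 lc_a_rc_4_2 lc_a_rc_3_2 lc_a_rc_4_2 lc_a_rc_4_0 lc_a_rc_2_2 lc_a_rc_3_2 lc_a_rc_4_2 lc_a_rc_6_2 lc_a_rc_7_2 lc_a_rc_3_0 lc_a_rc_2_0 lc_a_rc_7_2 lc_a_rc_6_2 lc_a_rc_7_2 lc_a_rc_3_2 lc_a_rc_4_2 lc_a_rc_3_2 lc_a_rc_3_2 lc_a_rc_5_2 lc_a_rc_3_2 lc_a_rc_3_2 lc_a_rc_4_2 lc_a_rc_2_2 lc_a_rc_6_2 lc_a_rc_6_2 lc_a_rc_4_2 lc_a_rc_3_2 lc_a_rc_3_2 lc_a_rc_5_2 lc_a_rc_3_2 lc_a_rc_4_2 lc_a_rc_2_2 lc_a_rc_4_2 lc_a_rc_6_2 lc_a_rc_5_2 lc_a_rc_5_2 lc_a_rc_5_2 lc_a_rc_3_2 lc_a_rc_5_2 lc_a_rc_5_2 lc_a_rc_5_0 lc_a_rc_4_2) (@D3.rec (fun _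 => (Cert rels S Gen.a)) lc_a_rc_2_2 lc_a_rc_5_2 lc_a_rc_3_2 lc_a_rc_5_2 lc_a_rc_4_2 lc_a_rc_3_2 lc_a_rc_4_2 lc_a_rc_5_2 lc_a_rc_3_2 lc_a_rc_2_2 lc_a_rc_5_0 lc_a_rc_2_2 lc_a_rc_4_2 lc_a_rc_6_2 lc_a_rc_5_2 lc_a_rc_4_0 lc_a_rc_2_2 lc_a_Cert_tree lc_a_rc_6_2 lc_a_rc_6_2 lc_a_rc_4_2 lc_a_rc_4_2 lc_a_rc_4_2 lc_a_rc_3_2 lc_a_rc_4_2 lc_a_rc_4_2 lc_a_rc_3_2 lc_a_rc_4_2 lc_a_rc_4_2 lc_a_rc_6_2 lc_a_rc_5_2 lc_a_rc_3_2 lc_a_rc_2_2 lc_a_rc_4_2 lc_a_rc_7_2 lc_a_rc_3_2 lc_a_rc_3_2 lc_a_rc_2_2 lc_a_rc_9_2 lc_a_rc_7_2 lc_a_rc_6_2 lc_a_rc_6_2 lc_a_rc_3_2 lc_a_rc_4_2 lc_a_rc_5_2 lc_a_rc_3_2 lc_a_rc_4_2 lc_a_rc_6_2 lc_a_rc_3_2 lc_a_rc_5_2 lc_a_rc_3_2) (@D3.rec (fun _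 => (Cert rels S Gen.a)) lc_a_rc_2_2 lc_a_rc_4_0 lc_a_rc_4_2 lc_a_rc_4_2 lc_a_rc_3_2 lc_a_rc_5_2 lc_a_rc_4_0 lc_a_rc_3_2 lc_a_rc_2_2 lc_a_rc_2_2 lc_a_Cert_tree lc_a_rc_6_2 lc_a_rc_2_2 lc_a_rc_6_2 lc_a_rc_2_2 lc_a_rc_6_0 lc_a_rc_2_2 lc_a_rc_3_2 lc_a_rc_3_2 lc_a_rc_3_2 lc_a_rc_2_2 lc_a_rc_2_2 lc_a_rc_6_2 lc_a_rc_3_2 lc_a_rc_4_2 lc_a_rc_3_2 lc_a_rc_2_2 lc_a_rc_5_2 lc_a_rc_5_2 lc_a_rc_3_2 lc_a_rc_9_2 lc_a_rc_5_2 lc_a_rc_2_2 lc_a_Cert_tree lc_a_rc_9_2 lc_a_rc_5_2 lc_a_rc_9_2 lc_a_rc_5_2 lc_a_rc_3_2 lc_a_rc_2_2 lc_a_rc_2_2 lc_a_rc_3_2 lc_a_rc_4_2 lc_a_rc_2_2 lc_a_rc_3_2 lc_a_rc_7_2 lc_a_rc_5_2 lc_a_rc_5_2 lc_a_rc_4_2 lc_a_rc_4_2 lc_a_rc_3_2) (@D3.rec (fun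 _ => (Cert rels S Gen.a)) lc_a_rc_2_2 lc_a_rc_5_2 lc_a_rc_2_2 lc_a_rc_3_2 lc_a_rc_4_2 lc_a_rc_4_2 lc_a_rc_3_2 lc_a_rc_5_2 lc_a_rc_3_2 lc_a_rc_3_2 lc_a_rc_5_2 lc_a_rc_4_2 lc_a_rc_4_2 lc_a_rc_4_2 lc_a_rc_4_2 lc_a_rc_3_2 lc_a_rc_2_2 lc_a_rc_4_2 lc_a_rc_3_2 lc_a_rc_2_2 lc_a_Cert_tree lc_a_rc_3_2 lc_a_rc_6_2 lc_a_rc_2_2 lc_a_rc_0_1 lc_a_rc_6_2 lc_a_rc_6_2 lc_a_rc_8_2 lc_a_rc_6_2 lc_a_rc_3_2 lc_a_rc_5_2 lc_a_rc_3_2 lc_a_rc_2_2 lc_a_rc_4_2 lc_a_rc_4_2 lc_a_rc_3_2 lc_a_rc_5_2 lc_a_rc_2_2 lc_a_rc_3_2 lc_a_rc_6_2 lc_a_rc_4_2 lc_a_rc_7_2 lc_a_rc_2_2 lc_a_Cert_tree lc_a_rc_5_2 lc_a_rc_3_2 lc_a_rc_4_2 lc_a_rc_4_2 lc_a_rc_3_2 lc_a_rc_2_2 lc_a_rc_9_2) (@D3.rec (fun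 _ => (Cert rels S Gen.a)) lc_a_rc_5_2 lc_a_rc_5_2 lc_a_rc_3_2 lc_a_rc_9_2 lc_a_rc_2_2 lc_a_rc_4_2 lc_a_rc_3_2 lc_a_rc_2_2 lc_a_rc_3_2 lc_a_Cert_tree lc_a_rc_2_2 lc_a_rc_3_2 lc_a_rc_3_2 lc_a_rc_2_2 lc_a_Cert_tree lc_a_rc_0_0 lc_a_rc_5_2 lc_a_rc_6_2 lc_a_rc_2_2 lc_a_rc_5_2 lc_a_rc_8_2 lc_a_rc_7_2 lc_a_rc_7_2 lc_a_rc_2_2 lc_a_rc_4_2 lc_a_rc_8_2 lc_a_rc_4_2 lc_a_rc_4_2 lc_a_rc_1_4 lc_a_rc_4_2 lc_a_rc_56_49 lc_a_rc_5_2 lc_a_rc_3_2 lc_a_rc_3_2 lc_a_rc_0_1 lc_a_rc_3_2 lc_a_rc_3_2 lc_a_rc_4_2 lc_a_rc_2_2 lc_a_rc_3_2 lc_a_rc_3_2 lc_a_rc_5_2 lc_a_rc_4_0 lc_a_rc_3_2 lc_a_rc_9_2 lc_a_rc_5_2 lc_a_rc_3_2 lc_a_rc_4_2 lc_a_rc_3_2 lc_a_rc_0_1 lc_a_rc_5_0) (@D3.rec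 (fun _ => (Cert rels S Gen.a)) lc_a_rc_0_1 lc_a_rc_4_2 lc_a_rc_4_2 lc_a_rc_1_2 lc_a_rc_6_2 lc_a_rc_2_2 lc_a_rc_1_2 lc_a_rc_7_2 lc_a_rc_4_2 lc_a_rc_7_2 lc_a_rc_7_2 lc_a_rc_3_2 lc_a_rc_5_2 lc_a_rc_2_2 lc_a_rc_2_2 lc_a_rc_5_2 lc_a_rc_4_2 lc_a_rc_5_2 lc_a_rc_5_2 lc_a_rc_1_4 lc_a_rc_1_4 lc_a_rc_2_2 lc_a_rc_5_2 lc_a_rc_2_2 lc_a_rc_2_2 lc_a_rc_3_2 lc_a_rc_1_2 lc_a_rc_3_2 lc_a_rc_4_2 lc_a_rc_4_2 lc_a_rc_3_2 lc_a_rc_6_2 lc_a_rc_3_2 lc_a_rc_3_2 lc_a_rc_5_2 lc_a_rc_3_2 lc_a_rc_4_2 lc_a_rc_5_2 lc_a_rc_5_2 lc_a_rc_2_2 lc_a_rc_6_2 lc_a_rc_5_2 lc_a_rc_3_2 lc_a_rc_4_2 lc_a_rc_1_2 lc_a_rc_4_2 lc_a_rc_1_2 lc_a_rc_4_2 lc_a_rc_5_2 lc_a_rc_3_2 lc_a_rc_5_2) (@D3.rec (fun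 _ => (Cert rels S Gen.a)) lc_a_rc_7_2 lc_a_rc_7_2 lc_a_rc_5_2 lc_a_rc_2_2 lc_a_rc_5_0 lc_a_rc_2_2 lc_a_rc_3_2 lc_a_rc_4_2 lc_a_rc_7_2 lc_a_rc_8_2 lc_a_rc_4_0 lc_a_rc_4_2 lc_a_rc_8_2 lc_a_rc_4_2 lc_a_rc_4_2 lc_a_rc_4_2 lc_a_rc_5_2 lc_a_rc_3_2 lc_a_rc_4_2 lc_a_rc_6_2 lc_a_rc_4_2 lc_a_rc_3_2 lc_a_rc_8_2 lc_a_rc_7_2 lc_a_rc_6_2 lc_a_rc_3_2 lc_a_rc_2_2 lc_a_rc_3_2 lc_a_rc_3_0 lc_a_rc_4_2 lc_a_rc_4_2 lc_a_rc_4_2 lc_a_rc_8_2 lc_a_rc_4_2 lc_a_rc_4_2 lc_a_rc_3_2 lc_a_rc_5_2 lc_a_rc_3_2 lc_a_rc_4_2 lc_a_rc_3_2 lc_a_rc_5_2 lc_a_rc_3_2 lc_a_rc_9_2 lc_a_rc_5_2 lc_a_rc_4_2 lc_a_rc_3_2 lc_a_rc_4_2 lc_a_rc_3_2 lc_a_rc_2_2 lc_a_rc_8_2 lc_a_rc_1_0) (@D3.rec (fun _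 => (Cert rels S Gen.a)) lc_a_rc_2_2 lc_a_rc_7_2 lc_a_rc_3_2 lc_a_rc_3_0 lc_a_rc_1_0 lc_a_rc_1_2 lc_a_rc_3_2 lc_a_rc_2_2 lc_a_rc_3_0 lc_a_rc_4_2 lc_a_rc_4_2 lc_a_rc_5_0 lc_a_rc_6_2 lc_a_rc_5_0 lc_a_rc_6_2 lc_a_rc_4_2 lc_a_rc_56_35 lc_a_rc_4_0 lc_a_rc_5_2 lc_a_rc_3_2 lc_a_rc_4_2 lc_a_rc_9_2 lc_a_rc_5_2 lc_a_rc_3_2 lc_a_rc_4_2 lc_a_rc_56_49 lc_a_rc_1_2 lc_a_rc_1_2 lc_a_rc_1_2 lc_a_rc_4_2 lc_a_rc_2_2 lc_a_rc_7_0 lc_a_rc_1_2 lc_a_rc_1_2 lc_a_rc_2_2 lc_a_rc_2_2 lc_a_rc_1_2 lc_a_rc_3_2 lc_a_rc_2_2 lc_a_rc_3_2 lc_a_rc_4_2 lc_a_rc_3_2 lc_a_rc_3_2 lc_a_rc_3_2 lc_a_rc_5_0 lc_a_rc_6_2 lc_a_rc_5_2 lc_a_rc_4_2 lc_a_rc_3_2 lc_a_rc_4_2 lc_a_rc_3_2) (@D3.rec (fun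 _ => (Cert rels S Gen.a)) lc_a_rc_4_2 lc_a_rc_3_2 lc_a_rc_3_2 lc_a_rc_6_2 lc_a_rc_5_2 lc_a_rc_3_2 lc_a_rc_3_2 lc_a_rc_4_2 lc_a_rc_8_2 lc_a_rc_7_2 lc_a_rc_3_2 lc_a_rc_2_2 lc_a_rc_8_2 lc_a_rc_3_2 lc_a_rc_4_2 lc_a_rc_3_2 lc_a_rc_3_2 lc_a_rc_4_2 lc_a_rc_1_4 lc_a_rc_9_2 lc_a_rc_8_2 lc_a_rc_8_2 lc_a_rc_8_2 lc_a_rc_8_2 lc_a_rc_3_2 lc_a_rc_3_2 lc_a_rc_8_2 lc_a_rc_4_2 lc_a_rc_9_2 lc_a_rc_9_2 lc_a_rc_5_2 lc_a_rc_2_2 lc_a_rc_6_2 lc_a_rc_5_2 lc_a_rc_3_2 lc_a_rc_6_2 lc_a_rc_3_2 lc_a_rc_6_2 lc_a_rc_3_2 lc_a_rc_5_2 lc_a_rc_4_2 lc_a_rc_6_2 lc_a_rc_3_2 lc_a_rc_5_2 lc_a_rc_3_2 lc_a_rc_4_2 lc_a_rc_5_2 lc_a_rc_3_2 lc_a_rc_3_2 lc_a_rc_4_2 lc_a_rc_3_2) (@D3.rec (fun _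 => (Cert rels S Gen.a)) lc_a_rc_3_2 lc_a_rc_2_2 lc_a_rc_5_2 lc_a_rc_4_2 lc_a_rc_3_2 lc_a_rc_4_2 lc_a_rc_4_2 lc_a_rc_4_2 lc_a_rc_3_2 lc_a_rc_2_2 lc_a_rc_3_2 lc_a_rc_3_2 lc_a_rc_5_2 lc_a_rc_3_2 lc_a_rc_3_2 lc_a_rc_6_2 lc_a_rc_6_2 lc_a_rc_2_2 lc_a_rc_2_2 lc_a_rc_4_2 lc_a_rc_2_2 lc_a_rc_6_2 lc_a_rc_6_2 lc_a_rc_6_2 lc_a_rc_3_2 lc_a_rc_9_2 lc_a_rc_5_2 lc_a_rc_5_2 lc_a_rc_3_2 lc_a_rc_3_2 lc_a_rc_4_2 lc_a_rc_4_2 lc_a_rc_5_2 lc_a_rc_3_2 lc_a_rc_2_2 lc_a_rc_3_2 lc_a_rc_5_2 lc_a_rc_3_2 lc_a_rc_6_2 lc_a_rc_5_2 lc_a_rc_4_2 lc_a_rc_3_2 lc_a_rc_4_2 lc_a_rc_5_2 lc_a_rc_5_2 lc_a_rc_7_2 lc_a_rc_4_2 lc_a_rc_3_2 lc_a_rc_2_2 lc_a_rc_4_2 lc_a_rc_4_2)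
def ce_a_17 : D2 → D3 → (Cert rels S Gen.a) := @D2.rec (fun _ => D3 → (Cert rels S Gen.a)) (@D3.rec (fun _ => (Cert rels S Gen.a)) lc_a_rc_8_2 lc_a_rc_3_2 lc_a_rc_2_2 lc_a_rc_4_2 lc_a_Cert_tree lc_a_rc_3_2 lc_a_rc_1_2 lc_a_rc_6_2 lc_a_rc_5_2 lc_a_rc_3_2 lc_a_rc_6_2 lc_a_rc_4_2 lc_a_rc_1_2 lc_a_rc_1_2 lc_a_rc_6_2 lc_a_rc_7_2 lc_a_rc_3_2 lc_a_rc_4_2 lc_a_rc_1_2 lc_a_rc_4_2 lc_a_rc_3_2 lc_a_rc_4_2 lc_a_rc_1_2 lc_a_rc_8_2 lc_a_rc_3_2 lc_a_rc_4_2 lc_a_rc_4_2 lc_a_rc_1_2 lc_a_rc_3_2 lc_a_rc_4_2 lc_a_rc_5_0 lc_a_rc_5_2 lc_a_rc_3_2 lc_a_rc_6_2 lc_a_rc_6_2 lc_a_rc_3_2 lc_a_rc_4_2 lc_a_rc_3_2 lc_a_rc_5_2 lc_a_rc_3_2 lc_a_rc_4_2 lc_a_rc_7_2 lc_a_rc_3_2 lc_a_rc_3_2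 lc_a_rc_2_0 lc_a_rc_1_2 lc_a_rc_3_2 lc_a_rc_56_21 lc_a_rc_1_4 lc_a_rc_4_2 lc_a_rc_2_2) (@D3.rec (fun _ => (Cert rels S Gen.a)) lc_a_rc_4_2 lc_a_rc_6_2 lc_a_rc_2_2 lc_a_rc_4_2 lc_a_rc_4_2 lc_a_rc_4_2 lc_a_rc_4_2 lc_a_rc_5_2 lc_a_rc_4_2 lc_a_rc_4_2 lc_a_rc_9_2 lc_a_rc_4_2 lc_a_rc_2_2 lc_a_rc_4_2 lc_a_rc_4_2 lc_a_rc_3_2 lc_a_rc_9_2 lc_a_rc_3_2 lc_a_rc_4_2 lc_a_rc_5_2 lc_a_rc_5_2 lc_a_rc_2_2 lc_a_rc_3_2 lc_a_rc_6_2 lc_a_rc_3_2 lc_a_rc_3_2 lc_a_rc_4_2 lc_a_rc_4_2 lc_a_rc_3_2 lc_a_rc_6_2 lc_a_rc_5_0 lc_a_rc_3_0 lc_a_rc_9_2 lc_a_rc_56_28 lc_a_rc_4_2 lc_a_rc_4_2 lc_a_rc_1_4 lc_a_rc_7_2 lc_a_rc_4_2 lc_a_rc_3_2 lc_a_rc_4_2 lc_a_rc_4_2 lc_a_rc_3_2 lc_a_rc_4_2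 lc_a_rc_3_2 lc_a_rc_6_2 lc_a_rc_3_2 lc_a_rc_3_2 lc_a_rc_3_2 lc_a_rc_5_2 lc_a_rc_3_2) (@D3.rec (fun _ => (Cert rels S Gen.a)) lc_a_rc_4_2 lc_a_rc_6_2 lc_a_rc_5_2 lc_a_rc_3_2 lc_a_rc_4_2 lc_a_rc_5_2 lc_a_rc_3_2 lc_a_rc_2_2 lc_a_rc_3_2 lc_a_rc_5_2 lc_a_rc_6_2 lc_a_rc_4_2 lc_a_rc_4_2 lc_a_rc_8_2 lc_a_rc_4_2 lc_a_rc_56_7 lc_a_rc_7_0 lc_a_rc_5_0 lc_a_rc_4_2 lc_a_rc_4_2 lc_a_rc_3_2 lc_a_rc_4_2 lc_a_rc_1_2 lc_a_rc_6_2 lc_a_rc_4_2 lc_a_rc_3_2 lc_a_rc_3_2 lc_a_rc_4_2 lc_a_rc_5_2 lc_a_rc_3_2 lc_a_rc_2_2 lc_a_rc_2_2 lc_a_rc_2_2 lc_a_rc_6_2 lc_a_rc_5_2 lc_a_rc_4_2 lc_a_rc_2_2 lc_a_rc_4_2 lc_a_rc_4_2 lc_a_rc_2_2 lc_a_rc_3_2 lc_a_rc_4_2 lc_a_rc_4_2 lc_a_rc_3_2 lc_a_rc_4_2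 lc_a_rc_3_2 lc_a_rc_3_2 lc_a_rc_2_2 lc_a_rc_4_2 lc_a_rc_3_2 lc_a_rc_2_2) (@D3.rec (fun _ => (Cert rels S Gen.a)) lc_a_rc_5_2 lc_a_rc_2_2 lc_a_rc_1_2 lc_a_rc_6_2 lc_a_rc_3_2 lc_a_rc_5_2 lc_a_rc_4_2 lc_a_rc_1_4 lc_a_rc_2_2 lc_a_rc_3_2 lc_a_rc_4_2 lc_a_rc_3_2 lc_a_rc_2_2 lc_a_rc_1_2 lc_a_rc_7_2 lc_a_rc_3_2 lc_a_rc_2_2 lc_a_rc_4_2 lc_a_rc_6_2 lc_a_rc_2_2 lc_a_rc_4_2 lc_a_rc_2_2 lc_a_rc_1_2 lc_a_rc_1_4 lc_a_rc_6_2 lc_a_rc_7_2 lc_a_rc_4_0 lc_a_rc_3_2 lc_a_rc_6_0 lc_a_rc_8_2 lc_a_rc_8_2 lc_a_rc_5_2 lc_a_rc_9_2 lc_a_rc_56_35 lc_a_rc_8_2 lc_a_rc_3_2 lc_a_rc_2_2 lc_a_rc_2_2 lc_a_rc_3_2 lc_a_rc_6_2 lc_a_rc_3_2 lc_a_rc_5_2 lc_a_rc_5_2 lc_a_rc_7_2 lc_a_rc_4_2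 lc_a_rc_6_2 lc_a_rc_4_2 lc_a_rc_3_2 lc_a_rc_3_2 lc_a_rc_4_2 lc_a_rc_3_2) (@D3.rec (fun _ => (Cert rels S Gen.a)) lc_a_rc_3_2 lc_a_rc_5_2 lc_a_rc_4_2 lc_a_rc_3_2 lc_a_rc_4_2 lc_a_rc_7_2 lc_a_rc_3_2 lc_a_rc_2_2 lc_a_rc_3_2 lc_a_rc_4_2 lc_a_rc_6_2 lc_a_rc_6_2 lc_a_rc_7_2 lc_a_rc_2_2 lc_a_rc_4_2 lc_a_rc_5_2 lc_a_rc_3_2 lc_a_rc_5_2 lc_a_rc_6_2 lc_a_rc_0_0 lc_a_rc_5_2 lc_a_rc_4_2 lc_a_rc_3_2 lc_a_rc_7_2 lc_a_rc_3_2 lc_a_rc_2_2 lc_a_rc_3_2 lc_a_rc_5_2 lc_a_rc_3_2 lc_a_rc_4_2 lc_a_rc_5_2 lc_a_rc_4_2 lc_a_rc_3_2 lc_a_rc_4_2 lc_a_rc_6_2 lc_a_rc_6_2 lc_a_rc_5_2 lc_a_rc_3_2 lc_a_rc_2_2 lc_a_rc_3_2 lc_a_rc_2_2 lc_a_rc_4_2 lc_a_rc_6_2 lc_a_rc_5_2 lc_a_rc_5_2 lc_a_rc_2_2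 lc_a_rc_4_2 lc_a_Cert_tree lc_a_rc_3_2 lc_a_rc_4_2 lc_a_rc_3_2) (@D3.rec (fun _ => (Cert rels S Gen.a)) lc_a_rc_4_2 lc_a_rc_2_2 lc_a_rc_6_2 lc_a_rc_2_2 lc_a_rc_4_2 lc_a_rc_6_2 lc_a_rc_7_2 lc_a_rc_5_2 lc_a_rc_2_2 lc_a_rc_2_2 lc_a_rc_2_2 lc_a_rc_3_2 lc_a_rc_6_0 lc_a_rc_3_2 lc_a_rc_4_2 lc_a_rc_5_2 lc_a_rc_3_2 lc_a_rc_5_2 lc_a_rc_3_2 lc_a_rc_3_2 lc_a_rc_3_2 lc_a_rc_3_2 lc_a_rc_4_2 lc_a_rc_3_2 lc_a_rc_56_28 lc_a_rc_4_2 lc_a_rc_4_2 lc_a_rc_1_4 lc_a_rc_3_2 lc_a_rc_1_4 lc_a_rc_5_2 lc_a_rc_3_2 lc_a_rc_3_2 lc_a_rc_2_2 lc_a_rc_4_2 lc_a_rc_3_2 lc_a_rc_4_2 lc_a_rc_2_2 lc_a_rc_2_2 lc_a_rc_5_2 lc_a_rc_4_2 lc_a_rc_9_2 lc_a_rc_7_2 lc_a_rc_6_2 lc_a_rc_3_2 lc_a_rc_3_2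 lc_a_rc_2_2 lc_a_rc_6_2 lc_a_rc_6_2 lc_a_rc_7_2 lc_a_rc_56_21) (@D3.rec (fun _ => (Cert rels S Gen.a)) lc_a_rc_3_2 lc_a_rc_3_2 lc_a_rc_0_1 lc_a_rc_2_2 lc_a_rc_3_2 lc_a_rc_4_0 lc_a_rc_3_2 lc_a_rc_2_2 lc_a_rc_5_2 lc_a_rc_3_2 lc_a_rc_2_2 lc_a_rc_4_2 lc_a_Cert_tree lc_a_rc_0_1 lc_a_rc_3_2 lc_a_rc_4_2 lc_a_rc_4_2 lc_a_rc_4_2 lc_a_rc_4_2 lc_a_rc_3_2 lc_a_rc_1_2 lc_a_rc_3_2 lc_a_rc_1_2 lc_a_rc_2_2 lc_a_rc_3_2 lc_a_rc_3_2 lc_a_rc_5_2 lc_a_rc_3_2 lc_a_rc_4_2 lc_a_rc_2_2 lc_a_rc_6_2 lc_a_rc_5_2 lc_a_rc_2_2 lc_a_rc_2_2 lc_a_rc_3_2 lc_a_rc_6_2 lc_a_rc_3_2 lc_a_rc_6_2 lc_a_rc_4_2 lc_a_rc_4_2 lc_a_rc_4_2 lc_a_rc_3_2 lc_a_rc_3_2 lc_a_rc_2_2 lc_a_rc_9_2 lc_a_rc_3_2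 lc_a_rc_2_2 lc_a_rc_2_2 lc_a_rc_4_2 lc_a_rc_2_2 lc_a_rc_2_2) (@D3.rec (fun _ => (Cert rels S Gen.a)) lc_a_rc_6_2 lc_a_rc_3_2 lc_a_rc_3_2 lc_a_rc_5_2 lc_a_rc_2_2 lc_a_rc_2_2 lc_a_rc_3_2 lc_a_rc_7_2 lc_a_rc_3_2 lc_a_rc_2_2 lc_a_rc_9_2 lc_a_rc_4_2 lc_a_rc_3_2 lc_a_rc_9_2 lc_a_rc_5_2 lc_a_rc_9_2 lc_a_rc_5_2 lc_a_rc_3_2 lc_a_rc_2_2 lc_a_rc_2_2 lc_a_rc_4_2 lc_a_Cert_tree lc_a_rc_2_2 lc_a_rc_3_2 lc_a_rc_2_2 lc_a_rc_3_2 lc_a_rc_2_2 lc_a_rc_4_2 lc_a_rc_2_2 lc_a_rc_4_2 lc_a_rc_2_2 lc_a_rc_2_2 lc_a_rc_4_2 lc_a_rc_2_2 lc_a_rc_3_2 lc_a_rc_5_2 lc_a_rc_4_0 lc_a_rc_5_2 lc_a_rc_9_2 lc_a_rc_56_21 lc_a_rc_2_2 lc_a_rc_5_2 lc_a_rc_8_2 lc_a_rc_7_2 lc_a_rc_6_2 lc_a_rc_3_2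 lc_a_rc_9_2 lc_a_rc_5_2 lc_a_rc_9_2 lc_a_rc_9_2 lc_a_rc_5_2) (@D3.rec (fun _ => (Cert rels S Gen.a)) lc_a_rc_3_2 lc_a_rc_3_2 lc_a_rc_8_2 lc_a_rc_5_2 lc_a_rc_2_2 lc_a_rc_2_2 lc_a_rc_3_2 lc_a_rc_4_2 lc_a_rc_5_2 lc_a_rc_3_2 lc_a_rc_2_2 lc_a_rc_5_2 lc_a_rc_6_2 lc_a_rc_6_2 lc_a_rc_3_2 lc_a_rc_5_2 lc_a_rc_4_2 lc_a_rc_6_2 lc_a_rc_3_2 lc_a_rc_4_2 lc_a_rc_4_2 lc_a_rc_3_2 lc_a_rc_2_2 lc_a_rc_4_2 lc_a_rc_3_2 lc_a_rc_3_2 lc_a_rc_4_0 lc_a_rc_4_2 lc_a_rc_4_2 lc_a_rc_4_2 lc_a_rc_3_2 lc_a_rc_2_2 lc_a_rc_4_2 lc_a_rc_3_2 lc_a_rc_2_2 lc_a_rc_3_2 lc_a_Cert_tree lc_a_rc_7_2 lc_a_rc_8_2 lc_a_rc_7_2 lc_a_rc_3_2 lc_a_rc_2_2 lc_a_rc_4_2 lc_a_rc_1_4 lc_a_rc_6_2 lc_a_rc_4_2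 lc_a_rc_3_2 lc_a_rc_3_2 lc_a_rc_4_2 lc_a_rc_2_2 lc_a_rc_2_2) (@D3.rec (fun _ => (Cert rels S Gen.a)) lc_a_rc_3_2 lc_a_rc_4_2 lc_a_rc_2_2 lc_a_rc_6_2 lc_a_rc_2_2 lc_a_rc_3_2 lc_a_rc_7_2 lc_a_rc_0_1 lc_a_rc_3_2 lc_a_rc_2_2 lc_a_rc_5_2 lc_a_rc_3_2 lc_a_rc_4_2 lc_a_rc_3_2 lc_a_rc_3_2 lc_a_rc_3_2 lc_a_rc_5_2 lc_a_rc_4_2 lc_a_rc_5_2 lc_a_rc_7_2 lc_a_rc_2_2 lc_a_rc_3_2 lc_a_rc_2_2 lc_a_rc_3_2 lc_a_rc_4_2 lc_a_rc_3_2 lc_a_rc_2_2 lc_a_rc_4_2 lc_a_Cert_tree lc_a_rc_3_2 lc_a_rc_3_2 lc_a_rc_5_2 lc_a_rc_3_2 lc_a_rc_4_2 lc_a_rc_3_2 lc_a_rc_2_2 lc_a_rc_3_2 lc_a_rc_6_2 lc_a_rc_7_2 lc_a_rc_5_2 lc_a_rc_9_2 lc_a_rc_5_2 lc_a_rc_9_2 lc_a_rc_2_2 lc_a_rc_4_2 lc_a_rc_4_2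 lc_a_rc_3_2 lc_a_rc_2_2 lc_a_rc_4_2 lc_a_Cert_tree lc_a_rc_2_2) (@D3.rec (fun _ => (Cert rels S Gen.a)) lc_a_rc_3_2 lc_a_rc_3_2 lc_a_rc_2_2 lc_a_rc_3_2 lc_a_Cert_tree lc_a_rc_2_2 lc_a_rc_0_0 lc_a_rc_3_2 lc_a_rc_0_1 lc_a_rc_3_2 lc_a_rc_2_2 lc_a_rc_4_2 lc_a_rc_3_2 lc_a_rc_2_2 lc_a_rc_4_2 lc_a_Cert_tree lc_a_rc_2_2 lc_a_rc_0_0 lc_a_rc_6_2 lc_a_rc_4_2 lc_a_rc_3_2 lc_a_rc_4_2 lc_a_rc_2_2 lc_a_rc_6_2 lc_a_rc_6_2 lc_a_rc_4_2 lc_a_rc_4_2 lc_a_rc_0_0 lc_a_rc_4_2 lc_a_rc_3_2 lc_a_rc_3_2 lc_a_rc_3_2 lc_a_rc_7_2 lc_a_rc_5_0 lc_a_Cert_tree lc_a_rc_2_2 lc_a_rc_6_2 lc_a_rc_0_0 lc_a_rc_4_2 lc_a_rc_0_1 lc_a_rc_6_2 lc_a_rc_3_2 lc_a_rc_4_2 lc_a_rc_3_2 lc_a_rc_5_2 lc_a_rc_2_2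 lc_a_rc_4_2 lc_a_rc_2_2 lc_a_rc_5_2 lc_a_rc_9_2 lc_a_rc_4_2) (@D3.rec (fun _ => (Cert rels S Gen.a)) lc_a_rc_3_2 lc_a_rc_2_2 lc_a_rc_4_2 lc_a_rc_5_2 lc_a_rc_2_2 lc_a_rc_4_2 lc_a_rc_2_2 lc_a_rc_4_2 lc_a_rc_3_2 lc_a_rc_2_2 lc_a_rc_2_2 lc_a_rc_4_2 lc_a_rc_3_2 lc_a_rc_2_2 lc_a_rc_4_2 lc_a_rc_3_2 lc_a_rc_5_2 lc_a_rc_7_2 lc_a_rc_5_2 lc_a_rc_3_2 lc_a_rc_2_2 lc_a_rc_4_2 lc_a_rc_2_2 lc_a_Cert_tree lc_a_rc_3_2 lc_a_rc_3_2 lc_a_rc_4_2 lc_a_rc_7_0 lc_a_rc_7_0 lc_a_rc_5_2 lc_a_rc_5_2 lc_a_rc_2_2 lc_a_rc_2_2 lc_a_rc_5_2 lc_a_rc_3_2 lc_a_rc_4_2 lc_a_rc_2_2 lc_a_rc_3_2 lc_a_Cert_tree lc_a_rc_4_0 lc_a_rc_3_2 lc_a_rc_2_2 lc_a_rc_5_2 lc_a_rc_3_2 lc_a_rc_4_2 lc_a_rc_2_2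 lc_a_rc_9_2 lc_a_rc_56_21 lc_a_rc_2_2 lc_a_rc_3_2 lc_a_rc_6_2) (@D3.rec (fun _ => (Cert rels S Gen.a)) lc_a_rc_3_2 lc_a_rc_1_4 lc_a_rc_1_4 lc_a_rc_3_2 lc_a_rc_5_2 lc_a_rc_2_2 lc_a_rc_3_2 lc_a_rc_4_2 lc_a_rc_3_2 lc_a_rc_2_2 lc_a_rc_0_1 lc_a_rc_3_2 lc_a_rc_1_4 lc_a_rc_5_2 lc_a_rc_5_2 lc_a_rc_3_2 lc_a_rc_2_2 lc_a_rc_4_2 lc_a_rc_6_2 lc_a_rc_2_2 lc_a_Cert_tree lc_a_rc_1_2 lc_a_rc_3_2 lc_a_rc_6_2 lc_a_rc_2_2 lc_a_rc_4_2 lc_a_rc_3_2 lc_a_rc_4_2 lc_a_rc_1_4 lc_a_rc_5_2 lc_a_rc_4_2 lc_a_rc_6_2 lc_a_rc_56_21 lc_a_rc_2_2 lc_a_rc_3_2 lc_a_rc_6_2 lc_a_rc_5_2 lc_a_rc_6_2 lc_a_rc_1_2 lc_a_rc_7_2 lc_a_rc_5_2 lc_a_rc_5_2 lc_a_rc_1_4 lc_a_rc_5_2 lc_a_rc_3_2 lc_a_rc_4_2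 lc_a_rc_0_1 lc_a_rc_9_2 lc_a_rc_4_2 lc_a_rc_3_2 lc_a_rc_5_2) (@D3.rec (fun _ => (Cert rels S Gen.a)) lc_a_rc_8_2 lc_a_rc_9_2 lc_a_rc_3_2 lc_a_rc_8_2 lc_a_rc_1_2 lc_a_rc_0_1 lc_a_rc_7_0 lc_a_rc_0_1 lc_a_rc_5_2 lc_a_rc_4_2 lc_a_rc_3_2 lc_a_rc_4_2 lc_a_rc_5_2 lc_a_rc_5_2 lc_a_rc_5_2 lc_a_rc_3_2 lc_a_rc_2_2 lc_a_rc_3_2 lc_a_rc_3_2 lc_a_rc_2_2 lc_a_Cert_tree lc_a_rc_2_2 lc_a_rc_3_2 lc_a_rc_4_2 lc_a_rc_3_2 lc_a_rc_2_2 lc_a_rc_5_2 lc_a_rc_5_2 lc_a_rc_8_2 lc_a_rc_8_2 lc_a_rc_5_2 lc_a_rc_8_2 lc_a_rc_5_2 lc_a_rc_3_2 lc_a_rc_2_2 lc_a_rc_4_2 lc_a_rc_6_2 lc_a_rc_2_2 lc_a_Cert_tree lc_a_rc_5_2 lc_a_rc_3_2 lc_a_rc_5_2 lc_a_rc_8_2 lc_a_rc_8_2 lc_a_rc_4_2 lc_a_rc_3_2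 lc_a_rc_2_2 lc_a_rc_3_2 lc_a_rc_6_2 lc_a_rc_6_2 lc_a_rc_5_2) (@D3.rec (fun _ => (Cert rels S Gen.a)) lc_a_rc_3_2 lc_a_rc_2_2 lc_a_rc_5_2 lc_a_rc_6_0 lc_a_rc_3_2 lc_a_rc_2_2 lc_a_rc_4_2 lc_a_Cert_tree lc_a_rc_2_2 lc_a_rc_6_2 lc_a_rc_3_2 lc_a_rc_2_2 lc_a_Cert_tree lc_a_rc_0_0 lc_a_rc_5_2 lc_a_rc_3_2 lc_a_rc_3_2 lc_a_rc_4_2 lc_a_rc_7_2 lc_a_rc_3_2 lc_a_rc_4_2 lc_a_rc_6_2 lc_a_rc_4_2 lc_a_rc_6_2 lc_a_rc_3_2 lc_a_rc_5_2 lc_a_rc_6_2 lc_a_rc_7_2 lc_a_rc_8_2 lc_a_rc_5_2 lc_a_rc_4_2 lc_a_rc_6_2 lc_a_rc_3_2 lc_a_rc_3_2 lc_a_rc_3_2 lc_a_rc_4_2 lc_a_rc_2_2 lc_a_rc_6_2 lc_a_rc_4_2 lc_a_rc_6_2 lc_a_rc_3_2 lc_a_rc_5_2 lc_a_rc_3_2 lc_a_rc_4_2 lc_a_rc_2_2 lc_a_rc_6_2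 lc_a_rc_2_2 lc_a_rc_6_2 lc_a_rc_5_2 lc_a_rc_4_2 lc_a_rc_3_2) (@D3.rec (fun _ => (Cert rels S Gen.a)) lc_a_rc_3_2 lc_a_rc_2_2 lc_a_rc_4_2 lc_a_rc_6_2 lc_a_rc_2_2 lc_a_Cert_tree lc_a_rc_4_2 lc_a_rc_6_2 lc_a_rc_7_2 lc_a_rc_2_0 lc_a_rc_2_0 lc_a_rc_6_2 lc_a_rc_1_2 lc_a_rc_5_2 lc_a_rc_3_2 lc_a_rc_4_2 lc_a_rc_2_2 lc_a_rc_3_2 lc_a_rc_2_2 lc_a_rc_2_2 lc_a_rc_4_2 lc_a_rc_6_2 lc_a_Cert_tree lc_a_rc_3_2 lc_a_rc_4_2 lc_a_rc_5_2 lc_a_rc_5_2 lc_a_rc_2_2 lc_a_rc_3_2 lc_a_rc_2_0 lc_a_Cert_tree lc_a_rc_6_2 lc_a_rc_5_0 lc_a_rc_5_2 lc_a_rc_6_2 lc_a_rc_2_2 lc_a_rc_5_2 lc_a_rc_5_2 lc_a_rc_2_2 lc_a_rc_5_0 lc_a_Cert_tree lc_a_rc_3_2 lc_a_rc_4_2 lc_a_rc_3_2 lc_a_rc_5_2 lc_a_rc_2_2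 lc_a_rc_4_2 lc_a_rc_4_2 lc_a_rc_3_2 lc_a_rc_2_2 lc_a_rc_4_2) (@D3.rec (fun _ => (Cert rels S Gen.a)) lc_a_rc_3_2 lc_a_rc_2_2 lc_a_rc_7_0 lc_a_Cert_tree lc_a_rc_2_2 lc_a_rc_6_2 lc_a_rc_4_2 lc_a_rc_2_2 lc_a_Cert_tree lc_a_rc_0_0 lc_a_rc_4_2 lc_a_rc_4_2 lc_a_rc_6_2 lc_a_rc_3_2 lc_a_rc_2_2 lc_a_Cert_tree lc_a_rc_2_2 lc_a_rc_3_2 lc_a_rc_2_2 lc_a_rc_2_2 lc_a_Cert_tree lc_a_rc_5_2 lc_a_rc_3_2 lc_a_rc_0_1 lc_a_rc_3_2 lc_a_rc_2_2 lc_a_rc_4_2 lc_a_rc_5_2 lc_a_rc_5_2 lc_a_rc_4_0 lc_a_rc_3_2 lc_a_rc_2_2 lc_a_rc_1_2 lc_a_rc_2_2 lc_a_Cert_tree lc_a_rc_5_2 lc_a_rc_3_2 lc_a_rc_3_2 lc_a_rc_2_2 lc_a_rc_5_2 lc_a_rc_2_2 lc_a_rc_2_2 lc_a_rc_3_2 lc_a_Cert_tree lc_a_Cert_tree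 lc_a_rc_0_0 lc_a_rc_2_2 lc_a_rc_8_2 lc_a_rc_4_2 lc_a_rc_3_2 lc_a_rc_4_2) (@D3.rec (fun _ => (Cert rels S Gen.a)) lc_a_rc_2_2 lc_a_rc_2_2 lc_a_Cert_tree lc_a_rc_3_2 lc_a_rc_3_2 lc_a_rc_2_2 lc_a_rc_4_2 lc_a_rc_2_2 lc_a_Cert_tree lc_a_rc_3_2 lc_a_rc_3_2 lc_a_rc_2_2 lc_a_rc_9_2 lc_a_rc_2_2 lc_a_Cert_tree lc_a_rc_0_0 lc_a_rc_5_2 lc_a_rc_3_2 lc_a_rc_1_2 lc_a_rc_3_2 lc_a_rc_1_2 lc_a_rc_4_2 lc_a_rc_2_2 lc_a_rc_3_2 lc_a_rc_2_2 lc_a_rc_4_2 lc_a_Cert_tree lc_a_rc_6_2 lc_a_rc_3_2 lc_a_rc_6_2 lc_a_rc_2_2 lc_a_rc_4_2 lc_a_rc_4_2 lc_a_rc_2_2 lc_a_Cert_tree lc_a_rc_3_2 lc_a_rc_0_1 lc_a_rc_5_2 lc_a_rc_4_2 lc_a_rc_3_2 lc_a_rc_2_2 lc_a_rc_9_2 lc_a_rc_5_2 lc_a_rc_5_2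 lc_a_rc_5_2 lc_a_rc_4_2 lc_a_rc_2_2 lc_a_rc_4_2 lc_a_rc_3_2 lc_a_rc_2_2 lc_a_rc_3_2) (@D3.rec (fun _ => (Cert rels S Gen.a)) lc_a_Cert_tree lc_a_rc_3_2 lc_a_rc_2_2 lc_a_Cert_tree lc_a_rc_0_0 lc_a_rc_2_2 lc_a_rc_2_2 lc_a_rc_4_2 lc_a_rc_8_2 lc_a_rc_4_2 lc_a_rc_5_2 lc_a_rc_2_2 lc_a_rc_3_2 lc_a_rc_2_2 lc_a_rc_4_2 lc_a_Cert_tree lc_a_rc_4_0 lc_a_rc_2_2 lc_a_rc_2_2 lc_a_rc_2_2 lc_a_rc_5_2 lc_a_Cert_tree lc_a_rc_2_2 lc_a_rc_3_2 lc_a_rc_7_2 lc_a_rc_3_2 lc_a_rc_2_2 lc_a_Cert_tree lc_a_rc_0_0 lc_a_rc_3_2 lc_a_rc_2_2 lc_a_rc_3_2 lc_a_rc_2_2 lc_a_rc_3_2 lc_a_Cert_tree lc_a_rc_9_2 lc_a_rc_5_2 lc_a_rc_3_2 lc_a_rc_2_2 lc_a_rc_4_2 lc_a_rc_2_2 lc_a_Cert_tree lc_a_rc_3_2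 lc_a_rc_2_2 lc_a_rc_3_2 lc_a_Cert_tree lc_a_rc_2_2 lc_a_rc_3_2 lc_a_rc_0_0 lc_a_rc_4_2 lc_a_rc_2_2) (@D3.rec (fun _ => (Cert rels S Gen.a)) lc_a_rc_2_2 lc_a_Cert_tree lc_a_rc_0_0 lc_a_rc_2_2 lc_a_rc_4_2 lc_a_rc_5_2 lc_a_rc_9_2 lc_a_rc_4_2 lc_a_rc_4_2 lc_a_rc_4_2 lc_a_rc_5_2 lc_a_rc_4_2 lc_a_rc_5_2 lc_a_rc_4_2 lc_a_rc_0_1 lc_a_rc_3_2 lc_a_rc_4_2 lc_a_rc_1_2 lc_a_rc_3_2 lc_a_rc_9_2 lc_a_rc_5_2 lc_a_rc_4_2 lc_a_rc_3_2 lc_a_rc_0_1 lc_a_rc_7_2 lc_a_rc_4_2 lc_a_rc_7_2 lc_a_rc_5_2 lc_a_rc_7_2 lc_a_rc_2_2 lc_a_rc_3_2 lc_a_rc_5_2 lc_a_rc_2_2 lc_a_rc_1_4 lc_a_rc_2_2 lc_a_rc_5_2 lc_a_rc_2_2 lc_a_rc_3_2 lc_a_rc_2_2 lc_a_rc_3_2 lc_a_rc_3_2 lc_a_rc_2_2 lc_a_rc_3_2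 lc_a_rc_4_2 lc_a_rc_2_2 lc_a_rc_2_2 lc_a_rc_4_2 lc_a_rc_5_2 lc_a_rc_2_2 lc_a_rc_5_2 lc_a_Cert_tree) (@D3.rec (fun _ => (Cert rels S Gen.a)) lc_a_rc_5_2 lc_a_rc_1_2 lc_a_rc_4_2 lc_a_rc_1_2 lc_a_rc_3_2 lc_a_rc_4_0 lc_a_rc_5_2 lc_a_rc_7_2 lc_a_rc_56_35 lc_a_rc_9_2 lc_a_rc_2_2 lc_a_rc_4_2 lc_a_rc_3_2 lc_a_rc_5_2 lc_a_rc_5_2 lc_a_rc_6_0 lc_a_rc_9_2 lc_a_rc_4_2 lc_a_rc_8_2 lc_a_rc_4_2 lc_a_rc_4_2 lc_a_rc_3_2 lc_a_rc_9_2 lc_a_rc_5_2 lc_a_rc_3_2 lc_a_rc_4_2 lc_a_rc_3_2 lc_a_rc_2_2 lc_a_rc_2_2 lc_a_rc_7_2 lc_a_rc_3_2 lc_a_rc_3_0 lc_a_rc_2_2 lc_a_rc_3_0 lc_a_rc_4_2 lc_a_rc_3_2 lc_a_rc_4_2 lc_a_rc_3_2 lc_a_rc_4_2 lc_a_rc_4_2 lc_a_rc_3_2 lc_a_rc_2_2 lc_a_rc_9_2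 lc_a_rc_5_2 lc_a_rc_3_2 lc_a_rc_4_2 lc_a_rc_7_2 lc_a_rc_5_2 lc_a_rc_9_2 lc_a_rc_5_2 lc_a_rc_3_2) (@D3.rec (fun _ => (Cert rels S Gen.a)) lc_a_rc_2_2 lc_a_rc_3_2 lc_a_rc_4_2 lc_a_rc_2_2 lc_a_rc_3_2 lc_a_Cert_tree lc_a_rc_3_2 lc_a_rc_1_2 lc_a_rc_3_2 lc_a_rc_2_2 lc_a_rc_3_2 lc_a_rc_6_2 lc_a_rc_4_2 lc_a_rc_1_2 lc_a_rc_4_2 lc_a_rc_3_2 lc_a_rc_2_2 lc_a_rc_4_2 lc_a_rc_7_2 lc_a_rc_5_0 lc_a_rc_6_2 lc_a_rc_6_2 lc_a_rc_3_2 lc_a_rc_56_28 lc_a_rc_4_0 lc_a_rc_5_2 lc_a_rc_3_2 lc_a_rc_9_2 lc_a_rc_5_2 lc_a_rc_3_2 lc_a_rc_2_2 lc_a_rc_1_2 lc_a_rc_3_2 lc_a_rc_4_2 lc_a_rc_5_2 lc_a_rc_7_0 lc_a_rc_1_2 lc_a_rc_2_2 lc_a_rc_3_2 lc_a_rc_3_2 lc_a_rc_5_2 lc_a_rc_3_2 lc_a_rc_4_2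 lc_a_rc_3_2 lc_a_rc_2_2 lc_a_rc_4_2 lc_a_rc_6_2 lc_a_rc_3_2 lc_a_rc_3_2 lc_a_rc_5_2 lc_a_rc_3_2) (@D3.rec (fun _ => (Cert rels S Gen.a)) lc_a_rc_4_2 lc_a_rc_3_2 lc_a_rc_2_2 lc_a_rc_4_2 lc_a_rc_6_2 lc_a_rc_3_2 lc_a_rc_2_2 lc_a_rc_2_2 lc_a_rc_4_2 lc_a_rc_8_2 lc_a_rc_3_2 lc_a_rc_2_2 lc_a_rc_4_2 lc_a_Cert_tree lc_a_rc_3_2 lc_a_rc_4_2 lc_a_rc_4_2 lc_a_rc_9_2 lc_a_rc_56_35 lc_a_rc_8_2 lc_a_rc_8_2 lc_a_rc_8_2 lc_a_rc_3_2 lc_a_rc_3_2 lc_a_rc_5_2 lc_a_rc_5_2 lc_a_rc_9_2 lc_a_rc_5_2 lc_a_rc_5_2 lc_a_rc_3_2 lc_a_rc_5_2 lc_a_rc_6_2 lc_a_rc_3_2 lc_a_rc_4_2 lc_a_rc_3_2 lc_a_rc_2_2 lc_a_rc_6_2 lc_a_rc_5_2 lc_a_rc_5_2 lc_a_rc_4_2 lc_a_rc_3_2 lc_a_rc_5_2 lc_a_rc_3_2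 lc_a_rc_4_2 lc_a_rc_5_2 lc_a_rc_3_2 lc_a_rc_2_2 lc_a_rc_5_2 lc_a_rc_3_2 lc_a_rc_4_2 lc_a_rc_4_0) (@D3.rec (fun _ => (Cert rels S Gen.a)) lc_a_rc_5_2 lc_a_rc_5_2 lc_a_rc_3_2 lc_a_rc_2_2 lc_a_rc_3_2 lc_a_rc_4_2 lc_a_rc_4_2 lc_a_rc_3_2 lc_a_rc_2_2 lc_a_rc_3_2 lc_a_Cert_tree lc_a_rc_1_2 lc_a_rc_3_2 lc_a_rc_3_2 lc_a_rc_4_2 lc_a_rc_2_2 lc_a_rc_4_2 lc_a_rc_4_2 lc_a_rc_6_2 lc_a_rc_6_2 lc_a_rc_3_2 lc_a_rc_2_2 lc_a_rc_5_2 lc_a_rc_3_2 lc_a_rc_3_2 lc_a_rc_4_2 lc_a_rc_2_2 lc_a_rc_4_2 lc_a_rc_4_2 lc_a_rc_5_2 lc_a_rc_3_2 lc_a_rc_2_2 lc_a_rc_4_2 lc_a_Cert_tree lc_a_rc_5_2 lc_a_rc_3_2 lc_a_rc_4_2 lc_a_rc_6_2 lc_a_rc_3_2 lc_a_rc_3_2 lc_a_rc_2_2 lc_a_rc_4_2 lc_a_rc_4_2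 lc_a_rc_3_2 lc_a_rc_2_2 lc_a_rc_5_2 lc_a_rc_2_2 lc_a_rc_3_2 lc_a_rc_2_2 lc_a_Cert_tree lc_a_rc_2_2) (@D3.rec (fun _ => (Cert rels S Gen.a)) lc_a_rc_3_2 lc_a_rc_4_2 lc_a_rc_3_2 lc_a_rc_2_2 lc_a_rc_4_2 lc_a_Cert_tree lc_a_rc_2_2 lc_a_rc_0_0 lc_a_rc_6_2 lc_a_rc_0_0 lc_a_rc_3_2 lc_a_rc_4_2 lc_a_rc_1_2 lc_a_rc_8_2 lc_a_rc_4_2 lc_a_rc_1_2 lc_a_rc_3_2 lc_a_rc_4_2 lc_a_rc_0_0 lc_a_rc_1_2 lc_a_rc_4_2 lc_a_rc_3_2 lc_a_rc_3_2 lc_a_rc_5_2 lc_a_rc_6_2 lc_a_rc_5_2 lc_a_rc_4_2 lc_a_rc_5_2 lc_a_rc_3_2 lc_a_rc_5_2 lc_a_rc_4_2 lc_a_rc_4_2 lc_a_rc_4_2 lc_a_rc_3_2 lc_a_rc_4_2 lc_a_rc_3_2 lc_a_rc_3_2 lc_a_rc_5_2 lc_a_rc_3_2 lc_a_rc_3_2 lc_a_rc_4_2 lc_a_rc_3_2 lc_a_rc_2_2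 lc_a_rc_4_2 lc_a_rc_3_2 lc_a_rc_6_2 lc_a_rc_4_2 lc_a_rc_2_2 lc_a_rc_6_2 lc_a_rc_1_2 lc_a_rc_3_2) (@D3.rec (fun _ => (Cert rels S Gen.a)) lc_a_rc_5_2 lc_a_rc_6_2 lc_a_rc_2_0 lc_a_rc_3_2 lc_a_rc_4_2 lc_a_rc_4_2 lc_a_rc_3_2 lc_a_rc_2_2 lc_a_rc_3_2 lc_a_rc_3_2 lc_a_rc_6_2 lc_a_rc_4_2 lc_a_rc_3_2 lc_a_rc_2_2 lc_a_rc_2_0 lc_a_rc_4_2 lc_a_rc_5_2 lc_a_rc_2_2 lc_a_rc_4_2 lc_a_rc_4_2 lc_a_rc_5_2 lc_a_rc_2_2 lc_a_rc_4_2 lc_a_Cert_tree lc_a_rc_5_2 lc_a_rc_7_0 lc_a_rc_4_2 lc_a_rc_3_2 lc_a_rc_5_2 lc_a_rc_8_2 lc_a_rc_4_2 lc_a_rc_0_0 lc_a_rc_3_2 lc_a_rc_4_2 lc_a_rc_2_2 lc_a_rc_5_2 lc_a_rc_3_2 lc_a_rc_2_2 lc_a_rc_2_2 lc_a_rc_3_2 lc_a_rc_6_2 lc_a_rc_3_2 lc_a_rc_4_2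 lc_a_rc_3_2 lc_a_rc_4_2 lc_a_rc_3_2 lc_a_rc_5_2 lc_a_rc_4_2 lc_a_rc_3_2 lc_a_rc_4_2 lc_a_rc_3_2) (@D3.rec (fun _ => (Cert rels S Gen.a)) lc_a_rc_2_2 lc_a_rc_6_2 lc_a_rc_2_2 lc_a_rc_4_2 lc_a_rc_3_2 lc_a_rc_3_2 lc_a_rc_4_2 lc_a_rc_3_2 lc_a_rc_2_2 lc_a_rc_5_2 lc_a_rc_7_2 lc_a_rc_1_4 lc_a_rc_3_2 lc_a_rc_2_2 lc_a_rc_4_2 lc_a_rc_6_2 lc_a_rc_2_2 lc_a_rc_4_2 lc_a_Cert_tree lc_a_rc_7_2 lc_a_rc_2_2 lc_a_rc_4_2 lc_a_rc_6_2 lc_a_rc_2_2 lc_a_rc_3_2 lc_a_rc_2_2 lc_a_rc_1_4 lc_a_rc_6_2 lc_a_rc_3_2 lc_a_rc_8_2 lc_a_rc_8_2 lc_a_rc_56_7 lc_a_rc_3_2 lc_a_rc_1_4 lc_a_rc_0_1 lc_a_rc_8_2 lc_a_rc_5_2 lc_a_rc_2_2 lc_a_rc_3_2 lc_a_rc_4_2 lc_a_rc_3_2 lc_a_rc_2_2 lc_a_rc_9_2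 lc_a_rc_6_2 lc_a_rc_56_7 lc_a_rc_3_2 lc_a_rc_7_2 lc_a_rc_1_4 lc_a_rc_2_2 lc_a_rc_5_2 lc_a_rc_3_2)
def ce_a_18 : D2 → D3 → (Cert rels S Gen.a) := @D2.rec (fun _ => D3 → (Cert rels S Gen.a)) (@D3.rec (fun _ => (Cert rels S Gen.a)) lc_a_rc_4_2 lc_a_rc_5_2 lc_a_rc_5_2 lc_a_rc_3_2 lc_a_rc_2_2 lc_a_rc_3_2 lc_a_rc_6_2 lc_a_rc_7_2 lc_a_rc_2_2 lc_a_rc_3_2 lc_a_Cert_tree lc_a_rc_4_2 lc_a_rc_6_2 lc_a_rc_4_2 lc_a_rc_7_2 lc_a_rc_2_2 lc_a_rc_1_4 lc_a_rc_2_2 lc_a_rc_7_2 lc_a_rc_6_2 lc_a_rc_5_2 lc_a_rc_3_2 lc_a_rc_0_1 lc_a_rc_2_2 lc_a_rc_5_0 lc_a_rc_2_2 lc_a_rc_7_0 lc_a_Cert_tree lc_a_rc_5_2 lc_a_rc_3_2 lc_a_rc_5_2 lc_a_rc_5_2 lc_a_rc_3_2 lc_a_rc_3_2 lc_a_rc_2_2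 lc_a_rc_4_2 lc_a_rc_2_2 lc_a_rc_6_2 lc_a_rc_3_2 lc_a_rc_3_2 lc_a_rc_2_2 lc_a_rc_4_2 lc_a_rc_3_2 lc_a_rc_2_2 lc_a_rc_4_2 lc_a_Cert_tree lc_a_rc_2_2 lc_a_rc_6_2 lc_a_rc_2_2 lc_a_rc_5_2 lc_a_rc_2_2) (@D3.rec (fun _ => (Cert rels S Gen.a)) lc_a_rc_5_2 lc_a_Cert_tree lc_a_rc_2_2 lc_a_rc_0_0 lc_a_rc_4_2 lc_a_rc_4_2 lc_a_rc_6_2 lc_a_rc_2_0 lc_a_rc_2_2 lc_a_rc_6_2 lc_a_rc_3_2 lc_a_rc_2_2 lc_a_rc_7_2 lc_a_rc_5_2 lc_a_rc_2_0 lc_a_rc_4_2 lc_a_rc_3_2 lc_a_rc_3_2 lc_a_rc_3_0 lc_a_rc_3_2 lc_a_rc_4_2 lc_a_rc_4_2 lc_a_rc_5_2 lc_a_rc_56_28 lc_a_rc_3_2 lc_a_rc_3_2 lc_a_rc_4_2 lc_a_rc_2_2 lc_a_rc_3_2 lc_a_rc_2_2 lc_a_rc_2_2 lc_a_rc_4_2 lc_a_Cert_tree lc_a_rc_5_2 lc_a_rc_4_2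 lc_a_rc_3_2 lc_a_rc_2_2 lc_a_rc_5_2 lc_a_rc_2_2 lc_a_rc_5_2 lc_a_rc_3_2 lc_a_rc_3_2 lc_a_rc_2_2 lc_a_rc_2_2 lc_a_rc_3_2 lc_a_Cert_tree lc_a_rc_8_2 lc_a_rc_3_2 lc_a_rc_6_2 lc_a_rc_2_2 lc_a_rc_2_2) (@D3.rec (fun _ => (Cert rels S Gen.a)) lc_a_rc_2_2 lc_a_rc_1_4 lc_a_Cert_tree lc_a_rc_2_2 lc_a_rc_2_2 lc_a_rc_2_2 lc_a_Cert_tree lc_a_rc_3_2 lc_a_rc_2_2 lc_a_rc_3_2 lc_a_Cert_tree lc_a_rc_2_2 lc_a_rc_0_0 lc_a_rc_4_2 lc_a_rc_3_2 lc_a_rc_9_0 lc_a_rc_5_2 lc_a_rc_3_2 lc_a_rc_2_2 lc_a_rc_3_2 lc_a_rc_3_2 lc_a_rc_4_2 lc_a_rc_2_2 lc_a_rc_5_2 lc_a_rc_2_2 lc_a_rc_4_2 lc_a_Cert_tree lc_a_rc_6_2 lc_a_rc_3_2 lc_a_rc_2_2 lc_a_rc_3_2 lc_a_rc_4_2 lc_a_rc_3_2 lc_a_rc_2_2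 lc_a_rc_6_2 lc_a_rc_3_2 lc_a_rc_4_2 lc_a_rc_3_2 lc_a_rc_2_2 lc_a_rc_2_2 lc_a_rc_3_2 lc_a_Cert_tree lc_a_rc_3_2 lc_a_rc_2_2 lc_a_rc_4_2 lc_a_rc_2_2 lc_a_rc_2_2 lc_a_rc_3_2 lc_a_rc_3_2 lc_a_rc_2_2 lc_a_rc_5_2) (@D3.rec (fun _ => (Cert rels S Gen.a)) lc_a_rc_5_2 lc_a_rc_2_2 lc_a_rc_3_2 lc_a_rc_2_2 lc_a_rc_3_2 lc_a_rc_2_2 lc_a_rc_4_2 lc_a_Cert_tree lc_a_rc_2_2 lc_a_rc_5_2 lc_a_rc_2_2 lc_a_rc_9_2 lc_a_rc_5_2 lc_a_rc_9_2 lc_a_rc_2_2 lc_a_rc_2_2 lc_a_rc_4_2 lc_a_Cert_tree lc_a_Cert_tree lc_a_rc_2_2 lc_a_rc_0_0 lc_a_rc_3_2 lc_a_rc_2_2 lc_a_rc_4_2 lc_a_rc_2_2 lc_a_rc_4_2 lc_a_rc_2_2 lc_a_rc_2_2 lc_a_rc_3_2 lc_a_rc_2_2 lc_a_rc_6_2 lc_a_rc_5_2 lc_a_rc_3_2 lc_a_rc_5_2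 lc_a_rc_56_7 lc_a_rc_5_2 lc_a_rc_8_2 lc_a_rc_56_7 lc_a_rc_3_2 lc_a_rc_2_2 lc_a_rc_5_2 lc_a_rc_3_2 lc_a_rc_1_2 lc_a_rc_1_4 lc_a_rc_3_2 lc_a_rc_2_2 lc_a_rc_4_2 lc_a_rc_5_2 lc_a_rc_9_2 lc_a_rc_5_2 lc_a_rc_2_2) (@D3.rec (fun _ => (Cert rels S Gen.a)) lc_a_rc_3_2 lc_a_rc_2_2 lc_a_rc_4_2 lc_a_rc_6_2 lc_a_rc_5_2 lc_a_rc_2_2 lc_a_rc_4_2 lc_a_Cert_tree lc_a_rc_3_2 lc_a_rc_1_4 lc_a_rc_3_2 lc_a_rc_2_2 lc_a_rc_3_2 lc_a_rc_7_2 lc_a_rc_3_2 lc_a_rc_2_2 lc_a_rc_4_2 lc_a_rc_3_2 lc_a_rc_2_2 lc_a_rc_3_2 lc_a_Cert_tree lc_a_rc_4_0 lc_a_rc_2_2 lc_a_rc_5_2 lc_a_rc_4_0 lc_a_rc_4_2 lc_a_rc_1_0 lc_a_rc_3_2 lc_a_rc_2_2 lc_a_rc_3_2 lc_a_Cert_tree lc_a_rc_3_2 lc_a_rc_2_2 lc_a_rc_3_2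 lc_a_Cert_tree lc_a_rc_2_2 lc_a_rc_0_0 lc_a_rc_9_2 lc_a_rc_3_2 lc_a_rc_2_2 lc_a_rc_4_2 lc_a_rc_6_2 lc_a_rc_2_2 lc_a_rc_3_2 lc_a_rc_4_2 lc_a_rc_4_2 lc_a_rc_4_2 lc_a_rc_3_2 lc_a_rc_4_2 lc_a_rc_3_2 lc_a_rc_1_4) (@D3.rec (fun _ => (Cert rels S Gen.a)) lc_a_rc_3_2 lc_a_rc_2_2 lc_a_rc_3_2 lc_a_rc_6_2 lc_a_rc_3_2 lc_a_rc_2_2 lc_a_rc_4_2 lc_a_Cert_tree lc_a_rc_3_2 lc_a_rc_3_2 lc_a_rc_2_2 lc_a_rc_5_2 lc_a_rc_5_2 lc_a_rc_5_2 lc_a_rc_4_0 lc_a_rc_2_2 lc_a_rc_1_2 lc_a_rc_3_2 lc_a_rc_2_2 lc_a_rc_4_2 lc_a_Cert_tree lc_a_rc_2_2 lc_a_rc_3_2 lc_a_rc_2_2 lc_a_rc_4_2 lc_a_Cert_tree lc_a_rc_2_2 lc_a_rc_0_0 lc_a_rc_2_2 lc_a_rc_5_2 lc_a_rc_5_2 lc_a_rc_2_2 lc_a_rc_3_2 lc_a_rc_2_2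 lc_a_rc_3_2 lc_a_Cert_tree lc_a_rc_2_2 lc_a_rc_2_2 lc_a_rc_7_2 lc_a_rc_5_2 lc_a_rc_9_2 lc_a_rc_2_2 lc_a_rc_5_2 lc_a_rc_2_2 lc_a_rc_4_2 lc_a_Cert_tree lc_a_rc_2_2 lc_a_rc_5_2 lc_a_rc_3_2 lc_a_rc_2_2 lc_a_rc_3_2) (@D3.rec (fun _ => (Cert rels S Gen.a)) lc_a_Cert_tree lc_a_rc_2_2 lc_a_rc_3_2 lc_a_rc_0_0 lc_a_rc_4_2 lc_a_rc_2_2 lc_a_rc_2_2 lc_a_rc_3_2 lc_a_Cert_tree lc_a_rc_2_2 lc_a_rc_0_0 lc_a_rc_4_2 lc_a_rc_3_2 lc_a_rc_4_2 lc_a_rc_1_2 lc_a_rc_2_2 lc_a_rc_4_2 lc_a_rc_2_2 lc_a_rc_7_2 lc_a_rc_4_2 lc_a_Cert_tree lc_a_rc_2_2 lc_a_rc_6_2 lc_a_rc_0_0 lc_a_rc_4_2 lc_a_rc_3_2 lc_a_rc_4_2 lc_a_rc_4_2 lc_a_rc_3_2 lc_a_rc_6_2 lc_a_rc_3_2 lc_a_rc_4_2 lc_a_rc_3_2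 lc_a_rc_5_2 lc_a_rc_3_2 lc_a_rc_7_2 lc_a_rc_0_0 lc_a_rc_4_2 lc_a_rc_3_2 lc_a_rc_2_2 lc_a_rc_4_2 lc_a_rc_3_2 lc_a_rc_1_0 lc_a_rc_5_0 lc_a_rc_5_2 lc_a_rc_3_2 lc_a_rc_2_2 lc_a_rc_5_2 lc_a_rc_9_2 lc_a_rc_2_2 lc_a_rc_3_2) (@D3.rec (fun _ => (Cert rels S Gen.a)) lc_a_rc_1_0 lc_a_rc_2_2 lc_a_rc_4_2 lc_a_rc_2_2 lc_a_rc_6_2 lc_a_rc_2_2 lc_a_Cert_tree lc_a_rc_2_2 lc_a_rc_2_2 lc_a_Cert_tree lc_a_Cert_tree lc_a_rc_2_2 lc_a_rc_2_2 lc_a_Cert_tree lc_a_rc_3_2 lc_a_rc_2_2 lc_a_rc_3_2 lc_a_rc_2_2 lc_a_rc_6_2 lc_a_rc_2_2 lc_a_rc_3_2 lc_a_Cert_tree lc_a_rc_2_2 lc_a_Cert_tree lc_a_rc_0_0 lc_a_rc_4_2 lc_a_rc_4_2 lc_a_rc_7_0 lc_a_rc_7_0 lc_a_rc_1_0 lc_a_rc_4_0 lc_a_Cert_tree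 lc_a_Cert_tree lc_a_rc_3_2 lc_a_rc_2_2 lc_a_rc_3_2 lc_a_Cert_tree lc_a_rc_2_2 lc_a_rc_0_0 lc_a_rc_2_2 lc_a_Cert_tree lc_a_rc_5_2 lc_a_rc_2_2 lc_a_rc_3_2 lc_a_Cert_tree lc_a_rc_1_2 lc_a_rc_5_2 lc_a_rc_3_2 lc_a_rc_4_2 lc_a_rc_3_2 lc_a_rc_2_2) (@D3.rec (fun _ => (Cert rels S Gen.a)) lc_a_rc_1_4 lc_a_rc_1_4 lc_a_rc_5_2 lc_a_rc_5_2 lc_a_rc_3_2 lc_a_rc_2_2 lc_a_rc_4_2 lc_a_rc_6_2 lc_a_rc_2_2 lc_a_Cert_tree lc_a_rc_9_2 lc_a_rc_2_2 lc_a_rc_3_2 lc_a_rc_4_2 lc_a_rc_5_2 lc_a_rc_2_2 lc_a_rc_5_2 lc_a_rc_2_2 lc_a_rc_4_2 lc_a_Cert_tree lc_a_rc_2_2 lc_a_rc_6_2 lc_a_Cert_tree lc_a_rc_0_0 lc_a_rc_1_2 lc_a_rc_4_2 lc_a_rc_7_2 lc_a_rc_4_2 lc_a_rc_6_2 lc_a_rc_56_35 lc_a_rc_5_2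 lc_a_rc_6_2 lc_a_rc_7_2 lc_a_rc_0_1 lc_a_rc_5_2 lc_a_rc_2_2 lc_a_rc_6_2 lc_a_rc_6_2 lc_a_rc_3_2 lc_a_rc_0_1 lc_a_rc_6_2 lc_a_rc_3_2 lc_a_rc_2_2 lc_a_rc_4_2 lc_a_Cert_tree lc_a_rc_1_0 lc_a_rc_4_0 lc_a_rc_2_2 lc_a_rc_7_2 lc_a_rc_0_1 lc_a_rc_7_0) (@D3.rec (fun _ => (Cert rels S Gen.a)) lc_a_rc_4_2 lc_a_rc_8_2 lc_a_rc_7_0 lc_a_rc_3_2 lc_a_rc_7_0 lc_a_Cert_tree lc_a_rc_5_2 lc_a_rc_3_2 lc_a_rc_2_2 lc_a_rc_3_2 lc_a_rc_5_2 lc_a_rc_3_2 lc_a_rc_2_2 lc_a_rc_5_2 lc_a_rc_2_2 lc_a_Cert_tree lc_a_rc_2_2 lc_a_rc_2_2 lc_a_Cert_tree lc_a_rc_0_0 lc_a_rc_3_2 lc_a_rc_2_2 lc_a_rc_4_2 lc_a_rc_6_2 lc_a_rc_2_2 lc_a_rc_4_2 lc_a_Cert_tree lc_a_rc_5_2 lc_a_rc_2_2 lc_a_rc_3_2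 lc_a_rc_8_2 lc_a_rc_5_2 lc_a_rc_3_2 lc_a_rc_2_2 lc_a_rc_5_2 lc_a_rc_2_2 lc_a_rc_4_2 lc_a_Cert_tree lc_a_rc_2_2 lc_a_rc_6_2 lc_a_rc_7_2 lc_a_Cert_tree lc_a_rc_0_0 lc_a_rc_3_2 lc_a_rc_2_2 lc_a_rc_8_2 lc_a_rc_8_2 lc_a_rc_2_2 lc_a_rc_5_2 lc_a_rc_3_2 lc_a_rc_2_2) (@D3.rec (fun _ => (Cert rels S Gen.a)) lc_a_rc_4_2 lc_a_Cert_tree lc_a_rc_2_2 lc_a_rc_5_2 lc_a_rc_3_2 lc_a_rc_2_2 lc_a_rc_5_2 lc_a_rc_2_2 lc_a_rc_4_2 lc_a_Cert_tree lc_a_rc_2_2 lc_a_rc_6_2 lc_a_rc_5_0 lc_a_rc_2_2 lc_a_rc_3_2 lc_a_Cert_tree lc_a_rc_2_2 lc_a_rc_0_0 lc_a_rc_4_2 lc_a_rc_2_2 lc_a_rc_2_2 lc_a_Cert_tree lc_a_rc_0_0 lc_a_rc_3_2 lc_a_rc_4_2 lc_a_rc_4_2 lc_a_rc_6_2 lc_a_rc_4_2 lc_a_rc_6_2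 lc_a_rc_7_2 lc_a_rc_9_2 lc_a_rc_6_2 lc_a_rc_2_2 lc_a_rc_2_2 lc_a_rc_2_2 lc_a_rc_4_2 lc_a_rc_6_2 lc_a_Cert_tree lc_a_rc_3_0 lc_a_rc_5_2 lc_a_rc_2_2 lc_a_rc_3_2 lc_a_rc_6_2 lc_a_Cert_tree lc_a_Cert_tree lc_a_rc_6_2 lc_a_rc_5_2 lc_a_rc_4_0 lc_a_rc_3_2 lc_a_rc_3_2 lc_a_rc_2_2) (@D3.rec (fun _ => (Cert rels S Gen.a)) lc_a_rc_3_2 lc_a_Cert_tree lc_a_rc_2_2 lc_a_rc_6_2 lc_a_rc_1_2 lc_a_Cert_tree lc_a_rc_0_0 lc_a_rc_6_2 lc_a_rc_2_0 lc_a_rc_2_0 lc_a_rc_5_2 lc_a_rc_2_2 lc_a_rc_3_2 lc_a_Cert_tree lc_a_rc_2_2 lc_a_Cert_tree lc_a_Cert_tree lc_a_rc_2_2 lc_a_rc_6_2 lc_a_rc_0_0 lc_a_rc_2_2 lc_a_rc_3_2 lc_a_rc_2_0 lc_a_rc_5_2 lc_a_rc_2_2 lc_a_rc_5_2 lc_a_Cert_tree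 lc_a_rc_2_2 lc_a_rc_3_2 lc_a_rc_0_0 lc_a_rc_2_2 lc_a_rc_5_0 lc_a_rc_2_2 lc_a_rc_1_2 lc_a_Cert_tree lc_a_rc_2_2 lc_a_rc_5_2 lc_a_Cert_tree lc_a_rc_2_2 lc_a_rc_0_0 lc_a_rc_2_2 lc_a_rc_4_2 lc_a_rc_56_35 lc_a_rc_4_2 lc_a_rc_56_28 lc_a_Cert_tree lc_a_rc_2_2 lc_a_rc_6_2 lc_a_rc_2_2 lc_a_rc_4_2 lc_a_Cert_tree) (@D3.rec (fun _ => (Cert rels S Gen.a)) lc_a_rc_2_2 lc_a_rc_3_2 lc_a_Cert_tree lc_a_rc_0_1 lc_a_rc_0_0 lc_a_rc_4_2 lc_a_rc_2_2 lc_a_rc_4_2 lc_a_Cert_tree lc_a_rc_0_0 lc_a_rc_3_2 lc_a_rc_2_2 lc_a_Cert_tree lc_a_rc_0_0 lc_a_Cert_tree lc_a_rc_2_2 lc_a_Cert_tree lc_a_Cert_tree lc_a_rc_0_0 lc_a_rc_6_2 lc_a_rc_2_2 lc_a_rc_1_2 lc_a_rc_2_2 lc_a_rc_4_2 lc_a_Cert_tree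 lc_a_rc_3_2 lc_a_rc_2_2 lc_a_rc_5_2 lc_a_rc_2_2 lc_a_rc_2_2 lc_a_rc_3_2 lc_a_Cert_tree lc_a_rc_2_2 lc_a_Cert_tree lc_a_rc_0_0 lc_a_rc_6_2 lc_a_rc_2_2 lc_a_rc_2_2 lc_a_rc_3_2 lc_a_Cert_tree lc_a_rc_2_2 lc_a_rc_5_2 lc_a_Cert_tree lc_a_Cert_tree lc_a_rc_2_2 lc_a_rc_0_0 lc_a_rc_0_0 lc_a_rc_4_2 lc_a_rc_2_2 lc_a_rc_4_2 lc_a_Cert_tree) (@D3.rec (fun _ => (Cert rels S Gen.a)) lc_a_Cert_tree lc_a_rc_0_0 lc_a_rc_2_2 lc_a_rc_2_2 lc_a_rc_4_2 lc_a_Cert_tree lc_a_rc_2_2 lc_a_Cert_tree lc_a_rc_0_0 lc_a_rc_2_2 lc_a_rc_2_2 lc_a_Cert_tree lc_a_rc_2_2 lc_a_Cert_tree lc_a_rc_0_0 lc_a_rc_3_2 lc_a_rc_4_2 lc_a_rc_56_21 lc_a_rc_2_2 lc_a_rc_4_2 lc_a_rc_3_0 lc_a_rc_3_2 lc_a_rc_3_2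 lc_a_rc_4_2 lc_a_Cert_tree lc_a_rc_2_2 lc_a_rc_0_0 lc_a_rc_6_2 lc_a_rc_2_2 lc_a_rc_0_1 lc_a_rc_1_2 lc_a_Cert_tree lc_a_rc_2_2 lc_a_rc_2_2 lc_a_Cert_tree lc_a_rc_0_0 lc_a_rc_2_2 lc_a_rc_3_2 lc_a_rc_5_2 lc_a_rc_1_0 lc_a_rc_2_2 lc_a_rc_3_2 lc_a_Cert_tree lc_a_rc_9_2 lc_a_rc_5_2 lc_a_rc_5_2 lc_a_rc_2_2 lc_a_rc_5_2 lc_a_rc_2_2 lc_a_Cert_tree lc_a_rc_3_2) (@D3.rec (fun _ => (Cert rels S Gen.a)) lc_a_rc_2_2 lc_a_rc_3_2 lc_a_Cert_tree lc_a_rc_2_2 lc_a_rc_0_0 lc_a_rc_2_2 lc_a_Cert_tree lc_a_rc_0_0 lc_a_rc_4_2 lc_a_rc_4_2 lc_a_rc_56_21 lc_a_rc_5_2 lc_a_Cert_tree lc_a_rc_3_0 lc_a_rc_8_0 lc_a_Cert_tree lc_a_rc_2_2 lc_a_rc_0_0 lc_a_rc_56_35 lc_a_rc_3_2 lc_a_Cert_tree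 lc_a_Cert_tree lc_a_Cert_tree lc_a_rc_2_2 lc_a_rc_5_2 lc_a_rc_0_0 lc_a_rc_4_2 lc_a_rc_2_2 lc_a_rc_3_2 lc_a_rc_2_2 lc_a_Cert_tree lc_a_rc_0_0 lc_a_rc_2_2 lc_a_Cert_tree lc_a_rc_2_2 lc_a_rc_3_2 lc_a_Cert_tree lc_a_rc_2_2 lc_a_rc_0_0 lc_a_rc_9_2 lc_a_rc_2_2 lc_a_rc_5_2 lc_a_rc_2_2 lc_a_rc_4_2 lc_a_Cert_tree lc_a_rc_1_0 lc_a_Cert_tree lc_a_rc_0_0 lc_a_rc_2_2 lc_a_rc_3_2 lc_a_Cert_tree) (@D3.rec (fun _ => (Cert rels S Gen.a)) lc_a_rc_2_2 lc_a_rc_3_2 lc_a_rc_0_0 lc_a_rc_4_2 lc_a_rc_2_2 lc_a_rc_4_2 lc_a_rc_6_2 lc_a_Cert_tree lc_a_rc_0_0 lc_a_rc_4_2 lc_a_rc_5_2 lc_a_rc_5_2 lc_a_rc_4_2 lc_a_rc_6_2 lc_a_rc_9_2 lc_a_rc_5_2 lc_a_rc_7_2 lc_a_rc_2_2 lc_a_rc_7_2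 lc_a_rc_5_2 lc_a_rc_56_35 lc_a_rc_3_2 lc_a_rc_3_2 lc_a_rc_2_2 lc_a_rc_5_2 lc_a_Cert_tree lc_a_rc_2_2 lc_a_rc_2_2 lc_a_rc_2_2 lc_a_Cert_tree lc_a_rc_2_2 lc_a_rc_2_2 lc_a_rc_3_2 lc_a_Cert_tree lc_a_rc_4_2 lc_a_Cert_tree lc_a_Cert_tree lc_a_rc_1_2 lc_a_rc_2_2 lc_a_rc_5_2 lc_a_Cert_tree lc_a_rc_2_2 lc_a_rc_0_0 lc_a_rc_1_2 lc_a_rc_4_2 lc_a_rc_3_0 lc_a_rc_5_2 lc_a_rc_5_2 lc_a_rc_1_4 lc_a_rc_1_4 lc_a_rc_1_4) (@D3.rec (fun _ => (Cert rels S Gen.a)) lc_a_rc_2_2 lc_a_rc_0_0 lc_a_rc_4_2 lc_a_rc_5_2 lc_a_rc_56_42 lc_a_rc_5_2 lc_a_rc_1_2 lc_a_rc_3_2 lc_a_rc_4_2 lc_a_rc_4_2 lc_a_rc_3_2 lc_a_rc_2_2 lc_a_rc_9_2 lc_a_rc_5_2 lc_a_rc_2_2 lc_a_rc_3_2 lc_a_rc_4_2 lc_a_rc_2_2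 lc_a_rc_3_2 lc_a_Cert_tree lc_a_rc_56_7 lc_a_rc_3_2 lc_a_rc_3_0 lc_a_rc_4_2 lc_a_rc_4_2 lc_a_rc_2_2 lc_a_rc_3_2 lc_a_rc_2_2 lc_a_rc_3_2 lc_a_rc_4_2 lc_a_rc_3_2 lc_a_rc_2_2 lc_a_rc_3_2 lc_a_Cert_tree lc_a_rc_2_2 lc_a_rc_5_2 lc_a_rc_2_2 lc_a_rc_3_2 lc_a_rc_7_2 lc_a_rc_5_2 lc_a_rc_9_2 lc_a_rc_2_2 lc_a_rc_5_2 lc_a_rc_2_2 lc_a_rc_3_2 lc_a_Cert_tree lc_a_rc_2_2 lc_a_rc_3_2 lc_a_rc_4_2 lc_a_Cert_tree lc_a_rc_2_2) (@D3.rec (fun _ => (Cert rels S Gen.a)) lc_a_rc_0_0 lc_a_rc_6_2 lc_a_rc_4_2 lc_a_rc_3_2 lc_a_rc_56_35 lc_a_rc_7_2 lc_a_rc_4_2 lc_a_rc_6_2 lc_a_rc_4_2 lc_a_rc_4_2 lc_a_rc_3_2 lc_a_rc_7_2 lc_a_rc_7_2 lc_a_rc_6_2 lc_a_rc_5_2 lc_a_rc_2_2 lc_a_rc_3_2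 lc_a_rc_5_2 lc_a_rc_9_2 lc_a_rc_5_2 lc_a_rc_3_2 lc_a_rc_2_2 lc_a_rc_5_2 lc_a_rc_3_2 lc_a_rc_2_0 lc_a_rc_3_2 lc_a_rc_3_2 lc_a_rc_4_2 lc_a_rc_2_2 lc_a_rc_5_2 lc_a_rc_2_2 lc_a_rc_4_2 lc_a_rc_2_2 lc_a_rc_3_2 lc_a_Cert_tree lc_a_rc_3_2 lc_a_rc_2_2 lc_a_rc_2_2 lc_a_rc_5_2 lc_a_rc_2_2 lc_a_rc_3_2 lc_a_rc_2_2 lc_a_rc_3_2 lc_a_Cert_tree lc_a_rc_3_2 lc_a_rc_2_2 lc_a_Cert_tree lc_a_Cert_tree lc_a_rc_2_2 lc_a_rc_3_2 lc_a_rc_2_2) (@D3.rec (fun _ => (Cert rels S Gen.a)) lc_a_rc_4_2 lc_a_Cert_tree lc_a_rc_2_2 lc_a_rc_0_0 lc_a_rc_4_2 lc_a_rc_1_4 lc_a_rc_56_49 lc_a_rc_8_2 lc_a_rc_8_2 lc_a_rc_3_2 lc_a_rc_4_2 lc_a_rc_5_2 lc_a_rc_5_2 lc_a_rc_56_35 lc_a_rc_5_2 lc_a_rc_3_2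 lc_a_rc_3_2 lc_a_rc_1_2 lc_a_rc_4_2 lc_a_rc_3_2 lc_a_rc_3_2 lc_a_rc_2_2 lc_a_rc_4_2 lc_a_rc_6_2 lc_a_rc_2_2 lc_a_rc_4_2 lc_a_Cert_tree lc_a_rc_6_2 lc_a_rc_5_2 lc_a_rc_0_1 lc_a_rc_3_2 lc_a_rc_4_2 lc_a_rc_5_2 lc_a_rc_2_2 lc_a_rc_4_2 lc_a_rc_6_2 lc_a_rc_3_2 lc_a_rc_2_2 lc_a_rc_4_2 lc_a_Cert_tree lc_a_rc_5_2 lc_a_rc_2_2 lc_a_rc_3_2 lc_a_rc_5_2 lc_a_rc_3_2 lc_a_rc_2_2 lc_a_rc_5_2 lc_a_rc_2_2 lc_a_Cert_tree lc_a_rc_2_2 lc_a_rc_3_2) (@D3.rec (fun _ => (Cert rels S Gen.a)) lc_a_rc_3_2 lc_a_rc_2_2 lc_a_rc_3_2 lc_a_Cert_tree lc_a_rc_2_2 lc_a_rc_0_0 lc_a_rc_4_2 lc_a_rc_4_2 lc_a_rc_4_2 lc_a_rc_3_2 lc_a_rc_6_2 lc_a_rc_3_2 lc_a_rc_2_2 lc_a_rc_4_2 lc_a_Cert_tree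 lc_a_rc_3_2 lc_a_rc_4_2 lc_a_rc_2_2 lc_a_rc_4_2 lc_a_rc_5_2 lc_a_Cert_tree lc_a_rc_1_0 lc_a_rc_3_2 lc_a_rc_5_2 lc_a_rc_3_2 lc_a_rc_2_2 lc_a_rc_4_2 lc_a_Cert_tree lc_a_rc_2_2 lc_a_rc_0_0 lc_a_rc_3_2 lc_a_rc_2_2 lc_a_rc_4_2 lc_a_rc_5_2 lc_a_rc_2_2 lc_a_rc_4_2 lc_a_rc_2_2 lc_a_Cert_tree lc_a_rc_2_2 lc_a_rc_3_2 lc_a_rc_2_2 lc_a_rc_4_2 lc_a_Cert_tree lc_a_rc_2_2 lc_a_rc_5_2 lc_a_rc_3_2 lc_a_rc_2_2 lc_a_Cert_tree lc_a_rc_0_0 lc_a_rc_4_2 lc_a_rc_2_2) (@D3.rec (fun _ => (Cert rels S Gen.a)) lc_a_rc_3_2 lc_a_rc_2_2 lc_a_rc_4_2 lc_a_Cert_tree lc_a_rc_2_2 lc_a_rc_0_0 lc_a_rc_4_2 lc_a_rc_2_2 lc_a_rc_4_2 lc_a_rc_5_2 lc_a_rc_1_2 lc_a_rc_3_2 lc_a_rc_3_2 lc_a_rc_5_2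 lc_a_rc_9_2 lc_a_rc_6_2 lc_a_rc_5_2 lc_a_rc_9_2 lc_a_rc_2_2 lc_a_rc_3_2 lc_a_rc_3_2 lc_a_rc_4_2 lc_a_rc_3_2 lc_a_rc_2_2 lc_a_rc_4_2 lc_a_rc_3_2 lc_a_rc_2_2 lc_a_rc_2_2 lc_a_rc_4_2 lc_a_rc_2_2 lc_a_rc_4_2 lc_a_Cert_tree lc_a_rc_3_0 lc_a_rc_6_2 lc_a_rc_4_0 lc_a_rc_2_2 lc_a_rc_1_2 lc_a_rc_2_2 lc_a_rc_2_2 lc_a_rc_1_4 lc_a_rc_2_2 lc_a_rc_3_2 lc_a_rc_2_2 lc_a_rc_3_2 lc_a_rc_4_2 lc_a_rc_3_2 lc_a_rc_2_2 lc_a_rc_3_2 lc_a_Cert_tree lc_a_rc_4_2 lc_a_rc_7_0) (@D3.rec (fun _ => (Cert rels S Gen.a)) lc_a_rc_2_2 lc_a_Cert_tree lc_a_rc_56_35 lc_a_rc_6_2 lc_a_rc_2_2 lc_a_rc_1_0 lc_a_Cert_tree lc_a_rc_2_2 lc_a_rc_7_0 lc_a_rc_1_0 lc_a_rc_5_2 lc_a_Cert_tree lc_a_rc_2_2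 lc_a_rc_0_0 lc_a_rc_5_0 lc_a_rc_2_2 lc_a_rc_56_21 lc_a_rc_0_0 lc_a_rc_1_2 lc_a_rc_0_0 lc_a_rc_2_2 lc_a_rc_3_2 lc_a_Cert_tree lc_a_rc_3_2 lc_a_rc_5_2 lc_a_rc_2_2 lc_a_rc_3_2 lc_a_rc_4_2 lc_a_rc_3_2 lc_a_rc_2_2 lc_a_rc_3_2 lc_a_rc_2_2 lc_a_rc_4_0 lc_a_rc_1_4 lc_a_rc_5_2 lc_a_rc_3_2 lc_a_rc_2_2 lc_a_rc_3_2 lc_a_rc_6_2 lc_a_rc_2_2 lc_a_rc_3_2 lc_a_Cert_tree lc_a_rc_2_2 lc_a_rc_2_2 lc_a_rc_2_2 lc_a_rc_5_0 lc_a_rc_2_2 lc_a_Cert_tree lc_a_rc_2_2 lc_a_rc_1_4 lc_a_rc_2_2) (@D3.rec (fun _ => (Cert rels S Gen.a)) lc_a_rc_1_4 lc_a_rc_2_2 lc_a_rc_4_2 lc_a_Cert_tree lc_a_rc_2_2 lc_a_rc_6_2 lc_a_Cert_tree lc_a_rc_2_2 lc_a_rc_0_0 lc_a_rc_2_2 lc_a_rc_6_2 lc_a_rc_3_2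 lc_a_rc_5_2 lc_a_rc_1_2 lc_a_rc_5_2 lc_a_rc_8_2 lc_a_rc_1_2 lc_a_rc_2_2 lc_a_rc_8_0 lc_a_rc_2_2 lc_a_rc_1_4 lc_a_rc_56_21 lc_a_rc_5_2 lc_a_rc_3_2 lc_a_rc_2_2 lc_a_rc_4_2 lc_a_rc_6_2 lc_a_rc_2_2 lc_a_rc_4_2 lc_a_Cert_tree lc_a_rc_2_2 lc_a_rc_1_2 lc_a_rc_3_2 lc_a_rc_2_2 lc_a_rc_8_2 lc_a_rc_2_2 lc_a_rc_9_2 lc_a_Cert_tree lc_a_rc_5_2 lc_a_rc_2_2 lc_a_rc_3_2 lc_a_rc_6_2 lc_a_rc_5_2 lc_a_rc_2_2 lc_a_rc_5_2 lc_a_rc_2_2 lc_a_rc_4_2 lc_a_Cert_tree lc_a_rc_2_2 lc_a_rc_3_2 lc_a_rc_2_2) (@D3.rec (fun _ => (Cert rels S Gen.a)) lc_a_rc_7_2 lc_a_Cert_tree lc_a_rc_2_2 lc_a_rc_0_0 lc_a_rc_3_2 lc_a_rc_2_2 lc_a_rc_56_21 lc_a_Cert_tree lc_a_rc_0_0 lc_a_rc_3_2 lc_a_rc_1_4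 lc_a_rc_56_35 lc_a_rc_4_2 lc_a_rc_2_2 lc_a_rc_3_2 lc_a_Cert_tree lc_a_rc_2_2 lc_a_Cert_tree lc_a_rc_0_1 lc_a_rc_0_0 lc_a_rc_3_2 lc_a_rc_2_2 lc_a_rc_5_2 lc_a_rc_3_2 lc_a_rc_2_2 lc_a_rc_5_2 lc_a_rc_2_2 lc_a_rc_3_2 lc_a_Cert_tree lc_a_rc_2_2 lc_a_rc_3_2 lc_a_rc_3_2 lc_a_rc_2_2 lc_a_rc_4_2 lc_a_rc_2_2 lc_a_rc_4_2 lc_a_Cert_tree lc_a_rc_2_2 lc_a_rc_5_2 lc_a_rc_3_2 lc_a_rc_3_2 lc_a_Cert_tree lc_a_rc_2_2 lc_a_rc_6_2 lc_a_rc_0_0 lc_a_rc_4_2 lc_a_rc_2_2 lc_a_rc_3_2 lc_a_rc_2_2 lc_a_Cert_tree lc_a_rc_2_2) (@D3.rec (fun _ => (Cert rels S Gen.a)) lc_a_rc_0_0 lc_a_rc_4_2 lc_a_rc_3_2 lc_a_rc_6_2 lc_a_rc_3_2 lc_a_rc_5_2 lc_a_rc_2_2 lc_a_rc_2_2 lc_a_rc_7_2 lc_a_rc_9_2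 lc_a_rc_6_0 lc_a_rc_3_0 lc_a_rc_4_2 lc_a_rc_6_2 lc_a_rc_4_2 lc_a_rc_1_0 lc_a_rc_2_2 lc_a_rc_2_2 lc_a_rc_3_2 lc_a_Cert_tree lc_a_rc_2_2 lc_a_Cert_tree lc_a_Cert_tree lc_a_rc_2_2 lc_a_rc_0_0 lc_a_rc_5_2 lc_a_rc_2_2 lc_a_rc_3_2 lc_a_rc_3_2 lc_a_rc_2_2 lc_a_rc_2_2 lc_a_rc_5_2 lc_a_Cert_tree lc_a_rc_6_2 lc_a_rc_2_2 lc_a_rc_2_2 lc_a_rc_3_2 lc_a_Cert_tree lc_a_Cert_tree lc_a_rc_2_2 lc_a_rc_0_0 lc_a_rc_2_2 lc_a_rc_2_2 lc_a_rc_4_2 lc_a_Cert_tree lc_a_Cert_tree lc_a_Cert_tree lc_a_rc_2_2 lc_a_rc_0_0 lc_a_Cert_tree lc_a_Cert_tree) (@D3.rec (fun _ => (Cert rels S Gen.a)) lc_a_Cert_tree lc_a_rc_0_0 lc_a_rc_0_0 lc_a_rc_4_2 lc_a_Cert_tree lc_a_rc_2_2 lc_a_rc_0_0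 lc_a_rc_4_2 lc_a_rc_2_2 lc_a_rc_5_2 lc_a_rc_6_2 lc_a_rc_2_2 lc_a_Cert_tree lc_a_rc_2_2 lc_a_rc_2_2 lc_a_rc_4_2 lc_a_Cert_tree lc_a_rc_2_2 lc_a_rc_5_2 lc_a_Cert_tree lc_a_rc_2_2 lc_a_rc_0_0 lc_a_rc_3_2 lc_a_rc_2_2 lc_a_rc_3_2 lc_a_rc_2_2 lc_a_rc_4_2 lc_a_rc_6_2 lc_a_rc_2_2 lc_a_rc_4_2 lc_a_Cert_tree lc_a_rc_3_2 lc_a_rc_2_2 lc_a_rc_3_2 lc_a_rc_2_2 lc_a_rc_3_2 lc_a_Cert_tree lc_a_Cert_tree lc_a_rc_2_2 lc_a_rc_0_0 lc_a_rc_2_2 lc_a_rc_4_2 lc_a_rc_2_2 lc_a_rc_3_2 lc_a_rc_3_2 lc_a_rc_2_2 lc_a_rc_2_2 lc_a_rc_4_2 lc_a_Cert_tree lc_a_rc_5_2 lc_a_rc_2_2) (@D3.rec (fun _ => (Cert rels S Gen.a)) lc_a_rc_3_2 lc_a_rc_2_2 lc_a_rc_4_2 lc_a_Cert_tree lc_a_rc_2_2 lc_a_rc_4_2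 lc_a_Cert_tree lc_a_rc_2_2 lc_a_rc_0_0 lc_a_rc_3_2 lc_a_rc_2_2 lc_a_Cert_tree lc_a_rc_9_2 lc_a_rc_2_2 lc_a_rc_5_2 lc_a_rc_2_2 lc_a_Cert_tree lc_a_Cert_tree lc_a_rc_2_2 lc_a_rc_0_0 lc_a_rc_0_0 lc_a_rc_4_2 lc_a_rc_3_2 lc_a_rc_2_2 lc_a_rc_4_2 lc_a_rc_2_2 lc_a_rc_2_2 lc_a_rc_6_2 lc_a_rc_3_2 lc_a_rc_3_2 lc_a_rc_5_2 lc_a_rc_2_2 lc_a_rc_9_2 lc_a_rc_2_2 lc_a_rc_9_0 lc_a_rc_8_2 lc_a_rc_2_2 lc_a_rc_8_2 lc_a_rc_2_2 lc_a_rc_4_2 lc_a_Cert_tree lc_a_rc_3_2 lc_a_rc_2_2 lc_a_rc_4_2 lc_a_rc_1_2 lc_a_rc_0_1 lc_a_rc_2_2 lc_a_rc_4_2 lc_a_rc_2_2 lc_a_rc_6_2 lc_a_rc_5_2)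
def ce_a_19 : D2 → D3 → (Cert rels S Gen.a) := @D2.rec (fun _ => D3 → (Cert rels S Gen.a)) (@D3.rec (fun _ => (Cert rels S Gen.a)) lc_a_rc_7_0 lc_a_rc_2_2 lc_a_rc_3_2 lc_a_rc_2_2 lc_a_rc_4_2 lc_a_Cert_tree lc_a_rc_2_2 lc_a_rc_6_2 lc_a_rc_7_2 lc_a_rc_2_2 lc_a_rc_5_2 lc_a_Cert_tree lc_a_rc_2_2 lc_a_rc_0_0 lc_a_rc_2_2 lc_a_rc_3_2 lc_a_rc_2_2 lc_a_rc_4_2 lc_a_Cert_tree lc_a_rc_2_2 lc_a_rc_3_2 lc_a_rc_2_2 lc_a_Cert_tree lc_a_rc_3_2 lc_a_rc_2_2 lc_a_rc_3_2 lc_a_Cert_tree lc_a_rc_2_2 lc_a_rc_0_0 lc_a_rc_1_0 lc_a_Cert_tree lc_a_rc_3_2 lc_a_rc_0_0 lc_a_rc_2_2 lc_a_Cert_tree lc_a_rc_2_2 lc_a_Cert_tree lc_a_rc_2_2 lc_a_rc_0_0 lc_a_rc_2_2 lc_a_rc_3_2 lc_a_Cert_tree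 lc_a_rc_2_2 lc_a_rc_0_0 lc_a_rc_4_2 lc_a_rc_2_2 lc_a_rc_7_2 lc_a_rc_4_2 lc_a_rc_0_1 lc_a_rc_2_2 lc_a_rc_6_2) (@D3.rec (fun _ => (Cert rels S Gen.a)) lc_a_rc_6_2 lc_a_rc_3_2 lc_a_rc_4_2 lc_a_rc_3_2 lc_a_rc_3_2 lc_a_rc_5_2 lc_a_rc_2_2 lc_a_rc_2_2 lc_a_rc_8_2 lc_a_rc_2_2 lc_a_rc_4_2 lc_a_Cert_tree lc_a_rc_2_2 lc_a_rc_6_2 lc_a_rc_3_0 lc_a_rc_8_2 lc_a_Cert_tree lc_a_rc_2_2 lc_a_rc_0_0 lc_a_rc_2_2 lc_a_rc_2_2 lc_a_rc_3_2 lc_a_Cert_tree lc_a_rc_8_2 lc_a_rc_5_2 lc_a_rc_2_2 lc_a_rc_5_2 lc_a_rc_1_0 lc_a_Cert_tree lc_a_rc_1_2 lc_a_rc_2_2 lc_a_rc_4_2 lc_a_Cert_tree lc_a_rc_2_2 lc_a_rc_0_0 lc_a_rc_4_2 lc_a_rc_2_2 lc_a_rc_3_2 lc_a_Cert_tree lc_a_rc_2_2 lc_a_rc_6_2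 lc_a_rc_0_0 lc_a_rc_4_2 lc_a_rc_3_2 lc_a_Cert_tree lc_a_rc_5_2 lc_a_rc_2_2 lc_a_rc_5_2 lc_a_Cert_tree lc_a_rc_2_2 lc_a_Cert_tree) (@D3.rec (fun _ => (Cert rels S Gen.a)) lc_a_rc_2_2 lc_a_rc_0_0 lc_a_rc_4_2 lc_a_rc_3_2 lc_a_rc_7_2 lc_a_rc_2_2 lc_a_rc_5_2 lc_a_rc_2_2 lc_a_rc_9_2 lc_a_Cert_tree lc_a_rc_2_2 lc_a_rc_5_2 lc_a_Cert_tree lc_a_rc_2_2 lc_a_rc_0_0 lc_a_rc_4_2 lc_a_rc_3_2 lc_a_rc_2_2 lc_a_rc_2_2 lc_a_rc_3_2 lc_a_Cert_tree lc_a_rc_2_2 lc_a_rc_3_2 lc_a_rc_0_0 lc_a_rc_4_2 lc_a_rc_3_2 lc_a_rc_2_2 lc_a_rc_4_2 lc_a_rc_6_2 lc_a_Cert_tree lc_a_rc_2_2 lc_a_rc_0_0 lc_a_rc_4_2 lc_a_rc_2_2 lc_a_rc_4_2 lc_a_rc_3_2 lc_a_rc_5_2 lc_a_rc_1_2 lc_a_rc_2_2 lc_a_rc_6_2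 lc_a_rc_3_2 lc_a_rc_7_2 lc_a_rc_0_0 lc_a_rc_4_2 lc_a_rc_3_2 lc_a_rc_4_2 lc_a_rc_3_2 lc_a_rc_1_0 lc_a_rc_4_2 lc_a_rc_5_2 lc_a_rc_3_2) (@D3.rec (fun _ => (Cert rels S Gen.a)) lc_a_rc_5_2 lc_a_rc_3_2 lc_a_rc_2_2 lc_a_rc_5_2 lc_a_rc_9_2 lc_a_rc_4_2 lc_a_rc_3_2 lc_a_rc_6_2 lc_a_rc_2_2 lc_a_rc_3_2 lc_a_rc_5_2 lc_a_rc_2_2 lc_a_rc_6_2 lc_a_rc_2_2 lc_a_rc_5_2 lc_a_rc_2_2 lc_a_rc_3_2 lc_a_rc_0_0 lc_a_rc_2_2 lc_a_rc_6_2 lc_a_Cert_tree lc_a_rc_0_0 lc_a_Cert_tree lc_a_Cert_tree lc_a_rc_0_0 lc_a_rc_0_0 lc_a_Cert_tree lc_a_Cert_tree lc_a_rc_0_0 lc_a_rc_2_2 lc_a_rc_3_2 lc_a_Cert_tree lc_a_rc_3_2 lc_a_rc_8_2 lc_a_Cert_tree lc_a_rc_2_2 lc_a_rc_1_0 lc_a_Cert_tree lc_a_rc_2_2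 lc_a_rc_0_0 lc_a_Cert_tree lc_a_rc_0_0 lc_a_rc_0_0 lc_a_rc_0_0 lc_a_Cert_tree lc_a_Cert_tree lc_a_rc_0_0 lc_a_rc_0_0 lc_a_rc_2_2 lc_a_Cert_tree lc_a_rc_2_2) (@D3.rec (fun _ => (Cert rels S Gen.a)) lc_a_rc_0_0 lc_a_rc_4_2 lc_a_Cert_tree lc_a_rc_0_0 lc_a_rc_2_2 lc_a_rc_5_2 lc_a_Cert_tree lc_a_rc_2_2 lc_a_rc_0_0 lc_a_rc_0_0 lc_a_rc_5_2 lc_a_rc_2_2 lc_a_rc_4_2 lc_a_rc_6_2 lc_a_rc_2_2 lc_a_rc_4_2 lc_a_Cert_tree lc_a_rc_5_2 lc_a_rc_3_2 lc_a_rc_3_0 lc_a_rc_5_2 lc_a_rc_2_2 lc_a_rc_5_2 lc_a_rc_2_2 lc_a_rc_4_2 lc_a_Cert_tree lc_a_rc_2_2 lc_a_rc_6_2 lc_a_rc_7_2 lc_a_Cert_tree lc_a_rc_0_0 lc_a_rc_0_1 lc_a_rc_5_2 lc_a_Cert_tree lc_a_rc_2_2 lc_a_rc_3_2 lc_a_rc_2_2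 lc_a_rc_5_2 lc_a_Cert_tree lc_a_rc_2_2 lc_a_rc_6_2 lc_a_Cert_tree lc_a_rc_2_2 lc_a_rc_0_0 lc_a_rc_4_2 lc_a_rc_2_2 lc_a_rc_0_0 lc_a_rc_6_2 lc_a_rc_7_2 lc_a_rc_2_2 lc_a_rc_5_2) (@D3.rec (fun _ => (Cert rels S Gen.a)) lc_a_rc_2_2 lc_a_rc_4_2 lc_a_rc_1_2 lc_a_rc_2_2 lc_a_rc_4_2 lc_a_Cert_tree lc_a_rc_2_2 lc_a_rc_0_0 lc_a_rc_0_1 lc_a_rc_0_1 lc_a_rc_0_1 lc_a_rc_6_2 lc_a_Cert_tree lc_a_rc_9_2 lc_a_rc_2_2 lc_a_rc_3_2 lc_a_rc_3_2 lc_a_rc_0_1 lc_a_rc_0_1 lc_a_Cert_tree lc_a_rc_0_1 lc_a_rc_0_0 lc_a_rc_2_2 lc_a_rc_4_2 lc_a_rc_2_2 lc_a_Cert_tree lc_a_rc_2_2 lc_a_rc_2_2 lc_a_rc_2_2 lc_a_rc_4_2 lc_a_Cert_tree lc_a_rc_2_2 lc_a_Cert_tree lc_a_rc_0_0 lc_a_rc_4_2 lc_a_Cert_tree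 lc_a_rc_0_0 lc_a_rc_2_2 lc_a_rc_4_2 lc_a_Cert_tree lc_a_rc_2_2 lc_a_rc_6_2 lc_a_Cert_tree lc_a_rc_2_2 lc_a_rc_0_0 lc_a_rc_2_2 lc_a_rc_3_2 lc_a_Cert_tree lc_a_rc_2_2 lc_a_rc_3_2 lc_a_rc_2_2) (@D3.rec (fun _ => (Cert rels S Gen.a)) lc_a_rc_5_2 lc_a_rc_2_2 lc_a_rc_4_2 lc_a_Cert_tree lc_a_rc_2_2 lc_a_rc_6_2 lc_a_Cert_tree lc_a_rc_2_2 lc_a_rc_0_0 lc_a_rc_4_2 lc_a_rc_2_2 lc_a_rc_7_2 lc_a_rc_0_0 lc_a_rc_2_2 lc_a_rc_4_2 lc_a_Cert_tree lc_a_rc_2_2 lc_a_rc_1_4 lc_a_rc_2_2 lc_a_rc_9_2 lc_a_Cert_tree lc_a_rc_2_2 lc_a_rc_2_2 lc_a_Cert_tree lc_a_rc_2_2 lc_a_rc_0_0 lc_a_rc_4_2 lc_a_rc_0_0 lc_a_rc_5_2 lc_a_rc_2_2 lc_a_rc_4_2 lc_a_Cert_tree lc_a_rc_2_2 lc_a_Cert_tree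 lc_a_rc_2_2 lc_a_rc_5_0 lc_a_rc_0_0 lc_a_rc_4_2 lc_a_rc_2_2 lc_a_rc_2_2 lc_a_rc_5_0 lc_a_Cert_tree lc_a_rc_2_2 lc_a_rc_0_0 lc_a_rc_4_2 lc_a_rc_4_2 lc_a_rc_6_2 lc_a_Cert_tree lc_a_rc_0_0 lc_a_rc_4_2 lc_a_rc_6_2) (@D3.rec (fun _ => (Cert rels S Gen.a)) lc_a_rc_7_2 lc_a_Cert_tree lc_a_Cert_tree lc_a_Cert_tree lc_a_rc_2_2 lc_a_rc_6_2 lc_a_rc_0_0 lc_a_rc_5_2 lc_a_rc_2_2 lc_a_rc_5_2 lc_a_Cert_tree lc_a_rc_2_2 lc_a_rc_3_2 lc_a_rc_0_0 lc_a_rc_0_0 lc_a_rc_6_2 lc_a_rc_2_2 lc_a_rc_5_2 lc_a_rc_4_0 lc_a_rc_3_2 lc_a_Cert_tree lc_a_rc_3_0 lc_a_rc_3_2 lc_a_Cert_tree lc_a_rc_2_2 lc_a_rc_3_2 lc_a_rc_0_0 lc_a_rc_4_2 lc_a_rc_2_2 lc_a_rc_1_2 lc_a_rc_0_0 lc_a_rc_2_0 lc_a_rc_2_2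 lc_a_rc_5_2 lc_a_Cert_tree lc_a_rc_2_2 lc_a_rc_0_0 lc_a_Cert_tree lc_a_rc_0_0 lc_a_rc_0_0 lc_a_rc_4_2 lc_a_rc_2_2 lc_a_Cert_tree lc_a_rc_2_2 lc_a_rc_0_1 lc_a_rc_5_2 lc_a_Cert_tree lc_a_rc_2_2 lc_a_rc_0_0 lc_a_rc_4_2 lc_a_rc_3_0) (@D3.rec (fun _ => (Cert rels S Gen.a)) lc_a_Cert_tree lc_a_rc_2_2 lc_a_Cert_tree lc_a_rc_2_2 lc_a_rc_0_0 lc_a_Cert_tree lc_a_rc_2_2 lc_a_rc_0_0 lc_a_rc_4_2 lc_a_Cert_tree lc_a_rc_2_2 lc_a_Cert_tree lc_a_rc_2_2 lc_a_Cert_tree lc_a_rc_0_0 lc_a_rc_4_2 lc_a_rc_6_2 lc_a_Cert_tree lc_a_rc_2_2 lc_a_rc_0_0 lc_a_rc_4_2 lc_a_Cert_tree lc_a_rc_0_0 lc_a_rc_4_2 lc_a_rc_4_2 lc_a_rc_6_2 lc_a_rc_4_2 lc_a_rc_0_0 lc_a_rc_2_2 lc_a_rc_4_2 lc_a_Cert_tree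 lc_a_rc_0_0 lc_a_rc_0_0 lc_a_Cert_tree lc_a_rc_0_0 lc_a_rc_0_0 lc_a_rc_2_2 lc_a_rc_4_2 lc_a_Cert_tree lc_a_rc_2_2 lc_a_rc_1_2 lc_a_Cert_tree lc_a_rc_2_2 lc_a_rc_0_0 lc_a_rc_2_2 lc_a_rc_3_2 lc_a_Cert_tree lc_a_rc_2_2 lc_a_rc_5_2 lc_a_Cert_tree lc_a_Cert_tree) (@D3.rec (fun _ => (Cert rels S Gen.a)) lc_a_rc_2_2 lc_a_rc_0_0 lc_a_Cert_tree lc_a_rc_0_0 lc_a_rc_56_28 lc_a_rc_1_4 lc_a_Cert_tree lc_a_Cert_tree lc_a_rc_2_2 lc_a_rc_0_0 lc_a_Cert_tree lc_a_rc_2_2 lc_a_rc_0_0 lc_a_rc_0_0 lc_a_rc_4_2 lc_a_Cert_tree lc_a_rc_2_2 lc_a_rc_0_0 lc_a_rc_0_0 lc_a_Cert_tree lc_a_Cert_tree lc_a_rc_2_2 lc_a_rc_0_0 lc_a_Cert_tree lc_a_rc_0_0 lc_a_Cert_tree lc_a_Cert_tree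 lc_a_rc_0_0 lc_a_Cert_tree lc_a_rc_0_0 lc_a_rc_2_2 lc_a_rc_4_2 lc_a_rc_7_2 lc_a_rc_56_21 lc_a_Cert_tree lc_a_rc_2_2 lc_a_rc_1_2 lc_a_rc_3_2 lc_a_rc_4_2 lc_a_Cert_tree lc_a_rc_4_2 lc_a_rc_0_0 lc_a_rc_4_2 lc_a_rc_2_2 lc_a_rc_4_2 lc_a_Cert_tree lc_a_Cert_tree lc_a_rc_2_2 lc_a_rc_0_0 lc_a_Cert_tree lc_a_Cert_tree) (@D3.rec (fun _ => (Cert rels S Gen.a)) lc_a_rc_0_0 lc_a_Cert_tree lc_a_rc_2_2 lc_a_rc_6_0 lc_a_rc_2_2 lc_a_rc_5_2 lc_a_Cert_tree lc_a_Cert_tree lc_a_rc_2_2 lc_a_rc_0_0 lc_a_rc_9_2 lc_a_rc_2_2 lc_a_rc_5_2 lc_a_rc_2_2 lc_a_rc_5_2 lc_a_Cert_tree lc_a_rc_2_2 lc_a_Cert_tree lc_a_rc_0_0 lc_a_rc_2_2 lc_a_rc_3_2 lc_a_Cert_tree lc_a_rc_2_2 lc_a_rc_3_2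 lc_a_rc_0_0 lc_a_rc_4_2 lc_a_Cert_tree lc_a_rc_0_0 lc_a_Cert_tree lc_a_rc_2_2 lc_a_rc_0_0 lc_a_Cert_tree lc_a_rc_2_2 lc_a_rc_0_0 lc_a_rc_4_2 lc_a_rc_3_2 lc_a_Cert_tree lc_a_rc_2_2 lc_a_rc_0_0 lc_a_rc_0_0 lc_a_rc_0_0 lc_a_rc_4_2 lc_a_rc_1_0 lc_a_rc_5_2 lc_a_rc_4_2 lc_a_rc_6_2 lc_a_rc_2_2 lc_a_Cert_tree lc_a_rc_0_0 lc_a_Cert_tree lc_a_rc_0_0) (@D3.rec (fun _ => (Cert rels S Gen.a)) lc_a_Cert_tree lc_a_rc_2_2 lc_a_rc_0_0 lc_a_rc_4_2 lc_a_rc_3_2 lc_a_rc_2_2 lc_a_rc_9_2 lc_a_Cert_tree lc_a_rc_2_2 lc_a_rc_5_2 lc_a_Cert_tree lc_a_rc_2_2 lc_a_rc_0_0 lc_a_rc_4_2 lc_a_rc_3_2 lc_a_rc_0_0 lc_a_Cert_tree lc_a_rc_3_2 lc_a_rc_0_0 lc_a_rc_4_2 lc_a_rc_4_2 lc_a_rc_6_2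 lc_a_rc_6_2 lc_a_rc_0_0 lc_a_rc_9_2 lc_a_rc_2_2 lc_a_rc_7_2 lc_a_Cert_tree lc_a_rc_2_2 lc_a_Cert_tree lc_a_rc_3_2 lc_a_Cert_tree lc_a_Cert_tree lc_a_rc_2_2 lc_a_rc_0_0 lc_a_rc_3_2 lc_a_rc_2_2 lc_a_Cert_tree lc_a_rc_0_0 lc_a_Cert_tree lc_a_Cert_tree lc_a_rc_2_2 lc_a_rc_0_0 lc_a_rc_0_0 lc_a_rc_0_0 lc_a_rc_0_0 lc_a_Cert_tree lc_a_rc_2_2 lc_a_rc_0_0 lc_a_rc_4_2 lc_a_rc_2_2) (@D3.rec (fun _ => (Cert rels S Gen.a)) lc_a_rc_1_2 lc_a_rc_5_2 lc_a_rc_3_0 lc_a_rc_5_2 lc_a_rc_8_2 lc_a_rc_1_4 lc_a_rc_56_42 lc_a_rc_1_4 lc_a_rc_5_2 lc_a_rc_3_2 lc_a_rc_7_2 lc_a_rc_3_2 lc_a_rc_6_2 lc_a_rc_2_2 lc_a_rc_5_2 lc_a_Cert_tree lc_a_rc_0_0 lc_a_rc_9_0 lc_a_rc_2_2 lc_a_rc_3_2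 lc_a_rc_1_4 lc_a_rc_3_2 lc_a_rc_2_2 lc_a_rc_3_2 lc_a_Cert_tree lc_a_rc_9_2 lc_a_rc_2_2 lc_a_rc_5_2 lc_a_Cert_tree lc_a_rc_2_2 lc_a_rc_3_2 lc_a_Cert_tree lc_a_rc_2_2 lc_a_rc_0_0 lc_a_rc_1_0 lc_a_rc_7_2 lc_a_rc_4_2 lc_a_rc_4_2 lc_a_rc_3_2 lc_a_Cert_tree lc_a_rc_2_2 lc_a_rc_3_2 lc_a_Cert_tree lc_a_rc_3_2 lc_a_rc_3_2 lc_a_rc_2_2 lc_a_rc_2_2 lc_a_rc_3_2 lc_a_Cert_tree lc_a_rc_2_2 lc_a_rc_0_0) (@D3.rec (fun _ => (Cert rels S Gen.a)) lc_a_rc_3_2 lc_a_rc_2_2 lc_a_rc_5_2 lc_a_Cert_tree lc_a_rc_2_2 lc_a_rc_7_2 lc_a_rc_2_2 lc_a_rc_5_2 lc_a_rc_2_2 lc_a_rc_9_2 lc_a_Cert_tree lc_a_rc_2_2 lc_a_rc_5_2 lc_a_Cert_tree lc_a_rc_2_2 lc_a_rc_3_2 lc_a_rc_0_0 lc_a_rc_4_2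 lc_a_rc_3_2 lc_a_rc_3_2 lc_a_rc_0_0 lc_a_rc_4_2 lc_a_rc_2_2 lc_a_rc_6_0 lc_a_rc_4_2 lc_a_rc_1_0 lc_a_rc_7_2 lc_a_rc_7_2 lc_a_rc_3_2 lc_a_rc_3_2 lc_a_rc_5_2 lc_a_rc_5_2 lc_a_rc_6_2 lc_a_rc_6_0 lc_a_rc_9_2 lc_a_rc_2_2 lc_a_Cert_tree lc_a_rc_3_2 lc_a_rc_3_2 lc_a_rc_2_2 lc_a_rc_2_2 lc_a_rc_4_2 lc_a_Cert_tree lc_a_rc_2_2 lc_a_rc_5_2 lc_a_Cert_tree lc_a_rc_2_2 lc_a_Cert_tree lc_a_rc_2_2 lc_a_rc_0_0 lc_a_rc_2_2) (@D3.rec (fun _ => (Cert rels S Gen.a)) lc_a_rc_4_2 lc_a_Cert_tree lc_a_Cert_tree lc_a_rc_2_2 lc_a_rc_5_2 lc_a_Cert_tree lc_a_rc_2_2 lc_a_Cert_tree lc_a_rc_2_2 lc_a_rc_0_0 lc_a_rc_2_2 lc_a_rc_4_2 lc_a_Cert_tree lc_a_rc_0_0 lc_a_rc_0_0 lc_a_rc_4_2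 lc_a_rc_2_2 lc_a_rc_4_2 lc_a_Cert_tree lc_a_rc_2_2 lc_a_rc_0_0 lc_a_rc_4_2 lc_a_rc_8_2 lc_a_rc_1_4 lc_a_rc_3_2 lc_a_rc_3_2 lc_a_rc_2_2 lc_a_rc_4_2 lc_a_rc_6_2 lc_a_rc_5_2 lc_a_rc_56_42 lc_a_rc_5_2 lc_a_Cert_tree lc_a_rc_3_2 lc_a_rc_4_2 lc_a_rc_2_2 lc_a_rc_4_2 lc_a_rc_2_2 lc_a_rc_7_2 lc_a_rc_2_2 lc_a_rc_4_2 lc_a_rc_2_2 lc_a_rc_4_2 lc_a_Cert_tree lc_a_rc_2_2 lc_a_rc_5_0 lc_a_rc_6_2 lc_a_Cert_tree lc_a_rc_2_2 lc_a_rc_0_0 lc_a_rc_3_2) (@D3.rec (fun _ => (Cert rels S Gen.a)) lc_a_rc_56_35 lc_a_rc_7_0 lc_a_Cert_tree lc_a_rc_2_2 lc_a_rc_3_2 lc_a_rc_2_2 lc_a_rc_5_2 lc_a_Cert_tree lc_a_rc_2_2 lc_a_rc_4_2 lc_a_rc_2_2 lc_a_rc_4_2 lc_a_Cert_tree lc_a_rc_2_2 lc_a_rc_0_0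 lc_a_rc_2_2 lc_a_rc_5_2 lc_a_Cert_tree lc_a_rc_2_2 lc_a_rc_2_2 lc_a_rc_2_2 lc_a_rc_4_2 lc_a_Cert_tree lc_a_rc_2_2 lc_a_rc_5_2 lc_a_Cert_tree lc_a_rc_0_0 lc_a_rc_4_2 lc_a_rc_2_2 lc_a_rc_2_2 lc_a_rc_3_2 lc_a_Cert_tree lc_a_rc_2_2 lc_a_rc_0_0 lc_a_rc_4_2 lc_a_rc_2_2 lc_a_rc_6_2 lc_a_rc_3_2 lc_a_rc_4_2 lc_a_rc_3_2 lc_a_rc_2_2 lc_a_rc_4_2 lc_a_Cert_tree lc_a_rc_2_2 lc_a_rc_0_0 lc_a_rc_2_2 lc_a_rc_4_2 lc_a_Cert_tree lc_a_rc_2_2 lc_a_rc_4_2 lc_a_rc_0_0) (@D3.rec (fun _ => (Cert rels S Gen.a)) lc_a_rc_4_2 lc_a_rc_2_2 lc_a_rc_5_2 lc_a_rc_0_0 lc_a_rc_4_2 lc_a_Cert_tree lc_a_rc_1_0 lc_a_rc_5_2 lc_a_rc_0_0 lc_a_rc_4_2 lc_a_rc_2_2 lc_a_rc_2_2 lc_a_Cert_tree lc_a_rc_2_2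 lc_a_rc_2_2 lc_a_rc_5_2 lc_a_Cert_tree lc_a_rc_2_2 lc_a_Cert_tree lc_a_rc_0_0 lc_a_rc_4_2 lc_a_rc_2_2 lc_a_Cert_tree lc_a_rc_2_2 lc_a_rc_0_0 lc_a_rc_4_2 lc_a_rc_1_0 lc_a_rc_5_2 lc_a_rc_2_2 lc_a_Cert_tree lc_a_rc_0_0 lc_a_rc_4_2 lc_a_rc_6_2 lc_a_rc_2_2 lc_a_Cert_tree lc_a_rc_2_2 lc_a_rc_0_0 lc_a_rc_4_2 lc_a_rc_4_2 lc_a_rc_3_2 lc_a_rc_2_2 lc_a_rc_3_2 lc_a_rc_2_2 lc_a_rc_9_2 lc_a_rc_2_2 lc_a_Cert_tree lc_a_rc_2_2 lc_a_rc_2_2 lc_a_rc_3_2 lc_a_rc_2_2 lc_a_rc_3_2) (@D3.rec (fun _ => (Cert rels S Gen.a)) lc_a_Cert_tree lc_a_rc_2_2 lc_a_Cert_tree lc_a_Cert_tree lc_a_rc_2_2 lc_a_Cert_tree lc_a_rc_2_2 lc_a_rc_0_0 lc_a_rc_5_2 lc_a_rc_6_2 lc_a_rc_4_0 lc_a_rc_3_2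 lc_a_rc_2_2 lc_a_rc_2_2 lc_a_rc_1_2 lc_a_Cert_tree lc_a_Cert_tree lc_a_rc_2_2 lc_a_rc_0_0 lc_a_rc_0_1 lc_a_rc_4_2 lc_a_Cert_tree lc_a_rc_2_2 lc_a_rc_9_2 lc_a_rc_2_2 lc_a_rc_3_2 lc_a_Cert_tree lc_a_rc_2_2 lc_a_rc_0_0 lc_a_rc_8_2 lc_a_Cert_tree lc_a_rc_0_0 lc_a_Cert_tree lc_a_rc_6_2 lc_a_Cert_tree lc_a_rc_2_2 lc_a_rc_0_0 lc_a_rc_4_2 lc_a_rc_56_42 lc_a_Cert_tree lc_a_rc_2_2 lc_a_rc_0_0 lc_a_rc_4_2 lc_a_rc_2_2 lc_a_Cert_tree lc_a_Cert_tree lc_a_rc_1_2 lc_a_rc_2_2 lc_a_rc_2_2 lc_a_rc_4_2 lc_a_Cert_tree) (@D3.rec (fun _ => (Cert rels S Gen.a)) lc_a_rc_2_2 lc_a_rc_0_0 lc_a_rc_2_2 lc_a_rc_5_2 lc_a_rc_3_2 lc_a_rc_2_2 lc_a_rc_4_2 lc_a_rc_6_2 lc_a_rc_2_2 lc_a_rc_4_2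 lc_a_Cert_tree lc_a_rc_2_2 lc_a_Cert_tree lc_a_rc_2_2 lc_a_rc_8_2 lc_a_rc_2_2 lc_a_rc_5_2 lc_a_rc_2_2 lc_a_Cert_tree lc_a_rc_2_2 lc_a_rc_3_2 lc_a_Cert_tree lc_a_rc_2_2 lc_a_rc_0_0 lc_a_rc_3_2 lc_a_Cert_tree lc_a_Cert_tree lc_a_rc_2_2 lc_a_Cert_tree lc_a_rc_0_0 lc_a_Cert_tree lc_a_rc_2_2 lc_a_rc_1_4 lc_a_rc_3_2 lc_a_Cert_tree lc_a_rc_2_2 lc_a_rc_6_2 lc_a_rc_0_0 lc_a_rc_4_2 lc_a_rc_2_2 lc_a_rc_0_0 lc_a_rc_4_2 lc_a_rc_3_2 lc_a_rc_3_2 lc_a_rc_5_2 lc_a_rc_9_2 lc_a_rc_8_2 lc_a_rc_8_2 lc_a_rc_2_2 lc_a_rc_2_2 lc_a_rc_4_2) (@D3.rec (fun _ => (Cert rels S Gen.a)) lc_a_Cert_tree lc_a_rc_2_2 lc_a_rc_0_1 lc_a_rc_0_1 lc_a_rc_1_4 lc_a_rc_9_2 lc_a_rc_2_2 lc_a_rc_5_2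 lc_a_rc_2_2 lc_a_rc_4_2 lc_a_Cert_tree lc_a_rc_2_2 lc_a_rc_6_2 lc_a_rc_7_2 lc_a_Cert_tree lc_a_rc_2_2 lc_a_rc_0_0 lc_a_Cert_tree lc_a_rc_3_2 lc_a_rc_3_0 lc_a_rc_8_2 lc_a_Cert_tree lc_a_rc_2_2 lc_a_Cert_tree lc_a_rc_2_2 lc_a_rc_0_0 lc_a_rc_2_2 lc_a_rc_5_2 lc_a_Cert_tree lc_a_rc_2_2 lc_a_rc_3_2 lc_a_rc_2_2 lc_a_rc_5_2 lc_a_Cert_tree lc_a_rc_2_2 lc_a_rc_5_2 lc_a_Cert_tree lc_a_rc_4_2 lc_a_rc_0_0 lc_a_rc_4_2 lc_a_rc_2_2 lc_a_Cert_tree lc_a_rc_2_2 lc_a_rc_0_0 lc_a_rc_4_2 lc_a_rc_2_2 lc_a_rc_5_2 lc_a_Cert_tree lc_a_rc_2_2 lc_a_rc_0_0 lc_a_rc_8_2) (@D3.rec (fun _ => (Cert rels S Gen.a)) lc_a_rc_2_2 lc_a_rc_4_2 lc_a_rc_3_2 lc_a_rc_6_0 lc_a_Cert_tree lc_a_rc_2_2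 lc_a_Cert_tree lc_a_rc_1_0 lc_a_rc_0_0 lc_a_rc_4_2 lc_a_rc_0_0 lc_a_rc_4_2 lc_a_rc_2_2 lc_a_Cert_tree lc_a_rc_2_2 lc_a_rc_5_2 lc_a_rc_2_2 lc_a_rc_9_2 lc_a_Cert_tree lc_a_rc_2_2 lc_a_rc_5_2 lc_a_Cert_tree lc_a_rc_2_2 lc_a_rc_3_2 lc_a_rc_0_0 lc_a_rc_4_2 lc_a_rc_2_2 lc_a_rc_2_2 lc_a_rc_4_2 lc_a_Cert_tree lc_a_rc_2_2 lc_a_rc_6_2 lc_a_Cert_tree lc_a_rc_2_2 lc_a_rc_6_2 lc_a_rc_0_0 lc_a_rc_4_2 lc_a_rc_4_2 lc_a_rc_56_28 lc_a_rc_5_2 lc_a_Cert_tree lc_a_rc_3_0 lc_a_rc_0_0 lc_a_rc_4_2 lc_a_rc_3_2 lc_a_rc_2_2 lc_a_rc_4_2 lc_a_rc_6_2 lc_a_rc_3_2 lc_a_Cert_tree lc_a_rc_0_0) (@D3.rec (fun _ => (Cert rels S Gen.a)) lc_a_rc_4_2 lc_a_rc_4_2 lc_a_rc_3_2 lc_a_rc_5_2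 lc_a_rc_5_2 lc_a_rc_9_2 lc_a_rc_2_2 lc_a_rc_2_2 lc_a_rc_7_2 lc_a_rc_4_2 lc_a_rc_2_2 lc_a_rc_3_2 lc_a_Cert_tree lc_a_Cert_tree lc_a_rc_2_2 lc_a_rc_0_0 lc_a_Cert_tree lc_a_rc_0_0 lc_a_rc_0_0 lc_a_rc_4_2 lc_a_rc_2_2 lc_a_rc_5_2 lc_a_Cert_tree lc_a_Cert_tree lc_a_rc_3_2 lc_a_rc_3_2 lc_a_Cert_tree lc_a_rc_2_2 lc_a_rc_0_0 lc_a_rc_2_2 lc_a_rc_4_2 lc_a_Cert_tree lc_a_Cert_tree lc_a_rc_2_2 lc_a_rc_0_0 lc_a_rc_0_0 lc_a_rc_4_2 lc_a_Cert_tree lc_a_Cert_tree lc_a_rc_4_2 lc_a_rc_0_0 lc_a_rc_0_0 lc_a_rc_0_0 lc_a_rc_4_2 lc_a_rc_0_0 lc_a_rc_0_0 lc_a_rc_0_0 lc_a_Cert_tree lc_a_rc_2_2 lc_a_rc_0_0 lc_a_rc_4_2) (@D3.rec (fun _ => (Cert rels S Gen.a)) lc_a_rc_4_2 lc_a_rc_3_2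 lc_a_rc_2_2 lc_a_rc_6_2 lc_a_Cert_tree lc_a_rc_0_0 lc_a_Cert_tree lc_a_Cert_tree lc_a_rc_2_2 lc_a_rc_0_0 lc_a_Cert_tree lc_a_rc_2_2 lc_a_rc_0_0 lc_a_rc_4_2 lc_a_rc_2_2 lc_a_rc_4_2 lc_a_Cert_tree lc_a_rc_2_2 lc_a_rc_4_2 lc_a_Cert_tree lc_a_rc_2_2 lc_a_rc_6_2 lc_a_rc_7_2 lc_a_Cert_tree lc_a_rc_2_2 lc_a_rc_0_0 lc_a_rc_2_2 lc_a_rc_4_2 lc_a_Cert_tree lc_a_rc_2_2 lc_a_rc_3_2 lc_a_Cert_tree lc_a_rc_2_2 lc_a_rc_0_0 lc_a_rc_0_0 lc_a_rc_4_2 lc_a_rc_2_2 lc_a_rc_2_2 lc_a_rc_6_2 lc_a_rc_3_2 lc_a_rc_5_2 lc_a_rc_2_2 lc_a_rc_4_2 lc_a_Cert_tree lc_a_Cert_tree lc_a_rc_2_2 lc_a_rc_0_0 lc_a_rc_2_2 lc_a_rc_5_2 lc_a_Cert_tree lc_a_rc_2_2) (@D3.rec (fun _ => (Cert rels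 S Gen.a)) lc_a_rc_4_2 lc_a_Cert_tree lc_a_rc_2_2 lc_a_rc_0_0 lc_a_Cert_tree lc_a_rc_2_2 lc_a_rc_6_2 lc_a_rc_0_0 lc_a_rc_4_2 lc_a_rc_3_2 lc_a_rc_2_2 lc_a_Cert_tree lc_a_rc_0_0 lc_a_rc_2_2 lc_a_rc_9_2 lc_a_Cert_tree lc_a_rc_2_2 lc_a_Cert_tree lc_a_rc_0_0 lc_a_rc_0_0 lc_a_rc_4_2 lc_a_rc_3_2 lc_a_rc_4_2 lc_a_rc_3_2 lc_a_rc_5_2 lc_a_rc_2_2 lc_a_rc_3_2 lc_a_rc_3_2 lc_a_rc_5_2 lc_a_rc_9_2 lc_a_Cert_tree lc_a_rc_56_35 lc_a_rc_2_2 lc_a_rc_2_0 lc_a_Cert_tree lc_a_rc_2_2 lc_a_rc_1_4 lc_a_Cert_tree lc_a_rc_2_2 lc_a_rc_0_0 lc_a_rc_2_2 lc_a_rc_4_2 lc_a_rc_2_2 lc_a_rc_6_2 lc_a_rc_0_0 lc_a_rc_56_35 lc_a_rc_9_2 lc_a_Cert_tree lc_a_rc_2_2 lc_a_rc_6_2 lc_a_rc_3_2) (@D3.rec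 (fun _ => (Cert rels S Gen.a)) lc_a_rc_2_2 lc_a_rc_7_2 lc_a_rc_2_2 lc_a_rc_3_0 lc_a_rc_2_2 lc_a_Cert_tree lc_a_rc_3_2 lc_a_rc_4_2 lc_a_Cert_tree lc_a_rc_2_2 lc_a_rc_6_2 lc_a_rc_0_0 lc_a_rc_4_2 lc_a_rc_2_2 lc_a_rc_7_2 lc_a_Cert_tree lc_a_rc_2_2 lc_a_rc_0_0 lc_a_rc_4_2 lc_a_rc_3_2 lc_a_Cert_tree lc_a_rc_3_2 lc_a_rc_8_2 lc_a_Cert_tree lc_a_rc_2_2 lc_a_rc_0_0 lc_a_Cert_tree lc_a_rc_2_2 lc_a_Cert_tree lc_a_rc_0_0 lc_a_rc_2_2 lc_a_rc_3_2 lc_a_Cert_tree lc_a_rc_2_2 lc_a_rc_3_2 lc_a_rc_0_0 lc_a_rc_4_2 lc_a_rc_2_2 lc_a_Cert_tree lc_a_rc_0_0 lc_a_rc_2_2 lc_a_Cert_tree lc_a_Cert_tree lc_a_rc_0_0 lc_a_Cert_tree lc_a_rc_0_0 lc_a_rc_4_2 lc_a_Cert_tree lc_a_rc_2_2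 lc_a_rc_0_0 lc_a_rc_4_2) (@D3.rec (fun _ => (Cert rels S Gen.a)) lc_a_rc_2_2 lc_a_rc_4_2 lc_a_rc_3_2 lc_a_rc_2_2 lc_a_rc_7_2 lc_a_rc_2_2 lc_a_rc_3_2 lc_a_rc_3_2 lc_a_rc_5_2 lc_a_rc_3_2 lc_a_rc_4_2 lc_a_rc_2_2 lc_a_rc_5_2 lc_a_rc_5_2 lc_a_Cert_tree lc_a_Cert_tree lc_a_rc_2_2 lc_a_rc_5_2 lc_a_Cert_tree lc_a_rc_2_2 lc_a_rc_4_2 lc_a_rc_0_0 lc_a_rc_4_2 lc_a_rc_2_2 lc_a_Cert_tree lc_a_rc_2_2 lc_a_rc_0_0 lc_a_rc_4_2 lc_a_rc_3_2 lc_a_Cert_tree lc_a_Cert_tree lc_a_rc_2_2 lc_a_rc_0_0 lc_a_rc_2_2 lc_a_rc_3_2 lc_a_rc_1_0 lc_a_Cert_tree lc_a_rc_2_2 lc_a_Cert_tree lc_a_rc_0_0 lc_a_rc_2_2 lc_a_rc_1_2 lc_a_Cert_tree lc_a_rc_2_2 lc_a_rc_6_2 lc_a_rc_0_0 lc_a_rc_4_2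 lc_a_rc_3_2 lc_a_rc_4_2 lc_a_Cert_tree lc_a_rc_2_2) (@D3.rec (fun _ => (Cert rels S Gen.a)) lc_a_rc_0_0 lc_a_rc_4_2 lc_a_rc_3_2 lc_a_rc_2_2 lc_a_rc_4_2 lc_a_rc_3_2 lc_a_rc_3_2 lc_a_rc_0_0 lc_a_rc_2_2 lc_a_Cert_tree lc_a_rc_2_2 lc_a_rc_0_0 lc_a_Cert_tree lc_a_rc_0_0 lc_a_rc_4_2 lc_a_rc_4_2 lc_a_rc_2_2 lc_a_rc_4_2 lc_a_rc_2_2 lc_a_rc_7_2 lc_a_Cert_tree lc_a_rc_2_2 lc_a_rc_5_2 lc_a_Cert_tree lc_a_rc_2_2 lc_a_rc_0_0 lc_a_rc_4_2 lc_a_rc_3_2 lc_a_rc_2_2 lc_a_rc_0_0 lc_a_rc_4_2 lc_a_rc_3_2 lc_a_rc_4_2 lc_a_rc_3_2 lc_a_rc_6_2 lc_a_rc_5_2 lc_a_Cert_tree lc_a_rc_2_2 lc_a_rc_3_2 lc_a_rc_0_0 lc_a_rc_4_2 lc_a_rc_2_2 lc_a_rc_4_2 lc_a_rc_3_2 lc_a_rc_6_2 lc_a_rc_5_2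 lc_a_rc_6_2 lc_a_rc_0_0 lc_a_rc_4_2 lc_a_rc_2_2 lc_a_rc_4_2)
def ce_a_20 : D2 → D3 → (Cert rels S Gen.a) := @D2.rec (fun _ => D3 → (Cert rels S Gen.a)) (@D3.rec (fun _ => (Cert rels S Gen.a)) lc_a_rc_3_2 lc_a_rc_2_2 lc_a_rc_3_2 lc_a_rc_2_2 lc_a_rc_5_2 lc_a_rc_9_2 lc_a_rc_6_2 lc_a_rc_3_2 lc_a_rc_7_2 lc_a_rc_2_0 lc_a_rc_3_2 lc_a_rc_4_2 lc_a_rc_3_2 lc_a_rc_3_2 lc_a_rc_3_2 lc_a_rc_2_2 lc_a_rc_5_2 lc_a_rc_3_2 lc_a_rc_4_2 lc_a_rc_6_2 lc_a_rc_2_2 lc_a_rc_5_2 lc_a_rc_2_2 lc_a_rc_3_2 lc_a_rc_6_2 lc_a_rc_3_0 lc_a_rc_5_2 lc_a_rc_2_2 lc_a_rc_3_2 lc_a_rc_7_0 lc_a_rc_0_0 lc_a_rc_0_0 lc_a_rc_0_0 lc_a_rc_0_0 lc_a_rc_0_0 lc_a_Cert_tree lc_a_rc_2_2 lc_a_rc_0_0 lc_a_Cert_tree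 lc_a_rc_2_2 lc_a_rc_0_0 lc_a_Cert_tree lc_a_rc_2_2 lc_a_rc_0_0 lc_a_rc_4_2 lc_a_rc_0_0 lc_a_Cert_tree lc_a_rc_4_2 lc_a_rc_0_0 lc_a_rc_0_0 lc_a_Cert_tree) (@D3.rec (fun _ => (Cert rels S Gen.a)) lc_a_rc_0_0 lc_a_rc_4_2 lc_a_rc_4_2 lc_a_rc_0_0 lc_a_Cert_tree lc_a_rc_2_2 lc_a_rc_0_0 lc_a_rc_4_2 lc_a_rc_0_0 lc_a_rc_0_0 lc_a_Cert_tree lc_a_rc_2_2 lc_a_rc_6_2 lc_a_Cert_tree lc_a_rc_2_2 lc_a_rc_0_0 lc_a_Cert_tree lc_a_rc_2_2 lc_a_rc_1_2 lc_a_rc_2_2 lc_a_rc_5_2 lc_a_Cert_tree lc_a_rc_2_2 lc_a_rc_6_2 lc_a_Cert_tree lc_a_rc_2_2 lc_a_rc_0_0 lc_a_rc_4_2 lc_a_rc_2_2 lc_a_rc_7_2 lc_a_rc_0_0 lc_a_Cert_tree lc_a_rc_56_35 lc_a_rc_3_2 lc_a_rc_0_0 lc_a_rc_4_2 lc_a_rc_2_2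 lc_a_Cert_tree lc_a_rc_2_2 lc_a_rc_0_0 lc_a_rc_4_2 lc_a_rc_2_2 lc_a_rc_0_0 lc_a_rc_4_2 lc_a_rc_4_2 lc_a_rc_6_2 lc_a_rc_7_2 lc_a_rc_3_2 lc_a_Cert_tree lc_a_rc_2_2 lc_a_rc_3_2) (@D3.rec (fun _ => (Cert rels S Gen.a)) lc_a_Cert_tree lc_a_rc_2_2 lc_a_rc_0_0 lc_a_rc_4_2 lc_a_rc_7_2 lc_a_rc_5_2 lc_a_Cert_tree lc_a_rc_7_2 lc_a_rc_6_2 lc_a_rc_0_0 lc_a_rc_2_2 lc_a_rc_5_2 lc_a_Cert_tree lc_a_rc_2_2 lc_a_rc_2_2 lc_a_rc_4_2 lc_a_Cert_tree lc_a_rc_5_2 lc_a_rc_0_0 lc_a_rc_4_2 lc_a_Cert_tree lc_a_rc_2_2 lc_a_Cert_tree lc_a_rc_0_0 lc_a_rc_4_2 lc_a_Cert_tree lc_a_Cert_tree lc_a_rc_2_2 lc_a_rc_0_0 lc_a_rc_4_2 lc_a_rc_3_2 lc_a_rc_0_0 lc_a_rc_4_2 lc_a_rc_0_0 lc_a_Cert_tree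 lc_a_rc_2_2 lc_a_rc_5_2 lc_a_rc_0_0 lc_a_rc_4_2 lc_a_rc_2_2 lc_a_rc_0_0 lc_a_rc_4_2 lc_a_rc_3_2 lc_a_Cert_tree lc_a_rc_3_0 lc_a_rc_0_0 lc_a_rc_4_2 lc_a_rc_2_2 lc_a_rc_4_2 lc_a_Cert_tree lc_a_rc_2_2) (@D3.rec (fun _ => (Cert rels S Gen.a)) lc_a_Cert_tree lc_a_rc_2_2 lc_a_rc_6_2 lc_a_rc_0_0 lc_a_rc_4_2 lc_a_rc_2_2 lc_a_rc_7_2 lc_a_rc_0_0 lc_a_rc_4_2 lc_a_rc_4_2 lc_a_rc_6_2 lc_a_rc_2_2 lc_a_Cert_tree lc_a_rc_2_2 lc_a_rc_0_0 lc_a_Cert_tree lc_a_rc_0_1 lc_a_Cert_tree lc_a_rc_2_2 lc_a_rc_0_0 lc_a_rc_4_2 lc_a_Cert_tree lc_a_rc_0_0 lc_a_rc_4_2 lc_a_rc_4_2 lc_a_Cert_tree lc_a_rc_2_2 lc_a_Cert_tree lc_a_rc_2_2 lc_a_rc_0_0 lc_a_rc_4_2 lc_a_rc_3_2 lc_a_rc_0_0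 lc_a_rc_4_2 lc_a_rc_2_2 lc_a_rc_4_2 lc_a_rc_6_2 lc_a_Cert_tree lc_a_rc_56_21 lc_a_rc_0_0 lc_a_rc_4_2 lc_a_rc_4_2 lc_a_rc_6_2 lc_a_rc_0_0 lc_a_rc_7_2 lc_a_rc_0_0 lc_a_rc_0_0 lc_a_rc_0_0 lc_a_rc_4_2 lc_a_rc_2_2 lc_a_rc_5_2) (@D3.rec (fun _ => (Cert rels S Gen.a)) lc_a_rc_5_2 lc_a_Cert_tree lc_a_rc_2_2 lc_a_rc_5_2 lc_a_rc_0_0 lc_a_rc_4_2 lc_a_rc_2_2 lc_a_rc_6_2 lc_a_rc_6_0 lc_a_Cert_tree lc_a_rc_2_2 lc_a_rc_5_2 lc_a_Cert_tree lc_a_rc_3_0 lc_a_rc_3_2 lc_a_rc_0_0 lc_a_rc_4_2 lc_a_rc_3_0 lc_a_rc_0_0 lc_a_rc_4_2 lc_a_rc_2_2 lc_a_rc_4_2 lc_a_rc_6_2 lc_a_rc_2_2 lc_a_Cert_tree lc_a_rc_2_2 lc_a_rc_0_0 lc_a_rc_4_2 lc_a_rc_0_0 lc_a_rc_4_2 lc_a_rc_6_2 lc_a_rc_0_0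 lc_a_rc_4_2 lc_a_Cert_tree lc_a_rc_2_2 lc_a_rc_0_0 lc_a_rc_4_2 lc_a_rc_3_2 lc_a_rc_4_2 lc_a_rc_6_2 lc_a_rc_0_0 lc_a_rc_4_2 lc_a_rc_0_0 lc_a_rc_4_2 lc_a_rc_0_0 lc_a_rc_4_2 lc_a_rc_4_2 lc_a_rc_0_0 lc_a_rc_4_2 lc_a_rc_0_0 lc_a_rc_4_2) (@D3.rec (fun _ => (Cert rels S Gen.a)) lc_a_rc_0_0 lc_a_rc_4_2 lc_a_rc_6_2 lc_a_rc_0_0 lc_a_rc_4_2 lc_a_rc_4_2 lc_a_rc_0_0 lc_a_rc_4_2 lc_a_rc_6_2 lc_a_rc_7_2 lc_a_Cert_tree lc_a_rc_2_2 lc_a_rc_0_0 lc_a_rc_0_0 lc_a_Cert_tree lc_a_rc_4_2 lc_a_rc_0_0 lc_a_Cert_tree lc_a_rc_2_2 lc_a_rc_0_0 lc_a_rc_4_2 lc_a_rc_7_0 lc_a_Cert_tree lc_a_rc_2_2 lc_a_rc_0_0 lc_a_Cert_tree lc_a_rc_2_2 lc_a_rc_0_0 lc_a_rc_0_0 lc_a_rc_4_2 lc_a_rc_0_0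 lc_a_Cert_tree lc_a_rc_2_2 lc_a_rc_0_0 lc_a_rc_0_0 lc_a_rc_4_2 lc_a_rc_0_0 lc_a_rc_4_2 lc_a_rc_3_2 lc_a_rc_4_2 lc_a_rc_0_0 lc_a_rc_4_2 lc_a_rc_0_0 lc_a_rc_0_0 lc_a_rc_4_2 lc_a_rc_3_2 lc_a_rc_0_0 lc_a_rc_0_0 lc_a_rc_0_0 lc_a_rc_0_0 lc_a_Cert_tree) (@D3.rec (fun _ => (Cert rels S Gen.a)) lc_a_rc_2_2 lc_a_Cert_tree lc_a_rc_0_1 lc_a_rc_0_0 lc_a_rc_4_2 lc_a_rc_1_0 lc_a_Cert_tree lc_a_rc_4_2 lc_a_rc_0_0 lc_a_rc_4_2 lc_a_rc_4_2 lc_a_Cert_tree lc_a_rc_4_2 lc_a_rc_0_0 lc_a_rc_0_0 lc_a_rc_4_2 lc_a_rc_3_2 lc_a_rc_0_0 lc_a_rc_0_0 lc_a_rc_0_0 lc_a_Cert_tree lc_a_rc_2_2 lc_a_Cert_tree lc_a_rc_2_2 lc_a_rc_0_0 lc_a_rc_0_0 lc_a_rc_4_2 lc_a_rc_3_2 lc_a_rc_2_2 lc_a_rc_9_2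 lc_a_Cert_tree lc_a_rc_2_2 lc_a_rc_5_2 lc_a_Cert_tree lc_a_rc_2_2 lc_a_rc_0_0 lc_a_rc_4_2 lc_a_rc_3_2 lc_a_rc_0_0 lc_a_Cert_tree lc_a_rc_2_2 lc_a_rc_0_0 lc_a_rc_4_2 lc_a_rc_4_2 lc_a_rc_0_0 lc_a_rc_0_0 lc_a_rc_4_2 lc_a_rc_0_1 lc_a_rc_0_0 lc_a_rc_4_2 lc_a_rc_3_2) (@D3.rec (fun _ => (Cert rels S Gen.a)) lc_a_rc_4_2 lc_a_rc_3_2 lc_a_rc_4_0 lc_a_rc_0_0 lc_a_rc_4_2 lc_a_rc_3_2 lc_a_rc_4_2 lc_a_rc_6_2 lc_a_rc_1_0 lc_a_rc_6_2 lc_a_rc_7_2 lc_a_rc_0_0 lc_a_rc_0_0 lc_a_rc_0_0 lc_a_rc_4_2 lc_a_rc_4_2 lc_a_rc_3_2 lc_a_rc_5_2 lc_a_Cert_tree lc_a_rc_2_2 lc_a_rc_9_2 lc_a_rc_0_0 lc_a_rc_4_2 lc_a_rc_0_0 lc_a_rc_4_2 lc_a_rc_4_2 lc_a_rc_3_2 lc_a_rc_0_0 lc_a_rc_4_2 lc_a_rc_6_2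 lc_a_Cert_tree lc_a_rc_2_2 lc_a_rc_0_0 lc_a_Cert_tree lc_a_rc_0_0 lc_a_Cert_tree lc_a_rc_0_0 lc_a_rc_0_0 lc_a_rc_4_2 lc_a_rc_2_2 lc_a_rc_5_2 lc_a_rc_2_2 lc_a_rc_0_0 lc_a_rc_0_0 lc_a_rc_0_0 lc_a_rc_4_2 lc_a_Cert_tree lc_a_rc_0_0 lc_a_rc_4_2 lc_a_rc_4_2 lc_a_rc_3_2) (@D3.rec (fun _ => (Cert rels S Gen.a)) lc_a_rc_2_2 lc_a_rc_2_2 lc_a_rc_9_2 lc_a_rc_0_0 lc_a_rc_7_0 lc_a_Cert_tree lc_a_rc_2_2 lc_a_rc_1_4 lc_a_rc_2_2 lc_a_rc_6_2 lc_a_rc_0_0 lc_a_rc_0_0 lc_a_rc_3_2 lc_a_rc_4_2 lc_a_Cert_tree lc_a_rc_0_0 lc_a_rc_0_0 lc_a_rc_7_2 lc_a_Cert_tree lc_a_rc_2_2 lc_a_rc_0_0 lc_a_Cert_tree lc_a_rc_0_0 lc_a_rc_0_0 lc_a_Cert_tree lc_a_rc_2_2 lc_a_rc_1_4 lc_a_rc_2_2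 lc_a_rc_2_2 lc_a_rc_3_2 lc_a_Cert_tree lc_a_rc_2_2 lc_a_rc_0_0 lc_a_rc_2_2 lc_a_rc_9_2 lc_a_Cert_tree lc_a_rc_2_2 lc_a_rc_5_2 lc_a_rc_0_0 lc_a_rc_4_2 lc_a_rc_3_2 lc_a_rc_0_0 lc_a_rc_4_2 lc_a_rc_2_2 lc_a_rc_7_2 lc_a_rc_7_2 lc_a_rc_3_2 lc_a_rc_4_0 lc_a_rc_0_0 lc_a_Cert_tree lc_a_rc_2_2) (@D3.rec (fun _ => (Cert rels S Gen.a)) lc_a_rc_3_2 lc_a_rc_0_0 lc_a_rc_4_2 lc_a_rc_3_2 lc_a_rc_3_2 lc_a_Cert_tree lc_a_rc_2_2 lc_a_rc_5_2 lc_a_rc_0_0 lc_a_rc_4_2 lc_a_rc_2_2 lc_a_rc_2_2 lc_a_rc_6_0 lc_a_Cert_tree lc_a_rc_2_2 lc_a_rc_0_0 lc_a_rc_4_2 lc_a_rc_2_2 lc_a_rc_7_2 lc_a_Cert_tree lc_a_rc_2_2 lc_a_rc_5_2 lc_a_Cert_tree lc_a_rc_2_2 lc_a_rc_9_2 lc_a_rc_0_0 lc_a_rc_4_2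 lc_a_rc_5_2 lc_a_rc_3_2 lc_a_rc_0_0 lc_a_rc_4_2 lc_a_rc_2_2 lc_a_rc_2_2 lc_a_rc_4_2 lc_a_rc_6_2 lc_a_rc_2_2 lc_a_rc_4_2 lc_a_rc_3_2 lc_a_rc_2_2 lc_a_rc_3_2 lc_a_rc_56_21 lc_a_rc_3_2 lc_a_rc_5_2 lc_a_rc_6_2 lc_a_rc_7_2 lc_a_Cert_tree lc_a_rc_0_0 lc_a_rc_2_2 lc_a_rc_56_35 lc_a_rc_4_2 lc_a_Cert_tree) (@D3.rec (fun _ => (Cert rels S Gen.a)) lc_a_Cert_tree lc_a_rc_2_2 lc_a_rc_0_0 lc_a_Cert_tree lc_a_rc_2_2 lc_a_rc_0_0 lc_a_rc_4_2 lc_a_rc_0_0 lc_a_rc_4_2 lc_a_Cert_tree lc_a_rc_2_2 lc_a_rc_0_0 lc_a_rc_0_0 lc_a_Cert_tree lc_a_rc_2_2 lc_a_rc_0_0 lc_a_rc_4_2 lc_a_rc_0_0 lc_a_rc_4_2 lc_a_Cert_tree lc_a_rc_2_2 lc_a_rc_0_0 lc_a_rc_4_2 lc_a_Cert_tree lc_a_rc_2_2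 lc_a_rc_0_0 lc_a_rc_4_2 lc_a_rc_4_2 lc_a_rc_2_2 lc_a_rc_56_21 lc_a_rc_1_4 lc_a_rc_2_2 lc_a_rc_4_2 lc_a_rc_2_2 lc_a_rc_4_2 lc_a_Cert_tree lc_a_rc_2_2 lc_a_rc_6_2 lc_a_rc_7_2 lc_a_rc_2_2 lc_a_rc_5_2 lc_a_Cert_tree lc_a_rc_2_2 lc_a_rc_0_0 lc_a_rc_2_2 lc_a_rc_4_2 lc_a_Cert_tree lc_a_rc_2_2 lc_a_rc_5_2 lc_a_rc_3_2 lc_a_Cert_tree) (@D3.rec (fun _ => (Cert rels S Gen.a)) lc_a_rc_2_2 lc_a_rc_4_2 lc_a_Cert_tree lc_a_rc_2_2 lc_a_rc_5_2 lc_a_rc_0_0 lc_a_rc_4_2 lc_a_rc_2_2 lc_a_rc_6_2 lc_a_rc_0_0 lc_a_rc_4_2 lc_a_rc_3_2 lc_a_rc_2_2 lc_a_rc_4_2 lc_a_Cert_tree lc_a_rc_2_2 lc_a_rc_0_0 lc_a_Cert_tree lc_a_rc_2_2 lc_a_Cert_tree lc_a_rc_2_2 lc_a_rc_0_0 lc_a_rc_4_2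 lc_a_rc_2_2 lc_a_Cert_tree lc_a_rc_2_2 lc_a_rc_6_2 lc_a_rc_0_0 lc_a_rc_4_2 lc_a_rc_2_2 lc_a_Cert_tree lc_a_rc_2_2 lc_a_rc_0_0 lc_a_rc_4_2 lc_a_Cert_tree lc_a_Cert_tree lc_a_rc_2_2 lc_a_rc_0_0 lc_a_rc_4_2 lc_a_rc_3_2 lc_a_rc_2_2 lc_a_rc_0_0 lc_a_rc_4_2 lc_a_rc_6_2 lc_a_Cert_tree lc_a_rc_2_2 lc_a_rc_0_0 lc_a_rc_4_2 lc_a_rc_4_2 lc_a_rc_3_2 lc_a_rc_2_2) (@D3.rec (fun _ => (Cert rels S Gen.a)) lc_a_rc_5_2 lc_a_rc_5_2 lc_a_rc_2_2 lc_a_rc_4_2 lc_a_Cert_tree lc_a_rc_2_2 lc_a_rc_6_2 lc_a_rc_0_0 lc_a_rc_4_2 lc_a_rc_3_2 lc_a_Cert_tree lc_a_rc_2_2 lc_a_rc_0_0 lc_a_rc_4_2 lc_a_rc_2_2 lc_a_rc_4_2 lc_a_rc_6_2 lc_a_rc_0_0 lc_a_Cert_tree lc_a_rc_2_2 lc_a_rc_0_0 lc_a_rc_4_2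 lc_a_rc_0_0 lc_a_rc_4_2 lc_a_rc_3_2 lc_a_Cert_tree lc_a_rc_0_0 lc_a_rc_4_2 lc_a_Cert_tree lc_a_rc_0_0 lc_a_rc_0_0 lc_a_rc_4_2 lc_a_rc_0_0 lc_a_rc_4_2 lc_a_rc_6_2 lc_a_rc_0_0 lc_a_rc_4_2 lc_a_rc_4_2 lc_a_rc_6_2 lc_a_rc_2_2 lc_a_Cert_tree lc_a_rc_0_0 lc_a_rc_6_2 lc_a_rc_7_2 lc_a_rc_0_0 lc_a_rc_4_2 lc_a_rc_4_2 lc_a_rc_3_2 lc_a_rc_2_2 lc_a_rc_5_2 lc_a_rc_2_2) (@D3.rec (fun _ => (Cert rels S Gen.a)) lc_a_rc_2_2 lc_a_Cert_tree lc_a_rc_0_0 lc_a_Cert_tree lc_a_Cert_tree lc_a_rc_2_2 lc_a_Cert_tree lc_a_rc_2_2 lc_a_rc_0_0 lc_a_Cert_tree lc_a_rc_0_0 lc_a_rc_0_0 lc_a_rc_4_2 lc_a_rc_0_0 lc_a_rc_4_2 lc_a_rc_5_2 lc_a_rc_5_2 lc_a_rc_6_2 lc_a_rc_6_0 lc_a_Cert_tree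 lc_a_rc_3_2 lc_a_rc_3_2 lc_a_Cert_tree lc_a_rc_2_2 lc_a_rc_0_0 lc_a_rc_0_0 lc_a_Cert_tree lc_a_rc_2_2 lc_a_Cert_tree lc_a_rc_2_2 lc_a_rc_4_2 lc_a_rc_0_0 lc_a_rc_4_2 lc_a_rc_2_2 lc_a_Cert_tree lc_a_rc_2_2 lc_a_rc_0_0 lc_a_rc_4_2 lc_a_rc_2_2 lc_a_rc_0_0 lc_a_rc_0_0 lc_a_rc_4_2 lc_a_rc_0_0 lc_a_rc_4_2 lc_a_rc_4_2 lc_a_rc_6_2 lc_a_rc_0_0 lc_a_rc_4_2 lc_a_rc_4_2 lc_a_rc_3_2 lc_a_rc_0_0) (@D3.rec (fun _ => (Cert rels S Gen.a)) lc_a_rc_0_0 lc_a_rc_2_2 lc_a_Cert_tree lc_a_Cert_tree lc_a_rc_4_2 lc_a_rc_0_0 lc_a_rc_4_2 lc_a_Cert_tree lc_a_rc_2_2 lc_a_rc_5_2 lc_a_rc_2_2 lc_a_rc_4_2 lc_a_Cert_tree lc_a_rc_2_2 lc_a_rc_6_2 lc_a_rc_7_2 lc_a_Cert_tree lc_a_rc_2_2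 lc_a_rc_0_0 lc_a_Cert_tree lc_a_rc_0_0 lc_a_Cert_tree lc_a_rc_2_2 lc_a_Cert_tree lc_a_rc_2_2 lc_a_rc_5_2 lc_a_Cert_tree lc_a_rc_0_0 lc_a_rc_4_2 lc_a_rc_2_2 lc_a_rc_0_0 lc_a_rc_4_2 lc_a_rc_2_2 lc_a_rc_5_2 lc_a_rc_0_0 lc_a_rc_0_0 lc_a_Cert_tree lc_a_rc_0_0 lc_a_rc_0_0 lc_a_rc_4_2 lc_a_rc_3_2 lc_a_rc_2_2 lc_a_rc_0_0 lc_a_rc_4_2 lc_a_rc_3_2 lc_a_rc_2_2 lc_a_rc_4_2 lc_a_rc_6_2 lc_a_rc_4_2 lc_a_rc_3_2 lc_a_rc_5_2) (@D3.rec (fun _ => (Cert rels S Gen.a)) lc_a_rc_5_2 lc_a_rc_9_2 lc_a_rc_2_2 lc_a_rc_2_2 lc_a_rc_1_2 lc_a_Cert_tree lc_a_Cert_tree lc_a_rc_4_2 lc_a_rc_0_0 lc_a_Cert_tree lc_a_rc_2_2 lc_a_rc_1_4 lc_a_rc_1_2 lc_a_rc_2_2 lc_a_rc_6_2 lc_a_rc_1_0 lc_a_Cert_tree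 lc_a_rc_2_2 lc_a_rc_6_2 lc_a_Cert_tree lc_a_rc_2_2 lc_a_rc_6_2 lc_a_rc_0_0 lc_a_rc_4_2 lc_a_rc_2_2 lc_a_rc_7_2 lc_a_rc_3_0 lc_a_rc_0_0 lc_a_rc_4_2 lc_a_rc_3_2 lc_a_rc_0_0 lc_a_rc_3_0 lc_a_rc_8_2 lc_a_Cert_tree lc_a_rc_2_2 lc_a_rc_0_0 lc_a_rc_4_2 lc_a_rc_0_0 lc_a_rc_4_2 lc_a_Cert_tree lc_a_rc_2_2 lc_a_rc_5_2 lc_a_rc_0_0 lc_a_rc_4_2 lc_a_rc_2_2 lc_a_Cert_tree lc_a_rc_2_2 lc_a_rc_6_2 lc_a_rc_0_0 lc_a_rc_4_2 lc_a_rc_3_2) (@D3.rec (fun _ => (Cert rels S Gen.a)) lc_a_rc_2_2 lc_a_rc_0_0 lc_a_rc_4_2 lc_a_rc_4_2 lc_a_rc_6_2 lc_a_rc_0_0 lc_a_rc_4_2 lc_a_rc_4_2 lc_a_rc_3_2 lc_a_rc_2_2 lc_a_rc_9_2 lc_a_rc_0_0 lc_a_rc_4_2 lc_a_rc_2_2 lc_a_rc_1_2 lc_a_Cert_tree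 lc_a_rc_2_2 lc_a_Cert_tree lc_a_rc_2_2 lc_a_rc_0_0 lc_a_rc_4_2 lc_a_rc_0_0 lc_a_rc_4_2 lc_a_rc_4_2 lc_a_rc_4_2 lc_a_Cert_tree lc_a_rc_0_0 lc_a_Cert_tree lc_a_rc_2_2 lc_a_rc_5_2 lc_a_Cert_tree lc_a_rc_2_2 lc_a_rc_9_2 lc_a_rc_0_0 lc_a_rc_4_2 lc_a_rc_2_2 lc_a_rc_0_0 lc_a_rc_4_2 lc_a_rc_2_2 lc_a_rc_4_2 lc_a_rc_6_2 lc_a_Cert_tree lc_a_rc_2_2 lc_a_rc_6_2 lc_a_rc_0_0 lc_a_rc_4_2 lc_a_rc_3_2 lc_a_rc_2_2 lc_a_rc_0_0 lc_a_rc_4_2 lc_a_rc_4_2) (@D3.rec (fun _ => (Cert rels S Gen.a)) lc_a_rc_2_2 lc_a_rc_6_2 lc_a_rc_4_2 lc_a_rc_3_2 lc_a_rc_6_2 lc_a_rc_2_2 lc_a_rc_56_35 lc_a_rc_0_0 lc_a_rc_4_2 lc_a_rc_4_2 lc_a_rc_3_2 lc_a_rc_6_2 lc_a_rc_5_2 lc_a_rc_6_2 lc_a_rc_7_2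 lc_a_rc_0_0 lc_a_rc_4_2 lc_a_rc_3_2 lc_a_rc_5_2 lc_a_rc_9_2 lc_a_rc_9_2 lc_a_rc_3_2 lc_a_rc_3_2 lc_a_rc_2_0 lc_a_rc_0_0 lc_a_rc_0_0 lc_a_rc_4_2 lc_a_rc_0_0 lc_a_rc_4_2 lc_a_Cert_tree lc_a_rc_2_2 lc_a_rc_0_0 lc_a_rc_0_0 lc_a_rc_4_2 lc_a_rc_3_2 lc_a_rc_0_0 lc_a_rc_4_2 lc_a_rc_3_2 lc_a_Cert_tree lc_a_rc_4_2 lc_a_rc_0_0 lc_a_rc_0_0 lc_a_rc_4_2 lc_a_rc_4_2 lc_a_rc_0_0 lc_a_rc_0_0 lc_a_rc_4_2 lc_a_rc_4_0 lc_a_rc_4_2 lc_a_rc_0_0 lc_a_rc_4_2) (@D3.rec (fun _ => (Cert rels S Gen.a)) lc_a_rc_4_2 lc_a_rc_3_2 lc_a_rc_5_2 lc_a_rc_2_2 lc_a_rc_0_0 lc_a_rc_0_0 lc_a_rc_0_0 lc_a_rc_4_2 lc_a_rc_0_0 lc_a_rc_4_2 lc_a_rc_3_2 lc_a_rc_4_2 lc_a_Cert_tree lc_a_rc_2_2 lc_a_rc_0_0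 lc_a_Cert_tree lc_a_rc_2_2 lc_a_rc_6_2 lc_a_rc_0_0 lc_a_rc_4_2 lc_a_rc_2_2 lc_a_rc_7_2 lc_a_rc_0_0 lc_a_rc_4_2 lc_a_rc_3_2 lc_a_Cert_tree lc_a_rc_2_2 lc_a_rc_0_0 lc_a_Cert_tree lc_a_rc_2_2 lc_a_rc_3_2 lc_a_rc_0_0 lc_a_rc_4_2 lc_a_rc_2_2 lc_a_rc_4_2 lc_a_rc_3_2 lc_a_rc_2_2 lc_a_rc_3_2 lc_a_rc_5_2 lc_a_Cert_tree lc_a_rc_2_2 lc_a_rc_0_0 lc_a_rc_0_0 lc_a_rc_4_2 lc_a_rc_3_2 lc_a_Cert_tree lc_a_rc_2_2 lc_a_rc_0_0 lc_a_Cert_tree lc_a_rc_2_2 lc_a_rc_0_0) (@D3.rec (fun _ => (Cert rels S Gen.a)) lc_a_rc_4_2 lc_a_rc_3_2 lc_a_rc_0_0 lc_a_rc_4_2 lc_a_rc_3_2 lc_a_rc_2_2 lc_a_rc_4_2 lc_a_rc_3_2 lc_a_Cert_tree lc_a_rc_0_0 lc_a_Cert_tree lc_a_rc_2_2 lc_a_rc_0_0 lc_a_rc_4_2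 lc_a_rc_3_2 lc_a_rc_0_0 lc_a_rc_4_2 lc_a_rc_3_2 lc_a_rc_5_2 lc_a_rc_3_2 lc_a_rc_5_2 lc_a_rc_9_2 lc_a_rc_3_2 lc_a_rc_0_0 lc_a_Cert_tree lc_a_Cert_tree lc_a_rc_6_0 lc_a_rc_0_0 lc_a_Cert_tree lc_a_rc_2_2 lc_a_rc_0_0 lc_a_rc_4_2 lc_a_rc_3_2 lc_a_Cert_tree lc_a_rc_2_2 lc_a_rc_6_2 lc_a_rc_3_2 lc_a_rc_2_2 lc_a_rc_7_2 lc_a_Cert_tree lc_a_Cert_tree lc_a_rc_2_2 lc_a_rc_0_1 lc_a_rc_0_0 lc_a_rc_4_2 lc_a_rc_3_2 lc_a_rc_2_2 lc_a_rc_7_2 lc_a_rc_3_2 lc_a_Cert_tree lc_a_rc_3_0) (@D3.rec (fun _ => (Cert rels S Gen.a)) lc_a_Cert_tree lc_a_rc_0_0 lc_a_Cert_tree lc_a_rc_4_2 lc_a_rc_6_2 lc_a_rc_0_0 lc_a_rc_4_2 lc_a_rc_3_2 lc_a_rc_2_2 lc_a_rc_7_2 lc_a_rc_4_2 lc_a_rc_6_2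 lc_a_rc_2_2 lc_a_rc_0_0 lc_a_rc_4_2 lc_a_rc_3_2 lc_a_rc_4_2 lc_a_rc_3_2 lc_a_rc_3_2 lc_a_rc_0_0 lc_a_Cert_tree lc_a_rc_2_2 lc_a_rc_0_0 lc_a_rc_4_2 lc_a_rc_3_2 lc_a_rc_0_0 lc_a_Cert_tree lc_a_rc_0_0 lc_a_Cert_tree lc_a_rc_2_2 lc_a_rc_0_0 lc_a_rc_4_2 lc_a_rc_2_2 lc_a_rc_2_2 lc_a_rc_4_2 lc_a_rc_3_2 lc_a_rc_2_2 lc_a_rc_0_0 lc_a_Cert_tree lc_a_rc_0_0 lc_a_rc_0_0 lc_a_rc_0_0 lc_a_rc_4_2 lc_a_rc_0_0 lc_a_rc_4_2 lc_a_rc_2_2 lc_a_rc_4_2 lc_a_rc_3_2 lc_a_rc_2_2 lc_a_rc_3_2 lc_a_rc_2_2) (@D3.rec (fun _ => (Cert rels S Gen.a)) lc_a_rc_5_2 lc_a_rc_2_2 lc_a_rc_3_2 lc_a_rc_3_2 lc_a_rc_5_2 lc_a_rc_2_2 lc_a_rc_6_2 lc_a_rc_4_2 lc_a_rc_9_2 lc_a_rc_2_2 lc_a_rc_9_2 lc_a_rc_0_0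 lc_a_rc_0_0 lc_a_Cert_tree lc_a_rc_2_2 lc_a_rc_0_0 lc_a_rc_4_2 lc_a_rc_3_2 lc_a_rc_4_2 lc_a_rc_4_2 lc_a_rc_6_2 lc_a_rc_0_0 lc_a_rc_4_2 lc_a_rc_3_2 lc_a_rc_4_2 lc_a_rc_3_2 lc_a_rc_5_2 lc_a_rc_0_0 lc_a_rc_0_0 lc_a_rc_4_2 lc_a_Cert_tree lc_a_rc_2_2 lc_a_Cert_tree lc_a_rc_0_0 lc_a_rc_4_2 lc_a_rc_3_2 lc_a_rc_0_0 lc_a_Cert_tree lc_a_rc_2_2 lc_a_rc_4_0 lc_a_rc_0_0 lc_a_rc_4_2 lc_a_rc_3_2 lc_a_rc_2_2 lc_a_rc_4_2 lc_a_rc_3_2 lc_a_rc_0_1 lc_a_rc_0_0 lc_a_rc_4_2 lc_a_rc_2_2 lc_a_rc_4_2) (@D3.rec (fun _ => (Cert rels S Gen.a)) lc_a_rc_3_2 lc_a_rc_6_2 lc_a_rc_3_2 lc_a_rc_3_2 lc_a_rc_2_2 lc_a_rc_5_2 lc_a_rc_3_2 lc_a_Cert_tree lc_a_rc_0_0 lc_a_rc_4_2 lc_a_rc_3_2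 lc_a_rc_0_0 lc_a_rc_4_2 lc_a_Cert_tree lc_a_rc_2_2 lc_a_rc_5_2 lc_a_Cert_tree lc_a_rc_2_2 lc_a_rc_9_2 lc_a_rc_0_0 lc_a_rc_4_2 lc_a_rc_3_2 lc_a_rc_2_2 lc_a_rc_0_0 lc_a_rc_4_2 lc_a_rc_3_2 lc_a_rc_4_2 lc_a_rc_3_2 lc_a_rc_6_2 lc_a_rc_3_2 lc_a_rc_5_2 lc_a_rc_4_2 lc_a_rc_3_2 lc_a_rc_3_2 lc_a_rc_6_2 lc_a_rc_3_2 lc_a_rc_0_0 lc_a_rc_0_0 lc_a_rc_4_2 lc_a_rc_2_2 lc_a_rc_4_2 lc_a_rc_6_2 lc_a_rc_3_2 lc_a_rc_6_2 lc_a_rc_5_2 lc_a_rc_2_2 lc_a_rc_4_2 lc_a_rc_3_2 lc_a_rc_3_2 lc_a_rc_5_2 lc_a_rc_2_2) (@D3.rec (fun _ => (Cert rels S Gen.a)) lc_a_rc_2_2 lc_a_rc_5_2 lc_a_rc_2_2 lc_a_rc_9_2 lc_a_rc_0_1 lc_a_rc_2_0 lc_a_rc_6_2 lc_a_rc_3_2 lc_a_rc_2_2 lc_a_rc_8_2 lc_a_rc_2_2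 lc_a_rc_5_2 lc_a_rc_2_2 lc_a_rc_1_2 lc_a_rc_2_2 lc_a_rc_3_2 lc_a_rc_3_2 lc_a_rc_4_2 lc_a_rc_0_0 lc_a_rc_4_2 lc_a_rc_0_0 lc_a_rc_4_2 lc_a_rc_3_2 lc_a_rc_0_0 lc_a_rc_4_2 lc_a_rc_4_2 lc_a_rc_0_0 lc_a_rc_4_2 lc_a_rc_0_0 lc_a_rc_4_2 lc_a_rc_0_0 lc_a_rc_4_2 lc_a_rc_3_2 lc_a_rc_4_2 lc_a_Cert_tree lc_a_rc_56_35 lc_a_rc_0_0 lc_a_rc_4_2 lc_a_rc_2_2 lc_a_rc_0_0 lc_a_rc_4_2 lc_a_rc_3_2 lc_a_rc_0_0 lc_a_rc_4_2 lc_a_rc_2_2 lc_a_Cert_tree lc_a_rc_2_2 lc_a_rc_0_0 lc_a_rc_4_2 lc_a_rc_2_2 lc_a_rc_7_2) (@D3.rec (fun _ => (Cert rels S Gen.a)) lc_a_rc_0_0 lc_a_rc_4_2 lc_a_rc_4_2 lc_a_rc_6_2 lc_a_rc_2_2 lc_a_rc_0_0 lc_a_rc_4_2 lc_a_rc_3_2 lc_a_rc_2_2 lc_a_rc_4_2 lc_a_rc_6_2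 lc_a_rc_0_0 lc_a_rc_4_2 lc_a_rc_3_2 lc_a_rc_4_2 lc_a_rc_6_2 lc_a_rc_4_2 lc_a_rc_6_2 lc_a_rc_0_0 lc_a_rc_4_2 lc_a_rc_2_2 lc_a_rc_0_0 lc_a_rc_4_2 lc_a_rc_3_2 lc_a_rc_4_2 lc_a_Cert_tree lc_a_rc_0_1 lc_a_rc_0_1 lc_a_rc_0_0 lc_a_rc_4_2 lc_a_rc_2_2 lc_a_Cert_tree lc_a_rc_2_2 lc_a_rc_0_0 lc_a_rc_4_2 lc_a_Cert_tree lc_a_rc_2_2 lc_a_rc_0_0 lc_a_rc_4_2 lc_a_rc_3_2 lc_a_rc_4_2 lc_a_rc_0_0 lc_a_rc_4_2 lc_a_rc_3_2 lc_a_rc_0_0 lc_a_rc_4_2 lc_a_rc_0_0 lc_a_rc_0_0 lc_a_rc_4_2 lc_a_rc_3_2 lc_a_rc_4_2) (@D3.rec (fun _ => (Cert rels S Gen.a)) lc_a_rc_3_2 lc_a_rc_0_0 lc_a_rc_4_2 lc_a_rc_3_2 lc_a_rc_2_2 lc_a_rc_4_2 lc_a_rc_6_2 lc_a_rc_4_2 lc_a_rc_3_2 lc_a_rc_5_2 lc_a_rc_0_0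 lc_a_rc_4_2 lc_a_rc_4_2 lc_a_Cert_tree lc_a_rc_2_2 lc_a_rc_0_0 lc_a_rc_4_2 lc_a_rc_3_2 lc_a_rc_0_0 lc_a_rc_4_2 lc_a_rc_2_2 lc_a_rc_7_2 lc_a_rc_4_2 lc_a_rc_6_2 lc_a_rc_2_2 lc_a_rc_4_2 lc_a_rc_6_2 lc_a_rc_7_2 lc_a_rc_0_0 lc_a_rc_4_2 lc_a_rc_0_0 lc_a_rc_4_2 lc_a_rc_3_2 lc_a_rc_0_0 lc_a_rc_4_2 lc_a_rc_4_2 lc_a_rc_0_0 lc_a_rc_4_2 lc_a_rc_0_0 lc_a_rc_4_2 lc_a_rc_56_21 lc_a_rc_0_0 lc_a_rc_4_2 lc_a_rc_3_2 lc_a_rc_4_2 lc_a_rc_3_2 lc_a_rc_4_2 lc_a_rc_6_2 lc_a_rc_6_2 lc_a_rc_0_0 lc_a_rc_4_2) (@D3.rec (fun _ => (Cert rels S Gen.a)) lc_a_rc_4_2 lc_a_rc_4_2 lc_a_rc_6_2 lc_a_Cert_tree lc_a_rc_5_2 lc_a_rc_5_2 lc_a_rc_0_0 lc_a_rc_4_2 lc_a_rc_3_2 lc_a_rc_2_2 lc_a_rc_4_2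 lc_a_rc_6_2 lc_a_Cert_tree lc_a_rc_6_0 lc_a_rc_4_2 lc_a_rc_0_0 lc_a_rc_4_2 lc_a_rc_3_2 lc_a_rc_2_2 lc_a_rc_0_0 lc_a_rc_4_2 lc_a_rc_3_0 lc_a_rc_4_2 lc_a_rc_6_2 lc_a_rc_4_2 lc_a_rc_6_2 lc_a_rc_6_2 lc_a_rc_7_2 lc_a_rc_0_0 lc_a_rc_4_2 lc_a_rc_3_2 lc_a_rc_4_2 lc_a_rc_6_2 lc_a_rc_4_2 lc_a_rc_0_0 lc_a_rc_4_2 lc_a_rc_3_2 lc_a_rc_4_2 lc_a_rc_3_2 lc_a_rc_6_2 lc_a_rc_4_2 lc_a_rc_4_2 lc_a_rc_4_2 lc_a_rc_4_2 lc_a_rc_4_2 lc_a_rc_6_2 lc_a_rc_4_2 lc_a_rc_7_2 lc_a_rc_0_0 lc_a_rc_4_2 lc_a_rc_0_0)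
def ce_a_21 : D2 → D3 → (Cert rels S Gen.a) := @D2.rec (fun _ => D3 → (Cert rels S Gen.a)) (@D3.rec (fun _ => (Cert rels S Gen.a)) lc_a_rc_4_2 lc_a_rc_3_2 lc_a_rc_0_0 lc_a_rc_4_2 lc_a_rc_3_2 lc_a_rc_4_2 lc_a_rc_3_2 lc_a_rc_0_0 lc_a_rc_4_2 lc_a_rc_0_0 lc_a_rc_4_2 lc_a_rc_3_2 lc_a_rc_4_2 lc_a_rc_0_0 lc_a_rc_4_2 lc_a_rc_3_2 lc_a_rc_4_2 lc_a_rc_4_2 lc_a_rc_3_2 lc_a_rc_4_2 lc_a_rc_4_2 lc_a_rc_3_2 lc_a_rc_0_0 lc_a_rc_4_2 lc_a_rc_0_0 lc_a_rc_4_2 lc_a_rc_4_2 lc_a_rc_3_2 lc_a_rc_0_0 lc_a_rc_4_2 lc_a_rc_4_2 lc_a_rc_0_0 lc_a_rc_4_2 lc_a_rc_4_2 lc_a_rc_4_2 lc_a_rc_3_2 lc_a_rc_0_0 lc_a_rc_4_2 lc_a_rc_0_0 lc_a_rc_4_2 lc_a_rc_3_2 lc_a_rc_4_2 lc_a_rc_3_2 lc_a_rc_5_2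 lc_a_Cert_tree lc_a_rc_2_2 lc_a_rc_9_2 lc_a_rc_0_0 lc_a_rc_4_2 lc_a_rc_3_2 lc_a_rc_0_0) (@D3.rec (fun _ => (Cert rels S Gen.a)) lc_a_rc_4_2 lc_a_rc_3_2 lc_a_rc_4_2 lc_a_rc_3_2 lc_a_rc_0_0 lc_a_rc_4_2 lc_a_rc_4_2 lc_a_rc_4_2 lc_a_rc_3_2 lc_a_rc_4_2 lc_a_rc_3_2 lc_a_rc_3_2 lc_a_rc_2_2 lc_a_rc_5_2 lc_a_rc_4_2 lc_a_rc_3_2 lc_a_rc_6_2 lc_a_rc_7_2 lc_a_rc_7_2 lc_a_rc_4_2 lc_a_rc_3_2 lc_a_rc_5_2 lc_a_rc_9_2 lc_a_rc_0_0 lc_a_rc_4_2 lc_a_rc_4_2 lc_a_rc_4_2 lc_a_rc_3_2 lc_a_rc_0_0 lc_a_rc_4_2 lc_a_rc_0_0 lc_a_rc_0_0 lc_a_rc_4_2 lc_a_rc_3_2 lc_a_rc_2_2 lc_a_rc_9_2 lc_a_rc_4_2 lc_a_rc_0_0 lc_a_rc_4_2 lc_a_rc_3_2 lc_a_rc_2_2 lc_a_rc_5_2 lc_a_rc_2_2 lc_a_Cert_tree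 lc_a_rc_2_2 lc_a_rc_0_0 lc_a_Cert_tree lc_a_rc_2_2 lc_a_rc_4_2 lc_a_rc_2_0 lc_a_rc_6_2) (@D3.rec (fun _ => (Cert rels S Gen.a)) lc_a_rc_3_0 lc_a_Cert_tree lc_a_rc_7_2 lc_a_rc_6_2 lc_a_Cert_tree lc_a_rc_4_2 lc_a_rc_6_2 lc_a_rc_0_0 lc_a_rc_4_2 lc_a_rc_2_2 lc_a_rc_7_2 lc_a_rc_0_0 lc_a_rc_4_2 lc_a_rc_3_2 lc_a_rc_0_0 lc_a_Cert_tree lc_a_rc_2_2 lc_a_rc_9_0 lc_a_rc_0_0 lc_a_rc_4_2 lc_a_rc_3_2 lc_a_rc_3_2 lc_a_Cert_tree lc_a_rc_2_2 lc_a_rc_6_2 lc_a_rc_0_0 lc_a_rc_4_2 lc_a_rc_2_2 lc_a_Cert_tree lc_a_rc_2_2 lc_a_rc_9_2 lc_a_rc_0_0 lc_a_rc_4_2 lc_a_rc_3_2 lc_a_rc_5_2 lc_a_rc_4_2 lc_a_rc_6_2 lc_a_rc_4_2 lc_a_rc_3_2 lc_a_rc_2_2 lc_a_rc_3_2 lc_a_rc_4_0 lc_a_rc_9_2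 lc_a_rc_0_0 lc_a_rc_4_2 lc_a_rc_2_2 lc_a_rc_2_2 lc_a_rc_1_0 lc_a_rc_4_2 lc_a_rc_6_2 lc_a_rc_3_2) (@D3.rec (fun _ => (Cert rels S Gen.a)) lc_a_rc_0_0 lc_a_rc_4_2 lc_a_rc_2_2 lc_a_rc_0_0 lc_a_rc_4_2 lc_a_rc_3_2 lc_a_Cert_tree lc_a_rc_2_2 lc_a_rc_0_0 lc_a_rc_4_2 lc_a_rc_4_2 lc_a_Cert_tree lc_a_rc_2_2 lc_a_rc_9_2 lc_a_rc_0_0 lc_a_rc_4_2 lc_a_rc_3_2 lc_a_rc_2_2 lc_a_rc_0_0 lc_a_rc_4_2 lc_a_rc_9_2 lc_a_rc_5_0 lc_a_rc_4_2 lc_a_rc_6_2 lc_a_rc_2_2 lc_a_rc_4_2 lc_a_rc_3_2 lc_a_rc_6_2 lc_a_rc_2_2 lc_a_rc_6_2 lc_a_rc_7_2 lc_a_rc_3_2 lc_a_rc_5_2 lc_a_rc_2_2 lc_a_rc_9_2 lc_a_rc_0_0 lc_a_Cert_tree lc_a_Cert_tree lc_a_rc_2_2 lc_a_rc_0_0 lc_a_rc_0_0 lc_a_rc_4_2 lc_a_rc_0_0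 lc_a_rc_4_2 lc_a_rc_3_2 lc_a_rc_4_2 lc_a_rc_4_2 lc_a_rc_0_0 lc_a_rc_4_2 lc_a_rc_3_2 lc_a_rc_0_0) (@D3.rec (fun _ => (Cert rels S Gen.a)) lc_a_rc_4_2 lc_a_rc_3_2 lc_a_rc_4_2 lc_a_rc_4_2 lc_a_rc_0_0 lc_a_rc_4_2 lc_a_rc_3_2 lc_a_rc_0_0 lc_a_rc_4_2 lc_a_rc_4_2 lc_a_Cert_tree lc_a_rc_2_2 lc_a_rc_1_4 lc_a_Cert_tree lc_a_rc_2_2 lc_a_rc_6_2 lc_a_Cert_tree lc_a_rc_2_2 lc_a_rc_6_2 lc_a_rc_0_0 lc_a_rc_4_2 lc_a_rc_2_2 lc_a_rc_7_2 lc_a_Cert_tree lc_a_rc_2_2 lc_a_rc_6_2 lc_a_rc_0_0 lc_a_rc_4_2 lc_a_rc_3_2 lc_a_Cert_tree lc_a_rc_2_2 lc_a_rc_0_0 lc_a_rc_4_2 lc_a_rc_3_2 lc_a_rc_2_2 lc_a_rc_9_2 lc_a_rc_0_0 lc_a_rc_4_2 lc_a_rc_3_2 lc_a_rc_2_2 lc_a_rc_0_0 lc_a_rc_4_2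 lc_a_rc_3_2 lc_a_rc_2_2 lc_a_rc_4_2 lc_a_rc_6_2 lc_a_rc_2_2 lc_a_rc_4_2 lc_a_rc_3_2 lc_a_rc_3_2 lc_a_Cert_tree) (@D3.rec (fun _ => (Cert rels S Gen.a)) lc_a_rc_2_2 lc_a_rc_6_2 lc_a_rc_0_0 lc_a_rc_4_2 lc_a_rc_3_2 lc_a_rc_0_0 lc_a_rc_4_2 lc_a_rc_0_0 lc_a_rc_4_2 lc_a_rc_3_2 lc_a_rc_4_2 lc_a_rc_6_2 lc_a_rc_0_0 lc_a_rc_4_2 lc_a_rc_2_2 lc_a_rc_4_2 lc_a_rc_3_2 lc_a_rc_2_2 lc_a_rc_0_0 lc_a_rc_4_2 lc_a_rc_3_2 lc_a_rc_4_2 lc_a_rc_0_0 lc_a_rc_0_0 lc_a_rc_4_2 lc_a_rc_3_2 lc_a_rc_4_2 lc_a_rc_3_2 lc_a_rc_6_2 lc_a_rc_3_2 lc_a_rc_6_2 lc_a_rc_0_0 lc_a_rc_4_2 lc_a_rc_4_2 lc_a_rc_3_2 lc_a_rc_5_2 lc_a_rc_2_2 lc_a_Cert_tree lc_a_rc_2_2 lc_a_rc_0_0 lc_a_rc_4_2 lc_a_rc_3_2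 lc_a_rc_2_2 lc_a_rc_4_2 lc_a_rc_3_2 lc_a_rc_5_2 lc_a_rc_0_0 lc_a_rc_4_2 lc_a_rc_4_2 lc_a_rc_6_2 lc_a_rc_6_2) (@D3.rec (fun _ => (Cert rels S Gen.a)) lc_a_rc_7_2 lc_a_rc_0_0 lc_a_rc_4_2 lc_a_rc_4_2 lc_a_rc_6_2 lc_a_rc_3_2 lc_a_rc_2_2 lc_a_rc_0_0 lc_a_rc_4_2 lc_a_rc_0_0 lc_a_rc_4_2 lc_a_rc_4_2 lc_a_rc_6_2 lc_a_rc_4_2 lc_a_rc_6_2 lc_a_rc_7_2 lc_a_rc_0_0 lc_a_rc_7_2 lc_a_rc_4_2 lc_a_rc_2_2 lc_a_rc_5_2 lc_a_rc_9_2 lc_a_rc_0_0 lc_a_rc_0_0 lc_a_rc_0_0 lc_a_rc_4_2 lc_a_rc_0_0 lc_a_rc_4_2 lc_a_rc_0_0 lc_a_rc_4_2 lc_a_rc_4_2 lc_a_Cert_tree lc_a_rc_5_2 lc_a_rc_5_2 lc_a_Cert_tree lc_a_rc_6_0 lc_a_rc_4_2 lc_a_rc_0_0 lc_a_rc_4_2 lc_a_rc_3_2 lc_a_rc_0_0 lc_a_rc_4_2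 lc_a_rc_3_2 lc_a_rc_0_0 lc_a_rc_4_2 lc_a_rc_0_0 lc_a_rc_4_2 lc_a_rc_3_2 lc_a_rc_4_2 lc_a_rc_4_2 lc_a_rc_6_2) (@D3.rec (fun _ => (Cert rels S Gen.a)) lc_a_rc_0_0 lc_a_rc_4_2 lc_a_rc_4_2 lc_a_rc_3_2 lc_a_rc_4_2 lc_a_rc_4_2 lc_a_rc_6_2 lc_a_rc_4_2 lc_a_rc_3_2 lc_a_Cert_tree lc_a_rc_0_0 lc_a_rc_0_0 lc_a_rc_4_2 lc_a_rc_4_2 lc_a_rc_0_0 lc_a_Cert_tree lc_a_rc_2_2 lc_a_rc_6_2 lc_a_Cert_tree lc_a_rc_2_2 lc_a_rc_6_2 lc_a_rc_0_0 lc_a_rc_4_2 lc_a_rc_2_2 lc_a_rc_7_2 lc_a_rc_0_0 lc_a_rc_4_2 lc_a_rc_3_2 lc_a_rc_0_0 lc_a_rc_0_0 lc_a_rc_4_2 lc_a_rc_0_0 lc_a_rc_4_2 lc_a_rc_3_2 lc_a_rc_2_2 lc_a_rc_0_0 lc_a_rc_4_2 lc_a_rc_6_2 lc_a_rc_4_2 lc_a_rc_3_2 lc_a_rc_2_2 lc_a_rc_9_2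 lc_a_rc_0_0 lc_a_rc_4_2 lc_a_rc_3_2 lc_a_rc_6_2 lc_a_rc_4_2 lc_a_rc_3_2 lc_a_rc_6_2 lc_a_rc_5_2 lc_a_rc_6_2) (@D3.rec (fun _ => (Cert rels S Gen.a)) lc_a_rc_3_2 lc_a_rc_5_2 lc_a_rc_9_2 lc_a_rc_9_2 lc_a_Cert_tree lc_a_Cert_tree lc_a_rc_4_2 lc_a_rc_0_0 lc_a_rc_0_0 lc_a_rc_4_2 lc_a_rc_5_0 lc_a_rc_0_0 lc_a_rc_4_2 lc_a_rc_2_2 lc_a_rc_2_2 lc_a_rc_5_0 lc_a_rc_5_0 lc_a_rc_4_2 lc_a_Cert_tree lc_a_rc_0_0 lc_a_rc_4_2 lc_a_rc_3_2 lc_a_rc_2_2 lc_a_rc_7_2 lc_a_rc_0_0 lc_a_rc_4_2 lc_a_rc_3_2 lc_a_rc_2_2 lc_a_rc_7_2 lc_a_rc_4_2 lc_a_rc_6_2 lc_a_rc_2_2 lc_a_rc_8_2 lc_a_rc_4_2 lc_a_rc_3_2 lc_a_rc_3_2 lc_a_Cert_tree lc_a_rc_2_2 lc_a_rc_0_0 lc_a_rc_4_2 lc_a_rc_3_2 lc_a_rc_4_2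 lc_a_rc_4_2 lc_a_rc_0_0 lc_a_rc_4_2 lc_a_rc_3_2 lc_a_rc_2_2 lc_a_rc_4_2 lc_a_rc_6_2 lc_a_rc_0_0 lc_a_rc_4_2) (@D3.rec (fun _ => (Cert rels S Gen.a)) lc_a_rc_3_2 lc_a_rc_2_2 lc_a_rc_4_2 lc_a_rc_3_2 lc_a_rc_6_2 lc_a_rc_3_2 lc_a_rc_4_2 lc_a_rc_6_2 lc_a_rc_4_2 lc_a_rc_3_2 lc_a_rc_5_2 lc_a_rc_2_2 lc_a_rc_4_2 lc_a_Cert_tree lc_a_rc_2_2 lc_a_rc_0_0 lc_a_rc_4_2 lc_a_rc_3_2 lc_a_rc_0_0 lc_a_rc_4_2 lc_a_rc_4_2 lc_a_rc_4_2 lc_a_rc_0_0 lc_a_rc_0_0 lc_a_rc_4_2 lc_a_rc_3_2 lc_a_rc_2_2 lc_a_rc_0_0 lc_a_rc_4_2 lc_a_rc_2_2 lc_a_rc_4_2 lc_a_rc_6_2 lc_a_rc_4_2 lc_a_rc_6_2 lc_a_rc_6_2 lc_a_rc_0_0 lc_a_rc_4_2 lc_a_rc_3_2 lc_a_rc_2_2 lc_a_rc_4_2 lc_a_rc_3_2 lc_a_rc_6_2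 lc_a_rc_3_2 lc_a_rc_3_2 lc_a_rc_4_2 lc_a_rc_3_2 lc_a_rc_6_2 lc_a_rc_3_2 lc_a_rc_2_2 lc_a_rc_3_2 lc_a_rc_6_2) (@D3.rec (fun _ => (Cert rels S Gen.a)) lc_a_rc_3_2 lc_a_rc_7_2 lc_a_rc_6_0 lc_a_rc_3_2 lc_a_rc_4_2 lc_a_rc_3_2 lc_a_rc_6_2 lc_a_rc_5_2 lc_a_rc_9_2 lc_a_rc_7_2 lc_a_rc_5_2 lc_a_rc_9_2 lc_a_rc_2_0 lc_a_rc_4_2 lc_a_rc_0_0 lc_a_rc_4_2 lc_a_rc_3_2 lc_a_rc_4_2 lc_a_rc_6_2 lc_a_rc_4_2 lc_a_rc_3_2 lc_a_rc_0_0 lc_a_rc_4_2 lc_a_rc_3_2 lc_a_rc_4_2 lc_a_rc_4_2 lc_a_rc_3_2 lc_a_rc_4_2 lc_a_rc_5_2 lc_a_rc_9_2 lc_a_rc_4_2 lc_a_rc_4_2 lc_a_rc_3_2 lc_a_rc_0_0 lc_a_rc_4_2 lc_a_rc_3_2 lc_a_rc_0_0 lc_a_rc_4_2 lc_a_rc_3_2 lc_a_rc_2_2 lc_a_rc_7_2 lc_a_rc_4_2 lc_a_rc_6_2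 lc_a_rc_2_2 lc_a_rc_4_2 lc_a_rc_3_2 lc_a_rc_3_2 lc_a_rc_0_0 lc_a_rc_4_2 lc_a_rc_3_2 lc_a_rc_0_0) (@D3.rec (fun _ => (Cert rels S Gen.a)) lc_a_rc_4_2 lc_a_rc_2_2 lc_a_rc_2_2 lc_a_rc_4_2 lc_a_rc_3_2 lc_a_rc_2_2 lc_a_rc_3_2 lc_a_rc_5_2 lc_a_rc_5_2 lc_a_rc_0_0 lc_a_rc_4_2 lc_a_rc_3_2 lc_a_rc_4_2 lc_a_rc_3_2 lc_a_rc_0_0 lc_a_rc_4_2 lc_a_rc_3_2 lc_a_rc_0_0 lc_a_rc_4_2 lc_a_rc_3_2 lc_a_rc_4_2 lc_a_rc_3_2 lc_a_rc_4_2 lc_a_rc_3_2 lc_a_rc_6_2 lc_a_rc_3_2 lc_a_rc_0_0 lc_a_rc_0_0 lc_a_rc_4_2 lc_a_rc_3_2 lc_a_rc_4_2 lc_a_rc_3_2 lc_a_rc_5_2 lc_a_rc_3_2 lc_a_rc_5_2 lc_a_rc_5_2 lc_a_rc_9_2 lc_a_rc_0_0 lc_a_rc_0_0 lc_a_rc_4_2 lc_a_rc_3_2 lc_a_rc_0_0 lc_a_rc_4_2 lc_a_rc_3_2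 lc_a_rc_4_2 lc_a_rc_3_2 lc_a_rc_3_2 lc_a_rc_0_0 lc_a_rc_4_2 lc_a_rc_3_2 lc_a_rc_2_2) (@D3.rec (fun _ => (Cert rels S Gen.a)) lc_a_rc_7_2 lc_a_rc_3_2 lc_a_rc_0_0 lc_a_rc_0_0 lc_a_rc_4_2 lc_a_rc_3_2 lc_a_rc_2_2 lc_a_rc_4_2 lc_a_rc_3_2 lc_a_rc_6_2 lc_a_rc_3_2 lc_a_rc_5_2 lc_a_rc_5_2 lc_a_rc_0_0 lc_a_rc_4_2 lc_a_rc_0_0 lc_a_rc_0_0 lc_a_rc_4_2 lc_a_rc_4_2 lc_a_rc_6_2 lc_a_rc_6_2 lc_a_rc_4_2 lc_a_rc_3_2 lc_a_rc_6_2 lc_a_rc_3_2 lc_a_rc_4_2 lc_a_rc_2_2 lc_a_rc_6_2 lc_a_rc_7_2 lc_a_rc_4_2 lc_a_rc_3_2 lc_a_rc_3_2 lc_a_rc_3_2 lc_a_rc_2_2 lc_a_rc_5_2 lc_a_rc_3_2 lc_a_rc_0_0 lc_a_rc_4_2 lc_a_rc_3_2 lc_a_rc_4_2 lc_a_rc_3_2 lc_a_rc_4_2 lc_a_rc_0_0 lc_a_rc_0_0 lc_a_rc_4_2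 lc_a_rc_2_2 lc_a_rc_4_2 lc_a_rc_3_2 lc_a_rc_6_2 lc_a_rc_2_2 lc_a_rc_3_2) (@D3.rec (fun _ => (Cert rels S Gen.a)) lc_a_rc_2_2 lc_a_rc_5_2 lc_a_rc_2_2 lc_a_rc_0_0 lc_a_rc_4_2 lc_a_rc_3_2 lc_a_rc_2_2 lc_a_rc_3_2 lc_a_rc_5_2 lc_a_rc_2_2 lc_a_rc_2_2 lc_a_rc_5_2 lc_a_rc_2_2 lc_a_rc_9_2 lc_a_rc_1_0 lc_a_rc_7_2 lc_a_rc_3_2 lc_a_rc_2_2 lc_a_rc_0_0 lc_a_rc_4_2 lc_a_rc_3_2 lc_a_rc_4_2 lc_a_rc_3_2 lc_a_rc_6_2 lc_a_rc_6_2 lc_a_rc_4_2 lc_a_rc_3_2 lc_a_rc_3_2 lc_a_rc_2_2 lc_a_rc_5_2 lc_a_rc_4_2 lc_a_rc_0_0 lc_a_rc_4_2 lc_a_rc_5_0 lc_a_rc_0_0 lc_a_rc_4_2 lc_a_rc_3_2 lc_a_rc_3_2 lc_a_rc_0_0 lc_a_rc_4_2 lc_a_rc_4_0 lc_a_rc_4_2 lc_a_rc_3_2 lc_a_rc_6_2 lc_a_rc_2_2 lc_a_rc_7_2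 lc_a_rc_3_2 lc_a_rc_5_2 lc_a_rc_2_2 lc_a_rc_4_2 lc_a_rc_3_2) (@D3.rec (fun _ => (Cert rels S Gen.a)) lc_a_rc_3_2 lc_a_rc_6_2 lc_a_rc_2_2 lc_a_rc_5_2 lc_a_rc_2_2 lc_a_rc_2_2 lc_a_rc_5_2 lc_a_rc_2_2 lc_a_rc_9_2 lc_a_rc_0_0 lc_a_rc_4_2 lc_a_rc_3_2 lc_a_rc_0_0 lc_a_rc_4_2 lc_a_rc_3_2 lc_a_rc_2_2 lc_a_rc_0_0 lc_a_rc_4_2 lc_a_rc_3_2 lc_a_rc_2_2 lc_a_rc_4_2 lc_a_rc_3_2 lc_a_rc_6_2 lc_a_rc_3_2 lc_a_rc_4_2 lc_a_rc_3_2 lc_a_rc_5_2 lc_a_rc_3_2 lc_a_rc_6_2 lc_a_rc_2_2 lc_a_rc_3_2 lc_a_rc_5_2 lc_a_rc_3_2 lc_a_rc_3_2 lc_a_rc_3_2 lc_a_rc_3_2 lc_a_rc_4_2 lc_a_rc_4_2 lc_a_rc_6_2 lc_a_rc_6_2 lc_a_rc_5_2 lc_a_rc_9_2 lc_a_rc_3_2 lc_a_rc_5_2 lc_a_rc_9_2 lc_a_rc_1_2 lc_a_rc_2_2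 lc_a_rc_9_2 lc_a_rc_3_2 lc_a_rc_7_2 lc_a_rc_7_2) (@D3.rec (fun _ => (Cert rels S Gen.a)) lc_a_rc_2_2 lc_a_rc_1_2 lc_a_rc_2_2 lc_a_rc_1_2 lc_a_rc_3_2 lc_a_rc_4_2 lc_a_rc_4_2 lc_a_rc_4_2 lc_a_rc_3_2 lc_a_rc_4_2 lc_a_rc_4_2 lc_a_rc_4_2 lc_a_rc_3_2 lc_a_rc_0_0 lc_a_rc_4_2 lc_a_rc_4_2 lc_a_rc_6_2 lc_a_rc_4_2 lc_a_rc_3_2 lc_a_rc_5_2 lc_a_rc_4_2 lc_a_rc_6_2 lc_a_rc_0_0 lc_a_rc_4_2 lc_a_rc_3_2 lc_a_rc_4_2 lc_a_rc_6_2 lc_a_rc_2_2 lc_a_rc_4_2 lc_a_rc_6_2 lc_a_rc_7_2 lc_a_rc_4_2 lc_a_rc_3_2 lc_a_rc_6_2 lc_a_rc_6_2 lc_a_rc_4_2 lc_a_rc_3_2 lc_a_rc_6_2 lc_a_rc_4_2 lc_a_rc_3_2 lc_a_rc_4_2 lc_a_rc_3_2 lc_a_rc_0_0 lc_a_rc_4_2 lc_a_rc_3_2 lc_a_rc_2_2 lc_a_rc_4_2 lc_a_rc_6_2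 lc_a_rc_0_0 lc_a_rc_4_2 lc_a_rc_3_2) (@D3.rec (fun _ => (Cert rels S Gen.a)) lc_a_rc_4_2 lc_a_rc_0_0 lc_a_rc_4_2 lc_a_rc_3_2 lc_a_rc_4_2 lc_a_rc_3_2 lc_a_rc_4_2 lc_a_rc_3_2 lc_a_rc_4_2 lc_a_rc_3_2 lc_a_rc_3_2 lc_a_rc_2_2 lc_a_rc_4_2 lc_a_rc_3_2 lc_a_rc_6_2 lc_a_rc_6_2 lc_a_rc_3_2 lc_a_rc_2_2 lc_a_rc_5_2 lc_a_rc_9_2 lc_a_rc_4_2 lc_a_rc_0_0 lc_a_rc_4_2 lc_a_rc_3_2 lc_a_rc_4_2 lc_a_rc_3_2 lc_a_rc_4_2 lc_a_rc_6_2 lc_a_rc_2_2 lc_a_rc_6_2 lc_a_rc_7_2 lc_a_rc_7_2 lc_a_rc_4_2 lc_a_rc_4_2 lc_a_rc_3_2 lc_a_rc_4_2 lc_a_rc_4_2 lc_a_rc_3_2 lc_a_rc_4_2 lc_a_rc_3_2 lc_a_rc_3_2 lc_a_rc_2_2 lc_a_rc_6_2 lc_a_rc_4_2 lc_a_rc_6_2 lc_a_rc_0_0 lc_a_rc_4_2 lc_a_rc_3_2 lc_a_rc_5_2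 lc_a_rc_4_2 lc_a_rc_3_2) (@D3.rec (fun _ => (Cert rels S Gen.a)) lc_a_rc_6_2 lc_a_rc_6_2 lc_a_rc_0_0 lc_a_rc_4_2 lc_a_rc_3_2 lc_a_rc_4_2 lc_a_rc_4_2 lc_a_rc_3_2 lc_a_rc_6_2 lc_a_rc_4_2 lc_a_rc_6_2 lc_a_rc_6_2 lc_a_rc_6_2 lc_a_rc_7_2 lc_a_rc_4_2 lc_a_rc_3_2 lc_a_rc_4_2 lc_a_rc_3_2 lc_a_rc_3_2 lc_a_rc_2_2 lc_a_rc_4_2 lc_a_rc_4_2 lc_a_rc_3_2 lc_a_rc_4_2 lc_a_rc_3_2 lc_a_rc_3_2 lc_a_rc_2_2 lc_a_rc_4_2 lc_a_rc_4_2 lc_a_rc_3_2 lc_a_rc_4_2 lc_a_rc_3_2 lc_a_rc_3_2 lc_a_rc_2_2 lc_a_rc_3_2 lc_a_rc_2_2 lc_a_rc_4_2 lc_a_rc_4_2 lc_a_rc_3_2 lc_a_rc_4_2 lc_a_rc_4_2 lc_a_rc_3_2 lc_a_rc_3_2 lc_a_rc_2_2 lc_a_rc_4_2 lc_a_rc_4_2 lc_a_rc_3_2 lc_a_rc_5_2 lc_a_rc_3_2 lc_a_rc_5_2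 lc_a_rc_9_2) (@D3.rec (fun _ => (Cert rels S Gen.a)) lc_a_rc_0_0 lc_a_rc_4_2 lc_a_rc_3_2 lc_a_rc_4_2 lc_a_rc_3_2 lc_a_rc_4_2 lc_a_rc_3_2 lc_a_rc_3_2 lc_a_rc_2_2 lc_a_rc_4_2 lc_a_rc_3_2 lc_a_rc_2_2 lc_a_rc_3_2 lc_a_rc_2_2 lc_a_rc_2_2 lc_a_rc_5_2 lc_a_rc_2_2 lc_a_rc_3_2 lc_a_rc_7_2 lc_a_rc_5_2 lc_a_rc_9_2 lc_a_rc_4_2 lc_a_rc_4_2 lc_a_rc_3_2 lc_a_rc_5_2 lc_a_rc_2_2 lc_a_rc_2_2 lc_a_rc_5_2 lc_a_rc_9_2 lc_a_rc_0_0 lc_a_rc_4_2 lc_a_rc_3_2 lc_a_rc_0_0 lc_a_rc_4_2 lc_a_rc_3_2 lc_a_rc_4_2 lc_a_rc_5_0 lc_a_rc_5_0 lc_a_rc_0_0 lc_a_rc_4_2 lc_a_rc_3_2 lc_a_rc_2_2 lc_a_rc_0_0 lc_a_rc_0_0 lc_a_rc_4_2 lc_a_rc_4_2 lc_a_rc_6_2 lc_a_rc_6_2 lc_a_rc_4_2 lc_a_rc_6_2 lc_a_rc_2_2)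 (@D3.rec (fun _ => (Cert rels S Gen.a)) lc_a_rc_4_2 lc_a_rc_3_2 lc_a_rc_3_2 lc_a_rc_0_0 lc_a_rc_4_2 lc_a_rc_3_2 lc_a_rc_2_2 lc_a_rc_0_0 lc_a_rc_4_2 lc_a_rc_6_2 lc_a_rc_3_2 lc_a_rc_0_0 lc_a_rc_4_2 lc_a_rc_2_2 lc_a_rc_2_2 lc_a_rc_4_2 lc_a_rc_3_2 lc_a_rc_2_2 lc_a_rc_0_0 lc_a_rc_4_2 lc_a_rc_3_2 lc_a_rc_9_2 lc_a_rc_4_2 lc_a_rc_3_2 lc_a_rc_6_2 lc_a_rc_5_2 lc_a_rc_6_2 lc_a_rc_3_2 lc_a_rc_5_2 lc_a_rc_2_2 lc_a_rc_5_2 lc_a_rc_4_2 lc_a_rc_3_2 lc_a_rc_6_2 lc_a_rc_2_2 lc_a_rc_6_2 lc_a_rc_7_2 lc_a_rc_4_2 lc_a_rc_3_2 lc_a_rc_6_2 lc_a_rc_3_2 lc_a_rc_0_0 lc_a_rc_4_2 lc_a_rc_4_2 lc_a_rc_0_0 lc_a_rc_4_2 lc_a_rc_3_2 lc_a_rc_2_2 lc_a_rc_4_2 lc_a_rc_3_2 lc_a_rc_6_2) (@D3.rec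 (fun _ => (Cert rels S Gen.a)) lc_a_rc_3_2 lc_a_rc_3_2 lc_a_rc_4_2 lc_a_rc_6_2 lc_a_rc_2_2 lc_a_rc_6_2 lc_a_rc_7_2 lc_a_rc_3_2 lc_a_rc_6_2 lc_a_rc_5_2 lc_a_rc_2_2 lc_a_rc_7_2 lc_a_rc_5_2 lc_a_rc_9_2 lc_a_rc_0_0 lc_a_rc_0_0 lc_a_rc_4_2 lc_a_rc_3_2 lc_a_rc_4_2 lc_a_rc_4_2 lc_a_rc_3_2 lc_a_rc_4_2 lc_a_rc_3_2 lc_a_rc_4_2 lc_a_rc_3_2 lc_a_rc_4_2 lc_a_rc_3_2 lc_a_rc_5_2 lc_a_rc_4_2 lc_a_rc_0_0 lc_a_rc_4_2 lc_a_rc_2_2 lc_a_rc_0_0 lc_a_rc_4_2 lc_a_rc_3_2 lc_a_rc_2_2 lc_a_rc_7_2 lc_a_rc_0_0 lc_a_rc_4_2 lc_a_rc_3_2 lc_a_rc_2_2 lc_a_rc_7_2 lc_a_rc_4_2 lc_a_rc_6_2 lc_a_rc_2_2 lc_a_rc_0_0 lc_a_rc_4_2 lc_a_rc_3_2 lc_a_rc_2_2 lc_a_rc_4_2 lc_a_rc_3_2) (@D3.rec (fun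 _ => (Cert rels S Gen.a)) lc_a_rc_3_2 lc_a_rc_0_0 lc_a_rc_4_2 lc_a_rc_4_2 lc_a_rc_3_2 lc_a_rc_6_2 lc_a_rc_2_2 lc_a_rc_4_2 lc_a_rc_3_2 lc_a_rc_6_2 lc_a_rc_3_2 lc_a_rc_4_2 lc_a_rc_3_2 lc_a_rc_6_2 lc_a_rc_3_2 lc_a_rc_3_2 lc_a_rc_6_2 lc_a_rc_7_2 lc_a_rc_3_2 lc_a_rc_2_2 lc_a_rc_5_2 lc_a_rc_3_2 lc_a_rc_0_0 lc_a_rc_4_2 lc_a_rc_3_2 lc_a_rc_2_2 lc_a_rc_4_2 lc_a_rc_3_2 lc_a_rc_4_0 lc_a_rc_4_2 lc_a_rc_4_2 lc_a_rc_3_2 lc_a_rc_6_2 lc_a_rc_4_2 lc_a_rc_6_2 lc_a_rc_3_2 lc_a_rc_5_2 lc_a_rc_4_2 lc_a_rc_3_2 lc_a_rc_4_2 lc_a_rc_3_2 lc_a_rc_3_2 lc_a_rc_6_2 lc_a_rc_2_2 lc_a_rc_3_2 lc_a_rc_3_2 lc_a_rc_4_2 lc_a_rc_5_2 lc_a_rc_9_2 lc_a_rc_0_0 lc_a_rc_4_2) (@D3.rec (fun _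 => (Cert rels S Gen.a)) lc_a_rc_3_2 lc_a_rc_4_2 lc_a_rc_3_2 lc_a_rc_6_2 lc_a_rc_3_2 lc_a_rc_3_2 lc_a_rc_3_2 lc_a_rc_2_2 lc_a_rc_5_2 lc_a_rc_9_2 lc_a_rc_4_2 lc_a_rc_6_2 lc_a_rc_7_2 lc_a_rc_4_2 lc_a_rc_6_2 lc_a_rc_2_2 lc_a_rc_4_2 lc_a_rc_7_2 lc_a_rc_9_2 lc_a_rc_4_2 lc_a_rc_4_2 lc_a_rc_0_0 lc_a_rc_4_2 lc_a_rc_3_2 lc_a_rc_5_2 lc_a_rc_0_0 lc_a_rc_4_2 lc_a_rc_3_2 lc_a_rc_4_2 lc_a_rc_4_2 lc_a_rc_6_2 lc_a_rc_4_2 lc_a_rc_3_2 lc_a_rc_4_2 lc_a_rc_4_2 lc_a_rc_3_2 lc_a_rc_6_2 lc_a_rc_4_0 lc_a_rc_6_2 lc_a_rc_4_2 lc_a_rc_3_2 lc_a_rc_0_0 lc_a_rc_4_2 lc_a_rc_0_0 lc_a_rc_4_2 lc_a_rc_3_2 lc_a_rc_2_2 lc_a_rc_7_2 lc_a_rc_0_0 lc_a_rc_4_2 lc_a_rc_3_2) (@D3.rec (fun _ =>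 (Cert rels S Gen.a)) lc_a_rc_2_2 lc_a_rc_7_2 lc_a_rc_4_2 lc_a_rc_6_2 lc_a_rc_2_2 lc_a_rc_4_2 lc_a_rc_3_2 lc_a_rc_3_2 lc_a_rc_4_2 lc_a_rc_4_2 lc_a_rc_3_2 lc_a_rc_6_2 lc_a_rc_3_2 lc_a_rc_6_2 lc_a_rc_3_2 lc_a_rc_5_2 lc_a_rc_2_2 lc_a_rc_3_2 lc_a_rc_6_2 lc_a_rc_3_2 lc_a_rc_6_2 lc_a_rc_5_2 lc_a_rc_9_2 lc_a_rc_5_2 lc_a_rc_9_2 lc_a_rc_0_0 lc_a_rc_0_0 lc_a_rc_4_2 lc_a_rc_3_2 lc_a_rc_4_2 lc_a_rc_3_2 lc_a_rc_4_2 lc_a_rc_3_2 lc_a_rc_6_2 lc_a_rc_5_0 lc_a_rc_4_2 lc_a_rc_4_0 lc_a_rc_0_0 lc_a_rc_4_2 lc_a_rc_3_2 lc_a_rc_6_2 lc_a_rc_4_0 lc_a_rc_2_2 lc_a_rc_4_2 lc_a_rc_3_2 lc_a_rc_6_2 lc_a_rc_3_2 lc_a_rc_4_2 lc_a_rc_2_2 lc_a_rc_6_2 lc_a_rc_7_2) (@D3.rec (fun _ => (Cert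 rels S Gen.a)) lc_a_rc_2_2 lc_a_rc_3_2 lc_a_rc_2_2 lc_a_rc_5_2 lc_a_rc_3_2 lc_a_rc_0_0 lc_a_rc_4_2 lc_a_rc_4_2 lc_a_rc_3_2 lc_a_rc_4_2 lc_a_rc_3_2 lc_a_rc_6_2 lc_a_rc_6_2 lc_a_rc_4_2 lc_a_rc_3_2 lc_a_rc_6_2 lc_a_rc_3_2 lc_a_rc_3_2 lc_a_rc_6_2 lc_a_rc_2_2 lc_a_rc_3_2 lc_a_rc_4_2 lc_a_rc_5_2 lc_a_rc_9_2 lc_a_rc_0_0 lc_a_rc_4_2 lc_a_rc_4_2 lc_a_rc_3_2 lc_a_rc_4_2 lc_a_rc_4_2 lc_a_rc_3_2 lc_a_rc_6_2 lc_a_rc_4_2 lc_a_rc_6_2 lc_a_rc_6_2 lc_a_rc_6_2 lc_a_rc_4_2 lc_a_rc_3_2 lc_a_rc_6_2 lc_a_rc_3_2 lc_a_rc_4_2 lc_a_rc_3_2 lc_a_rc_6_2 lc_a_rc_2_2 lc_a_rc_3_2 lc_a_rc_5_2 lc_a_rc_3_2 lc_a_rc_3_2 lc_a_rc_3_2 lc_a_rc_6_2 lc_a_rc_3_2) (@D3.rec (fun _ => (Cert rels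 S Gen.a)) lc_a_rc_7_2 lc_a_rc_3_2 lc_a_rc_7_2 lc_a_rc_4_2 lc_a_rc_3_2 lc_a_rc_0_0 lc_a_rc_5_2 lc_a_rc_9_2 lc_a_rc_9_2 lc_a_rc_4_2 lc_a_rc_3_2 lc_a_rc_6_2 lc_a_rc_3_2 lc_a_rc_2_2 lc_a_rc_4_2 lc_a_rc_3_2 lc_a_rc_3_2 lc_a_rc_2_2 lc_a_rc_9_2 lc_a_rc_3_2 lc_a_rc_2_2 lc_a_rc_4_2 lc_a_rc_3_2 lc_a_rc_3_2 lc_a_rc_4_2 lc_a_rc_3_2 lc_a_rc_6_2 lc_a_rc_3_2 lc_a_rc_4_2 lc_a_rc_2_2 lc_a_rc_6_2 lc_a_rc_7_2 lc_a_rc_3_2 lc_a_rc_2_2 lc_a_rc_5_2 lc_a_rc_4_2 lc_a_rc_3_2 lc_a_rc_4_2 lc_a_rc_3_2 lc_a_rc_6_2 lc_a_rc_2_2 lc_a_rc_3_2 lc_a_rc_5_2 lc_a_rc_5_2 lc_a_rc_4_2 lc_a_rc_3_2 lc_a_rc_3_2 lc_a_rc_2_2 lc_a_rc_4_2 lc_a_rc_3_2 lc_a_rc_4_2) (@D3.rec (fun _ => (Cert rels S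 Gen.a)) lc_a_rc_3_2 lc_a_rc_3_2 lc_a_rc_3_2 lc_a_rc_6_2 lc_a_rc_4_2 lc_a_rc_3_2 lc_a_rc_5_2 lc_a_rc_3_2 lc_a_rc_2_2 lc_a_rc_5_2 lc_a_rc_5_2 lc_a_rc_9_2 lc_a_rc_4_2 lc_a_rc_3_2 lc_a_rc_4_2 lc_a_rc_3_2 lc_a_rc_3_2 lc_a_rc_3_2 lc_a_rc_2_2 lc_a_rc_5_2 lc_a_rc_3_2 lc_a_rc_4_2 lc_a_rc_3_2 lc_a_rc_6_2 lc_a_rc_3_2 lc_a_rc_5_2 lc_a_rc_4_2 lc_a_rc_3_2 lc_a_rc_6_2 lc_a_rc_3_2 lc_a_rc_6_2 lc_a_rc_3_2 lc_a_rc_5_2 lc_a_rc_5_2 lc_a_rc_4_2 lc_a_rc_4_2 lc_a_rc_3_2 lc_a_rc_6_2 lc_a_rc_6_2 lc_a_rc_4_2 lc_a_rc_6_2 lc_a_rc_3_2 lc_a_rc_6_2 lc_a_rc_2_2 lc_a_rc_3_2 lc_a_rc_5_2 lc_a_rc_7_2 lc_a_rc_7_2 lc_a_rc_3_2 lc_a_rc_2_2 lc_a_rc_5_2)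
def ce_a_22 : D2 → D3 → (Cert rels S Gen.a) := @D2.rec (fun _ => D3 → (Cert rels S Gen.a)) (@D3.rec (fun _ => (Cert rels S Gen.a)) lc_a_rc_3_2 lc_a_rc_2_2 lc_a_rc_5_2 lc_a_rc_2_2 lc_a_rc_9_2 lc_a_rc_4_2 lc_a_rc_3_2 lc_a_rc_3_2 lc_a_rc_2_2 lc_a_rc_5_2 lc_a_rc_4_2 lc_a_rc_3_2 lc_a_rc_3_2 lc_a_rc_6_2 lc_a_rc_2_2 lc_a_rc_5_2 lc_a_rc_2_2 lc_a_rc_2_2 lc_a_rc_5_2 lc_a_rc_9_2 lc_a_rc_3_2 lc_a_rc_5_2 lc_a_rc_5_2 lc_a_rc_9_2 lc_a_rc_2_2 lc_a_rc_9_2 lc_a_rc_3_2 lc_a_rc_2_2 lc_a_rc_3_2 lc_a_rc_4_2 lc_a_rc_3_2 lc_a_rc_3_2 lc_a_rc_6_2 lc_a_rc_2_2 lc_a_rc_3_2 lc_a_rc_2_2 lc_a_rc_2_2 lc_a_rc_5_2 lc_a_rc_2_2 lc_a_rc_4_2 lc_a_rc_3_2 lc_a_rc_3_2 lc_a_rc_2_2 lc_a_rc_5_2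 lc_a_rc_3_2 lc_a_rc_4_2 lc_a_rc_6_2 lc_a_rc_3_2 lc_a_rc_6_2 lc_a_rc_3_2 lc_a_rc_5_2) (@D3.rec (fun _ => (Cert rels S Gen.a)) lc_a_rc_2_2 lc_a_rc_2_2 lc_a_rc_5_2 lc_a_rc_9_2 lc_a_rc_3_2 lc_a_rc_2_2 lc_a_rc_5_2 lc_a_rc_9_2 lc_a_rc_1_2 lc_a_rc_2_2 lc_a_rc_9_2 lc_a_rc_3_2 lc_a_rc_2_2 lc_a_rc_4_2 lc_a_rc_3_2 lc_a_rc_6_2 lc_a_rc_4_2 lc_a_rc_3_2 lc_a_rc_6_2 lc_a_rc_3_2 lc_a_rc_5_2 lc_a_rc_3_2 lc_a_rc_6_2 lc_a_rc_2_2 lc_a_rc_3_2 lc_a_rc_3_2 lc_a_rc_2_2 lc_a_rc_5_2 lc_a_rc_5_2 lc_a_rc_2_2 lc_a_rc_3_2 lc_a_rc_5_2 lc_a_rc_2_2 lc_a_rc_2_2 lc_a_rc_4_2 lc_a_rc_9_2 lc_a_rc_4_2 lc_a_rc_6_2 lc_a_rc_9_2 lc_a_rc_9_2 lc_a_rc_1_2 lc_a_rc_3_2 lc_a_rc_4_2 lc_a_rc_1_2 lc_a_rc_1_2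 lc_a_rc_1_2 lc_a_rc_3_2 lc_a_rc_2_2 lc_a_rc_3_2 lc_a_rc_2_2 lc_a_rc_4_2) (@D3.rec (fun _ => (Cert rels S Gen.a)) lc_a_rc_6_2 lc_a_rc_3_2 lc_a_rc_2_2 lc_a_rc_5_2 lc_a_rc_9_2 lc_a_rc_6_2 lc_a_rc_4_2 lc_a_rc_3_2 lc_a_rc_6_2 lc_a_rc_7_2 lc_a_rc_7_2 lc_a_rc_3_2 lc_a_rc_6_2 lc_a_rc_3_2 lc_a_rc_2_2 lc_a_rc_3_2 lc_a_rc_3_2 lc_a_rc_2_2 lc_a_rc_4_2 lc_a_rc_3_2 lc_a_rc_6_2 lc_a_rc_6_2 lc_a_rc_4_2 lc_a_rc_3_2 lc_a_rc_4_2 lc_a_rc_3_2 lc_a_rc_3_2 lc_a_rc_2_2 lc_a_rc_3_2 lc_a_rc_2_2 lc_a_rc_3_2 lc_a_rc_2_2 lc_a_rc_2_2 lc_a_rc_3_2 lc_a_rc_6_2 lc_a_rc_2_2 lc_a_rc_2_2 lc_a_rc_5_2 lc_a_rc_2_2 lc_a_rc_9_2 lc_a_rc_4_2 lc_a_rc_3_2 lc_a_rc_3_2 lc_a_rc_2_2 lc_a_rc_6_2 lc_a_rc_7_2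 lc_a_rc_7_2 lc_a_rc_3_2 lc_a_rc_2_2 lc_a_rc_3_2 lc_a_rc_2_2) (@D3.rec (fun _ => (Cert rels S Gen.a)) lc_a_rc_3_2 lc_a_rc_2_2 lc_a_rc_2_2 lc_a_rc_4_2 lc_a_rc_3_2 lc_a_rc_6_2 lc_a_rc_3_2 lc_a_rc_6_2 lc_a_rc_2_2 lc_a_rc_4_2 lc_a_rc_3_2 lc_a_rc_6_2 lc_a_rc_3_2 lc_a_rc_6_2 lc_a_rc_2_2 lc_a_rc_6_2 lc_a_rc_3_2 lc_a_rc_2_2 lc_a_rc_3_2 lc_a_rc_2_2 lc_a_rc_2_2 lc_a_rc_3_2 lc_a_rc_2_2 lc_a_rc_3_2 lc_a_rc_2_2 lc_a_rc_2_2 lc_a_rc_3_2 lc_a_rc_2_2 lc_a_rc_3_2 lc_a_rc_2_2 lc_a_rc_2_2 lc_a_rc_2_2 lc_a_rc_3_2 lc_a_rc_2_2 lc_a_rc_2_2 lc_a_rc_3_2 lc_a_rc_2_2 lc_a_rc_5_2 lc_a_rc_9_2 lc_a_rc_5_2 lc_a_rc_9_2 lc_a_rc_4_2 lc_a_rc_3_2 lc_a_rc_3_2 lc_a_rc_2_2 lc_a_rc_3_2 lc_a_rc_2_2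 lc_a_rc_2_2 lc_a_rc_2_2 lc_a_rc_2_2 lc_a_rc_1_2) (@D3.rec (fun _ => (Cert rels S Gen.a)) lc_a_rc_2_2 lc_a_rc_3_2 lc_a_rc_9_2 lc_a_rc_5_2 lc_a_rc_9_2 lc_a_rc_9_2 lc_a_rc_4_2 lc_a_rc_3_2 lc_a_rc_4_0 lc_a_rc_4_2 lc_a_rc_3_2 lc_a_rc_6_2 lc_a_rc_4_0 lc_a_rc_5_0 lc_a_rc_4_2 lc_a_rc_3_2 lc_a_rc_6_2 lc_a_rc_5_2 lc_a_rc_2_2 lc_a_rc_4_2 lc_a_rc_3_2 lc_a_rc_6_2 lc_a_rc_6_2 lc_a_rc_4_2 lc_a_rc_6_2 lc_a_rc_6_2 lc_a_rc_7_2 lc_a_rc_3_2 lc_a_rc_2_2 lc_a_rc_5_2 lc_a_rc_3_2 lc_a_rc_4_2 lc_a_rc_3_2 lc_a_rc_6_2 lc_a_rc_2_2 lc_a_rc_6_2 lc_a_rc_7_2 lc_a_rc_4_2 lc_a_rc_3_2 lc_a_rc_6_2 lc_a_rc_5_2 lc_a_rc_3_2 lc_a_rc_5_2 lc_a_rc_4_2 lc_a_rc_3_2 lc_a_rc_6_2 lc_a_rc_9_2 lc_a_rc_3_2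 lc_a_rc_6_2 lc_a_rc_2_2 lc_a_rc_3_2) (@D3.rec (fun _ => (Cert rels S Gen.a)) lc_a_rc_3_2 lc_a_rc_5_2 lc_a_rc_9_2 lc_a_rc_3_2 lc_a_rc_6_2 lc_a_rc_7_2 lc_a_rc_7_2 lc_a_rc_3_2 lc_a_rc_6_2 lc_a_rc_4_2 lc_a_rc_4_2 lc_a_rc_3_2 lc_a_rc_6_2 lc_a_rc_3_2 lc_a_rc_5_2 lc_a_rc_3_2 lc_a_rc_6_2 lc_a_rc_2_2 lc_a_rc_3_2 lc_a_rc_5_2 lc_a_rc_3_2 lc_a_rc_6_2 lc_a_rc_7_2 lc_a_rc_7_2 lc_a_rc_5_2 lc_a_rc_9_2 lc_a_rc_9_2 lc_a_rc_4_2 lc_a_rc_3_2 lc_a_rc_3_2 lc_a_rc_2_2 lc_a_rc_3_2 lc_a_rc_2_2 lc_a_rc_3_2 lc_a_rc_2_2 lc_a_rc_3_2 lc_a_rc_2_2 lc_a_rc_5_2 lc_a_rc_9_2 lc_a_rc_4_2 lc_a_rc_6_2 lc_a_rc_4_2 lc_a_rc_3_2 lc_a_rc_6_2 lc_a_rc_3_2 lc_a_rc_2_2 lc_a_rc_4_2 lc_a_rc_3_2 lc_a_rc_6_2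 lc_a_rc_3_2 lc_a_rc_2_2) (@D3.rec (fun _ => (Cert rels S Gen.a)) lc_a_rc_6_2 lc_a_rc_7_2 lc_a_rc_4_2 lc_a_rc_3_2 lc_a_rc_6_2 lc_a_rc_3_2 lc_a_rc_3_2 lc_a_rc_2_2 lc_a_rc_5_2 lc_a_rc_4_2 lc_a_rc_3_2 lc_a_rc_6_2 lc_a_rc_5_2 lc_a_rc_3_2 lc_a_rc_6_2 lc_a_rc_2_2 lc_a_rc_3_2 lc_a_rc_3_2 lc_a_rc_3_2 lc_a_rc_6_2 lc_a_rc_2_2 lc_a_rc_3_2 lc_a_rc_5_2 lc_a_rc_3_2 lc_a_rc_7_2 lc_a_rc_2_2 lc_a_rc_5_2 lc_a_rc_2_2 lc_a_rc_9_2 lc_a_rc_4_2 lc_a_rc_3_2 lc_a_rc_6_2 lc_a_rc_3_2 lc_a_rc_4_0 lc_a_rc_3_2 lc_a_rc_2_2 lc_a_rc_5_2 lc_a_rc_4_0 lc_a_rc_3_2 lc_a_rc_2_2 lc_a_rc_6_2 lc_a_rc_5_2 lc_a_rc_3_2 lc_a_rc_2_2 lc_a_rc_3_2 lc_a_rc_2_2 lc_a_rc_2_2 lc_a_rc_3_2 lc_a_rc_2_2 lc_a_rc_4_2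 lc_a_rc_9_2) (@D3.rec (fun _ => (Cert rels S Gen.a)) lc_a_rc_4_2 lc_a_rc_3_2 lc_a_rc_3_2 lc_a_rc_6_2 lc_a_rc_2_2 lc_a_rc_3_2 lc_a_rc_5_2 lc_a_rc_2_2 lc_a_rc_5_2 lc_a_rc_2_2 lc_a_rc_9_2 lc_a_rc_4_2 lc_a_rc_3_2 lc_a_rc_6_2 lc_a_rc_4_2 lc_a_rc_3_2 lc_a_rc_6_2 lc_a_rc_6_2 lc_a_rc_3_2 lc_a_rc_2_2 lc_a_rc_3_2 lc_a_rc_6_2 lc_a_rc_2_2 lc_a_rc_3_2 lc_a_rc_4_2 lc_a_rc_3_2 lc_a_rc_6_2 lc_a_rc_2_2 lc_a_rc_4_2 lc_a_rc_3_2 lc_a_rc_6_2 lc_a_rc_3_2 lc_a_rc_4_2 lc_a_rc_2_2 lc_a_rc_6_2 lc_a_rc_7_2 lc_a_rc_3_2 lc_a_rc_2_2 lc_a_rc_5_2 lc_a_rc_3_2 lc_a_rc_6_2 lc_a_rc_2_2 lc_a_rc_3_2 lc_a_rc_4_2 lc_a_rc_5_2 lc_a_rc_9_2 lc_a_rc_5_2 lc_a_rc_9_2 lc_a_rc_9_2 lc_a_rc_4_2 lc_a_rc_3_2)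 (@D3.rec (fun _ => (Cert rels S Gen.a)) lc_a_rc_3_2 lc_a_rc_2_2 lc_a_rc_3_2 lc_a_rc_6_2 lc_a_rc_3_2 lc_a_rc_5_2 lc_a_rc_7_2 lc_a_rc_3_2 lc_a_rc_6_2 lc_a_rc_2_2 lc_a_rc_3_2 lc_a_rc_7_2 lc_a_rc_6_2 lc_a_rc_4_2 lc_a_rc_3_2 lc_a_rc_6_2 lc_a_rc_2_2 lc_a_rc_3_2 lc_a_rc_5_2 lc_a_rc_7_2 lc_a_rc_3_2 lc_a_rc_6_2 lc_a_rc_7_2 lc_a_rc_8_2 lc_a_rc_2_2 lc_a_rc_5_2 lc_a_rc_2_2 lc_a_rc_9_2 lc_a_rc_4_2 lc_a_rc_3_2 lc_a_rc_2_2 lc_a_rc_3_2 lc_a_rc_6_2 lc_a_rc_2_2 lc_a_rc_3_2 lc_a_rc_6_2 lc_a_rc_2_2 lc_a_rc_3_2 lc_a_rc_9_2 lc_a_rc_2_2 lc_a_rc_3_2 lc_a_rc_2_2 lc_a_rc_4_2 lc_a_rc_9_2 lc_a_rc_4_2 lc_a_rc_3_2 lc_a_rc_2_2 lc_a_rc_3_2 lc_a_rc_6_2 lc_a_rc_2_2 lc_a_rc_6_2) (@D3.rec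 (fun _ => (Cert rels S Gen.a)) lc_a_rc_3_2 lc_a_rc_6_2 lc_a_rc_2_2 lc_a_rc_3_2 lc_a_rc_5_2 lc_a_rc_5_2 lc_a_rc_2_2 lc_a_rc_3_2 lc_a_rc_5_2 lc_a_rc_2_2 lc_a_rc_2_2 lc_a_rc_4_2 lc_a_rc_9_2 lc_a_rc_3_2 lc_a_rc_7_2 lc_a_rc_4_2 lc_a_rc_3_2 lc_a_rc_4_2 lc_a_rc_9_2 lc_a_rc_3_2 lc_a_rc_2_2 lc_a_rc_2_2 lc_a_rc_3_2 lc_a_rc_2_2 lc_a_rc_2_2 lc_a_rc_2_2 lc_a_rc_3_2 lc_a_rc_2_2 lc_a_rc_5_2 lc_a_rc_3_2 lc_a_rc_6_2 lc_a_rc_2_2 lc_a_rc_3_2 lc_a_rc_5_2 lc_a_rc_7_2 lc_a_rc_7_2 lc_a_rc_2_2 lc_a_rc_5_2 lc_a_rc_2_2 lc_a_rc_3_2 lc_a_rc_2_2 lc_a_rc_3_2 lc_a_rc_6_2 lc_a_rc_5_2 lc_a_rc_5_2 lc_a_rc_3_2 lc_a_rc_2_2 lc_a_rc_2_2 lc_a_rc_3_2 lc_a_rc_2_2 lc_a_rc_3_2) (@D3.rec (fun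 _ => (Cert rels S Gen.a)) lc_a_rc_3_2 lc_a_rc_2_2 lc_a_rc_5_2 lc_a_rc_2_2 lc_a_rc_5_2 lc_a_rc_2_2 lc_a_rc_3_2 lc_a_rc_2_2 lc_a_rc_3_2 lc_a_rc_2_2 lc_a_rc_5_2 lc_a_rc_2_2 lc_a_rc_5_2 lc_a_rc_2_2 lc_a_rc_9_2 lc_a_rc_3_2 lc_a_rc_6_2 lc_a_rc_3_2 lc_a_rc_5_2 lc_a_rc_3_2 lc_a_rc_6_2 lc_a_rc_2_2 lc_a_rc_3_2 lc_a_rc_5_2 lc_a_rc_4_2 lc_a_rc_3_2 lc_a_rc_6_2 lc_a_rc_2_2 lc_a_rc_3_2 lc_a_rc_5_2 lc_a_rc_7_2 lc_a_rc_2_2 lc_a_rc_3_2 lc_a_rc_5_2 lc_a_rc_7_2 lc_a_rc_2_2 lc_a_rc_2_2 lc_a_rc_2_2 lc_a_rc_5_2 lc_a_rc_2_2 lc_a_rc_9_2 lc_a_rc_1_2 lc_a_rc_2_2 lc_a_rc_9_2 lc_a_rc_3_2 lc_a_rc_2_2 lc_a_rc_3_2 lc_a_rc_2_2 lc_a_rc_2_2 lc_a_rc_5_2 lc_a_rc_2_2) (@D3.rec (fun _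 => (Cert rels S Gen.a)) lc_a_rc_3_2 lc_a_rc_2_2 lc_a_rc_5_2 lc_a_rc_9_2 lc_a_rc_9_2 lc_a_rc_5_2 lc_a_rc_9_2 lc_a_rc_3_2 lc_a_rc_2_2 lc_a_rc_3_2 lc_a_rc_3_2 lc_a_rc_2_2 lc_a_rc_2_2 lc_a_rc_2_2 lc_a_rc_1_2 lc_a_rc_2_2 lc_a_rc_3_2 lc_a_rc_2_2 lc_a_rc_2_2 lc_a_rc_5_2 lc_a_rc_2_2 lc_a_rc_9_2 lc_a_rc_6_2 lc_a_rc_3_2 lc_a_rc_5_2 lc_a_rc_5_2 lc_a_rc_9_2 lc_a_rc_9_2 lc_a_rc_1_2 lc_a_rc_9_2 lc_a_rc_1_2 lc_a_rc_2_2 lc_a_rc_3_2 lc_a_rc_6_2 lc_a_rc_2_2 lc_a_rc_3_2 lc_a_rc_6_2 lc_a_rc_2_2 lc_a_rc_3_2 lc_a_rc_5_2 lc_a_rc_2_2 lc_a_rc_3_2 lc_a_rc_2_2 lc_a_rc_2_2 lc_a_rc_5_2 lc_a_rc_2_2 lc_a_rc_9_2 lc_a_rc_1_2 lc_a_rc_2_2 lc_a_rc_2_2 lc_a_rc_4_2) (@D3.rec (fun _ =>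 (Cert rels S Gen.a)) lc_a_rc_9_2 lc_a_rc_2_2 lc_a_rc_2_2 lc_a_rc_1_2 lc_a_rc_4_2 lc_a_rc_2_2 lc_a_rc_2_2 lc_a_rc_2_2 lc_a_rc_5_2 lc_a_rc_2_2 lc_a_rc_9_2 lc_a_rc_3_2 lc_a_rc_2_2 lc_a_rc_7_2 lc_a_rc_2_2 lc_a_rc_2_2 lc_a_rc_3_2 lc_a_rc_6_2 lc_a_rc_2_2 lc_a_rc_3_2 lc_a_rc_2_2 lc_a_rc_3_2 lc_a_rc_2_2 lc_a_rc_2_2 lc_a_rc_2_2 lc_a_rc_2_2 lc_a_rc_1_2 lc_a_rc_2_2 lc_a_rc_1_2 lc_a_rc_2_2 lc_a_rc_9_2 lc_a_rc_2_2 lc_a_rc_3_2 lc_a_rc_2_2 lc_a_rc_2_2 lc_a_rc_7_2 lc_a_rc_2_2 lc_a_rc_2_2 lc_a_rc_2_2 lc_a_rc_1_2 lc_a_rc_3_2 lc_a_rc_6_2 lc_a_rc_2_2 lc_a_rc_2_2 lc_a_rc_3_2 lc_a_rc_6_2 lc_a_rc_2_2 lc_a_rc_2_2 lc_a_rc_2_2 lc_a_rc_2_2 lc_a_rc_1_2) (@D3.rec (fun _ => (Cert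 rels S Gen.a)) lc_a_rc_2_2 lc_a_rc_2_2 lc_a_rc_1_2 lc_a_rc_2_2 lc_a_rc_2_2 lc_a_rc_1_2 lc_a_rc_1_2 lc_a_rc_2_2 lc_a_rc_1_2 lc_a_rc_2_2 lc_a_rc_5_2 lc_a_rc_2_2 lc_a_rc_9_2 lc_a_rc_9_2 lc_a_rc_3_2 lc_a_rc_2_2 lc_a_rc_2_2 lc_a_rc_2_2 lc_a_rc_1_2 lc_a_rc_1_2 lc_a_rc_1_2 lc_a_rc_1_2 lc_a_rc_3_2 lc_a_rc_9_2 lc_a_rc_3_2 lc_a_rc_2_2 lc_a_rc_5_2 lc_a_rc_3_2 lc_a_rc_6_2 lc_a_rc_3_2 lc_a_rc_7_2 lc_a_rc_3_2 lc_a_rc_6_2 lc_a_rc_2_2 lc_a_rc_3_2 lc_a_rc_7_2 lc_a_rc_4_2 lc_a_rc_6_2 lc_a_rc_3_2 lc_a_rc_6_2 lc_a_rc_2_2 lc_a_rc_3_2 lc_a_rc_5_2 lc_a_rc_7_2 lc_a_rc_6_2 lc_a_rc_3_2 lc_a_rc_7_2 lc_a_rc_2_2 lc_a_rc_5_2 lc_a_rc_2_2 lc_a_rc_9_2) (@D3.rec (fun _ => (Cert rels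 S Gen.a)) lc_a_rc_3_2 lc_a_rc_6_2 lc_a_rc_2_2 lc_a_rc_7_2 lc_a_rc_7_2 lc_a_rc_3_2 lc_a_rc_6_2 lc_a_rc_5_2 lc_a_rc_5_2 lc_a_rc_3_2 lc_a_rc_6_2 lc_a_rc_2_2 lc_a_rc_3_2 lc_a_rc_5_2 lc_a_rc_2_2 lc_a_rc_3_2 lc_a_rc_2_2 lc_a_rc_4_2 lc_a_rc_9_2 lc_a_rc_7_2 lc_a_rc_3_2 lc_a_rc_6_2 lc_a_rc_2_2 lc_a_rc_3_2 lc_a_rc_5_2 lc_a_rc_9_2 lc_a_rc_2_2 lc_a_rc_3_2 lc_a_rc_5_2 lc_a_rc_2_2 lc_a_rc_2_2 lc_a_rc_9_2 lc_a_rc_7_2 lc_a_rc_9_2 lc_a_rc_3_2 lc_a_rc_2_2 lc_a_rc_2_2 lc_a_rc_2_2 lc_a_rc_2_2 lc_a_rc_2_2 lc_a_rc_5_2 lc_a_rc_2_2 lc_a_rc_9_2 lc_a_rc_6_2 lc_a_rc_3_2 lc_a_rc_6_2 lc_a_rc_2_2 lc_a_rc_3_2 lc_a_rc_7_2 lc_a_rc_3_2 lc_a_rc_6_2) (@D3.rec (fun _ => (Cert rels S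 Gen.a)) lc_a_rc_2_2 lc_a_rc_3_2 lc_a_rc_7_2 lc_a_rc_7_2 lc_a_rc_3_2 lc_a_rc_6_2 lc_a_rc_2_2 lc_a_rc_3_2 lc_a_rc_2_2 lc_a_rc_5_2 lc_a_rc_2_2 lc_a_rc_5_2 lc_a_rc_2_2 lc_a_rc_3_2 lc_a_rc_2_2 lc_a_rc_4_2 lc_a_rc_2_2 lc_a_rc_3_2 lc_a_rc_5_2 lc_a_rc_2_2 lc_a_rc_2_2 lc_a_rc_5_2 lc_a_rc_1_2 lc_a_rc_2_2 lc_a_rc_9_2 lc_a_rc_2_2 lc_a_rc_3_2 lc_a_rc_6_2 lc_a_rc_2_2 lc_a_rc_3_2 lc_a_rc_5_2 lc_a_rc_2_2 lc_a_rc_5_2 lc_a_rc_2_2 lc_a_rc_9_2 lc_a_rc_2_2 lc_a_rc_2_2 lc_a_rc_2_2 lc_a_rc_1_2 lc_a_rc_2_2 lc_a_rc_4_2 lc_a_rc_2_2 lc_a_rc_3_2 lc_a_rc_2_2 lc_a_rc_2_2 lc_a_rc_3_2 lc_a_rc_5_2 lc_a_rc_2_2 lc_a_rc_2_2 lc_a_rc_1_2 lc_a_rc_2_2) (@D3.rec (fun _ => (Cert rels S Gen.a))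 lc_a_rc_9_2 lc_a_rc_3_2 lc_a_rc_2_2 lc_a_rc_3_2 lc_a_rc_6_2 lc_a_rc_2_2 lc_a_rc_3_2 lc_a_rc_6_2 lc_a_rc_2_2 lc_a_rc_2_2 lc_a_rc_2_2 lc_a_rc_3_2 lc_a_rc_3_2 lc_a_rc_6_2 lc_a_rc_2_2 lc_a_rc_7_2 lc_a_rc_3_2 lc_a_rc_6_2 lc_a_rc_2_2 lc_a_rc_3_2 lc_a_rc_5_2 lc_a_rc_7_2 lc_a_rc_7_2 lc_a_rc_2_2 lc_a_rc_5_2 lc_a_rc_2_2 lc_a_rc_3_2 lc_a_rc_2_2 lc_a_rc_4_2 lc_a_rc_9_2 lc_a_rc_9_2 lc_a_rc_3_2 lc_a_rc_2_2 lc_a_rc_2_2 lc_a_rc_3_2 lc_a_rc_5_2 lc_a_rc_7_2 lc_a_rc_2_2 lc_a_rc_3_2 lc_a_rc_7_2 lc_a_rc_2_2 lc_a_rc_4_2 lc_a_rc_3_2 lc_a_rc_2_2 lc_a_rc_3_2 lc_a_rc_5_2 lc_a_rc_7_2 lc_a_rc_2_2 lc_a_rc_2_2 lc_a_rc_3_2 lc_a_rc_5_2) (@D3.rec (fun _ => (Cert rels S Gen.a)) lc_a_rc_8_2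 lc_a_rc_1_2 lc_a_rc_2_2 lc_a_rc_9_2 lc_a_rc_2_2 lc_a_rc_2_2 lc_a_rc_2_2 lc_a_rc_2_2 lc_a_rc_3_2 lc_a_rc_2_2 lc_a_rc_4_2 lc_a_rc_1_2 lc_a_rc_2_2 lc_a_rc_4_2 lc_a_rc_2_2 lc_a_rc_2_2 lc_a_rc_2_2 lc_a_rc_2_2 lc_a_rc_3_2 lc_a_rc_5_2 lc_a_rc_2_2 lc_a_rc_2_2 lc_a_rc_5_2 lc_a_rc_1_2 lc_a_rc_2_2 lc_a_rc_2_2 lc_a_rc_4_2 lc_a_rc_9_2 lc_a_rc_2_2 lc_a_rc_2_2 lc_a_rc_4_2 lc_a_rc_2_2 lc_a_rc_1_2 lc_a_rc_2_2 lc_a_rc_1_2 lc_a_rc_1_2 lc_a_rc_2_2 lc_a_rc_5_2 lc_a_rc_2_2 lc_a_rc_2_2 lc_a_rc_3_2 lc_a_rc_5_2 lc_a_rc_7_2 lc_a_rc_2_2 lc_a_rc_2_2 lc_a_rc_1_2 lc_a_rc_2_2 lc_a_rc_2_2 lc_a_rc_5_2 lc_a_rc_2_2 lc_a_rc_1_2) (@D3.rec (fun _ => (Cert rels S Gen.a)) lc_a_rc_2_2 lc_a_rc_2_2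 lc_a_rc_5_2 lc_a_rc_2_2 lc_a_rc_1_2 lc_a_rc_2_2 lc_a_rc_2_2 lc_a_rc_2_2 lc_a_rc_5_2 lc_a_rc_2_2 lc_a_rc_1_2 lc_a_rc_2_2 lc_a_rc_9_2 lc_a_rc_2_2 lc_a_rc_3_2 lc_a_rc_5_2 lc_a_rc_2_2 lc_a_rc_4_2 lc_a_rc_2_2 lc_a_rc_3_2 lc_a_rc_5_2 lc_a_rc_7_2 lc_a_rc_2_2 lc_a_rc_2_2 lc_a_rc_1_2 lc_a_rc_2_2 lc_a_rc_2_2 lc_a_rc_1_2 lc_a_rc_2_2 lc_a_rc_9_2 lc_a_rc_2_2 lc_a_rc_1_2 lc_a_rc_3_2 lc_a_rc_2_2 lc_a_rc_3_2 lc_a_rc_2_2 lc_a_rc_1_2 lc_a_rc_2_2 lc_a_rc_9_2 lc_a_rc_3_2 lc_a_rc_2_2 lc_a_rc_1_2 lc_a_rc_1_2 lc_a_rc_1_2 lc_a_rc_2_2 lc_a_rc_1_2 lc_a_rc_2_2 lc_a_rc_9_2 lc_a_rc_2_2 lc_a_rc_5_2 lc_a_rc_9_2) (@D3.rec (fun _ => (Cert rels S Gen.a)) lc_a_rc_1_2 lc_a_rc_2_2 lc_a_rc_2_2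 lc_a_rc_3_2 lc_a_rc_5_2 lc_a_rc_2_2 lc_a_rc_2_2 lc_a_rc_1_2 lc_a_rc_2_2 lc_a_rc_1_2 lc_a_rc_2_2 lc_a_rc_9_2 lc_a_rc_2_2 lc_a_rc_1_2 lc_a_rc_1_2 lc_a_rc_2_2 lc_a_rc_2_2 lc_a_rc_1_2 lc_a_rc_1_2 lc_a_rc_1_2 lc_a_rc_2_2 lc_a_rc_9_2 lc_a_rc_2_2 lc_a_rc_2_2 lc_a_rc_1_2 lc_a_rc_1_2 lc_a_rc_2_2 lc_a_rc_2_2 lc_a_rc_2_2 lc_a_rc_1_2 lc_a_rc_1_2 lc_a_rc_1_2 lc_a_rc_1_2 lc_a_rc_1_2 lc_a_rc_2_2 lc_a_rc_2_2 lc_a_rc_1_2 lc_a_rc_1_2 lc_a_rc_1_2 lc_a_rc_1_2 lc_a_rc_2_2 lc_a_rc_1_2 lc_a_rc_2_2 lc_a_rc_1_2 lc_a_rc_1_2 lc_a_rc_1_2 lc_a_rc_1_2 lc_a_rc_1_2 lc_a_rc_1_2 lc_a_rc_1_2 lc_a_rc_1_2) (@D3.rec (fun _ => (Cert rels S Gen.a)) lc_a_rc_1_2 lc_a_rc_2_2 lc_a_rc_9_2 lc_a_rc_2_2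 lc_a_rc_2_2 lc_a_rc_1_2 lc_a_rc_1_2 lc_a_rc_1_2 lc_a_rc_2_2 lc_a_rc_5_2 lc_a_rc_2_2 lc_a_rc_3_2 lc_a_rc_7_2 lc_a_rc_2_2 lc_a_rc_3_2 lc_a_rc_7_2 lc_a_rc_2_2 lc_a_rc_4_2 lc_a_rc_3_2 lc_a_rc_2_2 lc_a_rc_3_2 lc_a_rc_5_2 lc_a_rc_7_2 lc_a_rc_2_2 lc_a_rc_2_2 lc_a_rc_3_2 lc_a_rc_5_2 lc_a_rc_1_2 lc_a_rc_2_2 lc_a_rc_9_2 lc_a_rc_2_2 lc_a_rc_2_2 lc_a_rc_7_2 lc_a_rc_5_2 lc_a_rc_2_2 lc_a_rc_3_2 lc_a_rc_2_2 lc_a_rc_4_2 lc_a_rc_1_2 lc_a_rc_2_2 lc_a_rc_4_2 lc_a_rc_2_2 lc_a_rc_2_2 lc_a_rc_3_2 lc_a_rc_5_2 lc_a_rc_2_2 lc_a_rc_2_2 lc_a_rc_5_2 lc_a_rc_1_2 lc_a_rc_2_2 lc_a_rc_2_2) (@D3.rec (fun _ => (Cert rels S Gen.a)) lc_a_rc_9_2 lc_a_rc_2_2 lc_a_rc_2_2 lc_a_rc_1_2 lc_a_rc_1_2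 lc_a_rc_1_2 lc_a_rc_1_2 lc_a_rc_2_2 lc_a_rc_9_2 lc_a_rc_2_2 lc_a_rc_2_2 lc_a_rc_3_2 lc_a_rc_7_2 lc_a_rc_2_2 lc_a_rc_2_2 lc_a_rc_3_2 lc_a_rc_7_2 lc_a_rc_2_2 lc_a_rc_2_2 lc_a_rc_3_2 lc_a_rc_2_2 lc_a_rc_1_2 lc_a_rc_2_2 lc_a_rc_1_2 lc_a_rc_2_2 lc_a_rc_4_2 lc_a_rc_2_2 lc_a_rc_1_2 lc_a_rc_2_2 lc_a_rc_2_2 lc_a_rc_5_2 lc_a_rc_2_2 lc_a_rc_1_2 lc_a_rc_2_2 lc_a_rc_2_2 lc_a_rc_3_2 lc_a_rc_5_2 lc_a_rc_2_2 lc_a_rc_2_2 lc_a_rc_1_2 lc_a_rc_2_2 lc_a_rc_9_2 lc_a_rc_2_2 lc_a_rc_1_2 lc_a_rc_1_2 lc_a_rc_1_2 lc_a_rc_1_2 lc_a_rc_2_2 lc_a_rc_2_2 lc_a_rc_1_2 lc_a_rc_2_2) (@D3.rec (fun _ => (Cert rels S Gen.a)) lc_a_rc_2_2 lc_a_rc_1_2 lc_a_rc_3_2 lc_a_rc_2_2 lc_a_rc_4_2 lc_a_rc_2_2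 lc_a_rc_2_2 lc_a_rc_1_2 lc_a_rc_1_2 lc_a_rc_2_2 lc_a_rc_7_2 lc_a_rc_2_2 lc_a_rc_3_2 lc_a_rc_5_2 lc_a_rc_7_2 lc_a_rc_2_2 lc_a_rc_1_2 lc_a_rc_1_2 lc_a_rc_2_2 lc_a_rc_4_2 lc_a_rc_2_2 lc_a_rc_2_2 lc_a_rc_1_2 lc_a_rc_1_2 lc_a_rc_2_2 lc_a_rc_4_2 lc_a_rc_3_2 lc_a_rc_2_2 lc_a_rc_2_2 lc_a_rc_1_2 lc_a_rc_2_2 lc_a_rc_2_2 lc_a_rc_3_2 lc_a_rc_5_2 lc_a_rc_2_2 lc_a_rc_2_2 lc_a_rc_1_2 lc_a_rc_2_2 lc_a_rc_1_2 lc_a_rc_1_2 lc_a_rc_1_2 lc_a_rc_2_2 lc_a_rc_4_2 lc_a_rc_2_2 lc_a_rc_1_2 lc_a_rc_2_2 lc_a_rc_1_2 lc_a_rc_1_2 lc_a_rc_1_2 lc_a_rc_2_2 lc_a_rc_2_2) (@D3.rec (fun _ => (Cert rels S Gen.a)) lc_a_rc_5_2 lc_a_rc_2_2 lc_a_rc_1_2 lc_a_rc_1_2 lc_a_rc_2_2 lc_a_rc_2_2 lc_a_rc_1_2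 lc_a_rc_1_2 lc_a_rc_1_2 lc_a_rc_2_2 lc_a_rc_1_2 lc_a_rc_2_2 lc_a_rc_2_2 lc_a_rc_1_2 lc_a_rc_1_2 lc_a_rc_1_2 lc_a_rc_1_2 lc_a_rc_1_2 lc_a_rc_2_2 lc_a_rc_1_2 lc_a_rc_1_2 lc_a_rc_1_2 lc_a_rc_2_2 lc_a_rc_1_2 lc_a_rc_2_2 lc_a_rc_1_2 lc_a_rc_1_2 lc_a_rc_2_2 lc_a_rc_2_2 lc_a_rc_1_2 lc_a_rc_1_2 lc_a_rc_1_2 lc_a_rc_2_2 lc_a_rc_1_2 lc_a_rc_1_2 lc_a_rc_3_2 lc_a_rc_1_2 lc_a_rc_1_2 lc_a_rc_1_2 lc_a_rc_1_2 lc_a_rc_1_2 lc_a_rc_2_2 lc_a_rc_1_2 lc_a_rc_1_2 lc_a_rc_2_2 lc_a_rc_2_2 lc_a_rc_1_2 lc_a_rc_1_2 lc_a_rc_2_2 lc_a_rc_1_2 lc_a_rc_1_2) (@D3.rec (fun _ => (Cert rels S Gen.a)) lc_a_rc_1_2 lc_a_rc_2_2 lc_a_rc_1_2 lc_a_rc_1_2 lc_a_rc_1_2 lc_a_rc_1_2 lc_a_rc_1_2 lc_a_rc_1_2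 lc_a_rc_1_2 lc_a_rc_1_2 lc_a_rc_1_2 lc_a_rc_2_2 lc_a_rc_1_2 lc_a_rc_1_2 lc_a_rc_2_2 lc_a_rc_1_2 lc_a_rc_2_2 lc_a_rc_4_2 lc_a_rc_3_2 lc_a_rc_2_2 lc_a_rc_2_2 lc_a_rc_1_2 lc_a_rc_2_2 lc_a_rc_2_2 lc_a_rc_3_2 lc_a_rc_5_2 lc_a_rc_2_2 lc_a_rc_2_2 lc_a_rc_1_2 lc_a_rc_2_2 lc_a_rc_1_2 lc_a_rc_1_2 lc_a_rc_2_2 lc_a_rc_4_2 lc_a_rc_2_2 lc_a_rc_1_2 lc_a_rc_2_2 lc_a_rc_1_2 lc_a_rc_2_2 lc_a_rc_2_2 lc_a_rc_5_2 lc_a_rc_2_2 lc_a_rc_1_2 lc_a_rc_1_2 lc_a_rc_2_2 lc_a_rc_1_2 lc_a_rc_1_2 lc_a_rc_2_2 lc_a_rc_1_2 lc_a_rc_2_2 lc_a_rc_1_2) (@D3.rec (fun _ => (Cert rels S Gen.a)) lc_a_rc_2_2 lc_a_rc_1_2 lc_a_rc_2_2 lc_a_rc_1_2 lc_a_rc_1_2 lc_a_rc_2_2 lc_a_rc_1_2 lc_a_rc_1_2 lc_a_rc_2_2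 lc_a_rc_1_2 lc_a_rc_1_2 lc_a_rc_2_2 lc_a_rc_2_2 lc_a_rc_1_2 lc_a_rc_2_2 lc_a_rc_1_2 lc_a_rc_1_2 lc_a_rc_1_2 lc_a_rc_1_2 lc_a_rc_1_2 lc_a_rc_1_2 lc_a_rc_4_2 lc_a_rc_1_2 lc_a_rc_1_2 lc_a_rc_1_2 lc_a_rc_1_2 lc_a_rc_2_2 lc_a_rc_1_2 lc_a_rc_2_2 lc_a_rc_1_2 lc_a_rc_1_2 lc_a_rc_2_2 lc_a_rc_2_2 lc_a_rc_1_2 lc_a_rc_1_2 lc_a_rc_2_2 lc_a_rc_2_2 lc_a_rc_1_2 lc_a_rc_1_2 lc_a_rc_2_2 lc_a_rc_1_2 lc_a_rc_1_2 lc_a_rc_1_2 lc_a_rc_2_2 lc_a_rc_1_2 lc_a_rc_1_2 lc_a_rc_1_2 lc_a_rc_1_2 lc_a_rc_1_2 lc_a_rc_1_2 lc_a_rc_1_2) (@D3.rec (fun _ => (Cert rels S Gen.a)) lc_a_rc_1_2 lc_a_rc_1_2 lc_a_rc_1_2 lc_a_rc_1_2 lc_a_rc_1_2 lc_a_rc_1_2 lc_a_rc_1_2 lc_a_rc_1_2 lc_a_rc_1_2 lc_a_rc_1_2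 lc_a_rc_1_2 lc_a_rc_1_2 lc_a_rc_1_2 lc_a_rc_2_2 lc_a_rc_2_2 lc_a_rc_1_2 lc_a_rc_1_2 lc_a_rc_2_2 lc_a_rc_2_2 lc_a_rc_1_2 lc_a_rc_1_2 lc_a_rc_2_2 lc_a_rc_1_2 lc_a_rc_1_2 lc_a_rc_1_2 lc_a_rc_2_2 lc_a_rc_1_2 lc_a_rc_1_2 lc_a_rc_1_2 lc_a_rc_1_2 lc_a_rc_1_2 lc_a_rc_1_2 lc_a_rc_1_2 lc_a_rc_1_2 lc_a_rc_1_2 lc_a_rc_1_2 lc_a_rc_1_2 lc_a_rc_1_2 lc_a_rc_1_2 lc_a_rc_1_2 lc_a_rc_1_2 lc_a_rc_1_2 lc_a_rc_1_2 lc_a_rc_1_2 lc_a_rc_1_2 lc_a_rc_1_2 lc_a_rc_1_2 lc_a_rc_1_2 lc_a_rc_1_2 lc_a_rc_1_2 lc_a_rc_1_2)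
def ce_a : Pt → (Cert rels S Gen.a) := @Pt.rec (fun _ => (Cert rels S Gen.a)) (@D1.rec (fun _ => D2 → D3 → (Cert rels S Gen.a)) ce_a_0 ce_a_1 ce_a_2 ce_a_3 ce_a_4 ce_a_5 ce_a_6 ce_a_7 ce_a_8 ce_a_9 ce_a_10 ce_a_11 ce_a_12 ce_a_13 ce_a_14 ce_a_15 ce_a_16 ce_a_17 ce_a_18 ce_a_19 ce_a_20 ce_a_21 ce_a_22)
def isSeed_a (p : Pt) : Bool := false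

end

end Cfsg.Agent.Helper28.S1689
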