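import Cfsg.Agent.Lib.Helper28.S1689.Certs

set_option autoImplicit false
set_option maxRecDepth 100000
set_option linter.all false

namespace Cfsg.Agent.Helper28.S1689

open Cfsg.Agent.Helper28
open Cfsg.Spor.Fi23 (Gen)

noncomputable section

def hw_0 : HWord rels S := ⟨subW_0, subH_0⟩
def hwi_0 : HWord rels S := ⟨[(Gen.a, false)], hword_inv rels S subW_0 subH_0⟩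
def hw_1 : HWord rels S := ⟨subW_1, subH_1⟩
def hwi_1 : HWord rels S := ⟨[(Gen.b, false)], hword_inv rels S subW_1 subH_1⟩
def hw_2 : HWord rels S := ⟨subW_2, subH_2⟩
def hwi_2 : HWord rels S := ⟨[(Gen.c, false)], hword_inv rels S subW_2 subH_2⟩
def hw_3 : HWord rels S := ⟨subW_3, subH_3⟩
def hwi_3 : HWord rels S := ⟨[(Gen.d, false)], hword_inv rels S subW_3 subH_3⟩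
def hw_4 : HWord rels S := ⟨subW_4, subH_4⟩
def hwi_4 : HWord rels S := ⟨[(Gen.e, false)], hword_inv rels S subW_4 subH_4⟩
def hw_5 : HWord rels S := ⟨subW_5, subH_5⟩
def hwi_5 : HWord rels S := ⟨[(Gen.f, false)], hword_inv rels S subW_5 subH_5⟩
def hw_6 : HWord rels S := ⟨subW_6, subH_6⟩
def hwi_6 : HWord rels S := ⟨[(Gen.g, false)], hword_inv rels S subW_6 subH_6⟩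
def hw_7 : HWord rels S := ⟨subW_7, subH_7⟩
def hwi_7 : HWord rels S := ⟨[(Gen.h, false)], hword_inv rels S subW_7 subH_7⟩
def hw_8 : HWord rels S := ⟨subW_8, subH_8⟩
def hwi_8 : HWord rels S := ⟨[(Gen.i, false)], hword_inv rels S subW_8 subH_8⟩
def lab_0 : D2 → D3 → Nat := @D2.rec (fun _ => D3 → Nat) (@D3.rec (fun _ => Nat) 0 1 1 1 1 1 1 1 1 1 1 1 1 1 1 1 1 1 1 1 1 1 1 1 1 1 1 1 1 1 1 1 1 1 1 1 1 1 1 1 1 1 1 1 1 1 1 1 1 1 1) (@D3.rec (fun _ => Nat) 1 2 1 1 1 1 1 1 1 1 1 1 1 1 1 1 1 1 1 1 1 2 1 1 1 2 1 1 1 1 1 1 1 1 1 1 1 1 1 1 2 1 1 1 1 1 1 1 1 1 2) (@D3.rec (fun _ => Nat) 1 1 1 1 2 1 1 1 2 1 1 1 1 1 1 1 1 1 1 1 1 1 1 1 1 1 1 2 1 1 1 1 2 1 1 1 1 1 1 2 1 1 1 1 1 1 2 1 1 1 1) (@D3.rec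 (fun _ => Nat) 1 2 1 1 1 1 2 1 1 1 1 1 1 1 1 1 1 1 1 1 1 2 1 1 1 1 1 1 1 1 2 1 1 1 1 1 1 2 1 1 1 1 1 2 1 1 1 1 1 2 1) (@D3.rec (fun _ => Nat) 1 1 1 1 2 2 1 1 1 1 1 1 1 2 1 1 1 1 1 1 1 2 1 1 1 1 1 2 2 1 1 1 1 1 1 1 1 1 1 1 1 1 1 1 1 2 1 1 1 1 1) (@D3.rec (fun _ => Nat) 1 2 1 1 1 1 1 1 1 2 1 1 1 1 1 2 2 1 1 1 1 1 1 1 2 1 1 1 1 1 1 1 2 1 1 1 1 1 2 1 1 2 2 1 1 1 1 1 1 1 2) (@D3.rec (fun _ => Nat) 2 1 1 1 1 1 1 1 1 1 1 2 1 1 1 1 1 1 1 1 1 1 2 2 1 1 1 1 1 1 2 2 2 1 1 1 1 1 1 1 1 1 1 1 2 1 1 1 1 1 1) (@D3.rec (fun _ => Nat) 1 1 1 1 2 1 1 1 1 1 2 2 1 1 1 1 1 1 1 2 1 1 1 1 1 1 1 1 1 2 1 1 2 2 1 1 1 1 1 1 1 2 2 1 1 1 1 1 1 1 1) (@D3.rec (fun _ => Nat) 1 1 2 1 1 1 1 1 1 1 1 1 1 2 2 1 1 1 1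 1 1 2 2 2 1 1 1 2 2 2 1 1 1 1 1 1 1 1 1 1 2 2 1 1 1 1 1 1 1 1 1) (@D3.rec (fun _ => Nat) 1 1 1 1 1 1 1 2 2 1 1 1 1 1 1 1 1 1 1 1 1 2 2 2 1 1 1 1 1 1 1 2 2 2 2 2 1 1 1 1 1 1 1 1 1 2 1 1 1 1 2) (@D3.rec (fun _ => Nat) 2 1 1 1 1 1 1 1 1 1 1 1 2 1 1 2 2 1 1 1 1 1 1 2 2 1 1 1 1 1 1 1 1 1 1 2 1 1 1 1 1 1 1 1 1 1 1 1 1 1 2) (@D3.rec (fun _ => Nat) 2 2 1 1 1 2 2 2 1 1 1 1 1 1 1 1 1 2 2 1 1 1 1 1 1 1 1 1 1 1 1 1 1 1 1 2 2 1 1 1 1 1 1 1 1 1 1 1 1 2 2) (@D3.rec (fun _ => Nat) 2 1 1 1 1 1 1 1 2 2 2 2 2 1 1 1 1 1 2 2 2 2 1 1 1 1 1 1 1 1 1 1 1 1 2 2 2 1 1 1 1 1 1 1 1 1 1 1 1 1 1) (@D3.rec (fun _ => Nat) 1 1 1 1 1 1 1 1 1 1 2 2 2 1 1 1 1 1 1 1 1 1 1 1 1 1 1 1 2 2 2 2 2 1 1 1 1 1 1 2 2 2 2 2 2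 1 1 1 1 1 1) (@D3.rec (fun _ => Nat) 2 1 1 2 1 1 2 2 1 1 1 1 2 2 2 1 1 1 1 1 1 1 1 1 1 1 1 1 1 2 2 2 1 1 1 2 2 2 1 1 1 1 1 1 1 2 2 1 1 1 1) (@D3.rec (fun _ => Nat) 1 1 1 1 1 1 1 1 1 1 1 1 2 2 1 1 1 1 1 1 1 1 1 1 1 1 1 1 1 1 1 1 1 1 2 2 2 2 2 1 1 1 1 1 2 2 2 2 1 1 1) (@D3.rec (fun _ => Nat) 1 1 1 1 1 1 1 1 2 2 2 1 1 1 1 1 1 1 1 1 1 1 1 1 1 1 1 1 1 1 1 1 1 1 1 2 2 2 1 1 1 1 1 1 1 1 1 1 1 1 1) (@D3.rec (fun _ => Nat) 1 1 2 2 2 2 2 1 1 1 1 1 1 1 1 1 2 2 2 2 2 2 2 2 1 1 1 1 1 1 1 1 2 2 2 2 2 2 1 1 1 1 1 1 1 1 1 1 1 1 1) (@D3.rec (fun _ => Nat) 2 2 2 2 2 1 1 1 1 1 1 1 1 1 1 1 1 1 1 1 1 1 1 1 1 1 1 1 1 1 1 1 1 1 1 1 1 1 1 1 2 2 2 2 2 1 1 1 1 1 1) (@D3.rec (fun _ => Nat) 1 1 1 1 1 1 1 1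 1 1 2 2 2 2 2 2 1 1 1 1 1 2 2 2 2 2 2 2 1 1 1 1 2 1 2 1 1 2 2 2 1 1 2 2 1 1 1 1 1 2 2) (@D3.rec (fun _ => Nat) 2 1 1 1 1 1 1 1 1 1 1 1 1 1 1 1 1 1 1 1 1 1 2 2 2 2 2 1 1 1 1 2 2 2 1 1 1 1 1 1 1 1 1 1 2 2 2 1 1 1 1) (@D3.rec (fun _ => Nat) 1 1 1 1 1 1 1 1 1 1 1 1 1 1 1 1 1 1 1 1 1 2 2 2 1 1 1 1 1 1 1 1 1 1 1 1 1 1 1 1 1 1 1 1 1 1 1 1 1 1 1) (@D3.rec (fun _ => Nat) 2 2 2 2 2 2 2 2 1 1 1 1 1 1 1 2 2 2 2 2 1 1 1 1 1 1 1 1 1 1 1 1 1 1 1 2 2 2 2 2 1 1 1 1 1 1 1 1 1 1 1) (@D3.rec (fun _ => Nat) 1 1 1 1 1 1 1 1 1 1 1 1 1 1 1 1 1 1 1 1 1 1 1 1 2 2 2 2 2 1 1 1 1 1 1 1 1 1 1 1 1 1 1 1 1 1 1 1 2 2 2) (@D3.rec (fun _ => Nat) 2 2 2 1 1 1 1 1 1 1 1 1 1 2 2 2 2 2 2 2 2 2 2 2 2 2 1 1 1 1 1 1 1 1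 1 1 2 2 2 2 2 2 1 1 1 1 1 1 1 1 1) (@D3.rec (fun _ => Nat) 1 1 1 1 1 1 1 1 2 2 2 2 2 2 2 2 1 1 1 1 1 1 1 1 1 1 1 1 1 1 1 1 1 1 1 1 1 1 1 1 1 1 1 1 1 1 1 1 1 1 1) (@D3.rec (fun _ => Nat) 1 1 1 1 1 1 1 1 1 1 1 2 2 2 2 2 2 1 1 1 1 1 1 1 1 1 1 1 1 1 1 1 1 2 2 2 2 2 2 2 1 1 1 2 2 2 2 2 2 2 1)
def lab_1 : D2 → D3 → Nat := @D2.rec (fun _ => D3 → Nat) (@D3.rec (fun _ => Nat) 1 2 1 2 2 1 2 1 1 1 2 2 2 2 1 1 2 2 1 1 1 1 1 1 1 1 2 2 2 2 1 1 1 1 1 1 1 1 1 1 1 1 1 1 1 1 1 1 1 1 1) (@D3.rec (fun _ => Nat) 1 1 1 1 1 1 1 1 1 1 1 1 2 2 2 2 2 2 2 1 1 1 1 1 2 2 2 2 1 1 1 1 1 1 1 1 1 1 1 1 1 1 1 1 2 2 2 2 2 1 1) (@D3.rec (fun _ => Nat) 1 1 1 1 1 1 1 1 1 1 1 1 1 1 1 1 1 1 1 1 1 1 1 1 1 1 1 1 1 1 1 1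 1 1 1 1 2 2 2 2 2 1 1 1 1 1 1 1 1 1 1) (@D3.rec (fun _ => Nat) 1 1 1 1 1 1 1 1 1 1 1 1 1 1 1 1 1 1 1 1 1 1 1 1 1 1 1 1 2 2 2 2 2 2 2 2 2 2 2 2 1 1 1 1 1 1 1 1 1 2 2) (@D3.rec (fun _ => Nat) 2 2 2 2 1 1 1 1 1 1 1 1 1 1 1 1 1 1 1 1 1 1 1 1 1 2 2 2 2 2 2 2 2 1 1 1 1 1 1 1 1 1 1 1 1 1 1 1 1 1 1) (@D3.rec (fun _ => Nat) 1 1 1 1 1 1 1 1 1 1 1 1 1 1 1 1 1 1 1 1 1 1 1 1 1 1 1 1 1 1 1 2 2 2 2 2 2 1 1 1 1 1 1 1 1 1 1 1 1 1 1) (@D3.rec (fun _ => Nat) 1 1 1 1 1 1 1 1 1 1 2 2 2 2 2 2 2 2 2 2 1 1 1 1 1 1 1 1 1 2 2 2 2 2 2 2 2 2 2 2 2 2 2 2 2 2 2 2 1 1 1) (@D3.rec (fun _ => Nat) 1 1 1 1 1 1 1 1 2 2 2 2 2 2 2 1 1 1 1 1 1 1 1 1 1 1 1 1 1 1 1 1 1 1 1 1 1 2 2 2 2 2 2 2 2 2 2 2 1 1 1) (@D3.rec (fun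 _ => Nat) 1 1 1 1 1 1 1 1 1 1 1 1 1 1 1 1 1 1 1 1 1 1 1 1 1 1 1 1 1 1 1 1 1 1 1 1 1 1 1 1 1 1 1 1 1 1 1 1 1 1 1) (@D3.rec (fun _ => Nat) 1 1 1 1 2 2 2 2 2 2 2 1 1 1 1 1 1 1 1 1 1 1 1 1 1 2 2 2 2 2 2 2 1 1 2 2 2 2 2 2 1 2 2 1 2 2 1 2 1 1 1) (@D3.rec (fun _ => Nat) 1 1 2 2 2 2 1 1 1 2 2 2 1 1 1 1 1 1 1 1 1 1 1 1 1 2 2 2 2 2 2 1 1 1 1 1 1 1 1 1 1 1 1 1 1 1 1 1 1 1 1) (@D3.rec (fun _ => Nat) 1 1 1 1 1 1 1 1 1 1 1 1 1 1 1 1 1 1 1 1 1 1 1 1 1 1 1 1 1 1 1 2 2 2 2 2 2 2 2 2 1 1 1 1 1 1 1 2 2 2 2) (@D3.rec (fun _ => Nat) 2 2 1 1 1 1 1 1 1 1 1 1 1 1 1 1 1 1 1 1 1 1 1 1 1 2 2 2 2 2 2 2 2 1 1 1 1 1 1 1 1 1 1 1 1 1 1 1 1 1 1) (@D3.rec (fun _ => Nat) 1 1 1 1 1 1 1 1 1 1 1 1 1 1 1 1 1 1 1 1 1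 1 1 1 1 1 1 1 1 1 1 1 1 1 1 1 1 1 1 2 2 2 2 2 2 1 1 1 1 1 1) (@D3.rec (fun _ => Nat) 1 1 1 1 1 1 1 1 1 1 1 1 1 1 1 1 1 1 1 1 1 1 1 1 1 1 1 1 1 1 1 1 1 1 1 1 1 1 1 1 1 1 1 1 1 1 1 2 2 2 2) (@D3.rec (fun _ => Nat) 2 2 2 2 2 2 2 2 2 2 2 2 2 1 1 1 1 1 1 1 1 1 1 1 1 2 2 2 2 2 2 2 2 2 1 1 1 1 1 1 1 1 1 1 1 1 1 1 1 1 1) (@D3.rec (fun _ => Nat) 1 1 1 1 1 1 1 1 1 1 1 1 2 2 2 2 2 2 2 2 2 2 2 1 1 1 1 1 1 1 1 1 1 1 1 1 1 1 1 1 1 1 1 1 1 1 1 1 1 1 1) (@D3.rec (fun _ => Nat) 1 1 1 1 1 1 1 1 1 1 1 1 1 1 1 1 1 1 1 1 1 1 1 1 1 1 1 1 1 1 1 1 1 1 1 1 1 1 1 1 1 2 2 2 2 2 2 2 2 2 2) (@D3.rec (fun _ => Nat) 1 1 1 1 1 1 1 1 1 1 1 1 1 1 1 1 1 1 1 1 1 1 1 1 1 2 2 2 2 2 2 2 2 2 2 2 2 1 1 1 1 1 1 1 1 1 2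 2 2 2 2) (@D3.rec (fun _ => Nat) 2 2 2 2 2 2 2 2 2 2 2 2 2 2 2 2 2 2 1 1 1 1 1 1 1 1 1 1 1 1 1 2 2 2 2 2 2 2 2 2 1 1 1 1 1 1 1 1 1 1 1) (@D3.rec (fun _ => Nat) 1 1 1 1 1 1 1 1 1 1 1 1 1 1 1 2 2 2 2 2 2 1 2 2 2 2 2 2 2 1 1 1 1 1 1 1 1 1 1 1 1 1 1 1 1 1 1 1 1 1 1) (@D3.rec (fun _ => Nat) 1 1 1 1 1 1 1 1 1 1 1 1 1 1 1 1 1 1 1 1 1 1 1 1 1 1 1 1 1 1 1 1 1 1 1 1 1 1 1 1 1 1 1 1 1 2 2 2 2 1 2) (@D3.rec (fun _ => Nat) 2 1 2 1 1 1 1 1 1 1 1 1 1 2 2 2 2 2 2 1 2 2 2 2 2 2 2 2 1 2 2 1 1 2 2 1 1 1 1 1 1 1 1 2 2 2 2 2 1 1 1) (@D3.rec (fun _ => Nat) 1 1 2 2 2 2 2 1 1 1 1 1 1 1 1 1 1 1 1 1 1 1 1 1 1 1 2 2 2 2 2 2 2 2 2 2 1 1 1 1 1 1 1 1 1 1 1 1 1 1 1) (@D3.rec (fun _ => Nat) 1 1 1 1 1 1 1 1 1 1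 1 1 1 1 1 1 1 1 1 1 1 1 1 1 1 1 1 1 1 1 1 1 1 1 1 1 1 1 1 1 1 1 1 1 1 1 1 1 1 1 1) (@D3.rec (fun _ => Nat) 1 1 1 1 1 1 1 1 1 1 1 2 2 2 2 2 2 2 2 2 2 2 2 2 1 1 1 1 1 1 1 1 1 1 1 2 2 2 2 2 2 2 2 2 2 1 1 1 1 1 1) (@D3.rec (fun _ => Nat) 1 1 1 1 1 1 1 1 1 1 1 1 1 1 1 1 1 1 1 1 1 1 1 1 1 1 1 2 2 2 2 2 2 2 2 2 2 2 1 1 1 1 1 1 1 1 1 1 1 1 1)
def lab_2 : D2 → D3 → Nat := @D2.rec (fun _ => D3 → Nat) (@D3.rec (fun _ => Nat) 1 1 1 1 1 1 1 1 1 1 1 1 1 1 1 1 1 1 1 1 1 1 1 1 1 1 1 1 1 1 1 1 1 1 1 1 1 1 1 1 1 1 1 1 1 1 1 1 1 1 1) (@D3.rec (fun _ => Nat) 1 1 1 1 1 1 1 1 1 1 1 1 1 1 2 2 2 2 2 2 2 2 2 2 1 1 1 1 1 1 1 1 1 1 1 1 1 1 1 1 1 1 1 1 1 1 1 1 1 1 1) (@D3.rec (fun _ => Nat) 1 1 1 1 1 1 1 1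 1 1 1 1 1 1 1 1 1 1 1 1 1 1 1 1 1 1 1 1 1 1 1 1 1 1 1 1 1 1 1 1 1 2 2 2 2 2 2 2 2 2 2) (@D3.rec (fun _ => Nat) 2 2 2 2 2 2 2 2 2 2 2 2 2 1 1 1 1 1 1 1 1 1 1 1 1 1 2 2 2 2 2 2 2 2 2 2 2 1 1 1 1 1 1 1 1 1 1 1 1 1 1) (@D3.rec (fun _ => Nat) 1 1 1 1 1 1 1 1 1 1 1 1 1 1 1 1 1 1 1 1 1 1 1 1 1 1 1 2 2 2 2 2 2 1 2 2 2 2 2 2 2 2 2 2 1 1 1 1 1 1 1) (@D3.rec (fun _ => Nat) 1 1 1 1 1 1 1 1 1 1 1 1 1 1 1 1 1 1 1 1 1 1 1 1 1 1 1 1 1 1 1 1 1 1 1 1 1 1 1 1 1 1 1 1 1 1 1 1 1 1 1) (@D3.rec (fun _ => Nat) 1 1 1 1 1 1 1 1 1 1 1 1 1 1 1 1 1 1 1 1 1 1 1 1 1 1 1 1 2 2 2 2 2 2 2 2 1 2 2 1 2 2 1 1 1 1 1 1 1 1 1) (@D3.rec (fun _ => Nat) 1 1 1 1 1 1 1 1 1 1 1 1 1 1 1 1 1 2 2 2 2 2 2 2 2 2 2 2 2 2 2 2 1 1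 1 1 1 1 1 1 1 2 2 2 2 2 2 2 2 2 2) (@D3.rec (fun _ => Nat) 2 2 2 2 2 2 2 2 2 2 2 2 2 2 2 2 2 1 1 1 1 1 1 1 1 1 1 1 1 1 1 1 2 2 2 1 2 2 2 2 2 2 2 1 1 1 1 1 1 1 1) (@D3.rec (fun _ => Nat) 1 1 1 1 1 1 1 1 1 1 1 1 1 1 1 1 1 1 1 2 2 2 2 2 2 2 1 2 2 2 2 1 1 1 1 1 1 1 1 1 1 1 1 1 1 1 1 1 1 1 1) (@D3.rec (fun _ => Nat) 1 1 1 1 1 1 1 1 1 1 1 1 1 1 1 1 1 1 1 1 1 1 1 1 1 1 1 1 1 1 1 1 1 1 1 1 1 1 1 1 1 1 1 1 2 2 1 2 1 1 1) (@D3.rec (fun _ => Nat) 1 2 2 2 2 2 2 2 2 1 1 2 2 2 1 1 1 2 2 2 1 1 1 1 1 1 1 1 1 1 1 1 2 2 2 2 2 2 2 2 1 1 1 1 1 1 1 1 2 2 2) (@D3.rec (fun _ => Nat) 2 2 2 2 2 1 1 1 1 1 1 1 1 1 1 1 1 1 1 1 1 1 1 1 1 1 1 1 1 1 1 1 1 2 2 2 2 2 2 2 2 2 2 2 2 2 2 1 1 1 1) (@D3.rec (fun _ =>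 Nat) 1 1 1 1 1 1 1 1 1 1 1 1 1 1 1 1 1 1 1 1 1 1 1 1 1 1 1 1 1 1 1 1 1 1 1 1 1 1 1 1 1 1 1 1 1 1 1 1 1 1 1) (@D3.rec (fun _ => Nat) 1 1 1 1 1 1 1 1 1 1 1 1 1 1 1 1 1 1 1 1 1 1 1 1 1 1 1 1 1 1 1 1 1 1 1 1 1 1 1 1 1 1 1 1 1 1 2 2 2 2 2) (@D3.rec (fun _ => Nat) 2 2 2 2 2 2 2 2 2 2 2 2 2 2 1 1 1 1 1 1 1 1 1 1 1 1 1 1 1 2 2 2 2 2 2 2 2 2 2 2 2 1 1 1 1 1 1 1 1 1 1) (@D3.rec (fun _ => Nat) 1 1 1 1 1 1 1 1 1 1 1 1 1 1 1 1 1 1 1 1 1 1 1 1 1 1 1 1 1 1 1 1 1 1 1 1 1 1 1 1 2 2 2 2 2 2 1 2 2 2 2) (@D3.rec (fun _ => Nat) 2 2 2 2 2 2 1 1 1 1 1 1 1 1 1 1 1 1 1 1 1 1 1 1 1 1 1 1 1 1 1 1 1 1 1 1 1 1 1 1 1 1 1 1 1 1 1 1 1 1 1) (@D3.rec (fun _ => Nat) 1 1 1 1 1 1 1 1 1 1 1 1 1 1 1 1 1 1 1 1 1 1 1 1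 1 1 1 1 1 1 1 1 1 1 1 1 1 1 1 1 1 1 1 1 1 1 1 1 1 1 1) (@D3.rec (fun _ => Nat) 1 1 1 1 1 1 1 1 1 1 1 1 1 1 1 2 2 2 2 2 2 2 2 2 2 1 2 2 1 2 2 1 1 1 1 1 1 1 1 1 1 1 1 1 1 1 1 1 1 1 1) (@D3.rec (fun _ => Nat) 1 1 1 1 1 1 1 1 1 1 1 1 1 1 1 1 1 1 1 1 1 1 1 1 1 1 1 1 1 1 1 1 1 1 1 1 1 1 1 1 1 1 1 1 1 1 1 1 1 1 1) (@D3.rec (fun _ => Nat) 1 1 1 1 1 1 1 1 1 1 1 1 1 1 2 2 2 2 2 2 2 2 2 2 2 2 2 2 2 2 2 2 2 2 2 2 2 2 2 2 2 1 1 1 1 1 1 1 1 1 1) (@D3.rec (fun _ => Nat) 1 1 1 1 1 1 1 1 2 2 2 2 2 1 2 2 2 2 2 2 2 2 2 2 1 1 1 1 1 1 1 1 1 1 1 1 1 1 1 1 1 1 1 1 1 1 1 1 1 1 1) (@D3.rec (fun _ => Nat) 1 1 1 1 1 1 1 1 1 1 1 1 1 1 1 1 1 1 1 1 1 1 1 1 1 1 2 2 2 2 2 2 2 2 2 2 1 2 2 2 2 2 2 2 2 1 2 1 1 1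 1) (@D3.rec (fun _ => Nat) 1 1 1 1 1 1 1 1 1 1 1 1 1 1 1 1 1 1 1 1 1 1 1 1 1 1 1 1 1 1 1 1 1 1 1 1 1 1 1 1 1 1 1 1 1 1 1 1 1 1 1) (@D3.rec (fun _ => Nat) 1 1 1 1 1 1 1 1 1 1 1 1 1 1 1 1 1 1 1 1 1 1 1 1 1 1 1 1 1 1 1 1 1 1 1 1 1 1 1 1 1 2 2 2 1 2 2 2 2 2 2) (@D3.rec (fun _ => Nat) 1 2 2 2 1 1 1 1 1 1 1 1 1 1 1 1 1 1 1 1 1 1 1 1 1 1 1 2 2 2 2 2 2 2 2 2 2 2 2 2 2 1 1 1 1 1 1 1 1 1 1)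
def lab_3 : D2 → D3 → Nat := @D2.rec (fun _ => D3 → Nat) (@D3.rec (fun _ => Nat) 2 2 2 2 2 2 2 2 2 2 2 2 2 2 2 2 2 1 2 1 1 1 1 1 1 1 1 1 1 2 2 2 2 1 1 1 1 1 1 1 1 1 1 1 1 1 1 2 2 2 2) (@D3.rec (fun _ => Nat) 1 2 2 1 1 1 1 1 1 1 1 1 1 1 1 1 1 1 1 1 1 1 1 1 1 1 1 1 1 1 1 1 1 1 1 1 1 1 1 1 1 1 1 1 1 1 1 2 1 1 2) (@D3.rec (fun _ => Nat) 2 2 2 2 2 2 1 1 1 2 2 2 2 2 1 1 1 1 1 2 2 2 2 2 1 1 1 1 1 1 1 1 1 1 1 1 1 1 1 1 1 1 2 2 2 2 2 2 2 2 2) (@D3.rec (fun _ => Nat) 2 2 2 2 1 1 1 1 1 1 1 1 1 1 1 2 2 2 2 2 2 2 2 2 2 1 1 1 1 1 1 1 1 1 1 1 1 1 1 1 1 1 1 1 1 1 1 1 1 1 1) (@D3.rec (fun _ => Nat) 1 1 1 1 1 1 1 1 1 1 1 1 1 1 1 1 1 2 2 2 2 2 2 2 2 2 2 2 1 2 2 2 2 2 2 2 2 2 2 1 1 1 1 1 1 1 1 1 1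 1 1) (@D3.rec (fun _ => Nat) 1 1 1 1 1 1 1 1 1 1 1 1 1 1 1 1 1 1 1 1 1 1 1 1 1 1 1 1 1 1 1 1 1 1 1 1 1 1 1 1 1 1 1 1 1 1 1 1 1 1 1) (@D3.rec (fun _ => Nat) 1 1 1 1 1 1 1 1 1 1 1 1 1 1 1 1 1 1 1 1 1 1 1 1 1 1 1 1 1 1 1 1 1 1 1 1 1 1 1 1 1 1 1 1 1 1 1 1 1 1 1) (@D3.rec (fun _ => Nat) 1 1 1 1 1 1 1 1 1 1 1 1 1 1 1 1 1 1 1 1 1 1 1 1 1 1 1 2 2 2 2 2 2 2 2 2 2 2 2 2 2 2 2 2 2 2 2 2 2 2 2) (@D3.rec (fun _ => Nat) 2 2 1 1 1 1 1 1 1 1 1 1 1 1 1 1 1 1 1 1 1 1 1 1 1 2 2 2 2 2 2 2 2 1 2 2 2 2 2 2 2 2 2 2 1 1 1 1 1 1 1) (@D3.rec (fun _ => Nat) 1 1 1 1 1 1 1 1 1 1 1 1 1 1 1 1 1 1 1 1 1 1 1 1 1 1 1 1 1 1 1 1 1 1 1 1 1 1 1 1 1 1 1 1 1 1 1 1 1 1 1) (@D3.rec (fun _ => Nat) 1 1 1 1 1 1 1 1 1 1 1 1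 1 1 2 2 2 2 2 2 2 2 2 2 1 2 2 2 2 2 2 2 2 2 2 1 2 2 1 2 2 1 1 1 1 1 1 1 1 1 1) (@D3.rec (fun _ => Nat) 1 1 1 1 1 1 1 1 1 1 1 1 1 1 1 1 1 1 1 1 1 1 1 1 1 1 1 1 1 1 1 1 1 1 1 1 1 1 1 1 1 1 1 1 1 1 1 1 1 1 1) (@D3.rec (fun _ => Nat) 1 1 1 1 1 1 1 1 1 1 1 1 1 1 1 1 1 1 1 1 1 1 1 1 1 1 1 1 1 1 1 1 1 1 1 1 1 1 1 1 1 1 1 1 1 1 1 1 1 1 1) (@D3.rec (fun _ => Nat) 1 1 1 1 1 1 1 1 1 1 1 1 1 1 1 1 1 1 1 1 1 1 1 1 1 1 1 1 1 1 1 1 1 1 1 1 1 1 1 1 2 2 2 2 2 2 1 2 2 2 2) (@D3.rec (fun _ => Nat) 2 2 2 1 2 2 2 1 2 2 2 1 2 1 1 1 1 1 1 1 1 1 1 1 1 1 1 1 1 1 1 1 1 1 1 1 1 1 1 1 1 1 1 1 1 1 1 1 1 1 1) (@D3.rec (fun _ => Nat) 1 1 1 1 1 1 1 1 1 1 1 1 1 1 1 1 1 1 1 1 1 1 1 1 1 1 1 1 1 1 1 1 1 1 1 1 1 1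 1 1 1 1 1 1 1 1 1 1 1 1 1) (@D3.rec (fun _ => Nat) 1 1 1 1 1 1 1 1 1 1 1 1 1 1 1 1 1 2 2 2 2 2 2 2 2 2 2 2 2 2 2 2 2 2 2 2 1 2 2 2 2 2 2 1 1 1 1 1 1 1 1) (@D3.rec (fun _ => Nat) 1 1 1 1 1 1 1 1 1 1 1 2 2 2 2 2 1 2 2 2 2 2 2 2 2 2 2 1 2 1 1 1 1 1 1 1 1 1 1 1 1 1 1 1 1 1 1 1 1 1 1) (@D3.rec (fun _ => Nat) 1 1 1 1 1 1 1 1 1 1 1 1 1 1 1 1 1 1 1 1 1 1 1 1 1 1 1 1 1 1 1 1 1 2 2 2 2 2 2 2 2 1 2 2 2 2 2 2 1 2 2) (@D3.rec (fun _ => Nat) 2 2 1 1 1 1 1 1 1 1 1 1 1 1 1 1 1 1 1 1 1 1 1 1 1 1 1 1 1 1 1 1 1 1 1 1 1 1 1 1 1 1 1 1 1 1 1 1 1 1 1) (@D3.rec (fun _ => Nat) 1 1 1 1 1 1 1 1 1 1 1 1 1 1 1 1 1 1 1 1 1 1 1 1 1 1 1 1 1 1 1 1 1 1 1 1 1 1 1 1 1 1 1 1 1 1 1 1 1 1 1) (@D3.rec (fun _ => Nat) 2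 2 2 1 2 2 2 1 2 2 2 1 1 1 1 1 1 1 1 1 1 1 1 1 1 1 1 1 1 1 2 2 2 2 2 2 2 2 2 2 2 2 2 1 1 1 1 1 1 1 1) (@D3.rec (fun _ => Nat) 1 1 1 2 2 2 2 2 2 2 2 2 2 2 1 1 1 1 1 1 1 1 1 1 1 1 1 1 1 1 1 1 1 2 2 2 2 2 2 2 1 1 1 1 1 2 2 2 2 2 2) (@D3.rec (fun _ => Nat) 2 2 1 1 1 1 1 1 1 2 2 2 2 2 2 1 1 1 1 1 1 1 1 1 1 1 1 1 1 1 1 1 1 1 1 1 1 1 1 1 1 1 1 2 2 2 2 2 2 2 2) (@D3.rec (fun _ => Nat) 2 2 2 2 2 2 2 2 2 2 1 1 1 1 1 1 1 1 1 1 1 1 1 1 1 1 1 1 2 2 2 2 2 1 2 2 2 2 2 2 2 2 2 2 1 1 1 1 1 1 1) (@D3.rec (fun _ => Nat) 1 1 1 1 1 1 1 1 1 1 1 1 1 1 1 1 1 1 1 1 1 1 1 1 1 1 1 1 1 1 1 1 1 1 1 1 1 1 1 1 1 1 1 1 1 1 1 1 1 1 1) (@D3.rec (fun _ => Nat) 1 1 1 1 1 2 2 2 2 2 2 1 2 2 2 2 2 2 2 2 2 2 1 2 2 2 2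 2 2 2 2 2 2 1 2 2 1 2 2 1 1 1 1 1 1 1 1 1 1 1 1)
def lab_4 : D2 → D3 → Nat := @D2.rec (fun _ => D3 → Nat) (@D3.rec (fun _ => Nat) 1 1 1 1 1 1 1 1 1 1 1 1 1 1 1 1 1 1 1 1 1 1 1 1 1 1 1 1 1 1 1 1 1 1 1 1 1 1 1 1 1 1 1 1 1 1 1 1 1 1 1) (@D3.rec (fun _ => Nat) 1 1 1 1 1 1 1 1 1 1 1 1 1 1 1 1 1 1 1 1 1 1 1 1 1 1 1 1 1 1 1 1 1 1 1 1 1 1 1 1 1 1 1 1 1 1 1 1 1 1 1) (@D3.rec (fun _ => Nat) 1 1 1 1 1 1 1 1 1 1 1 1 1 1 1 1 1 1 1 1 1 1 1 1 1 1 1 1 1 1 1 1 1 1 1 1 1 1 1 1 1 1 1 1 1 1 1 1 1 1 1) (@D3.rec (fun _ => Nat) 1 1 1 1 1 1 1 1 1 1 1 1 1 1 1 1 1 1 1 1 1 1 1 1 1 1 1 2 2 2 2 2 2 2 2 2 2 2 2 2 2 2 2 2 2 2 2 2 2 2 2) (@D3.rec (fun _ => Nat) 2 1 2 2 2 2 2 2 2 2 2 2 1 1 1 1 1 1 1 1 1 1 1 1 1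 1 1 1 1 1 1 1 1 1 1 1 1 1 1 1 1 1 2 2 2 1 2 2 2 2 2) (@D3.rec (fun _ => Nat) 2 2 2 1 2 2 2 2 2 2 2 2 2 2 1 2 2 1 2 2 1 1 1 1 1 1 1 1 1 1 1 1 1 1 1 1 1 1 1 1 1 1 1 1 1 1 1 1 1 1 1) (@D3.rec (fun _ => Nat) 1 1 1 1 1 1 1 1 1 1 1 1 1 1 1 1 1 1 1 1 1 1 1 1 1 1 1 1 1 1 1 1 1 1 1 1 1 1 1 1 1 1 1 1 1 1 1 1 1 1 1) (@D3.rec (fun _ => Nat) 1 1 1 1 1 1 1 1 1 1 1 1 1 1 1 1 1 2 2 2 2 2 2 2 2 2 2 1 2 2 1 2 2 2 2 2 2 2 2 2 1 2 2 2 2 2 2 2 1 2 2) (@D3.rec (fun _ => Nat) 2 1 2 2 2 1 2 1 1 1 1 1 1 1 1 1 1 1 1 1 1 1 1 1 1 1 1 1 1 1 1 1 1 1 1 1 1 1 1 1 1 1 1 1 1 1 1 1 1 1 1) (@D3.rec (fun _ => Nat) 1 1 1 1 1 1 1 1 1 1 1 1 1 1 1 1 1 1 1 1 1 1 1 1 1 1 1 1 1 1 1 1 1 1 1 1 1 1 1 1 1 1 1 1 1 1 1 1 1 1 1)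 (@D3.rec (fun _ => Nat) 1 1 1 1 1 1 1 1 1 1 1 1 1 1 1 1 1 1 1 1 1 1 1 1 1 1 1 1 1 1 1 1 1 1 1 1 1 1 1 1 1 1 1 1 1 1 1 1 1 1 1) (@D3.rec (fun _ => Nat) 1 1 1 1 1 1 1 1 1 1 1 1 1 1 1 1 1 1 1 1 1 1 1 1 1 1 1 1 1 1 1 1 1 1 1 1 1 1 1 1 1 1 1 1 1 1 1 1 1 1 1) (@D3.rec (fun _ => Nat) 1 1 1 1 1 1 1 1 1 2 2 2 2 2 2 1 2 2 2 2 2 1 2 2 2 2 2 2 1 2 2 2 1 2 1 2 1 2 2 2 2 1 1 1 1 1 1 1 1 1 1) (@D3.rec (fun _ => Nat) 1 1 1 1 1 1 1 1 1 1 1 1 1 1 1 1 1 1 1 1 1 1 1 1 1 1 1 1 1 1 1 1 1 1 1 1 1 1 1 1 1 1 1 1 1 1 1 1 1 1 1) (@D3.rec (fun _ => Nat) 1 1 1 1 1 1 1 1 1 1 1 1 1 1 1 1 1 1 1 1 1 1 1 1 1 1 1 1 1 1 1 1 1 1 1 1 1 1 1 1 1 1 1 1 1 1 1 1 1 1 1) (@D3.rec (fun _ => Nat) 1 1 1 1 1 1 1 1 1 1 1 1 1 1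 1 1 1 2 2 2 2 2 2 2 2 2 1 2 2 2 2 2 2 2 1 1 1 1 1 1 1 1 1 1 1 2 2 2 2 2 2) (@D3.rec (fun _ => Nat) 2 2 2 2 2 2 1 1 1 1 1 1 1 1 1 1 1 1 1 1 1 1 1 1 1 1 1 1 1 1 1 1 1 1 1 1 1 1 1 1 1 1 1 1 1 1 1 1 1 1 1) (@D3.rec (fun _ => Nat) 1 1 1 2 2 2 1 2 2 2 2 2 2 2 2 1 1 1 1 1 1 1 1 1 1 1 1 1 1 1 1 1 1 1 1 1 1 1 1 1 1 1 1 1 1 1 1 1 1 1 1) (@D3.rec (fun _ => Nat) 1 1 1 1 1 1 1 1 1 1 1 1 1 1 1 1 1 1 1 1 1 1 1 1 1 1 1 1 1 1 1 1 1 1 1 1 1 1 1 1 1 1 1 1 1 1 1 1 1 2 2) (@D3.rec (fun _ => Nat) 1 2 2 2 2 2 2 1 1 1 1 1 1 1 1 1 1 1 1 1 1 1 1 1 1 2 2 2 2 2 2 2 2 2 2 2 2 2 1 1 1 1 1 1 1 2 2 2 2 2 2) (@D3.rec (fun _ => Nat) 2 2 1 1 1 1 1 1 1 2 2 2 2 2 2 2 2 2 2 2 1 1 1 1 2 2 2 2 2 2 2 2 2 2 2 1 1 1 1 1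 1 1 1 2 2 2 2 2 2 2 2) (@D3.rec (fun _ => Nat) 2 2 1 1 1 1 1 1 1 1 1 1 1 1 1 1 1 1 1 1 1 1 1 1 1 1 1 1 1 1 1 1 1 1 1 1 1 1 1 1 1 1 1 1 2 2 2 2 2 2 2) (@D3.rec (fun _ => Nat) 2 2 2 1 2 2 2 2 2 1 2 2 2 2 2 2 2 2 2 2 1 1 1 1 1 1 1 1 1 1 1 1 1 1 1 1 1 1 1 1 1 1 2 2 2 2 2 2 2 2 1) (@D3.rec (fun _ => Nat) 2 2 2 2 2 2 2 2 2 2 1 2 2 1 2 2 1 1 1 1 1 1 1 1 1 1 1 1 1 1 1 1 1 1 1 1 1 1 1 1 1 1 1 1 1 1 1 1 1 1 1) (@D3.rec (fun _ => Nat) 1 1 1 1 1 1 1 1 1 1 1 1 1 1 1 1 1 1 1 1 1 1 1 1 1 1 1 1 1 1 1 1 1 1 1 1 1 1 1 1 1 1 1 1 1 1 1 1 1 1 1) (@D3.rec (fun _ => Nat) 1 1 1 1 2 2 2 2 2 2 2 2 2 2 1 2 2 2 2 2 2 2 2 2 2 1 2 2 1 2 2 2 2 2 2 2 2 2 1 2 2 2 2 2 2 2 1 2 2 2 1) (@D3.rec (fun _ => Nat) 2 2 2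 1 2 1 1 1 1 1 1 1 1 1 1 1 1 1 1 1 1 1 1 1 1 1 1 1 1 1 1 1 1 1 1 1 1 1 1 1 1 1 1 1 1 1 1 1 1 1 1)
def lab_5 : D2 → D3 → Nat := @D2.rec (fun _ => D3 → Nat) (@D3.rec (fun _ => Nat) 1 1 1 1 1 1 1 1 1 1 1 1 1 1 1 1 1 1 1 1 1 1 1 1 1 1 1 1 1 1 1 1 1 1 1 1 1 1 1 1 1 1 1 1 1 1 1 1 1 1 1) (@D3.rec (fun _ => Nat) 1 1 1 1 1 1 1 1 1 1 1 1 1 1 1 1 1 1 1 1 1 1 1 1 1 1 1 1 1 1 1 1 1 1 1 1 1 1 1 1 1 1 1 1 1 1 1 1 1 1 1) (@D3.rec (fun _ => Nat) 1 1 1 1 1 1 1 1 1 1 1 1 1 1 1 1 1 1 1 1 1 1 1 1 1 1 1 1 1 1 1 1 1 1 1 1 1 1 1 1 1 1 1 1 1 1 1 1 1 1 1) (@D3.rec (fun _ => Nat) 1 1 1 1 1 1 1 1 1 1 1 1 1 1 1 1 1 1 1 1 1 1 1 1 1 1 1 1 1 1 1 1 1 1 1 1 1 1 1 1 1 1 1 1 1 1 1 1 1 1 1) (@D3.rec (fun _ => Nat) 1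 1 1 1 1 1 1 1 1 1 1 1 1 1 1 2 2 2 2 2 2 2 2 2 2 2 2 2 2 2 2 2 2 2 2 2 2 2 2 2 2 1 1 1 1 1 1 1 1 1 1) (@D3.rec (fun _ => Nat) 1 1 1 1 1 1 1 1 1 1 1 1 1 1 1 1 1 1 2 2 2 2 2 2 2 2 1 2 2 1 2 2 2 2 2 2 2 2 2 1 2 2 2 2 2 2 2 1 2 2 2) (@D3.rec (fun _ => Nat) 1 2 2 2 1 2 1 1 1 1 1 1 1 1 1 1 1 1 1 1 1 1 1 1 1 1 1 1 1 1 1 1 1 1 1 1 1 1 1 1 1 1 1 1 1 1 1 1 1 1 1) (@D3.rec (fun _ => Nat) 1 1 1 1 1 1 1 1 1 1 1 1 1 1 1 1 1 1 1 1 1 1 1 1 1 1 1 1 1 1 1 1 1 1 1 1 1 1 1 1 1 1 1 1 1 1 1 1 1 1 1) (@D3.rec (fun _ => Nat) 1 1 1 1 1 1 1 1 1 1 1 1 1 1 1 1 1 1 1 1 1 1 1 1 1 1 1 1 1 1 1 1 1 1 1 1 1 2 2 2 2 2 2 2 1 2 2 2 2 2 2) (@D3.rec (fun _ => Nat) 2 1 2 2 2 1 2 2 2 1 2 2 2 2 2 2 2 2 1 2 2 2 2 2 1 2 2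 2 2 2 2 1 2 2 2 1 2 1 2 1 2 2 2 2 1 1 1 1 1 1 1) (@D3.rec (fun _ => Nat) 1 1 1 1 1 1 1 1 1 1 1 1 1 1 1 1 1 1 1 1 1 1 1 1 1 1 1 1 1 1 1 1 1 1 1 1 1 1 1 1 1 1 1 1 1 1 1 1 1 1 1) (@D3.rec (fun _ => Nat) 1 1 1 1 1 1 1 1 1 1 1 1 1 1 1 1 1 1 1 1 1 1 1 1 1 1 1 1 1 1 1 1 1 1 1 1 1 1 1 1 1 1 1 1 1 1 1 1 1 1 1) (@D3.rec (fun _ => Nat) 1 1 1 1 1 1 1 1 1 1 1 1 1 1 1 1 1 1 1 1 1 1 1 1 1 1 1 1 1 1 1 1 1 1 1 1 1 1 1 1 1 1 1 1 1 1 1 1 1 1 1) (@D3.rec (fun _ => Nat) 1 1 1 1 1 1 1 1 1 1 1 1 1 1 1 1 1 1 1 1 1 1 1 1 1 1 1 1 1 1 1 1 1 1 1 1 1 1 1 1 1 1 1 1 1 1 1 1 1 1 1) (@D3.rec (fun _ => Nat) 1 1 1 1 1 1 1 1 1 1 1 1 1 1 1 1 1 1 1 1 1 1 1 1 1 1 1 1 1 1 1 1 1 1 1 1 1 1 1 1 1 1 1 1 1 1 1 1 1 1 1) (@D3.rec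 (fun _ => Nat) 1 1 1 1 1 1 1 1 1 1 2 2 2 2 2 2 1 2 2 2 2 1 2 2 2 2 2 2 2 1 2 2 2 2 1 1 2 2 1 1 2 2 2 2 2 1 1 1 1 1 1) (@D3.rec (fun _ => Nat) 1 1 1 1 1 1 1 1 1 1 1 1 1 1 1 1 1 1 1 1 1 1 1 1 1 1 1 1 1 1 1 1 1 1 1 1 1 1 1 1 1 1 1 1 1 1 1 1 1 1 1) (@D3.rec (fun _ => Nat) 1 1 1 1 1 1 1 1 1 1 1 1 1 1 1 1 1 1 1 1 1 1 1 1 1 1 1 1 1 1 1 1 1 1 1 1 1 1 1 1 1 1 1 1 1 1 1 1 1 1 1) (@D3.rec (fun _ => Nat) 1 1 1 1 1 1 1 1 1 1 1 1 1 1 1 1 1 1 1 1 1 1 1 1 1 1 1 1 1 1 1 2 1 2 2 2 2 2 2 2 1 1 1 1 1 1 1 1 1 1 1) (@D3.rec (fun _ => Nat) 1 1 1 1 1 1 1 1 1 1 1 1 1 1 1 1 1 1 1 1 1 1 1 1 1 1 1 1 2 2 2 2 2 2 2 1 1 1 1 1 1 1 1 1 1 1 1 1 1 1 1) (@D3.rec (fun _ => Nat) 1 1 1 1 1 1 1 1 1 1 1 1 1 1 1 1 1 1 1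 1 1 1 1 1 1 1 1 1 1 1 1 1 1 1 1 1 1 1 1 1 1 1 1 1 1 1 1 1 1 1 1) (@D3.rec (fun _ => Nat) 1 1 1 1 1 1 1 1 1 1 1 2 2 2 2 2 2 1 1 1 1 1 1 1 1 1 1 1 1 1 1 1 1 2 2 2 2 2 2 2 2 1 1 2 2 2 2 2 2 2 1) (@D3.rec (fun _ => Nat) 2 2 2 2 2 2 2 2 1 1 1 1 1 1 1 1 1 1 1 1 1 1 1 1 1 1 1 1 1 1 1 1 1 1 1 1 1 1 1 1 1 1 1 1 1 1 1 2 2 2 2) (@D3.rec (fun _ => Nat) 2 1 2 2 2 2 2 2 2 2 2 2 2 2 1 2 2 2 2 2 2 2 1 1 1 1 1 1 1 1 1 1 1 1 1 1 1 1 1 1 1 1 1 1 1 2 2 2 2 2 2) (@D3.rec (fun _ => Nat) 1 2 2 1 2 2 2 2 2 2 2 2 2 2 2 2 2 2 2 2 1 2 2 2 1 2 2 2 1 2 1 1 1 1 1 1 1 1 1 1 1 1 1 1 1 1 1 1 1 1 1) (@D3.rec (fun _ => Nat) 1 1 1 1 1 1 1 1 1 1 1 1 1 1 1 1 1 1 1 1 1 1 1 1 1 1 1 1 1 1 1 1 1 1 1 1 1 1 1 1 1 1 1 1 1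 1 1 1 1 1 1) (@D3.rec (fun _ => Nat) 1 1 1 1 1 1 1 1 1 1 1 1 1 1 1 1 1 1 1 1 1 1 1 1 1 1 1 1 1 1 1 1 1 1 1 1 1 1 1 1 1 1 1 1 1 1 1 1 1 1 1)
def lab_6 : D2 → D3 → Nat := @D2.rec (fun _ => D3 → Nat) (@D3.rec (fun _ => Nat) 1 1 1 1 1 1 1 1 2 2 2 2 2 2 2 2 2 2 1 2 2 1 2 2 2 2 2 2 2 2 2 1 2 2 2 2 2 2 2 1 2 2 2 1 2 2 2 1 2 2 2) (@D3.rec (fun _ => Nat) 2 2 2 2 2 2 2 1 2 2 2 2 2 1 2 2 2 2 2 2 1 2 2 2 1 2 1 2 1 2 2 2 2 1 1 1 1 1 1 1 1 1 1 1 1 1 1 1 1 1 1) (@D3.rec (fun _ => Nat) 1 1 1 1 1 1 1 1 1 1 1 1 1 1 1 1 1 1 1 1 1 1 1 1 1 1 1 1 1 1 1 1 1 1 1 1 1 1 1 1 1 1 1 1 1 1 1 1 1 1 1) (@D3.rec (fun _ => Nat) 1 1 1 1 1 1 1 1 1 1 1 1 1 1 1 1 1 1 1 1 1 1 1 1 1 1 1 1 1 1 1 1 1 1 1 1 1 1 1 1 1 1 1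 1 1 1 1 1 1 1 1) (@D3.rec (fun _ => Nat) 1 1 1 1 1 1 1 1 1 1 1 1 1 1 1 1 1 1 1 1 1 1 1 1 1 1 1 1 1 1 1 1 1 1 1 1 1 1 1 1 1 1 1 1 1 1 1 1 1 1 1) (@D3.rec (fun _ => Nat) 1 1 1 1 1 1 1 1 1 1 1 1 1 1 1 1 1 1 1 1 1 1 1 1 1 1 1 1 1 1 1 1 1 1 1 1 1 1 1 1 1 1 1 1 1 1 1 1 1 1 1) (@D3.rec (fun _ => Nat) 1 1 1 1 1 1 1 1 1 1 1 1 1 1 1 1 1 1 1 1 1 1 1 1 1 1 1 1 1 1 1 1 1 1 1 1 1 1 1 1 1 1 1 1 1 1 1 1 1 1 1) (@D3.rec (fun _ => Nat) 1 1 1 1 1 1 1 1 1 1 1 1 1 1 1 1 1 1 1 1 1 1 1 1 1 1 1 1 1 1 1 1 1 1 1 1 1 1 1 1 1 1 1 1 1 1 1 1 1 1 1) (@D3.rec (fun _ => Nat) 1 1 1 1 1 1 1 1 1 1 1 1 1 1 1 1 1 1 1 1 1 1 1 1 1 1 1 1 1 1 1 1 1 1 1 1 2 2 2 2 2 2 2 2 2 2 2 2 2 2 2) (@D3.rec (fun _ => Nat) 2 1 1 1 1 1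 1 1 1 1 1 1 1 1 1 1 1 1 1 1 1 1 1 1 1 1 2 2 2 2 2 2 2 1 2 2 2 2 2 2 2 2 2 2 2 2 2 1 2 2 2) (@D3.rec (fun _ => Nat) 2 2 2 2 2 2 2 2 1 2 2 2 1 2 2 1 2 2 2 2 1 1 1 1 1 1 1 1 1 1 1 1 1 1 1 1 1 1 1 1 1 1 1 1 1 1 1 1 1 1 1) (@D3.rec (fun _ => Nat) 1 1 1 1 1 1 1 1 1 1 1 1 1 1 1 1 1 1 1 1 1 1 1 1 1 1 1 1 1 1 1 1 1 1 1 1 1 1 1 1 1 1 1 1 1 1 1 1 1 1 1) (@D3.rec (fun _ => Nat) 1 1 1 1 1 1 1 1 1 1 1 1 1 1 1 1 1 1 1 1 1 1 1 1 1 1 1 1 1 1 1 1 1 1 1 1 1 1 1 1 1 1 1 1 1 1 1 1 1 1 1) (@D3.rec (fun _ => Nat) 1 1 1 1 1 1 1 1 1 1 1 1 1 1 1 1 1 1 1 1 1 1 1 1 1 1 1 1 1 1 1 1 1 1 1 1 1 1 1 1 1 1 1 1 1 2 2 2 2 2 2) (@D3.rec (fun _ => Nat) 2 1 2 2 2 2 2 1 2 2 2 2 2 1 2 2 2 1 2 2 2 1 2 2 2 2 2 1 2 2 2 1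 2 2 2 1 2 2 2 2 1 2 2 2 1 2 2 2 2 2 2) (@D3.rec (fun _ => Nat) 1 2 1 2 2 2 2 1 1 1 2 2 1 1 2 2 2 2 2 1 1 1 1 1 1 1 1 1 1 1 1 1 1 1 1 1 1 1 1 1 1 1 1 1 1 1 1 1 1 1 1) (@D3.rec (fun _ => Nat) 1 1 1 1 1 1 1 1 1 1 1 1 1 1 1 1 1 1 1 1 1 1 1 1 1 1 1 1 1 1 1 1 1 1 1 1 1 1 1 1 1 1 1 1 1 1 1 1 1 1 1) (@D3.rec (fun _ => Nat) 1 1 1 1 1 1 1 1 1 1 1 1 1 1 1 1 1 1 1 1 1 1 1 1 1 1 1 1 1 1 1 1 1 1 1 1 1 1 1 1 1 1 1 1 1 1 1 1 1 1 1) (@D3.rec (fun _ => Nat) 1 1 1 1 1 1 1 1 1 1 1 1 1 1 1 1 1 1 1 1 1 1 1 1 1 1 1 1 1 1 1 1 1 1 1 1 1 1 1 1 1 1 1 1 1 1 1 1 1 1 1) (@D3.rec (fun _ => Nat) 1 1 1 1 1 1 1 1 1 1 1 1 1 1 1 1 1 1 1 1 1 1 1 1 1 1 1 1 1 1 1 1 1 1 1 1 1 1 1 1 1 1 1 1 1 1 1 1 1 1 1) (@D3.rec (fun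 _ => Nat) 1 1 1 1 1 1 1 1 1 1 1 1 1 1 1 1 1 1 1 1 1 1 1 1 1 1 1 1 1 1 1 1 1 1 1 1 1 1 1 1 1 1 1 1 1 1 1 1 1 1 1) (@D3.rec (fun _ => Nat) 1 1 1 1 1 1 1 1 1 1 1 1 1 1 1 1 1 1 1 1 1 1 1 1 1 1 1 1 1 1 1 1 1 1 1 1 1 1 1 1 1 1 1 1 1 1 1 1 1 1 1) (@D3.rec (fun _ => Nat) 1 1 1 1 1 1 1 1 1 1 1 1 2 2 2 2 2 2 1 2 2 2 2 1 1 2 2 2 2 2 2 2 2 1 1 2 2 2 2 2 1 1 2 2 2 1 1 2 2 2 2) (@D3.rec (fun _ => Nat) 2 2 1 1 1 1 1 1 1 1 1 1 1 1 1 1 1 1 1 1 1 1 1 1 1 1 1 1 1 1 1 1 1 1 1 1 1 1 1 1 1 1 1 1 1 1 1 1 1 1 1) (@D3.rec (fun _ => Nat) 1 1 1 1 1 1 1 1 1 1 1 1 1 1 1 1 1 1 1 1 1 1 1 1 1 1 1 1 1 1 1 1 1 1 1 1 1 1 1 1 1 1 1 1 1 1 1 1 1 1 1) (@D3.rec (fun _ => Nat) 1 1 1 1 1 1 1 1 1 1 1 1 1 1 1 1 1 1 1 1 1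 1 1 1 1 1 1 1 1 1 1 1 1 1 1 1 1 1 1 1 1 1 1 1 1 1 1 1 1 1 1) (@D3.rec (fun _ => Nat) 1 1 1 1 2 2 1 1 1 1 1 1 1 1 1 1 1 1 1 1 1 1 1 1 1 1 1 1 1 1 1 1 1 1 1 2 2 2 2 2 1 1 1 1 1 1 1 1 1 1 1)
def lab_7 : D2 → D3 → Nat := @D2.rec (fun _ => D3 → Nat) (@D3.rec (fun _ => Nat) 1 1 1 1 1 1 1 1 1 1 1 1 1 1 1 1 1 1 1 1 1 1 1 1 1 1 1 1 1 1 1 1 1 1 1 1 1 1 1 1 1 1 1 1 1 1 1 1 1 1 1) (@D3.rec (fun _ => Nat) 1 1 1 1 1 1 1 2 2 2 2 2 1 1 1 1 1 1 1 1 1 1 1 1 2 2 2 1 2 2 2 2 2 2 1 1 1 1 1 1 1 1 1 1 1 1 1 1 1 1 1) (@D3.rec (fun _ => Nat) 1 1 1 1 1 1 1 1 1 1 1 1 1 1 1 1 1 1 1 1 1 1 1 1 1 1 1 2 2 2 2 2 2 2 2 2 2 2 2 2 2 2 1 1 1 1 1 1 1 1 1) (@D3.rec (fun _ => Nat) 1 1 1 1 1 1 1 1 1 1 1 1 2 2 2 2 2 2 2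 1 2 2 2 1 2 2 2 1 2 2 2 2 2 2 2 2 2 2 2 2 2 2 1 2 2 2 2 2 2 1 2) (@D3.rec (fun _ => Nat) 2 2 2 2 2 1 1 1 1 1 1 1 1 1 1 1 1 1 1 1 1 1 1 1 1 1 1 1 1 1 1 1 1 1 1 1 1 1 1 1 1 1 1 1 1 1 1 1 1 1 1) (@D3.rec (fun _ => Nat) 1 1 1 1 1 1 1 1 1 1 1 1 1 1 1 1 1 1 1 1 1 1 1 1 1 1 1 1 1 1 1 1 1 1 1 1 1 1 1 1 1 1 1 1 1 1 1 1 1 1 1) (@D3.rec (fun _ => Nat) 1 1 1 1 1 1 1 1 1 1 1 1 1 1 1 1 1 1 1 1 1 1 1 1 1 1 1 1 1 1 1 1 1 1 1 1 1 1 1 1 1 1 1 1 1 1 1 1 1 1 1) (@D3.rec (fun _ => Nat) 1 1 1 1 1 1 1 1 1 1 1 1 1 1 1 1 1 1 1 1 1 1 1 1 1 1 1 1 1 1 1 1 1 1 1 1 1 1 1 1 2 2 2 2 2 2 2 1 2 2 2) (@D3.rec (fun _ => Nat) 2 1 2 2 1 2 2 2 1 2 2 2 2 2 2 2 2 2 2 1 2 2 2 2 2 1 2 2 2 2 2 2 1 2 2 2 1 2 1 2 1 2 2 2 2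 1 2 2 2 2 2) (@D3.rec (fun _ => Nat) 2 2 1 2 2 2 2 2 1 2 2 2 1 2 2 2 2 1 2 2 2 1 2 2 2 2 2 2 2 1 2 1 2 2 2 2 1 1 2 1 2 2 2 2 1 1 1 1 1 1 1) (@D3.rec (fun _ => Nat) 1 1 1 1 1 1 1 1 1 1 1 1 1 1 1 1 1 1 1 1 1 1 1 1 1 1 1 1 1 1 1 1 1 1 1 1 1 1 1 1 1 1 1 1 1 1 1 1 1 1 1) (@D3.rec (fun _ => Nat) 1 1 1 1 1 1 1 1 1 1 1 1 1 1 1 1 1 1 1 1 1 1 1 1 1 1 1 1 1 1 1 1 1 1 1 1 1 1 1 1 1 1 1 1 1 1 1 1 1 1 1) (@D3.rec (fun _ => Nat) 1 1 1 1 1 1 1 1 1 1 1 1 1 1 1 1 1 1 1 1 1 1 1 1 1 1 1 1 1 1 1 1 1 1 1 1 1 1 1 1 1 1 1 1 1 1 1 1 1 1 1) (@D3.rec (fun _ => Nat) 1 1 1 1 1 1 1 1 1 1 1 1 1 1 1 1 1 1 1 1 1 1 1 1 1 1 1 1 1 1 1 1 1 1 1 1 1 1 1 1 1 1 1 1 1 1 1 1 1 1 1) (@D3.rec (fun _ => Nat) 1 1 1 1 1 1 1 1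 1 1 1 1 1 1 1 1 1 1 1 1 1 1 1 1 1 1 1 1 1 1 1 1 1 1 1 1 1 1 1 1 1 1 1 1 1 1 1 1 1 1 1) (@D3.rec (fun _ => Nat) 1 1 1 1 1 1 1 1 1 1 1 1 1 1 1 1 1 1 1 1 1 1 1 1 1 1 1 1 1 1 1 1 1 1 1 1 1 1 1 1 1 1 1 1 1 1 1 1 1 1 1) (@D3.rec (fun _ => Nat) 1 1 1 1 1 1 1 1 1 1 1 1 1 1 1 1 1 1 1 1 1 1 1 1 1 1 1 1 1 1 1 1 1 1 1 1 1 1 1 1 1 1 1 1 1 1 1 1 1 1 1) (@D3.rec (fun _ => Nat) 1 1 1 1 1 1 1 1 1 1 1 1 1 1 1 1 1 1 1 1 1 1 1 1 1 1 1 1 1 1 1 1 1 1 1 1 1 1 1 1 1 1 1 1 1 1 1 1 1 1 1) (@D3.rec (fun _ => Nat) 1 1 1 1 1 1 1 1 1 1 1 1 1 1 1 1 1 1 1 1 1 1 1 1 1 1 1 1 1 1 1 1 1 1 1 1 1 1 1 1 1 1 1 1 1 1 2 2 2 2 1) (@D3.rec (fun _ => Nat) 1 1 1 1 1 1 1 1 1 1 1 1 1 1 1 1 1 1 1 1 2 2 2 2 2 2 2 2 2 2 2 2 2 2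 2 2 2 2 2 1 2 2 2 2 2 2 2 2 2 2 2) (@D3.rec (fun _ => Nat) 2 1 2 2 2 2 1 2 1 2 2 2 1 1 1 1 1 1 1 1 1 1 1 1 1 1 1 1 1 1 1 1 1 1 1 1 1 1 1 1 1 1 1 1 1 1 1 1 1 1 1) (@D3.rec (fun _ => Nat) 1 1 1 1 1 1 1 1 1 1 1 1 1 1 1 1 1 1 1 1 1 1 1 1 1 1 1 1 1 1 1 1 1 1 1 1 1 1 1 1 1 1 1 1 1 1 1 1 1 1 1) (@D3.rec (fun _ => Nat) 1 1 1 1 1 1 1 1 1 1 1 1 1 1 1 1 1 1 1 1 1 1 1 1 1 1 1 1 1 1 1 1 1 1 1 1 1 1 1 1 1 1 1 1 1 1 1 1 1 1 1) (@D3.rec (fun _ => Nat) 1 1 1 1 1 1 1 1 1 1 1 1 1 1 1 1 1 1 1 1 1 1 1 1 1 1 1 1 1 1 1 1 1 1 1 1 1 1 1 1 1 1 1 1 1 1 1 1 1 1 1) (@D3.rec (fun _ => Nat) 1 1 1 1 1 1 1 1 1 1 1 1 1 1 1 1 1 1 1 1 1 1 1 1 1 1 1 1 1 1 1 1 1 2 2 2 2 2 2 2 1 2 2 2 1 2 2 2 2 2 2) (@D3.rec (fun _ =>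 Nat) 1 2 2 2 2 2 2 2 1 2 2 2 1 2 2 2 1 2 1 2 1 2 2 2 2 1 2 2 2 1 2 1 2 2 2 2 2 1 2 2 2 2 2 1 1 2 2 1 1 2 2) (@D3.rec (fun _ => Nat) 2 2 2 1 1 2 2 1 1 2 2 2 2 2 2 1 1 1 1 1 1 1 1 1 1 1 1 1 1 1 1 1 1 1 1 1 1 1 1 1 1 1 1 1 1 1 1 1 1 1 1)
def lab_8 : D2 → D3 → Nat := @D2.rec (fun _ => D3 → Nat) (@D3.rec (fun _ => Nat) 1 1 1 1 1 1 1 1 1 1 1 1 1 1 1 1 1 1 1 1 1 1 1 1 1 1 1 1 1 1 1 1 1 1 1 1 1 1 1 1 1 1 1 1 1 1 1 1 1 1 1) (@D3.rec (fun _ => Nat) 1 1 1 1 1 1 1 1 1 1 1 1 1 1 1 1 1 1 1 1 1 1 1 1 1 1 1 1 1 1 1 1 1 1 1 1 1 1 1 1 1 1 1 1 1 1 1 1 1 1 1) (@D3.rec (fun _ => Nat) 1 1 1 1 1 1 1 1 1 1 1 1 1 1 1 1 1 1 1 1 1 1 1 1 1 1 1 1 1 1 1 1 1 1 1 1 1 1 1 1 1 1 1 1 1 1 1 1 1 1 1) (@D3.rec (fun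 _ => Nat) 1 1 1 1 1 1 1 1 1 1 1 1 1 1 1 1 1 1 1 1 1 1 1 1 1 1 1 1 1 1 1 1 1 1 1 1 1 1 1 1 1 1 1 1 1 1 1 1 1 1 1) (@D3.rec (fun _ => Nat) 1 1 1 1 1 1 1 1 1 1 1 1 1 1 1 1 1 1 1 1 1 1 1 1 1 1 1 1 1 1 1 1 1 1 1 1 1 1 1 1 1 1 1 1 1 1 1 1 1 1 1) (@D3.rec (fun _ => Nat) 1 1 1 1 1 1 1 1 1 1 1 1 1 1 1 1 1 1 1 1 1 1 1 1 1 1 1 1 1 1 1 1 1 1 1 1 1 1 1 1 1 1 1 1 1 1 1 1 1 1 1) (@D3.rec (fun _ => Nat) 1 1 1 1 1 1 1 1 1 1 1 1 1 1 1 1 1 1 1 1 1 1 1 1 1 1 1 1 1 1 1 1 1 1 1 1 1 1 1 1 1 1 1 1 1 1 1 1 1 1 1) (@D3.rec (fun _ => Nat) 1 1 1 1 1 1 1 1 1 1 1 1 1 1 1 1 1 2 2 2 2 2 2 2 2 2 1 2 2 2 1 2 2 1 2 2 2 2 2 2 1 1 1 2 2 2 2 2 1 1 1) (@D3.rec (fun _ => Nat) 2 2 2 2 2 2 1 1 1 1 1 1 1 1 1 1 1 1 1 1 1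 1 1 1 1 1 1 1 1 1 1 1 1 1 1 1 1 1 1 1 1 1 1 1 1 1 1 1 1 1 1) (@D3.rec (fun _ => Nat) 1 1 1 1 1 1 1 1 1 1 1 1 1 1 1 1 1 1 1 1 1 1 1 1 1 1 1 1 1 1 1 1 1 1 1 1 1 1 1 1 1 1 1 1 1 1 1 1 1 1 1) (@D3.rec (fun _ => Nat) 1 1 1 1 1 1 1 1 1 1 1 1 1 1 1 1 1 1 1 1 1 1 1 1 1 1 1 1 1 1 1 1 1 1 1 1 1 1 1 1 1 1 1 1 1 1 1 1 1 1 1) (@D3.rec (fun _ => Nat) 1 1 1 1 1 1 1 1 1 1 1 1 2 2 1 1 1 1 1 1 1 1 1 1 1 1 1 1 1 1 1 1 1 1 1 2 2 2 1 1 1 1 1 1 1 1 1 1 1 1 1) (@D3.rec (fun _ => Nat) 1 1 1 1 1 1 1 1 1 1 1 1 1 1 1 1 1 1 1 1 1 1 1 1 1 1 1 1 1 1 1 1 1 1 1 1 1 1 1 2 2 2 1 1 1 1 1 1 1 1 2) (@D3.rec (fun _ => Nat) 2 1 1 1 1 1 1 1 1 1 1 1 1 1 1 1 1 1 1 1 1 1 1 1 1 1 1 1 1 1 1 1 1 1 1 1 1 1 1 1 2 2 2 2 1 1 1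 1 1 1 1) (@D3.rec (fun _ => Nat) 1 1 1 1 1 1 1 1 1 2 2 2 1 2 2 2 2 2 1 2 2 2 1 2 1 2 2 1 2 2 2 2 2 2 2 2 2 2 2 2 2 2 2 2 1 2 2 2 2 2 2) (@D3.rec (fun _ => Nat) 2 2 2 2 2 2 1 1 1 1 1 1 1 1 1 1 1 1 1 1 1 1 1 1 1 1 1 1 1 1 1 1 1 1 1 1 1 1 1 1 1 1 1 1 1 1 1 1 1 1 1) (@D3.rec (fun _ => Nat) 1 1 1 1 1 1 1 1 1 1 1 1 1 1 1 1 1 1 1 1 1 1 1 1 1 1 1 1 1 1 1 1 1 1 1 1 1 1 1 1 1 1 1 1 1 1 1 1 1 1 1) (@D3.rec (fun _ => Nat) 1 1 1 1 1 1 1 1 1 1 1 1 1 1 1 1 1 1 1 1 1 1 1 1 1 1 1 1 1 1 1 1 1 1 1 1 1 1 1 1 1 1 1 1 1 1 1 1 1 1 1) (@D3.rec (fun _ => Nat) 1 1 1 1 1 1 1 1 1 1 1 1 1 1 1 1 1 1 1 1 1 1 1 1 1 1 1 1 1 1 1 1 1 1 1 1 1 1 1 1 1 1 1 1 1 1 1 1 1 1 1) (@D3.rec (fun _ => Nat) 1 1 1 1 1 1 1 1 1 1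 1 1 1 1 1 1 1 1 1 1 1 1 1 1 1 1 1 1 1 1 1 1 1 1 1 1 1 1 1 1 1 1 1 1 1 1 1 1 1 1 1) (@D3.rec (fun _ => Nat) 2 2 2 2 2 2 2 2 2 2 2 2 2 1 2 1 2 2 2 2 1 2 2 2 2 2 2 2 1 2 2 2 2 2 1 2 2 2 1 2 2 2 2 1 2 2 2 1 2 2 2) (@D3.rec (fun _ => Nat) 2 2 2 2 1 2 1 2 2 2 2 1 1 1 2 1 1 2 2 2 2 2 2 2 1 2 2 2 2 2 1 2 2 2 1 2 2 2 2 2 1 2 1 2 2 2 2 1 2 1 2) (@D3.rec (fun _ => Nat) 2 2 1 2 1 2 2 2 2 2 1 2 2 2 2 2 2 2 2 1 2 1 2 2 2 2 2 2 2 2 2 1 1 1 1 1 1 1 1 1 1 1 1 1 1 1 1 1 1 1 1) (@D3.rec (fun _ => Nat) 1 1 1 1 1 1 1 1 1 1 1 1 1 1 1 1 1 1 1 1 1 1 1 1 1 1 1 1 1 1 1 1 1 1 1 1 1 1 1 1 1 1 1 1 1 1 1 1 1 1 1) (@D3.rec (fun _ => Nat) 1 1 1 1 1 1 1 1 1 1 1 1 1 1 1 1 1 1 1 1 1 1 1 1 1 1 1 1 1 1 1 1 1 1 1 1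 1 1 1 1 1 1 1 1 1 1 1 1 1 1 1) (@D3.rec (fun _ => Nat) 1 1 1 1 1 1 1 1 1 1 1 1 1 1 1 1 1 1 1 1 1 1 1 1 1 1 1 1 1 1 1 1 1 1 1 1 1 1 1 1 1 1 1 1 1 1 1 1 1 1 1) (@D3.rec (fun _ => Nat) 1 1 1 1 1 1 1 1 1 1 1 1 1 1 1 1 1 1 1 1 1 1 1 1 1 1 1 1 1 1 1 1 1 1 1 1 1 1 1 1 1 1 1 1 1 1 1 1 1 1 1)
def lab_9 : D2 → D3 → Nat := @D2.rec (fun _ => D3 → Nat) (@D3.rec (fun _ => Nat) 1 1 1 1 1 1 1 1 1 1 1 1 1 1 1 1 1 1 1 1 1 1 1 1 1 1 1 1 1 1 1 1 1 1 1 1 1 1 1 1 1 1 1 1 1 1 1 1 1 1 1) (@D3.rec (fun _ => Nat) 1 1 1 1 1 1 1 1 1 1 1 1 1 1 1 1 1 1 1 1 1 1 1 1 1 1 1 1 1 1 1 1 1 1 1 1 1 1 1 1 1 1 1 1 1 1 1 1 1 1 1) (@D3.rec (fun _ => Nat) 1 1 1 1 1 1 1 1 1 1 1 1 1 1 1 1 1 1 1 1 1 1 1 1 1 1 1 1 1 1 1 1 1 1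 1 1 1 1 1 1 1 1 1 1 1 1 1 1 1 1 1) (@D3.rec (fun _ => Nat) 1 1 1 1 1 1 1 1 1 1 1 1 1 1 1 1 1 1 1 1 1 1 1 1 1 1 1 1 1 1 1 1 1 1 1 1 1 1 1 1 1 1 1 1 1 1 1 1 1 1 1) (@D3.rec (fun _ => Nat) 1 1 1 1 1 1 1 1 1 1 1 1 1 1 1 1 1 1 1 1 1 1 1 1 1 1 1 1 1 1 1 1 1 1 1 1 1 1 1 1 1 1 1 1 1 1 1 1 1 1 1) (@D3.rec (fun _ => Nat) 1 1 1 1 1 1 1 1 1 1 1 1 1 1 1 1 1 1 1 1 1 1 1 1 1 1 1 1 1 1 1 1 1 1 1 1 1 1 1 1 1 1 1 1 1 1 1 1 1 1 1) (@D3.rec (fun _ => Nat) 1 1 1 1 1 1 1 1 1 1 1 1 1 1 1 1 1 1 1 1 1 1 1 1 1 1 1 1 1 1 1 1 1 1 1 1 1 1 1 1 1 2 2 2 2 2 2 2 2 2 2) (@D3.rec (fun _ => Nat) 2 2 2 2 2 1 2 2 2 2 2 2 2 2 2 2 2 2 2 1 2 2 2 2 2 2 1 1 1 1 1 1 1 1 1 1 1 1 1 1 1 1 1 1 1 1 1 1 1 1 1) (@D3.rec (fun _ =>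 Nat) 1 1 1 1 1 1 1 1 1 1 1 1 1 1 1 1 1 1 1 1 1 1 1 1 1 1 1 1 1 1 1 1 1 1 1 1 1 1 1 1 1 1 1 1 1 1 1 1 1 1 1) (@D3.rec (fun _ => Nat) 1 1 1 1 1 1 1 1 1 1 1 1 1 1 1 1 1 1 1 1 1 1 1 1 1 1 1 1 1 1 1 1 1 1 1 1 1 1 1 1 1 1 1 1 1 1 1 1 1 1 1) (@D3.rec (fun _ => Nat) 1 1 1 1 1 1 1 1 1 1 1 1 1 1 1 1 1 1 1 1 1 1 1 1 1 1 1 1 1 1 1 1 1 1 1 1 1 1 1 1 1 1 1 1 1 1 1 1 1 1 1) (@D3.rec (fun _ => Nat) 1 1 1 1 1 1 1 1 1 1 1 1 1 1 1 1 1 1 1 1 1 1 1 1 1 1 1 1 1 1 1 1 1 1 1 1 1 1 1 1 1 1 1 1 1 1 1 1 1 1 1) (@D3.rec (fun _ => Nat) 1 1 1 1 1 1 1 1 1 1 1 1 1 1 1 1 1 1 1 1 1 1 1 1 1 1 1 1 1 1 1 1 1 1 1 1 1 1 1 1 1 1 2 2 2 2 2 2 2 2 1) (@D3.rec (fun _ => Nat) 2 2 2 2 2 2 2 1 2 2 2 2 2 2 2 1 2 2 2 2 1 1 1 2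 2 1 2 2 2 2 2 1 1 2 2 1 2 2 2 2 2 2 2 2 2 2 1 2 1 1 2) (@D3.rec (fun _ => Nat) 2 2 1 2 2 2 2 2 2 1 2 2 1 1 2 2 2 2 2 1 1 1 1 1 1 1 1 1 1 1 1 1 1 1 1 1 1 1 1 1 1 1 1 1 1 1 1 1 1 1 1) (@D3.rec (fun _ => Nat) 1 1 1 1 1 1 1 1 1 1 1 1 1 1 1 1 1 1 1 1 1 1 1 1 1 1 1 1 1 1 1 1 1 1 1 1 1 1 1 1 1 1 1 1 1 1 1 1 1 1 1) (@D3.rec (fun _ => Nat) 1 1 1 1 1 1 1 1 1 1 1 1 1 1 1 1 1 1 1 1 1 1 1 1 1 1 1 1 1 1 1 1 1 1 1 1 1 1 1 1 1 1 1 1 1 1 1 1 1 1 1) (@D3.rec (fun _ => Nat) 1 1 1 1 1 1 1 1 1 1 1 1 1 1 1 1 1 1 1 1 1 1 1 1 1 1 1 1 1 1 1 1 1 1 1 1 1 1 1 1 1 1 1 1 1 1 1 1 1 1 1) (@D3.rec (fun _ => Nat) 1 1 1 1 1 1 1 1 1 1 1 1 1 1 1 1 1 1 1 1 1 1 1 1 1 1 1 1 1 1 1 1 1 1 1 1 1 1 1 1 1 1 1 1 1 1 1 1 1 1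 1) (@D3.rec (fun _ => Nat) 1 1 1 1 1 1 1 1 1 1 1 1 1 1 1 1 1 1 1 1 1 1 1 1 1 1 1 1 1 1 1 1 1 1 1 1 1 1 1 1 1 1 1 1 1 1 1 1 1 1 1) (@D3.rec (fun _ => Nat) 1 1 1 1 1 1 1 1 1 1 1 1 1 1 1 1 1 1 1 1 1 1 1 1 1 1 1 1 1 1 1 1 1 1 1 1 1 1 1 1 1 1 1 1 1 1 1 1 1 1 1) (@D3.rec (fun _ => Nat) 1 1 1 1 1 1 1 1 1 1 1 1 1 1 1 1 1 1 1 1 1 1 1 1 1 1 1 1 1 1 1 1 1 1 1 1 1 1 1 1 1 1 1 1 1 1 1 1 1 1 1) (@D3.rec (fun _ => Nat) 1 1 1 1 1 1 1 1 1 1 1 1 1 1 1 1 1 1 1 1 1 1 1 1 1 1 1 1 1 1 1 1 1 1 1 1 1 1 1 1 1 1 1 1 1 1 1 1 1 1 1) (@D3.rec (fun _ => Nat) 1 1 1 1 1 2 2 2 2 2 2 2 2 1 2 2 1 2 2 2 2 2 1 1 1 2 2 2 2 1 1 2 2 2 2 2 2 1 1 1 1 1 1 1 1 1 1 1 1 1 1) (@D3.rec (fun _ => Nat) 1 1 1 1 1 1 1 1 1 1 1 1 1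 1 1 1 1 1 1 1 1 1 1 1 1 1 1 1 1 1 1 1 1 1 1 1 1 1 1 1 1 1 1 1 1 1 1 1 1 1 1) (@D3.rec (fun _ => Nat) 1 1 1 1 1 1 1 1 1 1 1 1 1 1 1 1 1 1 1 1 1 1 1 1 1 1 1 1 1 1 1 1 1 1 1 1 1 1 1 1 1 1 1 1 1 1 1 1 1 1 1) (@D3.rec (fun _ => Nat) 1 1 1 1 1 1 1 1 1 1 1 1 1 1 1 1 1 1 1 1 1 1 1 1 1 1 1 1 1 1 1 1 1 1 1 1 1 1 1 1 1 1 1 1 1 1 1 1 1 1 1)
def lab_10 : D2 → D3 → Nat := @D2.rec (fun _ => D3 → Nat) (@D3.rec (fun _ => Nat) 1 1 1 1 1 1 1 1 1 1 1 1 1 1 1 1 1 1 1 1 1 1 1 1 1 1 1 1 2 2 2 1 1 1 1 1 1 1 1 1 1 1 1 1 1 1 1 1 1 1 1) (@D3.rec (fun _ => Nat) 1 1 1 1 1 1 1 1 1 1 1 1 1 1 1 1 1 1 1 1 1 1 1 1 1 1 1 1 1 1 1 1 1 2 2 2 1 2 2 2 1 2 2 2 2 2 1 2 2 2 2) (@D3.rec (fun _ => Nat) 2 2 2 2 2 2 2 2 1 2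 2 2 2 2 2 2 2 2 2 2 2 2 2 2 1 1 1 1 1 1 1 1 1 1 1 1 1 1 1 1 1 1 1 1 1 1 1 1 1 1 1) (@D3.rec (fun _ => Nat) 1 1 1 1 1 1 1 1 1 1 1 1 1 1 1 1 1 1 1 1 1 1 1 1 1 1 1 1 1 1 1 1 1 1 1 1 1 1 1 1 1 1 1 1 1 1 1 1 1 1 1) (@D3.rec (fun _ => Nat) 1 1 1 1 1 1 1 1 1 1 1 1 1 1 1 1 1 1 1 1 1 1 1 1 1 1 1 1 1 1 1 1 1 1 1 1 1 1 1 1 1 1 1 1 1 1 1 1 1 1 1) (@D3.rec (fun _ => Nat) 1 1 1 1 1 1 1 1 1 1 1 1 1 1 1 1 1 1 1 1 1 1 1 1 1 1 1 1 1 1 1 1 1 1 1 1 1 1 1 1 1 1 1 1 1 1 1 1 1 1 1) (@D3.rec (fun _ => Nat) 1 1 1 1 1 1 1 1 1 1 1 1 1 1 1 1 1 1 1 1 1 1 1 1 1 1 1 1 1 1 1 1 1 1 1 1 1 1 1 1 1 1 1 1 1 1 1 1 1 1 1) (@D3.rec (fun _ => Nat) 1 1 1 1 1 1 1 1 1 1 1 1 1 1 1 1 1 1 1 1 1 1 1 1 1 1 1 1 1 1 1 1 1 1 1 1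 1 1 1 1 1 1 1 1 1 1 1 1 1 1 1) (@D3.rec (fun _ => Nat) 1 1 1 1 1 1 1 1 1 1 1 1 1 1 1 1 1 1 1 1 1 1 1 1 2 2 2 2 2 2 2 2 2 2 2 2 2 1 1 1 2 2 2 2 2 2 1 2 2 2 2) (@D3.rec (fun _ => Nat) 2 1 2 2 2 1 2 2 2 2 1 2 1 2 2 2 1 1 2 2 2 1 2 1 2 2 2 2 2 1 1 2 2 2 2 2 2 1 1 2 1 1 2 2 2 2 1 2 2 2 2) (@D3.rec (fun _ => Nat) 2 1 2 2 2 2 1 2 2 2 1 2 1 2 2 2 2 2 1 2 2 2 2 1 2 1 2 2 2 2 2 1 2 1 2 2 2 2 2 1 2 2 1 1 2 2 2 2 2 2 2) (@D3.rec (fun _ => Nat) 2 2 2 2 2 2 2 1 2 2 2 2 2 2 2 2 2 1 1 1 1 1 1 1 1 1 1 1 1 1 1 1 1 1 1 1 1 1 1 1 1 1 1 1 1 1 1 1 1 1 1) (@D3.rec (fun _ => Nat) 1 1 1 1 1 1 1 1 1 1 1 1 1 1 1 1 1 1 1 1 1 1 1 1 1 1 1 1 1 1 1 1 1 1 1 1 1 1 1 1 1 1 1 1 1 1 1 1 1 1 1) (@D3.rec (fun _ => Nat)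 1 1 1 1 1 1 1 1 1 1 1 1 1 1 1 1 1 1 1 1 1 1 1 1 1 1 1 1 1 1 1 1 1 1 1 1 1 1 1 1 1 1 1 1 1 1 1 1 1 1 1) (@D3.rec (fun _ => Nat) 1 1 1 1 1 1 1 1 1 1 1 1 1 1 1 1 1 1 1 1 1 1 1 1 1 1 1 1 1 1 1 1 1 1 1 1 1 1 1 1 1 1 1 1 1 1 1 1 1 1 1) (@D3.rec (fun _ => Nat) 1 1 1 1 1 1 1 1 1 1 1 1 1 1 1 1 1 1 1 1 1 1 1 1 1 1 1 1 1 1 1 1 1 1 1 1 1 1 1 1 1 1 1 1 1 1 1 1 1 1 1) (@D3.rec (fun _ => Nat) 1 1 1 1 1 1 1 1 1 1 1 1 1 1 1 1 1 1 1 1 1 1 1 1 1 1 1 1 1 1 1 1 1 1 1 1 1 1 1 1 1 1 1 1 1 1 1 1 1 1 1) (@D3.rec (fun _ => Nat) 1 1 1 1 1 1 1 1 1 1 1 1 1 1 1 1 1 1 1 1 1 1 1 1 1 1 1 1 1 1 1 1 1 1 1 1 1 1 1 1 1 1 1 1 1 1 1 1 1 1 1) (@D3.rec (fun _ => Nat) 1 1 1 1 1 1 1 1 1 1 1 1 1 1 1 1 1 1 1 1 1 1 1 1 1 1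 1 1 1 1 1 1 1 1 1 1 1 1 1 1 1 1 1 1 1 1 1 1 1 1 1) (@D3.rec (fun _ => Nat) 1 1 1 1 1 1 1 1 1 1 1 1 1 1 1 1 1 1 1 1 1 1 1 1 1 1 1 1 1 1 1 1 1 1 1 1 1 1 1 1 1 1 1 1 1 1 1 1 1 1 1) (@D3.rec (fun _ => Nat) 1 1 1 1 1 1 1 1 1 1 1 1 1 1 1 1 1 1 1 1 1 1 1 1 1 1 1 1 1 1 1 1 1 1 1 1 1 1 1 1 1 1 1 1 1 1 1 1 1 1 1) (@D3.rec (fun _ => Nat) 1 1 1 1 1 1 1 1 1 1 1 1 1 1 1 1 1 1 1 1 1 1 1 1 1 1 1 1 1 1 1 1 1 1 1 1 1 1 1 1 1 1 1 1 1 1 1 1 1 1 1) (@D3.rec (fun _ => Nat) 1 1 1 1 1 1 1 1 1 1 1 1 1 1 1 1 1 1 1 1 1 1 1 1 1 1 1 1 1 1 1 1 1 1 1 1 1 1 1 1 1 1 1 1 1 1 1 1 1 1 1) (@D3.rec (fun _ => Nat) 1 1 1 1 1 1 1 1 1 1 1 1 1 1 1 1 1 1 1 1 1 1 1 1 1 1 1 1 1 1 1 1 1 1 1 1 1 1 2 2 2 2 2 2 2 2 2 2 2 2 2) (@D3.rec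 (fun _ => Nat) 2 2 2 2 2 2 2 2 2 1 2 1 2 2 2 1 1 1 1 1 1 1 1 1 1 1 1 1 1 1 1 1 1 1 1 1 1 1 1 1 1 1 1 1 1 1 1 1 1 1 1) (@D3.rec (fun _ => Nat) 1 1 1 1 1 1 1 1 1 1 1 1 1 1 1 1 1 1 1 1 1 1 1 1 1 1 1 1 1 1 1 1 1 1 1 1 1 1 1 1 1 1 1 1 1 1 1 1 1 1 1) (@D3.rec (fun _ => Nat) 1 1 1 1 1 1 1 1 1 1 1 1 1 1 1 1 1 1 1 1 1 1 1 1 1 1 1 1 1 1 1 1 1 1 1 1 1 1 1 1 1 1 1 1 1 1 1 1 1 1 1)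
def lab_11 : D2 → D3 → Nat := @D2.rec (fun _ => D3 → Nat) (@D3.rec (fun _ => Nat) 1 1 1 1 1 1 1 1 1 1 1 1 1 1 1 1 1 1 1 1 1 1 1 1 1 1 1 1 1 1 1 1 1 1 1 1 1 1 1 1 1 1 1 1 1 1 1 1 1 1 1) (@D3.rec (fun _ => Nat) 1 1 1 1 1 1 1 1 1 1 1 1 1 1 1 1 1 1 1 1 1 1 1 1 1 1 1 1 1 1 1 1 1 1 1 1 1 1 1 1 1 1 1 1 1 1 1 1 1 1 1) (@D3.rec (fun _ => Nat) 1 1 1 1 1 1 1 1 1 1 1 1 1 1 1 1 1 1 1 1 1 1 1 1 1 1 1 1 1 1 1 1 1 1 1 1 1 1 1 1 1 1 1 1 1 1 1 1 1 1 1) (@D3.rec (fun _ => Nat) 1 1 1 1 1 2 2 2 2 2 2 2 2 2 2 2 2 2 2 2 2 2 2 2 2 2 1 2 2 2 1 2 2 2 2 2 2 1 2 2 2 2 2 2 2 2 2 2 2 2 2) (@D3.rec (fun _ => Nat) 2 2 1 2 2 2 2 2 2 2 2 2 2 1 2 2 2 1 1 1 1 1 1 1 1 1 1 1 1 1 1 1 1 1 1 1 1 1 1 1 1 1 1 1 1 1 1 1 1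 1 1) (@D3.rec (fun _ => Nat) 1 1 1 1 1 1 1 1 1 1 1 1 1 1 1 1 1 1 1 1 1 1 1 1 1 1 1 1 1 1 1 1 1 1 1 1 1 1 1 1 1 1 1 1 1 1 1 1 1 1 1) (@D3.rec (fun _ => Nat) 1 1 1 1 1 1 1 1 1 1 1 1 1 1 1 1 1 1 1 1 1 1 1 1 1 1 1 1 1 1 1 1 1 1 1 1 1 1 1 1 1 1 1 1 1 1 1 1 1 1 1) (@D3.rec (fun _ => Nat) 1 1 1 1 1 1 1 1 1 1 1 1 1 1 1 1 1 1 1 1 1 1 1 1 1 1 1 1 1 1 1 1 1 1 1 1 1 1 1 1 1 1 1 1 1 1 1 1 1 1 1) (@D3.rec (fun _ => Nat) 1 1 1 1 1 1 1 1 1 1 1 1 1 1 1 1 1 1 1 1 1 1 1 1 1 1 1 1 1 1 1 1 1 1 1 1 1 1 1 1 1 1 1 1 1 1 1 1 1 1 1) (@D3.rec (fun _ => Nat) 1 1 1 1 1 1 1 1 1 1 1 1 1 1 1 1 1 1 1 1 1 1 1 1 1 1 1 1 1 1 1 1 1 1 1 1 1 1 1 1 1 1 1 1 1 1 1 1 1 1 1) (@D3.rec (fun _ => Nat) 1 1 1 1 1 1 1 1 1 1 1 1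 1 1 1 1 1 1 1 1 1 1 1 1 1 1 1 1 1 1 1 1 1 1 1 1 1 1 1 1 1 1 1 1 1 1 1 1 1 1 1) (@D3.rec (fun _ => Nat) 1 1 1 1 1 1 1 1 1 1 1 1 1 1 1 1 1 1 1 1 1 1 1 1 1 1 1 1 1 1 1 1 1 1 1 1 1 1 1 1 1 1 1 1 1 1 1 1 1 1 1) (@D3.rec (fun _ => Nat) 1 1 1 1 1 1 1 1 1 1 1 1 1 1 1 1 1 1 1 1 1 1 1 1 1 1 1 1 1 1 1 1 1 1 1 1 1 1 1 1 1 1 1 1 1 1 1 1 1 1 1) (@D3.rec (fun _ => Nat) 2 2 2 2 2 2 2 2 1 2 2 2 2 1 1 2 2 2 2 2 2 1 1 1 1 1 1 1 1 1 1 1 1 1 1 1 1 1 1 1 1 1 1 1 1 1 1 1 1 1 1) (@D3.rec (fun _ => Nat) 1 1 1 1 1 1 1 1 1 1 1 1 1 1 1 1 1 1 1 1 1 1 1 1 1 1 1 1 1 1 1 1 1 1 1 1 1 1 1 1 1 1 1 1 1 1 1 1 1 1 1) (@D3.rec (fun _ => Nat) 1 1 1 1 1 1 1 1 1 1 1 1 1 1 1 1 1 1 1 1 1 1 1 1 1 1 1 1 1 1 1 1 1 1 1 1 1 1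 1 1 1 1 1 1 1 1 1 1 1 1 1) (@D3.rec (fun _ => Nat) 1 1 1 1 1 1 1 1 1 1 1 1 1 1 2 2 2 1 1 1 1 1 1 1 1 1 1 1 1 1 1 1 1 1 1 1 1 1 1 1 1 1 1 1 1 1 1 1 1 1 1) (@D3.rec (fun _ => Nat) 1 1 1 1 1 1 1 2 2 1 2 2 2 2 2 1 2 2 2 2 2 2 2 2 2 2 2 2 1 2 2 2 2 2 2 2 2 2 2 2 2 1 2 2 1 1 1 1 1 1 1) (@D3.rec (fun _ => Nat) 1 1 1 1 1 1 1 1 1 1 1 1 1 1 1 1 1 1 1 1 1 1 1 1 1 1 1 1 1 1 1 1 1 1 1 1 1 1 1 1 1 1 1 1 1 1 1 1 1 1 1) (@D3.rec (fun _ => Nat) 1 1 1 1 1 1 1 1 1 1 1 1 1 1 1 1 1 1 1 1 1 1 1 1 1 1 1 1 1 1 1 1 1 1 1 1 1 1 1 1 1 1 1 1 1 1 1 1 1 1 1) (@D3.rec (fun _ => Nat) 1 1 1 1 1 1 1 1 1 1 1 1 1 1 1 1 1 1 1 1 1 1 1 1 1 1 1 1 1 1 1 1 1 1 1 1 1 1 1 1 1 1 1 1 1 1 1 1 1 1 1) (@D3.rec (fun _ => Nat) 1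 1 1 1 1 1 1 1 1 1 1 1 1 1 1 1 1 1 1 1 1 1 1 1 1 1 1 1 1 1 1 1 1 1 1 1 1 1 1 1 1 1 1 1 1 1 1 1 1 1 1) (@D3.rec (fun _ => Nat) 1 1 1 1 1 1 1 1 1 1 1 1 1 1 1 1 1 1 1 1 1 1 1 1 1 1 1 1 1 1 1 1 1 1 1 1 1 1 1 1 1 1 1 1 1 1 1 1 1 1 1) (@D3.rec (fun _ => Nat) 1 1 1 1 1 1 1 1 1 1 1 1 1 1 1 1 1 1 1 1 1 1 1 1 1 1 1 1 1 1 1 1 1 1 1 1 1 1 1 1 1 1 1 1 1 1 1 1 1 1 1) (@D3.rec (fun _ => Nat) 1 1 1 1 1 1 1 1 1 1 1 1 1 1 1 1 1 1 1 1 1 1 2 2 2 2 2 2 2 2 1 2 2 2 1 2 2 2 1 2 1 2 2 2 1 2 1 2 2 2 2) (@D3.rec (fun _ => Nat) 2 1 2 2 1 1 2 1 2 2 2 2 2 2 2 1 2 2 1 1 2 2 2 2 2 2 1 2 2 2 2 1 2 2 2 2 2 2 2 2 2 2 2 1 2 2 2 2 2 1 2) (@D3.rec (fun _ => Nat) 2 1 1 2 2 2 2 2 2 2 2 2 2 2 2 2 2 2 2 2 1 2 2 1 1 2 2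 2 2 2 2 2 2 2 2 2 1 2 2 2 2 2 2 2 2 2 2 2 2 2 2)
def lab_12 : D2 → D3 → Nat := @D2.rec (fun _ => D3 → Nat) (@D3.rec (fun _ => Nat) 1 2 2 2 2 2 2 2 2 1 1 1 1 1 1 1 1 1 1 1 1 1 1 1 1 1 1 1 1 1 1 1 1 1 1 1 1 1 1 1 1 1 1 1 1 1 1 1 1 1 1) (@D3.rec (fun _ => Nat) 1 1 1 1 1 1 1 1 1 1 1 1 1 1 1 1 1 1 1 1 1 1 1 1 1 1 1 1 1 1 1 1 1 1 1 1 1 1 1 1 1 1 1 1 1 1 1 1 1 1 1) (@D3.rec (fun _ => Nat) 1 1 1 1 1 1 1 1 1 1 1 1 1 1 1 1 1 1 1 1 1 1 1 1 1 1 1 1 1 1 1 1 1 1 1 1 1 1 1 1 1 1 1 1 1 1 1 1 1 1 1) (@D3.rec (fun _ => Nat) 1 1 1 1 1 1 1 1 1 1 1 1 1 1 1 1 1 1 1 1 1 1 1 1 1 1 1 1 1 1 1 1 1 1 1 1 1 1 1 1 1 1 1 1 1 1 1 1 1 1 1) (@D3.rec (fun _ => Nat) 1 1 1 1 1 1 1 1 1 1 1 1 1 1 1 1 1 1 1 1 1 1 1 1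 1 1 1 1 1 1 1 1 1 1 1 1 1 1 1 1 1 1 1 1 1 1 1 1 1 1 1) (@D3.rec (fun _ => Nat) 1 1 1 1 1 1 1 1 1 1 1 1 1 1 1 1 1 1 1 1 1 1 1 1 1 1 1 1 1 1 1 1 1 1 1 1 1 1 1 1 1 1 1 1 1 1 1 1 1 1 1) (@D3.rec (fun _ => Nat) 1 1 1 1 1 1 1 1 1 1 1 1 1 1 1 1 1 1 1 1 1 1 1 1 1 1 1 1 1 1 1 1 1 1 1 1 1 1 1 1 1 1 1 1 1 1 1 1 1 1 1) (@D3.rec (fun _ => Nat) 1 1 1 1 1 1 1 1 1 1 1 1 1 1 1 1 1 1 1 1 1 1 1 1 1 1 1 1 1 1 1 1 1 1 1 1 1 1 1 1 1 1 1 1 1 1 1 1 1 1 1) (@D3.rec (fun _ => Nat) 1 1 1 1 1 1 1 1 1 1 1 1 1 1 1 1 1 1 1 1 1 1 1 1 1 1 1 1 1 1 1 1 1 1 1 1 1 1 1 1 1 1 1 1 1 1 1 1 1 1 1) (@D3.rec (fun _ => Nat) 1 1 1 1 1 1 1 1 1 1 1 1 1 1 1 1 1 1 1 1 1 1 1 1 1 1 1 1 1 1 1 1 1 1 1 1 1 1 1 1 1 1 1 1 1 1 1 1 1 1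 1) (@D3.rec (fun _ => Nat) 1 1 1 1 1 1 1 1 1 1 1 1 1 1 1 1 1 1 1 1 1 1 1 1 1 1 1 1 1 1 1 1 1 1 1 1 1 1 1 1 1 1 1 1 1 1 1 1 1 1 1) (@D3.rec (fun _ => Nat) 1 1 1 1 1 1 1 1 1 1 1 1 1 1 1 1 1 1 1 1 1 1 1 1 1 1 1 1 1 1 1 1 1 1 1 1 1 1 1 1 1 1 1 1 1 1 1 1 1 1 1) (@D3.rec (fun _ => Nat) 1 1 1 1 1 1 1 1 1 1 1 1 1 1 1 1 1 1 1 1 1 1 1 1 1 1 1 1 1 1 1 1 1 1 1 1 1 1 1 1 1 1 1 1 1 1 1 1 1 1 1) (@D3.rec (fun _ => Nat) 1 1 1 1 1 1 1 1 1 2 2 2 2 2 2 2 2 2 2 2 2 2 2 2 2 1 1 1 1 1 1 1 1 1 1 1 1 1 1 1 1 1 1 1 1 1 1 1 1 1 1) (@D3.rec (fun _ => Nat) 1 1 1 1 1 1 1 1 1 1 1 1 1 1 1 1 1 1 1 1 1 1 1 1 1 1 1 1 1 1 1 1 1 1 1 1 1 1 1 1 1 1 1 1 1 1 1 1 1 1 1) (@D3.rec (fun _ => Nat) 1 1 1 1 1 1 1 1 1 1 1 1 1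 1 1 1 1 1 1 1 1 1 1 1 1 1 1 1 1 1 1 1 1 1 1 1 1 1 1 1 1 1 1 1 1 1 1 1 1 1 1) (@D3.rec (fun _ => Nat) 1 1 1 1 1 1 1 1 1 1 1 1 1 1 1 1 1 1 1 1 1 1 1 1 1 1 1 1 1 1 1 1 1 1 1 1 1 1 1 1 1 1 1 1 1 1 1 1 1 1 1) (@D3.rec (fun _ => Nat) 1 1 1 1 1 1 1 1 1 1 1 1 1 1 1 1 1 1 1 1 1 1 1 1 1 1 1 1 1 1 1 1 1 1 1 1 1 1 1 1 1 1 1 1 1 1 1 1 1 1 1) (@D3.rec (fun _ => Nat) 1 1 1 1 1 1 1 1 1 1 1 1 1 1 1 1 1 1 1 1 1 1 1 1 1 1 1 1 1 1 1 1 1 1 1 1 1 1 1 1 1 1 1 1 1 1 1 1 1 1 1) (@D3.rec (fun _ => Nat) 1 1 1 1 1 1 1 1 1 1 1 1 1 1 1 1 1 2 2 2 2 2 2 2 2 2 2 2 2 2 2 2 2 2 2 2 2 2 2 2 2 2 2 2 2 2 2 2 2 2 2) (@D3.rec (fun _ => Nat) 2 2 2 2 2 2 2 2 2 1 1 1 1 1 1 1 1 1 1 1 1 1 1 1 1 1 1 1 1 1 1 1 1 1 1 1 1 1 1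 1 1 1 1 1 1 1 1 1 1 1 1) (@D3.rec (fun _ => Nat) 1 1 1 1 1 1 1 1 1 1 1 1 1 1 1 1 1 1 1 1 1 1 1 1 1 1 1 1 1 1 1 1 1 1 1 1 1 1 1 1 1 1 1 1 1 1 1 1 1 1 1) (@D3.rec (fun _ => Nat) 1 1 1 1 1 1 1 1 1 1 1 1 1 1 1 1 1 1 1 1 1 1 1 1 1 1 1 1 1 1 1 1 1 1 1 1 1 1 1 1 1 1 1 1 1 1 1 1 1 1 1) (@D3.rec (fun _ => Nat) 1 1 1 1 1 1 1 1 1 1 1 1 1 1 1 1 1 1 1 1 1 1 1 1 1 1 1 1 1 1 1 1 1 1 1 1 1 1 1 1 1 1 1 1 1 1 1 1 1 1 1) (@D3.rec (fun _ => Nat) 1 1 1 1 1 1 1 1 1 1 1 1 1 1 1 1 1 1 1 1 1 1 1 1 1 1 1 1 1 1 1 1 1 1 1 1 1 1 1 1 1 1 1 1 1 1 1 1 1 1 1) (@D3.rec (fun _ => Nat) 1 1 1 1 1 1 1 1 1 1 1 1 1 1 1 1 1 1 1 1 1 1 1 1 1 1 1 1 1 1 1 1 1 1 1 1 1 1 1 1 1 1 1 1 1 1 1 1 1 1 1) (@D3.rec (fun _ => Nat) 1 1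 1 1 1 1 1 1 1 1 1 1 1 1 1 1 1 1 1 1 1 1 1 1 1 1 1 1 1 1 1 1 1 1 1 1 1 1 1 1 1 1 1 1 1 1 1 1 1 1 1)
def lab_13 : D2 → D3 → Nat := @D2.rec (fun _ => D3 → Nat) (@D3.rec (fun _ => Nat) 1 1 1 1 1 1 1 1 1 1 1 1 1 1 1 1 1 1 1 1 1 1 1 1 1 1 1 1 1 1 1 1 1 1 1 1 1 1 1 1 1 1 1 1 1 1 1 1 1 1 1) (@D3.rec (fun _ => Nat) 1 1 1 1 1 1 1 1 1 1 1 1 1 1 1 1 1 1 1 1 1 1 1 2 2 2 2 2 2 1 2 1 2 2 2 1 1 1 1 1 1 1 1 1 1 1 1 1 1 1 1) (@D3.rec (fun _ => Nat) 1 1 1 1 1 1 1 1 1 1 1 1 1 1 1 1 1 1 1 1 1 1 1 1 1 1 1 1 1 1 1 1 1 1 1 1 1 1 1 1 1 1 1 1 1 1 1 1 1 1 1) (@D3.rec (fun _ => Nat) 1 1 1 1 1 1 1 1 1 1 1 1 1 1 1 1 1 1 1 1 1 1 1 1 2 2 2 1 1 1 1 1 1 1 1 1 1 1 1 1 1 1 1 1 1 1 1 1 1 1 1) (@D3.rec (fun _ => Nat)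 1 1 1 2 2 2 2 2 2 2 2 2 2 2 2 2 2 2 2 2 2 2 2 2 2 2 2 2 1 1 1 1 1 1 1 1 1 1 1 1 1 1 1 1 1 1 1 1 1 1 1) (@D3.rec (fun _ => Nat) 1 1 1 1 1 1 1 1 1 1 1 1 1 1 1 1 1 1 1 1 1 1 1 1 1 1 1 1 1 1 1 1 1 1 1 1 1 1 1 1 1 1 1 1 1 1 1 1 1 1 1) (@D3.rec (fun _ => Nat) 1 1 1 1 1 1 1 1 1 1 1 1 1 1 1 1 1 1 1 1 1 1 1 1 1 1 1 1 1 1 1 1 1 1 1 1 1 1 1 1 1 1 1 1 1 1 1 1 1 1 1) (@D3.rec (fun _ => Nat) 1 1 1 1 1 1 1 1 1 1 1 1 1 1 1 1 1 1 1 1 1 1 1 1 1 1 1 1 1 1 1 1 1 1 1 1 1 1 1 1 1 1 1 1 1 1 1 1 1 1 1) (@D3.rec (fun _ => Nat) 1 1 1 1 1 1 1 1 1 1 1 1 1 1 1 1 1 1 1 1 1 1 1 1 1 1 1 1 1 1 1 1 1 1 1 1 1 1 1 1 1 1 1 1 1 1 1 1 1 1 1) (@D3.rec (fun _ => Nat) 1 1 1 1 1 1 1 1 1 1 1 1 1 1 1 1 1 1 1 1 1 1 1 1 1 1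 1 1 1 1 1 1 1 1 1 1 1 1 1 1 1 1 1 1 1 1 1 1 1 1 1) (@D3.rec (fun _ => Nat) 1 1 1 1 1 1 1 1 1 1 1 1 1 1 1 1 1 1 1 1 1 1 1 1 1 1 1 1 1 1 1 1 1 1 1 1 1 1 1 1 1 1 1 1 1 1 1 1 1 1 1) (@D3.rec (fun _ => Nat) 1 1 1 1 1 1 1 1 1 1 1 1 1 1 1 1 1 1 1 1 1 1 1 1 1 1 1 1 2 2 2 2 2 2 1 2 2 2 2 2 2 2 2 1 2 2 1 2 2 2 2) (@D3.rec (fun _ => Nat) 2 2 2 2 2 2 2 2 2 1 2 2 2 2 2 2 2 2 2 2 2 2 2 2 2 1 1 2 2 2 2 2 2 2 2 1 2 2 2 2 2 2 2 2 2 2 2 2 2 2 2) (@D3.rec (fun _ => Nat) 2 1 2 2 2 2 2 2 2 2 2 2 1 2 2 2 2 2 2 2 2 2 2 2 2 2 2 2 2 2 2 2 1 1 1 1 1 1 1 1 1 1 1 1 1 1 1 1 1 1 1) (@D3.rec (fun _ => Nat) 1 1 1 1 1 1 1 1 1 1 1 1 1 1 1 1 1 1 1 1 1 1 1 1 1 1 1 1 1 1 1 1 1 1 1 1 1 1 1 1 1 1 1 1 1 1 1 1 1 1 1) (@D3.rec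 (fun _ => Nat) 1 1 1 1 1 1 1 1 1 1 1 1 1 1 1 1 1 1 1 1 1 1 1 1 1 1 1 1 1 1 1 1 1 1 1 1 1 1 1 1 1 1 1 1 1 1 1 1 1 1 1) (@D3.rec (fun _ => Nat) 1 1 1 1 1 1 1 1 1 1 1 1 1 1 1 1 1 1 1 1 1 1 1 1 1 1 1 1 1 1 1 1 1 1 1 1 1 1 1 1 1 1 1 1 1 1 1 1 1 1 1) (@D3.rec (fun _ => Nat) 1 1 1 1 1 1 1 1 1 1 1 1 1 1 1 1 1 1 1 1 1 1 1 1 1 1 1 1 1 1 1 1 1 1 1 1 1 1 1 1 1 1 1 1 1 1 1 1 1 1 1) (@D3.rec (fun _ => Nat) 1 1 1 1 1 1 1 1 1 1 1 1 1 1 1 1 1 1 1 1 1 1 1 1 1 1 1 1 1 1 1 1 1 1 1 1 1 1 1 1 1 1 1 1 1 1 1 1 1 1 1) (@D3.rec (fun _ => Nat) 1 1 1 1 1 1 1 1 1 1 1 1 1 1 1 1 1 1 1 1 1 1 1 1 1 1 1 1 1 1 1 1 1 1 1 1 1 1 1 1 1 1 1 1 1 1 1 1 1 1 1) (@D3.rec (fun _ => Nat) 1 1 1 1 1 1 1 1 1 1 1 1 1 1 1 1 1 1 1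 1 1 1 1 1 1 1 1 1 1 1 1 1 1 1 1 1 1 1 1 1 1 1 1 1 1 1 1 1 1 1 1) (@D3.rec (fun _ => Nat) 1 1 1 1 1 1 1 1 1 1 1 1 1 1 1 1 1 1 1 1 1 1 1 1 1 1 1 1 1 1 1 1 1 1 1 1 1 1 1 1 1 1 1 1 1 1 1 1 1 1 1) (@D3.rec (fun _ => Nat) 1 1 1 1 1 1 1 1 1 1 1 1 1 1 1 1 1 1 1 1 1 1 1 1 1 1 1 1 1 1 1 1 1 1 1 1 1 1 1 1 1 1 1 1 1 1 1 1 1 1 1) (@D3.rec (fun _ => Nat) 1 1 1 1 1 1 1 1 1 1 1 1 1 1 1 1 1 1 1 1 1 1 1 1 1 1 1 1 1 1 1 1 1 1 1 1 1 1 1 1 1 1 1 1 1 1 1 1 1 1 1) (@D3.rec (fun _ => Nat) 1 1 1 1 1 1 1 1 1 1 1 1 1 1 1 1 1 1 1 1 1 1 1 1 1 1 1 1 1 1 1 1 1 1 1 1 1 1 1 1 1 1 1 1 1 1 1 1 1 1 1) (@D3.rec (fun _ => Nat) 1 1 1 1 1 1 1 1 1 1 1 1 1 1 1 1 1 1 1 1 1 1 1 1 1 1 1 1 1 1 1 1 1 1 1 1 1 1 1 1 1 1 1 1 1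 1 1 1 1 1 1) (@D3.rec (fun _ => Nat) 1 1 1 1 1 1 1 1 1 1 1 1 1 1 1 1 1 1 1 1 1 1 1 1 1 1 1 1 1 1 1 1 1 1 1 1 2 2 2 2 2 2 2 2 2 2 1 1 1 1 1)
def lab_14 : D2 → D3 → Nat := @D2.rec (fun _ => D3 → Nat) (@D3.rec (fun _ => Nat) 1 1 1 1 1 1 1 1 1 1 1 1 1 1 1 1 1 1 1 1 1 1 1 1 1 1 1 1 1 1 1 1 1 1 1 1 1 1 1 1 1 1 1 1 1 1 1 1 1 1 1) (@D3.rec (fun _ => Nat) 1 1 1 1 1 1 1 1 1 1 1 1 1 1 1 1 1 1 1 1 1 1 1 1 1 1 1 1 1 1 1 1 1 1 1 1 1 1 1 1 1 1 1 1 1 1 1 1 1 1 1) (@D3.rec (fun _ => Nat) 1 1 1 1 1 1 1 1 1 1 1 1 1 1 1 1 1 1 1 1 1 1 1 1 1 1 1 1 1 1 1 1 1 1 1 1 1 1 1 1 1 1 1 1 1 1 1 1 1 1 1) (@D3.rec (fun _ => Nat) 1 1 1 1 1 1 1 1 1 1 1 1 1 1 1 1 1 1 1 1 1 1 1 1 1 1 1 1 1 1 1 1 1 1 1 1 1 1 1 1 1 1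 1 1 1 1 1 1 1 1 1) (@D3.rec (fun _ => Nat) 1 1 1 1 1 1 1 1 1 1 1 1 1 1 1 1 1 1 1 1 1 1 1 1 1 1 1 1 1 1 1 1 1 1 1 1 1 1 1 1 1 1 1 1 1 1 1 1 1 1 1) (@D3.rec (fun _ => Nat) 1 1 1 1 1 1 1 1 1 1 1 1 1 2 2 2 2 2 2 2 2 2 2 2 2 2 2 2 2 2 2 2 2 2 2 2 2 2 2 2 2 2 2 1 1 1 1 1 1 1 1) (@D3.rec (fun _ => Nat) 1 1 1 1 1 1 1 1 1 1 1 1 1 1 1 1 1 1 1 1 1 1 1 1 1 1 1 1 1 1 1 1 1 1 1 1 1 1 1 1 1 1 1 1 1 1 1 1 1 1 1) (@D3.rec (fun _ => Nat) 1 1 1 1 1 1 1 1 1 1 1 1 1 1 1 1 1 1 1 1 1 1 1 1 1 1 1 1 1 1 1 1 1 1 1 1 1 1 1 1 1 1 1 1 1 1 1 1 1 1 1) (@D3.rec (fun _ => Nat) 1 1 1 1 1 1 1 1 1 1 1 1 1 1 1 1 1 1 1 1 1 1 1 1 1 1 1 1 1 1 1 1 1 1 1 1 1 1 1 1 1 1 1 1 1 1 1 1 1 1 1) (@D3.rec (fun _ => Nat) 1 1 1 1 1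 1 1 1 1 1 1 1 1 1 1 1 1 1 1 1 1 1 1 1 1 1 1 1 1 1 1 1 1 1 1 1 1 1 1 1 1 1 1 1 1 1 1 1 1 1 1) (@D3.rec (fun _ => Nat) 1 1 1 1 1 1 1 1 1 1 1 1 1 1 1 1 1 1 1 1 1 1 1 1 1 1 1 1 1 1 1 1 1 1 1 1 1 1 1 1 1 1 1 1 1 1 1 1 1 1 1) (@D3.rec (fun _ => Nat) 1 1 1 1 1 1 1 1 1 1 1 1 1 1 1 1 1 1 1 1 1 1 1 1 1 1 1 1 1 1 1 1 1 1 1 1 1 1 1 1 1 1 1 1 1 1 1 1 1 1 1) (@D3.rec (fun _ => Nat) 1 1 1 1 1 1 1 1 1 1 1 1 1 1 1 1 1 1 1 1 1 1 1 1 1 1 1 1 1 1 1 1 1 1 1 1 1 1 1 1 1 1 1 1 1 1 1 1 1 1 1) (@D3.rec (fun _ => Nat) 1 1 1 1 1 1 1 1 1 1 1 1 1 1 1 1 1 1 1 1 1 1 1 1 1 1 1 1 1 1 1 1 1 1 1 1 1 1 1 1 1 1 1 1 1 1 1 1 1 1 1) (@D3.rec (fun _ => Nat) 1 1 1 1 1 1 1 1 1 1 1 1 1 1 1 1 1 1 2 2 2 2 2 2 2 2 2 2 2 2 2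 2 2 2 1 1 1 1 1 1 1 1 1 1 1 1 1 1 1 1 1) (@D3.rec (fun _ => Nat) 1 1 1 1 1 1 1 1 1 1 1 1 1 1 1 1 1 1 1 1 1 1 1 1 1 1 1 1 1 1 1 1 1 1 1 1 1 1 1 1 1 1 1 1 1 1 1 1 1 1 1) (@D3.rec (fun _ => Nat) 1 1 1 1 1 1 1 1 1 1 1 1 1 1 1 1 1 1 1 1 1 1 1 1 1 1 1 1 1 1 1 1 1 1 1 1 1 1 1 1 1 1 1 1 1 1 1 1 1 1 1) (@D3.rec (fun _ => Nat) 1 1 1 1 1 1 1 1 1 1 1 1 1 1 1 1 1 1 1 1 1 1 1 1 1 1 1 1 1 1 1 1 1 1 1 1 1 1 1 1 1 1 1 1 1 1 1 1 1 1 1) (@D3.rec (fun _ => Nat) 1 1 1 1 1 1 1 1 1 1 1 1 1 1 1 1 1 1 1 1 1 1 1 1 1 1 1 1 1 1 1 1 1 1 1 1 1 1 1 1 1 1 1 1 1 1 1 1 1 1 1) (@D3.rec (fun _ => Nat) 1 1 1 1 1 1 1 1 1 1 1 1 1 1 1 1 1 1 1 1 1 1 1 1 1 1 1 1 1 1 1 1 1 1 1 1 1 1 1 1 1 1 1 1 1 1 1 1 1 1 1) (@D3.rec (fun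 _ => Nat) 1 1 1 1 1 1 1 1 1 1 1 1 1 1 1 1 1 1 1 1 1 1 1 1 1 1 1 1 1 1 1 1 1 1 1 1 1 1 1 1 1 1 1 1 1 1 1 1 1 1 1) (@D3.rec (fun _ => Nat) 1 1 1 1 1 1 1 1 1 1 1 1 1 1 1 1 1 1 1 1 1 1 1 1 1 1 1 2 2 2 2 2 2 2 2 2 2 2 2 2 2 2 2 2 2 1 2 2 2 2 2) (@D3.rec (fun _ => Nat) 2 2 2 2 2 2 2 1 2 2 2 2 2 2 2 1 2 2 2 2 2 2 2 2 2 2 2 2 1 2 2 2 2 2 2 2 2 2 2 2 2 2 2 2 2 2 2 2 2 2 2) (@D3.rec (fun _ => Nat) 1 1 1 1 1 1 1 1 1 1 1 1 1 1 1 1 1 1 1 1 1 1 1 1 1 1 1 1 1 1 1 1 1 1 1 1 1 1 1 1 1 1 1 1 1 1 1 1 1 1 1) (@D3.rec (fun _ => Nat) 1 1 1 1 1 1 1 1 1 1 1 1 1 1 1 1 1 1 1 1 1 1 1 1 1 1 1 1 1 1 1 1 1 1 1 1 1 1 1 1 1 1 1 1 1 1 1 1 1 1 1) (@D3.rec (fun _ => Nat) 1 1 1 1 1 1 1 1 1 1 1 1 1 1 1 1 1 1 1 1 1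 1 1 1 1 1 1 1 1 1 1 1 1 1 1 1 1 1 1 1 1 1 1 1 1 1 1 1 1 1 1) (@D3.rec (fun _ => Nat) 1 1 1 1 1 1 1 1 1 1 1 1 1 1 1 1 1 1 1 1 1 1 1 1 1 1 1 1 1 1 1 1 1 1 1 1 1 1 1 1 1 1 1 1 1 1 1 1 1 1 1)
def lab_15 : D2 → D3 → Nat := @D2.rec (fun _ => D3 → Nat) (@D3.rec (fun _ => Nat) 1 1 1 1 1 1 1 1 1 1 1 1 1 1 1 1 1 1 1 1 1 1 1 1 1 1 1 1 1 1 1 1 1 1 1 1 1 1 1 1 1 1 1 1 1 1 1 1 1 1 1) (@D3.rec (fun _ => Nat) 1 1 1 1 1 1 1 1 1 1 1 1 1 1 1 1 1 1 1 1 1 1 1 1 1 1 1 1 1 1 1 1 1 1 1 1 1 1 1 1 1 1 1 1 1 1 1 1 1 1 1) (@D3.rec (fun _ => Nat) 1 1 1 1 1 1 1 1 1 1 1 1 1 1 1 1 1 1 1 1 1 1 1 1 1 1 1 1 1 1 1 1 1 1 1 1 1 1 1 1 1 1 1 1 1 1 1 1 1 1 1) (@D3.rec (fun _ => Nat) 1 1 1 1 1 1 1 1 1 1 1 1 1 1 1 1 1 1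 1 1 1 1 1 1 1 1 1 1 1 1 1 1 1 1 1 1 1 1 1 1 1 1 1 1 1 1 1 1 1 1 1) (@D3.rec (fun _ => Nat) 1 1 1 1 1 1 1 1 1 1 1 1 1 1 1 1 1 1 1 1 1 1 1 1 1 1 1 1 1 1 1 1 1 1 1 1 1 1 1 1 1 1 1 1 1 1 1 1 1 1 1) (@D3.rec (fun _ => Nat) 1 1 1 1 1 1 1 1 1 1 1 1 1 1 1 1 1 1 1 1 1 1 1 1 1 1 1 1 1 1 1 1 1 1 1 1 1 1 1 1 1 1 1 1 1 1 1 1 1 1 1) (@D3.rec (fun _ => Nat) 1 1 1 1 1 1 1 1 1 1 1 1 1 1 1 1 1 1 1 1 1 1 1 1 1 1 1 1 1 1 1 1 1 1 1 1 1 1 1 1 1 1 1 1 1 1 1 1 1 1 1) (@D3.rec (fun _ => Nat) 1 1 1 1 1 1 1 1 1 1 1 1 1 1 1 1 1 1 1 1 1 1 1 1 1 1 1 1 1 1 1 1 1 1 1 1 1 1 1 1 1 1 1 1 1 1 1 1 1 1 1) (@D3.rec (fun _ => Nat) 1 1 1 1 1 1 1 1 1 1 1 1 1 1 1 1 1 1 1 1 1 1 1 1 1 1 1 1 1 1 1 1 1 1 1 1 1 1 1 2 2 2 1 1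 1 1 1 1 1 1 1) (@D3.rec (fun _ => Nat) 1 1 1 1 1 1 1 1 1 1 1 1 1 1 1 1 1 1 1 1 1 1 1 1 1 1 1 1 1 1 1 1 1 1 1 1 1 1 1 1 1 1 1 1 1 1 1 1 1 1 1) (@D3.rec (fun _ => Nat) 1 1 1 1 1 1 1 1 1 1 1 1 1 1 1 1 1 1 1 1 1 1 1 1 1 1 1 1 1 1 1 1 1 1 1 1 1 1 1 1 1 1 1 1 1 1 1 1 1 1 1) (@D3.rec (fun _ => Nat) 1 1 1 1 1 1 1 1 1 1 1 1 1 1 1 1 1 1 1 1 1 1 1 1 1 1 1 1 1 1 1 1 1 1 1 1 1 1 1 1 1 1 1 1 1 1 1 1 1 1 1) (@D3.rec (fun _ => Nat) 1 1 1 1 1 1 1 1 1 1 1 1 1 1 1 1 1 1 1 1 1 1 1 1 1 1 1 1 1 1 1 1 1 1 1 1 1 1 1 1 1 1 1 1 1 1 1 1 1 1 1) (@D3.rec (fun _ => Nat) 1 1 1 1 1 1 1 1 1 1 1 1 1 1 1 1 1 1 1 1 1 1 1 1 1 1 1 1 1 1 2 2 2 2 2 2 2 2 2 2 2 2 2 2 2 2 2 1 1 1 1) (@D3.rec (fun _ => Nat) 1 1 1 1 1 1 1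 1 1 1 1 1 1 1 1 1 1 1 1 1 1 1 1 1 1 1 1 1 1 1 1 1 1 1 1 1 1 1 1 1 1 1 1 1 1 1 1 1 1 1 1) (@D3.rec (fun _ => Nat) 1 1 1 1 1 1 1 1 1 1 1 1 1 1 1 1 1 1 1 1 1 1 1 1 1 1 1 1 1 1 1 1 1 1 1 1 1 1 1 1 1 1 1 1 1 1 1 1 1 1 1) (@D3.rec (fun _ => Nat) 1 1 1 1 1 1 1 1 1 1 1 1 1 1 1 1 1 1 1 1 1 1 1 1 1 1 1 1 1 1 1 1 1 1 1 1 1 1 1 1 1 1 1 1 1 1 1 1 1 1 1) (@D3.rec (fun _ => Nat) 1 1 1 1 1 1 1 1 1 1 1 1 1 1 1 1 1 1 1 1 1 1 1 1 1 1 1 1 1 1 1 1 1 1 1 1 1 1 1 1 1 1 1 1 1 1 1 1 1 1 1) (@D3.rec (fun _ => Nat) 1 1 1 1 1 1 1 1 1 1 1 1 1 1 1 1 1 1 1 1 1 1 1 1 1 1 1 1 1 1 1 1 1 1 1 1 1 1 1 1 1 1 1 1 1 1 1 1 1 1 1) (@D3.rec (fun _ => Nat) 1 1 1 1 1 1 1 1 1 1 1 1 1 1 1 1 1 1 1 1 1 1 1 1 1 1 1 1 1 1 1 1 1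 1 1 1 1 1 1 1 1 1 1 1 1 1 1 1 1 1 1) (@D3.rec (fun _ => Nat) 1 1 1 1 1 1 1 1 1 1 1 1 1 1 1 1 1 1 1 1 1 1 1 1 1 1 1 1 2 2 2 2 2 2 2 2 2 2 1 1 1 1 1 1 1 1 1 1 1 1 1) (@D3.rec (fun _ => Nat) 1 1 1 1 1 1 1 1 1 1 1 1 1 1 1 1 1 1 1 1 1 1 1 1 1 1 1 1 1 1 1 1 1 1 1 1 1 1 1 1 1 1 1 1 1 1 1 1 1 1 1) (@D3.rec (fun _ => Nat) 1 1 1 1 1 1 1 1 1 1 1 1 1 1 1 1 1 1 1 1 1 1 1 1 1 1 1 1 1 1 1 1 1 1 1 1 1 1 1 1 1 1 1 1 1 1 1 1 1 1 1) (@D3.rec (fun _ => Nat) 1 1 1 1 1 1 1 1 1 1 1 1 1 1 1 1 1 1 1 1 1 1 1 1 1 1 1 1 1 1 1 1 1 1 1 1 1 1 1 1 1 1 1 1 1 1 1 1 1 1 1) (@D3.rec (fun _ => Nat) 1 1 1 1 1 1 1 1 1 1 1 1 1 1 1 1 1 1 1 1 1 1 1 1 1 1 1 1 1 1 1 1 1 1 1 1 1 1 1 1 1 1 1 1 1 1 1 1 1 1 1) (@D3.rec (fun _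 => Nat) 1 1 1 1 1 1 1 1 1 1 1 1 1 1 1 1 1 1 1 1 1 1 1 1 1 1 1 1 1 1 1 1 1 1 1 1 1 1 1 1 1 1 1 1 1 1 1 1 1 1 1) (@D3.rec (fun _ => Nat) 1 1 1 1 1 1 1 1 1 1 1 1 1 1 1 1 1 1 1 1 1 1 1 1 1 1 1 1 1 1 1 1 1 1 1 1 1 1 1 1 1 1 1 1 1 1 1 1 1 1 1)
def lab_16 : D2 → D3 → Nat := @D2.rec (fun _ => D3 → Nat) (@D3.rec (fun _ => Nat) 1 1 1 1 1 1 1 1 1 1 1 2 2 2 2 2 2 2 2 2 2 2 2 2 2 2 2 2 1 2 2 2 2 2 2 2 2 2 2 2 2 2 2 2 2 2 2 2 2 2 2) (@D3.rec (fun _ => Nat) 2 2 2 2 2 1 1 1 1 1 1 1 1 1 1 1 1 1 1 1 1 1 1 1 1 1 1 1 1 1 1 1 1 1 1 1 1 1 1 1 1 1 1 1 1 1 1 1 1 1 1) (@D3.rec (fun _ => Nat) 1 1 1 1 1 1 1 1 1 1 1 1 1 1 1 1 1 1 1 1 1 1 1 1 1 1 1 1 1 1 1 1 1 1 1 1 1 1 1 1 1 1 1 1 1 1 1 1 1 1 1) (@D3.rec (fun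 _ => Nat) 1 1 1 1 1 1 1 1 1 1 1 1 1 1 1 1 1 1 1 1 1 1 1 1 1 1 1 1 1 1 1 1 1 1 1 1 1 1 1 1 1 1 1 1 1 1 1 1 1 1 1) (@D3.rec (fun _ => Nat) 1 1 1 1 1 1 1 1 1 1 1 1 1 1 1 1 1 1 1 1 1 1 1 1 1 1 1 1 1 1 1 1 1 1 1 1 1 1 1 1 1 1 1 1 1 1 1 1 1 1 1) (@D3.rec (fun _ => Nat) 1 1 1 1 1 1 1 1 1 1 1 1 1 1 1 1 1 1 1 1 1 1 1 1 1 1 1 1 1 1 1 1 1 1 1 1 1 1 1 1 1 1 1 1 1 1 1 1 1 1 1) (@D3.rec (fun _ => Nat) 1 1 1 1 1 1 1 1 1 1 1 1 1 1 1 1 1 1 1 1 1 1 1 1 1 1 1 1 1 1 1 1 1 1 1 1 1 1 1 1 1 1 1 1 1 1 1 1 1 1 1) (@D3.rec (fun _ => Nat) 1 1 1 1 1 1 1 1 1 1 1 1 1 1 1 1 1 1 1 1 1 1 1 1 1 1 1 1 1 1 1 1 1 1 1 1 1 1 1 1 1 1 1 1 1 1 1 1 1 1 1) (@D3.rec (fun _ => Nat) 1 1 1 1 1 1 1 1 1 1 1 1 1 1 1 1 1 1 1 1 1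 1 1 1 1 1 1 1 1 1 1 1 1 1 1 1 1 1 1 1 1 1 1 1 1 1 1 1 1 1 1) (@D3.rec (fun _ => Nat) 1 1 1 1 1 1 1 1 1 1 1 1 1 1 1 1 1 1 1 1 1 1 1 1 1 1 1 1 1 1 1 1 1 1 1 1 1 1 1 1 1 1 1 1 1 1 1 1 1 1 1) (@D3.rec (fun _ => Nat) 1 1 1 1 1 1 1 1 1 1 1 1 1 1 1 1 1 1 1 1 1 1 1 1 1 1 1 1 1 1 1 1 1 1 1 1 1 1 1 1 1 1 1 1 1 1 1 1 1 1 1) (@D3.rec (fun _ => Nat) 1 1 1 1 1 1 1 1 1 1 1 1 1 1 1 1 1 1 1 1 1 1 1 1 1 1 1 1 1 1 1 1 1 1 1 1 1 1 1 1 1 1 1 1 1 1 1 1 1 1 1) (@D3.rec (fun _ => Nat) 1 1 1 1 1 1 1 1 1 1 1 1 1 1 1 1 1 1 1 1 1 1 1 1 1 1 1 1 1 1 1 1 1 1 1 1 1 1 1 2 2 1 1 1 1 1 1 1 1 1 1) (@D3.rec (fun _ => Nat) 1 1 1 1 1 1 1 1 1 1 1 1 1 1 1 1 1 1 1 1 1 1 1 1 1 1 1 1 1 1 1 1 1 1 1 1 1 1 1 1 1 1 1 1 1 1 1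 1 1 1 1) (@D3.rec (fun _ => Nat) 1 1 1 1 1 1 1 1 1 1 1 1 1 1 1 1 1 1 1 1 1 1 1 1 1 1 1 1 1 1 1 1 1 1 1 1 1 1 1 1 1 1 1 1 1 1 1 1 1 1 1) (@D3.rec (fun _ => Nat) 1 1 1 1 1 1 1 1 1 1 1 1 1 1 1 1 1 1 1 1 1 1 1 1 1 1 1 1 1 1 1 1 1 1 1 1 1 1 1 1 1 1 1 1 1 1 1 1 1 1 1) (@D3.rec (fun _ => Nat) 1 1 1 1 1 1 1 1 1 1 1 1 1 1 1 1 1 1 1 1 1 1 1 1 1 1 1 1 1 1 1 1 1 1 1 1 2 2 2 2 1 1 1 1 1 1 1 1 1 1 1) (@D3.rec (fun _ => Nat) 1 1 1 1 1 1 1 1 1 1 1 1 1 1 1 1 1 1 1 1 1 1 1 1 1 1 1 1 1 1 1 1 1 1 1 1 1 1 1 1 1 1 1 1 1 1 1 1 1 1 1) (@D3.rec (fun _ => Nat) 1 1 1 1 1 1 1 1 1 1 1 1 1 1 1 1 1 1 1 1 1 1 1 1 1 1 1 1 1 1 1 1 1 1 1 1 1 1 1 1 1 1 1 1 1 1 1 1 1 1 1) (@D3.rec (fun _ => Nat) 1 1 1 1 1 1 1 1 1 1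 1 1 1 1 1 1 1 1 1 1 1 1 1 1 1 1 1 1 1 1 1 1 1 1 1 1 1 1 1 1 1 1 1 1 1 1 1 1 1 1 1) (@D3.rec (fun _ => Nat) 1 1 1 1 1 1 1 1 1 1 1 1 1 1 1 1 1 1 1 1 1 1 1 1 1 1 1 1 1 1 1 1 1 1 1 1 1 1 1 1 1 1 1 1 1 1 1 1 1 1 1) (@D3.rec (fun _ => Nat) 1 1 1 1 1 1 1 1 1 1 1 1 1 1 1 1 1 1 1 1 1 1 1 1 1 1 1 1 1 1 1 1 1 1 1 1 1 1 1 1 1 1 1 1 1 1 1 1 1 1 1) (@D3.rec (fun _ => Nat) 1 1 1 1 2 2 2 1 1 1 1 1 1 1 1 1 1 1 1 1 1 1 1 1 1 1 1 1 1 1 1 1 1 1 1 1 1 1 1 1 1 1 1 1 1 1 1 1 1 1 1) (@D3.rec (fun _ => Nat) 1 1 1 1 1 1 1 1 1 1 1 1 1 1 1 1 1 1 1 1 1 1 1 1 1 1 1 1 1 1 1 1 1 1 1 1 1 1 1 1 1 1 1 1 1 1 1 1 1 1 1) (@D3.rec (fun _ => Nat) 1 1 1 1 1 1 1 1 1 1 1 1 1 1 1 1 1 1 1 1 1 1 1 1 1 1 1 1 1 1 1 1 1 1 1 1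 1 1 1 1 1 1 1 1 1 1 1 1 1 1 1) (@D3.rec (fun _ => Nat) 1 1 1 1 1 1 1 1 1 1 1 1 1 1 1 1 1 1 1 1 1 1 1 1 1 1 1 1 1 1 1 1 1 1 1 1 1 1 1 1 1 1 1 1 1 1 1 1 1 1 1) (@D3.rec (fun _ => Nat) 1 1 1 1 1 1 1 1 1 1 1 1 1 1 1 1 1 1 1 1 1 1 1 1 1 1 1 1 1 1 1 1 1 1 1 1 1 1 1 1 1 1 1 1 1 1 1 1 1 1 1)
def lab_17 : D2 → D3 → Nat := @D2.rec (fun _ => D3 → Nat) (@D3.rec (fun _ => Nat) 1 1 1 1 1 1 1 1 1 1 1 1 1 1 1 1 1 1 1 1 1 1 1 1 1 1 1 1 1 1 1 1 1 1 1 1 1 1 1 1 1 1 2 2 2 2 2 2 2 2 2) (@D3.rec (fun _ => Nat) 2 2 2 2 2 2 1 1 1 1 1 1 1 1 1 1 1 1 1 1 1 1 1 1 1 1 1 1 1 1 1 1 1 1 1 1 1 1 1 1 1 1 1 1 1 1 1 1 1 1 1) (@D3.rec (fun _ => Nat) 1 1 1 1 1 1 1 1 1 1 1 1 1 1 1 1 1 1 1 1 1 1 1 1 1 1 1 1 1 1 1 1 1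 1 1 1 1 1 1 1 1 1 1 1 1 1 1 1 1 1 1) (@D3.rec (fun _ => Nat) 1 1 1 1 1 1 1 1 1 1 1 1 1 1 1 1 1 1 1 1 1 1 1 1 1 1 1 1 1 1 1 1 1 1 1 1 1 1 1 1 1 1 1 1 1 1 1 1 1 1 1) (@D3.rec (fun _ => Nat) 1 1 1 1 1 1 1 1 1 1 1 1 1 1 1 1 1 1 1 1 1 1 1 1 1 1 1 1 1 1 1 1 1 1 1 1 1 1 1 1 1 1 1 1 1 1 1 1 1 1 1) (@D3.rec (fun _ => Nat) 1 1 1 1 1 1 1 1 1 1 1 1 1 1 1 1 1 1 1 1 1 1 1 1 1 1 1 1 1 1 1 1 1 1 1 1 1 1 1 1 1 1 1 1 1 1 1 1 1 1 1) (@D3.rec (fun _ => Nat) 1 1 1 1 1 1 1 1 1 1 1 1 1 1 1 1 1 1 1 1 1 1 1 1 1 1 1 1 1 1 1 1 1 1 1 1 1 1 1 1 1 1 1 1 1 1 1 1 1 1 1) (@D3.rec (fun _ => Nat) 1 1 1 1 1 1 1 1 1 1 1 1 1 1 1 1 1 1 1 1 1 1 1 1 1 1 1 1 1 1 1 1 1 1 1 1 1 1 1 1 1 1 1 1 1 1 1 1 1 1 1) (@D3.rec (fun _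 => Nat) 1 1 1 1 1 1 1 1 1 1 1 1 1 1 1 1 1 1 1 1 1 1 1 1 1 1 1 1 1 1 1 1 1 1 1 1 1 1 1 1 1 1 1 1 1 1 1 1 1 1 1) (@D3.rec (fun _ => Nat) 1 1 1 1 1 1 1 1 1 1 1 1 1 1 1 1 1 1 1 1 1 1 1 1 1 1 1 1 1 1 1 1 1 1 1 1 1 1 1 1 1 1 1 1 1 1 1 1 1 1 1) (@D3.rec (fun _ => Nat) 1 1 1 1 1 1 1 1 1 1 1 1 1 1 1 1 1 1 1 1 1 1 1 1 1 1 1 1 1 1 1 1 1 1 1 1 1 1 1 1 1 1 1 1 1 1 1 1 1 1 1) (@D3.rec (fun _ => Nat) 1 1 1 1 1 1 1 1 1 1 1 1 1 1 1 1 1 1 1 1 1 1 1 1 1 1 1 1 1 1 1 1 1 1 1 1 1 1 1 1 1 1 1 1 1 1 1 1 1 1 1) (@D3.rec (fun _ => Nat) 1 1 1 1 1 1 1 1 1 1 1 1 1 1 1 1 1 1 1 1 1 1 1 1 1 1 1 1 1 1 1 1 1 1 1 1 1 1 1 1 1 1 1 1 1 1 1 1 1 1 1) (@D3.rec (fun _ => Nat) 1 1 1 1 1 1 1 1 1 1 1 1 1 1 1 1 1 1 1 1 1 1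 1 1 1 1 1 1 1 1 1 1 1 1 1 1 1 1 1 1 1 1 1 1 1 1 1 1 1 1 1) (@D3.rec (fun _ => Nat) 1 1 1 1 1 1 1 1 1 1 1 1 1 1 1 1 1 1 1 1 1 1 1 1 1 1 1 1 1 1 1 1 1 1 1 1 1 1 1 1 1 1 1 1 1 1 1 1 1 1 1) (@D3.rec (fun _ => Nat) 1 1 1 1 1 1 1 1 1 1 1 1 1 1 1 1 1 1 1 1 1 1 1 1 1 1 1 1 1 1 1 1 1 1 1 1 1 1 1 1 1 1 1 1 1 1 1 1 1 1 1) (@D3.rec (fun _ => Nat) 1 1 1 1 1 1 1 1 1 1 1 1 1 1 1 1 1 1 1 1 1 1 1 1 1 1 1 1 1 1 1 1 1 1 1 1 1 1 1 1 1 1 1 1 1 1 1 1 1 1 1) (@D3.rec (fun _ => Nat) 1 1 1 1 1 1 1 1 1 1 1 1 1 1 1 1 1 1 1 1 1 1 1 1 1 1 1 1 1 1 1 1 1 1 1 1 1 1 1 1 1 1 1 1 1 1 1 1 1 1 1) (@D3.rec (fun _ => Nat) 1 1 1 1 1 1 1 1 1 1 1 1 1 1 1 1 1 1 1 1 1 1 1 1 1 1 1 1 1 1 1 1 1 1 1 1 1 1 1 1 1 1 1 1 1 1 1 1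 1 1 1) (@D3.rec (fun _ => Nat) 1 1 1 1 1 1 1 1 1 1 1 1 1 1 1 1 1 1 1 1 1 1 1 1 1 1 1 1 1 1 1 1 1 1 1 1 1 1 1 1 1 1 1 1 1 1 1 1 1 1 1) (@D3.rec (fun _ => Nat) 1 1 1 1 1 1 1 1 1 1 1 1 1 1 1 1 1 1 1 1 1 1 1 1 1 1 1 1 1 1 1 1 1 1 1 1 1 1 1 1 1 1 1 1 1 1 1 1 1 1 1) (@D3.rec (fun _ => Nat) 1 1 1 1 1 1 1 1 1 1 1 1 1 1 1 1 1 1 1 1 1 1 1 1 1 1 1 1 1 1 1 1 1 1 1 1 1 1 1 1 1 1 1 1 1 1 1 1 1 1 1) (@D3.rec (fun _ => Nat) 1 1 1 1 1 1 1 1 1 1 1 1 1 1 1 1 1 1 1 1 1 1 1 1 1 1 1 1 1 1 1 1 1 1 1 1 1 1 1 1 1 1 1 1 1 1 1 1 1 1 1) (@D3.rec (fun _ => Nat) 1 1 1 1 1 1 1 1 1 1 1 1 1 1 1 1 1 1 1 1 1 1 1 1 1 1 1 1 1 1 1 1 1 1 1 1 1 1 1 1 1 1 1 1 1 1 1 1 1 1 1) (@D3.rec (fun _ => Nat) 1 1 1 1 1 1 1 1 1 1 1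 1 1 1 1 1 1 1 1 1 1 1 1 1 1 1 1 1 1 1 1 1 1 1 1 1 1 1 1 1 1 1 1 1 1 1 1 1 1 1 1) (@D3.rec (fun _ => Nat) 1 1 1 1 1 1 1 1 1 1 1 1 1 1 1 1 1 1 1 1 1 1 1 1 1 1 1 1 1 1 1 1 1 1 1 1 1 1 1 1 1 1 1 1 1 1 1 1 1 1 1) (@D3.rec (fun _ => Nat) 1 1 1 1 1 1 1 1 1 1 1 1 1 1 1 1 1 1 1 1 1 1 1 1 1 1 1 1 1 1 1 1 1 1 1 1 1 1 1 1 1 1 1 1 1 1 1 1 1 1 1)
def lab_18 : D2 → D3 → Nat := @D2.rec (fun _ => D3 → Nat) (@D3.rec (fun _ => Nat) 1 1 1 1 1 1 1 1 1 1 1 1 1 1 1 1 1 1 1 1 1 1 1 1 1 1 1 1 1 1 1 1 1 1 1 1 1 1 1 1 1 1 1 1 1 1 1 1 1 1 1) (@D3.rec (fun _ => Nat) 1 1 1 1 1 1 1 1 1 1 1 1 1 1 1 1 1 1 1 1 1 1 1 1 1 1 1 1 1 1 1 1 1 1 1 1 1 1 1 1 1 1 1 1 1 1 1 1 1 1 1) (@D3.rec (fun _ => Nat) 1 1 1 1 1 1 1 1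 1 1 1 1 1 1 1 1 1 1 1 1 1 1 1 1 1 1 1 1 1 1 1 1 1 1 1 1 1 1 1 1 1 1 1 1 1 1 1 1 1 1 1) (@D3.rec (fun _ => Nat) 1 1 1 1 1 1 1 1 1 1 1 1 1 1 1 1 1 1 1 1 1 1 1 1 1 1 1 1 1 1 1 1 1 1 1 1 1 1 1 1 1 1 1 1 1 1 1 1 1 1 1) (@D3.rec (fun _ => Nat) 1 1 1 1 1 1 1 1 1 1 1 1 1 1 1 1 1 1 1 1 1 1 1 1 1 1 1 1 1 1 1 1 1 1 1 1 1 1 1 1 1 1 1 1 1 1 1 1 1 1 1) (@D3.rec (fun _ => Nat) 1 1 1 1 1 1 1 1 1 1 1 1 1 1 1 1 1 1 1 1 1 1 1 1 1 1 1 1 1 1 1 1 1 1 1 1 1 1 1 1 1 1 1 1 1 1 1 1 1 1 1) (@D3.rec (fun _ => Nat) 1 1 1 1 1 1 1 1 1 1 1 1 1 1 1 1 1 1 1 1 1 1 1 1 1 1 1 1 1 1 1 1 1 1 1 1 1 1 1 1 1 1 1 1 1 1 1 1 1 1 1) (@D3.rec (fun _ => Nat) 1 1 1 1 1 1 1 1 1 1 1 1 1 1 1 1 1 1 1 1 1 1 1 1 1 1 1 1 1 1 1 1 1 1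 1 1 1 1 1 1 1 1 1 1 1 1 1 1 1 1 1) (@D3.rec (fun _ => Nat) 1 1 1 1 1 1 1 1 1 1 1 1 1 1 1 1 1 1 1 1 1 1 1 1 1 1 1 1 1 1 1 1 1 1 1 1 1 1 1 1 1 1 1 1 1 1 1 1 1 1 1) (@D3.rec (fun _ => Nat) 1 1 1 1 1 1 1 1 1 1 1 1 1 1 1 1 1 1 1 1 1 1 1 1 1 1 1 1 1 1 1 1 1 1 1 1 1 1 1 1 1 1 1 1 1 1 1 1 1 1 1) (@D3.rec (fun _ => Nat) 1 1 1 1 1 1 1 1 1 1 1 1 1 1 1 1 1 1 1 1 1 1 1 1 1 1 1 1 1 1 1 1 1 1 1 1 1 1 1 1 1 1 1 1 1 1 1 1 1 1 1) (@D3.rec (fun _ => Nat) 1 1 1 1 1 1 1 1 1 1 1 1 1 1 1 1 1 1 1 1 1 1 1 1 1 1 1 1 1 1 1 1 1 1 1 1 1 1 1 1 1 1 1 1 1 1 1 1 1 1 1) (@D3.rec (fun _ => Nat) 1 1 1 1 1 1 1 1 1 1 1 1 1 1 1 1 1 1 1 1 1 1 1 1 1 1 1 1 1 1 1 1 1 1 1 1 1 1 1 1 1 1 1 1 1 1 1 1 1 1 1) (@D3.rec (fun _ =>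 Nat) 1 1 1 1 1 1 1 1 1 1 1 1 1 1 1 1 1 1 1 1 1 1 1 1 1 1 1 1 1 1 1 1 1 1 1 1 1 1 1 1 1 1 1 1 1 1 1 1 1 1 1) (@D3.rec (fun _ => Nat) 1 1 1 1 1 1 1 1 1 1 1 1 1 1 1 1 1 1 1 1 1 1 1 1 1 1 1 1 1 1 1 1 1 1 1 1 1 1 1 1 1 1 1 1 1 1 1 1 1 1 1) (@D3.rec (fun _ => Nat) 1 1 1 1 1 1 1 1 1 1 1 1 1 1 1 1 1 1 1 1 1 1 1 1 1 1 1 1 1 1 1 1 1 1 1 1 1 1 1 1 1 1 1 1 1 1 1 1 1 1 1) (@D3.rec (fun _ => Nat) 1 1 1 1 1 1 1 1 1 1 1 1 1 1 1 1 1 1 1 1 1 1 1 1 1 1 1 1 1 1 1 1 1 1 1 1 1 1 1 1 1 1 1 1 1 1 1 1 1 1 1) (@D3.rec (fun _ => Nat) 1 1 1 1 1 1 1 1 1 1 1 1 1 1 1 1 1 1 1 1 1 1 1 1 1 1 1 1 1 1 1 1 1 1 1 1 1 1 1 1 1 1 1 1 1 1 1 1 1 1 1) (@D3.rec (fun _ => Nat) 1 1 1 1 1 1 1 1 1 1 1 1 1 1 1 1 1 1 1 1 1 1 1 1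 1 1 1 1 1 1 1 1 1 1 1 1 1 1 1 1 1 1 1 1 1 1 1 1 1 1 1) (@D3.rec (fun _ => Nat) 1 1 1 1 1 1 1 1 1 1 1 1 1 1 1 1 1 1 1 1 1 1 1 1 1 1 1 1 1 1 1 1 1 1 1 1 1 1 1 1 1 1 1 1 1 1 1 1 1 1 1) (@D3.rec (fun _ => Nat) 1 1 1 1 1 1 1 1 1 1 1 1 1 1 1 1 1 1 1 1 1 1 1 1 1 1 1 1 1 1 1 1 1 1 1 1 1 1 1 1 1 1 1 1 1 1 1 1 1 1 1) (@D3.rec (fun _ => Nat) 1 1 1 1 1 1 1 1 1 1 1 1 1 1 1 1 1 1 1 1 1 1 1 1 1 1 1 1 1 1 1 1 1 1 1 1 1 1 1 1 1 1 1 1 1 1 1 1 1 1 1) (@D3.rec (fun _ => Nat) 1 1 1 1 1 1 1 1 1 1 1 1 1 1 1 1 1 1 1 1 1 1 1 1 1 1 1 1 1 1 1 1 1 1 1 1 1 1 1 1 1 1 1 1 1 1 1 1 1 1 1) (@D3.rec (fun _ => Nat) 1 1 1 1 1 1 1 1 1 1 1 1 1 1 1 1 1 1 1 1 1 1 1 1 1 1 1 1 1 1 1 1 1 1 1 1 1 1 1 1 1 1 1 1 1 1 1 1 1 1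 1) (@D3.rec (fun _ => Nat) 1 1 1 1 1 1 1 1 1 1 1 1 1 1 1 1 1 1 1 1 1 1 1 1 1 1 1 1 1 1 1 1 1 1 1 1 1 1 1 1 1 1 1 1 1 1 1 1 1 1 1) (@D3.rec (fun _ => Nat) 1 1 1 1 1 1 1 1 1 1 1 1 1 1 1 1 1 1 1 1 1 1 1 1 1 1 1 1 1 1 1 1 1 1 1 1 1 1 1 1 1 1 1 1 1 1 1 1 1 1 1) (@D3.rec (fun _ => Nat) 1 1 1 1 1 1 1 1 1 1 1 1 1 1 1 1 1 1 1 1 1 1 1 1 1 1 1 1 1 1 1 1 1 1 1 1 1 1 1 1 1 1 1 1 1 1 1 1 1 1 1)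
def lab_19 : D2 → D3 → Nat := @D2.rec (fun _ => D3 → Nat) (@D3.rec (fun _ => Nat) 1 1 1 1 1 1 1 1 1 1 1 1 1 1 1 1 1 1 1 1 1 1 1 1 1 1 1 1 1 1 1 1 1 1 1 1 1 1 1 1 1 1 1 1 1 1 1 1 1 1 1) (@D3.rec (fun _ => Nat) 1 1 1 1 1 1 1 1 1 1 1 1 1 1 1 1 1 1 1 1 1 1 1 1 1 1 1 1 1 1 1 1 1 1 1 1 1 1 1 1 1 1 1 1 1 1 1 1 1 1 1) (@D3.rec (fun _ => Nat) 1 1 1 1 1 1 1 1 1 1 1 1 1 1 1 1 1 1 1 1 1 1 1 1 1 1 1 1 1 1 1 1 1 1 1 1 1 1 1 1 1 1 1 1 1 1 1 1 1 1 1) (@D3.rec (fun _ => Nat) 1 1 1 1 1 1 1 1 1 1 1 1 1 1 1 1 1 1 1 1 1 1 1 1 1 1 1 1 1 1 1 1 1 1 1 1 1 1 1 1 1 1 1 1 1 1 1 1 1 1 1) (@D3.rec (fun _ => Nat) 1 1 1 1 1 1 1 1 1 1 1 1 1 1 1 1 1 1 1 1 1 1 1 1 1 1 1 1 1 1 1 1 1 1 1 1 1 1 1 1 1 1 1 1 1 1 1 1 1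 1 1) (@D3.rec (fun _ => Nat) 1 1 1 1 1 1 1 1 1 1 1 1 1 1 1 1 1 1 1 1 1 1 1 1 1 1 1 1 1 1 1 1 1 1 1 1 1 1 1 1 1 1 1 1 1 1 1 1 1 1 1) (@D3.rec (fun _ => Nat) 1 1 1 1 1 1 1 1 1 1 1 1 1 1 1 1 1 1 1 1 1 1 1 1 1 1 1 1 1 1 1 1 1 1 1 1 1 1 1 1 1 1 1 1 1 1 1 1 1 1 1) (@D3.rec (fun _ => Nat) 1 1 1 1 1 1 1 1 1 1 1 1 1 1 1 1 1 1 1 1 1 1 1 1 1 1 1 1 1 1 1 1 1 1 1 1 1 1 1 1 1 1 1 1 1 1 1 1 1 1 1) (@D3.rec (fun _ => Nat) 1 1 1 1 1 1 1 1 1 1 1 1 1 1 1 1 1 1 1 1 1 1 1 1 1 1 1 1 1 1 1 1 1 1 1 1 1 1 1 1 1 1 1 1 1 1 1 1 1 1 1) (@D3.rec (fun _ => Nat) 1 1 1 1 1 1 1 1 1 1 1 1 1 1 1 1 1 1 1 1 1 1 1 1 1 1 1 1 1 1 1 1 1 1 1 1 1 1 1 1 1 1 1 1 1 1 1 1 1 1 1) (@D3.rec (fun _ => Nat) 1 1 1 1 1 1 1 1 1 1 1 1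 1 1 1 1 1 1 1 1 1 1 1 1 1 1 1 1 1 1 1 1 1 1 1 1 1 1 1 1 1 1 1 1 1 1 1 1 1 1 1) (@D3.rec (fun _ => Nat) 1 1 1 1 1 1 1 1 1 1 1 1 1 1 1 1 1 1 1 1 1 1 1 1 1 1 1 1 1 1 1 1 1 1 1 1 1 1 1 1 1 1 1 1 1 1 1 1 1 1 1) (@D3.rec (fun _ => Nat) 1 1 1 1 1 1 1 1 1 1 1 1 1 1 1 1 1 1 1 1 1 1 1 1 1 1 1 1 1 1 1 1 1 1 1 1 1 1 1 1 1 1 1 1 1 1 1 1 1 1 1) (@D3.rec (fun _ => Nat) 1 1 1 1 1 1 1 1 1 1 1 1 1 1 1 1 1 1 1 1 1 1 1 1 1 1 1 1 1 1 1 1 1 1 1 1 1 1 1 1 1 1 1 1 1 1 1 1 1 1 1) (@D3.rec (fun _ => Nat) 1 1 1 1 1 1 1 1 1 1 1 1 1 1 1 1 1 1 1 1 1 1 1 1 1 1 1 1 1 1 1 1 1 1 1 1 1 1 1 1 1 1 1 1 1 1 1 1 1 1 1) (@D3.rec (fun _ => Nat) 1 1 1 1 1 1 1 1 1 1 1 1 1 1 1 1 1 1 1 1 1 1 1 1 1 1 1 1 1 1 1 1 1 1 1 1 1 1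 1 1 1 1 1 1 1 1 1 1 1 1 1) (@D3.rec (fun _ => Nat) 1 1 1 1 1 1 1 1 1 1 1 1 1 1 1 1 1 1 1 1 1 1 1 1 1 1 1 1 1 1 1 1 1 1 1 1 1 1 1 1 1 1 1 1 1 1 1 1 1 1 1) (@D3.rec (fun _ => Nat) 1 1 1 1 1 1 1 1 1 1 1 1 1 1 1 1 1 1 1 1 1 1 1 1 1 1 1 1 1 1 1 1 1 1 1 1 1 1 1 1 1 1 1 1 1 1 1 1 1 1 1) (@D3.rec (fun _ => Nat) 1 1 1 1 1 1 1 1 1 1 1 1 1 1 1 1 1 1 1 1 1 1 1 1 1 1 1 1 1 1 1 1 1 1 1 1 1 1 1 1 1 1 1 1 1 1 1 1 1 1 1) (@D3.rec (fun _ => Nat) 1 1 1 1 1 1 1 1 1 1 1 1 1 1 1 1 1 1 1 1 1 1 1 1 1 1 1 1 1 1 1 1 1 1 1 1 1 1 1 1 1 1 1 1 1 1 1 1 1 1 1) (@D3.rec (fun _ => Nat) 1 1 1 1 1 1 1 1 1 1 1 1 1 1 1 1 1 1 1 1 1 1 1 1 1 1 1 1 1 1 1 1 1 1 1 1 1 1 1 1 1 1 1 1 1 1 1 1 1 1 1) (@D3.rec (fun _ => Nat) 1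 1 1 1 1 1 1 1 1 1 1 1 1 1 1 1 1 1 1 1 1 1 1 1 1 1 1 1 1 1 1 1 1 1 1 1 1 1 1 1 1 1 1 1 1 1 1 1 1 1 1) (@D3.rec (fun _ => Nat) 1 1 1 1 1 1 1 1 1 1 1 1 1 1 1 1 1 1 1 1 1 1 1 1 1 1 1 1 1 1 1 1 1 1 1 1 1 1 1 1 1 1 1 1 1 1 1 1 1 1 1) (@D3.rec (fun _ => Nat) 1 1 1 1 1 1 1 1 1 1 1 1 1 1 1 1 1 1 1 1 1 1 1 1 1 1 1 1 1 1 1 1 1 1 1 1 1 1 1 1 1 1 1 1 1 1 1 1 1 1 1) (@D3.rec (fun _ => Nat) 1 1 1 1 1 1 1 1 1 1 1 1 1 1 1 1 1 1 1 1 1 1 1 1 1 1 1 1 1 1 1 1 1 1 1 1 1 1 1 1 1 1 1 1 1 1 1 1 1 1 1) (@D3.rec (fun _ => Nat) 1 1 1 1 1 1 1 1 1 1 1 1 1 1 1 1 1 1 1 1 1 1 1 1 1 1 1 1 1 1 1 1 1 1 1 1 1 1 1 1 1 1 1 1 1 1 1 1 1 1 1) (@D3.rec (fun _ => Nat) 1 1 1 1 1 1 1 1 1 1 1 1 1 1 1 1 1 1 1 1 1 1 1 1 1 1 1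 1 1 1 1 1 1 1 1 1 1 1 1 1 1 1 1 1 1 1 1 1 1 1 1)
def lab_20 : D2 → D3 → Nat := @D2.rec (fun _ => D3 → Nat) (@D3.rec (fun _ => Nat) 1 1 1 1 1 1 1 1 1 1 1 1 1 1 1 1 1 1 1 1 1 1 1 1 1 1 1 1 1 1 1 1 1 1 1 1 1 1 1 1 1 1 1 1 1 1 1 1 1 1 1) (@D3.rec (fun _ => Nat) 1 1 1 1 1 1 1 1 1 1 1 1 1 1 1 1 1 1 1 1 1 1 1 1 1 1 1 1 1 1 1 1 1 1 1 1 1 1 1 1 1 1 1 1 1 1 1 1 1 1 1) (@D3.rec (fun _ => Nat) 1 1 1 1 1 1 1 1 1 1 1 1 1 1 1 1 1 1 1 1 1 1 1 1 1 1 1 1 1 1 1 1 1 1 1 1 1 1 1 1 1 1 1 1 1 1 1 1 1 1 1) (@D3.rec (fun _ => Nat) 1 1 1 1 1 1 1 1 1 1 1 1 1 1 1 1 1 1 1 1 1 1 1 1 1 1 1 1 1 1 1 1 1 1 1 1 1 1 1 1 1 1 1 1 1 1 1 1 1 1 1) (@D3.rec (fun _ => Nat) 1 1 1 1 1 1 1 1 1 1 1 1 1 1 1 1 1 1 1 1 1 1 1 1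 1 1 1 1 1 1 1 1 1 1 1 1 1 1 1 1 1 1 1 1 1 1 1 1 1 1 1) (@D3.rec (fun _ => Nat) 1 1 1 1 1 1 1 1 1 1 1 1 1 1 1 1 1 1 1 1 1 1 1 1 1 1 1 1 1 1 1 1 1 1 1 1 1 1 1 1 1 1 1 1 1 1 1 1 1 1 1) (@D3.rec (fun _ => Nat) 1 1 1 1 1 1 1 1 1 1 1 1 1 1 1 1 1 1 1 1 1 1 1 1 1 1 1 1 1 1 1 1 1 1 1 1 1 1 1 1 1 1 1 1 1 1 1 1 1 1 1) (@D3.rec (fun _ => Nat) 1 1 1 1 1 1 1 1 1 1 1 1 1 1 1 1 1 1 1 1 1 1 1 1 1 1 1 1 1 1 1 1 1 1 1 1 1 1 1 1 1 1 1 1 1 1 1 1 1 1 1) (@D3.rec (fun _ => Nat) 1 1 1 1 1 1 1 1 1 1 1 1 1 1 1 1 1 1 1 1 1 1 1 1 1 1 1 1 1 1 1 1 1 1 1 1 1 1 1 1 1 1 1 1 1 1 1 1 1 1 1) (@D3.rec (fun _ => Nat) 1 1 1 1 1 1 1 1 1 1 1 1 1 1 1 1 1 1 1 1 1 1 1 1 1 1 1 1 1 1 1 1 1 1 1 1 1 1 1 1 1 1 1 1 1 1 1 1 1 1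 1) (@D3.rec (fun _ => Nat) 1 1 1 1 1 1 1 1 1 1 1 1 1 1 1 1 1 1 1 1 1 1 1 1 1 1 1 1 1 1 1 1 1 1 1 1 1 1 1 1 1 1 1 1 1 1 1 1 1 1 1) (@D3.rec (fun _ => Nat) 1 1 1 1 1 1 1 1 1 1 1 1 1 1 1 1 1 1 1 1 1 1 1 1 1 1 1 1 1 1 1 1 1 1 1 1 1 1 1 1 1 1 1 1 1 1 1 1 1 1 1) (@D3.rec (fun _ => Nat) 1 1 1 1 1 1 1 1 1 1 1 1 1 1 1 1 1 1 1 1 1 1 1 1 1 1 1 1 1 1 1 1 1 1 1 1 1 1 1 1 1 1 1 1 1 1 1 1 1 1 1) (@D3.rec (fun _ => Nat) 1 1 1 1 1 1 1 1 1 1 1 1 1 1 1 1 1 1 1 1 1 1 1 1 1 1 1 1 1 1 1 1 1 1 1 1 1 1 1 1 1 1 1 1 1 1 1 1 1 1 1) (@D3.rec (fun _ => Nat) 1 1 1 1 1 1 1 1 1 1 1 1 1 1 1 1 1 1 1 1 1 1 1 1 1 1 1 1 1 1 1 1 1 1 1 1 1 1 1 1 1 1 1 1 1 1 1 1 1 1 1) (@D3.rec (fun _ => Nat) 1 1 1 1 1 1 1 1 1 1 1 1 1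 1 1 1 1 1 1 1 1 1 1 1 1 1 1 1 1 1 1 1 1 1 1 1 1 1 1 1 1 1 1 1 1 1 1 1 1 1 1) (@D3.rec (fun _ => Nat) 1 1 1 1 1 1 1 1 1 1 1 1 1 1 1 1 1 1 1 1 1 1 1 1 1 1 1 1 1 1 1 1 1 1 1 1 1 1 1 1 1 1 1 1 1 1 1 1 1 1 1) (@D3.rec (fun _ => Nat) 1 1 1 1 1 1 1 1 1 1 1 1 1 1 1 1 1 1 1 1 1 1 1 1 1 1 1 1 1 1 1 1 1 1 1 1 1 1 1 1 1 1 1 1 1 1 1 1 1 1 1) (@D3.rec (fun _ => Nat) 1 1 1 1 1 1 1 1 1 1 1 1 1 1 1 1 1 1 1 1 1 1 1 1 1 1 1 1 1 1 1 1 1 1 1 1 1 1 1 1 1 1 1 1 1 1 1 1 1 1 1) (@D3.rec (fun _ => Nat) 1 1 1 1 1 1 1 1 1 1 1 1 1 1 1 1 1 1 1 1 1 1 1 1 1 1 1 1 1 1 1 1 1 1 1 1 1 1 1 1 1 1 1 1 1 1 1 1 1 1 1) (@D3.rec (fun _ => Nat) 1 1 1 1 1 1 1 1 1 1 1 1 1 1 1 1 1 1 1 1 1 1 1 1 1 1 1 1 1 1 1 1 1 1 1 1 1 1 1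 1 1 1 1 1 1 1 1 1 1 1 1) (@D3.rec (fun _ => Nat) 1 1 1 1 1 1 1 1 1 1 1 1 1 1 1 1 1 1 1 1 1 1 1 1 1 1 1 1 1 1 1 1 1 1 1 1 1 1 1 1 1 1 1 1 1 1 1 1 1 1 1) (@D3.rec (fun _ => Nat) 1 1 1 1 1 1 1 1 1 1 1 1 1 1 1 1 1 1 1 1 1 1 1 1 1 1 1 1 1 1 1 1 1 1 1 1 1 1 1 1 1 1 1 1 1 1 1 1 1 1 1) (@D3.rec (fun _ => Nat) 1 1 1 1 1 1 1 1 1 1 1 1 1 1 1 1 1 1 1 1 1 1 1 1 1 1 1 1 1 1 1 1 1 1 1 1 1 1 1 1 1 1 1 1 1 1 1 1 1 1 1) (@D3.rec (fun _ => Nat) 1 1 1 1 1 1 1 1 1 1 1 1 1 1 1 1 1 1 1 1 1 1 1 1 1 1 1 1 1 1 1 1 1 1 1 1 1 1 1 1 1 1 1 1 1 1 1 1 1 1 1) (@D3.rec (fun _ => Nat) 1 1 1 1 1 1 1 1 1 1 1 1 1 1 1 1 1 1 1 1 1 1 1 1 1 1 1 1 1 1 1 1 1 1 1 1 1 1 1 1 1 1 1 1 1 1 1 1 1 1 1) (@D3.rec (fun _ => Nat) 1 1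 1 1 1 1 1 1 1 1 1 1 1 1 1 1 1 1 1 1 1 1 1 1 1 1 1 1 1 1 1 1 1 1 1 1 1 1 1 1 1 1 1 1 1 1 1 1 1 1 1)
def lab_21 : D2 → D3 → Nat := @D2.rec (fun _ => D3 → Nat) (@D3.rec (fun _ => Nat) 1 1 1 1 1 1 1 1 1 1 1 1 1 1 1 1 1 1 1 1 1 1 1 1 1 1 1 1 1 1 1 1 1 1 1 1 1 1 1 1 1 1 1 1 1 1 1 1 1 1 1) (@D3.rec (fun _ => Nat) 1 1 1 1 1 1 1 1 1 1 1 1 1 1 1 1 1 1 1 1 1 1 1 1 1 1 1 1 1 1 1 1 1 1 1 1 1 1 1 1 1 1 1 1 1 1 1 1 1 1 1) (@D3.rec (fun _ => Nat) 1 1 1 1 1 1 1 1 1 1 1 1 1 1 1 1 1 1 1 1 1 1 1 1 1 1 1 1 1 1 1 1 1 1 1 1 1 1 1 1 1 1 1 1 1 1 1 1 1 1 1) (@D3.rec (fun _ => Nat) 1 1 1 1 1 1 1 1 1 1 1 1 1 1 1 1 1 1 1 1 1 1 1 1 1 1 1 1 1 1 1 1 1 1 1 1 1 1 1 1 1 1 1 1 1 1 1 1 1 1 1) (@D3.rec (fun _ => Nat)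 1 1 1 1 1 1 1 1 1 1 1 1 1 1 1 1 1 1 1 1 1 1 1 1 1 1 1 1 1 1 1 1 1 1 1 1 1 1 1 1 1 1 1 1 1 1 1 1 1 1 1) (@D3.rec (fun _ => Nat) 1 1 1 1 1 1 1 1 1 1 1 1 1 1 1 1 1 1 1 1 1 1 1 1 1 1 1 1 1 1 1 1 1 1 1 1 1 1 1 1 1 1 1 1 1 1 1 1 1 1 1) (@D3.rec (fun _ => Nat) 1 1 1 1 1 1 1 1 1 1 1 1 1 1 1 1 1 1 1 1 1 1 1 1 1 1 1 1 1 1 1 1 1 1 1 1 1 1 1 1 1 1 1 1 1 1 1 1 1 1 1) (@D3.rec (fun _ => Nat) 1 1 1 1 1 1 1 1 1 1 1 1 1 1 1 1 1 1 1 1 1 1 1 1 1 1 1 1 1 1 1 1 1 1 1 1 1 1 1 1 1 1 1 1 1 1 1 1 1 1 1) (@D3.rec (fun _ => Nat) 1 1 1 1 1 1 1 1 1 1 1 1 1 1 1 1 1 1 1 1 1 1 1 1 1 1 1 1 1 1 1 1 1 1 1 1 1 1 1 1 1 1 1 1 1 1 1 1 1 1 1) (@D3.rec (fun _ => Nat) 1 1 1 1 1 1 1 1 1 1 1 1 1 1 1 1 1 1 1 1 1 1 1 1 1 1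 1 1 1 1 1 1 1 1 1 1 1 1 1 1 1 1 1 1 1 1 1 1 1 1 1) (@D3.rec (fun _ => Nat) 1 1 1 1 1 1 1 1 1 1 1 1 1 1 1 1 1 1 1 1 1 1 1 1 1 1 1 1 1 1 1 1 1 1 1 1 1 1 1 1 1 1 1 1 1 1 1 1 1 1 1) (@D3.rec (fun _ => Nat) 1 1 1 1 1 1 1 1 1 1 1 1 1 1 1 1 1 1 1 1 1 1 1 1 1 1 1 1 1 1 1 1 1 1 1 1 1 1 1 1 1 1 1 1 1 1 1 1 1 1 1) (@D3.rec (fun _ => Nat) 1 1 1 1 1 1 1 1 1 1 1 1 1 1 1 1 1 1 1 1 1 1 1 1 1 1 1 1 1 1 1 1 1 1 1 1 1 1 1 1 1 1 1 1 1 1 1 1 1 1 1) (@D3.rec (fun _ => Nat) 1 1 1 1 1 1 1 1 1 1 1 1 1 1 1 1 1 1 1 1 1 1 1 1 1 1 1 1 1 1 1 1 1 1 1 1 1 1 1 1 1 1 1 1 1 1 1 1 1 1 1) (@D3.rec (fun _ => Nat) 1 1 1 1 1 1 1 1 1 1 1 1 1 1 1 1 1 1 1 1 1 1 1 1 1 1 1 1 1 1 1 1 1 1 1 1 1 1 1 1 1 1 1 1 1 1 1 1 1 1 1) (@D3.rec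 (fun _ => Nat) 1 1 1 1 1 1 1 1 1 1 1 1 1 1 1 1 1 1 1 1 1 1 1 1 1 1 1 1 1 1 1 1 1 1 1 1 1 1 1 1 1 1 1 1 1 1 1 1 1 1 1) (@D3.rec (fun _ => Nat) 1 1 1 1 1 1 1 1 1 1 1 1 1 1 1 1 1 1 1 1 1 1 1 1 1 1 1 1 1 1 1 1 1 1 1 1 1 1 1 1 1 1 1 1 1 1 1 1 1 1 1) (@D3.rec (fun _ => Nat) 1 1 1 1 1 1 1 1 1 1 1 1 1 1 1 1 1 1 1 1 1 1 1 1 1 1 1 1 1 1 1 1 1 1 1 1 1 1 1 1 1 1 1 1 1 1 1 1 1 1 1) (@D3.rec (fun _ => Nat) 1 1 1 1 1 1 1 1 1 1 1 1 1 1 1 1 1 1 1 1 1 1 1 1 1 1 1 1 1 1 1 1 1 1 1 1 1 1 1 1 1 1 1 1 1 1 1 1 1 1 1) (@D3.rec (fun _ => Nat) 1 1 1 1 1 1 1 1 1 1 1 1 1 1 1 1 1 1 1 1 1 1 1 1 1 1 1 1 1 1 1 1 1 1 1 1 1 1 1 1 1 1 1 1 1 1 1 1 1 1 1) (@D3.rec (fun _ => Nat) 1 1 1 1 1 1 1 1 1 1 1 1 1 1 1 1 1 1 1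 1 1 1 1 1 1 1 1 1 1 1 1 1 1 1 1 1 1 1 1 1 1 1 1 1 1 1 1 1 1 1 1) (@D3.rec (fun _ => Nat) 1 1 1 1 1 1 1 1 1 1 1 1 1 1 1 1 1 1 1 1 1 1 1 1 1 1 1 1 1 1 1 1 1 1 1 1 1 1 1 1 1 1 1 1 1 1 1 1 1 1 1) (@D3.rec (fun _ => Nat) 1 1 1 1 1 1 1 1 1 1 1 1 1 1 1 1 1 1 1 1 1 1 1 1 1 1 1 1 1 1 1 1 1 1 1 1 1 1 1 1 1 1 1 1 1 1 1 1 1 1 1) (@D3.rec (fun _ => Nat) 1 1 1 1 1 1 1 1 1 1 1 1 1 1 1 1 1 1 1 1 1 1 1 1 1 1 1 1 1 1 1 1 1 1 1 1 1 1 1 1 1 1 1 1 1 1 1 1 1 1 1) (@D3.rec (fun _ => Nat) 1 1 1 1 1 1 1 1 1 1 1 1 1 1 1 1 1 1 1 1 1 1 1 1 1 1 1 1 1 1 1 1 1 1 1 1 1 1 1 1 1 1 1 1 1 1 1 1 1 1 1) (@D3.rec (fun _ => Nat) 1 1 1 1 1 1 1 1 1 1 1 1 1 1 1 1 1 1 1 1 1 1 1 1 1 1 1 1 1 1 1 1 1 1 1 1 1 1 1 1 1 1 1 1 1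 1 1 1 1 1 1) (@D3.rec (fun _ => Nat) 1 1 1 1 1 1 1 1 1 1 1 1 1 1 1 1 1 1 1 1 1 1 1 1 1 1 1 1 1 1 1 1 1 1 1 1 1 1 1 1 1 1 1 1 1 1 1 1 1 1 1)
def lab_22 : D2 → D3 → Nat := @D2.rec (fun _ => D3 → Nat) (@D3.rec (fun _ => Nat) 1 1 1 1 1 1 1 1 1 1 1 1 1 1 1 1 1 1 1 1 1 1 1 1 1 1 1 1 1 1 1 1 1 1 1 1 1 1 1 1 1 1 1 1 1 1 1 1 1 1 1) (@D3.rec (fun _ => Nat) 1 1 1 1 1 1 1 1 1 1 1 1 1 1 1 1 1 1 1 1 1 1 1 1 1 1 1 1 1 1 1 1 1 1 1 1 1 1 1 1 1 1 1 1 1 1 1 1 1 1 1) (@D3.rec (fun _ => Nat) 1 1 1 1 1 1 1 1 1 1 1 1 1 1 1 1 1 1 1 1 1 1 1 1 1 1 1 1 1 1 1 1 1 1 1 1 1 1 1 1 1 1 1 1 1 1 1 1 1 1 1) (@D3.rec (fun _ => Nat) 1 1 1 1 1 1 1 1 1 1 1 1 1 1 1 1 1 1 1 1 1 1 1 1 1 1 1 1 1 1 1 1 1 1 1 1 1 1 1 1 1 1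 1 1 1 1 1 1 1 1 1) (@D3.rec (fun _ => Nat) 1 1 1 1 1 1 1 1 1 1 1 1 1 1 1 1 1 1 1 1 1 1 1 1 1 1 1 1 1 1 1 1 1 1 1 1 1 1 1 1 1 1 1 1 1 1 1 1 1 1 1) (@D3.rec (fun _ => Nat) 1 1 1 1 1 1 1 1 1 1 1 1 1 1 1 1 1 1 1 1 1 1 1 1 1 1 1 1 1 1 1 1 1 1 1 1 1 1 1 1 1 1 1 1 1 1 1 1 1 1 1) (@D3.rec (fun _ => Nat) 1 1 1 1 1 1 1 1 1 1 1 1 1 1 1 1 1 1 1 1 1 1 1 1 1 1 1 1 1 1 1 1 1 1 1 1 1 1 1 1 1 1 1 1 1 1 1 1 1 1 1) (@D3.rec (fun _ => Nat) 1 1 1 1 1 1 1 1 1 1 1 1 1 1 1 1 1 1 1 1 1 1 1 1 1 1 1 1 1 1 1 1 1 1 1 1 1 1 1 1 1 1 1 1 1 1 1 1 1 1 1) (@D3.rec (fun _ => Nat) 1 1 1 1 1 1 1 1 1 1 1 1 1 1 1 1 1 1 1 1 1 1 1 1 1 1 1 1 1 1 1 1 1 1 1 1 1 1 1 1 1 1 1 1 1 1 1 1 1 1 1) (@D3.rec (fun _ => Nat) 1 1 1 1 1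 1 1 1 1 1 1 1 1 1 1 1 1 1 1 1 1 1 1 1 1 1 1 1 1 1 1 1 1 1 1 1 1 1 1 1 1 1 1 1 1 1 1 1 1 1 1) (@D3.rec (fun _ => Nat) 1 1 1 1 1 1 1 1 1 1 1 1 1 1 1 1 1 1 1 1 1 1 1 1 1 1 1 1 1 1 1 1 1 1 1 1 1 1 1 1 1 1 1 1 1 1 1 1 1 1 1) (@D3.rec (fun _ => Nat) 1 1 1 1 1 1 1 1 1 1 1 1 1 1 1 1 1 1 1 1 1 1 1 1 1 1 1 1 1 1 1 1 1 1 1 1 1 1 1 1 1 1 1 1 1 1 1 1 1 1 1) (@D3.rec (fun _ => Nat) 1 1 1 1 1 1 1 1 1 1 1 1 1 1 1 1 1 1 1 1 1 1 1 1 1 1 1 1 1 1 1 1 1 1 1 1 1 1 1 1 1 1 1 1 1 1 1 1 1 1 1) (@D3.rec (fun _ => Nat) 1 1 1 1 1 1 1 1 1 1 1 1 1 1 1 1 1 1 1 1 1 1 1 1 1 1 1 1 1 1 1 1 1 1 1 1 1 1 1 1 1 1 1 1 1 1 1 1 1 1 1) (@D3.rec (fun _ => Nat) 1 1 1 1 1 1 1 1 1 1 1 1 1 1 1 1 1 1 1 1 1 1 1 1 1 1 1 1 1 1 1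 1 1 1 1 1 1 1 1 1 1 1 1 1 1 1 1 1 1 1 1) (@D3.rec (fun _ => Nat) 1 1 1 1 1 1 1 1 1 1 1 1 1 1 1 1 1 1 1 1 1 1 1 1 1 1 1 1 1 1 1 1 1 1 1 1 1 1 1 1 1 1 1 1 1 1 1 1 1 1 1) (@D3.rec (fun _ => Nat) 1 1 1 1 1 1 1 1 1 1 1 1 1 1 1 1 1 1 1 1 1 1 1 1 1 1 1 1 1 1 1 1 1 1 1 1 1 1 1 1 1 1 1 1 1 1 1 1 1 1 1) (@D3.rec (fun _ => Nat) 1 1 1 1 1 1 1 1 1 1 1 1 1 1 1 1 1 1 1 1 1 1 1 1 1 1 1 1 1 1 1 1 1 1 1 1 1 1 1 1 1 1 1 1 1 1 1 1 1 1 1) (@D3.rec (fun _ => Nat) 1 1 1 1 1 1 1 1 1 1 1 1 1 1 1 1 1 1 1 1 1 1 1 1 1 1 1 1 1 1 1 1 1 1 1 1 1 1 1 1 1 1 1 1 1 1 1 1 1 1 1) (@D3.rec (fun _ => Nat) 1 1 1 1 1 1 1 1 1 1 1 1 1 1 1 1 1 1 1 1 1 1 1 1 1 1 1 1 1 1 1 1 1 1 1 1 1 1 1 1 1 1 1 1 1 1 1 1 1 1 1) (@D3.rec (fun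 _ => Nat) 1 1 1 1 1 1 1 1 1 1 1 1 1 1 1 1 1 1 1 1 1 1 1 1 1 1 1 1 1 1 1 1 1 1 1 1 1 1 1 1 1 1 1 1 1 1 1 1 1 1 1) (@D3.rec (fun _ => Nat) 1 1 1 1 1 1 1 1 1 1 1 1 1 1 1 1 1 1 1 1 1 1 1 1 1 1 1 1 1 1 1 1 1 1 1 1 1 1 1 1 1 1 1 1 1 1 1 1 1 1 1) (@D3.rec (fun _ => Nat) 1 1 1 1 1 1 1 1 1 1 1 1 1 1 1 1 1 1 1 1 1 1 1 1 1 1 1 1 1 1 1 1 1 1 1 1 1 1 1 1 1 1 1 1 1 1 1 1 1 1 1) (@D3.rec (fun _ => Nat) 1 1 1 1 1 1 1 1 1 1 1 1 1 1 1 1 1 1 1 1 1 1 1 1 1 1 1 1 1 1 1 1 1 1 1 1 1 1 1 1 1 1 1 1 1 1 1 1 1 1 1) (@D3.rec (fun _ => Nat) 1 1 1 1 1 1 1 1 1 1 1 1 1 1 1 1 1 1 1 1 1 1 1 1 1 1 1 1 1 1 1 1 1 1 1 1 1 1 1 1 1 1 1 1 1 1 1 1 1 1 1) (@D3.rec (fun _ => Nat) 1 1 1 1 1 1 1 1 1 1 1 1 1 1 1 1 1 1 1 1 1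 1 1 1 1 1 1 1 1 1 1 1 1 1 1 1 1 1 1 1 1 1 1 1 1 1 1 1 1 1 1) (@D3.rec (fun _ => Nat) 1 1 1 1 1 1 1 1 1 1 1 1 1 1 1 1 1 1 1 1 1 1 1 1 1 1 1 1 1 1 1 1 1 1 1 1 1 1 1 1 1 1 1 1 1 1 1 1 1 1 1)
def lab : Pt → Nat := @Pt.rec (fun _ => Nat) (@D1.rec (fun _ => D2 → D3 → Nat) lab_0 lab_1 lab_2 lab_3 lab_4 lab_5 lab_6 lab_7 lab_8 lab_9 lab_10 lab_11 lab_12 lab_13 lab_14 lab_15 lab_16 lab_17 lab_18 lab_19 lab_20 lab_21 lab_22)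
def odep_0 : D2 → D3 → Nat := @D2.rec (fun _ => D3 → Nat) (@D3.rec (fun _ => Nat) 0 0 1 2 3 4 5 5 6 6 6 7 7 7 7 8 8 8 8 8 9 9 9 9 9 9 9 9 10 10 10 10 10 10 10 10 10 10 10 11 11 11 11 11 11 11 11 11 11 11 11) (@D3.rec (fun _ => Nat) 11 0 11 11 11 12 12 12 12 12 12 12 12 12 12 12 12 12 12 12 12 1 12 12 12 1 12 12 12 13 13 13 13 13 13 13 13 13 13 13 2 13 13 13 13 13 13 13 13 13 2) (@D3.rec (fun _ => Nat) 13 13 13 13 2 13 13 13 2 13 13 13 13 14 14 14 14 14 14 14 14 14 14 14 14 14 14 3 14 14 14 14 3 14 14 14 14 14 14 3 14 14 14 14 14 14 3 14 14 14 14) (@D3.rec (fun _ => Nat) 14 3 14 14 14 14 3 14 14 14 14 14 15 15 15 15 15 15 15 15 15 4 15 15 15 15 15 15 15 15 4 15 15 15 15 15 15 4 15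 15 15 15 15 4 15 15 15 15 15 4 15) (@D3.rec (fun _ => Nat) 15 15 15 15 4 4 15 15 15 15 15 15 15 4 15 15 15 15 15 15 15 4 15 15 15 15 15 4 4 15 15 15 15 15 15 16 16 16 16 16 16 16 16 16 16 5 16 16 16 16 16) (@D3.rec (fun _ => Nat) 16 5 16 16 16 16 16 16 16 5 16 16 16 16 16 5 5 16 16 16 16 16 16 16 5 16 16 16 16 16 16 16 5 16 16 16 16 16 5 16 16 5 5 16 16 16 16 16 16 16 5) (@D3.rec (fun _ => Nat) 5 16 16 16 16 16 16 16 16 16 16 5 16 16 16 16 16 16 16 16 16 30 5 5 16 16 16 16 16 16 5 5 5 16 16 16 16 16 16 16 17 17 17 17 6 17 17 17 17 17 17) (@D3.rec (fun _ => Nat) 17 17 17 17 6 17 17 17 17 17 6 6 17 17 17 17 17 17 17 6 17 17 17 17 17 17 17 17 17 6 17 17 6 6 17 17 17 17 17 17 17 6 6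 17 17 17 17 17 17 17 17) (@D3.rec (fun _ => Nat) 17 17 6 17 17 17 17 17 17 17 17 17 29 6 6 17 17 17 17 17 17 6 6 6 17 17 17 6 6 6 17 17 17 17 17 17 17 17 17 17 6 6 17 17 17 17 17 17 17 17 17) (@D3.rec (fun _ => Nat) 17 17 17 17 17 17 17 6 6 17 17 17 17 17 17 17 17 17 17 17 29 6 6 6 17 17 17 17 17 17 17 6 6 6 6 6 17 17 17 17 17 17 18 18 18 7 18 18 18 18 7) (@D3.rec (fun _ => Nat) 7 18 18 18 18 18 18 18 18 18 18 18 7 18 18 7 7 18 18 18 18 18 18 7 7 18 18 18 18 18 18 18 18 18 18 7 18 18 18 18 18 18 18 18 18 18 18 18 18 28 7) (@D3.rec (fun _ => Nat) 7 7 18 18 18 7 7 7 18 18 18 18 18 18 18 18 18 7 7 18 18 18 18 18 18 18 18 18 18 18 18 18 18 18 18 7 7 18 18 18 18 18 18 18 18 18 18 18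 30 7 7) (@D3.rec (fun _ => Nat) 7 18 18 18 18 18 18 18 7 7 7 7 7 18 18 18 18 18 7 7 7 7 18 18 18 18 18 18 18 18 18 18 18 18 7 7 7 18 18 18 18 18 18 18 18 18 18 18 18 18 18) (@D3.rec (fun _ => Nat) 18 18 18 18 18 18 18 18 18 28 7 7 7 18 18 18 18 18 18 18 18 18 18 18 28 18 18 28 7 7 7 7 7 18 18 18 18 18 18 7 7 7 7 7 7 18 18 18 18 18 19) (@D3.rec (fun _ => Nat) 8 19 19 8 19 19 8 8 19 19 19 19 8 8 8 19 19 19 19 19 19 19 19 19 19 19 19 19 19 8 8 8 19 19 19 8 8 8 19 19 19 19 19 19 19 8 8 19 19 19 19) (@D3.rec (fun _ => Nat) 19 19 19 19 19 19 19 19 19 19 19 19 8 8 19 19 19 19 19 19 19 19 19 19 19 19 19 19 29 19 19 19 19 27 8 8 8 8 8 19 19 19 19 19 8 8 8 8 19 19 19) (@D3.rec (fun _ => Nat)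 19 19 19 19 19 19 19 19 8 8 8 19 19 19 19 19 19 19 19 19 19 19 19 19 19 19 19 19 19 19 19 19 19 19 29 8 8 8 19 19 19 19 19 19 19 19 19 19 19 29 19) (@D3.rec (fun _ => Nat) 19 29 8 8 8 8 8 19 19 19 19 19 19 19 19 19 8 8 8 8 8 8 8 8 19 19 19 19 19 19 19 19 8 8 8 8 8 8 19 19 19 19 19 19 19 19 19 19 19 19 19) (@D3.rec (fun _ => Nat) 8 8 8 8 8 19 19 19 19 19 19 19 19 19 19 19 19 19 19 19 19 19 19 19 27 19 19 19 19 19 19 29 19 19 19 19 19 19 19 27 8 8 8 8 8 19 19 19 19 19 19) (@D3.rec (fun _ => Nat) 27 19 19 19 19 19 19 27 19 29 8 8 8 8 8 8 19 19 19 19 19 8 8 8 8 8 8 8 19 19 19 20 9 20 9 20 20 9 9 9 20 20 9 9 20 20 20 20 20 9 9) (@D3.rec (fun _ => Nat) 9 20 20 20 20 20 20 20 20 20 20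 20 20 20 20 20 20 20 20 20 20 20 9 9 9 9 9 20 20 20 20 9 9 9 20 20 20 20 20 20 20 20 20 20 9 9 9 20 20 20 20) (@D3.rec (fun _ => Nat) 20 20 20 20 20 20 20 20 20 20 20 20 20 20 20 20 20 20 20 20 30 9 9 9 20 20 20 20 20 20 20 20 20 20 20 30 20 20 20 20 20 20 20 20 20 28 20 20 26 20 20) (@D3.rec (fun _ => Nat) 9 9 9 9 9 9 9 9 20 20 20 20 20 20 20 9 9 9 9 9 20 20 20 20 20 20 20 20 20 20 20 20 20 20 20 9 9 9 9 9 20 20 20 20 20 20 20 20 20 20 20) (@D3.rec (fun _ => Nat) 20 20 20 20 20 20 20 20 28 20 20 20 20 20 20 30 20 20 20 20 20 20 20 28 9 9 9 9 9 20 20 20 20 20 20 28 20 20 20 20 20 20 20 20 20 28 20 30 9 9 9) (@D3.rec (fun _ => Nat) 9 9 9 20 20 20 20 20 20 20 20 20 20 9 9 9 9 9 9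 9 9 9 9 9 9 9 20 20 20 20 20 20 20 20 20 20 9 9 9 9 9 9 20 20 20 20 20 20 20 20 20) (@D3.rec (fun _ => Nat) 20 20 20 20 20 20 20 26 9 9 9 9 9 9 9 9 20 20 20 20 20 20 20 20 20 20 20 26 20 20 20 20 20 20 28 20 20 20 20 20 20 20 26 20 20 20 20 20 20 20 20) (@D3.rec (fun _ => Nat) 20 28 20 20 20 20 20 20 28 20 26 9 9 9 9 9 9 26 20 20 20 20 20 20 20 26 20 20 20 28 26 20 30 9 9 9 9 9 9 9 20 20 20 9 9 9 9 9 9 9 20)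
def odep_1 : D2 → D3 → Nat := @D2.rec (fun _ => D3 → Nat) (@D3.rec (fun _ => Nat) 20 10 21 10 10 21 10 21 21 21 10 10 10 10 21 21 10 10 21 21 21 21 21 21 21 21 10 10 10 10 21 21 21 21 21 21 21 21 21 21 21 21 21 21 21 21 21 21 21 21 21) (@D3.rec (fun _ => Nat) 21 21 21 21 21 21 21 21 21 21 21 33 10 10 10 10 10 10 10 21 21 21 21 21 10 10 10 10 21 21 21 21 21 21 21 21 21 21 21 21 21 21 21 21 10 10 10 10 10 21 21) (@D3.rec (fun _ => Nat) 21 21 21 21 21 21 21 21 21 21 21 21 21 21 21 21 21 29 21 21 21 21 21 21 31 21 21 21 21 21 21 21 21 21 21 29 10 10 10 10 10 21 21 21 21 21 21 29 21 21 21) (@D3.rec (fun _ => Nat) 21 21 21 21 21 21 21 29 21 21 21 21 21 21 21 29 21 21 27 21 21 21 25 21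 21 21 25 21 10 10 10 10 10 10 10 10 10 10 10 10 21 21 21 21 21 21 21 21 21 10 10) (@D3.rec (fun _ => Nat) 10 10 10 10 21 21 21 21 21 21 21 21 21 21 21 21 21 21 21 21 21 21 21 21 27 10 10 10 10 10 10 10 10 21 21 21 21 21 21 21 21 21 21 21 27 21 21 21 21 21 21) (@D3.rec (fun _ => Nat) 29 21 21 21 21 21 21 21 21 21 21 27 21 21 21 21 21 21 21 21 21 29 21 21 21 21 21 21 29 21 27 10 10 10 10 10 10 27 21 21 21 21 21 21 21 21 21 21 27 21 21) (@D3.rec (fun _ => Nat) 21 21 21 21 21 29 27 21 21 31 10 10 10 10 10 10 10 10 10 10 21 21 21 21 21 21 21 21 21 10 10 10 10 10 10 10 10 10 10 10 10 10 10 10 10 10 10 10 21 21 21) (@D3.rec (fun _ => Nat) 21 21 21 21 21 21 21 21 10 10 10 10 10 10 10 21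 21 21 21 21 21 21 21 21 25 21 21 21 27 21 21 21 21 21 21 21 25 10 10 10 10 10 10 10 10 10 10 10 25 21 21) (@D3.rec (fun _ => Nat) 21 21 21 21 27 21 21 21 21 21 21 21 25 21 21 21 21 21 21 21 27 21 21 21 21 27 21 21 25 21 21 21 21 21 21 21 21 21 21 27 21 21 27 21 21 21 21 21 29 21 21) (@D3.rec (fun _ => Nat) 21 27 21 25 10 10 10 10 10 10 10 25 21 21 21 21 27 21 21 25 21 21 29 27 25 10 10 10 10 10 10 10 21 21 10 10 10 10 10 10 21 11 11 22 11 11 22 11 22 22 22) (@D3.rec (fun _ => Nat) 22 22 11 11 11 11 22 22 22 11 11 11 22 22 22 22 22 22 22 22 22 22 22 22 22 11 11 11 11 11 11 22 22 22 22 22 22 22 22 22 22 22 22 22 22 22 22 22 22 22 22) (@D3.rec (fun _ => Nat) 22 22 22 22 32 22 22 22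 22 22 22 22 22 22 22 22 22 22 22 32 22 22 22 22 22 22 22 22 22 22 32 11 11 11 11 11 11 11 11 11 22 22 22 22 22 22 22 11 11 11 11) (@D3.rec (fun _ => Nat) 11 11 22 22 22 22 22 22 22 22 22 22 22 22 22 22 22 22 22 22 22 22 22 22 28 11 11 11 11 11 11 11 11 22 22 22 22 22 22 22 22 22 22 22 28 22 22 22 22 22 22) (@D3.rec (fun _ => Nat) 30 22 22 22 22 22 22 22 22 22 22 30 22 22 22 22 22 22 22 22 22 22 30 22 22 22 22 22 22 22 22 22 22 30 22 22 28 22 22 11 11 11 11 11 11 28 22 22 22 22 22) (@D3.rec (fun _ => Nat) 22 22 22 22 22 30 22 22 22 22 22 22 22 22 22 22 30 22 22 28 22 22 22 22 22 22 30 22 22 28 22 22 22 26 22 22 22 26 22 24 22 24 22 22 22 22 24 11 11 11 11) (@D3.rec (fun _ => Nat)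 11 11 11 11 11 11 11 11 11 11 11 11 11 22 22 22 22 22 22 22 22 22 22 22 22 11 11 11 11 11 11 11 11 11 22 22 22 22 22 22 22 22 22 22 22 26 22 22 22 22 22) (@D3.rec (fun _ => Nat) 28 22 22 22 22 22 22 22 22 22 22 26 11 11 11 11 11 11 11 11 11 11 11 26 22 22 22 22 22 22 28 22 22 22 22 22 22 22 22 22 22 26 22 22 22 22 22 22 22 22 22) (@D3.rec (fun _ => Nat) 22 28 22 22 22 22 22 22 22 22 28 22 22 26 22 22 22 22 22 22 22 22 22 22 22 30 22 22 28 22 22 22 22 22 30 22 22 22 28 22 26 11 11 11 11 11 11 11 11 11 11) (@D3.rec (fun _ => Nat) 26 22 22 22 22 22 22 22 22 28 22 22 26 22 22 22 22 30 22 22 22 28 22 26 22 11 11 11 11 11 11 11 11 11 11 11 11 22 22 22 22 22 22 22 22 22 11 11 11 11 11)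 (@D3.rec (fun _ => Nat) 11 11 11 11 11 11 11 11 11 11 11 11 11 11 11 11 11 11 22 22 22 22 22 22 22 22 22 22 22 22 24 11 11 11 11 11 11 11 11 11 24 22 22 22 26 22 22 22 22 22 22) (@D3.rec (fun _ => Nat) 22 24 28 22 22 26 22 22 22 22 26 22 22 24 22 11 11 11 11 11 11 26 11 11 11 11 11 11 11 24 22 22 22 22 22 22 22 26 22 22 22 22 26 22 22 24 22 22 22 22 22) (@D3.rec (fun _ => Nat) 26 22 22 26 22 22 22 28 22 26 22 24 22 24 22 22 22 22 22 22 28 22 22 22 22 22 22 26 22 22 26 22 22 26 22 22 22 22 28 22 22 26 22 26 24 11 11 11 11 26 11) (@D3.rec (fun _ => Nat) 11 24 11 22 22 28 22 26 24 22 22 24 28 11 11 11 11 11 11 22 11 11 11 11 11 12 12 12 23 12 12 23 23 12 12 23 23 23 23 23 23 23 23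 12 12 12 12 12 23 23 23) (@D3.rec (fun _ => Nat) 23 23 12 12 12 12 12 23 23 23 23 23 23 23 23 23 23 23 23 23 23 23 23 23 23 31 12 12 12 12 12 12 12 12 12 12 23 23 23 23 23 23 23 23 23 23 23 23 23 23 31) (@D3.rec (fun _ => Nat) 23 23 23 23 23 23 23 23 23 23 23 33 23 23 23 23 23 23 23 23 23 23 33 23 23 23 23 23 23 23 23 23 23 23 31 23 23 23 23 23 23 23 23 23 23 31 23 23 23 23 23) (@D3.rec (fun _ => Nat) 23 23 23 23 23 31 23 23 31 23 23 12 12 12 12 12 12 12 12 12 12 12 12 12 23 23 23 23 23 23 23 23 23 23 23 12 12 12 12 12 12 12 12 12 12 23 23 23 23 23 23) (@D3.rec (fun _ => Nat) 23 23 23 23 23 23 27 23 23 23 23 23 23 23 23 29 23 23 23 23 23 23 23 23 23 23 29 12 12 12 12 12 12 12 12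 12 12 12 27 23 23 23 23 23 23 29 23 23 23 23 23)
def odep_2 : D2 → D3 → Nat := @D2.rec (fun _ => D3 → Nat) (@D3.rec (fun _ => Nat) 23 23 23 23 23 29 23 23 23 23 23 23 23 23 23 23 31 23 23 23 23 23 23 23 23 23 23 29 23 23 31 23 23 23 23 23 23 23 23 31 23 23 29 23 23 23 23 23 23 31 23) (@D3.rec (fun _ => Nat) 23 23 23 23 29 23 23 23 29 23 23 23 27 23 12 12 12 12 12 12 12 12 12 12 29 23 23 23 23 23 23 23 23 23 23 29 23 23 29 23 23 23 23 23 23 23 23 31 23 23 23) (@D3.rec (fun _ => Nat) 23 23 23 23 29 23 23 23 27 23 23 23 29 23 23 23 29 23 23 23 27 23 23 23 27 23 25 23 25 23 23 23 23 25 23 23 23 23 23 23 23 12 12 12 12 12 12 12 12 12 12) (@D3.rec (fun _ => Nat) 12 12 12 12 12 12 12 12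 12 12 12 12 12 23 23 23 23 23 23 23 23 23 23 23 23 25 12 12 12 12 12 12 12 12 12 12 12 25 23 23 23 23 23 27 23 23 23 23 23 23 23) (@D3.rec (fun _ => Nat) 23 23 23 25 29 23 23 23 23 23 27 23 23 23 23 23 23 23 23 23 23 27 23 23 25 23 23 12 12 12 12 12 12 27 12 12 12 12 12 12 12 12 12 12 25 23 23 23 23 23 23) (@D3.rec (fun _ => Nat) 23 23 23 23 27 23 23 23 23 23 23 23 23 27 23 23 25 23 23 23 23 23 23 23 23 23 23 29 23 23 27 23 23 23 23 23 29 23 23 23 23 23 23 27 23 23 25 23 23 25 23) (@D3.rec (fun _ => Nat) 23 23 23 23 29 23 23 23 23 23 29 23 23 27 23 23 27 23 23 23 23 29 23 23 29 23 27 25 12 12 12 12 12 12 12 12 27 12 12 25 12 12 23 23 23 29 23 23 23 23 23) (@D3.rec (fun _ => Nat)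 23 27 23 25 23 23 23 25 23 23 29 29 23 23 23 27 27 12 12 12 12 12 12 12 12 12 12 12 12 12 12 12 23 23 23 23 23 23 23 23 23 12 12 12 12 12 12 12 12 12 12) (@D3.rec (fun _ => Nat) 12 12 12 12 12 12 12 12 12 12 12 12 12 12 12 12 12 23 23 23 23 23 23 25 23 23 23 23 23 23 23 23 12 12 12 25 12 12 12 12 12 12 12 23 27 23 23 25 23 23 23) (@D3.rec (fun _ => Nat) 23 25 23 23 23 23 23 25 23 23 23 23 25 23 23 23 23 23 23 12 12 12 12 12 12 12 25 12 12 12 12 25 23 23 23 23 25 23 23 25 23 23 23 27 23 25 23 23 27 23 25) (@D3.rec (fun _ => Nat) 23 25 23 23 25 23 27 23 25 23 23 23 23 23 23 27 23 23 23 23 25 23 23 23 25 23 23 25 25 23 25 23 23 23 23 23 23 27 23 27 23 23 25 25 12 12 27 12 25 23 27)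 (@D3.rec (fun _ => Nat) 25 12 12 12 12 12 13 13 13 24 24 13 13 13 24 24 24 13 13 13 24 24 24 24 24 24 24 24 24 24 24 30 13 13 13 13 13 13 13 13 24 24 24 24 24 24 24 24 13 13 13) (@D3.rec (fun _ => Nat) 13 13 13 13 13 24 24 24 24 24 24 24 24 24 24 30 24 24 24 24 24 32 24 24 24 24 24 24 24 24 24 24 30 13 13 13 13 13 13 13 13 13 13 13 13 13 13 30 24 24 24) (@D3.rec (fun _ => Nat) 24 24 24 24 24 24 24 24 32 24 24 24 24 24 24 24 24 24 24 32 24 24 24 24 24 24 32 24 24 24 24 24 24 24 24 24 24 32 24 24 24 24 24 24 24 24 24 24 32 24 24) (@D3.rec (fun _ => Nat) 32 24 24 24 24 24 30 24 24 24 24 24 24 30 24 24 24 24 24 24 30 24 24 30 24 24 24 24 24 24 30 24 24 24 24 24 30 24 24 24 32 24 24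 24 30 24 13 13 13 13 13) (@D3.rec (fun _ => Nat) 13 13 13 13 13 13 13 13 13 13 13 13 13 13 24 24 24 24 24 24 24 24 24 24 24 24 24 24 26 13 13 13 13 13 13 13 13 13 13 13 13 26 24 24 24 24 24 24 24 24 28) (@D3.rec (fun _ => Nat) 24 24 24 24 24 24 24 24 24 24 28 24 24 24 30 24 24 24 24 24 24 24 24 30 24 24 24 24 24 24 24 24 24 24 28 24 24 30 24 24 13 13 13 13 13 13 28 13 13 13 13) (@D3.rec (fun _ => Nat) 13 13 13 13 13 13 28 24 24 24 24 24 24 24 24 24 24 30 24 24 24 24 24 24 24 24 24 24 28 24 24 30 24 24 24 24 24 24 24 24 24 24 24 24 30 24 24 32 24 24 24) (@D3.rec (fun _ => Nat) 24 24 24 24 24 24 30 24 24 24 24 24 24 24 30 24 24 24 30 24 24 24 30 24 24 24 30 24 24 24 24 30 24 24 30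 24 24 24 28 24 24 24 24 24 30 24 24 24 24 30 24) (@D3.rec (fun _ => Nat) 24 30 24 24 24 28 24 30 24 28 24 24 24 24 26 13 13 13 13 13 13 13 13 13 13 28 13 13 30 13 13 24 24 24 24 24 24 30 24 24 24 24 24 24 24 30 24 24 24 28 24) (@D3.rec (fun _ => Nat) 24 24 30 24 24 24 24 24 24 24 30 24 24 24 24 30 24 24 24 24 24 24 28 24 24 24 30 24 26 24 28 24 24 24 24 30 24 28 24 24 24 28 24 26 24 26 24 24 24 24 26) (@D3.rec (fun _ => Nat) 24 24 24 24 26 24 24 24 24 24 24 24 24 24 13 13 13 13 13 13 13 13 13 13 13 13 13 13 13 13 13 13 13 13 13 13 13 13 13 13 13 24 24 24 24 24 24 24 26 24 24) (@D3.rec (fun _ => Nat) 24 24 24 24 24 24 24 24 13 13 13 13 13 26 13 13 13 13 13 13 13 13 13 13 24 28 24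 24 24 24 24 26 24 24 24 24 24 24 24 24 24 24 26 24 24 24 24 24 24 24 24) (@D3.rec (fun _ => Nat) 28 24 26 24 24 24 24 24 24 28 24 24 24 24 24 24 26 24 24 24 24 24 24 24 24 24 13 13 13 13 13 13 13 13 13 13 26 13 13 13 13 13 13 13 13 26 13 24 24 24 24) (@D3.rec (fun _ => Nat) 24 24 24 24 28 24 24 26 24 24 24 24 24 28 24 24 24 24 24 24 26 24 24 24 24 24 24 28 24 24 24 24 24 28 24 24 26 24 24 24 26 24 24 24 24 28 24 24 24 28 24) (@D3.rec (fun _ => Nat) 24 24 24 26 24 26 24 26 24 24 24 24 28 24 24 24 24 30 24 24 28 24 24 28 26 24 26 24 24 24 24 24 24 30 24 28 24 24 24 28 26 13 13 13 28 13 13 13 13 13 13) (@D3.rec (fun _ => Nat) 26 13 13 13 24 24 24 28 24 24 24 28 24 24 24 26 24 24 26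 24 24 26 30 28 24 24 24 13 13 13 13 13 13 13 13 13 13 13 13 13 13 24 24 24 24 24 24 24 24 24 24)
def odep_3 : D2 → D3 → Nat := @D2.rec (fun _ => D3 → Nat) (@D3.rec (fun _ => Nat) 13 13 13 13 13 13 13 13 13 13 13 13 13 13 13 13 13 24 13 24 24 26 24 24 24 24 24 24 26 13 13 13 13 24 24 24 24 24 24 24 24 24 24 24 24 24 24 13 13 13 13) (@D3.rec (fun _ => Nat) 24 13 13 26 24 24 26 24 24 24 26 24 26 24 24 24 24 26 24 24 24 24 24 26 24 24 26 24 24 26 24 24 24 24 26 24 24 24 24 24 24 24 28 24 24 26 26 13 26 26 13) (@D3.rec (fun _ => Nat) 13 13 14 14 14 14 25 25 25 14 14 14 14 14 25 25 25 25 25 14 14 14 14 14 25 25 25 25 25 25 29 25 25 25 25 25 25 25 25 25 25 29 14 14 14 14 14 14 14 14 14)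 (@D3.rec (fun _ => Nat) 14 14 14 14 25 25 25 25 25 25 25 25 25 25 29 14 14 14 14 14 14 14 14 14 14 29 25 25 25 25 25 31 25 25 25 25 25 25 25 25 25 25 29 25 25 25 25 25 25 25 25) (@D3.rec (fun _ => Nat) 31 25 25 25 25 25 25 25 25 25 25 29 25 25 31 25 25 14 14 14 14 14 14 14 14 14 14 14 31 14 14 14 14 14 14 14 14 14 14 31 25 25 25 25 25 25 33 25 25 25 25) (@D3.rec (fun _ => Nat) 25 25 25 25 25 25 33 25 25 25 25 25 25 25 25 25 25 33 25 25 31 25 25 25 25 25 25 25 25 25 25 25 25 31 25 25 25 25 25 25 25 25 25 25 31 25 25 33 25 25 25) (@D3.rec (fun _ => Nat) 25 25 25 25 25 25 31 25 25 25 25 25 25 25 33 25 25 25 33 25 25 25 31 25 25 25 25 29 25 25 25 29 25 25 29 25 25 25 31 25 25 25 25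 31 25 25 31 25 25 25 29) (@D3.rec (fun _ => Nat) 25 25 25 25 25 29 25 25 25 25 29 25 25 31 25 25 25 29 25 33 25 31 25 25 25 25 31 14 14 14 14 14 14 14 14 14 14 14 14 14 14 14 14 14 14 14 14 14 14 14 14) (@D3.rec (fun _ => Nat) 14 14 25 25 25 25 25 25 25 25 25 25 25 27 25 25 25 25 25 25 25 25 25 25 27 14 14 14 14 14 14 14 14 27 14 14 14 14 14 14 14 14 14 14 27 25 25 25 29 25 25) (@D3.rec (fun _ => Nat) 25 25 25 25 25 25 29 25 25 25 25 25 25 25 25 25 25 27 25 25 29 25 25 25 25 25 25 29 25 25 25 25 25 25 29 25 25 31 25 25 25 25 25 25 25 25 25 29 25 25 25) (@D3.rec (fun _ => Nat) 25 25 25 25 29 25 25 25 31 25 25 25 31 25 14 14 14 14 14 14 14 14 14 14 29 14 14 14 14 14 14 14 14 14 14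 27 14 14 29 14 14 25 25 25 25 25 25 25 25 25 25) (@D3.rec (fun _ => Nat) 29 25 25 31 25 25 25 25 25 25 25 25 25 29 25 25 25 25 25 25 25 29 25 25 25 31 25 25 25 31 25 25 25 25 25 25 25 25 29 25 25 25 25 25 25 25 31 25 25 25 31) (@D3.rec (fun _ => Nat) 25 25 25 31 25 25 25 25 25 25 25 25 31 25 25 25 25 25 29 25 25 25 25 25 25 31 25 25 25 31 25 31 25 29 25 25 25 25 31 25 31 25 25 31 25 31 25 25 29 31 25) (@D3.rec (fun _ => Nat) 29 25 25 25 25 27 25 25 31 25 31 25 25 29 25 25 25 31 25 25 29 31 25 29 25 25 25 25 27 31 29 25 25 27 27 25 25 25 25 25 14 14 14 14 14 14 29 14 14 14 14) (@D3.rec (fun _ => Nat) 14 14 14 29 14 14 14 29 14 14 14 31 14 25 25 25 25 25 25 29 25 25 25 25 25 29 25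 25 25 25 25 25 29 25 25 25 31 25 27 25 29 25 25 25 25 31 25 25 29 25 25) (@D3.rec (fun _ => Nat) 25 29 25 25 25 31 25 25 29 25 25 25 31 25 25 25 25 25 25 27 25 29 25 25 25 25 31 25 27 25 25 27 29 25 25 25 25 25 27 25 27 25 25 25 25 27 25 25 25 25 27) (@D3.rec (fun _ => Nat) 25 25 25 25 25 25 25 25 25 25 25 25 25 25 25 25 25 14 14 14 14 14 14 14 14 14 14 14 14 14 14 14 14 14 14 14 25 14 14 14 14 14 14 25 27 25 25 25 25 25 25) (@D3.rec (fun _ => Nat) 25 25 25 25 25 25 25 25 25 25 27 14 14 14 14 14 25 14 14 14 14 14 14 14 14 14 14 25 14 25 25 25 27 25 25 25 25 25 25 25 25 27 25 25 25 25 25 25 25 25 25) (@D3.rec (fun _ => Nat) 25 25 25 25 25 27 25 25 25 25 25 25 25 25 27 25 25 25 25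 27 25 25 25 25 25 25 25 25 25 25 25 25 25 14 14 14 14 14 14 14 14 27 14 14 14 14 14 14 27 14 14) (@D3.rec (fun _ => Nat) 14 14 25 25 25 27 25 25 25 25 25 27 25 25 25 25 25 25 25 25 25 27 25 25 25 27 25 25 25 25 25 25 27 25 25 25 29 25 25 27 25 25 27 25 25 25 25 25 25 25 25) (@D3.rec (fun _ => Nat) 29 25 27 25 25 25 27 25 25 27 25 25 25 25 25 29 25 27 25 25 27 25 25 25 29 25 25 29 27 25 27 25 25 25 25 25 25 25 25 25 29 25 25 25 29 27 25 29 25 25 27) (@D3.rec (fun _ => Nat) 14 14 14 27 14 14 14 27 14 14 14 25 25 29 27 25 25 27 25 25 27 25 25 25 25 25 29 25 25 25 14 14 14 14 14 14 14 14 14 14 14 14 14 25 25 25 25 25 25 25 25) (@D3.rec (fun _ => Nat) 25 25 29 14 14 14 14 14 14 14 14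 14 14 14 25 25 27 25 25 25 27 25 25 25 25 27 25 25 27 25 25 25 27 14 15 15 15 15 15 15 26 26 26 26 26 15 15 15 15 15 15) (@D3.rec (fun _ => Nat) 15 15 26 26 26 26 26 26 28 15 15 15 15 15 15 28 26 26 26 26 26 26 26 26 26 26 28 26 26 26 26 26 26 26 26 26 26 28 26 26 28 26 26 15 15 15 15 15 15 15 15) (@D3.rec (fun _ => Nat) 15 15 15 15 15 15 15 15 15 15 28 26 26 26 26 26 30 26 26 26 26 26 26 26 26 26 26 28 15 15 15 15 15 30 15 15 15 15 15 15 15 15 15 15 28 26 26 26 26 26 26) (@D3.rec (fun _ => Nat) 26 26 30 26 26 26 26 26 26 26 26 26 26 28 26 26 30 26 26 26 26 26 26 26 26 30 26 26 32 26 26 26 26 26 26 26 26 26 28 26 26 26 26 26 26 26 30 26 26 26 32) (@D3.rec (fun _ => Nat) 26 26 26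 30 26 15 15 15 15 15 15 32 15 15 15 15 15 15 15 15 15 15 32 15 15 15 15 15 15 15 15 15 15 32 15 15 30 15 15 26 26 26 26 26 26 26 26 26 26 32 26)
def odep_4 : D2 → D3 → Nat := @D2.rec (fun _ => D3 → Nat) (@D3.rec (fun _ => Nat) 26 26 26 26 26 26 26 26 26 32 26 26 32 26 26 26 26 26 26 26 26 26 32 26 26 26 26 26 26 26 32 26 26 26 30 26 26 26 30 26 26 26 26 26 26 26 26 26 26 26 30) (@D3.rec (fun _ => Nat) 26 26 30 26 26 26 26 26 26 26 26 26 32 26 26 26 26 26 26 26 32 26 26 26 32 26 26 26 32 26 26 26 26 26 26 26 26 26 26 32 26 26 26 26 26 32 26 26 26 26 26) (@D3.rec (fun _ => Nat) 26 32 26 26 26 32 26 32 26 32 26 26 26 26 32 28 26 28 30 26 28 26 28 26 26 28 26 30 26 26 30 26 32 26 26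 30 32 26 30 26 26 26 26 30 26 26 28 26 30 26 26) (@D3.rec (fun _ => Nat) 28 26 26 26 30 26 26 28 32 26 30 26 26 26 26 30 32 32 26 26 32 32 26 26 26 26 26 15 15 15 15 15 15 15 15 15 15 15 15 15 15 15 15 15 15 15 15 15 15 15 15) (@D3.rec (fun _ => Nat) 15 26 15 15 15 15 15 15 15 15 15 15 26 26 26 26 26 26 26 28 26 26 26 26 26 26 26 26 28 26 26 26 26 26 26 26 26 26 26 28 26 26 15 15 15 28 15 15 15 15 15) (@D3.rec (fun _ => Nat) 15 15 15 28 15 15 15 15 15 15 15 15 15 15 26 15 15 28 15 15 26 26 26 26 28 26 26 26 26 26 26 28 26 26 30 26 26 26 26 26 26 26 26 26 28 26 26 26 26 26 26) (@D3.rec (fun _ => Nat) 26 28 26 26 26 30 26 26 26 30 26 26 26 28 26 26 26 26 26 26 26 26 30 26 26 26 32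 26 26 26 30 26 26 26 26 26 26 26 26 26 26 30 26 26 26 26 26 28 26 26 26) (@D3.rec (fun _ => Nat) 26 26 26 30 26 26 26 30 26 32 26 30 26 26 26 26 32 15 15 15 15 15 15 15 15 15 15 28 15 15 30 15 15 15 15 15 15 15 15 15 28 15 15 15 15 15 15 15 28 15 15) (@D3.rec (fun _ => Nat) 15 30 15 15 15 30 15 26 26 26 26 26 26 26 28 26 26 26 26 26 26 26 30 26 26 26 30 26 26 26 30 26 26 26 26 26 26 26 26 30 26 26 26 26 26 28 26 26 26 26 26) (@D3.rec (fun _ => Nat) 26 30 26 26 26 30 26 32 26 32 26 26 26 26 32 26 26 26 26 26 26 26 30 26 26 26 26 26 30 26 26 26 26 26 32 26 26 26 32 26 32 26 32 26 26 26 26 32 26 26 26) (@D3.rec (fun _ => Nat) 26 26 30 26 26 26 32 26 26 26 32 26 26 26 26 30 26 26 26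 30 26 26 26 26 26 26 32 26 30 26 26 26 26 32 32 30 26 26 28 30 26 26 26 26 26 26 32 26 26 26 32) (@D3.rec (fun _ => Nat) 32 26 30 26 26 32 30 26 26 30 28 26 26 26 26 26 26 26 26 32 32 26 30 26 26 26 30 26 26 26 32 26 30 26 26 32 30 26 26 28 28 26 26 26 26 26 30 28 28 26 26) (@D3.rec (fun _ => Nat) 26 26 26 26 26 26 26 26 26 15 15 15 15 15 15 28 15 15 15 15 15 28 15 15 15 15 15 15 28 15 15 15 30 15 28 15 30 15 15 15 15 32 26 26 26 28 26 26 26 28 26) (@D3.rec (fun _ => Nat) 26 26 30 26 26 26 26 28 26 26 26 30 26 26 26 26 26 26 28 26 30 26 26 26 26 32 26 28 26 26 30 30 26 26 26 26 26 26 28 26 26 26 30 26 28 26 30 26 26 26 26) (@D3.rec (fun _ => Nat) 32 28 26 30 26 26 26 26 26 30 32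 26 26 26 26 26 26 26 28 26 26 28 30 26 26 26 26 26 26 26 28 26 26 26 26 28 26 26 26 26 26 26 26 26 26 26 28 26 26 26 26) (@D3.rec (fun _ => Nat) 26 26 26 26 26 26 28 26 26 26 26 26 26 26 26 26 26 15 15 15 15 15 15 15 15 15 26 15 15 15 15 15 15 15 28 26 26 26 26 26 26 26 26 26 26 15 15 15 15 15 15) (@D3.rec (fun _ => Nat) 15 15 15 15 15 15 26 26 26 26 26 26 26 26 26 26 26 26 26 26 26 26 26 26 26 26 26 28 26 26 26 26 26 26 26 28 26 26 26 26 26 26 26 26 26 26 26 26 26 26 26) (@D3.rec (fun _ => Nat) 26 26 26 15 15 15 26 15 15 15 15 15 15 15 15 26 26 26 26 26 26 26 28 26 26 26 28 26 26 26 26 26 26 26 26 28 26 26 26 26 26 28 26 26 28 26 26 26 26 26 28) (@D3.rec (fun _ => Nat) 26 28 26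 26 26 26 26 28 26 26 26 26 26 26 28 26 26 26 26 26 30 26 26 26 28 26 28 26 26 26 26 26 26 26 26 26 26 26 28 26 30 26 26 28 26 28 26 30 26 15 15) (@D3.rec (fun _ => Nat) 28 15 15 15 15 15 15 26 26 28 28 26 26 26 26 26 26 28 26 26 26 30 26 26 30 15 15 15 15 15 15 15 15 15 15 15 15 15 26 26 26 26 26 26 28 15 15 15 15 15 15) (@D3.rec (fun _ => Nat) 15 15 26 26 26 26 26 26 26 15 16 16 16 16 16 16 16 16 16 16 27 27 27 27 16 16 16 16 16 16 16 16 16 16 16 27 27 27 27 27 27 27 27 16 16 16 16 16 16 16 16) (@D3.rec (fun _ => Nat) 16 16 27 27 27 27 27 27 27 27 27 27 27 27 27 27 27 27 27 27 27 27 27 27 27 27 27 27 27 27 27 27 27 27 27 27 27 27 27 27 27 27 29 27 16 16 16 16 16 16 16) (@D3.rec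 (fun _ => Nat) 16 16 16 27 16 16 16 16 16 29 16 16 16 16 16 16 16 16 16 16 27 27 27 27 27 27 27 27 27 29 27 27 27 27 27 27 27 27 27 27 27 27 16 16 16 16 16 16 16 16 29) (@D3.rec (fun _ => Nat) 16 16 16 16 16 16 16 16 16 16 27 16 16 29 16 16 27 27 27 27 27 27 29 27 27 31 27 27 27 27 27 27 27 27 27 27 27 27 27 27 27 27 27 29 27 27 27 29 27 27 27) (@D3.rec (fun _ => Nat) 29 27 27 27 27 27 27 27 27 31 27 27 27 33 27 27 27 33 27 27 27 27 27 27 27 27 27 27 29 27 27 27 27 27 31 27 27 27 27 27 27 31 27 27 27 29 27 31 27 31 27) (@D3.rec (fun _ => Nat) 27 27 27 31 16 16 16 16 16 16 16 16 16 16 31 16 16 16 16 16 16 16 16 16 16 31 16 16 31 16 16 16 16 16 16 16 16 16 31 16 16 16 16 16 16 16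 31 16 16 16 29) (@D3.rec (fun _ => Nat) 16 16 16 29 16 27 27 27 27 27 27 27 27 27 27 31 27 27 31 27 27 27 27 27 27 27 27 27 31 27 27 27 27 27 27 27 33 27 27 27 31 27 27 27 33 27 27 27 27 27 27)
def odep_5 : D2 → D3 → Nat := @D2.rec (fun _ => D3 → Nat) (@D3.rec (fun _ => Nat) 27 27 27 27 33 27 27 27 27 27 31 27 27 27 27 27 27 31 27 27 27 31 27 31 27 29 27 27 27 27 31 27 27 27 27 27 27 31 27 27 27 27 27 27 27 29 27 27 27 29 27) (@D3.rec (fun _ => Nat) 27 27 31 27 27 27 27 27 27 27 27 27 27 33 27 27 27 27 27 33 27 27 27 27 27 27 33 27 27 27 31 27 33 27 31 27 27 27 27 33 27 27 27 27 27 27 27 33 27 27 27) (@D3.rec (fun _ => Nat) 27 27 31 27 27 27 33 27 27 27 27 33 27 27 27 31 27 27 27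 27 27 27 27 33 27 33 27 27 27 27 33 33 31 27 27 33 33 27 27 27 27 27 27 27 27 27 27 27 27 27 27) (@D3.rec (fun _ => Nat) 27 31 27 27 27 31 33 27 31 27 27 31 31 27 27 29 31 27 27 27 27 27 27 27 27 29 31 27 29 27 27 27 31 27 27 27 31 27 29 27 27 33 31 27 27 31 31 27 27 27 27) (@D3.rec (fun _ => Nat) 27 31 33 31 27 27 27 33 33 27 27 27 27 27 27 16 16 16 16 16 16 16 16 16 16 16 16 16 16 16 16 16 16 16 16 16 16 16 16 16 16 27 27 27 27 27 27 27 27 27 27) (@D3.rec (fun _ => Nat) 27 27 27 27 27 27 27 27 27 27 27 27 29 27 27 27 29 27 16 16 16 16 16 16 16 16 27 16 16 29 16 16 16 16 16 16 16 16 16 27 16 16 16 16 16 16 16 27 16 16 16) (@D3.rec (fun _ => Nat) 29 16 16 16 29 16 27 27 27 27 27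 27 27 27 27 29 27 27 27 29 27 27 27 29 27 27 27 27 27 27 27 27 27 27 29 27 27 27 27 27 27 27 27 27 27 27 27 29 27 27 27) (@D3.rec (fun _ => Nat) 29 27 31 27 31 27 27 27 27 31 27 27 27 29 27 27 27 27 29 27 27 27 31 27 27 27 31 27 31 27 31 27 27 27 27 31 27 27 27 27 27 27 27 29 27 27 27 27 27 31 27) (@D3.rec (fun _ => Nat) 27 27 31 27 27 27 27 29 27 27 27 29 27 27 27 27 27 27 31 27 31 27 27 27 27 31 31 31 27 27 29 31 27 27 27 27 27 16 16 16 16 16 16 16 27 16 16 16 16 16 16) (@D3.rec (fun _ => Nat) 16 29 16 16 16 29 16 16 16 29 16 16 16 16 16 16 16 16 29 16 16 16 16 16 27 16 16 16 16 16 16 29 16 16 16 29 16 29 16 31 16 16 16 16 31 27 27 27 27 27 27) (@D3.rec (fun _ => Nat) 27 29 27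 27 27 27 27 29 27 27 27 27 27 31 27 27 27 31 27 31 27 29 27 27 27 27 31 27 27 27 27 27 29 27 27 27 31 27 27 27 31 27 27 27 27 29 27 27 27 29 27) (@D3.rec (fun _ => Nat) 27 27 27 27 27 31 27 31 27 27 27 27 31 31 31 27 27 31 31 27 27 27 27 27 27 27 27 27 29 27 27 27 31 27 27 31 27 27 27 27 31 27 27 27 31 27 27 27 27 33 27) (@D3.rec (fun _ => Nat) 33 27 27 27 27 33 31 31 27 27 31 31 27 27 27 27 27 27 27 29 27 27 27 31 27 27 27 31 27 33 27 31 27 27 27 27 33 27 29 27 27 27 31 27 31 27 27 27 27 27 29) (@D3.rec (fun _ => Nat) 31 27 27 27 27 27 27 33 31 27 27 29 31 27 27 27 27 27 31 29 31 27 27 27 27 29 27 27 27 27 27 27 33 27 31 27 27 33 33 31 27 31 27 27 31 31 29 27 27 27 31) (@D3.rec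 (fun _ => Nat) 29 27 27 27 27 27 27 27 31 27 27 31 31 31 27 29 27 27 27 31 27 31 27 27 27 27 31 31 27 31 27 27 31 29 29 27 27 27 29 27 27 27 27 27 27 27 29 29 27 27 27) (@D3.rec (fun _ => Nat) 27 27 27 27 27 27 27 27 27 27 16 16 16 16 16 16 29 16 16 16 16 29 16 16 16 16 16 16 16 29 16 16 16 16 31 29 16 16 31 31 16 16 16 16 16 27 27 27 29 27 27) (@D3.rec (fun _ => Nat) 29 27 27 27 27 31 27 27 27 29 27 27 27 27 27 29 31 27 27 27 27 27 27 29 27 27 31 31 27 27 27 27 27 27 29 29 27 27 27 31 31 27 27 27 27 27 27 27 29 27 27) (@D3.rec (fun _ => Nat) 27 27 31 29 27 27 29 31 27 27 27 27 27 29 27 27 31 31 27 27 27 27 27 27 27 27 27 31 31 27 27 27 27 31 27 27 27 29 27 27 27 29 29 27 27 27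 27 27 27 27 27) (@D3.rec (fun _ => Nat) 27 27 27 27 27 27 27 27 27 27 27 27 27 29 27 27 27 27 27 27 27 27 27 27 27 27 27 27 27 27 27 16 27 16 16 16 16 16 16 16 27 27 27 27 27 27 27 27 27 27 27) (@D3.rec (fun _ => Nat) 27 27 27 27 27 27 27 27 27 27 27 27 27 27 27 27 27 27 27 27 27 27 27 27 27 27 27 27 16 16 16 16 16 16 16 27 27 27 27 27 27 27 27 27 27 27 27 27 27 27 27) (@D3.rec (fun _ => Nat) 27 27 27 27 29 27 27 27 27 27 27 27 29 27 27 27 27 29 27 27 27 27 27 27 29 27 27 31 27 29 27 27 27 27 29 27 31 27 27 27 27 27 29 27 27 27 27 27 29 27 27) (@D3.rec (fun _ => Nat) 27 27 29 27 31 27 29 27 29 27 31 16 16 16 16 16 16 27 27 27 27 27 27 27 27 27 29 27 27 29 31 27 31 16 16 16 16 16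 16 16 16 27 27 16 16 16 16 16 16 16 27) (@D3.rec (fun _ => Nat) 16 17 17 17 17 17 17 17 28 28 28 28 28 28 28 28 28 28 28 28 28 28 28 28 28 28 28 28 28 28 28 28 28 28 28 28 28 28 28 28 28 28 28 28 28 28 30 17 17 17 17) (@D3.rec (fun _ => Nat) 17 28 17 17 17 17 17 17 17 17 17 17 17 17 28 17 17 17 17 17 17 17 28 28 28 28 28 28 28 28 28 28 28 28 28 28 28 28 28 28 28 28 28 28 28 17 17 17 17 17 17) (@D3.rec (fun _ => Nat) 28 17 17 30 17 17 17 17 17 17 17 17 17 17 17 17 17 17 17 17 28 17 17 17 28 17 17 17 28 17 28 28 28 28 28 28 28 30 28 28 28 30 28 28 28 32 28 28 28 28 28) (@D3.rec (fun _ => Nat) 28 28 28 28 28 28 28 28 28 28 28 30 28 28 28 28 28 28 30 28 28 28 28 28 30 28 28 28 28 28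 28 30 28 28 28 32 28 28 28 28 28 32 28 28 28 32 28 32 28 32 28) (@D3.rec (fun _ => Nat) 28 28 28 32 28 28 28 28 28 28 28 28 30 28 28 28 28 28 28 30 28 28 28 28 28 28 28 28 32 28 28 28 30 28 28 28 28 28 28 28 32 28 30 28 28 28 28 30 32 30 28)
def odep_6 : D2 → D3 → Nat := @D2.rec (fun _ => D3 → Nat) (@D3.rec (fun _ => Nat) 28 30 32 28 28 28 28 28 17 17 17 17 17 17 17 17 17 17 30 17 17 30 17 17 17 17 17 17 17 17 17 30 17 17 17 17 17 17 17 32 17 17 17 30 17 17 17 32 17 17 17) (@D3.rec (fun _ => Nat) 17 17 17 17 17 17 17 32 17 17 17 17 17 30 17 17 17 17 17 17 30 17 17 17 30 17 30 17 28 17 17 17 17 30 28 28 28 28 28 28 28 30 28 28 28 28 28 28 28 30 28) (@D3.rec (fun _ => Nat) 28 28 30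 28 28 28 32 28 28 28 28 28 28 28 28 28 28 32 28 28 28 28 28 32 28 28 28 28 28 28 32 28 28 28 32 28 32 28 32 28 28 28 28 32 28 28 28 28 28 28 28) (@D3.rec (fun _ => Nat) 32 28 28 28 28 28 32 28 28 28 32 28 28 28 28 32 28 28 28 30 28 28 28 28 28 28 28 32 28 30 28 28 28 28 32 32 30 28 28 28 30 28 28 28 28 28 28 28 28 28 28) (@D3.rec (fun _ => Nat) 28 30 28 28 28 28 28 28 28 28 28 28 28 28 28 28 30 28 28 28 30 28 28 28 28 32 28 28 28 28 28 28 34 28 28 28 28 28 32 28 28 32 28 28 28 28 34 28 28 28 32) (@D3.rec (fun _ => Nat) 28 28 28 28 28 28 28 34 28 32 28 28 28 28 32 32 32 28 28 30 32 28 28 28 28 28 28 28 28 32 28 28 28 28 28 32 28 28 28 32 28 28 28 28 28 32 28 32 28 28 28) (@D3.rec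 (fun _ => Nat) 28 34 28 32 28 28 28 34 28 32 28 28 28 28 28 30 32 28 28 28 28 28 28 28 28 34 32 28 28 32 34 28 28 28 28 28 32 32 32 28 28 28 32 34 28 28 28 28 28 28 28) (@D3.rec (fun _ => Nat) 28 28 28 32 28 32 28 28 32 32 32 28 30 28 28 30 30 30 28 28 28 28 30 28 28 28 28 28 28 28 30 28 28 30 32 30 28 30 28 28 28 32 28 30 28 28 28 28 32 30 28) (@D3.rec (fun _ => Nat) 28 28 28 32 32 32 28 28 28 30 32 28 28 28 28 28 28 32 30 32 32 32 28 28 28 28 28 32 34 32 28 28 28 28 28 28 17 17 17 17 17 17 17 17 17 17 17 17 17 17 17) (@D3.rec (fun _ => Nat) 17 28 28 28 28 28 28 28 28 28 28 28 28 28 28 28 28 28 28 30 28 30 28 28 28 28 17 17 17 17 17 17 17 28 17 17 17 17 17 17 17 17 17 17 17 17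 17 28 17 17 17) (@D3.rec (fun _ => Nat) 17 17 17 17 17 17 17 17 28 17 17 17 28 17 17 30 17 17 17 17 30 28 28 28 28 28 28 28 28 28 30 28 28 28 30 28 30 28 28 28 30 28 28 28 28 28 28 28 28 28 28) (@D3.rec (fun _ => Nat) 28 28 28 30 28 28 28 30 28 28 28 28 28 28 28 28 28 28 28 28 28 28 28 30 28 30 28 28 28 28 30 30 32 28 28 32 30 28 28 28 28 28 28 28 28 28 30 28 28 28 30) (@D3.rec (fun _ => Nat) 28 28 28 30 28 32 28 32 28 28 28 28 32 30 30 28 28 30 32 28 28 28 28 28 28 28 28 28 28 28 28 28 28 30 28 28 28 30 28 28 28 28 32 28 32 28 28 28 28 32 28) (@D3.rec (fun _ => Nat) 28 28 28 28 30 28 30 28 28 28 28 28 28 30 28 28 28 28 28 28 32 32 28 28 30 32 28 28 28 28 28 32 30 32 28 28 28 28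 30 28 28 28 28 28 28 17 17 17 17 17 17) (@D3.rec (fun _ => Nat) 17 28 17 17 17 17 17 28 17 17 17 17 17 30 17 17 17 30 17 17 17 30 17 17 17 17 17 28 17 17 17 30 17 17 17 30 17 17 17 17 28 17 17 17 28 17 17 17 17 17 17) (@D3.rec (fun _ => Nat) 30 17 30 17 17 17 17 30 30 30 17 17 32 30 17 17 17 17 17 28 28 28 28 28 28 28 28 28 30 28 28 28 30 28 28 28 28 30 28 28 28 30 28 28 28 28 32 28 30 28 28) (@D3.rec (fun _ => Nat) 28 28 32 30 30 28 28 30 28 28 28 28 28 28 28 28 28 28 30 28 28 28 30 28 32 28 32 28 28 28 28 32 28 28 28 28 28 30 28 30 28 28 28 28 28 28 30 28 28 28 28) (@D3.rec (fun _ => Nat) 28 28 32 32 28 28 32 32 28 28 28 28 28 32 30 32 28 28 28 32 32 28 28 28 28 28 28 28 28 28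 30 28 28 28 30 28 32 28 32 28 32 28 30 28 28 28 32 28 32 28 28) (@D3.rec (fun _ => Nat) 28 28 28 30 32 28 28 28 32 32 28 28 32 32 28 28 28 28 30 32 32 28 28 28 32 30 28 28 28 28 28 28 28 28 28 30 28 30 28 28 28 32 28 32 28 28 28 28 32 32 32) (@D3.rec (fun _ => Nat) 28 28 30 32 28 28 28 28 28 30 28 30 28 28 28 28 28 32 32 28 28 32 32 28 28 28 28 28 28 28 28 28 30 30 28 28 28 28 32 28 32 30 32 28 28 28 30 30 28 28 28) (@D3.rec (fun _ => Nat) 28 28 28 30 32 28 28 30 28 28 28 28 28 28 28 28 28 28 28 28 28 28 32 28 32 28 32 28 32 32 32 28 28 32 28 28 32 30 32 32 30 28 28 28 28 28 32 30 28 28 28) (@D3.rec (fun _ => Nat) 28 28 28 28 28 30 28 32 28 30 32 30 28 28 30 28 28 30 28 30 32 28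 28 32 32 28 28 28 28 32 32 28 28 30 28 28 30 30 30 28 28 28 28 28 28 28 28 28 28 28 28) (@D3.rec (fun _ => Nat) 28 28 28 28 28 28 28 28 28 28 28 28 17 17 17 17 17 17 30 17 17 17 17 28 30 17 17 17 17 17 17 17 17 30 30 17 17 17 17 17 30 30 17 17 17 32 32 17 17 17 17) (@D3.rec (fun _ => Nat) 17 17 28 28 28 30 28 28 30 30 28 28 28 28 28 28 28 28 28 30 28 28 28 28 28 28 28 28 28 30 30 28 28 28 28 30 28 30 30 28 28 28 30 32 28 28 28 28 28 28 28) (@D3.rec (fun _ => Nat) 30 30 28 28 28 28 28 32 32 32 28 28 28 28 28 28 28 28 30 30 28 28 28 28 28 28 30 28 28 28 30 30 28 28 28 28 28 28 30 30 28 28 28 30 32 32 28 28 28 28 28) (@D3.rec (fun _ => Nat) 28 28 28 28 28 28 28 28 28 28 32 32 28 28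 32 28 30 28 28 28 28 28 28 28 28 28 30 28 28 28 28 28 28 28 28 28 28 28 28 28 28 28 30 28 28 28 28 28 28 28 28) (@D3.rec (fun _ => Nat) 28 28 28 28 17 17 28 28 28 28 28 28 28 28 28 28 28 28 28 28 28 28 28 28 28 28 28 28 28 28 28 28 28 28 32 17 17 17 17 17 28 28 28 28 28 28 28 28 28 28 28)
def odep_7 : D2 → D3 → Nat := @D2.rec (fun _ => D3 → Nat) (@D3.rec (fun _ => Nat) 28 30 28 28 28 28 28 28 30 28 28 28 28 28 28 28 30 28 28 28 30 28 28 28 28 28 28 30 28 32 28 28 30 28 30 28 30 28 28 30 32 28 28 28 28 28 28 28 30 28 28) (@D3.rec (fun _ => Nat) 30 28 32 30 28 28 30 17 17 17 17 17 28 28 28 28 28 28 28 30 28 30 32 32 17 17 17 28 18 18 18 18 18 18 29 29 29 29 29 29 29 29 29 29 29 29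 29 29 29 29 29) (@D3.rec (fun _ => Nat) 29 29 29 29 29 29 29 29 29 29 29 29 29 29 29 29 29 29 29 29 29 29 29 29 29 29 29 18 18 18 18 18 18 18 18 18 18 18 18 18 18 18 29 29 29 29 29 29 29 29 29) (@D3.rec (fun _ => Nat) 29 29 29 29 29 29 29 29 29 29 29 29 18 18 18 18 18 18 18 29 18 18 18 29 18 18 18 31 18 18 18 18 18 18 18 18 18 18 18 18 18 18 29 18 18 18 18 18 18 29 18) (@D3.rec (fun _ => Nat) 18 18 18 18 18 29 29 29 29 31 29 29 29 29 29 31 29 29 29 31 29 31 29 31 29 29 29 29 31 29 29 29 29 29 29 29 29 29 29 29 29 29 29 29 29 29 29 29 29 29 29) (@D3.rec (fun _ => Nat) 29 31 29 29 29 29 29 29 29 29 29 29 29 31 29 29 29 29 29 29 29 31 29 29 29 29 29 29 29 29 29 29 29 33 29 29 29 33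 29 29 29 29 29 33 29 33 29 29 29 29 31) (@D3.rec (fun _ => Nat) 33 33 29 29 31 33 29 29 29 29 29 29 29 29 31 29 29 29 29 29 29 29 29 31 29 29 29 29 29 29 29 29 29 29 29 31 29 29 29 29 29 29 29 29 33 29 29 29 33 29 31) (@D3.rec (fun _ => Nat) 29 29 29 29 29 29 31 29 29 29 29 29 29 29 29 33 31 29 29 29 31 29 29 29 29 29 31 29 31 29 29 29 31 31 29 29 29 29 29 29 18 18 18 18 18 18 18 29 18 18 18) (@D3.rec (fun _ => Nat) 18 29 18 18 29 18 18 18 31 18 18 18 18 18 18 18 18 18 18 31 18 18 18 18 18 31 18 18 18 18 18 18 31 18 18 18 31 18 31 18 31 18 18 18 18 31 18 18 18 18 18) (@D3.rec (fun _ => Nat) 18 18 31 18 18 18 18 18 31 18 18 18 31 18 18 18 18 31 18 18 18 29 18 18 18 18 18 18 18 31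 18 29 18 18 18 18 31 31 18 29 18 18 18 18 29 29 29 29 29 29 29) (@D3.rec (fun _ => Nat) 29 29 29 29 29 29 29 29 29 29 29 29 29 31 29 29 29 31 29 29 29 29 33 29 29 29 29 29 29 29 33 29 29 29 29 29 33 29 29 29 31 29 29 29 29 33 29 29 29 33 29) (@D3.rec (fun _ => Nat) 29 29 29 29 29 29 33 29 33 29 29 29 29 33 33 33 29 29 33 31 29 29 29 29 29 29 29 29 31 29 29 29 29 29 33 29 29 29 31 29 29 29 29 29 33 29 31 29 29 29 29) (@D3.rec (fun _ => Nat) 33 29 33 29 29 29 33 29 31 29 29 29 29 29 29 31 29 29 29 29 29 29 29 29 33 31 29 29 29 31 29 29 29 29 29 31 29 31 29 29 29 29 29 29 29 29 29 29 29 29 29) (@D3.rec (fun _ => Nat) 29 29 29 29 31 29 29 29 29 29 29 29 29 29 29 29 29 29 29 29 31 29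 29 29 29 31 29 29 29 29 29 29 33 29 29 29 33 29 29 29 33 29 29 29 29 29 33 29 33 29 33) (@D3.rec (fun _ => Nat) 29 33 29 29 29 35 29 33 29 29 29 29 29 31 33 29 29 29 29 29 29 29 29 33 33 29 29 31 33 29 29 29 29 31 31 33 29 29 29 29 31 29 29 29 29 29 29 29 29 29 33) (@D3.rec (fun _ => Nat) 29 29 29 31 29 29 31 29 29 29 33 29 33 29 29 29 29 29 31 33 29 29 29 29 33 33 29 29 31 33 29 29 29 29 29 33 29 31 29 29 29 29 29 35 33 29 29 33 33 29 29) (@D3.rec (fun _ => Nat) 29 29 29 29 29 29 29 31 31 29 29 29 29 29 29 33 29 29 33 33 33 29 29 29 31 33 29 29 29 29 29 29 33 33 31 31 33 29 29 29 29 29 33 33 33 29 29 29 29 29 29) (@D3.rec (fun _ => Nat) 29 33 29 33 29 33 29 33 31 31 29 29 29 29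 29 29 29 29 29 29 29 31 29 29 29 29 29 29 31 29 29 29 31 31 31 29 29 29 29 29 33 29 33 31 29 29 29 31 29 29 29) (@D3.rec (fun _ => Nat) 29 31 29 29 29 29 29 29 33 31 31 33 33 29 29 29 29 29 31 31 33 29 29 29 29 29 29 33 33 31 33 31 29 29 29 29 29 31 33 33 29 29 29 29 29 29 18 18 18 18 29) (@D3.rec (fun _ => Nat) 29 29 29 29 29 29 29 29 29 29 29 29 29 31 29 31 29 29 29 29 18 18 18 18 18 18 18 18 18 18 18 18 18 18 18 18 18 18 18 29 18 18 18 18 18 18 18 18 18 18 18) (@D3.rec (fun _ => Nat) 18 29 18 18 18 18 29 18 31 18 18 18 29 29 29 29 29 29 29 29 29 31 29 29 29 29 31 29 29 29 29 29 29 29 29 29 29 29 29 29 29 29 29 31 29 31 29 29 29 31 29) (@D3.rec (fun _ => Nat) 29 29 29 29 29 29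 29 29 29 29 29 29 29 29 29 29 29 29 31 31 29 29 31 31 29 29 29 29 29 31 33 31 29 29 29 33 31 29 29 29 29 29 29 29 29 29 29 29 29 29 29) (@D3.rec (fun _ => Nat) 29 29 31 29 31 29 29 29 29 31 31 31 29 29 31 33 29 29 29 29 29 31 29 29 31 31 29 29 29 29 29 29 29 29 29 29 29 29 29 29 29 29 29 29 29 29 31 29 31 29 29) (@D3.rec (fun _ => Nat) 29 29 29 29 31 29 29 29 33 33 29 29 31 33 29 29 29 29 29 29 29 29 29 29 29 29 29 29 31 31 29 29 31 31 29 29 29 29 29 29 29 29 29 29 29 29 29 29 29 33 29) (@D3.rec (fun _ => Nat) 33 31 33 29 29 29 31 31 29 29 29 29 29 29 31 31 29 31 31 29 29 29 29 29 29 29 31 29 29 29 29 29 29 18 18 18 18 18 18 18 29 18 18 18 29 18 18 18 18 18 18) (@D3.rec (fun _ =>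 Nat) 29 18 18 18 18 18 18 18 31 18 18 18 29 18 18 18 29 18 31 18 31 18 18 18 18 31 18 18 18 29 18 29 18 18 18 18 18 29 18 18 18 18 18 31 31 18 18 31 31 18 18) (@D3.rec (fun _ => Nat) 18 18 18 31 31 18 18 33 31 18 18 18 18 18 18 29 29 29 29 29 29 29 29 29 29 31 29 31 29 29 29 29 31 29 29 29 29 31 29 31 29 29 29 29 29 29 31 29 29 29 31)
def odep_8 : D2 → D3 → Nat := @D2.rec (fun _ => D3 → Nat) (@D3.rec (fun _ => Nat) 31 29 29 31 29 29 29 29 29 31 29 29 29 29 29 29 29 29 29 29 29 29 31 29 31 29 29 29 29 31 33 33 29 29 31 33 29 29 29 29 29 29 29 29 29 29 29 29 29 31 31) (@D3.rec (fun _ => Nat) 29 29 31 31 29 29 29 29 29 29 29 29 29 29 29 29 29 29 31 29 33 31 33 29 29 29 31 33 29 29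 29 29 29 29 31 31 31 29 31 29 29 29 29 29 33 33 31 29 29 29 29) (@D3.rec (fun _ => Nat) 29 29 29 29 31 29 31 29 29 29 31 33 33 29 33 29 31 29 31 29 29 29 29 33 33 29 29 33 33 29 29 29 29 29 29 29 29 31 31 29 29 31 33 33 29 29 29 33 31 29 29) (@D3.rec (fun _ => Nat) 29 29 31 31 31 31 31 29 29 29 29 29 33 31 29 29 29 29 29 29 29 29 29 29 29 31 29 31 29 31 29 29 29 31 33 29 29 33 33 29 29 29 29 29 33 31 33 29 29 29 31) (@D3.rec (fun _ => Nat) 31 29 29 29 29 29 29 31 31 29 29 31 31 29 29 29 29 29 29 29 29 29 33 33 33 29 29 29 31 31 33 29 29 29 29 29 29 29 29 29 29 29 29 29 29 29 31 31 29 29 33) (@D3.rec (fun _ => Nat) 29 31 31 33 31 29 31 29 29 29 29 29 29 31 29 29 29 29 29 29 29 31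 29 29 29 29 29 29 29 29 29 29 29 29 29 29 29 29 31 29 31 33 29 33 33 33 33 29 29 33 29) (@D3.rec (fun _ => Nat) 31 31 31 33 29 29 29 29 29 33 31 29 29 29 29 29 29 29 29 31 29 33 31 31 29 29 29 31 29 31 29 29 31 33 33 29 29 29 31 33 29 29 29 29 33 31 33 29 29 29 29) (@D3.rec (fun _ => Nat) 31 29 29 29 29 29 29 29 29 29 29 29 29 29 29 29 29 18 18 18 18 18 18 18 18 18 29 18 18 18 29 18 18 31 18 18 18 18 18 18 31 31 31 18 18 18 18 18 31 33 31) (@D3.rec (fun _ => Nat) 18 18 18 18 18 18 29 29 29 29 31 29 29 29 29 29 29 29 29 29 29 29 29 29 29 29 29 29 29 29 29 29 29 29 29 29 31 31 29 29 31 29 31 29 29 29 29 29 31 31 33) (@D3.rec (fun _ => Nat) 29 29 29 29 29 29 31 31 31 29 29 29 29 29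 29 31 33 33 29 29 29 29 29 29 29 29 31 31 29 29 29 29 29 29 29 29 29 29 29 29 29 31 31 29 29 29 29 29 29 29 29) (@D3.rec (fun _ => Nat) 31 29 29 29 29 29 29 29 31 31 31 33 33 29 29 29 29 29 29 29 29 29 29 29 29 29 29 29 29 29 29 33 29 29 31 33 33 29 31 29 29 29 29 29 29 29 29 29 29 29 29) (@D3.rec (fun _ => Nat) 29 29 29 29 29 29 29 29 29 29 29 29 18 18 29 29 29 31 29 29 29 29 29 29 29 29 29 29 29 29 29 29 29 29 33 18 18 18 29 29 29 29 29 29 29 29 31 29 29 29 29) (@D3.rec (fun _ => Nat) 29 31 29 29 29 29 29 31 29 29 29 29 29 29 29 33 31 33 29 29 31 31 29 29 31 29 31 29 29 29 29 31 29 29 31 31 31 29 29 18 18 18 29 29 29 29 29 31 31 33 19) (@D3.rec (fun _ => Nat) 19 30 30 30 30 30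 30 30 30 30 30 30 30 30 30 30 30 30 30 30 30 30 30 30 30 30 30 30 30 30 30 30 30 30 30 30 30 30 30 30 19 19 19 19 30 30 30 30 30 30 30) (@D3.rec (fun _ => Nat) 30 30 30 30 30 30 30 30 30 19 19 19 30 19 19 19 19 19 30 19 19 19 30 19 30 19 19 30 19 19 19 19 19 19 19 19 19 19 19 19 19 19 19 19 30 19 19 19 19 19 19) (@D3.rec (fun _ => Nat) 19 19 19 19 19 19 30 30 30 32 30 30 30 32 30 30 30 30 30 32 30 32 30 30 30 30 30 32 32 30 30 30 30 30 30 30 30 30 30 30 30 30 30 30 30 30 30 30 30 30 30) (@D3.rec (fun _ => Nat) 30 30 30 30 30 30 30 30 30 30 30 30 30 32 30 30 30 32 30 30 30 30 30 30 30 30 30 30 30 30 30 30 30 30 32 30 30 30 30 30 30 30 30 30 30 30 30 30 30 34 30) (@D3.rec (fun _ =>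 Nat) 30 30 34 30 34 30 30 30 30 30 32 32 30 30 30 30 32 34 30 30 32 32 30 30 30 30 30 32 32 32 30 30 30 30 32 30 30 30 30 30 30 30 30 30 32 30 30 30 30 30 30) (@D3.rec (fun _ => Nat) 30 30 30 30 30 30 32 30 30 30 32 30 30 30 30 30 30 30 30 30 30 30 30 30 30 30 30 32 30 30 30 30 30 30 30 30 30 34 30 32 30 30 30 30 30 34 32 30 30 32 32) (@D3.rec (fun _ => Nat) 30 30 30 30 30 30 30 30 30 30 30 30 30 30 30 30 30 34 30 30 32 30 32 30 30 30 30 30 30 30 30 30 30 30 32 30 30 30 30 30 30 30 32 32 32 30 30 30 30 30 30) (@D3.rec (fun _ => Nat) 19 19 19 19 19 19 19 19 19 19 19 19 19 30 19 30 19 19 19 19 32 19 19 19 19 19 19 19 32 19 19 19 19 19 32 19 19 19 30 19 19 19 19 32 19 19 19 32 19 19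 19) (@D3.rec (fun _ => Nat) 19 19 19 19 32 19 32 19 19 19 19 32 32 32 19 32 30 19 19 19 19 19 19 19 30 19 19 19 19 19 32 19 19 19 30 19 19 19 19 19 32 19 30 19 19 19 19 32 19 32 19) (@D3.rec (fun _ => Nat) 19 19 32 19 30 19 19 19 19 19 30 19 19 19 19 19 19 19 19 32 19 30 19 19 19 19 19 19 19 19 19 30 30 30 30 30 30 30 30 30 30 30 30 30 30 30 30 30 30 30 30) (@D3.rec (fun _ => Nat) 30 30 30 30 32 30 30 30 32 32 30 30 30 30 30 30 30 30 32 30 30 30 30 30 34 30 30 30 32 30 30 30 30 30 34 30 32 30 30 30 30 32 30 32 30 30 30 34 30 34 30) (@D3.rec (fun _ => Nat) 30 30 30 30 32 32 30 30 30 30 30 30 30 30 34 34 30 30 32 32 30 30 30 30 30 32 32 32 30 30 30 32 32 30 30 30 30 30 30 30 30 30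 30 32 30 30 30 30 30 30 34) (@D3.rec (fun _ => Nat) 30 30 30 34 30 32 30 30 30 30 30 30 32 30 30 30 30 34 32 30 30 30 32 30 30 30 30 30 30 34 30 34 30 30 30 30 30 34 32 30 30 32 32 30 30 30 30 30 30 30 30) (@D3.rec (fun _ => Nat) 30 30 30 30 30 30 30 30 30 32 30 30 32 30 32 30 30 30 30 30 30 30 30 30 30 30 32 30 30 30 30 30 30 30 30 30 30 30 30 30 30 30 30 30 30 30 30 30 30 32 30)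
def odep_9 : D2 → D3 → Nat := @D2.rec (fun _ => D3 → Nat) (@D3.rec (fun _ => Nat) 30 30 30 30 30 30 30 30 30 30 30 30 30 30 30 30 30 30 30 30 30 34 30 30 30 34 30 34 30 34 30 30 30 30 32 34 30 30 30 30 34 34 30 34 30 34 30 34 30 30 30) (@D3.rec (fun _ => Nat) 30 34 34 30 30 32 34 30 30 30 30 30 30 30 30 30 30 32 30 30 30 30 30 30 30 30 30 32 32 34 30 30 30 30 32 30 30 30 30 32 30 30 32 30 30 30 30 30 30 32 30) (@D3.rec (fun _ => Nat) 30 30 30 30 30 32 30 30 30 34 30 32 30 30 30 30 32 30 32 30 30 30 30 30 30 34 34 30 30 32 34 30 30 30 30 30 30 30 30 32 32 30 30 30 30 34 32 34 30 30 30) (@D3.rec (fun _ => Nat) 30 32 30 30 30 30 34 30 34 32 30 30 32 32 30 30 30 30 30 30 30 30 30 34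 34 34 30 30 30 32 32 34 30 30 30 30 30 30 30 30 30 30 30 30 30 30 30 32 32 32 30) (@D3.rec (fun _ => Nat) 30 30 32 30 30 30 32 30 34 34 32 32 34 30 30 30 30 30 32 32 34 30 30 30 30 30 30 32 32 32 32 30 32 32 32 30 30 30 30 30 30 30 32 34 34 30 30 30 30 30 30) (@D3.rec (fun _ => Nat) 34 30 34 34 30 32 30 30 30 30 30 30 30 32 30 32 30 30 30 32 30 32 30 30 30 34 32 30 30 32 30 32 30 30 30 30 30 30 30 30 30 30 30 30 30 30 30 32 34 32 32) (@D3.rec (fun _ => Nat) 32 32 34 32 30 30 30 30 30 30 30 30 32 32 30 30 30 30 30 30 32 30 30 30 30 32 34 32 30 30 30 30 30 30 30 30 30 30 30 30 30 19 19 19 19 19 19 19 19 19 19) (@D3.rec (fun _ => Nat) 19 19 19 19 19 30 19 19 19 19 19 19 19 19 19 19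 19 19 19 30 19 19 19 19 19 19 30 30 30 30 30 30 30 30 30 30 30 30 30 30 30 30 30 30 30 30 30 30 30 30 30) (@D3.rec (fun _ => Nat) 30 30 30 32 32 30 30 32 32 30 30 30 30 30 30 30 30 30 30 30 30 30 30 30 30 30 30 30 30 30 30 30 30 30 30 32 30 32 32 32 30 30 30 32 32 30 30 30 30 30 30) (@D3.rec (fun _ => Nat) 32 30 30 30 34 32 30 30 30 30 30 30 30 30 30 30 30 30 30 30 30 30 30 30 30 32 32 30 30 32 32 30 30 30 30 30 32 30 30 32 32 30 30 30 30 30 30 30 30 30 32) (@D3.rec (fun _ => Nat) 32 32 30 30 30 30 30 30 30 30 30 30 30 30 30 30 30 30 30 30 30 30 30 30 32 32 30 30 32 32 30 30 30 30 30 30 30 30 30 30 30 30 34 32 34 30 30 30 32 32 30) (@D3.rec (fun _ => Nat) 30 30 30 30 30 30 30 30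 30 30 30 30 30 30 30 30 30 30 30 30 30 32 32 32 30 30 30 32 30 32 30 30 30 30 30 30 30 30 30 30 30 30 30 30 30 30 30 30 30 34 30) (@D3.rec (fun _ => Nat) 32 32 32 32 32 32 30 30 30 30 30 30 32 32 30 30 30 30 30 30 32 30 30 30 32 32 30 30 30 30 30 30 30 30 30 30 30 30 30 30 30 30 19 19 19 19 19 19 19 19 30) (@D3.rec (fun _ => Nat) 19 19 19 19 19 19 19 30 19 19 19 19 19 19 19 30 19 19 19 19 30 32 32 19 19 32 19 19 19 19 19 30 30 19 19 30 19 19 19 19 19 19 19 19 19 19 30 19 32 32 19) (@D3.rec (fun _ => Nat) 19 19 32 19 19 19 19 19 19 32 19 19 32 32 19 19 19 19 19 30 30 30 30 30 30 30 30 30 30 30 30 30 32 32 30 30 32 30 30 30 30 30 30 30 30 30 30 30 32 32 30) (@D3.rec (fun _ => Nat)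 30 32 32 30 30 30 30 30 30 30 30 30 30 30 32 30 30 30 30 30 30 30 30 30 30 30 30 30 30 30 30 30 30 30 30 32 32 30 30 32 32 30 30 30 30 30 34 32 34 30 30) (@D3.rec (fun _ => Nat) 30 32 30 30 30 30 30 30 30 30 30 30 30 30 30 30 30 30 32 32 32 30 30 30 32 32 30 30 30 30 30 30 30 30 30 30 30 30 30 30 30 30 30 32 30 30 32 32 32 30 32) (@D3.rec (fun _ => Nat) 30 30 30 30 30 32 32 32 30 30 30 30 30 30 32 32 30 32 30 32 30 30 30 30 30 30 30 32 34 32 30 30 30 30 30 30 32 32 30 30 32 32 30 30 32 34 30 32 32 30 30) (@D3.rec (fun _ => Nat) 32 32 30 30 30 30 32 34 34 30 30 30 34 32 34 30 30 30 30 30 30 30 30 30 30 30 32 32 30 32 32 34 32 32 30 30 30 30 34 32 30 30 30 32 32 32 32 30 30 30 30)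 (@D3.rec (fun _ => Nat) 30 30 30 34 32 30 30 30 30 30 30 30 30 30 30 30 30 30 32 30 30 32 32 30 30 32 34 34 30 30 30 32 34 30 30 30 30 30 30 32 34 32 30 32 30 30 30 30 32 32 30) (@D3.rec (fun _ => Nat) 30 30 30 30 30 30 32 32 32 30 30 30 32 30 32 30 30 30 30 30 30 30 30 30 30 30 30 30 30 30 34 34 32 34 34 30 30 30 30 30 30 30 32 32 32 32 34 30 30 30 30) (@D3.rec (fun _ => Nat) 30 30 30 30 30 30 30 30 30 30 30 30 30 30 34 30 30 32 32 34 30 32 32 32 30 30 32 30 30 30 30 30 30 30 30 30 30 30 30 30 30 30 30 30 30 30 30 30 30 30 32) (@D3.rec (fun _ => Nat) 30 30 32 34 34 32 34 34 34 30 32 30 30 30 30 30 32 32 32 30 30 30 30 30 32 32 30 30 30 32 32 32 34 34 30 30 30 30 30 32 30 30 30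 32 30 32 30 30 30 30 30) (@D3.rec (fun _ => Nat) 30 30 30 30 30 19 19 19 19 19 19 19 19 30 19 19 32 19 19 19 19 19 32 32 32 19 19 19 19 32 32 19 19 19 19 19 19 30 30 30 32 30 30 30 30 30 30 30 30 30 30) (@D3.rec (fun _ => Nat) 30 30 30 30 30 30 30 30 30 30 30 30 30 30 30 30 32 30 30 32 32 30 32 30 30 30 30 30 30 32 32 30 30 30 30 30 30 32 32 30 30 30 30 30 30 32 34 34 30 30 30) (@D3.rec (fun _ => Nat) 30 30 30 30 30 30 30 32 32 32 30 30 30 30 30 30 30 30 30 30 30 30 30 30 30 32 30 30 30 30 30 30 30 30 32 30 30 30 30 30 30 30 30 30 30 30 30 30 32 32 32) (@D3.rec (fun _ => Nat) 32 34 30 30 30 30 30 30 30 30 30 34 30 30 30 30 30 30 30 30 30 32 30 30 30 30 32 30 34 32 32 30 30 30 30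 30 30 30 30 32 30 30 30 30 30 30 34 30 32 32 30)
def odep_10 : D2 → D3 → Nat := @D2.rec (fun _ => D3 → Nat) (@D3.rec (fun _ => Nat) 30 30 30 30 30 30 30 30 30 30 34 30 34 34 30 30 32 30 30 30 32 32 30 30 30 30 30 32 20 20 20 31 31 31 31 31 31 31 31 31 31 31 31 31 31 31 31 31 31 31 31) (@D3.rec (fun _ => Nat) 31 31 31 33 31 31 31 31 31 31 31 31 31 31 31 31 31 31 31 31 31 31 31 31 31 31 31 31 31 31 31 31 31 20 20 20 31 20 20 20 31 20 20 20 20 20 31 20 20 20 20) (@D3.rec (fun _ => Nat) 20 20 20 20 20 20 20 20 31 20 20 20 20 20 20 20 20 20 20 20 20 20 20 20 31 31 31 31 31 33 31 33 31 31 31 31 31 33 31 31 31 31 31 31 33 31 31 31 31 31 31) (@D3.rec (fun _ => Nat) 31 31 31 31 31 31 31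 31 31 31 31 31 31 31 31 31 31 31 31 31 31 31 31 31 31 31 31 31 31 31 31 31 31 31 31 31 31 31 33 31 33 31 31 31 31 33 31 31 31 31 31) (@D3.rec (fun _ => Nat) 31 31 31 31 31 31 31 31 31 31 31 31 31 31 31 33 31 31 31 31 31 31 31 31 31 35 31 35 31 31 31 31 31 33 35 31 31 33 33 31 31 31 31 31 31 31 31 31 33 31 31) (@D3.rec (fun _ => Nat) 31 31 33 33 33 31 31 31 31 33 31 31 31 31 31 31 33 31 33 31 31 31 31 31 31 33 31 31 31 31 31 31 33 31 31 31 33 31 31 31 31 31 31 31 31 31 31 31 31 31 31) (@D3.rec (fun _ => Nat) 31 33 31 33 31 31 31 31 31 33 31 31 31 31 31 31 31 31 31 31 31 31 31 31 31 31 31 31 33 31 31 31 31 31 31 31 31 31 35 31 35 33 31 31 33 33 31 31 31 31 31) (@D3.rec (fun _ => Nat)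 31 31 31 31 33 33 33 31 31 31 31 31 33 31 31 31 31 31 31 31 31 31 31 31 31 31 31 31 31 31 31 31 31 31 33 31 31 31 33 31 33 31 31 31 31 31 31 31 31 31 31) (@D3.rec (fun _ => Nat) 31 31 31 31 31 31 31 31 31 31 31 31 31 31 31 33 33 33 31 31 31 31 31 31 20 20 20 20 20 20 20 20 20 20 20 20 20 31 31 31 20 20 20 20 20 20 31 20 20 20 20) (@D3.rec (fun _ => Nat) 20 33 20 20 20 31 20 20 20 20 33 20 31 20 20 20 31 31 20 20 20 31 20 33 20 20 20 20 20 31 31 20 20 20 20 20 20 33 33 20 31 31 20 20 20 20 31 20 20 20 20) (@D3.rec (fun _ => Nat) 20 31 20 20 20 20 33 20 20 20 33 20 31 20 20 20 20 20 31 20 20 20 20 33 20 31 20 20 20 20 20 31 20 33 20 20 20 20 20 33 20 20 31 31 20 20 20 20 20 20 20)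 (@D3.rec (fun _ => Nat) 20 20 20 20 20 20 20 31 20 20 20 20 20 20 20 20 20 31 31 31 31 31 31 31 31 31 31 31 31 31 31 31 31 31 31 31 31 31 31 31 31 31 31 31 31 31 33 31 31 31 31) (@D3.rec (fun _ => Nat) 31 31 31 31 31 33 31 31 31 33 31 31 33 31 31 31 35 31 33 31 31 31 31 31 33 31 31 31 31 35 33 31 31 33 31 31 31 31 31 31 33 31 31 31 31 31 31 31 33 35 31) (@D3.rec (fun _ => Nat) 31 33 33 31 31 31 31 31 31 31 31 31 33 31 31 31 31 31 31 31 31 33 33 33 31 31 31 33 31 31 31 31 31 31 33 31 33 31 31 31 31 31 33 31 31 31 31 31 31 31 31) (@D3.rec (fun _ => Nat) 31 31 33 31 31 31 33 31 31 31 31 31 31 31 31 35 31 35 31 31 31 31 31 35 33 31 31 33 33 31 31 31 31 31 31 31 31 31 31 31 31 31 31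 33 31 33 31 31 31 31 31) (@D3.rec (fun _ => Nat) 31 31 31 31 31 31 35 31 33 35 31 31 33 33 31 31 31 31 31 31 31 31 31 33 33 33 31 31 31 31 31 33 31 31 31 31 31 31 31 31 31 31 31 31 31 31 31 31 31 31 31) (@D3.rec (fun _ => Nat) 31 31 33 31 31 31 31 31 33 31 31 31 31 31 31 31 31 31 31 31 31 31 31 31 31 31 31 31 31 31 31 31 31 31 31 31 31 31 31 31 31 31 31 31 31 31 31 31 31 31 31) (@D3.rec (fun _ => Nat) 31 31 31 31 35 31 35 31 31 31 31 33 35 35 31 31 33 35 31 31 31 31 31 33 31 31 31 31 33 35 35 31 35 35 31 31 33 33 31 31 31 31 33 33 35 31 31 31 31 31 33) (@D3.rec (fun _ => Nat) 31 31 31 31 31 31 31 31 31 31 31 31 31 31 33 31 31 31 31 31 31 31 31 31 31 33 31 31 33 31 31 31 31 31 31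 31 31 31 31 31 31 31 31 33 31 31 31 31 31 35 33) (@D3.rec (fun _ => Nat) 31 31 33 33 31 31 31 31 33 31 33 31 31 31 31 31 31 31 31 31 35 33 35 31 31 31 31 33 33 31 31 31 31 31 31 31 31 31 31 33 33 33 31 31 31 33 35 31 33 33 31) (@D3.rec (fun _ => Nat) 31 31 31 31 31 31 31 35 33 31 31 33 33 33 31 31 31 31 33 33 31 31 31 31 31 31 31 31 31 31 31 31 31 35 35 33 35 35 31 31 31 31 31 31 33 33 33 33 33 35 31) (@D3.rec (fun _ => Nat) 31 31 31 31 31 31 31 31 31 31 31 31 31 31 31 31 33 31 31 31 33 33 33 33 31 31 31 33 31 31 31 31 33 33 33 33 33 33 33 33 31 31 31 31 31 31 31 31 33 33 31) (@D3.rec (fun _ => Nat) 31 31 31 31 31 33 33 33 31 33 31 33 31 31 31 31 31 31 31 31 33 35 33 31 31 31 33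 33 31 31 33 33 31 31 31 31 31 33 31 31 31 31 33 31 33 31 31 31 33 31 31) (@D3.rec (fun _ => Nat) 31 31 31 31 31 31 31 31 31 31 31 31 31 31 33 33 33 31 31 33 31 31 31 31 31 31 31 31 33 33 31 31 31 31 31 33 33 31 20 20 20 20 20 20 20 20 20 20 20 20 20) (@D3.rec (fun _ => Nat) 20 20 20 20 20 20 20 20 20 31 20 31 20 20 20 31 31 31 31 31 31 31 31 31 31 31 31 31 31 31 31 31 31 31 31 31 31 31 33 33 33 31 31 31 31 31 31 31 31 31 31) (@D3.rec (fun _ => Nat) 31 31 31 31 31 31 31 31 31 31 31 31 31 31 31 31 31 31 31 31 31 31 31 33 31 31 31 33 33 31 31 31 31 33 33 31 31 31 31 31 31 33 33 31 31 31 31 31 31 31 31) (@D3.rec (fun _ => Nat) 31 31 31 31 31 31 31 31 31 31 31 33 33 31 31 31 33 33 31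 31 31 31 31 31 31 31 31 33 33 33 31 31 31 31 31 31 31 31 31 33 33 31 31 31 31 31 31 31 31 31 31)
def odep_11 : D2 → D3 → Nat := @D2.rec (fun _ => D3 → Nat) (@D3.rec (fun _ => Nat) 31 31 31 31 31 31 31 31 31 31 31 31 31 31 33 33 33 31 31 31 33 31 33 31 31 31 31 31 31 31 31 31 31 31 31 31 33 33 33 33 33 31 31 31 31 31 33 33 33 31 31) (@D3.rec (fun _ => Nat) 31 31 31 31 31 31 31 31 31 31 31 31 31 31 31 31 31 31 31 31 31 31 31 31 31 31 31 33 33 33 33 33 31 31 31 31 31 31 31 31 33 31 31 33 31 31 31 31 31 31 31) (@D3.rec (fun _ => Nat) 31 31 31 31 31 31 31 31 31 31 31 35 31 31 31 35 31 33 33 33 31 33 33 33 33 31 31 31 31 31 31 31 31 31 33 31 31 31 31 31 31 31 31 31 31 33 31 31 31 31 31)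 (@D3.rec (fun _ => Nat) 31 31 31 31 31 20 20 20 20 20 20 20 20 20 20 20 20 20 20 20 20 20 20 20 20 20 31 20 20 20 33 20 20 20 20 20 20 31 20 20 20 20 20 20 20 20 20 20 20 20 20) (@D3.rec (fun _ => Nat) 20 20 31 20 20 20 20 20 20 20 20 20 20 33 20 20 20 31 31 31 31 31 31 31 31 31 31 31 31 31 33 31 31 31 31 31 31 31 31 31 31 31 31 31 31 31 31 33 33 31 31) (@D3.rec (fun _ => Nat) 31 33 31 31 31 31 31 31 31 31 31 31 31 31 31 31 31 31 31 31 31 31 31 31 31 31 31 31 31 31 31 31 31 33 33 33 31 31 31 33 31 31 31 31 31 33 33 33 31 31 31) (@D3.rec (fun _ => Nat) 33 31 31 31 31 31 31 31 31 31 31 31 31 31 31 31 31 31 33 33 33 33 33 31 31 31 31 31 31 33 33 33 31 31 31 31 31 31 31 31 31 31 31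 31 31 31 31 31 31 31 33) (@D3.rec (fun _ => Nat) 31 31 33 31 31 33 33 33 33 31 33 31 31 31 31 31 31 31 33 33 31 31 31 31 31 31 31 33 31 33 31 33 31 31 31 31 31 31 31 33 33 31 31 31 31 31 31 31 33 33 33) (@D3.rec (fun _ => Nat) 31 31 33 31 33 31 31 33 33 33 31 31 31 33 31 31 31 31 33 33 35 35 35 31 31 31 31 31 31 35 33 33 33 33 35 31 31 31 31 31 31 31 31 31 31 31 33 33 33 33 33) (@D3.rec (fun _ => Nat) 33 33 31 31 31 31 31 35 33 31 33 31 31 31 33 31 31 31 31 31 31 31 33 33 31 31 33 31 33 33 33 35 35 31 31 31 31 31 33 33 35 31 31 31 31 31 33 33 33 31 33) (@D3.rec (fun _ => Nat) 31 31 31 31 31 31 31 33 31 31 31 31 31 33 33 33 33 33 31 31 31 31 31 31 31 31 33 31 33 31 31 31 31 31 31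 31 31 31 31 31 31 31 31 31 35 31 31 33 35 35 31) (@D3.rec (fun _ => Nat) 33 33 33 35 35 31 31 31 31 31 31 31 31 31 31 31 31 31 33 33 33 33 33 33 31 31 31 31 31 31 31 31 31 35 31 31 31 31 31 31 31 31 33 31 31 31 31 33 31 35 33) (@D3.rec (fun _ => Nat) 33 33 31 31 31 31 31 31 31 31 31 31 31 31 31 31 31 33 31 33 31 31 31 31 33 33 33 31 31 31 31 31 33 33 31 33 33 35 31 31 31 31 31 31 31 31 31 31 31 31 31) (@D3.rec (fun _ => Nat) 20 20 20 20 20 20 20 20 33 20 20 20 20 33 33 20 20 20 20 20 20 31 31 31 31 31 31 31 31 31 31 31 31 31 31 31 31 31 31 31 31 31 31 31 31 31 31 31 31 33 31) (@D3.rec (fun _ => Nat) 31 31 31 31 31 31 33 33 31 31 31 31 31 33 33 33 31 31 31 31 31 31 31 31 31 31 31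 31 31 33 33 31 31 31 31 31 31 31 31 31 31 31 31 31 31 31 31 31 31 31 31) (@D3.rec (fun _ => Nat) 31 31 31 31 31 31 31 31 31 31 31 31 31 31 31 33 33 33 31 31 31 31 31 31 33 31 31 31 31 33 31 31 31 31 31 31 31 31 33 31 31 31 33 31 31 31 31 31 31 31 31) (@D3.rec (fun _ => Nat) 31 31 31 35 31 35 31 31 31 31 33 33 31 31 21 21 21 32 32 32 32 32 32 32 32 32 32 32 32 32 32 32 32 32 32 32 34 32 32 34 32 32 32 32 32 32 32 32 32 32 32) (@D3.rec (fun _ => Nat) 32 32 32 32 32 32 32 21 21 32 21 21 21 21 21 32 21 21 21 21 21 21 21 21 21 21 21 21 32 21 21 21 21 21 21 21 21 21 21 21 21 32 21 21 32 32 32 32 32 32 32) (@D3.rec (fun _ => Nat) 32 34 32 32 32 32 32 32 32 32 32 32 32 32 32 32 32 32 32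 32 32 32 32 32 32 32 32 32 32 32 32 32 32 32 32 32 32 32 32 32 32 32 32 32 32 32 32 32 32 32 32) (@D3.rec (fun _ => Nat) 32 32 32 34 32 32 32 32 32 32 32 32 32 32 32 32 32 32 32 32 32 32 32 32 32 32 32 32 32 32 32 32 32 32 32 32 32 32 32 32 34 32 34 36 32 32 34 34 32 32 32) (@D3.rec (fun _ => Nat) 32 32 32 34 34 34 32 32 32 32 32 34 32 32 32 32 32 32 32 32 32 32 32 32 32 32 32 32 34 32 34 32 32 32 32 32 32 32 32 32 32 32 32 32 32 32 32 32 32 32 32) (@D3.rec (fun _ => Nat) 32 32 32 32 32 34 32 32 32 32 32 34 32 32 32 32 32 32 32 32 32 32 32 32 32 32 32 32 32 34 32 32 32 34 32 32 32 32 32 32 32 32 32 32 32 32 32 32 32 32 32) (@D3.rec (fun _ => Nat) 32 32 32 32 32 32 32 32 32 32 32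 34 32 32 32 32 32 32 34 32 32 34 34 34 32 32 32 32 32 34 32 32 32 32 32 32 32 32 32 32 32 32 34 34 32 34 34 32 32 32 32) (@D3.rec (fun _ => Nat) 32 32 32 32 32 32 34 32 32 32 32 32 32 32 32 32 32 32 32 32 32 32 32 34 32 32 32 32 32 32 34 32 32 32 34 32 32 32 32 32 32 32 32 32 32 32 32 32 32 32 32) (@D3.rec (fun _ => Nat) 32 32 32 32 32 32 32 32 32 32 32 32 32 32 32 32 34 34 34 32 32 32 21 21 21 21 21 21 21 21 32 21 21 21 32 21 21 21 32 21 32 21 21 21 32 21 32 21 21 21 21) (@D3.rec (fun _ => Nat) 21 32 21 21 34 32 21 32 21 21 21 21 21 21 21 32 21 21 32 32 21 21 21 21 21 21 32 21 21 21 21 32 21 21 21 21 21 21 21 21 21 21 21 34 21 21 21 21 21 34 21) (@D3.rec (fun _ => Nat) 21 32 32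 21 21 21 21 21 21 21 21 21 21 21 21 21 21 21 21 21 32 21 21 32 32 21 21 21 21 21 21 21 21 21 21 21 32 21 21 21 21 21 21 21 21 21 21 21 21 21 21)
def odep_12 : D2 → D3 → Nat := @D2.rec (fun _ => D3 → Nat) (@D3.rec (fun _ => Nat) 32 21 21 21 21 21 21 21 21 32 32 32 32 32 32 32 32 32 32 32 32 32 32 32 32 32 32 32 32 32 32 32 32 32 32 32 32 32 32 34 32 34 32 32 32 32 34 32 32 32 32) (@D3.rec (fun _ => Nat) 32 32 32 34 34 32 32 32 34 32 32 32 32 32 32 32 32 32 32 32 34 34 32 32 32 32 32 32 32 32 32 32 32 32 32 32 32 32 32 32 32 32 32 34 34 34 32 32 32 34 32) (@D3.rec (fun _ => Nat) 32 32 32 32 32 32 32 32 32 32 32 32 32 32 32 32 32 32 32 32 32 34 32 34 32 32 32 32 32 32 32 32 32 32 32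 32 32 32 32 32 32 32 32 32 32 32 32 32 32 34 32) (@D3.rec (fun _ => Nat) 32 32 32 32 32 32 32 32 32 32 32 32 34 32 36 32 32 34 34 32 32 32 32 32 32 32 32 34 34 34 32 32 32 32 32 34 32 32 32 32 32 32 32 32 32 32 32 32 32 32 32) (@D3.rec (fun _ => Nat) 32 32 32 34 32 32 32 32 32 32 32 32 32 32 32 32 32 32 32 32 36 32 32 34 34 34 32 32 32 32 32 34 32 32 32 32 32 32 32 32 32 32 32 32 34 34 32 34 34 32 32) (@D3.rec (fun _ => Nat) 32 32 32 32 32 32 32 32 34 32 32 32 32 32 32 32 32 32 32 32 32 32 32 32 32 34 32 32 32 32 32 34 32 32 32 32 32 32 32 32 32 32 32 32 32 32 32 32 32 32 32) (@D3.rec (fun _ => Nat) 32 32 32 32 32 32 32 32 32 32 32 32 32 32 32 32 32 32 32 32 32 32 32 32 36 32 32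 34 34 32 32 32 32 34 34 36 32 32 32 34 32 32 32 32 32 34 32 32 32 34 34) (@D3.rec (fun _ => Nat) 32 32 34 34 34 32 32 32 34 32 32 32 32 34 34 32 34 34 32 32 32 32 32 32 32 32 32 34 32 32 32 32 32 32 32 32 32 32 32 32 32 32 32 32 32 32 32 32 32 32 32) (@D3.rec (fun _ => Nat) 32 32 32 32 32 32 32 32 32 32 32 32 32 32 32 32 34 34 34 32 32 32 32 34 32 32 32 32 32 32 32 32 32 32 32 32 32 32 32 32 32 34 36 32 34 34 32 32 32 32 32) (@D3.rec (fun _ => Nat) 32 32 32 34 34 34 32 32 32 32 32 32 32 32 32 34 34 34 32 32 32 32 34 34 32 32 34 32 32 32 32 32 32 34 34 34 32 32 32 34 34 32 34 34 32 32 32 32 32 32 32) (@D3.rec (fun _ => Nat) 32 32 34 34 34 32 32 32 32 32 32 32 32 32 32 32 34 32 32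 32 34 36 36 34 34 34 34 36 36 32 32 32 32 32 32 32 32 32 32 32 32 34 34 34 34 34 34 34 32 32 32) (@D3.rec (fun _ => Nat) 32 32 32 32 32 34 32 32 32 32 32 32 32 32 34 32 32 32 32 34 32 32 32 34 34 34 34 34 32 32 32 32 32 32 32 34 34 34 34 32 32 32 34 34 34 34 34 32 32 32 32) (@D3.rec (fun _ => Nat) 32 32 32 32 32 32 32 34 34 32 32 32 34 32 32 32 32 34 34 32 34 32 34 32 32 32 32 32 32 34 32 32 32 32 32 32 32 32 32 32 32 32 32 32 32 32 32 32 34 32 32) (@D3.rec (fun _ => Nat) 32 32 32 32 32 32 34 32 32 21 21 21 21 21 21 21 21 21 21 21 21 21 21 21 21 32 32 32 32 32 32 32 32 32 32 32 32 32 32 32 32 32 32 32 32 32 32 32 32 32 32) (@D3.rec (fun _ => Nat) 32 32 32 32 32 32 32 32 32 32 32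 32 32 32 32 32 32 32 32 32 32 32 32 32 32 32 32 32 32 32 32 34 32 32 32 32 34 32 32 32 34 32 32 32 34 32 32 32 32 32 32) (@D3.rec (fun _ => Nat) 32 32 32 32 32 32 32 32 32 34 34 32 32 32 32 32 34 34 34 32 32 32 32 32 32 32 32 32 32 34 34 32 32 32 32 32 32 32 32 32 34 32 32 32 32 32 32 32 32 32 32) (@D3.rec (fun _ => Nat) 32 32 32 32 32 32 32 32 34 34 34 34 34 32 32 32 32 32 32 34 32 34 32 32 34 32 32 32 32 32 32 32 32 32 32 34 34 34 34 34 34 34 32 32 32 32 32 32 32 32 34) (@D3.rec (fun _ => Nat) 34 32 32 32 32 32 32 32 32 32 32 32 32 32 32 32 32 32 32 32 32 32 32 32 32 32 32 32 32 32 32 32 32 32 32 32 34 32 32 34 34 34 32 34 34 32 34 34 32 32 32) (@D3.rec (fun _ => Nat) 32 32 32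 32 32 32 32 32 32 32 32 32 34 32 32 32 32 32 32 32 32 32 32 32 36 32 32 32 32 32 32 32 32 34 32 32 32 32 34 32 34 34 32 32 34 34 34 34 32 32 32) (@D3.rec (fun _ => Nat) 32 32 32 32 32 32 32 34 32 32 32 32 32 32 32 32 32 21 21 21 21 21 21 21 21 21 21 21 21 21 21 21 21 21 21 21 21 21 21 21 21 21 21 21 21 21 21 21 21 21 21) (@D3.rec (fun _ => Nat) 21 21 21 21 21 21 21 21 21 32 32 32 32 32 32 32 32 32 32 32 32 32 32 32 32 32 32 32 32 32 32 32 32 32 32 32 32 32 34 34 32 32 32 32 32 34 32 32 32 32 32) (@D3.rec (fun _ => Nat) 32 32 32 32 32 32 32 32 32 32 32 32 32 32 32 32 32 32 32 32 34 34 34 34 32 32 32 32 34 32 32 32 32 34 34 32 32 32 32 32 32 32 32 32 32 32 32 32 32 32 32) (@D3.rec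 (fun _ => Nat) 32 34 34 34 34 34 34 34 34 32 32 32 32 32 32 32 32 32 32 34 34 32 32 32 32 32 32 32 32 34 32 32 32 32 32 32 32 32 32 32 32 32 32 32 34 32 34 34 32 32 32) (@D3.rec (fun _ => Nat) 32 32 32 32 32 34 34 32 32 32 32 32 32 32 34 32 34 32 32 32 32 34 32 32 32 34 34 34 34 32 32 34 32 32 34 34 34 34 32 32 32 32 34 32 32 34 34 34 34 36 34) (@D3.rec (fun _ => Nat) 34 36 36 32 32 32 32 32 32 32 32 34 34 34 34 34 32 34 34 32 32 32 32 32 32 32 32 32 34 34 34 34 32 32 32 32 34 32 32 32 32 32 34 34 32 32 34 34 34 34 34) (@D3.rec (fun _ => Nat) 34 34 36 36 32 32 32 32 32 32 32 32 34 34 32 32 32 34 34 32 32 32 32 32 32 32 32 32 32 32 32 34 34 34 32 34 34 34 34 32 32 32 32 32 32 32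 32 32 32 32 32) (@D3.rec (fun _ => Nat) 32 32 34 32 32 32 32 32 32 32 32 36 32 32 32 32 34 32 32 32 36 32 34 34 36 36 36 32 32 32 34 34 34 34 34 36 32 32 32 32 32 32 32 32 32 32 32 32 32 36 32)
def odep_13 : D2 → D3 → Nat := @D2.rec (fun _ => D3 → Nat) (@D3.rec (fun _ => Nat) 32 32 32 32 32 32 32 34 34 32 36 34 34 32 32 32 32 32 32 32 34 32 32 32 32 34 32 32 32 32 32 32 34 32 32 32 34 34 32 32 32 32 32 32 32 32 32 32 32 32 34) (@D3.rec (fun _ => Nat) 34 34 34 32 32 32 32 32 32 32 34 32 34 34 32 32 32 32 32 32 32 32 32 21 21 21 21 21 21 34 21 32 21 21 21 32 32 32 32 32 32 32 32 32 32 32 32 32 32 32 32) (@D3.rec (fun _ => Nat) 32 34 32 32 32 32 32 32 32 34 32 32 32 32 32 34 32 32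 32 32 32 32 32 32 32 32 32 32 32 32 32 32 32 32 32 32 32 32 32 32 32 32 32 32 34 34 32 32 32 32 32) (@D3.rec (fun _ => Nat) 34 32 32 32 32 32 32 32 32 32 32 32 32 32 32 32 32 32 36 32 32 34 32 32 22 22 22 33 33 33 33 33 33 33 33 33 33 33 33 35 33 33 33 33 33 33 33 33 33 33 33) (@D3.rec (fun _ => Nat) 33 33 33 22 22 22 22 22 22 22 22 22 22 22 22 22 22 22 22 22 22 22 22 22 22 22 22 22 33 33 33 33 33 33 33 33 33 33 33 33 33 33 33 33 33 33 33 33 33 33 33) (@D3.rec (fun _ => Nat) 33 33 33 33 33 33 33 33 33 33 33 33 33 33 33 33 33 33 33 33 33 33 33 33 33 33 33 33 33 33 33 33 33 33 33 33 33 33 33 33 33 33 33 33 33 33 33 33 33 33 33) (@D3.rec (fun _ => Nat) 33 33 33 33 33 33 33 33 33 33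 33 33 33 33 33 33 33 33 33 33 35 33 33 35 35 35 33 33 33 33 33 35 33 33 33 33 33 33 35 35 33 35 35 33 33 33 33 33 33 33 33) (@D3.rec (fun _ => Nat) 33 33 35 33 33 33 33 33 33 33 33 33 33 33 33 33 33 33 33 33 33 33 33 33 33 33 33 33 33 33 33 33 33 33 33 33 33 33 33 33 33 33 33 33 33 33 33 33 33 33 33) (@D3.rec (fun _ => Nat) 33 33 33 33 33 33 33 33 33 33 33 33 33 33 33 33 33 35 33 33 33 33 33 33 33 33 33 33 33 33 33 33 33 33 33 33 33 33 33 33 33 33 33 33 33 33 33 33 33 33 33) (@D3.rec (fun _ => Nat) 33 33 33 33 33 33 35 35 33 33 33 35 35 33 35 35 33 33 33 33 33 33 33 33 33 33 35 33 33 33 33 33 33 33 33 33 33 33 33 33 33 35 35 33 33 33 33 35 35 33 33) (@D3.rec (fun _ => Nat) 33 33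 33 33 33 33 33 33 33 33 33 33 33 33 33 33 33 33 33 33 33 33 35 33 33 33 33 33 33 33 33 33 33 35 33 33 33 33 33 33 33 35 33 33 33 33 33 33 33 33 33) (@D3.rec (fun _ => Nat) 33 33 33 33 33 33 33 33 33 33 33 33 33 33 33 33 33 33 33 33 33 33 33 33 33 35 35 33 22 22 22 22 22 22 33 22 22 22 22 22 22 22 22 33 22 22 33 22 22 22 22) (@D3.rec (fun _ => Nat) 22 22 22 22 22 22 22 22 22 33 22 22 22 22 22 22 22 22 22 22 22 22 22 22 22 33 33 22 22 22 22 22 22 22 22 33 22 22 22 22 22 22 22 22 22 22 22 22 22 22 22) (@D3.rec (fun _ => Nat) 22 33 22 22 22 22 22 22 22 22 22 22 33 22 22 22 22 22 22 22 22 22 22 22 22 22 22 22 22 22 22 22 33 33 33 33 33 33 33 33 33 35 33 33 33 33 33 33 33 33 33) (@D3.rec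 (fun _ => Nat) 33 33 33 33 33 33 33 33 35 33 35 33 33 33 33 33 33 33 33 33 33 33 33 33 33 35 33 33 33 33 33 33 33 33 33 33 33 33 33 33 33 33 33 33 33 33 33 33 33 33 35) (@D3.rec (fun _ => Nat) 35 35 33 33 33 33 33 33 35 33 33 33 33 33 33 33 33 33 33 33 33 33 33 33 33 33 33 33 33 33 33 33 33 33 33 33 33 33 33 33 33 33 33 33 33 33 33 35 33 33 33) (@D3.rec (fun _ => Nat) 33 33 33 33 33 33 33 33 33 33 35 33 33 35 35 33 33 33 33 35 33 33 33 33 33 33 33 33 33 33 35 35 33 35 35 33 33 33 33 33 33 33 33 33 35 33 33 33 33 33 33) (@D3.rec (fun _ => Nat) 33 33 33 33 33 33 33 33 33 33 33 33 33 33 33 33 33 33 33 33 33 33 33 33 33 33 33 33 35 35 33 33 33 35 33 33 35 35 33 33 33 33 33 33 33 33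 33 35 33 33 33) (@D3.rec (fun _ => Nat) 33 33 33 33 33 33 33 33 33 33 35 35 33 33 33 35 35 33 33 33 33 33 33 33 33 33 33 33 33 33 33 33 33 33 33 33 33 33 33 33 35 33 33 33 33 33 33 33 33 33 33) (@D3.rec (fun _ => Nat) 33 33 33 33 33 33 33 33 33 33 33 33 33 33 33 33 33 33 33 33 33 33 33 33 33 33 33 33 33 33 33 33 33 33 33 33 33 33 35 35 33 33 33 33 35 33 33 33 35 35 35) (@D3.rec (fun _ => Nat) 35 33 33 33 33 35 33 33 33 33 33 33 35 35 33 33 33 35 35 35 35 33 33 33 33 33 35 33 33 33 33 35 35 33 33 33 35 35 33 33 33 33 33 33 33 33 33 33 33 33 33) (@D3.rec (fun _ => Nat) 33 33 33 33 33 33 33 33 33 33 33 33 33 33 33 33 33 33 33 33 33 33 33 33 33 33 33 35 35 33 35 35 33 33 33 33 33 35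 33 33 33 33 33 33 33 33 33 33 33 33 33) (@D3.rec (fun _ => Nat) 33 33 33 33 33 33 33 33 35 35 33 33 35 35 35 33 33 33 33 33 33 33 33 33 33 33 35 35 35 33 33 33 33 33 33 33 35 35 35 33 33 33 33 35 33 33 33 33 33 33 33) (@D3.rec (fun _ => Nat) 33 35 35 33 35 35 33 33 33 33 33 33 33 35 35 33 33 33 35 35 35 33 33 33 33 33 33 33 33 33 33 33 33 33 35 35 35 33 33 33 33 35 33 33 33 33 33 33 33 35 33) (@D3.rec (fun _ => Nat) 33 33 35 35 35 37 37 37 33 35 35 35 35 35 35 35 35 37 33 33 33 33 33 33 33 33 33 33 33 33 33 35 33 33 33 33 33 33 35 35 35 35 35 35 35 35 35 33 33 33 33) (@D3.rec (fun _ => Nat) 33 35 33 33 33 33 35 33 33 33 33 33 33 33 35 33 33 33 33 35 33 33 33 35 35 35 33 33 33 33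 33 33 33 33 33 35 35 35 33 33 33 33 35 35 33 33 33 33 33 33 33) (@D3.rec (fun _ => Nat) 33 33 33 35 33 33 33 33 33 33 33 33 33 33 33 33 33 33 33 33 33 33 33 33 33 33 33 33 33 35 33 33 33 33 33 33 22 22 22 22 22 22 22 22 22 22 33 33 33 33 33)
def odep_14 : D2 → D3 → Nat := @D2.rec (fun _ => D3 → Nat) (@D3.rec (fun _ => Nat) 33 33 33 33 33 33 33 33 33 33 33 33 33 33 33 33 33 33 33 33 33 33 33 33 33 33 33 33 33 33 33 33 33 33 33 33 33 33 33 33 33 33 33 33 33 33 33 33 33 33 33) (@D3.rec (fun _ => Nat) 33 33 33 33 33 33 35 35 33 33 33 33 33 33 33 35 35 33 33 33 33 33 33 33 33 33 33 35 33 33 33 33 33 33 33 33 33 33 33 33 33 33 33 33 33 33 33 35 35 35 35) (@D3.rec (fun _ => Nat) 35 35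 33 35 35 33 33 33 33 33 33 33 33 35 33 33 35 33 33 33 33 33 33 33 33 33 33 33 35 33 35 35 35 35 33 33 33 33 33 33 33 33 33 35 35 33 33 33 33 33 33) (@D3.rec (fun _ => Nat) 33 33 33 33 33 33 33 33 33 33 33 33 33 33 33 33 33 33 33 33 33 33 33 33 33 33 33 33 33 33 33 33 35 33 35 35 35 35 35 33 33 35 33 35 35 33 35 33 33 33 33) (@D3.rec (fun _ => Nat) 33 33 33 33 33 33 33 33 33 37 33 33 33 33 33 33 33 33 33 33 35 33 33 33 33 33 33 33 33 35 33 33 33 33 35 33 33 33 33 33 33 35 33 33 35 33 33 35 35 35 35) (@D3.rec (fun _ => Nat) 33 33 33 33 33 33 33 33 33 33 33 35 33 22 22 22 22 22 22 22 22 22 22 22 22 22 22 22 22 22 22 22 22 22 22 22 22 22 22 22 22 22 22 33 33 33 33 33 33 33 33) (@D3.rec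 (fun _ => Nat) 33 33 33 33 33 33 33 33 33 33 33 33 33 33 33 33 33 35 35 33 33 33 33 33 33 33 33 33 33 33 33 33 33 33 33 33 33 33 33 33 33 33 33 33 33 33 33 35 35 35 35) (@D3.rec (fun _ => Nat) 33 33 33 33 33 33 33 33 33 33 33 33 33 33 33 33 33 33 33 33 33 35 35 35 35 35 35 35 35 35 35 33 33 33 33 33 33 33 33 33 33 33 33 35 33 33 33 35 35 33 33) (@D3.rec (fun _ => Nat) 33 33 33 33 33 33 33 33 33 33 33 33 33 33 33 33 33 33 35 35 33 33 33 33 33 33 33 33 35 33 33 33 33 33 35 33 35 35 35 35 33 33 33 35 35 35 35 33 33 33 33) (@D3.rec (fun _ => Nat) 35 35 35 35 35 35 35 35 35 35 35 33 35 37 33 33 33 33 33 33 33 33 33 33 35 35 35 35 35 33 35 33 33 33 33 33 35 33 33 33 33 33 33 35 35 33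 35 35 35 35 35) (@D3.rec (fun _ => Nat) 35 35 35 35 37 33 33 33 33 33 33 33 33 33 33 35 33 33 33 33 33 33 33 33 33 33 33 35 35 35 35 35 33 33 35 35 35 35 33 33 33 33 33 33 33 33 33 33 33 33 37) (@D3.rec (fun _ => Nat) 33 33 33 33 33 33 33 33 33 33 35 33 33 33 37 33 33 35 33 33 35 35 35 35 35 37 37 33 33 33 33 35 35 33 35 35 35 37 33 33 33 33 33 33 33 33 33 33 33 33 33) (@D3.rec (fun _ => Nat) 33 35 33 33 33 33 35 33 33 33 33 33 33 33 33 35 35 33 35 35 33 33 33 33 33 35 33 33 33 33 35 33 33 33 33 35 33 33 33 33 33 33 33 35 35 35 35 33 33 33 33) (@D3.rec (fun _ => Nat) 33 33 33 33 35 33 33 33 33 33 33 33 33 33 33 33 33 33 33 33 33 33 33 33 33 33 33 33 33 33 33 33 33 33 33 33 33 33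 33 33 33 33 33 33 33 35 33 33 33 33 33) (@D3.rec (fun _ => Nat) 33 33 33 33 33 33 33 33 33 34 34 34 34 34 34 34 34 34 23 23 23 23 23 23 23 23 23 23 23 23 23 23 23 23 34 34 34 34 34 34 34 34 34 34 34 34 34 34 34 34 34) (@D3.rec (fun _ => Nat) 34 34 34 34 34 34 34 34 34 34 34 34 34 34 34 34 34 34 34 34 34 34 34 34 34 34 34 34 34 34 34 34 34 34 34 34 34 34 34 34 34 34 34 34 34 34 34 34 34 34 34) (@D3.rec (fun _ => Nat) 34 34 34 34 34 34 34 34 34 34 34 34 34 36 34 34 34 36 36 34 36 36 34 34 34 34 34 34 34 34 36 34 34 34 34 34 34 36 34 34 34 36 36 34 34 34 34 34 34 34 34) (@D3.rec (fun _ => Nat) 34 34 34 34 34 34 34 34 34 34 34 34 34 34 34 34 34 34 34 34 34 34 34 34 34 34 34 34 34 34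 34 34 34 34 34 34 34 34 34 34 34 34 34 34 34 34 34 34 34 34 34) (@D3.rec (fun _ => Nat) 34 34 34 34 34 34 34 34 34 34 34 34 34 34 34 34 34 34 34 34 34 34 34 34 34 34 34 34 34 34 34 34 34 34 34 34 34 34 34 34 34 34 34 34 34 34 34 36 36 36 34) (@D3.rec (fun _ => Nat) 34 34 34 34 34 36 36 34 34 34 34 36 36 34 34 34 34 34 34 34 34 34 34 34 34 34 34 34 34 34 34 34 34 34 34 34 34 34 34 34 34 36 36 36 34 34 34 34 34 34 34) (@D3.rec (fun _ => Nat) 36 34 34 34 34 34 34 34 34 34 34 34 34 36 34 34 34 34 34 34 34 34 34 34 34 34 34 34 34 34 34 34 36 34 34 34 34 34 34 34 34 36 34 34 34 34 34 34 34 34 34) (@D3.rec (fun _ => Nat) 34 34 34 34 34 34 34 34 34 34 34 34 34 34 34 34 34 34 34 34 34 34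 34 34 34 34 34 23 23 23 23 23 23 23 23 23 23 23 23 23 23 23 23 23 23 34 23 23 23 23 23) (@D3.rec (fun _ => Nat) 23 23 23 23 23 23 23 34 23 23 23 23 23 23 23 34 23 23 23 23 23 23 23 23 23 23 23 23 34 23 23 23 23 23 23 23 23 23 23 23 23 23 23 23 23 23 23 23 23 23 23) (@D3.rec (fun _ => Nat) 34 34 34 34 34 34 34 34 34 34 34 34 34 34 34 34 34 34 34 34 36 34 34 34 34 34 34 34 34 34 34 34 34 34 34 34 34 34 34 34 34 34 34 34 34 34 34 34 34 34 34) (@D3.rec (fun _ => Nat) 34 34 34 34 34 34 34 34 34 34 34 34 34 36 36 34 34 34 34 34 34 34 34 34 34 34 34 34 34 34 34 34 34 34 34 34 34 34 34 34 34 34 34 34 34 34 34 34 34 34 34) (@D3.rec (fun _ => Nat) 34 34 34 34 34 34 34 34 34 34 34 34 34 36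 34 34 34 34 36 36 34 34 34 34 34 34 34 36 34 34 34 34 34 34 34 34 34 34 36 36 34 34 34 36 36 34 34 34 34 34 34) (@D3.rec (fun _ => Nat) 34 34 34 34 34 34 34 34 34 34 34 34 34 34 34 34 34 34 34 34 34 34 34 34 34 34 34 34 34 34 34 34 34 36 36 34 34 34 34 34 34 36 34 34 34 34 36 36 34 34 34)
def odep_15 : D2 → D3 → Nat := @D2.rec (fun _ => D3 → Nat) (@D3.rec (fun _ => Nat) 34 34 34 34 34 34 34 34 34 34 34 34 34 34 34 34 34 34 34 34 34 34 36 36 36 34 34 34 34 34 36 34 34 34 34 34 34 34 34 34 34 34 34 34 36 34 34 34 34 34 34) (@D3.rec (fun _ => Nat) 34 34 34 34 34 34 34 34 34 34 34 34 34 34 34 34 34 34 34 34 34 34 34 34 34 34 34 34 34 34 34 34 34 34 34 34 34 34 34 34 34 34 34 34 34 34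 34 34 36 36 34) (@D3.rec (fun _ => Nat) 34 34 34 34 36 34 34 36 36 36 36 34 34 34 34 34 34 34 36 36 34 34 34 34 34 36 36 34 36 36 34 34 34 34 34 34 34 34 34 36 36 34 34 34 36 34 34 34 34 34 34) (@D3.rec (fun _ => Nat) 34 34 34 34 34 34 34 34 34 34 34 34 34 34 34 34 34 34 34 34 34 34 34 34 34 36 36 34 34 36 36 34 34 34 34 34 34 34 34 34 34 34 34 34 34 34 34 34 34 34 34) (@D3.rec (fun _ => Nat) 34 34 34 34 34 34 34 34 36 36 36 34 34 34 34 36 36 36 34 34 34 34 34 34 34 34 34 34 34 34 34 36 36 36 34 34 34 34 34 36 36 34 34 34 34 34 34 34 34 34 34) (@D3.rec (fun _ => Nat) 34 36 36 34 34 34 36 36 36 34 34 34 34 34 34 34 34 34 34 34 34 36 36 36 34 34 34 34 34 36 36 36 34 34 34 34 34 34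 34 34 34 36 34 34 34 34 34 34 34 34 36) (@D3.rec (fun _ => Nat) 36 36 34 34 34 34 36 34 34 34 34 34 36 34 34 34 36 36 36 36 36 36 36 38 38 34 34 34 34 36 36 36 34 36 36 36 36 36 36 36 36 38 34 34 34 34 34 34 34 34 34) (@D3.rec (fun _ => Nat) 34 34 34 34 36 34 34 34 34 36 34 34 34 34 34 34 36 34 36 36 36 34 36 36 36 34 34 34 34 34 36 34 34 34 34 34 36 34 34 34 34 34 34 36 34 34 34 34 34 34 36) (@D3.rec (fun _ => Nat) 34 36 34 34 34 34 34 34 34 34 36 34 34 36 36 34 34 34 34 34 34 34 34 34 34 34 34 34 34 34 34 34 34 34 34 34 34 34 34 23 23 23 34 34 34 34 34 34 34 34 34) (@D3.rec (fun _ => Nat) 34 34 34 34 34 34 34 34 34 34 34 34 34 34 34 34 34 34 34 34 34 34 34 34 34 34 34 34 34 34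 34 34 34 34 34 34 36 34 34 34 34 34 34 34 34 36 36 34 34 34 34) (@D3.rec (fun _ => Nat) 34 34 34 34 34 34 34 34 34 34 34 34 34 34 34 36 36 36 36 36 36 36 36 34 36 36 34 36 34 34 34 34 34 34 34 34 34 34 36 34 34 36 34 34 34 34 34 34 34 34 36) (@D3.rec (fun _ => Nat) 36 34 36 34 34 34 34 34 34 34 34 36 34 34 34 34 34 34 34 34 34 34 34 34 34 34 34 34 34 34 34 34 34 34 34 34 34 34 34 34 34 34 34 34 34 34 34 34 34 34 34) (@D3.rec (fun _ => Nat) 34 36 36 36 36 36 36 34 34 34 34 36 36 34 36 36 34 36 34 34 34 34 34 34 34 34 34 34 34 34 34 34 34 36 34 34 34 34 36 34 34 34 34 34 34 34 34 34 34 34 36) (@D3.rec (fun _ => Nat) 34 34 34 34 34 36 34 34 34 36 34 34 34 36 34 34 34 36 36 36 36 34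 34 34 34 34 34 34 34 36 23 23 23 23 23 23 23 23 23 23 23 23 23 23 23 23 23 34 34 34 34) (@D3.rec (fun _ => Nat) 34 34 34 34 34 34 34 34 34 34 34 34 34 34 34 34 36 34 34 34 34 34 34 34 34 34 34 34 34 34 34 34 34 34 34 34 34 34 34 34 34 34 34 36 36 36 34 34 34 34 34) (@D3.rec (fun _ => Nat) 34 34 34 34 34 34 34 34 34 34 34 36 36 36 36 36 36 36 36 36 34 34 34 34 34 34 34 34 34 34 34 34 34 34 34 34 36 34 34 34 34 34 34 34 34 34 36 36 34 34 34) (@D3.rec (fun _ => Nat) 34 34 34 34 34 34 34 36 36 36 36 34 34 36 36 36 34 34 36 36 36 34 36 36 36 36 36 36 36 36 36 34 36 38 34 34 34 34 34 34 34 34 34 34 36 36 36 36 34 34 34) (@D3.rec (fun _ => Nat) 34 36 34 34 34 34 36 34 36 36 36 36 36 36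 36 38 34 34 34 34 34 34 34 34 34 34 34 34 34 34 34 34 34 34 34 34 34 36 36 36 36 36 34 34 36 36 36 34 34 34 34) (@D3.rec (fun _ => Nat) 34 34 34 34 34 34 34 34 36 34 34 34 38 34 34 34 34 34 34 34 34 36 34 34 36 34 36 34 36 36 36 38 38 34 34 34 36 36 34 36 36 36 38 34 34 34 34 34 34 34 34) (@D3.rec (fun _ => Nat) 34 34 34 34 34 36 34 34 34 34 34 36 34 34 34 34 34 34 34 36 34 34 36 34 34 34 34 36 34 34 34 34 34 34 34 34 34 34 36 36 34 34 34 34 34 34 34 34 36 34 34) (@D3.rec (fun _ => Nat) 34 34 34 34 34 34 34 34 34 34 34 34 34 34 34 34 34 34 36 34 34 34 34 34 34 34 34 35 24 24 24 24 24 24 24 24 24 24 35 35 35 35 35 35 35 35 35 35 35 35 35) (@D3.rec (fun _ => Nat) 35 35 35 35 35 35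 35 35 35 35 35 35 35 35 35 35 35 35 35 35 35 35 35 35 35 35 35 35 35 35 35 35 35 35 35 35 35 35 35 35 35 35 35 35 35 35 35 35 35 35 35) (@D3.rec (fun _ => Nat) 35 35 35 35 35 35 37 35 35 35 37 37 35 35 35 35 35 35 35 35 35 35 35 35 35 35 35 37 35 35 35 35 35 37 35 35 35 35 35 35 35 35 35 35 35 35 35 35 35 35 35) (@D3.rec (fun _ => Nat) 35 35 35 35 35 35 35 35 35 35 35 35 35 35 35 35 35 35 35 35 35 35 35 35 35 35 35 35 35 35 35 35 35 35 35 35 35 35 35 35 35 35 35 35 35 35 35 35 35 35 35) (@D3.rec (fun _ => Nat) 35 35 35 35 35 35 35 35 35 35 35 35 35 35 35 35 35 35 35 35 35 35 35 35 35 35 35 35 35 35 35 37 37 35 37 37 35 35 35 35 35 35 35 35 35 37 37 37 35 35 35) (@D3.rec (fun _ =>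 Nat) 35 35 35 35 37 35 35 35 35 35 35 35 35 35 35 35 35 35 35 35 35 35 35 35 35 35 35 35 35 35 35 35 35 37 37 35 35 35 35 35 35 35 35 35 37 35 35 35 35 35 35) (@D3.rec (fun _ => Nat) 35 35 35 35 35 35 35 35 35 37 35 35 35 35 35 35 35 35 35 35 35 35 35 35 35 35 37 35 35 35 35 35 35 35 35 35 35 35 35 35 35 35 35 35 35 35 35 35 35 35 35)
def odep_16 : D2 → D3 → Nat := @D2.rec (fun _ => D3 → Nat) (@D3.rec (fun _ => Nat) 35 35 35 35 35 35 35 35 35 35 35 24 24 24 24 24 24 24 24 24 24 24 24 24 24 24 24 24 35 24 24 24 24 24 24 24 24 24 24 24 24 24 24 24 24 24 24 24 24 24 24) (@D3.rec (fun _ => Nat) 24 24 24 24 24 35 35 35 35 35 35 35 35 35 35 35 35 35 35 35 35 35 35 35 35 35 35 35 35 35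 35 35 35 35 35 35 35 35 35 35 35 35 35 35 35 35 35 35 35 35 35) (@D3.rec (fun _ => Nat) 35 35 35 35 35 35 35 35 35 35 35 35 37 35 35 35 35 35 35 35 35 35 35 35 35 35 35 35 35 35 35 35 35 35 35 35 35 35 35 35 35 35 35 35 35 35 35 35 35 35 35) (@D3.rec (fun _ => Nat) 35 35 35 35 35 35 37 37 35 35 35 35 35 35 35 35 35 35 35 35 35 35 35 35 35 35 37 37 35 35 35 35 37 35 35 35 35 35 35 35 35 35 35 35 35 35 35 35 35 35 35) (@D3.rec (fun _ => Nat) 35 35 35 35 35 35 35 35 35 35 35 35 35 37 37 35 35 35 35 35 35 35 35 35 35 35 35 35 35 37 35 35 35 35 35 35 35 35 35 35 35 35 35 35 35 35 35 35 35 35 35) (@D3.rec (fun _ => Nat) 35 35 37 37 35 35 35 35 35 35 35 37 35 35 35 35 35 35 35 35 35 35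 35 35 35 35 35 35 35 35 35 35 35 35 35 35 35 35 35 35 35 35 35 35 35 35 35 35 35 35 35) (@D3.rec (fun _ => Nat) 35 35 35 35 35 35 35 35 35 35 35 35 35 35 35 35 35 35 35 35 37 37 35 35 35 35 35 37 37 37 35 35 35 35 35 35 37 37 35 35 35 35 35 37 37 35 37 35 35 35 35) (@D3.rec (fun _ => Nat) 35 35 35 35 37 35 35 37 35 35 35 35 35 35 35 35 35 35 35 35 35 35 35 35 35 35 35 35 35 35 37 37 35 35 37 35 35 35 35 35 35 35 35 35 35 35 35 35 35 35 35) (@D3.rec (fun _ => Nat) 35 35 35 35 35 35 35 35 35 35 35 35 35 37 37 35 35 35 35 35 37 37 37 35 35 35 35 35 35 35 35 35 35 35 35 35 35 37 37 35 35 35 35 35 37 35 37 35 35 35 35) (@D3.rec (fun _ => Nat) 35 35 37 37 35 35 35 35 35 35 37 37 35 35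 35 35 35 35 35 35 35 35 35 35 35 35 35 35 35 35 35 37 37 35 35 35 35 35 35 37 37 37 35 35 35 35 35 35 35 35 35) (@D3.rec (fun _ => Nat) 37 35 35 35 35 35 35 35 37 37 35 35 35 35 37 35 35 35 35 35 35 35 37 37 37 35 37 37 35 37 39 39 35 35 35 35 35 37 37 35 35 37 35 37 35 37 37 37 37 37 37) (@D3.rec (fun _ => Nat) 37 39 35 35 35 35 35 35 35 35 37 35 35 35 35 35 35 37 35 35 35 35 35 37 35 35 35 35 35 35 35 37 37 35 35 37 37 35 37 35 35 35 35 37 35 35 35 35 35 35 35) (@D3.rec (fun _ => Nat) 35 35 35 35 37 35 35 35 35 37 35 35 35 35 35 35 35 35 35 35 35 35 35 35 35 35 35 35 35 35 35 35 35 35 35 35 35 35 35 24 24 35 35 35 35 35 35 35 35 35 35) (@D3.rec (fun _ => Nat) 35 35 35 35 35 35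 35 35 35 35 35 35 35 35 35 35 35 35 35 37 35 35 35 35 35 35 35 35 35 35 35 35 35 35 35 35 35 35 35 35 35 37 37 37 37 37 37 35 37 35 37) (@D3.rec (fun _ => Nat) 37 35 37 35 35 35 35 35 35 35 35 35 35 37 35 35 35 35 35 35 35 35 37 37 35 37 35 35 35 35 35 35 35 35 35 35 35 35 35 35 35 35 35 35 35 35 35 35 35 35 35) (@D3.rec (fun _ => Nat) 35 35 35 35 35 35 35 35 35 35 35 35 35 35 35 35 35 35 37 37 35 37 37 35 35 35 35 35 37 37 35 37 37 35 37 35 35 35 35 35 35 35 35 35 35 35 35 35 35 37 35) (@D3.rec (fun _ => Nat) 35 35 35 35 37 35 35 35 35 35 35 35 35 37 35 35 35 35 37 35 35 35 37 35 35 37 37 37 37 35 35 35 35 35 35 37 24 24 24 24 35 35 35 35 35 35 35 35 35 35 35) (@D3.rec (fun _ =>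 Nat) 35 35 35 35 37 35 35 35 35 35 35 35 35 35 35 35 35 35 35 35 35 35 35 35 35 35 35 37 37 35 35 35 35 35 35 35 35 35 35 35 35 35 35 37 35 37 37 37 37 37 37) (@D3.rec (fun _ => Nat) 37 35 35 35 35 35 35 35 35 35 35 35 35 35 35 35 35 35 35 35 35 37 35 35 35 35 35 35 35 37 37 37 35 35 37 37 35 35 37 37 35 37 37 37 37 37 37 37 37 35 37) (@D3.rec (fun _ => Nat) 39 35 35 35 35 35 35 35 35 35 35 37 37 37 35 35 35 35 35 37 35 37 37 37 37 37 39 35 35 35 35 35 35 35 35 35 35 35 35 35 35 35 35 35 37 37 37 37 35 37 37) (@D3.rec (fun _ => Nat) 37 35 35 35 35 35 35 35 35 35 35 35 35 37 35 35 35 37 35 35 35 35 35 35 37 35 35 35 37 37 37 39 39 35 35 35 37 37 35 35 37 37 37 39 35 35 35 35 35 35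 35) (@D3.rec (fun _ => Nat) 35 35 35 35 35 37 35 35 35 35 35 35 37 35 35 35 35 35 35 37 35 35 35 35 35 35 35 35 35 35 35 37 37 35 35 35 35 35 35 35 35 35 35 35 35 35 35 35 35 35 35) (@D3.rec (fun _ => Nat) 35 35 35 35 25 25 25 36 36 36 36 36 36 36 36 36 36 36 36 36 36 36 36 36 36 36 36 36 36 36 36 36 36 36 36 36 36 36 36 36 36 36 36 36 36 36 36 36 36 36 36) (@D3.rec (fun _ => Nat) 36 36 36 36 36 36 36 36 36 38 36 36 36 36 36 38 36 36 36 36 36 36 36 36 36 36 36 36 36 36 36 36 36 36 36 38 36 36 36 36 36 36 36 36 36 36 36 36 36 36 36) (@D3.rec (fun _ => Nat) 36 36 36 36 36 36 36 36 36 36 36 36 36 36 36 36 36 36 36 36 36 36 36 36 36 36 36 36 36 36 36 36 36 36 36 36 36 36 36 36 36 36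 36 36 36 36 36 36 36 36 36) (@D3.rec (fun _ => Nat) 36 36 36 36 36 36 36 36 36 36 36 36 36 36 36 36 36 36 36 36 36 36 38 38 36 36 38 36 36 36 36 36 36 36 36 36 36 36 38 38 36 36 36 36 36 36 36 38 36 36 36) (@D3.rec (fun _ => Nat) 36 36 36 36 36 36 36 36 36 36 36 36 36 36 36 36 36 36 36 36 36 36 36 38 38 36 36 36 36 36 36 36 36 36 38 36 36 36 36 36 36 36 36 36 36 36 36 36 36 36 36)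
def odep_17 : D2 → D3 → Nat := @D2.rec (fun _ => D3 → Nat) (@D3.rec (fun _ => Nat) 38 36 36 36 36 36 36 36 36 36 36 36 36 36 36 36 36 36 36 36 36 36 36 36 36 36 36 36 36 36 36 36 36 36 36 36 36 36 36 36 36 36 25 25 25 25 25 25 25 25 25) (@D3.rec (fun _ => Nat) 25 25 25 25 25 25 36 36 36 36 36 36 36 36 36 36 36 36 36 36 36 36 36 36 36 36 36 36 36 36 36 36 36 36 36 36 36 36 36 36 36 36 36 36 36 36 36 36 36 36 38) (@D3.rec (fun _ => Nat) 36 36 36 36 36 36 36 36 36 36 36 36 36 36 36 36 36 36 36 36 36 36 36 36 36 36 36 36 36 36 36 36 36 36 36 36 36 38 36 36 36 36 36 36 36 36 36 36 36 36 36) (@D3.rec (fun _ => Nat) 38 36 36 36 38 36 36 36 36 36 36 36 36 36 36 36 36 36 36 36 36 36 36 36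 36 36 36 36 36 36 36 38 36 36 36 36 36 36 36 36 36 36 36 36 36 36 36 38 36 36 36) (@D3.rec (fun _ => Nat) 36 36 36 36 36 36 36 36 36 36 36 36 36 36 36 38 38 36 36 36 36 36 36 36 36 38 36 36 36 36 36 36 36 36 36 36 36 36 36 36 36 36 36 36 36 36 36 36 36 36 36) (@D3.rec (fun _ => Nat) 36 36 36 36 36 36 36 36 36 36 36 36 36 36 36 36 36 36 36 36 36 36 36 36 36 38 36 36 36 36 38 38 36 36 36 36 38 36 36 36 36 36 38 36 38 36 36 36 36 36 36) (@D3.rec (fun _ => Nat) 38 36 36 38 36 36 36 36 36 36 36 36 36 36 36 36 36 36 36 36 36 36 38 36 36 38 36 36 36 36 36 36 36 36 36 36 36 36 36 36 36 36 36 36 36 36 36 36 36 36 36) (@D3.rec (fun _ => Nat) 38 38 36 36 36 36 36 38 38 38 36 36 36 36 36 36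 36 36 36 36 36 36 36 36 36 38 36 38 36 36 36 36 38 36 36 36 36 38 36 36 36 36 36 36 38 38 36 36 36 36 36) (@D3.rec (fun _ => Nat) 36 36 36 36 36 36 36 36 36 36 36 36 36 38 38 36 36 36 36 36 38 38 38 36 36 36 36 36 36 36 36 36 38 36 36 36 36 36 36 36 38 36 38 36 36 36 36 36 36 36 36) (@D3.rec (fun _ => Nat) 36 38 38 36 38 38 36 38 40 40 36 36 36 38 36 36 38 36 38 36 38 38 38 38 38 38 38 38 40 36 36 36 36 36 36 36 36 38 36 36 36 36 36 36 36 38 36 36 36 36 36) (@D3.rec (fun _ => Nat) 36 38 36 36 36 36 36 36 36 38 36 38 36 36 38 36 36 36 36 36 38 36 36 36 36 36 36 36 36 36 36 36 36 36 36 36 38 36 36 36 36 36 36 36 36 36 36 36 36 36 36) (@D3.rec (fun _ => Nat) 36 36 36 36 36 36 36 36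 36 36 36 36 36 36 36 36 36 36 36 36 36 36 36 36 36 36 36 36 36 36 36 36 38 36 36 36 36 36 36 36 36 36 36 36 36 36 36 36 38 36 38) (@D3.rec (fun _ => Nat) 38 38 38 36 38 36 38 38 36 38 36 36 36 36 36 36 36 36 36 36 36 36 36 36 36 36 36 36 38 36 36 36 36 36 36 36 36 36 36 36 36 36 36 36 36 36 36 36 36 36 36) (@D3.rec (fun _ => Nat) 36 36 36 36 36 36 36 36 36 36 36 36 36 36 36 36 36 36 36 36 36 38 38 36 38 38 36 36 36 36 36 38 38 36 38 38 38 36 38 36 36 36 36 36 36 36 36 36 36 36 36) (@D3.rec (fun _ => Nat) 36 36 36 38 36 36 36 36 36 36 38 36 36 36 36 36 36 36 38 36 36 38 36 36 38 38 38 38 36 36 36 36 36 36 36 36 36 36 36 36 36 36 36 36 36 36 38 36 36 36 36) (@D3.rec (fun _ => Nat)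 36 36 36 36 36 36 36 36 36 36 36 36 36 36 36 36 36 38 38 36 36 36 36 36 36 36 36 36 36 36 36 36 38 36 38 38 38 38 38 38 38 36 36 36 36 36 36 36 36 36 36) (@D3.rec (fun _ => Nat) 36 36 36 36 36 36 36 36 36 36 36 36 38 38 38 36 36 38 38 36 36 38 38 36 38 38 38 38 38 38 38 38 36 38 40 36 36 36 36 36 36 36 36 36 36 36 38 38 36 36 36) (@D3.rec (fun _ => Nat) 36 38 36 38 38 38 38 38 40 36 36 36 36 36 36 36 36 36 36 36 36 36 36 36 36 36 36 38 38 38 38 36 38 38 38 36 36 36 36 36 36 36 36 36 36 36 36 38 36 36 36) (@D3.rec (fun _ => Nat) 36 38 36 36 36 36 36 36 36 36 38 38 38 40 40 40 36 36 36 38 38 38 36 36 36 38 38 38 40 36 36 36 36 36 36 36 36 36 36 36 36 36 38 36 36 36 36 36 36 36 36)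 (@D3.rec (fun _ => Nat) 38 36 36 36 36 36 36 36 36 36 38 36 36 36 36 36 36 36 36 36 36 36 36 36 37 37 37 37 37 37 37 37 37 37 37 37 37 37 37 37 37 37 37 37 37 37 37 37 37 37 37) (@D3.rec (fun _ => Nat) 37 37 37 37 37 37 37 37 37 37 37 37 37 37 37 37 37 37 37 37 37 39 37 37 37 37 37 37 37 37 37 37 37 37 37 37 37 37 37 37 37 39 37 37 37 37 37 37 37 37 37) (@D3.rec (fun _ => Nat) 37 37 37 37 37 37 37 37 37 37 37 37 37 37 37 37 37 37 37 37 37 37 37 37 37 37 37 37 37 37 37 37 37 37 37 37 37 37 37 37 37 37 37 37 37 37 37 37 37 37 37) (@D3.rec (fun _ => Nat) 37 37 37 37 37 37 37 37 37 37 37 37 37 37 37 37 37 37 37 37 37 39 37 37 37 39 37 37 37 37 37 37 37 37 37 37 37 39 39 37 37 37 37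 37 37 37 39 37 37 37 37) (@D3.rec (fun _ => Nat) 37 37 37 37 37 37 37 37 37 37 37 37 37 37 37 37 37 37 37 37 39 39 37 37 37 37 37 37 37 37 37 37 37 39 37 37 37 37 37 37 37 37 37 37 37 37 37 37 37 37 37) (@D3.rec (fun _ => Nat) 37 37 39 37 37 37 37 37 37 37 37 37 37 37 37 37 37 37 37 37 37 37 37 37 37 37 37 37 37 37 37 37 37 37 37 37 37 37 37 37 37 37 37 37 37 37 37 37 37 37 37) (@D3.rec (fun _ => Nat) 37 37 37 37 37 37 37 37 37 37 37 37 37 39 37 37 37 37 37 37 37 37 37 37 37 37 37 37 37 37 37 37 37 37 37 37 37 37 37 37 37 37 37 39 37 37 37 37 37 37 37) (@D3.rec (fun _ => Nat) 37 37 37 37 39 37 37 37 39 37 37 37 37 37 37 37 37 37 37 37 37 37 37 37 37 37 37 37 37 37 37 37 39 37 37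 37 37 37 37 37 37 37 37 37 37 37 37 37 39 37 37)
def odep_18 : D2 → D3 → Nat := @D2.rec (fun _ => D3 → Nat) (@D3.rec (fun _ => Nat) 37 37 37 37 37 37 37 37 37 37 37 37 37 37 37 37 39 39 37 37 37 37 37 37 37 37 37 39 37 37 37 37 37 37 37 37 37 37 37 37 37 37 37 37 37 37 37 37 37 37 37) (@D3.rec (fun _ => Nat) 37 37 37 37 37 37 37 37 37 37 37 37 37 37 37 37 37 37 37 37 37 37 37 37 39 37 37 37 39 39 37 37 37 37 39 37 37 37 37 37 39 37 39 37 37 37 37 37 37 39 37) (@D3.rec (fun _ => Nat) 37 37 39 37 37 37 37 37 37 37 37 37 37 37 37 37 37 37 37 39 37 37 39 37 37 37 37 37 37 37 37 37 37 37 37 37 37 37 37 37 37 37 37 37 37 37 37 37 39 39 37) (@D3.rec (fun _ => Nat) 37 37 37 37 39 39 39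 39 37 37 37 37 37 37 37 37 37 37 37 37 37 37 37 37 37 39 37 37 37 37 37 37 37 39 37 37 37 37 39 39 37 37 37 37 37 37 37 37 37 37 37) (@D3.rec (fun _ => Nat) 37 37 37 37 37 37 37 37 37 37 39 39 37 37 37 37 37 39 39 39 39 37 37 37 37 37 37 37 37 37 37 39 37 37 37 37 37 37 37 37 39 37 37 37 37 37 37 37 39 39 37) (@D3.rec (fun _ => Nat) 39 39 37 37 39 41 39 41 37 37 39 37 37 39 37 39 37 39 39 39 39 39 39 39 39 39 39 41 37 37 37 37 37 37 37 37 37 39 37 37 37 37 37 37 37 37 37 37 39 37 37) (@D3.rec (fun _ => Nat) 37 37 37 37 37 37 39 37 37 37 37 37 37 37 37 37 39 37 37 37 37 37 39 37 37 37 39 37 37 37 37 37 37 37 37 37 37 37 37 37 37 37 37 37 37 37 37 37 37 37 37) (@D3.rec (fun _ => Nat)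 37 37 37 37 37 37 37 37 37 37 37 37 37 37 37 37 37 37 37 37 37 37 37 37 37 37 37 37 37 37 37 37 39 37 37 37 37 37 37 37 37 37 37 37 37 37 37 39 37 39 39) (@D3.rec (fun _ => Nat) 39 39 37 39 37 39 39 37 37 39 37 37 37 37 37 37 37 37 37 37 37 37 37 37 37 37 37 37 37 37 37 37 37 37 37 37 37 37 37 37 37 37 37 37 37 37 37 37 37 37 37) (@D3.rec (fun _ => Nat) 37 37 37 37 37 37 37 37 37 37 37 37 37 37 37 37 37 37 37 37 39 39 37 37 39 39 39 37 37 37 37 37 39 39 39 37 37 39 39 39 39 37 39 37 37 37 37 37 37 37 37) (@D3.rec (fun _ => Nat) 37 37 37 37 37 37 37 37 37 37 37 37 39 37 37 37 37 37 37 37 39 37 37 37 37 37 39 39 39 39 37 37 37 37 37 37 37 37 37 37 37 37 37 37 39 37 37 37 37 37 37)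 (@D3.rec (fun _ => Nat) 37 37 37 37 37 37 37 37 37 37 37 37 37 37 39 39 37 37 37 37 37 37 37 37 37 37 37 37 37 37 39 37 39 39 39 39 39 39 39 39 37 37 37 37 37 37 37 37 37 37 37) (@D3.rec (fun _ => Nat) 37 37 37 37 37 37 37 37 37 37 39 39 39 37 37 39 39 37 37 39 39 37 39 39 39 39 39 39 39 39 39 39 37 39 41 37 37 37 37 37 37 37 37 37 37 37 37 39 37 37 37) (@D3.rec (fun _ => Nat) 39 37 39 39 39 39 39 39 41 37 37 37 37 37 37 37 37 37 37 37 37 37 37 37 37 37 37 39 39 39 39 39 37 39 39 39 37 37 37 37 37 37 37 37 37 37 37 37 37 37 39) (@D3.rec (fun _ => Nat) 37 37 37 37 37 39 37 37 37 37 39 39 39 39 39 41 41 41 37 37 37 37 39 39 37 39 37 37 37 39 39 39 37 37 37 37 37 37 37 37 37 37 37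 37 37 37 37 37 39 37 37) (@D3.rec (fun _ => Nat) 37 37 37 37 37 37 37 39 37 37 37 37 37 37 37 37 38 38 38 38 38 38 38 38 38 38 38 38 38 38 38 38 38 38 38 38 38 38 38 38 38 38 38 38 38 38 38 38 38 38 38) (@D3.rec (fun _ => Nat) 38 38 38 38 38 38 38 38 38 38 38 40 38 38 38 38 38 38 38 38 38 38 38 38 38 38 38 38 38 38 38 38 38 40 38 38 38 38 38 38 38 38 38 38 38 38 38 38 38 38 38) (@D3.rec (fun _ => Nat) 38 38 38 38 38 38 38 38 38 38 38 38 38 38 38 38 38 38 38 38 38 38 38 38 38 38 38 38 38 38 38 38 38 38 38 38 38 38 38 38 38 38 38 38 38 38 38 38 38 38 38) (@D3.rec (fun _ => Nat) 38 38 38 38 38 38 38 38 38 40 38 38 38 40 38 38 38 38 38 38 38 38 38 38 38 38 38 38 40 40 38 38 38 38 38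 38 38 38 38 40 38 38 38 38 38 38 38 38 38 38 38) (@D3.rec (fun _ => Nat) 38 38 38 38 38 38 38 38 38 38 38 38 40 38 40 38 38 38 38 38 38 38 38 38 38 38 38 38 38 40 38 38 38 38 38 38 38 38 38 38 38 38 38 38 38 38 38 38 38 38 38) (@D3.rec (fun _ => Nat) 38 40 38 38 38 38 38 38 38 38 38 38 38 38 38 38 38 38 38 38 38 38 38 38 38 38 38 38 38 38 38 38 38 38 38 38 38 38 38 38 38 38 38 38 38 38 38 38 38 38 38) (@D3.rec (fun _ => Nat) 38 40 38 38 38 38 38 38 38 38 38 38 38 38 38 38 38 38 38 38 38 38 38 38 38 38 38 38 38 38 38 40 38 38 38 38 38 38 38 38 38 38 38 40 38 38 38 40 38 38 38) (@D3.rec (fun _ => Nat) 38 38 38 38 38 38 38 38 38 38 38 38 38 38 38 38 38 40 38 38 38 38 38 38 38 38 38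 38 38 38 38 38 38 38 38 38 38 40 38 38 38 38 38 38 38 38 38 38 38 38 38) (@D3.rec (fun _ => Nat) 38 38 38 38 38 40 38 40 38 38 38 38 38 38 38 38 38 38 38 40 38 38 38 38 38 38 38 38 38 38 38 38 38 38 38 38 38 38 38 38 38 38 38 38 38 38 38 38 38 38 38) (@D3.rec (fun _ => Nat) 38 38 38 38 38 38 38 38 38 38 38 38 38 38 38 38 40 38 38 38 40 40 38 38 38 38 40 38 38 38 38 38 38 38 40 38 38 40 38 38 38 38 38 38 40 38 38 38 40 38 38) (@D3.rec (fun _ => Nat) 38 38 38 38 38 38 38 38 38 38 38 38 38 40 38 38 40 38 38 38 38 38 38 38 38 38 38 38 38 38 38 38 38 38 38 38 38 38 38 38 38 38 38 38 38 38 40 40 40 38 38) (@D3.rec (fun _ => Nat) 38 38 38 38 40 40 40 40 40 38 38 38 38 38 38 38 38 38 38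 38 38 38 38 38 38 38 38 38 38 38 38 38 38 40 38 38 38 38 40 40 40 38 38 38 38 38 38 38 38 38 38)
def odep_19 : D2 → D3 → Nat := @D2.rec (fun _ => D3 → Nat) (@D3.rec (fun _ => Nat) 38 38 38 38 38 38 38 38 38 38 38 38 38 38 38 38 40 40 40 38 38 38 38 38 40 40 40 40 40 38 38 38 38 38 38 38 38 38 38 40 38 38 38 38 38 38 38 38 38 38 40) (@D3.rec (fun _ => Nat) 38 38 38 38 38 38 40 40 38 40 40 40 38 38 40 40 42 40 42 38 38 38 40 38 38 40 40 38 40 38 40 40 40 40 40 40 40 38 40 40 40 40 40 38 38 38 38 38 38 38 38) (@D3.rec (fun _ => Nat) 38 38 38 40 38 38 38 38 38 38 38 38 38 38 38 38 38 38 40 40 38 38 38 38 38 38 38 38 38 40 38 38 38 38 38 38 38 38 38 38 38 38 38 38 38 38 38 38 38 38 38)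 (@D3.rec (fun _ => Nat) 38 38 38 38 38 38 38 38 38 38 38 38 38 38 38 38 38 38 38 38 38 38 38 38 38 38 38 38 38 38 38 38 38 38 38 38 38 38 38 38 38 38 38 38 38 38 38 40 38 38 38) (@D3.rec (fun _ => Nat) 38 38 38 38 38 38 38 38 38 38 38 40 38 38 40 40 40 40 40 38 38 40 38 38 38 40 40 38 38 38 40 38 38 38 38 38 38 38 38 38 38 38 38 38 38 38 38 38 38 38 38) (@D3.rec (fun _ => Nat) 38 38 38 38 38 38 38 38 38 38 38 38 38 38 38 38 38 38 38 38 38 38 38 38 38 38 38 38 38 38 38 38 38 38 38 38 38 40 40 40 38 38 40 40 40 38 38 38 38 38 38) (@D3.rec (fun _ => Nat) 38 40 40 40 40 40 38 38 40 40 40 40 38 38 38 38 38 38 38 38 38 38 38 38 38 38 38 38 38 38 38 38 38 38 38 38 38 38 38 40 40 38 38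 38 38 38 38 40 38 38 40) (@D3.rec (fun _ => Nat) 40 38 38 38 38 38 38 38 38 38 38 38 38 38 40 38 38 38 38 38 38 38 38 38 38 38 38 38 38 38 38 38 38 38 38 38 38 40 40 38 38 38 38 38 38 38 38 38 38 38 38) (@D3.rec (fun _ => Nat) 40 38 40 40 40 40 40 40 40 38 38 38 38 38 38 38 38 38 38 38 38 38 38 38 38 38 38 38 40 40 40 40 38 40 40 38 40 40 40 38 38 40 40 40 40 40 40 40 40 40 40) (@D3.rec (fun _ => Nat) 40 40 38 40 38 38 38 38 38 38 38 38 38 38 38 38 38 38 40 40 40 40 40 40 40 38 38 38 38 38 38 38 38 38 38 38 38 38 38 38 38 38 38 40 40 40 40 40 40 38 40) (@D3.rec (fun _ => Nat) 40 38 38 38 38 38 38 38 38 38 38 38 38 38 38 38 38 38 38 40 38 38 38 38 38 38 40 38 40 40 40 40 40 42 42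 42 38 38 38 38 40 40 38 38 38 38 38 40 40 38 38) (@D3.rec (fun _ => Nat) 38 38 38 38 38 38 38 38 38 38 38 38 38 38 38 38 40 38 38 38 38 38 38 40 38 39 39 39 39 39 39 39 39 39 39 39 39 39 39 39 39 39 39 39 39 39 39 39 39 39 39) (@D3.rec (fun _ => Nat) 39 39 39 39 39 39 39 39 39 39 39 39 39 39 39 39 39 39 39 39 39 39 39 39 41 39 39 39 39 39 39 39 39 39 39 39 39 39 39 39 39 39 39 39 39 39 39 39 39 39 41) (@D3.rec (fun _ => Nat) 39 39 39 39 39 39 39 39 39 39 39 39 39 39 39 39 39 39 39 39 39 39 39 39 39 39 39 39 39 39 39 39 39 39 39 39 39 39 39 39 39 39 39 39 39 39 39 39 39 39 39) (@D3.rec (fun _ => Nat) 39 39 39 39 39 39 39 39 39 39 39 39 39 39 39 39 39 39 39 39 39 39 39 39 39 39 41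 39 39 39 39 39 41 39 39 39 39 39 39 39 39 39 39 39 39 39 39 39 39 39 39) (@D3.rec (fun _ => Nat) 41 39 41 39 39 39 39 39 39 39 39 39 39 39 41 39 39 39 39 39 39 39 39 39 39 39 39 39 39 39 39 39 39 39 39 39 39 39 39 39 39 39 41 39 41 39 39 39 39 39 39) (@D3.rec (fun _ => Nat) 39 39 39 39 39 39 39 39 39 39 39 39 39 39 39 39 39 39 39 39 39 39 39 39 39 39 39 39 39 39 39 39 39 39 41 39 39 39 39 39 39 39 39 39 39 39 39 39 39 39 39) (@D3.rec (fun _ => Nat) 39 39 39 39 39 39 39 39 39 39 39 39 39 39 39 39 39 39 39 39 39 39 39 39 39 39 39 39 39 39 39 41 39 39 39 39 39 39 39 39 39 39 39 39 39 39 39 39 39 39 39) (@D3.rec (fun _ => Nat) 39 39 39 39 39 39 39 39 39 39 39 39 41 39 39 39 39 39 39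 39 39 39 39 39 39 41 39 39 39 41 39 39 39 39 39 39 39 39 39 39 39 39 39 39 39 39 39 39 39 39 39) (@D3.rec (fun _ => Nat) 41 39 39 39 39 39 39 39 39 39 39 39 39 39 39 39 39 39 39 39 39 39 39 39 39 41 39 39 39 39 39 39 39 39 39 39 39 39 39 39 39 39 39 39 39 39 39 41 39 41 39) (@D3.rec (fun _ => Nat) 39 39 39 39 39 39 39 39 39 39 39 39 39 39 39 39 39 39 39 39 39 39 39 39 39 39 39 39 39 39 39 39 39 39 39 39 39 39 39 39 39 39 39 39 39 39 39 39 39 39 39) (@D3.rec (fun _ => Nat) 39 39 39 39 39 39 39 39 39 39 39 39 41 39 39 39 41 41 39 39 39 39 41 39 39 39 39 39 39 39 39 41 39 39 41 39 39 39 39 39 41 39 39 39 39 39 39 39 39 39 39) (@D3.rec (fun _ => Nat) 39 39 39 39 39 39 41 39 39 41 39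 39 39 39 39 39 39 39 39 39 39 39 39 39 39 39 39 39 39 39 39 39 39 39 39 39 39 39 39 39 39 39 39 39 41 41 41 39 39 39 39) (@D3.rec (fun _ => Nat) 39 39 39 39 41 41 39 41 41 39 39 39 39 39 39 39 39 39 39 39 39 39 39 39 39 39 39 39 39 39 41 39 39 39 39 39 39 41 41 41 39 39 39 39 39 39 39 39 39 39 39) (@D3.rec (fun _ => Nat) 39 39 39 39 39 39 39 39 39 39 39 39 39 39 39 39 39 39 39 39 39 39 39 41 41 41 39 39 39 39 39 39 41 41 41 41 41 39 39 39 39 39 39 39 39 39 39 41 39 39 39) (@D3.rec (fun _ => Nat) 39 39 39 39 39 39 39 39 39 39 39 39 39 39 41 41 39 39 41 41 39 41 39 39 41 41 43 41 41 39 39 39 41 39 39 39 41 41 39 41 39 39 41 41 39 41 41 39 41 41 39) (@D3.rec (fun _ => Nat) 41 41 39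 41 41 39 39 39 39 39 39 39 39 39 39 39 41 41 39 39 39 39 39 39 39 39 39 39 39 39 39 39 39 39 39 39 41 41 39 39 39 39 39 39 39 39 39 41 39 39 39)
def odep_20 : D2 → D3 → Nat := @D2.rec (fun _ => D3 → Nat) (@D3.rec (fun _ => Nat) 39 39 39 39 39 39 39 39 39 39 39 39 39 39 39 39 39 39 39 39 39 39 39 39 39 39 39 39 39 39 39 39 39 39 39 39 39 39 39 39 39 39 39 39 39 39 39 39 39 39 39) (@D3.rec (fun _ => Nat) 39 39 39 39 39 39 39 39 39 39 41 39 39 41 41 41 41 41 39 39 39 41 39 39 39 39 41 41 39 39 39 39 39 39 39 39 39 39 39 39 39 39 39 39 39 39 39 39 39 39 39) (@D3.rec (fun _ => Nat) 39 39 39 39 39 39 39 39 39 39 39 39 39 39 39 39 39 39 39 39 39 39 39 39 39 39 39 39 39 39 39 39 39 39 41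 41 39 41 39 39 41 41 41 39 39 39 39 39 39 39 39) (@D3.rec (fun _ => Nat) 41 41 41 41 41 41 41 39 39 41 41 41 39 39 39 39 39 39 39 39 39 39 39 39 39 39 39 39 39 39 39 39 39 39 39 39 39 41 41 39 39 39 39 41 41 39 39 39 39 39 39) (@D3.rec (fun _ => Nat) 39 39 39 39 39 39 39 39 39 39 39 39 39 39 39 39 39 39 39 39 39 39 39 39 39 39 39 39 41 39 39 39 39 39 39 39 39 39 39 39 41 39 41 41 41 41 41 39 39 39 39) (@D3.rec (fun _ => Nat) 39 39 39 39 39 39 39 39 39 39 41 41 41 41 41 41 41 39 39 41 41 41 41 41 41 41 41 41 41 41 39 39 39 39 39 39 39 39 39 39 39 39 41 41 41 41 41 39 39 39 39) (@D3.rec (fun _ => Nat) 39 39 39 39 39 39 39 39 39 39 39 41 41 41 41 41 41 39 41 39 39 39 39 39 39 39 39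 39 39 39 39 39 39 39 39 39 39 39 39 41 39 39 39 39 41 41 41 41 41 41 41) (@D3.rec (fun _ => Nat) 43 43 41 39 39 39 41 39 39 39 39 41 39 39 39 39 39 39 39 39 39 39 39 39 39 39 39 41 39 39 40 40 40 40 40 40 40 40 40 40 40 40 40 40 40 40 40 40 40 40 40) (@D3.rec (fun _ => Nat) 40 40 40 40 40 40 40 40 40 40 40 40 40 40 40 40 40 40 40 40 40 40 40 40 40 40 40 40 40 40 40 40 42 40 40 40 40 40 40 40 40 40 40 40 40 40 40 40 40 40 40) (@D3.rec (fun _ => Nat) 40 40 40 40 40 40 40 40 40 40 40 40 40 40 40 40 40 40 40 40 40 40 40 40 40 40 40 40 40 40 40 40 40 40 40 40 40 40 40 40 40 40 40 40 40 40 40 40 40 40 40) (@D3.rec (fun _ => Nat) 40 40 40 40 40 40 40 40 40 40 40 40 40 40 40 40 40 40 40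 40 40 40 40 40 40 40 40 40 40 40 40 40 40 40 40 42 40 40 40 40 40 40 40 42 40 40 40 40 40 40 40) (@D3.rec (fun _ => Nat) 40 40 40 40 40 40 40 40 40 40 40 40 40 40 42 40 42 40 40 40 40 40 40 40 40 40 40 40 40 40 40 40 40 40 40 40 40 40 40 40 40 40 40 40 40 40 40 40 40 40 40) (@D3.rec (fun _ => Nat) 40 40 40 40 40 40 40 42 40 40 40 40 40 40 40 40 40 40 40 40 40 40 40 40 40 40 40 40 40 40 40 40 40 40 40 40 40 40 40 40 40 40 40 40 42 40 40 40 40 40 40) (@D3.rec (fun _ => Nat) 40 40 40 40 40 40 40 40 40 40 40 40 40 40 40 40 40 40 40 40 40 40 40 40 40 40 40 40 40 40 40 40 40 40 40 40 40 40 40 40 40 40 40 40 40 40 40 40 40 40 40) (@D3.rec (fun _ => Nat) 40 40 40 40 40 40 40 40 40 40 40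 40 40 40 40 40 40 40 40 40 42 40 40 40 40 40 40 40 40 40 40 40 40 40 42 40 40 40 40 40 40 40 40 40 40 40 40 40 40 40 40) (@D3.rec (fun _ => Nat) 40 40 40 40 40 40 40 40 42 40 40 40 40 40 40 40 40 40 40 40 40 40 40 40 40 40 40 40 40 40 40 40 40 40 40 40 40 40 40 40 40 40 40 40 40 40 40 40 40 40 40) (@D3.rec (fun _ => Nat) 40 40 40 40 40 40 40 40 40 40 40 42 40 40 40 40 40 40 40 40 40 40 40 40 40 40 40 40 40 40 40 40 40 40 40 40 40 40 40 40 40 40 40 40 40 40 40 40 40 40 40) (@D3.rec (fun _ => Nat) 40 40 40 40 40 40 40 40 40 40 40 40 40 40 40 40 40 40 40 40 40 40 40 40 42 40 40 42 40 40 40 42 40 40 40 40 40 40 40 40 42 40 40 40 40 40 40 40 40 40 40) (@D3.rec (fun _ => Nat) 40 40 40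 40 40 42 40 40 40 40 40 40 40 40 40 40 40 40 40 40 40 40 40 40 40 40 40 40 40 40 40 40 40 40 40 40 40 40 40 40 40 40 42 42 42 40 40 40 40 40 40) (@D3.rec (fun _ => Nat) 40 40 42 42 40 40 42 40 40 40 40 40 40 40 40 40 40 40 40 40 40 40 40 42 40 40 40 40 40 40 42 42 42 40 40 40 40 40 40 40 40 40 40 40 40 40 40 40 40 40 40) (@D3.rec (fun _ => Nat) 40 40 40 40 40 40 40 40 40 40 40 40 40 40 40 40 40 40 40 40 40 40 42 42 42 40 40 40 40 40 42 42 40 42 42 40 40 40 40 40 40 40 40 42 40 40 40 40 40 40 40) (@D3.rec (fun _ => Nat) 40 40 40 40 40 40 40 40 40 40 40 42 42 40 40 42 42 42 40 40 40 42 42 42 42 42 42 40 40 40 40 40 40 42 42 42 40 40 40 40 42 42 40 40 42 40 40 42 40 40 42) (@D3.rec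 (fun _ => Nat) 40 42 40 40 40 40 40 40 40 40 40 40 40 42 42 40 40 40 40 40 40 40 40 40 40 40 40 40 40 40 40 40 40 40 40 40 40 42 42 40 40 40 40 40 40 40 40 40 40 40 40) (@D3.rec (fun _ => Nat) 40 40 40 40 40 40 40 40 40 40 40 40 40 40 40 40 40 40 40 40 40 40 40 40 40 40 40 40 40 40 40 40 40 40 40 40 42 40 40 42 42 42 42 42 40 40 40 42 40 40 40) (@D3.rec (fun _ => Nat) 40 40 42 40 40 40 40 40 40 40 40 40 40 40 40 40 40 40 40 40 40 40 40 40 40 40 40 40 40 40 40 40 40 40 40 40 40 40 40 40 40 40 40 40 40 40 40 40 40 40 40) (@D3.rec (fun _ => Nat) 40 42 42 42 40 40 40 42 42 42 40 40 40 40 40 40 40 40 42 42 42 42 42 42 42 40 42 42 40 40 40 40 40 40 40 40 40 40 40 40 40 40 40 40 40 40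 40 40 40 42 42) (@D3.rec (fun _ => Nat) 40 40 40 40 40 40 40 40 40 40 40 40 40 40 40 40 40 40 40 40 40 40 40 40 40 40 40 40 40 40 40 40 40 40 40 40 40 40 40 40 40 42 42 40 40 40 40 40 42 42 42)
def odep_21 : D2 → D3 → Nat := @D2.rec (fun _ => D3 → Nat) (@D3.rec (fun _ => Nat) 42 42 40 40 40 42 42 42 42 42 42 42 42 40 40 40 40 40 40 40 42 42 40 40 40 40 40 40 40 40 40 42 42 42 42 42 40 40 40 40 40 40 40 40 40 40 40 40 40 40 40) (@D3.rec (fun _ => Nat) 40 40 40 40 42 40 40 42 42 42 42 44 44 42 40 40 40 40 40 40 40 40 40 40 40 40 40 40 41 41 41 41 41 41 41 41 41 41 41 41 41 41 41 41 41 41 41 41 41 41 41) (@D3.rec (fun _ => Nat) 41 41 41 41 41 41 41 41 41 41 41 41 41 41 41 41 41 41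 41 41 41 41 41 41 41 41 41 41 41 41 41 41 41 41 41 41 41 41 41 41 41 41 41 41 41 41 41 41 41 41 41) (@D3.rec (fun _ => Nat) 41 41 41 41 41 41 41 41 41 41 41 41 41 41 41 41 41 41 41 41 41 41 41 41 41 41 41 41 41 41 41 41 41 41 41 41 41 41 41 41 41 41 41 41 41 41 41 41 41 41 41) (@D3.rec (fun _ => Nat) 41 41 41 41 41 41 41 41 41 41 41 41 41 41 41 41 41 41 41 43 41 41 41 41 41 41 41 41 41 41 41 41 41 41 41 41 41 41 41 41 41 41 41 41 41 41 41 41 41 41 41) (@D3.rec (fun _ => Nat) 41 41 43 41 41 41 41 41 41 41 41 41 41 41 41 41 41 41 41 41 41 41 41 41 41 41 41 41 41 41 41 41 41 41 41 41 41 41 41 41 41 41 41 41 41 41 41 41 41 41 41) (@D3.rec (fun _ => Nat) 41 41 41 41 41 41 41 41 41 41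 41 41 41 41 41 41 41 41 41 41 41 41 41 41 41 41 41 41 41 41 41 41 41 41 41 41 41 41 41 41 41 41 41 41 41 41 41 41 41 41 41) (@D3.rec (fun _ => Nat) 41 41 41 41 41 41 41 41 41 41 41 41 41 41 41 41 41 41 41 41 41 41 41 41 41 41 41 41 41 41 41 41 41 41 41 41 41 41 41 41 41 41 41 41 41 41 41 41 41 41 41) (@D3.rec (fun _ => Nat) 41 41 41 41 41 41 41 41 41 41 41 41 41 41 41 41 41 41 41 41 41 41 41 41 41 41 41 41 41 41 41 41 41 41 41 41 41 41 41 41 41 41 41 41 41 41 41 41 41 41 41) (@D3.rec (fun _ => Nat) 41 41 41 41 41 41 41 41 41 41 41 41 41 41 41 41 41 41 41 41 41 41 41 41 41 41 41 41 41 41 41 41 41 41 41 41 41 41 41 41 41 41 41 41 41 41 41 41 41 41 41) (@D3.rec (fun _ => Nat) 41 41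 41 41 41 41 41 41 41 41 41 41 41 41 41 41 41 41 41 41 41 41 41 41 41 41 41 41 41 41 41 41 41 41 41 41 41 41 41 41 41 41 41 41 41 41 41 41 41 41 41) (@D3.rec (fun _ => Nat) 41 41 41 41 41 41 41 41 41 41 41 41 43 43 41 41 41 41 41 41 41 41 43 41 41 41 41 41 41 41 41 41 41 41 41 41 41 41 41 41 41 41 41 41 43 43 41 41 41 41 41) (@D3.rec (fun _ => Nat) 41 41 41 41 41 41 41 41 41 41 41 41 41 41 41 41 41 41 41 41 41 41 41 41 41 41 41 41 41 41 41 41 41 41 41 41 41 41 41 43 43 41 41 41 41 41 43 41 43 41 41) (@D3.rec (fun _ => Nat) 41 41 41 41 41 41 41 41 41 41 41 41 41 41 41 41 41 41 41 41 41 43 43 41 41 43 43 43 43 43 41 41 41 41 41 43 43 41 41 41 41 43 41 41 41 41 41 41 41 41 41) (@D3.rec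 (fun _ => Nat) 41 43 41 41 41 41 41 41 41 41 41 41 43 43 43 41 41 41 41 41 41 41 41 41 41 41 41 41 41 41 41 41 41 41 41 41 41 43 41 41 41 41 41 41 41 41 41 41 41 41 41) (@D3.rec (fun _ => Nat) 41 41 41 41 41 41 41 41 41 41 41 41 41 41 41 41 41 43 43 41 43 41 41 41 41 41 41 41 41 41 41 41 41 41 41 41 41 41 41 41 41 41 41 41 41 41 41 41 41 41 41) (@D3.rec (fun _ => Nat) 41 41 41 41 41 41 41 41 41 41 41 41 43 43 41 41 43 43 43 43 41 41 41 41 41 41 43 43 43 43 43 43 41 41 41 41 41 41 41 41 41 41 41 43 41 41 41 41 41 41 41) (@D3.rec (fun _ => Nat) 41 41 41 41 41 41 41 41 41 41 41 41 41 41 41 41 41 41 41 41 43 43 43 41 41 43 43 43 43 43 41 41 41 41 43 43 41 41 41 41 43 43 43 43 41 41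 41 41 41 41 41) (@D3.rec (fun _ => Nat) 41 41 41 41 41 41 41 41 41 41 43 43 43 43 45 43 43 41 41 41 41 41 42 42 42 42 42 42 42 42 42 42 42 42 42 42 42 42 42 42 42 42 42 42 42 42 42 42 42 42 42) (@D3.rec (fun _ => Nat) 42 42 42 42 42 42 42 42 42 42 42 42 42 42 42 42 42 42 42 42 42 42 42 42 42 42 42 42 42 42 42 42 42 42 42 42 42 42 42 42 42 42 42 42 42 42 42 42 42 42 42) (@D3.rec (fun _ => Nat) 42 42 42 42 42 42 42 42 42 42 42 42 42 42 42 42 42 42 42 42 42 42 42 42 42 42 42 42 42 42 42 42 42 42 42 42 42 42 42 42 42 42 42 42 42 42 42 42 42 42 42) (@D3.rec (fun _ => Nat) 42 42 42 42 42 42 42 42 42 42 42 42 42 42 42 42 42 42 42 42 42 42 42 42 42 42 42 42 42 42 42 42 42 42 42 42 42 42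 42 42 42 42 42 42 42 42 42 42 42 42 42) (@D3.rec (fun _ => Nat) 42 42 42 42 42 42 42 42 42 42 42 42 42 42 42 42 42 42 42 42 42 42 42 42 42 42 42 42 42 42 42 42 42 42 42 42 42 42 42 42 42 42 42 42 42 42 42 42 42 42 42) (@D3.rec (fun _ => Nat) 42 42 42 42 42 42 42 42 42 42 42 42 42 42 42 42 42 42 42 42 42 42 42 42 42 42 42 42 42 42 42 42 42 42 42 42 42 42 42 42 42 42 42 42 42 42 42 42 42 42 42) (@D3.rec (fun _ => Nat) 42 42 42 42 42 42 42 42 42 42 42 42 42 42 42 42 42 42 42 42 42 42 42 42 42 42 42 42 42 42 42 42 42 42 42 42 42 42 42 42 42 42 42 42 42 42 42 42 42 42 42) (@D3.rec (fun _ => Nat) 42 42 42 42 42 42 42 42 42 42 42 42 42 42 42 42 42 42 42 42 42 42 42 42 42 42 42 42 42 42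 42 42 42 42 42 42 42 42 42 42 42 42 42 42 42 42 44 44 42 42 42) (@D3.rec (fun _ => Nat) 42 42 42 42 42 42 42 42 42 42 42 42 42 42 42 42 42 44 44 42 42 42 42 42 42 42 42 42 42 42 42 42 42 42 42 42 42 42 42 42 42 42 42 42 42 42 42 42 42 42 42)
def odep_22 : D2 → D3 → Nat := @D2.rec (fun _ => D3 → Nat) (@D3.rec (fun _ => Nat) 42 42 42 42 42 42 42 44 44 42 42 42 42 44 42 42 42 42 42 42 42 42 42 42 42 42 42 42 42 42 42 44 42 44 44 44 44 44 44 42 42 44 44 42 42 42 42 42 42 42 42) (@D3.rec (fun _ => Nat) 42 42 42 42 42 42 42 42 42 42 42 42 42 44 44 42 42 42 42 42 42 42 42 42 42 42 42 42 42 42 42 42 42 42 42 42 42 42 42 42 42 42 42 42 42 42 42 42 42 42 42) (@D3.rec (fun _ => Nat) 42 44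 44 42 42 42 42 42 42 42 42 42 42 42 42 42 42 42 42 42 42 42 42 42 42 42 42 42 42 42 42 42 42 44 42 44 44 44 44 44 42 42 42 42 44 44 44 42 42 42 42) (@D3.rec (fun _ => Nat) 42 42 42 42 42 42 42 42 42 42 42 42 42 42 42 42 42 42 42 42 42 44 44 42 42 44 44 44 42 42 42 44 44 44 44 42 42 42 42 42 42 42 42 42 42 42 42 42 44 44 46) (@D3.rec (fun _ => Nat) 44 44 42 43 43 43 43 43 43 43 43 43 43 43 43 43 43 43 43 43 43 43 43 43 43 43 43 43 43 43 43 43 43 43 43 43 43 43 43 43 43 43 43 43 43 43 43 43 43 43 43) (@D3.rec (fun _ => Nat) 43 43 43 43 43 43 43 43 43 43 43 43 43 43 43 43 43 43 43 43 43 43 43 43 43 43 43 43 43 43 43 43 43 43 43 43 43 43 43 43 43 43 43 43 43 43 43 43 43 43 43) (@D3.rec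 (fun _ => Nat) 43 43 43 43 43 43 43 43 43 43 43 43 43 43 43 43 43 43 43 43 43 43 43 43 43 43 43 43 43 43 43 43 43 43 43 43 43 43 43 43 43 43 43 43 43 43 43 43 43 43 43) (@D3.rec (fun _ => Nat) 43 43 43 43 43 43 43 43 43 43 43 43 43 43 43 43 43 43 43 43 43 43 43 43 43 43 43 43 43 43 43 43 43 43 43 43 43 43 43 43 43 43 43 43 43 43 43 43 43 43 43) (@D3.rec (fun _ => Nat) 43 43 43 43 43 43 43 43 43 43 43 43 43 43 43 43 43 43 43 43 43 43 43 43 43 43 43 43 43 43 43 43 43 43 43 43 43 43 43 43 43 43 43 43 43 43 43 43 43 43 43) (@D3.rec (fun _ => Nat) 43 43 43 43 43 43 43 43 43 43 43 43 43 43 43 43 43 43 43 43 43 43 43 43 43 43 43 43 43 43 43 43 43 43 43 43 43 43 43 43 43 43 43 43 43 43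 43 45 43 43 43) (@D3.rec (fun _ => Nat) 43 43 43 43 43 43 43 43 43 43 43 45 43 43 43 43 43 43 43 43 43 43 43 43 43 43 43 43 43 43 43 43 43 43 43 43 43 43 43 43 43 43 43 43 43 43 43 43 45 43 43) (@D3.rec (fun _ => Nat) 43 43 43 43 43 43 43 43 43 43 43 43 45 45 45 45 43 43 45 43 43 43 43 43 43 43 43 43 43 43 43 43 45 43 45 43 43 43 43 43 43 43 43 43 43 43 43 43 43 43 43) (@D3.rec (fun _ => Nat) 43 43 43 43 43 43 43 45 43 43 43 43 43 43 43 43 43 43 43 43 43 43 43 43 43 43 43 45 45 45 45 45 43 43 43 45 43 43 43 43 43 43 43 43 43 43 43 43 43 43 43) (@D3.rec (fun _ => Nat) 45 43 45 45 43 43 45 45 45 43 43 43 43 43 43 43 43 43 43 45 45 45 45 44 44 44 44 44 44 44 44 44 44 44 44 44 44 44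 44 44 44 44 44 44 44 44 44 44 44 44 44) (@D3.rec (fun _ => Nat) 44 44 44 44 44 44 44 44 44 44 44 44 44 44 44 44 44 44 44 44 44 44 44 44 44 44 44 44 44 44 44 44 44 44 44 44 44 44 44 44 44 44 44 44 44 44 44 44 44 44 44) (@D3.rec (fun _ => Nat) 44 44 44 44 44 44 44 44 44 44 44 44 44 44 44 44 44 44 44 44 44 44 44 44 44 44 44 44 44 44 44 44 44 44 44 44 44 44 44 44 44 44 44 44 44 44 44 44 44 44 44) (@D3.rec (fun _ => Nat) 44 44 44 44 44 44 44 44 44 44 44 44 44 44 44 44 44 44 44 44 44 44 44 44 44 44 44 44 44 44 44 44 44 44 44 44 44 44 44 44 44 44 44 44 44 44 44 44 44 44 44) (@D3.rec (fun _ => Nat) 44 44 44 44 44 44 44 44 44 44 44 44 44 44 44 44 44 44 44 44 44 44 44 44 44 44 44 44 44 44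 44 44 44 44 44 44 44 44 44 44 44 44 44 44 44 44 44 44 44 44 46) (@D3.rec (fun _ => Nat) 44 44 44 44 44 44 44 44 44 44 46 44 44 44 44 44 44 44 44 44 44 44 44 44 44 44 44 44 44 44 44 44 44 44 44 44 46 44 44 44 44 46 46 46 44 46 44 44 44 44 44) (@D3.rec (fun _ => Nat) 44 46 44 44 44 44 44 44 44 44 44 44 44 44 44 44 44 44 44 46 44 44 44 44 44 44 44 44 44 44 44 44 46 46 46 44 44 44 44 44 44 44 44 44 44 44 46 44 46 44 46) (@D3.rec (fun _ => Nat) 44 44 44 44 44 44 44 46 45 45 45 45 45 45 45 45 45 45 45 45 45 45 45 45 45 45 45 45 45 45 45 45 45 45 45 45 45 45 45 45 45 45 45 45 45 45 45 45 45 45 45) (@D3.rec (fun _ => Nat) 45 45 45 45 45 45 45 45 45 45 45 45 45 45 45 45 45 45 45 45 45 45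 45 45 45 45 45 45 45 45 45 45 45 45 45 45 45 45 45 45 45 45 45 45 45 45 45 45 45 45 45) (@D3.rec (fun _ => Nat) 45 45 45 45 45 45 45 45 45 45 45 45 45 45 45 45 45 45 45 45 45 45 45 45 45 45 45 45 45 45 45 45 45 45 45 45 45 45 45 45 45 45 45 45 45 45 45 45 45 45 45) (@D3.rec (fun _ => Nat) 45 45 45 45 45 45 45 45 45 45 45 45 45 45 45 45 45 45 45 45 45 45 45 45 45 45 45 45 45 45 45 45 45 45 45 45 45 45 45 45 45 45 47 45 45 45 45 45 45 45 45) (@D3.rec (fun _ => Nat) 45 45 45 45 45 45 47 45 45 45 45 45 45 46 46 46 46 46 46 46 46 46 46 46 46 46 46 46 46 46 46 46 46 46 46 46 46 46 46 46 46 46 46 46 46 46 46 46 46 46 46) (@D3.rec (fun _ => Nat) 46 46 46 46 46 46 46 46 46 46 46 46 46 46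 46 46 46 46 46 46 46 46 46 46 46 46 46 46 46 46 46 46 46 46 46 46 46 46 46 46 46 46 46 46 46 46 46 46 46 46 46) (@D3.rec (fun _ => Nat) 46 46 46 46 46 46 46 46 46 46 46 47 47 47 47 47 47 47 47 47 47 47 47 47 47 47 47 47 47 47 47 47 47 47 47 47 47 47 47 47 47 47 47 47 47 48 48 48 48 48 48)
def odep : Pt → Nat := @Pt.rec (fun _ => Nat) (@D1.rec (fun _ => D2 → D3 → Nat) odep_0 odep_1 odep_2 odep_3 odep_4 odep_5 odep_6 odep_7 odep_8 odep_9 odep_10 odep_11 odep_12 odep_13 odep_14 odep_15 odep_16 odep_17 odep_18 odep_19 odep_20 odep_21 odep_22)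
def ow_0 : D2 → D3 → (HWord rels S) := @D2.rec (fun _ => D3 → (HWord rels S)) (@D3.rec (fun _ => (HWord rels S)) hw_0 hw_0 hwi_6 hwi_5 hwi_4 hwi_3 hwi_2 hwi_7 hwi_1 hwi_7 hwi_8 hwi_0 hwi_7 hwi_3 hwi_8 hwi_7 hwi_3 hwi_8 hwi_4 hwi_8 hwi_3 hwi_8 hwi_2 hwi_4 hwi_8 hwi_5 hwi_8 hwi_7 hwi_2 hwi_4 hwi_8 hwi_4 hwi_8 hwi_5 hwi_8 hwi_7 hwi_6 hwi_8 hwi_7 hwi_1 hwi_4 hwi_8 hwi_5 hwi_8 hwi_7 hwi_3 hwi_5 hwi_8 hwi_7 hwi_6 hwi_8) (@D3.rec (fun _ => (HWord rels S)) hwi_7 hw_0 hwi_8 hwi_7 hwi_3 hwi_4 hwi_8 hwi_3 hwi_5 hwi_8 hwi_7 hwi_6 hwi_8 hwi_7 hwi_5 hwi_7 hwi_8 hwi_6 hwi_8 hwi_7 hwi_3 hwi_1 hwi_8 hwi_7 hwi_3 hwi_8 hwi_7 hwi_3 hwi_2 hwi_3 hwi_5 hwi_8 hwi_7 hwi_5 hwi_7 hwi_8 hwi_6 hwi_8 hwi_7 hwi_3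 hwi_0 hwi_8 hwi_7 hwi_3 hwi_4 hwi_6 hwi_7 hwi_8 hwi_8 hwi_7 hwi_2) (@D3.rec (fun _ => (HWord rels S)) hwi_8 hwi_7 hwi_3 hwi_4 hwi_8 hwi_7 hwi_3 hwi_2 hwi_7 hwi_3 hwi_2 hwi_4 hwi_1 hwi_2 hwi_5 hwi_7 hwi_8 hwi_6 hwi_8 hwi_7 hwi_3 hwi_4 hwi_6 hwi_7 hwi_8 hwi_8 hwi_7 hwi_2 hwi_8 hwi_7 hwi_3 hwi_4 hwi_8 hwi_7 hwi_3 hwi_2 hwi_6 hwi_7 hwi_8 hwi_3 hwi_7 hwi_8 hwi_8 hwi_7 hwi_7 hwi_3 hwi_8 hwi_7 hwi_3 hwi_2 hwi_4) (@D3.rec (fun _ => (HWord rels S)) hwi_5 hwi_7 hwi_3 hwi_2 hwi_4 hwi_1 hwi_3 hwi_2 hwi_4 hwi_1 hwi_4 hwi_0 hwi_5 hwi_7 hwi_8 hwi_4 hwi_6 hwi_7 hwi_8 hwi_8 hwi_7 hwi_1 hwi_8 hwi_7 hwi_3 hwi_2 hwi_4 hwi_6 hwi_7 hwi_8 hwi_3 hwi_7 hwi_8 hwi_8 hwi_7 hwi_7 hwi_3 hwi_8 hwi_7 hwi_3 hwi_2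 hwi_4 hwi_5 hwi_7 hwi_3 hwi_2 hwi_4 hwi_1 hwi_5 hwi_4 hwi_7) (@D3.rec (fun _ => (HWord rels S)) hwi_8 hwi_3 hwi_8 hwi_7 hwi_7 hwi_8 hwi_8 hwi_7 hwi_7 hwi_3 hwi_3 hwi_2 hwi_4 hwi_7 hwi_3 hwi_2 hwi_4 hwi_1 hwi_4 hwi_5 hwi_6 hwi_3 hwi_2 hwi_4 hwi_1 hwi_4 hwi_0 hwi_2 hwi_4 hwi_1 hwi_4 hwi_5 hwi_0 hwi_4 hwi_3 hwi_4 hwi_6 hwi_7 hwi_8 hwi_3 hwi_8 hwi_7 hwi_6 hwi_7 hwi_8 hwi_3 hwi_7 hwi_8 hwi_8 hwi_7 hwi_7) (@D3.rec (fun _ => (HWord rels S)) hwi_3 hwi_8 hwi_7 hwi_3 hwi_2 hwi_4 hwi_4 hwi_5 hwi_5 hwi_4 hwi_7 hwi_8 hwi_3 hwi_8 hwi_7 hwi_7 hwi_8 hwi_8 hwi_7 hwi_7 hwi_3 hwi_3 hwi_2 hwi_4 hwi_7 hwi_3 hwi_2 hwi_4 hwi_1 hwi_4 hwi_5 hwi_6 hwi_3 hwi_2 hwi_4 hwi_1 hwi_4 hwi_0 hwi_5 hwi_7 hwi_8 hwi_7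 hwi_8 hwi_3 hwi_8 hwi_7 hwi_2 hwi_8 hwi_7 hwi_3 hwi_8) (@D3.rec (fun _ => (HWord rels S)) hwi_7 hwi_7 hwi_3 hwi_3 hwi_2 hwi_4 hwi_2 hwi_4 hwi_1 hwi_4 hwi_5 hwi_3 hwi_2 hwi_4 hwi_1 hwi_4 hwi_5 hwi_0 hwi_4 hwi_5 hwi_6 hwi_0 hwi_2 hwi_4 hwi_1 hwi_4 hwi_5 hwi_0 hwi_4 hwi_3 hwi_1 hwi_4 hwi_5 hwi_0 hwi_4 hwi_3 hwi_5 hwi_4 hwi_3 hwi_7 hwi_3 hwi_6 hwi_7 hwi_8 hwi_2 hwi_7 hwi_8 hwi_3 hwi_8 hwi_7 hwi_4) (@D3.rec (fun _ => (HWord rels S)) hwi_8 hwi_7 hwi_3 hwi_5 hwi_4 hwi_7 hwi_8 hwi_3 hwi_8 hwi_7 hwi_7 hwi_8 hwi_8 hwi_7 hwi_7 hwi_3 hwi_3 hwi_2 hwi_4 hwi_7 hwi_3 hwi_2 hwi_4 hwi_1 hwi_4 hwi_5 hwi_3 hwi_5 hwi_6 hwi_5 hwi_7 hwi_8 hwi_7 hwi_8 hwi_3 hwi_8 hwi_7 hwi_2 hwi_8 hwi_7 hwi_3 hwi_8 hwi_7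 hwi_7 hwi_3 hwi_3 hwi_2 hwi_4 hwi_2 hwi_4 hwi_1) (@D3.rec (fun _ => (HWord rels S)) hwi_4 hwi_5 hwi_3 hwi_2 hwi_4 hwi_1 hwi_4 hwi_5 hwi_0 hwi_4 hwi_5 hwi_6 hwi_1 hwi_2 hwi_4 hwi_1 hwi_4 hwi_5 hwi_0 hwi_4 hwi_3 hwi_6 hwi_7 hwi_8 hwi_3 hwi_8 hwi_7 hwi_3 hwi_8 hwi_7 hwi_2 hwi_8 hwi_7 hwi_3 hwi_1 hwi_8 hwi_7 hwi_3 hwi_2 hwi_4 hwi_7 hwi_3 hwi_3 hwi_2 hwi_4 hwi_2 hwi_4 hwi_1 hwi_4 hwi_5 hwi_1) (@D3.rec (fun _ => (HWord rels S)) hwi_4 hwi_5 hwi_0 hwi_4 hwi_3 hwi_5 hwi_6 hwi_2 hwi_4 hwi_1 hwi_4 hwi_5 hwi_0 hwi_4 hwi_3 hwi_5 hwi_6 hwi_4 hwi_5 hwi_6 hwi_4 hwi_1 hwi_4 hwi_5 hwi_0 hwi_4 hwi_3 hwi_5 hwi_4 hwi_3 hwi_7 hwi_0 hwi_4 hwi_3 hwi_5 hwi_6 hwi_4 hwi_3 hwi_5 hwi_5 hwi_7 hwi_3 hwi_6 hwi_8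 hwi_5 hwi_4 hwi_7 hwi_8 hwi_8 hwi_7 hwi_7) (@D3.rec (fun _ => (HWord rels S)) hwi_8 hwi_3 hwi_8 hwi_7 hwi_8 hwi_7 hwi_3 hwi_8 hwi_7 hwi_3 hwi_2 hwi_4 hwi_5 hwi_7 hwi_8 hwi_7 hwi_8 hwi_3 hwi_8 hwi_7 hwi_8 hwi_7 hwi_3 hwi_8 hwi_7 hwi_7 hwi_3 hwi_3 hwi_2 hwi_4 hwi_2 hwi_4 hwi_1 hwi_4 hwi_5 hwi_3 hwi_2 hwi_4 hwi_1 hwi_4 hwi_5 hwi_0 hwi_4 hwi_3 hwi_5 hwi_6 hwi_5 hwi_7 hwi_6 hwi_2 hwi_6) (@D3.rec (fun _ => (HWord rels S)) hwi_7 hwi_8 hwi_3 hwi_8 hwi_7 hwi_3 hwi_8 hwi_7 hwi_2 hwi_8 hwi_7 hwi_3 hwi_8 hwi_7 hwi_3 hwi_2 hwi_4 hwi_7 hwi_3 hwi_3 hwi_2 hwi_4 hwi_2 hwi_4 hwi_1 hwi_4 hwi_5 hwi_1 hwi_4 hwi_5 hwi_0 hwi_4 hwi_3 hwi_5 hwi_6 hwi_2 hwi_4 hwi_1 hwi_4 hwi_5 hwi_0 hwi_4 hwi_3 hwi_5 hwi_6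 hwi_4 hwi_5 hwi_6 hwi_1 hwi_1 hwi_4) (@D3.rec (fun _ => (HWord rels S)) hwi_5 hwi_0 hwi_4 hwi_3 hwi_5 hwi_4 hwi_3 hwi_7 hwi_7 hwi_8 hwi_3 hwi_8 hwi_7 hwi_2 hwi_4 hwi_8 hwi_7 hwi_3 hwi_2 hwi_8 hwi_7 hwi_3 hwi_1 hwi_8 hwi_7 hwi_3 hwi_2 hwi_4 hwi_3 hwi_2 hwi_4 hwi_1 hwi_4 hwi_5 hwi_3 hwi_2 hwi_4 hwi_2 hwi_4 hwi_1 hwi_4 hwi_5 hwi_1 hwi_4 hwi_5 hwi_0 hwi_4 hwi_3 hwi_5 hwi_6 hwi_0) (@D3.rec (fun _ => (HWord rels S)) hwi_4 hwi_3 hwi_5 hwi_6 hwi_4 hwi_3 hwi_5 hwi_5 hwi_6 hwi_4 hwi_1 hwi_4 hwi_5 hwi_0 hwi_4 hwi_3 hwi_5 hwi_6 hwi_4 hwi_3 hwi_5 hwi_5 hwi_7 hwi_6 hwi_2 hwi_5 hwi_6 hwi_4 hwi_0 hwi_4 hwi_3 hwi_5 hwi_6 hwi_4 hwi_3 hwi_5 hwi_5 hwi_7 hwi_3 hwi_4 hwi_3 hwi_5 hwi_5 hwi_7 hwi_6 hwi_3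 hwi_5 hwi_5 hwi_4 hwi_7 hwi_5) (@D3.rec (fun _ => (HWord rels S)) hwi_3 hwi_8 hwi_7 hwi_5 hwi_7 hwi_8 hwi_7 hwi_8 hwi_8 hwi_7 hwi_7 hwi_3 hwi_3 hwi_8 hwi_7 hwi_8 hwi_7 hwi_3 hwi_7 hwi_3 hwi_2 hwi_4 hwi_7 hwi_3 hwi_2 hwi_4 hwi_1 hwi_4 hwi_5 hwi_6 hwi_7 hwi_8 hwi_3 hwi_8 hwi_7 hwi_3 hwi_8 hwi_7 hwi_8 hwi_7 hwi_3 hwi_7 hwi_3 hwi_2 hwi_4 hwi_7 hwi_3 hwi_3 hwi_2 hwi_4 hwi_2) (@D3.rec (fun _ => (HWord rels S)) hwi_4 hwi_1 hwi_4 hwi_5 hwi_1 hwi_4 hwi_5 hwi_0 hwi_4 hwi_3 hwi_5 hwi_6 hwi_2 hwi_4 hwi_1 hwi_4 hwi_5 hwi_0 hwi_4 hwi_3 hwi_5 hwi_6 hwi_4 hwi_3 hwi_5 hwi_5 hwi_7 hwi_6 hwi_2 hwi_4 hwi_6 hwi_7 hwi_8 hwi_3 hwi_7 hwi_8 hwi_3 hwi_8 hwi_7 hwi_2 hwi_4 hwi_8 hwi_7 hwi_3 hwi_2 hwi_8 hwi_7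 hwi_3 hwi_8 hwi_7 hwi_3) (@D3.rec (fun _ => (HWord rels S)) hwi_2 hwi_4 hwi_3 hwi_2 hwi_4 hwi_1 hwi_4 hwi_5 hwi_3 hwi_2 hwi_4 hwi_2 hwi_4 hwi_1 hwi_4 hwi_5 hwi_1 hwi_4 hwi_5 hwi_0 hwi_4 hwi_3 hwi_5 hwi_6 hwi_0 hwi_4 hwi_3 hwi_5 hwi_6 hwi_4 hwi_3 hwi_5 hwi_5 hwi_6 hwi_4 hwi_1 hwi_4 hwi_5 hwi_0 hwi_4 hwi_3 hwi_5 hwi_6 hwi_4 hwi_3 hwi_5 hwi_5 hwi_7 hwi_6 hwi_2 hwi_5) (@D3.rec (fun _ => (HWord rels S)) hwi_6 hwi_4 hwi_0 hwi_4 hwi_3 hwi_5 hwi_6 hwi_4 hwi_3 hwi_5 hwi_5 hwi_7 hwi_3 hwi_2 hwi_7 hwi_8 hwi_3 hwi_8 hwi_7 hwi_2 hwi_4 hwi_8 hwi_7 hwi_3 hwi_1 hwi_4 hwi_8 hwi_8 hwi_7 hwi_3 hwi_2 hwi_4 hwi_1 hwi_8 hwi_7 hwi_3 hwi_2 hwi_4 hwi_3 hwi_2 hwi_4 hwi_1 hwi_4 hwi_5 hwi_4 hwi_4 hwi_5 hwi_4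 hwi_3 hwi_5 hwi_6) (@D3.rec (fun _ => (HWord rels S)) hwi_2 hwi_4 hwi_1 hwi_4 hwi_5 hwi_1 hwi_4 hwi_5 hwi_0 hwi_4 hwi_3 hwi_5 hwi_6 hwi_0 hwi_4 hwi_3 hwi_5 hwi_6 hwi_4 hwi_3 hwi_5 hwi_5 hwi_7 hwi_6 hwi_2 hwi_4 hwi_3 hwi_5 hwi_5 hwi_7 hwi_6 hwi_4 hwi_3 hwi_5 hwi_2 hwi_5 hwi_6 hwi_4 hwi_6 hwi_4 hwi_0 hwi_4 hwi_3 hwi_5 hwi_6 hwi_4 hwi_3 hwi_5 hwi_5 hwi_7 hwi_6) (@D3.rec (fun _ => (HWord rels S)) hwi_2 hwi_3 hwi_5 hwi_5 hwi_6 hwi_6 hwi_7 hwi_3 hwi_6 hwi_4 hwi_4 hwi_3 hwi_5 hwi_5 hwi_7 hwi_6 hwi_3 hwi_5 hwi_5 hwi_4 hwi_7 hwi_3 hwi_5 hwi_5 hwi_6 hwi_4 hwi_6 hwi_7 hwi_5 hwi_4 hwi_7 hwi_4 hwi_5 hwi_8 hwi_8 hwi_7 hwi_3 hwi_6 hwi_7 hwi_8 hwi_8 hwi_7 hwi_8 hwi_7 hwi_7 hwi_3 hwi_3 hwi_2 hwi_4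 hwi_8 hwi_7) (@D3.rec (fun _ => (HWord rels S)) hwi_3 hwi_7 hwi_3 hwi_2 hwi_4 hwi_3 hwi_2 hwi_4 hwi_1 hwi_4 hwi_5 hwi_3 hwi_2 hwi_4 hwi_1 hwi_4 hwi_5 hwi_0 hwi_4 hwi_3 hwi_5 hwi_6 hwi_7 hwi_8 hwi_3 hwi_8 hwi_7 hwi_4 hwi_8 hwi_7 hwi_3 hwi_8 hwi_7 hwi_3 hwi_7 hwi_3 hwi_2 hwi_4 hwi_3 hwi_2 hwi_4 hwi_1 hwi_4 hwi_5 hwi_3 hwi_2 hwi_4 hwi_2 hwi_4 hwi_1 hwi_4) (@D3.rec (fun _ => (HWord rels S)) hwi_5 hwi_1 hwi_4 hwi_5 hwi_0 hwi_4 hwi_3 hwi_5 hwi_6 hwi_0 hwi_4 hwi_3 hwi_5 hwi_6 hwi_4 hwi_3 hwi_5 hwi_5 hwi_7 hwi_6 hwi_2 hwi_1 hwi_4 hwi_5 hwi_0 hwi_4 hwi_3 hwi_5 hwi_6 hwi_4 hwi_3 hwi_5 hwi_5 hwi_7 hwi_6 hwi_4 hwi_3 hwi_5 hwi_5 hwi_7 hwi_6 hwi_4 hwi_6 hwi_7 hwi_8 hwi_3 hwi_6 hwi_7 hwi_7 hwi_7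 hwi_8) (@D3.rec (fun _ => (HWord rels S)) hwi_3 hwi_8 hwi_7 hwi_2 hwi_4 hwi_8 hwi_7 hwi_3 hwi_4 hwi_8 hwi_8 hwi_7 hwi_3 hwi_2 hwi_4 hwi_8 hwi_7 hwi_3 hwi_2 hwi_4 hwi_3 hwi_2 hwi_4 hwi_1 hwi_4 hwi_5 hwi_4 hwi_1 hwi_4 hwi_5 hwi_0 hwi_4 hwi_3 hwi_5 hwi_6 hwi_2 hwi_4 hwi_1 hwi_4 hwi_5 hwi_1 hwi_4 hwi_5 hwi_0 hwi_4 hwi_3 hwi_5 hwi_6 hwi_0 hwi_4 hwi_3) (@D3.rec (fun _ => (HWord rels S)) hwi_5 hwi_6 hwi_4 hwi_3 hwi_5 hwi_5 hwi_7 hwi_6 hwi_2 hwi_4 hwi_3 hwi_5 hwi_5 hwi_7 hwi_6 hwi_8 hwi_3 hwi_5 hwi_2 hwi_5 hwi_6 hwi_4 hwi_6 hwi_4 hwi_0 hwi_4 hwi_3 hwi_5 hwi_6 hwi_4 hwi_3 hwi_5 hwi_5 hwi_7 hwi_6 hwi_2 hwi_3 hwi_5 hwi_2 hwi_5 hwi_7 hwi_6 hwi_6 hwi_7 hwi_8 hwi_3 hwi_6 hwi_2 hwi_4 hwi_3 hwi_5)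 (@D3.rec (fun _ => (HWord rels S)) hwi_5 hwi_7 hwi_6 hwi_3 hwi_5 hwi_2 hwi_5 hwi_7 hwi_4 hwi_7 hwi_8 hwi_2 hwi_7 hwi_2 hwi_4 hwi_8 hwi_7 hwi_3 hwi_1 hwi_4 hwi_8 hwi_8 hwi_7 hwi_3 hwi_2 hwi_4 hwi_4 hwi_3 hwi_8 hwi_7 hwi_3 hwi_2 hwi_4 hwi_1 hwi_4 hwi_5 hwi_3 hwi_2 hwi_4 hwi_1 hwi_4 hwi_5 hwi_4 hwi_4 hwi_5 hwi_4 hwi_3 hwi_5 hwi_6 hwi_5 hwi_3) (@D3.rec (fun _ => (HWord rels S)) hwi_5 hwi_6 hwi_3 hwi_5 hwi_5 hwi_7 hwi_6 hwi_2 hwi_1 hwi_4 hwi_5 hwi_0 hwi_4 hwi_3 hwi_5 hwi_6 hwi_0 hwi_4 hwi_3 hwi_5 hwi_6 hwi_4 hwi_3 hwi_5 hwi_5 hwi_7 hwi_6 hwi_2 hwi_4 hwi_3 hwi_5 hwi_5 hwi_7 hwi_6 hwi_5 hwi_3 hwi_5 hwi_5 hwi_6 hwi_4 hwi_6 hwi_7 hwi_3 hwi_3 hwi_5 hwi_2 hwi_5 hwi_7 hwi_6 hwi_4 hwi_6) (@D3.rec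 (fun _ => (HWord rels S)) hwi_7 hwi_4 hwi_2 hwi_5 hwi_6 hwi_5 hwi_4 hwi_6 hwi_4 hwi_6 hwi_4 hwi_4 hwi_3 hwi_5 hwi_5 hwi_7 hwi_6 hwi_2 hwi_3 hwi_5 hwi_5 hwi_6 hwi_4 hwi_6 hwi_7 hwi_3 hwi_5 hwi_6 hwi_6 hwi_3 hwi_7 hwi_7 hwi_7 hwi_3 hwi_5 hwi_5 hwi_6 hwi_4 hwi_6 hwi_7 hwi_5 hwi_4 hwi_7 hwi_5 hwi_6 hwi_4 hwi_6 hwi_6 hwi_7 hwi_7 hwi_4)
def ow_1 : D2 → D3 → (HWord rels S) := @D2.rec (fun _ => D3 → (HWord rels S)) (@D3.rec (fun _ => (HWord rels S)) hwi_3 hwi_4 hwi_8 hwi_6 hwi_8 hwi_7 hwi_7 hwi_3 hwi_2 hwi_4 hwi_7 hwi_8 hwi_8 hwi_7 hwi_7 hwi_3 hwi_7 hwi_3 hwi_3 hwi_2 hwi_4 hwi_2 hwi_4 hwi_1 hwi_4 hwi_5 hwi_7 hwi_3 hwi_2 hwi_4 hwi_3 hwi_2 hwi_4 hwi_1 hwi_4 hwi_5 hwi_2 hwi_4 hwi_1 hwi_4 hwi_5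 hwi_0 hwi_4 hwi_3 hwi_5 hwi_6 hwi_2 hwi_4 hwi_1 hwi_4 hwi_5) (@D3.rec (fun _ => (HWord rels S)) hwi_0 hwi_4 hwi_3 hwi_5 hwi_6 hwi_4 hwi_3 hwi_5 hwi_5 hwi_7 hwi_6 hwi_4 hwi_3 hwi_8 hwi_7 hwi_4 hwi_8 hwi_7 hwi_3 hwi_8 hwi_7 hwi_3 hwi_2 hwi_4 hwi_7 hwi_3 hwi_2 hwi_4 hwi_3 hwi_2 hwi_4 hwi_1 hwi_4 hwi_5 hwi_2 hwi_4 hwi_1 hwi_4 hwi_5 hwi_0 hwi_4 hwi_3 hwi_5 hwi_6 hwi_2 hwi_4 hwi_1 hwi_4 hwi_5 hwi_1 hwi_4) (@D3.rec (fun _ => (HWord rels S)) hwi_5 hwi_0 hwi_4 hwi_3 hwi_5 hwi_6 hwi_0 hwi_4 hwi_3 hwi_5 hwi_6 hwi_4 hwi_3 hwi_5 hwi_5 hwi_7 hwi_6 hwi_1 hwi_4 hwi_3 hwi_5 hwi_5 hwi_7 hwi_6 hwi_2 hwi_3 hwi_5 hwi_2 hwi_5 hwi_7 hwi_6 hwi_4 hwi_6 hwi_7 hwi_8 hwi_3 hwi_0 hwi_4 hwi_3 hwi_5 hwi_6 hwi_4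 hwi_3 hwi_5 hwi_5 hwi_7 hwi_6 hwi_1 hwi_3 hwi_5 hwi_2) (@D3.rec (fun _ => (HWord rels S)) hwi_5 hwi_7 hwi_6 hwi_4 hwi_6 hwi_7 hwi_8 hwi_4 hwi_5 hwi_7 hwi_6 hwi_4 hwi_6 hwi_7 hwi_8 hwi_3 hwi_6 hwi_7 hwi_7 hwi_7 hwi_8 hwi_5 hwi_7 hwi_7 hwi_3 hwi_8 hwi_8 hwi_8 hwi_2 hwi_4 hwi_8 hwi_7 hwi_3 hwi_4 hwi_8 hwi_8 hwi_7 hwi_3 hwi_2 hwi_4 hwi_3 hwi_8 hwi_7 hwi_3 hwi_2 hwi_4 hwi_1 hwi_4 hwi_5 hwi_3 hwi_2) (@D3.rec (fun _ => (HWord rels S)) hwi_4 hwi_1 hwi_4 hwi_5 hwi_4 hwi_1 hwi_4 hwi_5 hwi_0 hwi_4 hwi_3 hwi_5 hwi_6 hwi_5 hwi_4 hwi_3 hwi_5 hwi_6 hwi_4 hwi_3 hwi_5 hwi_5 hwi_7 hwi_6 hwi_2 hwi_1 hwi_4 hwi_5 hwi_0 hwi_4 hwi_3 hwi_5 hwi_6 hwi_0 hwi_4 hwi_3 hwi_5 hwi_6 hwi_4 hwi_3 hwi_5 hwi_5 hwi_7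 hwi_6 hwi_2 hwi_4 hwi_3 hwi_5 hwi_5 hwi_7 hwi_6) (@D3.rec (fun _ => (HWord rels S)) hwi_8 hwi_3 hwi_5 hwi_2 hwi_5 hwi_7 hwi_6 hwi_4 hwi_6 hwi_7 hwi_8 hwi_3 hwi_3 hwi_5 hwi_2 hwi_5 hwi_7 hwi_6 hwi_4 hwi_6 hwi_7 hwi_8 hwi_2 hwi_5 hwi_6 hwi_5 hwi_4 hwi_6 hwi_4 hwi_6 hwi_4 hwi_4 hwi_3 hwi_5 hwi_5 hwi_7 hwi_6 hwi_2 hwi_3 hwi_5 hwi_2 hwi_5 hwi_7 hwi_6 hwi_4 hwi_6 hwi_7 hwi_8 hwi_3 hwi_2 hwi_5) (@D3.rec (fun _ => (HWord rels S)) hwi_6 hwi_5 hwi_7 hwi_6 hwi_7 hwi_3 hwi_7 hwi_7 hwi_8 hwi_2 hwi_3 hwi_5 hwi_2 hwi_5 hwi_7 hwi_6 hwi_4 hwi_6 hwi_7 hwi_8 hwi_2 hwi_5 hwi_5 hwi_7 hwi_4 hwi_7 hwi_7 hwi_8 hwi_3 hwi_1 hwi_4 hwi_8 hwi_5 hwi_8 hwi_7 hwi_3 hwi_2 hwi_4 hwi_4 hwi_3 hwi_8 hwi_7 hwi_3 hwi_2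 hwi_4 hwi_1 hwi_4 hwi_5 hwi_3 hwi_7 hwi_8) (@D3.rec (fun _ => (HWord rels S)) hwi_3 hwi_4 hwi_4 hwi_5 hwi_4 hwi_3 hwi_5 hwi_6 hwi_4 hwi_4 hwi_5 hwi_4 hwi_3 hwi_5 hwi_6 hwi_5 hwi_3 hwi_5 hwi_6 hwi_3 hwi_5 hwi_5 hwi_7 hwi_6 hwi_2 hwi_6 hwi_5 hwi_6 hwi_5 hwi_2 hwi_5 hwi_7 hwi_6 hwi_4 hwi_6 hwi_7 hwi_3 hwi_0 hwi_4 hwi_3 hwi_5 hwi_6 hwi_4 hwi_3 hwi_5 hwi_5 hwi_7 hwi_6 hwi_2 hwi_4 hwi_3) (@D3.rec (fun _ => (HWord rels S)) hwi_5 hwi_5 hwi_7 hwi_6 hwi_6 hwi_3 hwi_5 hwi_5 hwi_6 hwi_4 hwi_6 hwi_7 hwi_3 hwi_3 hwi_5 hwi_5 hwi_6 hwi_4 hwi_6 hwi_7 hwi_5 hwi_5 hwi_6 hwi_4 hwi_6 hwi_3 hwi_6 hwi_7 hwi_7 hwi_7 hwi_2 hwi_5 hwi_7 hwi_6 hwi_5 hwi_7 hwi_4 hwi_6 hwi_7 hwi_4 hwi_6 hwi_7 hwi_4 hwi_7 hwi_1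 hwi_5 hwi_4 hwi_6 hwi_8 hwi_4 hwi_6) (@D3.rec (fun _ => (HWord rels S)) hwi_6 hwi_4 hwi_5 hwi_3 hwi_3 hwi_5 hwi_5 hwi_6 hwi_4 hwi_6 hwi_7 hwi_3 hwi_5 hwi_6 hwi_4 hwi_6 hwi_3 hwi_6 hwi_7 hwi_7 hwi_7 hwi_6 hwi_7 hwi_7 hwi_5 hwi_5 hwi_6 hwi_4 hwi_6 hwi_6 hwi_7 hwi_7 hwi_4 hwi_3 hwi_4 hwi_6 hwi_6 hwi_5 hwi_7 hwi_3 hwi_2 hwi_6 hwi_8 hwi_7 hwi_8 hwi_7 hwi_3 hwi_3 hwi_2 hwi_4 hwi_1) (@D3.rec (fun _ => (HWord rels S)) hwi_4 hwi_5 hwi_8 hwi_7 hwi_7 hwi_3 hwi_3 hwi_2 hwi_4 hwi_3 hwi_2 hwi_4 hwi_2 hwi_4 hwi_1 hwi_4 hwi_5 hwi_1 hwi_4 hwi_5 hwi_0 hwi_4 hwi_3 hwi_5 hwi_6 hwi_3 hwi_2 hwi_4 hwi_1 hwi_4 hwi_5 hwi_2 hwi_4 hwi_1 hwi_4 hwi_5 hwi_0 hwi_4 hwi_3 hwi_5 hwi_6 hwi_1 hwi_4 hwi_5 hwi_0 hwi_4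 hwi_3 hwi_5 hwi_6 hwi_4 hwi_3) (@D3.rec (fun _ => (HWord rels S)) hwi_5 hwi_5 hwi_7 hwi_6 hwi_3 hwi_1 hwi_4 hwi_5 hwi_0 hwi_4 hwi_3 hwi_5 hwi_6 hwi_4 hwi_3 hwi_5 hwi_5 hwi_7 hwi_6 hwi_7 hwi_3 hwi_5 hwi_2 hwi_5 hwi_7 hwi_6 hwi_4 hwi_6 hwi_7 hwi_8 hwi_3 hwi_4 hwi_8 hwi_7 hwi_3 hwi_8 hwi_7 hwi_3 hwi_2 hwi_4 hwi_7 hwi_3 hwi_2 hwi_4 hwi_1 hwi_4 hwi_5 hwi_3 hwi_2 hwi_4 hwi_1) (@D3.rec (fun _ => (HWord rels S)) hwi_4 hwi_5 hwi_2 hwi_4 hwi_1 hwi_4 hwi_5 hwi_0 hwi_4 hwi_3 hwi_5 hwi_6 hwi_4 hwi_5 hwi_4 hwi_3 hwi_5 hwi_6 hwi_4 hwi_3 hwi_5 hwi_5 hwi_7 hwi_6 hwi_1 hwi_1 hwi_4 hwi_5 hwi_0 hwi_4 hwi_3 hwi_5 hwi_6 hwi_0 hwi_4 hwi_3 hwi_5 hwi_6 hwi_4 hwi_3 hwi_5 hwi_5 hwi_7 hwi_6 hwi_1 hwi_4 hwi_3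 hwi_5 hwi_5 hwi_7 hwi_6) (@D3.rec (fun _ => (HWord rels S)) hwi_8 hwi_3 hwi_5 hwi_2 hwi_5 hwi_7 hwi_6 hwi_4 hwi_6 hwi_7 hwi_8 hwi_4 hwi_3 hwi_5 hwi_2 hwi_5 hwi_7 hwi_6 hwi_4 hwi_6 hwi_7 hwi_8 hwi_3 hwi_2 hwi_5 hwi_7 hwi_6 hwi_5 hwi_7 hwi_4 hwi_6 hwi_7 hwi_8 hwi_3 hwi_6 hwi_7 hwi_7 hwi_7 hwi_8 hwi_4 hwi_3 hwi_5 hwi_5 hwi_7 hwi_6 hwi_1 hwi_3 hwi_5 hwi_2 hwi_5 hwi_7) (@D3.rec (fun _ => (HWord rels S)) hwi_6 hwi_4 hwi_6 hwi_7 hwi_8 hwi_5 hwi_2 hwi_5 hwi_7 hwi_6 hwi_5 hwi_7 hwi_4 hwi_6 hwi_7 hwi_8 hwi_4 hwi_6 hwi_7 hwi_4 hwi_7 hwi_8 hwi_4 hwi_6 hwi_7 hwi_8 hwi_3 hwi_6 hwi_7 hwi_7 hwi_7 hwi_8 hwi_5 hwi_7 hwi_7 hwi_3 hwi_8 hwi_8 hwi_8 hwi_7 hwi_7 hwi_8 hwi_3 hwi_8 hwi_2 hwi_8 hwi_4 hwi_4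 hwi_8 hwi_5 hwi_8) (@D3.rec (fun _ => (HWord rels S)) hwi_7 hwi_3 hwi_2 hwi_4 hwi_3 hwi_8 hwi_7 hwi_3 hwi_2 hwi_4 hwi_1 hwi_4 hwi_5 hwi_7 hwi_8 hwi_3 hwi_4 hwi_1 hwi_4 hwi_5 hwi_0 hwi_4 hwi_3 hwi_5 hwi_6 hwi_4 hwi_1 hwi_4 hwi_5 hwi_0 hwi_4 hwi_3 hwi_5 hwi_6 hwi_5 hwi_4 hwi_3 hwi_5 hwi_6 hwi_4 hwi_3 hwi_5 hwi_5 hwi_7 hwi_6 hwi_2 hwi_6 hwi_3 hwi_5 hwi_5 hwi_6) (@D3.rec (fun _ => (HWord rels S)) hwi_8 hwi_3 hwi_5 hwi_2 hwi_5 hwi_7 hwi_6 hwi_4 hwi_6 hwi_7 hwi_8 hwi_3 hwi_0 hwi_4 hwi_3 hwi_5 hwi_6 hwi_4 hwi_3 hwi_5 hwi_5 hwi_7 hwi_6 hwi_2 hwi_4 hwi_3 hwi_5 hwi_5 hwi_7 hwi_6 hwi_8 hwi_3 hwi_5 hwi_2 hwi_5 hwi_7 hwi_6 hwi_4 hwi_6 hwi_7 hwi_8 hwi_3 hwi_3 hwi_5 hwi_2 hwi_5 hwi_7 hwi_6 hwi_4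 hwi_6 hwi_7) (@D3.rec (fun _ => (HWord rels S)) hwi_8 hwi_8 hwi_2 hwi_5 hwi_6 hwi_5 hwi_7 hwi_4 hwi_6 hwi_7 hwi_3 hwi_6 hwi_7 hwi_7 hwi_7 hwi_8 hwi_2 hwi_5 hwi_7 hwi_6 hwi_5 hwi_7 hwi_4 hwi_6 hwi_7 hwi_8 hwi_6 hwi_7 hwi_8 hwi_7 hwi_1 hwi_5 hwi_4 hwi_6 hwi_4 hwi_4 hwi_6 hwi_6 hwi_4 hwi_5 hwi_3 hwi_3 hwi_5 hwi_2 hwi_5 hwi_7 hwi_6 hwi_4 hwi_6 hwi_7 hwi_8) (@D3.rec (fun _ => (HWord rels S)) hwi_3 hwi_2 hwi_5 hwi_6 hwi_5 hwi_7 hwi_4 hwi_6 hwi_7 hwi_3 hwi_6 hwi_7 hwi_7 hwi_7 hwi_8 hwi_5 hwi_6 hwi_3 hwi_6 hwi_7 hwi_3 hwi_7 hwi_7 hwi_5 hwi_8 hwi_2 hwi_5 hwi_6 hwi_5 hwi_7 hwi_4 hwi_6 hwi_7 hwi_6 hwi_7 hwi_7 hwi_8 hwi_5 hwi_4 hwi_4 hwi_7 hwi_3 hwi_7 hwi_3 hwi_8 hwi_4 hwi_4 hwi_3 hwi_5 hwi_8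 hwi_8) (@D3.rec (fun _ => (HWord rels S)) hwi_7 hwi_3 hwi_2 hwi_4 hwi_1 hwi_4 hwi_5 hwi_3 hwi_7 hwi_8 hwi_3 hwi_4 hwi_4 hwi_5 hwi_4 hwi_3 hwi_5 hwi_6 hwi_2 hwi_7 hwi_4 hwi_5 hwi_3 hwi_5 hwi_6 hwi_3 hwi_5 hwi_5 hwi_7 hwi_6 hwi_2 hwi_5 hwi_3 hwi_5 hwi_6 hwi_3 hwi_5 hwi_5 hwi_7 hwi_6 hwi_2 hwi_6 hwi_5 hwi_6 hwi_6 hwi_2 hwi_5 hwi_7 hwi_6 hwi_4 hwi_6) (@D3.rec (fun _ => (HWord rels S)) hwi_7 hwi_3 hwi_7 hwi_4 hwi_6 hwi_5 hwi_5 hwi_4 hwi_6 hwi_7 hwi_5 hwi_6 hwi_7 hwi_7 hwi_7 hwi_4 hwi_3 hwi_5 hwi_5 hwi_7 hwi_6 hwi_3 hwi_3 hwi_5 hwi_5 hwi_6 hwi_4 hwi_6 hwi_7 hwi_3 hwi_3 hwi_5 hwi_5 hwi_6 hwi_4 hwi_6 hwi_7 hwi_6 hwi_5 hwi_6 hwi_4 hwi_6 hwi_3 hwi_6 hwi_7 hwi_7 hwi_7 hwi_5 hwi_6 hwi_4 hwi_6)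 (@D3.rec (fun _ => (HWord rels S)) hwi_3 hwi_6 hwi_7 hwi_5 hwi_7 hwi_4 hwi_6 hwi_8 hwi_6 hwi_7 hwi_5 hwi_7 hwi_7 hwi_5 hwi_1 hwi_5 hwi_7 hwi_4 hwi_6 hwi_7 hwi_4 hwi_4 hwi_6 hwi_7 hwi_3 hwi_6 hwi_7 hwi_4 hwi_7 hwi_5 hwi_5 hwi_7 hwi_3 hwi_4 hwi_5 hwi_4 hwi_6 hwi_6 hwi_8 hwi_3 hwi_6 hwi_4 hwi_5 hwi_3 hwi_3 hwi_5 hwi_6 hwi_4 hwi_6 hwi_3 hwi_6) (@D3.rec (fun _ => (HWord rels S)) hwi_7 hwi_7 hwi_7 hwi_4 hwi_6 hwi_7 hwi_6 hwi_7 hwi_7 hwi_7 hwi_3 hwi_6 hwi_7 hwi_4 hwi_6 hwi_6 hwi_5 hwi_7 hwi_3 hwi_2 hwi_6 hwi_5 hwi_7 hwi_3 hwi_2 hwi_5 hwi_8 hwi_7 hwi_3 hwi_7 hwi_3 hwi_2 hwi_4 hwi_2 hwi_4 hwi_1 hwi_4 hwi_5 hwi_0 hwi_4 hwi_3 hwi_5 hwi_6 hwi_7 hwi_3 hwi_3 hwi_2 hwi_4 hwi_2 hwi_4 hwi_1) (@D3.rec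 (fun _ => (HWord rels S)) hwi_4 hwi_5 hwi_2 hwi_4 hwi_1 hwi_4 hwi_5 hwi_1 hwi_4 hwi_5 hwi_0 hwi_4 hwi_3 hwi_5 hwi_6 hwi_4 hwi_3 hwi_5 hwi_6 hwi_4 hwi_3 hwi_5 hwi_5 hwi_7 hwi_6 hwi_7 hwi_2 hwi_4 hwi_1 hwi_4 hwi_5 hwi_0 hwi_4 hwi_3 hwi_5 hwi_6 hwi_1 hwi_4 hwi_5 hwi_0 hwi_4 hwi_3 hwi_5 hwi_6 hwi_4 hwi_3 hwi_5 hwi_5 hwi_7 hwi_6 hwi_3) (@D3.rec (fun _ => (HWord rels S)) hwi_0 hwi_4 hwi_3 hwi_5 hwi_6 hwi_4 hwi_3 hwi_5 hwi_5 hwi_7 hwi_6 hwi_8 hwi_3 hwi_5 hwi_2 hwi_5 hwi_7 hwi_6 hwi_4 hwi_6 hwi_7 hwi_8 hwi_2 hwi_0 hwi_4 hwi_3 hwi_5 hwi_6 hwi_4 hwi_3 hwi_5 hwi_5 hwi_7 hwi_6 hwi_2 hwi_3 hwi_5 hwi_2 hwi_5 hwi_7 hwi_6 hwi_4 hwi_6 hwi_7 hwi_8 hwi_7 hwi_2 hwi_5 hwi_7 hwi_6 hwi_5) (@D3.rec (fun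 _ => (HWord rels S)) hwi_7 hwi_4 hwi_6 hwi_7 hwi_8 hwi_3 hwi_6 hwi_7 hwi_7 hwi_7 hwi_8 hwi_5 hwi_8 hwi_7 hwi_3 hwi_2 hwi_4 hwi_7 hwi_3 hwi_2 hwi_4 hwi_1 hwi_4 hwi_5 hwi_3 hwi_2 hwi_4 hwi_1 hwi_4 hwi_5 hwi_0 hwi_4 hwi_3 hwi_5 hwi_6 hwi_2 hwi_4 hwi_1 hwi_4 hwi_5 hwi_0 hwi_4 hwi_3 hwi_5 hwi_6 hwi_4 hwi_5 hwi_4 hwi_3 hwi_5 hwi_6) (@D3.rec (fun _ => (HWord rels S)) hwi_4 hwi_3 hwi_5 hwi_5 hwi_7 hwi_6 hwi_1 hwi_3 hwi_5 hwi_6 hwi_3 hwi_5 hwi_5 hwi_7 hwi_6 hwi_8 hwi_3 hwi_5 hwi_2 hwi_5 hwi_7 hwi_6 hwi_4 hwi_6 hwi_7 hwi_8 hwi_1 hwi_0 hwi_4 hwi_3 hwi_5 hwi_6 hwi_4 hwi_3 hwi_5 hwi_5 hwi_7 hwi_6 hwi_1 hwi_4 hwi_3 hwi_5 hwi_5 hwi_7 hwi_6 hwi_8 hwi_3 hwi_5 hwi_2 hwi_5 hwi_7)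
def ow_2 : D2 → D3 → (HWord rels S) := @D2.rec (fun _ => D3 → (HWord rels S)) (@D3.rec (fun _ => (HWord rels S)) hwi_6 hwi_4 hwi_6 hwi_7 hwi_8 hwi_1 hwi_3 hwi_5 hwi_2 hwi_5 hwi_7 hwi_6 hwi_4 hwi_6 hwi_7 hwi_8 hwi_4 hwi_2 hwi_5 hwi_7 hwi_6 hwi_5 hwi_7 hwi_4 hwi_6 hwi_7 hwi_8 hwi_2 hwi_6 hwi_7 hwi_4 hwi_7 hwi_8 hwi_5 hwi_6 hwi_5 hwi_4 hwi_6 hwi_7 hwi_3 hwi_6 hwi_7 hwi_7 hwi_7 hwi_8 hwi_5 hwi_4 hwi_6 hwi_7 hwi_3 hwi_4) (@D3.rec (fun _ => (HWord rels S)) hwi_6 hwi_7 hwi_6 hwi_7 hwi_7 hwi_7 hwi_8 hwi_5 hwi_7 hwi_7 hwi_3 hwi_8 hwi_8 hwi_8 hwi_3 hwi_5 hwi_2 hwi_5 hwi_7 hwi_6 hwi_4 hwi_6 hwi_7 hwi_8 hwi_1 hwi_2 hwi_5 hwi_7 hwi_6 hwi_5 hwi_7 hwi_4 hwi_6 hwi_7 hwi_8 hwi_2 hwi_6 hwi_7 hwi_5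 hwi_7 hwi_8 hwi_5 hwi_7 hwi_4 hwi_6 hwi_7 hwi_8 hwi_5 hwi_4 hwi_6 hwi_7) (@D3.rec (fun _ => (HWord rels S)) hwi_3 hwi_8 hwi_6 hwi_7 hwi_4 hwi_7 hwi_8 hwi_5 hwi_3 hwi_7 hwi_3 hwi_8 hwi_4 hwi_8 hwi_6 hwi_7 hwi_7 hwi_7 hwi_8 hwi_5 hwi_7 hwi_7 hwi_3 hwi_8 hwi_8 hwi_8 hwi_7 hwi_7 hwi_8 hwi_3 hwi_8 hwi_2 hwi_8 hwi_4 hwi_7 hwi_8 hwi_3 hwi_8 hwi_2 hwi_1 hwi_8 hwi_3 hwi_5 hwi_8 hwi_8 hwi_7 hwi_3 hwi_2 hwi_4 hwi_1 hwi_4) (@D3.rec (fun _ => (HWord rels S)) hwi_5 hwi_7 hwi_8 hwi_3 hwi_4 hwi_1 hwi_4 hwi_5 hwi_0 hwi_4 hwi_3 hwi_5 hwi_6 hwi_4 hwi_5 hwi_4 hwi_3 hwi_5 hwi_6 hwi_4 hwi_3 hwi_5 hwi_5 hwi_7 hwi_6 hwi_2 hwi_5 hwi_4 hwi_3 hwi_5 hwi_6 hwi_4 hwi_3 hwi_5 hwi_5 hwi_7 hwi_6 hwi_2 hwi_6 hwi_3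 hwi_5 hwi_5 hwi_6 hwi_8 hwi_3 hwi_5 hwi_2 hwi_5 hwi_7 hwi_6 hwi_4) (@D3.rec (fun _ => (HWord rels S)) hwi_6 hwi_7 hwi_8 hwi_3 hwi_7 hwi_2 hwi_5 hwi_6 hwi_4 hwi_6 hwi_8 hwi_2 hwi_5 hwi_7 hwi_6 hwi_5 hwi_7 hwi_4 hwi_6 hwi_7 hwi_8 hwi_3 hwi_6 hwi_7 hwi_7 hwi_7 hwi_8 hwi_4 hwi_3 hwi_5 hwi_5 hwi_7 hwi_6 hwi_8 hwi_3 hwi_5 hwi_2 hwi_5 hwi_7 hwi_6 hwi_4 hwi_6 hwi_7 hwi_8 hwi_3 hwi_3 hwi_5 hwi_2 hwi_5 hwi_7 hwi_6) (@D3.rec (fun _ => (HWord rels S)) hwi_4 hwi_6 hwi_7 hwi_8 hwi_8 hwi_2 hwi_5 hwi_6 hwi_5 hwi_7 hwi_4 hwi_6 hwi_7 hwi_3 hwi_6 hwi_7 hwi_7 hwi_7 hwi_8 hwi_2 hwi_5 hwi_6 hwi_5 hwi_7 hwi_4 hwi_6 hwi_7 hwi_8 hwi_6 hwi_7 hwi_8 hwi_7 hwi_8 hwi_5 hwi_4 hwi_6 hwi_3 hwi_4 hwi_6 hwi_7 hwi_3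 hwi_6 hwi_7 hwi_7 hwi_7 hwi_5 hwi_7 hwi_7 hwi_8 hwi_5 hwi_8) (@D3.rec (fun _ => (HWord rels S)) hwi_5 hwi_4 hwi_6 hwi_7 hwi_4 hwi_4 hwi_6 hwi_7 hwi_6 hwi_7 hwi_8 hwi_7 hwi_5 hwi_8 hwi_7 hwi_3 hwi_4 hwi_5 hwi_4 hwi_6 hwi_6 hwi_4 hwi_3 hwi_6 hwi_4 hwi_5 hwi_3 hwi_3 hwi_2 hwi_5 hwi_6 hwi_5 hwi_7 hwi_4 hwi_6 hwi_7 hwi_3 hwi_6 hwi_7 hwi_7 hwi_7 hwi_8 hwi_5 hwi_4 hwi_6 hwi_3 hwi_4 hwi_6 hwi_7 hwi_3 hwi_6) (@D3.rec (fun _ => (HWord rels S)) hwi_7 hwi_7 hwi_7 hwi_7 hwi_7 hwi_3 hwi_8 hwi_6 hwi_8 hwi_6 hwi_7 hwi_7 hwi_7 hwi_3 hwi_4 hwi_5 hwi_5 hwi_5 hwi_4 hwi_6 hwi_4 hwi_6 hwi_7 hwi_3 hwi_6 hwi_7 hwi_7 hwi_5 hwi_7 hwi_3 hwi_8 hwi_8 hwi_4 hwi_3 hwi_7 hwi_3 hwi_4 hwi_3 hwi_2 hwi_8 hwi_5 hwi_3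 hwi_5 hwi_5 hwi_7 hwi_8 hwi_8 hwi_7 hwi_3 hwi_4 hwi_4) (@D3.rec (fun _ => (HWord rels S)) hwi_5 hwi_4 hwi_3 hwi_5 hwi_6 hwi_2 hwi_7 hwi_4 hwi_5 hwi_3 hwi_5 hwi_6 hwi_3 hwi_5 hwi_5 hwi_7 hwi_6 hwi_2 hwi_7 hwi_5 hwi_6 hwi_5 hwi_6 hwi_6 hwi_2 hwi_5 hwi_7 hwi_6 hwi_4 hwi_6 hwi_7 hwi_3 hwi_6 hwi_5 hwi_6 hwi_4 hwi_2 hwi_5 hwi_7 hwi_6 hwi_4 hwi_6 hwi_7 hwi_3 hwi_7 hwi_4 hwi_6 hwi_6 hwi_5 hwi_4 hwi_6) (@D3.rec (fun _ => (HWord rels S)) hwi_7 hwi_6 hwi_6 hwi_7 hwi_7 hwi_7 hwi_6 hwi_5 hwi_4 hwi_6 hwi_6 hwi_7 hwi_5 hwi_7 hwi_5 hwi_7 hwi_7 hwi_3 hwi_5 hwi_3 hwi_5 hwi_5 hwi_6 hwi_4 hwi_6 hwi_7 hwi_3 hwi_5 hwi_6 hwi_4 hwi_6 hwi_3 hwi_5 hwi_6 hwi_4 hwi_6 hwi_3 hwi_6 hwi_7 hwi_6 hwi_7 hwi_4 hwi_6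 hwi_8 hwi_6 hwi_7 hwi_4 hwi_6 hwi_3 hwi_6 hwi_7) (@D3.rec (fun _ => (HWord rels S)) hwi_5 hwi_5 hwi_7 hwi_3 hwi_5 hwi_6 hwi_8 hwi_5 hwi_7 hwi_5 hwi_4 hwi_6 hwi_7 hwi_6 hwi_7 hwi_4 hwi_7 hwi_3 hwi_6 hwi_7 hwi_4 hwi_7 hwi_3 hwi_5 hwi_3 hwi_7 hwi_3 hwi_4 hwi_6 hwi_7 hwi_3 hwi_3 hwi_2 hwi_4 hwi_6 hwi_3 hwi_6 hwi_4 hwi_5 hwi_8 hwi_6 hwi_5 hwi_5 hwi_3 hwi_4 hwi_6 hwi_7 hwi_6 hwi_7 hwi_6 hwi_7) (@D3.rec (fun _ => (HWord rels S)) hwi_7 hwi_6 hwi_5 hwi_5 hwi_3 hwi_2 hwi_8 hwi_7 hwi_3 hwi_2 hwi_4 hwi_3 hwi_2 hwi_4 hwi_1 hwi_4 hwi_5 hwi_1 hwi_4 hwi_5 hwi_0 hwi_4 hwi_3 hwi_5 hwi_6 hwi_4 hwi_3 hwi_5 hwi_5 hwi_7 hwi_6 hwi_5 hwi_3 hwi_2 hwi_4 hwi_2 hwi_4 hwi_1 hwi_4 hwi_5 hwi_1 hwi_4 hwi_5 hwi_0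 hwi_4 hwi_3 hwi_5 hwi_6 hwi_1 hwi_4 hwi_5) (@D3.rec (fun _ => (HWord rels S)) hwi_0 hwi_4 hwi_3 hwi_5 hwi_6 hwi_4 hwi_3 hwi_5 hwi_6 hwi_4 hwi_3 hwi_5 hwi_5 hwi_7 hwi_6 hwi_7 hwi_3 hwi_5 hwi_5 hwi_7 hwi_6 hwi_8 hwi_3 hwi_5 hwi_2 hwi_5 hwi_7 hwi_6 hwi_4 hwi_6 hwi_7 hwi_8 hwi_7 hwi_1 hwi_4 hwi_5 hwi_0 hwi_4 hwi_3 hwi_5 hwi_6 hwi_4 hwi_3 hwi_5 hwi_5 hwi_7 hwi_6 hwi_3 hwi_0 hwi_4 hwi_3) (@D3.rec (fun _ => (HWord rels S)) hwi_5 hwi_6 hwi_4 hwi_3 hwi_5 hwi_5 hwi_7 hwi_6 hwi_8 hwi_3 hwi_5 hwi_2 hwi_5 hwi_7 hwi_6 hwi_4 hwi_6 hwi_7 hwi_8 hwi_2 hwi_4 hwi_3 hwi_5 hwi_5 hwi_7 hwi_6 hwi_2 hwi_3 hwi_5 hwi_2 hwi_5 hwi_7 hwi_6 hwi_4 hwi_6 hwi_7 hwi_8 hwi_7 hwi_2 hwi_5 hwi_7 hwi_6 hwi_5 hwi_7 hwi_4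 hwi_6 hwi_7 hwi_8 hwi_4 hwi_6 hwi_7) (@D3.rec (fun _ => (HWord rels S)) hwi_2 hwi_7 hwi_8 hwi_5 hwi_5 hwi_6 hwi_2 hwi_5 hwi_5 hwi_6 hwi_4 hwi_6 hwi_7 hwi_3 hwi_5 hwi_6 hwi_5 hwi_4 hwi_6 hwi_7 hwi_7 hwi_6 hwi_7 hwi_7 hwi_7 hwi_8 hwi_5 hwi_4 hwi_6 hwi_7 hwi_3 hwi_4 hwi_6 hwi_7 hwi_6 hwi_7 hwi_7 hwi_7 hwi_8 hwi_5 hwi_7 hwi_7 hwi_3 hwi_8 hwi_1 hwi_8 hwi_8 hwi_7 hwi_3 hwi_2 hwi_4) (@D3.rec (fun _ => (HWord rels S)) hwi_1 hwi_4 hwi_5 hwi_3 hwi_2 hwi_4 hwi_1 hwi_4 hwi_5 hwi_0 hwi_4 hwi_3 hwi_5 hwi_6 hwi_2 hwi_4 hwi_4 hwi_5 hwi_4 hwi_3 hwi_5 hwi_6 hwi_4 hwi_3 hwi_5 hwi_5 hwi_7 hwi_6 hwi_1 hwi_4 hwi_5 hwi_4 hwi_3 hwi_5 hwi_6 hwi_4 hwi_3 hwi_5 hwi_5 hwi_7 hwi_6 hwi_1 hwi_3 hwi_5 hwi_6 hwi_3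 hwi_5 hwi_5 hwi_7 hwi_6 hwi_8) (@D3.rec (fun _ => (HWord rels S)) hwi_3 hwi_5 hwi_2 hwi_5 hwi_7 hwi_6 hwi_4 hwi_6 hwi_7 hwi_8 hwi_1 hwi_5 hwi_7 hwi_6 hwi_5 hwi_2 hwi_5 hwi_7 hwi_6 hwi_4 hwi_6 hwi_7 hwi_8 hwi_7 hwi_2 hwi_5 hwi_7 hwi_6 hwi_5 hwi_7 hwi_4 hwi_6 hwi_7 hwi_8 hwi_2 hwi_6 hwi_7 hwi_1 hwi_7 hwi_8 hwi_4 hwi_3 hwi_5 hwi_5 hwi_7 hwi_6 hwi_8 hwi_3 hwi_5 hwi_2 hwi_5) (@D3.rec (fun _ => (HWord rels S)) hwi_7 hwi_6 hwi_4 hwi_6 hwi_7 hwi_8 hwi_1 hwi_3 hwi_5 hwi_2 hwi_5 hwi_7 hwi_6 hwi_4 hwi_6 hwi_7 hwi_8 hwi_8 hwi_2 hwi_5 hwi_7 hwi_6 hwi_5 hwi_7 hwi_4 hwi_6 hwi_7 hwi_8 hwi_2 hwi_6 hwi_7 hwi_1 hwi_7 hwi_8 hwi_2 hwi_5 hwi_7 hwi_6 hwi_5 hwi_7 hwi_4 hwi_6 hwi_7 hwi_8 hwi_8 hwi_6 hwi_7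 hwi_2 hwi_7 hwi_8 hwi_1) (@D3.rec (fun _ => (HWord rels S)) hwi_5 hwi_7 hwi_4 hwi_6 hwi_7 hwi_8 hwi_2 hwi_4 hwi_6 hwi_7 hwi_3 hwi_8 hwi_6 hwi_7 hwi_2 hwi_7 hwi_8 hwi_5 hwi_3 hwi_7 hwi_3 hwi_8 hwi_4 hwi_8 hwi_4 hwi_6 hwi_4 hwi_4 hwi_6 hwi_6 hwi_7 hwi_7 hwi_7 hwi_5 hwi_7 hwi_7 hwi_3 hwi_8 hwi_8 hwi_8 hwi_4 hwi_6 hwi_6 hwi_7 hwi_7 hwi_7 hwi_3 hwi_6 hwi_7 hwi_7 hwi_7) (@D3.rec (fun _ => (HWord rels S)) hwi_5 hwi_7 hwi_7 hwi_3 hwi_8 hwi_8 hwi_8 hwi_7 hwi_7 hwi_8 hwi_3 hwi_8 hwi_2 hwi_8 hwi_3 hwi_2 hwi_5 hwi_7 hwi_6 hwi_5 hwi_7 hwi_4 hwi_6 hwi_7 hwi_8 hwi_2 hwi_6 hwi_7 hwi_4 hwi_7 hwi_8 hwi_5 hwi_7 hwi_4 hwi_6 hwi_7 hwi_8 hwi_6 hwi_4 hwi_6 hwi_7 hwi_3 hwi_8 hwi_6 hwi_7 hwi_6 hwi_7 hwi_8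 hwi_5 hwi_5 hwi_7) (@D3.rec (fun _ => (HWord rels S)) hwi_3 hwi_8 hwi_5 hwi_8 hwi_4 hwi_6 hwi_7 hwi_8 hwi_6 hwi_7 hwi_5 hwi_7 hwi_8 hwi_6 hwi_7 hwi_5 hwi_7 hwi_3 hwi_8 hwi_4 hwi_8 hwi_5 hwi_3 hwi_7 hwi_3 hwi_8 hwi_4 hwi_8 hwi_3 hwi_7 hwi_3 hwi_3 hwi_8 hwi_2 hwi_8 hwi_4 hwi_5 hwi_7 hwi_7 hwi_3 hwi_8 hwi_8 hwi_8 hwi_7 hwi_7 hwi_8 hwi_3 hwi_8 hwi_2 hwi_8 hwi_4) (@D3.rec (fun _ => (HWord rels S)) hwi_7 hwi_8 hwi_3 hwi_8 hwi_8 hwi_2 hwi_2 hwi_8 hwi_1 hwi_8 hwi_7 hwi_1 hwi_0 hwi_8 hwi_5 hwi_7 hwi_8 hwi_8 hwi_7 hwi_3 hwi_4 hwi_1 hwi_4 hwi_5 hwi_0 hwi_4 hwi_3 hwi_5 hwi_6 hwi_4 hwi_5 hwi_4 hwi_3 hwi_5 hwi_6 hwi_4 hwi_3 hwi_5 hwi_5 hwi_7 hwi_6 hwi_2 hwi_5 hwi_6 hwi_3 hwi_5 hwi_5 hwi_6 hwi_8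 hwi_3 hwi_5) (@D3.rec (fun _ => (HWord rels S)) hwi_2 hwi_5 hwi_7 hwi_6 hwi_4 hwi_6 hwi_7 hwi_3 hwi_6 hwi_3 hwi_5 hwi_5 hwi_6 hwi_8 hwi_3 hwi_5 hwi_2 hwi_5 hwi_7 hwi_6 hwi_4 hwi_6 hwi_7 hwi_8 hwi_3 hwi_7 hwi_2 hwi_5 hwi_6 hwi_4 hwi_6 hwi_8 hwi_2 hwi_5 hwi_7 hwi_6 hwi_5 hwi_7 hwi_4 hwi_6 hwi_7 hwi_8 hwi_3 hwi_6 hwi_7 hwi_7 hwi_7 hwi_8 hwi_5 hwi_4 hwi_6) (@D3.rec (fun _ => (HWord rels S)) hwi_5 hwi_6 hwi_8 hwi_1 hwi_5 hwi_7 hwi_4 hwi_6 hwi_7 hwi_5 hwi_4 hwi_6 hwi_7 hwi_3 hwi_6 hwi_7 hwi_7 hwi_7 hwi_8 hwi_5 hwi_7 hwi_7 hwi_3 hwi_8 hwi_5 hwi_8 hwi_3 hwi_5 hwi_2 hwi_5 hwi_7 hwi_6 hwi_4 hwi_6 hwi_7 hwi_8 hwi_8 hwi_2 hwi_5 hwi_6 hwi_5 hwi_7 hwi_4 hwi_6 hwi_7 hwi_3 hwi_8 hwi_2 hwi_5 hwi_6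 hwi_5) (@D3.rec (fun _ => (HWord rels S)) hwi_7 hwi_4 hwi_6 hwi_7 hwi_8 hwi_6 hwi_7 hwi_8 hwi_7 hwi_8 hwi_5 hwi_4 hwi_6 hwi_3 hwi_4 hwi_6 hwi_7 hwi_3 hwi_6 hwi_7 hwi_7 hwi_7 hwi_8 hwi_8 hwi_5 hwi_4 hwi_6 hwi_3 hwi_4 hwi_6 hwi_7 hwi_6 hwi_7 hwi_8 hwi_7 hwi_5 hwi_8 hwi_7 hwi_3 hwi_8 hwi_5 hwi_8 hwi_4 hwi_6 hwi_6 hwi_7 hwi_3 hwi_6 hwi_7 hwi_7 hwi_7) (@D3.rec (fun _ => (HWord rels S)) hwi_3 hwi_4 hwi_5 hwi_7 hwi_7 hwi_5 hwi_8 hwi_5 hwi_4 hwi_6 hwi_6 hwi_7 hwi_4 hwi_7 hwi_3 hwi_6 hwi_7 hwi_8 hwi_7 hwi_5 hwi_8 hwi_7 hwi_3 hwi_4 hwi_8 hwi_7 hwi_3 hwi_3 hwi_2 hwi_4 hwi_6 hwi_3 hwi_6 hwi_4 hwi_5 hwi_3 hwi_6 hwi_7 hwi_5 hwi_2 hwi_3 hwi_5 hwi_4 hwi_6 hwi_3 hwi_4 hwi_6 hwi_7 hwi_3 hwi_6 hwi_7)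 (@D3.rec (fun _ => (HWord rels S)) hwi_7 hwi_7 hwi_8 hwi_8 hwi_4 hwi_6 hwi_6 hwi_7 hwi_3 hwi_6 hwi_7 hwi_7 hwi_7 hwi_3 hwi_4 hwi_7 hwi_7 hwi_3 hwi_6 hwi_8 hwi_8 hwi_6 hwi_5 hwi_5 hwi_3 hwi_4 hwi_5 hwi_4 hwi_6 hwi_6 hwi_3 hwi_6 hwi_7 hwi_7 hwi_3 hwi_4 hwi_5 hwi_7 hwi_3 hwi_8 hwi_8 hwi_3 hwi_7 hwi_3 hwi_4 hwi_5 hwi_2 hwi_1 hwi_8 hwi_7 hwi_6)
def ow_3 : D2 → D3 → (HWord rels S) := @D2.rec (fun _ => D3 → (HWord rels S)) (@D3.rec (fun _ => (HWord rels S)) hwi_2 hwi_5 hwi_7 hwi_4 hwi_7 hwi_8 hwi_3 hwi_4 hwi_5 hwi_3 hwi_5 hwi_6 hwi_7 hwi_5 hwi_6 hwi_5 hwi_6 hwi_5 hwi_7 hwi_3 hwi_6 hwi_7 hwi_4 hwi_6 hwi_6 hwi_7 hwi_4 hwi_7 hwi_7 hwi_4 hwi_6 hwi_5 hwi_7 hwi_6 hwi_6 hwi_4 hwi_6 hwi_7 hwi_7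 hwi_5 hwi_5 hwi_3 hwi_6 hwi_5 hwi_7 hwi_3 hwi_5 hwi_5 hwi_6 hwi_4 hwi_6) (@D3.rec (fun _ => (HWord rels S)) hwi_3 hwi_4 hwi_6 hwi_8 hwi_4 hwi_6 hwi_3 hwi_6 hwi_7 hwi_6 hwi_8 hwi_6 hwi_7 hwi_5 hwi_7 hwi_3 hwi_5 hwi_8 hwi_4 hwi_6 hwi_3 hwi_6 hwi_7 hwi_4 hwi_7 hwi_5 hwi_3 hwi_7 hwi_3 hwi_4 hwi_6 hwi_5 hwi_5 hwi_7 hwi_4 hwi_3 hwi_7 hwi_3 hwi_3 hwi_2 hwi_3 hwi_6 hwi_4 hwi_6 hwi_5 hwi_5 hwi_8 hwi_6 hwi_7 hwi_7 hwi_5) (@D3.rec (fun _ => (HWord rels S)) hwi_2 hwi_4 hwi_7 hwi_3 hwi_2 hwi_4 hwi_1 hwi_4 hwi_5 hwi_2 hwi_4 hwi_1 hwi_4 hwi_5 hwi_0 hwi_4 hwi_3 hwi_5 hwi_6 hwi_0 hwi_4 hwi_3 hwi_5 hwi_6 hwi_4 hwi_3 hwi_5 hwi_5 hwi_7 hwi_6 hwi_6 hwi_3 hwi_5 hwi_2 hwi_5 hwi_7 hwi_6 hwi_4 hwi_6 hwi_7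 hwi_8 hwi_5 hwi_2 hwi_4 hwi_1 hwi_4 hwi_5 hwi_1 hwi_4 hwi_5 hwi_0) (@D3.rec (fun _ => (HWord rels S)) hwi_4 hwi_3 hwi_5 hwi_6 hwi_4 hwi_3 hwi_5 hwi_6 hwi_4 hwi_3 hwi_5 hwi_5 hwi_7 hwi_6 hwi_7 hwi_4 hwi_3 hwi_5 hwi_6 hwi_4 hwi_3 hwi_5 hwi_5 hwi_7 hwi_6 hwi_7 hwi_3 hwi_5 hwi_5 hwi_7 hwi_6 hwi_8 hwi_3 hwi_5 hwi_2 hwi_5 hwi_7 hwi_6 hwi_4 hwi_6 hwi_7 hwi_8 hwi_7 hwi_2 hwi_5 hwi_7 hwi_6 hwi_4 hwi_6 hwi_7 hwi_8) (@D3.rec (fun _ => (HWord rels S)) hwi_8 hwi_2 hwi_5 hwi_7 hwi_6 hwi_5 hwi_7 hwi_4 hwi_6 hwi_7 hwi_8 hwi_7 hwi_6 hwi_7 hwi_3 hwi_7 hwi_8 hwi_0 hwi_4 hwi_3 hwi_5 hwi_6 hwi_4 hwi_3 hwi_5 hwi_5 hwi_7 hwi_6 hwi_8 hwi_3 hwi_5 hwi_2 hwi_5 hwi_7 hwi_6 hwi_4 hwi_6 hwi_7 hwi_8 hwi_2 hwi_4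 hwi_3 hwi_5 hwi_5 hwi_7 hwi_6 hwi_6 hwi_3 hwi_5 hwi_2 hwi_5) (@D3.rec (fun _ => (HWord rels S)) hwi_7 hwi_6 hwi_4 hwi_6 hwi_7 hwi_8 hwi_7 hwi_2 hwi_5 hwi_7 hwi_6 hwi_5 hwi_7 hwi_4 hwi_6 hwi_7 hwi_8 hwi_8 hwi_6 hwi_7 hwi_2 hwi_7 hwi_8 hwi_3 hwi_5 hwi_2 hwi_5 hwi_7 hwi_6 hwi_4 hwi_6 hwi_7 hwi_8 hwi_3 hwi_2 hwi_5 hwi_7 hwi_6 hwi_5 hwi_7 hwi_4 hwi_6 hwi_7 hwi_8 hwi_7 hwi_6 hwi_7 hwi_8 hwi_7 hwi_8 hwi_1) (@D3.rec (fun _ => (HWord rels S)) hwi_5 hwi_7 hwi_4 hwi_6 hwi_7 hwi_8 hwi_4 hwi_4 hwi_6 hwi_7 hwi_3 hwi_8 hwi_6 hwi_7 hwi_1 hwi_7 hwi_8 hwi_5 hwi_4 hwi_7 hwi_3 hwi_8 hwi_2 hwi_8 hwi_6 hwi_4 hwi_6 hwi_3 hwi_6 hwi_4 hwi_6 hwi_3 hwi_6 hwi_7 hwi_4 hwi_7 hwi_4 hwi_6 hwi_8 hwi_4 hwi_6 hwi_6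 hwi_7 hwi_8 hwi_7 hwi_5 hwi_7 hwi_7 hwi_3 hwi_8 hwi_3) (@D3.rec (fun _ => (HWord rels S)) hwi_8 hwi_4 hwi_6 hwi_6 hwi_7 hwi_7 hwi_7 hwi_3 hwi_6 hwi_7 hwi_7 hwi_7 hwi_5 hwi_7 hwi_7 hwi_3 hwi_8 hwi_2 hwi_8 hwi_7 hwi_7 hwi_1 hwi_3 hwi_8 hwi_2 hwi_8 hwi_8 hwi_7 hwi_3 hwi_2 hwi_4 hwi_1 hwi_4 hwi_5 hwi_0 hwi_4 hwi_3 hwi_5 hwi_6 hwi_2 hwi_4 hwi_4 hwi_5 hwi_4 hwi_3 hwi_5 hwi_6 hwi_4 hwi_3 hwi_5 hwi_5) (@D3.rec (fun _ => (HWord rels S)) hwi_7 hwi_6 hwi_1 hwi_4 hwi_5 hwi_3 hwi_5 hwi_6 hwi_3 hwi_5 hwi_5 hwi_7 hwi_6 hwi_8 hwi_3 hwi_5 hwi_2 hwi_5 hwi_7 hwi_6 hwi_4 hwi_6 hwi_7 hwi_8 hwi_1 hwi_3 hwi_5 hwi_6 hwi_3 hwi_5 hwi_5 hwi_7 hwi_6 hwi_8 hwi_3 hwi_5 hwi_2 hwi_5 hwi_7 hwi_6 hwi_4 hwi_6 hwi_7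 hwi_8 hwi_1 hwi_5 hwi_7 hwi_6 hwi_6 hwi_2 hwi_5) (@D3.rec (fun _ => (HWord rels S)) hwi_7 hwi_6 hwi_4 hwi_6 hwi_7 hwi_8 hwi_7 hwi_2 hwi_5 hwi_7 hwi_6 hwi_5 hwi_7 hwi_4 hwi_6 hwi_7 hwi_8 hwi_2 hwi_6 hwi_7 hwi_1 hwi_7 hwi_8 hwi_4 hwi_6 hwi_7 hwi_8 hwi_5 hwi_5 hwi_7 hwi_4 hwi_6 hwi_7 hwi_8 hwi_5 hwi_6 hwi_7 hwi_3 hwi_7 hwi_8 hwi_1 hwi_5 hwi_7 hwi_4 hwi_6 hwi_7 hwi_8 hwi_5 hwi_4 hwi_6 hwi_7) (@D3.rec (fun _ => (HWord rels S)) hwi_3 hwi_8 hwi_6 hwi_7 hwi_2 hwi_7 hwi_8 hwi_5 hwi_2 hwi_7 hwi_3 hwi_8 hwi_4 hwi_8 hwi_3 hwi_5 hwi_2 hwi_5 hwi_7 hwi_6 hwi_4 hwi_6 hwi_7 hwi_8 hwi_8 hwi_2 hwi_5 hwi_7 hwi_6 hwi_5 hwi_7 hwi_4 hwi_6 hwi_7 hwi_8 hwi_2 hwi_6 hwi_7 hwi_1 hwi_7 hwi_8 hwi_2 hwi_5 hwi_7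 hwi_6 hwi_5 hwi_7 hwi_4 hwi_6 hwi_7 hwi_8) (@D3.rec (fun _ => (HWord rels S)) hwi_8 hwi_6 hwi_7 hwi_2 hwi_7 hwi_8 hwi_1 hwi_5 hwi_7 hwi_4 hwi_6 hwi_7 hwi_8 hwi_2 hwi_4 hwi_6 hwi_7 hwi_3 hwi_8 hwi_6 hwi_7 hwi_2 hwi_7 hwi_8 hwi_5 hwi_8 hwi_7 hwi_3 hwi_8 hwi_5 hwi_8 hwi_1 hwi_5 hwi_7 hwi_4 hwi_6 hwi_7 hwi_8 hwi_2 hwi_4 hwi_6 hwi_7 hwi_3 hwi_8 hwi_6 hwi_7 hwi_5 hwi_7 hwi_8 hwi_5 hwi_3) (@D3.rec (fun _ => (HWord rels S)) hwi_7 hwi_3 hwi_8 hwi_2 hwi_8 hwi_5 hwi_4 hwi_6 hwi_7 hwi_8 hwi_6 hwi_7 hwi_2 hwi_7 hwi_8 hwi_3 hwi_6 hwi_7 hwi_3 hwi_7 hwi_3 hwi_8 hwi_4 hwi_8 hwi_5 hwi_3 hwi_7 hwi_3 hwi_8 hwi_4 hwi_8 hwi_3 hwi_7 hwi_3 hwi_3 hwi_8 hwi_2 hwi_8 hwi_4 hwi_6 hwi_7 hwi_3 hwi_6 hwi_7 hwi_5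 hwi_7 hwi_7 hwi_3 hwi_8 hwi_7 hwi_7) (@D3.rec (fun _ => (HWord rels S)) hwi_8 hwi_3 hwi_8 hwi_2 hwi_8 hwi_7 hwi_3 hwi_6 hwi_7 hwi_5 hwi_7 hwi_7 hwi_3 hwi_8 hwi_6 hwi_7 hwi_5 hwi_7 hwi_7 hwi_3 hwi_8 hwi_7 hwi_7 hwi_8 hwi_3 hwi_8 hwi_2 hwi_8 hwi_3 hwi_7 hwi_8 hwi_3 hwi_8 hwi_8 hwi_3 hwi_2 hwi_8 hwi_1 hwi_8 hwi_7 hwi_5 hwi_7 hwi_4 hwi_6 hwi_7 hwi_8 hwi_3 hwi_4 hwi_6 hwi_7 hwi_3) (@D3.rec (fun _ => (HWord rels S)) hwi_8 hwi_6 hwi_7 hwi_4 hwi_7 hwi_8 hwi_5 hwi_5 hwi_7 hwi_3 hwi_8 hwi_7 hwi_8 hwi_4 hwi_6 hwi_7 hwi_8 hwi_6 hwi_7 hwi_6 hwi_7 hwi_8 hwi_3 hwi_6 hwi_7 hwi_6 hwi_7 hwi_3 hwi_8 hwi_4 hwi_8 hwi_5 hwi_6 hwi_7 hwi_3 hwi_8 hwi_7 hwi_8 hwi_4 hwi_7 hwi_5 hwi_3 hwi_8 hwi_2 hwi_8 hwi_5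 hwi_6 hwi_7 hwi_5 hwi_7 hwi_8) (@D3.rec (fun _ => (HWord rels S)) hwi_5 hwi_5 hwi_7 hwi_3 hwi_8 hwi_7 hwi_8 hwi_5 hwi_5 hwi_7 hwi_3 hwi_8 hwi_7 hwi_3 hwi_8 hwi_4 hwi_8 hwi_5 hwi_8 hwi_3 hwi_7 hwi_3 hwi_3 hwi_8 hwi_2 hwi_8 hwi_4 hwi_3 hwi_3 hwi_3 hwi_8 hwi_7 hwi_3 hwi_2 hwi_8 hwi_1 hwi_8 hwi_7 hwi_7 hwi_7 hwi_8 hwi_3 hwi_8 hwi_2 hwi_8 hwi_4 hwi_7 hwi_8 hwi_3 hwi_8 hwi_8) (@D3.rec (fun _ => (HWord rels S)) hwi_1 hwi_2 hwi_8 hwi_1 hwi_8 hwi_7 hwi_8 hwi_2 hwi_4 hwi_8 hwi_1 hwi_7 hwi_0 hwi_8 hwi_7 hwi_0 hwi_8 hwi_4 hwi_7 hwi_8 hwi_3 hwi_4 hwi_5 hwi_4 hwi_3 hwi_5 hwi_6 hwi_4 hwi_3 hwi_5 hwi_5 hwi_6 hwi_3 hwi_5 hwi_5 hwi_6 hwi_8 hwi_3 hwi_5 hwi_2 hwi_5 hwi_7 hwi_6 hwi_6 hwi_7 hwi_2 hwi_5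 hwi_6 hwi_4 hwi_6 hwi_8) (@D3.rec (fun _ => (HWord rels S)) hwi_2 hwi_5 hwi_7 hwi_6 hwi_5 hwi_7 hwi_4 hwi_6 hwi_7 hwi_3 hwi_7 hwi_2 hwi_5 hwi_6 hwi_4 hwi_6 hwi_8 hwi_2 hwi_5 hwi_7 hwi_6 hwi_5 hwi_7 hwi_4 hwi_6 hwi_7 hwi_8 hwi_3 hwi_8 hwi_5 hwi_4 hwi_6 hwi_6 hwi_6 hwi_8 hwi_1 hwi_5 hwi_7 hwi_4 hwi_6 hwi_7 hwi_6 hwi_4 hwi_6 hwi_7 hwi_3 hwi_6 hwi_7 hwi_7 hwi_7 hwi_8) (@D3.rec (fun _ => (HWord rels S)) hwi_8 hwi_8 hwi_4 hwi_6 hwi_6 hwi_5 hwi_5 hwi_8 hwi_5 hwi_4 hwi_6 hwi_7 hwi_6 hwi_7 hwi_5 hwi_7 hwi_3 hwi_6 hwi_7 hwi_7 hwi_7 hwi_3 hwi_4 hwi_5 hwi_7 hwi_7 hwi_3 hwi_8 hwi_5 hwi_8 hwi_8 hwi_8 hwi_5 hwi_2 hwi_5 hwi_6 hwi_5 hwi_7 hwi_4 hwi_6 hwi_7 hwi_8 hwi_7 hwi_7 hwi_8 hwi_5 hwi_4 hwi_6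 hwi_3 hwi_4 hwi_6) (@D3.rec (fun _ => (HWord rels S)) hwi_7 hwi_3 hwi_5 hwi_4 hwi_6 hwi_3 hwi_4 hwi_6 hwi_7 hwi_6 hwi_7 hwi_8 hwi_7 hwi_7 hwi_3 hwi_8 hwi_6 hwi_8 hwi_4 hwi_6 hwi_6 hwi_7 hwi_3 hwi_6 hwi_7 hwi_7 hwi_7 hwi_3 hwi_4 hwi_4 hwi_6 hwi_6 hwi_7 hwi_3 hwi_6 hwi_7 hwi_5 hwi_7 hwi_5 hwi_8 hwi_7 hwi_3 hwi_5 hwi_7 hwi_5 hwi_3 hwi_8 hwi_8 hwi_5 hwi_3 hwi_6) (@D3.rec (fun _ => (HWord rels S)) hwi_7 hwi_5 hwi_7 hwi_6 hwi_7 hwi_5 hwi_7 hwi_7 hwi_3 hwi_5 hwi_3 hwi_4 hwi_5 hwi_3 hwi_6 hwi_4 hwi_5 hwi_3 hwi_7 hwi_3 hwi_4 hwi_6 hwi_7 hwi_5 hwi_8 hwi_7 hwi_3 hwi_4 hwi_8 hwi_7 hwi_3 hwi_3 hwi_2 hwi_3 hwi_3 hwi_7 hwi_2 hwi_1 hwi_3 hwi_6 hwi_4 hwi_6 hwi_7 hwi_5 hwi_2 hwi_3 hwi_5 hwi_2 hwi_7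 hwi_8 hwi_2) (@D3.rec (fun _ => (HWord rels S)) hwi_4 hwi_6 hwi_6 hwi_7 hwi_3 hwi_6 hwi_7 hwi_7 hwi_7 hwi_3 hwi_4 hwi_3 hwi_6 hwi_6 hwi_7 hwi_6 hwi_7 hwi_7 hwi_7 hwi_3 hwi_6 hwi_3 hwi_4 hwi_5 hwi_2 hwi_7 hwi_5 hwi_4 hwi_5 hwi_6 hwi_3 hwi_6 hwi_5 hwi_6 hwi_7 hwi_5 hwi_7 hwi_3 hwi_3 hwi_4 hwi_5 hwi_2 hwi_7 hwi_7 hwi_3 hwi_8 hwi_2 hwi_4 hwi_5 hwi_6 hwi_1) (@D3.rec (fun _ => (HWord rels S)) hwi_8 hwi_7 hwi_8 hwi_5 hwi_7 hwi_4 hwi_7 hwi_7 hwi_8 hwi_4 hwi_5 hwi_6 hwi_3 hwi_6 hwi_7 hwi_4 hwi_3 hwi_3 hwi_3 hwi_6 hwi_4 hwi_6 hwi_5 hwi_5 hwi_7 hwi_4 hwi_7 hwi_2 hwi_3 hwi_2 hwi_6 hwi_5 hwi_5 hwi_4 hwi_3 hwi_2 hwi_4 hwi_1 hwi_4 hwi_5 hwi_0 hwi_4 hwi_3 hwi_5 hwi_6 hwi_1 hwi_4 hwi_5 hwi_0 hwi_4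 hwi_3) (@D3.rec (fun _ => (HWord rels S)) hwi_5 hwi_6 hwi_4 hwi_3 hwi_5 hwi_5 hwi_7 hwi_6 hwi_6 hwi_4 hwi_3 hwi_5 hwi_5 hwi_7 hwi_6 hwi_4 hwi_3 hwi_5 hwi_2 hwi_5 hwi_7 hwi_6 hwi_4 hwi_6 hwi_7 hwi_8 hwi_6 hwi_2 hwi_5 hwi_7 hwi_6 hwi_5 hwi_7 hwi_4 hwi_6 hwi_7 hwi_8 hwi_5 hwi_6 hwi_7 hwi_5 hwi_7 hwi_8 hwi_1 hwi_4 hwi_5 hwi_0 hwi_4 hwi_3 hwi_5 hwi_6) (@D3.rec (fun _ => (HWord rels S)) hwi_4 hwi_3 hwi_5 hwi_6 hwi_4 hwi_3 hwi_5 hwi_5 hwi_7 hwi_6 hwi_7 hwi_3 hwi_5 hwi_5 hwi_7 hwi_6 hwi_8 hwi_3 hwi_5 hwi_2 hwi_5 hwi_7 hwi_6 hwi_4 hwi_6 hwi_7 hwi_8 hwi_7 hwi_3 hwi_5 hwi_5 hwi_7 hwi_6 hwi_8 hwi_3 hwi_5 hwi_2 hwi_5 hwi_7 hwi_6 hwi_4 hwi_6 hwi_7 hwi_8 hwi_7 hwi_2 hwi_5 hwi_7 hwi_6 hwi_4 hwi_6)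 (@D3.rec (fun _ => (HWord rels S)) hwi_7 hwi_8 hwi_8 hwi_2 hwi_5 hwi_7 hwi_6 hwi_5 hwi_7 hwi_4 hwi_6 hwi_7 hwi_8 hwi_7 hwi_6 hwi_7 hwi_3 hwi_7 hwi_8 hwi_5 hwi_7 hwi_4 hwi_6 hwi_7 hwi_8 hwi_8 hwi_6 hwi_7 hwi_8 hwi_7 hwi_8 hwi_1 hwi_5 hwi_7 hwi_4 hwi_6 hwi_7 hwi_8 hwi_7 hwi_4 hwi_6 hwi_7 hwi_3 hwi_8 hwi_6 hwi_7 hwi_3 hwi_7 hwi_8 hwi_5 hwi_4) (@D3.rec (fun _ => (HWord rels S)) hwi_7 hwi_3 hwi_8 hwi_3 hwi_8 hwi_4 hwi_3 hwi_5 hwi_5 hwi_7 hwi_6 hwi_2 hwi_3 hwi_5 hwi_2 hwi_5 hwi_7 hwi_6 hwi_4 hwi_6 hwi_7 hwi_8 hwi_7 hwi_2 hwi_5 hwi_7 hwi_6 hwi_5 hwi_7 hwi_4 hwi_6 hwi_7 hwi_8 hwi_8 hwi_6 hwi_7 hwi_2 hwi_7 hwi_8 hwi_3 hwi_5 hwi_2 hwi_5 hwi_7 hwi_6 hwi_4 hwi_6 hwi_7 hwi_8 hwi_6 hwi_2)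
def ow_4 : D2 → D3 → (HWord rels S) := @D2.rec (fun _ => D3 → (HWord rels S)) (@D3.rec (fun _ => (HWord rels S)) hwi_5 hwi_7 hwi_6 hwi_5 hwi_7 hwi_4 hwi_6 hwi_7 hwi_8 hwi_7 hwi_6 hwi_7 hwi_8 hwi_7 hwi_8 hwi_1 hwi_5 hwi_7 hwi_4 hwi_6 hwi_7 hwi_8 hwi_8 hwi_4 hwi_6 hwi_7 hwi_3 hwi_8 hwi_6 hwi_7 hwi_1 hwi_7 hwi_8 hwi_5 hwi_2 hwi_7 hwi_3 hwi_8 hwi_2 hwi_8 hwi_2 hwi_5 hwi_7 hwi_6 hwi_5 hwi_7 hwi_4 hwi_6 hwi_7 hwi_8 hwi_3) (@D3.rec (fun _ => (HWord rels S)) hwi_6 hwi_7 hwi_4 hwi_7 hwi_8 hwi_1 hwi_5 hwi_7 hwi_4 hwi_6 hwi_7 hwi_8 hwi_7 hwi_4 hwi_6 hwi_7 hwi_3 hwi_8 hwi_6 hwi_7 hwi_7 hwi_7 hwi_8 hwi_5 hwi_3 hwi_7 hwi_3 hwi_8 hwi_3 hwi_8 hwi_5 hwi_7 hwi_4 hwi_6 hwi_7 hwi_3 hwi_8 hwi_6 hwi_7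 hwi_4 hwi_7 hwi_8 hwi_3 hwi_6 hwi_7 hwi_1 hwi_7 hwi_3 hwi_8 hwi_4 hwi_8) (@D3.rec (fun _ => (HWord rels S)) hwi_5 hwi_3 hwi_7 hwi_3 hwi_8 hwi_1 hwi_8 hwi_4 hwi_7 hwi_4 hwi_3 hwi_8 hwi_2 hwi_8 hwi_8 hwi_3 hwi_6 hwi_4 hwi_3 hwi_6 hwi_4 hwi_5 hwi_1 hwi_7 hwi_3 hwi_4 hwi_6 hwi_8 hwi_3 hwi_6 hwi_8 hwi_5 hwi_8 hwi_7 hwi_3 hwi_3 hwi_7 hwi_7 hwi_3 hwi_3 hwi_8 hwi_2 hwi_8 hwi_3 hwi_3 hwi_6 hwi_7 hwi_5 hwi_7 hwi_7 hwi_3) (@D3.rec (fun _ => (HWord rels S)) hwi_2 hwi_6 hwi_7 hwi_5 hwi_7 hwi_7 hwi_3 hwi_3 hwi_7 hwi_7 hwi_2 hwi_3 hwi_8 hwi_2 hwi_8 hwi_8 hwi_7 hwi_8 hwi_3 hwi_8 hwi_1 hwi_7 hwi_2 hwi_8 hwi_1 hwi_8 hwi_7 hwi_3 hwi_2 hwi_4 hwi_4 hwi_5 hwi_4 hwi_3 hwi_5 hwi_6 hwi_4 hwi_3 hwi_5 hwi_5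 hwi_7 hwi_6 hwi_4 hwi_5 hwi_3 hwi_5 hwi_6 hwi_3 hwi_5 hwi_5 hwi_7) (@D3.rec (fun _ => (HWord rels S)) hwi_6 hwi_8 hwi_3 hwi_5 hwi_2 hwi_5 hwi_7 hwi_6 hwi_4 hwi_6 hwi_7 hwi_8 hwi_1 hwi_3 hwi_5 hwi_6 hwi_5 hwi_7 hwi_6 hwi_6 hwi_2 hwi_5 hwi_7 hwi_6 hwi_4 hwi_6 hwi_7 hwi_8 hwi_7 hwi_5 hwi_6 hwi_5 hwi_4 hwi_6 hwi_7 hwi_8 hwi_2 hwi_6 hwi_7 hwi_8 hwi_7 hwi_8 hwi_5 hwi_7 hwi_6 hwi_4 hwi_2 hwi_5 hwi_7 hwi_6 hwi_4) (@D3.rec (fun _ => (HWord rels S)) hwi_6 hwi_7 hwi_8 hwi_7 hwi_2 hwi_5 hwi_7 hwi_6 hwi_5 hwi_7 hwi_4 hwi_6 hwi_7 hwi_8 hwi_2 hwi_6 hwi_7 hwi_1 hwi_7 hwi_8 hwi_4 hwi_6 hwi_7 hwi_8 hwi_6 hwi_5 hwi_7 hwi_4 hwi_6 hwi_7 hwi_8 hwi_6 hwi_6 hwi_7 hwi_3 hwi_7 hwi_8 hwi_1 hwi_5 hwi_7 hwi_4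 hwi_6 hwi_7 hwi_8 hwi_6 hwi_4 hwi_6 hwi_7 hwi_3 hwi_8 hwi_6) (@D3.rec (fun _ => (HWord rels S)) hwi_7 hwi_2 hwi_7 hwi_8 hwi_5 hwi_8 hwi_7 hwi_3 hwi_8 hwi_1 hwi_8 hwi_6 hwi_7 hwi_5 hwi_7 hwi_8 hwi_4 hwi_6 hwi_7 hwi_8 hwi_6 hwi_7 hwi_5 hwi_7 hwi_8 hwi_5 hwi_4 hwi_7 hwi_3 hwi_8 hwi_3 hwi_8 hwi_5 hwi_7 hwi_4 hwi_6 hwi_7 hwi_3 hwi_8 hwi_6 hwi_7 hwi_5 hwi_7 hwi_8 hwi_3 hwi_6 hwi_7 hwi_3 hwi_7 hwi_3 hwi_8) (@D3.rec (fun _ => (HWord rels S)) hwi_4 hwi_8 hwi_5 hwi_4 hwi_7 hwi_3 hwi_8 hwi_2 hwi_8 hwi_8 hwi_7 hwi_2 hwi_3 hwi_8 hwi_2 hwi_8 hwi_7 hwi_2 hwi_5 hwi_7 hwi_6 hwi_5 hwi_7 hwi_4 hwi_6 hwi_7 hwi_8 hwi_8 hwi_6 hwi_7 hwi_2 hwi_7 hwi_8 hwi_1 hwi_5 hwi_7 hwi_4 hwi_6 hwi_7 hwi_8 hwi_2 hwi_4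 hwi_6 hwi_7 hwi_3 hwi_8 hwi_6 hwi_7 hwi_2 hwi_7 hwi_8) (@D3.rec (fun _ => (HWord rels S)) hwi_5 hwi_8 hwi_7 hwi_3 hwi_8 hwi_1 hwi_8 hwi_1 hwi_5 hwi_7 hwi_4 hwi_6 hwi_7 hwi_8 hwi_2 hwi_4 hwi_6 hwi_7 hwi_3 hwi_8 hwi_6 hwi_7 hwi_6 hwi_7 hwi_8 hwi_5 hwi_2 hwi_7 hwi_3 hwi_8 hwi_2 hwi_8 hwi_5 hwi_4 hwi_6 hwi_7 hwi_8 hwi_6 hwi_7 hwi_2 hwi_7 hwi_8 hwi_3 hwi_6 hwi_7 hwi_3 hwi_7 hwi_3 hwi_8 hwi_4 hwi_8) (@D3.rec (fun _ => (HWord rels S)) hwi_5 hwi_4 hwi_7 hwi_3 hwi_8 hwi_2 hwi_8 hwi_8 hwi_7 hwi_7 hwi_3 hwi_8 hwi_2 hwi_8 hwi_7 hwi_5 hwi_4 hwi_6 hwi_7 hwi_8 hwi_6 hwi_7 hwi_2 hwi_7 hwi_8 hwi_3 hwi_6 hwi_7 hwi_5 hwi_7 hwi_3 hwi_8 hwi_8 hwi_5 hwi_3 hwi_7 hwi_3 hwi_8 hwi_1 hwi_8 hwi_4 hwi_7 hwi_4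 hwi_3 hwi_8 hwi_2 hwi_8 hwi_8 hwi_4 hwi_6 hwi_3) (@D3.rec (fun _ => (HWord rels S)) hwi_6 hwi_7 hwi_3 hwi_7 hwi_8 hwi_5 hwi_3 hwi_7 hwi_3 hwi_8 hwi_3 hwi_8 hwi_6 hwi_7 hwi_5 hwi_4 hwi_7 hwi_3 hwi_8 hwi_3 hwi_3 hwi_8 hwi_4 hwi_8 hwi_5 hwi_8 hwi_3 hwi_7 hwi_3 hwi_3 hwi_8 hwi_2 hwi_8 hwi_4 hwi_3 hwi_3 hwi_3 hwi_8 hwi_7 hwi_3 hwi_2 hwi_8 hwi_1 hwi_8 hwi_7 hwi_5 hwi_7 hwi_6 hwi_7 hwi_5 hwi_7) (@D3.rec (fun _ => (HWord rels S)) hwi_7 hwi_7 hwi_8 hwi_3 hwi_2 hwi_7 hwi_8 hwi_3 hwi_8 hwi_8 hwi_7 hwi_2 hwi_8 hwi_1 hwi_8 hwi_7 hwi_6 hwi_7 hwi_5 hwi_3 hwi_2 hwi_7 hwi_8 hwi_3 hwi_2 hwi_5 hwi_4 hwi_7 hwi_3 hwi_8 hwi_3 hwi_7 hwi_8 hwi_3 hwi_2 hwi_7 hwi_8 hwi_3 hwi_8 hwi_8 hwi_3 hwi_2 hwi_8 hwi_1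 hwi_8 hwi_7 hwi_8 hwi_8 hwi_3 hwi_2 hwi_4) (@D3.rec (fun _ => (HWord rels S)) hwi_8 hwi_8 hwi_4 hwi_1 hwi_8 hwi_7 hwi_0 hwi_8 hwi_7 hwi_4 hwi_6 hwi_7 hwi_8 hwi_6 hwi_7 hwi_4 hwi_7 hwi_8 hwi_3 hwi_6 hwi_7 hwi_4 hwi_7 hwi_3 hwi_8 hwi_4 hwi_8 hwi_5 hwi_5 hwi_7 hwi_3 hwi_8 hwi_7 hwi_8 hwi_1 hwi_7 hwi_7 hwi_3 hwi_8 hwi_2 hwi_8 hwi_8 hwi_3 hwi_6 hwi_7 hwi_6 hwi_7 hwi_8 hwi_5 hwi_6 hwi_7) (@D3.rec (fun _ => (HWord rels S)) hwi_3 hwi_8 hwi_7 hwi_8 hwi_6 hwi_7 hwi_5 hwi_6 hwi_7 hwi_3 hwi_8 hwi_7 hwi_3 hwi_8 hwi_4 hwi_8 hwi_5 hwi_8 hwi_6 hwi_7 hwi_7 hwi_3 hwi_8 hwi_2 hwi_8 hwi_8 hwi_4 hwi_4 hwi_3 hwi_8 hwi_5 hwi_5 hwi_2 hwi_8 hwi_1 hwi_8 hwi_7 hwi_5 hwi_5 hwi_7 hwi_3 hwi_8 hwi_7 hwi_8 hwi_6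 hwi_7 hwi_7 hwi_3 hwi_8 hwi_2 hwi_8) (@D3.rec (fun _ => (HWord rels S)) hwi_8 hwi_6 hwi_7 hwi_7 hwi_3 hwi_8 hwi_2 hwi_4 hwi_8 hwi_7 hwi_8 hwi_4 hwi_8 hwi_5 hwi_8 hwi_6 hwi_8 hwi_3 hwi_3 hwi_3 hwi_8 hwi_7 hwi_3 hwi_2 hwi_8 hwi_1 hwi_8 hwi_7 hwi_3 hwi_7 hwi_3 hwi_2 hwi_4 hwi_8 hwi_7 hwi_7 hwi_1 hwi_8 hwi_7 hwi_0 hwi_8 hwi_7 hwi_7 hwi_8 hwi_3 hwi_8 hwi_8 hwi_0 hwi_2 hwi_8 hwi_1) (@D3.rec (fun _ => (HWord rels S)) hwi_8 hwi_7 hwi_8 hwi_2 hwi_4 hwi_8 hwi_8 hwi_1 hwi_1 hwi_8 hwi_7 hwi_0 hwi_8 hwi_7 hwi_0 hwi_8 hwi_7 hwi_7 hwi_8 hwi_4 hwi_5 hwi_6 hwi_3 hwi_5 hwi_2 hwi_6 hwi_7 hwi_2 hwi_5 hwi_6 hwi_2 hwi_7 hwi_5 hwi_7 hwi_6 hwi_5 hwi_4 hwi_6 hwi_6 hwi_5 hwi_4 hwi_7 hwi_4 hwi_6 hwi_7 hwi_5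 hwi_4 hwi_6 hwi_1 hwi_5 hwi_7) (@D3.rec (fun _ => (HWord rels S)) hwi_7 hwi_4 hwi_6 hwi_7 hwi_3 hwi_8 hwi_4 hwi_6 hwi_6 hwi_6 hwi_5 hwi_4 hwi_6 hwi_7 hwi_7 hwi_7 hwi_3 hwi_6 hwi_7 hwi_7 hwi_7 hwi_3 hwi_4 hwi_8 hwi_8 hwi_3 hwi_6 hwi_5 hwi_5 hwi_5 hwi_4 hwi_6 hwi_3 hwi_6 hwi_7 hwi_5 hwi_7 hwi_7 hwi_3 hwi_5 hwi_6 hwi_7 hwi_5 hwi_7 hwi_7 hwi_3 hwi_5 hwi_3 hwi_4 hwi_5 hwi_8) (@D3.rec (fun _ => (HWord rels S)) hwi_2 hwi_8 hwi_5 hwi_5 hwi_4 hwi_6 hwi_3 hwi_4 hwi_6 hwi_7 hwi_4 hwi_6 hwi_3 hwi_3 hwi_4 hwi_4 hwi_6 hwi_6 hwi_7 hwi_3 hwi_6 hwi_7 hwi_6 hwi_7 hwi_3 hwi_6 hwi_7 hwi_6 hwi_7 hwi_3 hwi_3 hwi_4 hwi_5 hwi_3 hwi_6 hwi_7 hwi_5 hwi_7 hwi_6 hwi_7 hwi_5 hwi_5 hwi_7 hwi_3 hwi_5 hwi_3 hwi_2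 hwi_6 hwi_7 hwi_5 hwi_7) (@D3.rec (fun _ => (HWord rels S)) hwi_5 hwi_3 hwi_7 hwi_3 hwi_8 hwi_3 hwi_4 hwi_5 hwi_4 hwi_5 hwi_6 hwi_6 hwi_7 hwi_5 hwi_2 hwi_7 hwi_3 hwi_3 hwi_2 hwi_5 hwi_5 hwi_7 hwi_3 hwi_8 hwi_8 hwi_7 hwi_2 hwi_3 hwi_2 hwi_2 hwi_1 hwi_2 hwi_7 hwi_1 hwi_2 hwi_6 hwi_7 hwi_5 hwi_5 hwi_5 hwi_1 hwi_7 hwi_8 hwi_2 hwi_4 hwi_2 hwi_7 hwi_2 hwi_8 hwi_3 hwi_6) (@D3.rec (fun _ => (HWord rels S)) hwi_4 hwi_6 hwi_7 hwi_3 hwi_3 hwi_4 hwi_5 hwi_6 hwi_7 hwi_6 hwi_6 hwi_7 hwi_3 hwi_8 hwi_3 hwi_2 hwi_4 hwi_6 hwi_4 hwi_5 hwi_6 hwi_4 hwi_5 hwi_6 hwi_8 hwi_6 hwi_7 hwi_5 hwi_5 hwi_7 hwi_3 hwi_8 hwi_3 hwi_2 hwi_4 hwi_4 hwi_5 hwi_6 hwi_8 hwi_2 hwi_4 hwi_8 hwi_5 hwi_6 hwi_8 hwi_4 hwi_7 hwi_3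 hwi_7 hwi_3 hwi_5) (@D3.rec (fun _ => (HWord rels S)) hwi_6 hwi_4 hwi_3 hwi_5 hwi_2 hwi_6 hwi_5 hwi_5 hwi_6 hwi_3 hwi_2 hwi_4 hwi_1 hwi_4 hwi_5 hwi_0 hwi_4 hwi_3 hwi_5 hwi_6 hwi_5 hwi_5 hwi_6 hwi_6 hwi_0 hwi_4 hwi_3 hwi_5 hwi_6 hwi_4 hwi_3 hwi_5 hwi_5 hwi_7 hwi_6 hwi_5 hwi_5 hwi_5 hwi_6 hwi_4 hwi_6 hwi_7 hwi_6 hwi_3 hwi_5 hwi_2 hwi_5 hwi_7 hwi_6 hwi_4 hwi_6) (@D3.rec (fun _ => (HWord rels S)) hwi_7 hwi_8 hwi_4 hwi_2 hwi_5 hwi_7 hwi_6 hwi_5 hwi_7 hwi_4 hwi_6 hwi_7 hwi_8 hwi_6 hwi_6 hwi_7 hwi_6 hwi_7 hwi_8 hwi_1 hwi_5 hwi_7 hwi_4 hwi_6 hwi_7 hwi_8 hwi_5 hwi_4 hwi_6 hwi_7 hwi_3 hwi_8 hwi_6 hwi_7 hwi_5 hwi_7 hwi_8 hwi_5 hwi_5 hwi_7 hwi_3 hwi_8 hwi_7 hwi_8 hwi_4 hwi_3 hwi_5 hwi_6 hwi_4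 hwi_3 hwi_5) (@D3.rec (fun _ => (HWord rels S)) hwi_5 hwi_7 hwi_6 hwi_7 hwi_3 hwi_5 hwi_5 hwi_7 hwi_6 hwi_8 hwi_3 hwi_5 hwi_2 hwi_5 hwi_7 hwi_6 hwi_4 hwi_6 hwi_7 hwi_8 hwi_7 hwi_2 hwi_5 hwi_7 hwi_6 hwi_4 hwi_6 hwi_7 hwi_8 hwi_8 hwi_5 hwi_6 hwi_5 hwi_4 hwi_6 hwi_7 hwi_7 hwi_6 hwi_7 hwi_7 hwi_7 hwi_8 hwi_2 hwi_5 hwi_7 hwi_6 hwi_4 hwi_6 hwi_7 hwi_8 hwi_8) (@D3.rec (fun _ => (HWord rels S)) hwi_2 hwi_5 hwi_7 hwi_6 hwi_5 hwi_7 hwi_4 hwi_6 hwi_7 hwi_8 hwi_7 hwi_6 hwi_7 hwi_3 hwi_7 hwi_8 hwi_5 hwi_7 hwi_4 hwi_6 hwi_7 hwi_8 hwi_8 hwi_6 hwi_7 hwi_8 hwi_7 hwi_8 hwi_1 hwi_5 hwi_7 hwi_4 hwi_6 hwi_7 hwi_8 hwi_7 hwi_4 hwi_6 hwi_7 hwi_3 hwi_8 hwi_6 hwi_7 hwi_3 hwi_7 hwi_8 hwi_5 hwi_3 hwi_7 hwi_3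 hwi_8) (@D3.rec (fun _ => (HWord rels S)) hwi_3 hwi_8 hwi_4 hwi_6 hwi_7 hwi_3 hwi_8 hwi_6 hwi_7 hwi_8 hwi_7 hwi_8 hwi_5 hwi_8 hwi_7 hwi_3 hwi_8 hwi_7 hwi_8 hwi_5 hwi_7 hwi_4 hwi_6 hwi_7 hwi_3 hwi_8 hwi_6 hwi_7 hwi_3 hwi_7 hwi_8 hwi_3 hwi_6 hwi_7 hwi_2 hwi_7 hwi_3 hwi_8 hwi_4 hwi_8 hwi_5 hwi_4 hwi_7 hwi_3 hwi_8 hwi_3 hwi_8 hwi_4 hwi_7 hwi_4 hwi_3) (@D3.rec (fun _ => (HWord rels S)) hwi_8 hwi_2 hwi_8 hwi_8 hwi_3 hwi_5 hwi_2 hwi_5 hwi_7 hwi_6 hwi_4 hwi_6 hwi_7 hwi_8 hwi_3 hwi_2 hwi_5 hwi_7 hwi_6 hwi_5 hwi_7 hwi_4 hwi_6 hwi_7 hwi_8 hwi_7 hwi_6 hwi_7 hwi_8 hwi_7 hwi_8 hwi_1 hwi_5 hwi_7 hwi_4 hwi_6 hwi_7 hwi_8 hwi_8 hwi_4 hwi_6 hwi_7 hwi_3 hwi_8 hwi_6 hwi_7 hwi_1 hwi_7 hwi_8 hwi_5 hwi_2)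 (@D3.rec (fun _ => (HWord rels S)) hwi_7 hwi_3 hwi_8 hwi_2 hwi_8 hwi_2 hwi_5 hwi_7 hwi_6 hwi_5 hwi_7 hwi_4 hwi_6 hwi_7 hwi_8 hwi_6 hwi_6 hwi_7 hwi_6 hwi_7 hwi_8 hwi_1 hwi_5 hwi_7 hwi_4 hwi_6 hwi_7 hwi_8 hwi_7 hwi_4 hwi_6 hwi_7 hwi_3 hwi_8 hwi_6 hwi_7 hwi_3 hwi_7 hwi_8 hwi_5 hwi_8 hwi_7 hwi_3 hwi_8 hwi_3 hwi_8 hwi_5 hwi_7 hwi_4 hwi_6 hwi_7)
def ow_5 : D2 → D3 → (HWord rels S) := @D2.rec (fun _ => D3 → (HWord rels S)) (@D3.rec (fun _ => (HWord rels S)) hwi_3 hwi_8 hwi_6 hwi_7 hwi_8 hwi_7 hwi_8 hwi_3 hwi_6 hwi_7 hwi_1 hwi_7 hwi_3 hwi_8 hwi_4 hwi_8 hwi_5 hwi_1 hwi_7 hwi_3 hwi_8 hwi_1 hwi_8 hwi_2 hwi_7 hwi_2 hwi_3 hwi_8 hwi_2 hwi_8 hwi_8 hwi_1 hwi_5 hwi_7 hwi_6 hwi_7 hwi_8 hwi_5 hwi_4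 hwi_6 hwi_7 hwi_3 hwi_8 hwi_6 hwi_7 hwi_4 hwi_7 hwi_8 hwi_5 hwi_1 hwi_7) (@D3.rec (fun _ => (HWord rels S)) hwi_3 hwi_8 hwi_4 hwi_8 hwi_5 hwi_7 hwi_4 hwi_6 hwi_7 hwi_3 hwi_8 hwi_6 hwi_7 hwi_3 hwi_7 hwi_8 hwi_3 hwi_6 hwi_7 hwi_8 hwi_7 hwi_3 hwi_8 hwi_4 hwi_8 hwi_5 hwi_8 hwi_7 hwi_3 hwi_8 hwi_3 hwi_8 hwi_3 hwi_7 hwi_3 hwi_3 hwi_8 hwi_2 hwi_8 hwi_7 hwi_4 hwi_6 hwi_7 hwi_8 hwi_3 hwi_6 hwi_7 hwi_0 hwi_7 hwi_3 hwi_8) (@D3.rec (fun _ => (HWord rels S)) hwi_8 hwi_5 hwi_3 hwi_7 hwi_3 hwi_8 hwi_0 hwi_8 hwi_6 hwi_7 hwi_5 hwi_4 hwi_7 hwi_3 hwi_8 hwi_1 hwi_3 hwi_8 hwi_4 hwi_8 hwi_5 hwi_8 hwi_7 hwi_4 hwi_7 hwi_4 hwi_3 hwi_8 hwi_2 hwi_8 hwi_8 hwi_4 hwi_4 hwi_3 hwi_8 hwi_3 hwi_8 hwi_2 hwi_8 hwi_1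 hwi_8 hwi_7 hwi_5 hwi_1 hwi_5 hwi_2 hwi_1 hwi_7 hwi_5 hwi_3 hwi_2) (@D3.rec (fun _ => (HWord rels S)) hwi_5 hwi_8 hwi_6 hwi_7 hwi_5 hwi_8 hwi_7 hwi_7 hwi_3 hwi_3 hwi_2 hwi_7 hwi_8 hwi_3 hwi_8 hwi_4 hwi_3 hwi_2 hwi_8 hwi_1 hwi_8 hwi_7 hwi_6 hwi_7 hwi_5 hwi_7 hwi_7 hwi_7 hwi_2 hwi_3 hwi_2 hwi_5 hwi_7 hwi_7 hwi_3 hwi_8 hwi_7 hwi_7 hwi_3 hwi_3 hwi_2 hwi_7 hwi_2 hwi_3 hwi_8 hwi_2 hwi_8 hwi_2 hwi_8 hwi_1 hwi_8) (@D3.rec (fun _ => (HWord rels S)) hwi_7 hwi_8 hwi_8 hwi_7 hwi_2 hwi_4 hwi_8 hwi_7 hwi_7 hwi_1 hwi_8 hwi_7 hwi_0 hwi_8 hwi_7 hwi_3 hwi_5 hwi_3 hwi_5 hwi_2 hwi_5 hwi_7 hwi_4 hwi_7 hwi_2 hwi_5 hwi_7 hwi_6 hwi_4 hwi_8 hwi_5 hwi_6 hwi_5 hwi_4 hwi_6 hwi_7 hwi_8 hwi_6 hwi_7 hwi_7 hwi_8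 hwi_8 hwi_5 hwi_7 hwi_4 hwi_6 hwi_7 hwi_8 hwi_6 hwi_6 hwi_7) (@D3.rec (fun _ => (HWord rels S)) hwi_8 hwi_4 hwi_6 hwi_6 hwi_4 hwi_6 hwi_6 hwi_7 hwi_2 hwi_7 hwi_8 hwi_5 hwi_8 hwi_7 hwi_3 hwi_8 hwi_8 hwi_8 hwi_7 hwi_8 hwi_5 hwi_7 hwi_4 hwi_6 hwi_7 hwi_8 hwi_4 hwi_6 hwi_7 hwi_3 hwi_7 hwi_8 hwi_1 hwi_5 hwi_7 hwi_4 hwi_6 hwi_7 hwi_8 hwi_4 hwi_4 hwi_6 hwi_7 hwi_3 hwi_8 hwi_6 hwi_7 hwi_2 hwi_7 hwi_8 hwi_5) (@D3.rec (fun _ => (HWord rels S)) hwi_8 hwi_7 hwi_3 hwi_8 hwi_1 hwi_8 hwi_7 hwi_7 hwi_8 hwi_4 hwi_6 hwi_7 hwi_8 hwi_6 hwi_7 hwi_6 hwi_7 hwi_8 hwi_5 hwi_3 hwi_7 hwi_3 hwi_8 hwi_3 hwi_8 hwi_5 hwi_7 hwi_4 hwi_6 hwi_7 hwi_3 hwi_8 hwi_6 hwi_7 hwi_6 hwi_7 hwi_8 hwi_3 hwi_6 hwi_7 hwi_3 hwi_7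 hwi_3 hwi_8 hwi_4 hwi_8 hwi_5 hwi_4 hwi_7 hwi_3 hwi_8) (@D3.rec (fun _ => (HWord rels S)) hwi_2 hwi_8 hwi_8 hwi_7 hwi_7 hwi_3 hwi_8 hwi_2 hwi_8 hwi_7 hwi_7 hwi_3 hwi_8 hwi_7 hwi_8 hwi_3 hwi_6 hwi_7 hwi_5 hwi_7 hwi_8 hwi_5 hwi_4 hwi_7 hwi_3 hwi_8 hwi_3 hwi_8 hwi_4 hwi_7 hwi_4 hwi_3 hwi_8 hwi_2 hwi_8 hwi_8 hwi_4 hwi_6 hwi_7 hwi_8 hwi_3 hwi_6 hwi_7 hwi_5 hwi_7 hwi_3 hwi_8 hwi_8 hwi_5 hwi_4 hwi_7) (@D3.rec (fun _ => (HWord rels S)) hwi_3 hwi_8 hwi_7 hwi_8 hwi_6 hwi_7 hwi_5 hwi_4 hwi_7 hwi_3 hwi_8 hwi_3 hwi_3 hwi_8 hwi_4 hwi_8 hwi_5 hwi_8 hwi_5 hwi_7 hwi_1 hwi_3 hwi_8 hwi_2 hwi_8 hwi_8 hwi_8 hwi_2 hwi_3 hwi_8 hwi_2 hwi_2 hwi_2 hwi_8 hwi_1 hwi_8 hwi_7 hwi_1 hwi_5 hwi_7 hwi_4 hwi_6 hwi_7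 hwi_8 hwi_2 hwi_4 hwi_6 hwi_7 hwi_3 hwi_8 hwi_6) (@D3.rec (fun _ => (HWord rels S)) hwi_7 hwi_2 hwi_7 hwi_8 hwi_5 hwi_2 hwi_7 hwi_3 hwi_8 hwi_2 hwi_8 hwi_5 hwi_4 hwi_6 hwi_7 hwi_8 hwi_6 hwi_7 hwi_2 hwi_7 hwi_8 hwi_3 hwi_6 hwi_7 hwi_3 hwi_7 hwi_3 hwi_8 hwi_4 hwi_8 hwi_5 hwi_4 hwi_7 hwi_3 hwi_8 hwi_2 hwi_8 hwi_8 hwi_7 hwi_7 hwi_3 hwi_8 hwi_2 hwi_8 hwi_7 hwi_5 hwi_4 hwi_6 hwi_7 hwi_8 hwi_6) (@D3.rec (fun _ => (HWord rels S)) hwi_7 hwi_2 hwi_7 hwi_8 hwi_3 hwi_6 hwi_7 hwi_6 hwi_7 hwi_3 hwi_8 hwi_8 hwi_5 hwi_1 hwi_7 hwi_3 hwi_8 hwi_1 hwi_8 hwi_2 hwi_7 hwi_2 hwi_3 hwi_8 hwi_2 hwi_8 hwi_8 hwi_4 hwi_6 hwi_3 hwi_6 hwi_7 hwi_3 hwi_7 hwi_8 hwi_5 hwi_6 hwi_7 hwi_3 hwi_8 hwi_3 hwi_8 hwi_6 hwi_7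 hwi_5 hwi_4 hwi_7 hwi_3 hwi_8 hwi_3 hwi_3) (@D3.rec (fun _ => (HWord rels S)) hwi_8 hwi_4 hwi_8 hwi_5 hwi_8 hwi_5 hwi_7 hwi_4 hwi_3 hwi_8 hwi_2 hwi_8 hwi_8 hwi_8 hwi_4 hwi_3 hwi_8 hwi_5 hwi_7 hwi_2 hwi_8 hwi_1 hwi_8 hwi_7 hwi_4 hwi_6 hwi_6 hwi_7 hwi_3 hwi_7 hwi_8 hwi_5 hwi_4 hwi_7 hwi_8 hwi_2 hwi_8 hwi_6 hwi_7 hwi_5 hwi_4 hwi_7 hwi_3 hwi_8 hwi_7 hwi_3 hwi_8 hwi_4 hwi_8 hwi_4 hwi_7) (@D3.rec (fun _ => (HWord rels S)) hwi_4 hwi_3 hwi_8 hwi_2 hwi_8 hwi_8 hwi_4 hwi_4 hwi_3 hwi_8 hwi_7 hwi_3 hwi_2 hwi_8 hwi_1 hwi_8 hwi_7 hwi_3 hwi_6 hwi_5 hwi_6 hwi_7 hwi_5 hwi_4 hwi_7 hwi_3 hwi_8 hwi_3 hwi_8 hwi_2 hwi_7 hwi_3 hwi_3 hwi_8 hwi_2 hwi_8 hwi_8 hwi_5 hwi_4 hwi_7 hwi_3 hwi_8 hwi_5 hwi_7 hwi_2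 hwi_3 hwi_8 hwi_2 hwi_4 hwi_8 hwi_7) (@D3.rec (fun _ => (HWord rels S)) hwi_8 hwi_4 hwi_8 hwi_5 hwi_8 hwi_6 hwi_8 hwi_3 hwi_3 hwi_3 hwi_8 hwi_7 hwi_3 hwi_2 hwi_8 hwi_1 hwi_8 hwi_7 hwi_3 hwi_7 hwi_3 hwi_2 hwi_4 hwi_8 hwi_7 hwi_7 hwi_1 hwi_8 hwi_7 hwi_0 hwi_8 hwi_7 hwi_8 hwi_5 hwi_4 hwi_7 hwi_8 hwi_8 hwi_7 hwi_8 hwi_3 hwi_8 hwi_2 hwi_1 hwi_8 hwi_8 hwi_7 hwi_2 hwi_4 hwi_8 hwi_8) (@D3.rec (fun _ => (HWord rels S)) hwi_7 hwi_1 hwi_8 hwi_7 hwi_0 hwi_8 hwi_7 hwi_5 hwi_4 hwi_7 hwi_8 hwi_3 hwi_2 hwi_8 hwi_3 hwi_8 hwi_2 hwi_1 hwi_4 hwi_4 hwi_7 hwi_4 hwi_3 hwi_8 hwi_2 hwi_8 hwi_3 hwi_8 hwi_3 hwi_8 hwi_2 hwi_1 hwi_8 hwi_8 hwi_3 hwi_2 hwi_4 hwi_8 hwi_8 hwi_4 hwi_1 hwi_8 hwi_7 hwi_0 hwi_8 hwi_7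 hwi_8 hwi_3 hwi_8 hwi_8 hwi_4) (@D3.rec (fun _ => (HWord rels S)) hwi_1 hwi_7 hwi_8 hwi_4 hwi_0 hwi_8 hwi_7 hwi_8 hwi_7 hwi_3 hwi_7 hwi_7 hwi_8 hwi_7 hwi_3 hwi_8 hwi_7 hwi_8 hwi_7 hwi_3 hwi_8 hwi_7 hwi_3 hwi_8 hwi_4 hwi_8 hwi_5 hwi_8 hwi_7 hwi_7 hwi_3 hwi_8 hwi_2 hwi_8 hwi_8 hwi_7 hwi_3 hwi_8 hwi_3 hwi_8 hwi_2 hwi_8 hwi_1 hwi_8 hwi_7 hwi_7 hwi_3 hwi_8 hwi_7 hwi_8 hwi_7) (@D3.rec (fun _ => (HWord rels S)) hwi_7 hwi_3 hwi_8 hwi_2 hwi_8 hwi_8 hwi_3 hwi_8 hwi_7 hwi_7 hwi_3 hwi_8 hwi_2 hwi_4 hwi_8 hwi_7 hwi_8 hwi_4 hwi_8 hwi_5 hwi_8 hwi_6 hwi_8 hwi_7 hwi_3 hwi_8 hwi_3 hwi_8 hwi_2 hwi_8 hwi_1 hwi_8 hwi_7 hwi_4 hwi_4 hwi_4 hwi_2 hwi_4 hwi_8 hwi_5 hwi_5 hwi_1 hwi_8 hwi_7 hwi_0 hwi_8 hwi_7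 hwi_7 hwi_7 hwi_3 hwi_8) (@D3.rec (fun _ => (HWord rels S)) hwi_2 hwi_8 hwi_8 hwi_7 hwi_3 hwi_8 hwi_7 hwi_8 hwi_2 hwi_8 hwi_1 hwi_8 hwi_7 hwi_7 hwi_3 hwi_8 hwi_3 hwi_8 hwi_2 hwi_4 hwi_8 hwi_1 hwi_4 hwi_8 hwi_5 hwi_8 hwi_7 hwi_7 hwi_8 hwi_5 hwi_8 hwi_6 hwi_8 hwi_7 hwi_8 hwi_3 hwi_7 hwi_3 hwi_2 hwi_4 hwi_8 hwi_7 hwi_7 hwi_1 hwi_8 hwi_7 hwi_0 hwi_8 hwi_7 hwi_3 hwi_7) (@D3.rec (fun _ => (HWord rels S)) hwi_1 hwi_8 hwi_8 hwi_7 hwi_7 hwi_0 hwi_8 hwi_8 hwi_7 hwi_8 hwi_2 hwi_4 hwi_8 hwi_8 hwi_0 hwi_1 hwi_8 hwi_7 hwi_0 hwi_8 hwi_7 hwi_8 hwi_1 hwi_4 hwi_8 hwi_0 hwi_7 hwi_8 hwi_7 hwi_3 hwi_7 hwi_3 hwi_3 hwi_4 hwi_6 hwi_5 hwi_7 hwi_3 hwi_3 hwi_4 hwi_3 hwi_6 hwi_6 hwi_4 hwi_6 hwi_3 hwi_7 hwi_7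 hwi_6 hwi_7 hwi_3) (@D3.rec (fun _ => (HWord rels S)) hwi_4 hwi_5 hwi_6 hwi_7 hwi_5 hwi_5 hwi_3 hwi_6 hwi_5 hwi_6 hwi_7 hwi_7 hwi_3 hwi_5 hwi_2 hwi_5 hwi_3 hwi_7 hwi_3 hwi_8 hwi_3 hwi_2 hwi_4 hwi_5 hwi_4 hwi_5 hwi_6 hwi_8 hwi_4 hwi_6 hwi_3 hwi_3 hwi_7 hwi_4 hwi_5 hwi_3 hwi_6 hwi_7 hwi_6 hwi_7 hwi_3 hwi_6 hwi_7 hwi_7 hwi_3 hwi_8 hwi_4 hwi_4 hwi_5 hwi_6 hwi_6) (@D3.rec (fun _ => (HWord rels S)) hwi_7 hwi_5 hwi_7 hwi_5 hwi_5 hwi_7 hwi_3 hwi_8 hwi_3 hwi_2 hwi_2 hwi_5 hwi_3 hwi_7 hwi_8 hwi_4 hwi_7 hwi_3 hwi_3 hwi_8 hwi_4 hwi_8 hwi_4 hwi_5 hwi_4 hwi_5 hwi_6 hwi_8 hwi_5 hwi_2 hwi_7 hwi_8 hwi_2 hwi_4 hwi_6 hwi_7 hwi_3 hwi_3 hwi_8 hwi_2 hwi_8 hwi_3 hwi_5 hwi_2 hwi_1 hwi_6 hwi_7 hwi_5 hwi_2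 hwi_7 hwi_8) (@D3.rec (fun _ => (HWord rels S)) hwi_6 hwi_4 hwi_1 hwi_7 hwi_1 hwi_8 hwi_0 hwi_7 hwi_2 hwi_8 hwi_8 hwi_3 hwi_8 hwi_4 hwi_4 hwi_5 hwi_6 hwi_8 hwi_3 hwi_8 hwi_2 hwi_4 hwi_8 hwi_4 hwi_4 hwi_5 hwi_6 hwi_5 hwi_6 hwi_8 hwi_4 hwi_6 hwi_8 hwi_8 hwi_3 hwi_8 hwi_2 hwi_4 hwi_8 hwi_4 hwi_5 hwi_5 hwi_6 hwi_3 hwi_7 hwi_3 hwi_4 hwi_3 hwi_2 hwi_5 hwi_6) (@D3.rec (fun _ => (HWord rels S)) hwi_7 hwi_7 hwi_7 hwi_7 hwi_8 hwi_7 hwi_7 hwi_8 hwi_7 hwi_7 hwi_8 hwi_7 hwi_3 hwi_8 hwi_7 hwi_7 hwi_8 hwi_7 hwi_3 hwi_8 hwi_7 hwi_8 hwi_7 hwi_7 hwi_3 hwi_8 hwi_7 hwi_7 hwi_8 hwi_7 hwi_7 hwi_3 hwi_8 hwi_4 hwi_8 hwi_7 hwi_3 hwi_8 hwi_7 hwi_8 hwi_7 hwi_7 hwi_3 hwi_8 hwi_2 hwi_8 hwi_8 hwi_3 hwi_5 hwi_5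 hwi_7) (@D3.rec (fun _ => (HWord rels S)) hwi_6 hwi_8 hwi_3 hwi_2 hwi_5 hwi_7 hwi_2 hwi_5 hwi_7 hwi_6 hwi_4 hwi_6 hwi_7 hwi_8 hwi_8 hwi_5 hwi_5 hwi_4 hwi_6 hwi_7 hwi_6 hwi_7 hwi_5 hwi_4 hwi_6 hwi_7 hwi_8 hwi_6 hwi_7 hwi_8 hwi_7 hwi_8 hwi_4 hwi_6 hwi_4 hwi_6 hwi_6 hwi_7 hwi_7 hwi_7 hwi_5 hwi_7 hwi_7 hwi_3 hwi_8 hwi_5 hwi_7 hwi_4 hwi_6 hwi_7 hwi_8) (@D3.rec (fun _ => (HWord rels S)) hwi_8 hwi_6 hwi_7 hwi_8 hwi_7 hwi_8 hwi_1 hwi_5 hwi_7 hwi_4 hwi_6 hwi_7 hwi_8 hwi_4 hwi_6 hwi_7 hwi_3 hwi_8 hwi_6 hwi_7 hwi_3 hwi_7 hwi_8 hwi_5 hwi_3 hwi_7 hwi_3 hwi_8 hwi_3 hwi_8 hwi_4 hwi_6 hwi_7 hwi_3 hwi_8 hwi_6 hwi_7 hwi_8 hwi_7 hwi_8 hwi_5 hwi_8 hwi_7 hwi_3 hwi_8 hwi_7 hwi_8 hwi_5 hwi_7 hwi_4 hwi_6)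 (@D3.rec (fun _ => (HWord rels S)) hwi_7 hwi_3 hwi_8 hwi_6 hwi_7 hwi_3 hwi_7 hwi_8 hwi_3 hwi_6 hwi_7 hwi_2 hwi_7 hwi_3 hwi_8 hwi_4 hwi_8 hwi_5 hwi_3 hwi_7 hwi_3 hwi_8 hwi_3 hwi_8 hwi_3 hwi_7 hwi_3 hwi_3 hwi_8 hwi_2 hwi_8 hwi_8 hwi_3 hwi_6 hwi_7 hwi_8 hwi_7 hwi_3 hwi_8 hwi_8 hwi_5 hwi_8 hwi_7 hwi_3 hwi_8 hwi_7 hwi_8 hwi_8 hwi_7 hwi_2 hwi_3) (@D3.rec (fun _ => (HWord rels S)) hwi_8 hwi_2 hwi_8 hwi_7 hwi_4 hwi_6 hwi_7 hwi_3 hwi_8 hwi_3 hwi_6 hwi_7 hwi_2 hwi_7 hwi_3 hwi_8 hwi_4 hwi_8 hwi_5 hwi_4 hwi_7 hwi_3 hwi_8 hwi_3 hwi_8 hwi_6 hwi_7 hwi_5 hwi_4 hwi_7 hwi_3 hwi_8 hwi_2 hwi_3 hwi_8 hwi_4 hwi_8 hwi_5 hwi_8 hwi_7 hwi_4 hwi_7 hwi_4 hwi_3 hwi_8 hwi_2 hwi_8 hwi_8 hwi_4 hwi_4 hwi_3)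
def ow_6 : D2 → D3 → (HWord rels S) := @D2.rec (fun _ => D3 → (HWord rels S)) (@D3.rec (fun _ => (HWord rels S)) hwi_8 hwi_4 hwi_8 hwi_2 hwi_8 hwi_1 hwi_8 hwi_7 hwi_2 hwi_5 hwi_7 hwi_6 hwi_5 hwi_7 hwi_4 hwi_6 hwi_7 hwi_8 hwi_3 hwi_6 hwi_7 hwi_4 hwi_7 hwi_8 hwi_1 hwi_5 hwi_7 hwi_4 hwi_6 hwi_7 hwi_8 hwi_7 hwi_4 hwi_6 hwi_7 hwi_3 hwi_8 hwi_6 hwi_7 hwi_3 hwi_7 hwi_8 hwi_5 hwi_8 hwi_7 hwi_3 hwi_8 hwi_3 hwi_8 hwi_5 hwi_7) (@D3.rec (fun _ => (HWord rels S)) hwi_4 hwi_6 hwi_7 hwi_3 hwi_8 hwi_6 hwi_7 hwi_8 hwi_7 hwi_8 hwi_3 hwi_6 hwi_7 hwi_1 hwi_7 hwi_3 hwi_8 hwi_4 hwi_8 hwi_5 hwi_1 hwi_7 hwi_3 hwi_8 hwi_1 hwi_8 hwi_2 hwi_7 hwi_2 hwi_3 hwi_8 hwi_2 hwi_8 hwi_8 hwi_1 hwi_5 hwi_7 hwi_4 hwi_6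 hwi_7 hwi_8 hwi_6 hwi_4 hwi_6 hwi_7 hwi_3 hwi_8 hwi_6 hwi_7 hwi_6 hwi_7) (@D3.rec (fun _ => (HWord rels S)) hwi_8 hwi_5 hwi_6 hwi_7 hwi_3 hwi_8 hwi_7 hwi_8 hwi_5 hwi_7 hwi_4 hwi_6 hwi_7 hwi_3 hwi_8 hwi_6 hwi_7 hwi_3 hwi_7 hwi_8 hwi_3 hwi_6 hwi_7 hwi_8 hwi_7 hwi_3 hwi_8 hwi_4 hwi_8 hwi_5 hwi_8 hwi_7 hwi_3 hwi_8 hwi_3 hwi_8 hwi_8 hwi_7 hwi_7 hwi_3 hwi_8 hwi_2 hwi_8 hwi_7 hwi_4 hwi_6 hwi_7 hwi_8 hwi_3 hwi_6 hwi_7) (@D3.rec (fun _ => (HWord rels S)) hwi_0 hwi_7 hwi_3 hwi_8 hwi_8 hwi_5 hwi_0 hwi_7 hwi_3 hwi_8 hwi_0 hwi_8 hwi_6 hwi_7 hwi_5 hwi_1 hwi_7 hwi_3 hwi_8 hwi_1 hwi_3 hwi_8 hwi_4 hwi_8 hwi_5 hwi_8 hwi_7 hwi_1 hwi_7 hwi_1 hwi_3 hwi_8 hwi_2 hwi_8 hwi_8 hwi_2 hwi_2 hwi_3 hwi_8 hwi_2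 hwi_8 hwi_2 hwi_8 hwi_1 hwi_8 hwi_7 hwi_5 hwi_7 hwi_6 hwi_7 hwi_3) (@D3.rec (fun _ => (HWord rels S)) hwi_8 hwi_5 hwi_7 hwi_8 hwi_6 hwi_7 hwi_4 hwi_7 hwi_3 hwi_8 hwi_4 hwi_8 hwi_5 hwi_2 hwi_7 hwi_8 hwi_4 hwi_8 hwi_1 hwi_7 hwi_1 hwi_3 hwi_8 hwi_2 hwi_8 hwi_8 hwi_4 hwi_6 hwi_7 hwi_8 hwi_6 hwi_7 hwi_2 hwi_7 hwi_3 hwi_8 hwi_8 hwi_5 hwi_8 hwi_7 hwi_8 hwi_3 hwi_8 hwi_6 hwi_7 hwi_5 hwi_8 hwi_7 hwi_3 hwi_8 hwi_3) (@D3.rec (fun _ => (HWord rels S)) hwi_3 hwi_8 hwi_4 hwi_8 hwi_5 hwi_8 hwi_7 hwi_3 hwi_7 hwi_3 hwi_3 hwi_8 hwi_2 hwi_8 hwi_8 hwi_3 hwi_3 hwi_3 hwi_8 hwi_7 hwi_8 hwi_2 hwi_8 hwi_1 hwi_8 hwi_7 hwi_3 hwi_6 hwi_7 hwi_0 hwi_7 hwi_8 hwi_6 hwi_7 hwi_5 hwi_3 hwi_7 hwi_3 hwi_8 hwi_0 hwi_3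 hwi_8 hwi_4 hwi_8 hwi_7 hwi_3 hwi_7 hwi_3 hwi_3 hwi_8 hwi_2) (@D3.rec (fun _ => (HWord rels S)) hwi_8 hwi_7 hwi_5 hwi_7 hwi_7 hwi_3 hwi_8 hwi_4 hwi_7 hwi_4 hwi_3 hwi_8 hwi_2 hwi_4 hwi_8 hwi_1 hwi_8 hwi_4 hwi_8 hwi_5 hwi_8 hwi_7 hwi_6 hwi_8 hwi_7 hwi_4 hwi_4 hwi_3 hwi_8 hwi_7 hwi_8 hwi_2 hwi_8 hwi_1 hwi_8 hwi_7 hwi_4 hwi_3 hwi_8 hwi_2 hwi_4 hwi_8 hwi_3 hwi_7 hwi_1 hwi_8 hwi_7 hwi_0 hwi_8 hwi_7 hwi_3) (@D3.rec (fun _ => (HWord rels S)) hwi_5 hwi_2 hwi_1 hwi_8 hwi_5 hwi_8 hwi_7 hwi_8 hwi_8 hwi_7 hwi_8 hwi_3 hwi_4 hwi_2 hwi_1 hwi_8 hwi_8 hwi_3 hwi_2 hwi_4 hwi_8 hwi_4 hwi_4 hwi_1 hwi_8 hwi_7 hwi_0 hwi_8 hwi_7 hwi_5 hwi_7 hwi_7 hwi_8 hwi_7 hwi_7 hwi_2 hwi_3 hwi_2 hwi_2 hwi_1 hwi_4 hwi_7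 hwi_7 hwi_3 hwi_3 hwi_8 hwi_2 hwi_8 hwi_7 hwi_3 hwi_3) (@D3.rec (fun _ => (HWord rels S)) hwi_4 hwi_2 hwi_1 hwi_2 hwi_2 hwi_7 hwi_2 hwi_4 hwi_8 hwi_3 hwi_8 hwi_1 hwi_8 hwi_7 hwi_0 hwi_8 hwi_7 hwi_8 hwi_7 hwi_7 hwi_7 hwi_7 hwi_1 hwi_4 hwi_8 hwi_8 hwi_7 hwi_2 hwi_7 hwi_3 hwi_0 hwi_8 hwi_7 hwi_8 hwi_7 hwi_3 hwi_2 hwi_4 hwi_7 hwi_5 hwi_7 hwi_4 hwi_8 hwi_4 hwi_4 hwi_6 hwi_7 hwi_7 hwi_8 hwi_5 hwi_7) (@D3.rec (fun _ => (HWord rels S)) hwi_3 hwi_4 hwi_6 hwi_7 hwi_6 hwi_7 hwi_8 hwi_5 hwi_8 hwi_6 hwi_3 hwi_6 hwi_5 hwi_4 hwi_7 hwi_3 hwi_8 hwi_2 hwi_8 hwi_8 hwi_7 hwi_8 hwi_3 hwi_8 hwi_2 hwi_8 hwi_8 hwi_4 hwi_6 hwi_7 hwi_8 hwi_6 hwi_7 hwi_3 hwi_7 hwi_8 hwi_8 hwi_8 hwi_5 hwi_7 hwi_4 hwi_6 hwi_7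 hwi_3 hwi_8 hwi_6 hwi_7 hwi_3 hwi_7 hwi_8 hwi_3) (@D3.rec (fun _ => (HWord rels S)) hwi_6 hwi_7 hwi_7 hwi_3 hwi_8 hwi_4 hwi_8 hwi_5 hwi_4 hwi_7 hwi_3 hwi_8 hwi_2 hwi_8 hwi_7 hwi_7 hwi_3 hwi_8 hwi_2 hwi_8 hwi_7 hwi_8 hwi_8 hwi_3 hwi_6 hwi_7 hwi_6 hwi_7 hwi_8 hwi_5 hwi_3 hwi_7 hwi_3 hwi_8 hwi_3 hwi_8 hwi_3 hwi_7 hwi_8 hwi_8 hwi_8 hwi_4 hwi_6 hwi_7 hwi_8 hwi_3 hwi_6 hwi_7 hwi_6 hwi_7 hwi_3) (@D3.rec (fun _ => (HWord rels S)) hwi_8 hwi_8 hwi_5 hwi_6 hwi_7 hwi_3 hwi_8 hwi_7 hwi_8 hwi_6 hwi_7 hwi_5 hwi_4 hwi_7 hwi_3 hwi_8 hwi_3 hwi_3 hwi_8 hwi_4 hwi_8 hwi_5 hwi_8 hwi_5 hwi_7 hwi_4 hwi_3 hwi_8 hwi_2 hwi_8 hwi_8 hwi_8 hwi_7 hwi_3 hwi_8 hwi_7 hwi_7 hwi_2 hwi_8 hwi_1 hwi_8 hwi_7 hwi_3 hwi_8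 hwi_2 hwi_8 hwi_8 hwi_6 hwi_7 hwi_5 hwi_4) (@D3.rec (fun _ => (HWord rels S)) hwi_7 hwi_3 hwi_8 hwi_7 hwi_8 hwi_4 hwi_7 hwi_4 hwi_3 hwi_8 hwi_2 hwi_8 hwi_8 hwi_4 hwi_4 hwi_3 hwi_8 hwi_4 hwi_8 hwi_2 hwi_8 hwi_1 hwi_8 hwi_7 hwi_3 hwi_6 hwi_7 hwi_5 hwi_7 hwi_8 hwi_6 hwi_7 hwi_5 hwi_4 hwi_7 hwi_3 hwi_8 hwi_7 hwi_3 hwi_8 hwi_4 hwi_8 hwi_4 hwi_7 hwi_0 hwi_3 hwi_8 hwi_2 hwi_8 hwi_8 hwi_5) (@D3.rec (fun _ => (HWord rels S)) hwi_4 hwi_7 hwi_3 hwi_8 hwi_5 hwi_7 hwi_4 hwi_3 hwi_8 hwi_2 hwi_4 hwi_8 hwi_7 hwi_8 hwi_4 hwi_8 hwi_5 hwi_8 hwi_6 hwi_8 hwi_8 hwi_1 hwi_3 hwi_8 hwi_1 hwi_1 hwi_2 hwi_8 hwi_1 hwi_8 hwi_7 hwi_2 hwi_2 hwi_7 hwi_2 hwi_4 hwi_8 hwi_3 hwi_2 hwi_1 hwi_8 hwi_7 hwi_0 hwi_8 hwi_7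 hwi_5 hwi_4 hwi_6 hwi_7 hwi_8 hwi_6) (@D3.rec (fun _ => (HWord rels S)) hwi_7 hwi_2 hwi_7 hwi_8 hwi_3 hwi_6 hwi_7 hwi_3 hwi_7 hwi_3 hwi_8 hwi_8 hwi_5 hwi_1 hwi_7 hwi_3 hwi_8 hwi_1 hwi_8 hwi_8 hwi_8 hwi_8 hwi_4 hwi_6 hwi_3 hwi_6 hwi_7 hwi_3 hwi_7 hwi_8 hwi_5 hwi_2 hwi_7 hwi_3 hwi_8 hwi_3 hwi_8 hwi_6 hwi_7 hwi_5 hwi_4 hwi_7 hwi_3 hwi_8 hwi_3 hwi_3 hwi_8 hwi_4 hwi_8 hwi_5 hwi_8) (@D3.rec (fun _ => (HWord rels S)) hwi_8 hwi_7 hwi_4 hwi_3 hwi_8 hwi_2 hwi_8 hwi_8 hwi_8 hwi_7 hwi_3 hwi_8 hwi_4 hwi_7 hwi_2 hwi_8 hwi_1 hwi_8 hwi_7 hwi_4 hwi_6 hwi_3 hwi_6 hwi_7 hwi_3 hwi_7 hwi_8 hwi_5 hwi_6 hwi_7 hwi_3 hwi_8 hwi_2 hwi_8 hwi_6 hwi_7 hwi_5 hwi_6 hwi_7 hwi_3 hwi_8 hwi_7 hwi_3 hwi_8 hwi_4 hwi_8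 hwi_1 hwi_7 hwi_1 hwi_3 hwi_8) (@D3.rec (fun _ => (HWord rels S)) hwi_2 hwi_8 hwi_8 hwi_2 hwi_2 hwi_3 hwi_8 hwi_8 hwi_8 hwi_1 hwi_8 hwi_7 hwi_3 hwi_6 hwi_6 hwi_6 hwi_7 hwi_5 hwi_6 hwi_7 hwi_3 hwi_8 hwi_3 hwi_8 hwi_5 hwi_7 hwi_4 hwi_3 hwi_8 hwi_2 hwi_8 hwi_8 hwi_5 hwi_4 hwi_7 hwi_3 hwi_8 hwi_5 hwi_7 hwi_4 hwi_3 hwi_8 hwi_2 hwi_4 hwi_8 hwi_7 hwi_8 hwi_4 hwi_8 hwi_5 hwi_8) (@D3.rec (fun _ => (HWord rels S)) hwi_6 hwi_8 hwi_8 hwi_4 hwi_3 hwi_8 hwi_4 hwi_7 hwi_2 hwi_8 hwi_1 hwi_8 hwi_7 hwi_4 hwi_4 hwi_7 hwi_2 hwi_4 hwi_8 hwi_5 hwi_3 hwi_1 hwi_8 hwi_7 hwi_0 hwi_8 hwi_7 hwi_6 hwi_5 hwi_5 hwi_4 hwi_7 hwi_3 hwi_8 hwi_3 hwi_8 hwi_4 hwi_7 hwi_4 hwi_8 hwi_8 hwi_5 hwi_4 hwi_7 hwi_3 hwi_8 hwi_4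 hwi_7 hwi_7 hwi_3 hwi_8) (@D3.rec (fun _ => (HWord rels S)) hwi_2 hwi_4 hwi_8 hwi_7 hwi_8 hwi_4 hwi_8 hwi_8 hwi_4 hwi_4 hwi_3 hwi_8 hwi_7 hwi_3 hwi_2 hwi_8 hwi_1 hwi_8 hwi_4 hwi_3 hwi_8 hwi_2 hwi_4 hwi_8 hwi_3 hwi_7 hwi_1 hwi_8 hwi_7 hwi_0 hwi_8 hwi_7 hwi_6 hwi_7 hwi_5 hwi_4 hwi_5 hwi_4 hwi_7 hwi_3 hwi_8 hwi_3 hwi_7 hwi_2 hwi_3 hwi_8 hwi_2 hwi_8 hwi_8 hwi_2 hwi_3) (@D3.rec (fun _ => (HWord rels S)) hwi_3 hwi_8 hwi_7 hwi_3 hwi_2 hwi_8 hwi_1 hwi_8 hwi_4 hwi_5 hwi_7 hwi_4 hwi_3 hwi_8 hwi_2 hwi_4 hwi_8 hwi_3 hwi_2 hwi_3 hwi_8 hwi_2 hwi_2 hwi_2 hwi_4 hwi_8 hwi_1 hwi_4 hwi_8 hwi_5 hwi_8 hwi_7 hwi_7 hwi_8 hwi_5 hwi_8 hwi_6 hwi_8 hwi_7 hwi_8 hwi_3 hwi_7 hwi_3 hwi_2 hwi_4 hwi_8 hwi_7 hwi_7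 hwi_1 hwi_8 hwi_7) (@D3.rec (fun _ => (HWord rels S)) hwi_0 hwi_8 hwi_7 hwi_7 hwi_3 hwi_7 hwi_7 hwi_7 hwi_1 hwi_4 hwi_8 hwi_8 hwi_7 hwi_7 hwi_7 hwi_8 hwi_0 hwi_8 hwi_7 hwi_8 hwi_7 hwi_3 hwi_8 hwi_4 hwi_8 hwi_7 hwi_4 hwi_8 hwi_8 hwi_8 hwi_8 hwi_2 hwi_4 hwi_8 hwi_1 hwi_0 hwi_8 hwi_7 hwi_7 hwi_7 hwi_7 hwi_1 hwi_4 hwi_8 hwi_8 hwi_7 hwi_8 hwi_7 hwi_3 hwi_0 hwi_8) (@D3.rec (fun _ => (HWord rels S)) hwi_7 hwi_8 hwi_7 hwi_3 hwi_4 hwi_4 hwi_7 hwi_4 hwi_8 hwi_3 hwi_8 hwi_8 hwi_2 hwi_4 hwi_8 hwi_1 hwi_0 hwi_0 hwi_7 hwi_4 hwi_4 hwi_3 hwi_8 hwi_7 hwi_8 hwi_2 hwi_8 hwi_1 hwi_8 hwi_8 hwi_8 hwi_2 hwi_4 hwi_8 hwi_1 hwi_0 hwi_8 hwi_3 hwi_8 hwi_8 hwi_4 hwi_1 hwi_4 hwi_8 hwi_8 hwi_7 hwi_8 hwi_4 hwi_4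 hwi_0 hwi_8) (@D3.rec (fun _ => (HWord rels S)) hwi_7 hwi_8 hwi_7 hwi_3 hwi_0 hwi_8 hwi_8 hwi_7 hwi_3 hwi_7 hwi_3 hwi_4 hwi_8 hwi_8 hwi_3 hwi_8 hwi_2 hwi_8 hwi_8 hwi_8 hwi_2 hwi_4 hwi_8 hwi_7 hwi_8 hwi_4 hwi_8 hwi_5 hwi_8 hwi_6 hwi_8 hwi_3 hwi_8 hwi_3 hwi_8 hwi_2 hwi_8 hwi_1 hwi_8 hwi_7 hwi_3 hwi_8 hwi_2 hwi_4 hwi_8 hwi_2 hwi_8 hwi_1 hwi_8 hwi_7 hwi_0) (@D3.rec (fun _ => (HWord rels S)) hwi_8 hwi_7 hwi_8 hwi_2 hwi_8 hwi_8 hwi_3 hwi_8 hwi_3 hwi_8 hwi_2 hwi_8 hwi_1 hwi_8 hwi_7 hwi_2 hwi_4 hwi_8 hwi_8 hwi_8 hwi_2 hwi_4 hwi_8 hwi_1 hwi_4 hwi_8 hwi_5 hwi_8 hwi_7 hwi_3 hwi_8 hwi_5 hwi_8 hwi_6 hwi_8 hwi_7 hwi_8 hwi_3 hwi_8 hwi_2 hwi_4 hwi_8 hwi_3 hwi_8 hwi_1 hwi_8 hwi_7 hwi_0 hwi_8 hwi_7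 hwi_4) (@D3.rec (fun _ => (HWord rels S)) hwi_4 hwi_4 hwi_1 hwi_4 hwi_8 hwi_8 hwi_7 hwi_2 hwi_5 hwi_4 hwi_0 hwi_8 hwi_7 hwi_8 hwi_7 hwi_3 hwi_3 hwi_8 hwi_3 hwi_8 hwi_2 hwi_8 hwi_1 hwi_8 hwi_7 hwi_7 hwi_8 hwi_2 hwi_4 hwi_8 hwi_7 hwi_7 hwi_1 hwi_8 hwi_7 hwi_0 hwi_8 hwi_7 hwi_3 hwi_8 hwi_2 hwi_4 hwi_8 hwi_3 hwi_4 hwi_8 hwi_1 hwi_4 hwi_8 hwi_5 hwi_8) (@D3.rec (fun _ => (HWord rels S)) hwi_7 hwi_0 hwi_4 hwi_8 hwi_5 hwi_8 hwi_7 hwi_6 hwi_8 hwi_7 hwi_4 hwi_8 hwi_6 hwi_8 hwi_7 hwi_8 hwi_7 hwi_3 hwi_7 hwi_7 hwi_1 hwi_4 hwi_8 hwi_8 hwi_7 hwi_7 hwi_7 hwi_8 hwi_0 hwi_8 hwi_7 hwi_8 hwi_7 hwi_3 hwi_0 hwi_7 hwi_8 hwi_7 hwi_8 hwi_1 hwi_4 hwi_8 hwi_8 hwi_0 hwi_0 hwi_8 hwi_7 hwi_8 hwi_7 hwi_3 hwi_3)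 (@D3.rec (fun _ => (HWord rels S)) hwi_3 hwi_7 hwi_3 hwi_4 hwi_2 hwi_5 hwi_7 hwi_7 hwi_8 hwi_5 hwi_6 hwi_5 hwi_5 hwi_7 hwi_8 hwi_2 hwi_6 hwi_7 hwi_7 hwi_3 hwi_8 hwi_3 hwi_4 hwi_7 hwi_3 hwi_3 hwi_8 hwi_2 hwi_4 hwi_8 hwi_4 hwi_4 hwi_5 hwi_6 hwi_8 hwi_7 hwi_7 hwi_8 hwi_5 hwi_6 hwi_7 hwi_7 hwi_3 hwi_8 hwi_7 hwi_8 hwi_8 hwi_4 hwi_8 hwi_5 hwi_5)
def ow_7 : D2 → D3 → (HWord rels S) := @D2.rec (fun _ => D3 → (HWord rels S)) (@D3.rec (fun _ => (HWord rels S)) hwi_6 hwi_8 hwi_5 hwi_3 hwi_7 hwi_8 hwi_4 hwi_7 hwi_7 hwi_3 hwi_8 hwi_2 hwi_8 hwi_2 hwi_4 hwi_7 hwi_3 hwi_8 hwi_7 hwi_8 hwi_8 hwi_4 hwi_8 hwi_5 hwi_8 hwi_5 hwi_6 hwi_4 hwi_6 hwi_8 hwi_4 hwi_7 hwi_2 hwi_8 hwi_8 hwi_7 hwi_3 hwi_3 hwi_8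 hwi_7 hwi_8 hwi_2 hwi_8 hwi_1 hwi_8 hwi_7 hwi_8 hwi_7 hwi_2 hwi_8 hwi_7) (@D3.rec (fun _ => (HWord rels S)) hwi_1 hwi_8 hwi_8 hwi_0 hwi_3 hwi_8 hwi_8 hwi_4 hwi_8 hwi_5 hwi_5 hwi_6 hwi_4 hwi_8 hwi_4 hwi_5 hwi_8 hwi_5 hwi_6 hwi_5 hwi_6 hwi_8 hwi_4 hwi_8 hwi_4 hwi_8 hwi_5 hwi_6 hwi_8 hwi_3 hwi_8 hwi_8 hwi_8 hwi_8 hwi_3 hwi_8 hwi_8 hwi_3 hwi_8 hwi_4 hwi_8 hwi_3 hwi_8 hwi_8 hwi_8 hwi_8 hwi_8 hwi_3 hwi_8 hwi_3 hwi_8) (@D3.rec (fun _ => (HWord rels S)) hwi_4 hwi_8 hwi_3 hwi_8 hwi_8 hwi_8 hwi_3 hwi_8 hwi_4 hwi_8 hwi_5 hwi_8 hwi_7 hwi_3 hwi_8 hwi_2 hwi_8 hwi_8 hwi_3 hwi_8 hwi_3 hwi_8 hwi_2 hwi_8 hwi_1 hwi_8 hwi_7 hwi_2 hwi_5 hwi_7 hwi_5 hwi_5 hwi_4 hwi_6 hwi_7 hwi_6 hwi_7 hwi_4 hwi_4 hwi_6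 hwi_6 hwi_7 hwi_4 hwi_6 hwi_6 hwi_7 hwi_8 hwi_7 hwi_5 hwi_8 hwi_7) (@D3.rec (fun _ => (HWord rels S)) hwi_3 hwi_8 hwi_6 hwi_3 hwi_6 hwi_7 hwi_5 hwi_7 hwi_7 hwi_3 hwi_7 hwi_7 hwi_4 hwi_6 hwi_7 hwi_3 hwi_8 hwi_6 hwi_7 hwi_8 hwi_7 hwi_8 hwi_5 hwi_8 hwi_7 hwi_3 hwi_8 hwi_7 hwi_8 hwi_5 hwi_7 hwi_4 hwi_6 hwi_7 hwi_3 hwi_8 hwi_6 hwi_7 hwi_8 hwi_3 hwi_6 hwi_7 hwi_2 hwi_7 hwi_3 hwi_8 hwi_4 hwi_8 hwi_5 hwi_3 hwi_7) (@D3.rec (fun _ => (HWord rels S)) hwi_3 hwi_8 hwi_8 hwi_8 hwi_8 hwi_8 hwi_3 hwi_6 hwi_7 hwi_8 hwi_7 hwi_3 hwi_8 hwi_8 hwi_5 hwi_8 hwi_7 hwi_3 hwi_8 hwi_7 hwi_8 hwi_8 hwi_7 hwi_7 hwi_3 hwi_8 hwi_2 hwi_8 hwi_7 hwi_4 hwi_6 hwi_7 hwi_3 hwi_8 hwi_3 hwi_6 hwi_7 hwi_2 hwi_7 hwi_3 hwi_8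 hwi_4 hwi_8 hwi_5 hwi_4 hwi_7 hwi_3 hwi_8 hwi_8 hwi_6 hwi_7) (@D3.rec (fun _ => (HWord rels S)) hwi_5 hwi_2 hwi_7 hwi_3 hwi_8 hwi_2 hwi_3 hwi_8 hwi_4 hwi_8 hwi_5 hwi_8 hwi_7 hwi_3 hwi_7 hwi_3 hwi_3 hwi_8 hwi_2 hwi_8 hwi_8 hwi_3 hwi_3 hwi_3 hwi_8 hwi_8 hwi_8 hwi_1 hwi_8 hwi_7 hwi_6 hwi_7 hwi_5 hwi_8 hwi_7 hwi_3 hwi_8 hwi_7 hwi_3 hwi_8 hwi_4 hwi_8 hwi_7 hwi_8 hwi_7 hwi_7 hwi_3 hwi_8 hwi_2 hwi_8 hwi_7) (@D3.rec (fun _ => (HWord rels S)) hwi_8 hwi_2 hwi_3 hwi_8 hwi_2 hwi_7 hwi_2 hwi_8 hwi_1 hwi_8 hwi_7 hwi_3 hwi_6 hwi_7 hwi_1 hwi_7 hwi_3 hwi_8 hwi_2 hwi_8 hwi_6 hwi_7 hwi_5 hwi_4 hwi_7 hwi_3 hwi_8 hwi_2 hwi_3 hwi_8 hwi_4 hwi_8 hwi_5 hwi_8 hwi_7 hwi_5 hwi_7 hwi_4 hwi_3 hwi_8 hwi_2 hwi_8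 hwi_8 hwi_5 hwi_3 hwi_7 hwi_3 hwi_8 hwi_4 hwi_7 hwi_4) (@D3.rec (fun _ => (HWord rels S)) hwi_3 hwi_8 hwi_2 hwi_4 hwi_8 hwi_2 hwi_8 hwi_4 hwi_8 hwi_5 hwi_8 hwi_7 hwi_6 hwi_8 hwi_7 hwi_4 hwi_4 hwi_3 hwi_8 hwi_4 hwi_8 hwi_2 hwi_8 hwi_1 hwi_8 hwi_7 hwi_4 hwi_4 hwi_8 hwi_2 hwi_4 hwi_8 hwi_4 hwi_8 hwi_1 hwi_8 hwi_7 hwi_0 hwi_8 hwi_7 hwi_1 hwi_5 hwi_7 hwi_4 hwi_6 hwi_7 hwi_8 hwi_3 hwi_7 hwi_3 hwi_8) (@D3.rec (fun _ => (HWord rels S)) hwi_7 hwi_4 hwi_7 hwi_8 hwi_5 hwi_7 hwi_3 hwi_8 hwi_7 hwi_8 hwi_5 hwi_7 hwi_4 hwi_6 hwi_7 hwi_3 hwi_8 hwi_6 hwi_7 hwi_3 hwi_7 hwi_8 hwi_3 hwi_6 hwi_7 hwi_8 hwi_7 hwi_3 hwi_8 hwi_4 hwi_8 hwi_5 hwi_8 hwi_7 hwi_3 hwi_8 hwi_3 hwi_8 hwi_8 hwi_7 hwi_7 hwi_3 hwi_8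 hwi_2 hwi_8 hwi_7 hwi_4 hwi_6 hwi_7 hwi_8 hwi_3) (@D3.rec (fun _ => (HWord rels S)) hwi_6 hwi_7 hwi_0 hwi_7 hwi_3 hwi_8 hwi_8 hwi_5 hwi_0 hwi_7 hwi_3 hwi_8 hwi_0 hwi_8 hwi_6 hwi_7 hwi_5 hwi_1 hwi_7 hwi_3 hwi_8 hwi_1 hwi_3 hwi_8 hwi_4 hwi_8 hwi_5 hwi_8 hwi_7 hwi_1 hwi_7 hwi_1 hwi_3 hwi_8 hwi_2 hwi_8 hwi_8 hwi_2 hwi_8 hwi_8 hwi_8 hwi_1 hwi_8 hwi_7 hwi_7 hwi_6 hwi_7 hwi_3 hwi_8 hwi_6 hwi_7) (@D3.rec (fun _ => (HWord rels S)) hwi_6 hwi_7 hwi_8 hwi_7 hwi_7 hwi_3 hwi_8 hwi_4 hwi_8 hwi_5 hwi_7 hwi_3 hwi_8 hwi_7 hwi_8 hwi_6 hwi_7 hwi_7 hwi_3 hwi_8 hwi_2 hwi_8 hwi_8 hwi_4 hwi_6 hwi_7 hwi_8 hwi_3 hwi_6 hwi_7 hwi_2 hwi_7 hwi_3 hwi_8 hwi_8 hwi_5 hwi_4 hwi_7 hwi_3 hwi_8 hwi_3 hwi_8 hwi_6 hwi_7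 hwi_5 hwi_8 hwi_7 hwi_3 hwi_8 hwi_2 hwi_3) (@D3.rec (fun _ => (HWord rels S)) hwi_8 hwi_4 hwi_8 hwi_5 hwi_8 hwi_7 hwi_8 hwi_7 hwi_4 hwi_3 hwi_8 hwi_2 hwi_8 hwi_8 hwi_8 hwi_4 hwi_3 hwi_8 hwi_4 hwi_7 hwi_2 hwi_8 hwi_1 hwi_8 hwi_7 hwi_3 hwi_6 hwi_7 hwi_0 hwi_7 hwi_8 hwi_6 hwi_7 hwi_5 hwi_0 hwi_7 hwi_3 hwi_8 hwi_0 hwi_3 hwi_8 hwi_4 hwi_8 hwi_7 hwi_0 hwi_7 hwi_0 hwi_3 hwi_8 hwi_2 hwi_8) (@D3.rec (fun _ => (HWord rels S)) hwi_7 hwi_5 hwi_1 hwi_7 hwi_3 hwi_8 hwi_1 hwi_7 hwi_1 hwi_3 hwi_8 hwi_2 hwi_4 hwi_8 hwi_1 hwi_8 hwi_4 hwi_8 hwi_5 hwi_8 hwi_7 hwi_6 hwi_8 hwi_7 hwi_1 hwi_1 hwi_3 hwi_8 hwi_1 hwi_8 hwi_2 hwi_8 hwi_1 hwi_8 hwi_7 hwi_2 hwi_2 hwi_8 hwi_2 hwi_4 hwi_8 hwi_8 hwi_1 hwi_8 hwi_7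 hwi_0 hwi_8 hwi_7 hwi_7 hwi_3 hwi_8) (@D3.rec (fun _ => (HWord rels S)) hwi_7 hwi_3 hwi_8 hwi_8 hwi_7 hwi_8 hwi_7 hwi_3 hwi_8 hwi_4 hwi_3 hwi_8 hwi_4 hwi_8 hwi_5 hwi_8 hwi_7 hwi_7 hwi_2 hwi_8 hwi_8 hwi_1 hwi_3 hwi_8 hwi_7 hwi_8 hwi_2 hwi_8 hwi_1 hwi_8 hwi_6 hwi_7 hwi_8 hwi_7 hwi_8 hwi_5 hwi_8 hwi_7 hwi_3 hwi_8 hwi_2 hwi_3 hwi_8 hwi_4 hwi_8 hwi_7 hwi_8 hwi_7 hwi_4 hwi_8 hwi_8) (@D3.rec (fun _ => (HWord rels S)) hwi_5 hwi_8 hwi_7 hwi_3 hwi_8 hwi_2 hwi_7 hwi_3 hwi_3 hwi_8 hwi_2 hwi_4 hwi_8 hwi_4 hwi_7 hwi_4 hwi_8 hwi_5 hwi_8 hwi_7 hwi_6 hwi_8 hwi_7 hwi_3 hwi_3 hwi_3 hwi_8 hwi_4 hwi_8 hwi_2 hwi_8 hwi_1 hwi_8 hwi_3 hwi_7 hwi_3 hwi_2 hwi_4 hwi_8 hwi_7 hwi_8 hwi_1 hwi_8 hwi_7 hwi_0 hwi_8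 hwi_7 hwi_6 hwi_7 hwi_5 hwi_4) (@D3.rec (fun _ => (HWord rels S)) hwi_7 hwi_3 hwi_8 hwi_0 hwi_8 hwi_5 hwi_7 hwi_7 hwi_3 hwi_8 hwi_3 hwi_7 hwi_4 hwi_3 hwi_8 hwi_2 hwi_4 hwi_8 hwi_0 hwi_8 hwi_4 hwi_8 hwi_8 hwi_7 hwi_3 hwi_4 hwi_3 hwi_8 hwi_7 hwi_8 hwi_2 hwi_8 hwi_1 hwi_8 hwi_4 hwi_7 hwi_7 hwi_2 hwi_3 hwi_8 hwi_2 hwi_4 hwi_8 hwi_4 hwi_4 hwi_3 hwi_8 hwi_3 hwi_8 hwi_2 hwi_4) (@D3.rec (fun _ => (HWord rels S)) hwi_8 hwi_1 hwi_4 hwi_8 hwi_5 hwi_8 hwi_7 hwi_4 hwi_8 hwi_5 hwi_8 hwi_7 hwi_6 hwi_8 hwi_7 hwi_3 hwi_8 hwi_7 hwi_4 hwi_3 hwi_8 hwi_2 hwi_4 hwi_8 hwi_7 hwi_8 hwi_1 hwi_8 hwi_7 hwi_0 hwi_8 hwi_7 hwi_3 hwi_8 hwi_3 hwi_3 hwi_7 hwi_1 hwi_4 hwi_8 hwi_8 hwi_7 hwi_3 hwi_8 hwi_8 hwi_0 hwi_8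 hwi_7 hwi_8 hwi_7 hwi_3) (@D3.rec (fun _ => (HWord rels S)) hwi_4 hwi_8 hwi_4 hwi_8 hwi_7 hwi_7 hwi_8 hwi_8 hwi_8 hwi_8 hwi_2 hwi_4 hwi_4 hwi_1 hwi_8 hwi_3 hwi_8 hwi_8 hwi_4 hwi_1 hwi_7 hwi_4 hwi_8 hwi_7 hwi_8 hwi_7 hwi_3 hwi_4 hwi_7 hwi_7 hwi_3 hwi_8 hwi_7 hwi_2 hwi_2 hwi_2 hwi_4 hwi_3 hwi_1 hwi_0 hwi_7 hwi_7 hwi_7 hwi_3 hwi_3 hwi_8 hwi_4 hwi_8 hwi_2 hwi_8 hwi_1) (@D3.rec (fun _ => (HWord rels S)) hwi_8 hwi_3 hwi_4 hwi_2 hwi_4 hwi_4 hwi_1 hwi_0 hwi_2 hwi_7 hwi_3 hwi_7 hwi_7 hwi_1 hwi_4 hwi_8 hwi_8 hwi_7 hwi_3 hwi_8 hwi_3 hwi_0 hwi_8 hwi_7 hwi_8 hwi_7 hwi_3 hwi_7 hwi_7 hwi_7 hwi_7 hwi_3 hwi_0 hwi_4 hwi_8 hwi_7 hwi_7 hwi_2 hwi_8 hwi_3 hwi_8 hwi_7 hwi_3 hwi_7 hwi_3 hwi_4 hwi_4 hwi_5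 hwi_7 hwi_3 hwi_3) (@D3.rec (fun _ => (HWord rels S)) hwi_6 hwi_7 hwi_5 hwi_8 hwi_5 hwi_5 hwi_5 hwi_7 hwi_4 hwi_3 hwi_8 hwi_8 hwi_8 hwi_8 hwi_3 hwi_8 hwi_2 hwi_8 hwi_1 hwi_7 hwi_3 hwi_6 hwi_7 hwi_7 hwi_8 hwi_8 hwi_8 hwi_4 hwi_7 hwi_8 hwi_7 hwi_7 hwi_3 hwi_8 hwi_8 hwi_5 hwi_7 hwi_3 hwi_8 hwi_7 hwi_8 hwi_7 hwi_5 hwi_7 hwi_3 hwi_8 hwi_8 hwi_4 hwi_8 hwi_5 hwi_8) (@D3.rec (fun _ => (HWord rels S)) hwi_7 hwi_4 hwi_3 hwi_8 hwi_2 hwi_8 hwi_8 hwi_8 hwi_7 hwi_8 hwi_1 hwi_8 hwi_6 hwi_7 hwi_5 hwi_6 hwi_7 hwi_3 hwi_8 hwi_7 hwi_8 hwi_3 hwi_7 hwi_8 hwi_2 hwi_8 hwi_8 hwi_8 hwi_7 hwi_3 hwi_6 hwi_7 hwi_7 hwi_8 hwi_5 hwi_7 hwi_3 hwi_8 hwi_7 hwi_3 hwi_8 hwi_4 hwi_8 hwi_5 hwi_7 hwi_7 hwi_3 hwi_8 hwi_8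 hwi_8 hwi_5) (@D3.rec (fun _ => (HWord rels S)) hwi_7 hwi_3 hwi_8 hwi_5 hwi_7 hwi_4 hwi_3 hwi_8 hwi_2 hwi_4 hwi_8 hwi_8 hwi_4 hwi_8 hwi_5 hwi_8 hwi_6 hwi_8 hwi_8 hwi_5 hwi_3 hwi_8 hwi_3 hwi_7 hwi_2 hwi_8 hwi_1 hwi_8 hwi_7 hwi_7 hwi_7 hwi_7 hwi_2 hwi_4 hwi_8 hwi_7 hwi_7 hwi_1 hwi_8 hwi_7 hwi_0 hwi_8 hwi_7 hwi_2 hwi_8 hwi_1 hwi_8 hwi_7 hwi_5 hwi_4 hwi_7) (@D3.rec (fun _ => (HWord rels S)) hwi_3 hwi_8 hwi_4 hwi_7 hwi_7 hwi_3 hwi_8 hwi_2 hwi_8 hwi_8 hwi_4 hwi_4 hwi_3 hwi_8 hwi_4 hwi_8 hwi_2 hwi_8 hwi_1 hwi_8 hwi_7 hwi_8 hwi_2 hwi_8 hwi_4 hwi_8 hwi_1 hwi_8 hwi_7 hwi_0 hwi_8 hwi_7 hwi_6 hwi_7 hwi_5 hwi_4 hwi_7 hwi_3 hwi_8 hwi_7 hwi_8 hwi_5 hwi_4 hwi_7 hwi_3 hwi_8 hwi_4 hwi_7 hwi_7 hwi_3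 hwi_8) (@D3.rec (fun _ => (HWord rels S)) hwi_2 hwi_4 hwi_8 hwi_7 hwi_8 hwi_4 hwi_8 hwi_8 hwi_4 hwi_7 hwi_3 hwi_8 hwi_0 hwi_0 hwi_2 hwi_8 hwi_1 hwi_8 hwi_7 hwi_4 hwi_5 hwi_7 hwi_4 hwi_3 hwi_8 hwi_2 hwi_4 hwi_8 hwi_6 hwi_5 hwi_3 hwi_8 hwi_4 hwi_8 hwi_2 hwi_4 hwi_8 hwi_1 hwi_4 hwi_8 hwi_5 hwi_8 hwi_7 hwi_7 hwi_8 hwi_5 hwi_8 hwi_6 hwi_8 hwi_7 hwi_8) (@D3.rec (fun _ => (HWord rels S)) hwi_1 hwi_1 hwi_7 hwi_2 hwi_4 hwi_8 hwi_1 hwi_1 hwi_1 hwi_8 hwi_7 hwi_0 hwi_8 hwi_7 hwi_2 hwi_7 hwi_3 hwi_2 hwi_2 hwi_1 hwi_4 hwi_8 hwi_8 hwi_7 hwi_3 hwi_3 hwi_2 hwi_0 hwi_8 hwi_7 hwi_8 hwi_7 hwi_3 hwi_4 hwi_3 hwi_6 hwi_7 hwi_7 hwi_8 hwi_5 hwi_2 hwi_7 hwi_3 hwi_8 hwi_2 hwi_8 hwi_7 hwi_5 hwi_7 hwi_3 hwi_8)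 (@D3.rec (fun _ => (HWord rels S)) hwi_7 hwi_3 hwi_8 hwi_4 hwi_8 hwi_8 hwi_2 hwi_8 hwi_8 hwi_7 hwi_7 hwi_5 hwi_3 hwi_7 hwi_3 hwi_8 hwi_3 hwi_8 hwi_2 hwi_7 hwi_4 hwi_3 hwi_8 hwi_2 hwi_8 hwi_8 hwi_5 hwi_3 hwi_8 hwi_5 hwi_7 hwi_4 hwi_3 hwi_8 hwi_2 hwi_4 hwi_8 hwi_8 hwi_8 hwi_5 hwi_8 hwi_6 hwi_8 hwi_8 hwi_7 hwi_3 hwi_8 hwi_4 hwi_7 hwi_2 hwi_8) (@D3.rec (fun _ => (HWord rels S)) hwi_1 hwi_8 hwi_7 hwi_7 hwi_3 hwi_4 hwi_8 hwi_4 hwi_3 hwi_1 hwi_8 hwi_7 hwi_0 hwi_8 hwi_7 hwi_6 hwi_6 hwi_7 hwi_5 hwi_6 hwi_7 hwi_3 hwi_8 hwi_3 hwi_8 hwi_5 hwi_7 hwi_0 hwi_3 hwi_8 hwi_2 hwi_8 hwi_8 hwi_5 hwi_7 hwi_3 hwi_8 hwi_5 hwi_7 hwi_1 hwi_3 hwi_8 hwi_2 hwi_4 hwi_8 hwi_7 hwi_8 hwi_4 hwi_8 hwi_8 hwi_1)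
def ow_8 : D2 → D3 → (HWord rels S) := @D2.rec (fun _ => D3 → (HWord rels S)) (@D3.rec (fun _ => (HWord rels S)) hwi_1 hwi_3 hwi_8 hwi_8 hwi_2 hwi_8 hwi_1 hwi_8 hwi_7 hwi_8 hwi_4 hwi_8 hwi_7 hwi_0 hwi_8 hwi_7 hwi_7 hwi_5 hwi_5 hwi_7 hwi_3 hwi_8 hwi_5 hwi_7 hwi_7 hwi_3 hwi_8 hwi_2 hwi_8 hwi_8 hwi_5 hwi_5 hwi_3 hwi_8 hwi_4 hwi_8 hwi_2 hwi_8 hwi_1 hwi_8 hwi_7 hwi_4 hwi_5 hwi_7 hwi_3 hwi_8 hwi_2 hwi_4 hwi_8 hwi_6 hwi_5) (@D3.rec (fun _ => (HWord rels S)) hwi_3 hwi_8 hwi_4 hwi_8 hwi_2 hwi_4 hwi_8 hwi_1 hwi_4 hwi_8 hwi_5 hwi_8 hwi_7 hwi_8 hwi_5 hwi_8 hwi_6 hwi_8 hwi_7 hwi_8 hwi_4 hwi_4 hwi_7 hwi_2 hwi_4 hwi_8 hwi_4 hwi_8 hwi_1 hwi_8 hwi_7 hwi_0 hwi_8 hwi_7 hwi_4 hwi_7 hwi_4 hwi_3 hwi_4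 hwi_1 hwi_4 hwi_8 hwi_8 hwi_7 hwi_4 hwi_3 hwi_3 hwi_0 hwi_8 hwi_7 hwi_8) (@D3.rec (fun _ => (HWord rels S)) hwi_7 hwi_3 hwi_5 hwi_4 hwi_4 hwi_7 hwi_4 hwi_3 hwi_8 hwi_8 hwi_8 hwi_4 hwi_4 hwi_8 hwi_3 hwi_4 hwi_4 hwi_7 hwi_7 hwi_3 hwi_8 hwi_4 hwi_8 hwi_4 hwi_4 hwi_3 hwi_8 hwi_3 hwi_2 hwi_2 hwi_4 hwi_8 hwi_1 hwi_4 hwi_8 hwi_8 hwi_7 hwi_7 hwi_8 hwi_5 hwi_8 hwi_4 hwi_3 hwi_8 hwi_2 hwi_4 hwi_8 hwi_7 hwi_7 hwi_1 hwi_8) (@D3.rec (fun _ => (HWord rels S)) hwi_0 hwi_8 hwi_3 hwi_8 hwi_3 hwi_3 hwi_7 hwi_1 hwi_4 hwi_8 hwi_8 hwi_7 hwi_3 hwi_7 hwi_8 hwi_0 hwi_8 hwi_7 hwi_8 hwi_7 hwi_3 hwi_5 hwi_4 hwi_7 hwi_8 hwi_3 hwi_4 hwi_4 hwi_7 hwi_4 hwi_3 hwi_8 hwi_8 hwi_3 hwi_7 hwi_3 hwi_8 hwi_2 hwi_2 hwi_2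 hwi_8 hwi_1 hwi_8 hwi_7 hwi_3 hwi_7 hwi_3 hwi_2 hwi_4 hwi_8 hwi_7) (@D3.rec (fun _ => (HWord rels S)) hwi_7 hwi_1 hwi_8 hwi_0 hwi_8 hwi_5 hwi_7 hwi_4 hwi_5 hwi_3 hwi_8 hwi_4 hwi_8 hwi_2 hwi_4 hwi_8 hwi_1 hwi_4 hwi_8 hwi_5 hwi_8 hwi_7 hwi_2 hwi_2 hwi_2 hwi_2 hwi_4 hwi_8 hwi_3 hwi_3 hwi_2 hwi_1 hwi_4 hwi_8 hwi_5 hwi_8 hwi_7 hwi_0 hwi_4 hwi_8 hwi_5 hwi_8 hwi_7 hwi_6 hwi_8 hwi_7 hwi_7 hwi_8 hwi_6 hwi_8 hwi_7) (@D3.rec (fun _ => (HWord rels S)) hwi_8 hwi_7 hwi_7 hwi_3 hwi_7 hwi_7 hwi_7 hwi_1 hwi_4 hwi_8 hwi_8 hwi_7 hwi_7 hwi_7 hwi_8 hwi_0 hwi_8 hwi_7 hwi_8 hwi_7 hwi_3 hwi_7 hwi_7 hwi_7 hwi_7 hwi_8 hwi_0 hwi_4 hwi_8 hwi_3 hwi_7 hwi_7 hwi_8 hwi_7 hwi_3 hwi_7 hwi_3 hwi_4 hwi_8 hwi_7 hwi_8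 hwi_5 hwi_8 hwi_8 hwi_8 hwi_8 hwi_7 hwi_1 hwi_4 hwi_8 hwi_0) (@D3.rec (fun _ => (HWord rels S)) hwi_7 hwi_7 hwi_7 hwi_7 hwi_0 hwi_4 hwi_8 hwi_7 hwi_7 hwi_8 hwi_7 hwi_3 hwi_8 hwi_7 hwi_3 hwi_7 hwi_3 hwi_4 hwi_7 hwi_4 hwi_8 hwi_8 hwi_8 hwi_8 hwi_8 hwi_1 hwi_4 hwi_8 hwi_0 hwi_0 hwi_3 hwi_8 hwi_4 hwi_3 hwi_8 hwi_2 hwi_4 hwi_8 hwi_7 hwi_7 hwi_1 hwi_8 hwi_0 hwi_8 hwi_8 hwi_8 hwi_2 hwi_1 hwi_4 hwi_8 hwi_0) (@D3.rec (fun _ => (HWord rels S)) hwi_8 hwi_8 hwi_8 hwi_4 hwi_0 hwi_3 hwi_7 hwi_8 hwi_4 hwi_8 hwi_7 hwi_3 hwi_7 hwi_3 hwi_4 hwi_7 hwi_3 hwi_8 hwi_8 hwi_7 hwi_1 hwi_4 hwi_8 hwi_5 hwi_8 hwi_7 hwi_8 hwi_8 hwi_6 hwi_8 hwi_7 hwi_4 hwi_8 hwi_8 hwi_1 hwi_8 hwi_7 hwi_0 hwi_8 hwi_7 hwi_2 hwi_4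 hwi_8 hwi_1 hwi_4 hwi_8 hwi_8 hwi_7 hwi_2 hwi_8 hwi_4) (@D3.rec (fun _ => (HWord rels S)) hwi_0 hwi_8 hwi_7 hwi_8 hwi_7 hwi_3 hwi_8 hwi_7 hwi_4 hwi_8 hwi_8 hwi_8 hwi_7 hwi_0 hwi_8 hwi_7 hwi_1 hwi_4 hwi_8 hwi_5 hwi_8 hwi_1 hwi_4 hwi_8 hwi_5 hwi_8 hwi_7 hwi_0 hwi_4 hwi_8 hwi_5 hwi_8 hwi_7 hwi_6 hwi_8 hwi_7 hwi_3 hwi_8 hwi_6 hwi_8 hwi_7 hwi_8 hwi_8 hwi_1 hwi_4 hwi_8 hwi_8 hwi_7 hwi_3 hwi_8 hwi_7) (@D3.rec (fun _ => (HWord rels S)) hwi_0 hwi_8 hwi_7 hwi_8 hwi_7 hwi_3 hwi_2 hwi_4 hwi_4 hwi_0 hwi_4 hwi_8 hwi_8 hwi_7 hwi_7 hwi_6 hwi_8 hwi_4 hwi_8 hwi_7 hwi_3 hwi_7 hwi_3 hwi_4 hwi_2 hwi_8 hwi_2 hwi_8 hwi_1 hwi_8 hwi_7 hwi_0 hwi_8 hwi_7 hwi_7 hwi_7 hwi_1 hwi_4 hwi_8 hwi_8 hwi_7 hwi_7 hwi_7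 hwi_8 hwi_0 hwi_8 hwi_7 hwi_8 hwi_7 hwi_3 hwi_3) (@D3.rec (fun _ => (HWord rels S)) hwi_8 hwi_1 hwi_4 hwi_8 hwi_5 hwi_8 hwi_7 hwi_3 hwi_4 hwi_3 hwi_4 hwi_8 hwi_7 hwi_0 hwi_4 hwi_8 hwi_5 hwi_8 hwi_7 hwi_6 hwi_8 hwi_7 hwi_4 hwi_8 hwi_5 hwi_8 hwi_7 hwi_6 hwi_8 hwi_7 hwi_3 hwi_3 hwi_8 hwi_7 hwi_4 hwi_8 hwi_7 hwi_8 hwi_7 hwi_7 hwi_0 hwi_8 hwi_3 hwi_8 hwi_7 hwi_7 hwi_8 hwi_3 hwi_7 hwi_3 hwi_4) (@D3.rec (fun _ => (HWord rels S)) hwi_8 hwi_0 hwi_4 hwi_8 hwi_3 hwi_7 hwi_3 hwi_7 hwi_3 hwi_4 hwi_7 hwi_4 hwi_1 hwi_6 hwi_8 hwi_8 hwi_6 hwi_8 hwi_7 hwi_7 hwi_8 hwi_7 hwi_8 hwi_3 hwi_8 hwi_8 hwi_7 hwi_8 hwi_8 hwi_4 hwi_8 hwi_8 hwi_8 hwi_6 hwi_8 hwi_8 hwi_8 hwi_6 hwi_8 hwi_8 hwi_8 hwi_8 hwi_5 hwi_8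 hwi_6 hwi_6 hwi_8 hwi_7 hwi_3 hwi_8 hwi_7) (@D3.rec (fun _ => (HWord rels S)) hwi_8 hwi_8 hwi_2 hwi_8 hwi_8 hwi_7 hwi_8 hwi_8 hwi_3 hwi_8 hwi_5 hwi_8 hwi_6 hwi_8 hwi_6 hwi_8 hwi_4 hwi_8 hwi_7 hwi_8 hwi_8 hwi_4 hwi_3 hwi_8 hwi_8 hwi_8 hwi_8 hwi_8 hwi_8 hwi_8 hwi_8 hwi_8 hwi_3 hwi_8 hwi_8 hwi_0 hwi_8 hwi_2 hwi_8 hwi_5 hwi_8 hwi_6 hwi_5 hwi_8 hwi_3 hwi_6 hwi_6 hwi_5 hwi_8 hwi_4 hwi_4) (@D3.rec (fun _ => (HWord rels S)) hwi_8 hwi_4 hwi_8 hwi_4 hwi_8 hwi_5 hwi_8 hwi_7 hwi_8 hwi_2 hwi_4 hwi_8 hwi_8 hwi_5 hwi_8 hwi_7 hwi_8 hwi_4 hwi_8 hwi_5 hwi_8 hwi_7 hwi_6 hwi_8 hwi_7 hwi_2 hwi_8 hwi_1 hwi_8 hwi_7 hwi_2 hwi_8 hwi_2 hwi_8 hwi_1 hwi_8 hwi_7 hwi_0 hwi_8 hwi_7 hwi_4 hwi_6 hwi_7 hwi_6 hwi_3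 hwi_6 hwi_5 hwi_8 hwi_7 hwi_3 hwi_8) (@D3.rec (fun _ => (HWord rels S)) hwi_7 hwi_3 hwi_8 hwi_5 hwi_6 hwi_5 hwi_7 hwi_7 hwi_7 hwi_3 hwi_6 hwi_7 hwi_8 hwi_7 hwi_3 hwi_8 hwi_8 hwi_5 hwi_8 hwi_7 hwi_3 hwi_8 hwi_7 hwi_8 hwi_7 hwi_8 hwi_8 hwi_7 hwi_4 hwi_6 hwi_7 hwi_3 hwi_8 hwi_3 hwi_6 hwi_7 hwi_8 hwi_4 hwi_8 hwi_5 hwi_8 hwi_6 hwi_7 hwi_5 hwi_2 hwi_7 hwi_3 hwi_8 hwi_8 hwi_4 hwi_8) (@D3.rec (fun _ => (HWord rels S)) hwi_5 hwi_8 hwi_7 hwi_8 hwi_2 hwi_8 hwi_6 hwi_7 hwi_5 hwi_8 hwi_7 hwi_3 hwi_8 hwi_7 hwi_3 hwi_8 hwi_4 hwi_8 hwi_7 hwi_8 hwi_7 hwi_7 hwi_3 hwi_8 hwi_2 hwi_8 hwi_7 hwi_8 hwi_7 hwi_3 hwi_8 hwi_7 hwi_7 hwi_2 hwi_8 hwi_1 hwi_8 hwi_7 hwi_3 hwi_6 hwi_7 hwi_1 hwi_7 hwi_3 hwi_8 hwi_2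 hwi_8 hwi_6 hwi_5 hwi_4 hwi_7) (@D3.rec (fun _ => (HWord rels S)) hwi_3 hwi_8 hwi_8 hwi_4 hwi_8 hwi_5 hwi_8 hwi_7 hwi_5 hwi_7 hwi_8 hwi_8 hwi_5 hwi_2 hwi_7 hwi_3 hwi_8 hwi_2 hwi_7 hwi_2 hwi_3 hwi_8 hwi_2 hwi_4 hwi_8 hwi_8 hwi_4 hwi_8 hwi_5 hwi_8 hwi_7 hwi_6 hwi_8 hwi_7 hwi_3 hwi_3 hwi_3 hwi_8 hwi_8 hwi_2 hwi_8 hwi_1 hwi_8 hwi_7 hwi_8 hwi_8 hwi_0 hwi_8 hwi_5 hwi_8 hwi_7) (@D3.rec (fun _ => (HWord rels S)) hwi_3 hwi_8 hwi_8 hwi_7 hwi_7 hwi_3 hwi_8 hwi_2 hwi_4 hwi_8 hwi_4 hwi_7 hwi_4 hwi_8 hwi_8 hwi_7 hwi_4 hwi_1 hwi_3 hwi_8 hwi_1 hwi_7 hwi_2 hwi_8 hwi_1 hwi_8 hwi_7 hwi_2 hwi_2 hwi_7 hwi_2 hwi_4 hwi_8 hwi_3 hwi_8 hwi_1 hwi_8 hwi_7 hwi_0 hwi_8 hwi_7 hwi_6 hwi_7 hwi_5 hwi_4 hwi_7 hwi_3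 hwi_8 hwi_1 hwi_3 hwi_8) (@D3.rec (fun _ => (HWord rels S)) hwi_2 hwi_4 hwi_8 hwi_8 hwi_7 hwi_5 hwi_3 hwi_7 hwi_3 hwi_8 hwi_5 hwi_7 hwi_4 hwi_3 hwi_8 hwi_2 hwi_4 hwi_8 hwi_8 hwi_4 hwi_8 hwi_5 hwi_8 hwi_7 hwi_6 hwi_8 hwi_7 hwi_6 hwi_5 hwi_3 hwi_8 hwi_8 hwi_2 hwi_8 hwi_8 hwi_7 hwi_4 hwi_3 hwi_7 hwi_1 hwi_3 hwi_8 hwi_2 hwi_4 hwi_8 hwi_4 hwi_4 hwi_3 hwi_8 hwi_3 hwi_8) (@D3.rec (fun _ => (HWord rels S)) hwi_2 hwi_4 hwi_8 hwi_1 hwi_4 hwi_8 hwi_5 hwi_8 hwi_7 hwi_4 hwi_8 hwi_5 hwi_8 hwi_7 hwi_6 hwi_8 hwi_7 hwi_0 hwi_8 hwi_7 hwi_4 hwi_4 hwi_8 hwi_2 hwi_4 hwi_8 hwi_4 hwi_8 hwi_1 hwi_8 hwi_7 hwi_0 hwi_8 hwi_7 hwi_8 hwi_4 hwi_8 hwi_1 hwi_4 hwi_8 hwi_8 hwi_7 hwi_4 hwi_8 hwi_7 hwi_0 hwi_8 hwi_7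 hwi_8 hwi_7 hwi_3) (@D3.rec (fun _ => (HWord rels S)) hwi_7 hwi_7 hwi_3 hwi_8 hwi_7 hwi_7 hwi_8 hwi_3 hwi_8 hwi_4 hwi_8 hwi_3 hwi_8 hwi_7 hwi_8 hwi_7 hwi_3 hwi_8 hwi_2 hwi_8 hwi_8 hwi_4 hwi_6 hwi_7 hwi_8 hwi_3 hwi_6 hwi_7 hwi_2 hwi_7 hwi_3 hwi_8 hwi_8 hwi_5 hwi_4 hwi_7 hwi_3 hwi_8 hwi_3 hwi_8 hwi_6 hwi_7 hwi_5 hwi_8 hwi_7 hwi_3 hwi_8 hwi_2 hwi_3 hwi_8 hwi_4) (@D3.rec (fun _ => (HWord rels S)) hwi_8 hwi_5 hwi_8 hwi_7 hwi_8 hwi_7 hwi_4 hwi_3 hwi_8 hwi_2 hwi_8 hwi_8 hwi_8 hwi_7 hwi_8 hwi_4 hwi_7 hwi_8 hwi_1 hwi_8 hwi_7 hwi_3 hwi_6 hwi_7 hwi_0 hwi_7 hwi_8 hwi_6 hwi_7 hwi_5 hwi_0 hwi_7 hwi_3 hwi_8 hwi_0 hwi_3 hwi_8 hwi_4 hwi_8 hwi_7 hwi_0 hwi_7 hwi_0 hwi_3 hwi_8 hwi_2 hwi_8 hwi_7 hwi_5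 hwi_1 hwi_7) (@D3.rec (fun _ => (HWord rels S)) hwi_3 hwi_8 hwi_1 hwi_7 hwi_1 hwi_3 hwi_8 hwi_2 hwi_4 hwi_8 hwi_8 hwi_4 hwi_8 hwi_5 hwi_8 hwi_7 hwi_6 hwi_8 hwi_7 hwi_1 hwi_8 hwi_8 hwi_2 hwi_8 hwi_1 hwi_8 hwi_7 hwi_7 hwi_0 hwi_8 hwi_7 hwi_3 hwi_8 hwi_7 hwi_3 hwi_8 hwi_8 hwi_7 hwi_3 hwi_8 hwi_7 hwi_8 hwi_8 hwi_3 hwi_8 hwi_4 hwi_8 hwi_5 hwi_8 hwi_7 hwi_7) (@D3.rec (fun _ => (HWord rels S)) hwi_3 hwi_8 hwi_2 hwi_8 hwi_8 hwi_7 hwi_3 hwi_8 hwi_3 hwi_8 hwi_2 hwi_8 hwi_1 hwi_8 hwi_7 hwi_3 hwi_6 hwi_7 hwi_8 hwi_7 hwi_8 hwi_6 hwi_7 hwi_5 hwi_4 hwi_7 hwi_3 hwi_8 hwi_2 hwi_3 hwi_8 hwi_4 hwi_8 hwi_7 hwi_5 hwi_7 hwi_4 hwi_3 hwi_8 hwi_2 hwi_8 hwi_8 hwi_5 hwi_6 hwi_7 hwi_3 hwi_8 hwi_8 hwi_7 hwi_4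 hwi_3) (@D3.rec (fun _ => (HWord rels S)) hwi_8 hwi_2 hwi_4 hwi_8 hwi_2 hwi_7 hwi_4 hwi_8 hwi_5 hwi_8 hwi_7 hwi_6 hwi_8 hwi_7 hwi_8 hwi_5 hwi_3 hwi_8 hwi_4 hwi_7 hwi_2 hwi_8 hwi_1 hwi_8 hwi_7 hwi_4 hwi_4 hwi_7 hwi_2 hwi_4 hwi_8 hwi_5 hwi_3 hwi_1 hwi_8 hwi_7 hwi_0 hwi_8 hwi_7 hwi_2 hwi_6 hwi_7 hwi_5 hwi_4 hwi_7 hwi_3 hwi_8 hwi_0 hwi_8 hwi_5 hwi_0) (@D3.rec (fun _ => (HWord rels S)) hwi_7 hwi_3 hwi_8 hwi_0 hwi_7 hwi_0 hwi_3 hwi_8 hwi_2 hwi_4 hwi_8 hwi_0 hwi_8 hwi_4 hwi_8 hwi_8 hwi_7 hwi_0 hwi_0 hwi_3 hwi_8 hwi_0 hwi_8 hwi_2 hwi_8 hwi_1 hwi_8 hwi_7 hwi_4 hwi_1 hwi_7 hwi_1 hwi_3 hwi_8 hwi_2 hwi_4 hwi_8 hwi_1 hwi_1 hwi_3 hwi_8 hwi_1 hwi_8 hwi_2 hwi_4 hwi_8 hwi_1 hwi_4 hwi_8 hwi_5 hwi_8)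 (@D3.rec (fun _ => (HWord rels S)) hwi_7 hwi_1 hwi_8 hwi_5 hwi_8 hwi_7 hwi_6 hwi_8 hwi_7 hwi_3 hwi_8 hwi_7 hwi_1 hwi_1 hwi_8 hwi_2 hwi_4 hwi_8 hwi_1 hwi_8 hwi_1 hwi_8 hwi_7 hwi_0 hwi_8 hwi_7 hwi_8 hwi_4 hwi_8 hwi_1 hwi_4 hwi_8 hwi_8 hwi_7 hwi_7 hwi_0 hwi_8 hwi_7 hwi_8 hwi_7 hwi_3 hwi_3 hwi_8 hwi_8 hwi_3 hwi_8 hwi_4 hwi_8 hwi_7 hwi_8 hwi_8)
def ow_9 : D2 → D3 → (HWord rels S) := @D2.rec (fun _ => D3 → (HWord rels S)) (@D3.rec (fun _ => (HWord rels S)) hwi_4 hwi_8 hwi_4 hwi_8 hwi_4 hwi_8 hwi_5 hwi_8 hwi_7 hwi_6 hwi_8 hwi_7 hwi_8 hwi_8 hwi_8 hwi_4 hwi_8 hwi_8 hwi_8 hwi_8 hwi_5 hwi_8 hwi_7 hwi_3 hwi_8 hwi_1 hwi_8 hwi_8 hwi_7 hwi_4 hwi_3 hwi_8 hwi_4 hwi_8 hwi_2 hwi_8 hwi_4 hwi_8 hwi_8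 hwi_7 hwi_8 hwi_5 hwi_8 hwi_8 hwi_4 hwi_8 hwi_7 hwi_7 hwi_3 hwi_8 hwi_4) (@D3.rec (fun _ => (HWord rels S)) hwi_8 hwi_2 hwi_2 hwi_3 hwi_8 hwi_4 hwi_7 hwi_2 hwi_4 hwi_8 hwi_1 hwi_4 hwi_8 hwi_5 hwi_8 hwi_7 hwi_2 hwi_8 hwi_5 hwi_8 hwi_7 hwi_6 hwi_8 hwi_7 hwi_0 hwi_8 hwi_7 hwi_3 hwi_7 hwi_3 hwi_2 hwi_4 hwi_8 hwi_4 hwi_8 hwi_1 hwi_8 hwi_8 hwi_7 hwi_3 hwi_7 hwi_7 hwi_7 hwi_1 hwi_4 hwi_8 hwi_8 hwi_7 hwi_8 hwi_8 hwi_8) (@D3.rec (fun _ => (HWord rels S)) hwi_7 hwi_8 hwi_7 hwi_3 hwi_5 hwi_7 hwi_7 hwi_3 hwi_8 hwi_3 hwi_7 hwi_4 hwi_3 hwi_8 hwi_2 hwi_8 hwi_8 hwi_4 hwi_7 hwi_7 hwi_2 hwi_3 hwi_8 hwi_4 hwi_8 hwi_3 hwi_4 hwi_3 hwi_8 hwi_7 hwi_8 hwi_2 hwi_4 hwi_8 hwi_1 hwi_4 hwi_8 hwi_8 hwi_7 hwi_4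 hwi_8 hwi_5 hwi_8 hwi_7 hwi_7 hwi_4 hwi_7 hwi_8 hwi_2 hwi_4 hwi_8) (@D3.rec (fun _ => (HWord rels S)) hwi_7 hwi_8 hwi_1 hwi_8 hwi_0 hwi_8 hwi_7 hwi_7 hwi_7 hwi_2 hwi_3 hwi_8 hwi_2 hwi_8 hwi_2 hwi_4 hwi_8 hwi_1 hwi_4 hwi_8 hwi_5 hwi_8 hwi_7 hwi_4 hwi_3 hwi_8 hwi_2 hwi_4 hwi_8 hwi_7 hwi_3 hwi_8 hwi_1 hwi_4 hwi_8 hwi_5 hwi_8 hwi_7 hwi_0 hwi_4 hwi_8 hwi_5 hwi_8 hwi_7 hwi_6 hwi_8 hwi_7 hwi_4 hwi_8 hwi_7 hwi_6) (@D3.rec (fun _ => (HWord rels S)) hwi_8 hwi_7 hwi_0 hwi_8 hwi_7 hwi_3 hwi_3 hwi_7 hwi_3 hwi_8 hwi_7 hwi_3 hwi_7 hwi_1 hwi_4 hwi_8 hwi_8 hwi_7 hwi_7 hwi_8 hwi_8 hwi_0 hwi_8 hwi_7 hwi_8 hwi_7 hwi_3 hwi_3 hwi_3 hwi_7 hwi_3 hwi_3 hwi_8 hwi_8 hwi_8 hwi_0 hwi_4 hwi_8 hwi_3 hwi_8 hwi_7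 hwi_7 hwi_7 hwi_8 hwi_8 hwi_8 hwi_7 hwi_3 hwi_7 hwi_3 hwi_4) (@D3.rec (fun _ => (HWord rels S)) hwi_7 hwi_7 hwi_8 hwi_3 hwi_8 hwi_7 hwi_8 hwi_4 hwi_8 hwi_1 hwi_4 hwi_7 hwi_3 hwi_7 hwi_7 hwi_7 hwi_3 hwi_8 hwi_8 hwi_2 hwi_3 hwi_2 hwi_1 hwi_4 hwi_0 hwi_7 hwi_3 hwi_3 hwi_8 hwi_3 hwi_4 hwi_8 hwi_2 hwi_4 hwi_8 hwi_4 hwi_8 hwi_1 hwi_8 hwi_0 hwi_8 hwi_4 hwi_4 hwi_1 hwi_4 hwi_4 hwi_0 hwi_3 hwi_7 hwi_7 hwi_3) (@D3.rec (fun _ => (HWord rels S)) hwi_3 hwi_8 hwi_7 hwi_3 hwi_0 hwi_4 hwi_8 hwi_3 hwi_8 hwi_7 hwi_7 hwi_3 hwi_8 hwi_7 hwi_8 hwi_7 hwi_3 hwi_7 hwi_3 hwi_4 hwi_2 hwi_8 hwi_7 hwi_3 hwi_3 hwi_8 hwi_3 hwi_4 hwi_7 hwi_3 hwi_4 hwi_7 hwi_5 hwi_3 hwi_8 hwi_5 hwi_3 hwi_3 hwi_8 hwi_7 hwi_1 hwi_7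 hwi_3 hwi_8 hwi_8 hwi_7 hwi_8 hwi_3 hwi_8 hwi_8 hwi_4) (@D3.rec (fun _ => (HWord rels S)) hwi_8 hwi_7 hwi_3 hwi_8 hwi_8 hwi_8 hwi_3 hwi_8 hwi_7 hwi_3 hwi_8 hwi_2 hwi_4 hwi_8 hwi_5 hwi_8 hwi_6 hwi_8 hwi_8 hwi_3 hwi_2 hwi_8 hwi_1 hwi_8 hwi_0 hwi_8 hwi_5 hwi_7 hwi_3 hwi_8 hwi_5 hwi_7 hwi_3 hwi_8 hwi_2 hwi_8 hwi_8 hwi_8 hwi_8 hwi_7 hwi_5 hwi_7 hwi_3 hwi_8 hwi_8 hwi_7 hwi_3 hwi_8 hwi_4 hwi_8 hwi_8) (@D3.rec (fun _ => (HWord rels S)) hwi_4 hwi_8 hwi_8 hwi_5 hwi_7 hwi_3 hwi_8 hwi_3 hwi_7 hwi_8 hwi_7 hwi_7 hwi_3 hwi_8 hwi_4 hwi_8 hwi_6 hwi_5 hwi_3 hwi_8 hwi_4 hwi_8 hwi_2 hwi_4 hwi_8 hwi_1 hwi_4 hwi_8 hwi_5 hwi_8 hwi_7 hwi_5 hwi_8 hwi_6 hwi_8 hwi_7 hwi_8 hwi_7 hwi_5 hwi_7 hwi_2 hwi_4 hwi_8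 hwi_3 hwi_7 hwi_1 hwi_8 hwi_7 hwi_8 hwi_7 hwi_7) (@D3.rec (fun _ => (HWord rels S)) hwi_7 hwi_1 hwi_8 hwi_8 hwi_7 hwi_7 hwi_0 hwi_8 hwi_7 hwi_8 hwi_7 hwi_3 hwi_1 hwi_8 hwi_7 hwi_0 hwi_8 hwi_7 hwi_4 hwi_4 hwi_7 hwi_7 hwi_3 hwi_8 hwi_8 hwi_4 hwi_4 hwi_3 hwi_8 hwi_3 hwi_8 hwi_2 hwi_8 hwi_1 hwi_8 hwi_7 hwi_8 hwi_2 hwi_8 hwi_4 hwi_8 hwi_1 hwi_8 hwi_7 hwi_0 hwi_8 hwi_7 hwi_1 hwi_8 hwi_7 hwi_4) (@D3.rec (fun _ => (HWord rels S)) hwi_8 hwi_7 hwi_0 hwi_8 hwi_7 hwi_8 hwi_7 hwi_3 hwi_5 hwi_7 hwi_8 hwi_4 hwi_7 hwi_7 hwi_3 hwi_8 hwi_8 hwi_8 hwi_7 hwi_7 hwi_3 hwi_8 hwi_2 hwi_8 hwi_4 hwi_7 hwi_3 hwi_8 hwi_3 hwi_8 hwi_2 hwi_4 hwi_8 hwi_1 hwi_4 hwi_8 hwi_8 hwi_7 hwi_7 hwi_8 hwi_5 hwi_8 hwi_7 hwi_0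 hwi_7 hwi_2 hwi_4 hwi_8 hwi_0 hwi_0 hwi_1) (@D3.rec (fun _ => (HWord rels S)) hwi_8 hwi_7 hwi_0 hwi_8 hwi_7 hwi_7 hwi_6 hwi_5 hwi_3 hwi_8 hwi_4 hwi_8 hwi_2 hwi_4 hwi_8 hwi_1 hwi_4 hwi_8 hwi_5 hwi_8 hwi_7 hwi_6 hwi_5 hwi_8 hwi_2 hwi_4 hwi_8 hwi_1 hwi_3 hwi_8 hwi_1 hwi_4 hwi_8 hwi_5 hwi_8 hwi_7 hwi_0 hwi_4 hwi_8 hwi_5 hwi_8 hwi_7 hwi_6 hwi_8 hwi_7 hwi_7 hwi_8 hwi_6 hwi_8 hwi_7 hwi_8) (@D3.rec (fun _ => (HWord rels S)) hwi_7 hwi_1 hwi_7 hwi_1 hwi_1 hwi_1 hwi_1 hwi_4 hwi_8 hwi_8 hwi_7 hwi_2 hwi_1 hwi_1 hwi_0 hwi_8 hwi_7 hwi_8 hwi_7 hwi_3 hwi_2 hwi_3 hwi_3 hwi_3 hwi_2 hwi_3 hwi_0 hwi_4 hwi_8 hwi_3 hwi_8 hwi_7 hwi_7 hwi_3 hwi_3 hwi_3 hwi_8 hwi_7 hwi_3 hwi_7 hwi_3 hwi_4 hwi_7 hwi_7 hwi_3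 hwi_8 hwi_8 hwi_8 hwi_2 hwi_8 hwi_8) (@D3.rec (fun _ => (HWord rels S)) hwi_3 hwi_8 hwi_3 hwi_8 hwi_2 hwi_4 hwi_8 hwi_8 hwi_8 hwi_8 hwi_8 hwi_7 hwi_3 hwi_8 hwi_7 hwi_7 hwi_3 hwi_8 hwi_2 hwi_8 hwi_8 hwi_6 hwi_5 hwi_3 hwi_8 hwi_8 hwi_8 hwi_8 hwi_7 hwi_2 hwi_8 hwi_6 hwi_5 hwi_3 hwi_8 hwi_8 hwi_2 hwi_8 hwi_1 hwi_4 hwi_8 hwi_5 hwi_8 hwi_7 hwi_6 hwi_8 hwi_7 hwi_8 hwi_7 hwi_5 hwi_2) (@D3.rec (fun _ => (HWord rels S)) hwi_4 hwi_8 hwi_8 hwi_1 hwi_8 hwi_7 hwi_0 hwi_8 hwi_7 hwi_5 hwi_8 hwi_7 hwi_4 hwi_3 hwi_0 hwi_8 hwi_7 hwi_8 hwi_7 hwi_5 hwi_5 hwi_7 hwi_3 hwi_8 hwi_5 hwi_7 hwi_7 hwi_3 hwi_8 hwi_2 hwi_8 hwi_8 hwi_5 hwi_0 hwi_3 hwi_8 hwi_8 hwi_2 hwi_8 hwi_1 hwi_8 hwi_7 hwi_7 hwi_3 hwi_8 hwi_2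 hwi_4 hwi_8 hwi_5 hwi_1 hwi_3) (@D3.rec (fun _ => (HWord rels S)) hwi_8 hwi_1 hwi_8 hwi_2 hwi_4 hwi_8 hwi_1 hwi_4 hwi_8 hwi_8 hwi_7 hwi_8 hwi_5 hwi_8 hwi_8 hwi_2 hwi_4 hwi_8 hwi_8 hwi_7 hwi_0 hwi_8 hwi_7 hwi_8 hwi_7 hwi_8 hwi_7 hwi_3 hwi_8 hwi_4 hwi_7 hwi_3 hwi_8 hwi_2 hwi_8 hwi_5 hwi_7 hwi_3 hwi_8 hwi_4 hwi_8 hwi_2 hwi_8 hwi_1 hwi_8 hwi_7 hwi_6 hwi_5 hwi_8 hwi_2 hwi_4) (@D3.rec (fun _ => (HWord rels S)) hwi_8 hwi_8 hwi_8 hwi_7 hwi_0 hwi_8 hwi_7 hwi_6 hwi_3 hwi_8 hwi_2 hwi_8 hwi_1 hwi_4 hwi_8 hwi_5 hwi_8 hwi_7 hwi_6 hwi_5 hwi_8 hwi_2 hwi_4 hwi_8 hwi_4 hwi_8 hwi_1 hwi_4 hwi_8 hwi_5 hwi_8 hwi_7 hwi_0 hwi_4 hwi_8 hwi_5 hwi_8 hwi_7 hwi_6 hwi_8 hwi_7 hwi_6 hwi_8 hwi_7 hwi_8 hwi_7 hwi_4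 hwi_7 hwi_5 hwi_3 hwi_4) (@D3.rec (fun _ => (HWord rels S)) hwi_1 hwi_4 hwi_8 hwi_8 hwi_7 hwi_4 hwi_8 hwi_3 hwi_0 hwi_8 hwi_7 hwi_8 hwi_7 hwi_3 hwi_4 hwi_4 hwi_3 hwi_4 hwi_3 hwi_3 hwi_0 hwi_4 hwi_8 hwi_3 hwi_8 hwi_7 hwi_7 hwi_6 hwi_3 hwi_3 hwi_8 hwi_7 hwi_3 hwi_7 hwi_3 hwi_4 hwi_4 hwi_7 hwi_3 hwi_8 hwi_4 hwi_8 hwi_8 hwi_7 hwi_4 hwi_8 hwi_7 hwi_4 hwi_7 hwi_3 hwi_8) (@D3.rec (fun _ => (HWord rels S)) hwi_3 hwi_8 hwi_4 hwi_8 hwi_8 hwi_7 hwi_4 hwi_3 hwi_8 hwi_2 hwi_4 hwi_8 hwi_3 hwi_3 hwi_2 hwi_1 hwi_4 hwi_8 hwi_5 hwi_8 hwi_7 hwi_4 hwi_8 hwi_8 hwi_7 hwi_7 hwi_7 hwi_8 hwi_8 hwi_3 hwi_8 hwi_2 hwi_3 hwi_7 hwi_1 hwi_4 hwi_8 hwi_8 hwi_2 hwi_7 hwi_0 hwi_8 hwi_8 hwi_7 hwi_3 hwi_8 hwi_8 hwi_8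 hwi_0 hwi_4 hwi_8) (@D3.rec (fun _ => (HWord rels S)) hwi_8 hwi_7 hwi_7 hwi_3 hwi_7 hwi_8 hwi_8 hwi_7 hwi_3 hwi_7 hwi_3 hwi_4 hwi_7 hwi_7 hwi_8 hwi_3 hwi_7 hwi_4 hwi_4 hwi_3 hwi_8 hwi_4 hwi_8 hwi_8 hwi_7 hwi_7 hwi_7 hwi_8 hwi_2 hwi_4 hwi_8 hwi_3 hwi_2 hwi_1 hwi_8 hwi_7 hwi_0 hwi_8 hwi_7 hwi_7 hwi_3 hwi_7 hwi_7 hwi_7 hwi_1 hwi_4 hwi_8 hwi_8 hwi_7 hwi_7 hwi_0) (@D3.rec (fun _ => (HWord rels S)) hwi_8 hwi_8 hwi_0 hwi_5 hwi_3 hwi_8 hwi_4 hwi_5 hwi_8 hwi_2 hwi_4 hwi_8 hwi_3 hwi_3 hwi_8 hwi_1 hwi_4 hwi_8 hwi_5 hwi_8 hwi_7 hwi_0 hwi_4 hwi_8 hwi_5 hwi_8 hwi_7 hwi_6 hwi_8 hwi_7 hwi_2 hwi_2 hwi_3 hwi_5 hwi_2 hwi_1 hwi_4 hwi_8 hwi_5 hwi_8 hwi_7 hwi_3 hwi_4 hwi_3 hwi_3 hwi_8 hwi_2 hwi_0 hwi_4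 hwi_8 hwi_5) (@D3.rec (fun _ => (HWord rels S)) hwi_8 hwi_7 hwi_6 hwi_8 hwi_7 hwi_4 hwi_8 hwi_5 hwi_8 hwi_7 hwi_6 hwi_8 hwi_7 hwi_3 hwi_3 hwi_8 hwi_7 hwi_7 hwi_8 hwi_7 hwi_8 hwi_7 hwi_7 hwi_7 hwi_7 hwi_7 hwi_7 hwi_7 hwi_8 hwi_0 hwi_4 hwi_8 hwi_3 hwi_8 hwi_7 hwi_7 hwi_7 hwi_7 hwi_8 hwi_8 hwi_7 hwi_3 hwi_7 hwi_3 hwi_4 hwi_8 hwi_7 hwi_7 hwi_3 hwi_8 hwi_5) (@D3.rec (fun _ => (HWord rels S)) hwi_3 hwi_8 hwi_7 hwi_8 hwi_8 hwi_7 hwi_7 hwi_7 hwi_8 hwi_7 hwi_7 hwi_3 hwi_7 hwi_3 hwi_3 hwi_8 hwi_8 hwi_8 hwi_4 hwi_8 hwi_0 hwi_4 hwi_3 hwi_8 hwi_0 hwi_8 hwi_2 hwi_4 hwi_8 hwi_3 hwi_8 hwi_7 hwi_3 hwi_8 hwi_1 hwi_4 hwi_8 hwi_8 hwi_7 hwi_7 hwi_0 hwi_8 hwi_8 hwi_8 hwi_8 hwi_3 hwi_0 hwi_4 hwi_3 hwi_8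 hwi_7) (@D3.rec (fun _ => (HWord rels S)) hwi_3 hwi_3 hwi_7 hwi_3 hwi_4 hwi_7 hwi_7 hwi_4 hwi_8 hwi_5 hwi_8 hwi_8 hwi_7 hwi_7 hwi_8 hwi_7 hwi_7 hwi_8 hwi_7 hwi_8 hwi_7 hwi_3 hwi_8 hwi_8 hwi_7 hwi_8 hwi_8 hwi_7 hwi_7 hwi_8 hwi_4 hwi_8 hwi_7 hwi_3 hwi_7 hwi_3 hwi_4 hwi_7 hwi_8 hwi_7 hwi_7 hwi_7 hwi_8 hwi_7 hwi_3 hwi_4 hwi_8 hwi_3 hwi_5 hwi_8 hwi_6) (@D3.rec (fun _ => (HWord rels S)) hwi_4 hwi_8 hwi_5 hwi_8 hwi_6 hwi_8 hwi_7 hwi_4 hwi_8 hwi_5 hwi_8 hwi_7 hwi_6 hwi_8 hwi_7 hwi_3 hwi_7 hwi_8 hwi_7 hwi_8 hwi_7 hwi_8 hwi_7 hwi_4 hwi_8 hwi_3 hwi_8 hwi_7 hwi_7 hwi_8 hwi_7 hwi_8 hwi_7 hwi_3 hwi_7 hwi_3 hwi_4 hwi_8 hwi_4 hwi_4 hwi_8 hwi_8 hwi_7 hwi_7 hwi_3 hwi_8 hwi_7 hwi_4 hwi_7 hwi_3 hwi_4)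 (@D3.rec (fun _ => (HWord rels S)) hwi_3 hwi_2 hwi_4 hwi_5 hwi_1 hwi_8 hwi_7 hwi_1 hwi_8 hwi_7 hwi_0 hwi_8 hwi_7 hwi_8 hwi_7 hwi_3 hwi_7 hwi_7 hwi_0 hwi_4 hwi_8 hwi_3 hwi_8 hwi_7 hwi_7 hwi_7 hwi_8 hwi_8 hwi_7 hwi_3 hwi_7 hwi_3 hwi_4 hwi_3 hwi_7 hwi_0 hwi_4 hwi_8 hwi_3 hwi_5 hwi_8 hwi_7 hwi_6 hwi_8 hwi_7 hwi_3 hwi_4 hwi_3 hwi_4 hwi_4 hwi_3) (@D3.rec (fun _ => (HWord rels S)) hwi_8 hwi_7 hwi_4 hwi_8 hwi_5 hwi_8 hwi_7 hwi_6 hwi_8 hwi_7 hwi_3 hwi_0 hwi_8 hwi_7 hwi_5 hwi_8 hwi_7 hwi_6 hwi_8 hwi_7 hwi_3 hwi_0 hwi_8 hwi_7 hwi_3 hwi_4 hwi_3 hwi_7 hwi_4 hwi_8 hwi_7 hwi_7 hwi_8 hwi_4 hwi_7 hwi_3 hwi_4 hwi_8 hwi_5 hwi_8 hwi_8 hwi_8 hwi_8 hwi_8 hwi_8 hwi_8 hwi_8 hwi_6 hwi_2 hwi_8 hwi_8)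
def ow_10 : D2 → D3 → (HWord rels S) := @D2.rec (fun _ => D3 → (HWord rels S)) (@D3.rec (fun _ => (HWord rels S)) hwi_8 hwi_3 hwi_8 hwi_8 hwi_3 hwi_8 hwi_2 hwi_8 hwi_6 hwi_8 hwi_7 hwi_8 hwi_8 hwi_4 hwi_3 hwi_8 hwi_8 hwi_8 hwi_2 hwi_8 hwi_0 hwi_8 hwi_1 hwi_8 hwi_7 hwi_6 hwi_8 hwi_3 hwi_5 hwi_8 hwi_7 hwi_5 hwi_8 hwi_7 hwi_5 hwi_8 hwi_7 hwi_6 hwi_8 hwi_7 hwi_8 hwi_8 hwi_7 hwi_7 hwi_6 hwi_8 hwi_7 hwi_7 hwi_5 hwi_8 hwi_7) (@D3.rec (fun _ => (HWord rels S)) hwi_6 hwi_8 hwi_7 hwi_0 hwi_8 hwi_7 hwi_3 hwi_1 hwi_8 hwi_7 hwi_8 hwi_7 hwi_1 hwi_8 hwi_7 hwi_1 hwi_8 hwi_7 hwi_0 hwi_8 hwi_7 hwi_8 hwi_7 hwi_3 hwi_6 hwi_7 hwi_5 hwi_8 hwi_7 hwi_3 hwi_2 hwi_3 hwi_7 hwi_6 hwi_7 hwi_5 hwi_8 hwi_7 hwi_3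 hwi_8 hwi_7 hwi_3 hwi_8 hwi_4 hwi_8 hwi_7 hwi_7 hwi_8 hwi_2 hwi_8 hwi_6) (@D3.rec (fun _ => (HWord rels S)) hwi_7 hwi_8 hwi_8 hwi_3 hwi_8 hwi_5 hwi_8 hwi_7 hwi_2 hwi_7 hwi_3 hwi_8 hwi_3 hwi_8 hwi_2 hwi_4 hwi_8 hwi_5 hwi_8 hwi_7 hwi_6 hwi_8 hwi_7 hwi_8 hwi_5 hwi_6 hwi_7 hwi_3 hwi_8 hwi_8 hwi_7 hwi_7 hwi_3 hwi_8 hwi_2 hwi_4 hwi_8 hwi_1 hwi_7 hwi_4 hwi_8 hwi_8 hwi_7 hwi_5 hwi_7 hwi_3 hwi_8 hwi_7 hwi_7 hwi_2 hwi_8) (@D3.rec (fun _ => (HWord rels S)) hwi_1 hwi_8 hwi_7 hwi_7 hwi_8 hwi_1 hwi_8 hwi_0 hwi_8 hwi_7 hwi_6 hwi_5 hwi_4 hwi_7 hwi_3 hwi_8 hwi_8 hwi_4 hwi_8 hwi_8 hwi_7 hwi_5 hwi_3 hwi_5 hwi_7 hwi_3 hwi_8 hwi_4 hwi_8 hwi_5 hwi_8 hwi_7 hwi_6 hwi_8 hwi_7 hwi_6 hwi_8 hwi_7 hwi_2 hwi_7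 hwi_2 hwi_3 hwi_8 hwi_4 hwi_8 hwi_2 hwi_2 hwi_3 hwi_8 hwi_2 hwi_8) (@D3.rec (fun _ => (HWord rels S)) hwi_2 hwi_4 hwi_8 hwi_1 hwi_4 hwi_8 hwi_5 hwi_8 hwi_7 hwi_5 hwi_8 hwi_7 hwi_6 hwi_8 hwi_7 hwi_0 hwi_8 hwi_7 hwi_8 hwi_2 hwi_8 hwi_8 hwi_8 hwi_8 hwi_4 hwi_8 hwi_7 hwi_7 hwi_3 hwi_8 hwi_2 hwi_4 hwi_8 hwi_4 hwi_1 hwi_3 hwi_8 hwi_4 hwi_7 hwi_2 hwi_4 hwi_8 hwi_1 hwi_4 hwi_8 hwi_8 hwi_7 hwi_1 hwi_3 hwi_5 hwi_8) (@D3.rec (fun _ => (HWord rels S)) hwi_7 hwi_7 hwi_1 hwi_1 hwi_7 hwi_2 hwi_4 hwi_8 hwi_1 hwi_3 hwi_1 hwi_8 hwi_7 hwi_0 hwi_8 hwi_7 hwi_7 hwi_3 hwi_2 hwi_1 hwi_4 hwi_8 hwi_8 hwi_7 hwi_8 hwi_3 hwi_8 hwi_7 hwi_8 hwi_7 hwi_3 hwi_5 hwi_3 hwi_7 hwi_3 hwi_8 hwi_5 hwi_7 hwi_4 hwi_3 hwi_8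 hwi_2 hwi_4 hwi_8 hwi_8 hwi_4 hwi_8 hwi_8 hwi_8 hwi_7 hwi_7) (@D3.rec (fun _ => (HWord rels S)) hwi_4 hwi_5 hwi_7 hwi_7 hwi_3 hwi_8 hwi_2 hwi_4 hwi_8 hwi_6 hwi_5 hwi_3 hwi_8 hwi_3 hwi_8 hwi_2 hwi_4 hwi_8 hwi_8 hwi_5 hwi_8 hwi_7 hwi_5 hwi_8 hwi_7 hwi_6 hwi_8 hwi_7 hwi_1 hwi_8 hwi_7 hwi_6 hwi_8 hwi_2 hwi_8 hwi_8 hwi_7 hwi_7 hwi_3 hwi_7 hwi_3 hwi_1 hwi_3 hwi_8 hwi_7 hwi_8 hwi_2 hwi_4 hwi_8 hwi_1 hwi_4) (@D3.rec (fun _ => (HWord rels S)) hwi_8 hwi_5 hwi_8 hwi_7 hwi_4 hwi_3 hwi_8 hwi_2 hwi_4 hwi_8 hwi_3 hwi_3 hwi_8 hwi_1 hwi_4 hwi_8 hwi_5 hwi_8 hwi_7 hwi_0 hwi_4 hwi_8 hwi_5 hwi_8 hwi_7 hwi_6 hwi_8 hwi_7 hwi_4 hwi_8 hwi_7 hwi_6 hwi_8 hwi_7 hwi_0 hwi_8 hwi_7 hwi_3 hwi_3 hwi_7 hwi_8 hwi_4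 hwi_8 hwi_1 hwi_4 hwi_8 hwi_8 hwi_7 hwi_4 hwi_8 hwi_7) (@D3.rec (fun _ => (HWord rels S)) hwi_0 hwi_8 hwi_7 hwi_8 hwi_7 hwi_3 hwi_4 hwi_8 hwi_7 hwi_0 hwi_4 hwi_8 hwi_8 hwi_7 hwi_7 hwi_4 hwi_8 hwi_7 hwi_8 hwi_7 hwi_3 hwi_7 hwi_3 hwi_4 hwi_8 hwi_3 hwi_8 hwi_8 hwi_3 hwi_8 hwi_8 hwi_4 hwi_8 hwi_8 hwi_7 hwi_2 hwi_8 hwi_8 hwi_3 hwi_8 hwi_8 hwi_1 hwi_8 hwi_7 hwi_6 hwi_7 hwi_8 hwi_7 hwi_8 hwi_6 hwi_7) (@D3.rec (fun _ => (HWord rels S)) hwi_5 hwi_4 hwi_7 hwi_3 hwi_8 hwi_2 hwi_8 hwi_4 hwi_8 hwi_7 hwi_8 hwi_7 hwi_4 hwi_8 hwi_2 hwi_8 hwi_8 hwi_5 hwi_7 hwi_3 hwi_8 hwi_3 hwi_7 hwi_4 hwi_3 hwi_8 hwi_2 hwi_4 hwi_8 hwi_2 hwi_7 hwi_8 hwi_5 hwi_8 hwi_7 hwi_8 hwi_7 hwi_8 hwi_7 hwi_8 hwi_4 hwi_7 hwi_8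 hwi_1 hwi_8 hwi_7 hwi_3 hwi_7 hwi_0 hwi_8 hwi_7) (@D3.rec (fun _ => (HWord rels S)) hwi_7 hwi_4 hwi_7 hwi_3 hwi_8 hwi_8 hwi_0 hwi_7 hwi_3 hwi_8 hwi_0 hwi_7 hwi_0 hwi_3 hwi_8 hwi_2 hwi_4 hwi_8 hwi_8 hwi_4 hwi_8 hwi_8 hwi_7 hwi_0 hwi_8 hwi_8 hwi_2 hwi_8 hwi_1 hwi_8 hwi_7 hwi_8 hwi_7 hwi_1 hwi_3 hwi_8 hwi_2 hwi_4 hwi_8 hwi_1 hwi_3 hwi_8 hwi_1 hwi_8 hwi_2 hwi_4 hwi_8 hwi_1 hwi_4 hwi_8 hwi_5) (@D3.rec (fun _ => (HWord rels S)) hwi_8 hwi_7 hwi_8 hwi_7 hwi_6 hwi_8 hwi_7 hwi_3 hwi_8 hwi_7 hwi_8 hwi_7 hwi_0 hwi_8 hwi_7 hwi_8 hwi_7 hwi_8 hwi_3 hwi_8 hwi_8 hwi_7 hwi_3 hwi_8 hwi_8 hwi_8 hwi_4 hwi_8 hwi_5 hwi_8 hwi_7 hwi_8 hwi_7 hwi_3 hwi_8 hwi_2 hwi_8 hwi_1 hwi_8 hwi_7 hwi_3 hwi_8 hwi_2 hwi_4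 hwi_8 hwi_5 hwi_8 hwi_1 hwi_8 hwi_7 hwi_0) (@D3.rec (fun _ => (HWord rels S)) hwi_8 hwi_7 hwi_6 hwi_7 hwi_5 hwi_8 hwi_7 hwi_3 hwi_8 hwi_1 hwi_8 hwi_5 hwi_6 hwi_7 hwi_3 hwi_8 hwi_5 hwi_7 hwi_4 hwi_3 hwi_8 hwi_2 hwi_4 hwi_8 hwi_8 hwi_4 hwi_8 hwi_8 hwi_7 hwi_8 hwi_5 hwi_3 hwi_8 hwi_8 hwi_2 hwi_8 hwi_1 hwi_8 hwi_7 hwi_4 hwi_6 hwi_7 hwi_6 hwi_3 hwi_8 hwi_2 hwi_4 hwi_8 hwi_5 hwi_5 hwi_3) (@D3.rec (fun _ => (HWord rels S)) hwi_8 hwi_4 hwi_7 hwi_2 hwi_4 hwi_8 hwi_1 hwi_4 hwi_8 hwi_5 hwi_8 hwi_7 hwi_8 hwi_5 hwi_8 hwi_7 hwi_6 hwi_8 hwi_7 hwi_8 hwi_7 hwi_4 hwi_5 hwi_7 hwi_2 hwi_4 hwi_8 hwi_8 hwi_1 hwi_8 hwi_7 hwi_0 hwi_8 hwi_7 hwi_7 hwi_3 hwi_4 hwi_1 hwi_4 hwi_8 hwi_8 hwi_7 hwi_6 hwi_3 hwi_3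 hwi_0 hwi_8 hwi_7 hwi_8 hwi_7 hwi_3) (@D3.rec (fun _ => (HWord rels S)) hwi_6 hwi_5 hwi_3 hwi_7 hwi_3 hwi_8 hwi_5 hwi_7 hwi_4 hwi_3 hwi_8 hwi_2 hwi_8 hwi_8 hwi_4 hwi_0 hwi_7 hwi_6 hwi_3 hwi_8 hwi_2 hwi_4 hwi_8 hwi_0 hwi_0 hwi_3 hwi_8 hwi_0 hwi_8 hwi_2 hwi_4 hwi_8 hwi_1 hwi_4 hwi_8 hwi_8 hwi_7 hwi_0 hwi_8 hwi_5 hwi_8 hwi_7 hwi_7 hwi_0 hwi_0 hwi_8 hwi_2 hwi_4 hwi_8 hwi_0 hwi_8) (@D3.rec (fun _ => (HWord rels S)) hwi_1 hwi_8 hwi_7 hwi_0 hwi_8 hwi_7 hwi_4 hwi_7 hwi_8 hwi_1 hwi_3 hwi_8 hwi_1 hwi_7 hwi_2 hwi_4 hwi_8 hwi_1 hwi_4 hwi_8 hwi_5 hwi_8 hwi_7 hwi_1 hwi_1 hwi_8 hwi_2 hwi_4 hwi_8 hwi_1 hwi_1 hwi_8 hwi_1 hwi_4 hwi_8 hwi_5 hwi_8 hwi_7 hwi_0 hwi_4 hwi_8 hwi_5 hwi_8 hwi_7 hwi_6 hwi_8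 hwi_7 hwi_1 hwi_8 hwi_7 hwi_6) (@D3.rec (fun _ => (HWord rels S)) hwi_8 hwi_7 hwi_0 hwi_8 hwi_7 hwi_3 hwi_3 hwi_7 hwi_8 hwi_1 hwi_4 hwi_8 hwi_1 hwi_4 hwi_8 hwi_8 hwi_7 hwi_8 hwi_7 hwi_0 hwi_8 hwi_7 hwi_8 hwi_7 hwi_3 hwi_8 hwi_7 hwi_0 hwi_4 hwi_8 hwi_8 hwi_7 hwi_7 hwi_8 hwi_7 hwi_7 hwi_3 hwi_8 hwi_7 hwi_4 hwi_8 hwi_8 hwi_7 hwi_8 hwi_8 hwi_5 hwi_8 hwi_7 hwi_6 hwi_8 hwi_7) (@D3.rec (fun _ => (HWord rels S)) hwi_8 hwi_7 hwi_3 hwi_8 hwi_3 hwi_7 hwi_4 hwi_3 hwi_8 hwi_2 hwi_8 hwi_7 hwi_8 hwi_5 hwi_3 hwi_8 hwi_2 hwi_8 hwi_4 hwi_8 hwi_8 hwi_7 hwi_2 hwi_8 hwi_5 hwi_8 hwi_7 hwi_7 hwi_3 hwi_8 hwi_7 hwi_7 hwi_8 hwi_2 hwi_3 hwi_8 hwi_4 hwi_7 hwi_4 hwi_8 hwi_8 hwi_7 hwi_2 hwi_2 hwi_2 hwi_2 hwi_4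 hwi_8 hwi_4 hwi_2 hwi_8) (@D3.rec (fun _ => (HWord rels S)) hwi_1 hwi_4 hwi_8 hwi_5 hwi_8 hwi_7 hwi_8 hwi_8 hwi_7 hwi_6 hwi_8 hwi_7 hwi_2 hwi_8 hwi_3 hwi_6 hwi_8 hwi_7 hwi_4 hwi_8 hwi_7 hwi_3 hwi_8 hwi_7 hwi_7 hwi_3 hwi_7 hwi_7 hwi_7 hwi_1 hwi_4 hwi_8 hwi_8 hwi_8 hwi_8 hwi_7 hwi_7 hwi_7 hwi_8 hwi_8 hwi_7 hwi_3 hwi_4 hwi_7 hwi_7 hwi_2 hwi_3 hwi_8 hwi_8 hwi_3 hwi_5) (@D3.rec (fun _ => (HWord rels S)) hwi_3 hwi_8 hwi_3 hwi_8 hwi_2 hwi_8 hwi_8 hwi_7 hwi_7 hwi_7 hwi_7 hwi_2 hwi_3 hwi_8 hwi_2 hwi_8 hwi_4 hwi_8 hwi_8 hwi_7 hwi_4 hwi_7 hwi_8 hwi_2 hwi_4 hwi_8 hwi_7 hwi_3 hwi_8 hwi_1 hwi_4 hwi_8 hwi_5 hwi_8 hwi_7 hwi_8 hwi_8 hwi_7 hwi_7 hwi_4 hwi_8 hwi_7 hwi_8 hwi_7 hwi_3 hwi_7 hwi_8 hwi_7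 hwi_3 hwi_8 hwi_1) (@D3.rec (fun _ => (HWord rels S)) hwi_4 hwi_8 hwi_8 hwi_8 hwi_0 hwi_8 hwi_8 hwi_7 hwi_2 hwi_3 hwi_8 hwi_2 hwi_2 hwi_8 hwi_2 hwi_4 hwi_8 hwi_3 hwi_7 hwi_8 hwi_1 hwi_4 hwi_8 hwi_5 hwi_8 hwi_7 hwi_8 hwi_5 hwi_8 hwi_7 hwi_6 hwi_8 hwi_7 hwi_3 hwi_8 hwi_7 hwi_3 hwi_8 hwi_1 hwi_4 hwi_8 hwi_5 hwi_8 hwi_7 hwi_2 hwi_2 hwi_8 hwi_3 hwi_8 hwi_7 hwi_0) (@D3.rec (fun _ => (HWord rels S)) hwi_4 hwi_8 hwi_5 hwi_8 hwi_7 hwi_6 hwi_8 hwi_7 hwi_8 hwi_5 hwi_8 hwi_7 hwi_6 hwi_8 hwi_7 hwi_3 hwi_0 hwi_8 hwi_7 hwi_3 hwi_4 hwi_8 hwi_7 hwi_0 hwi_8 hwi_7 hwi_3 hwi_4 hwi_7 hwi_3 hwi_2 hwi_3 hwi_7 hwi_3 hwi_7 hwi_2 hwi_2 hwi_8 hwi_8 hwi_8 hwi_0 hwi_4 hwi_8 hwi_3 hwi_8 hwi_7 hwi_7 hwi_7 hwi_8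 hwi_7 hwi_8) (@D3.rec (fun _ => (HWord rels S)) hwi_7 hwi_3 hwi_7 hwi_3 hwi_4 hwi_3 hwi_8 hwi_8 hwi_8 hwi_3 hwi_3 hwi_8 hwi_4 hwi_8 hwi_3 hwi_8 hwi_7 hwi_8 hwi_3 hwi_3 hwi_8 hwi_8 hwi_8 hwi_7 hwi_3 hwi_4 hwi_7 hwi_3 hwi_3 hwi_8 hwi_3 hwi_7 hwi_3 hwi_3 hwi_8 hwi_8 hwi_3 hwi_2 hwi_3 hwi_0 hwi_4 hwi_3 hwi_3 hwi_4 hwi_8 hwi_2 hwi_4 hwi_8 hwi_8 hwi_4 hwi_8) (@D3.rec (fun _ => (HWord rels S)) hwi_1 hwi_4 hwi_8 hwi_8 hwi_4 hwi_8 hwi_0 hwi_8 hwi_8 hwi_4 hwi_4 hwi_0 hwi_4 hwi_3 hwi_3 hwi_3 hwi_8 hwi_3 hwi_4 hwi_2 hwi_8 hwi_7 hwi_7 hwi_8 hwi_7 hwi_3 hwi_3 hwi_8 hwi_7 hwi_3 hwi_7 hwi_3 hwi_4 hwi_7 hwi_3 hwi_7 hwi_4 hwi_3 hwi_3 hwi_8 hwi_8 hwi_3 hwi_8 hwi_4 hwi_8 hwi_8 hwi_8 hwi_8 hwi_8 hwi_3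 hwi_8) (@D3.rec (fun _ => (HWord rels S)) hwi_2 hwi_8 hwi_1 hwi_4 hwi_8 hwi_5 hwi_8 hwi_7 hwi_8 hwi_7 hwi_8 hwi_3 hwi_8 hwi_8 hwi_8 hwi_7 hwi_3 hwi_8 hwi_2 hwi_8 hwi_3 hwi_8 hwi_8 hwi_8 hwi_7 hwi_7 hwi_7 hwi_3 hwi_8 hwi_8 hwi_3 hwi_8 hwi_4 hwi_8 hwi_8 hwi_7 hwi_5 hwi_8 hwi_7 hwi_3 hwi_7 hwi_8 hwi_7 hwi_7 hwi_3 hwi_8 hwi_8 hwi_5 hwi_8 hwi_7 hwi_6) (@D3.rec (fun _ => (HWord rels S)) hwi_5 hwi_8 hwi_2 hwi_4 hwi_8 hwi_4 hwi_8 hwi_1 hwi_4 hwi_8 hwi_5 hwi_8 hwi_7 hwi_4 hwi_8 hwi_5 hwi_8 hwi_7 hwi_6 hwi_8 hwi_7 hwi_6 hwi_8 hwi_7 hwi_8 hwi_7 hwi_7 hwi_5 hwi_7 hwi_1 hwi_4 hwi_8 hwi_8 hwi_3 hwi_7 hwi_8 hwi_7 hwi_7 hwi_3 hwi_0 hwi_8 hwi_6 hwi_7 hwi_8 hwi_7 hwi_7 hwi_3 hwi_4 hwi_0 hwi_8 hwi_7)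 (@D3.rec (fun _ => (HWord rels S)) hwi_8 hwi_7 hwi_3 hwi_7 hwi_7 hwi_3 hwi_8 hwi_3 hwi_8 hwi_8 hwi_7 hwi_3 hwi_8 hwi_2 hwi_4 hwi_8 hwi_3 hwi_8 hwi_1 hwi_8 hwi_7 hwi_0 hwi_8 hwi_7 hwi_1 hwi_8 hwi_7 hwi_4 hwi_8 hwi_7 hwi_0 hwi_8 hwi_7 hwi_8 hwi_7 hwi_3 hwi_0 hwi_8 hwi_7 hwi_4 hwi_8 hwi_3 hwi_8 hwi_7 hwi_3 hwi_7 hwi_3 hwi_4 hwi_7 hwi_8 hwi_7)
def ow_11 : D2 → D3 → (HWord rels S) := @D2.rec (fun _ => D3 → (HWord rels S)) (@D3.rec (fun _ => (HWord rels S)) hwi_3 hwi_8 hwi_3 hwi_8 hwi_8 hwi_7 hwi_3 hwi_8 hwi_3 hwi_8 hwi_2 hwi_8 hwi_8 hwi_7 hwi_7 hwi_3 hwi_8 hwi_2 hwi_4 hwi_8 hwi_0 hwi_3 hwi_8 hwi_1 hwi_4 hwi_8 hwi_5 hwi_8 hwi_7 hwi_8 hwi_8 hwi_7 hwi_7 hwi_7 hwi_8 hwi_8 hwi_0 hwi_7 hwi_0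 hwi_0 hwi_0 hwi_1 hwi_4 hwi_8 hwi_8 hwi_7 hwi_0 hwi_0 hwi_0 hwi_0 hwi_8) (@D3.rec (fun _ => (HWord rels S)) hwi_7 hwi_8 hwi_7 hwi_3 hwi_3 hwi_8 hwi_6 hwi_5 hwi_8 hwi_2 hwi_4 hwi_8 hwi_4 hwi_8 hwi_1 hwi_4 hwi_8 hwi_5 hwi_8 hwi_7 hwi_4 hwi_8 hwi_8 hwi_7 hwi_6 hwi_8 hwi_7 hwi_6 hwi_7 hwi_1 hwi_5 hwi_8 hwi_1 hwi_4 hwi_8 hwi_5 hwi_8 hwi_7 hwi_2 hwi_2 hwi_1 hwi_3 hwi_8 hwi_7 hwi_0 hwi_4 hwi_8 hwi_5 hwi_8 hwi_7 hwi_6) (@D3.rec (fun _ => (HWord rels S)) hwi_8 hwi_7 hwi_4 hwi_8 hwi_5 hwi_8 hwi_7 hwi_6 hwi_8 hwi_7 hwi_3 hwi_3 hwi_8 hwi_7 hwi_8 hwi_7 hwi_8 hwi_7 hwi_1 hwi_1 hwi_2 hwi_1 hwi_1 hwi_1 hwi_3 hwi_0 hwi_4 hwi_8 hwi_3 hwi_8 hwi_7 hwi_7 hwi_2 hwi_2 hwi_1 hwi_8 hwi_7 hwi_3 hwi_7 hwi_3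 hwi_4 hwi_3 hwi_3 hwi_3 hwi_3 hwi_3 hwi_8 hwi_8 hwi_7 hwi_8 hwi_7) (@D3.rec (fun _ => (HWord rels S)) hwi_3 hwi_3 hwi_3 hwi_7 hwi_3 hwi_3 hwi_8 hwi_3 hwi_8 hwi_2 hwi_8 hwi_1 hwi_8 hwi_7 hwi_2 hwi_8 hwi_8 hwi_4 hwi_8 hwi_8 hwi_7 hwi_7 hwi_2 hwi_8 hwi_3 hwi_8 hwi_8 hwi_8 hwi_8 hwi_7 hwi_6 hwi_8 hwi_7 hwi_7 hwi_1 hwi_8 hwi_7 hwi_6 hwi_2 hwi_4 hwi_8 hwi_1 hwi_8 hwi_7 hwi_0 hwi_4 hwi_8 hwi_5 hwi_8 hwi_7 hwi_6) (@D3.rec (fun _ => (HWord rels S)) hwi_8 hwi_7 hwi_7 hwi_8 hwi_8 hwi_8 hwi_7 hwi_8 hwi_7 hwi_8 hwi_7 hwi_3 hwi_7 hwi_3 hwi_8 hwi_7 hwi_7 hwi_7 hwi_3 hwi_8 hwi_8 hwi_7 hwi_3 hwi_8 hwi_4 hwi_8 hwi_2 hwi_8 hwi_8 hwi_7 hwi_8 hwi_2 hwi_8 hwi_1 hwi_8 hwi_7 hwi_0 hwi_8 hwi_7 hwi_3 hwi_8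 hwi_2 hwi_8 hwi_1 hwi_8 hwi_8 hwi_7 hwi_1 hwi_8 hwi_2 hwi_4) (@D3.rec (fun _ => (HWord rels S)) hwi_8 hwi_8 hwi_4 hwi_8 hwi_5 hwi_8 hwi_7 hwi_0 hwi_4 hwi_8 hwi_8 hwi_7 hwi_7 hwi_8 hwi_4 hwi_8 hwi_8 hwi_7 hwi_7 hwi_8 hwi_7 hwi_3 hwi_7 hwi_7 hwi_3 hwi_4 hwi_3 hwi_8 hwi_2 hwi_8 hwi_1 hwi_8 hwi_7 hwi_7 hwi_5 hwi_8 hwi_2 hwi_4 hwi_8 hwi_8 hwi_8 hwi_7 hwi_0 hwi_8 hwi_7 hwi_6 hwi_7 hwi_8 hwi_8 hwi_8 hwi_7) (@D3.rec (fun _ => (HWord rels S)) hwi_7 hwi_7 hwi_8 hwi_7 hwi_3 hwi_2 hwi_4 hwi_8 hwi_1 hwi_8 hwi_7 hwi_4 hwi_8 hwi_5 hwi_8 hwi_7 hwi_6 hwi_7 hwi_6 hwi_7 hwi_5 hwi_5 hwi_8 hwi_1 hwi_4 hwi_8 hwi_5 hwi_8 hwi_7 hwi_4 hwi_8 hwi_7 hwi_0 hwi_4 hwi_8 hwi_5 hwi_8 hwi_7 hwi_6 hwi_8 hwi_7 hwi_4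 hwi_8 hwi_5 hwi_8 hwi_7 hwi_6 hwi_8 hwi_7 hwi_3 hwi_2) (@D3.rec (fun _ => (HWord rels S)) hwi_8 hwi_7 hwi_7 hwi_8 hwi_7 hwi_6 hwi_4 hwi_5 hwi_8 hwi_3 hwi_3 hwi_0 hwi_4 hwi_8 hwi_3 hwi_8 hwi_7 hwi_7 hwi_8 hwi_7 hwi_8 hwi_7 hwi_3 hwi_7 hwi_3 hwi_4 hwi_3 hwi_6 hwi_3 hwi_4 hwi_3 hwi_3 hwi_4 hwi_8 hwi_3 hwi_8 hwi_7 hwi_8 hwi_7 hwi_8 hwi_3 hwi_7 hwi_3 hwi_4 hwi_3 hwi_2 hwi_4 hwi_5 hwi_7 hwi_3 hwi_8) (@D3.rec (fun _ => (HWord rels S)) hwi_4 hwi_8 hwi_8 hwi_7 hwi_8 hwi_3 hwi_8 hwi_7 hwi_3 hwi_8 hwi_4 hwi_8 hwi_3 hwi_8 hwi_5 hwi_8 hwi_7 hwi_7 hwi_3 hwi_8 hwi_2 hwi_3 hwi_8 hwi_1 hwi_4 hwi_8 hwi_5 hwi_8 hwi_7 hwi_2 hwi_2 hwi_3 hwi_7 hwi_8 hwi_2 hwi_4 hwi_8 hwi_5 hwi_8 hwi_7 hwi_8 hwi_7 hwi_8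 hwi_7 hwi_7 hwi_7 hwi_8 hwi_2 hwi_7 hwi_2 hwi_2) (@D3.rec (fun _ => (HWord rels S)) hwi_7 hwi_8 hwi_0 hwi_4 hwi_8 hwi_3 hwi_8 hwi_2 hwi_7 hwi_8 hwi_8 hwi_8 hwi_8 hwi_7 hwi_7 hwi_8 hwi_7 hwi_3 hwi_8 hwi_8 hwi_3 hwi_8 hwi_3 hwi_8 hwi_4 hwi_8 hwi_8 hwi_7 hwi_7 hwi_8 hwi_3 hwi_5 hwi_8 hwi_1 hwi_4 hwi_8 hwi_8 hwi_7 hwi_3 hwi_3 hwi_2 hwi_0 hwi_8 hwi_7 hwi_8 hwi_7 hwi_7 hwi_7 hwi_4 hwi_7 hwi_7) (@D3.rec (fun _ => (HWord rels S)) hwi_7 hwi_0 hwi_4 hwi_8 hwi_3 hwi_8 hwi_7 hwi_7 hwi_8 hwi_8 hwi_2 hwi_4 hwi_8 hwi_3 hwi_8 hwi_3 hwi_5 hwi_8 hwi_1 hwi_4 hwi_8 hwi_5 hwi_8 hwi_7 hwi_3 hwi_2 hwi_3 hwi_8 hwi_7 hwi_0 hwi_4 hwi_8 hwi_5 hwi_8 hwi_7 hwi_6 hwi_8 hwi_7 hwi_8 hwi_8 hwi_7 hwi_6 hwi_8 hwi_7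 hwi_3 hwi_8 hwi_7 hwi_3 hwi_4 hwi_2 hwi_3) (@D3.rec (fun _ => (HWord rels S)) hwi_4 hwi_3 hwi_4 hwi_8 hwi_2 hwi_0 hwi_4 hwi_8 hwi_3 hwi_5 hwi_8 hwi_7 hwi_6 hwi_8 hwi_7 hwi_3 hwi_4 hwi_3 hwi_3 hwi_4 hwi_3 hwi_3 hwi_8 hwi_7 hwi_4 hwi_8 hwi_5 hwi_8 hwi_7 hwi_6 hwi_8 hwi_7 hwi_3 hwi_0 hwi_8 hwi_7 hwi_8 hwi_7 hwi_6 hwi_8 hwi_7 hwi_3 hwi_0 hwi_8 hwi_7 hwi_3 hwi_4 hwi_3 hwi_7 hwi_4 hwi_8) (@D3.rec (fun _ => (HWord rels S)) hwi_7 hwi_7 hwi_7 hwi_3 hwi_7 hwi_8 hwi_8 hwi_3 hwi_7 hwi_8 hwi_3 hwi_7 hwi_8 hwi_7 hwi_3 hwi_4 hwi_7 hwi_8 hwi_8 hwi_7 hwi_3 hwi_2 hwi_8 hwi_7 hwi_0 hwi_4 hwi_8 hwi_1 hwi_4 hwi_8 hwi_8 hwi_7 hwi_7 hwi_8 hwi_7 hwi_7 hwi_7 hwi_8 hwi_0 hwi_4 hwi_8 hwi_3 hwi_8 hwi_7 hwi_7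 hwi_8 hwi_7 hwi_8 hwi_4 hwi_3 hwi_5) (@D3.rec (fun _ => (HWord rels S)) hwi_3 hwi_8 hwi_8 hwi_7 hwi_7 hwi_7 hwi_3 hwi_4 hwi_7 hwi_7 hwi_7 hwi_3 hwi_3 hwi_7 hwi_4 hwi_7 hwi_3 hwi_4 hwi_3 hwi_2 hwi_4 hwi_3 hwi_7 hwi_3 hwi_7 hwi_3 hwi_4 hwi_5 hwi_8 hwi_6 hwi_8 hwi_8 hwi_7 hwi_5 hwi_8 hwi_7 hwi_8 hwi_7 hwi_3 hwi_8 hwi_7 hwi_3 hwi_4 hwi_3 hwi_8 hwi_7 hwi_7 hwi_8 hwi_7 hwi_7 hwi_7) (@D3.rec (fun _ => (HWord rels S)) hwi_3 hwi_4 hwi_3 hwi_2 hwi_4 hwi_5 hwi_7 hwi_4 hwi_8 hwi_7 hwi_7 hwi_3 hwi_4 hwi_7 hwi_4 hwi_3 hwi_3 hwi_2 hwi_4 hwi_5 hwi_2 hwi_4 hwi_4 hwi_5 hwi_6 hwi_0 hwi_8 hwi_7 hwi_3 hwi_8 hwi_7 hwi_8 hwi_7 hwi_3 hwi_7 hwi_3 hwi_4 hwi_7 hwi_8 hwi_3 hwi_8 hwi_7 hwi_7 hwi_8 hwi_3 hwi_8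 hwi_3 hwi_4 hwi_3 hwi_4 hwi_5) (@D3.rec (fun _ => (HWord rels S)) hwi_8 hwi_7 hwi_5 hwi_7 hwi_8 hwi_6 hwi_8 hwi_7 hwi_3 hwi_8 hwi_7 hwi_3 hwi_4 hwi_5 hwi_4 hwi_8 hwi_4 hwi_7 hwi_5 hwi_8 hwi_7 hwi_6 hwi_8 hwi_7 hwi_0 hwi_8 hwi_7 hwi_3 hwi_4 hwi_3 hwi_7 hwi_6 hwi_8 hwi_7 hwi_0 hwi_8 hwi_7 hwi_3 hwi_2 hwi_7 hwi_3 hwi_4 hwi_7 hwi_8 hwi_7 hwi_5 hwi_8 hwi_5 hwi_8 hwi_2 hwi_8) (@D3.rec (fun _ => (HWord rels S)) hwi_1 hwi_8 hwi_7 hwi_1 hwi_8 hwi_7 hwi_8 hwi_7 hwi_8 hwi_7 hwi_8 hwi_7 hwi_8 hwi_7 hwi_6 hwi_8 hwi_7 hwi_6 hwi_8 hwi_7 hwi_6 hwi_8 hwi_7 hwi_0 hwi_8 hwi_7 hwi_3 hwi_7 hwi_7 hwi_1 hwi_8 hwi_7 hwi_3 hwi_6 hwi_8 hwi_7 hwi_4 hwi_8 hwi_7 hwi_8 hwi_7 hwi_3 hwi_2 hwi_8 hwi_7 hwi_7 hwi_0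 hwi_8 hwi_7 hwi_0 hwi_8) (@D3.rec (fun _ => (HWord rels S)) hwi_7 hwi_8 hwi_7 hwi_3 hwi_7 hwi_3 hwi_4 hwi_3 hwi_8 hwi_7 hwi_3 hwi_8 hwi_2 hwi_4 hwi_8 hwi_1 hwi_4 hwi_8 hwi_8 hwi_7 hwi_8 hwi_3 hwi_8 hwi_7 hwi_8 hwi_6 hwi_8 hwi_7 hwi_2 hwi_3 hwi_8 hwi_4 hwi_8 hwi_8 hwi_8 hwi_5 hwi_8 hwi_7 hwi_6 hwi_8 hwi_7 hwi_0 hwi_8 hwi_7 hwi_6 hwi_7 hwi_3 hwi_8 hwi_2 hwi_4 hwi_8) (@D3.rec (fun _ => (HWord rels S)) hwi_5 hwi_7 hwi_3 hwi_8 hwi_6 hwi_7 hwi_2 hwi_4 hwi_8 hwi_1 hwi_4 hwi_8 hwi_8 hwi_7 hwi_1 hwi_3 hwi_5 hwi_8 hwi_7 hwi_7 hwi_7 hwi_2 hwi_8 hwi_1 hwi_8 hwi_0 hwi_8 hwi_7 hwi_0 hwi_8 hwi_8 hwi_7 hwi_3 hwi_5 hwi_7 hwi_3 hwi_8 hwi_4 hwi_8 hwi_8 hwi_7 hwi_7 hwi_3 hwi_8 hwi_8 hwi_5 hwi_8 hwi_7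 hwi_6 hwi_8 hwi_7) (@D3.rec (fun _ => (HWord rels S)) hwi_1 hwi_8 hwi_7 hwi_2 hwi_3 hwi_8 hwi_2 hwi_7 hwi_4 hwi_8 hwi_5 hwi_8 hwi_7 hwi_2 hwi_8 hwi_2 hwi_4 hwi_8 hwi_8 hwi_8 hwi_5 hwi_8 hwi_7 hwi_8 hwi_5 hwi_8 hwi_7 hwi_6 hwi_8 hwi_7 hwi_6 hwi_8 hwi_7 hwi_0 hwi_8 hwi_7 hwi_3 hwi_3 hwi_7 hwi_8 hwi_6 hwi_7 hwi_4 hwi_1 hwi_3 hwi_8 hwi_4 hwi_7 hwi_2 hwi_4 hwi_8) (@D3.rec (fun _ => (HWord rels S)) hwi_8 hwi_8 hwi_7 hwi_4 hwi_1 hwi_7 hwi_2 hwi_4 hwi_8 hwi_1 hwi_1 hwi_3 hwi_1 hwi_4 hwi_8 hwi_5 hwi_8 hwi_7 hwi_8 hwi_8 hwi_7 hwi_7 hwi_1 hwi_8 hwi_3 hwi_8 hwi_7 hwi_3 hwi_7 hwi_1 hwi_1 hwi_1 hwi_4 hwi_8 hwi_8 hwi_7 hwi_8 hwi_3 hwi_8 hwi_7 hwi_8 hwi_7 hwi_3 hwi_3 hwi_3 hwi_4 hwi_8 hwi_8 hwi_7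 hwi_7 hwi_7) (@D3.rec (fun _ => (HWord rels S)) hwi_7 hwi_3 hwi_7 hwi_3 hwi_4 hwi_7 hwi_7 hwi_2 hwi_3 hwi_8 hwi_8 hwi_6 hwi_5 hwi_3 hwi_8 hwi_3 hwi_8 hwi_2 hwi_4 hwi_8 hwi_8 hwi_8 hwi_7 hwi_5 hwi_8 hwi_7 hwi_7 hwi_7 hwi_7 hwi_1 hwi_3 hwi_8 hwi_7 hwi_8 hwi_2 hwi_4 hwi_8 hwi_8 hwi_8 hwi_7 hwi_6 hwi_5 hwi_8 hwi_2 hwi_4 hwi_8 hwi_8 hwi_8 hwi_5 hwi_8 hwi_7) (@D3.rec (fun _ => (HWord rels S)) hwi_7 hwi_6 hwi_8 hwi_7 hwi_6 hwi_8 hwi_7 hwi_1 hwi_8 hwi_7 hwi_3 hwi_8 hwi_7 hwi_8 hwi_8 hwi_7 hwi_7 hwi_3 hwi_1 hwi_3 hwi_8 hwi_1 hwi_7 hwi_8 hwi_2 hwi_4 hwi_8 hwi_7 hwi_7 hwi_8 hwi_1 hwi_4 hwi_8 hwi_5 hwi_8 hwi_7 hwi_8 hwi_8 hwi_7 hwi_6 hwi_8 hwi_7 hwi_3 hwi_8 hwi_3 hwi_3 hwi_8 hwi_1 hwi_4 hwi_8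 hwi_5) (@D3.rec (fun _ => (HWord rels S)) hwi_8 hwi_7 hwi_3 hwi_8 hwi_3 hwi_8 hwi_7 hwi_0 hwi_4 hwi_8 hwi_5 hwi_8 hwi_7 hwi_6 hwi_8 hwi_7 hwi_8 hwi_8 hwi_7 hwi_6 hwi_8 hwi_7 hwi_3 hwi_2 hwi_8 hwi_7 hwi_3 hwi_4 hwi_8 hwi_7 hwi_4 hwi_8 hwi_7 hwi_3 hwi_4 hwi_7 hwi_3 hwi_2 hwi_3 hwi_4 hwi_8 hwi_7 hwi_0 hwi_4 hwi_8 hwi_3 hwi_8 hwi_7 hwi_7 hwi_4 hwi_8) (@D3.rec (fun _ => (HWord rels S)) hwi_7 hwi_8 hwi_7 hwi_3 hwi_7 hwi_3 hwi_4 hwi_4 hwi_8 hwi_7 hwi_4 hwi_8 hwi_8 hwi_7 hwi_7 hwi_3 hwi_8 hwi_7 hwi_7 hwi_7 hwi_3 hwi_4 hwi_8 hwi_7 hwi_8 hwi_8 hwi_7 hwi_7 hwi_8 hwi_7 hwi_8 hwi_7 hwi_8 hwi_7 hwi_8 hwi_7 hwi_3 hwi_8 hwi_1 hwi_8 hwi_5 hwi_7 hwi_3 hwi_8 hwi_3 hwi_7 hwi_4 hwi_3 hwi_8 hwi_2 hwi_4)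 (@D3.rec (fun _ => (HWord rels S)) hwi_8 hwi_8 hwi_8 hwi_7 hwi_8 hwi_5 hwi_8 hwi_8 hwi_8 hwi_7 hwi_3 hwi_8 hwi_2 hwi_4 hwi_8 hwi_3 hwi_3 hwi_8 hwi_4 hwi_7 hwi_8 hwi_1 hwi_8 hwi_5 hwi_8 hwi_7 hwi_8 hwi_7 hwi_8 hwi_7 hwi_7 hwi_8 hwi_7 hwi_8 hwi_7 hwi_8 hwi_7 hwi_3 hwi_8 hwi_3 hwi_8 hwi_2 hwi_8 hwi_5 hwi_3 hwi_8 hwi_2 hwi_4 hwi_8 hwi_0 hwi_3) (@D3.rec (fun _ => (HWord rels S)) hwi_8 hwi_0 hwi_8 hwi_2 hwi_4 hwi_8 hwi_1 hwi_4 hwi_8 hwi_8 hwi_7 hwi_5 hwi_8 hwi_7 hwi_7 hwi_1 hwi_8 hwi_7 hwi_8 hwi_7 hwi_7 hwi_3 hwi_8 hwi_1 hwi_7 hwi_2 hwi_4 hwi_8 hwi_1 hwi_4 hwi_8 hwi_5 hwi_8 hwi_7 hwi_4 hwi_8 hwi_8 hwi_4 hwi_8 hwi_8 hwi_7 hwi_0 hwi_4 hwi_8 hwi_5 hwi_8 hwi_7 hwi_6 hwi_8 hwi_7 hwi_7)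
def ow_12 : D2 → D3 → (HWord rels S) := @D2.rec (fun _ => D3 → (HWord rels S)) (@D3.rec (fun _ => (HWord rels S)) hwi_0 hwi_8 hwi_7 hwi_3 hwi_7 hwi_8 hwi_7 hwi_3 hwi_7 hwi_7 hwi_8 hwi_7 hwi_8 hwi_7 hwi_5 hwi_8 hwi_7 hwi_8 hwi_7 hwi_7 hwi_3 hwi_8 hwi_8 hwi_7 hwi_8 hwi_7 hwi_8 hwi_8 hwi_8 hwi_7 hwi_5 hwi_4 hwi_8 hwi_7 hwi_8 hwi_7 hwi_3 hwi_7 hwi_8 hwi_8 hwi_7 hwi_4 hwi_3 hwi_8 hwi_8 hwi_7 hwi_6 hwi_7 hwi_6 hwi_3 hwi_8) (@D3.rec (fun _ => (HWord rels S)) hwi_2 hwi_4 hwi_8 hwi_5 hwi_5 hwi_3 hwi_8 hwi_4 hwi_8 hwi_2 hwi_4 hwi_8 hwi_1 hwi_8 hwi_8 hwi_7 hwi_5 hwi_8 hwi_7 hwi_7 hwi_6 hwi_8 hwi_2 hwi_8 hwi_8 hwi_7 hwi_8 hwi_7 hwi_7 hwi_6 hwi_3 hwi_8 hwi_6 hwi_8 hwi_2 hwi_4 hwi_8 hwi_1 hwi_4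 hwi_8 hwi_5 hwi_8 hwi_7 hwi_5 hwi_5 hwi_7 hwi_2 hwi_4 hwi_8 hwi_8 hwi_1) (@D3.rec (fun _ => (HWord rels S)) hwi_8 hwi_5 hwi_8 hwi_7 hwi_0 hwi_4 hwi_8 hwi_5 hwi_8 hwi_7 hwi_6 hwi_8 hwi_7 hwi_3 hwi_6 hwi_8 hwi_7 hwi_8 hwi_7 hwi_3 hwi_7 hwi_7 hwi_5 hwi_8 hwi_1 hwi_4 hwi_8 hwi_8 hwi_7 hwi_3 hwi_8 hwi_7 hwi_8 hwi_7 hwi_3 hwi_3 hwi_3 hwi_0 hwi_4 hwi_8 hwi_8 hwi_7 hwi_7 hwi_3 hwi_8 hwi_7 hwi_7 hwi_3 hwi_7 hwi_6 hwi_3) (@D3.rec (fun _ => (HWord rels S)) hwi_8 hwi_8 hwi_5 hwi_3 hwi_8 hwi_4 hwi_8 hwi_2 hwi_8 hwi_1 hwi_8 hwi_7 hwi_3 hwi_7 hwi_6 hwi_3 hwi_8 hwi_6 hwi_7 hwi_2 hwi_4 hwi_8 hwi_1 hwi_4 hwi_8 hwi_8 hwi_7 hwi_0 hwi_0 hwi_8 hwi_2 hwi_4 hwi_8 hwi_0 hwi_0 hwi_8 hwi_1 hwi_4 hwi_8 hwi_5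 hwi_8 hwi_7 hwi_0 hwi_4 hwi_8 hwi_8 hwi_7 hwi_7 hwi_0 hwi_8 hwi_7) (@D3.rec (fun _ => (HWord rels S)) hwi_8 hwi_7 hwi_3 hwi_8 hwi_0 hwi_4 hwi_8 hwi_1 hwi_8 hwi_8 hwi_7 hwi_0 hwi_8 hwi_7 hwi_0 hwi_8 hwi_7 hwi_8 hwi_7 hwi_3 hwi_4 hwi_3 hwi_8 hwi_7 hwi_1 hwi_7 hwi_2 hwi_4 hwi_8 hwi_1 hwi_1 hwi_8 hwi_1 hwi_4 hwi_8 hwi_5 hwi_8 hwi_7 hwi_8 hwi_8 hwi_7 hwi_6 hwi_8 hwi_7 hwi_1 hwi_8 hwi_1 hwi_4 hwi_8 hwi_1 hwi_4) (@D3.rec (fun _ => (HWord rels S)) hwi_8 hwi_5 hwi_8 hwi_7 hwi_4 hwi_8 hwi_1 hwi_8 hwi_7 hwi_0 hwi_4 hwi_8 hwi_5 hwi_8 hwi_7 hwi_6 hwi_8 hwi_7 hwi_8 hwi_8 hwi_7 hwi_6 hwi_8 hwi_7 hwi_3 hwi_4 hwi_8 hwi_7 hwi_3 hwi_8 hwi_7 hwi_0 hwi_8 hwi_7 hwi_3 hwi_4 hwi_7 hwi_3 hwi_2 hwi_4 hwi_8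 hwi_8 hwi_7 hwi_0 hwi_4 hwi_8 hwi_3 hwi_8 hwi_7 hwi_7 hwi_7) (@D3.rec (fun _ => (HWord rels S)) hwi_8 hwi_7 hwi_3 hwi_7 hwi_3 hwi_4 hwi_7 hwi_4 hwi_8 hwi_8 hwi_7 hwi_7 hwi_3 hwi_7 hwi_8 hwi_7 hwi_7 hwi_6 hwi_8 hwi_7 hwi_8 hwi_7 hwi_7 hwi_3 hwi_3 hwi_3 hwi_8 hwi_1 hwi_7 hwi_2 hwi_8 hwi_8 hwi_7 hwi_2 hwi_2 hwi_8 hwi_4 hwi_8 hwi_2 hwi_8 hwi_5 hwi_8 hwi_7 hwi_7 hwi_8 hwi_7 hwi_8 hwi_7 hwi_3 hwi_3 hwi_2) (@D3.rec (fun _ => (HWord rels S)) hwi_3 hwi_8 hwi_2 hwi_2 hwi_7 hwi_4 hwi_8 hwi_2 hwi_3 hwi_5 hwi_8 hwi_7 hwi_7 hwi_2 hwi_2 hwi_3 hwi_5 hwi_8 hwi_1 hwi_4 hwi_8 hwi_5 hwi_8 hwi_7 hwi_8 hwi_2 hwi_8 hwi_7 hwi_8 hwi_5 hwi_8 hwi_7 hwi_6 hwi_8 hwi_7 hwi_7 hwi_7 hwi_3 hwi_8 hwi_7 hwi_3 hwi_2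 hwi_8 hwi_7 hwi_4 hwi_8 hwi_7 hwi_3 hwi_8 hwi_7 hwi_3) (@D3.rec (fun _ => (HWord rels S)) hwi_2 hwi_7 hwi_7 hwi_7 hwi_8 hwi_7 hwi_8 hwi_3 hwi_8 hwi_2 hwi_3 hwi_8 hwi_2 hwi_8 hwi_8 hwi_7 hwi_6 hwi_7 hwi_8 hwi_2 hwi_4 hwi_8 hwi_7 hwi_8 hwi_8 hwi_7 hwi_7 hwi_2 hwi_3 hwi_8 hwi_2 hwi_2 hwi_8 hwi_4 hwi_8 hwi_2 hwi_8 hwi_5 hwi_8 hwi_7 hwi_7 hwi_7 hwi_8 hwi_7 hwi_7 hwi_8 hwi_1 hwi_4 hwi_8 hwi_5 hwi_8) (@D3.rec (fun _ => (HWord rels S)) hwi_7 hwi_7 hwi_8 hwi_3 hwi_8 hwi_7 hwi_8 hwi_5 hwi_8 hwi_7 hwi_8 hwi_7 hwi_7 hwi_7 hwi_3 hwi_4 hwi_8 hwi_7 hwi_7 hwi_3 hwi_2 hwi_7 hwi_3 hwi_8 hwi_7 hwi_8 hwi_8 hwi_0 hwi_4 hwi_8 hwi_3 hwi_8 hwi_8 hwi_2 hwi_2 hwi_8 hwi_2 hwi_4 hwi_8 hwi_2 hwi_8 hwi_3 hwi_2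 hwi_8 hwi_1 hwi_4 hwi_8 hwi_5 hwi_8 hwi_7 hwi_3) (@D3.rec (fun _ => (HWord rels S)) hwi_3 hwi_8 hwi_7 hwi_8 hwi_7 hwi_8 hwi_5 hwi_8 hwi_7 hwi_6 hwi_8 hwi_7 hwi_7 hwi_6 hwi_8 hwi_7 hwi_1 hwi_8 hwi_7 hwi_3 hwi_7 hwi_3 hwi_8 hwi_2 hwi_7 hwi_8 hwi_3 hwi_8 hwi_7 hwi_0 hwi_4 hwi_8 hwi_3 hwi_5 hwi_8 hwi_7 hwi_6 hwi_8 hwi_7 hwi_7 hwi_2 hwi_8 hwi_2 hwi_8 hwi_7 hwi_3 hwi_8 hwi_7 hwi_8 hwi_5 hwi_8) (@D3.rec (fun _ => (HWord rels S)) hwi_7 hwi_6 hwi_8 hwi_7 hwi_3 hwi_0 hwi_8 hwi_7 hwi_3 hwi_7 hwi_6 hwi_8 hwi_7 hwi_3 hwi_1 hwi_8 hwi_7 hwi_3 hwi_4 hwi_4 hwi_7 hwi_3 hwi_2 hwi_0 hwi_8 hwi_7 hwi_3 hwi_8 hwi_7 hwi_3 hwi_2 hwi_4 hwi_3 hwi_2 hwi_1 hwi_2 hwi_2 hwi_8 hwi_8 hwi_8 hwi_7 hwi_2 hwi_8 hwi_2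 hwi_8 hwi_8 hwi_8 hwi_4 hwi_8 hwi_3 hwi_8) (@D3.rec (fun _ => (HWord rels S)) hwi_7 hwi_7 hwi_8 hwi_7 hwi_3 hwi_3 hwi_8 hwi_7 hwi_3 hwi_7 hwi_3 hwi_4 hwi_8 hwi_8 hwi_7 hwi_8 hwi_3 hwi_7 hwi_8 hwi_3 hwi_8 hwi_8 hwi_7 hwi_8 hwi_2 hwi_8 hwi_3 hwi_4 hwi_7 hwi_8 hwi_4 hwi_8 hwi_1 hwi_4 hwi_8 hwi_8 hwi_7 hwi_4 hwi_8 hwi_0 hwi_4 hwi_8 hwi_3 hwi_8 hwi_8 hwi_8 hwi_7 hwi_4 hwi_2 hwi_7 hwi_3) (@D3.rec (fun _ => (HWord rels S)) hwi_8 hwi_7 hwi_3 hwi_4 hwi_2 hwi_7 hwi_3 hwi_2 hwi_5 hwi_8 hwi_7 hwi_8 hwi_8 hwi_7 hwi_7 hwi_8 hwi_8 hwi_7 hwi_4 hwi_8 hwi_5 hwi_8 hwi_7 hwi_8 hwi_7 hwi_3 hwi_8 hwi_8 hwi_8 hwi_7 hwi_4 hwi_8 hwi_7 hwi_7 hwi_3 hwi_3 hwi_8 hwi_8 hwi_7 hwi_4 hwi_8 hwi_5 hwi_8 hwi_7 hwi_7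 hwi_8 hwi_7 hwi_7 hwi_4 hwi_8 hwi_7) (@D3.rec (fun _ => (HWord rels S)) hwi_6 hwi_8 hwi_7 hwi_6 hwi_7 hwi_5 hwi_5 hwi_8 hwi_1 hwi_4 hwi_8 hwi_5 hwi_8 hwi_7 hwi_4 hwi_8 hwi_7 hwi_4 hwi_8 hwi_5 hwi_8 hwi_7 hwi_6 hwi_8 hwi_7 hwi_8 hwi_7 hwi_6 hwi_8 hwi_7 hwi_3 hwi_1 hwi_8 hwi_7 hwi_8 hwi_7 hwi_7 hwi_8 hwi_3 hwi_8 hwi_7 hwi_7 hwi_3 hwi_8 hwi_7 hwi_7 hwi_8 hwi_7 hwi_3 hwi_7 hwi_3) (@D3.rec (fun _ => (HWord rels S)) hwi_4 hwi_3 hwi_8 hwi_3 hwi_8 hwi_4 hwi_8 hwi_8 hwi_7 hwi_3 hwi_8 hwi_1 hwi_4 hwi_8 hwi_8 hwi_7 hwi_3 hwi_8 hwi_7 hwi_0 hwi_8 hwi_7 hwi_8 hwi_7 hwi_3 hwi_0 hwi_8 hwi_7 hwi_4 hwi_8 hwi_7 hwi_8 hwi_7 hwi_3 hwi_7 hwi_3 hwi_4 hwi_8 hwi_7 hwi_3 hwi_8 hwi_3 hwi_7 hwi_3 hwi_8 hwi_3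 hwi_8 hwi_4 hwi_8 hwi_8 hwi_7) (@D3.rec (fun _ => (HWord rels S)) hwi_2 hwi_4 hwi_8 hwi_2 hwi_8 hwi_8 hwi_7 hwi_7 hwi_3 hwi_8 hwi_2 hwi_4 hwi_8 hwi_1 hwi_4 hwi_8 hwi_5 hwi_8 hwi_7 hwi_0 hwi_2 hwi_0 hwi_3 hwi_8 hwi_7 hwi_8 hwi_5 hwi_8 hwi_7 hwi_8 hwi_7 hwi_7 hwi_7 hwi_3 hwi_8 hwi_0 hwi_0 hwi_4 hwi_0 hwi_0 hwi_0 hwi_3 hwi_0 hwi_4 hwi_8 hwi_3 hwi_8 hwi_7 hwi_7 hwi_1 hwi_0) (@D3.rec (fun _ => (HWord rels S)) hwi_0 hwi_8 hwi_7 hwi_3 hwi_7 hwi_3 hwi_4 hwi_2 hwi_4 hwi_8 hwi_6 hwi_8 hwi_5 hwi_5 hwi_8 hwi_1 hwi_4 hwi_8 hwi_5 hwi_8 hwi_7 hwi_2 hwi_8 hwi_7 hwi_4 hwi_8 hwi_5 hwi_8 hwi_7 hwi_6 hwi_8 hwi_7 hwi_8 hwi_7 hwi_7 hwi_3 hwi_4 hwi_8 hwi_7 hwi_1 hwi_6 hwi_3 hwi_2 hwi_5 hwi_1 hwi_4 hwi_8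 hwi_7 hwi_0 hwi_4 hwi_8) (@D3.rec (fun _ => (HWord rels S)) hwi_3 hwi_5 hwi_8 hwi_7 hwi_6 hwi_8 hwi_7 hwi_2 hwi_4 hwi_2 hwi_2 hwi_8 hwi_1 hwi_8 hwi_7 hwi_4 hwi_8 hwi_5 hwi_8 hwi_7 hwi_6 hwi_8 hwi_7 hwi_3 hwi_7 hwi_8 hwi_7 hwi_8 hwi_7 hwi_6 hwi_8 hwi_7 hwi_3 hwi_4 hwi_8 hwi_7 hwi_3 hwi_4 hwi_3 hwi_7 hwi_7 hwi_1 hwi_3 hwi_2 hwi_1 hwi_8 hwi_2 hwi_3 hwi_8 hwi_3 hwi_8) (@D3.rec (fun _ => (HWord rels S)) hwi_7 hwi_7 hwi_8 hwi_7 hwi_3 hwi_2 hwi_2 hwi_1 hwi_7 hwi_3 hwi_4 hwi_3 hwi_3 hwi_7 hwi_7 hwi_3 hwi_3 hwi_8 hwi_8 hwi_8 hwi_7 hwi_8 hwi_7 hwi_8 hwi_7 hwi_7 hwi_8 hwi_7 hwi_7 hwi_3 hwi_8 hwi_7 hwi_8 hwi_7 hwi_7 hwi_7 hwi_3 hwi_8 hwi_7 hwi_8 hwi_8 hwi_7 hwi_8 hwi_7 hwi_8 hwi_8 hwi_7 hwi_8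 hwi_7 hwi_3 hwi_8) (@D3.rec (fun _ => (HWord rels S)) hwi_7 hwi_7 hwi_7 hwi_7 hwi_3 hwi_7 hwi_3 hwi_4 hwi_7 hwi_3 hwi_8 hwi_8 hwi_7 hwi_5 hwi_8 hwi_2 hwi_4 hwi_8 hwi_8 hwi_8 hwi_7 hwi_7 hwi_1 hwi_8 hwi_7 hwi_8 hwi_7 hwi_8 hwi_7 hwi_3 hwi_2 hwi_4 hwi_8 hwi_8 hwi_7 hwi_8 hwi_7 hwi_7 hwi_4 hwi_8 hwi_4 hwi_8 hwi_5 hwi_8 hwi_7 hwi_7 hwi_5 hwi_8 hwi_7 hwi_8 hwi_7) (@D3.rec (fun _ => (HWord rels S)) hwi_8 hwi_8 hwi_7 hwi_7 hwi_3 hwi_3 hwi_8 hwi_7 hwi_7 hwi_3 hwi_7 hwi_3 hwi_4 hwi_2 hwi_4 hwi_8 hwi_8 hwi_7 hwi_8 hwi_7 hwi_6 hwi_8 hwi_5 hwi_8 hwi_4 hwi_8 hwi_8 hwi_7 hwi_7 hwi_7 hwi_8 hwi_7 hwi_3 hwi_8 hwi_7 hwi_7 hwi_7 hwi_3 hwi_7 hwi_3 hwi_4 hwi_1 hwi_4 hwi_8 hwi_8 hwi_7 hwi_8 hwi_7 hwi_8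 hwi_7 hwi_7) (@D3.rec (fun _ => (HWord rels S)) hwi_3 hwi_6 hwi_6 hwi_8 hwi_5 hwi_5 hwi_8 hwi_8 hwi_7 hwi_0 hwi_4 hwi_8 hwi_3 hwi_5 hwi_8 hwi_7 hwi_6 hwi_8 hwi_7 hwi_8 hwi_7 hwi_8 hwi_5 hwi_8 hwi_7 hwi_6 hwi_8 hwi_7 hwi_3 hwi_2 hwi_8 hwi_7 hwi_8 hwi_7 hwi_8 hwi_7 hwi_3 hwi_8 hwi_7 hwi_3 hwi_4 hwi_3 hwi_7 hwi_7 hwi_8 hwi_3 hwi_8 hwi_7 hwi_8 hwi_3 hwi_8) (@D3.rec (fun _ => (HWord rels S)) hwi_7 hwi_7 hwi_8 hwi_7 hwi_3 hwi_7 hwi_3 hwi_7 hwi_3 hwi_4 hwi_3 hwi_2 hwi_4 hwi_5 hwi_8 hwi_3 hwi_3 hwi_8 hwi_7 hwi_8 hwi_7 hwi_7 hwi_3 hwi_2 hwi_4 hwi_3 hwi_8 hwi_5 hwi_8 hwi_8 hwi_7 hwi_7 hwi_4 hwi_8 hwi_3 hwi_8 hwi_5 hwi_8 hwi_5 hwi_8 hwi_7 hwi_8 hwi_7 hwi_8 hwi_7 hwi_2 hwi_3 hwi_8 hwi_2 hwi_2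 hwi_3) (@D3.rec (fun _ => (HWord rels S)) hwi_7 hwi_8 hwi_7 hwi_4 hwi_8 hwi_3 hwi_5 hwi_8 hwi_7 hwi_8 hwi_7 hwi_2 hwi_3 hwi_7 hwi_4 hwi_3 hwi_7 hwi_8 hwi_7 hwi_5 hwi_8 hwi_7 hwi_8 hwi_7 hwi_7 hwi_7 hwi_3 hwi_8 hwi_7 hwi_8 hwi_2 hwi_8 hwi_8 hwi_3 hwi_8 hwi_8 hwi_7 hwi_7 hwi_8 hwi_2 hwi_4 hwi_8 hwi_3 hwi_8 hwi_8 hwi_7 hwi_7 hwi_3 hwi_7 hwi_8 hwi_3) (@D3.rec (fun _ => (HWord rels S)) hwi_5 hwi_3 hwi_8 hwi_7 hwi_0 hwi_4 hwi_8 hwi_3 hwi_8 hwi_7 hwi_7 hwi_3 hwi_3 hwi_3 hwi_8 hwi_7 hwi_7 hwi_7 hwi_8 hwi_7 hwi_8 hwi_3 hwi_8 hwi_7 hwi_8 hwi_7 hwi_1 hwi_4 hwi_8 hwi_8 hwi_7 hwi_3 hwi_6 hwi_8 hwi_3 hwi_5 hwi_3 hwi_8 hwi_7 hwi_0 hwi_4 hwi_8 hwi_3 hwi_5 hwi_8 hwi_7 hwi_6 hwi_8 hwi_7 hwi_3 hwi_4)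 (@D3.rec (fun _ => (HWord rels S)) hwi_3 hwi_8 hwi_3 hwi_7 hwi_8 hwi_5 hwi_8 hwi_7 hwi_6 hwi_8 hwi_7 hwi_1 hwi_8 hwi_7 hwi_7 hwi_7 hwi_4 hwi_8 hwi_7 hwi_3 hwi_3 hwi_7 hwi_4 hwi_3 hwi_6 hwi_4 hwi_2 hwi_4 hwi_3 hwi_4 hwi_3 hwi_4 hwi_3 hwi_4 hwi_8 hwi_7 hwi_4 hwi_8 hwi_3 hwi_5 hwi_8 hwi_7 hwi_5 hwi_7 hwi_8 hwi_6 hwi_8 hwi_7 hwi_3 hwi_3 hwi_8)
def ow_13 : D2 → D3 → (HWord rels S) := @D2.rec (fun _ => D3 → (HWord rels S)) (@D3.rec (fun _ => (HWord rels S)) hwi_7 hwi_3 hwi_4 hwi_3 hwi_5 hwi_4 hwi_3 hwi_8 hwi_4 hwi_7 hwi_0 hwi_8 hwi_7 hwi_5 hwi_8 hwi_7 hwi_6 hwi_8 hwi_7 hwi_3 hwi_0 hwi_8 hwi_7 hwi_3 hwi_4 hwi_3 hwi_7 hwi_7 hwi_0 hwi_8 hwi_7 hwi_3 hwi_2 hwi_7 hwi_3 hwi_4 hwi_3 hwi_7 hwi_3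 hwi_8 hwi_8 hwi_7 hwi_4 hwi_8 hwi_5 hwi_7 hwi_8 hwi_7 hwi_8 hwi_6 hwi_4) (@D3.rec (fun _ => (HWord rels S)) hwi_8 hwi_8 hwi_7 hwi_0 hwi_4 hwi_8 hwi_3 hwi_8 hwi_7 hwi_7 hwi_7 hwi_7 hwi_7 hwi_8 hwi_8 hwi_3 hwi_8 hwi_7 hwi_8 hwi_7 hwi_8 hwi_5 hwi_5 hwi_4 hwi_3 hwi_3 hwi_2 hwi_4 hwi_5 hwi_3 hwi_3 hwi_4 hwi_3 hwi_2 hwi_4 hwi_4 hwi_8 hwi_8 hwi_8 hwi_7 hwi_3 hwi_4 hwi_8 hwi_7 hwi_8 hwi_7 hwi_3 hwi_3 hwi_2 hwi_4 hwi_5) (@D3.rec (fun _ => (HWord rels S)) hwi_6 hwi_2 hwi_7 hwi_3 hwi_2 hwi_4 hwi_4 hwi_4 hwi_2 hwi_3 hwi_5 hwi_8 hwi_7 hwi_3 hwi_3 hwi_7 hwi_7 hwi_7 hwi_3 hwi_4 hwi_8 hwi_8 hwi_7 hwi_4 hwi_8 hwi_5 hwi_5 hwi_6 hwi_8 hwi_7 hwi_6 hwi_7 hwi_8 hwi_8 hwi_7 hwi_8 hwi_7 hwi_3 hwi_4 hwi_7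 hwi_3 hwi_2 hwi_5 hwi_5 hwi_7 hwi_4 hwi_8 hwi_7 hwi_8 hwi_7 hwi_3) (@D3.rec (fun _ => (HWord rels S)) hwi_8 hwi_7 hwi_3 hwi_4 hwi_5 hwi_8 hwi_7 hwi_8 hwi_7 hwi_3 hwi_2 hwi_3 hwi_7 hwi_7 hwi_8 hwi_7 hwi_8 hwi_7 hwi_8 hwi_7 hwi_7 hwi_7 hwi_7 hwi_3 hwi_8 hwi_7 hwi_3 hwi_8 hwi_8 hwi_8 hwi_7 hwi_2 hwi_3 hwi_8 hwi_7 hwi_3 hwi_4 hwi_8 hwi_7 hwi_8 hwi_7 hwi_2 hwi_3 hwi_2 hwi_4 hwi_7 hwi_8 hwi_7 hwi_8 hwi_7 hwi_3) (@D3.rec (fun _ => (HWord rels S)) hwi_7 hwi_3 hwi_2 hwi_4 hwi_8 hwi_4 hwi_8 hwi_4 hwi_8 hwi_8 hwi_7 hwi_8 hwi_7 hwi_8 hwi_7 hwi_8 hwi_7 hwi_8 hwi_8 hwi_7 hwi_7 hwi_7 hwi_6 hwi_8 hwi_7 hwi_8 hwi_7 hwi_3 hwi_3 hwi_8 hwi_4 hwi_8 hwi_1 hwi_4 hwi_8 hwi_7 hwi_6 hwi_7 hwi_2 hwi_4 hwi_8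 hwi_1 hwi_3 hwi_1 hwi_4 hwi_8 hwi_5 hwi_8 hwi_7 hwi_0 hwi_4) (@D3.rec (fun _ => (HWord rels S)) hwi_8 hwi_8 hwi_7 hwi_7 hwi_1 hwi_8 hwi_8 hwi_7 hwi_3 hwi_8 hwi_0 hwi_8 hwi_8 hwi_7 hwi_8 hwi_7 hwi_3 hwi_8 hwi_8 hwi_8 hwi_7 hwi_7 hwi_4 hwi_8 hwi_7 hwi_6 hwi_8 hwi_7 hwi_8 hwi_3 hwi_8 hwi_7 hwi_2 hwi_7 hwi_4 hwi_8 hwi_8 hwi_5 hwi_8 hwi_7 hwi_6 hwi_8 hwi_7 hwi_4 hwi_8 hwi_4 hwi_8 hwi_5 hwi_8 hwi_7 hwi_7) (@D3.rec (fun _ => (HWord rels S)) hwi_7 hwi_6 hwi_8 hwi_7 hwi_7 hwi_6 hwi_8 hwi_7 hwi_0 hwi_8 hwi_7 hwi_3 hwi_0 hwi_8 hwi_7 hwi_3 hwi_8 hwi_7 hwi_3 hwi_2 hwi_1 hwi_3 hwi_8 hwi_1 hwi_1 hwi_7 hwi_2 hwi_4 hwi_8 hwi_1 hwi_1 hwi_3 hwi_8 hwi_5 hwi_8 hwi_7 hwi_7 hwi_7 hwi_1 hwi_7 hwi_1 hwi_6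 hwi_3 hwi_1 hwi_4 hwi_8 hwi_5 hwi_8 hwi_7 hwi_1 hwi_8) (@D3.rec (fun _ => (HWord rels S)) hwi_1 hwi_8 hwi_3 hwi_8 hwi_5 hwi_8 hwi_7 hwi_8 hwi_7 hwi_7 hwi_7 hwi_3 hwi_3 hwi_1 hwi_8 hwi_4 hwi_7 hwi_3 hwi_2 hwi_8 hwi_3 hwi_4 hwi_8 hwi_3 hwi_8 hwi_7 hwi_7 hwi_2 hwi_7 hwi_3 hwi_7 hwi_3 hwi_4 hwi_3 hwi_8 hwi_7 hwi_7 hwi_3 hwi_7 hwi_3 hwi_4 hwi_2 hwi_3 hwi_8 hwi_7 hwi_8 hwi_8 hwi_7 hwi_6 hwi_5 hwi_8) (@D3.rec (fun _ => (HWord rels S)) hwi_2 hwi_4 hwi_8 hwi_2 hwi_8 hwi_8 hwi_5 hwi_8 hwi_7 hwi_7 hwi_7 hwi_8 hwi_7 hwi_3 hwi_3 hwi_8 hwi_7 hwi_8 hwi_2 hwi_4 hwi_8 hwi_8 hwi_8 hwi_5 hwi_8 hwi_7 hwi_7 hwi_7 hwi_6 hwi_8 hwi_5 hwi_8 hwi_4 hwi_8 hwi_5 hwi_8 hwi_7 hwi_7 hwi_7 hwi_6 hwi_8 hwi_7 hwi_3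 hwi_1 hwi_8 hwi_7 hwi_3 hwi_4 hwi_8 hwi_7 hwi_3) (@D3.rec (fun _ => (HWord rels S)) hwi_8 hwi_7 hwi_3 hwi_3 hwi_7 hwi_3 hwi_1 hwi_8 hwi_2 hwi_4 hwi_8 hwi_7 hwi_8 hwi_7 hwi_7 hwi_8 hwi_1 hwi_4 hwi_8 hwi_5 hwi_8 hwi_7 hwi_7 hwi_8 hwi_7 hwi_8 hwi_7 hwi_8 hwi_5 hwi_8 hwi_7 hwi_6 hwi_8 hwi_7 hwi_7 hwi_7 hwi_3 hwi_2 hwi_8 hwi_7 hwi_3 hwi_3 hwi_8 hwi_3 hwi_3 hwi_8 hwi_3 hwi_8 hwi_7 hwi_0 hwi_4) (@D3.rec (fun _ => (HWord rels S)) hwi_8 hwi_3 hwi_5 hwi_8 hwi_7 hwi_6 hwi_8 hwi_7 hwi_3 hwi_8 hwi_7 hwi_3 hwi_8 hwi_7 hwi_8 hwi_5 hwi_8 hwi_7 hwi_6 hwi_8 hwi_7 hwi_3 hwi_3 hwi_8 hwi_7 hwi_3 hwi_7 hwi_7 hwi_3 hwi_3 hwi_8 hwi_7 hwi_4 hwi_4 hwi_7 hwi_3 hwi_2 hwi_4 hwi_8 hwi_7 hwi_3 hwi_8 hwi_7 hwi_3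 hwi_2 hwi_4 hwi_3 hwi_2 hwi_1 hwi_4 hwi_8) (@D3.rec (fun _ => (HWord rels S)) hwi_7 hwi_4 hwi_8 hwi_3 hwi_8 hwi_7 hwi_7 hwi_8 hwi_7 hwi_3 hwi_8 hwi_7 hwi_3 hwi_7 hwi_3 hwi_4 hwi_4 hwi_5 hwi_8 hwi_7 hwi_7 hwi_8 hwi_7 hwi_7 hwi_3 hwi_7 hwi_7 hwi_7 hwi_7 hwi_7 hwi_7 hwi_3 hwi_7 hwi_7 hwi_4 hwi_3 hwi_8 hwi_8 hwi_3 hwi_8 hwi_2 hwi_4 hwi_8 hwi_5 hwi_3 hwi_8 hwi_8 hwi_8 hwi_8 hwi_8 hwi_7) (@D3.rec (fun _ => (HWord rels S)) hwi_7 hwi_7 hwi_8 hwi_1 hwi_8 hwi_5 hwi_8 hwi_7 hwi_8 hwi_8 hwi_7 hwi_8 hwi_7 hwi_8 hwi_7 hwi_7 hwi_3 hwi_7 hwi_3 hwi_7 hwi_8 hwi_8 hwi_1 hwi_8 hwi_7 hwi_5 hwi_7 hwi_2 hwi_8 hwi_1 hwi_4 hwi_8 hwi_8 hwi_7 hwi_8 hwi_8 hwi_8 hwi_5 hwi_8 hwi_7 hwi_8 hwi_8 hwi_7 hwi_7 hwi_8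 hwi_7 hwi_3 hwi_8 hwi_7 hwi_7 hwi_3) (@D3.rec (fun _ => (HWord rels S)) hwi_8 hwi_8 hwi_8 hwi_8 hwi_7 hwi_8 hwi_8 hwi_7 hwi_8 hwi_7 hwi_8 hwi_7 hwi_7 hwi_8 hwi_7 hwi_7 hwi_8 hwi_8 hwi_7 hwi_8 hwi_7 hwi_3 hwi_8 hwi_7 hwi_3 hwi_3 hwi_3 hwi_2 hwi_3 hwi_7 hwi_3 hwi_4 hwi_7 hwi_7 hwi_8 hwi_7 hwi_7 hwi_7 hwi_7 hwi_7 hwi_8 hwi_5 hwi_3 hwi_8 hwi_4 hwi_7 hwi_8 hwi_7 hwi_6 hwi_3 hwi_8) (@D3.rec (fun _ => (HWord rels S)) hwi_4 hwi_8 hwi_2 hwi_4 hwi_8 hwi_8 hwi_8 hwi_7 hwi_6 hwi_5 hwi_8 hwi_2 hwi_4 hwi_8 hwi_8 hwi_8 hwi_5 hwi_8 hwi_7 hwi_8 hwi_7 hwi_7 hwi_8 hwi_7 hwi_3 hwi_7 hwi_8 hwi_7 hwi_7 hwi_3 hwi_3 hwi_8 hwi_6 hwi_8 hwi_2 hwi_4 hwi_8 hwi_8 hwi_1 hwi_8 hwi_5 hwi_8 hwi_7 hwi_8 hwi_8 hwi_7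 hwi_6 hwi_8 hwi_7 hwi_5 hwi_7) (@D3.rec (fun _ => (HWord rels S)) hwi_5 hwi_8 hwi_1 hwi_4 hwi_8 hwi_5 hwi_8 hwi_7 hwi_7 hwi_8 hwi_7 hwi_6 hwi_8 hwi_7 hwi_8 hwi_8 hwi_7 hwi_6 hwi_8 hwi_7 hwi_3 hwi_8 hwi_7 hwi_3 hwi_8 hwi_7 hwi_3 hwi_7 hwi_3 hwi_2 hwi_8 hwi_3 hwi_8 hwi_3 hwi_8 hwi_7 hwi_7 hwi_7 hwi_3 hwi_3 hwi_4 hwi_8 hwi_8 hwi_7 hwi_7 hwi_3 hwi_8 hwi_7 hwi_8 hwi_7 hwi_5) (@D3.rec (fun _ => (HWord rels S)) hwi_8 hwi_2 hwi_4 hwi_8 hwi_8 hwi_1 hwi_8 hwi_7 hwi_8 hwi_7 hwi_3 hwi_3 hwi_8 hwi_6 hwi_7 hwi_2 hwi_4 hwi_8 hwi_4 hwi_8 hwi_1 hwi_4 hwi_8 hwi_5 hwi_8 hwi_7 hwi_8 hwi_8 hwi_7 hwi_7 hwi_0 hwi_8 hwi_0 hwi_4 hwi_8 hwi_1 hwi_4 hwi_8 hwi_5 hwi_8 hwi_7 hwi_8 hwi_0 hwi_8 hwi_3 hwi_0 hwi_8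 hwi_5 hwi_8 hwi_7 hwi_8) (@D3.rec (fun _ => (HWord rels S)) hwi_7 hwi_8 hwi_8 hwi_7 hwi_7 hwi_3 hwi_3 hwi_0 hwi_8 hwi_7 hwi_7 hwi_3 hwi_2 hwi_0 hwi_8 hwi_8 hwi_7 hwi_8 hwi_7 hwi_7 hwi_8 hwi_7 hwi_8 hwi_7 hwi_3 hwi_7 hwi_3 hwi_4 hwi_7 hwi_7 hwi_2 hwi_4 hwi_8 hwi_1 hwi_7 hwi_1 hwi_4 hwi_8 hwi_1 hwi_4 hwi_8 hwi_5 hwi_8 hwi_7 hwi_8 hwi_1 hwi_8 hwi_7 hwi_8 hwi_5 hwi_8) (@D3.rec (fun _ => (HWord rels S)) hwi_7 hwi_6 hwi_8 hwi_7 hwi_7 hwi_7 hwi_3 hwi_8 hwi_7 hwi_3 hwi_4 hwi_8 hwi_4 hwi_8 hwi_4 hwi_8 hwi_7 hwi_0 hwi_4 hwi_8 hwi_3 hwi_5 hwi_8 hwi_7 hwi_6 hwi_8 hwi_7 hwi_5 hwi_8 hwi_7 hwi_8 hwi_7 hwi_8 hwi_5 hwi_8 hwi_7 hwi_6 hwi_8 hwi_7 hwi_3 hwi_5 hwi_8 hwi_7 hwi_3 hwi_7 hwi_7 hwi_3 hwi_8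 hwi_7 hwi_3 hwi_4) (@D3.rec (fun _ => (HWord rels S)) hwi_4 hwi_7 hwi_3 hwi_2 hwi_7 hwi_3 hwi_5 hwi_7 hwi_3 hwi_2 hwi_3 hwi_2 hwi_1 hwi_3 hwi_8 hwi_7 hwi_7 hwi_4 hwi_8 hwi_3 hwi_8 hwi_7 hwi_7 hwi_8 hwi_7 hwi_3 hwi_3 hwi_3 hwi_7 hwi_3 hwi_4 hwi_8 hwi_7 hwi_7 hwi_8 hwi_7 hwi_7 hwi_3 hwi_7 hwi_7 hwi_2 hwi_4 hwi_8 hwi_1 hwi_3 hwi_8 hwi_7 hwi_7 hwi_2 hwi_2 hwi_5) (@D3.rec (fun _ => (HWord rels S)) hwi_8 hwi_5 hwi_8 hwi_7 hwi_8 hwi_3 hwi_8 hwi_7 hwi_3 hwi_7 hwi_7 hwi_3 hwi_2 hwi_8 hwi_2 hwi_4 hwi_8 hwi_2 hwi_7 hwi_5 hwi_8 hwi_5 hwi_8 hwi_7 hwi_2 hwi_8 hwi_3 hwi_8 hwi_7 hwi_3 hwi_3 hwi_4 hwi_8 hwi_5 hwi_8 hwi_4 hwi_8 hwi_7 hwi_4 hwi_8 hwi_3 hwi_5 hwi_8 hwi_7 hwi_6 hwi_8 hwi_7 hwi_7 hwi_8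 hwi_7 hwi_7) (@D3.rec (fun _ => (HWord rels S)) hwi_8 hwi_7 hwi_3 hwi_8 hwi_7 hwi_3 hwi_8 hwi_7 hwi_3 hwi_2 hwi_8 hwi_7 hwi_3 hwi_8 hwi_7 hwi_3 hwi_2 hwi_7 hwi_3 hwi_8 hwi_8 hwi_2 hwi_8 hwi_4 hwi_8 hwi_8 hwi_7 hwi_7 hwi_8 hwi_7 hwi_5 hwi_8 hwi_4 hwi_8 hwi_8 hwi_7 hwi_8 hwi_7 hwi_7 hwi_3 hwi_2 hwi_8 hwi_2 hwi_4 hwi_8 hwi_2 hwi_8 hwi_2 hwi_8 hwi_5 hwi_8) (@D3.rec (fun _ => (HWord rels S)) hwi_7 hwi_5 hwi_8 hwi_7 hwi_8 hwi_7 hwi_3 hwi_7 hwi_7 hwi_8 hwi_7 hwi_8 hwi_3 hwi_8 hwi_7 hwi_4 hwi_8 hwi_3 hwi_5 hwi_8 hwi_7 hwi_8 hwi_7 hwi_7 hwi_8 hwi_7 hwi_3 hwi_8 hwi_7 hwi_7 hwi_8 hwi_7 hwi_7 hwi_3 hwi_3 hwi_2 hwi_8 hwi_7 hwi_3 hwi_3 hwi_2 hwi_7 hwi_8 hwi_8 hwi_7 hwi_8 hwi_4 hwi_8 hwi_3 hwi_8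 hwi_7) (@D3.rec (fun _ => (HWord rels S)) hwi_8 hwi_2 hwi_8 hwi_3 hwi_2 hwi_8 hwi_1 hwi_4 hwi_8 hwi_5 hwi_8 hwi_7 hwi_3 hwi_2 hwi_8 hwi_3 hwi_3 hwi_8 hwi_7 hwi_8 hwi_7 hwi_4 hwi_8 hwi_3 hwi_5 hwi_8 hwi_7 hwi_6 hwi_8 hwi_7 hwi_8 hwi_5 hwi_8 hwi_7 hwi_7 hwi_8 hwi_7 hwi_7 hwi_6 hwi_8 hwi_7 hwi_2 hwi_8 hwi_7 hwi_3 hwi_1 hwi_8 hwi_7 hwi_3 hwi_1 hwi_7) (@D3.rec (fun _ => (HWord rels S)) hwi_3 hwi_2 hwi_2 hwi_7 hwi_8 hwi_5 hwi_8 hwi_7 hwi_7 hwi_2 hwi_8 hwi_2 hwi_2 hwi_8 hwi_7 hwi_3 hwi_8 hwi_7 hwi_4 hwi_8 hwi_3 hwi_5 hwi_8 hwi_7 hwi_5 hwi_7 hwi_8 hwi_6 hwi_8 hwi_7 hwi_3 hwi_4 hwi_8 hwi_7 hwi_3 hwi_8 hwi_2 hwi_8 hwi_7 hwi_2 hwi_8 hwi_7 hwi_3 hwi_0 hwi_8 hwi_7 hwi_3 hwi_7 hwi_6 hwi_8 hwi_7)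 (@D3.rec (fun _ => (HWord rels S)) hwi_3 hwi_7 hwi_8 hwi_7 hwi_3 hwi_4 hwi_8 hwi_7 hwi_3 hwi_2 hwi_2 hwi_8 hwi_7 hwi_3 hwi_4 hwi_7 hwi_3 hwi_2 hwi_4 hwi_4 hwi_3 hwi_2 hwi_1 hwi_8 hwi_7 hwi_3 hwi_4 hwi_5 hwi_3 hwi_2 hwi_4 hwi_1 hwi_4 hwi_2 hwi_0 hwi_8 hwi_2 hwi_8 hwi_8 hwi_8 hwi_2 hwi_3 hwi_8 hwi_8 hwi_8 hwi_7 hwi_8 hwi_3 hwi_8 hwi_7 hwi_3) (@D3.rec (fun _ => (HWord rels S)) hwi_4 hwi_2 hwi_7 hwi_3 hwi_8 hwi_5 hwi_8 hwi_7 hwi_8 hwi_7 hwi_8 hwi_4 hwi_8 hwi_7 hwi_0 hwi_4 hwi_8 hwi_3 hwi_8 hwi_7 hwi_7 hwi_8 hwi_8 hwi_3 hwi_8 hwi_7 hwi_8 hwi_8 hwi_8 hwi_7 hwi_4 hwi_7 hwi_3 hwi_2 hwi_4 hwi_5 hwi_7 hwi_7 hwi_7 hwi_7 hwi_7 hwi_8 hwi_7 hwi_8 hwi_7 hwi_7 hwi_4 hwi_8 hwi_7 hwi_7 hwi_8)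
def ow_14 : D2 → D3 → (HWord rels S) := @D2.rec (fun _ => D3 → (HWord rels S)) (@D3.rec (fun _ => (HWord rels S)) hwi_7 hwi_3 hwi_4 hwi_8 hwi_7 hwi_5 hwi_8 hwi_7 hwi_8 hwi_7 hwi_8 hwi_7 hwi_8 hwi_7 hwi_6 hwi_3 hwi_5 hwi_8 hwi_8 hwi_7 hwi_4 hwi_8 hwi_3 hwi_5 hwi_8 hwi_7 hwi_6 hwi_8 hwi_7 hwi_8 hwi_7 hwi_5 hwi_8 hwi_7 hwi_6 hwi_8 hwi_7 hwi_3 hwi_8 hwi_7 hwi_7 hwi_8 hwi_7 hwi_3 hwi_3 hwi_7 hwi_8 hwi_7 hwi_3 hwi_2 hwi_4) (@D3.rec (fun _ => (HWord rels S)) hwi_8 hwi_4 hwi_8 hwi_8 hwi_7 hwi_7 hwi_8 hwi_7 hwi_0 hwi_4 hwi_8 hwi_8 hwi_7 hwi_7 hwi_4 hwi_8 hwi_7 hwi_8 hwi_7 hwi_3 hwi_7 hwi_3 hwi_8 hwi_7 hwi_3 hwi_4 hwi_2 hwi_3 hwi_7 hwi_3 hwi_4 hwi_7 hwi_3 hwi_3 hwi_4 hwi_8 hwi_8 hwi_7 hwi_7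 hwi_4 hwi_8 hwi_8 hwi_7 hwi_8 hwi_7 hwi_7 hwi_3 hwi_2 hwi_4 hwi_8 hwi_3) (@D3.rec (fun _ => (HWord rels S)) hwi_4 hwi_8 hwi_4 hwi_8 hwi_7 hwi_4 hwi_8 hwi_3 hwi_5 hwi_8 hwi_7 hwi_8 hwi_7 hwi_0 hwi_2 hwi_8 hwi_0 hwi_8 hwi_7 hwi_7 hwi_8 hwi_7 hwi_3 hwi_7 hwi_3 hwi_3 hwi_4 hwi_4 hwi_0 hwi_3 hwi_8 hwi_0 hwi_8 hwi_2 hwi_3 hwi_8 hwi_3 hwi_8 hwi_7 hwi_8 hwi_7 hwi_3 hwi_1 hwi_0 hwi_0 hwi_7 hwi_3 hwi_4 hwi_4 hwi_1 hwi_4) (@D3.rec (fun _ => (HWord rels S)) hwi_8 hwi_8 hwi_7 hwi_6 hwi_6 hwi_8 hwi_2 hwi_5 hwi_8 hwi_8 hwi_7 hwi_4 hwi_8 hwi_3 hwi_5 hwi_8 hwi_7 hwi_6 hwi_8 hwi_7 hwi_2 hwi_7 hwi_5 hwi_8 hwi_7 hwi_8 hwi_7 hwi_3 hwi_8 hwi_7 hwi_7 hwi_3 hwi_3 hwi_7 hwi_4 hwi_1 hwi_6 hwi_4 hwi_3 hwi_4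 hwi_2 hwi_4 hwi_4 hwi_8 hwi_1 hwi_8 hwi_7 hwi_4 hwi_8 hwi_3 hwi_5) (@D3.rec (fun _ => (HWord rels S)) hwi_8 hwi_7 hwi_5 hwi_7 hwi_8 hwi_6 hwi_8 hwi_7 hwi_3 hwi_3 hwi_8 hwi_7 hwi_3 hwi_4 hwi_2 hwi_1 hwi_4 hwi_2 hwi_8 hwi_7 hwi_1 hwi_7 hwi_5 hwi_8 hwi_7 hwi_6 hwi_8 hwi_7 hwi_3 hwi_7 hwi_8 hwi_7 hwi_3 hwi_4 hwi_3 hwi_7 hwi_7 hwi_4 hwi_8 hwi_7 hwi_3 hwi_2 hwi_7 hwi_3 hwi_3 hwi_2 hwi_2 hwi_1 hwi_8 hwi_2 hwi_2) (@D3.rec (fun _ => (HWord rels S)) hwi_7 hwi_7 hwi_8 hwi_7 hwi_3 hwi_8 hwi_7 hwi_3 hwi_4 hwi_2 hwi_2 hwi_4 hwi_5 hwi_7 hwi_7 hwi_7 hwi_7 hwi_3 hwi_7 hwi_7 hwi_3 hwi_4 hwi_7 hwi_7 hwi_3 hwi_4 hwi_7 hwi_3 hwi_7 hwi_7 hwi_7 hwi_3 hwi_7 hwi_7 hwi_3 hwi_7 hwi_3 hwi_4 hwi_3 hwi_3 hwi_3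 hwi_4 hwi_5 hwi_4 hwi_8 hwi_7 hwi_5 hwi_8 hwi_4 hwi_8 hwi_8) (@D3.rec (fun _ => (HWord rels S)) hwi_7 hwi_7 hwi_7 hwi_3 hwi_8 hwi_7 hwi_7 hwi_3 hwi_3 hwi_4 hwi_4 hwi_8 hwi_8 hwi_7 hwi_7 hwi_7 hwi_3 hwi_8 hwi_7 hwi_3 hwi_5 hwi_8 hwi_7 hwi_8 hwi_7 hwi_8 hwi_7 hwi_3 hwi_7 hwi_7 hwi_7 hwi_3 hwi_3 hwi_4 hwi_7 hwi_8 hwi_7 hwi_3 hwi_4 hwi_5 hwi_4 hwi_8 hwi_8 hwi_7 hwi_7 hwi_7 hwi_3 hwi_6 hwi_8 hwi_8 hwi_7) (@D3.rec (fun _ => (HWord rels S)) hwi_8 hwi_7 hwi_7 hwi_3 hwi_7 hwi_3 hwi_4 hwi_3 hwi_3 hwi_4 hwi_4 hwi_8 hwi_3 hwi_8 hwi_7 hwi_7 hwi_7 hwi_3 hwi_7 hwi_3 hwi_4 hwi_6 hwi_8 hwi_6 hwi_8 hwi_7 hwi_5 hwi_8 hwi_8 hwi_7 hwi_7 hwi_4 hwi_8 hwi_3 hwi_5 hwi_8 hwi_7 hwi_7 hwi_8 hwi_6 hwi_8 hwi_7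 hwi_3 hwi_4 hwi_8 hwi_7 hwi_3 hwi_7 hwi_3 hwi_7 hwi_8) (@D3.rec (fun _ => (HWord rels S)) hwi_7 hwi_3 hwi_8 hwi_7 hwi_3 hwi_4 hwi_3 hwi_7 hwi_7 hwi_3 hwi_7 hwi_3 hwi_2 hwi_4 hwi_7 hwi_4 hwi_5 hwi_2 hwi_7 hwi_3 hwi_7 hwi_8 hwi_7 hwi_3 hwi_8 hwi_7 hwi_3 hwi_4 hwi_3 hwi_3 hwi_2 hwi_4 hwi_5 hwi_6 hwi_7 hwi_7 hwi_4 hwi_8 hwi_8 hwi_7 hwi_7 hwi_8 hwi_7 hwi_4 hwi_8 hwi_8 hwi_7 hwi_8 hwi_7 hwi_7 hwi_7) (@D3.rec (fun _ => (HWord rels S)) hwi_2 hwi_3 hwi_7 hwi_8 hwi_7 hwi_2 hwi_8 hwi_2 hwi_7 hwi_4 hwi_3 hwi_7 hwi_8 hwi_7 hwi_3 hwi_5 hwi_8 hwi_7 hwi_5 hwi_8 hwi_8 hwi_7 hwi_7 hwi_3 hwi_7 hwi_4 hwi_3 hwi_8 hwi_4 hwi_8 hwi_7 hwi_8 hwi_7 hwi_7 hwi_3 hwi_3 hwi_8 hwi_8 hwi_7 hwi_4 hwi_8 hwi_8 hwi_7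 hwi_8 hwi_7 hwi_7 hwi_6 hwi_3 hwi_6 hwi_8 hwi_7) (@D3.rec (fun _ => (HWord rels S)) hwi_5 hwi_8 hwi_8 hwi_3 hwi_7 hwi_4 hwi_8 hwi_3 hwi_8 hwi_7 hwi_7 hwi_8 hwi_7 hwi_3 hwi_3 hwi_3 hwi_7 hwi_8 hwi_8 hwi_7 hwi_0 hwi_4 hwi_8 hwi_3 hwi_8 hwi_7 hwi_7 hwi_4 hwi_3 hwi_6 hwi_8 hwi_7 hwi_4 hwi_3 hwi_7 hwi_8 hwi_3 hwi_7 hwi_4 hwi_8 hwi_3 hwi_5 hwi_8 hwi_7 hwi_5 hwi_7 hwi_8 hwi_6 hwi_8 hwi_7 hwi_7) (@D3.rec (fun _ => (HWord rels S)) hwi_8 hwi_7 hwi_3 hwi_3 hwi_4 hwi_3 hwi_7 hwi_7 hwi_8 hwi_7 hwi_0 hwi_8 hwi_7 hwi_3 hwi_8 hwi_7 hwi_3 hwi_4 hwi_7 hwi_3 hwi_3 hwi_3 hwi_4 hwi_3 hwi_5 hwi_8 hwi_4 hwi_5 hwi_4 hwi_3 hwi_4 hwi_8 hwi_4 hwi_7 hwi_3 hwi_8 hwi_7 hwi_3 hwi_5 hwi_8 hwi_7 hwi_5 hwi_8 hwi_6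 hwi_8 hwi_7 hwi_3 hwi_6 hwi_7 hwi_8 hwi_8) (@D3.rec (fun _ => (HWord rels S)) hwi_7 hwi_4 hwi_8 hwi_7 hwi_3 hwi_4 hwi_4 hwi_7 hwi_3 hwi_2 hwi_5 hwi_4 hwi_3 hwi_5 hwi_4 hwi_7 hwi_4 hwi_7 hwi_3 hwi_7 hwi_8 hwi_7 hwi_8 hwi_7 hwi_3 hwi_8 hwi_7 hwi_3 hwi_4 hwi_5 hwi_3 hwi_8 hwi_7 hwi_3 hwi_2 hwi_2 hwi_3 hwi_7 hwi_5 hwi_8 hwi_7 hwi_6 hwi_8 hwi_3 hwi_8 hwi_7 hwi_7 hwi_8 hwi_3 hwi_8 hwi_7) (@D3.rec (fun _ => (HWord rels S)) hwi_7 hwi_8 hwi_7 hwi_3 hwi_8 hwi_2 hwi_8 hwi_8 hwi_7 hwi_6 hwi_5 hwi_7 hwi_3 hwi_7 hwi_3 hwi_5 hwi_6 hwi_2 hwi_4 hwi_4 hwi_7 hwi_3 hwi_4 hwi_7 hwi_5 hwi_7 hwi_7 hwi_5 hwi_8 hwi_8 hwi_7 hwi_3 hwi_7 hwi_8 hwi_8 hwi_7 hwi_7 hwi_3 hwi_7 hwi_3 hwi_2 hwi_4 hwi_5 hwi_2 hwi_1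 hwi_3 hwi_7 hwi_7 hwi_3 hwi_2 hwi_3) (@D3.rec (fun _ => (HWord rels S)) hwi_4 hwi_5 hwi_7 hwi_3 hwi_7 hwi_7 hwi_3 hwi_3 hwi_3 hwi_7 hwi_8 hwi_7 hwi_4 hwi_4 hwi_7 hwi_7 hwi_3 hwi_2 hwi_8 hwi_7 hwi_8 hwi_7 hwi_8 hwi_7 hwi_7 hwi_3 hwi_7 hwi_7 hwi_7 hwi_8 hwi_7 hwi_3 hwi_3 hwi_2 hwi_4 hwi_8 hwi_5 hwi_8 hwi_7 hwi_7 hwi_6 hwi_3 hwi_4 hwi_8 hwi_5 hwi_8 hwi_7 hwi_1 hwi_8 hwi_3 hwi_0) (@D3.rec (fun _ => (HWord rels S)) hwi_4 hwi_8 hwi_5 hwi_8 hwi_7 hwi_8 hwi_7 hwi_8 hwi_8 hwi_7 hwi_7 hwi_3 hwi_8 hwi_7 hwi_3 hwi_2 hwi_8 hwi_7 hwi_4 hwi_8 hwi_7 hwi_7 hwi_3 hwi_8 hwi_7 hwi_8 hwi_7 hwi_3 hwi_4 hwi_8 hwi_5 hwi_8 hwi_7 hwi_7 hwi_6 hwi_8 hwi_7 hwi_8 hwi_7 hwi_3 hwi_8 hwi_7 hwi_8 hwi_7 hwi_6 hwi_8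 hwi_7 hwi_0 hwi_8 hwi_7 hwi_3) (@D3.rec (fun _ => (HWord rels S)) hwi_8 hwi_7 hwi_8 hwi_7 hwi_3 hwi_2 hwi_8 hwi_7 hwi_3 hwi_2 hwi_3 hwi_1 hwi_7 hwi_8 hwi_2 hwi_4 hwi_8 hwi_1 hwi_7 hwi_1 hwi_5 hwi_8 hwi_4 hwi_8 hwi_5 hwi_8 hwi_7 hwi_8 hwi_1 hwi_8 hwi_3 hwi_7 hwi_8 hwi_7 hwi_3 hwi_3 hwi_5 hwi_3 hwi_4 hwi_8 hwi_4 hwi_4 hwi_3 hwi_4 hwi_8 hwi_3 hwi_5 hwi_8 hwi_7 hwi_8 hwi_7) (@D3.rec (fun _ => (HWord rels S)) hwi_1 hwi_8 hwi_7 hwi_1 hwi_8 hwi_7 hwi_7 hwi_8 hwi_7 hwi_3 hwi_7 hwi_3 hwi_3 hwi_3 hwi_4 hwi_2 hwi_8 hwi_7 hwi_4 hwi_3 hwi_2 hwi_1 hwi_2 hwi_3 hwi_8 hwi_7 hwi_7 hwi_8 hwi_7 hwi_3 hwi_2 hwi_3 hwi_4 hwi_7 hwi_3 hwi_2 hwi_8 hwi_4 hwi_8 hwi_8 hwi_7 hwi_6 hwi_8 hwi_7 hwi_5 hwi_8 hwi_4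 hwi_8 hwi_5 hwi_8 hwi_7) (@D3.rec (fun _ => (HWord rels S)) hwi_8 hwi_7 hwi_7 hwi_8 hwi_7 hwi_3 hwi_3 hwi_7 hwi_3 hwi_4 hwi_8 hwi_7 hwi_8 hwi_4 hwi_8 hwi_5 hwi_8 hwi_7 hwi_7 hwi_7 hwi_8 hwi_7 hwi_3 hwi_3 hwi_6 hwi_8 hwi_8 hwi_7 hwi_8 hwi_7 hwi_6 hwi_8 hwi_7 hwi_3 hwi_3 hwi_8 hwi_7 hwi_3 hwi_8 hwi_7 hwi_3 hwi_8 hwi_7 hwi_3 hwi_4 hwi_3 hwi_3 hwi_0 hwi_7 hwi_8 hwi_1) (@D3.rec (fun _ => (HWord rels S)) hwi_4 hwi_8 hwi_5 hwi_8 hwi_7 hwi_7 hwi_8 hwi_7 hwi_7 hwi_8 hwi_7 hwi_8 hwi_7 hwi_4 hwi_8 hwi_3 hwi_5 hwi_8 hwi_7 hwi_6 hwi_8 hwi_7 hwi_8 hwi_7 hwi_7 hwi_8 hwi_7 hwi_7 hwi_8 hwi_7 hwi_3 hwi_2 hwi_8 hwi_7 hwi_3 hwi_3 hwi_4 hwi_2 hwi_7 hwi_3 hwi_2 hwi_5 hwi_8 hwi_7 hwi_3 hwi_3 hwi_8 hwi_8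 hwi_7 hwi_3 hwi_8) (@D3.rec (fun _ => (HWord rels S)) hwi_7 hwi_4 hwi_8 hwi_3 hwi_5 hwi_8 hwi_7 hwi_7 hwi_8 hwi_6 hwi_8 hwi_7 hwi_3 hwi_3 hwi_8 hwi_7 hwi_3 hwi_8 hwi_7 hwi_3 hwi_3 hwi_8 hwi_7 hwi_3 hwi_7 hwi_8 hwi_7 hwi_3 hwi_7 hwi_8 hwi_7 hwi_4 hwi_8 hwi_7 hwi_3 hwi_2 hwi_3 hwi_4 hwi_3 hwi_7 hwi_5 hwi_4 hwi_3 hwi_1 hwi_8 hwi_7 hwi_3 hwi_2 hwi_5 hwi_3 hwi_2) (@D3.rec (fun _ => (HWord rels S)) hwi_4 hwi_1 hwi_4 hwi_2 hwi_8 hwi_7 hwi_3 hwi_3 hwi_8 hwi_7 hwi_7 hwi_8 hwi_7 hwi_3 hwi_8 hwi_7 hwi_3 hwi_4 hwi_7 hwi_3 hwi_4 hwi_4 hwi_5 hwi_6 hwi_7 hwi_7 hwi_7 hwi_8 hwi_7 hwi_8 hwi_8 hwi_8 hwi_7 hwi_8 hwi_7 hwi_7 hwi_7 hwi_3 hwi_3 hwi_7 hwi_8 hwi_7 hwi_8 hwi_7 hwi_7 hwi_7 hwi_7 hwi_3 hwi_7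 hwi_3 hwi_3) (@D3.rec (fun _ => (HWord rels S)) hwi_2 hwi_3 hwi_4 hwi_7 hwi_7 hwi_8 hwi_7 hwi_8 hwi_8 hwi_7 hwi_8 hwi_8 hwi_7 hwi_7 hwi_7 hwi_3 hwi_7 hwi_8 hwi_7 hwi_7 hwi_7 hwi_3 hwi_3 hwi_7 hwi_2 hwi_3 hwi_4 hwi_7 hwi_7 hwi_7 hwi_7 hwi_7 hwi_7 hwi_3 hwi_7 hwi_3 hwi_7 hwi_7 hwi_3 hwi_3 hwi_7 hwi_7 hwi_3 hwi_7 hwi_3 hwi_4 hwi_7 hwi_3 hwi_2 hwi_2 hwi_1) (@D3.rec (fun _ => (HWord rels S)) hwi_7 hwi_5 hwi_7 hwi_4 hwi_8 hwi_8 hwi_7 hwi_5 hwi_8 hwi_2 hwi_4 hwi_8 hwi_8 hwi_8 hwi_5 hwi_8 hwi_7 hwi_7 hwi_7 hwi_6 hwi_7 hwi_5 hwi_8 hwi_4 hwi_8 hwi_5 hwi_8 hwi_7 hwi_7 hwi_7 hwi_8 hwi_7 hwi_7 hwi_3 hwi_3 hwi_7 hwi_3 hwi_7 hwi_3 hwi_2 hwi_4 hwi_8 hwi_6 hwi_8 hwi_1 hwi_4 hwi_8 hwi_5 hwi_8 hwi_7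 hwi_7) (@D3.rec (fun _ => (HWord rels S)) hwi_8 hwi_7 hwi_6 hwi_8 hwi_7 hwi_7 hwi_7 hwi_3 hwi_8 hwi_7 hwi_3 hwi_5 hwi_8 hwi_8 hwi_7 hwi_4 hwi_8 hwi_3 hwi_8 hwi_7 hwi_6 hwi_8 hwi_7 hwi_7 hwi_3 hwi_8 hwi_7 hwi_3 hwi_7 hwi_7 hwi_3 hwi_8 hwi_7 hwi_4 hwi_7 hwi_3 hwi_2 hwi_7 hwi_3 hwi_2 hwi_3 hwi_7 hwi_8 hwi_7 hwi_3 hwi_3 hwi_4 hwi_7 hwi_4 hwi_8 hwi_7) (@D3.rec (fun _ => (HWord rels S)) hwi_5 hwi_8 hwi_1 hwi_4 hwi_8 hwi_8 hwi_7 hwi_7 hwi_8 hwi_7 hwi_7 hwi_3 hwi_7 hwi_8 hwi_2 hwi_4 hwi_8 hwi_5 hwi_6 hwi_8 hwi_1 hwi_4 hwi_8 hwi_5 hwi_8 hwi_7 hwi_8 hwi_3 hwi_8 hwi_5 hwi_8 hwi_7 hwi_8 hwi_7 hwi_7 hwi_7 hwi_3 hwi_3 hwi_4 hwi_8 hwi_4 hwi_8 hwi_4 hwi_8 hwi_3 hwi_0 hwi_4 hwi_8 hwi_5 hwi_8 hwi_7)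 (@D3.rec (fun _ => (HWord rels S)) hwi_8 hwi_7 hwi_7 hwi_8 hwi_7 hwi_8 hwi_7 hwi_8 hwi_7 hwi_3 hwi_7 hwi_3 hwi_7 hwi_7 hwi_3 hwi_3 hwi_4 hwi_2 hwi_8 hwi_7 hwi_3 hwi_2 hwi_8 hwi_7 hwi_7 hwi_7 hwi_3 hwi_7 hwi_3 hwi_4 hwi_2 hwi_4 hwi_7 hwi_3 hwi_8 hwi_1 hwi_4 hwi_8 hwi_5 hwi_8 hwi_7 hwi_4 hwi_3 hwi_4 hwi_8 hwi_4 hwi_8 hwi_7 hwi_4 hwi_8 hwi_3)
def ow_15 : D2 → D3 → (HWord rels S) := @D2.rec (fun _ => D3 → (HWord rels S)) (@D3.rec (fun _ => (HWord rels S)) hwi_5 hwi_8 hwi_7 hwi_6 hwi_8 hwi_7 hwi_7 hwi_8 hwi_7 hwi_7 hwi_8 hwi_7 hwi_3 hwi_8 hwi_7 hwi_3 hwi_3 hwi_3 hwi_4 hwi_7 hwi_3 hwi_2 hwi_5 hwi_8 hwi_7 hwi_3 hwi_5 hwi_8 hwi_7 hwi_8 hwi_7 hwi_4 hwi_8 hwi_3 hwi_5 hwi_8 hwi_7 hwi_5 hwi_7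 hwi_8 hwi_6 hwi_8 hwi_7 hwi_3 hwi_5 hwi_8 hwi_7 hwi_3 hwi_8 hwi_7 hwi_3) (@D3.rec (fun _ => (HWord rels S)) hwi_7 hwi_3 hwi_7 hwi_8 hwi_7 hwi_3 hwi_8 hwi_7 hwi_3 hwi_4 hwi_5 hwi_7 hwi_3 hwi_2 hwi_3 hwi_4 hwi_7 hwi_3 hwi_2 hwi_4 hwi_5 hwi_4 hwi_3 hwi_3 hwi_3 hwi_2 hwi_4 hwi_1 hwi_2 hwi_7 hwi_8 hwi_7 hwi_3 hwi_3 hwi_8 hwi_7 hwi_7 hwi_8 hwi_7 hwi_3 hwi_8 hwi_7 hwi_3 hwi_4 hwi_2 hwi_5 hwi_7 hwi_7 hwi_7 hwi_8 hwi_4) (@D3.rec (fun _ => (HWord rels S)) hwi_8 hwi_8 hwi_7 hwi_8 hwi_3 hwi_7 hwi_3 hwi_4 hwi_8 hwi_8 hwi_7 hwi_8 hwi_7 hwi_7 hwi_7 hwi_3 hwi_3 hwi_3 hwi_2 hwi_8 hwi_4 hwi_8 hwi_5 hwi_8 hwi_7 hwi_4 hwi_8 hwi_4 hwi_8 hwi_7 hwi_8 hwi_7 hwi_8 hwi_7 hwi_7 hwi_3 hwi_4 hwi_8 hwi_3 hwi_8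 hwi_7 hwi_8 hwi_7 hwi_8 hwi_7 hwi_8 hwi_7 hwi_8 hwi_8 hwi_7 hwi_3) (@D3.rec (fun _ => (HWord rels S)) hwi_8 hwi_7 hwi_3 hwi_7 hwi_3 hwi_7 hwi_8 hwi_7 hwi_3 hwi_2 hwi_7 hwi_3 hwi_7 hwi_3 hwi_7 hwi_3 hwi_2 hwi_4 hwi_3 hwi_7 hwi_2 hwi_8 hwi_8 hwi_7 hwi_7 hwi_5 hwi_8 hwi_7 hwi_8 hwi_8 hwi_7 hwi_3 hwi_8 hwi_7 hwi_7 hwi_7 hwi_3 hwi_2 hwi_8 hwi_4 hwi_8 hwi_5 hwi_8 hwi_7 hwi_2 hwi_8 hwi_5 hwi_8 hwi_7 hwi_8 hwi_7) (@D3.rec (fun _ => (HWord rels S)) hwi_6 hwi_8 hwi_7 hwi_7 hwi_3 hwi_2 hwi_7 hwi_8 hwi_3 hwi_8 hwi_7 hwi_7 hwi_7 hwi_8 hwi_7 hwi_3 hwi_8 hwi_7 hwi_3 hwi_8 hwi_7 hwi_5 hwi_7 hwi_8 hwi_8 hwi_7 hwi_7 hwi_3 hwi_7 hwi_8 hwi_7 hwi_8 hwi_7 hwi_3 hwi_7 hwi_3 hwi_3 hwi_2 hwi_2 hwi_7 hwi_3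 hwi_4 hwi_2 hwi_4 hwi_8 hwi_8 hwi_3 hwi_8 hwi_2 hwi_8 hwi_8) (@D3.rec (fun _ => (HWord rels S)) hwi_7 hwi_2 hwi_8 hwi_3 hwi_3 hwi_8 hwi_5 hwi_8 hwi_7 hwi_0 hwi_4 hwi_8 hwi_3 hwi_5 hwi_8 hwi_7 hwi_6 hwi_8 hwi_7 hwi_3 hwi_8 hwi_2 hwi_8 hwi_7 hwi_3 hwi_8 hwi_5 hwi_8 hwi_7 hwi_7 hwi_8 hwi_7 hwi_3 hwi_8 hwi_7 hwi_5 hwi_7 hwi_8 hwi_6 hwi_8 hwi_7 hwi_2 hwi_8 hwi_7 hwi_3 hwi_7 hwi_6 hwi_8 hwi_7 hwi_2 hwi_8) (@D3.rec (fun _ => (HWord rels S)) hwi_7 hwi_3 hwi_3 hwi_8 hwi_7 hwi_3 hwi_8 hwi_7 hwi_3 hwi_2 hwi_1 hwi_7 hwi_4 hwi_3 hwi_2 hwi_1 hwi_2 hwi_8 hwi_7 hwi_7 hwi_8 hwi_7 hwi_5 hwi_8 hwi_7 hwi_7 hwi_8 hwi_2 hwi_2 hwi_8 hwi_7 hwi_7 hwi_3 hwi_8 hwi_2 hwi_8 hwi_7 hwi_7 hwi_5 hwi_8 hwi_7 hwi_3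 hwi_8 hwi_7 hwi_5 hwi_8 hwi_6 hwi_8 hwi_7 hwi_3 hwi_6) (@D3.rec (fun _ => (HWord rels S)) hwi_7 hwi_8 hwi_8 hwi_7 hwi_7 hwi_8 hwi_7 hwi_3 hwi_4 hwi_8 hwi_7 hwi_3 hwi_2 hwi_7 hwi_8 hwi_7 hwi_3 hwi_7 hwi_8 hwi_7 hwi_3 hwi_7 hwi_8 hwi_7 hwi_3 hwi_4 hwi_7 hwi_8 hwi_7 hwi_3 hwi_8 hwi_7 hwi_3 hwi_2 hwi_4 hwi_5 hwi_7 hwi_3 hwi_2 hwi_4 hwi_1 hwi_2 hwi_7 hwi_4 hwi_3 hwi_4 hwi_4 hwi_2 hwi_0 hwi_6 hwi_3) (@D3.rec (fun _ => (HWord rels S)) hwi_5 hwi_4 hwi_4 hwi_5 hwi_2 hwi_4 hwi_1 hwi_4 hwi_0 hwi_4 hwi_8 hwi_8 hwi_8 hwi_7 hwi_8 hwi_7 hwi_4 hwi_7 hwi_3 hwi_2 hwi_4 hwi_5 hwi_7 hwi_8 hwi_7 hwi_8 hwi_8 hwi_7 hwi_8 hwi_7 hwi_3 hwi_8 hwi_8 hwi_7 hwi_3 hwi_2 hwi_4 hwi_4 hwi_5 hwi_7 hwi_7 hwi_3 hwi_8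 hwi_7 hwi_7 hwi_8 hwi_7 hwi_8 hwi_7 hwi_7 hwi_7) (@D3.rec (fun _ => (HWord rels S)) hwi_7 hwi_4 hwi_3 hwi_8 hwi_7 hwi_7 hwi_5 hwi_8 hwi_7 hwi_5 hwi_8 hwi_6 hwi_8 hwi_7 hwi_8 hwi_7 hwi_3 hwi_7 hwi_8 hwi_7 hwi_8 hwi_7 hwi_3 hwi_7 hwi_3 hwi_7 hwi_3 hwi_3 hwi_7 hwi_4 hwi_8 hwi_8 hwi_7 hwi_8 hwi_7 hwi_7 hwi_7 hwi_4 hwi_8 hwi_8 hwi_7 hwi_7 hwi_3 hwi_3 hwi_4 hwi_7 hwi_3 hwi_7 hwi_3 hwi_7 hwi_3) (@D3.rec (fun _ => (HWord rels S)) hwi_4 hwi_2 hwi_2 hwi_3 hwi_5 hwi_8 hwi_7 hwi_7 hwi_3 hwi_8 hwi_7 hwi_7 hwi_7 hwi_3 hwi_3 hwi_4 hwi_8 hwi_5 hwi_8 hwi_7 hwi_3 hwi_8 hwi_4 hwi_4 hwi_8 hwi_7 hwi_8 hwi_7 hwi_3 hwi_8 hwi_7 hwi_5 hwi_8 hwi_8 hwi_7 hwi_3 hwi_7 hwi_3 hwi_0 hwi_8 hwi_7 hwi_0 hwi_7 hwi_3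 hwi_7 hwi_3 hwi_4 hwi_4 hwi_8 hwi_2 hwi_1) (@D3.rec (fun _ => (HWord rels S)) hwi_8 hwi_2 hwi_2 hwi_7 hwi_8 hwi_7 hwi_3 hwi_7 hwi_3 hwi_4 hwi_1 hwi_0 hwi_2 hwi_4 hwi_5 hwi_0 hwi_4 hwi_8 hwi_3 hwi_8 hwi_7 hwi_7 hwi_6 hwi_8 hwi_8 hwi_7 hwi_5 hwi_2 hwi_5 hwi_8 hwi_7 hwi_7 hwi_3 hwi_5 hwi_8 hwi_7 hwi_5 hwi_7 hwi_8 hwi_8 hwi_7 hwi_3 hwi_8 hwi_7 hwi_3 hwi_2 hwi_3 hwi_8 hwi_7 hwi_3 hwi_7) (@D3.rec (fun _ => (HWord rels S)) hwi_7 hwi_3 hwi_6 hwi_4 hwi_1 hwi_8 hwi_4 hwi_4 hwi_4 hwi_2 hwi_3 hwi_4 hwi_8 hwi_8 hwi_7 hwi_2 hwi_7 hwi_3 hwi_5 hwi_8 hwi_7 hwi_5 hwi_7 hwi_8 hwi_6 hwi_8 hwi_7 hwi_3 hwi_6 hwi_7 hwi_8 hwi_8 hwi_7 hwi_7 hwi_8 hwi_7 hwi_3 hwi_4 hwi_4 hwi_7 hwi_3 hwi_2 hwi_0 hwi_4 hwi_2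 hwi_8 hwi_4 hwi_2 hwi_7 hwi_3 hwi_4) (@D3.rec (fun _ => (HWord rels S)) hwi_8 hwi_7 hwi_8 hwi_7 hwi_3 hwi_8 hwi_7 hwi_3 hwi_5 hwi_3 hwi_3 hwi_4 hwi_7 hwi_2 hwi_3 hwi_2 hwi_2 hwi_8 hwi_7 hwi_2 hwi_4 hwi_8 hwi_7 hwi_3 hwi_4 hwi_7 hwi_3 hwi_4 hwi_5 hwi_5 hwi_3 hwi_3 hwi_4 hwi_3 hwi_3 hwi_4 hwi_5 hwi_3 hwi_4 hwi_3 hwi_4 hwi_3 hwi_3 hwi_3 hwi_3 hwi_4 hwi_5 hwi_8 hwi_7 hwi_8 hwi_7) (@D3.rec (fun _ => (HWord rels S)) hwi_8 hwi_7 hwi_7 hwi_3 hwi_4 hwi_7 hwi_3 hwi_3 hwi_4 hwi_3 hwi_8 hwi_7 hwi_7 hwi_3 hwi_3 hwi_4 hwi_7 hwi_5 hwi_7 hwi_8 hwi_8 hwi_7 hwi_3 hwi_7 hwi_3 hwi_7 hwi_3 hwi_4 hwi_3 hwi_4 hwi_5 hwi_8 hwi_7 hwi_3 hwi_4 hwi_5 hwi_6 hwi_3 hwi_8 hwi_7 hwi_7 hwi_3 hwi_3 hwi_8 hwi_7 hwi_7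 hwi_7 hwi_3 hwi_3 hwi_4 hwi_4) (@D3.rec (fun _ => (HWord rels S)) hwi_5 hwi_8 hwi_7 hwi_7 hwi_8 hwi_7 hwi_3 hwi_3 hwi_3 hwi_4 hwi_4 hwi_8 hwi_7 hwi_8 hwi_7 hwi_8 hwi_7 hwi_7 hwi_3 hwi_3 hwi_8 hwi_7 hwi_8 hwi_8 hwi_7 hwi_3 hwi_8 hwi_7 hwi_8 hwi_7 hwi_3 hwi_4 hwi_4 hwi_7 hwi_3 hwi_2 hwi_3 hwi_3 hwi_7 hwi_2 hwi_4 hwi_7 hwi_3 hwi_5 hwi_6 hwi_2 hwi_3 hwi_4 hwi_3 hwi_7 hwi_3) (@D3.rec (fun _ => (HWord rels S)) hwi_4 hwi_7 hwi_3 hwi_4 hwi_5 hwi_5 hwi_6 hwi_7 hwi_8 hwi_7 hwi_7 hwi_3 hwi_7 hwi_8 hwi_7 hwi_7 hwi_7 hwi_3 hwi_7 hwi_4 hwi_3 hwi_7 hwi_8 hwi_7 hwi_5 hwi_8 hwi_7 hwi_7 hwi_8 hwi_8 hwi_4 hwi_8 hwi_7 hwi_3 hwi_5 hwi_8 hwi_8 hwi_7 hwi_8 hwi_7 hwi_7 hwi_3 hwi_3 hwi_2 hwi_8 hwi_4 hwi_7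 hwi_4 hwi_7 hwi_7 hwi_3) (@D3.rec (fun _ => (HWord rels S)) hwi_3 hwi_7 hwi_7 hwi_8 hwi_7 hwi_7 hwi_7 hwi_3 hwi_8 hwi_3 hwi_8 hwi_7 hwi_8 hwi_7 hwi_7 hwi_3 hwi_8 hwi_7 hwi_8 hwi_7 hwi_8 hwi_7 hwi_3 hwi_2 hwi_3 hwi_7 hwi_7 hwi_4 hwi_8 hwi_3 hwi_8 hwi_7 hwi_7 hwi_8 hwi_7 hwi_3 hwi_3 hwi_6 hwi_4 hwi_3 hwi_8 hwi_7 hwi_4 hwi_3 hwi_8 hwi_7 hwi_3 hwi_8 hwi_7 hwi_2 hwi_5) (@D3.rec (fun _ => (HWord rels S)) hwi_8 hwi_8 hwi_7 hwi_6 hwi_7 hwi_8 hwi_8 hwi_7 hwi_5 hwi_8 hwi_7 hwi_3 hwi_8 hwi_7 hwi_3 hwi_2 hwi_3 hwi_4 hwi_3 hwi_7 hwi_3 hwi_8 hwi_7 hwi_3 hwi_3 hwi_2 hwi_2 hwi_3 hwi_8 hwi_4 hwi_8 hwi_7 hwi_3 hwi_5 hwi_4 hwi_4 hwi_7 hwi_4 hwi_7 hwi_8 hwi_7 hwi_3 hwi_2 hwi_8 hwi_7 hwi_6 hwi_8 hwi_8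 hwi_7 hwi_3 hwi_7) (@D3.rec (fun _ => (HWord rels S)) hwi_8 hwi_8 hwi_7 hwi_7 hwi_3 hwi_8 hwi_7 hwi_3 hwi_2 hwi_4 hwi_5 hwi_4 hwi_3 hwi_2 hwi_1 hwi_5 hwi_4 hwi_5 hwi_4 hwi_3 hwi_3 hwi_7 hwi_3 hwi_7 hwi_7 hwi_3 hwi_2 hwi_7 hwi_3 hwi_4 hwi_5 hwi_7 hwi_3 hwi_2 hwi_8 hwi_3 hwi_8 hwi_7 hwi_8 hwi_7 hwi_7 hwi_8 hwi_7 hwi_3 hwi_8 hwi_7 hwi_3 hwi_4 hwi_7 hwi_8 hwi_7) (@D3.rec (fun _ => (HWord rels S)) hwi_7 hwi_3 hwi_3 hwi_5 hwi_7 hwi_7 hwi_3 hwi_8 hwi_7 hwi_7 hwi_3 hwi_3 hwi_3 hwi_2 hwi_4 hwi_1 hwi_4 hwi_5 hwi_4 hwi_3 hwi_2 hwi_4 hwi_4 hwi_5 hwi_3 hwi_3 hwi_2 hwi_7 hwi_7 hwi_7 hwi_7 hwi_3 hwi_2 hwi_3 hwi_7 hwi_3 hwi_2 hwi_1 hwi_5 hwi_8 hwi_7 hwi_8 hwi_7 hwi_3 hwi_4 hwi_4 hwi_3 hwi_5 hwi_8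 hwi_7 hwi_8) (@D3.rec (fun _ => (HWord rels S)) hwi_7 hwi_8 hwi_7 hwi_8 hwi_5 hwi_8 hwi_7 hwi_8 hwi_7 hwi_7 hwi_3 hwi_7 hwi_7 hwi_2 hwi_3 hwi_2 hwi_8 hwi_7 hwi_3 hwi_7 hwi_7 hwi_8 hwi_7 hwi_8 hwi_7 hwi_8 hwi_7 hwi_3 hwi_7 hwi_3 hwi_7 hwi_7 hwi_4 hwi_8 hwi_7 hwi_3 hwi_8 hwi_7 hwi_3 hwi_2 hwi_7 hwi_7 hwi_3 hwi_1 hwi_3 hwi_2 hwi_4 hwi_1 hwi_7 hwi_8 hwi_1) (@D3.rec (fun _ => (HWord rels S)) hwi_4 hwi_8 hwi_5 hwi_8 hwi_7 hwi_7 hwi_8 hwi_4 hwi_8 hwi_4 hwi_8 hwi_3 hwi_3 hwi_8 hwi_7 hwi_8 hwi_7 hwi_7 hwi_1 hwi_8 hwi_7 hwi_3 hwi_7 hwi_3 hwi_4 hwi_2 hwi_8 hwi_3 hwi_4 hwi_8 hwi_7 hwi_5 hwi_8 hwi_4 hwi_3 hwi_8 hwi_7 hwi_5 hwi_7 hwi_8 hwi_8 hwi_7 hwi_3 hwi_7 hwi_3 hwi_8 hwi_7 hwi_2 hwi_8 hwi_7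 hwi_4) (@D3.rec (fun _ => (HWord rels S)) hwi_3 hwi_7 hwi_3 hwi_4 hwi_3 hwi_2 hwi_2 hwi_4 hwi_5 hwi_7 hwi_3 hwi_4 hwi_2 hwi_4 hwi_1 hwi_2 hwi_7 hwi_8 hwi_7 hwi_3 hwi_8 hwi_7 hwi_3 hwi_4 hwi_4 hwi_5 hwi_2 hwi_8 hwi_8 hwi_7 hwi_7 hwi_7 hwi_6 hwi_8 hwi_7 hwi_8 hwi_8 hwi_7 hwi_3 hwi_8 hwi_7 hwi_8 hwi_7 hwi_7 hwi_3 hwi_7 hwi_3 hwi_3 hwi_5 hwi_8 hwi_7) (@D3.rec (fun _ => (HWord rels S)) hwi_8 hwi_7 hwi_3 hwi_8 hwi_7 hwi_8 hwi_7 hwi_3 hwi_7 hwi_3 hwi_6 hwi_8 hwi_7 hwi_7 hwi_7 hwi_3 hwi_3 hwi_8 hwi_7 hwi_3 hwi_8 hwi_7 hwi_3 hwi_7 hwi_3 hwi_7 hwi_3 hwi_4 hwi_4 hwi_4 hwi_0 hwi_4 hwi_8 hwi_7 hwi_8 hwi_7 hwi_0 hwi_4 hwi_8 hwi_3 hwi_5 hwi_8 hwi_7 hwi_8 hwi_7 hwi_7 hwi_8 hwi_7 hwi_7 hwi_8 hwi_5)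 (@D3.rec (fun _ => (HWord rels S)) hwi_8 hwi_7 hwi_7 hwi_8 hwi_7 hwi_3 hwi_8 hwi_7 hwi_5 hwi_7 hwi_8 hwi_8 hwi_7 hwi_3 hwi_2 hwi_8 hwi_7 hwi_3 hwi_7 hwi_3 hwi_8 hwi_7 hwi_3 hwi_3 hwi_7 hwi_4 hwi_8 hwi_7 hwi_3 hwi_2 hwi_2 hwi_3 hwi_5 hwi_8 hwi_7 hwi_3 hwi_8 hwi_8 hwi_7 hwi_7 hwi_3 hwi_3 hwi_8 hwi_7 hwi_3 hwi_3 hwi_8 hwi_7 hwi_7 hwi_8 hwi_8) (@D3.rec (fun _ => (HWord rels S)) hwi_7 hwi_3 hwi_8 hwi_7 hwi_7 hwi_8 hwi_7 hwi_3 hwi_4 hwi_8 hwi_7 hwi_3 hwi_2 hwi_7 hwi_3 hwi_4 hwi_8 hwi_7 hwi_3 hwi_2 hwi_3 hwi_7 hwi_4 hwi_8 hwi_7 hwi_5 hwi_7 hwi_3 hwi_2 hwi_4 hwi_1 hwi_3 hwi_6 hwi_4 hwi_7 hwi_3 hwi_3 hwi_4 hwi_1 hwi_5 hwi_2 hwi_4 hwi_1 hwi_4 hwi_4 hwi_7 hwi_3 hwi_4 hwi_8 hwi_7 hwi_8)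
def ow_16 : D2 → D3 → (HWord rels S) := @D2.rec (fun _ => D3 → (HWord rels S)) (@D3.rec (fun _ => (HWord rels S)) hwi_7 hwi_3 hwi_4 hwi_7 hwi_3 hwi_4 hwi_5 hwi_2 hwi_5 hwi_5 hwi_6 hwi_7 hwi_7 hwi_7 hwi_7 hwi_7 hwi_3 hwi_3 hwi_7 hwi_3 hwi_7 hwi_3 hwi_3 hwi_4 hwi_3 hwi_2 hwi_7 hwi_3 hwi_3 hwi_7 hwi_7 hwi_7 hwi_3 hwi_3 hwi_7 hwi_3 hwi_3 hwi_4 hwi_2 hwi_2 hwi_4 hwi_3 hwi_3 hwi_3 hwi_3 hwi_4 hwi_3 hwi_2 hwi_3 hwi_3 hwi_3) (@D3.rec (fun _ => (HWord rels S)) hwi_4 hwi_3 hwi_2 hwi_4 hwi_5 hwi_5 hwi_8 hwi_8 hwi_7 hwi_7 hwi_5 hwi_8 hwi_4 hwi_8 hwi_5 hwi_8 hwi_7 hwi_7 hwi_7 hwi_8 hwi_7 hwi_3 hwi_3 hwi_6 hwi_8 hwi_8 hwi_7 hwi_8 hwi_7 hwi_8 hwi_7 hwi_3 hwi_7 hwi_3 hwi_3 hwi_3 hwi_4 hwi_8 hwi_5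 hwi_8 hwi_7 hwi_8 hwi_7 hwi_4 hwi_8 hwi_3 hwi_8 hwi_7 hwi_6 hwi_8 hwi_7) (@D3.rec (fun _ => (HWord rels S)) hwi_7 hwi_3 hwi_8 hwi_7 hwi_3 hwi_3 hwi_4 hwi_7 hwi_3 hwi_2 hwi_8 hwi_7 hwi_7 hwi_8 hwi_7 hwi_8 hwi_7 hwi_3 hwi_8 hwi_7 hwi_3 hwi_3 hwi_4 hwi_7 hwi_3 hwi_2 hwi_7 hwi_3 hwi_3 hwi_2 hwi_4 hwi_3 hwi_7 hwi_3 hwi_4 hwi_5 hwi_8 hwi_7 hwi_8 hwi_7 hwi_4 hwi_8 hwi_3 hwi_8 hwi_7 hwi_7 hwi_7 hwi_3 hwi_7 hwi_8 hwi_4) (@D3.rec (fun _ => (HWord rels S)) hwi_8 hwi_5 hwi_8 hwi_7 hwi_5 hwi_8 hwi_8 hwi_3 hwi_4 hwi_8 hwi_3 hwi_5 hwi_8 hwi_7 hwi_8 hwi_7 hwi_7 hwi_7 hwi_8 hwi_7 hwi_3 hwi_7 hwi_3 hwi_3 hwi_4 hwi_2 hwi_8 hwi_7 hwi_8 hwi_7 hwi_4 hwi_8 hwi_4 hwi_8 hwi_8 hwi_7 hwi_8 hwi_7 hwi_3 hwi_7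 hwi_3 hwi_7 hwi_7 hwi_3 hwi_7 hwi_3 hwi_4 hwi_3 hwi_2 hwi_2 hwi_4) (@D3.rec (fun _ => (HWord rels S)) hwi_2 hwi_4 hwi_7 hwi_2 hwi_4 hwi_3 hwi_4 hwi_2 hwi_4 hwi_5 hwi_7 hwi_8 hwi_3 hwi_8 hwi_7 hwi_4 hwi_8 hwi_3 hwi_5 hwi_8 hwi_7 hwi_8 hwi_7 hwi_4 hwi_3 hwi_3 hwi_8 hwi_7 hwi_8 hwi_7 hwi_3 hwi_8 hwi_7 hwi_7 hwi_8 hwi_8 hwi_7 hwi_3 hwi_8 hwi_7 hwi_3 hwi_3 hwi_7 hwi_3 hwi_3 hwi_7 hwi_3 hwi_4 hwi_7 hwi_3 hwi_2) (@D3.rec (fun _ => (HWord rels S)) hwi_4 hwi_3 hwi_8 hwi_7 hwi_5 hwi_7 hwi_8 hwi_8 hwi_7 hwi_3 hwi_7 hwi_3 hwi_3 hwi_8 hwi_7 hwi_5 hwi_7 hwi_8 hwi_8 hwi_7 hwi_3 hwi_7 hwi_8 hwi_8 hwi_7 hwi_8 hwi_7 hwi_3 hwi_4 hwi_5 hwi_7 hwi_3 hwi_2 hwi_7 hwi_3 hwi_3 hwi_7 hwi_3 hwi_4 hwi_7 hwi_3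 hwi_2 hwi_4 hwi_5 hwi_5 hwi_3 hwi_2 hwi_4 hwi_1 hwi_4 hwi_3) (@D3.rec (fun _ => (HWord rels S)) hwi_4 hwi_2 hwi_4 hwi_1 hwi_4 hwi_8 hwi_7 hwi_3 hwi_4 hwi_8 hwi_7 hwi_8 hwi_7 hwi_3 hwi_4 hwi_7 hwi_3 hwi_2 hwi_4 hwi_5 hwi_8 hwi_7 hwi_8 hwi_7 hwi_7 hwi_7 hwi_3 hwi_8 hwi_7 hwi_7 hwi_7 hwi_3 hwi_3 hwi_3 hwi_4 hwi_3 hwi_8 hwi_7 hwi_8 hwi_7 hwi_8 hwi_7 hwi_7 hwi_8 hwi_7 hwi_8 hwi_7 hwi_7 hwi_3 hwi_7 hwi_3) (@D3.rec (fun _ => (HWord rels S)) hwi_3 hwi_8 hwi_7 hwi_8 hwi_7 hwi_7 hwi_7 hwi_3 hwi_7 hwi_7 hwi_7 hwi_3 hwi_8 hwi_7 hwi_3 hwi_2 hwi_3 hwi_7 hwi_3 hwi_2 hwi_4 hwi_3 hwi_3 hwi_4 hwi_3 hwi_4 hwi_4 hwi_8 hwi_7 hwi_7 hwi_8 hwi_7 hwi_8 hwi_7 hwi_7 hwi_8 hwi_7 hwi_3 hwi_3 hwi_3 hwi_5 hwi_8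 hwi_7 hwi_5 hwi_8 hwi_7 hwi_8 hwi_7 hwi_5 hwi_8 hwi_7) (@D3.rec (fun _ => (HWord rels S)) hwi_6 hwi_8 hwi_7 hwi_7 hwi_3 hwi_8 hwi_7 hwi_3 hwi_3 hwi_2 hwi_7 hwi_8 hwi_7 hwi_8 hwi_7 hwi_7 hwi_8 hwi_7 hwi_8 hwi_7 hwi_8 hwi_7 hwi_3 hwi_2 hwi_8 hwi_7 hwi_7 hwi_8 hwi_8 hwi_7 hwi_7 hwi_3 hwi_3 hwi_2 hwi_8 hwi_7 hwi_3 hwi_7 hwi_3 hwi_4 hwi_3 hwi_2 hwi_2 hwi_4 hwi_3 hwi_5 hwi_5 hwi_4 hwi_7 hwi_8 hwi_8) (@D3.rec (fun _ => (HWord rels S)) hwi_7 hwi_7 hwi_8 hwi_7 hwi_6 hwi_8 hwi_5 hwi_8 hwi_7 hwi_5 hwi_8 hwi_7 hwi_4 hwi_8 hwi_3 hwi_5 hwi_8 hwi_7 hwi_5 hwi_7 hwi_8 hwi_6 hwi_8 hwi_7 hwi_3 hwi_8 hwi_7 hwi_3 hwi_8 hwi_7 hwi_2 hwi_8 hwi_7 hwi_8 hwi_7 hwi_5 hwi_8 hwi_7 hwi_2 hwi_8 hwi_7 hwi_3 hwi_8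 hwi_7 hwi_7 hwi_8 hwi_8 hwi_7 hwi_8 hwi_7 hwi_3) (@D3.rec (fun _ => (HWord rels S)) hwi_8 hwi_7 hwi_3 hwi_2 hwi_8 hwi_7 hwi_3 hwi_8 hwi_7 hwi_3 hwi_4 hwi_8 hwi_7 hwi_3 hwi_7 hwi_3 hwi_2 hwi_4 hwi_1 hwi_1 hwi_4 hwi_2 hwi_8 hwi_7 hwi_8 hwi_7 hwi_8 hwi_7 hwi_7 hwi_8 hwi_7 hwi_3 hwi_8 hwi_7 hwi_7 hwi_8 hwi_8 hwi_7 hwi_7 hwi_7 hwi_6 hwi_8 hwi_8 hwi_7 hwi_7 hwi_8 hwi_7 hwi_3 hwi_7 hwi_8 hwi_7) (@D3.rec (fun _ => (HWord rels S)) hwi_3 hwi_2 hwi_7 hwi_6 hwi_8 hwi_7 hwi_8 hwi_7 hwi_3 hwi_4 hwi_5 hwi_7 hwi_8 hwi_8 hwi_7 hwi_7 hwi_3 hwi_8 hwi_7 hwi_3 hwi_2 hwi_4 hwi_5 hwi_7 hwi_3 hwi_2 hwi_4 hwi_1 hwi_7 hwi_3 hwi_8 hwi_7 hwi_3 hwi_4 hwi_3 hwi_7 hwi_3 hwi_5 hwi_4 hwi_4 hwi_8 hwi_7 hwi_3 hwi_7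 hwi_3 hwi_2 hwi_4 hwi_5 hwi_5 hwi_2 hwi_4) (@D3.rec (fun _ => (HWord rels S)) hwi_1 hwi_4 hwi_0 hwi_2 hwi_1 hwi_4 hwi_4 hwi_6 hwi_6 hwi_4 hwi_5 hwi_5 hwi_4 hwi_5 hwi_5 hwi_4 hwi_0 hwi_4 hwi_3 hwi_7 hwi_3 hwi_2 hwi_4 hwi_4 hwi_5 hwi_3 hwi_7 hwi_3 hwi_7 hwi_7 hwi_3 hwi_7 hwi_4 hwi_7 hwi_7 hwi_2 hwi_4 hwi_4 hwi_5 hwi_3 hwi_3 hwi_7 hwi_3 hwi_7 hwi_7 hwi_3 hwi_3 hwi_4 hwi_7 hwi_3 hwi_8) (@D3.rec (fun _ => (HWord rels S)) hwi_7 hwi_8 hwi_7 hwi_8 hwi_7 hwi_3 hwi_7 hwi_3 hwi_2 hwi_7 hwi_3 hwi_7 hwi_3 hwi_3 hwi_8 hwi_7 hwi_7 hwi_7 hwi_3 hwi_3 hwi_8 hwi_7 hwi_7 hwi_3 hwi_3 hwi_4 hwi_2 hwi_4 hwi_2 hwi_4 hwi_5 hwi_3 hwi_7 hwi_3 hwi_8 hwi_7 hwi_3 hwi_3 hwi_3 hwi_3 hwi_8 hwi_8 hwi_7 hwi_8 hwi_7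 hwi_8 hwi_7 hwi_3 hwi_8 hwi_8 hwi_7) (@D3.rec (fun _ => (HWord rels S)) hwi_2 hwi_7 hwi_3 hwi_8 hwi_7 hwi_3 hwi_8 hwi_7 hwi_7 hwi_3 hwi_4 hwi_3 hwi_2 hwi_0 hwi_7 hwi_3 hwi_2 hwi_4 hwi_3 hwi_5 hwi_1 hwi_2 hwi_1 hwi_7 hwi_2 hwi_4 hwi_7 hwi_3 hwi_4 hwi_3 hwi_4 hwi_5 hwi_1 hwi_2 hwi_5 hwi_8 hwi_8 hwi_7 hwi_8 hwi_7 hwi_3 hwi_3 hwi_6 hwi_8 hwi_7 hwi_7 hwi_5 hwi_8 hwi_2 hwi_7 hwi_8) (@D3.rec (fun _ => (HWord rels S)) hwi_7 hwi_3 hwi_3 hwi_8 hwi_8 hwi_7 hwi_3 hwi_8 hwi_8 hwi_7 hwi_7 hwi_3 hwi_4 hwi_7 hwi_3 hwi_2 hwi_2 hwi_7 hwi_8 hwi_4 hwi_2 hwi_7 hwi_4 hwi_8 hwi_4 hwi_2 hwi_7 hwi_8 hwi_8 hwi_7 hwi_7 hwi_3 hwi_4 hwi_3 hwi_2 hwi_8 hwi_7 hwi_8 hwi_8 hwi_7 hwi_8 hwi_7 hwi_3 hwi_4 hwi_8 hwi_8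 hwi_7 hwi_7 hwi_3 hwi_8 hwi_7) (@D3.rec (fun _ => (HWord rels S)) hwi_3 hwi_2 hwi_4 hwi_5 hwi_4 hwi_3 hwi_2 hwi_1 hwi_8 hwi_4 hwi_7 hwi_3 hwi_3 hwi_5 hwi_7 hwi_3 hwi_7 hwi_3 hwi_7 hwi_3 hwi_4 hwi_4 hwi_2 hwi_4 hwi_4 hwi_7 hwi_2 hwi_4 hwi_5 hwi_7 hwi_3 hwi_4 hwi_3 hwi_4 hwi_5 hwi_6 hwi_4 hwi_4 hwi_4 hwi_5 hwi_7 hwi_7 hwi_7 hwi_3 hwi_3 hwi_4 hwi_3 hwi_4 hwi_5 hwi_7 hwi_8) (@D3.rec (fun _ => (HWord rels S)) hwi_7 hwi_3 hwi_3 hwi_4 hwi_3 hwi_7 hwi_8 hwi_8 hwi_7 hwi_7 hwi_3 hwi_4 hwi_3 hwi_2 hwi_3 hwi_4 hwi_5 hwi_6 hwi_7 hwi_3 hwi_4 hwi_5 hwi_6 hwi_8 hwi_7 hwi_3 hwi_3 hwi_7 hwi_3 hwi_3 hwi_4 hwi_2 hwi_5 hwi_5 hwi_7 hwi_3 hwi_8 hwi_7 hwi_3 hwi_4 hwi_2 hwi_4 hwi_5 hwi_7 hwi_2 hwi_7 hwi_3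 hwi_7 hwi_3 hwi_3 hwi_4) (@D3.rec (fun _ => (HWord rels S)) hwi_2 hwi_7 hwi_3 hwi_7 hwi_7 hwi_3 hwi_4 hwi_7 hwi_3 hwi_7 hwi_3 hwi_2 hwi_4 hwi_5 hwi_4 hwi_3 hwi_2 hwi_1 hwi_5 hwi_6 hwi_4 hwi_4 hwi_4 hwi_3 hwi_4 hwi_5 hwi_3 hwi_4 hwi_6 hwi_8 hwi_7 hwi_3 hwi_2 hwi_3 hwi_7 hwi_3 hwi_3 hwi_2 hwi_8 hwi_4 hwi_8 hwi_7 hwi_3 hwi_8 hwi_7 hwi_8 hwi_7 hwi_7 hwi_4 hwi_7 hwi_3) (@D3.rec (fun _ => (HWord rels S)) hwi_2 hwi_8 hwi_7 hwi_7 hwi_3 hwi_7 hwi_3 hwi_3 hwi_2 hwi_2 hwi_1 hwi_7 hwi_4 hwi_3 hwi_3 hwi_4 hwi_7 hwi_3 hwi_3 hwi_3 hwi_2 hwi_7 hwi_7 hwi_3 hwi_7 hwi_3 hwi_2 hwi_7 hwi_7 hwi_3 hwi_7 hwi_3 hwi_2 hwi_1 hwi_8 hwi_7 hwi_8 hwi_7 hwi_3 hwi_8 hwi_7 hwi_3 hwi_4 hwi_2 hwi_8 hwi_4 hwi_7 hwi_3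 hwi_4 hwi_7 hwi_3) (@D3.rec (fun _ => (HWord rels S)) hwi_2 hwi_7 hwi_8 hwi_8 hwi_7 hwi_7 hwi_3 hwi_7 hwi_8 hwi_8 hwi_7 hwi_7 hwi_3 hwi_8 hwi_7 hwi_3 hwi_2 hwi_4 hwi_3 hwi_2 hwi_1 hwi_4 hwi_3 hwi_2 hwi_7 hwi_3 hwi_4 hwi_2 hwi_7 hwi_4 hwi_7 hwi_3 hwi_3 hwi_5 hwi_4 hwi_4 hwi_3 hwi_4 hwi_3 hwi_7 hwi_7 hwi_3 hwi_2 hwi_1 hwi_7 hwi_3 hwi_8 hwi_7 hwi_3 hwi_2 hwi_8) (@D3.rec (fun _ => (HWord rels S)) hwi_7 hwi_7 hwi_3 hwi_3 hwi_2 hwi_7 hwi_3 hwi_2 hwi_4 hwi_1 hwi_4 hwi_5 hwi_4 hwi_2 hwi_1 hwi_0 hwi_5 hwi_5 hwi_4 hwi_4 hwi_3 hwi_7 hwi_3 hwi_2 hwi_4 hwi_2 hwi_4 hwi_5 hwi_1 hwi_4 hwi_7 hwi_7 hwi_3 hwi_3 hwi_7 hwi_3 hwi_2 hwi_4 hwi_7 hwi_3 hwi_4 hwi_7 hwi_3 hwi_4 hwi_7 hwi_3 hwi_3 hwi_4 hwi_4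 hwi_4 hwi_5) (@D3.rec (fun _ => (HWord rels S)) hwi_5 hwi_4 hwi_4 hwi_2 hwi_3 hwi_2 hwi_1 hwi_8 hwi_7 hwi_7 hwi_3 hwi_8 hwi_4 hwi_8 hwi_7 hwi_7 hwi_3 hwi_7 hwi_7 hwi_8 hwi_7 hwi_7 hwi_3 hwi_2 hwi_2 hwi_4 hwi_7 hwi_3 hwi_7 hwi_7 hwi_3 hwi_7 hwi_3 hwi_3 hwi_3 hwi_3 hwi_8 hwi_7 hwi_3 hwi_2 hwi_7 hwi_3 hwi_2 hwi_4 hwi_1 hwi_4 hwi_1 hwi_4 hwi_7 hwi_8 hwi_7) (@D3.rec (fun _ => (HWord rels S)) hwi_4 hwi_8 hwi_3 hwi_5 hwi_8 hwi_7 hwi_8 hwi_7 hwi_8 hwi_3 hwi_5 hwi_8 hwi_7 hwi_4 hwi_8 hwi_4 hwi_7 hwi_8 hwi_7 hwi_3 hwi_7 hwi_3 hwi_2 hwi_8 hwi_7 hwi_4 hwi_4 hwi_3 hwi_2 hwi_7 hwi_8 hwi_7 hwi_2 hwi_8 hwi_7 hwi_4 hwi_7 hwi_8 hwi_7 hwi_3 hwi_7 hwi_8 hwi_8 hwi_7 hwi_7 hwi_3 hwi_4 hwi_3 hwi_2 hwi_7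 hwi_3) (@D3.rec (fun _ => (HWord rels S)) hwi_4 hwi_7 hwi_3 hwi_4 hwi_3 hwi_2 hwi_4 hwi_5 hwi_2 hwi_4 hwi_1 hwi_3 hwi_2 hwi_5 hwi_1 hwi_4 hwi_4 hwi_8 hwi_7 hwi_3 hwi_4 hwi_7 hwi_3 hwi_4 hwi_5 hwi_5 hwi_8 hwi_7 hwi_7 hwi_7 hwi_8 hwi_3 hwi_8 hwi_7 hwi_8 hwi_7 hwi_7 hwi_8 hwi_7 hwi_3 hwi_7 hwi_3 hwi_3 hwi_3 hwi_4 hwi_8 hwi_7 hwi_7 hwi_8 hwi_7 hwi_3) (@D3.rec (fun _ => (HWord rels S)) hwi_7 hwi_3 hwi_3 hwi_8 hwi_7 hwi_3 hwi_3 hwi_4 hwi_8 hwi_7 hwi_3 hwi_2 hwi_7 hwi_3 hwi_4 hwi_4 hwi_3 hwi_4 hwi_4 hwi_8 hwi_6 hwi_3 hwi_8 hwi_7 hwi_7 hwi_8 hwi_7 hwi_4 hwi_8 hwi_8 hwi_7 hwi_8 hwi_8 hwi_7 hwi_3 hwi_7 hwi_3 hwi_7 hwi_8 hwi_7 hwi_8 hwi_7 hwi_5 hwi_7 hwi_3 hwi_8 hwi_7 hwi_3 hwi_8 hwi_7 hwi_3)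 (@D3.rec (fun _ => (HWord rels S)) hwi_8 hwi_8 hwi_7 hwi_7 hwi_3 hwi_4 hwi_8 hwi_7 hwi_3 hwi_2 hwi_3 hwi_4 hwi_7 hwi_3 hwi_2 hwi_5 hwi_7 hwi_3 hwi_2 hwi_4 hwi_4 hwi_3 hwi_8 hwi_7 hwi_3 hwi_8 hwi_7 hwi_7 hwi_3 hwi_3 hwi_4 hwi_8 hwi_7 hwi_3 hwi_2 hwi_8 hwi_7 hwi_3 hwi_8 hwi_7 hwi_7 hwi_3 hwi_4 hwi_7 hwi_3 hwi_8 hwi_7 hwi_3 hwi_2 hwi_4 hwi_5)
def ow_17 : D2 → D3 → (HWord rels S) := @D2.rec (fun _ => D3 → (HWord rels S)) (@D3.rec (fun _ => (HWord rels S)) hwi_7 hwi_3 hwi_2 hwi_4 hwi_1 hwi_4 hwi_2 hwi_5 hwi_7 hwi_3 hwi_3 hwi_4 hwi_1 hwi_5 hwi_7 hwi_6 hwi_5 hwi_4 hwi_1 hwi_4 hwi_3 hwi_4 hwi_3 hwi_4 hwi_3 hwi_5 hwi_4 hwi_4 hwi_3 hwi_4 hwi_5 hwi_7 hwi_3 hwi_7 hwi_3 hwi_4 hwi_5 hwi_3 hwi_4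 hwi_5 hwi_6 hwi_3 hwi_3 hwi_3 hwi_3 hwi_4 hwi_3 hwi_2 hwi_3 hwi_4 hwi_2) (@D3.rec (fun _ => (HWord rels S)) hwi_2 hwi_4 hwi_2 hwi_4 hwi_4 hwi_4 hwi_8 hwi_7 hwi_7 hwi_8 hwi_7 hwi_8 hwi_7 hwi_8 hwi_7 hwi_3 hwi_7 hwi_3 hwi_8 hwi_7 hwi_7 hwi_7 hwi_3 hwi_7 hwi_3 hwi_3 hwi_4 hwi_4 hwi_3 hwi_5 hwi_8 hwi_7 hwi_8 hwi_7 hwi_7 hwi_8 hwi_7 hwi_8 hwi_7 hwi_3 hwi_8 hwi_7 hwi_3 hwi_3 hwi_4 hwi_7 hwi_3 hwi_2 hwi_3 hwi_7 hwi_3) (@D3.rec (fun _ => (HWord rels S)) hwi_7 hwi_3 hwi_7 hwi_3 hwi_4 hwi_7 hwi_3 hwi_2 hwi_5 hwi_3 hwi_2 hwi_4 hwi_4 hwi_4 hwi_4 hwi_3 hwi_4 hwi_5 hwi_7 hwi_7 hwi_3 hwi_8 hwi_7 hwi_8 hwi_7 hwi_3 hwi_3 hwi_8 hwi_7 hwi_3 hwi_5 hwi_8 hwi_7 hwi_8 hwi_7 hwi_8 hwi_7 hwi_4 hwi_8 hwi_7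 hwi_8 hwi_8 hwi_7 hwi_3 hwi_7 hwi_3 hwi_3 hwi_7 hwi_4 hwi_3 hwi_2) (@D3.rec (fun _ => (HWord rels S)) hwi_7 hwi_7 hwi_8 hwi_7 hwi_4 hwi_7 hwi_7 hwi_3 hwi_7 hwi_3 hwi_4 hwi_3 hwi_2 hwi_2 hwi_4 hwi_3 hwi_2 hwi_4 hwi_5 hwi_2 hwi_4 hwi_4 hwi_2 hwi_4 hwi_5 hwi_5 hwi_7 hwi_7 hwi_8 hwi_7 hwi_8 hwi_7 hwi_8 hwi_7 hwi_7 hwi_8 hwi_8 hwi_7 hwi_3 hwi_7 hwi_3 hwi_4 hwi_6 hwi_8 hwi_7 hwi_3 hwi_7 hwi_3 hwi_8 hwi_7 hwi_3) (@D3.rec (fun _ => (HWord rels S)) hwi_8 hwi_7 hwi_7 hwi_3 hwi_4 hwi_7 hwi_3 hwi_2 hwi_3 hwi_4 hwi_3 hwi_5 hwi_3 hwi_2 hwi_4 hwi_7 hwi_3 hwi_6 hwi_8 hwi_8 hwi_7 hwi_7 hwi_3 hwi_4 hwi_3 hwi_2 hwi_8 hwi_7 hwi_8 hwi_8 hwi_7 hwi_7 hwi_3 hwi_4 hwi_8 hwi_7 hwi_7 hwi_3 hwi_7 hwi_3 hwi_2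 hwi_4 hwi_5 hwi_5 hwi_3 hwi_2 hwi_4 hwi_1 hwi_3 hwi_4 hwi_3) (@D3.rec (fun _ => (HWord rels S)) hwi_4 hwi_5 hwi_3 hwi_2 hwi_4 hwi_5 hwi_6 hwi_4 hwi_4 hwi_4 hwi_4 hwi_3 hwi_7 hwi_3 hwi_4 hwi_7 hwi_3 hwi_7 hwi_3 hwi_4 hwi_3 hwi_2 hwi_4 hwi_4 hwi_5 hwi_7 hwi_7 hwi_3 hwi_3 hwi_2 hwi_7 hwi_3 hwi_3 hwi_2 hwi_4 hwi_8 hwi_7 hwi_7 hwi_3 hwi_7 hwi_3 hwi_8 hwi_7 hwi_7 hwi_3 hwi_3 hwi_2 hwi_3 hwi_4 hwi_7 hwi_7) (@D3.rec (fun _ => (HWord rels S)) hwi_3 hwi_3 hwi_3 hwi_2 hwi_3 hwi_3 hwi_3 hwi_2 hwi_7 hwi_3 hwi_2 hwi_4 hwi_1 hwi_4 hwi_3 hwi_4 hwi_4 hwi_4 hwi_4 hwi_3 hwi_7 hwi_3 hwi_7 hwi_7 hwi_3 hwi_3 hwi_7 hwi_3 hwi_4 hwi_2 hwi_8 hwi_7 hwi_8 hwi_7 hwi_3 hwi_7 hwi_3 hwi_8 hwi_7 hwi_8 hwi_7 hwi_3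 hwi_3 hwi_2 hwi_7 hwi_3 hwi_2 hwi_2 hwi_4 hwi_8 hwi_7) (@D3.rec (fun _ => (HWord rels S)) hwi_7 hwi_3 hwi_8 hwi_7 hwi_8 hwi_7 hwi_3 hwi_7 hwi_3 hwi_2 hwi_8 hwi_7 hwi_3 hwi_8 hwi_7 hwi_7 hwi_3 hwi_3 hwi_2 hwi_2 hwi_4 hwi_1 hwi_7 hwi_3 hwi_2 hwi_3 hwi_5 hwi_5 hwi_2 hwi_4 hwi_4 hwi_6 hwi_3 hwi_5 hwi_3 hwi_7 hwi_7 hwi_7 hwi_8 hwi_7 hwi_8 hwi_7 hwi_3 hwi_8 hwi_7 hwi_3 hwi_8 hwi_7 hwi_8 hwi_8 hwi_7) (@D3.rec (fun _ => (HWord rels S)) hwi_3 hwi_8 hwi_8 hwi_7 hwi_8 hwi_7 hwi_3 hwi_4 hwi_7 hwi_3 hwi_2 hwi_7 hwi_8 hwi_7 hwi_3 hwi_7 hwi_8 hwi_7 hwi_3 hwi_8 hwi_7 hwi_3 hwi_2 hwi_7 hwi_3 hwi_8 hwi_7 hwi_7 hwi_3 hwi_7 hwi_3 hwi_2 hwi_7 hwi_3 hwi_2 hwi_4 hwi_1 hwi_7 hwi_3 hwi_7 hwi_3 hwi_5 hwi_5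 hwi_3 hwi_7 hwi_4 hwi_5 hwi_2 hwi_4 hwi_1 hwi_4) (@D3.rec (fun _ => (HWord rels S)) hwi_4 hwi_7 hwi_7 hwi_8 hwi_7 hwi_3 hwi_7 hwi_7 hwi_3 hwi_2 hwi_7 hwi_8 hwi_7 hwi_3 hwi_8 hwi_8 hwi_7 hwi_7 hwi_3 hwi_8 hwi_7 hwi_3 hwi_2 hwi_3 hwi_7 hwi_3 hwi_2 hwi_4 hwi_1 hwi_3 hwi_8 hwi_7 hwi_3 hwi_7 hwi_3 hwi_2 hwi_4 hwi_8 hwi_8 hwi_7 hwi_7 hwi_3 hwi_3 hwi_2 hwi_4 hwi_7 hwi_3 hwi_2 hwi_4 hwi_1 hwi_4) (@D3.rec (fun _ => (HWord rels S)) hwi_5 hwi_5 hwi_2 hwi_4 hwi_1 hwi_4 hwi_0 hwi_3 hwi_7 hwi_3 hwi_5 hwi_5 hwi_6 hwi_6 hwi_4 hwi_5 hwi_5 hwi_4 hwi_7 hwi_4 hwi_3 hwi_4 hwi_4 hwi_5 hwi_5 hwi_5 hwi_4 hwi_0 hwi_4 hwi_3 hwi_3 hwi_5 hwi_6 hwi_6 hwi_2 hwi_6 hwi_5 hwi_5 hwi_5 hwi_5 hwi_5 hwi_3 hwi_4 hwi_3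 hwi_7 hwi_2 hwi_4 hwi_4 hwi_5 hwi_5 hwi_4) (@D3.rec (fun _ => (HWord rels S)) hwi_3 hwi_2 hwi_4 hwi_5 hwi_4 hwi_3 hwi_2 hwi_3 hwi_3 hwi_2 hwi_2 hwi_4 hwi_3 hwi_2 hwi_7 hwi_3 hwi_7 hwi_3 hwi_7 hwi_3 hwi_2 hwi_3 hwi_2 hwi_1 hwi_3 hwi_3 hwi_4 hwi_7 hwi_3 hwi_3 hwi_3 hwi_2 hwi_2 hwi_7 hwi_3 hwi_4 hwi_2 hwi_4 hwi_1 hwi_3 hwi_3 hwi_2 hwi_7 hwi_3 hwi_4 hwi_2 hwi_8 hwi_7 hwi_7 hwi_2 hwi_7) (@D3.rec (fun _ => (HWord rels S)) hwi_3 hwi_7 hwi_1 hwi_8 hwi_7 hwi_7 hwi_3 hwi_4 hwi_3 hwi_2 hwi_7 hwi_3 hwi_4 hwi_7 hwi_3 hwi_3 hwi_2 hwi_4 hwi_5 hwi_2 hwi_1 hwi_1 hwi_3 hwi_2 hwi_5 hwi_4 hwi_1 hwi_4 hwi_4 hwi_2 hwi_4 hwi_4 hwi_3 hwi_2 hwi_4 hwi_5 hwi_4 hwi_5 hwi_2 hwi_2 hwi_7 hwi_7 hwi_3 hwi_7 hwi_3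 hwi_4 hwi_2 hwi_8 hwi_7 hwi_2 hwi_3) (@D3.rec (fun _ => (HWord rels S)) hwi_8 hwi_7 hwi_2 hwi_8 hwi_7 hwi_3 hwi_4 hwi_2 hwi_7 hwi_7 hwi_3 hwi_4 hwi_7 hwi_7 hwi_3 hwi_3 hwi_2 hwi_4 hwi_3 hwi_2 hwi_1 hwi_7 hwi_3 hwi_4 hwi_3 hwi_4 hwi_7 hwi_3 hwi_4 hwi_8 hwi_7 hwi_7 hwi_3 hwi_3 hwi_2 hwi_3 hwi_5 hwi_2 hwi_1 hwi_7 hwi_3 hwi_7 hwi_7 hwi_3 hwi_7 hwi_3 hwi_2 hwi_4 hwi_7 hwi_7 hwi_3) (@D3.rec (fun _ => (HWord rels S)) hwi_3 hwi_2 hwi_4 hwi_7 hwi_3 hwi_2 hwi_4 hwi_1 hwi_4 hwi_5 hwi_4 hwi_2 hwi_1 hwi_0 hwi_7 hwi_3 hwi_3 hwi_4 hwi_6 hwi_3 hwi_4 hwi_3 hwi_4 hwi_5 hwi_2 hwi_4 hwi_5 hwi_6 hwi_3 hwi_4 hwi_4 hwi_5 hwi_3 hwi_3 hwi_3 hwi_4 hwi_2 hwi_5 hwi_4 hwi_5 hwi_8 hwi_7 hwi_3 hwi_4 hwi_2 hwi_5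 hwi_2 hwi_8 hwi_7 hwi_7 hwi_3) (@D3.rec (fun _ => (HWord rels S)) hwi_3 hwi_2 hwi_4 hwi_5 hwi_2 hwi_1 hwi_4 hwi_5 hwi_6 hwi_3 hwi_4 hwi_5 hwi_6 hwi_7 hwi_3 hwi_4 hwi_2 hwi_3 hwi_2 hwi_2 hwi_4 hwi_5 hwi_1 hwi_3 hwi_4 hwi_7 hwi_3 hwi_2 hwi_4 hwi_5 hwi_1 hwi_5 hwi_3 hwi_4 hwi_3 hwi_2 hwi_3 hwi_4 hwi_2 hwi_4 hwi_1 hwi_3 hwi_4 hwi_3 hwi_3 hwi_2 hwi_4 hwi_5 hwi_3 hwi_2 hwi_4) (@D3.rec (fun _ => (HWord rels S)) hwi_3 hwi_2 hwi_4 hwi_1 hwi_4 hwi_5 hwi_6 hwi_2 hwi_1 hwi_0 hwi_4 hwi_4 hwi_7 hwi_3 hwi_2 hwi_1 hwi_2 hwi_3 hwi_2 hwi_2 hwi_1 hwi_7 hwi_4 hwi_7 hwi_3 hwi_2 hwi_7 hwi_3 hwi_7 hwi_3 hwi_3 hwi_4 hwi_3 hwi_2 hwi_1 hwi_7 hwi_3 hwi_3 hwi_2 hwi_3 hwi_2 hwi_2 hwi_4 hwi_1 hwi_1 hwi_0 hwi_3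 hwi_4 hwi_4 hwi_3 hwi_4) (@D3.rec (fun _ => (HWord rels S)) hwi_2 hwi_2 hwi_1 hwi_3 hwi_3 hwi_2 hwi_3 hwi_2 hwi_1 hwi_3 hwi_3 hwi_2 hwi_3 hwi_2 hwi_1 hwi_0 hwi_7 hwi_3 hwi_7 hwi_3 hwi_2 hwi_4 hwi_7 hwi_3 hwi_2 hwi_4 hwi_1 hwi_7 hwi_4 hwi_3 hwi_2 hwi_4 hwi_3 hwi_2 hwi_1 hwi_3 hwi_7 hwi_7 hwi_3 hwi_3 hwi_2 hwi_8 hwi_7 hwi_7 hwi_3 hwi_3 hwi_2 hwi_7 hwi_3 hwi_2 hwi_4) (@D3.rec (fun _ => (HWord rels S)) hwi_1 hwi_4 hwi_2 hwi_1 hwi_0 hwi_4 hwi_2 hwi_4 hwi_2 hwi_4 hwi_3 hwi_4 hwi_3 hwi_2 hwi_4 hwi_3 hwi_5 hwi_4 hwi_4 hwi_2 hwi_4 hwi_4 hwi_2 hwi_3 hwi_7 hwi_3 hwi_2 hwi_1 hwi_0 hwi_3 hwi_2 hwi_3 hwi_2 hwi_4 hwi_1 hwi_7 hwi_3 hwi_3 hwi_2 hwi_4 hwi_2 hwi_1 hwi_3 hwi_2 hwi_4 hwi_1 hwi_4 hwi_5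 hwi_0 hwi_4 hwi_5) (@D3.rec (fun _ => (HWord rels S)) hwi_4 hwi_1 hwi_0 hwi_5 hwi_5 hwi_4 hwi_3 hwi_4 hwi_4 hwi_4 hwi_3 hwi_4 hwi_3 hwi_4 hwi_4 hwi_3 hwi_4 hwi_3 hwi_4 hwi_3 hwi_4 hwi_4 hwi_5 hwi_5 hwi_7 hwi_3 hwi_3 hwi_7 hwi_4 hwi_7 hwi_3 hwi_3 hwi_2 hwi_7 hwi_2 hwi_4 hwi_4 hwi_3 hwi_2 hwi_3 hwi_3 hwi_2 hwi_3 hwi_4 hwi_2 hwi_2 hwi_7 hwi_3 hwi_2 hwi_4 hwi_1) (@D3.rec (fun _ => (HWord rels S)) hwi_4 hwi_1 hwi_4 hwi_4 hwi_3 hwi_8 hwi_7 hwi_8 hwi_7 hwi_8 hwi_8 hwi_7 hwi_3 hwi_7 hwi_3 hwi_7 hwi_8 hwi_7 hwi_2 hwi_8 hwi_7 hwi_4 hwi_8 hwi_7 hwi_3 hwi_4 hwi_3 hwi_2 hwi_4 hwi_7 hwi_3 hwi_4 hwi_5 hwi_2 hwi_4 hwi_3 hwi_7 hwi_3 hwi_4 hwi_7 hwi_3 hwi_4 hwi_8 hwi_7 hwi_3 hwi_4 hwi_8 hwi_7 hwi_7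 hwi_3 hwi_3) (@D3.rec (fun _ => (HWord rels S)) hwi_2 hwi_4 hwi_5 hwi_2 hwi_4 hwi_1 hwi_3 hwi_3 hwi_3 hwi_5 hwi_3 hwi_2 hwi_5 hwi_2 hwi_4 hwi_5 hwi_6 hwi_4 hwi_2 hwi_4 hwi_5 hwi_4 hwi_3 hwi_5 hwi_7 hwi_3 hwi_4 hwi_3 hwi_4 hwi_5 hwi_2 hwi_7 hwi_3 hwi_8 hwi_7 hwi_8 hwi_7 hwi_7 hwi_3 hwi_3 hwi_7 hwi_3 hwi_4 hwi_3 hwi_2 hwi_4 hwi_7 hwi_3 hwi_3 hwi_7 hwi_3) (@D3.rec (fun _ => (HWord rels S)) hwi_4 hwi_3 hwi_2 hwi_4 hwi_7 hwi_3 hwi_2 hwi_2 hwi_4 hwi_7 hwi_3 hwi_2 hwi_4 hwi_1 hwi_3 hwi_4 hwi_4 hwi_8 hwi_7 hwi_8 hwi_3 hwi_7 hwi_2 hwi_8 hwi_7 hwi_3 hwi_8 hwi_7 hwi_7 hwi_3 hwi_7 hwi_7 hwi_3 hwi_4 hwi_3 hwi_2 hwi_8 hwi_7 hwi_3 hwi_7 hwi_3 hwi_5 hwi_3 hwi_4 hwi_7 hwi_3 hwi_2 hwi_7 hwi_3 hwi_4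 hwi_7) (@D3.rec (fun _ => (HWord rels S)) hwi_7 hwi_3 hwi_3 hwi_2 hwi_4 hwi_5 hwi_7 hwi_3 hwi_2 hwi_4 hwi_1 hwi_3 hwi_3 hwi_3 hwi_4 hwi_3 hwi_4 hwi_4 hwi_8 hwi_7 hwi_3 hwi_2 hwi_7 hwi_3 hwi_3 hwi_4 hwi_2 hwi_4 hwi_5 hwi_7 hwi_3 hwi_2 hwi_4 hwi_1 hwi_7 hwi_3 hwi_4 hwi_7 hwi_3 hwi_3 hwi_2 hwi_4 hwi_5 hwi_3 hwi_2 hwi_4 hwi_7 hwi_3 hwi_2 hwi_1 hwi_4) (@D3.rec (fun _ => (HWord rels S)) hwi_5 hwi_6 hwi_3 hwi_2 hwi_4 hwi_1 hwi_4 hwi_0 hwi_3 hwi_3 hwi_3 hwi_4 hwi_3 hwi_4 hwi_5 hwi_4 hwi_3 hwi_3 hwi_5 hwi_4 hwi_5 hwi_3 hwi_3 hwi_7 hwi_3 hwi_4 hwi_4 hwi_5 hwi_6 hwi_7 hwi_3 hwi_7 hwi_7 hwi_3 hwi_7 hwi_3 hwi_3 hwi_7 hwi_3 hwi_3 hwi_4 hwi_3 hwi_2 hwi_4 hwi_8 hwi_8 hwi_7 hwi_3 hwi_7 hwi_3 hwi_3)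 (@D3.rec (fun _ => (HWord rels S)) hwi_7 hwi_3 hwi_7 hwi_3 hwi_4 hwi_7 hwi_3 hwi_2 hwi_5 hwi_3 hwi_2 hwi_4 hwi_3 hwi_2 hwi_3 hwi_4 hwi_3 hwi_2 hwi_4 hwi_5 hwi_3 hwi_2 hwi_4 hwi_1 hwi_4 hwi_4 hwi_4 hwi_3 hwi_3 hwi_8 hwi_7 hwi_7 hwi_3 hwi_4 hwi_2 hwi_7 hwi_8 hwi_8 hwi_7 hwi_3 hwi_7 hwi_3 hwi_7 hwi_4 hwi_7 hwi_3 hwi_7 hwi_7 hwi_3 hwi_4 hwi_3) (@D3.rec (fun _ => (HWord rels S)) hwi_2 hwi_5 hwi_2 hwi_4 hwi_3 hwi_3 hwi_7 hwi_3 hwi_4 hwi_3 hwi_2 hwi_4 hwi_3 hwi_2 hwi_4 hwi_5 hwi_2 hwi_4 hwi_1 hwi_5 hwi_2 hwi_4 hwi_5 hwi_4 hwi_3 hwi_4 hwi_5 hwi_8 hwi_8 hwi_7 hwi_3 hwi_7 hwi_3 hwi_7 hwi_3 hwi_8 hwi_7 hwi_7 hwi_3 hwi_4 hwi_3 hwi_2 hwi_4 hwi_8 hwi_7 hwi_3 hwi_4 hwi_3 hwi_2 hwi_7 hwi_3)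
def ow_18 : D2 → D3 → (HWord rels S) := @D2.rec (fun _ => D3 → (HWord rels S)) (@D3.rec (fun _ => (HWord rels S)) hwi_4 hwi_7 hwi_3 hwi_3 hwi_2 hwi_4 hwi_5 hwi_3 hwi_2 hwi_4 hwi_1 hwi_4 hwi_5 hwi_4 hwi_4 hwi_4 hwi_3 hwi_2 hwi_8 hwi_7 hwi_7 hwi_3 hwi_3 hwi_2 hwi_4 hwi_2 hwi_4 hwi_1 hwi_7 hwi_3 hwi_7 hwi_7 hwi_3 hwi_3 hwi_2 hwi_4 hwi_5 hwi_7 hwi_3 hwi_3 hwi_2 hwi_4 hwi_3 hwi_2 hwi_4 hwi_1 hwi_4 hwi_5 hwi_6 hwi_5 hwi_2) (@D3.rec (fun _ => (HWord rels S)) hwi_4 hwi_1 hwi_4 hwi_0 hwi_4 hwi_4 hwi_5 hwi_4 hwi_4 hwi_5 hwi_3 hwi_3 hwi_3 hwi_7 hwi_3 hwi_4 hwi_3 hwi_3 hwi_4 hwi_2 hwi_4 hwi_4 hwi_5 hwi_5 hwi_3 hwi_3 hwi_4 hwi_2 hwi_3 hwi_2 hwi_2 hwi_4 hwi_1 hwi_7 hwi_3 hwi_3 hwi_4 hwi_3 hwi_2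 hwi_7 hwi_3 hwi_3 hwi_2 hwi_2 hwi_4 hwi_1 hwi_4 hwi_3 hwi_3 hwi_2 hwi_2) (@D3.rec (fun _ => (HWord rels S)) hwi_2 hwi_4 hwi_1 hwi_2 hwi_2 hwi_2 hwi_1 hwi_3 hwi_2 hwi_4 hwi_1 hwi_4 hwi_0 hwi_4 hwi_3 hwi_5 hwi_7 hwi_3 hwi_2 hwi_3 hwi_3 hwi_4 hwi_2 hwi_3 hwi_2 hwi_4 hwi_1 hwi_7 hwi_3 hwi_7 hwi_3 hwi_4 hwi_3 hwi_2 hwi_7 hwi_3 hwi_7 hwi_3 hwi_2 hwi_2 hwi_4 hwi_1 hwi_3 hwi_2 hwi_4 hwi_4 hwi_7 hwi_3 hwi_3 hwi_2 hwi_7) (@D3.rec (fun _ => (HWord rels S)) hwi_3 hwi_7 hwi_3 hwi_2 hwi_3 hwi_2 hwi_5 hwi_1 hwi_7 hwi_3 hwi_2 hwi_7 hwi_3 hwi_3 hwi_2 hwi_2 hwi_4 hwi_1 hwi_1 hwi_4 hwi_0 hwi_3 hwi_2 hwi_5 hwi_6 hwi_7 hwi_5 hwi_4 hwi_3 hwi_6 hwi_6 hwi_7 hwi_3 hwi_3 hwi_7 hwi_7 hwi_3 hwi_7 hwi_3 hwi_2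 hwi_7 hwi_3 hwi_7 hwi_7 hwi_3 hwi_2 hwi_4 hwi_7 hwi_7 hwi_3 hwi_7) (@D3.rec (fun _ => (HWord rels S)) hwi_3 hwi_2 hwi_4 hwi_5 hwi_3 hwi_2 hwi_4 hwi_1 hwi_3 hwi_7 hwi_3 hwi_2 hwi_3 hwi_7 hwi_3 hwi_2 hwi_7 hwi_3 hwi_2 hwi_5 hwi_1 hwi_3 hwi_2 hwi_7 hwi_3 hwi_3 hwi_2 hwi_3 hwi_2 hwi_4 hwi_1 hwi_3 hwi_2 hwi_4 hwi_1 hwi_4 hwi_0 hwi_3 hwi_3 hwi_6 hwi_4 hwi_5 hwi_5 hwi_5 hwi_5 hwi_4 hwi_4 hwi_3 hwi_3 hwi_3 hwi_7) (@D3.rec (fun _ => (HWord rels S)) hwi_3 hwi_2 hwi_3 hwi_7 hwi_3 hwi_2 hwi_5 hwi_1 hwi_3 hwi_3 hwi_2 hwi_7 hwi_7 hwi_3 hwi_3 hwi_2 hwi_7 hwi_3 hwi_2 hwi_5 hwi_1 hwi_2 hwi_3 hwi_2 hwi_4 hwi_1 hwi_4 hwi_0 hwi_2 hwi_7 hwi_3 hwi_2 hwi_3 hwi_2 hwi_4 hwi_1 hwi_4 hwi_7 hwi_7 hwi_3 hwi_3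 hwi_2 hwi_4 hwi_2 hwi_4 hwi_1 hwi_4 hwi_5 hwi_3 hwi_2 hwi_4) (@D3.rec (fun _ => (HWord rels S)) hwi_1 hwi_4 hwi_5 hwi_0 hwi_4 hwi_5 hwi_5 hwi_5 hwi_1 hwi_4 hwi_0 hwi_4 hwi_3 hwi_4 hwi_3 hwi_6 hwi_6 hwi_5 hwi_6 hwi_6 hwi_2 hwi_6 hwi_5 hwi_5 hwi_5 hwi_5 hwi_4 hwi_5 hwi_3 hwi_5 hwi_3 hwi_4 hwi_3 hwi_7 hwi_2 hwi_6 hwi_1 hwi_4 hwi_6 hwi_6 hwi_5 hwi_5 hwi_5 hwi_5 hwi_7 hwi_3 hwi_2 hwi_7 hwi_8 hwi_4 hwi_3) (@D3.rec (fun _ => (HWord rels S)) hwi_5 hwi_2 hwi_4 hwi_4 hwi_5 hwi_2 hwi_1 hwi_2 hwi_2 hwi_1 hwi_1 hwi_4 hwi_2 hwi_1 hwi_3 hwi_2 hwi_3 hwi_2 hwi_3 hwi_2 hwi_4 hwi_1 hwi_2 hwi_1 hwi_0 hwi_4 hwi_4 hwi_3 hwi_4 hwi_2 hwi_2 hwi_1 hwi_1 hwi_3 hwi_2 hwi_4 hwi_1 hwi_4 hwi_0 hwi_2 hwi_1 hwi_3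 hwi_2 hwi_4 hwi_1 hwi_7 hwi_1 hwi_3 hwi_4 hwi_3 hwi_2) (@D3.rec (fun _ => (HWord rels S)) hwi_3 hwi_4 hwi_7 hwi_3 hwi_3 hwi_2 hwi_3 hwi_4 hwi_2 hwi_1 hwi_3 hwi_2 hwi_4 hwi_5 hwi_3 hwi_2 hwi_4 hwi_2 hwi_4 hwi_1 hwi_4 hwi_5 hwi_1 hwi_0 hwi_2 hwi_4 hwi_2 hwi_4 hwi_5 hwi_4 hwi_4 hwi_3 hwi_4 hwi_2 hwi_4 hwi_4 hwi_5 hwi_5 hwi_3 hwi_2 hwi_4 hwi_3 hwi_2 hwi_4 hwi_1 hwi_7 hwi_3 hwi_4 hwi_2 hwi_7 hwi_3) (@D3.rec (fun _ => (HWord rels S)) hwi_4 hwi_7 hwi_3 hwi_2 hwi_4 hwi_1 hwi_3 hwi_3 hwi_2 hwi_4 hwi_3 hwi_3 hwi_2 hwi_4 hwi_2 hwi_1 hwi_4 hwi_2 hwi_1 hwi_0 hwi_3 hwi_2 hwi_3 hwi_5 hwi_2 hwi_4 hwi_4 hwi_3 hwi_3 hwi_3 hwi_7 hwi_3 hwi_3 hwi_2 hwi_3 hwi_2 hwi_4 hwi_1 hwi_3 hwi_5 hwi_6 hwi_1 hwi_0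 hwi_3 hwi_2 hwi_3 hwi_3 hwi_2 hwi_4 hwi_3 hwi_2) (@D3.rec (fun _ => (HWord rels S)) hwi_4 hwi_1 hwi_4 hwi_3 hwi_3 hwi_2 hwi_4 hwi_2 hwi_4 hwi_1 hwi_4 hwi_5 hwi_3 hwi_2 hwi_4 hwi_1 hwi_4 hwi_0 hwi_4 hwi_5 hwi_4 hwi_1 hwi_0 hwi_3 hwi_4 hwi_4 hwi_8 hwi_4 hwi_5 hwi_2 hwi_4 hwi_5 hwi_2 hwi_2 hwi_2 hwi_4 hwi_5 hwi_1 hwi_7 hwi_3 hwi_2 hwi_4 hwi_5 hwi_1 hwi_1 hwi_7 hwi_3 hwi_3 hwi_2 hwi_4 hwi_2) (@D3.rec (fun _ => (HWord rels S)) hwi_4 hwi_1 hwi_4 hwi_5 hwi_6 hwi_1 hwi_0 hwi_5 hwi_4 hwi_5 hwi_3 hwi_2 hwi_4 hwi_1 hwi_2 hwi_1 hwi_1 hwi_4 hwi_5 hwi_0 hwi_2 hwi_4 hwi_5 hwi_3 hwi_2 hwi_4 hwi_1 hwi_4 hwi_5 hwi_0 hwi_2 hwi_3 hwi_2 hwi_4 hwi_1 hwi_2 hwi_4 hwi_1 hwi_4 hwi_0 hwi_2 hwi_4 hwi_2 hwi_4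 hwi_2 hwi_1 hwi_4 hwi_5 hwi_2 hwi_4 hwi_1) (@D3.rec (fun _ => (HWord rels S)) hwi_4 hwi_2 hwi_1 hwi_4 hwi_0 hwi_4 hwi_5 hwi_6 hwi_1 hwi_0 hwi_3 hwi_2 hwi_1 hwi_0 hwi_1 hwi_2 hwi_1 hwi_1 hwi_0 hwi_3 hwi_4 hwi_3 hwi_2 hwi_4 hwi_1 hwi_3 hwi_2 hwi_3 hwi_2 hwi_2 hwi_4 hwi_4 hwi_2 hwi_1 hwi_0 hwi_3 hwi_2 hwi_2 hwi_4 hwi_1 hwi_2 hwi_4 hwi_1 hwi_1 hwi_4 hwi_0 hwi_0 hwi_4 hwi_2 hwi_4 hwi_1) (@D3.rec (fun _ => (HWord rels S)) hwi_1 hwi_0 hwi_2 hwi_2 hwi_4 hwi_1 hwi_2 hwi_1 hwi_0 hwi_2 hwi_2 hwi_1 hwi_2 hwi_1 hwi_0 hwi_3 hwi_4 hwi_3 hwi_2 hwi_4 hwi_4 hwi_3 hwi_2 hwi_4 hwi_1 hwi_4 hwi_0 hwi_3 hwi_4 hwi_2 hwi_4 hwi_1 hwi_4 hwi_2 hwi_1 hwi_0 hwi_2 hwi_3 hwi_3 hwi_2 hwi_2 hwi_4 hwi_1 hwi_7 hwi_3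 hwi_3 hwi_2 hwi_4 hwi_2 hwi_1 hwi_3) (@D3.rec (fun _ => (HWord rels S)) hwi_2 hwi_4 hwi_1 hwi_4 hwi_0 hwi_4 hwi_1 hwi_0 hwi_4 hwi_4 hwi_2 hwi_4 hwi_4 hwi_2 hwi_4 hwi_1 hwi_4 hwi_3 hwi_5 hwi_5 hwi_4 hwi_4 hwi_1 hwi_4 hwi_4 hwi_4 hwi_1 hwi_2 hwi_3 hwi_2 hwi_1 hwi_0 hwi_2 hwi_1 hwi_2 hwi_4 hwi_1 hwi_4 hwi_0 hwi_3 hwi_2 hwi_4 hwi_2 hwi_4 hwi_1 hwi_4 hwi_1 hwi_0 hwi_3 hwi_3 hwi_1) (@D3.rec (fun _ => (HWord rels S)) hwi_4 hwi_5 hwi_0 hwi_4 hwi_5 hwi_4 hwi_5 hwi_4 hwi_0 hwi_5 hwi_4 hwi_4 hwi_4 hwi_4 hwi_4 hwi_5 hwi_3 hwi_2 hwi_4 hwi_3 hwi_4 hwi_3 hwi_2 hwi_2 hwi_4 hwi_1 hwi_4 hwi_3 hwi_2 hwi_1 hwi_2 hwi_2 hwi_4 hwi_1 hwi_4 hwi_1 hwi_1 hwi_3 hwi_2 hwi_4 hwi_1 hwi_4 hwi_0 hwi_4 hwi_3 hwi_7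 hwi_7 hwi_3 hwi_7 hwi_3 hwi_7) (@D3.rec (fun _ => (HWord rels S)) hwi_7 hwi_3 hwi_4 hwi_3 hwi_2 hwi_3 hwi_7 hwi_3 hwi_4 hwi_7 hwi_3 hwi_4 hwi_7 hwi_3 hwi_2 hwi_4 hwi_5 hwi_2 hwi_4 hwi_1 hwi_2 hwi_3 hwi_2 hwi_4 hwi_4 hwi_2 hwi_3 hwi_2 hwi_3 hwi_5 hwi_3 hwi_2 hwi_5 hwi_4 hwi_7 hwi_3 hwi_2 hwi_4 hwi_7 hwi_3 hwi_3 hwi_2 hwi_4 hwi_2 hwi_4 hwi_1 hwi_4 hwi_5 hwi_6 hwi_1 hwi_4) (@D3.rec (fun _ => (HWord rels S)) hwi_0 hwi_2 hwi_4 hwi_2 hwi_2 hwi_2 hwi_4 hwi_5 hwi_4 hwi_5 hwi_3 hwi_4 hwi_3 hwi_3 hwi_7 hwi_2 hwi_3 hwi_4 hwi_4 hwi_5 hwi_3 hwi_2 hwi_7 hwi_3 hwi_7 hwi_3 hwi_3 hwi_4 hwi_2 hwi_3 hwi_2 hwi_4 hwi_2 hwi_4 hwi_1 hwi_3 hwi_2 hwi_2 hwi_3 hwi_2 hwi_4 hwi_2 hwi_4 hwi_1 hwi_3 hwi_2 hwi_1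 hwi_1 hwi_4 hwi_3 hwi_2) (@D3.rec (fun _ => (HWord rels S)) hwi_4 hwi_1 hwi_4 hwi_0 hwi_4 hwi_7 hwi_3 hwi_7 hwi_7 hwi_3 hwi_4 hwi_7 hwi_3 hwi_2 hwi_7 hwi_3 hwi_3 hwi_2 hwi_4 hwi_3 hwi_3 hwi_2 hwi_4 hwi_5 hwi_2 hwi_4 hwi_1 hwi_7 hwi_3 hwi_2 hwi_3 hwi_4 hwi_5 hwi_2 hwi_4 hwi_5 hwi_3 hwi_2 hwi_4 hwi_1 hwi_3 hwi_2 hwi_4 hwi_3 hwi_3 hwi_2 hwi_4 hwi_2 hwi_1 hwi_4 hwi_5) (@D3.rec (fun _ => (HWord rels S)) hwi_3 hwi_2 hwi_4 hwi_1 hwi_4 hwi_0 hwi_4 hwi_4 hwi_4 hwi_3 hwi_7 hwi_3 hwi_2 hwi_5 hwi_1 hwi_3 hwi_5 hwi_2 hwi_4 hwi_7 hwi_1 hwi_4 hwi_4 hwi_7 hwi_3 hwi_2 hwi_4 hwi_1 hwi_4 hwi_0 hwi_3 hwi_2 hwi_4 hwi_3 hwi_2 hwi_4 hwi_2 hwi_1 hwi_4 hwi_5 hwi_2 hwi_4 hwi_1 hwi_4 hwi_5 hwi_3 hwi_2 hwi_1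 hwi_0 hwi_4 hwi_5) (@D3.rec (fun _ => (HWord rels S)) hwi_6 hwi_2 hwi_5 hwi_1 hwi_4 hwi_0 hwi_4 hwi_3 hwi_7 hwi_5 hwi_4 hwi_4 hwi_3 hwi_7 hwi_8 hwi_4 hwi_6 hwi_3 hwi_2 hwi_3 hwi_3 hwi_4 hwi_3 hwi_2 hwi_4 hwi_3 hwi_2 hwi_2 hwi_4 hwi_2 hwi_4 hwi_1 hwi_7 hwi_7 hwi_3 hwi_4 hwi_3 hwi_2 hwi_2 hwi_3 hwi_4 hwi_3 hwi_2 hwi_4 hwi_5 hwi_3 hwi_2 hwi_4 hwi_1 hwi_4 hwi_4) (@D3.rec (fun _ => (HWord rels S)) hwi_2 hwi_1 hwi_2 hwi_4 hwi_2 hwi_4 hwi_1 hwi_4 hwi_5 hwi_2 hwi_4 hwi_1 hwi_4 hwi_0 hwi_3 hwi_2 hwi_2 hwi_7 hwi_3 hwi_3 hwi_2 hwi_4 hwi_1 hwi_3 hwi_7 hwi_7 hwi_3 hwi_4 hwi_3 hwi_2 hwi_3 hwi_4 hwi_3 hwi_4 hwi_3 hwi_3 hwi_2 hwi_4 hwi_5 hwi_2 hwi_4 hwi_1 hwi_4 hwi_2 hwi_2 hwi_3 hwi_2 hwi_4 hwi_2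 hwi_4 hwi_4) (@D3.rec (fun _ => (HWord rels S)) hwi_5 hwi_2 hwi_4 hwi_1 hwi_4 hwi_5 hwi_1 hwi_4 hwi_0 hwi_4 hwi_5 hwi_3 hwi_7 hwi_7 hwi_7 hwi_3 hwi_3 hwi_2 hwi_3 hwi_2 hwi_4 hwi_7 hwi_3 hwi_3 hwi_2 hwi_4 hwi_5 hwi_2 hwi_4 hwi_1 hwi_4 hwi_7 hwi_3 hwi_2 hwi_4 hwi_2 hwi_4 hwi_1 hwi_3 hwi_2 hwi_4 hwi_5 hwi_3 hwi_2 hwi_4 hwi_2 hwi_4 hwi_1 hwi_4 hwi_5 hwi_2) (@D3.rec (fun _ => (HWord rels S)) hwi_4 hwi_1 hwi_4 hwi_0 hwi_3 hwi_2 hwi_5 hwi_1 hwi_7 hwi_3 hwi_3 hwi_2 hwi_4 hwi_2 hwi_4 hwi_1 hwi_4 hwi_1 hwi_4 hwi_0 hwi_3 hwi_2 hwi_3 hwi_3 hwi_2 hwi_4 hwi_2 hwi_4 hwi_1 hwi_4 hwi_5 hwi_3 hwi_2 hwi_4 hwi_2 hwi_4 hwi_1 hwi_4 hwi_5 hwi_2 hwi_4 hwi_1 hwi_4 hwi_5 hwi_0 hwi_4 hwi_5 hwi_6 hwi_5 hwi_1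 hwi_4) (@D3.rec (fun _ => (HWord rels S)) hwi_0 hwi_4 hwi_3 hwi_5 hwi_3 hwi_7 hwi_7 hwi_2 hwi_7 hwi_8 hwi_4 hwi_4 hwi_4 hwi_5 hwi_3 hwi_5 hwi_2 hwi_2 hwi_4 hwi_1 hwi_2 hwi_1 hwi_1 hwi_4 hwi_0 hwi_3 hwi_2 hwi_2 hwi_4 hwi_5 hwi_2 hwi_4 hwi_1 hwi_3 hwi_2 hwi_2 hwi_4 hwi_1 hwi_1 hwi_4 hwi_0 hwi_2 hwi_2 hwi_4 hwi_1 hwi_1 hwi_1 hwi_4 hwi_0 hwi_1 hwi_1) (@D3.rec (fun _ => (HWord rels S)) hwi_1 hwi_0 hwi_2 hwi_4 hwi_1 hwi_4 hwi_0 hwi_4 hwi_3 hwi_7 hwi_8 hwi_2 hwi_1 hwi_2 hwi_2 hwi_4 hwi_1 hwi_2 hwi_4 hwi_1 hwi_4 hwi_0 hwi_3 hwi_2 hwi_3 hwi_2 hwi_4 hwi_5 hwi_2 hwi_4 hwi_1 hwi_3 hwi_2 hwi_3 hwi_2 hwi_4 hwi_1 hwi_1 hwi_4 hwi_0 hwi_2 hwi_4 hwi_5 hwi_3 hwi_3 hwi_2 hwi_2 hwi_4 hwi_1 hwi_3 hwi_2)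 (@D3.rec (fun _ => (HWord rels S)) hwi_3 hwi_2 hwi_5 hwi_1 hwi_2 hwi_7 hwi_1 hwi_5 hwi_0 hwi_3 hwi_2 hwi_1 hwi_3 hwi_2 hwi_4 hwi_2 hwi_1 hwi_1 hwi_4 hwi_0 hwi_0 hwi_4 hwi_3 hwi_2 hwi_6 hwi_5 hwi_6 hwi_6 hwi_5 hwi_3 hwi_7 hwi_6 hwi_8 hwi_2 hwi_3 hwi_3 hwi_2 hwi_3 hwi_2 hwi_4 hwi_1 hwi_3 hwi_2 hwi_4 hwi_3 hwi_3 hwi_2 hwi_4 hwi_4 hwi_5 hwi_3)
def ow_19 : D2 → D3 → (HWord rels S) := @D2.rec (fun _ => D3 → (HWord rels S)) (@D3.rec (fun _ => (HWord rels S)) hwi_3 hwi_2 hwi_3 hwi_2 hwi_4 hwi_1 hwi_4 hwi_5 hwi_6 hwi_2 hwi_4 hwi_1 hwi_4 hwi_0 hwi_2 hwi_3 hwi_2 hwi_4 hwi_1 hwi_2 hwi_3 hwi_2 hwi_1 hwi_3 hwi_2 hwi_4 hwi_1 hwi_5 hwi_0 hwi_2 hwi_1 hwi_3 hwi_2 hwi_2 hwi_1 hwi_2 hwi_1 hwi_4 hwi_0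 hwi_2 hwi_5 hwi_1 hwi_4 hwi_0 hwi_4 hwi_3 hwi_2 hwi_6 hwi_2 hwi_6 hwi_6) (@D3.rec (fun _ => (HWord rels S)) hwi_5 hwi_5 hwi_5 hwi_3 hwi_3 hwi_7 hwi_2 hwi_2 hwi_3 hwi_2 hwi_4 hwi_1 hwi_2 hwi_3 hwi_2 hwi_7 hwi_1 hwi_5 hwi_0 hwi_2 hwi_2 hwi_4 hwi_1 hwi_3 hwi_3 hwi_2 hwi_5 hwi_2 hwi_1 hwi_3 hwi_2 hwi_6 hwi_1 hwi_5 hwi_0 hwi_1 hwi_2 hwi_6 hwi_1 hwi_4 hwi_5 hwi_0 hwi_4 hwi_5 hwi_1 hwi_3 hwi_2 hwi_4 hwi_1 hwi_2 hwi_1) (@D3.rec (fun _ => (HWord rels S)) hwi_4 hwi_0 hwi_4 hwi_3 hwi_3 hwi_2 hwi_4 hwi_2 hwi_4 hwi_1 hwi_4 hwi_5 hwi_1 hwi_4 hwi_0 hwi_4 hwi_3 hwi_5 hwi_2 hwi_4 hwi_1 hwi_4 hwi_5 hwi_0 hwi_4 hwi_3 hwi_5 hwi_4 hwi_5 hwi_5 hwi_5 hwi_0 hwi_4 hwi_3 hwi_4 hwi_3 hwi_7 hwi_4 hwi_6 hwi_8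 hwi_5 hwi_6 hwi_1 hwi_6 hwi_6 hwi_5 hwi_5 hwi_5 hwi_4 hwi_7 hwi_5) (@D3.rec (fun _ => (HWord rels S)) hwi_7 hwi_3 hwi_2 hwi_7 hwi_8 hwi_4 hwi_5 hwi_3 hwi_6 hwi_5 hwi_5 hwi_5 hwi_8 hwi_2 hwi_7 hwi_7 hwi_3 hwi_5 hwi_4 hwi_5 hwi_1 hwi_0 hwi_1 hwi_1 hwi_0 hwi_0 hwi_4 hwi_1 hwi_0 hwi_2 hwi_4 hwi_1 hwi_2 hwi_4 hwi_1 hwi_2 hwi_4 hwi_1 hwi_4 hwi_0 hwi_1 hwi_0 hwi_2 hwi_4 hwi_1 hwi_1 hwi_0 hwi_0 hwi_2 hwi_1 hwi_4) (@D3.rec (fun _ => (HWord rels S)) hwi_0 hwi_4 hwi_1 hwi_0 hwi_2 hwi_4 hwi_1 hwi_4 hwi_0 hwi_3 hwi_4 hwi_2 hwi_3 hwi_5 hwi_2 hwi_4 hwi_1 hwi_2 hwi_3 hwi_4 hwi_3 hwi_2 hwi_3 hwi_2 hwi_4 hwi_1 hwi_3 hwi_3 hwi_4 hwi_1 hwi_0 hwi_2 hwi_4 hwi_1 hwi_4 hwi_5 hwi_2 hwi_4 hwi_1 hwi_4 hwi_5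 hwi_1 hwi_4 hwi_0 hwi_4 hwi_5 hwi_0 hwi_7 hwi_5 hwi_4 hwi_5) (@D3.rec (fun _ => (HWord rels S)) hwi_2 hwi_4 hwi_4 hwi_2 hwi_4 hwi_1 hwi_4 hwi_0 hwi_3 hwi_2 hwi_3 hwi_5 hwi_1 hwi_3 hwi_2 hwi_3 hwi_3 hwi_2 hwi_4 hwi_1 hwi_4 hwi_0 hwi_2 hwi_4 hwi_2 hwi_1 hwi_4 hwi_2 hwi_2 hwi_4 hwi_1 hwi_4 hwi_1 hwi_0 hwi_4 hwi_1 hwi_0 hwi_2 hwi_4 hwi_2 hwi_3 hwi_5 hwi_1 hwi_4 hwi_4 hwi_2 hwi_4 hwi_3 hwi_3 hwi_3 hwi_2) (@D3.rec (fun _ => (HWord rels S)) hwi_4 hwi_2 hwi_3 hwi_1 hwi_3 hwi_5 hwi_1 hwi_4 hwi_0 hwi_3 hwi_5 hwi_6 hwi_0 hwi_2 hwi_4 hwi_1 hwi_2 hwi_4 hwi_2 hwi_4 hwi_1 hwi_4 hwi_2 hwi_1 hwi_4 hwi_0 hwi_4 hwi_2 hwi_4 hwi_2 hwi_4 hwi_1 hwi_4 hwi_1 hwi_4 hwi_5 hwi_0 hwi_4 hwi_5 hwi_2 hwi_4 hwi_1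 hwi_4 hwi_0 hwi_4 hwi_4 hwi_5 hwi_4 hwi_0 hwi_4 hwi_5) (@D3.rec (fun _ => (HWord rels S)) hwi_7 hwi_1 hwi_1 hwi_1 hwi_4 hwi_5 hwi_0 hwi_3 hwi_2 hwi_4 hwi_1 hwi_4 hwi_5 hwi_0 hwi_0 hwi_3 hwi_2 hwi_4 hwi_2 hwi_4 hwi_1 hwi_4 hwi_5 hwi_1 hwi_4 hwi_5 hwi_0 hwi_4 hwi_5 hwi_6 hwi_0 hwi_5 hwi_2 hwi_4 hwi_1 hwi_4 hwi_0 hwi_1 hwi_0 hwi_0 hwi_4 hwi_5 hwi_1 hwi_4 hwi_2 hwi_4 hwi_1 hwi_4 hwi_0 hwi_4 hwi_5) (@D3.rec (fun _ => (HWord rels S)) hwi_1 hwi_3 hwi_1 hwi_4 hwi_0 hwi_1 hwi_4 hwi_0 hwi_4 hwi_1 hwi_4 hwi_1 hwi_4 hwi_1 hwi_0 hwi_4 hwi_5 hwi_1 hwi_4 hwi_0 hwi_4 hwi_1 hwi_0 hwi_4 hwi_4 hwi_5 hwi_6 hwi_0 hwi_2 hwi_4 hwi_1 hwi_0 hwi_0 hwi_1 hwi_0 hwi_0 hwi_2 hwi_4 hwi_4 hwi_2 hwi_4 hwi_1 hwi_4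 hwi_0 hwi_2 hwi_4 hwi_1 hwi_2 hwi_4 hwi_1 hwi_1) (@D3.rec (fun _ => (HWord rels S)) hwi_4 hwi_4 hwi_1 hwi_0 hwi_2 hwi_4 hwi_1 hwi_1 hwi_4 hwi_0 hwi_1 hwi_4 hwi_0 hwi_0 hwi_4 hwi_1 hwi_4 hwi_0 hwi_0 hwi_1 hwi_1 hwi_4 hwi_0 hwi_1 hwi_0 hwi_1 hwi_1 hwi_0 hwi_1 hwi_0 hwi_2 hwi_4 hwi_2 hwi_4 hwi_1 hwi_4 hwi_3 hwi_2 hwi_4 hwi_1 hwi_4 hwi_0 hwi_4 hwi_2 hwi_4 hwi_4 hwi_1 hwi_4 hwi_0 hwi_4 hwi_1) (@D3.rec (fun _ => (HWord rels S)) hwi_0 hwi_1 hwi_2 hwi_4 hwi_2 hwi_4 hwi_1 hwi_1 hwi_4 hwi_0 hwi_3 hwi_2 hwi_4 hwi_2 hwi_4 hwi_1 hwi_4 hwi_1 hwi_0 hwi_2 hwi_3 hwi_1 hwi_4 hwi_5 hwi_0 hwi_4 hwi_4 hwi_0 hwi_1 hwi_4 hwi_4 hwi_1 hwi_4 hwi_0 hwi_4 hwi_3 hwi_5 hwi_5 hwi_4 hwi_4 hwi_0 hwi_4 hwi_4 hwi_4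 hwi_0 hwi_1 hwi_2 hwi_1 hwi_0 hwi_1 hwi_0) (@D3.rec (fun _ => (HWord rels S)) hwi_1 hwi_4 hwi_0 hwi_4 hwi_3 hwi_2 hwi_4 hwi_1 hwi_4 hwi_5 hwi_1 hwi_4 hwi_0 hwi_4 hwi_3 hwi_0 hwi_3 hwi_5 hwi_0 hwi_4 hwi_4 hwi_5 hwi_5 hwi_4 hwi_5 hwi_2 hwi_4 hwi_1 hwi_2 hwi_4 hwi_2 hwi_1 hwi_1 hwi_4 hwi_0 hwi_3 hwi_7 hwi_1 hwi_0 hwi_1 hwi_1 hwi_4 hwi_0 hwi_0 hwi_0 hwi_2 hwi_1 hwi_4 hwi_0 hwi_4 hwi_3) (@D3.rec (fun _ => (HWord rels S)) hwi_3 hwi_7 hwi_8 hwi_3 hwi_2 hwi_3 hwi_2 hwi_4 hwi_3 hwi_3 hwi_2 hwi_4 hwi_5 hwi_2 hwi_4 hwi_1 hwi_2 hwi_3 hwi_2 hwi_3 hwi_5 hwi_3 hwi_2 hwi_4 hwi_4 hwi_3 hwi_2 hwi_4 hwi_1 hwi_4 hwi_5 hwi_1 hwi_4 hwi_0 hwi_2 hwi_2 hwi_4 hwi_5 hwi_3 hwi_1 hwi_2 hwi_4 hwi_1 hwi_3 hwi_5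 hwi_7 hwi_2 hwi_4 hwi_1 hwi_5 hwi_4) (@D3.rec (fun _ => (HWord rels S)) hwi_3 hwi_2 hwi_4 hwi_1 hwi_4 hwi_3 hwi_2 hwi_4 hwi_2 hwi_4 hwi_1 hwi_4 hwi_5 hwi_1 hwi_4 hwi_5 hwi_0 hwi_4 hwi_5 hwi_6 hwi_0 hwi_4 hwi_3 hwi_4 hwi_5 hwi_2 hwi_4 hwi_7 hwi_5 hwi_3 hwi_7 hwi_7 hwi_8 hwi_4 hwi_5 hwi_2 hwi_1 hwi_3 hwi_3 hwi_2 hwi_2 hwi_4 hwi_1 hwi_2 hwi_4 hwi_1 hwi_4 hwi_1 hwi_4 hwi_0 hwi_2) (@D3.rec (fun _ => (HWord rels S)) hwi_4 hwi_1 hwi_1 hwi_2 hwi_4 hwi_1 hwi_4 hwi_1 hwi_4 hwi_0 hwi_2 hwi_4 hwi_1 hwi_0 hwi_0 hwi_4 hwi_2 hwi_4 hwi_1 hwi_4 hwi_0 hwi_4 hwi_3 hwi_4 hwi_3 hwi_7 hwi_2 hwi_3 hwi_8 hwi_3 hwi_2 hwi_4 hwi_1 hwi_3 hwi_4 hwi_2 hwi_4 hwi_4 hwi_5 hwi_2 hwi_4 hwi_2 hwi_4 hwi_1 hwi_4 hwi_5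 hwi_6 hwi_1 hwi_4 hwi_0 hwi_3) (@D3.rec (fun _ => (HWord rels S)) hwi_2 hwi_5 hwi_1 hwi_2 hwi_4 hwi_5 hwi_5 hwi_1 hwi_4 hwi_4 hwi_2 hwi_4 hwi_1 hwi_4 hwi_0 hwi_2 hwi_4 hwi_1 hwi_4 hwi_2 hwi_2 hwi_4 hwi_1 hwi_4 hwi_5 hwi_1 hwi_0 hwi_4 hwi_5 hwi_2 hwi_4 hwi_1 hwi_4 hwi_0 hwi_4 hwi_3 hwi_5 hwi_4 hwi_7 hwi_3 hwi_2 hwi_4 hwi_1 hwi_5 hwi_0 hwi_2 hwi_5 hwi_1 hwi_4 hwi_4 hwi_0) (@D3.rec (fun _ => (HWord rels S)) hwi_4 hwi_4 hwi_7 hwi_2 hwi_7 hwi_1 hwi_4 hwi_5 hwi_0 hwi_4 hwi_4 hwi_2 hwi_1 hwi_4 hwi_2 hwi_4 hwi_1 hwi_4 hwi_1 hwi_0 hwi_4 hwi_5 hwi_1 hwi_4 hwi_0 hwi_4 hwi_5 hwi_6 hwi_2 hwi_1 hwi_0 hwi_4 hwi_5 hwi_6 hwi_1 hwi_5 hwi_0 hwi_4 hwi_4 hwi_3 hwi_7 hwi_4 hwi_2 hwi_8 hwi_2 hwi_1 hwi_2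 hwi_2 hwi_4 hwi_2 hwi_4) (@D3.rec (fun _ => (HWord rels S)) hwi_1 hwi_2 hwi_1 hwi_1 hwi_4 hwi_1 hwi_4 hwi_0 hwi_3 hwi_3 hwi_2 hwi_4 hwi_5 hwi_2 hwi_4 hwi_1 hwi_1 hwi_2 hwi_4 hwi_2 hwi_4 hwi_1 hwi_4 hwi_5 hwi_2 hwi_4 hwi_1 hwi_4 hwi_0 hwi_3 hwi_1 hwi_0 hwi_1 hwi_4 hwi_1 hwi_4 hwi_0 hwi_4 hwi_5 hwi_1 hwi_4 hwi_0 hwi_4 hwi_3 hwi_1 hwi_1 hwi_3 hwi_2 hwi_2 hwi_4 hwi_1) (@D3.rec (fun _ => (HWord rels S)) hwi_4 hwi_0 hwi_2 hwi_3 hwi_3 hwi_2 hwi_4 hwi_5 hwi_2 hwi_4 hwi_1 hwi_2 hwi_4 hwi_2 hwi_4 hwi_2 hwi_4 hwi_2 hwi_1 hwi_4 hwi_5 hwi_1 hwi_4 hwi_0 hwi_3 hwi_1 hwi_1 hwi_2 hwi_1 hwi_4 hwi_1 hwi_4 hwi_5 hwi_3 hwi_1 hwi_4 hwi_5 hwi_0 hwi_4 hwi_5 hwi_0 hwi_4 hwi_3 hwi_3 hwi_7 hwi_8 hwi_3 hwi_3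 hwi_2 hwi_2 hwi_4) (@D3.rec (fun _ => (HWord rels S)) hwi_1 hwi_2 hwi_4 hwi_4 hwi_5 hwi_3 hwi_2 hwi_4 hwi_2 hwi_4 hwi_1 hwi_4 hwi_5 hwi_6 hwi_1 hwi_4 hwi_0 hwi_4 hwi_3 hwi_2 hwi_4 hwi_1 hwi_4 hwi_1 hwi_4 hwi_0 hwi_2 hwi_4 hwi_1 hwi_4 hwi_5 hwi_2 hwi_4 hwi_1 hwi_4 hwi_5 hwi_1 hwi_4 hwi_0 hwi_4 hwi_5 hwi_1 hwi_4 hwi_0 hwi_4 hwi_3 hwi_7 hwi_1 hwi_5 hwi_0 hwi_3) (@D3.rec (fun _ => (HWord rels S)) hwi_2 hwi_4 hwi_2 hwi_4 hwi_1 hwi_4 hwi_1 hwi_4 hwi_0 hwi_4 hwi_0 hwi_4 hwi_2 hwi_1 hwi_2 hwi_4 hwi_2 hwi_4 hwi_1 hwi_4 hwi_5 hwi_1 hwi_4 hwi_5 hwi_0 hwi_4 hwi_5 hwi_2 hwi_4 hwi_1 hwi_4 hwi_5 hwi_1 hwi_4 hwi_5 hwi_0 hwi_4 hwi_3 hwi_5 hwi_6 hwi_1 hwi_4 hwi_0 hwi_4 hwi_3 hwi_5 hwi_4 hwi_5 hwi_6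 hwi_5 hwi_0) (@D3.rec (fun _ => (HWord rels S)) hwi_4 hwi_4 hwi_3 hwi_7 hwi_7 hwi_8 hwi_8 hwi_7 hwi_8 hwi_3 hwi_5 hwi_5 hwi_1 hwi_1 hwi_4 hwi_0 hwi_1 hwi_0 hwi_0 hwi_4 hwi_2 hwi_4 hwi_1 hwi_1 hwi_4 hwi_5 hwi_1 hwi_4 hwi_0 hwi_2 hwi_4 hwi_1 hwi_1 hwi_4 hwi_0 hwi_0 hwi_4 hwi_1 hwi_1 hwi_4 hwi_0 hwi_0 hwi_0 hwi_4 hwi_0 hwi_0 hwi_0 hwi_1 hwi_4 hwi_0 hwi_4) (@D3.rec (fun _ => (HWord rels S)) hwi_4 hwi_3 hwi_7 hwi_8 hwi_1 hwi_0 hwi_1 hwi_1 hwi_4 hwi_0 hwi_1 hwi_4 hwi_0 hwi_4 hwi_2 hwi_4 hwi_1 hwi_2 hwi_4 hwi_1 hwi_4 hwi_5 hwi_6 hwi_1 hwi_4 hwi_0 hwi_2 hwi_4 hwi_1 hwi_2 hwi_4 hwi_1 hwi_4 hwi_0 hwi_0 hwi_4 hwi_3 hwi_6 hwi_6 hwi_5 hwi_7 hwi_2 hwi_4 hwi_1 hwi_1 hwi_4 hwi_0 hwi_2 hwi_5 hwi_1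 hwi_2) (@D3.rec (fun _ => (HWord rels S)) hwi_6 hwi_1 hwi_5 hwi_0 hwi_1 hwi_7 hwi_6 hwi_0 hwi_5 hwi_5 hwi_2 hwi_1 hwi_0 hwi_2 hwi_4 hwi_1 hwi_4 hwi_1 hwi_0 hwi_0 hwi_4 hwi_3 hwi_4 hwi_3 hwi_7 hwi_6 hwi_5 hwi_6 hwi_7 hwi_8 hwi_1 hwi_2 hwi_2 hwi_4 hwi_1 hwi_2 hwi_4 hwi_1 hwi_4 hwi_0 hwi_2 hwi_4 hwi_4 hwi_5 hwi_2 hwi_2 hwi_4 hwi_1 hwi_4 hwi_5 hwi_3) (@D3.rec (fun _ => (HWord rels S)) hwi_5 hwi_6 hwi_2 hwi_4 hwi_2 hwi_1 hwi_2 hwi_4 hwi_1 hwi_4 hwi_5 hwi_0 hwi_4 hwi_5 hwi_6 hwi_1 hwi_4 hwi_0 hwi_4 hwi_3 hwi_1 hwi_2 hwi_4 hwi_1 hwi_4 hwi_0 hwi_1 hwi_2 hwi_1 hwi_0 hwi_2 hwi_6 hwi_1 hwi_4 hwi_6 hwi_0 hwi_5 hwi_5 hwi_1 hwi_0 hwi_2 hwi_1 hwi_1 hwi_0 hwi_1 hwi_0 hwi_4 hwi_1 hwi_5 hwi_0 hwi_4)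 (@D3.rec (fun _ => (HWord rels S)) hwi_3 hwi_4 hwi_3 hwi_7 hwi_6 hwi_6 hwi_6 hwi_5 hwi_5 hwi_5 hwi_7 hwi_2 hwi_7 hwi_8 hwi_1 hwi_1 hwi_2 hwi_4 hwi_1 hwi_4 hwi_4 hwi_0 hwi_1 hwi_2 hwi_1 hwi_7 hwi_0 hwi_5 hwi_5 hwi_1 hwi_1 hwi_4 hwi_0 hwi_2 hwi_4 hwi_2 hwi_1 hwi_5 hwi_1 hwi_0 hwi_2 hwi_4 hwi_1 hwi_6 hwi_8 hwi_0 hwi_5 hwi_5 hwi_0 hwi_1 hwi_6) (@D3.rec (fun _ => (HWord rels S)) hwi_0 hwi_4 hwi_6 hwi_5 hwi_4 hwi_5 hwi_5 hwi_0 hwi_2 hwi_1 hwi_4 hwi_0 hwi_1 hwi_0 hwi_4 hwi_4 hwi_2 hwi_4 hwi_2 hwi_4 hwi_1 hwi_4 hwi_5 hwi_1 hwi_4 hwi_0 hwi_4 hwi_3 hwi_5 hwi_0 hwi_4 hwi_3 hwi_4 hwi_3 hwi_5 hwi_5 hwi_1 hwi_4 hwi_3 hwi_0 hwi_4 hwi_5 hwi_4 hwi_3 hwi_5 hwi_7 hwi_5 hwi_5 hwi_5 hwi_5 hwi_4)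
def ow_20 : D2 → D3 → (HWord rels S) := @D2.rec (fun _ => D3 → (HWord rels S)) (@D3.rec (fun _ => (HWord rels S)) hwi_3 hwi_7 hwi_3 hwi_2 hwi_7 hwi_8 hwi_5 hwi_6 hwi_8 hwi_5 hwi_6 hwi_4 hwi_6 hwi_6 hwi_5 hwi_5 hwi_5 hwi_5 hwi_8 hwi_8 hwi_2 hwi_7 hwi_7 hwi_1 hwi_3 hwi_6 hwi_5 hwi_7 hwi_3 hwi_4 hwi_0 hwi_0 hwi_0 hwi_4 hwi_0 hwi_1 hwi_4 hwi_0 hwi_1 hwi_4 hwi_0 hwi_1 hwi_4 hwi_0 hwi_4 hwi_0 hwi_1 hwi_4 hwi_0 hwi_0 hwi_1) (@D3.rec (fun _ => (HWord rels S)) hwi_0 hwi_4 hwi_4 hwi_0 hwi_1 hwi_4 hwi_0 hwi_4 hwi_2 hwi_3 hwi_1 hwi_3 hwi_5 hwi_1 hwi_4 hwi_0 hwi_1 hwi_2 hwi_3 hwi_2 hwi_4 hwi_1 hwi_3 hwi_7 hwi_1 hwi_4 hwi_0 hwi_3 hwi_3 hwi_3 hwi_0 hwi_1 hwi_4 hwi_5 hwi_0 hwi_4 hwi_5 hwi_1 hwi_4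 hwi_0 hwi_4 hwi_5 hwi_0 hwi_4 hwi_4 hwi_5 hwi_5 hwi_3 hwi_1 hwi_4 hwi_3) (@D3.rec (fun _ => (HWord rels S)) hwi_1 hwi_4 hwi_0 hwi_4 hwi_2 hwi_7 hwi_1 hwi_3 hwi_5 hwi_0 hwi_2 hwi_7 hwi_1 hwi_3 hwi_2 hwi_4 hwi_1 hwi_4 hwi_0 hwi_4 hwi_1 hwi_4 hwi_1 hwi_0 hwi_4 hwi_1 hwi_1 hwi_4 hwi_0 hwi_4 hwi_3 hwi_0 hwi_4 hwi_0 hwi_1 hwi_4 hwi_4 hwi_2 hwi_3 hwi_5 hwi_0 hwi_4 hwi_3 hwi_1 hwi_4 hwi_3 hwi_3 hwi_2 hwi_4 hwi_1 hwi_4) (@D3.rec (fun _ => (HWord rels S)) hwi_1 hwi_3 hwi_5 hwi_0 hwi_3 hwi_5 hwi_3 hwi_0 hwi_4 hwi_3 hwi_5 hwi_6 hwi_1 hwi_4 hwi_0 hwi_1 hwi_4 hwi_1 hwi_4 hwi_0 hwi_4 hwi_1 hwi_0 hwi_4 hwi_4 hwi_1 hwi_4 hwi_1 hwi_4 hwi_0 hwi_4 hwi_3 hwi_0 hwi_4 hwi_5 hwi_4 hwi_5 hwi_1 hwi_4 hwi_0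 hwi_4 hwi_4 hwi_5 hwi_4 hwi_8 hwi_0 hwi_0 hwi_0 hwi_4 hwi_5 hwi_2) (@D3.rec (fun _ => (HWord rels S)) hwi_4 hwi_1 hwi_4 hwi_5 hwi_0 hwi_4 hwi_5 hwi_2 hwi_4 hwi_1 hwi_4 hwi_5 hwi_1 hwi_4 hwi_5 hwi_0 hwi_4 hwi_5 hwi_0 hwi_4 hwi_5 hwi_4 hwi_5 hwi_6 hwi_1 hwi_4 hwi_0 hwi_4 hwi_0 hwi_4 hwi_5 hwi_0 hwi_4 hwi_1 hwi_4 hwi_0 hwi_4 hwi_3 hwi_4 hwi_5 hwi_0 hwi_3 hwi_0 hwi_4 hwi_0 hwi_4 hwi_4 hwi_0 hwi_4 hwi_0 hwi_4) (@D3.rec (fun _ => (HWord rels S)) hwi_0 hwi_4 hwi_5 hwi_0 hwi_4 hwi_4 hwi_0 hwi_4 hwi_5 hwi_6 hwi_1 hwi_4 hwi_0 hwi_0 hwi_1 hwi_4 hwi_4 hwi_1 hwi_4 hwi_0 hwi_4 hwi_3 hwi_1 hwi_4 hwi_0 hwi_1 hwi_4 hwi_0 hwi_0 hwi_4 hwi_0 hwi_1 hwi_4 hwi_0 hwi_0 hwi_4 hwi_0 hwi_4 hwi_3 hwi_4 hwi_0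 hwi_4 hwi_0 hwi_0 hwi_4 hwi_3 hwi_0 hwi_0 hwi_0 hwi_0 hwi_1) (@D3.rec (fun _ => (HWord rels S)) hwi_4 hwi_1 hwi_4 hwi_0 hwi_4 hwi_3 hwi_1 hwi_4 hwi_0 hwi_4 hwi_4 hwi_1 hwi_4 hwi_4 hwi_0 hwi_4 hwi_3 hwi_4 hwi_0 hwi_0 hwi_1 hwi_4 hwi_1 hwi_4 hwi_0 hwi_0 hwi_4 hwi_3 hwi_2 hwi_4 hwi_1 hwi_4 hwi_5 hwi_1 hwi_4 hwi_0 hwi_4 hwi_3 hwi_0 hwi_1 hwi_3 hwi_0 hwi_4 hwi_4 hwi_4 hwi_0 hwi_4 hwi_3 hwi_0 hwi_4 hwi_3) (@D3.rec (fun _ => (HWord rels S)) hwi_4 hwi_3 hwi_3 hwi_5 hwi_5 hwi_5 hwi_4 hwi_4 hwi_4 hwi_0 hwi_1 hwi_0 hwi_0 hwi_0 hwi_4 hwi_4 hwi_3 hwi_7 hwi_1 hwi_4 hwi_5 hwi_0 hwi_4 hwi_0 hwi_4 hwi_4 hwi_3 hwi_3 hwi_4 hwi_5 hwi_1 hwi_4 hwi_0 hwi_1 hwi_4 hwi_1 hwi_0 hwi_0 hwi_4 hwi_3 hwi_7 hwi_8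 hwi_0 hwi_0 hwi_0 hwi_4 hwi_1 hwi_0 hwi_4 hwi_4 hwi_3) (@D3.rec (fun _ => (HWord rels S)) hwi_7 hwi_2 hwi_8 hwi_2 hwi_4 hwi_1 hwi_2 hwi_4 hwi_4 hwi_5 hwi_2 hwi_4 hwi_2 hwi_4 hwi_1 hwi_4 hwi_5 hwi_6 hwi_1 hwi_4 hwi_0 hwi_1 hwi_2 hwi_4 hwi_1 hwi_3 hwi_5 hwi_4 hwi_2 hwi_4 hwi_1 hwi_4 hwi_4 hwi_2 hwi_4 hwi_1 hwi_4 hwi_5 hwi_0 hwi_4 hwi_5 hwi_0 hwi_4 hwi_3 hwi_4 hwi_5 hwi_5 hwi_7 hwi_0 hwi_1 hwi_4) (@D3.rec (fun _ => (HWord rels S)) hwi_5 hwi_0 hwi_3 hwi_3 hwi_3 hwi_1 hwi_4 hwi_7 hwi_0 hwi_5 hwi_5 hwi_2 hwi_4 hwi_1 hwi_4 hwi_0 hwi_4 hwi_2 hwi_4 hwi_1 hwi_4 hwi_5 hwi_1 hwi_4 hwi_5 hwi_0 hwi_4 hwi_5 hwi_6 hwi_0 hwi_4 hwi_3 hwi_5 hwi_4 hwi_5 hwi_6 hwi_4 hwi_3 hwi_7 hwi_5 hwi_4 hwi_3 hwi_7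 hwi_8 hwi_8 hwi_1 hwi_0 hwi_2 hwi_2 hwi_4 hwi_1) (@D3.rec (fun _ => (HWord rels S)) hwi_1 hwi_4 hwi_0 hwi_1 hwi_4 hwi_0 hwi_4 hwi_0 hwi_4 hwi_1 hwi_4 hwi_0 hwi_0 hwi_1 hwi_4 hwi_0 hwi_4 hwi_0 hwi_4 hwi_1 hwi_4 hwi_0 hwi_4 hwi_1 hwi_4 hwi_0 hwi_4 hwi_4 hwi_2 hwi_4 hwi_5 hwi_2 hwi_4 hwi_7 hwi_7 hwi_1 hwi_3 hwi_8 hwi_5 hwi_2 hwi_4 hwi_1 hwi_4 hwi_0 hwi_2 hwi_4 hwi_1 hwi_4 hwi_5 hwi_3 hwi_1) (@D3.rec (fun _ => (HWord rels S)) hwi_4 hwi_5 hwi_1 hwi_4 hwi_5 hwi_0 hwi_4 hwi_5 hwi_6 hwi_0 hwi_4 hwi_3 hwi_2 hwi_4 hwi_1 hwi_5 hwi_0 hwi_1 hwi_4 hwi_5 hwi_5 hwi_0 hwi_4 hwi_4 hwi_1 hwi_4 hwi_5 hwi_0 hwi_4 hwi_4 hwi_1 hwi_4 hwi_0 hwi_4 hwi_1 hwi_1 hwi_4 hwi_0 hwi_4 hwi_3 hwi_5 hwi_0 hwi_4 hwi_5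 hwi_1 hwi_4 hwi_0 hwi_4 hwi_4 hwi_3 hwi_7) (@D3.rec (fun _ => (HWord rels S)) hwi_4 hwi_8 hwi_2 hwi_4 hwi_1 hwi_4 hwi_5 hwi_0 hwi_5 hwi_5 hwi_1 hwi_5 hwi_0 hwi_4 hwi_4 hwi_4 hwi_4 hwi_7 hwi_1 hwi_7 hwi_0 hwi_4 hwi_5 hwi_4 hwi_4 hwi_1 hwi_0 hwi_4 hwi_1 hwi_4 hwi_0 hwi_4 hwi_0 hwi_4 hwi_5 hwi_0 hwi_4 hwi_4 hwi_5 hwi_6 hwi_1 hwi_0 hwi_5 hwi_6 hwi_0 hwi_5 hwi_4 hwi_3 hwi_2 hwi_7 hwi_8) (@D3.rec (fun _ => (HWord rels S)) hwi_4 hwi_1 hwi_0 hwi_1 hwi_1 hwi_4 hwi_1 hwi_4 hwi_0 hwi_1 hwi_0 hwi_0 hwi_4 hwi_0 hwi_4 hwi_2 hwi_4 hwi_2 hwi_4 hwi_1 hwi_4 hwi_5 hwi_1 hwi_4 hwi_0 hwi_0 hwi_1 hwi_4 hwi_1 hwi_4 hwi_5 hwi_0 hwi_4 hwi_5 hwi_1 hwi_4 hwi_0 hwi_4 hwi_3 hwi_0 hwi_0 hwi_4 hwi_0 hwi_4 hwi_4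 hwi_5 hwi_0 hwi_4 hwi_4 hwi_3 hwi_0) (@D3.rec (fun _ => (HWord rels S)) hwi_0 hwi_2 hwi_1 hwi_1 hwi_4 hwi_0 hwi_4 hwi_1 hwi_2 hwi_4 hwi_2 hwi_4 hwi_1 hwi_4 hwi_5 hwi_6 hwi_1 hwi_4 hwi_0 hwi_1 hwi_4 hwi_1 hwi_4 hwi_1 hwi_4 hwi_5 hwi_1 hwi_0 hwi_4 hwi_5 hwi_0 hwi_4 hwi_3 hwi_7 hwi_0 hwi_0 hwi_1 hwi_0 hwi_0 hwi_4 hwi_3 hwi_5 hwi_0 hwi_4 hwi_3 hwi_5 hwi_4 hwi_5 hwi_4 hwi_3 hwi_7) (@D3.rec (fun _ => (HWord rels S)) hwi_7 hwi_8 hwi_2 hwi_2 hwi_6 hwi_1 hwi_1 hwi_4 hwi_0 hwi_1 hwi_4 hwi_5 hwi_3 hwi_5 hwi_6 hwi_2 hwi_1 hwi_4 hwi_5 hwi_1 hwi_4 hwi_5 hwi_0 hwi_4 hwi_5 hwi_6 hwi_8 hwi_0 hwi_4 hwi_3 hwi_4 hwi_2 hwi_4 hwi_1 hwi_4 hwi_0 hwi_4 hwi_0 hwi_4 hwi_1 hwi_4 hwi_5 hwi_0 hwi_4 hwi_5 hwi_1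 hwi_4 hwi_5 hwi_0 hwi_4 hwi_3) (@D3.rec (fun _ => (HWord rels S)) hwi_5 hwi_0 hwi_4 hwi_4 hwi_5 hwi_0 hwi_4 hwi_4 hwi_3 hwi_7 hwi_8 hwi_0 hwi_5 hwi_2 hwi_4 hwi_1 hwi_4 hwi_1 hwi_4 hwi_0 hwi_4 hwi_0 hwi_4 hwi_4 hwi_4 hwi_1 hwi_0 hwi_1 hwi_4 hwi_5 hwi_1 hwi_4 hwi_5 hwi_0 hwi_4 hwi_5 hwi_0 hwi_4 hwi_5 hwi_4 hwi_5 hwi_1 hwi_4 hwi_5 hwi_0 hwi_4 hwi_3 hwi_5 hwi_0 hwi_4 hwi_3) (@D3.rec (fun _ => (HWord rels S)) hwi_5 hwi_6 hwi_4 hwi_3 hwi_5 hwi_5 hwi_6 hwi_0 hwi_4 hwi_4 hwi_3 hwi_5 hwi_7 hwi_5 hwi_6 hwi_5 hwi_4 hwi_3 hwi_7 hwi_8 hwi_8 hwi_3 hwi_5 hwi_4 hwi_0 hwi_0 hwi_4 hwi_0 hwi_4 hwi_1 hwi_4 hwi_0 hwi_0 hwi_4 hwi_5 hwi_0 hwi_4 hwi_3 hwi_1 hwi_4 hwi_0 hwi_0 hwi_4 hwi_4 hwi_0 hwi_0 hwi_4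 hwi_3 hwi_4 hwi_0 hwi_4) (@D3.rec (fun _ => (HWord rels S)) hwi_4 hwi_3 hwi_7 hwi_8 hwi_0 hwi_0 hwi_0 hwi_4 hwi_0 hwi_4 hwi_3 hwi_4 hwi_1 hwi_4 hwi_0 hwi_1 hwi_4 hwi_5 hwi_0 hwi_4 hwi_5 hwi_6 hwi_0 hwi_4 hwi_3 hwi_1 hwi_4 hwi_0 hwi_1 hwi_4 hwi_6 hwi_0 hwi_4 hwi_5 hwi_4 hwi_3 hwi_7 hwi_6 hwi_5 hwi_1 hwi_4 hwi_0 hwi_0 hwi_4 hwi_3 hwi_1 hwi_5 hwi_0 hwi_1 hwi_6 hwi_0) (@D3.rec (fun _ => (HWord rels S)) hwi_5 hwi_5 hwi_0 hwi_7 hwi_6 hwi_6 hwi_5 hwi_5 hwi_1 hwi_0 hwi_1 hwi_4 hwi_0 hwi_4 hwi_3 hwi_0 hwi_4 hwi_3 hwi_7 hwi_3 hwi_7 hwi_8 hwi_6 hwi_0 hwi_1 hwi_1 hwi_4 hwi_0 hwi_1 hwi_4 hwi_0 hwi_4 hwi_3 hwi_1 hwi_4 hwi_5 hwi_3 hwi_5 hwi_6 hwi_1 hwi_1 hwi_4 hwi_5 hwi_0 hwi_4 hwi_3 hwi_5 hwi_6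 hwi_5 hwi_1 hwi_4) (@D3.rec (fun _ => (HWord rels S)) hwi_1 hwi_0 hwi_1 hwi_4 hwi_5 hwi_0 hwi_4 hwi_3 hwi_5 hwi_6 hwi_4 hwi_5 hwi_6 hwi_0 hwi_4 hwi_3 hwi_4 hwi_3 hwi_7 hwi_0 hwi_1 hwi_4 hwi_0 hwi_4 hwi_3 hwi_0 hwi_1 hwi_0 hwi_1 hwi_6 hwi_0 hwi_4 hwi_6 hwi_6 hwi_5 hwi_5 hwi_5 hwi_0 hwi_1 hwi_0 hwi_0 hwi_0 hwi_4 hwi_0 hwi_5 hwi_5 hwi_4 hwi_3 hwi_7 hwi_3 hwi_2) (@D3.rec (fun _ => (HWord rels S)) hwi_7 hwi_8 hwi_6 hwi_6 hwi_6 hwi_5 hwi_5 hwi_7 hwi_8 hwi_7 hwi_8 hwi_0 hwi_0 hwi_1 hwi_4 hwi_0 hwi_4 hwi_3 hwi_4 hwi_0 hwi_1 hwi_0 hwi_7 hwi_7 hwi_5 hwi_5 hwi_3 hwi_0 hwi_0 hwi_4 hwi_1 hwi_4 hwi_1 hwi_0 hwi_5 hwi_5 hwi_0 hwi_1 hwi_4 hwi_5 hwi_0 hwi_6 hwi_6 hwi_8 hwi_5 hwi_5 hwi_5 hwi_0 hwi_6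 hwi_6 hwi_4) (@D3.rec (fun _ => (HWord rels S)) hwi_6 hwi_5 hwi_6 hwi_5 hwi_5 hwi_5 hwi_5 hwi_1 hwi_0 hwi_4 hwi_3 hwi_0 hwi_4 hwi_1 hwi_4 hwi_4 hwi_1 hwi_4 hwi_5 hwi_0 hwi_4 hwi_3 hwi_5 hwi_0 hwi_4 hwi_3 hwi_4 hwi_3 hwi_5 hwi_5 hwi_7 hwi_4 hwi_3 hwi_3 hwi_5 hwi_5 hwi_4 hwi_0 hwi_4 hwi_3 hwi_4 hwi_5 hwi_3 hwi_5 hwi_7 hwi_8 hwi_5 hwi_5 hwi_3 hwi_7 hwi_8) (@D3.rec (fun _ => (HWord rels S)) hwi_2 hwi_7 hwi_7 hwi_8 hwi_8 hwi_6 hwi_5 hwi_3 hwi_3 hwi_6 hwi_5 hwi_5 hwi_5 hwi_1 hwi_7 hwi_3 hwi_3 hwi_4 hwi_0 hwi_4 hwi_0 hwi_4 hwi_3 hwi_0 hwi_4 hwi_4 hwi_0 hwi_4 hwi_0 hwi_4 hwi_0 hwi_4 hwi_3 hwi_4 hwi_1 hwi_2 hwi_0 hwi_3 hwi_5 hwi_0 hwi_4 hwi_3 hwi_0 hwi_2 hwi_3 hwi_1 hwi_4 hwi_0 hwi_3 hwi_7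 hwi_5) (@D3.rec (fun _ => (HWord rels S)) hwi_0 hwi_4 hwi_3 hwi_3 hwi_3 hwi_0 hwi_4 hwi_3 hwi_5 hwi_4 hwi_5 hwi_0 hwi_4 hwi_3 hwi_4 hwi_5 hwi_4 hwi_5 hwi_0 hwi_4 hwi_3 hwi_0 hwi_4 hwi_3 hwi_4 hwi_1 hwi_7 hwi_7 hwi_0 hwi_3 hwi_5 hwi_1 hwi_7 hwi_0 hwi_3 hwi_1 hwi_4 hwi_0 hwi_4 hwi_3 hwi_4 hwi_0 hwi_4 hwi_3 hwi_0 hwi_4 hwi_0 hwi_0 hwi_4 hwi_3 hwi_4) (@D3.rec (fun _ => (HWord rels S)) hwi_3 hwi_0 hwi_4 hwi_3 hwi_4 hwi_3 hwi_5 hwi_4 hwi_3 hwi_7 hwi_0 hwi_4 hwi_3 hwi_1 hwi_4 hwi_0 hwi_4 hwi_3 hwi_0 hwi_3 hwi_5 hwi_8 hwi_3 hwi_5 hwi_6 hwi_4 hwi_5 hwi_6 hwi_0 hwi_4 hwi_0 hwi_4 hwi_3 hwi_0 hwi_4 hwi_4 hwi_0 hwi_4 hwi_0 hwi_4 hwi_3 hwi_0 hwi_4 hwi_3 hwi_4 hwi_3 hwi_4 hwi_5 hwi_5 hwi_0 hwi_4)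 (@D3.rec (fun _ => (HWord rels S)) hwi_4 hwi_4 hwi_5 hwi_1 hwi_4 hwi_5 hwi_0 hwi_4 hwi_3 hwi_5 hwi_4 hwi_5 hwi_1 hwi_4 hwi_5 hwi_0 hwi_4 hwi_3 hwi_5 hwi_0 hwi_4 hwi_5 hwi_4 hwi_5 hwi_4 hwi_5 hwi_5 hwi_6 hwi_0 hwi_4 hwi_3 hwi_4 hwi_5 hwi_4 hwi_0 hwi_4 hwi_3 hwi_4 hwi_3 hwi_5 hwi_3 hwi_4 hwi_4 hwi_4 hwi_4 hwi_5 hwi_4 hwi_6 hwi_0 hwi_4 hwi_0)
def ow_21 : D2 → D3 → (HWord rels S) := @D2.rec (fun _ => D3 → (HWord rels S)) (@D3.rec (fun _ => (HWord rels S)) hwi_4 hwi_3 hwi_0 hwi_4 hwi_3 hwi_4 hwi_3 hwi_0 hwi_4 hwi_0 hwi_4 hwi_3 hwi_4 hwi_0 hwi_4 hwi_3 hwi_4 hwi_4 hwi_3 hwi_4 hwi_4 hwi_3 hwi_0 hwi_4 hwi_0 hwi_4 hwi_4 hwi_3 hwi_0 hwi_4 hwi_4 hwi_0 hwi_4 hwi_3 hwi_4 hwi_3 hwi_0 hwi_4 hwi_0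 hwi_4 hwi_3 hwi_4 hwi_3 hwi_7 hwi_1 hwi_4 hwi_5 hwi_0 hwi_4 hwi_3 hwi_0) (@D3.rec (fun _ => (HWord rels S)) hwi_4 hwi_3 hwi_4 hwi_3 hwi_0 hwi_3 hwi_4 hwi_4 hwi_3 hwi_4 hwi_3 hwi_3 hwi_2 hwi_3 hwi_5 hwi_5 hwi_4 hwi_4 hwi_0 hwi_4 hwi_3 hwi_7 hwi_8 hwi_0 hwi_4 hwi_4 hwi_4 hwi_3 hwi_0 hwi_4 hwi_0 hwi_0 hwi_4 hwi_3 hwi_7 hwi_8 hwi_4 hwi_0 hwi_4 hwi_3 hwi_2 hwi_7 hwi_8 hwi_1 hwi_4 hwi_0 hwi_1 hwi_4 hwi_5 hwi_3 hwi_5) (@D3.rec (fun _ => (HWord rels S)) hwi_6 hwi_1 hwi_4 hwi_5 hwi_1 hwi_4 hwi_5 hwi_0 hwi_4 hwi_5 hwi_6 hwi_0 hwi_4 hwi_3 hwi_0 hwi_1 hwi_4 hwi_5 hwi_0 hwi_3 hwi_3 hwi_3 hwi_1 hwi_4 hwi_5 hwi_0 hwi_4 hwi_5 hwi_1 hwi_4 hwi_5 hwi_0 hwi_4 hwi_3 hwi_5 hwi_4 hwi_5 hwi_4 hwi_3 hwi_7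 hwi_3 hwi_5 hwi_8 hwi_0 hwi_4 hwi_5 hwi_3 hwi_4 hwi_3 hwi_3 hwi_3) (@D3.rec (fun _ => (HWord rels S)) hwi_0 hwi_4 hwi_3 hwi_7 hwi_5 hwi_5 hwi_1 hwi_4 hwi_0 hwi_4 hwi_4 hwi_1 hwi_4 hwi_5 hwi_0 hwi_4 hwi_3 hwi_5 hwi_0 hwi_4 hwi_5 hwi_6 hwi_4 hwi_5 hwi_6 hwi_4 hwi_3 hwi_5 hwi_7 hwi_5 hwi_6 hwi_3 hwi_7 hwi_8 hwi_8 hwi_0 hwi_1 hwi_1 hwi_4 hwi_0 hwi_0 hwi_4 hwi_0 hwi_4 hwi_3 hwi_4 hwi_4 hwi_0 hwi_4 hwi_3 hwi_0) (@D3.rec (fun _ => (HWord rels S)) hwi_4 hwi_3 hwi_4 hwi_4 hwi_0 hwi_4 hwi_3 hwi_0 hwi_4 hwi_4 hwi_1 hwi_4 hwi_5 hwi_1 hwi_4 hwi_4 hwi_7 hwi_7 hwi_7 hwi_0 hwi_3 hwi_8 hwi_5 hwi_1 hwi_4 hwi_5 hwi_0 hwi_4 hwi_3 hwi_1 hwi_4 hwi_0 hwi_4 hwi_3 hwi_5 hwi_7 hwi_0 hwi_4 hwi_3 hwi_5 hwi_0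 hwi_4 hwi_3 hwi_5 hwi_4 hwi_5 hwi_6 hwi_4 hwi_3 hwi_7 hwi_1) (@D3.rec (fun _ => (HWord rels S)) hwi_4 hwi_5 hwi_0 hwi_5 hwi_5 hwi_0 hwi_4 hwi_5 hwi_5 hwi_5 hwi_4 hwi_4 hwi_0 hwi_4 hwi_5 hwi_4 hwi_4 hwi_4 hwi_0 hwi_4 hwi_3 hwi_4 hwi_0 hwi_0 hwi_4 hwi_3 hwi_4 hwi_3 hwi_5 hwi_5 hwi_5 hwi_0 hwi_4 hwi_4 hwi_3 hwi_7 hwi_8 hwi_1 hwi_4 hwi_0 hwi_4 hwi_3 hwi_5 hwi_5 hwi_5 hwi_5 hwi_0 hwi_5 hwi_4 hwi_4 hwi_4) (@D3.rec (fun _ => (HWord rels S)) hwi_7 hwi_0 hwi_7 hwi_4 hwi_5 hwi_4 hwi_4 hwi_0 hwi_4 hwi_0 hwi_4 hwi_4 hwi_5 hwi_4 hwi_5 hwi_6 hwi_0 hwi_6 hwi_5 hwi_2 hwi_7 hwi_8 hwi_0 hwi_0 hwi_0 hwi_4 hwi_0 hwi_4 hwi_0 hwi_4 hwi_4 hwi_1 hwi_4 hwi_5 hwi_1 hwi_4 hwi_5 hwi_0 hwi_4 hwi_5 hwi_0 hwi_4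 hwi_3 hwi_0 hwi_4 hwi_0 hwi_4 hwi_3 hwi_5 hwi_4 hwi_5) (@D3.rec (fun _ => (HWord rels S)) hwi_0 hwi_4 hwi_4 hwi_3 hwi_4 hwi_4 hwi_5 hwi_4 hwi_3 hwi_1 hwi_0 hwi_0 hwi_4 hwi_4 hwi_0 hwi_1 hwi_4 hwi_5 hwi_1 hwi_4 hwi_5 hwi_0 hwi_4 hwi_5 hwi_6 hwi_0 hwi_4 hwi_3 hwi_0 hwi_0 hwi_4 hwi_0 hwi_4 hwi_3 hwi_5 hwi_0 hwi_4 hwi_5 hwi_4 hwi_3 hwi_7 hwi_8 hwi_0 hwi_4 hwi_3 hwi_5 hwi_4 hwi_3 hwi_5 hwi_7 hwi_5) (@D3.rec (fun _ => (HWord rels S)) hwi_3 hwi_7 hwi_8 hwi_8 hwi_1 hwi_1 hwi_6 hwi_0 hwi_0 hwi_4 hwi_3 hwi_0 hwi_4 hwi_3 hwi_5 hwi_6 hwi_5 hwi_7 hwi_1 hwi_0 hwi_4 hwi_3 hwi_5 hwi_6 hwi_0 hwi_4 hwi_3 hwi_5 hwi_6 hwi_4 hwi_5 hwi_6 hwi_8 hwi_4 hwi_3 hwi_7 hwi_1 hwi_4 hwi_0 hwi_4 hwi_3 hwi_4 hwi_4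 hwi_0 hwi_4 hwi_3 hwi_5 hwi_4 hwi_5 hwi_0 hwi_4) (@D3.rec (fun _ => (HWord rels S)) hwi_3 hwi_5 hwi_4 hwi_3 hwi_5 hwi_5 hwi_4 hwi_5 hwi_4 hwi_3 hwi_7 hwi_8 hwi_5 hwi_1 hwi_4 hwi_0 hwi_4 hwi_3 hwi_0 hwi_4 hwi_4 hwi_4 hwi_0 hwi_0 hwi_4 hwi_3 hwi_5 hwi_0 hwi_4 hwi_5 hwi_4 hwi_5 hwi_4 hwi_5 hwi_5 hwi_0 hwi_4 hwi_3 hwi_5 hwi_4 hwi_3 hwi_5 hwi_5 hwi_7 hwi_4 hwi_3 hwi_5 hwi_5 hwi_6 hwi_3 hwi_5) (@D3.rec (fun _ => (HWord rels S)) hwi_5 hwi_6 hwi_4 hwi_6 hwi_4 hwi_3 hwi_5 hwi_7 hwi_8 hwi_6 hwi_7 hwi_8 hwi_4 hwi_4 hwi_0 hwi_4 hwi_3 hwi_4 hwi_5 hwi_4 hwi_3 hwi_0 hwi_4 hwi_3 hwi_4 hwi_4 hwi_3 hwi_4 hwi_7 hwi_8 hwi_4 hwi_4 hwi_3 hwi_0 hwi_4 hwi_3 hwi_0 hwi_4 hwi_3 hwi_5 hwi_6 hwi_4 hwi_5 hwi_6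 hwi_4 hwi_3 hwi_7 hwi_0 hwi_4 hwi_3 hwi_0) (@D3.rec (fun _ => (HWord rels S)) hwi_4 hwi_6 hwi_6 hwi_4 hwi_5 hwi_5 hwi_3 hwi_7 hwi_4 hwi_0 hwi_4 hwi_3 hwi_4 hwi_3 hwi_0 hwi_5 hwi_5 hwi_0 hwi_6 hwi_6 hwi_5 hwi_5 hwi_7 hwi_6 hwi_6 hwi_5 hwi_0 hwi_0 hwi_4 hwi_3 hwi_4 hwi_3 hwi_7 hwi_3 hwi_7 hwi_7 hwi_8 hwi_0 hwi_0 hwi_4 hwi_3 hwi_0 hwi_4 hwi_3 hwi_4 hwi_3 hwi_5 hwi_0 hwi_4 hwi_3 hwi_5) (@D3.rec (fun _ => (HWord rels S)) hwi_6 hwi_5 hwi_0 hwi_0 hwi_4 hwi_3 hwi_5 hwi_4 hwi_3 hwi_5 hwi_5 hwi_7 hwi_4 hwi_0 hwi_4 hwi_0 hwi_0 hwi_4 hwi_3 hwi_5 hwi_6 hwi_4 hwi_3 hwi_5 hwi_5 hwi_7 hwi_6 hwi_5 hwi_6 hwi_4 hwi_3 hwi_7 hwi_3 hwi_2 hwi_7 hwi_8 hwi_0 hwi_4 hwi_3 hwi_4 hwi_3 hwi_3 hwi_0 hwi_0 hwi_6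 hwi_6 hwi_4 hwi_6 hwi_6 hwi_6 hwi_5) (@D3.rec (fun _ => (HWord rels S)) hwi_5 hwi_5 hwi_5 hwi_0 hwi_5 hwi_5 hwi_7 hwi_3 hwi_7 hwi_8 hwi_2 hwi_7 hwi_7 hwi_8 hwi_6 hwi_6 hwi_3 hwi_8 hwi_0 hwi_4 hwi_3 hwi_4 hwi_3 hwi_4 hwi_0 hwi_7 hwi_7 hwi_5 hwi_5 hwi_3 hwi_4 hwi_0 hwi_4 hwi_3 hwi_0 hwi_5 hwi_5 hwi_5 hwi_0 hwi_4 hwi_5 hwi_6 hwi_6 hwi_8 hwi_8 hwi_6 hwi_5 hwi_5 hwi_5 hwi_6 hwi_6) (@D3.rec (fun _ => (HWord rels S)) hwi_6 hwi_5 hwi_3 hwi_6 hwi_6 hwi_5 hwi_5 hwi_5 hwi_5 hwi_0 hwi_4 hwi_3 hwi_0 hwi_4 hwi_3 hwi_4 hwi_0 hwi_4 hwi_3 hwi_5 hwi_4 hwi_3 hwi_5 hwi_5 hwi_4 hwi_3 hwi_7 hwi_3 hwi_5 hwi_2 hwi_5 hwi_7 hwi_4 hwi_8 hwi_3 hwi_5 hwi_4 hwi_4 hwi_3 hwi_5 hwi_7 hwi_8 hwi_5 hwi_7 hwi_8 hwi_1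 hwi_7 hwi_8 hwi_3 hwi_7 hwi_6) (@D3.rec (fun _ => (HWord rels S)) hwi_2 hwi_5 hwi_5 hwi_7 hwi_3 hwi_4 hwi_4 hwi_4 hwi_3 hwi_4 hwi_4 hwi_4 hwi_3 hwi_0 hwi_2 hwi_3 hwi_5 hwi_4 hwi_3 hwi_5 hwi_2 hwi_3 hwi_0 hwi_4 hwi_3 hwi_3 hwi_7 hwi_5 hwi_4 hwi_3 hwi_3 hwi_4 hwi_3 hwi_5 hwi_5 hwi_4 hwi_3 hwi_5 hwi_4 hwi_3 hwi_4 hwi_3 hwi_0 hwi_7 hwi_7 hwi_7 hwi_3 hwi_5 hwi_0 hwi_7 hwi_7) (@D3.rec (fun _ => (HWord rels S)) hwi_3 hwi_0 hwi_4 hwi_3 hwi_4 hwi_3 hwi_4 hwi_3 hwi_4 hwi_3 hwi_3 hwi_2 hwi_4 hwi_3 hwi_4 hwi_5 hwi_3 hwi_2 hwi_7 hwi_5 hwi_4 hwi_0 hwi_4 hwi_3 hwi_4 hwi_3 hwi_3 hwi_5 hwi_6 hwi_5 hwi_6 hwi_6 hwi_4 hwi_4 hwi_3 hwi_4 hwi_4 hwi_3 hwi_4 hwi_3 hwi_3 hwi_2 hwi_5 hwi_4 hwi_5 hwi_0 hwi_4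 hwi_3 hwi_5 hwi_4 hwi_3) (@D3.rec (fun _ => (HWord rels S)) hwi_5 hwi_5 hwi_0 hwi_4 hwi_3 hwi_5 hwi_4 hwi_3 hwi_5 hwi_4 hwi_5 hwi_5 hwi_5 hwi_6 hwi_4 hwi_3 hwi_4 hwi_3 hwi_3 hwi_2 hwi_4 hwi_4 hwi_3 hwi_4 hwi_3 hwi_3 hwi_2 hwi_4 hwi_4 hwi_3 hwi_4 hwi_3 hwi_3 hwi_2 hwi_3 hwi_2 hwi_4 hwi_4 hwi_3 hwi_4 hwi_4 hwi_3 hwi_3 hwi_2 hwi_4 hwi_4 hwi_3 hwi_7 hwi_3 hwi_7 hwi_8) (@D3.rec (fun _ => (HWord rels S)) hwi_0 hwi_4 hwi_3 hwi_4 hwi_3 hwi_4 hwi_3 hwi_3 hwi_2 hwi_3 hwi_3 hwi_2 hwi_3 hwi_2 hwi_2 hwi_3 hwi_2 hwi_5 hwi_4 hwi_7 hwi_8 hwi_4 hwi_4 hwi_3 hwi_7 hwi_8 hwi_2 hwi_7 hwi_8 hwi_0 hwi_4 hwi_3 hwi_0 hwi_4 hwi_3 hwi_5 hwi_6 hwi_5 hwi_0 hwi_4 hwi_3 hwi_5 hwi_6 hwi_0 hwi_4 hwi_3 hwi_5 hwi_6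 hwi_4 hwi_5 hwi_6) (@D3.rec (fun _ => (HWord rels S)) hwi_4 hwi_3 hwi_7 hwi_0 hwi_4 hwi_3 hwi_5 hwi_7 hwi_3 hwi_3 hwi_3 hwi_0 hwi_4 hwi_3 hwi_5 hwi_4 hwi_5 hwi_5 hwi_0 hwi_4 hwi_3 hwi_5 hwi_4 hwi_3 hwi_5 hwi_5 hwi_5 hwi_3 hwi_7 hwi_8 hwi_7 hwi_4 hwi_5 hwi_3 hwi_4 hwi_3 hwi_3 hwi_4 hwi_3 hwi_7 hwi_5 hwi_0 hwi_4 hwi_4 hwi_0 hwi_4 hwi_3 hwi_5 hwi_4 hwi_3 hwi_5) (@D3.rec (fun _ => (HWord rels S)) hwi_5 hwi_7 hwi_4 hwi_5 hwi_6 hwi_5 hwi_6 hwi_3 hwi_5 hwi_7 hwi_8 hwi_6 hwi_7 hwi_8 hwi_0 hwi_0 hwi_4 hwi_3 hwi_4 hwi_4 hwi_3 hwi_4 hwi_3 hwi_4 hwi_3 hwi_4 hwi_3 hwi_5 hwi_4 hwi_0 hwi_4 hwi_5 hwi_0 hwi_4 hwi_3 hwi_4 hwi_7 hwi_7 hwi_7 hwi_7 hwi_7 hwi_4 hwi_3 hwi_8 hwi_5 hwi_0 hwi_4 hwi_3 hwi_5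 hwi_4 hwi_3) (@D3.rec (fun _ => (HWord rels S)) hwi_3 hwi_0 hwi_4 hwi_4 hwi_3 hwi_5 hwi_7 hwi_4 hwi_3 hwi_5 hwi_5 hwi_4 hwi_3 hwi_5 hwi_5 hwi_7 hwi_5 hwi_6 hwi_3 hwi_2 hwi_7 hwi_8 hwi_0 hwi_4 hwi_3 hwi_5 hwi_5 hwi_5 hwi_7 hwi_4 hwi_5 hwi_5 hwi_4 hwi_4 hwi_5 hwi_4 hwi_4 hwi_4 hwi_3 hwi_4 hwi_3 hwi_3 hwi_5 hwi_2 hwi_5 hwi_4 hwi_4 hwi_7 hwi_8 hwi_0 hwi_4) (@D3.rec (fun _ => (HWord rels S)) hwi_3 hwi_4 hwi_3 hwi_5 hwi_5 hwi_7 hwi_5 hwi_5 hwi_5 hwi_5 hwi_5 hwi_4 hwi_7 hwi_7 hwi_5 hwi_4 hwi_4 hwi_6 hwi_8 hwi_4 hwi_4 hwi_0 hwi_4 hwi_3 hwi_5 hwi_0 hwi_4 hwi_3 hwi_5 hwi_4 hwi_5 hwi_4 hwi_3 hwi_4 hwi_4 hwi_3 hwi_5 hwi_5 hwi_5 hwi_4 hwi_3 hwi_0 hwi_4 hwi_0 hwi_4 hwi_3 hwi_5 hwi_6 hwi_0 hwi_4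 hwi_3) (@D3.rec (fun _ => (HWord rels S)) hwi_5 hwi_6 hwi_4 hwi_5 hwi_6 hwi_4 hwi_3 hwi_7 hwi_4 hwi_4 hwi_3 hwi_5 hwi_5 hwi_5 hwi_3 hwi_7 hwi_8 hwi_3 hwi_5 hwi_3 hwi_5 hwi_7 hwi_8 hwi_7 hwi_8 hwi_0 hwi_0 hwi_6 hwi_6 hwi_4 hwi_3 hwi_4 hwi_3 hwi_5 hwi_5 hwi_7 hwi_6 hwi_0 hwi_4 hwi_3 hwi_5 hwi_5 hwi_6 hwi_4 hwi_3 hwi_5 hwi_5 hwi_7 hwi_6 hwi_5 hwi_6) (@D3.rec (fun _ => (HWord rels S)) hwi_6 hwi_3 hwi_2 hwi_7 hwi_8 hwi_0 hwi_4 hwi_4 hwi_3 hwi_4 hwi_3 hwi_5 hwi_5 hwi_4 hwi_3 hwi_5 hwi_5 hwi_3 hwi_5 hwi_2 hwi_5 hwi_4 hwi_7 hwi_8 hwi_0 hwi_4 hwi_4 hwi_3 hwi_4 hwi_4 hwi_3 hwi_5 hwi_4 hwi_5 hwi_5 hwi_5 hwi_4 hwi_3 hwi_5 hwi_5 hwi_7 hwi_3 hwi_5 hwi_2 hwi_5 hwi_7 hwi_4 hwi_8 hwi_3 hwi_5 hwi_5)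 (@D3.rec (fun _ => (HWord rels S)) hwi_6 hwi_5 hwi_6 hwi_4 hwi_6 hwi_6 hwi_7 hwi_8 hwi_8 hwi_4 hwi_3 hwi_5 hwi_3 hwi_2 hwi_4 hwi_3 hwi_3 hwi_2 hwi_8 hwi_3 hwi_2 hwi_4 hwi_3 hwi_4 hwi_4 hwi_3 hwi_5 hwi_5 hwi_7 hwi_6 hwi_5 hwi_6 hwi_3 hwi_2 hwi_7 hwi_4 hwi_3 hwi_4 hwi_6 hwi_6 hwi_4 hwi_5 hwi_5 hwi_7 hwi_4 hwi_3 hwi_3 hwi_2 hwi_5 hwi_5 hwi_6) (@D3.rec (fun _ => (HWord rels S)) hwi_6 hwi_5 hwi_6 hwi_6 hwi_4 hwi_3 hwi_7 hwi_3 hwi_2 hwi_7 hwi_7 hwi_8 hwi_4 hwi_3 hwi_4 hwi_3 hwi_6 hwi_3 hwi_2 hwi_5 hwi_5 hwi_4 hwi_3 hwi_5 hwi_5 hwi_7 hwi_4 hwi_3 hwi_5 hwi_3 hwi_5 hwi_5 hwi_7 hwi_4 hwi_4 hwi_4 hwi_3 hwi_5 hwi_5 hwi_7 hwi_6 hwi_3 hwi_5 hwi_2 hwi_5 hwi_7 hwi_6 hwi_6 hwi_3 hwi_2 hwi_7)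
def ow_22 : D2 → D3 → (HWord rels S) := @D2.rec (fun _ => D3 → (HWord rels S)) (@D3.rec (fun _ => (HWord rels S)) hwi_8 hwi_2 hwi_7 hwi_7 hwi_8 hwi_4 hwi_3 hwi_3 hwi_2 hwi_3 hwi_6 hwi_6 hwi_6 hwi_6 hwi_6 hwi_6 hwi_6 hwi_5 hwi_5 hwi_5 hwi_5 hwi_7 hwi_7 hwi_8 hwi_7 hwi_8 hwi_3 hwi_8 hwi_8 hwi_4 hwi_3 hwi_3 hwi_4 hwi_2 hwi_7 hwi_7 hwi_5 hwi_3 hwi_2 hwi_4 hwi_3 hwi_5 hwi_5 hwi_5 hwi_5 hwi_4 hwi_5 hwi_6 hwi_8 hwi_8 hwi_6) (@D3.rec (fun _ => (HWord rels S)) hwi_7 hwi_6 hwi_5 hwi_5 hwi_6 hwi_3 hwi_6 hwi_6 hwi_5 hwi_5 hwi_5 hwi_3 hwi_2 hwi_4 hwi_3 hwi_4 hwi_4 hwi_3 hwi_5 hwi_5 hwi_7 hwi_3 hwi_5 hwi_2 hwi_5 hwi_3 hwi_2 hwi_7 hwi_8 hwi_2 hwi_5 hwi_7 hwi_5 hwi_7 hwi_4 hwi_8 hwi_4 hwi_3 hwi_8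 hwi_8 hwi_7 hwi_3 hwi_4 hwi_2 hwi_5 hwi_3 hwi_3 hwi_2 hwi_3 hwi_2 hwi_2) (@D3.rec (fun _ => (HWord rels S)) hwi_5 hwi_3 hwi_2 hwi_5 hwi_5 hwi_3 hwi_4 hwi_3 hwi_7 hwi_5 hwi_3 hwi_3 hwi_5 hwi_3 hwi_2 hwi_3 hwi_3 hwi_2 hwi_7 hwi_7 hwi_7 hwi_5 hwi_7 hwi_7 hwi_4 hwi_3 hwi_3 hwi_2 hwi_3 hwi_2 hwi_3 hwi_2 hwi_2 hwi_3 hwi_4 hwi_2 hwi_2 hwi_7 hwi_7 hwi_5 hwi_4 hwi_3 hwi_3 hwi_2 hwi_5 hwi_6 hwi_6 hwi_3 hwi_2 hwi_3 hwi_2) (@D3.rec (fun _ => (HWord rels S)) hwi_3 hwi_2 hwi_2 hwi_4 hwi_3 hwi_5 hwi_3 hwi_5 hwi_2 hwi_4 hwi_3 hwi_5 hwi_3 hwi_5 hwi_2 hwi_5 hwi_3 hwi_2 hwi_3 hwi_2 hwi_2 hwi_3 hwi_2 hwi_3 hwi_2 hwi_2 hwi_3 hwi_2 hwi_3 hwi_2 hwi_2 hwi_2 hwi_3 hwi_2 hwi_2 hwi_3 hwi_2 hwi_7 hwi_8 hwi_7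 hwi_8 hwi_4 hwi_3 hwi_3 hwi_2 hwi_3 hwi_2 hwi_2 hwi_2 hwi_2 hwi_1) (@D3.rec (fun _ => (HWord rels S)) hwi_2 hwi_5 hwi_8 hwi_7 hwi_8 hwi_8 hwi_4 hwi_3 hwi_5 hwi_4 hwi_3 hwi_5 hwi_5 hwi_6 hwi_4 hwi_3 hwi_5 hwi_5 hwi_6 hwi_4 hwi_3 hwi_5 hwi_5 hwi_7 hwi_6 hwi_5 hwi_6 hwi_3 hwi_2 hwi_7 hwi_8 hwi_4 hwi_3 hwi_5 hwi_7 hwi_3 hwi_3 hwi_4 hwi_3 hwi_5 hwi_7 hwi_5 hwi_5 hwi_4 hwi_3 hwi_5 hwi_5 hwi_3 hwi_5 hwi_2 hwi_5) (@D3.rec (fun _ => (HWord rels S)) hwi_4 hwi_7 hwi_8 hwi_5 hwi_3 hwi_4 hwi_3 hwi_3 hwi_7 hwi_4 hwi_4 hwi_3 hwi_5 hwi_5 hwi_7 hwi_3 hwi_5 hwi_2 hwi_5 hwi_7 hwi_8 hwi_5 hwi_6 hwi_6 hwi_7 hwi_8 hwi_8 hwi_4 hwi_3 hwi_3 hwi_2 hwi_3 hwi_2 hwi_3 hwi_2 hwi_3 hwi_2 hwi_5 hwi_5 hwi_4 hwi_5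 hwi_4 hwi_3 hwi_4 hwi_4 hwi_7 hwi_7 hwi_7 hwi_7 hwi_7 hwi_4) (@D3.rec (fun _ => (HWord rels S)) hwi_8 hwi_5 hwi_4 hwi_3 hwi_5 hwi_5 hwi_3 hwi_2 hwi_3 hwi_4 hwi_3 hwi_5 hwi_7 hwi_3 hwi_5 hwi_2 hwi_5 hwi_4 hwi_3 hwi_5 hwi_2 hwi_5 hwi_7 hwi_7 hwi_6 hwi_2 hwi_7 hwi_7 hwi_8 hwi_4 hwi_3 hwi_5 hwi_5 hwi_7 hwi_5 hwi_5 hwi_7 hwi_5 hwi_5 hwi_5 hwi_5 hwi_4 hwi_3 hwi_2 hwi_3 hwi_2 hwi_2 hwi_5 hwi_5 hwi_4 hwi_8) (@D3.rec (fun _ => (HWord rels S)) hwi_4 hwi_3 hwi_3 hwi_5 hwi_2 hwi_5 hwi_7 hwi_5 hwi_5 hwi_5 hwi_5 hwi_4 hwi_3 hwi_5 hwi_4 hwi_3 hwi_5 hwi_5 hwi_3 hwi_2 hwi_3 hwi_5 hwi_2 hwi_5 hwi_4 hwi_3 hwi_5 hwi_6 hwi_4 hwi_3 hwi_5 hwi_5 hwi_7 hwi_6 hwi_5 hwi_6 hwi_3 hwi_2 hwi_7 hwi_3 hwi_5 hwi_2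 hwi_5 hwi_4 hwi_7 hwi_8 hwi_7 hwi_8 hwi_8 hwi_6 hwi_6) (@D3.rec (fun _ => (HWord rels S)) hwi_3 hwi_2 hwi_3 hwi_5 hwi_5 hwi_7 hwi_6 hwi_3 hwi_5 hwi_2 hwi_5 hwi_6 hwi_4 hwi_6 hwi_3 hwi_5 hwi_2 hwi_5 hwi_7 hwi_6 hwi_6 hwi_7 hwi_6 hwi_6 hwi_2 hwi_7 hwi_7 hwi_8 hwi_4 hwi_3 hwi_2 hwi_3 hwi_5 hwi_2 hwi_3 hwi_5 hwi_2 hwi_5 hwi_4 hwi_2 hwi_5 hwi_5 hwi_4 hwi_8 hwi_4 hwi_3 hwi_2 hwi_3 hwi_5 hwi_2 hwi_5) (@D3.rec (fun _ => (HWord rels S)) hwi_3 hwi_5 hwi_2 hwi_5 hwi_7 hwi_7 hwi_2 hwi_5 hwi_7 hwi_5 hwi_7 hwi_4 hwi_8 hwi_5 hwi_6 hwi_4 hwi_6 hwi_6 hwi_8 hwi_3 hwi_2 hwi_2 hwi_3 hwi_2 hwi_2 hwi_2 hwi_3 hwi_2 hwi_4 hwi_3 hwi_5 hwi_2 hwi_5 hwi_7 hwi_6 hwi_6 hwi_2 hwi_7 hwi_7 hwi_3 hwi_2 hwi_6 hwi_6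 hwi_4 hwi_5 hwi_3 hwi_2 hwi_2 hwi_5 hwi_5 hwi_6) (@D3.rec (fun _ => (HWord rels S)) hwi_3 hwi_2 hwi_7 hwi_2 hwi_7 hwi_7 hwi_3 hwi_2 hwi_3 hwi_2 hwi_6 hwi_2 hwi_5 hwi_5 hwi_5 hwi_3 hwi_5 hwi_5 hwi_7 hwi_3 hwi_5 hwi_2 hwi_5 hwi_7 hwi_4 hwi_3 hwi_5 hwi_2 hwi_5 hwi_7 hwi_6 hwi_2 hwi_5 hwi_7 hwi_6 hwi_5 hwi_7 hwi_2 hwi_7 hwi_7 hwi_8 hwi_1 hwi_7 hwi_8 hwi_3 hwi_8 hwi_3 hwi_2 hwi_2 hwi_3 hwi_2) (@D3.rec (fun _ => (HWord rels S)) hwi_6 hwi_6 hwi_6 hwi_6 hwi_5 hwi_7 hwi_8 hwi_3 hwi_8 hwi_8 hwi_3 hwi_2 hwi_2 hwi_7 hwi_5 hwi_2 hwi_3 hwi_2 hwi_5 hwi_5 hwi_5 hwi_5 hwi_5 hwi_8 hwi_6 hwi_7 hwi_6 hwi_5 hwi_2 hwi_6 hwi_5 hwi_2 hwi_3 hwi_4 hwi_2 hwi_3 hwi_5 hwi_2 hwi_5 hwi_7 hwi_2 hwi_5 hwi_5 hwi_2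 hwi_7 hwi_7 hwi_8 hwi_1 hwi_5 hwi_7 hwi_4) (@D3.rec (fun _ => (HWord rels S)) hwi_8 hwi_4 hwi_8 hwi_3 hwi_4 hwi_2 hwi_2 hwi_2 hwi_5 hwi_5 hwi_5 hwi_3 hwi_2 hwi_5 hwi_2 hwi_2 hwi_7 hwi_7 hwi_7 hwi_7 hwi_7 hwi_3 hwi_2 hwi_2 hwi_2 hwi_2 hwi_1 hwi_2 hwi_1 hwi_7 hwi_5 hwi_5 hwi_3 hwi_2 hwi_2 hwi_6 hwi_2 hwi_2 hwi_2 hwi_1 hwi_3 hwi_5 hwi_2 hwi_2 hwi_3 hwi_5 hwi_2 hwi_2 hwi_2 hwi_2 hwi_1) (@D3.rec (fun _ => (HWord rels S)) hwi_2 hwi_2 hwi_1 hwi_2 hwi_2 hwi_1 hwi_1 hwi_2 hwi_1 hwi_2 hwi_7 hwi_7 hwi_8 hwi_8 hwi_3 hwi_2 hwi_2 hwi_2 hwi_1 hwi_1 hwi_1 hwi_1 hwi_5 hwi_8 hwi_3 hwi_2 hwi_5 hwi_3 hwi_5 hwi_5 hwi_6 hwi_3 hwi_5 hwi_2 hwi_5 hwi_6 hwi_4 hwi_6 hwi_3 hwi_5 hwi_2 hwi_5 hwi_7 hwi_6 hwi_6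 hwi_7 hwi_6 hwi_2 hwi_7 hwi_7 hwi_8) (@D3.rec (fun _ => (HWord rels S)) hwi_3 hwi_5 hwi_2 hwi_7 hwi_3 hwi_3 hwi_5 hwi_7 hwi_5 hwi_3 hwi_5 hwi_2 hwi_5 hwi_4 hwi_2 hwi_5 hwi_5 hwi_4 hwi_8 hwi_4 hwi_3 hwi_5 hwi_2 hwi_5 hwi_7 hwi_7 hwi_2 hwi_5 hwi_7 hwi_5 hwi_7 hwi_8 hwi_6 hwi_8 hwi_3 hwi_2 hwi_2 hwi_2 hwi_2 hwi_2 hwi_5 hwi_5 hwi_5 hwi_5 hwi_3 hwi_4 hwi_2 hwi_4 hwi_7 hwi_7 hwi_7) (@D3.rec (fun _ => (HWord rels S)) hwi_7 hwi_7 hwi_4 hwi_5 hwi_3 hwi_5 hwi_2 hwi_5 hwi_2 hwi_3 hwi_2 hwi_7 hwi_2 hwi_5 hwi_5 hwi_4 hwi_2 hwi_5 hwi_7 hwi_5 hwi_7 hwi_7 hwi_1 hwi_7 hwi_8 hwi_8 hwi_3 hwi_5 hwi_2 hwi_5 hwi_7 hwi_5 hwi_7 hwi_7 hwi_5 hwi_5 hwi_2 hwi_2 hwi_1 hwi_5 hwi_4 hwi_4 hwi_3 hwi_2 hwi_2 hwi_5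 hwi_7 hwi_5 hwi_7 hwi_5 hwi_5) (@D3.rec (fun _ => (HWord rels S)) hwi_5 hwi_7 hwi_5 hwi_3 hwi_5 hwi_2 hwi_3 hwi_5 hwi_2 hwi_2 hwi_2 hwi_5 hwi_3 hwi_5 hwi_2 hwi_6 hwi_3 hwi_5 hwi_2 hwi_5 hwi_7 hwi_6 hwi_6 hwi_2 hwi_7 hwi_2 hwi_5 hwi_5 hwi_4 hwi_8 hwi_8 hwi_6 hwi_6 hwi_2 hwi_5 hwi_7 hwi_6 hwi_2 hwi_5 hwi_6 hwi_5 hwi_4 hwi_6 hwi_2 hwi_5 hwi_7 hwi_6 hwi_5 hwi_7 hwi_6 hwi_7) (@D3.rec (fun _ => (HWord rels S)) hwi_6 hwi_1 hwi_7 hwi_8 hwi_8 hwi_2 hwi_2 hwi_2 hwi_5 hwi_5 hwi_4 hwi_1 hwi_5 hwi_4 hwi_4 hwi_2 hwi_2 hwi_2 hwi_5 hwi_7 hwi_5 hwi_7 hwi_7 hwi_1 hwi_5 hwi_7 hwi_4 hwi_8 hwi_4 hwi_8 hwi_6 hwi_2 hwi_1 hwi_2 hwi_1 hwi_1 hwi_2 hwi_4 hwi_4 hwi_2 hwi_5 hwi_7 hwi_6 hwi_5 hwi_7 hwi_1 hwi_7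 hwi_2 hwi_4 hwi_2 hwi_1) (@D3.rec (fun _ => (HWord rels S)) hwi_5 hwi_2 hwi_7 hwi_7 hwi_1 hwi_7 hwi_2 hwi_2 hwi_6 hwi_6 hwi_1 hwi_5 hwi_5 hwi_5 hwi_5 hwi_7 hwi_2 hwi_4 hwi_2 hwi_5 hwi_7 hwi_6 hwi_5 hwi_7 hwi_1 hwi_5 hwi_7 hwi_1 hwi_7 hwi_8 hwi_8 hwi_7 hwi_3 hwi_8 hwi_8 hwi_2 hwi_1 hwi_2 hwi_6 hwi_8 hwi_2 hwi_1 hwi_7 hwi_1 hwi_2 hwi_5 hwi_5 hwi_5 hwi_5 hwi_7 hwi_6) (@D3.rec (fun _ => (HWord rels S)) hwi_1 hwi_2 hwi_2 hwi_5 hwi_7 hwi_5 hwi_7 hwi_1 hwi_5 hwi_1 hwi_7 hwi_8 hwi_8 hwi_5 hwi_7 hwi_4 hwi_8 hwi_1 hwi_1 hwi_1 hwi_5 hwi_5 hwi_5 hwi_2 hwi_1 hwi_1 hwi_7 hwi_7 hwi_2 hwi_1 hwi_1 hwi_1 hwi_1 hwi_7 hwi_5 hwi_2 hwi_1 hwi_1 hwi_1 hwi_1 hwi_2 hwi_1 hwi_2 hwi_1 hwi_1 hwi_1 hwi_1 hwi_1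 hwi_1 hwi_1 hwi_1) (@D3.rec (fun _ => (HWord rels S)) hwi_1 hwi_7 hwi_8 hwi_8 hwi_2 hwi_1 hwi_1 hwi_5 hwi_2 hwi_5 hwi_5 hwi_5 hwi_6 hwi_2 hwi_5 hwi_6 hwi_5 hwi_4 hwi_6 hwi_2 hwi_5 hwi_7 hwi_6 hwi_5 hwi_7 hwi_6 hwi_7 hwi_1 hwi_7 hwi_8 hwi_8 hwi_2 hwi_7 hwi_7 hwi_2 hwi_5 hwi_5 hwi_4 hwi_1 hwi_5 hwi_4 hwi_4 hwi_2 hwi_5 hwi_7 hwi_5 hwi_7 hwi_7 hwi_1 hwi_5 hwi_7) (@D3.rec (fun _ => (HWord rels S)) hwi_8 hwi_8 hwi_2 hwi_1 hwi_1 hwi_1 hwi_1 hwi_5 hwi_5 hwi_5 hwi_2 hwi_4 hwi_7 hwi_4 hwi_7 hwi_7 hwi_4 hwi_7 hwi_2 hwi_5 hwi_5 hwi_1 hwi_2 hwi_1 hwi_5 hwi_4 hwi_4 hwi_1 hwi_5 hwi_7 hwi_7 hwi_7 hwi_7 hwi_8 hwi_2 hwi_5 hwi_7 hwi_5 hwi_7 hwi_5 hwi_7 hwi_5 hwi_5 hwi_5 hwi_1 hwi_1 hwi_5 hwi_4 hwi_2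 hwi_1 hwi_5) (@D3.rec (fun _ => (HWord rels S)) hwi_7 hwi_5 hwi_7 hwi_5 hwi_7 hwi_2 hwi_2 hwi_1 hwi_1 hwi_2 hwi_6 hwi_2 hwi_5 hwi_7 hwi_6 hwi_5 hwi_1 hwi_1 hwi_5 hwi_4 hwi_4 hwi_6 hwi_1 hwi_1 hwi_5 hwi_4 hwi_6 hwi_4 hwi_6 hwi_1 hwi_5 hwi_7 hwi_6 hwi_7 hwi_6 hwi_7 hwi_7 hwi_8 hwi_1 hwi_1 hwi_1 hwi_5 hwi_4 hwi_4 hwi_5 hwi_4 hwi_1 hwi_1 hwi_1 hwi_5 hwi_7) (@D3.rec (fun _ => (HWord rels S)) hwi_7 hwi_7 hwi_5 hwi_7 hwi_4 hwi_8 hwi_1 hwi_1 hwi_1 hwi_4 hwi_1 hwi_5 hwi_7 hwi_7 hwi_1 hwi_1 hwi_5 hwi_1 hwi_7 hwi_7 hwi_1 hwi_1 hwi_6 hwi_5 hwi_5 hwi_1 hwi_1 hwi_5 hwi_7 hwi_5 hwi_7 hwi_7 hwi_8 hwi_3 hwi_8 hwi_8 hwi_1 hwi_1 hwi_1 hwi_1 hwi_5 hwi_5 hwi_1 hwi_1 hwi_5 hwi_7 hwi_5 hwi_7 hwi_8 hwi_4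 hwi_8) (@D3.rec (fun _ => (HWord rels S)) hwi_5 hwi_5 hwi_1 hwi_7 hwi_7 hwi_1 hwi_5 hwi_1 hwi_1 hwi_1 hwi_7 hwi_8 hwi_1 hwi_1 hwi_5 hwi_1 hwi_5 hwi_4 hwi_6 hwi_4 hwi_6 hwi_1 hwi_5 hwi_7 hwi_6 hwi_7 hwi_6 hwi_7 hwi_7 hwi_8 hwi_1 hwi_1 hwi_5 hwi_4 hwi_4 hwi_5 hwi_4 hwi_1 hwi_5 hwi_7 hwi_7 hwi_7 hwi_5 hwi_7 hwi_8 hwi_1 hwi_5 hwi_5 hwi_1 hwi_4 hwi_7) (@D3.rec (fun _ => (HWord rels S)) hwi_7 hwi_1 hwi_5 hwi_1 hwi_5 hwi_4 hwi_5 hwi_7 hwi_7 hwi_8 hwi_1 hwi_5 hwi_7 hwi_7 hwi_5 hwi_4 hwi_1 hwi_5 hwi_7 hwi_7 hwi_5 hwi_7 hwi_1 hwi_1 hwi_1 hwi_1 hwi_5 hwi_5 hwi_4 hwi_6 hwi_5 hwi_4 hwi_6 hwi_5 hwi_7 hwi_6 hwi_7 hwi_8 hwi_5 hwi_4 hwi_4 hwi_5 hwi_7 hwi_7 hwi_4 hwi_8 hwi_4 hwi_5 hwi_7 hwi_7 hwi_6)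 (@D3.rec (fun _ => (HWord rels S)) hwi_5 hwi_5 hwi_7 hwi_8 hwi_8 hwi_5 hwi_5 hwi_7 hwi_8 hwi_5 hwi_8 hwi_5 hwi_5 hwi_4 hwi_6 hwi_5 hwi_7 hwi_6 hwi_7 hwi_8 hwi_5 hwi_4 hwi_4 hwi_5 hwi_7 hwi_7 hwi_8 hwi_5 hwi_4 hwi_7 hwi_5 hwi_4 hwi_7 hwi_5 hwi_7 hwi_5 hwi_7 hwi_5 hwi_4 hwi_4 hwi_6 hwi_6 hwi_7 hwi_4 hwi_7 hwi_4 hwi_6 hwi_6 hwi_7 hwi_4 hwi_7)
def ow : Pt → (HWord rels S) := @Pt.rec (fun _ => (HWord rels S)) (@D1.rec (fun _ => D2 → D3 → (HWord rels S)) ow_0 ow_1 ow_2 ow_3 ow_4 ow_5 ow_6 ow_7 ow_8 ow_9 ow_10 ow_11 ow_12 ow_13 ow_14 ow_15 ow_16 ow_17 ow_18 ow_19 ow_20 ow_21 ow_22)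
theorem lab_chk_0 : chkLabF allPts lab subF_0 = true := by decide +kernel
theorem lab_chk_1 : chkLabF allPts lab subF_1 = true := by decide +kernel
theorem lab_chk_2 : chkLabF allPts lab subF_2 = true := by decide +kernel
theorem lab_chk_3 : chkLabF allPts lab subF_3 = true := by decide +kernel
theorem lab_chk_4 : chkLabF allPts lab subF_4 = true := by decide +kernel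
theorem lab_chk_5 : chkLabF allPts lab subF_5 = true := by decide +kernel
theorem lab_chk_6 : chkLabF allPts lab subF_6 = true := by decide +kernel
theorem lab_chk_7 : chkLabF allPts lab subF_7 = true := by decide +kernel
theorem lab_chk_8 : chkLabF allPts lab subF_8 = true := by decide +kernel
def root_0 : Pt := (Pt.mk D1.c0 D2.c0 D3.c0)
theorem conn_chk_0 : chkConn rels S fwd inv allPts beqPt lab odep ow root_0 0 = true := by decide +kernel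
theorem count_chk_0 : countPts (fun b => Nat.beq (lab b) 0) = 1 := by decide +kernel
def root_1 : Pt := (Pt.mk D1.c0 D2.c0 D3.c1)
theorem conn_chk_1 : chkConn rels S fwd inv allPts beqPt lab odep ow root_1 1 = true := by decide +kernel
theorem count_chk_1 : countPts (fun b => Nat.beq (lab b) 1) = 28160 := by decide +kernel
def root_2 : Pt := (Pt.mk D1.c0 D2.c1 D3.c1)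
theorem conn_chk_2 : chkConn rels S fwd inv allPts beqPt lab odep ow root_2 2 = true := by decide +kernel
theorem count_chk_2 : countPts (fun b => Nat.beq (lab b) 2) = 3510 := by decide +kernel

end

end Cfsg.Agent.Helper28.S1689
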