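import Cfsg.Agent.Lib.Helper28.S1689.SeedsPre

set_option autoImplicit false
set_option maxRecDepth 100000
set_option linter.all false

namespace Cfsg.Agent.Helper28.S1689

open Cfsg.Agent.Helper28
open Cfsg.Spor.Fi23 (Gen)

noncomputable section

section
variable (IH : ∀ y q, lvl y q < 47 → EntryOK rels S fwd inv o plet idx y q)
include IH

theorem s0_f48 : ed sl_dt sq9 = sq13 :=
  real_edge rels S fwd inv o lvl plet idx 47 IH Gen.d sp9 sp13 rfl rfl
theorem s0_f51 : ed sl_dt sq18 = sq18 :=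
  real_edge rels S fwd inv o lvl plet idx 47 IH Gen.d sp18 sp18 rfl rfl
theorem s0_f68 : ed sl_dt sq10 = sq10 :=
  real_edge rels S fwd inv o lvl plet idx 47 IH Gen.d sp10 sp10 rfl rfl
theorem s0_f74 : ed sl_dt sq50 = sq50 :=
  real_edge rels S fwd inv o lvl plet idx 47 IH Gen.d sp50 sp50 rfl rfl
theorem s0_f97 : ed sl_bt sq2189 = sq1596 :=
  real_edge rels S fwd inv o lvl plet idx 47 IH Gen.b sp2189 sp1596 rfl rfl
theorem s0_f99 : ed sl_dt sq3585 = sq2963 :=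
  real_edge rels S fwd inv o lvl plet idx 47 IH Gen.d sp3585 sp2963 rfl rfl
theorem s0_f246 : ed sl_ct sq112 = sq78 :=
  real_edge rels S fwd inv o lvl plet idx 47 IH Gen.c sp112 sp78 rfl rfl
theorem s0_f247 : ed sl_bt sq78 = sq108 :=
  real_edge rels S fwd inv o lvl plet idx 47 IH Gen.b sp78 sp108 rfl rfl
theorem s0_f250 : ed sl_ft sq136 = sq94 :=
  real_edge rels S fwd inv o lvl plet idx 47 IH Gen.f sp136 sp94 rfl rfl
theorem s0_f251 : ed sl_et sq94 = sq94 :=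
  real_edge rels S fwd inv o lvl plet idx 47 IH Gen.e sp94 sp94 rfl rfl
theorem s0_f252 : ed sl_dt sq94 = sq64 :=
  real_edge rels S fwd inv o lvl plet idx 47 IH Gen.d sp94 sp64 rfl rfl
theorem s0_f253 : ed sl_ct sq64 = sq89 :=
  real_edge rels S fwd inv o lvl plet idx 47 IH Gen.c sp64 sp89 rfl rfl
theorem s0_f254 : ed sl_bt sq89 = sq121 :=
  real_edge rels S fwd inv o lvl plet idx 47 IH Gen.b sp89 sp121 rfl rfl
theorem s0_f259 : ed sl_dt sq120 = sq171 :=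
  real_edge rels S fwd inv o lvl plet idx 47 IH Gen.d sp120 sp171 rfl rfl
theorem s0_f316 : ed sl_ft sq88 = sq60 :=
  real_edge rels S fwd inv o lvl plet idx 47 IH Gen.f sp88 sp60 rfl rfl
theorem s0_f317 : ed sl_et sq60 = sq41 :=
  real_edge rels S fwd inv o lvl plet idx 47 IH Gen.e sp60 sp41 rfl rfl
theorem s0_f318 : ed sl_dt sq41 = sq41 :=
  real_edge rels S fwd inv o lvl plet idx 47 IH Gen.d sp41 sp41 rfl rfl
theorem s0_f319 : ed sl_ct sq41 = sq30 :=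
  real_edge rels S fwd inv o lvl plet idx 47 IH Gen.c sp41 sp30 rfl rfl
theorem s0_f325 : ed sl_dt sq51 = sq75 :=
  real_edge rels S fwd inv o lvl plet idx 47 IH Gen.d sp51 sp75 rfl rfl
theorem s0_f396 : ed sl_ht sq11 = sq15 :=
  real_edge rels S fwd inv o lvl plet idx 47 IH Gen.h sp11 sp15 rfl rfl
theorem s0_f397 : ed sl_ft sq15 = sq15 :=
  real_edge rels S fwd inv o lvl plet idx 47 IH Gen.f sp15 sp15 rfl rfl
theorem s0_f398 : ed sl_et sq15 = sq15 :=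
  real_edge rels S fwd inv o lvl plet idx 47 IH Gen.e sp15 sp15 rfl rfl
theorem s0_f399 : ed sl_dt sq15 = sq20 :=
  real_edge rels S fwd inv o lvl plet idx 47 IH Gen.d sp15 sp20 rfl rfl
theorem s0_f400 : ed sl_ct sq20 = sq28 :=
  real_edge rels S fwd inv o lvl plet idx 47 IH Gen.c sp20 sp28 rfl rfl
theorem s0_f401 : ed sl_bt sq28 = sq39 :=
  real_edge rels S fwd inv o lvl plet idx 47 IH Gen.b sp28 sp39 rfl rfl
theorem s0_f403 : ed sl_ht sq39 = sq39 :=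
  real_edge rels S fwd inv o lvl plet idx 47 IH Gen.h sp39 sp39 rfl rfl
theorem s0_f404 : ed sl_ft sq39 = sq39 :=
  real_edge rels S fwd inv o lvl plet idx 47 IH Gen.f sp39 sp39 rfl rfl
theorem s0_f405 : ed sl_et sq39 = sq56 :=
  real_edge rels S fwd inv o lvl plet idx 47 IH Gen.e sp39 sp56 rfl rfl
theorem s0_f406 : ed sl_dt sq56 = sq80 :=
  real_edge rels S fwd inv o lvl plet idx 47 IH Gen.d sp56 sp80 rfl rfl
theorem s0_f417 : ed sl_ht sq139 = sq95 :=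
  real_edge rels S fwd inv o lvl plet idx 47 IH Gen.h sp139 sp95 rfl rfl
theorem s0_f418 : ed sl_ft sq95 = sq95 :=
  real_edge rels S fwd inv o lvl plet idx 47 IH Gen.f sp95 sp95 rfl rfl
theorem s0_f419 : ed sl_et sq95 = sq65 :=
  real_edge rels S fwd inv o lvl plet idx 47 IH Gen.e sp95 sp65 rfl rfl
theorem s0_f420 : ed sl_dt sq65 = sq46 :=
  real_edge rels S fwd inv o lvl plet idx 47 IH Gen.d sp65 sp46 rfl rfl
theorem s0_f421 : ed sl_ct sq46 = sq33 :=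
  real_edge rels S fwd inv o lvl plet idx 47 IH Gen.c sp46 sp33 rfl rfl
theorem s0_f427 : ed sl_dt sq13 = sq9 :=
  real_edge rels S fwd inv o lvl plet idx 47 IH Gen.d sp13 sp9 rfl rfl
theorem s0_f428 : ed sl_ct sq9 = sq7 :=
  real_edge rels S fwd inv o lvl plet idx 47 IH Gen.c sp9 sp7 rfl rfl
theorem s0_f443 : ed sl_dt sq7 = sq7 :=
  real_edge rels S fwd inv o lvl plet idx 47 IH Gen.d sp7 sp7 rfl rfl
theorem s0_f455 : ed sl_dt sq38 = sq55 :=
  real_edge rels S fwd inv o lvl plet idx 47 IH Gen.d sp38 sp55 rfl rfl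
theorem s0_f476 : ed sl_dt sq98 = sq69 :=
  real_edge rels S fwd inv o lvl plet idx 47 IH Gen.d sp98 sp69 rfl rfl
theorem s0_f521 : ed sl_bt sq282 = sq379 :=
  real_edge rels S fwd inv o lvl plet idx 47 IH Gen.b sp282 sp379 rfl rfl
theorem s0_f542 : ed sl_ht sq643 = sq643 :=
  real_edge rels S fwd inv o lvl plet idx 47 IH Gen.h sp643 sp643 rfl rfl
theorem s0_f606 : ed sl_dt sq78 = sq54 :=
  real_edge rels S fwd inv o lvl plet idx 47 IH Gen.d sp78 sp54 rfl rfl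
theorem s0_f613 : ed sl_dt sq344 = sq237 :=
  real_edge rels S fwd inv o lvl plet idx 47 IH Gen.d sp344 sp237 rfl rfl
theorem s0_f615 : ed sl_ft sq344 = sq344 :=
  real_edge rels S fwd inv o lvl plet idx 47 IH Gen.f sp344 sp344 rfl rfl
theorem s0_f623 : ed sl_ht sq1172 = sq1630 :=
  real_edge rels S fwd inv o lvl plet idx 47 IH Gen.h sp1172 sp1630 rfl rfl
theorem s0_f624 : ed sl_ft sq1630 = sq2243 :=
  real_edge rels S fwd inv o lvl plet idx 47 IH Gen.f sp1630 sp2243 rfl rfl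
theorem s0_f625 : ed sl_et sq2243 = sq3038 :=
  real_edge rels S fwd inv o lvl plet idx 47 IH Gen.e sp2243 sp3038 rfl rfl
theorem s0_f626 : ed sl_dt sq3038 = sq4016 :=
  real_edge rels S fwd inv o lvl plet idx 47 IH Gen.d sp3038 sp4016 rfl rfl
theorem s0_f645 : ed sl_dt sq1945 = sq1427 :=
  real_edge rels S fwd inv o lvl plet idx 47 IH Gen.d sp1945 sp1427 rfl rfl
theorem s0_f674 : ed sl_dt sq640 = sq444 :=
  real_edge rels S fwd inv o lvl plet idx 47 IH Gen.d sp640 sp444 rfl rfl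
theorem s0_f676 : ed sl_et sq444 = sq444 :=
  real_edge rels S fwd inv o lvl plet idx 47 IH Gen.e sp444 sp444 rfl rfl
theorem s0_f677 : ed sl_dt sq444 = sq640 :=
  real_edge rels S fwd inv o lvl plet idx 47 IH Gen.d sp444 sp640 rfl rfl
theorem s0_f809 : ed sl_bt sq1083 = sq1499 :=
  real_edge rels S fwd inv o lvl plet idx 47 IH Gen.b sp1083 sp1499 rfl rfl
theorem s0_f833 : ed sl_dt sq955 = sq1314 :=
  real_edge rels S fwd inv o lvl plet idx 47 IH Gen.d sp955 sp1314 rfl rfl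
theorem s0_f862 : ed sl_dt sq1826 = sq2480 :=
  real_edge rels S fwd inv o lvl plet idx 47 IH Gen.d sp1826 sp2480 rfl rfl
theorem s0_f867 : ed sl_ft sq3290 = sq3290 :=
  real_edge rels S fwd inv o lvl plet idx 47 IH Gen.f sp3290 sp3290 rfl rfl
theorem s0_f879 : ed sl_it sq7 = sq10 :=
  real_edge rels S fwd inv o lvl plet idx 47 IH Gen.i sp7 sp10 rfl rfl
theorem s0_f880 : ed sl_ht sq10 = sq10 :=
  real_edge rels S fwd inv o lvl plet idx 47 IH Gen.h sp10 sp10 rfl rfl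
theorem s0_f885 : ed sl_ht sq15 = sq11 :=
  real_edge rels S fwd inv o lvl plet idx 47 IH Gen.h sp15 sp11 rfl rfl
theorem s0_f886 : ed sl_ft sq11 = sq11 :=
  real_edge rels S fwd inv o lvl plet idx 47 IH Gen.f sp11 sp11 rfl rfl
theorem s0_f887 : ed sl_et sq11 = sq11 :=
  real_edge rels S fwd inv o lvl plet idx 47 IH Gen.e sp11 sp11 rfl rfl
theorem s0_f888 : ed sl_dt sq11 = sq11 :=
  real_edge rels S fwd inv o lvl plet idx 47 IH Gen.d sp11 sp11 rfl rfl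
theorem s0_f889 : ed sl_ct sq11 = sq11 :=
  real_edge rels S fwd inv o lvl plet idx 47 IH Gen.c sp11 sp11 rfl rfl
theorem s0_f890 : ed sl_bt sq11 = sq11 :=
  real_edge rels S fwd inv o lvl plet idx 47 IH Gen.b sp11 sp11 rfl rfl
theorem s0_f893 : ed sl_ft sq12 = sq12 :=
  real_edge rels S fwd inv o lvl plet idx 47 IH Gen.f sp12 sp12 rfl rfl
theorem s0_f894 : ed sl_et sq12 = sq12 :=
  real_edge rels S fwd inv o lvl plet idx 47 IH Gen.e sp12 sp12 rfl rfl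
theorem s0_f895 : ed sl_dt sq12 = sq16 :=
  real_edge rels S fwd inv o lvl plet idx 47 IH Gen.d sp12 sp16 rfl rfl
theorem s0_f896 : ed sl_ct sq16 = sq22 :=
  real_edge rels S fwd inv o lvl plet idx 47 IH Gen.c sp16 sp22 rfl rfl
theorem s0_f897 : ed sl_bt sq22 = sq22 :=
  real_edge rels S fwd inv o lvl plet idx 47 IH Gen.b sp22 sp22 rfl rfl
theorem s0_f902 : ed sl_dt sq40 = sq58 :=
  real_edge rels S fwd inv o lvl plet idx 47 IH Gen.d sp40 sp58 rfl rfl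
theorem s0_f903 : ed sl_ct sq58 = sq58 :=
  real_edge rels S fwd inv o lvl plet idx 47 IH Gen.c sp58 sp58 rfl rfl
theorem s0_f920 : ed sl_ht sq181 = sq123 :=
  real_edge rels S fwd inv o lvl plet idx 47 IH Gen.h sp181 sp123 rfl rfl
theorem s0_f921 : ed sl_ft sq123 = sq123 :=
  real_edge rels S fwd inv o lvl plet idx 47 IH Gen.f sp123 sp123 rfl rfl
theorem s0_f922 : ed sl_et sq123 = sq84 :=
  real_edge rels S fwd inv o lvl plet idx 47 IH Gen.e sp123 sp84 rfl rfl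
theorem s0_f923 : ed sl_dt sq84 = sq59 :=
  real_edge rels S fwd inv o lvl plet idx 47 IH Gen.d sp84 sp59 rfl rfl
theorem s0_f924 : ed sl_ct sq59 = sq42 :=
  real_edge rels S fwd inv o lvl plet idx 47 IH Gen.c sp59 sp42 rfl rfl
theorem s0_f925 : ed sl_bt sq42 = sq42 :=
  real_edge rels S fwd inv o lvl plet idx 47 IH Gen.b sp42 sp42 rfl rfl
theorem s0_f927 : ed sl_ht sq33 = sq33 :=
  real_edge rels S fwd inv o lvl plet idx 47 IH Gen.h sp33 sp33 rfl rfl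
theorem s0_f928 : ed sl_ft sq33 = sq23 :=
  real_edge rels S fwd inv o lvl plet idx 47 IH Gen.f sp33 sp23 rfl rfl
theorem s0_f929 : ed sl_et sq23 = sq16 :=
  real_edge rels S fwd inv o lvl plet idx 47 IH Gen.e sp23 sp16 rfl rfl
theorem s0_f930 : ed sl_dt sq16 = sq12 :=
  real_edge rels S fwd inv o lvl plet idx 47 IH Gen.d sp16 sp12 rfl rfl
theorem s0_f932 : ed sl_bt sq12 = sq9 :=
  real_edge rels S fwd inv o lvl plet idx 47 IH Gen.b sp12 sp9 rfl rfl
theorem s0_f937 : ed sl_ht sq13 = sq13 :=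
  real_edge rels S fwd inv o lvl plet idx 47 IH Gen.h sp13 sp13 rfl rfl
theorem s0_f938 : ed sl_et sq9 = sq9 :=
  real_edge rels S fwd inv o lvl plet idx 47 IH Gen.e sp9 sp9 rfl rfl
theorem s0_f939 : ed sl_it sq9 = sq14 :=
  real_edge rels S fwd inv o lvl plet idx 47 IH Gen.i sp9 sp14 rfl rfl
theorem s0_f940 : ed sl_ht sq14 = sq14 :=
  real_edge rels S fwd inv o lvl plet idx 47 IH Gen.h sp14 sp14 rfl rfl
theorem s0_f942 : ed sl_ft sq9 = sq9 :=
  real_edge rels S fwd inv o lvl plet idx 47 IH Gen.f sp9 sp9 rfl rfl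
theorem s0_f945 : ed sl_ct sq13 = sq13 :=
  real_edge rels S fwd inv o lvl plet idx 47 IH Gen.c sp13 sp13 rfl rfl
theorem s0_f946 : ed sl_bt sq13 = sq16 :=
  real_edge rels S fwd inv o lvl plet idx 47 IH Gen.b sp13 sp16 rfl rfl
theorem s0_f948 : ed sl_ht sq20 = sq20 :=
  real_edge rels S fwd inv o lvl plet idx 47 IH Gen.h sp20 sp20 rfl rfl
theorem s0_f949 : ed sl_ft sq20 = sq20 :=
  real_edge rels S fwd inv o lvl plet idx 47 IH Gen.f sp20 sp20 rfl rfl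
theorem s0_f950 : ed sl_et sq20 = sq29 :=
  real_edge rels S fwd inv o lvl plet idx 47 IH Gen.e sp20 sp29 rfl rfl
theorem s0_f951 : ed sl_dt sq29 = sq29 :=
  real_edge rels S fwd inv o lvl plet idx 47 IH Gen.d sp29 sp29 rfl rfl
theorem s0_f952 : ed sl_ct sq29 = sq40 :=
  real_edge rels S fwd inv o lvl plet idx 47 IH Gen.c sp29 sp40 rfl rfl
theorem s0_f955 : ed sl_ht sq56 = sq56 :=
  real_edge rels S fwd inv o lvl plet idx 47 IH Gen.h sp56 sp56 rfl rfl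
theorem s0_f956 : ed sl_ft sq56 = sq81 :=
  real_edge rels S fwd inv o lvl plet idx 47 IH Gen.f sp56 sp81 rfl rfl
theorem s0_f957 : ed sl_et sq81 = sq81 :=
  real_edge rels S fwd inv o lvl plet idx 47 IH Gen.e sp81 sp81 rfl rfl
theorem s0_f958 : ed sl_dt sq81 = sq116 :=
  real_edge rels S fwd inv o lvl plet idx 47 IH Gen.d sp81 sp116 rfl rfl
theorem s0_f963 : ed sl_ft sq241 = sq166 :=
  real_edge rels S fwd inv o lvl plet idx 47 IH Gen.f sp241 sp166 rfl rfl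
theorem s0_f964 : ed sl_et sq166 = sq166 :=
  real_edge rels S fwd inv o lvl plet idx 47 IH Gen.e sp166 sp166 rfl rfl
theorem s0_f965 : ed sl_dt sq166 = sq243 :=
  real_edge rels S fwd inv o lvl plet idx 47 IH Gen.d sp166 sp243 rfl rfl
theorem s0_f966 : ed sl_ct sq243 = sq243 :=
  real_edge rels S fwd inv o lvl plet idx 47 IH Gen.c sp243 sp243 rfl rfl
theorem s0_f967 : ed sl_bt sq243 = sq243 :=
  real_edge rels S fwd inv o lvl plet idx 47 IH Gen.b sp243 sp243 rfl rfl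
theorem s0_f972 : ed sl_dt sq353 = sq241 :=
  real_edge rels S fwd inv o lvl plet idx 47 IH Gen.d sp353 sp241 rfl rfl
theorem s0_f976 : ed sl_ht sq97 = sq65 :=
  real_edge rels S fwd inv o lvl plet idx 47 IH Gen.h sp97 sp65 rfl rfl
theorem s0_f977 : ed sl_ft sq65 = sq45 :=
  real_edge rels S fwd inv o lvl plet idx 47 IH Gen.f sp65 sp45 rfl rfl
theorem s0_f978 : ed sl_et sq45 = sq45 :=
  real_edge rels S fwd inv o lvl plet idx 47 IH Gen.e sp45 sp45 rfl rfl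
theorem s0_f979 : ed sl_dt sq45 = sq31 :=
  real_edge rels S fwd inv o lvl plet idx 47 IH Gen.d sp45 sp31 rfl rfl
theorem s0_f980 : ed sl_ct sq31 = sq23 :=
  real_edge rels S fwd inv o lvl plet idx 47 IH Gen.c sp31 sp23 rfl rfl
theorem s0_f983 : ed sl_ht sq18 = sq18 :=
  real_edge rels S fwd inv o lvl plet idx 47 IH Gen.h sp18 sp18 rfl rfl
theorem s0_f984 : ed sl_ft sq18 = sq25 :=
  real_edge rels S fwd inv o lvl plet idx 47 IH Gen.f sp18 sp25 rfl rfl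
theorem s0_f985 : ed sl_et sq25 = sq25 :=
  real_edge rels S fwd inv o lvl plet idx 47 IH Gen.e sp25 sp25 rfl rfl
theorem s0_f986 : ed sl_dt sq25 = sq25 :=
  real_edge rels S fwd inv o lvl plet idx 47 IH Gen.d sp25 sp25 rfl rfl
theorem s0_f988 : ed sl_bt sq25 = sq33 :=
  real_edge rels S fwd inv o lvl plet idx 47 IH Gen.b sp25 sp33 rfl rfl
theorem s0_f993 : ed sl_dt sq20 = sq15 :=
  real_edge rels S fwd inv o lvl plet idx 47 IH Gen.d sp20 sp15 rfl rfl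
theorem s0_f998 : ed sl_bt sq10 = sq10 :=
  real_edge rels S fwd inv o lvl plet idx 47 IH Gen.b sp10 sp10 rfl rfl
theorem s0_f999 : ed sl_ct sq10 = sq14 :=
  real_edge rels S fwd inv o lvl plet idx 47 IH Gen.c sp10 sp14 rfl rfl
theorem s0_f1000 : ed sl_et sq10 = sq10 :=
  real_edge rels S fwd inv o lvl plet idx 47 IH Gen.e sp10 sp10 rfl rfl
theorem s0_f1001 : ed sl_ft sq10 = sq10 :=
  real_edge rels S fwd inv o lvl plet idx 47 IH Gen.f sp10 sp10 rfl rfl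
theorem s0_f1004 : ed sl_dt sq14 = sq19 :=
  real_edge rels S fwd inv o lvl plet idx 47 IH Gen.d sp14 sp19 rfl rfl
theorem s0_f1005 : ed sl_it sq19 = sq13 :=
  real_edge rels S fwd inv o lvl plet idx 47 IH Gen.i sp19 sp13 rfl rfl
theorem s0_f1006 : ed sl_dt sq22 = sq22 :=
  real_edge rels S fwd inv o lvl plet idx 47 IH Gen.d sp22 sp22 rfl rfl
theorem s0_f1007 : ed sl_it sq22 = sq32 :=
  real_edge rels S fwd inv o lvl plet idx 47 IH Gen.i sp22 sp32 rfl rfl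
theorem s0_f1008 : ed sl_ht sq32 = sq48 :=
  real_edge rels S fwd inv o lvl plet idx 47 IH Gen.h sp32 sp48 rfl rfl
theorem s0_f1009 : ed sl_dt sq48 = sq71 :=
  real_edge rels S fwd inv o lvl plet idx 47 IH Gen.d sp48 sp71 rfl rfl
theorem s0_f1010 : ed sl_ft sq71 = sq71 :=
  real_edge rels S fwd inv o lvl plet idx 47 IH Gen.f sp71 sp71 rfl rfl
theorem s0_f1011 : ed sl_et sq71 = sq105 :=
  real_edge rels S fwd inv o lvl plet idx 47 IH Gen.e sp71 sp105 rfl rfl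
theorem s0_f1012 : ed sl_dt sq105 = sq152 :=
  real_edge rels S fwd inv o lvl plet idx 47 IH Gen.d sp105 sp152 rfl rfl
theorem s0_f1013 : ed sl_bt sq152 = sq152 :=
  real_edge rels S fwd inv o lvl plet idx 47 IH Gen.b sp152 sp152 rfl rfl
theorem s0_f1014 : ed sl_ct sq152 = sq222 :=
  real_edge rels S fwd inv o lvl plet idx 47 IH Gen.c sp152 sp222 rfl rfl
theorem s0_f1015 : ed sl_dt sq222 = sq222 :=
  real_edge rels S fwd inv o lvl plet idx 47 IH Gen.d sp222 sp222 rfl rfl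
theorem s0_f1016 : ed sl_it sq222 = sq222 :=
  real_edge rels S fwd inv o lvl plet idx 47 IH Gen.i sp222 sp222 rfl rfl
theorem s0_f1017 : ed sl_ht sq222 = sq315 :=
  real_edge rels S fwd inv o lvl plet idx 47 IH Gen.h sp222 sp315 rfl rfl
theorem s0_f1018 : ed sl_dt sq315 = sq463 :=
  real_edge rels S fwd inv o lvl plet idx 47 IH Gen.d sp315 sp463 rfl rfl
theorem s0_f1019 : ed sl_ft sq463 = sq670 :=
  real_edge rels S fwd inv o lvl plet idx 47 IH Gen.f sp463 sp670 rfl rfl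
theorem s0_f1020 : ed sl_et sq670 = sq955 :=
  real_edge rels S fwd inv o lvl plet idx 47 IH Gen.e sp670 sp955 rfl rfl
theorem s0_f1021 : ed sl_bt sq1314 = sq1808 :=
  real_edge rels S fwd inv o lvl plet idx 47 IH Gen.b sp1314 sp1808 rfl rfl
theorem s0_f1022 : ed sl_dt sq33 = sq33 :=
  real_edge rels S fwd inv o lvl plet idx 47 IH Gen.d sp33 sp33 rfl rfl
theorem s0_f1023 : ed sl_it sq50 = sq33 :=
  real_edge rels S fwd inv o lvl plet idx 47 IH Gen.i sp50 sp33 rfl rfl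
theorem s0_f1024 : ed sl_ct sq69 = sq50 :=
  real_edge rels S fwd inv o lvl plet idx 47 IH Gen.c sp69 sp50 rfl rfl
theorem s0_f1025 : ed sl_bt sq69 = sq69 :=
  real_edge rels S fwd inv o lvl plet idx 47 IH Gen.b sp69 sp69 rfl rfl
theorem s0_f1026 : ed sl_et sq140 = sq98 :=
  real_edge rels S fwd inv o lvl plet idx 47 IH Gen.e sp140 sp98 rfl rfl
theorem s0_f1027 : ed sl_ft sq140 = sq140 :=
  real_edge rels S fwd inv o lvl plet idx 47 IH Gen.f sp140 sp140 rfl rfl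
theorem s0_f1028 : ed sl_dt sq140 = sq140 :=
  real_edge rels S fwd inv o lvl plet idx 47 IH Gen.d sp140 sp140 rfl rfl
theorem s0_f1029 : ed sl_ht sq207 = sq140 :=
  real_edge rels S fwd inv o lvl plet idx 47 IH Gen.h sp207 sp140 rfl rfl
theorem s0_f1030 : ed sl_it sq303 = sq207 :=
  real_edge rels S fwd inv o lvl plet idx 47 IH Gen.i sp303 sp207 rfl rfl
theorem s0_f1031 : ed sl_dt sq445 = sq303 :=
  real_edge rels S fwd inv o lvl plet idx 47 IH Gen.d sp445 sp303 rfl rfl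
theorem s0_f1032 : ed sl_ct sq641 = sq445 :=
  real_edge rels S fwd inv o lvl plet idx 47 IH Gen.c sp641 sp445 rfl rfl
theorem s0_f1033 : ed sl_ct sq1808 = s0_v56 :=
  rfl
theorem s0_f1033r : ed sl_cf s0_v56 = sq1808 :=
  edge_flip (s0_f1033 IH)
theorem s0_f1039 : ed sl_cf sq1808 = s0_v56 :=
  gap_rel s0_rot0 (path_edge (s0_f1033r IH) (path_nil s0_v56))
theorem s0_f1040 : ed sl_dt sq1332 = sq1808 :=
  real_edge rels S fwd inv o lvl plet idx 47 IH Gen.d sp1332 sp1808 rfl rfl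
theorem s0_f1041 : ed sl_ct sq1834 = sq1332 :=
  real_edge rels S fwd inv o lvl plet idx 47 IH Gen.c sp1834 sp1332 rfl rfl
theorem s0_f1042 : ed sl_dt sq2487 = sq1834 :=
  real_edge rels S fwd inv o lvl plet idx 47 IH Gen.d sp2487 sp1834 rfl rfl
theorem s0_f1044 : ed sl_ft sq1808 = sq1808 :=
  real_edge rels S fwd inv o lvl plet idx 47 IH Gen.f sp1808 sp1808 rfl rfl
theorem s0_f1044r : ed sl_ff sq1808 = sq1808 :=
  edge_flip (s0_f1044 IH)
theorem s0_f1045 : ed sl_ff s0_v56 = s0_v56 :=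
  gap_rel s0_rot1 (path_edge (s0_f1039 IH) (path_edge (s0_f1044r IH) (path_edge (s0_f1033r IH) (path_nil s0_v56))))
theorem s0_f1047 : ed sl_jt sq1808 = sq1808 :=
  real_edge rels S fwd inv o lvl plet idx 47 IH Gen.j sp1808 sp1808 rfl rfl
theorem s0_f1047r : ed sl_jf sq1808 = sq1808 :=
  edge_flip (s0_f1047 IH)
theorem s0_f1048 : ed sl_jf s0_v56 = s0_v56 :=
  gap_rel s0_rot2 (path_edge (s0_f1039 IH) (path_edge (s0_f1047r IH) (path_edge (s0_f1033r IH) (path_nil s0_v56))))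
theorem s0_f1090 : ed sl_dt s0_v56 = s0_v57 :=
  rfl
theorem s0_f1090r : ed sl_df s0_v57 = s0_v56 :=
  edge_flip (s0_f1090 IH)
theorem s0_f1040r : ed sl_df sq1808 = sq1332 :=
  edge_flip (s0_f1040 IH)
theorem s0_f1041r : ed sl_cf sq1332 = sq1834 :=
  edge_flip (s0_f1041 IH)
theorem s0_f1042r : ed sl_df sq1834 = sq2487 :=
  edge_flip (s0_f1042 IH)
theorem s0_f1092 : ed sl_cf sq2487 = s0_v57 :=
  gap_rel s0_rot3 (path_edge (s0_f1042r IH) (path_edge (s0_f1041r IH) (path_edge (s0_f1040r IH) (path_edge (s0_f1033r IH) (path_edge (s0_f1090r IH) (path_nil s0_v57))))))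
theorem s0_f1093 : ed sl_df s0_v56 = s0_v57 :=
  gap_rel s0_rot4 (path_edge (s0_f1090r IH) (path_nil s0_v57))
theorem s0_f1094 : ed sl_ff s0_v57 = s0_v57 :=
  gap_rel s0_rot5 (path_edge (s0_f1093 IH) (path_edge (s0_f1045 IH) (path_edge (s0_f1090r IH) (path_nil s0_v57))))
theorem s0_f1095 : ed sl_jf s0_v57 = s0_v57 :=
  gap_rel s0_rot6 (path_edge (s0_f1093 IH) (path_edge (s0_f1048 IH) (path_edge (s0_f1090r IH) (path_nil s0_v57))))
theorem s0_f1101 : ed sl_jt sq2487 = sq2487 :=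
  real_edge rels S fwd inv o lvl plet idx 47 IH Gen.j sp2487 sp2487 rfl rfl
theorem s0_f1095r : ed sl_jt s0_v57 = s0_v57 :=
  edge_flip (s0_f1095 IH)
theorem s0_f1092r : ed sl_ct s0_v57 = sq2487 :=
  edge_flip (s0_f1092 IH)
theorem s0_f1102 : ed sl_ct sq2487 = s0_v57 :=
  gap_rel s0_rot7 (path_edge (s0_f1101 IH) (path_edge (s0_f1092r IH) (path_edge (s0_f1095r IH) (path_nil s0_v57))))
theorem s0_f1104 : ed sl_et sq2487 = sq2487 :=
  real_edge rels S fwd inv o lvl plet idx 47 IH Gen.e sp2487 sp2487 rfl rfl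
theorem s0_f1102r : ed sl_cf s0_v57 = sq2487 :=
  edge_flip (s0_f1102 IH)
theorem s0_f1104r : ed sl_ef sq2487 = sq2487 :=
  edge_flip (s0_f1104 IH)
theorem s0_f1105 : ed sl_ef s0_v57 = s0_v57 :=
  gap_rel s0_rot8 (path_edge (s0_f1092 IH) (path_edge (s0_f1104r IH) (path_edge (s0_f1102r IH) (path_nil s0_v57))))
theorem s0_f1111 : ed sl_dt sq952 = sq952 :=
  real_edge rels S fwd inv o lvl plet idx 47 IH Gen.d sp952 sp952 rfl rfl
theorem s0_f1123 : ed sl_dt sq310 = sq310 :=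
  real_edge rels S fwd inv o lvl plet idx 47 IH Gen.d sp310 sp310 rfl rfl
theorem s0_f1126 : ed sl_dt sq145 = sq213 :=
  real_edge rels S fwd inv o lvl plet idx 47 IH Gen.d sp145 sp213 rfl rfl
theorem s0_f1131 : ed sl_dt sq303 = sq445 :=
  real_edge rels S fwd inv o lvl plet idx 47 IH Gen.d sp303 sp445 rfl rfl
theorem s0_f1153 : ed sl_it s0_v57 = s0_v58 :=
  rfl
theorem s0_f1153r : ed sl_if s0_v58 = s0_v57 :=
  edge_flip (s0_f1153 IH)
theorem s0_f1155 : ed sl_if s0_v57 = s0_v58 :=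
  gap_rel s0_rot9 (path_edge (s0_f1153r IH) (path_nil s0_v58))
theorem s0_f1155r : ed sl_it s0_v58 = s0_v57 :=
  edge_flip (s0_f1155 IH)
theorem s0_f1105r : ed sl_et s0_v57 = s0_v57 :=
  edge_flip (s0_f1105 IH)
theorem s0_f1157 : ed sl_et s0_v58 = s0_v58 :=
  gap_rel s0_rot10 (path_edge (s0_f1153 IH) (path_edge (s0_f1105r IH) (path_edge (s0_f1155r IH) (path_nil s0_v58))))
theorem s0_f1094r : ed sl_ft s0_v57 = s0_v57 :=
  edge_flip (s0_f1094 IH)
theorem s0_f1158 : ed sl_ft s0_v58 = s0_v58 :=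
  gap_rel s0_rot11 (path_edge (s0_f1153 IH) (path_edge (s0_f1094r IH) (path_edge (s0_f1155r IH) (path_nil s0_v58))))
theorem s0_f1159 : ed sl_jt s0_v58 = s0_v58 :=
  gap_rel s0_rot12 (path_edge (s0_f1153 IH) (path_edge (s0_f1095r IH) (path_edge (s0_f1155r IH) (path_nil s0_v58))))
theorem s0_f1175 : ed sl_dt sq1820 = sq2472 :=
  real_edge rels S fwd inv o lvl plet idx 47 IH Gen.d sp1820 sp2472 rfl rfl
theorem s0_f1178 : ed sl_dt sq3286 = sq2471 :=
  real_edge rels S fwd inv o lvl plet idx 47 IH Gen.d sp3286 sp2471 rfl rfl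
theorem s0_f1180 : ed sl_it sq3286 = sq3286 :=
  real_edge rels S fwd inv o lvl plet idx 47 IH Gen.i sp3286 sp3286 rfl rfl
theorem s0_f1198 : ed sl_ht s0_v58 = s0_v59 :=
  rfl
theorem s0_f1198r : ed sl_hf s0_v59 = s0_v58 :=
  edge_flip (s0_f1198 IH)
theorem s0_f1199 : ed sl_hf s0_v58 = s0_v59 :=
  gap_rel s0_rot13 (path_edge (s0_f1198r IH) (path_nil s0_v59))
theorem s0_f1158r : ed sl_ff s0_v58 = s0_v58 :=
  edge_flip (s0_f1158 IH)
theorem s0_f1200 : ed sl_ff s0_v59 = s0_v59 :=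
  gap_rel s0_rot14 (path_edge (s0_f1199 IH) (path_edge (s0_f1158r IH) (path_edge (s0_f1198r IH) (path_nil s0_v59))))
theorem s0_f1159r : ed sl_jf s0_v58 = s0_v58 :=
  edge_flip (s0_f1159 IH)
theorem s0_f1201 : ed sl_jf s0_v59 = s0_v59 :=
  gap_rel s0_rot15 (path_edge (s0_f1199 IH) (path_edge (s0_f1159r IH) (path_edge (s0_f1198r IH) (path_nil s0_v59))))
theorem s0_f1199r : ed sl_ht s0_v59 = s0_v58 :=
  edge_flip (s0_f1199 IH)
theorem s0_f1202 : ed sl_et s0_v59 = s0_v59 :=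
  gap_rel s0_rot16 (path_edge (s0_f1198 IH) (path_edge (s0_f1157 IH) (path_edge (s0_f1199r IH) (path_nil s0_v59))))
theorem s0_f1203 : ed sl_dt s0_v59 = s0_v60 :=
  rfl
theorem s0_f1203r : ed sl_df s0_v60 = s0_v59 :=
  edge_flip (s0_f1203 IH)
theorem s0_f1204 : ed sl_df s0_v59 = s0_v60 :=
  gap_rel s0_rot4 (path_edge (s0_f1203r IH) (path_nil s0_v60))
theorem s0_f1205 : ed sl_ff s0_v60 = s0_v60 :=
  gap_rel s0_rot5 (path_edge (s0_f1204 IH) (path_edge (s0_f1200 IH) (path_edge (s0_f1203r IH) (path_nil s0_v60))))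
theorem s0_f1206 : ed sl_jf s0_v60 = s0_v60 :=
  gap_rel s0_rot6 (path_edge (s0_f1204 IH) (path_edge (s0_f1201 IH) (path_edge (s0_f1203r IH) (path_nil s0_v60))))
theorem s0_f1207 : ed sl_et s0_v60 = s0_v61 :=
  rfl
theorem s0_f1207r : ed sl_ef s0_v61 = s0_v60 :=
  edge_flip (s0_f1207 IH)
theorem s0_f1208 : ed sl_ef s0_v60 = s0_v61 :=
  gap_rel s0_rot17 (path_edge (s0_f1207r IH) (path_nil s0_v61))
theorem s0_f1209 : ed sl_jf s0_v61 = s0_v61 :=
  gap_rel s0_rot18 (path_edge (s0_f1208 IH) (path_edge (s0_f1206 IH) (path_edge (s0_f1207r IH) (path_nil s0_v61))))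
theorem s0_f1208r : ed sl_et s0_v61 = s0_v60 :=
  edge_flip (s0_f1208 IH)
theorem s0_f1204r : ed sl_dt s0_v60 = s0_v59 :=
  edge_flip (s0_f1204 IH)
theorem s0_f1210 : ed sl_dt s0_v61 = s0_v61 :=
  gap_rel s0_rot19 (path_edge (s0_f1207 IH) (path_edge (s0_f1203 IH) (path_edge (s0_f1202 IH) (path_edge (s0_f1204r IH) (path_edge (s0_f1208r IH) (path_nil s0_v61))))))
theorem s0_f1211 : ed sl_bt s0_v61 = s0_v62 :=
  rfl
theorem s0_f1211r : ed sl_bf s0_v62 = s0_v61 :=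
  edge_flip (s0_f1211 IH)
theorem s0_f1212 : ed sl_bf s0_v61 = s0_v62 :=
  gap_rel s0_rot20 (path_edge (s0_f1211r IH) (path_nil s0_v62))
theorem s0_f1214 : ed sl_jf s0_v62 = s0_v62 :=
  gap_rel s0_rot21 (path_edge (s0_f1212 IH) (path_edge (s0_f1209 IH) (path_edge (s0_f1211r IH) (path_nil s0_v62))))
theorem s0_f1215 : ed sl_ct s0_v62 = s0_v63 :=
  rfl
theorem s0_f1215r : ed sl_cf s0_v63 = s0_v62 :=
  edge_flip (s0_f1215 IH)
theorem s0_f1216 : ed sl_cf s0_v62 = s0_v63 :=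
  gap_rel s0_rot0 (path_edge (s0_f1215r IH) (path_nil s0_v63))
theorem s0_f1217 : ed sl_jf s0_v63 = s0_v63 :=
  gap_rel s0_rot2 (path_edge (s0_f1216 IH) (path_edge (s0_f1214 IH) (path_edge (s0_f1215r IH) (path_nil s0_v63))))
theorem s0_f1218 : ed sl_dt s0_v63 = s0_v64 :=
  rfl
theorem s0_f1218r : ed sl_df s0_v64 = s0_v63 :=
  edge_flip (s0_f1218 IH)
theorem s0_f1219 : ed sl_df s0_v63 = s0_v64 :=
  gap_rel s0_rot4 (path_edge (s0_f1218r IH) (path_nil s0_v64))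
theorem s0_f1220 : ed sl_jf s0_v64 = s0_v64 :=
  gap_rel s0_rot6 (path_edge (s0_f1219 IH) (path_edge (s0_f1217 IH) (path_edge (s0_f1218r IH) (path_nil s0_v64))))
theorem s0_f1222 : ed sl_it s0_v64 = s0_v65 :=
  rfl
theorem s0_f1222r : ed sl_if s0_v65 = s0_v64 :=
  edge_flip (s0_f1222 IH)
theorem s0_f1223 : ed sl_if s0_v64 = s0_v65 :=
  gap_rel s0_rot9 (path_edge (s0_f1222r IH) (path_nil s0_v65))
theorem s0_f1223r : ed sl_it s0_v65 = s0_v64 :=
  edge_flip (s0_f1223 IH)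
theorem s0_f1220r : ed sl_jt s0_v64 = s0_v64 :=
  edge_flip (s0_f1220 IH)
theorem s0_f1225 : ed sl_jt s0_v65 = s0_v65 :=
  gap_rel s0_rot12 (path_edge (s0_f1222 IH) (path_edge (s0_f1220r IH) (path_edge (s0_f1223r IH) (path_nil s0_v65))))
theorem s0_f1226 : ed sl_ht s0_v65 = s0_v66 :=
  rfl
theorem s0_f1226r : ed sl_hf s0_v66 = s0_v65 :=
  edge_flip (s0_f1226 IH)
theorem s0_f1227 : ed sl_hf s0_v65 = s0_v66 :=
  gap_rel s0_rot13 (path_edge (s0_f1226r IH) (path_nil s0_v66))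
theorem s0_f1225r : ed sl_jf s0_v65 = s0_v65 :=
  edge_flip (s0_f1225 IH)
theorem s0_f1228 : ed sl_jf s0_v66 = s0_v66 :=
  gap_rel s0_rot15 (path_edge (s0_f1227 IH) (path_edge (s0_f1225r IH) (path_edge (s0_f1226r IH) (path_nil s0_v66))))
theorem s0_f1230 : ed sl_dt s0_v66 = s0_v67 :=
  rfl
theorem s0_f1230r : ed sl_df s0_v67 = s0_v66 :=
  edge_flip (s0_f1230 IH)
theorem s0_f1231 : ed sl_df s0_v66 = s0_v67 :=
  gap_rel s0_rot4 (path_edge (s0_f1230r IH) (path_nil s0_v67))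
theorem s0_f1232 : ed sl_jf s0_v67 = s0_v67 :=
  gap_rel s0_rot6 (path_edge (s0_f1231 IH) (path_edge (s0_f1228 IH) (path_edge (s0_f1230r IH) (path_nil s0_v67))))
theorem s0_f1233 : ed sl_ft s0_v67 = s0_v68 :=
  rfl
theorem s0_f1233r : ed sl_ff s0_v68 = s0_v67 :=
  edge_flip (s0_f1233 IH)
theorem s0_f1234 : ed sl_ff s0_v67 = s0_v68 :=
  gap_rel s0_rot22 (path_edge (s0_f1233r IH) (path_nil s0_v68))
theorem s0_f1235 : ed sl_jf s0_v68 = s0_v68 :=
  gap_rel s0_rot23 (path_edge (s0_f1234 IH) (path_edge (s0_f1232 IH) (path_edge (s0_f1233r IH) (path_nil s0_v68))))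
theorem s0_f1236 : ed sl_et s0_v68 = s0_v69 :=
  rfl
theorem s0_f1236r : ed sl_ef s0_v69 = s0_v68 :=
  edge_flip (s0_f1236 IH)
theorem s0_f1237 : ed sl_ef s0_v68 = s0_v69 :=
  gap_rel s0_rot17 (path_edge (s0_f1236r IH) (path_nil s0_v69))
theorem s0_f1238 : ed sl_jf s0_v69 = s0_v69 :=
  gap_rel s0_rot18 (path_edge (s0_f1237 IH) (path_edge (s0_f1235 IH) (path_edge (s0_f1236r IH) (path_nil s0_v69))))
theorem s0_f1239 : ed sl_dt s0_v69 = s0_v70 :=
  rfl
theorem s0_f1239r : ed sl_df s0_v70 = s0_v69 :=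
  edge_flip (s0_f1239 IH)
theorem s0_f1240 : ed sl_df s0_v69 = s0_v70 :=
  gap_rel s0_rot4 (path_edge (s0_f1239r IH) (path_nil s0_v70))
theorem s0_f1241 : ed sl_jf s0_v70 = s0_v70 :=
  gap_rel s0_rot6 (path_edge (s0_f1240 IH) (path_edge (s0_f1238 IH) (path_edge (s0_f1239r IH) (path_nil s0_v70))))
theorem s0_f1242 : ed sl_bt s0_v70 = s0_v71 :=
  rfl
theorem s0_f1242r : ed sl_bf s0_v71 = s0_v70 :=
  edge_flip (s0_f1242 IH)
theorem s0_f1243 : ed sl_bf s0_v70 = s0_v71 :=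
  gap_rel s0_rot20 (path_edge (s0_f1242r IH) (path_nil s0_v71))
theorem s0_f1244 : ed sl_jf s0_v71 = s0_v71 :=
  gap_rel s0_rot21 (path_edge (s0_f1243 IH) (path_edge (s0_f1241 IH) (path_edge (s0_f1242r IH) (path_nil s0_v71))))
theorem s0_f1245 : ed sl_ct s0_v71 = s0_v72 :=
  rfl
theorem s0_f1245r : ed sl_cf s0_v72 = s0_v71 :=
  edge_flip (s0_f1245 IH)
theorem s0_f1246 : ed sl_cf s0_v71 = s0_v72 :=
  gap_rel s0_rot0 (path_edge (s0_f1245r IH) (path_nil s0_v72))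
theorem s0_f1247 : ed sl_jf s0_v72 = s0_v72 :=
  gap_rel s0_rot2 (path_edge (s0_f1246 IH) (path_edge (s0_f1244 IH) (path_edge (s0_f1245r IH) (path_nil s0_v72))))
theorem s0_f1248 : ed sl_dt s0_v72 = s0_v73 :=
  rfl
theorem s0_f1248r : ed sl_df s0_v73 = s0_v72 :=
  edge_flip (s0_f1248 IH)
theorem s0_f1249 : ed sl_df s0_v72 = s0_v73 :=
  gap_rel s0_rot4 (path_edge (s0_f1248r IH) (path_nil s0_v73))
theorem s0_f1250 : ed sl_jf s0_v73 = s0_v73 :=
  gap_rel s0_rot6 (path_edge (s0_f1249 IH) (path_edge (s0_f1247 IH) (path_edge (s0_f1248r IH) (path_nil s0_v73))))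
theorem s0_f1251 : ed sl_it s0_v73 = s0_v74 :=
  rfl
theorem s0_f1251r : ed sl_if s0_v74 = s0_v73 :=
  edge_flip (s0_f1251 IH)
theorem s0_f1252 : ed sl_if s0_v73 = s0_v74 :=
  gap_rel s0_rot9 (path_edge (s0_f1251r IH) (path_nil s0_v74))
theorem s0_f1252r : ed sl_it s0_v74 = s0_v73 :=
  edge_flip (s0_f1252 IH)
theorem s0_f1250r : ed sl_jt s0_v73 = s0_v73 :=
  edge_flip (s0_f1250 IH)
theorem s0_f1253 : ed sl_jt s0_v74 = s0_v74 :=
  gap_rel s0_rot12 (path_edge (s0_f1251 IH) (path_edge (s0_f1250r IH) (path_edge (s0_f1252r IH) (path_nil s0_v74))))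
theorem s0_f1254 : ed sl_ht s0_v74 = s0_v75 :=
  rfl
theorem s0_f1254r : ed sl_hf s0_v75 = s0_v74 :=
  edge_flip (s0_f1254 IH)
theorem s0_f1255 : ed sl_hf s0_v74 = s0_v75 :=
  gap_rel s0_rot13 (path_edge (s0_f1254r IH) (path_nil s0_v75))
theorem s0_f1253r : ed sl_jf s0_v74 = s0_v74 :=
  edge_flip (s0_f1253 IH)
theorem s0_f1256 : ed sl_jf s0_v75 = s0_v75 :=
  gap_rel s0_rot15 (path_edge (s0_f1255 IH) (path_edge (s0_f1253r IH) (path_edge (s0_f1254r IH) (path_nil s0_v75))))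
theorem s0_f1257 : ed sl_dt s0_v75 = s0_v76 :=
  rfl
theorem s0_f1257r : ed sl_df s0_v76 = s0_v75 :=
  edge_flip (s0_f1257 IH)
theorem s0_f1258 : ed sl_df s0_v75 = s0_v76 :=
  gap_rel s0_rot4 (path_edge (s0_f1257r IH) (path_nil s0_v76))
theorem s0_f1259 : ed sl_jf s0_v76 = s0_v76 :=
  gap_rel s0_rot6 (path_edge (s0_f1258 IH) (path_edge (s0_f1256 IH) (path_edge (s0_f1257r IH) (path_nil s0_v76))))
theorem s0_f1260 : ed sl_ft s0_v76 = s0_v77 :=
  rfl
theorem s0_f1260r : ed sl_ff s0_v77 = s0_v76 :=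
  edge_flip (s0_f1260 IH)
theorem s0_f1261 : ed sl_ff s0_v76 = s0_v77 :=
  gap_rel s0_rot22 (path_edge (s0_f1260r IH) (path_nil s0_v77))
theorem s0_f1262 : ed sl_jf s0_v77 = s0_v77 :=
  gap_rel s0_rot23 (path_edge (s0_f1261 IH) (path_edge (s0_f1259 IH) (path_edge (s0_f1260r IH) (path_nil s0_v77))))
theorem s0_f1263 : ed sl_et s0_v77 = s0_v78 :=
  rfl
theorem s0_f1263r : ed sl_ef s0_v78 = s0_v77 :=
  edge_flip (s0_f1263 IH)
theorem s0_f1264 : ed sl_ef s0_v77 = s0_v78 :=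
  gap_rel s0_rot17 (path_edge (s0_f1263r IH) (path_nil s0_v78))
theorem s0_f1265 : ed sl_jf s0_v78 = s0_v78 :=
  gap_rel s0_rot18 (path_edge (s0_f1264 IH) (path_edge (s0_f1262 IH) (path_edge (s0_f1263r IH) (path_nil s0_v78))))
theorem s0_f1266 : ed sl_dt s0_v78 = s0_v79 :=
  rfl
theorem s0_f1266r : ed sl_df s0_v79 = s0_v78 :=
  edge_flip (s0_f1266 IH)
theorem s0_f1267 : ed sl_df s0_v78 = s0_v79 :=
  gap_rel s0_rot4 (path_edge (s0_f1266r IH) (path_nil s0_v79))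
theorem s0_f1268 : ed sl_jf s0_v79 = s0_v79 :=
  gap_rel s0_rot6 (path_edge (s0_f1267 IH) (path_edge (s0_f1265 IH) (path_edge (s0_f1266r IH) (path_nil s0_v79))))
theorem s0_f1269 : ed sl_bt s0_v79 = s0_v80 :=
  rfl
theorem s0_f1269r : ed sl_bf s0_v80 = s0_v79 :=
  edge_flip (s0_f1269 IH)
theorem s0_f1270 : ed sl_bf s0_v79 = s0_v80 :=
  gap_rel s0_rot20 (path_edge (s0_f1269r IH) (path_nil s0_v80))
theorem s0_f1271 : ed sl_jf s0_v80 = s0_v80 :=
  gap_rel s0_rot21 (path_edge (s0_f1270 IH) (path_edge (s0_f1268 IH) (path_edge (s0_f1269r IH) (path_nil s0_v80))))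
theorem s0_f1272 : ed sl_ct s0_v80 = s0_v81 :=
  rfl
theorem s0_f1272r : ed sl_cf s0_v81 = s0_v80 :=
  edge_flip (s0_f1272 IH)
theorem s0_f1273 : ed sl_cf s0_v80 = s0_v81 :=
  gap_rel s0_rot0 (path_edge (s0_f1272r IH) (path_nil s0_v81))
theorem s0_f1274 : ed sl_jf s0_v81 = s0_v81 :=
  gap_rel s0_rot2 (path_edge (s0_f1273 IH) (path_edge (s0_f1271 IH) (path_edge (s0_f1272r IH) (path_nil s0_v81))))
theorem s0_f1275 : ed sl_dt s0_v81 = s0_v82 :=
  rfl
theorem s0_f1275r : ed sl_df s0_v82 = s0_v81 :=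
  edge_flip (s0_f1275 IH)
theorem s0_f1276 : ed sl_df s0_v81 = s0_v82 :=
  gap_rel s0_rot4 (path_edge (s0_f1275r IH) (path_nil s0_v82))
theorem s0_f1277 : ed sl_jf s0_v82 = s0_v82 :=
  gap_rel s0_rot6 (path_edge (s0_f1276 IH) (path_edge (s0_f1274 IH) (path_edge (s0_f1275r IH) (path_nil s0_v82))))
theorem s0_f1278 : ed sl_it s0_v82 = s0_v83 :=
  rfl
theorem s0_f1278r : ed sl_if s0_v83 = s0_v82 :=
  edge_flip (s0_f1278 IH)
theorem s0_f1279 : ed sl_if s0_v82 = s0_v83 :=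
  gap_rel s0_rot9 (path_edge (s0_f1278r IH) (path_nil s0_v83))
theorem s0_f1279r : ed sl_it s0_v83 = s0_v82 :=
  edge_flip (s0_f1279 IH)
theorem s0_f1277r : ed sl_jt s0_v82 = s0_v82 :=
  edge_flip (s0_f1277 IH)
theorem s0_f1280 : ed sl_jt s0_v83 = s0_v83 :=
  gap_rel s0_rot12 (path_edge (s0_f1278 IH) (path_edge (s0_f1277r IH) (path_edge (s0_f1279r IH) (path_nil s0_v83))))
theorem s0_f1281 : ed sl_ht s0_v83 = s0_v84 :=
  rfl
theorem s0_f1281r : ed sl_hf s0_v84 = s0_v83 :=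
  edge_flip (s0_f1281 IH)
theorem s0_f1282 : ed sl_hf s0_v83 = s0_v84 :=
  gap_rel s0_rot13 (path_edge (s0_f1281r IH) (path_nil s0_v84))
theorem s0_f1280r : ed sl_jf s0_v83 = s0_v83 :=
  edge_flip (s0_f1280 IH)
theorem s0_f1283 : ed sl_jf s0_v84 = s0_v84 :=
  gap_rel s0_rot15 (path_edge (s0_f1282 IH) (path_edge (s0_f1280r IH) (path_edge (s0_f1281r IH) (path_nil s0_v84))))
theorem s0_f1284 : ed sl_dt s0_v84 = s0_v85 :=
  rfl
theorem s0_f1284r : ed sl_df s0_v85 = s0_v84 :=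
  edge_flip (s0_f1284 IH)
theorem s0_f1285 : ed sl_df s0_v84 = s0_v85 :=
  gap_rel s0_rot4 (path_edge (s0_f1284r IH) (path_nil s0_v85))
theorem s0_f1286 : ed sl_jf s0_v85 = s0_v85 :=
  gap_rel s0_rot6 (path_edge (s0_f1285 IH) (path_edge (s0_f1283 IH) (path_edge (s0_f1284r IH) (path_nil s0_v85))))
theorem s0_f1287 : ed sl_ft s0_v85 = s0_v86 :=
  rfl
theorem s0_f1287r : ed sl_ff s0_v86 = s0_v85 :=
  edge_flip (s0_f1287 IH)
theorem s0_f1288 : ed sl_ff s0_v85 = s0_v86 :=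
  gap_rel s0_rot22 (path_edge (s0_f1287r IH) (path_nil s0_v86))
theorem s0_f1289 : ed sl_jf s0_v86 = s0_v86 :=
  gap_rel s0_rot23 (path_edge (s0_f1288 IH) (path_edge (s0_f1286 IH) (path_edge (s0_f1287r IH) (path_nil s0_v86))))
theorem s0_f1290 : ed sl_et s0_v86 = s0_v87 :=
  rfl
theorem s0_f1290r : ed sl_ef s0_v87 = s0_v86 :=
  edge_flip (s0_f1290 IH)
theorem s0_f1291 : ed sl_ef s0_v86 = s0_v87 :=
  gap_rel s0_rot17 (path_edge (s0_f1290r IH) (path_nil s0_v87))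
theorem s0_f1292 : ed sl_jf s0_v87 = s0_v87 :=
  gap_rel s0_rot18 (path_edge (s0_f1291 IH) (path_edge (s0_f1289 IH) (path_edge (s0_f1290r IH) (path_nil s0_v87))))
theorem s0_f1293 : ed sl_dt s0_v87 = s0_v88 :=
  rfl
theorem s0_f1293r : ed sl_df s0_v88 = s0_v87 :=
  edge_flip (s0_f1293 IH)
theorem s0_f1294 : ed sl_df s0_v87 = s0_v88 :=
  gap_rel s0_rot4 (path_edge (s0_f1293r IH) (path_nil s0_v88))
theorem s0_f1210r : ed sl_df s0_v61 = s0_v61 :=
  edge_flip (s0_f1210 IH)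
theorem s0_f1021r : ed sl_bf sq1808 = sq1314 :=
  edge_flip (s0_f1021 IH)
theorem s0_f833r : ed sl_df sq1314 = sq955 :=
  edge_flip (s0_f833 IH)
theorem s0_f1020r : ed sl_ef sq955 = sq670 :=
  edge_flip (s0_f1020 IH)
theorem s0_f1019r : ed sl_ff sq670 = sq463 :=
  edge_flip (s0_f1019 IH)
theorem s0_f1018r : ed sl_df sq463 = sq315 :=
  edge_flip (s0_f1018 IH)
theorem s0_f1017r : ed sl_hf sq315 = sq222 :=
  edge_flip (s0_f1017 IH)
theorem s0_f1016r : ed sl_if sq222 = sq222 :=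
  edge_flip (s0_f1016 IH)
theorem s0_f1015r : ed sl_df sq222 = sq222 :=
  edge_flip (s0_f1015 IH)
theorem s0_f1014r : ed sl_cf sq222 = sq152 :=
  edge_flip (s0_f1014 IH)
theorem s0_f1013r : ed sl_bf sq152 = sq152 :=
  edge_flip (s0_f1013 IH)
theorem s0_f1012r : ed sl_df sq152 = sq105 :=
  edge_flip (s0_f1012 IH)
theorem s0_f1011r : ed sl_ef sq105 = sq71 :=
  edge_flip (s0_f1011 IH)
theorem s0_f1010r : ed sl_ff sq71 = sq71 :=
  edge_flip (s0_f1010 IH)
theorem s0_f1009r : ed sl_df sq71 = sq48 :=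
  edge_flip (s0_f1009 IH)
theorem s0_f1008r : ed sl_hf sq48 = sq32 :=
  edge_flip (s0_f1008 IH)
theorem s0_f1007r : ed sl_if sq32 = sq22 :=
  edge_flip (s0_f1007 IH)
theorem s0_f1006r : ed sl_df sq22 = sq22 :=
  edge_flip (s0_f1006 IH)
theorem s0_f896r : ed sl_cf sq22 = sq16 :=
  edge_flip (s0_f896 IH)
theorem s0_f946r : ed sl_bf sq16 = sq13 :=
  edge_flip (s0_f946 IH)
theorem s0_f48r : ed sl_df sq13 = sq9 :=
  edge_flip (s0_f48 IH)
theorem s0_f938r : ed sl_ef sq9 = sq9 :=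
  edge_flip (s0_f938 IH)
theorem s0_f942r : ed sl_ff sq9 = sq9 :=
  edge_flip (s0_f942 IH)
theorem s0_f427r : ed sl_df sq9 = sq13 :=
  edge_flip (s0_f427 IH)
theorem s0_f937r : ed sl_hf sq13 = sq13 :=
  edge_flip (s0_f937 IH)
theorem s0_f1005r : ed sl_if sq13 = sq19 :=
  edge_flip (s0_f1005 IH)
theorem s0_f1004r : ed sl_df sq19 = sq14 :=
  edge_flip (s0_f1004 IH)
theorem s0_f999r : ed sl_cf sq14 = sq10 :=
  edge_flip (s0_f999 IH)
theorem s0_f998r : ed sl_bf sq10 = sq10 :=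
  edge_flip (s0_f998 IH)
theorem s0_f68r : ed sl_df sq10 = sq10 :=
  edge_flip (s0_f68 IH)
theorem s0_f1000r : ed sl_ef sq10 = sq10 :=
  edge_flip (s0_f1000 IH)
theorem s0_f1001r : ed sl_ff sq10 = sq10 :=
  edge_flip (s0_f1001 IH)
theorem s0_f880r : ed sl_hf sq10 = sq10 :=
  edge_flip (s0_f880 IH)
theorem s0_f879r : ed sl_if sq10 = sq7 :=
  edge_flip (s0_f879 IH)
theorem s0_f443r : ed sl_df sq7 = sq7 :=
  edge_flip (s0_f443 IH)
theorem s0_f428r : ed sl_cf sq7 = sq9 :=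
  edge_flip (s0_f428 IH)
theorem s0_f932r : ed sl_bf sq9 = sq12 :=
  edge_flip (s0_f932 IH)
theorem s0_f930r : ed sl_df sq12 = sq16 :=
  edge_flip (s0_f930 IH)
theorem s0_f929r : ed sl_ef sq16 = sq23 :=
  edge_flip (s0_f929 IH)
theorem s0_f928r : ed sl_ff sq23 = sq33 :=
  edge_flip (s0_f928 IH)
theorem s0_f1022r : ed sl_df sq33 = sq33 :=
  edge_flip (s0_f1022 IH)
theorem s0_f927r : ed sl_hf sq33 = sq33 :=
  edge_flip (s0_f927 IH)
theorem s0_f1023r : ed sl_if sq33 = sq50 :=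
  edge_flip (s0_f1023 IH)
theorem s0_f74r : ed sl_df sq50 = sq50 :=
  edge_flip (s0_f74 IH)
theorem s0_f1024r : ed sl_cf sq50 = sq69 :=
  edge_flip (s0_f1024 IH)
theorem s0_f1025r : ed sl_bf sq69 = sq69 :=
  edge_flip (s0_f1025 IH)
theorem s0_f476r : ed sl_df sq69 = sq98 :=
  edge_flip (s0_f476 IH)
theorem s0_f1026r : ed sl_ef sq98 = sq140 :=
  edge_flip (s0_f1026 IH)
theorem s0_f1027r : ed sl_ff sq140 = sq140 :=
  edge_flip (s0_f1027 IH)
theorem s0_f1028r : ed sl_df sq140 = sq140 :=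
  edge_flip (s0_f1028 IH)
theorem s0_f1029r : ed sl_hf sq140 = sq207 :=
  edge_flip (s0_f1029 IH)
theorem s0_f1030r : ed sl_if sq207 = sq303 :=
  edge_flip (s0_f1030 IH)
theorem s0_f1031r : ed sl_df sq303 = sq445 :=
  edge_flip (s0_f1031 IH)
theorem s0_f1032r : ed sl_cf sq445 = sq641 :=
  edge_flip (s0_f1032 IH)
theorem s0_f1296 : ed sl_bf sq641 = s0_v88 :=
  gap_rel s0_rot24 (path_edge (s0_f1032r IH) (path_edge (s0_f1031r IH) (path_edge (s0_f1030r IH) (path_edge (s0_f1029r IH) (path_edge (s0_f1028r IH) (path_edge (s0_f1027r IH) (path_edge (s0_f1026r IH) (path_edge (s0_f476r IH) (path_edge (s0_f1025r IH) (path_edge (s0_f1024r IH) (path_edge (s0_f74r IH) (path_edge (s0_f1023r IH) (path_edge (s0_f927r IH) (path_edge (s0_f1022r IH) (path_edge (s0_f928r IH) (path_edge (s0_f929r IH) (path_edge (s0_f930r IH) (path_edge (s0_f932r IH) (path_edge (s0_f428r IH) (path_edge (s0_f443r IH) (path_edge (s0_f879r IH)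 (path_edge (s0_f880r IH) (path_edge (s0_f68r IH) (path_edge (s0_f1001r IH) (path_edge (s0_f1000r IH) (path_edge (s0_f68r IH) (path_edge (s0_f998r IH) (path_edge (s0_f999r IH) (path_edge (s0_f1004r IH) (path_edge (s0_f1005r IH) (path_edge (s0_f937r IH) (path_edge (s0_f427r IH) (path_edge (s0_f942r IH) (path_edge (s0_f938r IH) (path_edge (s0_f48r IH) (path_edge (s0_f946r IH) (path_edge (s0_f896r IH) (path_edge (s0_f1006r IH) (path_edge (s0_f1007r IH) (path_edge (s0_f1008r IH) (path_edge (s0_f1009r IH) (path_edge (s0_f1010r IH) (path_edge (s0_f1011r IH) (path_edge (s0_f1012r IH) (path_edge (s0_f1013r IH) (path_edge (s0_f1014r IH) (path_edge (s0_f1015r IH) (path_edge (s0_f1016r IH) (path_edge (s0_f1017r IH) (path_edge (s0_f1018r IH) (path_edge (s0_f1019r IH) (path_edge (s0_f1020r IH) (path_edge (s0_f833r IH) (path_edge (s0_f1021r IH) (path_edge (s0_f1033r IH) (path_edge (s0_f1090r IH) (path_edge (s0_f1153r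 IH) (path_edge (s0_f1198r IH) (path_edge (s0_f1203r IH) (path_edge (s0_f1205 IH) (path_edge (s0_f1207r IH) (path_edge (s0_f1210r IH) (path_edge (s0_f1211r IH) (path_edge (s0_f1215r IH) (path_edge (s0_f1218r IH) (path_edge (s0_f1222r IH) (path_edge (s0_f1226r IH) (path_edge (s0_f1230r IH) (path_edge (s0_f1233r IH) (path_edge (s0_f1236r IH) (path_edge (s0_f1239r IH) (path_edge (s0_f1242r IH) (path_edge (s0_f1245r IH) (path_edge (s0_f1248r IH) (path_edge (s0_f1251r IH) (path_edge (s0_f1254r IH) (path_edge (s0_f1257r IH) (path_edge (s0_f1260r IH) (path_edge (s0_f1263r IH) (path_edge (s0_f1266r IH) (path_edge (s0_f1269r IH) (path_edge (s0_f1272r IH) (path_edge (s0_f1275r IH) (path_edge (s0_f1278r IH) (path_edge (s0_f1281r IH) (path_edge (s0_f1284r IH) (path_edge (s0_f1287r IH) (path_edge (s0_f1290r IH) (path_edge (s0_f1293r IH) (path_nil s0_v88))))))))))))))))))))))))))))))))))))))))))))))))))))))))))))))))))))))))))))))))))))))))))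
theorem s0_f1298 : ed sl_bt sq819 = sq1149 :=
  real_edge rels S fwd inv o lvl plet idx 47 IH Gen.b sp819 sp1149 rfl rfl
theorem s0_f1296r : ed sl_bt s0_v88 = sq641 :=
  edge_flip (s0_f1296 IH)
theorem s0_f1299 : ed sl_bt sq641 = s0_v88 :=
  gap_rel s0_rot25 (path_edge (s0_f1296r IH) (path_nil s0_v88))
theorem s0_f1300 : ed sl_bt sq445 = sq445 :=
  real_edge rels S fwd inv o lvl plet idx 47 IH Gen.b sp445 sp445 rfl rfl
theorem s0_f1301 : ed sl_ct sq445 = sq641 :=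
  real_edge rels S fwd inv o lvl plet idx 47 IH Gen.c sp445 sp641 rfl rfl
theorem s0_f1302 : ed sl_ct s0_v88 = s0_v88 :=
  gap_rel s0_rot26 (path_edge (s0_f1299 IH) (path_edge (s0_f1301 IH) (path_edge (s0_f1300 IH) (path_edge (s0_f1032 IH) (path_edge (s0_f1296r IH) (path_nil s0_v88))))))
theorem s0_f1303 : ed sl_dt sq641 = sq641 :=
  real_edge rels S fwd inv o lvl plet idx 47 IH Gen.d sp641 sp641 rfl rfl
theorem s0_f1305 : ed sl_ft sq641 = sq641 :=
  real_edge rels S fwd inv o lvl plet idx 47 IH Gen.f sp641 sp641 rfl rfl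
theorem s0_f1306 : ed sl_ft s0_v88 = s0_v88 :=
  gap_rel s0_rot27 (path_edge (s0_f1299 IH) (path_edge (s0_f1305 IH) (path_edge (s0_f1296r IH) (path_nil s0_v88))))
theorem s0_f1309 : ed sl_it sq641 = sq446 :=
  real_edge rels S fwd inv o lvl plet idx 47 IH Gen.i sp641 sp446 rfl rfl
theorem s0_f1310 : ed sl_bt sq446 = sq643 :=
  real_edge rels S fwd inv o lvl plet idx 47 IH Gen.b sp446 sp643 rfl rfl
theorem s0_f1311 : ed sl_it sq643 = s0_v88 :=
  gap_rel s0_rot28 (path_edge (s0_f1310 IH) (path_edge (s0_f1309 IH) (path_edge (s0_f1296r IH) (path_nil s0_v88))))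
theorem s0_f1294r : ed sl_dt s0_v88 = s0_v87 :=
  edge_flip (s0_f1294 IH)
theorem s0_f1312 : s0_v87 = s0_v88 :=
  (loop_rel s0_rot29 (path_edge (s0_f1294r IH) (path_edge (s0_f1299 IH) (path_edge (s0_f1303 IH) (path_edge (s0_f1296r IH) (path_nil s0_v88)))))).symm
theorem s0_f1313 : ed sl_ct sq643 = sq643 :=
  real_edge rels S fwd inv o lvl plet idx 47 IH Gen.c sp643 sp643 rfl rfl
theorem s0_f1319 : ed sl_jt sq643 = sq643 :=
  real_edge rels S fwd inv o lvl plet idx 47 IH Gen.j sp643 sp643 rfl rfl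
theorem s0_f1395 : ed sl_dt sq74 = sq108 :=
  real_edge rels S fwd inv o lvl plet idx 47 IH Gen.d sp74 sp108 rfl rfl
theorem s0_f1405 : ed sl_dt sq19 = sq14 :=
  real_edge rels S fwd inv o lvl plet idx 47 IH Gen.d sp19 sp14 rfl rfl
theorem s0_f1476 : ed sl_it sq344 = sq344 :=
  real_edge rels S fwd inv o lvl plet idx 47 IH Gen.i sp344 sp344 rfl rfl
theorem s0_f1526 : ed sl_dt sq214 = sq146 :=
  real_edge rels S fwd inv o lvl plet idx 47 IH Gen.d sp214 sp146 rfl rfl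
theorem s0_f1527 : ed sl_ft sq146 = sq212 :=
  real_edge rels S fwd inv o lvl plet idx 47 IH Gen.f sp146 sp212 rfl rfl
theorem s0_f1528 : ed sl_et sq212 = sq303 :=
  real_edge rels S fwd inv o lvl plet idx 47 IH Gen.e sp212 sp303 rfl rfl
theorem s0_f1529 : ed sl_ht sq446 = sq446 :=
  real_edge rels S fwd inv o lvl plet idx 47 IH Gen.h sp446 sp446 rfl rfl
theorem s0_f1552 : ed sl_it sq446 = sq641 :=
  real_edge rels S fwd inv o lvl plet idx 47 IH Gen.i sp446 sp641 rfl rfl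
theorem s0_f1561 : ed sl_bt sq1149 = sq819 :=
  real_edge rels S fwd inv o lvl plet idx 47 IH Gen.b sp1149 sp819 rfl rfl
theorem s0_f1563 : ed sl_ht sq99 = sq146 :=
  real_edge rels S fwd inv o lvl plet idx 47 IH Gen.h sp99 sp146 rfl rfl
theorem s0_f1564 : ed sl_at sq127 = sq99 :=
  real_edge rels S fwd inv o lvl plet idx 47 IH Gen.a sp127 sp99 rfl rfl
theorem s0_f1565 : ed sl_bt sq172 = sq127 :=
  real_edge rels S fwd inv o lvl plet idx 47 IH Gen.b sp172 sp127 rfl rfl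
theorem s0_f1566 : ed sl_ct sq244 = sq172 :=
  real_edge rels S fwd inv o lvl plet idx 47 IH Gen.c sp244 sp172 rfl rfl
theorem s0_f1567 : ed sl_dt sq357 = sq244 :=
  real_edge rels S fwd inv o lvl plet idx 47 IH Gen.d sp357 sp244 rfl rfl
theorem s0_f1568 : ed sl_et sq517 = sq357 :=
  real_edge rels S fwd inv o lvl plet idx 47 IH Gen.e sp517 sp357 rfl rfl
theorem s0_f1569 : ed sl_ft sq517 = sq517 :=
  real_edge rels S fwd inv o lvl plet idx 47 IH Gen.f sp517 sp517 rfl rfl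
theorem s0_f1570 : ed sl_ht sq736 = sq517 :=
  real_edge rels S fwd inv o lvl plet idx 47 IH Gen.h sp736 sp517 rfl rfl
theorem s0_f1571 : ed sl_at sq736 = sq736 :=
  real_edge rels S fwd inv o lvl plet idx 47 IH Gen.a sp736 sp736 rfl rfl
theorem s0_f1572 : ed sl_bt sq736 = sq736 :=
  real_edge rels S fwd inv o lvl plet idx 47 IH Gen.b sp736 sp736 rfl rfl
theorem s0_f1573 : ed sl_ct sq736 = sq736 :=
  real_edge rels S fwd inv o lvl plet idx 47 IH Gen.c sp736 sp736 rfl rfl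
theorem s0_f1574 : ed sl_dt sq1031 = sq736 :=
  real_edge rels S fwd inv o lvl plet idx 47 IH Gen.d sp1031 sp736 rfl rfl
theorem s0_f1575 : ed sl_et sq1424 = sq1031 :=
  real_edge rels S fwd inv o lvl plet idx 47 IH Gen.e sp1424 sp1031 rfl rfl
theorem s0_f1576 : ed sl_ft sq1945 = sq1424 :=
  real_edge rels S fwd inv o lvl plet idx 47 IH Gen.f sp1945 sp1424 rfl rfl
theorem s0_f1577 : ed sl_ht sq1945 = sq1945 :=
  real_edge rels S fwd inv o lvl plet idx 47 IH Gen.h sp1945 sp1945 rfl rfl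
theorem s0_f1578 : ed sl_at sq1945 = sq1945 :=
  real_edge rels S fwd inv o lvl plet idx 47 IH Gen.a sp1945 sp1945 rfl rfl
theorem s0_f1579 : ed sl_bt sq1945 = sq1945 :=
  real_edge rels S fwd inv o lvl plet idx 47 IH Gen.b sp1945 sp1945 rfl rfl
theorem s0_f1580 : ed sl_ct sq2627 = sq1945 :=
  real_edge rels S fwd inv o lvl plet idx 47 IH Gen.c sp2627 sp1945 rfl rfl
theorem s0_f1581 : ed sl_dt sq3472 = sq2627 :=
  real_edge rels S fwd inv o lvl plet idx 47 IH Gen.d sp3472 sp2627 rfl rfl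
theorem s0_f1582 : ed sl_et sq4462 = sq3472 :=
  real_edge rels S fwd inv o lvl plet idx 47 IH Gen.e sp4462 sp3472 rfl rfl
theorem s0_f1583 : ed sl_ft sq4462 = sq4462 :=
  real_edge rels S fwd inv o lvl plet idx 47 IH Gen.f sp4462 sp4462 rfl rfl
theorem s0_f1586 : ed sl_it sq11 = sq11 :=
  real_edge rels S fwd inv o lvl plet idx 47 IH Gen.i sp11 sp11 rfl rfl
theorem s0_f1587 : ed sl_ht sq16 = sq16 :=
  real_edge rels S fwd inv o lvl plet idx 47 IH Gen.h sp16 sp16 rfl rfl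
theorem s0_f1588 : ed sl_it sq12 = sq17 :=
  real_edge rels S fwd inv o lvl plet idx 47 IH Gen.i sp12 sp17 rfl rfl
theorem s0_f1589 : ed sl_ht sq17 = sq17 :=
  real_edge rels S fwd inv o lvl plet idx 47 IH Gen.h sp17 sp17 rfl rfl
theorem s0_f1594 : ed sl_dt sq23 = sq23 :=
  real_edge rels S fwd inv o lvl plet idx 47 IH Gen.d sp23 sp23 rfl rfl
theorem s0_f1609 : ed sl_dt sq17 = sq24 :=
  real_edge rels S fwd inv o lvl plet idx 47 IH Gen.d sp17 sp24 rfl rfl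
theorem s0_f1624 : ed sl_dt sq1321 = sq945 :=
  real_edge rels S fwd inv o lvl plet idx 47 IH Gen.d sp1321 sp945 rfl rfl
theorem s0_f1647 : ed sl_et sq4638 = sq3598 :=
  real_edge rels S fwd inv o lvl plet idx 47 IH Gen.e sp4638 sp3598 rfl rfl
theorem s0_f1709 : ed sl_ht sq1192 = sq1192 :=
  real_edge rels S fwd inv o lvl plet idx 47 IH Gen.h sp1192 sp1192 rfl rfl
theorem s0_f1870 : ed sl_ct sq583 = sq402 :=
  real_edge rels S fwd inv o lvl plet idx 47 IH Gen.c sp583 sp402 rfl rfl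
theorem s0_f1915 : ed sl_dt sq537 = sq371 :=
  real_edge rels S fwd inv o lvl plet idx 47 IH Gen.d sp537 sp371 rfl rfl
theorem s0_f1958 : ed sl_bt sq14 = sq17 :=
  real_edge rels S fwd inv o lvl plet idx 47 IH Gen.b sp14 sp17 rfl rfl
theorem s0_f1963 : ed sl_ft sq19 = sq19 :=
  real_edge rels S fwd inv o lvl plet idx 47 IH Gen.f sp19 sp19 rfl rfl
theorem s0_f1964 : ed sl_et sq19 = sq26 :=
  real_edge rels S fwd inv o lvl plet idx 47 IH Gen.e sp19 sp26 rfl rfl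
theorem s0_f1965 : ed sl_dt sq26 = sq26 :=
  real_edge rels S fwd inv o lvl plet idx 47 IH Gen.d sp26 sp26 rfl rfl
theorem s0_f1966 : ed sl_bt sq26 = sq34 :=
  real_edge rels S fwd inv o lvl plet idx 47 IH Gen.b sp26 sp34 rfl rfl
theorem s0_f1967 : ed sl_ct sq34 = sq47 :=
  real_edge rels S fwd inv o lvl plet idx 47 IH Gen.c sp34 sp47 rfl rfl
theorem s0_f1968 : ed sl_dt sq47 = sq67 :=
  real_edge rels S fwd inv o lvl plet idx 47 IH Gen.d sp47 sp67 rfl rfl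
theorem s0_f1969 : ed sl_it sq67 = sq45 :=
  real_edge rels S fwd inv o lvl plet idx 47 IH Gen.i sp67 sp45 rfl rfl
theorem s0_f1970 : ed sl_ht sq45 = sq66 :=
  real_edge rels S fwd inv o lvl plet idx 47 IH Gen.h sp45 sp66 rfl rfl
theorem s0_f1971 : ed sl_dt sq66 = sq66 :=
  real_edge rels S fwd inv o lvl plet idx 47 IH Gen.d sp66 sp66 rfl rfl
theorem s0_f1972 : ed sl_ft sq66 = sq97 :=
  real_edge rels S fwd inv o lvl plet idx 47 IH Gen.f sp66 sp97 rfl rfl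
theorem s0_f1973 : ed sl_et sq97 = sq139 :=
  real_edge rels S fwd inv o lvl plet idx 47 IH Gen.e sp97 sp139 rfl rfl
theorem s0_f1974 : ed sl_dt sq139 = sq205 :=
  real_edge rels S fwd inv o lvl plet idx 47 IH Gen.d sp139 sp205 rfl rfl
theorem s0_f1975 : ed sl_bt sq205 = sq205 :=
  real_edge rels S fwd inv o lvl plet idx 47 IH Gen.b sp205 sp205 rfl rfl
theorem s0_f1976 : ed sl_ct sq205 = sq301 :=
  real_edge rels S fwd inv o lvl plet idx 47 IH Gen.c sp205 sp301 rfl rfl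
theorem s0_f1977 : ed sl_dt sq301 = sq301 :=
  real_edge rels S fwd inv o lvl plet idx 47 IH Gen.d sp301 sp301 rfl rfl
theorem s0_f1978 : ed sl_it sq301 = sq443 :=
  real_edge rels S fwd inv o lvl plet idx 47 IH Gen.i sp301 sp443 rfl rfl
theorem s0_f1979 : ed sl_bt sq16 = sq13 :=
  real_edge rels S fwd inv o lvl plet idx 47 IH Gen.b sp16 sp13 rfl rfl
theorem s0_f1980 : ed sl_it sq24 = sq16 :=
  real_edge rels S fwd inv o lvl plet idx 47 IH Gen.i sp24 sp16 rfl rfl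
theorem s0_f1981 : ed sl_ct sq17 = sq17 :=
  real_edge rels S fwd inv o lvl plet idx 47 IH Gen.c sp17 sp17 rfl rfl
theorem s0_f1982 : ed sl_et sq26 = sq19 :=
  real_edge rels S fwd inv o lvl plet idx 47 IH Gen.e sp26 sp19 rfl rfl
theorem s0_f1983 : ed sl_ft sq37 = sq26 :=
  real_edge rels S fwd inv o lvl plet idx 47 IH Gen.f sp37 sp26 rfl rfl
theorem s0_f1984 : ed sl_dt sq37 = sq37 :=
  real_edge rels S fwd inv o lvl plet idx 47 IH Gen.d sp37 sp37 rfl rfl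
theorem s0_f1985 : ed sl_ht sq54 = sq37 :=
  real_edge rels S fwd inv o lvl plet idx 47 IH Gen.h sp54 sp37 rfl rfl
theorem s0_f1986 : ed sl_it sq54 = sq54 :=
  real_edge rels S fwd inv o lvl plet idx 47 IH Gen.i sp54 sp54 rfl rfl
theorem s0_f1987 : ed sl_bt sq162 = sq112 :=
  real_edge rels S fwd inv o lvl plet idx 47 IH Gen.b sp162 sp112 rfl rfl
theorem s0_f1988 : ed sl_dt sq162 = sq162 :=
  real_edge rels S fwd inv o lvl plet idx 47 IH Gen.d sp162 sp162 rfl rfl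
theorem s0_f1989 : ed sl_et sq237 = sq162 :=
  real_edge rels S fwd inv o lvl plet idx 47 IH Gen.e sp237 sp162 rfl rfl
theorem s0_f1990 : ed sl_ft sq237 = sq237 :=
  real_edge rels S fwd inv o lvl plet idx 47 IH Gen.f sp237 sp237 rfl rfl
theorem s0_f1991 : ed sl_ht sq443 = s0_v119 :=
  rfl
theorem s0_f1992 : ed sl_at sq573 = sq443 :=
  real_edge rels S fwd inv o lvl plet idx 47 IH Gen.a sp573 sp443 rfl rfl
theorem s0_f1993 : ed sl_ct sq302 = sq443 :=
  real_edge rels S fwd inv o lvl plet idx 47 IH Gen.c sp302 sp443 rfl rfl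
theorem s0_f1994 : ed sl_ht sq444 = sq302 :=
  real_edge rels S fwd inv o lvl plet idx 47 IH Gen.h sp444 sp302 rfl rfl
theorem s0_f1991r : ed sl_hf s0_v119 = sq443 :=
  edge_flip (s0_f1991 IH)
theorem s0_f1993r : ed sl_cf sq443 = sq302 :=
  edge_flip (s0_f1993 IH)
theorem s0_f1994r : ed sl_hf sq302 = sq444 :=
  edge_flip (s0_f1994 IH)
theorem s0_f1995 : ed sl_cf sq444 = s0_v119 :=
  gap_rel s0_rot30 (path_edge (s0_f1994r IH) (path_edge (s0_f1993r IH) (path_edge (s0_f1991r IH) (path_nil s0_v119))))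
theorem s0_f1996 : ed sl_dt sq443 = sq443 :=
  real_edge rels S fwd inv o lvl plet idx 47 IH Gen.d sp443 sp443 rfl rfl
theorem s0_f1997 : ed sl_et sq443 = sq443 :=
  real_edge rels S fwd inv o lvl plet idx 47 IH Gen.e sp443 sp443 rfl rfl
theorem s0_f1998 : ed sl_hf sq443 = s0_v119 :=
  gap_rel s0_rot13 (path_edge (s0_f1991r IH) (path_nil s0_v119))
theorem s0_f1999 : ed sl_ht sq301 = sq301 :=
  real_edge rels S fwd inv o lvl plet idx 47 IH Gen.h sp301 sp301 rfl rfl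
theorem s0_f2000 : ed sl_it sq443 = sq301 :=
  real_edge rels S fwd inv o lvl plet idx 47 IH Gen.i sp443 sp301 rfl rfl
theorem s0_f1978r : ed sl_if sq443 = sq301 :=
  edge_flip (s0_f1978 IH)
theorem s0_f1999r : ed sl_hf sq301 = sq301 :=
  edge_flip (s0_f1999 IH)
theorem s0_f2000r : ed sl_if sq301 = sq443 :=
  edge_flip (s0_f2000 IH)
theorem s0_f2001 : ed sl_if s0_v119 = s0_v119 :=
  gap_rel s0_rot31 (path_edge (s0_f1998 IH) (path_edge (s0_f2000r IH) (path_edge (s0_f1999r IH) (path_edge (s0_f1978r IH) (path_edge (s0_f1991r IH) (path_nil s0_v119))))))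
theorem s0_f2002 : ed sl_ft sq443 = sq443 :=
  real_edge rels S fwd inv o lvl plet idx 47 IH Gen.f sp443 sp443 rfl rfl
theorem s0_f2002r : ed sl_ff sq443 = sq443 :=
  edge_flip (s0_f2002 IH)
theorem s0_f2003 : ed sl_ff s0_v119 = s0_v119 :=
  gap_rel s0_rot14 (path_edge (s0_f1998 IH) (path_edge (s0_f2002r IH) (path_edge (s0_f1991r IH) (path_nil s0_v119))))
theorem s0_f2005 : ed sl_jt sq443 = sq443 :=
  real_edge rels S fwd inv o lvl plet idx 47 IH Gen.j sp443 sp443 rfl rfl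
theorem s0_f2005r : ed sl_jf sq443 = sq443 :=
  edge_flip (s0_f2005 IH)
theorem s0_f2006 : ed sl_jf s0_v119 = s0_v119 :=
  gap_rel s0_rot15 (path_edge (s0_f1998 IH) (path_edge (s0_f2005r IH) (path_edge (s0_f1991r IH) (path_nil s0_v119))))
theorem s0_f2007 : ed sl_bt sq573 = sq573 :=
  real_edge rels S fwd inv o lvl plet idx 47 IH Gen.b sp573 sp573 rfl rfl
theorem s0_f2008 : ed sl_ct sq395 = sq573 :=
  real_edge rels S fwd inv o lvl plet idx 47 IH Gen.c sp395 sp573 rfl rfl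
theorem s0_f2009 : ed sl_dt sq268 = sq395 :=
  real_edge rels S fwd inv o lvl plet idx 47 IH Gen.d sp268 sp395 rfl rfl
theorem s0_f2010 : ed sl_et sq186 = sq268 :=
  real_edge rels S fwd inv o lvl plet idx 47 IH Gen.e sp186 sp268 rfl rfl
theorem s0_f2011 : ed sl_ft sq127 = sq186 :=
  real_edge rels S fwd inv o lvl plet idx 47 IH Gen.f sp127 sp186 rfl rfl
theorem s0_f2012 : ed sl_ht sq188 = sq127 :=
  real_edge rels S fwd inv o lvl plet idx 47 IH Gen.h sp188 sp127 rfl rfl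
theorem s0_f2013 : ed sl_at sq146 = sq188 :=
  real_edge rels S fwd inv o lvl plet idx 47 IH Gen.a sp146 sp188 rfl rfl
theorem s0_f2014 : ed sl_bt sq146 = sq146 :=
  real_edge rels S fwd inv o lvl plet idx 47 IH Gen.b sp146 sp146 rfl rfl
theorem s0_f2015 : ed sl_ct sq146 = sq146 :=
  real_edge rels S fwd inv o lvl plet idx 47 IH Gen.c sp146 sp146 rfl rfl
theorem s0_f2016 : ed sl_et sq313 = sq214 :=
  real_edge rels S fwd inv o lvl plet idx 47 IH Gen.e sp313 sp214 rfl rfl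
theorem s0_f2017 : ed sl_ft sq460 = sq313 :=
  real_edge rels S fwd inv o lvl plet idx 47 IH Gen.f sp460 sp313 rfl rfl
theorem s0_f2018 : ed sl_ht sq460 = sq460 :=
  real_edge rels S fwd inv o lvl plet idx 47 IH Gen.h sp460 sp460 rfl rfl
theorem s0_f2019 : ed sl_at sq590 = sq460 :=
  real_edge rels S fwd inv o lvl plet idx 47 IH Gen.a sp590 sp460 rfl rfl
theorem s0_f2020 : ed sl_bt sq771 = sq590 :=
  real_edge rels S fwd inv o lvl plet idx 47 IH Gen.b sp771 sp590 rfl rfl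
theorem s0_f2021 : ed sl_ct sq1083 = sq771 :=
  real_edge rels S fwd inv o lvl plet idx 47 IH Gen.c sp1083 sp771 rfl rfl
theorem s0_f2022 : ed sl_dt sq1500 = sq1083 :=
  real_edge rels S fwd inv o lvl plet idx 47 IH Gen.d sp1500 sp1083 rfl rfl
theorem s0_f2023 : ed sl_et sq2058 = sq1500 :=
  real_edge rels S fwd inv o lvl plet idx 47 IH Gen.e sp2058 sp1500 rfl rfl
theorem s0_f2024 : ed sl_ft sq2642 = sq2058 :=
  real_edge rels S fwd inv o lvl plet idx 47 IH Gen.f sp2642 sp2058 rfl rfl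
theorem s0_f2025 : ed sl_ht sq3490 = sq2642 :=
  real_edge rels S fwd inv o lvl plet idx 47 IH Gen.h sp3490 sp2642 rfl rfl
theorem s0_f2026 : ed sl_at sq3490 = sq3490 :=
  real_edge rels S fwd inv o lvl plet idx 47 IH Gen.a sp3490 sp3490 rfl rfl
theorem s0_f2027 : ed sl_bt sq4479 = sq3490 :=
  real_edge rels S fwd inv o lvl plet idx 47 IH Gen.b sp4479 sp3490 rfl rfl
theorem s0_f2028 : ed sl_jt sq444 = sq444 :=
  real_edge rels S fwd inv o lvl plet idx 47 IH Gen.j sp444 sp444 rfl rfl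
theorem s0_f2006r : ed sl_jt s0_v119 = s0_v119 :=
  edge_flip (s0_f2006 IH)
theorem s0_f1995r : ed sl_ct s0_v119 = sq444 :=
  edge_flip (s0_f1995 IH)
theorem s0_f2029 : ed sl_ct sq444 = s0_v119 :=
  gap_rel s0_rot7 (path_edge (s0_f2028 IH) (path_edge (s0_f1995r IH) (path_edge (s0_f2006r IH) (path_nil s0_v119))))
theorem s0_f2029r : ed sl_cf s0_v119 = sq444 :=
  edge_flip (s0_f2029 IH)
theorem s0_f676r : ed sl_ef sq444 = sq444 :=
  edge_flip (s0_f676 IH)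
theorem s0_f2032 : ed sl_ef s0_v119 = s0_v119 :=
  gap_rel s0_rot8 (path_edge (s0_f1995 IH) (path_edge (s0_f676r IH) (path_edge (s0_f2029r IH) (path_nil s0_v119))))
theorem s0_f2034 : ed sl_ct sq443 = sq302 :=
  real_edge rels S fwd inv o lvl plet idx 47 IH Gen.c sp443 sp302 rfl rfl
theorem s0_f2036 : ed sl_it sq444 = sq444 :=
  real_edge rels S fwd inv o lvl plet idx 47 IH Gen.i sp444 sp444 rfl rfl
theorem s0_f2060 : ed sl_bt sq302 = sq302 :=
  real_edge rels S fwd inv o lvl plet idx 47 IH Gen.b sp302 sp302 rfl rfl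
theorem s0_f2062 : ed sl_ht sq395 = sq574 :=
  real_edge rels S fwd inv o lvl plet idx 47 IH Gen.h sp395 sp574 rfl rfl
theorem s0_f2068 : ed sl_it sq640 = sq640 :=
  real_edge rels S fwd inv o lvl plet idx 47 IH Gen.i sp640 sp640 rfl rfl
theorem s0_f2069 : ed sl_ht sq640 = sq445 :=
  real_edge rels S fwd inv o lvl plet idx 47 IH Gen.h sp640 sp445 rfl rfl
theorem s0_f2096 : ed sl_ht sq574 = sq395 :=
  real_edge rels S fwd inv o lvl plet idx 47 IH Gen.h sp574 sp395 rfl rfl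
theorem s0_f2097 : ed sl_ft sq395 = sq395 :=
  real_edge rels S fwd inv o lvl plet idx 47 IH Gen.f sp395 sp395 rfl rfl
theorem s0_f2098 : ed sl_et sq395 = sq395 :=
  real_edge rels S fwd inv o lvl plet idx 47 IH Gen.e sp395 sp395 rfl rfl
theorem s0_f2099 : ed sl_dt sq395 = sq268 :=
  real_edge rels S fwd inv o lvl plet idx 47 IH Gen.d sp395 sp268 rfl rfl
theorem s0_f2101 : ed sl_bt sq268 = sq365 :=
  real_edge rels S fwd inv o lvl plet idx 47 IH Gen.b sp268 sp365 rfl rfl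
theorem s0_f2114 : ed sl_dt s0_v119 = s0_v120 :=
  rfl
theorem s0_f2114r : ed sl_df s0_v120 = s0_v119 :=
  edge_flip (s0_f2114 IH)
theorem s0_f2115 : ed sl_df s0_v119 = s0_v120 :=
  gap_rel s0_rot4 (path_edge (s0_f2114r IH) (path_nil s0_v120))
theorem s0_f1996r : ed sl_df sq443 = sq443 :=
  edge_flip (s0_f1996 IH)
theorem s0_f2116 : ed sl_hf s0_v120 = s0_v120 :=
  gap_rel s0_rot32 (path_edge (s0_f2115 IH) (path_edge (s0_f1998 IH) (path_edge (s0_f1996r IH) (path_edge (s0_f1991r IH) (path_edge (s0_f2114r IH) (path_nil s0_v120))))))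
theorem s0_f2117 : ed sl_ff s0_v120 = s0_v120 :=
  gap_rel s0_rot5 (path_edge (s0_f2115 IH) (path_edge (s0_f2003 IH) (path_edge (s0_f2114r IH) (path_nil s0_v120))))
theorem s0_f2118 : ed sl_jf s0_v120 = s0_v120 :=
  gap_rel s0_rot6 (path_edge (s0_f2115 IH) (path_edge (s0_f2006 IH) (path_edge (s0_f2114r IH) (path_nil s0_v120))))
theorem s0_f2119 : ed sl_if s0_v120 = s0_v120 :=
  gap_rel s0_rot33 (path_edge (s0_f2115 IH) (path_edge (s0_f2001 IH) (path_edge (s0_f2114r IH) (path_nil s0_v120))))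
theorem s0_f2120 : ed sl_et s0_v120 = s0_v121 :=
  rfl
theorem s0_f2120r : ed sl_ef s0_v121 = s0_v120 :=
  edge_flip (s0_f2120 IH)
theorem s0_f2121 : ed sl_ef s0_v120 = s0_v121 :=
  gap_rel s0_rot17 (path_edge (s0_f2120r IH) (path_nil s0_v121))
theorem s0_f2122 : ed sl_hf s0_v121 = s0_v121 :=
  gap_rel s0_rot34 (path_edge (s0_f2121 IH) (path_edge (s0_f2116 IH) (path_edge (s0_f2120r IH) (path_nil s0_v121))))
theorem s0_f2123 : ed sl_jf s0_v121 = s0_v121 :=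
  gap_rel s0_rot18 (path_edge (s0_f2121 IH) (path_edge (s0_f2118 IH) (path_edge (s0_f2120r IH) (path_nil s0_v121))))
theorem s0_f2124 : ed sl_if s0_v121 = s0_v121 :=
  gap_rel s0_rot35 (path_edge (s0_f2121 IH) (path_edge (s0_f2119 IH) (path_edge (s0_f2120r IH) (path_nil s0_v121))))
theorem s0_f2121r : ed sl_et s0_v121 = s0_v120 :=
  edge_flip (s0_f2121 IH)
theorem s0_f2115r : ed sl_dt s0_v120 = s0_v119 :=
  edge_flip (s0_f2115 IH)
theorem s0_f2032r : ed sl_et s0_v119 = s0_v119 :=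
  edge_flip (s0_f2032 IH)
theorem s0_f2125 : ed sl_dt s0_v121 = s0_v121 :=
  gap_rel s0_rot19 (path_edge (s0_f2120 IH) (path_edge (s0_f2114 IH) (path_edge (s0_f2032r IH) (path_edge (s0_f2115r IH) (path_edge (s0_f2121r IH) (path_nil s0_v121))))))
theorem s0_f2126 : ed sl_bt s0_v121 = s0_v122 :=
  rfl
theorem s0_f2126r : ed sl_bf s0_v122 = s0_v121 :=
  edge_flip (s0_f2126 IH)
theorem s0_f2127 : ed sl_bf s0_v121 = s0_v122 :=
  gap_rel s0_rot20 (path_edge (s0_f2126r IH) (path_nil s0_v122))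
theorem s0_f2125r : ed sl_df s0_v121 = s0_v121 :=
  edge_flip (s0_f2125 IH)
theorem s0_f2128 : ed sl_df s0_v122 = s0_v122 :=
  gap_rel s0_rot36 (path_edge (s0_f2127 IH) (path_edge (s0_f2125r IH) (path_edge (s0_f2126r IH) (path_nil s0_v122))))
theorem s0_f2129 : ed sl_hf s0_v122 = s0_v122 :=
  gap_rel s0_rot37 (path_edge (s0_f2127 IH) (path_edge (s0_f2122 IH) (path_edge (s0_f2126r IH) (path_nil s0_v122))))
theorem s0_f2130 : ed sl_jf s0_v122 = s0_v122 :=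
  gap_rel s0_rot21 (path_edge (s0_f2127 IH) (path_edge (s0_f2123 IH) (path_edge (s0_f2126r IH) (path_nil s0_v122))))
theorem s0_f2131 : ed sl_if s0_v122 = s0_v122 :=
  gap_rel s0_rot38 (path_edge (s0_f2127 IH) (path_edge (s0_f2124 IH) (path_edge (s0_f2126r IH) (path_nil s0_v122))))
theorem s0_f2132 : ed sl_ct s0_v122 = s0_v123 :=
  rfl
theorem s0_f2132r : ed sl_cf s0_v123 = s0_v122 :=
  edge_flip (s0_f2132 IH)
theorem s0_f2133 : ed sl_cf s0_v122 = s0_v123 :=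
  gap_rel s0_rot0 (path_edge (s0_f2132r IH) (path_nil s0_v123))
theorem s0_f2134 : ed sl_hf s0_v123 = s0_v123 :=
  gap_rel s0_rot39 (path_edge (s0_f2133 IH) (path_edge (s0_f2129 IH) (path_edge (s0_f2132r IH) (path_nil s0_v123))))
theorem s0_f2135 : ed sl_jf s0_v123 = s0_v123 :=
  gap_rel s0_rot2 (path_edge (s0_f2133 IH) (path_edge (s0_f2130 IH) (path_edge (s0_f2132r IH) (path_nil s0_v123))))
theorem s0_f2136 : ed sl_if s0_v123 = s0_v123 :=
  gap_rel s0_rot40 (path_edge (s0_f2133 IH) (path_edge (s0_f2131 IH) (path_edge (s0_f2132r IH) (path_nil s0_v123))))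
theorem s0_f2137 : ed sl_dt s0_v123 = s0_v124 :=
  rfl
theorem s0_f2137r : ed sl_df s0_v124 = s0_v123 :=
  edge_flip (s0_f2137 IH)
theorem s0_f2138 : ed sl_df s0_v123 = s0_v124 :=
  gap_rel s0_rot4 (path_edge (s0_f2137r IH) (path_nil s0_v124))
theorem s0_f2139 : ed sl_jf s0_v124 = s0_v124 :=
  gap_rel s0_rot6 (path_edge (s0_f2138 IH) (path_edge (s0_f2135 IH) (path_edge (s0_f2137r IH) (path_nil s0_v124))))
theorem s0_f2140 : ed sl_if s0_v124 = s0_v124 :=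
  gap_rel s0_rot33 (path_edge (s0_f2138 IH) (path_edge (s0_f2136 IH) (path_edge (s0_f2137r IH) (path_nil s0_v124))))
theorem s0_f2142 : ed sl_ht s0_v124 = s0_v125 :=
  rfl
theorem s0_f2142r : ed sl_hf s0_v125 = s0_v124 :=
  edge_flip (s0_f2142 IH)
theorem s0_f2143 : ed sl_hf s0_v124 = s0_v125 :=
  gap_rel s0_rot13 (path_edge (s0_f2142r IH) (path_nil s0_v125))
theorem s0_f2144 : ed sl_jf s0_v125 = s0_v125 :=
  gap_rel s0_rot15 (path_edge (s0_f2143 IH) (path_edge (s0_f2139 IH) (path_edge (s0_f2142r IH) (path_nil s0_v125))))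
theorem s0_f2143r : ed sl_ht s0_v125 = s0_v124 :=
  edge_flip (s0_f2143 IH)
theorem s0_f2138r : ed sl_dt s0_v124 = s0_v123 :=
  edge_flip (s0_f2138 IH)
theorem s0_f2134r : ed sl_ht s0_v123 = s0_v123 :=
  edge_flip (s0_f2134 IH)
theorem s0_f2146 : ed sl_dt s0_v125 = s0_v125 :=
  gap_rel s0_rot41 (path_edge (s0_f2142 IH) (path_edge (s0_f2137 IH) (path_edge (s0_f2134r IH) (path_edge (s0_f2138r IH) (path_edge (s0_f2143r IH) (path_nil s0_v125))))))
theorem s0_f2147 : ed sl_ft s0_v125 = s0_v126 :=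
  rfl
theorem s0_f2147r : ed sl_ff s0_v126 = s0_v125 :=
  edge_flip (s0_f2147 IH)
theorem s0_f2148 : ed sl_ff s0_v125 = s0_v126 :=
  gap_rel s0_rot22 (path_edge (s0_f2147r IH) (path_nil s0_v126))
theorem s0_f2149 : ed sl_jf s0_v126 = s0_v126 :=
  gap_rel s0_rot23 (path_edge (s0_f2148 IH) (path_edge (s0_f2144 IH) (path_edge (s0_f2147r IH) (path_nil s0_v126))))
theorem s0_f2152 : ed sl_et s0_v126 = s0_v127 :=
  rfl
theorem s0_f2152r : ed sl_ef s0_v127 = s0_v126 :=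
  edge_flip (s0_f2152 IH)
theorem s0_f2153 : ed sl_ef s0_v126 = s0_v127 :=
  gap_rel s0_rot17 (path_edge (s0_f2152r IH) (path_nil s0_v127))
theorem s0_f2154 : ed sl_jf s0_v127 = s0_v127 :=
  gap_rel s0_rot18 (path_edge (s0_f2153 IH) (path_edge (s0_f2149 IH) (path_edge (s0_f2152r IH) (path_nil s0_v127))))
theorem s0_f2156 : ed sl_dt s0_v127 = s0_v128 :=
  rfl
theorem s0_f2156r : ed sl_df s0_v128 = s0_v127 :=
  edge_flip (s0_f2156 IH)
theorem s0_f2157 : ed sl_df s0_v127 = s0_v128 :=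
  gap_rel s0_rot4 (path_edge (s0_f2156r IH) (path_nil s0_v128))
theorem s0_f2159 : ed sl_jf s0_v128 = s0_v128 :=
  gap_rel s0_rot6 (path_edge (s0_f2157 IH) (path_edge (s0_f2154 IH) (path_edge (s0_f2156r IH) (path_nil s0_v128))))
theorem s0_f2160 : ed sl_bt s0_v128 = s0_v129 :=
  rfl
theorem s0_f2160r : ed sl_bf s0_v129 = s0_v128 :=
  edge_flip (s0_f2160 IH)
theorem s0_f2161 : ed sl_bf s0_v128 = s0_v129 :=
  gap_rel s0_rot20 (path_edge (s0_f2160r IH) (path_nil s0_v129))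
theorem s0_f2163 : ed sl_jf s0_v129 = s0_v129 :=
  gap_rel s0_rot21 (path_edge (s0_f2161 IH) (path_edge (s0_f2159 IH) (path_edge (s0_f2160r IH) (path_nil s0_v129))))
theorem s0_f2164 : ed sl_ct s0_v129 = s0_v130 :=
  rfl
theorem s0_f2164r : ed sl_cf s0_v130 = s0_v129 :=
  edge_flip (s0_f2164 IH)
theorem s0_f2165 : ed sl_cf s0_v129 = s0_v130 :=
  gap_rel s0_rot0 (path_edge (s0_f2164r IH) (path_nil s0_v130))
theorem s0_f2167 : ed sl_jf s0_v130 = s0_v130 :=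
  gap_rel s0_rot2 (path_edge (s0_f2165 IH) (path_edge (s0_f2163 IH) (path_edge (s0_f2164r IH) (path_nil s0_v130))))
theorem s0_f2168 : ed sl_dt s0_v130 = s0_v131 :=
  rfl
theorem s0_f2168r : ed sl_df s0_v131 = s0_v130 :=
  edge_flip (s0_f2168 IH)
theorem s0_f2169 : ed sl_df s0_v130 = s0_v131 :=
  gap_rel s0_rot4 (path_edge (s0_f2168r IH) (path_nil s0_v131))
theorem s0_f2170 : ed sl_jf s0_v131 = s0_v131 :=
  gap_rel s0_rot6 (path_edge (s0_f2169 IH) (path_edge (s0_f2167 IH) (path_edge (s0_f2168r IH) (path_nil s0_v131))))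
theorem s0_f2171 : ed sl_it s0_v131 = s0_v132 :=
  rfl
theorem s0_f2171r : ed sl_if s0_v132 = s0_v131 :=
  edge_flip (s0_f2171 IH)
theorem s0_f2172 : ed sl_if s0_v131 = s0_v132 :=
  gap_rel s0_rot9 (path_edge (s0_f2171r IH) (path_nil s0_v132))
theorem s0_f2172r : ed sl_it s0_v132 = s0_v131 :=
  edge_flip (s0_f2172 IH)
theorem s0_f2170r : ed sl_jt s0_v131 = s0_v131 :=
  edge_flip (s0_f2170 IH)
theorem s0_f2173 : ed sl_jt s0_v132 = s0_v132 :=
  gap_rel s0_rot12 (path_edge (s0_f2171 IH) (path_edge (s0_f2170r IH) (path_edge (s0_f2172r IH) (path_nil s0_v132))))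
theorem s0_f2174 : ed sl_ht s0_v132 = s0_v133 :=
  rfl
theorem s0_f2174r : ed sl_hf s0_v133 = s0_v132 :=
  edge_flip (s0_f2174 IH)
theorem s0_f2175 : ed sl_hf s0_v132 = s0_v133 :=
  gap_rel s0_rot13 (path_edge (s0_f2174r IH) (path_nil s0_v133))
theorem s0_f2173r : ed sl_jf s0_v132 = s0_v132 :=
  edge_flip (s0_f2173 IH)
theorem s0_f2176 : ed sl_jf s0_v133 = s0_v133 :=
  gap_rel s0_rot15 (path_edge (s0_f2175 IH) (path_edge (s0_f2173r IH) (path_edge (s0_f2174r IH) (path_nil s0_v133))))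
theorem s0_f2177 : ed sl_dt s0_v133 = s0_v134 :=
  rfl
theorem s0_f2177r : ed sl_df s0_v134 = s0_v133 :=
  edge_flip (s0_f2177 IH)
theorem s0_f2178 : ed sl_df s0_v133 = s0_v134 :=
  gap_rel s0_rot4 (path_edge (s0_f2177r IH) (path_nil s0_v134))
theorem s0_f2179 : ed sl_jf s0_v134 = s0_v134 :=
  gap_rel s0_rot6 (path_edge (s0_f2178 IH) (path_edge (s0_f2176 IH) (path_edge (s0_f2177r IH) (path_nil s0_v134))))
theorem s0_f2180 : ed sl_ft s0_v134 = s0_v135 :=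
  rfl
theorem s0_f2180r : ed sl_ff s0_v135 = s0_v134 :=
  edge_flip (s0_f2180 IH)
theorem s0_f2181 : ed sl_ff s0_v134 = s0_v135 :=
  gap_rel s0_rot22 (path_edge (s0_f2180r IH) (path_nil s0_v135))
theorem s0_f2182 : ed sl_jf s0_v135 = s0_v135 :=
  gap_rel s0_rot23 (path_edge (s0_f2181 IH) (path_edge (s0_f2179 IH) (path_edge (s0_f2180r IH) (path_nil s0_v135))))
theorem s0_f2183 : ed sl_et s0_v135 = s0_v136 :=
  rfl
theorem s0_f2183r : ed sl_ef s0_v136 = s0_v135 :=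
  edge_flip (s0_f2183 IH)
theorem s0_f2184 : ed sl_ef s0_v135 = s0_v136 :=
  gap_rel s0_rot17 (path_edge (s0_f2183r IH) (path_nil s0_v136))
theorem s0_f2185 : ed sl_jf s0_v136 = s0_v136 :=
  gap_rel s0_rot18 (path_edge (s0_f2184 IH) (path_edge (s0_f2182 IH) (path_edge (s0_f2183r IH) (path_nil s0_v136))))
theorem s0_f2186 : ed sl_dt s0_v136 = s0_v137 :=
  rfl
theorem s0_f2186r : ed sl_df s0_v137 = s0_v136 :=
  edge_flip (s0_f2186 IH)
theorem s0_f2187 : ed sl_df s0_v136 = s0_v137 :=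
  gap_rel s0_rot4 (path_edge (s0_f2186r IH) (path_nil s0_v137))
theorem s0_f2188 : ed sl_jf s0_v137 = s0_v137 :=
  gap_rel s0_rot6 (path_edge (s0_f2187 IH) (path_edge (s0_f2185 IH) (path_edge (s0_f2186r IH) (path_nil s0_v137))))
theorem s0_f2189 : ed sl_bt s0_v137 = s0_v138 :=
  rfl
theorem s0_f2189r : ed sl_bf s0_v138 = s0_v137 :=
  edge_flip (s0_f2189 IH)
theorem s0_f2190 : ed sl_bf s0_v137 = s0_v138 :=
  gap_rel s0_rot20 (path_edge (s0_f2189r IH) (path_nil s0_v138))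
theorem s0_f2191 : ed sl_jf s0_v138 = s0_v138 :=
  gap_rel s0_rot21 (path_edge (s0_f2190 IH) (path_edge (s0_f2188 IH) (path_edge (s0_f2189r IH) (path_nil s0_v138))))
theorem s0_f2192 : ed sl_ct s0_v138 = s0_v139 :=
  rfl
theorem s0_f2192r : ed sl_cf s0_v139 = s0_v138 :=
  edge_flip (s0_f2192 IH)
theorem s0_f2193 : ed sl_cf s0_v138 = s0_v139 :=
  gap_rel s0_rot0 (path_edge (s0_f2192r IH) (path_nil s0_v139))
theorem s0_f2194 : ed sl_jf s0_v139 = s0_v139 :=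
  gap_rel s0_rot2 (path_edge (s0_f2193 IH) (path_edge (s0_f2191 IH) (path_edge (s0_f2192r IH) (path_nil s0_v139))))
theorem s0_f2195 : ed sl_dt s0_v139 = s0_v140 :=
  rfl
theorem s0_f2195r : ed sl_df s0_v140 = s0_v139 :=
  edge_flip (s0_f2195 IH)
theorem s0_f2196 : ed sl_df s0_v139 = s0_v140 :=
  gap_rel s0_rot4 (path_edge (s0_f2195r IH) (path_nil s0_v140))
theorem s0_f2197 : ed sl_jf s0_v140 = s0_v140 :=
  gap_rel s0_rot6 (path_edge (s0_f2196 IH) (path_edge (s0_f2194 IH) (path_edge (s0_f2195r IH) (path_nil s0_v140))))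
theorem s0_f2198 : ed sl_it s0_v140 = s0_v141 :=
  rfl
theorem s0_f2198r : ed sl_if s0_v141 = s0_v140 :=
  edge_flip (s0_f2198 IH)
theorem s0_f2199 : ed sl_if s0_v140 = s0_v141 :=
  gap_rel s0_rot9 (path_edge (s0_f2198r IH) (path_nil s0_v141))
theorem s0_f2199r : ed sl_it s0_v141 = s0_v140 :=
  edge_flip (s0_f2199 IH)
theorem s0_f2197r : ed sl_jt s0_v140 = s0_v140 :=
  edge_flip (s0_f2197 IH)
theorem s0_f2200 : ed sl_jt s0_v141 = s0_v141 :=
  gap_rel s0_rot12 (path_edge (s0_f2198 IH) (path_edge (s0_f2197r IH) (path_edge (s0_f2199r IH) (path_nil s0_v141))))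
theorem s0_f2201 : ed sl_ht s0_v141 = s0_v142 :=
  rfl
theorem s0_f2201r : ed sl_hf s0_v142 = s0_v141 :=
  edge_flip (s0_f2201 IH)
theorem s0_f2202 : ed sl_hf s0_v141 = s0_v142 :=
  gap_rel s0_rot13 (path_edge (s0_f2201r IH) (path_nil s0_v142))
theorem s0_f2200r : ed sl_jf s0_v141 = s0_v141 :=
  edge_flip (s0_f2200 IH)
theorem s0_f2203 : ed sl_jf s0_v142 = s0_v142 :=
  gap_rel s0_rot15 (path_edge (s0_f2202 IH) (path_edge (s0_f2200r IH) (path_edge (s0_f2201r IH) (path_nil s0_v142))))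
theorem s0_f2204 : ed sl_dt s0_v142 = s0_v143 :=
  rfl
theorem s0_f2204r : ed sl_df s0_v143 = s0_v142 :=
  edge_flip (s0_f2204 IH)
theorem s0_f2205 : ed sl_df s0_v142 = s0_v143 :=
  gap_rel s0_rot4 (path_edge (s0_f2204r IH) (path_nil s0_v143))
theorem s0_f2206 : ed sl_jf s0_v143 = s0_v143 :=
  gap_rel s0_rot6 (path_edge (s0_f2205 IH) (path_edge (s0_f2203 IH) (path_edge (s0_f2204r IH) (path_nil s0_v143))))
theorem s0_f2207 : ed sl_ft s0_v143 = s0_v144 :=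
  rfl
theorem s0_f2207r : ed sl_ff s0_v144 = s0_v143 :=
  edge_flip (s0_f2207 IH)
theorem s0_f2208 : ed sl_ff s0_v143 = s0_v144 :=
  gap_rel s0_rot22 (path_edge (s0_f2207r IH) (path_nil s0_v144))
theorem s0_f2209 : ed sl_jf s0_v144 = s0_v144 :=
  gap_rel s0_rot23 (path_edge (s0_f2208 IH) (path_edge (s0_f2206 IH) (path_edge (s0_f2207r IH) (path_nil s0_v144))))
theorem s0_f2210 : ed sl_et s0_v144 = s0_v145 :=
  rfl
theorem s0_f2210r : ed sl_ef s0_v145 = s0_v144 :=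
  edge_flip (s0_f2210 IH)
theorem s0_f2211 : ed sl_ef s0_v144 = s0_v145 :=
  gap_rel s0_rot17 (path_edge (s0_f2210r IH) (path_nil s0_v145))
theorem s0_f2212 : ed sl_jf s0_v145 = s0_v145 :=
  gap_rel s0_rot18 (path_edge (s0_f2211 IH) (path_edge (s0_f2209 IH) (path_edge (s0_f2210r IH) (path_nil s0_v145))))
theorem s0_f2213 : ed sl_dt s0_v145 = s0_v146 :=
  rfl
theorem s0_f2213r : ed sl_df s0_v146 = s0_v145 :=
  edge_flip (s0_f2213 IH)
theorem s0_f2214 : ed sl_df s0_v145 = s0_v146 :=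
  gap_rel s0_rot4 (path_edge (s0_f2213r IH) (path_nil s0_v146))
theorem s0_f2215 : ed sl_jf s0_v146 = s0_v146 :=
  gap_rel s0_rot6 (path_edge (s0_f2214 IH) (path_edge (s0_f2212 IH) (path_edge (s0_f2213r IH) (path_nil s0_v146))))
theorem s0_f2216 : ed sl_bt s0_v146 = s0_v147 :=
  rfl
theorem s0_f2216r : ed sl_bf s0_v147 = s0_v146 :=
  edge_flip (s0_f2216 IH)
theorem s0_f2217 : ed sl_bf s0_v146 = s0_v147 :=
  gap_rel s0_rot20 (path_edge (s0_f2216r IH) (path_nil s0_v147))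
theorem s0_f2218 : ed sl_jf s0_v147 = s0_v147 :=
  gap_rel s0_rot21 (path_edge (s0_f2217 IH) (path_edge (s0_f2215 IH) (path_edge (s0_f2216r IH) (path_nil s0_v147))))
theorem s0_f2219 : ed sl_ct s0_v147 = s0_v148 :=
  rfl
theorem s0_f2219r : ed sl_cf s0_v148 = s0_v147 :=
  edge_flip (s0_f2219 IH)
theorem s0_f2220 : ed sl_cf s0_v147 = s0_v148 :=
  gap_rel s0_rot0 (path_edge (s0_f2219r IH) (path_nil s0_v148))
theorem s0_f2221 : ed sl_jf s0_v148 = s0_v148 :=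
  gap_rel s0_rot2 (path_edge (s0_f2220 IH) (path_edge (s0_f2218 IH) (path_edge (s0_f2219r IH) (path_nil s0_v148))))
theorem s0_f2222 : ed sl_dt s0_v148 = s0_v149 :=
  rfl
theorem s0_f2222r : ed sl_df s0_v149 = s0_v148 :=
  edge_flip (s0_f2222 IH)
theorem s0_f2223 : ed sl_df s0_v148 = s0_v149 :=
  gap_rel s0_rot4 (path_edge (s0_f2222r IH) (path_nil s0_v149))
theorem s0_f2224 : ed sl_jf s0_v149 = s0_v149 :=
  gap_rel s0_rot6 (path_edge (s0_f2223 IH) (path_edge (s0_f2221 IH) (path_edge (s0_f2222r IH) (path_nil s0_v149))))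
theorem s0_f2225 : ed sl_it s0_v149 = s0_v150 :=
  rfl
theorem s0_f2225r : ed sl_if s0_v150 = s0_v149 :=
  edge_flip (s0_f2225 IH)
theorem s0_f2226 : ed sl_if s0_v149 = s0_v150 :=
  gap_rel s0_rot9 (path_edge (s0_f2225r IH) (path_nil s0_v150))
theorem s0_f2226r : ed sl_it s0_v150 = s0_v149 :=
  edge_flip (s0_f2226 IH)
theorem s0_f2224r : ed sl_jt s0_v149 = s0_v149 :=
  edge_flip (s0_f2224 IH)
theorem s0_f2227 : ed sl_jt s0_v150 = s0_v150 :=
  gap_rel s0_rot12 (path_edge (s0_f2225 IH) (path_edge (s0_f2224r IH) (path_edge (s0_f2226r IH) (path_nil s0_v150))))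
theorem s0_f2228 : ed sl_ht s0_v150 = s0_v151 :=
  rfl
theorem s0_f2228r : ed sl_hf s0_v151 = s0_v150 :=
  edge_flip (s0_f2228 IH)
theorem s0_f2229 : ed sl_hf s0_v150 = s0_v151 :=
  gap_rel s0_rot13 (path_edge (s0_f2228r IH) (path_nil s0_v151))
theorem s0_f2227r : ed sl_jf s0_v150 = s0_v150 :=
  edge_flip (s0_f2227 IH)
theorem s0_f2230 : ed sl_jf s0_v151 = s0_v151 :=
  gap_rel s0_rot15 (path_edge (s0_f2229 IH) (path_edge (s0_f2227r IH) (path_edge (s0_f2228r IH) (path_nil s0_v151))))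
theorem s0_f2231 : ed sl_dt s0_v151 = s0_v152 :=
  rfl
theorem s0_f2231r : ed sl_df s0_v152 = s0_v151 :=
  edge_flip (s0_f2231 IH)
theorem s0_f2232 : ed sl_df s0_v151 = s0_v152 :=
  gap_rel s0_rot4 (path_edge (s0_f2231r IH) (path_nil s0_v152))
theorem s0_f2233 : ed sl_jf s0_v152 = s0_v152 :=
  gap_rel s0_rot6 (path_edge (s0_f2232 IH) (path_edge (s0_f2230 IH) (path_edge (s0_f2231r IH) (path_nil s0_v152))))
theorem s0_f2234 : ed sl_ft s0_v152 = s0_v153 :=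
  rfl
theorem s0_f2234r : ed sl_ff s0_v153 = s0_v152 :=
  edge_flip (s0_f2234 IH)
theorem s0_f2235 : ed sl_ff s0_v152 = s0_v153 :=
  gap_rel s0_rot22 (path_edge (s0_f2234r IH) (path_nil s0_v153))
theorem s0_f2236 : ed sl_jf s0_v153 = s0_v153 :=
  gap_rel s0_rot23 (path_edge (s0_f2235 IH) (path_edge (s0_f2233 IH) (path_edge (s0_f2234r IH) (path_nil s0_v153))))
theorem s0_f2237 : ed sl_et s0_v153 = s0_v154 :=
  rfl

end

end

end Cfsg.Agent.Helper28.S1689
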