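import Cfsg.Agent.Lib.Helper28.S1689.Seeds0

set_option autoImplicit false
set_option maxRecDepth 100000
set_option linter.all false

namespace Cfsg.Agent.Helper28.S1689

open Cfsg.Agent.Helper28
open Cfsg.Spor.Fi23 (Gen)

noncomputable section

section
variable (IH : ∀ y q, lvl y q < 47 → EntryOK rels S fwd inv o plet idx y q)
include IH

theorem s0_f2237r : ed sl_ef s0_v154 = s0_v153 :=
  edge_flip (s0_f2237 IH)
theorem s0_f2238 : ed sl_ef s0_v153 = s0_v154 :=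
  gap_rel s0_rot17 (path_edge (s0_f2237r IH) (path_nil s0_v154))
theorem s0_f2239 : ed sl_jf s0_v154 = s0_v154 :=
  gap_rel s0_rot18 (path_edge (s0_f2238 IH) (path_edge (s0_f2236 IH) (path_edge (s0_f2237r IH) (path_nil s0_v154))))
theorem s0_f2240 : ed sl_dt s0_v154 = s0_v155 :=
  rfl
theorem s0_f2240r : ed sl_df s0_v155 = s0_v154 :=
  edge_flip (s0_f2240 IH)
theorem s0_f2241 : ed sl_df s0_v154 = s0_v155 :=
  gap_rel s0_rot4 (path_edge (s0_f2240r IH) (path_nil s0_v155))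
theorem s0_f2243 : ed sl_bt s0_v155 = s0_v156 :=
  rfl
theorem s0_f2243r : ed sl_bf s0_v156 = s0_v155 :=
  edge_flip (s0_f2243 IH)
theorem s0_f2244 : ed sl_bf s0_v155 = s0_v156 :=
  gap_rel s0_rot20 (path_edge (s0_f2243r IH) (path_nil s0_v156))
theorem s0_f2246 : ed sl_ct s0_v156 = s0_v157 :=
  rfl
theorem s0_f2246r : ed sl_cf s0_v157 = s0_v156 :=
  edge_flip (s0_f2246 IH)
theorem s0_f2247 : ed sl_cf s0_v156 = s0_v157 :=
  gap_rel s0_rot0 (path_edge (s0_f2246r IH) (path_nil s0_v157))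
theorem s0_f2249 : ed sl_dt s0_v157 = s0_v158 :=
  rfl
theorem s0_f2252 : ed sl_it s0_v158 = s0_v159 :=
  rfl
theorem s0_f2252r : ed sl_if s0_v159 = s0_v158 :=
  edge_flip (s0_f2252 IH)
theorem s0_f2253 : ed sl_if s0_v158 = s0_v159 :=
  gap_rel s0_rot9 (path_edge (s0_f2252r IH) (path_nil s0_v159))
theorem s0_f2249r : ed sl_df s0_v158 = s0_v157 :=
  edge_flip (s0_f2249 IH)
theorem s0_f2146r : ed sl_df s0_v125 = s0_v125 :=
  edge_flip (s0_f2146 IH)
theorem s0_f1977r : ed sl_df sq301 = sq301 :=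
  edge_flip (s0_f1977 IH)
theorem s0_f1976r : ed sl_cf sq301 = sq205 :=
  edge_flip (s0_f1976 IH)
theorem s0_f1975r : ed sl_bf sq205 = sq205 :=
  edge_flip (s0_f1975 IH)
theorem s0_f1974r : ed sl_df sq205 = sq139 :=
  edge_flip (s0_f1974 IH)
theorem s0_f1973r : ed sl_ef sq139 = sq97 :=
  edge_flip (s0_f1973 IH)
theorem s0_f1972r : ed sl_ff sq97 = sq66 :=
  edge_flip (s0_f1972 IH)
theorem s0_f1971r : ed sl_df sq66 = sq66 :=
  edge_flip (s0_f1971 IH)
theorem s0_f1970r : ed sl_hf sq66 = sq45 :=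
  edge_flip (s0_f1970 IH)
theorem s0_f1969r : ed sl_if sq45 = sq67 :=
  edge_flip (s0_f1969 IH)
theorem s0_f1968r : ed sl_df sq67 = sq47 :=
  edge_flip (s0_f1968 IH)
theorem s0_f1967r : ed sl_cf sq47 = sq34 :=
  edge_flip (s0_f1967 IH)
theorem s0_f1966r : ed sl_bf sq34 = sq26 :=
  edge_flip (s0_f1966 IH)
theorem s0_f1965r : ed sl_df sq26 = sq26 :=
  edge_flip (s0_f1965 IH)
theorem s0_f1964r : ed sl_ef sq26 = sq19 :=
  edge_flip (s0_f1964 IH)
theorem s0_f1963r : ed sl_ff sq19 = sq19 :=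
  edge_flip (s0_f1963 IH)
theorem s0_f940r : ed sl_hf sq14 = sq14 :=
  edge_flip (s0_f940 IH)
theorem s0_f939r : ed sl_if sq14 = sq9 :=
  edge_flip (s0_f939 IH)
theorem s0_f945r : ed sl_cf sq13 = sq13 :=
  edge_flip (s0_f945 IH)
theorem s0_f1979r : ed sl_bf sq13 = sq16 :=
  edge_flip (s0_f1979 IH)
theorem s0_f895r : ed sl_df sq16 = sq12 :=
  edge_flip (s0_f895 IH)
theorem s0_f894r : ed sl_ef sq12 = sq12 :=
  edge_flip (s0_f894 IH)
theorem s0_f893r : ed sl_ff sq12 = sq12 :=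
  edge_flip (s0_f893 IH)
theorem s0_f1587r : ed sl_hf sq16 = sq16 :=
  edge_flip (s0_f1587 IH)
theorem s0_f1980r : ed sl_if sq16 = sq24 :=
  edge_flip (s0_f1980 IH)
theorem s0_f1609r : ed sl_df sq24 = sq17 :=
  edge_flip (s0_f1609 IH)
theorem s0_f1981r : ed sl_cf sq17 = sq17 :=
  edge_flip (s0_f1981 IH)
theorem s0_f1958r : ed sl_bf sq17 = sq14 :=
  edge_flip (s0_f1958 IH)
theorem s0_f1405r : ed sl_df sq14 = sq19 :=
  edge_flip (s0_f1405 IH)
theorem s0_f1982r : ed sl_ef sq19 = sq26 :=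
  edge_flip (s0_f1982 IH)
theorem s0_f1983r : ed sl_ff sq26 = sq37 :=
  edge_flip (s0_f1983 IH)
theorem s0_f1984r : ed sl_df sq37 = sq37 :=
  edge_flip (s0_f1984 IH)
theorem s0_f1985r : ed sl_hf sq37 = sq54 :=
  edge_flip (s0_f1985 IH)
theorem s0_f1986r : ed sl_if sq54 = sq54 :=
  edge_flip (s0_f1986 IH)
theorem s0_f606r : ed sl_df sq54 = sq78 :=
  edge_flip (s0_f606 IH)
theorem s0_f246r : ed sl_cf sq78 = sq112 :=
  edge_flip (s0_f246 IH)
theorem s0_f1987r : ed sl_bf sq112 = sq162 :=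
  edge_flip (s0_f1987 IH)
theorem s0_f1988r : ed sl_df sq162 = sq162 :=
  edge_flip (s0_f1988 IH)
theorem s0_f1989r : ed sl_ef sq162 = sq237 :=
  edge_flip (s0_f1989 IH)
theorem s0_f1990r : ed sl_ff sq237 = sq237 :=
  edge_flip (s0_f1990 IH)
theorem s0_f613r : ed sl_df sq237 = sq344 :=
  edge_flip (s0_f613 IH)
theorem s0_f2254 : ed sl_hf sq344 = s0_v159 :=
  gap_rel s0_rot42 (path_edge (s0_f613r IH) (path_edge (s0_f1990r IH) (path_edge (s0_f1989r IH) (path_edge (s0_f1988r IH) (path_edge (s0_f1987r IH) (path_edge (s0_f246r IH) (path_edge (s0_f606r IH) (path_edge (s0_f1986r IH) (path_edge (s0_f1985r IH) (path_edge (s0_f1984r IH) (path_edge (s0_f1983r IH) (path_edge (s0_f1982r IH) (path_edge (s0_f1405r IH) (path_edge (s0_f1958r IH) (path_edge (s0_f1981r IH) (path_edge (s0_f1609r IH) (path_edge (s0_f1980r IH) (path_edge (s0_f1587r IH) (path_edge (s0_f930r IH) (path_edge (s0_f893r IH) (path_edge (s0_f894r IH)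 (path_edge (s0_f895r IH) (path_edge (s0_f1979r IH) (path_edge (s0_f945r IH) (path_edge (s0_f427r IH) (path_edge (s0_f939r IH) (path_edge (s0_f940r IH) (path_edge (s0_f1004r IH) (path_edge (s0_f1963r IH) (path_edge (s0_f1964r IH) (path_edge (s0_f1965r IH) (path_edge (s0_f1966r IH) (path_edge (s0_f1967r IH) (path_edge (s0_f1968r IH) (path_edge (s0_f1969r IH) (path_edge (s0_f1970r IH) (path_edge (s0_f1971r IH) (path_edge (s0_f1972r IH) (path_edge (s0_f1973r IH) (path_edge (s0_f1974r IH) (path_edge (s0_f1975r IH) (path_edge (s0_f1976r IH) (path_edge (s0_f1977r IH) (path_edge (s0_f1978r IH) (path_edge (s0_f1991r IH) (path_edge (s0_f2114r IH) (path_edge (s0_f2117 IH) (path_edge (s0_f2120r IH) (path_edge (s0_f2125r IH) (path_edge (s0_f2126r IH) (path_edge (s0_f2132r IH) (path_edge (s0_f2137r IH) (path_edge (s0_f2140 IH) (path_edge (s0_f2142r IH) (path_edge (s0_f2146r IH) (path_edge (s0_f2147r IH) (path_edge (s0_f2152r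 IH) (path_edge (s0_f2156r IH) (path_edge (s0_f2160r IH) (path_edge (s0_f2164r IH) (path_edge (s0_f2168r IH) (path_edge (s0_f2171r IH) (path_edge (s0_f2174r IH) (path_edge (s0_f2177r IH) (path_edge (s0_f2180r IH) (path_edge (s0_f2183r IH) (path_edge (s0_f2186r IH) (path_edge (s0_f2189r IH) (path_edge (s0_f2192r IH) (path_edge (s0_f2195r IH) (path_edge (s0_f2198r IH) (path_edge (s0_f2201r IH) (path_edge (s0_f2204r IH) (path_edge (s0_f2207r IH) (path_edge (s0_f2210r IH) (path_edge (s0_f2213r IH) (path_edge (s0_f2216r IH) (path_edge (s0_f2219r IH) (path_edge (s0_f2222r IH) (path_edge (s0_f2225r IH) (path_edge (s0_f2228r IH) (path_edge (s0_f2231r IH) (path_edge (s0_f2234r IH) (path_edge (s0_f2237r IH) (path_edge (s0_f2240r IH) (path_edge (s0_f2243r IH) (path_edge (s0_f2246r IH) (path_edge (s0_f2249r IH) (path_edge (s0_f2252r IH) (path_nil s0_v159))))))))))))))))))))))))))))))))))))))))))))))))))))))))))))))))))))))))))))))))))))))))))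
theorem s0_f2256 : ed sl_bt sq344 = sq238 :=
  real_edge rels S fwd inv o lvl plet idx 47 IH Gen.b sp344 sp238 rfl rfl
theorem s0_f2257 : ed sl_ht sq238 = sq345 :=
  real_edge rels S fwd inv o lvl plet idx 47 IH Gen.h sp238 sp345 rfl rfl
theorem s0_f2254r : ed sl_ht s0_v159 = sq344 :=
  edge_flip (s0_f2254 IH)
theorem s0_f2258 : ed sl_bt sq345 = s0_v159 :=
  gap_rel s0_rot43 (path_edge (s0_f2257 IH) (path_edge (s0_f2256 IH) (path_edge (s0_f2254r IH) (path_nil s0_v159))))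
theorem s0_f2259 : ed sl_ht sq344 = s0_v159 :=
  gap_rel s0_rot44 (path_edge (s0_f2254r IH) (path_nil s0_v159))
theorem s0_f2253r : ed sl_it s0_v159 = s0_v158 :=
  edge_flip (s0_f2253 IH)
theorem s0_f2260 : ed sl_ht s0_v158 = s0_v158 :=
  gap_rel s0_rot45 (path_edge (s0_f2253r IH) (path_edge (s0_f2259 IH) (path_edge (s0_f1476 IH) (path_edge (s0_f2254r IH) (path_edge (s0_f2252 IH) (path_nil s0_v158))))))
theorem s0_f2261 : ed sl_ft s0_v159 = s0_v159 :=
  gap_rel s0_rot46 (path_edge (s0_f2259 IH) (path_edge (s0_f615 IH) (path_edge (s0_f2254r IH) (path_nil s0_v159))))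
theorem s0_f2263 : ed sl_jt sq344 = sq344 :=
  real_edge rels S fwd inv o lvl plet idx 47 IH Gen.j sp344 sp344 rfl rfl
theorem s0_f2264 : ed sl_jt s0_v159 = s0_v159 :=
  gap_rel s0_rot47 (path_edge (s0_f2259 IH) (path_edge (s0_f2263 IH) (path_edge (s0_f2254r IH) (path_nil s0_v159))))
theorem s0_f2271 : ed sl_dt sq198 = sq281 :=
  real_edge rels S fwd inv o lvl plet idx 47 IH Gen.d sp198 sp281 rfl rfl
theorem s0_f2276 : ed sl_ft sq372 = sq255 :=
  real_edge rels S fwd inv o lvl plet idx 47 IH Gen.f sp372 sp255 rfl rfl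
theorem s0_f2277 : ed sl_et sq255 = sq375 :=
  real_edge rels S fwd inv o lvl plet idx 47 IH Gen.e sp255 sp375 rfl rfl
theorem s0_f2278 : ed sl_dt sq375 = sq375 :=
  real_edge rels S fwd inv o lvl plet idx 47 IH Gen.d sp375 sp375 rfl rfl
theorem s0_f2279 : ed sl_ct sq375 = sq543 :=
  real_edge rels S fwd inv o lvl plet idx 47 IH Gen.c sp375 sp543 rfl rfl
theorem s0_f2287 : ed sl_jt sq345 = sq345 :=
  real_edge rels S fwd inv o lvl plet idx 47 IH Gen.j sp345 sp345 rfl rfl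
theorem s0_f2264r : ed sl_jf s0_v159 = s0_v159 :=
  edge_flip (s0_f2264 IH)
theorem s0_f2258r : ed sl_bf s0_v159 = sq345 :=
  edge_flip (s0_f2258 IH)
theorem s0_f2287r : ed sl_jf sq345 = sq345 :=
  edge_flip (s0_f2287 IH)
theorem s0_f2288 : ed sl_bf sq345 = s0_v159 :=
  gap_rel s0_rot48 (path_edge (s0_f2287r IH) (path_edge (s0_f2258r IH) (path_edge (s0_f2264r IH) (path_nil s0_v159))))
theorem s0_f2291 : ed sl_dt sq345 = sq345 :=
  real_edge rels S fwd inv o lvl plet idx 47 IH Gen.d sp345 sp345 rfl rfl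
theorem s0_f2288r : ed sl_bt s0_v159 = sq345 :=
  edge_flip (s0_f2288 IH)
theorem s0_f2292 : ed sl_dt s0_v159 = s0_v159 :=
  gap_rel s0_rot29 (path_edge (s0_f2258 IH) (path_edge (s0_f2291 IH) (path_edge (s0_f2288r IH) (path_nil s0_v159))))
theorem s0_f2293 : ed sl_et sq345 = sq345 :=
  real_edge rels S fwd inv o lvl plet idx 47 IH Gen.e sp345 sp345 rfl rfl
theorem s0_f2294 : ed sl_et s0_v159 = s0_v159 :=
  gap_rel s0_rot49 (path_edge (s0_f2258 IH) (path_edge (s0_f2293 IH) (path_edge (s0_f2288r IH) (path_nil s0_v159))))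
theorem s0_f2296 : ed sl_bt sq238 = sq344 :=
  real_edge rels S fwd inv o lvl plet idx 47 IH Gen.b sp238 sp344 rfl rfl
theorem s0_f2297 : ed sl_ft sq345 = sq345 :=
  real_edge rels S fwd inv o lvl plet idx 47 IH Gen.f sp345 sp345 rfl rfl
theorem s0_f2306 : ed sl_dt sq136 = sq93 :=
  real_edge rels S fwd inv o lvl plet idx 47 IH Gen.d sp136 sp93 rfl rfl
theorem s0_f2310 : ed sl_ht sq176 = sq120 :=
  real_edge rels S fwd inv o lvl plet idx 47 IH Gen.h sp176 sp120 rfl rfl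
theorem s0_f2311 : ed sl_ft sq120 = sq82 :=
  real_edge rels S fwd inv o lvl plet idx 47 IH Gen.f sp120 sp82 rfl rfl
theorem s0_f2312 : ed sl_et sq82 = sq57 :=
  real_edge rels S fwd inv o lvl plet idx 47 IH Gen.e sp82 sp57 rfl rfl
theorem s0_f2313 : ed sl_dt sq57 = sq57 :=
  real_edge rels S fwd inv o lvl plet idx 47 IH Gen.d sp57 sp57 rfl rfl
theorem s0_f2314 : ed sl_ct sq57 = sq57 :=
  real_edge rels S fwd inv o lvl plet idx 47 IH Gen.c sp57 sp57 rfl rfl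
theorem s0_f2315 : ed sl_bt sq57 = sq41 :=
  real_edge rels S fwd inv o lvl plet idx 47 IH Gen.b sp57 sp41 rfl rfl
theorem s0_f2294r : ed sl_ef s0_v159 = s0_v159 :=
  edge_flip (s0_f2294 IH)
theorem s0_f2325 : ed sl_ef s0_v158 = s0_v158 :=
  gap_rel s0_rot50 (path_edge (s0_f2252r IH) (path_edge (s0_f2294r IH) (path_edge (s0_f2253 IH) (path_nil s0_v158))))
theorem s0_f2292r : ed sl_df s0_v159 = s0_v159 :=
  edge_flip (s0_f2292 IH)
theorem s0_f2328 : s0_v157 = s0_v158 :=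
  (loop_rel s0_rot51 (path_edge (s0_f2249r IH) (path_edge (s0_f2252r IH) (path_edge (s0_f2292r IH) (path_edge (s0_f2253 IH) (path_nil s0_v158)))))).symm
theorem s0_f2261r : ed sl_ff s0_v159 = s0_v159 :=
  edge_flip (s0_f2261 IH)
theorem s0_f2329 : ed sl_ff s0_v158 = s0_v157 :=
  gap_rel s0_rot52 (path_edge (s0_f2252r IH) (path_edge (s0_f2261r IH) (path_edge (s0_f2253 IH) (path_eq (s0_f2328 IH) (path_nil s0_v157)))))
theorem s0_f2329r : ed sl_ft s0_v157 = s0_v158 :=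
  edge_flip (s0_f2329 IH)
theorem s0_f2247r : ed sl_ct s0_v157 = s0_v156 :=
  edge_flip (s0_f2247 IH)
theorem s0_f2330 : ed sl_ft s0_v156 = s0_v156 :=
  gap_rel s0_rot53 (path_edge (s0_f2247r IH) (path_eq (s0_f2328 IH).symm (path_edge (s0_f2329r IH) (path_edge (s0_f2246 IH) (path_nil s0_v156)))))
theorem s0_f2330r : ed sl_ff s0_v156 = s0_v156 :=
  edge_flip (s0_f2330 IH)
theorem s0_f2331 : ed sl_ff s0_v155 = s0_v155 :=
  gap_rel s0_rot54 (path_edge (s0_f2243r IH) (path_edge (s0_f2330r IH) (path_edge (s0_f2244 IH) (path_nil s0_v155))))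
theorem s0_f2331r : ed sl_ft s0_v155 = s0_v155 :=
  edge_flip (s0_f2331 IH)
theorem s0_f2241r : ed sl_dt s0_v155 = s0_v154 :=
  edge_flip (s0_f2241 IH)
theorem s0_f2332 : ed sl_ft s0_v154 = s0_v154 :=
  gap_rel s0_rot55 (path_edge (s0_f2241r IH) (path_edge (s0_f2331r IH) (path_edge (s0_f2240 IH) (path_nil s0_v154))))
theorem s0_f2260r : ed sl_hf s0_v158 = s0_v158 :=
  edge_flip (s0_f2260 IH)
theorem s0_f2334 : ed sl_hf s0_v156 = s0_v156 :=
  gap_rel s0_rot39 (path_edge (s0_f2246r IH) (path_eq (s0_f2328 IH).symm (path_edge (s0_f2260r IH) (path_eq (s0_f2328 IH) (path_edge (s0_f2247 IH) (path_nil s0_v156))))))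
theorem s0_f2334r : ed sl_ht s0_v156 = s0_v156 :=
  edge_flip (s0_f2334 IH)
theorem s0_f2244r : ed sl_bt s0_v156 = s0_v155 :=
  edge_flip (s0_f2244 IH)
theorem s0_f2335 : ed sl_ht s0_v155 = s0_v155 :=
  gap_rel s0_rot56 (path_edge (s0_f2244r IH) (path_edge (s0_f2334r IH) (path_edge (s0_f2243 IH) (path_nil s0_v155))))
theorem s0_f2336 : ed sl_ef s0_v156 = s0_v156 :=
  gap_rel s0_rot8 (path_edge (s0_f2246r IH) (path_eq (s0_f2328 IH).symm (path_edge (s0_f2325 IH) (path_eq (s0_f2328 IH) (path_edge (s0_f2247 IH) (path_nil s0_v156))))))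
theorem s0_f2336r : ed sl_et s0_v156 = s0_v156 :=
  edge_flip (s0_f2336 IH)
theorem s0_f2337 : ed sl_et s0_v155 = s0_v155 :=
  gap_rel s0_rot49 (path_edge (s0_f2244r IH) (path_edge (s0_f2336r IH) (path_edge (s0_f2243 IH) (path_nil s0_v155))))
theorem s0_f2337r : ed sl_ef s0_v155 = s0_v155 :=
  edge_flip (s0_f2337 IH)
theorem s0_f2338 : ed sl_df s0_v153 = s0_v153 :=
  gap_rel s0_rot57 (path_edge (s0_f2237r IH) (path_edge (s0_f2240r IH) (path_edge (s0_f2337r IH) (path_edge (s0_f2241 IH) (path_edge (s0_f2238 IH) (path_nil s0_v153))))))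
theorem s0_f2344 : ed sl_it sq238 = sq238 :=
  real_edge rels S fwd inv o lvl plet idx 47 IH Gen.i sp238 sp238 rfl rfl
theorem s0_f2345 : ed sl_dt sq163 = sq238 :=
  real_edge rels S fwd inv o lvl plet idx 47 IH Gen.d sp163 sp238 rfl rfl
theorem s0_f2346 : ed sl_ct sq113 = sq163 :=
  real_edge rels S fwd inv o lvl plet idx 47 IH Gen.c sp113 sp163 rfl rfl
theorem s0_f2347 : ed sl_bt sq157 = sq113 :=
  real_edge rels S fwd inv o lvl plet idx 47 IH Gen.b sp157 sp113 rfl rfl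
theorem s0_f2348 : ed sl_dt sq157 = sq157 :=
  real_edge rels S fwd inv o lvl plet idx 47 IH Gen.d sp157 sp157 rfl rfl
theorem s0_f2349 : ed sl_et sq108 = sq157 :=
  real_edge rels S fwd inv o lvl plet idx 47 IH Gen.e sp108 sp157 rfl rfl
theorem s0_f2350 : ed sl_ft sq75 = sq108 :=
  real_edge rels S fwd inv o lvl plet idx 47 IH Gen.f sp75 sp108 rfl rfl
theorem s0_f2351 : ed sl_ht sq34 = sq51 :=
  real_edge rels S fwd inv o lvl plet idx 47 IH Gen.h sp34 sp51 rfl rfl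
theorem s0_f2352 : ed sl_it sq23 = sq34 :=
  real_edge rels S fwd inv o lvl plet idx 47 IH Gen.i sp23 sp34 rfl rfl
theorem s0_f2353 : ed sl_bt sq31 = sq31 :=
  real_edge rels S fwd inv o lvl plet idx 47 IH Gen.b sp31 sp31 rfl rfl
theorem s0_f2354 : ed sl_dt sq46 = sq65 :=
  real_edge rels S fwd inv o lvl plet idx 47 IH Gen.d sp46 sp65 rfl rfl
theorem s0_f2355 : ed sl_ht sq46 = sq46 :=
  real_edge rels S fwd inv o lvl plet idx 47 IH Gen.h sp46 sp46 rfl rfl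
theorem s0_f2356 : ed sl_it sq69 = sq46 :=
  real_edge rels S fwd inv o lvl plet idx 47 IH Gen.i sp69 sp46 rfl rfl
theorem s0_f2357 : ed sl_ct sq98 = sq98 :=
  real_edge rels S fwd inv o lvl plet idx 47 IH Gen.c sp98 sp98 rfl rfl
theorem s0_f2358 : ed sl_bt sq98 = sq98 :=
  real_edge rels S fwd inv o lvl plet idx 47 IH Gen.b sp98 sp98 rfl rfl
theorem s0_f2359 : ed sl_dt sq69 = sq98 :=
  real_edge rels S fwd inv o lvl plet idx 47 IH Gen.d sp69 sp98 rfl rfl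
theorem s0_f2360 : ed sl_et sq69 = sq69 :=
  real_edge rels S fwd inv o lvl plet idx 47 IH Gen.e sp69 sp69 rfl rfl
theorem s0_f2361 : ed sl_ft sq47 = sq69 :=
  real_edge rels S fwd inv o lvl plet idx 47 IH Gen.f sp47 sp69 rfl rfl
theorem s0_f2362 : ed sl_dt sq67 = sq47 :=
  real_edge rels S fwd inv o lvl plet idx 47 IH Gen.d sp67 sp47 rfl rfl
theorem s0_f2363 : ed sl_ht sq100 = sq67 :=
  real_edge rels S fwd inv o lvl plet idx 47 IH Gen.h sp100 sp67 rfl rfl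
theorem s0_f2364 : ed sl_it sq146 = sq100 :=
  real_edge rels S fwd inv o lvl plet idx 47 IH Gen.i sp146 sp100 rfl rfl
theorem s0_f2365 : ed sl_ct sq312 = sq214 :=
  real_edge rels S fwd inv o lvl plet idx 47 IH Gen.c sp312 sp214 rfl rfl
theorem s0_f2366 : ed sl_bt sq458 = sq312 :=
  real_edge rels S fwd inv o lvl plet idx 47 IH Gen.b sp458 sp312 rfl rfl
theorem s0_f2367 : ed sl_dt sq458 = sq458 :=
  real_edge rels S fwd inv o lvl plet idx 47 IH Gen.d sp458 sp458 rfl rfl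
theorem s0_f2368 : ed sl_et sq663 = sq458 :=
  real_edge rels S fwd inv o lvl plet idx 47 IH Gen.e sp663 sp458 rfl rfl
theorem s0_f2369 : ed sl_ft sq945 = sq663 :=
  real_edge rels S fwd inv o lvl plet idx 47 IH Gen.f sp945 sp663 rfl rfl
theorem s0_f2370 : ed sl_ht sq1823 = sq1321 :=
  real_edge rels S fwd inv o lvl plet idx 47 IH Gen.h sp1823 sp1321 rfl rfl
theorem s0_f2371 : ed sl_it sq1823 = sq1823 :=
  real_edge rels S fwd inv o lvl plet idx 47 IH Gen.i sp1823 sp1823 rfl rfl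
theorem s0_f2372 : ed sl_dt sq1823 = sq1823 :=
  real_edge rels S fwd inv o lvl plet idx 47 IH Gen.d sp1823 sp1823 rfl rfl
theorem s0_f2373 : ed sl_ct sq2471 = sq1823 :=
  real_edge rels S fwd inv o lvl plet idx 47 IH Gen.c sp2471 sp1823 rfl rfl
theorem s0_f2374 : ed sl_bt sq2471 = sq2471 :=
  real_edge rels S fwd inv o lvl plet idx 47 IH Gen.b sp2471 sp2471 rfl rfl
theorem s0_f2380 : ed sl_dt sq21 = sq30 :=
  real_edge rels S fwd inv o lvl plet idx 47 IH Gen.d sp21 sp30 rfl rfl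
theorem s0_f2382 : ed sl_bt sq41 = sq57 :=
  real_edge rels S fwd inv o lvl plet idx 47 IH Gen.b sp41 sp57 rfl rfl
theorem s0_f2384 : ed sl_ht sq57 = sq83 :=
  real_edge rels S fwd inv o lvl plet idx 47 IH Gen.h sp57 sp83 rfl rfl
theorem s0_f2385 : ed sl_ft sq83 = sq83 :=
  real_edge rels S fwd inv o lvl plet idx 47 IH Gen.f sp83 sp83 rfl rfl
theorem s0_f2386 : ed sl_et sq83 = sq121 :=
  real_edge rels S fwd inv o lvl plet idx 47 IH Gen.e sp83 sp121 rfl rfl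
theorem s0_f2387 : ed sl_dt sq121 = sq177 :=
  real_edge rels S fwd inv o lvl plet idx 47 IH Gen.d sp121 sp177 rfl rfl
theorem s0_f2553 : ed sl_dt sq261 = sq383 :=
  real_edge rels S fwd inv o lvl plet idx 47 IH Gen.d sp261 sp383 rfl rfl
theorem s0_f2560 : ed sl_dt sq83 = sq122 :=
  real_edge rels S fwd inv o lvl plet idx 47 IH Gen.d sp83 sp122 rfl rfl
theorem s0_f2565 : ed sl_bt sq88 = sq120 :=
  real_edge rels S fwd inv o lvl plet idx 47 IH Gen.b sp88 sp120 rfl rfl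
theorem s0_f2567 : ed sl_dt sq63 = sq63 :=
  real_edge rels S fwd inv o lvl plet idx 47 IH Gen.d sp63 sp63 rfl rfl
theorem s0_f2573 : ed sl_ct sq38 = sq38 :=
  real_edge rels S fwd inv o lvl plet idx 47 IH Gen.c sp38 sp38 rfl rfl
theorem s0_f2574 : ed sl_dt sq55 = sq38 :=
  real_edge rels S fwd inv o lvl plet idx 47 IH Gen.d sp55 sp38 rfl rfl
theorem s0_f2622 : ed sl_bt sq4651 = sq5870 :=
  real_edge rels S fwd inv o lvl plet idx 47 IH Gen.b sp4651 sp5870 rfl rfl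
theorem s0_f2631 : ed sl_it sq21 = sq15 :=
  real_edge rels S fwd inv o lvl plet idx 47 IH Gen.i sp21 sp15 rfl rfl
theorem s0_f2634 : ed sl_bt sq29 = sq29 :=
  real_edge rels S fwd inv o lvl plet idx 47 IH Gen.b sp29 sp29 rfl rfl
theorem s0_f2635 : ed sl_it sq58 = sq86 :=
  real_edge rels S fwd inv o lvl plet idx 47 IH Gen.i sp58 sp86 rfl rfl
theorem s0_f2636 : ed sl_ht sq86 = sq128 :=
  real_edge rels S fwd inv o lvl plet idx 47 IH Gen.h sp86 sp128 rfl rfl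
theorem s0_f2637 : ed sl_dt sq128 = sq189 :=
  real_edge rels S fwd inv o lvl plet idx 47 IH Gen.d sp128 sp189 rfl rfl
theorem s0_f2638 : ed sl_ft sq189 = sq275 :=
  real_edge rels S fwd inv o lvl plet idx 47 IH Gen.f sp189 sp275 rfl rfl
theorem s0_f2639 : ed sl_et sq275 = sq404 :=
  real_edge rels S fwd inv o lvl plet idx 47 IH Gen.e sp275 sp404 rfl rfl
theorem s0_f2640 : ed sl_dt sq404 = sq577 :=
  real_edge rels S fwd inv o lvl plet idx 47 IH Gen.d sp404 sp577 rfl rfl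
theorem s0_f2641 : ed sl_bt sq577 = sq758 :=
  real_edge rels S fwd inv o lvl plet idx 47 IH Gen.b sp577 sp758 rfl rfl
theorem s0_f2642 : ed sl_ct sq758 = sq1062 :=
  real_edge rels S fwd inv o lvl plet idx 47 IH Gen.c sp758 sp1062 rfl rfl
theorem s0_f2643 : ed sl_dt sq1062 = sq1469 :=
  real_edge rels S fwd inv o lvl plet idx 47 IH Gen.d sp1062 sp1469 rfl rfl
theorem s0_f2644 : ed sl_it sq1469 = sq2004 :=
  real_edge rels S fwd inv o lvl plet idx 47 IH Gen.i sp1469 sp2004 rfl rfl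
theorem s0_f2645 : ed sl_ht sq2004 = sq2716 :=
  real_edge rels S fwd inv o lvl plet idx 47 IH Gen.h sp2004 sp2716 rfl rfl
theorem s0_f2646 : ed sl_dt sq2716 = sq3582 :=
  real_edge rels S fwd inv o lvl plet idx 47 IH Gen.d sp2716 sp3582 rfl rfl
theorem s0_f2647 : ed sl_ft sq3582 = sq4615 :=
  real_edge rels S fwd inv o lvl plet idx 47 IH Gen.f sp3582 sp4615 rfl rfl
theorem s0_f2648 : ed sl_et sq4615 = sq5826 :=
  real_edge rels S fwd inv o lvl plet idx 47 IH Gen.e sp4615 sp5826 rfl rfl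
theorem s0_f2649 : ed sl_dt sq5826 = sq7253 :=
  real_edge rels S fwd inv o lvl plet idx 47 IH Gen.d sp5826 sp7253 rfl rfl
theorem s0_f2650 : ed sl_dt sq30 = sq21 :=
  real_edge rels S fwd inv o lvl plet idx 47 IH Gen.d sp30 sp21 rfl rfl
theorem s0_f2651 : ed sl_dt sq171 = sq120 :=
  real_edge rels S fwd inv o lvl plet idx 47 IH Gen.d sp171 sp120 rfl rfl
theorem s0_f2652 : ed sl_ht sq253 = sq171 :=
  real_edge rels S fwd inv o lvl plet idx 47 IH Gen.h sp253 sp171 rfl rfl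
theorem s0_f2653 : ed sl_it sq371 = sq253 :=
  real_edge rels S fwd inv o lvl plet idx 47 IH Gen.i sp371 sp253 rfl rfl
theorem s0_f2654 : ed sl_ct sq764 = sq537 :=
  real_edge rels S fwd inv o lvl plet idx 47 IH Gen.c sp764 sp537 rfl rfl
theorem s0_f2655 : ed sl_bt sq1072 = sq764 :=
  real_edge rels S fwd inv o lvl plet idx 47 IH Gen.b sp1072 sp764 rfl rfl
theorem s0_f2656 : ed sl_dt sq1415 = sq1072 :=
  real_edge rels S fwd inv o lvl plet idx 47 IH Gen.d sp1415 sp1072 rfl rfl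
theorem s0_f2657 : ed sl_et sq1932 = sq1415 :=
  real_edge rels S fwd inv o lvl plet idx 47 IH Gen.e sp1932 sp1415 rfl rfl
theorem s0_f2658 : ed sl_ft sq2608 = sq1932 :=
  real_edge rels S fwd inv o lvl plet idx 47 IH Gen.f sp2608 sp1932 rfl rfl
theorem s0_f2659 : ed sl_dt sq3447 = sq2608 :=
  real_edge rels S fwd inv o lvl plet idx 47 IH Gen.d sp3447 sp2608 rfl rfl
theorem s0_f2660 : ed sl_ht sq4428 = sq3447 :=
  real_edge rels S fwd inv o lvl plet idx 47 IH Gen.h sp4428 sp3447 rfl rfl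
theorem s0_f2661 : ed sl_it sq5581 = sq4428 :=
  real_edge rels S fwd inv o lvl plet idx 47 IH Gen.i sp5581 sp4428 rfl rfl
theorem s0_f2662 : ed sl_dt sq6932 = sq5581 :=
  real_edge rels S fwd inv o lvl plet idx 47 IH Gen.d sp6932 sp5581 rfl rfl
theorem s0_f2663 : ed sl_ct sq8475 = sq6932 :=
  real_edge rels S fwd inv o lvl plet idx 47 IH Gen.c sp8475 sp6932 rfl rfl
theorem s0_f2664 : ed sl_bt sq8475 = sq8475 :=
  real_edge rels S fwd inv o lvl plet idx 47 IH Gen.b sp8475 sp8475 rfl rfl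
theorem s0_f2665 : ed sl_dt sq10315 = sq8475 :=
  real_edge rels S fwd inv o lvl plet idx 47 IH Gen.d sp10315 sp8475 rfl rfl
theorem s0_f2666 : ed sl_et sq12400 = sq10315 :=
  real_edge rels S fwd inv o lvl plet idx 47 IH Gen.e sp12400 sp10315 rfl rfl
theorem s0_f2667 : ed sl_ft sq14635 = sq12400 :=
  real_edge rels S fwd inv o lvl plet idx 47 IH Gen.f sp14635 sp12400 rfl rfl
theorem s0_f2668 : ed sl_bt sq7253 = s0_v162 :=
  rfl
theorem s0_f2668r : ed sl_bf s0_v162 = sq7253 :=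
  edge_flip (s0_f2668 IH)
theorem s0_f2670 : ed sl_bf sq7253 = s0_v162 :=
  gap_rel s0_rot20 (path_edge (s0_f2668r IH) (path_nil s0_v162))
theorem s0_f2678 : ed sl_ft sq7253 = sq7253 :=
  real_edge rels S fwd inv o lvl plet idx 47 IH Gen.f sp7253 sp7253 rfl rfl
theorem s0_f2678r : ed sl_ff sq7253 = sq7253 :=
  edge_flip (s0_f2678 IH)
theorem s0_f2679 : ed sl_ff s0_v162 = s0_v162 :=
  gap_rel s0_rot54 (path_edge (s0_f2670 IH) (path_edge (s0_f2678r IH) (path_edge (s0_f2668r IH) (path_nil s0_v162))))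
theorem s0_f2681 : ed sl_jt sq7253 = sq7253 :=
  real_edge rels S fwd inv o lvl plet idx 47 IH Gen.j sp7253 sp7253 rfl rfl
theorem s0_f2681r : ed sl_jf sq7253 = sq7253 :=
  edge_flip (s0_f2681 IH)
theorem s0_f2682 : ed sl_jf s0_v162 = s0_v162 :=
  gap_rel s0_rot21 (path_edge (s0_f2670 IH) (path_edge (s0_f2681r IH) (path_edge (s0_f2668r IH) (path_nil s0_v162))))
theorem s0_f2728 : ed sl_dt sq3667 = sq4744 :=
  real_edge rels S fwd inv o lvl plet idx 47 IH Gen.d sp3667 sp4744 rfl rfl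
theorem s0_f2750 : ed sl_bt sq3660 = sq4619 :=
  real_edge rels S fwd inv o lvl plet idx 47 IH Gen.b sp3660 sp4619 rfl rfl
theorem s0_f2790 : ed sl_ct s0_v162 = s0_v163 :=
  rfl
theorem s0_f2790r : ed sl_cf s0_v163 = s0_v162 :=
  edge_flip (s0_f2790 IH)
theorem s0_f2791 : ed sl_cf s0_v162 = s0_v163 :=
  gap_rel s0_rot0 (path_edge (s0_f2790r IH) (path_nil s0_v163))
theorem s0_f2794 : ed sl_ff s0_v163 = s0_v163 :=
  gap_rel s0_rot1 (path_edge (s0_f2791 IH) (path_edge (s0_f2679 IH) (path_edge (s0_f2790r IH) (path_nil s0_v163))))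
theorem s0_f2795 : ed sl_jf s0_v163 = s0_v163 :=
  gap_rel s0_rot2 (path_edge (s0_f2791 IH) (path_edge (s0_f2682 IH) (path_edge (s0_f2790r IH) (path_nil s0_v163))))
theorem s0_f2834 : ed sl_dt s0_v163 = s0_v164 :=
  rfl
theorem s0_f2834r : ed sl_df s0_v164 = s0_v163 :=
  edge_flip (s0_f2834 IH)
theorem s0_f2835 : ed sl_df s0_v163 = s0_v164 :=
  gap_rel s0_rot4 (path_edge (s0_f2834r IH) (path_nil s0_v164))
theorem s0_f2836 : ed sl_ff s0_v164 = s0_v164 :=
  gap_rel s0_rot5 (path_edge (s0_f2835 IH) (path_edge (s0_f2794 IH) (path_edge (s0_f2834r IH) (path_nil s0_v164))))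
theorem s0_f2837 : ed sl_jf s0_v164 = s0_v164 :=
  gap_rel s0_rot6 (path_edge (s0_f2835 IH) (path_edge (s0_f2795 IH) (path_edge (s0_f2834r IH) (path_nil s0_v164))))
theorem s0_f2838 : ed sl_it s0_v164 = s0_v165 :=
  rfl
theorem s0_f2838r : ed sl_if s0_v165 = s0_v164 :=
  edge_flip (s0_f2838 IH)
theorem s0_f2839 : ed sl_if s0_v164 = s0_v165 :=
  gap_rel s0_rot9 (path_edge (s0_f2838r IH) (path_nil s0_v165))
theorem s0_f2839r : ed sl_it s0_v165 = s0_v164 :=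
  edge_flip (s0_f2839 IH)
theorem s0_f2836r : ed sl_ft s0_v164 = s0_v164 :=
  edge_flip (s0_f2836 IH)
theorem s0_f2840 : ed sl_ft s0_v165 = s0_v165 :=
  gap_rel s0_rot11 (path_edge (s0_f2838 IH) (path_edge (s0_f2836r IH) (path_edge (s0_f2839r IH) (path_nil s0_v165))))
theorem s0_f2837r : ed sl_jt s0_v164 = s0_v164 :=
  edge_flip (s0_f2837 IH)
theorem s0_f2841 : ed sl_jt s0_v165 = s0_v165 :=
  gap_rel s0_rot12 (path_edge (s0_f2838 IH) (path_edge (s0_f2837r IH) (path_edge (s0_f2839r IH) (path_nil s0_v165))))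
theorem s0_f2842 : ed sl_ht s0_v165 = s0_v166 :=
  rfl
theorem s0_f2842r : ed sl_hf s0_v166 = s0_v165 :=
  edge_flip (s0_f2842 IH)
theorem s0_f2843 : ed sl_hf s0_v165 = s0_v166 :=
  gap_rel s0_rot13 (path_edge (s0_f2842r IH) (path_nil s0_v166))
theorem s0_f2840r : ed sl_ff s0_v165 = s0_v165 :=
  edge_flip (s0_f2840 IH)
theorem s0_f2844 : ed sl_ff s0_v166 = s0_v166 :=
  gap_rel s0_rot14 (path_edge (s0_f2843 IH) (path_edge (s0_f2840r IH) (path_edge (s0_f2842r IH) (path_nil s0_v166))))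
theorem s0_f2841r : ed sl_jf s0_v165 = s0_v165 :=
  edge_flip (s0_f2841 IH)
theorem s0_f2845 : ed sl_jf s0_v166 = s0_v166 :=
  gap_rel s0_rot15 (path_edge (s0_f2843 IH) (path_edge (s0_f2841r IH) (path_edge (s0_f2842r IH) (path_nil s0_v166))))
theorem s0_f2846 : ed sl_dt s0_v166 = s0_v167 :=
  rfl
theorem s0_f2846r : ed sl_df s0_v167 = s0_v166 :=
  edge_flip (s0_f2846 IH)
theorem s0_f2847 : ed sl_df s0_v166 = s0_v167 :=
  gap_rel s0_rot4 (path_edge (s0_f2846r IH) (path_nil s0_v167))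
theorem s0_f2848 : ed sl_ff s0_v167 = s0_v167 :=
  gap_rel s0_rot5 (path_edge (s0_f2847 IH) (path_edge (s0_f2844 IH) (path_edge (s0_f2846r IH) (path_nil s0_v167))))
theorem s0_f2849 : ed sl_jf s0_v167 = s0_v167 :=
  gap_rel s0_rot6 (path_edge (s0_f2847 IH) (path_edge (s0_f2845 IH) (path_edge (s0_f2846r IH) (path_nil s0_v167))))
theorem s0_f2850 : ed sl_et s0_v167 = s0_v168 :=
  rfl
theorem s0_f2850r : ed sl_ef s0_v168 = s0_v167 :=
  edge_flip (s0_f2850 IH)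
theorem s0_f2851 : ed sl_ef s0_v167 = s0_v168 :=
  gap_rel s0_rot17 (path_edge (s0_f2850r IH) (path_nil s0_v168))
theorem s0_f2852 : ed sl_jf s0_v168 = s0_v168 :=
  gap_rel s0_rot18 (path_edge (s0_f2851 IH) (path_edge (s0_f2849 IH) (path_edge (s0_f2850r IH) (path_nil s0_v168))))
theorem s0_f2853 : ed sl_dt s0_v168 = s0_v169 :=
  rfl
theorem s0_f2853r : ed sl_df s0_v169 = s0_v168 :=
  edge_flip (s0_f2853 IH)
theorem s0_f2854 : ed sl_df s0_v168 = s0_v169 :=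
  gap_rel s0_rot4 (path_edge (s0_f2853r IH) (path_nil s0_v169))
theorem s0_f2855 : ed sl_jf s0_v169 = s0_v169 :=
  gap_rel s0_rot6 (path_edge (s0_f2854 IH) (path_edge (s0_f2852 IH) (path_edge (s0_f2853r IH) (path_nil s0_v169))))
theorem s0_f2856 : ed sl_bt s0_v169 = s0_v170 :=
  rfl
theorem s0_f2856r : ed sl_bf s0_v170 = s0_v169 :=
  edge_flip (s0_f2856 IH)
theorem s0_f2857 : ed sl_bf s0_v169 = s0_v170 :=
  gap_rel s0_rot20 (path_edge (s0_f2856r IH) (path_nil s0_v170))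
theorem s0_f2858 : ed sl_jf s0_v170 = s0_v170 :=
  gap_rel s0_rot21 (path_edge (s0_f2857 IH) (path_edge (s0_f2855 IH) (path_edge (s0_f2856r IH) (path_nil s0_v170))))
theorem s0_f2859 : ed sl_ct s0_v170 = s0_v171 :=
  rfl
theorem s0_f2859r : ed sl_cf s0_v171 = s0_v170 :=
  edge_flip (s0_f2859 IH)
theorem s0_f2860 : ed sl_cf s0_v170 = s0_v171 :=
  gap_rel s0_rot0 (path_edge (s0_f2859r IH) (path_nil s0_v171))
theorem s0_f2861 : ed sl_jf s0_v171 = s0_v171 :=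
  gap_rel s0_rot2 (path_edge (s0_f2860 IH) (path_edge (s0_f2858 IH) (path_edge (s0_f2859r IH) (path_nil s0_v171))))
theorem s0_f2862 : ed sl_dt s0_v171 = s0_v172 :=
  rfl
theorem s0_f2862r : ed sl_df s0_v172 = s0_v171 :=
  edge_flip (s0_f2862 IH)
theorem s0_f2863 : ed sl_df s0_v171 = s0_v172 :=
  gap_rel s0_rot4 (path_edge (s0_f2862r IH) (path_nil s0_v172))
theorem s0_f2864 : ed sl_jf s0_v172 = s0_v172 :=
  gap_rel s0_rot6 (path_edge (s0_f2863 IH) (path_edge (s0_f2861 IH) (path_edge (s0_f2862r IH) (path_nil s0_v172))))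
theorem s0_f2865 : ed sl_it s0_v172 = s0_v173 :=
  rfl
theorem s0_f2865r : ed sl_if s0_v173 = s0_v172 :=
  edge_flip (s0_f2865 IH)
theorem s0_f2866 : ed sl_if s0_v172 = s0_v173 :=
  gap_rel s0_rot9 (path_edge (s0_f2865r IH) (path_nil s0_v173))
theorem s0_f2866r : ed sl_it s0_v173 = s0_v172 :=
  edge_flip (s0_f2866 IH)
theorem s0_f2864r : ed sl_jt s0_v172 = s0_v172 :=
  edge_flip (s0_f2864 IH)
theorem s0_f2867 : ed sl_jt s0_v173 = s0_v173 :=
  gap_rel s0_rot12 (path_edge (s0_f2865 IH) (path_edge (s0_f2864r IH) (path_edge (s0_f2866r IH) (path_nil s0_v173))))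
theorem s0_f2868 : ed sl_ht s0_v173 = s0_v174 :=
  rfl
theorem s0_f2868r : ed sl_hf s0_v174 = s0_v173 :=
  edge_flip (s0_f2868 IH)
theorem s0_f2869 : ed sl_hf s0_v173 = s0_v174 :=
  gap_rel s0_rot13 (path_edge (s0_f2868r IH) (path_nil s0_v174))
theorem s0_f2867r : ed sl_jf s0_v173 = s0_v173 :=
  edge_flip (s0_f2867 IH)
theorem s0_f2870 : ed sl_jf s0_v174 = s0_v174 :=
  gap_rel s0_rot15 (path_edge (s0_f2869 IH) (path_edge (s0_f2867r IH) (path_edge (s0_f2868r IH) (path_nil s0_v174))))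
theorem s0_f2871 : ed sl_dt s0_v174 = s0_v175 :=
  rfl
theorem s0_f2871r : ed sl_df s0_v175 = s0_v174 :=
  edge_flip (s0_f2871 IH)
theorem s0_f2872 : ed sl_df s0_v174 = s0_v175 :=
  gap_rel s0_rot4 (path_edge (s0_f2871r IH) (path_nil s0_v175))
theorem s0_f2873 : ed sl_jf s0_v175 = s0_v175 :=
  gap_rel s0_rot6 (path_edge (s0_f2872 IH) (path_edge (s0_f2870 IH) (path_edge (s0_f2871r IH) (path_nil s0_v175))))
theorem s0_f2874 : ed sl_ft s0_v175 = s0_v176 :=
  rfl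
theorem s0_f2874r : ed sl_ff s0_v176 = s0_v175 :=
  edge_flip (s0_f2874 IH)
theorem s0_f2875 : ed sl_ff s0_v175 = s0_v176 :=
  gap_rel s0_rot22 (path_edge (s0_f2874r IH) (path_nil s0_v176))
theorem s0_f2876 : ed sl_jf s0_v176 = s0_v176 :=
  gap_rel s0_rot23 (path_edge (s0_f2875 IH) (path_edge (s0_f2873 IH) (path_edge (s0_f2874r IH) (path_nil s0_v176))))
theorem s0_f2877 : ed sl_et s0_v176 = s0_v177 :=
  rfl
theorem s0_f2877r : ed sl_ef s0_v177 = s0_v176 :=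
  edge_flip (s0_f2877 IH)
theorem s0_f2878 : ed sl_ef s0_v176 = s0_v177 :=
  gap_rel s0_rot17 (path_edge (s0_f2877r IH) (path_nil s0_v177))
theorem s0_f2879 : ed sl_jf s0_v177 = s0_v177 :=
  gap_rel s0_rot18 (path_edge (s0_f2878 IH) (path_edge (s0_f2876 IH) (path_edge (s0_f2877r IH) (path_nil s0_v177))))
theorem s0_f2880 : ed sl_dt s0_v177 = s0_v178 :=
  rfl
theorem s0_f2880r : ed sl_df s0_v178 = s0_v177 :=
  edge_flip (s0_f2880 IH)
theorem s0_f2881 : ed sl_df s0_v177 = s0_v178 :=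
  gap_rel s0_rot4 (path_edge (s0_f2880r IH) (path_nil s0_v178))
theorem s0_f2882 : ed sl_jf s0_v178 = s0_v178 :=
  gap_rel s0_rot6 (path_edge (s0_f2881 IH) (path_edge (s0_f2879 IH) (path_edge (s0_f2880r IH) (path_nil s0_v178))))
theorem s0_f2883 : ed sl_bt s0_v178 = s0_v179 :=
  rfl
theorem s0_f2883r : ed sl_bf s0_v179 = s0_v178 :=
  edge_flip (s0_f2883 IH)
theorem s0_f2884 : ed sl_bf s0_v178 = s0_v179 :=
  gap_rel s0_rot20 (path_edge (s0_f2883r IH) (path_nil s0_v179))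
theorem s0_f2885 : ed sl_jf s0_v179 = s0_v179 :=
  gap_rel s0_rot21 (path_edge (s0_f2884 IH) (path_edge (s0_f2882 IH) (path_edge (s0_f2883r IH) (path_nil s0_v179))))
theorem s0_f2886 : ed sl_ct s0_v179 = s0_v180 :=
  rfl
theorem s0_f2886r : ed sl_cf s0_v180 = s0_v179 :=
  edge_flip (s0_f2886 IH)
theorem s0_f2887 : ed sl_cf s0_v179 = s0_v180 :=
  gap_rel s0_rot0 (path_edge (s0_f2886r IH) (path_nil s0_v180))
theorem s0_f2888 : ed sl_jf s0_v180 = s0_v180 :=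
  gap_rel s0_rot2 (path_edge (s0_f2887 IH) (path_edge (s0_f2885 IH) (path_edge (s0_f2886r IH) (path_nil s0_v180))))
theorem s0_f2889 : ed sl_dt s0_v180 = s0_v181 :=
  rfl
theorem s0_f2889r : ed sl_df s0_v181 = s0_v180 :=
  edge_flip (s0_f2889 IH)
theorem s0_f2890 : ed sl_df s0_v180 = s0_v181 :=
  gap_rel s0_rot4 (path_edge (s0_f2889r IH) (path_nil s0_v181))
theorem s0_f2891 : ed sl_jf s0_v181 = s0_v181 :=
  gap_rel s0_rot6 (path_edge (s0_f2890 IH) (path_edge (s0_f2888 IH) (path_edge (s0_f2889r IH) (path_nil s0_v181))))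
theorem s0_f2892 : ed sl_it s0_v181 = s0_v182 :=
  rfl
theorem s0_f2892r : ed sl_if s0_v182 = s0_v181 :=
  edge_flip (s0_f2892 IH)
theorem s0_f2893 : ed sl_if s0_v181 = s0_v182 :=
  gap_rel s0_rot9 (path_edge (s0_f2892r IH) (path_nil s0_v182))
theorem s0_f2893r : ed sl_it s0_v182 = s0_v181 :=
  edge_flip (s0_f2893 IH)
theorem s0_f2891r : ed sl_jt s0_v181 = s0_v181 :=
  edge_flip (s0_f2891 IH)
theorem s0_f2894 : ed sl_jt s0_v182 = s0_v182 :=
  gap_rel s0_rot12 (path_edge (s0_f2892 IH) (path_edge (s0_f2891r IH) (path_edge (s0_f2893r IH) (path_nil s0_v182))))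
theorem s0_f2895 : ed sl_ht s0_v182 = s0_v183 :=
  rfl
theorem s0_f2895r : ed sl_hf s0_v183 = s0_v182 :=
  edge_flip (s0_f2895 IH)
theorem s0_f2896 : ed sl_hf s0_v182 = s0_v183 :=
  gap_rel s0_rot13 (path_edge (s0_f2895r IH) (path_nil s0_v183))
theorem s0_f2894r : ed sl_jf s0_v182 = s0_v182 :=
  edge_flip (s0_f2894 IH)
theorem s0_f2897 : ed sl_jf s0_v183 = s0_v183 :=
  gap_rel s0_rot15 (path_edge (s0_f2896 IH) (path_edge (s0_f2894r IH) (path_edge (s0_f2895r IH) (path_nil s0_v183))))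
theorem s0_f2898 : ed sl_dt s0_v183 = s0_v184 :=
  rfl
theorem s0_f2898r : ed sl_df s0_v184 = s0_v183 :=
  edge_flip (s0_f2898 IH)
theorem s0_f2899 : ed sl_df s0_v183 = s0_v184 :=
  gap_rel s0_rot4 (path_edge (s0_f2898r IH) (path_nil s0_v184))
theorem s0_f2900 : ed sl_jf s0_v184 = s0_v184 :=
  gap_rel s0_rot6 (path_edge (s0_f2899 IH) (path_edge (s0_f2897 IH) (path_edge (s0_f2898r IH) (path_nil s0_v184))))
theorem s0_f2901 : ed sl_ft s0_v184 = s0_v185 :=
  rfl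
theorem s0_f2901r : ed sl_ff s0_v185 = s0_v184 :=
  edge_flip (s0_f2901 IH)
theorem s0_f2902 : ed sl_ff s0_v184 = s0_v185 :=
  gap_rel s0_rot22 (path_edge (s0_f2901r IH) (path_nil s0_v185))
theorem s0_f2903 : ed sl_jf s0_v185 = s0_v185 :=
  gap_rel s0_rot23 (path_edge (s0_f2902 IH) (path_edge (s0_f2900 IH) (path_edge (s0_f2901r IH) (path_nil s0_v185))))
theorem s0_f2904 : ed sl_et s0_v185 = s0_v186 :=
  rfl
theorem s0_f2904r : ed sl_ef s0_v186 = s0_v185 :=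
  edge_flip (s0_f2904 IH)
theorem s0_f2905 : ed sl_ef s0_v185 = s0_v186 :=
  gap_rel s0_rot17 (path_edge (s0_f2904r IH) (path_nil s0_v186))
theorem s0_f2906 : ed sl_jf s0_v186 = s0_v186 :=
  gap_rel s0_rot18 (path_edge (s0_f2905 IH) (path_edge (s0_f2903 IH) (path_edge (s0_f2904r IH) (path_nil s0_v186))))
theorem s0_f2907 : ed sl_dt s0_v186 = s0_v187 :=
  rfl
theorem s0_f2907r : ed sl_df s0_v187 = s0_v186 :=
  edge_flip (s0_f2907 IH)
theorem s0_f2908 : ed sl_df s0_v186 = s0_v187 :=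
  gap_rel s0_rot4 (path_edge (s0_f2907r IH) (path_nil s0_v187))
theorem s0_f2909 : ed sl_jf s0_v187 = s0_v187 :=
  gap_rel s0_rot6 (path_edge (s0_f2908 IH) (path_edge (s0_f2906 IH) (path_edge (s0_f2907r IH) (path_nil s0_v187))))
theorem s0_f2910 : ed sl_bt s0_v187 = s0_v188 :=
  rfl
theorem s0_f2910r : ed sl_bf s0_v188 = s0_v187 :=
  edge_flip (s0_f2910 IH)
theorem s0_f2911 : ed sl_bf s0_v187 = s0_v188 :=
  gap_rel s0_rot20 (path_edge (s0_f2910r IH) (path_nil s0_v188))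
theorem s0_f2912 : ed sl_jf s0_v188 = s0_v188 :=
  gap_rel s0_rot21 (path_edge (s0_f2911 IH) (path_edge (s0_f2909 IH) (path_edge (s0_f2910r IH) (path_nil s0_v188))))
theorem s0_f2913 : ed sl_ct s0_v188 = s0_v189 :=
  rfl
theorem s0_f2913r : ed sl_cf s0_v189 = s0_v188 :=
  edge_flip (s0_f2913 IH)
theorem s0_f2914 : ed sl_cf s0_v188 = s0_v189 :=
  gap_rel s0_rot0 (path_edge (s0_f2913r IH) (path_nil s0_v189))
theorem s0_f2915 : ed sl_jf s0_v189 = s0_v189 :=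
  gap_rel s0_rot2 (path_edge (s0_f2914 IH) (path_edge (s0_f2912 IH) (path_edge (s0_f2913r IH) (path_nil s0_v189))))
theorem s0_f2916 : ed sl_dt s0_v189 = s0_v190 :=
  rfl
theorem s0_f2916r : ed sl_df s0_v190 = s0_v189 :=
  edge_flip (s0_f2916 IH)
theorem s0_f2917 : ed sl_df s0_v189 = s0_v190 :=
  gap_rel s0_rot4 (path_edge (s0_f2916r IH) (path_nil s0_v190))
theorem s0_f2918 : ed sl_jf s0_v190 = s0_v190 :=
  gap_rel s0_rot6 (path_edge (s0_f2917 IH) (path_edge (s0_f2915 IH) (path_edge (s0_f2916r IH) (path_nil s0_v190))))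
theorem s0_f2919 : ed sl_it s0_v190 = s0_v191 :=
  rfl
theorem s0_f2919r : ed sl_if s0_v191 = s0_v190 :=
  edge_flip (s0_f2919 IH)
theorem s0_f2920 : ed sl_if s0_v190 = s0_v191 :=
  gap_rel s0_rot9 (path_edge (s0_f2919r IH) (path_nil s0_v191))
theorem s0_f2920r : ed sl_it s0_v191 = s0_v190 :=
  edge_flip (s0_f2920 IH)
theorem s0_f2918r : ed sl_jt s0_v190 = s0_v190 :=
  edge_flip (s0_f2918 IH)
theorem s0_f2921 : ed sl_jt s0_v191 = s0_v191 :=
  gap_rel s0_rot12 (path_edge (s0_f2919 IH) (path_edge (s0_f2918r IH) (path_edge (s0_f2920r IH) (path_nil s0_v191))))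
theorem s0_f2922 : ed sl_ht s0_v191 = s0_v192 :=
  rfl
theorem s0_f2922r : ed sl_hf s0_v192 = s0_v191 :=
  edge_flip (s0_f2922 IH)
theorem s0_f2923 : ed sl_hf s0_v191 = s0_v192 :=
  gap_rel s0_rot13 (path_edge (s0_f2922r IH) (path_nil s0_v192))
theorem s0_f2921r : ed sl_jf s0_v191 = s0_v191 :=
  edge_flip (s0_f2921 IH)
theorem s0_f2924 : ed sl_jf s0_v192 = s0_v192 :=
  gap_rel s0_rot15 (path_edge (s0_f2923 IH) (path_edge (s0_f2921r IH) (path_edge (s0_f2922r IH) (path_nil s0_v192))))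
theorem s0_f2649r : ed sl_df sq7253 = sq5826 :=
  edge_flip (s0_f2649 IH)
theorem s0_f2648r : ed sl_ef sq5826 = sq4615 :=
  edge_flip (s0_f2648 IH)
theorem s0_f2647r : ed sl_ff sq4615 = sq3582 :=
  edge_flip (s0_f2647 IH)
theorem s0_f2646r : ed sl_df sq3582 = sq2716 :=
  edge_flip (s0_f2646 IH)
theorem s0_f2645r : ed sl_hf sq2716 = sq2004 :=
  edge_flip (s0_f2645 IH)
theorem s0_f2644r : ed sl_if sq2004 = sq1469 :=
  edge_flip (s0_f2644 IH)
theorem s0_f2643r : ed sl_df sq1469 = sq1062 :=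
  edge_flip (s0_f2643 IH)
theorem s0_f2642r : ed sl_cf sq1062 = sq758 :=
  edge_flip (s0_f2642 IH)
theorem s0_f2641r : ed sl_bf sq758 = sq577 :=
  edge_flip (s0_f2641 IH)
theorem s0_f2640r : ed sl_df sq577 = sq404 :=
  edge_flip (s0_f2640 IH)
theorem s0_f2639r : ed sl_ef sq404 = sq275 :=
  edge_flip (s0_f2639 IH)
theorem s0_f2638r : ed sl_ff sq275 = sq189 :=
  edge_flip (s0_f2638 IH)
theorem s0_f2637r : ed sl_df sq189 = sq128 :=
  edge_flip (s0_f2637 IH)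
theorem s0_f2636r : ed sl_hf sq128 = sq86 :=
  edge_flip (s0_f2636 IH)
theorem s0_f2635r : ed sl_if sq86 = sq58 :=
  edge_flip (s0_f2635 IH)
theorem s0_f902r : ed sl_df sq58 = sq40 :=
  edge_flip (s0_f902 IH)
theorem s0_f952r : ed sl_cf sq40 = sq29 :=
  edge_flip (s0_f952 IH)
theorem s0_f2634r : ed sl_bf sq29 = sq29 :=
  edge_flip (s0_f2634 IH)
theorem s0_f951r : ed sl_df sq29 = sq29 :=
  edge_flip (s0_f951 IH)
theorem s0_f950r : ed sl_ef sq29 = sq20 :=
  edge_flip (s0_f950 IH)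
theorem s0_f949r : ed sl_ff sq20 = sq20 :=
  edge_flip (s0_f949 IH)
theorem s0_f399r : ed sl_df sq20 = sq15 :=
  edge_flip (s0_f399 IH)
theorem s0_f396r : ed sl_hf sq15 = sq11 :=
  edge_flip (s0_f396 IH)
theorem s0_f1586r : ed sl_if sq11 = sq11 :=
  edge_flip (s0_f1586 IH)
theorem s0_f888r : ed sl_df sq11 = sq11 :=
  edge_flip (s0_f888 IH)
theorem s0_f889r : ed sl_cf sq11 = sq11 :=
  edge_flip (s0_f889 IH)
theorem s0_f890r : ed sl_bf sq11 = sq11 :=
  edge_flip (s0_f890 IH)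
theorem s0_f887r : ed sl_ef sq11 = sq11 :=
  edge_flip (s0_f887 IH)
theorem s0_f886r : ed sl_ff sq11 = sq11 :=
  edge_flip (s0_f886 IH)
theorem s0_f885r : ed sl_hf sq11 = sq15 :=
  edge_flip (s0_f885 IH)
theorem s0_f2631r : ed sl_if sq15 = sq21 :=
  edge_flip (s0_f2631 IH)
theorem s0_f2650r : ed sl_df sq21 = sq30 :=
  edge_flip (s0_f2650 IH)
theorem s0_f319r : ed sl_cf sq30 = sq41 :=
  edge_flip (s0_f319 IH)
theorem s0_f2315r : ed sl_bf sq41 = sq57 :=
  edge_flip (s0_f2315 IH)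
theorem s0_f2313r : ed sl_df sq57 = sq57 :=
  edge_flip (s0_f2313 IH)
theorem s0_f2312r : ed sl_ef sq57 = sq82 :=
  edge_flip (s0_f2312 IH)
theorem s0_f2311r : ed sl_ff sq82 = sq120 :=
  edge_flip (s0_f2311 IH)
theorem s0_f2651r : ed sl_df sq120 = sq171 :=
  edge_flip (s0_f2651 IH)
theorem s0_f2652r : ed sl_hf sq171 = sq253 :=
  edge_flip (s0_f2652 IH)
theorem s0_f2653r : ed sl_if sq253 = sq371 :=
  edge_flip (s0_f2653 IH)
theorem s0_f1915r : ed sl_df sq371 = sq537 :=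
  edge_flip (s0_f1915 IH)
theorem s0_f2654r : ed sl_cf sq537 = sq764 :=
  edge_flip (s0_f2654 IH)
theorem s0_f2655r : ed sl_bf sq764 = sq1072 :=
  edge_flip (s0_f2655 IH)
theorem s0_f2656r : ed sl_df sq1072 = sq1415 :=
  edge_flip (s0_f2656 IH)
theorem s0_f2657r : ed sl_ef sq1415 = sq1932 :=
  edge_flip (s0_f2657 IH)
theorem s0_f2658r : ed sl_ff sq1932 = sq2608 :=
  edge_flip (s0_f2658 IH)
theorem s0_f2659r : ed sl_df sq2608 = sq3447 :=
  edge_flip (s0_f2659 IH)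
theorem s0_f2660r : ed sl_hf sq3447 = sq4428 :=
  edge_flip (s0_f2660 IH)
theorem s0_f2661r : ed sl_if sq4428 = sq5581 :=
  edge_flip (s0_f2661 IH)
theorem s0_f2662r : ed sl_df sq5581 = sq6932 :=
  edge_flip (s0_f2662 IH)
theorem s0_f2663r : ed sl_cf sq6932 = sq8475 :=
  edge_flip (s0_f2663 IH)
theorem s0_f2664r : ed sl_bf sq8475 = sq8475 :=
  edge_flip (s0_f2664 IH)
theorem s0_f2665r : ed sl_df sq8475 = sq10315 :=
  edge_flip (s0_f2665 IH)
theorem s0_f2666r : ed sl_ef sq10315 = sq12400 :=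
  edge_flip (s0_f2666 IH)
theorem s0_f2667r : ed sl_ff sq12400 = sq14635 :=
  edge_flip (s0_f2667 IH)
theorem s0_f2925 : ed sl_df sq14635 = s0_v192 :=
  gap_rel s0_rot58 (path_edge (s0_f2667r IH) (path_edge (s0_f2666r IH) (path_edge (s0_f2665r IH) (path_edge (s0_f2664r IH) (path_edge (s0_f2663r IH) (path_edge (s0_f2662r IH) (path_edge (s0_f2661r IH) (path_edge (s0_f2660r IH) (path_edge (s0_f2659r IH) (path_edge (s0_f2658r IH) (path_edge (s0_f2657r IH) (path_edge (s0_f2656r IH) (path_edge (s0_f2655r IH) (path_edge (s0_f2654r IH) (path_edge (s0_f1915r IH) (path_edge (s0_f2653r IH) (path_edge (s0_f2652r IH) (path_edge (s0_f2651r IH) (path_edge (s0_f2311r IH) (path_edge (s0_f2312r IH) (path_edge (s0_f2313r IH) (path_edge (s0_f2315r IH) (path_edge (s0_f319r IH) (path_edge (s0_f2650r IH) (path_edge (s0_f2631r IH) (path_edge (s0_f885r IH) (path_edge (s0_f888r IH) (path_edge (s0_f886r IH) (path_edge (s0_f887r IH)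 (path_edge (s0_f888r IH) (path_edge (s0_f890r IH) (path_edge (s0_f889r IH) (path_edge (s0_f888r IH) (path_edge (s0_f1586r IH) (path_edge (s0_f396r IH) (path_edge (s0_f399r IH) (path_edge (s0_f949r IH) (path_edge (s0_f950r IH) (path_edge (s0_f951r IH) (path_edge (s0_f2634r IH) (path_edge (s0_f952r IH) (path_edge (s0_f902r IH) (path_edge (s0_f2635r IH) (path_edge (s0_f2636r IH) (path_edge (s0_f2637r IH) (path_edge (s0_f2638r IH) (path_edge (s0_f2639r IH) (path_edge (s0_f2640r IH) (path_edge (s0_f2641r IH) (path_edge (s0_f2642r IH) (path_edge (s0_f2643r IH) (path_edge (s0_f2644r IH) (path_edge (s0_f2645r IH) (path_edge (s0_f2646r IH) (path_edge (s0_f2647r IH) (path_edge (s0_f2648r IH) (path_edge (s0_f2649r IH) (path_edge (s0_f2668r IH) (path_edge (s0_f2790r IH) (path_edge (s0_f2834r IH) (path_edge (s0_f2838r IH) (path_edge (s0_f2842r IH) (path_edge (s0_f2846r IH) (path_edge (s0_f2848 IH) (path_edge (s0_f2850r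 IH) (path_edge (s0_f2853r IH) (path_edge (s0_f2856r IH) (path_edge (s0_f2859r IH) (path_edge (s0_f2862r IH) (path_edge (s0_f2865r IH) (path_edge (s0_f2868r IH) (path_edge (s0_f2871r IH) (path_edge (s0_f2874r IH) (path_edge (s0_f2877r IH) (path_edge (s0_f2880r IH) (path_edge (s0_f2883r IH) (path_edge (s0_f2886r IH) (path_edge (s0_f2889r IH) (path_edge (s0_f2892r IH) (path_edge (s0_f2895r IH) (path_edge (s0_f2898r IH) (path_edge (s0_f2901r IH) (path_edge (s0_f2904r IH) (path_edge (s0_f2907r IH) (path_edge (s0_f2910r IH) (path_edge (s0_f2913r IH) (path_edge (s0_f2916r IH) (path_edge (s0_f2919r IH) (path_edge (s0_f2922r IH) (path_nil s0_v192))))))))))))))))))))))))))))))))))))))))))))))))))))))))))))))))))))))))))))))))))))))))))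
theorem s0_f2925r : ed sl_dt s0_v192 = sq14635 :=
  edge_flip (s0_f2925 IH)
theorem s0_f2929 : ed sl_dt sq14635 = s0_v192 :=
  gap_rel s0_rot59 (path_edge (s0_f2925r IH) (path_nil s0_v192))
theorem s0_f2930 : ed sl_et sq14635 = sq12403 :=
  real_edge rels S fwd inv o lvl plet idx 47 IH Gen.e sp14635 sp12403 rfl rfl
theorem s0_f2931 : ed sl_dt sq12403 = sq12403 :=
  real_edge rels S fwd inv o lvl plet idx 47 IH Gen.d sp12403 sp12403 rfl rfl
theorem s0_f2932 : ed sl_et sq12403 = sq14635 :=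
  real_edge rels S fwd inv o lvl plet idx 47 IH Gen.e sp12403 sp14635 rfl rfl
theorem s0_f2933 : ed sl_et s0_v192 = s0_v192 :=
  gap_rel s0_rot60 (path_edge (s0_f2929 IH) (path_edge (s0_f2932 IH) (path_edge (s0_f2931 IH) (path_edge (s0_f2930 IH) (path_edge (s0_f2925r IH) (path_nil s0_v192))))))
theorem s0_f2935 : ed sl_dt sq12400 = sq14629 :=
  real_edge rels S fwd inv o lvl plet idx 47 IH Gen.d sp12400 sp14629 rfl rfl
theorem s0_f2936 : ed sl_ft sq14629 = s0_v192 :=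
  gap_rel s0_rot55 (path_edge (s0_f2935 IH) (path_edge (s0_f2667 IH) (path_edge (s0_f2925r IH) (path_nil s0_v192))))
theorem s0_f2940 : ed sl_ht sq12399 = sq12399 :=
  real_edge rels S fwd inv o lvl plet idx 47 IH Gen.h sp12399 sp12399 rfl rfl
theorem s0_f2944 : ed sl_bt sq14629 = sq14629 :=
  real_edge rels S fwd inv o lvl plet idx 47 IH Gen.b sp14629 sp14629 rfl rfl
theorem s0_f2945 : ed sl_et sq12394 = sq14629 :=
  real_edge rels S fwd inv o lvl plet idx 47 IH Gen.e sp12394 sp14629 rfl rfl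
theorem s0_f2946 : ed sl_ft sq12394 = sq12394 :=
  real_edge rels S fwd inv o lvl plet idx 47 IH Gen.f sp12394 sp12394 rfl rfl
theorem s0_f2947 : ed sl_et sq14629 = sq12394 :=
  real_edge rels S fwd inv o lvl plet idx 47 IH Gen.e sp14629 sp12394 rfl rfl
theorem s0_f2933r : ed sl_ef s0_v192 = s0_v192 :=
  edge_flip (s0_f2933 IH)
theorem s0_f2936r : ed sl_ff s0_v192 = sq14629 :=
  edge_flip (s0_f2936 IH)
theorem s0_f2945r : ed sl_ef sq14629 = sq12394 :=
  edge_flip (s0_f2945 IH)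
theorem s0_f2946r : ed sl_ff sq12394 = sq12394 :=
  edge_flip (s0_f2946 IH)
theorem s0_f2947r : ed sl_ef sq12394 = sq14629 :=
  edge_flip (s0_f2947 IH)
theorem s0_f2948 : ed sl_ff sq14629 = s0_v192 :=
  gap_rel s0_rot61 (path_edge (s0_f2947r IH) (path_edge (s0_f2946r IH) (path_edge (s0_f2945r IH) (path_edge (s0_f2936r IH) (path_edge (s0_f2933r IH) (path_nil s0_v192))))))
theorem s0_f2950 : ed sl_it sq12393 = sq14629 :=
  real_edge rels S fwd inv o lvl plet idx 47 IH Gen.i sp12393 sp14629 rfl rfl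
theorem s0_f2948r : ed sl_ft s0_v192 = sq14629 :=
  edge_flip (s0_f2948 IH)
theorem s0_f2951 : ed sl_bt s0_v192 = s0_v192 :=
  gap_rel s0_rot62 (path_edge (s0_f2936 IH) (path_edge (s0_f2944 IH) (path_edge (s0_f2948r IH) (path_nil s0_v192))))
theorem s0_f2982 : ed sl_it sq12399 = sq14635 :=
  real_edge rels S fwd inv o lvl plet idx 47 IH Gen.i sp12399 sp14635 rfl rfl
theorem s0_f2983 : ed sl_ct sq22 = sq16 :=
  real_edge rels S fwd inv o lvl plet idx 47 IH Gen.c sp22 sp16 rfl rfl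
theorem s0_f2988 : ed sl_ft sq24 = sq24 :=
  real_edge rels S fwd inv o lvl plet idx 47 IH Gen.f sp24 sp24 rfl rfl
theorem s0_f2989 : ed sl_et sq24 = sq34 :=
  real_edge rels S fwd inv o lvl plet idx 47 IH Gen.e sp24 sp34 rfl rfl
theorem s0_f2990 : ed sl_dt sq34 = sq34 :=
  real_edge rels S fwd inv o lvl plet idx 47 IH Gen.d sp34 sp34 rfl rfl
theorem s0_f2991 : ed sl_bt sq34 = sq26 :=
  real_edge rels S fwd inv o lvl plet idx 47 IH Gen.b sp34 sp26 rfl rfl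
theorem s0_f2992 : ed sl_ct sq26 = sq26 :=
  real_edge rels S fwd inv o lvl plet idx 47 IH Gen.c sp26 sp26 rfl rfl
theorem s0_f2993 : ed sl_it sq26 = sq18 :=
  real_edge rels S fwd inv o lvl plet idx 47 IH Gen.i sp26 sp18 rfl rfl
theorem s0_f2994 : ed sl_ct sq33 = sq46 :=
  real_edge rels S fwd inv o lvl plet idx 47 IH Gen.c sp33 sp46 rfl rfl
theorem s0_f2995 : ed sl_it sq65 = sq98 :=
  real_edge rels S fwd inv o lvl plet idx 47 IH Gen.i sp65 sp98 rfl rfl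
theorem s0_f2996 : ed sl_ht sq98 = sq145 :=
  real_edge rels S fwd inv o lvl plet idx 47 IH Gen.h sp98 sp145 rfl rfl
theorem s0_f2997 : ed sl_ft sq213 = sq147 :=
  real_edge rels S fwd inv o lvl plet idx 47 IH Gen.f sp213 sp147 rfl rfl
theorem s0_f2998 : ed sl_et sq147 = sq216 :=
  real_edge rels S fwd inv o lvl plet idx 47 IH Gen.e sp147 sp216 rfl rfl
theorem s0_f2999 : ed sl_dt sq216 = sq216 :=
  real_edge rels S fwd inv o lvl plet idx 47 IH Gen.d sp216 sp216 rfl rfl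
theorem s0_f3000 : ed sl_bt sq216 = sq216 :=
  real_edge rels S fwd inv o lvl plet idx 47 IH Gen.b sp216 sp216 rfl rfl
theorem s0_f3001 : ed sl_ct sq216 = sq315 :=
  real_edge rels S fwd inv o lvl plet idx 47 IH Gen.c sp216 sp315 rfl rfl
theorem s0_f3002 : ed sl_it sq463 = sq664 :=
  real_edge rels S fwd inv o lvl plet idx 47 IH Gen.i sp463 sp664 rfl rfl
theorem s0_f3003 : ed sl_ht sq664 = sq947 :=
  real_edge rels S fwd inv o lvl plet idx 47 IH Gen.h sp664 sp947 rfl rfl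
theorem s0_f3004 : ed sl_dt sq947 = sq947 :=
  real_edge rels S fwd inv o lvl plet idx 47 IH Gen.d sp947 sp947 rfl rfl
theorem s0_f3005 : ed sl_ft sq947 = sq1326 :=
  real_edge rels S fwd inv o lvl plet idx 47 IH Gen.f sp947 sp1326 rfl rfl
theorem s0_f3006 : ed sl_et sq1326 = sq1826 :=
  real_edge rels S fwd inv o lvl plet idx 47 IH Gen.e sp1326 sp1826 rfl rfl
theorem s0_f3007 : ed sl_bt sq2480 = sq3290 :=
  real_edge rels S fwd inv o lvl plet idx 47 IH Gen.b sp2480 sp3290 rfl rfl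
theorem s0_f3008 : ed sl_et sq31 = sq22 :=
  real_edge rels S fwd inv o lvl plet idx 47 IH Gen.e sp31 sp22 rfl rfl
theorem s0_f3009 : ed sl_ft sq46 = sq31 :=
  real_edge rels S fwd inv o lvl plet idx 47 IH Gen.f sp46 sp31 rfl rfl
theorem s0_f3010 : ed sl_it sq144 = sq97 :=
  real_edge rels S fwd inv o lvl plet idx 47 IH Gen.i sp144 sp97 rfl rfl
theorem s0_f3011 : ed sl_dt sq144 = sq144 :=
  real_edge rels S fwd inv o lvl plet idx 47 IH Gen.d sp144 sp144 rfl rfl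
theorem s0_f3012 : ed sl_ct sq144 = sq144 :=
  real_edge rels S fwd inv o lvl plet idx 47 IH Gen.c sp144 sp144 rfl rfl
theorem s0_f3013 : ed sl_bt sq144 = sq144 :=
  real_edge rels S fwd inv o lvl plet idx 47 IH Gen.b sp144 sp144 rfl rfl
theorem s0_f3014 : ed sl_et sq206 = sq144 :=
  real_edge rels S fwd inv o lvl plet idx 47 IH Gen.e sp206 sp144 rfl rfl
theorem s0_f3015 : ed sl_ft sq206 = sq206 :=
  real_edge rels S fwd inv o lvl plet idx 47 IH Gen.f sp206 sp206 rfl rfl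
theorem s0_f3016 : ed sl_dt sq302 = sq206 :=
  real_edge rels S fwd inv o lvl plet idx 47 IH Gen.d sp302 sp206 rfl rfl
theorem s0_f3017 : ed sl_ct sq3290 = s0_v193 :=
  rfl
theorem s0_f3017r : ed sl_cf s0_v193 = sq3290 :=
  edge_flip (s0_f3017 IH)
theorem s0_f3020 : ed sl_cf sq3290 = s0_v193 :=
  gap_rel s0_rot0 (path_edge (s0_f3017r IH) (path_nil s0_v193))
theorem s0_f867r : ed sl_ff sq3290 = sq3290 :=
  edge_flip (s0_f867 IH)
theorem s0_f3023 : ed sl_ff s0_v193 = s0_v193 :=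
  gap_rel s0_rot1 (path_edge (s0_f3020 IH) (path_edge (s0_f867r IH) (path_edge (s0_f3017r IH) (path_nil s0_v193))))
theorem s0_f3025 : ed sl_jt sq3290 = sq3290 :=
  real_edge rels S fwd inv o lvl plet idx 47 IH Gen.j sp3290 sp3290 rfl rfl
theorem s0_f3025r : ed sl_jf sq3290 = sq3290 :=
  edge_flip (s0_f3025 IH)
theorem s0_f3026 : ed sl_jf s0_v193 = s0_v193 :=
  gap_rel s0_rot2 (path_edge (s0_f3020 IH) (path_edge (s0_f3025r IH) (path_edge (s0_f3017r IH) (path_nil s0_v193))))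
theorem s0_f3027 : ed sl_it sq3290 = sq3290 :=
  real_edge rels S fwd inv o lvl plet idx 47 IH Gen.i sp3290 sp3290 rfl rfl
theorem s0_f3027r : ed sl_if sq3290 = sq3290 :=
  edge_flip (s0_f3027 IH)
theorem s0_f3028 : ed sl_if s0_v193 = s0_v193 :=
  gap_rel s0_rot40 (path_edge (s0_f3020 IH) (path_edge (s0_f3027r IH) (path_edge (s0_f3017r IH) (path_nil s0_v193))))
theorem s0_f3049 : ed sl_ft sq212 = sq146 :=
  real_edge rels S fwd inv o lvl plet idx 47 IH Gen.f sp212 sp146 rfl rfl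
theorem s0_f3050 : ed sl_et sq146 = sq146 :=
  real_edge rels S fwd inv o lvl plet idx 47 IH Gen.e sp146 sp146 rfl rfl
theorem s0_f3051 : ed sl_dt sq146 = sq214 :=
  real_edge rels S fwd inv o lvl plet idx 47 IH Gen.d sp146 sp214 rfl rfl
theorem s0_f3053 : ed sl_ct sq214 = sq312 :=
  real_edge rels S fwd inv o lvl plet idx 47 IH Gen.c sp214 sp312 rfl rfl
theorem s0_f3065 : ed sl_dt s0_v193 = s0_v194 :=
  rfl
theorem s0_f3065r : ed sl_df s0_v194 = s0_v193 :=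
  edge_flip (s0_f3065 IH)
theorem s0_f3066 : ed sl_df s0_v193 = s0_v194 :=
  gap_rel s0_rot4 (path_edge (s0_f3065r IH) (path_nil s0_v194))
theorem s0_f3067 : ed sl_ff s0_v194 = s0_v194 :=
  gap_rel s0_rot5 (path_edge (s0_f3066 IH) (path_edge (s0_f3023 IH) (path_edge (s0_f3065r IH) (path_nil s0_v194))))
theorem s0_f3068 : ed sl_jf s0_v194 = s0_v194 :=
  gap_rel s0_rot6 (path_edge (s0_f3066 IH) (path_edge (s0_f3026 IH) (path_edge (s0_f3065r IH) (path_nil s0_v194))))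
theorem s0_f3069 : ed sl_if s0_v194 = s0_v194 :=
  gap_rel s0_rot33 (path_edge (s0_f3066 IH) (path_edge (s0_f3028 IH) (path_edge (s0_f3065r IH) (path_nil s0_v194))))
theorem s0_f3070 : ed sl_ht s0_v194 = s0_v195 :=
  rfl
theorem s0_f3070r : ed sl_hf s0_v195 = s0_v194 :=
  edge_flip (s0_f3070 IH)
theorem s0_f3071 : ed sl_hf s0_v194 = s0_v195 :=
  gap_rel s0_rot13 (path_edge (s0_f3070r IH) (path_nil s0_v195))
theorem s0_f3072 : ed sl_ff s0_v195 = s0_v195 :=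
  gap_rel s0_rot14 (path_edge (s0_f3071 IH) (path_edge (s0_f3067 IH) (path_edge (s0_f3070r IH) (path_nil s0_v195))))
theorem s0_f3073 : ed sl_jf s0_v195 = s0_v195 :=
  gap_rel s0_rot15 (path_edge (s0_f3071 IH) (path_edge (s0_f3068 IH) (path_edge (s0_f3070r IH) (path_nil s0_v195))))
theorem s0_f3074 : ed sl_dt s0_v195 = s0_v196 :=
  rfl
theorem s0_f3074r : ed sl_df s0_v196 = s0_v195 :=
  edge_flip (s0_f3074 IH)
theorem s0_f3075 : ed sl_df s0_v195 = s0_v196 :=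
  gap_rel s0_rot4 (path_edge (s0_f3074r IH) (path_nil s0_v196))
theorem s0_f3076 : ed sl_ff s0_v196 = s0_v196 :=
  gap_rel s0_rot5 (path_edge (s0_f3075 IH) (path_edge (s0_f3072 IH) (path_edge (s0_f3074r IH) (path_nil s0_v196))))
theorem s0_f3077 : ed sl_jf s0_v196 = s0_v196 :=
  gap_rel s0_rot6 (path_edge (s0_f3075 IH) (path_edge (s0_f3073 IH) (path_edge (s0_f3074r IH) (path_nil s0_v196))))
theorem s0_f3078 : ed sl_et s0_v196 = s0_v197 :=
  rfl
theorem s0_f3078r : ed sl_ef s0_v197 = s0_v196 :=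
  edge_flip (s0_f3078 IH)
theorem s0_f3079 : ed sl_ef s0_v196 = s0_v197 :=
  gap_rel s0_rot17 (path_edge (s0_f3078r IH) (path_nil s0_v197))
theorem s0_f3080 : ed sl_jf s0_v197 = s0_v197 :=
  gap_rel s0_rot18 (path_edge (s0_f3079 IH) (path_edge (s0_f3077 IH) (path_edge (s0_f3078r IH) (path_nil s0_v197))))
theorem s0_f3081 : ed sl_dt s0_v197 = s0_v198 :=
  rfl
theorem s0_f3081r : ed sl_df s0_v198 = s0_v197 :=
  edge_flip (s0_f3081 IH)
theorem s0_f3082 : ed sl_df s0_v197 = s0_v198 :=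
  gap_rel s0_rot4 (path_edge (s0_f3081r IH) (path_nil s0_v198))
theorem s0_f3083 : ed sl_jf s0_v198 = s0_v198 :=
  gap_rel s0_rot6 (path_edge (s0_f3082 IH) (path_edge (s0_f3080 IH) (path_edge (s0_f3081r IH) (path_nil s0_v198))))
theorem s0_f3084 : ed sl_bt s0_v198 = s0_v199 :=
  rfl
theorem s0_f3084r : ed sl_bf s0_v199 = s0_v198 :=
  edge_flip (s0_f3084 IH)
theorem s0_f3085 : ed sl_bf s0_v198 = s0_v199 :=
  gap_rel s0_rot20 (path_edge (s0_f3084r IH) (path_nil s0_v199))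
theorem s0_f3086 : ed sl_jf s0_v199 = s0_v199 :=
  gap_rel s0_rot21 (path_edge (s0_f3085 IH) (path_edge (s0_f3083 IH) (path_edge (s0_f3084r IH) (path_nil s0_v199))))
theorem s0_f3087 : ed sl_ct s0_v199 = s0_v200 :=
  rfl
theorem s0_f3087r : ed sl_cf s0_v200 = s0_v199 :=
  edge_flip (s0_f3087 IH)
theorem s0_f3088 : ed sl_cf s0_v199 = s0_v200 :=
  gap_rel s0_rot0 (path_edge (s0_f3087r IH) (path_nil s0_v200))
theorem s0_f3089 : ed sl_jf s0_v200 = s0_v200 :=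
  gap_rel s0_rot2 (path_edge (s0_f3088 IH) (path_edge (s0_f3086 IH) (path_edge (s0_f3087r IH) (path_nil s0_v200))))
theorem s0_f3090 : ed sl_dt s0_v200 = s0_v201 :=
  rfl
theorem s0_f3090r : ed sl_df s0_v201 = s0_v200 :=
  edge_flip (s0_f3090 IH)
theorem s0_f3091 : ed sl_df s0_v200 = s0_v201 :=
  gap_rel s0_rot4 (path_edge (s0_f3090r IH) (path_nil s0_v201))
theorem s0_f3092 : ed sl_jf s0_v201 = s0_v201 :=
  gap_rel s0_rot6 (path_edge (s0_f3091 IH) (path_edge (s0_f3089 IH) (path_edge (s0_f3090r IH) (path_nil s0_v201))))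
theorem s0_f3093 : ed sl_it s0_v201 = s0_v202 :=
  rfl
theorem s0_f3093r : ed sl_if s0_v202 = s0_v201 :=
  edge_flip (s0_f3093 IH)
theorem s0_f3094 : ed sl_if s0_v201 = s0_v202 :=
  gap_rel s0_rot9 (path_edge (s0_f3093r IH) (path_nil s0_v202))
theorem s0_f3094r : ed sl_it s0_v202 = s0_v201 :=
  edge_flip (s0_f3094 IH)
theorem s0_f3092r : ed sl_jt s0_v201 = s0_v201 :=
  edge_flip (s0_f3092 IH)
theorem s0_f3095 : ed sl_jt s0_v202 = s0_v202 :=
  gap_rel s0_rot12 (path_edge (s0_f3093 IH) (path_edge (s0_f3092r IH) (path_edge (s0_f3094r IH) (path_nil s0_v202))))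
theorem s0_f3096 : ed sl_ht s0_v202 = s0_v203 :=
  rfl
theorem s0_f3096r : ed sl_hf s0_v203 = s0_v202 :=
  edge_flip (s0_f3096 IH)
theorem s0_f3097 : ed sl_hf s0_v202 = s0_v203 :=
  gap_rel s0_rot13 (path_edge (s0_f3096r IH) (path_nil s0_v203))
theorem s0_f3095r : ed sl_jf s0_v202 = s0_v202 :=
  edge_flip (s0_f3095 IH)
theorem s0_f3098 : ed sl_jf s0_v203 = s0_v203 :=
  gap_rel s0_rot15 (path_edge (s0_f3097 IH) (path_edge (s0_f3095r IH) (path_edge (s0_f3096r IH) (path_nil s0_v203))))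
theorem s0_f3099 : ed sl_dt s0_v203 = s0_v204 :=
  rfl
theorem s0_f3099r : ed sl_df s0_v204 = s0_v203 :=
  edge_flip (s0_f3099 IH)
theorem s0_f3100 : ed sl_df s0_v203 = s0_v204 :=
  gap_rel s0_rot4 (path_edge (s0_f3099r IH) (path_nil s0_v204))
theorem s0_f3101 : ed sl_jf s0_v204 = s0_v204 :=
  gap_rel s0_rot6 (path_edge (s0_f3100 IH) (path_edge (s0_f3098 IH) (path_edge (s0_f3099r IH) (path_nil s0_v204))))
theorem s0_f3102 : ed sl_ft s0_v204 = s0_v205 :=
  rfl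
theorem s0_f3102r : ed sl_ff s0_v205 = s0_v204 :=
  edge_flip (s0_f3102 IH)
theorem s0_f3103 : ed sl_ff s0_v204 = s0_v205 :=
  gap_rel s0_rot22 (path_edge (s0_f3102r IH) (path_nil s0_v205))
theorem s0_f3104 : ed sl_jf s0_v205 = s0_v205 :=
  gap_rel s0_rot23 (path_edge (s0_f3103 IH) (path_edge (s0_f3101 IH) (path_edge (s0_f3102r IH) (path_nil s0_v205))))
theorem s0_f3105 : ed sl_et s0_v205 = s0_v206 :=
  rfl
theorem s0_f3105r : ed sl_ef s0_v206 = s0_v205 :=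
  edge_flip (s0_f3105 IH)
theorem s0_f3106 : ed sl_ef s0_v205 = s0_v206 :=
  gap_rel s0_rot17 (path_edge (s0_f3105r IH) (path_nil s0_v206))
theorem s0_f3107 : ed sl_jf s0_v206 = s0_v206 :=
  gap_rel s0_rot18 (path_edge (s0_f3106 IH) (path_edge (s0_f3104 IH) (path_edge (s0_f3105r IH) (path_nil s0_v206))))
theorem s0_f3108 : ed sl_dt s0_v206 = s0_v207 :=
  rfl
theorem s0_f3108r : ed sl_df s0_v207 = s0_v206 :=
  edge_flip (s0_f3108 IH)
theorem s0_f3109 : ed sl_df s0_v206 = s0_v207 :=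
  gap_rel s0_rot4 (path_edge (s0_f3108r IH) (path_nil s0_v207))
theorem s0_f3110 : ed sl_jf s0_v207 = s0_v207 :=
  gap_rel s0_rot6 (path_edge (s0_f3109 IH) (path_edge (s0_f3107 IH) (path_edge (s0_f3108r IH) (path_nil s0_v207))))
theorem s0_f3111 : ed sl_bt s0_v207 = s0_v208 :=
  rfl
theorem s0_f3111r : ed sl_bf s0_v208 = s0_v207 :=
  edge_flip (s0_f3111 IH)
theorem s0_f3112 : ed sl_bf s0_v207 = s0_v208 :=
  gap_rel s0_rot20 (path_edge (s0_f3111r IH) (path_nil s0_v208))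
theorem s0_f3113 : ed sl_jf s0_v208 = s0_v208 :=
  gap_rel s0_rot21 (path_edge (s0_f3112 IH) (path_edge (s0_f3110 IH) (path_edge (s0_f3111r IH) (path_nil s0_v208))))
theorem s0_f3114 : ed sl_ct s0_v208 = s0_v209 :=
  rfl
theorem s0_f3114r : ed sl_cf s0_v209 = s0_v208 :=
  edge_flip (s0_f3114 IH)
theorem s0_f3115 : ed sl_cf s0_v208 = s0_v209 :=
  gap_rel s0_rot0 (path_edge (s0_f3114r IH) (path_nil s0_v209))
theorem s0_f3116 : ed sl_jf s0_v209 = s0_v209 :=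
  gap_rel s0_rot2 (path_edge (s0_f3115 IH) (path_edge (s0_f3113 IH) (path_edge (s0_f3114r IH) (path_nil s0_v209))))
theorem s0_f3117 : ed sl_dt s0_v209 = s0_v210 :=
  rfl
theorem s0_f3117r : ed sl_df s0_v210 = s0_v209 :=
  edge_flip (s0_f3117 IH)
theorem s0_f3118 : ed sl_df s0_v209 = s0_v210 :=
  gap_rel s0_rot4 (path_edge (s0_f3117r IH) (path_nil s0_v210))
theorem s0_f3119 : ed sl_jf s0_v210 = s0_v210 :=
  gap_rel s0_rot6 (path_edge (s0_f3118 IH) (path_edge (s0_f3116 IH) (path_edge (s0_f3117r IH) (path_nil s0_v210))))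
theorem s0_f3120 : ed sl_it s0_v210 = s0_v211 :=
  rfl
theorem s0_f3120r : ed sl_if s0_v211 = s0_v210 :=
  edge_flip (s0_f3120 IH)
theorem s0_f3121 : ed sl_if s0_v210 = s0_v211 :=
  gap_rel s0_rot9 (path_edge (s0_f3120r IH) (path_nil s0_v211))
theorem s0_f3121r : ed sl_it s0_v211 = s0_v210 :=
  edge_flip (s0_f3121 IH)
theorem s0_f3119r : ed sl_jt s0_v210 = s0_v210 :=
  edge_flip (s0_f3119 IH)
theorem s0_f3122 : ed sl_jt s0_v211 = s0_v211 :=
  gap_rel s0_rot12 (path_edge (s0_f3120 IH) (path_edge (s0_f3119r IH) (path_edge (s0_f3121r IH) (path_nil s0_v211))))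
theorem s0_f3123 : ed sl_ht s0_v211 = s0_v212 :=
  rfl
theorem s0_f3123r : ed sl_hf s0_v212 = s0_v211 :=
  edge_flip (s0_f3123 IH)
theorem s0_f3124 : ed sl_hf s0_v211 = s0_v212 :=
  gap_rel s0_rot13 (path_edge (s0_f3123r IH) (path_nil s0_v212))
theorem s0_f3122r : ed sl_jf s0_v211 = s0_v211 :=
  edge_flip (s0_f3122 IH)
theorem s0_f3125 : ed sl_jf s0_v212 = s0_v212 :=
  gap_rel s0_rot15 (path_edge (s0_f3124 IH) (path_edge (s0_f3122r IH) (path_edge (s0_f3123r IH) (path_nil s0_v212))))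
theorem s0_f3126 : ed sl_dt s0_v212 = s0_v213 :=
  rfl
theorem s0_f3126r : ed sl_df s0_v213 = s0_v212 :=
  edge_flip (s0_f3126 IH)
theorem s0_f3127 : ed sl_df s0_v212 = s0_v213 :=
  gap_rel s0_rot4 (path_edge (s0_f3126r IH) (path_nil s0_v213))
theorem s0_f3128 : ed sl_jf s0_v213 = s0_v213 :=
  gap_rel s0_rot6 (path_edge (s0_f3127 IH) (path_edge (s0_f3125 IH) (path_edge (s0_f3126r IH) (path_nil s0_v213))))
theorem s0_f3129 : ed sl_ft s0_v213 = s0_v214 :=
  rfl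
theorem s0_f3129r : ed sl_ff s0_v214 = s0_v213 :=
  edge_flip (s0_f3129 IH)
theorem s0_f3130 : ed sl_ff s0_v213 = s0_v214 :=
  gap_rel s0_rot22 (path_edge (s0_f3129r IH) (path_nil s0_v214))
theorem s0_f3131 : ed sl_jf s0_v214 = s0_v214 :=
  gap_rel s0_rot23 (path_edge (s0_f3130 IH) (path_edge (s0_f3128 IH) (path_edge (s0_f3129r IH) (path_nil s0_v214))))
theorem s0_f3132 : ed sl_et s0_v214 = s0_v215 :=
  rfl
theorem s0_f3132r : ed sl_ef s0_v215 = s0_v214 :=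
  edge_flip (s0_f3132 IH)
theorem s0_f3133 : ed sl_ef s0_v214 = s0_v215 :=
  gap_rel s0_rot17 (path_edge (s0_f3132r IH) (path_nil s0_v215))
theorem s0_f3134 : ed sl_jf s0_v215 = s0_v215 :=
  gap_rel s0_rot18 (path_edge (s0_f3133 IH) (path_edge (s0_f3131 IH) (path_edge (s0_f3132r IH) (path_nil s0_v215))))
theorem s0_f3135 : ed sl_dt s0_v215 = s0_v216 :=
  rfl
theorem s0_f3135r : ed sl_df s0_v216 = s0_v215 :=
  edge_flip (s0_f3135 IH)
theorem s0_f3136 : ed sl_df s0_v215 = s0_v216 :=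
  gap_rel s0_rot4 (path_edge (s0_f3135r IH) (path_nil s0_v216))
theorem s0_f3137 : ed sl_jf s0_v216 = s0_v216 :=
  gap_rel s0_rot6 (path_edge (s0_f3136 IH) (path_edge (s0_f3134 IH) (path_edge (s0_f3135r IH) (path_nil s0_v216))))
theorem s0_f3138 : ed sl_bt s0_v216 = s0_v217 :=
  rfl
theorem s0_f3138r : ed sl_bf s0_v217 = s0_v216 :=
  edge_flip (s0_f3138 IH)
theorem s0_f3139 : ed sl_bf s0_v216 = s0_v217 :=
  gap_rel s0_rot20 (path_edge (s0_f3138r IH) (path_nil s0_v217))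
theorem s0_f3140 : ed sl_jf s0_v217 = s0_v217 :=
  gap_rel s0_rot21 (path_edge (s0_f3139 IH) (path_edge (s0_f3137 IH) (path_edge (s0_f3138r IH) (path_nil s0_v217))))
theorem s0_f3141 : ed sl_ct s0_v217 = s0_v218 :=
  rfl
theorem s0_f3141r : ed sl_cf s0_v218 = s0_v217 :=
  edge_flip (s0_f3141 IH)
theorem s0_f3142 : ed sl_cf s0_v217 = s0_v218 :=
  gap_rel s0_rot0 (path_edge (s0_f3141r IH) (path_nil s0_v218))
theorem s0_f3143 : ed sl_jf s0_v218 = s0_v218 :=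
  gap_rel s0_rot2 (path_edge (s0_f3142 IH) (path_edge (s0_f3140 IH) (path_edge (s0_f3141r IH) (path_nil s0_v218))))
theorem s0_f3144 : ed sl_dt s0_v218 = s0_v219 :=
  rfl
theorem s0_f3144r : ed sl_df s0_v219 = s0_v218 :=
  edge_flip (s0_f3144 IH)
theorem s0_f3145 : ed sl_df s0_v218 = s0_v219 :=
  gap_rel s0_rot4 (path_edge (s0_f3144r IH) (path_nil s0_v219))
theorem s0_f3146 : ed sl_jf s0_v219 = s0_v219 :=
  gap_rel s0_rot6 (path_edge (s0_f3145 IH) (path_edge (s0_f3143 IH) (path_edge (s0_f3144r IH) (path_nil s0_v219))))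
theorem s0_f3147 : ed sl_it s0_v219 = s0_v220 :=
  rfl
theorem s0_f3147r : ed sl_if s0_v220 = s0_v219 :=
  edge_flip (s0_f3147 IH)
theorem s0_f3148 : ed sl_if s0_v219 = s0_v220 :=
  gap_rel s0_rot9 (path_edge (s0_f3147r IH) (path_nil s0_v220))
theorem s0_f3148r : ed sl_it s0_v220 = s0_v219 :=
  edge_flip (s0_f3148 IH)
theorem s0_f3146r : ed sl_jt s0_v219 = s0_v219 :=
  edge_flip (s0_f3146 IH)
theorem s0_f3149 : ed sl_jt s0_v220 = s0_v220 :=
  gap_rel s0_rot12 (path_edge (s0_f3147 IH) (path_edge (s0_f3146r IH) (path_edge (s0_f3148r IH) (path_nil s0_v220))))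
theorem s0_f3150 : ed sl_ht s0_v220 = s0_v221 :=
  rfl
theorem s0_f3150r : ed sl_hf s0_v221 = s0_v220 :=
  edge_flip (s0_f3150 IH)
theorem s0_f3151 : ed sl_hf s0_v220 = s0_v221 :=
  gap_rel s0_rot13 (path_edge (s0_f3150r IH) (path_nil s0_v221))
theorem s0_f3149r : ed sl_jf s0_v220 = s0_v220 :=
  edge_flip (s0_f3149 IH)
theorem s0_f3152 : ed sl_jf s0_v221 = s0_v221 :=
  gap_rel s0_rot15 (path_edge (s0_f3151 IH) (path_edge (s0_f3149r IH) (path_edge (s0_f3150r IH) (path_nil s0_v221))))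
theorem s0_f3153 : ed sl_dt s0_v221 = s0_v222 :=
  rfl
theorem s0_f3153r : ed sl_df s0_v222 = s0_v221 :=
  edge_flip (s0_f3153 IH)
theorem s0_f3154 : ed sl_df s0_v221 = s0_v222 :=
  gap_rel s0_rot4 (path_edge (s0_f3153r IH) (path_nil s0_v222))
theorem s0_f3155 : ed sl_jf s0_v222 = s0_v222 :=
  gap_rel s0_rot6 (path_edge (s0_f3154 IH) (path_edge (s0_f3152 IH) (path_edge (s0_f3153r IH) (path_nil s0_v222))))
theorem s0_f3156 : ed sl_ft s0_v222 = s0_v223 :=
  rfl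
theorem s0_f3156r : ed sl_ff s0_v223 = s0_v222 :=
  edge_flip (s0_f3156 IH)
theorem s0_f3157 : ed sl_ff s0_v222 = s0_v223 :=
  gap_rel s0_rot22 (path_edge (s0_f3156r IH) (path_nil s0_v223))
theorem s0_f3158 : ed sl_jf s0_v223 = s0_v223 :=
  gap_rel s0_rot23 (path_edge (s0_f3157 IH) (path_edge (s0_f3155 IH) (path_edge (s0_f3156r IH) (path_nil s0_v223))))
theorem s0_f3159 : ed sl_et s0_v223 = s0_v224 :=
  rfl
theorem s0_f3159r : ed sl_ef s0_v224 = s0_v223 :=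
  edge_flip (s0_f3159 IH)
theorem s0_f3160 : ed sl_ef s0_v223 = s0_v224 :=
  gap_rel s0_rot17 (path_edge (s0_f3159r IH) (path_nil s0_v224))
theorem s0_f3161 : ed sl_jf s0_v224 = s0_v224 :=
  gap_rel s0_rot18 (path_edge (s0_f3160 IH) (path_edge (s0_f3158 IH) (path_edge (s0_f3159r IH) (path_nil s0_v224))))
theorem s0_f3162 : ed sl_dt s0_v224 = s0_v225 :=
  rfl
theorem s0_f3162r : ed sl_df s0_v225 = s0_v224 :=
  edge_flip (s0_f3162 IH)
theorem s0_f3163 : ed sl_df s0_v224 = s0_v225 :=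
  gap_rel s0_rot4 (path_edge (s0_f3162r IH) (path_nil s0_v225))
theorem s0_f3165 : ed sl_bt s0_v225 = s0_v226 :=
  rfl
theorem s0_f3165r : ed sl_bf s0_v226 = s0_v225 :=
  edge_flip (s0_f3165 IH)
theorem s0_f3166 : ed sl_bf s0_v225 = s0_v226 :=
  gap_rel s0_rot20 (path_edge (s0_f3165r IH) (path_nil s0_v226))
theorem s0_f3007r : ed sl_bf sq3290 = sq2480 :=
  edge_flip (s0_f3007 IH)
theorem s0_f862r : ed sl_df sq2480 = sq1826 :=
  edge_flip (s0_f862 IH)
theorem s0_f3006r : ed sl_ef sq1826 = sq1326 :=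
  edge_flip (s0_f3006 IH)
theorem s0_f3005r : ed sl_ff sq1326 = sq947 :=
  edge_flip (s0_f3005 IH)
theorem s0_f3004r : ed sl_df sq947 = sq947 :=
  edge_flip (s0_f3004 IH)
theorem s0_f3003r : ed sl_hf sq947 = sq664 :=
  edge_flip (s0_f3003 IH)
theorem s0_f3002r : ed sl_if sq664 = sq463 :=
  edge_flip (s0_f3002 IH)
theorem s0_f3001r : ed sl_cf sq315 = sq216 :=
  edge_flip (s0_f3001 IH)
theorem s0_f3000r : ed sl_bf sq216 = sq216 :=
  edge_flip (s0_f3000 IH)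
theorem s0_f2999r : ed sl_df sq216 = sq216 :=
  edge_flip (s0_f2999 IH)
theorem s0_f2998r : ed sl_ef sq216 = sq147 :=
  edge_flip (s0_f2998 IH)
theorem s0_f2997r : ed sl_ff sq147 = sq213 :=
  edge_flip (s0_f2997 IH)
theorem s0_f1126r : ed sl_df sq213 = sq145 :=
  edge_flip (s0_f1126 IH)
theorem s0_f2996r : ed sl_hf sq145 = sq98 :=
  edge_flip (s0_f2996 IH)
theorem s0_f2995r : ed sl_if sq98 = sq65 :=
  edge_flip (s0_f2995 IH)
theorem s0_f2354r : ed sl_df sq65 = sq46 :=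
  edge_flip (s0_f2354 IH)
theorem s0_f2994r : ed sl_cf sq46 = sq33 :=
  edge_flip (s0_f2994 IH)
theorem s0_f988r : ed sl_bf sq33 = sq25 :=
  edge_flip (s0_f988 IH)
theorem s0_f986r : ed sl_df sq25 = sq25 :=
  edge_flip (s0_f986 IH)
theorem s0_f985r : ed sl_ef sq25 = sq25 :=
  edge_flip (s0_f985 IH)
theorem s0_f984r : ed sl_ff sq25 = sq18 :=
  edge_flip (s0_f984 IH)
theorem s0_f51r : ed sl_df sq18 = sq18 :=
  edge_flip (s0_f51 IH)
theorem s0_f983r : ed sl_hf sq18 = sq18 :=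
  edge_flip (s0_f983 IH)
theorem s0_f2993r : ed sl_if sq18 = sq26 :=
  edge_flip (s0_f2993 IH)
theorem s0_f2992r : ed sl_cf sq26 = sq26 :=
  edge_flip (s0_f2992 IH)
theorem s0_f2991r : ed sl_bf sq26 = sq34 :=
  edge_flip (s0_f2991 IH)
theorem s0_f2990r : ed sl_df sq34 = sq34 :=
  edge_flip (s0_f2990 IH)
theorem s0_f2989r : ed sl_ef sq34 = sq24 :=
  edge_flip (s0_f2989 IH)
theorem s0_f2988r : ed sl_ff sq24 = sq24 :=
  edge_flip (s0_f2988 IH)
theorem s0_f1589r : ed sl_hf sq17 = sq17 :=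
  edge_flip (s0_f1589 IH)
theorem s0_f1588r : ed sl_if sq17 = sq12 :=
  edge_flip (s0_f1588 IH)
theorem s0_f2983r : ed sl_cf sq16 = sq22 :=
  edge_flip (s0_f2983 IH)
theorem s0_f897r : ed sl_bf sq22 = sq22 :=
  edge_flip (s0_f897 IH)
theorem s0_f3008r : ed sl_ef sq22 = sq31 :=
  edge_flip (s0_f3008 IH)
theorem s0_f3009r : ed sl_ff sq31 = sq46 :=
  edge_flip (s0_f3009 IH)
theorem s0_f420r : ed sl_df sq46 = sq65 :=
  edge_flip (s0_f420 IH)
theorem s0_f976r : ed sl_hf sq65 = sq97 :=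
  edge_flip (s0_f976 IH)
theorem s0_f3010r : ed sl_if sq97 = sq144 :=
  edge_flip (s0_f3010 IH)
theorem s0_f3011r : ed sl_df sq144 = sq144 :=
  edge_flip (s0_f3011 IH)
theorem s0_f3012r : ed sl_cf sq144 = sq144 :=
  edge_flip (s0_f3012 IH)
theorem s0_f3013r : ed sl_bf sq144 = sq144 :=
  edge_flip (s0_f3013 IH)
theorem s0_f3014r : ed sl_ef sq144 = sq206 :=
  edge_flip (s0_f3014 IH)
theorem s0_f3015r : ed sl_ff sq206 = sq206 :=
  edge_flip (s0_f3015 IH)
theorem s0_f3016r : ed sl_df sq206 = sq302 :=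
  edge_flip (s0_f3016 IH)
theorem s0_f2036r : ed sl_if sq444 = sq444 :=
  edge_flip (s0_f2036 IH)
theorem s0_f674r : ed sl_df sq444 = sq640 :=
  edge_flip (s0_f674 IH)
theorem s0_f3168 : ed sl_cf sq640 = s0_v226 :=
  gap_rel s0_rot63 (path_edge (s0_f674r IH) (path_edge (s0_f2036r IH) (path_edge (s0_f1994r IH) (path_edge (s0_f3016r IH) (path_edge (s0_f3015r IH) (path_edge (s0_f3014r IH) (path_edge (s0_f3011r IH) (path_edge (s0_f3013r IH) (path_edge (s0_f3012r IH) (path_edge (s0_f3011r IH) (path_edge (s0_f3010r IH) (path_edge (s0_f976r IH) (path_edge (s0_f420r IH) (path_edge (s0_f3009r IH) (path_edge (s0_f3008r IH) (path_edge (s0_f1006r IH) (path_edge (s0_f897r IH) (path_edge (s0_f2983r IH) (path_edge (s0_f930r IH) (path_edge (s0_f1588r IH) (path_edge (s0_f1589r IH) (path_edge (s0_f1609r IH) (path_edge (s0_f2988r IH) (path_edge (s0_f2989r IH) (path_edge (s0_f2990r IH) (path_edge (s0_f2991r IH) (path_edge (s0_f2992r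 IH) (path_edge (s0_f1965r IH) (path_edge (s0_f2993r IH) (path_edge (s0_f983r IH) (path_edge (s0_f51r IH) (path_edge (s0_f984r IH) (path_edge (s0_f985r IH) (path_edge (s0_f986r IH) (path_edge (s0_f988r IH) (path_edge (s0_f2994r IH) (path_edge (s0_f2354r IH) (path_edge (s0_f2995r IH) (path_edge (s0_f2996r IH) (path_edge (s0_f1126r IH) (path_edge (s0_f2997r IH) (path_edge (s0_f2998r IH) (path_edge (s0_f2999r IH) (path_edge (s0_f3000r IH) (path_edge (s0_f3001r IH) (path_edge (s0_f1018r IH) (path_edge (s0_f3002r IH) (path_edge (s0_f3003r IH) (path_edge (s0_f3004r IH) (path_edge (s0_f3005r IH) (path_edge (s0_f3006r IH) (path_edge (s0_f862r IH) (path_edge (s0_f3007r IH) (path_edge (s0_f3017r IH) (path_edge (s0_f3065r IH) (path_edge (s0_f3069 IH) (path_edge (s0_f3070r IH) (path_edge (s0_f3074r IH) (path_edge (s0_f3076 IH) (path_edge (s0_f3078r IH) (path_edge (s0_f3081r IH) (path_edge (s0_f3084r IH) (path_edge (s0_f3087r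 IH) (path_edge (s0_f3090r IH) (path_edge (s0_f3093r IH) (path_edge (s0_f3096r IH) (path_edge (s0_f3099r IH) (path_edge (s0_f3102r IH) (path_edge (s0_f3105r IH) (path_edge (s0_f3108r IH) (path_edge (s0_f3111r IH) (path_edge (s0_f3114r IH) (path_edge (s0_f3117r IH) (path_edge (s0_f3120r IH) (path_edge (s0_f3123r IH) (path_edge (s0_f3126r IH) (path_edge (s0_f3129r IH) (path_edge (s0_f3132r IH) (path_edge (s0_f3135r IH) (path_edge (s0_f3138r IH) (path_edge (s0_f3141r IH) (path_edge (s0_f3144r IH) (path_edge (s0_f3147r IH) (path_edge (s0_f3150r IH) (path_edge (s0_f3153r IH) (path_edge (s0_f3156r IH) (path_edge (s0_f3159r IH) (path_edge (s0_f3162r IH) (path_edge (s0_f3165r IH) (path_nil s0_v226))))))))))))))))))))))))))))))))))))))))))))))))))))))))))))))))))))))))))))))))))))))))))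
theorem s0_f3168r : ed sl_ct s0_v226 = sq640 :=
  edge_flip (s0_f3168 IH)
theorem s0_f3170 : ed sl_ct sq640 = s0_v226 :=
  gap_rel s0_rot64 (path_edge (s0_f3168r IH) (path_nil s0_v226))
theorem s0_f3172 : ed sl_ht sq641 = s0_v226 :=
  gap_rel s0_rot65 (path_edge (s0_f1301 IH) (path_edge (s0_f2069 IH) (path_edge (s0_f3168r IH) (path_nil s0_v226))))
theorem s0_f3177 : ed sl_it s0_v226 = s0_v226 :=
  gap_rel s0_rot66 (path_edge (s0_f3170 IH) (path_edge (s0_f2068 IH) (path_edge (s0_f3168r IH) (path_nil s0_v226))))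
theorem s0_f3178 : ed sl_ht sq818 = sq575 :=
  real_edge rels S fwd inv o lvl plet idx 47 IH Gen.h sp818 sp575 rfl rfl
theorem s0_f3177r : ed sl_if s0_v226 = s0_v226 :=
  edge_flip (s0_f3177 IH)
theorem s0_f3190 : ed sl_if s0_v225 = s0_v225 :=
  gap_rel s0_rot38 (path_edge (s0_f3165r IH) (path_edge (s0_f3177r IH) (path_edge (s0_f3166 IH) (path_nil s0_v225))))
theorem s0_f3172r : ed sl_hf s0_v226 = sq641 :=
  edge_flip (s0_f3172 IH)
theorem s0_f1552r : ed sl_if sq641 = sq446 :=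
  edge_flip (s0_f1552 IH)
theorem s0_f1529r : ed sl_hf sq446 = sq446 :=
  edge_flip (s0_f1529 IH)
theorem s0_f1309r : ed sl_if sq446 = sq641 :=
  edge_flip (s0_f1309 IH)
theorem s0_f3191 : ed sl_hf sq641 = s0_v226 :=
  gap_rel s0_rot67 (path_edge (s0_f1309r IH) (path_edge (s0_f1529r IH) (path_edge (s0_f1552r IH) (path_edge (s0_f3172r IH) (path_edge (s0_f3177r IH) (path_nil s0_v226))))))
theorem s0_f3191r : ed sl_ht s0_v226 = sq641 :=
  edge_flip (s0_f3191 IH)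
theorem s0_f3192 : ed sl_ht s0_v88 = s0_v225 :=
  gap_rel s0_rot56 (path_edge (s0_f1299 IH) (path_edge (s0_f3191r IH) (path_edge (s0_f3165 IH) (path_nil s0_v225))))
theorem s0_f3192r : ed sl_hf s0_v225 = s0_v88 :=
  edge_flip (s0_f3192 IH)
theorem s0_f3193 : ed sl_hf s0_v88 = s0_v225 :=
  gap_rel s0_rot13 (path_edge (s0_f3192r IH) (path_nil s0_v225))
theorem s0_f1306r : ed sl_ff s0_v88 = s0_v88 :=
  edge_flip (s0_f1306 IH)
theorem s0_f3194 : ed sl_ff s0_v225 = s0_v225 :=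
  gap_rel s0_rot14 (path_edge (s0_f3193 IH) (path_edge (s0_f1306r IH) (path_edge (s0_f3192r IH) (path_nil s0_v225))))
theorem s0_f3194r : ed sl_ft s0_v225 = s0_v225 :=
  edge_flip (s0_f3194 IH)
theorem s0_f3163r : ed sl_dt s0_v225 = s0_v224 :=
  edge_flip (s0_f3163 IH)
theorem s0_f3195 : ed sl_ft s0_v224 = s0_v224 :=
  gap_rel s0_rot55 (path_edge (s0_f3163r IH) (path_edge (s0_f3194r IH) (path_edge (s0_f3162 IH) (path_nil s0_v224))))
theorem s0_f3193r : ed sl_ht s0_v225 = s0_v88 :=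
  edge_flip (s0_f3193 IH)
theorem s0_f3197 : ed sl_ct s0_v225 = s0_v225 :=
  gap_rel s0_rot68 (path_edge (s0_f3192 IH) (path_edge (s0_f1302 IH) (path_edge (s0_f3193r IH) (path_nil s0_v225))))
theorem s0_f3198 : ed sl_ht s0_v224 = s0_v224 :=
  gap_rel s0_rot69 (path_edge (s0_f3163r IH) (path_edge (s0_f3192 IH) (path_edge (s0_f1293 IH) (path_eq (s0_f1312 IH).symm (path_edge (s0_f3193r IH) (path_edge (s0_f3162 IH) (path_nil s0_v224)))))))
theorem s0_f3190r : ed sl_it s0_v225 = s0_v225 :=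
  edge_flip (s0_f3190 IH)
theorem s0_f3203 : ed sl_it s0_v224 = s0_v224 :=
  gap_rel s0_rot70 (path_edge (s0_f3163r IH) (path_edge (s0_f3190r IH) (path_edge (s0_f3162 IH) (path_nil s0_v224))))
theorem s0_f3210 : ed sl_ct sq1464 = sq1149 :=
  real_edge rels S fwd inv o lvl plet idx 47 IH Gen.c sp1464 sp1149 rfl rfl
theorem s0_f3222 : ed sl_dt sq54 = sq78 :=
  real_edge rels S fwd inv o lvl plet idx 47 IH Gen.d sp54 sp78 rfl rfl
theorem s0_f3244 : ed sl_ct sq530 = sq530 :=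
  real_edge rels S fwd inv o lvl plet idx 47 IH Gen.c sp530 sp530 rfl rfl
theorem s0_f3266 : ed sl_bt sq20 = sq20 :=
  real_edge rels S fwd inv o lvl plet idx 47 IH Gen.b sp20 sp20 rfl rfl
theorem s0_f3274 : ed sl_ht sq29 = sq29 :=
  real_edge rels S fwd inv o lvl plet idx 47 IH Gen.h sp29 sp29 rfl rfl
theorem s0_f3275 : ed sl_ft sq29 = sq42 :=
  real_edge rels S fwd inv o lvl plet idx 47 IH Gen.f sp29 sp42 rfl rfl
theorem s0_f3276 : ed sl_et sq42 = sq42 :=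
  real_edge rels S fwd inv o lvl plet idx 47 IH Gen.e sp42 sp42 rfl rfl
theorem s0_f3277 : ed sl_dt sq42 = sq42 :=
  real_edge rels S fwd inv o lvl plet idx 47 IH Gen.d sp42 sp42 rfl rfl
theorem s0_f3278 : ed sl_ct sq42 = sq59 :=
  real_edge rels S fwd inv o lvl plet idx 47 IH Gen.c sp42 sp59 rfl rfl
theorem s0_f3279 : ed sl_bt sq59 = sq81 :=
  real_edge rels S fwd inv o lvl plet idx 47 IH Gen.b sp59 sp81 rfl rfl
theorem s0_f3284 : ed sl_dt sq39 = sq39 :=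
  real_edge rels S fwd inv o lvl plet idx 47 IH Gen.d sp39 sp39 rfl rfl
theorem s0_f3285 : ed sl_ct sq39 = sq39 :=
  real_edge rels S fwd inv o lvl plet idx 47 IH Gen.c sp39 sp39 rfl rfl
theorem s0_f3307 : ed sl_ht sq247 = sq168 :=
  real_edge rels S fwd inv o lvl plet idx 47 IH Gen.h sp247 sp168 rfl rfl
theorem s0_f3308 : ed sl_ft sq168 = sq168 :=
  real_edge rels S fwd inv o lvl plet idx 47 IH Gen.f sp168 sp168 rfl rfl

end

end

end Cfsg.Agent.Helper28.S1689
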