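import Cfsg.Agent.Lib.Helper28.S1689.Seeds9

set_option autoImplicit false
set_option maxRecDepth 100000
set_option linter.all false

namespace Cfsg.Agent.Helper28.S1689

open Cfsg.Agent.Helper28
open Cfsg.Spor.Fi23 (Gen)

noncomputable section

section
variable (IH : ∀ y q, lvl y q < 47 → EntryOK rels S fwd inv o plet idx y q)
include IH

theorem s0_f59071r : ed sl_df s0_v5179 = s0_v2089 :=
  edge_flip (s0_f59071 IH)
theorem s0_f59073 : s0_v2087 = s0_v5179 :=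
  (loop_rel s0_rot36 (path_edge (s0_f25190r IH) (path_edge (s0_f25193r IH) (path_edge (s0_f59071r IH) (path_edge (s0_f53517r IH) (path_nil s0_v5179)))))).symm
theorem s0_f25188r : ed sl_et s0_v2087 = s0_v2086 :=
  edge_flip (s0_f25188 IH)
theorem s0_f59075 : s0_v5180 = s0_v2086 :=
  edge_fun (edge_congr (s0_f53487 IH) (s0_f59073 IH).symm) (s0_f25188r IH)
theorem s0_f53501r : ed sl_ft s0_v5180 = s0_v3760 :=
  edge_flip (s0_f53501 IH)
theorem s0_f25185r : ed sl_ft s0_v2086 = s0_v2085 :=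
  edge_flip (s0_f25185 IH)
theorem s0_f59076 : s0_v3760 = s0_v2085 :=
  edge_fun (edge_congr (s0_f53501r IH) (s0_f59075 IH)) (s0_f25185r IH)
theorem s0_f25182r : ed sl_dt s0_v2085 = s0_v2084 :=
  edge_flip (s0_f25182 IH)
theorem s0_f59077 : s0_v3761 = s0_v2084 :=
  edge_fun (edge_congr (s0_f39741 IH) (s0_f59076 IH)) (s0_f25182r IH)
theorem s0_f25179r : ed sl_ht s0_v2084 = s0_v2083 :=
  edge_flip (s0_f25179 IH)
theorem s0_f59078 : sq3699 = s0_v2083 :=
  edge_fun (edge_congr (s0_f39756r IH) (s0_f59077 IH)) (s0_f25179r IH)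
theorem s0_f25176r : ed sl_it s0_v2083 = s0_v2082 :=
  edge_flip (s0_f25176 IH)
theorem s0_f59079 : s0_v2082 = sq2804 :=
  edge_fun (edge_congr (s0_f25176r IH) (s0_f59078 IH).symm) (s0_f10310 IH)
theorem s0_f25173r : ed sl_dt s0_v2082 = s0_v2081 :=
  edge_flip (s0_f25173 IH)
theorem s0_f59083 : s0_v2081 = sq3718 :=
  edge_fun (edge_congr (s0_f25173r IH) (s0_f59079 IH)) (s0_f27324 IH)
theorem s0_f25170r : ed sl_ct s0_v2081 = s0_v2080 :=
  edge_flip (s0_f25170 IH)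
theorem s0_f59087 : s0_v2080 = sq4758 :=
  edge_fun (edge_congr (s0_f25170r IH) (s0_f59083 IH)) (s0_f27325 IH)
theorem s0_f25167r : ed sl_bt s0_v2080 = s0_v2079 :=
  edge_flip (s0_f25167 IH)
theorem s0_f59092 : s0_v2079 = sq5858 :=
  edge_fun (edge_congr (s0_f25167r IH) (s0_f59087 IH)) (s0_f27326 IH)
theorem s0_f25164r : ed sl_dt s0_v2079 = s0_v2078 :=
  edge_flip (s0_f25164 IH)
theorem s0_f59096 : s0_v2078 = sq4638 :=
  edge_fun (edge_congr (s0_f25164r IH) (s0_f59092 IH)) (s0_f22123 IH)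
theorem s0_f25161r : ed sl_et s0_v2078 = s0_v2077 :=
  edge_flip (s0_f25161 IH)
theorem s0_f59100 : s0_v2077 = sq3598 :=
  edge_fun (edge_congr (s0_f25161r IH) (s0_f59096 IH)) (s0_f1647 IH)
theorem s0_f25158r : ed sl_ft s0_v2077 = s0_v2076 :=
  edge_flip (s0_f25158 IH)
theorem s0_f59104 : s0_v2076 = sq2721 :=
  edge_fun (edge_congr (s0_f25158r IH) (s0_f59100 IH)) (s0_f6509 IH)
theorem s0_f25155r : ed sl_dt s0_v2076 = s0_v2075 :=
  edge_flip (s0_f25155 IH)
theorem s0_f59108 : s0_v2075 = sq2196 :=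
  edge_fun (edge_congr (s0_f25155r IH) (s0_f59104 IH)) (s0_f34030 IH)
theorem s0_f25152r : ed sl_ht s0_v2075 = s0_v2074 :=
  edge_flip (s0_f25152 IH)
theorem s0_f59109 : s0_v2074 = sq2974 :=
  edge_fun (edge_congr (s0_f25152r IH) (s0_f59108 IH)) (s0_f8133 IH)
theorem s0_f25149r : ed sl_it s0_v2074 = s0_v2073 :=
  edge_flip (s0_f25149 IH)
theorem s0_f59110 : s0_v2073 = s0_v4911 :=
  edge_fun (edge_congr (s0_f25149r IH) (s0_f59109 IH)) (s0_f51482 IH)
theorem s0_f51450r : ed sl_dt s0_v4911 = s0_v4910 :=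
  edge_flip (s0_f51450 IH)
theorem s0_f25146r : ed sl_dt s0_v2073 = s0_v2072 :=
  edge_flip (s0_f25146 IH)
theorem s0_f59111 : s0_v4910 = s0_v2072 :=
  edge_fun (edge_congr (s0_f51450r IH) (s0_f59110 IH).symm) (s0_f25146r IH)
theorem s0_f51509r : ed sl_ct s0_v4910 = s0_v4910 :=
  edge_flip (s0_f51509 IH)
theorem s0_f25143r : ed sl_ct s0_v2072 = s0_v2071 :=
  edge_flip (s0_f25143 IH)
theorem s0_f59112 : s0_v4910 = s0_v2071 :=
  edge_fun (edge_congr (s0_f51509r IH) (s0_f59111 IH)) (s0_f25143r IH)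
theorem s0_f51508r : ed sl_bt s0_v4910 = s0_v547 :=
  edge_flip (s0_f51508 IH)
theorem s0_f25140r : ed sl_bt s0_v2071 = s0_v2070 :=
  edge_flip (s0_f25140 IH)
theorem s0_f59113 : s0_v547 = s0_v2070 :=
  edge_fun (edge_congr (s0_f51508r IH) (s0_f59112 IH)) (s0_f25140r IH)
theorem s0_f25137r : ed sl_dt s0_v2070 = s0_v2069 :=
  edge_flip (s0_f25137 IH)
theorem s0_f59114 : s0_v2069 = s0_v4912 :=
  edge_fun (edge_congr (s0_f25137r IH) (s0_f59113 IH).symm) (s0_f51483 IH)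
theorem s0_f51491r : ed sl_et s0_v4912 = s0_v4912 :=
  edge_flip (s0_f51491 IH)
theorem s0_f25134r : ed sl_et s0_v2069 = s0_v2068 :=
  edge_flip (s0_f25134 IH)
theorem s0_f59115 : s0_v4912 = s0_v2068 :=
  edge_fun (edge_congr (s0_f51491r IH) (s0_f59114 IH).symm) (s0_f25134r IH)
theorem s0_f51475r : ed sl_ft s0_v4912 = s0_v544 :=
  edge_flip (s0_f51475 IH)
theorem s0_f25131r : ed sl_ft s0_v2068 = s0_v2067 :=
  edge_flip (s0_f25131 IH)
theorem s0_f59116 : s0_v544 = s0_v2067 :=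
  edge_fun (edge_congr (s0_f51475r IH) (s0_f59115 IH)) (s0_f25131r IH)
theorem s0_f25128r : ed sl_dt s0_v2067 = s0_v2066 :=
  edge_flip (s0_f25128 IH)
theorem s0_f7443r : ed sl_dt s0_v544 = s0_v240 :=
  edge_flip (s0_f7443 IH)
theorem s0_f59117 : s0_v2066 = s0_v240 :=
  edge_fun (edge_congr (s0_f25128r IH) (s0_f59116 IH).symm) (s0_f7443r IH)
theorem s0_f25125r : ed sl_ht s0_v2066 = s0_v2065 :=
  edge_flip (s0_f25125 IH)
theorem s0_f59118 : s0_v2065 = s0_v241 :=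
  edge_fun (edge_congr (s0_f25125r IH) (s0_f59117 IH)) (s0_f3547 IH)
theorem s0_f3531r : ed sl_if sq6041 = sq4763 :=
  edge_flip (s0_f3531 IH)
theorem s0_f3530r : ed sl_hf sq4763 = sq4029 :=
  edge_flip (s0_f3530 IH)
theorem s0_f59120 : ed sl_hf s0_v2064 = sq6041 :=
  gap_rel s0_rot67 (path_edge (s0_f25121r IH) (path_eq (s0_f59118 IH).symm (path_edge (s0_f3548 IH) (path_edge (s0_f3525 IH) (path_edge (s0_f3530r IH) (path_edge (s0_f3531r IH) (path_nil sq6041)))))))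
theorem s0_f59120r : ed sl_ht sq6041 = s0_v2064 :=
  edge_flip (s0_f59120 IH)
theorem s0_f25119r : ed sl_dt s0_v2064 = s0_v2063 :=
  edge_flip (s0_f25119 IH)
theorem s0_f59122 : ed sl_ht s0_v2063 = sq7494 :=
  gap_rel s0_rot69 (path_edge (s0_f25119r IH) (path_edge (s0_f59120r IH) (path_edge (s0_f9683 IH) (path_edge (s0_f9684 IH) (path_edge (s0_f10961 IH) (path_nil sq7494))))))
theorem s0_f59123 : ed sl_ht s0_v2064 = sq6041 :=
  gap_rel s0_rot44 (path_edge (s0_f59120r IH) (path_nil sq6041))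
theorem s0_f10960r : ed sl_df sq7494 = sq5998 :=
  edge_flip (s0_f10960 IH)
theorem s0_f10973r : ed sl_hf sq5998 = sq4764 :=
  edge_flip (s0_f10973 IH)
theorem s0_f10680r : ed sl_df sq4764 = sq6041 :=
  edge_flip (s0_f10680 IH)
theorem s0_f59123r : ed sl_hf sq6041 = s0_v2064 :=
  edge_flip (s0_f59123 IH)
theorem s0_f59136 : ed sl_hf s0_v2063 = sq7494 :=
  gap_rel s0_rot32 (path_edge (s0_f25118r IH) (path_edge (s0_f59123r IH) (path_edge (s0_f10680r IH) (path_edge (s0_f10973r IH) (path_edge (s0_f10960r IH) (path_nil sq7494))))))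
theorem s0_f59136r : ed sl_ht sq7494 = s0_v2063 :=
  edge_flip (s0_f59136 IH)
theorem s0_f25116r : ed sl_ct s0_v2063 = s0_v2062 :=
  edge_flip (s0_f25116 IH)
theorem s0_f59138 : s0_v2062 = s0_v2063 :=
  (loop_rel s0_rot68 (path_edge (s0_f25116r IH) (path_edge (s0_f59136r IH) (path_edge (s0_f10979 IH) (path_edge (s0_f59122 IH) (path_nil s0_v2063)))))).symm
theorem s0_f59140 : ed sl_hf s0_v2051 = s0_v2061 :=
  gap_rel s0_rot37 (path_edge (s0_f24967 IH) (path_edge (s0_f59136 IH) (path_eq (s0_f59138 IH) (path_edge (s0_f25113 IH) (path_nil s0_v2061)))))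
theorem s0_f59140r : ed sl_ht s0_v2061 = s0_v2051 :=
  edge_flip (s0_f59140 IH)
theorem s0_f59143 : s0_v1999 = s0_v2060 :=
  (loop_rel s0_rot69 (path_edge (s0_f24331 IH) (path_edge (s0_f11493 IH) (path_edge (s0_f10955 IH) (path_edge (s0_f24963r IH) (path_edge (s0_f59140r IH) (path_edge (s0_f25109 IH) (path_nil s0_v2060)))))))).symm
theorem s0_f25107r : ed sl_et s0_v2060 = s0_v2059 :=
  edge_flip (s0_f25107 IH)
theorem s0_f59144 : s0_v2059 = s0_v2000 :=
  edge_fun (edge_congr (s0_f25107r IH) (s0_f59143 IH).symm) (s0_f24356 IH)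
theorem s0_f24361r : ed sl_hf s0_v2000 = sq8942 :=
  edge_flip (s0_f24361 IH)
theorem s0_f59145 : ed sl_hf sq10860 = s0_v2058 :=
  gap_rel s0_rot111 (path_edge (s0_f12864r IH) (path_edge (s0_f24361r IH) (path_eq (s0_f59144 IH) (path_edge (s0_f25104 IH) (path_nil s0_v2058)))))
theorem s0_f59145r : ed sl_ht s0_v2058 = sq10860 :=
  edge_flip (s0_f59145 IH)
theorem s0_f59149 : ed sl_ht sq10860 = s0_v2058 :=
  gap_rel s0_rot44 (path_edge (s0_f59145r IH) (path_nil s0_v2058))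
theorem s0_f59149r : ed sl_hf s0_v2058 = sq10860 :=
  edge_flip (s0_f59149 IH)
theorem s0_f59152 : ed sl_df sq15262 = s0_v2056 :=
  gap_rel s0_rot115 (path_edge (s0_f12866r IH) (path_edge (s0_f12865r IH) (path_edge (s0_f59149r IH) (path_edge (s0_f25101 IH) (path_edge (s0_f25098 IH) (path_nil s0_v2056))))))
theorem s0_f59152r : ed sl_dt s0_v2056 = sq15262 :=
  edge_flip (s0_f59152 IH)
theorem s0_f59169 : s0_v921 = s0_v2055 :=
  (loop_rel s0_rot91 (path_edge (s0_f13004 IH) (path_edge (s0_f13029 IH) (path_edge (s0_f59152r IH) (path_edge (s0_f25094 IH) (path_nil s0_v2055)))))).symm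
theorem s0_f25092r : ed sl_dt s0_v2055 = s0_v2054 :=
  edge_flip (s0_f25092 IH)
theorem s0_f59170 : s0_v2054 = sq17429 :=
  edge_fun (edge_congr (s0_f25092r IH) (s0_f59169 IH).symm) (s0_f13002r IH)
theorem s0_f13029r : ed sl_if sq17429 = sq15262 :=
  edge_flip (s0_f13029 IH)
theorem s0_f53612r : ed sl_cf sq15262 = sq17477 :=
  edge_flip (s0_f53612 IH)
theorem s0_f59171 : ed sl_if sq17477 = s0_v2053 :=
  gap_rel s0_rot40 (path_edge (s0_f53612r IH) (path_edge (s0_f13029r IH) (path_eq (s0_f59170 IH) (path_edge (s0_f25089 IH) (path_nil s0_v2053)))))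
theorem s0_f59171r : ed sl_it s0_v2053 = sq17477 :=
  edge_flip (s0_f59171 IH)
theorem s0_f59176 : ed sl_it sq19525 = sq20335 :=
  gap_rel s0_rot70 (path_edge (s0_f17344 IH) (path_edge (s0_f59171r IH) (path_edge (s0_f25053 IH) (path_nil sq20335))))
theorem s0_f59177 : ed sl_it sq19525 = sq20335 :=
  edge_of_path (path_edge (s0_f59176 IH) (path_nil sq19525))

end

end

end Cfsg.Agent.Helper28.S1689
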